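import Cfsg.Agent.EqBase
import Cfsg.Agent.LibCharIndA
import Cfsg.Agent.LibInd2
/-!
# Rank one groups of 2x2 matrices: Borel subgroup and induced characters (helper26)
-/
set_option autoImplicit false
set_option linter.unusedSectionVars false

open scoped ComplexConjugate
open Cfsg

namespace CfsgLib.G2A

open CfsgLib.CharBasic CfsgLib.CharIndA

universe u v

/-- A group of 2x2 matrices with root elements, a Weyl element and its Borel subgroup. -/
structure Frame (F : Type v) [Field F] (G : Type u) [Group G] where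
  mat : G →* Matrix (Fin 2) (Fin 2) F
  inj : Function.Injective mat
  u : F → G
  mat_u : ∀ c, mat (u c) = !![1, c; 0, 1]
  w : G
  ε : F
  ε_ne : ε ≠ 0
  mat_w : mat w = !![0, 1; ε, 0]
  B : Subgroup G
  mem_B : ∀ g, g ∈ B ↔ mat g 1 0 = 0

variable {F : Type v} [Field F] {G : Type u} [Group G] (fr : Frame F G)

namespace Frame

theorem mat_mul_apply (g h : G) (i j : Fin 2) :
    fr.mat (g * h) i j = fr.mat g i 0 * fr.mat h 0 j + fr.mat g i 1 * fr.mat h 1 j := by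
  rw [map_mul, Matrix.mul_apply, Fin.sum_univ_two]

theorem mat_inv_mul (g : G) : fr.mat g⁻¹ * fr.mat g = 1 := by
  rw [← map_mul, inv_mul_cancel, map_one]

theorem mat_mul_inv (g : G) : fr.mat g * fr.mat g⁻¹ = 1 := by
  rw [← map_mul, mul_inv_cancel, map_one]

theorem det_ne (g : G) : (fr.mat g).det ≠ 0 := by
  intro h
  have := congrArg Matrix.det (fr.mat_mul_inv g)
  rw [Matrix.det_mul, h, zero_mul, Matrix.det_one] at this
  exact zero_ne_one this

/-- the entries of the inverse -/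
theorem mat_inv (g : G) : (fr.mat g).det • fr.mat g⁻¹ = !![fr.mat g 1 1, - fr.mat g 0 1; - fr.mat g 1 0, fr.mat g 0 0] := by
  have h1 : (fr.mat g).adjugate = !![fr.mat g 1 1, - fr.mat g 0 1; - fr.mat g 1 0, fr.mat g 0 0] :=
    Matrix.adjugate_fin_two _
  rw [← h1]
  have h2 : (fr.mat g).adjugate * (fr.mat g * fr.mat g⁻¹) = (fr.mat g).adjugate := by
    rw [fr.mat_mul_inv, mul_one]
  rw [← mul_assoc, Matrix.adjugate_mul, Matrix.smul_mul, one_mul] at h2
  exact h2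

theorem B_00 {b : G} (hb : b ∈ fr.B) : fr.mat b 0 0 ≠ 0 := by
  intro h
  apply fr.det_ne b
  rw [Matrix.det_fin_two, h, (fr.mem_B b).mp hb]; ring

theorem B_11 {b : G} (hb : b ∈ fr.B) : fr.mat b 1 1 ≠ 0 := by
  intro h
  apply fr.det_ne b
  rw [Matrix.det_fin_two, h, (fr.mem_B b).mp hb]; ring

theorem B_mul_00 {a b : G} (hb : b ∈ fr.B) : fr.mat (a * b) 0 0 = fr.mat a 0 0 * fr.mat b 0 0 := by
  rw [fr.mat_mul_apply, (fr.mem_B b).mp hb, mul_zero, add_zero]

theorem B_mul_11 {a b : G} (ha : a ∈ fr.B) : fr.mat (a * b) 1 1 = fr.mat a 1 1 * fr.mat b 1 1 := by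
  rw [fr.mat_mul_apply, (fr.mem_B a).mp ha, zero_mul, zero_add]

theorem B_inv_00 {b : G} (hb : b ∈ fr.B) : fr.mat b⁻¹ 0 0 * fr.mat b 0 0 = 1 := by
  rw [← fr.B_mul_00 hb, inv_mul_cancel, map_one, Matrix.one_apply_eq]

theorem B_inv_11 {b : G} (hb : b ∈ fr.B) : fr.mat b⁻¹ 1 1 * fr.mat b 1 1 = 1 := by
  rw [← fr.B_mul_11 (inv_mem hb), inv_mul_cancel, map_one, Matrix.one_apply_eq]

/-- conjugation by `B` keeps the diagonal of elements of `B` -/
theorem conj_00 {b y : G} (hb : b ∈ fr.B) (hy : y ∈ fr.B) : fr.mat (b⁻¹ * y * b) 0 0 = fr.mat y 0 0 := by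
  rw [fr.B_mul_00 hb, fr.B_mul_00 hy]
  linear_combination (fr.mat y 0 0) * fr.B_inv_00 hb

theorem conj_11 {b y : G} (hb : b ∈ fr.B) (hy : y ∈ fr.B) : fr.mat (b⁻¹ * y * b) 1 1 = fr.mat y 1 1 := by
  rw [fr.B_mul_11 (mul_mem (inv_mem hb) hy), fr.B_mul_11 (inv_mem hb)]
  linear_combination (fr.mat y 1 1) * fr.B_inv_11 hb

theorem u_mem (c : F) : fr.u c ∈ fr.B := by
  rw [fr.mem_B, fr.mat_u]; rfl

theorem u_add (c d : F) : fr.u (c + d) = fr.u c * fr.u d := by
  apply fr.inj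
  rw [map_mul, fr.mat_u, fr.mat_u, fr.mat_u]
  ext i j
  fin_cases i <;> fin_cases j <;> simp [Matrix.mul_apply, Fin.sum_univ_two]
  ring

theorem u_zero : fr.u 0 = 1 := by
  apply fr.inj
  rw [map_one, fr.mat_u]
  ext i j
  fin_cases i <;> fin_cases j <;> simp

theorem u_neg (c : F) : fr.u (-c) = (fr.u c)⁻¹ := by
  rw [eq_inv_iff_mul_eq_one, ← fr.u_add, neg_add_cancel, fr.u_zero]

theorem u_inj {c d : F} (h : fr.u c = fr.u d) : c = d := by
  have := congrArg (fun g => fr.mat g 0 1) h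
  simp only [fr.mat_u] at this
  simpa using this

theorem mat_w_inv : fr.mat fr.w⁻¹ = !![0, fr.ε⁻¹; 1, 0] := by
  have h1 : fr.mat fr.w * !![0, fr.ε⁻¹; 1, 0] = 1 := by
    rw [fr.mat_w]
    ext i j
    fin_cases i <;> fin_cases j <;> simp [Matrix.mul_apply, Fin.sum_univ_two, fr.ε_ne]
  calc fr.mat fr.w⁻¹ = fr.mat fr.w⁻¹ * (fr.mat fr.w * !![0, fr.ε⁻¹; 1, 0]) := by rw [h1, mul_one]
    _ = _ := by rw [← mul_assoc, fr.mat_inv_mul, one_mul]

theorem w_not_mem : fr.w ∉ fr.B := by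
  rw [fr.mem_B, fr.mat_w]
  simpa using fr.ε_ne

/-- representatives of the cosets of the Borel subgroup -/
def rep (fr : Frame F G) : Option F → G
  | none => 1
  | some c => fr.u c * fr.w

/-- `r⁻¹ g r` for `r = u(c) w`. -/
theorem mat_conj_rep (g : G) (c : F) :
    fr.mat ((fr.u c * fr.w)⁻¹ * g * (fr.u c * fr.w)) =
      !![fr.mat g 1 1 + c * fr.mat g 1 0, fr.ε⁻¹ * fr.mat g 1 0;
        fr.ε * (fr.mat g 0 1 + c * (fr.mat g 0 0 - fr.mat g 1 1) - c ^ 2 * fr.mat g 1 0), fr.mat g 0 0 - c * fr.mat g 1 0] := by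
  rw [mul_inv_rev, ← fr.u_neg, map_mul, map_mul, map_mul, map_mul, fr.mat_u, fr.mat_u, fr.mat_w, fr.mat_w_inv]
  have e : fr.mat g = !![fr.mat g 0 0, fr.mat g 0 1; fr.mat g 1 0, fr.mat g 1 1] := by
    ext i j
    fin_cases i <;> fin_cases j <;> simp
  generalize fr.mat g 0 0 = p at *
  generalize fr.mat g 0 1 = q at *
  generalize fr.mat g 1 0 = r at *
  generalize fr.mat g 1 1 = s at *
  rw [e]
  have := fr.ε_ne
  ext i j
  fin_cases i <;> fin_cases j <;> simp [Matrix.mul_apply, Fin.sum_univ_two]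
  · field_simp
    ring
  · ring
  · ring

theorem bruhat_bijective : Function.Bijective (fun x : Option F × fr.B => fr.rep x.1 * (x.2 : G)) := by
  constructor
  · rintro ⟨o, b⟩ ⟨o', b'⟩ h
    simp only at h
    rcases o with _ | c <;> rcases o' with _ | c'
    · simp only [rep, one_mul] at h
      rw [Subtype.ext h]
    · exfalso
      simp only [rep, one_mul] at h
      apply fr.w_not_mem
      have : fr.w = (fr.u c')⁻¹ * (b : G) * (b' : G)⁻¹ := by rw [h]; group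
      rw [this]
      exact mul_mem (mul_mem (inv_mem (fr.u_mem _)) b.2) (inv_mem b'.2)
    · exfalso
      simp only [rep, one_mul] at h
      apply fr.w_not_mem
      have : fr.w = (fr.u c)⁻¹ * (b' : G) * (b : G)⁻¹ := by rw [← h]; group
      rw [this]
      exact mul_mem (mul_mem (inv_mem (fr.u_mem _)) b'.2) (inv_mem b.2)
    · simp only [rep] at h
      have h1 : (fr.u 0 * fr.w)⁻¹ * fr.u (c - c') * (fr.u 0 * fr.w) = (b' : G) * (b : G)⁻¹ := by
        rw [fr.u_zero, one_mul, sub_eq_neg_add, fr.u_add, fr.u_neg]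
        calc fr.w⁻¹ * ((fr.u c')⁻¹ * fr.u c) * fr.w = fr.w⁻¹ * (fr.u c')⁻¹ * (fr.u c * fr.w * b) * (b : G)⁻¹ := by group
          _ = _ := by rw [h]; group
      have h2 : (b' : G) * (b : G)⁻¹ ∈ fr.B := mul_mem b'.2 (inv_mem b.2)
      rw [← h1, fr.mem_B, fr.mat_conj_rep] at h2
      simp only [fr.mat_u] at h2
      simp [fr.ε_ne] at h2
      have hc : c = c' := sub_eq_zero.mp h2
      subst hc
      rw [Subtype.ext (mul_left_cancel h)]
  · intro g
    by_cases hr : fr.mat g 1 0 = 0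
    · exact ⟨(none, ⟨g, (fr.mem_B g).mpr hr⟩), one_mul g⟩
    · have h1 : (fr.u (fr.mat g 0 0 / fr.mat g 1 0) * fr.w)⁻¹ * g ∈ fr.B := by
        rw [fr.mem_B, mul_inv_rev, ← fr.u_neg, fr.mat_mul_apply]
        rw [map_mul, fr.mat_u, fr.mat_w_inv]
        simp [Matrix.mul_apply, Fin.sum_univ_two]
        field_simp
        ring
      refine ⟨(some (fr.mat g 0 0 / fr.mat g 1 0), ⟨_, h1⟩), ?_⟩
      simp only [rep]
      group

theorem mat_mul_u (g : G) (c : F) : fr.mat (g * fr.u c) = !![fr.mat g 0 0, fr.mat g 0 0 * c + fr.mat g 0 1; fr.mat g 1 0, fr.mat g 1 0 * c + fr.mat g 1 1] := by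
  rw [map_mul, fr.mat_u]
  ext i j
  fin_cases i <;> fin_cases j <;> simp [Matrix.mul_apply, Fin.sum_univ_two]

section sums

variable [Fintype F] [DecidableEq F] [Fintype G]

theorem sum_G (f : G → ℂ) [Fintype fr.B] :
    ∑ x : G, f x = ∑ b : fr.B, f b + ∑ c : F, ∑ b : fr.B, f (fr.u c * fr.w * b) := by
  rw [← Fintype.sum_equiv (Equiv.ofBijective _ fr.bruhat_bijective) (fun x => f (fr.rep x.1 * (x.2 : G))) f (fun x => rfl),
    Fintype.sum_prod_type, Fintype.sum_option]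
  simp only [rep, one_mul]

/-- the function on the Borel subgroup given by a function of the diagonal entries -/
def lam (fr : Frame F G) (L : F → F → ℂ) : fr.B → ℂ := fun b => L (fr.mat b 0 0) (fr.mat b 1 1)

theorem ext_conj (L : F → F → ℂ) (y : G) {b : G} (hb : b ∈ fr.B) :
    extendByZero fr.B (fr.lam L) (b⁻¹ * y * b) = extendByZero fr.B (fr.lam L) y := by
  by_cases hy : y ∈ fr.B
  · have h : b⁻¹ * y * b ∈ fr.B := mul_mem (mul_mem (inv_mem hb) hy) hb
    rw [ext_mem _ _ hy, ext_mem _ _ h]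
    simp only [lam]
    rw [fr.conj_00 hb hy, fr.conj_11 hb hy]
  · have h : b⁻¹ * y * b ∉ fr.B := by
      intro h
      apply hy
      have := mul_mem (mul_mem hb h) (inv_mem hb)
      have e : b * (b⁻¹ * y * b) * b⁻¹ = y := by group
      rwa [e] at this
    rw [ext_not_mem _ _ hy, ext_not_mem _ _ h]

/-- the values of the induced function -/
theorem ind_value (L : F → F → ℂ) (g : G) :
    indFun fr.B (fr.lam L) g = (if fr.mat g 1 0 = 0 then L (fr.mat g 0 0) (fr.mat g 1 1) else 0) +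
      ∑ c : F, (if fr.mat g 0 1 + c * (fr.mat g 0 0 - fr.mat g 1 1) - c ^ 2 * fr.mat g 1 0 = 0 then
        L (fr.mat g 1 1 + c * fr.mat g 1 0) (fr.mat g 0 0 - c * fr.mat g 1 0) else 0) := by
  classical
  have hB : (Nat.card fr.B : ℂ) ≠ 0 := by exact_mod_cast Nat.card_pos.ne'
  rw [ind_apply, fr.sum_G, mul_add]
  congr 1
  · have h1 : ∀ b : fr.B, extendByZero fr.B (fr.lam L) ((b : G)⁻¹ * g * b) = if fr.mat g 1 0 = 0 then L (fr.mat g 0 0) (fr.mat g 1 1) else 0 := by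
      intro b
      rw [fr.ext_conj L g b.2]
      by_cases hg : g ∈ fr.B
      · rw [ext_mem _ _ hg, if_pos ((fr.mem_B g).mp hg)]; rfl
      · rw [ext_not_mem _ _ hg, if_neg (fun h => hg ((fr.mem_B g).mpr h))]
    rw [Finset.sum_congr rfl (fun b _ => h1 b), Finset.sum_const, nsmul_eq_mul, Finset.card_univ, ← Nat.card_eq_fintype_card]
    field_simp
  · rw [Finset.mul_sum]
    refine Finset.sum_congr rfl fun c _ => ?_
    have h1 : ∀ b : fr.B, extendByZero fr.B (fr.lam L) ((fr.u c * fr.w * (b : G))⁻¹ * g * (fr.u c * fr.w * b)) =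
        if fr.mat g 0 1 + c * (fr.mat g 0 0 - fr.mat g 1 1) - c ^ 2 * fr.mat g 1 0 = 0 then
        L (fr.mat g 1 1 + c * fr.mat g 1 0) (fr.mat g 0 0 - c * fr.mat g 1 0) else 0 := by
      intro b
      have e : (fr.u c * fr.w * (b : G))⁻¹ * g * (fr.u c * fr.w * b) = (b : G)⁻¹ * ((fr.u c * fr.w)⁻¹ * g * (fr.u c * fr.w)) * b := by
        group
      rw [e, fr.ext_conj L _ b.2]
      by_cases hg : (fr.u c * fr.w)⁻¹ * g * (fr.u c * fr.w) ∈ fr.B
      · rw [ext_mem _ _ hg, if_pos]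
        · simp only [lam]
          rw [fr.mat_conj_rep]
          simp
        · rw [fr.mem_B, fr.mat_conj_rep] at hg
          simpa [fr.ε_ne] using hg
      · rw [ext_not_mem _ _ hg, if_neg]
        intro h
        apply hg
        rw [fr.mem_B, fr.mat_conj_rep]
        simp [h]
    rw [Finset.sum_congr rfl (fun b _ => h1 b), Finset.sum_const, nsmul_eq_mul, Finset.card_univ, ← Nat.card_eq_fintype_card]
    field_simp

/-- the sum over a coset of the unipotent group -/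
theorem ind_sum_u (L : F → F → ℂ) {b : G} (hb : b ∈ fr.B) :
    ∑ c : F, indFun fr.B (fr.lam L) (b * fr.u c) =
      (Fintype.card F : ℂ) * (L (fr.mat b 0 0) (fr.mat b 1 1) + L (fr.mat b 1 1) (fr.mat b 0 0)) := by
  have hb0 := (fr.mem_B b).mp hb
  have hp := fr.B_00 hb
  have h1 : ∀ c : F, indFun fr.B (fr.lam L) (b * fr.u c) = L (fr.mat b 0 0) (fr.mat b 1 1) +
      ∑ e : F, (if fr.mat b 0 0 * c + (fr.mat b 0 1 + e * (fr.mat b 0 0 - fr.mat b 1 1)) = 0 then
        L (fr.mat b 1 1) (fr.mat b 0 0) else 0) := by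
    intro c
    rw [fr.ind_value, fr.mat_mul_u]
    simp [hb0, add_assoc]
  rw [Finset.sum_congr rfl (fun c _ => h1 c), Finset.sum_add_distrib, Finset.sum_comm]
  have h2 : ∀ e : F, ∑ c : F, (if fr.mat b 0 0 * c + (fr.mat b 0 1 + e * (fr.mat b 0 0 - fr.mat b 1 1)) = 0 then
        L (fr.mat b 1 1) (fr.mat b 0 0) else 0) = L (fr.mat b 1 1) (fr.mat b 0 0) := by
    intro e
    rw [Finset.sum_eq_single (-(fr.mat b 0 1 + e * (fr.mat b 0 0 - fr.mat b 1 1)) / fr.mat b 0 0)]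
    · rw [if_pos]
      field_simp
      ring
    · intro c _ hc
      rw [if_neg]
      intro h
      apply hc
      rw [eq_div_iff hp]
      linear_combination h
    · intro h; exact absurd (Finset.mem_univ _) h
  rw [Finset.sum_congr rfl (fun e _ => h2 e), Finset.sum_const, Finset.sum_const, Finset.card_univ, nsmul_eq_mul, nsmul_eq_mul]
  ring

theorem sum_B_u [Fintype fr.B] (f : G → ℂ) :
    (Fintype.card F : ℂ) * ∑ b : fr.B, f b = ∑ b : fr.B, ∑ c : F, f ((b : G) * fr.u c) := by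
  rw [Finset.sum_comm]
  have h1 : ∀ c : F, ∑ b : fr.B, f ((b : G) * fr.u c) = ∑ b : fr.B, f b := by
    intro c
    exact Fintype.sum_equiv (Equiv.mulRight (⟨fr.u c, fr.u_mem c⟩ : fr.B)) _ _ (fun b => rfl)
  rw [Finset.sum_congr rfl (fun c _ => h1 c), Finset.sum_const, Finset.card_univ, nsmul_eq_mul]

/-- Mackey formula for the Borel subgroup -/
theorem ind_inner [Fintype fr.B] (L L' : F → F → ℂ) :
    classInner (indFun fr.B (fr.lam L)) (indFun fr.B (fr.lam L')) =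
      classInner (fr.lam L) (fr.lam L') + classInner (fr.lam L) (fr.lam (fun a d => L' d a)) := by
  classical
  rw [CharIndA.frobenius _ _ (ind_classFun _ _)]
  have hF : (Fintype.card F : ℂ) ≠ 0 := by exact_mod_cast Fintype.card_ne_zero
  unfold classInner
  rw [← mul_add, ← Finset.sum_add_distrib]
  congr 1
  apply mul_left_cancel₀ hF
  have h1 := fr.sum_B_u (fun g => L (fr.mat g 0 0) (fr.mat g 1 1) * conj (indFun fr.B (fr.lam L') g))
  rw [show (∑ x : fr.B, fr.lam L x * conj (indFun fr.B (fr.lam L') (x : G))) =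
    ∑ b : fr.B, L (fr.mat b 0 0) (fr.mat b 1 1) * conj (indFun fr.B (fr.lam L') (b : G)) from rfl, h1, Finset.mul_sum]
  refine Finset.sum_congr rfl fun b _ => ?_
  have h2 : ∀ c : F, L (fr.mat ((b : G) * fr.u c) 0 0) (fr.mat ((b : G) * fr.u c) 1 1) * conj (indFun fr.B (fr.lam L') ((b : G) * fr.u c)) =
      L (fr.mat b 0 0) (fr.mat b 1 1) * conj (indFun fr.B (fr.lam L') ((b : G) * fr.u c)) := by
    intro c
    rw [fr.mat_mul_u]
    simp [(fr.mem_B _).mp b.2]
  rw [Finset.sum_congr rfl (fun c _ => h2 c), ← Finset.mul_sum, ← map_sum, fr.ind_sum_u L' b.2]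
  simp only [lam, map_mul, map_add, Complex.conj_natCast]
  ring

end sums

/-! ### swapping the diagonal entries -/

theorem mat_diag {b : G} (hb : b ∈ fr.B) :
    fr.mat (b * fr.u (-(fr.mat b 0 1 / fr.mat b 0 0))) = !![fr.mat b 0 0, 0; 0, fr.mat b 1 1] := by
  have hp := fr.B_00 hb
  rw [map_mul, fr.mat_u]
  have hb0 := (fr.mem_B b).mp hb
  ext i j
  fin_cases i <;> fin_cases j <;> simp [Matrix.mul_apply, Fin.sum_univ_two, hb0]
  field_simp
  ring

/-- the diagonal matrix with swapped entries -/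
noncomputable def swElt (b : G) : G := fr.w⁻¹ * (b * fr.u (-(fr.mat b 0 1 / fr.mat b 0 0))) * fr.w

theorem mat_swap (b : G) (hb : b ∈ fr.B) :
    fr.mat (fr.swElt b) = !![fr.mat b 1 1, 0; 0, fr.mat b 0 0] := by
  have h := fr.mat_conj_rep (b * fr.u (-(fr.mat b 0 1 / fr.mat b 0 0))) 0
  rw [fr.u_zero, one_mul, fr.mat_diag hb] at h
  rw [swElt, h]
  ext i j
  fin_cases i <;> fin_cases j <;> simp

theorem swElt_mem {b : G} (hb : b ∈ fr.B) : fr.swElt b ∈ fr.B := by
  rw [fr.mem_B, fr.mat_swap b hb]; rfl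

theorem swElt_one : fr.swElt 1 = 1 := by
  apply fr.inj
  rw [fr.mat_swap _ (one_mem _), map_one]
  ext i j
  fin_cases i <;> fin_cases j <;> simp

theorem swElt_mul {a b : G} (ha : a ∈ fr.B) (hb : b ∈ fr.B) : fr.swElt (a * b) = fr.swElt a * fr.swElt b := by
  apply fr.inj
  rw [fr.mat_swap _ (mul_mem ha hb), map_mul fr.mat (fr.swElt a), fr.mat_swap a ha, fr.mat_swap b hb,
    fr.B_mul_00 hb, fr.B_mul_11 ha]
  ext i j
  fin_cases i <;> fin_cases j <;> simp [Matrix.mul_apply, Fin.sum_univ_two]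

/-- the homomorphism of `B` swapping the diagonal entries -/
noncomputable def sw : fr.B →* fr.B where
  toFun b := ⟨fr.swElt b, fr.swElt_mem b.2⟩
  map_one' := Subtype.ext fr.swElt_one
  map_mul' a b := Subtype.ext (fr.swElt_mul a.2 b.2)

theorem mat_sw (b : fr.B) : fr.mat (fr.sw b : G) = !![fr.mat b 1 1, 0; 0, fr.mat b 0 0] := fr.mat_swap b b.2

theorem lam_sw (L : F → F → ℂ) (b : fr.B) : fr.lam L (fr.sw b) = fr.lam (fun a d => L d a) b := by
  simp only [lam, mat_sw]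
  simp

/-- two elements of `B` with the same diagonal differ by a root element -/
theorem eq_mul_u {a b : G} (ha : a ∈ fr.B) (hb : b ∈ fr.B) (h0 : fr.mat a 0 0 = fr.mat b 0 0)
    (h1 : fr.mat a 1 1 = fr.mat b 1 1) : ∃ c, b = a * fr.u c := by
  have hp := fr.B_00 ha
  refine ⟨(fr.mat b 0 1 - fr.mat a 0 1) / fr.mat a 0 0, ?_⟩
  apply fr.inj
  rw [fr.mat_mul_u]
  have hb0 := (fr.mem_B b).mp hb
  have ha0 := (fr.mem_B a).mp ha
  ext i j
  fin_cases i <;> fin_cases j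
  · simp [h0]
  · simp
    field_simp
    ring
  · simp [ha0, hb0]
  · simp [ha0, h1]

theorem exists_L (f : fr.B →* ℂˣ) (hf : ∀ c, f ⟨fr.u c, fr.u_mem c⟩ = 1) :
    ∃ L : F → F → ℂ, ∀ b, fr.lam L b = (f b : ℂ) := by
  classical
  refine ⟨fun a d => if h : ∃ b : fr.B, fr.mat b 0 0 = a ∧ fr.mat b 1 1 = d then (f h.choose : ℂ) else 0, fun b => ?_⟩
  have h : ∃ b' : fr.B, fr.mat b' 0 0 = fr.mat b 0 0 ∧ fr.mat b' 1 1 = fr.mat b 1 1 := ⟨b, rfl, rfl⟩
  simp only [lam]
  rw [dif_pos h]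
  obtain ⟨c, hc⟩ := fr.eq_mul_u h.choose.2 b.2 h.choose_spec.1 h.choose_spec.2
  have e : b = h.choose * ⟨fr.u c, fr.u_mem c⟩ := Subtype.ext hc
  conv_rhs => rw [e]
  rw [map_mul, hf, mul_one]

theorem B_conj_u {b : G} (hb : b ∈ fr.B) (c : F) : b * fr.u c = fr.u (c * (fr.mat b 0 0 / fr.mat b 1 1)) * b := by
  have h1 := fr.B_11 hb
  apply fr.inj
  rw [fr.mat_mul_u, map_mul, fr.mat_u]
  have hb0 := (fr.mem_B b).mp hb
  ext i j
  fin_cases i <;> fin_cases j <;> simp [Matrix.mul_apply, Fin.sum_univ_two, hb0]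
  field_simp
  ring

theorem comm_mem {a b : G} (ha : a ∈ fr.B) (hb : b ∈ fr.B) : ∃ c, a * b * a⁻¹ * b⁻¹ = fr.u c := by
  have hm : a * b * a⁻¹ * b⁻¹ ∈ fr.B := mul_mem (mul_mem (mul_mem ha hb) (inv_mem ha)) (inv_mem hb)
  obtain ⟨c, hc⟩ := fr.eq_mul_u (one_mem _) hm (by
    rw [map_one, Matrix.one_apply_eq, fr.B_mul_00 (inv_mem hb), fr.B_mul_00 (inv_mem ha), fr.B_mul_00 hb]
    have e1 := fr.B_inv_00 ha
    have e2 := fr.B_inv_00 hb
    linear_combination (-(fr.mat a⁻¹ 0 0 * fr.mat a 0 0)) * e2 - e1) (by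
    rw [map_one, Matrix.one_apply_eq, fr.B_mul_11 (mul_mem (mul_mem ha hb) (inv_mem ha)), fr.B_mul_11 (mul_mem ha hb),
      fr.B_mul_11 ha]
    have e1 := fr.B_inv_11 ha
    have e2 := fr.B_inv_11 hb
    linear_combination (-(fr.mat a⁻¹ 1 1 * fr.mat a 1 1)) * e2 - e1)
  exact ⟨c, by rw [hc, one_mul]⟩

section chars

variable [Fintype F] [DecidableEq F] [Fintype G]

/-- an irreducible character of `B` with a nonzero sum over the root group is a linear character trivial on it. -/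
theorem linear_of_sum {μ : fr.B → ℂ} (hμ : IsIrrCharacter fr.B μ) (hk : ∑ c : F, μ ⟨fr.u c, fr.u_mem c⟩ ≠ 0) :
    ∃ f : fr.B →* ℂˣ, (∀ b, μ b = (f b : ℂ)) ∧ ∀ c, f ⟨fr.u c, fr.u_mem c⟩ = 1 := by
  classical
  let _ : Fintype fr.B := Fintype.ofFinite _
  have hker : ∀ c, μ ⟨fr.u c, fr.u_mem c⟩ = μ 1 := by
    obtain ⟨n, ρ, hρ, rfl⟩ := hμ
    set T : (Fin n → ℂ) →ₗ[ℂ] (Fin n → ℂ) := ∑ c : F, ρ ⟨fr.u c, fr.u_mem c⟩ with hT
    have hTa : ∀ v, T v = ∑ c : F, ρ ⟨fr.u c, fr.u_mem c⟩ v := fun v => by rw [hT, LinearMap.sum_apply]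
    obtain ⟨z, hz⟩ := schur_scalar ρ T (by
      intro b v
      rw [hTa, hTa, map_sum]
      have hb1 : fr.mat b 0 0 / fr.mat b 1 1 ≠ 0 := div_ne_zero (fr.B_00 b.2) (fr.B_11 b.2)
      refine (Fintype.sum_equiv (Equiv.mulRight₀ _ hb1) _ _ fun c => ?_).symm
      rw [← Module.End.mul_apply, ← Module.End.mul_apply, ← map_mul, ← map_mul]
      congr 2
      apply Subtype.ext
      exact fr.B_conj_u b.2 c)
    have htr : LinearMap.trace ℂ _ T ≠ 0 := by
      rw [hT, map_sum]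
      exact hk
    have hz0 : z ≠ 0 := by
      rintro rfl
      rw [hz, zero_smul, map_zero] at htr
      exact htr rfl
    intro c
    have h1 : ρ ⟨fr.u c, fr.u_mem c⟩ = 1 := by
      refine LinearMap.ext fun v => ?_
      have h2 : ρ ⟨fr.u c, fr.u_mem c⟩ (T v) = T v := by
        rw [hTa, map_sum]
        refine Fintype.sum_equiv (Equiv.addLeft c) _ _ fun d => ?_
        rw [← Module.End.mul_apply, ← map_mul]
        congr 2
        apply Subtype.ext
        exact (fr.u_add c d).symm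
      rw [hz] at h2
      simp only [LinearMap.smul_apply, LinearMap.id_coe, id_eq, map_smul] at h2
      have := smul_right_injective _ hz0 h2
      rw [this]; rfl
    have h0 : ρ (1 : fr.B) = 1 := MonoidHom.map_one ρ
    rw [Representation.character, Representation.character, h1, h0]
  have hdeg : ∀ d ∈ (⊤ : Subgroup fr.B), ‖μ d‖ = (μ 1).re := by
    intro d _
    apply CfsgLib.Ind2.scalar_of_comm_mod_ker hμ
    intro c
    obtain ⟨e, he⟩ := fr.comm_mem d.2 c.2
    have e1 : d * c * d⁻¹ * c⁻¹ = ⟨fr.u e, fr.u_mem e⟩ := Subtype.ext he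
    rw [e1, hker]
  have h2 := CfsgLib.Ind2.sq_degree_mul_le hμ ⊤ hdeg
  have h3 : Nat.card (⊤ : Subgroup fr.B) = Nat.card fr.B := Subgroup.card_top
  rw [h3] at h2
  have hpos : 0 < Nat.card fr.B := Nat.card_pos
  have h4 : charDegree μ ^ 2 ≤ 1 := by
    by_contra hcon
    push Not at hcon
    nlinarith
  have h5 : charDegree μ = 1 := by
    have := CfsgLib.CharInt.irr_charDegree_pos hμ
    nlinarith
  have h6 : μ 1 = 1 := by
    rw [CfsgLib.CharInt.irr_one_eq_charDegree hμ, h5]; simp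
  obtain ⟨f, hf⟩ := exists_hom_of_linear (irr_isCharacter hμ) h6
  refine ⟨f, hf, fun c => ?_⟩
  have := hker c
  rw [h6, hf] at this
  exact Units.ext this

theorem exists_lam {χ : G → ℂ} (hχ : IsIrrCharacter G χ) (hk : ∑ c : F, χ (fr.u c) ≠ 0) :
    ∃ (f : fr.B →* ℂˣ) (L : F → F → ℂ), (∀ c, f ⟨fr.u c, fr.u_mem c⟩ = 1) ∧ (∀ b, fr.lam L b = (f b : ℂ)) ∧
      classInner χ (indFun fr.B (fr.lam L)) ≠ 0 := by
  classical
  let _ : Fintype fr.B := Fintype.ofFinite _
  have hres := isCharacter_restrict (irr_isCharacter hχ) fr.B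
  obtain ⟨m, hm, hexp, -⟩ := char_expand hres
  have h1 : ∑ c : F, χ (fr.u c) = ∑ μ : IrrCharacter fr.B, (m μ : ℂ) * ∑ c : F, (μ : fr.B → ℂ) ⟨fr.u c, fr.u_mem c⟩ := by
    have h2 : ∀ c : F, χ (fr.u c) = ∑ μ : IrrCharacter fr.B, (m μ : ℂ) * (μ : fr.B → ℂ) ⟨fr.u c, fr.u_mem c⟩ := by
      intro c
      have := congrFun hexp ⟨fr.u c, fr.u_mem c⟩
      rw [Finset.sum_apply] at this
      simpa using this
    rw [Finset.sum_congr rfl (fun c _ => h2 c), Finset.sum_comm]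
    simp only [Finset.mul_sum]
  rw [h1] at hk
  obtain ⟨μ, _, hμ⟩ := Finset.exists_ne_zero_of_sum_ne_zero hk
  obtain ⟨f, hf, hf1⟩ := fr.linear_of_sum μ.2 (right_ne_zero_of_mul hμ)
  obtain ⟨L, hL⟩ := fr.exists_L f hf1
  refine ⟨f, L, hf1, hL, ?_⟩
  rw [frobenius' _ _ (irr_classFun hχ)]
  have e : fr.lam L = (μ : fr.B → ℂ) := by
    funext b
    rw [hL, hf]
  rw [e, hm]
  exact left_ne_zero_of_mul hμ

open Classical in
theorem inner_hom (f f' : fr.B →* ℂˣ) (L L' : F → F → ℂ) (hL : ∀ b, fr.lam L b = (f b : ℂ)) (hL' : ∀ b, fr.lam L' b = (f' b : ℂ)) :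
    classInner (indFun fr.B (fr.lam L)) (indFun fr.B (fr.lam L')) =
      (if f = f' then 1 else 0) + (if f = f'.comp fr.sw then 1 else 0) := by
  let _ : Fintype fr.B := Fintype.ofFinite _
  rw [fr.ind_inner]
  have e1 : fr.lam L = fun b => (f b : ℂ) := funext hL
  have e2 : fr.lam L' = fun b => (f' b : ℂ) := funext hL'
  have e3 : fr.lam (fun a d => L' d a) = fun b => (f'.comp fr.sw b : ℂ) := by
    funext b
    rw [← fr.lam_sw, hL']; rfl
  rw [e1, e2, e3, irr_inner (isIrrCharacter_hom f) (isIrrCharacter_hom f'),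
    irr_inner (isIrrCharacter_hom f) (isIrrCharacter_hom _)]
  congr 1
  · by_cases h : f = f'
    · rw [if_pos h, if_pos (by rw [h])]
    · rw [if_neg h, if_neg (fun h' => h (hom_ext_fun h'))]
  · by_cases h : f = f'.comp fr.sw
    · rw [if_pos h, if_pos (by rw [h])]
    · rw [if_neg h, if_neg (fun h' => h (hom_ext_fun h'))]

end chars

end Frame

section norm

variable {G : Type u} [Group G] [Fintype G]

theorem norm_two_split {φ χ : G → ℂ} (hφ : IsCharacter G φ) (h2 : classInner φ φ = 2) (hχ : IsIrrCharacter G χ)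
    (h : classInner φ χ ≠ 0) : ∃ ψ, IsIrrCharacter G ψ ∧ ψ ≠ χ ∧ φ = χ + ψ := by
  obtain ⟨ψ, hψ, rfl⟩ := CfsgLib.CharMore.split_off hφ hχ h
  obtain ⟨n, hn⟩ := char_mult (irr_isCharacter hχ) hψ
  obtain ⟨m, hm⟩ := char_mult hψ hψ
  have hn' : classInner ψ χ = n := by
    rw [← CharBasic.inner_conj_symm, hn, Complex.conj_natCast]
  rw [CharBasic.inner_add_left, CharBasic.inner_add_right, CharBasic.inner_add_right, irr_inner_self hχ, hn, hn', hm] at h2
  have h3 : 1 + n + (n + m) = 2 := by exact_mod_cast h2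
  have hn0 : n = 0 := by omega
  have hm1 : m = 1 := by omega
  refine ⟨ψ, irr_iff_norm_one.mpr ⟨hψ, by rw [hm, hm1]; simp⟩, ?_, rfl⟩
  rintro rfl
  rw [hn0, irr_inner_self hχ] at hn
  simp at hn

end norm

end CfsgLib.G2A
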