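import Cfsg.Agent.EqBase
import Cfsg.Agent.LibG2A
import Cfsg.Agent.LibH22SL2
/-!
# Conjugacy in GL_2 and SL_2 of a field (helper26)
-/
set_option autoImplicit false
set_option linter.unusedSectionVars false

open Cfsg
open scoped MatrixGroups

namespace CfsgLib.G2B

open Matrix

universe v

variable {F : Type v} [Field F]

/-- 2x2 matrix equality -/
theorem ext2 {A B : Matrix (Fin 2) (Fin 2) F} (h00 : A 0 0 = B 0 0) (h01 : A 0 1 = B 0 1) (h10 : A 1 0 = B 1 0)
    (h11 : A 1 1 = B 1 1) : A = B := by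
  ext i j
  fin_cases i <;> fin_cases j
  · exact h00
  · exact h01
  · exact h10
  · exact h11

/-- scalar 2x2 matrices -/
def IsSc (A : Matrix (Fin 2) (Fin 2) F) : Prop := A 0 1 = 0 ∧ A 1 0 = 0 ∧ A 0 0 = A 1 1

theorem IsSc.eq {A : Matrix (Fin 2) (Fin 2) F} (h : IsSc A) : A = A 0 0 • (1 : Matrix (Fin 2) (Fin 2) F) := by
  apply ext2
  · simp
  · simp [h.1]
  · simp [h.2.1]
  · simp [h.2.2]

theorem isSc_smul (a : F) : IsSc (a • (1 : Matrix (Fin 2) (Fin 2) F)) := ⟨by simp, by simp, by simp⟩

/-- a nonscalar matrix has a cyclic vector -/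
theorem exists_cyclic (A : Matrix (Fin 2) (Fin 2) F) (h : ¬ IsSc A) :
    ∃ P : Matrix (Fin 2) (Fin 2) F, P.det ≠ 0 ∧ A * P = P * !![0, -A.det; 1, A.trace] := by
  have key : ∀ x y : F, x * (A 1 0 * x + A 1 1 * y) - y * (A 0 0 * x + A 0 1 * y) ≠ 0 →
      ∃ P : Matrix (Fin 2) (Fin 2) F, P.det ≠ 0 ∧ A * P = P * !![0, -A.det; 1, A.trace] := by
    intro x y hxy
    refine ⟨!![x, A 0 0 * x + A 0 1 * y; y, A 1 0 * x + A 1 1 * y], ?_, ?_⟩
    · rw [det_fin_two_of]
      intro h0; apply hxy; linear_combination h0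
    · rw [det_fin_two, trace_fin_two]
      apply ext2 <;> simp [Matrix.mul_apply, Fin.sum_univ_two] <;> ring
  by_cases h1 : A 1 0 = 0
  · by_cases h2 : A 0 1 = 0
    · refine key 1 1 ?_
      intro h0
      apply h
      refine ⟨h2, h1, ?_⟩
      rw [h1, h2] at h0
      linear_combination -h0
    · refine key 0 1 ?_
      simpa using h2
  · refine key 1 0 ?_
    simpa using h1

/-- matrices with nonzero determinant as elements of the general linear group -/
noncomputable def mkGL (A : Matrix (Fin 2) (Fin 2) F) (h : A.det ≠ 0) : GL (Fin 2) F :=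
  Matrix.GeneralLinearGroup.mkOfDetNeZero A h

theorem mkGL_coe (A : Matrix (Fin 2) (Fin 2) F) (h : A.det ≠ 0) : (mkGL A h : Matrix (Fin 2) (Fin 2) F) = A := rfl

theorem gl_det_ne (g : GL (Fin 2) F) : (g : Matrix (Fin 2) (Fin 2) F).det ≠ 0 := by
  intro h
  have h1 := congrArg Matrix.det (Units.mul_inv g)
  rw [det_mul, h, zero_mul, det_one] at h1
  exact zero_ne_one h1

theorem gl_isConj_iff (g h : GL (Fin 2) F) : IsConj g h ↔ ∃ P : Matrix (Fin 2) (Fin 2) F, P.det ≠ 0 ∧
    P * (g : Matrix (Fin 2) (Fin 2) F) = (h : Matrix (Fin 2) (Fin 2) F) * P := by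
  rw [isConj_iff]
  constructor
  · rintro ⟨c, hc⟩
    refine ⟨c, gl_det_ne c, ?_⟩
    rw [← hc]
    change ((c * g : GL (Fin 2) F) : Matrix (Fin 2) (Fin 2) F) = ((c * g * c⁻¹ * c : GL (Fin 2) F) : Matrix (Fin 2) (Fin 2) F)
    rw [inv_mul_cancel_right]
  · rintro ⟨P, hP, h1⟩
    refine ⟨mkGL P hP, ?_⟩
    rw [mul_inv_eq_iff_eq_mul]
    apply Units.ext
    exact h1

/-- nonscalar elements with the same trace and determinant are conjugate -/
theorem gl_conj {g h : GL (Fin 2) F} (hg : ¬ IsSc (g : Matrix (Fin 2) (Fin 2) F)) (hh : ¬ IsSc (h : Matrix (Fin 2) (Fin 2) F))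
    (ht : (g : Matrix (Fin 2) (Fin 2) F).trace = (h : Matrix (Fin 2) (Fin 2) F).trace)
    (hd : (g : Matrix (Fin 2) (Fin 2) F).det = (h : Matrix (Fin 2) (Fin 2) F).det) : IsConj g h := by
  obtain ⟨P, hP, h1⟩ := exists_cyclic _ hg
  obtain ⟨Q, hQ, h2⟩ := exists_cyclic _ hh
  have hC : (!![0, -(g : Matrix (Fin 2) (Fin 2) F).det; 1, (g : Matrix (Fin 2) (Fin 2) F).trace] : Matrix (Fin 2) (Fin 2) F).det ≠ 0 := by
    rw [det_fin_two_of]; simpa using gl_det_ne g
  have e1 : IsConj (mkGL _ hC) g := (gl_isConj_iff _ _).mpr ⟨P, hP, by rw [mkGL_coe, h1]⟩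
  have e2 : IsConj (mkGL _ hC) h := (gl_isConj_iff _ _).mpr ⟨Q, hQ, by rw [mkGL_coe, h2, ht, hd]⟩
  exact e1.symm.trans e2

theorem gl_conj_trace {g h : GL (Fin 2) F} (hc : IsConj g h) :
    (g : Matrix (Fin 2) (Fin 2) F).trace = (h : Matrix (Fin 2) (Fin 2) F).trace := by
  obtain ⟨c, rfl⟩ := isConj_iff.mp hc
  change _ = ((c : Matrix (Fin 2) (Fin 2) F) * g * ((c⁻¹ : GL (Fin 2) F) : Matrix (Fin 2) (Fin 2) F)).trace
  rw [Matrix.trace_units_conj]

theorem gl_conj_det {g h : GL (Fin 2) F} (hc : IsConj g h) :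
    (g : Matrix (Fin 2) (Fin 2) F).det = (h : Matrix (Fin 2) (Fin 2) F).det := by
  obtain ⟨c, rfl⟩ := isConj_iff.mp hc
  change _ = ((c : Matrix (Fin 2) (Fin 2) F) * g * ((c⁻¹ : GL (Fin 2) F) : Matrix (Fin 2) (Fin 2) F)).det
  rw [Matrix.det_units_conj]

theorem sc_of_conj {A B P : Matrix (Fin 2) (Fin 2) F} (hP : P.det ≠ 0) (h : P * A = B * P) (hA : IsSc A) : A = B := by
  rw [hA.eq] at h ⊢
  rw [Matrix.mul_smul, mul_one] at h
  have h1 : (A 0 0 • (1 : Matrix (Fin 2) (Fin 2) F) - B) * P = 0 := by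
    rw [sub_mul, ← h, Matrix.smul_mul, one_mul, sub_self]
  have h2 : (A 0 0 • (1 : Matrix (Fin 2) (Fin 2) F) - B) * (P * P.adjugate) = 0 := by
    rw [← mul_assoc, h1, zero_mul]
  rw [mul_adjugate, Matrix.mul_smul, mul_one] at h2
  have h3 := (smul_eq_zero.mp h2).resolve_left hP
  exact sub_eq_zero.mp h3

/-- the number of conjugacy classes of `GL_2(q)` -/
theorem card_classes_GL [Fintype F] :
    Nat.card (ConjClasses (GL (Fin 2) F)) = Fintype.card F ^ 2 - 1 := by
  classical
  have hs : ∀ a : Fˣ, ((a : F) • (1 : Matrix (Fin 2) (Fin 2) F)).det ≠ 0 := by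
    intro a
    rw [det_smul, det_one]; simp
  have hc : ∀ (t : F) (d : Fˣ), (!![0, -(d : F); 1, t] : Matrix (Fin 2) (Fin 2) F).det ≠ 0 := by
    intro t d
    rw [det_fin_two_of]; simp
  have hns : ∀ (t : F) (d : Fˣ), ¬ IsSc (!![0, -(d : F); 1, t] : Matrix (Fin 2) (Fin 2) F) := by
    intro t d h
    have := h.2.1
    simp at this
  let f : Fˣ ⊕ (F × Fˣ) → ConjClasses (GL (Fin 2) F) := fun x => match x with
    | Sum.inl a => ConjClasses.mk (mkGL _ (hs a))
    | Sum.inr (t, d) => ConjClasses.mk (mkGL _ (hc t d))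
  have hf : Function.Bijective f := by
    constructor
    · rintro (a | ⟨t, d⟩) (a' | ⟨t', d'⟩) h
      · have h1 := ConjClasses.mk_eq_mk_iff_isConj.mp h
        obtain ⟨P, hP, h2⟩ := (gl_isConj_iff _ _).mp h1
        have h3 := sc_of_conj hP h2 (isSc_smul _)
        have h4 := congrFun (congrFun h3 0) 0
        rw [mkGL_coe, mkGL_coe] at h4
        simp only [Matrix.smul_apply, one_apply_eq, smul_eq_mul, mul_one] at h4
        rw [Units.ext h4]
      · exfalso
        have h1 := ConjClasses.mk_eq_mk_iff_isConj.mp h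
        obtain ⟨P, hP, h2⟩ := (gl_isConj_iff _ _).mp h1
        have h3 := sc_of_conj hP h2 (isSc_smul _)
        exact hns t' d' (by rw [← mkGL_coe _ (hc t' d'), ← h3]; exact isSc_smul _)
      · exfalso
        have h1 := (ConjClasses.mk_eq_mk_iff_isConj.mp h).symm
        obtain ⟨P, hP, h2⟩ := (gl_isConj_iff _ _).mp h1
        have h3 := sc_of_conj hP h2 (isSc_smul _)
        exact hns t d (by rw [← mkGL_coe _ (hc t d), ← h3]; exact isSc_smul _)
      · have h1 := ConjClasses.mk_eq_mk_iff_isConj.mp h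
        have h2 := gl_conj_trace h1
        have h3 := gl_conj_det h1
        rw [mkGL_coe, mkGL_coe, trace_fin_two_of, trace_fin_two_of] at h2
        rw [mkGL_coe, mkGL_coe, det_fin_two_of, det_fin_two_of] at h3
        have h4 : t = t' := by simpa using h2
        have h5 : d = d' := Units.ext (by simpa using h3)
        rw [h4, h5]
    · intro C
      obtain ⟨g, rfl⟩ := ConjClasses.mk_surjective C
      by_cases hg : IsSc (g : Matrix (Fin 2) (Fin 2) F)
      · have hne : (g : Matrix (Fin 2) (Fin 2) F) 0 0 ≠ 0 := by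
          intro h
          apply gl_det_ne g
          rw [hg.eq, h, zero_smul, det_zero]
        refine ⟨Sum.inl (Units.mk0 _ hne), ?_⟩
        change ConjClasses.mk (mkGL _ _) = _
        congr 1
        apply Units.ext
        rw [mkGL_coe]
        exact hg.eq.symm
      · refine ⟨Sum.inr ((g : Matrix (Fin 2) (Fin 2) F).trace, Units.mk0 _ (gl_det_ne g)), ?_⟩
        change ConjClasses.mk (mkGL _ _) = _
        rw [ConjClasses.mk_eq_mk_iff_isConj]
        apply gl_conj
        · rw [mkGL_coe]; exact hns _ _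
        · exact hg
        · rw [mkGL_coe, trace_fin_two_of]; simp
        · rw [mkGL_coe, det_fin_two_of]; simp
  rw [← Nat.card_congr (Equiv.ofBijective f hf), Nat.card_eq_fintype_card, Fintype.card_sum, Fintype.card_prod, Fintype.card_units]
  have hq : 1 < Fintype.card F := Fintype.one_lt_card
  obtain ⟨m, hm⟩ := Nat.exists_eq_add_of_lt hq
  rw [hm]
  have e1 : 1 + m + 1 - 1 = m + 1 := by omega
  rw [e1]
  have e2 : (1 + m + 1) ^ 2 = (m + 1 + (1 + m + 1) * (m + 1)) + 1 := by ring
  rw [e2]; omega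

/-! ### SL_2 -/

/-- matrices of determinant one as elements of the special linear group -/
def mkSL (A : Matrix (Fin 2) (Fin 2) F) (h : A.det = 1) : Matrix.SpecialLinearGroup (Fin 2) F := ⟨A, h⟩

theorem mkSL_coe (A : Matrix (Fin 2) (Fin 2) F) (h : A.det = 1) : (mkSL A h : Matrix (Fin 2) (Fin 2) F) = A := rfl

theorem sl_isConj_iff (g h : Matrix.SpecialLinearGroup (Fin 2) F) : IsConj g h ↔ ∃ P : Matrix (Fin 2) (Fin 2) F, P.det = 1 ∧
    P * (g : Matrix (Fin 2) (Fin 2) F) = (h : Matrix (Fin 2) (Fin 2) F) * P := by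
  rw [isConj_iff]
  constructor
  · rintro ⟨c, hc⟩
    refine ⟨c, c.2, ?_⟩
    rw [← hc]
    change ((c * g : Matrix.SpecialLinearGroup (Fin 2) F) : Matrix (Fin 2) (Fin 2) F) =
      ((c * g * c⁻¹ * c : Matrix.SpecialLinearGroup (Fin 2) F) : Matrix (Fin 2) (Fin 2) F)
    rw [inv_mul_cancel_right]
  · rintro ⟨P, hP, h1⟩
    refine ⟨mkSL P hP, ?_⟩
    rw [mul_inv_eq_iff_eq_mul]
    apply Subtype.ext
    exact h1

theorem isConj_of_common {g h : Matrix.SpecialLinearGroup (Fin 2) F} {C : Matrix (Fin 2) (Fin 2) F} {P Q : Matrix (Fin 2) (Fin 2) F}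
    (hP : P.det = 1) (hQ : Q.det = 1) (h1 : (g : Matrix (Fin 2) (Fin 2) F) * P = P * C)
    (h2 : (h : Matrix (Fin 2) (Fin 2) F) * Q = Q * C) : IsConj g h := by
  have hC : C.det = 1 := by
    have := congrArg Matrix.det h1
    rw [det_mul, det_mul, hP, g.2] at this
    simpa using this.symm
  have e1 : IsConj (mkSL C hC) g := (sl_isConj_iff _ _).mpr ⟨P, hP, h1.symm⟩
  have e2 : IsConj (mkSL C hC) h := (sl_isConj_iff _ _).mpr ⟨Q, hQ, h2.symm⟩
  exact e1.symm.trans e2

theorem sl_exists_cyclic (g : Matrix.SpecialLinearGroup (Fin 2) F) (h : ¬ IsSc (g : Matrix (Fin 2) (Fin 2) F))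
    (hform : ∀ δ : F, δ ≠ 0 → ∃ a b : F, a ^ 2 + (g : Matrix (Fin 2) (Fin 2) F).trace * a * b + b ^ 2 = δ) :
    ∃ P : Matrix (Fin 2) (Fin 2) F, P.det = 1 ∧ (g : Matrix (Fin 2) (Fin 2) F) * P = P * !![0, -1; 1, (g : Matrix (Fin 2) (Fin 2) F).trace] := by
  obtain ⟨P, hP, h1⟩ := exists_cyclic _ h
  rw [g.2] at h1
  obtain ⟨a, b, hab⟩ := hform P.det⁻¹ (inv_ne_zero hP)
  refine ⟨P * (a • (1 : Matrix (Fin 2) (Fin 2) F) + b • !![0, -1; 1, (g : Matrix (Fin 2) (Fin 2) F).trace]), ?_, ?_⟩
  · rw [det_mul]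
    have : (a • (1 : Matrix (Fin 2) (Fin 2) F) + b • !![0, -1; 1, (g : Matrix (Fin 2) (Fin 2) F).trace]).det = P.det⁻¹ := by
      rw [← hab, det_fin_two]
      simp
      ring
    rw [this, mul_inv_cancel₀ hP]
  · rw [← mul_assoc, h1, mul_assoc, mul_assoc]
    congr 1
    rw [mul_add, add_mul, Matrix.mul_smul, mul_one, Matrix.smul_mul, one_mul, Matrix.mul_smul, Matrix.smul_mul]

theorem sl_conj {g h : Matrix.SpecialLinearGroup (Fin 2) F} (hg : ¬ IsSc (g : Matrix (Fin 2) (Fin 2) F))
    (hh : ¬ IsSc (h : Matrix (Fin 2) (Fin 2) F))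
    (ht : (g : Matrix (Fin 2) (Fin 2) F).trace = (h : Matrix (Fin 2) (Fin 2) F).trace)
    (hform : ∀ δ : F, δ ≠ 0 → ∃ a b : F, a ^ 2 + (g : Matrix (Fin 2) (Fin 2) F).trace * a * b + b ^ 2 = δ) : IsConj g h := by
  obtain ⟨P, hP, h1⟩ := sl_exists_cyclic g hg hform
  obtain ⟨Q, hQ, h2⟩ := sl_exists_cyclic h hh (by rw [← ht]; exact hform)
  rw [← ht] at h2
  exact isConj_of_common hP hQ h1 h2

theorem sl_conj_trace {g h : Matrix.SpecialLinearGroup (Fin 2) F} (hc : IsConj g h) :
    (g : Matrix (Fin 2) (Fin 2) F).trace = (h : Matrix (Fin 2) (Fin 2) F).trace := by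
  obtain ⟨P, hP, h1⟩ := (sl_isConj_iff _ _).mp hc
  have h2 : (g : Matrix (Fin 2) (Fin 2) F) = P.adjugate * h * P := by
    rw [mul_assoc, ← h1, ← mul_assoc, adjugate_mul, hP, one_smul, one_mul]
  rw [h2, trace_mul_comm, ← mul_assoc, mul_adjugate, hP, one_smul, one_mul]

/-- in characteristic two every nonzero value is represented -/
theorem form_char_two [Finite F] [CharP F 2] (t δ : F) : ∃ a b : F, a ^ 2 + t * a * b + b ^ 2 = δ := by
  obtain ⟨r, hr⟩ := FiniteField.isSquare_of_char_two (F := F) (ringChar.eq F 2) δ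
  exact ⟨r, 0, by rw [hr]; ring⟩

theorem form_odd [Fintype F] (hodd : Odd (Fintype.card F)) (t δ : F) (ht : t ^ 2 ≠ 4) : ∃ a b : F, a ^ 2 + t * a * b + b ^ 2 = δ := by
  have h2 : (2 : F) ≠ 0 := by
    intro h
    have : Even (Fintype.card F) := by
      have hc : CharP F 2 := (CharP.charP_iff_prime_eq_zero Nat.prime_two).mpr (by exact_mod_cast h)
      rw [Nat.even_iff]
      exact FiniteField.even_card_of_char_two (ringChar.eq F 2)
    exact (Nat.not_even_iff_odd.mpr hodd) this
  have h4 : (1 - (t / 2) ^ 2) ≠ 0 := by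
    intro h
    apply ht
    field_simp at h
    linear_combination -h
  obtain ⟨x, y, hxy⟩ := FiniteField.exists_root_sum_quadratic (R := F)
    (f := Polynomial.X ^ 2 - Polynomial.C δ) (g := Polynomial.C (1 - (t / 2) ^ 2) * Polynomial.X ^ 2)
    (Polynomial.degree_X_pow_sub_C (by norm_num) _) (by
      rw [Polynomial.degree_mul, Polynomial.degree_C h4, Polynomial.degree_X_pow, zero_add]; rfl) (Nat.odd_iff.mp hodd)
  simp only [Polynomial.eval_sub, Polynomial.eval_pow, Polynomial.eval_X, Polynomial.eval_C, Polynomial.eval_mul] at hxy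
  refine ⟨x - t / 2 * y, y, ?_⟩
  field_simp at hxy ⊢
  linear_combination hxy

theorem isSc_sq {A : Matrix (Fin 2) (Fin 2) F} (h : IsSc A) (hd : A.det = 1) : A 0 0 ^ 2 = 1 := by
  rw [det_fin_two, h.1, ← h.2.2] at hd
  linear_combination hd

theorem det_C (t : F) : (!![0, -1; 1, t] : Matrix (Fin 2) (Fin 2) F).det = 1 := by
  rw [det_fin_two_of]; ring

theorem not_isSc_C (t : F) : ¬ IsSc (!![0, -1; 1, t] : Matrix (Fin 2) (Fin 2) F) := by
  intro h
  have := h.2.1
  simp at this

theorem det_U (ε b : F) (hε : ε ^ 2 = 1) : (!![ε, b; 0, ε] : Matrix (Fin 2) (Fin 2) F).det = 1 := by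
  rw [det_fin_two_of]; linear_combination hε

/-- the number of classes of `SL_2(q)`, `q` even -/
theorem card_classes_SL_even [Fintype F] [CharP F 2] :
    Nat.card (ConjClasses (Matrix.SpecialLinearGroup (Fin 2) F)) = Fintype.card F + 1 := by
  classical
  let f : Option F → ConjClasses (Matrix.SpecialLinearGroup (Fin 2) F) := fun x => match x with
    | none => ConjClasses.mk 1
    | some t => ConjClasses.mk (mkSL _ (det_C t))
  have hf : Function.Bijective f := by
    constructor
    · rintro (_ | t) (_ | t') h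
      · rfl
      · exfalso
        have h1 := ConjClasses.mk_eq_mk_iff_isConj.mp h
        rw [isConj_one_right] at h1
        apply not_isSc_C t'
        rw [← mkSL_coe _ (det_C t'), h1]
        exact ⟨rfl, rfl, rfl⟩
      · exfalso
        have h1 := ConjClasses.mk_eq_mk_iff_isConj.mp h
        rw [isConj_one_left] at h1
        apply not_isSc_C t
        rw [← mkSL_coe _ (det_C t), h1]
        exact ⟨rfl, rfl, rfl⟩
      · have h1 := sl_conj_trace (ConjClasses.mk_eq_mk_iff_isConj.mp h)
        rw [mkSL_coe, mkSL_coe, trace_fin_two_of, trace_fin_two_of] at h1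
        have : t = t' := by simpa using h1
        rw [this]
    · intro C
      obtain ⟨g, rfl⟩ := ConjClasses.mk_surjective C
      by_cases hg : IsSc (g : Matrix (Fin 2) (Fin 2) F)
      · refine ⟨none, ?_⟩
        change ConjClasses.mk 1 = _
        congr 1
        apply Subtype.ext
        have h1 := isSc_sq hg g.2
        have h2 : (g : Matrix (Fin 2) (Fin 2) F) 0 0 = 1 := by
          have h3 : ((g : Matrix (Fin 2) (Fin 2) F) 0 0 + 1) ^ 2 = 0 := by
            rw [add_sq, h1]
            have : (2 : F) = 0 := by exact_mod_cast CharP.cast_eq_zero F 2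
            linear_combination ((g : Matrix (Fin 2) (Fin 2) F) 0 0 + 1) * this
          have h4 : (g : Matrix (Fin 2) (Fin 2) F) 0 0 + 1 = 0 := by simpa using h3
          have : (2 : F) = 0 := by exact_mod_cast CharP.cast_eq_zero F 2
          linear_combination h4 - this
        rw [hg.eq, h2, one_smul]; rfl
      · refine ⟨some (g : Matrix (Fin 2) (Fin 2) F).trace, ?_⟩
        change ConjClasses.mk (mkSL _ _) = _
        rw [ConjClasses.mk_eq_mk_iff_isConj]
        apply sl_conj
        · rw [mkSL_coe]; exact not_isSc_C _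
        · exact hg
        · rw [mkSL_coe, trace_fin_two_of]; simp
        · intro δ _
          exact form_char_two _ _
  rw [← Nat.card_congr (Equiv.ofBijective f hf), Nat.card_eq_fintype_card, Fintype.card_option]

/-- normal form of elements with trace `2ε` -/
theorem sl_unip (g : Matrix.SpecialLinearGroup (Fin 2) F) (h : ¬ IsSc (g : Matrix (Fin 2) (Fin 2) F)) (ε : F) (hε : ε ^ 2 = 1)
    (ht : (g : Matrix (Fin 2) (Fin 2) F).trace = 2 * ε) :
    ∃ b : F, b ≠ 0 ∧ ∃ P : Matrix (Fin 2) (Fin 2) F, P.det = 1 ∧ (g : Matrix (Fin 2) (Fin 2) F) * P = P * !![ε, b; 0, ε] := by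
  have hd := g.2
  rw [det_fin_two] at hd
  rw [trace_fin_two] at ht
  change (g : Matrix (Fin 2) (Fin 2) F) 0 0 * (g : Matrix (Fin 2) (Fin 2) F) 1 1 - (g : Matrix (Fin 2) (Fin 2) F) 0 1 * (g : Matrix (Fin 2) (Fin 2) F) 1 0 = 1 at hd
  generalize hA : (g : Matrix (Fin 2) (Fin 2) F) = A at *
  have hs : A 1 1 = 2 * ε - A 0 0 := by linear_combination ht
  have hN : (A 0 0 - ε) ^ 2 = - (A 0 1 * A 1 0) := by
    rw [hs] at hd
    linear_combination hε - hd
  by_cases hr : A 1 0 = 0
  · have hp : A 0 0 = ε := by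
      rw [hr, mul_zero, neg_zero] at hN
      exact sub_eq_zero.mp (by simpa using hN)
    have hs' : A 1 1 = ε := by rw [hs, hp]; ring
    refine ⟨A 0 1, ?_, 1, det_one, ?_⟩
    · intro h0
      exact h ⟨h0, hr, by rw [hp, hs']⟩
    · rw [mul_one, one_mul]
      apply ext2 <;> simp [hp, hs', hr]
  · refine ⟨-A 1 0, neg_ne_zero.mpr hr, !![-(A 0 0 - ε) / A 1 0, 1; -1, 0], ?_, ?_⟩
    · rw [det_fin_two_of]; ring
    · apply ext2 <;> simp [Matrix.mul_apply, Fin.sum_univ_two]
      · field_simp
        linear_combination -hN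
      · field_simp
        ring
      · field_simp
        rw [hs]; ring

theorem unip_conj_iff {ε b b' : F} (hε : ε ^ 2 = 1) (hb : b ≠ 0) (hb' : b' ≠ 0) :
    IsConj (mkSL _ (det_U ε b hε)) (mkSL _ (det_U ε b' hε)) ↔ IsSquare (b * b') := by
  rw [sl_isConj_iff]
  constructor
  · rintro ⟨P, hP, h⟩
    rw [mkSL_coe, mkSL_coe] at h
    have h10 : P 1 0 = 0 := by
      have := congrFun (congrFun h 0) 0
      simp only [Matrix.mul_apply, Fin.sum_univ_two, of_apply, cons_val', cons_val_zero, cons_val_one, cons_val_fin_one] at this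
      have h2 : b' * P 1 0 = 0 := by linear_combination -this
      exact (mul_eq_zero.mp h2).resolve_left hb'
    have h01 := congrFun (congrFun h 0) 1
    simp only [Matrix.mul_apply, Fin.sum_univ_two, of_apply, cons_val', cons_val_zero, cons_val_one, cons_val_fin_one] at h01
    rw [det_fin_two, h10, mul_zero, sub_zero] at hP
    refine ⟨b' * P 1 1, ?_⟩
    linear_combination (b' * P 1 1) * h01 - (b * b') * hP
  · rintro ⟨r, hr⟩
    have hr0 : r ≠ 0 := by
      rintro rfl
      exact mul_ne_zero hb hb' (by rw [hr]; ring)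
    refine ⟨!![b' / r, 0; 0, r / b'], ?_, ?_⟩
    · rw [det_fin_two_of]
      field_simp
      ring
    · rw [mkSL_coe, mkSL_coe]
      apply ext2 <;> simp [Matrix.mul_apply, Fin.sum_univ_two]
      · ring
      · field_simp
        linear_combination hr
      · ring

theorem two_ne_of_odd [Fintype F] (hodd : Odd (Fintype.card F)) : (2 : F) ≠ 0 := by
  intro h
  have : Even (Fintype.card F) := by
    have hc : CharP F 2 := (CharP.charP_iff_prime_eq_zero Nat.prime_two).mpr (by exact_mod_cast h)
    rw [Nat.even_iff]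
    exact FiniteField.even_card_of_char_two (ringChar.eq F 2)
  exact (Nat.not_even_iff_odd.mpr hodd) this

theorem ringChar_ne_two {F : Type v} [Field F] (h : (2 : F) ≠ 0) : ringChar F ≠ 2 := by
  intro hc
  apply h
  have := ringChar.Nat.cast_ringChar (R := F)
  rw [hc] at this
  exact_mod_cast this

theorem isSquare_mul_of_not [Finite F] {a b : F} (ha : ¬ IsSquare a) (hb : ¬ IsSquare b) : IsSquare (a * b) := by
  classical
  let _ := Fintype.ofFinite F
  have ha0 : a ≠ 0 := fun h => ha (h ▸ IsSquare.zero)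
  have hb0 : b ≠ 0 := fun h => hb (h ▸ IsSquare.zero)
  rw [← quadraticChar_one_iff_isSquare (mul_ne_zero ha0 hb0), map_mul,
    quadraticChar_neg_one_iff_not_isSquare.mpr ha, quadraticChar_neg_one_iff_not_isSquare.mpr hb]
  norm_num

theorem sq_one_cases {a : F} (h : a ^ 2 = 1) : a = 1 ∨ a = -1 := by
  have : (a - 1) * (a + 1) = 0 := by linear_combination h
  rcases mul_eq_zero.mp this with h | h
  · left; exact sub_eq_zero.mp h
  · right; exact eq_neg_of_add_eq_zero_left h

/-- `±1` -/
def sgn (F : Type v) [Field F] (b : Bool) : F := if b then 1 else -1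

theorem sgn_sq (b : Bool) : (sgn F b) ^ 2 = 1 := by
  cases b <;> simp [sgn]

theorem sgn_inj (h2 : (2 : F) ≠ 0) {a b : Bool} (h : sgn F a = sgn F b) : a = b := by
  cases a <;> cases b
  · rfl
  · exfalso; apply h2
    simp only [sgn, Bool.false_eq_true, if_false, if_true] at h
    linear_combination -h
  · exfalso; apply h2
    simp only [sgn, Bool.false_eq_true, if_false, if_true] at h
    linear_combination h
  · rfl

theorem exists_sgn {a : F} (h : a ^ 2 = 1) : ∃ b : Bool, sgn F b = a := by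
  rcases sq_one_cases h with h | h
  · exact ⟨true, by simp [sgn, h]⟩
  · exact ⟨false, by simp [sgn, h]⟩

/-- the number of classes of `SL_2(q)`, `q` odd -/
theorem card_classes_SL_odd [Fintype F] (hodd : Odd (Fintype.card F)) :
    Nat.card (ConjClasses (Matrix.SpecialLinearGroup (Fin 2) F)) = Fintype.card F + 4 := by
  classical
  have h2 := two_ne_of_odd hodd
  obtain ⟨ν, hν⟩ := FiniteField.exists_nonsquare (ringChar_ne_two h2)
  have hν0 : ν ≠ 0 := fun h => hν (h ▸ IsSquare.zero)
  let nn : Bool → F := fun b => if b then 1 else ν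
  have hnn : ∀ b, nn b ≠ 0 := by
    intro b; cases b
    · exact hν0
    · exact one_ne_zero
  have hscd : ∀ a : Bool, (sgn F a • (1 : Matrix (Fin 2) (Fin 2) F)).det = 1 := by
    intro a
    rw [det_smul, det_one, Fintype.card_fin, sgn_sq, one_mul]
  let f : Bool ⊕ ((Bool × Bool) ⊕ {t : F // t ^ 2 ≠ 4}) → ConjClasses (Matrix.SpecialLinearGroup (Fin 2) F) := fun x => match x with
    | Sum.inl a => ConjClasses.mk (mkSL _ (hscd a))
    | Sum.inr (Sum.inl (a, b)) => ConjClasses.mk (mkSL _ (det_U (sgn F a) (nn b) (sgn_sq a)))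
    | Sum.inr (Sum.inr t) => ConjClasses.mk (mkSL _ (det_C t.1))
  have hnsU : ∀ a b, ¬ IsSc (!![sgn F a, nn b; 0, sgn F a] : Matrix (Fin 2) (Fin 2) F) := by
    intro a b h
    apply hnn b
    simpa using h.1
  have hsc : ∀ {A B : Matrix (Fin 2) (Fin 2) F} (hA : A.det = 1) (hB : B.det = 1), IsConj (mkSL A hA) (mkSL B hB) → IsSc A → A = B := by
    intro A B hA hB h hs
    obtain ⟨P, hP, h1⟩ := (sl_isConj_iff _ _).mp h
    exact sc_of_conj (by rw [hP]; exact one_ne_zero) h1 hs
  have hf : Function.Bijective f := by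
    constructor
    · intro x y h
      rcases x with a | ⟨a, b⟩ | t
      · rcases y with a' | ⟨a', b'⟩ | t'
        · have h1 := hsc _ _ (ConjClasses.mk_eq_mk_iff_isConj.mp h) (isSc_smul _)
          have h3 := congrFun (congrFun h1 0) 0
          simp only [Matrix.smul_apply, one_apply_eq, smul_eq_mul, mul_one] at h3
          rw [sgn_inj h2 h3]
        · exfalso
          have h1 := hsc _ _ (ConjClasses.mk_eq_mk_iff_isConj.mp h) (isSc_smul _)
          exact hnsU a' b' (h1 ▸ isSc_smul _)
        · exfalso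
          have h1 := hsc _ _ (ConjClasses.mk_eq_mk_iff_isConj.mp h) (isSc_smul _)
          exact not_isSc_C _ (h1 ▸ isSc_smul _)
      · rcases y with a' | ⟨a', b'⟩ | t'
        · exfalso
          have h1 := hsc _ _ (ConjClasses.mk_eq_mk_iff_isConj.mp h).symm (isSc_smul _)
          exact hnsU a b (h1 ▸ isSc_smul _)
        · have h1 := ConjClasses.mk_eq_mk_iff_isConj.mp h
          have h3 := sl_conj_trace h1
          rw [mkSL_coe, mkSL_coe, trace_fin_two_of, trace_fin_two_of] at h3
          have h4 : sgn F a = sgn F a' := by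
            apply mul_left_cancel₀ h2
            linear_combination h3
          have h5 := sgn_inj h2 h4
          subst h5
          have h6 := (unip_conj_iff (sgn_sq a) (hnn b) (hnn b')).mp h1
          have h7 : b = b' := by
            cases b <;> cases b'
            · rfl
            · exfalso; apply hν
              simpa [nn] using h6
            · exfalso; apply hν
              simpa [nn] using h6
            · rfl
          rw [h7]
        · exfalso
          have h3 := sl_conj_trace (ConjClasses.mk_eq_mk_iff_isConj.mp h)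
          rw [mkSL_coe, mkSL_coe, trace_fin_two_of, trace_fin_two_of] at h3
          apply t'.2
          have h4 : t'.1 = 2 * sgn F a := by linear_combination -h3
          rw [h4]
          linear_combination 4 * sgn_sq (F := F) a
      · rcases y with a' | ⟨a', b'⟩ | t'
        · exfalso
          have h1 := hsc _ _ (ConjClasses.mk_eq_mk_iff_isConj.mp h).symm (isSc_smul _)
          exact not_isSc_C _ (h1 ▸ isSc_smul _)
        · exfalso
          have h3 := sl_conj_trace (ConjClasses.mk_eq_mk_iff_isConj.mp h)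
          rw [mkSL_coe, mkSL_coe, trace_fin_two_of, trace_fin_two_of] at h3
          apply t.2
          have h4 : t.1 = 2 * sgn F a' := by linear_combination h3
          rw [h4]
          linear_combination 4 * sgn_sq (F := F) a'
        · have h3 := sl_conj_trace (ConjClasses.mk_eq_mk_iff_isConj.mp h)
          rw [mkSL_coe, mkSL_coe, trace_fin_two_of, trace_fin_two_of] at h3
          have : t = t' := Subtype.ext (by simpa using h3)
          rw [this]
    · intro C
      obtain ⟨g, rfl⟩ := ConjClasses.mk_surjective C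
      by_cases hg : IsSc (g : Matrix (Fin 2) (Fin 2) F)
      · obtain ⟨a, ha⟩ := exists_sgn (isSc_sq hg g.2)
        refine ⟨Sum.inl a, ?_⟩
        change ConjClasses.mk (mkSL _ _) = _
        congr 1
        apply Subtype.ext
        rw [hg.eq, ← ha]; rfl
      · by_cases ht : (g : Matrix (Fin 2) (Fin 2) F).trace ^ 2 = 4
        · have h3 : ((g : Matrix (Fin 2) (Fin 2) F).trace / 2) ^ 2 = 1 := by
            rw [div_pow, ht]
            field_simp
            norm_num
          obtain ⟨a, ha⟩ := exists_sgn h3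
          have h4 : (g : Matrix (Fin 2) (Fin 2) F).trace = 2 * sgn F a := by
            rw [ha]; field_simp
          obtain ⟨b, hb, P, hP, h5⟩ := sl_unip g hg _ (sgn_sq a) h4
          have h6 : IsConj (mkSL _ (det_U (sgn F a) b (sgn_sq a))) g := (sl_isConj_iff _ _).mpr ⟨P, hP, by rw [mkSL_coe, h5]⟩
          have h7 : ∃ c : Bool, IsSquare (nn c * b) := by
            by_cases hsq : IsSquare b
            · exact ⟨true, by simpa [nn] using hsq⟩
            · exact ⟨false, by simpa [nn] using isSquare_mul_of_not hν hsq⟩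
          obtain ⟨c, hc⟩ := h7
          refine ⟨Sum.inr (Sum.inl (a, c)), ?_⟩
          change ConjClasses.mk (mkSL _ _) = _
          rw [ConjClasses.mk_eq_mk_iff_isConj]
          exact ((unip_conj_iff (sgn_sq a) (hnn c) hb).mpr hc).trans h6
        · refine ⟨Sum.inr (Sum.inr ⟨_, ht⟩), ?_⟩
          change ConjClasses.mk (mkSL _ _) = _
          rw [ConjClasses.mk_eq_mk_iff_isConj]
          apply sl_conj
          · rw [mkSL_coe]; exact not_isSc_C _
          · exact hg
          · rw [mkSL_coe, trace_fin_two_of]; simp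
          · intro δ _
            apply form_odd hodd
            rw [mkSL_coe, trace_fin_two_of]
            simpa using ht
  have hcard : Fintype.card {t : F // t ^ 2 ≠ 4} + 2 = Fintype.card F := by
    have h3 : Fintype.card {t : F // t ^ 2 = 4} = 2 := by
      rw [Fintype.card_subtype]
      have : (Finset.univ.filter (fun t : F => t ^ 2 = 4)) = {2, -2} := by
        ext t
        simp only [Finset.mem_filter, Finset.mem_univ, true_and, Finset.mem_insert, Finset.mem_singleton]
        constructor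
        · intro ht
          have : (t - 2) * (t + 2) = 0 := by linear_combination ht
          rcases mul_eq_zero.mp this with h | h
          · left; exact sub_eq_zero.mp h
          · right; exact eq_neg_of_add_eq_zero_left h
        · rintro (rfl | rfl) <;> norm_num
      rw [this, Finset.card_pair]
      intro h
      have h5 : (2 : F) * 2 = 0 := by linear_combination h
      exact mul_ne_zero h2 h2 h5
    have h4 := Fintype.card_subtype_compl (fun t : F => t ^ 2 = 4)
    have h5 := Fintype.card_subtype_le (fun t : F => t ^ 2 = 4)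
    have h6 : Fintype.card {t : F // t ^ 2 ≠ 4} = Fintype.card {t : F // ¬ t ^ 2 = 4} := rfl
    omega
  rw [← Nat.card_congr (Equiv.ofBijective f hf), Nat.card_eq_fintype_card, Fintype.card_sum, Fintype.card_sum,
    Fintype.card_prod, Fintype.card_bool]
  omega

end CfsgLib.G2B
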