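import Cfsg.Agent.EqBase
import Cfsg.Agent.LibG2B
/-!
# Frames for GL_2, SL_2; centralizers; unipotent elements (helper26)
-/
set_option autoImplicit false
set_option linter.unusedSectionVars false

open Cfsg
open scoped MatrixGroups

namespace CfsgLib.G2C

open Matrix CfsgLib.G2B

universe v

variable {F : Type v} [Field F]

theorem mem_upper (g : GL (Fin 2) F) : g ∈ upperTriangularGL 2 F ↔ (g : Matrix (Fin 2) (Fin 2) F) 1 0 = 0 := by
  change (g : Matrix (Fin 2) (Fin 2) F).BlockTriangular id ↔ _
  constructor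
  · intro h
    exact h (show (0 : Fin 2) < 1 by decide)
  · intro h i j hij
    fin_cases i <;> fin_cases j
    · exact absurd hij (lt_irrefl _)
    · exact absurd hij (by decide)
    · exact h
    · exact absurd hij (lt_irrefl _)

theorem det_u (c : F) : (!![1, c; 0, 1] : Matrix (Fin 2) (Fin 2) F).det = 1 := by
  rw [det_fin_two_of]; ring

/-- the frame of `GL_2` -/
noncomputable def frGL (F : Type v) [Field F] : G2A.Frame F (GL (Fin 2) F) where
  mat := Units.coeHom _
  inj := fun _ _ h => Units.ext h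
  u c := mkGL !![1, c; 0, 1] (by rw [det_u]; exact one_ne_zero)
  mat_u c := rfl
  w := mkGL !![0, 1; 1, 0] (by rw [det_fin_two_of]; simp)
  ε := 1
  ε_ne := one_ne_zero
  mat_w := rfl
  B := upperTriangularGL 2 F
  mem_B := mem_upper

/-- the coercion of `SL_2` to matrices -/
def slMat (F : Type v) [Field F] : Matrix.SpecialLinearGroup (Fin 2) F →* Matrix (Fin 2) (Fin 2) F where
  toFun g := g
  map_one' := rfl
  map_mul' _ _ := rfl

theorem mem_upper_sl (g : Matrix.SpecialLinearGroup (Fin 2) F) :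
    g ∈ (upperTriangularGL 2 F).comap Matrix.SpecialLinearGroup.toGL ↔ (g : Matrix (Fin 2) (Fin 2) F) 1 0 = 0 := by
  rw [Subgroup.mem_comap, mem_upper]; rfl

/-- the frame of `SL_2` -/
noncomputable def frSL (F : Type v) [Field F] : G2A.Frame F (Matrix.SpecialLinearGroup (Fin 2) F) where
  mat := slMat F
  inj := fun _ _ h => Subtype.ext h
  u c := mkSL !![1, c; 0, 1] (det_u c)
  mat_u c := rfl
  w := mkSL !![0, 1; -1, 0] (by rw [det_fin_two_of]; ring)
  ε := -1
  ε_ne := by simp
  mat_w := rfl
  B := (upperTriangularGL 2 F).comap Matrix.SpecialLinearGroup.toGL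
  mem_B := mem_upper_sl

/-- the centralizer of a root element -/
theorem mem_centralizer_u {G : Type*} [Group G] (fr : G2A.Frame F G) {c : F} (hc : c ≠ 0) (g : G) :
    g ∈ Subgroup.centralizer ({fr.u c} : Set G) ↔ fr.mat g 1 0 = 0 ∧ fr.mat g 0 0 = fr.mat g 1 1 := by
  rw [Subgroup.mem_centralizer_singleton_iff]
  constructor
  · intro h
    have h1 : fr.mat g * fr.mat (fr.u c) = fr.mat (fr.u c) * fr.mat g := by rw [← map_mul, ← map_mul, h]
    rw [fr.mat_u] at h1
    have h00 := congrFun (congrFun h1 0) 0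
    have h01 := congrFun (congrFun h1 0) 1
    simp only [Matrix.mul_apply, Fin.sum_univ_two, of_apply, cons_val', cons_val_zero, cons_val_one, cons_val_fin_one] at h00 h01
    have h3 : c * fr.mat g 1 0 = 0 := by linear_combination -h00
    have h4 := (mul_eq_zero.mp h3).resolve_left hc
    refine ⟨h4, ?_⟩
    apply mul_right_cancel₀ hc
    linear_combination h01
  · rintro ⟨h10, h00⟩
    apply fr.inj
    rw [map_mul, map_mul, fr.mat_u]
    apply ext2 <;> simp [Matrix.mul_apply, Fin.sum_univ_two, h10, h00]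
    ring

theorem card_centralizer_u_GL [Fintype F] {c : F} (hc : c ≠ 0) :
    Nat.card (Subgroup.centralizer ({(frGL F).u c} : Set (GL (Fin 2) F))) = Fintype.card F * (Fintype.card F - 1) := by
  classical
  let f : Fˣ × F → Subgroup.centralizer ({(frGL F).u c} : Set (GL (Fin 2) F)) := fun x =>
    ⟨mkGL !![(x.1 : F), x.2; 0, (x.1 : F)] (by rw [det_fin_two_of]; simp), by
      rw [mem_centralizer_u (frGL F) hc]; exact ⟨rfl, rfl⟩⟩
  have hf : Function.Bijective f := by
    constructor
    · rintro ⟨a, b⟩ ⟨a', b'⟩ h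
      have h1 : ((mkGL !![(a : F), b; 0, (a : F)] (by rw [det_fin_two_of]; simp) : GL (Fin 2) F) : Matrix (Fin 2) (Fin 2) F) =
          ((mkGL !![(a' : F), b'; 0, (a' : F)] (by rw [det_fin_two_of]; simp) : GL (Fin 2) F) : Matrix (Fin 2) (Fin 2) F) :=
        congrArg (fun z : Subgroup.centralizer ({(frGL F).u c} : Set (GL (Fin 2) F)) => ((z : GL (Fin 2) F) : Matrix (Fin 2) (Fin 2) F)) h
      rw [mkGL_coe, mkGL_coe] at h1
      have h00 := congrFun (congrFun h1 0) 0
      have h01 := congrFun (congrFun h1 0) 1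
      simp only [of_apply, cons_val', cons_val_zero, cons_val_one, cons_val_fin_one] at h00 h01
      rw [Units.ext h00, h01]
    · rintro ⟨g, hg⟩
      have hg' := hg
      rw [mem_centralizer_u (frGL F) hc] at hg'
      obtain ⟨h1, h2⟩ := hg'
      have hne : (g : Matrix (Fin 2) (Fin 2) F) 0 0 ≠ 0 := (frGL F).B_00 (((frGL F).mem_B g).mpr h1)
      refine ⟨(Units.mk0 _ hne, (g : Matrix (Fin 2) (Fin 2) F) 0 1), ?_⟩
      apply Subtype.ext
      apply Units.ext
      apply ext2
      · rfl
      · rfl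
      · exact h1.symm
      · exact h2
  rw [← Nat.card_congr (Equiv.ofBijective f hf), Nat.card_eq_fintype_card, Fintype.card_prod, Fintype.card_units, mul_comm]

theorem card_sq_one_odd [Fintype F] (hodd : Odd (Fintype.card F)) : Nat.card {x : F // x ^ 2 = 1} = 2 := by
  classical
  rw [Nat.card_eq_fintype_card, Fintype.card_subtype]
  have : (Finset.univ.filter (fun t : F => t ^ 2 = 1)) = {1, -1} := by
    ext t
    simp only [Finset.mem_filter, Finset.mem_univ, true_and, Finset.mem_insert, Finset.mem_singleton]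
    exact ⟨sq_one_cases, by rintro (rfl | rfl) <;> norm_num⟩
  rw [this, Finset.card_pair]
  intro h
  exact two_ne_of_odd hodd (by linear_combination h)

theorem card_sq_one_even [Fintype F] [CharP F 2] : Nat.card {x : F // x ^ 2 = 1} = 1 := by
  rw [Nat.card_eq_one_iff_unique]
  refine ⟨⟨fun a b => ?_⟩, ⟨1, one_pow 2⟩⟩
  have h2 : (2 : F) = 0 := by exact_mod_cast CharP.cast_eq_zero F 2
  have key : ∀ x : F, x ^ 2 = 1 → x = 1 := by
    intro x hx
    rcases sq_one_cases hx with h | h
    · exact h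
    · rw [h]; linear_combination -h2
  exact Subtype.ext ((key _ a.2).trans (key _ b.2).symm)

theorem card_centralizer_u_SL [Fintype F] {c : F} (hc : c ≠ 0) :
    Nat.card (Subgroup.centralizer ({(frSL F).u c} : Set (Matrix.SpecialLinearGroup (Fin 2) F))) =
      Fintype.card F * Nat.card {x : F // x ^ 2 = 1} := by
  classical
  let f : {x : F // x ^ 2 = 1} × F → Subgroup.centralizer ({(frSL F).u c} : Set (Matrix.SpecialLinearGroup (Fin 2) F)) := fun x =>
    ⟨mkSL !![x.1.1, x.2; 0, x.1.1] (det_U _ _ x.1.2), by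
      rw [mem_centralizer_u (frSL F) hc]; exact ⟨rfl, rfl⟩⟩
  have hf : Function.Bijective f := by
    constructor
    · rintro ⟨a, b⟩ ⟨a', b'⟩ h
      have h1 : ((mkSL !![a.1, b; 0, a.1] (det_U _ _ a.2) : Matrix.SpecialLinearGroup (Fin 2) F) : Matrix (Fin 2) (Fin 2) F) =
          ((mkSL !![a'.1, b'; 0, a'.1] (det_U _ _ a'.2) : Matrix.SpecialLinearGroup (Fin 2) F) : Matrix (Fin 2) (Fin 2) F) :=
        congrArg (fun z : Subgroup.centralizer ({(frSL F).u c} : Set (Matrix.SpecialLinearGroup (Fin 2) F)) =>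
          ((z : Matrix.SpecialLinearGroup (Fin 2) F) : Matrix (Fin 2) (Fin 2) F)) h
      rw [mkSL_coe, mkSL_coe] at h1
      have h00 := congrFun (congrFun h1 0) 0
      have h01 := congrFun (congrFun h1 0) 1
      simp only [of_apply, cons_val', cons_val_zero, cons_val_one, cons_val_fin_one] at h00 h01
      rw [Subtype.ext h00, h01]
    · rintro ⟨g, hg⟩
      have hg' := hg
      rw [mem_centralizer_u (frSL F) hc] at hg'
      obtain ⟨h1, h2⟩ := hg'
      have hd : (g : Matrix (Fin 2) (Fin 2) F).det = 1 := g.2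
      have h3 : (g : Matrix (Fin 2) (Fin 2) F) 0 0 ^ 2 = 1 := by
        rw [det_fin_two] at hd
        have h1' : (g : Matrix (Fin 2) (Fin 2) F) 1 0 = 0 := h1
        have h2' : (g : Matrix (Fin 2) (Fin 2) F) 0 0 = (g : Matrix (Fin 2) (Fin 2) F) 1 1 := h2
        rw [h1', ← h2'] at hd
        linear_combination hd
      refine ⟨(⟨_, h3⟩, (g : Matrix (Fin 2) (Fin 2) F) 0 1), ?_⟩
      apply Subtype.ext
      apply Subtype.ext
      apply ext2
      · rfl
      · rfl
      · exact h1.symm
      · exact h2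
  rw [← Nat.card_congr (Equiv.ofBijective f hf), Nat.card_prod, Nat.card_eq_fintype_card (α := F), mul_comm]

/-- matrices of order `p` in characteristic `p` -/
theorem trace_of_pow (p : ℕ) [Fact p.Prime] [CharP F p] {A : Matrix (Fin 2) (Fin 2) F} (h : A ^ p = 1) :
    A.trace = 2 ∧ A.det = 1 := by
  have hn : (A - 1) ^ p = 0 := by
    have : ExpChar F p := ExpChar.prime Fact.out
    have : CharP (Matrix (Fin 2) (Fin 2) F) p := Matrix.charP p
    rw [sub_pow_char_of_commute _ (Commute.one_right A), h, one_pow, sub_self]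
  have hdet : A.det = 1 := by
    have h1 := congrArg Matrix.det h
    rw [det_pow, det_one] at h1
    have h2 : (A.det - 1) ^ p = 0 := by
      rw [sub_pow_char_of_commute _ (Commute.one_right _), h1, one_pow, sub_self]
    exact sub_eq_zero.mp (pow_eq_zero_iff (Fact.out : p.Prime).ne_zero |>.mp h2)
  refine ⟨?_, hdet⟩
  have h2 : (A - 1).det = 0 := by
    have h1 := congrArg Matrix.det hn
    rw [det_pow, det_zero] at h1
    exact pow_eq_zero_iff (Fact.out : p.Prime).ne_zero |>.mp h1
  rw [det_fin_two] at h2 hdet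
  rw [trace_fin_two]
  simp only [Matrix.sub_apply, one_apply_eq, ne_eq, Fin.zero_eq_one_iff, OfNat.ofNat_ne_one, not_false_eq_true,
    one_apply_ne, sub_zero, Fin.one_eq_zero_iff] at h2
  linear_combination hdet - h2

theorem not_sc_of_pow (p : ℕ) [Fact p.Prime] [CharP F p] {A : Matrix (Fin 2) (Fin 2) F} (h : A ^ p = 1) (hne : A ≠ 1) : ¬ IsSc A := by
  intro hs
  apply hne
  have h1 : (A 0 0) ^ p = 1 := by
    rw [hs.eq] at h
    have h2 := congrFun (congrFun h 0) 0
    rw [smul_pow, one_pow] at h2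
    simpa using h2
  have h2 : (A 0 0 - 1) ^ p = 0 := by
    have : ExpChar F p := ExpChar.prime Fact.out
    rw [sub_pow_char_of_commute _ (Commute.one_right _), h1, one_pow, sub_self]
  have h3 : A 0 0 = 1 := sub_eq_zero.mp (pow_eq_zero_iff (Fact.out : p.Prime).ne_zero |>.mp h2)
  rw [hs.eq, h3, one_smul]

theorem card_carrier {G : Type v} [Group G] [Finite G] (g : G) :
    Nat.card (ConjClasses.mk g).carrier * Nat.card (Subgroup.centralizer ({g} : Set G)) = Nat.card G := by
  rw [← CfsgLib.CharBasic.card_class_mul_card_centralizer g]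
  congr 1

theorem carrier_conj {G : Type v} [Group G] {g h : G} (hc : IsConj g h) : ConjClasses.mk g = ConjClasses.mk h :=
  ConjClasses.mk_eq_mk_iff_isConj.mpr hc

theorem card_GL (F : Type v) [Field F] [Fintype F] : Nat.card (GL (Fin 2) F) =
    Fintype.card F * ((Fintype.card F - 1) ^ 2 * (Fintype.card F + 1)) := Cfsg.Agent.H22.card_GL2

theorem card_SL (F : Type v) [Field F] [Fintype F] : Nat.card (Matrix.SpecialLinearGroup (Fin 2) F) =
    Fintype.card F * ((Fintype.card F - 1) * (Fintype.card F + 1)) := Cfsg.Agent.H22.card_SL2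

/-- an element of order `p` in SL_2 is nonscalar of trace two -/
theorem sl_order_p (p : ℕ) [Fact p.Prime] [CharP F p] {g : Matrix.SpecialLinearGroup (Fin 2) F} (hg : orderOf g = p) :
    ¬ IsSc (g : Matrix (Fin 2) (Fin 2) F) ∧ (g : Matrix (Fin 2) (Fin 2) F).trace = 2 := by
  have h1 : (g : Matrix (Fin 2) (Fin 2) F) ^ p = 1 := by
    have : g ^ p = 1 := by rw [← hg, pow_orderOf_eq_one]
    exact congrArg (slMat F) this
  have hne : (g : Matrix (Fin 2) (Fin 2) F) ≠ 1 := by
    intro h
    have : g = 1 := Subtype.ext h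
    rw [this, orderOf_one] at hg
    exact (Fact.out : p.Prime).one_lt.ne hg
  exact ⟨not_sc_of_pow p h1 hne, (trace_of_pow p h1).1⟩

theorem orderOf_u {G : Type*} [Group G] (fr : G2A.Frame F G) (p : ℕ) [hp : Fact p.Prime] [CharP F p] {c : F} (hc : c ≠ 0) :
    orderOf (fr.u c) = p := by
  apply orderOf_eq_prime
  · have h : ∀ k : ℕ, (fr.u c) ^ k = fr.u (k * c) := by
      intro k
      induction k with
      | zero => rw [pow_zero, Nat.cast_zero, zero_mul, fr.u_zero]
      | succ k ih => rw [pow_succ, ih, ← fr.u_add]; congr 1; push_cast; ring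
    rw [h, CharP.cast_eq_zero, zero_mul, fr.u_zero]
  · intro h
    apply hc
    apply fr.u_inj
    rw [h, fr.u_zero]

end CfsgLib.G2C
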