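import Cfsg.Agent.EqBase
import Cfsg.Agent.LibG2C
import Mathlib.Analysis.Fourier.FiniteAbelian.PontryaginDuality
/-!
# Multiplicities of characters on the root group (helper26)
-/
set_option autoImplicit false
set_option linter.unusedSectionVars false

open scoped ComplexConjugate
open Cfsg

namespace CfsgLib.G2D

open CfsgLib.CharBasic CfsgLib.CharIndA CfsgLib.G2A

universe u v

variable {F : Type v} [Field F] {G : Type u} [Group G] (fr : Frame F G)

/-- the root group as a homomorphism -/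
def uHom : Multiplicative F →* G where
  toFun c := fr.u (Multiplicative.toAdd c)
  map_one' := fr.u_zero
  map_mul' a b := fr.u_add _ _

/-- the root group inside the Borel subgroup -/
def uHomB : Multiplicative F →* fr.B where
  toFun c := ⟨fr.u (Multiplicative.toAdd c), fr.u_mem _⟩
  map_one' := Subtype.ext fr.u_zero
  map_mul' a b := Subtype.ext (fr.u_add _ _)

section
variable [Fintype F]

/-- multiplicities of additive characters are natural numbers -/
theorem mult_nat {X : Type*} [Group X] (f : Multiplicative F →* X) {χ : X → ℂ} (hχ : IsCharacter X χ) (θ : AddChar F ℂ) :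
    ∃ n : ℕ, ∑ c : F, χ (f (Multiplicative.ofAdd c)) * conj (θ c) = (Fintype.card F : ℂ) * n := by
  classical
  have h1 : IsCharacter (Multiplicative F) (fun x => χ (f x)) := isCharacter_comp hχ f
  have h2 : IsCharacter (Multiplicative F) (fun x => θ (Multiplicative.toAdd x)) := by
    let g : Multiplicative F →* ℂ := AddChar.toMonoidHom θ
    have := isCharacter_hom (MonoidHom.toHomUnits g)
    exact this
  obtain ⟨n, hn⟩ := char_mult h1 h2
  refine ⟨n, ?_⟩
  have hF : (Fintype.card F : ℂ) ≠ 0 := by exact_mod_cast Fintype.card_ne_zero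
  rw [classInner] at hn
  have h3 : (Nat.card (Multiplicative F) : ℂ) = Fintype.card F := by
    rw [Nat.card_congr (Multiplicative.toAdd), Nat.card_eq_fintype_card]
  rw [h3, inv_mul_eq_iff_eq_mul₀ hF] at hn
  rw [← hn]
  exact Fintype.sum_equiv (Multiplicative.ofAdd) _ _ (fun c => rfl)

/-- the sum over the root group, divided by `q` -/
theorem sum_nat {χ : G → ℂ} (hχ : IsCharacter G χ) : ∃ n : ℕ, ∑ c : F, χ (fr.u c) = (Fintype.card F : ℂ) * n := by
  obtain ⟨n, hn⟩ := mult_nat (uHom fr) hχ 1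
  refine ⟨n, ?_⟩
  rw [← hn]
  refine Finset.sum_congr rfl fun c _ => ?_
  simp [uHom]

theorem sum_nat_B {φ : fr.B → ℂ} (hφ : IsCharacter fr.B φ) : ∃ n : ℕ, ∑ c : F, φ ⟨fr.u c, fr.u_mem c⟩ = (Fintype.card F : ℂ) * n := by
  obtain ⟨n, hn⟩ := mult_nat (uHomB fr) hφ 1
  refine ⟨n, ?_⟩
  rw [← hn]
  refine Finset.sum_congr rfl fun c _ => ?_
  simp [uHomB]

/-- if the root group has no fixed vectors, the character sums over its cosets vanish -/
theorem sum_zero {χ : G → ℂ} (hχ : IsCharacter G χ) (h0 : ∑ c : F, χ (fr.u c) = 0) (g : G) :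
    ∑ c : F, χ (g * fr.u c) = 0 := by
  obtain ⟨n, ρ, rfl⟩ := hχ
  have hF : (Fintype.card F : ℂ) ≠ 0 := by exact_mod_cast Fintype.card_ne_zero
  set T : (Fin n → ℂ) →ₗ[ℂ] (Fin n → ℂ) := ∑ c : F, ρ (fr.u c) with hT
  have hTT : T * T = (Fintype.card F : ℂ) • T := by
    have h1 : ∀ c : F, ρ (fr.u c) * T = T := by
      intro c
      rw [hT, Finset.mul_sum]
      refine Fintype.sum_equiv (Equiv.addLeft c) _ _ fun d => ?_
      rw [← map_mul, ← fr.u_add]; rfl
    conv_lhs => rw [hT, Finset.sum_mul]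
    rw [← hT, Finset.sum_congr rfl (fun c _ => h1 c), Finset.sum_const, Finset.card_univ, ← Nat.cast_smul_eq_nsmul ℂ]
  set P : (Fin n → ℂ) →ₗ[ℂ] (Fin n → ℂ) := (Fintype.card F : ℂ)⁻¹ • T with hP
  have hPP : P * P = P := by
    rw [hP, smul_mul_smul_comm, hTT, smul_smul, mul_assoc, inv_mul_cancel₀ hF, mul_one]
  have hproj : LinearMap.IsProj (LinearMap.range P) P := by
    refine ⟨fun x => LinearMap.mem_range_self P x, ?_⟩
    rintro x ⟨y, rfl⟩
    exact LinearMap.congr_fun hPP y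
  have htr := hproj.trace
  have h2 : LinearMap.trace ℂ _ P = 0 := by
    rw [hP, map_smul, hT, map_sum]
    change (Fintype.card F : ℂ)⁻¹ • ∑ c : F, ρ.character (fr.u c) = 0
    rw [h0, smul_zero]
  rw [h2] at htr
  have h3 : Module.finrank ℂ (LinearMap.range P) = 0 := by exact_mod_cast htr.symm
  have h4 : P = 0 := by
    rw [← LinearMap.range_eq_bot]
    exact Submodule.finrank_eq_zero.mp h3
  have h5 : T = 0 := by
    have : T = (Fintype.card F : ℂ) • P := by rw [hP, smul_smul, mul_inv_cancel₀ hF, one_smul]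
    rw [this, h4, smul_zero]
  have h6 : ∑ c : F, ρ.character (g * fr.u c) = LinearMap.trace ℂ _ (ρ g * T) := by
    rw [hT, Finset.mul_sum, map_sum]
    refine Finset.sum_congr rfl fun c _ => ?_
    rw [← map_mul]; rfl
  rw [h6, h5, mul_zero, map_zero]

end

section classify

variable [Fintype F] [DecidableEq F] [Fintype G]

theorem hom_L_one {f : fr.B →* ℂˣ} {L : F → F → ℂ} (hL : ∀ b, fr.lam L b = (f b : ℂ)) : L 1 1 = 1 := by
  have := hL 1
  rw [map_one] at this
  simpa [Frame.lam] using this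

theorem sum_ind {f : fr.B →* ℂˣ} {L : F → F → ℂ} (hL : ∀ b, fr.lam L b = (f b : ℂ)) :
    ∑ c : F, indFun fr.B (fr.lam L) (fr.u c) = (Fintype.card F : ℂ) * 2 := by
  have h := fr.ind_sum_u L (one_mem fr.B)
  simp only [one_mul, map_one, Matrix.one_apply_eq] at h
  rw [h, hom_L_one fr hL]
  ring

/-- constituents of the induced characters have fixed vectors for the root group -/
theorem sum_ne_of_inner {f : fr.B →* ℂˣ} {L : F → F → ℂ} (hf : ∀ c, f ⟨fr.u c, fr.u_mem c⟩ = 1) (hL : ∀ b, fr.lam L b = (f b : ℂ))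
    {χ : G → ℂ} (hχ : IsIrrCharacter G χ) (h : classInner χ (indFun fr.B (fr.lam L)) ≠ 0) :
    ∃ n : ℕ, 0 < n ∧ ∑ c : F, χ (fr.u c) = (Fintype.card F : ℂ) * n := by
  classical
  let _ : Fintype fr.B := Fintype.ofFinite _
  rw [frobenius' _ _ (irr_classFun hχ)] at h
  have e1 : fr.lam L = fun b => (f b : ℂ) := funext hL
  rw [e1] at h
  obtain ⟨ψ, hψ, hs⟩ := CfsgLib.CharMore.split_off (isCharacter_restrict (irr_isCharacter hχ) fr.B) (isIrrCharacter_hom f) h
  obtain ⟨n, hn⟩ := sum_nat_B fr hψ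
  refine ⟨n + 1, Nat.succ_pos _, ?_⟩
  have h1 : ∀ c : F, χ (fr.u c) = 1 + ψ ⟨fr.u c, fr.u_mem c⟩ := by
    intro c
    have := congrFun hs ⟨fr.u c, fr.u_mem c⟩
    simp only [Pi.add_apply, hf, Units.val_one] at this
    exact this
  rw [Finset.sum_congr rfl (fun c _ => h1 c), Finset.sum_add_distrib, hn, Finset.sum_const, Finset.card_univ, nsmul_eq_mul]
  push_cast
  ring

/-- classification of the irreducible characters with fixed vectors for the root group -/
theorem K_cases {χ : G → ℂ} (hχ : IsIrrCharacter G χ) (h0 : ∑ c : F, χ (fr.u c) ≠ 0) :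
    ∃ (f : fr.B →* ℂˣ) (L : F → F → ℂ), (∀ c, f ⟨fr.u c, fr.u_mem c⟩ = 1) ∧ (∀ b, fr.lam L b = (f b : ℂ)) ∧
      ((f ≠ f.comp fr.sw ∧ χ = indFun fr.B (fr.lam L) ∧ ∑ c : F, χ (fr.u c) = (Fintype.card F : ℂ) * 2) ∨
      (f = f.comp fr.sw ∧ ∑ c : F, χ (fr.u c) = (Fintype.card F : ℂ) ∧
        ∃ ψ : G → ℂ, IsIrrCharacter G ψ ∧ ψ ≠ χ ∧ ∑ c : F, ψ (fr.u c) = (Fintype.card F : ℂ) ∧
          indFun fr.B (fr.lam L) = χ + ψ)) := by
  classical
  let _ : Fintype fr.B := Fintype.ofFinite _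
  have hF : (Fintype.card F : ℂ) ≠ 0 := by exact_mod_cast Fintype.card_ne_zero
  obtain ⟨f, L, hf, hL, hne⟩ := fr.exists_lam hχ h0
  refine ⟨f, L, hf, hL, ?_⟩
  have hnorm := fr.inner_hom f f L L hL hL
  rw [if_pos rfl] at hnorm
  have hchar : IsCharacter G (indFun fr.B (fr.lam L)) := by
    apply isCharacter_ind
    have e1 : fr.lam L = fun b => (f b : ℂ) := funext hL
    rw [e1]; exact isCharacter_hom f
  by_cases h : f = f.comp fr.sw
  · right
    rw [if_pos h] at hnorm
    have hne' : classInner (indFun fr.B (fr.lam L)) χ ≠ 0 := by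
      intro h1
      apply hne
      rw [← CharBasic.inner_conj_symm, h1, map_zero]
    obtain ⟨ψ, hψ, hψχ, hs⟩ := norm_two_split hchar (by rw [hnorm]; norm_num) hχ hne'
    have hneψ : classInner ψ (indFun fr.B (fr.lam L)) ≠ 0 := by
      rw [hs, CharBasic.inner_add_right, irr_inner_ne hψ hχ hψχ, irr_inner_self hψ]
      norm_num
    obtain ⟨n, hn, hn'⟩ := sum_ne_of_inner fr hf hL hχ hne
    obtain ⟨m, hm, hm'⟩ := sum_ne_of_inner fr hf hL hψ hneψ
    have h1 := sum_ind fr hL
    rw [hs] at h1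
    simp only [Pi.add_apply, Finset.sum_add_distrib] at h1
    rw [hn', hm', ← mul_add] at h1
    have h2 := mul_left_cancel₀ hF h1
    have h3 : n + m = 2 := by exact_mod_cast h2
    have hn1 : n = 1 := by omega
    have hm1 : m = 1 := by omega
    refine ⟨h, ?_, ψ, hψ, hψχ, ?_, hs⟩
    · rw [hn', hn1]; simp
    · rw [hm', hm1]; simp
  · left
    rw [if_neg h, add_zero] at hnorm
    have hirr : IsIrrCharacter G (indFun fr.B (fr.lam L)) := irr_iff_norm_one.mpr ⟨hchar, hnorm⟩
    have he : χ = indFun fr.B (fr.lam L) := by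
      by_contra hcon
      exact hne (irr_inner_ne hχ hirr hcon)
    refine ⟨h, he, ?_⟩
    rw [he]
    exact sum_ind fr hL

end classify

end CfsgLib.G2D
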