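import Cfsg.Agent.EqBase
import Cfsg.Agent.LibG2D
/-!
# Principal series of GL_2 and SL_2 (helper26)
-/
set_option autoImplicit false
set_option linter.unusedSectionVars false

open scoped ComplexConjugate
open Cfsg

namespace CfsgLib.G2E

open CfsgLib.CharBasic CfsgLib.CharIndA CfsgLib.G2A CfsgLib.G2B CfsgLib.G2C CfsgLib.G2D

universe u v

section general

variable {F : Type v} [Field F] {G : Type u} [Group G] (fr : Frame F G)

/-- linear characters of the Borel subgroup from a multiplicative function of the diagonal -/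
noncomputable def homOf (L : F → F → ℂ) (h1 : L 1 1 = 1) (hm : ∀ a b c d : F, L (a * c) (b * d) = L a b * L c d) : fr.B →* ℂˣ :=
  MonoidHom.toHomUnits
    { toFun := fun b => fr.lam L b
      map_one' := by
        simp only [Frame.lam, OneMemClass.coe_one, map_one, Matrix.one_apply_eq]
        exact h1
      map_mul' := fun a b => by
        simp only [Frame.lam, Subgroup.coe_mul]
        rw [fr.B_mul_00 b.2, fr.B_mul_11 a.2, hm] }

theorem homOf_apply (L : F → F → ℂ) (h1 : L 1 1 = 1) (hm : ∀ a b c d : F, L (a * c) (b * d) = L a b * L c d) (b : fr.B) :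
    fr.lam L b = (homOf fr L h1 hm b : ℂ) := rfl

theorem homOf_u (L : F → F → ℂ) (h1 : L 1 1 = 1) (hm : ∀ a b c d : F, L (a * c) (b * d) = L a b * L c d) (c : F) :
    homOf fr L h1 hm ⟨fr.u c, fr.u_mem c⟩ = 1 := by
  apply Units.ext
  rw [← homOf_apply]
  simp only [Frame.lam, fr.mat_u, Units.val_one]
  simpa using h1

theorem comp_sw {f : fr.B →* ℂˣ} {L : F → F → ℂ} (hL : ∀ b, fr.lam L b = (f b : ℂ)) (b : fr.B) :
    ((f.comp fr.sw) b : ℂ) = L (fr.mat b 1 1) (fr.mat b 0 0) := by
  rw [MonoidHom.comp_apply, ← hL, fr.lam_sw]; rfl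

theorem comp_sw_sw {f : fr.B →* ℂˣ} {L : F → F → ℂ} (hL : ∀ b, fr.lam L b = (f b : ℂ)) :
    (f.comp fr.sw).comp fr.sw = f := by
  ext b
  rw [MonoidHom.comp_apply, comp_sw fr hL, fr.mat_sw, ← hL]
  simp [Frame.lam]

theorem eq_comp_sw_iff {f f' : fr.B →* ℂˣ} {L L' : F → F → ℂ} (hL : ∀ b, fr.lam L b = (f b : ℂ)) (hL' : ∀ b, fr.lam L' b = (f' b : ℂ)) :
    f = f'.comp fr.sw ↔ ∀ b : fr.B, L (fr.mat b 0 0) (fr.mat b 1 1) = L' (fr.mat b 1 1) (fr.mat b 0 0) := by
  constructor
  · intro h b
    rw [← comp_sw fr hL', ← h, ← hL]; rfl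
  · intro h
    ext b
    rw [comp_sw fr hL', ← h b, ← hL]; rfl

theorem eq_iff {f f' : fr.B →* ℂˣ} {L L' : F → F → ℂ} (hL : ∀ b, fr.lam L b = (f b : ℂ)) (hL' : ∀ b, fr.lam L' b = (f' b : ℂ)) :
    f = f' ↔ ∀ b : fr.B, L (fr.mat b 0 0) (fr.mat b 1 1) = L' (fr.mat b 0 0) (fr.mat b 1 1) := by
  constructor
  · intro h b
    have h1 := hL b
    have h2 := hL' b
    rw [h, ← h2] at h1
    exact h1
  · intro h
    ext b
    rw [← hL, ← hL']
    exact h b

variable [Fintype F] [DecidableEq F] [Fintype G]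

theorem char_ind {f : fr.B →* ℂˣ} {L : F → F → ℂ} (hL : ∀ b, fr.lam L b = (f b : ℂ)) : IsCharacter G (indFun fr.B (fr.lam L)) := by
  apply isCharacter_ind
  have e1 : fr.lam L = fun b => (f b : ℂ) := funext hL
  rw [e1]; exact isCharacter_hom f

theorem irr_ind_iff {f : fr.B →* ℂˣ} {L : F → F → ℂ} (hL : ∀ b, fr.lam L b = (f b : ℂ)) :
    IsIrrCharacter G (indFun fr.B (fr.lam L)) ↔ f ≠ f.comp fr.sw := by
  classical
  have h1 := fr.inner_hom f f L L hL hL
  rw [if_pos rfl] at h1
  rw [irr_iff_norm_one]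
  constructor
  · rintro ⟨-, h2⟩ h3
    rw [if_pos h3, h2] at h1
    norm_num at h1
  · intro h2
    rw [if_neg h2, add_zero] at h1
    exact ⟨char_ind fr hL, h1⟩

theorem ind_eq_iff {f f' : fr.B →* ℂˣ} {L L' : F → F → ℂ} (hL : ∀ b, fr.lam L b = (f b : ℂ)) (hL' : ∀ b, fr.lam L' b = (f' b : ℂ)) :
    indFun fr.B (fr.lam L) = indFun fr.B (fr.lam L') ↔ f = f' ∨ f = f'.comp fr.sw := by
  classical
  have h1 := fr.inner_hom f f L L hL hL
  have h2 := fr.inner_hom f' f' L' L' hL' hL'
  have h3 := fr.inner_hom f f' L L' hL hL'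
  have h4 := fr.inner_hom f' f L' L hL' hL
  rw [if_pos rfl] at h1 h2
  constructor
  · intro h
    by_contra hcon
    push Not at hcon
    rw [if_neg hcon.1, if_neg hcon.2, ← h, h1] at h3
    by_cases h5 : f = f.comp fr.sw
    · rw [if_pos h5] at h3; norm_num at h3
    · rw [if_neg h5] at h3; norm_num at h3
  · rintro (h | h)
    · have : fr.lam L = fr.lam L' := by
        funext b
        rw [hL, hL', h]
      rw [this]
    · have h5 : f' = f.comp fr.sw := by rw [h, comp_sw_sw fr hL']
      have h6 : classInner (indFun fr.B (fr.lam L) - indFun fr.B (fr.lam L')) (indFun fr.B (fr.lam L) - indFun fr.B (fr.lam L')) = 0 := by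
        rw [CharBasic.inner_sub_left, CharBasic.inner_sub_right, CharBasic.inner_sub_right, h1, h2, h3, h4]
        rw [if_pos h, if_pos h5]
        by_cases h7 : f = f.comp fr.sw
        · have h8 : f = f' := by rw [h5]; exact h7
          have h9 : f' = f'.comp fr.sw := by rw [← h8]; exact h7
          rw [if_pos h7, if_pos h9, if_pos h8, if_pos h8.symm]
          ring
        · have h8 : f ≠ f' := by
            intro h8
            apply h7
            conv_lhs => rw [h8, h5]
          have h9 : f' ≠ f'.comp fr.sw := by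
            intro h9
            apply h8
            rw [h, ← h9]
          rw [if_neg h7, if_neg h9, if_neg h8, if_neg (Ne.symm h8)]
          ring
      exact sub_eq_zero.mp (CharBasic.inner_self_eq_zero h6)

end general

section glpart

variable {F : Type v} [Field F] [Fintype F] [DecidableEq F]

/-- the pair of multiplicative characters -/
noncomputable def LL (α β : MulChar F ℂ) : F → F → ℂ := fun a d => α a * β d

theorem LL_one (α β : MulChar F ℂ) : LL α β 1 1 = 1 := by simp [LL]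

theorem LL_mul (α β : MulChar F ℂ) (a b c d : F) : LL α β (a * c) (b * d) = LL α β a b * LL α β c d := by
  simp only [LL, map_mul]; ring

/-- diagonal elements of GL_2 -/
noncomputable def dgGL (a d : Fˣ) : GL (Fin 2) F := mkGL !![(a : F), 0; 0, (d : F)] (by rw [Matrix.det_fin_two_of]; simp)

theorem dgGL_mem (a d : Fˣ) : dgGL a d ∈ (frGL F).B := ((frGL F).mem_B _).mpr rfl

/-- diagonal elements of SL_2 -/
noncomputable def dgSL (a : Fˣ) : Matrix.SpecialLinearGroup (Fin 2) F := mkSL !![(a : F), 0; 0, ((a⁻¹ : Fˣ) : F)] (by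
  rw [Matrix.det_fin_two_of]; simp)

theorem dgSL_mem (a : Fˣ) : dgSL a ∈ (frSL F).B := ((frSL F).mem_B _).mpr rfl

theorem mulChar_ext_units {α β : MulChar F ℂ} (h : ∀ a : Fˣ, α a = β a) : α = β := MulChar.ext h

/-- the linear character of the Borel subgroup of GL_2 -/
noncomputable def fGL (α β : MulChar F ℂ) : (frGL F).B →* ℂˣ := homOf (frGL F) (LL α β) (LL_one α β) (fun a b c d => LL_mul α β a b c d)

theorem fGL_apply (α β : MulChar F ℂ) (b : (frGL F).B) : (frGL F).lam (LL α β) b = (fGL α β b : ℂ) := rfl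

theorem fGL_eq_iff (α β α' β' : MulChar F ℂ) : fGL α β = fGL α' β' ↔ α = α' ∧ β = β' := by
  rw [eq_iff (frGL F) (fGL_apply α β) (fGL_apply α' β')]
  constructor
  · intro h
    constructor
    · apply mulChar_ext_units
      intro a
      have := h ⟨dgGL a 1, dgGL_mem a 1⟩
      simpa [LL, dgGL, frGL, mkGL_coe] using this
    · apply mulChar_ext_units
      intro a
      have := h ⟨dgGL 1 a, dgGL_mem 1 a⟩
      simpa [LL, dgGL, frGL, mkGL_coe] using this
  · rintro ⟨rfl, rfl⟩ b; rfl

theorem fGL_sw_iff (α β α' β' : MulChar F ℂ) : fGL α β = (fGL α' β').comp (frGL F).sw ↔ α = β' ∧ β = α' := by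
  rw [eq_comp_sw_iff (frGL F) (fGL_apply α β) (fGL_apply α' β')]
  constructor
  · intro h
    constructor
    · apply mulChar_ext_units
      intro a
      have := h ⟨dgGL a 1, dgGL_mem a 1⟩
      simpa [LL, dgGL, frGL, mkGL_coe] using this
    · apply mulChar_ext_units
      intro a
      have := h ⟨dgGL 1 a, dgGL_mem 1 a⟩
      simpa [LL, dgGL, frGL, mkGL_coe] using this
  · rintro ⟨rfl, rfl⟩ b
    simp only [LL]; ring

/-- the linear character of the Borel subgroup of SL_2 -/
noncomputable def fSL (α : MulChar F ℂ) : (frSL F).B →* ℂˣ := homOf (frSL F) (fun a _ => α a) (by simp) (fun a _ c _ => by simp)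

theorem fSL_apply (α : MulChar F ℂ) (b : (frSL F).B) : (frSL F).lam (fun a _ => α a) b = (fSL α b : ℂ) := rfl

theorem fSL_sw_iff (α β : MulChar F ℂ) : fSL α = (fSL β).comp (frSL F).sw ↔ α * β = 1 := by
  rw [eq_comp_sw_iff (frSL F) (fSL_apply α) (fSL_apply β)]
  have key : ∀ a : Fˣ, (β (a : F)) * β ((a⁻¹ : Fˣ) : F) = 1 := by
    intro a
    rw [← map_mul]; simp
  constructor
  · intro h
    apply mulChar_ext_units
    intro a
    have h1 := h ⟨dgSL a, dgSL_mem a⟩
    have h2 : α (a : F) = β ((a⁻¹ : Fˣ) : F) := h1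
    rw [MulChar.mul_apply, h2, MulChar.one_apply_coe, mul_comm, key]
  · intro h b
    have hb := (frSL F).B_00 b.2
    have hd : (b : Matrix.SpecialLinearGroup (Fin 2) F).1.det = 1 := b.1.2
    have h10 : (b : Matrix.SpecialLinearGroup (Fin 2) F).1 1 0 = 0 := ((frSL F).mem_B _).mp b.2
    rw [Matrix.det_fin_two, h10, mul_zero, sub_zero] at hd
    set a : Fˣ := Units.mk0 _ hb with ha
    have e1 : (frSL F).mat (b : Matrix.SpecialLinearGroup (Fin 2) F) 0 0 = (a : F) := rfl
    have e2 : (frSL F).mat (b : Matrix.SpecialLinearGroup (Fin 2) F) 1 1 = ((a⁻¹ : Fˣ) : F) := by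
      rw [Units.val_inv_eq_inv_val]
      exact eq_inv_of_mul_eq_one_right hd
    rw [e1, e2]
    have h3 : α (a : F) * β (a : F) = 1 := by
      rw [← MulChar.mul_apply, h, MulChar.one_apply_coe]
    have h4 := key a
    have h5 : β (a : F) ≠ 0 := left_ne_zero_of_mul_eq_one h4
    apply mul_right_cancel₀ h5
    rw [h3, ← h4]; ring

end glpart

end CfsgLib.G2E
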