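import Cfsg.Agent.EqBase
import Cfsg.Agent.LibG2E
/-!
# Irreducible characters of GL_2(q) and of SL_2(q), q even: multiplicities on the root group (helper26)
-/
set_option autoImplicit false
set_option linter.unusedSectionVars false

open scoped ComplexConjugate
open Cfsg

namespace CfsgLib.G2F

open CfsgLib.CharBasic CfsgLib.CharIndA CfsgLib.G2A CfsgLib.G2B CfsgLib.G2C CfsgLib.G2D CfsgLib.G2E

universe u v

section general

variable {F : Type v} [Field F] {G : Type u} [Group G] (fr : Frame F G) [Fintype F]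

/-- sum over the nonzero elements -/
theorem sum_const {φ : F → ℂ} {A : ℂ} (h : ∀ c : F, c ≠ 0 → φ c = A) : ∑ c : F, φ c = φ 0 + ((Fintype.card F : ℂ) - 1) * A := by
  classical
  rw [← Finset.add_sum_erase _ _ (Finset.mem_univ (0 : F))]
  congr 1
  rw [Finset.sum_congr rfl (fun c hc => h c (Finset.ne_of_mem_erase hc)), Finset.sum_const, Finset.card_erase_of_mem (Finset.mem_univ _),
    Finset.card_univ, nsmul_eq_mul, Nat.cast_sub Fintype.card_pos]
  simp

theorem exists_addChar : ∃ θ : AddChar F ℂ, θ ≠ 1 := by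
  obtain ⟨θ, hθ⟩ := (AddChar.exists_apply_ne_zero (α := F) (a := 1)).mpr one_ne_zero
  exact ⟨θ, fun h => hθ (by rw [h]; simp)⟩

theorem conj_sum {θ : AddChar F ℂ} (hθ : θ ≠ 1) : ∑ c : F, conj (θ c) = 0 := by
  rw [← map_sum, AddChar.sum_eq_zero_of_ne_one hθ, map_zero]

/-- the two multiplicities when all nontrivial root elements are conjugate -/
theorem KM [Fintype G] (hconj : ∀ c : F, c ≠ 0 → IsConj (fr.u 1) (fr.u c)) {χ : G → ℂ} (hχ : IsCharacter G χ) :
    ∃ k m : ℕ, ∑ c : F, χ (fr.u c) = (Fintype.card F : ℂ) * k ∧ χ 1 = k + ((Fintype.card F : ℂ) - 1) * m ∧ χ (fr.u 1) = k - m := by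
  classical
  have hF : (Fintype.card F : ℂ) ≠ 0 := by exact_mod_cast Fintype.card_ne_zero
  have hcl : ∀ c : F, c ≠ 0 → χ (fr.u c) = χ (fr.u 1) := by
    intro c hc
    obtain ⟨x, hx⟩ := isConj_iff.mp (hconj c hc)
    rw [← hx, char_classFun hχ]
  obtain ⟨k, hk⟩ := sum_nat fr hχ
  obtain ⟨θ, hθ⟩ := exists_addChar (F := F)
  obtain ⟨m, hm⟩ := mult_nat (uHom fr) hχ θ
  have h1 := sum_const hcl
  rw [hk, fr.u_zero] at h1
  have h2 : ∑ c : F, χ (uHom fr (Multiplicative.ofAdd c)) * conj (θ c) = χ 1 - χ (fr.u 1) := by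
    have h3 : ∀ c : F, χ (uHom fr (Multiplicative.ofAdd c)) * conj (θ c) = (if c = 0 then χ 1 - χ (fr.u 1) else 0) + χ (fr.u 1) * conj (θ c) := by
      intro c
      by_cases hc : c = 0
      · rw [if_pos hc, hc]
        have : uHom fr (Multiplicative.ofAdd 0) = 1 := fr.u_zero
        rw [this, AddChar.map_zero_eq_one, map_one]
        ring
      · rw [if_neg hc, zero_add]
        have : uHom fr (Multiplicative.ofAdd c) = fr.u c := rfl
        rw [this, hcl c hc]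
    rw [Finset.sum_congr rfl (fun c _ => h3 c), Finset.sum_add_distrib, ← Finset.mul_sum, conj_sum hθ, mul_zero, add_zero]
    simp
  rw [h2] at hm
  refine ⟨k, m, hk, ?_, ?_⟩
  · apply mul_left_cancel₀ hF
    linear_combination (-1 : ℂ) * h1 + ((Fintype.card F : ℂ) - 1) * hm
  · apply mul_left_cancel₀ hF
    linear_combination (-1 : ℂ) * h1 - hm

/-- natural-number sums of products of multiplicities -/
theorem sums [Fintype G] (hconj : ∀ c : F, c ≠ 0 → IsConj (fr.u 1) (fr.u c)) (K M : IrrCharacter G → ℕ)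
    (h1 : ∀ χ : IrrCharacter G, (χ : G → ℂ) 1 = K χ + ((Fintype.card F : ℂ) - 1) * M χ)
    (h2 : ∀ χ : IrrCharacter G, (χ : G → ℂ) (fr.u 1) = K χ - M χ) :
    (Fintype.card F : ℂ) ^ 2 * ∑ χ, (M χ : ℂ) ^ 2 = Nat.card G + Nat.card (Subgroup.centralizer ({fr.u 1} : Set G)) ∧
    (Fintype.card F : ℂ) ^ 2 * ∑ χ, (K χ : ℂ) ^ 2 = Nat.card G + ((Fintype.card F : ℂ) - 1) ^ 2 * Nat.card (Subgroup.centralizer ({fr.u 1} : Set G)) ∧
    (Fintype.card F : ℂ) ^ 2 * ∑ χ, (K χ : ℂ) * (M χ : ℂ) = Nat.card G - ((Fintype.card F : ℂ) - 1) * Nat.card (Subgroup.centralizer ({fr.u 1} : Set G)) := by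
  classical
  have hne : fr.u 1 ≠ 1 := by
    intro h
    have := fr.u_inj (h.trans fr.u_zero.symm)
    exact one_ne_zero this
  have o11 := column_orthogonality (1 : G) 1
  rw [if_pos (IsConj.refl 1)] at o11
  have hc1 : Nat.card (Subgroup.centralizer ({(1 : G)} : Set G)) = Nat.card G := by
    have : Subgroup.centralizer ({(1 : G)} : Set G) = ⊤ := by
      rw [eq_top_iff]
      intro x _
      rw [Subgroup.mem_centralizer_singleton_iff]; simp
    rw [this, Subgroup.card_top]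
  rw [hc1] at o11
  have ouu := column_orthogonality (fr.u 1) (fr.u 1)
  rw [if_pos (IsConj.refl _)] at ouu
  have o1u := column_orthogonality (1 : G) (fr.u 1)
  rw [if_neg (fun h => hne (isConj_one_right.mp h))] at o1u
  have ou1 := column_orthogonality (fr.u 1) (1 : G)
  rw [if_neg (fun h => hne (isConj_one_left.mp h))] at ou1
  have hK : ∀ χ : IrrCharacter G, (Fintype.card F : ℂ) * K χ = (χ : G → ℂ) 1 + ((Fintype.card F : ℂ) - 1) * (χ : G → ℂ) (fr.u 1) := by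
    intro χ; rw [h1, h2]; ring
  have hM : ∀ χ : IrrCharacter G, (Fintype.card F : ℂ) * M χ = (χ : G → ℂ) 1 - (χ : G → ℂ) (fr.u 1) := by
    intro χ; rw [h1, h2]; ring
  have hKc : ∀ χ : IrrCharacter G, (Fintype.card F : ℂ) * K χ = conj ((χ : G → ℂ) 1) + ((Fintype.card F : ℂ) - 1) * conj ((χ : G → ℂ) (fr.u 1)) := by
    intro χ
    have := congrArg conj (hK χ)
    simpa using this
  have hMc : ∀ χ : IrrCharacter G, (Fintype.card F : ℂ) * M χ = conj ((χ : G → ℂ) 1) - conj ((χ : G → ℂ) (fr.u 1)) := by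
    intro χ
    have := congrArg conj (hM χ)
    simpa using this
  refine ⟨?_, ?_, ?_⟩
  · rw [Finset.mul_sum]
    have h3 : ∀ χ : IrrCharacter G, (Fintype.card F : ℂ) ^ 2 * (M χ : ℂ) ^ 2 = (χ : G → ℂ) 1 * conj ((χ : G → ℂ) 1) - (χ : G → ℂ) 1 * conj ((χ : G → ℂ) (fr.u 1)) -
        (χ : G → ℂ) (fr.u 1) * conj ((χ : G → ℂ) 1) + (χ : G → ℂ) (fr.u 1) * conj ((χ : G → ℂ) (fr.u 1)) := by
      intro χ
      linear_combination ((Fintype.card F : ℂ) * M χ) * hM χ + ((χ : G → ℂ) 1 - (χ : G → ℂ) (fr.u 1)) * hMc χ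
    rw [Finset.sum_congr rfl (fun χ _ => h3 χ), Finset.sum_add_distrib, Finset.sum_sub_distrib, Finset.sum_sub_distrib, o11, o1u, ou1, ouu]
    ring
  · rw [Finset.mul_sum]
    have h3 : ∀ χ : IrrCharacter G, (Fintype.card F : ℂ) ^ 2 * (K χ : ℂ) ^ 2 = (χ : G → ℂ) 1 * conj ((χ : G → ℂ) 1) + ((Fintype.card F : ℂ) - 1) * ((χ : G → ℂ) 1 * conj ((χ : G → ℂ) (fr.u 1))) +
        ((Fintype.card F : ℂ) - 1) * ((χ : G → ℂ) (fr.u 1) * conj ((χ : G → ℂ) 1)) + ((Fintype.card F : ℂ) - 1) ^ 2 * ((χ : G → ℂ) (fr.u 1) * conj ((χ : G → ℂ) (fr.u 1))) := by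
      intro χ
      linear_combination ((Fintype.card F : ℂ) * K χ) * hK χ + ((χ : G → ℂ) 1 + ((Fintype.card F : ℂ) - 1) * (χ : G → ℂ) (fr.u 1)) * hKc χ
    rw [Finset.sum_congr rfl (fun χ _ => h3 χ), Finset.sum_add_distrib, Finset.sum_add_distrib, Finset.sum_add_distrib, ← Finset.mul_sum, ← Finset.mul_sum, ← Finset.mul_sum, o11, o1u, ou1, ouu]
    ring
  · rw [Finset.mul_sum]
    have h3 : ∀ χ : IrrCharacter G, (Fintype.card F : ℂ) ^ 2 * ((K χ : ℂ) * (M χ : ℂ)) = (χ : G → ℂ) 1 * conj ((χ : G → ℂ) 1) - ((χ : G → ℂ) 1 * conj ((χ : G → ℂ) (fr.u 1))) +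
        ((Fintype.card F : ℂ) - 1) * ((χ : G → ℂ) (fr.u 1) * conj ((χ : G → ℂ) 1)) - ((Fintype.card F : ℂ) - 1) * ((χ : G → ℂ) (fr.u 1) * conj ((χ : G → ℂ) (fr.u 1))) := by
      intro χ
      linear_combination ((Fintype.card F : ℂ) * M χ) * hK χ + ((χ : G → ℂ) 1 + ((Fintype.card F : ℂ) - 1) * (χ : G → ℂ) (fr.u 1)) * hMc χ
    rw [Finset.sum_congr rfl (fun χ _ => h3 χ), Finset.sum_sub_distrib, Finset.sum_add_distrib, Finset.sum_sub_distrib, ← Finset.mul_sum, ← Finset.mul_sum, o11, o1u, ou1, ouu]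
    ring

end general

end CfsgLib.G2F
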