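import Cfsg.Agent.EqBase
import Cfsg.Agent.LibG2F
/-!
# Counting the irreducible characters of GL_2(q) and SL_2(q), q even (helper26)
-/
set_option autoImplicit false
set_option linter.unusedSectionVars false

open scoped ComplexConjugate
open Cfsg

namespace CfsgLib.G2G

open CfsgLib.CharBasic CfsgLib.CharIndA CfsgLib.G2A CfsgLib.G2B CfsgLib.G2C CfsgLib.G2D CfsgLib.G2E CfsgLib.G2F

universe u v

section numeric

variable {ι : Type*} [Fintype ι]

theorem le_one (M : ι → ℕ) (N l : ℕ) (hsum : ∑ i, M i ^ 2 = N) (hcard : Fintype.card ι = N + l)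
    (hl : (Finset.univ.filter (fun i => M i = 0)).card ≤ l) :
    (∀ i, M i ≤ 1) ∧ (Finset.univ.filter (fun i => M i = 0)).card = l := by
  have h1 : ∑ i, (if M i = 0 then 1 else 0) = (Finset.univ.filter (fun i => M i = 0)).card := by
    rw [Finset.card_filter]
  have h2 : ∑ i : ι, (if M i = 0 then 0 else 1) + ∑ i, (if M i = 0 then 1 else 0) = Fintype.card ι := by
    rw [← Finset.sum_add_distrib, Fintype.card_eq_sum_ones]
    refine Finset.sum_congr rfl fun i _ => ?_
    split_ifs <;> rfl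
  have h3 : ∀ i ∈ Finset.univ, (if M i = 0 then 0 else 1) ≤ M i ^ 2 := by
    intro i _
    split_ifs with h
    · exact Nat.zero_le _
    · exact Nat.one_le_pow _ _ (Nat.pos_of_ne_zero h)
  have h4 := Finset.sum_le_sum h3
  have h5 : ∑ i : ι, (if M i = 0 then 0 else 1) = ∑ i, M i ^ 2 := by omega
  have h6 := (Finset.sum_eq_sum_iff_of_le h3).mp h5
  refine ⟨fun i => ?_, by omega⟩
  have h7 := h6 i (Finset.mem_univ i)
  split_ifs at h7 with h
  · omega
  · nlinarith

theorem counts (K M : ι → ℕ) (hM : ∀ i, M i ≤ 1) (hK : ∀ i, K i ≤ 2) (h0 : ∀ i, M i = 0 → K i = 1) :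
    (Finset.univ.filter (fun i => M i = 0)).card + (Finset.univ.filter (fun i => K i = 1 ∧ M i = 1)).card +
      (Finset.univ.filter (fun i => K i = 2)).card + (Finset.univ.filter (fun i => K i = 0)).card = Fintype.card ι ∧
    ∑ i, K i ^ 2 = (Finset.univ.filter (fun i => M i = 0)).card + (Finset.univ.filter (fun i => K i = 1 ∧ M i = 1)).card +
      4 * (Finset.univ.filter (fun i => K i = 2)).card ∧
    ∑ i, K i * M i = (Finset.univ.filter (fun i => K i = 1 ∧ M i = 1)).card + 2 * (Finset.univ.filter (fun i => K i = 2)).card := by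
  simp only [Finset.card_filter, Finset.mul_sum, ← Finset.sum_add_distrib, Fintype.card_eq_sum_ones]
  refine ⟨Finset.sum_congr rfl fun i _ => ?_, Finset.sum_congr rfl fun i _ => ?_, Finset.sum_congr rfl fun i _ => ?_⟩
  all_goals
    have h1 := hM i
    have h2 := hK i
    have h3 := h0 i
    interval_cases hk : K i <;> interval_cases hm : M i <;> simp_all

end numeric

theorem degree_one_of_comm {G : Type u} [Group G] [Fintype G] {χ : G → ℂ} (hχ : IsIrrCharacter G χ)
    (h : ∀ d c : G, χ (d * c * d⁻¹ * c⁻¹) = χ 1) : χ 1 = 1 := by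
  have hdeg : ∀ d ∈ (⊤ : Subgroup G), ‖χ d‖ = (χ 1).re := fun d _ => CfsgLib.Ind2.scalar_of_comm_mod_ker hχ (h d)
  have h2 := CfsgLib.Ind2.sq_degree_mul_le hχ ⊤ hdeg
  have h3 : Nat.card (⊤ : Subgroup G) = Nat.card G := Subgroup.card_top
  rw [h3] at h2
  have hpos : 0 < Nat.card G := Nat.card_pos
  have h4 : charDegree χ ^ 2 ≤ 1 := by
    by_contra hcon
    push Not at hcon
    nlinarith
  have h5 : charDegree χ = 1 := by
    have := CfsgLib.CharInt.irr_charDegree_pos hχ
    nlinarith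
  rw [CfsgLib.CharInt.irr_one_eq_charDegree hχ, h5]; simp

section main

variable {F : Type v} [Field F] {G : Type u} [Group G] (fr : Frame F G) [Fintype F] [DecidableEq F] [Fintype G]

theorem main (hconj : ∀ c : F, c ≠ 0 → IsConj (fr.u 1) (fr.u c)) (z : ℕ)
    (hG : Nat.card G = z * (Fintype.card F * ((Fintype.card F - 1) * (Fintype.card F + 1))))
    (hC : Nat.card (Subgroup.centralizer ({fr.u 1} : Set G)) = z * Fintype.card F)
    (hk : Nat.card (ConjClasses G) = z * (Fintype.card F + 1))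
    (hdeg : ∀ χ : G → ℂ, IsIrrCharacter G χ → χ (fr.u 1) = χ 1 → χ 1 = 1)
    (hl : Nat.card {χ : IrrCharacter G // (χ : G → ℂ) (fr.u 1) = (χ : G → ℂ) 1} ≤ z) :
    ∃ K M : IrrCharacter G → ℕ,
      (∀ χ : IrrCharacter G, ∑ c : F, (χ : G → ℂ) (fr.u c) = (Fintype.card F : ℂ) * K χ) ∧
      (∀ χ : IrrCharacter G, (χ : G → ℂ) 1 = K χ + ((Fintype.card F : ℂ) - 1) * M χ) ∧
      (∀ χ : IrrCharacter G, (χ : G → ℂ) (fr.u 1) = K χ - M χ) ∧
      (∀ χ, M χ ≤ 1) ∧ (∀ χ, K χ ≤ 2) ∧ (∀ χ, M χ = 0 → K χ = 1) ∧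
      Nat.card {χ // M χ = 0} = z ∧ 2 * Nat.card {χ // K χ = 2} = z * (Fintype.card F - 2) ∧
      Nat.card {χ // K χ = 1 ∧ M χ = 1} = z ∧ 2 * Nat.card {χ // K χ = 0} = z * Fintype.card F := by
  classical
  have hq : 2 ≤ Fintype.card F := Fintype.one_lt_card
  have hF : (Fintype.card F : ℂ) ≠ 0 := by exact_mod_cast Fintype.card_ne_zero
  have hex : ∀ χ : IrrCharacter G, ∃ k m : ℕ, ∑ c : F, (χ : G → ℂ) (fr.u c) = (Fintype.card F : ℂ) * k ∧
      (χ : G → ℂ) 1 = k + ((Fintype.card F : ℂ) - 1) * m ∧ (χ : G → ℂ) (fr.u 1) = k - m := fun χ => KM fr hconj (irr_isCharacter χ.2)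
  choose K M h0 h1 h2 using hex
  obtain ⟨s1, s2, s3⟩ := sums fr hconj K M h1 h2
  obtain ⟨p, hp⟩ := Nat.exists_eq_add_of_le hq
  have hp1 : Fintype.card F - 1 = p + 1 := by omega
  have hp2 : Fintype.card F - 2 = p := by omega
  have hcast : (Fintype.card F : ℂ) = p + 2 := by rw [hp]; push_cast; ring
  rw [hC, hG, hp1] at s1 s2 s3
  push_cast at s1 s2 s3
  rw [hcast] at s1 s2 s3 hF
  have t1 : ∑ χ, M χ ^ 2 = z * (p + 2) := by
    have : (∑ χ, (M χ : ℂ) ^ 2) = z * (p + 2) := by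
      apply mul_left_cancel₀ (pow_ne_zero 2 hF)
      rw [s1]; ring
    exact_mod_cast this
  have t2 : ∑ χ, K χ ^ 2 = 2 * z * (p + 1) := by
    have : (∑ χ, (K χ : ℂ) ^ 2) = 2 * z * (p + 1) := by
      apply mul_left_cancel₀ (pow_ne_zero 2 hF)
      rw [s2]; ring
    exact_mod_cast this
  have t3 : ∑ χ, K χ * M χ = z * (p + 1) := by
    have : (∑ χ, (K χ : ℂ) * (M χ : ℂ)) = z * (p + 1) := by
      apply mul_left_cancel₀ (pow_ne_zero 2 hF)
      rw [s3]; ring
    exact_mod_cast this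
  have hcardι : Fintype.card (IrrCharacter G) = z * (p + 2) + z := by
    rw [← Nat.card_eq_fintype_card, card_irr, hk, hp]; ring
  have hM0 : ∀ χ : IrrCharacter G, M χ = 0 ↔ (χ : G → ℂ) (fr.u 1) = (χ : G → ℂ) 1 := by
    intro χ
    rw [h1 χ, h2 χ]
    constructor
    · intro h; rw [h]; simp
    · intro h
      rw [hcast] at h
      have h5 : ((p : ℂ) + 2) * M χ = 0 := by linear_combination -h
      have h6 := (mul_eq_zero.mp h5).resolve_left hF
      exact_mod_cast h6
  have hl' : (Finset.univ.filter (fun χ => M χ = 0)).card ≤ z := by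
    rw [← Fintype.card_subtype, ← Nat.card_eq_fintype_card]
    refine le_trans (le_of_eq ?_) hl
    exact Nat.card_congr (Equiv.subtypeEquivRight (fun χ => hM0 χ))
  obtain ⟨hM1, hl2⟩ := le_one M _ _ t1 hcardι hl'
  have hK2 : ∀ χ, K χ ≤ 2 := by
    intro χ
    by_cases hz : ∑ c : F, (χ : G → ℂ) (fr.u c) = 0
    · rw [h0 χ, hcast] at hz
      have := (mul_eq_zero.mp hz).resolve_left hF
      have : K χ = 0 := by exact_mod_cast this
      omega
    · obtain ⟨f, L, hf, hL, h | h⟩ := K_cases fr χ.2 hz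
      · have h5 := h.2.2
        rw [h0 χ, hcast] at h5
        have h6 := mul_left_cancel₀ hF h5
        have : K χ = 2 := by exact_mod_cast h6
        omega
      · have h5 := h.2.1
        rw [h0 χ, hcast] at h5
        have h6 : (K χ : ℂ) = 1 := by
          apply mul_left_cancel₀ hF
          rw [h5, mul_one]
        have : K χ = 1 := by exact_mod_cast h6
        omega
  have hMK : ∀ χ, M χ = 0 → K χ = 1 := by
    intro χ hχ
    have h5 := hdeg χ χ.2 ((hM0 χ).mp hχ)
    rw [h1 χ, hχ] at h5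
    simp at h5
    exact_mod_cast h5
  obtain ⟨c1, c2, c3⟩ := counts K M hM1 hK2 hMK
  rw [hl2, hcardι] at c1
  rw [hl2, t2] at c2
  rw [t3] at c3
  have e1 : z * (p + 2) = z * p + 2 * z := by ring
  have e2 : 2 * z * (p + 1) = 2 * (z * p) + 2 * z := by ring
  have e3 : z * (p + 1) = z * p + z := by ring
  have e4 : z * (2 + p) = z * p + 2 * z := by ring
  rw [e1] at c1
  rw [e2] at c2
  rw [e3] at c3
  refine ⟨K, M, h0, h1, h2, hM1, hK2, hMK, ?_, ?_, ?_, ?_⟩
  · rw [Nat.card_eq_fintype_card, Fintype.card_subtype]; exact hl2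
  · rw [Nat.card_eq_fintype_card, Fintype.card_subtype, hp2]
    generalize z * p = w at *
    omega
  · rw [Nat.card_eq_fintype_card, Fintype.card_subtype]
    generalize z * p = w at *
    omega
  · rw [Nat.card_eq_fintype_card, Fintype.card_subtype, hp, e4]
    generalize z * p = w at *
    omega

end main

end CfsgLib.G2G
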