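import Cfsg.Agent.EqBase
import Cfsg.Agent.LibG2G
/-!
# GL_2(q), SL_2(q) (q even): degrees (helper26)
-/
set_option autoImplicit false
set_option linter.unusedSectionVars false

open scoped ComplexConjugate
open Cfsg

namespace CfsgLib.G2H

open CfsgLib.CharBasic CfsgLib.CharIndA CfsgLib.G2A CfsgLib.G2B CfsgLib.G2C CfsgLib.G2D CfsgLib.G2E CfsgLib.G2F CfsgLib.G2G

universe u v

variable {F : Type v} [Field F]

theorem w_conj_u {G : Type u} [Group G] (fr : Frame F G) (c : F) :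
    fr.mat (fr.w⁻¹ * fr.u c * fr.w) = !![1, 0; fr.ε * c, 1] := by
  have h := fr.mat_conj_rep (fr.u c) 0
  rw [fr.u_zero, one_mul, fr.mat_u] at h
  rw [h]
  apply ext2 <;> simp

/-- a subgroup of `SL_2` containing all the upper and lower root elements is everything -/
theorem sl_gen (K : Subgroup (Matrix.SpecialLinearGroup (Fin 2) F)) (hu : ∀ c, (frSL F).u c ∈ K)
    (hl : ∀ c, (frSL F).w⁻¹ * (frSL F).u c * (frSL F).w ∈ K) : K = ⊤ := by
  rw [eq_top_iff]
  intro A _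
  induction A using Cfsg.Agent.H22.SLn.transvection_induction with
  | htransvec i j hij c =>
    fin_cases i <;> fin_cases j
    · exact absurd rfl hij
    · have : Matrix.SpecialLinearGroup.transvection hij c = (frSL F).u c := by
        apply Subtype.ext
        change (Matrix.SpecialLinearGroup.transvection hij c : Matrix (Fin 2) (Fin 2) F) = !![1, c; 0, 1]
        rw [Matrix.SpecialLinearGroup.transvection_coe]
        apply ext2 <;> simp [Matrix.single_apply]
      rw [this]; exact hu c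
    · have : Matrix.SpecialLinearGroup.transvection hij c = (frSL F).w⁻¹ * (frSL F).u (-c) * (frSL F).w := by
        apply (frSL F).inj
        rw [w_conj_u]
        change (Matrix.SpecialLinearGroup.transvection hij c : Matrix (Fin 2) (Fin 2) F) = _
        rw [Matrix.SpecialLinearGroup.transvection_coe]
        apply ext2 <;> simp [Matrix.single_apply, frSL]
      rw [this]; exact hl _
    · exact absurd rfl hij
  | hmul A B hA hB => exact mul_mem (hA trivial) (hB trivial)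

theorem sl_conj_u_even [Finite F] [CharP F 2] (c : F) (hc : c ≠ 0) : IsConj ((frSL F).u 1) ((frSL F).u c) := by
  apply sl_conj
  · intro h
    have := h.1
    simp [frSL, mkSL_coe] at this
  · intro h
    have := h.1
    simp [frSL, mkSL_coe] at this
    exact hc this
  · change Matrix.trace !![1, (1 : F); 0, 1] = Matrix.trace !![1, c; 0, 1]
    rw [Matrix.trace_fin_two_of, Matrix.trace_fin_two_of]
  · intro δ _
    exact form_char_two _ _

theorem gl_conj_u (c : F) (hc : c ≠ 0) : IsConj ((frGL F).u 1) ((frGL F).u c) := by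
  apply gl_conj
  · intro h
    have := h.1
    simp [frGL, mkGL_coe] at this
  · intro h
    have := h.1
    simp [frGL, mkGL_coe] at this
    exact hc this
  · change Matrix.trace !![1, (1 : F); 0, 1] = Matrix.trace !![1, c; 0, 1]
    rw [Matrix.trace_fin_two_of, Matrix.trace_fin_two_of]
  · change Matrix.det !![1, (1 : F); 0, 1] = Matrix.det !![1, c; 0, 1]
    rw [det_u, det_u]

/-- characters of SL_2 trivial on the root group are trivial -/
theorem sl_trivial [Finite F] {χ : Matrix.SpecialLinearGroup (Fin 2) F → ℂ} (hχ : IsCharacter (Matrix.SpecialLinearGroup (Fin 2) F) χ)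
    (h : ∀ c, χ ((frSL F).u c) = χ 1) (g : Matrix.SpecialLinearGroup (Fin 2) F) : χ g = χ 1 := by
  obtain ⟨K, hK, hmem⟩ := exists_kernel hχ
  have hu : ∀ c, (frSL F).u c ∈ K := fun c => (hmem _).mpr (h c)
  have : K = ⊤ := sl_gen K hu (fun c => by
    have := hK.conj_mem _ (hu c) (frSL F).w⁻¹
    rwa [inv_inv] at this)
  exact (hmem g).mp (this ▸ Subgroup.mem_top g)

theorem toGL_u (c : F) : Matrix.SpecialLinearGroup.toGL ((frSL F).u c) = (frGL F).u c := by
  apply Units.ext; rfl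

/-- characters of GL_2 trivial on a root element are trivial on SL_2 -/
theorem gl_trivial [Fintype F] {χ : GL (Fin 2) F → ℂ} (hχ : IsCharacter (GL (Fin 2) F) χ)
    (h : χ ((frGL F).u 1) = χ 1) (g : Matrix.SpecialLinearGroup (Fin 2) F) : χ (Matrix.SpecialLinearGroup.toGL g) = χ 1 := by
  obtain ⟨K, hK, hmem⟩ := exists_kernel hχ
  have hu : ∀ c, (frGL F).u c ∈ K := by
    intro c
    by_cases hc : c = 0
    · rw [hc, (frGL F).u_zero]; exact one_mem K
    · obtain ⟨x, hx⟩ := isConj_iff.mp (gl_conj_u c hc)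
      rw [← hx]
      exact hK.conj_mem _ ((hmem _).mpr h) x
  have : K.comap Matrix.SpecialLinearGroup.toGL = ⊤ := sl_gen _ (fun c => by
    rw [Subgroup.mem_comap, toGL_u]; exact hu c) (fun c => by
    rw [Subgroup.mem_comap, map_mul, map_mul, map_inv, toGL_u]
    have := hK.conj_mem _ (hu c) (Matrix.SpecialLinearGroup.toGL (frSL F).w)⁻¹
    rwa [inv_inv] at this)
  have h2 : g ∈ K.comap Matrix.SpecialLinearGroup.toGL := this ▸ Subgroup.mem_top g
  exact (hmem _).mp (Subgroup.mem_comap.mp h2)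

theorem exists_toGL {g : GL (Fin 2) F} (h : (g : Matrix (Fin 2) (Fin 2) F).det = 1) :
    ∃ s : Matrix.SpecialLinearGroup (Fin 2) F, Matrix.SpecialLinearGroup.toGL s = g := by
  refine ⟨⟨_, h⟩, ?_⟩
  apply Units.ext; rfl

theorem gl_comm_det (d c : GL (Fin 2) F) : ((d * c * d⁻¹ * c⁻¹ : GL (Fin 2) F) : Matrix (Fin 2) (Fin 2) F).det = 1 := by
  have h1 : ∀ x : GL (Fin 2) F, (x : Matrix (Fin 2) (Fin 2) F).det = ((Matrix.GeneralLinearGroup.det x : Fˣ) : F) := fun x => rfl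
  rw [h1, map_mul, map_mul, map_mul, map_inv, map_inv]
  have : Matrix.GeneralLinearGroup.det d * Matrix.GeneralLinearGroup.det c * (Matrix.GeneralLinearGroup.det d)⁻¹ * (Matrix.GeneralLinearGroup.det c)⁻¹ = 1 := by
    rw [mul_right_comm]; simp
  rw [this]; rfl

theorem gl_linear [Fintype F] [DecidableEq F] {χ : GL (Fin 2) F → ℂ} (hχ : IsIrrCharacter (GL (Fin 2) F) χ)
    (h : χ ((frGL F).u 1) = χ 1) : χ 1 = 1 := by
  apply degree_one_of_comm hχ
  intro d c
  obtain ⟨s, hs⟩ := exists_toGL (gl_comm_det d c)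
  rw [← hs]
  exact gl_trivial (irr_isCharacter hχ) h s

theorem gl_card_linear [Fintype F] [DecidableEq F] :
    Nat.card {χ : IrrCharacter (GL (Fin 2) F) // (χ : GL (Fin 2) F → ℂ) ((frGL F).u 1) = (χ : GL (Fin 2) F → ℂ) 1} ≤ Fintype.card F - 1 := by
  have hcard : Nat.card (Fˣ →* ℂˣ) = Fintype.card F - 1 := by
    rw [card_hom_of_comm, Nat.card_eq_fintype_card, Fintype.card_units]
  let dh : Fˣ →* GL (Fin 2) F :=
    { toFun := fun a => dgGL a 1
      map_one' := by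
        apply Units.ext
        change !![((1 : Fˣ) : F), 0; 0, ((1 : Fˣ) : F)] = 1
        apply ext2 <;> simp
      map_mul' := fun a b => by
        apply Units.ext
        change !![((a * b : Fˣ) : F), 0; 0, ((1 : Fˣ) : F)] = !![(a : F), 0; 0, ((1 : Fˣ) : F)] * !![(b : F), 0; 0, ((1 : Fˣ) : F)]
        apply ext2 <;> simp [Matrix.mul_apply, Fin.sum_univ_two] }
  have hdet : ∀ a : Fˣ, (dh a : Matrix (Fin 2) (Fin 2) F).det = a := by
    intro a
    change Matrix.det !![(a : F), 0; 0, ((1 : Fˣ) : F)] = a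
    rw [Matrix.det_fin_two_of]; simp
  have hex : ∀ χ : {χ : IrrCharacter (GL (Fin 2) F) // (χ : GL (Fin 2) F → ℂ) ((frGL F).u 1) = (χ : GL (Fin 2) F → ℂ) 1},
      ∃ f : GL (Fin 2) F →* ℂˣ, ∀ g, (χ.1 : GL (Fin 2) F → ℂ) g = (f g : ℂ) :=
    fun χ => exists_hom_of_linear (irr_isCharacter χ.1.2) (gl_linear χ.1.2 χ.2)
  choose f hf using hex
  rw [← hcard]
  have hfin : Finite (Fˣ →* ℂˣ) := Nat.finite_of_card_ne_zero (by rw [hcard]; have := Fintype.one_lt_card (α := F); omega)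
  refine Nat.card_le_card_of_injective (fun χ => (f χ).comp dh) ?_
  intro χ χ' h
  have key : ∀ (χ : {χ : IrrCharacter (GL (Fin 2) F) // (χ : GL (Fin 2) F → ℂ) ((frGL F).u 1) = (χ : GL (Fin 2) F → ℂ) 1}) (g : GL (Fin 2) F),
      f χ g = f χ (dh (Matrix.GeneralLinearGroup.det g)) := by
    intro χ g
    have h1 : (((dh (Matrix.GeneralLinearGroup.det g))⁻¹ * g : GL (Fin 2) F) : Matrix (Fin 2) (Fin 2) F).det = 1 := by
      have h1 : ∀ x : GL (Fin 2) F, (x : Matrix (Fin 2) (Fin 2) F).det = ((Matrix.GeneralLinearGroup.det x : Fˣ) : F) := fun x => rfl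
      rw [h1, map_mul, map_inv]
      have : Matrix.GeneralLinearGroup.det (dh (Matrix.GeneralLinearGroup.det g)) = Matrix.GeneralLinearGroup.det g :=
        Units.ext (hdet _)
      rw [this, inv_mul_cancel]; rfl
    obtain ⟨s, hs⟩ := exists_toGL h1
    have h2 := gl_trivial (irr_isCharacter χ.1.2) χ.2 s
    rw [hf, hf, map_one] at h2
    have h3 : f χ (Matrix.SpecialLinearGroup.toGL s) = 1 := Units.ext h2
    rw [hs, map_mul, map_inv] at h3
    exact (inv_mul_eq_one.mp h3).symm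
  apply Subtype.ext
  apply Subtype.ext
  funext g
  rw [hf, hf, key χ g, key χ' g]
  exact congrArg (fun z : ℂˣ => (z : ℂ)) (DFunLike.congr_fun h (Matrix.GeneralLinearGroup.det g))

theorem gl_main [Fintype F] [DecidableEq F] :
    ∃ K M : IrrCharacter (GL (Fin 2) F) → ℕ,
      (∀ χ : IrrCharacter (GL (Fin 2) F), ∑ c : F, (χ : GL (Fin 2) F → ℂ) ((frGL F).u c) = (Fintype.card F : ℂ) * K χ) ∧
      (∀ χ : IrrCharacter (GL (Fin 2) F), (χ : GL (Fin 2) F → ℂ) 1 = K χ + ((Fintype.card F : ℂ) - 1) * M χ) ∧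
      (∀ χ : IrrCharacter (GL (Fin 2) F), (χ : GL (Fin 2) F → ℂ) ((frGL F).u 1) = K χ - M χ) ∧
      (∀ χ, M χ ≤ 1) ∧ (∀ χ, K χ ≤ 2) ∧ (∀ χ, M χ = 0 → K χ = 1) ∧
      Nat.card {χ // M χ = 0} = Fintype.card F - 1 ∧ 2 * Nat.card {χ // K χ = 2} = (Fintype.card F - 1) * (Fintype.card F - 2) ∧
      Nat.card {χ // K χ = 1 ∧ M χ = 1} = Fintype.card F - 1 ∧ 2 * Nat.card {χ // K χ = 0} = (Fintype.card F - 1) * Fintype.card F := by
  refine main (frGL F) gl_conj_u (Fintype.card F - 1) ?_ ?_ ?_ (fun χ hχ h => gl_linear hχ h) gl_card_linear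
  · rw [card_GL]; ring
  · rw [card_centralizer_u_GL one_ne_zero]; ring
  · rw [card_classes_GL]
    have := Nat.sq_sub_sq (Fintype.card F) 1
    rw [one_pow] at this
    rw [this, mul_comm]

theorem sl_even_main [Fintype F] [DecidableEq F] [CharP F 2] :
    ∃ K M : IrrCharacter (Matrix.SpecialLinearGroup (Fin 2) F) → ℕ,
      (∀ χ : IrrCharacter (Matrix.SpecialLinearGroup (Fin 2) F), ∑ c : F, (χ : Matrix.SpecialLinearGroup (Fin 2) F → ℂ) ((frSL F).u c) = (Fintype.card F : ℂ) * K χ) ∧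
      (∀ χ : IrrCharacter (Matrix.SpecialLinearGroup (Fin 2) F), (χ : Matrix.SpecialLinearGroup (Fin 2) F → ℂ) 1 = K χ + ((Fintype.card F : ℂ) - 1) * M χ) ∧
      (∀ χ : IrrCharacter (Matrix.SpecialLinearGroup (Fin 2) F), (χ : Matrix.SpecialLinearGroup (Fin 2) F → ℂ) ((frSL F).u 1) = K χ - M χ) ∧
      (∀ χ, M χ ≤ 1) ∧ (∀ χ, K χ ≤ 2) ∧ (∀ χ, M χ = 0 → K χ = 1) ∧
      Nat.card {χ // M χ = 0} = 1 ∧ 2 * Nat.card {χ // K χ = 2} = Fintype.card F - 2 ∧
      Nat.card {χ // K χ = 1 ∧ M χ = 1} = 1 ∧ 2 * Nat.card {χ // K χ = 0} = Fintype.card F := by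
  have htriv : ∀ χ : Matrix.SpecialLinearGroup (Fin 2) F → ℂ, IsIrrCharacter (Matrix.SpecialLinearGroup (Fin 2) F) χ →
      χ ((frSL F).u 1) = χ 1 → ∀ g, χ g = χ 1 := by
    intro χ hχ h
    apply sl_trivial (irr_isCharacter hχ)
    intro c
    by_cases hc : c = 0
    · rw [hc, (frSL F).u_zero]
    · rw [← h]
      exact (isClassFunction_iff_mem.mp (irr_classFun hχ) _ _ (sl_conj_u_even c hc)).symm
  have hone : ∀ χ : Matrix.SpecialLinearGroup (Fin 2) F → ℂ, IsIrrCharacter (Matrix.SpecialLinearGroup (Fin 2) F) χ →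
      χ ((frSL F).u 1) = χ 1 → χ 1 = 1 := by
    intro χ hχ h
    apply degree_one_of_comm hχ
    intro d c
    exact htriv χ hχ h _
  have := main (frSL F) sl_conj_u_even 1 (by rw [card_SL, one_mul]) (by
    rw [card_centralizer_u_SL one_ne_zero, card_sq_one_even, one_mul, mul_one]) (by
    rw [card_classes_SL_even, one_mul]) hone (by
      have : Subsingleton {χ : IrrCharacter (Matrix.SpecialLinearGroup (Fin 2) F) //
          (χ : Matrix.SpecialLinearGroup (Fin 2) F → ℂ) ((frSL F).u 1) = (χ : Matrix.SpecialLinearGroup (Fin 2) F → ℂ) 1} := by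
        constructor
        intro χ χ'
        apply Subtype.ext
        apply Subtype.ext
        funext g
        rw [htriv _ χ.1.2 χ.2, htriv _ χ'.1.2 χ'.2, hone _ χ.1.2 χ.2, hone _ χ'.1.2 χ'.2]
      exact Finite.card_le_one_iff_subsingleton.mpr this)
  simpa only [one_mul] using this

theorem nat_deg {q : ℕ} (hq : 1 ≤ q) {z : ℂ} {K M : ℕ} (h : z = K + ((q : ℂ) - 1) * M) : z = ((K + (q - 1) * M : ℕ) : ℂ) := by
  rw [h]; push_cast [Nat.cast_sub hq]; ring

theorem eq_nat_iff {q : ℕ} (hq : 1 ≤ q) {z : ℂ} {K M : ℕ} (h : z = K + ((q : ℂ) - 1) * M) (n : ℕ) :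
    z = (n : ℂ) ↔ K + (q - 1) * M = n := by
  rw [nat_deg hq h]; exact Nat.cast_inj

theorem deg_cases {q : ℕ} (hq : 2 ≤ q) {z : ℂ} {K M : ℕ} (h : z = K + ((q : ℂ) - 1) * M) (hM : M ≤ 1) (hK : K ≤ 2) (h0 : M = 0 → K = 1) :
    (z = 1 ∧ M = 0 ∧ K = 1) ∨ (z = (q : ℂ) - 1 ∧ M = 1 ∧ K = 0) ∨ (z = (q : ℂ) ∧ M = 1 ∧ K = 1) ∨ (z = (q : ℂ) + 1 ∧ M = 1 ∧ K = 2) := by
  rcases Nat.lt_or_ge 0 M with hM0 | hM0
  · have hM1 : M = 1 := by omega
    interval_cases K
    · right; left; refine ⟨?_, hM1, rfl⟩; rw [h, hM1]; push_cast; ring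
    · right; right; left; refine ⟨?_, hM1, rfl⟩; rw [h, hM1]; push_cast; ring
    · right; right; right; refine ⟨?_, hM1, rfl⟩; rw [h, hM1]; push_cast; ring
  · have hM1 : M = 0 := by omega
    left
    refine ⟨?_, hM1, h0 hM1⟩
    rw [h, hM1, h0 hM1]; push_cast; ring

theorem deg_iff {q : ℕ} (hq : 3 ≤ q) {z : ℂ} {K M : ℕ} (h : z = K + ((q : ℂ) - 1) * M) (hM : M ≤ 1) (hK : K ≤ 2) (h0 : M = 0 → K = 1) :
    (z = 1 ↔ M = 0) ∧ (z = (q : ℂ) ↔ K = 1 ∧ M = 1) ∧ (z = (q : ℂ) + 1 ↔ K = 2) ∧ (z = (q : ℂ) - 1 ↔ K = 0) := by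
  have hz := nat_deg (by omega : 1 ≤ q) h
  have e1 : (1 : ℂ) = ((1 : ℕ) : ℂ) := by simp
  have e2 : (q : ℂ) + 1 = ((q + 1 : ℕ) : ℂ) := by push_cast; ring
  have e3 : (q : ℂ) - 1 = ((q - 1 : ℕ) : ℂ) := by push_cast [Nat.cast_sub (by omega : 1 ≤ q)]; ring
  rw [hz]
  conv_lhs => rw [e1]
  rw [e2, e3, Nat.cast_inj, Nat.cast_inj, Nat.cast_inj, Nat.cast_inj]
  rcases Nat.lt_or_ge 0 M with hM0 | hM0
  · have hM1 : M = 1 := by omega
    subst hM1
    interval_cases K <;> omega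
  · have hM1 : M = 0 := by omega
    have hK1 := h0 hM1
    subst hM1 hK1
    omega

end CfsgLib.G2H
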