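import Cfsg.Agent.EqBase
import Cfsg.Agent.LibG2H
/-!
# Values of the principal series and of the Steinberg characters (helper26)
-/
set_option autoImplicit false
set_option linter.unusedSectionVars false

open scoped ComplexConjugate
open Cfsg

namespace CfsgLib.G2I

open CfsgLib.CharBasic CfsgLib.CharIndA CfsgLib.G2A CfsgLib.G2B CfsgLib.G2C CfsgLib.G2D CfsgLib.G2E CfsgLib.G2F CfsgLib.G2G CfsgLib.G2H

universe u v

variable {F : Type v} [Field F] {G : Type u} [Group G] (fr : Frame F G)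

/-- values of linear characters have norm one -/
theorem norm_hom {X : Type*} [Group X] [Finite X] (f : X →* ℂˣ) (g : X) : ‖(f g : ℂ)‖ = 1 := by
  apply norm_one_of_pow (Nat.card_pos (α := X)).ne'
  rw [← Units.val_pow_eq_pow_val, ← map_pow, pow_card_eq_one', map_one, Units.val_one]

theorem norm_linear [Finite G] {χ : G → ℂ} (hχ : IsCharacter G χ) (h1 : χ 1 = 1) (g : G) : ‖χ g‖ = 1 := by
  obtain ⟨f, hf⟩ := exists_hom_of_linear hχ h1
  rw [hf]; exact norm_hom f g

/-- elements with no eigenvector -/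
def Ell (A : Matrix (Fin 2) (Fin 2) F) : Prop := ∀ (c : F) (v : Fin 2 → F), v ≠ 0 → A.mulVec v ≠ c • v

theorem Ell.ne {A : Matrix (Fin 2) (Fin 2) F} (h : Ell A) : A 1 0 ≠ 0 := by
  intro h0
  apply h (A 0 0) ![1, 0] (by
    intro h1
    have := congrFun h1 0
    simp at this)
  ext i
  fin_cases i <;> simp [Matrix.mulVec, dotProduct, Fin.sum_univ_two, h0]

theorem Ell.quad {A : Matrix (Fin 2) (Fin 2) F} (h : Ell A) (c : F) : ¬ (A 0 1 + c * (A 0 0 - A 1 1) - c ^ 2 * A 1 0 = 0) := by
  intro hc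
  apply h (A 1 0 * c + A 1 1) ![c, 1] (by
    intro h1
    have := congrFun h1 1
    simp at this)
  ext i
  fin_cases i
  · simp [Matrix.mulVec, dotProduct, Fin.sum_univ_two]
    linear_combination hc
  · simp [Matrix.mulVec, dotProduct, Fin.sum_univ_two]

variable [Fintype F] [DecidableEq F] [Fintype G]

/-- the induced functions vanish on elements without eigenvectors -/
theorem ind_ell (L : F → F → ℂ) {g : G} (h : Ell (fr.mat g)) : indFun fr.B (fr.lam L) g = 0 := by
  rw [fr.ind_value, if_neg h.ne, zero_add]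
  exact Finset.sum_eq_zero fun c _ => if_neg (h.quad c)

/-- the value on diagonal elements -/
theorem ind_diag (L : F → F → ℂ) {g : G} (h01 : fr.mat g 0 1 = 0) (h10 : fr.mat g 1 0 = 0) (hne : fr.mat g 0 0 ≠ fr.mat g 1 1) :
    indFun fr.B (fr.lam L) g = L (fr.mat g 0 0) (fr.mat g 1 1) + L (fr.mat g 1 1) (fr.mat g 0 0) := by
  rw [fr.ind_value, if_pos h10]
  congr 1
  rw [Finset.sum_eq_single 0]
  · rw [if_pos (by rw [h01, h10]; ring), h10]
    simp
  · intro c _ hc
    rw [if_neg]
    rw [h01, h10]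
    intro h
    have : c * (fr.mat g 0 0 - fr.mat g 1 1) = 0 := by linear_combination h
    exact (mul_ne_zero hc (sub_ne_zero.mpr hne)) this
  · intro h; exact absurd (Finset.mem_univ _) h

/-- the value at a nontrivial `ε u(b)` -/
theorem ind_unip (L : F → F → ℂ) {g : G} (h10 : fr.mat g 1 0 = 0) (h00 : fr.mat g 0 0 = fr.mat g 1 1) (h01 : fr.mat g 0 1 ≠ 0) :
    indFun fr.B (fr.lam L) g = L (fr.mat g 0 0) (fr.mat g 1 1) := by
  rw [fr.ind_value, if_pos h10, Finset.sum_eq_zero, add_zero]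
  intro c _
  rw [if_neg]
  intro h
  apply h01
  rw [h10, h00] at h
  linear_combination h

theorem ind_one_value {f : fr.B →* ℂˣ} {L : F → F → ℂ} (hL : ∀ b, fr.lam L b = (f b : ℂ)) :
    indFun fr.B (fr.lam L) 1 = (Fintype.card F : ℂ) + 1 := by
  rw [fr.ind_value]
  simp [hom_L_one fr hL]
  ring

/-- a linear constituent restricts to the inducing character -/
theorem linear_restrict {f : fr.B →* ℂˣ} {L : F → F → ℂ} (hL : ∀ b, fr.lam L b = (f b : ℂ)) {ψ : G → ℂ} (hψ : IsIrrCharacter G ψ)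
    (h1 : ψ 1 = 1) (h : classInner ψ (indFun fr.B (fr.lam L)) ≠ 0) (b : fr.B) : ψ b = (f b : ℂ) := by
  classical
  let _ : Fintype fr.B := Fintype.ofFinite _
  rw [frobenius' _ _ (irr_classFun hψ)] at h
  have e1 : fr.lam L = fun b => (f b : ℂ) := funext hL
  rw [e1] at h
  have h2 : IsIrrCharacter fr.B (fun b : fr.B => ψ b) := irr_of_degree_one (isCharacter_restrict (irr_isCharacter hψ) fr.B) h1
  by_contra hcon
  apply h
  apply irr_inner_ne h2 (isIrrCharacter_hom f)
  intro h3
  exact hcon (congrFun h3 b)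

end CfsgLib.G2I
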