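import Cfsg.Agent.EqBase
import Cfsg.Agent.LibG2I
import Mathlib.NumberTheory.GaussSum
/-!
# SL_2(q), q odd: multiplicities on the root group (helper26)
-/
set_option autoImplicit false
set_option linter.unusedSectionVars false

open scoped ComplexConjugate
open Cfsg

namespace CfsgLib.G2J

open CfsgLib.CharBasic CfsgLib.CharIndA CfsgLib.G2A CfsgLib.G2B CfsgLib.G2C CfsgLib.G2D CfsgLib.G2E CfsgLib.G2F CfsgLib.G2G CfsgLib.G2H CfsgLib.G2I

universe v

variable {F : Type v} [Field F] [Fintype F] [DecidableEq F]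

/-- complex quadratic character -/
noncomputable def eta (F : Type v) [Field F] [Fintype F] [DecidableEq F] : MulChar F ℂ := (quadraticChar F).ringHomComp (Int.castRingHom ℂ)

theorem eta_apply (a : F) : eta F a = ((quadraticChar F a : ℤ) : ℂ) := rfl

theorem eta_conj (a : F) : conj (eta F a) = eta F a := by
  rw [eta_apply, map_intCast]

theorem eta_sq {a : F} (ha : a ≠ 0) (h : IsSquare a) : eta F a = 1 := by
  rw [eta_apply, (quadraticChar_one_iff_isSquare ha).mpr h]; simp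

theorem eta_nsq {a : F} (h : ¬ IsSquare a) : eta F a = -1 := by
  rw [eta_apply, quadraticChar_neg_one_iff_not_isSquare.mpr h]; simp

theorem eta_ne_one (h2 : (2 : F) ≠ 0) : eta F ≠ 1 := by
  obtain ⟨ν, hν⟩ := FiniteField.exists_nonsquare (ringChar_ne_two h2)
  have hν0 : ν ≠ 0 := fun h => hν (h ▸ IsSquare.zero)
  intro h
  have h1 := eta_nsq hν
  rw [h, MulChar.one_apply (IsUnit.mk0 ν hν0)] at h1
  norm_num at h1

theorem eta_quad : (eta F).IsQuadratic := by
  intro a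
  rcases quadraticChar_isQuadratic F a with h | h | h
  · left; rw [eta_apply, h]; simp
  · right; left; rw [eta_apply, h]; simp
  · right; right; rw [eta_apply, h]; simp

theorem eta_sum (h2 : (2 : F) ≠ 0) : ∑ c : F, eta F c = 0 := by
  have := quadraticChar_sum_zero (F := F) (ringChar_ne_two h2)
  simp only [eta_apply]
  exact_mod_cast this

/-- the quadratic Gauss sum -/
noncomputable def gs (ψ : AddChar F ℂ) : ℂ := gaussSum (eta F) ψ

theorem gs_sq (h2 : (2 : F) ≠ 0) {ψ : AddChar F ℂ} (hψ : ψ ≠ 1) : gs ψ ^ 2 = eta F (-1) * Fintype.card F :=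
  gaussSum_sq (eta_ne_one h2) eta_quad (AddChar.IsPrimitive.of_ne_one hψ)

theorem gs_conj (h2 : (2 : F) ≠ 0) {ψ : AddChar F ℂ} (hψ : ψ ≠ 1) : gs ψ * conj (gs ψ) = Fintype.card F := by
  have h := star_gaussSum_eq (eta F) ψ
  have h3 := gaussSum_mul_gaussSum_eq_card (eta_ne_one h2) (AddChar.IsPrimitive.of_ne_one hψ)
  rw [← h] at h3
  exact h3

theorem gs_ne (h2 : (2 : F) ≠ 0) {ψ : AddChar F ℂ} (hψ : ψ ≠ 1) : gs ψ ≠ 0 := by
  intro h
  have := gs_conj h2 hψ
  rw [h, zero_mul] at this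
  have h3 : (Fintype.card F : ℂ) ≠ 0 := by exact_mod_cast Fintype.card_ne_zero
  exact h3 this.symm

theorem sum_eta_conj (h2 : (2 : F) ≠ 0) (ψ : AddChar F ℂ) (a : Fˣ) :
    ∑ c : F, eta F c * conj (ψ (a * c)) = eta F a * conj (gs ψ) := by
  have h1 := gaussSum_mulShift_eq (eta F) ψ a
  rw [eta_quad.inv] at h1
  have h3 := congrArg conj h1
  rw [gaussSum, map_sum, map_mul, eta_conj] at h3
  rw [gs, ← h3]
  refine Finset.sum_congr rfl fun c _ => ?_
  rw [map_mul (starRingEnd ℂ), eta_conj]; rfl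

theorem sl_u_conj_iff {b b' : F} (hb : b ≠ 0) (hb' : b' ≠ 0) :
    IsConj ((frSL F).u b) ((frSL F).u b') ↔ IsSquare (b * b') := unip_conj_iff (one_pow 2) hb hb'

section values

variable {χ : Matrix.SpecialLinearGroup (Fin 2) F → ℂ} (hχ : IsCharacter (Matrix.SpecialLinearGroup (Fin 2) F) χ)
  {ν : F} (hν : ¬ IsSquare ν)

include hχ hν

theorem value_u (c : F) : χ ((frSL F).u c) = (if c = 0 then χ 1 - (χ ((frSL F).u 1) + χ ((frSL F).u ν)) / 2 else 0) +
    (χ ((frSL F).u 1) + χ ((frSL F).u ν)) / 2 + eta F c * ((χ ((frSL F).u 1) - χ ((frSL F).u ν)) / 2) := by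
  have hν0 : ν ≠ 0 := fun h => hν (h ▸ IsSquare.zero)
  by_cases hc : c = 0
  · rw [if_pos hc, hc, (frSL F).u_zero, eta_apply, quadraticChar_zero]
    push_cast; ring
  · rw [if_neg hc]
    by_cases hs : IsSquare c
    · have h1 : IsConj ((frSL F).u c) ((frSL F).u 1) := (sl_u_conj_iff hc one_ne_zero).mpr (by rwa [mul_one])
      rw [isClassFunction_iff_mem.mp (char_classFun hχ) _ _ h1, eta_sq hc hs]
      ring
    · have h1 : IsConj ((frSL F).u c) ((frSL F).u ν) := (sl_u_conj_iff hc hν0).mpr (isSquare_mul_of_not hs hν)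
      rw [isClassFunction_iff_mem.mp (char_classFun hχ) _ _ h1, eta_nsq hs]
      ring

theorem sum_w (w : F → ℂ) (hw : w 0 = 1) : ∑ c : F, χ ((frSL F).u c) * w c =
    (χ 1 - (χ ((frSL F).u 1) + χ ((frSL F).u ν)) / 2) + (χ ((frSL F).u 1) + χ ((frSL F).u ν)) / 2 * ∑ c, w c +
      (χ ((frSL F).u 1) - χ ((frSL F).u ν)) / 2 * ∑ c, eta F c * w c := by
  have h1 : ∀ c : F, χ ((frSL F).u c) * w c = (if c = 0 then χ 1 - (χ ((frSL F).u 1) + χ ((frSL F).u ν)) / 2 else 0) +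
      (χ ((frSL F).u 1) + χ ((frSL F).u ν)) / 2 * w c + (χ ((frSL F).u 1) - χ ((frSL F).u ν)) / 2 * (eta F c * w c) := by
    intro c
    rw [value_u hχ hν c]
    by_cases hc : c = 0
    · rw [if_pos hc, hc, hw]; ring
    · rw [if_neg hc]; ring
  rw [Finset.sum_congr rfl (fun c _ => h1 c), Finset.sum_add_distrib, Finset.sum_add_distrib, ← Finset.mul_sum, ← Finset.mul_sum]
  simp

/-- the three multiplicities -/
theorem KAB (h2 : (2 : F) ≠ 0) {ψ : AddChar F ℂ} (hψ : ψ ≠ 1) : ∃ K a b : ℕ,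
    ∑ c : F, χ ((frSL F).u c) = (Fintype.card F : ℂ) * K ∧
    2 * χ 1 = 2 * K + ((Fintype.card F : ℂ) - 1) * (a + b) ∧
    χ ((frSL F).u 1) + χ ((frSL F).u ν) = 2 * K - (a + b) ∧
    χ ((frSL F).u 1) - χ ((frSL F).u ν) = (a - b) * gs ψ := by
  have hF : (Fintype.card F : ℂ) ≠ 0 := by exact_mod_cast Fintype.card_ne_zero
  have hν0 : ν ≠ 0 := fun h => hν (h ▸ IsSquare.zero)
  obtain ⟨K, hK⟩ := sum_nat (frSL F) hχ
  obtain ⟨a, ha⟩ := mult_nat (uHom (frSL F)) hχ ψ
  obtain ⟨b, hb⟩ := mult_nat (uHom (frSL F)) hχ (ψ.mulShift ν)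
  have hshift : ψ.mulShift ν ≠ 1 := AddChar.IsPrimitive.of_ne_one hψ hν0
  have ha' : ∑ c : F, χ ((frSL F).u c) * conj (ψ c) = (Fintype.card F : ℂ) * a := ha
  have hb' : ∑ c : F, χ ((frSL F).u c) * conj ((ψ.mulShift ν) c) = (Fintype.card F : ℂ) * b := hb
  have e1 := sum_w hχ hν (fun _ => 1) rfl
  have e2 := sum_w hχ hν (fun c => conj (ψ c)) (by simp)
  have e3 := sum_w hχ hν (fun c => conj ((ψ.mulShift ν) c)) (by simp)
  simp only [mul_one, hK, eta_sum h2, Finset.sum_const, Finset.card_univ, nsmul_eq_mul] at e1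
  rw [ha', conj_sum hψ] at e2
  rw [hb', conj_sum hshift] at e3
  have g1 : ∑ c, eta F c * conj (ψ c) = conj (gs ψ) := by
    have := sum_eta_conj h2 ψ 1
    simpa using this
  have g2 : ∑ c, eta F c * conj ((ψ.mulShift ν) c) = - conj (gs ψ) := by
    have := sum_eta_conj h2 ψ (Units.mk0 ν hν0)
    rw [Units.val_mk0, eta_nsq hν, neg_one_mul] at this
    exact this
  rw [g1] at e2
  rw [g2] at e3
  refine ⟨K, a, b, hK, ?_, ?_, ?_⟩
  · apply mul_left_cancel₀ hF
    linear_combination (-2 : ℂ) * e1 - ((Fintype.card F : ℂ) - 1) * (e2 + e3)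
  · apply mul_left_cancel₀ hF
    linear_combination (-2 : ℂ) * e1 + (e2 + e3)
  · have hg := gs_conj h2 hψ
    apply mul_left_cancel₀ hF
    linear_combination (-(χ ((frSL F).u 1) - χ ((frSL F).u ν))) * hg - gs ψ * (e2 - e3)

end values

end CfsgLib.G2J
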