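import Cfsg.Agent.EqBase
import Cfsg.Agent.LibG2J
/-!
# SL_2(q), q odd: counting the irreducible characters (helper26)
-/
set_option autoImplicit false
set_option linter.unusedSectionVars false

open scoped ComplexConjugate
open Cfsg

namespace CfsgLib.G2K

open CfsgLib.CharBasic CfsgLib.CharIndA CfsgLib.G2A CfsgLib.G2B CfsgLib.G2C CfsgLib.G2D CfsgLib.G2E CfsgLib.G2F CfsgLib.G2G CfsgLib.G2H CfsgLib.G2I CfsgLib.G2J

universe v

section numeric

variable {ι : Type*} [Fintype ι]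

theorem le_one' (T : ι → ℕ) (N l : ℕ) (hsum : ∑ i, T i = N) (hcard : Fintype.card ι = N + l)
    (hl : (Finset.univ.filter (fun i => T i = 0)).card ≤ l) :
    (∀ i, T i ≤ 1) ∧ (Finset.univ.filter (fun i => T i = 0)).card = l := by
  have h1 : ∑ i, (if T i = 0 then 1 else 0) = (Finset.univ.filter (fun i => T i = 0)).card := by
    rw [Finset.card_filter]
  have h2 : ∑ i : ι, (if T i = 0 then 0 else 1) + ∑ i, (if T i = 0 then 1 else 0) = Fintype.card ι := by
    rw [← Finset.sum_add_distrib, Fintype.card_eq_sum_ones]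
    refine Finset.sum_congr rfl fun i _ => ?_
    split_ifs <;> rfl
  have h3 : ∀ i ∈ Finset.univ, (if T i = 0 then 0 else 1) ≤ T i := by
    intro i _
    split_ifs with h
    · exact Nat.zero_le _
    · exact Nat.pos_of_ne_zero h
  have h4 := Finset.sum_le_sum h3
  have h5 : ∑ i : ι, (if T i = 0 then 0 else 1) = ∑ i, T i := by omega
  have h6 := (Finset.sum_eq_sum_iff_of_le h3).mp h5
  refine ⟨fun i => ?_, by omega⟩
  have h7 := h6 i (Finset.mem_univ i)
  split_ifs at h7 with h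
  · omega
  · omega

theorem counts3 (K a b : ι → ℕ) (ha : ∀ i, a i ≤ 1) (hb : ∀ i, b i ≤ 1) (hK : ∀ i, K i ≤ 2)
    (h2 : ∀ i, K i = 2 → a i = 1 ∧ b i = 1) (h0 : ∀ i, a i = 0 → b i = 0 → K i = 1) :
    (Finset.univ.filter (fun i => a i + b i = 0)).card + (Finset.univ.filter (fun i => K i = 2)).card +
      (Finset.univ.filter (fun i => K i = 1 ∧ a i + b i = 2)).card + (Finset.univ.filter (fun i => K i = 1 ∧ a i + b i = 1)).card +
      (Finset.univ.filter (fun i => K i = 0 ∧ a i + b i = 1)).card + (Finset.univ.filter (fun i => K i = 0 ∧ a i + b i = 2)).card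
      = Fintype.card ι ∧
    ∑ i, K i ^ 2 = (Finset.univ.filter (fun i => a i + b i = 0)).card + 4 * (Finset.univ.filter (fun i => K i = 2)).card +
      (Finset.univ.filter (fun i => K i = 1 ∧ a i + b i = 2)).card + (Finset.univ.filter (fun i => K i = 1 ∧ a i + b i = 1)).card ∧
    ∑ i, K i * (a i + b i) = 4 * (Finset.univ.filter (fun i => K i = 2)).card +
      2 * (Finset.univ.filter (fun i => K i = 1 ∧ a i + b i = 2)).card + (Finset.univ.filter (fun i => K i = 1 ∧ a i + b i = 1)).card ∧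
    ∑ i, (a i + b i) ^ 2 = 4 * (Finset.univ.filter (fun i => K i = 2)).card +
      4 * (Finset.univ.filter (fun i => K i = 1 ∧ a i + b i = 2)).card + (Finset.univ.filter (fun i => K i = 1 ∧ a i + b i = 1)).card +
      (Finset.univ.filter (fun i => K i = 0 ∧ a i + b i = 1)).card + 4 * (Finset.univ.filter (fun i => K i = 0 ∧ a i + b i = 2)).card := by
  simp only [Finset.card_filter, Finset.mul_sum, ← Finset.sum_add_distrib, Fintype.card_eq_sum_ones]
  refine ⟨Finset.sum_congr rfl fun i _ => ?_, Finset.sum_congr rfl fun i _ => ?_, Finset.sum_congr rfl fun i _ => ?_,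
    Finset.sum_congr rfl fun i _ => ?_⟩
  all_goals
    have h1 := ha i
    have h3 := hb i
    have h4 := hK i
    have h5 := h2 i
    have h6 := h0 i
    interval_cases hk : K i <;> interval_cases hm : a i <;> interval_cases hn : b i <;> simp_all

end numeric

variable {F : Type v} [Field F] [Fintype F] [DecidableEq F]

abbrev S (F : Type v) [Field F] [DecidableEq F] := Matrix.SpecialLinearGroup (Fin 2) F

/-- sums of products of the multiplicities -/
theorem sums_odd (hodd : Odd (Fintype.card F)) {ν : F} (hν : ¬ IsSquare ν) {ψ : AddChar F ℂ} (hψ : ψ ≠ 1)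
    (K a b : IrrCharacter (S F) → ℕ)
    (h1 : ∀ χ : IrrCharacter (S F), 2 * (χ : S F → ℂ) 1 = 2 * K χ + ((Fintype.card F : ℂ) - 1) * (a χ + b χ))
    (h2 : ∀ χ : IrrCharacter (S F), (χ : S F → ℂ) ((frSL F).u 1) + (χ : S F → ℂ) ((frSL F).u ν) = 2 * K χ - (a χ + b χ))
    (h3 : ∀ χ : IrrCharacter (S F), (χ : S F → ℂ) ((frSL F).u 1) - (χ : S F → ℂ) ((frSL F).u ν) = (a χ - b χ) * gs ψ) :
    ∑ χ, (a χ + b χ) ^ 2 = 4 * Fintype.card F ∧ ∑ χ, K χ ^ 2 = 2 * (Fintype.card F - 1) ∧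
    ∑ χ, K χ * (a χ + b χ) = 2 * (Fintype.card F - 1) ∧ ∑ χ, ((a χ : ℤ) - b χ) ^ 2 = 4 := by
  classical
  have h20 := two_ne_of_odd hodd
  have hF : (Fintype.card F : ℂ) ≠ 0 := by exact_mod_cast Fintype.card_ne_zero
  have hν0 : ν ≠ 0 := fun h => hν (h ▸ IsSquare.zero)
  have hne1 : ∀ c : F, c ≠ 0 → (frSL F).u c ≠ 1 := fun c hc h => hc ((frSL F).u_inj (h.trans (frSL F).u_zero.symm))
  have hnc : ¬ IsConj ((frSL F).u 1) ((frSL F).u ν) := by
    rw [sl_u_conj_iff one_ne_zero hν0, one_mul]; exact hν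
  have o11 := column_orthogonality (1 : S F) 1
  rw [if_pos (IsConj.refl 1)] at o11
  have hc1 : Nat.card (Subgroup.centralizer ({(1 : S F)} : Set (S F))) = Nat.card (S F) := by
    have : Subgroup.centralizer ({(1 : S F)} : Set (S F)) = ⊤ := by
      rw [eq_top_iff]
      intro x _
      rw [Subgroup.mem_centralizer_singleton_iff]; simp
    rw [this, Subgroup.card_top]
  rw [hc1, card_SL] at o11
  have hcu : ∀ c : F, c ≠ 0 → Nat.card (Subgroup.centralizer ({(frSL F).u c} : Set (S F))) = 2 * Fintype.card F := by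
    intro c hc
    rw [card_centralizer_u_SL hc, card_sq_one_odd hodd]; ring
  have oaa := column_orthogonality ((frSL F).u 1) ((frSL F).u 1)
  rw [if_pos (IsConj.refl _), hcu 1 one_ne_zero] at oaa
  have obb := column_orthogonality ((frSL F).u ν) ((frSL F).u ν)
  rw [if_pos (IsConj.refl _), hcu ν hν0] at obb
  have oab := column_orthogonality ((frSL F).u 1) ((frSL F).u ν)
  rw [if_neg hnc] at oab
  have oba := column_orthogonality ((frSL F).u ν) ((frSL F).u 1)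
  rw [if_neg (fun h => hnc h.symm)] at oba
  have o1a := column_orthogonality (1 : S F) ((frSL F).u 1)
  rw [if_neg (fun h => hne1 1 one_ne_zero (isConj_one_right.mp h))] at o1a
  have oa1 := column_orthogonality ((frSL F).u 1) (1 : S F)
  rw [if_neg (fun h => hne1 1 one_ne_zero (isConj_one_left.mp h))] at oa1
  have o1b := column_orthogonality (1 : S F) ((frSL F).u ν)
  rw [if_neg (fun h => hne1 ν hν0 (isConj_one_right.mp h))] at o1b
  have ob1 := column_orthogonality ((frSL F).u ν) (1 : S F)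
  rw [if_neg (fun h => hne1 ν hν0 (isConj_one_left.mp h))] at ob1
  have hq : 2 ≤ Fintype.card F := Fintype.one_lt_card
  obtain ⟨p, hp⟩ := Nat.exists_eq_add_of_le hq
  have hp1 : Fintype.card F - 1 = p + 1 := by omega
  have hcast : (Fintype.card F : ℂ) = p + 2 := by rw [hp]; push_cast; ring
  rw [hp1] at o11
  push_cast at o11 oaa obb
  rw [hcast] at o11 oaa obb hF
  have hs : ∀ χ : IrrCharacter (S F), ((p : ℂ) + 2) * (a χ + b χ) = 2 * (χ : S F → ℂ) 1 - ((χ : S F → ℂ) ((frSL F).u 1) + (χ : S F → ℂ) ((frSL F).u ν)) := by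
    intro χ
    have e1 := h1 χ
    have e2 := h2 χ
    rw [hcast] at e1
    linear_combination e2 - e1
  have hk : ∀ χ : IrrCharacter (S F), 2 * ((p : ℂ) + 2) * K χ = 2 * (χ : S F → ℂ) 1 + ((p : ℂ) + 1) * ((χ : S F → ℂ) ((frSL F).u 1) + (χ : S F → ℂ) ((frSL F).u ν)) := by
    intro χ
    have e1 := h1 χ
    have e2 := h2 χ
    rw [hcast] at e1
    linear_combination -e1 - (p + 1) * e2
  have hs' : ∀ χ : IrrCharacter (S F), ((p : ℂ) + 2) * (a χ + b χ) = 2 * conj ((χ : S F → ℂ) 1) - (conj ((χ : S F → ℂ) ((frSL F).u 1)) + conj ((χ : S F → ℂ) ((frSL F).u ν))) := by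
    intro χ
    have := congrArg conj (hs χ)
    simp only [map_mul, map_sub, map_add, map_natCast, map_ofNat, map_one] at this
    exact this
  have hk' : ∀ χ : IrrCharacter (S F), 2 * ((p : ℂ) + 2) * K χ = 2 * conj ((χ : S F → ℂ) 1) + ((p : ℂ) + 1) * (conj ((χ : S F → ℂ) ((frSL F).u 1)) + conj ((χ : S F → ℂ) ((frSL F).u ν))) := by
    intro χ
    have := congrArg conj (hk χ)
    simp only [map_mul, map_sub, map_add, map_natCast, map_ofNat, map_one] at this
    exact this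
  have hd' : ∀ χ : IrrCharacter (S F), conj ((χ : S F → ℂ) ((frSL F).u 1)) - conj ((χ : S F → ℂ) ((frSL F).u ν)) = (a χ - b χ) * conj (gs ψ) := by
    intro χ
    have := congrArg conj (h3 χ)
    simpa using this
  -- the basic sums
  have c1 : ∑ χ : IrrCharacter (S F), ((χ : S F → ℂ) ((frSL F).u 1) + (χ : S F → ℂ) ((frSL F).u ν)) * (conj ((χ : S F → ℂ) ((frSL F).u 1)) + conj ((χ : S F → ℂ) ((frSL F).u ν))) = 4 * (p + 2) := by
    simp only [add_mul, mul_add, Finset.sum_add_distrib, oaa, obb, oab, oba]; ring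
  have c2 : ∑ χ : IrrCharacter (S F), (χ : S F → ℂ) 1 * (conj ((χ : S F → ℂ) ((frSL F).u 1)) + conj ((χ : S F → ℂ) ((frSL F).u ν))) = 0 := by
    simp only [mul_add, Finset.sum_add_distrib, o1a, o1b]; ring
  have c3 : ∑ χ : IrrCharacter (S F), ((χ : S F → ℂ) ((frSL F).u 1) + (χ : S F → ℂ) ((frSL F).u ν)) * conj ((χ : S F → ℂ) 1) = 0 := by
    simp only [add_mul, Finset.sum_add_distrib, oa1, ob1]; ring
  have c4 : ∑ χ : IrrCharacter (S F), ((χ : S F → ℂ) ((frSL F).u 1) - (χ : S F → ℂ) ((frSL F).u ν)) * (conj ((χ : S F → ℂ) ((frSL F).u 1)) - conj ((χ : S F → ℂ) ((frSL F).u ν))) = 4 * (p + 2) := by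
    simp only [sub_mul, mul_sub, Finset.sum_sub_distrib, oaa, obb, oab, oba]; ring
  have hgs := gs_conj h20 hψ
  rw [hcast] at hgs
  refine ⟨?_, ?_, ?_, ?_⟩
  · have : (∑ χ, ((a χ : ℂ) + b χ) ^ 2) = 4 * (p + 2) := by
      apply mul_left_cancel₀ (pow_ne_zero 2 hF)
      rw [Finset.mul_sum]
      have e : ∀ χ : IrrCharacter (S F), ((p : ℂ) + 2) ^ 2 * ((a χ : ℂ) + b χ) ^ 2 = 4 * ((χ : S F → ℂ) 1 * conj ((χ : S F → ℂ) 1))
          - 2 * ((χ : S F → ℂ) 1 * (conj ((χ : S F → ℂ) ((frSL F).u 1)) + conj ((χ : S F → ℂ) ((frSL F).u ν))))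
          - 2 * (((χ : S F → ℂ) ((frSL F).u 1) + (χ : S F → ℂ) ((frSL F).u ν)) * conj ((χ : S F → ℂ) 1))
          + ((χ : S F → ℂ) ((frSL F).u 1) + (χ : S F → ℂ) ((frSL F).u ν)) * (conj ((χ : S F → ℂ) ((frSL F).u 1)) + conj ((χ : S F → ℂ) ((frSL F).u ν))) := by
        intro χ
        have e1 := hs χ
        have e2 := hs' χ
        linear_combination (((p : ℂ) + 2) * (a χ + b χ)) * e1 + (2 * (χ : S F → ℂ) 1 - ((χ : S F → ℂ) ((frSL F).u 1) + (χ : S F → ℂ) ((frSL F).u ν))) * e2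
      rw [Finset.sum_congr rfl (fun χ _ => e χ), Finset.sum_add_distrib, Finset.sum_sub_distrib, Finset.sum_sub_distrib, ← Finset.mul_sum,
        ← Finset.mul_sum, ← Finset.mul_sum, o11, c1, c2, c3]
      ring
    rw [hp]
    have h7 : ((∑ χ, (a χ + b χ) ^ 2 : ℕ) : ℂ) = ((4 * (2 + p) : ℕ) : ℂ) := by push_cast; rw [this]; ring
    exact_mod_cast h7
  · have : (∑ χ, (K χ : ℂ) ^ 2) = 2 * (p + 1) := by
      have h22 : (2 * ((p : ℂ) + 2)) ^ 2 ≠ 0 := pow_ne_zero 2 (mul_ne_zero two_ne_zero hF)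
      apply mul_left_cancel₀ h22
      rw [Finset.mul_sum]
      have e : ∀ χ : IrrCharacter (S F), (2 * ((p : ℂ) + 2)) ^ 2 * (K χ : ℂ) ^ 2 = 4 * ((χ : S F → ℂ) 1 * conj ((χ : S F → ℂ) 1))
          + 2 * (p + 1) * ((χ : S F → ℂ) 1 * (conj ((χ : S F → ℂ) ((frSL F).u 1)) + conj ((χ : S F → ℂ) ((frSL F).u ν))))
          + 2 * (p + 1) * (((χ : S F → ℂ) ((frSL F).u 1) + (χ : S F → ℂ) ((frSL F).u ν)) * conj ((χ : S F → ℂ) 1))
          + (p + 1) ^ 2 * (((χ : S F → ℂ) ((frSL F).u 1) + (χ : S F → ℂ) ((frSL F).u ν)) * (conj ((χ : S F → ℂ) ((frSL F).u 1)) + conj ((χ : S F → ℂ) ((frSL F).u ν)))) := by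
        intro χ
        have e1 := hk χ
        have e2 := hk' χ
        linear_combination (2 * ((p : ℂ) + 2) * K χ) * e1 + (2 * (χ : S F → ℂ) 1 + ((p : ℂ) + 1) * ((χ : S F → ℂ) ((frSL F).u 1) + (χ : S F → ℂ) ((frSL F).u ν))) * e2
      rw [Finset.sum_congr rfl (fun χ _ => e χ), Finset.sum_add_distrib, Finset.sum_add_distrib, Finset.sum_add_distrib, ← Finset.mul_sum,
        ← Finset.mul_sum, ← Finset.mul_sum, ← Finset.mul_sum, o11, c1, c2, c3]
      ring
    rw [hp1]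
    have h7 : ((∑ χ, K χ ^ 2 : ℕ) : ℂ) = ((2 * (p + 1) : ℕ) : ℂ) := by push_cast; rw [this]
    exact_mod_cast h7
  · have : (∑ χ, (K χ : ℂ) * ((a χ : ℂ) + b χ)) = 2 * (p + 1) := by
      have h22 : 2 * ((p : ℂ) + 2) ^ 2 ≠ 0 := mul_ne_zero two_ne_zero (pow_ne_zero 2 hF)
      apply mul_left_cancel₀ h22
      rw [Finset.mul_sum]
      have e : ∀ χ : IrrCharacter (S F), 2 * ((p : ℂ) + 2) ^ 2 * ((K χ : ℂ) * ((a χ : ℂ) + b χ)) = 4 * ((χ : S F → ℂ) 1 * conj ((χ : S F → ℂ) 1))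
          - 2 * ((χ : S F → ℂ) 1 * (conj ((χ : S F → ℂ) ((frSL F).u 1)) + conj ((χ : S F → ℂ) ((frSL F).u ν))))
          + 2 * (p + 1) * (((χ : S F → ℂ) ((frSL F).u 1) + (χ : S F → ℂ) ((frSL F).u ν)) * conj ((χ : S F → ℂ) 1))
          - (p + 1) * (((χ : S F → ℂ) ((frSL F).u 1) + (χ : S F → ℂ) ((frSL F).u ν)) * (conj ((χ : S F → ℂ) ((frSL F).u 1)) + conj ((χ : S F → ℂ) ((frSL F).u ν)))) := by
        intro χ
        have e1 := hk χ
        have e2 := hs' χ
        linear_combination (((p : ℂ) + 2) * (a χ + b χ)) * e1 + (2 * (χ : S F → ℂ) 1 + ((p : ℂ) + 1) * ((χ : S F → ℂ) ((frSL F).u 1) + (χ : S F → ℂ) ((frSL F).u ν))) * e2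
      rw [Finset.sum_congr rfl (fun χ _ => e χ), Finset.sum_sub_distrib, Finset.sum_add_distrib, Finset.sum_sub_distrib, ← Finset.mul_sum,
        ← Finset.mul_sum, ← Finset.mul_sum, ← Finset.mul_sum, o11, c1, c2, c3]
      ring
    rw [hp1]
    have h7 : ((∑ χ, K χ * (a χ + b χ) : ℕ) : ℂ) = ((2 * (p + 1) : ℕ) : ℂ) := by push_cast; rw [this]
    exact_mod_cast h7
  · have : (∑ χ, ((a χ : ℂ) - b χ) ^ 2) = 4 := by
      apply mul_left_cancel₀ hF
      rw [Finset.mul_sum]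
      have e : ∀ χ : IrrCharacter (S F), ((p : ℂ) + 2) * ((a χ : ℂ) - b χ) ^ 2 = ((χ : S F → ℂ) ((frSL F).u 1) - (χ : S F → ℂ) ((frSL F).u ν)) * (conj ((χ : S F → ℂ) ((frSL F).u 1)) - conj ((χ : S F → ℂ) ((frSL F).u ν))) := by
        intro χ
        rw [h3 χ, hd' χ]
        linear_combination (-((a χ : ℂ) - b χ) ^ 2) * hgs
      rw [Finset.sum_congr rfl (fun χ _ => e χ), c4]
      ring
    have h7 : ((∑ χ, ((a χ : ℤ) - b χ) ^ 2 : ℤ) : ℂ) = ((4 : ℤ) : ℂ) := by push_cast; rw [this]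
    exact_mod_cast h7

/-- the multiplicities of all the irreducible characters, q odd -/
theorem odd_main (hodd : Odd (Fintype.card F)) {ν : F} (hν : ¬ IsSquare ν) {ψ : AddChar F ℂ} (hψ : ψ ≠ 1) :
    ∃ K a b : IrrCharacter (S F) → ℕ,
    (∀ χ : IrrCharacter (S F), ∑ c : F, (χ : S F → ℂ) ((frSL F).u c) = (Fintype.card F : ℂ) * K χ) ∧
    (∀ χ : IrrCharacter (S F), 2 * (χ : S F → ℂ) 1 = 2 * K χ + ((Fintype.card F : ℂ) - 1) * (a χ + b χ)) ∧
    (∀ χ : IrrCharacter (S F), (χ : S F → ℂ) ((frSL F).u 1) + (χ : S F → ℂ) ((frSL F).u ν) = 2 * K χ - (a χ + b χ)) ∧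
    (∀ χ : IrrCharacter (S F), (χ : S F → ℂ) ((frSL F).u 1) - (χ : S F → ℂ) ((frSL F).u ν) = (a χ - b χ) * gs ψ) ∧
    (∀ χ, a χ ≤ 1) ∧ (∀ χ, b χ ≤ 1) ∧ (∀ χ, K χ ≤ 2) ∧ (∀ χ, K χ = 2 → a χ = 1 ∧ b χ = 1) ∧ (∀ χ, a χ = 0 → b χ = 0 → K χ = 1) ∧
    Nat.card {χ // a χ + b χ = 0} = 1 ∧ 2 * Nat.card {χ // K χ = 2} = Fintype.card F - 3 ∧
    Nat.card {χ // K χ = 1 ∧ a χ + b χ = 2} = 1 ∧ Nat.card {χ // K χ = 1 ∧ a χ + b χ = 1} = 2 ∧
    Nat.card {χ // K χ = 0 ∧ a χ + b χ = 1} = 2 ∧ 2 * Nat.card {χ // K χ = 0 ∧ a χ + b χ = 2} = Fintype.card F - 1 := by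
  classical
  have h20 := two_ne_of_odd hodd
  have hF : (Fintype.card F : ℂ) ≠ 0 := by exact_mod_cast Fintype.card_ne_zero
  have hν0 : ν ≠ 0 := fun h => hν (h ▸ IsSquare.zero)
  have hq : 3 ≤ Fintype.card F := by
    have h2 : 2 ≤ Fintype.card F := Fintype.one_lt_card
    obtain ⟨k, hk⟩ := hodd
    omega
  have hq1 : (Fintype.card F : ℂ) - 1 ≠ 0 := by
    have : ((Fintype.card F - 1 : ℕ) : ℂ) ≠ 0 := by
      rw [Nat.cast_ne_zero]; omega
    rwa [Nat.cast_sub (by omega), Nat.cast_one] at this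
  have hex : ∀ χ : IrrCharacter (S F), ∃ K a b : ℕ, ∑ c : F, (χ : S F → ℂ) ((frSL F).u c) = (Fintype.card F : ℂ) * K ∧
    2 * (χ : S F → ℂ) 1 = 2 * K + ((Fintype.card F : ℂ) - 1) * (a + b) ∧
    (χ : S F → ℂ) ((frSL F).u 1) + (χ : S F → ℂ) ((frSL F).u ν) = 2 * K - (a + b) ∧
    (χ : S F → ℂ) ((frSL F).u 1) - (χ : S F → ℂ) ((frSL F).u ν) = (a - b) * gs ψ := fun χ => KAB (irr_isCharacter χ.2) hν h20 hψ
  choose K a b h0 h1 h2 h3 using hex
  obtain ⟨s1, s2, s3, s4⟩ := sums_odd hodd hν hψ K a b h1 h2 h3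
  -- the trivial character
  have htriv : ∀ χ : IrrCharacter (S F), a χ = 0 → b χ = 0 → (∀ g, (χ : S F → ℂ) g = 1) := by
    intro χ ha hb
    have e1 := h1 χ
    have e2 := h2 χ
    have e3 := h3 χ
    rw [ha, hb] at e1 e2 e3
    have e4 : (χ : S F → ℂ) ((frSL F).u 1) = (χ : S F → ℂ) 1 := by
      have : 2 * (χ : S F → ℂ) ((frSL F).u 1) = 2 * (χ : S F → ℂ) 1 := by
        push_cast at e1 e2 e3
        linear_combination e2 + e3 - e1
      exact mul_left_cancel₀ two_ne_zero this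
    have e5 : (χ : S F → ℂ) ((frSL F).u ν) = (χ : S F → ℂ) 1 := by
      have : 2 * (χ : S F → ℂ) ((frSL F).u ν) = 2 * (χ : S F → ℂ) 1 := by
        push_cast at e1 e2 e3
        linear_combination e2 - e3 - e1
      exact mul_left_cancel₀ two_ne_zero this
    have e6 : ∀ g, (χ : S F → ℂ) g = (χ : S F → ℂ) 1 := by
      apply sl_trivial (irr_isCharacter χ.2)
      intro c
      by_cases hc : c = 0
      · rw [hc, (frSL F).u_zero]
      · by_cases hs : IsSquare c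
        · rw [← e4]
          exact isClassFunction_iff_mem.mp (irr_classFun χ.2) _ _ ((sl_u_conj_iff hc one_ne_zero).mpr (by rwa [mul_one]))
        · rw [← e5]
          exact isClassFunction_iff_mem.mp (irr_classFun χ.2) _ _ ((sl_u_conj_iff hc hν0).mpr (isSquare_mul_of_not hs hν))
    have e7 : (χ : S F → ℂ) 1 = 1 := degree_one_of_comm χ.2 (fun d c => e6 _)
    intro g
    rw [e6, e7]
  have hT : ∀ χ, a χ * b χ ≤ a χ ^ 2 + b χ ^ 2 := fun χ => by nlinarith [sq_nonneg ((a χ : ℤ) - b χ), two_mul_le_add_sq (a χ) (b χ)]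
  have hT0 : ∀ χ, a χ ^ 2 + b χ ^ 2 - a χ * b χ = 0 ↔ a χ = 0 ∧ b χ = 0 := by
    intro χ
    have e1 := hT χ
    have e2 := two_mul_le_add_sq (a χ) (b χ)
    constructor
    · intro h
      have e3 : a χ ^ 2 + b χ ^ 2 = a χ * b χ := by omega
      have e4 : a χ * b χ = 0 := by
        have : 2 * (a χ * b χ) ≤ a χ * b χ := by rw [← mul_assoc]; omega
        omega
      rw [e4] at e3
      constructor
      · have : a χ ^ 2 = 0 := by omega
        exact pow_eq_zero_iff (two_ne_zero) |>.mp this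
      · have : b χ ^ 2 = 0 := by omega
        exact pow_eq_zero_iff (two_ne_zero) |>.mp this
    · rintro ⟨h, h'⟩; rw [h, h']; rfl
  have hsumT : ∑ χ, (a χ ^ 2 + b χ ^ 2 - a χ * b χ) = Fintype.card F + 3 := by
    have e1 : ∀ χ, (4 : ℤ) * ((a χ ^ 2 + b χ ^ 2 - a χ * b χ : ℕ) : ℤ) = (((a χ + b χ) ^ 2 : ℕ) : ℤ) + 3 * ((a χ : ℤ) - b χ) ^ 2 := by
      intro χ
      rw [Nat.cast_sub (hT χ)]
      push_cast
      ring
    have e2 : (4 : ℤ) * ((∑ χ, (a χ ^ 2 + b χ ^ 2 - a χ * b χ) : ℕ) : ℤ) = 4 * Fintype.card F + 12 := by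
      rw [Nat.cast_sum, Finset.mul_sum, Finset.sum_congr rfl (fun χ _ => e1 χ), Finset.sum_add_distrib, ← Nat.cast_sum, s1, ← Finset.mul_sum, s4]
      push_cast; ring
    omega
  have hcardι : Fintype.card (IrrCharacter (S F)) = (Fintype.card F + 3) + 1 := by
    rw [← Nat.card_eq_fintype_card, card_irr, card_classes_SL_odd hodd]
  have hl : (Finset.univ.filter (fun χ => a χ ^ 2 + b χ ^ 2 - a χ * b χ = 0)).card ≤ 1 := by
    rw [Finset.card_le_one]
    intro χ hχ χ' hχ'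
    rw [Finset.mem_filter, hT0] at hχ hχ'
    apply Subtype.ext
    funext g
    rw [htriv χ hχ.2.1 hχ.2.2, htriv χ' hχ'.2.1 hχ'.2.2]
  obtain ⟨hT1, hl2⟩ := le_one' _ _ _ hsumT hcardι hl
  have hab : ∀ χ, a χ ≤ 1 ∧ b χ ≤ 1 := by
    intro χ
    have e1 := hT1 χ
    have e2 := hT χ
    have e3 := two_mul_le_add_sq (a χ) (b χ)
    have e4 : a χ ^ 2 + b χ ^ 2 ≤ a χ * b χ + 1 := by omega
    have e5 : a χ * b χ ≤ 1 := by
      have : 2 * (a χ * b χ) ≤ a χ * b χ + 1 := by rw [← mul_assoc]; omega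
      omega
    constructor
    · by_contra hcon
      push Not at hcon
      nlinarith [Nat.zero_le (b χ ^ 2)]
    · by_contra hcon
      push Not at hcon
      nlinarith [Nat.zero_le (a χ ^ 2)]
  have hK2 : ∀ χ, K χ ≤ 2 ∧ (K χ = 2 → a χ = 1 ∧ b χ = 1) := by
    intro χ
    by_cases hz : ∑ c : F, (χ : S F → ℂ) ((frSL F).u c) = 0
    · rw [h0 χ] at hz
      have := (mul_eq_zero.mp hz).resolve_left hF
      have : K χ = 0 := by exact_mod_cast this
      omega
    · obtain ⟨f, L, hf, hL, h | h⟩ := K_cases (frSL F) χ.2 hz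
      · have h5 := h.2.2
        rw [h0 χ] at h5
        have h6 := mul_left_cancel₀ hF h5
        have h7 : K χ = 2 := by exact_mod_cast h6
        have h8 := h1 χ
        rw [h.2.1, ind_one_value (frSL F) hL, h7] at h8
        have h9 : ((Fintype.card F : ℂ) - 1) * (a χ + b χ) = ((Fintype.card F : ℂ) - 1) * 2 := by
          push_cast at h8; linear_combination -h8
        have h10 := mul_left_cancel₀ hq1 h9
        have h11 : a χ + b χ = 2 := by exact_mod_cast h10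
        have := hab χ
        omega
      · have h5 := h.2.1
        rw [h0 χ] at h5
        have h6 : (K χ : ℂ) = 1 := by
          apply mul_left_cancel₀ hF
          rw [h5, mul_one]
        have : K χ = 1 := by exact_mod_cast h6
        omega
  have hK1 : ∀ χ, a χ = 0 → b χ = 0 → K χ = 1 := by
    intro χ ha hb
    have e1 := h1 χ
    rw [ha, hb, htriv χ ha hb] at e1
    have : (2 : ℂ) * K χ = 2 * 1 := by push_cast at e1; linear_combination -e1
    have := mul_left_cancel₀ two_ne_zero this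
    exact_mod_cast this
  have hl3 : (Finset.univ.filter (fun χ => a χ + b χ = 0)).card = 1 := by
    rw [← hl2]
    congr 1
    ext χ
    rw [Finset.mem_filter, Finset.mem_filter, hT0, Nat.add_eq_zero_iff]
  obtain ⟨c1, c2, c3, c4⟩ := counts3 K a b (fun χ => (hab χ).1) (fun χ => (hab χ).2) (fun χ => (hK2 χ).1) (fun χ => (hK2 χ).2) hK1
  rw [hl3, hcardι] at c1
  rw [s2, hl3] at c2
  rw [s3] at c3
  rw [s1] at c4
  obtain ⟨k, hk⟩ := hodd
  refine ⟨K, a, b, h0, h1, h2, h3, fun χ => (hab χ).1, fun χ => (hab χ).2, fun χ => (hK2 χ).1, fun χ => (hK2 χ).2, hK1, ?_, ?_, ?_, ?_, ?_, ?_⟩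
  · rw [Nat.card_eq_fintype_card, Fintype.card_subtype]; exact hl3
  all_goals
    rw [Nat.card_eq_fintype_card, Fintype.card_subtype]
    omega

end CfsgLib.G2K
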