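import Cfsg.Agent.EqBase
import Cfsg.Agent.LibG2K
/-!
# SL_2(q), q odd: types and the diagonal automorphism (helper26)
-/
set_option autoImplicit false
set_option linter.unusedSectionVars false

open scoped ComplexConjugate
open Cfsg

namespace CfsgLib.G2L

open CfsgLib.CharBasic CfsgLib.CharIndA CfsgLib.G2A CfsgLib.G2B CfsgLib.G2C CfsgLib.G2D CfsgLib.G2E CfsgLib.G2F CfsgLib.G2G CfsgLib.G2H CfsgLib.G2I CfsgLib.G2J CfsgLib.G2K

universe v

section numeric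

theorem nat2 {q : ℕ} (hq : 1 ≤ q) {z : ℂ} {K a b : ℕ} (h : 2 * z = 2 * K + ((q : ℂ) - 1) * (a + b)) (n : ℕ) :
    z = (n : ℂ) ↔ 2 * K + (q - 1) * (a + b) = 2 * n := by
  have h2 : 2 * z = ((2 * K + (q - 1) * (a + b) : ℕ) : ℂ) := by rw [h]; push_cast [Nat.cast_sub hq]; ring
  constructor
  · intro h3
    rw [h3] at h2
    have : ((2 * n : ℕ) : ℂ) = ((2 * K + (q - 1) * (a + b) : ℕ) : ℂ) := by rw [← h2]; push_cast; ring
    exact (Nat.cast_injective this).symm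
  · intro h3
    rw [h3] at h2
    have : 2 * z = 2 * (n : ℂ) := by rw [h2]; push_cast; ring
    exact mul_left_cancel₀ two_ne_zero this

theorem type_iff {q K a b : ℕ} (hq : 5 ≤ q) (hodd : Odd q) (ha : a ≤ 1) (hb : b ≤ 1) (hK : K ≤ 2) (h2 : K = 2 → a = 1 ∧ b = 1)
    (h0 : a = 0 → b = 0 → K = 1) :
    (2 * K + (q - 1) * (a + b) = 2 * 1 ↔ a + b = 0) ∧ (2 * K + (q - 1) * (a + b) = 2 * q ↔ K = 1 ∧ a + b = 2) ∧
    (2 * K + (q - 1) * (a + b) = 2 * (q + 1) ↔ K = 2) ∧ (2 * K + (q - 1) * (a + b) = 2 * (q - 1) ↔ K = 0 ∧ a + b = 2) ∧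
    (2 * K + (q - 1) * (a + b) = 2 * ((q + 1) / 2) ↔ K = 1 ∧ a + b = 1) ∧
    (2 * K + (q - 1) * (a + b) = 2 * ((q - 1) / 2) ↔ K = 0 ∧ a + b = 1) := by
  obtain ⟨k, rfl⟩ := hodd
  interval_cases a <;> interval_cases b <;> interval_cases K <;> omega

theorem type_cases {q K a b : ℕ} (hq : 3 ≤ q) (hodd : Odd q) (ha : a ≤ 1) (hb : b ≤ 1) (hK : K ≤ 2) (h2 : K = 2 → a = 1 ∧ b = 1)
    (h0 : a = 0 → b = 0 → K = 1) :
    (2 * K + (q - 1) * (a + b) = 2 * 1 ∧ a + b = 0) ∨ (2 * K + (q - 1) * (a + b) = 2 * q ∧ K = 1 ∧ a + b = 2) ∨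
    (2 * K + (q - 1) * (a + b) = 2 * (q + 1) ∧ K = 2) ∨ (2 * K + (q - 1) * (a + b) = 2 * (q - 1) ∧ K = 0 ∧ a + b = 2) ∨
    (2 * K + (q - 1) * (a + b) = 2 * ((q + 1) / 2) ∧ K = 1 ∧ a + b = 1) ∨
    (2 * K + (q - 1) * (a + b) = 2 * ((q - 1) / 2) ∧ K = 0 ∧ a + b = 1) := by
  obtain ⟨k, rfl⟩ := hodd
  interval_cases a <;> interval_cases b <;> interval_cases K <;> omega

end numeric

variable {F : Type v} [Field F] [Fintype F] [DecidableEq F]

/-- conjugation by `diag(ν,1)` -/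
def sgm (ν : Fˣ) : S F ≃* S F where
  toFun g := mkSL !![(g : Matrix (Fin 2) (Fin 2) F) 0 0, ν * (g : Matrix (Fin 2) (Fin 2) F) 0 1;
    ((ν⁻¹ : Fˣ) : F) * (g : Matrix (Fin 2) (Fin 2) F) 1 0, (g : Matrix (Fin 2) (Fin 2) F) 1 1] (by
      have h := g.2
      rw [Matrix.det_fin_two] at h
      rw [Matrix.det_fin_two_of]
      have : (ν : F) * ((ν⁻¹ : Fˣ) : F) = 1 := ν.mul_inv
      linear_combination h - ((g : Matrix (Fin 2) (Fin 2) F) 0 1 * (g : Matrix (Fin 2) (Fin 2) F) 1 0) * this)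
  invFun g := mkSL !![(g : Matrix (Fin 2) (Fin 2) F) 0 0, ((ν⁻¹ : Fˣ) : F) * (g : Matrix (Fin 2) (Fin 2) F) 0 1;
    ν * (g : Matrix (Fin 2) (Fin 2) F) 1 0, (g : Matrix (Fin 2) (Fin 2) F) 1 1] (by
      have h := g.2
      rw [Matrix.det_fin_two] at h
      rw [Matrix.det_fin_two_of]
      have : (ν : F) * ((ν⁻¹ : Fˣ) : F) = 1 := ν.mul_inv
      linear_combination h - ((g : Matrix (Fin 2) (Fin 2) F) 0 1 * (g : Matrix (Fin 2) (Fin 2) F) 1 0) * this)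
  left_inv g := by
    apply Subtype.ext
    rw [mkSL_coe]
    apply ext2 <;> simp [mkSL_coe]
  right_inv g := by
    apply Subtype.ext
    rw [mkSL_coe]
    apply ext2 <;> simp [mkSL_coe]
  map_mul' g h := by
    have : (ν : F) * ((ν⁻¹ : Fˣ) : F) = 1 := ν.mul_inv
    apply Subtype.ext
    rw [mkSL_coe, Matrix.SpecialLinearGroup.coe_mul, Matrix.SpecialLinearGroup.coe_mul, mkSL_coe, mkSL_coe]
    apply ext2
    · simp [Matrix.mul_apply, Fin.sum_univ_two]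
      ring_nf
      simp
    · simp [Matrix.mul_apply, Fin.sum_univ_two]
      ring
    · simp [Matrix.mul_apply, Fin.sum_univ_two]
      ring
    · simp [Matrix.mul_apply, Fin.sum_univ_two]
      ring_nf
      simp

theorem sgm_coe (ν : Fˣ) (g : S F) : (sgm ν g : Matrix (Fin 2) (Fin 2) F) = !![(g : Matrix (Fin 2) (Fin 2) F) 0 0, ν * (g : Matrix (Fin 2) (Fin 2) F) 0 1;
    ((ν⁻¹ : Fˣ) : F) * (g : Matrix (Fin 2) (Fin 2) F) 1 0, (g : Matrix (Fin 2) (Fin 2) F) 1 1] := rfl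

theorem sgm_u (ν : Fˣ) (c : F) : sgm ν ((frSL F).u c) = (frSL F).u (ν * c) := by
  apply (frSL F).inj
  rw [(frSL F).mat_u]
  have : (frSL F).mat (sgm ν ((frSL F).u c)) = (sgm ν ((frSL F).u c) : Matrix (Fin 2) (Fin 2) F) := rfl
  rw [this, sgm_coe]
  have h2 : (((frSL F).u c : S F) : Matrix (Fin 2) (Fin 2) F) = !![1, c; 0, 1] := (frSL F).mat_u c
  rw [h2]
  apply ext2 <;> simp

/-- elements with no eigenvector are conjugate to their image -/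
theorem sgm_conj (hodd : Odd (Fintype.card F)) (ν : Fˣ) {g : S F} (hg : Ell (g : Matrix (Fin 2) (Fin 2) F)) : IsConj (sgm ν g) g := by
  have hq := hg.quad
  have hd := g.2
  rw [Matrix.det_fin_two] at hd
  apply sl_conj
  · intro h
    have h3 := h.2.1
    rw [sgm_coe] at h3
    simp at h3
    exact hg.ne h3
  · intro h; exact hg.ne h.2.1
  · rw [sgm_coe, Matrix.trace_fin_two_of, Matrix.trace_fin_two]
  · intro δ _
    apply form_odd hodd
    rw [sgm_coe, Matrix.trace_fin_two_of]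
    intro ht
    -- g has an eigenvector
    set a := (g : Matrix (Fin 2) (Fin 2) F) 0 0
    set b := (g : Matrix (Fin 2) (Fin 2) F) 0 1
    set c := (g : Matrix (Fin 2) (Fin 2) F) 1 0
    set d := (g : Matrix (Fin 2) (Fin 2) F) 1 1
    have hc : c ≠ 0 := hg.ne
    have h2 := two_ne_of_odd hodd
    apply hq ((a - d) / (2 * c))
    have h3 : b * c = a * d - 1 := by linear_combination -hd
    field_simp
    have h4 : (4 * c) * b + (a - d) ^ 2 = 0 := by linear_combination 4 * h3 + ht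
    linear_combination h4

section partner

variable {ν : F} (hν : ¬ IsSquare ν) {ψ : AddChar F ℂ} (hψ : ψ ≠ 1) {K a b : IrrCharacter (S F) → ℕ}
    (h1 : ∀ χ : IrrCharacter (S F), 2 * (χ : S F → ℂ) 1 = 2 * K χ + ((Fintype.card F : ℂ) - 1) * (a χ + b χ))
    (h2 : ∀ χ : IrrCharacter (S F), (χ : S F → ℂ) ((frSL F).u 1) + (χ : S F → ℂ) ((frSL F).u ν) = 2 * K χ - (a χ + b χ))
    (h3 : ∀ χ : IrrCharacter (S F), (χ : S F → ℂ) ((frSL F).u 1) - (χ : S F → ℂ) ((frSL F).u ν) = (a χ - b χ) * gs ψ)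

include hν hψ h1 h2 h3

theorem partner (h20 : (2 : F) ≠ 0) (ν' : Fˣ) (hν' : (ν' : F) = ν) (k : ℕ)
    (hcard : Nat.card {χ // K χ = k ∧ a χ + b χ = 1} = 2)
    (χ₁ χ₂ : IrrCharacter (S F)) (e1 : K χ₁ = k ∧ a χ₁ + b χ₁ = 1) (e2 : K χ₂ = k ∧ a χ₂ + b χ₂ = 1) (hne : χ₁ ≠ χ₂) :
    ∀ g, (χ₂ : S F → ℂ) g = (χ₁ : S F → ℂ) (sgm ν' g) := by
  have hF : (Fintype.card F : ℂ) ≠ 0 := by exact_mod_cast Fintype.card_ne_zero
  have hν0 : ν ≠ 0 := fun h => hν (h ▸ IsSquare.zero)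
  let χ₃ : IrrCharacter (S F) := ⟨(χ₁ : S F → ℂ) ∘ (sgm ν'), isIrrCharacter_comp_equiv χ₁.2 _⟩
  have hval : ∀ g, (χ₃ : S F → ℂ) g = (χ₁ : S F → ℂ) (sgm ν' g) := fun g => rfl
  have v1 : (χ₃ : S F → ℂ) 1 = (χ₁ : S F → ℂ) 1 := by rw [hval, map_one]
  have v2 : (χ₃ : S F → ℂ) ((frSL F).u 1) = (χ₁ : S F → ℂ) ((frSL F).u ν) := by rw [hval, sgm_u, hν', mul_one]
  have v3 : (χ₃ : S F → ℂ) ((frSL F).u ν) = (χ₁ : S F → ℂ) ((frSL F).u 1) := by
    rw [hval, sgm_u, hν']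
    apply isClassFunction_iff_mem.mp (irr_classFun χ₁.2) _ _
    rw [sl_u_conj_iff (mul_ne_zero hν0 hν0) one_ne_zero, mul_one]
    exact ⟨ν, rfl⟩
  have t1 := h1 χ₃
  have t2 := h2 χ₃
  rw [v1, h1 χ₁] at t1
  rw [v2, v3, add_comm, h2 χ₁] at t2
  have t3 : (Fintype.card F : ℂ) * ((a χ₃ + b χ₃ : ℕ) : ℂ) = (Fintype.card F : ℂ) * ((a χ₁ + b χ₁ : ℕ) : ℂ) := by
    push_cast; linear_combination t2 - t1
  have t4 : a χ₃ + b χ₃ = a χ₁ + b χ₁ := Nat.cast_injective (mul_left_cancel₀ hF t3)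
  have t4' : ((a χ₃ : ℂ) + b χ₃) = (a χ₁ : ℂ) + b χ₁ := by exact_mod_cast t4
  have t5 : (2 : ℂ) * (K χ₃ : ℂ) = 2 * (K χ₁ : ℂ) := by
    rw [t4'] at t2
    linear_combination -t2
  have t6 : K χ₃ = K χ₁ := Nat.cast_injective (mul_left_cancel₀ two_ne_zero t5)
  have e3 : K χ₃ = k ∧ a χ₃ + b χ₃ = 1 := ⟨t6.trans e1.1, t4.trans e1.2⟩
  have hne3 : χ₁ ≠ χ₃ := by
    intro h
    have h5 : (χ₁ : S F → ℂ) ((frSL F).u 1) = (χ₁ : S F → ℂ) ((frSL F).u ν) := by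
      conv_lhs => rw [h]
      exact v2
    have h6 := h3 χ₁
    rw [h5, sub_self] at h6
    rcases mul_eq_zero.mp h6.symm with h7 | h7
    · have h8 : (a χ₁ : ℂ) = b χ₁ := by linear_combination h7
      have h9 : a χ₁ = b χ₁ := by exact_mod_cast h8
      omega
    · exact gs_ne h20 hψ h7
  obtain ⟨x, y, -, hxy⟩ := Nat.card_eq_two_iff.mp hcard
  have hall : ∀ z : {χ // K χ = k ∧ a χ + b χ = 1}, z = x ∨ z = y := fun z => by
    have : z ∈ ({x, y} : Set _) := by rw [hxy]; trivial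
    simpa using this
  have h12 : χ₂ = χ₃ := by
    have z1 := hall ⟨χ₁, e1⟩
    have z2 := hall ⟨χ₂, e2⟩
    have z3 := hall ⟨χ₃, e3⟩
    rcases z1 with z1 | z1 <;> rcases z2 with z2 | z2 <;> rcases z3 with z3 | z3
    · exact absurd (congrArg Subtype.val (z1.trans z2.symm)) hne
    · exact absurd (congrArg Subtype.val (z1.trans z2.symm)) hne
    · exact absurd (congrArg Subtype.val (z1.trans z3.symm)) hne3
    · exact congrArg Subtype.val (z2.trans z3.symm)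
    · exact congrArg Subtype.val (z2.trans z3.symm)
    · exact absurd (congrArg Subtype.val (z1.trans z3.symm)) hne3
    · exact absurd (congrArg Subtype.val (z1.trans z2.symm)) hne
    · exact absurd (congrArg Subtype.val (z1.trans z2.symm)) hne
  intro g
  rw [h12, hval]

end partner

end CfsgLib.G2L
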