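import Cfsg.Agent.LibGlaubG
import Cfsg.Agent.LibCoprime
import Cfsg.Agent.LibSolvMin
/-!
# Glauberman's lemma for abstract actions; solvable operator groups (helper20)
-/
set_option autoImplicit false
set_option linter.all false
open scoped ComplexConjugate
open Cfsg
namespace CfsgLib.Glaub2
open CfsgLib CfsgLib.CharBasic CfsgLib.CharIndA CfsgLib.Clifford CfsgLib.Glaub

universe u v w

section Lemma
variable {A : Type u} {B : Type v} [Group A] [Group B] (φ : A →* MulAut B) {Ω : Type w}
  (fA : A → Ω → Ω) (fB : B → Ω → Ω) (hA1 : ∀ ω, fA 1 ω = ω) (hAm : ∀ a a' ω, fA (a * a') ω = fA a (fA a' ω))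
  (hB1 : ∀ ω, fB 1 ω = ω) (hBm : ∀ b b' ω, fB (b * b') ω = fB b (fB b' ω))
  (hcomp : ∀ a b ω, fA a (fB b ω) = fB (φ a b) (fA a ω))

/-- the action of the semidirect product -/
@[reducible] def semiAct : MulAction (B ⋊[φ] A) Ω where
  smul x ω := fB x.left (fA x.right ω)
  one_smul ω := by
    change fB 1 (fA 1 ω) = ω
    rw [hA1, hB1]
  mul_smul x y ω := by
    change fB (x * y).left (fA (x * y).right ω) = fB x.left (fA x.right (fB y.left (fA y.right ω)))
    rw [SemidirectProduct.mul_left, SemidirectProduct.mul_right, hBm, hAm, hcomp]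

include hA1 hAm hB1 hBm hcomp in
/-- Glauberman's lemma: existence -/
theorem glaub_fixed [Finite A] [Finite B] (hcop : (Nat.card A).Coprime (Nat.card B))
    (hsolv : Group.IsSolvable A ∨ Group.IsSolvable B)
    (S : Set Ω) (hne : S.Nonempty) (hSA : ∀ a, ∀ s ∈ S, fA a s ∈ S) (hSB : ∀ b, ∀ s ∈ S, fB b s ∈ S)
    (htr : ∀ s ∈ S, ∀ t ∈ S, ∃ b, fB b s = t) : ∃ s ∈ S, ∀ a, fA a s = s := by
  letI := semiAct φ fA fB hA1 hAm hB1 hBm hcomp
  have hsmul : ∀ (x : B ⋊[φ] A) (ω : Ω), x • ω = fB x.left (fA x.right ω) := fun _ _ => rfl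
  haveI : Finite (B ⋊[φ] A) := Finite.of_equiv _ SemidirectProduct.equivProd.symm
  have hcA : Nat.card (SemidirectProduct.inr : A →* B ⋊[φ] A).range = Nat.card A :=
    (Nat.card_congr (MonoidHom.ofInjective SemidirectProduct.inr_injective).toEquiv).symm
  have hcB : Nat.card (SemidirectProduct.inl : B →* B ⋊[φ] A).range = Nat.card B :=
    (Nat.card_congr (MonoidHom.ofInjective SemidirectProduct.inl_injective).toEquiv).symm
  obtain ⟨s, hs, hs'⟩ := Coprime.glauberman_exists_fixed
    (A := (SemidirectProduct.inr : A →* B ⋊[φ] A).range) (K := (SemidirectProduct.inl : B →* B ⋊[φ] A).range)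
    (by
      rintro _ ⟨a, rfl⟩
      rw [Subgroup.mem_normalizer_iff]
      rintro x
      constructor
      · rintro ⟨b, rfl⟩
        exact ⟨φ a b, by rw [SemidirectProduct.inl_aut, map_inv]⟩
      · rintro ⟨b, hb⟩
        refine ⟨φ a⁻¹ b, ?_⟩
        rw [SemidirectProduct.inl_aut, hb]
        rw [map_inv]; group)
    (by rw [hcA, hcB]; exact hcop)
    (hsolv.imp (fun h => Coprime.isSolvable_of_equiv (MonoidHom.ofInjective SemidirectProduct.inr_injective) h)
      (fun h => Coprime.isSolvable_of_equiv (MonoidHom.ofInjective SemidirectProduct.inl_injective) h))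
    S hne
    (by
      rintro _ ⟨a, rfl⟩ s hs
      rw [hsmul, SemidirectProduct.left_inr, SemidirectProduct.right_inr, hB1]
      exact hSA a s hs)
    (by
      rintro _ ⟨b, rfl⟩ s hs
      rw [hsmul, SemidirectProduct.left_inl, SemidirectProduct.right_inl, hA1]
      exact hSB b s hs)
    (by
      intro s hs t ht
      obtain ⟨b, hb⟩ := htr s hs t ht
      refine ⟨SemidirectProduct.inl b, ⟨b, rfl⟩, ?_⟩
      rw [hsmul, SemidirectProduct.left_inl, SemidirectProduct.right_inl, hA1]
      exact hb)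
  refine ⟨s, hs, fun a => ?_⟩
  have := hs' (SemidirectProduct.inr a) ⟨a, rfl⟩
  rwa [hsmul, SemidirectProduct.left_inr, SemidirectProduct.right_inr, hB1] at this

include hA1 hAm hB1 hBm hcomp in
/-- Glauberman's lemma: conjugacy -/
theorem glaub_conj [Finite A] [Finite B] (hcop : (Nat.card A).Coprime (Nat.card B))
    (hsolv : Group.IsSolvable A ∨ Group.IsSolvable B)
    {s t : Ω} (hs : ∀ a, fA a s = s) (ht : ∀ a, fA a t = t) {b : B} (hb : fB b s = t) :
    ∃ c : B, (∀ a, φ a c = c) ∧ fB c s = t := by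
  letI := semiAct φ fA fB hA1 hAm hB1 hBm hcomp
  have hsmul : ∀ (x : B ⋊[φ] A) (ω : Ω), x • ω = fB x.left (fA x.right ω) := fun _ _ => rfl
  haveI : Finite (B ⋊[φ] A) := Finite.of_equiv _ SemidirectProduct.equivProd.symm
  have hcA : Nat.card (SemidirectProduct.inr : A →* B ⋊[φ] A).range = Nat.card A :=
    (Nat.card_congr (MonoidHom.ofInjective SemidirectProduct.inr_injective).toEquiv).symm
  have hcB : Nat.card (SemidirectProduct.inl : B →* B ⋊[φ] A).range = Nat.card B :=
    (Nat.card_congr (MonoidHom.ofInjective SemidirectProduct.inl_injective).toEquiv).symm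
  obtain ⟨x, hx, hx'⟩ := Coprime.glauberman_fixed_conj
    (A := (SemidirectProduct.inr : A →* B ⋊[φ] A).range) (K := (SemidirectProduct.inl : B →* B ⋊[φ] A).range)
    (by
      rintro _ ⟨a, rfl⟩
      rw [Subgroup.mem_normalizer_iff]
      rintro x
      constructor
      · rintro ⟨b, rfl⟩
        exact ⟨φ a b, by rw [SemidirectProduct.inl_aut, map_inv]⟩
      · rintro ⟨b, hb⟩
        refine ⟨φ a⁻¹ b, ?_⟩
        rw [SemidirectProduct.inl_aut, hb]
        rw [map_inv]; group)
    (by rw [hcA, hcB]; exact hcop)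
    (hsolv.imp (fun h => Coprime.isSolvable_of_equiv (MonoidHom.ofInjective SemidirectProduct.inr_injective) h)
      (fun h => Coprime.isSolvable_of_equiv (MonoidHom.ofInjective SemidirectProduct.inl_injective) h))
    (s := s) (t := t)
    (by
      rintro _ ⟨a, rfl⟩
      rw [hsmul, SemidirectProduct.left_inr, SemidirectProduct.right_inr, hB1]
      exact hs a)
    (by
      rintro _ ⟨a, rfl⟩
      rw [hsmul, SemidirectProduct.left_inr, SemidirectProduct.right_inr, hB1]
      exact ht a)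
    (k := SemidirectProduct.inl b) ⟨b, rfl⟩
    (by
      rw [hsmul, SemidirectProduct.left_inl, SemidirectProduct.right_inl, hA1]
      exact hb)
  obtain ⟨⟨c, rfl⟩, hx2⟩ := hx
  refine ⟨c, fun a => ?_, ?_⟩
  · have h1 := Subgroup.mem_centralizer_iff.mp hx2 (SemidirectProduct.inr a) ⟨a, rfl⟩
    apply SemidirectProduct.inl_injective (φ := φ)
    rw [SemidirectProduct.inl_aut, h1, mul_assoc, ← map_mul, mul_inv_cancel, map_one, mul_one]
  · rwa [hsmul, SemidirectProduct.left_inl, SemidirectProduct.right_inl, hA1] at hx'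

end Lemma

section Classes
variable {A : Type v} {G : Type u} [Group A] [Finite A] [Group G] [Finite G] (φ : A →* MulAut G)
  (hcop : (Nat.card A).Coprime (Nat.card G)) (hsolv : Group.IsSolvable A ∨ Group.IsSolvable G)

include hcop hsolv in
theorem exists_in_fix {g : G} (h : ∀ a, IsConj g (φ a g)) : ∃ c ∈ fix φ, IsConj g c := by
  obtain ⟨s, hs, hs'⟩ := glaub_fixed φ (Ω := G) (fun a g => φ a g) (fun b g => b * g * b⁻¹)
    (fun ω => by rw [map_one]; rfl) (fun a a' ω => by rw [map_mul]; rfl) (fun ω => by simp)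
    (fun b b' ω => by group) (fun a b ω => by simp) hcop hsolv {x | IsConj g x} ⟨g, IsConj.refl g⟩
    (fun a s hs => (h a).trans ((φ a).toMonoidHom.map_isConj hs))
    (fun b s hs => hs.trans (isConj_iff.mpr ⟨b, rfl⟩))
    (fun s hs t ht => by
      obtain ⟨b, hb⟩ := isConj_iff.mp (hs.symm.trans ht)
      exact ⟨b, hb⟩)
  exact ⟨s, hs', hs⟩

include hcop hsolv in
theorem conj_in_fix {c d : G} (hc : c ∈ fix φ) (hd : d ∈ fix φ) (h : IsConj c d) :
    ∃ x ∈ fix φ, x * c * x⁻¹ = d := by
  obtain ⟨b, hb⟩ := isConj_iff.mp h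
  obtain ⟨x, hx, hx'⟩ := glaub_conj φ (Ω := G) (fun a g => φ a g) (fun b g => b * g * b⁻¹)
    (fun ω => by rw [map_one]; rfl) (fun a a' ω => by rw [map_mul]; rfl) (fun ω => by simp)
    (fun b b' ω => by group) (fun a b ω => by simp) hcop hsolv hc hd hb
  exact ⟨x, hx, hx'⟩

include hcop hsolv in
/-- invariant classes of `G` correspond to classes of the fixed point subgroup -/
theorem card_invariant_classes :
    Nat.card {K : ConjClasses G // ∀ a, ∀ g : G, ConjClasses.mk g = K → ConjClasses.mk (φ a g) = K} =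
      Nat.card (ConjClasses (fix φ)) := by
  symm
  refine Nat.card_congr (Equiv.ofBijective (fun L : ConjClasses (fix φ) =>
    (⟨ConjClasses.map (fix φ).subtype L, ?_⟩ :
      {K : ConjClasses G // ∀ a, ∀ g : G, ConjClasses.mk g = K → ConjClasses.mk (φ a g) = K})) ⟨?_, ?_⟩)
  · intro a g hg
    obtain ⟨c, rfl⟩ := ConjClasses.exists_rep L
    change ConjClasses.mk g = ConjClasses.mk (c : G) at hg
    change ConjClasses.mk (φ a g) = ConjClasses.mk (c : G)
    rw [ConjClasses.mk_eq_mk_iff_isConj] at hg ⊢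
    have h1 := (φ a).toMonoidHom.map_isConj hg
    have h2 : (φ a).toMonoidHom (c : G) = c := c.2 a
    rwa [h2] at h1
  · intro L L' h
    have h' := congrArg Subtype.val h
    obtain ⟨c, rfl⟩ := ConjClasses.exists_rep L
    obtain ⟨d, rfl⟩ := ConjClasses.exists_rep L'
    change ConjClasses.mk (c : G) = ConjClasses.mk (d : G) at h'
    rw [ConjClasses.mk_eq_mk_iff_isConj] at h' ⊢
    obtain ⟨x, hx, hx'⟩ := conj_in_fix φ hcop hsolv c.2 d.2 h'
    exact isConj_iff.mpr ⟨⟨x, hx⟩, Subtype.ext hx'⟩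
  · rintro ⟨K, hK⟩
    obtain ⟨g, rfl⟩ := ConjClasses.exists_rep K
    obtain ⟨c, hc, hgc⟩ := exists_in_fix φ hcop hsolv (g := g) (fun a => by
      have := hK a g rfl
      rw [ConjClasses.mk_eq_mk_iff_isConj] at this
      exact this.symm)
    refine ⟨ConjClasses.mk ⟨c, hc⟩, Subtype.ext ?_⟩
    change ConjClasses.mk c = ConjClasses.mk g
    rw [ConjClasses.mk_eq_mk_iff_isConj]
    exact hgc.symm

end Classes
section Restrict
variable {A : Type v} {G : Type u} [Group A] [Group G] (φ : A →* MulAut G)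

theorem inv_apply_apply (a : A) (g : G) : φ a⁻¹ (φ a g) = g := by
  rw [← MulAut.mul_apply, ← map_mul, inv_mul_cancel, map_one]; rfl

theorem apply_inv_apply (a : A) (g : G) : φ a (φ a⁻¹ g) = g := by
  rw [← MulAut.mul_apply, ← map_mul, mul_inv_cancel, map_one]; rfl

/-- restriction of the operators to an invariant subgroup -/
def resHom (D : Subgroup G) (hD : ∀ a, ∀ d ∈ D, φ a d ∈ D) : A →* MulAut D where
  toFun a :=
    { toFun := fun d => ⟨φ a d, hD a d d.2⟩
      invFun := fun d => ⟨φ a⁻¹ d, hD a⁻¹ d d.2⟩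
      left_inv := fun d => Subtype.ext (inv_apply_apply φ a d)
      right_inv := fun d => Subtype.ext (apply_inv_apply φ a d)
      map_mul' := fun d e => Subtype.ext (map_mul (φ a) (d : G) e) }
  map_one' := by
    ext d
    change φ 1 (d : G) = d
    rw [map_one]; rfl
  map_mul' := fun a b => by
    ext d
    change φ (a * b) (d : G) = φ a (φ b d)
    rw [map_mul]; rfl

theorem resHom_apply (D : Subgroup G) (hD : ∀ a, ∀ d ∈ D, φ a d ∈ D) (a : A) (d : D) :
    ((resHom φ D hD a d : D) : G) = φ a d := rfl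

/-- fixed points of a normal subgroup of operators are invariant -/
theorem fix_normal (T : Subgroup A) [hT : T.Normal] : ∀ a, ∀ d ∈ fix (φ.comp T.subtype), φ a d ∈ fix (φ.comp T.subtype) := by
  intro a d hd t
  change φ t (φ a d) = φ a d
  have h1 : φ (a⁻¹ * t * a) d = d := hd ⟨a⁻¹ * t * a, by
    have := hT.conj_mem t t.2 a⁻¹
    rwa [inv_inv] at this⟩
  rw [← MulAut.mul_apply, ← map_mul]
  have e : (t : A) * a = a * (a⁻¹ * t * a) := by group
  rw [e, map_mul, MulAut.mul_apply, h1]

/-- the quotient of the operator group acts on the fixed points of a normal subgroup -/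
def quotHom (T : Subgroup A) [hT : T.Normal] : (A ⧸ T) →* MulAut (fix (φ.comp T.subtype)) :=
  QuotientGroup.lift T (resHom φ (fix (φ.comp T.subtype)) (fix_normal φ T)) (by
    intro t ht
    ext d
    exact d.2 ⟨t, ht⟩)

theorem quotHom_mk (T : Subgroup A) [hT : T.Normal] (a : A) (d : fix (φ.comp T.subtype)) :
    ((quotHom φ T (a : A ⧸ T) d : fix (φ.comp T.subtype)) : G) = φ a d := rfl

theorem mem_fix_quotHom (T : Subgroup A) [hT : T.Normal] (d : fix (φ.comp T.subtype)) :
    d ∈ fix (quotHom φ T) ↔ (d : G) ∈ fix φ := by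
  constructor
  · intro h a
    have := congrArg Subtype.val (h (a : A ⧸ T))
    exact this
  · intro h x
    obtain ⟨a, rfl⟩ := QuotientGroup.mk_surjective x
    exact Subtype.ext (h a)

theorem fix_le_fix (T : Subgroup A) : fix φ ≤ fix (φ.comp T.subtype) := fun _ hg t => hg t

/-- the fixed points of the quotient -/
def fixQuotEquiv (T : Subgroup A) [hT : T.Normal] : fix (quotHom φ T) ≃* fix φ where
  toFun x := ⟨(x : fix (φ.comp T.subtype)), (mem_fix_quotHom φ T x).mp x.2⟩
  invFun x := ⟨⟨x, fix_le_fix φ T x.2⟩, (mem_fix_quotHom φ T _).mpr x.2⟩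
  left_inv x := rfl
  right_inv x := rfl
  map_mul' x y := rfl

theorem inv_quotHom (T : Subgroup A) [hT : T.Normal] (f : fix (φ.comp T.subtype) → ℂ) :
    Inv (quotHom φ T) f ↔ Inv (resHom φ _ (fix_normal φ T)) f := by
  constructor
  · intro h a d
    exact h (a : A ⧸ T) d
  · intro h x d
    obtain ⟨a, rfl⟩ := QuotientGroup.mk_surjective x
    exact h a d

end Restrict

section Rel
theorem card_eq_of_rel {X Y : Type*} (R : X → Y → Prop) (h1 : ∀ x, ∃ y, R x y) (h2 : ∀ y, ∃ x, R x y)
    (h3 : ∀ x y y', R x y → R x y' → y = y') (h4 : ∀ x x' y, R x y → R x' y → x = x') : Nat.card X = Nat.card Y := by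
  choose f hf using h1
  apply Nat.card_congr (Equiv.ofBijective f ⟨?_, ?_⟩)
  · intro x x' h
    exact h4 x x' (f x) (hf x) (h ▸ hf x')
  · intro y
    obtain ⟨x, hx⟩ := h2 y
    exact ⟨x, h3 x _ _ (hf x) hx⟩
end Rel

section Step
variable {A : Type v} {G : Type u} [Group A] [Finite A] [Group G] [Fintype G] (φ : A →* MulAut G)

/-- the Glauberman relation commutes with further operators -/
theorem star_comp (D : Subgroup G) [Fintype D] (e : MulAut G) (e' : MulAut D) (he : ∀ d : D, ((e' d : D) : G) = e d)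
    (p : ℕ) {χ : G → ℂ} {β : D → ℂ} (h : Glaub.Star D p χ β) : Glaub.Star D p (χ ∘ e) (β ∘ e') := by
  obtain ⟨m, hm, hmp⟩ := h
  refine ⟨m, ?_, hmp⟩
  have h1 : (fun d : D => (χ ∘ e) d) = (fun d : D => χ d) ∘ e' := by
    ext d
    change χ (e d) = χ ((e' d : D) : G)
    rw [he]
  rw [← hm, h1, ci_equiv]

theorem prime_not_dvd_of_coprime {T : Subgroup A} (hT : T ≠ ⊥) {q : ℕ} (hq : q.Prime) (hTq : IsPGroup q T) {n : ℕ}
    (hcop : (Nat.card A).Coprime n) : ¬ q ∣ n := by
  intro hdvd
  haveI : Fact q.Prime := ⟨hq⟩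
  obtain ⟨k, hk⟩ := IsPGroup.iff_card.mp hTq
  have hk0 : k ≠ 0 := by
    rintro rfl
    apply hT
    rw [pow_zero] at hk
    exact Subgroup.eq_bot_of_card_eq T hk
  have h1 : q ∣ Nat.card T := by rw [hk]; exact dvd_pow_self q hk0
  have h2 := Nat.dvd_gcd (h1.trans (Subgroup.card_subgroup_dvd_card T)) hdvd
  rw [hcop] at h2
  exact hq.one_lt.ne' (Nat.dvd_one.mp h2)

variable (T : Subgroup A) [hT : T.Normal] {q : ℕ} (hq : q.Prime) (hTq : IsPGroup q T) (hG : ¬ q ∣ Nat.card G)

include hq hTq hG in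
theorem inv_iff_star [Fintype (fix (φ.comp T.subtype))] {χ : G → ℂ} (hχ : IsIrrCharacter G χ) (hi : Inv (φ.comp T.subtype) χ)
    {β : fix (φ.comp T.subtype) → ℂ} (hβ : IsIrrCharacter _ β) (h : Glaub.Star (fix (φ.comp T.subtype)) q χ β) :
    Inv φ χ ↔ Inv (quotHom φ T) β := by
  rw [inv_quotHom]
  have hinvT : ∀ a, Inv (φ.comp T.subtype) (χ ∘ (φ a)) := by
    intro a t g
    change χ (φ a (φ t g)) = χ (φ a g)
    have e : φ a (φ (t : A) g) = φ (a * t * a⁻¹) (φ a g) := by
      rw [map_mul, map_mul, MulAut.mul_apply, MulAut.mul_apply, inv_apply_apply]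
    rw [e]
    exact hi ⟨a * t * a⁻¹, hT.conj_mem t t.2 a⟩ (φ a g)
  constructor
  · intro hinv a
    have h1 := star_comp (fix (φ.comp T.subtype)) (φ a) (resHom φ _ (fix_normal φ T) a) (fun d => rfl) q h
    have h2 : χ ∘ (φ a) = χ := by ext g; exact hinv a g
    rw [h2] at h1
    have h3 := star_right (φ.comp T.subtype) _ rfl hq hTq hG hχ hi
      (isIrrCharacter_comp_equiv hβ (resHom φ _ (fix_normal φ T) a)) hβ h1 h
    intro d
    exact congrFun h3 d
  · intro hinv a
    have h1 := star_comp (fix (φ.comp T.subtype)) (φ a) (resHom φ _ (fix_normal φ T) a) (fun d => rfl) q h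
    have h2 : β ∘ (resHom φ _ (fix_normal φ T) a) = β := by ext d; exact hinv a d
    rw [h2] at h1
    have h3 := star_left (φ.comp T.subtype) _ rfl hq hTq hG
      (isIrrCharacter_comp_equiv hχ (φ a)) hχ (hinvT a) hi hβ h1 h
    intro g
    exact congrFun h3 g

include hq hTq hG in
theorem card_step : Nat.card {χ : IrrCharacter G // Inv φ (χ : G → ℂ)} =
    Nat.card {β : IrrCharacter (fix (φ.comp T.subtype)) // Inv (quotHom φ T) (β : _ → ℂ)} := by
  classical
  haveI := Fintype.ofFinite (fix (φ.comp T.subtype))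
  apply card_eq_of_rel (fun χ β => Glaub.Star (fix (φ.comp T.subtype)) q (χ.1 : G → ℂ) (β.1 : _ → ℂ))
  · rintro ⟨χ, hχ⟩
    obtain ⟨β, hβ, hst⟩ := star_exists (fix (φ.comp T.subtype)) hq hG χ.2
    exact ⟨⟨⟨β, hβ⟩, (inv_iff_star φ T hq hTq hG χ.2 (fun t g => hχ t g) hβ hst).mp hχ⟩, hst⟩
  · rintro ⟨β, hβ⟩
    obtain ⟨χ, hχ, hi, hst⟩ := star_surj (φ.comp T.subtype) _ rfl hq hTq hG β.2
    exact ⟨⟨⟨χ, hχ⟩, (inv_iff_star φ T hq hTq hG hχ hi β.2 hst).mpr hβ⟩, hst⟩
  · rintro ⟨χ, hχ⟩ ⟨β, hβ⟩ ⟨β', hβ'⟩ h h'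
    exact Subtype.ext (Subtype.ext (star_right (φ.comp T.subtype) _ rfl hq hTq hG χ.2 (fun t g => hχ t g) β.2 β'.2 h h'))
  · rintro ⟨χ, hχ⟩ ⟨χ', hχ'⟩ ⟨β, hβ⟩ h h'
    exact Subtype.ext (Subtype.ext (star_left (φ.comp T.subtype) _ rfl hq hTq hG χ.2 χ'.2 (fun t g => hχ t g)
      (fun t g => hχ' t g) β.2 h h'))

end Step

section Count

theorem card_conjClasses_congr {G H : Type*} [Group G] [Group H] (e : G ≃* H) :
    Nat.card (ConjClasses G) = Nat.card (ConjClasses H) := by
  apply Nat.card_congr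
  refine ⟨ConjClasses.map e.toMonoidHom, ConjClasses.map e.symm.toMonoidHom, ?_, ?_⟩
  · intro K
    obtain ⟨g, rfl⟩ := ConjClasses.exists_rep K
    change ConjClasses.mk (e.symm (e g)) = _
    rw [MulEquiv.symm_apply_apply]
  · intro K
    obtain ⟨g, rfl⟩ := ConjClasses.exists_rep K
    change ConjClasses.mk (e (e.symm g)) = _
    rw [MulEquiv.apply_symm_apply]

/-- for solvable coprime operator groups the number of invariant irreducible characters is the class number of the
fixed point subgroup -/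
theorem card_invariant_irr_aux (n : ℕ) : ∀ {A : Type v} {G : Type u} [Group A] [Finite A] [Group G] [Finite G]
    (φ : A →* MulAut G), Nat.card A = n → (Nat.card A).Coprime (Nat.card G) → Group.IsSolvable A →
    Nat.card {χ : IrrCharacter G // Inv φ (χ : G → ℂ)} = Nat.card (ConjClasses (fix φ)) := by
  induction n using Nat.strong_induction_on with
  | _ n ih =>
    intro A G _ _ _ _ φ hn hcop hsolv
    haveI := Fintype.ofFinite G
    by_cases hA : Subsingleton A
    · have h1 : ∀ a, φ a = 1 := fun a => by rw [Subsingleton.elim a 1, map_one]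
      have h2 : Nat.card {χ : IrrCharacter G // Inv φ (χ : G → ℂ)} = Nat.card (IrrCharacter G) := by
        apply Nat.card_congr
        exact Equiv.subtypeUnivEquiv (fun χ a g => by rw [h1]; rfl)
      rw [h2, card_irr]
      have h3 : fix φ = ⊤ := by
        rw [eq_top_iff]
        intro g _ a
        rw [h1]; rfl
      rw [h3]
      exact card_conjClasses_congr Subgroup.topEquiv.symm
    · haveI : Nontrivial A := not_subsingleton_iff_nontrivial.mp hA
      obtain ⟨T, q, hq, hTmin, -, -, -, hTq⟩ := SolvMin.exists_minNormal_pgroup_of_solvable (⊤ : Subgroup A) top_ne_bot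
      haveI hTn : T.Normal := hTmin.1
      have hTne : T ≠ ⊥ := hTmin.2.1
      have hG : ¬ q ∣ Nat.card G := prime_not_dvd_of_coprime hTne hq hTq hcop
      rw [card_step φ T hq hTq hG]
      have hlt : Nat.card (A ⧸ T) < n := by
        rw [← hn, ← Subgroup.card_mul_index T]
        have h1 : 1 < Nat.card T := by
          rw [Finite.one_lt_card_iff_nontrivial]
          exact (Subgroup.nontrivial_iff_ne_bot T).mpr hTne
        change T.index < _
        have h2 : 0 < T.index := Nat.pos_of_ne_zero Subgroup.index_ne_zero_of_finite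
        nlinarith
      rw [ih _ hlt (quotHom φ T) rfl ?_ ?_]
      · exact card_conjClasses_congr (fixQuotEquiv φ T)
      · exact Nat.Coprime.coprime_dvd_left (Subgroup.card_quotient_dvd_card T)
          (Nat.Coprime.coprime_dvd_right (Subgroup.card_subgroup_dvd_card _) hcop)
      · infer_instance

theorem card_invariant_irr {A : Type v} {G : Type u} [Group A] [Finite A] [Group G] [Finite G]
    (φ : A →* MulAut G) (hcop : (Nat.card A).Coprime (Nat.card G)) (hsolv : Group.IsSolvable A) :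
    Nat.card {χ : IrrCharacter G // Inv φ (χ : G → ℂ)} = Nat.card (ConjClasses (fix φ)) :=
  card_invariant_irr_aux _ φ rfl hcop hsolv

end Count
end CfsgLib.Glaub2
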