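import Mathlib.LinearAlgebra.Matrix.SpecialLinearGroup
import Mathlib.GroupTheory.OrderOfElement
import Mathlib.Data.ZMod.Basic
import Mathlib.GroupTheory.QuotientGroup.Basic
import Mathlib.Tactic

/-! Homomorphisms out of `SL(2,3)` -/

set_option autoImplicit false

namespace CfsgLib.SL23

open Subgroup
open scoped MatrixGroups

/-- defining relations -/
structure Rel {X : Type*} [Group X] (i j g : X) : Prop where
  i4 : i * i * i * i = 1
  j2 : j * j = i * i
  ji : j * i = i * i * i * j
  gi : g * i = j * g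
  gj : g * j = i * j * g
  g3 : g * g * g = 1

def mI : SL(2, ZMod 3) := ⟨!![0, 2; 1, 0], by decide⟩
def mJ : SL(2, ZMod 3) := ⟨!![1, 1; 1, 2], by decide⟩
def mT : SL(2, ZMod 3) := ⟨!![1, 1; 0, 1], by decide⟩

theorem rel_sl : Rel mI mJ mT := by
  constructor <;> decide

/-- the normal form -/
def nf {X : Type*} [Group X] (i j g : X) (a : ZMod 4) (b : Bool) (c : ZMod 3) : X :=
  i ^ a.val * (if b then j else 1) * g ^ c.val

theorem mul_i {X : Type*} [Group X] {i j g : X} (h : Rel i j g) (a : ZMod 4) (b : Bool) (c : ZMod 3) :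
    i * nf i j g a b c = nf i j g (a + 1) b c := by
  unfold nf
  rw [← mul_assoc, ← mul_assoc, ← pow_succ']
  congr 2
  have h4 : i ^ 4 = 1 := by
    have := h.i4
    rw [pow_succ, pow_succ, pow_succ, pow_one]; exact this
  revert a
  have : ∀ a : ZMod 4, a.val + 1 = (a + 1).val ∨ (a.val + 1 = 4 ∧ (a + 1).val = 0) := by decide
  intro a
  rcases this a with h1 | ⟨h1, h2⟩
  · rw [h1]
  · rw [h1, h2, h4, pow_zero]

theorem mul_i_bij {X : Type*} [Group X] {i j g : X} (h : Rel i j g) (x : X)
    (hx : ∃ a b c, x = nf i j g a b c) : ∃ a b c, i * x = nf i j g a b c := by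
  obtain ⟨a, b, c, rfl⟩ := hx
  exact ⟨_, _, _, mul_i h a b c⟩

theorem mul_j {X : Type*} [Group X] {i j g : X} (h : Rel i j g) (x : X)
    (hx : ∃ a b c, x = nf i j g a b c) : ∃ a b c, j * x = nf i j g a b c := by
  obtain ⟨a, b, c, rfl⟩ := hx
  have h4 : i ^ 4 = 1 := by
    have := h.i4
    rw [pow_succ, pow_succ, pow_succ, pow_one]; exact this
  have hji : ∀ n : ℕ, j * i ^ n = i ^ (3 * n) * j := by
    intro n
    induction n with
    | zero => simp
    | succ n ih =>
      have h1 : j * i = i ^ 3 * j := by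
        have := h.ji
        rw [this, pow_succ, pow_succ, pow_one]
      calc j * i ^ (n + 1) = (j * i ^ n) * i := by rw [pow_succ]; group
        _ = i ^ (3 * n) * (j * i) := by rw [ih]; group
        _ = i ^ (3 * n) * i ^ 3 * j := by rw [h1]; group
        _ = _ := by rw [← pow_add]; congr 2
  have hmod : ∀ n : ℕ, i ^ n = i ^ ((n : ZMod 4).val) := by
    intro n
    rw [ZMod.val_natCast, ← pow_mod_orderOf i n, ← pow_mod_orderOf i (n % 4)]
    congr 1
    exact ((Nat.mod_mod_of_dvd n (orderOf_dvd_of_pow_eq_one h4)).symm)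
  cases b with
  | false =>
    refine ⟨((3 * a.val : ℕ) : ZMod 4), true, c, ?_⟩
    unfold nf
    simp only [Bool.false_eq_true, if_false, if_true, mul_one]
    rw [← mul_assoc, hji, hmod (3 * a.val)]
  | true =>
    refine ⟨((3 * a.val + 2 : ℕ) : ZMod 4), false, c, ?_⟩
    unfold nf
    simp only [Bool.false_eq_true, if_false, if_true, mul_one]
    rw [← mul_assoc, ← mul_assoc, hji, mul_assoc _ j j, h.j2, ← pow_two, ← pow_add, hmod (3 * a.val + 2)]

theorem mul_g {X : Type*} [Group X] {i j g : X} (h : Rel i j g) (x : X)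
    (hx : ∃ a b c, x = nf i j g a b c) : ∃ a b c, g * x = nf i j g a b c := by
  obtain ⟨a, b, c, rfl⟩ := hx
  have h3 : g ^ 3 = 1 := by
    have := h.g3
    rw [pow_succ, pow_succ, pow_one]; exact this
  have hmod : g * g ^ c.val = g ^ ((c + 1).val) := by
    rw [← pow_succ']
    have : ∀ a : ZMod 3, a.val + 1 = (a + 1).val ∨ (a.val + 1 = 3 ∧ (a + 1).val = 0) := by decide
    rcases this c with h1 | ⟨h1, h2⟩
    · rw [h1]
    · rw [h1, h2, h3, pow_zero]
  have hgi : ∀ n : ℕ, g * i ^ n = j ^ n * g := by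
    intro n
    induction n with
    | zero => simp
    | succ n ih =>
      calc g * i ^ (n + 1) = (g * i ^ n) * i := by rw [pow_succ]; group
        _ = j ^ n * (g * i) := by rw [ih]; group
        _ = j ^ (n + 1) * g := by rw [h.gi, pow_succ]; group
  have hnf1 : g ^ ((c + 1).val) = nf i j g 0 false (c + 1) := by unfold nf; simp
  -- reduce to products of `i` and `j`
  have hJ : ∀ n : ℕ, ∀ x : X, (∃ a b c, x = nf i j g a b c) → ∃ a b c, j ^ n * x = nf i j g a b c := by
    intro n
    induction n with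
    | zero => intro x hx; simpa using hx
    | succ n ih =>
      intro x hx
      rw [pow_succ, mul_assoc]
      exact ih _ (mul_j h x hx)
  have key : g * nf i j g a b c = j ^ a.val * ((if b then i * j else 1) * g ^ ((c + 1).val)) := by
    unfold nf
    rw [← hmod]
    cases b with
    | false =>
      simp only [Bool.false_eq_true, if_false, mul_one, one_mul]
      rw [← mul_assoc, hgi, mul_assoc]
    | true =>
      simp only [if_true]
      calc g * (i ^ a.val * j * g ^ c.val) = (g * i ^ a.val) * j * g ^ c.val := by group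
        _ = j ^ a.val * (g * j) * g ^ c.val := by rw [hgi]; group
        _ = _ := by rw [h.gj]; group
  rw [key]
  apply hJ
  cases b with
  | false =>
    simp only [Bool.false_eq_true, if_false, one_mul]
    exact ⟨_, _, _, hnf1⟩
  | true =>
    simp only [if_true]
    rw [mul_assoc]
    exact mul_i_bij h _ (mul_j h _ ⟨_, _, _, hnf1⟩)

theorem card_le {X : Type*} [Group X] {i j g : X} (h : Rel i j g) (x : X) (hx : x ∈ closure ({i, j, g} : Set X)) :
    ∃ a b c, x = nf i j g a b c := by
  have hinv : ∀ y : X, ∀ n : ℕ, 0 < n → y ^ n = 1 → (∀ x, (∃ a b c, x = nf i j g a b c) → ∃ a b c, y * x = nf i j g a b c) →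
      ∀ x, (∃ a b c, x = nf i j g a b c) → ∃ a b c, y⁻¹ * x = nf i j g a b c := by
    intro y n hn hy hmul x hx
    have h1 : y⁻¹ = y ^ (n - 1) := by
      rw [inv_eq_iff_mul_eq_one, ← pow_succ', Nat.sub_add_cancel hn, hy]
    have h2 : ∀ m : ℕ, ∀ x, (∃ a b c, x = nf i j g a b c) → ∃ a b c, y ^ m * x = nf i j g a b c := by
      intro m
      induction m with
      | zero => intro x hx; simpa using hx
      | succ m ih =>
        intro x hx
        rw [pow_succ, mul_assoc]
        exact ih _ (hmul x hx)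
    rw [h1]
    exact h2 _ x hx
  have hi4 : i ^ 4 = 1 := by
    have := h.i4
    rw [pow_succ, pow_succ, pow_succ, pow_one]; exact this
  have hj4 : j ^ 4 = 1 := by
    have h1 : j ^ 4 = (j * j) * (j * j) := by rw [pow_succ, pow_succ, pow_succ, pow_one]; group
    rw [h1, h.j2, ← mul_assoc]; exact h.i4
  have hg3 : g ^ 3 = 1 := by
    have := h.g3
    rw [pow_succ, pow_succ, pow_one]; exact this
  induction hx using closure_induction_left with
  | one => exact ⟨0, false, 0, by unfold nf; simp⟩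
  | mul_left x hx y _ hy =>
    rcases hx with rfl | rfl | rfl
    · exact mul_i_bij h y hy
    · exact mul_j h y hy
    · exact mul_g h y hy
  | inv_mul_cancel x hx y _ hy =>
    rcases hx with rfl | rfl | rfl
    · exact hinv _ 4 (by norm_num) hi4 (mul_i_bij h) y hy
    · exact hinv _ 4 (by norm_num) hj4 (mul_j h) y hy
    · exact hinv _ 3 (by norm_num) hg3 (mul_g h) y hy

theorem nf_inj : ∀ (a : ZMod 4) (b : Bool) (c : ZMod 3) (a' : ZMod 4) (b' : Bool) (c' : ZMod 3),
    nf mI mJ mT a b c = nf mI mJ mT a' b' c' → a = a' ∧ b = b' ∧ c = c' := by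
  unfold nf
  decide +kernel

theorem nf_surj : ∀ x : SL(2, ZMod 3), ∃ a b c, x = nf mI mJ mT a b c := by
  unfold nf
  decide +kernel

theorem Rel.prod {X Y : Type*} [Group X] [Group Y] {i j g : X} {i' j' g' : Y} (h : Rel i j g) (h' : Rel i' j' g') :
    Rel (i, i') (j, j') (g, g') :=
  ⟨Prod.ext h.i4 h'.i4, Prod.ext h.j2 h'.j2, Prod.ext h.ji h'.ji, Prod.ext h.gi h'.gi, Prod.ext h.gj h'.gj,
    Prod.ext h.g3 h'.g3⟩

theorem nf_prod {X Y : Type*} [Group X] [Group Y] {i j g : X} {i' j' g' : Y} (a : ZMod 4) (b : Bool) (c : ZMod 3) :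
    nf (i, i') (j, j') (g, g') a b c = (nf i j g a b c, nf i' j' g' a b c) := by
  unfold nf
  cases b <;> rfl

/-- `SL(2,3)` is presented by the relations -/
theorem exists_hom {X : Type*} [Group X] {i j g : X} (h : Rel i j g) :
    ∃ Ψ : SL(2, ZMod 3) →* X, Ψ mI = i ∧ Ψ mJ = j ∧ Ψ mT = g := by
  have hR := rel_sl.prod h
  set D : Subgroup (SL(2, ZMod 3) × X) := closure {(mI, i), (mJ, j), (mT, g)} with hD
  have hI : (mI, i) ∈ D := Subgroup.subset_closure (by simp)
  have hJ : (mJ, j) ∈ D := Subgroup.subset_closure (by simp)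
  have hT : (mT, g) ∈ D := Subgroup.subset_closure (by simp)
  let f : D →* SL(2, ZMod 3) := (MonoidHom.fst _ _).comp D.subtype
  have hinj : Function.Injective f := by
    rintro ⟨x, hx⟩ ⟨y, hy⟩ hxy
    obtain ⟨a, b, c, rfl⟩ := card_le hR x hx
    obtain ⟨a', b', c', rfl⟩ := card_le hR y hy
    have h1 : nf mI mJ mT a b c = nf mI mJ mT a' b' c' := by
      have h2 : (nf (mI, i) (mJ, j) (mT, g) a b c).1 = (nf (mI, i) (mJ, j) (mT, g) a' b' c').1 := hxy
      rwa [nf_prod, nf_prod] at h2
    obtain ⟨rfl, rfl, rfl⟩ := nf_inj _ _ _ _ _ _ h1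
    rfl
  have hsurj : Function.Surjective f := by
    intro x
    obtain ⟨a, b, c, rfl⟩ := nf_surj x
    refine ⟨⟨nf (mI, i) (mJ, j) (mT, g) a b c, ?_⟩, ?_⟩
    · unfold nf
      refine mul_mem (mul_mem (pow_mem hI _) ?_) (pow_mem hT _)
      split_ifs
      · exact hJ
      · exact one_mem _
    · change (nf (mI, i) (mJ, j) (mT, g) a b c).1 = _
      rw [nf_prod]
  let e := MulEquiv.ofBijective f ⟨hinj, hsurj⟩
  have he : ∀ (x : SL(2, ZMod 3)) (y : X) (hxy : (x, y) ∈ D),
      ((MonoidHom.snd _ _).comp (D.subtype.comp e.symm.toMonoidHom)) x = y := by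
    intro x y hxy
    have h1 : e.symm x = ⟨(x, y), hxy⟩ := by
      rw [MulEquiv.symm_apply_eq]; rfl
    change ((e.symm x : D) : SL(2, ZMod 3) × X).2 = y
    rw [h1]
  exact ⟨(MonoidHom.snd _ _).comp (D.subtype.comp e.symm.toMonoidHom), he _ _ hI, he _ _ hJ, he _ _ hT⟩

theorem comm_cases : ∀ M : SL(2, ZMod 3), M ≠ 1 → M = mI * mI ∨ ∃ A : SL(2, ZMod 3), M * A * M⁻¹ * A⁻¹ = mI * mI ∨
    (M * A * M⁻¹ * A⁻¹) * (M * A * M⁻¹ * A⁻¹) = mI * mI := by
  decide +kernel

theorem injective_of {X : Type*} [Group X] (Ψ : SL(2, ZMod 3) →* X) (h : Ψ mI * Ψ mI ≠ 1) :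
    Function.Injective Ψ := by
  rw [injective_iff_map_eq_one]
  intro M hM
  by_contra hne
  apply h
  rw [← map_mul]
  rcases comm_cases M hne with h1 | ⟨A, h1 | h1⟩
  · rw [← h1, hM]
  · rw [← h1, map_mul, map_mul, map_mul, map_inv, map_inv, hM]; group
  · rw [← h1, map_mul, map_mul, map_mul, map_mul, map_inv, map_inv, hM]; group

theorem closure_eq_top : closure ({mI, mJ, mT} : Set SL(2, ZMod 3)) = ⊤ := by
  rw [eq_top_iff]
  intro x _
  obtain ⟨a, b, c, rfl⟩ := nf_surj x
  have hI : mI ∈ closure ({mI, mJ, mT} : Set SL(2, ZMod 3)) := Subgroup.subset_closure (by simp)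
  have hJ : mJ ∈ closure ({mI, mJ, mT} : Set SL(2, ZMod 3)) := Subgroup.subset_closure (by simp)
  have hT : mT ∈ closure ({mI, mJ, mT} : Set SL(2, ZMod 3)) := Subgroup.subset_closure (by simp)
  unfold nf
  refine mul_mem (mul_mem (pow_mem hI _) ?_) (pow_mem hT _)
  split_ifs
  · exact hJ
  · exact one_mem _

/-- a group generated by elements satisfying the relations with `i² ≠ 1` is `SL(2,3)` -/
theorem exists_equiv {X : Type*} [Group X] {i j g : X} (h : Rel i j g) (hi : i * i ≠ 1)
    (hgen : closure ({i, j, g} : Set X) = ⊤) : Nonempty (X ≃* SL(2, ZMod 3)) := by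
  obtain ⟨Ψ, h1, h2, h3⟩ := exists_hom h
  have hinj := injective_of Ψ (by rw [h1]; exact hi)
  have hsurj : Function.Surjective Ψ := by
    rw [← MonoidHom.range_eq_top, eq_top_iff, ← hgen, closure_le]
    rintro x (rfl | rfl | rfl)
    · exact ⟨_, h1⟩
    · exact ⟨_, h2⟩
    · exact ⟨_, h3⟩
  exact ⟨(MulEquiv.ofBijective Ψ ⟨hinj, hsurj⟩).symm⟩

/-- the section version: `g ^ 3` central modulo -/
theorem exists_section {G : Type*} [Group G] {i j g : G} (hi4 : i * i * i * i = 1) (hj2 : j * j = i * i)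
    (hji : j * i = i * i * i * j) (hgi : g * i = j * g) (hgj : g * j = i * j * g) (hi : i * i ∉ zpowers (g ^ 3)) :
    ∃ (H K : Subgroup G) (_ : (K.subgroupOf H).Normal), Nonempty ((H ⧸ K.subgroupOf H) ≃* SL(2, ZMod 3)) := by
  set H : Subgroup G := closure {i, j, g} with hH
  have hIH : i ∈ H := Subgroup.subset_closure (by simp)
  have hJH : j ∈ H := Subgroup.subset_closure (by simp)
  have hGH : g ∈ H := Subgroup.subset_closure (by simp)
  have hgij : g * (i * j) = i * g := by
    have h1 : j * (i * j) = i := by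
      calc j * (i * j) = (j * i) * j := by group
        _ = i * i * i * (j * j) := by rw [hji]; group
        _ = (i * i * i * i) * i := by rw [hj2]; group
        _ = i := by rw [hi4, one_mul]
    calc g * (i * j) = (g * i) * j := by group
      _ = j * (g * j) := by rw [hgi]; group
      _ = (j * (i * j)) * g := by rw [hgj]; group
      _ = i * g := by rw [h1]
  have hci : g ^ 3 * i = i * g ^ 3 := by
    calc g ^ 3 * i = g * (g * (g * i)) := by rw [pow_succ, pow_succ, pow_one]; group
      _ = g * ((g * j) * g) := by rw [hgi]; group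
      _ = (g * (i * j)) * g * g := by rw [hgj]; group
      _ = i * g ^ 3 := by rw [hgij, pow_succ, pow_succ, pow_one]; group
  have hcj : g ^ 3 * j = j * g ^ 3 := by
    calc g ^ 3 * j = g * (g * (g * j)) := by rw [pow_succ, pow_succ, pow_one]; group
      _ = g * ((g * (i * j)) * g) := by rw [hgj]; group
      _ = (g * i) * g * g := by rw [hgij]; group
      _ = j * g ^ 3 := by rw [hgi, pow_succ, pow_succ, pow_one]; group
  have hcen : H ≤ centralizer ({g ^ 3} : Set G) := by
    rw [hH, closure_le]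
    rintro x (rfl | rfl | rfl)
    · rw [SetLike.mem_coe, mem_centralizer_singleton_iff]; exact hci.symm
    · rw [SetLike.mem_coe, mem_centralizer_singleton_iff]; exact hcj.symm
    · rw [SetLike.mem_coe, mem_centralizer_singleton_iff, ← pow_succ, ← pow_succ']
  have hnorm : ((zpowers (g ^ 3)).subgroupOf H).Normal := by
    constructor
    intro n hn x
    rw [mem_subgroupOf] at hn ⊢
    have h1 : (x : G) * (n : G) = n * x := by
      obtain ⟨k, hk⟩ := mem_zpowers_iff.mp hn
      rw [← hk]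
      have h2 : Commute (x : G) (g ^ 3) := mem_centralizer_singleton_iff.mp (hcen x.2)
      exact (h2.zpow_right k).eq
    have h2 : ((x * n * x⁻¹ : H) : G) = n := by
      change (x : G) * n * (x : G)⁻¹ = n
      rw [h1]; group
    rw [h2]; exact hn
  refine ⟨H, zpowers (g ^ 3), hnorm, ?_⟩
  let π := QuotientGroup.mk' ((zpowers (g ^ 3)).subgroupOf H)
  have hπ : ∀ x : H, π x = 1 ↔ (x : G) ∈ zpowers (g ^ 3) := fun x => by
    rw [← mem_subgroupOf]; exact QuotientGroup.eq_one_iff x
  have e1 : ∀ {x y : H}, (x : G) = y → π x = π y := fun h => congrArg π (Subtype.ext h)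
  refine exists_equiv (i := π ⟨i, hIH⟩) (j := π ⟨j, hJH⟩) (g := π ⟨g, hGH⟩) ⟨?_, ?_, ?_, ?_, ?_, ?_⟩ ?_ ?_
  · rw [← map_mul, ← map_mul, ← map_mul, ← map_one π]; exact e1 hi4
  · rw [← map_mul, ← map_mul]; exact e1 hj2
  · rw [← map_mul, ← map_mul, ← map_mul, ← map_mul]; exact e1 hji
  · rw [← map_mul, ← map_mul]; exact e1 hgi
  · rw [← map_mul, ← map_mul, ← map_mul]; exact e1 hgj
  · rw [← map_mul, ← map_mul, hπ]
    have : ((⟨g, hGH⟩ * ⟨g, hGH⟩ * ⟨g, hGH⟩ : H) : G) = g ^ 3 := by
      rw [pow_succ, pow_succ, pow_one]; rfl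
    rw [this]; exact mem_zpowers _
  · rw [← map_mul, Ne, hπ]; exact hi
  · rw [eq_top_iff]
    intro x _
    obtain ⟨x, rfl⟩ := QuotientGroup.mk'_surjective _ x
    have h1 : ∀ y (hy : y ∈ H), π ⟨y, hy⟩ ∈ closure ({π ⟨i, hIH⟩, π ⟨j, hJH⟩, π ⟨g, hGH⟩} : Set _) := by
      intro y hy
      induction hy using closure_induction with
      | mem z hz =>
        apply Subgroup.subset_closure
        rcases hz with rfl | rfl | rfl
        · left; rfl
        · right; left; rfl
        · right; right; rfl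
      | one => exact one_mem _
      | mul a b ha hb iha ihb => exact mul_mem iha ihb
      | inv a ha iha => exact inv_mem iha
    exact h1 x x.2

end CfsgLib.SL23
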