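import Cfsg.Agent.LibTorG
import Cfsg.Agent.LibG2L
import Cfsg.Agent.LibCharMore
import Cfsg.Agent.LibCharInt2
import Cfsg.Agent.LibGlaub2
import Cfsg.Agent.LibSL23

set_option autoImplicit false

/-! McKay numbers for SL_2(q), q odd (helper1) -/

namespace CfsgLib.Tor

open Finset Matrix Cfsg CfsgLib.CharBasic CfsgLib.G2B CfsgLib.G2C CfsgLib.G2F CfsgLib.G2J CfsgLib.G2K CfsgLib.G2L

universe u v

section general

variable {N : Type u} [Group N] [Finite N]

theorem all_coprime (ℓ : ℕ) (A : Subgroup N) [A.Normal] (hA : ∀ a ∈ A, ∀ b ∈ A, a * b = b * a) (h : ¬ ℓ ∣ A.index) :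
    Nat.card {ψ : IrrCharacter N // ¬ ℓ ∣ charDegree (ψ : N → ℂ)} = Nat.card (ConjClasses N) := by
  rw [← card_irr]
  apply Nat.card_congr
  exact Equiv.subtypeUnivEquiv fun ψ hd => h (hd.trans (CfsgLib.CharMore.ito ψ.2 A hA))

theorem sum_deg : ∑ χ : IrrCharacter N, charDegree (χ : N → ℂ) ^ 2 = Nat.card N := by
  have h := sum_sq_degree (G := N)
  have h1 : ∀ χ : IrrCharacter N, (χ : N → ℂ) 1 ^ 2 = ((charDegree (χ : N → ℂ) ^ 2 : ℕ) : ℂ) := by
    intro χ
    rw [CfsgLib.CharInt.irr_one_eq_charDegree χ.2]; push_cast; rfl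
  rw [Finset.sum_congr rfl (fun χ _ => h1 χ), ← Nat.cast_sum] at h
  exact_mod_cast h

theorem count_irr : ∑ _χ : IrrCharacter N, 1 = Nat.card (ConjClasses N) := by
  rw [← card_irr, Finset.sum_const, Finset.card_univ, smul_eq_mul, mul_one, Nat.card_eq_fintype_card]

theorem card_sub (P : IrrCharacter N → Prop) [DecidablePred P] :
    Nat.card {χ // P χ} = ∑ χ : IrrCharacter N, if P χ then 1 else 0 := by
  rw [Nat.card_eq_fintype_card, Fintype.card_subtype, Finset.card_filter]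

/-- dicyclic type groups have exactly four linear characters -/
theorem odd_four (A : Subgroup N) [A.Normal] (hA : ∀ a ∈ A, ∀ b ∈ A, a * b = b * a) (hi : A.index = 2)
    (hk : 2 * Nat.card (ConjClasses N) = Nat.card A + 6) :
    Nat.card {ψ : IrrCharacter N // ¬ 2 ∣ charDegree (ψ : N → ℂ)} = 4 := by
  classical
  have hc := Subgroup.card_mul_index A
  rw [hi] at hc
  have hd : ∀ χ : IrrCharacter N, charDegree (χ : N → ℂ) = 1 ∨ charDegree (χ : N → ℂ) = 2 := by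
    intro χ
    have := CfsgLib.CharMore.ito χ.2 A hA
    rw [hi] at this
    exact (Nat.dvd_prime Nat.prime_two).mp this
  rw [card_sub]
  have h1 := sum_deg (N := N)
  have h2 := count_irr (N := N)
  have h3 : ∑ χ : IrrCharacter N, (charDegree (χ : N → ℂ) ^ 2 + 3 * (if ¬ 2 ∣ charDegree (χ : N → ℂ) then 1 else 0)) = ∑ χ : IrrCharacter N, 4 * 1 := by
    apply Finset.sum_congr rfl
    intro χ _
    rcases hd χ with h | h <;> rw [h] <;> norm_num
  rw [Finset.sum_add_distrib, ← Finset.mul_sum, ← Finset.mul_sum, h1, h2] at h3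
  omega

/-- groups with the class data of SL(2,3) -/
theorem odd_four' (hN : Nat.card N = 24) (hk : Nat.card (ConjClasses N) = 7) :
    Nat.card {ψ : IrrCharacter N // ¬ 2 ∣ charDegree (ψ : N → ℂ)} = 4 := by
  classical
  have hd : ∀ χ : IrrCharacter N, charDegree (χ : N → ℂ) = 1 ∨ charDegree (χ : N → ℂ) = 2 ∨ charDegree (χ : N → ℂ) = 3 ∨ charDegree (χ : N → ℂ) = 4 := by
    intro χ
    have h0 : charDegree (χ : N → ℂ) ^ 2 ≤ 24 := by
      rw [← hN, ← sum_deg]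
      exact Finset.single_le_sum (f := fun χ : IrrCharacter N => charDegree (χ : N → ℂ) ^ 2) (fun _ _ => Nat.zero_le _) (mem_univ χ)
    have h1 : charDegree (χ : N → ℂ) < 5 := by nlinarith
    have h2 : 0 < charDegree (χ : N → ℂ) := CfsgLib.CharInt.irr_charDegree_pos χ.2
    omega
  rw [card_sub]
  have h1 := sum_deg (N := N)
  have h2 := count_irr (N := N)
  have e1 : ∑ χ : IrrCharacter N, charDegree (χ : N → ℂ) ^ 2 = ∑ χ : IrrCharacter N, ((if charDegree (χ : N → ℂ) = 1 then 1 else 0) + 4 * (if charDegree (χ : N → ℂ) = 2 then 1 else 0) +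
      9 * (if charDegree (χ : N → ℂ) = 3 then 1 else 0) + 16 * (if charDegree (χ : N → ℂ) = 4 then 1 else 0)) := by
    apply Finset.sum_congr rfl
    intro χ _
    rcases hd χ with h | h | h | h <;> rw [h] <;> norm_num
  have e2 : ∑ χ : IrrCharacter N, 1 = ∑ χ : IrrCharacter N, ((if charDegree (χ : N → ℂ) = 1 then 1 else 0) + (if charDegree (χ : N → ℂ) = 2 then 1 else 0) +
      (if charDegree (χ : N → ℂ) = 3 then 1 else 0) + (if charDegree (χ : N → ℂ) = 4 then 1 else 0)) := by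
    apply Finset.sum_congr rfl
    intro χ _
    rcases hd χ with h | h | h | h <;> rw [h] <;> norm_num
  have e3 : ∑ χ : IrrCharacter N, (if ¬ 2 ∣ charDegree (χ : N → ℂ) then 1 else 0) = ∑ χ : IrrCharacter N, ((if charDegree (χ : N → ℂ) = 1 then 1 else 0) +
      (if charDegree (χ : N → ℂ) = 3 then 1 else 0)) := by
    apply Finset.sum_congr rfl
    intro χ _
    rcases hd χ with h | h | h | h <;> rw [h] <;> norm_num
  rw [e3]
  rw [h1, hN] at e1
  rw [h2, hk] at e2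
  simp only [Finset.sum_add_distrib, ← Finset.mul_sum] at e1 e2 ⊢
  omega

end general

section G

variable {F : Type v} [Field F] [Fintype F] [DecidableEq F]

/-- types of the irreducible characters of SL_2(q) -/
theorem g_types (hodd : Odd (Fintype.card F)) : ∃ K s : IrrCharacter (SpecialLinearGroup (Fin 2) F) → ℕ,
    (∀ χ : IrrCharacter (SpecialLinearGroup (Fin 2) F), 2 * charDegree (χ : SpecialLinearGroup (Fin 2) F → ℂ) = 2 * K χ + (Fintype.card F - 1) * s χ) ∧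
    (∀ χ, (K χ = 1 ∧ s χ = 0) ∨ (K χ = 2 ∧ s χ = 2) ∨ (K χ = 1 ∧ s χ = 2) ∨ (K χ = 1 ∧ s χ = 1) ∨ (K χ = 0 ∧ s χ = 1) ∨ (K χ = 0 ∧ s χ = 2)) ∧
    ∑ χ, (if K χ = 1 ∧ s χ = 0 then 1 else 0) = 1 ∧ 2 * ∑ χ, (if K χ = 2 ∧ s χ = 2 then 1 else 0) = Fintype.card F - 3 ∧
    ∑ χ, (if K χ = 1 ∧ s χ = 2 then 1 else 0) = 1 ∧ ∑ χ, (if K χ = 1 ∧ s χ = 1 then 1 else 0) = 2 ∧
    ∑ χ, (if K χ = 0 ∧ s χ = 1 then 1 else 0) = 2 ∧ 2 * ∑ χ, (if K χ = 0 ∧ s χ = 2 then 1 else 0) = Fintype.card F - 1 := by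
  have h20 := two_ne_of_odd hodd
  obtain ⟨ν, hν⟩ := FiniteField.exists_nonsquare (ringChar_ne_two h20)
  obtain ⟨ψ, hψ⟩ := exists_addChar (F := F)
  obtain ⟨K, a, b, h0, h1, h2, h3, ha, hb, hK, hK2, hK0, n1, n2, n3, n4, n5, n6⟩ := odd_main hodd hν hψ
  have hq : 1 ≤ Fintype.card F := Fintype.card_pos
  have ty : ∀ χ, (K χ = 1 ∧ a χ + b χ = 0) ∨ (K χ = 2 ∧ a χ + b χ = 2) ∨ (K χ = 1 ∧ a χ + b χ = 2) ∨ (K χ = 1 ∧ a χ + b χ = 1) ∨
      (K χ = 0 ∧ a χ + b χ = 1) ∨ (K χ = 0 ∧ a χ + b χ = 2) := by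
    intro χ
    have h4 := ha χ
    have h5 := hb χ
    have h6 := hK χ
    have h7 := hK2 χ
    have h8 := hK0 χ
    omega
  refine ⟨K, fun χ => a χ + b χ, ?_, ty, ?_, ?_, ?_, ?_, ?_, ?_⟩
  · intro χ
    have h4 := (nat2 hq (h1 χ) (charDegree (χ : SpecialLinearGroup (Fin 2) F → ℂ))).mp (CfsgLib.CharInt.irr_one_eq_charDegree χ.2)
    exact h4.symm
  · rw [← card_sub, ← n1]
    apply Nat.card_congr
    apply Equiv.subtypeEquivRight
    intro χ
    have := ty χ
    constructor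
    · exact fun h => h.2
    · intro h; refine ⟨?_, h⟩; omega
  · rw [← card_sub, ← n2]
    congr 1
    apply Nat.card_congr
    apply Equiv.subtypeEquivRight
    intro χ
    have := ty χ
    constructor
    · exact fun h => h.1
    · intro h
      refine ⟨h, ?_⟩
      show a χ + b χ = 2
      omega
  · rw [← card_sub]; exact n3
  · rw [← card_sub]; exact n4
  · rw [← card_sub]; exact n5
  · rw [← card_sub]; exact n6

end G

section tor

variable {F : Type v} [Field F] [Fintype F]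

/-- odd Sylow subgroups and their tori -/
theorem sylow_TD {ℓ : ℕ} [Fact ℓ.Prime] (hℓ : ℓ ≠ 2) (P : Sylow ℓ (SpecialLinearGroup (Fin 2) F))
    (h2 : (2 : F) ≠ 0) {J : Matrix (Fin 2) (Fin 2) F} (hJt : J 1 1 = - J 0 0) (hJd : J.det ≠ 0)
    (hcyc : IsCyclic (TJ J)) (m m' : ℕ) (hm : Nat.card (TJ J) = m) (hG : Nat.card (SpecialLinearGroup (Fin 2) F) = m * m')
    (hdvd : ℓ ∣ m) (hnd : ¬ ℓ ∣ m')
    {w : SpecialLinearGroup (Fin 2) F} (hw : (w : Matrix (Fin 2) (Fin 2) F) * J = -(J * w)) :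
    ∃ T : Subgroup (SpecialLinearGroup (Fin 2) F), TD T ∧ Nat.card T = m ∧ (∃ t₀ ∈ T, ¬ IsSc (t₀ : Matrix (Fin 2) (Fin 2) F)) ∧
      Subgroup.normalizer ((P : Subgroup (SpecialLinearGroup (Fin 2) F)) : Set (SpecialLinearGroup (Fin 2) F)) =
        Subgroup.normalizer (T : Set (SpecialLinearGroup (Fin 2) F)) := by
  classical
  obtain ⟨hc1, hc2, hc3⟩ := sylow_tor hℓ P h2 hJt hJd hcyc m m' hm hG hdvd hnd hw
  have hℓp : ℓ.Prime := Fact.out
  have hm0 : m ≠ 0 := by rw [← hm]; exact Nat.card_pos.ne'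
  have hm'0 : m' ≠ 0 := by
    rintro rfl
    exact hnd (dvd_zero _)
  have hℓ3 : 3 ≤ ℓ := by
    have := hℓp.two_le
    omega
  have hPcard : Nat.card P = ℓ ^ m.factorization ℓ := by
    rw [P.card_eq_multiplicity, hG, Nat.factorization_mul hm0 hm'0, Finsupp.add_apply, Nat.factorization_eq_zero_of_not_dvd hnd, add_zero]
  have h3 : 2 < Nat.card P := by
    have h1 : 0 < m.factorization ℓ := hℓp.factorization_pos_of_dvd hm0 hdvd
    rw [hPcard]
    calc 2 < ℓ := by omega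
      _ = ℓ ^ 1 := (pow_one _).symm
      _ ≤ _ := Nat.pow_le_pow_right (by omega) (by omega)
  have h3m : 2 < Nat.card (TJ J) := by
    rw [hm]
    calc 2 < ℓ := by omega
      _ ≤ m := Nat.le_of_dvd (Nat.pos_of_ne_zero hm0) hdvd
  obtain ⟨Q⟩ : Nonempty (Sylow ℓ (TJ J)) := inferInstance
  let Q' : Subgroup (SpecialLinearGroup (Fin 2) F) := (Q : Subgroup (TJ J)).map (TJ J).subtype
  have hQT : Q' ≤ TJ J := Subgroup.map_subtype_le _
  have hQc : Nat.card Q' = Nat.card Q := Nat.card_congr ((Q : Subgroup (TJ J)).equivMapOfInjective _ (TJ J).subtype_injective).symm.toEquiv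
  have hQcard : Nat.card Q = ℓ ^ (Nat.card (TJ J)).factorization ℓ := Q.card_eq_multiplicity
  have hQP : Nat.card Q' = Nat.card P := by rw [hQc, hQcard, hm, hPcard]
  let QS : Sylow ℓ (SpecialLinearGroup (Fin 2) F) := Sylow.ofCard Q' (by rw [hQP, P.card_eq_multiplicity])
  obtain ⟨c, hc⟩ := MulAction.exists_smul_eq (SpecialLinearGroup (Fin 2) F) QS P
  have hcS : (Q' : Subgroup (SpecialLinearGroup (Fin 2) F)).map (MulAut.conj c).toMonoidHom = P := by
    have := congrArg (fun S : Sylow ℓ _ => (S : Subgroup (SpecialLinearGroup (Fin 2) F))) hc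
    exact this
  obtain ⟨htd, htc⟩ := td_conj h2 hJt hJd hcyc h3m hw c
  rw [hm] at htc
  set T := TJ ((c : Matrix (Fin 2) (Fin 2) F) * J * ((c⁻¹ : SpecialLinearGroup (Fin 2) F) : Matrix (Fin 2) (Fin 2) F)) with hT
  have hPT : (P : Subgroup (SpecialLinearGroup (Fin 2) F)) ≤ T := by
    rw [← hcS]
    rintro _ ⟨x, hx, rfl⟩
    show c * x * c⁻¹ ∈ T
    rw [hT, mem_TJ_conj]
    have e : c⁻¹ * (c * x * c⁻¹) * c = x := by group
    rw [e]
    exact hQT hx
  obtain ⟨t₀, ht₀, hns⟩ := exists_nonsc h3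
  have hCT : Subgroup.centralizer ((P : Subgroup (SpecialLinearGroup (Fin 2) F)) : Set (SpecialLinearGroup (Fin 2) F)) = T := by
    apply le_antisymm
    · rw [← htd.cent t₀ (hPT ht₀) hns]
      exact Subgroup.centralizer_le (Set.singleton_subset_iff.mpr ht₀)
    · intro g hg h hh
      exact htd.comm h (hPT hh) g hg
  refine ⟨T, htd, htc, ⟨t₀, hPT ht₀, hns⟩, ?_⟩
  apply Subgroup.eq_of_le_of_card_ge
  · intro g hg
    rw [Subgroup.mem_normalizer_iff]
    have key : ∀ g ∈ Subgroup.normalizer ((P : Subgroup (SpecialLinearGroup (Fin 2) F)) : Set (SpecialLinearGroup (Fin 2) F)), ∀ x ∈ T, g * x * g⁻¹ ∈ T := by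
      intro g hg x hx
      rw [← hCT] at hx ⊢
      intro h hh
      have h1 : g⁻¹ * h * g ∈ (P : Subgroup (SpecialLinearGroup (Fin 2) F)) := by
        have := (Subgroup.mem_normalizer_iff.mp (Subgroup.inv_mem _ hg) h).mp hh
        rwa [inv_inv] at this
      have h3 := hx _ h1
      calc h * (g * x * g⁻¹) = g * ((g⁻¹ * h * g) * x) * g⁻¹ := by group
        _ = g * (x * (g⁻¹ * h * g)) * g⁻¹ := by rw [h3]
        _ = _ := by group
    intro x
    refine ⟨key g hg x, fun hx => ?_⟩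
    have := key g⁻¹ (Subgroup.inv_mem _ hg) _ hx
    have e : g⁻¹ * (g * x * g⁻¹) * g⁻¹⁻¹ = x := by group
    rwa [e] at this
  · rw [htd.cardN, htc, hc3]

/-- class number of torus normalizers -/
theorem cc_TD (h2 : (2 : F) ≠ 0) {T : Subgroup (SpecialLinearGroup (Fin 2) F)} (hT : TD T) (h4 : ∃ t₀ ∈ T, ¬ IsSc (t₀ : Matrix (Fin 2) (Fin 2) F))
    {N : Subgroup (SpecialLinearGroup (Fin 2) F)} (hN : N ≤ Subgroup.normalizer (T : Set (SpecialLinearGroup (Fin 2) F)))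
    (hNT : ¬ N ≤ T) (hm1 : (-1 : SpecialLinearGroup (Fin 2) F) ∈ N) :
    (T.subgroupOf N).index = 2 ∧ (∀ a ∈ T.subgroupOf N, ∀ b ∈ T.subgroupOf N, a * b = b * a) ∧
    2 * Nat.card (ConjClasses N) = Nat.card (T.subgroupOf N) + 6 := by
  classical
  have hm1T : (-1 : SpecialLinearGroup (Fin 2) F) ∈ T := by
    obtain ⟨t₀, h5, h6⟩ := h4
    rw [← hT.cent t₀ h5 h6, Subgroup.mem_centralizer_singleton_iff]
    exact (neg_one_central t₀).symm
  have hT0 : Nat.card T ≠ 0 := Nat.card_pos.ne'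
  set NN := Subgroup.normalizer (T : Set (SpecialLinearGroup (Fin 2) F)) with hNN
  have hTN : T ≤ NN := Subgroup.le_normalizer
  have hidx : (T.subgroupOf NN).index = 2 := by
    have h1 := Subgroup.card_mul_index (T.subgroupOf NN)
    have h3 : Nat.card (T.subgroupOf NN) = Nat.card T := Nat.card_congr (Subgroup.subgroupOfEquivOfLe hTN).toEquiv
    rw [h3, hT.cardN] at h1
    have : Nat.card T * (T.subgroupOf NN).index = Nat.card T * 2 := by rw [h1]; ring
    exact Nat.eq_of_mul_eq_mul_left (Nat.pos_of_ne_zero hT0) this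
  have hprod : ∀ a ∈ NN, ∀ b ∈ NN, a ∉ T → b ∉ T → a * b ∈ T := by
    intro a ha b hb haT hbT
    have := (Subgroup.mul_mem_iff_of_index_two hidx (a := ⟨a, ha⟩) (b := ⟨b, hb⟩)).mpr
      ⟨fun h => absurd h haT, fun h => absurd h hbT⟩
    exact this
  obtain ⟨w, hwN, hwT⟩ := Set.not_subset.mp hNT
  have hi : (T.subgroupOf N).index = 2 := by
    rw [Subgroup.index_eq_two_iff]
    refine ⟨⟨w, hwN⟩, fun b => ?_⟩
    rw [Subgroup.mem_subgroupOf, Subgroup.mem_subgroupOf]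
    by_cases hb : (b : SpecialLinearGroup (Fin 2) F) ∈ T
    · refine Or.inr ⟨hb, fun hc => hwT ?_⟩
      exact (T.mul_mem_cancel_left hb).mp hc
    · exact Or.inl ⟨hprod _ (hN b.2) _ (hN hwN) hb hwT, hb⟩
  have hcomm : ∀ a ∈ T.subgroupOf N, ∀ b ∈ T.subgroupOf N, a * b = b * a := by
    intro a ha b hb
    exact Subtype.ext (hT.comm _ ha _ hb)
  refine ⟨hi, hcomm, ?_⟩
  refine card_cc (T.subgroupOf N) hcomm hi ?_ ⟨-1, hm1⟩ hm1T ?_ ?_ ?_
  · intro v hv t ht
    exact Subtype.ext (hT.inv _ (hN v.2) hv _ ht)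
  · intro h
    exact neg_one_ne h2 (congrArg Subtype.val h)
  · apply Subtype.ext
    show (-1 : SpecialLinearGroup (Fin 2) F) * (-1) = 1
    rw [neg_mul_neg, one_mul]
  · intro t ht htt
    rcases sq_one_sc h2 (t := (t : SpecialLinearGroup (Fin 2) F)) (congrArg Subtype.val htt) with h | h
    · left; exact Subtype.ext h
    · right; exact Subtype.ext h

/-- odd torus primes -/
theorem sylow_norm {ℓ : ℕ} [Fact ℓ.Prime] (hℓ : ℓ ≠ 2) (P : Sylow ℓ (SpecialLinearGroup (Fin 2) F))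
    (h2 : (2 : F) ≠ 0) {J : Matrix (Fin 2) (Fin 2) F} (hJt : J 1 1 = - J 0 0) (hJd : J.det ≠ 0)
    (hcyc : IsCyclic (TJ J)) (m m' : ℕ) (hm : Nat.card (TJ J) = m) (hG : Nat.card (SpecialLinearGroup (Fin 2) F) = m * m')
    (hdvd : ℓ ∣ m) (hnd : ¬ ℓ ∣ m')
    {w : SpecialLinearGroup (Fin 2) F} (hw : (w : Matrix (Fin 2) (Fin 2) F) * J = -(J * w)) :
    2 * Nat.card {ψ : IrrCharacter (Subgroup.normalizer ((P : Subgroup (SpecialLinearGroup (Fin 2) F)) : Set (SpecialLinearGroup (Fin 2) F))) //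
      ¬ ℓ ∣ charDegree (ψ : Subgroup.normalizer ((P : Subgroup (SpecialLinearGroup (Fin 2) F)) : Set (SpecialLinearGroup (Fin 2) F)) → ℂ)} = m + 6 := by
  classical
  obtain ⟨T, hT, hTm, h4, hN⟩ := sylow_TD hℓ P h2 hJt hJd hcyc m m' hm hG hdvd hnd hw
  rw [hN]
  have hℓp : ℓ.Prime := Fact.out
  have hm0 : 0 < m := by rw [← hm]; exact Nat.card_pos
  have hTN : T ≤ Subgroup.normalizer (T : Set (SpecialLinearGroup (Fin 2) F)) := Subgroup.le_normalizer
  have hnle : ¬ Subgroup.normalizer (T : Set (SpecialLinearGroup (Fin 2) F)) ≤ T := by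
    intro h
    have h1 := Nat.le_of_dvd Nat.card_pos (Subgroup.card_dvd_of_le h)
    rw [hT.cardN, hTm] at h1
    omega
  have hm1T : (-1 : SpecialLinearGroup (Fin 2) F) ∈ T := by
    obtain ⟨t₀, h5, h6⟩ := h4
    rw [← hT.cent t₀ h5 h6, Subgroup.mem_centralizer_singleton_iff]
    exact (neg_one_central t₀).symm
  obtain ⟨h5, h6, h7⟩ := cc_TD h2 hT h4 le_rfl hnle (hTN hm1T)
  haveI : (T.subgroupOf (Subgroup.normalizer (T : Set (SpecialLinearGroup (Fin 2) F)))).Normal := Subgroup.normal_of_index_eq_two h5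
  rw [all_coprime ℓ _ h6 (by
    rw [h5]
    intro h
    exact hℓ ((Nat.prime_dvd_prime_iff_eq hℓp Nat.prime_two).mp h)), h7,
    Nat.card_congr (Subgroup.subgroupOfEquivOfLe hTN).toEquiv, hTm]

end tor

end CfsgLib.Tor
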