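import Cfsg.Agent.EqBase
import Cfsg.Agent.LibTorH
import Cfsg.Agent.LibCharInt2

/-! class number and a degree of `A_5` (helper8) -/
set_option autoImplicit false

namespace CfsgLib.A5k8

open Cfsg

set_option maxRecDepth 100000 in
theorem cnt : ((Finset.univ : Finset (alternatingGroup (Fin 5) × alternatingGroup (Fin 5))).filter (fun p => p.1 * p.2 = p.2 * p.1)).card = 300 := by decide +kernel

theorem cardA5 : Nat.card (alternatingGroup (Fin 5)) = 60 := by
  rw [nat_card_alternatingGroup]; simp; decide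

theorem card_comm {G : Type*} [Group G] [Fintype G] [DecidableEq G] :
    Nat.card {p : G × G // Commute p.1 p.2} = ((Finset.univ : Finset (G × G)).filter (fun p => p.1 * p.2 = p.2 * p.1)).card := by
  apply Nat.subtype_card
  intro p
  rw [Finset.mem_filter]
  exact ⟨fun h => h.2, fun h => ⟨Finset.mem_univ _, h⟩⟩

theorem kA5 : Nat.card (ConjClasses (alternatingGroup (Fin 5))) = 5 := by
  have h1 := card_comm_eq_card_conjClasses_mul_card (alternatingGroup (Fin 5))
  have h2 : Nat.card {p : alternatingGroup (Fin 5) × alternatingGroup (Fin 5) // Commute p.1 p.2} = 300 :=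
    card_comm.trans cnt
  rw [h2, cardA5] at h1
  omega

theorem five_mem : (5 : ℕ) ∈ Cfsg.degreePrimes (alternatingGroup (Fin 5)) := by
  classical
  refine ⟨by norm_num, ?_⟩
  by_contra hcon
  push Not at hcon
  haveI : Fintype (IrrCharacter (alternatingGroup (Fin 5))) := Fintype.ofFinite _
  have h1 : ∀ χ : IrrCharacter (alternatingGroup (Fin 5)), ¬ 5 ∣ charDegree (χ : alternatingGroup (Fin 5) → ℂ) :=
    fun χ => hcon _ ⟨χ, rfl⟩
  have h2 := CfsgLib.Tor.sum_deg (N := alternatingGroup (Fin 5))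
  rw [cardA5] at h2
  have h3 := CfsgLib.CharBasic.card_irr (G := alternatingGroup (Fin 5))
  rw [kA5, Nat.card_eq_fintype_card] at h3
  obtain ⟨d, hd⟩ : ∃ d : IrrCharacter (alternatingGroup (Fin 5)) → ℕ, ∀ χ : IrrCharacter (alternatingGroup (Fin 5)), d χ = charDegree (χ : alternatingGroup (Fin 5) → ℂ) := ⟨fun χ => charDegree (χ : alternatingGroup (Fin 5) → ℂ), fun _ => rfl⟩
  have h2' : ∑ χ, d χ ^ 2 = 60 := by
    rw [← h2]
    apply Finset.sum_congr
    · ext; simp
    · intro χ _; rw [hd]
  have hval : ∀ χ, d χ = 1 ∨ d χ = 2 ∨ d χ = 3 ∨ d χ = 4 ∨ d χ = 6 := by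
    intro χ
    have h4 : d χ ∣ 60 := by
      rw [hd, ← cardA5]
      exact CfsgLib.CharInt2.charDegree_dvd_card χ.2
    have h5 : ¬ 5 ∣ d χ := by rw [hd]; exact h1 χ
    have h6 : d χ ^ 2 ≤ 60 := by
      rw [← h2']
      exact Finset.single_le_sum (f := fun χ => d χ ^ 2) (fun _ _ => Nat.zero_le _) (Finset.mem_univ χ)
    have h7 : d χ ≤ 7 := by nlinarith
    have h8 : d χ ≠ 0 := by
      intro h; rw [h] at h4; norm_num at h4
    generalize d χ = e at *
    interval_cases e <;> simp_all
  let e := (Fintype.equivFinOfCardEq h3).symm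
  rw [← e.sum_comp] at h2'
  rw [Fin.sum_univ_five] at h2'
  rcases hval (e 0) with a | a | a | a | a <;> rcases hval (e 1) with b | b | b | b | b <;> rcases hval (e 2) with c | c | c | c | c <;>
    rcases hval (e 3) with f | f | f | f | f <;> rw [a, b, c, f] at h2' <;>
    rcases hval (e 4) with g | g | g | g | g <;> rw [g] at h2' <;> omega

end CfsgLib.A5k8
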