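import Mathlib
import Cfsg.Agent.EqBase

/-! Identification of Zassenhaus-type permutation groups on a projective line (seat helper11). -/

set_option autoImplicit false
set_option linter.all false

namespace CfsgLib.PL11

universe u v

/-- a permutation representation on `K ∪ {∞}` with all translations, two-point stabiliser the multiplications by the
`n`-torsion elements, and a swap of `0` and `∞` -/
structure Coord {G : Type u} [Group G] (K : Type v) [Field K] (n : ℕ) (Φ : G →* Equiv.Perm (Option K)) : Prop where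
  inj : Function.Injective Φ
  tr : ∀ a : K, ∃ u, Φ u none = none ∧ ∀ x, Φ u (some x) = some (x + a)
  mul : ∀ m : K, m ^ n = 1 → ∃ h, Φ h none = none ∧ ∀ x, Φ h (some x) = some (m * x)
  fix : ∀ g, Φ g none = none → Φ g (some 0) = some 0 → ∃ m : K, m ^ n = 1 ∧ ∀ x, Φ g (some x) = some (m * x)
  sw : ∃ t, Φ t none = some 0 ∧ Φ t (some 0) = none

/-- the functional equation -/
def FEq {K : Type v} [Field K] (n : ℕ) (f : K → K) : Prop :=
  ∃ y s : K, s ^ n = 1 ∧ y ≠ 0 ∧ f 1 + f y = 0 ∧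
    ∀ x, x ≠ 0 → (f x + 1 = 0 → s * x + y = 0) ∧ (f x + 1 ≠ 0 → s * x + y ≠ 0 ∧ f (f x + 1) = f 1 + f (s * x + y))

/-- the candidates -/
def cf {K : Type v} [Field K] [DecidableEq K] (n k : ℕ) (c e : K) (x : K) : K := (if x ^ n = 1 then c else e) * x ^ k

/-- generators -/
def gens {K : Type v} [Field K] (n : ℕ) (f : K → K) : Set (Equiv.Perm (Option K)) :=
  {π | (π none = none ∧ ∃ a, ∀ x, π (some x) = some (x + a)) ∨
    (π none = none ∧ ∃ m, m ^ n = 1 ∧ ∀ x, π (some x) = some (m * x)) ∨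
    (π none = some 0 ∧ π (some 0) = none ∧ ∀ x, x ≠ 0 → π (some x) = some (f x))}

section
variable {G : Type u} [Group G] {K : Type v} [Field K] [DecidableEq K] {n : ℕ} {Φ : G →* Equiv.Perm (Option K)}

theorem ne_zero_of_pow {m : K} (hn : n ≠ 0) (h : m ^ n = 1) : m ≠ 0 := by
  rintro rfl
  rw [zero_pow hn] at h
  exact zero_ne_one h

theorem Coord.swap_inv (h : Coord K n Φ) {t : G} (h1 : Φ t none = some 0) (h2 : Φ t (some 0) = none) :
    Φ t⁻¹ none = some 0 ∧ Φ t⁻¹ (some 0) = none := by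
  rw [map_inv, Equiv.Perm.inv_eq_iff_eq, Equiv.Perm.inv_eq_iff_eq]
  exact ⟨h2.symm, h1.symm⟩

/-- the stabiliser of `∞` -/
theorem Coord.stab (h : Coord K n Φ) {g : G} (hg : Φ g none = none) :
    ∃ m y : K, m ^ n = 1 ∧ ∀ x, Φ g (some x) = some (m * x + y) := by
  cases h0 : Φ g (some 0) with
  | none =>
    rw [← hg] at h0
    exact absurd ((Φ g).injective h0) (by simp)
  | some y =>
    obtain ⟨u, hu1, hu2⟩ := h.tr y
    have hi : ∀ z, Φ u⁻¹ (some z) = some (z - y) := by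
      intro z
      rw [map_inv, Equiv.Perm.inv_eq_iff_eq, hu2, sub_add_cancel]
    have hi0 : Φ u⁻¹ none = none := by
      rw [map_inv, Equiv.Perm.inv_eq_iff_eq, hu1]
    obtain ⟨m, hm, hm2⟩ := h.fix (u⁻¹ * g) (by rw [map_mul, Equiv.Perm.mul_apply, hg, hi0])
      (by rw [map_mul, Equiv.Perm.mul_apply, h0, hi, sub_self])
    refine ⟨m, y, hm, fun x => ?_⟩
    have h1 := hm2 x
    rw [map_mul, Equiv.Perm.mul_apply] at h1
    cases h2 : Φ g (some x) with
    | none => rw [h2, hi0] at h1; simp at h1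
    | some z =>
      rw [h2, hi] at h1
      have h3 : z - y = m * x := Option.some.inj h1
      rw [← h3, sub_add_cancel]

/-- the shape of a swap -/
theorem Coord.exists_shape (h : Coord K n Φ) (hn : n ≠ 0) {σ ν : K} (hσ : σ ^ n = 1) (hgen : ∀ m : K, m ^ n = 1 → ∃ k < n, m = σ ^ k)
    (hν : ν ≠ 0) (hcov : ∀ x : K, x ≠ 0 → x ^ n = 1 ∨ (x ^ n ≠ 1 ∧ (x * ν⁻¹) ^ n = 1)) :
    ∃ t k c e, k < n ∧ (c = 1 ∨ c = ν) ∧ e ≠ 0 ∧ Φ t none = some 0 ∧ Φ t (some 0) = none ∧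
      (∀ x, x ≠ 0 → Φ t (some x) = some (cf n k c e x)) ∧ FEq n (cf n k c e : K → K) := by
  obtain ⟨t, ht1, ht2⟩ := h.sw
  have hσ0 := ne_zero_of_pow hn hσ
  -- conjugation of `H`
  obtain ⟨hs, hs1, hs2⟩ := h.mul σ hσ
  obtain ⟨hi1, hi2⟩ := h.swap_inv ht1 ht2
  obtain ⟨m, hm, hm2⟩ := h.fix (t * hs * t⁻¹)
    (by rw [map_mul, map_mul, Equiv.Perm.mul_apply, Equiv.Perm.mul_apply, hi1, hs2, mul_zero, ht2])
    (by rw [map_mul, map_mul, Equiv.Perm.mul_apply, Equiv.Perm.mul_apply, hi2, hs1, ht1])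
  obtain ⟨k, hk, rfl⟩ := hgen m hm
  -- values
  have hval : ∀ (t : G), Φ t none = some 0 → Φ t (some 0) = none → ∀ x, x ≠ 0 → ∃ y, y ≠ 0 ∧ Φ t (some x) = some y := by
    intro t ht1 ht2 x hx
    cases h0 : Φ t (some x) with
    | none =>
      rw [← ht2] at h0
      exact absurd (Option.some.inj ((Φ t).injective h0)) hx
    | some y =>
      refine ⟨y, ?_, rfl⟩
      rintro rfl
      rw [← ht1] at h0
      exact absurd ((Φ t).injective h0) (by simp)
  have hcomm : ∀ x, x ≠ 0 → ∀ y, Φ t (some x) = some y → Φ t (some (σ * x)) = some (σ ^ k * y) := by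
    intro x hx y hy
    have h1 := hm2 y
    rw [map_mul, map_mul, Equiv.Perm.mul_apply, Equiv.Perm.mul_apply] at h1
    have h2 : Φ t⁻¹ (some y) = some x := by
      rw [map_inv, Equiv.Perm.inv_eq_iff_eq, hy]
    rw [h2, hs2] at h1
    exact h1
  have hcommj : ∀ (j : ℕ) x, x ≠ 0 → ∀ y, Φ t (some x) = some y → Φ t (some (σ ^ j * x)) = some ((σ ^ j) ^ k * y) := by
    intro j
    induction j with
    | zero => intro x hx y hy; rw [pow_zero, one_mul, one_pow, one_mul]; exact hy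
    | succ j ih =>
      intro x hx y hy
      have h1 := ih x hx y hy
      have h2 := hcomm _ (mul_ne_zero (pow_ne_zero j hσ0) hx) _ h1
      rw [pow_succ', mul_assoc, h2, mul_pow, mul_assoc]
  have hcommQ : ∀ s, s ^ n = 1 → ∀ x, x ≠ 0 → ∀ y, Φ t (some x) = some y → Φ t (some (s * x)) = some (s ^ k * y) := by
    intro s hs x hx y hy
    obtain ⟨j, -, rfl⟩ := hgen s hs
    exact hcommj j x hx y hy
  obtain ⟨c₀, hc₀, hc1⟩ := hval t ht1 ht2 1 one_ne_zero
  obtain ⟨d₀, hd₀, hd1⟩ := hval t ht1 ht2 ν hν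
  -- normalise
  obtain ⟨μ, hμ, hμc⟩ : ∃ μ : K, μ ^ n = 1 ∧ (μ * c₀ = 1 ∨ μ * c₀ = ν) := by
    rcases hcov c₀ hc₀ with h1 | ⟨-, h1⟩
    · exact ⟨c₀⁻¹, by rw [inv_pow, h1, inv_one], Or.inl (inv_mul_cancel₀ hc₀)⟩
    · refine ⟨(c₀ * ν⁻¹)⁻¹, by rw [inv_pow, h1, inv_one], Or.inr ?_⟩
      rw [mul_inv, inv_inv, mul_comm c₀⁻¹ ν, mul_assoc, inv_mul_cancel₀ hc₀, mul_one]
  have hμ0 := ne_zero_of_pow hn hμ
  obtain ⟨hm', hm1', hm2'⟩ := h.mul μ hμ
  obtain ⟨t', ht'⟩ : ∃ t', t' = hm' * t := ⟨_, rfl⟩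
  have ht1' : Φ t' none = some 0 := by rw [ht', map_mul, Equiv.Perm.mul_apply, ht1, hm2', mul_zero]
  have ht2' : Φ t' (some 0) = none := by rw [ht', map_mul, Equiv.Perm.mul_apply, ht2, hm1']
  obtain ⟨c, hc⟩ : ∃ c, c = μ * c₀ := ⟨_, rfl⟩
  obtain ⟨e, he⟩ : ∃ e, e = μ * (ν⁻¹ ^ k * d₀) := ⟨_, rfl⟩
  have he0 : e ≠ 0 := by rw [he]; exact mul_ne_zero hμ0 (mul_ne_zero (pow_ne_zero _ (inv_ne_zero hν)) hd₀)
  have hc0 : c ≠ 0 := by rw [hc]; exact mul_ne_zero hμ0 hc₀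
  have hshape : ∀ x, x ≠ 0 → Φ t' (some x) = some (cf n k c e x) := by
    intro x hx
    rcases hcov x hx with h1 | ⟨h0, h1⟩
    · have h2 := hcommQ x h1 1 one_ne_zero _ hc1
      rw [mul_one] at h2
      rw [ht', map_mul, Equiv.Perm.mul_apply, h2, hm2', cf, if_pos h1, hc]
      congr 1; ring
    · have h2 := hcommQ _ h1 ν hν _ hd1
      rw [inv_mul_cancel_right₀ hν] at h2
      rw [ht', map_mul, Equiv.Perm.mul_apply, h2, hm2', cf, if_neg h0, he, mul_pow]
      congr 1; ring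
  have hcf0 : ∀ x, x ≠ 0 → cf n k c e x ≠ 0 := by
    intro x hx
    rw [cf]
    apply mul_ne_zero _ (pow_ne_zero _ hx)
    split_ifs
    · exact hc0
    · exact he0
  refine ⟨t', k, c, e, hk, by rw [hc]; exact hμc, he0, ht1', ht2', hshape, ?_⟩
  -- functional equation
  obtain ⟨f, hf⟩ : ∃ f : K → K, f = cf n k c e := ⟨_, rfl⟩
  rw [← hf] at hshape hcf0 ⊢
  obtain ⟨u, hu1, hu2⟩ := h.tr 1
  obtain ⟨w, hw1, hw2⟩ := h.tr (f 1)
  have hf1 := hcf0 1 one_ne_zero
  have hwi : ∀ z, Φ w⁻¹ (some z) = some (z - f 1) := by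
    intro z
    rw [map_inv, Equiv.Perm.inv_eq_iff_eq, hw2, sub_add_cancel]
  obtain ⟨hi1, hi2⟩ := h.swap_inv ht1' ht2'
  obtain ⟨N, hN⟩ : ∃ N, N = t'⁻¹ * (w⁻¹ * (t' * (u * t'))) := ⟨_, rfl⟩
  have hNn : Φ N none = none := by
    rw [hN]
    simp only [map_mul, Equiv.Perm.mul_apply]
    rw [ht1', hu2, zero_add, hshape 1 one_ne_zero, hwi, sub_self, hi2]
  obtain ⟨s, y, hs', hsy⟩ := h.stab hNn
  have heq : ∀ z, Φ t' (Φ u (Φ t' z)) = Φ w (Φ t' (Φ N z)) := by
    intro z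
    have h1 : t' * (u * t') = w * (t' * N) := by rw [hN]; group
    have h2 := congrArg (fun g => Φ g z) h1
    simpa only [map_mul, Equiv.Perm.mul_apply] using h2
  -- x = 0
  have hE0 := heq (some 0)
  rw [ht2', hu1, ht1', hsy, mul_zero, zero_add] at hE0
  have hy : y ≠ 0 := by
    rintro rfl
    rw [ht2', hw1] at hE0
    exact absurd hE0 (by simp)
  rw [hshape y hy, hw2] at hE0
  have hE0' : 0 = f y + f 1 := Option.some.inj hE0
  refine ⟨y, s, hs', hy, by rw [add_comm]; exact hE0'.symm, fun x hx => ⟨fun hx1 => ?_, fun hx1 => ?_⟩⟩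
  · have hE := heq (some x)
    rw [hshape x hx, hu2, hx1, ht2', hsy] at hE
    by_contra hne
    rw [hshape _ hne, hw2] at hE
    exact absurd hE (by simp)
  · have hE := heq (some x)
    rw [hshape x hx, hu2, hshape _ hx1, hsy] at hE
    have hne : s * x + y ≠ 0 := by
      intro h0
      rw [h0, ht2', hw1] at hE
      exact absurd hE (by simp)
    rw [hshape _ hne, hw2] at hE
    refine ⟨hne, ?_⟩
    rw [add_comm (f 1)]
    exact Option.some.inj hE

/-- the image is determined -/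
theorem Coord.range_eq (h : Coord K n Φ) {f : K → K} {t : G} (ht1 : Φ t none = some 0) (ht2 : Φ t (some 0) = none)
    (hf : ∀ x, x ≠ 0 → Φ t (some x) = some (f x)) : Φ.range = Subgroup.closure (gens n f) := by
  have htS : Φ t ∈ Subgroup.closure (gens n f) := Subgroup.subset_closure (Or.inr (Or.inr ⟨ht1, ht2, hf⟩))
  have hstab : ∀ g, Φ g none = none → Φ g ∈ Subgroup.closure (gens n f) := by
    intro g hg
    obtain ⟨m, y, hm, hmy⟩ := h.stab hg
    obtain ⟨u, hu1, hu2⟩ := h.tr y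
    obtain ⟨l, hl1, hl2⟩ := h.mul m hm
    have h1 : Φ g = Φ u * Φ l := by
      apply Equiv.ext
      intro z
      rw [Equiv.Perm.mul_apply]
      cases z with
      | none => rw [hg, hl1, hu1]
      | some x => rw [hmy, hl2, hu2]
    rw [h1]
    exact mul_mem (Subgroup.subset_closure (Or.inl ⟨hu1, y, hu2⟩)) (Subgroup.subset_closure (Or.inr (Or.inl ⟨hl1, m, hm, hl2⟩)))
  apply le_antisymm
  · rintro _ ⟨g, rfl⟩
    cases h0 : Φ g none with
    | none => exact hstab g h0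
    | some y =>
      obtain ⟨u, hu1, hu2⟩ := h.tr y
      have hui : Φ u⁻¹ (some y) = some 0 := by
        rw [map_inv, Equiv.Perm.inv_eq_iff_eq, hu2, zero_add]
      obtain ⟨hi1, hi2⟩ := h.swap_inv ht1 ht2
      have h1 := hstab (t⁻¹ * (u⁻¹ * g)) (by
        simp only [map_mul, Equiv.Perm.mul_apply]
        rw [h0, hui, hi2])
      have h2 : Φ g = Φ u * (Φ t * Φ (t⁻¹ * (u⁻¹ * g))) := by
        rw [← map_mul, ← map_mul]; congr 1; group
      rw [h2]
      exact mul_mem (Subgroup.subset_closure (Or.inl ⟨hu1, y, hu2⟩)) (mul_mem htS h1)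
  · rw [Subgroup.closure_le]
    rintro π (⟨h1, a, h2⟩ | ⟨h1, m, hm, h2⟩ | ⟨h1, h2, h3⟩)
    · obtain ⟨u, hu1, hu2⟩ := h.tr a
      refine ⟨u, Equiv.ext fun z => ?_⟩
      cases z with
      | none => rw [hu1, h1]
      | some x => rw [hu2, h2]
    · obtain ⟨l, hl1, hl2⟩ := h.mul m hm
      refine ⟨l, Equiv.ext fun z => ?_⟩
      cases z with
      | none => rw [hl1, h1]
      | some x => rw [hl2, h2]
    · refine ⟨t, Equiv.ext fun z => ?_⟩
      cases z with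
      | none => rw [ht1, h1]
      | some x =>
        by_cases hx : x = 0
        · rw [hx, ht2, h2]
        · rw [hf x hx, h3 x hx]

theorem Coord.iso_closure (h : Coord K n Φ) {f : K → K} {t : G} (ht1 : Φ t none = some 0) (ht2 : Φ t (some 0) = none)
    (hf : ∀ x, x ≠ 0 → Φ t (some x) = some (f x)) : Nonempty (G ≃* Subgroup.closure (gens n f)) := by
  rw [← h.range_eq ht1 ht2 hf]
  exact ⟨MonoidHom.ofInjective h.inj⟩

end
end CfsgLib.PL11
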