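import Mathlib
import Cfsg.Agent.EqBase
import Cfsg.Agent.LibPL11a

/-! The field with nine elements, explicitly (seat helper11). -/

set_option autoImplicit false
set_option linter.all false
set_option maxRecDepth 100000

namespace CfsgLib.A611

open CfsgLib.PL11

/-- the field with nine elements -/
structure F9 where
  re : ZMod 3
  im : ZMod 3
  deriving DecidableEq

namespace F9

def equiv : F9 ≃ ZMod 3 × ZMod 3 := ⟨fun x => (x.re, x.im), fun x => ⟨x.1, x.2⟩, fun x => rfl, fun x => rfl⟩

instance : Fintype F9 := Fintype.ofEquiv _ equiv.symm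

instance : Zero F9 := ⟨⟨0, 0⟩⟩
instance : One F9 := ⟨⟨1, 0⟩⟩
instance : Add F9 := ⟨fun x y => ⟨x.re + y.re, x.im + y.im⟩⟩
instance : Neg F9 := ⟨fun x => ⟨-x.re, -x.im⟩⟩
instance : Sub F9 := ⟨fun x y => ⟨x.re - y.re, x.im - y.im⟩⟩
instance : Mul F9 := ⟨fun x y => ⟨x.re * y.re - x.im * y.im, x.re * y.im + x.im * y.re⟩⟩
instance : Inv F9 := ⟨fun x => ⟨x.re * (x.re * x.re + x.im * x.im), -x.im * (x.re * x.re + x.im * x.im)⟩⟩

theorem ext' {x y : F9} (h1 : x.re = y.re) (h2 : x.im = y.im) : x = y := by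
  cases x; cases y; simp only at h1 h2; rw [h1, h2]

theorem add_def (x y : F9) : x + y = ⟨x.re + y.re, x.im + y.im⟩ := rfl
theorem mul_def (x y : F9) : x * y = ⟨x.re * y.re - x.im * y.im, x.re * y.im + x.im * y.re⟩ := rfl
theorem neg_def (x : F9) : -x = ⟨-x.re, -x.im⟩ := rfl
theorem sub_def (x y : F9) : x - y = ⟨x.re - y.re, x.im - y.im⟩ := rfl
theorem zero_def : (0 : F9) = ⟨0, 0⟩ := rfl
theorem one_def : (1 : F9) = ⟨1, 0⟩ := rfl

instance : CommRing F9 where
  add_assoc x y z := by simp only [add_def]; apply ext' <;> simp only <;> ring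
  zero_add x := by simp only [add_def, zero_def]; apply ext' <;> simp only <;> ring
  add_zero x := by simp only [add_def, zero_def]; apply ext' <;> simp only <;> ring
  add_comm x y := by simp only [add_def]; apply ext' <;> simp only <;> ring
  left_distrib x y z := by simp only [add_def, mul_def]; apply ext' <;> simp only <;> ring
  right_distrib x y z := by simp only [add_def, mul_def]; apply ext' <;> simp only <;> ring
  zero_mul x := by simp only [mul_def, zero_def]; apply ext' <;> simp only <;> ring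
  mul_zero x := by simp only [mul_def, zero_def]; apply ext' <;> simp only <;> ring
  mul_assoc x y z := by simp only [mul_def]; apply ext' <;> simp only <;> ring
  one_mul x := by simp only [mul_def, one_def]; apply ext' <;> simp only <;> ring
  mul_one x := by simp only [mul_def, one_def]; apply ext' <;> simp only <;> ring
  neg_add_cancel x := by simp only [add_def, neg_def, zero_def]; apply ext' <;> simp only <;> ring
  sub_eq_add_neg x y := by simp only [sub_def, add_def, neg_def]; apply ext' <;> simp only <;> ring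
  mul_comm x y := by simp only [mul_def]; apply ext' <;> simp only <;> ring
  nsmul := nsmulRec
  zsmul := zsmulRec

instance : Field F9 where
  exists_pair_ne := ⟨0, 1, by decide⟩
  mul_inv_cancel := by decide +kernel
  inv_zero := by decide +kernel
  nnqsmul := _
  nnqsmul_def := fun _ _ => rfl
  qsmul := _
  qsmul_def := fun _ _ => rfl

/-- the square root of `-1` -/
def i : F9 := ⟨0, 1⟩
/-- a nonsquare -/
def ν : F9 := ⟨1, 1⟩

theorem card : Fintype.card F9 = 9 := by
  rw [Fintype.card_congr equiv, Fintype.card_prod, ZMod.card]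

end F9

instance (n : ℕ) (f : F9 → F9) : Decidable (FEq n f) := by unfold FEq; infer_instance

theorem f9_check1 : ∀ k : Fin 4, ∀ c ∈ ([1, F9.ν] : List F9), ∀ e : F9, e ≠ 0 → FEq 4 (cf 4 k c e) → (k : ℕ) = 3 ∧ c = 1 ∧ e = -1 := by
  decide +kernel

theorem f9_check {k : ℕ} (hk : k < 4) {c : F9} (hc : c = 1 ∨ c = F9.ν) {e : F9} (he : e ≠ 0) (h : FEq 4 (cf 4 k c e)) :
    k = 3 ∧ c = 1 ∧ e = -1 :=
  f9_check1 ⟨k, hk⟩ c (by rcases hc with rfl | rfl <;> simp) e he h

theorem f9_gen : ∀ m : F9, m ^ 4 = 1 → ∃ k < 4, m = F9.i ^ k := by decide +kernel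
theorem f9_i : F9.i ^ 4 = 1 := by decide +kernel
theorem f9_ν : F9.ν ≠ 0 := by decide +kernel
theorem f9_cov : ∀ x : F9, x ≠ 0 → x ^ 4 = 1 ∨ (x ^ 4 ≠ 1 ∧ (x * F9.ν⁻¹) ^ 4 = 1) := by decide +kernel

end CfsgLib.A611
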