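import Mathlib
import Cfsg.Agent.EqBase
import Cfsg.Agent.LibPL11a

/-! Identification of groups of order `p (p² - 1) / 2` (seat helper11). -/

set_option autoImplicit false
set_option linter.all false
set_option maxRecDepth 100000

namespace CfsgLib.PL11

universe u v

section Nat

/-- candidate on natural numbers -/
def F (p n k c e x : ℕ) : ℕ := (if x ^ n % p = 1 then c else e) * x ^ k % p

def test (p n k c e : ℕ) : Bool :=
  (List.range p).any fun y => y != 0 && (F p n k c e 1 + F p n k c e y) % p == 0 && (List.range p).any fun s => s ^ n % p == 1 &&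
    (List.range p).all fun x => x == 0 ||
      (if (F p n k c e x + 1) % p = 0 then (s * x + y) % p == 0 else
        ((s * x + y) % p != 0 && F p n k c e ((F p n k c e x + 1) % p) == (F p n k c e 1 + F p n k c e ((s * x + y) % p)) % p))

def chk (p n ν k₀ c₀ e₀ : ℕ) : Bool :=
  (List.range n).all fun k => [1, ν].all fun c => (List.range p).all fun e => e == 0 || !(test p n k c e) || (k == k₀ && c == c₀ && e == e₀)

def chk' (p n ν k₀ c₀ e₀ : ℕ) : Bool :=
  (List.range n).all fun k => k == 1 || [1, ν].all fun c => (List.range p).all fun e => e == 0 || !(test p n k c e) || (k == k₀ && c == c₀ && e == e₀)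

/-- side conditions -/
def sc (p n σ ν : ℕ) : Bool :=
  ((List.range p).all fun x => x == 0 || ((x ^ n % p == 1 && (List.range n).any fun k => σ ^ k % p == x) ||
    (x ^ n % p != 1 && (List.range p).any fun z => z ^ n % p == 1 && z * ν % p == x))) && σ ^ n % p == 1 && ν % p == ν && ν != 0 && n != 0

variable {p : ℕ} [hp : Fact p.Prime]

theorem cast_F (n k c e x : ℕ) (hc : c < p) :
    ((F p n k c e x : ℕ) : ZMod p) = cf n k (c : ZMod p) (e : ZMod p) (x : ZMod p) := by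
  have h1 : (((x : ZMod p)) ^ n = 1) ↔ x ^ n % p = 1 := by
    have h2 : ((x : ZMod p)) ^ n = ((x ^ n : ℕ) : ZMod p) := by push_cast; rfl
    have h3 : (1 : ZMod p) = ((1 : ℕ) : ZMod p) := by push_cast; rfl
    rw [h2, h3, ZMod.natCast_eq_natCast_iff', Nat.mod_eq_of_lt hp.out.one_lt]
  rw [F, cf, ZMod.natCast_mod]
  push_cast
  by_cases h : x ^ n % p = 1
  · rw [if_pos h, if_pos (h1.2 h)]
  · rw [if_neg h, if_neg (fun h' => h (h1.1 h'))]

theorem F_lt (n k c e x : ℕ) : F p n k c e x < p := Nat.mod_lt _ hp.out.pos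

theorem cf_val (n k : ℕ) (c e x : ZMod p) : (cf n k c e x).val = F p n k c.val e.val x.val := by
  have h1 := cast_F (p := p) n k c.val e.val x.val (ZMod.val_lt c)
  rw [ZMod.natCast_zmod_val, ZMod.natCast_zmod_val, ZMod.natCast_zmod_val] at h1
  rw [← h1, ZMod.val_natCast, Nat.mod_eq_of_lt (F_lt _ _ _ _ _)]

theorem pow_one_iff (n : ℕ) (s : ZMod p) : s ^ n = 1 ↔ s.val ^ n % p = 1 := by
  have h2 : s ^ n = ((s.val ^ n : ℕ) : ZMod p) := by push_cast; rw [ZMod.natCast_zmod_val]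
  have h3 : (1 : ZMod p) = ((1 : ℕ) : ZMod p) := by push_cast; rfl
  rw [h2, h3, ZMod.natCast_eq_natCast_iff', Nat.mod_eq_of_lt hp.out.one_lt]

theorem test_of_feq {n k : ℕ} {c e : ZMod p} (h : FEq n (cf n k c e : ZMod p → ZMod p)) : test p n k c.val e.val = true := by
  obtain ⟨y, s, hs, hy, h1, h2⟩ := h
  have hv1 : (1 : ZMod p).val = 1 := by
    haveI : Fact (1 < p) := ⟨hp.out.one_lt⟩
    exact ZMod.val_one p
  rw [test, List.any_eq_true]
  refine ⟨y.val, List.mem_range.2 (ZMod.val_lt y), ?_⟩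
  simp only [Bool.and_eq_true]
  refine ⟨⟨?_, ?_⟩, ?_⟩
  · rw [bne_iff_ne]
    intro h0
    exact hy ((ZMod.val_eq_zero y).1 h0)
  · rw [beq_iff_eq]
    have h3 := congrArg ZMod.val h1
    rw [ZMod.val_add, cf_val, cf_val, hv1, ZMod.val_zero] at h3
    exact h3
  · rw [List.any_eq_true]
    refine ⟨s.val, List.mem_range.2 (ZMod.val_lt s), ?_⟩
    simp only [Bool.and_eq_true]
    refine ⟨by rw [beq_iff_eq]; exact (pow_one_iff n s).1 hs, ?_⟩
    rw [List.all_eq_true]
    intro x hx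
    have hxp := List.mem_range.1 hx
    rw [Bool.or_eq_true]
    by_cases hx0 : x = 0
    · left; rw [hx0]; rfl
    right
    have hxz : (x : ZMod p) ≠ 0 := by
      intro h0
      rw [ZMod.natCast_eq_zero_iff] at h0
      exact hx0 (Nat.eq_zero_of_dvd_of_lt h0 hxp)
    have hxv : (x : ZMod p).val = x := ZMod.val_cast_of_lt hxp
    obtain ⟨h3, h4⟩ := h2 (x : ZMod p) hxz
    have hv : (cf n k c e (x : ZMod p) + 1).val = (F p n k c.val e.val x + 1) % p := by
      rw [ZMod.val_add, cf_val, hxv, hv1]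
    have hw : (s * (x : ZMod p) + y).val = (s.val * x + y.val) % p := by
      rw [ZMod.val_add, ZMod.val_mul, hxv, Nat.mod_add_mod]
    by_cases h0 : (F p n k c.val e.val x + 1) % p = 0
    · rw [if_pos h0, beq_iff_eq, ← hw, ZMod.val_eq_zero]
      apply h3
      rw [← ZMod.val_eq_zero, hv, h0]
    · rw [if_neg h0]
      obtain ⟨h5, h6⟩ := h4 (by
        intro h7
        apply h0
        rw [← hv, h7, ZMod.val_zero])
      rw [Bool.and_eq_true, bne_iff_ne, beq_iff_eq]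
      refine ⟨by rw [← hw]; exact fun h7 => h5 ((ZMod.val_eq_zero _).1 h7), ?_⟩
      have h7 := congrArg ZMod.val h6
      rw [ZMod.val_add, cf_val, cf_val, cf_val, hv1, hv, hw] at h7
      exact h7

theorem sc_sound {n σ ν : ℕ} (h : sc p n σ ν = true) :
    n ≠ 0 ∧ (σ : ZMod p) ^ n = 1 ∧ (∀ m : ZMod p, m ^ n = 1 → ∃ k < n, m = (σ : ZMod p) ^ k) ∧ (ν : ZMod p) ≠ 0 ∧ ν < p ∧
      (∀ x : ZMod p, x ≠ 0 → x ^ n = 1 ∨ (x ^ n ≠ 1 ∧ (x * (ν : ZMod p)⁻¹) ^ n = 1)) := by
  rw [sc] at h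
  simp only [Bool.and_eq_true, bne_iff_ne, beq_iff_eq, List.all_eq_true, Bool.or_eq_true, List.any_eq_true] at h
  obtain ⟨⟨⟨⟨h1, h2⟩, h3⟩, h4⟩, h5⟩ := h
  have hn : ((σ : ZMod p)) ^ n = 1 := by
    have h6 : ((σ : ZMod p)) ^ n = ((σ ^ n : ℕ) : ZMod p) := by push_cast; rfl
    have h7 : (1 : ZMod p) = ((1 : ℕ) : ZMod p) := by push_cast; rfl
    rw [h6, h7, ZMod.natCast_eq_natCast_iff', Nat.mod_eq_of_lt hp.out.one_lt]
    exact h2
  have hνp : ν < p := by rw [← h3]; exact Nat.mod_lt _ hp.out.pos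
  have hν : (ν : ZMod p) ≠ 0 := by
    intro h0
    rw [ZMod.natCast_eq_zero_iff] at h0
    exact h4 (Nat.eq_zero_of_dvd_of_lt h0 hνp)
  refine ⟨h5, hn, ?_, hν, hνp, ?_⟩
  · intro m hm
    have hm0 : m.val ≠ 0 := fun h0 => by
      rw [ZMod.val_eq_zero] at h0
      rw [h0, zero_pow h5] at hm
      exact zero_ne_one hm
    rcases h1 m.val (List.mem_range.2 (ZMod.val_lt m)) with h0 | ⟨-, k, hk, hk2⟩ | ⟨h6, -⟩
    · exact absurd h0 hm0
    · refine ⟨k, List.mem_range.1 hk, ?_⟩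
      have h8 : ((σ ^ k % p : ℕ) : ZMod p) = m := by rw [hk2, ZMod.natCast_zmod_val]
      rw [← h8, ZMod.natCast_mod]; push_cast; rfl
    · exact absurd ((pow_one_iff n m).1 hm) h6
  · intro x hx
    have hx0 : x.val ≠ 0 := fun h0 => hx ((ZMod.val_eq_zero x).1 h0)
    rcases h1 x.val (List.mem_range.2 (ZMod.val_lt x)) with h0 | ⟨h6, -⟩ | ⟨h6, z, hz, hz1, hz2⟩
    · exact absurd h0 hx0
    · left; exact (pow_one_iff n x).2 h6
    · right
      refine ⟨fun h7 => h6 ((pow_one_iff n x).1 h7), ?_⟩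
      have h8 : ((z * ν % p : ℕ) : ZMod p) = x := by rw [hz2, ZMod.natCast_zmod_val]
      rw [ZMod.natCast_mod, Nat.cast_mul] at h8
      rw [← h8, mul_inv_cancel_right₀ hν]
      have h9 := (pow_one_iff n (z : ZMod p)).2 (by rw [ZMod.val_cast_of_lt (List.mem_range.1 hz)]; exact hz1)
      exact h9

end Nat

section
variable {G : Type u} [Group G] {p : ℕ} [hp : Fact p.Prime] {n : ℕ} {Φ : G →* Equiv.Perm (Option (ZMod p))}

theorem Coord.iso_prime (h : Coord (ZMod p) n Φ) {σ ν k₀ c₀ e₀ : ℕ} (hsc : sc p n σ ν = true)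
    (hchk : chk p n ν k₀ c₀ e₀ = true) :
    Nonempty (G ≃* Subgroup.closure (gens n (cf n k₀ (c₀ : ZMod p) (e₀ : ZMod p)))) := by
  obtain ⟨h1, h2, h3, h4, h4', h5⟩ := sc_sound hsc
  obtain ⟨t, k, c, e, hk, hc, he, ht1, ht2, ht3, hfe⟩ := h.exists_shape h1 h2 h3 h4 h5
  have h6 := test_of_feq hfe
  rw [chk] at hchk
  simp only [List.all_eq_true] at hchk
  have hcm : c.val ∈ [1, ν] := by
    haveI : Fact (1 < p) := ⟨hp.out.one_lt⟩
    rcases hc with rfl | rfl
    · rw [ZMod.val_one p]; simp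
    · rw [ZMod.val_cast_of_lt h4']; simp
  have h7 := hchk k (List.mem_range.2 hk) c.val hcm e.val (List.mem_range.2 (ZMod.val_lt e))
  rw [h6] at h7
  simp only [Bool.or_eq_true, Bool.and_eq_true, beq_iff_eq, Bool.not_true, Bool.false_eq_true, or_false] at h7
  rcases h7 with h7 | ⟨⟨rfl, h8⟩, h9⟩
  · exact absurd ((ZMod.val_eq_zero e).1 h7) he
  · have hc' : c = (c₀ : ZMod p) := by rw [← h8, ZMod.natCast_zmod_val]
    have he' : e = (e₀ : ZMod p) := by rw [← h9, ZMod.natCast_zmod_val]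
    subst hc'; subst he'
    exact h.iso_closure ht1 ht2 ht3

/-- variant excluding the exponent `1` -/
theorem Coord.iso_prime' (h : Coord (ZMod p) n Φ) {σ ν k₀ c₀ e₀ : ℕ} (hsc : sc p n σ ν = true)
    (hchk : chk' p n ν k₀ c₀ e₀ = true)
    (hne : ∀ t, Φ t none = some 0 → Φ t (some 0) = none → ∀ c e : ZMod p, e ≠ 0 → (∀ x, x ≠ 0 → Φ t (some x) = some (cf n 1 c e x)) → False) :
    Nonempty (G ≃* Subgroup.closure (gens n (cf n k₀ (c₀ : ZMod p) (e₀ : ZMod p)))) := by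
  obtain ⟨h1, h2, h3, h4, h4', h5⟩ := sc_sound hsc
  obtain ⟨t, k, c, e, hk, hc, he, ht1, ht2, ht3, hfe⟩ := h.exists_shape h1 h2 h3 h4 h5
  have h6 := test_of_feq hfe
  rw [chk'] at hchk
  simp only [List.all_eq_true, Bool.or_eq_true, beq_iff_eq] at hchk
  have hcm : c.val ∈ [1, ν] := by
    haveI : Fact (1 < p) := ⟨hp.out.one_lt⟩
    rcases hc with rfl | rfl
    · rw [ZMod.val_one p]; simp
    · rw [ZMod.val_cast_of_lt h4']; simp
  rcases hchk k (List.mem_range.2 hk) with rfl | hchk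
  · exact absurd ht3 (fun h => hne t ht1 ht2 c e he h)
  have h7 := hchk c.val hcm e.val (List.mem_range.2 (ZMod.val_lt e))
  rw [h6] at h7
  simp only [Bool.and_eq_true, beq_iff_eq, Bool.not_true, Bool.false_eq_true, or_false] at h7
  rcases h7 with h7 | ⟨⟨rfl, h8⟩, h9⟩
  · exact absurd ((ZMod.val_eq_zero e).1 h7) he
  · have hc' : c = (c₀ : ZMod p) := by rw [← h8, ZMod.natCast_zmod_val]
    have he' : e = (e₀ : ZMod p) := by rw [← h9, ZMod.natCast_zmod_val]
    subst hc'; subst he'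
    exact h.iso_closure ht1 ht2 ht3

end
end CfsgLib.PL11
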