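import Mathlib
import Cfsg.Agent.EqBase
import Cfsg.Agent.LibPL11a

/-! Coordinates for groups with `p + 1` Sylow `p`-subgroups of order `p` (seat helper11). -/

set_option autoImplicit false
set_option linter.all false

namespace CfsgLib.PL11

open Subgroup MulAction
open scoped Pointwise

universe u v

section
variable {G : Type u} [Group G] [Finite G] {p : ℕ} [hp : Fact p.Prime]

theorem smul_self (P : Sylow p G) {x : G} (hx : x ∈ (P : Subgroup G)) : x • P = P :=
  (Sylow.smul_eq_iff_mem_normalizer).2 (le_normalizer hx)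

/-- elements of order `p` of `P` fix only `P` -/
theorem smul_fixed {P Q : Sylow p G} (hP : Nat.card (P : Subgroup G) = p) {x : G} (hx : x ∈ (P : Subgroup G)) (hx1 : x ≠ 1)
    (h : x • Q = Q) : Q = P := by
  have h1 : zpowers x = (P : Subgroup G) := by
    apply Subgroup.eq_of_le_of_card_ge ((zpowers_le).2 hx)
    rw [hP, Nat.card_zpowers]
    have h2 : orderOf x ∣ p := by rw [← hP]; exact Subgroup.orderOf_dvd_natCard _ hx
    rcases (Nat.dvd_prime hp.out).1 h2 with h3 | h3
    · exact absurd (orderOf_eq_one_iff.1 h3) hx1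
    · exact h3.ge
  have h2 : Q ∈ fixedPoints (P : Subgroup G) (Sylow p G) := by
    rintro ⟨y, hy⟩
    rw [← h1, mem_zpowers_iff] at hy
    obtain ⟨k, rfl⟩ := hy
    have h3 : x ∈ stabilizer G Q := h
    exact (stabilizer G Q).zpow_mem h3 k
  rw [P.isPGroup'.sylow_mem_fixedPoints_iff] at h2
  exact Sylow.ext (P.is_maximal' Q.isPGroup' h2)

end

section
variable {G : Type u} [Group G] [Finite G] [hsimp : IsSimpleGroup G] {p : ℕ} [hp : Fact p.Prime]

theorem exists_coord {n : ℕ} (hn : n ≠ 0) (hcard : Nat.card G = (p + 1) * p * n) (hsyl : Nat.card (Sylow p G) = p + 1)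
    (P : Sylow p G) (hP : Nat.card (P : Subgroup G) = p) :
    ∃ (Φ : G →* Equiv.Perm (Option (ZMod p))) (ε : Option (ZMod p) ≃ Sylow p G), ε none = P ∧ (∀ g z, ε (Φ g z) = g • ε z) ∧
      Coord (ZMod p) n Φ := by
  classical
  haveI : NeZero p := ⟨hp.out.ne_zero⟩
  haveI : Fact (1 < p) := ⟨hp.out.one_lt⟩
  haveI : Fintype (Sylow p G) := Fintype.ofFinite _
  -- another Sylow subgroup
  obtain ⟨Q, hQ⟩ : ∃ Q : Sylow p G, Q ≠ P := by
    haveI : Nontrivial (Sylow p G) := by
      rw [← Finite.one_lt_card_iff_nontrivial, hsyl]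
      have := hp.out.pos
      omega
    exact exists_ne P
  obtain ⟨u, hu, hu1⟩ : ∃ u ∈ (P : Subgroup G), u ≠ 1 := by
    have h1 : (P : Subgroup G) ≠ ⊥ := by
      rw [← Subgroup.one_lt_card_iff_ne_bot, hP]; exact hp.out.one_lt
    obtain ⟨a, ha⟩ := (Subgroup.ne_bot_iff_exists_ne_one).1 h1
    exact ⟨a, a.2, fun h => ha (Subtype.ext h)⟩
  have hup : orderOf u = p := by
    have h2 : orderOf u ∣ p := by rw [← hP]; exact Subgroup.orderOf_dvd_natCard _ hu
    rcases (Nat.dvd_prime hp.out).1 h2 with h3 | h3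
    · exact absurd (orderOf_eq_one_iff.1 h3) hu1
    · exact h3
  have hmod : ∀ k : ℕ, u ^ (k % p) = u ^ k := by
    intro k
    have := pow_mod_orderOf u k
    rwa [hup] at this
  -- powers by `ZMod p`
  obtain ⟨U, hU⟩ : ∃ U : ZMod p → G, U = fun a => u ^ a.val := ⟨_, rfl⟩
  have hUP : ∀ a, U a ∈ (P : Subgroup G) := fun a => by rw [hU]; exact pow_mem hu _
  have hUadd : ∀ a b, U (a + b) = U a * U b := by
    intro a b
    rw [hU]
    change u ^ (a + b).val = u ^ a.val * u ^ b.val
    rw [← pow_add, ZMod.val_add, hmod]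
  have hU0 : U 0 = 1 := by rw [hU]; simp
  have hUnat : ∀ k : ℕ, U (k : ZMod p) = u ^ k := by
    intro k
    rw [hU]
    change u ^ ((k : ZMod p).val) = u ^ k
    rw [ZMod.val_natCast, hmod]
  have hU1 : ∀ a, U a = 1 → a = 0 := by
    intro a ha
    rw [hU] at ha
    have h1 : p ∣ a.val := by
      have := orderOf_dvd_of_pow_eq_one ha
      rwa [hup] at this
    exact (ZMod.val_eq_zero a).1 (Nat.eq_zero_of_dvd_of_lt h1 (ZMod.val_lt a))
  have hUsurj : ∀ x ∈ (P : Subgroup G), ∃ a, x = U a := by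
    intro x hx
    have h1 : zpowers u = (P : Subgroup G) := by
      apply Subgroup.eq_of_le_of_card_ge ((zpowers_le).2 hu)
      rw [hP, Nat.card_zpowers, hup]
    rw [← h1, mem_zpowers_iff_mem_range_orderOf, Finset.mem_image] at hx
    obtain ⟨k, -, hk⟩ := hx
    exact ⟨k, by rw [hUnat, hk]⟩
  have hUneg : ∀ a, (U a)⁻¹ = U (-a) := by
    intro a
    rw [inv_eq_iff_mul_eq_one, ← hUadd, add_neg_cancel, hU0]
  obtain ⟨e₀, he₀⟩ : ∃ e₀ : Option (ZMod p) → Sylow p G, e₀ = fun z => z.elim P (fun a => U a • Q) := ⟨_, rfl⟩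
  have he0n : e₀ none = P := by rw [he₀]; rfl
  have he0s : ∀ a, e₀ (some a) = U a • Q := fun a => by rw [he₀]; rfl
  have hinj : Function.Injective e₀ := by
    intro x y hxy
    cases x with
    | none =>
      cases y with
      | none => rfl
      | some b =>
        rw [he0n, he0s] at hxy
        exact absurd (by rw [← smul_self P (hUP b)] at hxy; exact (smul_left_cancel _ hxy).symm) hQ
    | some a =>
      cases y with
      | none =>
        rw [he0n, he0s] at hxy
        exact absurd (by rw [← smul_self P (hUP a)] at hxy; exact (smul_left_cancel _ hxy)) hQ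
      | some b =>
        rw [he0s, he0s] at hxy
        have h1 : U (-b + a) • Q = Q := by
          rw [hUadd, mul_smul, hxy, ← hUneg, inv_smul_smul]
        by_contra hne
        have h2 : U (-b + a) ≠ 1 := by
          intro h3
          have h4 := hU1 _ h3
          apply hne
          rw [neg_add_eq_zero] at h4
          rw [h4]
        exact hQ (smul_fixed hP (hUP _) h2 h1)
  have hbij : Function.Bijective e₀ := by
    rw [Fintype.bijective_iff_injective_and_card]
    refine ⟨hinj, ?_⟩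
    rw [Fintype.card_option, ZMod.card, ← Nat.card_eq_fintype_card (α := Sylow p G), hsyl]
  obtain ⟨ε, hε⟩ : ∃ ε : Option (ZMod p) ≃ Sylow p G, ∀ z, ε z = e₀ z := ⟨Equiv.ofBijective e₀ hbij, fun z => rfl⟩
  have hεn : ε none = P := by rw [hε, he0n]
  have hεs : ∀ a, ε (some a) = U a • Q := fun a => by rw [hε, he0s]
  have hε0 : ε (some 0) = Q := by rw [hεs, hU0, one_smul]
  obtain ⟨Φ, hΦ⟩ : ∃ Φ : G →* Equiv.Perm (Option (ZMod p)), ∀ g z, ε (Φ g z) = g • ε z := by
    refine ⟨(Equiv.permCongrHom ε.symm).toMonoidHom.comp (MulAction.toPermHom G (Sylow p G)), fun g z => ?_⟩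
    change ε (ε.symm (g • (ε.symm.symm z))) = g • ε z
    rw [Equiv.apply_symm_apply, Equiv.symm_symm]
  have hΦ' : ∀ g z w, Φ g z = w ↔ g • ε z = ε w := by
    intro g z w
    rw [← hΦ, ε.apply_eq_iff_eq]
  refine ⟨Φ, ε, hεn, hΦ, ?_⟩
  -- injectivity
  have hinjΦ : Function.Injective Φ := by
    rw [← MonoidHom.ker_eq_bot_iff]
    rcases (inferInstance : Φ.ker.Normal).eq_bot_or_eq_top with h | h
    · exact h
    · exfalso
      have h1 : u ∈ Φ.ker := by rw [h]; trivial
      rw [MonoidHom.mem_ker] at h1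
      have h2 := (hΦ' u (some 0) (some 0)).1 (by rw [h1]; rfl)
      rw [hε0] at h2
      exact hQ (smul_fixed hP hu hu1 h2)
  -- conjugation
  have hconj : ∀ g : G, g • P = P → ∀ x ∈ (P : Subgroup G), g * x * g⁻¹ ∈ (P : Subgroup G) := by
    intro g hg x hx
    rw [Sylow.smul_eq_iff_mem_normalizer] at hg
    exact ((mem_normalizer_iff (H := (P : Subgroup G))).1 hg x).1 hx
  have hfix' : ∀ g, g • P = P → g • Q = Q → ∃ m : ZMod p, ∀ x, Φ g (some x) = some (m * x) := by
    intro g hgP hgQ
    obtain ⟨m, hm⟩ := hUsurj _ (hconj g hgP u hu)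
    refine ⟨m, fun x => ?_⟩
    rw [hΦ', hεs, hεs]
    have h1 : g * U x * g⁻¹ = U (m * x) := by
      have h2 : U x = u ^ x.val := by rw [hU]
      rw [h2, ← conj_pow, hm]
      have h3 : ∀ k : ℕ, U m ^ k = U (m * k) := by
        intro k
        induction k with
        | zero => rw [pow_zero, Nat.cast_zero, mul_zero, hU0]
        | succ k ih => rw [pow_succ, ih, ← hUadd]; congr 1; push_cast; ring
      rw [h3, ZMod.natCast_zmod_val]
    rw [← h1, mul_smul, mul_smul, inv_smul_eq_iff.2 hgQ.symm]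
  -- the two-point stabiliser
  obtain ⟨D, hD⟩ : ∃ D : Subgroup G, D = stabilizer G P ⊓ stabilizer G Q := ⟨_, rfl⟩
  have hDm : ∀ g, g ∈ D ↔ g • P = P ∧ g • Q = Q := fun g => by rw [hD]; rfl
  have hDcard : Nat.card D = n := by
    have h1 : Nat.card (stabilizer G P) = p * n := by
      have h2 := Subgroup.card_mul_index (stabilizer G P)
      have h3 : (stabilizer G P).index = p + 1 := by
        rw [Sylow.stabilizer_eq_normalizer, ← P.card_eq_index_normalizer, hsyl]
      rw [h3, hcard] at h2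
      have h4 : (p + 1) * (Nat.card (stabilizer G P)) = (p + 1) * (p * n) := by linarith
      exact Nat.eq_of_mul_eq_mul_left (by omega) h4
    -- orbit of Q under stabilizer P
    have h2 : Nat.card (orbit (stabilizer G P) Q) = p := by
      have h3 : orbit (stabilizer G P) Q = Set.range (fun a : ZMod p => ε (some a)) := by
        ext R
        constructor
        · rintro ⟨⟨g, hg⟩, rfl⟩
          change g • Q ∈ _
          have h4 : g • Q = ε (Φ g (some 0)) := by rw [hΦ, hε0]
          cases h5 : Φ g (some 0) with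
          | none =>
            exfalso
            rw [h5, hεn] at h4
            have h6 : g • P = P := hg
            rw [← h6] at h4
            exact hQ (smul_left_cancel _ h4)
          | some a => rw [h4, h5]; exact ⟨a, rfl⟩
        · rintro ⟨a, rfl⟩
          refine ⟨⟨U a, smul_self P (hUP a)⟩, ?_⟩
          change U a • Q = ε (some a)
          rw [hεs]
      rw [h3, Nat.card_range_of_injective (fun a b hab => Option.some.inj (ε.injective hab)), Nat.card_zmod]
    have h3 := Nat.card_congr (orbitProdStabilizerEquivGroup (stabilizer G P) Q)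
    rw [Nat.card_prod, h2, h1] at h3
    have h4 := Nat.eq_of_mul_eq_mul_left hp.out.pos h3
    rw [← h4]
    refine Nat.card_congr ⟨fun x => ⟨⟨x, ?_⟩, ?_⟩, fun x => ⟨(x.1 : G), ?_⟩, fun x => rfl, fun x => rfl⟩
    · exact ((hDm x).1 x.2).1
    · exact ((hDm x).1 x.2).2
    · rw [hDm]; exact ⟨x.1.2, x.2⟩
  have hDn : ∀ g ∈ D, g ^ n = 1 := by
    intro g hg
    rw [← hDcard]
    have h1 : (⟨g, hg⟩ : D) ^ Nat.card D = 1 := pow_card_eq_one'
    exact congrArg Subtype.val h1
  have hfix : ∀ g, g ∈ D → ∃ m : ZMod p, m ^ n = 1 ∧ ∀ x, Φ g (some x) = some (m * x) := by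
    intro g hg
    obtain ⟨m, hm⟩ := hfix' g ((hDm g).1 hg).1 ((hDm g).1 hg).2
    refine ⟨m, ?_, hm⟩
    have h1 : ∀ k : ℕ, Φ (g ^ k) (some 1) = some (m ^ k) := by
      intro k
      induction k with
      | zero => rw [pow_zero, map_one, pow_zero]; rfl
      | succ k ih => rw [pow_succ', map_mul, Equiv.Perm.mul_apply, ih, hm, pow_succ']
    have h2 := h1 n
    rw [hDn g hg, map_one] at h2
    exact (Option.some.inj h2).symm
  choose! μ hμ1 hμ2 using hfix
  -- surjectivity onto the `n`-torsion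
  have hsurj : ∀ m : ZMod p, m ^ n = 1 → ∃ g ∈ D, μ g = m := by
    obtain ⟨T, hT⟩ : ∃ T : Finset (ZMod p), T = (Polynomial.nthRoots n (1 : ZMod p)).toFinset := ⟨_, rfl⟩
    have hTm : ∀ m, m ∈ T ↔ m ^ n = 1 := fun m => by
      rw [hT, Multiset.mem_toFinset, Polynomial.mem_nthRoots (Nat.pos_of_ne_zero hn)]
    have hTc : T.card ≤ n := by
      rw [hT]
      exact (Multiset.toFinset_card_le _).trans (Polynomial.card_nthRoots n (1 : ZMod p))
    have hf : Function.Injective (fun g : D => (⟨μ g, (hTm _).2 (hμ1 g g.2)⟩ : T)) := by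
      intro a b hab
      have h1 : μ (a : G) = μ (b : G) := congrArg Subtype.val hab
      apply Subtype.ext
      apply hinjΦ
      apply Equiv.ext
      intro z
      cases z with
      | none =>
        rw [(hΦ' _ _ _).2 (show (a : G) • ε none = ε none by rw [hεn]; exact ((hDm a).1 a.2).1),
          (hΦ' _ _ _).2 (show (b : G) • ε none = ε none by rw [hεn]; exact ((hDm b).1 b.2).1)]
      | some x => rw [hμ2 a a.2, hμ2 b b.2, h1]
    have hcardT : Nat.card T ≤ Nat.card D := by
      rw [hDcard, Nat.card_eq_fintype_card, Fintype.card_coe]; exact hTc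
    have hb := Function.Injective.bijective_of_nat_card_le hf hcardT
    intro m hm
    obtain ⟨g, hg⟩ := hb.2 ⟨m, (hTm m).2 hm⟩
    exact ⟨g, g.2, congrArg Subtype.val hg⟩
  refine ⟨hinjΦ, ?_, ?_, ?_, ?_⟩
  · intro a
    refine ⟨U a, ?_, fun x => ?_⟩
    · rw [hΦ', hεn]; exact smul_self P (hUP a)
    · rw [hΦ', hεs, hεs, add_comm, hUadd, mul_smul]
  · intro m hm
    obtain ⟨g, hg, rfl⟩ := hsurj m hm
    refine ⟨g, ?_, hμ2 g hg⟩
    rw [hΦ', hεn]; exact ((hDm g).1 hg).1
  · intro g h1 h2
    rw [hΦ', hεn] at h1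
    rw [hΦ', hε0] at h2
    have hg : g ∈ D := (hDm g).2 ⟨h1, h2⟩
    exact ⟨μ g, hμ1 g hg, hμ2 g hg⟩
  · obtain ⟨g, hg⟩ : ∃ g : G, g • Q = P := MulAction.exists_smul_eq G Q P
    have h1 : ∃ a, g • P = ε (some a) := by
      cases h2 : ε.symm (g • P) with
      | none =>
        exfalso
        rw [Equiv.symm_apply_eq, hεn] at h2
        exact hQ (smul_left_cancel g (hg.trans h2.symm))
      | some a => exact ⟨a, by rw [← h2, Equiv.apply_symm_apply]⟩
    obtain ⟨a, ha⟩ := h1
    refine ⟨U (-a) * g, ?_, ?_⟩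
    · rw [hΦ', hεn, hε0, mul_smul, ha, hεs, ← hUneg, inv_smul_smul]
    · rw [hΦ', hεn, hε0, mul_smul, hg]
      exact smul_self P (hUP _)

end
end CfsgLib.PL11
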