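import Mathlib
import Cfsg.Agent.EqBase
import Cfsg.Agent.LibPL11b
import Cfsg.Agent.LibPL11c
import Cfsg.Agent.LibH22PSL2

/-! Simple groups of order `p (p² - 1) / 2` (seat helper11). -/

set_option autoImplicit false
set_option linter.all false
set_option maxRecDepth 100000

namespace CfsgLib.PL11

open Subgroup MulAction
open scoped Pointwise

universe u v

section
variable {G : Type u} [Group G] [Finite G] [hsimp : IsSimpleGroup G] {p : ℕ} [hp : Fact p.Prime]

theorem sylow_card {m : ℕ} (hcard : Nat.card G = p * m) (hm : ¬ p ∣ m) (P : Sylow p G) : Nat.card (P : Subgroup G) = p := by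
  obtain ⟨k, hk⟩ := P.isPGroup'.exists_card_eq
  have h1 := Subgroup.card_mul_index (P : Subgroup G)
  have h2 : ¬ p ∣ (P : Subgroup G).index := P.not_dvd_index
  rw [hk, hcard] at h1
  rw [hk]
  rcases k with _ | _ | k
  · exfalso
    rw [pow_zero, one_mul] at h1
    exact h2 (h1 ▸ dvd_mul_right p m)
  · rw [zero_add, pow_one]
  · exfalso
    rw [pow_succ, mul_comm (p ^ (k + 1)) p, mul_assoc] at h1
    have h3 := Nat.eq_of_mul_eq_mul_left hp.out.pos h1
    apply hm
    rw [← h3, pow_succ, mul_comm (p ^ k) p, mul_assoc]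
    exact dvd_mul_right _ _

theorem sylow_index {m : ℕ} (hcard : Nat.card G = p * m) (hm : ¬ p ∣ m) (P : Sylow p G) : (P : Subgroup G).index = m := by
  have h1 := Subgroup.card_mul_index (P : Subgroup G)
  rw [sylow_card hcard hm P, hcard] at h1
  exact Nat.eq_of_mul_eq_mul_left hp.out.pos h1

/-- divisor check -/
def dchk (p m : ℕ) : Bool := (List.range (m + 1)).all fun d => d == 0 || d == 1 || d == p + 1 || m % d != 0 || d % p != 1

theorem card_sylow {m : ℕ} (hcard : Nat.card G = p * m) (hm : ¬ p ∣ m) (hm1 : 1 < m) (hd : dchk p m = true) :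
    Nat.card (Sylow p G) = p + 1 := by
  obtain ⟨P⟩ : Nonempty (Sylow p G) := inferInstance
  have hP := sylow_card hcard hm P
  have h1 : Nat.card (Sylow p G) ∣ m := by rw [← sylow_index hcard hm P]; exact P.card_dvd_index
  have h2 := card_sylow_modEq_one p G
  obtain ⟨d, hd'⟩ : ∃ d, d = Nat.card (Sylow p G) := ⟨_, rfl⟩
  rw [← hd'] at h1 h2 ⊢
  have hd0 : 0 < d := by rw [hd']; exact Nat.card_pos
  have hdm : d ≤ m := Nat.le_of_dvd (by omega) h1
  rw [dchk, List.all_eq_true] at hd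
  have h3 := hd d (List.mem_range.2 (by omega))
  simp only [Bool.or_eq_true, beq_iff_eq, bne_iff_ne] at h3
  have h4 : d % p = 1 := by
    have := h2
    rw [Nat.ModEq, Nat.mod_eq_of_lt hp.out.one_lt] at this
    exact this
  rcases h3 with (((h3 | h3) | h3) | h3) | h3
  · omega
  · exfalso
    have h5 : (P : Subgroup G).Normal := by
      rw [← normalizer_eq_top_iff, ← index_eq_one]
      exact P.card_eq_index_normalizer.symm.trans (hd'.symm.trans h3)
    rcases h5.eq_bot_or_eq_top with h6 | h6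
    · rw [h6, Subgroup.card_bot] at hP
      exact hp.out.one_lt.ne hP
    · rw [h6, Subgroup.card_top, hcard] at hP
      have : p * m = p * 1 := by rw [hP, mul_one]
      have := Nat.eq_of_mul_eq_mul_left hp.out.pos this
      omega
  · exact h3
  · exact absurd (Nat.mod_eq_zero_of_dvd h1) h3
  · exact absurd h4 h3

theorem iso_of_order {n σ ν k₀ c₀ e₀ : ℕ} (hn : n ≠ 0) (hcard : Nat.card G = p * ((p + 1) * n)) (hm : ¬ p ∣ (p + 1) * n)
    (hd : dchk p ((p + 1) * n) = true) (hsc : sc p n σ ν = true) (hchk : chk p n ν k₀ c₀ e₀ = true) :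
    Nonempty (G ≃* Subgroup.closure (gens n (cf n k₀ (c₀ : ZMod p) (e₀ : ZMod p)))) := by
  obtain ⟨P⟩ : Nonempty (Sylow p G) := inferInstance
  have h1 : 1 < (p + 1) * n := by
    have := hp.out.two_le
    have : 1 ≤ n := Nat.pos_of_ne_zero hn
    nlinarith
  obtain ⟨Φ, ε, -, -, hΦ⟩ := exists_coord hn (by rw [hcard]; ring) (card_sylow hcard hm h1 hd) P (sylow_card hcard hm P)
  exact hΦ.iso_prime hsc hchk

end

theorem card_psl2 {F : Type v} [Field F] [Fintype F] {q m : ℕ} (hF : Fintype.card F = q) (hq : Nat.gcd 2 (q - 1) = 2)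
    (hm : q * ((q - 1) * (q + 1)) = 2 * m) : Nat.card (Matrix.ProjectiveSpecialLinearGroup (Fin 2) F) = m := by
  have h1 := Cfsg.Agent.H22.card_PSL2 (F := F)
  rw [hF, hq, hm] at h1
  omega

theorem psl2_of_order {G : Type u} [Group G] [Finite G] [hsimp : IsSimpleGroup G] {F : Type v} [Field F] [Fintype F] {p : ℕ}
    [hp : Fact p.Prime] (hF : Fintype.card F = p) {n σ ν k₀ c₀ e₀ : ℕ} (hn : n ≠ 0) (hp4 : 4 ≤ p)
    (hcard : Nat.card G = p * ((p + 1) * n)) (hm : ¬ p ∣ (p + 1) * n) (hpn : p - 1 = 2 * n)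
    (hd : dchk p ((p + 1) * n) = true) (hsc : sc p n σ ν = true) (hchk : chk p n ν k₀ c₀ e₀ = true) :
    Nonempty (G ≃* Matrix.ProjectiveSpecialLinearGroup (Fin 2) F) := by
  haveI : IsSimpleGroup (Matrix.ProjectiveSpecialLinearGroup (Fin 2) F) :=
    Matrix.ProjectiveSpecialLinearGroup.rank_two_simple (by rw [Nat.card_eq_fintype_card, hF]; exact hp4)
  have h1 : Nat.card (Matrix.ProjectiveSpecialLinearGroup (Fin 2) F) = p * ((p + 1) * n) :=
    card_psl2 hF (by rw [hpn]; simp) (by rw [hpn]; ring)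
  obtain ⟨e1⟩ := iso_of_order hn hcard hm hd hsc hchk
  obtain ⟨e2⟩ := iso_of_order (G := Matrix.ProjectiveSpecialLinearGroup (Fin 2) F) hn h1 hm hd hsc hchk
  exact ⟨e1.trans e2.symm⟩

end CfsgLib.PL11
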