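import Mathlib
import Cfsg.Agent.EqBase
import Cfsg.Agent.LibPL11d

/-! Simple groups of order `168` (seat helper11). -/

set_option autoImplicit false
set_option linter.all false
set_option maxRecDepth 100000

namespace CfsgLib.PL11

open Subgroup MulAction
open scoped Pointwise

universe u v

instance factSeven : Fact (Nat.Prime 7) := ⟨by norm_num⟩

section
variable {G : Type u} [Group G] [Finite G] [hsimp : IsSimpleGroup G] {q : ℕ} [hq : Fact q.Prime]

/-- Burnside's transfer theorem in a simple group -/
theorem not_burnside (P : Sylow q G) (hne : (P : Subgroup G) ≠ ⊥) (htop : (P : Subgroup G) ≠ ⊤) :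
    ¬ normalizer ((P : Subgroup G) : Set G) ≤ centralizer ((P : Subgroup G) : Set G) := by
  intro hP
  have hcomp := MonoidHom.ker_transferSylow_isComplement' P hP
  rcases (inferInstance : (MonoidHom.transferSylow P hP).ker.Normal).eq_bot_or_eq_top with h | h
  · rw [h] at hcomp
    exact htop (isComplement'_bot_left.1 hcomp)
  · rw [h] at hcomp
    exact hne (isComplement'_top_left.1 hcomp)

/-- in a simple group of order `168` the swap does not centralise the two-point stabiliser -/
theorem coord_seven {Φ : G →* Equiv.Perm (Option (ZMod 7))} (h : Coord (ZMod 7) 3 Φ) (hcard : Nat.card G = 168)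
    {t : G} (ht1 : Φ t none = some 0) (ht2 : Φ t (some 0) = none) {c e : ZMod 7}
    (ht : ∀ x, x ≠ 0 → Φ t (some x) = some (cf 3 1 c e x)) : False := by
  haveI : Fact (Nat.Prime 3) := ⟨Nat.prime_three⟩
  obtain ⟨y, hy1, hy2⟩ := h.mul 2 (by decide)
  have hpow : ∀ k : ℕ, Φ (y ^ k) none = none ∧ ∀ x, Φ (y ^ k) (some x) = some (2 ^ k * x) := by
    intro k
    induction k with
    | zero => simp
    | succ k ih =>
      refine ⟨?_, fun x => ?_⟩
      · rw [pow_succ, map_mul, Equiv.Perm.mul_apply, hy1, ih.1]
      · rw [pow_succ, map_mul, Equiv.Perm.mul_apply, hy2, ih.2]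
        congr 1; ring
  have hy3 : y ^ 3 = 1 := by
    apply h.inj
    apply Equiv.ext
    intro z
    rw [map_one]
    cases z with
    | none => exact (hpow 3).1
    | some x =>
      rw [(hpow 3).2]
      have : (2 : ZMod 7) ^ 3 = 1 := by decide
      rw [this, one_mul]; rfl
  have hyne : y ≠ 1 := by
    rintro rfl
    have := hy2 1
    rw [map_one] at this
    have h2 : (some (1 : ZMod 7)) = some (2 * 1) := this
    exact absurd (Option.some.inj h2) (by decide)
  have hyo : orderOf y = 3 := orderOf_eq_prime hy3 hyne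
  -- Sylow
  have hz : IsPGroup 3 (zpowers y) := IsPGroup.of_card (n := 1) (by rw [Nat.card_zpowers, hyo, pow_one])
  obtain ⟨S, hS⟩ := hz.exists_le_sylow
  have hScard : Nat.card (S : Subgroup G) = 3 := sylow_card (m := 56) (by rw [hcard]) (by norm_num) S
  have hSz : (S : Subgroup G) = zpowers y := by
    symm
    apply Subgroup.eq_of_le_of_card_ge hS
    rw [hScard, Nat.card_zpowers, hyo]
  have hty : t * y = y * t := by
    apply h.inj
    apply Equiv.ext
    intro z
    rw [map_mul, map_mul, Equiv.Perm.mul_apply, Equiv.Perm.mul_apply]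
    cases z with
    | none => rw [hy1, ht1, hy2, mul_zero]
    | some x =>
      by_cases hx : x = 0
      · rw [hx, hy2, mul_zero, ht2, hy1]
      · have h2 : (2 : ZMod 7) ≠ 0 := by decide
        rw [hy2, ht _ (mul_ne_zero h2 hx), ht x hx, hy2]
        congr 1
        have h3 : ((2 : ZMod 7) * x) ^ 3 = x ^ 3 := by
          rw [mul_pow]
          have : (2 : ZMod 7) ^ 3 = 1 := by decide
          rw [this, one_mul]
        simp only [cf, h3, pow_one]
        ring
  have hfixcomm : ∀ g, Φ g none = none → Φ g (some 0) = some 0 → g * y = y * g := by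
    intro g hg1 hg2
    obtain ⟨m, -, hm⟩ := h.fix g hg1 hg2
    apply h.inj
    apply Equiv.ext
    intro z
    rw [map_mul, map_mul, Equiv.Perm.mul_apply, Equiv.Perm.mul_apply]
    cases z with
    | none => rw [hy1, hg1, hy1]
    | some x => rw [hy2, hm, hm, hy2]; congr 1; ring
  -- fixed points of nontrivial powers of `y`
  have hfixpt : ∀ z, Φ y z = z → z = none ∨ z = some 0 := by
    intro z hz
    cases z with
    | none => left; rfl
    | some x =>
      right
      rw [hy2] at hz
      have h1 : 2 * x = x := Option.some.inj hz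
      have h2 : x = 0 := by linear_combination h1
      rw [h2]
  refine not_burnside S (by rw [hSz]; intro h0; exact hyne (zpowers_eq_bot.1 h0)) (by
    intro h0
    have := congrArg (fun K : Subgroup G => Nat.card K) h0
    simp only [hScard, Subgroup.card_top, hcard] at this
    omega) ?_
  intro g hg
  rw [mem_centralizer_iff]
  suffices hsuff : g * y = y * g by
    intro z hz
    have hz' : z ∈ zpowers y := hSz ▸ hz
    obtain ⟨k, rfl⟩ := hz'
    exact ((show Commute y g from hsuff.symm).zpow_left k)
  -- g⁻¹ y g is a power of y, fixing `none` and `some 0`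
  have h1 : g⁻¹ * y * g ∈ (S : Subgroup G) := by
    have h2 := (mem_normalizer_iff (H := (S : Subgroup G))).1 (inv_mem hg) y
    rw [inv_inv] at h2
    exact h2.1 (by rw [hSz]; exact mem_zpowers y)
  have h2 : Φ (g⁻¹ * y * g) none = none ∧ Φ (g⁻¹ * y * g) (some 0) = some 0 := by
    haveI := Classical.decEq G
    rw [hSz, mem_zpowers_iff_mem_range_orderOf, Finset.mem_image] at h1
    obtain ⟨k, -, hk⟩ := h1
    rw [← hk]
    exact ⟨(hpow k).1, by rw [(hpow k).2, mul_zero]⟩
  have hconj : ∀ z, Φ (g⁻¹ * y * g) z = z → Φ y (Φ g z) = Φ g z := by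
    intro z hz
    rw [map_mul, map_mul, Equiv.Perm.mul_apply, Equiv.Perm.mul_apply, map_inv, Equiv.Perm.inv_eq_iff_eq] at hz
    exact hz
  rcases hfixpt _ (hconj _ h2.1) with h3 | h3
  · rcases hfixpt _ (hconj _ h2.2) with h4 | h4
    · exact absurd ((Φ g).injective (h4.trans h3.symm)) (by simp)
    · exact hfixcomm g h3 h4
  · rcases hfixpt _ (hconj _ h2.2) with h4 | h4
    · obtain ⟨hi1, hi2⟩ := h.swap_inv ht1 ht2
      have h5 := hfixcomm (t⁻¹ * g) (by rw [map_mul, Equiv.Perm.mul_apply, h3, hi2]) (by rw [map_mul, Equiv.Perm.mul_apply, h4, hi1])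
      have h6 : g = t * (t⁻¹ * g) := by group
      calc g * y = t * ((t⁻¹ * g) * y) := by group
        _ = t * (y * (t⁻¹ * g)) := by rw [h5]
        _ = (t * y) * (t⁻¹ * g) := by group
        _ = y * g := by rw [hty]; group
    · exact absurd ((Φ g).injective (h4.trans h3.symm)) (by simp)

theorem iso_168 (hcard : Nat.card G = 168) : Nonempty (G ≃* Subgroup.closure (gens 3 (cf 3 2 ((3 : ℕ) : ZMod 7) ((4 : ℕ) : ZMod 7)))) := by
  obtain ⟨P⟩ : Nonempty (Sylow 7 G) := inferInstance
  have hc : Nat.card G = 7 * 24 := hcard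
  have h7 : ¬ 7 ∣ 24 := by decide
  have hs : Nat.card (Sylow 7 G) = 7 + 1 := card_sylow (p := 7) hc h7 (by decide) (by decide +kernel)
  obtain ⟨Φ, ε, -, -, hΦ⟩ := exists_coord (G := G) (p := 7) (n := 3) (by decide) (by rw [hcard]) hs P (sylow_card hc h7 P)
  exact hΦ.iso_prime' (σ := 2) (ν := 3) (by decide +kernel) (by decide +kernel) (fun t h1 h2 c e _ h3 => coord_seven hΦ hcard h1 h2 h3)

end

theorem card_psl_seven {F : Type v} [Field F] [Fintype F] (hF : Fintype.card F = 7) :
    Nat.card (Matrix.ProjectiveSpecialLinearGroup (Fin 2) F) = 168 :=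
  card_psl2 hF (by norm_num) (by norm_num)

theorem simple_psl_seven {F : Type v} [Field F] [Fintype F] (hF : Fintype.card F = 7) :
    IsSimpleGroup (Matrix.ProjectiveSpecialLinearGroup (Fin 2) F) :=
  Matrix.ProjectiveSpecialLinearGroup.rank_two_simple (by rw [Nat.card_eq_fintype_card, hF]; norm_num)

/-- simple groups of order `168` -/
theorem psl_168 {G : Type u} [Group G] [Finite G] [IsSimpleGroup G] (h : Nat.card G = 168) {F : Type v} [Field F] [Fintype F]
    (hF : Fintype.card F = 7) : Nonempty (G ≃* Matrix.ProjectiveSpecialLinearGroup (Fin 2) F) := by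
  haveI := simple_psl_seven hF
  obtain ⟨e1⟩ := iso_168 h
  obtain ⟨e2⟩ := iso_168 (card_psl_seven hF)
  exact ⟨e1.trans e2.symm⟩

/-- two simple groups of order `168` are isomorphic -/
theorem unique_168 {G : Type u} [Group G] [Finite G] [IsSimpleGroup G] (h : Nat.card G = 168) {G' : Type v} [Group G'] [Finite G']
    [IsSimpleGroup G'] (h' : Nat.card G' = 168) : Nonempty (G ≃* G') := by
  obtain ⟨e1⟩ := iso_168 h
  obtain ⟨e2⟩ := iso_168 h'
  exact ⟨e1.trans e2.symm⟩

end CfsgLib.PL11
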