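import Mathlib
import Cfsg.Agent.EqBase
import Cfsg.Agent.LibA6a
import Cfsg.Agent.LibPL11e
import Cfsg.Agent.LibLE11Syl

/-! Simple groups of order `360`: Sylow `3`-subgroups (seat helper11). -/

set_option autoImplicit false
set_option linter.all false

namespace CfsgLib.A611

open Subgroup MulAction CfsgLib.PL11
open scoped Pointwise

universe u v

instance factThree : Fact (Nat.Prime 3) := ⟨Nat.prime_three⟩

section
variable {G : Type u} [Group G] [Finite G] [hsimp : IsSimpleGroup G]

/-- proper subgroups have index at least `6` -/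
theorem index_ge (hcard : Nat.card G = 360) {H : Subgroup G} (hH : H ≠ ⊤) : 6 ≤ H.index := by
  have hker : (MulAction.toPermHom G (G ⧸ H)).ker = ⊥ := by
    rw [← Subgroup.normalCore_eq_ker]
    rcases (inferInstance : H.normalCore.Normal).eq_bot_or_eq_top with h | h
    · exact h
    · exfalso
      apply hH
      rw [eq_top_iff, ← h]
      exact Subgroup.normalCore_le H
  rw [MonoidHom.ker_eq_bot_iff] at hker
  have h1 := Nat.card_le_card_of_injective _ hker
  rw [Nat.card_perm, hcard, ← Subgroup.index_eq_card] at h1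
  by_contra h2
  push Not at h2
  have h3 : H.index.factorial ≤ (5 : ℕ).factorial := Nat.factorial_le (by omega)
  have h4 : (5 : ℕ).factorial = 120 := rfl
  omega

theorem card_three (hcard : Nat.card G = 360) (P : Sylow 3 G) : Nat.card (P : Subgroup G) = 9 := by
  rw [P.card_eq_multiplicity, hcard]
  have : (360 : ℕ).factorization 3 = 2 := by
    rw [show (360 : ℕ) = 3 ^ 2 * 40 by norm_num, Nat.factorization_mul (by norm_num) (by norm_num), Finsupp.add_apply,
      Nat.Prime.factorization_pow Nat.prime_three, Finsupp.single_eq_same,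
      Nat.factorization_eq_zero_of_not_dvd (by norm_num)]
  rw [this]; norm_num

theorem comm_of_nine {A : Type*} [Group A] (h : Nat.card A = 9) (x y : A) : x * y = y * x := by
  haveI : IsMulCommutative A := IsPGroup.isMulCommutative_of_card_eq_prime_sq (p := 3) (by rw [h]; norm_num)
  exact mul_comm' x y

theorem syl_comm (hcard : Nat.card G = 360) (P : Sylow 3 G) {x y : G} (hx : x ∈ (P : Subgroup G)) (hy : y ∈ (P : Subgroup G)) :
    x * y = y * x :=
  congrArg Subtype.val (comm_of_nine (card_three hcard P) ⟨x, hx⟩ ⟨y, hy⟩)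

theorem card_syl_three (hcard : Nat.card G = 360) : Nat.card (Sylow 3 G) = 10 := by
  obtain ⟨P⟩ : Nonempty (Sylow 3 G) := inferInstance
  have hPc := card_three hcard P
  have hPi : (P : Subgroup G).index = 40 := by
    have h1 := Subgroup.card_mul_index (P : Subgroup G)
    rw [hPc, hcard] at h1
    omega
  have h1 : Nat.card (Sylow 3 G) ∣ 40 := by rw [← hPi]; exact P.card_dvd_index
  have h2 : Nat.card (Sylow 3 G) % 3 = 1 := card_sylow_modEq_one 3 G
  have hN : normalizer ((P : Subgroup G) : Set G) ≠ ⊤ := by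
    intro h0
    rw [normalizer_eq_top_iff] at h0
    rcases h0.eq_bot_or_eq_top with h | h
    · rw [h, Subgroup.card_bot] at hPc; omega
    · rw [h, Subgroup.card_top, hcard] at hPc; omega
  have h3 := index_ge hcard hN
  have hni : Nat.card (Sylow 3 G) = (normalizer ((P : Subgroup G) : Set G)).index := P.card_eq_index_normalizer
  rw [← hni] at h3
  have h4 : Nat.card (Sylow 3 G) ≠ 40 := by
    intro h4
    have h5 : Nat.card (normalizer ((P : Subgroup G) : Set G)) = 9 := by
      have h6 := Subgroup.card_mul_index (normalizer ((P : Subgroup G) : Set G))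
      rw [← hni, h4, hcard] at h6
      omega
    have h6 : (P : Subgroup G) = normalizer ((P : Subgroup G) : Set G) :=
      Subgroup.eq_of_le_of_card_ge le_normalizer (by rw [h5, hPc])
    refine not_burnside P (by intro h; rw [h, Subgroup.card_bot] at hPc; omega)
      (by intro h; rw [h, Subgroup.card_top, hcard] at hPc; omega) ?_
    rw [← h6]
    intro x hx
    rw [mem_centralizer_iff]
    intro y hy
    exact syl_comm hcard P hy hx
  have h5 : Nat.card (Sylow 3 G) ≤ 40 := Nat.le_of_dvd (by norm_num) h1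
  obtain ⟨d, hd⟩ : ∃ d, d = Nat.card (Sylow 3 G) := ⟨_, rfl⟩
  rw [← hd] at h1 h2 h3 h4 h5 ⊢
  interval_cases d <;> omega

/-- a subgroup of order `36` with nonnormal abelian Sylow `3`-subgroup that is self-normalising cannot occur -/
theorem no_36 (hcard : Nat.card G = 360) {C : Subgroup G} (hC : Nat.card C = 36) (P : Sylow 3 G) (hPC : (P : Subgroup G) ≤ C)
    (hN : Nat.card (Sylow 3 C) = 4) : False := by
  obtain ⟨Q, hQ⟩ : ∃ Q : Sylow 3 C, Q = P.subtype hPC := ⟨_, rfl⟩
  have hQc : Nat.card (Q : Subgroup C) = 9 := by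
    rw [hQ, ← card_three hcard P]
    exact Nat.card_congr (Subgroup.subgroupOfEquivOfLe hPC).toEquiv
  have h5 : Nat.card (normalizer ((Q : Subgroup C) : Set C)) = 9 := by
    have h6 := Subgroup.card_mul_index (normalizer ((Q : Subgroup C) : Set C))
    have hni : Nat.card (Sylow 3 C) = (normalizer ((Q : Subgroup C) : Set C)).index := Q.card_eq_index_normalizer
    rw [← hni, hN, hC] at h6
    omega
  have h6 : (Q : Subgroup C) = normalizer ((Q : Subgroup C) : Set C) :=
    Subgroup.eq_of_le_of_card_ge le_normalizer (by rw [h5, hQc])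
  have hb : normalizer ((Q : Subgroup C) : Set C) ≤ centralizer ((Q : Subgroup C) : Set C) := by
    rw [← h6]
    intro x hx
    rw [mem_centralizer_iff]
    intro y hy
    exact congrArg Subtype.val (comm_of_nine hQc ⟨y, hy⟩ ⟨x, hx⟩)
  have hcomp := MonoidHom.ker_transferSylow_isComplement' Q hb
  obtain ⟨V₀, hV₀⟩ : ∃ V₀, V₀ = (MonoidHom.transferSylow Q hb).ker := ⟨_, rfl⟩
  rw [← hV₀] at hcomp
  haveI hVn : V₀.Normal := by rw [hV₀]; infer_instance
  have hVc : Nat.card V₀ = 4 := by
    have := hcomp.card_mul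
    rw [hQc, hC] at this
    omega
  obtain ⟨V, hV⟩ : ∃ V, V = V₀.map C.subtype := ⟨_, rfl⟩
  have hVc' : Nat.card V = 4 := by
    rw [hV, ← hVc]
    exact (Nat.card_congr (Subgroup.equivMapOfInjective V₀ C.subtype C.subtype_injective).toEquiv).symm
  have hCN : C ≤ normalizer (V : Set G) := by
    intro g hg
    rw [mem_normalizer_iff]
    have key : ∀ g : C, ∀ x ∈ V, (g : G) * x * (g : G)⁻¹ ∈ V := by
      intro g x hx
      rw [hV] at hx ⊢
      obtain ⟨y, hy, rfl⟩ := hx
      exact ⟨g * y * g⁻¹, hVn.conj_mem y hy g, rfl⟩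
    intro x
    refine ⟨key ⟨g, hg⟩ x, fun hx => ?_⟩
    have h7 := key ⟨g⁻¹, inv_mem hg⟩ _ hx
    have h8 : g⁻¹ * (g * x * g⁻¹) * (g⁻¹)⁻¹ = x := by group
    rwa [h8] at h7
  -- Sylow 2
  haveI : Fact (Nat.Prime 2) := ⟨Nat.prime_two⟩
  have hVp : IsPGroup 2 V := IsPGroup.of_card (n := 2) (by rw [hVc']; norm_num)
  obtain ⟨S, hS⟩ := hVp.exists_le_sylow
  have hSc : Nat.card (S : Subgroup G) = 8 := by
    rw [S.card_eq_multiplicity, hcard]
    have : (360 : ℕ).factorization 2 = 3 := by
      rw [show (360 : ℕ) = 2 ^ 3 * 45 by norm_num, Nat.factorization_mul (by norm_num) (by norm_num), Finsupp.add_apply,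
        Nat.Prime.factorization_pow Nat.prime_two, Finsupp.single_eq_same,
        Nat.factorization_eq_zero_of_not_dvd (by norm_num)]
    rw [this]; norm_num
  have hSN : (S : Subgroup G) ≤ normalizer (V : Set G) := by
    have h7 : (V.subgroupOf (S : Subgroup G)).index = 2 := by
      have h8 := Subgroup.card_mul_index (V.subgroupOf (S : Subgroup G))
      rw [Nat.card_congr (Subgroup.subgroupOfEquivOfLe hS).toEquiv, hVc', hSc] at h8
      omega
    have h9 := Subgroup.normal_of_index_eq_two h7
    exact (Subgroup.normal_subgroupOf_iff_le_normalizer hS).1 h9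
  have h8 : 72 ∣ Nat.card (normalizer (V : Set G)) := by
    have h9 : 36 ∣ Nat.card (normalizer (V : Set G)) := by rw [← hC]; exact Subgroup.card_dvd_of_le hCN
    have h10 : 8 ∣ Nat.card (normalizer (V : Set G)) := by rw [← hSc]; exact Subgroup.card_dvd_of_le hSN
    omega
  have h9 : normalizer (V : Set G) ≠ ⊤ := by
    intro h0
    rw [normalizer_eq_top_iff] at h0
    rcases h0.eq_bot_or_eq_top with h | h
    · rw [h, Subgroup.card_bot] at hVc'; omega
    · rw [h, Subgroup.card_top, hcard] at hVc'; omega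
  have h10 := index_ge hcard h9
  have h11 := Subgroup.card_mul_index (normalizer (V : Set G))
  obtain ⟨k, hk⟩ := h8
  rw [hk, hcard] at h11
  have h12 : k * (normalizer (V : Set G)).index = 5 := by
    have : 72 * (k * (normalizer (V : Set G)).index) = 72 * 5 := by rw [← mul_assoc]; exact h11
    exact Nat.eq_of_mul_eq_mul_left (by norm_num) this
  have h13 : (normalizer (V : Set G)).index ≤ 5 := Nat.le_of_dvd (by norm_num) (Dvd.intro_left k h12)
  omega

/-- trivial intersections -/
theorem syl_ti (hcard : Nat.card G = 360) {P Q : Sylow 3 G} {x : G} (hxP : x ∈ (P : Subgroup G)) (hxQ : x ∈ (Q : Subgroup G))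
    (hx : x ≠ 1) : Q = P := by
  obtain ⟨C, hC⟩ : ∃ C, C = centralizer ({x} : Set G) := ⟨_, rfl⟩
  have hle : ∀ R : Sylow 3 G, x ∈ (R : Subgroup G) → (R : Subgroup G) ≤ C := by
    intro R hR y hy
    rw [hC, mem_centralizer_singleton_iff]
    exact syl_comm hcard R hy hR
  have hPC := hle P hxP
  have hQC := hle Q hxQ
  have hCt : C ≠ ⊤ := by
    intro h0
    have h1 : x ∈ Subgroup.center G := by
      rw [Subgroup.mem_center_iff]
      intro g
      have : g ∈ C := by rw [h0]; trivial
      rw [hC, mem_centralizer_singleton_iff] at this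
      exact this
    rcases (inferInstance : (Subgroup.center G).Normal).eq_bot_or_eq_top with h | h
    · rw [h] at h1; exact hx (Subgroup.mem_bot.1 h1)
    · have h2 : (P : Subgroup G).Normal := ⟨fun n hn g => by
        have h3 : n ∈ Subgroup.center G := by rw [h]; trivial
        rw [(Subgroup.mem_center_iff.1 h3 g), mul_inv_cancel_right]; exact hn⟩
      rcases h2.eq_bot_or_eq_top with h3 | h3
      · have := card_three hcard P
        rw [h3, Subgroup.card_bot] at this; omega
      · have := card_three hcard P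
        rw [h3, Subgroup.card_top, hcard] at this; omega
  have hidx := index_ge hcard hCt
  have hmul := Subgroup.card_mul_index C
  obtain ⟨m, hm⟩ : 9 ∣ Nat.card C := by
    rw [← card_three hcard P]; exact Subgroup.card_dvd_of_le hPC
  rw [hcard, hm] at hmul
  have hmul' : m * C.index = 40 := by
    have : 9 * (m * C.index) = 9 * 40 := by rw [← mul_assoc]; exact hmul
    exact Nat.eq_of_mul_eq_mul_left (by norm_num) this
  have hm6 : m ≤ 6 := by nlinarith
  have hmd : m ∣ 40 := Dvd.intro _ hmul'
  have h1 : Nat.card (Sylow 3 C) ∣ m := by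
    have h2 := (P.subtype hPC).card_dvd_index
    have h3 := Subgroup.card_mul_index ((P.subtype hPC : Sylow 3 C) : Subgroup C)
    have h4 : Nat.card ((P.subtype hPC : Sylow 3 C) : Subgroup C) = 9 := by
      rw [← card_three hcard P]
      exact Nat.card_congr (Subgroup.subgroupOfEquivOfLe hPC).toEquiv
    rw [h4, hm] at h3
    have h5 := Nat.eq_of_mul_eq_mul_left (by norm_num) h3
    rw [← h5]; exact h2
  have h2 : Nat.card (Sylow 3 C) % 3 = 1 := card_sylow_modEq_one 3 C
  have hm0 : 0 < m := by
    rcases Nat.eq_zero_or_pos m with h | h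
    · rw [h] at hmul'; omega
    · exact h
  have h3 : Nat.card (Sylow 3 C) ≤ m := Nat.le_of_dvd hm0 h1
  have h4 : Nat.card (Sylow 3 C) = 1 ∨ (Nat.card (Sylow 3 C) = 4 ∧ m = 4) := by
    obtain ⟨d, hd⟩ : ∃ d, d = Nat.card (Sylow 3 C) := ⟨_, rfl⟩
    rw [← hd] at h1 h2 h3 ⊢
    interval_cases m <;> interval_cases d <;> omega
  rcases h4 with h4 | ⟨h4, h5⟩
  · have h5 : Q.subtype hQC = P.subtype hPC := by
      haveI := (Nat.card_eq_one_iff_unique.1 h4).1
      exact Subsingleton.elim _ _
    apply Sylow.ext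
    have h6 := congrArg (fun R : Sylow 3 C => (R : Subgroup C).map C.subtype) h5
    simp only [Sylow.coe_subtype, Subgroup.subgroupOf_map_subtype] at h6
    rwa [inf_eq_left.2 hQC, inf_eq_left.2 hPC] at h6
  · exact (no_36 hcard (by rw [hm, h5]) P hPC h4).elim

end
end CfsgLib.A611
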