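import Mathlib
import Cfsg.Agent.EqBase
import Cfsg.Agent.LibPL11a

/-! Coordinates for groups with `q + 1` Sylow `p`-subgroups of order `q` (seat helper11). -/

set_option autoImplicit false
set_option linter.all false

namespace CfsgLib.PL11

open Subgroup MulAction
open scoped Pointwise

universe u v

section
variable {G : Type u} [Group G] [Finite G] [hsimp : IsSimpleGroup G] {p : ℕ} [hp : Fact p.Prime]

/-- coordinates from a labelling of a Sylow subgroup by a field -/
theorem coord_of {K : Type v} [Field K] [Fintype K] {P Q : Sylow p G} (hQ : Q ≠ P)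
    (hsyl : Nat.card (Sylow p G) = Fintype.card K + 1) (U : K → G) (hUP : ∀ a, U a ∈ (P : Subgroup G))
    (hUadd : ∀ a b, U (a + b) = U a * U b) (hU1 : ∀ a, U a = 1 → a = 0)
    (hfree : ∀ (R : Sylow p G) (x : G), x ∈ (P : Subgroup G) → x ≠ 1 → x • R = R → R = P) {n : ℕ}
    (hD1 : ∀ g : G, g • P = P → g • Q = Q → ∃ m : K, m ^ n = 1 ∧ ∀ x, g * U x * g⁻¹ = U (m * x))
    (hD2 : ∀ m : K, m ^ n = 1 → ∃ g : G, g • P = P ∧ g • Q = Q ∧ ∀ x, g * U x * g⁻¹ = U (m * x)) :
    ∃ (Φ : G →* Equiv.Perm (Option K)) (ε : Option K ≃ Sylow p G), ε none = P ∧ ε (some 0) = Q ∧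
      (∀ g z, ε (Φ g z) = g • ε z) ∧ Coord K n Φ := by
  classical
  haveI : Fintype (Sylow p G) := Fintype.ofFinite _
  have hU0 : U 0 = 1 := by
    have h1 := hUadd 0 0
    rw [add_zero] at h1
    exact (mul_eq_left.1 h1.symm)
  have hUneg : ∀ a, (U a)⁻¹ = U (-a) := by
    intro a
    rw [inv_eq_iff_mul_eq_one, ← hUadd, add_neg_cancel, hU0]
  have hself : ∀ a, U a • P = P := fun a => (Sylow.smul_eq_iff_mem_normalizer).2 (le_normalizer (hUP a))
  obtain ⟨e₀, he₀⟩ : ∃ e₀ : Option K → Sylow p G, e₀ = fun z => z.elim P (fun a => U a • Q) := ⟨_, rfl⟩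
  have he0n : e₀ none = P := by rw [he₀]; rfl
  have he0s : ∀ a, e₀ (some a) = U a • Q := fun a => by rw [he₀]; rfl
  have hinj : Function.Injective e₀ := by
    intro x y hxy
    cases x with
    | none =>
      cases y with
      | none => rfl
      | some b =>
        rw [he0n, he0s] at hxy
        exact absurd (by rw [← hself b] at hxy; exact (smul_left_cancel _ hxy).symm) hQ
    | some a =>
      cases y with
      | none =>
        rw [he0n, he0s] at hxy
        exact absurd (by rw [← hself a] at hxy; exact (smul_left_cancel _ hxy)) hQ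
      | some b =>
        rw [he0s, he0s] at hxy
        have h1 : U (-b + a) • Q = Q := by
          rw [hUadd, mul_smul, hxy, ← hUneg, inv_smul_smul]
        by_contra hne
        have h2 : U (-b + a) ≠ 1 := by
          intro h3
          have h4 := hU1 _ h3
          apply hne
          rw [neg_add_eq_zero] at h4
          rw [h4]
        exact hQ (hfree Q _ (hUP _) h2 h1)
  have hbij : Function.Bijective e₀ := by
    rw [Fintype.bijective_iff_injective_and_card]
    refine ⟨hinj, ?_⟩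
    rw [Fintype.card_option, ← Nat.card_eq_fintype_card (α := Sylow p G), hsyl]
  obtain ⟨ε, hε⟩ : ∃ ε : Option K ≃ Sylow p G, ∀ z, ε z = e₀ z := ⟨Equiv.ofBijective e₀ hbij, fun z => rfl⟩
  have hεn : ε none = P := by rw [hε, he0n]
  have hεs : ∀ a, ε (some a) = U a • Q := fun a => by rw [hε, he0s]
  have hε0 : ε (some 0) = Q := by rw [hεs, hU0, one_smul]
  obtain ⟨Φ, hΦ⟩ : ∃ Φ : G →* Equiv.Perm (Option K), ∀ g z, ε (Φ g z) = g • ε z := by
    refine ⟨(Equiv.permCongrHom ε.symm).toMonoidHom.comp (MulAction.toPermHom G (Sylow p G)), fun g z => ?_⟩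
    change ε (ε.symm (g • (ε.symm.symm z))) = g • ε z
    rw [Equiv.apply_symm_apply, Equiv.symm_symm]
  have hΦ' : ∀ g z w, Φ g z = w ↔ g • ε z = ε w := by
    intro g z w
    rw [← hΦ, ε.apply_eq_iff_eq]
  refine ⟨Φ, ε, hεn, hε0, hΦ, ?_⟩
  -- injectivity
  have hinjΦ : Function.Injective Φ := by
    rw [← MonoidHom.ker_eq_bot_iff]
    rcases (inferInstance : Φ.ker.Normal).eq_bot_or_eq_top with h | h
    · exact h
    · exfalso
      have h1 : U 1 ∈ Φ.ker := by rw [h]; trivial
      rw [MonoidHom.mem_ker] at h1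
      have h2 := (hΦ' (U 1) (some 0) (some 0)).1 (by rw [h1]; rfl)
      rw [hε0] at h2
      exact hQ (hfree Q _ (hUP 1) (fun h3 => one_ne_zero (hU1 1 h3)) h2)
  have hact : ∀ g : G, g • Q = Q → ∀ m : K, (∀ x, g * U x * g⁻¹ = U (m * x)) → ∀ x, Φ g (some x) = some (m * x) := by
    intro g hg m hm x
    rw [hΦ', hεs, hεs, ← hm, mul_smul, mul_smul, inv_smul_eq_iff.2 hg.symm]
  refine ⟨hinjΦ, ?_, ?_, ?_, ?_⟩
  · intro a
    refine ⟨U a, ?_, fun x => ?_⟩
    · rw [hΦ', hεn]; exact hself a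
    · rw [hΦ', hεs, hεs, add_comm, hUadd, mul_smul]
  · intro m hm
    obtain ⟨g, h1, h2, h3⟩ := hD2 m hm
    refine ⟨g, ?_, hact g h2 m h3⟩
    rw [hΦ', hεn]; exact h1
  · intro g h1 h2
    rw [hΦ', hεn] at h1
    rw [hΦ', hε0] at h2
    obtain ⟨m, hm, h3⟩ := hD1 g h1 h2
    exact ⟨m, hm, hact g h2 m h3⟩
  · obtain ⟨g, hg⟩ : ∃ g : G, g • Q = P := MulAction.exists_smul_eq G Q P
    have h1 : ∃ a, g • P = ε (some a) := by
      cases h2 : ε.symm (g • P) with
      | none =>
        exfalso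
        rw [Equiv.symm_apply_eq, hεn] at h2
        exact hQ (smul_left_cancel g (hg.trans h2.symm))
      | some a => exact ⟨a, by rw [← h2, Equiv.apply_symm_apply]⟩
    obtain ⟨a, ha⟩ := h1
    refine ⟨U (-a) * g, ?_, ?_⟩
    · rw [hΦ', hεn, hε0, mul_smul, ha, hεs, ← hUneg, inv_smul_smul]
    · rw [hΦ', hεn, hε0, mul_smul, hg]
      exact hself _

omit [Finite G] in
/-- a `p`-element fixing `R` lies in `R` -/
theorem mem_of_smul {R : Sylow p G} {x : G} (hx : IsPGroup p (zpowers x)) (h : x • R = R) : x ∈ (R : Subgroup G) := by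
  have h2 : R ∈ fixedPoints (zpowers x) (Sylow p G) := by
    rintro ⟨y, hy⟩
    obtain ⟨k, rfl⟩ := mem_zpowers_iff.1 hy
    have h3 : x ∈ stabilizer G R := h
    exact (stabilizer G R).zpow_mem h3 k
  rw [hx.sylow_mem_fixedPoints_iff] at h2
  exact h2 (mem_zpowers x)

/-- the sign of a permutation representation of a simple group -/
theorem sign_one (hcard : 2 < Nat.card G) {X : Type v} [Fintype X] [DecidableEq X] (Φ : G →* Equiv.Perm X) (g : G) :
    Equiv.Perm.sign (Φ g) = 1 := by
  rcases (inferInstance : (Equiv.Perm.sign.comp Φ).ker.Normal).eq_bot_or_eq_top with h | h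
  · exfalso
    rw [MonoidHom.ker_eq_bot_iff] at h
    have h1 := Nat.card_le_card_of_injective _ h
    have h2 : Nat.card ℤˣ = 2 := by rw [Nat.card_eq_fintype_card]; rfl
    omega
  · have h1 : g ∈ (Equiv.Perm.sign.comp Φ).ker := by rw [h]; trivial
    exact h1

/-- an involution on `10` points with `4` fixed points is odd -/
theorem sign_ten {X : Type v} [Fintype X] [DecidableEq X] (hX : Nat.card X = 10) (σ : Equiv.Perm X) (h2 : σ * σ = 1) (h1 : σ ≠ 1)
    (hf : Nat.card {x // σ x = x} = 4) : Equiv.Perm.sign σ = -1 := by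
  have ho : orderOf σ = 2 := orderOf_eq_prime (by rw [pow_two]; exact h2) h1
  obtain ⟨n, hn⟩ := Equiv.Perm.cycleType_prime_order (σ := σ) (by rw [ho]; exact Nat.prime_two)
  rw [ho] at hn
  have h3 := Equiv.Perm.card_fixedPoints σ
  have h4 : Fintype.card (Function.fixedPoints σ) = 4 := by
    rw [← Nat.card_eq_fintype_card, ← hf]; rfl
  have h5 : Fintype.card X = 10 := by rw [← Nat.card_eq_fintype_card, hX]
  rw [h4, h5, hn, Multiset.sum_replicate, smul_eq_mul] at h3
  have h6 : n = 2 := by omega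
  subst h6
  rw [Equiv.Perm.sign_of_cycleType, hn]
  simp
  decide

end
end CfsgLib.PL11
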