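import Mathlib
import Cfsg.Agent.EqBase
import Cfsg.Agent.LibA6b
import Cfsg.Agent.LibPL11f
import Cfsg.Agent.LibH22PSL2

/-! Simple groups of order `360` (seat helper11). -/

set_option autoImplicit false
set_option linter.all false

namespace CfsgLib.A611

open Subgroup MulAction CfsgLib.PL11
open scoped Pointwise

universe u v

section
variable {G : Type u} [Group G] [Finite G] [hsimp : IsSimpleGroup G]

theorem syl_free (hcard : Nat.card G = 360) {P : Sylow 3 G} (R : Sylow 3 G) (x : G) (hx : x ∈ (P : Subgroup G)) (hx1 : x ≠ 1)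
    (h : x • R = R) : R = P := by
  have h1 : IsPGroup 3 (zpowers x) := P.isPGroup'.to_le (by rw [zpowers_le]; exact hx)
  exact syl_ti hcard hx (mem_of_smul h1 h) hx1

/-- every Sylow subgroup is `P` or `x • Q` -/
theorem syl_all (hcard : Nat.card G = 360) {P Q : Sylow 3 G} (hQ : Q ≠ P) (R : Sylow 3 G) :
    R = P ∨ ∃ x ∈ (P : Subgroup G), R = x • Q := by
  classical
  haveI : Fintype (Sylow 3 G) := Fintype.ofFinite _
  haveI : Fintype (P : Subgroup G) := Fintype.ofFinite _
  obtain ⟨e, he⟩ : ∃ e : Option (P : Subgroup G) → Sylow 3 G, e = fun z => z.elim P (fun a => (a : G) • Q) := ⟨_, rfl⟩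
  have hen : e none = P := by rw [he]; rfl
  have hes : ∀ a, e (some a) = (a : G) • Q := fun a => by rw [he]; rfl
  have hself : ∀ x : (P : Subgroup G), (x : G) • P = P := fun x => (Sylow.smul_eq_iff_mem_normalizer).2 (le_normalizer x.2)
  have hinj : Function.Injective e := by
    intro x y hxy
    cases x with
    | none =>
      cases y with
      | none => rfl
      | some b =>
        rw [hen, hes] at hxy
        exact absurd (smul_left_cancel _ ((hself b).trans hxy)).symm hQ
    | some a =>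
      cases y with
      | none =>
        rw [hen, hes] at hxy
        exact absurd (smul_left_cancel _ (hxy.trans (hself a).symm)) hQ
      | some b =>
        rw [hes, hes] at hxy
        have h1 : ((b : G)⁻¹ * a) • Q = Q := by rw [mul_smul, hxy, inv_smul_smul]
        by_contra hne
        have h2 : ((b : G)⁻¹ * a) ≠ 1 := by
          intro h3
          apply hne
          congr 1
          apply Subtype.ext
          exact (inv_mul_eq_one.1 h3).symm
        exact hQ (syl_free hcard Q _ (mul_mem (inv_mem b.2) a.2) h2 h1)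
  have hbij : Function.Bijective e := by
    rw [Fintype.bijective_iff_injective_and_card]
    refine ⟨hinj, ?_⟩
    rw [Fintype.card_option, ← Nat.card_eq_fintype_card (α := Sylow 3 G), ← Nat.card_eq_fintype_card (α := (P : Subgroup G)),
      card_three hcard P, card_syl_three hcard]
  obtain ⟨z, hz⟩ := hbij.2 R
  cases z with
  | none => left; rw [← hz, hen]
  | some a => right; exact ⟨a, a.2, by rw [← hz, hes]⟩

/-- the kernel of the action on Sylow subgroups -/
theorem act_inj (hcard : Nat.card G = 360) {P Q : Sylow 3 G} (hQ : Q ≠ P) : (MulAction.toPermHom G (Sylow 3 G)).ker = ⊥ := by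
  rcases (inferInstance : (MulAction.toPermHom G (Sylow 3 G)).ker.Normal).eq_bot_or_eq_top with h | h
  · exact h
  · exfalso
    obtain ⟨x, hx⟩ : ∃ x : (P : Subgroup G), x ≠ 1 := by
      haveI : Nontrivial (P : Subgroup G) := by rw [← Finite.one_lt_card_iff_nontrivial, card_three hcard P]; norm_num
      exact exists_ne 1
    have h1 : (x : G) ∈ (MulAction.toPermHom G (Sylow 3 G)).ker := by rw [h]; trivial
    rw [MonoidHom.mem_ker] at h1
    have h2 : (x : G) • Q = Q := congrArg (fun f : Equiv.Perm (Sylow 3 G) => f Q) h1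
    exact hQ (syl_free hcard Q _ x.2 (fun h3 => hx (Subtype.ext h3)) h2)

/-- an element of the two-point stabiliser centralising `P` is trivial -/
theorem faithful (hcard : Nat.card G = 360) {P Q : Sylow 3 G} (hQ : Q ≠ P) {h : G} (hP : h • P = P) (hhQ : h • Q = Q)
    (hc : ∀ x ∈ (P : Subgroup G), h * x = x * h) : h = 1 := by
  have h1 : h ∈ (MulAction.toPermHom G (Sylow 3 G)).ker := by
    rw [MonoidHom.mem_ker]
    apply Equiv.ext
    intro R
    change h • R = R
    rcases syl_all hcard hQ R with rfl | ⟨x, hx, rfl⟩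
    · exact hP
    · rw [← mul_smul, hc x hx, mul_smul, hhQ]
  rw [act_inj hcard hQ] at h1
  exact Subgroup.mem_bot.1 h1

theorem conj_mem_syl {P : Sylow 3 G} {z : G} (hP : z • P = P) {y : G} (hy : y ∈ (P : Subgroup G)) : z * y * z⁻¹ ∈ (P : Subgroup G) := by
  have h4 := (Sylow.smul_eq_iff_mem_normalizer).1 hP
  exact ((mem_normalizer_iff (H := (P : Subgroup G))).1 h4 y).1 hy

/-- fixed points of elements of the two-point stabiliser -/
theorem comm_of_fix (hcard : Nat.card G = 360) {P Q : Sylow 3 G} (hQ : Q ≠ P) {z : G} (hP : z • P = P) (hzQ : z • Q = Q)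
    {y : G} (hy : y ∈ (P : Subgroup G)) (h1 : z • (y • Q) = y • Q) : z * y = y * z := by
  have h2 : (y⁻¹ * (z * y * z⁻¹)) • Q = Q := by
    rw [mul_smul, mul_smul, mul_smul, inv_smul_eq_iff.2 hzQ.symm, h1, inv_smul_smul]
  by_contra hne
  have h5 : y⁻¹ * (z * y * z⁻¹) ≠ 1 := by
    intro h6
    apply hne
    have h7 := inv_mul_eq_one.1 h6
    calc z * y = z * y * z⁻¹ * z := by group
      _ = y * z := by rw [← h7]
  exact hQ (syl_free hcard Q _ (mul_mem (inv_mem hy) (conj_mem_syl hP hy)) h5 h2)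

/-- involutions of the two-point stabiliser act freely on `P` -/
theorem invol_free (hcard : Nat.card G = 360) {P Q : Sylow 3 G} (hQ : Q ≠ P) {z : G} (hP : z • P = P) (hzQ : z • Q = Q)
    (hzz : z * z = 1) (hz1 : z ≠ 1) {x : G} (hx : x ∈ (P : Subgroup G)) (hzx : z * x = x * z) : x = 1 := by
  classical
  by_contra hx1
  haveI : Fintype (Sylow 3 G) := Fintype.ofFinite _
  obtain ⟨C, hC⟩ : ∃ C, C = centralizer ({z} : Set G) ⊓ (P : Subgroup G) := ⟨_, rfl⟩
  have hCm : ∀ y, y ∈ C ↔ z * y = y * z ∧ y ∈ (P : Subgroup G) := by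
    intro y
    rw [hC, mem_inf, mem_centralizer_singleton_iff]
    exact ⟨fun h => ⟨h.1.symm, h.2⟩, fun h => ⟨h.1.symm, h.2⟩⟩
  have hCP : C ≤ (P : Subgroup G) := by rw [hC]; exact inf_le_right
  have hCc : Nat.card C = 3 := by
    have h1 : Nat.card C ∣ 3 ^ 2 := by
      have := Subgroup.card_dvd_of_le hCP
      rw [card_three hcard P] at this
      norm_num; exact this
    obtain ⟨k, hk, hk2⟩ := (Nat.dvd_prime_pow Nat.prime_three).1 h1
    interval_cases k
    · exfalso
      rw [pow_zero] at hk2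
      have : C = ⊥ := Subgroup.card_eq_one.1 hk2
      have h2 : x ∈ C := (hCm x).2 ⟨hzx, hx⟩
      rw [this] at h2
      exact hx1 (Subgroup.mem_bot.1 h2)
    · rw [hk2]; norm_num
    · exfalso
      have h3 : C = (P : Subgroup G) := Subgroup.eq_of_le_of_card_ge hCP (by rw [hk2, card_three hcard P]; norm_num)
      apply hz1
      apply faithful hcard hQ hP hzQ
      intro y hy
      rw [← h3] at hy
      exact ((hCm y).1 hy).1
  obtain ⟨σ, hσ⟩ : ∃ σ : Equiv.Perm (Sylow 3 G), σ = MulAction.toPermHom G (Sylow 3 G) z := ⟨_, rfl⟩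
  have hσa : ∀ R, σ R = z • R := fun R => by rw [hσ]; rfl
  have hσ1 : σ ≠ 1 := by
    intro h
    apply hz1
    apply faithful hcard hQ hP hzQ
    intro y hy
    exact comm_of_fix hcard hQ hP hzQ hy (by rw [← hσa, h]; rfl)
  have hσ2 : σ * σ = 1 := by rw [hσ, ← map_mul, hzz, map_one]
  have hfix : Nat.card {R // σ R = R} = 4 := by
    have hself : ∀ x : (P : Subgroup G), (x : G) • P = P := fun x => (Sylow.smul_eq_iff_mem_normalizer).2 (le_normalizer x.2)
    obtain ⟨e, he⟩ : ∃ e : Option C → {R // σ R = R}, (e none : Sylow 3 G) = P ∧ ∀ a : C, (e (some a) : Sylow 3 G) = (a : G) • Q := by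
      refine ⟨fun w => w.elim ⟨P, by rw [hσa, hP]⟩ (fun a => ⟨(a : G) • Q, ?_⟩), rfl, fun a => rfl⟩
      rw [hσa, ← mul_smul, ((hCm a).1 a.2).1, mul_smul, hzQ]
    have hb : Function.Bijective e := by
      constructor
      · intro a b hab
        have hab' := congrArg Subtype.val hab
        cases a with
        | none =>
          cases b with
          | none => rfl
          | some b =>
            rw [he.1, he.2] at hab'
            exact absurd (smul_left_cancel _ ((hself ⟨b, hCP b.2⟩).trans hab')).symm hQ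
        | some a =>
          cases b with
          | none =>
            rw [he.1, he.2] at hab'
            exact absurd (smul_left_cancel _ (hab'.trans (hself ⟨a, hCP a.2⟩).symm)) hQ
          | some b =>
            rw [he.2, he.2] at hab'
            have h1 : ((b : G)⁻¹ * a) • Q = Q := by rw [mul_smul, hab', inv_smul_smul]
            by_contra hne
            have h2 : ((b : G)⁻¹ * a) ≠ 1 := by
              intro h3
              apply hne
              congr 1
              apply Subtype.ext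
              exact (inv_mul_eq_one.1 h3).symm
            exact hQ (syl_free hcard Q _ (mul_mem (inv_mem (hCP b.2)) (hCP a.2)) h2 h1)
      · rintro ⟨R, hR⟩
        rcases syl_all hcard hQ R with rfl | ⟨y, hy, rfl⟩
        · exact ⟨none, Subtype.ext he.1⟩
        · rw [hσa] at hR
          exact ⟨some ⟨y, (hCm y).2 ⟨comm_of_fix hcard hQ hP hzQ hy hR, hy⟩⟩, Subtype.ext (he.2 _)⟩
    rw [← Nat.card_eq_of_bijective e hb, Finite.card_option, hCc]
  have h1 := sign_ten (card_syl_three hcard) σ hσ2 hσ1 hfix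
  have h2 := sign_one (by rw [hcard]; norm_num) (MulAction.toPermHom G (Sylow 3 G)) z
  rw [← hσ, h1] at h2
  exact absurd h2 (by decide)

/-- involutions of the two-point stabiliser invert `P` -/
theorem invol_inv (hcard : Nat.card G = 360) {P Q : Sylow 3 G} (hQ : Q ≠ P) {z : G} (hP : z • P = P) (hzQ : z • Q = Q)
    (hzz : z * z = 1) (hz1 : z ≠ 1) {x : G} (hx : x ∈ (P : Subgroup G)) : z * x * z⁻¹ = x⁻¹ := by
  have hzi : z⁻¹ = z := inv_eq_of_mul_eq_one_left hzz
  have h1 := conj_mem_syl hP hx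
  have h2 : z * (x * (z * x * z⁻¹)) = (x * (z * x * z⁻¹)) * z := by
    have h3 : (z * x * z⁻¹) * x = x * (z * x * z⁻¹) := syl_comm hcard P h1 hx
    calc z * (x * (z * x * z⁻¹)) = (z * x * z⁻¹) * (z * z) * x * z⁻¹ := by group
      _ = (z * x * z⁻¹) * x * z := by rw [hzz, mul_one, hzi]
      _ = _ := by rw [h3]
  have h3 := invol_free hcard hQ hP hzQ hzz hz1 (mul_mem hx h1) h2
  exact (inv_eq_of_mul_eq_one_right h3).symm

/-- the two-point stabiliser -/
theorem two_point (hcard : Nat.card G = 360) {P Q : Sylow 3 G} (hQ : Q ≠ P) :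
    ∃ h : G, h • P = P ∧ h • Q = Q ∧ (∀ x ∈ (P : Subgroup G), (h * h) * x * (h * h)⁻¹ = x⁻¹) ∧ h ^ 4 = 1 ∧
      ∀ g : G, g • P = P → g • Q = Q → ∃ k < 4, g = h ^ k := by
  obtain ⟨D, hD⟩ : ∃ D : Subgroup G, D = stabilizer G P ⊓ stabilizer G Q := ⟨_, rfl⟩
  have hDm : ∀ g, g ∈ D ↔ g • P = P ∧ g • Q = Q := fun g => by rw [hD]; rfl
  have hself : ∀ x ∈ (P : Subgroup G), (x : G) • P = P := fun x hx => (Sylow.smul_eq_iff_mem_normalizer).2 (le_normalizer hx)
  have hDcard : Nat.card D = 4 := by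
    have h1 : Nat.card (stabilizer G P) = 36 := by
      have h2 := Subgroup.card_mul_index (stabilizer G P)
      have h3 : (stabilizer G P).index = 10 := by
        rw [Sylow.stabilizer_eq_normalizer, ← P.card_eq_index_normalizer, card_syl_three hcard]
      rw [h3, hcard] at h2
      omega
    have h2 : Nat.card (orbit (stabilizer G P) Q) = 9 := by
      have h3 : orbit (stabilizer G P) Q = Set.range (fun a : (P : Subgroup G) => (a : G) • Q) := by
        ext R
        constructor
        · rintro ⟨⟨g, hg⟩, rfl⟩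
          change g • Q ∈ _
          rcases syl_all hcard hQ (g • Q) with h4 | ⟨x, hx, h4⟩
          · exfalso
            have h6 : g • P = P := hg
            exact hQ (smul_left_cancel _ (h4.trans h6.symm))
          · exact ⟨⟨x, hx⟩, h4.symm⟩
        · rintro ⟨a, rfl⟩
          exact ⟨⟨a, hself a a.2⟩, rfl⟩
      rw [h3, Nat.card_range_of_injective, card_three hcard P]
      intro a b hab
      have h1 : ((b : G)⁻¹ * a) • Q = Q := by
        rw [mul_smul]
        change (b : G)⁻¹ • ((a : G) • Q) = Q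
        have : (a : G) • Q = (b : G) • Q := hab
        rw [this, inv_smul_smul]
      by_contra hne
      have h2 : ((b : G)⁻¹ * a) ≠ 1 := by
        intro h3
        apply hne
        apply Subtype.ext
        exact (inv_mul_eq_one.1 h3).symm
      exact hQ (syl_free hcard Q _ (mul_mem (inv_mem b.2) a.2) h2 h1)
    have h3 := Nat.card_congr (orbitProdStabilizerEquivGroup (stabilizer G P) Q)
    rw [Nat.card_prod, h2, h1] at h3
    have h4 : Nat.card (stabilizer (stabilizer G P) Q) = 4 := by omega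
    rw [← h4]
    refine Nat.card_congr ⟨fun x => ⟨⟨x, ?_⟩, ?_⟩, fun x => ⟨(x.1 : G), ?_⟩, fun x => rfl, fun x => rfl⟩
    · exact ((hDm x).1 x.2).1
    · exact ((hDm x).1 x.2).2
    · rw [hDm]; exact ⟨x.1.2, x.2⟩
  obtain ⟨h, hhD, hh⟩ : ∃ h ∈ D, h * h ≠ 1 := by
    by_contra hcon
    push Not at hcon
    obtain ⟨z, hz⟩ : ∃ z : D, z ≠ 1 := by
      haveI : Nontrivial D := by rw [← Finite.one_lt_card_iff_nontrivial, hDcard]; norm_num
      exact exists_ne 1
    obtain ⟨w, hwD, hw⟩ : ∃ w ∈ D, w ∉ zpowers (z : G) := by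
      by_contra hc
      push Not at hc
      have h1 : Nat.card D ≤ Nat.card (zpowers (z : G)) := Subgroup.card_le_of_le hc
      rw [hDcard, Nat.card_zpowers] at h1
      have h2 : orderOf (z : G) ∣ 2 := orderOf_dvd_of_pow_eq_one (by rw [pow_two]; exact hcon z z.2)
      have := Nat.le_of_dvd (by norm_num) h2
      omega
    have hz1 : (z : G) ≠ 1 := fun h => hz (Subtype.ext h)
    have hw1 : w ≠ 1 := by rintro rfl; exact hw (one_mem _)
    have h1 : (z : G)⁻¹ * w = 1 := by
      have hz' := (hDm z).1 z.2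
      have hw' := (hDm w).1 hwD
      have h2 := (hDm ((z : G)⁻¹ * w)).1 (mul_mem (inv_mem z.2) hwD)
      apply faithful hcard hQ h2.1 h2.2
      intro x hx
      have h3 := invol_inv hcard hQ hz'.1 hz'.2 (hcon z z.2) hz1 hx
      have h4 := invol_inv hcard hQ hw'.1 hw'.2 (hcon w hwD) hw1 hx
      calc (z : G)⁻¹ * w * x = (z : G)⁻¹ * (w * x * w⁻¹) * w := by group
        _ = (z : G)⁻¹ * (z * x * (z : G)⁻¹) * w := by rw [h4, h3]
        _ = _ := by group
    apply hw
    rw [← inv_mul_eq_one.1 h1]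
    exact mem_zpowers _
  have hh4 : h ^ 4 = 1 := by
    rw [← hDcard]
    have h1 : (⟨h, hhD⟩ : D) ^ Nat.card D = 1 := pow_card_eq_one'
    exact congrArg Subtype.val h1
  have hho : orderOf h = 4 := by
    have h1 : orderOf h ∣ 2 ^ 2 := orderOf_dvd_of_pow_eq_one (by norm_num; exact hh4)
    obtain ⟨k, hk, hk2⟩ := (Nat.dvd_prime_pow Nat.prime_two).1 h1
    interval_cases k
    · exfalso; rw [pow_zero, orderOf_eq_one_iff] at hk2; apply hh; rw [hk2, mul_one]
    · exfalso; apply hh; rw [← pow_two, ← hk2.trans (pow_one 2)]; exact pow_orderOf_eq_one h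
    · rw [hk2]; norm_num
  have hz : zpowers h = D := by
    apply Subgroup.eq_of_le_of_card_ge (by rw [zpowers_le]; exact hhD)
    rw [hDcard, Nat.card_zpowers, hho]
  refine ⟨h, ((hDm h).1 hhD).1, ((hDm h).1 hhD).2, ?_, hh4, ?_⟩
  · intro x hx
    have h1 := (hDm _).1 (mul_mem hhD hhD)
    apply invol_inv hcard hQ h1.1 h1.2 _ hh hx
    rw [← pow_two h, ← pow_add]; exact hh4
  · intro g hg1 hg2
    have h1 : g ∈ zpowers h := by rw [hz]; exact (hDm g).2 ⟨hg1, hg2⟩
    haveI := Classical.decEq G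
    rw [mem_zpowers_iff_mem_range_orderOf, Finset.mem_image] at h1
    obtain ⟨k, hk, hk2⟩ := h1
    rw [hho, Finset.mem_range] at hk
    exact ⟨k, hk, hk2.symm⟩

/-- powers by `ZMod 3` -/
theorem pw_mod {A : Type u} [Group A] {g : A} (hg : g ^ 3 = 1) (k : ℕ) : g ^ (k % 3) = g ^ k := by
  conv_rhs => rw [← Nat.div_add_mod k 3, pow_add, pow_mul, hg, one_pow, one_mul]

theorem pw_add {A : Type u} [Group A] {g : A} (hg : g ^ 3 = 1) (a b : ZMod 3) : g ^ (a + b).val = g ^ a.val * g ^ b.val := by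
  rw [← pow_add, ZMod.val_add, pw_mod hg]

theorem pw_neg {A : Type u} [Group A] {g : A} (hg : g ^ 3 = 1) (a : ZMod 3) : g ^ (-a).val = (g ^ a.val)⁻¹ := by
  rw [eq_inv_iff_mul_eq_one, ← pw_add hg, neg_add_cancel, ZMod.val_zero, pow_zero]

theorem exists_coord9 (hcard : Nat.card G = 360) :
    ∃ Φ : G →* Equiv.Perm (Option F9), Coord F9 4 Φ := by
  obtain ⟨P⟩ : Nonempty (Sylow 3 G) := inferInstance
  obtain ⟨Q, hQ⟩ : ∃ Q : Sylow 3 G, Q ≠ P := by
    haveI : Nontrivial (Sylow 3 G) := by
      rw [← Finite.one_lt_card_iff_nontrivial, card_syl_three hcard]; norm_num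
    exact exists_ne P
  obtain ⟨h, hP, hhQ, hinv, hh4, hD⟩ := two_point hcard hQ
  -- an element of order three
  obtain ⟨⟨u, huP⟩, hu⟩ := exists_prime_orderOf_dvd_card' (G := (P : Subgroup G)) 3 (by rw [card_three hcard P]; norm_num)
  have hu' : orderOf u = 3 := by rw [← hu, ← Subgroup.orderOf_coe]
  have hu3 : u ^ 3 = 1 := by rw [← hu']; exact pow_orderOf_eq_one u
  have hu1 : u ≠ 1 := by rintro rfl; rw [orderOf_one] at hu'; omega
  obtain ⟨v, hv⟩ : ∃ v, v = h * u * h⁻¹ := ⟨_, rfl⟩
  have hvP : v ∈ (P : Subgroup G) := by rw [hv]; exact conj_mem_syl hP huP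
  have hv3 : v ^ 3 = 1 := by rw [hv, conj_pow, hu3, mul_one, mul_inv_cancel]
  have hhv : h * v * h⁻¹ = u⁻¹ := by
    rw [hv, ← hinv u huP]; group
  have huv : v * u = u * v := syl_comm hcard P hvP huP
  have hune : u⁻¹ ≠ u := by
    intro h1
    have h2 : u ^ 2 = 1 := by rw [pow_two]; nth_rewrite 1 [← h1]; rw [inv_mul_cancel]
    apply hu1
    have h3 : u ^ 3 = u ^ 2 * u := by rw [pow_succ]
    rw [hu3, h2, one_mul] at h3
    exact h3.symm
  have hvn : ∀ a : ZMod 3, v ≠ u ^ a.val := by
    intro a ha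
    have h1 : h * v * h⁻¹ = v ^ a.val := by rw [ha, ← conj_pow, ← hv, ha]
    rw [hhv] at h1
    rw [ha, ← pow_mul] at h1
    have h2 : u⁻¹ = u ^ (-1 : ZMod 3).val := by rw [pw_neg hu3, ZMod.val_one, pow_one]
    rw [h2, ← pw_mod hu3 (a.val * a.val), ← ZMod.val_mul] at h1
    have h3 : ∀ a b : ZMod 3, u ^ a.val = u ^ b.val → a = b := by
      intro a b hab
      have h4 : u ^ (a - b).val = 1 := by rw [sub_eq_add_neg, pw_add hu3, pw_neg hu3, hab, mul_inv_cancel]
      have h5 : 3 ∣ (a - b).val := by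
        have := orderOf_dvd_of_pow_eq_one h4
        rwa [hu'] at this
      have h6 : (a - b).val < 3 := ZMod.val_lt _
      exact sub_eq_zero.1 ((ZMod.val_eq_zero _).1 (Nat.eq_zero_of_dvd_of_lt h5 h6))
    have h4 := h3 _ _ h1
    clear h1 ha
    revert h4
    revert a
    decide
  obtain ⟨U, hU⟩ : ∃ U : F9 → G, U = fun x => u ^ x.re.val * v ^ x.im.val := ⟨_, rfl⟩
  have hcomm : ∀ a b : ℕ, u ^ a * v ^ b = v ^ b * u ^ a := fun a b => ((show Commute u v from huv.symm).pow_pow a b)
  have hUP : ∀ a, U a ∈ (P : Subgroup G) := fun a => by rw [hU]; exact mul_mem (pow_mem huP _) (pow_mem hvP _)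
  have hUadd : ∀ a b, U (a + b) = U a * U b := by
    intro a b
    rw [hU]
    change u ^ (a.re + b.re).val * v ^ (a.im + b.im).val = u ^ a.re.val * v ^ a.im.val * (u ^ b.re.val * v ^ b.im.val)
    rw [pw_add hu3, pw_add hv3]
    calc u ^ a.re.val * u ^ b.re.val * (v ^ a.im.val * v ^ b.im.val) = u ^ a.re.val * (u ^ b.re.val * v ^ a.im.val) * v ^ b.im.val := by
          simp only [mul_assoc]
      _ = u ^ a.re.val * (v ^ a.im.val * u ^ b.re.val) * v ^ b.im.val := by rw [hcomm]
      _ = _ := by simp only [mul_assoc]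
  have hU1 : ∀ a, U a = 1 → a = 0 := by
    intro a ha
    rw [hU] at ha
    change u ^ a.re.val * v ^ a.im.val = 1 at ha
    have h1 : v ^ a.im.val = u ^ (-a.re).val := by rw [pw_neg hu3]; exact (inv_eq_of_mul_eq_one_right ha).symm
    have h2 : a.im = 0 := by
      by_contra hne
      apply hvn (-a.re * a.im)
      have h3 : a.im * a.im = 1 := by
        revert hne
        generalize a.im = c
        revert c; decide
      calc v = v ^ (a.im * a.im).val := by rw [h3, ZMod.val_one, pow_one]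
        _ = (v ^ a.im.val) ^ a.im.val := by rw [ZMod.val_mul, pw_mod hv3, pow_mul]
        _ = u ^ (-a.re * a.im).val := by rw [h1, ← pow_mul, ZMod.val_mul, pw_mod hu3]
    have h3 : a.re = 0 := by
      rw [h2, ZMod.val_zero, pow_zero, mul_one] at ha
      have h5 : 3 ∣ a.re.val := by
        have := orderOf_dvd_of_pow_eq_one ha
        rwa [hu'] at this
      exact (ZMod.val_eq_zero _).1 (Nat.eq_zero_of_dvd_of_lt h5 (ZMod.val_lt _))
    exact F9.ext' h3 h2
  have hmulh : ∀ x, h * U x * h⁻¹ = U (F9.i * x) := by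
    intro x
    rw [hU]
    change h * (u ^ x.re.val * v ^ x.im.val) * h⁻¹ = u ^ (0 * x.re - 1 * x.im).val * v ^ (0 * x.im + 1 * x.re).val
    have h1 : (0 * x.re - 1 * x.im) = - x.im := by ring
    have h2 : (0 * x.im + 1 * x.re) = x.re := by ring
    rw [h1, h2, pw_neg hu3]
    calc h * (u ^ x.re.val * v ^ x.im.val) * h⁻¹ = (h * u ^ x.re.val * h⁻¹) * (h * v ^ x.im.val * h⁻¹) := by group
      _ = v ^ x.re.val * (u⁻¹) ^ x.im.val := by rw [← conj_pow, ← conj_pow, ← hv, hhv]
      _ = (u ^ x.im.val)⁻¹ * v ^ x.re.val := by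
        rw [inv_pow]
        exact ((show Commute (v ^ x.re.val) (u ^ x.im.val) from (hcomm _ _).symm).inv_right).eq
  have hmulk : ∀ k : ℕ, ∀ x, h ^ k * U x * (h ^ k)⁻¹ = U (F9.i ^ k * x) := by
    intro k
    induction k with
    | zero => intro x; simp
    | succ k ih =>
      intro x
      rw [pow_succ, pow_succ]
      calc h ^ k * h * U x * (h ^ k * h)⁻¹ = h ^ k * (h * U x * h⁻¹) * (h ^ k)⁻¹ := by group
        _ = U (F9.i ^ k * (F9.i * x)) := by rw [hmulh, ih]
        _ = _ := by rw [mul_assoc]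
  obtain ⟨Φ, ε, -, -, -, hΦ⟩ := coord_of (K := F9) (n := 4) hQ (by rw [card_syl_three hcard, F9.card]) U hUP hUadd hU1
    (fun R x hx hx1 hR => syl_free hcard R x hx hx1 hR)
    (by
      intro g hg1 hg2
      obtain ⟨k, -, rfl⟩ := hD g hg1 hg2
      exact ⟨F9.i ^ k, by rw [← pow_mul, mul_comm, pow_mul, f9_i, one_pow], hmulk k⟩)
    (by
      intro m hm
      obtain ⟨k, -, rfl⟩ := f9_gen m hm
      refine ⟨h ^ k, ?_, ?_, hmulk k⟩
      · exact (stabilizer G P).pow_mem hP k
      · exact (stabilizer G Q).pow_mem hhQ k)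
  exact ⟨Φ, hΦ⟩

theorem iso_360 (hcard : Nat.card G = 360) : Nonempty (G ≃* Subgroup.closure (gens 4 (cf 4 3 (1 : F9) (-1)))) := by
  obtain ⟨Φ, h⟩ := exists_coord9 hcard
  obtain ⟨t, k, c, e, hk, hc, he, ht1, ht2, ht3, hfe⟩ := h.exists_shape (by norm_num) f9_i f9_gen f9_ν f9_cov
  obtain ⟨rfl, rfl, rfl⟩ := f9_check hk hc he hfe
  exact h.iso_closure ht1 ht2 ht3

/-- two simple groups of order `360` are isomorphic -/
theorem unique_360 {G : Type u} [Group G] [Finite G] [IsSimpleGroup G] (h : Nat.card G = 360) {G' : Type v} [Group G'] [Finite G']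
    [IsSimpleGroup G'] (h' : Nat.card G' = 360) : Nonempty (G ≃* G') := by
  obtain ⟨e1⟩ := iso_360 h
  obtain ⟨e2⟩ := iso_360 h'
  exact ⟨e1.trans e2.symm⟩

theorem alt_six {G : Type u} [Group G] [Finite G] [IsSimpleGroup G] (h : Nat.card G = 360) :
    Nonempty (G ≃* alternatingGroup (Fin 6)) := by
  haveI : IsSimpleGroup (alternatingGroup (Fin 6)) := alternatingGroup.isSimpleGroup (by simp)
  apply unique_360 h
  rw [nat_card_alternatingGroup, Nat.card_eq_fintype_card, Fintype.card_fin]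
  rfl

end
end CfsgLib.A611
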