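import Cfsg.Agent.LibPm17

set_option autoImplicit false

/-! Products of conjugacy classes in `PSL_d(q)`, `d ≥ 3` (seat helper26). -/

namespace CfsgLib.Ah

open Matrix CfsgLib.Pm

variable {d : ℕ} {F : Type*} [Field F]

/-- functionals -/
theorem ex_dual (S : Submodule F (Fin d → F)) {y : Fin d → F} (hy : y ∉ S) : ∃ ψ : Fin d → F, (∀ s ∈ S, ψ ⬝ᵥ s = 0) ∧ ψ ⬝ᵥ y = 1 := by
  obtain ⟨f, hf, hS⟩ := Submodule.exists_le_ker_of_notMem hy
  have hrep : ∀ v : Fin d → F, (fun i => f (Pi.single i 1)) ⬝ᵥ v = f v := by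
    intro v
    conv_rhs => rw [LinearMap.pi_apply_eq_sum_univ f v]
    rw [dotProduct]
    apply Finset.sum_congr rfl
    intro i _
    have : (fun j => if i = j then (1 : F) else 0) = Pi.single i 1 := by
      ext j
      rw [Pi.single_apply]
      by_cases h : i = j
      · rw [if_pos h, if_pos h.symm]
      · rw [if_neg h, if_neg (Ne.symm h)]
    first
      | rw [this, smul_eq_mul, mul_comm]
      | rw [smul_eq_mul, mul_comm]
  refine ⟨(f y)⁻¹ • (fun i => f (Pi.single i 1)), ?_, ?_⟩
  · intro s hs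
    rw [smul_dotProduct, hrep]
    have : f s = 0 := hS hs
    rw [this, smul_zero]
  · rw [smul_dotProduct, hrep, smul_eq_mul, inv_mul_cancel₀ hf]

/-- vectors outside a small span -/
theorem ex_out (s : Finset (Fin d → F)) (hs : s.card < d) : ∃ z : Fin d → F, z ∉ Submodule.span F (s : Set (Fin d → F)) := by
  by_contra h
  push Not at h
  have h1 : Submodule.span F (s : Set (Fin d → F)) = ⊤ := by
    rw [eq_top_iff]
    intro z _
    exact h z
  have h2 := finrank_span_finset_le_card (R := F) s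
  have h3 : Set.finrank F (s : Set (Fin d → F)) = d := by
    unfold Set.finrank
    rw [h1, finrank_top]
    simp
  rw [h3] at h2
  omega

theorem ex_out2 (hd : 3 ≤ d) (u v : Fin d → F) : ∃ z : Fin d → F, z ∉ Submodule.span F ({u, v} : Set (Fin d → F)) := by
  classical
  obtain ⟨z, hz⟩ := ex_out ({u, v} : Finset (Fin d → F)) (lt_of_le_of_lt Finset.card_le_two (by omega))
  refine ⟨z, ?_⟩
  simpa using hz

/-- moving a vector by a transvection -/
theorem move_one {w u : Fin d → F} (h : w ∉ Submodule.span F ({u - w} : Set (Fin d → F))) :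
    ∃ g : SpecialLinearGroup (Fin d) F, (g : Matrix (Fin d) (Fin d) F) *ᵥ w = u := by
  obtain ⟨ψ, h1, h2⟩ := ex_dual _ h
  refine ⟨tr (u - w) ψ (h1 _ (Submodule.subset_span rfl)), ?_⟩
  rw [tr_mulVec, h2, one_smul]
  abel

theorem move (hd : 2 ≤ d) {w u : Fin d → F} (hw : w ≠ 0) (hu : u ≠ 0) :
    ∃ g : SpecialLinearGroup (Fin d) F, (g : Matrix (Fin d) (Fin d) F) *ᵥ w = u := by
  by_cases h : w ∈ Submodule.span F ({u - w} : Set (Fin d → F))
  · -- dependent: intermediate vector
    obtain ⟨z, hz⟩ := ex_out ({w} : Finset (Fin d → F)) (by simp; omega)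
    rw [Finset.coe_singleton] at hz
    obtain ⟨c, hc⟩ := Submodule.mem_span_singleton.1 h
    have hc0 : c ≠ 0 := by
      rintro rfl
      rw [zero_smul] at hc
      exact hw hc.symm
    -- u is a multiple of w
    have huw : u = (c⁻¹ * (1 + c)) • w := by
      have h3 : c • u = (1 + c) • w := by
        rw [add_smul, one_smul]
        nth_rewrite 1 [← hc]
        rw [smul_sub]
        abel
      rw [mul_smul, ← h3, smul_smul, inv_mul_cancel₀ hc0, one_smul]
    have hz1 : w ∉ Submodule.span F ({z - w} : Set (Fin d → F)) := by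
      intro h4
      obtain ⟨e, he⟩ := Submodule.mem_span_singleton.1 h4
      have he0 : e ≠ 0 := by
        rintro rfl
        rw [zero_smul] at he
        exact hw he.symm
      apply hz
      rw [Submodule.mem_span_singleton]
      refine ⟨e⁻¹ * (1 + e), ?_⟩
      have h5 : e • z = (1 + e) • w := by
        rw [add_smul, one_smul]
        nth_rewrite 1 [← he]
        rw [smul_sub]
        abel
      rw [mul_smul, ← h5, smul_smul, inv_mul_cancel₀ he0, one_smul]
    have hz2 : z ∉ Submodule.span F ({u - z} : Set (Fin d → F)) := by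
      intro h4
      obtain ⟨e, he⟩ := Submodule.mem_span_singleton.1 h4
      by_cases he1 : 1 + e = 0
      · have h5 : e • u = 0 := by
          have : e • u = (1 + e) • z := by
            have h7 := he
            rw [smul_sub, sub_eq_iff_eq_add] at h7
            rw [h7, add_smul, one_smul]
          rw [this, he1, zero_smul]
        rcases smul_eq_zero.1 h5 with h6 | h6
        · rw [h6, add_zero] at he1; exact one_ne_zero he1
        · exact hu h6
      · apply hz
        rw [Submodule.mem_span_singleton]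
        refine ⟨(1 + e)⁻¹ * (e * (c⁻¹ * (1 + c))), ?_⟩
        have h5 : (1 + e) • z = e • u := by
          rw [add_smul, one_smul]
          nth_rewrite 1 [← he]
          rw [smul_sub]
          abel
        rw [mul_smul, mul_smul e, ← huw, ← h5, smul_smul, inv_mul_cancel₀ he1, one_smul]
    obtain ⟨g1, hg1⟩ := move_one hz1
    obtain ⟨g2, hg2⟩ := move_one hz2
    exact ⟨g2 * g1, by rw [cm, ← mulVec_mulVec, hg1, hg2]⟩
  · exact move_one h

/-- non-scalar matrices have non-eigenvectors -/
theorem ex_noneig (M : Matrix (Fin d) (Fin d) F) (hM : ∀ c : F, M ≠ c • 1) (hd : 1 ≤ d) :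
    ∃ w : Fin d → F, M *ᵥ w ∉ Submodule.span F ({w} : Set (Fin d → F)) := by
  by_contra h
  push Not at h
  have h1 : ∀ w : Fin d → F, ∃ c : F, c • w = M *ᵥ w := fun w => Submodule.mem_span_singleton.1 (h w)
  choose c hc using h1
  have hcol : ∀ i j, M i j = c (Pi.single j 1) * (Pi.single j (1 : F) : Fin d → F) i := by
    intro i j
    have := congrFun (hc (Pi.single j 1)) i
    rw [mulVec_single_one] at this
    rw [Pi.smul_apply, smul_eq_mul] at this
    exact this.symm
  have heq : ∀ i j : Fin d, c (Pi.single i 1) = c (Pi.single j 1) := by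
    intro i j
    by_cases hij : i = j
    · rw [hij]
    have h3 := hc (Pi.single i 1 + Pi.single j 1)
    rw [mulVec_add, ← hc (Pi.single i 1), ← hc (Pi.single j 1)] at h3
    have hi := congrFun h3 i
    have hj := congrFun h3 j
    simp only [Pi.smul_apply, Pi.add_apply, smul_eq_mul, Pi.single_eq_same, Pi.single_eq_of_ne hij, Pi.single_eq_of_ne (Ne.symm hij)] at hi hj
    simp only [mul_one, mul_zero, add_zero, zero_add] at hi hj
    rw [← hi, ← hj]
  have i0 : Fin d := ⟨0, hd⟩
  apply hM (c (Pi.single i0 1))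
  ext i j
  rw [hcol, Matrix.smul_apply, Matrix.one_apply, Pi.single_apply, heq j i0, smul_eq_mul]

/-- the trace along a one-parameter group of transvections -/
theorem trace_tr (A B : Matrix (Fin d) (Fin d) F) (u φ : Fin d → F) (a : F) :
    ((1 + vecMulVec (a • u) φ) * A * (1 + vecMulVec ((-a) • u) φ) * B).trace =
      (A * B).trace + a * (φ ⬝ᵥ ((A * B) *ᵥ u)) - a * (φ ⬝ᵥ ((B * A) *ᵥ u)) - a ^ 2 * ((φ ⬝ᵥ (A *ᵥ u)) * (φ ⬝ᵥ (B *ᵥ u))) := by
  have e1 : ∀ X : Matrix (Fin d) (Fin d) F, (vecMulVec u φ * X).trace = φ ⬝ᵥ (X *ᵥ u) := by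
    intro X
    rw [vecMulVec_mul, Matrix.trace_vecMulVec, dotProduct_comm, dotProduct_mulVec]
  have e2 : (1 + vecMulVec (a • u) φ) * A * (1 + vecMulVec ((-a) • u) φ) * B =
      A * B + a • (vecMulVec u φ * (A * B)) - a • (A * vecMulVec u φ * B) - (a ^ 2) • (vecMulVec u φ * A * vecMulVec u φ * B) := by
    rw [smul_vecMulVec, smul_vecMulVec]
    simp only [add_mul, mul_add, one_mul, mul_one, smul_mul_assoc, mul_smul_comm, neg_smul, neg_mul, mul_neg, smul_add, smul_neg]
    simp only [mul_assoc, pow_two, smul_smul, smul_add, smul_neg]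
    abel
  rw [e2, trace_sub, trace_sub, trace_add, trace_smul, trace_smul, trace_smul, e1, smul_eq_mul, smul_eq_mul, smul_eq_mul]
  have e3 : (A * vecMulVec u φ * B).trace = φ ⬝ᵥ ((B * A) *ᵥ u) := by
    rw [mul_assoc, trace_mul_comm, mul_assoc, e1]
  have e4 : (vecMulVec u φ * A * vecMulVec u φ * B).trace = (φ ⬝ᵥ (A *ᵥ u)) * (φ ⬝ᵥ (B *ᵥ u)) := by
    have e5 : vecMulVec u φ * A * vecMulVec u φ = (φ ⬝ᵥ (A *ᵥ u)) • vecMulVec u φ := by
      rw [mul_assoc, mul_vecMulVec, vecMulVec_mul_vecMulVec]
      first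
        | rfl
        | rw [vecMulVec_smul]
        | (rw [smul_vecMulVec])
        | skip
    rw [e5, smul_mul_assoc, trace_smul, e1, smul_eq_mul]
  rw [e3, e4]

end CfsgLib.Ah
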