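import Cfsg.Agent.LibAh1

set_option autoImplicit false

/-! Products of conjugacy classes in `PSL_d(q)`, `d ≥ 3`, II (seat helper26). -/

namespace CfsgLib.Ah

open Matrix CfsgLib.Pm

variable {d : ℕ} {F : Type*} [Field F]

theorem tr_inv' (u φ : Fin d → F) (h0 : φ ⬝ᵥ u = 0) (a : F) (h : φ ⬝ᵥ (a • u) = 0) (h' : φ ⬝ᵥ ((-a) • u) = 0) :
    (tr (a • u) φ h)⁻¹ = tr ((-a) • u) φ h' := by
  apply inv_eq_of_mul_eq_one_right
  apply Subtype.ext
  rw [cm, tr_val, tr_val, mul_add, add_mul, add_mul, vecMulVec_mul_vecMulVec, h']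
  simp

theorem span2 {u v x : Fin d → F} (hv : v ∉ Submodule.span F ({u} : Set (Fin d → F))) (hx : x ∉ Submodule.span F ({u, v} : Set (Fin d → F))) :
    v ∉ Submodule.span F ({u, x} : Set (Fin d → F)) := by
  intro h
  obtain ⟨a, b, hab⟩ := Submodule.mem_span_pair.1 h
  by_cases hb : b = 0
  · apply hv
    rw [Submodule.mem_span_singleton]
    exact ⟨a, by rw [← hab, hb, zero_smul, add_zero]⟩
  · apply hx
    rw [Submodule.mem_span_pair]
    refine ⟨-(b⁻¹ * a), b⁻¹, ?_⟩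
    rw [← hab, smul_add, smul_smul, smul_smul, inv_mul_cancel₀ hb, one_smul, neg_smul, neg_add_cancel_left]

theorem main (hd : 3 ≤ d) (A B : SpecialLinearGroup (Fin d) F) (hA : ∀ c : F, (A : Matrix (Fin d) (Fin d) F) ≠ c • 1)
    (hB : ∀ c : F, (B : Matrix (Fin d) (Fin d) F) ≠ c • 1)
    (hP : ∀ g : SpecialLinearGroup (Fin d) F, (((g * A * g⁻¹ * B : SpecialLinearGroup (Fin d) F) : Matrix (Fin d) (Fin d) F).trace = 0 ↔
      ((A * B : SpecialLinearGroup (Fin d) F) : Matrix (Fin d) (Fin d) F).trace = 0)) : False := by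
  have K2 : ∀ (g : SpecialLinearGroup (Fin d) F) (u φ : Fin d → F), φ ⬝ᵥ u = 0 → φ ⬝ᵥ ((B : Matrix (Fin d) (Fin d) F) *ᵥ u) = 0 →
      φ ⬝ᵥ ((((g * A * g⁻¹ : SpecialLinearGroup (Fin d) F) : Matrix (Fin d) (Fin d) F) * (B : Matrix (Fin d) (Fin d) F)) *ᵥ u) =
      φ ⬝ᵥ (((B : Matrix (Fin d) (Fin d) F) * ((g * A * g⁻¹ : SpecialLinearGroup (Fin d) F) : Matrix (Fin d) (Fin d) F)) *ᵥ u) := by
    intro g u φ h0 h1
    by_contra hne
    set A' : Matrix (Fin d) (Fin d) F := ((g * A * g⁻¹ : SpecialLinearGroup (Fin d) F) : Matrix (Fin d) (Fin d) F) with hA'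
    set δ := φ ⬝ᵥ ((A' * (B : Matrix (Fin d) (Fin d) F)) *ᵥ u) - φ ⬝ᵥ (((B : Matrix (Fin d) (Fin d) F) * A') *ᵥ u) with hδ
    have hδ0 : δ ≠ 0 := sub_ne_zero.2 hne
    have hT : ∀ a : F, ((A' * (B : Matrix (Fin d) (Fin d) F)).trace + a * δ = 0 ↔
        ((A * B : SpecialLinearGroup (Fin d) F) : Matrix (Fin d) (Fin d) F).trace = 0) := by
      intro a
      have ha : φ ⬝ᵥ (a • u) = 0 := by rw [dotProduct_smul, h0, smul_zero]
      have ha' : φ ⬝ᵥ ((-a) • u) = 0 := by rw [dotProduct_smul, h0, smul_zero]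
      rw [← hP (tr (a • u) φ ha * g)]
      have e : ((tr (a • u) φ ha * g * A * (tr (a • u) φ ha * g)⁻¹ * B : SpecialLinearGroup (Fin d) F) : Matrix (Fin d) (Fin d) F) =
          (1 + vecMulVec (a • u) φ) * A' * (1 + vecMulVec ((-a) • u) φ) * B := by
        have e1 : tr (a • u) φ ha * g * A * (tr (a • u) φ ha * g)⁻¹ * B = tr (a • u) φ ha * (g * A * g⁻¹) * (tr (a • u) φ ha)⁻¹ * B := by
          rw [_root_.mul_inv_rev]
          simp only [mul_assoc]
        rw [e1, tr_inv' u φ h0 a ha ha', cm, cm, cm, tr_val, tr_val]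
      rw [e, trace_tr, h1, mul_zero, mul_zero, sub_zero]
      have e3 : (A' * (B : Matrix (Fin d) (Fin d) F)).trace + a * δ =
          (A' * (B : Matrix (Fin d) (Fin d) F)).trace + a * φ ⬝ᵥ ((A' * (B : Matrix (Fin d) (Fin d) F)) *ᵥ u) -
            a * φ ⬝ᵥ (((B : Matrix (Fin d) (Fin d) F) * A') *ᵥ u) := by
        rw [hδ]; ring
      rw [e3]
    have t1 := (hT (-(A' * (B : Matrix (Fin d) (Fin d) F)).trace / δ)).1 (by field_simp; ring)
    have t2 := (hT ((1 - (A' * (B : Matrix (Fin d) (Fin d) F)).trace) / δ)).2 t1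
    have e4 : (A' * (B : Matrix (Fin d) (Fin d) F)).trace + (1 - (A' * (B : Matrix (Fin d) (Fin d) F)).trace) / δ * δ = 1 := by
      field_simp; ring
    rw [e4] at t2
    exact one_ne_zero t2
  obtain ⟨w, hw⟩ := ex_noneig _ hA (by omega)
  obtain ⟨u, hu⟩ := ex_noneig _ hB (by omega)
  have hw0 : w ≠ 0 := by
    rintro rfl
    apply hw
    rw [mulVec_zero]
    exact Submodule.zero_mem _
  have hu0 : u ≠ 0 := by
    rintro rfl
    apply hu
    rw [mulVec_zero]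
    exact Submodule.zero_mem _
  set v := (B : Matrix (Fin d) (Fin d) F) *ᵥ u with hv
  obtain ⟨g0, hg0⟩ := move (by omega) hw0 hu0
  have hinv : ∀ g : SpecialLinearGroup (Fin d) F, ((g⁻¹ : SpecialLinearGroup (Fin d) F) : Matrix (Fin d) (Fin d) F) * (g : Matrix (Fin d) (Fin d) F) = 1 := by
    intro g
    rw [← cm, inv_mul_cancel]; rfl
  have hginv : ∀ (g : SpecialLinearGroup (Fin d) F) (a b : Fin d → F), (g : Matrix (Fin d) (Fin d) F) *ᵥ a = b →
      ((g⁻¹ : SpecialLinearGroup (Fin d) F) : Matrix (Fin d) (Fin d) F) *ᵥ b = a := by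
    intro g a b h
    rw [← h, mulVec_mulVec, hinv, one_mulVec]
  have hy0 : ((g0 * A * g0⁻¹ : SpecialLinearGroup (Fin d) F) : Matrix (Fin d) (Fin d) F) *ᵥ u ∉ Submodule.span F ({u} : Set (Fin d → F)) := by
    rw [cm, cm, ← mulVec_mulVec, ← mulVec_mulVec, hginv g0 w u hg0]
    intro h
    obtain ⟨c, hc⟩ := Submodule.mem_span_singleton.1 h
    apply hw
    rw [Submodule.mem_span_singleton]
    refine ⟨c, ?_⟩
    have := hginv g0 _ _ hc.symm
    rw [mulVec_smul, hginv g0 w u hg0] at this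
    exact this
  obtain ⟨z, hz⟩ := ex_out2 hd u v
  -- arrange `A' u ∉ ⟨u, v⟩`
  obtain ⟨g, hg⟩ : ∃ g : SpecialLinearGroup (Fin d) F, ((g * A * g⁻¹ : SpecialLinearGroup (Fin d) F) : Matrix (Fin d) (Fin d) F) *ᵥ u ∉
      Submodule.span F ({u, v} : Set (Fin d → F)) := by
    by_cases h : ((g0 * A * g0⁻¹ : SpecialLinearGroup (Fin d) F) : Matrix (Fin d) (Fin d) F) *ᵥ u ∈ Submodule.span F ({u, v} : Set (Fin d → F))
    · set y := ((g0 * A * g0⁻¹ : SpecialLinearGroup (Fin d) F) : Matrix (Fin d) (Fin d) F) *ᵥ u with hy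
      have hyz : y ∉ Submodule.span F ({u, z} : Set (Fin d → F)) := by
        apply span2 hy0
        intro hz2
        apply hz
        have hle : Submodule.span F ({u, y} : Set (Fin d → F)) ≤ Submodule.span F ({u, v} : Set (Fin d → F)) := by
          rw [Submodule.span_le]
          intro t ht
          rcases ht with rfl | ht
          · exact Submodule.subset_span (by simp)
          · rw [Set.mem_singleton_iff] at ht
            rw [ht]; exact h
        exact hle hz2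
      obtain ⟨ψ, hψ, hψy⟩ := ex_dual _ hyz
      have hψu : ψ ⬝ᵥ u = 0 := hψ u (Submodule.subset_span (by simp))
      have hψz : ψ ⬝ᵥ z = 0 := hψ z (Submodule.subset_span (by simp))
      refine ⟨tr z ψ hψz * g0, ?_⟩
      have hfix : ((tr z ψ hψz : SpecialLinearGroup (Fin d) F) : Matrix (Fin d) (Fin d) F) *ᵥ u = u := by
        rw [tr_mulVec, hψu, zero_smul, add_zero]
      have e1 : tr z ψ hψz * g0 * A * (tr z ψ hψz * g0)⁻¹ = tr z ψ hψz * (g0 * A * g0⁻¹) * (tr z ψ hψz)⁻¹ := by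
        rw [_root_.mul_inv_rev]
        simp only [mul_assoc]
      rw [e1, cm, cm, ← mulVec_mulVec, ← mulVec_mulVec, hginv _ _ _ hfix, ← hy, tr_mulVec, hψy, one_smul]
      intro h3
      apply hz
      have := Submodule.sub_mem _ h3 h
      rwa [add_sub_cancel_left] at this
    · exact ⟨g0, h⟩
  set x := ((g * A * g⁻¹ : SpecialLinearGroup (Fin d) F) : Matrix (Fin d) (Fin d) F) *ᵥ u with hx
  obtain ⟨ψ, hψ, hψv⟩ := ex_dual _ (span2 hu hg)
  have hψu : ψ ⬝ᵥ u = 0 := hψ u (Submodule.subset_span (by simp))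
  have hψx : ψ ⬝ᵥ x = 0 := hψ x (Submodule.subset_span (by simp))
  obtain ⟨φ, hφ, hφx⟩ := ex_dual _ hg
  have hφu : φ ⬝ᵥ u = 0 := hφ u (Submodule.subset_span (by simp))
  have hφv : φ ⬝ᵥ v = 0 := hφ v (Submodule.subset_span (by simp))
  have k1 := K2 g u φ hφu hφv
  have k2 := K2 (tr u ψ hψu * g) u φ hφu hφv
  have e1 : tr u ψ hψu * g * A * (tr u ψ hψu * g)⁻¹ = tr u ψ hψu * (g * A * g⁻¹) * (tr u ψ hψu)⁻¹ := by
    rw [_root_.mul_inv_rev]
    simp only [mul_assoc]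
  have hfix : ((tr u ψ hψu : SpecialLinearGroup (Fin d) F) : Matrix (Fin d) (Fin d) F) *ᵥ u = u := by
    rw [tr_mulVec, hψu, zero_smul, add_zero]
  have hvu : ((tr u ψ hψu : SpecialLinearGroup (Fin d) F) : Matrix (Fin d) (Fin d) F) *ᵥ (v - u) = v := by
    rw [tr_mulVec, dotProduct_sub, hψv, hψu, sub_zero, one_smul, sub_add_cancel]
  have f1 : ((((g * A * g⁻¹ : SpecialLinearGroup (Fin d) F) : Matrix (Fin d) (Fin d) F) * (B : Matrix (Fin d) (Fin d) F)) *ᵥ u) =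
      ((g * A * g⁻¹ : SpecialLinearGroup (Fin d) F) : Matrix (Fin d) (Fin d) F) *ᵥ v := by
    rw [← mulVec_mulVec]
  have f2 : (((B : Matrix (Fin d) (Fin d) F) * ((g * A * g⁻¹ : SpecialLinearGroup (Fin d) F) : Matrix (Fin d) (Fin d) F)) *ᵥ u) =
      (B : Matrix (Fin d) (Fin d) F) *ᵥ x := by
    rw [← mulVec_mulVec]
  rw [f1, f2] at k1
  have f3 : ∀ s : Fin d → F, ((tr u ψ hψu * g * A * (tr u ψ hψu * g)⁻¹ : SpecialLinearGroup (Fin d) F) : Matrix (Fin d) (Fin d) F) *ᵥ s =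
      ((tr u ψ hψu : SpecialLinearGroup (Fin d) F) : Matrix (Fin d) (Fin d) F) *ᵥ
        (((g * A * g⁻¹ : SpecialLinearGroup (Fin d) F) : Matrix (Fin d) (Fin d) F) *ᵥ
          ((((tr u ψ hψu)⁻¹ : SpecialLinearGroup (Fin d) F) : Matrix (Fin d) (Fin d) F) *ᵥ s)) := by
    intro s
    rw [e1, cm, cm, mulVec_mulVec, mulVec_mulVec, mul_assoc]
  have f4 : ((((tr u ψ hψu * g * A * (tr u ψ hψu * g)⁻¹ : SpecialLinearGroup (Fin d) F) : Matrix (Fin d) (Fin d) F) *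
      (B : Matrix (Fin d) (Fin d) F)) *ᵥ u) = ((g * A * g⁻¹ : SpecialLinearGroup (Fin d) F) : Matrix (Fin d) (Fin d) F) *ᵥ v - x +
      (ψ ⬝ᵥ (((g * A * g⁻¹ : SpecialLinearGroup (Fin d) F) : Matrix (Fin d) (Fin d) F) *ᵥ v - x)) • u := by
    rw [← mulVec_mulVec, ← hv, f3, hginv _ _ _ hvu, mulVec_sub, ← hx, tr_mulVec]
  have f5 : (((B : Matrix (Fin d) (Fin d) F) * ((tr u ψ hψu * g * A * (tr u ψ hψu * g)⁻¹ : SpecialLinearGroup (Fin d) F) :
      Matrix (Fin d) (Fin d) F)) *ᵥ u) = (B : Matrix (Fin d) (Fin d) F) *ᵥ x := by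
    rw [← mulVec_mulVec, f3, hginv _ _ _ hfix, ← hx, tr_mulVec, hψx, zero_smul, add_zero]
  rw [f4, f5, ← k1, dotProduct_add, dotProduct_smul, hφu, smul_zero, add_zero, dotProduct_sub, hφx] at k2
  have : (1 : F) = 0 := by linear_combination -k2
  exact one_ne_zero this

end CfsgLib.Ah
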