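import Mathlib
import Cfsg.Agent.LibPCyc

/-! Alperin's theorem on centralizers of maximal normal abelian subgroups of given exponent -/

set_option autoImplicit false
set_option linter.all false
open scoped commutatorElement

namespace CfsgLib.AlperinA

open CfsgLib.SolvBasic CfsgLib.SolvMin CfsgLib.SolvNilp CfsgLib.SolvCrit

universe u
variable {G : Type u} [Group G]

theorem step [Finite G] {p : ℕ} [hp : Fact p.Prime] (hG : IsPGroup p G) (n : ℕ)
    (hn : p ^ n ≠ 2) (A : Subgroup G) [hAn : A.Normal] (hA : IsMulCommutative A)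
    (hAe : ∀ a ∈ A, a ^ p ^ n = 1)
    (hmax : ∀ B : Subgroup G, B.Normal → IsMulCommutative B → (∀ b ∈ B, b ^ p ^ n = 1) →
      A ≤ B → B = A) (i : ℕ) : ∀ x ∈ Subgroup.centralizer (A : Set G), x ^ p ∈ A →
      x ^ p ^ n = 1 → QuotientGroup.mk' A x ∈ Subgroup.upperCentralSeries (G ⧸ A) i → x ∈ A := by
  have hmk : ∀ y : G, QuotientGroup.mk' A y = 1 ↔ y ∈ A := fun y => QuotientGroup.eq_one_iff y
  induction i with
  | zero =>
    intro x _ _ _ h
    rw [Subgroup.upperCentralSeries_zero, Subgroup.mem_bot] at h
    exact (hmk x).mp h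
  | succ i ih =>
    intro x hxC hxp hxn hxZ
    by_contra hxA
    have hCn : (Subgroup.centralizer (A : Set G)).Normal := inferInstance
    obtain ⟨K, hK⟩ : ∃ K, K = Subgroup.centralizer ({QuotientGroup.mk' A x} : Set (G ⧸ A)) := ⟨_, rfl⟩
    by_cases htop : K = ⊤
    · have hc : ∀ g : G, x * g * x⁻¹ * g⁻¹ ∈ A := by
        intro g
        have h1 : QuotientGroup.mk' A g ∈ K := by rw [htop]; trivial
        rw [hK, Subgroup.mem_centralizer_singleton_iff] at h1
        rw [← hmk, map_mul, map_mul, map_mul, map_inv, map_inv, ← h1]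
        group
      have hBn := normal_sup_zpowers A x hc
      have hBc := @isMulCommutative_sup_zpowers G _ A hA x hxC
      have hBe : ∀ b ∈ A ⊔ Subgroup.zpowers x, b ^ p ^ n = 1 := by
        intro b hb
        rw [Subgroup.mem_sup_of_normal_left] at hb
        obtain ⟨a, ha, z, hz, rfl⟩ := hb
        obtain ⟨k, rfl⟩ := Subgroup.mem_zpowers_iff.mp hz
        have h1 : Commute a (x ^ k) := by
          apply Commute.zpow_right
          exact Subgroup.mem_centralizer_iff.mp hxC a ha
        rw [h1.mul_pow, hAe a ha, one_mul, ← zpow_natCast, zpow_comm, zpow_natCast, hxn, one_zpow]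
      have h2 := hmax _ hBn hBc hBe le_sup_left
      apply hxA
      rw [← h2]
      exact (le_sup_right : Subgroup.zpowers x ≤ _) (Subgroup.mem_zpowers x)
    · have hnil : Group.IsNilpotent (G ⧸ A) := (hG.to_quotient A).isNilpotent
      have hnc := Group.normalizerCondition_of_isNilpotent (G := G ⧸ A) K (lt_top_iff_ne_top.mpr htop)
      obtain ⟨q, hq, hqK⟩ := SetLike.exists_of_lt hnc
      obtain ⟨g, rfl⟩ := QuotientGroup.mk'_surjective A q
      -- the conjugate of `x`
      obtain ⟨v, hv⟩ : ∃ v, v = g * x * g⁻¹ := ⟨_, rfl⟩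
      obtain ⟨u, hu⟩ : ∃ u, u = x⁻¹ := ⟨_, rfl⟩
      have hxK : QuotientGroup.mk' A x ∈ K := by
        rw [hK, Subgroup.mem_centralizer_singleton_iff]
      have hvK : QuotientGroup.mk' A v ∈ K := by
        have h1 := (Subgroup.mem_normalizer_iff.mp hq _).mp hxK
        rw [hv, map_mul, map_mul, map_inv]; exact h1
      have hvx : QuotientGroup.mk' A v * QuotientGroup.mk' A x =
          QuotientGroup.mk' A x * QuotientGroup.mk' A v := by
        rw [hK, Subgroup.mem_centralizer_singleton_iff] at hvK
        exact hvK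
      have hvu : QuotientGroup.mk' A v * QuotientGroup.mk' A u =
          QuotientGroup.mk' A u * QuotientGroup.mk' A v := by
        rw [hu, map_inv]
        exact ((show Commute _ _ from hvx).inv_right).eq
      have hvC : v ∈ Subgroup.centralizer (A : Set G) := by rw [hv]; exact hCn.conj_mem x hxC g
      have huC : u ∈ Subgroup.centralizer (A : Set G) := by rw [hu]; exact inv_mem hxC
      obtain ⟨c, hc⟩ : ∃ c, c = (u * v)⁻¹ * (v * u) := ⟨_, rfl⟩
      have hcA : c ∈ A := by
        rw [← hmk, hc, map_mul, map_inv, map_mul, map_mul, hvu, inv_mul_cancel]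
      have hvuc : v * u = u * v * c := by rw [hc]; group
      have hcu : c * u = u * c := Subgroup.mem_centralizer_iff.mp huC c hcA
      have hcv : c * v = v * c := Subgroup.mem_centralizer_iff.mp hvC c hcA
      have hvp : v ^ p ∈ A := by
        rw [hv, conj_pow]; exact hAn.conj_mem _ hxp g
      have hcp : c ^ p = 1 := by
        have h1 : u⁻¹ * v * u = v * c := by rw [mul_assoc, hvuc]; group
        have h3 : (u⁻¹ * v * u) ^ p = v ^ p := by
          have h4 := conj_pow (i := p) (a := u⁻¹) (b := v)
          rw [inv_inv] at h4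
          rw [h4]
          have h5 : v ^ p * u = u * v ^ p := Subgroup.mem_centralizer_iff.mp huC _ hvp
          rw [mul_assoc, h5]; group
        rw [h1, (show Commute v c from hcv.symm).mul_pow] at h3
        exact mul_eq_left.mp h3
      have huvn : (u * v) ^ p ^ n = 1 := by
        rw [mul_pow_of_commutator_central u v c hvuc hcu hcv]
        have h6 : p ∣ (p ^ n).choose 2 := hp.out.dvd_choose_pow (by norm_num) (fun h => hn h.symm)
        obtain ⟨m, hm⟩ := h6
        rw [hm, pow_mul, hcp, one_pow, mul_one, hu, inv_pow, hxn, hv, conj_pow, hxn]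
        group
      have huvp : (u * v) ^ p ∈ A := by
        rw [← hmk, map_pow, map_mul, (show Commute _ _ from hvu.symm).mul_pow, ← map_pow, ← map_pow,
          (hmk _).mpr hvp, hu, inv_pow, map_inv, (hmk _).mpr hxp]
        group
      have huvZ : QuotientGroup.mk' A (u * v) ∈ Subgroup.upperCentralSeries (G ⧸ A) i := by
        have h7 := inv_mem hxZ
        rw [Subgroup.mem_upperCentralSeries_succ_iff] at h7
        have h8 := h7 (QuotientGroup.mk' A g)
        rw [commutatorElement_def, inv_inv] at h8
        rw [hu, hv, map_mul, map_inv, map_mul, map_mul, map_inv]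
        have e : (QuotientGroup.mk' A x)⁻¹ * (QuotientGroup.mk' A g * QuotientGroup.mk' A x *
          (QuotientGroup.mk' A g)⁻¹) = (QuotientGroup.mk' A x)⁻¹ * QuotientGroup.mk' A g *
            QuotientGroup.mk' A x * (QuotientGroup.mk' A g)⁻¹ := by group
        rw [e]; exact h8
      have hfin := ih (u * v) (mul_mem huC hvC) huvp huvn huvZ
      apply hqK
      rw [hK, Subgroup.mem_centralizer_singleton_iff]
      rw [← hmk, hu, hv, map_mul, map_inv, map_mul, map_mul, map_inv] at hfin
      have h9 := inv_mul_eq_one.mp hfin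
      calc QuotientGroup.mk' A g * QuotientGroup.mk' A x = (QuotientGroup.mk' A g *
            QuotientGroup.mk' A x * (QuotientGroup.mk' A g)⁻¹) * QuotientGroup.mk' A g := by group
        _ = _ := by rw [← h9]

theorem alperin [Finite G] {p : ℕ} [hp : Fact p.Prime] (hG : IsPGroup p G) (n : ℕ)
    (hn : p ^ n ≠ 2) (A : Subgroup G) [hAn : A.Normal] (hA : IsMulCommutative A)
    (hAe : ∀ a ∈ A, a ^ p ^ n = 1)
    (hmax : ∀ B : Subgroup G, B.Normal → IsMulCommutative B → (∀ b ∈ B, b ^ p ^ n = 1) →
      A ≤ B → B = A) (x : G) (hx : x ∈ Subgroup.centralizer (A : Set G)) (hxn : x ^ p ^ n = 1) :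
    x ∈ A := by
  have hnil : Group.IsNilpotent (G ⧸ A) := (hG.to_quotient A).isNilpotent
  obtain ⟨i, hi⟩ := hnil.nilpotent
  have key : ∀ k : ℕ, x ^ p ^ (n - k) ∈ A := by
    intro k
    induction k with
    | zero => rw [Nat.sub_zero, hxn]; exact one_mem _
    | succ k ih =>
      rcases Nat.lt_or_ge k n with h | h
      · refine step hG n hn A hA hAe hmax i _ (pow_mem hx _) ?_ ?_ ?_
        · rw [← pow_mul, ← pow_succ]
          have : n - (k + 1) + 1 = n - k := by omega
          rw [this]; exact ih
        · rw [← pow_mul, mul_comm, pow_mul, hxn, one_pow]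
        · rw [hi]; trivial
      · have : n - (k + 1) = n - k := by omega
        rw [this]; exact ih
  have := key n
  rwa [Nat.sub_self, pow_zero, pow_one] at this

end CfsgLib.AlperinA
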