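import Mathlib

set_option autoImplicit false

/-! Alternating sums of numbers of fixed cosets (seat helper15). -/

namespace CfsgLib.AltSum

variable {G : Type*} [Group G] [Finite G]

/-- abstract system: parabolic subgroups `P J`, `B = P ∅`, and a predicate `Pos x i` on double cosets -/
structure Sys (B : Subgroup G) (P : Finset ℕ → Subgroup G) (Pos : G → ℕ → Prop) : Prop where
  BP : ∀ J, B ≤ P J
  mono : ∀ {J I : Finset ℕ}, J ⊆ I → P J ≤ P I
  dc : ∀ b ∈ B, ∀ b' ∈ B, ∀ x i, Pos (b * x * b') i ↔ Pos x i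
  ex : ∀ J x, ∃ p ∈ P J, ∀ i ∈ J, Pos (x * p) i
  un : ∀ J x p, p ∈ P J → (∀ i ∈ J, Pos x i) → (∀ i ∈ J, Pos (x * p) i) → p ∈ B

variable {B : Subgroup G} {P : Finset ℕ → Subgroup G} {Pos : G → ℕ → Prop} (h : Sys B P Pos)
include h

theorem card_fix (I J : Finset ℕ) (hJI : J ⊆ I) {b : G} (hb : b ∈ B) :
    Nat.card {q : G ⧸ P J // ∃ x ∈ P I, (x : G ⧸ P J) = q ∧ x⁻¹ * b * x ∈ P J} =
    Nat.card {q : G ⧸ B // ∃ x ∈ P I, (x : G ⧸ B) = q ∧ x⁻¹ * b * x ∈ B ∧ ∀ i ∈ J, Pos x i} := by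
  symm
  let f : {q : G ⧸ B // ∃ x ∈ P I, (x : G ⧸ B) = q ∧ x⁻¹ * b * x ∈ B ∧ ∀ i ∈ J, Pos x i} →
      {q : G ⧸ P J // ∃ x ∈ P I, (x : G ⧸ P J) = q ∧ x⁻¹ * b * x ∈ P J} := fun q =>
    ⟨Quotient.map' id (fun a c hac => by
      rw [QuotientGroup.leftRel_apply] at hac ⊢
      exact h.BP J hac) q.1, by
      obtain ⟨x, hx, e, h1, h2⟩ := q.2
      refine ⟨x, hx, ?_, h.BP J h1⟩
      rw [← e]; rfl⟩
  refine Nat.card_eq_of_bijective f ⟨?_, ?_⟩
  · rintro ⟨_, x, hx, rfl, h1, h2⟩ ⟨_, y, hy, rfl, h3, h4⟩ e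
    apply Subtype.ext
    have e1 : (x : G ⧸ P J) = (y : G ⧸ P J) := congrArg Subtype.val e
    rw [QuotientGroup.eq] at e1
    change (x : G ⧸ B) = (y : G ⧸ B)
    rw [QuotientGroup.eq]
    apply h.un J x _ e1 h2
    intro i hi
    rw [mul_inv_cancel_left]
    exact h4 i hi
  · rintro ⟨_, x, hx, rfl, h1⟩
    obtain ⟨p, hp, hpos⟩ := h.ex J x
    have hxp : x * p ∈ P I := (P I).mul_mem hx (h.mono hJI hp)
    have e1 : (x * p)⁻¹ * b * (x * p) = p⁻¹ * (x⁻¹ * b * x) * p := by group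
    have h5 : (x * p)⁻¹ * b * (x * p) ∈ P J := by
      rw [e1]; exact (P J).mul_mem ((P J).mul_mem ((P J).inv_mem hp) h1) hp
    have h6 : (x * p)⁻¹ * b * (x * p) ∈ B := by
      apply h.un J (x * p) _ h5 hpos
      intro i hi
      have e2 : x * p * ((x * p)⁻¹ * b * (x * p)) = b * (x * p) * 1 := by group
      rw [e2, h.dc b hb 1 B.one_mem]
      exact hpos i hi
    refine ⟨⟨((x * p : G) : G ⧸ B), x * p, hxp, rfl, h6, hpos⟩, ?_⟩
    apply Subtype.ext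
    change ((x * p : G) : G ⧸ P J) = (x : G ⧸ P J)
    rw [eq_comm, QuotientGroup.eq]
    have : x⁻¹ * (x * p) = p := by group
    rw [this]; exact hp

/-- the alternating sum -/
theorem alt_sum (I : Finset ℕ) {b : G} (hb : b ∈ B) :
    ∑ J ∈ I.powerset, (-1 : ℤ) ^ J.card * (Nat.card {q : G ⧸ P J // ∃ x ∈ P I, (x : G ⧸ P J) = q ∧ x⁻¹ * b * x ∈ P J} : ℤ) =
    Nat.card {q : G ⧸ B // ∃ x ∈ P I, (x : G ⧸ B) = q ∧ x⁻¹ * b * x ∈ B ∧ ∀ i ∈ I, ¬ Pos x i} := by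
  classical
  have : Fintype (G ⧸ B) := Fintype.ofFinite _
  let Y : Finset (G ⧸ B) := Finset.univ.filter (fun q => ∃ x ∈ P I, (x : G ⧸ B) = q ∧ x⁻¹ * b * x ∈ B)
  let A : G ⧸ B → Finset ℕ := fun q => I.filter (fun i => ∃ x : G, (x : G ⧸ B) = q ∧ Pos x i)
  have hwd : ∀ (x y : G) (i : ℕ), (x : G ⧸ B) = (y : G ⧸ B) → (Pos x i ↔ Pos y i) := by
    intro x y i e
    rw [QuotientGroup.eq] at e
    have := h.dc 1 B.one_mem _ e x i
    rw [one_mul, mul_inv_cancel_left] at this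
    exact this.symm
  have hfixB : ∀ (x y : G), (x : G ⧸ B) = (y : G ⧸ B) → x⁻¹ * b * x ∈ B → y⁻¹ * b * y ∈ B := by
    intro x y e h1
    rw [QuotientGroup.eq] at e
    have : y⁻¹ * b * y = (x⁻¹ * y)⁻¹ * (x⁻¹ * b * x) * (x⁻¹ * y) := by group
    rw [this]; exact B.mul_mem (B.mul_mem (B.inv_mem e) h1) e
  have hcard : ∀ (p : G ⧸ B → Prop), (Nat.card {q : G ⧸ B // p q}) = (Finset.univ.filter p).card := by
    intro p
    rw [Nat.card_eq_fintype_card, Fintype.card_subtype]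
  have e1 : ∀ J ∈ I.powerset, Nat.card {q : G ⧸ P J // ∃ x ∈ P I, (x : G ⧸ P J) = q ∧ x⁻¹ * b * x ∈ P J} =
      (Y.filter (fun q => J ⊆ A q)).card := by
    intro J hJ
    rw [Finset.mem_powerset] at hJ
    rw [card_fix h I J hJ hb, hcard]
    congr 1
    ext q
    simp only [Finset.mem_filter, Finset.mem_univ, true_and, Y, A]
    constructor
    · rintro ⟨x, hx, e, h1, h2⟩
      refine ⟨⟨x, hx, e, h1⟩, fun i hi => ?_⟩
      rw [Finset.mem_filter]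
      exact ⟨hJ hi, x, e, h2 i hi⟩
    · rintro ⟨⟨x, hx, e, h1⟩, h2⟩
      refine ⟨x, hx, e, h1, fun i hi => ?_⟩
      have h3 := h2 hi
      rw [Finset.mem_filter] at h3
      obtain ⟨-, y, ey, hy⟩ := h3
      exact (hwd y x i (ey.trans e.symm)).1 hy
  rw [Finset.sum_congr rfl (fun J hJ => by rw [e1 J hJ]), hcard]
  have e2 : ∀ J : Finset ℕ, ((Y.filter (fun q => J ⊆ A q)).card : ℤ) = ∑ q ∈ Y, if J ⊆ A q then 1 else 0 := by
    intro J
    rw [Finset.card_filter]; push_cast; rfl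
  rw [Finset.sum_congr rfl (fun J _ => by rw [e2 J, Finset.mul_sum]), Finset.sum_comm]
  have e3 : ∀ q ∈ Y, ∑ J ∈ I.powerset, (-1 : ℤ) ^ J.card * (if J ⊆ A q then 1 else 0) = if A q = ∅ then 1 else 0 := by
    intro q _
    rw [← Finset.sum_powerset_neg_one_pow_card]
    have h1 : (A q).powerset = I.powerset.filter (fun J => J ⊆ A q) := by
      ext J
      rw [Finset.mem_filter, Finset.mem_powerset, Finset.mem_powerset]
      exact ⟨fun h => ⟨h.trans (Finset.filter_subset _ _), h⟩, fun h => h.2⟩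
    rw [h1, Finset.sum_filter]
    apply Finset.sum_congr rfl
    intro J _
    split_ifs <;> simp
  rw [Finset.sum_congr rfl e3, ← Finset.sum_filter, Finset.sum_const, nsmul_eq_mul, mul_one]
  congr 2
  ext q
  simp only [Finset.mem_filter, Finset.mem_univ, true_and, Y]
  constructor
  · rintro ⟨⟨x, hx, e, h1⟩, h2⟩
    refine ⟨x, hx, e, h1, fun i hi hp => ?_⟩
    have : i ∈ A q := Finset.mem_filter.2 ⟨hi, x, e, hp⟩
    rw [h2] at this
    exact absurd this (Finset.notMem_empty i)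
  · rintro ⟨x, hx, e, h1, h2⟩
    refine ⟨⟨x, hx, e, h1⟩, ?_⟩
    rw [Finset.eq_empty_iff_forall_notMem]
    intro i hi
    obtain ⟨hi, y, ey, hy⟩ := Finset.mem_filter.1 hi
    exact h2 i hi ((hwd y x i (ey.trans e.symm)).1 hy)

end CfsgLib.AltSum
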