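import Cfsg.Agent.LibAltSum

set_option autoImplicit false

/-! Steinberg's count of p-elements from alternating sums (seat helper15). -/

namespace CfsgLib.AltSum

variable {G : Type*} [Group G] [Finite G]

/-- sum over elements `g` of `P I` satisfying a class predicate of fixed coset numbers -/
theorem sum_fix (PI PJ : Subgroup G) (hle : PJ ≤ PI) (Q : G → Prop) (hQ : ∀ x g, Q g → Q (x⁻¹ * g * x)) :
    Nat.card {z : G × (G ⧸ PJ) // z.1 ∈ PI ∧ Q z.1 ∧ ∃ x ∈ PI, (x : G ⧸ PJ) = z.2 ∧ x⁻¹ * z.1 * x ∈ PJ} =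
    Nat.card {q : G ⧸ PJ // ∃ x ∈ PI, (x : G ⧸ PJ) = q} * Nat.card {g : G // g ∈ PJ ∧ Q g} := by
  classical
  rw [← Nat.card_prod]
  have hch : ∀ q : {q : G ⧸ PJ // ∃ x ∈ PI, (x : G ⧸ PJ) = q}, ∃ x ∈ PI, (x : G ⧸ PJ) = q.1 := fun q => q.2
  choose r hr1 hr2 using hch
  have hconj : ∀ (x y g : G), (x : G ⧸ PJ) = (y : G ⧸ PJ) → x⁻¹ * g * x ∈ PJ → y⁻¹ * g * y ∈ PJ := by
    intro x y g e h1
    rw [QuotientGroup.eq] at e
    have : y⁻¹ * g * y = (x⁻¹ * y)⁻¹ * (x⁻¹ * g * x) * (x⁻¹ * y) := by group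
    rw [this]; exact PJ.mul_mem (PJ.mul_mem (PJ.inv_mem e) h1) e
  apply Nat.card_congr
  refine
    { toFun := fun z => ⟨⟨z.1.2, by obtain ⟨x, hx, e, _⟩ := z.2.2.2; exact ⟨x, hx, e⟩⟩,
        ⟨(r ⟨z.1.2, by obtain ⟨x, hx, e, _⟩ := z.2.2.2; exact ⟨x, hx, e⟩⟩)⁻¹ * z.1.1 *
          (r ⟨z.1.2, by obtain ⟨x, hx, e, _⟩ := z.2.2.2; exact ⟨x, hx, e⟩⟩), ?_, ?_⟩⟩
      invFun := fun z => ⟨(r z.1 * z.2.1 * (r z.1)⁻¹, z.1.1), ?_, ?_, r z.1, hr1 _, hr2 _, ?_⟩
      left_inv := ?_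
      right_inv := ?_ }
  · obtain ⟨x, hx, e, h1⟩ := z.2.2.2
    exact hconj x _ _ (e.trans (hr2 ⟨z.1.2, ⟨x, hx, e⟩⟩).symm) h1
  · exact hQ _ _ z.2.2.1
  · exact PI.mul_mem (PI.mul_mem (hr1 _) (hle z.2.2.1)) (PI.inv_mem (hr1 _))
  · have := hQ (r z.1)⁻¹ z.2.1 z.2.2.2
    rw [inv_inv] at this; exact this
  · have e : (r z.1)⁻¹ * (r z.1 * z.2.1 * (r z.1)⁻¹) * r z.1 = z.2.1 := by group
    rw [e]; exact z.2.2.1
  · rintro ⟨⟨g, q⟩, h⟩
    apply Subtype.ext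
    simp only [Prod.mk.injEq, and_true]
    group
  · rintro ⟨⟨q, hq⟩, ⟨g, hg⟩⟩
    simp only [Prod.mk.injEq, Subtype.mk.injEq, true_and]
    group

/-- data for the count of p-elements -/
structure Cnt (p : ℕ) (B : Subgroup G) (P : Finset ℕ → Subgroup G) (Pos : G → ℕ → Prop) (U : Subgroup G)
    (R : Finset ℕ → Subgroup G) (S : Finset ℕ) : Prop extends Sys B P Pos where
  UB : U ≤ B
  Rn : ∀ I ⊆ S, ∀ x ∈ P I, ∀ g ∈ R I, x * g * x⁻¹ ∈ R I
  RU : ∀ I ⊆ S, R I ≤ U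
  Up : ∀ u ∈ U, ∃ k : ℕ, orderOf u = p ^ k
  cj : ∀ I ⊆ S, ∀ g ∈ P I, (∃ k : ℕ, orderOf g = p ^ k) → ∃ x ∈ P I, x⁻¹ * g * x ∈ U
  ct : ∀ I ⊆ S, ∀ b ∈ U, b ∈ R I →
    Nat.card {q : G ⧸ B // ∃ x ∈ P I, (x : G ⧸ B) = q ∧ x⁻¹ * b * x ∈ B ∧ ∀ i ∈ I, ¬ Pos x i} * Nat.card (R I) = Nat.card U
  ct' : ∀ I ⊆ S, ∀ b ∈ U, b ∉ R I →
    Nat.card {q : G ⧸ B // ∃ x ∈ P I, (x : G ⧸ B) = q ∧ x⁻¹ * b * x ∈ B ∧ ∀ i ∈ I, ¬ Pos x i} = 0
  PS : P S = ⊤
  RS : R S = ⊥

variable {B : Subgroup G} {P : Finset ℕ → Subgroup G} {Pos : G → ℕ → Prop} {p : ℕ} {U : Subgroup G}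
    {R : Finset ℕ → Subgroup G} {S : Finset ℕ} (h : Cnt p B P Pos U R S)
include h

/-- the number of fixed cosets is a class function on `P I` -/
theorem fix_conj (I J : Finset ℕ) {y : G} (hy : y ∈ P I) (g : G) :
    Nat.card {q : G ⧸ P J // ∃ x ∈ P I, (x : G ⧸ P J) = q ∧ x⁻¹ * g * x ∈ P J} =
    Nat.card {q : G ⧸ P J // ∃ x ∈ P I, (x : G ⧸ P J) = q ∧ x⁻¹ * (y⁻¹ * g * y) * x ∈ P J} := by
  apply Nat.card_congr
  refine
    { toFun := fun q => ⟨y⁻¹ • q.1, ?_⟩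
      invFun := fun q => ⟨y • q.1, ?_⟩
      left_inv := ?_
      right_inv := ?_ }
  · obtain ⟨x, hx, e, h1⟩ := q.2
    refine ⟨y⁻¹ * x, (P I).mul_mem ((P I).inv_mem hy) hx, ?_, ?_⟩
    · rw [← e]; rfl
    · have : (y⁻¹ * x)⁻¹ * (y⁻¹ * g * y) * (y⁻¹ * x) = x⁻¹ * g * x := by group
      rw [this]; exact h1
  · obtain ⟨x, hx, e, h1⟩ := q.2
    refine ⟨y * x, (P I).mul_mem hy hx, ?_, ?_⟩
    · rw [← e]; rfl
    · have : (y * x)⁻¹ * g * (y * x) = x⁻¹ * (y⁻¹ * g * y) * x := by group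
      rw [this]; exact h1
  · intro q; apply Subtype.ext; simp
  · intro q; apply Subtype.ext; simp

open scoped Classical in
/-- value of the alternating sum at a p-element of `P I` -/
theorem alt_val (I : Finset ℕ) (hI : I ⊆ S) {g : G} (hg : g ∈ P I) (hp : ∃ k : ℕ, orderOf g = p ^ k) :
    (∑ J ∈ I.powerset, (-1 : ℤ) ^ J.card *
      (Nat.card {q : G ⧸ P J // ∃ x ∈ P I, (x : G ⧸ P J) = q ∧ x⁻¹ * g * x ∈ P J} : ℤ)) * Nat.card (R I) =
    if g ∈ R I then (Nat.card U : ℤ) else 0 := by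
  classical
  obtain ⟨y, hy, hyu⟩ := h.cj I hI g hg hp
  have e1 : ∑ J ∈ I.powerset, (-1 : ℤ) ^ J.card *
      (Nat.card {q : G ⧸ P J // ∃ x ∈ P I, (x : G ⧸ P J) = q ∧ x⁻¹ * g * x ∈ P J} : ℤ) =
      ∑ J ∈ I.powerset, (-1 : ℤ) ^ J.card *
      (Nat.card {q : G ⧸ P J // ∃ x ∈ P I, (x : G ⧸ P J) = q ∧ x⁻¹ * (y⁻¹ * g * y) * x ∈ P J} : ℤ) := by
    apply Finset.sum_congr rfl
    intro J _
    rw [fix_conj h I J hy g]
  rw [e1, alt_sum h.toSys I (h.UB hyu)]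
  by_cases hR : g ∈ R I
  · rw [if_pos hR]
    have : y⁻¹ * g * y ∈ R I := by
      have := h.Rn I hI y⁻¹ ((P I).inv_mem hy) g hR
      rwa [inv_inv] at this
    have := h.ct I hI _ hyu this
    exact_mod_cast this
  · rw [if_neg hR]
    have : y⁻¹ * g * y ∉ R I := by
      intro h2
      apply hR
      have := h.Rn I hI y hy _ h2
      have e : y * (y⁻¹ * g * y) * y⁻¹ = g := by group
      rwa [e] at this
    rw [h.ct' I hI _ hyu this]
    simp

/-- the summed version -/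
theorem alt_count (I : Finset ℕ) (hI : I ⊆ S) :
    ∑ J ∈ I.powerset, (-1 : ℤ) ^ J.card *
      ((Nat.card {q : G ⧸ P J // ∃ x ∈ P I, (x : G ⧸ P J) = q} : ℤ) *
        Nat.card {g : G // g ∈ P J ∧ ∃ k : ℕ, orderOf g = p ^ k}) = Nat.card U := by
  classical
  have : Fintype G := Fintype.ofFinite G
  have hQ : ∀ (x g : G), (∃ k : ℕ, orderOf g = p ^ k) → ∃ k : ℕ, orderOf (x⁻¹ * g * x) = p ^ k := by
    rintro x g ⟨k, hk⟩
    refine ⟨k, ?_⟩
    rw [← hk]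
    have := orderOf_injective (MulAut.conj x⁻¹).toMonoidHom (MulAut.conj x⁻¹).injective g
    simpa using this
  have hRpos : (Nat.card (R I) : ℤ) ≠ 0 := by exact_mod_cast Nat.card_pos.ne'
  apply mul_right_cancel₀ hRpos
  let Z : Finset G := Finset.univ.filter (fun g => g ∈ P I ∧ ∃ k : ℕ, orderOf g = p ^ k)
  have hcard : ∀ (α : Type _) [Fintype α] (q : α → Prop), (Nat.card {a : α // q a}) = (Finset.univ.filter q).card := by
    intro α _ q
    rw [Nat.card_eq_fintype_card, Fintype.card_subtype]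
  have e1 : ∀ J ∈ I.powerset, ((Nat.card {q : G ⧸ P J // ∃ x ∈ P I, (x : G ⧸ P J) = q} : ℤ) *
        Nat.card {g : G // g ∈ P J ∧ ∃ k : ℕ, orderOf g = p ^ k}) =
        ∑ g ∈ Z, (Nat.card {q : G ⧸ P J // ∃ x ∈ P I, (x : G ⧸ P J) = q ∧ x⁻¹ * g * x ∈ P J} : ℤ) := by
    intro J hJ
    rw [Finset.mem_powerset] at hJ
    have := sum_fix (P I) (P J) (h.mono hJ) (fun g => ∃ k : ℕ, orderOf g = p ^ k) hQ
    rw [← Nat.cast_mul, ← this]
    have : Fintype (G ⧸ P J) := Fintype.ofFinite _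
    have e2 : Nat.card {z : G × (G ⧸ P J) // z.1 ∈ P I ∧ (∃ k : ℕ, orderOf z.1 = p ^ k) ∧ ∃ x ∈ P I, (x : G ⧸ P J) = z.2 ∧ x⁻¹ * z.1 * x ∈ P J}
        = ∑ g ∈ Z, Nat.card {q : G ⧸ P J // ∃ x ∈ P I, (x : G ⧸ P J) = q ∧ x⁻¹ * g * x ∈ P J} := by
      rw [← Finset.sum_coe_sort Z, ← Nat.card_sigma]
      apply Nat.card_congr
      refine
        { toFun := fun z => ⟨⟨z.1.1, by simp only [Z, Finset.mem_filter, Finset.mem_univ, true_and]; exact ⟨z.2.1, z.2.2.1⟩⟩,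
            ⟨z.1.2, z.2.2.2⟩⟩
          invFun := fun z => ⟨(z.1.1, z.2.1), by
            have := z.1.2
            simp only [Z, Finset.mem_filter, Finset.mem_univ, true_and] at this
            exact ⟨this.1, this.2, z.2.2⟩⟩
          left_inv := fun z => rfl
          right_inv := fun z => rfl }
    rw [e2]
    push_cast
    rfl
  rw [Finset.sum_congr rfl (fun J hJ => by rw [e1 J hJ]), Finset.sum_congr rfl (fun J _ => Finset.mul_sum _ _ _),
    Finset.sum_comm, Finset.sum_mul]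
  rw [Finset.sum_congr rfl (g := fun g => if g ∈ R I then (Nat.card U : ℤ) else 0) (fun g hg => by
    simp only [Z, Finset.mem_filter, Finset.mem_univ, true_and] at hg
    exact alt_val h I hI hg.1 hg.2)]
  rw [← Finset.sum_filter, Finset.sum_const, nsmul_eq_mul, mul_comm]
  congr 2
  have : Z.filter (fun g => g ∈ R I) = Finset.univ.filter (fun g => g ∈ R I) := by
    ext g
    simp only [Z, Finset.mem_filter, Finset.mem_univ, true_and]
    constructor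
    · exact fun h => h.2
    · intro hg
      exact ⟨⟨h.BP I (h.UB (h.RU I hI hg)), h.Up g (h.RU I hI hg)⟩, hg⟩
  rw [this, ← hcard]

theorem card_cosets (I J : Finset ℕ) (hJI : J ⊆ I) :
    Nat.card {q : G ⧸ P J // ∃ x ∈ P I, (x : G ⧸ P J) = q} * Nat.card (G ⧸ P I) = Nat.card (G ⧸ P J) := by
  have e := sum_fix (P I) (P J) (h.mono hJI) (fun g => g = 1) (by rintro x g rfl; simp)
  have e0 : Nat.card {q : G ⧸ P J // ∃ x ∈ P I, (x : G ⧸ P J) = q} * Nat.card (P J) = Nat.card (P I) := by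
    rw [← Nat.card_prod]
    have hch : ∀ q : {q : G ⧸ P J // ∃ x ∈ P I, (x : G ⧸ P J) = q}, ∃ x ∈ P I, (x : G ⧸ P J) = q.1 := fun q => q.2
    choose r hr1 hr2 using hch
    apply Nat.card_congr
    refine
      { toFun := fun z => ⟨r z.1 * z.2.1, (P I).mul_mem (hr1 _) (h.mono hJI z.2.2)⟩
        invFun := fun x => ⟨⟨(x.1 : G ⧸ P J), x.1, x.2, rfl⟩, ⟨(r ⟨(x.1 : G ⧸ P J), x.1, x.2, rfl⟩)⁻¹ * x.1, ?_⟩⟩
        left_inv := ?_
        right_inv := ?_ }
    · rw [← QuotientGroup.eq]; exact hr2 _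
    · rintro ⟨⟨q, x, hx, rfl⟩, ⟨g, hg⟩⟩
      have e1 : ((r ⟨(x : G ⧸ P J), x, hx, rfl⟩ * g : G) : G ⧸ P J) = (x : G ⧸ P J) := by
        rw [QuotientGroup.mk_mul_of_mem _ hg]; exact hr2 _
      have e2 : (⟨((r ⟨(x : G ⧸ P J), x, hx, rfl⟩ * g : G) : G ⧸ P J), r ⟨(x : G ⧸ P J), x, hx, rfl⟩ * g,
          (P I).mul_mem (hr1 _) (h.mono hJI hg), rfl⟩ : {q : G ⧸ P J // ∃ x ∈ P I, (x : G ⧸ P J) = q}) = ⟨(x : G ⧸ P J), x, hx, rfl⟩ :=
        Subtype.ext e1
      apply Prod.ext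
      · exact e2
      · apply Subtype.ext
        show (r _)⁻¹ * _ = _
        rw [e2]; group
    · rintro ⟨x, hx⟩
      apply Subtype.ext
      show r _ * ((r _)⁻¹ * x) = x
      group
  have h1 := (P I).card_mul_index
  have h2 := (P J).card_mul_index
  rw [Subgroup.index_eq_card] at h1 h2
  have hpos : 0 < Nat.card (P J) := Nat.card_pos
  apply Nat.eq_of_mul_eq_mul_left hpos
  rw [h2, ← h1, ← e0]; ring

theorem alt_count' (I : Finset ℕ) (hI : I ⊆ S) :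
    ∑ J ∈ I.powerset, (-1 : ℤ) ^ J.card *
      ((Nat.card (G ⧸ P J) : ℤ) * Nat.card {g : G // g ∈ P J ∧ ∃ k : ℕ, orderOf g = p ^ k}) =
      Nat.card U * Nat.card (G ⧸ P I) := by
  have := alt_count h I hI
  rw [← this, Finset.sum_mul]
  apply Finset.sum_congr rfl
  intro J hJ
  rw [Finset.mem_powerset] at hJ
  rw [← card_cosets h I J hJ]
  push_cast
  ring

/-- Steinberg's degree -/
theorem degree : ∑ J ∈ S.powerset, (-1 : ℤ) ^ J.card * (Nat.card (G ⧸ P J) : ℤ) = Nat.card U := by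
  have h1 := alt_val h S subset_rfl (g := 1) (P S).one_mem ⟨0, by simp⟩
  rw [if_pos (R S).one_mem, h.RS] at h1
  simp only [Subgroup.card_bot, Nat.cast_one, mul_one] at h1
  rw [← h1]
  apply Finset.sum_congr rfl
  intro J hJ
  congr 2
  have hS := h.PS
  apply Nat.card_congr
  refine (Equiv.subtypeUnivEquiv ?_).symm
  intro q
  obtain ⟨x, rfl⟩ := QuotientGroup.mk_surjective q
  exact ⟨x, by rw [hS]; trivial, rfl, by rw [inv_mul_cancel]; exact (P J).one_mem⟩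

/-- Steinberg's count -/
theorem main : Nat.card {g : G // ∃ k : ℕ, orderOf g = p ^ k} = Nat.card U ^ 2 := by
  classical
  -- Moebius inversion: sum over I of (-1)^|I| * alt_count' I
  have h1 : ∑ I ∈ S.powerset, (-1 : ℤ) ^ I.card * (∑ J ∈ I.powerset, (-1 : ℤ) ^ J.card *
      ((Nat.card (G ⧸ P J) : ℤ) * Nat.card {g : G // g ∈ P J ∧ ∃ k : ℕ, orderOf g = p ^ k})) =
      ∑ I ∈ S.powerset, (-1 : ℤ) ^ I.card * (Nat.card U * Nat.card (G ⧸ P I)) := by
    apply Finset.sum_congr rfl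
    intro I hI
    rw [Finset.mem_powerset] at hI
    rw [alt_count' h I hI]
  have h2 : ∑ I ∈ S.powerset, (-1 : ℤ) ^ I.card * ((Nat.card U : ℤ) * Nat.card (G ⧸ P I)) = (Nat.card U : ℤ) ^ 2 := by
    rw [pow_two]
    conv_rhs => rw [← degree h, Finset.sum_mul]
    apply Finset.sum_congr rfl
    intro J _
    have := degree h
    rw [this]; ring
  rw [h2] at h1
  -- swap
  let a : Finset ℕ → ℤ := fun J => (-1 : ℤ) ^ J.card *
      ((Nat.card (G ⧸ P J) : ℤ) * Nat.card {g : G // g ∈ P J ∧ ∃ k : ℕ, orderOf g = p ^ k})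
  have h3 : ∑ I ∈ S.powerset, (-1 : ℤ) ^ I.card * (∑ J ∈ I.powerset, a J) =
      ∑ J ∈ S.powerset, a J * ∑ I ∈ S.powerset.filter (fun I => J ⊆ I), (-1 : ℤ) ^ I.card := by
    have e1 : ∀ I ∈ S.powerset, (-1 : ℤ) ^ I.card * (∑ J ∈ I.powerset, a J) =
        ∑ J ∈ S.powerset, if J ⊆ I then (-1 : ℤ) ^ I.card * a J else 0 := by
      intro I hI
      rw [Finset.mem_powerset] at hI
      rw [← Finset.sum_filter, Finset.mul_sum]
      apply Finset.sum_congr _ (fun _ _ => rfl)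
      ext J
      rw [Finset.mem_filter, Finset.mem_powerset, Finset.mem_powerset]
      exact ⟨fun h => ⟨h.trans hI, h⟩, fun h => h.2⟩
    rw [Finset.sum_congr rfl e1, Finset.sum_comm]
    apply Finset.sum_congr rfl
    intro J _
    rw [Finset.mul_sum, Finset.sum_filter]
    apply Finset.sum_congr rfl
    intro I _
    split_ifs
    · ring
    · rfl
  have h4 : ∀ J ∈ S.powerset, a J * ∑ I ∈ S.powerset.filter (fun I => J ⊆ I), (-1 : ℤ) ^ I.card =
      if J = S then (-1 : ℤ) ^ S.card * a S else 0 := by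
    intro J hJ
    rw [Finset.mem_powerset] at hJ
    have e1 : ∑ I ∈ S.powerset.filter (fun I => J ⊆ I), (-1 : ℤ) ^ I.card =
        ∑ K ∈ (S \ J).powerset, (-1 : ℤ) ^ J.card * (-1 : ℤ) ^ K.card := by
      symm
      apply Finset.sum_bij (fun K _ => J ∪ K)
      · intro K hK
        rw [Finset.mem_powerset] at hK
        rw [Finset.mem_filter, Finset.mem_powerset]
        exact ⟨Finset.union_subset hJ (hK.trans Finset.sdiff_subset), Finset.subset_union_left⟩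
      · intro K hK K' hK' e
        rw [Finset.mem_powerset] at hK hK'
        have d1 : Disjoint J K := Finset.disjoint_of_subset_right hK Finset.disjoint_sdiff
        have d2 : Disjoint J K' := Finset.disjoint_of_subset_right hK' Finset.disjoint_sdiff
        have a1 := Finset.union_sdiff_cancel_left d1
        have a2 := Finset.union_sdiff_cancel_left d2
        rw [← a1, ← a2, e]
      · intro I hI
        rw [Finset.mem_filter, Finset.mem_powerset] at hI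
        exact ⟨I \ J, Finset.mem_powerset.2 (Finset.sdiff_subset_sdiff hI.1 subset_rfl), Finset.union_sdiff_of_subset hI.2⟩
      · intro K hK
        rw [Finset.mem_powerset] at hK
        have d1 : Disjoint J K := Finset.disjoint_of_subset_right hK Finset.disjoint_sdiff
        rw [Finset.card_union_of_disjoint d1, pow_add]
    rw [e1, ← Finset.mul_sum, Finset.sum_powerset_neg_one_pow_card]
    by_cases hJS : J = S
    · subst hJS
      rw [if_pos rfl, if_pos (Finset.sdiff_self _)]; ring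
    · rw [if_neg hJS, if_neg]
      · ring
      · rw [Finset.sdiff_eq_empty_iff_subset]
        intro hh; exact hJS (Finset.Subset.antisymm hJ hh)
  change ∑ I ∈ S.powerset, (-1 : ℤ) ^ I.card * (∑ J ∈ I.powerset, a J) = _ at h1
  rw [h3, Finset.sum_congr rfl h4, Finset.sum_ite_eq' S.powerset S, if_pos (Finset.mem_powerset_self S)] at h1
  have h5 : a S = (-1 : ℤ) ^ S.card * (Nat.card {g : G // ∃ k : ℕ, orderOf g = p ^ k} : ℤ) := by
    show (-1 : ℤ) ^ S.card * ((Nat.card (G ⧸ P S) : ℤ) * Nat.card {g : G // g ∈ P S ∧ ∃ k : ℕ, orderOf g = p ^ k}) = _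
    have e1 : Nat.card (G ⧸ P S) = 1 := by
      rw [← Subgroup.index_eq_card, h.PS, Subgroup.index_top]
    rw [e1, Nat.cast_one, one_mul]
    congr 2
    apply Nat.card_congr
    apply Equiv.subtypeEquivRight
    intro g
    rw [h.PS]; simp
  rw [h5, ← mul_assoc, ← pow_add, ← two_mul, pow_mul, neg_one_sq, one_pow, one_mul] at h1
  exact_mod_cast h1

end CfsgLib.AltSum
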