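import Cfsg.Prelude
import Mathlib

set_option autoImplicit false

/-! Automorphisms of the alternating groups. -/

namespace CfsgLib.AutAn27

open Equiv Equiv.Perm

variable {X : Type*} [Fintype X] [DecidableEq X]

/-- the three-cycle `a → b → c → a` -/
def T (a b c : X) : Perm X := swap a b * swap b c

theorem T_isThree {a b c : X} (ab : a ≠ b) (ac : a ≠ c) (bc : b ≠ c) : IsThreeCycle (T a b c) := by
  have h : T a b c = swap b a * swap b c := by unfold T; rw [swap_comm a b]
  rw [h]
  exact isThreeCycle_swap_mul_swap_same ab.symm bc ac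

theorem T_a {a b c : X} (ab : a ≠ b) (ac : a ≠ c) : T a b c a = b := by
  show swap a b (swap b c a) = b
  rw [swap_apply_of_ne_of_ne ab ac, swap_apply_left]

theorem T_b {a b c : X} (ac : a ≠ c) (bc : b ≠ c) : T a b c b = c := by
  show swap a b (swap b c b) = c
  rw [swap_apply_left, swap_apply_of_ne_of_ne ac.symm bc.symm]

theorem T_c {a b c : X} : T a b c c = a := by
  show swap a b (swap b c c) = a
  rw [swap_apply_right, swap_apply_right]

theorem T_else {a b c x : X} (h1 : x ≠ a) (h2 : x ≠ b) (h3 : x ≠ c) : T a b c x = x := by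
  show swap a b (swap b c x) = x
  rw [swap_apply_of_ne_of_ne h2 h3, swap_apply_of_ne_of_ne h1 h2]

theorem T_conj (h : Perm X) (a b c : X) : h * T a b c * h⁻¹ = T (h a) (h b) (h c) := by
  unfold T
  rw [swap_apply_apply, swap_apply_apply]
  group

theorem T_inv {a b c : X} (ab : a ≠ b) (ac : a ≠ c) (bc : b ≠ c) : (T a b c)⁻¹ = T b a c := by
  rw [inv_eq_iff_mul_eq_one]
  apply Equiv.ext
  intro x
  rw [Perm.mul_apply, Perm.one_apply]
  by_cases h1 : x = a
  · subst h1; rw [T_b bc ac, T_c]
  by_cases h2 : x = b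
  · subst h2; rw [T_a ab.symm bc, T_a ab ac]
  by_cases h3 : x = c
  · subst h3; rw [T_c, T_b ac bc]
  rw [T_else h2 h1 h3, T_else h1 h2 h3]

theorem T_rot {a b c : X} (ab : a ≠ b) (ac : a ≠ c) (bc : b ≠ c) : T a b c = T b c a := by
  apply Equiv.ext
  intro x
  by_cases h1 : x = a
  · subst h1; rw [T_a ab ac, T_c]
  by_cases h2 : x = b
  · subst h2; rw [T_b ac bc, T_a bc ab.symm]
  by_cases h3 : x = c
  · subst h3; rw [T_c, T_b ab.symm ac.symm]
  rw [T_else h2 h3 h1, T_else h1 h2 h3]

theorem three_rep {g : Perm X} (hg : IsThreeCycle g) {a : X} (ha : g a ≠ a) :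
    g = T a (g a) (g (g a)) ∧ a ≠ g a ∧ a ≠ g (g a) ∧ g a ≠ g (g a) ∧ g (g (g a)) = a := by
  have hs : a ∈ g.support := mem_support.2 ha
  have h1 := hg.eq_swap_mul_swap_iff_mem_support.2 hs
  have h2 := hg.nodup_iff_mem_support.2 hs
  simp only [List.nodup_cons, List.mem_cons, List.not_mem_nil, or_false, not_or, List.nodup_nil, and_true, not_false_eq_true] at h2
  obtain ⟨⟨h3, h4⟩, h5⟩ := h2
  refine ⟨h1, h3, h4, h5, ?_⟩
  have h6 : T a (g a) (g (g a)) (g (g a)) = a := T_c
  rw [← show g = T a (g a) (g (g a)) from h1] at h6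
  exact h6

/-- two three-cycles whose product is an involution share an arc -/
theorem arc {s t : Perm X} (hs : IsThreeCycle s) (ht : IsThreeCycle t) (h : (s * t) ^ 2 = 1) (h1 : s * t ≠ 1) :
    ∃ a, s a ≠ a ∧ t a = s a ∧ t (s (s a)) = s (s a) := by
  have hst : ∀ x, s (t (s (t x))) = x := fun x => by
    have := congrArg (fun g : Perm X => g x) h
    rw [pow_two] at this
    exact this
  suffices hc : ∃ c, s c ≠ c ∧ t c = c by
    obtain ⟨c, hc1, hc2⟩ := hc
    obtain ⟨-, h2, h3, h4, h5⟩ := three_rep hs hc1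
    refine ⟨s c, fun h => hc1 (s.injective h), ?_, ?_⟩
    · have h6 := hst c
      rw [hc2] at h6
      apply s.injective
      rw [h6, h5]
    · rw [h5, hc2]
  by_contra hcon
  push Not at hcon
  obtain ⟨a, ha⟩ : ∃ a, s a ≠ a := by
    by_contra hne
    push Not at hne
    exact hs.ne_one (Equiv.ext hne)
  obtain ⟨hT, hab, hac, hbc, hca⟩ := three_rep hs ha
  obtain ⟨b, hb⟩ : ∃ b, b = s a := ⟨_, rfl⟩
  obtain ⟨c, hc⟩ : ∃ c, c = s (s a) := ⟨_, rfl⟩
  rw [← hc] at hT hac hbc hca
  rw [← hb] at hT hab hbc hc ha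
  have hta := hcon a (by rw [← hb]; exact ha)
  have htb := hcon b (by rw [← hc]; exact hbc.symm)
  have htc := hcon c (by rw [hca]; exact hac)
  -- supports agree
  have hsub : s.support ⊆ t.support := by
    intro x hx
    rw [mem_support] at hx ⊢
    exact hcon x hx
  have hsup : s.support = t.support := Finset.eq_of_subset_of_card_le hsub (by rw [hs.card_support, ht.card_support])
  have hmem : ∀ x, t x ≠ x → x = a ∨ x = b ∨ x = c := by
    intro x hx
    by_contra hne
    push Not at hne
    have h2 : x ∈ s.support := by rw [hsup]; exact mem_support.2 hx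
    apply mem_support.1 h2
    rw [hT]
    exact T_else hne.1 hne.2.1 hne.2.2
  have hta' := hmem (t a) (fun h => hta (t.injective h))
  have htb' := hmem (t b) (fun h => htb (t.injective h))
  have htc' := hmem (t c) (fun h => htc (t.injective h))
  rcases hta' with h2 | h2 | h2
  · exact hta h2
  · -- `t a = b`
    have h3 := hst a
    rw [h2, ← hc] at h3
    rcases htc' with h4 | h4 | h4
    · rw [h4, ← hb] at h3
      exact hab h3.symm
    · exact hac (t.injective (h2.trans h4.symm))
    · exact htc h4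
  · -- `t a = c`
    apply h1
    have h3 : t b = a := by
      rcases htb' with h4 | h4 | h4
      · exact h4
      · exact absurd h4 htb
      · exact absurd (t.injective (h2.trans h4.symm)) hab
    have h4 : t c = b := by
      rcases htc' with h4 | h4 | h4
      · exact absurd (t.injective (h3.trans h4.symm)) hbc
      · exact h4
      · exact absurd h4 htc
    apply Equiv.ext
    intro x
    rw [Perm.mul_apply, Perm.one_apply]
    by_cases hx : t x = x
    · rw [hx]
      by_contra hsx
      exact hcon x hsx hx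
    · rcases hmem x hx with rfl | rfl | rfl
      · rw [h2, hca]
      · rw [h3, hb]
      · rw [h4, hc]

/-- generation by the three-cycles through two points -/
theorem gen {o u : X} (hou : o ≠ u) (H : Subgroup (Perm X)) (hH : ∀ i, i ≠ o → i ≠ u → T o u i ∈ H) : alternatingGroup X ≤ H := by
  rw [← closure_three_cycles_eq_alternating, Subgroup.closure_le]
  have F2 : ∀ i j, i ≠ j → i ≠ o → i ≠ u → j ≠ o → j ≠ u → T u j i ∈ H := by
    intro i j hij hio hiu hjo hju
    have h1 := H.mul_mem (H.mul_mem (hH j hjo hju) (hH i hio hiu)) (H.inv_mem (hH j hjo hju))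
    rw [T_conj, T_a hou hjo.symm, T_b hjo.symm hju.symm, T_else hio hiu hij] at h1
    exact h1
  have F3 : ∀ i j, i ≠ j → i ≠ o → i ≠ u → j ≠ o → j ≠ u → T j o i ∈ H := by
    intro i j hij hio hiu hjo hju
    have h1 := H.mul_mem (H.mul_mem (H.inv_mem (hH j hjo hju)) (hH i hio hiu)) (H.inv_mem (H.inv_mem (hH j hjo hju)))
    rw [T_conj, T_inv hou hjo.symm hju.symm, T_b hju.symm hjo.symm, T_a hou.symm hju.symm, T_else hiu hio hij] at h1
    exact h1
  intro g hg
  have hg : IsThreeCycle g := hg
  by_cases h0 : g o = o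
  · by_cases h1 : g u = u
    · obtain ⟨a, ha⟩ : ∃ a, g a ≠ a := by
        by_contra hne
        push Not at hne
        exact hg.ne_one (Equiv.ext hne)
      obtain ⟨hT, hab, hac, hbc, hca⟩ := three_rep hg ha
      have hfix : ∀ x, g x ≠ x → x ≠ o ∧ x ≠ u := fun x hx => ⟨fun h => hx (by rw [h, h0]), fun h => hx (by rw [h, h1])⟩
      have ha' := hfix a ha
      have hb' := hfix (g a) (fun h => ha (g.injective h))
      have hc' := hfix (g (g a)) (fun h => ha (g.injective (g.injective h)))
      have h2 := F2 (g (g a)) (g a) hbc.symm hc'.1 hc'.2 hb'.1 hb'.2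
      have h3 := H.mul_mem (H.mul_mem (hH a ha'.1 ha'.2) h2) (H.inv_mem (hH a ha'.1 ha'.2))
      rw [T_conj, T_b ha'.1.symm ha'.2.symm, T_else hb'.1 hb'.2 hab.symm, T_else hc'.1 hc'.2 hac.symm] at h3
      rw [hT]
      exact h3
    · obtain ⟨hT, hab, hac, hbc, hca⟩ := three_rep hg h1
      have hfix : ∀ x, g x ≠ x → x ≠ o := fun x hx h => hx (by rw [h, h0])
      rw [hT]
      exact F2 _ _ hbc.symm (hfix _ (fun h => h1 (g.injective (g.injective h)))) hac.symm (hfix _ (fun h => h1 (g.injective h))) hab.symm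
  · obtain ⟨hT, hab, hac, hbc, hca⟩ := three_rep hg h0
    by_cases h1 : g o = u
    · rw [h1] at hT hac hbc
      rw [hT]
      refine hH _ ?_ ?_
      · rw [← h1]; exact fun h => by rw [h1] at h; exact hac h.symm
      · exact hbc.symm
    · by_cases h2 : g (g o) = u
      · rw [h2] at hT hac hbc
        rw [hT, ← T_rot hou.symm hbc.symm hab, ← T_inv hou hab hbc.symm]
        exact H.inv_mem (hH _ hab.symm hbc)
      · rw [hT, T_rot hab hac hbc, T_rot hbc hab.symm hac.symm]
        exact F3 _ _ hbc hab.symm h1 hac.symm h2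

/-- an automorphism preserving the three-cycles is induced by a permutation -/
theorem induced {o u v w : X} (hou : o ≠ u) (hvo : v ≠ o) (hvu : v ≠ u) (hwo : w ≠ o) (hwu : w ≠ u) (hvw : v ≠ w)
    (α : MulAut (alternatingGroup X)) (hα : ∀ g : alternatingGroup X, IsThreeCycle (g : Perm X) → IsThreeCycle (α g : Perm X)) :
    ∃ σ : Perm X, α = MulAut.conjNormal σ := by
  classical
  have hmem : ∀ i, i ≠ o → i ≠ u → T o u i ∈ alternatingGroup X := fun i h1 h2 => (T_isThree hou h1.symm h2.symm).mem_alternatingGroup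
  let g : X → alternatingGroup X := fun i => if h : i ≠ o ∧ i ≠ u then ⟨T o u i, hmem i h.1 h.2⟩ else 1
  have hg : ∀ i (h1 : i ≠ o) (h2 : i ≠ u), g i = ⟨T o u i, hmem i h1 h2⟩ := fun i h1 h2 => dif_pos ⟨h1, h2⟩
  let s : X → Perm X := fun i => (α (g i) : Perm X)
  have hs3 : ∀ i, i ≠ o → i ≠ u → IsThreeCycle (s i) := by
    intro i h1 h2
    apply hα
    rw [hg i h1 h2]
    exact T_isThree hou h1.symm h2.symm
  have hrel : ∀ i j, i ≠ o → i ≠ u → j ≠ o → j ≠ u → i ≠ j → (s i * s j) ^ 2 = 1 ∧ s i * s j ≠ 1 := by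
    intro i j hi1 hi2 hj1 hj2 hij
    have h1 : (g i * g j) ^ 2 = 1 := by
      rw [hg i hi1 hi2, hg j hj1 hj2]
      apply Subtype.ext
      show (T o u i * T o u j) ^ 2 = 1
      have e1 : T o u i * T o u j = swap o i * swap u j := by
        apply Equiv.ext
        intro x
        rw [Perm.mul_apply, Perm.mul_apply]
        by_cases hxo : x = o
        · subst hxo
          rw [T_a hou hj1.symm, T_b hi1.symm hi2.symm, swap_apply_of_ne_of_ne hou hj1.symm, swap_apply_left]
        by_cases hxu : x = u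
        · subst hxu
          rw [T_b hj1.symm hj2.symm, T_else hj1 hj2 hij.symm, swap_apply_left, swap_apply_of_ne_of_ne hj1 hij.symm]
        by_cases hxj : x = j
        · subst hxj
          rw [T_c, T_a hou hi1.symm, swap_apply_right, swap_apply_of_ne_of_ne hou.symm hi2.symm]
        rw [T_else hxo hxu hxj, swap_apply_of_ne_of_ne hxu hxj]
        by_cases hxi : x = i
        · subst hxi
          rw [T_c, swap_apply_right]
        rw [T_else hxo hxu hxi, swap_apply_of_ne_of_ne hxo hxi]
      have hd : Disjoint (swap o i) (swap u j) := by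
        rw [disjoint_iff_disjoint_support, support_swap hi1.symm, support_swap hj2.symm]
        simp only [Finset.disjoint_insert_left, Finset.mem_insert, Finset.mem_singleton, Finset.disjoint_singleton_left]
        push Not
        exact ⟨⟨hou, hj1.symm⟩, hi2, hij⟩
      rw [e1, hd.commute.mul_pow, pow_two, pow_two, swap_mul_self, swap_mul_self, one_mul]
    have h2 : g i * g j ≠ 1 := by
      rw [hg i hi1 hi2, hg j hj1 hj2]
      intro h
      have h3 := congrArg (fun z : alternatingGroup X => (z : Perm X) o) h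
      have h4 : T o u i (T o u j o) = o := h3
      rw [T_a hou hj1.symm, T_b hi1.symm hi2.symm] at h4
      exact hi1 h4
    constructor
    · have h3 := congrArg α h1
      rw [map_pow, map_mul, map_one] at h3
      exact congrArg Subtype.val h3
    · intro h
      apply h2
      apply α.injective
      rw [map_mul, map_one]
      exact Subtype.ext h
  obtain ⟨r1, r2⟩ := hrel v w hvo hvu hwo hwu hvw
  obtain ⟨a, ha, hwa, hwc⟩ := arc (hs3 v hvo hvu) (hs3 w hwo hwu) r1 r2
  obtain ⟨hTv, hab, hac, hbc, hca⟩ := three_rep (hs3 v hvo hvu) ha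
  obtain ⟨b, hb⟩ : ∃ b, b = s v a := ⟨_, rfl⟩
  obtain ⟨c, hc⟩ : ∃ c, c = s v b := ⟨_, rfl⟩
  rw [← hb, ← hc] at hwc hac hbc hca
  rw [← hb] at hab hwa ha
  have hwa' : s w a ≠ a := by rw [hwa]; exact ha
  obtain ⟨hTw, -, had, hbd, hda⟩ := three_rep (hs3 w hwo hwu) hwa'
  rw [hwa] at had hbd hda
  obtain ⟨d, hd⟩ : ∃ d, d = s w b := ⟨_, rfl⟩
  rw [← hd] at had hbd hda
  have hcd : c ≠ d := by
    intro h
    rw [h] at hwc
    rw [hwc] at hda
    exact had hda.symm
  have hvelse : ∀ x, x ≠ a → x ≠ b → x ≠ c → s v x = x := by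
    intro x h1 h2 h3
    rw [hTv, ← hb, ← hc]
    exact T_else h1 h2 h3
  have hwelse : ∀ x, x ≠ a → x ≠ b → x ≠ d → s w x = x := by
    intro x h1 h2 h3
    rw [hTw, hwa, ← hd]
    exact T_else h1 h2 h3
  -- all arcs agree
  have hall : ∀ i, i ≠ o → i ≠ u → s i a = b := by
    intro i hi1 hi2
    by_cases hiv : i = v
    · rw [hiv]; exact hb.symm
    by_cases hiw : i = w
    · rw [hiw]; exact hwa
    obtain ⟨q1, q2⟩ := hrel v i hvo hvu hi1 hi2 (Ne.symm hiv)
    obtain ⟨x, hx, hix, hix2⟩ := arc (hs3 v hvo hvu) (hs3 i hi1 hi2) q1 q2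
    obtain ⟨p1, p2⟩ := hrel w i hwo hwu hi1 hi2 (Ne.symm hiw)
    obtain ⟨y, hy, hiy, hiy2⟩ := arc (hs3 w hwo hwu) (hs3 i hi1 hi2) p1 p2
    have hx' : x = a ∨ x = b ∨ x = c := by
      by_contra hne
      push Not at hne
      exact hx (hvelse x hne.1 hne.2.1 hne.2.2)
    have hy' : y = a ∨ y = b ∨ y = d := by
      by_contra hne
      push Not at hne
      exact hy (hwelse y hne.1 hne.2.1 hne.2.2)
    rcases hx' with h | h | h
    · rw [h, ← hb] at hix; exact hix
    · rw [h, ← hc] at hix hix2
      rw [hca] at hix2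
      rcases hy' with h' | h' | h'
      · rw [h', hwa] at hiy; exact hiy
      · rw [h', ← hd] at hiy
        exact absurd (hix.symm.trans hiy) hcd
      · rw [h', hda] at hiy hiy2
        rw [hwa] at hiy2
        exact absurd (hix.symm.trans hiy2) hbc.symm
    · rw [h, hca] at hix hix2
      rw [← hb] at hix2
      rcases hy' with h' | h' | h'
      · rw [h', hwa] at hiy; exact hiy
      · rw [h', ← hd] at hiy
        exact absurd (hix2.symm.trans hiy) hbd
      · rw [h', hda] at hiy
        exact absurd ((s i).injective (hix.trans hiy.symm)) hcd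
  have hrep : ∀ i, i ≠ o → i ≠ u → s i = T a b (s i b) ∧ a ≠ s i b ∧ b ≠ s i b := by
    intro i h1 h2
    have h3 := hall i h1 h2
    obtain ⟨h4, h5, h6, h7, h8⟩ := three_rep (hs3 i h1 h2) (a := a) (by rw [h3]; exact ha)
    rw [h3] at h4 h6 h7
    exact ⟨h4, h6, h7⟩
  let f : X → X := fun i => if i = o then a else if i = u then b else s i b
  have fo : f o = a := if_pos rfl
  have fu : f u = b := by show (if u = o then a else if u = u then b else s u b) = b; rw [if_neg hou.symm, if_pos rfl]
  have fi : ∀ i, i ≠ o → i ≠ u → f i = s i b := fun i h1 h2 => by show (if i = o then a else if i = u then b else s i b) = s i b; rw [if_neg h1, if_neg h2]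
  have hfinj : Function.Injective f := by
    intro i j hij
    by_cases hio : i = o
    · by_cases hjo : j = o
      · rw [hio, hjo]
      by_cases hju : j = u
      · rw [hio, hju, fo, fu] at hij; exact absurd hij hab
      · rw [hio, fo, fi j hjo hju] at hij; exact absurd hij (hrep j hjo hju).2.1
    by_cases hiu : i = u
    · by_cases hjo : j = o
      · rw [hiu, hjo, fo, fu] at hij; exact absurd hij.symm hab
      by_cases hju : j = u
      · rw [hiu, hju]
      · rw [hiu, fu, fi j hjo hju] at hij; exact absurd hij (hrep j hjo hju).2.2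
    by_cases hjo : j = o
    · rw [hjo, fo, fi i hio hiu] at hij; exact absurd hij.symm (hrep i hio hiu).2.1
    by_cases hju : j = u
    · rw [hju, fu, fi i hio hiu] at hij; exact absurd hij.symm (hrep i hio hiu).2.2
    rw [fi i hio hiu, fi j hjo hju] at hij
    have h1 : s i = s j := by rw [(hrep i hio hiu).1, (hrep j hjo hju).1, hij]
    have h2 : g i = g j := α.injective (Subtype.ext h1)
    rw [hg i hio hiu, hg j hjo hju] at h2
    have h3 : T o u i = T o u j := congrArg Subtype.val h2
    have h4 : T o u i u = T o u j u := by rw [h3]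
    rwa [T_b (Ne.symm hio) (Ne.symm hiu), T_b (Ne.symm hjo) (Ne.symm hju)] at h4
  obtain ⟨σ, hσ⟩ : ∃ σ : Perm X, ∀ x, σ x = f x := ⟨Equiv.ofBijective f (Finite.injective_iff_bijective.1 hfinj), fun x => rfl⟩
  refine ⟨σ, ?_⟩
  -- agreement on generators
  obtain ⟨H, hH⟩ : ∃ H : Subgroup (alternatingGroup X), H = MonoidHom.eqLocus α.toMonoidHom (MulAut.conjNormal σ : MulAut (alternatingGroup X)).toMonoidHom := ⟨_, rfl⟩
  have hge : ∀ i (h1 : i ≠ o) (h2 : i ≠ u), (⟨T o u i, hmem i h1 h2⟩ : alternatingGroup X) ∈ H := by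
    intro i h1 h2
    rw [hH]
    show α ⟨T o u i, hmem i h1 h2⟩ = MulAut.conjNormal σ ⟨T o u i, hmem i h1 h2⟩
    apply Subtype.ext
    rw [MulAut.conjNormal_apply, T_conj, hσ, hσ, hσ, fo, fu, fi i h1 h2, ← hg i h1 h2]
    exact (hrep i h1 h2).1
  have hgen := gen hou (H.map (alternatingGroup X).subtype) (fun i h1 h2 => ⟨_, hge i h1 h2, rfl⟩)
  apply MulEquiv.ext
  intro x
  obtain ⟨y, hy, hyx⟩ := hgen x.2
  have hyx' : y = x := Subtype.ext hyx
  rw [hyx', hH] at hy
  exact hy

theorem conjNormal_inj {n : ℕ} (hn : 4 ≤ n) : Function.Injective (MulAut.conjNormal : Perm (Fin n) →* MulAut (alternatingGroup (Fin n))) := by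
  rw [injective_iff_map_eq_one]
  intro σ hσ
  by_contra hne
  obtain ⟨x, hx⟩ : ∃ x, σ x ≠ x := by
    by_contra h
    push Not at h
    exact hne (Equiv.ext h)
  -- pick two further points
  obtain ⟨y, hy1, hy2⟩ : ∃ y, y ≠ x ∧ y ≠ σ x := by
    by_contra h
    push Not at h
    have h1 : (Finset.univ : Finset (Fin n)) ⊆ {x, σ x} := by
      intro y _
      by_cases hyx : y = x
      · simp [hyx]
      · simp [h y hyx]
    have h2 := Finset.card_le_card h1
    have h3 := Finset.card_le_two (a := x) (b := σ x)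
    rw [Finset.card_univ, Fintype.card_fin] at h2
    omega
  obtain ⟨z, hz1, hz2, hz3⟩ : ∃ z, z ≠ x ∧ z ≠ σ x ∧ z ≠ y := by
    by_contra h
    push Not at h
    have h1 : (Finset.univ : Finset (Fin n)) ⊆ {x, σ x, y} := by
      intro z _
      by_cases hzx : z = x
      · simp [hzx]
      · by_cases hzs : z = σ x
        · simp [hzs]
        · simp [h z hzx hzs]
    have h2 := Finset.card_le_card h1
    have h3 := Finset.card_le_three (a := x) (b := σ x) (c := y)
    rw [Finset.card_univ, Fintype.card_fin] at h2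
    omega
  have hmem : T x y z ∈ alternatingGroup (Fin n) := (T_isThree hy1.symm hz1.symm hz3.symm).mem_alternatingGroup
  have h1 := congrArg (fun φ : MulAut (alternatingGroup (Fin n)) => (φ ⟨T x y z, hmem⟩ : Perm (Fin n))) hσ
  have h2 : σ * T x y z * σ⁻¹ = T x y z := by
    have := h1
    rw [MulAut.conjNormal_apply] at this
    exact this
  have h3 := congrArg (fun φ : Perm (Fin n) => φ (σ x)) h2
  have h4 : σ (T x y z (σ⁻¹ (σ x))) = T x y z (σ x) := h3
  have e : σ⁻¹ (σ x) = x := σ.symm_apply_apply x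
  rw [e, T_a hy1.symm hz1.symm, T_else hx hy2.symm hz2.symm] at h4
  exact hy1 (σ.injective h4)

/-! ### centralizers -/

/-- order of the centralizer in the alternating group -/
noncomputable def N (g : alternatingGroup X) : ℕ := Nat.card {y : alternatingGroup X // y * g = g * y}

theorem N_map (α : MulAut (alternatingGroup X)) (g : alternatingGroup X) : N (α g) = N g := by
  refine (Nat.card_congr (Equiv.subtypeEquiv α.toEquiv fun a => ?_)).symm
  show a * g = g * a ↔ α a * α g = α g * α a
  rw [← map_mul, ← map_mul]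
  exact α.injective.eq_iff.symm

theorem N_le (g : alternatingGroup X) : N g ≤ Nat.card (Subgroup.centralizer {(g : Perm X)}) := by
  refine Nat.card_le_card_of_injective (fun y : {y : alternatingGroup X // y * g = g * y} => (⟨(y.1 : Perm X), ?_⟩ : Subgroup.centralizer {(g : Perm X)})) ?_
  · rw [Subgroup.mem_centralizer_singleton_iff]
    exact congrArg Subtype.val y.2
  · intro a b h
    have h' : ((a.1 : alternatingGroup X) : Perm X) = b.1 := by
      have := congrArg Subtype.val h
      exact this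
    exact Subtype.ext (Subtype.ext h')

theorem le_N [Nontrivial X] (g : alternatingGroup X) : Nat.card (Subgroup.centralizer {(g : Perm X)}) ≤ 2 * N g := by
  obtain ⟨C, hC⟩ : ∃ C : Subgroup (Perm X), C = Subgroup.centralizer {(g : Perm X)} := ⟨_, rfl⟩
  rw [← hC]
  have h1 := Subgroup.card_mul_index ((alternatingGroup X).subgroupOf C)
  have h2 : ((alternatingGroup X).subgroupOf C).index ≤ 2 := by
    have h3 := Subgroup.relIndex_dvd_index_of_normal (alternatingGroup X) C
    rw [alternatingGroup.index_eq_two] at h3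
    exact Nat.le_of_dvd (by norm_num) h3
  have h3 : Nat.card ((alternatingGroup X).subgroupOf C) ≤ N g := by
    refine Nat.card_le_card_of_injective (fun y : (alternatingGroup X).subgroupOf C => (⟨⟨((y : C) : Perm X), y.2⟩, ?_⟩ : {y : alternatingGroup X // y * g = g * y})) ?_
    · apply Subtype.ext
      have h4 : ((y : C) : Perm X) ∈ Subgroup.centralizer {(g : Perm X)} := by rw [← hC]; exact y.1.2
      exact Subgroup.mem_centralizer_singleton_iff.1 h4
    · intro a b h
      have h' : ((a : C) : Perm X) = ((b : C) : Perm X) := by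
        have := congrArg (fun z : {y : alternatingGroup X // y * g = g * y} => ((z : alternatingGroup X) : Perm X)) h
        exact this
      exact Subtype.ext (Subtype.ext h')
  rw [← h1]
  calc _ ≤ N g * 2 := Nat.mul_le_mul h3 h2
    _ = 2 * N g := mul_comm _ _

theorem fact_ineq {n k : ℕ} (hk : 2 ≤ k) (hn : 3 * k ≤ n) (h6 : n ≠ 6) : 2 * (3 ^ k * k.factorial * (n - 3 * k).factorial) < 3 * (n - 3).factorial := by
  rcases Nat.lt_or_ge 2 k with hk2 | hk2
  · -- `3 ≤ k`
    have h1 : ∀ k, 3 ≤ k → 2 * 3 ^ k * k.factorial < 3 * (3 * k - 3).factorial := by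
      intro k hk
      induction k, hk using Nat.le_induction with
      | base => decide
      | succ k hk ih =>
        obtain ⟨t, ht⟩ : ∃ t, t = 3 * k - 3 := ⟨_, rfl⟩
        have e1 : 3 * (k + 1) - 3 = t + 3 := by omega
        have e2 : (t + 3).factorial = (t + 3) * ((t + 2) * ((t + 1) * t.factorial)) := rfl
        rw [← ht] at ih
        rw [e1, e2, Nat.factorial_succ k, pow_succ]
        have e3 : 1 ≤ t + 1 := by omega
        have e4 : 3 ≤ t + 2 := by omega
        have e5 : k + 1 ≤ t + 3 := by omega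
        calc 2 * (3 ^ k * 3) * ((k + 1) * k.factorial) = (2 * 3 ^ k * k.factorial) * (3 * (k + 1)) := by ring
          _ < (3 * t.factorial) * (3 * (k + 1)) := Nat.mul_lt_mul_of_pos_right ih (by positivity)
          _ ≤ (3 * t.factorial) * ((t + 2) * (t + 3)) := Nat.mul_le_mul_left _ (Nat.mul_le_mul e4 e5)
          _ = 3 * ((t + 3) * ((t + 2) * (1 * t.factorial))) := by ring
          _ ≤ 3 * ((t + 3) * ((t + 2) * ((t + 1) * t.factorial))) := by gcongr
    have h2 := h1 k hk2
    have h3 : (n - 3 * k).factorial * (3 * k - 3).factorial ≤ (n - 3).factorial := by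
      have e1 : n - 3 = (n - 3 * k) + (3 * k - 3) := by omega
      rw [e1]
      exact Nat.le_of_dvd (Nat.factorial_pos _) (Nat.factorial_mul_factorial_dvd_factorial_add _ _)
    calc 2 * (3 ^ k * k.factorial * (n - 3 * k).factorial) = (2 * 3 ^ k * k.factorial) * (n - 3 * k).factorial := by ring
      _ < (3 * (3 * k - 3).factorial) * (n - 3 * k).factorial := Nat.mul_lt_mul_of_pos_right h2 (Nat.factorial_pos _)
      _ = 3 * ((n - 3 * k).factorial * (3 * k - 3).factorial) := by ring
      _ ≤ 3 * (n - 3).factorial := Nat.mul_le_mul_left _ h3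
  · have hk3 : k = 2 := by omega
    subst hk3
    obtain ⟨t, rfl⟩ : ∃ t, n = t + 7 := ⟨n - 7, by omega⟩
    have e1 : t + 7 - 3 * 2 = t + 1 := by omega
    have e2 : t + 7 - 3 = t + 4 := by omega
    have e3 : (t + 4).factorial = (t + 4) * ((t + 3) * ((t + 2) * (t + 1).factorial)) := rfl
    have e4 : Nat.factorial 2 = 2 := rfl
    rw [e1, e2, e3, e4]
    have h0 := Nat.factorial_pos (t + 1)
    generalize (t + 1).factorial = A at h0
    have h1 : 4 * (3 * 2) ≤ (t + 4) * ((t + 3) * (t + 2)) := Nat.mul_le_mul (by omega) (Nat.mul_le_mul (by omega) (by omega))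
    calc 2 * (3 ^ 2 * 2 * A) = 36 * A := by ring
      _ < 3 * (4 * (3 * 2)) * A := by nlinarith
      _ ≤ 3 * ((t + 4) * ((t + 3) * (t + 2))) * A := Nat.mul_le_mul_right _ (Nat.mul_le_mul_left _ h1)
      _ = _ := by ring

theorem card_cen_three {g : Perm X} (hg : IsThreeCycle g) : Nat.card (Subgroup.centralizer {g}) = 3 * (Fintype.card X - 3).factorial := by
  rw [Equiv.Perm.nat_card_centralizer, hg.cycleType]
  simp
  ring

theorem card_cen_rep {g : Perm X} {k : ℕ} (hk : 1 ≤ k) (hg : g.cycleType = Multiset.replicate k 3) :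
    Nat.card (Subgroup.centralizer {g}) = 3 ^ k * k.factorial * (Fintype.card X - 3 * k).factorial := by
  rw [Equiv.Perm.nat_card_centralizer, hg]
  have h1 : (Multiset.replicate k 3).toFinset = {3} := by
    rw [Multiset.toFinset_replicate, if_neg (by omega)]
  rw [h1, Finset.prod_singleton, Multiset.count_replicate_self, Multiset.sum_replicate, Multiset.prod_replicate, smul_eq_mul, mul_comm k 3]
  ring

theorem type_of_order {g : Perm X} (h : orderOf g = 3) : ∃ k, 1 ≤ k ∧ 3 * k ≤ Fintype.card X ∧ g.cycleType = Multiset.replicate k 3 := by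
  obtain ⟨k, hk⟩ := Equiv.Perm.cycleType_prime_order (σ := g) (by rw [h]; exact Nat.prime_three)
  rw [h] at hk
  refine ⟨k + 1, by omega, ?_, hk⟩
  have h1 := g.sum_cycleType
  rw [hk, Multiset.sum_replicate, smul_eq_mul] at h1
  have h2 := Finset.card_le_univ g.support
  omega

theorem preserve [Nontrivial X] (h6 : Fintype.card X ≠ 6) (α : MulAut (alternatingGroup X)) (g : alternatingGroup X) (hg : IsThreeCycle (g : Perm X)) : IsThreeCycle (α g : Perm X) := by
  have ho : orderOf (α g : Perm X) = 3 := by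
    rw [Subgroup.orderOf_coe, α.orderOf_eq, ← Subgroup.orderOf_coe, hg.orderOf]
  obtain ⟨k, hk, hkn, hty⟩ := type_of_order ho
  rcases Nat.lt_or_ge 1 k with h | h
  · exfalso
    have h1 := card_cen_rep hk hty
    have h2 := card_cen_three hg
    have h3 := N_le (α g)
    have h4 := le_N g
    rw [N_map, h1] at h3
    rw [h2] at h4
    have h5 := fact_ineq (by omega : 2 ≤ k) hkn h6
    omega
  · have hk1 : k = 1 := by omega
    subst hk1
    rw [Multiset.replicate_one] at hty
    exact hty

end CfsgLib.AutAn27
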