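import Mathlib

set_option autoImplicit false

/-! Transvections in `SL_n(F)` and `PSL_n(F)`: basic calculus. -/

namespace CfsgLib.AutPSL27

open Matrix

section Basic

variable {F : Type*} [Field F] {n : ℕ}

/-- vectors parallel -/
def Par (v w : Fin n → F) : Prop := ∃ c : F, c ≠ 0 ∧ w = c • v

theorem Par.refl (v : Fin n → F) : Par v v := ⟨1, one_ne_zero, (one_smul _ _).symm⟩

theorem Par.symm {v w : Fin n → F} (h : Par v w) : Par w v := by
  obtain ⟨c, hc, rfl⟩ := h
  exact ⟨c⁻¹, inv_ne_zero hc, by rw [smul_smul, inv_mul_cancel₀ hc, one_smul]⟩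

theorem Par.trans {u v w : Fin n → F} (h : Par u v) (h' : Par v w) : Par u w := by
  obtain ⟨c, hc, rfl⟩ := h
  obtain ⟨d, hd, rfl⟩ := h'
  exact ⟨d * c, mul_ne_zero hd hc, by rw [smul_smul]⟩

theorem Par.smul {v : Fin n → F} {c : F} (hc : c ≠ 0) : Par v (c • v) := ⟨c, hc, rfl⟩

theorem Par.ne_zero {v w : Fin n → F} (h : Par v w) (hv : v ≠ 0) : w ≠ 0 := by
  obtain ⟨c, hc, rfl⟩ := h
  exact smul_ne_zero hc hv

theorem det_tv (v f : Fin n → F) (h : f ⬝ᵥ v = 0) : (1 + vecMulVec v f).det = 1 := by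
  rw [vecMulVec_eq (ι := Unit), Matrix.det_one_add_replicateCol_mul_replicateRow, h, add_zero]

/-- the transvection `1 + v f` -/
noncomputable def tv (v f : Fin n → F) : Matrix.SpecialLinearGroup (Fin n) F := by
  classical exact if h : f ⬝ᵥ v = 0 then ⟨1 + vecMulVec v f, det_tv v f h⟩ else 1

theorem coe_tv {v f : Fin n → F} (h : f ⬝ᵥ v = 0) : (tv v f : Matrix (Fin n) (Fin n) F) = 1 + vecMulVec v f := by
  have : tv v f = ⟨1 + vecMulVec v f, det_tv v f h⟩ := dif_pos h
  rw [this]

theorem sl_ext {A B : Matrix.SpecialLinearGroup (Fin n) F} (h : (A : Matrix (Fin n) (Fin n) F) = B) : A = B := Subtype.ext h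

theorem tv_eq_iff {v f w g : Fin n → F} (h : f ⬝ᵥ v = 0) (h' : g ⬝ᵥ w = 0) :
    tv v f = tv w g ↔ vecMulVec v f = vecMulVec w g := by
  constructor
  · intro e
    have := congrArg (fun A : Matrix.SpecialLinearGroup (Fin n) F => (A : Matrix (Fin n) (Fin n) F)) e
    simp only [coe_tv h, coe_tv h'] at this
    exact add_left_cancel this
  · intro e
    apply sl_ext
    rw [coe_tv h, coe_tv h', e]

theorem vmv_eq {v f w g : Fin n → F} (hv : v ≠ 0) (hf : f ≠ 0) (e : vecMulVec v f = vecMulVec w g) :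
    ∃ c : F, c ≠ 0 ∧ w = c • v ∧ g = c⁻¹ • f := by
  obtain ⟨i, hi⟩ : ∃ i, v i ≠ 0 := Function.ne_iff.mp hv
  obtain ⟨j, hj⟩ : ∃ j, f j ≠ 0 := Function.ne_iff.mp hf
  have he : ∀ a b, v a * f b = w a * g b := fun a b => by
    have := congrFun (congrFun e a) b
    rwa [vecMulVec_apply, vecMulVec_apply] at this
  have hwi : w i ≠ 0 := by
    intro h0
    have := he i j
    rw [h0, zero_mul] at this
    exact mul_ne_zero hi hj this
  have hgj : g j ≠ 0 := by
    intro h0
    have := he i j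
    rw [h0, mul_zero] at this
    exact mul_ne_zero hi hj this
  refine ⟨w i / v i, div_ne_zero hwi hi, ?_, ?_⟩
  · ext a
    rw [Pi.smul_apply, smul_eq_mul]
    have h1 := he a j
    have h2 := he i j
    field_simp
    apply mul_right_cancel₀ (mul_ne_zero hj hgj)
    linear_combination (w a * g j) * h2 - (w i * g j) * h1
  · ext b
    rw [Pi.smul_apply, smul_eq_mul, inv_div]
    have h1 := he i b
    field_simp
    linear_combination -h1

theorem tv_smul (c : F) (v f : Fin n → F) (h : f ⬝ᵥ v = 0) : tv (c • v) f = tv v (c • f) := by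
  rw [tv_eq_iff (by rw [dotProduct_smul, h, smul_zero]) (by rw [smul_dotProduct, h, smul_zero])]
  ext i j
  simp only [vecMulVec_apply, Pi.smul_apply, smul_eq_mul]
  ring

theorem tv_zero_left (f : Fin n → F) : tv 0 f = 1 := by
  apply sl_ext
  rw [coe_tv (dotProduct_zero f), zero_vecMulVec, add_zero]; rfl

theorem tv_zero_right (v : Fin n → F) : tv v 0 = 1 := by
  apply sl_ext
  rw [coe_tv (zero_dotProduct v), vecMulVec_zero, add_zero]; rfl

theorem tv_mul_same_f {v w f : Fin n → F} (h : f ⬝ᵥ v = 0) (h' : f ⬝ᵥ w = 0) : tv v f * tv w f = tv (v + w) f := by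
  apply sl_ext
  rw [Matrix.SpecialLinearGroup.coe_mul, coe_tv h, coe_tv h', coe_tv (by rw [dotProduct_add, h, h', add_zero])]
  rw [add_mul, mul_add, mul_add, one_mul, mul_one, one_mul, vecMulVec_mul_vecMulVec, h', zero_smul, vecMulVec_zero,
    add_zero, add_vecMulVec, add_assoc, add_comm (vecMulVec w f)]

theorem tv_mul_same_v {v f g : Fin n → F} (h : f ⬝ᵥ v = 0) (h' : g ⬝ᵥ v = 0) : tv v f * tv v g = tv v (f + g) := by
  apply sl_ext
  rw [Matrix.SpecialLinearGroup.coe_mul, coe_tv h, coe_tv h', coe_tv (by rw [add_dotProduct, h, h', add_zero])]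
  rw [add_mul, mul_add, mul_add, one_mul, mul_one, one_mul, vecMulVec_mul_vecMulVec, h, zero_smul, vecMulVec_zero,
    add_zero, vecMulVec_add, add_assoc, add_comm (vecMulVec v g)]

theorem tv_inv {v f : Fin n → F} (h : f ⬝ᵥ v = 0) : (tv v f)⁻¹ = tv (-v) f := by
  rw [inv_eq_iff_mul_eq_one, tv_mul_same_f h (by rw [dotProduct_neg, h, neg_zero]), add_neg_cancel, tv_zero_left]

theorem tv_pow {v f : Fin n → F} (h : f ⬝ᵥ v = 0) (k : ℕ) : (tv v f) ^ k = tv ((k : F) • v) f := by
  induction k with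
  | zero => rw [pow_zero, Nat.cast_zero, zero_smul, tv_zero_left]
  | succ k ih =>
    rw [pow_succ, ih, tv_mul_same_f (by rw [dotProduct_smul, h, smul_zero]) h, Nat.cast_succ, add_smul, one_smul]

theorem tv_pow_char (p : ℕ) [CharP F p] {v f : Fin n → F} (h : f ⬝ᵥ v = 0) : (tv v f) ^ p = 1 := by
  rw [tv_pow h, CharP.cast_eq_zero, zero_smul, tv_zero_left]

theorem tv_eq_one_iff {v f : Fin n → F} (h : f ⬝ᵥ v = 0) : tv v f = 1 ↔ v = 0 ∨ f = 0 := by
  rw [← tv_zero_left f, tv_eq_iff h (dotProduct_zero f), zero_vecMulVec, vecMulVec_eq_zero]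

theorem exists_functional {V : Type*} [AddCommGroup V] [Module F V] {a c : V} (hli : LinearIndependent F ![a, c])
    (s t : F) : ∃ φ : V →ₗ[F] F, φ a = s ∧ φ c = t := by
  obtain ⟨φ, hφ⟩ := LinearMap.exists_extend ((Module.Basis.span hli).constr F ![s, t])
  refine ⟨φ, ?_, ?_⟩
  · have h0 : (Module.Basis.span hli 0 : V) = a := by rw [Module.Basis.span_apply]; rfl
    rw [← h0, ← Submodule.subtype_apply, ← LinearMap.comp_apply, hφ, Module.Basis.constr_basis]
    rfl
  · have h0 : (Module.Basis.span hli 1 : V) = c := by rw [Module.Basis.span_apply]; rfl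
    rw [← h0, ← Submodule.subtype_apply, ← LinearMap.comp_apply, hφ, Module.Basis.constr_basis]
    rfl

/-- commuting transvections with product a transvection are parallel somewhere -/
theorem par_of_comm {a b c d x y : Fin n → F} (ha : a ≠ 0) (hb : b ≠ 0) (hc : c ≠ 0) (hd : d ≠ 0)
    (hab : b ⬝ᵥ a = 0) (hcd : d ⬝ᵥ c = 0) (hxy : y ⬝ᵥ x = 0)
    (hcomm : tv a b * tv c d = tv c d * tv a b) (hprod : tv a b * tv c d = tv x y) : Par a c ∨ Par b d := by
  have h1 := congrArg (fun A : Matrix.SpecialLinearGroup (Fin n) F => (A : Matrix (Fin n) (Fin n) F)) hcomm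
  have h2 := congrArg (fun A : Matrix.SpecialLinearGroup (Fin n) F => (A : Matrix (Fin n) (Fin n) F)) hprod
  simp only [Matrix.SpecialLinearGroup.coe_mul, coe_tv hab, coe_tv hcd, coe_tv hxy] at h1 h2
  have e1 : (b ⬝ᵥ c) • vecMulVec a d = (d ⬝ᵥ a) • vecMulVec c b := by
    have : ∀ P Q : Matrix (Fin n) (Fin n) F, (1 + P) * (1 + Q) = (1 + Q) * (1 + P) → P * Q = Q * P := by
      intro P Q h
      have h' : (1 + P) * (1 + Q) - (1 + P + Q) = (1 + Q) * (1 + P) - (1 + P + Q) := by rw [h]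
      have e3 : (1 + P) * (1 + Q) - (1 + P + Q) = P * Q := by noncomm_ring
      have e4 : (1 + Q) * (1 + P) - (1 + P + Q) = Q * P := by noncomm_ring
      rwa [e3, e4] at h'
    have := this _ _ h1
    rw [vecMulVec_mul_vecMulVec, vecMulVec_mul_vecMulVec, vecMulVec_smul, vecMulVec_smul] at this
    exact this
  by_cases hbc : b ⬝ᵥ c = 0
  · have e2 : vecMulVec a b + vecMulVec c d = vecMulVec x y := by
      have h3 : (1 + vecMulVec a b) * (1 + vecMulVec c d) = 1 + (vecMulVec a b + vecMulVec c d) := by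
        rw [add_mul, mul_add, mul_add, one_mul, mul_one, one_mul, vecMulVec_mul_vecMulVec, hbc, zero_smul,
          vecMulVec_zero, add_zero]
        abel
      rw [h3] at h2
      exact add_left_cancel h2
    by_cases hpar : Par a c
    · exact Or.inl hpar
    right
    -- `a`, `c` independent
    have hli : LinearIndependent F ![a, c] := by
      rw [LinearIndependent.pair_iff' ha]
      intro k hk
      apply hpar
      refine ⟨k, ?_, hk.symm⟩
      rintro rfl
      exact hc (by rw [← hk, zero_smul])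
    -- functionals
    have hfun : ∀ s t : F, ∃ g : Fin n → F, g ⬝ᵥ a = s ∧ g ⬝ᵥ c = t := by
      intro s t
      obtain ⟨φ, hφ⟩ := exists_functional hli s t
      refine ⟨fun i => φ (Pi.single i 1), ?_, ?_⟩
      · rw [← hφ.1]
        exact dot_single φ a
      · rw [← hφ.2]
        exact dot_single φ c
    obtain ⟨g, hg1, hg2⟩ := hfun 1 0
    obtain ⟨g', hg'1, hg'2⟩ := hfun 0 1
    have k1 : b = (g ⬝ᵥ x) • y := by
      have := congrArg (fun M => g ᵥ* M) e2
      simp only [vecMul_add, vecMul_vecMulVec] at this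
      rw [hg1, hg2] at this
      simpa using this
    have k2 : d = (g' ⬝ᵥ x) • y := by
      have := congrArg (fun M => g' ᵥ* M) e2
      simp only [vecMul_add, vecMul_vecMulVec] at this
      rw [hg'1, hg'2] at this
      simpa using this
    have hgx : g ⬝ᵥ x ≠ 0 := fun h => hb (by rw [k1, h, zero_smul])
    have hgx' : g' ⬝ᵥ x ≠ 0 := fun h => hd (by rw [k2, h, zero_smul])
    have p1 : Par y b := ⟨_, hgx, k1⟩
    have p2 : Par y d := ⟨_, hgx', k2⟩
    exact p1.symm.trans p2
  · left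
    have hda : d ⬝ᵥ a ≠ 0 := by
      intro h
      rw [h, zero_smul] at e1
      rcases smul_eq_zero.mp e1 with h | h
      · exact hbc h
      · rcases vecMulVec_eq_zero.mp h with h | h
        · exact ha h
        · exact hd h
    have : vecMulVec ((b ⬝ᵥ c) • a) d = vecMulVec ((d ⬝ᵥ a) • c) b := by
      rw [smul_vecMulVec, smul_vecMulVec, e1]
    obtain ⟨k, hk, hk1, -⟩ := vmv_eq (smul_ne_zero hbc ha) hd this
    have p1 : Par a ((b ⬝ᵥ c) • a) := Par.smul hbc
    have p2 : Par ((b ⬝ᵥ c) • a) ((d ⬝ᵥ a) • c) := ⟨k, hk, hk1⟩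
    exact (p1.trans p2).trans (Par.smul hda).symm
where
  dot_single (φ : (Fin n → F) →ₗ[F] F) (a : Fin n → F) : (fun i => φ (Pi.single i 1)) ⬝ᵥ a = φ a := by
    conv_rhs => rw [← Finset.univ_sum_single a]
    rw [map_sum]
    unfold dotProduct
    refine Finset.sum_congr rfl fun i _ => ?_
    have : (Pi.single i (a i) : Fin n → F) = a i • Pi.single i 1 := by
      rw [← Pi.single_smul, smul_eq_mul, mul_one]
    rw [this, map_smul, smul_eq_mul, mul_comm]

end Basic

end CfsgLib.AutPSL27
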