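import Cfsg.Agent.LibAutPSL27a

set_option autoImplicit false

/-! Transvection groups of `PSL_n(F)` are the centres of the Sylow `p`-subgroups. -/

namespace CfsgLib.AutPSL27

open Matrix

variable {F : Type*} [Field F] {n : ℕ}

theorem conj_tv (s : Matrix.SpecialLinearGroup (Fin n) F) {v f : Fin n → F} (h : f ⬝ᵥ v = 0) :
    s * tv v f * s⁻¹ = tv ((s : Matrix (Fin n) (Fin n) F) *ᵥ v)
      (f ᵥ* ((s⁻¹ : Matrix.SpecialLinearGroup (Fin n) F) : Matrix (Fin n) (Fin n) F)) := by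
  have hs : ((s⁻¹ : Matrix.SpecialLinearGroup (Fin n) F) : Matrix (Fin n) (Fin n) F) * (s : Matrix (Fin n) (Fin n) F) = 1 := by
    rw [← Matrix.SpecialLinearGroup.coe_mul, inv_mul_cancel]; rfl
  have hs' : (s : Matrix (Fin n) (Fin n) F) * ((s⁻¹ : Matrix.SpecialLinearGroup (Fin n) F) : Matrix (Fin n) (Fin n) F) = 1 := by
    rw [← Matrix.SpecialLinearGroup.coe_mul, mul_inv_cancel]; rfl
  have h' : (f ᵥ* ((s⁻¹ : Matrix.SpecialLinearGroup (Fin n) F) : Matrix (Fin n) (Fin n) F)) ⬝ᵥ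
      ((s : Matrix (Fin n) (Fin n) F) *ᵥ v) = 0 := by
    rw [← dotProduct_mulVec, mulVec_mulVec, hs, one_mulVec, h]
  apply sl_ext
  rw [Matrix.SpecialLinearGroup.coe_mul, Matrix.SpecialLinearGroup.coe_mul, coe_tv h, coe_tv h', mul_add, add_mul,
    mul_one, hs', mul_vecMulVec, vecMulVec_mul]

theorem mk_inj (p : ℕ) [Fact p.Prime] [CharP F p] (hn : 1 ≤ n) {s t : Matrix.SpecialLinearGroup (Fin n) F} {k : ℕ}
    (hs : s ^ (p ^ k) = 1) (ht : t ^ (p ^ k) = 1)
    (h : (QuotientGroup.mk s : Matrix.ProjectiveSpecialLinearGroup (Fin n) F) = QuotientGroup.mk t) : s = t := by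
  rw [QuotientGroup.eq] at h
  set z := s⁻¹ * t with hz
  have htz : t = s * z := by rw [hz, mul_inv_cancel_left]
  have hcomm : Commute s z := (Subgroup.mem_center_iff.1 h s)
  have hzp : z ^ (p ^ k) = 1 := by
    rw [htz, hcomm.mul_pow, hs, one_mul] at ht
    exact ht
  obtain ⟨c, -, hc⟩ := Matrix.SpecialLinearGroup.mem_center_iff.1 h
  have hcp : c ^ (p ^ k) = 1 := by
    have h1 := congrArg (fun A : Matrix.SpecialLinearGroup (Fin n) F => (A : Matrix (Fin n) (Fin n) F)) hzp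
    simp only [Matrix.SpecialLinearGroup.coe_pow, ← hc, ← map_pow] at h1
    have h2 := congrFun (congrFun h1 ⟨0, hn⟩) ⟨0, hn⟩
    simpa using h2
  have hc1 : c = 1 := by
    have h2 : (c - 1) ^ (p ^ k) = 0 := by rw [sub_pow_char_pow, hcp, one_pow, sub_self]
    exact sub_eq_zero.mp (pow_eq_zero_iff (pow_ne_zero _ (Fact.out : p.Prime).ne_zero) |>.1 h2)
  have hz1 : z = 1 := by
    apply sl_ext
    rw [← hc, hc1, map_one]; rfl
  rw [htz, hz1, mul_one]

/-- the group of transvections with fixed direction -/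
def rowS (v : Fin n → F) : Subgroup (Matrix.SpecialLinearGroup (Fin n) F) where
  carrier := {s | ∃ g : Fin n → F, g ⬝ᵥ v = 0 ∧ s = tv v g}
  mul_mem' := by
    rintro _ _ ⟨g, hg, rfl⟩ ⟨g', hg', rfl⟩
    exact ⟨g + g', by rw [add_dotProduct, hg, hg', add_zero], tv_mul_same_v hg hg'⟩
  one_mem' := ⟨0, zero_dotProduct v, (tv_zero_right v).symm⟩
  inv_mem' := by
    rintro _ ⟨g, hg, rfl⟩
    refine ⟨-g, by rw [neg_dotProduct, hg, neg_zero], ?_⟩
    rw [tv_inv hg, ← neg_one_smul F v, tv_smul _ _ _ hg, neg_one_smul]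

/-- the group of transvections with fixed hyperplane -/
def colS (f : Fin n → F) : Subgroup (Matrix.SpecialLinearGroup (Fin n) F) where
  carrier := {s | ∃ w : Fin n → F, f ⬝ᵥ w = 0 ∧ s = tv w f}
  mul_mem' := by
    rintro _ _ ⟨g, hg, rfl⟩ ⟨g', hg', rfl⟩
    exact ⟨g + g', by rw [dotProduct_add, hg, hg', add_zero], tv_mul_same_f hg hg'⟩
  one_mem' := ⟨0, dotProduct_zero f, (tv_zero_left f).symm⟩
  inv_mem' := by
    rintro _ ⟨g, hg, rfl⟩
    exact ⟨-g, by rw [dotProduct_neg, hg, neg_zero], tv_inv hg⟩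

theorem rowS_pgroup (p : ℕ) [CharP F p] (v : Fin n → F) : IsPGroup p (rowS v) := by
  rintro ⟨_, g, hg, rfl⟩
  refine ⟨1, Subtype.ext ?_⟩
  show (tv v g) ^ (p ^ 1) = 1
  rw [pow_one, tv_pow_char p hg]

theorem colS_pgroup (p : ℕ) [CharP F p] (f : Fin n → F) : IsPGroup p (colS f) := by
  rintro ⟨_, g, hg, rfl⟩
  refine ⟨1, Subtype.ext ?_⟩
  show (tv g f) ^ (p ^ 1) = 1
  rw [pow_one, tv_pow_char p hg]

theorem exists_h {v : Fin n → F} (hv : v ≠ 0) (M : Matrix (Fin n) (Fin n) F)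
    (hM : ∀ g : Fin n → F, g ⬝ᵥ v = 0 → g ᵥ* M = 0) : ∃ h, M = vecMulVec v h := by
  obtain ⟨i0, hi⟩ : ∃ i, v i ≠ 0 := Function.ne_iff.mp hv
  refine ⟨fun j => M i0 j / v i0, ?_⟩
  ext i j
  rw [vecMulVec_apply]
  have h1 := hM (v i0 • Pi.single i 1 - v i • Pi.single i0 1) (by
    rw [sub_dotProduct, smul_dotProduct, smul_dotProduct, single_one_dotProduct, single_one_dotProduct, smul_eq_mul,
      smul_eq_mul, mul_comm, sub_self])
  have h2 := congrFun h1 j
  rw [sub_vecMul, smul_vecMul, smul_vecMul, single_one_vecMul, single_one_vecMul] at h2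
  simp only [Pi.sub_apply, Pi.smul_apply, smul_eq_mul, Pi.zero_apply, Matrix.row_apply] at h2
  field_simp
  linear_combination h2

theorem exists_c {f h : Fin n → F} (hf : f ≠ 0) (hh : ∀ w : Fin n → F, f ⬝ᵥ w = 0 → h ⬝ᵥ w = 0) : ∃ c : F, h = c • f := by
  obtain ⟨j0, hj⟩ : ∃ i, f i ≠ 0 := Function.ne_iff.mp hf
  refine ⟨h j0 / f j0, ?_⟩
  ext j
  rw [Pi.smul_apply, smul_eq_mul]
  have h1 := hh (f j0 • Pi.single j 1 - f j • Pi.single j0 1) (by
    rw [dotProduct_sub, dotProduct_smul, dotProduct_smul, dotProduct_single_one, dotProduct_single_one, smul_eq_mul,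
      smul_eq_mul, mul_comm, sub_self])
  rw [dotProduct_sub, dotProduct_smul, dotProduct_smul, dotProduct_single_one, dotProduct_single_one, smul_eq_mul,
    smul_eq_mul] at h1
  field_simp
  linear_combination h1

/-- A unipotent element centralizing `rowS v` and `colS f` lies in the transvection group of `(v, f)`. -/
theorem central_eq (p : ℕ) [Fact p.Prime] [CharP F p] {v f : Fin n → F} (hv : v ≠ 0) (hf : f ≠ 0) (hvf : f ⬝ᵥ v = 0)
    {z : Matrix.SpecialLinearGroup (Fin n) F} {k : ℕ} (hz : z ^ (p ^ k) = 1)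
    (h1 : ∀ g : Fin n → F, g ⬝ᵥ v = 0 → z * tv v g = tv v g * z)
    (h2 : ∀ w : Fin n → F, f ⬝ᵥ w = 0 → z * tv w f = tv w f * z) : ∃ c : F, z = tv (c • v) f := by
  set Z := (z : Matrix (Fin n) (Fin n) F) with hZ
  set Zi := ((z⁻¹ : Matrix.SpecialLinearGroup (Fin n) F) : Matrix (Fin n) (Fin n) F) with hZi
  have hs : Zi * Z = 1 := by
    rw [hZ, hZi, ← Matrix.SpecialLinearGroup.coe_mul, inv_mul_cancel]; rfl
  have hdot : ∀ g w : Fin n → F, g ⬝ᵥ w = 0 → (g ᵥ* Zi) ⬝ᵥ (Z *ᵥ w) = 0 := by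
    intro g w h
    rw [← dotProduct_mulVec, mulVec_mulVec, hs, one_mulVec, h]
  have hconj : ∀ g w : Fin n → F, g ⬝ᵥ w = 0 → z * tv w g = tv w g * z → vecMulVec (Z *ᵥ w) (g ᵥ* Zi) = vecMulVec w g := by
    intro g w h hc
    have h3 : z * tv w g * z⁻¹ = tv w g := by rw [hc, mul_inv_cancel_right]
    rw [conj_tv z h, tv_eq_iff (hdot g w h) h] at h3
    exact h3
  obtain ⟨c, hc, hzv, hfz⟩ := vmv_eq hv hf (hconj f v hvf (h1 f hvf)).symm
  have hZpow : ∀ j : ℕ, (Z ^ j) *ᵥ v = c ^ j • v := by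
    intro j
    induction j with
    | zero => rw [pow_zero, one_mulVec, pow_zero, one_smul]
    | succ j ih => rw [pow_succ, ← mulVec_mulVec, hzv, mulVec_smul, ih, smul_smul, pow_succ']
  have hc1 : c = 1 := by
    have h3 := hZpow (p ^ k)
    rw [hZ, ← Matrix.SpecialLinearGroup.coe_pow, hz] at h3
    have h4 : v = c ^ (p ^ k) • v := by
      have : ((1 : Matrix.SpecialLinearGroup (Fin n) F) : Matrix (Fin n) (Fin n) F) *ᵥ v = v := one_mulVec v
      rw [this] at h3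
      exact h3
    have h5 : c ^ (p ^ k) = 1 := by
      have : (c ^ (p ^ k)) • v = (1 : F) • v := by rw [← h4, one_smul]
      exact smul_left_injective F hv this
    have h6 : (c - 1) ^ (p ^ k) = 0 := by rw [sub_pow_char_pow, h5, one_pow, sub_self]
    exact sub_eq_zero.mp (pow_eq_zero_iff (pow_ne_zero _ (Fact.out : p.Prime).ne_zero) |>.1 h6)
  rw [hc1, one_smul] at hzv
  rw [hc1, inv_one, one_smul] at hfz
  have hg : ∀ g : Fin n → F, g ⬝ᵥ v = 0 → g ᵥ* Z = g := by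
    intro g hgv
    by_cases hg0 : g = 0
    · rw [hg0, zero_vecMul]
    have h3 := hconj g v hgv (h1 g hgv)
    rw [hzv] at h3
    obtain ⟨c', hc', hv', hg'⟩ := vmv_eq hv hg0 h3.symm
    have : c' = 1 := by
      have h4 : c' • v = (1 : F) • v := by rw [← hv', one_smul]
      exact smul_left_injective F hv h4
    rw [this, inv_one, one_smul] at hg'
    calc g ᵥ* Z = (g ᵥ* Zi) ᵥ* Z := by rw [hg']
      _ = g := by rw [vecMul_vecMul, hs, vecMul_one]
  have hw : ∀ w : Fin n → F, f ⬝ᵥ w = 0 → Z *ᵥ w = w := by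
    intro w hfw
    by_cases hw0 : w = 0
    · rw [hw0, mulVec_zero]
    have h3 := hconj f w hfw (h2 w hfw)
    rw [hfz] at h3
    obtain ⟨c', hc', hv', hg'⟩ := vmv_eq hw0 hf h3.symm
    have : c'⁻¹ = 1 := by
      have h4 : c'⁻¹ • f = (1 : F) • f := by rw [← hg', one_smul]
      exact smul_left_injective F hf h4
    rw [inv_eq_one.mp this, one_smul] at hv'
    exact hv'
  obtain ⟨h, hh⟩ := exists_h hv (Z - 1) (fun g hgv => by rw [vecMul_sub, hg g hgv, vecMul_one, sub_self])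
  obtain ⟨c', hc'⟩ := exists_c (h := h) hf (fun w hfw => by
    have h3 : (Z - 1) *ᵥ w = 0 := by rw [sub_mulVec, hw w hfw, one_mulVec, sub_self]
    rw [hh, vecMulVec_mulVec] at h3
    obtain ⟨i, hi⟩ : ∃ i, v i ≠ 0 := Function.ne_iff.mp hv
    have h4 := congrFun h3 i
    simp only [Pi.smul_apply, MulOpposite.smul_eq_mul_unop, MulOpposite.unop_op, Pi.zero_apply] at h4
    exact (mul_eq_zero.mp h4).resolve_left hi)
  refine ⟨c', ?_⟩
  rw [tv_smul _ _ _ hvf]
  apply sl_ext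
  rw [coe_tv (by rw [smul_dotProduct, hvf, smul_zero]), ← hc', ← hh]
  abel

end CfsgLib.AutPSL27
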