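import Cfsg.Agent.LibAutPSL27b

set_option autoImplicit false

/-! Transvection groups of `PSL_n(F)` are the centres of the Sylow `p`-subgroups, part 2. -/

namespace CfsgLib.AutPSL27

open Matrix

theorem dvd_card_of_char (p : ℕ) [Fact p.Prime] {W : Type*} [AddCommGroup W] [Finite W] (hW : ∃ w : W, w ≠ 0)
    (hp : ∀ w : W, p • w = 0) : p ∣ Nat.card W := by
  obtain ⟨w, hw⟩ := hW
  have h1 : addOrderOf w = p := addOrderOf_eq_prime (hp w) hw
  rw [← h1]
  exact addOrderOf_dvd_natCard w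

section

variable {F : Type*} [Field F] {n : ℕ}

theorem exists_orthogonal (hn : 2 ≤ n) (v : Fin n → F) (hv : v ≠ 0) : ∃ g : Fin n → F, g ≠ 0 ∧ g ⬝ᵥ v = 0 := by
  obtain ⟨i, hi⟩ : ∃ i, v i ≠ 0 := Function.ne_iff.mp hv
  obtain ⟨j, hj⟩ : ∃ j : Fin n, j ≠ i := by
    haveI : Nontrivial (Fin n) := Fin.nontrivial_iff_two_le.mpr hn
    exact exists_ne i
  refine ⟨v i • Pi.single j 1 - v j • Pi.single i 1, ?_, ?_⟩
  · intro h
    have h1 := congrFun h j
    simp only [Pi.sub_apply, Pi.smul_apply, Pi.single_eq_same, Pi.single_eq_of_ne hj, smul_eq_mul, mul_one, mul_zero,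
      sub_zero, Pi.zero_apply] at h1
    exact hi h1
  · rw [sub_dotProduct, smul_dotProduct, smul_dotProduct, single_one_dotProduct, single_one_dotProduct, smul_eq_mul,
      smul_eq_mul, mul_comm, sub_self]

theorem exists_fixed [Finite F] (p : ℕ) [Fact p.Prime] [CharP F p] (hn : 2 ≤ n)
    (Q : Subgroup (Matrix.SpecialLinearGroup (Fin n) F)) (hQ : IsPGroup p Q) :
    ∃ v f : Fin n → F, v ≠ 0 ∧ f ≠ 0 ∧ f ⬝ᵥ v = 0 ∧
      ∀ s ∈ Q, (s : Matrix (Fin n) (Fin n) F) *ᵥ v = v ∧ f ᵥ* (s : Matrix (Fin n) (Fin n) F) = f := by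
  have hpV : ∀ w : Fin n → F, p • w = 0 := by
    intro w
    ext i
    rw [Pi.smul_apply, nsmul_eq_mul, CharP.cast_eq_zero, zero_mul]; rfl
  -- a fixed vector
  obtain ⟨v, hv, hvQ⟩ : ∃ v : Fin n → F, v ≠ 0 ∧ ∀ s ∈ Q, (s : Matrix (Fin n) (Fin n) F) *ᵥ v = v := by
    letI : MulAction Q (Fin n → F) :=
      { smul := fun s v => ((s : Matrix.SpecialLinearGroup (Fin n) F) : Matrix (Fin n) (Fin n) F) *ᵥ v
        one_smul := fun v => one_mulVec v
        mul_smul := fun s t v => by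
          show (((s * t : Q) : Matrix.SpecialLinearGroup (Fin n) F) : Matrix (Fin n) (Fin n) F) *ᵥ v =
            ((s : Matrix.SpecialLinearGroup (Fin n) F) : Matrix (Fin n) (Fin n) F) *ᵥ
              (((t : Matrix.SpecialLinearGroup (Fin n) F) : Matrix (Fin n) (Fin n) F) *ᵥ v)
          rw [mulVec_mulVec, ← Matrix.SpecialLinearGroup.coe_mul]; rfl }
    have hsm : ∀ (s : Q) (v : Fin n → F), s • v = ((s : Matrix.SpecialLinearGroup (Fin n) F) : Matrix (Fin n) (Fin n) F) *ᵥ v :=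
      fun _ _ => rfl
    have hcard : p ∣ Nat.card (Fin n → F) := by
      apply dvd_card_of_char p _ hpV
      refine ⟨Pi.single ⟨0, by omega⟩ 1, ?_⟩
      intro h
      have := congrFun h ⟨0, by omega⟩
      simp at this
    obtain ⟨b, hb, hb0⟩ := hQ.exists_fixed_point_of_prime_dvd_card_of_fixed_point (Fin n → F) hcard (a := 0)
      (by
        intro s
        rw [hsm, mulVec_zero])
    refine ⟨b, hb0.symm, fun s hs => ?_⟩
    exact hb ⟨s, hs⟩
  have hinv : ∀ s : Matrix.SpecialLinearGroup (Fin n) F, s ∈ Q →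
      ((s⁻¹ : Matrix.SpecialLinearGroup (Fin n) F) : Matrix (Fin n) (Fin n) F) *ᵥ v = v := fun s hs => hvQ _ (Q.inv_mem hs)
  -- a fixed covector
  let W : Submodule F (Fin n → F) :=
    { carrier := {g | g ⬝ᵥ v = 0}
      add_mem' := fun {a b} ha hb => by
        show (a + b) ⬝ᵥ v = 0
        rw [add_dotProduct, show a ⬝ᵥ v = 0 from ha, show b ⬝ᵥ v = 0 from hb, add_zero]
      zero_mem' := zero_dotProduct v
      smul_mem' := fun c a ha => by
        show (c • a) ⬝ᵥ v = 0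
        rw [smul_dotProduct, show a ⬝ᵥ v = 0 from ha, smul_zero] }
  have hW : ∀ g : Fin n → F, g ∈ W ↔ g ⬝ᵥ v = 0 := fun _ => Iff.rfl
  letI : MulAction Q W :=
    { smul := fun s g => ⟨(g : Fin n → F) ᵥ* (((s⁻¹ : Q) : Matrix.SpecialLinearGroup (Fin n) F) : Matrix (Fin n) (Fin n) F), by
        rw [hW, ← dotProduct_mulVec, hvQ _ (s⁻¹ : Q).2]
        exact g.2⟩
      one_smul := fun g => by
        apply Subtype.ext
        show (g : Fin n → F) ᵥ* (((1⁻¹ : Q) : Matrix.SpecialLinearGroup (Fin n) F) : Matrix (Fin n) (Fin n) F) = g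
        rw [inv_one]
        exact vecMul_one _
      mul_smul := fun s t g => by
        apply Subtype.ext
        show (g : Fin n → F) ᵥ* ((((s * t)⁻¹ : Q) : Matrix.SpecialLinearGroup (Fin n) F) : Matrix (Fin n) (Fin n) F) =
          ((g : Fin n → F) ᵥ* (((t⁻¹ : Q) : Matrix.SpecialLinearGroup (Fin n) F) : Matrix (Fin n) (Fin n) F)) ᵥ*
            (((s⁻¹ : Q) : Matrix.SpecialLinearGroup (Fin n) F) : Matrix (Fin n) (Fin n) F)
        rw [vecMul_vecMul, ← Matrix.SpecialLinearGroup.coe_mul, _root_.mul_inv_rev]; rfl }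
  have hsm : ∀ (s : Q) (g : W), ((s • g : W) : Fin n → F) = (g : Fin n → F) ᵥ*
      (((s⁻¹ : Q) : Matrix.SpecialLinearGroup (Fin n) F) : Matrix (Fin n) (Fin n) F) := fun _ _ => rfl
  have hcard : p ∣ Nat.card W := by
    apply dvd_card_of_char p
    · obtain ⟨g, hg, hgv⟩ := exists_orthogonal hn v hv
      exact ⟨⟨g, hgv⟩, fun h => hg (congrArg Subtype.val h)⟩
    · intro w
      apply Subtype.ext
      exact hpV w
  obtain ⟨f, hf, hf0⟩ := hQ.exists_fixed_point_of_prime_dvd_card_of_fixed_point W hcard (a := 0)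
    (by
      intro s
      apply Subtype.ext
      rw [hsm]
      exact zero_vecMul _)
  refine ⟨v, f, hv, fun h => hf0 (Subtype.ext h.symm), f.2, fun s hs => ⟨hvQ s hs, ?_⟩⟩
  have h1 := hf (⟨s, hs⟩⁻¹ : Q)
  have h2 := congrArg Subtype.val h1
  rw [hsm, inv_inv] at h2
  exact h2

/-- The central part of a Sylow subgroup of `SL`. -/
theorem sylow_center [Finite F] (p : ℕ) [Fact p.Prime] [CharP F p] (hn : 2 ≤ n)
    (Q : Sylow p (Matrix.SpecialLinearGroup (Fin n) F)) :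
    ∃ v f : Fin n → F, v ≠ 0 ∧ f ≠ 0 ∧ f ⬝ᵥ v = 0 ∧ rowS v ≤ Q ∧ colS f ≤ Q ∧
      ∀ c : F, ∀ s ∈ Q, s * tv (c • v) f = tv (c • v) f * s := by
  obtain ⟨v, f, hv, hf, hvf, hQ⟩ := exists_fixed p hn (Q : Subgroup (Matrix.SpecialLinearGroup (Fin n) F)) Q.2
  have hinv : ∀ s ∈ Q, f ᵥ* ((s⁻¹ : Matrix.SpecialLinearGroup (Fin n) F) : Matrix (Fin n) (Fin n) F) = f :=
    fun s hs => (hQ _ (Q.inv_mem hs)).2
  have hinv' : ∀ s ∈ Q, ((s⁻¹ : Matrix.SpecialLinearGroup (Fin n) F) : Matrix (Fin n) (Fin n) F) *ᵥ v = v :=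
    fun s hs => (hQ _ (Q.inv_mem hs)).1
  have hrow : rowS v ≤ Q := by
    have h1 : IsPGroup p (Q ⊔ rowS v : Subgroup (Matrix.SpecialLinearGroup (Fin n) F)) := by
      apply IsPGroup.to_sup_of_normal_right' Q.2 (rowS_pgroup p v)
      intro s hs
      rw [Subgroup.mem_normalizer_iff]
      intro x
      constructor
      · rintro ⟨g, hg, rfl⟩
        refine ⟨g ᵥ* ((s⁻¹ : Matrix.SpecialLinearGroup (Fin n) F) : Matrix (Fin n) (Fin n) F), ?_, ?_⟩
        · rw [← dotProduct_mulVec, hinv' s hs, hg]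
        · rw [conj_tv s hg, (hQ s hs).1]
      · rintro ⟨g, hg, hx⟩
        refine ⟨g ᵥ* (s : Matrix (Fin n) (Fin n) F), ?_, ?_⟩
        · rw [← dotProduct_mulVec, (hQ s hs).1, hg]
        · have : x = s⁻¹ * (s * x * s⁻¹) * s⁻¹⁻¹ := by group
          rw [this, hx, conj_tv _ hg, hinv' s hs, inv_inv]
    have h2 := Q.3 h1 le_sup_left
    rw [← SetLike.coe_set_eq] at h2
    intro x hx
    have : x ∈ (Q ⊔ rowS v : Subgroup (Matrix.SpecialLinearGroup (Fin n) F)) := le_sup_right (α := Subgroup _) hx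
    exact (Set.ext_iff.mp h2 x).1 this
  have hcol : colS f ≤ Q := by
    have h1 : IsPGroup p (Q ⊔ colS f : Subgroup (Matrix.SpecialLinearGroup (Fin n) F)) := by
      apply IsPGroup.to_sup_of_normal_right' Q.2 (colS_pgroup p f)
      intro s hs
      rw [Subgroup.mem_normalizer_iff]
      intro x
      constructor
      · rintro ⟨g, hg, rfl⟩
        refine ⟨(s : Matrix (Fin n) (Fin n) F) *ᵥ g, ?_, ?_⟩
        · rw [dotProduct_mulVec, (hQ s hs).2, hg]
        · rw [conj_tv s hg, hinv s hs]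
      · rintro ⟨g, hg, hx⟩
        refine ⟨((s⁻¹ : Matrix.SpecialLinearGroup (Fin n) F) : Matrix (Fin n) (Fin n) F) *ᵥ g, ?_, ?_⟩
        · rw [dotProduct_mulVec, hinv s hs, hg]
        · have : x = s⁻¹ * (s * x * s⁻¹) * s⁻¹⁻¹ := by group
          rw [this, hx, conj_tv _ hg, inv_inv, (hQ s hs).2]
    have h2 := Q.3 h1 le_sup_left
    rw [← SetLike.coe_set_eq] at h2
    intro x hx
    have : x ∈ (Q ⊔ colS f : Subgroup (Matrix.SpecialLinearGroup (Fin n) F)) := le_sup_right (α := Subgroup _) hx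
    exact (Set.ext_iff.mp h2 x).1 this
  refine ⟨v, f, hv, hf, hvf, hrow, hcol, fun c s hs => ?_⟩
  have h0 : f ⬝ᵥ (c • v) = 0 := by rw [dotProduct_smul, hvf, smul_zero]
  have h1 := conj_tv s h0
  rw [mulVec_smul, (hQ s hs).1, hinv s hs] at h1
  calc s * tv (c • v) f = s * tv (c • v) f * s⁻¹ * s := by group
    _ = tv (c • v) f * s := by rw [h1]

/-- class of a transvection in `PSL` -/
noncomputable def T (v f : Fin n → F) : Matrix.ProjectiveSpecialLinearGroup (Fin n) F := QuotientGroup.mk (tv v f)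

/-- the transvection group -/
def TS (v f : Fin n → F) : Set (Matrix.ProjectiveSpecialLinearGroup (Fin n) F) := {x | ∃ c : F, x = T (c • v) f}

/-- central part of a subgroup -/
def cen {G : Type*} [Group G] (P : Subgroup G) : Set G := {x | x ∈ P ∧ ∀ y ∈ P, y * x = x * y}

theorem cen_map {G : Type*} [Group G] (α : G ≃* G) (P : Subgroup G) : cen (P.map α.toMonoidHom) = α '' cen P := by
  ext x
  constructor
  · rintro ⟨⟨y, hy, rfl⟩, hc⟩
    refine ⟨y, ⟨hy, fun z hz => ?_⟩, rfl⟩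
    apply α.injective
    rw [map_mul, map_mul]
    exact hc (α z) ⟨z, hz, rfl⟩
  · rintro ⟨y, ⟨hy, hc⟩, rfl⟩
    refine ⟨⟨y, hy, rfl⟩, ?_⟩
    rintro _ ⟨z, hz, rfl⟩
    show α z * α y = α y * α z
    rw [← map_mul, hc z hz, map_mul]

theorem cen_image [Finite F] (p : ℕ) [Fact p.Prime] [CharP F p] (hn : 2 ≤ n)
    (Q : Sylow p (Matrix.SpecialLinearGroup (Fin n) F)) {v f : Fin n → F} (hv : v ≠ 0) (hf : f ≠ 0) (hvf : f ⬝ᵥ v = 0)
    (hrow : rowS v ≤ Q) (hcol : colS f ≤ Q) (hc : ∀ c : F, ∀ s ∈ Q, s * tv (c • v) f = tv (c • v) f * s) :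
    cen ((Q : Subgroup (Matrix.SpecialLinearGroup (Fin n) F)).map
      (QuotientGroup.mk' (Subgroup.center (Matrix.SpecialLinearGroup (Fin n) F)))) = TS v f := by
  ext x
  constructor
  · rintro ⟨⟨z, hz, rfl⟩, hx⟩
    obtain ⟨k, hk⟩ := Q.2 ⟨z, hz⟩
    have hk' : z ^ (p ^ k) = 1 := congrArg Subtype.val hk
    have hcomm : ∀ s ∈ Q, z * s = s * z := by
      intro s hs
      have h1 := hx _ ⟨s, hs, rfl⟩
      have h2 : (QuotientGroup.mk (s * z * s⁻¹) : Matrix.ProjectiveSpecialLinearGroup (Fin n) F) = QuotientGroup.mk z := by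
        have h3 : (QuotientGroup.mk s : Matrix.ProjectiveSpecialLinearGroup (Fin n) F) * QuotientGroup.mk z =
          QuotientGroup.mk z * QuotientGroup.mk s := h1
        rw [QuotientGroup.mk_mul, QuotientGroup.mk_mul, h3, QuotientGroup.mk_inv, mul_inv_cancel_right]
      have h3 := mk_inj p (by omega) (s := s * z * s⁻¹) (t := z) (k := k) (by rw [conj_pow, hk', mul_one, mul_inv_cancel]) hk' h2
      calc z * s = s * z * s⁻¹ * s := by rw [h3]
        _ = s * z := by group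
    obtain ⟨c, hc'⟩ := central_eq p hv hf hvf hk' (fun g hg => hcomm _ (hrow ⟨g, hg, rfl⟩))
      (fun w hw => hcomm _ (hcol ⟨w, hw, rfl⟩))
    exact ⟨c, by rw [hc']; rfl⟩
  · rintro ⟨c, rfl⟩
    refine ⟨⟨tv (c • v) f, hcol ⟨c • v, by rw [dotProduct_smul, hvf, smul_zero], rfl⟩, rfl⟩, ?_⟩
    rintro _ ⟨s, hs, rfl⟩
    show (QuotientGroup.mk s : Matrix.ProjectiveSpecialLinearGroup (Fin n) F) * QuotientGroup.mk (tv (c • v) f) =
      QuotientGroup.mk (tv (c • v) f) * QuotientGroup.mk s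
    rw [← QuotientGroup.mk_mul, hc c s hs, QuotientGroup.mk_mul]

theorem TS_congr {v f v' f' : Fin n → F} (hv : Par v v') (hf : Par f f') (hvf : f ⬝ᵥ v = 0) : TS v f = TS v' f' := by
  obtain ⟨c, hc, rfl⟩ := hv
  obtain ⟨d, hd, rfl⟩ := hf
  ext x
  constructor
  · rintro ⟨e, rfl⟩
    refine ⟨e / (c * d), ?_⟩
    unfold T
    rw [← tv_smul d, smul_smul, smul_smul]
    · congr 2; field_simp
    · rw [dotProduct_smul, dotProduct_smul, hvf, smul_zero, smul_zero]
  · rintro ⟨e, rfl⟩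
    refine ⟨d * e * c, ?_⟩
    unfold T
    rw [← tv_smul d, smul_smul, smul_smul]
    rw [dotProduct_smul, dotProduct_smul, hvf, smul_zero, smul_zero]

/-- every transvection group of `PSL` is the centre of some Sylow subgroup -/
theorem exists_sylow_of_TS [Finite F] (p : ℕ) [Fact p.Prime] [CharP F p] (hn : 2 ≤ n) {v f : Fin n → F} (hv : v ≠ 0)
    (hf : f ≠ 0) (hvf : f ⬝ᵥ v = 0) :
    ∃ P : Sylow p (Matrix.ProjectiveSpecialLinearGroup (Fin n) F),
      cen (P : Subgroup (Matrix.ProjectiveSpecialLinearGroup (Fin n) F)) = TS v f := by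
  haveI : Finite (Matrix.SpecialLinearGroup (Fin n) F) := Subtype.finite
  have h1 : IsPGroup p (colS f ⊔ rowS v : Subgroup (Matrix.SpecialLinearGroup (Fin n) F)) := by
    apply IsPGroup.to_sup_of_normal_right' (colS_pgroup p f) (rowS_pgroup p v)
    rintro _ ⟨w, hw, rfl⟩
    have key : ∀ w : Fin n → F, f ⬝ᵥ w = 0 → ∀ x ∈ rowS v, tv w f * x * (tv w f)⁻¹ ∈ rowS v := by
      rintro w hw _ ⟨g, hg, rfl⟩
      have h3 : (tv w f : Matrix (Fin n) (Fin n) F) *ᵥ v = v := by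
        rw [coe_tv hw, add_mulVec, one_mulVec, vecMulVec_mulVec, hvf]; simp
      have h4 : (((tv w f)⁻¹ : Matrix.SpecialLinearGroup (Fin n) F) : Matrix (Fin n) (Fin n) F) *ᵥ v = v := by
        rw [tv_inv hw, coe_tv (by rw [dotProduct_neg, hw, neg_zero]), add_mulVec, one_mulVec, vecMulVec_mulVec, hvf]; simp
      rw [conj_tv _ hg, h3]
      exact ⟨_, by rw [← dotProduct_mulVec, h4, hg], rfl⟩
    rw [Subgroup.mem_normalizer_iff]
    intro x
    refine ⟨key w hw x, fun h => ?_⟩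
    have h5 := key (-w) (by rw [dotProduct_neg, hw, neg_zero]) _ h
    rw [← tv_inv hw] at h5
    have h6 : (tv w f)⁻¹ * (tv w f * x * (tv w f)⁻¹) * (tv w f)⁻¹⁻¹ = x := by group
    rwa [h6] at h5
  obtain ⟨Q, hQ⟩ := h1.exists_le_sylow
  obtain ⟨v', f', hv', hf', hvf', hrow', hcol', hc'⟩ := sylow_center p hn Q
  have hcen := cen_image p hn Q hv' hf' hvf' hrow' hcol' hc'
  refine ⟨Q.mapSurjective (QuotientGroup.mk'_surjective _), ?_⟩
  show cen ((Q : Subgroup (Matrix.SpecialLinearGroup (Fin n) F)).map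
      (QuotientGroup.mk' (Subgroup.center (Matrix.SpecialLinearGroup (Fin n) F)))) = _
  rw [hcen]
  have hrow : rowS v ≤ Q := le_sup_right.trans hQ
  have hcol : colS f ≤ Q := le_sup_left.trans hQ
  obtain ⟨c, hc⟩ := central_eq p hv hf hvf (z := tv v' f') (k := 1) (by rw [pow_one, tv_pow_char p hvf'])
    (fun g hg => by
      have := hc' 1 _ (hrow ⟨g, hg, rfl⟩)
      rw [one_smul] at this
      exact this.symm)
    (fun w hw => by
      have := hc' 1 _ (hcol ⟨w, hw, rfl⟩)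
      rw [one_smul] at this
      exact this.symm)
  have hvf1 : f ⬝ᵥ (c • v) = 0 := by rw [dotProduct_smul, hvf, smul_zero]
  rw [tv_eq_iff hvf' hvf1] at hc
  obtain ⟨d, hd, h3, h4⟩ := vmv_eq hv' hf' hc
  have hc0 : c ≠ 0 := by
    rintro rfl
    rw [zero_smul] at h3
    exact smul_ne_zero hd hv' h3.symm
  have p1 : Par v' v := (show Par v' (c • v) from ⟨d, hd, h3⟩).trans (Par.smul hc0).symm
  exact TS_congr p1 ⟨_, inv_ne_zero hd, h4⟩ hvf'

theorem exists_TS_of_sylow [Finite F] (p : ℕ) [Fact p.Prime] [CharP F p] (hn : 2 ≤ n)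
    (P : Sylow p (Matrix.ProjectiveSpecialLinearGroup (Fin n) F)) :
    ∃ v f : Fin n → F, v ≠ 0 ∧ f ≠ 0 ∧ f ⬝ᵥ v = 0 ∧
      cen (P : Subgroup (Matrix.ProjectiveSpecialLinearGroup (Fin n) F)) = TS v f := by
  haveI : Finite (Matrix.SpecialLinearGroup (Fin n) F) := Subtype.finite
  obtain ⟨Q, rfl⟩ := Sylow.mapSurjective_surjective
    (QuotientGroup.mk'_surjective (Subgroup.center (Matrix.SpecialLinearGroup (Fin n) F))) p P
  obtain ⟨v, f, hv, hf, hvf, hrow, hcol, hc⟩ := sylow_center p hn Q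
  exact ⟨v, f, hv, hf, hvf, cen_image p hn Q hv hf hvf hrow hcol hc⟩

/-- Automorphisms permute the transvection groups. -/
theorem map_TS [Finite F] (p : ℕ) [Fact p.Prime] [CharP F p] (hn : 2 ≤ n)
    (α : MulAut (Matrix.ProjectiveSpecialLinearGroup (Fin n) F)) {v f : Fin n → F} (hv : v ≠ 0) (hf : f ≠ 0)
    (hvf : f ⬝ᵥ v = 0) : ∃ v' f' : Fin n → F, v' ≠ 0 ∧ f' ≠ 0 ∧ f' ⬝ᵥ v' = 0 ∧ α '' TS v f = TS v' f' := by
  haveI : Finite (Matrix.SpecialLinearGroup (Fin n) F) := Subtype.finite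
  haveI : Finite (Matrix.ProjectiveSpecialLinearGroup (Fin n) F) := Quotient.finite _
  obtain ⟨P, hP⟩ := exists_sylow_of_TS p hn hv hf hvf
  have hsurj : Function.Surjective α.toMonoidHom := α.surjective
  obtain ⟨v', f', hv', hf', hvf', h'⟩ := exists_TS_of_sylow p hn (P.mapSurjective hsurj)
  refine ⟨v', f', hv', hf', hvf', ?_⟩
  rw [← hP, ← cen_map, ← h']
  rfl

end

end CfsgLib.AutPSL27
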