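import Cfsg.Agent.LibAutPSL27c
import Cfsg.Agent.LibH22SL

set_option autoImplicit false

/-! Explicit automorphisms of `SL_n` and `PSL_n`. -/

namespace CfsgLib.AutPSL27

open Matrix

section General

variable {G : Type*} [Group G]

/-- the automorphism of `G / Z(G)` induced by an automorphism of `G` -/
def lft : MulAut G →* MulAut (G ⧸ Subgroup.center G) where
  toFun e := QuotientGroup.congr _ _ e (Subgroup.characteristic_iff_map_eq.mp inferInstance e)
  map_one' := by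
    apply MulEquiv.ext
    intro x
    induction x using QuotientGroup.induction_on
    rfl
  map_mul' e e' := by
    apply MulEquiv.ext
    intro x
    induction x using QuotientGroup.induction_on
    rfl

@[simp] theorem lft_mk (e : MulAut G) (s : G) : lft e (QuotientGroup.mk s) = QuotientGroup.mk (e s) := rfl

end General

variable {F : Type*} [Field F] {n : ℕ}

/-- conjugation by an invertible matrix on `SL` -/
noncomputable def cj : GL (Fin n) F →* MulAut (Matrix.SpecialLinearGroup (Fin n) F) where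
  toFun g :=
    { toFun := fun s => ⟨(g : Matrix (Fin n) (Fin n) F) * (s : Matrix (Fin n) (Fin n) F) * ((g⁻¹ : GL (Fin n) F) : Matrix (Fin n) (Fin n) F), by
        rw [det_mul, det_mul, s.2, mul_one, ← det_mul, Units.mul_inv, det_one]⟩
      invFun := fun s => ⟨((g⁻¹ : GL (Fin n) F) : Matrix (Fin n) (Fin n) F) * (s : Matrix (Fin n) (Fin n) F) * (g : Matrix (Fin n) (Fin n) F), by
        rw [det_mul, det_mul, s.2, mul_one, ← det_mul, Units.inv_mul, det_one]⟩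
      left_inv := fun s => by
        apply sl_ext
        show ((g⁻¹ : GL (Fin n) F) : Matrix (Fin n) (Fin n) F) * ((g : Matrix (Fin n) (Fin n) F) * (s : Matrix (Fin n) (Fin n) F) * ((g⁻¹ : GL (Fin n) F) : Matrix (Fin n) (Fin n) F)) * (g : Matrix (Fin n) (Fin n) F) = s
        rw [mul_assoc, mul_assoc, mul_assoc, Units.inv_mul, mul_one, ← mul_assoc, Units.inv_mul, one_mul]
      right_inv := fun s => by
        apply sl_ext
        show (g : Matrix (Fin n) (Fin n) F) * (((g⁻¹ : GL (Fin n) F) : Matrix (Fin n) (Fin n) F) * (s : Matrix (Fin n) (Fin n) F) * (g : Matrix (Fin n) (Fin n) F)) * ((g⁻¹ : GL (Fin n) F) : Matrix (Fin n) (Fin n) F) = s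
        rw [mul_assoc, mul_assoc, mul_assoc, Units.mul_inv, mul_one, ← mul_assoc, Units.mul_inv, one_mul]
      map_mul' := fun s t => by
        apply sl_ext
        show (g : Matrix (Fin n) (Fin n) F) * ((s : Matrix (Fin n) (Fin n) F) * (t : Matrix (Fin n) (Fin n) F)) * ((g⁻¹ : GL (Fin n) F) : Matrix (Fin n) (Fin n) F) =
          ((g : Matrix (Fin n) (Fin n) F) * (s : Matrix (Fin n) (Fin n) F) * ((g⁻¹ : GL (Fin n) F) : Matrix (Fin n) (Fin n) F)) *
          ((g : Matrix (Fin n) (Fin n) F) * (t : Matrix (Fin n) (Fin n) F) * ((g⁻¹ : GL (Fin n) F) : Matrix (Fin n) (Fin n) F))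
        calc _ = (g : Matrix (Fin n) (Fin n) F) * (s : Matrix (Fin n) (Fin n) F) * 1 * (t : Matrix (Fin n) (Fin n) F) * ((g⁻¹ : GL (Fin n) F) : Matrix (Fin n) (Fin n) F) := by
              rw [mul_one, mul_assoc, mul_assoc, mul_assoc, mul_assoc]
          _ = _ := by
              rw [← Units.inv_mul g]; simp only [mul_assoc] }
  map_one' := by
    apply MulEquiv.ext
    intro s
    apply sl_ext
    show ((1 : GL (Fin n) F) : Matrix (Fin n) (Fin n) F) * (s : Matrix (Fin n) (Fin n) F) * (((1 : GL (Fin n) F)⁻¹ : GL (Fin n) F) : Matrix (Fin n) (Fin n) F) = s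
    rw [inv_one, Units.val_one, one_mul, mul_one]
  map_mul' g h := by
    apply MulEquiv.ext
    intro s
    apply sl_ext
    show ((g * h : GL (Fin n) F) : Matrix (Fin n) (Fin n) F) * (s : Matrix (Fin n) (Fin n) F) * (((g * h)⁻¹ : GL (Fin n) F) : Matrix (Fin n) (Fin n) F) =
      (g : Matrix (Fin n) (Fin n) F) * ((h : Matrix (Fin n) (Fin n) F) * (s : Matrix (Fin n) (Fin n) F) * ((h⁻¹ : GL (Fin n) F) : Matrix (Fin n) (Fin n) F)) * ((g⁻¹ : GL (Fin n) F) : Matrix (Fin n) (Fin n) F)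
    rw [_root_.mul_inv_rev, Units.val_mul, Units.val_mul]; simp only [mul_assoc]

theorem coe_cj (g : GL (Fin n) F) (s : Matrix.SpecialLinearGroup (Fin n) F) :
    ((cj g s : Matrix.SpecialLinearGroup (Fin n) F) : Matrix (Fin n) (Fin n) F) =
      (g : Matrix (Fin n) (Fin n) F) * (s : Matrix (Fin n) (Fin n) F) * ((g⁻¹ : GL (Fin n) F) : Matrix (Fin n) (Fin n) F) := rfl

/-- entrywise field automorphism on `SL` -/
noncomputable def fl : (F ≃+* F) →* MulAut (Matrix.SpecialLinearGroup (Fin n) F) where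
  toFun σ :=
    { toFun := fun s => Matrix.SpecialLinearGroup.map (σ : F →+* F) s
      invFun := fun s => Matrix.SpecialLinearGroup.map (σ.symm : F →+* F) s
      left_inv := fun s => by
        apply sl_ext
        ext i j
        exact σ.symm_apply_apply _
      right_inv := fun s => by
        apply sl_ext
        ext i j
        exact σ.apply_symm_apply _
      map_mul' := fun s t => map_mul _ s t }
  map_one' := by
    apply MulEquiv.ext
    intro s
    rfl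
  map_mul' σ τ := by
    apply MulEquiv.ext
    intro s
    rfl

theorem coe_fl (σ : F ≃+* F) (s : Matrix.SpecialLinearGroup (Fin n) F) :
    ((fl σ s : Matrix.SpecialLinearGroup (Fin n) F) : Matrix (Fin n) (Fin n) F) = (s : Matrix (Fin n) (Fin n) F).map σ := rfl

theorem transpose_inv' (s : Matrix.SpecialLinearGroup (Fin n) F) : (s.transpose)⁻¹ = (s⁻¹).transpose := by
  apply inv_eq_of_mul_eq_one_right
  apply sl_ext
  rw [Matrix.SpecialLinearGroup.coe_mul, Matrix.SpecialLinearGroup.coe_transpose, Matrix.SpecialLinearGroup.coe_transpose,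
    ← transpose_mul, ← Matrix.SpecialLinearGroup.coe_mul, inv_mul_cancel, Matrix.SpecialLinearGroup.coe_one, transpose_one]

theorem transpose_transpose' (s : Matrix.SpecialLinearGroup (Fin n) F) : s.transpose.transpose = s := by
  apply sl_ext
  rw [Matrix.SpecialLinearGroup.coe_transpose, Matrix.SpecialLinearGroup.coe_transpose, transpose_transpose]

/-- inverse-transpose on `SL` -/
noncomputable def it : MulAut (Matrix.SpecialLinearGroup (Fin n) F) where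
  toFun s := (s⁻¹).transpose
  invFun s := (s⁻¹).transpose
  left_inv s := by
    show (((s⁻¹).transpose)⁻¹).transpose = s
    rw [transpose_inv', inv_inv, transpose_transpose']
  right_inv s := by
    show (((s⁻¹).transpose)⁻¹).transpose = s
    rw [transpose_inv', inv_inv, transpose_transpose']
  map_mul' s t := by
    apply sl_ext
    show (((s * t)⁻¹ : Matrix.SpecialLinearGroup (Fin n) F) : Matrix (Fin n) (Fin n) F)ᵀ =
      (((s)⁻¹ : Matrix.SpecialLinearGroup (Fin n) F) : Matrix (Fin n) (Fin n) F)ᵀ * (((t)⁻¹ : Matrix.SpecialLinearGroup (Fin n) F) : Matrix (Fin n) (Fin n) F)ᵀ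
    rw [← transpose_mul, ← Matrix.SpecialLinearGroup.coe_mul, _root_.mul_inv_rev]

theorem coe_it (s : Matrix.SpecialLinearGroup (Fin n) F) :
    ((it s : Matrix.SpecialLinearGroup (Fin n) F) : Matrix (Fin n) (Fin n) F) =
      ((s⁻¹ : Matrix.SpecialLinearGroup (Fin n) F) : Matrix (Fin n) (Fin n) F)ᵀ := rfl

theorem it_mul_it : (it : MulAut (Matrix.SpecialLinearGroup (Fin n) F)) * it = 1 := by
  apply MulEquiv.ext
  intro s
  show (((s⁻¹).transpose)⁻¹).transpose = s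
  rw [transpose_inv', inv_inv, transpose_transpose']

/-- the inverse transpose on `GL` -/
noncomputable def itGL (g : GL (Fin n) F) : GL (Fin n) F :=
  ⟨((g⁻¹ : GL (Fin n) F) : Matrix (Fin n) (Fin n) F)ᵀ, (g : Matrix (Fin n) (Fin n) F)ᵀ, by
    rw [← transpose_mul, Units.mul_inv, transpose_one], by
    rw [← transpose_mul, Units.inv_mul, transpose_one]⟩

theorem it_mul_cj (g : GL (Fin n) F) : it * cj g = cj (itGL g) * it := by
  apply MulEquiv.ext
  intro s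
  apply sl_ext
  show (((cj g s)⁻¹ : Matrix.SpecialLinearGroup (Fin n) F) : Matrix (Fin n) (Fin n) F)ᵀ =
    ((g⁻¹ : GL (Fin n) F) : Matrix (Fin n) (Fin n) F)ᵀ * ((s⁻¹ : Matrix.SpecialLinearGroup (Fin n) F) : Matrix (Fin n) (Fin n) F)ᵀ *
      (g : Matrix (Fin n) (Fin n) F)ᵀ
  rw [← map_inv, coe_cj, transpose_mul, transpose_mul, mul_assoc]

theorem fl_mul_cj (σ : F ≃+* F) (g : GL (Fin n) F) :
    fl σ * cj g = cj (Matrix.GeneralLinearGroup.map (σ : F →+* F) g) * fl σ := by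
  apply MulEquiv.ext
  intro s
  apply sl_ext
  show ((g : Matrix (Fin n) (Fin n) F) * (s : Matrix (Fin n) (Fin n) F) * ((g⁻¹ : GL (Fin n) F) : Matrix (Fin n) (Fin n) F)).map σ =
    (Matrix.GeneralLinearGroup.map (σ : F →+* F) g : Matrix (Fin n) (Fin n) F) * (s : Matrix (Fin n) (Fin n) F).map σ *
      (((Matrix.GeneralLinearGroup.map (σ : F →+* F) g)⁻¹ : GL (Fin n) F) : Matrix (Fin n) (Fin n) F)
  rw [← map_inv]
  show ((g : Matrix (Fin n) (Fin n) F) * (s : Matrix (Fin n) (Fin n) F) * ((g⁻¹ : GL (Fin n) F) : Matrix (Fin n) (Fin n) F)).map (σ : F →+* F) =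
    (g : Matrix (Fin n) (Fin n) F).map (σ : F →+* F) * (s : Matrix (Fin n) (Fin n) F).map (σ : F →+* F) *
      (((g⁻¹ : GL (Fin n) F) : Matrix (Fin n) (Fin n) F)).map (σ : F →+* F)
  rw [Matrix.map_mul, Matrix.map_mul]

theorem it_mul_fl (σ : F ≃+* F) : (it : MulAut (Matrix.SpecialLinearGroup (Fin n) F)) * fl σ = fl σ * it := by
  apply MulEquiv.ext
  intro s
  apply sl_ext
  show (((fl σ s)⁻¹ : Matrix.SpecialLinearGroup (Fin n) F) : Matrix (Fin n) (Fin n) F)ᵀ =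
    (((s⁻¹ : Matrix.SpecialLinearGroup (Fin n) F) : Matrix (Fin n) (Fin n) F)ᵀ).map σ
  rw [← map_inv, coe_fl, transpose_map]

theorem cj_tv (g : GL (Fin n) F) {v f : Fin n → F} (h : f ⬝ᵥ v = 0) :
    cj g (tv v f) = tv ((g : Matrix (Fin n) (Fin n) F) *ᵥ v) (f ᵥ* ((g⁻¹ : GL (Fin n) F) : Matrix (Fin n) (Fin n) F)) := by
  have h' : (f ᵥ* ((g⁻¹ : GL (Fin n) F) : Matrix (Fin n) (Fin n) F)) ⬝ᵥ ((g : Matrix (Fin n) (Fin n) F) *ᵥ v) = 0 := by
    rw [← dotProduct_mulVec, mulVec_mulVec, Units.inv_mul, one_mulVec, h]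
  apply sl_ext
  rw [coe_cj, coe_tv h, coe_tv h', mul_add, add_mul, mul_one, Units.mul_inv, mul_vecMulVec, vecMulVec_mul]

theorem fl_tv (σ : F ≃+* F) {v f : Fin n → F} (h : f ⬝ᵥ v = 0) :
    fl σ (tv v f) = tv (σ ∘ v) (σ ∘ f) := by
  have h' : (σ ∘ f) ⬝ᵥ (σ ∘ v) = 0 := by
    have := congrArg σ h
    rw [map_zero] at this
    rw [← this]
    unfold dotProduct
    rw [map_sum]
    simp
  apply sl_ext
  rw [coe_fl, coe_tv h, coe_tv h']
  ext i j
  by_cases hij : i = j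
  · subst hij; simp [vecMulVec_apply]
  · simp [vecMulVec_apply, hij]

theorem it_tv {v f : Fin n → F} (h : f ⬝ᵥ v = 0) : it (tv v f) = tv (-f) v := by
  have h' : v ⬝ᵥ (-f) = 0 := by rw [dotProduct_neg, dotProduct_comm, h, neg_zero]
  have h'' : f ⬝ᵥ (-v) = 0 := by rw [dotProduct_neg, h, neg_zero]
  apply sl_ext
  rw [coe_it, tv_inv h, coe_tv h', coe_tv h'', transpose_add, transpose_one, transpose_vecMulVec]
  ext i j
  simp [vecMulVec_apply]


/-! ### transvections in `PSL` -/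

theorem T_inj (p : ℕ) [Fact p.Prime] [CharP F p] (hn : 1 ≤ n) {v f w g : Fin n → F} (h : f ⬝ᵥ v = 0) (h' : g ⬝ᵥ w = 0)
    (e : T v f = T w g) : tv v f = tv w g :=
  mk_inj p hn (k := 1) (by rw [pow_one, tv_pow_char p h]) (by rw [pow_one, tv_pow_char p h']) e

theorem T_comm_tv (p : ℕ) [Fact p.Prime] [CharP F p] (hn : 1 ≤ n) {v f w g : Fin n → F} (h : f ⬝ᵥ v = 0) (h' : g ⬝ᵥ w = 0)
    (e : T v f * T w g = T w g * T v f) : tv v f * tv w g = tv w g * tv v f := by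
  have h1 : (QuotientGroup.mk (tv v f * tv w g * (tv v f)⁻¹) : Matrix.ProjectiveSpecialLinearGroup (Fin n) F) =
      QuotientGroup.mk (tv w g) := by
    rw [QuotientGroup.mk_mul, QuotientGroup.mk_mul, QuotientGroup.mk_inv]
    show T v f * T w g * (T v f)⁻¹ = T w g
    rw [e, mul_inv_cancel_right]
  have h2 := mk_inj p hn (k := 1) (by rw [pow_one, conj_pow, tv_pow_char p h', mul_one, mul_inv_cancel])
    (by rw [pow_one, tv_pow_char p h']) h1
  calc tv v f * tv w g = tv v f * tv w g * (tv v f)⁻¹ * tv v f := by group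
    _ = _ := by rw [h2]

theorem tv_comm_iff {v f w g : Fin n → F} (hv : v ≠ 0) (hf : f ≠ 0) (hw : w ≠ 0) (hg : g ≠ 0)
    (h : f ⬝ᵥ v = 0) (h' : g ⬝ᵥ w = 0) : tv v f * tv w g = tv w g * tv v f ↔ f ⬝ᵥ w = 0 ∧ g ⬝ᵥ v = 0 := by
  have key : tv v f * tv w g = tv w g * tv v f ↔ vecMulVec ((f ⬝ᵥ w) • v) g = vecMulVec ((g ⬝ᵥ v) • w) f := by
    have : ∀ P Q : Matrix (Fin n) (Fin n) F, (1 + P) * (1 + Q) = (1 + Q) * (1 + P) ↔ P * Q = Q * P := by
      intro P Q
      have e3 : (1 + P) * (1 + Q) = P * Q + (1 + P + Q) := by noncomm_ring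
      have e4 : (1 + Q) * (1 + P) = Q * P + (1 + P + Q) := by noncomm_ring
      rw [e3, e4, add_left_inj]
    constructor
    · intro h1
      have h2 := congrArg (fun A : Matrix.SpecialLinearGroup (Fin n) F => (A : Matrix (Fin n) (Fin n) F)) h1
      simp only [Matrix.SpecialLinearGroup.coe_mul, coe_tv h, coe_tv h'] at h2
      rw [this, vecMulVec_mul_vecMulVec, vecMulVec_mul_vecMulVec, vecMulVec_smul, vecMulVec_smul, ← smul_vecMulVec,
        ← smul_vecMulVec] at h2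
      exact h2
    · intro h1
      apply sl_ext
      rw [Matrix.SpecialLinearGroup.coe_mul, Matrix.SpecialLinearGroup.coe_mul, coe_tv h, coe_tv h', this,
        vecMulVec_mul_vecMulVec, vecMulVec_mul_vecMulVec, vecMulVec_smul, vecMulVec_smul, ← smul_vecMulVec,
        ← smul_vecMulVec]
      exact h1
  rw [key]
  constructor
  · intro e
    by_cases h1 : f ⬝ᵥ w = 0
    · refine ⟨h1, ?_⟩
      rw [h1, zero_smul, zero_vecMulVec] at e
      have := e.symm
      rw [vecMulVec_eq_zero, smul_eq_zero] at this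
      rcases this with (h2 | h2) | h2
      · exact h2
      · exact absurd h2 hw
      · exact absurd h2 hf
    · exfalso
      obtain ⟨k, hk, hk1, hk2⟩ := vmv_eq (smul_ne_zero h1 hv) hg e
      apply h1
      rw [hk2, smul_dotProduct, h', smul_zero]
  · rintro ⟨h1, h2⟩
    rw [h1, h2, zero_smul, zero_smul, zero_vecMulVec, zero_vecMulVec]

theorem T_mul_same_f {v w f : Fin n → F} (h : f ⬝ᵥ v = 0) (h' : f ⬝ᵥ w = 0) : T v f * T w f = T (v + w) f := by
  unfold T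
  rw [← QuotientGroup.mk_mul, tv_mul_same_f h h']

theorem T_mul_same_v {v f g : Fin n → F} (h : f ⬝ᵥ v = 0) (h' : g ⬝ᵥ v = 0) : T v f * T v g = T v (f + g) := by
  unfold T
  rw [← QuotientGroup.mk_mul, tv_mul_same_v h h']

theorem T_smul (c : F) {v f : Fin n → F} (h : f ⬝ᵥ v = 0) : T (c • v) f = T v (c • f) := by
  unfold T
  rw [tv_smul _ _ _ h]

theorem T_zero_left (f : Fin n → F) : T 0 f = 1 := by
  unfold T
  rw [tv_zero_left]; rfl

theorem T_zero_right (v : Fin n → F) : T v 0 = 1 := by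
  unfold T
  rw [tv_zero_right]; rfl

theorem T_eq_iff (p : ℕ) [Fact p.Prime] [CharP F p] (hn : 1 ≤ n) {v f w g : Fin n → F} (h : f ⬝ᵥ v = 0) (h' : g ⬝ᵥ w = 0) :
    T v f = T w g ↔ vecMulVec v f = vecMulVec w g := by
  rw [← tv_eq_iff h h']
  exact ⟨T_inj p hn h h', fun e => by unfold T; rw [e]⟩

theorem T_ne_one (p : ℕ) [Fact p.Prime] [CharP F p] (hn : 1 ≤ n) {v f : Fin n → F} (hv : v ≠ 0) (hf : f ≠ 0) (h : f ⬝ᵥ v = 0) :
    T v f ≠ 1 := by
  intro e
  rw [← T_zero_left f, T_eq_iff p hn h (dotProduct_zero f), zero_vecMulVec, vecMulVec_eq_zero] at e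
  exact e.elim hv hf

theorem T_par (p : ℕ) [Fact p.Prime] [CharP F p] (hn : 1 ≤ n) {v f w g : Fin n → F} (hv : v ≠ 0) (hf : f ≠ 0)
    (h : f ⬝ᵥ v = 0) (h' : g ⬝ᵥ w = 0) (e : T v f = T w g) : Par v w ∧ Par f g := by
  rw [T_eq_iff p hn h h'] at e
  obtain ⟨k, hk, hk1, hk2⟩ := vmv_eq hv hf e
  exact ⟨⟨k, hk, hk1⟩, ⟨k⁻¹, inv_ne_zero hk, hk2⟩⟩

/-- conjugation formula -/
theorem T_conj {v f w g : Fin n → F} (h : f ⬝ᵥ v = 0) (h' : g ⬝ᵥ w = 0) :
    T v f * T w g * (T v f)⁻¹ = T (w + (f ⬝ᵥ w) • v) (g - (g ⬝ᵥ v) • f) := by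
  unfold T
  rw [← QuotientGroup.mk_mul, ← QuotientGroup.mk_inv, ← QuotientGroup.mk_mul, conj_tv _ h', tv_inv h, coe_tv h,
    coe_tv (by rw [dotProduct_neg, h, neg_zero])]
  congr 2
  · rw [add_mulVec, one_mulVec, vecMulVec_mulVec, op_smul_eq_smul]
  · rw [vecMul_add, vecMul_one, vecMul_vecMulVec, dotProduct_neg, neg_smul, ← sub_eq_add_neg]

theorem T_comm_iff (p : ℕ) [Fact p.Prime] [CharP F p] (hn : 1 ≤ n) {v f w g : Fin n → F} (hv : v ≠ 0) (hf : f ≠ 0)
    (hw : w ≠ 0) (hg : g ≠ 0) (h : f ⬝ᵥ v = 0) (h' : g ⬝ᵥ w = 0) :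
    T v f * T w g = T w g * T v f ↔ f ⬝ᵥ w = 0 ∧ g ⬝ᵥ v = 0 := by
  rw [← tv_comm_iff hv hf hw hg h h']
  refine ⟨T_comm_tv p hn h h', fun e => ?_⟩
  unfold T
  rw [← QuotientGroup.mk_mul, e, QuotientGroup.mk_mul]

theorem T_par_of_comm (p : ℕ) [Fact p.Prime] [CharP F p] (hn : 1 ≤ n) {a b c d x y : Fin n → F} (ha : a ≠ 0) (hb : b ≠ 0)
    (hc : c ≠ 0) (hd : d ≠ 0) (hab : b ⬝ᵥ a = 0) (hcd : d ⬝ᵥ c = 0) (hxy : y ⬝ᵥ x = 0)
    (hcomm : T a b * T c d = T c d * T a b) (hprod : T a b * T c d = T x y) : Par a c ∨ Par b d := by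
  have h1 := T_comm_tv p hn hab hcd hcomm
  refine par_of_comm ha hb hc hd hab hcd hxy h1 ?_
  refine mk_inj p hn (k := 1) ?_ (by rw [pow_one, tv_pow_char p hxy]) ?_
  · rw [pow_one, (show Commute (tv a b) (tv c d) from h1).mul_pow, tv_pow_char p hab, tv_pow_char p hcd, one_mul]
  · rw [QuotientGroup.mk_mul]
    exact hprod

/-- image of a transvection under an automorphism -/
theorem map_T [Finite F] (p : ℕ) [Fact p.Prime] [CharP F p] (hn : 2 ≤ n)
    (α : MulAut (Matrix.ProjectiveSpecialLinearGroup (Fin n) F)) {v f : Fin n → F} (hv : v ≠ 0) (hf : f ≠ 0)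
    (hvf : f ⬝ᵥ v = 0) : ∃ v' f' : Fin n → F, v' ≠ 0 ∧ f' ≠ 0 ∧ f' ⬝ᵥ v' = 0 ∧ α (T v f) = T v' f' ∧ α '' TS v f = TS v' f' := by
  obtain ⟨v', f', hv', hf', hvf', h⟩ := map_TS p hn α hv hf hvf
  have h1 : α (T v f) ∈ TS v' f' := by
    rw [← h]
    exact ⟨T v f, ⟨1, by rw [one_smul]⟩, rfl⟩
  obtain ⟨c, hc⟩ := h1
  have hc0 : c ≠ 0 := by
    rintro rfl
    rw [zero_smul, T_zero_left] at hc
    exact T_ne_one p (by omega) hv hf hvf (α.injective (by rw [hc, map_one]))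
  refine ⟨c • v', f', smul_ne_zero hc0 hv', hf', by rw [dotProduct_smul, hvf', smul_zero], hc, ?_⟩
  rw [h]
  exact TS_congr (Par.smul hc0) (Par.refl _) hvf'

theorem TS_par (p : ℕ) [Fact p.Prime] [CharP F p] (hn : 1 ≤ n) {v f w g : Fin n → F} (hv : v ≠ 0) (hf : f ≠ 0)
    (h : f ⬝ᵥ v = 0) (h' : g ⬝ᵥ w = 0) (e : TS v f = TS w g) : Par v w ∧ Par f g := by
  have h1 : T v f ∈ TS w g := by rw [← e]; exact ⟨1, by rw [one_smul]⟩
  obtain ⟨c, hc⟩ := h1
  have hc0 : c ≠ 0 := by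
    rintro rfl
    rw [zero_smul, T_zero_left] at hc
    exact T_ne_one p hn hv hf h hc
  obtain ⟨p1, p2⟩ := T_par p hn hv hf h (by rw [dotProduct_smul, h', smul_zero]) hc
  exact ⟨p1.trans (Par.smul hc0).symm, p2⟩

/-- **Lemma B** -/
theorem map_col [Finite F] (p : ℕ) [Fact p.Prime] [CharP F p] (hn : 3 ≤ n)
    (α : MulAut (Matrix.ProjectiveSpecialLinearGroup (Fin n) F)) {f w₁ w₂ : Fin n → F} (hf : f ≠ 0)
    (hw₁ : w₁ ≠ 0) (hw₂ : w₂ ≠ 0) (h₁ : f ⬝ᵥ w₁ = 0) (h₂ : f ⬝ᵥ w₂ = 0) (hpar : ¬ Par w₁ w₂) :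
    (∃ f' : Fin n → F, f' ≠ 0 ∧ ∀ w : Fin n → F, f ⬝ᵥ w = 0 → ∃ w' : Fin n → F, f' ⬝ᵥ w' = 0 ∧ α (T w f) = T w' f') ∨
    (∃ v' : Fin n → F, v' ≠ 0 ∧ ∀ w : Fin n → F, f ⬝ᵥ w = 0 → ∃ g' : Fin n → F, g' ⬝ᵥ v' = 0 ∧ α (T w f) = T v' g') := by
  have hn1 : 1 ≤ n := by omega
  -- the basic dichotomy
  have pair : ∀ w w' a b c d : Fin n → F, w ≠ 0 → w' ≠ 0 → f ⬝ᵥ w = 0 → f ⬝ᵥ w' = 0 → ¬ Par w w' →
      a ≠ 0 → b ≠ 0 → b ⬝ᵥ a = 0 → α '' TS w f = TS a b → α (T w f) = T a b →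
      c ≠ 0 → d ≠ 0 → d ⬝ᵥ c = 0 → α '' TS w' f = TS c d → α (T w' f) = T c d →
      (Par a c ∧ ¬ Par b d) ∨ (¬ Par a c ∧ Par b d) := by
    intro w w' a b c d hw hw' h h' hp ha hb hab e1 e2 hc hd hcd e3 e4
    have hsum : w + w' ≠ 0 := by
      intro h0
      apply hp
      refine ⟨-1, by simp, ?_⟩
      rw [neg_one_smul]
      exact (neg_eq_of_add_eq_zero_right h0).symm
    obtain ⟨x, y, -, -, hxy, e5, -⟩ := map_T p (by omega) α hsum hf (by rw [dotProduct_add, h, h', add_zero])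
    have hnot : ¬ (Par a c ∧ Par b d) := by
      rintro ⟨p1, p2⟩
      have : TS a b = TS c d := TS_congr p1 p2 hab
      rw [← e1, ← e3] at this
      have := Set.image_injective.2 α.injective this
      exact hp (TS_par p hn1 hw hf h h' this).1
    have := T_par_of_comm p hn1 ha hb hc hd hab hcd hxy (by
      rw [← e2, ← e4, ← map_mul, ← map_mul, T_mul_same_f h h', T_mul_same_f h' h, add_comm]) (by
      rw [← e2, ← e4, ← map_mul, T_mul_same_f h h', e5])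
    tauto
  obtain ⟨a₁, b₁, ha₁, hb₁, hab₁, e₁, t₁⟩ := map_T p (by omega) α hw₁ hf h₁
  obtain ⟨a₂, b₂, ha₂, hb₂, hab₂, e₂, t₂⟩ := map_T p (by omega) α hw₂ hf h₂
  have p12 := pair w₁ w₂ a₁ b₁ a₂ b₂ hw₁ hw₂ h₁ h₂ hpar ha₁ hb₁ hab₁ t₁ e₁ ha₂ hb₂ hab₂ t₂ e₂
  rcases p12 with ⟨q1, q2⟩ | ⟨q1, q2⟩
  · right
    refine ⟨a₁, ha₁, fun w hw => ?_⟩
    by_cases hw0 : w = 0
    · exact ⟨0, zero_dotProduct _, by rw [hw0, T_zero_left, T_zero_right, map_one]⟩
    obtain ⟨a, b, ha, hb, hab, e, t⟩ := map_T p (by omega) α hw0 hf hw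
    have hpa : Par a₁ a := by
      by_cases hp1 : Par w₁ w
      · have : TS w₁ f = TS w f := TS_congr hp1 (Par.refl _) h₁
        have h3 : TS a₁ b₁ = TS a b := by rw [← t₁, ← t, this]
        exact (TS_par p hn1 ha₁ hb₁ hab₁ hab h3).1
      rcases pair w₁ w a₁ b₁ a b hw₁ hw0 h₁ hw hp1 ha₁ hb₁ hab₁ t₁ e₁ ha hb hab t e with ⟨q3, -⟩ | ⟨q3, q4⟩
      · exact q3
      by_cases hp2 : Par w₂ w
      · have : TS w₂ f = TS w f := TS_congr hp2 (Par.refl _) h₂
        have h3 : TS a₂ b₂ = TS a b := by rw [← t₂, ← t, this]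
        exact q1.trans (TS_par p hn1 ha₂ hb₂ hab₂ hab h3).1
      rcases pair w₂ w a₂ b₂ a b hw₂ hw0 h₂ hw hp2 ha₂ hb₂ hab₂ t₂ e₂ ha hb hab t e with ⟨q5, -⟩ | ⟨q5, q6⟩
      · exact q1.trans q5
      · exact absurd (q4.trans q6.symm) q2
    obtain ⟨c, hc, rfl⟩ := hpa
    refine ⟨c • b, ?_, ?_⟩
    · rw [dotProduct_smul] at hab
      rw [smul_dotProduct]; exact hab
    · rw [e, T_smul]
      rw [dotProduct_smul, smul_eq_zero] at hab
      exact hab.resolve_left hc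
  · left
    refine ⟨b₁, hb₁, fun w hw => ?_⟩
    by_cases hw0 : w = 0
    · exact ⟨0, dotProduct_zero _, by rw [hw0, T_zero_left, T_zero_left, map_one]⟩
    obtain ⟨a, b, ha, hb, hab, e, t⟩ := map_T p (by omega) α hw0 hf hw
    have hpb : Par b₁ b := by
      by_cases hp1 : Par w₁ w
      · have : TS w₁ f = TS w f := TS_congr hp1 (Par.refl _) h₁
        have h3 : TS a₁ b₁ = TS a b := by rw [← t₁, ← t, this]
        exact (TS_par p hn1 ha₁ hb₁ hab₁ hab h3).2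
      rcases pair w₁ w a₁ b₁ a b hw₁ hw0 h₁ hw hp1 ha₁ hb₁ hab₁ t₁ e₁ ha hb hab t e with ⟨q3, q4⟩ | ⟨-, q4⟩
      · by_cases hp2 : Par w₂ w
        · have : TS w₂ f = TS w f := TS_congr hp2 (Par.refl _) h₂
          have h3 : TS a₂ b₂ = TS a b := by rw [← t₂, ← t, this]
          exact q2.trans (TS_par p hn1 ha₂ hb₂ hab₂ hab h3).2
        rcases pair w₂ w a₂ b₂ a b hw₂ hw0 h₂ hw hp2 ha₂ hb₂ hab₂ t₂ e₂ ha hb hab t e with ⟨q5, -⟩ | ⟨-, q6⟩
        · exact absurd (q3.trans q5.symm) q1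
        · exact q2.trans q6
      · exact q4
    obtain ⟨c, hc, rfl⟩ := hpb
    have hab' : b₁ ⬝ᵥ a = 0 := by
      rw [smul_dotProduct, smul_eq_zero] at hab
      exact hab.resolve_left hc
    refine ⟨c • a, ?_, ?_⟩
    · rw [dotProduct_smul, hab', smul_zero]
    · rw [e, T_smul _ hab']

end CfsgLib.AutPSL27
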