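import Cfsg.Agent.LibAutPSL27d

set_option autoImplicit false

/-! Semilinear maps, block matrices and the main theorem for `n ≥ 3`. -/

namespace CfsgLib.AutPSL27

open Matrix

variable {F : Type*} [Field F]

theorem exists_semilinear [Finite F] {m : ℕ} (hm : 2 ≤ m) (φ : (Fin m → F) → (Fin m → F))
    (hadd : ∀ u v, φ (u + v) = φ u + φ v) (hinj : ∀ w, φ w = 0 → w = 0)
    (hline : ∀ (w : Fin m → F) (c : F), ∃ c' : F, φ (c • w) = c' • φ w)
    (hpar : ∀ w w', φ w ≠ 0 → Par (φ w) (φ w') → Par w w') :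
    ∃ (σ : F ≃+* F) (g : GL (Fin m) F), ∀ w, φ w = (g : Matrix (Fin m) (Fin m) F) *ᵥ (σ ∘ w) := by
  have h0 : φ 0 = 0 := by
    have := hadd 0 0
    rw [add_zero] at this
    exact left_eq_add.mp this
  choose l hl using hline
  have key : ∀ w w', w ≠ 0 → w' ≠ 0 → ¬ Par w w' → ∀ c, l w c = l w' c := by
    intro w w' hw hw' hp c
    have hφ : φ w ≠ 0 := fun h => hw (hinj _ h)
    have hφ' : φ w' ≠ 0 := fun h => hw' (hinj _ h)
    have e1 : φ (c • (w + w')) = l (w + w') c • (φ w + φ w') := by rw [hl, hadd]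
    have e2 : φ (c • (w + w')) = l w c • φ w + l w' c • φ w' := by rw [smul_add, hadd, hl, hl]
    have e3 : (l (w + w') c - l w c) • φ w = (l w' c - l (w + w') c) • φ w' := by
      have : l (w + w') c • (φ w + φ w') = l w c • φ w + l w' c • φ w' := by rw [← e1, e2]
      rw [sub_smul, sub_smul, sub_eq_sub_iff_add_eq_add, ← smul_add, this, add_comm]
    have hA : l (w + w') c - l w c = 0 := by
      by_contra hA
      have hB : l w' c - l (w + w') c ≠ 0 := by
        intro hB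
        rw [hB, zero_smul] at e3
        exact (smul_ne_zero hA hφ) e3
      apply hp
      apply hpar _ _ hφ
      refine ⟨(l w' c - l (w + w') c)⁻¹ * (l (w + w') c - l w c), mul_ne_zero (inv_ne_zero hB) hA, ?_⟩
      rw [mul_smul, e3, smul_smul, inv_mul_cancel₀ hB, one_smul]
    rw [hA, zero_smul] at e3
    have hB := (smul_eq_zero.mp e3.symm).resolve_right hφ'
    rw [sub_eq_zero] at hA hB
    rw [hB, hA]
  set u0 : Fin m → F := Pi.single ⟨0, by omega⟩ 1 with hu0
  set u1 : Fin m → F := Pi.single ⟨1, by omega⟩ 1 with hu1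
  have hu0' : u0 ≠ 0 := by
    intro h
    have := congrFun h ⟨0, by omega⟩
    rw [hu0, Pi.single_eq_same] at this
    exact one_ne_zero this
  have hu1' : u1 ≠ 0 := by
    intro h
    have := congrFun h ⟨1, by omega⟩
    rw [hu1, Pi.single_eq_same] at this
    exact one_ne_zero this
  have h01 : ¬ Par u0 u1 := by
    rintro ⟨c, -, h⟩
    have := congrFun h ⟨1, by omega⟩
    rw [hu1, hu0, Pi.single_eq_same, Pi.smul_apply, Pi.single_eq_of_ne (by simp), smul_zero] at this
    exact one_ne_zero this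
  have hall : ∀ w, w ≠ 0 → ∀ c, l w c = l u0 c := by
    intro w hw c
    by_cases h : Par w u0
    · have h1 : ¬ Par w u1 := fun h' => h01 (h.symm.trans h')
      rw [key w u1 hw hu1' h1 c, key u0 u1 hu0' hu1' h01 c]
    · exact key w u0 hw hu0' h c
  have hs : ∀ (w : Fin m → F) (c : F), φ (c • w) = l u0 c • φ w := by
    intro w c
    by_cases hw : w = 0
    · rw [hw, smul_zero, h0, smul_zero]
    · rw [hl, hall w hw]
  have hφ0 : φ u0 ≠ 0 := fun h => hu0' (hinj _ h)
  have hsm : ∀ a b : F, a • φ u0 = b • φ u0 → a = b := fun a b h => smul_left_injective F hφ0 h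
  let σ0 : F →+* F :=
    { toFun := l u0
      map_one' := by
        apply hsm
        rw [← hs, one_smul, one_smul]
      map_mul' := fun a b => by
        apply hsm
        rw [← hs, mul_smul, hs, hs, smul_smul]
      map_zero' := by
        apply hsm
        rw [← hs, zero_smul, h0, zero_smul]
      map_add' := fun a b => by
        apply hsm
        rw [← hs, add_smul, hadd, hs, hs, add_smul] }
  have hσ0 : ∀ c, σ0 c = l u0 c := fun _ => rfl
  let σ : F ≃+* F := RingEquiv.ofBijective σ0 (Finite.injective_iff_bijective.1 σ0.injective)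
  have hσ : ∀ c, σ c = l u0 c := fun _ => rfl
  let M : Matrix (Fin m) (Fin m) F := fun i j => φ (Pi.single j 1) i
  have hM : ∀ w, φ w = M *ᵥ (σ ∘ w) := by
    intro w
    have hsum : ∀ (s : Finset (Fin m)), φ (∑ j ∈ s, w j • Pi.single j 1) = ∑ j ∈ s, σ (w j) • φ (Pi.single j 1) := by
      intro s
      induction s using Finset.induction_on with
      | empty => rw [Finset.sum_empty, Finset.sum_empty, h0]
      | insert a s ha ih => rw [Finset.sum_insert ha, Finset.sum_insert ha, hadd, ih, hs, hσ]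
    have h1 : w = ∑ j, w j • (Pi.single j 1 : Fin m → F) := by
      conv_lhs => rw [← Finset.univ_sum_single w]
      refine Finset.sum_congr rfl fun j _ => ?_
      rw [← Pi.single_smul, smul_eq_mul, mul_one]
    conv_lhs => rw [h1, hsum]
    ext i
    rw [Finset.sum_apply]
    show _ = ∑ j, M i j * σ (w j)
    refine Finset.sum_congr rfl fun j _ => ?_
    rw [Pi.smul_apply, smul_eq_mul, mul_comm]
  have hu : IsUnit M := by
    rw [← Matrix.mulVec_injective_iff_isUnit]
    intro x y hxy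
    have h1 : M *ᵥ (x - y) = 0 := by
      rw [mulVec_sub, sub_eq_zero]; exact hxy
    have h2 : φ (σ.symm ∘ (x - y)) = 0 := by
      rw [hM, ← h1]
      congr 1
      ext i
      simp
    have h3 := hinj _ h2
    rw [← sub_eq_zero]
    ext i
    have h4 := congrFun h3 i
    simp only [Function.comp_apply, Pi.zero_apply, map_eq_zero_iff σ.symm σ.symm.injective] at h4
    exact h4
  obtain ⟨g, hg⟩ := hu
  exact ⟨σ, g, fun w => by rw [hg, hM]⟩

/-! ### block matrices -/

section Blk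

variable {m : ℕ}

/-- `diag(1, g)` -/
def blk (g : Matrix (Fin m) (Fin m) F) : Matrix (Fin (m + 1)) (Fin (m + 1)) F :=
  fun i j => Fin.cases (Fin.cases 1 (fun _ => 0) j) (fun i' => Fin.cases 0 (fun j' => g i' j') j) i

@[simp] theorem blk_zero_zero (g : Matrix (Fin m) (Fin m) F) : blk g 0 0 = 1 := rfl
@[simp] theorem blk_zero_succ (g : Matrix (Fin m) (Fin m) F) (j : Fin m) : blk g 0 j.succ = 0 := rfl
@[simp] theorem blk_succ_zero (g : Matrix (Fin m) (Fin m) F) (i : Fin m) : blk g i.succ 0 = 0 := rfl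
@[simp] theorem blk_succ_succ (g : Matrix (Fin m) (Fin m) F) (i j : Fin m) : blk g i.succ j.succ = g i j := rfl

theorem blk_mul (g h : Matrix (Fin m) (Fin m) F) : blk (g * h) = blk g * blk h := by
  ext i j
  rw [Matrix.mul_apply, Fin.sum_univ_succ]
  refine Fin.cases ?_ (fun i => ?_) i <;> refine Fin.cases ?_ (fun j => ?_) j <;> simp [Matrix.mul_apply]

theorem blk_one : blk (1 : Matrix (Fin m) (Fin m) F) = 1 := by
  ext i j
  refine Fin.cases ?_ (fun i => ?_) i <;> refine Fin.cases ?_ (fun j => ?_) j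
  · simp
  · simp [Matrix.one_apply, (Fin.succ_ne_zero j).symm]
  · simp [Matrix.one_apply]
  · simp [Matrix.one_apply, Fin.succ_inj]

theorem blk_mulVec (g : Matrix (Fin m) (Fin m) F) (a : F) (u : Fin m → F) :
    blk g *ᵥ (Fin.cons a u : Fin (m + 1) → F) = Fin.cons a (g *ᵥ u) := by
  ext i
  rw [Matrix.mulVec, dotProduct, Fin.sum_univ_succ]
  refine Fin.cases ?_ (fun i => ?_) i
  · simp
  · simp [Matrix.mulVec, dotProduct]

/-- `diag(1, g)` -/
def blkGL (g : GL (Fin m) F) : GL (Fin (m + 1)) F :=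
  ⟨blk (g : Matrix (Fin m) (Fin m) F), blk ((g⁻¹ : GL (Fin m) F) : Matrix (Fin m) (Fin m) F), by
    rw [← blk_mul, Units.mul_inv, blk_one], by rw [← blk_mul, Units.inv_mul, blk_one]⟩

theorem coe_blkGL (g : GL (Fin m) F) : (blkGL g : Matrix (Fin (m + 1)) (Fin (m + 1)) F) = blk (g : Matrix (Fin m) (Fin m) F) := rfl

/-- the first basis vector -/
abbrev e0 (m : ℕ) (F : Type*) [Field F] : Fin (m + 1) → F := Pi.single 0 1

theorem e0_dot (w : Fin (m + 1) → F) : e0 m F ⬝ᵥ w = w 0 := by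
  rw [single_one_dotProduct]

theorem dot_e0 (w : Fin (m + 1) → F) : w ⬝ᵥ e0 m F = w 0 := by
  rw [dotProduct_single_one]

theorem e0_ne_zero : e0 m F ≠ 0 := by
  intro h
  have := congrFun h 0
  simp [e0] at this

theorem e0_vecMul_blk (g : Matrix (Fin m) (Fin m) F) : e0 m F ᵥ* blk g = e0 m F := by
  ext j
  rw [single_one_vecMul]
  refine Fin.cases ?_ (fun j => ?_) j
  · simp
  · simp

theorem e0_vecMul_blkGL_inv (g : GL (Fin m) F) :
    e0 m F ᵥ* (((blkGL g)⁻¹ : GL (Fin (m + 1)) F) : Matrix (Fin (m + 1)) (Fin (m + 1)) F) = e0 m F := by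
  show e0 m F ᵥ* blk ((g⁻¹ : GL (Fin m) F) : Matrix (Fin m) (Fin m) F) = e0 m F
  rw [e0_vecMul_blk]

theorem comp_e0 (σ : F ≃+* F) : (σ ∘ e0 m F : Fin (m + 1) → F) = e0 m F := by
  ext i
  refine Fin.cases ?_ (fun i => ?_) i
  · simp
  · simp

theorem cons_tail {w : Fin (m + 1) → F} (h : w 0 = 0) : (Fin.cons 0 (Fin.tail w) : Fin (m + 1) → F) = w := by
  ext i
  refine Fin.cases ?_ (fun i => ?_) i
  · simp [h]
  · simp [Fin.tail]

end Blk

section Fix

variable {m : ℕ}

theorem semi_T (g : GL (Fin (m + 1)) F) (σ : F ≃+* F) {v f : Fin (m + 1) → F} (h : f ⬝ᵥ v = 0) :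
    lft (cj g * fl σ) (T v f) = T ((g : Matrix (Fin (m + 1)) (Fin (m + 1)) F) *ᵥ (σ ∘ v))
      ((σ ∘ f) ᵥ* ((g⁻¹ : GL (Fin (m + 1)) F) : Matrix (Fin (m + 1)) (Fin (m + 1)) F)) := by
  have h' : (σ ∘ f) ⬝ᵥ (σ ∘ v) = 0 := by
    have := congrArg σ h
    rw [map_zero] at this
    rw [← this]
    unfold dotProduct
    rw [map_sum]
    simp
  unfold T
  rw [lft_mk, MulAut.mul_apply, fl_tv _ h, cj_tv _ h']

theorem exists_semi_of_col [Finite F] (p : ℕ) [Fact p.Prime] [CharP F p] (hm : 2 ≤ m)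
    (α : MulAut (Matrix.ProjectiveSpecialLinearGroup (Fin (m + 1)) F))
    (hα : ∀ w : Fin (m + 1) → F, w 0 = 0 → ∃ w' : Fin (m + 1) → F, w' 0 = 0 ∧ α (T w (e0 m F)) = T w' (e0 m F)) :
    ∃ (g : GL (Fin (m + 1)) F) (σ : F ≃+* F), ∀ w : Fin (m + 1) → F, w 0 = 0 →
      α (T w (e0 m F)) = lft (cj g * fl σ) (T w (e0 m F)) := by
  have hn1 : 1 ≤ m + 1 := by omega
  choose! ψ hψ using hα
  have hdot : ∀ w : Fin (m + 1) → F, w 0 = 0 → e0 m F ⬝ᵥ w = 0 := fun w hw => by rw [e0_dot, hw]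
  have hTinj : ∀ w w' : Fin (m + 1) → F, w 0 = 0 → w' 0 = 0 → T w (e0 m F) = T w' (e0 m F) → w = w' := by
    intro w w' h h' e
    rw [T_eq_iff p hn1 (hdot w h) (hdot w' h')] at e
    ext i
    have := congrFun (congrFun e i) 0
    simpa [vecMulVec_apply] using this
  let φ : (Fin m → F) → (Fin m → F) := fun u => Fin.tail (ψ (Fin.cons 0 u))
  have hcons : ∀ u : Fin m → F, (Fin.cons 0 (φ u) : Fin (m + 1) → F) = ψ (Fin.cons 0 u) := by
    intro u
    exact cons_tail (hψ _ (by simp)).1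
  have hφ : ∀ u : Fin m → F, α (T (Fin.cons 0 u) (e0 m F)) = T (Fin.cons 0 (φ u)) (e0 m F) := by
    intro u
    rw [hcons]
    exact (hψ _ (by simp)).2
  have hc0 : ∀ u : Fin m → F, (Fin.cons 0 u : Fin (m + 1) → F) 0 = 0 := fun u => by simp
  have hci : ∀ u u' : Fin m → F, (Fin.cons 0 u : Fin (m + 1) → F) = Fin.cons 0 u' → u = u' := by
    intro u u' h
    exact Fin.cons_right_injective _ h
  have hcz : (Fin.cons 0 0 : Fin (m + 1) → F) = 0 := by
    ext i
    refine Fin.cases ?_ (fun i => ?_) i <;> simp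
  have hcs : ∀ (c : F) (u : Fin m → F), (Fin.cons 0 (c • u) : Fin (m + 1) → F) = c • Fin.cons 0 u := by
    intro c u
    ext i
    refine Fin.cases ?_ (fun i => ?_) i <;> simp
  have hca : ∀ (u u' : Fin m → F), (Fin.cons 0 (u + u') : Fin (m + 1) → F) = Fin.cons 0 u + Fin.cons 0 u' := by
    intro u u'
    ext i
    refine Fin.cases ?_ (fun i => ?_) i <;> simp
  have hadd : ∀ u v, φ (u + v) = φ u + φ v := by
    intro u v
    apply hci
    apply hTinj _ _ (hc0 _) (hc0 _)
    rw [← hφ, hca, hca, ← T_mul_same_f (hdot _ (hc0 _)) (hdot _ (hc0 _)), map_mul, hφ, hφ,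
      T_mul_same_f (hdot _ (hc0 _)) (hdot _ (hc0 _))]
  have hinj : ∀ w, φ w = 0 → w = 0 := by
    intro w hw
    have h1 := hφ w
    rw [hw, hcz, T_zero_left] at h1
    have h2 : T (Fin.cons 0 w) (e0 m F) = 1 := α.injective (by rw [h1, map_one])
    rw [← T_zero_left (e0 m F)] at h2
    have h3 := hTinj _ _ (hc0 _) rfl h2
    rw [← hcz] at h3
    exact hci _ _ h3
  have hTS : ∀ u : Fin m → F, u ≠ 0 → α '' TS (Fin.cons 0 u) (e0 m F) = TS (Fin.cons 0 (φ u)) (e0 m F) := by
    intro u hu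
    have hu' : (Fin.cons 0 u : Fin (m + 1) → F) ≠ 0 := by
      intro h
      rw [← hcz] at h
      exact hu (hci _ _ h)
    have hu'' : (Fin.cons 0 (φ u) : Fin (m + 1) → F) ≠ 0 := by
      intro h
      rw [← hcz] at h
      exact hu (hinj _ (hci _ _ h))
    obtain ⟨a, b, ha, hb, hab, e, t⟩ := map_T p (by omega) α hu' e0_ne_zero (hdot _ (hc0 u))
    rw [t]
    rw [hφ] at e
    obtain ⟨p1, p2⟩ := T_par p hn1 hu'' e0_ne_zero (hdot _ (hc0 _)) hab e
    exact (TS_congr p1 p2 (hdot _ (hc0 _))).symm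
  obtain ⟨σ, g, hg⟩ := exists_semilinear hm φ hadd hinj (by
    intro w c
    by_cases hw : w = 0
    · refine ⟨0, ?_⟩
      rw [hw, smul_zero, zero_smul]
      by_contra h
      have h0 := hadd 0 0
      rw [add_zero] at h0
      exact h (left_eq_add.mp h0)
    have h1 : α (T (c • Fin.cons 0 w) (e0 m F)) ∈ TS (Fin.cons 0 (φ w)) (e0 m F) := by
      rw [← hTS w hw]
      exact ⟨_, ⟨c, rfl⟩, rfl⟩
    obtain ⟨c', hc'⟩ := h1
    refine ⟨c', ?_⟩
    apply hci
    apply hTinj _ _ (hc0 _) (hc0 _)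
    rw [← hφ, hcs, hc', hcs]) (by
    rintro w w' hw ⟨c, hc, h⟩
    have hw1 : w ≠ 0 := by
      rintro rfl
      have h0 := hadd 0 0
      rw [add_zero] at h0
      exact hw (left_eq_add.mp h0)
    have hw2 : w' ≠ 0 := by
      rintro rfl
      have h0 := hadd 0 0
      rw [add_zero] at h0
      rw [left_eq_add.mp h0] at h
      exact smul_ne_zero hc hw h.symm
    have h1 : TS (Fin.cons 0 (φ w)) (e0 m F) = TS (Fin.cons 0 (φ w')) (e0 m F) := by
      apply TS_congr _ (Par.refl _) (hdot _ (hc0 _))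
      exact ⟨c, hc, by rw [h, hcs]⟩
    rw [← hTS w hw1, ← hTS w' hw2] at h1
    have h2 := Set.image_injective.2 α.injective h1
    have hw1' : (Fin.cons 0 w : Fin (m + 1) → F) ≠ 0 := by
      intro h
      rw [← hcz] at h
      exact hw1 (hci _ _ h)
    obtain ⟨⟨k, hk, h3⟩, -⟩ := TS_par p hn1 hw1' e0_ne_zero (hdot _ (hc0 _)) (hdot _ (hc0 _)) h2
    exact ⟨k, hk, hci _ _ (by rw [h3, hcs])⟩)
  refine ⟨blkGL g, σ, fun w hw => ?_⟩
  rw [semi_T _ _ (hdot w hw), comp_e0, e0_vecMul_blkGL_inv, coe_blkGL]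
  have h1 : (σ ∘ w : Fin (m + 1) → F) = Fin.cons 0 (σ ∘ Fin.tail w) := by
    ext i
    refine Fin.cases ?_ (fun i => ?_) i
    · simp [hw]
    · simp [Fin.tail]
  rw [h1, blk_mulVec, ← hg, ← hφ, cons_tail hw]

end Fix

end CfsgLib.AutPSL27
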