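import Cfsg.Agent.LibAutPSL27e

set_option autoImplicit false

/-! Automorphisms of `PSL_n(F)` for `n ≥ 3`. -/

namespace CfsgLib.AutPSL27

open Matrix

variable {F : Type*} [Field F]

section FixAll

variable {m : ℕ}

/-- fixes the column group -/
def FixCol (β : MulAut (Matrix.ProjectiveSpecialLinearGroup (Fin (m + 1)) F)) : Prop :=
  ∀ w : Fin (m + 1) → F, w 0 = 0 → β (T w (e0 m F)) = T w (e0 m F)

theorem FixCol.inv {β : MulAut (Matrix.ProjectiveSpecialLinearGroup (Fin (m + 1)) F)} (hβ : FixCol β) : FixCol β⁻¹ := by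
  intro w hw
  conv_lhs => rw [← hβ w hw]
  exact β.symm_apply_apply _

variable [Finite F] (p : ℕ) [Fact p.Prime] [CharP F p]

include p

theorem E1 (hm : 1 ≤ m) {β : MulAut (Matrix.ProjectiveSpecialLinearGroup (Fin (m + 1)) F)} (hβ : FixCol β)
    {v g : Fin (m + 1) → F} (hv : v ≠ 0) (hg : g ≠ 0) (hgv : g ⬝ᵥ v = 0) (hv0 : v 0 = 0) :
    ∃ d : F, β (T v g) = T v (g + d • e0 m F) := by
  have hev : e0 m F ⬝ᵥ v = 0 := by rw [e0_dot, hv0]
  by_cases hpar : ∀ u : Fin (m + 1) → F, e0 m F ⬝ᵥ u = 0 → g ⬝ᵥ u = 0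
  · obtain ⟨c, rfl⟩ := exists_c e0_ne_zero hpar
    refine ⟨0, ?_⟩
    rw [zero_smul, add_zero, ← T_smul _ hev]
    exact hβ _ (by rw [Pi.smul_apply, hv0, smul_zero])
  push Not at hpar
  obtain ⟨u₁, hu₁, hgu₁⟩ := hpar
  rw [e0_dot] at hu₁
  obtain ⟨v', g', hv', hg', hgv', e, -⟩ := map_T p (by omega) β hv hg hgv
  have hconj : ∀ u : Fin (m + 1) → F, u 0 = 0 →
      vecMulVec (u + (g' ⬝ᵥ u) • v') (e0 m F - (v' 0) • g') = vecMulVec (u + (g ⬝ᵥ u) • v) (e0 m F) := by
    intro u hu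
    have hu' : e0 m F ⬝ᵥ u = 0 := by rw [e0_dot, hu]
    rw [← T_eq_iff p (by omega)]
    · have h1 := T_conj hgv hu'
      rw [e0_dot, hv0, zero_smul, sub_zero] at h1
      have h2 := congrArg β h1
      rw [map_mul, map_mul, map_inv, e, hβ u hu, hβ _ (by rw [Pi.add_apply, Pi.smul_apply, hu, hv0, smul_zero, add_zero]),
        T_conj hgv' hu', e0_dot] at h2
      exact h2
    · rw [sub_dotProduct, smul_dotProduct, dotProduct_add, dotProduct_add, dotProduct_smul, dotProduct_smul, hgv', e0_dot,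
        e0_dot, hu, smul_zero, zero_add, add_zero, smul_eq_mul, smul_eq_mul, mul_comm, sub_self]
    · rw [dotProduct_add, dotProduct_smul, e0_dot, e0_dot, hu, hv0, smul_zero, add_zero]
  have hv'0 : v' 0 = 0 := by
    have h1 := hconj v hv0
    rw [hgv, zero_smul, add_zero] at h1
    obtain ⟨k, hk, -, h2⟩ := vmv_eq hv e0_ne_zero h1.symm
    by_contra hne
    have h3 : (e0 m F - (v' 0) • g') ⬝ᵥ v' = k⁻¹ * v' 0 := by
      rw [h2, smul_dotProduct, e0_dot, smul_eq_mul]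
    rw [sub_dotProduct, smul_dotProduct, hgv', smul_zero, sub_zero, e0_dot] at h3
    have h4 : k⁻¹ = 1 := by
      have : (k⁻¹ - 1) * v' 0 = 0 := by rw [sub_mul, ← h3, one_mul, sub_self]
      rcases mul_eq_zero.mp this with h | h
      · exact sub_eq_zero.mp h
      · exact absurd h hne
    rw [h4, one_smul, sub_eq_self] at h2
    exact (smul_ne_zero hne hg') h2
  have hc : ∀ u : Fin (m + 1) → F, u 0 = 0 → (g' ⬝ᵥ u) • v' = (g ⬝ᵥ u) • v := by
    intro u hu
    have h1 := hconj u hu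
    rw [hv'0, zero_smul, sub_zero] at h1
    ext i
    have h2 := congrFun (congrFun h1 i) 0
    simpa [vecMulVec_apply] using h2
  set c := (g ⬝ᵥ u₁)⁻¹ * (g' ⬝ᵥ u₁) with hc_def
  have hvc : v = c • v' := by
    rw [hc_def, mul_smul, hc u₁ hu₁, smul_smul, inv_mul_cancel₀ hgu₁, one_smul]
  have hc0 : c ≠ 0 := by
    intro h
    rw [h, zero_smul] at hvc
    exact hv hvc
  obtain ⟨d', hd'⟩ := exists_c (h := g' - c • g) e0_ne_zero (fun u hu => by
    rw [e0_dot] at hu
    have h1 := hc u hu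
    rw [hvc, smul_smul] at h1
    have h2 := smul_left_injective F hv' h1
    rw [sub_dotProduct, smul_dotProduct, h2, smul_eq_mul, mul_comm, sub_self])
  refine ⟨c⁻¹ * d', ?_⟩
  have hg'' : g' = c • (g + (c⁻¹ * d') • e0 m F) := by
    rw [smul_add, smul_smul, mul_inv_cancel_left₀ hc0, ← hd', add_sub_cancel]
  have hdot : (g + (c⁻¹ * d') • e0 m F) ⬝ᵥ v' = 0 := by
    have := hgv'
    rw [hg'', smul_dotProduct, smul_eq_mul] at this
    exact (mul_eq_zero.mp this).resolve_left hc0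
  rw [e, hg'', ← T_smul _ hdot, ← hvc]

theorem E2 (hm : 1 ≤ m) {β : MulAut (Matrix.ProjectiveSpecialLinearGroup (Fin (m + 1)) F)} (hβ : FixCol β)
    {v g v' g' : Fin (m + 1) → F} (hv : v ≠ 0) (hg : g ≠ 0) (hgv : g ⬝ᵥ v = 0) (hv0 : v 0 ≠ 0)
    (hv' : v' ≠ 0) (hg' : g' ≠ 0) (hgv' : g' ⬝ᵥ v' = 0) (e : β (T v g) = T v' g') : v' 0 ≠ 0 := by
  intro h0
  obtain ⟨d, hd⟩ := E1 p hm hβ.inv hv' hg' hgv' h0
  rw [← e, MulAut.inv_apply_self] at hd
  obtain ⟨⟨k, hk, h1⟩, -⟩ := T_par p (by omega) hv hg hgv (by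
    rw [add_dotProduct, smul_dotProduct, hgv', e0_dot, h0, smul_zero, add_zero]) hd
  have h2 := congrFun h1 0
  rw [h0, Pi.smul_apply, smul_eq_mul] at h2
  exact mul_ne_zero hk hv0 h2.symm

theorem exists_common {V : Type*} [AddCommGroup V] : True := trivial

theorem exists_u (hm : 2 ≤ m) (g : Fin (m + 1) → F) : ∃ u : Fin (m + 1) → F, u ≠ 0 ∧ u 0 = 0 ∧ g ⬝ᵥ u = 0 := by
  set i1 : Fin (m + 1) := ⟨1, by omega⟩
  set i2 : Fin (m + 1) := ⟨2, by omega⟩
  have h12 : i1 ≠ i2 := by simp [i1, i2]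
  have h10 : (0 : Fin (m + 1)) ≠ i1 := by
    intro h
    have := congrArg Fin.val h
    simp [i1] at this
  have h20 : (0 : Fin (m + 1)) ≠ i2 := by
    intro h
    have := congrArg Fin.val h
    simp [i2] at this
  by_cases h : g i1 = 0
  · refine ⟨Pi.single i1 1, ?_, ?_, ?_⟩
    · intro h'
      have := congrFun h' i1
      simp at this
    · rw [Pi.single_eq_of_ne h10]
    · rw [dotProduct_single_one, h]
  · refine ⟨g i2 • Pi.single i1 1 - g i1 • Pi.single i2 1, ?_, ?_, ?_⟩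
    · intro h'
      have := congrFun h' i2
      simp [h12.symm, h] at this
    · rw [Pi.sub_apply, Pi.smul_apply, Pi.smul_apply, Pi.single_eq_of_ne h10, Pi.single_eq_of_ne h20, smul_zero, smul_zero,
        sub_zero]
    · rw [dotProduct_sub, dotProduct_smul, dotProduct_smul, dotProduct_single_one, dotProduct_single_one, smul_eq_mul,
        smul_eq_mul, mul_comm, sub_self]

theorem E3 (hm : 2 ≤ m) {β : MulAut (Matrix.ProjectiveSpecialLinearGroup (Fin (m + 1)) F)} (hβ : FixCol β)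
    {g : Fin (m + 1) → F} (hg : g ≠ 0) (hg0 : g 0 = 0) :
    ∃ w : Fin (m + 1) → F, w 0 = 0 ∧ β (T (e0 m F) g) = T (e0 m F + w) (g - (g ⬝ᵥ w) • e0 m F) := by
  have hge : g ⬝ᵥ e0 m F = 0 := by rw [dot_e0, hg0]
  obtain ⟨v₀, g₀, hv₀, hg₀, hgv₀, e, -⟩ := map_T p (by omega) β e0_ne_zero hg hge
  have hne := E2 p (by omega) hβ e0_ne_zero hg hge (by simp [e0]) hv₀ hg₀ hgv₀ e
  -- normalize
  obtain ⟨w, g', hw0, hg', hgv', e⟩ : ∃ w g' : Fin (m + 1) → F, w 0 = 0 ∧ g' ≠ 0 ∧ g' ⬝ᵥ (e0 m F + w) = 0 ∧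
      β (T (e0 m F) g) = T (e0 m F + w) g' := by
    refine ⟨(v₀ 0)⁻¹ • v₀ - e0 m F, v₀ 0 • g₀, ?_, smul_ne_zero hne hg₀, ?_, ?_⟩
    · simp [e0, hne]
    · rw [add_sub_cancel, smul_dotProduct, dotProduct_smul, hgv₀, smul_zero, smul_zero]
    · rw [add_sub_cancel, e, ← T_smul _ (by rw [dotProduct_smul, hgv₀, smul_zero]), smul_smul, mul_inv_cancel₀ hne, one_smul]
  have hvne : e0 m F + w ≠ 0 := by
    intro h
    have := congrFun h 0
    simp [e0, hw0] at this
  obtain ⟨u, hu, hu0, hgu⟩ := exists_u p hm g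
  have hue : e0 m F ⬝ᵥ u = 0 := by rw [e0_dot, hu0]
  obtain ⟨d, hd⟩ := E1 p (by omega) hβ hu hg hgu hu0
  have hdu : (g + d • e0 m F) ⬝ᵥ u = 0 := by rw [add_dotProduct, smul_dotProduct, hgu, hue, smul_zero, add_zero]
  have hgd : g + d • e0 m F ≠ 0 := by
    intro h
    apply hg
    have hd0 : d = 0 := by
      have := congrFun h 0
      simpa [e0, hg0] using this
    rw [hd0, zero_smul, add_zero] at h
    exact h
  -- commuting
  have hcomm : T u g * T (e0 m F) g = T (e0 m F) g * T u g := by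
    rw [T_mul_same_f hgu hge, T_mul_same_f hge hgu, add_comm u]
  have hcomm' := congrArg β hcomm
  rw [map_mul, map_mul, hd, e] at hcomm'
  have hprod : T (u + (e0 m F + w)) (g + d • e0 m F) = T (u + (e0 m F + w)) (g + d • e0 m F) := rfl
  obtain ⟨hc1, hc2⟩ := (T_comm_iff p (by omega) hu hgd hvne hg' hdu hgv').1 hcomm'
  -- conjugation
  have h1 := T_conj hue hge
  rw [e0_dot, hgu, zero_smul, sub_zero] at h1
  have h2 : T (e0 m F + (e0 m F) 0 • u) g = T u g * T (e0 m F) g := by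
    rw [T_mul_same_f hgu hge]
    simp [e0, add_comm]
  rw [h2] at h1
  have h3 := congrArg β h1
  rw [map_mul, map_mul, map_mul, map_inv, hβ u hu0, e, hd, T_conj hue hgv', hc2, zero_smul, sub_zero] at h3
  -- h3 : T ((e0 + w) + (e0 ⬝ (e0+w)) • u) g' = T u (g + d e0) * T (e0 + w) g'
  have hdot1 : e0 m F ⬝ᵥ (e0 m F + w) = 1 := by
    rw [dotProduct_add, e0_dot, e0_dot, hw0, add_zero]
    simp [e0]
  rw [hdot1, one_smul, ← T_mul_same_f hgv' hc2] at h3
  have h4 : T (e0 m F + w) g' * T u g' = T u g' * T (e0 m F + w) g' := by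
    rw [T_mul_same_f hgv' hc2, T_mul_same_f hc2 hgv', add_comm u]
  rw [h4] at h3
  have h5 := mul_right_cancel h3
  rw [T_eq_iff p (by omega) hc2 hdu] at h5
  have h6 : g' = g + d • e0 m F := by
    obtain ⟨i, hi⟩ : ∃ i, u i ≠ 0 := Function.ne_iff.mp hu
    ext j
    have h7 := congrFun (congrFun h5 i) j
    rw [vecMulVec_apply, vecMulVec_apply] at h7
    exact mul_left_cancel₀ hi h7
  refine ⟨w, hw0, ?_⟩
  have h8 : d = -(g ⬝ᵥ w) := by
    rw [h6, add_dotProduct, smul_dotProduct, hdot1, dotProduct_add, hge, zero_add, smul_eq_mul, mul_one] at hgv'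
    rw [eq_neg_iff_add_eq_zero, add_comm]; exact hgv'
  rw [e, h6, h8, neg_smul, sub_eq_add_neg]

theorem E4 (hm : 2 ≤ m) {β : MulAut (Matrix.ProjectiveSpecialLinearGroup (Fin (m + 1)) F)} (hβ : FixCol β) :
    ∃ w : Fin (m + 1) → F, w 0 = 0 ∧ ∀ g : Fin (m + 1) → F, g 0 = 0 →
      β (T (e0 m F) g) = T (e0 m F + w) (g - (g ⬝ᵥ w) • e0 m F) := by
  have key : ∀ g g' w w' : Fin (m + 1) → F, g ≠ 0 → g' ≠ 0 → g 0 = 0 → g' 0 = 0 → ¬ Par g g' →
      w 0 = 0 → w' 0 = 0 → β (T (e0 m F) g) = T (e0 m F + w) (g - (g ⬝ᵥ w) • e0 m F) →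
      β (T (e0 m F) g') = T (e0 m F + w') (g' - (g' ⬝ᵥ w') • e0 m F) → w = w' := by
    intro g g' w w' hg hg' hg0 hg'0 hp hw hw' e e'
    have hge : g ⬝ᵥ e0 m F = 0 := by rw [dot_e0, hg0]
    have hge' : g' ⬝ᵥ e0 m F = 0 := by rw [dot_e0, hg'0]
    have hsum : g + g' ≠ 0 := by
      intro h0
      apply hp
      refine ⟨-1, by simp, ?_⟩
      rw [neg_one_smul]
      exact (neg_eq_of_add_eq_zero_right h0).symm
    obtain ⟨x, y, -, -, hxy, e5, -⟩ := map_T p (by omega) β e0_ne_zero hsum (by rw [add_dotProduct, hge, hge', add_zero])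
    have hne : ∀ w : Fin (m + 1) → F, w 0 = 0 → e0 m F + w ≠ 0 := by
      intro w hw h
      have := congrFun h 0
      simp [e0, hw] at this
    have hne' : ∀ (g : Fin (m + 1) → F) (c : F), g ≠ 0 → g 0 = 0 → g - c • e0 m F ≠ 0 := by
      intro g c hg hg0 h
      apply hg
      have hd0 : c = 0 := by
        have := congrFun h 0
        simpa [e0, hg0] using this
      rw [hd0, zero_smul, sub_zero] at h
      exact h
    have hdot : ∀ (g w : Fin (m + 1) → F), g 0 = 0 → w 0 = 0 → (g - (g ⬝ᵥ w) • e0 m F) ⬝ᵥ (e0 m F + w) = 0 := by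
      intro g w hg hw
      rw [sub_dotProduct, smul_dotProduct, dotProduct_add, dotProduct_add, dot_e0, dot_e0, e0_dot, hg, hw]
      simp [e0]
    rcases T_par_of_comm p (by omega) (hne w hw) (hne' g _ hg hg0) (hne w' hw') (hne' g' _ hg' hg'0) (hdot g w hg0 hw)
      (hdot g' w' hg'0 hw') hxy (by
        rw [← e, ← e', ← map_mul, ← map_mul, T_mul_same_v hge hge', T_mul_same_v hge' hge, add_comm g]) (by
        rw [← e, ← e', ← map_mul, T_mul_same_v hge hge', e5]) with ⟨k, hk, h⟩ | ⟨k, hk, h⟩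
    · have h0 := congrFun h 0
      have hk1 : k = 1 := by
        simp [e0, hw, hw'] at h0
        exact h0.symm
      rw [hk1, one_smul] at h
      exact (add_left_cancel h).symm
    · exfalso
      apply hp
      refine ⟨k, hk, ?_⟩
      ext i
      refine Fin.cases ?_ (fun i => ?_) i
      · rw [hg'0, Pi.smul_apply, hg0, smul_zero]
      · have h0 := congrFun h i.succ
        simpa [e0] using h0
  set i1 : Fin (m + 1) := ⟨1, by omega⟩ with hi1
  set i2 : Fin (m + 1) := ⟨2, by omega⟩ with hi2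
  have h12 : i1 ≠ i2 := by simp [i1, i2]
  have h10 : (0 : Fin (m + 1)) ≠ i1 := by
    intro h
    have := congrArg Fin.val h
    simp [i1] at this
  have h20 : (0 : Fin (m + 1)) ≠ i2 := by
    intro h
    have := congrArg Fin.val h
    simp [i2] at this
  set u1 : Fin (m + 1) → F := Pi.single i1 1 with hu1
  set u2 : Fin (m + 1) → F := Pi.single i2 1 with hu2
  have hu1n : u1 ≠ 0 := by
    intro h
    have := congrFun h i1
    simp [hu1] at this
  have hu2n : u2 ≠ 0 := by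
    intro h
    have := congrFun h i2
    simp [hu2] at this
  have hu10 : u1 0 = 0 := by rw [hu1, Pi.single_eq_of_ne h10]
  have hu20 : u2 0 = 0 := by rw [hu2, Pi.single_eq_of_ne h20]
  have hpar : ¬ Par u1 u2 := by
    rintro ⟨c, -, h⟩
    have := congrFun h i2
    rw [hu1, hu2, Pi.single_eq_same, Pi.smul_apply, Pi.single_eq_of_ne h12.symm, smul_zero] at this
    exact one_ne_zero this
  obtain ⟨w, hw, hwe⟩ := E3 p hm hβ hu1n hu10
  obtain ⟨w', hw', hwe'⟩ := E3 p hm hβ hu2n hu20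
  have hww' := key u1 u2 w w' hu1n hu2n hu10 hu20 hpar hw hw' hwe hwe'
  refine ⟨w, hw, fun g hg => ?_⟩
  by_cases hg0 : g = 0
  · rw [hg0, T_zero_right, zero_dotProduct, zero_smul, sub_zero, T_zero_right, map_one]
  obtain ⟨w'', hw'', hwe''⟩ := E3 p hm hβ hg0 hg
  by_cases hp1 : Par u1 g
  · have hp2 : ¬ Par u2 g := fun h => hpar (hp1.trans h.symm)
    have := key u2 g w' w'' hu2n hg0 hu20 hg hp2 hw' hw'' hwe' hwe''
    rw [hww', this]; exact hwe''
  · have := key u1 g w w'' hu1n hg0 hu10 hg hp1 hw hw'' hwe hwe''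
    rw [this]; exact hwe''

omit [Finite F] [Fact p.Prime] [CharP F p] p in
theorem transvection_eq_tv {n : ℕ} {i j : Fin n} (h : i ≠ j) (c : F) :
    Matrix.SpecialLinearGroup.transvection h c = tv (c • Pi.single i 1) (Pi.single j 1) := by
  apply sl_ext
  rw [coe_tv (by rw [dotProduct_smul, single_one_dotProduct, Pi.single_eq_of_ne h.symm, smul_zero])]
  rw [Matrix.SpecialLinearGroup.transvection_coe]
  ext a b
  by_cases ha : a = i <;> by_cases hb : b = j <;> simp [vecMulVec_apply, ha, hb, Matrix.single_apply, Pi.single_apply, eq_comm]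
  all_goals tauto

omit [Finite F] [Fact p.Prime] [CharP F p] p in
theorem aut_ext (hm : 1 ≤ m) {α β : MulAut (Matrix.ProjectiveSpecialLinearGroup (Fin (m + 1)) F)}
    (h1 : ∀ w : Fin (m + 1) → F, w 0 = 0 → α (T w (e0 m F)) = β (T w (e0 m F)))
    (h2 : ∀ g : Fin (m + 1) → F, g 0 = 0 → α (T (e0 m F) g) = β (T (e0 m F) g)) : α = β := by
  haveI : Nontrivial (Fin (m + 1)) := Fin.nontrivial_iff_two_le.mpr (by omega)
  apply MulEquiv.ext
  intro x
  induction x using QuotientGroup.induction_on with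
  | H s =>
    refine Cfsg.Agent.H22.SLn.transvection_induction (P := fun s => α (QuotientGroup.mk s) = β (QuotientGroup.mk s)) ?_ ?_ s
    · intro i j hij c
      rw [transvection_eq_tv hij c]
      show α (T (c • Pi.single i 1) (Pi.single j 1)) = β (T (c • Pi.single i 1) (Pi.single j 1))
      have hdd : (Pi.single j 1 : Fin (m + 1) → F) ⬝ᵥ (Pi.single i 1) = 0 := by
        rw [single_one_dotProduct, Pi.single_eq_of_ne hij.symm]
      by_cases hi : i = 0
      · subst hi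
        rw [T_smul _ hdd]
        exact h2 _ (by rw [Pi.smul_apply, Pi.single_eq_of_ne hij, smul_zero])
      by_cases hj : j = 0
      · subst hj
        exact h1 _ (by rw [Pi.smul_apply, Pi.single_eq_of_ne (Ne.symm hi), smul_zero])
      set w : Fin (m + 1) → F := c • Pi.single i 1 with hw
      set g : Fin (m + 1) → F := Pi.single j 1 with hg
      have hw0 : w 0 = 0 := by rw [hw, Pi.smul_apply, Pi.single_eq_of_ne (Ne.symm hi), smul_zero]
      have hg0 : g 0 = 0 := by rw [hg, Pi.single_eq_of_ne (Ne.symm hj)]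
      have hgw : g ⬝ᵥ w = 0 := by rw [hw, dotProduct_smul, hdd, smul_zero]
      have hge : g ⬝ᵥ e0 m F = 0 := by rw [dot_e0, hg0]
      have hew : e0 m F ⬝ᵥ w = 0 := by rw [e0_dot, hw0]
      have h3 := T_conj hew hge
      rw [hgw, zero_smul, sub_zero, e0_dot] at h3
      have h4 : T w g = (T w (e0 m F) * T (e0 m F) g * (T w (e0 m F))⁻¹) * (T (e0 m F) g)⁻¹ := by
        rw [h3, eq_mul_inv_iff_mul_eq, T_mul_same_f hgw hge]
        simp [e0, add_comm]
      rw [h4, map_mul, map_mul, map_mul, map_inv, map_inv, h1 w hw0, h2 g hg0, map_mul, map_mul, map_mul, map_inv, map_inv]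
    · intro A B hA hB
      rw [QuotientGroup.mk_mul, map_mul, map_mul, hA, hB]

theorem fix_all (hm : 2 ≤ m) {β : MulAut (Matrix.ProjectiveSpecialLinearGroup (Fin (m + 1)) F)} (hβ : FixCol β) :
    ∃ w : Fin (m + 1) → F, w 0 = 0 ∧ β = MulAut.conj (T w (e0 m F)) := by
  obtain ⟨w, hw, h⟩ := E4 p hm hβ
  refine ⟨w, hw, ?_⟩
  have hew : e0 m F ⬝ᵥ w = 0 := by rw [e0_dot, hw]
  apply aut_ext (by omega)
  · intro u hu
    have heu : e0 m F ⬝ᵥ u = 0 := by rw [e0_dot, hu]
    rw [hβ u hu, MulAut.conj_apply, T_conj hew heu, heu, hew, zero_smul, zero_smul, add_zero, sub_zero]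
  · intro g hg
    have hge : g ⬝ᵥ e0 m F = 0 := by rw [dot_e0, hg]
    rw [h g hg, MulAut.conj_apply, T_conj hew hge, e0_dot]
    simp [e0]

end FixAll

end CfsgLib.AutPSL27
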