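import Cfsg.Agent.LibAutPSL27f

set_option autoImplicit false

/-! The main theorems on automorphisms of `PSL_n(F)`. -/

namespace CfsgLib.AutPSL27

open Matrix

variable {F : Type*} [Field F]

theorem exists_GL_mulVec {n : ℕ} (v : Fin n → F) (hv : v ≠ 0) (i0 : Fin n) :
    ∃ g : GL (Fin n) F, (g : Matrix (Fin n) (Fin n) F) *ᵥ Pi.single i0 1 = v := by
  have key : ∀ v : Fin n → F, v i0 ≠ 0 → ∃ g : GL (Fin n) F, (g : Matrix (Fin n) (Fin n) F) *ᵥ Pi.single i0 1 = v := by
    intro v hv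
    have hdet : ((1 : Matrix (Fin n) (Fin n) F).updateCol i0 v).det ≠ 0 := by
      rw [← cramer_apply, cramer_one]
      exact hv
    refine ⟨Matrix.GeneralLinearGroup.mkOfDetNeZero _ hdet, ?_⟩
    show ((1 : Matrix (Fin n) (Fin n) F).updateCol i0 v) *ᵥ Pi.single i0 1 = v
    rw [mulVec_single_one]
    ext i
    simp [Matrix.col]
  by_cases h : v i0 ≠ 0
  · exact key v h
  push Not at h
  obtain ⟨j, hj⟩ : ∃ j, v j ≠ 0 := Function.ne_iff.mp hv
  have hij : j ≠ i0 := by
    rintro rfl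
    exact hj h
  obtain ⟨g, hg⟩ := key (v + v j • Pi.single i0 1) (by simp [h, hj])
  have hdot : (Pi.single j 1 : Fin n → F) ⬝ᵥ (-(Pi.single i0 1)) = 0 := by
    rw [single_one_dotProduct, Pi.neg_apply, Pi.single_eq_of_ne hij, neg_zero]
  refine ⟨Matrix.SpecialLinearGroup.toGL (tv (-(Pi.single i0 1)) (Pi.single j 1)) * g, ?_⟩
  show (((tv (-(Pi.single i0 1 : Fin n → F)) (Pi.single j 1) : Matrix.SpecialLinearGroup (Fin n) F) : Matrix (Fin n) (Fin n) F) * (g : Matrix (Fin n) (Fin n) F)) *ᵥ Pi.single i0 1 = v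
  rw [← mulVec_mulVec, hg, coe_tv hdot, add_mulVec, one_mulVec, vecMulVec_mulVec, single_one_dotProduct, op_smul_eq_smul]
  ext i
  simp [Pi.single_eq_of_ne hij]

theorem exists_GL_vecMul {n : ℕ} (v : Fin n → F) (hv : v ≠ 0) (i0 : Fin n) :
    ∃ g : GL (Fin n) F, (Pi.single i0 1 : Fin n → F) ᵥ* (g : Matrix (Fin n) (Fin n) F) = v := by
  obtain ⟨g, hg⟩ := exists_GL_mulVec v hv i0
  refine ⟨⟨(g : Matrix (Fin n) (Fin n) F)ᵀ, ((g⁻¹ : GL (Fin n) F) : Matrix (Fin n) (Fin n) F)ᵀ, ?_, ?_⟩, ?_⟩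
  · rw [← transpose_mul, Units.inv_mul, transpose_one]
  · rw [← transpose_mul, Units.mul_inv, transpose_one]
  · show (Pi.single i0 1 : Fin n → F) ᵥ* (g : Matrix (Fin n) (Fin n) F)ᵀ = v
    rw [vecMul_transpose, hg]

theorem it_T {n : ℕ} {v f : Fin n → F} (h : f ⬝ᵥ v = 0) : lft it (T v f) = T (-f) v := by
  unfold T
  rw [lft_mk, it_tv h]

theorem cj_T {n : ℕ} (g : GL (Fin n) F) {v f : Fin n → F} (h : f ⬝ᵥ v = 0) :
    lft (cj g) (T v f) = T ((g : Matrix (Fin n) (Fin n) F) *ᵥ v) (f ᵥ* ((g⁻¹ : GL (Fin n) F) : Matrix (Fin n) (Fin n) F)) := by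
  unfold T
  rw [lft_mk, cj_tv _ h]

theorem conj_mk {n : ℕ} (s : Matrix.SpecialLinearGroup (Fin n) F) :
    MulAut.conj (QuotientGroup.mk s : Matrix.ProjectiveSpecialLinearGroup (Fin n) F) = lft (cj (Matrix.SpecialLinearGroup.toGL s)) := by
  apply MulEquiv.ext
  intro x
  induction x using QuotientGroup.induction_on with
  | H t =>
    rw [lft_mk, MulAut.conj_apply]
    show QuotientGroup.mk (s * t * s⁻¹) = _
    congr 1

section Main3

variable {m : ℕ} [Finite F] (p : ℕ) [Fact p.Prime] [CharP F p]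

include p

theorem main_col (hm : 2 ≤ m) (α : MulAut (Matrix.ProjectiveSpecialLinearGroup (Fin (m + 1)) F)) {f' : Fin (m + 1) → F}
    (hf' : f' ≠ 0) (h : ∀ w : Fin (m + 1) → F, w 0 = 0 → ∃ w' : Fin (m + 1) → F, f' ⬝ᵥ w' = 0 ∧ α (T w (e0 m F)) = T w' f') :
    ∃ (g : GL (Fin (m + 1)) F) (σ : F ≃+* F), α = lft (cj g * fl σ) := by
  obtain ⟨k, hk⟩ := exists_GL_vecMul f' hf' 0
  obtain ⟨g, σ, hg⟩ := exists_semi_of_col p hm (lft (cj k) * α) (by
    intro w hw
    obtain ⟨w', hw', e⟩ := h w hw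
    refine ⟨(k : Matrix (Fin (m + 1)) (Fin (m + 1)) F) *ᵥ w', ?_, ?_⟩
    · rw [← e0_dot (m := m) ((k : Matrix (Fin (m + 1)) (Fin (m + 1)) F) *ᵥ w'), dotProduct_mulVec, hk, hw']
    · rw [MulAut.mul_apply, e, cj_T _ hw', ← hk, vecMul_vecMul, Units.mul_inv, vecMul_one])
  have hfix : FixCol ((lft (cj g * fl σ))⁻¹ * (lft (cj k) * α)) := by
    intro w hw
    rw [MulAut.mul_apply, hg w hw, MulAut.inv_apply_self]
  obtain ⟨w, hw, e⟩ := fix_all p hm hfix
  unfold T at e
  rw [conj_mk] at e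
  set u := Matrix.SpecialLinearGroup.toGL (tv w (e0 m F)) with hu
  have e1 : lft (cj k) * α = lft (cj g * fl σ) * lft (cj u) := by
    rw [← e, mul_inv_cancel_left]
  have e2 : α = lft (cj k⁻¹) * (lft (cj g * fl σ) * lft (cj u)) := by
    rw [← e1, ← mul_assoc, ← map_mul, ← map_mul, inv_mul_cancel, map_one, map_one, one_mul]
  refine ⟨k⁻¹ * g * Matrix.GeneralLinearGroup.map (σ : F →+* F) u, σ, ?_⟩
  rw [e2, ← map_mul, ← map_mul, mul_assoc (cj g), fl_mul_cj, map_mul cj, map_mul cj]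
  simp only [mul_assoc]

theorem main_three (hm : 2 ≤ m) (α : MulAut (Matrix.ProjectiveSpecialLinearGroup (Fin (m + 1)) F)) :
    ∃ (g : GL (Fin (m + 1)) F) (σ : F ≃+* F), α = lft (cj g * fl σ) ∨ α = lft (cj g * fl σ * it) := by
  set i1 : Fin (m + 1) := ⟨1, by omega⟩ with hi1
  set i2 : Fin (m + 1) := ⟨2, by omega⟩ with hi2
  have h12 : i1 ≠ i2 := by simp [i1, i2]
  have h10 : (0 : Fin (m + 1)) ≠ i1 := by
    intro h
    have := congrArg Fin.val h
    simp [i1] at this
  have h20 : (0 : Fin (m + 1)) ≠ i2 := by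
    intro h
    have := congrArg Fin.val h
    simp [i2] at this
  set u1 : Fin (m + 1) → F := Pi.single i1 1 with hu1
  set u2 : Fin (m + 1) → F := Pi.single i2 1 with hu2
  have hu1n : u1 ≠ 0 := by
    intro h
    have := congrFun h i1
    simp [hu1] at this
  have hu2n : u2 ≠ 0 := by
    intro h
    have := congrFun h i2
    simp [hu2] at this
  have hu10 : e0 m F ⬝ᵥ u1 = 0 := by rw [e0_dot, hu1, Pi.single_eq_of_ne h10]
  have hu20 : e0 m F ⬝ᵥ u2 = 0 := by rw [e0_dot, hu2, Pi.single_eq_of_ne h20]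
  have hpar : ¬ Par u1 u2 := by
    rintro ⟨c, -, h⟩
    have := congrFun h i2
    rw [hu1, hu2, Pi.single_eq_same, Pi.smul_apply, Pi.single_eq_of_ne h12.symm, smul_zero] at this
    exact one_ne_zero this
  rcases map_col p (by omega) α e0_ne_zero hu1n hu2n hu10 hu20 hpar with ⟨f', hf', h⟩ | ⟨v', hv', h⟩
  · obtain ⟨g, σ, hg⟩ := main_col p hm α hf' (fun w hw => h w (by rw [e0_dot, hw]))
    exact ⟨g, σ, Or.inl hg⟩
  · obtain ⟨g, σ, hg⟩ := main_col p hm (lft it * α) hv' (fun w hw => by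
      obtain ⟨g', hg', e⟩ := h w (by rw [e0_dot, hw])
      refine ⟨-g', ?_, ?_⟩
      · rw [dotProduct_neg, dotProduct_comm, hg', neg_zero]
      · rw [MulAut.mul_apply, e, it_T hg'])
    refine ⟨itGL g, σ, Or.inr ?_⟩
    have e1 : α = lft it * lft (cj g * fl σ) := by
      rw [← hg, ← mul_assoc, ← map_mul, it_mul_it, map_one, one_mul]
    rw [e1, ← map_mul, ← mul_assoc, it_mul_cj, mul_assoc, it_mul_fl, mul_assoc]

end Main3

section Main2

theorem perp_two {v f f' : Fin 2 → F} (hv : v ≠ 0) (hf : f ≠ 0) (hf' : f' ≠ 0) (h : f ⬝ᵥ v = 0) (h' : f' ⬝ᵥ v = 0) :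
    Par f f' := by
  rw [dotProduct, Fin.sum_univ_two] at h h'
  have key : f 0 * f' 1 = f 1 * f' 0 := by
    by_cases h0 : v 0 = 0
    · have h1 : v 1 ≠ 0 := by
        intro h1
        apply hv
        ext i
        fin_cases i
        · exact h0
        · exact h1
      rw [h0, mul_zero, zero_add] at h h'
      rw [(mul_eq_zero.mp h).resolve_right h1, (mul_eq_zero.mp h').resolve_right h1, mul_zero, zero_mul]
    · apply mul_left_cancel₀ h0
      linear_combination f' 1 * h - f 1 * h'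
  by_cases hf0 : f 0 = 0
  · have hf1 : f 1 ≠ 0 := by
      intro h1
      apply hf
      ext i
      fin_cases i
      · exact hf0
      · exact h1
    have hf'0 : f' 0 = 0 := by
      rw [hf0, zero_mul] at key
      exact (mul_eq_zero.mp key.symm).resolve_left hf1
    have hf'1 : f' 1 ≠ 0 := by
      intro h1
      apply hf'
      ext i
      fin_cases i
      · exact hf'0
      · exact h1
    refine ⟨f' 1 / f 1, div_ne_zero hf'1 hf1, ?_⟩
    ext i
    fin_cases i
    · simp [hf0, hf'0]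
    · simp [hf1]
  · have hf'0 : f' 0 ≠ 0 := by
      intro h0
      rw [h0, mul_zero] at key
      have h1 := (mul_eq_zero.mp key).resolve_left hf0
      apply hf'
      ext i
      fin_cases i
      · exact h0
      · exact h1
    refine ⟨f' 0 / f 0, div_ne_zero hf'0 hf0, ?_⟩
    ext i
    fin_cases i
    · simp [hf0]
    · simp only [Fin.mk_one, Fin.isValue, Pi.smul_apply, smul_eq_mul]
      field_simp
      linear_combination key

/-- second basis vector of `F²` -/
abbrev e1 (F : Type*) [Field F] : Fin 2 → F := Pi.single 1 1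

theorem e1_dot (w : Fin 2 → F) : e1 F ⬝ᵥ w = w 1 := by
  rw [single_one_dotProduct]

theorem e0_dot2 (w : Fin 2 → F) : e0 1 F ⬝ᵥ w = w 0 := by
  rw [single_one_dotProduct]

theorem e0_e1 : e0 1 F ⬝ᵥ e1 F = 0 := by
  rw [e0_dot2]; simp [e1]

theorem e1_e0 : e1 F ⬝ᵥ e0 1 F = 0 := by
  rw [e1_dot]; simp [e0]

theorem e1_ne : e1 F ≠ 0 := by
  intro h
  have := congrFun h 1
  simp [e1] at this

/-- `x(a)` -/
noncomputable def xx (a : F) : Matrix.ProjectiveSpecialLinearGroup (Fin 2) F := T (a • e0 1 F) (e1 F)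
/-- `y(b)` -/
noncomputable def yy (b : F) : Matrix.ProjectiveSpecialLinearGroup (Fin 2) F := T (b • e1 F) (e0 1 F)

theorem hx (a : F) : e1 F ⬝ᵥ (a • e0 1 F) = 0 := by rw [dotProduct_smul, e1_e0, smul_zero]
theorem hy (a : F) : e0 1 F ⬝ᵥ (a • e1 F) = 0 := by rw [dotProduct_smul, e0_e1, smul_zero]

theorem e0n : e0 1 F ≠ 0 := e0_ne_zero (m := 1)

theorem xx_add (a b : F) : xx (a + b) = xx a * xx b := by
  unfold xx
  rw [add_smul, ← T_mul_same_f (hx a) (hx b)]

theorem yy_add (a b : F) : yy (a + b) = yy a * yy b := by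
  unfold yy
  rw [add_smul, ← T_mul_same_f (hy a) (hy b)]

theorem xx_inj (p : ℕ) [Fact p.Prime] [CharP F p] {a b : F} (h : xx a = xx b) : a = b := by
  unfold xx at h
  rw [T_eq_iff p (by norm_num) (hx a) (hx b)] at h
  have := congrFun (congrFun h 0) 1
  simpa [vecMulVec_apply] using this

theorem yy_inj (p : ℕ) [Fact p.Prime] [CharP F p] {a b : F} (h : yy a = yy b) : a = b := by
  unfold yy at h
  rw [T_eq_iff p (by norm_num) (hy a) (hy b)] at h
  have := congrFun (congrFun h 1) 0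
  simpa [vecMulVec_apply] using this

theorem xyx (a b c : F) : xx a * yy b * xx c * (xx a * yy b)⁻¹ =
    T ((c * (1 + a * b)) • e0 1 F + (c * b) • e1 F) ((1 + a * b) • e1 F - b • e0 1 F) := by
  have h1 : yy b * xx c * (yy b)⁻¹ = T (c • e0 1 F + c • b • e1 F) (e1 F - b • e0 1 F) := by
    unfold yy xx
    rw [T_conj (hy b) (hx c)]
    congr 1
    · rw [dotProduct_smul, e0_dot2]; simp [e0]
    · rw [dotProduct_smul, e1_dot]; simp [e1]
  have h2 : (e1 F - b • e0 1 F) ⬝ᵥ (c • e0 1 F + c • b • e1 F) = 0 := by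
    simp [e0, e1, dotProduct, Fin.sum_univ_two, mul_comm]
  have h3 : xx a * yy b * xx c * (xx a * yy b)⁻¹ = xx a * (yy b * xx c * (yy b)⁻¹) * (xx a)⁻¹ := by group
  rw [h3, h1]
  unfold xx
  rw [T_conj (hx a) h2]
  congr 1
  · ext i
    fin_cases i
    · simp [e0, e1, dotProduct, Fin.sum_univ_two]; ring
    · simp [e0, e1, dotProduct, Fin.sum_univ_two]
  · ext i
    fin_cases i
    · simp [e0, e1, dotProduct, Fin.sum_univ_two]
    · simp [e0, e1, dotProduct, Fin.sum_univ_two]; ring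

variable [Finite F] (p : ℕ) [Fact p.Prime] [CharP F p]

include p

/-- the core computation for `n = 2` -/
theorem core_two (β : MulAut (Matrix.ProjectiveSpecialLinearGroup (Fin 2) F)) (φ ψ : F → F)
    (hφ : ∀ a, β (xx a) = xx (φ a)) (hψ : ∀ b, β (yy b) = yy (ψ b)) (h1 : φ 1 = 1) :
    ∃ σ : F ≃+* F, ∀ a, φ a = σ a ∧ ψ a = σ a := by
  have hadd : ∀ a b, φ (a + b) = φ a + φ b := by
    intro a b
    apply xx_inj p
    rw [← hφ, xx_add, map_mul, hφ, hφ, xx_add]
  have hadd' : ∀ a b, ψ (a + b) = ψ a + ψ b := by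
    intro a b
    apply yy_inj p
    rw [← hψ, yy_add, map_mul, hψ, hψ, yy_add]
  have h0 : φ 0 = 0 := by
    have := hadd 0 0
    rw [add_zero] at this
    exact left_eq_add.mp this
  have h0' : ψ 0 = 0 := by
    have := hadd' 0 0
    rw [add_zero] at this
    exact left_eq_add.mp this
  have hneg : ∀ a, φ (-a) = - φ a := by
    intro a
    rw [eq_neg_iff_add_eq_zero, ← hadd, neg_add_cancel, h0]
  have hneg' : ∀ a, ψ (-a) = - ψ a := by
    intro a
    rw [eq_neg_iff_add_eq_zero, ← hadd', neg_add_cancel, h0']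
  -- the main relation
  have hrel : ∀ b c : F, b ≠ 0 → 1 + φ (-b⁻¹) * ψ b = 0 ∧ ψ (c * b ^ 2) = φ c * ψ b ^ 2 := by
    intro b c hb
    have hR : ∀ c : F, T ((φ c * (1 + φ (-b⁻¹) * ψ b)) • e0 1 F + (φ c * ψ b) • e1 F) ((1 + φ (-b⁻¹) * ψ b) • e1 F - ψ b • e0 1 F) =
        yy (- ψ (c * b ^ 2)) := by
      intro c
      have h2 := xyx (-b⁻¹) b c
      have h3 : 1 + -b⁻¹ * b = 0 := by field_simp; ring
      rw [h3, mul_zero, zero_smul, zero_smul, zero_add, zero_sub, ← neg_smul, ← T_smul _ (hy _), smul_smul] at h2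
      have h4 : T ((-b * (c * b)) • e1 F) (e0 1 F) = yy (-(c * b ^ 2)) := by
        unfold yy
        congr 2
        ring
      rw [h4] at h2
      have h5 := congrArg β h2
      rw [map_mul, map_mul, map_mul, map_inv, map_mul, hφ, hψ, hφ, hψ, xyx, hneg'] at h5
      exact h5
    have hd : ∀ x y z : F, ((1 + x) • e1 F - y • e0 1 F) ⬝ᵥ ((z * (1 + x)) • e0 1 F + (z * y) • e1 F) = 0 := by
      intro x y z
      simp [e0, e1, dotProduct, Fin.sum_univ_two]; ring
    have hψb : ψ b ≠ 0 := by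
      intro h
      apply hb
      apply yy_inj p
      apply β.injective
      rw [hψ, hψ, h, h0']
    have hz : 1 + φ (-b⁻¹) * ψ b = 0 := by
      have h2 := hR 1
      unfold yy at h2
      rw [h1, T_eq_iff p (by norm_num) (hd _ _ _) (hy _)] at h2
      have h3 := congrFun (congrFun h2 0) 0
      simp [e0, e1, vecMulVec_apply] at h3
      exact h3.resolve_right hψb
    refine ⟨hz, ?_⟩
    have h2 := hR c
    rw [hz, mul_zero, zero_smul, zero_smul, zero_add, zero_sub, ← neg_smul, ← T_smul _ (hy _), smul_smul] at h2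
    have h3 := yy_inj p h2
    linear_combination h3
  have hψ1 : ψ 1 = 1 := by
    have h2 := (hrel 1 1 one_ne_zero).1
    rw [inv_one, hneg, h1] at h2
    linear_combination -h2
  have hφψ : ∀ c, ψ c = φ c := by
    intro c
    have h2 := (hrel 1 c one_ne_zero).2
    rw [hψ1] at h2
    simpa using h2
  have hsq : ∀ b c : F, φ (c * b ^ 2) = φ c * φ b ^ 2 := by
    intro b c
    by_cases hb : b = 0
    · rw [hb]; simp [h0]
    have h2 := (hrel b c hb).2
    rwa [hφψ, hφψ] at h2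
  have hmul : ∀ a b : F, φ (a * b) = φ a * φ b := by
    intro a b
    by_cases h2 : (2 : F) = 0
    · have hc2 : ringChar F = 2 := by
        haveI : CharP F 2 := CharTwo.of_one_ne_zero_of_two_eq_zero one_ne_zero h2
        exact ringChar.eq F 2
      obtain ⟨c, hc⟩ := FiniteField.isSquare_of_char_two hc2 b
      rw [hc, ← sq, hsq]
      have := hsq c 1
      rw [one_mul, h1, one_mul] at this
      rw [this]
    · have hs : ∀ c : F, φ (c ^ 2) = φ c ^ 2 := by
        intro c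
        have := hsq c 1
        rwa [one_mul, h1, one_mul] at this
      have h3 := hs (a + b)
      have h4 : (a + b) ^ 2 = a ^ 2 + (a * b + a * b) + b ^ 2 := by ring
      rw [h4, hadd, hadd, hadd, hadd, hs, hs] at h3
      have h5 : (2 : F) * φ (a * b) = 2 * (φ a * φ b) := by linear_combination h3
      exact mul_left_cancel₀ h2 h5
  let σ0 : F →+* F := { toFun := φ, map_one' := h1, map_mul' := hmul, map_zero' := h0, map_add' := hadd }
  refine ⟨RingEquiv.ofBijective σ0 (Finite.injective_iff_bijective.1 σ0.injective), fun a => ⟨rfl, hφψ a⟩⟩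

end Main2

end CfsgLib.AutPSL27
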