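import Cfsg.Agent.LibAutPSL27g

set_option autoImplicit false

/-! Automorphisms of `PSL_2(F)`; uniqueness of the decomposition. -/

namespace CfsgLib.AutPSL27

open Matrix

variable {F : Type*} [Field F]

theorem cj_TS {n : ℕ} (g : GL (Fin n) F) {v f : Fin n → F} (h : f ⬝ᵥ v = 0) :
    lft (cj g) '' TS v f = TS ((g : Matrix (Fin n) (Fin n) F) *ᵥ v) (f ᵥ* ((g⁻¹ : GL (Fin n) F) : Matrix (Fin n) (Fin n) F)) := by
  ext x
  constructor
  · rintro ⟨_, ⟨c, rfl⟩, rfl⟩
    refine ⟨c, ?_⟩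
    rw [cj_T g (by rw [dotProduct_smul, h, smul_zero]), mulVec_smul]
  · rintro ⟨c, rfl⟩
    refine ⟨T (c • v) f, ⟨c, rfl⟩, ?_⟩
    rw [cj_T g (by rw [dotProduct_smul, h, smul_zero]), mulVec_smul]

theorem main_two [Finite F] (p : ℕ) [Fact p.Prime] [CharP F p]
    (α : MulAut (Matrix.ProjectiveSpecialLinearGroup (Fin 2) F)) :
    ∃ (g : GL (Fin 2) F) (σ : F ≃+* F), α = lft (cj g * fl σ) := by
  obtain ⟨v, f, hv, hf, hfv, t1⟩ := map_TS p le_rfl α e0n e1_ne e1_e0
  obtain ⟨v', f', hv', hf', hfv', t2⟩ := map_TS p le_rfl α e1_ne e0n e0_e1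
  have hdet : v 0 * v' 1 - v' 0 * v 1 ≠ 0 := by
    intro hd
    have hx : (![v 1, - v 0] : Fin 2 → F) ≠ 0 := by
      intro h
      apply hv
      ext i
      fin_cases i
      · have := congrFun h 1
        simpa using this
      · have := congrFun h 0
        simpa using this
    have hp : Par v v' := by
      apply perp_two hx hv hv'
      · simp [dotProduct, Fin.sum_univ_two]; ring
      · simp [dotProduct, Fin.sum_univ_two]; linear_combination -hd
    obtain ⟨c, hc, rfl⟩ := hp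
    have hfv2 : f' ⬝ᵥ v = 0 := by
      rw [dotProduct_smul, smul_eq_mul] at hfv'
      exact (mul_eq_zero.mp hfv').resolve_left hc
    have hp2 : Par f f' := perp_two hv hf hf' hfv hfv2
    have h3 : TS v f = TS (c • v) f' := TS_congr (Par.smul hc) hp2 hfv
    rw [← t1, ← t2] at h3
    have h4 := Set.image_injective.2 α.injective h3
    obtain ⟨⟨k, hk, h5⟩, -⟩ := TS_par p (by norm_num) e0n e1_ne e1_e0 e0_e1 h4
    have h6 := congrFun h5 1
    simp [e0, e1] at h6
  set g : GL (Fin 2) F := Matrix.GeneralLinearGroup.mkOfDetNeZero !![v 0, v' 0; v 1, v' 1] (by rw [det_fin_two_of]; exact hdet) with hg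
  have hg0 : (g : Matrix (Fin 2) (Fin 2) F) *ᵥ e0 1 F = v := by
    show !![v 0, v' 0; v 1, v' 1] *ᵥ e0 1 F = v
    ext i
    fin_cases i <;> simp [e0, Matrix.mulVec, dotProduct, Fin.sum_univ_two]
  have hg1 : (g : Matrix (Fin 2) (Fin 2) F) *ᵥ e1 F = v' := by
    show !![v 0, v' 0; v 1, v' 1] *ᵥ e1 F = v'
    ext i
    fin_cases i <;> simp [e1, Matrix.mulVec, dotProduct, Fin.sum_univ_two]
  have hgi0 : ((g⁻¹ : GL (Fin 2) F) : Matrix (Fin 2) (Fin 2) F) *ᵥ v = e0 1 F := by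
    rw [← hg0, mulVec_mulVec, Units.inv_mul, one_mulVec]
  have hgi1 : ((g⁻¹ : GL (Fin 2) F) : Matrix (Fin 2) (Fin 2) F) *ᵥ v' = e1 F := by
    rw [← hg1, mulVec_mulVec, Units.inv_mul, one_mulVec]
  set β0 := lft (cj g⁻¹) * α with hβ0
  have hfg : ∀ f : Fin 2 → F, f ≠ 0 → f ᵥ* (g : Matrix (Fin 2) (Fin 2) F) ≠ 0 := by
    intro f hf h
    apply hf
    have := congrArg (fun x => x ᵥ* ((g⁻¹ : GL (Fin 2) F) : Matrix (Fin 2) (Fin 2) F)) h
    simp only [vecMul_vecMul, Units.mul_inv, vecMul_one, zero_vecMul] at this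
    exact this
  have s1 : β0 '' TS (e0 1 F) (e1 F) = TS (e0 1 F) (e1 F) := by
    have : β0 '' TS (e0 1 F) (e1 F) = lft (cj g⁻¹) '' (α '' TS (e0 1 F) (e1 F)) := by
      rw [Set.image_image]; rfl
    rw [this, t1, cj_TS _ hfv, hgi0, inv_inv]
    apply TS_congr (Par.refl _)
    · apply perp_two e0n (hfg f hf) e1_ne _ e1_e0
      rw [← dotProduct_mulVec, hg0, hfv]
    · rw [← dotProduct_mulVec, hg0, hfv]
  have s2 : β0 '' TS (e1 F) (e0 1 F) = TS (e1 F) (e0 1 F) := by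
    have : β0 '' TS (e1 F) (e0 1 F) = lft (cj g⁻¹) '' (α '' TS (e1 F) (e0 1 F)) := by
      rw [Set.image_image]; rfl
    rw [this, t2, cj_TS _ hfv', hgi1, inv_inv]
    apply TS_congr (Par.refl _)
    · apply perp_two e1_ne (hfg f' hf') e0n _ e0_e1
      rw [← dotProduct_mulVec, hg1, hfv']
    · rw [← dotProduct_mulVec, hg1, hfv']
  have hφ0 : ∀ a : F, ∃ c : F, β0 (xx a) = xx c := by
    intro a
    have : β0 (xx a) ∈ TS (e0 1 F) (e1 F) := by
      rw [← s1]; exact ⟨_, ⟨a, rfl⟩, rfl⟩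
    exact this
  have hψ0 : ∀ a : F, ∃ c : F, β0 (yy a) = yy c := by
    intro a
    have : β0 (yy a) ∈ TS (e1 F) (e0 1 F) := by
      rw [← s2]; exact ⟨_, ⟨a, rfl⟩, rfl⟩
    exact this
  choose φ0 hφ0 using hφ0
  choose ψ0 hψ0 using hψ0
  have ht : φ0 1 ≠ 0 := by
    intro h
    have h1 := hφ0 1
    have hx0 : xx (0 : F) = 1 := by unfold xx; rw [zero_smul, T_zero_left]
    rw [h, hx0] at h1
    have h2 : xx (1 : F) = xx 0 := by
      rw [hx0]
      exact β0.injective (by rw [h1, map_one])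
    exact one_ne_zero (xx_inj p h2)
  set t := φ0 1 with ht_def
  set d : GL (Fin 2) F := Matrix.GeneralLinearGroup.mkOfDetNeZero !![t⁻¹, 0; 0, 1] (by
    rw [det_fin_two_of]; simpa using ht) with hd
  have hd0 : (d : Matrix (Fin 2) (Fin 2) F) = !![t⁻¹, 0; 0, 1] := rfl
  have hdi : ((d⁻¹ : GL (Fin 2) F) : Matrix (Fin 2) (Fin 2) F) = !![t, 0; 0, 1] := by
    have h1 : (d : Matrix (Fin 2) (Fin 2) F) * !![t, 0; 0, 1] = 1 := by
      rw [hd0]
      ext i j
      fin_cases i <;> fin_cases j <;> simp [ht]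
    have h2 : ((d⁻¹ : GL (Fin 2) F) : Matrix (Fin 2) (Fin 2) F) * ((d : Matrix (Fin 2) (Fin 2) F) * !![t, 0; 0, 1]) = !![t, 0; 0, 1] := by
      rw [← mul_assoc, Units.inv_mul, one_mul]
    rw [h1, mul_one] at h2
    exact h2
  have hdx : ∀ a : F, lft (cj d) (xx a) = xx (t⁻¹ * a) := by
    intro a
    unfold xx
    rw [cj_T _ (hx a), hd0, hdi]
    congr 1
    · ext i
      fin_cases i <;> simp [e0, Matrix.mulVec, dotProduct, Fin.sum_univ_two]
    · ext i
      fin_cases i <;> simp [e1, Matrix.vecMul, dotProduct, Fin.sum_univ_two]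
  have hdy : ∀ a : F, lft (cj d) (yy a) = yy (t * a) := by
    intro a
    unfold yy
    rw [cj_T _ (hy a), hd0, hdi]
    have h1 : (e0 1 F) ᵥ* !![t, 0; 0, 1] = t • e0 1 F := by
      ext i
      fin_cases i <;> simp [e0, Matrix.vecMul, dotProduct, Fin.sum_univ_two]
    have h2 : !![t⁻¹, 0; 0, 1] *ᵥ (a • e1 F) = a • e1 F := by
      ext i
      fin_cases i <;> simp [e1, Matrix.mulVec, dotProduct, Fin.sum_univ_two]
    rw [h1, h2, ← T_smul _ (hy a), smul_smul]
  obtain ⟨σ, hσ⟩ := core_two p (lft (cj d) * β0) (fun a => t⁻¹ * φ0 a) (fun a => t * ψ0 a)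
    (fun a => by rw [MulAut.mul_apply, hφ0, hdx]) (fun a => by rw [MulAut.mul_apply, hψ0, hdy])
    (inv_mul_cancel₀ ht)
  have hfin : lft (cj d) * β0 = lft (fl σ) := by
    apply aut_ext (m := 1) le_rfl
    · intro w hw
      have h1 : w = w 1 • e1 F := by
        ext i
        fin_cases i
        · simp [e1]; exact hw
        · simp [e1]
      rw [h1]
      show (lft (cj d) * β0) (yy (w 1)) = lft (fl σ) (yy (w 1))
      rw [MulAut.mul_apply, hψ0, hdy, (hσ (w 1)).2]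
      unfold yy T
      rw [lft_mk, fl_tv _ (hy _)]
      congr 2
      · ext i
        fin_cases i <;> simp [e1]
      · ext i
        fin_cases i <;> simp [e0]
    · intro g hg
      have h1 : T (e0 1 F) g = xx (g 1) := by
        unfold xx
        rw [T_smul _ e1_e0]
        congr 1
        ext i
        fin_cases i
        · simp [e1]; exact hg
        · simp [e1]
      rw [h1, MulAut.mul_apply, hφ0, hdx, (hσ (g 1)).1]
      unfold xx T
      rw [lft_mk, fl_tv _ (hx _)]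
      congr 2
      · ext i
        fin_cases i <;> simp [e0]
      · ext i
        fin_cases i <;> simp [e1]
  refine ⟨g * d⁻¹, σ, ?_⟩
  have e1 : α = lft (cj g) * (lft (cj d⁻¹) * lft (fl σ)) := by
    rw [← hfin, ← mul_assoc (lft (cj d⁻¹)), ← map_mul lft, ← map_mul cj, inv_mul_cancel, map_one, map_one, one_mul, hβ0,
      ← mul_assoc, ← map_mul lft, ← map_mul cj, mul_inv_cancel, map_one, map_one, one_mul]
  rw [e1, ← map_mul, ← map_mul, map_mul cj, mul_assoc]

/-! ### uniqueness -/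

theorem scalar_of_par {n : ℕ} (hn : 2 ≤ n) (M : Matrix (Fin n) (Fin n) F) (σ : F ≃+* F)
    (h : ∀ v : Fin n → F, v ≠ 0 → Par v (M *ᵥ (σ ∘ v))) : (∃ c : F, M = scalar (Fin n) c) ∧ σ = RingEquiv.refl F := by
  have hs : ∀ i : Fin n, (σ ∘ (Pi.single i 1 : Fin n → F)) = Pi.single i 1 := by
    intro i
    ext j
    by_cases hj : j = i
    · subst hj; simp
    · simp [hj]
  have hne : ∀ i : Fin n, (Pi.single i 1 : Fin n → F) ≠ 0 := by
    intro i h
    have := congrFun h i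
    simp at this
  have h1 : ∀ i, ∃ c : F, M *ᵥ (Pi.single i 1 : Fin n → F) = c • Pi.single i 1 := by
    intro i
    obtain ⟨c, -, hc⟩ := h _ (hne i)
    rw [hs] at hc
    exact ⟨c, hc⟩
  choose c hc using h1
  have hcc : ∀ i j, i ≠ j → ∀ a : F, a ≠ 0 → c i * a = c j * σ a := by
    intro i j hij a ha
    have hv : (Pi.single i 1 + a • Pi.single j 1 : Fin n → F) ≠ 0 := by
      intro h
      have := congrFun h i
      simp [hij] at this
    obtain ⟨k, -, hk⟩ := h _ hv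
    have h2 : (σ ∘ (Pi.single i 1 + a • Pi.single j 1 : Fin n → F)) = Pi.single i 1 + σ a • Pi.single j 1 := by
      ext l
      by_cases h3 : l = i <;> by_cases h4 : l = j <;> simp [h3, h4, Pi.single_apply]
      · split_ifs <;> simp
      · split_ifs <;> simp
    rw [h2, mulVec_add, mulVec_smul, hc, hc] at hk
    have h3 := congrFun hk i
    have h4 := congrFun hk j
    simp [hij, hij.symm] at h3 h4
    rw [h3, mul_comm (c j), h4]
  obtain ⟨i0, i1, h01⟩ : ∃ i j : Fin n, i ≠ j := by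
    haveI : Nontrivial (Fin n) := Fin.nontrivial_iff_two_le.mpr hn
    exact exists_pair_ne _
  have hci : ∀ i j, c i = c j := by
    intro i j
    by_cases hij : i = j
    · rw [hij]
    · have := hcc i j hij 1 one_ne_zero
      simpa using this
  have hM : M = scalar (Fin n) (c i0) := by
    ext a b
    have := congrFun (hc b) a
    rw [mulVec_single_one] at this
    rw [hci i0 b, scalar_apply, diagonal_apply]
    simp only [Matrix.col_apply, Pi.smul_apply, smul_eq_mul] at this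
    rw [this]
    by_cases hab : a = b
    · subst hab; simp
    · simp [hab]
  refine ⟨⟨_, hM⟩, ?_⟩
  have hc0 : c i0 ≠ 0 := by
    intro h0
    obtain ⟨k, hk, hk'⟩ := h _ (hne i0)
    rw [hs, hc, h0, zero_smul] at hk'
    exact smul_ne_zero hk (hne i0) hk'.symm
  ext a
  by_cases ha : a = 0
  · rw [ha]; simp
  have := hcc i0 i1 h01 a ha
  rw [hci i1 i0] at this
  simpa using (mul_left_cancel₀ hc0 this).symm

theorem exists_perp {n : ℕ} (hn : 2 ≤ n) (v : Fin n → F) (hv : v ≠ 0) : ∃ g : Fin n → F, g ≠ 0 ∧ g ⬝ᵥ v = 0 :=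
  exists_orthogonal hn v hv

theorem semi_T' {n : ℕ} (g : GL (Fin n) F) (σ : F ≃+* F) {v f : Fin n → F} (h : f ⬝ᵥ v = 0) :
    lft (cj g * fl σ) (T v f) = T ((g : Matrix (Fin n) (Fin n) F) *ᵥ (σ ∘ v))
      ((σ ∘ f) ᵥ* ((g⁻¹ : GL (Fin n) F) : Matrix (Fin n) (Fin n) F)) := by
  have h' : (σ ∘ f) ⬝ᵥ (σ ∘ v) = 0 := by
    have := congrArg σ h
    rw [map_zero] at this
    rw [← this]
    unfold dotProduct
    rw [map_sum]
    simp
  unfold T
  rw [lft_mk, MulAut.mul_apply, fl_tv _ h, cj_tv _ h']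

theorem semi_dot {n : ℕ} (g : GL (Fin n) F) (σ : F ≃+* F) {v f : Fin n → F} (h : f ⬝ᵥ v = 0) :
    ((σ ∘ f) ᵥ* ((g⁻¹ : GL (Fin n) F) : Matrix (Fin n) (Fin n) F)) ⬝ᵥ ((g : Matrix (Fin n) (Fin n) F) *ᵥ (σ ∘ v)) = 0 := by
  rw [← dotProduct_mulVec, mulVec_mulVec, Units.inv_mul, one_mulVec]
  have := congrArg σ h
  rw [map_zero] at this
  rw [← this]
  unfold dotProduct
  rw [map_sum]
  simp

theorem unique_one {n : ℕ} (p : ℕ) [Fact p.Prime] [CharP F p] (hn : 2 ≤ n) {g : GL (Fin n) F} {σ : F ≃+* F}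
    (h : (lft (cj g * fl σ) : MulAut (Matrix.ProjectiveSpecialLinearGroup (Fin n) F)) = 1) :
    g ∈ Subgroup.center (GL (Fin n) F) ∧ σ = RingEquiv.refl F := by
  have h1 : ∀ v : Fin n → F, v ≠ 0 → Par v ((g : Matrix (Fin n) (Fin n) F) *ᵥ (σ ∘ v)) := by
    intro v hv
    obtain ⟨f, hf, hfv⟩ := exists_perp hn v hv
    have h2 := semi_T' g σ hfv
    rw [h, MulAut.one_apply] at h2
    exact (T_par p (by omega) hv hf hfv (semi_dot g σ hfv) h2).1
  obtain ⟨⟨c, hc⟩, hσ⟩ := scalar_of_par hn _ _ h1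
  refine ⟨?_, hσ⟩
  rw [Subgroup.mem_center_iff]
  intro k
  apply Units.ext
  show (k : Matrix (Fin n) (Fin n) F) * (g : Matrix (Fin n) (Fin n) F) = (g : Matrix (Fin n) (Fin n) F) * (k : Matrix (Fin n) (Fin n) F)
  rw [hc]
  exact (scalar_commute c (fun r' => Commute.all _ _) _).symm

theorem cj_center {n : ℕ} {g : GL (Fin n) F} (hg : g ∈ Subgroup.center (GL (Fin n) F)) : cj g = 1 := by
  apply MulEquiv.ext
  intro s
  apply sl_ext
  rw [coe_cj]
  have h1 := Subgroup.mem_center_iff.1 hg (Matrix.SpecialLinearGroup.toGL s)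
  have h2 : (s : Matrix (Fin n) (Fin n) F) * (g : Matrix (Fin n) (Fin n) F) = (g : Matrix (Fin n) (Fin n) F) * (s : Matrix (Fin n) (Fin n) F) :=
    congrArg Units.val h1
  rw [← h2, mul_assoc, Units.mul_inv, mul_one]
  rfl

theorem not_it {n : ℕ} (p : ℕ) [Fact p.Prime] [CharP F p] (hn : 3 ≤ n) (g : GL (Fin n) F) (σ : F ≃+* F) :
    (lft (cj g * fl σ * it) : MulAut (Matrix.ProjectiveSpecialLinearGroup (Fin n) F)) ≠ 1 := by
  intro h
  obtain ⟨m, rfl⟩ : ∃ m, n = m + 1 := ⟨n - 1, by omega⟩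
  set i1 : Fin (m + 1) := ⟨1, by omega⟩ with hi1
  set i2 : Fin (m + 1) := ⟨2, by omega⟩ with hi2
  have h12 : i1 ≠ i2 := by simp [i1, i2]
  have h10 : (0 : Fin (m + 1)) ≠ i1 := by
    intro h
    have := congrArg Fin.val h
    simp [i1] at this
  have h20 : (0 : Fin (m + 1)) ≠ i2 := by
    intro h
    have := congrArg Fin.val h
    simp [i2] at this
  set u1 : Fin (m + 1) → F := Pi.single i1 1 with hu1
  set u2 : Fin (m + 1) → F := Pi.single i2 1 with hu2
  have hu1n : u1 ≠ 0 := by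
    intro h
    have := congrFun h i1
    simp [hu1] at this
  have hu2n : u2 ≠ 0 := by
    intro h
    have := congrFun h i2
    simp [hu2] at this
  have hu10 : e0 m F ⬝ᵥ u1 = 0 := by rw [e0_dot, hu1, Pi.single_eq_of_ne h10]
  have hu20 : e0 m F ⬝ᵥ u2 = 0 := by rw [e0_dot, hu2, Pi.single_eq_of_ne h20]
  have hpar : ¬ Par u1 u2 := by
    rintro ⟨c, -, h⟩
    have := congrFun h i2
    rw [hu1, hu2, Pi.single_eq_same, Pi.smul_apply, Pi.single_eq_of_ne h12.symm, smul_zero] at this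
    exact one_ne_zero this
  have key : ∀ u : Fin (m + 1) → F, u ≠ 0 → e0 m F ⬝ᵥ u = 0 →
      Par u ((g : Matrix (Fin (m + 1)) (Fin (m + 1)) F) *ᵥ (σ ∘ (-(e0 m F)))) := by
    intro u hu hu0
    have h' : u ⬝ᵥ (-(e0 m F)) = 0 := by rw [dotProduct_neg, dotProduct_comm, hu0, neg_zero]
    have h2 : lft (cj g * fl σ * it) (T u (e0 m F)) = lft (cj g * fl σ) (T (-(e0 m F)) u) := by
      rw [map_mul lft, MulAut.mul_apply, it_T hu0]
    rw [h, MulAut.one_apply, semi_T' g σ h'] at h2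
    exact (T_par p (by omega) hu e0_ne_zero hu0 (semi_dot g σ h') h2).1
  exact hpar ((key u1 hu1n hu10).trans (key u2 hu2n hu20).symm)

end CfsgLib.AutPSL27
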