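import Cfsg.Agent.EqBase
import Cfsg.Agent.LibAutPSL27h

set_option autoImplicit false

/-! Automorphisms of `PSL_n(F)`: predicates of the list, the map to field and graph automorphisms, the diagonal part. -/

namespace CfsgLib.AutPSL27

open Matrix

section General

theorem exists_hom_of_rel {A B : Type*} [Group A] [Group B] (R : A → B → Prop) (htot : ∀ a, ∃ b, R a b)
    (huniq : ∀ b, R 1 b → b = 1) (hmul : ∀ a a' b b', R a b → R a' b' → R (a * a') (b * b')) :
    ∃ χ : A →* B, ∀ a b, R a b ↔ χ a = b := by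
  have hu : ∀ a b b', R a b → R a b' → b = b' := by
    intro a b b' h h'
    obtain ⟨c, hc⟩ := htot a⁻¹
    have h1 := hmul _ _ _ _ h hc
    have h2 := hmul _ _ _ _ h' hc
    rw [mul_inv_cancel] at h1 h2
    have h3 := huniq _ h1
    have h4 := huniq _ h2
    rw [← h4] at h3
    exact mul_right_cancel h3
  choose f hf using htot
  refine ⟨MonoidHom.mk' f (fun a b => ?_), fun a b => ⟨fun h => hu a _ _ (hf a) h, fun h => ?_⟩⟩
  · exact hu _ _ _ (hf _) (hmul _ _ _ _ (hf a) (hf b))
  · rw [← h]; exact hf a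

/-- ring automorphisms of a finite field form a cyclic group of order `f` -/
noncomputable def ringEquivEquiv (p : ℕ) [Fact p.Prime] (F : Type*) [Field F] [Algebra (ZMod p) F] :
    (F ≃ₐ[ZMod p] F) ≃* (F ≃+* F) where
  toFun σ := σ.toRingEquiv
  invFun σ := AlgEquiv.ofRingEquiv (f := σ) (fun x => by
    have : (σ : F →+* F).comp (algebraMap (ZMod p) F) = algebraMap (ZMod p) F := Subsingleton.elim _ _
    exact congrArg (fun g : ZMod p →+* F => g x) this)
  left_inv σ := rfl
  right_inv σ := rfl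
  map_mul' σ τ := rfl

theorem ringAut_cyclic {F : Type*} [Field F] [Finite F] (p f : ℕ) [Fact p.Prime] (hF : Nat.card F = p ^ f) :
    IsCyclic (F ≃+* F) ∧ Nat.card (F ≃+* F) = f := by
  letI := Fintype.ofFinite F
  have hF' : Fintype.card F = p ^ f := by rw [← Nat.card_eq_fintype_card, hF]
  haveI : CharP F p := charP_of_card_eq_prime_pow hF'
  letI : Algebra (ZMod p) F := ZMod.algebra F p
  have hfr : Module.finrank (ZMod p) F = f := by
    have h1 := Module.card_eq_pow_finrank (K := ZMod p) (V := F)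
    rw [hF', ZMod.card] at h1
    exact (Nat.pow_right_injective (Fact.out : p.Prime).two_le h1).symm
  haveI : IsCyclic (F ≃ₐ[ZMod p] F) := inferInstance
  refine ⟨isCyclic_of_surjective (ringEquivEquiv p F) (ringEquivEquiv p F).surjective, ?_⟩
  rw [← Nat.card_congr (ringEquivEquiv p F).toEquiv, ← Nat.card_congr (Equiv.ofBijective _ (FiniteField.bijective_frobeniusAlgEquivOfAlgebraic_pow (ZMod p) F)),
    Nat.card_eq_fintype_card, Fintype.card_fin, hfr]

theorem exists_ringAut_equiv {F : Type*} [Field F] [Finite F] (p f : ℕ) [Fact p.Prime] (hF : Nat.card F = p ^ f) :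
    Nonempty ((F ≃+* F) ≃* Multiplicative (ZMod f)) := by
  obtain ⟨h1, h2⟩ := ringAut_cyclic p f hF
  haveI := h1
  refine ⟨mulEquivOfCyclicCardEq ?_⟩
  rw [h2]
  exact (Nat.card_zmod f).symm

end General

variable {F : Type*} [Field F] {n : ℕ}

/-! ### predicates -/

theorem pred_iff (e : MulAut (Matrix.SpecialLinearGroup (Fin n) F)) (β : MulAut (Matrix.ProjectiveSpecialLinearGroup (Fin n) F)) :
    (∀ s s' : Matrix.SpecialLinearGroup (Fin n) F, (s' : Matrix (Fin n) (Fin n) F) = (e s : Matrix.SpecialLinearGroup (Fin n) F) →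
      β (QuotientGroup.mk s) = QuotientGroup.mk s') ↔ β = lft e := by
  constructor
  · intro h
    apply MulEquiv.ext
    intro x
    induction x using QuotientGroup.induction_on with
    | H s => exact h s (e s) rfl
  · rintro rfl s s' h
    rw [lft_mk]
    congr 1
    exact (sl_ext h).symm

theorem isInduced_iff (g : GL (Fin n) F) (σ : F ≃+* F) (β : MulAut (Matrix.ProjectiveSpecialLinearGroup (Fin n) F)) :
    Cfsg.IsInducedBySemilinearPSL g σ β ↔ β = lft (cj g * fl σ) := by
  have h := pred_iff (cj g * fl σ) β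
  simp only [MulAut.mul_apply, coe_cj, coe_fl] at h
  exact h

theorem isInnerDiagonal_iff (β : MulAut (Matrix.ProjectiveSpecialLinearGroup (Fin n) F)) :
    Cfsg.IsInnerDiagonalAutPSL β ↔ ∃ g : GL (Fin n) F, β = lft (cj g) := by
  constructor
  · rintro ⟨g, hg⟩
    exact ⟨g, (pred_iff (cj g) β).1 hg⟩
  · rintro ⟨g, hg⟩
    exact ⟨g, (pred_iff (cj g) β).2 hg⟩

theorem isStdField_iff (σ : F ≃+* F) (β : MulAut (Matrix.ProjectiveSpecialLinearGroup (Fin n) F)) :
    Cfsg.IsStdFieldAutPSL σ β ↔ β = lft (fl σ) := pred_iff (fl σ) β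

theorem isInvTr_iff (β : MulAut (Matrix.ProjectiveSpecialLinearGroup (Fin n) F)) :
    Cfsg.IsInverseTransposeAutPSL β ↔ β = lft it := pred_iff it β

theorem inndiag_eq (n : ℕ) (F : Type*) [Field F] :
    Cfsg.inndiagPSL n F = ((lft (G := Matrix.SpecialLinearGroup (Fin n) F)).comp cj).range := by
  have : {β : MulAut (Matrix.ProjectiveSpecialLinearGroup (Fin n) F) | Cfsg.IsInnerDiagonalAutPSL β} =
      (((lft (G := Matrix.SpecialLinearGroup (Fin n) F)).comp cj).range : Set (MulAut (Matrix.ProjectiveSpecialLinearGroup (Fin n) F))) := by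
    ext β
    rw [Set.mem_setOf_eq, isInnerDiagonal_iff]
    constructor
    · rintro ⟨g, rfl⟩
      exact ⟨g, rfl⟩
    · rintro ⟨g, rfl⟩
      exact ⟨g, rfl⟩
  show Subgroup.closure _ = _
  rw [this, Subgroup.closure_eq]

theorem charP_of_card [Fintype F] {p f : ℕ} [Fact p.Prime] (hF : Fintype.card F = p ^ f) : CharP F p :=
  charP_of_card_eq_prime_pow hF

/-- the main theorem, in one statement -/
theorem main_all [Finite F] (p : ℕ) [Fact p.Prime] [CharP F p] (hn : 2 ≤ n)
    (α : MulAut (Matrix.ProjectiveSpecialLinearGroup (Fin n) F)) :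
    ∃ (g : GL (Fin n) F) (σ : F ≃+* F), α = lft (cj g * fl σ) ∨ (3 ≤ n ∧ α = lft (cj g * fl σ * it)) := by
  obtain ⟨m, rfl⟩ : ∃ m, n = m + 1 := ⟨n - 1, by omega⟩
  by_cases hm : 2 ≤ m
  · obtain ⟨g, σ, h | h⟩ := main_three p hm α
    · exact ⟨g, σ, Or.inl h⟩
    · exact ⟨g, σ, Or.inr ⟨by omega, h⟩⟩
  · obtain rfl : m = 1 := by omega
    obtain ⟨g, σ, h⟩ := main_two p α
    exact ⟨g, σ, Or.inl h⟩

theorem it_pow_even {k : ℕ} (hk : ((k : ℕ) : ZMod 2) = 0) : (it : MulAut (Matrix.SpecialLinearGroup (Fin n) F)) ^ k = 1 := by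
  rw [ZMod.natCast_eq_zero_iff] at hk
  obtain ⟨l, rfl⟩ := hk
  rw [pow_mul, sq, it_mul_it, one_pow]

theorem it_pow_odd {k : ℕ} (hk : ((k : ℕ) : ZMod 2) ≠ 0) : (it : MulAut (Matrix.SpecialLinearGroup (Fin n) F)) ^ k = it := by
  have h1 : k % 2 = 1 := by
    rw [Ne, ZMod.natCast_eq_zero_iff] at hk
    omega
  rw [← Nat.div_add_mod k 2, h1, pow_succ, pow_mul, sq, it_mul_it, one_pow, one_mul]

theorem it_pow_mul_cj (k : ℕ) (g : GL (Fin n) F) : ∃ g' : GL (Fin n) F, it ^ k * cj g = cj g' * it ^ k := by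
  induction k with
  | zero => exact ⟨g, by rw [pow_zero, one_mul, mul_one]⟩
  | succ k ih =>
    obtain ⟨g', hg'⟩ := ih
    refine ⟨itGL g', ?_⟩
    rw [pow_succ', mul_assoc, hg', ← mul_assoc, it_mul_cj, mul_assoc]

theorem it_pow_mul_fl (k : ℕ) (σ : F ≃+* F) : (it : MulAut (Matrix.SpecialLinearGroup (Fin n) F)) ^ k * fl σ = fl σ * it ^ k := by
  exact (Commute.pow_left (it_mul_fl σ) k).eq

/-- the map to field and graph automorphisms, `n ≥ 3` -/
theorem exists_chi3 [Finite F] (p : ℕ) [Fact p.Prime] [CharP F p] (hn : 3 ≤ n) :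
    ∃ χ : MulAut (Matrix.ProjectiveSpecialLinearGroup (Fin n) F) →* (F ≃+* F) × Multiplicative (ZMod 2),
      ∀ (α : MulAut (Matrix.ProjectiveSpecialLinearGroup (Fin n) F)) (b : (F ≃+* F) × Multiplicative (ZMod 2)),
        (∃ (g : GL (Fin n) F) (k : ℕ), α = lft (cj g * fl b.1 * it ^ k) ∧ Multiplicative.ofAdd ((k : ℕ) : ZMod 2) = b.2) ↔ χ α = b := by
  apply exists_hom_of_rel
  · intro α
    obtain ⟨g, σ, h | ⟨-, h⟩⟩ := main_all p (by omega) α
    · exact ⟨(σ, 1), g, 0, by rw [pow_zero, mul_one]; exact h, by simp⟩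
    · exact ⟨(σ, Multiplicative.ofAdd 1), g, 1, by rw [pow_one]; exact h, by simp⟩
  · rintro ⟨σ, ε⟩ ⟨g, k, h, hk⟩
    by_cases hk0 : ((k : ℕ) : ZMod 2) = 0
    · rw [it_pow_even hk0, mul_one] at h
      obtain ⟨-, h2⟩ := unique_one p (by omega) h.symm
      simp only at hk h2
      rw [← hk, hk0, h2]
      rfl
    · rw [it_pow_odd hk0] at h
      exact absurd h.symm (not_it p hn g σ)
  · rintro _ _ ⟨σ, ε⟩ ⟨τ, δ⟩ ⟨g, k, rfl, hk⟩ ⟨h, l, rfl, hl⟩
    obtain ⟨h', hh'⟩ := it_pow_mul_cj k h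
    refine ⟨g * Matrix.GeneralLinearGroup.map (σ : F →+* F) h', k + l, ?_, ?_⟩
    · rw [← map_mul]
      congr 1
      calc cj g * fl σ * it ^ k * (cj h * fl τ * it ^ l) = cj g * fl σ * (it ^ k * cj h) * fl τ * it ^ l := by
            simp only [mul_assoc]
        _ = cj g * (fl σ * cj h') * (it ^ k * fl τ) * it ^ l := by rw [hh']; simp only [mul_assoc]
        _ = cj g * (cj (Matrix.GeneralLinearGroup.map (σ : F →+* F) h') * fl σ) * (fl τ * it ^ k) * it ^ l := by
            rw [fl_mul_cj, it_pow_mul_fl]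
        _ = _ := by
            rw [map_mul cj, Prod.fst_mul, map_mul fl, pow_add]; simp only [mul_assoc]
    · rw [Prod.snd_mul, ← hk, ← hl, Nat.cast_add, ofAdd_add]

/-- the map to field automorphisms, `n = 2` -/
theorem exists_chi2 [Finite F] (p : ℕ) [Fact p.Prime] [CharP F p] :
    ∃ χ : MulAut (Matrix.ProjectiveSpecialLinearGroup (Fin 2) F) →* (F ≃+* F),
      ∀ (α : MulAut (Matrix.ProjectiveSpecialLinearGroup (Fin 2) F)) (σ : F ≃+* F),
        (∃ (g : GL (Fin 2) F), α = lft (cj g * fl σ)) ↔ χ α = σ := by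
  apply exists_hom_of_rel
  · intro α
    obtain ⟨g, σ, h⟩ := main_two p α
    exact ⟨σ, g, h⟩
  · rintro σ ⟨g, h⟩
    exact (unique_one p (by omega) h.symm).2
  · rintro _ _ σ τ ⟨g, rfl⟩ ⟨h, rfl⟩
    refine ⟨g * Matrix.GeneralLinearGroup.map (σ : F →+* F) h, ?_⟩
    rw [← map_mul]
    congr 1
    calc cj g * fl σ * (cj h * fl τ) = cj g * (fl σ * cj h) * fl τ := by
          simp only [mul_assoc]
      _ = cj g * (cj (Matrix.GeneralLinearGroup.map (σ : F →+* F) h) * fl σ) * fl τ := by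
          rw [fl_mul_cj]
      _ = _ := by
          rw [map_mul cj, map_mul fl]; simp only [mul_assoc]

/-! ### the diagonal part -/

theorem cjP_ker (p : ℕ) [Fact p.Prime] [CharP F p] (hn : 2 ≤ n) :
    ((lft (G := Matrix.SpecialLinearGroup (Fin n) F)).comp cj).ker = Subgroup.center (GL (Fin n) F) := by
  ext g
  rw [MonoidHom.mem_ker]
  constructor
  · intro h
    exact (unique_one p hn (σ := RingEquiv.refl F) (by
      have : fl (RingEquiv.refl F) = (1 : MulAut (Matrix.SpecialLinearGroup (Fin n) F)) := map_one fl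
      rw [this, mul_one]; exact h)).1
  · intro h
    rw [MonoidHom.comp_apply, cj_center h, map_one]

/-- `GL → Out(PSL)` -/
noncomputable def om (n : ℕ) (F : Type*) [Field F] : GL (Fin n) F →* Cfsg.Out (Matrix.ProjectiveSpecialLinearGroup (Fin n) F) :=
  (QuotientGroup.mk' _).comp ((lft (G := Matrix.SpecialLinearGroup (Fin n) F)).comp cj)

theorem om_ker (p : ℕ) [Fact p.Prime] [CharP F p] (hn : 2 ≤ n) (g : GL (Fin n) F) :
    g ∈ (om n F).ker ↔ Matrix.GeneralLinearGroup.det g ∈ (powMonoidHom n : Fˣ →* Fˣ).range := by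
  rw [MonoidHom.mem_ker]
  constructor
  · intro h
    have h1 : lft (cj g) ∈ Cfsg.Inn (Matrix.ProjectiveSpecialLinearGroup (Fin n) F) := (QuotientGroup.eq_one_iff _).1 h
    obtain ⟨x, hx⟩ := h1
    induction x using QuotientGroup.induction_on with
    | H s =>
      rw [conj_mk] at hx
      have h2 : g * (Matrix.SpecialLinearGroup.toGL s)⁻¹ ∈ Subgroup.center (GL (Fin n) F) := by
        rw [← cjP_ker p hn, MonoidHom.mem_ker, map_mul, map_inv, mul_inv_eq_one]
        exact hx.symm
      rw [Matrix.GeneralLinearGroup.center_eq_range_scalar] at h2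
      obtain ⟨c, hc⟩ := h2
      refine ⟨c, ?_⟩
      have h3 : g = Matrix.GeneralLinearGroup.scalar (Fin n) c * Matrix.SpecialLinearGroup.toGL s := by
        rw [hc, inv_mul_cancel_right]
      have h4 : Matrix.GeneralLinearGroup.det (Matrix.SpecialLinearGroup.toGL s) = 1 := by
        apply Units.ext
        exact s.2
      rw [h3, map_mul, Matrix.GeneralLinearGroup.det_scalar, h4, mul_one, Fintype.card_fin]
      rfl
  · rintro ⟨c, hc⟩
    have hc' : c ^ n = Matrix.GeneralLinearGroup.det g := hc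
    set s0 : GL (Fin n) F := Matrix.GeneralLinearGroup.scalar (Fin n) c⁻¹ * g with hs0
    have hs0d : Matrix.GeneralLinearGroup.det s0 = 1 := by
      rw [hs0, map_mul, Matrix.GeneralLinearGroup.det_scalar, Fintype.card_fin, ← hc', inv_pow, inv_mul_cancel]
    let s : Matrix.SpecialLinearGroup (Fin n) F := ⟨s0, congrArg Units.val hs0d⟩
    have hs : Matrix.SpecialLinearGroup.toGL s = s0 := by
      apply Units.ext
      rfl
    apply (QuotientGroup.eq_one_iff _).2
    refine ⟨QuotientGroup.mk s, ?_⟩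
    rw [conj_mk, hs]
    show lft (cj s0) = lft (cj g)
    have h5 : g = Matrix.GeneralLinearGroup.scalar (Fin n) c * s0 := by
      rw [hs0, ← mul_assoc, ← map_mul, mul_inv_cancel, map_one, one_mul]
    have h6 : cj (Matrix.GeneralLinearGroup.scalar (Fin n) c) = (1 : MulAut (Matrix.SpecialLinearGroup (Fin n) F)) := by
      apply cj_center
      rw [Matrix.GeneralLinearGroup.center_eq_range_scalar]
      exact ⟨c, rfl⟩
    conv_rhs => rw [h5, map_mul, h6, one_mul]

theorem det_surj (hn : 1 ≤ n) : Function.Surjective (Matrix.GeneralLinearGroup.det : GL (Fin n) F →* Fˣ) := by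
  intro u
  have key : (diagonal (fun i : Fin n => if i = ⟨0, hn⟩ then (u : F) else 1)).det = u := by
    rw [det_diagonal, Finset.prod_eq_single ⟨0, hn⟩]
    · rw [if_pos rfl]
    · intro b _ hb
      rw [if_neg hb]
    · intro h
      exact absurd (Finset.mem_univ _) h
  refine ⟨Matrix.GeneralLinearGroup.mkOfDetNeZero (diagonal (fun i : Fin n => if i = ⟨0, hn⟩ then (u : F) else 1)) ?_, ?_⟩
  · rw [key]
    exact u.ne_zero
  · apply Units.ext
    exact key

theorem om_range [Finite F] (p : ℕ) [Fact p.Prime] [CharP F p] (hn : 2 ≤ n) :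
    IsCyclic (om n F).range ∧ Nat.card (om n F).range = Nat.gcd n (Nat.card F - 1) := by
  have hker : (om n F).ker = ((QuotientGroup.mk' (powMonoidHom n : Fˣ →* Fˣ).range).comp Matrix.GeneralLinearGroup.det).ker := by
    ext g
    rw [om_ker p hn, MonoidHom.mem_ker, MonoidHom.comp_apply, QuotientGroup.mk'_apply, QuotientGroup.eq_one_iff]
  have hsurj : Function.Surjective ((QuotientGroup.mk' (powMonoidHom n : Fˣ →* Fˣ).range).comp
      (Matrix.GeneralLinearGroup.det : GL (Fin n) F →* Fˣ)) :=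
    (QuotientGroup.mk'_surjective _).comp (det_surj (by omega))
  have e : (om n F).range ≃* (Fˣ ⧸ (powMonoidHom n : Fˣ →* Fˣ).range) :=
    ((QuotientGroup.quotientKerEquivRange (om n F)).symm.trans (QuotientGroup.quotientMulEquivOfEq hker)).trans
      (QuotientGroup.quotientKerEquivOfSurjective _ hsurj)
  haveI : IsCyclic Fˣ := inferInstance
  refine ⟨?_, ?_⟩
  · haveI : IsCyclic (Fˣ ⧸ (powMonoidHom n : Fˣ →* Fˣ).range) :=
      isCyclic_of_surjective (QuotientGroup.mk' _) (QuotientGroup.mk'_surjective _)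
    exact isCyclic_of_surjective e.symm e.symm.surjective
  · rw [Nat.card_congr e.toEquiv, ← Subgroup.index_eq_card, IsCyclic.index_powMonoidHom_range, Nat.gcd_comm]
    congr 1
    letI := Fintype.ofFinite F
    classical
    rw [Nat.card_eq_fintype_card, Fintype.card_units, Nat.card_eq_fintype_card]

end CfsgLib.AutPSL27
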