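import Cfsg.Agent.EqBase
import Cfsg.Agent.LibBGRk2

/-! B & G section 4: consequences of small rank for solvable groups of odd order. -/

open Subgroup
open scoped Pointwise commutatorElement MatrixGroups

namespace CfsgLib.BGPi

open Cfsg

universe u
variable {G : Type u} [Group G]

theorem isPGroup_of_elements [Finite G] {p : ℕ} (hp : p.Prime) {X : Subgroup G}
    (h : ∀ q : ℕ, q.Prime → q ≠ p → ∀ x ∈ X, orderOf x = q → False) : IsPGroup p X := by
  apply IsPi.isPGroup hp
  intro q hq hd
  rw [Set.mem_singleton_iff]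
  by_contra hne
  haveI : Fact q.Prime := ⟨hq⟩
  obtain ⟨x, hx⟩ := exists_prime_orderOf_dvd_card' q hd
  exact h q hq hne x x.2 (by rw [← hx]; exact Subgroup.orderOf_coe x)

/-- the rank of an isomorphic image -/
theorem rank_map [Finite G] {p k : ℕ} {G' : Type*} [Group G'] [Finite G'] {f : G →* G'} {X : Subgroup G}
    (hX : X ⊓ f.ker = ⊥) (h : PRankLE p k X) : PRankLE p k ↥(X.map f) := by
  rw [rank_iff] at *
  intro A hA he
  set B := X ⊓ A.comap f with hB
  have hBA : B.map f = A := by
    apply le_antisymm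
    · rw [Subgroup.map_le_iff_le_comap]; exact inf_le_right
    · intro a ha
      obtain ⟨x, hx, rfl⟩ := hA ha
      exact ⟨x, ⟨hx, ha⟩, rfl⟩
  have hBe : IsElementaryAbelian p B := by
    refine ⟨comm_iff_le_cz.2 ?_, ?_⟩
    · intro x hx
      rw [mem_cz]
      intro y hy
      exact comm_of_map_comm' hX hy.1 hx.1 (mem_cz.1 (comm_iff_le_cz.1 he.1 hx.2) _ hy.2)
    · intro x hx
      have h1 : x ^ p ∈ X ⊓ f.ker := by
        refine Subgroup.mem_inf.2 ⟨pow_mem hx.1 p, ?_⟩
        rw [MonoidHom.mem_ker, map_pow]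
        exact he.2 _ hx.2
      rw [hX] at h1
      exact Subgroup.mem_bot.1 h1
  have h1 := h B inf_le_left hBe
  rw [← hBA]
  refine le_trans ?_ h1
  exact Nat.card_le_card_of_surjective _ (f.subgroupMap_surjective B)

theorem rank_quot [Finite G] {p k : ℕ} (hp : p.Prime) (K : Subgroup G) [K.Normal]
    (hK : (Nat.card K).Coprime p) (h : PRankLE p k G) : PRankLE p k (G ⧸ K) := by
  obtain ⟨S, hS⟩ := exists_syl hp (⊤ : Subgroup G)
  have hSp : IsPGroup p S := (hall_isPi hS).isPGroup hp
  have h1 : S ⊓ (QuotientGroup.mk' K).ker = ⊥ := by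
    rw [QuotientGroup.ker_mk', inf_comm]
    exact cop_inf (coprime_card_of_pgroup hp hSp hK)
  have h2 := rank_map h1 (rank_of_top h (M := S))
  have h3 := hall_map hS (QuotientGroup.mk' K)
  rw [Subgroup.map_top_of_surjective _ (QuotientGroup.mk'_surjective _)] at h3
  have h4 := (rank_syl hp h3).2 h2
  rw [rank_iff] at h4
  rw [rank_top_iff]
  exact fun A hA => h4 A le_top hA

/-- the common conclusion of 4.18 and 5.6 -/
theorem concl_of_quot [Finite G] {p : ℕ} [hpp : Fact p.Prime] (hp2 : p ≠ 2)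
    (hodd : Odd (Nat.card G))
    (h1 : IsPGroup p ↥(_root_.commutator (G ⧸ pPrimeCore p G)))
    (h2 : ∀ q : ℕ, q.Prime → q ∣ Nat.card (G ⧸ pPrimeCore p G) → q = p ∨ 2 * q ≤ p + 1) :
    (∀ q : ℕ, q.Prime → q ∣ (Cfsg.pPrimeCore p G).index → q ≤ p) ∧
      ((p = 3 ∨ ∀ q : ℕ, q.Prime → q ∣ Nat.card G → p ≤ q) → Cfsg.HasNormalPComplement p G) ∧
      Cfsg.HasNormalPComplement p ↥(_root_.commutator G) ∧
      (∀ L : Subgroup ↥(_root_.commutator G), (Nat.card L).Coprime p →
        L ≤ Cfsg.pPrimeCore p ↥(_root_.commutator G)) ∧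
      _root_.commutator G ≤ Cfsg.pPrimePCore p G ∧ ((Cfsg.pPrimePCore p G).index).Coprime p := by
  have hp := hpp.out
  set K := pPrimeCore p G with hK
  set π := QuotientGroup.mk' K with hπ
  have hidx : K.index = Nat.card (G ⧸ K) := rfl
  have hKc : (Nat.card K).Coprime p := coprime_core p
  let f : ↥(_root_.commutator G) →* G ⧸ K := π.comp (_root_.commutator G).subtype
  have hfr : f.range ≤ _root_.commutator (G ⧸ K) := by
    rintro _ ⟨x, rfl⟩
    have : (_root_.commutator G).map π ≤ _root_.commutator (G ⧸ K) := by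
      rw [commutator_def, commutator_def, Subgroup.map_commutator]
      exact Subgroup.commutator_mono le_top le_top
    exact this (Subgroup.mem_map_of_mem π x.2)
  have hfp : IsPGroup p f.range := h1.to_le hfr
  have hker : (Nat.card f.ker).Coprime p := by
    have : Nat.card f.ker ∣ Nat.card K := by
      have h3 : f.ker.map (_root_.commutator G).subtype ≤ K := by
        rintro _ ⟨x, hx, rfl⟩
        have : π x = 1 := hx
        rwa [← MonoidHom.mem_ker, QuotientGroup.ker_mk'] at this
      rw [← card_map_subtype]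
      exact Subgroup.card_dvd_of_le h3
    exact Nat.Coprime.coprime_dvd_left this hKc
  refine ⟨?_, ?_, ?_, ?_, ?_, ?_⟩
  · intro q hq hd
    rcases h2 q hq hd with h3 | h3
    · exact h3.le
    · have := hp.two_le; omega
  · intro h
    rw [CfsgLib.Npc9.hnpc_iff_pPrimeCore]
    refine ⟨_, Nat.eq_prime_pow_of_unique_prime_dvd (by rw [hidx]; exact Nat.card_pos.ne') ?_⟩
    intro q hq hd
    rcases h2 q hq hd with h3 | h3
    · exact h3
    · exfalso
      have hq2 := hq.two_le
      have hp2' := hp.two_le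
      rcases h with h | h
      · subst h
        have : q = 2 := by omega
        subst this
        have h4 : 2 ∣ Nat.card G := hd.trans (Subgroup.index_dvd_card K)
        exact Nat.not_even_iff_odd.2 hodd (even_iff_two_dvd.2 h4)
      · have := h q hq (hd.trans (Subgroup.index_dvd_card K))
        omega
  · refine CfsgLib.Npc9.hnpc_of_ker_coprime f.rangeRestrict f.rangeRestrict_surjective ?_
      (CfsgLib.Npc9.hnpc_of_isPGroup hfp)
    rwa [MonoidHom.ker_rangeRestrict]
  · intro L hL
    have h3 : L ≤ f.ker := by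
      rw [← Subgroup.map_eq_bot_iff]
      refine eq_bot_of_isPi (π := {p}) (isPi_of_isPGroup hp (hfp.to_le ?_))
        (((isPi_compl_singleton' hp).2 hL).map f)
      rw [MonoidHom.range_eq_map]
      exact Subgroup.map_mono le_top
    refine h3.trans ?_
    rw [pPrimeCore_eq_piCore hp]
    exact le_piCore inferInstance ((isPi_compl_singleton' hp).2 hker)
  · rw [le_ppc_iff, pCore_eq_piCore hp]
    have h3 : (_root_.commutator G).map π = _root_.commutator (G ⧸ K) := by
      rw [commutator_def, commutator_def, Subgroup.map_commutator,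
        Subgroup.map_top_of_surjective _ (QuotientGroup.mk'_surjective _)]
    rw [h3]
    exact le_piCore inferInstance (isPi_of_isPGroup hp h1)
  · -- the Sylow subgroup of the quotient is normal
    have h3 : (pPrimePCore p G).index = (pCore p (G ⧸ K)).index := by
      rw [pPrimePCore, Subgroup.index_comap_of_surjective _ (QuotientGroup.mk'_surjective _)]
    rw [h3]
    obtain ⟨S⟩ := (inferInstance : Nonempty (Sylow p (G ⧸ K)))
    have h4 : _root_.commutator (G ⧸ K) ≤ S := by
      have h5 : _root_.commutator (G ⧸ K) ≤ pCore p (G ⧸ K) := by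
        rw [pCore_eq_piCore hp]
        exact le_piCore inferInstance (isPi_of_isPGroup hp h1)
      exact h5.trans (CfsgLib.Cores.pCore_le_sylow S)
    have h5 : (S : Subgroup (G ⧸ K)).Normal := by
      constructor
      intro x hx g
      have h6 : g * x * g⁻¹ = (g * x * g⁻¹ * x⁻¹) * x := by group
      rw [h6]
      refine mul_mem (h4 ?_) hx
      exact Subgroup.commutator_mem_commutator (Subgroup.mem_top g) (Subgroup.mem_top x)
    have h6 : pCore p (G ⧸ K) = S := by
      apply le_antisymm (CfsgLib.Cores.pCore_le_sylow S)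
      rw [pCore_eq_piCore hp]
      exact le_piCore h5 (isPi_of_isPGroup hp S.2)
    rw [h6, Nat.coprime_comm, hp.coprime_iff_not_dvd]
    exact S.not_dvd_index

theorem two_mul_le {p q : ℕ} (hq2 : q ≠ 2) (hq : q.Prime) (hp : p.Prime) (hp2 : p ≠ 2)
    (h : q ∣ p - 1 ∨ q ∣ p + 1) : 2 * q ≤ p + 1 := by
  have hpo := hp.odd_of_ne_two hp2
  have hqo := hq.odd_of_ne_two hq2
  have h2q : Nat.Coprime 2 q := (Nat.coprime_primes Nat.prime_two hq).2 (fun h => hq2 h.symm)
  obtain ⟨k, hk⟩ := hpo
  have hp1 := hp.one_lt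
  rcases h with h | h
  · have h3 : 2 * q ∣ p - 1 := h2q.mul_dvd_of_dvd_of_dvd ⟨k, by omega⟩ h
    have := Nat.le_of_dvd (by omega) h3
    omega
  · have h3 : 2 * q ∣ p + 1 := h2q.mul_dvd_of_dvd_of_dvd ⟨k + 1, by omega⟩ h
    exact Nat.le_of_dvd (by omega) h3

theorem quot_facts [Finite G] [Group.IsSolvable G] {p : ℕ} [hpp : Fact p.Prime] (hp2 : p ≠ 2)
    (hodd : Odd (Nat.card G)) (hr : PRankLE p 2 G) :
    IsPGroup p ↥(_root_.commutator (G ⧸ pPrimeCore p G)) ∧
    (∀ q : ℕ, q.Prime → q ∣ Nat.card (G ⧸ pPrimeCore p G) → q = p ∨ 2 * q ≤ p + 1) := by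
  have hp := hpp.out
  set K := pPrimeCore p G with hK
  have hQodd : Odd (Nat.card (G ⧸ K)) := hodd.of_dvd_nat (Subgroup.card_quotient_dvd_card K)
  have hr' : PRankLE p 2 (G ⧸ K) := rank_quot hp K (coprime_core p) hr
  set R := pCore p (G ⧸ K) with hR
  have hRp : IsPGroup p R := CfsgLib.Cores.pCore_isPGroup p
  have hRr : PRankLE p 2 R := rank_of_top hr'
  have hCR : 𝓒(R) ≤ R := pconstrained_core (CfsgLib.Cores.pPrimeCore_quotient_pPrimeCore p)
  have hn : (⊤ : Subgroup (G ⧸ K)) ≤ 𝓝(R) := by rw [Subgroup.normalizer_eq_top]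
  have htop : Odd (Nat.card (⊤ : Subgroup (G ⧸ K))) := by rwa [Subgroup.card_top]
  have key : ∀ q : ℕ, q.Prime → q ≠ p → ∀ x ∈ 𝓒(R), orderOf x = q → False := by
    intro q hq hqp x hx hxo
    obtain ⟨k, hk⟩ := (IsPGroup.iff_orderOf.1 hRp) ⟨x, hCR hx⟩
    rw [← Subgroup.orderOf_coe] at hk
    change orderOf x = _ at hk
    rw [hxo] at hk
    have h1 : q ∣ p ^ k := by rw [← hk]
    exact hqp ((Nat.prime_dvd_prime_iff_eq hq hp).1 (hq.dvd_of_dvd_pow h1))
  have hcop : ∀ q : ℕ, q.Prime → q ≠ p → q.Coprime p := fun q hq hqp =>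
    (Nat.coprime_primes hq hp).2 hqp
  constructor
  · apply isPGroup_of_elements hp
    intro q hq hqp x hx hxo
    refine key q hq hqp x ?_ hxo
    exact rk2_der hp hp2 hRp hRr hn htop hx (by rw [hxo]; exact hcop q hq hqp)
  · intro q hq hd
    by_cases hqp : q = p
    · exact Or.inl hqp
    right
    haveI : Fact q.Prime := ⟨hq⟩
    have hq2 : q ≠ 2 := by
      rintro rfl
      exact Nat.not_even_iff_odd.2 hQodd (even_iff_two_dvd.2 hd)
    apply two_mul_le hq2 hq hp hp2
    by_contra hcon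
    push Not at hcon
    obtain ⟨x, hx⟩ := exists_prime_orderOf_dvd_card' q hd
    refine key q hq hqp x ?_ hx
    refine rk2_primes hp hp2 hRp hRr hn (Subgroup.mem_top x) ?_ ?_ ?_
    · rw [hx]; exact hcop q hq hqp
    · rw [hx]; exact (hq.coprime_iff_not_dvd).2 hcon.1
    · rw [hx]; exact (hq.coprime_iff_not_dvd).2 hcon.2

end CfsgLib.BGPi
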