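import Cfsg.Agent.EqBase
import Cfsg.Agent.LibBGRk2b

/-! B & G section 4: solvable groups of odd order whose Fitting subgroup has small rank. -/

open Subgroup
open scoped Pointwise commutatorElement MatrixGroups

namespace CfsgLib.BGPi

open Cfsg

universe u
variable {G : Type u} [Group G]

section
variable [Finite G]

omit [Finite G] in
theorem solvable_of_le_top [h : Group.IsSolvable G] : Group.IsSolvable (⊤ : Subgroup G) :=
  CfsgLib.Coprime.isSolvable_of_equiv Subgroup.topEquiv.symm h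

theorem piCore_char' (π : Set ℕ) : (piCore π G).Characteristic := by
  rw [Subgroup.characteristic_iff_map_le]
  intro φ
  refine le_piCore (Subgroup.Normal.map inferInstance _ φ.surjective) ?_
  exact (isPi_piCore π).map _

theorem fitting_top : fittingOf (⊤ : Subgroup G) = fittingSubgroup G := by
  have h1 : (fittingOf (⊤ : Subgroup G)).Normal := by
    rw [← Subgroup.normalizer_eq_top_iff, eq_top_iff]
    exact le_nz_fittingOf ⊤
  apply le_antisymm
  · exact le_sSup ⟨h1, fittingOf_nilpotent ⊤⟩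
  · refine sSup_le ?_
    rintro N ⟨hN, hN'⟩
    haveI := hN
    exact le_fittingOf le_top (by rw [Subgroup.normalizer_eq_top]) hN'

theorem nilpotent_of_central_quot {p : ℕ} (hp : p.Prime) {K : Subgroup G}
    (h : ∀ x ∈ K, (orderOf x).Coprime p → x ∈ 𝓒(K)) : Group.IsNilpotent K := by
  haveI : Fact p.Prime := ⟨hp⟩
  apply Group.of_quotient_center_nilpotent
  have h1 : IsPGroup p (K ⧸ Subgroup.center K) := by
    rw [isPGroup_iff_pow_pow_eq_one]
    intro x
    obtain ⟨x, rfl⟩ := QuotientGroup.mk_surjective x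
    obtain ⟨n, m, hm, hx⟩ := Nat.exists_eq_pow_mul_and_not_dvd (orderOf_pos x).ne' p hp.ne_one
    refine ⟨n, ?_⟩
    rw [← QuotientGroup.mk_pow, QuotientGroup.eq_one_iff]
    have h2 : (orderOf ((x ^ p ^ n : K) : G)).Coprime p := by
      rw [Subgroup.orderOf_coe, orderOf_pow, hx, Nat.coprime_comm, hp.coprime_iff_not_dvd]
      rw [Nat.gcd_eq_right (Dvd.intro _ rfl), Nat.mul_div_cancel_left _ (pow_pos hp.pos n)]
      exact hm
    have h3 := h _ (x ^ p ^ n : K).2 h2
    rw [Subgroup.mem_center_iff]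
    intro g
    exact Subtype.ext (mem_cz.1 h3 g g.2)
  exact h1.isNilpotent

theorem exists_syl_not_le {D F : Subgroup G} (h : ¬ D ≤ F) :
    ∃ p : ℕ, p.Prime ∧ ∃ S, IsPiHallOf {p} S D ∧ ¬ S ≤ F := by
  by_contra hcon
  push Not at hcon
  apply h
  rw [← inf_eq_left, inf_comm]
  have h1 : (F ⊓ D).relIndex D = 1 := by
    by_contra hne
    obtain ⟨r, hr, hd⟩ := Nat.exists_prime_and_dvd hne
    obtain ⟨S, hS⟩ := exists_syl hr D
    have h3 : S ≤ F ⊓ D := le_inf (hcon r hr S hS) hS.1
    exact hS.2.2 r hr rfl (hd.trans (Subgroup.relIndex_dvd_of_le_left D h3))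
  rw [Subgroup.relIndex_eq_one] at h1
  exact le_antisymm inf_le_right h1

/-- elements centralizing all `O_q(H)`, `q ≠ p`, centralize `O_{p'}(F(H))` -/
theorem cz_compl {π : Set ℕ} {H : Subgroup G} {x : G}
    (h : ∀ q : ℕ, q.Prime → q ∈ π → x ∈ 𝓒(piCoreOf {q} H)) :
    x ∈ 𝓒(piCoreOf π (fittingOf H)) := by
  set N := piCoreOf π (fittingOf H) with hN
  have hNn : Group.IsNilpotent N := nilpotent_sub (piCoreOf_le _ _) (fittingOf_nilpotent H)
  have h1 : N ≤ Subgroup.centralizer {x} := by
    refine nilpotent_le_of_pcores hNn fun q hq => ?_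
    by_cases hb : piCoreOf {q} N = ⊥
    · rw [hb]; exact bot_le
    · have hqπ : q ∈ π := isPi_piCoreOf _ _ q hq (isPi_pcore_dvd hb)
      have h2 : piCoreOf {q} N ≤ piCoreOf {q} H := by
        rw [hN, piCoreOf_piCoreOf, ← piCoreOf_fittingOf hq H]
        exact piCoreOf_mono_set Set.inter_subset_left _
      intro y hy
      rw [Subgroup.mem_centralizer_singleton_iff]
      exact mem_cz.1 (h q hq hqπ) y (h2 hy)
  rw [mem_cz]
  intro y hy
  exact Subgroup.mem_centralizer_singleton_iff.1 (h1 hy)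

/-- B & G, Theorem 4.20 (a), relative form -/
theorem der_le_fitting {H : Subgroup G} (hH : Group.IsSolvable H) (hodd : Odd (Nat.card H))
    (hr : ∀ p : ℕ, p.Prime → PRankLE p 2 ↥(piCoreOf {p} H)) : ⁅H, H⁆ ≤ fittingOf H := by
  set F := fittingOf H with hF
  have hFn := fittingOf_nilpotent H
  set D := ⁅H, H⁆ with hD
  have hDH : D ≤ H := Subgroup.commutator_le_self H
  have hcz : ∀ r : ℕ, r.Prime → ∀ x ∈ D, (orderOf x).Coprime r → x ∈ 𝓒(piCoreOf {r} H) := by
    intro r hr' x hx hxo
    by_cases hr2 : r = 2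
    · subst hr2
      have h1 : piCoreOf {2} H = ⊥ := by
        by_contra hne
        exact Nat.not_even_iff_odd.2 hodd (even_iff_two_dvd.2 (isPi_pcore_dvd hne))
      rw [h1, cz_bot]; trivial
    · exact rk2_der hr' hr2 ((isPi_piCoreOf _ _).isPGroup hr') (hr r hr') (le_nz_piCoreOf _ _) hodd
        hx hxo
  by_contra hcon
  obtain ⟨p, hp, S, hS, hSF⟩ := exists_syl_not_le hcon
  apply hSF
  haveI : Fact p.Prime := ⟨hp⟩
  set B := piCoreOf {p}ᶜ F with hB
  have hHB : H ≤ 𝓝(B) := (le_nz_fittingOf H).trans (nz_le_nz_piCoreOf _ _)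
  set K := D ⊓ 𝓒(B) with hK
  have hKH : K ≤ H := inf_le_left.trans hDH
  have hHK : H ≤ 𝓝(K) := le_nz_inf (left_le_nz_comm H H)
    (hHB.trans (nz_le_nz_cz B))
  have hSK : S ≤ K := by
    refine le_inf hS.1 fun x hx => ?_
    apply cz_compl
    intro q hq hqp
    apply hcz q hq x (hS.1 hx)
    obtain ⟨k, hk⟩ := (IsPGroup.iff_orderOf.1 ((hall_isPi hS).isPGroup hp)) ⟨x, hx⟩
    rw [← Subgroup.orderOf_coe] at hk
    change orderOf x = _ at hk
    rw [hk]
    exact ((Nat.coprime_primes hp hq).2 (fun h => hqp (by rw [← h]; rfl))).pow_left k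
  refine hSK.trans (le_fittingOf hKH hHK ?_)
  apply nilpotent_of_central_quot hp
  intro y hy hyo
  have h1 : y ∈ 𝓒(piCoreOf {p} F) := by
    rw [hF, piCoreOf_fittingOf hp]
    exact hcz p hp y hy.1 hyo
  have h2 : y ∈ 𝓒(F) := by
    have h3 : F ≤ Subgroup.centralizer {y} := by
      rw [show F = piCoreOf {p} F ⊔ piCoreOf {p}ᶜ F from (nilpotent_sup_piCoreOf hFn).symm]
      refine sup_le ?_ ?_
      · intro z hz
        rw [Subgroup.mem_centralizer_singleton_iff]
        exact mem_cz.1 h1 z hz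
      · intro z hz
        rw [Subgroup.mem_centralizer_singleton_iff]
        exact mem_cz.1 hy.2 z hz
    rw [mem_cz]
    intro z hz
    exact Subgroup.mem_centralizer_singleton_iff.1 (h3 hz)
  have h3 : y ∈ F := cz_fittingOf_le hH ⟨hKH hy, h2⟩
  have h4 : y ∈ B := by
    have h5 : zpowers y ≤ B := by
      refine nilpotent_le_piCoreOf hFn (by rwa [Subgroup.zpowers_le]) ?_
      rw [isPi_compl_singleton' hp, Nat.card_zpowers]
      exact hyo
    exact h5 (Subgroup.mem_zpowers y)
  rw [mem_cz]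
  intro z hz
  exact (mem_cz.1 hz.2 y h4).symm

/-- the Hall subgroup for large primes, relative form -/
theorem hall_large_le {H : Subgroup G} (hH : Group.IsSolvable H) (hodd : Odd (Nat.card H))
    (hr : ∀ p : ℕ, p.Prime → PRankLE p 2 ↥(piCoreOf {p} H)) (p : ℕ) {L : Subgroup G}
    (hL : IsPiHallOf {q | q.Prime ∧ p < q} L H) : H ≤ 𝓝(L) := by
  set π : Set ℕ := {q | q.Prime ∧ p < q} with hπ
  set F := fittingOf H with hF
  have hFH : F ≤ H := fittingOf_le H
  have hFn := fittingOf_nilpotent H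
  have hHF : H ≤ 𝓝(F) := le_nz_fittingOf H
  have hder := der_le_fitting hH hodd hr
  have hLH := hL.1
  have hLB : L ≤ 𝓒(piCoreOf πᶜ F) := by
    intro x hx
    apply cz_compl
    intro r hr' hrπ
    by_cases hr2 : r = 2
    · subst hr2
      have h1 : piCoreOf {2} H = ⊥ := by
        by_contra hne
        exact Nat.not_even_iff_odd.2 hodd (even_iff_two_dvd.2 (isPi_pcore_dvd hne))
      rw [h1, cz_bot]; trivial
    · have hrp : r ≤ p := by
        by_contra hcon
        exact hrπ ⟨hr', not_le.1 hcon⟩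
      have hro := hr'.odd_of_ne_two hr2
      have key : ∀ n : ℕ, 0 < n → n ≤ r + 1 → (orderOf x).Coprime n := by
        intro n hn hnr
        refine Nat.coprime_of_dvd fun q hq h1 h2 => ?_
        have h3 : q ∣ Nat.card L := by
          have := orderOf_dvd_natCard (⟨x, hx⟩ : L)
          rw [← Subgroup.orderOf_coe] at this
          exact h1.trans this
        have h4 := hall_isPi hL q hq h3
        have h5 := Nat.le_of_dvd hn h2
        have h6 : p < q := h4.2
        have h7 : q = r + 1 := by omega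
        have h8 : Even q := by rw [h7]; exact hro.add_one
        have h9 : q = 2 := hq.even_iff.1 h8
        have := hr'.two_le
        omega
      have := hr'.two_le
      exact rk2_primes hr' hr2 ((isPi_piCoreOf _ _).isPGroup hr') (hr r hr') (le_nz_piCoreOf _ _)
        (hLH hx) (key r hr'.pos (Nat.le_succ r)) (key (r - 1) (by omega) (by omega))
        (key (r + 1) (by omega) le_rfl)
  set A := piCoreOf π F with hA
  set B := piCoreOf πᶜ F with hB
  have hAB : A ⊔ B = F := nilpotent_sup_piCoreOf hFn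
  have hAL : A ≤ L := by
    rw [hA, piCoreOf_of_normal hFH hHF]
    exact inf_le_right.trans (piCoreOf_le_hall hL)
  have hLF : L ⊔ F = L ⊔ B := by
    apply le_antisymm
    · refine sup_le le_sup_left ?_
      rw [← hAB]
      exact sup_le (hAL.trans le_sup_left) le_sup_right
    · exact sup_le_sup_left (piCoreOf_le _ _) _
  have hn1 : L ⊔ F ≤ 𝓝(L) := by
    rw [hLF]
    exact sup_le le_normalizer ((le_cz_comm.1 hLB).trans (cz_le_nz L))
  have hLFH : L ⊔ F ≤ H := sup_le hLH hFH
  have hn2 : H ≤ 𝓝(L ⊔ F) := by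
    rw [le_nz]
    intro g hg x hx
    have h1 : g * x * g⁻¹ = ⁅g, x⁆ * x := by rw [commutatorElement_def]; group
    rw [h1]
    refine mul_mem (Subgroup.mem_sup_right (hder ?_)) hx
    exact Subgroup.commutator_mem_commutator hg (hLFH hx)
  have h2 : piCoreOf π (L ⊔ F) = L := piCoreOf_eq_of_hall (hall_le_of_le hL le_sup_left hLFH) hn1
  rw [← h2]
  exact hn2.trans (nz_le_nz_piCoreOf _ _)

end
end CfsgLib.BGPi
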