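import Cfsg.Agent.EqBase
import Cfsg.Agent.LibBGRk2c
import Cfsg.Agent.LibPCyc

/-! Alperin's theorem on maximal normal elementary abelian subgroups (odd `p`), and B & G section 5. -/

open Subgroup
open scoped Pointwise commutatorElement IsMulCommutative

namespace CfsgLib.BGPi

open Cfsg

/-! ### a ring-theoretic lemma -/

section ring
variable {R : Type*} [Ring R] {T : R} {p : ℕ}

theorem stab_eq (hp : p.Prime) (h : (T + 1) ^ p = 1) :
    T ^ p + p * ∑ k ∈ Finset.Ioo 0 p, T ^ k * ((p.choose k / p : ℕ) : R) = 0 := by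
  have h1 := (Commute.one_right T).add_pow_prime_eq' hp
  rw [h, one_pow] at h1
  have h2 : ∑ k ∈ Finset.Ioo 0 p, T ^ k * 1 ^ (p - k) * ((p.choose k / p : ℕ) : R) =
      ∑ k ∈ Finset.Ioo 0 p, T ^ k * ((p.choose k / p : ℕ) : R) :=
    Finset.sum_congr rfl fun k _ => by rw [one_pow, mul_one]
  rw [h2] at h1
  have h3 : (1 : R) + (T ^ p + p * ∑ k ∈ Finset.Ioo 0 p, T ^ k * ((p.choose k / p : ℕ) : R)) =
      1 + 0 := by
    rw [add_zero]
    conv_rhs => rw [h1]
    abel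
  exact add_left_cancel h3

theorem stab_nil (hp : p.Prime) (h : (T + 1) ^ p = 1) {m : ℕ} (hm : (p : R) ^ m = 0) :
    T ^ (p * m) = 0 := by
  have h1 := stab_eq hp h
  have h2 : T ^ p = -(p * ∑ k ∈ Finset.Ioo 0 p, T ^ k * ((p.choose k / p : ℕ) : R)) :=
    eq_neg_of_add_eq_zero_left h1
  rw [pow_mul, h2, neg_pow, (Nat.cast_commute p _).mul_pow, hm, zero_mul, mul_zero]

theorem stab_down (hp : p.Prime) (h : (T + 1) ^ p = 1) {s : ℕ} (hs : T ^ s = 0) :
    ∀ d i : ℕ, 1 ≤ i → s ≤ p + i - 1 → s ≤ i + d → (p : R) * T ^ i = 0 := by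
  have h1 := stab_eq hp h
  have hp1 := hp.one_lt
  intro d
  induction d with
  | zero =>
    intro i _ _ h3
    rw [pow_eq_zero_of_le (by omega) hs, mul_zero]
  | succ d ih =>
    intro i hi h2 h3
    have h4 := congrArg (· * T ^ (i - 1)) h1
    simp only [add_mul, zero_mul, mul_assoc, Finset.sum_mul] at h4
    rw [← pow_add, pow_eq_zero_of_le (by omega) hs, zero_add, Finset.mul_sum,
      Finset.sum_eq_single_of_mem 1 (Finset.mem_Ioo.2 ⟨one_pos, hp1⟩)] at h4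
    · rw [Nat.choose_one_right, Nat.div_self hp.pos, Nat.cast_one, one_mul, pow_one, ← pow_succ',
        Nat.sub_add_cancel hi] at h4
      exact h4
    · intro k hk hk1
      have hk' := Finset.mem_Ioo.1 hk
      rw [(Nat.cast_commute _ (T ^ (i - 1))).eq, ← mul_assoc (T ^ k), ← pow_add, ← mul_assoc,
        ih (k + (i - 1)) (by omega) (by omega) (by omega), zero_mul]

theorem stab_main (hp : p.Prime) (hp2 : p ≠ 2) (h : (T + 1) ^ p = 1) {m : ℕ}
    (hm : (p : R) ^ m = 0) (hker : ∀ i : ℕ, (p : R) * T ^ i = 0 → T ^ (i + 1) = 0) :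
    (p : R) * T = 0 := by
  classical
  have hex : ∃ s, T ^ s = 0 := ⟨_, stab_nil hp h hm⟩
  have hs := Nat.find_spec hex
  have hmin := fun m (hm : m < Nat.find hex) => Nat.find_min hex hm
  set s := Nat.find hex with hsdef
  have hp3 : 3 ≤ p := by
    have := hp.two_le
    omega
  by_cases hsp : s ≤ p
  · have := stab_down hp h hs s 1 le_rfl (by omega) (by omega)
    rwa [pow_one] at this
  · exfalso
    have h1 := hker _ (stab_down hp h hs s (s - p + 1) (by omega) (by omega) (by omega))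
    exact hmin (s - p + 1 + 1) (by omega) h1

end ring

universe u
variable {G : Type u} [Group G]

/-- an element of order `p` (odd) acting on an abelian `p`-group `A` and centralizing `Ω₁(A)`
centralizes `A / Ω₁(A)` -/
theorem ab_stab [Finite G] {p : ℕ} (hp : p.Prime) (hp2 : p ≠ 2) {A : Subgroup G} (hA : IsPGroup p A)
    (hAc : IsMulCommutative A) {x : G} (hx : x ∈ 𝓝(A)) (hxp : x ^ p = 1)
    (hc : ∀ a ∈ A, a ^ p = 1 → x * a = a * x) {a : G} (ha : a ∈ A) :
    (x * a * x⁻¹ * a⁻¹) ^ p = 1 := by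
  haveI : Fact p.Prime := ⟨hp⟩
  haveI := hAc
  obtain ⟨T, h1, hcoe⟩ : ∃ T : AddMonoid.End (Additive A), (T + 1) ^ p = 1 ∧
      ∀ u : Additive A, (((T u).toMul : A) : G) = x * (u.toMul : G) * x⁻¹ * (u.toMul : G)⁻¹ := by
    have hK : zpowers x ≤ 𝓝(A) := by rwa [Subgroup.zpowers_le]
    obtain ⟨ρ, hρ⟩ : ∃ ρ : zpowers x →* AddMonoid.End (Additive A), ∀ k u,
        (((ρ k u).toMul : A) : G) = k * (u.toMul : G) * (k : G)⁻¹ := ⟨_, conjEnd_apply A (zpowers x) hK⟩
    refine ⟨ρ ⟨x, Subgroup.mem_zpowers x⟩ - 1, ?_, ?_⟩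
    · have : (⟨x, Subgroup.mem_zpowers x⟩ : zpowers x) ^ p = 1 := Subtype.ext hxp
      rw [sub_add_cancel, ← map_pow, this, map_one]
    · intro u
      have h2 : (ρ ⟨x, Subgroup.mem_zpowers x⟩ - 1) u = ρ ⟨x, Subgroup.mem_zpowers x⟩ u - u := rfl
      rw [h2, toMul_sub, div_eq_mul_inv, Subgroup.coe_mul, Subgroup.coe_inv, hρ]
  have hcast : ∀ (n : ℕ) (u : Additive A), ((n : AddMonoid.End (Additive A)) u).toMul = (u.toMul) ^ n := by
    intro n u
    rw [AddMonoid.End.natCast_apply, toMul_nsmul]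
  obtain ⟨m, hm⟩ := hA.exists_card_eq
  have hm' : (p : AddMonoid.End (Additive A)) ^ m = 0 := by
    rw [← Nat.cast_pow]
    ext u
    rw [hcast, ← hm]
    rw [pow_card_eq_one']
    rfl
  have hker : ∀ i : ℕ, (p : AddMonoid.End (Additive A)) * T ^ i = 0 → T ^ (i + 1) = 0 := by
    intro i hi
    ext u
    have h3 : (p : AddMonoid.End (Additive A)) ((T ^ i) u) = 0 := DFunLike.congr_fun hi u
    have h4 : (((T ^ i) u).toMul) ^ p = 1 := by
      rw [← hcast, h3]; rfl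
    have h5 : (T ^ (i + 1)) u = T ((T ^ i) u) := by rw [pow_succ']; rfl
    rw [h5, hcoe]
    have h6 := hc _ ((T ^ i) u).toMul.2 (congrArg Subtype.val h4)
    rw [h6]
    simp
  have h2 := stab_main hp hp2 h1 hm' hker
  have h3 : (p : AddMonoid.End (Additive A)) (T (Additive.ofMul ⟨a, ha⟩)) = 0 :=
    DFunLike.congr_fun h2 (Additive.ofMul ⟨a, ha⟩)
  have h4 : ((T (Additive.ofMul ⟨a, ha⟩)).toMul) ^ p = 1 := by
    rw [← hcast, h3]; rfl
  have h5 := congrArg (Subtype.val : A → G) h4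
  rw [Subgroup.coe_pow, hcoe] at h5
  exact h5


/-- `N` proper in a `p`-group is contained in a proper normal subgroup -/
theorem exists_normal_ge [Finite G] {U X : Subgroup G} (hU : Group.IsNilpotent U) (h : X < U) :
    ∃ M, X ≤ M ∧ M < U ∧ U ≤ 𝓝(M) := by
  obtain ⟨M, hM, hmax⟩ := (Set.toFinite {M : Subgroup G | X ≤ M ∧ M < U}).exists_maximal ⟨X, le_rfl, h⟩
  refine ⟨M, hM.1, hM.2, ?_⟩
  have h1 := nilpotent_nz_lt hU hM.2
  have h2 : U ⊓ 𝓝(M) = U := by
    by_contra hne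
    have := hmax ⟨hM.1.trans h1.le, lt_of_le_of_ne inf_le_left hne⟩ h1.le
    exact absurd (h1.trans_le this) (lt_irrefl _)
  exact inf_eq_left.1 h2

/-- Alperin: if `Z` is maximal among the normal elementary abelian subgroups of the `p`-group `P`,
`p` odd, then `Z` contains all elements of order `p` of `C_P(Z)`. -/
theorem alperin_max [Finite G] {p : ℕ} (hp : p.Prime) (hp2 : p ≠ 2) {P Z : Subgroup G}
    (hP : IsPGroup p P) (hZP : Z ≤ P) (hPZ : P ≤ 𝓝(Z)) (hZ : IsElementaryAbelian p Z)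
    (hmax : ∀ B ≤ P, P ≤ 𝓝(B) → IsElementaryAbelian p B → Z ≤ B → B = Z) {x : G} (hx : x ∈ P)
    (hxp : x ^ p = 1) (hxZ : x ∈ 𝓒(Z)) : x ∈ Z := by
  haveI : Fact p.Prime := ⟨hp⟩
  obtain ⟨A, hZA, hA⟩ := exists_scn hp hP hZP hPZ hZ.1
  have hAc := scn_comm hA
  obtain ⟨hAP, hPA, hCA⟩ := hA
  have hAp := hP.to_le hAP
  -- `Ω₁(A) = Z`
  have hΩ : ∀ a ∈ A, a ^ p = 1 → a ∈ Z := by
    obtain ⟨E, hZE, hEA, hEe, hEmax⟩ := exists_max_elab hZA hZ
    have hPE : P ≤ 𝓝(E) := hPA.trans (max_elab_nz hAc hEA hEe hEmax)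
    have hEZ : E = Z := hmax E (hEA.trans hAP) hPE hEe hZE
    intro a ha hap
    rw [← hEZ]
    exact mem_of_max_elab hEA hEe hEmax ha hap fun b hb => mem_cz.1 (comm_iff_le_cz.1 hAc ha) b (hEA hb)
  -- elements stabilizing the chain `A ≥ Z ≥ 1`
  let S : Subgroup G :=
    { carrier := {y | y ∈ P ∧ y ∈ 𝓒(Z) ∧ ∀ a ∈ A, y * a * y⁻¹ * a⁻¹ ∈ Z}
      one_mem' := ⟨one_mem _, one_mem _, fun a _ => by simp⟩
      mul_mem' := by
        rintro y w ⟨hy1, hy2, hy3⟩ ⟨hw1, hw2, hw3⟩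
        refine ⟨mul_mem hy1 hw1, mul_mem hy2 hw2, fun a ha => ?_⟩
        have e : y * w * a * (y * w)⁻¹ * a⁻¹ = (y * (w * a * w⁻¹ * a⁻¹) * y⁻¹) * (y * a * y⁻¹ * a⁻¹) := by
          group
        rw [e]
        exact mul_mem (le_nz.1 hPZ y hy1 _ (hw3 a ha)) (hy3 a ha)
      inv_mem' := by
        rintro y ⟨hy1, hy2, hy3⟩
        refine ⟨inv_mem hy1, inv_mem hy2, fun a ha => ?_⟩
        have e : y⁻¹ * a * y⁻¹⁻¹ * a⁻¹ = y⁻¹ * (y * a * y⁻¹ * a⁻¹)⁻¹ * y⁻¹⁻¹ := by group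
        rw [e]
        exact le_nz.1 hPZ y⁻¹ (inv_mem hy1) _ (inv_mem (hy3 a ha)) }
  have hSgen : ∀ y ∈ P, y ^ p = 1 → y ∈ 𝓒(Z) → y ∈ S := by
    intro y hy hyp hyZ
    refine ⟨hy, hyZ, fun a ha => ?_⟩
    refine hΩ _ (mul_mem (le_nz.1 hPA y hy a ha) (inv_mem ha)) ?_
    exact ab_stab hp hp2 hAp hAc (hPA hy) hyp
      (fun b hb hbp => (mem_cz.1 hyZ b (hΩ b hb hbp)).symm) ha
  have hSZ : S ≤ 𝓒(Z) := fun y hy => hy.2.1
  have hSP : S ≤ P := fun y hy => hy.1
  have hSA : ⁅S, A⁆ ≤ Z := by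
    rw [Subgroup.commutator_le]
    intro y hy a ha
    exact hy.2.2 a ha
  have hSS : ⁅S, S⁆ ≤ A := by
    have h1 : ⁅⁅S, A⁆, S⁆ = ⊥ := by
      rw [comm_eq_bot_iff]
      exact hSA.trans (le_cz_comm.1 hSZ)
    have h2 : ⁅⁅A, S⁆, S⁆ = ⊥ := by rwa [Subgroup.commutator_comm A S]
    have h3 : ⁅⁅S, S⁆, A⁆ = ⊥ := Subgroup.commutator_commutator_eq_bot_of_rotate h1 h2
    rw [comm_eq_bot_iff] at h3
    rw [← hCA]
    exact le_inf ((Subgroup.commutator_le_self S).trans hSP) h3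
  have hSp : IsPGroup p S := hP.to_le hSP
  -- products of elements of order `p`
  have key : ∀ n : ℕ, ∀ y ∈ S, ∀ w ∈ S, y ^ p = 1 → w ^ p = 1 →
      Nat.card ↥(Subgroup.closure {y, w}) = n → (y * w) ^ p = 1 := by
    intro n
    induction n using Nat.strong_induction_on with
    | _ n ih =>
    intro y hy w hw hyp hwp hn
    set U := Subgroup.closure {y, w} with hU
    have hyU : y ∈ U := Subgroup.subset_closure (by simp)
    have hwU : w ∈ U := Subgroup.subset_closure (by simp)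
    have hUS : U ≤ S := by
      rw [hU, Subgroup.closure_le]
      rintro z hz
      rcases hz with rfl | hz
      · exact hy
      · rw [Set.mem_singleton_iff.1 hz]; exact hw
    rcases eq_or_lt_of_le (show zpowers y ≤ U by rwa [Subgroup.zpowers_le]) with h | h
    · have hc : Commute y w := by
        rw [← h] at hwU
        obtain ⟨k, rfl⟩ := hwU
        exact (Commute.refl y).zpow_right k
      rw [hc.mul_pow, hyp, hwp, one_mul]
    · obtain ⟨M, hyM, hMU, hUM⟩ := exists_normal_ge (hSp.to_le hUS).isNilpotent h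
      rw [Subgroup.zpowers_le] at hyM
      have hmulM : ∀ u ∈ M, ∀ v ∈ M, u ^ p = 1 → v ^ p = 1 → (u * v) ^ p = 1 := by
        intro u hu v hv hup hvp
        have huS := hUS (hMU.le hu)
        have hvS := hUS (hMU.le hv)
        refine ih _ ?_ u huS v hvS hup hvp rfl
        rw [← hn]
        refine lt_of_le_of_lt (Nat.le_of_dvd (card_pos' M) (Subgroup.card_dvd_of_le ?_))
          (card_lt_of_lt hMU)
        rw [Subgroup.closure_le]
        rintro z hz
        rcases hz with rfl | hz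
        · exact hu
        · rw [Set.mem_singleton_iff.1 hz]; exact hv
      -- the commutator
      set z := w⁻¹ * y⁻¹ * w * y with hz
      have e : w * y = y * w * z := by rw [hz]; group
      have hz1 : w⁻¹ * y⁻¹ * w ∈ M := by
        have := le_nz.1 hUM w⁻¹ (inv_mem hwU) y⁻¹ (inv_mem hyM)
        rwa [inv_inv] at this
      have hz2 : (w⁻¹ * y⁻¹ * w) ^ p = 1 := by
        have h5 : w⁻¹ * y⁻¹ * w = w⁻¹ * y⁻¹ * w⁻¹⁻¹ := by rw [inv_inv]
        rw [h5, conj_pow, inv_pow, hyp]; group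
      have hzp : z ^ p = 1 := hmulM _ hz1 y hyM hz2 hyp
      have hzA : z ∈ A := by
        apply hSS
        have h5 : z = ⁅w⁻¹, y⁻¹⁆ := by rw [hz, commutatorElement_def, inv_inv, inv_inv]
        rw [h5]
        exact Subgroup.commutator_mem_commutator (inv_mem hw) (inv_mem hy)
      have hzZ := hΩ z hzA hzp
      have hzy : Commute z y := mem_cz.1 (hSZ hy) z hzZ
      have hzw : Commute z w := mem_cz.1 (hSZ hw) z hzZ
      rw [mul_pow_odd hp2 hp e hzy hzw hzp, hyp, hwp, one_mul]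
  -- `Ω₁(C_P(Z))` has exponent `p`
  let Y : Subgroup G :=
    { carrier := {y | y ∈ P ∧ y ∈ 𝓒(Z) ∧ y ^ p = 1}
      one_mem' := ⟨one_mem _, one_mem _, one_pow _⟩
      mul_mem' := by
        rintro y w ⟨hy1, hy2, hy3⟩ ⟨hw1, hw2, hw3⟩
        exact ⟨mul_mem hy1 hw1, mul_mem hy2 hw2,
          key _ y (hSgen y hy1 hy3 hy2) w (hSgen w hw1 hw3 hw2) hy3 hw3 rfl⟩
      inv_mem' := by
        rintro y ⟨hy1, hy2, hy3⟩
        exact ⟨inv_mem hy1, inv_mem hy2, by rw [inv_pow, hy3, inv_one]⟩ }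
  have hYP : Y ≤ P := fun y hy => hy.1
  have hPY : P ≤ 𝓝(Y) := by
    rw [le_nz]
    rintro g hg y ⟨hy1, hy2, hy3⟩
    refine ⟨mul_mem (mul_mem hg hy1) (inv_mem hg), ?_, by rw [conj_pow, hy3]; group⟩
    exact le_nz.1 (hPZ.trans (nz_le_nz_cz Z)) g hg y hy2
  have hZY : Z ≤ Y := fun z hz => ⟨hZP hz, comm_iff_le_cz.1 hZ.1 hz, hZ.2 z hz⟩
  have hYZ : Y = Z := by
    by_contra hne
    have hlt : Z < Y := lt_of_le_of_ne hZY fun h => hne h.symm
    obtain ⟨M, hZM, hMY, hPM, hMc⟩ := exists_normal_step hp hP hYP hPY hlt hPZ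
    have hZM' : Z < M := by
      refine lt_of_le_of_ne hZM ?_
      rintro rfl
      have h1 := card_pos' Z
      have h2 := hp.one_lt
      nlinarith
    obtain ⟨m, hm, hmZ⟩ := SetLike.exists_of_lt hZM'
    have hE : IsElementaryAbelian p (Z ⊔ zpowers m) :=
      elab_sup_zpowers hZ (hMY hm).2.2 (fun a ha => mem_cz.1 (hMY hm).2.1 a ha)
    have hEM : Z ⊔ zpowers m ≤ M := sup_le hZM (by rwa [Subgroup.zpowers_le])
    have hlt2 : Z < Z ⊔ zpowers m := by
      refine lt_of_le_of_ne le_sup_left fun h => hmZ ?_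
      rw [h]; exact Subgroup.mem_sup_right (Subgroup.mem_zpowers m)
    have h1 := pgroup_mul_card_le hp (hP.to_le (hEM.trans (hMY.trans hYP))) hlt2
    have h2 : Z ⊔ zpowers m = M := eq_of_card_le hEM (by rw [hMc]; exact h1)
    rw [h2] at hE
    exact hZM'.ne (hmax M (hMY.trans hYP) hPM hE hZM).symm
  rw [← hYZ]
  exact ⟨hx, hxZ, hxp⟩

/-- B & G, Lemma 5.1 (b) -/
theorem exists_scn3 [Finite G] {p : ℕ} (hp : p.Prime) (hp2 : p ≠ 2) {P E : Subgroup G}
    (hP : IsPGroup p P) (hr : ¬ PRankLE p 2 P) (hEP : E ≤ P) (hPE : P ≤ 𝓝(E))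
    (hE : IsElementaryAbelian p E) (hEc : Nat.card E = p ^ 2) :
    ∃ A, E ≤ A ∧ IsSCN P A ∧ ¬ PRankLE p 2 A := by
  haveI : Fact p.Prime := ⟨hp⟩
  -- a maximal normal elementary abelian subgroup above `E`
  obtain ⟨Z, hZ, hmax⟩ := (Set.toFinite {B : Subgroup G | E ≤ B ∧ B ≤ P ∧ P ≤ 𝓝(B) ∧
    IsElementaryAbelian p B}).exists_maximal ⟨E, le_rfl, hEP, hPE, hE⟩
  obtain ⟨hEZ, hZP, hPZ, hZe⟩ := hZ
  have hmax' : ∀ B ≤ P, P ≤ 𝓝(B) → IsElementaryAbelian p B → Z ≤ B → B = Z := fun B h1 h2 h3 h4 =>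
    le_antisymm (hmax ⟨hEZ.trans h4, h1, h2, h3⟩ h4) h4
  by_cases hc : E = Z
  · exfalso
    obtain ⟨D, hDP, hDe, hDc⟩ := (not_rank_iff hp).1 hr
    -- `|P : C_P(E)| ≤ p`
    have hcard : Nat.card P ≤ p * Nat.card ↥(P ⊓ 𝓒(E)) := by
      obtain ⟨z, hzE, hz1, hzP, hb⟩ := normal_p2 hp hP hEP hPE hEc
      have h1 : zpowers z < E := by
        refine lt_of_le_of_ne (by rwa [Subgroup.zpowers_le]) fun h => ?_
        have h2 : Nat.card (zpowers z) ≤ p := by
          rw [Nat.card_zpowers]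
          exact Nat.le_of_dvd hp.pos (orderOf_dvd_of_pow_eq_one (hE.2 z hzE))
        rw [h, hEc, pow_two] at h2
        have := hp.one_lt
        nlinarith
      obtain ⟨b, hbE, hbz⟩ := SetLike.exists_of_lt h1
      have h2 : zpowers z ⊔ zpowers b = E := by
        have hle : zpowers z ⊔ zpowers b ≤ E :=
          sup_le h1.le (by rwa [Subgroup.zpowers_le])
        have hlt : zpowers z < zpowers z ⊔ zpowers b := by
          refine lt_of_le_of_ne le_sup_left fun h => hbz ?_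
          rw [h]; exact Subgroup.mem_sup_right (Subgroup.mem_zpowers b)
        have h3 := pgroup_mul_card_le hp (hP.to_le (hle.trans hEP)) hlt
        have h4 : Nat.card (zpowers z) = p := by
          rw [Nat.card_zpowers]
          exact orderOf_eq_prime (hE.2 z hzE) hz1
        refine eq_of_card_le hle ?_
        rw [hEc, pow_two]
        rwa [h4] at h3
      have h3 : P ⊓ Subgroup.centralizer {b} ≤ P ⊓ 𝓒(E) := by
        refine le_inf inf_le_left ?_
        rintro g ⟨hg, hgb⟩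
        have h5 : E ≤ Subgroup.centralizer {g} := by
          rw [← h2]
          refine sup_le ?_ ?_
          · rw [Subgroup.zpowers_le, Subgroup.mem_centralizer_singleton_iff]
            exact (mem_cz.1 hzP g hg).symm
          · rw [Subgroup.zpowers_le, Subgroup.mem_centralizer_singleton_iff]
            exact (Subgroup.mem_centralizer_singleton_iff.1 hgb).symm
        rw [mem_cz]
        intro e he
        exact Subgroup.mem_centralizer_singleton_iff.1 (h5 he)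
      exact (hb b hbE).trans (Nat.mul_le_mul_left _
        (Nat.le_of_dvd (card_pos' _) (Subgroup.card_dvd_of_le h3)))
    have hDE : D ⊓ 𝓒(E) ≤ E := by
      rw [hc]
      rintro d ⟨hd, hdc⟩
      exact alperin_max hp hp2 hP hZP hPZ hZe hmax' (hDP hd) (hDe.2 d hd) hdc
    -- `|D ∩ C(E)| ≥ p ^ 2`
    have hDc2 : p ^ 2 ≤ Nat.card ↥(D ⊓ 𝓒(E)) := by
      have h1 := card_mul_relIndex (inf_le_left : D ⊓ 𝓒(E) ≤ D)
      rw [Subgroup.inf_relIndex_left] at h1
      have h2 : (𝓒(E)).relIndex D ≤ (𝓒(E)).relIndex P := by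
        apply Subgroup.relIndex_le_of_le_right hDP
        rw [Subgroup.relIndex]; exact Subgroup.index_ne_zero_of_finite
      have h3 := card_mul_relIndex (inf_le_left : P ⊓ 𝓒(E) ≤ P)
      rw [Subgroup.inf_relIndex_left] at h3
      have h4 : (𝓒(E)).relIndex P ≤ p := by
        rw [← h3, mul_comm] at hcard
        exact Nat.le_of_mul_le_mul_right hcard (card_pos' _)
      have h5 : p ^ 3 ≤ Nat.card ↥(D ⊓ 𝓒(E)) * p := by
        rw [← hDc, ← h1]
        exact Nat.mul_le_mul_left _ (h2.trans h4)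
      rw [pow_succ] at h5
      exact Nat.le_of_mul_le_mul_right h5 hp.pos
    have h1 : D ⊓ 𝓒(E) = E := eq_of_card_le hDE (by rw [hEc]; exact hDc2)
    have h2 : E ≤ D := by rw [← h1]; exact inf_le_left
    have h3 : D ≤ 𝓒(E) := (comm_iff_le_cz.1 hDe.1).trans (cz_anti h2)
    rw [inf_eq_left.2 h3] at h1
    rw [h1, hEc] at hDc
    have h4 : p ^ 2 < p ^ (2 + 1) := Nat.pow_lt_pow_right hp.one_lt (by norm_num)
    omega
  · obtain ⟨A, hZA, hA⟩ := exists_scn hp hP hZP hPZ hZe.1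
    refine ⟨A, hEZ.trans hZA, hA, fun h => ?_⟩
    have h1 := rank_iff.1 h Z hZA hZe
    have h2 := pgroup_mul_card_le hp (hP.to_le hZP) (lt_of_le_of_ne hEZ hc)
    rw [hEc] at h2
    have h3 : p ^ 2 < p * p ^ 2 := by
      have := hp.one_lt
      have h4 : 0 < p ^ 2 := pow_pos hp.pos 2
      nlinarith
    omega

theorem not_cyclic_of_rank [Finite G] {p k : ℕ} (hp : p.Prime) (hk : 1 ≤ k) {P : Subgroup G}
    (h : ¬ PRankLE p k P) : ¬ IsCyclic P := by
  intro hc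
  obtain ⟨B, hBP, hB, hBc⟩ := (not_rank_iff hp).1 h
  obtain ⟨m, rfl⟩ : ∃ m, k = m + 1 := ⟨k - 1, by omega⟩
  apply not_cyclic_of_elab hp hB hBc
  haveI := hc
  exact isCyclic_of_injective (Subgroup.inclusion hBP) (Subgroup.inclusion_injective hBP)

/-- a noncyclic `p`-group (`p` odd) has a normal elementary abelian subgroup of order `p ^ 2` -/
theorem exists_normal_p2 [Finite G] {p : ℕ} (hp : p.Prime) (hp2 : p ≠ 2) {P : Subgroup G}
    (hP : IsPGroup p P) (hnc : ¬ IsCyclic P) :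
    ∃ E ≤ P, P ≤ 𝓝(E) ∧ IsElementaryAbelian p E ∧ Nat.card E = p ^ 2 := by
  obtain ⟨A, hAn, hAc, hAe, hcard⟩ := CfsgLib.PCyc.exists_normal_elem hp hp2 hP hnc
  refine ⟨A.map P.subtype, Subgroup.map_subtype_le _, map_subtype_nz A, ⟨comm_map hAc _, ?_⟩, ?_⟩
  · rintro _ ⟨a, ha, rfl⟩
    rw [← map_pow, hAe a ha, map_one]
  · rw [card_map_subtype, hcard]

theorem exists_scn3' [Finite G] {p : ℕ} (hp : p.Prime) (hp2 : p ≠ 2) {P : Subgroup G}
    (hP : IsPGroup p P) (hr : ¬ PRankLE p 2 P) : ∃ A, IsSCN P A ∧ ¬ PRankLE p 2 A := by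
  obtain ⟨E, hEP, hPE, hE, hEc⟩ := exists_normal_p2 hp hp2 hP (not_cyclic_of_rank hp (by norm_num) hr)
  obtain ⟨A, -, h2, h3⟩ := exists_scn3 hp hp2 hP hr hEP hPE hE hEc
  exact ⟨A, h2, h3⟩

end CfsgLib.BGPi

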