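import Cfsg.Agent.EqBase
import Cfsg.Agent.LibBGAlp

/-! narrow `p`-groups, `p` odd (B & G section 5). -/

open Subgroup
open scoped Pointwise commutatorElement

namespace CfsgLib.BGPi

open Cfsg

universe u
variable {R : Type u} [Group R] [Finite R]

/-- `Ω₁(Z(R))` -/
def omZ (p : ℕ) (R : Type*) [Group R] : Subgroup R where
  carrier := {x | x ∈ Subgroup.center R ∧ x ^ p = 1}
  one_mem' := ⟨one_mem _, one_pow _⟩
  mul_mem' := fun {a b} ha hb => ⟨mul_mem ha.1 hb.1, by
    have h : Commute a b := (Subgroup.mem_center_iff.1 ha.1 b).symm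
    rw [h.mul_pow, ha.2, hb.2, one_mul]⟩
  inv_mem' := fun ha => ⟨inv_mem ha.1, by rw [inv_pow, ha.2, inv_one]⟩

omit [Finite R] in
theorem mem_omZ {p : ℕ} {x : R} : x ∈ omZ p R ↔ x ∈ Subgroup.center R ∧ x ^ p = 1 := Iff.rfl

omit [Finite R] in
theorem omZ_elab {p : ℕ} : IsElementaryAbelian p (omZ p R) :=
  ⟨comm_iff_le_cz.2 fun x hx => mem_cz.2 fun y _ => Subgroup.mem_center_iff.1 hx.1 y, fun _ hx => hx.2⟩

omit [Finite R] in
theorem ucs2_iff {x : R} : x ∈ Subgroup.upperCentralSeries R 2 ↔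
    ∀ y, x * y * x⁻¹ * y⁻¹ ∈ Subgroup.center R := by
  rw [show (2 : ℕ) = 1 + 1 from rfl, Subgroup.mem_upperCentralSeries_succ_iff]
  simp only [Subgroup.upperCentralSeries_one, commutatorElement_def]

omit [Finite R] in
theorem ucs2_comm : ⁅Subgroup.upperCentralSeries R 2, Subgroup.upperCentralSeries R 2⁆ ≤
    𝓒(Subgroup.upperCentralSeries R 2) := by
  rw [Subgroup.commutator_le]
  intro x hx y _
  rw [mem_cz]
  intro z _
  exact Subgroup.mem_center_iff.1 (ucs2_iff.1 hx y) z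

/-- `Ω₁(Z₂(R))` -/
def omZ2 {p : ℕ} (hp : p.Prime) (hp2 : p ≠ 2) (R : Type*) [Group R] : Subgroup R :=
  om2 hp hp2 (Subgroup.upperCentralSeries R 2) ucs2_comm

omit [Finite R] in
theorem mem_omZ2 {p : ℕ} {hp : p.Prime} {hp2 : p ≠ 2} {x : R} :
    x ∈ omZ2 hp hp2 R ↔ x ∈ Subgroup.upperCentralSeries R 2 ∧ x ^ p = 1 := Iff.rfl

omit [Finite R] in
/-- `[Ω₁(Z₂(R)), R] ≤ Ω₁(Z(R))` -/
theorem omZ2_comm {p : ℕ} {hp : p.Prime} {hp2 : p ≠ 2} {x : R} (hx : x ∈ omZ2 hp hp2 R) (y : R) :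
    x * y * x⁻¹ * y⁻¹ ∈ omZ p R := by
  have h1 := ucs2_iff.1 hx.1 y
  refine ⟨h1, ?_⟩
  set z := x * y * x⁻¹ * y⁻¹ with hz
  -- `x ^ p = 1` and `z` is central
  have hzx : Commute z x := (Subgroup.mem_center_iff.1 h1 x).symm
  have h2 : x * y = y * x * z := by
    rw [Subgroup.mem_center_iff.1 h1 (y * x), hz]; group
  have h4 := pow_mul_class2 h2 hzx p
  rw [hx.2, one_mul, mul_one] at h4
  exact (mul_eq_left.1 h4.symm)

omit [Finite R] in
theorem omZ2_closure {p : ℕ} {hp : p.Prime} {hp2 : p ≠ 2} :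
    Subgroup.closure {x : R | x ∈ Subgroup.upperCentralSeries R 2 ∧ x ^ p = 1} = omZ2 hp hp2 R := by
  apply le_antisymm
  · rw [Subgroup.closure_le]
    intro x hx
    exact hx
  · intro x hx
    exact Subgroup.subset_closure hx

omit [Finite R] in
theorem omZ_closure {p : ℕ} :
    Subgroup.closure {x : R | x ∈ Subgroup.center R ∧ x ^ p = 1} = omZ p R := by
  apply le_antisymm
  · rw [Subgroup.closure_le]
    intro x hx
    exact hx
  · intro x hx
    exact Subgroup.subset_closure hx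

omit [Finite R] in
instance omZ2_char {p : ℕ} {hp : p.Prime} {hp2 : p ≠ 2} : (omZ2 hp hp2 R).Characteristic := by
  rw [Subgroup.characteristic_iff_le_comap]
  rintro φ x ⟨hx, hxp⟩
  exact ⟨Subgroup.characteristic_iff_le_comap.1 inferInstance φ hx, by
    show (φ x) ^ p = 1
    rw [← map_pow, hxp, map_one]⟩

omit [Finite R] in
instance omZ_char {p : ℕ} : (omZ p R).Characteristic := by
  rw [Subgroup.characteristic_iff_le_comap]
  rintro φ x ⟨hx, hxp⟩
  exact ⟨Subgroup.characteristic_iff_le_comap.1 inferInstance φ hx, by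
    show (φ x) ^ p = 1
    rw [← map_pow, hxp, map_one]⟩

omit [Finite R] in
theorem omZ_le_omZ2 {p : ℕ} {hp : p.Prime} {hp2 : p ≠ 2} : omZ p R ≤ omZ2 hp hp2 R := by
  rintro x ⟨hx, hxp⟩
  refine ⟨?_, hxp⟩
  rw [ucs2_iff]
  intro y
  rw [← Subgroup.mem_center_iff.1 hx y]
  simp

theorem omZ_ne_bot {p : ℕ} (hp : p.Prime) (hR : IsPGroup p R) [Nontrivial R] : omZ p R ≠ ⊥ := by
  haveI : Fact p.Prime := ⟨hp⟩
  haveI := hR.center_nontrivial
  have h1 : p ∣ Nat.card (Subgroup.center R) :=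
    pgroup_dvd_card hp (hR.to_subgroup _) ((Subgroup.nontrivial_iff_ne_bot _).1 inferInstance)
  obtain ⟨x, hx⟩ := exists_prime_orderOf_dvd_card' p h1
  intro h
  have h2 : (x : R) ∈ omZ p R := ⟨x.2, by
    rw [← Subgroup.orderOf_coe] at hx
    rw [← hx]; exact pow_orderOf_eq_one _⟩
  rw [h, Subgroup.mem_bot] at h2
  rw [← Subgroup.orderOf_coe, h2, orderOf_one] at hx
  exact hp.ne_one hx.symm

/-- a normal subgroup of order `p ^ 2` lies in `Z₂` -/
theorem normal_p2_le {p : ℕ} (hp : p.Prime) (hR : IsPGroup p R) {N : Subgroup R} (hN : N.Normal)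
    (hc : Nat.card N = p ^ 2) : N ≤ Subgroup.upperCentralSeries R 2 := by
  haveI : Fact p.Prime := ⟨hp⟩
  have htop : IsPGroup p (⊤ : Subgroup R) := hR.to_subgroup ⊤
  have hNn : (⊤ : Subgroup R) ≤ 𝓝(N) := by rw [Subgroup.normalizer_eq_top]
  by_cases hle : N ≤ Subgroup.center R
  · intro x hx
    rw [ucs2_iff]
    intro y
    rw [← Subgroup.mem_center_iff.1 (hle hx) y]
    simp
  set C := N ⊓ Subgroup.center R with hC
  have hN1 : N ≠ ⊥ := by
    rintro rfl
    exact hle bot_le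
  have hC1 : C ≠ ⊥ := by
    have := nilpotent_inf_center htop.isNilpotent (le_top : N ≤ ⊤) hNn hN1
    rw [Subgroup.coe_top, Subgroup.centralizer_univ] at this
    exact this
  have hClt : C < N := lt_of_le_of_ne inf_le_left fun h => hle (by rw [← h]; exact inf_le_right)
  have hCp : Nat.card C = p := by
    have h1 := pgroup_mul_card_le hp (hR.to_subgroup N) hClt
    have h2 := Nat.le_of_dvd (card_pos' _) (pgroup_dvd_card hp (hR.to_subgroup C) hC1)
    rw [hc, pow_two] at h1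
    exact le_antisymm (Nat.le_of_mul_le_mul_left h1 hp.pos) h2
  obtain ⟨D, hDN, hnD, hDC, hDR⟩ := exists_central_section hp htop le_top hNn (A := C)
    (not_le_of_gt hClt)
  have hDn : D ≤ 𝓝(C) := by
    rw [le_nz]
    rintro g hg x hx
    rw [hC] at hx
    have := Subgroup.mem_center_iff.1 hx.2 g
    rw [this, mul_inv_cancel_right]
    exact hx
  have hsup : C ⊔ D = N := by
    refine eq_of_card_le (sup_le inf_le_left hDN) ?_
    have h1 : C < C ⊔ D := lt_of_le_of_ne le_sup_left fun h => hDC (by rw [h]; exact le_sup_right)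
    have h2 := pgroup_mul_card_le hp (hR.to_subgroup (C ⊔ D)) h1
    rw [hCp, ← pow_two] at h2
    rw [hc]; exact h2
  intro x hx
  rw [← hsup] at hx
  obtain ⟨c, hc', d, hd, rfl⟩ := (mem_sup_of_nz' hDn).1 hx
  rw [ucs2_iff]
  intro y
  have hcc : ∀ z, z * c = c * z := fun z => Subgroup.mem_center_iff.1 hc'.2 z
  have e1 : c * d * y * (c * d)⁻¹ * y⁻¹ = (c * (d * y * d⁻¹)) * c⁻¹ * y⁻¹ := by group
  rw [e1, ← hcc, mul_inv_cancel_right]
  exact (hDR (Subgroup.commutator_mem_commutator hd (Subgroup.mem_top y))).2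

/-- B & G, Theorem 5.3? : the structure of narrow groups -/
theorem narrow_struct {p : ℕ} (hp : p.Prime) (hp2 : p ≠ 2) (hR : IsPGroup p R)
    (hr : ¬ PRankLE p 2 R) {E : Subgroup R} (hE : IsElementaryAbelian p E) (hE2 : Nat.card E = p ^ 2)
    (hEmax : ∀ B : Subgroup R, IsElementaryAbelian p B → E ≤ B → B = E) :
    ¬ E ≤ 𝓒(omZ2 hp hp2 R) ∧ Nat.card (omZ p R) = p ∧
    (IsElementaryAbelian p (omZ2 hp hp2 R) ∧ Nat.card (omZ2 hp hp2 R) = p ^ 2) ∧
    (𝓒(omZ2 hp hp2 R)).index = p ∧ omZ p R < E ∧ ¬ E ≤ omZ2 hp hp2 R := by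
  haveI : Fact p.Prime := ⟨hp⟩
  have htop : IsPGroup p (⊤ : Subgroup R) := hR.to_subgroup ⊤
  set Z := omZ p R with hZ
  set W := omZ2 hp hp2 R with hW
  have hmem : ∀ x : R, x ^ p = 1 → (∀ a ∈ E, a * x = x * a) → x ∈ E := fun x hx hc =>
    mem_of_max_elab (M := ⊤) le_top hE (fun C _ hC hEC => hEmax C hC hEC) (Subgroup.mem_top x) hx hc
  obtain ⟨D, hDe, hDc⟩ : ∃ D : Subgroup R, IsElementaryAbelian p D ∧ Nat.card D = p ^ 3 := by
    have hr' : ¬ PRankLE p 2 (⊤ : Subgroup R) := by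
      intro h
      apply hr
      rw [rank_top_iff]
      rw [rank_iff] at h
      exact fun A hA => h A le_top hA
    obtain ⟨D, -, h2, h3⟩ := (not_rank_iff hp).1 hr'
    exact ⟨D, h2, h3⟩
  have hp1 := hp.one_lt
  have hp23 : p ^ 2 < p ^ 3 := Nat.pow_lt_pow_right hp1 (by norm_num)
  have hnocont : ∀ B : Subgroup R, IsElementaryAbelian p B → E ≤ B → Nat.card B ≤ p ^ 2 := by
    intro B hB hEB
    rw [hEmax B hB hEB, hE2]
  have hZE : Z ≤ E := fun x hx => hmem x hx.2 fun a _ => Subgroup.mem_center_iff.1 hx.1 a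
  have hZne : Z ≠ E := by
    intro h
    have h1 : IsElementaryAbelian p (E ⊔ D) := by
      refine elab_sup hE hDe ?_
      intro x hx
      rw [← h] at hx
      rw [mem_cz]
      intro y _
      exact Subgroup.mem_center_iff.1 hx.1 y
    have h2 := hnocont _ h1 le_sup_left
    have h3 := Nat.le_of_dvd (card_pos' _) (Subgroup.card_dvd_of_le (le_sup_right : D ≤ E ⊔ D))
    omega
  have hZlt : Z < E := lt_of_le_of_ne hZE hZne
  haveI : Nontrivial R := by
    by_contra hn
    rw [not_nontrivial_iff_subsingleton] at hn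
    have : Nat.card D = 1 := Nat.card_of_subsingleton (1 : D)
    rw [this] at hDc
    have := Nat.one_lt_pow (n := 3) (by norm_num) hp1
    omega
  have hZ1 : Z ≠ ⊥ := omZ_ne_bot hp hR
  have hZc : Nat.card Z = p := by
    have h1 := pgroup_mul_card_le hp (hR.to_subgroup E) hZlt
    have h2 := Nat.le_of_dvd (card_pos' _) (pgroup_dvd_card hp (hR.to_subgroup Z) hZ1)
    rw [hE2, pow_two] at h1
    exact le_antisymm (Nat.le_of_mul_le_mul_left h1 hp.pos) h2
  -- `R` has a normal subgroup of order `p ^ 2`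
  obtain ⟨N, -, hnN, hNe, hNc⟩ := exists_normal_p2 hp hp2 htop
    (not_cyclic_of_rank hp (k := 2) (by norm_num) (by
      intro h
      apply hr
      rw [rank_top_iff]
      rw [rank_iff] at h
      exact fun A hA => h A le_top hA))
  have hNn : N.Normal := Subgroup.normalizer_eq_top_iff.1 (top_le_iff.1 hnN)
  have hNW : N ≤ W := fun x hx => ⟨normal_p2_le hp hR hNn hNc hx, hNe.2 x hx⟩
  -- `E ≰ W`
  have hEW : ¬ E ≤ W := by
    intro h
    have hEn : (⊤ : Subgroup R) ≤ 𝓝(E) := by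
      rw [le_nz]
      intro g _ e he
      have h1 := omZ2_comm (h he) g
      have h2 : g * e * g⁻¹ = (e * g * e⁻¹ * g⁻¹)⁻¹ * e := by group
      rw [h2]
      exact mul_mem (inv_mem (hZE h1)) he
    obtain ⟨A, hEA, hA, hA3⟩ := exists_scn3 hp hp2 htop (by
      intro h
      apply hr
      rw [rank_top_iff]
      rw [rank_iff] at h
      exact fun A hA => h A le_top hA) le_top hEn hE hE2
    have hAc := scn_comm hA
    obtain ⟨B, hBA, hBe, hBc⟩ := (not_rank_iff hp).1 hA3
    have h1 : IsElementaryAbelian p (E ⊔ B) := by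
      refine elab_sup hE hBe ?_
      exact hEA.trans ((comm_iff_le_cz.1 hAc).trans (cz_anti hBA))
    have h2 := hnocont _ h1 le_sup_left
    have h3 := Nat.le_of_dvd (card_pos' _) (Subgroup.card_dvd_of_le (le_sup_right : B ≤ E ⊔ B))
    rw [hBc] at h3
    have : p ^ (2 + 1) = p ^ 3 := rfl
    omega
  -- choose `e ∈ E \ Z`
  obtain ⟨e, heE, heZ⟩ := SetLike.exists_of_lt hZlt
  have hEgen : E = Z ⊔ zpowers e := by
    symm
    have hlt : Z < Z ⊔ zpowers e := lt_of_le_of_ne le_sup_left fun h => heZ (by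
      rw [h]; exact Subgroup.mem_sup_right (Subgroup.mem_zpowers e))
    have h1 := pgroup_mul_card_le hp (hR.to_subgroup _) hlt
    refine eq_of_card_le (sup_le hZE (by rwa [Subgroup.zpowers_le])) ?_
    rw [hE2, pow_two]
    rwa [hZc] at h1
  have hcE : ∀ x : R, x * e = e * x → x ∈ 𝓒(E) := by
    intro x hx
    have h1 : E ≤ Subgroup.centralizer {x} := by
      rw [hEgen]
      refine sup_le ?_ ?_
      · intro z hz
        rw [Subgroup.mem_centralizer_singleton_iff]
        exact (Subgroup.mem_center_iff.1 hz.1 x).symm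
      · rw [Subgroup.zpowers_le, Subgroup.mem_centralizer_singleton_iff]
        exact hx.symm
    rw [mem_cz]
    intro y hy
    exact Subgroup.mem_centralizer_singleton_iff.1 (h1 hy)
  have hWE : W ⊓ 𝓒(E) ≤ W ⊓ E := by
    rintro w ⟨hw, hwE⟩
    exact ⟨hw, hmem w hw.2 fun a ha => mem_cz.1 hwE a ha⟩
  have hZWE : Z ≤ W ⊓ E := le_inf omZ_le_omZ2 hZE
  have hWElt : W ⊓ E < E := lt_of_le_of_ne inf_le_right fun h => hEW (by rw [← h]; exact inf_le_left)
  have hWEc : Nat.card ↥(W ⊓ E) = p := by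
    have h1 := pgroup_mul_card_le hp (hR.to_subgroup E) hWElt
    have h2 := Nat.le_of_dvd (card_pos' _) (Subgroup.card_dvd_of_le hZWE)
    rw [hZc] at h2
    rw [hE2, pow_two] at h1
    exact le_antisymm (Nat.le_of_mul_le_mul_left h1 hp.pos) h2
  have hWle : Nat.card W ≤ p ^ 2 := by
    have h1 := card_mul_relIndex (inf_le_left : W ⊓ Subgroup.centralizer {e} ≤ W)
    rw [Subgroup.inf_relIndex_left] at h1
    have h2 : (Subgroup.centralizer {e}).relIndex W ≤ Nat.card Z := by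
      apply relIndex_cz_le
      intro g hg
      exact omZ2_comm hg e
    rw [← h1, pow_two]
    refine Nat.mul_le_mul ?_ (h2.trans hZc.le)
    rw [← hWEc]
    refine Nat.le_of_dvd (card_pos' _) (Subgroup.card_dvd_of_le (le_trans ?_ hWE))
    refine le_inf inf_le_left ?_
    rintro w ⟨-, hw⟩
    exact hcE w (Subgroup.mem_centralizer_singleton_iff.1 hw)
  have hWN : N = W := eq_of_card_le hNW (by rw [hNc]; exact hWle)
  have hWe : IsElementaryAbelian p W := by rw [← hWN]; exact hNe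
  have hWc : Nat.card W = p ^ 2 := by rw [← hWN]; exact hNc
  have hEcz : ¬ E ≤ 𝓒(W) := by
    intro h
    have h1 : W ≤ W ⊓ E := (le_inf le_rfl (le_cz_comm.1 h)).trans hWE
    have h2 := Nat.le_of_dvd (card_pos' _) (Subgroup.card_dvd_of_le h1)
    rw [hWEc, hWc, pow_two] at h2
    nlinarith
  refine ⟨hEcz, hZc, ⟨hWe, hWc⟩, ?_, hZlt, hEW⟩
  -- the index
  have hZW : Z < W := by
    refine lt_of_le_of_ne omZ_le_omZ2 fun h => ?_
    rw [← h, hZc, pow_two] at hWc
    nlinarith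
  obtain ⟨w, hwW, hwZ⟩ := SetLike.exists_of_lt hZW
  have hWgen : W = Z ⊔ zpowers w := by
    symm
    have hlt : Z < Z ⊔ zpowers w := lt_of_le_of_ne le_sup_left fun h => hwZ (by
      rw [h]; exact Subgroup.mem_sup_right (Subgroup.mem_zpowers w))
    have h1 := pgroup_mul_card_le hp (hR.to_subgroup _) hlt
    refine eq_of_card_le (sup_le hZW.le (by rwa [Subgroup.zpowers_le])) ?_
    rw [hWc, pow_two]
    rwa [hZc] at h1
  have hcW : 𝓒(W) = Subgroup.centralizer {w} := by
    apply le_antisymm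
    · apply Subgroup.centralizer_le
      rw [Set.singleton_subset_iff]; exact hwW
    · intro x hx
      have h1 : W ≤ Subgroup.centralizer {x} := by
        rw [hWgen]
        refine sup_le ?_ ?_
        · intro z hz
          rw [Subgroup.mem_centralizer_singleton_iff]
          exact (Subgroup.mem_center_iff.1 hz.1 x).symm
        · rw [Subgroup.zpowers_le, Subgroup.mem_centralizer_singleton_iff]
          exact (Subgroup.mem_centralizer_singleton_iff.1 hx).symm
      rw [mem_cz]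
      intro y hy
      exact Subgroup.mem_centralizer_singleton_iff.1 (h1 hy)
  have hidx : (𝓒(W)).index ≤ p := by
    rw [hcW, ← Subgroup.relIndex_top_right]
    refine (relIndex_cz_le (N := Z) fun g _ => ?_).trans hZc.le
    have h1 := omZ2_comm hwW g
    have h2 : g * w * g⁻¹ * w⁻¹ = (w * g * w⁻¹ * g⁻¹)⁻¹ := by group
    rw [h2]; exact inv_mem h1
  have hne1 : (𝓒(W)).index ≠ 1 := by
    rw [Ne, Subgroup.index_eq_one]
    intro h
    apply hEcz
    rw [h]; exact le_top
  obtain ⟨n, hn⟩ := IsPGroup.iff_card.1 hR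
  have hd : (𝓒(W)).index ∣ p ^ n := by rw [← hn]; exact Subgroup.index_dvd_card _
  obtain ⟨m, -, hm⟩ := (Nat.dvd_prime_pow hp).1 hd
  rw [hm] at hidx hne1 ⊢
  have h1 : m ≠ 0 := by rintro rfl; exact hne1 (pow_zero p)
  have h2 : m ≤ 1 := by
    have : p ^ m ≤ p ^ 1 := by rwa [pow_one]
    exact (Nat.pow_le_pow_iff_right hp1).1 this
  have h3 : m = 1 := by omega
  rw [h3, pow_one]

end CfsgLib.BGPi
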