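import Cfsg.Agent.EqBase
import Cfsg.Agent.LibBGNar

/-! B & G section 9: the uniqueness theorem, first part. -/

open Subgroup
open scoped Pointwise commutatorElement

namespace CfsgLib.BGPi

open Cfsg

universe u
variable {G : Type u} [Group G] [Finite G]

theorem exists_elab2 {p : ℕ} (hp : p.Prime) (hp2 : p ≠ 2) {P : Subgroup G}
    (hP : IsPGroup p P) (hnc : ¬ IsCyclic P) :
    ∃ E ≤ P, IsElementaryAbelian p E ∧ Nat.card E = p ^ 2 := by
  obtain ⟨E, h1, -, h2, h3⟩ := exists_normal_p2 hp hp2 hP hnc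
  exact ⟨E, h1, h2, h3⟩

omit [Finite G] in
theorem not_cyclic_mono {P Q : Subgroup G} (h : P ≤ Q) (hnc : ¬ IsCyclic P) : ¬ IsCyclic Q := by
  intro hc
  apply hnc
  haveI := hc
  exact isCyclic_of_injective (Subgroup.inclusion h) (Subgroup.inclusion_injective h)

/-- `P`-invariant `p'`-subgroups, `P` Sylow -/
theorem rel_syl_inv_le {p : ℕ} (hp : p.Prime) {X S Y : Subgroup G}
    (hXs : Group.IsSolvable X) (hodd : Odd (Nat.card X)) (hS : IsPiHallOf {p} S X)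
    (hYX : Y ≤ X) (hY : (Nat.card Y).Coprime p) (hSY : S ≤ 𝓝(Y)) : Y ≤ piCoreOf {p}ᶜ X := by
  have hSp : IsPGroup p S := (hall_isPi hS).isPGroup hp
  obtain ⟨A, -, hA⟩ := exists_scn hp hSp (bot_le : (⊥ : Subgroup G) ≤ S)
    (by rw [Subgroup.normalizer_eq_top]; exact le_top) inferInstance
  exact rel_scn_inv_le hp hXs hodd hS hA hYX hY (hA.1.trans hSY)

/-- if `H' ≤ F(H)`, `F(H) ≤ M`, `N_H(R) ≤ M` and `R ≤ M` with `R` Sylow in `H` then `H ≤ M` -/
theorem le_of_der_fitting {p : ℕ} (hp : p.Prime) {H M R : Subgroup G}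
    (hder : ⁅H, H⁆ ≤ fittingOf H) (hFM : fittingOf H ≤ M) (hR : IsPiHallOf {p} R H)
    (hRM : R ≤ M) (hn : H ⊓ 𝓝(R) ≤ M) : H ≤ M := by
  set F := fittingOf H with hF
  have hFH : F ≤ H := fittingOf_le H
  have hNH : R ⊔ F ≤ H := sup_le hR.1 hFH
  have hHN : H ≤ 𝓝(R ⊔ F) := by
    rw [le_nz]
    intro g hg x hx
    have h1 : g * x * g⁻¹ = ⁅g, x⁆ * x := by rw [commutatorElement_def]; group
    rw [h1]
    refine mul_mem (Subgroup.mem_sup_right (hder ?_)) hx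
    exact Subgroup.commutator_mem_commutator hg (hNH hx)
  rw [← frattini_syl hp hNH hHN (hall_le_of_le hR le_sup_left hNH)]
  exact sup_le (sup_le hRM hFM) hn

section
variable (hG : IsMinSimpleOddOrder G)
include hG

theorem ms_p2' {p : ℕ} (hp : p.Prime) {X : Subgroup G} (h : p ∣ Nat.card X) : p ≠ 2 :=
  ms_p_ne_two hG hp (h.trans (Subgroup.card_subgroup_dvd_card X))

omit [Finite G] in
theorem max_ne_top {M : Subgroup G} (hM : IsCoatom M) : M ≠ ⊤ := hM.1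

/-- for `H ∈ ℳ` with `F(H)` contained in another maximal subgroup, all ranks of `F(H)` are ≤ 2 -/
theorem fitting_rank_le {M H : Subgroup G} (hM : IsCoatom M) (hH : IsCoatom H) (hne : H ≠ M)
    (hFM : fittingOf H ≤ M) {q : ℕ} (hq : q.Prime) : PRankLE q 2 ↥(fittingOf H) := by
  by_contra hr
  have hFH := fittingOf_le H
  obtain ⟨A₁, hA₁, hA₁e, hA₁c⟩ := (not_rank_iff hq).1 hr
  have hqF : q ∣ Nat.card (fittingOf H) := by
    refine Dvd.dvd.trans ?_ (Subgroup.card_dvd_of_le hA₁)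
    rw [hA₁c]; exact dvd_pow_self q (by norm_num)
  have hq2 := ms_p2' hG hq hqF
  by_cases hF : IsPGroup q ↥(fittingOf H)
  · obtain ⟨Q, hQ⟩ := exists_syl hq H
    have hFQ : fittingOf H ≤ Q := by
      refine le_trans ?_ (piCoreOf_le_hall hQ)
      rw [← piCoreOf_fittingOf hq, piCoreOf_self (isPi_of_isPGroup hq hF)]
    obtain ⟨A, hA, hA3⟩ := exists_scn3' hq hq2 ((hall_isPi hQ).isPGroup hq)
      (fun h => hr (rank_mono hFQ h))
    obtain ⟨h1, h2⟩ := (bg8_b hG hH hq hF hQ).2 A hA hA3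
    exact hne (uniq_eq h2 hM (h1.trans hFM) hH (h1.trans hFH))
  · obtain ⟨A₀, hA₁A₀, hA₀F, hA₀e, hA₀max⟩ := exists_max_elab hA₁ hA₁e
    have h3 : q ^ 3 ≤ Nat.card A₀ := by
      rw [← hA₁c]
      exact Nat.le_of_dvd (card_pos' _) (Subgroup.card_dvd_of_le hA₁A₀)
    have h2 := bg8_a hG hH hq hA₀F hA₀e h3 hA₀max hF
    exact hne (uniq_eq h2 hM (inf_le_left.trans hFM) hH (inf_le_left.trans hFH))

/-- B & G, Lemma 9.1 (b), for arbitrary `p`-subgroups -/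
theorem bg9_1 {M : Subgroup G} (hM : IsCoatom M) {p : ℕ} (hp : p.Prime) {B : Subgroup G}
    (hBM : B ≤ M) (hBp : IsPGroup p B) (hB1 : B ≠ ⊥)
    (h : ∀ Y : Subgroup G, (Nat.card Y).Coprime p → B ≤ 𝓝(Y) → Y ≤ M) : InUniqueMaximal B := by
  have hMs := max_sol hG hM
  have hpG : p ∣ Nat.card B := pgroup_dvd_card hp hBp hB1
  have hp2 := ms_p2' hG hp hpG
  refine uniq_intro hM hBM ?_
  by_contra hcon
  push Not at hcon
  obtain ⟨H0, hH0, hBH0, hne0⟩ := hcon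
  let T : Set (Subgroup G) := {R | B ≤ R ∧ ∃ H, IsCoatom H ∧ H ≠ M ∧ IsPiHallOf {p} R (H ⊓ M)}
  have hT : T.Nonempty := by
    obtain ⟨R, hR, hBR⟩ := exists_syl_ge hp (isPi_of_isPGroup hp hBp) (le_inf hBH0 hBM)
    exact ⟨R, hBR, H0, hH0, hne0, hR⟩
  obtain ⟨R, ⟨hBR, H, hH, hHM, hR⟩, hmax⟩ :=
    Set.exists_max_image T (fun R => Nat.card R) (Set.toFinite T) hT
  have hRM : R ≤ M := hR.1.trans inf_le_right
  have hRH : R ≤ H := hR.1.trans inf_le_left
  have hR1 : R ≠ ⊥ := fun h => hB1 (le_bot_iff.1 (h ▸ hBR))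
  have hBH : B ≤ H := hBR.trans hRH
  obtain ⟨P, hP, hRP⟩ := exists_syl_ge hp (hall_isPi hR) hRM
  have hPp : IsPGroup p P := (hall_isPi hP).isPGroup hp
  have hP1 : P ≠ ⊥ := fun h => hR1 (le_bot_iff.1 (h ▸ hRP))
  -- `N(P) ≤ M`
  have hNP : 𝓝(P) ≤ M := by
    by_cases hK : piCoreOf {p}ᶜ M = ⊥
    · have h1 := rel_puig hp hp2 hMs (ms_odd hG M) hK hP
      have h2 := max_nz_eq hG hM (zpg_ne_bot hp hPp hP1) ((zpg_le P).trans hP.1) h1
      rw [← h2]; exact nz_le_nz_zpg P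
    · rw [← max_nz_pcore hG hM hK]
      intro g hg
      rw [mem_nz]
      have h1 : (piCoreOf {p}ᶜ M) ^ᵍ g ≤ piCoreOf {p}ᶜ M := by
        have hPg : P ≤ 𝓝((piCoreOf {p}ᶜ M) ^ᵍ g) := by
          rw [nz_cj, ← mem_nz.1 hg]
          exact cj_mono (hP.1.trans (le_nz_piCoreOf _ _)) g
        have hc : (Nat.card ↥((piCoreOf {p}ᶜ M) ^ᵍ g)).Coprime p := by
          rw [card_cj]
          exact (isPi_compl_singleton' hp).1 (isPi_piCoreOf _ _)
        exact rel_syl_inv_le hp hMs (ms_odd hG M) hP (h _ hc ((hBR.trans hRP).trans hPg)) hc hPg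
      exact eq_of_card_le h1 (by rw [card_cj])
  have hPG : IsPiHallOf {p} P ⊤ := syl_of_nz_le hp hP le_top (by rw [top_inf_eq]; exact hNP)
  obtain ⟨hNR, hRH'⟩ : 𝓝(R) ≤ M ∧ IsPiHallOf {p} R H := by
    rcases eq_or_lt_of_le hRP with e | hlt
    · rw [e]
      exact ⟨hNP, hall_le_of_le hPG (by rw [← e]; exact hRH) le_top⟩
    · have h1 := nilpotent_nz_lt (nilpotent_of_isPi hp (hall_isPi hP)) hlt
      have hpi1 : IsPi {p} (P ⊓ 𝓝(R)) := (hall_isPi hP).le inf_le_left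
      have hnR : 𝓝(R) ≤ M := by
        obtain ⟨H', hH', hNH'⟩ := exists_max hG
          (ms_nz_ne_top hG hR1 (ms_pi_ne_top hG hp (hall_isPi hR)))
        by_cases he : H' = M
        · rwa [← he]
        · exfalso
          obtain ⟨R', hR', hle⟩ := exists_syl_ge hp hpi1
            (le_inf (inf_le_right.trans hNH') (inf_le_left.trans hP.1) : P ⊓ 𝓝(R) ≤ H' ⊓ M)
          have h2 := hmax R' ⟨(hBR.trans h1.le).trans hle, H', hH', he, hR'⟩
          have h3 := card_lt_of_lt (h1.trans_le hle)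
          omega
      exact ⟨hnR, syl_of_nz_le hp hR hRH (le_inf inf_le_left (inf_le_right.trans hnR))⟩
  -- `F(H) ≤ M`
  have hFM : fittingOf H ≤ M := by
    refine nilpotent_le_of_pcores (fittingOf_nilpotent H) fun q hq => ?_
    rw [piCoreOf_fittingOf hq]
    by_cases hqp : q = p
    · subst hqp
      exact (piCoreOf_le_hall hRH').trans hRM
    · refine h _ ?_ (hBH.trans (le_nz_piCoreOf _ _))
      rw [← isPi_compl_singleton' hp]
      refine (isPi_piCoreOf {q} H).mono ?_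
      rintro t ht
      rw [Set.mem_singleton_iff] at ht
      subst ht
      exact hqp
  have hder : ⁅H, H⁆ ≤ fittingOf H := der_le_fitting (max_sol hG hH) (ms_odd hG H) fun q hq =>
    rank_mono (pcore_le_fittingOf hq H) (fitting_rank_le hG hM hH hHM hFM hq)
  have hHleM : H ≤ M := le_of_der_fitting hp hder hFM hRH' hRM (inf_le_right.trans hNR)
  rcases eq_or_lt_of_le hHleM with e | hlt
  · exact hHM e
  · exact hM.1 (hH.2 _ hlt)

theorem bg9_1a {M : Subgroup G} (hM : IsCoatom M) {p : ℕ} (hp : p.Prime) {B : Subgroup G}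
    (hBM : B ≤ M) (hBe : IsElementaryAbelian p B) (hBnc : ¬ IsCyclic B)
    (h : ∀ b ∈ B, b ≠ 1 → Subgroup.centralizer ({b} : Set G) ≤ M) : InUniqueMaximal B := by
  have hB1 : B ≠ ⊥ := by
    rintro rfl
    exact hBnc inferInstance
  refine bg9_1 hG hM hp hBM (elab_isPGroup hBe) hB1 fun Y hY hBY => ?_
  haveI := hBe.1
  rw [← CfsgLib.Coprime2.generation_noncyclic hBnc hBY
    (coprime_card_of_pgroup hp (elab_isPGroup hBe) hY).symm]
  refine iSup₂_le ?_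
  rintro b ⟨hb, hb1⟩
  exact inf_le_right.trans (h b hb hb1)

theorem uniq_ne_bot {X : Subgroup G} (h : InUniqueMaximal X) : X ≠ ⊥ := by
  rintro rfl
  obtain ⟨M, hM, -, hu⟩ := uniq_iff.1 h
  have h1 : 𝓝(M) = ⊤ := by
    rw [eq_top_iff]
    intro g _
    rw [mem_nz]
    exact hu _ (coatom_cj hM g) bot_le
  exact ms_nz_ne_top hG (max_ne_bot hG hM) hM.1 h1

/-- B & G, Corollary 9.2 -/
theorem bg9_2 {L K : Subgroup G} (hL : InUniqueMaximal L) (hK : K ≤ 𝓒(L)) (hKr : ¬ RankLE 1 K) :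
    InUniqueMaximal K := by
  obtain ⟨M, hM, hLM, hu⟩ := uniq_iff.1 hL
  have hL1 := uniq_ne_bot hG hL
  obtain ⟨p, hp, B, hBK, hBe, hBc⟩ := exists_elab_of_not_rank hKr
  have hBnc := not_cyclic_of_elab (k := 0) hp hBe hBc
  have hc : ∀ b ∈ B, b ≠ 1 → Subgroup.centralizer ({b} : Set G) ≤ M := by
    intro b hb hb1
    refine uniq_le hL hM hLM ?_ (ms_cz1_ne_top hG hb1)
    intro x hx
    rw [Subgroup.mem_centralizer_singleton_iff]
    exact mem_cz.1 (hK (hBK hb)) x hx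
  have hBM : B ≤ M := by
    intro b hb
    by_cases hb1 : b = 1
    · rw [hb1]; exact one_mem _
    · exact hc b hb hb1 (by rw [Subgroup.mem_centralizer_singleton_iff])
  refine uniq_mono (bg9_1a hG hM hp hBM hBe hBnc hc) hBK fun h => ?_
  rw [h, top_le_iff] at hK
  exact ms_cz_ne_top hG hL1 hK

theorem not_rank1_of_elab {p : ℕ} (hp : p.Prime) {E K : Subgroup G} (hE : IsElementaryAbelian p E)
    (hc : Nat.card E = p ^ 2) (hEK : E ≤ K) : ¬ RankLE 1 K := by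
  intro h
  have h1 := rank_iff.1 (h p hp) E hEK hE
  rw [hc, pow_one, pow_two] at h1
  have := hp.one_lt
  nlinarith

theorem bg9_2' {p : ℕ} (hp : p.Prime) {L E : Subgroup G} (hL : InUniqueMaximal L)
    (hE : IsElementaryAbelian p E) (hc : Nat.card E = p ^ 2) (h : E ≤ 𝓒(L)) : InUniqueMaximal E :=
  bg9_2 hG hL h (not_rank1_of_elab hG hp hE hc le_rfl)

/-- `|D ∩ C(E)| ≥ p ^ 2` for `|D| = p ^ 3`, `E ⊲ P` of order `p ^ 2` -/
theorem inf_cz_ge {p : ℕ} (hp : p.Prime) {P E D : Subgroup G} (hP : IsPGroup p P) (hEP : E ≤ P)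
    (hPE : P ≤ 𝓝(E)) (hE : IsElementaryAbelian p E) (hEc : Nat.card E = p ^ 2) (hDP : D ≤ P)
    (hDe : IsElementaryAbelian p D) (hDc : Nat.card D = p ^ 3) :
    ∃ D₁ ≤ D ⊓ 𝓒(E), IsElementaryAbelian p D₁ ∧ Nat.card D₁ = p ^ 2 := by
  haveI : Fact p.Prime := ⟨hp⟩
  have hcard : (𝓒(E)).relIndex P ≤ p := by
    obtain ⟨z, hzE, hz1, hzP, hb⟩ := normal_p2 hp hP hEP hPE hEc
    have h1 : zpowers z < E := by
      refine lt_of_le_of_ne (by rwa [Subgroup.zpowers_le]) fun h => ?_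
      have h2 : Nat.card (zpowers z) ≤ p := by
        rw [Nat.card_zpowers]
        exact Nat.le_of_dvd hp.pos (orderOf_dvd_of_pow_eq_one (hE.2 z hzE))
      rw [h, hEc, pow_two] at h2
      have := hp.one_lt
      nlinarith
    obtain ⟨b, hbE, hbz⟩ := SetLike.exists_of_lt h1
    have h2 : zpowers z ⊔ zpowers b = E := by
      have hle : zpowers z ⊔ zpowers b ≤ E :=
        sup_le h1.le (by rwa [Subgroup.zpowers_le])
      have hlt : zpowers z < zpowers z ⊔ zpowers b := by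
        refine lt_of_le_of_ne le_sup_left fun h => hbz ?_
        rw [h]; exact Subgroup.mem_sup_right (Subgroup.mem_zpowers b)
      have h3 := pgroup_mul_card_le hp (hP.to_le (hle.trans hEP)) hlt
      have h4 : Nat.card (zpowers z) = p := by
        rw [Nat.card_zpowers]
        exact orderOf_eq_prime (hE.2 z hzE) hz1
      refine eq_of_card_le hle ?_
      rw [hEc, pow_two]
      rwa [h4] at h3
    have h3 : P ⊓ Subgroup.centralizer {b} ≤ P ⊓ 𝓒(E) := by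
      refine le_inf inf_le_left ?_
      rintro g ⟨hg, hgb⟩
      have h5 : E ≤ Subgroup.centralizer {g} := by
        rw [← h2]
        refine sup_le ?_ ?_
        · rw [Subgroup.zpowers_le, Subgroup.mem_centralizer_singleton_iff]
          exact (mem_cz.1 hzP g hg).symm
        · rw [Subgroup.zpowers_le, Subgroup.mem_centralizer_singleton_iff]
          exact (Subgroup.mem_centralizer_singleton_iff.1 hgb).symm
      rw [mem_cz]
      intro e he
      exact Subgroup.mem_centralizer_singleton_iff.1 (h5 he)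
    have h4 := (hb b hbE).trans (Nat.mul_le_mul_left p
      (Nat.le_of_dvd (card_pos' _) (Subgroup.card_dvd_of_le h3)))
    have h5 := card_mul_relIndex (inf_le_left : P ⊓ 𝓒(E) ≤ P)
    rw [Subgroup.inf_relIndex_left] at h5
    rw [← h5, mul_comm] at h4
    exact Nat.le_of_mul_le_mul_right h4 (card_pos' _)
  have hDc2 : p ^ 2 ≤ Nat.card ↥(D ⊓ 𝓒(E)) := by
    have h1 := card_mul_relIndex (inf_le_left : D ⊓ 𝓒(E) ≤ D)
    rw [Subgroup.inf_relIndex_left] at h1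
    have h2 : (𝓒(E)).relIndex D ≤ (𝓒(E)).relIndex P := by
      apply Subgroup.relIndex_le_of_le_right hDP
      rw [Subgroup.relIndex]; exact Subgroup.index_ne_zero_of_finite
    have h5 : p ^ 3 ≤ Nat.card ↥(D ⊓ 𝓒(E)) * p := by
      rw [← hDc, ← h1]
      exact Nat.mul_le_mul_left _ (h2.trans hcard)
    rw [pow_succ] at h5
    exact Nat.le_of_mul_le_mul_right h5 hp.pos
  have hDe' := elab_mono (inf_le_left : D ⊓ 𝓒(E) ≤ D) hDe
  obtain ⟨D₁, h1, -, h3⟩ := exists_normal_card hp (elab_isPGroup hDe') le_rfl le_normalizer hDc2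
  exact ⟨D₁, h1, elab_mono h1 hDe', h3⟩

/-- B & G, Corollary 9.3 -/
theorem bg9_3 {p : ℕ} (hp : p.Prime) {A B : Subgroup G} (hAp : IsPGroup p A)
    (hAc : IsMulCommutative A) (hA3 : ¬ PRankLE p 2 A) (hAU : InUniqueMaximal A)
    (hBp : IsPGroup p B) (hBnc : ¬ IsCyclic B) (hB3 : ¬ PRankLE p 2 ↥𝓒(B)) :
    InUniqueMaximal B := by
  obtain ⟨D₀, hD₀A, hD₀e, hD₀c⟩ := (not_rank_iff hp).1 hA3
  obtain ⟨D, hDB, hDe, hDc⟩ := (not_rank_iff hp).1 hB3
  have hpD : p ∣ Nat.card D := by rw [hDc]; exact dvd_pow_self p (by norm_num)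
  have hp2 := ms_p2' hG hp hpD
  -- Sylow subgroups
  obtain ⟨P, hP, hAP⟩ := exists_syl_ge hp (isPi_of_isPGroup hp hAp) (le_top : A ≤ ⊤)
  have hBD : IsPi {p} (D ⊔ B) :=
    (isPi_of_isPGroup hp (elab_isPGroup hDe)).sup (isPi_of_isPGroup hp hBp) (le_nz_of_le_cz hDB)
  obtain ⟨S, hS, hDBS⟩ := exists_syl_ge hp hBD (le_top : D ⊔ B ≤ ⊤)
  obtain ⟨g, -, hg⟩ := syl_conj hp hP hS
  -- replace `A` by its conjugate
  have hA'U := uniq_cj hAU g
  have hA'S : A ^ᵍ g ≤ S := by rw [← hg]; exact cj_mono hAP g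
  have hSp : IsPGroup p S := (hall_isPi hS).isPGroup hp
  have hDS : D ≤ S := le_sup_left.trans hDBS
  have hBS : B ≤ S := le_sup_right.trans hDBS
  have hSnc : ¬ IsCyclic S := not_cyclic_mono hBS hBnc
  obtain ⟨E, hES, hSE, hEe, hEc⟩ := exists_normal_p2 hp hp2 hSp hSnc
  -- `A ∩ C(E)`
  have hD₀' := elab_cj hD₀e g
  obtain ⟨A₁, hA₁, hA₁e, hA₁c⟩ := inf_cz_ge hG hp hSp hES hSE hEe hEc
    ((cj_mono hD₀A g).trans hA'S) hD₀' (by rw [card_cj, hD₀c])
  have hA₁U : InUniqueMaximal A₁ := by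
    refine bg9_2' hG hp hA'U hA₁e hA₁c ?_
    have h1 : A₁ ≤ A ^ᵍ g := (hA₁.trans inf_le_left).trans (cj_mono hD₀A g)
    exact h1.trans (comm_iff_le_cz.1 (comm_cj hAc g))
  have hEU : InUniqueMaximal E :=
    bg9_2' hG hp hA₁U hEe hEc (le_cz_comm.1 (hA₁.trans inf_le_right))
  obtain ⟨D₁, hD₁, hD₁e, hD₁c⟩ := inf_cz_ge hG hp hSp hES hSE hEe hEc hDS hDe hDc
  have hD₁U : InUniqueMaximal D₁ := bg9_2' hG hp hEU hD₁e hD₁c (hD₁.trans inf_le_right)
  have hDU : InUniqueMaximal D :=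
    uniq_mono hD₁U (hD₁.trans inf_le_left) (ms_p_ne_top hG hp (elab_isPGroup hDe))
  obtain ⟨B₁, hB₁, hB₁e, hB₁c⟩ := exists_elab2 hp hp2 hBp hBnc
  exact bg9_2 hG hDU (le_cz_comm.1 hDB) (not_rank1_of_elab hG hp hB₁e hB₁c hB₁)

/-- B & G, Lemma 9.4 -/
theorem bg9_4 {M : Subgroup G} (hM : IsCoatom M) {p : ℕ} (hp : p.Prime)
    (hF : ¬ PRankLE p 2 ↥(fittingOf M)) {A : Subgroup G} (hAp : IsPGroup p A)
    (hAc : IsMulCommutative A) (hA3 : ¬ PRankLE p 2 ↥A) : InUniqueMaximal A := by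
  have hAA : ¬ PRankLE p 2 ↥𝓒(A) := fun h => hA3 (rank_mono (comm_iff_le_cz.1 hAc) h)
  have hAnc : ¬ IsCyclic A := not_cyclic_of_rank hp (by norm_num) hA3
  obtain ⟨A₁, hA₁, hA₁e, hA₁c⟩ := (not_rank_iff hp).1 hF
  have hpF : p ∣ Nat.card (fittingOf M) := by
    refine Dvd.dvd.trans ?_ (Subgroup.card_dvd_of_le hA₁)
    rw [hA₁c]; exact dvd_pow_self p (by norm_num)
  have hp2 := ms_p2' hG hp hpF
  by_cases hFp : IsPGroup p ↥(fittingOf M)
  · obtain ⟨Q, hQ⟩ := exists_syl hp M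
    have hFQ : fittingOf M ≤ Q := by
      refine le_trans ?_ (piCoreOf_le_hall hQ)
      rw [← piCoreOf_fittingOf hp, piCoreOf_self (isPi_of_isPGroup hp hFp)]
    have hQp : IsPGroup p Q := (hall_isPi hQ).isPGroup hp
    obtain ⟨A', hA', hA'3⟩ := exists_scn3' hp hp2 hQp (fun h => hF (rank_mono hFQ h))
    obtain ⟨-, h2⟩ := (bg8_b hG hM hp hFp hQ).2 A' hA' hA'3
    exact bg9_3 hG hp (hQp.to_le hA'.1) (scn_comm hA') hA'3 h2 hAp hAnc hAA
  · obtain ⟨A₀, hA₁A₀, hA₀F, hA₀e, hA₀max⟩ := exists_max_elab hA₁ hA₁e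
    have h3 : p ^ 3 ≤ Nat.card A₀ := by
      rw [← hA₁c]
      exact Nat.le_of_dvd (card_pos' _) (Subgroup.card_dvd_of_le hA₁A₀)
    have h2 := bg8_a hG hM hp hA₀F hA₀e h3 hA₀max hFp
    have hA₀3 : ¬ PRankLE p 2 A₀ := fun h => by
      have := rank_iff.1 h A₁ hA₁A₀ hA₁e
      rw [hA₁c] at this
      have h4 : p ^ 2 < p ^ (2 + 1) := Nat.pow_lt_pow_right hp.one_lt (by norm_num)
      omega
    have hA₀U : InUniqueMaximal A₀ := by
      refine bg9_2 hG h2 (le_cz_comm.1 inf_le_right) fun h => ?_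
      exact hA₀3 (rank_le hp (by norm_num) (h p hp))
    exact bg9_3 hG hp (elab_isPGroup hA₀e) hA₀e.1 hA₀3 hA₀U hAp hAnc hAA

end
end CfsgLib.BGPi
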