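import Cfsg.Agent.EqBase
import Cfsg.Agent.LibBG9

/-! B & G section 9: the uniqueness theorem, preliminary lemmas. -/

open Subgroup
open scoped Pointwise commutatorElement

namespace CfsgLib.BGPi

open Cfsg

universe u
variable {G : Type u} [Group G] [Finite G]

/-- a subgroup containing Sylow `q`-subgroups of `Y` for all `q` contains `Y` -/
theorem le_of_syls {Y M : Subgroup G}
    (h : ∀ q : ℕ, q.Prime → ∃ S, IsPiHallOf {q} S Y ∧ S ≤ M) : Y ≤ M := by
  have h1 : (M ⊓ Y).relIndex Y = 1 := by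
    by_contra hne
    obtain ⟨r, hr, hd⟩ := Nat.exists_prime_and_dvd hne
    obtain ⟨S, hS, hSM⟩ := h r hr
    exact hS.2.2 r hr rfl (hd.trans (Subgroup.relIndex_dvd_of_le_left Y (le_inf hSM hS.1)))
  rw [Subgroup.relIndex_eq_one] at h1
  exact h1.trans inf_le_left

/-- an `A`-invariant solvable `|A|'`-group all of whose `A`-invariant `q`-subgroups are in `M` -/
theorem inv_le_of_syls {A Y M : Subgroup G} (hAY : A ≤ 𝓝(Y))
    (hcop : (Nat.card A).Coprime (Nat.card Y)) (hY : Group.IsSolvable Y)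
    (h : ∀ q : ℕ, q.Prime → ∀ S : Subgroup G, IsPi {q} S → S ≤ Y → A ≤ 𝓝(S) → S ≤ M) : Y ≤ M := by
  refine le_of_syls fun q hq => ?_
  obtain ⟨S, hS, hAS⟩ := cop_hall_exists hAY hcop hY {q}
  exact ⟨S, hS, h q hq S (hall_isPi hS) hS.1 hAS⟩

/-- normal subgroups in `H'` whose `O_p` have rank at most two are nilpotent -/
theorem nilp_of_le_der {H L : Subgroup G} (hL : Group.IsSolvable L) (hodd : Odd (Nat.card H))
    (hLH : L ≤ ⁅H, H⁆) (hHL : H ≤ 𝓝(L))
    (hr : ∀ p : ℕ, p.Prime → PRankLE p 2 ↥(piCoreOf {p} L)) : Group.IsNilpotent L := by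
  set F := fittingOf L with hF
  have hFn := fittingOf_nilpotent L
  have hLH' : L ≤ H := hLH.trans (Subgroup.commutator_le_self H)
  suffices hcon : L ≤ F from nilpotent_sub hcon hFn
  have hcz : ∀ r : ℕ, r.Prime → ∀ x ∈ L, (orderOf x).Coprime r → x ∈ 𝓒(piCoreOf {r} L) := by
    intro r hr' x hx hxo
    by_cases hr2 : r = 2
    · subst hr2
      have h1 : piCoreOf {2} L = ⊥ := by
        by_contra hne
        refine Nat.not_even_iff_odd.2 hodd (even_iff_two_dvd.2 ?_)
        exact (isPi_pcore_dvd hne).trans (Subgroup.card_dvd_of_le hLH')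
      rw [h1, cz_bot]; trivial
    · exact rk2_der hr' hr2 ((isPi_piCoreOf _ _).isPGroup hr') (hr r hr')
        (hHL.trans (nz_le_nz_piCoreOf _ _)) hodd (hLH hx) hxo
  by_contra hcon
  obtain ⟨p, hp, S, hS, hSF⟩ := exists_syl_not_le hcon
  apply hSF
  haveI : Fact p.Prime := ⟨hp⟩
  set B := piCoreOf {p}ᶜ F with hB
  have hHB : L ≤ 𝓝(B) := (le_nz_fittingOf L).trans (nz_le_nz_piCoreOf _ _)
  set K := L ⊓ 𝓒(B) with hK
  have hHK : L ≤ 𝓝(K) := le_nz_inf le_normalizer (hHB.trans (nz_le_nz_cz B))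
  have hSK : S ≤ K := by
    refine le_inf hS.1 fun x hx => ?_
    apply cz_compl
    intro q hq hqp
    apply hcz q hq x (hS.1 hx)
    obtain ⟨k, hk⟩ := (IsPGroup.iff_orderOf.1 ((hall_isPi hS).isPGroup hp)) ⟨x, hx⟩
    rw [← Subgroup.orderOf_coe] at hk
    change orderOf x = _ at hk
    rw [hk]
    exact ((Nat.coprime_primes hp hq).2 (fun h => hqp (by rw [← h]; rfl))).pow_left k
  refine hSK.trans (le_fittingOf inf_le_left hHK ?_)
  apply nilpotent_of_central_quot hp
  intro y hy hyo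
  have h1 : y ∈ 𝓒(piCoreOf {p} F) := by
    rw [hF, piCoreOf_fittingOf hp]
    exact hcz p hp y hy.1 hyo
  have h2 : y ∈ 𝓒(F) := by
    have h3 : F ≤ Subgroup.centralizer {y} := by
      rw [show F = piCoreOf {p} F ⊔ piCoreOf {p}ᶜ F from (nilpotent_sup_piCoreOf hFn).symm]
      refine sup_le ?_ ?_
      · intro z hz
        rw [Subgroup.mem_centralizer_singleton_iff]
        exact mem_cz.1 h1 z hz
      · intro z hz
        rw [Subgroup.mem_centralizer_singleton_iff]
        exact mem_cz.1 hy.2 z hz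
    rw [mem_cz]
    intro z hz
    exact Subgroup.mem_centralizer_singleton_iff.1 (h3 hz)
  have h3 : y ∈ F := cz_fittingOf_le hL ⟨hy.1, h2⟩
  have h4 : y ∈ B := by
    have h5 : zpowers y ≤ B := by
      refine nilpotent_le_piCoreOf hFn (by rwa [Subgroup.zpowers_le]) ?_
      rw [isPi_compl_singleton' hp, Nat.card_zpowers]
      exact hyo
    exact h5 (Subgroup.mem_zpowers y)
  rw [mem_cz]
  intro z hz
  exact (mem_cz.1 hz.2 y h4).symm

/-! ### the subgroup `Ω₁(Z₂(Q))` relative -/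

/-- relative `Ω₁(Z₂(Q))` -/
noncomputable def oz2 {q : ℕ} (hq : q.Prime) (hq2 : q ≠ 2) (Q : Subgroup G) : Subgroup G :=
  (omZ2 hq hq2 Q).map Q.subtype

omit [Finite G] in
theorem oz2_le {q : ℕ} (hq : q.Prime) (hq2 : q ≠ 2) (Q : Subgroup G) : oz2 hq hq2 Q ≤ Q :=
  Subgroup.map_subtype_le _

omit [Finite G] in
theorem nz_oz2 {q : ℕ} (hq : q.Prime) (hq2 : q ≠ 2) (Q : Subgroup G) : 𝓝(Q) ≤ 𝓝(oz2 hq hq2 Q) := by
  haveI := omZ2_char (R := Q) (hp := hq) (hp2 := hq2)
  exact char_nz (omZ2 hq hq2 Q)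

omit [Finite G] in
theorem oz2_pow {q : ℕ} {hq : q.Prime} {hq2 : q ≠ 2} {Q : Subgroup G} {x : G}
    (hx : x ∈ oz2 hq hq2 Q) : x ^ q = 1 := by
  obtain ⟨y, hy, rfl⟩ := hx
  have := (mem_omZ2.1 hy).2
  rw [Subgroup.subtype_apply, ← Subgroup.coe_pow, this, Subgroup.coe_one]

theorem oz2_nc {q : ℕ} (hq : q.Prime) (hq2 : q ≠ 2) {Q : Subgroup G} (hQ : IsPGroup q Q)
    (hnc : ¬ IsCyclic Q) : ¬ IsCyclic (oz2 hq hq2 Q) := by
  obtain ⟨E, hEQ, hQE, hE, hEc⟩ := exists_normal_p2 hq hq2 hQ hnc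
  refine not_cyclic_mono ?_ (not_cyclic_of_elab (k := 0) hq hE hEc)
  intro x hx
  haveI := normal_subgroupOf hEQ hQE
  have h1 := normal_p2_le hq hQ (N := E.subgroupOf Q) inferInstance
    (by rw [card_subgroupOf hEQ, hEc])
  refine ⟨⟨x, hEQ hx⟩, ?_, rfl⟩
  change _ ∈ omZ2 hq hq2 Q
  rw [mem_omZ2]
  refine ⟨h1 hx, ?_⟩
  exact Subtype.ext (hE.2 x hx)


theorem pq_coprime {p q : ℕ} (hp : p.Prime) (hq : q.Prime) (hpq : p ≠ q) {X Y : Subgroup G}
    (hX : IsPGroup p X) (hY : IsPGroup q Y) : (Nat.card X).Coprime (Nat.card Y) := by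
  haveI : Fact p.Prime := ⟨hp⟩
  haveI : Fact q.Prime := ⟨hq⟩
  obtain ⟨n, hn⟩ := IsPGroup.iff_card.1 hX
  obtain ⟨m, hm⟩ := IsPGroup.iff_card.1 hY
  rw [hn, hm]
  exact ((Nat.coprime_primes hp hq).2 hpq).pow n m

theorem mem_zpowers_of_cyclic {C : Subgroup G} (hC : IsCyclic C) {q : ℕ} (hq : q.Prime) {v x : G}
    (hv : v ∈ C) (hx : x ∈ C) (hv1 : v ≠ 1) (hvq : v ^ q = 1) (hxq : x ^ q = 1) :
    x ∈ zpowers v := by
  classical
  haveI : Fact q.Prime := ⟨hq⟩
  by_contra hcon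
  have hvo : orderOf v = q := orderOf_eq_prime hvq hv1
  have hx1 : x ≠ 1 := by
    rintro rfl
    exact hcon (one_mem _)
  have hxo : orderOf x = q := orderOf_eq_prime hxq hx1
  haveI := Fintype.ofFinite C
  have h1 := IsCyclic.card_pow_eq_one_le (α := C) (n := q) hq.pos
  set S := Finset.univ.filter (fun a : C => a ^ q = 1) with hS
  have h2 : insert (⟨x, hx⟩ : C) (Finset.univ.filter (fun a : C => (a : G) ∈ zpowers v)) ⊆ S := by
    intro a ha
    rw [Finset.mem_insert] at ha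
    rw [hS, Finset.mem_filter]
    refine ⟨Finset.mem_univ _, ?_⟩
    rcases ha with rfl | ha
    · exact Subtype.ext hxq
    · rw [Finset.mem_filter] at ha
      obtain ⟨k, hk⟩ := Subgroup.mem_zpowers_iff.1 ha.2
      apply Subtype.ext
      rw [Subgroup.coe_pow, ← hk, ← zpow_natCast, ← zpow_mul, mul_comm, zpow_mul, zpow_natCast, hvq,
        one_zpow, Subgroup.coe_one]
  have h3 : (Finset.univ.filter (fun a : C => (a : G) ∈ zpowers v)).card = q := by
    have h4 : Nat.card ((zpowers v).subgroupOf C) = q := by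
      rw [card_subgroupOf (by rwa [Subgroup.zpowers_le]), Nat.card_zpowers, hvo]
    rw [← h4, Nat.card_eq_fintype_card, Fintype.card_subtype]
    rfl
  have h4 := Finset.card_le_card h2
  rw [Finset.card_insert_of_notMem, h3] at h4
  · omega
  · intro h
    rw [Finset.mem_filter] at h
    exact hcon h.2

/-- centralizers of elements of order `q` in noncyclic `q`-groups are noncyclic -/
theorem cz1_nc {q : ℕ} (hq : q.Prime) {T : Subgroup G} (hT : IsPGroup q T) (hnc : ¬ IsCyclic T)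
    {v : G} (hv : v ∈ T) (hv1 : v ≠ 1) (hvq : v ^ q = 1) :
    ¬ IsCyclic ↥(T ⊓ Subgroup.centralizer {v}) := by
  intro hC
  haveI : Fact q.Prime := ⟨hq⟩
  haveI : Nontrivial T := ⟨⟨⟨v, hv⟩, 1, fun h => hv1 (congrArg Subtype.val h)⟩⟩
  have h1 := omZ_ne_bot (R := T) hq hT
  obtain ⟨z, hz⟩ := (Subgroup.ne_bot_iff_exists_ne_one.1 h1)
  have hz2 := mem_omZ.1 z.2
  have hzc : ∀ t ∈ T, t * ((z : T) : G) = ((z : T) : G) * t := fun t ht =>
    congrArg Subtype.val ((Subgroup.mem_center_iff.1 hz2.1) ⟨t, ht⟩)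
  have hz1 : ((z : T) : G) ≠ 1 := fun h => hz (Subtype.ext (Subtype.ext h))
  have hzq : ((z : T) : G) ^ q = 1 := congrArg Subtype.val hz2.2
  have hzv : ((z : T) : G) ∈ zpowers v := by
    refine mem_zpowers_of_cyclic hC hq (Subgroup.mem_inf.2 ⟨hv, ?_⟩)
      (Subgroup.mem_inf.2 ⟨(z : T).2, ?_⟩) hv1 hvq hzq
    · rw [Subgroup.mem_centralizer_singleton_iff]
    · rw [Subgroup.mem_centralizer_singleton_iff]
      exact (hzc v hv).symm
  have h2 : zpowers ((z : T) : G) = zpowers v := by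
    refine eq_of_card_le (by rwa [Subgroup.zpowers_le]) ?_
    rw [Nat.card_zpowers, Nat.card_zpowers, orderOf_eq_prime hvq hv1, orderOf_eq_prime hzq hz1]
  have h3 : v ∈ zpowers ((z : T) : G) := by rw [h2]; exact Subgroup.mem_zpowers v
  have h4 : T ≤ Subgroup.centralizer {v} := by
    intro t ht
    rw [Subgroup.mem_centralizer_singleton_iff]
    have h5 : zpowers ((z : T) : G) ≤ Subgroup.centralizer {t} := by
      rw [Subgroup.zpowers_le, Subgroup.mem_centralizer_singleton_iff]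
      exact (hzc t ht).symm
    exact (Subgroup.mem_centralizer_singleton_iff.1 (h5 h3)).symm
  rw [inf_eq_left.2 h4] at hC
  exact hnc hC

/-- if `B` noncyclic acts on the noncyclic `q`-group `T` with a fixed point, some `C_T(b)` is
noncyclic -/
theorem star {p q : ℕ} (hp : p.Prime) (hq : q.Prime) (hq2 : q ≠ 2) (hpq : p ≠ q)
    {T B : Subgroup G} (hT : IsPGroup q T) (hTnc : ¬ IsCyclic T) (hBT : B ≤ 𝓝(T))
    (hB : IsElementaryAbelian p B) (hBnc : ¬ IsCyclic B) (h : T ⊓ 𝓒(B) ≠ ⊥) :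
    ∃ b ∈ B, b ≠ 1 ∧ ¬ IsCyclic ↥(T ⊓ Subgroup.centralizer {b}) := by
  by_contra hcon
  push Not at hcon
  haveI : Fact q.Prime := ⟨hq⟩
  haveI := hB.1
  have hTB : q ∣ Nat.card ↥(T ⊓ 𝓒(B)) := pgroup_dvd_card hq (hT.to_le inf_le_left) h
  obtain ⟨v, hv⟩ := exists_prime_orderOf_dvd_card' q hTB
  rw [← Subgroup.orderOf_coe] at hv
  have hv1 : (v : G) ≠ 1 := by
    intro h
    rw [h, orderOf_one] at hv
    exact hq.ne_one hv.symm
  have hvq : (v : G) ^ q = 1 := by rw [← hv]; exact pow_orderOf_eq_one _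
  have hcop : (Nat.card B).Coprime (Nat.card T) := pq_coprime hp hq hpq (elab_isPGroup hB) hT
  have hN := oz2_nc hq hq2 hT hTnc
  have hBN : B ≤ 𝓝(oz2 hq hq2 T) := hBT.trans (nz_oz2 hq hq2 T)
  have h1 := CfsgLib.Coprime2.generation_noncyclic hBnc hBN (cop_le hcop le_rfl (oz2_le hq hq2 T))
  have h2 : oz2 hq hq2 T ≤ zpowers (v : G) := by
    rw [← h1]
    refine iSup₂_le ?_
    rintro b ⟨hb, hb1⟩
    rintro x ⟨hx, hxb⟩
    refine mem_zpowers_of_cyclic (hcon b hb hb1) hq (Subgroup.mem_inf.2 ⟨v.2.1, ?_⟩)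
      (Subgroup.mem_inf.2 ⟨oz2_le hq hq2 T hx, hxb⟩) hv1 hvq (oz2_pow hx)
    rw [Subgroup.mem_centralizer_singleton_iff]
    exact (mem_cz.1 v.2.2 b hb).symm
  exact hN (by
    have h3 : IsCyclic (zpowers (v : G)) := inferInstance
    exact isCyclic_of_injective (Subgroup.inclusion h2) (Subgroup.inclusion_injective h2))


theorem inf_zpowers_bot {q : ℕ} (hq : q.Prime) {E : Subgroup G} {b : G} (hb : b ^ q = 1)
    (hbE : b ∉ E) : E ⊓ zpowers b = ⊥ := by
  by_contra hne
  apply hbE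
  have hb1 : b ≠ 1 := by
    rintro rfl
    exact hbE (one_mem _)
  have h1 : IsPGroup q ↥(zpowers b) := elab_isPGroup (elab_zpowers hb)
  have h2 : q ∣ Nat.card ↥(E ⊓ zpowers b) := pgroup_dvd_card hq (h1.to_le inf_le_right) hne
  have h3 : E ⊓ zpowers b = zpowers b := by
    refine eq_of_card_le inf_le_right ?_
    rw [Nat.card_zpowers]
    haveI : Fact q.Prime := ⟨hq⟩
    rw [orderOf_eq_prime hb hb1]
    exact Nat.le_of_dvd (card_pos' _) h2
  have h4 : b ∈ E ⊓ zpowers b := by rw [h3]; exact Subgroup.mem_zpowers b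
  exact h4.1

theorem card_sup_zpowers {q : ℕ} (hq : q.Prime) {E : Subgroup G} {b : G} (hb : b ^ q = 1)
    (hbE : b ∉ E) (hc : E ≤ Subgroup.centralizer {b}) :
    Nat.card ↥(E ⊔ zpowers b) = Nat.card E * q := by
  haveI : Fact q.Prime := ⟨hq⟩
  have hb1 : b ≠ 1 := by
    rintro rfl
    exact hbE (one_mem _)
  rw [card_sup_of_disjoint, Nat.card_zpowers, orderOf_eq_prime hb hb1]
  · rw [← cz_zpowers] at hc
    exact hc.trans (cz_le_nz _)
  · exact inf_zpowers_bot hq hb hbE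

theorem not_rank1_of_nc {q : ℕ} (hq : q.Prime) (hq2 : q ≠ 2) {B : Subgroup G} (hB : IsPGroup q B)
    (hnc : ¬ IsCyclic B) : ¬ RankLE 1 B := by
  obtain ⟨E, hE, hEe, hEc⟩ := exists_elab2 hq hq2 hB hnc
  intro h
  have h1 := rank_iff.1 (h q hq) E hE hEe
  rw [hEc, pow_one, pow_two] at h1
  have := hq.one_lt
  nlinarith

/-- `q` is good if all elementary abelian subgroups of order `q ^ 3` are in `𝓤` -/
def GoodPrime (G : Type*) [Group G] (q : ℕ) : Prop :=
  ∀ E : Subgroup G, IsElementaryAbelian q E → Nat.card E = q ^ 3 → InUniqueMaximal E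

/-- the subgroup `T` attached to `Q` -/
structure LT (p : ℕ) (Q T : Subgroup G) : Prop where
  le : T ≤ Q
  nz : 𝓝(Q) ≤ 𝓝(T)
  nc : ¬ IsCyclic T
  uniq : ∀ B ≤ T, ¬ IsCyclic B → InUniqueMaximal B
  fix : ∀ B ≤ 𝓝(Q), IsElementaryAbelian p B → ¬ IsCyclic B → Q ⊓ 𝓒(B) ≠ ⊥ →
    ∃ b ∈ B, b ≠ 1 ∧ ¬ IsCyclic ↥(T ⊓ Subgroup.centralizer {b})

section
variable (hG : IsMinSimpleOddOrder G)
include hG

theorem good_uniq {q : ℕ} (hq : q.Prime) (hgood : GoodPrime G q) {X : Subgroup G}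
    (hX : ¬ PRankLE q 2 X) (hXt : X ≠ ⊤) : InUniqueMaximal X := by
  obtain ⟨E, hE, hEe, hEc⟩ := (not_rank_iff hq).1 hX
  exact uniq_mono (hgood E hEe hEc) hE hXt

theorem exists_LT {p q : ℕ} (hp : p.Prime) (hq : q.Prime) (hpq : p ≠ q) {Q : Subgroup G}
    (hQ : IsPGroup q Q) (hQ3 : ¬ PRankLE q 2 Q) (hgood : GoodPrime G q) : ∃ T, LT p Q T := by
  haveI : Fact q.Prime := ⟨hq⟩
  have hQnc : ¬ IsCyclic Q := not_cyclic_of_rank hq (by norm_num) hQ3
  have hq2 : q ≠ 2 := by
    refine ms_p2' hG hq (X := Q) (pgroup_dvd_card hq hQ ?_)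
    rintro rfl
    exact hQnc inferInstance
  by_cases hE : ∀ E ≤ Q, IsElementaryAbelian q E → Nat.card E = q ^ 2 →
      ∃ E' ≤ Q, E ≤ E' ∧ IsElementaryAbelian q E' ∧ Nat.card E' = q ^ 3
  · refine ⟨Q, le_rfl, le_rfl, hQnc, ?_, ?_⟩
    · intro B hB hBnc
      obtain ⟨E, hEB, hEe, hEc⟩ := exists_elab2 hq hq2 (hQ.to_le hB) hBnc
      obtain ⟨E', hE'Q, hEE', hE'e, hE'c⟩ := hE E (hEB.trans hB) hEe hEc
      have h1 : InUniqueMaximal E :=
        bg9_2' hG hq (hgood E' hE'e hE'c) hEe hEc (hEE'.trans (comm_iff_le_cz.1 hE'e.1))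
      exact uniq_mono h1 hEB (ms_p_ne_top hG hq (hQ.to_le hB))
    · intro B hBQ hBe hBnc hne
      exact star hp hq hq2 hpq hQ hQnc hBQ hBe hBnc hne
  · push Not at hE
    obtain ⟨E, hEQ, hEe, hEc, hEmax⟩ := hE
    set W := oz2 hq hq2 Q with hW
    have hWQ : W ≤ Q := oz2_le hq hq2 Q
    have hQW : Q ≤ 𝓝(W) := le_normalizer.trans (nz_oz2 hq hq2 Q)
    set E' := E.subgroupOf Q with hE'
    have hE'e : IsElementaryAbelian q E' :=
      ⟨comm_subgroupOf hEe.1, fun a ha => Subtype.ext (hEe.2 a ha)⟩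
    have hE'c : Nat.card E' = q ^ 2 := by rw [hE', card_subgroupOf hEQ, hEc]
    have hmax : ∀ B : Subgroup Q, IsElementaryAbelian q B → E' ≤ B → B = E' := by
      intro B hB hEB
      by_contra hne
      obtain ⟨b, hb, hbE⟩ := SetLike.exists_of_lt (lt_of_le_of_ne hEB (Ne.symm hne))
      have hbQ : (b : G) ∈ Q := b.2
      have hbE' : (b : G) ∉ E := fun h => hbE h
      have hbq : (b : G) ^ q = 1 := congrArg Subtype.val (hB.2 b hb)
      have hbc : E ≤ Subgroup.centralizer {(b : G)} := by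
        intro e he
        rw [Subgroup.mem_centralizer_singleton_iff]
        have h1 : (⟨e, hEQ he⟩ : Q) ∈ B := hEB he
        have h2 := mem_cz.1 (comm_iff_le_cz.1 hB.1 h1) b hb
        exact (congrArg Subtype.val h2).symm
      have hEe3 : IsElementaryAbelian q (E ⊔ zpowers (b : G)) :=
        elab_sup_zpowers hEe hbq fun a ha =>
          (Subgroup.mem_centralizer_singleton_iff.1 (hbc ha))
      apply hEmax (E ⊔ zpowers (b : G)) (sup_le hEQ (by rwa [Subgroup.zpowers_le])) le_sup_left hEe3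
      rw [card_sup_zpowers hq hbq hbE' hbc, hEc]
      ring
    obtain ⟨hs1, hs2, ⟨hs3, hs4⟩, hs5, -, -⟩ := narrow_struct (R := Q) hq hq2 hQ hQ3 hE'e hE'c hmax
    have hWe : IsElementaryAbelian q W := elab_map hs3 _
    have hWc : Nat.card W = q ^ 2 := by rw [hW, oz2, card_map_subtype, hs4]
    have hWnc : ¬ IsCyclic W := not_cyclic_of_elab (k := 0) hq hWe hWc
    set T := Q ⊓ 𝓒(W) with hT
    have hTp : IsPGroup q T := hQ.to_le inf_le_left
    have hWT : W ≤ T := le_inf hWQ (comm_iff_le_cz.1 hWe.1)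
    have hTnc : ¬ IsCyclic T := not_cyclic_mono hWT hWnc
    have hQT : 𝓝(Q) ≤ 𝓝(T) := le_nz_inf le_rfl (le_nz_cz (nz_oz2 hq hq2 Q))
    have hTs : 𝓒(omZ2 hq hq2 Q) = T.subgroupOf Q := by
      ext x
      rw [Subgroup.mem_subgroupOf, mem_cz, Subgroup.mem_inf, mem_cz]
      constructor
      · intro h
        refine ⟨x.2, ?_⟩
        rintro _ ⟨w, hw, rfl⟩
        exact congrArg Subtype.val (h w hw)
      · rintro ⟨-, h⟩ w hw
        exact Subtype.ext (h w ⟨w, hw, rfl⟩)
    have hTi : T.relIndex Q = q := by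
      rw [Subgroup.relIndex, ← hTs, hs5]
    have hWU : InUniqueMaximal W := by
      obtain ⟨A', hWA', hA', hA'3⟩ := exists_scn3 hq hq2 hQ hQ3 hWQ hQW hWe hWc
      have h1 := good_uniq hG hq hgood hA'3 (ms_p_ne_top hG hq (hQ.to_le hA'.1))
      exact bg9_2' hG hq h1 hWe hWc (hWA'.trans (comm_iff_le_cz.1 (scn_comm hA')))
    refine ⟨T, inf_le_left, hQT, hTnc, ?_, ?_⟩
    · intro B hB hBnc
      exact bg9_2 hG hWU (hB.trans inf_le_right) (not_rank1_of_nc hq hq2 (hTp.to_le hB) hBnc)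
    · intro B hBQ hBe hBnc hne
      by_cases hTB : T ⊓ 𝓒(B) = ⊥
      · obtain ⟨v, hv⟩ := Subgroup.ne_bot_iff_exists_ne_one.1 hne
        have hv1 : (v : G) ≠ 1 := fun h => hv (Subtype.ext h)
        have hvQ : (v : G) ∈ Q := v.2.1
        have hvB : (v : G) ∈ 𝓒(B) := v.2.2
        have hvT : (v : G) ∉ T := by
          intro h
          have h1 : (v : G) ∈ T ⊓ 𝓒(B) := ⟨h, hvB⟩
          rw [hTB, Subgroup.mem_bot] at h1
          exact hv1 h1
        set Z := (omZ q Q).map Q.subtype with hZ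
        have hZc : Nat.card Z = q := by rw [hZ, card_map_subtype, hs2]
        have hZW : Z ≤ W := Subgroup.map_mono omZ_le_omZ2
        have hZ1 : Z ≠ ⊥ := by
          intro h
          rw [h, Subgroup.card_bot] at hZc
          exact hq.ne_one hZc.symm
        have hQZ : 𝓝(Q) ≤ 𝓝(Z) := by
          haveI := omZ_char (R := Q) (p := q)
          exact char_nz (omZ q Q)
        have hZp : IsPGroup q Z := hQ.to_le (hZW.trans hWQ)
        obtain ⟨b, hb, hb1, hbZ⟩ := exists_cent_ne_bot hG hBe.1 hBnc (hBQ.trans hQZ)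
          (pq_coprime hp hq hpq (elab_isPGroup hBe) hZp) hZ1
        have hbZ' : Z ≤ Subgroup.centralizer {b} := by
          rw [← inf_eq_left]
          refine eq_of_card_le inf_le_left ?_
          rw [hZc]
          exact Nat.le_of_dvd (card_pos' _) (pgroup_dvd_card hq (hZp.to_le inf_le_left) hbZ)
        have hWv : W ⊓ Subgroup.centralizer {(v : G)} = Z := by
          symm
          refine eq_of_card_le (le_inf hZW ?_) ?_
          · rintro _ ⟨z, hz, rfl⟩
            rw [Subgroup.mem_centralizer_singleton_iff]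
            exact (congrArg Subtype.val (Subgroup.mem_center_iff.1 (mem_omZ.1 hz).1 ⟨v, hvQ⟩)).symm
          · have hlt : W ⊓ Subgroup.centralizer {(v : G)} < W := by
              refine lt_of_le_of_ne inf_le_left fun h => hvT (Subgroup.mem_inf.2 ⟨hvQ, ?_⟩)
              rw [mem_cz]
              intro w hw
              rw [← h] at hw
              exact Subgroup.mem_centralizer_singleton_iff.1 hw.2
            have h1 := pgroup_mul_card_le hq (elab_isPGroup hWe) hlt
            rw [hWc, pow_two] at h1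
            rw [hZc]
            exact Nat.le_of_mul_le_mul_left h1 hq.pos
        have hbW : zpowers b ≤ 𝓒(W) := by
          have hbB : zpowers b ≤ B := by rwa [Subgroup.zpowers_le]
          have hbN : zpowers b ≤ 𝓝(W) := (hbB.trans hBQ).trans (nz_oz2 hq hq2 Q)
          refine cop_le_cz hbN ?_ (solvable_of_isPGroup hq (elab_isPGroup hWe)) ?_
          · exact pq_coprime hp hq hpq ((elab_isPGroup hBe).to_le hbB) (elab_isPGroup hWe)
          · have h1 : ⁅W, zpowers b⁆ ≤ Z := by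
              rw [Subgroup.commutator_le]
              intro w hw k hk
              have hkv : (v : G) * k = k * v := (mem_cz.1 hvB k (hbB hk)).symm
              have hkz : ∀ z ∈ Z, z * k = k * z := by
                intro z hz
                have h2 : zpowers b ≤ Subgroup.centralizer {z} := by
                  rw [Subgroup.zpowers_le, Subgroup.mem_centralizer_singleton_iff]
                  exact (Subgroup.mem_centralizer_singleton_iff.1 (hbZ' hz)).symm
                exact (Subgroup.mem_centralizer_singleton_iff.1 (h2 hk)).symm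
              have hw' : k * w * k⁻¹ ∈ W := le_nz.1 hbN k hk w hw
              have hz : w * v * w⁻¹ * (v : G)⁻¹ ∈ Z := by
                obtain ⟨w₀, hw₀, rfl⟩ := hw
                exact ⟨_, omZ2_comm hw₀ ⟨v, hvQ⟩, rfl⟩
              have h3 := hkz _ hz
              have h5 : k * w * k⁻¹ * v * (k * w * k⁻¹)⁻¹ = w * v * w⁻¹ := by
                have e1 : k * w * k⁻¹ * v * (k * w * k⁻¹)⁻¹ = k * w * k⁻¹ * (v * k) * w⁻¹ * k⁻¹ := by
                  group
                have e2 : k * w * k⁻¹ * (k * v) * w⁻¹ * k⁻¹ = k * (w * v * w⁻¹ * (v : G)⁻¹) * (v * k⁻¹) := by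
                  group
                have e3 : (v : G) * k⁻¹ = k⁻¹ * v := by
                  rw [eq_inv_mul_iff_mul_eq, ← mul_assoc, ← hkv]; group
                rw [e1, hkv, e2, ← h3, e3]; group
              have h4 : (k * w * k⁻¹)⁻¹ * w ∈ W ⊓ Subgroup.centralizer {(v : G)} := by
                refine Subgroup.mem_inf.2 ⟨mul_mem (inv_mem hw') hw, ?_⟩
                rw [Subgroup.mem_centralizer_singleton_iff]
                calc (k * w * k⁻¹)⁻¹ * w * v = (k * w * k⁻¹)⁻¹ * (w * v * w⁻¹) * w := by group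
                  _ = (k * w * k⁻¹)⁻¹ * (k * w * k⁻¹ * v * (k * w * k⁻¹)⁻¹) * w := by rw [h5]
                  _ = v * ((k * w * k⁻¹)⁻¹ * w) := by group
              rw [hWv] at h4
              have h6 : ⁅w, k⁆ = (k * w * k⁻¹)⁻¹ * w := by
                rw [← mem_cz.1 (comm_iff_le_cz.1 hWe.1 (inv_mem hw')) w hw, commutatorElement_def]
                group
              rw [h6]
              exact h4
            rw [le_cz_comm]
            refine h1.trans ?_
            rw [cz_zpowers]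
            exact hbZ'
        refine ⟨b, hb, hb1, not_cyclic_mono (le_inf hWT ?_) hWnc⟩
        rw [← cz_zpowers]
        exact le_cz_comm.1 hbW
      · exact star hp hq hq2 hpq hTp hTnc (hBQ.trans hQT) hBe hBnc hTB

end

end CfsgLib.BGPi
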