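import Cfsg.Agent.EqBase
import Cfsg.Agent.LibBG9b
import Cfsg.Agent.LibTransFus

/-! B & G section 9: the uniqueness theorem. -/

open Subgroup
open scoped Pointwise commutatorElement

namespace CfsgLib.BGPi

open Cfsg

universe u
variable {G : Type u} [Group G] [Finite G]

theorem hyper {p : ℕ} (hp : p.Prime) {A₁ Y X : Subgroup G} (he : IsElementaryAbelian p A₁)
    (hc : Nat.card A₁ = p ^ 3) (hn : A₁ ≤ 𝓝(Y)) (hcop : (Nat.card A₁).Coprime (Nat.card Y))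
    (hX : ¬ Y ≤ X) : ∃ B ≤ A₁, p ^ 2 ≤ Nat.card B ∧ ¬ Y ⊓ 𝓒(B) ≤ X := by
  haveI := he.1
  by_contra hcon
  push Not at hcon
  apply hX
  rw [← CfsgLib.Coprime2.generation_cyclic_quotient hn hcop]
  refine iSup₂_le ?_
  rintro B ⟨hB, a, ha, hle⟩
  refine hcon B hB ?_
  have h2 := card_sup_mul_card_inf (H := Subgroup.zpowers a) (K := B)
    (le_nz_of_le_cz ((Subgroup.zpowers_le.2 ha).trans
      ((comm_iff_le_cz.1 he.1).trans (cz_anti hB))))
  have h3 : Nat.card ↥(Subgroup.zpowers a) ≤ p := by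
    rw [Nat.card_zpowers]
    exact Nat.le_of_dvd hp.pos (orderOf_dvd_of_pow_eq_one (he.2 a ha))
  have h4 : Nat.card A₁ ≤ Nat.card ↥(Subgroup.zpowers a ⊔ B) := by
    rw [sup_comm]
    exact Nat.le_of_dvd (card_pos' _) (Subgroup.card_dvd_of_le hle)
  have h5 := card_pos' (Subgroup.zpowers a ⊓ B)
  have h1 : Nat.card A₁ ≤ Nat.card B * p := by
    calc Nat.card A₁ ≤ Nat.card ↥(Subgroup.zpowers a ⊔ B) := h4
      _ ≤ Nat.card ↥(Subgroup.zpowers a ⊔ B) * Nat.card ↥(Subgroup.zpowers a ⊓ B) :=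
        Nat.le_mul_of_pos_right _ h5
      _ = Nat.card ↥(Subgroup.zpowers a) * Nat.card B := h2
      _ ≤ p * Nat.card B := Nat.mul_le_mul_right _ h3
      _ = _ := mul_comm _ _
  rw [hc, pow_succ] at h1
  exact Nat.le_of_mul_le_mul_right h1 hp.pos

theorem nc_of_card {p : ℕ} (hp : p.Prime) {B : Subgroup G} (he : IsElementaryAbelian p B)
    (hc : p ^ 2 ≤ Nat.card B) : ¬ IsCyclic B := by
  obtain ⟨n, hn⟩ := elab_card hp he
  rw [hn] at hc
  have h2 : 2 ≤ n := (Nat.pow_le_pow_iff_right hp.one_lt).1 hc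
  obtain ⟨m, rfl⟩ : ∃ m, n = m + 2 := ⟨n - 2, by omega⟩
  exact not_cyclic_of_elab hp he hn

theorem inter_ne {p : ℕ} (hp : p.Prime) {A₁ B B' : Subgroup G} (he : IsElementaryAbelian p A₁)
    (hc : Nat.card A₁ = p ^ 3) (hB : B ≤ A₁) (hB' : B' ≤ A₁) (h : p ^ 2 ≤ Nat.card B)
    (h' : p ^ 2 ≤ Nat.card B') : ∃ b ∈ B ⊓ B', b ≠ 1 := by
  have h1 := card_sup_mul_card_inf (H := B) (K := B')
    (le_nz_of_le_cz (hB.trans ((comm_iff_le_cz.1 he.1).trans (cz_anti hB'))))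
  have h2 : Nat.card ↥(B ⊔ B') ≤ p ^ 3 := by
    rw [← hc]
    exact Nat.le_of_dvd (card_pos' _) (Subgroup.card_dvd_of_le (sup_le hB hB'))
  have h3 : B ⊓ B' ≠ ⊥ := by
    intro h0
    rw [h0, Subgroup.card_bot, mul_one] at h1
    have h4 : p ^ 2 * p ^ 2 ≤ p ^ 3 := (Nat.mul_le_mul h h').trans (h1 ▸ h2)
    rw [← pow_add] at h4
    have := (Nat.pow_le_pow_iff_right hp.one_lt).1 h4
    omega
  obtain ⟨b, hb⟩ := Subgroup.ne_bot_iff_exists_ne_one.1 h3
  exact ⟨b, b.2, fun h => hb (Subtype.ext h)⟩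

/-- the basic configuration -/
structure UCfg (p : ℕ) (P A A₁ : Subgroup G) : Prop where
  hp : p.Prime
  hP : IsPiHallOf {p} P ⊤
  hA : IsSCN P A
  hA3 : ¬ PRankLE p 2 A
  le : A₁ ≤ A
  el : IsElementaryAbelian p A₁
  cd : Nat.card A₁ = p ^ 3

/-- `Q` of rank at least three, in the maximal subgroup `M` -/
structure LD (p q : ℕ) (P Q M : Subgroup G) : Prop where
  hq : q.Prime
  ne : q ≠ p
  good : GoodPrime G q
  mx : Q ∈ maxInvSubgroups ⊤ P {q}
  rk : ¬ PRankLE q 2 Q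
  co : IsCoatom M
  le : Q ≤ M

section
variable {p : ℕ} {P A A₁ : Subgroup G} (c : UCfg p P A A₁)

include c

theorem UCfg.Pp : IsPGroup p P := (hall_isPi c.hP).isPGroup c.hp

theorem UCfg.Ap : IsPGroup p A := c.Pp.to_le c.hA.1

theorem UCfg.dvd {r : ℕ} (hr : r.Prime) (h : r ≠ p) : ¬ r ∣ Nat.card A := by
  intro hd
  have := isPi_of_isPGroup c.hp c.Ap r hr hd
  exact h this

theorem UCfg.cop {r : ℕ} (hr : r.Prime) (h : r ≠ p) {Y : Subgroup G} (hY : IsPi {r} Y) :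
    (Nat.card A).Coprime (Nat.card Y) := pq_coprime c.hp hr h.symm c.Ap (hY.isPGroup hr)

theorem UCfg.cz : A ≤ 𝓒(A) := comm_iff_le_cz.1 (scn_comm c.hA)

/-- `p'`-groups are `primesNotDvd |A|`-groups -/
theorem UCfg.pi {Y : Subgroup G} (hY : (Nat.card Y).Coprime p) :
    IsPi (primesNotDvd (Nat.card A)) Y := by
  rw [isPi_primesNotDvd]
  exact (coprime_card_of_pgroup c.hp c.Ap hY)

theorem UCfg.pi' {Y : Subgroup G} (hY : IsPi (primesNotDvd (Nat.card A)) Y) :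
    (Nat.card Y).Coprime p := by
  rw [isPi_primesNotDvd] at hY
  refine hY.coprime_dvd_right ?_
  refine (dvd_pow_self p (show 3 ≠ 0 by norm_num)).trans ?_
  rw [← c.cd]
  exact Subgroup.card_dvd_of_le c.le

variable (hG : IsMinSimpleOddOrder G)
include hG

theorem UCfg.th : TransitivityHypothesis A :=
  th_of_scn hG c.hp c.hP c.hA (fun h => c.hA3 (rank_le c.hp (by norm_num) h))

theorem UCfg.conj {q : ℕ} (hq : q.Prime) (hqp : q ≠ p) :
    ∀ Q₁ ∈ maxInvSubgroups ⊤ A {q}, ∀ Q₂ ∈ maxInvSubgroups ⊤ A {q},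
      ∃ k ∈ piCoreOf (primesNotDvd (Nat.card A)) 𝓒(A), Q₂ = Q₁ ^ᵍ k := by
  refine th_rank3 hG (c.th hG) ?_ hq (c.dvd hq hqp)
  intro h
  rw [inf_eq_left.2 c.cz] at h
  exact c.hA3 (h p c.hp)

theorem UCfg.pass {q : ℕ} (hq : q.Prime) (hqp : q ≠ p) :
    piCoreOf (primesNotDvd (Nat.card A)) 𝓒(A) ⊓ 𝓒(P) = piCoreOf (primesNotDvd (Nat.card A)) 𝓒(P) ∧
    (∀ Q₁ ∈ maxInvSubgroups ⊤ P {q}, ∀ Q₂ ∈ maxInvSubgroups ⊤ P {q},
      ∃ k ∈ piCoreOf (primesNotDvd (Nat.card A)) 𝓒(P), Q₂ = Q₁ ^ᵍ k) ∧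
    maxInvSubgroups ⊤ P {q} ⊆ maxInvSubgroups ⊤ A {q} ∧
    ∀ Q ∈ maxInvSubgroups ⊤ P {q}, P ⊓ ⁅𝓝(P), 𝓝(P)⁆ ≤ ⁅𝓝(Q), 𝓝(Q)⁆ ∧
      𝓝(P) = piCoreOf (primesNotDvd (Nat.card A)) 𝓒(P) ⊔ (𝓝(P) ⊓ 𝓝(Q)) :=
  th_pass hG (c.th hG) hq (c.dvd hq hqp) (P := P) (ms_p_ne_top hG c.hp c.Pp)
    (fun r hr hd => by
      have h1 : r = p := isPi_of_isPGroup c.hp c.Pp r hr hd
      rw [h1]
      refine (dvd_pow_self p (show 3 ≠ 0 by norm_num)).trans ?_
      rw [← c.cd]
      exact Subgroup.card_dvd_of_le c.le)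
    c.hA.1 (subnormal_of_nilpotent (nilpotent_of_isPi c.hp (hall_isPi c.hP))) (c.conj hG hq hqp)

/-- every `A`-invariant `q`-subgroup is in a `K`-conjugate of `Q ∈ И*(P;q)` -/
theorem UCfg.inv_le {q : ℕ} (hq : q.Prime) (hqp : q ≠ p) {Q Y : Subgroup G}
    (hQ : Q ∈ maxInvSubgroups ⊤ P {q}) (hY : IsPi {q} Y) (hAY : A ≤ 𝓝(Y)) :
    ∃ k ∈ piCoreOf (primesNotDvd (Nat.card A)) 𝓒(A), Y ≤ Q ^ᵍ k := by
  obtain ⟨R, hR, hYR⟩ := exists_maxInv (H := ⊤) (A := A) (π := {q}) (R := Y)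
    (mem_inv_top.2 ⟨hY, hAY⟩)
  obtain ⟨k, hk, e⟩ := c.conj hG hq hqp Q ((c.pass hG hq hqp).2.2.1 hQ) R hR
  exact ⟨k, hk, e ▸ hYR⟩

end

section
variable {p : ℕ} {P A A₁ : Subgroup G} (c : UCfg p P A A₁) (hG : IsMinSimpleOddOrder G)
variable {q : ℕ} {Q M : Subgroup G} (l : LD p q P Q M)
include l

theorem LD.qp : IsPGroup q Q := (mem_inv_top.1 l.mx.1).1.isPGroup l.hq

include hG

theorem LD.uq : InUniqueMaximal Q := good_uniq hG l.hq l.good l.rk (ms_p_ne_top hG l.hq l.qp)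

theorem LD.nz : 𝓝(Q) ≤ M := by
  refine uniq_le (l.uq hG) l.co l.le le_normalizer (ms_nz_ne_top hG ?_ (ms_p_ne_top hG l.hq l.qp))
  rintro rfl
  exact uniq_ne_bot hG (l.uq hG) rfl

theorem LD.hPM : P ≤ M := (mem_inv_top.1 l.mx.1).2.trans (l.nz hG)

theorem LD.cz_le {T : Subgroup G} (t : LT p Q T) {b : G} (hb1 : b ≠ 1)
    (h : ¬ IsCyclic ↥(T ⊓ Subgroup.centralizer {b})) : Subgroup.centralizer {b} ≤ M :=
  uniq_le (t.uniq _ inf_le_left h) l.co (inf_le_left.trans (t.le.trans l.le)) inf_le_right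
    (ms_cz1_ne_top hG hb1)

theorem LD.fix {T : Subgroup G} (t : LT p Q T) {B : Subgroup G} (hB : B ≤ 𝓝(Q))
    (hBe : IsElementaryAbelian p B) (hBnc : ¬ IsCyclic B) (h : Q ⊓ 𝓒(B) ≠ ⊥) :
    ∃ b ∈ B, b ≠ 1 ∧ Subgroup.centralizer {b} ≤ M := by
  obtain ⟨b, hb, hb1, hbT⟩ := t.fix B hB hBe hBnc h
  exact ⟨b, hb, hb1, l.cz_le hG t hb1 hbT⟩

include c

theorem LD.A1Q : A₁ ≤ 𝓝(Q) := (c.le.trans c.hA.1).trans (mem_inv_top.1 l.mx.1).2

theorem LD.K_le {T : Subgroup G} (t : LT p Q T) :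
    piCoreOf (primesNotDvd (Nat.card A)) 𝓒(A) ≤ M := by
  have h1 : ¬ Q ≤ ⊥ := by
    rw [le_bot_iff]
    exact uniq_ne_bot hG (l.uq hG)
  obtain ⟨B, hB, hBc, hBQ⟩ := hyper c.hp c.el c.cd (l.A1Q c hG)
    (pq_coprime c.hp l.hq l.ne.symm (elab_isPGroup c.el) l.qp) h1
  rw [le_bot_iff] at hBQ
  have hBe := elab_mono hB c.el
  obtain ⟨b, hb, hb1, hbM⟩ := l.fix hG t (hB.trans (l.A1Q c hG)) hBe (nc_of_card c.hp hBe hBc) hBQ
  refine (piCoreOf_le _ _).trans (le_trans ?_ hbM)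
  refine Subgroup.centralizer_le ?_
  exact Set.singleton_subset_iff.2 (c.le (hB hb))

theorem LD.inv_le {T : Subgroup G} (t : LT p Q T) {Y : Subgroup G} (hY : IsPi {q} Y)
    (hAY : A ≤ 𝓝(Y)) : Y ≤ M := by
  obtain ⟨k, hk, h⟩ := c.inv_le hG l.hq l.ne l.mx hY hAY
  refine h.trans ?_
  rw [← cj_eq_of_mem (l.K_le c hG t hk)]
  exact cj_mono l.le k


theorem LD.core {T : Subgroup G} (t : LT p Q T) {b : G} (hb : b ∈ A₁) (hb1 : b ≠ 1)
    (hbM : ¬ Subgroup.centralizer {b} ≤ M) (hTb : T ⊓ Subgroup.centralizer {b} ≠ ⊥)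
    (hQA : Q ⊓ 𝓒(A₁) = ⊥) {r : ℕ} (hr : r.Prime) (hrp : r ≠ p)
    (hrk : ∀ Y : Subgroup G, IsPi {r} Y → A ≤ 𝓝(Y) → Y ≤ Subgroup.centralizer {b} → PRankLE r 2 Y)
    {R : Subgroup G} (hR : IsPi {r} R) (hAR : A ≤ 𝓝(R)) (hRb : R ≤ Subgroup.centralizer {b}) :
    R ≤ M := by
  by_cases hrq : r = q
  · subst hrq
    exact l.inv_le c hG t hR hAR
  have hKM := l.K_le c hG t
  haveI : Fact q.Prime := ⟨l.hq⟩
  set C := Subgroup.centralizer {b} with hC
  have hCt : C ≠ ⊤ := ms_cz1_ne_top hG hb1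
  have hAC : A ≤ C := by
    intro a ha
    rw [hC, Subgroup.mem_centralizer_singleton_iff]
    exact (mem_cz.1 (c.cz ha) b (c.le hb)).symm
  set D := piCoreOf {p}ᶜ C with hD
  have hDC : D ≤ C := piCoreOf_le _ _
  have hDcop : (Nat.card D).Coprime p := (isPi_compl_singleton' c.hp).1 (isPi_piCoreOf _ _)
  have hcop : (Nat.card A).Coprime (Nat.card D) :=
    (coprime_card_of_pgroup c.hp c.Ap hDcop).symm
  have hAD : A ≤ 𝓝(D) := hAC.trans (le_nz_piCoreOf _ _)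
  have hCs : Group.IsSolvable C := ms_sol hG hCt
  have hDs : Group.IsSolvable D := solvable_sub hDC hCs
  have hAs : Group.IsSolvable A := solvable_of_isPGroup c.hp c.Ap
  have hle : ∀ Y : Subgroup G, ∀ s : ℕ, s.Prime → s ≠ p → IsPi {s} Y → Y ≤ C → A ≤ 𝓝(Y) → Y ≤ D := by
    intro Y s hs hsp hY hYC hAY
    refine scn2_inv_le hG c.hp c.hP c.hA (fun h => c.hA3 (rank_le c.hp (by norm_num) h)) hCt hAC hYC
      ?_ hAY
    exact (isPi_compl_singleton' c.hp).1 (hY.mono (by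
      intro x hx
      rw [Set.mem_singleton_iff] at hx
      subst hx
      exact hsp))
  have hRD : R ≤ D := hle R r hr hrp hR hRb hAR
  have hAT : A ≤ 𝓝(T) := (c.hA.1.trans (mem_inv_top.1 l.mx.1).2).trans t.nz
  have hTq : IsPi {q} T := (isPi_of_isPGroup l.hq l.qp).le t.le
  have hATC : A ≤ 𝓝(T ⊓ C) := le_nz_inf hAT (hAC.trans le_normalizer)
  have hTD : T ⊓ C ≤ D := hle _ q l.hq l.ne (hTq.le inf_le_left) inf_le_right hATC
  -- Hall subgroups
  obtain ⟨X, hX, hAX, hRX⟩ := cop_hall_ge hAD hcop hDs hAs (π := {q, r})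
    (hR.mono (by intro x hx; rw [Set.mem_singleton_iff] at hx; subst hx; exact Or.inr rfl)) hRD hAR
  have hXC : X ≤ C := hX.1.trans hDC
  have hXs : Group.IsSolvable X := solvable_sub hXC hCs
  have hcopX := cop_le hcop le_rfl hX.1
  obtain ⟨Xr, hXr, hAXr, hRXr⟩ := cop_hall_ge hAX hcopX hXs hAs hR hRX hAR
  obtain ⟨Xq, hXq, hAXq⟩ := cop_hall_exists hAX hcopX hXs {q}
  have hXqD : IsPiHallOf {q} Xq D := hall_trans hXq hX (by
    intro x hx; rw [Set.mem_singleton_iff] at hx; subst hx; exact Or.inl rfl)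
  obtain ⟨S, hS, hAS, hTS⟩ := cop_hall_ge hAD hcop hDs hAs (hTq.le inf_le_left) hTD hATC
  obtain ⟨d, hd, hdS⟩ := cop_hall_conj hAD hcop hDs hS hAS hXqD hAXq
  have hdM : d ∈ M := hKM (th_le_K (c.th hG) hG (c.pi (Nat.Coprime.coprime_dvd_left
    (Subgroup.card_dvd_of_le inf_le_left) hDcop)) inf_le_right hd)
  -- the element `v`
  obtain ⟨v, hv⟩ := exists_prime_orderOf_dvd_card' q
    (pgroup_dvd_card l.hq ((hTq.le inf_le_left : IsPi {q} (T ⊓ C)).isPGroup l.hq) hTb)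
  rw [← Subgroup.orderOf_coe] at hv
  have hv1 : (v : G) ≠ 1 := by
    intro h
    rw [h, orderOf_one] at hv
    exact l.hq.ne_one hv.symm
  have hvq : (v : G) ^ q = 1 := by rw [← hv]; exact pow_orderOf_eq_one _
  have hvM : Subgroup.centralizer {(v : G)} ≤ M :=
    l.cz_le hG t hv1 (cz1_nc l.hq (hTq.isPGroup l.hq) t.nc v.2.1 hv1 hvq)
  have hv' : d * v * d⁻¹ ∈ Xq := by
    rw [← hdS]
    exact conj_mem_cj (hTS v.2)
  have hv'M : Subgroup.centralizer {d * v * d⁻¹} ≤ M := by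
    have h1 : Subgroup.centralizer {d * v * d⁻¹} = (Subgroup.centralizer {(v : G)}) ^ᵍ d := by
      rw [← cz_zpowers, ← cz_zpowers, ← cz_cj]
      congr 2
      rw [MonoidHom.map_zpowers]
      rfl
    rw [h1, ← cj_eq_of_mem hdM]
    exact cj_mono hvM d
  -- `C_{X_q}(A) = 1`
  have hXqp := hall_isPi hXq
  have hXqA : Xq ⊓ 𝓒(A) = ⊥ := by
    obtain ⟨k, hk, hle⟩ := c.inv_le hG l.hq l.ne l.mx hXqp hAXq
    have hkA : k ∈ 𝓝(𝓒(A)) := le_normalizer (piCoreOf_le _ _ hk)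
    rw [← le_bot_iff]
    calc Xq ⊓ 𝓒(A) ≤ Q ^ᵍ k ⊓ (𝓒(A)) ^ᵍ k := inf_le_inf hle (mem_nz.1 hkA).symm.le
      _ = (Q ⊓ 𝓒(A)) ^ᵍ k := (cj_inf _ _ _).symm
      _ ≤ (⊥ : Subgroup G) ^ᵍ k := cj_mono (by rw [← hQA]; exact inf_le_inf_left _ (cz_anti c.le)) k
      _ = ⊥ := cj_bot k
  have hXqc : ⁅Xq, A⁆ = Xq := by
    have h1 := cop_comm_sup hAXq (cop_le hcopX le_rfl hXq.1)
      (solvable_of_isPGroup l.hq (hXqp.isPGroup l.hq))
    rwa [hXqA, sup_bot_eq] at h1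
  -- the nilpotent group `L`
  set H := X ⊔ A with hH
  set L := X ⊓ ⁅H, H⁆ with hL
  have hHL : H ≤ 𝓝(L) := le_nz_inf (sup_le le_normalizer hAX) (left_le_nz_comm H H)
  have hLX : L ≤ X := inf_le_left
  have hAL : A ≤ 𝓝(L) := le_sup_right.trans hHL
  have hLnil : Group.IsNilpotent L := by
    refine nilp_of_le_der (H := H) (solvable_sub hLX hXs) (ms_odd hG H) inf_le_right hHL ?_
    intro s hs
    have hY1 : IsPi {s} (piCoreOf {s} L) := isPi_piCoreOf _ _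
    have hY2 : A ≤ 𝓝(piCoreOf {s} L) := hAL.trans (nz_le_nz_piCoreOf _ _)
    have hY3 : piCoreOf {s} L ≤ C := ((piCoreOf_le _ _).trans hLX).trans hXC
    by_cases hsr : s = r
    · subst hsr
      exact hrk _ hY1 hY2 hY3
    by_cases hsq : s = q
    · subst hsq
      by_contra hrank
      apply hbM
      have h1 := good_uniq hG hs l.good hrank (ms_pi_ne_top hG hs hY1)
      exact uniq_le h1 l.co (l.inv_le c hG t hY1 hY2) hY3 hCt
    · have h1 : piCoreOf {s} L = ⊥ := by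
        refine eq_bot_of_isPi hY1 ?_
        refine ((hall_isPi hX).le ((piCoreOf_le _ _).trans hLX)).mono ?_
        rintro x hx hxs
        rw [Set.mem_singleton_iff] at hxs
        subst hxs
        rcases hx with hx | hx
        · exact hsq hx
        · exact hsr hx
      rw [h1, rank_iff]
      intro B hB _
      rw [le_bot_iff.1 hB, Subgroup.card_bot]
      exact Nat.one_le_pow _ _ hs.pos
  have hXqL : Xq ≤ L := by
    refine le_inf hXq.1 ?_
    rw [← hXqc]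
    exact Subgroup.commutator_mono (hXq.1.trans le_sup_left) le_sup_right
  have hXrL : ⁅Xr, A⁆ ≤ L := by
    refine le_inf ((comm_le_left hAXr).trans hXr.1) ?_
    exact Subgroup.commutator_mono (hXr.1.trans le_sup_left) le_sup_right
  have hXrM : ⁅Xr, A⁆ ≤ M := by
    have h1 : ⁅Xr, A⁆ ≤ 𝓒(Xq) := by
      refine nilpotent_commute hLnil (π := {r}) hXrL hXqL ((hall_isPi hXr).le (comm_le_left hAXr)) ?_
      refine hXqp.mono ?_
      rintro x hx hxr
      rw [Set.mem_singleton_iff] at hx hxr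
      exact hrq (hxr ▸ hx)
    refine (h1.trans (Subgroup.centralizer_le ?_)).trans hv'M
    exact Set.singleton_subset_iff.2 hv'
  have hXrM' : Xr ⊓ 𝓒(A) ≤ M := by
    refine le_trans ?_ hKM
    refine th_le_K (c.th hG) hG (c.pi ?_) inf_le_right
    exact Nat.Coprime.coprime_dvd_left (Subgroup.card_dvd_of_le (inf_le_left.trans
      (hXr.1.trans hX.1))) hDcop
  refine hRXr.trans ?_
  rw [← cop_comm_sup hAXr (cop_le hcopX le_rfl hXr.1)
      (solvable_of_isPGroup hr ((hall_isPi hXr).isPGroup hr))]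
  exact sup_le hXrM hXrM'


theorem LD.toT : ∃ T, LT p Q T := exists_LT hG c.hp l.hq l.ne.symm l.qp l.rk l.good

theorem LD.fixA {T : Subgroup G} (t : LT p Q T) {B X : Subgroup G} (hB : B ≤ A₁)
    (hBc : p ^ 2 ≤ Nat.card B) (hX : X ≤ 𝓒(B)) (hXM : ¬ X ≤ M) : Q ⊓ 𝓒(A₁) = ⊥ := by
  by_contra h
  have h1 : Q ⊓ 𝓒(B) ≠ ⊥ := fun h2 => h (le_bot_iff.1 ((inf_le_inf_left _ (cz_anti hB)).trans h2.le))
  have hBe := elab_mono hB c.el
  obtain ⟨b, hb, -, hbM⟩ := l.fix hG t (hB.trans (l.A1Q c hG)) hBe (nc_of_card c.hp hBe hBc) h1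
  exact hXM ((hX.trans (Subgroup.centralizer_le (Set.singleton_subset_iff.2 hb))).trans hbM)

theorem LD.pair {r : ℕ} {R M' : Subgroup G} (l' : LD p r P R M') : M = M' := by
  obtain ⟨T, t⟩ := l.toT c hG
  have hAP := c.hA.1
  by_cases hqr : r = q
  · subst hqr
    have h1 : R ≤ M := l.inv_le c hG t (mem_inv_top.1 l'.mx.1).1
      (hAP.trans (mem_inv_top.1 l'.mx.1).2)
    exact uniq_eq (l'.uq hG) l'.co l'.le l.co h1
  by_contra hne
  obtain ⟨T', t'⟩ := l'.toT c hG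
  have hT'U := t'.uniq T' le_rfl t'.nc
  have hTU := t.uniq T le_rfl t.nc
  have h1 : ¬ T' ≤ M := fun h => hne (uniq_eq hT'U l'.co (t'.le.trans l'.le) l.co h)
  have h2 : ¬ T ≤ M' := fun h => hne (uniq_eq hTU l'.co h l.co (t.le.trans l.le))
  have hA1T : A₁ ≤ 𝓝(T) := (l.A1Q c hG).trans t.nz
  have hA1T' : A₁ ≤ 𝓝(T') := (l'.A1Q c hG).trans t'.nz
  obtain ⟨B, hB, hBc, hBT⟩ := hyper c.hp c.el c.cd hA1T'
    (pq_coprime c.hp l'.hq l'.ne.symm (elab_isPGroup c.el) (l'.qp.to_le t'.le)) h1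
  obtain ⟨B', hB', hB'c, hB'T⟩ := hyper c.hp c.el c.cd hA1T
    (pq_coprime c.hp l.hq l.ne.symm (elab_isPGroup c.el) (l.qp.to_le t.le)) h2
  obtain ⟨b, hb, hb1⟩ := inter_ne c.hp c.el c.cd hB hB' hBc hB'c
  have hcz : 𝓒(B) ≤ Subgroup.centralizer {b} :=
    Subgroup.centralizer_le (Set.singleton_subset_iff.2 hb.1)
  have hcz' : 𝓒(B') ≤ Subgroup.centralizer {b} :=
    Subgroup.centralizer_le (Set.singleton_subset_iff.2 hb.2)
  have hbM : ¬ Subgroup.centralizer {b} ≤ M := fun h =>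
    hBT ((inf_le_right.trans hcz).trans h)
  have hbM' : ¬ Subgroup.centralizer {b} ≤ M' := fun h =>
    hB'T ((inf_le_right.trans hcz').trans h)
  have hTb : T ⊓ Subgroup.centralizer {b} ≠ ⊥ := fun h =>
    hB'T (((inf_le_inf_left _ hcz').trans h.le).trans bot_le)
  have hQA := l.fixA c hG t hB hBc inf_le_right hBT
  have hAT' : A ≤ 𝓝(T') := (hAP.trans (mem_inv_top.1 l'.mx.1).2).trans t'.nz
  have hAb : A ≤ Subgroup.centralizer {b} :=
    c.cz.trans (Subgroup.centralizer_le (Set.singleton_subset_iff.2 (c.le (hB hb.1))))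
  have hfin : T' ⊓ Subgroup.centralizer {b} ≤ M := by
    refine l.core c hG t (hB hb.1) hb1 hbM hTb hQA l'.hq l'.ne ?_ ?_ ?_ inf_le_right
    · intro Y hY hAY hYb
      by_contra hrank
      apply hbM'
      exact uniq_le (good_uniq hG l'.hq l'.good hrank (ms_pi_ne_top hG l'.hq hY)) l'.co
        (l'.inv_le c hG t' hY hAY) hYb (ms_cz1_ne_top hG hb1)
    · exact ((isPi_of_isPGroup l'.hq l'.qp).le t'.le).le inf_le_left
    · exact le_nz_inf hAT' (hAb.trans le_normalizer)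
  exact hBT ((inf_le_inf_left _ hcz).trans hfin)

theorem LD.good_le {r : ℕ} (hr : r.Prime) (hrp : r ≠ p) (hgood : GoodPrime G r) {Y : Subgroup G}
    (hY : IsPi {r} Y) (hAY : A ≤ 𝓝(Y)) : Y ≤ M := by
  obtain ⟨T, t⟩ := l.toT c hG
  have hAP := c.hA.1
  by_contra hYM
  have hA1T : A₁ ≤ 𝓝(T) := (l.A1Q c hG).trans t.nz
  have hTU := t.uniq T le_rfl t.nc
  have h2 : ¬ T ≤ ⊥ := fun h => uniq_ne_bot hG hTU (le_bot_iff.1 h)
  obtain ⟨B, hB, hBc, hBT⟩ := hyper c.hp c.el c.cd (c.le.trans hAY)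
    (pq_coprime c.hp hr hrp.symm (elab_isPGroup c.el) (hY.isPGroup hr)) hYM
  obtain ⟨B', hB', hB'c, hB'T⟩ := hyper c.hp c.el c.cd hA1T
    (pq_coprime c.hp l.hq l.ne.symm (elab_isPGroup c.el) (l.qp.to_le t.le)) h2
  obtain ⟨b, hb, hb1⟩ := inter_ne c.hp c.el c.cd hB hB' hBc hB'c
  have hcz : 𝓒(B) ≤ Subgroup.centralizer {b} :=
    Subgroup.centralizer_le (Set.singleton_subset_iff.2 hb.1)
  have hcz' : 𝓒(B') ≤ Subgroup.centralizer {b} :=
    Subgroup.centralizer_le (Set.singleton_subset_iff.2 hb.2)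
  have hbM : ¬ Subgroup.centralizer {b} ≤ M := fun h =>
    hBT ((inf_le_right.trans hcz).trans h)
  have hTb : T ⊓ Subgroup.centralizer {b} ≠ ⊥ := fun h =>
    hB'T (((inf_le_inf_left _ hcz').trans h.le).trans bot_le)
  have hQA := l.fixA c hG t hB hBc inf_le_right hBT
  have hAb : A ≤ Subgroup.centralizer {b} :=
    c.cz.trans (Subgroup.centralizer_le (Set.singleton_subset_iff.2 (c.le (hB hb.1))))
  have hfin : Y ⊓ Subgroup.centralizer {b} ≤ M := by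
    refine l.core c hG t (hB hb.1) hb1 hbM hTb hQA hr hrp ?_ (hY.le inf_le_left)
      (le_nz_inf hAY (hAb.trans le_normalizer)) inf_le_right
    intro Y' hY' hAY' hY'b
    by_contra hrank
    obtain ⟨R, hR, -⟩ := exists_maxInv (H := ⊤) (A := P) (π := {r}) (R := ⊥)
      (mem_inv_top.2 ⟨IsPi.bot _, by rw [Subgroup.normalizer_eq_top]; exact le_top⟩)
    obtain ⟨k, hk, hkR⟩ := c.inv_le hG hr hrp hR hY' hAY'
    have hRrk : ¬ PRankLE r 2 R := by
      intro h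
      rw [← rank_cj (g := k)] at h
      exact hrank (rank_mono hkR h)
    have hRt := ms_pi_ne_top hG hr (mem_inv_top.1 hR.1).1
    obtain ⟨M₁, hM₁, hRM₁⟩ := exists_max hG hRt
    have l₁ : LD p r P R M₁ := ⟨hr, hrp, hgood, hR, hRrk, hM₁, hRM₁⟩
    obtain ⟨T₁, t₁⟩ := l₁.toT c hG
    have he := l.pair c hG l₁
    apply hbM
    refine uniq_le (good_uniq hG hr hgood hrank (ms_pi_ne_top hG hr hY')) l.co ?_ hY'b
      (ms_cz1_ne_top hG hb1)
    rw [he]
    exact l₁.inv_le c hG t₁ hY' hAY'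
  exact hBT ((inf_le_inf_left _ hcz).trans hfin)

end


/-- characteristic subgroups of `S` inside `S'` are normal, when `H' ≤ F(H)` -/
theorem syl_der_nz {p : ℕ} (hp : p.Prime) {H S : Subgroup G} (hder : ⁅H, H⁆ ≤ fittingOf H)
    (hS : IsPiHallOf {p} S H) : H ≤ 𝓝(⁅S, S⁆) := by
  set D := ⁅H, H⁆ with hD
  have hDn : Group.IsNilpotent D := nilpotent_sub hder (fittingOf_nilpotent H)
  have hDH : D ≤ H := Subgroup.commutator_le_self H
  have hHD : H ≤ 𝓝(D) := left_le_nz_comm H H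
  have hSpi := hall_isPi hS
  have hSD : ⁅S, S⁆ ≤ D := Subgroup.commutator_mono hS.1 hS.1
  have hS'pi : IsPi {p} ⁅S, S⁆ := hSpi.le (Subgroup.commutator_le_self S)
  have hS'P : ⁅S, S⁆ ≤ piCoreOf {p} D := nilpotent_le_piCoreOf hDn hSD hS'pi
  have hcomm : piCoreOf {p} D ≤ 𝓒(piCoreOf {p}ᶜ D) :=
    nilpotent_commute hDn (piCoreOf_le _ _) (piCoreOf_le _ _) (isPi_piCoreOf _ _) (isPi_piCoreOf _ _)
  have h1 : piCoreOf {p}ᶜ D ≤ 𝓝(⁅S, S⁆) :=
    (le_cz_comm.1 (hS'P.trans hcomm)).trans (cz_le_nz _)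
  have h2 : 𝓝(S) ≤ 𝓝(⁅S, S⁆) := le_nz_comm le_rfl le_rfl
  have hDS : piCoreOf {p} D ≤ S := by
    rw [piCoreOf_of_normal hDH hHD]
    exact inf_le_right.trans (piCoreOf_le_hall hS)
  have hN : H ≤ 𝓝(S ⊔ D) := by
    rw [le_nz]
    intro g hg x hx
    have h3 : g * x * g⁻¹ = ⁅g, x⁆ * x := by rw [commutatorElement_def]; group
    rw [h3]
    exact mul_mem (Subgroup.mem_sup_right (Subgroup.commutator_mem_commutator hg
      ((sup_le hS.1 hDH) hx))) hx
  rw [← frattini_syl hp (sup_le hS.1 hDH) hN (hall_le_of_le hS le_sup_left (sup_le hS.1 hDH))]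
  refine sup_le (sup_le (le_normalizer.trans h2) ?_) (inf_le_right.trans h2)
  rw [← nilpotent_sup_piCoreOf (π := {p}) hDn]
  exact sup_le ((hDS.trans le_normalizer).trans h2) h1

section
variable {p : ℕ} {P A A₁ : Subgroup G} (c : UCfg p P A A₁) (hG : IsMinSimpleOddOrder G)
include c hG

theorem UCfg.uniqA (hPU : InUniqueMaximal P) : InUniqueMaximal A := by
  obtain ⟨M, hM, hPM⟩ := exists_max hG (ms_p_ne_top hG c.hp c.Pp)
  have hA1 : A ≠ ⊥ := (c.th hG).1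
  have hAt := ms_p_ne_top hG c.hp c.Ap
  have hNA : 𝓝(A) ≤ M := uniq_le hPU hM hPM c.hA.2.1 (ms_nz_ne_top hG hA1 hAt)
  have hKM : piCoreOf (primesNotDvd (Nat.card A)) 𝓒(A) ≤ M :=
    ((piCoreOf_le _ _).trans (cz_le_nz A)).trans hNA
  refine bg9_1 hG hM c.hp (c.hA.1.trans hPM) c.Ap hA1 fun Y hY hAY => ?_
  have hYt : Y ≠ ⊤ := by
    rintro rfl
    have h1 := coprime_card_of_pgroup c.hp c.Ap hY
    have h2 : Nat.card A ∣ Nat.card (⊤ : Subgroup G) := Subgroup.card_dvd_of_le le_top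
    have h3 : Nat.card A = 1 := Nat.eq_one_of_dvd_coprimes h1.symm dvd_rfl h2
    exact hA1 (Subgroup.card_eq_one.1 h3)
  refine inv_le_of_syls hAY (coprime_card_of_pgroup c.hp c.Ap hY).symm (ms_sol hG hYt) ?_
  intro q hq S hS hSY hAS
  by_cases hSb : S = ⊥
  · rw [hSb]; exact bot_le
  have hqp : q ≠ p := by
    rintro rfl
    have h1 := pgroup_dvd_card hq (hS.isPGroup hq) hSb
    exact hq.coprime_iff_not_dvd.1 hY.symm (h1.trans (Subgroup.card_dvd_of_le hSY))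
  obtain ⟨Q, hQ, -⟩ := exists_maxInv (H := ⊤) (A := P) (π := {q}) (R := ⊥)
    (mem_inv_top.2 ⟨IsPi.bot _, by rw [Subgroup.normalizer_eq_top]; exact le_top⟩)
  obtain ⟨k, hk, hkS⟩ := c.inv_le hG hq hqp hQ hS hAS
  have hQi := mem_inv_top.1 hQ.1
  have hQM : Q ≤ M := by
    by_cases hQb : Q = ⊥
    · rw [hQb]; exact bot_le
    · exact le_normalizer.trans (uniq_le hPU hM hPM hQi.2
        (ms_nz_ne_top hG hQb (ms_pi_ne_top hG hq hQi.1)))
  refine hkS.trans ?_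
  rw [← cj_eq_of_mem (hKM hk)]
  exact cj_mono hQM k

theorem UCfg.exists_LD {q : ℕ} (hq : q.Prime) (hqp : q ≠ p) {M : Subgroup G} (hM : IsCoatom M)
    (hPM : P ≤ M) (hF : ¬ PRankLE q 2 ↥(fittingOf M)) : ∃ Q, LD p q P Q M := by
  have hgood : GoodPrime G q := by
    intro E hE hEc
    refine bg9_4 hG hM hq hF (elab_isPGroup hE) hE.1 ?_
    rw [not_rank_iff hq]
    exact ⟨E, le_rfl, hE, hEc⟩
  have hrk : ¬ PRankLE q 2 ↥(piCoreOf {q} M) := by
    rwa [rank_syl hq (nilpotent_hall (π := {q}) (fittingOf_nilpotent M)), piCoreOf_fittingOf hq] at hF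
  obtain ⟨Q, hQ, hle⟩ := exists_maxInv (H := ⊤) (A := P) (π := {q}) (R := piCoreOf {q} M)
    (mem_inv_top.2 ⟨isPi_piCoreOf _ _, hPM.trans (le_nz_piCoreOf _ _)⟩)
  have hQi := mem_inv_top.1 hQ.1
  refine ⟨Q, hq, hqp, hgood, hQ, fun h => hrk (rank_mono hle h), hM, ?_⟩
  exact uniq_le (good_uniq hG hq hgood hrk (ms_pi_ne_top hG hq (isPi_piCoreOf _ _))) hM
    (piCoreOf_le _ _) hle (ms_pi_ne_top hG hq hQi.1)

end

/-- the case where some `F(M)`, `P ≤ M`, has rank at least three -/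
theorem LD.uniqP {p : ℕ} {P A A₁ : Subgroup G} (c : UCfg p P A A₁) (hG : IsMinSimpleOddOrder G)
    {q : ℕ} {Q M : Subgroup G} (l : LD p q P Q M)
    (hF : ∀ M : Subgroup G, IsCoatom M → PRankLE p 2 ↥(fittingOf M))
    (hgood : ∀ r : ℕ, r.Prime → p < r → GoodPrime G r) : InUniqueMaximal P := by
  obtain ⟨T, t⟩ := l.toT c hG
  refine uniq_intro l.co (l.hPM hG) fun H hH hPH => ?_
  by_contra hne
  have hp2 : p ≠ 2 := by
    refine ms_p2' hG c.hp (X := A) ?_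
    refine (dvd_pow_self p (show 3 ≠ 0 by norm_num)).trans ?_
    rw [← c.cd]
    exact Subgroup.card_dvd_of_le c.le
  have hr : ∀ s : ℕ, s.Prime → PRankLE s 2 ↥(fittingOf H) := by
    intro s hs
    by_contra hcon
    by_cases hsp : s = p
    · subst hsp; exact hcon (hF H hH)
    · obtain ⟨Q', l'⟩ := c.exists_LD hG hs hsp hH hPH hcon
      exact hne (l.pair c hG l').symm
  have hr' : ∀ s : ℕ, s.Prime → PRankLE s 2 ↥(piCoreOf {s} H) := fun s hs =>
    rank_mono (pcore_le_fittingOf hs H) (hr s hs)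
  have hNP : 𝓝(P) ≤ M := by
    obtain ⟨h1, -, -, h2⟩ := c.pass hG l.hq l.ne
    rw [(h2 Q l.mx).2]
    refine sup_le ?_ (inf_le_right.trans (l.nz hG))
    rw [← h1]
    exact inf_le_left.trans (l.K_le c hG t)
  have hder := der_le_fitting (max_sol hG hH) (ms_odd hG H) hr'
  have hPH' : IsPiHallOf {p} P H := hall_le_of_le c.hP hPH le_top
  have hAP := c.hA.1
  have hFM : fittingOf H ≤ M := by
    refine nilpotent_le_of_pcores (fittingOf_nilpotent H) fun r hrp => ?_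
    rw [piCoreOf_fittingOf hrp]
    have hAO : A ≤ 𝓝(piCoreOf {r} H) := (hAP.trans hPH).trans (le_nz_piCoreOf _ _)
    rcases lt_trichotomy r p with hlt | rfl | hgt
    · by_cases hb : piCoreOf {r} H = ⊥
      · rw [hb]; exact bot_le
      refine le_trans ?_ (l.K_le c hG t)
      have hOp : (Nat.card (piCoreOf {r} H)).Coprime p :=
        (isPi_compl_singleton' c.hp).1 ((isPi_piCoreOf {r} H).mono (by
          intro x hx
          rw [Set.mem_singleton_iff] at hx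
          subst hx
          exact hlt.ne))
      refine th_le_K (c.th hG) hG (c.pi hOp) ?_
      rw [le_cz_comm]
      intro a ha
      have hr2 := ms_p2' hG hrp (isPi_pcore_dvd hb)
      have ho : ∃ k, orderOf a = p ^ k := by
        haveI : Fact p.Prime := ⟨c.hp⟩
        obtain ⟨k, hk⟩ := IsPGroup.iff_orderOf.1 c.Ap ⟨a, ha⟩
        exact ⟨k, by rw [← hk, ← Subgroup.orderOf_coe]⟩
      obtain ⟨k, hk⟩ := ho
      have key : ∀ n : ℕ, 0 < n → n ≤ r + 1 → (orderOf a).Coprime n := by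
        intro n hn hnr
        rw [hk]
        refine Nat.Coprime.pow_left k ?_
        rw [c.hp.coprime_iff_not_dvd]
        intro hd
        have h5 := Nat.le_of_dvd hn hd
        have h7 : p = r + 1 := by omega
        have h8 : Even p := by rw [h7]; exact (hrp.odd_of_ne_two hr2).add_one
        exact hp2 (c.hp.even_iff.1 h8)
      have := hrp.two_le
      exact rk2_primes hrp hr2 ((isPi_piCoreOf _ _).isPGroup hrp) (hr' r hrp) hAO ha
        (key r hrp.pos (Nat.le_succ r)) (key (r - 1) (by omega) (by omega))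
        (key (r + 1) (by omega) le_rfl)
    · exact (piCoreOf_le_hall hPH').trans (l.hPM hG)
    · exact l.good_le c hG hrp hgt.ne' (hgood r hrp hgt) (isPi_piCoreOf _ _) hAO
  have hHM := le_of_der_fitting c.hp hder hFM hPH' (l.hPM hG) (inf_le_right.trans hNP)
  rcases eq_or_lt_of_le hHM with e | hlt
  · exact hne e
  · exact l.co.1 (hH.2 _ hlt)

theorem UCfg.absurd {p : ℕ} {P A A₁ : Subgroup G} (c : UCfg p P A A₁) (hG : IsMinSimpleOddOrder G)
    (hbad : ¬ GoodPrime G p) (hgood : ∀ r : ℕ, r.Prime → p < r → GoodPrime G r) : False := by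
  haveI : Fact p.Prime := ⟨c.hp⟩
  have hbad' := hbad
  rw [GoodPrime] at hbad'
  push Not at hbad'
  obtain ⟨E, hE, hEc, hEU⟩ := hbad'
  have hE3 : ¬ PRankLE p 2 E := by
    rw [not_rank_iff c.hp]
    exact ⟨E, le_rfl, hE, hEc⟩
  have hAU : ¬ InUniqueMaximal A := by
    intro h
    apply hEU
    refine bg9_3 hG c.hp c.Ap (scn_comm c.hA) c.hA3 h (elab_isPGroup hE)
      (not_cyclic_of_elab (k := 1) c.hp hE hEc) fun h1 => hE3 (rank_mono ?_ h1)
    exact comm_iff_le_cz.1 hE.1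
  have hPU : ¬ InUniqueMaximal P := fun h => hAU (c.uniqA hG h)
  have hF : ∀ M : Subgroup G, IsCoatom M → PRankLE p 2 ↥(fittingOf M) := by
    intro M hM
    by_contra h
    exact hEU (bg9_4 hG hM c.hp h (elab_isPGroup hE) hE.1 hE3)
  by_cases hcase : ∃ M : Subgroup G, IsCoatom M ∧ P ≤ M ∧ ∃ q : ℕ, q.Prime ∧ ¬ PRankLE q 2 ↥(fittingOf M)
  · obtain ⟨M, hM, hPM, q, hq, hqF⟩ := hcase
    by_cases hqp : q = p
    · subst hqp; exact hqF (hF M hM)
    · obtain ⟨Q, l⟩ := c.exists_LD hG hq hqp hM hPM hqF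
      exact hPU (l.uniqP c hG hF hgood)
  · push Not at hcase
    have hPt := ms_p_ne_top hG c.hp c.Pp
    have hP1 : P ≠ ⊥ := by
      rintro rfl
      exact (c.th hG).1 (le_bot_iff.1 c.hA.1)
    have hder : ∀ M : Subgroup G, IsCoatom M → P ≤ M → ⁅M, M⁆ ≤ fittingOf M := fun M hM hPM =>
      der_le_fitting (max_sol hG hM) (ms_odd hG M) fun s hs =>
        rank_mono (pcore_le_fittingOf hs M) (hcase M hM hPM s hs)
    by_cases hP' : ⁅P, P⁆ = ⊥
    · -- `P` abelian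
      obtain ⟨M, hM, hNM⟩ := exists_max hG (ms_nz_ne_top hG hP1 hPt)
      have hPM := le_normalizer.trans hNM
      obtain ⟨P', hPe⟩ := exists_sylow_of_hall_top c.hP
      have hPab : IsMulCommutative P := comm_iff_le_cz.2 (comm_eq_bot_iff.1 hP')
      have h1 := CfsgLib.TransFus.commutator_inf_eq_of_controls P' (𝓝(P)) (by
        rw [hPe]; exact le_normalizer) (by
        intro x g hx hgx
        have := CfsgLib.TransFus.abelian_controls P' (by rw [hPe]; exact hPab) x g hx hgx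
        rwa [hPe] at this)
      have h2 : commutator G = ⊤ := by
        rcases ms_normal hG (N := commutator G) inferInstance with h | h
        · exfalso
          apply ms_nc hG
          have h3 : (⊤ : Subgroup G) ≤ 𝓒((⊤ : Subgroup G)) := comm_eq_bot_iff.1 h
          exact ⟨⟨fun a b => mem_cz.1 (h3 (Subgroup.mem_top b)) a (Subgroup.mem_top a)⟩⟩
        · exact h
      rw [h2, top_inf_eq, hPe] at h1
      have h3 : P ≤ ⁅𝓝(P), 𝓝(P)⁆ := inf_eq_right.1 h1.symm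
      have h4 : P ≤ fittingOf M := (h3.trans (Subgroup.commutator_mono hNM hNM)).trans (hder M hM hPM)
      exact c.hA3 (rank_mono (c.hA.1.trans h4) (hF M hM))
    · apply hPU
      obtain ⟨M, hM, hPM⟩ := exists_max hG hPt
      have key : ∀ H : Subgroup G, IsCoatom H → P ≤ H → 𝓝(⁅P, P⁆) = H := fun H hH hPH =>
        max_nz_eq hG hH hP' ((Subgroup.commutator_le_self P).trans hPH)
          (syl_der_nz c.hp (hder H hH hPH) (hall_le_of_le c.hP hPH le_top))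
      refine uniq_intro hM hPM fun H hH hPH => ?_
      rw [← key H hH hPH, ← key M hM hPM]

/-- all primes are good -/
theorem all_good (hG : IsMinSimpleOddOrder G) (p : ℕ) (hp : p.Prime) : GoodPrime G p := by
  have key : ∀ n p : ℕ, p.Prime → Nat.card G - p = n → GoodPrime G p := by
    intro n
    induction n using Nat.strong_induction_on with
    | _ n ih =>
    intro p hp hn
    by_contra hbad
    have hbad' := hbad
    rw [GoodPrime] at hbad'
    push Not at hbad'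
    obtain ⟨E, hE, hEc, -⟩ := hbad'
    have hpG : p ≤ Nat.card G := by
      refine Nat.le_of_dvd Nat.card_pos ?_
      refine (dvd_pow_self p (show 3 ≠ 0 by norm_num)).trans ?_
      rw [← hEc]
      exact Subgroup.card_subgroup_dvd_card E
    have hp2 : p ≠ 2 := by
      refine ms_p2' hG hp (X := E) ?_
      rw [hEc]
      exact dvd_pow_self p (by norm_num)
    obtain ⟨P, hP, hEP⟩ := exists_syl_ge hp (elab_isPi hp hE) (le_top : E ≤ ⊤)
    have hPp := (hall_isPi hP).isPGroup hp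
    have hr : ¬ PRankLE p 2 P := by
      rw [not_rank_iff hp]
      exact ⟨E, hEP, hE, hEc⟩
    obtain ⟨A, hA, hA3⟩ := exists_scn3' hp hp2 hPp hr
    obtain ⟨A₁, hA₁, hA₁e, hA₁c⟩ := (not_rank_iff hp).1 hA3
    refine UCfg.absurd ⟨hp, hP, hA, hA3, hA₁, hA₁e, hA₁c⟩ hG hbad fun r hr hpr => ?_
    by_cases hrG : r ≤ Nat.card G
    · exact ih (Nat.card G - r) (by omega) r hr rfl
    · intro E' _ hE'c
      exfalso
      apply hrG
      refine Nat.le_of_dvd Nat.card_pos ?_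
      refine (dvd_pow_self r (show 3 ≠ 0 by norm_num)).trans ?_
      rw [← hE'c]
      exact Subgroup.card_subgroup_dvd_card E'
  exact key _ p hp rfl

/-- the uniqueness theorem for subgroups of rank at least three -/
theorem uniq_of_rank3 (hG : IsMinSimpleOddOrder G) {X : Subgroup G} (hX : ¬ RankLE 2 X)
    (hXt : X ≠ ⊤) : InUniqueMaximal X := by
  obtain ⟨p, hp, E, hE, hEe, hEc⟩ := exists_elab_of_not_rank hX
  exact uniq_mono (all_good hG p hp E hEe hEc) hE hXt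

theorem uniq_of_cz3 (hG : IsMinSimpleOddOrder G) {X : Subgroup G} (hX : ¬ RankLE 1 X)
    (hC : ¬ RankLE 2 ↥𝓒(X)) : InUniqueMaximal X := by
  obtain ⟨p, hp, E, hE, hEe, hEc⟩ := exists_elab_of_not_rank hC
  exact bg9_2 hG (all_good hG p hp E hEe hEc) (le_cz_comm.1 hE) hX

end CfsgLib.BGPi
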