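import Cfsg.Agent.EqBase
import Cfsg.Agent.LibBGRepE
import Cfsg.Agent.LibBG9b

/-! B & G Theorem 3.4. -/

open scoped Pointwise commutatorElement
open Subgroup Cfsg

namespace CfsgLib.BGRep

open Module

/-- Frobenius-type averaging, second form -/
theorem frob_lin2 {F M E : Type*} [Field F] [AddCommGroup M] [Module F M]
    [Group E] [Finite E] (π : E →* Module.End F M) {K : Subgroup E} {ρ : E} {r : ℕ}
    (hr : 0 < r) (hKF : (Nat.card K : F) ≠ 0)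
    (hn : ρ ∈ Subgroup.normalizer (K : Set E)) (hpw : ρ ^ r = 1)
    (hfpf : ∀ i, 0 < i → i < r → ∀ x ∈ K, ρ ^ i * x * (ρ ^ i)⁻¹ = x → x = 1)
    (hfix : ∀ v : M, π ρ v = v → v = 0) {x₀ : E} (hx₀ : x₀ ∈ K) : π x₀ = 1 := by
  classical
  haveI := Fintype.ofFinite K
  have h1 := sum_pow_zero π hpw hfix
  set e : Module.End F M := ∑ x : K, π x with he
  have hxe : π x₀ * e = e := by
    rw [he, Finset.mul_sum]
    refine Fintype.sum_equiv (Equiv.mulLeft ⟨x₀, hx₀⟩) _ _ fun y => ?_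
    simp only [Equiv.coe_mulLeft, Subgroup.coe_mul, map_mul]
  have h2 : avg π K (∑ i ∈ Finset.range r, π (ρ ^ i)) = 0 := by
    rw [h1, avg]; simp
  obtain ⟨r', rfl⟩ := Nat.exists_eq_succ_of_ne_zero hr.ne'
  have h3 : ∀ i ∈ Finset.range r', avg π K (π (ρ ^ (i + 1))) = e * π (ρ ^ (i + 1)) := by
    intro i hi
    have hi1 : 0 < i + 1 := Nat.succ_pos _
    have hi2 : i + 1 < r' + 1 := Nat.succ_lt_succ (Finset.mem_range.1 hi)
    have hni : ρ ^ (i + 1) ∈ Subgroup.normalizer (K : Set E) := Subgroup.pow_mem _ hn _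
    have hc : ∀ x : K, ρ ^ (i + 1) * (x : E) * (ρ ^ (i + 1))⁻¹ ∈ K := fun x =>
      (Subgroup.mem_normalizer_iff.1 hni x).1 x.2
    let f : K → K := fun x => x * (⟨_, hc x⟩ : K)⁻¹
    have hf : Function.Injective f := by
      intro x y hxy
      have h3 : (x : E) * (ρ ^ (i + 1) * (x : E) * (ρ ^ (i + 1))⁻¹)⁻¹ =
          (y : E) * (ρ ^ (i + 1) * (y : E) * (ρ ^ (i + 1))⁻¹)⁻¹ := congrArg Subtype.val hxy
      have h4 : ρ ^ (i + 1) * ((y : E)⁻¹ * x) * (ρ ^ (i + 1))⁻¹ = (y : E)⁻¹ * x := by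
        have h5 : (y : E)⁻¹ * x = (ρ ^ (i + 1) * (y : E) * (ρ ^ (i + 1))⁻¹)⁻¹ *
            (ρ ^ (i + 1) * (x : E) * (ρ ^ (i + 1))⁻¹) := by
          rw [eq_comm, ← eq_mul_inv_iff_mul_eq, eq_comm, mul_assoc, h3]
          group
        conv_rhs => rw [h5]
        group
      have h5 := hfpf (i + 1) hi1 hi2 _ (K.mul_mem (K.inv_mem y.2) x.2) h4
      exact Subtype.ext (inv_mul_eq_one.1 h5).symm
    have hb : Function.Bijective f := Finite.injective_iff_bijective.1 hf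
    rw [avg]
    have h3 : ∀ x : K, π x * π (ρ ^ (i + 1)) * π (x : E)⁻¹ = π (f x) * π (ρ ^ (i + 1)) := by
      intro x
      rw [← map_mul, ← map_mul, ← map_mul]
      congr 1
      show _ = (x : E) * (ρ ^ (i + 1) * (x : E) * (ρ ^ (i + 1))⁻¹)⁻¹ * ρ ^ (i + 1)
      group
    simp only [h3]
    rw [← Finset.sum_mul]
    have h4 : ∑ x : K, π (f x) = ∑ x : K, π x :=
      Fintype.sum_equiv (Equiv.ofBijective f hb) _ _ fun x => rfl
    rw [h4]
  have h4 : avg π K (π (ρ ^ 0)) = (Fintype.card K : F) • 1 := by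
    rw [pow_zero, map_one]
    apply avg_of_comm
    intro x _
    rw [mul_one, one_mul]
  rw [avg_sum, Finset.sum_range_succ', h4, Finset.sum_congr rfl h3, ← Finset.mul_sum] at h2
  set s := ∑ i ∈ Finset.range r', π (ρ ^ (i + 1)) with hs
  have h5 : (Fintype.card K : F) • (π x₀) = (Fintype.card K : F) • 1 := by
    have h6 : (Fintype.card K : F) • (1 : Module.End F M) = -(e * s) :=
      (neg_eq_of_add_eq_zero_right h2).symm
    calc (Fintype.card K : F) • (π x₀) = π x₀ * ((Fintype.card K : F) • 1) := by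
          rw [mul_smul_comm, mul_one]
      _ = (Fintype.card K : F) • 1 := by
          rw [h6, mul_neg, ← mul_assoc, hxe]
  have h7 : (Fintype.card K : F) ≠ 0 := by rwa [← Nat.card_eq_fintype_card]
  exact smul_right_injective _ h7 h5

theorem frob_grp2 {V E : Type*} [CommGroup V] [Finite V] [Group E] [Finite E] (φ : E →* MulAut V)
    {p : ℕ} [Fact p.Prime] (hV : ∀ v : V, v ^ p = 1) {K : Subgroup E} {ρ : E} {r : ℕ}
    (hr : 0 < r) (hKp : ¬ p ∣ Nat.card K)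
    (hn : ρ ∈ Subgroup.normalizer (K : Set E)) (hpw : ρ ^ r = 1)
    (hfpf : ∀ i, 0 < i → i < r → ∀ x ∈ K, ρ ^ i * x * (ρ ^ i)⁻¹ = x → x = 1)
    (hfix : ∀ v : V, φ ρ v = v → v = 1) {x : E} (hx : x ∈ K) : φ x = 1 := by
  obtain ⟨inst, π, hfin, hπ⟩ := exists_rep φ p hV
  have hp : p.Prime := Fact.out
  have h0 := frob_lin2 (F := ZMod p) (M := Additive V) π (K := K) hr ?_ hn hpw hfpf ?_ hx
  · ext v
    have h1 := hπ x v
    rw [h0] at h1
    exact (Additive.ofMul.injective h1).symm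
  · intro h
    rw [ZMod.natCast_eq_zero_iff] at h
    exact hKp h
  · intro w hw
    have h1 := hπ ρ w.toMul
    rw [ofMul_toMul, hw] at h1
    exact hfix w.toMul (Additive.ofMul.injective h1.symm)

theorem ext_sub {V E : Type*} [CommGroup V] [Finite V] [Group E] [Finite E] (φ : E →* MulAut V)
    {p : ℕ} [Fact p.Prime] (hV : ∀ v : V, v ^ p = 1) {K Z : Subgroup E} {ρ : E} {r : ℕ}
    (hr : r.Prime) (hrp : r ≠ p) (hKp : ¬ p ∣ Nat.card K) (hZK : Z ≤ K)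
    (hcenK : ∀ z ∈ Z, ∀ x ∈ K, z * x = x * z) (hcenρ : ∀ z ∈ Z, z * ρ = ρ * z)
    (hn : ρ ∈ Subgroup.normalizer (K : Set E)) (hpw : ρ ^ r = 1)
    (hfpf : ∀ i, 0 < i → i < r → ∀ x ∈ K, ρ ^ i * x * (ρ ^ i)⁻¹ * x⁻¹ ∈ Z → x ∈ Z)
    (hcomm : ∀ x ∈ K, ∀ y ∈ K, y * x * y⁻¹ * x⁻¹ ∈ Z) {z₀ : E} (hz₀ : z₀ ∈ Z) (hz₀1 : φ z₀ ≠ 1)
    (hnd : ∀ x ∈ K, x ∉ Z → ∀ N : Subgroup E, N ≤ Z → z₀ ∉ N → ∃ y ∈ K, y * x * y⁻¹ * x⁻¹ ∉ N)
    (hfix : ∀ v : V, φ ρ v = v → v = 1) :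
    ∃ D : ℕ, D ^ 2 * Nat.card Z = Nat.card K ∧ (D = 1 ∨ D + 1 = r) := by
  have hρE : ρ ∈ K ⊔ Subgroup.zpowers ρ :=
    (le_sup_right : _ ≤ K ⊔ Subgroup.zpowers ρ) (Subgroup.mem_zpowers ρ)
  have hKE : K ≤ K ⊔ Subgroup.zpowers ρ := le_sup_left
  have hZE : Z ≤ K ⊔ Subgroup.zpowers ρ := hZK.trans hKE
  have hcK : Nat.card (K.subgroupOf (K ⊔ Subgroup.zpowers ρ)) = Nat.card K :=
    Nat.card_congr (Subgroup.subgroupOfEquivOfLe hKE).toEquiv
  have hcZ : Nat.card (Z.subgroupOf (K ⊔ Subgroup.zpowers ρ)) = Nat.card Z :=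
    Nat.card_congr (Subgroup.subgroupOfEquivOfLe hZE).toEquiv
  have h0 := ext_grp (V := V) (φ.comp (K ⊔ Subgroup.zpowers ρ).subtype) (p := p)
    (K := K.subgroupOf (K ⊔ Subgroup.zpowers ρ))
    (Z := Z.subgroupOf (K ⊔ Subgroup.zpowers ρ))
    (ρ := ⟨ρ, hρE⟩) (r := r) hV hr hrp ?_ ?_ ?_ ?_ ?_ ?_ ?_ ?_
    (z₀ := ⟨z₀, hZE hz₀⟩) ?_ ?_ ?_ ?_
  · rwa [hcK, hcZ] at h0
  · rwa [hcK]
  · intro x hx; exact hZK hx
  · rintro z hz ⟨x, hx⟩
    apply Subtype.ext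
    show (z : E) * x = x * z
    have h1 : K ⊔ Subgroup.zpowers ρ ≤ Subgroup.centralizer ({(z : E)} : Set E) := by
      rw [sup_le_iff, Subgroup.zpowers_le]
      refine ⟨fun y hy => ?_, ?_⟩
      · rw [Subgroup.mem_centralizer_singleton_iff]
        exact (hcenK z hz y hy).symm
      · rw [Subgroup.mem_centralizer_singleton_iff]
        exact (hcenρ z hz).symm
    have h2 := h1 hx
    rw [Subgroup.mem_centralizer_singleton_iff] at h2
    exact h2.symm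
  · rw [eq_top_iff]
    intro x _
    have h1 : (K ⊔ Subgroup.zpowers ρ).subgroupOf (K ⊔ Subgroup.zpowers ρ) = ⊤ :=
      Subgroup.subgroupOf_self _
    rw [Subgroup.subgroupOf_sup hKE le_sup_right] at h1
    have h2 : (Subgroup.zpowers ρ).subgroupOf (K ⊔ Subgroup.zpowers ρ) =
        Subgroup.zpowers ⟨ρ, hρE⟩ := by
      ext y
      rw [Subgroup.mem_subgroupOf, Subgroup.mem_zpowers_iff, Subgroup.mem_zpowers_iff]
      constructor
      · rintro ⟨n, hn⟩; exact ⟨n, Subtype.ext hn⟩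
      · rintro ⟨n, hn⟩; exact ⟨n, congrArg Subtype.val hn⟩
    rw [h2] at h1
    rw [h1]; trivial
  · rw [Subgroup.mem_normalizer_iff]
    intro x
    exact Subgroup.mem_normalizer_iff.1 hn x
  · exact Subtype.ext hpw
  · intro i hi hir x hx hxx
    exact hfpf i hi hir x hx hxx
  · intro x hx y hy
    exact hcomm x hx y hy
  · exact hz₀
  · exact hz₀1
  · intro x hx hxZ N hN hzN
    obtain ⟨y, hy, hyN⟩ := hnd x hx hxZ (N.map (K ⊔ Subgroup.zpowers ρ).subtype) (by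
      rintro _ ⟨n, hn, rfl⟩; exact hN hn) (by
      rintro ⟨n, hn, he⟩
      apply hzN
      have : n = ⟨z₀, hZE hz₀⟩ := Subtype.ext he
      rwa [← this])
    refine ⟨⟨y, hKE hy⟩, hy, fun h => hyN ⟨_, h, rfl⟩⟩
  · intro v hv
    exact hfix v hv

end CfsgLib.BGRep

namespace CfsgLib.BGPi

universe u
variable {G : Type u} [Group G]

theorem comm_lt_of_solvable {K : Subgroup G} (hs : Group.IsSolvable K) (h : K ≠ ⊥) : ⁅K, K⁆ < K := by
  refine lt_of_le_of_ne (comm_self_le K) ?_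
  intro he
  haveI : Nontrivial K := (Subgroup.nontrivial_iff_ne_bot K).2 h
  haveI : IsSolvable K := hs
  have h1 := IsSolvable.commutator_lt_top_of_nontrivial K
  apply h1.ne
  apply Subgroup.map_injective K.subtype_injective
  rw [commutator_def, Subgroup.map_commutator, ← MonoidHom.range_eq_map, Subgroup.range_subtype, he]

theorem three_le {A B C : Subgroup G} (h1 : ⁅⁅A, B⁆, C⁆ = ⊥) (h2 : ⁅⁅B, C⁆, A⁆ = ⊥) :
    ⁅⁅C, A⁆, B⁆ = ⊥ := by
  exact Subgroup.commutator_commutator_eq_bot_of_rotate h1 h2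


/-- elements of `K` that are central modulo `N` -/
def cenMod (K N : Subgroup G) (hN : ∀ n ∈ N, ∀ x ∈ K, n * x = x * n) : Subgroup G where
  carrier := {x | x ∈ K ∧ ∀ y ∈ K, y * x * y⁻¹ * x⁻¹ ∈ N}
  one_mem' := ⟨one_mem _, fun y _ => by simp⟩
  mul_mem' := by
    rintro a b ⟨ha, ha'⟩ ⟨hb, hb'⟩
    refine ⟨mul_mem ha hb, fun y hy => ?_⟩
    have h1 := hN _ (hb' y hy) a ha
    have : y * (a * b) * y⁻¹ * (a * b)⁻¹ = (y * a * y⁻¹ * a⁻¹) * (y * b * y⁻¹ * b⁻¹) := by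
      calc y * (a * b) * y⁻¹ * (a * b)⁻¹
          = (y * a * y⁻¹ * a⁻¹) * (a * (y * b * y⁻¹ * b⁻¹)) * a⁻¹ := by group
        _ = (y * a * y⁻¹ * a⁻¹) * ((y * b * y⁻¹ * b⁻¹) * a) * a⁻¹ := by rw [h1]
        _ = _ := by group
    rw [this]
    exact mul_mem (ha' y hy) (hb' y hy)
  inv_mem' := by
    rintro a ⟨ha, ha'⟩
    refine ⟨inv_mem ha, fun y hy => ?_⟩
    have h1 := hN _ (inv_mem (ha' y hy)) a ha
    have : y * a⁻¹ * y⁻¹ * a⁻¹⁻¹ = (y * a * y⁻¹ * a⁻¹)⁻¹ := by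
      calc y * a⁻¹ * y⁻¹ * a⁻¹⁻¹ = a⁻¹ * ((y * a * y⁻¹ * a⁻¹)⁻¹ * a) := by group
        _ = (y * a * y⁻¹ * a⁻¹)⁻¹ := by rw [h1]; group
    rw [this]
    exact inv_mem (ha' y hy)

theorem mem_cenMod {K N : Subgroup G} {hN : ∀ n ∈ N, ∀ x ∈ K, n * x = x * n} {x : G} :
    x ∈ cenMod K N hN ↔ x ∈ K ∧ ∀ y ∈ K, y * x * y⁻¹ * x⁻¹ ∈ N := Iff.rfl

open CfsgLib.BGRep in
/-- B & G 3.4 for `q`-groups -/
theorem thm34q {V : Type*} {E : Type u} [CommGroup V] [Finite V] [Group E] [Finite E]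
    (φ : E →* MulAut V)
    (hφ : Function.Injective φ) {p q r : ℕ} (hp : p.Prime) (hV : ∀ v : V, v ^ p = 1)
    (hq : q.Prime) (hr : r.Prime) (hqp : q ≠ p) (hrp : r ≠ p) (hrq : r ≠ q) (hr2 : r ≠ 2)
    (hq2 : q ≠ 2) {R : Subgroup E} {ρ : E} (hR : Nat.card R = r) (hρ : R = zpowers ρ)
    (hfix : ∀ v : V, φ ρ v = v → v = 1) : ∀ (n : ℕ) (K : Subgroup E), Nat.card K = n →
      IsPi {q} K → R ≤ 𝓝(K) → K ≤ 𝓒(R) := by
  intro n
  haveI : Fact p.Prime := ⟨hp⟩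
  haveI : Fact q.Prime := ⟨hq⟩
  induction n using Nat.strong_induction_on with
  | _ n ih =>
  intro K hn hKq hRK
  have hKp := hKq.isPGroup hq
  have hρR : ρ ∈ R := by rw [hρ]; exact mem_zpowers ρ
  have hpw : ρ ^ r = 1 := by
    have : orderOf ρ = r := by rw [← Nat.card_zpowers, ← hρ, hR]
    rw [← this]; exact pow_orderOf_eq_one ρ
  have hcop : (Nat.card R).Coprime (Nat.card K) := by
    obtain ⟨k, hk⟩ := IsPGroup.iff_card.1 hKp
    rw [hR, hk]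
    exact (Nat.coprime_primes hr hq).2 hrq |>.pow_right k
  haveI := hKp.isNilpotent
  have hKs : Group.IsSolvable K := inferInstance
  by_contra hcon
  have hK0 : K ≠ ⊥ := by
    rintro rfl; exact hcon bot_le
  have hprop : ∀ L < K, R ≤ 𝓝(L) → L ≤ 𝓒(R) := by
    intro L hL hRL
    refine ih (Nat.card L) ?_ L rfl (hKq.le hL.le) hRL
    rw [← hn]
    refine lt_of_le_of_ne (Nat.le_of_dvd Nat.card_pos (card_dvd_of_le hL.le)) ?_
    intro h; exact hL.ne (eq_of_card_le hL.le h.ge)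
  have hKR : ⁅K, R⁆ = K := by
    by_contra h1
    have h2 := hprop _ (lt_of_le_of_ne (comm_le_left hRK) h1) (right_le_nz_comm K R)
    exact hcon (le_cz_comm.1 (cop_le_cz hRK hcop hKs (le_cz_comm.1 h2)))
  set Z := K ⊓ 𝓒(R) with hZ
  have hKK : ⁅K, K⁆ ≤ 𝓒(R) :=
    hprop _ (comm_lt_of_solvable hKs hK0) (le_nz_comm hRK hRK)
  have hKZ : ⁅K, K⁆ ≤ Z := le_inf (comm_self_le K) hKK
  have hZK : Z ≤ K := inf_le_left
  have hZR : Z ≤ 𝓒(R) := inf_le_right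
  have hZc : Z ≤ 𝓒(K) := by
    have h1 : ⁅⁅K, Z⁆, R⁆ = ⊥ := by
      rw [comm_eq_bot_iff]
      exact (commutator_mono le_rfl hZK).trans hKK
    have h2 : ⁅⁅Z, R⁆, K⁆ = ⊥ := by
      rw [comm_eq_bot_iff.2 hZR, commutator_bot_left]
    have h3 := three_le h1 h2
    rw [commutator_comm R K, hKR, comm_eq_bot_iff] at h3
    exact le_cz_comm.1 h3
  have hcenK : ∀ z ∈ Z, ∀ x ∈ K, z * x = x * z := fun z hz x hx => (mem_cz.1 (hZc hz) x hx).symm
  have hcenρ : ∀ z ∈ Z, z * ρ = ρ * z := fun z hz => (mem_cz.1 (hZR hz) ρ hρR).symm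
  have hKnZ : K ≤ 𝓝(Z) := le_nz_of_le_cz (le_cz_comm.1 hZc)
  have hRnZ : R ≤ 𝓝(Z) := le_nz_of_le_cz (le_cz_comm.1 hZR)
  have hpK : ¬ p ∣ Nat.card K := by
    intro h
    obtain ⟨k, hk⟩ := IsPGroup.iff_card.1 hKp
    rw [hk] at h
    exact hqp ((Nat.prime_dvd_prime_iff_eq hp hq).1 (hp.dvd_of_dvd_pow h)).symm
  have hfpf := fpf_of_cz hr hR hρ hRK hcop hKs hZK hKnZ hRnZ le_rfl
  by_cases hab : ⁅K, K⁆ = ⊥
  · -- abelian case
    haveI := comm_iff_comm_bot.2 hab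
    have h1 := CfsgLib.Coprime2.commutator_inf_centralizer hRK hcop
    rw [hKR] at h1
    have hfpf' : ∀ i, 0 < i → i < r → ∀ x ∈ K, ρ ^ i * x * (ρ ^ i)⁻¹ = x → x = 1 := by
      intro i hi hir x hx hxx
      have h2 := hfpf i hi hir x hx (by rw [hxx, mul_inv_cancel]; exact one_mem _)
      rw [hZ, h1] at h2
      exact h2
    apply hK0
    rw [eq_bot_iff]
    intro x hx
    have h2 := frob_grp2 φ hV hr.pos hpK (hRK hρR) hpw hfpf' hfix hx
    rw [mem_bot]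
    exact hφ (by rw [h2, map_one])
  · obtain ⟨⟨z₀, hz₀⟩, hz₀1⟩ := Subgroup.ne_bot_iff_exists_ne_one.1 hab
    have hz₀1' : z₀ ≠ 1 := fun h => hz₀1 (Subtype.ext h)
    have hext := ext_sub φ hV (K := K) (Z := Z) (ρ := ρ) hr hrp hpK hZK hcenK hcenρ (hRK hρR) hpw
      hfpf ?_ (z₀ := z₀) (hKZ hz₀) ?_ ?_ hfix
    · obtain ⟨D, hD, hD'⟩ := hext
      have hDdvd : D ∣ Nat.card K := by
        rw [← hD, pow_two, mul_assoc]; exact Dvd.intro _ rfl
      rcases hD' with rfl | hD'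
      · rw [one_pow, one_mul] at hD
        have h1 : Z = K := eq_of_card_le hZK hD.ge
        exact hcon (h1 ▸ hZR)
      · obtain ⟨k, hk⟩ := IsPGroup.iff_card.1 hKp
        have hKo : Odd (Nat.card K) := by rw [hk]; exact (hq.odd_of_ne_two hq2).pow
        have hDo : Odd D := Odd.of_dvd_nat hKo hDdvd
        have : Even r := by rw [← hD']; exact hDo.add_one
        exact hr2 ((Nat.Prime.even_iff hr).1 this)
    · intro x hx y hy
      exact hKZ (commutator_mem_commutator hy hx)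
    · intro h
      exact hz₀1' (hφ (by rw [h, map_one]))
    · intro x hx hxZ N hN hzN
      by_contra hcon2
      push Not at hcon2
      have hNc : ∀ n ∈ N, ∀ x ∈ K, n * x = x * n := fun n hn => hcenK n (hN hn)
      have hxD : x ∈ cenMod K N hNc := ⟨hx, hcon2⟩
      have hDK : cenMod K N hNc ≤ K := fun y hy => hy.1
      rcases lt_or_eq_of_le hDK with h1 | h1
      · have hRD : R ≤ 𝓝(cenMod K N hNc) := by
          rw [le_nz]
          rintro a ha d ⟨hd, hd'⟩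
          refine ⟨(mem_normalizer_iff.1 (hRK ha) d).1 hd, fun y hy => ?_⟩
          have hy' : a⁻¹ * y * a ∈ K := by
            have := (mem_normalizer_iff.1 (hRK (R.inv_mem ha)) y).1 hy
            simpa using this
          have h2 := hd' _ hy'
          have h3 : y * (a * d * a⁻¹) * y⁻¹ * (a * d * a⁻¹)⁻¹ =
              a * ((a⁻¹ * y * a) * d * (a⁻¹ * y * a)⁻¹ * d⁻¹) * a⁻¹ := by group
          rw [h3]
          have h4 := mem_cz.1 (hZR (hN h2)) a ha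
          rw [h4, mul_inv_cancel_right]
          exact h2
        exact hxZ (mem_inf.2 ⟨hx, hprop _ h1 hRD hxD⟩)
      · apply hzN
        have h2 : ⁅K, K⁆ ≤ N := by
          rw [commutator_le]
          intro y hy x' hx'
          rw [← h1] at hx'
          exact hx'.2 y hy
        exact h2 hz₀


/-- B & G 3.4 in faithful form -/
theorem thm34f {V : Type*} {E : Type u} [CommGroup V] [Finite V] [Group E] [Finite E]
    (φ : E →* MulAut V)
    (hφ : Function.Injective φ) {p r : ℕ} (hp : p.Prime) (hV : ∀ v : V, v ^ p = 1)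
    (hr : r.Prime) (hrp : r ≠ p) (hr2 : r ≠ 2)
    {R : Subgroup E} {ρ : E} (hR : Nat.card R = r) (hρ : R = zpowers ρ)
    (hfix : ∀ v : V, φ ρ v = v → v = 1) {K : Subgroup E} (hKs : Group.IsSolvable K)
    (hKodd : Odd (Nat.card K)) (hKp : ¬ p ∣ Nat.card K) (hcop : (Nat.card R).Coprime (Nat.card K))
    (hRK : R ≤ 𝓝(K)) : K ≤ 𝓒(R) := by
  apply le_of_syls
  intro q hq
  obtain ⟨S, hS, hRS⟩ := cop_hall_exists hRK hcop hKs {q}
  refine ⟨S, hS, ?_⟩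
  by_cases hqd : q ∣ Nat.card K
  · refine thm34q φ hφ hp hV hq hr ?_ hrp ?_ hr2 ?_ hR hρ hfix _ S rfl (hall_isPi hS) hRS
    · rintro rfl; exact hKp hqd
    · rintro rfl
      rw [hR] at hcop
      exact hr.one_lt.ne' (Nat.Coprime.eq_one_of_dvd hcop hqd)
    · rintro rfl
      exact (Nat.not_even_iff_odd.2 hKodd) (even_iff_two_dvd.2 hqd)
  · have : S = ⊥ := by
      rw [← Subgroup.card_eq_one]
      by_contra h1
      obtain ⟨l, hl, hld⟩ := Nat.exists_prime_and_dvd h1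
      have h2 : l ∈ ({q} : Set ℕ) := hall_isPi hS l hl hld
      rw [Set.mem_singleton_iff] at h2
      subst h2
      exact hqd (hld.trans (card_dvd_of_le (hall_le hS)))
    rw [this]; exact bot_le

theorem thm34g {V : Type u} [Group V] [Finite V] (hc : ∀ a b : V, a * b = b * a)
    {p r : ℕ} (hp : p.Prime) (hV : ∀ v : V, v ^ p = 1)
    (hr : r.Prime) (hrp : r ≠ p) (hr2 : r ≠ 2)
    {R : Subgroup (MulAut V)} {ρ : MulAut V} (hR : Nat.card R = r) (hρ : R = zpowers ρ)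
    (hfix : ∀ v : V, ρ v = v → v = 1) {K : Subgroup (MulAut V)} (hKs : Group.IsSolvable K)
    (hKodd : Odd (Nat.card K)) (hKp : ¬ p ∣ Nat.card K) (hcop : (Nat.card R).Coprime (Nat.card K))
    (hRK : R ≤ 𝓝(K)) : K ≤ 𝓒(R) := by
  letI : CommGroup V := { (inferInstance : Group V) with mul_comm := hc }
  exact thm34f (V := V) (E := MulAut V) (MonoidHom.id (MulAut V)) Function.injective_id hp hV hr
    hrp hr2 hR hρ hfix hKs hKodd hKp hcop hRK

open CfsgLib.BGRep in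
/-- B & G 3.4 -/
theorem thm34 [Finite G] {p r : ℕ} (hp : p.Prime) (hr : r.Prime) (hrp : r ≠ p) (hr2 : r ≠ 2)
    {V K R : Subgroup G} (hV : IsElementaryAbelian p V) (hR : Nat.card R = r)
    (hKs : Group.IsSolvable K) (hKodd : Odd (Nat.card K)) (hKp : ¬ p ∣ Nat.card K)
    (hcop : (Nat.card R).Coprime (Nat.card K)) (hRK : R ≤ 𝓝(K)) (hKV : K ≤ 𝓝(V))
    (hRV : R ≤ 𝓝(V)) (hfix : V ⊓ 𝓒(R) = ⊥) : ⁅K, R⁆ ≤ 𝓒(V) := by
  have hE : K ⊔ R ≤ 𝓝(V) := sup_le hKV hRV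
  have hVc : ∀ a ∈ V, ∀ b ∈ V, a * b = b * a := by
    intro a ha b hb
    exact mem_cz.1 ((elab_iff.1 hV).1 hb) a ha
  have hVc' : ∀ a b : V, a * b = b * a := fun a b => Subtype.ext (hVc a a.2 b b.2)
  set f := actN hE with hf
  have hKE : K ≤ K ⊔ R := le_sup_left
  have hRE : R ≤ K ⊔ R := le_sup_right
  have hfk : ∀ x (hx : x ∈ K ⊔ R), f ⟨x, hx⟩ = 1 → x ∈ 𝓒(V) := by
    intro x hx h
    rw [mem_cz]
    intro v hv
    have h1 := (actN_eq_iff hE ⟨x, hx⟩ ⟨v, hv⟩).1 (by rw [← hf, h]; rfl)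
    exact h1.symm
  obtain ⟨ρ, hρ⟩ : ∃ ρ, R = zpowers ρ := by
    haveI : Nontrivial R := Finite.one_lt_card_iff_nontrivial.1 (hR ▸ hr.one_lt)
    obtain ⟨⟨ρ, hρR⟩, hρ1⟩ := exists_ne (1 : R)
    exact ⟨ρ, (zpowers_of_prime (hR ▸ hr) hρR (fun h => hρ1 (Subtype.ext h))).symm⟩
  have hρR : ρ ∈ R := by rw [hρ]; exact mem_zpowers ρ
  by_cases hρ1 : f ⟨ρ, hRE hρR⟩ = 1
  · have h1 : R ≤ 𝓒(V) := by
      rw [hρ, zpowers_le]
      exact hfk ρ (hRE hρR) hρ1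
    refine (commutator_mono le_rfl h1).trans ?_
    exact comm_le_right (le_nz_cz hKV)
  set K' := (K.subgroupOf (K ⊔ R)).map f with hK'
  set R' := (R.subgroupOf (K ⊔ R)).map f with hR'
  have hρR' : f ⟨ρ, hRE hρR⟩ ∈ R' := mem_map_of_mem f hρR
  have hR'c : Nat.card R' = r := by
    have h1 : Nat.card R' ∣ r := by
      rw [← hR, ← card_subgroupOf hRE]
      exact card_map_dvd _ f
    rcases (Nat.dvd_prime hr).1 h1 with h2 | h2
    · exfalso
      apply hρ1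
      rw [Subgroup.card_eq_one] at h2
      rw [h2] at hρR'
      exact hρR'
    · exact h2
  have hK'c : Nat.card K' ∣ Nat.card K := by
    rw [← card_subgroupOf hKE]
    exact card_map_dvd _ f
  have hK's : Group.IsSolvable K' :=
    CfsgLib.Coprime.isSolvable_map f _ (CfsgLib.Coprime.isSolvable_subgroupOf _ _ hKs)
  have hR'p : (Nat.card R').Prime := by rw [hR'c]; exact hr
  have hR'z : R' = zpowers (f ⟨ρ, hRE hρR⟩) := (zpowers_of_prime hR'p hρR' hρ1).symm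
  have hmain : K' ≤ 𝓒(R') := by
    refine thm34g hVc' hp ?_ hr hrp hr2 hR'c hR'z ?_ hK's ?_ ?_ ?_ ?_
    · intro v
      exact Subtype.ext (hV.2 v v.2)
    · intro v hv
      have h1 : v.1 ∈ V ⊓ 𝓒(R) := by
        refine mem_inf.2 ⟨v.2, ?_⟩
        rw [hρ, cz_zpowers, mem_centralizer_singleton_iff]
        exact ((actN_eq_iff hE ⟨ρ, hRE hρR⟩ v).1 hv).symm
      rw [hfix, mem_bot] at h1
      exact Subtype.ext h1
    · exact Odd.of_dvd_nat hKodd hK'c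
    · intro h; exact hKp (h.trans hK'c)
    · rw [hR'c]
      rw [hR] at hcop
      exact hcop.coprime_dvd_right hK'c
    · exact (Subgroup.map_mono (nz_subgroupOf hRK)).trans (le_normalizer_map f)
  rw [commutator_le]
  intro k hk x hx
  have hkx : ⁅k, x⁆ ∈ K ⊔ R := by
    rw [commutatorElement_def]
    exact mul_mem (mul_mem (mul_mem (hKE hk) (hRE hx)) (inv_mem (hKE hk))) (inv_mem (hRE hx))
  apply hfk _ hkx
  have h1 : f ⟨k, hKE hk⟩ ∈ K' := mem_map_of_mem f hk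
  have h2 : f ⟨x, hRE hx⟩ ∈ R' := mem_map_of_mem f hx
  have h3 := mem_cz.1 (hmain h1) _ h2
  have h4 : (⟨⁅k, x⁆, hkx⟩ : ↥(K ⊔ R)) = ⁅(⟨k, hKE hk⟩ : ↥(K ⊔ R)), (⟨x, hRE hx⟩ : ↥(K ⊔ R))⁆ := rfl
  rw [h4, map_commutatorElement, commutatorElement_eq_one_iff_mul_comm]
  exact h3.symm

end CfsgLib.BGPi
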