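import Cfsg.Agent.EqBase
import Cfsg.Agent.LibBGThm34

/-! Linear algebra for B & G Theorem 3.6. -/

open scoped Pointwise commutatorElement
open Subgroup Cfsg Module

namespace CfsgLib.BGRep

variable {F M E : Type*} [Field F] [AddCommGroup M] [Module F M] [Group E] [Finite E]

theorem avg_sum_pow (π : E →* Module.End F M) {K : Subgroup E} [Fintype K] {ρ : E} {r : ℕ}
    (hr : 0 < r)
    (hn : ρ ∈ Subgroup.normalizer (K : Set E))
    (hfpf : ∀ i, 0 < i → i < r → ∀ x ∈ K, ρ ^ i * x * (ρ ^ i)⁻¹ = x → x = 1) :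
    ∃ s : Module.End F M, avg π K (∑ i ∈ Finset.range r, π (ρ ^ i)) =
      (Fintype.card K : F) • 1 + (∑ x : K, π x) * s := by
  classical
  set e : Module.End F M := ∑ x : K, π x with he
  obtain ⟨r', rfl⟩ := Nat.exists_eq_succ_of_ne_zero hr.ne'
  have h3 : ∀ i ∈ Finset.range r', avg π K (π (ρ ^ (i + 1))) = e * π (ρ ^ (i + 1)) := by
    intro i hi
    have hi1 : 0 < i + 1 := Nat.succ_pos _
    have hi2 : i + 1 < r' + 1 := Nat.succ_lt_succ (Finset.mem_range.1 hi)
    have hni : ρ ^ (i + 1) ∈ Subgroup.normalizer (K : Set E) := Subgroup.pow_mem _ hn _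
    have hc : ∀ x : K, ρ ^ (i + 1) * (x : E) * (ρ ^ (i + 1))⁻¹ ∈ K := fun x =>
      (Subgroup.mem_normalizer_iff.1 hni x).1 x.2
    let f : K → K := fun x => x * (⟨_, hc x⟩ : K)⁻¹
    have hf : Function.Injective f := by
      intro x y hxy
      have h3 : (x : E) * (ρ ^ (i + 1) * (x : E) * (ρ ^ (i + 1))⁻¹)⁻¹ =
          (y : E) * (ρ ^ (i + 1) * (y : E) * (ρ ^ (i + 1))⁻¹)⁻¹ := congrArg Subtype.val hxy
      have h4 : ρ ^ (i + 1) * ((y : E)⁻¹ * x) * (ρ ^ (i + 1))⁻¹ = (y : E)⁻¹ * x := by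
        have h5 : (y : E)⁻¹ * x = (ρ ^ (i + 1) * (y : E) * (ρ ^ (i + 1))⁻¹)⁻¹ *
            (ρ ^ (i + 1) * (x : E) * (ρ ^ (i + 1))⁻¹) := by
          rw [eq_comm, ← eq_mul_inv_iff_mul_eq, eq_comm, mul_assoc, h3]
          group
        conv_rhs => rw [h5]
        group
      have h5 := hfpf (i + 1) hi1 hi2 _ (K.mul_mem (K.inv_mem y.2) x.2) h4
      exact Subtype.ext (inv_mul_eq_one.1 h5).symm
    have hb : Function.Bijective f := Finite.injective_iff_bijective.1 hf
    rw [avg]
    have h3 : ∀ x : K, π x * π (ρ ^ (i + 1)) * π (x : E)⁻¹ = π (f x) * π (ρ ^ (i + 1)) := by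
      intro x
      rw [← map_mul, ← map_mul, ← map_mul]
      congr 1
      show _ = (x : E) * (ρ ^ (i + 1) * (x : E) * (ρ ^ (i + 1))⁻¹)⁻¹ * ρ ^ (i + 1)
      group
    simp only [h3]
    rw [← Finset.sum_mul]
    have h4 : ∑ x : K, π (f x) = ∑ x : K, π x :=
      Fintype.sum_equiv (Equiv.ofBijective f hb) _ _ fun x => rfl
    rw [h4]
  have h4 : avg π K (π (ρ ^ 0)) = (Fintype.card K : F) • 1 := by
    rw [pow_zero, map_one]
    apply avg_of_comm
    intro x _
    rw [mul_one, one_mul]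
  refine ⟨∑ i ∈ Finset.range r', π (ρ ^ (i + 1)), ?_⟩
  rw [avg_sum, Finset.sum_range_succ', h4, Finset.sum_congr rfl h3, ← Finset.mul_sum, add_comm]

theorem nrm_fixed (π : E →* Module.End F M) {ρ : E} {r : ℕ} (hpw : ρ ^ r = 1) (v : M) :
    π ρ ((∑ i ∈ Finset.range r, π (ρ ^ i)) v) = (∑ i ∈ Finset.range r, π (ρ ^ i)) v := by
  rw [LinearMap.sum_apply, map_sum]
  have h1 : ∀ i, π ρ (π (ρ ^ i) v) = π (ρ ^ (i + 1)) v := by
    intro i
    rw [pow_succ', map_mul, Module.End.mul_apply]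
  simp only [h1]
  have h2 := Finset.sum_range_succ (fun i => π (ρ ^ i) v) r
  rw [Finset.sum_range_succ', hpw, pow_zero] at h2
  exact add_right_cancel h2

/-- if `ρ` has at most one-dimensional fixed space and acts without fixed points on the
central subgroup `Z` then commutators lying in `Z` act trivially -/
theorem rank_one_comm (π : E →* Module.End F M) {Z : Subgroup E} {ρ : E} {r : ℕ}
    (hr : 0 < r) (hn : ρ ∈ Subgroup.normalizer (Z : Set E)) (hpw : ρ ^ r = 1)
    (hfpf : ∀ i, 0 < i → i < r → ∀ x ∈ Z, ρ ^ i * x * (ρ ^ i)⁻¹ = x → x = 1)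
    (hZab : ∀ z ∈ Z, ∀ z' ∈ Z, z * z' = z' * z)
    (hZF : (Nat.card Z : F) ≠ 0) {w : M} (hw : ∀ v, π ρ v = v → ∃ c : F, v = c • w)
    {x y : E} (hx : ∀ z ∈ Z, x * z = z * x) (hy : ∀ z ∈ Z, y * z = z * y)
    (hc : x * y * x⁻¹ * y⁻¹ ∈ Z) : π (x * y * x⁻¹ * y⁻¹) = 1 := by
  classical
  haveI := Fintype.ofFinite Z
  set c := x * y * x⁻¹ * y⁻¹ with hcdef
  have hxc := hx c hc
  have hyc := hy c hc
  set N : Module.End F M := ∑ i ∈ Finset.range r, π (ρ ^ i) with hN
  obtain ⟨s, hs⟩ := avg_sum_pow π (K := Z) hr hn hfpf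
  set e : Module.End F M := ∑ z : Z, π z with he
  set δ : Module.End F M := π c - 1 with hδ
  have hZF' : (Fintype.card Z : F) ≠ 0 := by rwa [← Nat.card_eq_fintype_card]
  have hδe : δ * e = 0 := by
    have : π c * e = e := by
      rw [he, Finset.mul_sum]
      refine Fintype.sum_equiv (Equiv.mulLeft ⟨c, hc⟩) _ _ fun y => ?_
      simp only [Equiv.coe_mulLeft, Subgroup.coe_mul, map_mul]
    rw [hδ, sub_mul, one_mul, this, sub_self]
  have hδZ : ∀ g : E, g * c = c * g → π g * δ = δ * π g := by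
    intro g hg
    rw [hδ, mul_sub, sub_mul, ← map_mul, ← map_mul, hg, mul_one, one_mul]
  have hNv : ∀ v, ∃ a : F, N v = a • w := fun v => hw _ (nrm_fixed π hpw v)
  choose f hf using hNv
  have hcz : ∀ z ∈ Z, z * c = c * z := by
    intro z hz
    rw [hcdef]
    calc z * (x * y * x⁻¹ * y⁻¹) = (z * x) * y * x⁻¹ * y⁻¹ := by group
      _ = x * (z * y) * x⁻¹ * y⁻¹ := by rw [← hx z hz]; group
      _ = x * y * (z * x⁻¹) * y⁻¹ := by rw [← hy z hz]; group
      _ = x * y * x⁻¹ * (z * y⁻¹) := by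
          have : z * x⁻¹ = x⁻¹ * z := by
            rw [eq_inv_mul_iff_mul_eq, ← mul_assoc, hx z hz, mul_inv_cancel_right]
          rw [this]; group
      _ = x * y * x⁻¹ * y⁻¹ * z := by
          have : z * y⁻¹ = y⁻¹ * z := by
            rw [eq_inv_mul_iff_mul_eq, ← mul_assoc, hy z hz, mul_inv_cancel_right]
          rw [this]; group
  -- the key formula
  let A : M → Module.End F M := fun v => ∑ z : Z, f (π (z : E)⁻¹ v) • π z
  have hkey : ∀ v, (Fintype.card Z : F) • δ v = A v (δ w) := by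
    intro v
    have h1 : (δ * avg π Z N) v = (Fintype.card Z : F) • δ v := by
      rw [hs, mul_add, ← mul_assoc, hδe, zero_mul, add_zero, mul_smul_comm, mul_one]
      rfl
    rw [← h1, Module.End.mul_apply, avg, LinearMap.sum_apply, map_sum]
    show _ = (∑ z : Z, f (π (z : E)⁻¹ v) • π z) (δ w)
    rw [LinearMap.sum_apply]
    refine Finset.sum_congr rfl fun z _ => ?_
    rw [Module.End.mul_apply, Module.End.mul_apply, hf, map_smul, map_smul, LinearMap.smul_apply]
    congr 1
    have := LinearMap.congr_fun (hδZ z (hcz z z.2)) w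
    rw [Module.End.mul_apply, Module.End.mul_apply] at this
    exact this.symm
  have hAcomm : ∀ (v : M) (g : E), (∀ z ∈ Z, g * z = z * g) → π g * A v = A v * π g := by
    intro v g hg
    show π g * (∑ z : Z, f (π (z : E)⁻¹ v) • π z) = (∑ z : Z, f (π (z : E)⁻¹ v) • π z) * π g
    rw [Finset.mul_sum, Finset.sum_mul]
    refine Finset.sum_congr rfl fun z _ => ?_
    rw [mul_smul_comm, smul_mul_assoc, ← map_mul, ← map_mul, hg z z.2]
  have hAδ : ∀ v, A v * δ = δ * A v := by
    intro v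
    have := hAcomm v c (fun z hz => (hcz z hz).symm)
    rw [hδ, mul_sub, sub_mul, this, mul_one, one_mul]
  set w₁ := δ w with hw₁
  set n : F := (Fintype.card Z : F) with hn'
  -- action of `x` and `y` on `w₁`
  have hX : n • π x w₁ = A (π x w) w₁ := by
    rw [← hkey, hw₁]
    have := LinearMap.congr_fun (hδZ x hxc) w
    rw [Module.End.mul_apply, Module.End.mul_apply] at this
    rw [this]
  have hY : n • π y w₁ = A (π y w) w₁ := by
    rw [← hkey, hw₁]
    have := LinearMap.congr_fun (hδZ y hyc) w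
    rw [Module.End.mul_apply, Module.End.mul_apply] at this
    rw [this]
  have happ : ∀ (a b : Module.End F M) (v : M), a * b = b * a → a (b v) = b (a v) := by
    intro a b v h
    rw [← Module.End.mul_apply, h, Module.End.mul_apply]
  have hXY : n • (n • π x (π y w₁)) = A (π y w) (A (π x w) w₁) := by
    calc n • (n • π x (π y w₁)) = n • π x (n • π y w₁) := by rw [map_smul]
      _ = n • π x (A (π y w) w₁) := by rw [hY]
      _ = n • A (π y w) (π x w₁) := by rw [happ _ _ _ (hAcomm (π y w) x hx)]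
      _ = A (π y w) (n • π x w₁) := by rw [map_smul]
      _ = _ := by rw [hX]
  -- `x A = A x` on `w₁`: iterate
  have hYX : n • (n • π y (π x w₁)) = A (π x w) (A (π y w) w₁) := by
    calc n • (n • π y (π x w₁)) = n • π y (n • π x w₁) := by rw [map_smul]
      _ = n • π y (A (π x w) w₁) := by rw [hX]
      _ = n • A (π x w) (π y w₁) := by rw [happ _ _ _ (hAcomm (π x w) y hy)]
      _ = A (π x w) (n • π y w₁) := by rw [map_smul]
      _ = _ := by rw [hY]
  have hAA : A (π y w) * A (π x w) = A (π x w) * A (π y w) := by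
    show (∑ z : Z, f (π (z : E)⁻¹ (π y w)) • π z) * A (π x w) =
      A (π x w) * (∑ z : Z, f (π (z : E)⁻¹ (π y w)) • π z)
    rw [Finset.mul_sum, Finset.sum_mul]
    refine Finset.sum_congr rfl fun z _ => ?_
    rw [mul_smul_comm, smul_mul_assoc, hAcomm _ z (hZab z z.2)]
  have hxy : π x (π y w₁) = π y (π x w₁) := by
    apply smul_right_injective M hZF'
    apply smul_right_injective M hZF'
    show n • (n • π x (π y w₁)) = n • (n • π y (π x w₁))
    rw [hXY, hYX, happ _ _ _ hAA]
  have hδw : π c w₁ = w₁ := by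
    have h1 : x * y = (y * x) * c := by
      have h2 : x * y = c * (y * x) := by rw [hcdef]; group
      rw [h2, ← mul_assoc, ← hyc, mul_assoc, ← hxc, mul_assoc]
    have h3 : π (y * x) (π c w₁) = π (y * x) w₁ := by
      rw [← Module.End.mul_apply, ← map_mul, ← h1, map_mul, map_mul, Module.End.mul_apply,
        Module.End.mul_apply, hxy]
    have h4 := congrArg (π (y * x)⁻¹) h3
    have h5 : ∀ u, π (y * x)⁻¹ (π (y * x) u) = u := by
      intro u
      rw [← Module.End.mul_apply, pi_inv, Module.End.one_apply]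
    rw [h5, h5] at h4
    exact h4
  have hδw' : δ w₁ = 0 := by
    rw [hδ, LinearMap.sub_apply, Module.End.one_apply, hδw, sub_self]
  have hδδ : δ * δ = 0 := by
    ext v
    apply smul_right_injective M hZF'
    show n • (δ * δ) v = n • (0 : Module.End F M) v
    rw [Module.End.mul_apply, ← map_smul, hkey, happ _ _ _ (hAδ v).symm, hδw', map_zero,
      LinearMap.zero_apply, smul_zero]
  have hpow : ∀ m : ℕ, (1 + δ) ^ m = 1 + (m : F) • δ := by
    intro m
    induction m with
    | zero => simp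
    | succ m ih =>
      rw [pow_succ, ih, mul_add, mul_one, add_mul, one_mul, smul_mul_assoc, hδδ, smul_zero,
        add_zero, Nat.cast_succ, add_smul, one_smul, add_assoc]
  have hm := hpow (orderOf c)
  rw [hδ, add_sub_cancel, ← map_pow, pow_orderOf_eq_one, map_one] at hm
  have hm' : (orderOf c : F) • (π c - 1) = 0 := by
    rw [eq_comm, add_eq_left] at hm
    exact hm
  rcases smul_eq_zero.1 hm' with h | h
  · exfalso
    apply hZF
    have h1 : orderOf c ∣ Nat.card Z := by
      have h2 : orderOf (⟨c, hc⟩ : Z) ∣ Nat.card Z := orderOf_dvd_natCard _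
      rwa [← Subgroup.orderOf_coe] at h2
    obtain ⟨d, hd⟩ := h1
    rw [hd, Nat.cast_mul, h, zero_mul]
  · exact sub_eq_zero.1 h

end CfsgLib.BGRep
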