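import Cfsg.Agent.EqBase
import Cfsg.Agent.LibBGThm36a

/-! Combinatorics for B & G Theorem 3.6. -/

open scoped Pointwise commutatorElement
open Subgroup Cfsg Module

namespace CfsgLib.BGRep

open CfsgLib.BGPi

section indep
variable {F M E : Type*} [Field F] [AddCommGroup M] [Module F M] [Group E]

/-- elements acting trivially on `v` -/
def stabE (π : E →* Module.End F M) (v : M) : Subgroup E where
  carrier := {x | π x v = v}
  one_mem' := by
    show π 1 v = v
    rw [map_one, Module.End.one_apply]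
  mul_mem' := by
    intro a b ha hb
    show π (a * b) v = v
    rw [map_mul, Module.End.mul_apply, show π b v = v from hb, show π a v = v from ha]
  inv_mem' := by
    intro a ha
    show π a⁻¹ v = v
    have ha' : π a v = v := ha
    conv_lhs => rw [← ha']
    rw [← Module.End.mul_apply, ← map_mul, inv_mul_cancel, map_one, Module.End.one_apply]

theorem mem_stabE {π : E →* Module.End F M} {v : M} {x : E} : x ∈ stabE π v ↔ π x v = v := Iff.rfl

/-- independence of fixed spaces -/
theorem indep_fixed (π : E →* Module.End F M) {K : Subgroup E}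
    (hKab : ∀ a ∈ K, ∀ b ∈ K, a * b = b * a)
    (hK : ∀ v : M, (∀ x ∈ K, π x v = v) → v = 0) {ι : Type*} [DecidableEq ι] (I : Finset ι)
    (B : ι → Subgroup E) (hB : ∀ i ∈ I, B i ≤ K)
    (hBB : ∀ i ∈ I, ∀ j ∈ I, i ≠ j → K ≤ B i ⊔ B j) :
    ∀ (u : ι → M), (∀ i ∈ I, ∀ b ∈ B i, π b (u i) = u i) → ∑ i ∈ I, u i = 0 →
      ∀ i ∈ I, u i = 0 := by
  induction I using Finset.induction_on with
  | empty => intro u _ _ i hi; exact absurd hi (Finset.notMem_empty i)
  | insert j I hj ih =>
    intro u hu hsum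
    rw [Finset.sum_insert hj] at hsum
    have hI : ∀ i ∈ I, u i = 0 := by
      intro i hi
      have hij : i ≠ j := by rintro rfl; exact hj hi
      apply hK
      have h1 : ∀ b ∈ B j, π b (u i) = u i := by
        intro b hb
        have h2 := ih (fun i hi => hB i (Finset.mem_insert_of_mem hi))
          (fun i hi k hk => hBB i (Finset.mem_insert_of_mem hi) k (Finset.mem_insert_of_mem hk))
          (fun i => π b (u i) - u i) (by
            intro k hk c hc
            have hbK := hB j (Finset.mem_insert_self j I) hb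
            have hcK := hB k (Finset.mem_insert_of_mem hk) hc
            rw [map_sub, ← Module.End.mul_apply, ← map_mul, hKab c hcK b hbK, map_mul,
              Module.End.mul_apply, hu k (Finset.mem_insert_of_mem hk) c hc])
          (by
            rw [Finset.sum_sub_distrib, ← map_sum]
            have h3 : ∑ i ∈ I, u i = - u j := by
              rw [eq_neg_iff_add_eq_zero, add_comm]; exact hsum
            rw [h3, map_neg, hu j (Finset.mem_insert_self j I) b hb, sub_self]) i hi
        exact sub_eq_zero.1 h2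
      have h2 : K ≤ stabE π (u i) := by
        refine (hBB i (Finset.mem_insert_of_mem hi) j (Finset.mem_insert_self j I) hij).trans ?_
        exact sup_le (fun b hb => hu i (Finset.mem_insert_of_mem hi) b hb) (fun b hb => h1 b hb)
      intro x hx
      exact h2 hx
    intro i hi
    rcases Finset.mem_insert.1 hi with rfl | hi
    · rw [Finset.sum_eq_zero hI, add_zero] at hsum
      exact hsum
    · exact hI i hi

end indep

section action

variable {E : Type*} [Group E] [Finite E] {X : Type*} [MulAction E X]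

theorem act_lemma {P R : Subgroup E} {p r : ℕ} (hp : p.Prime) (hp2 : p ≠ 2)
    (hr : r.Prime) (hr2 : r ≠ 2) (hrp : r ≠ p) {ρ : E} (hR : Nat.card R = r)
    (hρ : R = zpowers ρ) (hP : IsPGroup p P) (hRP : R ≤ 𝓝(P)) (hPR : P ⊓ 𝓒(R) = ⊥) (Λ : Set X)
    (hΛP : ∀ x ∈ P, ∀ b ∈ Λ, x • b ∈ Λ) (hΛR : ∀ b ∈ Λ, ρ • b ∈ Λ)
    (huniq : ∀ b ∈ Λ, ∀ b' ∈ Λ, ρ • b ≠ b → ρ • b' ≠ b' → ∃ j : ℕ, b' = ρ ^ j • b) :
    ∀ b ∈ Λ, ∀ x ∈ P, x • b = b := by
  classical
  haveI : Fact p.Prime := ⟨hp⟩
  have hρR : ρ ∈ R := by rw [hρ]; exact mem_zpowers ρ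
  have hcop : (Nat.card R).Coprime (Nat.card P) := by
    obtain ⟨k, hk⟩ := IsPGroup.iff_card.1 hP
    rw [hR, hk]
    exact ((Nat.coprime_primes hr hp).2 hrp).pow_right k
  haveI := hP.isNilpotent
  have hPs : Group.IsSolvable P := inferInstance
  have hcomm : ⁅P, R⁆ = P := by
    have := cop_comm_sup hRP hcop hPs
    rwa [hPR, sup_bot_eq] at this
  intro b hb
  set O : Set X := {y | ∃ x ∈ P, x • b = y} with hO
  have hOΛ : O ⊆ Λ := by rintro _ ⟨x, hx, rfl⟩; exact hΛP x hx b hb
  have hOP : ∀ x ∈ P, ∀ y ∈ O, x • y ∈ O := by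
    rintro x hx _ ⟨z, hz, rfl⟩
    exact ⟨x * z, P.mul_mem hx hz, mul_smul _ _ _⟩
  have hbO : b ∈ O := ⟨1, P.one_mem, one_smul _ _⟩
  have hOtr : ∀ s ∈ O, ∀ t ∈ O, ∃ k ∈ P, k • s = t := by
    rintro _ ⟨x, hx, rfl⟩ _ ⟨y, hy, rfl⟩
    exact ⟨y * x⁻¹, P.mul_mem hy (P.inv_mem hx), by rw [mul_smul, inv_smul_smul]⟩
  have hOn : ∀ g ∈ R, g • b ∈ O → ∀ y ∈ O, g • y ∈ O := by
    rintro g hg hgb _ ⟨x, hx, rfl⟩
    have h1 : g • x • b = (g * x * g⁻¹) • g • b := by
      rw [← mul_smul, ← mul_smul]; congr 1; group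
    rw [h1]
    exact hOP _ ((mem_normalizer_iff.1 (hRP hg) x).1 hx) _ hgb
  by_cases hρO : ρ • b ∈ O
  · have hOR : ∀ a ∈ R, ∀ y ∈ O, a • y ∈ O := by
      have h1 := hOn ρ hρR hρO
      have h2 : ∀ n : ℕ, ∀ y ∈ O, ρ ^ n • y ∈ O := by
        intro n
        induction n with
        | zero => intro y hy; rwa [pow_zero, one_smul]
        | succ n ih => intro y hy; rw [pow_succ, mul_smul]; exact ih _ (h1 y hy)
      intro a ha y hy
      rw [hρ] at ha
      rw [mem_zpowers_iff_mem_range_orderOf, Finset.mem_image] at ha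
      obtain ⟨n, -, rfl⟩ := ha
      exact h2 n y hy
    by_cases hall : ∀ y ∈ O, ρ • y = y
    · have hall' : ∀ a ∈ R, ∀ y ∈ O, a • y = y := by
        intro a ha y hy
        have : R ≤ MulAction.stabilizer E y := by
          rw [hρ, zpowers_le]; exact hall y hy
        exact this ha
      have h1 : P ≤ MulAction.stabilizer E b := by
        rw [← hcomm, commutator_le]
        intro x hx a ha
        rw [MulAction.mem_stabilizer_iff, commutatorElement_def, mul_smul, mul_smul, mul_smul,
          hall' _ (R.inv_mem ha) b hbO, hall' a ha _ (hOP _ (P.inv_mem hx) b hbO),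
          smul_inv_smul]
      exact fun x hx => h1 hx
    · exfalso
      push Not at hall
      obtain ⟨y₀, hy₀, hy₀'⟩ := hall
      obtain ⟨s, hsO, hs⟩ := CfsgLib.Coprime.glauberman_exists_fixed hRP hcop (Or.inr hPs) O
        ⟨b, hbO⟩ hOR hOP hOtr
      -- `O` consists of the orbit of `y₀` and `s`
      have hOeq : O = insert s (MulAction.orbit R y₀) := by
        ext y
        rw [Set.mem_insert_iff]
        constructor
        · intro hy
          by_cases hyρ : ρ • y = y
          · left
            have hyR : ∀ a ∈ R, a • y = y := by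
              intro a ha
              have : R ≤ MulAction.stabilizer E y := by rw [hρ, zpowers_le]; exact hyρ
              exact this ha
            obtain ⟨k, hk, hks⟩ := hOtr s hsO y hy
            obtain ⟨c, hc, hcs⟩ := CfsgLib.Coprime.glauberman_fixed_conj hRP hcop (Or.inr hPs)
              hs hyR hk hks
            rw [hPR, mem_bot] at hc
            rw [hc, one_smul] at hcs
            exact hcs.symm
          · right
            obtain ⟨j, hj⟩ := huniq y₀ (hOΛ hy₀) y (hOΛ hy) hy₀' hyρ
            exact ⟨⟨ρ ^ j, R.pow_mem hρR j⟩, hj.symm⟩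
        · rintro (rfl | ⟨⟨a, ha⟩, rfl⟩)
          · exact hsO
          · exact hOR a ha y₀ hy₀
      have hsn : s ∉ MulAction.orbit R y₀ := by
        rintro ⟨⟨a, ha⟩, rfl⟩
        apply hy₀'
        have h1 : a⁻¹ • a • y₀ = a • y₀ := hs a⁻¹ (R.inv_mem ha)
        rw [inv_smul_smul] at h1
        rw [h1]; exact hs ρ hρR
      have hcardΩ : (MulAction.orbit R y₀).ncard = r := by
        rw [← MulAction.index_stabilizer]
        have h1 : (MulAction.stabilizer R y₀).index ∣ r := by
          rw [← hR]; exact Subgroup.index_dvd_card _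
        rcases (Nat.dvd_prime hr).1 h1 with h2 | h2
        · exfalso
          rw [Subgroup.index_eq_one] at h2
          have : (⟨ρ, hρR⟩ : R) ∈ MulAction.stabilizer R y₀ := by rw [h2]; trivial
          exact hy₀' this
        · exact h2
      have hfinΩ : (MulAction.orbit R y₀).Finite := Set.finite_range _
      have hcardO : O.ncard = r + 1 := by
        rw [hOeq, Set.ncard_insert_of_notMem hsn hfinΩ, hcardΩ]
      have hOorb : O = MulAction.orbit P b := by
        ext y
        constructor
        · rintro ⟨x, hx, rfl⟩; exact ⟨⟨x, hx⟩, rfl⟩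
        · rintro ⟨⟨x, hx⟩, rfl⟩; exact ⟨x, hx, rfl⟩
      obtain ⟨k, hk⟩ := hP.index (MulAction.stabilizer P b)
      rw [MulAction.index_stabilizer, ← hOorb, hcardO] at hk
      have hodd : Odd (p ^ k) := (hp.odd_of_ne_two hp2).pow
      rw [← hk] at hodd
      exact (Nat.not_even_iff_odd.2 hodd) ((hr.odd_of_ne_two hr2).add_one)
  · intro x hx
    by_contra hxb
    have h1 : ρ • b ≠ b := fun h => hρO (by rw [h]; exact hbO)
    have h2 : ρ • x • b ≠ x • b := by
      intro h
      apply hρO
      have h3 : ρ • b = (ρ * x⁻¹ * ρ⁻¹) • x • b := by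
        conv_rhs => rw [← h]
        rw [← mul_smul, ← mul_smul]; congr 1; group
      rw [h3]
      exact hOP _ ((mem_normalizer_iff.1 (hRP hρR) x⁻¹).1 (P.inv_mem hx)) _ (hOP x hx b hbO)
    obtain ⟨j, hj⟩ := huniq b hb (x • b) (hΛP x hx b hb) h1 h2
    have hj1 : ρ ^ j ≠ 1 := by
      intro h
      rw [h, one_smul] at hj
      exact hxb hj
    have h3 : zpowers (ρ ^ j) = R := zpowers_of_prime (hR ▸ hr) (R.pow_mem hρR j) hj1
    have h4 : ∀ n : ℕ, (ρ ^ j) ^ n • b ∈ O := by
      have h5 : ρ ^ j • b ∈ O := by rw [← hj]; exact hOP x hx b hbO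
      intro n
      induction n with
      | zero => rwa [pow_zero, one_smul]
      | succ n ih =>
        rw [pow_succ', mul_smul]
        exact hOn _ (R.pow_mem hρR j) h5 _ ih
    have h5 : ρ ∈ zpowers (ρ ^ j) := by rw [h3]; exact hρR
    rw [mem_zpowers_iff_mem_range_orderOf, Finset.mem_image] at h5
    obtain ⟨n, -, hn⟩ := h5
    exact hρO (by rw [← hn]; exact h4 n)

end action

end CfsgLib.BGRep
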