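import Cfsg.Agent.EqBase
import Cfsg.Agent.LibBGThm36b
import Cfsg.Agent.LibBGQm
import Cfsg.Agent.LibH2Solv

/-! B & G Theorem 3.6: group-theoretic core. -/

open scoped Pointwise commutatorElement
open Subgroup Cfsg

namespace CfsgLib.BGPi

universe u
variable {G : Type u} [Group G] [Finite G]

theorem comm_le_cz_cyclic {A C : Subgroup G} (hC : IsCyclic C) (hAC : A ≤ 𝓝(C)) :
    ⁅A, A⁆ ≤ 𝓒(C) := by
  have hCn : C ≤ 𝓝(C) := le_normalizer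
  haveI : (C.subgroupOf 𝓝(C)).Normal := normal_subgroupOf hCn le_rfl
  haveI : IsCyclic (C.subgroupOf 𝓝(C)) :=
    isCyclic_of_surjective (Subgroup.subgroupOfEquivOfLe hCn).symm
      (Subgroup.subgroupOfEquivOfLe hCn).symm.surjective
  have h1 := CfsgLib.H2Solv.commutator_le_centralizer_of_isCyclic (C.subgroupOf 𝓝(C))
  rw [commutator_le]
  intro a ha b hb
  have h2 : ⁅(⟨a, hAC ha⟩ : ↥𝓝(C)), (⟨b, hAC hb⟩ : ↥𝓝(C))⁆ ∈ commutator ↥𝓝(C) :=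
    commutator_mem_commutator (mem_top _) (mem_top _)
  have h3 := h1 h2
  rw [mem_centralizer_iff] at h3
  rw [mem_cz]
  intro c hc
  exact congrArg Subtype.val (h3 ⟨c, hCn hc⟩ hc)

/-- action on a section of prime order -/
theorem comm_mod_prime {A K B : Subgroup G} {q : ℕ} (hq : q.Prime) (hKB : K ≤ 𝓝(B))
    (hAB : A ≤ 𝓝(B)) (hAK : A ≤ 𝓝(K)) (hi : B.relIndex K = q) : ⁅K, ⁅A, A⁆⁆ ≤ B := by
  have hc : Nat.card (qm B K) = q := by rw [qm_card hKB, hi]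
  haveI : Fact q.Prime := ⟨hq⟩
  have hcyc : IsCyclic (qm B K) := isCyclic_of_prime_card hc
  have h1 := comm_le_cz_cyclic hcyc (qm_nz hAK)
  rw [← qm_comm hAB hAB, le_cz_comm] at h1
  rw [← qm_cz_iff hKB]
  · exact h1
  · exact (comm_self_le A).trans hAB

theorem thm34_mod {p r : ℕ} (hp : p.Prime) (hr : r.Prime) (hrp : r ≠ p) (hr2 : r ≠ 2)
    {V W K R : Subgroup G} (hVW : V ≤ 𝓝(W)) (hKW : K ≤ 𝓝(W)) (hRW : R ≤ 𝓝(W))
    (hWV : W ≤ V) (hVc : ⁅V, V⁆ ≤ W) (hVp : ∀ v ∈ V, v ^ p ∈ W) (hVs : Group.IsSolvable V)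
    (hR : Nat.card R = r) (hcopV : (Nat.card R).Coprime (Nat.card V))
    (hKs : Group.IsSolvable K) (hKodd : Odd (Nat.card K)) (hKp : ¬ p ∣ Nat.card K)
    (hcop : (Nat.card R).Coprime (Nat.card K)) (hRK : R ≤ 𝓝(K)) (hKV : K ≤ 𝓝(V))
    (hRV : R ≤ 𝓝(V)) (hfix : V ⊓ 𝓒(R) ≤ W) : ⁅V, ⁅K, R⁆⁆ ≤ W := by
  have hRW0 : R ⊓ W = ⊥ := by
    rw [eq_bot_iff, ← cop_inf hcopV]
    exact inf_le_inf_left _ hWV
  have hRc : Nat.card (qm W R) = r := by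
    rw [qm_card hRW, ← hR, ← inf_relIndex_right, inf_comm, hRW0, relIndex_bot_left]
  have hcd := qm_card_dvd hKW
  have hV' : IsElementaryAbelian p (qm W V) := by
    rw [elab_iff]
    refine ⟨(qm_cz_iff hVW hVW).2 hVc, ?_⟩
    intro y hy
    obtain ⟨v, hv, hvV, rfl⟩ := mem_qm.1 hy
    have : (qe W hv) ^ p = qe W (pow_mem hv p) := rfl
    rw [this, qe_eq_one]
    exact hVp v hvV
  have h1 := thm34 hp hr hrp hr2 hV' hRc (qm_solvable hKs) (Odd.of_dvd_nat hKodd hcd)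
    (fun h => hKp (h.trans hcd)) (by rw [hRc, ← hR]; exact hcop.coprime_dvd_right hcd) (qm_nz hRK)
    (qm_nz hKV) (qm_nz hRV) (by
      rw [eq_bot_iff]
      intro y hy
      obtain ⟨v, hv, hvV, rfl⟩ := mem_qm.1 (mem_inf.1 hy).1
      have h2 : ⁅zpowers v, R⁆ ≤ W := by
        rw [← qm_cz_iff (zpowers_le.2 hv) hRW, qm_zpowers hv, zpowers_le]
        exact (mem_inf.1 hy).2
      have h3 := cop_quot_cz hRV hcopV hVs hWV hRW (zpowers_le.2 hvV) (zpowers_le.2 hv) h2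
      rw [sup_eq_left.2 hfix] at h3
      rw [mem_bot, qe_eq_one]
      exact h3 (mem_zpowers v))
  rw [← qm_comm hKW hRW, le_cz_comm] at h1
  rw [← qm_cz_iff hVW]
  · exact h1
  · rw [commutator_le]
    intro a ha b hb
    exact mul_mem (mul_mem (mul_mem (hKW ha) (hRW hb)) (inv_mem (hKW ha))) (inv_mem (hRW hb))

end CfsgLib.BGPi
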