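import Cfsg.Agent.EqBase
import Cfsg.Agent.LibBGThm36c

/-! B & G Theorem 3.6: the abelian case. -/

open scoped Pointwise commutatorElement
open Subgroup Cfsg Module

namespace CfsgLib.BGRep

open CfsgLib.BGPi

section orb
universe u
variable {F M : Type*} {E : Type u} [Field F] [AddCommGroup M] [Module F M] [Group E] [Finite E]

/-- hyperplanes -/
def IsHyp (q : ℕ) (K B : Subgroup E) : Prop := B ≤ K ∧ B.relIndex K = q

theorem IsHyp.cj {q : ℕ} {K B : Subgroup E} (h : IsHyp q K B) {g : E} (hg : g ∈ 𝓝(K)) :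
    IsHyp q K (B ^ᵍ g) := by
  have h1 : K ^ᵍ g = K := mem_nz.1 hg
  refine ⟨by rw [← h1]; exact cj_mono h.1 g, ?_⟩
  conv_lhs => rw [← h1]
  rw [relIndex_cj]; exact h.2

theorem IsHyp.sup {q : ℕ} (hq : q.Prime) {K B B' : Subgroup E} (h : IsHyp q K B)
    (h' : IsHyp q K B') (hne : B ≠ B') : K ≤ B ⊔ B' := by
  have h1 : B ≤ B ⊔ B' := le_sup_left
  have h2 : B ⊔ B' ≤ K := sup_le h.1 h'.1
  have h3 := relIndex_mul_relIndex B (B ⊔ B') K h1 h2
  rw [h.2] at h3
  have h4 : (B ⊔ B').relIndex K ∣ q := Dvd.intro_left _ h3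
  rcases (Nat.dvd_prime hq).1 h4 with h5 | h5
  · rwa [relIndex_eq_one] at h5
  · exfalso
    rw [h5] at h3
    have h6 : B.relIndex (B ⊔ B') = 1 := by
      have := hq.pos
      exact Nat.eq_of_mul_eq_mul_right hq.pos (by rw [h3, one_mul])
    rw [relIndex_eq_one] at h6
    have h7 : B' ≤ B := le_sup_right.trans h6
    apply hne
    symm
    apply eq_of_card_le h7
    have h8 := card_mul_relIndex h.1
    have h9 := card_mul_relIndex h'.1
    rw [h.2] at h8
    rw [h'.2, ← h8] at h9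
    exact (Nat.eq_of_mul_eq_mul_right hq.pos h9).ge

variable (π : E →* Module.End F M) {K B B' : Subgroup E} {ρ : E} {q r : ℕ}

theorem fixed_cj {v : M} (hv : ∀ b ∈ B, π b v = v) (g : E) : ∀ b ∈ B ^ᵍ g, π b (π g v) = π g v := by
  intro b hb
  have h1 := mem_cj.1 hb
  rw [← Module.End.mul_apply, ← map_mul]
  have h2 : b * g = g * (g⁻¹ * b * g) := by group
  rw [h2, map_mul, Module.End.mul_apply, hv _ h1]

theorem pow_cj_ne (hr : r.Prime) (hpw : ρ ^ r = 1) (hB : ρ ∉ 𝓝(B)) {i j : ℕ} (hi : i < r)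
    (hj : j < r) (hij : i ≠ j) : B ^ᵍ (ρ ^ i) ≠ B ^ᵍ (ρ ^ j) := by
  wlog h : i < j generalizing i j
  · exact (this hj hi hij.symm (lt_of_le_of_ne (not_lt.1 h) hij.symm)).symm
  intro he
  apply hB
  have h1 : ρ ^ (j - i) ∈ 𝓝(B) := by
    rw [mem_nz]
    have h2 : ρ ^ j = ρ ^ i * ρ ^ (j - i) := by rw [← pow_add]; congr 1; omega
    rw [h2, cj_mul, cj_inj] at he
    exact he.symm
  have hρ1 : ρ ≠ 1 := by rintro rfl; exact hB (one_mem _)
  have hord : orderOf ρ = r := by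
    rcases (Nat.dvd_prime hr).1 (orderOf_dvd_of_pow_eq_one hpw) with h2 | h2
    · exact absurd (orderOf_eq_one_iff.1 h2) hρ1
    · exact h2
  have h2 : ρ ^ (j - i) ≠ 1 := pow_ne_one_of_lt_orderOf (by omega) (by omega)
  have h3 : zpowers (ρ ^ (j - i)) = zpowers ρ :=
    zpowers_of_prime (by rw [Nat.card_zpowers, hord]; exact hr) (pow_mem (mem_zpowers ρ) _) h2
  have h4 : zpowers ρ ≤ 𝓝(B) := by rw [← h3, zpowers_le]; exact h1
  exact h4 (mem_zpowers ρ)

theorem orb1 (hr : r.Prime) (hq : q.Prime) (hpw : ρ ^ r = 1) (hKab : ∀ a ∈ K, ∀ b ∈ K, a * b = b * a)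
    (hK : ∀ v : M, (∀ x ∈ K, π x v = v) → v = 0) (hρK : ρ ∈ 𝓝(K)) (hB : IsHyp q K B)
    (hρB : ρ ∉ 𝓝(B)) {v : M} (hv : ∀ b ∈ B, π b v = v)
    (hN : ∑ i ∈ Finset.range r, π (ρ ^ i) v = 0) : v = 0 := by
  have h1 := indep_fixed π hKab hK (Finset.range r) (fun i => B ^ᵍ (ρ ^ i))
    (fun i _ => (hB.cj (pow_mem hρK i)).1)
    (fun i hi j hj hij => (hB.cj (pow_mem hρK i)).sup hq (hB.cj (pow_mem hρK j))
      (pow_cj_ne hr hpw hρB (Finset.mem_range.1 hi) (Finset.mem_range.1 hj) hij))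
    (fun i => π (ρ ^ i) v) (fun i _ => fixed_cj π hv _) hN 0 (Finset.mem_range.2 hr.pos)
  simpa using h1

theorem orb2 (hr : r.Prime) (hq : q.Prime) (hpw : ρ ^ r = 1) (hKab : ∀ a ∈ K, ∀ b ∈ K, a * b = b * a)
    (hK : ∀ v : M, (∀ x ∈ K, π x v = v) → v = 0) (hρK : ρ ∈ 𝓝(K)) (hB : IsHyp q K B)
    (hB' : IsHyp q K B') (hρB : ρ ∉ 𝓝(B)) (hρB' : ρ ∉ 𝓝(B'))
    (hne : ∀ j : ℕ, B' ≠ B ^ᵍ (ρ ^ j)) {v v' : M} (hv : ∀ b ∈ B, π b v = v)
    (hv' : ∀ b ∈ B', π b v' = v')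
    (hN : ∑ i ∈ Finset.range r, π (ρ ^ i) v + ∑ i ∈ Finset.range r, π (ρ ^ i) v' = 0) : v = 0 := by
  classical
  let C : Bool × ℕ → Subgroup E := fun x => (bif x.1 then B else B') ^ᵍ (ρ ^ x.2)
  let u : Bool × ℕ → M := fun x => π (ρ ^ x.2) (bif x.1 then v else v')
  have hC : ∀ x, IsHyp q K (C x) := by
    rintro ⟨b, i⟩
    cases b
    · exact hB'.cj (pow_mem hρK i)
    · exact hB.cj (pow_mem hρK i)
  have hcross : ∀ i j : ℕ, j < r → B ^ᵍ (ρ ^ i) ≠ B' ^ᵍ (ρ ^ j) := by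
    intro i j hj he
    apply hne (r - j + i)
    have h1 : ρ ^ (r - j) * ρ ^ j = 1 := by rw [← pow_add, Nat.sub_add_cancel hj.le, hpw]
    have h2 : B' = (B' ^ᵍ (ρ ^ j)) ^ᵍ (ρ ^ (r - j)) := by rw [← cj_mul, h1, cj_one]
    rw [h2, ← he, ← cj_mul, ← pow_add]
  have h1 := indep_fixed π hKab hK (Finset.univ ×ˢ Finset.range r) C (fun x _ => (hC x).1)
    (by
      rintro ⟨b, i⟩ hi ⟨b', j⟩ hj hij
      have hi' : i < r := by simpa using hi
      have hj' : j < r := by simpa using hj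
      apply (hC _).sup hq (hC _)
      cases b <;> cases b'
      · exact pow_cj_ne hr hpw hρB' hi' hj' (fun h => hij (by have h' : i = j := h; rw [h']))
      · exact (hcross j i hi').symm
      · exact hcross i j hj'
      · exact pow_cj_ne hr hpw hρB hi' hj' (fun h => hij (by have h' : i = j := h; rw [h'])))
    u (by
      rintro ⟨b, i⟩ _
      cases b
      · exact fixed_cj π hv' _
      · exact fixed_cj π hv _)
    (by
      rw [Finset.sum_product, Fintype.sum_bool]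
      exact hN) (true, 0) (by simp [hr.pos])
  have h2 : u (true, 0) = v := by
    show π (ρ ^ 0) v = v
    rw [pow_zero, map_one, Module.End.one_apply]
  rwa [h2] at h1

theorem orb_cor1 (hr : r.Prime) (hq : q.Prime) (hpw : ρ ^ r = 1)
    (hKab : ∀ a ∈ K, ∀ b ∈ K, a * b = b * a)
    (hK : ∀ v : M, (∀ x ∈ K, π x v = v) → v = 0) (hρK : ρ ∈ 𝓝(K)) (hB : IsHyp q K B)
    (hρB : ρ ∉ 𝓝(B)) {w : M} (hw : ∀ v, π ρ v = v → ∃ c : F, v = c • w)
    {v v' : M} (hv : ∀ b ∈ B, π b v = v) (hv' : ∀ b ∈ B, π b v' = v') (hv0 : v ≠ 0) :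
    ∃ c : F, v' = c • v := by
  obtain ⟨a, ha⟩ := hw _ (nrm_fixed π hpw v)
  obtain ⟨b, hb⟩ := hw _ (nrm_fixed π hpw v')
  rw [LinearMap.sum_apply] at ha hb
  have ha0 : a ≠ 0 := by
    rintro rfl
    rw [zero_smul] at ha
    exact hv0 (orb1 π hr hq hpw hKab hK hρK hB hρB hv ha)
  have h1 := orb1 π hr hq hpw hKab hK hρK hB hρB (v := a • v' - b • v) (by
    intro x hx
    rw [map_sub, map_smul, map_smul, hv x hx, hv' x hx]) (by
    have : ∀ i, π (ρ ^ i) (a • v' - b • v) = a • π (ρ ^ i) v' - b • π (ρ ^ i) v := by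
      intro i; rw [map_sub, map_smul, map_smul]
    simp only [this]
    rw [Finset.sum_sub_distrib, ← Finset.smul_sum, ← Finset.smul_sum, ha, hb, smul_smul, smul_smul,
      mul_comm, sub_self])
  refine ⟨a⁻¹ * b, ?_⟩
  rw [mul_smul, ← sub_eq_zero.1 h1, inv_smul_smul₀ ha0]

theorem orb_cor2 (hr : r.Prime) (hq : q.Prime) (hpw : ρ ^ r = 1)
    (hKab : ∀ a ∈ K, ∀ b ∈ K, a * b = b * a)
    (hK : ∀ v : M, (∀ x ∈ K, π x v = v) → v = 0) (hρK : ρ ∈ 𝓝(K)) (hB : IsHyp q K B)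
    (hB' : IsHyp q K B') (hρB : ρ ∉ 𝓝(B)) (hρB' : ρ ∉ 𝓝(B'))
    {w : M} (hw : ∀ v, π ρ v = v → ∃ c : F, v = c • w)
    {v v' : M} (hv : ∀ b ∈ B, π b v = v) (hv' : ∀ b ∈ B', π b v' = v') (hv0 : v ≠ 0)
    (hv0' : v' ≠ 0) : ∃ j : ℕ, B' = B ^ᵍ (ρ ^ j) := by
  by_contra hcon
  push Not at hcon
  obtain ⟨a, ha⟩ := hw _ (nrm_fixed π hpw v)
  obtain ⟨b, hb⟩ := hw _ (nrm_fixed π hpw v')
  rw [LinearMap.sum_apply] at ha hb
  have hb0 : b ≠ 0 := by
    rintro rfl
    rw [zero_smul] at hb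
    exact hv0' (orb1 π hr hq hpw hKab hK hρK hB' hρB' hv' hb)
  have h1 := orb2 π hr hq hpw hKab hK hρK hB hB' hρB hρB' hcon (v := b • v) (v' := (-a) • v')
    (fun x hx => by rw [map_smul, hv x hx]) (fun x hx => by rw [map_smul, hv' x hx]) (by
      simp only [map_smul]
      rw [← Finset.smul_sum, ← Finset.smul_sum, ha, hb, smul_smul, smul_smul, ← add_smul]
      have : b * a + -a * b = 0 := by ring
      rw [this, zero_smul])
  rcases smul_eq_zero.1 h1 with h2 | h2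
  · exact hb0 h2
  · exact hv0 h2

end orb

end CfsgLib.BGRep

namespace CfsgLib.BGPi

open CfsgLib.BGRep

universe u
variable {G : Type u} [Group G] [Finite G]

/-- conjugation action on subgroups -/
@[reducible] def cjAct (G : Type u) [Group G] : MulAction G (Subgroup G) where
  smul g B := B ^ᵍ g
  one_smul B := cj_one B
  mul_smul g h B := cj_mul B g h

theorem core_ab0 {p q r : ℕ} (hp : p.Prime) (hq : q.Prime) (hr : r.Prime) (hp2 : p ≠ 2)
    (hr2 : r ≠ 2) (hrp : r ≠ p) (hqp : q ≠ p) {K P R V : Subgroup G} [hVn : V.Normal]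
    (hR : Nat.card R = r) (hKab : IsMulCommutative K) (hKq : ∀ x ∈ K, x ^ q = 1)
    (hP : IsPGroup p P) (hRP : R ≤ 𝓝(P)) (hPK : P ≤ 𝓝(K)) (hRK : R ≤ 𝓝(K))
    (hV : IsElementaryAbelian p V) (hKfaith : K ⊓ 𝓒(V) = ⊥) (hVK : V ⊓ 𝓒(K) = ⊥)
    (hPR : P ⊓ 𝓒(R) = ⊥) (hKP : ⁅K, P⁆ = K) (hVR : Nat.card ↥(V ⊓ 𝓒(R)) ≤ p) : K = ⊥ := by
  classical
  haveI : Fact p.Prime := ⟨hp⟩
  haveI : Fact q.Prime := ⟨hq⟩
  by_contra hK0
  have hVc : ∀ a ∈ V, ∀ b ∈ V, a * b = b * a := by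
    intro a ha b hb
    exact mem_cz.1 ((elab_iff.1 hV).1 hb) a ha
  have hKc : ∀ a ∈ K, ∀ b ∈ K, a * b = b * a := by
    intro a ha b hb
    exact mem_cz.1 ((comm_iff_le_cz.1 hKab) hb) a ha
  obtain ⟨ρ, hρ⟩ : ∃ ρ, R = zpowers ρ := by
    haveI : Nontrivial R := Finite.one_lt_card_iff_nontrivial.1 (hR ▸ hr.one_lt)
    obtain ⟨⟨ρ, hρR⟩, hρ1⟩ := exists_ne (1 : R)
    exact ⟨ρ, (zpowers_of_prime (hR ▸ hr) hρR (fun h => hρ1 (Subtype.ext h))).symm⟩
  have hρR : ρ ∈ R := by rw [hρ]; exact mem_zpowers ρ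
  have hpw : ρ ^ r = 1 := by
    have : orderOf ρ = r := by rw [← Nat.card_zpowers, ← hρ, hR]
    rw [← this]; exact pow_orderOf_eq_one ρ
  have hKqg : IsPGroup q K := by
    intro x
    exact ⟨1, Subtype.ext (by simpa using hKq x x.2)⟩
  letI : CommGroup V := { (inferInstance : Group V) with
    mul_comm := fun a b => Subtype.ext (hVc a a.2 b b.2) }
  obtain ⟨inst, π, hfin, hπ⟩ := exists_rep (V := V) (MulAut.conjNormal : G →* MulAut V) p
    (fun v => Subtype.ext (hV.2 v v.2))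
  have hfixiff : ∀ (x : G) (v : V), π x (Additive.ofMul v) = Additive.ofMul v ↔
      x * (v : G) = v * x := by
    intro x v
    rw [hπ]
    constructor
    · intro h
      have h1 := congrArg Subtype.val (Additive.ofMul.injective h)
      rw [MulAut.conjNormal_apply] at h1
      exact mul_inv_eq_iff_eq_mul.1 h1
    · intro h
      congr 1
      apply Subtype.ext
      rw [MulAut.conjNormal_apply]
      exact mul_inv_eq_iff_eq_mul.2 h
  have hK : ∀ m : Additive V, (∀ x ∈ K, π x m = m) → m = 0 := by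
    intro m hm
    have h1 : (m.toMul : G) ∈ V ⊓ 𝓒(K) := by
      refine mem_inf.2 ⟨m.toMul.2, mem_cz.2 fun x hx => ?_⟩
      exact (hfixiff x m.toMul).1 (hm x hx)
    rw [hVK, mem_bot] at h1
    exact Subtype.ext h1
  obtain ⟨w, hw⟩ : ∃ w : Additive V, ∀ m, π ρ m = m → ∃ c : ZMod p, m = c • w := by
    have hmem : ∀ m : Additive V, π ρ m = m → (m.toMul : G) ∈ V ⊓ 𝓒(R) := by
      intro m hm
      refine mem_inf.2 ⟨m.toMul.2, ?_⟩
      rw [hρ, cz_zpowers, mem_centralizer_singleton_iff]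
      exact ((hfixiff ρ m.toMul).1 hm).symm
    by_cases h0 : V ⊓ 𝓒(R) = ⊥
    · refine ⟨0, fun m hm => ⟨0, ?_⟩⟩
      have h1 := hmem m hm
      rw [h0, mem_bot] at h1
      rw [smul_zero]
      exact Subtype.ext h1
    · obtain ⟨⟨w, hwV⟩, hw1⟩ := Subgroup.ne_bot_iff_exists_ne_one.1 h0
      have hw1' : w ≠ 1 := fun h => hw1 (Subtype.ext h)
      have hwV' := (mem_inf.1 hwV).1
      have hord : orderOf w = p := by
        rcases (Nat.dvd_prime hp).1 (orderOf_dvd_of_pow_eq_one (hV.2 w hwV')) with h2 | h2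
        · exact absurd (orderOf_eq_one_iff.1 h2) hw1'
        · exact h2
      have hz : zpowers w = V ⊓ 𝓒(R) := by
        apply eq_of_card_le (zpowers_le.2 hwV)
        rw [Nat.card_zpowers, hord]; exact hVR
      refine ⟨Additive.ofMul ⟨w, hwV'⟩, fun m hm => ?_⟩
      have h1 := hmem m hm
      rw [← hz] at h1
      obtain ⟨k, hk⟩ := mem_zpowers_iff.1 h1
      refine ⟨(k : ZMod p), ?_⟩
      rw [Int.cast_smul_eq_zsmul]
      apply Additive.toMul.injective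
      apply Subtype.ext
      show (m.toMul : G) = _
      rw [← hk]
      rfl
  letI := cjAct G
  have hsm : ∀ (g : G) (B : Subgroup G), g • B = B ^ᵍ g := fun _ _ => rfl
  let Λ : Set (Subgroup G) := {B | IsHyp q K B ∧ V ⊓ 𝓒(B) ≠ ⊥}
  have hΛ : ∀ g ∈ 𝓝(K), ∀ B ∈ Λ, g • B ∈ Λ := by
    rintro g hg B ⟨hB, hVB⟩
    refine ⟨hB.cj hg, ?_⟩
    rw [hsm, cz_cj]
    have h1 : V = V ^ᵍ g := (mem_nz.1 (by rw [normalizer_eq_top_iff.2 hVn]; trivial)).symm
    conv_lhs => rw [h1]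
    rw [← cj_inf]
    intro h
    exact hVB (cj_eq_bot.1 h)
  have hfixB : ∀ B ∈ Λ, ∃ m : Additive V, (∀ b ∈ B, π b m = m) ∧ m ≠ 0 := by
    rintro B ⟨hB, hVB⟩
    obtain ⟨⟨v, hv⟩, hv1⟩ := Subgroup.ne_bot_iff_exists_ne_one.1 hVB
    have hvV := (mem_inf.1 hv).1
    refine ⟨Additive.ofMul ⟨v, hvV⟩, fun b hb => ?_, ?_⟩
    · rw [hfixiff]
      exact mem_cz.1 (mem_inf.1 hv).2 b hb
    · intro h
      apply hv1
      apply Subtype.ext
      exact congrArg (fun y : Additive V => ((y.toMul : V) : G)) h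
  have hfixP := act_lemma (X := Subgroup G) hp hp2 hr hr2 hrp hR hρ hP hRP hPR Λ
    (fun x hx => hΛ x (hPK hx)) (fun B hB => hΛ ρ (hRK hρR) B hB) (by
      intro B hB B' hB' hρB hρB'
      obtain ⟨m, hm, hm0⟩ := hfixB B hB
      obtain ⟨m', hm', hm0'⟩ := hfixB B' hB'
      exact orb_cor2 π hr hq hpw hKc hK (hRK hρR) hB.1 hB'.1 (fun h => hρB (mem_nz.1 h))
        (fun h => hρB' (mem_nz.1 h)) hw hm hm' hm0 hm0')
  have hcopPR : ⁅P, R⁆ = P := by
    have hcop : (Nat.card R).Coprime (Nat.card P) := by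
      obtain ⟨k, hk⟩ := IsPGroup.iff_card.1 hP
      rw [hR, hk]
      exact ((Nat.coprime_primes hr hp).2 hrp).pow_right k
    haveI := hP.isNilpotent
    have := cop_comm_sup hRP hcop (inferInstance : Group.IsSolvable P)
    rwa [hPR, sup_bot_eq] at this
  -- every hyperplane weight is normalized by `P`, not by `ρ`, and `P` centralizes the weight space
  have hmain : ∀ B ∈ Λ, V ⊓ 𝓒(B) ≤ 𝓒(P) := by
    intro B hB
    have hPB : P ≤ 𝓝(B) := fun x hx => mem_nz.2 (hfixP B hB x hx)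
    have hKB : K ≤ 𝓝(B) := by
      apply le_nz_of_le_cz
      rw [le_cz_comm]
      exact hB.1.1.trans (comm_iff_le_cz.1 hKab)
    have hρB : ρ ∉ 𝓝(B) := by
      intro hρB
      have hRB : R ≤ 𝓝(B) := by rw [hρ, zpowers_le]; exact hρB
      have h1 := comm_mod_prime (A := P ⊔ R) hq hKB (sup_le hPB hRB) (sup_le hPK hRK) hB.1.2
      have h2 : K ≤ B := by
        conv_lhs => rw [← hKP]
        refine (commutator_mono le_rfl ?_).trans h1
        conv_lhs => rw [← hcopPR]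
        exact commutator_mono le_sup_left le_sup_right
      have h3 := hB.1.2
      rw [relIndex_eq_one.2 h2] at h3
      exact hq.one_lt.ne h3
    obtain ⟨m, hm, hm0⟩ := hfixB B hB
    -- `P` centralizes `m`
    have hPm : ∀ x ∈ P, π x m = m := by
      intro x hx
      have hxm : ∀ b ∈ B, π b (π x m) = π x m := by
        have := fixed_cj π hm x
        rwa [show B ^ᵍ x = B from hfixP B hB x hx] at this
      obtain ⟨c, hc⟩ := orb_cor1 π hr hq hpw hKc hK (hRK hρR) hB.1 hρB hw hm hxm hm0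
      have hpow : ∀ n : ℕ, π (x ^ n) m = c ^ n • m := by
        intro n
        induction n with
        | zero => rw [pow_zero, map_one, Module.End.one_apply, pow_zero, one_smul]
        | succ n ih =>
          rw [pow_succ', map_mul, Module.End.mul_apply, ih, map_smul, hc, smul_smul, pow_succ]
      obtain ⟨k, hk⟩ := hP ⟨x, hx⟩
      have hk' : x ^ p ^ k = 1 := congrArg Subtype.val hk
      have h1 := hpow (p ^ k)
      rw [hk', map_one, Module.End.one_apply] at h1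
      have h2 : c ^ p ^ k = c := by
        clear hk hk' h1
        induction k with
        | zero => rw [pow_zero, pow_one]
        | succ k ih => rw [pow_succ, pow_mul, ih, ZMod.pow_card]
      rw [h2] at h1
      rw [hc, ← h1]
    intro v hv
    have hvV := (mem_inf.1 hv).1
    obtain ⟨c, hc⟩ := orb_cor1 π hr hq hpw hKc hK (hRK hρR) hB.1 hρB hw hm
      (v' := Additive.ofMul ⟨v, hvV⟩) (by
        intro b hb
        rw [hfixiff]
        exact mem_cz.1 (mem_inf.1 hv).2 b hb) hm0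
    rw [mem_cz]
    intro x hx
    have h1 : π x (Additive.ofMul ⟨v, hvV⟩) = Additive.ofMul ⟨v, hvV⟩ := by
      rw [hc, map_smul, hPm x hx]
    exact (hfixiff x ⟨v, hvV⟩).1 h1
  -- generation
  have hcopKV : (Nat.card K).Coprime (Nat.card V) :=
    pq_coprime hq hp hqp hKqg (elab_isPGroup hV)
  have hKV : K ≤ 𝓝(V) := by rw [normalizer_eq_top_iff.2 hVn]; exact le_top
  have hgen := CfsgLib.Coprime2.generation_cyclic_quotient hKV hcopKV
  have hVP : V ≤ 𝓒(P) := by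
    rw [← hgen]
    apply iSup₂_le
    rintro B ⟨hBK, a, ha, hle⟩
    by_cases hVB : V ⊓ 𝓒(B) = ⊥
    · rw [hVB]; exact bot_le
    apply hmain
    refine ⟨⟨hBK, ?_⟩, hVB⟩
    have hKB : K ≤ 𝓝(B) := by
      apply le_nz_of_le_cz
      rw [le_cz_comm]
      exact hBK.trans (comm_iff_le_cz.1 hKab)
    have h1 : K = zpowers a ⊔ B := by
      apply le_antisymm
      · rw [sup_comm]; exact hle
      · exact sup_le (zpowers_le.2 ha) hBK
    have h2 : B.relIndex K = B.relIndex (zpowers a) := by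
      conv_lhs => rw [h1]
      exact relIndex_sup_eq ((zpowers_le.2 ha).trans hKB)
    have h3 : B.relIndex K ∣ q := by
      rw [h2]
      refine (relIndex_dvd_card _ _).trans ?_
      rw [Nat.card_zpowers]
      exact orderOf_dvd_of_pow_eq_one (hKq a ha)
    rcases (Nat.dvd_prime hq).1 h3 with h4 | h4
    · exfalso
      rw [relIndex_eq_one] at h4
      apply hVB
      have : B = K := le_antisymm hBK h4
      rw [this, hVK]
    · exact h4
  have h1 : K ≤ 𝓒(V) := by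
    conv_lhs => rw [← hKP]
    exact (commutator_mono le_rfl (le_cz_comm.1 hVP)).trans (comm_le_right (le_nz_cz hKV))
  apply hK0
  rw [eq_bot_iff, ← hKfaith]
  exact le_inf le_rfl h1

end CfsgLib.BGPi
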