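import Cfsg.Agent.EqBase
import Cfsg.Agent.LibBGThm36d

/-! B & G Theorem 3.6: the core statement. -/

open scoped Pointwise commutatorElement
open Subgroup Cfsg

namespace CfsgLib.BGPi

open CfsgLib.BGRep

universe u
variable {G : Type u} [Group G] [Finite G]

theorem comm_subgroupOf_eq {A B X : Subgroup G} (hA : A ≤ X) (hB : B ≤ X) :
    ⁅A.subgroupOf X, B.subgroupOf X⁆ = ⁅A, B⁆.subgroupOf X := by
  apply Subgroup.map_injective X.subtype_injective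
  rw [map_commutator, subgroupOf_map hA, subgroupOf_map hB]
  symm
  apply subgroupOf_map
  rw [commutator_le]
  intro a ha b hb
  exact mul_mem (mul_mem (mul_mem (hA ha) (hB hb)) (inv_mem (hA ha))) (inv_mem (hB hb))

theorem elab_subgroupOf {p : ℕ} {A X : Subgroup G} (hA : IsElementaryAbelian p A) :
    IsElementaryAbelian p (A.subgroupOf X) :=
  ⟨comm_subgroupOf hA.1, fun x hx => Subtype.ext (hA.2 x hx)⟩

theorem inf_subgroupOf_eq (A B X : Subgroup G) :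
    (A ⊓ B).subgroupOf X = A.subgroupOf X ⊓ B.subgroupOf X := rfl

theorem subgroupOf_bot_iff {A X : Subgroup G} (hA : A ≤ X) : A.subgroupOf X = ⊥ ↔ A = ⊥ := by
  rw [Subgroup.subgroupOf_eq_bot, disjoint_iff, inf_eq_left.2 hA]

theorem core_ab {p q r : ℕ} (hp : p.Prime) (hq : q.Prime) (hr : r.Prime) (hp2 : p ≠ 2)
    (hr2 : r ≠ 2) (hrp : r ≠ p) (hqp : q ≠ p) {K P R V : Subgroup G}
    (hR : Nat.card R = r) (hKab : IsMulCommutative K) (hKq : ∀ x ∈ K, x ^ q = 1)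
    (hP : IsPGroup p P) (hRP : R ≤ 𝓝(P)) (hPK : P ≤ 𝓝(K)) (hRK : R ≤ 𝓝(K))
    (hV : IsElementaryAbelian p V) (hKV : K ≤ 𝓝(V)) (hPV : P ≤ 𝓝(V)) (hRV : R ≤ 𝓝(V))
    (hKfaith : K ⊓ 𝓒(V) = ⊥)
    (hPR : P ⊓ 𝓒(R) = ⊥) (hKP : ⁅K, P⁆ = K) (hVR : Nat.card ↥(V ⊓ 𝓒(R)) ≤ p) : K = ⊥ := by
  have hKqg : IsPGroup q K := by
    intro x
    exact ⟨1, Subtype.ext (by simpa using hKq x x.2)⟩
  have hcopKV : (Nat.card K).Coprime (Nat.card V) :=
    pq_coprime hq hp hqp hKqg (elab_isPGroup hV)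
  haveI := hV.1
  have hVs : Group.IsSolvable V := CfsgLib.Coprime2.isSolvable_of_comm V
  set W := ⁅V, K⁆ with hW
  have hWV : W ≤ V := comm_le_left hKV
  have hWK : W ⊓ 𝓒(K) = ⊥ := CfsgLib.Coprime2.commutator_inf_centralizer hKV hcopKV
  have hKW : K ≤ 𝓝(W) := right_le_nz_comm V K
  have hPW : P ≤ 𝓝(W) := le_nz_comm hPV hPK
  have hRW : R ≤ 𝓝(W) := le_nz_comm hRV hRK
  have hWX : W ≤ 𝓝(W) := le_normalizer
  have hKW' : K ⊓ 𝓒(W) = ⊥ := by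
    rw [eq_bot_iff, ← hKfaith]
    refine le_inf inf_le_left ?_
    rw [le_cz_comm, ← cop_comm_sup hKV hcopKV hVs]
    refine sup_le (le_cz_comm.1 inf_le_right) ?_
    exact inf_le_right.trans (cz_anti inf_le_left)
  have hWe : IsElementaryAbelian p W := elab_mono hWV hV
  have hres := core_ab0 (G := ↥𝓝(W)) (K := K.subgroupOf 𝓝(W)) (P := P.subgroupOf 𝓝(W))
    (R := R.subgroupOf 𝓝(W)) (V := W.subgroupOf 𝓝(W)) hp hq hr hp2 hr2 hrp hqp
    (hVn := normal_subgroupOf hWX le_rfl)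
    (by rw [card_subgroupOf hRW, hR]) (comm_subgroupOf hKab)
    (fun x hx => Subtype.ext (hKq x hx)) (isPGroup_subgroupOf hP) (nz_subgroupOf hRP)
    (nz_subgroupOf hPK) (nz_subgroupOf hRK) (elab_subgroupOf hWe)
    (by rw [cz_subgroupOf hWX, ← inf_subgroupOf_eq, hKW', bot_subgroupOf])
    (by rw [cz_subgroupOf hKW, ← inf_subgroupOf_eq, hWK, bot_subgroupOf])
    (by rw [cz_subgroupOf hRW, ← inf_subgroupOf_eq, hPR, bot_subgroupOf])
    (by rw [comm_subgroupOf_eq hKW hPW, hKP])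
    (by
      rw [cz_subgroupOf hRW, ← inf_subgroupOf_eq, card_subgroupOf (inf_le_left.trans hWX)]
      exact (Nat.le_of_dvd Nat.card_pos (card_dvd_of_le (inf_le_inf_right _ hWV))).trans hVR)
  rwa [subgroupOf_bot_iff hKW] at hres

/-- relative form of `rank_one_comm` -/
theorem rank_one_rel {p r : ℕ} (hp : p.Prime) (hr : 0 < r) {V K Z R : Subgroup G} {ρ : G}
    (hV : IsElementaryAbelian p V) (hVR : Nat.card ↥(V ⊓ 𝓒(R)) ≤ p) (hρ : R = zpowers ρ)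
    (hpw : ρ ^ r = 1) (hZp : ¬ p ∣ Nat.card Z) (hZK : Z ≤ K) (hZc : Z ≤ 𝓒(K)) (hKK : ⁅K, K⁆ ≤ Z)
    (hn : ρ ∈ 𝓝(Z)) (hKV : K ≤ 𝓝(V)) (hRV : R ≤ 𝓝(V))
    (hfpf : ∀ i, 0 < i → i < r → ∀ x ∈ Z, ρ ^ i * x * (ρ ^ i)⁻¹ = x → x = 1) :
    ⁅K, K⁆ ≤ 𝓒(V) := by
  haveI : Fact p.Prime := ⟨hp⟩
  have hE : K ⊔ R ≤ 𝓝(V) := sup_le hKV hRV
  have hVc : ∀ a ∈ V, ∀ b ∈ V, a * b = b * a := by
    intro a ha b hb
    exact mem_cz.1 ((elab_iff.1 hV).1 hb) a ha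
  letI : CommGroup V := { (inferInstance : Group V) with
    mul_comm := fun a b => Subtype.ext (hVc a a.2 b b.2) }
  have hρR : ρ ∈ R := by rw [hρ]; exact mem_zpowers ρ
  have hKE : K ≤ K ⊔ R := le_sup_left
  have hRE : R ≤ K ⊔ R := le_sup_right
  have hZE : Z ≤ K ⊔ R := hZK.trans hKE
  obtain ⟨inst, π, hfin, hπ⟩ := exists_rep (V := V) (actN hE) p
    (fun v => Subtype.ext (hV.2 v v.2))
  have hfixiff : ∀ (x : ↥(K ⊔ R)) (v : V), π x (Additive.ofMul v) = Additive.ofMul v ↔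
      (x : G) * (v : G) = v * x := by
    intro x v
    rw [hπ, ← actN_eq_iff hE]
    exact ⟨fun h => Additive.ofMul.injective h, fun h => by rw [h]⟩
  obtain ⟨w, hw⟩ : ∃ w : Additive V, ∀ m, π ⟨ρ, hRE hρR⟩ m = m → ∃ c : ZMod p, m = c • w := by
    have hmem : ∀ m : Additive V, π ⟨ρ, hRE hρR⟩ m = m → (m.toMul : G) ∈ V ⊓ 𝓒(R) := by
      intro m hm
      refine mem_inf.2 ⟨m.toMul.2, ?_⟩
      rw [hρ, cz_zpowers, mem_centralizer_singleton_iff]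
      exact ((hfixiff _ m.toMul).1 hm).symm
    by_cases h0 : V ⊓ 𝓒(R) = ⊥
    · refine ⟨0, fun m hm => ⟨0, ?_⟩⟩
      have h1 := hmem m hm
      rw [h0, mem_bot] at h1
      rw [smul_zero]
      exact Subtype.ext h1
    · obtain ⟨⟨w, hwV⟩, hw1⟩ := Subgroup.ne_bot_iff_exists_ne_one.1 h0
      have hw1' : w ≠ 1 := fun h => hw1 (Subtype.ext h)
      have hwV' := (mem_inf.1 hwV).1
      have hord : orderOf w = p := by
        rcases (Nat.dvd_prime hp).1 (orderOf_dvd_of_pow_eq_one (hV.2 w hwV')) with h2 | h2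
        · exact absurd (orderOf_eq_one_iff.1 h2) hw1'
        · exact h2
      have hz : zpowers w = V ⊓ 𝓒(R) := by
        apply eq_of_card_le (zpowers_le.2 hwV)
        rw [Nat.card_zpowers, hord]; exact hVR
      refine ⟨Additive.ofMul ⟨w, hwV'⟩, fun m hm => ?_⟩
      have h1 := hmem m hm
      rw [← hz] at h1
      obtain ⟨k, hk⟩ := mem_zpowers_iff.1 h1
      refine ⟨(k : ZMod p), ?_⟩
      rw [Int.cast_smul_eq_zsmul]
      apply Additive.toMul.injective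
      apply Subtype.ext
      show (m.toMul : G) = _
      rw [← hk]
      rfl
  rw [commutator_le]
  intro x hx y hy
  have hc : ⁅x, y⁆ ∈ Z := hKK (commutator_mem_commutator hx hy)
  have hres := rank_one_comm π (Z := Z.subgroupOf (K ⊔ R)) (ρ := ⟨ρ, hRE hρR⟩) hr
    (by
      rw [mem_normalizer_iff]
      intro z
      exact mem_normalizer_iff.1 hn z)
    (Subtype.ext hpw)
    (fun i hi hir z hz h => Subtype.ext (hfpf i hi hir z hz (congrArg Subtype.val h)))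
    (fun z hz z' hz' => Subtype.ext (mem_cz.1 (hZc hz') z (hZK hz)))
    (by
      rw [card_subgroupOf hZE]
      intro h
      rw [ZMod.natCast_eq_zero_iff] at h
      exact hZp h) hw (x := ⟨x, hKE hx⟩) (y := ⟨y, hKE hy⟩)
    (fun z hz => Subtype.ext (mem_cz.1 (hZc hz) x hx))
    (fun z hz => Subtype.ext (mem_cz.1 (hZc hz) y hy)) hc
  rw [mem_cz]
  intro v hv
  have h1 := (hfixiff ⟨⁅x, y⁆, hZE hc⟩ ⟨v, hv⟩).1 (by
    have h2 : (⟨⁅x, y⁆, hZE hc⟩ : ↥(K ⊔ R)) = ⟨x, hKE hx⟩ * ⟨y, hKE hy⟩ * ⟨x, hKE hx⟩⁻¹ *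
      ⟨y, hKE hy⟩⁻¹ := rfl
    rw [h2, hres]; rfl)
  exact h1.symm


theorem exists_gen_prime {r : ℕ} (hr : r.Prime) {R : Subgroup G} (hR : Nat.card R = r) :
    ∃ ρ, R = zpowers ρ ∧ ρ ^ r = 1 := by
  haveI : Nontrivial R := Finite.one_lt_card_iff_nontrivial.1 (hR ▸ hr.one_lt)
  obtain ⟨⟨ρ, hρR⟩, hρ1⟩ := exists_ne (1 : R)
  have hρ : R = zpowers ρ :=
    (zpowers_of_prime (hR ▸ hr) hρR (fun h => hρ1 (Subtype.ext h))).symm
  refine ⟨ρ, hρ, ?_⟩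
  have : orderOf ρ = r := by rw [← Nat.card_zpowers, ← hρ, hR]
  rw [← this]; exact pow_orderOf_eq_one ρ

theorem pgroup_solvable {p : ℕ} (hp : p.Prime) {P : Subgroup G} (hP : IsPGroup p P) :
    Group.IsSolvable P := by
  haveI : Fact p.Prime := ⟨hp⟩
  haveI := hP.isNilpotent
  infer_instance

theorem pgroup_not_dvd {p q : ℕ} (hp : p.Prime) (hq : q.Prime) (hpq : q ≠ p) {P : Subgroup G}
    (hP : IsPGroup p P) : ¬ q ∣ Nat.card P := by
  haveI : Fact p.Prime := ⟨hp⟩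
  intro h
  obtain ⟨k, hk⟩ := IsPGroup.iff_card.1 hP
  rw [hk] at h
  exact hpq ((Nat.prime_dvd_prime_iff_eq hq hp).1 (hq.dvd_of_dvd_pow h))

theorem pgroup_odd {p : ℕ} (hp : p.Prime) (hp2 : p ≠ 2) {P : Subgroup G}
    (hP : IsPGroup p P) : Odd (Nat.card P) := by
  haveI : Fact p.Prime := ⟨hp⟩
  obtain ⟨k, hk⟩ := IsPGroup.iff_card.1 hP
  rw [hk]; exact (hp.odd_of_ne_two hp2).pow

theorem core36 {p q r : ℕ} (hp : p.Prime) (hq : q.Prime) (hr : r.Prime) (hp2 : p ≠ 2)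
    (hq2 : q ≠ 2) (hr2 : r ≠ 2) (hrp : r ≠ p) (hqp : q ≠ p) (hrq : r ≠ q) {P R V : Subgroup G}
    (hR : Nat.card R = r) (hP : IsPGroup p P) (hRP : R ≤ 𝓝(P))
    (hV : IsElementaryAbelian p V) (hPV : P ≤ 𝓝(V)) (hRV : R ≤ 𝓝(V))
    (hPR : P ⊓ 𝓒(R) = ⊥) (hVR : Nat.card ↥(V ⊓ 𝓒(R)) ≤ p) :
    ∀ (n : ℕ) (K : Subgroup G), Nat.card K = n → IsPGroup q K → P ≤ 𝓝(K) → R ≤ 𝓝(K) →
      K ≤ 𝓝(V) → K ⊓ 𝓒(V) = ⊥ → IsCyclic ↥(K ⊓ 𝓒(R)) → P ≤ 𝓒(K) := by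
  intro n
  haveI : Fact p.Prime := ⟨hp⟩
  haveI : Fact q.Prime := ⟨hq⟩
  induction n using Nat.strong_induction_on with
  | _ n ih =>
  intro K hn hKp hPK hRK hKV hKfaith hcyc
  obtain ⟨ρ, hρ, hpw⟩ := exists_gen_prime hr hR
  have hρR : ρ ∈ R := by rw [hρ]; exact mem_zpowers ρ
  have hcopPK : (Nat.card P).Coprime (Nat.card K) := pq_coprime hp hq hqp.symm hP hKp
  have hcopR : ∀ {X : Subgroup G}, ¬ r ∣ Nat.card X → (Nat.card R).Coprime (Nat.card X) := by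
    intro X hX
    rw [hR]
    exact (Nat.Prime.coprime_iff_not_dvd hr).2 hX
  have hcopRK := hcopR (pgroup_not_dvd hq hr hrq hKp)
  have hcopRP := hcopR (pgroup_not_dvd hp hr hrp hP)
  have hKs := pgroup_solvable hq hKp
  have hPs := pgroup_solvable hp hP
  by_contra hcon
  have hK0 : K ≠ ⊥ := by
    rintro rfl; exact hcon (le_cz_comm.1 bot_le)
  have hprop : ∀ L < K, P ≤ 𝓝(L) → R ≤ 𝓝(L) → P ≤ 𝓒(L) := by
    intro L hL hPL hRL
    refine ih (Nat.card L) ?_ L rfl (hKp.to_le hL.le) hPL hRL (hL.le.trans hKV) ?_ ?_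
    · rw [← hn]
      refine lt_of_le_of_ne (Nat.le_of_dvd Nat.card_pos (card_dvd_of_le hL.le)) ?_
      intro h; exact hL.ne (eq_of_card_le hL.le h.ge)
    · rw [eq_bot_iff, ← hKfaith]
      exact inf_le_inf_right _ hL.le
    · by_contra h
      exact not_cyclic_mono (inf_le_inf_right _ hL.le) h hcyc
  have hKP : ⁅K, P⁆ = K := by
    by_contra h1
    have h2 := hprop _ (lt_of_le_of_ne (comm_le_left hPK) h1) (right_le_nz_comm K P)
      (le_nz_comm hRK hRP)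
    exact hcon (cop_le_cz hPK hcopPK hKs h2)
  have hPRP : ⁅P, R⁆ = P := by
    have := cop_comm_sup hRP hcopRP hPs
    rwa [hPR, sup_bot_eq] at this
  set Z := K ⊓ 𝓒(P) with hZ
  have hKK : ⁅K, K⁆ ≤ 𝓒(P) :=
    le_cz_comm.1 (hprop _ (comm_lt_of_solvable hKs hK0) (le_nz_comm hPK hPK) (le_nz_comm hRK hRK))
  have hKZ : ⁅K, K⁆ ≤ Z := le_inf (comm_self_le K) hKK
  have hZK : Z ≤ K := inf_le_left
  have hZP : Z ≤ 𝓒(P) := inf_le_right
  have hZc : Z ≤ 𝓒(K) := by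
    have h1 : ⁅⁅K, Z⁆, P⁆ = ⊥ := by
      rw [comm_eq_bot_iff]
      exact (commutator_mono le_rfl hZK).trans hKK
    have h2 : ⁅⁅Z, P⁆, K⁆ = ⊥ := by
      rw [comm_eq_bot_iff.2 hZP, commutator_bot_left]
    have h3 := three_le h1 h2
    rw [commutator_comm P K, hKP, comm_eq_bot_iff] at h3
    exact le_cz_comm.1 h3
  have hKnZ : K ≤ 𝓝(Z) := le_nz_of_le_cz (le_cz_comm.1 hZc)
  have hPnZ : P ≤ 𝓝(Z) := le_nz_of_le_cz (le_cz_comm.1 hZP)
  have hRnZ : R ≤ 𝓝(Z) := le_nz_inf hRK (le_nz_cz hRP)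
  have hcl : ⁅K, K⁆ ≤ 𝓒(K) := hKZ.trans hZc
  have hexp : ∀ x ∈ K, x ^ q = 1 := by
    have hΩK : om2 hq hq2 K hcl ≤ K := fun x hx => (mem_om2.1 hx).1
    rcases lt_or_eq_of_le hΩK with h1 | h1
    · exfalso
      have h2 := hprop _ h1 (hPK.trans nz_om2) (hRK.trans nz_om2)
      apply hcon
      refine cop_omega hq hq2 hKp hPK ?_ ?_
      · exact (Nat.Coprime.symm ((Nat.Prime.coprime_iff_not_dvd hq).2
          (pgroup_not_dvd hp hq hqp hP)))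
      · intro x hx hxq a ha
        exact (mem_cz.1 (h2 ha) x (mem_om2.2 ⟨hx, hxq⟩)).symm
    · intro x hx
      rw [← h1] at hx
      exact (mem_om2.1 hx).2
  have hZR : Z ⊓ 𝓒(R) = ⊥ := by
    by_contra h0
    obtain ⟨⟨v, hv⟩, hv1⟩ := Subgroup.ne_bot_iff_exists_ne_one.1 h0
    have hv1' : v ≠ 1 := fun h => hv1 (Subtype.ext h)
    have hvZ := (mem_inf.1 hv).1
    have hCZ : K ⊓ 𝓒(R) ≤ Z := by
      intro x hx
      have h1 : x ∈ zpowers v := mem_zpowers_of_cyclic hcyc hq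
        (mem_inf.2 ⟨hZK hvZ, (mem_inf.1 hv).2⟩) hx hv1' (hexp v (hZK hvZ))
        (hexp x (mem_inf.1 hx).1)
      exact zpowers_le.2 hvZ h1
    have h1 := thm34_mod hq hr hrq hr2 hKnZ hPnZ hRnZ hZK hKZ
      (fun x hx => by rw [hexp x hx]; exact one_mem _) hKs hR hcopRK hPs (pgroup_odd hp hp2 hP)
      (pgroup_not_dvd hp hq hqp hP) hcopRP hRP hPK hRK hCZ
    rw [hPRP, hKP] at h1
    exact hcon (le_cz_comm.1 (h1.trans hZP))
  have hab : ⁅K, K⁆ = ⊥ := by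
    have hRZc : (Nat.card R).Coprime (Nat.card Z) :=
      hcopRK.coprime_dvd_right (card_dvd_of_le hZK)
    have hfpf := fpf_of_cz hr hR hρ (K := Z) (Z := ⊥) hRnZ hRZc
      (solvable_sub hZK hKs) bot_le (le_nz.2 (by
        rintro k _ h hh; rw [mem_bot] at hh ⊢; rw [hh]; group)) (le_nz.2 (by
        rintro k _ h hh; rw [mem_bot] at hh ⊢; rw [hh]; group)) hZR.le
    have h1 := rank_one_rel hp hr.pos hV hVR hρ hpw
      (fun h => pgroup_not_dvd hq hp hqp.symm hKp (h.trans (card_dvd_of_le hZK))) hZK hZc hKZ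
      (hRnZ hρR) hKV hRV (by
        intro i hi hir x hx hxx
        have := hfpf i hi hir x hx (by rw [hxx, mul_inv_cancel]; exact one_mem _)
        exact this)
    rw [eq_bot_iff, ← hKfaith]
    exact le_inf (comm_self_le K) h1
  exact hK0 (core_ab hp hq hr hp2 hr2 hrp hqp hR (comm_iff_comm_bot.2 hab) hexp hP hRP hPK hRK hV
    hKV hPV hRV hKfaith hPR hKP hVR)

end CfsgLib.BGPi
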