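import Cfsg.Agent.EqBase
import Cfsg.Agent.LibBGThm36e
import Cfsg.Agent.LibBGPlen
import Cfsg.Agent.LibBGRk2c
import Cfsg.Agent.LibExtraH28

/-! B & G Theorem 3.6: reduction to the core. -/

open scoped Pointwise commutatorElement
open Subgroup Cfsg

namespace CfsgLib.BGPi

universe u

section pull
variable {G : Type u} [Group G] [Finite G] {N : Subgroup G}

/-- preimage of a subgroup of `N_G(N)/N` -/
def pull (N : Subgroup G) (A : Subgroup (QN N)) : Subgroup G :=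
  (A.comap (QuotientGroup.mk' (N.subgroupOf 𝓝(N)))).map (𝓝(N)).subtype

theorem mem_pull {A : Subgroup (QN N)} {x : G} : x ∈ pull N A ↔ ∃ hx : x ∈ 𝓝(N), qe N hx ∈ A := by
  constructor
  · rintro ⟨⟨x, hx⟩, h, rfl⟩
    exact ⟨hx, h⟩
  · rintro ⟨hx, h⟩
    exact ⟨⟨x, hx⟩, h, rfl⟩

theorem le_pull {A : Subgroup (QN N)} : N ≤ pull N A := fun x hx =>
  mem_pull.2 ⟨le_normalizer hx, by rw [(qe_eq_one _).2 hx]; exact one_mem _⟩

theorem pull_le_nz {A : Subgroup (QN N)} : pull N A ≤ 𝓝(N) := fun _ hx => (mem_pull.1 hx).1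

theorem pull_mono {A B : Subgroup (QN N)} (h : A ≤ B) : pull N A ≤ pull N B := fun _ hx => by
  obtain ⟨h1, h2⟩ := mem_pull.1 hx
  exact mem_pull.2 ⟨h1, h h2⟩

theorem pull_qm {B : Subgroup G} (hNB : N ≤ B) (hB : B ≤ 𝓝(N)) : pull N (qm N B) = B := by
  ext x
  rw [mem_pull]
  constructor
  · rintro ⟨hx, h⟩
    have := (qe_mem_iff hB hx).1 h
    rwa [sup_eq_left.2 hNB] at this
  · intro h
    exact ⟨hB h, qe_mem _ h⟩

theorem pull_nz {A : Subgroup (QN N)} {X : Subgroup G} (hX : X ≤ 𝓝(N)) (h : qm N X ≤ 𝓝(A)) :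
    X ≤ 𝓝(pull N A) := by
  rw [le_nz]
  intro x hx y hy
  obtain ⟨hy', hyA⟩ := mem_pull.1 hy
  refine mem_pull.2 ⟨mul_mem (mul_mem (hX hx) hy') (inv_mem (hX hx)), ?_⟩
  have h1 := (mem_normalizer_iff.1 (h (qe_mem (hX hx) hx)) _).1 hyA
  exact h1

theorem qe_pow {x : G} (hx : x ∈ 𝓝(N)) (n : ℕ) : qe N (pow_mem hx n) = (qe N hx) ^ n := rfl

end pull

section
variable {G : Type u} [Group G]

/-- `H / N` has `p`-length at most one (with `R`-invariant witnesses) -/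
def PL1 (p : ℕ) (H R N : Subgroup G) : Prop :=
  ∃ A M : Subgroup G, N ≤ A ∧ A ≤ M ∧ M ≤ H ∧ H ⊔ R ≤ 𝓝(A) ∧ H ⊔ R ≤ 𝓝(M) ∧
    (∀ x ∈ A, ∃ m : ℕ, m.Coprime p ∧ x ^ m ∈ N) ∧ (∀ x ∈ M, ∃ k : ℕ, x ^ p ^ k ∈ A) ∧
    (∀ x ∈ H, ∃ m : ℕ, m.Coprime p ∧ x ^ m ∈ M)

variable {p : ℕ} {H R N : Subgroup G}

theorem PL1.inter {C D : Subgroup G} (hC : PL1 p H R C) (hD : PL1 p H R D) (hCD : C ⊓ D = ⊥) :
    PL1 p H R ⊥ := by
  obtain ⟨A, M, h1, h2, h3, h4, h5, h6, h7, h8⟩ := hC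
  obtain ⟨A', M', h1', h2', h3', h4', h5', h6', h7', h8'⟩ := hD
  refine ⟨A ⊓ A', M ⊓ M', bot_le, inf_le_inf h2 h2', inf_le_left.trans h3, le_nz_inf h4 h4',
    le_nz_inf h5 h5', ?_, ?_, ?_⟩
  · intro x hx
    obtain ⟨m, hm, hxm⟩ := h6 x (mem_inf.1 hx).1
    obtain ⟨m', hm', hxm'⟩ := h6' x (mem_inf.1 hx).2
    refine ⟨m * m', Nat.Coprime.mul_left hm hm', ?_⟩
    rw [← hCD]
    refine mem_inf.2 ⟨?_, ?_⟩
    · rw [pow_mul]; exact pow_mem hxm _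
    · rw [mul_comm, pow_mul]; exact pow_mem hxm' _
  · intro x hx
    obtain ⟨k, hk⟩ := h7 x (mem_inf.1 hx).1
    obtain ⟨k', hk'⟩ := h7' x (mem_inf.1 hx).2
    refine ⟨k + k', mem_inf.2 ⟨?_, ?_⟩⟩
    · rw [pow_add, pow_mul]; exact pow_mem hk _
    · rw [add_comm, pow_add, pow_mul]; exact pow_mem hk' _
  · intro x hx
    obtain ⟨m, hm, hxm⟩ := h8 x hx
    obtain ⟨m', hm', hxm'⟩ := h8' x hx
    refine ⟨m * m', Nat.Coprime.mul_left hm hm', mem_inf.2 ⟨?_, ?_⟩⟩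
    · rw [pow_mul]; exact pow_mem hxm _
    · rw [mul_comm, pow_mul]; exact pow_mem hxm' _

theorem PL1.of_pprime [Finite G] (hp : p.Prime) (h : PL1 p H R N) (hN : (Nat.card N).Coprime p) :
    PL1 p H R ⊥ := by
  obtain ⟨A, M, h1, h2, h3, h4, h5, h6, h7, h8⟩ := h
  refine ⟨A, M, bot_le, h2, h3, h4, h5, ?_, h7, h8⟩
  intro x hx
  obtain ⟨m, hm, hxm⟩ := h6 x hx
  refine ⟨m * Nat.card N, Nat.Coprime.mul_left hm hN, ?_⟩
  rw [pow_mul, mem_bot]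
  have : (⟨x ^ m, hxm⟩ : N) ^ Nat.card N = 1 := pow_card_eq_one'
  exact congrArg Subtype.val this

/-- a normal `p`-subgroup with `p'` quotient -/
theorem PL1.of_pgroup {M : Subgroup G} (hMH : M ≤ H) (hn : H ⊔ R ≤ 𝓝(M)) (hM : IsPGroup p M)
    (h : ∀ x ∈ H, ∃ m : ℕ, m.Coprime p ∧ x ^ m ∈ M) : PL1 p H R ⊥ := by
  refine ⟨⊥, M, le_rfl, bot_le, hMH, ?_, hn, ?_, ?_, h⟩
  · rw [le_nz]
    rintro k _ h hh; rw [mem_bot] at hh ⊢; rw [hh]; group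
  · intro x hx
    exact ⟨1, Nat.coprime_one_left p, by rw [pow_one]; exact hx⟩
  · intro x hx
    obtain ⟨k, hk⟩ := hM ⟨x, hx⟩
    exact ⟨k, congrArg Subtype.val hk⟩

theorem PL1.plen {H : Type u} [Group H] [Finite H] {p : ℕ} (hp : p.Prime) {R : Subgroup H}
    (h : PL1 p (⊤ : Subgroup H) R ⊥) : PLengthLE p 1 H := by
  haveI : Fact p.Prime := ⟨hp⟩
  obtain ⟨A, M, h1, h2, h3, h4, h5, h6, h7, h8⟩ := h
  obtain ⟨S, hS⟩ := exists_syl hp (⊤ : Subgroup H)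
  rw [plen_one_iff hp hS]
  have hA : A ≤ pPrimeCore p H := by
    rw [pPrimeCore_eq_piCore hp]
    refine le_piCore (normalizer_eq_top_iff.1 (top_le_iff.1 (le_sup_left.trans h4))) ?_
    rw [isPi_compl_singleton hp]
    intro hd
    obtain ⟨x, hx⟩ := exists_prime_orderOf_dvd_card' p hd
    obtain ⟨m, hm, hxm⟩ := h6 x x.2
    have h9 : x ^ m = 1 := Subtype.ext (by simpa using hxm)
    have h10 := orderOf_dvd_of_pow_eq_one h9
    rw [hx] at h10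
    exact hp.one_lt.ne' (Nat.Coprime.eq_one_of_dvd hm.symm h10)
  have hM : M ≤ pPrimePCore p H := by
    refine le_ppc_of_map (normalizer_eq_top_iff.1 (top_le_iff.1 (le_sup_left.trans h5))) ?_
    rintro ⟨_, ⟨x, hx, rfl⟩⟩
    obtain ⟨k, hk⟩ := h7 x hx
    refine ⟨k, Subtype.ext ?_⟩
    show (QuotientGroup.mk' (pPrimeCore p H) x) ^ p ^ k = 1
    rw [← map_pow]
    exact (QuotientGroup.eq_one_iff _).2 (hA hk)
  intro x hx
  obtain ⟨m, hm, hxm⟩ := h8 x (mem_top x)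
  obtain ⟨k, hk⟩ := (hall_isPi hS).isPGroup hp ⟨x, hx⟩
  have hk' : x ^ p ^ k = 1 := congrArg Subtype.val hk
  exact hM (mem_of_pow_mem_coprime (m := m) (n := p ^ k) (hm.pow_right k) hxm
    (by rw [hk']; exact one_mem _))

end

end CfsgLib.BGPi
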