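import Cfsg.Agent.EqBase
import Cfsg.Agent.LibBGThm36f

/-! B & G Theorem 3.6. -/

open scoped Pointwise commutatorElement
open Subgroup Cfsg

namespace CfsgLib.BGPi

universe u

section tools
variable {G : Type u} [Group G] [Finite G]

theorem phi_nongen {p : ℕ} (hp : p.Prime) {P X : Subgroup G} (hP : IsPGroup p P) (hX : X ≤ P)
    (h : P ≤ phi p P ⊔ X) : X = P := by
  haveI : Fact p.Prime := ⟨hp⟩
  have h1 : phi p P ≤ (frattini P).map P.subtype := by
    rw [phi, sup_le_iff, commutator_le, closure_le]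
    constructor
    · intro a ha b hb
      refine ⟨_, CfsgLib.ExtraH28.comm_mem_frattini hP ⟨a, ha⟩ ⟨b, hb⟩, rfl⟩
    · rintro _ ⟨x, hx, rfl⟩
      exact ⟨_, CfsgLib.ExtraH28.pow_mem_frattini hP ⟨x, hx⟩, rfl⟩
  have h2 : X.subgroupOf P ⊔ frattini P = ⊤ := by
    apply Subgroup.map_injective P.subtype_injective
    rw [Subgroup.map_sup, subgroupOf_map hX, ← MonoidHom.range_eq_map, range_subtype]
    apply le_antisymm
    · exact sup_le hX (map_subtype_le _)
    · rw [sup_comm]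
      exact h.trans (sup_le_sup_right h1 X)
  have h3 := frattini_nongenerating h2
  rw [subgroupOf_eq_top] at h3
  exact le_antisymm hX h3

theorem zg_mono {A B : Subgroup G} (h : A ≤ B) (hB : IsZGroup B) : IsZGroup A :=
  IsZGroup.of_injective (f := Subgroup.inclusion h) (Subgroup.inclusion_injective h)

theorem zg_cyclic {p : ℕ} (hp : p.Prime) {B P : Subgroup G} (hB : IsZGroup B) (hPB : P ≤ B)
    (hP : IsPGroup p P) : IsCyclic P := by
  haveI : Fact p.Prime := ⟨hp⟩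
  haveI := zg_mono hPB hB
  have h1 : IsPGroup p (⊤ : Subgroup P) := hP.to_subgroup _
  haveI := h1.isCyclic_of_isZGroup
  exact isCyclic_of_surjective (Subgroup.topEquiv (G := P)) Subgroup.topEquiv.surjective

theorem zg_map {G' : Type*} [Group G'] {B : Subgroup G} (hB : IsZGroup B) (f : G →* G') :
    IsZGroup (B.map f) :=
  IsZGroup.of_surjective (f := f.subgroupMap B) (f.subgroupMap_surjective B)

/-- hypotheses of B & G 3.6 -/
structure C36 (H R R₀ : Subgroup G) : Prop where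
  sol : Group.IsSolvable H
  odd : Odd (Nat.card H)
  oddR : Odd (Nat.card R)
  nz : R ≤ 𝓝(H)
  cop : (Nat.card R).Coprime (Nat.card H)
  le : R₀ ≤ R
  pr : (Nat.card R₀).Prime
  zg : IsZGroup ↥(H ⊓ 𝓒(R₀))

variable {H R R₀ : Subgroup G}

theorem C36.sub (c : C36 H R R₀) {L : Subgroup G} (hL : L ≤ H) (hRL : R ≤ 𝓝(L)) : C36 L R R₀ :=
  { sol := solvable_sub hL c.sol
    odd := Odd.of_dvd_nat c.odd (card_dvd_of_le hL)
    oddR := c.oddR
    nz := hRL
    cop := c.cop.coprime_dvd_right (card_dvd_of_le hL)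
    le := c.le
    pr := c.pr
    zg := zg_mono (inf_le_inf_right _ hL) c.zg }

theorem C36.nz₀ (c : C36 H R R₀) : R₀ ≤ 𝓝(H) := c.le.trans c.nz

theorem C36.cop₀ (c : C36 H R R₀) : (Nat.card R₀).Coprime (Nat.card H) :=
  Nat.Coprime.coprime_dvd_left (card_dvd_of_le c.le) c.cop

theorem C36.quot (c : C36 H R R₀) {N : Subgroup G} (hNH : N ≤ H) (hHN : H ≤ 𝓝(N))
    (hRN : R ≤ 𝓝(N)) : C36 (qm N H) (qm N R) (qm N R₀) :=
  { sol := qm_solvable c.sol
    odd := Odd.of_dvd_nat c.odd (qm_card_dvd hHN)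
    oddR := Odd.of_dvd_nat c.oddR (qm_card_dvd hRN)
    nz := qm_nz c.nz
    cop := Nat.Coprime.coprime_dvd_left (qm_card_dvd hRN)
      (c.cop.coprime_dvd_right (qm_card_dvd hHN))
    le := qm_mono c.le
    pr := by
      have h1 : R₀ ⊓ N = ⊥ := by
        rw [eq_bot_iff, ← cop_inf c.cop₀]
        exact inf_le_inf_left _ hNH
      rw [qm_card (c.le.trans hRN), ← inf_relIndex_right, inf_comm, h1, relIndex_bot_left]
      exact c.pr
    zg := by
      have hR₀N := c.le.trans hRN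
      refine zg_mono (B := qm N (H ⊓ 𝓒(R₀))) ?_ ?_
      · intro y hy
        obtain ⟨v, hv, hvV, rfl⟩ := mem_qm.1 (mem_inf.1 hy).1
        have h2 : ⁅zpowers v, R₀⁆ ≤ N := by
          rw [← qm_cz_iff (zpowers_le.2 hv) hR₀N, qm_zpowers hv, zpowers_le]
          exact (mem_inf.1 hy).2
        have h3 := cop_quot_cz c.nz₀ c.cop₀ c.sol hNH hR₀N (zpowers_le.2 hvV) (zpowers_le.2 hv) h2
        rw [qe_mem_iff (inf_le_left.trans hHN), sup_comm]
        exact h3 (mem_zpowers v)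
      · have h1 : IsZGroup ↥((H ⊓ 𝓒(R₀)).subgroupOf 𝓝(N)) := by
          haveI := c.zg
          exact IsZGroup.of_injective
            (f := (subgroupOfEquivOfLe (inf_le_left.trans hHN : H ⊓ 𝓒(R₀) ≤ 𝓝(N))).toMonoidHom)
            (MulEquiv.injective _)
        exact zg_map h1 _ }

theorem PL1_of_quot {p : ℕ} (c : C36 H R R₀) (hHR : ⁅H, R⁆ = H) {N : Subgroup G} (hN : N ≠ ⊥)
    (hNH : N ≤ H) (hHN : H ≤ 𝓝(N)) (hRN : R ≤ 𝓝(N))
    (ih : ∀ m < Nat.card H, ∀ (G : Type u) [Group G] [Finite G] (H R R₀ : Subgroup G),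
      Nat.card H = m → C36 H R R₀ → PL1 p ⁅H, R⁆ R ⊥) : PL1 p H R N := by
  have hlt : Nat.card (qm N H) < Nat.card H := by
    rw [qm_card hHN, ← card_mul_relIndex hNH]
    have h1 : 1 < Nat.card N := by
      rw [Finite.one_lt_card_iff_nontrivial, nontrivial_iff_ne_bot]; exact hN
    have h2 : 0 < N.relIndex H := Nat.pos_of_ne_zero (by
      intro h0
      have := card_mul_relIndex hNH
      rw [h0, mul_zero] at this
      exact (card_pos' H).ne this)
    nlinarith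
  have h := ih _ hlt (QN N) (qm N H) (qm N R) (qm N R₀) rfl (c.quot hNH hHN hRN)
  rw [← qm_comm hHN hRN, hHR] at h
  obtain ⟨A, M, h1, h2, h3, h4, h5, h6, h7, h8⟩ := h
  refine ⟨pull N A, pull N M, le_pull, pull_mono h2, ?_, ?_, ?_, ?_, ?_, ?_⟩
  · conv_rhs => rw [← pull_qm hNH hHN]
    exact pull_mono h3
  · apply pull_nz (sup_le hHN hRN)
    rw [qm_sup hHN hRN]; exact h4
  · apply pull_nz (sup_le hHN hRN)
    rw [qm_sup hHN hRN]; exact h5
  · intro x hx
    obtain ⟨hx1, hx2⟩ := mem_pull.1 hx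
    obtain ⟨m, hm, hxm⟩ := h6 _ hx2
    refine ⟨m, hm, ?_⟩
    rw [mem_bot, ← qe_pow, qe_eq_one] at hxm
    exact hxm
  · intro x hx
    obtain ⟨hx1, hx2⟩ := mem_pull.1 hx
    obtain ⟨k, hk⟩ := h7 _ hx2
    exact ⟨k, mem_pull.2 ⟨pow_mem hx1 _, hk⟩⟩
  · intro x hx
    obtain ⟨m, hm, hxm⟩ := h8 _ (qe_mem (hHN hx) hx)
    exact ⟨m, hm, mem_pull.2 ⟨pow_mem (hHN hx) _, hxm⟩⟩

end tools

end CfsgLib.BGPi
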