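import Cfsg.Agent.EqBase
import Cfsg.Agent.LibBGThm36g
import Cfsg.Agent.LibBG9c

/-! B & G Theorem 3.6: the proof. -/

open scoped Pointwise commutatorElement
open Subgroup Cfsg

namespace CfsgLib.BGPi

universe u
variable {G : Type u} [Group G] [Finite G] {H R R₀ : Subgroup G} {p : ℕ}

theorem bot_nz (X : Subgroup G) : X ≤ 𝓝((⊥ : Subgroup G)) := by
  rw [le_nz]
  rintro k _ h hh; rw [mem_bot] at hh ⊢; rw [hh]; group

theorem pgroup_sup {X Y : Subgroup G} (hp : p.Prime) (hX : IsPGroup p X) (hY : IsPGroup p Y)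
    (h : Y ≤ 𝓝(X)) : IsPGroup p ↥(X ⊔ Y) :=
  ((isPi_of_isPGroup hp hX).sup' (isPi_of_isPGroup hp hY) h).isPGroup hp

theorem bot_of_pgroup_coprime {X : Subgroup G} (hp : p.Prime) (hX : IsPGroup p X)
    (h : (Nat.card X).Coprime p) : X = ⊥ := by
  by_contra h0
  exact hp.one_lt.ne' (Nat.Coprime.eq_one_of_dvd h.symm (pgroup_dvd_card hp hX h0))

theorem fitting_eq_pcore (hp : p.Prime) (h : piCoreOf {p}ᶜ H = ⊥) :
    fittingOf H = piCoreOf {p} H := by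
  have hFn := fittingOf_nilpotent H
  have h1 := nilpotent_sup_piCoreOf (π := {p}) hFn
  have h2 : piCoreOf {p}ᶜ (fittingOf H) = ⊥ := by
    rw [eq_bot_iff, ← h]
    exact le_piCoreOf ((piCoreOf_le _ _).trans (fittingOf_le H))
      ((le_nz_fittingOf H).trans (nz_le_nz_piCoreOf _ _)) (isPi_piCoreOf _ _)
  rw [h2, sup_bot_eq, piCoreOf_fittingOf hp] at h1
  exact h1.symm

/-- first reduction -/
theorem c36_red1 (hp : p.Prime) (c : C36 H R R₀) (hHR : ⁅H, R⁆ = H)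
    (ih : ∀ m < Nat.card H, ∀ (G : Type u) [Group G] [Finite G] (H R R₀ : Subgroup G),
      Nat.card H = m → C36 H R R₀ → PL1 p ⁅H, R⁆ R ⊥) (hcon : ¬ PL1 p H R ⊥) :
    ∃ V ≤ H, H ≤ 𝓝(V) ∧ R ≤ 𝓝(V) ∧ IsElementaryAbelian p V ∧ V ≠ ⊥ ∧ H ⊓ 𝓒(V) ≤ V ∧
      ∀ X ≤ H, H ≤ 𝓝(X) → IsPGroup p X → X ≤ V := by
  have hRH := c.nz
  have hquot : ∀ N : Subgroup G, N ≠ ⊥ → N ≤ H → H ≤ 𝓝(N) → R ≤ 𝓝(N) → PL1 p H R N :=
    fun N h1 h2 h3 h4 => PL1_of_quot c hHR h1 h2 h3 h4 ih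
  have hH0 : H ≠ ⊥ := by
    rintro rfl
    apply hcon
    exact PL1.of_pgroup (M := ⊥) le_rfl (bot_nz _) (IsPGroup.of_bot)
      (fun x hx => ⟨1, Nat.coprime_one_left p, by rw [pow_one]; exact hx⟩)
  have hOp' : piCoreOf {p}ᶜ H = ⊥ := by
    by_contra h0
    apply hcon
    exact (hquot _ h0 (piCoreOf_le _ _) (le_nz_piCoreOf _ _)
      (hRH.trans (nz_le_nz_piCoreOf _ _))).of_pprime hp
      ((isPi_compl_singleton' hp).1 (isPi_piCoreOf _ _))
  have hFV := fitting_eq_pcore hp hOp'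
  set O := piCoreOf {p} H with hO
  have hOp : IsPGroup p O := (isPi_piCoreOf _ _).isPGroup hp
  have hOH : O ≤ H := piCoreOf_le _ _
  have hHO : H ≤ 𝓝(O) := le_nz_piCoreOf _ _
  have hRO : R ≤ 𝓝(O) := hRH.trans (nz_le_nz_piCoreOf _ _)
  have hO0 : O ≠ ⊥ := by
    rw [← hFV]
    intro h
    exact hH0 ((fittingOf_eq_bot c.sol).1 h)
  have hCO : H ⊓ 𝓒(O) ≤ O := by
    rw [← hFV]; exact cz_fittingOf_le c.sol
  have hmax : ∀ X ≤ H, H ≤ 𝓝(X) → IsPGroup p X → X ≤ O := fun X h1 h2 h3 =>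
    le_piCoreOf h1 h2 (isPi_of_isPGroup hp h3)
  have hΦ : phi p O = ⊥ := by
    by_contra h0
    have hΦO := phi_le p O
    have hHΦ : H ≤ 𝓝(phi p O) := hHO.trans (nz_le_nz_phi _ _)
    obtain ⟨A, M, h1, h2, h3, h4, h5, h6, h7, h8⟩ := hquot _ h0 (hΦO.trans hOH)
      hHΦ (hRO.trans (nz_le_nz_phi _ _))
    have hAH : A ≤ H := h2.trans h3
    have hHA : H ≤ 𝓝(A) := le_sup_left.trans h4
    have hAO : A ⊓ O ≤ phi p O := by
      intro x hx
      obtain ⟨m, hm, hxm⟩ := h6 x (mem_inf.1 hx).1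
      obtain ⟨k, hk⟩ := hOp ⟨x, (mem_inf.1 hx).2⟩
      have hk' : x ^ p ^ k = 1 := congrArg Subtype.val hk
      exact mem_of_pow_mem_coprime (m := m) (n := p ^ k) (hm.pow_right k) hxm
        (by rw [hk']; exact one_mem _)
    obtain ⟨Q, hQ⟩ := hall_exists (π := {p}ᶜ) (solvable_sub hAH c.sol)
    have hQH : Q ≤ H := (hall_le hQ).trans hAH
    have hQO : Q ≤ 𝓝(O) := hQH.trans hHO
    have hQp : (Nat.card Q).Coprime p := (isPi_compl_singleton' hp).1 (hall_isPi hQ)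
    have hcop : (Nat.card Q).Coprime (Nat.card O) := coprime_card_of_pgroup hp hOp hQp
    have h9 : ⁅O, Q⁆ ≤ phi p O := by
      refine le_trans (le_inf ?_ ?_) hAO
      · exact (commutator_mono le_rfl (hall_le hQ)).trans (comm_le_right (hOH.trans hHA))
      · exact comm_le_left hQO
    have h10 := cop_quot_cz hQO hcop (pgroup_solvable hp hOp) hΦO (hQH.trans hHΦ) le_rfl
      (hOH.trans hHΦ) h9
    have h11 : O ⊓ 𝓒(Q) = O := phi_nongen hp hOp inf_le_left h10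
    have h12 : Q ≤ O := by
      refine le_trans (le_inf hQH ?_) hCO
      rw [le_cz_comm, ← h11]; exact inf_le_right
    have hQ0 : Q = ⊥ := bot_of_pgroup_coprime hp (hOp.to_le h12) hQp
    rw [hQ0, hall_bot, compl_compl] at hQ
    have hAp := hQ.isPGroup hp
    have hMp : IsPGroup p M := by
      rintro ⟨x, hx⟩
      obtain ⟨k, hk⟩ := h7 x hx
      obtain ⟨l, hl⟩ := hAp ⟨x ^ p ^ k, hk⟩
      refine ⟨k + l, Subtype.ext ?_⟩
      show x ^ p ^ (k + l) = 1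
      rw [pow_add, pow_mul]
      exact congrArg Subtype.val hl
    exact hcon (PL1.of_pgroup h3 h5 hMp h8)
  refine ⟨O, hOH, hHO, hRO, ?_, hO0, hCO, hmax⟩
  rw [elab_iff]
  constructor
  · rw [← comm_eq_bot_iff, eq_bot_iff, ← hΦ]
    exact comm_le_phi p O
  · intro x hx
    have := pow_mem_phi (p := p) hx
    rw [hΦ] at this
    exact this


theorem not_dvd_relIndex_of_elt (hp : p.Prime) {A N : Subgroup G} (hNA : N ≤ A) (hAN : A ≤ 𝓝(N))
    (h : ∀ x ∈ A, ∃ m : ℕ, m.Coprime p ∧ x ^ m ∈ N) : ¬ p ∣ N.relIndex A := by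
  haveI : Fact p.Prime := ⟨hp⟩
  intro hd
  rw [← qm_card hAN] at hd
  obtain ⟨⟨y, hy⟩, hyo⟩ := exists_prime_orderOf_dvd_card' p hd
  obtain ⟨x, hx, hxA, rfl⟩ := mem_qm.1 hy
  obtain ⟨m, hm, hxm⟩ := h x hxA
  have h1 : (qe N hx) ^ m = 1 := by rw [← qe_pow, qe_eq_one]; exact hxm
  have h2 : orderOf (qe N hx) = p := by rw [← hyo]; exact (Subgroup.orderOf_mk _ _).symm
  have h3 := orderOf_dvd_of_pow_eq_one h1
  rw [h2] at h3
  exact hp.one_lt.ne' (Nat.Coprime.eq_one_of_dvd hm.symm h3)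

/-- second reduction -/
theorem c36_red2 (hp : p.Prime) (c : C36 H R R₀)
    (hcon : ¬ PL1 p H R ⊥) {V : Subgroup G} (hVH : V ≤ H) (hHV : H ≤ 𝓝(V)) (hRV : R ≤ 𝓝(V))
    (hVe : IsElementaryAbelian p V) (hV0 : V ≠ ⊥) (hCV : H ⊓ 𝓒(V) ≤ V)
    (hmax : ∀ X ≤ H, H ≤ 𝓝(X) → IsPGroup p X → X ≤ V)
    (hquot : ∀ N : Subgroup G, N ≠ ⊥ → N ≤ H → H ≤ 𝓝(N) → R ≤ 𝓝(N) → PL1 p H R N) :
    ∃ K L P : Subgroup G, K ≤ L ∧ L ≤ H ∧ L ≤ 𝓝(K) ∧ R ≤ 𝓝(K) ∧ R ≤ 𝓝(L) ∧ V ⊓ L = ⊥ ∧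
      V ⊔ L = H ∧ (Nat.card K).Coprime p ∧ IsPiHallOf {p} P L ∧ R ≤ 𝓝(P) ∧ P ≠ ⊥ ∧
      P ⊓ 𝓒(K) = ⊥ ∧ K ≤ 𝓝(V) := by
  have hRH := c.nz
  have hVp : IsPGroup p V := elab_isPGroup hVe
  haveI := hVe.1
  obtain ⟨A, M, h1, h2, h3, h4, h5, h6, h7, h8⟩ := hquot V hV0 hVH hHV hRV
  have hAH : A ≤ H := h2.trans h3
  have hHA : H ≤ 𝓝(A) := le_sup_left.trans h4
  have hRA : R ≤ 𝓝(A) := le_sup_right.trans h4
  have hAs := solvable_sub hAH c.sol
  have hAV : A ≤ 𝓝(V) := hAH.trans hHV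
  obtain ⟨K, hK, hRK⟩ := cop_hall_exists hRA (c.cop.coprime_dvd_right (card_dvd_of_le hAH)) hAs
    {p}ᶜ
  have hKp : (Nat.card K).Coprime p := (isPi_compl_singleton' hp).1 (hall_isPi hK)
  have hKA := hall_le hK
  have hKH : K ≤ H := hKA.trans hAH
  have hKV : K ≤ 𝓝(V) := hKH.trans hHV
  have hVK0 : V ⊓ K = ⊥ := by
    exact bot_of_pgroup_coprime hp (hVp.to_le inf_le_left)
      (Nat.Coprime.coprime_dvd_left (card_dvd_of_le inf_le_right) hKp)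
  have hVK : V ⊔ K = A := by
    apply le_antisymm (sup_le h1 hKA)
    rw [← relIndex_eq_one]
    by_contra hne
    obtain ⟨q, hq, hqd⟩ := Nat.exists_prime_and_dvd hne
    by_cases hqp : q = p
    · subst hqp
      exact not_dvd_relIndex_of_elt hq h1 hAV h6
        (hqd.trans (relIndex_dvd_of_le_left A le_sup_left))
    · exact (hall_iff.1 hK).2.2 q hq hqp (hqd.trans (relIndex_dvd_of_le_left A le_sup_right))
  set L := H ⊓ 𝓝(K) with hL
  have hLH : L ≤ H := inf_le_left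
  have hLK : L ≤ 𝓝(K) := inf_le_right
  have hKL : K ≤ L := le_inf hKH le_normalizer
  have hRL : R ≤ 𝓝(L) := le_nz_inf hRH (hRK.trans (nz_le_nz_nz _))
  have hLV : L ≤ 𝓝(V) := hLH.trans hHV
  have hVL : V ⊔ L = H := by
    apply le_antisymm (sup_le hVH hLH)
    have h9 := frattini_hall hAs hAH hHA hK
    rw [← hL] at h9
    conv_lhs => rw [← h9, ← hVK]
    exact sup_le (sup_le le_sup_left (hKL.trans le_sup_right)) le_sup_right
  have hVLK : V ⊓ L ≤ 𝓒(K) := by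
    rw [← comm_eq_bot_iff, eq_bot_iff, ← hVK0]
    refine le_inf ?_ ?_
    · exact (commutator_mono inf_le_left le_rfl).trans (comm_le_left hKV)
    · exact (commutator_mono inf_le_right le_rfl).trans (comm_le_right hLK)
  have hcopKV : (Nat.card K).Coprime (Nat.card V) := coprime_card_of_pgroup hp hVp hKp
  obtain ⟨hd1, hd2⟩ := CfsgLib.Coprime2.abelian_decomp hKV hcopKV
  have hVV : V ≤ 𝓒(V) := (elab_iff.1 hVe).1
  have hnz : ∀ X ≤ V, L ≤ 𝓝(X) → H ≤ 𝓝(X) := by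
    intro X hX hLX
    rw [← hVL]
    exact sup_le (le_nz_of_le_cz (hVV.trans (cz_anti hX))) hLX
  by_cases hD : ⁅V, K⁆ = ⊥
  · exfalso
    have h9 : K ≤ V := le_trans (le_inf hKH (le_cz_comm.1 (comm_eq_bot_iff.1 hD))) hCV
    have hK0 : K = ⊥ := bot_of_pgroup_coprime hp (hVp.to_le h9) hKp
    rw [hK0, sup_bot_eq] at hVK
    have hMp : IsPGroup p M := by
      rintro ⟨x, hx⟩
      obtain ⟨k, hk⟩ := h7 x hx
      rw [← hVK] at hk
      obtain ⟨l, hl⟩ := hVp ⟨x ^ p ^ k, hk⟩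
      refine ⟨k + l, Subtype.ext ?_⟩
      show x ^ p ^ (k + l) = 1
      rw [pow_add, pow_mul]
      exact congrArg Subtype.val hl
    exact hcon (PL1.of_pgroup h3 h5 hMp h8)
  have hDV : ⁅V, K⁆ ≤ V := comm_le_left hKV
  by_cases hC : V ⊓ 𝓒(K) = ⊥
  swap
  · exfalso
    apply hcon
    refine (hquot _ hC (inf_le_left.trans hVH) (hnz _ inf_le_left (le_nz_inf hLV (le_nz_cz hLK)))
      (le_nz_inf hRV (le_nz_cz hRK))).inter (hquot _ hD (hDV.trans hVH)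
      (hnz _ hDV (le_nz_comm hLV hLK)) (le_nz_comm hRV hRK)) hd1
  have hVL0 : V ⊓ L = ⊥ := by
    rw [eq_bot_iff, ← hC]
    exact le_inf inf_le_left hVLK
  obtain ⟨P, hP, hRP⟩ := cop_hall_exists hRL (c.cop.coprime_dvd_right (card_dvd_of_le hLH))
    (solvable_sub hLH c.sol) {p}
  have hPL := hall_le hP
  have hPp : IsPGroup p P := (hall_isPi hP).isPGroup hp
  have hP0 : P ≠ ⊥ := by
    rintro rfl
    rw [hall_bot, isPi_compl_singleton' hp] at hP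
    apply hcon
    refine PL1.of_pgroup hVH (sup_le hHV hRV) hVp ?_
    intro x hx
    rw [← hVL, sup_comm] at hx
    obtain ⟨l, hl, v, hv, rfl⟩ := (mem_sup_of_nz hLV).1 hx
    obtain ⟨d, hd, he⟩ := pow_mul_nz (hLV hl) hv (Nat.card L)
    refine ⟨Nat.card L, hP, ?_⟩
    have h9 : l ^ Nat.card L = 1 := by
      have : (⟨l, hl⟩ : L) ^ Nat.card L = 1 := pow_card_eq_one'
      exact congrArg Subtype.val this
    rw [he, h9, one_mul]
    exact hd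
  refine ⟨K, L, P, hKL, hLH, hLK, hRK, hRL, hVL0, hVL, hKp, hP, hRP, hP0, ?_, hKV⟩
  -- `P ∩ C(K) = 1`
  have hPM : P ≤ M := by
    intro x hx
    obtain ⟨m, hm, hxm⟩ := h8 x (hLH (hPL hx))
    obtain ⟨k, hk⟩ := hPp ⟨x, hx⟩
    have hk' : x ^ p ^ k = 1 := congrArg Subtype.val hk
    exact mem_of_pow_mem_coprime (m := m) (n := p ^ k) (hm.pow_right k) hxm
      (by rw [hk']; exact one_mem _)
  set T := (M ⊓ L) ⊓ 𝓒(K) with hT
  have hTL : T ≤ L := inf_le_left.trans inf_le_right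
  have hLT : L ≤ 𝓝(T) :=
    le_nz_inf (le_nz_inf (hLH.trans (le_sup_left.trans h5)) le_normalizer) (le_nz_cz hLK)
  have hAL : A ⊓ L ≤ K := by
    intro x hx
    have hx1 := (mem_inf.1 hx).1
    rw [← hVK] at hx1
    obtain ⟨v, hv, k, hk, rfl⟩ := (mem_sup_of_nz' hKV).1 hx1
    have hvL : v ∈ V ⊓ L := by
      refine mem_inf.2 ⟨hv, ?_⟩
      have := mul_mem (mem_inf.1 hx).2 (inv_mem (hKL hk))
      rwa [mul_inv_cancel_right] at this
    rw [hVL0, mem_bot] at hvL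
    rw [hvL, one_mul]; exact hk
  have hTn : Group.IsNilpotent T := by
    apply nilpotent_of_central_quot hp
    intro x hx hxo
    have hxM := (mem_inf.1 (mem_inf.1 hx).1).1
    have hxL := (mem_inf.1 (mem_inf.1 hx).1).2
    obtain ⟨k, hk⟩ := h7 x hxM
    have hxA : x ∈ A := mem_of_pow_mem_coprime (m := p ^ k) (n := orderOf x)
      ((hxo.pow_right k).symm) hk (by rw [pow_orderOf_eq_one]; exact one_mem _)
    have hxK : x ∈ K := hAL (mem_inf.2 ⟨hxA, hxL⟩)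
    have : T ≤ 𝓒(K) := inf_le_right
    exact (le_cz_comm.1 this) hxK
  set E := piCoreOf {p} T with hE
  have hEL : E ≤ L := (piCoreOf_le _ _).trans hTL
  have hLE : L ≤ 𝓝(E) := hLT.trans (nz_le_nz_piCoreOf _ _)
  have hEp : IsPGroup p E := (isPi_piCoreOf _ _).isPGroup hp
  have hVE : V ⊔ E ≤ V := by
    apply hmax _ (sup_le hVH (hEL.trans hLH))
    · rw [← hVL]
      refine sup_le (le_sup_left.trans le_normalizer) (le_nz_sup hLV hLE)
    · exact pgroup_sup hp hVp hEp (hEL.trans hLV)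
  have hE0 : E = ⊥ := by
    rw [eq_bot_iff, ← hVL0]
    exact le_inf (le_sup_right.trans hVE) hEL
  rw [eq_bot_iff, ← hE0]
  refine nilpotent_le_piCoreOf hTn ?_ (isPi_of_isPGroup hp (hPp.to_le inf_le_left))
  exact le_inf (le_inf (inf_le_left.trans hPM) (inf_le_left.trans hPL)) inf_le_right


theorem comm_sup_le_left {V L R : Subgroup G} (hLV : L ≤ 𝓝(V)) (hRV : R ≤ 𝓝(V)) :
    ⁅V ⊔ L, R⁆ ≤ V ⊔ ⁅L, R⁆ := by
  rw [commutator_le]
  intro g hg ρ hρ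
  obtain ⟨v, hv, l, hl, rfl⟩ := (mem_sup_of_nz' hLV).1 hg
  have h1 : ⁅v * l, ρ⁆ = v * ⁅l, ρ⁆ * (ρ * v⁻¹ * ρ⁻¹) := by
    simp only [commutatorElement_def]; group
  rw [h1]
  refine mul_mem (mul_mem (mem_sup_left hv) (mem_sup_right (commutator_mem_commutator hl hρ))) ?_
  exact mem_sup_left ((mem_normalizer_iff.1 (hRV hρ) _).1 (inv_mem hv))

theorem nilpotent_of_class2 {L : Subgroup G} (h : ⁅L, L⁆ ≤ 𝓒(L)) : Group.IsNilpotent L := by
  have h1 : (Abelianization.of (G := L)).ker ≤ Subgroup.center L := by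
    rw [Abelianization.ker_of]
    intro x hx
    rw [mem_center_iff]
    intro y
    apply Subtype.ext
    have h2 : (x : G) ∈ ⁅L, L⁆ := by
      have h3 : (commutator L).map L.subtype = ⁅L, L⁆ := by
        rw [commutator_def, map_commutator, ← MonoidHom.range_eq_map, range_subtype]
      rw [← h3]; exact ⟨x, hx, rfl⟩
    exact mem_cz.1 (h h2) y y.2
  exact Subgroup.isNilpotent_of_ker_le_center _ h1

/-- Case A -/
theorem c36_caseA (hp : p.Prime) (hp2 : p ≠ 2) (c : C36 H R R₀) (hHR : ⁅H, R⁆ = H)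
    {V : Subgroup G} (hVH : V ≤ H) (hHV : H ≤ 𝓝(V)) (hRV : R ≤ 𝓝(V))
    (hVe : IsElementaryAbelian p V) (hCV : H ⊓ 𝓒(V) ≤ V)
    (hmax : ∀ X ≤ H, H ≤ 𝓝(X) → IsPGroup p X → X ≤ V)
    {K L P : Subgroup G} (hKL : K ≤ L) (hLH : L ≤ H) (hLK : L ≤ 𝓝(K)) (hRK : R ≤ 𝓝(K))
    (hRL : R ≤ 𝓝(L)) (hVL0 : V ⊓ L = ⊥) (hVL : V ⊔ L = H) (hKp : (Nat.card K).Coprime p)
    (hP : IsPiHallOf {p} P L) (hP0 : P ≠ ⊥) (hPK : P ⊓ 𝓒(K) = ⊥)
    (hA : V ⊓ 𝓒(R₀) = ⊥) : False := by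
  have hLs := solvable_sub hLH c.sol
  have hVp : IsPGroup p V := elab_isPGroup hVe
  have hLV : L ≤ 𝓝(V) := hLH.trans hHV
  have hR₀V := c.le.trans hRV
  have hr := c.pr
  have hcopL : (Nat.card R₀).Coprime (Nat.card L) :=
    c.cop₀.coprime_dvd_right (card_dvd_of_le hLH)
  have hR₀2 : Nat.card R₀ ≠ 2 := by
    intro h
    have h1 : Odd (Nat.card R₀) := Odd.of_dvd_nat c.oddR (card_dvd_of_le c.le)
    rw [h] at h1
    exact absurd h1 (by decide)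
  have hPL := hall_le hP
  have hPp : IsPGroup p P := (hall_isPi hP).isPGroup hp
  have hrp : Nat.card R₀ ≠ p := by
    intro h
    have h1 : p ∣ Nat.card L := (pgroup_dvd_card hp hPp hP0).trans (card_dvd_of_le hPL)
    rw [h] at hcopL
    exact hp.one_lt.ne' (Nat.Coprime.eq_one_of_dvd hcopL h1)
  have key : ∀ X ≤ L, (Nat.card X).Coprime p → R₀ ≤ 𝓝(X) → X ≤ 𝓒(R₀) := by
    intro X hXL hXp hRX
    have h1 := thm34 hp hr hrp hR₀2 hVe rfl (solvable_sub hXL hLs)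
      (Odd.of_dvd_nat c.odd (card_dvd_of_le (hXL.trans hLH)))
      (fun h => hp.one_lt.ne' (Nat.Coprime.eq_one_of_dvd hXp.symm h))
      (hcopL.coprime_dvd_right (card_dvd_of_le hXL)) hRX (hXL.trans hLV) hR₀V hA
    rw [← comm_eq_bot_iff, eq_bot_iff, ← hVL0]
    have h2 : ⁅X, R₀⁆ ≤ L := (comm_le_left hRX).trans hXL
    exact le_inf (le_trans (le_inf (h2.trans hLH) h1) hCV) h2
  have hKR : K ≤ 𝓒(R₀) := key K hKL hKp (c.le.trans hRK)
  set X := L ⊓ 𝓒(K) with hX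
  have hXL : X ≤ L := inf_le_left
  have hLX : L ≤ 𝓝(X) := le_nz_inf le_normalizer (le_nz_cz hLK)
  have hXp : (Nat.card X).Coprime p := by
    have h1 := hall_inf_normal hP hXL hLX
    have h2 : P ⊓ X = ⊥ := by
      rw [eq_bot_iff, ← hPK]
      exact le_inf inf_le_left (inf_le_right.trans inf_le_right)
    rw [h2, hall_bot, isPi_compl_singleton' hp] at h1
    exact h1
  have hR₀L : R₀ ≤ 𝓝(L) := c.le.trans hRL
  have hXR : X ≤ 𝓒(R₀) := key X hXL hXp (le_nz_inf hR₀L (le_nz_cz (c.le.trans hRK)))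
  have h1 : ⁅⁅L, K⁆, R₀⁆ = ⊥ := by
    rw [comm_eq_bot_iff]
    exact (comm_le_right hLK).trans hKR
  have h2 : ⁅⁅K, R₀⁆, L⁆ = ⊥ := by
    rw [comm_eq_bot_iff.2 hKR, commutator_bot_left]
  have h3 := three_le h1 h2
  have h4 : ⁅L, R₀⁆ ≤ X := by
    refine le_inf (comm_le_left hR₀L) ?_
    rw [commutator_comm, ← comm_eq_bot_iff]; exact h3
  have h5 : L ≤ 𝓒(R₀) :=
    le_cz_comm.1 (cop_le_cz hR₀L hcopL hLs (le_cz_comm.1 (h4.trans hXR)))
  have hLz : IsZGroup L := zg_mono (le_inf hLH h5) c.zg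
  have hLR : ⁅L, R⁆ = L := by
    apply le_antisymm (comm_le_left hRL)
    have h6 : H ≤ V ⊔ ⁅L, R⁆ := by
      conv_lhs => rw [← hHR, ← hVL]
      exact comm_sup_le_left hLV hRV
    intro x hx
    have h7 : ⁅L, R⁆ ≤ 𝓝(V) := (comm_le_left hRL).trans hLV
    obtain ⟨v, hv, y, hy, rfl⟩ := (mem_sup_of_nz' h7).1 (h6 (hLH hx))
    have hvL : v ∈ V ⊓ L := by
      refine mem_inf.2 ⟨hv, ?_⟩
      have := mul_mem hx (inv_mem (comm_le_left hRL hy))
      rwa [mul_inv_cancel_right] at this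
    rw [hVL0, mem_bot] at hvL
    rw [hvL, one_mul]; exact hy
  have hcyc : IsCyclic ↥⁅L, L⁆ := by
    haveI := IsZGroup.isCyclic_commutator (G := L)
    have h6 : (commutator L).map L.subtype = ⁅L, L⁆ := by
      rw [commutator_def, map_commutator, ← MonoidHom.range_eq_map, range_subtype]
    rw [← h6]
    exact isCyclic_of_surjective (L.subtype.subgroupMap (commutator L))
      (L.subtype.subgroupMap_surjective _)
  have h6 := comm_le_cz_cyclic (A := L ⊔ R) hcyc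
    (sup_le (le_nz_comm le_normalizer le_normalizer) (le_nz_comm hRL hRL))
  have h7 : ⁅L, L⁆ ≤ 𝓒(L) := by
    rw [le_cz_comm]
    refine le_trans ?_ h6
    conv_lhs => rw [← hLR]
    exact commutator_mono le_sup_left le_sup_right
  have hLn := nilpotent_of_class2 h7
  set E := piCoreOf {p} L with hE
  have hPE : P ≤ E := nilpotent_le_piCoreOf hLn hPL (hall_isPi hP)
  have hEL : E ≤ L := piCoreOf_le _ _
  have hLE : L ≤ 𝓝(E) := le_nz_piCoreOf _ _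
  have hEp : IsPGroup p E := (isPi_piCoreOf _ _).isPGroup hp
  have hVE : V ⊔ E ≤ V := by
    apply hmax _ (sup_le hVH (hEL.trans hLH))
    · rw [← hVL]
      refine sup_le (le_sup_left.trans le_normalizer) (le_nz_sup hLV hLE)
    · exact pgroup_sup hp hVp hEp (hEL.trans hLV)
  apply hP0
  rw [eq_bot_iff, ← hVL0]
  exact le_inf (hPE.trans (le_sup_right.trans hVE)) hPL

/-- Case B -/
theorem c36_caseB (hp : p.Prime) (hp2 : p ≠ 2) (c : C36 H R R₀)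
    {V : Subgroup G} (hVH : V ≤ H) (hHV : H ≤ 𝓝(V)) (hRV : R ≤ 𝓝(V))
    (hVe : IsElementaryAbelian p V) (hCV : H ⊓ 𝓒(V) ≤ V)
    {K L P : Subgroup G} (hKL : K ≤ L) (hLH : L ≤ H) (hLK : L ≤ 𝓝(K)) (hRK : R ≤ 𝓝(K))
    (hVL0 : V ⊓ L = ⊥) (hKp : (Nat.card K).Coprime p)
    (hP : IsPiHallOf {p} P L) (hRP : R ≤ 𝓝(P)) (hP0 : P ≠ ⊥) (hPK : P ⊓ 𝓒(K) = ⊥)
    (hB : V ⊓ 𝓒(R₀) ≠ ⊥) : False := by
  haveI : Fact p.Prime := ⟨hp⟩
  have hLs := solvable_sub hLH c.sol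
  have hVp : IsPGroup p V := elab_isPGroup hVe
  have hLV : L ≤ 𝓝(V) := hLH.trans hHV
  have hR₀V := c.le.trans hRV
  have hr := c.pr
  have hcopL : (Nat.card R₀).Coprime (Nat.card L) :=
    c.cop₀.coprime_dvd_right (card_dvd_of_le hLH)
  have hR₀2 : Nat.card R₀ ≠ 2 := by
    intro h
    have h1 : Odd (Nat.card R₀) := Odd.of_dvd_nat c.oddR (card_dvd_of_le c.le)
    rw [h] at h1
    exact absurd h1 (by decide)
  have hPL := hall_le hP
  have hPH := hPL.trans hLH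
  have hPp : IsPGroup p P := (hall_isPi hP).isPGroup hp
  have hrp : Nat.card R₀ ≠ p := by
    intro h
    have h1 : p ∣ Nat.card L := (pgroup_dvd_card hp hPp hP0).trans (card_dvd_of_le hPL)
    rw [h] at hcopL
    exact hp.one_lt.ne' (Nat.Coprime.eq_one_of_dvd hcopL h1)
  have hVR : Nat.card ↥(V ⊓ 𝓒(R₀)) ≤ p := by
    have h1 : IsCyclic ↥(V ⊓ 𝓒(R₀)) :=
      zg_cyclic hp c.zg (inf_le_inf_right _ hVH) (hVp.to_le inf_le_left)
    by_contra h2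
    push Not at h2
    have hVe' : IsElementaryAbelian p (V ⊓ 𝓒(R₀)) := elab_mono inf_le_left hVe
    obtain ⟨n, hn⟩ := elab_card hp hVe'
    have h3 : p ^ 2 ≤ Nat.card ↥(V ⊓ 𝓒(R₀)) := by
      rw [hn] at h2 ⊢
      apply Nat.pow_le_pow_right hp.pos
      by_contra h4
      have : p ^ n ≤ p ^ 1 := Nat.pow_le_pow_right hp.pos (by omega)
      rw [pow_one] at this
      omega
    exact nc_of_card hp hVe' h3 h1
  have hPR : P ⊓ 𝓒(R₀) = ⊥ := by
    by_contra h0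
    have hd := pgroup_dvd_card hp (hPp.to_le (inf_le_left : P ⊓ 𝓒(R₀) ≤ P)) h0
    obtain ⟨⟨x, hx⟩, hxo⟩ := exists_prime_orderOf_dvd_card' p hd
    have hxo' : orderOf x = p := by rw [← hxo]; exact (Subgroup.orderOf_mk _ _).symm
    have hx1 : x ≠ 1 := by
      rintro rfl
      rw [orderOf_one] at hxo'
      exact hp.one_lt.ne hxo'
    have hxp : x ^ p = 1 := by rw [← hxo']; exact pow_orderOf_eq_one x
    obtain ⟨⟨v, hv⟩, hv1⟩ := Subgroup.ne_bot_iff_exists_ne_one.1 hB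
    have hv1' : v ≠ 1 := fun h => hv1 (Subtype.ext h)
    have hcyc : IsCyclic ↥((V ⊔ P) ⊓ 𝓒(R₀)) :=
      zg_cyclic hp c.zg (inf_le_inf_right _ (sup_le hVH hPH))
        ((pgroup_sup hp hVp hPp (hPL.trans hLV)).to_le inf_le_left)
    have h1 := mem_zpowers_of_cyclic hcyc hp
      (mem_inf.2 ⟨mem_sup_left (mem_inf.1 hv).1, (mem_inf.1 hv).2⟩)
      (mem_inf.2 ⟨mem_sup_right (mem_inf.1 hx).1, (mem_inf.1 hx).2⟩) hv1'
      (hVe.2 v (mem_inf.1 hv).1) hxp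
    apply hx1
    have h2 : x ∈ V ⊓ L := mem_inf.2 ⟨zpowers_le.2 (mem_inf.1 hv).1 h1, hPL (mem_inf.1 hx).1⟩
    rw [hVL0] at h2
    exact h2
  have hR₀P : R₀ ≤ 𝓝(P) := c.le.trans hRP
  have hKs := solvable_sub hKL hLs
  have hKodd : Odd (Nat.card K) := Odd.of_dvd_nat c.odd (card_dvd_of_le (hKL.trans hLH))
  have hrK : (Nat.card R₀).Coprime (Nat.card K) := hcopL.coprime_dvd_right (card_dvd_of_le hKL)
  have hcopK : (Nat.card ↥(P ⊔ R₀)).Coprime (Nat.card K) := by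
    have h1 := card_sup_mul_card_inf (H := R₀) (K := P) hR₀P
    have h2 : Nat.card ↥(P ⊔ R₀) ∣ Nat.card R₀ * Nat.card P := by
      rw [← h1, sup_comm]; exact Dvd.intro _ rfl
    refine Nat.Coprime.coprime_dvd_left h2 (Nat.Coprime.mul_left hrK ?_)
    obtain ⟨k, hk⟩ := IsPGroup.iff_card.1 hPp
    rw [hk]; exact hKp.symm.pow_left k
  have hPRK : P ⊔ R₀ ≤ 𝓝(K) := sup_le (hPL.trans hLK) (c.le.trans hRK)
  have hKP : K ≤ 𝓒(P) := by
    apply le_of_syls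
    intro q hq
    obtain ⟨Q, hQ, hPQ⟩ := cop_hall_exists hPRK hcopK hKs {q}
    refine ⟨Q, hQ, ?_⟩
    have hQK := hall_le hQ
    have hQq : IsPGroup q Q := (hall_isPi hQ).isPGroup hq
    by_cases hQ0 : Q = ⊥
    · rw [hQ0]; exact bot_le
    have hqK : q ∣ Nat.card K := (pgroup_dvd_card hq hQq hQ0).trans (card_dvd_of_le hQK)
    rw [le_cz_comm]
    refine core36 hp hq hr hp2 ?_ hR₀2 hrp ?_ ?_ rfl hPp hR₀P hVe (hPL.trans hLV) hR₀V hPR hVR _ Q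
      rfl hQq (le_sup_left.trans hPQ) (le_sup_right.trans hPQ) (hQK.trans (hKL.trans hLV)) ?_ ?_
    · rintro rfl
      exact (Nat.not_even_iff_odd.2 hKodd) (even_iff_two_dvd.2 hqK)
    · rintro rfl
      exact hq.one_lt.ne' (Nat.Coprime.eq_one_of_dvd hKp.symm hqK)
    · rintro rfl
      exact hq.one_lt.ne' (Nat.Coprime.eq_one_of_dvd hrK hqK)
    · rw [eq_bot_iff, ← hVL0]
      have hQL := hQK.trans hKL
      exact le_inf (le_trans (inf_le_inf_right _ (hQL.trans hLH)) hCV) (inf_le_left.trans hQL)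
    · exact zg_cyclic hq c.zg (inf_le_inf_right _ (hQK.trans (hKL.trans hLH)))
        (hQq.to_le inf_le_left)
  apply hP0
  rw [eq_bot_iff, ← hPK]
  exact le_inf le_rfl (le_cz_comm.1 hKP)

/-- B & G Theorem 3.6 -/
theorem thm36 (hp : p.Prime) : ∀ (n : ℕ) (G : Type u) [Group G] [Finite G] (H R R₀ : Subgroup G),
    Nat.card H = n → C36 H R R₀ → PL1 p ⁅H, R⁆ R ⊥ := by
  intro n
  induction n using Nat.strong_induction_on with
  | _ n ih =>
  intro G _ _ H R R₀ hn c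
  by_cases hHR : ⁅H, R⁆ = H
  swap
  · have hlt : ⁅H, R⁆ < H := lt_of_le_of_ne (comm_le_left c.nz) hHR
    have h1 := ih (Nat.card ↥⁅H, R⁆) (by
      rw [← hn]
      refine lt_of_le_of_ne (Nat.le_of_dvd Nat.card_pos (card_dvd_of_le hlt.le)) ?_
      intro h; exact hlt.ne (eq_of_card_le hlt.le h.ge)) G ⁅H, R⁆ R R₀ rfl
      (c.sub hlt.le (right_le_nz_comm H R))
    rwa [cop_comm_comm c.nz c.cop c.sol] at h1
  rw [hHR]
  by_contra hcon
  subst hn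
  obtain ⟨V, hVH, hHV, hRV, hVe, hV0, hCV, hmax⟩ := c36_red1 hp c hHR ih hcon
  obtain ⟨K, L, P, hKL, hLH, hLK, hRK, hRL, hVL0, hVL, hKp, hP, hRP, hP0, hPK, hKV⟩ :=
    c36_red2 hp c hcon hVH hHV hRV hVe hV0 hCV hmax
      (fun N h1 h2 h3 h4 => PL1_of_quot c hHR h1 h2 h3 h4 ih)
  have hp2 : p ≠ 2 := by
    rintro rfl
    have h1 := (pgroup_dvd_card hp (elab_isPGroup hVe) hV0).trans (card_dvd_of_le hVH)
    exact (Nat.not_even_iff_odd.2 c.odd) (even_iff_two_dvd.2 h1)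
  by_cases hA : V ⊓ 𝓒(R₀) = ⊥
  · exact c36_caseA hp hp2 c hHR hVH hHV hRV hVe hCV hmax hKL hLH hLK hRK hRL hVL0 hVL hKp hP hP0
      hPK hA
  · exact c36_caseB hp hp2 c hVH hHV hRV hVe hCV hKL hLH hLK hRK hVL0 hKp hP hRP hP0 hPK hA


theorem PL1.plen_sub {D R : Subgroup G} (hp : p.Prime) (h : PL1 p D R ⊥) : PLengthLE p 1 D := by
  obtain ⟨A, M, h1, h2, h3, h4, h5, h6, h7, h8⟩ := h
  refine PL1.plen (R := ⊥) hp ⟨A.subgroupOf D, M.subgroupOf D, bot_le, ?_, le_top, ?_, ?_, ?_, ?_, ?_⟩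
  · intro x hx; exact h2 hx
  · rw [sup_bot_eq]
    intro x _
    exact nz_subgroupOf (le_sup_left.trans h4) (mem_subgroupOf.2 x.2)
  · rw [sup_bot_eq]
    intro x _
    exact nz_subgroupOf (le_sup_left.trans h5) (mem_subgroupOf.2 x.2)
  · intro x hx
    obtain ⟨m, hm, hxm⟩ := h6 x hx
    exact ⟨m, hm, by
      rw [mem_bot] at hxm ⊢
      exact Subtype.ext hxm⟩
  · intro x hx
    obtain ⟨k, hk⟩ := h7 x hx
    exact ⟨k, hk⟩
  · intro x _
    obtain ⟨m, hm, hxm⟩ := h8 x x.2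
    exact ⟨m, hm, hxm⟩

end CfsgLib.BGPi
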