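import Cfsg.Agent.EqBase
import Cfsg.Agent.LibBG9c
import Cfsg.Agent.LibBGThm36h

/-! B & G section 10. -/

open Subgroup
open scoped Pointwise commutatorElement

namespace CfsgLib.BGPi

open Cfsg

universe u
variable {G : Type u} [Group G] [Finite G]

theorem mem_sigma_iff {M : Subgroup G} {p : ℕ} : p ∈ sigma M ↔ p.Prime ∧ p ∣ Nat.card M ∧
    ∃ P, IsPiHallOf {p} P M ∧ 𝓝(P) ≤ M := by
  constructor
  · rintro ⟨hp, hd, P, hP⟩
    haveI : Fact p.Prime := ⟨hp⟩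
    exact ⟨hp, hd, _, hall_of_sylow_sub P, hP⟩
  · rintro ⟨hp, hd, P, hP, hn⟩
    haveI : Fact p.Prime := ⟨hp⟩
    obtain ⟨S, rfl⟩ := exists_sylow_of_hall hP
    exact ⟨hp, hd, S, hn⟩

theorem sigma_prime {M : Subgroup G} {p : ℕ} (h : p ∈ sigma M) : p.Prime := h.1

theorem sigma_nz {M P : Subgroup G} {p : ℕ} (h : p ∈ sigma M) (hP : IsPiHallOf {p} P M) :
    𝓝(P) ≤ M := by
  obtain ⟨hp, hd, S, hS, hn⟩ := mem_sigma_iff.1 h
  obtain ⟨m, hm, rfl⟩ := syl_conj hp hS hP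
  rw [nz_cj]
  conv_rhs => rw [← cj_eq_of_mem hm]
  exact cj_mono hn m

theorem sigma_syl {M P : Subgroup G} {p : ℕ} (h : p ∈ sigma M) (hP : IsPiHallOf {p} P M) :
    IsPiHallOf {p} P ⊤ :=
  syl_of_nz_le h.1 hP le_top (inf_le_right.trans (sigma_nz h hP))

theorem not_rank_of_prank {k : ℕ} {X : Subgroup G} {p : ℕ} (hp : p.Prime) (h : ¬ PRankLE p k X) :
    ¬ RankLE k X := fun h' => h (h' p hp)

theorem hall_subgroupOf' {π : Set ℕ} {S N X : Subgroup G} (h : IsPiHallOf π S N) (hN : N ≤ X) :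
    IsPiHallOf π (S.subgroupOf X) (N.subgroupOf X) := by
  rw [hall_iff] at h ⊢
  refine ⟨fun x hx => h.1 hx, (isPi_subgroupOf (h.1.trans hN)).2 h.2.1, ?_⟩
  rw [relIndex_subgroupOf hN]
  exact h.2.2

theorem qm_hall {π : Set ℕ} {S N C : Subgroup G} (h : IsPiHallOf π S N) (hN : N ≤ 𝓝(C)) :
    IsPiHallOf π (qm C S) (qm C N) :=
  hall_map (hall_subgroupOf' h hN) _

/-- if the derived subgroup of `N` acts on `X` with `p'`-elements acting trivially then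
`S C(X)` is normal -/
theorem der_le_syl_cz {p : ℕ} (hp : p.Prime) {X N S : Subgroup G} (hXN : N ≤ 𝓝(X))
    (hCN : 𝓒(X) ≤ N) (hS : IsPiHallOf {p} S N)
    (h : ∀ a ∈ ⁅N, N⁆, (orderOf a).Coprime p → a ∈ 𝓒(X)) : ⁅N, N⁆ ≤ S ⊔ 𝓒(X) := by
  set C := 𝓒(X) with hC
  have hNC : N ≤ 𝓝(C) := hXN.trans (nz_le_nz_cz X)
  have hSN := hall_le hS
  have h1 : IsPGroup p (qm C ⁅N, N⁆) := by
    rintro ⟨y, hy⟩
    obtain ⟨x, hx, hxN, rfl⟩ := mem_qm.1 hy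
    -- `x ^ (p-part)` has order prime to `p`
    obtain ⟨k, m, hm, hkm⟩ := Nat.exists_eq_pow_mul_and_not_dvd (n := orderOf x)
      (orderOf_pos x).ne' p hp.ne_one
    refine ⟨k, Subtype.ext ?_⟩
    show (qe C hx) ^ p ^ k = 1
    rw [← qe_pow, qe_eq_one]
    apply h _ (pow_mem hxN _)
    rw [orderOf_pow' x (pow_pos hp.pos k).ne', hkm, Nat.gcd_eq_right (Dvd.intro _ rfl),
      Nat.mul_div_cancel_left _ (pow_pos hp.pos k)]
    exact ((Nat.Prime.coprime_iff_not_dvd hp).2 hm).symm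
  have h2 : qm C ⁅N, N⁆ ≤ qm C S := by
    refine le_trans ?_ (piCoreOf_le_hall (qm_hall hS hNC))
    rw [qm_comm hNC hNC] at h1 ⊢
    exact le_piCoreOf (comm_self_le _) (left_le_nz_comm _ _) (isPi_of_isPGroup hp h1)
  rwa [qm_le_iff ((comm_self_le N).trans hNC) (hSN.trans hNC)] at h2

section
variable (hG : IsMinSimpleOddOrder G)
include hG

/-- B & G 10.1 -/
theorem bg10_1_aux {M : Subgroup G} (hM : IsCoatom M) {p : ℕ} (hs : p ∈ sigma M) :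
    ∀ (n : ℕ) (X : Subgroup G), Nat.card G - Nat.card X = n → IsPGroup p X → X ≠ ⊥ → X ≤ M →
      ∀ g : G, X ^ᵍ g ≤ M → ∃ m ∈ M, ∃ c ∈ 𝓒(X), g = m * c := by
  have hp : p.Prime := hs.1
  haveI : Fact p.Prime := ⟨hp⟩
  have hMt := max_ne_top hG hM
  intro n
  induction n using Nat.strong_induction_on with
  | _ n ih =>
  intro X hn hX hX0 hXM g hg
  have hXt := ms_p_ne_top hG hp hX
  -- the induction hypothesis for larger subgroups
  have IH : ∀ Y : Subgroup G, IsPGroup p Y → Nat.card X < Nat.card Y → Y ≤ M →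
      ∀ g : G, Y ^ᵍ g ≤ M → ∃ m ∈ M, ∃ c ∈ 𝓒(Y), g = m * c := by
    intro Y hY hlt hYM g hg
    have h1 : Nat.card Y ≤ Nat.card G := Nat.le_of_dvd Nat.card_pos (card_subgroup_dvd_card Y)
    refine ih (Nat.card G - Nat.card Y) (by omega) Y rfl hY ?_ hYM g hg
    rintro rfl
    rw [card_bot] at hlt
    exact absurd (Nat.card_pos (α := X)) (by omega)
  by_cases hXS : IsPiHallOf {p} X M
  · have h1 : IsPiHallOf {p} (X ^ᵍ g) M := hall_of_card_le hXS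
      (isPi_of_isPGroup hp hX |>.cj g) hg (by rw [card_cj])
    obtain ⟨m, hm, he⟩ := syl_conj hp hXS h1
    have h2 : m⁻¹ * g ∈ 𝓝(X) := by
      rw [mem_nz, cj_mul, ← he, cj_inv_cj]
    refine ⟨g, ?_, 1, one_mem _, by rw [mul_one]⟩
    have h3 : g = m * (m⁻¹ * g) := by group
    rw [h3]
    exact mul_mem hm (sigma_nz hs hXS h2)
  set N := 𝓝(X) with hN
  have hNt : N ≠ ⊤ := ms_nz_ne_top hG hX0 hXt
  have hXN : X ≤ N := le_normalizer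
  have hCN : 𝓒(X) ≤ N := cz_le_nz X
  -- bigger subgroups
  have grow : ∀ L : Subgroup G, X ≤ L → ¬ IsPiHallOf {p} X L → ∃ Y, IsPiHallOf {p} Y (L ⊓ N) ∧
      X ≤ Y ∧ Nat.card X < Nat.card Y := by
    intro L hXL hLc
    obtain ⟨Y, hY, hXY⟩ := exists_syl_ge hp (isPi_of_isPGroup hp hX) (le_inf hXL hXN)
    refine ⟨Y, hY, hXY, ?_⟩
    refine lt_of_le_of_ne (Nat.le_of_dvd Nat.card_pos (card_dvd_of_le hXY)) ?_
    intro he
    have h1 : X = Y := eq_of_card_le hXY he.ge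
    rw [← h1] at hY
    exact hLc (syl_of_nz_le hp hY hXL (le_refl _))
  obtain ⟨X₁, hX₁, hXX₁, hlt₁⟩ := grow M hXM hXS
  have hX₁p : IsPGroup p X₁ := (hall_isPi hX₁).isPGroup hp
  have hX₁M : X₁ ≤ M := (hall_le hX₁).trans inf_le_left
  have hX₁N : X₁ ≤ N := (hall_le hX₁).trans inf_le_right
  -- a Sylow subgroup of `N` inside `M`
  obtain ⟨S₀, hS₀, hS₀M, hS₀c⟩ : ∃ S₀, IsPiHallOf {p} S₀ N ∧ S₀ ≤ M ∧
      Nat.card X < Nat.card S₀ := by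
    obtain ⟨S, hS, hXS₁⟩ := exists_syl_ge hp (hall_isPi hX₁ : IsPi {p} X₁) hX₁N
    obtain ⟨T, hT⟩ := exists_syl hp M
    have hTt := sigma_syl hs hT
    obtain ⟨h, -, hh⟩ := syl_subj hp hTt (hall_isPi hS) le_top
    obtain ⟨m, hm, c, hc, rfl⟩ := IH X₁ hX₁p hlt₁ hX₁M h
      ((cj_mono hXS₁ h).trans (hh.trans (hall_le hT)))
    have hcN : c ∈ N := hCN (cz_anti hXX₁ hc)
    refine ⟨S ^ᵍ c, hall_cj_mem hS hcN, ?_, ?_⟩
    · have h1 : S ^ᵍ (m * c) ≤ M := hh.trans (hall_le hT)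
      rw [cj_mul, cj_le_iff, cj_eq_of_mem (inv_mem hm)] at h1
      exact h1
    · rw [card_cj]
      exact lt_of_lt_of_le hlt₁ (Nat.le_of_dvd Nat.card_pos (card_dvd_of_le hXS₁))
  have hS₀p : IsPGroup p S₀ := (hall_isPi hS₀).isPGroup hp
  have hXS₀ : X ≤ S₀ := by
    have h1 : X ≤ piCoreOf {p} N := le_piCoreOf hXN le_rfl (isPi_of_isPGroup hp hX)
    exact h1.trans (piCoreOf_le_hall hS₀)
  -- factorization of the normalizer
  have hfac : ∀ y ∈ N, ∃ m ∈ M, ∃ c ∈ 𝓒(X), y = m * c := by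
    by_cases hr : PRankLE p 2 S₀
    · have hder : ⁅N, N⁆ ≤ S₀ ⊔ 𝓒(X) := by
        refine der_le_syl_cz hp le_rfl hCN hS₀ ?_
        intro a ha hao
        exact rk2_der hp (ms_p2' hG hp ((pgroup_dvd_card hp hX hX0))) hX
          (rank_mono hXS₀ hr) le_rfl (ms_odd hG N) ha hao
      have hSC : S₀ ⊔ 𝓒(X) ≤ N := sup_le (hall_le hS₀) hCN
      have hn : N ≤ 𝓝(S₀ ⊔ 𝓒(X)) := by
        apply le_nz_of_comm_le
        exact (commutator_mono hSC le_rfl).trans hder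
      have hfr := frattini_syl hp hSC hn (hall_le_of_le hS₀ le_sup_left hSC)
      intro y hy
      rw [← hfr] at hy
      have h1 : S₀ ⊔ 𝓒(X) ⊔ (N ⊓ 𝓝(S₀)) = (N ⊓ 𝓝(S₀)) ⊔ 𝓒(X) := by
        apply le_antisymm
        · exact sup_le (sup_le ((le_inf (hall_le hS₀) le_normalizer).trans le_sup_left)
            le_sup_right) le_sup_left
        · exact sup_le le_sup_right (le_sup_right.trans le_sup_left)
      rw [h1] at hy
      obtain ⟨a, ha, c, hc, rfl⟩ := (mem_sup_of_nz (inf_le_left.trans (nz_le_nz_cz X))).1 hy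
      obtain ⟨m, hm, c', hc', rfl⟩ := IH S₀ hS₀p hS₀c hS₀M a (by
        rw [mem_nz.1 (mem_inf.1 ha).2]; exact hS₀M)
      exact ⟨m, hm, c' * c, mul_mem (cz_anti hXS₀ hc') hc, by group⟩
    · have hU : InUniqueMaximal S₀ := uniq_of_rank3 hG (not_rank_of_prank hp hr)
        (ms_p_ne_top hG hp hS₀p)
      intro y hy
      exact ⟨y, uniq_le hU hM hS₀M (hall_le hS₀) hNt hy, 1, one_mem _, by rw [mul_one]⟩
  -- now treat `g`
  have hXL : X ≤ M ^ᵍ g⁻¹ := cj_le_iff.1 hg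
  obtain ⟨X₂, hX₂, hXX₂, hlt₂⟩ := grow (M ^ᵍ g⁻¹) hXL (by
    intro h
    apply hXS
    have h1 := hall_cj h g
    rw [cj_cj_inv] at h1
    exact hall_of_card_le h1 (isPi_of_isPGroup hp hX) hXM (by rw [card_cj]))
  have hX₂p : IsPGroup p X₂ := (hall_isPi hX₂).isPGroup hp
  obtain ⟨y, hy, hyS⟩ := syl_subj hp hS₀ (hall_isPi hX₂) ((hall_le hX₂).trans inf_le_right)
  have hX₂g : X₂ ^ᵍ g ≤ M := by
    rw [cj_le_iff]; exact (hall_le hX₂).trans inf_le_left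
  obtain ⟨m, hm, c, hc, he⟩ := IH (X₂ ^ᵍ g) ((isPi_of_isPGroup hp hX₂p |>.cj g).isPGroup hp)
    (by rw [card_cj]; exact hlt₂) hX₂g (y * g⁻¹) (by
      rw [cj_mul, cj_inv_cj]; exact hyS.trans hS₀M)
  have hc' : g⁻¹ * c * g ∈ 𝓒(X) := by
    have h1 : c ∈ 𝓒(X ^ᵍ g) := cz_anti (cj_mono hXX₂ g) hc
    rw [cz_cj] at h1
    exact mem_cj.1 h1
  obtain ⟨m₁, hm₁, c₁, hc₁, he₁⟩ := hfac y hy
  refine ⟨m⁻¹ * m₁, mul_mem (inv_mem hm) hm₁, c₁ * (g⁻¹ * c * g)⁻¹, mul_mem hc₁ (inv_mem hc'), ?_⟩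
  have h2 : y = m * c * g := by rw [← he]; group
  have h3 : m₁ * c₁ = m * c * g := by rw [← he₁, h2]
  calc g = m⁻¹ * (m * c * g) * (g⁻¹ * c⁻¹ * g) := by group
    _ = m⁻¹ * (m₁ * c₁) * (g⁻¹ * c⁻¹ * g) := by rw [h3]
    _ = _ := by group

theorem bg10_1 {M : Subgroup G} (hM : IsCoatom M) {p : ℕ} (hs : p ∈ sigma M) {X : Subgroup G}
    (hX : IsPGroup p X) (hX0 : X ≠ ⊥) (hXM : X ≤ M) {g : G} (hg : X ^ᵍ g ≤ M) :
    ∃ m ∈ M, ∃ c ∈ 𝓒(X), g = m * c :=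
  bg10_1_aux hG hM hs _ X rfl hX hX0 hXM g hg

theorem bg10_1b {M : Subgroup G} (hM : IsCoatom M) {p : ℕ} (hs : p ∈ sigma M) {X : Subgroup G}
    (hX : IsPGroup p X) (hX0 : X ≠ ⊥) (hXM : X ≤ M) : 𝓝(X) = (M ⊓ 𝓝(X)) ⊔ 𝓒(X) := by
  apply le_antisymm
  · intro g hg
    obtain ⟨m, hm, c, hc, rfl⟩ := bg10_1 hG hM hs hX hX0 hXM (g := g) (by
      rw [mem_nz.1 hg]; exact hXM)
    have hmn : m ∈ 𝓝(X) := by
      have := mul_mem hg (inv_mem (cz_le_nz X hc))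
      rwa [mul_inv_cancel_right] at this
    exact mul_mem (mem_sup_left (mem_inf.2 ⟨hm, hmn⟩)) (mem_sup_right hc)
  · exact sup_le inf_le_right (cz_le_nz X)

end

end CfsgLib.BGPi
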