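import Cfsg.Agent.EqBase
import Cfsg.Agent.LibBG10
import Cfsg.Agent.LibTransFus

/-! B & G section 10: Theorem 10.2. -/

open Subgroup
open scoped Pointwise commutatorElement

namespace CfsgLib.BGPi

open Cfsg

universe u
variable {G : Type u} [Group G] [Finite G]

theorem rank_subgroupOf {p k : ℕ} {S X : Subgroup G} (h : PRankLE p k S) :
    PRankLE p k ↥(S.subgroupOf X) := by
  rw [rank_iff] at h ⊢
  intro A hA hAe
  have h1 := h (A.map X.subtype) (by
    rintro _ ⟨x, hx, rfl⟩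
    exact hA hx) (elab_map hAe _)
  rwa [card_map_of_injective (subtype_injective X)] at h1

theorem qm_rank {p k : ℕ} (hp : p.Prime) {N A : Subgroup G} (hA : A ≤ 𝓝(N))
    (hN : (Nat.card N).Coprime p) (h : PRankLE p k A) : PRankLE p k (qm N A) := by
  obtain ⟨S, hS⟩ := exists_syl hp A
  rw [rank_syl hp (qm_hall hS hA)]
  refine rank_map ?_ (rank_subgroupOf (rank_mono (hall_le hS) h))
  rw [QuotientGroup.ker_mk']
  rw [eq_bot_iff]
  rintro x hx
  have h1 := mem_subgroupOf.1 (mem_inf.1 hx).1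
  have h2 := mem_subgroupOf.1 (mem_inf.1 hx).2
  have h3 : (x : G) ∈ S ⊓ N := ⟨h1, h2⟩
  rw [(hall_isPi hS).inf_eq_bot ((isPi_compl_singleton' hp).2 hN)] at h3
  rw [mem_bot] at h3 ⊢
  exact Subtype.ext h3

theorem pull_qm' {N B : Subgroup G} (hB : B ≤ 𝓝(N)) : pull N (qm N B) = B ⊔ N := by
  ext x
  rw [mem_pull]
  constructor
  · rintro ⟨hx, h⟩
    exact (qe_mem_iff hB hx).1 h
  · intro h
    exact ⟨(sup_le hB le_normalizer) h, (qe_mem_iff hB _).2 h⟩

theorem qm_pull {N : Subgroup G} (A : Subgroup (QN N)) : qm N (pull N A) = A := by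
  ext y
  rw [mem_qm]
  constructor
  · rintro ⟨x, hx, hxA, rfl⟩
    obtain ⟨h1, h2⟩ := mem_pull.1 hxA
    exact h2
  · intro hy
    obtain ⟨⟨x, hx⟩, rfl⟩ := QuotientGroup.mk'_surjective _ y
    exact ⟨x, hx, mem_pull.2 ⟨hx, hy⟩, rfl⟩

theorem nz_sup_of_qm {N A B : Subgroup G} (hA : A ≤ 𝓝(N)) (hB : B ≤ 𝓝(N))
    (h : qm N A ≤ 𝓝(qm N B)) : A ≤ 𝓝(B ⊔ N) := by
  rw [← pull_qm' hB]
  exact pull_nz hA h

theorem isPi_of_qm {π : Set ℕ} {N X : Subgroup G} (hNX : N ≤ X) (hX : X ≤ 𝓝(N)) (hN : IsPi π N)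
    (h : IsPi π (qm N X)) : IsPi π X := by
  intro q hq hd
  rw [← card_mul_relIndex hNX, ← qm_card hX, hq.dvd_mul] at hd
  rcases hd with hd | hd
  · exact hN q hq hd
  · exact h q hq hd

theorem qm_core_bot {π : Set ℕ} {M : Subgroup G} {p : ℕ} (hp : p.Prime) (hpπ : p ∈ π) :
    piCoreOf {p} (qm (piCoreOf π M) M) = ⊥ := by
  set N := piCoreOf π M with hN
  have hMN : M ≤ 𝓝(N) := le_nz_piCoreOf π M
  have hNM : N ≤ M := piCoreOf_le π M
  set X := pull N (piCoreOf {p} (qm N M)) with hX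
  have hXM : X ≤ M := by
    rw [← pull_qm hNM hMN]
    exact pull_mono (piCoreOf_le _ _)
  have hMX : M ≤ 𝓝(X) := pull_nz hMN (le_nz_piCoreOf _ _)
  have hq : qm N X = piCoreOf {p} (qm N M) := qm_pull _
  have h1 : IsPi π X := by
    refine isPi_of_qm le_pull (hXM.trans hMN) (isPi_piCoreOf π M) ?_
    rw [hq]
    exact (isPi_piCoreOf {p} _).mono (Set.singleton_subset_iff.2 hpπ)
  have h2 : X ≤ N := le_piCoreOf hXM hMX h1
  rw [← hq, qm_eq_bot (hXM.trans hMN)]
  exact h2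

theorem core_quot_der {π : Set ℕ} {M : Subgroup G} (hM : Group.IsSolvable M)
    (hodd : Odd (Nat.card M)) (hπ : ∀ p : ℕ, p.Prime → p ∉ π → PRankLE p 2 M) :
    IsPi πᶜ (fittingOf (qm (piCoreOf π M) M)) ∧
      ⁅qm (piCoreOf π M) M, qm (piCoreOf π M) M⁆ ≤ fittingOf (qm (piCoreOf π M) M) := by
  set N := piCoreOf π M with hN
  have hMN : M ≤ 𝓝(N) := le_nz_piCoreOf π M
  constructor
  · intro r hr hd hrπ
    apply nilpotent_pcore_ne_bot (fittingOf_nilpotent _) hr hd
    rw [piCoreOf_fittingOf hr]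
    exact qm_core_bot hr hrπ
  · refine der_le_fitting (qm_solvable hM) (hodd.of_dvd_nat (qm_card_dvd hMN)) fun r hr => ?_
    by_cases hrπ : r ∈ π
    · rw [hN, qm_core_bot hr hrπ, rank_iff]
      intro A hA _
      rw [le_bot_iff.1 hA, card_bot]
      exact Nat.one_le_iff_ne_zero.2 (pow_ne_zero _ hr.ne_zero)
    · refine rank_mono (piCoreOf_le _ _) (qm_rank hr hMN ?_ (hπ r hr hrπ))
      rw [← isPi_compl_singleton' hr]
      refine (isPi_piCoreOf π M).mono ?_
      intro q hq h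
      rw [Set.mem_singleton_iff.1 h] at hq
      exact hrπ hq

theorem hall_of_syls {π : Set ℕ} {N M : Subgroup G} (hN : N ≤ M) (hπ : IsPi π N)
    (h : ∀ p : ℕ, p.Prime → p ∈ π → ∀ S : Subgroup G, IsPiHallOf {p} S M → S ≤ N) :
    IsPiHallOf π N M := by
  rw [hall_iff]
  refine ⟨hN, hπ, fun p hp hpπ hd => ?_⟩
  obtain ⟨S, hS⟩ := exists_syl hp M
  have h1 := h p hp hpπ S hS
  refine (hall_iff.1 hS).2.2 p hp rfl (hd.trans ?_)
  exact relIndex_dvd_of_le_left M h1

theorem nilp_quot {H : Type*} [Group H] [Finite H] {N K : Subgroup H} [hN : N.Normal]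
    (h : Group.IsNilpotent (qm N K)) : Group.IsNilpotent ↥(K.map (QuotientGroup.mk' N)) := by
  let φ : QN N →* H ⧸ N := QuotientGroup.map (N.subgroupOf 𝓝(N)) N (𝓝(N)).subtype
    (fun x hx => hx)
  have h1 : (qm N K).map φ = K.map (QuotientGroup.mk' N) := by
    ext y
    constructor
    · rintro ⟨_, hz, rfl⟩
      obtain ⟨x, hx, hxK, rfl⟩ := mem_qm.1 hz
      exact ⟨x, hxK, rfl⟩
    · rintro ⟨x, hx, rfl⟩
      have hxN : x ∈ 𝓝(N) := by rw [normalizer_eq_top]; exact mem_top _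
      exact ⟨qe N hxN, qe_mem hxN hx, rfl⟩
  rw [← h1]
  exact nilpotent_map h φ

section
variable (hG : IsMinSimpleOddOrder G)
include hG

theorem alpha_sub_sigma {M : Subgroup G} (hM : IsCoatom M) : alpha M ⊆ sigma M := by
  rintro p ⟨hp, hr⟩
  rw [mem_sigma_iff]
  obtain ⟨P, hP⟩ := exists_syl hp M
  have hrP : ¬ PRankLE p 2 P := fun h => hr ((rank_syl hp hP).2 h)
  have hPp := (hall_isPi hP).isPGroup hp
  have hP1 : P ≠ ⊥ := by
    rintro rfl
    apply hrP
    rw [rank_iff]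
    intro A hA _
    rw [le_bot_iff.1 hA, card_bot]
    exact Nat.one_le_iff_ne_zero.2 (pow_ne_zero _ hp.ne_zero)
  have hPt := ms_p_ne_top hG hp hPp
  have hU := uniq_of_rank3 hG (not_rank_of_prank hp hrP) hPt
  refine ⟨hp, ?_, P, hP, ?_⟩
  · exact (pgroup_dvd_card hp hPp hP1).trans (card_dvd_of_le (hall_le hP))
  · exact uniq_le hU hM (hall_le hP) le_normalizer (ms_nz_ne_top hG hP1 hPt)

theorem ms_perfect : commutator G = ⊤ := by
  rcases ms_normal hG (N := commutator G) inferInstance with h | h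
  · exfalso
    apply ms_nc hG
    have h3 : (⊤ : Subgroup G) ≤ 𝓒((⊤ : Subgroup G)) := comm_eq_bot_iff.1 h
    exact ⟨⟨fun a b => mem_cz.1 (h3 (Subgroup.mem_top b)) a (Subgroup.mem_top a)⟩⟩
  · exact h

theorem sigma_focal {M : Subgroup G} (hM : IsCoatom M) {p : ℕ} (hs : p ∈ sigma M)
    {S : Subgroup G} (hS : IsPiHallOf {p} S M) : S ≤ ⁅M, M⁆ := by
  have hp := sigma_prime hs
  haveI : Fact p.Prime := ⟨hp⟩
  obtain ⟨P, rfl⟩ := exists_sylow_of_hall_top (sigma_syl hs hS)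
  have h1 := CfsgLib.TransFus.commutator_inf_eq_of_controls P M (hall_le hS) (by
    intro x g hx hgx
    by_cases hx1 : x = 1
    · subst hx1
      exact ⟨1, one_mem _, by simp⟩
    have hX : IsPGroup p (zpowers x) :=
      ((hall_isPi hS).isPGroup hp).to_le (by rw [zpowers_le]; exact hx)
    obtain ⟨m, hm, c, hc, rfl⟩ := bg10_1 hG hM hs hX (by rwa [Ne, zpowers_eq_bot])
      (by rw [zpowers_le]; exact hall_le hS hx) (g := g) (by
        rintro _ ⟨y, hy, rfl⟩
        obtain ⟨k, rfl⟩ := mem_zpowers_iff.1 hy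
        have h2 : g * x ^ k * g⁻¹ = (g * x * g⁻¹) ^ k := (conj_zpow).symm
        show g * x ^ k * g⁻¹ ∈ M
        rw [h2]
        exact zpow_mem (hall_le hS hgx) k)
    refine ⟨m, hm, ?_⟩
    have h3 := mem_cz.1 hc x (mem_zpowers x)
    have h4 : c * x * c⁻¹ = x := by rw [← h3]; group
    calc m * x * m⁻¹ = m * (c * x * c⁻¹) * m⁻¹ := by rw [h4]
      _ = m * c * x * (m * c)⁻¹ := by group)
  rw [ms_perfect hG, top_inf_eq] at h1
  exact inf_eq_right.1 h1.symm

theorem sigma_index {M : Subgroup G} {p : ℕ} (hs : p ∈ sigma M) : ¬ p ∣ M.index := by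
  have hp := sigma_prime hs
  obtain ⟨S, hS⟩ := exists_syl hp M
  have h1 := (hall_iff.1 (sigma_syl hs hS)).2.2 p hp rfl
  rw [relIndex_top_right] at h1
  intro h
  exact h1 (h.trans (index_dvd_of_le (hall_le hS)))

theorem hall_top_of_sigma {π : Set ℕ} {M H : Subgroup G} (hπ : π ⊆ sigma M)
    (h : IsPiHallOf π H M) : IsPiHallOf π H ⊤ := by
  rw [hall_iff] at h ⊢
  refine ⟨le_top, h.2.1, fun p hp hpπ hd => ?_⟩
  rw [relIndex_top_right, ← relIndex_mul_index h.1, hp.dvd_mul] at hd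
  rcases hd with hd | hd
  · exact h.2.2 p hp hpπ hd
  · exact sigma_index hG (hπ hpπ) hd

theorem alpha_quot {M : Subgroup G} (hM : IsCoatom M) :
    IsPi (alpha M)ᶜ (fittingOf (qm (alphaCore M) M)) ∧
      ⁅qm (alphaCore M) M, qm (alphaCore M) M⁆ ≤ fittingOf (qm (alphaCore M) M) :=
  core_quot_der (max_sol hG hM) (ms_odd hG M) fun p hp h => by
    by_contra h'
    exact h ⟨hp, h'⟩

theorem le_nz_alphaCore (M : Subgroup G) : M ≤ 𝓝(alphaCore M) := le_nz_piCoreOf _ M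

theorem le_nz_sigmaCore (M : Subgroup G) : M ≤ 𝓝(sigmaCore M) := le_nz_piCoreOf _ M

/-- B & G 10.2 (a) -/
theorem alpha_hall {M : Subgroup G} (hM : IsCoatom M) : IsPiHallOf (alpha M) (alphaCore M) M := by
  obtain ⟨h1, h2⟩ := alpha_quot hG hM
  refine hall_of_syls (piCoreOf_le _ _) (isPi_piCoreOf _ _) fun p hp hpα S hS => ?_
  have hSM := hall_le hS
  have hMN := le_nz_alphaCore hG M
  have h3 : qm (alphaCore M) S ≤ fittingOf (qm (alphaCore M) M) := by
    refine le_trans ?_ h2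
    rw [← qm_comm hMN hMN]
    exact qm_mono (sigma_focal hG hM (alpha_sub_sigma hG hM hpα) hS)
  have h4 : IsPi (alpha M) (qm (alphaCore M) S) := by
    refine IsPi.mono (Set.singleton_subset_iff.2 hpα) ?_
    exact isPi_of_isPGroup hp (qm_isPGroup ((hall_isPi hS).isPGroup hp))
  have h5 := eq_bot_of_isPi h4 (h1.le h3)
  exact (qm_eq_bot (hSM.trans hMN)).1 h5

theorem alpha_hall_top {M : Subgroup G} (hM : IsCoatom M) :
    IsPiHallOf (alpha M) (alphaCore M) ⊤ :=
  hall_top_of_sigma hG (alpha_sub_sigma hG hM) (alpha_hall hG hM)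

theorem alpha_le_sigma {M : Subgroup G} (hM : IsCoatom M) : alphaCore M ≤ sigmaCore M :=
  piCoreOf_mono_set (alpha_sub_sigma hG hM) M

theorem der_quot_nilp {M : Subgroup G} (hM : IsCoatom M) :
    Group.IsNilpotent (qm (alphaCore M) ⁅M, M⁆) := by
  have hMN := le_nz_alphaCore hG M
  rw [qm_comm hMN hMN]
  exact nilpotent_sub (alpha_quot hG hM).2 (fittingOf_nilpotent _)

/-- a Sylow subgroup of `M'`, times `M_α`, is normal -/
theorem syl_der_sup_normal {M : Subgroup G} (hM : IsCoatom M) {π : Set ℕ} {S : Subgroup G}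
    (hS : IsPiHallOf π S ⁅M, M⁆) : M ≤ 𝓝(S ⊔ alphaCore M) := by
  have hMN := le_nz_alphaCore hG M
  have hD : ⁅M, M⁆ ≤ 𝓝(alphaCore M) := (comm_self_le M).trans hMN
  have hSN : S ≤ 𝓝(alphaCore M) := (hall_le hS).trans hD
  refine nz_sup_of_qm hMN hSN ?_
  have h1 := der_quot_nilp hG hM
  have h2 := qm_hall (C := alphaCore M) hS hD
  have h3 : piCoreOf π (qm (alphaCore M) ⁅M, M⁆) = qm (alphaCore M) S := by
    refine le_antisymm (piCoreOf_le_hall h2) ?_
    exact nilpotent_le_piCoreOf h1 (hall_le h2) (hall_isPi h2)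
  rw [← h3]
  refine le_trans ?_ (nz_le_nz_piCoreOf _ _)
  rw [qm_comm hMN hMN]
  exact le_nz_comm le_normalizer le_normalizer

/-- B & G 10.2 (b) -/
theorem sigma_hall {M : Subgroup G} (hM : IsCoatom M) : IsPiHallOf (sigma M) (sigmaCore M) M := by
  refine hall_of_syls (piCoreOf_le _ _) (isPi_piCoreOf _ _) fun p hp hpσ S hS => ?_
  have h1 := sigma_focal hG hM hpσ hS
  have h2 := syl_der_sup_normal hG hM (hall_le_of_le hS h1 (comm_self_le M))
  refine le_sup_left.trans (le_piCoreOf (sup_le (hall_le hS) (piCoreOf_le _ _)) h2 ?_)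
  refine IsPi.sup (IsPi.mono (Set.singleton_subset_iff.2 hpσ) (hall_isPi hS))
    (IsPi.mono (alpha_sub_sigma hG hM) (isPi_piCoreOf _ _))
    ((hall_le hS).trans (le_nz_alphaCore hG M))

theorem sigma_hall_top {M : Subgroup G} (hM : IsCoatom M) :
    IsPiHallOf (sigma M) (sigmaCore M) ⊤ :=
  hall_top_of_sigma hG (le_refl _) (sigma_hall hG hM)

/-- B & G 10.2 (c) -/
theorem sigma_le_der {M : Subgroup G} (hM : IsCoatom M) : sigmaCore M ≤ ⁅M, M⁆ := by
  refine le_of_syls fun q hq => ?_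
  obtain ⟨S, hS⟩ := exists_syl hq (sigmaCore M)
  refine ⟨S, hS, ?_⟩
  by_cases hqσ : q ∈ sigma M
  · exact sigma_focal hG hM hqσ (hall_trans hS (sigma_hall hG hM)
      (Set.singleton_subset_iff.2 hqσ))
  · have h1 : S = ⊥ := by
      refine eq_bot_of_isPi (hall_isPi hS) ?_
      refine ((isPi_piCoreOf (sigma M) M).le (hall_le hS)).mono ?_
      intro r hr h
      rw [Set.mem_singleton_iff.1 h] at hr
      exact hqσ hr
    rw [h1]; exact bot_le

theorem alpha_rank {M : Subgroup G} {p : ℕ} (hp : p.Prime) (h : p ∉ alpha M) : PRankLE p 2 M := by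
  by_contra h'
  exact h ⟨hp, h'⟩

/-- B & G 10.2 (e) -/
theorem sigmaCore_ne_bot {M : Subgroup G} (hM : IsCoatom M) : sigmaCore M ≠ ⊥ := by
  intro hb
  have hα : alphaCore M = ⊥ := le_bot_iff.1 (hb ▸ alpha_le_sigma hG hM)
  have hr : ∀ p : ℕ, p.Prime → PRankLE p 2 M := by
    intro p hp
    apply alpha_rank hG hp
    intro h
    have h1 := alpha_hall hG hM
    rw [hα, hall_bot] at h1
    exact h1 p hp (alpha_sub_sigma hG hM h).2.1 h
  -- the largest prime divisor
  have hne : (Nat.card M).primeFactors.Nonempty := by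
    rw [Nat.nonempty_primeFactors]
    exact (one_lt_card_iff_ne_bot M).2 (max_ne_bot hG hM)
  set p := (Nat.card M).primeFactors.max' hne with hpdef
  have hpm := Finset.max'_mem _ hne
  have hp : p.Prime := Nat.prime_of_mem_primeFactors hpm
  have hpd : p ∣ Nat.card M := Nat.dvd_of_mem_primeFactors hpm
  obtain ⟨S, hS⟩ := exists_syl hp M
  have hS' : IsPiHallOf {q | q.Prime ∧ p - 1 < q} S M := by
    rw [hall_iff] at hS ⊢
    refine ⟨hS.1, ?_, ?_⟩
    · intro q hq hd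
      rw [Set.mem_singleton_iff.1 (hS.2.1 q hq hd)]
      exact ⟨hp, Nat.sub_lt hp.pos Nat.one_pos⟩
    · rintro q hq ⟨-, hlt⟩ hd
      have h1 : q ∣ Nat.card M := hd.trans (relIndex_dvd_card _ _)
      have h2 : q ≤ p := Finset.le_max' _ q (Nat.mem_primeFactors.2 ⟨hq, h1, Nat.card_pos.ne'⟩)
      have h3 : q = p := by omega
      rw [h3] at hd
      exact hS.2.2 p hp rfl hd
  have hn := hall_large_le (max_sol hG hM) (ms_odd hG M)
    (fun r hr' => rank_mono (piCoreOf_le _ _) (hr r hr')) (p - 1) hS'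
  have hS1 : S ≠ ⊥ := by
    rintro rfl
    rw [hall_bot, isPi_compl_singleton hp] at hS
    exact hS hpd
  have hpσ : p ∈ sigma M := mem_sigma_iff.2 ⟨hp, hpd, S, hS, (max_nz_eq hG hM hS1 (hall_le hS) hn).le⟩
  have h1 := sigma_hall hG hM
  rw [hb, hall_bot] at h1
  exact h1 p hp hpd hpσ

end

theorem hall_type {π : Set ℕ} {M : Subgroup G} (h : IsPiHallOf π (piCoreOf π M) M) :
    IsPiHall π (piCore π M) := hall_subtype.1 h

theorem alpha_rank_quot (hG : IsMinSimpleOddOrder G) {M : Subgroup G} (hM : IsCoatom M) :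
    RankLE 2 (↥M ⧸ piCore (alpha M) ↥M) := by
  intro p hp
  by_cases hpα : p ∈ alpha M
  · have h1 := (hall_type (alpha_hall hG hM)).2 p hp hpα
    intro A _ hA
    have h2 : IsElementaryAbelian p A := ⟨‹_›, hA⟩
    obtain ⟨n, hn⟩ := elab_card hp h2
    rcases Nat.eq_zero_or_pos n with h0 | h0
    · rw [hn, h0, pow_zero]
      exact Nat.one_le_iff_ne_zero.2 (pow_ne_zero _ hp.ne_zero)
    · exfalso
      apply h1
      rw [index_eq_card]
      exact ((dvd_pow_self p h0.ne').trans (hn ▸ dvd_refl _)).trans (card_subgroup_dvd_card A)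
  · refine rank_quot hp _ ?_ (alpha_rank hG hp hpα)
    have h1 : IsPi (alpha M) (piCore (alpha M) ↥M) := isPi_piCore _
    refine (isPi_compl_singleton' hp).1 (h1.mono ?_)
    intro q hq h
    rw [Set.mem_singleton_iff.1 h] at hq
    exact hpα hq

theorem alpha_nilp_quot (hG : IsMinSimpleOddOrder G) {M : Subgroup G} (hM : IsCoatom M) :
    Group.IsNilpotent ↥((commutator ↥M).map (QuotientGroup.mk' (piCore (alpha M) ↥M))) := by
  have hs := max_sol hG hM
  haveI : Group.IsSolvable ↥M := hs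
  apply nilp_quot
  have h1 := core_quot_der (G := ↥M) (M := ⊤) (π := alpha M) solvable_of_le_top
    (by rw [card_top]; exact ms_odd hG M) (fun p hp h => by
      have h2 := alpha_rank hG (M := M) hp h
      exact rank_of_top h2)
  rw [piCoreOf_top] at h1
  have h2 : (⊤ : Subgroup M) ≤ 𝓝(piCore (alpha M) ↥M) := by rw [normalizer_eq_top]
  rw [← qm_comm h2 h2] at h1
  exact nilpotent_sub h1.2 (fittingOf_nilpotent _)

end CfsgLib.BGPi
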