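import Cfsg.Agent.EqBase
import Cfsg.Agent.LibBG10b

/-! B & G section 10: 10.3 - 10.6. -/

open Subgroup
open scoped Pointwise commutatorElement

namespace CfsgLib.BGPi

open Cfsg

universe u
variable {G : Type u} [Group G] [Finite G]

/-- relative form of the structure theorem for narrow groups -/
theorem narrow_rel {q : ℕ} (hq : q.Prime) (hq2 : q ≠ 2) {Q E : Subgroup G} (hQ : IsPGroup q Q)
    (hQ3 : ¬ PRankLE q 2 Q) (hEQ : E ≤ Q) (hEe : IsElementaryAbelian q E)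
    (hEc : Nat.card E = q ^ 2) (hmax : ∀ B ≤ Q, IsElementaryAbelian q B → E ≤ B → B = E) :
    IsElementaryAbelian q (oz2 hq hq2 Q) ∧ Nat.card (oz2 hq hq2 Q) = q ^ 2 ∧
      (Q ⊓ 𝓒(oz2 hq hq2 Q)).relIndex Q = q ∧ ¬ E ≤ 𝓒(oz2 hq hq2 Q) ∧
      ∃ Z : Subgroup G, Nat.card Z = q ∧ 𝓝(Q) ≤ 𝓝(Z) ∧ Z ≤ E ∧ Z ≤ oz2 hq hq2 Q ∧ Z ≤ 𝓒(Q) ∧
        ⁅oz2 hq hq2 Q, Q⁆ ≤ Z := by
  haveI : Fact q.Prime := ⟨hq⟩
  set E' := E.subgroupOf Q with hE'
  have hE'e : IsElementaryAbelian q E' :=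
    ⟨comm_subgroupOf hEe.1, fun a ha => Subtype.ext (hEe.2 a ha)⟩
  have hE'c : Nat.card E' = q ^ 2 := by rw [hE', card_subgroupOf hEQ, hEc]
  have hmax' : ∀ B : Subgroup Q, IsElementaryAbelian q B → E' ≤ B → B = E' := by
    intro B hB hEB
    have h1 := hmax (B.map Q.subtype) (map_subtype_le B) (elab_map hB _) (by
      intro e he
      exact ⟨⟨e, hEQ he⟩, hEB he, rfl⟩)
    ext x
    constructor
    · intro hx
      have h2 : (x : G) ∈ B.map Q.subtype := ⟨x, hx, rfl⟩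
      rw [h1] at h2
      exact h2
    · intro hx; exact hEB hx
  obtain ⟨hs1, hs2, ⟨hs3, hs4⟩, hs5, hs6, -⟩ := narrow_struct (R := Q) hq hq2 hQ hQ3 hE'e hE'c hmax'
  have hTs : 𝓒(omZ2 hq hq2 Q) = (Q ⊓ 𝓒(oz2 hq hq2 Q)).subgroupOf Q := by
    ext x
    rw [Subgroup.mem_subgroupOf, mem_cz, Subgroup.mem_inf, mem_cz]
    constructor
    · intro h
      refine ⟨x.2, ?_⟩
      rintro _ ⟨w, hw, rfl⟩
      exact congrArg Subtype.val (h w hw)
    · rintro ⟨-, h⟩ w hw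
      exact Subtype.ext (h w ⟨w, hw, rfl⟩)
  refine ⟨elab_map hs3 _, by rw [oz2, card_map_subtype, hs4], ?_, ?_, ?_⟩
  · rw [Subgroup.relIndex, ← hTs, hs5]
  · intro h
    apply hs1
    rw [hTs]
    intro x hx
    exact mem_subgroupOf.2 ⟨x.2, h hx⟩
  · haveI := omZ_char (R := Q) (p := q)
    refine ⟨(omZ q Q).map Q.subtype, by rw [card_map_subtype, hs2], char_nz (omZ q Q), ?_,
      Subgroup.map_mono omZ_le_omZ2, ?_, ?_⟩
    · rintro _ ⟨x, hx, rfl⟩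
      exact hs6.le hx
    · rintro _ ⟨x, hx, rfl⟩
      rw [mem_cz]
      intro y hy
      exact congrArg Subtype.val (Subgroup.mem_center_iff.1 (mem_omZ.1 hx).1 ⟨y, hy⟩)
    · rw [Subgroup.commutator_le]
      rintro _ ⟨w, hw, rfl⟩ y hy
      exact ⟨_, omZ2_comm hw ⟨y, hy⟩, rfl⟩

/-- a `q'`-group normalizing a narrow group and centralizing a maximal elementary abelian
subgroup of order `q²` centralizes `Ω₁(Z₂(Q))` -/
theorem narrow_fix {q : ℕ} (hq : q.Prime) (hq2 : q ≠ 2) {Q E X : Subgroup G} (hQ : IsPGroup q Q)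
    (hQ3 : ¬ PRankLE q 2 Q) (hEQ : E ≤ Q) (hEe : IsElementaryAbelian q E)
    (hEc : Nat.card E = q ^ 2) (hmax : ∀ B ≤ Q, IsElementaryAbelian q B → E ≤ B → B = E)
    (hXQ : X ≤ 𝓝(Q)) (hX : (Nat.card X).Coprime q) (hEX : E ≤ 𝓒(X)) :
    X ≤ 𝓒(oz2 hq hq2 Q) := by
  obtain ⟨hWe, hWc, hTi, hET, Z, hZc, hQZ, hZE, hZW, hZQ, hWZ⟩ :=
    narrow_rel hq hq2 hQ hQ3 hEQ hEe hEc hmax
  set W := oz2 hq hq2 Q with hW
  have hXW : X ≤ 𝓝(W) := hXQ.trans (nz_oz2 hq hq2 Q)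
  have hWp := elab_isPGroup hWe
  refine cop_le_cz hXW (coprime_card_of_pgroup hq hWp hX)
    (solvable_of_isPGroup hq hWp) ?_
  have h1 : ⁅W, X⁆ ≤ Z := by
    obtain ⟨v, hvE, hvW⟩ := SetLike.not_le_iff_exists.1 hET
    have hvQ := hEQ hvE
    have hvX := hEX hvE
    have hWv : W ⊓ Subgroup.centralizer {(v : G)} = Z := by
      symm
      refine eq_of_card_le (le_inf hZW ?_) ?_
      · intro z hz
        rw [Subgroup.mem_centralizer_singleton_iff]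
        exact (mem_cz.1 (hZQ hz) v hvQ).symm
      · have hlt : W ⊓ Subgroup.centralizer {(v : G)} < W := by
          refine lt_of_le_of_ne inf_le_left fun h => hvW ?_
          rw [mem_cz]
          intro w hw
          rw [← h] at hw
          exact Subgroup.mem_centralizer_singleton_iff.1 hw.2
        have h1 := pgroup_mul_card_le hq (elab_isPGroup hWe) hlt
        rw [hWc, pow_two] at h1
        rw [hZc]
        exact Nat.le_of_mul_le_mul_left h1 hq.pos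
    rw [Subgroup.commutator_le]
    intro w hw k hk
    have hkv : (v : G) * k = k * v := (mem_cz.1 hvX k hk).symm
    have hkz : ∀ z ∈ Z, z * k = k * z := fun z hz => (mem_cz.1 (hEX (hZE hz)) k hk).symm
    have hw' : k * w * k⁻¹ ∈ W := le_nz.1 hXW k hk w hw
    have hz : w * v * w⁻¹ * (v : G)⁻¹ ∈ Z := hWZ (Subgroup.commutator_mem_commutator hw hvQ)
    have h3 := hkz _ hz
    have h5 : k * w * k⁻¹ * v * (k * w * k⁻¹)⁻¹ = w * v * w⁻¹ := by
      have e1 : k * w * k⁻¹ * v * (k * w * k⁻¹)⁻¹ = k * w * k⁻¹ * (v * k) * w⁻¹ * k⁻¹ := by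
        group
      have e2 : k * w * k⁻¹ * (k * v) * w⁻¹ * k⁻¹ = k * (w * v * w⁻¹ * (v : G)⁻¹) * (v * k⁻¹) := by
        group
      have e3 : (v : G) * k⁻¹ = k⁻¹ * v := by
        rw [eq_inv_mul_iff_mul_eq, ← mul_assoc, ← hkv]; group
      rw [e1, hkv, e2, ← h3, e3]; group
    have h4 : (k * w * k⁻¹)⁻¹ * w ∈ W ⊓ Subgroup.centralizer {(v : G)} := by
      refine Subgroup.mem_inf.2 ⟨mul_mem (inv_mem hw') hw, ?_⟩
      rw [Subgroup.mem_centralizer_singleton_iff]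
      calc (k * w * k⁻¹)⁻¹ * w * v = (k * w * k⁻¹)⁻¹ * (w * v * w⁻¹) * w := by group
        _ = (k * w * k⁻¹)⁻¹ * (k * w * k⁻¹ * v * (k * w * k⁻¹)⁻¹) * w := by rw [h5]
        _ = v * ((k * w * k⁻¹)⁻¹ * w) := by group
    rw [hWv] at h4
    have h6 : ⁅w, k⁆ = (k * w * k⁻¹)⁻¹ * w := by
      rw [← mem_cz.1 (comm_iff_le_cz.1 hWe.1 (inv_mem hw')) w hw, commutatorElement_def]
      group
    rw [h6]
    exact h4
  rw [le_cz_comm]
  exact h1.trans (hZE.trans hEX)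

section
variable (hG : IsMinSimpleOddOrder G)
include hG

theorem uniq_of_prank3 {p : ℕ} (hp : p.Prime) {X : Subgroup G} (hX : ¬ PRankLE p 2 X)
    (hXt : X ≠ ⊤) : InUniqueMaximal X :=
  uniq_of_rank3 hG (not_rank_of_prank hp hX) hXt

/-- elementary abelian of order `p²` inside something of rank three in its centralizer -/
theorem uniq_of_elab2 {p : ℕ} (hp : p.Prime) {E B : Subgroup G} (hEe : IsElementaryAbelian p E)
    (hEc : Nat.card E = p ^ 2) (hB : ¬ PRankLE p 2 B) (hBE : B ≤ 𝓒(E)) : InUniqueMaximal E :=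
  uniq_of_cz3 hG (not_rank1_of_elab hG hp hEe hEc le_rfl)
    (not_rank_of_prank hp fun h => hB (rank_mono hBE h))

theorem oz2_uniq {q : ℕ} (hq : q.Prime) (hq2 : q ≠ 2) {Q E : Subgroup G} (hQ : IsPGroup q Q)
    (hQ3 : ¬ PRankLE q 2 Q) (hEQ : E ≤ Q) (hEe : IsElementaryAbelian q E)
    (hEc : Nat.card E = q ^ 2) (hmax : ∀ B ≤ Q, IsElementaryAbelian q B → E ≤ B → B = E) :
    InUniqueMaximal (oz2 hq hq2 Q) := by
  obtain ⟨hWe, hWc, -⟩ := narrow_rel hq hq2 hQ hQ3 hEQ hEe hEc hmax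
  have hQW : Q ≤ 𝓝(oz2 hq hq2 Q) := le_normalizer.trans (nz_oz2 hq hq2 Q)
  obtain ⟨A', hWA', hA', hA'3⟩ := exists_scn3 hq hq2 hQ hQ3 (oz2_le hq hq2 Q) hQW hWe hWc
  exact uniq_of_elab2 hG hq hWe hWc hA'3 (comm_iff_le_cz.1 (scn_comm hA') |>.trans
    (cz_anti hWA'))

theorem bot_rank {p k : ℕ} (hp : p.Prime) : PRankLE p k (⊥ : Subgroup G) := by
  rw [rank_iff]
  intro A hA _
  rw [le_bot_iff.1 hA, card_bot]
  exact Nat.one_le_iff_ne_zero.2 (pow_ne_zero _ hp.ne_zero)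

/-- B & G 10.3 -/
theorem bg10_3 {M : Subgroup G} (hM : IsCoatom M) {X : Subgroup G} (hXM : X ≤ M)
    (hXα : IsPi (alpha M)ᶜ X) (hr : ¬ RankLE 1 ↥(alphaCore M ⊓ 𝓒(X))) :
    InUniqueMaximal (M ⊓ 𝓒(X)) := by
  have hMt := max_ne_top hG hM
  have hαM : alphaCore M ≤ M := piCoreOf_le _ _
  have hαπ : IsPi (alpha M) (alphaCore M) := isPi_piCoreOf _ _
  have hXN : X ≤ 𝓝(alphaCore M) := hXM.trans (le_nz_alphaCore hG M)
  have hcop : (Nat.card X).Coprime (Nat.card (alphaCore M)) := (hαπ.coprime hXα).symm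
  have hαs := solvable_sub hαM (max_sol hG hM)
  have hXs := solvable_sub hXM (max_sol hG hM)
  simp only [RankLE, not_forall] at hr
  obtain ⟨p, hp, hr⟩ := hr
  obtain ⟨P, hP, hXP⟩ := cop_hall_exists hXN hcop hαs {p}
  have hPp := (hall_isPi hP).isPGroup hp
  have hPX := cop_hall_cz hXN hcop hαs hXs hP hXP
  rw [rank_syl hp hPX, not_rank_iff hp] at hr
  obtain ⟨E, hE, hEe, hEc⟩ := hr
  have hEP : E ≤ P := hE.trans inf_le_left
  have hEX : E ≤ 𝓒(X) := hE.trans inf_le_right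
  have hpα : p ∈ alpha M := by
    refine hαπ p hp (dvd_trans ?_ (card_dvd_of_le (hEP.trans (hall_le hP))))
    rw [hEc]; exact dvd_pow_self p (by norm_num)
  have hP3 : ¬ PRankLE p 2 P := by
    intro h
    have h1 : IsPiHallOf {p} P M := hall_trans hP (alpha_hall hG hM)
      (Set.singleton_subset_iff.2 hpα)
    exact hpα.2 ((rank_syl hp h1).2 h)
  have hp2 : p ≠ 2 := by
    refine ms_p2' hG hp (X := P) (pgroup_dvd_card hp hPp ?_)
    rintro rfl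
    exact hP3 (bot_rank hG hp)
  have hMX : M ⊓ 𝓒(X) ≠ ⊤ := fun h => hMt (top_le_iff.1 (h ▸ inf_le_left))
  by_cases hC : PRankLE p 2 ↥𝓒(E)
  · have hmax : ∀ B ≤ P, IsElementaryAbelian p B → E ≤ B → B = E := by
      intro B hB hBe hEB
      symm
      refine eq_of_card_le hEB ?_
      rw [hEc]
      exact rank_iff.1 hC B ((comm_iff_le_cz.1 hBe.1).trans (cz_anti hEB)) hBe
    have h1 := narrow_fix hp hp2 hPp hP3 hEP hEe hEc hmax hXP
      ((isPi_compl_singleton' hp).1 (hXα.mono (by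
        intro q hq h
        rw [Set.mem_singleton_iff.1 h] at hq
        exact hq hpα))) hEX
    refine uniq_mono (oz2_uniq hG hp hp2 hPp hP3 hEP hEe hEc hmax) (le_inf ?_ (le_cz_comm.1 h1)) hMX
    exact (oz2_le hp hp2 P).trans ((hall_le hP).trans hαM)
  · refine uniq_mono (uniq_of_elab2 hG hp hEe hEc hC le_rfl) (le_inf ?_ hEX) hMX
    exact hEP.trans ((hall_le hP).trans hαM)

end

end CfsgLib.BGPi
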