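import Cfsg.Agent.EqBase
import Cfsg.Agent.LibBG10c

/-! B & G section 10: 10.4 - 10.6. -/

open Subgroup
open scoped Pointwise commutatorElement

namespace CfsgLib.BGPi

open Cfsg

universe u
variable {G : Type u} [Group G] [Finite G]

theorem zgroup_of_rank1 (hodd : Odd (Nat.card G)) (h : RankLE 1 G) : IsZGroup G := by
  refine ⟨fun p hp S => ?_⟩
  by_contra hnc
  by_cases hp2 : p = 2
  · subst hp2
    have h1 : (S : Subgroup G) = ⊥ := by
      rw [← card_eq_one]
      have h2 : Nat.card (S : Subgroup G) ∣ Nat.card G := card_subgroup_dvd_card _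
      haveI : Fact (Nat.Prime 2) := ⟨hp⟩
      obtain ⟨n, hn⟩ := IsPGroup.iff_card.1 S.isPGroup'
      rcases Nat.eq_zero_or_pos n with h0 | h0
      · rw [hn, h0, pow_zero]
      · exfalso
        have h3 : 2 ∣ Nat.card G := ((dvd_pow_self 2 h0.ne').trans (hn ▸ dvd_refl _)).trans h2
        exact (Nat.not_even_iff_odd.2 hodd) (even_iff_two_dvd.2 h3)
    apply hnc
    have h3 : Subsingleton (S : Subgroup G) := by rw [h1]; infer_instance
    exact @isCyclic_of_subsingleton _ _ h3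
  · obtain ⟨E, hE, hEe, hEc⟩ := exists_elab2 hp hp2 S.isPGroup' hnc
    have h1 := rank_top_iff.1 (h p hp) E hEe
    rw [hEc] at h1
    exact absurd h1 (not_le.2 (Nat.pow_lt_pow_right hp.one_lt (by norm_num)))

theorem zgroup_rank1 (h : IsZGroup G) : RankLE 1 G := by
  intro p hp
  rw [rank_top_iff]
  intro A hA
  by_contra hlt
  rw [not_le, pow_one] at hlt
  haveI : Fact p.Prime := ⟨hp⟩
  obtain ⟨n, hn⟩ := elab_card hp hA
  have hn2 : 2 ≤ n := by
    by_contra h2
    rw [not_le] at h2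
    have : Nat.card A ≤ p ^ 1 := by rw [hn]; exact Nat.pow_le_pow_right hp.pos (by omega)
    rw [pow_one] at this
    omega
  obtain ⟨S, hS⟩ := (elab_isPGroup hA).exists_le_sylow
  have h1 := h.isZGroup p hp S
  exact nc_of_card hp hA (by rw [hn]; exact Nat.pow_le_pow_right hp.pos hn2)
    (by
      haveI := h1
      exact isCyclic_of_injective (inclusion hS) (inclusion_injective hS))

section
variable (hG : IsMinSimpleOddOrder G)
include hG

theorem max_nz_self {M : Subgroup G} (hM : IsCoatom M) : 𝓝(M) = M :=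
  max_nz_eq hG hM (max_ne_bot hG hM) le_rfl le_normalizer

theorem coatom_cj_le {M : Subgroup G} (hM : IsCoatom M) {g : G} (h : M ^ᵍ g = M) : g ∈ M := by
  rw [← max_nz_self hG hM, mem_nz]
  exact h

/-- B & G 10.4 -/
theorem bg10_4 {M : Subgroup G} (hM : IsCoatom M) {p : ℕ} (hp : p.Prime)
    (hpM : p ∣ Nat.card M) (hps : p ∉ sigma M) {P : Subgroup G} (hP : IsPiHallOf {p} P M) :
    ∃ x ∈ P ⊓ 𝓒(P), orderOf x = p ∧ IsZGroup ↥(alphaCore M ⊓ centralizer ({x} : Set G)) ∧
      ¬ (centralizer ({x} : Set G) ≤ M ∧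
        ∀ L : Subgroup G, IsCoatom L → centralizer ({x} : Set G) ≤ L → L = M) := by
  haveI : Fact p.Prime := ⟨hp⟩
  have hPp := (hall_isPi hP).isPGroup hp
  have hP1 : P ≠ ⊥ := by
    rintro rfl
    rw [hall_bot, isPi_compl_singleton hp] at hP
    exact hP hpM
  have hnot : ¬ 𝓝(P) ≤ M := fun h => hps (mem_sigma_iff.2 ⟨hp, hpM, P, hP, h⟩)
  obtain ⟨g, hgN, hgM⟩ := SetLike.not_le_iff_exists.1 hnot
  by_cases hall : ∀ x ∈ P ⊓ 𝓒(P), orderOf x = p → (centralizer ({x} : Set G) ≤ M ∧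
        ∀ L : Subgroup G, IsCoatom L → centralizer ({x} : Set G) ≤ L → L = M)
  · exfalso
    have h1 : P ⊓ 𝓒(P) ≠ ⊥ := pgroup_inf_cz hp (hall_isPi hP) (hall_isPi hP) le_normalizer hP1
    have h2 := pgroup_dvd_card hp (hPp.to_le inf_le_left) h1
    obtain ⟨x, hx⟩ := exists_prime_orderOf_dvd_card' p h2
    have hxo : orderOf (x : G) = p := by rw [orderOf_coe, hx]
    have hyo : orderOf (g * x * g⁻¹) = p := by
      have : g * x * g⁻¹ = MulAut.conj g (x : G) := rfl
      rw [this, MulEquiv.orderOf_eq, hxo]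
    have hy : g * x * g⁻¹ ∈ P ⊓ 𝓒(P) := by
      have h3 : 𝓝(P) ≤ 𝓝(P ⊓ 𝓒(P)) := le_nz_inf le_rfl (nz_le_nz_cz P)
      exact le_nz.1 h3 g hgN x x.2
    obtain ⟨h4, h5⟩ := hall _ hy hyo
    obtain ⟨h6, h7⟩ := hall _ x.2 hxo
    apply hgM
    apply coatom_cj_le hG hM
    refine h5 _ (coatom_cj hM g) ?_
    have h8 : centralizer ({g * x * g⁻¹} : Set G) = (centralizer ({(x : G)} : Set G)) ^ᵍ g := by
      rw [← cz_zpowers, ← cz_zpowers, ← cz_cj]
      congr 1
      have : (zpowers (x : G)) ^ᵍ g = zpowers (g * x * g⁻¹) := by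
        rw [MonoidHom.map_zpowers]; rfl
      rw [this]
    rw [h8]
    exact cj_mono h6 g
  · push Not at hall
    obtain ⟨x, hx, hxo, h⟩ := hall
    have h' : ¬ (centralizer ({x} : Set G) ≤ M ∧
        ∀ L : Subgroup G, IsCoatom L → centralizer ({x} : Set G) ≤ L → L = M) := by
      rintro ⟨h1, h2⟩
      obtain ⟨L, hL1, hL2, hL3⟩ := h h1
      exact hL3 (h2 L hL1 hL2)
    refine ⟨x, hx, hxo, ?_, h'⟩
    by_contra hz
    apply h'
    have hxP : x ∈ P := (mem_inf.1 hx).1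
    have hxM : x ∈ M := hall_le hP hxP
    have hx1 : x ≠ 1 := by
      rintro rfl
      rw [orderOf_one] at hxo
      exact hp.one_lt.ne hxo
    have hr : ¬ RankLE 1 ↥(alphaCore M ⊓ centralizer ({x} : Set G)) := fun hr =>
      hz (zgroup_of_rank1 (ms_odd hG _) hr)
    rw [← cz_zpowers] at hr
    have hU := bg10_3 hG hM (X := zpowers x) (by rwa [zpowers_le]) (by
      have h1 : IsPi {p} (zpowers x) := (hall_isPi hP).le (by rwa [zpowers_le])
      refine h1.mono (Set.singleton_subset_iff.2 ?_)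
      exact fun h => hps (alpha_sub_sigma hG hM h)) hr
    rw [cz_zpowers] at hU
    have hCt : centralizer ({x} : Set G) ≠ ⊤ := ms_cz1_ne_top hG hx1
    refine ⟨uniq_le hU hM inf_le_left inf_le_right hCt, fun L hL hCL => ?_⟩
    exact uniq_eq hU hM inf_le_left hL (inf_le_right.trans hCL)

/-- B & G 10.5 -/
theorem bg10_5a {M : Subgroup G} (hM : IsCoatom M) {p : ℕ} (hp : p.Prime) (hr2 : PRankLE p 2 M)
    {A : Subgroup G} (hAM : A ≤ M) (hA : IsElementaryAbelian p A) (hAc : Nat.card A = p ^ 2)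
    {B : Subgroup G} (hB : IsElementaryAbelian p B) (hAB : A ≤ B) : B = A := by
  symm
  refine eq_of_card_le hAB ?_
  by_contra hlt
  rw [hAc, not_le] at hlt
  have hB3 : ¬ PRankLE p 2 B := by
    intro h
    exact absurd (rank_iff.1 h B le_rfl hB) (not_le.2 hlt)
  have hBA : B ≤ 𝓒(A) := (comm_iff_le_cz.1 hB.1).trans (cz_anti hAB)
  have hU := uniq_of_elab2 hG hp hA hAc hB3 hBA
  have hBM : B ≤ M := uniq_le hU hM hAM hAB (ms_p_ne_top hG hp (elab_isPGroup hB))
  exact hB3 (rank_mono hBM hr2)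

theorem bg10_5b {M : Subgroup G} (hM : IsCoatom M) {p : ℕ} (hp : p.Prime) (hr2 : PRankLE p 2 M)
    (hr1 : ¬ PRankLE p 1 M) : ¬ IsIdealPrime p G := by
  rintro ⟨-, h3, h⟩
  haveI : Fact p.Prime := ⟨hp⟩
  obtain ⟨A, hAM, hA, hAc⟩ := (not_rank_iff hp).1 hr1
  obtain ⟨P, hAP⟩ := (elab_isPGroup hA).exists_le_sylow
  obtain ⟨B, hBP, hB, hAB⟩ := h P A hAP hA (by simpa using hAc)
  exact hAB.ne (bg10_5a hG hM hp hr2 hAM hA (by simpa using hAc) hB hAB.le).symm

theorem bg10_5c {M : Subgroup G} (hM : IsCoatom M) {p : ℕ} (hp : p.Prime) (hps : p ∉ sigma M)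
    {X : Subgroup G} (hX : Nat.card X = p) (hNX : 𝓝(X) ≤ M) :
    (PRankLE p 2 M ∧ ¬ PRankLE p 1 M) ∧
      ∃ A : Subgroup G, IsElementaryAbelian p A ∧ Nat.card A = p ^ 2 ∧ X ≤ A := by
  haveI : Fact p.Prime := ⟨hp⟩
  have hXM : X ≤ M := le_normalizer.trans hNX
  have hXp : IsPGroup p X := IsPGroup.of_card (n := 1) (by rw [pow_one]; exact hX)
  have hpM : p ∣ Nat.card M := hX ▸ card_dvd_of_le hXM
  have hp2 := ms_p2' hG hp hpM
  obtain ⟨P, hP, hXP⟩ := exists_syl_ge hp (isPi_of_isPGroup hp hXp) hXM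
  have hPp := (hall_isPi hP).isPGroup hp
  obtain ⟨x, hx, hx1⟩ : ∃ x ∈ X, x ≠ 1 := by
    by_contra h
    push Not at h
    have h1 : X = ⊥ := (eq_bot_iff_forall X).2 h
    rw [h1, card_bot] at hX
    exact hp.one_lt.ne hX
  have hXz : zpowers x = X := zpowers_of_prime (by rw [hX]; exact hp) hx hx1
  have hxp : x ^ p = 1 := by
    rw [← hX]
    exact congrArg Subtype.val (pow_card_eq_one' (x := (⟨x, hx⟩ : X)))
  have hPnc : ¬ IsCyclic P := by
    intro hc
    apply hps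
    refine mem_sigma_iff.2 ⟨hp, hpM, P, hP, le_trans ?_ hNX⟩
    rw [le_nz]
    intro g hg y hy
    rw [← hXz]
    have hyp : y ^ p = 1 := by
      rw [← hX]
      exact congrArg Subtype.val (pow_card_eq_one' (x := (⟨y, hy⟩ : X)))
    refine mem_zpowers_of_cyclic hc hp (hXP hx) (le_nz.1 le_rfl g hg y (hXP hy)) hx1 hxp ?_
    rw [conj_pow, hyp, mul_one, mul_inv_cancel]
  obtain ⟨E, hEP, hE, hEc⟩ := exists_elab2 hp hp2 hPp hPnc
  refine ⟨⟨alpha_rank hG hp fun h => hps (alpha_sub_sigma hG hM h), ?_⟩, ?_⟩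
  · rw [not_rank_iff hp]
    exact ⟨E, hEP.trans (hall_le hP), hE, hEc⟩
  · have h1 := cz1_nc hp hPp hPnc (hXP hx) hx1 hxp
    obtain ⟨F, hF, hFe, hFc⟩ := exists_elab2 hp hp2 (hPp.to_le inf_le_left) h1
    by_cases hxF : x ∈ F
    · exact ⟨F, hFe, hFc, by rw [← hXz, zpowers_le]; exact hxF⟩
    · obtain ⟨e, he, he1⟩ : ∃ e ∈ F, e ≠ 1 := by
        by_contra h
        push Not at h
        have h1 : F = ⊥ := (eq_bot_iff_forall F).2 h
        rw [h1, card_bot] at hFc
        exact absurd hFc.symm (Nat.one_lt_pow (by norm_num) hp.one_lt).ne'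
      have hep : e ^ p = 1 := hFe.2 e he
      have hec : e * x = x * e := (mem_centralizer_singleton_iff.1 (mem_inf.1 (hF he)).2)
      have heX : e ∉ X := by
        intro heX
        apply hxF
        have h2 : zpowers e = X := zpowers_of_prime (by rw [hX]; exact hp) heX he1
        rw [← h2] at hx
        exact (zpowers_le.2 he) hx
      refine ⟨X ⊔ zpowers e, ?_, ?_, le_sup_left⟩
      · refine elab_sup_zpowers ?_ hep ?_
        · rw [← hXz]; exact elab_zpowers hxp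
        · intro a ha
          rw [← hXz] at ha
          obtain ⟨k, rfl⟩ := mem_zpowers_iff.1 ha
          exact (Commute.zpow_left (show Commute x e from hec.symm) k).eq
      · rw [card_sup_zpowers hp hep heX, hX, pow_two]
        rw [← hXz, zpowers_le, mem_centralizer_singleton_iff]
        exact hec.symm

end

end CfsgLib.BGPi
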