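import Cfsg.Agent.EqBase
import Cfsg.Agent.LibBG10d

/-! B & G section 10: 10.6, 10.7. -/

open Subgroup
open scoped Pointwise commutatorElement

namespace CfsgLib.BGPi

open Cfsg

universe u
variable {G : Type u} [Group G] [Finite G]

theorem eq_comm_of_le_der {H K : Subgroup G} (hKH : K ≤ 𝓝(H)) (hHK : H ⊓ K = ⊥)
    (hs : Group.IsSolvable H) (hle : H ≤ ⁅H ⊔ K, H ⊔ K⁆) : ⁅H, K⁆ = H := by
  set D := ⁅H, K⁆ with hD
  have hDH : D ≤ H := comm_le_left hKH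
  have hHD : H ≤ 𝓝(D) := left_le_nz_comm H K
  have hKD : K ≤ 𝓝(D) := right_le_nz_comm H K
  set N := D ⊔ ⁅H, H⁆ with hN
  have hNH : N ≤ H := sup_le hDH (comm_self_le H)
  have hHN : H ≤ 𝓝(N) := le_nz_sup hHD (le_nz_comm le_normalizer le_normalizer)
  have hKN : K ≤ 𝓝(N) := le_nz_sup hKD (le_nz_comm hKH hKH)
  set N' := N ⊔ ⁅K, K⁆ with hN'
  have hKK : ⁅K, K⁆ ≤ 𝓝(N) := (comm_self_le K).trans hKN
  have hKN' : K ≤ 𝓝(N') := le_nz_sup hKN (le_nz_comm le_normalizer le_normalizer)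
  have hHN' : H ≤ 𝓝(N') := by
    rw [le_nz]
    intro h hh x hx
    obtain ⟨n, hn, k, hk, rfl⟩ := (mem_sup_of_nz' hKK).1 hx
    have h1 : h * (n * k) * h⁻¹ = (h * n * h⁻¹) * ⁅h, k⁆ * k := by
      rw [commutatorElement_def]; group
    rw [h1]
    refine mul_mem (mul_mem (mem_sup_left (le_nz.1 hHN h hh n hn)) (mem_sup_left (mem_sup_left ?_)))
      (mem_sup_right hk)
    exact commutator_mem_commutator hh (comm_self_le K hk)
  have h1 : ⁅H ⊔ K, H ⊔ K⁆ ≤ N' := by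
    have h2 : H ⊔ K = closure ((H : Set G) ∪ K) := by
      rw [Subgroup.closure_union, closure_eq, closure_eq]
    rw [h2]
    have h3 : ∀ s ∈ (H : Set G) ∪ K, s ∈ 𝓝(N') := by
      rintro s (hs | hs)
      · exact hHN' hs
      · exact hKN' hs
    refine comm_closure_le h3 h3 ?_
    rintro s (hs | hs) t (ht | ht)
    · exact mem_sup_left (mem_sup_right (commutator_mem_commutator hs ht))
    · exact mem_sup_left (mem_sup_left (commutator_mem_commutator hs ht))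
    · have := commutator_mem_commutator (H₁ := H) (H₂ := K) ht hs
      rw [← commutatorElement_inv]
      exact inv_mem (mem_sup_left (mem_sup_left this))
    · exact mem_sup_right (commutator_mem_commutator hs ht)
  have h2 : H ≤ N := by
    intro x hx
    obtain ⟨n, hn, k, hk, rfl⟩ := (mem_sup_of_nz' hKK).1 (h1 (hle hx))
    have h3 : k ∈ H ⊓ K := by
      refine ⟨?_, comm_self_le K hk⟩
      have := mul_mem (inv_mem (hNH hn)) hx
      rwa [inv_mul_cancel_left] at this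
    rw [hHK, mem_bot] at h3
    rw [h3, mul_one]
    exact hn
  refine le_antisymm hDH ?_
  rw [← qm_eq_bot hHD]
  by_contra hne
  have h3 := comm_lt_of_solvable (qm_solvable (N := D) hs) hne
  rw [← qm_comm hHD hHD] at h3
  refine h3.not_ge ?_
  rw [qm_le_iff hHD ((comm_self_le H).trans hHD), sup_comm]
  exact h2

theorem hall_sup_compl {π : Set ℕ} {H K M : Subgroup G} (hH : IsPiHallOf π H M)
    (hK : IsPiHallOf πᶜ K M) : H ⊔ K = M := by
  refine le_antisymm (sup_le (hall_le hH) (hall_le hK)) ?_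
  rw [← relIndex_eq_one]
  by_contra hne
  obtain ⟨q, hq, hd⟩ := Nat.exists_prime_and_dvd hne
  by_cases hqπ : q ∈ π
  · exact (hall_iff.1 hH).2.2 q hq hqπ (hd.trans (relIndex_dvd_of_le_left M le_sup_left))
  · exact (hall_iff.1 hK).2.2 q hq hqπ (hd.trans (relIndex_dvd_of_le_left M le_sup_right))

theorem pow_relIndex_mem {N M : Subgroup G} (hn : M ≤ 𝓝(N)) {x : G} (hx : x ∈ M) :
    x ^ (N.relIndex M) ∈ N := by
  haveI : (N.subgroupOf M).Normal := normal_subgroupOf_of_le_normalizer hn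
  have h := pow_index_mem (N.subgroupOf M) ⟨x, hx⟩
  exact h


theorem PL1.mono_sub {p : ℕ} {M R H : Subgroup G} (h : PL1 p M R ⊥) (hH : H ≤ M) :
    PL1 p H ⊥ ⊥ := by
  obtain ⟨A, N, h1, h2, h3, h4, h5, h6, h7, h8⟩ := h
  refine ⟨A ⊓ H, N ⊓ H, bot_le, inf_le_inf_right _ h2, inf_le_right, ?_, ?_, ?_, ?_, ?_⟩
  · rw [sup_bot_eq]
    exact le_nz_inf (hH.trans (le_sup_left.trans h4)) le_normalizer
  · rw [sup_bot_eq]
    exact le_nz_inf (hH.trans (le_sup_left.trans h5)) le_normalizer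
  · intro x hx
    exact h6 x (mem_inf.1 hx).1
  · intro x hx
    obtain ⟨k, hk⟩ := h7 x (mem_inf.1 hx).1
    exact ⟨k, hk, pow_mem (mem_inf.1 hx).2 _⟩
  · intro x hx
    obtain ⟨m, hm, hxm⟩ := h8 x (hH hx)
    exact ⟨m, hm, hxm, pow_mem hx _⟩

theorem PL1.extend {p : ℕ} (hp : p.Prime) {H K M : Subgroup G} (h : PL1 p H K ⊥) (hM : H ⊔ K = M)
    (hn : M ≤ 𝓝(H)) (hc : ¬ p ∣ H.relIndex M) : PL1 p M ⊥ ⊥ := by
  obtain ⟨A, N, h1, h2, h3, h4, h5, h6, h7, h8⟩ := h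
  have hHM : H ≤ M := hM ▸ le_sup_left
  refine ⟨A, N, h1, h2, h3.trans hHM, ?_, ?_, h6, h7, ?_⟩
  · rw [sup_bot_eq, ← hM]; exact h4
  · rw [sup_bot_eq, ← hM]; exact h5
  · intro x hx
    obtain ⟨m, hm, hxm⟩ := h8 _ (pow_relIndex_mem hn hx)
    refine ⟨H.relIndex M * m, Nat.Coprime.mul_left ?_ hm, ?_⟩
    · exact ((Nat.Prime.coprime_iff_not_dvd hp).2 hc).symm
    · rw [pow_mul]; exact hxm

theorem plen_of_not_dvd {p : ℕ} (hp : p.Prime) {H : Type*} [Group H] [Finite H]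
    (h : ¬ p ∣ Nat.card H) : PLengthLE p 1 H := by
  rw [plen_one_iff_index]
  have h1 : (pPrimePCore p H).index ∣ Nat.card H := index_dvd_card _
  exact (((Nat.Prime.coprime_iff_not_dvd hp).2 fun h2 => h (h2.trans h1))).symm

theorem plen_of_rank2 {p : ℕ} (hp : p.Prime) {H : Type*} [Group H] [Finite H]
    (hs : Group.IsSolvable H) (hodd : Odd (Nat.card H)) (hr : PRankLE p 2 H) :
    PLengthLE p 1 H := by
  haveI : Fact p.Prime := ⟨hp⟩
  by_cases hp2 : p = 2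
  · subst hp2
    apply plen_of_not_dvd hp
    intro h
    exact (Nat.not_even_iff_odd.2 hodd) (even_iff_two_dvd.2 h)
  · obtain ⟨h1, h2⟩ := quot_facts hp2 hodd hr
    rw [plen_one_iff_index]
    exact (concl_of_quot hp2 hodd h1 h2).2.2.2.2.2

/-- in a group of `p`-length one, `O_{p'}(X) S` is normal -/
theorem plen1_normal {p : ℕ} (hp : p.Prime) {X S : Subgroup G} (hpl : PLengthLE p 1 X)
    (hS : IsPiHallOf {p} S X) : X ≤ 𝓝(piCoreOf {p}ᶜ X ⊔ S) := by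
  haveI : Fact p.Prime := ⟨hp⟩
  have hS' := hall_subgroupOf hS
  have h1 := (plen_one_iff hp hS').1 hpl
  have h2 := (sup_core_normal_iff hp hS').2 h1
  have h3 := map_subtype_nz (pPrimeCore p X ⊔ S.subgroupOf X)
  rw [Subgroup.map_sup, pPrimeCore_map hp, subgroupOf_map_subtype, inf_eq_left.2 (hall_le hS)] at h3
  exact h3

theorem plen1_frattini {p : ℕ} (hp : p.Prime) {X S : Subgroup G} (hpl : PLengthLE p 1 X)
    (hS : IsPiHallOf {p} S X) : piCoreOf {p}ᶜ X ⊔ (X ⊓ 𝓝(S)) = X := by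
  have hSX := hall_le hS
  have hT : piCoreOf {p}ᶜ X ⊔ S ≤ X := sup_le (piCoreOf_le _ _) hSX
  have h1 := frattini_syl hp hT (plen1_normal hp hpl hS) (hall_le_of_le hS le_sup_right hT)
  refine le_antisymm (sup_le (piCoreOf_le _ _) inf_le_left) ?_
  conv_lhs => rw [← h1]
  refine sup_le (sup_le le_sup_left ?_) le_sup_right
  exact (le_inf hSX le_normalizer).trans le_sup_right

/-- `O_{p'}(X)` centralizes normal `p`-subgroups -/
theorem core_le_cz {p : ℕ} (hp : p.Prime) {X Q : Subgroup G} (hQX : Q ≤ X) (hXQ : X ≤ 𝓝(Q))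
    (hQ : IsPGroup p Q) : piCoreOf {p}ᶜ X ≤ 𝓒(Q) := by
  rw [← comm_eq_bot_iff, eq_bot_iff]
  have h1 : ⁅piCoreOf {p}ᶜ X, Q⁆ ≤ piCoreOf {p}ᶜ X ⊓ Q :=
    le_inf (comm_le_left (hQX.trans (le_nz_piCoreOf _ _)))
      (comm_le_right ((piCoreOf_le _ _).trans hXQ))
  refine h1.trans (le_of_eq ?_)
  rw [inf_comm]
  exact (isPi_of_isPGroup hp hQ).inf_eq_bot (isPi_piCoreOf _ _)

section
variable (hG : IsMinSimpleOddOrder G)
include hG

theorem exists_not_sigma {M : Subgroup G} (hM : IsCoatom M) :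
    ∃ q : ℕ, q.Prime ∧ q ∣ Nat.card M ∧ q ∉ sigma M := by
  have h1 : sigmaCore M < M := by
    refine lt_of_le_of_lt (sigma_le_der hG hM) ?_
    exact comm_lt_of_solvable (max_sol hG hM) (max_ne_bot hG hM)
  have h2 : (sigmaCore M).relIndex M ≠ 1 := by
    rw [Ne, relIndex_eq_one]
    exact h1.not_ge
  obtain ⟨q, hq, hd⟩ := Nat.exists_prime_and_dvd h2
  exact ⟨q, hq, hd.trans (relIndex_dvd_card _ _), fun h =>
    (hall_iff.1 (sigma_hall hG hM)).2.2 q hq h hd⟩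

/-- the maximal subgroups: `M_α = [M_α, K]` and `p`-length one -/
theorem alpha_plen {M : Subgroup G} (hM : IsCoatom M) {p : ℕ} (hp : p.Prime)
    (hpα : p ∈ alpha M) : PL1 p M ⊥ ⊥ := by
  have hαM : alphaCore M ≤ M := piCoreOf_le _ _
  have hMα := le_nz_alphaCore hG M
  have hMs := max_sol hG hM
  have hαs := solvable_sub hαM hMs
  obtain ⟨K, hK⟩ := hall_exists (π := (alpha M)ᶜ) hMs
  have hKM := hall_le hK
  have hKα := hKM.trans hMα
  have hsup := hall_sup_compl (alpha_hall hG hM) hK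
  have hinf : alphaCore M ⊓ K = ⊥ := (isPi_piCoreOf _ _).inf_eq_bot (hall_isPi hK)
  have hcomm : ⁅alphaCore M, K⁆ = alphaCore M := by
    refine eq_comm_of_le_der hKα hinf hαs ?_
    rw [hsup]
    exact (alpha_le_sigma hG hM).trans (sigma_le_der hG hM)
  obtain ⟨q, hq, hqM, hqσ⟩ := exists_not_sigma hG hM
  have hqα : q ∉ alpha M := fun h => hqσ (alpha_sub_sigma hG hM h)
  obtain ⟨Q, hQ⟩ := exists_syl hq K
  have hQM : IsPiHallOf {q} Q M := hall_trans hQ hK (Set.singleton_subset_iff.2 hqα)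
  obtain ⟨x, hx, hxo, hz, -⟩ := bg10_4 hG hM hq hqM hqσ hQM
  have c : C36 (alphaCore M) K (zpowers x) :=
    { sol := hαs
      odd := ms_odd hG _
      oddR := ms_odd hG _
      nz := hKα
      cop := ((isPi_piCoreOf _ _ : IsPi (alpha M) (alphaCore M)).coprime (hall_isPi hK)).symm
      le := by rw [zpowers_le]; exact hall_le hQ (mem_inf.1 hx).1
      pr := by rw [Nat.card_zpowers, hxo]; exact hq
      zg := by rw [cz_zpowers]; exact hz }
  have h1 := thm36 hp _ G _ _ _ rfl c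
  rw [hcomm] at h1
  exact h1.extend hp hsup hMα ((hall_iff.1 (alpha_hall hG hM)).2.2 p hp hpα)

/-- B & G 10.6 -/
theorem bg10_6 {p : ℕ} (hp : p.Prime) {H : Subgroup G} (hH : H ≠ ⊤) : PLengthLE p 1 H := by
  by_cases hr : PRankLE p 2 H
  · exact plen_of_rank2 hp (ms_sol hG hH) (ms_odd hG H) hr
  · obtain ⟨M, hM, hHM⟩ := exists_max hG hH
    exact ((alpha_plen hG hM hp ⟨hp, fun h => hr (rank_mono hHM h)⟩).mono_sub hHM).plen_sub hp

/-- B & G 10.7: control of fusion, and Sylow subgroups of local subgroups -/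
theorem bg10_7_aux {p : ℕ} (hp : p.Prime) {P : Subgroup G} (hP : IsPiHallOf {p} P ⊤) :
    ∀ (n : ℕ) (Q : Subgroup G), Nat.card G - Nat.card Q = n → Q ≤ P → Q ≠ ⊥ →
      IsPiHallOf {p} (P ⊓ 𝓝(Q)) 𝓝(Q) ∧
      ∀ g : G, Q ^ᵍ g ≤ P → ∃ y ∈ 𝓝(P), ∃ c ∈ 𝓒(Q), g = y * c := by
  have hPp := (hall_isPi hP).isPGroup hp
  have hPn : Group.IsNilpotent P := nilpotent_of_isPi hp (hall_isPi hP)
  intro n
  induction n using Nat.strong_induction_on with
  | _ n ih =>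
  intro Q hn hQP hQ1
  have hQp : IsPGroup p Q := hPp.to_le hQP
  have hQt := ms_p_ne_top hG hp hQp
  have hNt : 𝓝(Q) ≠ ⊤ := ms_nz_ne_top hG hQ1 hQt
  have IH : ∀ T : Subgroup G, T ≤ P → Nat.card Q < Nat.card T → ∀ g : G, T ^ᵍ g ≤ P →
      ∃ y ∈ 𝓝(P), ∃ c ∈ 𝓒(T), g = y * c := by
    intro T hTP hlt
    have h1 : Nat.card T ≤ Nat.card G := Nat.le_of_dvd Nat.card_pos (card_subgroup_dvd_card T)
    refine (ih (Nat.card G - Nat.card T) (by omega) T rfl hTP ?_).2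
    rintro rfl
    rw [card_bot] at hlt
    exact absurd (Nat.card_pos (α := Q)) (by omega)
  rcases eq_or_lt_of_le hQP with he | hlt
  · subst he
    refine ⟨?_, ?_⟩
    · rw [inf_eq_left.2 le_normalizer]
      exact hall_le_of_le hP le_normalizer le_top
    · intro g hg
      refine ⟨g, ?_, 1, one_mem _, by rw [mul_one]⟩
      rw [mem_nz]
      exact eq_of_card_le hg (by rw [card_cj])
  have hgrow : ∀ Q' : Subgroup G, Q' < P → Q' < P ⊓ 𝓝(Q') := fun Q' h => nilpotent_nz_lt hPn h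
  set T := P ⊓ 𝓝(Q) with hT
  have hQT := hgrow Q hlt
  have hTP : T ≤ P := inf_le_left
  have hTN : T ≤ 𝓝(Q) := inf_le_right
  -- `T` is a Sylow subgroup of `N(Q)`
  have hTS : IsPiHallOf {p} T 𝓝(Q) := by
    obtain ⟨S, hS, hTS⟩ := exists_syl_ge hp (isPi_of_isPGroup hp (hPp.to_le hTP)) hTN
    obtain ⟨h, -, hh⟩ := syl_subj hp hP (hall_isPi hS) le_top
    obtain ⟨y, hy, c, hc, rfl⟩ := IH T hTP (card_lt_of_lt hQT) h ((cj_mono hTS h).trans hh)
    have hcQ : c ∈ 𝓒(Q) := cz_anti hQT.le hc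
    have hcN : c ∈ 𝓝(Q) := cz_le_nz Q hcQ
    have h1 : S ^ᵍ c ≤ P := by
      rw [cj_mul, cj_le_iff, mem_nz.1 (inv_mem hy)] at hh
      exact hh
    have h2 : S ^ᵍ c ≤ T := le_inf h1 (by
      rw [← cj_eq_of_mem hcN]
      exact cj_mono (hall_le hS) c)
    refine hall_of_card_le hS (isPi_of_isPGroup hp (hPp.to_le hTP)) hTN ?_
    rw [← card_cj S c]
    exact Nat.le_of_dvd (card_pos' _) (card_dvd_of_le h2)
  refine ⟨hTS, fun g hg => ?_⟩
  -- now fusion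
  have hQ1c : Nat.card ↥(Q ^ᵍ g) = Nat.card Q := card_cj Q g
  have hlt1 : Q ^ᵍ g < P := by
    refine lt_of_le_of_ne hg ?_
    intro h
    have h2 := card_lt_of_lt hlt
    rw [← hQ1c, h] at h2
    exact lt_irrefl _ h2
  have hT1 := hgrow _ hlt1
  set T₁ := P ⊓ 𝓝(Q ^ᵍ g) with hT₁
  have hT1p : IsPGroup p T₁ := hPp.to_le inf_le_left
  have hT1N : T₁ ^ᵍ g⁻¹ ≤ 𝓝(Q) := by
    have h1 : T₁ ≤ 𝓝(Q ^ᵍ g) := inf_le_right
    have h2 := cj_mono h1 g⁻¹
    rwa [nz_cj, cj_inv_cj] at h2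
  obtain ⟨m, hm, hmT⟩ := syl_subj hp hTS ((isPi_of_isPGroup hp hT1p).cj g⁻¹) hT1N
  have hpl := bg10_6 hG hp hNt
  have hfr := plen1_frattini hp hpl hTS
  have hm' : m⁻¹ ∈ piCoreOf {p}ᶜ 𝓝(Q) ⊔ (𝓝(Q) ⊓ 𝓝(T)) := by rw [hfr]; exact inv_mem hm
  obtain ⟨k, hk, l, hl, hkl⟩ := (mem_sup_of_nz' (inf_le_left.trans (le_nz_piCoreOf _ _))).1 hm'
  have hkQ : k ∈ 𝓒(Q) := core_le_cz hp le_normalizer le_rfl hQp hk
  have h1 : T₁ ^ᵍ (g * k)⁻¹ ≤ P := by
    refine le_trans ?_ hTP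
    have h2 : T₁ ^ᵍ (g * k)⁻¹ = (T₁ ^ᵍ g⁻¹) ^ᵍ k⁻¹ := by rw [mul_inv_rev, cj_mul]
    rw [h2, cj_le_iff, inv_inv]
    have h3 : T ^ᵍ k = T ^ᵍ m⁻¹ := by
      rw [← hkl, cj_mul, mem_nz.1 (mem_inf.1 hl).2]
    rw [h3, ← cj_le_iff]
    exact hmT
  obtain ⟨y, hy, c, hc, he⟩ := IH T₁ inf_le_left (by
    rw [← hQ1c]; exact card_lt_of_lt hT1) _ h1
  have hcQ : c ∈ 𝓒(Q ^ᵍ g) := cz_anti hT1.le hc
  rw [cz_cj, mem_cj] at hcQ
  refine ⟨y⁻¹, inv_mem hy, y * g, ?_, by group⟩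
  have h4 : y * g = k⁻¹ * (g⁻¹ * c * g)⁻¹ := by
    have h5 : y = (g * k)⁻¹ * c⁻¹ := by rw [he]; group
    rw [h5]; group
  rw [h4]
  exact mul_mem (inv_mem hkQ) (inv_mem hcQ)

theorem bg10_7fus {p : ℕ} (hp : p.Prime) {P : Subgroup G} (hP : IsPiHallOf {p} P ⊤)
    {Q : Subgroup G} (hQP : Q ≤ P) {g : G} (hg : Q ^ᵍ g ≤ P) :
    ∃ y ∈ 𝓝(P), ∃ c ∈ 𝓒(Q), g = y * c := by
  by_cases hQ : Q = ⊥
  · subst hQ
    refine ⟨1, one_mem _, g, ?_, by rw [one_mul]⟩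
    rw [cz_bot]; exact mem_top _
  · exact (bg10_7_aux hG hp hP _ Q rfl hQP hQ).2 g hg

theorem bg10_7syl {p : ℕ} (hp : p.Prime) {P : Subgroup G} (hP : IsPiHallOf {p} P ⊤)
    {Q : Subgroup G} (hQP : Q ≤ P) : IsPiHallOf {p} (P ⊓ 𝓝(Q)) 𝓝(Q) := by
  by_cases hQ : Q = ⊥
  · subst hQ
    have h1 : 𝓝((⊥ : Subgroup G)) = ⊤ := top_le_iff.1 (by
      rw [le_nz]
      rintro k _ h hh; rw [mem_bot] at hh ⊢; rw [hh]; group)
    rw [h1, inf_top_eq]
    exact hP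
  · exact (bg10_7_aux hG hp hP _ Q rfl hQP hQ).1

theorem bg10_7foc {p : ℕ} (hp : p.Prime) {P : Subgroup G} (hP : IsPiHallOf {p} P ⊤) :
    P ≤ ⁅𝓝(P), 𝓝(P)⁆ := by
  haveI : Fact p.Prime := ⟨hp⟩
  obtain ⟨S, rfl⟩ := exists_sylow_of_hall_top hP
  have h1 := CfsgLib.TransFus.commutator_inf_eq_of_controls S 𝓝((S : Subgroup G)) le_normalizer (by
    intro x g hx hgx
    obtain ⟨m, hm, c, hc, rfl⟩ := bg10_7fus hG hp hP (Q := zpowers x)
      (by rw [zpowers_le]; exact hx) (g := g) (by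
        rintro _ ⟨y, hy, rfl⟩
        obtain ⟨k, rfl⟩ := mem_zpowers_iff.1 hy
        have h2 : g * x ^ k * g⁻¹ = (g * x * g⁻¹) ^ k := (conj_zpow).symm
        show g * x ^ k * g⁻¹ ∈ (S : Subgroup G)
        rw [h2]
        exact zpow_mem hgx k)
    refine ⟨m, hm, ?_⟩
    have h3 := mem_cz.1 hc x (mem_zpowers x)
    have h4 : c * x * c⁻¹ = x := by rw [← h3]; group
    calc m * x * m⁻¹ = m * (c * x * c⁻¹) * m⁻¹ := by rw [h4]
      _ = m * c * x * (m * c)⁻¹ := by group)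
  rw [ms_perfect hG, top_inf_eq] at h1
  exact inf_eq_right.1 h1.symm

end

end CfsgLib.BGPi
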