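import Cfsg.Agent.EqBase
import Cfsg.Agent.LibBG10c

/-! Automorphisms of narrow groups (B & G, section 5). -/

open Subgroup
open scoped Pointwise commutatorElement

namespace CfsgLib.BGPi

open Cfsg CfsgLib.BGRep

universe u
variable {G : Type u} [Group G] [Finite G]

theorem cyc_act {V : Subgroup G} (hV : IsCyclic V) {a b : G} (ha : a ∈ 𝓝(V)) (hb : b ∈ 𝓝(V)) :
    ⁅a, b⁆ ∈ 𝓒(V) := by
  let φ := actN (E := 𝓝(V)) (V := V) le_rfl
  have hcomm : ∀ x y : MulAut V, x * y = y * x := by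
    intro x y
    apply (IsCyclic.mulAutMulEquiv V).injective
    rw [map_mul, map_mul, mul_comm]
  have h1 : φ ⁅(⟨a, ha⟩ : ↥𝓝(V)), ⟨b, hb⟩⁆ = 1 := by
    rw [map_commutatorElement, commutatorElement_def, hcomm (φ _) (φ _)]
    group
  rw [mem_cz]
  intro v hv
  have h2 := (actN_eq_iff (E := 𝓝(V)) (V := V) le_rfl ⁅(⟨a, ha⟩ : ↥𝓝(V)), ⟨b, hb⟩⁆ ⟨v, hv⟩).1 (by
    show φ _ _ = _
    rw [h1]; rfl)
  exact h2.symm

theorem prime_act {p : ℕ} (hp : p.Prime) {V : Subgroup G} (hV : Nat.card V ≤ p)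
    (hVp : IsPGroup p V) {a : G} (ha : a ∈ 𝓝(V)) : a ^ (p - 1) ∈ 𝓒(V) := by
  haveI : Fact p.Prime := ⟨hp⟩
  have hcyc : IsCyclic V := by
    rcases eq_or_ne V ⊥ with h | h
    · rw [h]; infer_instance
    · have h1 := pgroup_dvd_card hp hVp h
      have h2 : Nat.card V = p := le_antisymm hV (Nat.le_of_dvd Nat.card_pos h1)
      exact isCyclic_of_prime_card h2
  let φ := actN (E := 𝓝(V)) (V := V) le_rfl
  have hc : Nat.card (MulAut V) ∣ p - 1 := by
    rw [IsCyclic.card_mulAut]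
    rcases eq_or_ne V ⊥ with h | h
    · rw [h, card_bot]; simp
    · have h1 := pgroup_dvd_card hp hVp h
      have h2 : Nat.card V = p := le_antisymm hV (Nat.le_of_dvd Nat.card_pos h1)
      rw [h2, Nat.totient_prime hp]
  have h1 : φ ((⟨a, ha⟩ : ↥𝓝(V)) ^ (p - 1)) = 1 := by
    rw [map_pow]
    obtain ⟨k, hk⟩ := hc
    rw [hk, pow_mul, pow_card_eq_one', one_pow]
  rw [mem_cz]
  intro v hv
  have h2 := (actN_eq_iff (E := 𝓝(V)) (V := V) le_rfl ((⟨a, ha⟩ : ↥𝓝(V)) ^ (p - 1)) ⟨v, hv⟩).1 (by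
    show φ _ _ = _
    rw [h1]; rfl)
  exact h2.symm

/-- the commutator series -/
def cser (R D : Subgroup G) : ℕ → Subgroup G
  | 0 => D
  | n + 1 => ⁅cser R D n, R⁆

theorem cser_le {R D : Subgroup G} (hRD : R ≤ 𝓝(D)) (n : ℕ) : R ≤ 𝓝(cser R D n) := by
  induction n with
  | zero => exact hRD
  | succ n _ => exact right_le_nz_comm _ _

theorem cser_succ_le {R D : Subgroup G} (hRD : R ≤ 𝓝(D)) (n : ℕ) :
    cser R D (n + 1) ≤ cser R D n := comm_le_left (cser_le hRD n)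

theorem cser_le_zero {R D : Subgroup G} (hRD : R ≤ 𝓝(D)) (n : ℕ) : cser R D n ≤ D := by
  induction n with
  | zero => exact le_rfl
  | succ n ih => exact (cser_succ_le hRD n).trans ih

theorem cser_nz {R D : Subgroup G} (hD : 𝓝(R) ≤ 𝓝(D)) (n : ℕ) : 𝓝(R) ≤ 𝓝(cser R D n) := by
  induction n with
  | zero => exact hD
  | succ n ih => exact le_nz_comm ih le_rfl

theorem cser_bot {R D : Subgroup G} (hR : Group.IsNilpotent R) (hDR : D ≤ R) :
    ∃ n, cser R D n = ⊥ := by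
  obtain ⟨n, hn⟩ := (isNilpotent_iff_lowerCentralSeries R).1 hR
  refine ⟨n, ?_⟩
  have key : ∀ k : ℕ, cser R D k ≤ R.lowerCentralSeries k := by
    intro k
    induction k with
    | zero => exact hDR
    | succ k ih => exact commutator_mono ih le_rfl
  exact le_bot_iff.1 (hn ▸ key n)

/-- coprime action trivial on a series is trivial -/
theorem cop_cser {R D X : Subgroup G} {n : ℕ} (hn : cser R D n = ⊥) (hRD : R ≤ 𝓝(D))
    (hX : ∀ k, X ≤ 𝓝(cser R D k)) (hcop : (Nat.card X).Coprime (Nat.card D))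
    (hs : Group.IsSolvable D) (h : ∀ k, ⁅cser R D k, X⁆ ≤ cser R D (k + 1)) : X ≤ 𝓒(D) := by
  have key : ∀ k : ℕ, k ≤ n → X ≤ 𝓒(cser R D (n - k)) := by
    intro k
    induction k with
    | zero =>
      intro _
      rw [Nat.sub_zero, hn, cz_bot]
      exact le_top
    | succ k ih =>
      intro hk
      have h1 := ih (by omega)
      have h2 : n - (k + 1) + 1 = n - k := by omega
      refine cop_le_cz (hX _) (hcop.coprime_dvd_right (card_dvd_of_le (cser_le_zero hRD _)))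
        (solvable_sub (cser_le_zero hRD _) hs) (h1.trans (cz_anti ?_))
      rw [← h2]
      exact h _
  have := key n le_rfl
  rw [Nat.sub_self] at this
  exact this

theorem relIndex_comm_le {R D : Subgroup G} (hRD : R ≤ 𝓝(D)) {s : G} (hs : s ∈ R) {m : ℕ}
    (hm : Nat.card ↥(D ⊓ centralizer ({s} : Set G)) ≤ m) : (⁅D, R⁆).relIndex D ≤ m := by
  have h1 : (centralizer ({s} : Set G)).relIndex D ≤ Nat.card ↥⁅D, R⁆ :=
    relIndex_cz_le fun g hg => commutator_mem_commutator hg hs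
  have h2 : Nat.card ↥(D ⊓ centralizer ({s} : Set G)) * (centralizer ({s} : Set G)).relIndex D
      = Nat.card D := by
    rw [← inf_relIndex_left, card_mul_relIndex inf_le_left]
  have h3 : Nat.card ↥⁅D, R⁆ * (⁅D, R⁆).relIndex D = Nat.card D :=
    card_mul_relIndex (comm_le_left hRD)
  have h4 : Nat.card ↥⁅D, R⁆ * (⁅D, R⁆).relIndex D ≤ Nat.card ↥⁅D, R⁆ * m := by
    rw [h3, ← h2, mul_comm]
    exact Nat.mul_le_mul h1 hm
  exact Nat.le_of_mul_le_mul_left h4 Nat.card_pos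

/-- the structure used for the action on a narrow group -/
structure NarE (q : ℕ) (Q E : Subgroup G) : Prop where
  hq : q.Prime
  hq2 : q ≠ 2
  hQ : IsPGroup q Q
  r3 : ¬ PRankLE q 2 Q
  le : E ≤ Q
  el : IsElementaryAbelian q E
  card : Nat.card E = q ^ 2
  max : ∀ B ≤ Q, IsElementaryAbelian q B → E ≤ B → B = E

theorem NarE.mem {q : ℕ} {Q E : Subgroup G} (c : NarE q Q E) {x : G} (hx : x ∈ Q) (hxq : x ^ q = 1)
    (h : ∀ a ∈ E, a * x = x * a) : x ∈ E :=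
  mem_of_max_elab c.le c.el c.max hx hxq h

/-- the series -/
theorem NarE.series {q : ℕ} {Q E : Subgroup G} (c : NarE q Q E) :
    ∃ C D : Subgroup G, C ≤ Q ∧ 𝓝(Q) ≤ 𝓝(C) ∧ D ≤ C ∧ 𝓝(Q) ≤ 𝓝(D) ∧ D.relIndex C ≤ q ∧
      (∀ n, (cser Q D (n + 1)).relIndex (cser Q D n) ≤ q) ∧
      ∀ A ≤ 𝓝(Q), (Nat.card A).Coprime q → A ≤ 𝓒(C) → A ≤ 𝓒(Q) := by
  obtain ⟨hWe, hWc, hTi, hET, Z, hZc, hQZ, hZE, hZW, hZQ, hWZ⟩ :=
    narrow_rel c.hq c.hq2 c.hQ c.r3 c.le c.el c.card c.max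
  obtain ⟨C, hCQ, hQC, hCq, -, hCA⟩ := exists_crit c.hq c.hq2 c.hQ
  set W := oz2 c.hq c.hq2 Q with hW
  obtain ⟨s, hsE, hsW⟩ := SetLike.not_le_iff_exists.1 hET
  have hsQ := c.le hsE
  set T := Q ⊓ 𝓒(W) with hT
  have hsT : s ∉ T := fun h => hsW (mem_inf.1 h).2
  have hQT : 𝓝(Q) ≤ 𝓝(T) := le_nz_inf le_rfl (le_nz_cz (nz_oz2 c.hq c.hq2 Q))
  have hsq : s ^ q = 1 := c.el.2 s hsE
  have hsZ : s ∉ Z := fun h => hsT (mem_inf.2 ⟨hsQ, by
    rw [mem_cz]
    intro w hw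
    exact mem_cz.1 (hZQ h) w (oz2_le c.hq c.hq2 Q hw)⟩)
  -- `E` is generated by `Z` and `s`
  have hEgen : E = Z ⊔ zpowers s := by
    symm
    refine eq_of_card_le (sup_le hZE (by rwa [zpowers_le])) ?_
    rw [c.card, card_sup_zpowers c.hq hsq hsZ, hZc, pow_two]
    intro z hz
    rw [mem_centralizer_singleton_iff]
    exact (mem_cz.1 (hZQ hz) s hsQ).symm
  have hQD : 𝓝(Q) ≤ 𝓝(C ⊓ T) := le_nz_inf hQC hQT
  refine ⟨C, C ⊓ T, hCQ, hQC, inf_le_left, hQD, ?_, ?_, hCA⟩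
  · rw [inf_comm, inf_relIndex_right]
    have h1 := relIndex_le_of_le_right (H := T) hCQ (by rw [hTi]; exact c.hq.ne_zero)
    rw [hTi] at h1
    exact h1
  · intro n
    refine relIndex_comm_le (cser_le (le_normalizer.trans hQD) n) hsQ ?_
    have h1 : cser Q (C ⊓ T) n ≤ C ⊓ T := cser_le_zero (le_normalizer.trans hQD) n
    have h2 : cser Q (C ⊓ T) n ⊓ centralizer ({s} : Set G) ≤ E ⊓ T := by
      intro x hx
      have hxC := mem_inf.1 (h1 (mem_inf.1 hx).1)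
      refine mem_inf.2 ⟨c.mem (hCQ hxC.1) (hCq x hxC.1) ?_, hxC.2⟩
      have hxs := mem_centralizer_singleton_iff.1 (mem_inf.1 hx).2
      intro a ha
      rw [hEgen] at ha
      have h3 : Z ⊔ zpowers s ≤ centralizer ({x} : Set G) := by
        refine sup_le ?_ (by rw [zpowers_le, mem_centralizer_singleton_iff]; exact hxs.symm)
        intro z hz
        rw [mem_centralizer_singleton_iff]
        exact (mem_cz.1 (hZQ hz) x (hCQ hxC.1)).symm
      exact mem_centralizer_singleton_iff.1 (h3 ha)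
    have h4 : Nat.card ↥(E ⊓ T) ≤ q := by
      have h5 : E ⊓ T < E := lt_of_le_of_ne inf_le_left fun h => hsT (by
        rw [← h] at hsE; exact (mem_inf.1 hsE).2)
      have h6 := pgroup_mul_card_le c.hq (elab_isPGroup c.el) h5
      rw [c.card, pow_two] at h6
      exact Nat.le_of_mul_le_mul_left h6 c.hq.pos
    exact (Nat.le_of_dvd (card_pos' _) (card_dvd_of_le h2)).trans h4


/-- centralizer of a section -/
def secC (D' D : Subgroup G) : Subgroup G := pull D' 𝓒(qm D' D)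

theorem secC_comm {D' D X : Subgroup G} (hD : D ≤ 𝓝(D')) (hX : X ≤ secC D' D) :
    ⁅D, X⁆ ≤ D' := by
  have hXN : X ≤ 𝓝(D') := hX.trans pull_le_nz
  rw [← qm_cz_iff hD hXN, le_cz_comm]
  have h1 := qm_mono (N := D') hX
  rw [secC, qm_pull] at h1
  exact h1

theorem secC_mem {D' D : Subgroup G} {x : G} (hx : x ∈ 𝓝(D')) (h : qe D' hx ∈ 𝓒(qm D' D)) :
    x ∈ secC D' D := mem_pull.2 ⟨hx, h⟩

theorem isCyclic_of_card_le {p : ℕ} (hp : p.Prime) {V : Subgroup G} (hV : Nat.card V ≤ p)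
    (hVp : IsPGroup p V) : IsCyclic V := by
  haveI : Fact p.Prime := ⟨hp⟩
  rcases eq_or_ne V ⊥ with h | h
  · rw [h]; infer_instance
  · have h1 := pgroup_dvd_card hp hVp h
    have h2 : Nat.card V = p := le_antisymm hV (Nat.le_of_dvd Nat.card_pos h1)
    exact isCyclic_of_prime_card h2

theorem secC_der {q : ℕ} (hq : q.Prime) {D' D A : Subgroup G} (hDp : IsPGroup q D)
    (hD : D ≤ 𝓝(D')) (hc : D'.relIndex D ≤ q) (hA : A ≤ 𝓝(D')) (hAD : A ≤ 𝓝(D)) :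
    ⁅A, A⁆ ≤ secC D' D := by
  rw [commutator_le]
  intro a ha b hb
  have h1 : IsCyclic (qm D' D) := isCyclic_of_card_le hq (by rw [qm_card hD]; exact hc)
    (qm_isPGroup hDp)
  have hab : ⁅a, b⁆ ∈ 𝓝(D') := hA (comm_self_le A (commutator_mem_commutator ha hb))
  refine secC_mem hab ?_
  have h2 := cyc_act h1 (qm_nz hAD (qe_mem (hA ha) ha)) (qm_nz hAD (qe_mem (hA hb) hb))
  exact h2

theorem secC_pow {q : ℕ} (hq : q.Prime) {D' D : Subgroup G} (hDp : IsPGroup q D)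
    (hD : D ≤ 𝓝(D')) (hc : D'.relIndex D ≤ q) {a : G} (ha : a ∈ 𝓝(D')) (haD : a ∈ 𝓝(D)) :
    a ^ (q - 1) ∈ secC D' D := by
  refine secC_mem (pow_mem ha _) ?_
  rw [qe_pow ha]
  refine prime_act hq (by rw [qm_card hD]; exact hc) (qm_isPGroup hDp) ?_
  have h1 : zpowers a ≤ 𝓝(D) := by rwa [zpowers_le]
  exact qm_nz h1 (qe_mem ha (mem_zpowers a))

theorem NarE.act {q : ℕ} {Q E : Subgroup G} (c : NarE q Q E) {X : Subgroup G} (hXQ : X ≤ 𝓝(Q))
    (hX : (Nat.card X).Coprime q)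
    (h : ∀ D' D : Subgroup G, 𝓝(Q) ≤ 𝓝(D') → 𝓝(Q) ≤ 𝓝(D) → D ≤ Q → D' ≤ D →
      D'.relIndex D ≤ q → X ≤ secC D' D) : X ≤ 𝓒(Q) := by
  obtain ⟨C, D, hCQ, hQC, hDC, hQD, hCi, hser, hCA⟩ := c.series
  refine hCA X hXQ hX ?_
  have hCp := c.hQ.to_le hCQ
  have hDp := hCp.to_le hDC
  have hQn : Group.IsNilpotent Q := nilpotent_of_isPi c.hq (isPi_of_isPGroup c.hq c.hQ)
  obtain ⟨n, hn⟩ := cser_bot hQn (hDC.trans hCQ)
  have hQD' := le_normalizer.trans hQD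
  have h1 : X ≤ 𝓒(D) := by
    refine cop_cser hn hQD' (fun k => hXQ.trans (cser_nz hQD k))
      (coprime_card_of_pgroup c.hq hDp hX) (solvable_of_isPGroup c.hq hDp) fun k => ?_
    have h2 : cser Q D k ≤ Q := (cser_le_zero hQD' k).trans (hDC.trans hCQ)
    refine secC_comm (h2.trans (cser_le hQD' (k + 1))) ?_
    exact h _ _ (cser_nz hQD _) (cser_nz hQD _) h2 (cser_succ_le hQD' k) (hser k)
  refine cop_le_cz (hXQ.trans hQC) (coprime_card_of_pgroup c.hq hCp hX)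
    (solvable_of_isPGroup c.hq hCp) (h1.trans (cz_anti ?_))
  refine secC_comm (hCQ.trans hQD') ?_
  exact h _ _ hQD hQC hCQ hDC hCi

/-- odd-order-free version of `rk2_der` for narrow groups of rank three -/
theorem NarE.der {q : ℕ} {Q E : Subgroup G} (c : NarE q Q E) {A : Subgroup G} (hA : A ≤ 𝓝(Q))
    {a : G} (ha : a ∈ ⁅A, A⁆) (hao : (orderOf a).Coprime q) : a ∈ 𝓒(Q) := by
  have haN : zpowers a ≤ 𝓝(Q) := by
    rw [zpowers_le]; exact hA (comm_self_le A ha)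
  have h1 := c.act haN (by rw [Nat.card_zpowers]; exact hao) (fun D' D h1 h2 h3 h4 h5 => by
    rw [zpowers_le]
    exact secC_der c.hq (c.hQ.to_le h3) ((h3.trans le_normalizer).trans h1) h5 (hA.trans h1)
      (hA.trans h2) ha)
  exact h1 (mem_zpowers a)

theorem NarE.pow {q : ℕ} {Q E : Subgroup G} (c : NarE q Q E) {a : G} (ha : a ∈ 𝓝(Q))
    (hao : (orderOf a).Coprime q) : a ^ (q - 1) ∈ 𝓒(Q) := by
  have haN : zpowers (a ^ (q - 1)) ≤ 𝓝(Q) := by
    rw [zpowers_le]; exact pow_mem ha _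
  have h1 := c.act haN (by
    rw [Nat.card_zpowers]
    exact Nat.Coprime.coprime_dvd_left (orderOf_pow_dvd _) hao) (fun D' D h1 h2 h3 h4 h5 => by
    rw [zpowers_le]
    exact secC_pow c.hq (c.hQ.to_le h3) ((h3.trans le_normalizer).trans h1) h5 (h1 ha) (h2 ha))
  exact h1 (mem_zpowers _)

end CfsgLib.BGPi
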