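import Cfsg.Agent.EqBase
import Cfsg.Agent.LibBGNar2
import Cfsg.Agent.LibBGRk2b

/-! Narrow Sylow subgroups of solvable groups of odd order (B & G, section 5). -/

open Subgroup
open scoped Pointwise commutatorElement

namespace CfsgLib.BGPi

open Cfsg CfsgLib.BGRep

universe u
variable {G : Type u} [Group G] [Finite G]

theorem elab_cyclic_card {p : ℕ} (hp : p.Prime) {A : Subgroup G} (hA : IsElementaryAbelian p A)
    (hc : IsCyclic A) : Nat.card A ≤ p := by
  obtain ⟨n, hn⟩ := elab_card hp hA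
  by_contra h
  have h2 : 2 ≤ n := by
    by_contra h2
    rw [not_le] at h2
    apply h
    rw [hn]
    calc p ^ n ≤ p ^ 1 := Nat.pow_le_pow_right hp.pos (by omega)
      _ = p := pow_one p
  exact nc_of_card hp hA (by rw [hn]; exact Nat.pow_le_pow_right hp.pos h2) hc

theorem elab_le_prod {p : ℕ} (hp : p.Prime) {R₀ R₁ A : Subgroup G} (h0 : Nat.card R₀ ≤ p)
    (h1 : IsCyclic R₁) (hn : R₀ ≤ 𝓝(R₁)) (hA : IsElementaryAbelian p A) (hle : A ≤ R₀ ⊔ R₁) :
    Nat.card A ≤ p ^ 2 := by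
  have h2 : Nat.card ↥(A ⊓ R₁) ≤ p := by
    refine elab_cyclic_card hp (elab_mono inf_le_left hA) ?_
    exact isCyclic_of_injective (inclusion inf_le_right) (inclusion_injective inf_le_right)
  have h3 : R₁.relIndex A ≤ p := by
    have h4 : R₁.relIndex A ≤ R₁.relIndex (R₀ ⊔ R₁) :=
      relIndex_le_of_le_right hle (by
        intro h
        have h5 := relIndex_dvd_card R₁ (R₀ ⊔ R₁)
        rw [h, zero_dvd_iff] at h5
        exact Nat.card_pos.ne' h5)
    rw [relIndex_sup_eq hn] at h4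
    exact h4.trans ((Nat.le_of_dvd Nat.card_pos (relIndex_dvd_card _ _)).trans h0)
  calc Nat.card A = Nat.card ↥(A ⊓ R₁) * (A ⊓ R₁).relIndex A := (card_mul_relIndex inf_le_left).symm
    _ = Nat.card ↥(A ⊓ R₁) * R₁.relIndex A := by rw [inf_relIndex_left]
    _ ≤ p * p := Nat.mul_le_mul h2 h3
    _ = p ^ 2 := (pow_two p).symm

theorem narE_of_isNarrow {R : Type*} [Group R] [Finite R] {p : ℕ} (hp : p.Prime) (hp2 : p ≠ 2)
    (hR : IsPGroup p R) (hr : ¬ PRankLE p 2 R) (h : IsNarrow p R) :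
    ∃ E : Subgroup R, NarE p (⊤ : Subgroup R) E := by
  haveI : Fact p.Prime := ⟨hp⟩
  rcases h with h | ⟨R₀, R₁, h0, h1, hinf, hcomm, hsup⟩
  · exact absurd h hr
  have hn : R₀ ≤ 𝓒(R₁) := by
    intro a ha
    rw [mem_cz]
    intro b hb
    exact (hcomm a ha b hb).symm
  have hb : ∀ A : Subgroup R, IsElementaryAbelian p A → A ≤ R₀ ⊔ R₁ → Nat.card A ≤ p ^ 2 :=
    fun A hA hle => elab_le_prod hp h0.le h1 (hn.trans (cz_le_nz _)) hA hle
  have hR0e : IsElementaryAbelian p R₀ := by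
    refine ⟨?_, fun a ha => ?_⟩
    · have := isCyclic_of_prime_card (α := R₀) h0
      exact ⟨⟨fun a b => IsCyclic.commGroup.mul_comm a b⟩⟩
    · rw [← h0]
      exact congrArg Subtype.val (pow_card_eq_one' (x := (⟨a, ha⟩ : R₀)))
  obtain ⟨E, hRE, -, hE, hmax⟩ := exists_max_elab (M := ⊤) le_top hR0e
  have hEs : E ≤ R₀ ⊔ R₁ := by
    rw [hsup]
    exact (comm_iff_le_cz.1 hE.1).trans (cz_anti hRE)
  have hEc := hb E hE hEs
  have htop : ¬ PRankLE p 2 (⊤ : Subgroup R) := by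
    intro h
    apply hr
    rw [rank_top_iff]
    rw [rank_iff] at h
    exact fun A hA => h A le_top hA
  refine ⟨E, hp, hp2, hR.to_subgroup ⊤, htop, le_top, hE, ?_, hmax⟩
  refine le_antisymm hEc ?_
  by_contra hlt
  rw [not_le] at hlt
  -- then `E = R₀`
  obtain ⟨n, hn'⟩ := elab_card hp hE
  have hn1 : n ≤ 1 := by
    by_contra h2
    rw [hn'] at hlt
    exact absurd (Nat.pow_le_pow_right hp.pos (by omega : 2 ≤ n)) (not_le.2 hlt)
  have hER : R₀ = E := by
    refine eq_of_card_le hRE ?_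
    rw [h0, hn']
    calc p ^ n ≤ p ^ 1 := Nat.pow_le_pow_right hp.pos hn1
      _ = p := pow_one p
  haveI : Nontrivial R := by
    by_contra h3
    rw [not_nontrivial_iff_subsingleton] at h3
    have : Nat.card R₀ = 1 := by
      rw [card_eq_one]
      exact Subsingleton.elim _ _
    rw [h0] at this
    exact hp.ne_one this
  obtain ⟨z, hz1⟩ := ne_bot_iff_exists_ne_one.1 (omZ_ne_bot hp hR)
  obtain ⟨hzc, hzp⟩ := mem_omZ.1 z.2
  have hzE : (z : R) ∈ E := mem_of_max_elab le_top hE hmax (mem_top _) hzp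
    (fun a _ => (mem_center_iff.1 hzc a))
  rw [← hER] at hzE
  have hz : zpowers (z : R) = R₀ := zpowers_of_prime (by rw [h0]; exact hp) hzE (fun h => hz1 (Subtype.ext h))
  have hall : (⊤ : Subgroup R) ≤ R₀ ⊔ R₁ := by
    rw [hsup, ← hz]
    intro x _
    rw [cz_zpowers, mem_centralizer_singleton_iff]
    exact mem_center_iff.1 hzc x
  apply hr
  rw [rank_top_iff]
  intro A hA
  exact hb A hA (le_top.trans hall)

theorem NarE.map {q : ℕ} {Q E : Subgroup G} (c : NarE q Q E) {G' : Type*} [Group G'] [Finite G']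
    {f : G →* G'} (hf : Q ⊓ f.ker = ⊥) : NarE q (Q.map f) (E.map f) := by
  have hinj : ∀ X : Subgroup G, X ≤ Q → Nat.card ↥(X.map f) = Nat.card X := by
    intro X hX
    have h1 : X ⊓ f.ker = ⊥ := le_bot_iff.1 (hf ▸ inf_le_inf_right _ hX)
    refine Nat.card_congr (Equiv.ofBijective
      (fun x : X => (⟨f x, mem_map_of_mem f x.2⟩ : ↥(X.map f))) ⟨?_, ?_⟩).symm
    · intro x y hxy
      have h2 : f x = f y := congrArg Subtype.val hxy
      have h3 : (x : G) * (y : G)⁻¹ ∈ X ⊓ f.ker := by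
        refine mem_inf.2 ⟨mul_mem x.2 (inv_mem y.2), ?_⟩
        rw [MonoidHom.mem_ker, map_mul, map_inv, h2, mul_inv_cancel]
      rw [h1, mem_bot, mul_inv_eq_one] at h3
      exact Subtype.ext h3
    · rintro ⟨_, x, hx, rfl⟩
      exact ⟨⟨x, hx⟩, rfl⟩
  have hpull : ∀ B ≤ Q.map f, IsElementaryAbelian q B → ∃ B' ≤ Q, IsElementaryAbelian q B' ∧
      B'.map f = B ∧ ∀ X ≤ Q, X.map f ≤ B → X ≤ B' := by
    intro A hA he
    set B := Q ⊓ A.comap f with hB
    have hBA : B.map f = A := by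
      apply le_antisymm
      · rw [Subgroup.map_le_iff_le_comap]; exact inf_le_right
      · intro a ha
        obtain ⟨x, hx, rfl⟩ := hA ha
        exact ⟨x, ⟨hx, ha⟩, rfl⟩
    refine ⟨B, inf_le_left, ?_, hBA, fun X hX hXA => le_inf hX (map_le_iff_le_comap.1 hXA)⟩
    refine ⟨comm_iff_le_cz.2 ?_, ?_⟩
    · intro x hx
      rw [mem_cz]
      intro y hy
      exact comm_of_map_comm' hf hy.1 hx.1 (mem_cz.1 (comm_iff_le_cz.1 he.1 hx.2) _ hy.2)
    · intro x hx
      have h1 : x ^ q ∈ Q ⊓ f.ker := by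
        refine Subgroup.mem_inf.2 ⟨pow_mem hx.1 q, ?_⟩
        rw [MonoidHom.mem_ker, map_pow]
        exact he.2 _ hx.2
      rw [hf] at h1
      exact mem_bot.1 h1
  refine ⟨c.hq, c.hq2, c.hQ.map f, ?_, map_mono c.le, elab_map c.el f, ?_, ?_⟩
  · obtain ⟨A, hA, hAe, hAc⟩ := (not_rank_iff c.hq).1 c.r3
    rw [not_rank_iff c.hq]
    exact ⟨A.map f, map_mono hA, elab_map hAe f, by rw [hinj A hA, hAc]⟩
  · rw [hinj E c.le, c.card]
  · intro B hB hBe hEB
    obtain ⟨B', hB', hB'e, hBB, hm⟩ := hpull B hB hBe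
    rw [← hBB, c.max B' hB' hB'e (hm E c.le hEB)]

/-- the facts about the quotient by `O_{p'}` in the narrow case -/
theorem nar_quot_facts [Group.IsSolvable G] {p : ℕ} [hpp : Fact p.Prime]
    (hodd : Odd (Nat.card G)) {S E : Subgroup G} (hS : IsPiHallOf {p} S ⊤) (c : NarE p S E)
    (hpl : PLengthLE p 1 G) :
    IsPGroup p ↥(_root_.commutator (G ⧸ pPrimeCore p G)) ∧
    (∀ q : ℕ, q.Prime → q ∣ Nat.card (G ⧸ pPrimeCore p G) → q = p ∨ 2 * q ≤ p + 1) := by
  have hp := hpp.out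
  have hp2 := c.hq2
  set K := pPrimeCore p G with hK
  have hQodd : Odd (Nat.card (G ⧸ K)) := hodd.of_dvd_nat (Subgroup.card_quotient_dvd_card K)
  set f := QuotientGroup.mk' K with hf
  have hker : S ⊓ f.ker = ⊥ := by
    rw [hf, QuotientGroup.ker_mk']
    refine (hall_isPi hS).inf_eq_bot ((isPi_compl_singleton' hp).2 (coprime_core p))
  have c' := c.map hker
  set R := pCore p (G ⧸ K) with hR
  have hRp : IsPGroup p R := CfsgLib.Cores.pCore_isPGroup p
  have hRS : R = S.map f := by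
    have h1 : S ≤ pPrimePCore p G := (plen_one_iff hp hS).1 hpl
    have h2 : S.map f ≤ R := le_ppc_iff.1 h1
    have h3 := hall_map hS f
    have h4 : (⊤ : Subgroup G).map f = ⊤ := by
      rw [← MonoidHom.range_eq_map, MonoidHom.range_eq_top]
      exact QuotientGroup.mk'_surjective K
    rw [h4] at h3
    exact (hall_eq_of_le h3 (isPi_of_isPGroup hp hRp) le_top h2).symm
  rw [← hRS] at c'
  have hCR : 𝓒(R) ≤ R := pconstrained_core (CfsgLib.Cores.pPrimeCore_quotient_pPrimeCore p)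
  have hn : (⊤ : Subgroup (G ⧸ K)) ≤ 𝓝(R) := by rw [Subgroup.normalizer_eq_top]
  have key : ∀ q : ℕ, q.Prime → q ≠ p → ∀ x ∈ 𝓒(R), orderOf x = q → False := by
    intro q hq hqp x hx hxo
    obtain ⟨k, hk⟩ := (IsPGroup.iff_orderOf.1 hRp) ⟨x, hCR hx⟩
    rw [← Subgroup.orderOf_coe] at hk
    change orderOf x = _ at hk
    rw [hxo] at hk
    have h1 : q ∣ p ^ k := by rw [← hk]
    exact hqp ((Nat.prime_dvd_prime_iff_eq hq hp).1 (hq.dvd_of_dvd_pow h1))
  have hcop : ∀ q : ℕ, q.Prime → q ≠ p → q.Coprime p := fun q hq hqp =>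
    (Nat.coprime_primes hq hp).2 hqp
  constructor
  · apply isPGroup_of_elements hp
    intro q hq hqp x hx hxo
    refine key q hq hqp x ?_ hxo
    exact c'.der hn hx (by rw [hxo]; exact hcop q hq hqp)
  · intro q hq hd
    by_cases hqp : q = p
    · exact Or.inl hqp
    right
    haveI : Fact q.Prime := ⟨hq⟩
    have hq2 : q ≠ 2 := by
      rintro rfl
      exact Nat.not_even_iff_odd.2 hQodd (even_iff_two_dvd.2 hd)
    apply two_mul_le hq2 hq hp hp2
    left
    obtain ⟨x, hx⟩ := exists_prime_orderOf_dvd_card' q hd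
    by_contra hcon
    have h1 := c'.pow (hn (mem_top x)) (by rw [hx]; exact hcop q hq hqp)
    refine key q hq hqp (x ^ (p - 1)) h1 ?_
    rw [orderOf_pow, hx, (hq.coprime_iff_not_dvd).2 hcon, Nat.div_one]


theorem narE_of_isNarrow' {p : ℕ} (hp : p.Prime) (hp2 : p ≠ 2) {R : Subgroup G}
    (hR : IsPGroup p R) (hr : ¬ PRankLE p 2 R) (h : IsNarrow p R) :
    ∃ E : Subgroup G, NarE p R E := by
  obtain ⟨E, c⟩ := narE_of_isNarrow hp hp2 hR hr h
  have h1 := c.map (f := R.subtype) (by rw [ker_subtype, inf_bot_eq])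
  rw [← MonoidHom.range_eq_map, range_subtype] at h1
  exact ⟨_, h1⟩

/-- B & G 5.6 -/
theorem bg5_6 [Group.IsSolvable G] {p : ℕ} [hpp : Fact p.Prime] (hp2 : p ≠ 2)
    (hodd : Odd (Nat.card G)) {S : Subgroup G} (hS : IsPiHallOf {p} S ⊤)
    (h : PRankLE p 2 S ∨ (PLengthLE p 1 G ∧ ∃ E, NarE p S E)) :
    IsPGroup p ↥(_root_.commutator (G ⧸ pPrimeCore p G)) ∧
    (∀ q : ℕ, q.Prime → q ∣ Nat.card (G ⧸ pPrimeCore p G) → q = p ∨ 2 * q ≤ p + 1) := by
  rcases h with h | ⟨h1, E, c⟩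
  · refine quot_facts hp2 hodd ?_
    have h1 := (rank_syl hpp.out hS).2 h
    rw [rank_top_iff]
    rw [rank_iff] at h1
    exact fun A hA => h1 A le_top hA
  · exact nar_quot_facts hodd hS c h1

end CfsgLib.BGPi
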