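import Cfsg.Agent.EqBase
import Cfsg.Agent.LibTransNil
import Cfsg.Agent.LibCoprime
import Cfsg.Agent.LibH2Gen2
import Cfsg.Agent.LibH2Lift
set_option autoImplicit false
namespace CfsgLib.H2Schm
open Subgroup Cfsg CfsgLib.Coprime CfsgLib.H2Misc CfsgLib.H2Quad
open CfsgLib.TransPC (IsNPC hasNPC_iff)
open scoped Pointwise commutatorElement

universe u v
variable {G : Type u} [Group G]

theorem isNilpotent_of_npc [Finite G] (h : ∀ q : ℕ, q.Prime → HasNormalPComplement q G) : Group.IsNilpotent G := by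
  apply (Group.isNilpotent_of_finite_tfae.out 0 3 rfl rfl).mpr
  intro p hp P
  have hN : ∀ q : {q : ℕ // q.Prime ∧ q ≠ p}, ∃ N : Subgroup G, IsNPC q.1 N := by
    intro q
    haveI : Fact q.1.Prime := ⟨q.2.1⟩
    have h1 := h q.1 q.2.1
    rwa [hasNPC_iff] at h1
  choose N hN using hN
  set M : Subgroup G := ⨅ q, N q with hM
  have hmem : ∀ x : G, x ∈ M ↔ ∀ q : ℕ, q.Prime → q ≠ p → (orderOf x).Coprime q := by
    intro x
    rw [hM, mem_iInf]
    constructor
    · intro h q hq hqp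
      haveI : Fact q.Prime := ⟨hq⟩
      exact ((hN ⟨q, hq, hqp⟩).mem_iff x).mp (h ⟨q, hq, hqp⟩)
    · intro h q
      haveI : Fact q.1.Prime := ⟨q.2.1⟩
      exact ((hN q).mem_iff x).mpr (h q.1 q.2.1 q.2.2)
  have hMn : M.Normal := by
    refine ⟨fun x hx g => ?_⟩
    rw [hmem] at hx ⊢
    have h1 : orderOf (g * x * g⁻¹) = orderOf x := by
      have := orderOf_injective (MulAut.conj g).toMonoidHom (MulAut.conj g).injective x
      simpa [MulAut.conj_apply] using this
    rw [h1]; exact hx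
  have hMp : IsPGroup p M := by
    intro ⟨x, hx⟩
    rw [hmem] at hx
    refine ⟨(orderOf x).primeFactorsList.length, Subtype.ext ?_⟩
    change x ^ _ = 1
    have h1 : orderOf x = p ^ (orderOf x).primeFactorsList.length := by
      apply Nat.eq_prime_pow_of_unique_prime_dvd (orderOf_pos x).ne'
      intro d hd hdx
      by_contra hne
      have h2 := hx d hd hne
      have h3 := Nat.dvd_gcd hdx dvd_rfl
      rw [h2] at h3
      exact hd.one_lt.ne' (Nat.dvd_one.mp h3)
    rw [← h1]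
    exact pow_orderOf_eq_one x
  have hPM : (P : Subgroup G) ≤ M := by
    intro x hx
    rw [hmem]
    intro q hq hqp
    obtain ⟨k, hk⟩ := P.isPGroup' ⟨x, hx⟩
    have hk' : x ^ p ^ k = 1 := congrArg Subtype.val hk
    refine Nat.Coprime.coprime_dvd_left (orderOf_dvd_of_pow_eq_one hk') ?_
    exact Nat.Coprime.pow_left k ((Nat.coprime_primes hp.out hq).mpr (Ne.symm hqp))
  have h1 : M = P := P.3 hMp hPM
  rw [← h1]; exact hMn

/-- minimal non-nilpotent groups -/
theorem schmidt_struct [Finite G] (hG : IsMinimalNonNilpotent G) :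
    ∃ p q : ℕ, p.Prime ∧ q.Prime ∧ p ≠ q ∧ ∃ (Q : Subgroup G) (g : G), IsPGroup q Q ∧ Q.Normal ∧
      (∃ k, orderOf g = p ^ k) ∧ g ∉ centralizer (Q : Set G) ∧ Q ⊔ zpowers g = ⊤ := by
  obtain ⟨hnn, hpr⟩ := hG
  have h1 : ∃ q : ℕ, q.Prime ∧ ¬ HasNormalPComplement q G := by
    by_contra hcon
    push Not at hcon
    exact hnn (isNilpotent_of_npc hcon)
  obtain ⟨q, hq, hqn⟩ := h1
  haveI : Fact q.Prime := ⟨hq⟩
  obtain ⟨Q, g₀, hQ, hg₀, ho₀, hgc₀⟩ := CfsgLib.TransNil.exists_of_not_hasNPC hqn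
  -- minimal order
  have hex : ∃ n : ℕ, ∃ g : G, orderOf g = n ∧ g ∈ normalizer (Q : Set G) ∧ (orderOf g).Coprime q ∧
      g ∉ centralizer (Q : Set G) := ⟨_, g₀, rfl, hg₀, ho₀, hgc₀⟩
  classical
  obtain ⟨g, hgn, hg, ho, hgc⟩ := Nat.find_spec hex
  have hmin : ∀ g' : G, orderOf g' < orderOf g → g' ∈ normalizer (Q : Set G) → (orderOf g').Coprime q →
      g' ∈ centralizer (Q : Set G) := by
    intro g' hlt h2 h3
    by_contra h4
    exact Nat.find_min hex (by rw [← hgn]; exact hlt) ⟨g', rfl, h2, h3, h4⟩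
  have htop : Q ⊔ zpowers g = ⊤ := by
    by_contra hne
    exact CfsgLib.TransNil.not_isNilpotent_of hQ ho hgc le_sup_left
      ((le_sup_right : zpowers g ≤ Q ⊔ zpowers g) (mem_zpowers g)) (hpr _ hne)
  have hQn : Q.Normal := by
    rw [← normalizer_eq_top_iff, eq_top_iff, ← htop]
    exact sup_le le_normalizer (zpowers_le.mpr hg)
  have hg1 : orderOf g ≠ 1 := by
    intro h
    rw [orderOf_eq_one_iff] at h
    rw [h] at hgc
    exact hgc (one_mem _)
  set p := (orderOf g).minFac with hp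
  have hpp : p.Prime := Nat.minFac_prime hg1
  have hpd : p ∣ orderOf g := Nat.minFac_dvd _
  refine ⟨p, q, hpp, hq, ?_, Q, g, hQ, hQn, ?_, hgc, htop⟩
  · rintro h
    have h2 := Nat.dvd_gcd hpd (h ▸ dvd_rfl : p ∣ q)
    rw [ho] at h2
    exact hpp.one_lt.ne' (Nat.dvd_one.mp h2)
  · refine ⟨(orderOf g).primeFactorsList.length, ?_⟩
    apply Nat.eq_prime_pow_of_unique_prime_dvd (orderOf_pos g).ne'
    intro r hr hrd
    by_contra hne
    have key : ∀ s : ℕ, s.Prime → s ∣ orderOf g → g ^ s ∈ centralizer (Q : Set G) := by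
      intro s hs hsd
      have h3 : orderOf (g ^ s) = orderOf g / s := orderOf_pow_of_dvd hs.ne_zero hsd
      apply hmin _ _ (pow_mem hg s)
      · exact Nat.Coprime.coprime_dvd_left (orderOf_pow_dvd s) ho
      · rw [h3]
        exact Nat.div_lt_self (orderOf_pos g) hs.one_lt
    have hk1 := key r hr hrd
    have hk2 := key p hpp hpd
    have hcop : r.Coprime p := (Nat.coprime_primes hr hpp).mpr hne
    have h4 : g ∈ centralizer (Q : Set G) := by
      have h5 := Nat.gcd_eq_gcd_ab r p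
      rw [hcop] at h5
      have h6 : g = (g ^ r) ^ (r.gcdA p) * (g ^ p) ^ (r.gcdB p) := by
        have : g ^ ((1 : ℕ) : ℤ) = g ^ ((r : ℤ) * r.gcdA p + p * r.gcdB p) := by rw [← h5]
        rw [Nat.cast_one, zpow_one, zpow_add, zpow_mul, zpow_mul, zpow_natCast, zpow_natCast] at this
        exact this
      rw [h6]
      exact mul_mem (zpow_mem hk1 _) (zpow_mem hk2 _)
    exact hgc h4

theorem inf_zpowers_bot [Finite G] {p q : ℕ} (hp : p.Prime) (hq : q.Prime) (hpq : p ≠ q) {Q : Subgroup G} {g : G}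
    (hQ : IsPGroup q Q) (hg : ∃ k, orderOf g = p ^ k) : zpowers g ⊓ Q = ⊥ := by
  haveI : Fact p.Prime := ⟨hp⟩
  haveI : Fact q.Prime := ⟨hq⟩
  obtain ⟨k, hk⟩ := hg
  have h1 : IsPGroup p (zpowers g) := IsPGroup.of_card (n := k) (by rw [Nat.card_zpowers, hk])
  rw [← disjoint_iff]
  exact IsPGroup.disjoint_of_ne p q hpq _ _ h1 hQ

theorem card_eq [Finite G] {p q : ℕ} (hp : p.Prime) (hq : q.Prime) (hpq : p ≠ q) {Q : Subgroup G} {g : G}
    (hQ : IsPGroup q Q) (hQn : Q.Normal) (hg : ∃ k, orderOf g = p ^ k) (htop : Q ⊔ zpowers g = ⊤) :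
    Nat.card G = orderOf g * Nat.card Q := by
  have h1 := card_sup_of_normal (zpowers g) Q (inf_zpowers_bot hp hq hpq hQ hg)
  rw [sup_comm, htop, card_top, Nat.card_zpowers] at h1
  exact h1

theorem index_Q [Finite G] {p q : ℕ} (hp : p.Prime) (hq : q.Prime) (hpq : p ≠ q) {Q : Subgroup G} {g : G}
    (hQ : IsPGroup q Q) (hQn : Q.Normal) (hg : ∃ k, orderOf g = p ^ k) (htop : Q ⊔ zpowers g = ⊤) :
    ¬ q ∣ Q.index := by
  have h1 := card_eq hp hq hpq hQ hQn hg htop
  have h2 := Q.card_mul_index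
  have h3 : Q.index = orderOf g := by
    have : Nat.card Q * Q.index = Nat.card Q * orderOf g := by rw [h2, h1, mul_comm]
    exact Nat.eq_of_mul_eq_mul_left Nat.card_pos this
  rw [h3]
  obtain ⟨k, hk⟩ := hg
  rw [hk]
  intro h
  exact hpq ((Nat.prime_dvd_prime_iff_eq hq hp).mp (hq.dvd_of_dvd_pow h)).symm

theorem index_P [Finite G] {p q : ℕ} (hp : p.Prime) (hq : q.Prime) (hpq : p ≠ q) {Q : Subgroup G} {g : G}
    (hQ : IsPGroup q Q) (hQn : Q.Normal) (hg : ∃ k, orderOf g = p ^ k) (htop : Q ⊔ zpowers g = ⊤) :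
    ¬ p ∣ (zpowers g).index := by
  have h1 := card_eq hp hq hpq hQ hQn hg htop
  have h2 := (zpowers g).card_mul_index
  rw [Nat.card_zpowers] at h2
  have h3 : (zpowers g).index = Nat.card Q := by
    have : orderOf g * (zpowers g).index = orderOf g * Nat.card Q := by rw [h2, h1]
    exact Nat.eq_of_mul_eq_mul_left (orderOf_pos g) this
  rw [h3]
  haveI : Fact q.Prime := ⟨hq⟩
  obtain ⟨k, hk⟩ := IsPGroup.iff_card.mp hQ
  rw [hk]
  intro h
  exact hpq ((Nat.prime_dvd_prime_iff_eq hp hq).mp (hp.dvd_of_dvd_pow h))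

/-- nilpotent groups with abelian Sylow subgroups -/
theorem comm_of_sylow_comm [Finite G] (hG : Group.IsNilpotent G)
    (h : ∀ (p : ℕ) [Fact p.Prime] (P : Sylow p G), IsMulCommutative P) : ∀ x y : G, x * y = y * x := by
  haveI := hG
  -- elements of prime power order commute
  have key : ∀ x y : G, (∃ p k, p.Prime ∧ orderOf x = p ^ k) → (∃ p k, p.Prime ∧ orderOf y = p ^ k) →
      x * y = y * x := by
    rintro x y ⟨p, k, hp, hx⟩ ⟨q, l, hq, hy⟩
    by_cases hpq : p = q
    · subst hpq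
      haveI : Fact p.Prime := ⟨hp⟩
      have h1 := (Group.isNilpotent_of_finite_tfae (G := G)).out 0 3 |>.mp hG
      obtain ⟨P⟩ : Nonempty (Sylow p G) := inferInstance
      haveI := h1 p ⟨hp⟩ P
      have hmem : ∀ z : G, (∃ k, orderOf z = p ^ k) → z ∈ P := by
        rintro z ⟨k, hz⟩
        have h2 : IsPGroup p (zpowers z) := IsPGroup.of_card (n := k) (by rw [Nat.card_zpowers, hz])
        have h3 : IsPGroup p ↥(zpowers z ⊔ (P : Subgroup G)) := h2.to_sup_of_normal_right P.isPGroup'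
        have h4 : zpowers z ⊔ (P : Subgroup G) = P := P.3 h3 le_sup_right
        have h5 : zpowers z ≤ (P : Subgroup G) := by rw [← h4]; exact le_sup_left
        exact h5 (mem_zpowers z)
      have h2 := h p P
      have h3 := h2.is_comm.comm ⟨x, hmem x ⟨k, hx⟩⟩ ⟨y, hmem y ⟨l, hy⟩⟩
      exact congrArg Subtype.val h3
    · apply CfsgLib.TransNil.commute_of_coprime G x y
      rw [hx, hy]
      exact Nat.Coprime.pow _ _ ((Nat.coprime_primes hp hq).mpr hpq)
  -- every element is a product of powers of prime power order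
  have gen : ∀ (n : ℕ) (x : G), orderOf x ≤ n →
      x ∈ Subgroup.closure {z : G | ∃ p k, p.Prime ∧ orderOf z = p ^ k} := by
    intro n
    induction n with
    | zero => intro x hx; exact absurd (orderOf_pos x) (by omega)
    | succ n ih =>
      intro x hx
      by_cases h1 : orderOf x = 1
      · rw [orderOf_eq_one_iff] at h1
        rw [h1]; exact one_mem _
      set p := (orderOf x).minFac with hp
      have hpp : p.Prime := Nat.minFac_prime h1
      have hpd : p ∣ orderOf x := Nat.minFac_dvd _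
      obtain ⟨a, m, hm, hxm⟩ := Nat.exists_eq_pow_mul_and_not_dvd (orderOf_pos x).ne' p hpp.ne_one
      by_cases hm1 : m = 1
      · apply Subgroup.subset_closure
        exact ⟨p, a, hpp, by rw [hxm, hm1, mul_one]⟩
      have ha0 : a ≠ 0 := by
        rintro rfl
        rw [pow_zero, one_mul] at hxm
        rw [hxm] at hpd
        exact hm hpd
      have hmpos : 0 < m := Nat.pos_of_ne_zero (fun h => by
        rw [h, mul_zero] at hxm; exact (orderOf_pos x).ne' hxm)
      have hlt1 : orderOf (x ^ m) < orderOf x := by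
        rw [orderOf_pow_of_dvd hmpos.ne' (by rw [hxm]; exact dvd_mul_left m _)]
        exact Nat.div_lt_self (orderOf_pos x) (by omega)
      have hpa : 1 < p ^ a := Nat.one_lt_pow ha0 hpp.one_lt
      have hlt2 : orderOf (x ^ p ^ a) < orderOf x := by
        rw [orderOf_pow_of_dvd (pow_pos hpp.pos a).ne' (by rw [hxm]; exact dvd_mul_right _ m)]
        exact Nat.div_lt_self (orderOf_pos x) hpa
      have hcop : m.Coprime (p ^ a) := (Nat.Coprime.pow_left a ((Nat.Prime.coprime_iff_not_dvd hpp).mpr hm)).symm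
      have h5 := Nat.gcd_eq_gcd_ab m (p ^ a)
      rw [hcop] at h5
      have h6 : x = (x ^ m) ^ (m.gcdA (p ^ a)) * (x ^ p ^ a) ^ (m.gcdB (p ^ a)) := by
        have : x ^ ((1 : ℕ) : ℤ) = x ^ ((m : ℤ) * m.gcdA (p ^ a) + ((p ^ a : ℕ) : ℤ) * m.gcdB (p ^ a)) := by
          rw [← h5]
        rw [Nat.cast_one, zpow_one, zpow_add, zpow_mul, zpow_mul, zpow_natCast, zpow_natCast] at this
        exact this
      rw [h6]
      exact mul_mem (zpow_mem (ih _ (by omega)) _) (zpow_mem (ih _ (by omega)) _)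
  set S : Set G := {z : G | ∃ p k, p.Prime ∧ orderOf z = p ^ k} with hS
  have hSc : Subgroup.closure S ≤ centralizer (Subgroup.closure S : Set G) := by
    rw [Subgroup.closure_le_centralizer_centralizer S |> fun _ => Subgroup.closure_le]
    intro x hx
    rw [centralizer_closure]
    apply mem_centralizer_iff.mpr
    intro y hy
    exact key y x hy hx
  intro x y
  have h1 := hSc (gen _ x le_rfl)
  exact (mem_centralizer_iff.mp h1 y (gen _ y le_rfl)).symm


section main
variable {p q : ℕ}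

/-- S0536 -/
theorem minimal_non_nilpotent [Finite G] (hG : IsMinimalNonNilpotent G) : ∃ p q : ℕ, p.Prime ∧ q.Prime ∧ p ≠ q ∧
    ∃ (P : Sylow p G) (Q : Sylow q G), IsCyclic P ∧ (Q : Subgroup G).Normal ∧ (P : Subgroup G) ⊔ Q = ⊤ := by
  obtain ⟨p, q, hp, hq, hpq, Q, g, hQ, hQn, hg, hgc, htop⟩ := schmidt_struct hG
  haveI : Fact p.Prime := ⟨hp⟩
  haveI : Fact q.Prime := ⟨hq⟩
  have hP : IsPGroup p (zpowers g) := by
    obtain ⟨k, hk⟩ := hg
    exact IsPGroup.of_card (n := k) (by rw [Nat.card_zpowers, hk])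
  refine ⟨p, q, hp, hq, hpq, hP.toSylow (index_P hp hq hpq hQ hQn hg htop),
    hQ.toSylow (index_Q hp hq hpq hQ hQn hg htop), ?_, hQn, ?_⟩
  · change IsCyclic (zpowers g)
    infer_instance
  · change zpowers g ⊔ Q = ⊤
    rw [sup_comm]; exact htop

theorem not_mem_normal [Finite G] (hG : IsMinimalNonNilpotent G) (q : ℕ) [hq : Fact q.Prime]
    (hqd : q ∣ Nat.card G) (Q : Sylow q G) (hQn : (Q : Subgroup G).Normal) :
    ∃ (p : ℕ) (g : G), p.Prime ∧ p ≠ q ∧ (∃ k, orderOf g = p ^ k) ∧ g ∉ centralizer (Q : Set G) ∧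
      (Q : Subgroup G) ⊔ zpowers g = ⊤ := by
  obtain ⟨p, q', hp, hq', hpq, Q', g, hQ', hQ'n, hg, hgc, htop⟩ := schmidt_struct hG
  haveI : Fact p.Prime := ⟨hp⟩
  haveI : Fact q'.Prime := ⟨hq'⟩
  have hQS := index_Q hp hq' hpq hQ' hQ'n hg htop
  by_cases h1 : q = q'
  · subst h1
    have h2 : (Q : Subgroup G) = Q' := by
      have h3 : IsPGroup q ↥(Q' ⊔ (Q : Subgroup G)) := hQ'.to_sup_of_normal_right Q.isPGroup'
      have h4 : Q' ⊔ (Q : Subgroup G) = Q := Q.3 h3 le_sup_right
      have h5 : Q' ≤ (Q : Subgroup G) := by rw [← h4]; exact le_sup_left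
      apply le_antisymm _ h5
      have h6 : (hQ'.toSylow hQS : Subgroup G) = Q' := rfl
      have h7 := (hQ'.toSylow hQS).3 Q.isPGroup' (by
        change Q' ≤ _
        exact h5)
      rw [h7]; exact le_of_eq h6
    rw [← h2] at hgc htop
    exact ⟨p, g, hp, hpq, hg, hgc, htop⟩
  · exfalso
    have h2 : q = p := by
      have h3 := card_eq hp hq' hpq hQ' hQ'n hg htop
      obtain ⟨k, hk⟩ := hg
      obtain ⟨l, hl⟩ := IsPGroup.iff_card.mp hQ'
      rw [h3, hk, hl] at hqd
      rcases (Nat.Prime.dvd_mul hq.out).mp hqd with h | h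
      · exact (Nat.prime_dvd_prime_iff_eq hq.out hp).mp (hq.out.dvd_of_dvd_pow h)
      · exact absurd ((Nat.prime_dvd_prime_iff_eq hq.out hq').mp (hq.out.dvd_of_dvd_pow h)) h1
    subst h2
    apply hgc
    -- `g` in the normal Sylow `q`-subgroup
    have hgQ : g ∈ (Q : Subgroup G) := by
      obtain ⟨k, hk⟩ := hg
      have h3 : IsPGroup q (zpowers g) := IsPGroup.of_card (n := k) (by rw [Nat.card_zpowers, hk])
      have h4 : IsPGroup q ↥(zpowers g ⊔ (Q : Subgroup G)) := h3.to_sup_of_normal_right Q.isPGroup'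
      have h5 : zpowers g ⊔ (Q : Subgroup G) = Q := Q.3 h4 le_sup_right
      have h6 : zpowers g ≤ (Q : Subgroup G) := by rw [← h5]; exact le_sup_left
      exact h6 (mem_zpowers g)
    have hdisj : (Q : Subgroup G) ⊓ Q' = ⊥ := by
      rw [← disjoint_iff]
      exact IsPGroup.disjoint_of_ne q q' hpq _ _ Q.isPGroup' hQ'
    rw [mem_centralizer_iff]
    intro y hy
    have h7 : ⁅y, g⁆ ∈ (Q : Subgroup G) ⊓ Q' := by
      have h8 : ⁅Q', (Q : Subgroup G)⁆ ≤ (Q : Subgroup G) ⊓ Q' := by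
        rw [inf_comm]; exact commutator_le_inf Q' (Q : Subgroup G)
      exact h8 (commutator_mem_commutator hy hgQ)
    rw [hdisj, mem_bot, commutatorElement_eq_one_iff_mul_comm] at h7
    exact h7

end main

end CfsgLib.H2Schm
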