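import Cfsg.Agent.EqBase
import Cfsg.Agent.LibBG10e
import Cfsg.Agent.LibBGNar3
import Cfsg.Agent.LibH2Schm

/-! B & G section 10: 10.8, and 5.7. -/

open Subgroup
open scoped Pointwise commutatorElement

namespace CfsgLib.BGPi

open Cfsg CfsgLib.BGRep

universe u
variable {G : Type u} [Group G] [Finite G]

theorem NarE.subgroupOf {q : ℕ} {Q E X : Subgroup G} (c : NarE q Q E) (hQX : Q ≤ X) :
    NarE q (Q.subgroupOf X) (E.subgroupOf X) := by
  have hQ' : (Q.subgroupOf X).map X.subtype = Q := by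
    rw [subgroupOf_map_subtype, inf_eq_left.2 hQX]
  have hE' : (E.subgroupOf X).map X.subtype = E := by
    rw [subgroupOf_map_subtype, inf_eq_left.2 (c.le.trans hQX)]
  refine ⟨c.hq, c.hq2, isPGroup_subgroupOf c.hQ, ?_, fun x hx => c.le hx, ?_, ?_, ?_⟩
  · intro h
    apply c.r3
    have h1 := rank_map (f := X.subtype) (X := Q.subgroupOf X) (by rw [ker_subtype, inf_bot_eq]) h
    rwa [hQ'] at h1
  · exact ⟨comm_subgroupOf c.el.1, fun a ha => Subtype.ext (c.el.2 a ha)⟩
  · rw [card_subgroupOf (c.le.trans hQX), c.card]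
  · intro B hB hBe hEB
    have h1 := c.max (B.map X.subtype) (by rw [← hQ']; exact map_mono hB) (elab_map hBe _)
      (by rw [← hE']; exact map_mono hEB)
    rw [← hE'] at h1
    exact map_injective X.subtype_injective h1

theorem NarE.cj {q : ℕ} {Q E : Subgroup G} (c : NarE q Q E) (g : G) : NarE q (Q ^ᵍ g) (E ^ᵍ g) :=
  c.map (f := (MulAut.conj g).toMonoidHom) (cj_ker Q g)

/-- general version of `der_le_fitting` -/
theorem der_le_fitting' {H : Subgroup G} (hH : Group.IsSolvable H)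
    (hcz : ∀ r : ℕ, r.Prime → ∀ x ∈ ⁅H, H⁆, (orderOf x).Coprime r → x ∈ 𝓒(piCoreOf {r} H)) :
    ⁅H, H⁆ ≤ fittingOf H := by
  set F := fittingOf H with hF
  have hFn := fittingOf_nilpotent H
  set D := ⁅H, H⁆ with hD
  have hDH : D ≤ H := Subgroup.commutator_le_self H
  by_contra hcon
  obtain ⟨p, hp, S, hS, hSF⟩ := exists_syl_not_le hcon
  apply hSF
  haveI : Fact p.Prime := ⟨hp⟩
  set B := piCoreOf {p}ᶜ F with hB
  have hHB : H ≤ 𝓝(B) := (le_nz_fittingOf H).trans (nz_le_nz_piCoreOf _ _)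
  set K := D ⊓ 𝓒(B) with hK
  have hKH : K ≤ H := inf_le_left.trans hDH
  have hHK : H ≤ 𝓝(K) := le_nz_inf (left_le_nz_comm H H)
    (hHB.trans (nz_le_nz_cz B))
  have hSK : S ≤ K := by
    refine le_inf hS.1 fun x hx => ?_
    apply cz_compl
    intro q hq hqp
    apply hcz q hq x (hS.1 hx)
    obtain ⟨k, hk⟩ := (IsPGroup.iff_orderOf.1 ((hall_isPi hS).isPGroup hp)) ⟨x, hx⟩
    rw [← Subgroup.orderOf_coe] at hk
    change orderOf x = _ at hk
    rw [hk]
    exact ((Nat.coprime_primes hp hq).2 (fun h => hqp (by rw [← h]; rfl))).pow_left k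
  refine hSK.trans (le_fittingOf hKH hHK ?_)
  apply nilpotent_of_central_quot hp
  intro y hy hyo
  have h1 : y ∈ 𝓒(piCoreOf {p} F) := by
    rw [hF, piCoreOf_fittingOf hp]
    exact hcz p hp y hy.1 hyo
  have h2 : y ∈ 𝓒(F) := by
    have h3 : F ≤ Subgroup.centralizer {y} := by
      rw [show F = piCoreOf {p} F ⊔ piCoreOf {p}ᶜ F from (nilpotent_sup_piCoreOf hFn).symm]
      refine sup_le ?_ ?_
      · intro z hz
        rw [Subgroup.mem_centralizer_singleton_iff]
        exact mem_cz.1 h1 z hz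
      · intro z hz
        rw [Subgroup.mem_centralizer_singleton_iff]
        exact mem_cz.1 hy.2 z hz
    rw [mem_cz]
    intro z hz
    exact Subgroup.mem_centralizer_singleton_iff.1 (h3 hz)
  have h3 : y ∈ F := cz_fittingOf_le hH ⟨hKH hy, h2⟩
  have h4 : y ∈ B := by
    have h5 : zpowers y ≤ B := by
      refine nilpotent_le_piCoreOf hFn (by rwa [Subgroup.zpowers_le]) ?_
      rw [isPi_compl_singleton' hp, Nat.card_zpowers]
      exact hyo
    exact h5 (Subgroup.mem_zpowers y)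
  rw [mem_cz]
  intro z hz
  exact (mem_cz.1 hz.2 y h4).symm

/-- a maximal elementary abelian subgroup of order at most `p²` in a `p`-group of rank three -/
theorem narE_of_max {p : ℕ} (hp : p.Prime) (hp2 : p ≠ 2) {R E : Subgroup G} (hR : IsPGroup p R)
    (hr : ¬ PRankLE p 2 R) (hER : E ≤ R) (hE : IsElementaryAbelian p E)
    (hmax : ∀ B ≤ R, IsElementaryAbelian p B → E ≤ B → B = E) (hc : Nat.card E ≤ p ^ 2) :
    NarE p R E := by
  haveI : Fact p.Prime := ⟨hp⟩
  refine ⟨hp, hp2, hR, hr, hER, hE, le_antisymm hc ?_, hmax⟩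
  by_contra hlt
  rw [not_le] at hlt
  obtain ⟨n, hn'⟩ := elab_card hp hE
  have hn1 : n ≤ 1 := by
    by_contra h2
    rw [hn'] at hlt
    exact absurd (Nat.pow_le_pow_right hp.pos (by omega : 2 ≤ n)) (not_le.2 hlt)
  have hEc : Nat.card E ≤ p := by
    rw [hn']
    calc p ^ n ≤ p ^ 1 := Nat.pow_le_pow_right hp.pos hn1
      _ = p := pow_one p
  have hR1 : R ≠ ⊥ := by
    rintro rfl
    apply hr
    rw [rank_iff]
    intro A hA _
    rw [le_bot_iff.1 hA, card_bot]
    exact Nat.one_le_iff_ne_zero.2 (pow_ne_zero _ hp.ne_zero)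
  have h1 : R ⊓ 𝓒(R) ≠ ⊥ := pgroup_inf_cz hp (isPi_of_isPGroup hp hR) (isPi_of_isPGroup hp hR)
    le_normalizer hR1
  obtain ⟨z, hz⟩ := exists_prime_orderOf_dvd_card' p
    (pgroup_dvd_card hp (hR.to_le inf_le_left) h1)
  have hzR : (z : G) ∈ R := (mem_inf.1 z.2).1
  have hzC : (z : G) ∈ 𝓒(R) := (mem_inf.1 z.2).2
  have hzo : orderOf (z : G) = p := by rw [orderOf_coe, hz]
  have hzp : (z : G) ^ p = 1 := by rw [← hzo]; exact pow_orderOf_eq_one _
  have hz1 : (z : G) ≠ 1 := by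
    intro h
    rw [h, orderOf_one] at hzo
    exact hp.ne_one hzo.symm
  have hzE : (z : G) ∈ E := mem_of_max_elab hER hE hmax hzR hzp
    (fun a ha => mem_cz.1 hzC a (hER ha))
  have hEz : zpowers (z : G) = E := by
    refine eq_of_card_le (by rwa [zpowers_le]) ?_
    rw [Nat.card_zpowers, hzo]
    exact hEc
  apply hr
  rw [rank_iff]
  intro B hB hBe
  -- `B E` is elementary abelian containing `E`
  have h2 : IsElementaryAbelian p (B ⊔ zpowers (z : G)) :=
    elab_sup_zpowers hBe hzp fun a ha => mem_cz.1 hzC a (hB ha)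
  have h3 := hmax _ (sup_le hB (by rwa [zpowers_le])) h2 (by rw [← hEz]; exact le_sup_right)
  have h4 : B ≤ E := h3 ▸ le_sup_left
  exact (Nat.le_of_dvd Nat.card_pos (card_dvd_of_le h4)).trans hc

section
variable (hG : IsMinSimpleOddOrder G)
include hG

theorem beta_sub_alpha {M : Subgroup G} : beta M ⊆ alpha M := fun _ h => h.1

/-- Sylow subgroups of a maximal subgroup for primes outside `β` -/
theorem not_beta_syl {M : Subgroup G} (hM : IsCoatom M) {p : ℕ} (hp : p.Prime)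
    (hpM : p ∣ Nat.card M) (hpβ : p ∉ beta M) {S : Subgroup G} (hS : IsPiHallOf {p} S M) :
    PRankLE p 2 S ∨ ∃ E, NarE p S E := by
  haveI : Fact p.Prime := ⟨hp⟩
  have hp2 := ms_p2' hG hp hpM
  by_cases hr : PRankLE p 2 S
  · exact Or.inl hr
  right
  have hpα : p ∈ alpha M := ⟨hp, fun h => hr (rank_mono (hall_le hS) h)⟩
  have hSt := sigma_syl (alpha_sub_sigma hG hM hpα) hS
  have hni : ¬ IsIdealPrime p G := fun h => hpβ ⟨hpα, h⟩
  have hrG : ¬ PRankLE p 2 G := fun h => hr (rank_of_top h)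
  rw [IsIdealPrime] at hni
  push Not at hni
  obtain ⟨P, A, hAP, hA, hAc, hmax⟩ := hni hp hrG
  obtain ⟨g, -, hg⟩ := syl_conj hp (hall_of_sylow P) hSt
  have hPr : ¬ PRankLE p 2 (P : Subgroup G) := by
    intro h
    apply hr
    rw [← hg]
    exact rank_cj.2 h
  have c : NarE p (P : Subgroup G) A :=
    { hq := hp
      hq2 := hp2
      hQ := P.isPGroup'
      r3 := hPr
      le := hAP
      el := hA
      card := by simpa using hAc
      max := by
        intro B hB hBe hAB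
        by_contra hne
        exact hmax B hB hBe (lt_of_le_of_ne hAB (Ne.symm hne)) }
  have h1 := c.cj g
  rw [hg] at h1
  exact ⟨_, h1⟩

theorem not_beta_facts {M : Subgroup G} (hM : IsCoatom M) {p : ℕ} (hp : p.Prime)
    (hpM : p ∣ Nat.card M) (hpβ : p ∉ beta M) :
    HasNormalPComplement p ↥⁅M, M⁆ ∧ HasNormalPComplement p ↥(sigmaCore M) ∧
        ∀ q : ℕ, q.Prime → q ∣ (pPrimeCore p ↥M).index → q ≤ p := by
  haveI : Fact p.Prime := ⟨hp⟩
  haveI : Group.IsSolvable M := max_sol hG hM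
  have hp2 := ms_p2' hG hp hpM
  obtain ⟨S, hS⟩ := exists_syl hp M
  obtain ⟨h1, h2⟩ := bg5_6 (G := ↥M) (p := p) hp2 (ms_odd hG M) (hall_subgroupOf hS) (by
    rcases not_beta_syl hG hM hp hpM hpβ hS with h | ⟨E, c⟩
    · exact Or.inl (rank_subgroupOf h)
    · exact Or.inr ⟨bg10_6 hG hp (max_ne_top hG hM), _, c.subgroupOf (hall_le hS)⟩)
  obtain ⟨h3, -, h4, -⟩ := concl_of_quot hp2 (ms_odd hG M) h1 h2
  have h5 : HasNormalPComplement p ↥⁅M, M⁆ := by
    have e1 : (commutator ↥M).map M.subtype = ⁅M, M⁆ := by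
      rw [_root_.commutator_def, Subgroup.map_commutator, ← MonoidHom.range_eq_map, range_subtype]
    rw [← e1]
    exact (CfsgLib.Npc9.hnpc_equiv ((commutator ↥M).equivMapOfInjective M.subtype
      M.subtype_injective)).1 h4
  exact ⟨h5, CfsgLib.Npc9.hnpc_subgroup_le (sigma_le_der hG hM) h5, h3⟩

/-- B & G 10.8 (b) -/
theorem not_beta_nilp {M : Subgroup G} (hM : IsCoatom M) {X H : Subgroup G} (hX : X ≤ ⁅M, M⁆)
    (hH : IsPiHallOf {q | q.Prime ∧ q ∉ beta M} H X) : Group.IsNilpotent H := by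
  apply CfsgLib.H2Schm.isNilpotent_of_npc
  intro q hq
  haveI : Fact q.Prime := ⟨hq⟩
  by_cases hd : q ∣ Nat.card H
  · have h1 := (hall_isPi hH) q hq hd
    have hqM : q ∣ Nat.card M := hd.trans (card_dvd_of_le (((hall_le hH).trans hX).trans
      (comm_self_le M)))
    exact CfsgLib.Npc9.hnpc_subgroup_le ((hall_le hH).trans hX)
      (not_beta_facts hG hM hq hqM h1.2).1
  · exact CfsgLib.Npc9.hnpc_of_coprime ((Nat.Prime.coprime_iff_not_dvd hq).2 hd).symm

theorem beta_hall {M : Subgroup G} (hM : IsCoatom M) :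
    IsPiHallOf (beta M) (piCoreOf (beta M) M) M := by
  refine hall_of_syls (piCoreOf_le _ _) (isPi_piCoreOf _ _) fun q hq hqβ S hS => ?_
  have hqσ := alpha_sub_sigma hG hM (beta_sub_alpha hG hqβ)
  have hSD := sigma_focal hG hM hqσ hS
  have hDM := comm_self_le M
  set τ : Set ℕ := {p | p ∉ beta M ∧ p ∣ Nat.card M} with hτ
  have h1 : S ≤ piCoreOf τᶜ ⁅M, M⁆ := by
    refine le_piCoreOf_compl hSD fun r hr hrp => ?_
    haveI : Fact r.Prime := ⟨hrp⟩
    have h2 := (not_beta_facts hG hM hrp hr.2 hr.1).1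
    have hne : q ≠ r := fun h => hr.1 (h ▸ hqβ)
    intro x hx
    rw [← pPrimeCore_map hrp]
    refine ⟨⟨x, hSD hx⟩, CfsgLib.Npc9.mem_pPrimeCore_of_coprime h2 ?_, rfl⟩
    haveI : Fact q.Prime := ⟨hq⟩
    obtain ⟨k, hk⟩ := (IsPGroup.iff_orderOf.1 ((hall_isPi hS).isPGroup hq)) ⟨x, hx⟩
    rw [← Subgroup.orderOf_coe] at hk
    change orderOf x = _ at hk
    rw [← orderOf_coe]
    show (orderOf x).Coprime r
    rw [hk]
    exact ((Nat.coprime_primes hq hrp).2 hne).pow_left k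
  have h2 : piCoreOf τᶜ ⁅M, M⁆ = piCoreOf (beta M) ⁅M, M⁆ := by
    refine piCoreOf_congr fun p _ hd => ?_
    have hd' : p ∣ Nat.card M := hd.trans (card_dvd_of_le hDM)
    rw [hτ, Set.mem_compl_iff, Set.mem_setOf_eq]
    constructor
    · intro h
      by_contra h'
      exact h ⟨h', hd'⟩
    · rintro h ⟨h', -⟩
      exact h' h
  rw [h2, piCoreOf_of_normal hDM (left_le_nz_comm M M)] at h1
  exact h1.trans inf_le_right

end

end CfsgLib.BGPi
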