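import Cfsg.Agent.EqBase
import Cfsg.Agent.LibBGNar3
import Mathlib.RepresentationTheory.Submodule
import Mathlib.RepresentationTheory.Maschke

/-! Maschke's theorem in relative form. -/

open Subgroup
open scoped Pointwise commutatorElement

namespace CfsgLib.BGPi

open Cfsg CfsgLib.BGRep

universe u
variable {G : Type u} [Group G] [Finite G]

theorem maschke_rel {p : ℕ} (hp : p.Prime) {V A X : Subgroup G} (hV : IsElementaryAbelian p V)
    (hAV : A ≤ 𝓝(V)) (hA : (Nat.card A).Coprime p) (hXV : X ≤ V) (hAX : A ≤ 𝓝(X)) :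
    ∃ K ≤ V, A ≤ 𝓝(K) ∧ X ⊓ K = ⊥ ∧ X ⊔ K = V := by
  haveI : Fact p.Prime := ⟨hp⟩
  letI : CommGroup V := { (inferInstance : Group V) with
    mul_comm := fun a b => Subtype.ext (mem_cz.1 (comm_iff_le_cz.1 hV.1 b.2) a a.2) }
  obtain ⟨inst, π, -, hπ⟩ := exists_rep (actN hAV) p (fun v => Subtype.ext (hV.2 v v.2))
  let ρ : Representation (ZMod p) A (Additive V) := π
  let pX : Submodule (ZMod p) (Additive V) :=
    AddSubgroup.toZModSubmodule p (Subgroup.toAddSubgroup (X.subgroupOf V))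
  have hpX : ∀ v : V, Additive.ofMul v ∈ pX ↔ (v : G) ∈ X := fun v => Iff.rfl
  have hinv : pX ∈ ρ.invtSubmodule := by
    rw [Representation.mem_invtSubmodule]
    intro a v hv
    show π a v ∈ pX
    have h1 : (v.toMul : G) ∈ X := (hpX v.toMul).1 hv
    have h2 := hπ a v.toMul
    rw [ofMul_toMul] at h2
    rw [h2, hpX, actN_coe]
    exact le_nz.1 hAX a a.2 _ h1
  haveI : NeZero (Nat.card A : ZMod p) := ⟨by
    rw [Ne, ZMod.natCast_eq_zero_iff]
    intro h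
    exact hp.one_lt.ne' (Nat.Coprime.eq_one_of_dvd hA.symm h)⟩
  obtain ⟨q, hq⟩ := MonoidAlgebra.Submodule.exists_isCompl (ρ.mapSubmodule ⟨pX, hinv⟩)
  have hc : IsCompl (⟨pX, hinv⟩ : ρ.invtSubmodule) (ρ.mapSubmodule.symm q) := by
    have h1 := (ρ.mapSubmodule.symm.isCompl_iff (x := ρ.mapSubmodule ⟨pX, hinv⟩) (y := q)).1 hq
    rwa [OrderIso.symm_apply_apply] at h1
  obtain ⟨⟨q', hq'⟩, he⟩ : ∃ y, y = ρ.mapSubmodule.symm q := ⟨_, rfl⟩
  rw [← he] at hc
  have hd : ∀ v : Additive V, v ∈ pX → v ∈ q' → v = 0 := by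
    intro v h1 h2
    have h3 := hc.disjoint.eq_bot
    have h4 : pX ⊓ q' = ⊥ := congrArg Subtype.val h3
    have h5 : v ∈ pX ⊓ q' := ⟨h1, h2⟩
    rw [h4] at h5
    exact (Submodule.mem_bot _).1 h5
  have hs : pX ⊔ q' = ⊤ := congrArg Subtype.val hc.codisjoint.eq_top
  refine ⟨(AddSubgroup.toSubgroup' q'.toAddSubgroup).map V.subtype, map_subtype_le _, ?_, ?_, ?_⟩
  · rw [le_nz]
    rintro a ha _ ⟨v, hv, rfl⟩
    have h1 : π ⟨a, ha⟩ (Additive.ofMul v) ∈ q' := (Representation.mem_invtSubmodule ρ).1 hq' ⟨a, ha⟩ hv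
    rw [hπ] at h1
    exact ⟨_, h1, actN_coe hAV ⟨a, ha⟩ v⟩
  · rw [eq_bot_iff]
    rintro _ ⟨h1, ⟨v, hv, rfl⟩⟩
    have h2 := hd (Additive.ofMul v) ((hpX v).2 h1) hv
    rw [mem_bot]
    exact congrArg (fun x : Additive V => ((x.toMul : V) : G)) h2
  · refine le_antisymm (sup_le hXV (map_subtype_le _)) ?_
    intro v hv
    have h1 : Additive.ofMul (⟨v, hv⟩ : V) ∈ pX ⊔ q' := by rw [hs]; trivial
    obtain ⟨x, hx, y, hy, hxy⟩ := Submodule.mem_sup.1 h1
    have h2 : v = ((x.toMul : V) : G) * ((y.toMul : V) : G) := by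
      have := congrArg (fun x : Additive V => ((x.toMul : V) : G)) hxy
      exact this.symm
    rw [h2]
    refine mul_mem (mem_sup_left ?_) (mem_sup_right ⟨y.toMul, hy, rfl⟩)
    exact (hpX x.toMul).1 hx

end CfsgLib.BGPi
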