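import Cfsg.Agent.EqBase
import Cfsg.Agent.LibBGNar3

/-! `p`-groups of rank at most two, `p > 3` (B & G, section 4). -/

open Subgroup
open scoped Pointwise commutatorElement

namespace CfsgLib.BGPi

open Cfsg CfsgLib.BGRep

universe u

section formula
variable {G : Type u} [Group G]

theorem comb3 {b c d : G} (bc : Commute b c) (bd : Commute b d) (cd : Commute c d)
    (n i j m k : ℕ) : b ^ n * c ^ i * d ^ j * (b * c ^ m * d ^ k) =
      b ^ (n + 1) * c ^ (i + m) * d ^ (j + k) := by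
  have h1 : c ^ i * d ^ j * b = b * (c ^ i * d ^ j) :=
    ((bc.pow_right i).mul_right (bd.pow_right j)).eq.symm
  have h2 : d ^ j * c ^ m = c ^ m * d ^ j := ((cd.pow_pow m j)).eq.symm
  calc b ^ n * c ^ i * d ^ j * (b * c ^ m * d ^ k)
      = b ^ n * (c ^ i * d ^ j * b) * c ^ m * d ^ k := by group
    _ = b ^ n * b * c ^ i * (d ^ j * c ^ m) * d ^ k := by rw [h1]; group
    _ = b ^ (n + 1) * (c ^ i * c ^ m) * (d ^ j * d ^ k) := by rw [h2, pow_succ]; group
    _ = b ^ (n + 1) * c ^ (i + m) * d ^ (j + k) := by rw [← pow_add, ← pow_add]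

theorem conj_pow3 {x b c d : G} (hb : x * b * x⁻¹ = b * c) (hc : x * c * x⁻¹ = c * d)
    (hd : x * d * x⁻¹ = d) (bc : Commute b c) (bd : Commute b d) (cd : Commute c d) (n : ℕ) :
    x ^ n * b * (x ^ n)⁻¹ = b * c ^ n * d ^ (n.choose 2) := by
  induction n with
  | zero => simp
  | succ n ih =>
    have h1 : x ^ (n + 1) * b * (x ^ (n + 1))⁻¹ = x * (x ^ n * b * (x ^ n)⁻¹) * x⁻¹ := by
      rw [pow_succ']; group
    have h2 : ∀ (y : G) (k : ℕ), x * y ^ k * x⁻¹ = (x * y * x⁻¹) ^ k := fun y k => (conj_pow).symm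
    rw [h1, ih]
    calc x * (b * c ^ n * d ^ n.choose 2) * x⁻¹
        = (x * b * x⁻¹) * (x * c ^ n * x⁻¹) * (x * d ^ n.choose 2 * x⁻¹) := by group
      _ = (b * c) * (c * d) ^ n * d ^ n.choose 2 := by rw [h2, h2, hb, hc, hd]
      _ = b * c ^ (n + 1) * d ^ (n + n.choose 2) := by
        rw [cd.mul_pow, pow_add, pow_succ']; group
      _ = b * c ^ (n + 1) * d ^ ((n + 1).choose 2) := by
        rw [Nat.choose_succ_succ' n 1, Nat.choose_one_right]

theorem mul_pow3 {x b c d : G} (hb : x * b * x⁻¹ = b * c) (hc : x * c * x⁻¹ = c * d)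
    (hd : x * d * x⁻¹ = d) (bc : Commute b c) (bd : Commute b d) (cd : Commute c d) (n : ℕ) :
    (b * x) ^ n = b ^ n * c ^ (n.choose 2) * d ^ (n.choose 3) * x ^ n := by
  induction n with
  | zero => simp
  | succ n ih =>
    have h1 := conj_pow3 hb hc hd bc bd cd n
    calc (b * x) ^ (n + 1) = (b * x) ^ n * (b * x) := pow_succ _ _
      _ = b ^ n * c ^ (n.choose 2) * d ^ (n.choose 3) * (x ^ n * b * (x ^ n)⁻¹) * (x ^ n * x) := by
        rw [ih]; group
      _ = b ^ (n + 1) * c ^ (n.choose 2 + n) * d ^ (n.choose 3 + n.choose 2) * x ^ (n + 1) := by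
        rw [h1, comb3 bc bd cd, pow_succ x n]
      _ = _ := by
        have e1 : (n + 1).choose 2 = n.choose 2 + n := by
          rw [Nat.choose_succ_succ' n 1, Nat.choose_one_right, add_comm]
        have e2 : (n + 1).choose 3 = n.choose 3 + n.choose 2 := by
          rw [Nat.choose_succ_succ' n 2, add_comm]
        rw [e1, e2]

theorem mul_pow3' {p : ℕ} (hp : p.Prime) (h3 : 3 < p) {x b c d : G} (hb : x * b * x⁻¹ = b * c)
    (hc : x * c * x⁻¹ = c * d) (hd : x * d * x⁻¹ = d) (bc : Commute b c) (bd : Commute b d)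
    (cd : Commute c d) (hcp : c ^ p = 1) (hdp : d ^ p = 1) : (b * x) ^ p = b ^ p * x ^ p := by
  rw [mul_pow3 hb hc hd bc bd cd]
  obtain ⟨k, hk⟩ := hp.dvd_choose_self (k := 2) (by norm_num) (by omega)
  obtain ⟨l, hl⟩ := hp.dvd_choose_self (k := 3) (by norm_num) h3
  rw [hk, hl, pow_mul, pow_mul, hcp, hdp, one_pow, one_pow, mul_one, mul_one]

/-- the version for odd primes with `d = 1` -/
theorem mul_pow2' {p : ℕ} (hp : p.Prime) (h2 : p ≠ 2) {x b c : G} (hb : x * b * x⁻¹ = b * c)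
    (hc : x * c * x⁻¹ = c) (bc : Commute b c) (hcp : c ^ p = 1) :
    (b * x) ^ p = b ^ p * x ^ p := by
  rw [mul_pow3 hb (d := 1) (by rw [hc, mul_one]) (by group) bc (Commute.one_right _)
    (Commute.one_right _)]
  have : 2 < p := lt_of_le_of_ne hp.two_le (Ne.symm h2)
  obtain ⟨k, hk⟩ := hp.dvd_choose_self (k := 2) (by norm_num) this
  rw [hk, pow_mul, hcp, one_pow, one_pow, mul_one, mul_one]

end formula

variable {G : Type u} [Group G] [Finite G]

theorem pgroup_comm_lt {p : ℕ} (hp : p.Prime) {R D : Subgroup G} (hR : IsPGroup p R) (hDR : D ≤ R)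
    (hRD : R ≤ 𝓝(D)) (h : D ≠ ⊥) : ⁅D, R⁆ < D := by
  refine lt_of_le_of_ne (comm_le_left hRD) fun he => h ?_
  obtain ⟨n, hn⟩ := cser_bot (nilpotent_of_isPi hp (isPi_of_isPGroup hp hR)) hDR
  have key : ∀ k, cser R D k = D := by
    intro k
    induction k with
    | zero => rfl
    | succ k ih => show ⁅cser R D k, R⁆ = D; rw [ih, he]
  rw [← key n, hn]

theorem card_le_of_lt {p : ℕ} (hp : p.Prime) {D D' : Subgroup G} {k : ℕ} (hD : IsPGroup p D)
    (h : D' < D) (hc : Nat.card D ≤ p ^ (k + 1)) : Nat.card D' ≤ p ^ k := by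
  have h1 := pgroup_mul_card_le hp hD h
  rw [pow_succ'] at hc
  exact Nat.le_of_mul_le_mul_left (h1.trans hc) hp.pos

/-- `[E, R, R] = 1` for `|E| = p²` -/
theorem comm2_p2 {p : ℕ} (hp : p.Prime) {R E : Subgroup G} (hR : IsPGroup p R) (hER : E ≤ R)
    (hRE : R ≤ 𝓝(E)) (hE : Nat.card E ≤ p ^ 2) : ⁅⁅E, R⁆, R⁆ = ⊥ := by
  by_contra hne
  have hE0 : E ≠ ⊥ := by
    rintro rfl
    apply hne
    rw [commutator_bot_left, commutator_bot_left]
  have h1 := pgroup_comm_lt hp hR hER hRE hE0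
  have h2 := card_le_of_lt hp (k := 1) (hR.to_le hER) h1 hE
  have h3 : ⁅E, R⁆ ≠ ⊥ := by
    intro h
    apply hne
    rw [h, commutator_bot_left]
  have h4 := pgroup_comm_lt hp hR (h1.le.trans hER) (right_le_nz_comm E R) h3
  have h5 := card_le_of_lt hp (k := 0) (hR.to_le (h1.le.trans hER)) h4 h2
  rw [pow_zero] at h5
  exact hne (card_eq_one.1 (le_antisymm h5 Nat.card_pos))

/-- an element outside a normal subgroup of prime index generates the quotient -/
theorem exists_mul_pow {p : ℕ} (hp : p.Prime) {R T : Subgroup G} (hn : R ≤ 𝓝(T)) (hTR : T ≤ R)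
    (hR : IsPGroup p R) (hi : Nat.card R ≤ p * Nat.card T) {x y : G} (hx : x ∈ R) (hxT : x ∉ T)
    (hy : y ∈ R) : ∃ i : ℕ, ∃ t ∈ T, y = t * x ^ i := by
  have h1 : T.relIndex R ≤ p := by
    have h2 := card_mul_relIndex hTR
    rw [← h2, mul_comm] at hi
    exact Nat.le_of_mul_le_mul_right hi Nat.card_pos
  have h2 : Nat.card (qm T R) = p := by
    rw [qm_card hn]
    refine le_antisymm h1 ?_
    have h3 : IsPGroup p (qm T R) := qm_isPGroup hR
    have h4 : qm T R ≠ ⊥ := by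
      intro h
      rw [qm_eq_bot hn] at h
      exact hxT (h hx)
    rw [← qm_card hn]
    exact Nat.le_of_dvd Nat.card_pos (pgroup_dvd_card hp h3 h4)
  have h3 : zpowers (qe T (hn hx)) = qm T R :=
    zpowers_of_prime (by rw [h2]; exact hp) (qe_mem _ hx) (by
      rw [Ne, qe_eq_one]; exact hxT)
  have h4 : qe T (hn hy) ∈ zpowers (qe T (hn hx)) := by rw [h3]; exact qe_mem _ hy
  rw [← mem_powers_iff_mem_zpowers] at h4
  obtain ⟨i, hi'⟩ := h4
  refine ⟨i, y * (x ^ i)⁻¹, ?_, by group⟩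
  have hxi : x ^ i ∈ 𝓝(T) := pow_mem (hn hx) i
  rw [← qe_eq_one (mul_mem (hn hy) (inv_mem hxi)), qe_mul (hn hy) (inv_mem hxi), qe_inv hxi,
    qe_pow (hn hx)]
  have h5 : (qe T (hn hx)) ^ i = qe T (hn hy) := hi'
  rw [h5, mul_inv_cancel]

/-- the centralizer of a normal subgroup of order `p²` -/
theorem cz_p2 {p : ℕ} (hp : p.Prime) {R E : Subgroup G} (hR : IsPGroup p R) (hER : E ≤ R)
    (hRE : R ≤ 𝓝(E)) (hE : IsElementaryAbelian p E) (hEc : Nat.card E = p ^ 2) :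
    Nat.card R ≤ p * Nat.card ↥(R ⊓ 𝓒(E)) := by
  obtain ⟨z, hz, hz1, hzR, h⟩ := normal_p2 hp hR hER hRE hEc
  have hzp := hE.2 z hz
  obtain ⟨b, hb, hbz⟩ : ∃ b ∈ E, b ∉ zpowers z := by
    by_contra hcon
    push Not at hcon
    have h1 : Nat.card E ≤ Nat.card (zpowers z) :=
      Nat.le_of_dvd Nat.card_pos (card_dvd_of_le hcon)
    rw [hEc, Nat.card_zpowers] at h1
    have h2 := orderOf_le_of_pow_eq_one hp.pos hzp
    have h3 : p < p ^ 2 := by
      rw [pow_two]; exact lt_mul_of_one_lt_left hp.pos hp.one_lt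
    omega
  have hEb : zpowers z ⊔ zpowers b = E := by
    refine eq_of_card_le (sup_le (by rwa [zpowers_le]) (by rwa [zpowers_le])) ?_
    rw [card_sup_zpowers hp (hE.2 b hb) hbz, hEc, Nat.card_zpowers,
      orderOf_eq_prime hzp hz1 (hp := ⟨hp⟩), pow_two]
    rw [zpowers_le, mem_centralizer_singleton_iff]
    exact mem_cz.1 (comm_iff_le_cz.1 hE.1 hb) z hz
  refine (h b hb).trans (Nat.mul_le_mul_left _ (Nat.le_of_dvd Nat.card_pos (card_dvd_of_le ?_)))
  refine le_inf inf_le_left fun r hr => ?_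
  have hr1 := (mem_inf.1 hr).1
  have hr2 := mem_centralizer_singleton_iff.1 (mem_inf.1 hr).2
  have h1 : E ≤ centralizer ({r} : Set G) := by
    rw [← hEb]
    refine sup_le ?_ ?_
    · rw [zpowers_le, mem_centralizer_singleton_iff]
      exact (mem_cz.1 hzR r hr1).symm
    · rw [zpowers_le, mem_centralizer_singleton_iff]
      exact hr2.symm
  rw [mem_cz]
  intro e he
  exact mem_centralizer_singleton_iff.1 (h1 he)

/-- B & G 4.8 (b): the elements of order `p` form a subgroup -/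
theorem om_struct {p : ℕ} (hp : p.Prime) (h3 : 3 < p) {R : Subgroup G} (hR : IsPGroup p R)
    (hr : PRankLE p 2 R) : ∃ W ≤ R, (∀ x ∈ R, x ^ p = 1 ↔ x ∈ W) ∧ Nat.card W ≤ p ^ 3 := by
  have hp2 : p ≠ 2 := by omega
  have hple : p ^ 2 ≤ p ^ 3 := Nat.pow_le_pow_right hp.pos (by norm_num)
  by_cases hcyc : IsCyclic R
  · have hab : IsMulCommutative R := ⟨⟨fun a b => IsCyclic.commGroup.mul_comm a b⟩⟩
    obtain ⟨W, -, hWR, hW, hmax⟩ := exists_max_elab (M := R) bot_le (elab_bot p)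
    refine ⟨W, hWR, fun x hx => ⟨fun hxp => ?_, fun hxW => hW.2 x hxW⟩,
      (rank_iff.1 hr W hWR hW).trans hple⟩
    exact mem_of_max_elab hWR hW hmax hx hxp fun a ha =>
      (mem_cz.1 (comm_iff_le_cz.1 hab hx) a (hWR ha))
  obtain ⟨E, hER, hRE, hE, hEc⟩ := exists_normal_p2 hp hp2 hR hcyc
  set T := R ⊓ 𝓒(E) with hT
  have hRT : R ≤ 𝓝(T) := le_nz_inf le_normalizer (le_nz_cz hRE)
  have hET : E ≤ T := le_inf hER (comm_iff_le_cz.1 hE.1)
  have hTi := cz_p2 hp hR hER hRE hE hEc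
  -- elements of order `p` in `T` lie in `E`
  have hTE : ∀ x ∈ T, x ^ p = 1 → x ∈ E := by
    intro x hx hxp
    by_contra hxE
    have hxc : E ≤ centralizer ({x} : Set G) := by
      intro e he
      rw [mem_centralizer_singleton_iff]
      exact mem_cz.1 (mem_inf.1 hx).2 e he
    have h1 : IsElementaryAbelian p (E ⊔ zpowers x) :=
      elab_sup_zpowers hE hxp fun a ha => mem_centralizer_singleton_iff.1 (hxc ha)
    have h2 := rank_iff.1 hr _ (sup_le hER (by rw [zpowers_le]; exact (mem_inf.1 hx).1)) h1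
    rw [card_sup_zpowers hp hxp hxE hxc, hEc] at h2
    have h4 : p ^ 2 < p ^ 2 * p := lt_mul_of_one_lt_right (pow_pos hp.pos 2) hp.one_lt
    omega
  by_cases hall : ∀ x ∈ R, x ^ p = 1 → x ∈ T
  · refine ⟨E, hER, fun x hx => ⟨fun h => hTE x (hall x hx h) h, fun h => hE.2 x h⟩, ?_⟩
    rw [hEc]; exact hple
  push Not at hall
  obtain ⟨x, hx, hxp, hxT⟩ := hall
  have hEE := comm2_p2 hp hR hER hRE hEc.le
  have hEab : ∀ a ∈ E, ∀ b ∈ E, Commute a b := fun a ha b hb =>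
    (mem_cz.1 (comm_iff_le_cz.1 hE.1 hb) a ha)
  -- commutators
  have hcomm : ∀ y ∈ R, ∀ e ∈ E, ∃ c ∈ E, y * e * y⁻¹ = e * c ∧ y * c * y⁻¹ = c := by
    intro y hy e he
    have h1 : y * e * y⁻¹ ∈ E := le_nz.1 hRE y hy e he
    refine ⟨e⁻¹ * (y * e * y⁻¹), mul_mem (inv_mem he) h1, by group, ?_⟩
    have h2 : e⁻¹ * (y * e * y⁻¹) ∈ ⁅E, R⁆ := by
      have h3 := commutator_mem_commutator (inv_mem he) hy
      rw [commutatorElement_def, inv_inv] at h3
      have h4 : e⁻¹ * (y * e * y⁻¹) = e⁻¹ * y * e * y⁻¹ := by group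
      rw [h4]; exact h3
    have h5 := commutator_mem_commutator h2 hy
    rw [hEE, mem_bot, commutatorElement_eq_one_iff_mul_comm] at h5
    rw [← h5]; group
  set X := E ⊔ zpowers x with hX
  have hxE : x ∉ E := fun h => hxT (hET h)
  have hXR : X ≤ R := sup_le hER (by rwa [zpowers_le])
  -- a product formula
  have hmul : ∀ y ∈ R, ∀ e ∈ E, (e * y) ^ p = e ^ p * y ^ p := by
    intro y hy e he
    obtain ⟨c, hc, h1, h2⟩ := hcomm y hy e he
    exact mul_pow2' hp hp2 h1 h2 (hEab e he c hc) (hE.2 c hc)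
  have hxN : zpowers x ≤ 𝓝(E) := by rw [zpowers_le]; exact hRE hx
  have hXp : ∀ y ∈ X, y ^ p = 1 := by
    intro y hy
    obtain ⟨e, he, w, hw, rfl⟩ := (mem_sup_of_nz' hxN).1 hy
    obtain ⟨i, rfl⟩ := mem_zpowers_iff.1 hw
    rw [hmul _ (zpow_mem hx i) e he, hE.2 e he, one_mul, ← zpow_natCast, ← zpow_mul, mul_comm,
      zpow_mul, zpow_natCast, hxp, one_zpow]
  -- claim 1
  have claim1 : ∀ y ∈ R, y ^ p = 1 → y ∈ 𝓝(X) → y ∈ X := by
    intro y hy hyp hyN
    by_cases hyT : y ∈ T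
    · exact mem_sup_left (hTE y hyT hyp)
    obtain ⟨i, t, ht, hyt⟩ := exists_mul_pow hp hRT inf_le_left hR hTi hx hxT hy
    set x' := x ^ i with hx'
    have hx'R : x' ∈ R := pow_mem hx i
    have hx'X : x' ∈ X := pow_mem (mem_sup_right (mem_zpowers x)) i
    have hx'p : x' ^ p = 1 := hXp x' hx'X
    have htR : t ∈ R := (mem_inf.1 ht).1
    have htN : t ∈ 𝓝(X) := by
      have : t = y * x'⁻¹ := by rw [hyt]; group
      rw [this]
      exact mul_mem hyN (inv_mem (le_normalizer hx'X))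
    -- the commutator of `x'` and `t`
    have hc : t⁻¹ * (x' * t * x'⁻¹) ∈ E := by
      have h1 : t⁻¹ * (x' * t * x'⁻¹) ∈ T :=
        mul_mem (inv_mem ht) (le_nz.1 hRT x' hx'R t ht)
      have h2 : t⁻¹ * (x' * t * x'⁻¹) ∈ X := by
        have h3 : t⁻¹ * (x' * t * x'⁻¹) = (t⁻¹ * x' * t) * x'⁻¹ := by group
        rw [h3]
        refine mul_mem ?_ (inv_mem hx'X)
        have h4 := (mem_normalizer_iff.1 (inv_mem htN) x').1 hx'X
        rwa [inv_inv] at h4
      exact hTE _ h1 (hXp _ h2)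
    have htE : ∀ e ∈ E, Commute t e := fun e he => (mem_cz.1 (mem_inf.1 ht).2 e he).symm
    obtain ⟨d, hd, h5, h6⟩ := hcomm x' hx'R _ hc
    have h7 := mul_pow3' hp h3 (x := x') (b := t) (c := t⁻¹ * (x' * t * x'⁻¹)) (d := d)
      (by group) h5 h6 (htE _ hc) (htE d hd) (hEab _ hc d hd) (hE.2 _ hc) (hE.2 d hd)
    rw [← hyt, hyp, hx'p, mul_one] at h7
    rw [hyt]
    exact mul_mem (mem_sup_left (hTE t ht h7.symm)) hx'X
  -- claim 2
  have claim2 : ∀ y ∈ R, y ^ p = 1 → y ∈ X := by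
    by_cases hRX : R ≤ 𝓝(X)
    · exact fun y hy hyp => claim1 y hy hyp (hRX hy)
    exfalso
    set N := R ⊓ 𝓝(X) with hN
    have hNR : N < R := lt_of_le_of_ne inf_le_left fun h => hRX (h ▸ inf_le_right)
    have h1 := nilpotent_nz_lt (nilpotent_of_isPi hp (isPi_of_isPGroup hp hR)) hNR
    obtain ⟨g, hg, hgN⟩ := SetLike.exists_of_lt h1
    have hgR := (mem_inf.1 hg).1
    have hgNN := (mem_inf.1 hg).2
    apply hgN
    refine mem_inf.2 ⟨hgR, ?_⟩
    have hXN : X ≤ N := le_inf hXR le_normalizer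
    have h2 : g * x * g⁻¹ ∈ N := (mem_normalizer_iff.1 hgNN x).1 (hXN (mem_sup_right (mem_zpowers x)))
    have h4 : g * x * g⁻¹ ∈ X := claim1 _ (mem_inf.1 h2).1 (by rw [conj_pow, hxp]; group)
      (mem_inf.1 h2).2
    have h5 : X ^ᵍ g ≤ X := by
      rw [hX, cj_sup]
      refine sup_le ?_ ?_
      · rw [mem_nz.1 (hRE hgR)]; exact le_sup_left
      · rw [MonoidHom.map_zpowers, zpowers_le]
        exact h4
    rw [mem_nz]
    exact eq_of_card_le h5 (by rw [card_cj])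
  refine ⟨X, hXR, fun y hy => ⟨claim2 y hy, hXp y⟩, ?_⟩
  have h8 : Nat.card X ≤ Nat.card E * Nat.card (zpowers x) := by
    have := card_sup_mul_card_inf (H := zpowers x) (K := E) hxN
    rw [sup_comm] at this
    calc Nat.card X ≤ Nat.card X * Nat.card ↥(zpowers x ⊓ E) := Nat.le_mul_of_pos_right _ Nat.card_pos
      _ = _ := by rw [this, mul_comm]
  rw [hEc, Nat.card_zpowers] at h8
  refine h8.trans ?_
  rw [pow_succ p 2]
  exact Nat.mul_le_mul_left _ (orderOf_le_of_pow_eq_one hp.pos hxp)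

end CfsgLib.BGPi
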