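import Cfsg.Agent.EqBase
import Cfsg.Agent.LibBGOm
import Cfsg.Agent.LibBGMsk

/-! `p`-groups in which subgroups of exponent `p` have order at most `p²`. -/

open Subgroup
open scoped Pointwise commutatorElement

namespace CfsgLib.BGPi

open Cfsg CfsgLib.BGRep

universe u

/-- subgroups of exponent `p` have order at most `p²` -/
def PE {G : Type u} [Group G] (p : ℕ) (R : Subgroup G) : Prop :=
  ∀ D ≤ R, (∀ x ∈ D, x ^ p = 1) → Nat.card D ≤ p ^ 2

/-- sections of exponent `p` with normal bottom have order at most `p²` -/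
def PQ {G : Type u} [Group G] (p : ℕ) (R : Subgroup G) : Prop :=
  ∀ N D : Subgroup G, N ≤ D → D ≤ R → R ≤ 𝓝(N) → (∀ x ∈ D, x ^ p ∈ N) → N.relIndex D ≤ p ^ 2

section
variable {G : Type u} [Group G] [Finite G]

theorem PE.mono {p : ℕ} {R S : Subgroup G} (h : PE p R) (hS : S ≤ R) : PE p S :=
  fun D hD => h D (hD.trans hS)

theorem PE.rank {p : ℕ} {R : Subgroup G} (h : PE p R) : PRankLE p 2 R := by
  rw [rank_iff]
  exact fun A hA he => h A hA he.2

theorem comm_of_card_p2 {p : ℕ} (hp : p.Prime) {V : Subgroup G} (hV : IsPGroup p V)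
    (hc : Nat.card V ≤ p ^ 2) : IsMulCommutative V := by
  have h1 : ⁅⁅V, V⁆, V⁆ = ⊥ := comm2_p2 hp hV le_rfl le_normalizer hc
  haveI : Fact p.Prime := ⟨hp⟩
  obtain ⟨n, hn⟩ := IsPGroup.iff_card.1 hV
  rcases Nat.lt_or_ge n 2 with h | h
  · have h2 : Nat.card V ≤ p := by
      rw [hn]
      calc p ^ n ≤ p ^ 1 := Nat.pow_le_pow_right hp.pos (by omega)
        _ = p := pow_one p
    have := isCyclic_of_card_le hp h2 hV
    exact ⟨⟨fun a b => IsCyclic.commGroup.mul_comm a b⟩⟩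
  · have h2 : Nat.card V = p ^ 2 := le_antisymm hc (by
      rw [hn]; exact Nat.pow_le_pow_right hp.pos h)
    exact ⟨⟨fun a b => (IsPGroup.commGroupOfCardEqPrimeSq h2).mul_comm a b⟩⟩

theorem zpowers_card_le {b : G} {p : ℕ} :
    Nat.card (zpowers b) ≤ p * Nat.card (zpowers (b ^ p)) ∨ p = 0 := by
  rcases Nat.eq_zero_or_pos p with h | h
  · exact Or.inr h
  left
  rw [Nat.card_zpowers, Nat.card_zpowers]
  refine Nat.le_of_dvd (Nat.mul_pos h (orderOf_pos _)) (orderOf_dvd_of_pow_eq_one ?_)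
  rw [pow_mul, pow_orderOf_eq_one]

theorem exp_section {p : ℕ} (hp : p.Prime) (h3 : 3 < p) {D N : Subgroup G} (hD : IsPGroup p D)
    (hPE : PE p D) (hN : N ≤ D) (hNc : Nat.card N = p) (h : ∀ x ∈ D, x ^ p ∈ N) :
    Nat.card D ≤ p ^ 3 := by
  haveI : Fact p.Prime := ⟨hp⟩
  have hp2 : p ≠ 2 := by omega
  have hr := hPE.rank
  obtain ⟨V, hVD, hV, -⟩ := om_struct hp h3 hD hr
  have hVp : ∀ x ∈ V, x ^ p = 1 := fun x hx => (hV x (hVD hx)).2 hx
  have hVc : Nat.card V ≤ p ^ 2 := hPE V hVD hVp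
  have hNp : ∀ x ∈ N, x ^ p = 1 := fun x hx => by
    rw [← hNc]
    exact congrArg Subtype.val (pow_card_eq_one' (x := (⟨x, hx⟩ : N)))
  have hNV : N ≤ V := fun x hx => (hV x (hN hx)).1 (hNp x hx)
  have hDV : D ≤ 𝓝(V) := by
    rw [le_nz]
    intro g hg x hx
    rw [← hV _ (mul_mem (mul_mem hg (hVD hx)) (inv_mem hg)), conj_pow, hVp x hx]
    group
  have hVab := comm_of_card_p2 hp (hD.to_le hVD) hVc
  have hVe : IsElementaryAbelian p V := ⟨hVab, hVp⟩
  have hVcm : ∀ a ∈ V, ∀ b ∈ V, Commute a b := fun a ha b hb =>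
    (mem_cz.1 (comm_iff_le_cz.1 hVab hb) a ha)
  by_cases hsmall : Nat.card V ≤ p
  · have hcyc : IsCyclic D := by
      by_contra hnc
      obtain ⟨E, hE, hEe, hEc⟩ := exists_elab2 hp hp2 hD hnc
      have h1 : E ≤ V := fun x hx => (hV x (hE hx)).1 (hEe.2 x hx)
      have h2 := Nat.le_of_dvd Nat.card_pos (card_dvd_of_le h1)
      rw [hEc] at h2
      have h4 : p < p ^ 2 := by
        rw [pow_two]; exact lt_mul_of_one_lt_left hp.pos hp.one_lt
      omega
    obtain ⟨g, hg⟩ := hcyc.exists_generator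
    have h1 : Nat.card D ≤ p ^ 2 := by
      rw [← orderOf_eq_card_of_forall_mem_zpowers hg, ← orderOf_coe]
      refine orderOf_le_of_pow_eq_one (pow_pos hp.pos 2) ?_
      rw [pow_two, pow_mul]
      exact hNp _ (h g g.2)
    exact h1.trans (Nat.pow_le_pow_right hp.pos (by norm_num))
  have hVc2 : Nat.card V = p ^ 2 := by
    obtain ⟨n, hn⟩ := elab_card hp hVe
    rw [hn] at hsmall hVc ⊢
    have h1 : n ≤ 2 := (Nat.pow_le_pow_iff_right hp.one_lt).1 hVc
    have h2 : 1 < n := by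
      by_contra h2
      apply hsmall
      calc p ^ n ≤ p ^ 1 := Nat.pow_le_pow_right hp.pos (by omega)
        _ = p := pow_one p
    rw [le_antisymm h1 h2]
  set T := D ⊓ 𝓒(V) with hT
  have hTi := cz_p2 hp hD hVD hDV hVe hVc2
  by_cases hTV : T ≤ V
  · refine hTi.trans ?_
    rw [pow_succ', ← hVc2]
    exact Nat.mul_le_mul_left _ (Nat.le_of_dvd Nat.card_pos (card_dvd_of_le hTV))
  obtain ⟨D', hD'T, hDD', hD'V, hD'D⟩ := exists_central_section hp hD (inf_le_left : T ≤ D)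
    (le_nz_inf le_normalizer (le_nz_cz hDV)) hTV
  obtain ⟨b₁, hb₁, hb₁V⟩ := SetLike.not_le_iff_exists.1 hD'V
  have hb₁D : b₁ ∈ D := (mem_inf.1 (hD'T hb₁)).1
  have hb₁C : ∀ v ∈ V, Commute b₁ v := fun v hv => (mem_cz.1 (mem_inf.1 (hD'T hb₁)).2 v hv).symm
  have hb₁p : b₁ ^ p ≠ 1 := fun h' => hb₁V ((hV b₁ hb₁D).1 h')
  have hNz : zpowers (b₁ ^ p) = N := zpowers_of_prime (by rw [hNc]; exact hp) (h b₁ hb₁D) hb₁p
  have hVD2 := comm2_p2 hp hD hVD hDV hVc
  have hDB : D ≤ V ⊔ zpowers b₁ := by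
    intro x hx
    have h1 : (x ^ p)⁻¹ ∈ zpowers (b₁ ^ p) := by rw [hNz]; exact inv_mem (h x hx)
    rw [← mem_powers_iff_mem_zpowers] at h1
    obtain ⟨m, hm⟩ := h1
    have hm' : (b₁ ^ p) ^ m = (x ^ p)⁻¹ := hm
    set c₁ := b₁⁻¹ * (x * b₁ * x⁻¹) with hc₁
    have hc₁V : c₁ ∈ V := by
      have h2 := commutator_mem_commutator (inv_mem hb₁) hx
      rw [commutatorElement_def, inv_inv] at h2
      have h4 : c₁ = b₁⁻¹ * x * b₁ * x⁻¹ := by rw [hc₁]; group
      rw [h4]; exact hD'D h2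
    have hcV : c₁ ^ m ∈ V := pow_mem hc₁V m
    have h5 : x * b₁ ^ m * x⁻¹ = b₁ ^ m * c₁ ^ m := by
      have h6 : x * b₁ * x⁻¹ = b₁ * c₁ := by rw [hc₁]; group
      calc x * b₁ ^ m * x⁻¹ = (x * b₁ * x⁻¹) ^ m := (conj_pow).symm
        _ = (b₁ * c₁) ^ m := by rw [h6]
        _ = b₁ ^ m * c₁ ^ m := (hb₁C c₁ hc₁V).mul_pow m
    set d := (c₁ ^ m)⁻¹ * (x * c₁ ^ m * x⁻¹) with hd
    have hdVD : d ∈ ⁅V, D⁆ := by
      have h2 := commutator_mem_commutator (inv_mem hcV) hx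
      rw [commutatorElement_def, inv_inv] at h2
      have h4 : d = (c₁ ^ m)⁻¹ * x * c₁ ^ m * x⁻¹ := by rw [hd]; group
      rw [h4]; exact h2
    have hdV : d ∈ V := comm_le_left hDV hdVD
    have hxd : x * d * x⁻¹ = d := by
      have h2 := commutator_mem_commutator hdVD hx
      rw [hVD2, mem_bot, commutatorElement_eq_one_iff_mul_comm] at h2
      rw [← h2]; group
    have h7 := mul_pow3' hp h3 (x := x) (b := b₁ ^ m) (c := c₁ ^ m) (d := d) h5
      (by rw [hd]; group) hxd ((hb₁C _ hcV).pow_left m) ((hb₁C d hdV).pow_left m)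
      (hVcm _ hcV d hdV) (hVp _ hcV) (hVp d hdV)
    have h8 : (b₁ ^ m) ^ p = (x ^ p)⁻¹ := by rw [← hm', ← pow_mul, ← pow_mul, mul_comm]
    rw [h8, inv_mul_cancel] at h7
    have h9 : b₁ ^ m * x ∈ V := (hV _ (mul_mem (pow_mem hb₁D m) hx)).1 h7
    have h10 : x = (b₁ ^ m)⁻¹ * (b₁ ^ m * x) := by group
    rw [h10]
    exact mul_mem (mem_sup_right (inv_mem (pow_mem (mem_zpowers b₁) m))) (mem_sup_left h9)
  have hb₁N : zpowers b₁ ≤ 𝓝(V) := by rw [zpowers_le]; exact hDV hb₁D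
  have h11 := card_sup_mul_card_inf (H := zpowers b₁) (K := V) hb₁N
  have h12 : Nat.card (zpowers b₁) ≤ p * Nat.card ↥(zpowers b₁ ⊓ V) := by
    refine (zpowers_card_le (b := b₁) (p := p)).resolve_right hp.ne_zero |>.trans ?_
    refine Nat.mul_le_mul_left _ (Nat.le_of_dvd Nat.card_pos (card_dvd_of_le ?_))
    rw [zpowers_le]
    exact mem_inf.2 ⟨pow_mem (mem_zpowers b₁) p, hNV (h b₁ hb₁D)⟩
  have h13 : Nat.card ↥(V ⊔ zpowers b₁) ≤ p ^ 3 := by
    have h14 : Nat.card ↥(zpowers b₁ ⊔ V) * Nat.card ↥(zpowers b₁ ⊓ V) ≤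
        p ^ 3 * Nat.card ↥(zpowers b₁ ⊓ V) := by
      rw [h11, hVc2]
      calc Nat.card (zpowers b₁) * p ^ 2 ≤ (p * Nat.card ↥(zpowers b₁ ⊓ V)) * p ^ 2 :=
            Nat.mul_le_mul_right _ h12
        _ = p ^ 3 * Nat.card ↥(zpowers b₁ ⊓ V) := by ring
    rw [sup_comm]
    exact Nat.le_of_mul_le_mul_right h14 Nat.card_pos
  exact (Nat.le_of_dvd Nat.card_pos (card_dvd_of_le hDB)).trans h13

end

theorem pq_of_pe {p : ℕ} (hp : p.Prime) (h3 : 3 < p) : ∀ (n : ℕ) (G : Type u) [Group G] [Finite G]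
    (R : Subgroup G), Nat.card R = n → IsPGroup p R → PE p R → PQ p R := by
  intro n
  induction n using Nat.strong_induction_on with
  | _ n ih =>
  intro G _ _ R hn hR hPE N D hND hDR hRN hx
  haveI : Fact p.Prime := ⟨hp⟩
  by_cases hN : N = ⊥
  · subst hN
    rw [relIndex_bot_left]
    exact hPE D hDR fun x hxD => by
      have := hx x hxD
      rwa [mem_bot] at this
  have hNR := hND.trans hDR
  have hn' : Group.IsNilpotent R := nilpotent_of_isPi hp (isPi_of_isPGroup hp hR)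
  have h1 := nilpotent_inf_center hn' hNR hRN hN
  have h2 := pgroup_dvd_card hp (hR.to_le (inf_le_left.trans hNR)) h1
  obtain ⟨z, hz⟩ := exists_prime_orderOf_dvd_card' p h2
  have hzo : orderOf (z : G) = p := by rw [orderOf_coe, hz]
  have hzN : (z : G) ∈ N := (mem_inf.1 z.2).1
  have hzC : (z : G) ∈ 𝓒(R) := (mem_inf.1 z.2).2
  set N₀ := zpowers (z : G) with hN₀
  have hN₀c : Nat.card N₀ = p := by rw [Nat.card_zpowers, hzo]
  have hN₀N : N₀ ≤ N := by rwa [zpowers_le]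
  have hRN₀ : R ≤ 𝓝(N₀) := by
    refine le_nz_of_le_cz ?_
    rw [le_cz_comm, zpowers_le]
    exact hzC
  have hcard : ∀ A : Subgroup G, N₀ ≤ A → A ≤ R → Nat.card A = p * Nat.card (qm N₀ A) := by
    intro A h1 h2
    rw [qm_card (h2.trans hRN₀), ← card_mul_relIndex h1, hN₀c]
  have hlt : Nat.card (qm N₀ R) < n := by
    rw [← hn, hcard R (hN₀N.trans hNR) le_rfl]
    exact lt_mul_of_one_lt_left Nat.card_pos hp.one_lt
  have hRp : IsPGroup p (qm N₀ R) := qm_isPGroup hR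
  have hPE' : PE p (qm N₀ R) := by
    intro D' hD' hDx
    have h4 : pull N₀ D' ≤ R := by
      rw [← pull_qm (hN₀N.trans hNR) hRN₀]
      exact pull_mono hD'
    have h5 := exp_section hp h3 (hR.to_le h4) (hPE.mono h4) le_pull hN₀c (by
      intro x hx
      obtain ⟨hx1, hx2⟩ := mem_pull.1 hx
      have h6 := hDx _ hx2
      rw [← qe_pow hx1, qe_eq_one] at h6
      exact h6)
    rw [hcard _ le_pull h4, qm_pull, pow_succ' p 2] at h5
    exact Nat.le_of_mul_le_mul_left h5 hp.pos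
  have h6 := ih _ hlt (QN N₀) (qm N₀ R) rfl hRp hPE' (qm N₀ N) (qm N₀ D) (qm_mono hND)
    (qm_mono hDR) (qm_nz hRN) (by
      intro y hy
      obtain ⟨x, hx1, hxD, rfl⟩ := mem_qm.1 hy
      rw [← qe_pow hx1]
      exact qe_mem _ (hx x hxD))
  have h7 := card_mul_relIndex hND
  have h8 := card_mul_relIndex (qm_mono (N := N₀) hND)
  rw [hcard N hN₀N hNR, hcard D (hN₀N.trans hND) hDR, ← h8] at h7
  have h9 : N.relIndex D = (qm N₀ N).relIndex (qm N₀ D) := by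
    have h10 : p * Nat.card (qm N₀ N) * N.relIndex D =
        p * Nat.card (qm N₀ N) * (qm N₀ N).relIndex (qm N₀ D) := by
      rw [h7]; ring
    exact Nat.eq_of_mul_eq_mul_left (Nat.mul_pos hp.pos Nat.card_pos) h10
  rw [h9]
  exact h6

end CfsgLib.BGPi
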