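import Cfsg.Agent.EqBase
import Cfsg.Agent.LibBGOm2
import Cfsg.Agent.LibBGRk2
import Cfsg.Agent.LibCoprime2

/-! Coprime action on `p`-groups with small sections of exponent `p`. -/

open Subgroup
open scoped Pointwise commutatorElement

namespace CfsgLib.BGPi

open Cfsg CfsgLib.BGRep

universe u

section
variable {G : Type u} [Group G] [Finite G]

theorem qm_relIndex {N A B : Subgroup G} (hN : N ≤ A) (hAB : A ≤ B) (hB : B ≤ 𝓝(N)) :
    (qm N A).relIndex (qm N B) = A.relIndex B := by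
  have h1 : ∀ X : Subgroup G, N ≤ X → X ≤ B → Nat.card X = Nat.card N * Nat.card (qm N X) := by
    intro X h1 h2
    rw [qm_card (h2.trans hB), card_mul_relIndex h1]
  have h2 := card_mul_relIndex hAB
  have h3 := card_mul_relIndex (qm_mono (N := N) hAB)
  rw [h1 A hN hAB, h1 B (hN.trans hAB) le_rfl, ← h3, mul_assoc] at h2
  have h4 := Nat.eq_of_mul_eq_mul_left Nat.card_pos h2
  exact (Nat.eq_of_mul_eq_mul_left Nat.card_pos h4).symm

theorem PQ.qm {p : ℕ} {R N : Subgroup G} (h : PQ p R) (hNR : N ≤ R) (hRN : R ≤ 𝓝(N)) :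
    PQ p (qm N R) := by
  intro N₁ D₁ h1 h2 h3 h4
  have e1 : pull N (CfsgLib.BGPi.qm N R) = R := pull_qm hNR hRN
  have h5 : pull N D₁ ≤ R := by rw [← e1]; exact pull_mono h2
  have h6 := h (pull N N₁) (pull N D₁) (pull_mono h1) h5 (pull_nz hRN h3) (by
    intro x hx
    obtain ⟨hx1, hx2⟩ := mem_pull.1 hx
    exact mem_pull.2 ⟨pow_mem hx1 p, by rw [qe_pow hx1]; exact h4 _ hx2⟩)
  rw [← qm_relIndex (N := N) le_pull (pull_mono h1) (h5.trans hRN), qm_pull, qm_pull] at h6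
  exact h6

theorem PQ.pe {p : ℕ} {R : Subgroup G} (h : PQ p R) : PE p R := by
  intro D hD hx
  have h1 := h ⊥ D bot_le hD (bot_nz R) (fun x hxD => by rw [hx x hxD]; exact one_mem _)
  rwa [relIndex_bot_left] at h1

theorem commute_of_cz {R : Subgroup G} {x y : G} (hx : x ∈ R) (hy : y ∈ 𝓒(R)) : Commute x y :=
  mem_cz.1 hy x hx

end

theorem pq_ab {p : ℕ} (hp : p.Prime) (hp2 : p ≠ 2) : ∀ (n : ℕ) (G : Type u) [Group G] [Finite G]
    (R A : Subgroup G), Nat.card R = n → IsPGroup p R → PQ p R → A ≤ 𝓝(R) →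
    (Nat.card A).Coprime p → ⁅R, A⁆ = R → R ≤ 𝓒(R) := by
  intro n
  induction n using Nat.strong_induction_on with
  | _ n ih =>
  intro G _ _ R A hn hR hPQ hAR hA hRA
  haveI : Fact p.Prime := ⟨hp⟩
  by_contra hne
  have hne' : ⁅R, R⁆ ≠ ⊥ := fun h => hne (comm_eq_bot_iff.1 h)
  have hR'R : ⁅R, R⁆ ≤ R := comm_self_le R
  have U : ∀ N ≤ R, R ≤ 𝓝(N) → A ≤ 𝓝(N) → N ≠ ⊥ → ⁅R, R⁆ ≤ N := by
    intro N hNR hRN hAN hN1
    have hlt : Nat.card (qm N R) < n := by
      rw [qm_card hRN, ← hn, ← card_mul_relIndex hNR]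
      have h1 : 1 < Nat.card N := (one_lt_card_iff_ne_bot N).2 hN1
      have h2 : 0 < N.relIndex R := Nat.pos_of_ne_zero (by
        intro h
        have := card_mul_relIndex hNR
        rw [h, mul_zero] at this
        exact Nat.card_pos.ne this)
      exact lt_mul_of_one_lt_left h2 h1
    have h1 := ih _ hlt (QN N) (qm N R) (qm N A) rfl (qm_isPGroup hR) (hPQ.qm hNR hRN)
      (qm_nz hAR) (Nat.Coprime.coprime_dvd_left (qm_card_dvd hAN) hA) (by
        rw [← qm_comm hRN hAN, hRA])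
    exact (qm_cz_iff hRN hRN).1 h1
  have hRn : Group.IsNilpotent R := nilpotent_of_isPi hp (isPi_of_isPGroup hp hR)
  have hAR' : A ≤ 𝓝(⁅R, R⁆) := le_nz_comm hAR hAR
  have hRR' : R ≤ 𝓝(⁅R, R⁆) := left_le_nz_comm R R
  have hR'C : ⁅R, R⁆ ≤ 𝓒(R) := by
    have h1 := nilpotent_inf_center hRn hR'R hRR' hne'
    refine (U (⁅R, R⁆ ⊓ 𝓒(R)) (inf_le_left.trans hR'R) (le_nz_inf hRR' (le_nz_cz le_normalizer))
      (le_nz_inf hAR' (le_nz_cz hAR)) h1).trans inf_le_right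
  have hR'c : ⁅⁅R, R⁆, ⁅R, R⁆⁆ ≤ 𝓒(⁅R, R⁆) := by
    refine (comm_self_le _).trans (hR'C.trans (cz_anti hR'R))
  have hR'e : ∀ x ∈ ⁅R, R⁆, x ^ p = 1 := by
    set N := om2 hp hp2 ⁅R, R⁆ hR'c with hN
    have hN1 : N ≠ ⊥ := by
      obtain ⟨z, hz⟩ := exists_prime_orderOf_dvd_card' p
        (pgroup_dvd_card hp (hR.to_le hR'R) hne')
      intro h
      have h1 : (z : G) ∈ N := mem_om2.2 ⟨z.2, by
        have : (z : ↥⁅R, R⁆) ^ p = 1 := by rw [← hz]; exact pow_orderOf_eq_one _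
        exact congrArg Subtype.val this⟩
      rw [h, mem_bot] at h1
      have : z = 1 := Subtype.ext h1
      rw [this, orderOf_one] at hz
      exact hp.ne_one hz.symm
    have hNR' : N ≤ ⁅R, R⁆ := fun x hx => (mem_om2.1 hx).1
    have h2 := U N (hNR'.trans hR'R) (hRR'.trans nz_om2) (hAR'.trans nz_om2) hN1
    exact fun x hx => (mem_om2.1 (h2 hx)).2
  -- commutators and powers
  have hcm : ∀ x ∈ R, ∀ y ∈ R, x⁻¹ * (y * x * y⁻¹) ∈ ⁅R, R⁆ := by
    intro x hx y hy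
    have h2 := commutator_mem_commutator (inv_mem hx) hy
    rw [commutatorElement_def, inv_inv] at h2
    have h4 : x⁻¹ * (y * x * y⁻¹) = x⁻¹ * y * x * y⁻¹ := by group
    rw [h4]; exact h2
  have hpow : ∀ b ∈ R, ∀ x ∈ R, (b * x) ^ p = b ^ p * x ^ p := by
    intro b hb x hx
    have hc := hcm b hb x hx
    refine mul_pow2' hp hp2 (c := b⁻¹ * (x * b * x⁻¹)) (by group) ?_
      (commute_of_cz hb (hR'C hc)) (hR'e _ hc)
    rw [(commute_of_cz hx (hR'C hc)).eq]; group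
  have hpz : ∀ x ∈ R, x ^ p ∈ 𝓒(R) := by
    intro x hx
    rw [mem_cz]
    intro y hy
    have hc := hcm x hx y hy
    have h1 : y * x ^ p * y⁻¹ = x ^ p := by
      calc y * x ^ p * y⁻¹ = (y * x * y⁻¹) ^ p := (conj_pow).symm
        _ = (x * (x⁻¹ * (y * x * y⁻¹))) ^ p := by group
        _ = x ^ p * (x⁻¹ * (y * x * y⁻¹)) ^ p := hpow x hx _ (hR'R hc)
        _ = x ^ p := by rw [hR'e _ hc, mul_one]
    calc y * x ^ p = (y * x ^ p * y⁻¹) * y := by group
      _ = x ^ p * y := by rw [h1]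
  -- the centre
  set Z := R ⊓ 𝓒(R) with hZ
  have hZR : Z ≤ R := inf_le_left
  have hZC : Z ≤ 𝓒(R) := inf_le_right
  have hR'Z : ⁅R, R⁆ ≤ Z := le_inf hR'R hR'C
  have hRZ : R ≤ 𝓝(Z) := le_nz_inf le_normalizer (le_nz_cz le_normalizer)
  have hAZ : A ≤ 𝓝(Z) := le_nz_inf hAR (le_nz_cz hAR)
  have hZab : Z ≤ 𝓒(Z) := hZC.trans (cz_anti hZR)
  have hZc2 : ⁅Z, Z⁆ ≤ 𝓒(Z) := (comm_self_le _).trans hZab
  have hO : ∀ x ∈ Z, x ^ p = 1 → x ∈ ⁅R, R⁆ := by
    set O := om2 hp hp2 Z hZc2 with hOdef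
    have hOZ : O ≤ Z := fun x hx => (mem_om2.1 hx).1
    have hOe : IsElementaryAbelian p O := by
      refine ⟨comm_iff_le_cz.2 (hOZ.trans (hZab.trans (cz_anti hOZ))), fun x hx => (mem_om2.1 hx).2⟩
    have hR'O : ⁅R, R⁆ ≤ O := fun x hx => mem_om2.2 ⟨hR'Z hx, hR'e x hx⟩
    obtain ⟨K, hKO, hAK, hK1, hK2⟩ := maschke_rel hp hOe (hAZ.trans nz_om2) hA hR'O hAR'
    have hKb : K = ⊥ := by
      by_contra h
      have h1 := U K (hKO.trans (hOZ.trans hZR)) (le_nz_of_le_cz (by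
        rw [le_cz_comm]; exact hKO.trans (hOZ.trans hZC))) hAK h
      apply hne'
      rw [← hK1]
      exact (inf_eq_left.2 h1).symm
    rw [hKb, sup_bot_eq] at hK2
    intro x hx hxp
    rw [hK2]
    exact mem_om2.2 ⟨hx, hxp⟩
  -- the index of the centre
  have hi := hPQ Z R hZR le_rfl hRZ (fun x hx => ⟨pow_mem hx p, hpz x hx⟩)
  have hZcard := card_mul_relIndex hZR
  have hnotle : ¬ R ≤ Z := fun h => hne (h.trans hZC)
  obtain ⟨x, hx, hxZ⟩ := SetLike.not_le_iff_exists.1 hnotle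
  set T := Z ⊔ zpowers x with hT
  have hTR : T ≤ R := sup_le hZR (by rwa [zpowers_le])
  have hRT : R ≤ 𝓝(T) := by
    apply le_nz_of_comm_le
    exact (commutator_mono hTR le_rfl).trans (hR'Z.trans le_sup_left)
  have hZT : Z < T := lt_of_le_of_ne le_sup_left fun h => hxZ (h ▸ mem_sup_right (mem_zpowers x))
  have hTc := pgroup_mul_card_le hp (hR.to_le hTR) hZT
  have hRTc : Nat.card R ≤ p * Nat.card T := by
    rw [← hZcard, mul_comm]
    calc Z.relIndex R * Nat.card Z ≤ p ^ 2 * Nat.card Z := Nat.mul_le_mul_right _ hi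
      _ = p * (p * Nat.card Z) := by ring
      _ ≤ p * Nat.card T := Nat.mul_le_mul_left _ hTc
  have hRT' : ¬ R ≤ T := by
    intro h
    apply hne
    rw [← comm_eq_bot_iff, eq_bot_iff]
    have h1 : R = Subgroup.closure ((Z : Set G) ∪ {x}) := by
      rw [Subgroup.closure_union, closure_eq, ← zpowers_eq_closure]
      exact le_antisymm h hTR
    have h2 : ∀ s ∈ (Z : Set G) ∪ {x}, s ∈ 𝓝((⊥ : Subgroup G)) := by
      intro s hs
      exact bot_nz ⊤ (mem_top s)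
    conv_lhs => rw [h1]
    refine comm_closure_le h2 h2 ?_
    have hxc : ∀ s ∈ Z, Commute s x := fun s hs => (commute_of_cz hx (hZC hs)).symm
    rintro s (hs | hs) t (ht | ht)
    · rw [mem_bot, commutatorElement_eq_one_iff_mul_comm]
      exact commute_of_cz (hZR hs) (hZC ht)
    · rw [Set.mem_singleton_iff] at ht
      subst ht
      rw [mem_bot, commutatorElement_eq_one_iff_mul_comm]
      exact hxc s hs
    · rw [Set.mem_singleton_iff] at hs
      subst hs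
      rw [mem_bot, commutatorElement_eq_one_iff_mul_comm]
      exact (hxc t ht).symm
    · rw [Set.mem_singleton_iff] at hs ht
      subst hs; subst ht
      rw [mem_bot, commutatorElement_self]
  obtain ⟨y, hy, hyT⟩ := SetLike.not_le_iff_exists.1 hRT'
  have hTltR : T < R := lt_of_le_of_ne hTR fun h => hRT' h.ge
  have hRc := pgroup_mul_card_le hp hR hTltR
  -- `R'` has order at most `p`
  have hR'c' : Nat.card ↥⁅R, R⁆ ≤ p := by
    have hzR' : ⁅x, y⁆ ∈ ⁅R, R⁆ := commutator_mem_commutator hx hy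
    have h1 : R ≤ Subgroup.closure ((Z : Set G) ∪ {x, y}) := by
      intro r hr
      obtain ⟨i, t, ht, rfl⟩ := exists_mul_pow hp hRT hTR hR hRTc hy hyT hr
      have h2 : T ≤ Subgroup.closure ((Z : Set G) ∪ {x, y}) := by
        refine sup_le ?_ ?_
        · intro s hs; exact subset_closure (Or.inl hs)
        · rw [zpowers_le]; exact subset_closure (Or.inr (by simp))
      have hyc : y ∈ Subgroup.closure ((Z : Set G) ∪ {x, y}) := subset_closure (Or.inr (by simp))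
      exact mul_mem (h2 ht) (pow_mem hyc i)
    have hzN : ∀ s ∈ (Z : Set G) ∪ {x, y}, s ∈ 𝓝(zpowers ⁅x, y⁆) := by
      intro s hs
      have hsR : s ∈ R := by
        rcases hs with hs | hs
        · exact hZR hs
        · rcases hs with rfl | hs
          · exact hx
          · rw [Set.mem_singleton_iff] at hs; subst hs; exact hy
      apply cz_le_nz
      rw [cz_zpowers, mem_centralizer_singleton_iff]
      exact commute_of_cz hsR (hR'C hzR')
    have h2 : ⁅R, R⁆ ≤ zpowers ⁅x, y⁆ := by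
      refine (commutator_mono h1 h1).trans (comm_closure_le hzN hzN ?_)
      have hZ1 : ∀ s ∈ Z, ∀ t ∈ R, ⁅s, t⁆ ∈ zpowers ⁅x, y⁆ := by
        intro s hs t ht
        have : ⁅s, t⁆ = 1 := by
          rw [commutatorElement_eq_one_iff_mul_comm]
          exact (commute_of_cz ht (hZC hs)).symm
        rw [this]; exact one_mem _
      have hZ2 : ∀ s ∈ Z, ∀ t ∈ R, ⁅t, s⁆ ∈ zpowers ⁅x, y⁆ := by
        intro s hs t ht
        rw [← commutatorElement_inv s t]
        exact inv_mem (hZ1 s hs t ht)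
      have hxy : ∀ s ∈ ({x, y} : Set G), s ∈ R := by
        rintro s (rfl | hs)
        · exact hx
        · rw [Set.mem_singleton_iff] at hs; subst hs; exact hy
      rintro s (hs | hs) t (ht | ht)
      · exact hZ1 s hs t (hZR ht)
      · exact hZ1 s hs t (hxy t ht)
      · exact hZ2 t ht s (hxy s hs)
      · rcases hs with rfl | hs
        · rcases ht with rfl | ht
          · rw [commutatorElement_self]; exact one_mem _
          · rw [Set.mem_singleton_iff] at ht; subst ht; exact mem_zpowers _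
        · rw [Set.mem_singleton_iff] at hs
          subst hs
          rcases ht with rfl | ht
          · rw [← commutatorElement_inv t s]; exact inv_mem (mem_zpowers _)
          · rw [Set.mem_singleton_iff] at ht; subst ht
            rw [commutatorElement_self]; exact one_mem _
    refine (Nat.le_of_dvd Nat.card_pos (card_dvd_of_le h2)).trans ?_
    rw [Nat.card_zpowers]
    exact orderOf_le_of_pow_eq_one hp.pos (hR'e _ hzR')
  have hR'c1 : Nat.card ↥⁅R, R⁆ = p := le_antisymm hR'c'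
    (Nat.le_of_dvd Nat.card_pos (pgroup_dvd_card hp (hR.to_le hR'R) hne'))
  -- the centre is cyclic
  have hZcyc : IsCyclic Z := by
    by_contra hnc
    obtain ⟨E, hE, hEe, hEc⟩ := exists_elab2 hp hp2 (hR.to_le hZR) hnc
    have h1 : E ≤ ⁅R, R⁆ := fun e he => hO e (hE he) (hEe.2 e he)
    have h2 := Nat.le_of_dvd Nat.card_pos (card_dvd_of_le h1)
    rw [hEc, hR'c1] at h2
    have h4 : p < p ^ 2 := by
      rw [pow_two]; exact lt_mul_of_one_lt_left hp.pos hp.one_lt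
    omega
  -- the power map
  let φ : R →* G :=
    { toFun := fun r => (r : G) ^ p
      map_one' := one_pow p
      map_mul' := fun a b => hpow a a.2 b b.2 }
  have hφ : ∀ r : R, φ r = (r : G) ^ p := fun _ => rfl
  set Ω := φ.ker.map R.subtype with hΩ
  have hmΩ : ∀ s, s ∈ Ω ↔ s ∈ R ∧ s ^ p = 1 := by
    intro s
    constructor
    · rintro ⟨r, hr, rfl⟩
      exact ⟨r.2, hr⟩
    · rintro ⟨h1, h2⟩
      exact ⟨⟨s, h1⟩, h2, rfl⟩
  have hΩR : Ω ≤ R := map_subtype_le _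
  have hΩc : Nat.card Ω ≤ p ^ 2 := hPQ.pe Ω hΩR fun s hs => ((hmΩ s).1 hs).2
  have hrange : φ.range = Z := by
    refine eq_of_card_le ?_ ?_
    · rintro _ ⟨r, rfl⟩
      exact ⟨pow_mem r.2 p, hpz r r.2⟩
    · have h1 : Nat.card φ.ker * Nat.card φ.range = Nat.card R := by
        have h2 := φ.ker.card_mul_index
        rwa [Subgroup.index_ker] at h2
      have h2 : Nat.card φ.ker ≤ p ^ 2 := by
        rw [hΩ, card_map_subtype] at hΩc; exact hΩc
      have h3 : p ^ 2 * Nat.card Z ≤ p ^ 2 * Nat.card φ.range := by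
        calc p ^ 2 * Nat.card Z = p * (p * Nat.card Z) := by ring
          _ ≤ p * Nat.card T := Nat.mul_le_mul_left _ hTc
          _ ≤ Nat.card R := hRc
          _ = Nat.card φ.ker * Nat.card φ.range := h1.symm
          _ ≤ p ^ 2 * Nat.card φ.range := Nat.mul_le_mul_right _ h2
      exact Nat.le_of_mul_le_mul_left h3 (pow_pos hp.pos 2)
  obtain ⟨w, hw⟩ := hZcyc.exists_generator
  have hwr : (w : G) ∈ φ.range := by rw [hrange]; exact w.2
  obtain ⟨⟨u, hu⟩, huw⟩ := hwr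
  have huw' : u ^ p = w := huw
  have hZw : ∀ z ∈ Z, ∃ m : ℤ, z = (w : G) ^ m := by
    intro z hz
    obtain ⟨m, hm⟩ := mem_zpowers_iff.1 (hw ⟨z, hz⟩)
    exact ⟨m, (congrArg Subtype.val hm).symm⟩
  have hpowz : ∀ b ∈ R, ∀ i : ℤ, (b ^ i) ^ p = (b ^ p) ^ i := by
    intro b _ i
    rw [← zpow_natCast, ← zpow_natCast, ← zpow_mul, ← zpow_mul, mul_comm]
  -- decomposition
  have hdec : ∀ r ∈ R, ∃ s ∈ Ω, ∃ i : ℤ, r = s * u ^ i := by
    intro r hr
    obtain ⟨m, hm⟩ := hZw (r ^ p) ⟨pow_mem hr p, hpz r hr⟩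
    refine ⟨r * u ^ (-m), (hmΩ _).2 ⟨mul_mem hr (zpow_mem hu _), ?_⟩, m, by group⟩
    rw [hpow r hr _ (zpow_mem hu _), hpowz u hu, huw', hm]
    group
  have hR'Ω : ⁅R, R⁆ ≤ Ω := fun z hz => (hmΩ z).2 ⟨hR'R hz, hR'e z hz⟩
  have hΩab := comm_iff_le_cz.1 (comm_of_card_p2 hp (hR.to_le hΩR) hΩc)
  have hcent : ∀ k ∈ Ω, Commute u k → k ∈ Z := by
    intro k hk huk
    refine mem_inf.2 ⟨hΩR hk, ?_⟩
    rw [mem_cz]
    intro r hr
    obtain ⟨s, hs, i, rfl⟩ := hdec r hr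
    exact ((commute_of_cz hs (hΩab hk)).mul_left (huk.zpow_left i)).eq
  obtain ⟨k, hk, hkZ⟩ : ∃ k ∈ Ω, k ∉ Z := by
    by_contra hcon
    push Not at hcon
    apply hne
    intro r hr
    rw [mem_cz]
    intro r' hr'
    obtain ⟨s, hs, i, rfl⟩ := hdec r hr
    obtain ⟨s', hs', i', rfl⟩ := hdec r' hr'
    have h1 : Commute (s' * u ^ i') s := commute_of_cz hr' (hZC (hcon s hs))
    have h2 : Commute (s' * u ^ i') (u ^ i) :=
      ((commute_of_cz (zpow_mem hu i) (hZC (hcon s' hs'))).symm).mul_left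
        ((Commute.refl u).zpow_zpow i' i)
    exact (h1.mul_right h2).eq
  have hkR := hΩR hk
  have hkp : k ^ p = 1 := ((hmΩ k).1 hk).2
  have hkR' : k ∉ ⁅R, R⁆ := fun h => hkZ (hR'Z h)
  have hΩgen : ∀ s ∈ Ω, ∃ z ∈ ⁅R, R⁆, ∃ l : ℤ, s = z * k ^ l := by
    have h1 : ⁅R, R⁆ ⊔ zpowers k = Ω := by
      refine eq_of_card_le (sup_le hR'Ω (by rwa [zpowers_le])) ?_
      rw [card_sup_zpowers hp hkp hkR' (fun z hz => by
        rw [mem_centralizer_singleton_iff]
        exact (commute_of_cz hkR (hR'C hz)).symm), hR'c1, ← pow_two]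
      exact hΩc
    intro s hs
    rw [← h1] at hs
    obtain ⟨z, hz, w', hw', rfl⟩ := (mem_sup_of_nz' (by
      rw [zpowers_le]; exact hRR' hkR)).1 hs
    obtain ⟨l, rfl⟩ := mem_zpowers_iff.1 hw'
    exact ⟨z, hz, l, rfl⟩
  set z := ⁅u, k⁆ with hz
  have hzR' : z ∈ ⁅R, R⁆ := commutator_mem_commutator hu hkR
  have hz1 : z ≠ 1 := by
    intro h
    rw [hz, commutatorElement_eq_one_iff_mul_comm] at h
    exact hkZ (hcent k hk h)
  have hzo : orderOf z = p := orderOf_eq_prime (hR'e z hzR') hz1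
  have hzc : ∀ r ∈ R, Commute r z := fun r hr => commute_of_cz hr (hR'C hzR')
  have huk : u * k * u⁻¹ = z * k := by rw [hz, commutatorElement_def]; group
  -- bilinearity
  have hbil : ∀ i l : ℤ, u ^ i * k ^ l * (u ^ i)⁻¹ = z ^ (i * l) * k ^ l := by
    have h1 : ∀ i : ℤ, u ^ i * k * (u ^ i)⁻¹ = z ^ i * k := by
      intro i
      have h2 : k * u * k⁻¹ = z⁻¹ * u := by
        rw [hz, commutatorElement_def]
        group
      have h3 : k * u ^ i * k⁻¹ = z ^ (-i) * u ^ i := by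
        have h4 : k * u ^ i * k⁻¹ = (k * u * k⁻¹) ^ i := (conj_zpow).symm
        rw [h4, h2, (((hzc u hu).symm).inv_left).mul_zpow, inv_zpow, zpow_neg]
      have h5 : u ^ i * k = z ^ i * k * u ^ i := by
        have h6 : k * u ^ i = z ^ (-i) * u ^ i * k := by rw [← h3]; group
        have h7 : z ^ i * k * u ^ i = z ^ i * (k * u ^ i) := by group
        rw [h7, h6]; group
      rw [h5]; group
    intro i l
    have h2 : u ^ i * k ^ l * (u ^ i)⁻¹ = (u ^ i * k * (u ^ i)⁻¹) ^ l := (conj_zpow).symm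
    rw [h2, h1, ((hzc k hkR).symm.zpow_left i).mul_zpow, ← zpow_mul]
  -- the action
  have hact : ∀ a ∈ A, a * k * a⁻¹ * k⁻¹ ∈ ⁅R, R⁆ := by
    intro a ha
    have haR : ∀ r ∈ R, a * r * a⁻¹ ∈ R := fun r hr => le_nz.1 hAR a ha r hr
    have hk' : a * k * a⁻¹ ∈ Ω := (hmΩ _).2 ⟨haR k hkR, by rw [conj_pow, hkp]; group⟩
    obtain ⟨z₁, hz₁, l, hl⟩ := hΩgen _ hk'
    obtain ⟨s, hs, i, hi'⟩ := hdec _ (haR u hu)
    have haw : a * (w : G) * a⁻¹ = (w : G) ^ i := by
      rw [← huw', ← conj_pow, hi', hpow s (hΩR hs) _ (zpow_mem hu _), ((hmΩ s).1 hs).2, one_mul,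
        hpowz u hu]
    have haz : a * z * a⁻¹ = z ^ i := by
      obtain ⟨m, hm⟩ := hZw z (hR'Z hzR')
      rw [hm]
      have h1 : a * (w : G) ^ m * a⁻¹ = (a * w * a⁻¹) ^ m := (conj_zpow).symm
      rw [h1, haw, ← zpow_mul, ← zpow_mul, mul_comm]
    have haz' : a * z * a⁻¹ = z ^ (i * l) := by
      have h1 : a * z * a⁻¹ = ⁅a * u * a⁻¹, a * k * a⁻¹⁆ := by
        rw [hz, commutatorElement_def, commutatorElement_def]; group
      rw [h1, hi', hl, commutatorElement_def]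
      have h2 : s * u ^ i * (z₁ * k ^ l) * (s * u ^ i)⁻¹ = z₁ * (z ^ (i * l) * k ^ l) := by
        have hz₁c : Commute (s * u ^ i) z₁ :=
          commute_of_cz (mul_mem (hΩR hs) (zpow_mem hu i)) (hR'C hz₁)
        have h3 : s * u ^ i * (z₁ * k ^ l) * (s * u ^ i)⁻¹ =
            (s * u ^ i * z₁) * k ^ l * (s * u ^ i)⁻¹ := by group
        rw [h3, hz₁c.eq]
        have h4 : z₁ * (s * u ^ i) * k ^ l * (s * u ^ i)⁻¹ =
            z₁ * (s * (u ^ i * k ^ l * (u ^ i)⁻¹) * s⁻¹) := by group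
        rw [h4, hbil]
        have h5 : Commute s (z ^ (i * l) * k ^ l) :=
          ((hzc s (hΩR hs)).zpow_right _).mul_right ((commute_of_cz hs (hΩab hk)).zpow_right l)
        rw [h5.eq]; group
      rw [h2]
      have h6 : Commute z₁ (z ^ (i * l)) := ((hzc z₁ (hR'R hz₁))).zpow_right _
      have h7 : z₁ * (z ^ (i * l) * k ^ l) * (z₁ * k ^ l)⁻¹ = z₁ * z ^ (i * l) * z₁⁻¹ := by group
      rw [h7, h6.eq]; group
    have hne0 : ¬ (p : ℤ) ∣ i := by
      rintro ⟨j, hj⟩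
      rw [hj, zpow_mul, zpow_natCast, hR'e z hzR', one_zpow] at haz
      apply hz1
      have : z = a⁻¹ * (a * z * a⁻¹) * a := by group
      rw [this, haz]; group
    have hdvd : (p : ℤ) ∣ i * l - i := by
      rw [← hzo, orderOf_dvd_iff_zpow_eq_one, zpow_sub, ← haz', ← haz]
      group
    have hdvd' : (p : ℤ) ∣ l - 1 := by
      have h1 : i * l - i = i * (l - 1) := by ring
      rw [h1] at hdvd
      exact (Int.Prime.dvd_mul' hp hdvd).resolve_left hne0
    have hkl : k ^ l = k := by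
      obtain ⟨j, hj⟩ := hdvd'
      have : l = 1 + p * j := by omega
      rw [this, zpow_add, zpow_one, zpow_mul, zpow_natCast, hkp, one_zpow, mul_one]
    rw [hl, hkl]
    have : z₁ * k * k⁻¹ = z₁ := by group
    rw [this]
    exact hz₁
  -- conclusion
  have hAR'2 : A ≤ 𝓝(⁅R, R⁆) := hAR'
  have hV : IsMulCommutative (qm ⁅R, R⁆ R) := by
    rw [comm_iff_le_cz, qm_cz_iff hRR' hRR']
  have h1 := CfsgLib.Coprime2.commutator_inf_centralizer (V := qm ⁅R, R⁆ R) (A := qm ⁅R, R⁆ A)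
    (qm_nz hAR) (coprime_card_of_pgroup hp (qm_isPGroup hR)
      (Nat.Coprime.coprime_dvd_left (qm_card_dvd hAR'2) hA))
  rw [← qm_comm hRR' hAR'2, hRA] at h1
  have h2 : qe ⁅R, R⁆ (hRR' hkR) ∈ qm ⁅R, R⁆ R ⊓ 𝓒(qm ⁅R, R⁆ A) := by
    refine mem_inf.2 ⟨qe_mem _ hkR, ?_⟩
    rw [mem_cz]
    intro ā hā
    obtain ⟨a, ha1, haA, rfl⟩ := mem_qm.1 hā
    have h3 : qe ⁅R, R⁆ ha1 * qe ⁅R, R⁆ (hRR' hkR) * (qe ⁅R, R⁆ ha1)⁻¹ * (qe ⁅R, R⁆ (hRR' hkR))⁻¹ = 1 :=
      (qe_eq_one (N := ⁅R, R⁆) (mul_mem (mul_mem (mul_mem ha1 (hRR' hkR)) (inv_mem ha1))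
        (inv_mem (hRR' hkR)))).2 (hact a haA)
    rw [mul_inv_eq_one, mul_inv_eq_iff_eq_mul] at h3
    exact h3
  rw [h1, mem_bot, qe_eq_one] at h2
  exact hkR' h2

end CfsgLib.BGPi
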