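import Cfsg.Agent.EqBase
import Cfsg.Agent.LibBGOm3

/-! B & G 4.12, 4.16. -/

open Subgroup
open scoped Pointwise commutatorElement

namespace CfsgLib.BGPi

open Cfsg CfsgLib.BGRep

universe u
variable {G : Type u} [Group G] [Finite G]

theorem p_lt_p2 {p : ℕ} (hp : p.Prime) : p < p ^ 2 := by
  rw [pow_two]; exact lt_mul_of_one_lt_left hp.pos hp.one_lt

/-- a group with a central subgroup of index at most `p` is abelian -/
theorem ab_of_index_p {p : ℕ} (hp : p.Prime) {W K : Subgroup G} (hW : IsPGroup p W) (hKW : K ≤ W)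
    (hKC : K ≤ 𝓒(W)) (hc : Nat.card W ≤ p * Nat.card K) : W ≤ 𝓒(W) := by
  by_cases h : W ≤ K
  · exact h.trans hKC
  obtain ⟨x, hx, hxK⟩ := SetLike.not_le_iff_exists.1 h
  have hn : W ≤ 𝓝(K) := le_nz_of_le_cz (le_cz_comm.1 hKC)
  intro a ha
  rw [mem_cz]
  intro b hb
  obtain ⟨i, s, hs, rfl⟩ := exists_mul_pow hp hn hKW hW hc hx hxK ha
  obtain ⟨j, t, ht, rfl⟩ := exists_mul_pow hp hn hKW hW hc hx hxK hb
  have h1 : Commute (t * x ^ j) s := commute_of_cz hb (hKC hs)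
  have h2 : Commute (t * x ^ j) (x ^ i) :=
    ((commute_of_cz (pow_mem hx i) (hKC ht)).symm).mul_left ((Commute.refl x).pow_pow j i)
  exact (h1.mul_right h2).eq

/-- nonabelian groups of order `p³` -/
theorem nonab_p3 {p : ℕ} (hp : p.Prime) {W : Subgroup G} (hW : IsPGroup p W)
    (hc : Nat.card W = p ^ 3) (hn : ¬ W ≤ 𝓒(W)) :
    ⁅W, W⁆ = W ⊓ 𝓒(W) ∧ Nat.card ↥⁅W, W⁆ = p := by
  set Z := W ⊓ 𝓒(W) with hZ
  have hW1 : W ≠ ⊥ := by
    rintro rfl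
    exact hn bot_le
  have hZ1 : Z ≠ ⊥ := pgroup_inf_cz hp (isPi_of_isPGroup hp hW) (isPi_of_isPGroup hp hW)
    le_normalizer hW1
  have hZW : Z ≤ W := inf_le_left
  have hZC : Z ≤ 𝓒(W) := inf_le_right
  have hWZ : W ≤ 𝓝(Z) := le_nz_of_le_cz (le_cz_comm.1 hZC)
  haveI : Fact p.Prime := ⟨hp⟩
  obtain ⟨n, hn'⟩ := IsPGroup.iff_card.1 (hW.to_le hZW)
  have hn1 : n = 1 := by
    rcases Nat.lt_or_ge n 2 with h | h
    · rcases Nat.eq_zero_or_pos n with h0 | h0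
      · exfalso
        apply hZ1
        rw [h0, pow_zero] at hn'
        exact card_eq_one.1 hn'
      · omega
    · exfalso
      apply hn
      refine ab_of_index_p hp hW hZW hZC ?_
      rw [hc, hn', pow_succ']
      exact Nat.mul_le_mul_left _ (Nat.pow_le_pow_right hp.pos h)
  rw [hn1, pow_one] at hn'
  have h1 : Nat.card (qm Z W) ≤ p ^ 2 := by
    have h2 := card_mul_relIndex hZW
    rw [hn', hc, pow_succ'] at h2
    rw [qm_card hWZ]
    exact (Nat.eq_of_mul_eq_mul_left hp.pos h2).le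
  have h3 := comm_iff_le_cz.1 (comm_of_card_p2 hp (qm_isPGroup (N := Z) hW) h1)
  rw [qm_cz_iff hWZ hWZ] at h3
  have h4 : ⁅W, W⁆ ≠ ⊥ := fun h => hn (comm_eq_bot_iff.1 h)
  have h5 : ⁅W, W⁆ = Z := by
    refine eq_of_card_le h3 ?_
    rw [hn']
    exact Nat.le_of_dvd Nat.card_pos (pgroup_dvd_card hp (hW.to_le (comm_self_le W)) h4)
  exact ⟨h5, by rw [h5, hn']⟩

/-- `E⟨c⟩` has exponent `p` -/
theorem exp_sup {p : ℕ} (hp : p.Prime) (hp2 : p ≠ 2) {R E : Subgroup G} (hR : IsPGroup p R)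
    (hER : E ≤ R) (hRE : R ≤ 𝓝(E)) (hE : IsElementaryAbelian p E) (hEc : Nat.card E ≤ p ^ 2)
    {c : G} (hc : c ∈ R) (hcp : c ^ p = 1) : ∀ x ∈ E ⊔ zpowers c, x ^ p = 1 := by
  have hEE := comm2_p2 hp hR hER hRE hEc
  intro x hx
  obtain ⟨e, he, w, hw, rfl⟩ := (mem_sup_of_nz' (by rw [zpowers_le]; exact hRE hc)).1 hx
  obtain ⟨i, rfl⟩ := mem_zpowers_iff.1 hw
  have hci : c ^ i ∈ R := zpow_mem hc i
  have h1 : c ^ i * e * (c ^ i)⁻¹ ∈ E := le_nz.1 hRE _ hci e he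
  have hd : e⁻¹ * (c ^ i * e * (c ^ i)⁻¹) ∈ E := mul_mem (inv_mem he) h1
  have h2 : e⁻¹ * (c ^ i * e * (c ^ i)⁻¹) ∈ ⁅E, R⁆ := by
    have h3 := commutator_mem_commutator (inv_mem he) hci
    rw [commutatorElement_def, inv_inv] at h3
    have h4 : e⁻¹ * (c ^ i * e * (c ^ i)⁻¹) = e⁻¹ * c ^ i * e * (c ^ i)⁻¹ := by group
    rw [h4]; exact h3
  have h5 := commutator_mem_commutator h2 hci
  rw [hEE, mem_bot, commutatorElement_eq_one_iff_mul_comm] at h5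
  rw [mul_pow2' hp hp2 (x := c ^ i) (b := e) (c := e⁻¹ * (c ^ i * e * (c ^ i)⁻¹)) (by group)
    (by rw [← h5]; group) (mem_cz.1 (comm_iff_le_cz.1 hE.1 hd) e he) (hE.2 _ hd), hE.2 e he,
    one_mul, ← zpow_natCast, ← zpow_mul, mul_comm, zpow_mul, zpow_natCast, hcp, one_zpow]

/-- index of a subgroup in a product with a cyclic group -/
theorem relIndex_sup_zpowers {p : ℕ} (hp : p.Prime) {N : Subgroup G} {c : G} (hc : c ^ p ∈ N)
    (hn : c ∈ 𝓝(N)) : N.relIndex (N ⊔ zpowers c) ≤ p := by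
  have hn' : zpowers c ≤ 𝓝(N) := by rwa [zpowers_le]
  rw [sup_comm, relIndex_sup_eq hn']
  have h1 := card_mul_relIndex (inf_le_left : zpowers c ⊓ N ≤ zpowers c)
  rw [inf_relIndex_left] at h1
  have h2 := (zpowers_card_le (b := c) (p := p)).resolve_right hp.ne_zero
  have h3 : Nat.card (zpowers (c ^ p)) ≤ Nat.card ↥(zpowers c ⊓ N) := by
    refine Nat.le_of_dvd Nat.card_pos (card_dvd_of_le ?_)
    rw [zpowers_le]
    exact mem_inf.2 ⟨pow_mem (mem_zpowers c) p, hc⟩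
  have h4 : Nat.card ↥(zpowers c ⊓ N) * N.relIndex (zpowers c) ≤ Nat.card ↥(zpowers c ⊓ N) * p := by
    rw [h1, mul_comm]
    exact h2.trans (Nat.mul_le_mul_left _ h3)
  exact Nat.le_of_mul_le_mul_left h4 Nat.card_pos

theorem pq_of_meta {p : ℕ} (hp : p.Prime) {R S : Subgroup G} (hRm : IsMetacyclic R) (hS : S ≤ R) :
    PQ p S := by
  obtain ⟨M, hM, hMc, hQc⟩ := hRm
  intro N D hND hDS hSN hx
  set M' := M.map R.subtype with hM'
  have hM'c : IsCyclic M' := by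
    haveI := hMc
    exact isCyclic_of_surjective (M.equivMapOfInjective R.subtype R.subtype_injective)
      (MulEquiv.surjective _)
  have hRM' : R ≤ 𝓝(M') := map_subtype_nz M
  have hDR := hDS.trans hS
  have hDM' := hDR.trans hRM'
  -- `D M' / M'` is cyclic
  have hcyc : IsCyclic (qm M' R) := by
    obtain ⟨g, hg⟩ := hQc.exists_generator
    obtain ⟨r, rfl⟩ := QuotientGroup.mk'_surjective M g
    refine ⟨⟨⟨qe M' (hRM' r.2), qe_mem _ r.2⟩, ?_⟩⟩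
    rintro ⟨y, hy⟩
    obtain ⟨x, hx1, hxR, rfl⟩ := mem_qm.1 hy
    obtain ⟨j, hj⟩ := mem_zpowers_iff.1 (hg (QuotientGroup.mk' M ⟨x, hxR⟩))
    refine mem_zpowers_iff.2 ⟨j, Subtype.ext ?_⟩
    show (qe M' (hRM' r.2)) ^ j = qe M' hx1
    have h1 : (r ^ j)⁻¹ * (⟨x, hxR⟩ : R) ∈ M := by
      rw [← QuotientGroup.eq_one_iff, QuotientGroup.mk_mul, QuotientGroup.mk_inv,
        QuotientGroup.mk_zpow]
      have h2 : ((r : R ⧸ M)) ^ j = ((⟨x, hxR⟩ : R) : R ⧸ M) := hj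
      rw [h2, inv_mul_cancel]
    have h2 : ((r : G) ^ j)⁻¹ * x ∈ M' := ⟨_, h1, rfl⟩
    have h3 : (r : G) ^ j ∈ 𝓝(M') := zpow_mem (hRM' r.2) j
    have h4 := (qe_eq_one (N := M') (mul_mem (inv_mem h3) hx1)).2 h2
    rw [qe_mul (inv_mem h3) hx1, qe_inv h3, inv_mul_eq_one] at h4
    rw [← h4]
    rfl
  have hcycD : IsCyclic (qm M' D) := by
    haveI := hcyc
    exact isCyclic_of_injective (inclusion (qm_mono hDR)) (inclusion_injective _)
  obtain ⟨⟨g, hg1⟩, hg⟩ := hcycD.exists_generator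
  obtain ⟨d, hd1, hdD, rfl⟩ := mem_qm.1 hg1
  have hgen : ∀ x ∈ D, ∃ j : ℤ, x * (d ^ j)⁻¹ ∈ M' := by
    intro x hxD
    obtain ⟨j, hj⟩ := mem_zpowers_iff.1 (hg ⟨qe M' (hDM' hxD), qe_mem _ hxD⟩)
    refine ⟨j, ?_⟩
    have h3 : d ^ j ∈ 𝓝(M') := zpow_mem hd1 j
    rw [← qe_eq_one (mul_mem (hDM' hxD) (inv_mem h3)), qe_mul (hDM' hxD) (inv_mem h3), qe_inv h3,
      mul_inv_eq_one]
    have h4 : (qe M' hd1) ^ j = qe M' (hDM' hxD) := congrArg Subtype.val hj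
    rw [← h4]; rfl
  obtain ⟨⟨c, hcM'⟩, hcg⟩ : ∃ c : ↥(D ⊓ M'), ∀ x, x ∈ zpowers c := by
    haveI := hM'c
    have : IsCyclic ↥(D ⊓ M') := isCyclic_of_injective (inclusion (inf_le_right : D ⊓ M' ≤ M'))
      (inclusion_injective _)
    exact this.exists_generator
  have hcD : c ∈ D := (mem_inf.1 hcM').1
  have hDN : D ≤ 𝓝(N) := hDS.trans hSN
  have hcz : D ⊓ M' ≤ zpowers c := by
    intro y hy
    obtain ⟨j, hj⟩ := mem_zpowers_iff.1 (hcg ⟨y, hy⟩)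
    exact mem_zpowers_iff.2 ⟨j, congrArg Subtype.val hj⟩
  set N₁ := N ⊔ zpowers c with hN₁
  have hN₁D : N₁ ≤ D := sup_le hND (by rwa [zpowers_le])
  have hDM : D ⊓ M' ≤ N₁ := hcz.trans le_sup_right
  have hDN₁ : D ≤ 𝓝(N₁) := by
    have e : N₁ = N ⊔ (D ⊓ M') := by
      refine le_antisymm (sup_le le_sup_left ?_) (sup_le le_sup_left hDM)
      rw [zpowers_le]; exact mem_sup_right hcM'
    rw [e]
    exact le_nz_sup hDN (le_nz_inf le_normalizer hDM')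
  have h1 : N.relIndex N₁ ≤ p := relIndex_sup_zpowers hp (hx c hcD) (hDN hcD)
  have h2 : N₁ ⊔ zpowers d = D := by
    refine le_antisymm (sup_le hN₁D (by rwa [zpowers_le])) ?_
    intro x hxD
    obtain ⟨j, hj⟩ := hgen x hxD
    have h3 : x * (d ^ j)⁻¹ ∈ N₁ := hDM (mem_inf.2 ⟨mul_mem hxD (inv_mem (zpow_mem hdD j)), hj⟩)
    have h4 : x = (x * (d ^ j)⁻¹) * d ^ j := by group
    rw [h4]
    exact mul_mem (mem_sup_left h3) (mem_sup_right (zpow_mem (mem_zpowers d) j))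
  have h3 : N₁.relIndex D ≤ p := by
    have := relIndex_sup_zpowers hp (N := N₁) (c := d) (mem_sup_left (hx d hdD)) (hDN₁ hdD)
    rwa [h2] at this
  rw [← relIndex_mul_relIndex N N₁ D le_sup_left hN₁D, pow_two]
  exact Nat.mul_le_mul h1 h3

end CfsgLib.BGPi
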