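import Cfsg.Agent.EqBase
import Cfsg.Agent.LibBGOm4

/-! B & G 4.12, 4.16. -/

open Subgroup
open scoped Pointwise commutatorElement

namespace CfsgLib.BGPi

open Cfsg CfsgLib.BGRep

universe u
variable {G : Type u} [Group G] [Finite G]

/-- B & G 4.12 -/
theorem bg4_12 {p : ℕ} (hp : p.Prime) (hp2 : p ≠ 2) {R A : Subgroup G} (hR : IsPGroup p R)
    (hRm : IsMetacyclic R) (hA : A ≤ 𝓝(R)) (hcop : (Nat.card A).Coprime p) :
    IsMulCommutative ↥⁅R, A⁆ ∧ ⁅R, A⁆ ⊔ (R ⊓ 𝓒(A)) = R ∧ ⁅R, A⁆ ⊓ (R ⊓ 𝓒(A)) = ⊥ ∧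
      (¬ IsMulCommutative R → ¬ A ≤ 𝓒(R) →
        ⁅R, A⁆ ≠ ⊥ ∧ IsCyclic ↥⁅R, A⁆ ∧ (R ⊓ 𝓒(A)) ≠ ⊥ ∧ IsCyclic ↥(R ⊓ 𝓒(A)) ∧
          ⁅R, R⁆ ≤ ⁅R, A⁆) := by
  haveI : Fact p.Prime := ⟨hp⟩
  have hRs := solvable_of_isPGroup hp hR
  have hc := coprime_card_of_pgroup hp hR hcop
  set V := ⁅R, A⁆ with hV
  set C := R ⊓ 𝓒(A) with hC
  have hVR : V ≤ R := comm_le_left hA
  have hCR : C ≤ R := inf_le_left
  have hRV : R ≤ 𝓝(V) := left_le_nz_comm R A
  have hAV : A ≤ 𝓝(V) := right_le_nz_comm R A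
  have hVA : ⁅V, A⁆ = V := cop_comm_comm hA hc hRs
  have hVp := hR.to_le hVR
  have hVab : V ≤ 𝓒(V) := pq_ab hp hp2 _ G V A rfl hVp (pq_of_meta hp hRm hVR) hAV hcop hVA
  have hVab' : IsMulCommutative V := comm_iff_le_cz.2 hVab
  have hsup : V ⊔ C = R := cop_comm_sup hA hc hRs
  have hinf : V ⊓ C = ⊥ := by
    have h1 := CfsgLib.Coprime2.commutator_inf_centralizer (V := V) (A := A) hAV
      (coprime_card_of_pgroup hp hVp hcop)
    rw [hVA] at h1
    rw [eq_bot_iff, ← h1]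
    exact inf_le_inf_left _ inf_le_right
  refine ⟨hVab', hsup, hinf, fun hRn hAn => ?_⟩
  have hV1 : V ≠ ⊥ := by
    intro h
    apply hAn
    rw [le_cz_comm, ← comm_eq_bot_iff]
    exact h
  have hC1 : C ≠ ⊥ := by
    intro h
    rw [h, sup_bot_eq] at hsup
    apply hRn
    rw [← hsup]; exact hVab'
  have hPE : PE p R := (pq_of_meta hp hRm le_rfl).pe
  have hprime : ∀ X : Subgroup G, X ≤ R → X ≠ ⊥ → ∃ x ∈ X, x ≠ 1 ∧ x ^ p = 1 := by
    intro X hX hX1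
    obtain ⟨x, hx⟩ := exists_prime_orderOf_dvd_card' p (pgroup_dvd_card hp (hR.to_le hX) hX1)
    refine ⟨x, x.2, ?_, ?_⟩
    · intro h
      have h1 : x = 1 := Subtype.ext h
      rw [h1, orderOf_one] at hx
      exact hp.ne_one hx.symm
    · have : x ^ p = 1 := by rw [← hx]; exact pow_orderOf_eq_one _
      exact congrArg Subtype.val this
  have hVcyc : IsCyclic V := by
    by_contra hnc
    obtain ⟨E, hE, hEe, hEc⟩ := exists_elab2 hp hp2 hVp hnc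
    have hVc2 : ⁅V, V⁆ ≤ 𝓒(V) := (comm_self_le _).trans hVab
    set F := om2 hp hp2 V hVc2 with hF
    have hFV : F ≤ V := fun x hx => (mem_om2.1 hx).1
    have hFe : IsElementaryAbelian p F :=
      ⟨comm_iff_le_cz.2 (hFV.trans (hVab.trans (cz_anti hFV))), fun x hx => (mem_om2.1 hx).2⟩
    have hFc : Nat.card F ≤ p ^ 2 := hPE F (hFV.trans hVR) hFe.2
    have hFc' : p ^ 2 ≤ Nat.card F := by
      rw [← hEc]
      exact Nat.le_of_dvd Nat.card_pos (card_dvd_of_le fun x hx => mem_om2.2 ⟨hE hx, hEe.2 x hx⟩)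
    obtain ⟨c, hcC, hc1, hcp⟩ := hprime C hCR hC1
    have hcR := hCR hcC
    have h1 := exp_sup hp hp2 hR (hFV.trans hVR) (hRV.trans nz_om2) hFe hFc hcR hcp
    have h2 := hPE _ (sup_le (hFV.trans hVR) (by rwa [zpowers_le])) h1
    have h3 : zpowers c ⊓ F = ⊥ := by
      rw [eq_bot_iff, ← hinf]
      refine le_inf (inf_le_right.trans hFV) (inf_le_left.trans ?_)
      rwa [zpowers_le]
    have h4 := card_sup_of_disjoint (H := zpowers c) (K := F)
      (by rw [zpowers_le]; exact (hRV.trans nz_om2) hcR) h3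
    rw [sup_comm, h4, Nat.card_zpowers, orderOf_eq_prime hcp hc1] at h2
    have h5 : p * p ^ 2 ≤ p ^ 2 := (Nat.mul_le_mul_left p hFc').trans h2
    have h6 : p ^ 2 < p * p ^ 2 := lt_mul_of_one_lt_left (pow_pos hp.pos 2) hp.one_lt
    omega
  have hCcyc : IsCyclic C := by
    by_contra hnc
    obtain ⟨E, hE, hEe, hEc⟩ := exists_elab2 hp hp2 (hR.to_le hCR) hnc
    have hn : Group.IsNilpotent R := nilpotent_of_isPi hp (isPi_of_isPGroup hp hR)
    have h1 := nilpotent_inf_center hn hVR hRV hV1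
    obtain ⟨e, he, he1, hep⟩ := hprime _ (inf_le_left.trans hVR) h1
    have heV := (mem_inf.1 he).1
    have heC := (mem_inf.1 he).2
    have heE : e ∉ E := by
      intro h
      have h2 : e ∈ V ⊓ C := ⟨heV, hE h⟩
      rw [hinf, mem_bot] at h2
      exact he1 h2
    have h2 : IsElementaryAbelian p (E ⊔ zpowers e) :=
      elab_sup_zpowers hEe hep fun a ha => mem_cz.1 heC a (hCR (hE ha))
    have h3 := hPE _ (sup_le (hE.trans hCR) (by rw [zpowers_le]; exact hVR heV)) h2.2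
    rw [card_sup_zpowers hp hep heE (fun a ha => by
      rw [mem_centralizer_singleton_iff]
      exact mem_cz.1 heC a (hCR (hE ha))), hEc] at h3
    have h6 : p ^ 2 < p ^ 2 * p := lt_mul_of_one_lt_right (pow_pos hp.pos 2) hp.one_lt
    omega
  refine ⟨hV1, hVcyc, hC1, hCcyc, ?_⟩
  have h1 := comm_prod_le (K := V) (U := C) (hCR.trans hRV)
  rw [hsup] at h1
  refine h1.trans (sup_le le_rfl ?_)
  have h2 : ⁅C, C⁆ = ⊥ := by
    rw [← comm_iff_comm_bot]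
    exact ⟨⟨fun a b => IsCyclic.commGroup.mul_comm a b⟩⟩
  rw [h2]; exact bot_le

end CfsgLib.BGPi
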