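import Cfsg.Agent.EqBase
import Cfsg.Agent.LibBGOm5

/-! B & G 4.16: `p`-groups of rank two with a nontrivial odd `p'`-action. -/

open Subgroup
open scoped Pointwise commutatorElement

namespace CfsgLib.BGPi

open Cfsg CfsgLib.BGRep

universe u

section
variable {G : Type u} [Group G]

theorem conj_pow_of {t w l : G} (h1 : t * w * t⁻¹ = l * w) (h2 : Commute t l) (n : ℕ) :
    t ^ n * w * (t ^ n)⁻¹ = l ^ n * w := by
  induction n with
  | zero => simp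
  | succ n ih =>
    have h3 : t ^ (n + 1) * w * (t ^ (n + 1))⁻¹ = t * (t ^ n * w * (t ^ n)⁻¹) * t⁻¹ := by
      rw [pow_succ' t n]; group
    have h4 : t * (l ^ n * w) * t⁻¹ = (t * l ^ n * t⁻¹) * (t * w * t⁻¹) := by group
    rw [h3, ih, h4, h1, (h2.pow_right n).eq, mul_inv_cancel_right, ← mul_assoc, ← pow_succ]

theorem mul_pow_mod {N : Subgroup G} {l x : G} (hl : l ∈ N) (hx : x ∈ 𝓝(N)) (n : ℕ) :
    ∃ m ∈ N, (l * x) ^ n = m * x ^ n := by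
  induction n with
  | zero => exact ⟨1, one_mem _, by simp⟩
  | succ n ih =>
    obtain ⟨m, hm, he⟩ := ih
    refine ⟨m * (x ^ n * l * (x ^ n)⁻¹), mul_mem hm ?_, ?_⟩
    · exact (mem_normalizer_iff.1 (pow_mem hx n) l).1 hl
    · rw [pow_succ, he, pow_succ]; group

theorem triv_mod {W : Subgroup G} {x y r : G} (hx : x ∈ W) (hy : y ∈ W)
    (hW : W ≤ closure {x, y}) {z : G} (hz : x * y * x⁻¹ = z * y) (hzc : z ∈ 𝓒(W)) {i j : ℤ}
    (hi : r * x * r⁻¹ = z ^ i * x) (hj : r * y * r⁻¹ = z ^ j * y) :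
    ∃ w ∈ W, w⁻¹ * r ∈ 𝓒(W) := by
  have zx : Commute z x := (mem_cz.1 hzc x hx).symm
  have zy : Commute z y := (mem_cz.1 hzc y hy).symm
  have h1 : ∀ k : ℤ, x * y ^ k * x⁻¹ = z ^ k * y ^ k := by
    intro k
    rw [← conj_zpow, hz, zy.mul_zpow]
  have h2 : ∀ k : ℤ, y * x ^ k * y⁻¹ = z ^ (-k) * x ^ k := by
    intro k
    have h3 : y * x * y⁻¹ = z⁻¹ * x := by
      have h4 : x * y = z * y * x := by rw [← hz]; group
      have h5 : y * x = z⁻¹ * (x * y) := by rw [h4]; group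
      rw [h5]; group
    rw [← conj_zpow, h3, (zx.inv_left).mul_zpow, inv_zpow, zpow_neg]
  set w := x ^ j * y ^ (-i) with hw
  have hwx : w * x * w⁻¹ = z ^ i * x := by
    have h3 : y ^ (-i) * x * (y ^ (-i))⁻¹ = z ^ i * x := by
      have h4 : x * y ^ (-i) = z ^ (-i) * y ^ (-i) * x := by rw [← h1 (-i)]; group
      have h5 : y ^ (-i) * x = z ^ i * (x * y ^ (-i)) := by rw [h4]; group
      rw [h5]; group
    have h6 : w * x * w⁻¹ = x ^ j * (y ^ (-i) * x * (y ^ (-i))⁻¹) * (x ^ j)⁻¹ := by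
      rw [hw]; group
    rw [h6, h3]
    have h7 : Commute (x ^ j) (z ^ i * x) :=
      ((zx.symm.zpow_zpow j i)).mul_right ((Commute.refl x).zpow_left j)
    rw [h7.eq, mul_inv_cancel_right]
  have hwy : w * y * w⁻¹ = z ^ j * y := by
    have h6 : w * y * w⁻¹ = x ^ j * y * (x ^ j)⁻¹ := by
      rw [hw]; group
    have h4 : y * x ^ j = z ^ (-j) * x ^ j * y := by rw [← h2 j]; group
    have h5 : x ^ j * y = z ^ j * (y * x ^ j) := by rw [h4]; group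
    rw [h6, h5]; group
  refine ⟨w, mul_mem (zpow_mem hx _) (zpow_mem hy _), ?_⟩
  have hcl : closure {x, y} ≤ 𝓒(zpowers (w⁻¹ * r)) := by
    rw [closure_le]
    intro u hu
    have hcomm : w⁻¹ * r * u = u * (w⁻¹ * r) := by
      rcases hu with h | h
      · rw [h]
        have h8 : r * x = w * x * w⁻¹ * r := by rw [hwx, ← hi]; group
        calc w⁻¹ * r * x = w⁻¹ * (r * x) := by group
          _ = w⁻¹ * (w * x * w⁻¹ * r) := by rw [h8]
          _ = x * (w⁻¹ * r) := by group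
      · rw [Set.mem_singleton_iff] at h
        rw [h]
        have h8 : r * y = w * y * w⁻¹ * r := by rw [hwy, ← hj]; group
        calc w⁻¹ * r * y = w⁻¹ * (r * y) := by group
          _ = w⁻¹ * (w * y * w⁻¹ * r) := by rw [h8]
          _ = y * (w⁻¹ * r) := by group
    show u ∈ 𝓒(zpowers (w⁻¹ * r))
    rw [mem_cz]
    rintro _ ⟨k, rfl⟩
    exact ((show Commute (w⁻¹ * r) u from hcomm).zpow_left k).eq
  have h9 := le_cz_comm.1 (hW.trans hcl)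
  exact h9 (mem_zpowers _)

theorem comp_rank2 {t w l z l₁ m : G} {g α : ℕ} (h1 : t * w * t⁻¹ = l * w)
    (h2 : w * l * w⁻¹ = z * l) (zw : Commute z w) (zl : Commute z l) (tl : Commute t l)
    (tl₁ : Commute t l₁) (ml₁ : Commute m l₁) (zl₁ : Commute z l₁)
    (e1 : t ^ g * (l₁ * w ^ α) * (t ^ g)⁻¹ = m * (l₁ * w ^ α))
    (e2 : (l₁ * w ^ α) * m * (l₁ * w ^ α)⁻¹ = z ^ g * m) : z ^ g = z ^ (g * α ^ 2) := by
  have a1 := conj_pow_of h1 tl g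
  have a2 : ∀ n k : ℕ, w ^ k * l ^ n * (w ^ k)⁻¹ = z ^ (k * n) * l ^ n := by
    intro n k
    have h3 := conj_pow_of h2 zw.symm k
    rw [← conj_pow, h3, (zl.pow_left k).mul_pow, ← pow_mul]
  have a3 : (l ^ g * w) ^ α = m * w ^ α := by
    have h3 : t ^ g * (l₁ * w ^ α) * (t ^ g)⁻¹
        = (t ^ g * l₁ * (t ^ g)⁻¹) * (t ^ g * w * (t ^ g)⁻¹) ^ α := by
      rw [conj_pow]; group
    rw [h3, a1, (tl₁.pow_left g).eq, mul_inv_cancel_right, ← mul_assoc, ml₁.eq, mul_assoc] at e1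
    exact mul_left_cancel e1
  have a4 : ∃ c : ℕ, (l ^ g * w) ^ α = z ^ c * l ^ (g * α) * w ^ α := by
    clear e1 e2 a3
    induction α with
    | zero => exact ⟨0, by simp⟩
    | succ n ih =>
      obtain ⟨c, hc⟩ := ih
      refine ⟨c + n * g, ?_⟩
      have h3 : w ^ n * l ^ g = z ^ (n * g) * l ^ g * w ^ n := by rw [← a2 g n]; group
      have h4 : Commute (l ^ (g * n)) (z ^ (n * g)) := (zl.symm.pow_pow _ _)
      calc (l ^ g * w) ^ (n + 1) = z ^ c * l ^ (g * n) * (w ^ n * l ^ g) * w := by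
            rw [pow_succ, hc]; group
        _ = z ^ c * (l ^ (g * n) * z ^ (n * g)) * l ^ g * (w ^ n * w) := by rw [h3]; group
        _ = z ^ (c + n * g) * (l ^ (g * n) * l ^ g) * w ^ (n + 1) := by
            rw [h4.eq, pow_add, ← pow_succ]; group
        _ = _ := by rw [← pow_add, Nat.mul_succ]
  obtain ⟨c, hc⟩ := a4
  have hm : m = z ^ c * l ^ (g * α) := by
    rw [a3] at hc
    exact mul_right_cancel hc
  have b1 : w ^ α * m * (w ^ α)⁻¹ = z ^ (g * α ^ 2) * m := by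
    have h3 : w ^ α * m * (w ^ α)⁻¹
        = (w ^ α * z ^ c * (w ^ α)⁻¹) * (w ^ α * l ^ (g * α) * (w ^ α)⁻¹) := by
      rw [hm]; group
    rw [h3, a2, ((zw.symm.pow_pow α c)).eq, mul_inv_cancel_right, hm, ← mul_assoc,
      ← pow_add, ← mul_assoc (z ^ (g * α ^ 2)), ← pow_add]
    congr 2
    ring
  have b2 : (l₁ * w ^ α) * m * (l₁ * w ^ α)⁻¹ = z ^ (g * α ^ 2) * m := by
    have h3 : (l₁ * w ^ α) * m * (l₁ * w ^ α)⁻¹ = l₁ * (w ^ α * m * (w ^ α)⁻¹) * l₁⁻¹ := by group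
    have h4 : Commute l₁ (z ^ (g * α ^ 2) * m) := (zl₁.symm.pow_right _).mul_right ml₁.symm
    rw [h3, b1, h4.eq, mul_inv_cancel_right]
  rw [b2] at e2
  exact (mul_right_cancel e2).symm

end

section
variable {G : Type u} [Group G] [Finite G]

theorem maschke_sec {p : ℕ} (hp : p.Prime) {T A X C : Subgroup G} (hCT : C ≤ T)
    (hTC : T ≤ 𝓝(C)) (hAC : A ≤ 𝓝(C)) (hab : ⁅T, T⁆ ≤ C) (hpw : ∀ t ∈ T, t ^ p ∈ C)
    (hAT : A ≤ 𝓝(T)) (hA : (Nat.card A).Coprime p) (hCX : C ≤ X) (hXT : X ≤ T)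
    (hAX : A ≤ 𝓝(X)) : ∃ K, C ≤ K ∧ K ≤ T ∧ A ≤ 𝓝(K) ∧ X ⊓ K = C ∧ X ⊔ K = T := by
  have hV : IsElementaryAbelian p (qm C T) := by
    rw [elab_iff]
    refine ⟨(qm_cz_iff hTC hTC).2 hab, ?_⟩
    intro y hy
    obtain ⟨x, hx, hxT, rfl⟩ := mem_qm.1 hy
    rw [← qe_pow hx]
    exact (qe_eq_one _).2 (hpw x hxT)
  obtain ⟨K', hK'T, hAK', hinf, hsup⟩ := maschke_rel hp hV (qm_nz hAT)
    (Nat.Coprime.coprime_dvd_left (qm_card_dvd hAC) hA) (qm_mono hXT) (qm_nz (N := C) hAX)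
  have e1 : pull C (qm C T) = T := pull_qm hCT hTC
  have hKT : pull C K' ≤ T := by rw [← e1]; exact pull_mono hK'T
  have hXC : X ≤ 𝓝(C) := hXT.trans hTC
  refine ⟨pull C K', le_pull, hKT, pull_nz hAC hAK', ?_, ?_⟩
  · apply le_antisymm
    · intro x hx
      obtain ⟨hx1, hx2⟩ := mem_pull.1 (mem_inf.1 hx).2
      have h1 : qe C hx1 ∈ qm C X ⊓ K' := mem_inf.2 ⟨qe_mem _ (mem_inf.1 hx).1, hx2⟩
      rw [hinf, mem_bot] at h1
      exact (qe_eq_one _).1 h1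
    · exact le_inf hCX le_pull
  · apply le_antisymm (sup_le hXT hKT)
    have h1 : qm C T ≤ qm C (X ⊔ pull C K') := by
      rw [qm_sup hXC pull_le_nz, qm_pull, hsup]
    have h2 := (qm_le_iff hTC (sup_le hXC pull_le_nz)).1 h1
    exact h2.trans (sup_le le_rfl (le_pull.trans le_sup_right))

theorem exists_gen_p3 {p : ℕ} (hp : p.Prime) {W : Subgroup G} (hW : IsPGroup p W)
    (hc : Nat.card W = p ^ 3) (hn : ¬ W ≤ 𝓒(W)) :
    ∃ x ∈ W, ∃ y ∈ W, closure {x, y} = W ∧ x * y ≠ y * x := by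
  have h : ∃ y ∈ W, ∃ x ∈ W, x * y ≠ y * x := by
    by_contra hcon
    push Not at hcon
    exact hn fun y hy => mem_cz.2 fun x hx => hcon y hy x hx
  obtain ⟨y, hy, x, hx, hne⟩ := h
  refine ⟨x, hx, y, hy, ?_, hne⟩
  have hle : closure {x, y} ≤ W := by
    rw [closure_le]
    rintro u (rfl | rfl)
    · exact hx
    · exact hy
  by_contra hne'
  have hlt : closure {x, y} < W := lt_of_le_of_ne hle hne'
  have h1 := card_le_of_lt hp (k := 2) hW hlt (le_of_eq hc)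
  have h2 := comm_of_card_p2 hp (hW.to_le hle) h1
  apply hne
  have hx' : x ∈ closure {x, y} := subset_closure (by simp)
  have hy' : y ∈ closure {x, y} := subset_closure (by simp)
  exact congrArg Subtype.val (h2.1.comm ⟨x, hx'⟩ ⟨y, hy'⟩)

theorem rank2_main {p : ℕ} (hp : p.Prime) (h3 : 3 < p) {R A W : Subgroup G} (hR : IsPGroup p R)
    (hA : A ≤ 𝓝(R)) (hcop : (Nat.card A).Coprime p) (hodd : Odd (Nat.card A))
    (hRA : ⁅R, A⁆ = R) (hWR : W ≤ R) (hW : ∀ x ∈ R, x ^ p = 1 ↔ x ∈ W)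
    (hWc : Nat.card W = p ^ 3) (hWn : ¬ W ≤ 𝓒(W)) : W ⊔ (R ⊓ 𝓒(W)) = R := by
  have hp2 : p ≠ 2 := by omega
  haveI : Fact p.Prime := ⟨hp⟩
  have hWp := hR.to_le hWR
  obtain ⟨hZ, hZc⟩ := nonab_p3 hp hWp hWc hWn
  by_contra hne
  have hcard1 : 1 < p ^ 3 := Nat.one_lt_pow (by norm_num) hp.one_lt
  have hRW : R ≤ 𝓝(W) := by
    rw [le_nz]
    intro r hr w hw
    rw [← hW _ (mul_mem (mul_mem hr (hWR hw)) (inv_mem hr)), conj_pow, (hW w (hWR hw)).2 hw]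
    group
  have hAW : A ≤ 𝓝(W) := by
    rw [le_nz]
    intro r hr w hw
    rw [← hW _ (le_nz.1 hA r hr w (hWR hw)), conj_pow, (hW w (hWR hw)).2 hw]
    group
  set Z := ⁅W, W⁆ with hZdef
  set L := ⁅W, R⁆ with hLdef
  have hLW : L ≤ W := comm_le_left hRW
  have hZL : Z ≤ L := commutator_mono le_rfl hWR
  have hZW : Z ≤ W := hZL.trans hLW
  have hZC : Z ≤ 𝓒(W) := by rw [hZ]; exact inf_le_right
  have hW1 : W ≠ ⊥ := by
    intro h; rw [h, card_bot] at hWc; omega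
  have hLlt : L < W := pgroup_comm_lt hp hR hWR hRW hW1
  have hLc := card_le_of_lt hp (k := 2) hWp hLlt (le_of_eq hWc)
  have hRL : R ≤ 𝓝(L) := right_le_nz_comm W R
  have hAL : A ≤ 𝓝(L) := le_nz_comm hAW hA
  have hWL : W ≤ 𝓝(L) := hWR.trans hRL
  have hfix : ∀ r ∈ R, (∀ w ∈ W, r * w * r⁻¹ * w⁻¹ ∈ Z) → r ∈ W ⊔ (R ⊓ 𝓒(W)) := by
    intro r hr hrw
    obtain ⟨x, hx, y, hy, hcl, hxy⟩ := exists_gen_p3 hp hWp hWc hWn
    set z := x * y * x⁻¹ * y⁻¹ with hz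
    have hzZ : z ∈ Z := commutator_mem_commutator hx hy
    have hz1 : z ≠ 1 := by
      intro h
      apply hxy
      have h1 : x * y = (x * y * x⁻¹ * y⁻¹) * (y * x) := by group
      rw [h1, ← hz, h, one_mul]
    have hgen : ∀ v ∈ Z, ∃ k : ℤ, z ^ k = v := by
      intro v hv
      have h1 := mem_zpowers_of_prime_card (G := Z) (g := ⟨z, hzZ⟩) (g' := ⟨v, hv⟩) hZc
        (fun h => hz1 (congrArg Subtype.val h))
      obtain ⟨k, hk⟩ := mem_zpowers_iff.1 h1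
      exact ⟨k, congrArg Subtype.val hk⟩
    obtain ⟨i, hi⟩ := hgen _ (hrw x hx)
    obtain ⟨j, hj⟩ := hgen _ (hrw y hy)
    obtain ⟨w, hw, hwr⟩ := triv_mod (W := W) (x := x) (y := y) (r := r) hx hy hcl.ge
      (z := z) (i := i) (j := j) (by rw [hz]; group) (hZC hzZ) (by rw [hi]; group)
      (by rw [hj]; group)
    have h1 : r = w * (w⁻¹ * r) := by group
    rw [h1]
    exact mul_mem (mem_sup_left hw)
      (mem_sup_right (mem_inf.2 ⟨mul_mem (inv_mem (hWR hw)) hr, hwr⟩))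
  have hLZ : ¬ L ≤ Z := by
    intro h
    apply hne
    apply le_antisymm (sup_le hWR inf_le_left)
    intro r hr
    apply hfix r hr
    intro w hw
    apply h
    rw [hLdef, commutator_comm]
    exact commutator_mem_commutator hr hw
  have hLc2 : Nat.card L = p ^ 2 := by
    have hLp := hR.to_le (hLW.trans hWR)
    obtain ⟨k, hk⟩ := IsPGroup.iff_card.1 hLp
    have h1 : Nat.card Z < Nat.card L := by
      by_contra hcon
      exact hLZ (eq_of_card_le hZL (not_lt.1 hcon)).ge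
    rw [hZc, hk] at h1
    rw [hk] at hLc ⊢
    have h2 : p ^ 1 < p ^ k := by rwa [pow_one]
    have h4 := (Nat.pow_lt_pow_iff_right hp.one_lt).1 h2
    have h5 := (Nat.pow_le_pow_iff_right hp.one_lt).1 hLc
    have h6 : k = 2 := by omega
    rw [h6]
  have hLab : L ≤ 𝓒(L) := comm_iff_le_cz.1
    (comm_of_card_p2 hp (hR.to_le (hLW.trans hWR)) (le_of_eq hLc2))
  have hLe : IsElementaryAbelian p L :=
    elab_iff.2 ⟨hLab, fun x hx => (hW x (hWR (hLW hx))).2 (hLW hx)⟩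
  set T := R ⊓ 𝓒(L) with hT
  have hTR : T ≤ R := inf_le_left
  have hRT : Nat.card R ≤ p * Nat.card T := cz_p2 hp hR (hLW.trans hWR) hRL hLe hLc2
  have hLT : L ≤ T := le_inf (hLW.trans hWR) hLab
  have hLW' : ∀ l ∈ L, l ∈ 𝓒(W) → l ∈ Z := by
    intro l hl hlc
    rw [hZ]; exact mem_inf.2 ⟨hLW hl, hlc⟩
  have hWT : ¬ W ≤ T := by
    intro h
    apply hLZ
    intro l hl
    exact hLW' l hl (le_cz_comm.1 (h.trans inf_le_right) hl)
  have hTW : T ⊓ W = L := by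
    symm
    apply eq_of_card_le (le_inf hLT hLW)
    rw [hLc2]
    apply card_le_of_lt hp (k := 2) hWp _ (le_of_eq hWc)
    refine lt_of_le_of_ne inf_le_right fun h => hWT ?_
    rw [← h]; exact inf_le_left
  set C := R ⊓ 𝓒(W) with hC
  have hCT : C ≤ T := inf_le_inf_left _ (cz_anti hLW)
  have hCR : C ≤ R := inf_le_left
  obtain ⟨w₀, hw₀, hw₀T⟩ := SetLike.not_le_iff_exists.1 hWT
  have hw₀L : w₀ ∉ L := fun h => hw₀T (hLT h)
  have hw₀R := hWR hw₀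
  have hWel : ∀ w ∈ W, ∃ i : ℕ, ∃ l ∈ L, w = l * w₀ ^ i := fun w hw =>
    exists_mul_pow hp hWL hLW hWp (by rw [hWc, hLc2]; exact le_of_eq (by ring)) hw₀ hw₀L hw
  have hRT' : R ≤ 𝓝(T) := le_nz_inf le_normalizer (le_nz_cz hRL)
  have hAT : A ≤ 𝓝(T) := le_nz_inf hA (le_nz_cz hAL)
  have hRel : ∀ r ∈ R, ∃ i : ℕ, ∃ t ∈ T, r = t * w₀ ^ i := fun r hr =>
    exists_mul_pow hp hRT' hTR hR hRT hw₀R hw₀T hr
  have hcW : ∀ t : G, t ∈ 𝓒(L) → Commute t w₀ → t ∈ 𝓒(W) := by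
    intro t htL htw
    rw [mem_cz]
    intro w hw
    obtain ⟨i, l, hl, rfl⟩ := hWel w hw
    exact (((show Commute l t from mem_cz.1 htL l hl)).mul_left (htw.symm.pow_left i)).eq
  have hfL : ∀ t ∈ T, w₀⁻¹ * (t * w₀ * t⁻¹) ∈ L := by
    intro t ht
    have h1 : w₀⁻¹ * (t * w₀ * t⁻¹) = ⁅w₀⁻¹, t⁆ := by rw [commutatorElement_def]; group
    rw [h1]
    exact commutator_mem_commutator (inv_mem hw₀) (hTR ht)
  let f : T →* G := MonoidHom.mk' (fun t => w₀⁻¹ * ((t : G) * w₀ * (t : G)⁻¹)) (by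
    rintro ⟨s, hs⟩ ⟨t, ht⟩
    show w₀⁻¹ * ((s * t) * w₀ * (s * t)⁻¹) = (w₀⁻¹ * (s * w₀ * s⁻¹)) * (w₀⁻¹ * (t * w₀ * t⁻¹))
    have h1 : Commute (w₀⁻¹ * (t * w₀ * t⁻¹)) s⁻¹ :=
      (show Commute (w₀⁻¹ * (t * w₀ * t⁻¹)) s from
        mem_cz.1 (mem_inf.1 hs).2 _ (hfL t ht)).inv_right
    calc w₀⁻¹ * ((s * t) * w₀ * (s * t)⁻¹)
        = w₀⁻¹ * s * w₀ * ((w₀⁻¹ * (t * w₀ * t⁻¹)) * s⁻¹) := by group
      _ = _ := by rw [h1.eq]; group)
  have hf : ∀ t : T, f t = w₀⁻¹ * ((t : G) * w₀ * (t : G)⁻¹) := fun t => rfl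
  have hker : ∀ t : T, f t = 1 → (t : G) ∈ C := by
    intro t ht
    refine mem_inf.2 ⟨hTR t.2, hcW t (mem_inf.1 t.2).2 ?_⟩
    rw [hf] at ht
    have h1 : (t : G) * w₀ = w₀ * (w₀⁻¹ * ((t : G) * w₀ * (t : G)⁻¹)) * t := by group
    show (t : G) * w₀ = w₀ * t
    rw [h1, ht, mul_one]
  have hTT : ⁅T, T⁆ ≤ C := by
    rw [commutator_le]
    intro s hs t ht
    have h1 : f ⁅(⟨s, hs⟩ : T), (⟨t, ht⟩ : T)⁆ = 1 := by
      rw [map_commutatorElement, commutatorElement_eq_one_iff_mul_comm]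
      exact mem_cz.1 (hLab (hfL t ht)) _ (hfL s hs)
    exact hker _ h1
  have hTp : ∀ t ∈ T, t ^ p ∈ C := by
    intro t ht
    have h1 : f ((⟨t, ht⟩ : T) ^ p) = 1 := by
      rw [map_pow]
      exact (hW _ (hWR (hLW (hfL t ht)))).2 (hLW (hfL t ht))
    exact hker _ h1
  have hRC : R ≤ 𝓝(C) := le_nz_inf le_normalizer (le_nz_cz hRW)
  have hAC : A ≤ 𝓝(C) := le_nz_inf hA (le_nz_cz hAW)
  obtain ⟨K, hCK, hKT, hAK, hXK, hXKs⟩ := maschke_sec hp (X := L ⊔ C) hCT (hTR.trans hRC) hAC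
    hTT hTp hAT hcop le_sup_right (sup_le hLT hCT) (le_nz_sup hAL hAC)
  have hKW : ∀ x ∈ K, x ∈ W → x ∈ Z := by
    intro x hxK hxW
    have h1 : x ∈ L := by rw [← hTW]; exact mem_inf.2 ⟨hKT hxK, hxW⟩
    have h2 : x ∈ C := by rw [← hXK]; exact mem_inf.2 ⟨mem_sup_left h1, hxK⟩
    exact hLW' x h1 (mem_inf.1 h2).2
  have hKcyc : IsCyclic K := by
    by_contra hnc
    obtain ⟨E, hE, hEe, hEc⟩ := exists_elab2 hp hp2 (hR.to_le (hKT.trans hTR)) hnc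
    have h1 : E ≤ Z := fun x hx => hKW x (hE hx)
      ((hW x (hTR (hKT (hE hx)))).1 (hEe.2 x hx))
    have h2 := Nat.le_of_dvd Nat.card_pos (card_dvd_of_le h1)
    rw [hEc, hZc] at h2
    have := p_lt_p2 hp
    omega
  obtain ⟨⟨t, htK⟩, ht⟩ := hKcyc.exists_generator
  have hKt : ∀ k ∈ K, ∃ n : ℕ, t ^ n = k := by
    intro k hk
    have h1 := mem_powers_iff_mem_zpowers.2 (ht ⟨k, hk⟩)
    obtain ⟨n, hn⟩ := (Submonoid.mem_powers_iff _ _).1 h1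
    exact ⟨n, congrArg Subtype.val hn⟩
  have htT := hKT htK
  have htR := hTR htT
  have htn : t ∉ W ⊔ C := by
    intro h
    apply hne
    have h1 : t ∈ L ⊔ C := by
      obtain ⟨w, hw, c, hc, rfl⟩ := (mem_sup_of_nz (hWR.trans hRC)).1 h
      have h2 : w ∈ T ⊓ W := by
        refine mem_inf.2 ⟨?_, hw⟩
        have h4 := mul_mem htT (inv_mem (hCT hc))
        rwa [mul_inv_cancel_right] at h4
      rw [hTW] at h2
      exact mul_mem (mem_sup_left h2) (mem_sup_right hc)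
    have h2 : K ≤ L ⊔ C := by
      intro k hk
      obtain ⟨n, rfl⟩ := hKt k hk
      exact pow_mem h1 n
    rw [sup_eq_left.2 h2] at hXKs
    apply le_antisymm (sup_le hWR hCR)
    intro r hr
    obtain ⟨i, s, hs, rfl⟩ := hRel r hr
    refine mul_mem ?_ (mem_sup_left (pow_mem hw₀ i))
    rw [← hXKs] at hs
    exact (sup_le_sup_right hLW C) hs
  set l := t * w₀ * t⁻¹ * w₀⁻¹ with hl
  have hlL : l ∈ L := by
    rw [hLdef, commutator_comm]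
    exact commutator_mem_commutator htR hw₀
  have htL : t ∈ 𝓒(L) := (mem_inf.1 htT).2
  have htw : t * w₀ * t⁻¹ = l * w₀ := by rw [hl]; group
  have hlZ : l ∉ Z := by
    intro hlz
    apply htn
    apply hfix t htR
    intro w hw
    obtain ⟨i, l', hl', rfl⟩ := hWel w hw
    have h1 : t * (l' * w₀ ^ i) * t⁻¹ = (t * l' * t⁻¹) * (t * w₀ * t⁻¹) ^ i := by
      rw [conj_pow]; group
    have h2 : t * l' * t⁻¹ = l' := by rw [← mem_cz.1 htL l' hl', mul_inv_cancel_right]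
    have h4 : Commute l w₀ := (mem_cz.1 (hZC hlz) w₀ hw₀).symm
    have h5 : Commute l' (l ^ i) := (show Commute l' l from mem_cz.1 (hLab hlL) l' hl').pow_right i
    have h6 : l' * (l ^ i * w₀ ^ i) * (l' * w₀ ^ i)⁻¹ = l ^ i := by
      calc l' * (l ^ i * w₀ ^ i) * (l' * w₀ ^ i)⁻¹ = (l' * l ^ i) * l'⁻¹ := by group
        _ = l ^ i := by rw [h5.eq, mul_inv_cancel_right]
    rw [h1, h2, htw, h4.mul_pow, h6]
    exact pow_mem hlz i
  set z := w₀ * l * w₀⁻¹ * l⁻¹ with hz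
  have hzZ : z ∈ Z := commutator_mem_commutator hw₀ (hLW hlL)
  have hzw : w₀ * l * w₀⁻¹ = z * l := by rw [hz]; group
  have hz1 : z ≠ 1 := by
    intro h
    apply hlZ
    apply hLW' l hlL
    apply hcW l (hLab hlL)
    show l * w₀ = w₀ * l
    rw [h, one_mul] at hzw
    calc l * w₀ = (w₀ * l * w₀⁻¹) * w₀ := by rw [hzw]
      _ = w₀ * l := by group
  have hzC := hZC hzZ
  have hzp : z ^ p = 1 := (hW z (hWR (hZW hzZ))).2 (hZW hzZ)
  have hzo : orderOf z = p := orderOf_eq_prime hzp hz1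
  have hzK : z ∈ K := hCK (mem_inf.2 ⟨hWR (hZW hzZ), hzC⟩)
  have hwp : w₀ ^ p = 1 := (hW w₀ hw₀R).2 hw₀
  have hkey : ∀ a ∈ A, ∃ m ∈ L, (a ^ 2) * w₀ * (a ^ 2)⁻¹ = m * w₀ := by
    intro a ha
    obtain ⟨g, hg⟩ := hKt _ (le_nz.1 hAK a ha t htK)
    obtain ⟨α, l₁, hl₁, hα⟩ := hWel _ (le_nz.1 hAW a ha w₀ hw₀)
    obtain ⟨k, hk⟩ := hKt z hzK
    have haz : a * z * a⁻¹ = z ^ g := by
      rw [← hk, ← conj_pow, ← hg, ← pow_mul, ← pow_mul, mul_comm]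
    set m := a * l * a⁻¹ with hm
    have hmL : m ∈ L := le_nz.1 hAL a ha l hlL
    have e1 : t ^ g * (l₁ * w₀ ^ α) * (t ^ g)⁻¹ = m * (l₁ * w₀ ^ α) := by
      rw [← hα, hg]
      calc a * t * a⁻¹ * (a * w₀ * a⁻¹) * (a * t * a⁻¹)⁻¹ = a * (t * w₀ * t⁻¹) * a⁻¹ := by group
        _ = _ := by rw [htw, hm]; group
    have e2 : (l₁ * w₀ ^ α) * m * (l₁ * w₀ ^ α)⁻¹ = z ^ g * m := by
      rw [← hα, ← haz, hm]
      calc a * w₀ * a⁻¹ * (a * l * a⁻¹) * (a * w₀ * a⁻¹)⁻¹ = a * (w₀ * l * w₀⁻¹) * a⁻¹ := by group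
        _ = _ := by rw [hzw]; group
    have hzg := comp_rank2 (t := t) (w := w₀) (l := l) (z := z) (l₁ := l₁) (m := m)
      (g := g) (α := α) htw hzw (mem_cz.1 hzC w₀ hw₀).symm (mem_cz.1 hzC l (hLW hlL)).symm
      (mem_cz.1 htL l hlL).symm (mem_cz.1 htL l₁ hl₁).symm
      (mem_cz.1 (hLab hl₁) m hmL) (mem_cz.1 hzC l₁ (hLW hl₁)).symm e1 e2
    have hpg : ¬ p ∣ g := by
      rintro ⟨c, rfl⟩
      rw [pow_mul, hzp, one_pow] at haz
      apply hz1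
      have : z = a⁻¹ * (a * z * a⁻¹) * a := by group
      rw [this, haz]; group
    have h1 : g ≡ g * α ^ 2 [MOD p] := by
      have := pow_eq_pow_iff_modEq.1 hzg
      rwa [hzo] at this
    have h2 : 1 ≡ α ^ 2 [MOD p] := by
      apply Nat.ModEq.cancel_left_of_coprime (c := g)
        (Nat.coprime_iff_gcd_eq_one.1 ((Nat.Prime.coprime_iff_not_dvd hp).2 hpg))
      rwa [mul_one]
    have h4 : w₀ ^ (α ^ 2) = w₀ := by
      have h5 : w₀ ^ (α ^ 2) = w₀ ^ 1 := by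
        rw [pow_eq_pow_iff_modEq]
        exact (h2.symm).of_dvd (orderOf_dvd_of_pow_eq_one hwp)
      rw [h5, pow_one]
    obtain ⟨m', hm', he'⟩ := mul_pow_mod hl₁ (pow_mem (hWL hw₀) α) α
    refine ⟨(a * l₁ * a⁻¹) * m', mul_mem (le_nz.1 hAL a ha l₁ hl₁) hm', ?_⟩
    have h5 : a ^ 2 * w₀ * (a ^ 2)⁻¹ = a * (a * w₀ * a⁻¹) * a⁻¹ := by rw [pow_two]; group
    have h6 : a * (l₁ * w₀ ^ α) * a⁻¹ = (a * l₁ * a⁻¹) * (a * w₀ * a⁻¹) ^ α := by
      rw [conj_pow]; group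
    rw [h5, hα, h6, hα, he', ← pow_mul, ← pow_two, h4]; group
  have hkey2 : ∀ a ∈ A, ∃ m ∈ L, a * w₀ * a⁻¹ = m * w₀ := by
    intro a ha
    have h1 : Odd (orderOf a) := by
      have h2 : orderOf a ∣ Nat.card A := by
        have := orderOf_dvd_natCard (⟨a, ha⟩ : A)
        rwa [Subgroup.orderOf_mk] at this
      exact hodd.of_dvd_nat h2
    obtain ⟨k, hk⟩ := h1
    have h2 : a = (a ^ (k + 1)) ^ 2 := by
      rw [← pow_mul]
      have h4 : (k + 1) * 2 = orderOf a + 1 := by omega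
      rw [h4, pow_succ, pow_orderOf_eq_one, one_mul]
    obtain ⟨m, hm, he⟩ := hkey _ (pow_mem ha (k + 1))
    rw [← h2] at he
    exact ⟨m, hm, he⟩
  have hfin : ⁅R, A⁆ ≤ T := by
    rw [commutator_le]
    intro r hr a ha
    obtain ⟨i, s, hs, rfl⟩ := hRel r hr
    have h1 : ⁅s * w₀ ^ i, a⁆ = s * (w₀ ^ i * (a * w₀ ^ i * a⁻¹)⁻¹) * (a * s * a⁻¹)⁻¹ := by
      rw [commutatorElement_def]; group
    rw [h1]
    obtain ⟨m, hm, he⟩ := hkey2 a ha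
    obtain ⟨m', hm', he'⟩ := mul_pow_mod hm (hWL hw₀) i
    have h2 : w₀ ^ i * (a * w₀ ^ i * a⁻¹)⁻¹ ∈ T := by
      rw [← conj_pow, he, he', mul_inv_rev, mul_inv_cancel_left]
      exact inv_mem (hLT hm')
    exact mul_mem (mul_mem hs h2) (inv_mem (le_nz.1 hAT a ha s hs))
  rw [hRA] at hfin
  exact hWT (hWR.trans hfin)

/-- B & G 4.16, the first claim -/
theorem rank2_gt3 {p : ℕ} (hp : p.Prime) (hp2 : p ≠ 2) {R A : Subgroup G} (hR : IsPGroup p R)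
    (hR1 : R ≠ ⊥) (hr : PRankLE p 2 R) (hA : A ≤ 𝓝(R)) (hcop : (Nat.card A).Coprime p)
    (hodd : Odd (Nat.card A)) (hRA : ⁅R, A⁆ = R) : 3 < p := by
  by_contra h3
  have hp3 : p = 3 := by
    have := hp.two_le
    omega
  subst hp3
  apply hR1
  rw [← hRA, comm_eq_bot_iff, le_cz_comm]
  intro a ha
  have h2 : orderOf a ∣ Nat.card A := by
    have := orderOf_dvd_natCard (⟨a, ha⟩ : A)
    rwa [Subgroup.orderOf_mk] at this
  have h4 : (orderOf a).Coprime 2 := (Nat.coprime_two_right.2 (hodd.of_dvd_nat h2))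
  exact rk2_primes hp hp2 hR hr hA ha (Nat.Coprime.coprime_dvd_left h2 hcop) h4
    (by
      have h5 : (3 : ℕ) + 1 = 2 * 2 := by norm_num
      rw [h5]; exact Nat.Coprime.mul_right h4 h4)

/-- B & G 4.16 -/
theorem rank2_struct {p : ℕ} (hp : p.Prime) (hp2 : p ≠ 2) {R A : Subgroup G} (hR : IsPGroup p R)
    (hR1 : R ≠ ⊥) (hr : PRankLE p 2 R) (hA : A ≤ 𝓝(R)) (hcop : (Nat.card A).Coprime p)
    (hodd : Odd (Nat.card A)) (hRA : ⁅R, A⁆ = R) :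
    3 < p ∧ (IsMulCommutative R ∨ ∃ W ≤ R, (∀ x ∈ R, x ^ p = 1 ↔ x ∈ W) ∧ Nat.card W = p ^ 3 ∧
      ¬ W ≤ 𝓒(W) ∧ W ⊔ (R ⊓ 𝓒(W)) = R ∧ IsCyclic ↥(R ⊓ 𝓒(W))) := by
  have h3 := rank2_gt3 hp hp2 hR hR1 hr hA hcop hodd hRA
  haveI : Fact p.Prime := ⟨hp⟩
  refine ⟨h3, ?_⟩
  obtain ⟨W, hWR, hW, hWc⟩ := om_struct hp h3 hR hr
  have hWp := hR.to_le hWR
  obtain ⟨k, hk⟩ := IsPGroup.iff_card.1 hWp
  have hk3 : k ≤ 3 := by
    rw [hk] at hWc
    exact (Nat.pow_le_pow_iff_right hp.one_lt).1 hWc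
  rcases Nat.lt_or_ge k 3 with hk2 | hk2
  · left
    rw [comm_iff_le_cz]
    refine pq_ab hp hp2 _ G R A rfl hR (pq_of_pe hp h3 _ G R rfl hR ?_) hA hcop hRA
    intro D hDR hDx
    have h1 : D ≤ W := fun x hx => (hW x (hDR hx)).1 (hDx x hx)
    have h2 := Nat.le_of_dvd Nat.card_pos (card_dvd_of_le h1)
    rw [hk] at h2
    exact h2.trans (Nat.pow_le_pow_right hp.pos (by omega))
  · right
    have hk' : k = 3 := by omega
    rw [hk'] at hk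
    have hWn : ¬ W ≤ 𝓒(W) := by
      intro h
      have h1 : IsElementaryAbelian p W := elab_iff.2 ⟨h, fun x hx => (hW x (hWR hx)).2 hx⟩
      have h2 := rank_iff.1 hr W hWR h1
      rw [hk] at h2
      have h4 := (Nat.pow_le_pow_iff_right hp.one_lt).1 h2
      omega
    refine ⟨W, hWR, hW, hk, hWn, rank2_main hp h3 hR hA hcop hodd hRA hWR hW hk hWn, ?_⟩
    by_contra hnc
    obtain ⟨E, hE, hEe, hEc⟩ := exists_elab2 hp hp2 (hR.to_le inf_le_left) hnc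
    obtain ⟨hZ, hZc⟩ := nonab_p3 hp hWp hk hWn
    have h1 : E ≤ ⁅W, W⁆ := by
      intro x hx
      rw [hZ]
      exact mem_inf.2 ⟨(hW x (mem_inf.1 (hE hx)).1).1 (hEe.2 x hx), (mem_inf.1 (hE hx)).2⟩
    have h2 := Nat.le_of_dvd Nat.card_pos (card_dvd_of_le h1)
    rw [hEc, hZc] at h2
    have := p_lt_p2 hp
    omega

theorem exponent_eq_p {p : ℕ} (hp : p.Prime) {W : Subgroup G} (hW1 : W ≠ ⊥)
    (hW : ∀ x ∈ W, x ^ p = 1) : Monoid.exponent W = p := by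
  have h1 : Monoid.exponent W ∣ p :=
    Monoid.exponent_dvd_of_forall_pow_eq_one fun x => Subtype.ext (hW x x.2)
  rcases (Nat.dvd_prime hp).1 h1 with h | h
  · exfalso
    apply hW1
    rw [eq_bot_iff]
    intro x hx
    have h2 := Monoid.pow_exponent_eq_one (⟨x, hx⟩ : W)
    rw [h, pow_one] at h2
    exact mem_bot.2 (congrArg Subtype.val h2)
  · exact h

theorem rank2_struct' {p : ℕ} (hp : p.Prime) (hp2 : p ≠ 2) {R A : Subgroup G} (hR : IsPGroup p R)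
    (hR1 : R ≠ ⊥) (hr : PRankLE p 2 R) (hA : A ≤ 𝓝(R)) (hcop : (Nat.card A).Coprime p)
    (hodd : Odd (Nat.card A)) (hRA : ⁅R, A⁆ = R) :
    3 < p ∧ (IsMulCommutative R ∨ ∃ R₁ R₂ : Subgroup G, R₁ ⊔ R₂ = R ∧
      (∀ a ∈ R₁, ∀ b ∈ R₂, a * b = b * a) ∧ ¬ IsMulCommutative R₁ ∧ Nat.card R₁ = p ^ 3 ∧
      Monoid.exponent R₁ = p ∧ IsCyclic R₂ ∧
      Subgroup.closure {x : G | x ∈ R₂ ∧ x ^ p = 1} = ⁅R₁, R₁⁆ ∧ ⁅R₁, R₁⁆ = R₁ ⊓ 𝓒(R₁)) := by
  obtain ⟨h3, h⟩ := rank2_struct hp hp2 hR hR1 hr hA hcop hodd hRA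
  refine ⟨h3, h.imp id ?_⟩
  rintro ⟨W, hWR, hW, hWc, hWn, hsup, hcyc⟩
  obtain ⟨hZ, hZc⟩ := nonab_p3 hp (hR.to_le hWR) hWc hWn
  refine ⟨W, R ⊓ 𝓒(W), hsup, fun a ha b hb => mem_cz.1 (mem_inf.1 hb).2 a ha,
    fun h => hWn (comm_iff_le_cz.1 h), hWc, exponent_eq_p hp ?_ (fun x hx => (hW x (hWR hx)).2 hx),
    hcyc, ?_, hZ⟩
  · intro h
    rw [h, card_bot] at hWc
    have : 1 < p ^ 3 := Nat.one_lt_pow (by norm_num) hp.one_lt
    omega
  · have : {x : G | x ∈ R ⊓ 𝓒(W) ∧ x ^ p = 1} = ((⁅W, W⁆ : Subgroup G) : Set G) := by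
      ext x
      rw [hZ]
      constructor
      · rintro ⟨hx, hxp⟩
        exact mem_inf.2 ⟨(hW x (mem_inf.1 hx).1).1 hxp, (mem_inf.1 hx).2⟩
      · intro hx
        have h1 := mem_inf.1 hx
        exact ⟨mem_inf.2 ⟨hWR h1.1, h1.2⟩, (hW x (hWR h1.1)).2 h1.1⟩
    rw [this, closure_eq]

end

end CfsgLib.BGPi
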