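import Cfsg.Agent.EqBase
import Cfsg.Agent.LibBGOm6

/-! B & G 5.5 -/

open Subgroup
open scoped Pointwise commutatorElement

namespace CfsgLib.BGPi

open Cfsg CfsgLib.BGRep

universe u
variable {G : Type u} [Group G] [Finite G]

theorem pcore_of_der {H : Type*} [Group H] [Finite H] {p : ℕ} (hp : p.Prime)
    (h : IsPGroup p (_root_.commutator H)) :
    _root_.commutator H ≤ pCore p H ∧ (pCore p H).index.Coprime p := by
  haveI : Fact p.Prime := ⟨hp⟩
  have h1 : _root_.commutator H ≤ pCore p H := CfsgLib.Cores.le_pCore inferInstance h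
  refine ⟨h1, ?_⟩
  obtain ⟨S⟩ := (inferInstance : Nonempty (Sylow p H))
  have h4 : _root_.commutator H ≤ S := h1.trans (CfsgLib.Cores.pCore_le_sylow S)
  have h5 : (S : Subgroup H).Normal := by
    constructor
    intro x hx g
    have h6 : g * x * g⁻¹ = (g * x * g⁻¹ * x⁻¹) * x := by group
    rw [h6]
    refine mul_mem (h4 ?_) hx
    exact Subgroup.commutator_mem_commutator (Subgroup.mem_top g) (Subgroup.mem_top x)
  have h6 : pCore p H = S := le_antisymm (CfsgLib.Cores.pCore_le_sylow S)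
    (CfsgLib.Cores.le_pCore h5 S.2)
  rw [h6, Nat.coprime_comm, hp.coprime_iff_not_dvd]
  exact S.not_dvd_index

/-- a `p'`-group of order prime to `p - 1` centralizes every cyclic `p`-group it normalizes -/
theorem cz_cyclic {p : ℕ} (hp : p.Prime) {C : Subgroup G} (hC : IsPGroup p C) (hcyc : IsCyclic C)
    {a : G} (ha : a ∈ 𝓝(C)) (hap : (orderOf a).Coprime p) (hap1 : (orderOf a).Coprime (p - 1)) :
    a ∈ 𝓒(C) := by
  haveI : Fact p.Prime := ⟨hp⟩
  haveI := hcyc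
  let A := zpowers a
  have hA : A ≤ 𝓝(C) := by rw [zpowers_le]; exact ha
  set φ := actN hA ⟨a, mem_zpowers a⟩ with hφ
  have h1 : orderOf φ ∣ orderOf a := by
    have h2 := orderOf_map_dvd (actN hA) ⟨a, mem_zpowers a⟩
    rwa [Subgroup.orderOf_mk] at h2
  have h2 : orderOf φ ∣ Nat.card (MulAut C) := orderOf_dvd_natCard _
  obtain ⟨k, hk⟩ := IsPGroup.iff_card.1 hC
  rw [IsCyclic.card_mulAut, hk] at h2
  have h3 : (orderOf a).Coprime (Nat.totient (p ^ k)) := by
    rcases Nat.eq_zero_or_pos k with h | h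
    · rw [h, pow_zero, Nat.totient_one]; exact Nat.coprime_one_right _
    · rw [Nat.totient_prime_pow hp h]
      exact Nat.Coprime.mul_right (Nat.Coprime.pow_right _ hap) hap1
  have h4 : orderOf φ = 1 := by
    have h5 := Nat.dvd_gcd h1 h2
    rw [h3] at h5
    exact Nat.dvd_one.1 h5
  have h5 : φ = 1 := orderOf_eq_one_iff.1 h4
  rw [mem_cz]
  intro c hc
  have h6 : ((φ ⟨c, hc⟩ : C) : G) = a * c * a⁻¹ := actN_coe hA _ _
  rw [h5] at h6
  have h7 : c = a * c * a⁻¹ := h6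
  calc c * a = (a * c * a⁻¹) * a := by rw [← h7]
    _ = a * c := by group

/-- B & G 5.5 (c), the last claim -/
theorem narrow_p3 {p : ℕ} (hp : p.Prime) (hp2 : p ≠ 2) {R A : Subgroup G} (hR : IsPGroup p R)
    (hr : PRankLE p 2 R) (hA : A ≤ 𝓝(R)) (hodd : Odd (Nat.card A)) (hcop : (Nat.card A).Coprime p)
    (hcop1 : (Nat.card A).Coprime (p - 1)) (hRA : ⁅R, A⁆ = R) (hn : ¬ IsMulCommutative R) :
    Nat.card R = p ^ 3 := by
  have hR1 : R ≠ ⊥ := by
    rintro rfl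
    exact hn ⟨⟨fun a b => Subsingleton.elim _ _⟩⟩
  obtain ⟨-, h⟩ := rank2_struct hp hp2 hR hR1 hr hA hcop hodd hRA
  rcases h with h | ⟨W, hWR, hW, hWc, hWn, hsup, hcyc⟩
  · exact absurd h hn
  have hAW : A ≤ 𝓝(W) := by
    rw [le_nz]
    intro r hr w hw
    rw [← hW _ (le_nz.1 hA r hr w (hWR hw)), conj_pow, (hW w (hWR hw)).2 hw]
    group
  have hAC : A ≤ 𝓝(R ⊓ 𝓒(W)) := le_nz_inf hA (le_nz_cz hAW)
  have hcz : A ≤ 𝓒(R ⊓ 𝓒(W)) := by
    intro a ha
    have h2 : orderOf a ∣ Nat.card A := by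
      have := orderOf_dvd_natCard (⟨a, ha⟩ : A)
      rwa [Subgroup.orderOf_mk] at this
    exact cz_cyclic hp (hR.to_le inf_le_left) hcyc (hAC ha)
      (Nat.Coprime.coprime_dvd_left h2 hcop) (Nat.Coprime.coprime_dvd_left h2 hcop1)
  have h1 : ⁅R, A⁆ ≤ W := by
    rw [commutator_le]
    intro r hr a ha
    rw [← hsup] at hr
    have hn : W ≤ 𝓝(R ⊓ 𝓒(W)) := by
      apply le_nz_of_le_cz
      rw [le_cz_comm]; exact inf_le_right
    obtain ⟨w, hw, c, hc, rfl⟩ := (mem_sup_of_nz hn).1 hr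
    have h3 : a * c * a⁻¹ = c := by
      rw [← mem_cz.1 (hcz ha) c hc, mul_inv_cancel_right]
    have h4 : ⁅w * c, a⁆ = w * (a * w * a⁻¹)⁻¹ := by
      calc ⁅w * c, a⁆ = w * (c * (a * c * a⁻¹)⁻¹) * (a * w * a⁻¹)⁻¹ := by
            rw [commutatorElement_def]; group
        _ = _ := by rw [h3]; group
    rw [h4]
    exact mul_mem hw (inv_mem (le_nz.1 hAW a ha w hw))
  rw [hRA] at h1
  rw [le_antisymm h1 hWR, hWc]

end CfsgLib.BGPi
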