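import Cfsg.Agent.EqBase
import Cfsg.Agent.LibBG10f
import Cfsg.Agent.LibBGOm7
import Cfsg.Agent.S1396

/-! B & G 10.10 - 10.12. -/

open Subgroup
open scoped Pointwise commutatorElement

namespace CfsgLib.BGPi

open Cfsg

universe u

section
variable {G : Type u} [Group G] [Finite G]

theorem ord_cop {p q : ℕ} (hp : p.Prime) (hq : q.Prime) (hpq : q ≠ p) {P : Subgroup G}
    (hP : IsPGroup p P) {x : G} (hx : x ∈ P) : (orderOf x).Coprime q := by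
  have h1 := hP.orderOf_coprime ((Nat.coprime_primes hp hq).2 hpq.symm) ⟨x, hx⟩
  rwa [Subgroup.orderOf_mk] at h1

/-- elementary abelian of order `p²` and maximal elementary abelian in `G` -/
structure MaxE2 (p : ℕ) (A : Subgroup G) : Prop where
  el : IsElementaryAbelian p A
  card : Nat.card A = p ^ 2
  max : ∀ B : Subgroup G, IsElementaryAbelian p B → A ≤ B → B = A

theorem MaxE2.mem {p : ℕ} {A : Subgroup G} (h : MaxE2 p A) {x : G} (hx : x ∈ 𝓒(A))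
    (hxp : x ^ p = 1) : x ∈ A :=
  mem_of_max_elab (M := ⊤) le_top h.el (fun C _ hC hAC => h.max C hC hAC) (mem_top x) hxp
    (fun a ha => mem_cz.1 hx a ha)

theorem MaxE2.cj {p : ℕ} {A : Subgroup G} (h : MaxE2 p A) (g : G) : MaxE2 p (A ^ᵍ g) := by
  refine ⟨elab_cj h.el g, by rw [card_cj, h.card], fun B hB hAB => ?_⟩
  have h1 := h.max (B ^ᵍ g⁻¹) (elab_cj hB _) (le_cj_iff.2 (by rwa [inv_inv]))
  rw [← h1, cj_cj_inv]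

theorem MaxE2.isP {p : ℕ} {A : Subgroup G} (h : MaxE2 p A) : IsPGroup p A := elab_isPGroup h.el

theorem MaxE2.nc {p : ℕ} (hp : p.Prime) {A : Subgroup G} (h : MaxE2 p A) : ¬ IsCyclic A :=
  nc_of_card hp h.el (le_of_eq h.card.symm)

theorem MaxE2.ne_bot {p : ℕ} (hp : p.Prime) {A : Subgroup G} (h : MaxE2 p A) : A ≠ ⊥ := by
  rintro rfl
  have h1 := h.card
  rw [card_bot] at h1
  have := Nat.one_lt_pow (n := 2) (by norm_num) hp.one_lt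
  omega

theorem MaxE2.dvd {p : ℕ} {A : Subgroup G} (h : MaxE2 p A) : p ∣ Nat.card G := by
  have h1 := Subgroup.card_subgroup_dvd_card A
  rw [h.card] at h1
  exact (dvd_pow_self p (by norm_num)).trans h1

variable (hG : IsMinSimpleOddOrder G)
include hG

theorem MaxE2.th {p : ℕ} (hp : p.Prime) {A : Subgroup G} (h : MaxE2 p A) :
    TransitivityHypothesis A := by
  haveI : Fact p.Prime := ⟨hp⟩
  refine Cfsg.Agent.S1396.result hG p h.dvd A h.isP h.el.1 (Or.inl ⟨?_, ?_⟩)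
  · intro x hx
    exact ⟨fun hxp => h.mem hx hxp, fun hxA => h.el.2 x hxA⟩
  · intro H hH
    exact bg10_6 hG hp hH

theorem MaxE2.rank1 {p : ℕ} (hp : p.Prime) {A : Subgroup G} (h : MaxE2 p A) :
    ¬ RankLE 1 ↥(A ⊓ 𝓒(A)) := by
  rw [inf_eq_left.2 (comm_iff_le_cz.1 h.el.1)]
  exact not_rank1_of_elab hG hp h.el h.card le_rfl

theorem MaxE2.trans {p q : ℕ} (hp : p.Prime) (hq : q.Prime) (hpq : q ≠ p) {A : Subgroup G}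
    (h : MaxE2 p A) (hqC : q ∣ Nat.card 𝓒(A)) {Q₁ Q₂ : Subgroup G}
    (h1 : Q₁ ∈ maxInvSubgroups ⊤ A {q}) (h2 : Q₂ ∈ maxInvSubgroups ⊤ A {q}) :
    ∃ k ∈ 𝓒(A), Q₂ = Q₁ ^ᵍ k := by
  have hqA : ¬ q ∣ Nat.card A := by
    rw [h.card]
    intro hd
    exact hpq ((Nat.prime_dvd_prime_iff_eq hq hp).1 (hq.dvd_of_dvd_pow hd))
  obtain ⟨k, hk, e⟩ := th_rank2 hG (h.th hG hp) (h.rank1 hG hp) hq hqA hqC Q₁ h1 Q₂ h2
  exact ⟨k, piCoreOf_le _ _ hk, e⟩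

theorem MaxE2.meet {p q : ℕ} (hp : p.Prime) (hq : q.Prime) (hpq : q ≠ p) {A : Subgroup G}
    (h : MaxE2 p A) {Q₁ Q₂ H : Subgroup G} (h1 : Q₁ ∈ maxInvSubgroups ⊤ A {q})
    (h2 : Q₂ ∈ maxInvSubgroups ⊤ A {q}) (hH : H ≠ ⊤) (hAH : A ≤ H) (e1 : H ⊓ Q₁ ≠ ⊥)
    (e2 : H ⊓ Q₂ ≠ ⊥) : ∃ k ∈ 𝓒(A), Q₂ = Q₁ ^ᵍ k := by
  have hqA : ¬ q ∣ Nat.card A := by
    rw [h.card]
    intro hd
    exact hpq ((Nat.prime_dvd_prime_iff_eq hq hp).1 (hq.dvd_of_dvd_pow hd))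
  obtain ⟨k, hk, e⟩ := th_meet hG (h.th hG hp) hq hqA _ Q₁ h1 Q₂ h2 H hH hAH e1 e2 rfl
  exact ⟨k, piCoreOf_le _ _ hk, e⟩

/-- B & G 10.10 -/
theorem bg10_10 {p q : ℕ} (hp : p.Prime) (hq : q.Prime) (hpq : q ≠ p) {A Q : Subgroup G}
    (hA : MaxE2 p A) (hqC : q ∣ Nat.card 𝓒(A)) (hQ : Q ∈ maxInvSubgroups ⊤ A {q}) :
    ∃ P, IsPiHallOf {p} P ⊤ ∧ A ≤ P ∧ P ≤ 𝓝(Q) ∧ 𝓝(P) ≤ 𝓒(P) ⊔ (𝓝(P) ⊓ 𝓝(Q)) ∧
      P ≤ ⁅𝓝(Q), 𝓝(Q)⁆ ∧ ((PRankLE q 2 Q ∨ ∃ E, NarE q Q E) → P ≤ 𝓒(Q)) := by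
  haveI : Fact p.Prime := ⟨hp⟩
  have hqA : ¬ q ∣ Nat.card A := by
    rw [hA.card]
    intro hd
    exact hpq ((Nat.prime_dvd_prime_iff_eq hq hp).1 (hq.dvd_of_dvd_pow hd))
  obtain ⟨P₀, hP₀, hAP₀⟩ := exists_syl_ge hp (elab_isPi hp hA.el) (le_top : A ≤ ⊤)
  have hP₀p : IsPGroup p P₀ := (hall_isPi hP₀).isPGroup hp
  have hPt := ms_p_ne_top hG hp hP₀p
  have hPπ : ∀ r : ℕ, r.Prime → r ∣ Nat.card P₀ → r ∣ Nat.card A := by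
    intro r hr hd
    have h1 := hall_isPi hP₀ r hr hd
    rw [Set.mem_singleton_iff] at h1
    rw [h1, hA.card]
    exact dvd_pow_self p (by norm_num)
  have hsn : (A.subgroupOf P₀).IsSubnormal := by
    exact nilpotent_subnormal (nilpotent_of_isPi hp (hall_isPi hP₀)) _
  have htr := fun Q₁ h1 Q₂ h2 => th_rank2 hG (hA.th hG hp) (hA.rank1 hG hp) hq hqA hqC Q₁ h1 Q₂ h2
  obtain ⟨c1, c2, c3, c4⟩ := th_pass hG (hA.th hG hp) hq hqA hPt hPπ hAP₀ hsn htr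
  obtain ⟨Q₀, hQ₀, -⟩ := exists_maxInv (H := ⊤) (A := P₀) (π := {q}) (R := ⊥)
    (mem_inv_top.2 ⟨IsPi.bot _, bot_nz P₀⟩)
  obtain ⟨k, hk, rfl⟩ := htr Q₀ (c3 hQ₀) Q hQ
  have hkC : k ∈ 𝓒(A) := piCoreOf_le _ _ hk
  have hAk : A ^ᵍ k = A := cj_le_of_le_nz (cz_le_nz A) hkC
  obtain ⟨d1, d2⟩ := c4 Q₀ hQ₀
  have hder : P₀ ≤ ⁅𝓝(Q₀), 𝓝(Q₀)⁆ := by
    have h1 := bg10_7foc hG hp hP₀
    rw [inf_eq_left.2 h1] at d1
    exact d1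
  have hnn : P₀ ≤ 𝓝(Q₀) := (mem_inv_top.1 hQ₀.1).2
  have hd1 : 𝓝(P₀) ≤ 𝓒(P₀) ⊔ (𝓝(P₀) ⊓ 𝓝(Q₀)) := by
    conv_lhs => rw [d2]
    exact sup_le_sup_right (piCoreOf_le _ _) _
  refine ⟨P₀ ^ᵍ k, ?_, ?_, ?_, ?_, ?_, ?_⟩
  · have := hall_cj hP₀ k
    rwa [cj_top] at this
  · rw [← hAk]; exact cj_mono hAP₀ k
  · rw [nz_cj]; exact cj_mono hnn k
  · rw [nz_cj, cz_cj, nz_cj, ← cj_inf, ← cj_sup]; exact cj_mono hd1 k
  · rw [nz_cj, ← cj_comm]; exact cj_mono hder k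
  · intro hnar
    rw [cz_cj]
    apply cj_mono
    intro x hx
    have hxo : (orderOf x).Coprime q := ord_cop hp hq hpq hP₀p hx
    have hQp : IsPGroup q Q₀ := (mem_inv_top.1 hQ₀.1).1.isPGroup hq
    have hq2 : q ≠ 2 := ms_p_ne_two hG hq (hqC.trans (Subgroup.card_subgroup_dvd_card _))
    rcases hnar with hr | ⟨E, c⟩
    · exact rk2_der hq hq2 hQp (rank_cj.1 hr) le_rfl (ms_odd hG _) (hder hx) hxo
    · have c' := c.cj k⁻¹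
      rw [cj_inv_cj] at c'
      exact c'.der le_rfl (hder hx) hxo

end

end CfsgLib.BGPi
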