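import Cfsg.Agent.EqBase
import Cfsg.Agent.LibBG11a

/-! B & G 10.11, 10.12. -/

open Subgroup
open scoped Pointwise commutatorElement

namespace CfsgLib.BGPi

open Cfsg

universe u

section
variable {G : Type u} [Group G] [Finite G]

theorem nz_of_cyclic {W D : Subgroup G} (hW : IsCyclic W) (hDW : D ≤ W) : 𝓝(W) ≤ 𝓝(D) := by
  obtain ⟨⟨w, hwW⟩, hw⟩ := hW.exists_generator
  rw [le_nz]
  intro g hg d hd
  obtain ⟨j, hj⟩ := mem_zpowers_iff.1 (hw ⟨d, hDW hd⟩)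
  obtain ⟨k, hk⟩ := mem_zpowers_iff.1 (hw ⟨g * w * g⁻¹, (mem_normalizer_iff.1 hg w).1 hwW⟩)
  have hj' : w ^ j = d := congrArg Subtype.val hj
  have hk' : w ^ k = g * w * g⁻¹ := congrArg Subtype.val hk
  have h1 : g * d * g⁻¹ = d ^ k := by
    rw [← hj', ← conj_zpow, ← hk', ← zpow_mul, ← zpow_mul, mul_comm]
  rw [h1]
  exact zpow_mem hd k

theorem nilp_of_qm {N X : Subgroup G} (hX : X ≤ 𝓝(N)) (hc : N ⊓ X ≤ 𝓒(X))
    (h : Group.IsNilpotent (qm N X)) : Group.IsNilpotent X := by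
  let f : X →* QN N := (QuotientGroup.mk' (N.subgroupOf 𝓝(N))).comp (Subgroup.inclusion hX)
  have hf : ∀ x : X, f x = qe N (hX x.2) := fun x => rfl
  have hr : f.range ≤ qm N X := by
    rintro _ ⟨x, rfl⟩
    rw [hf]
    exact qe_mem _ x.2
  haveI : Group.IsNilpotent f.range := nilpotent_sub hr h
  refine Subgroup.isNilpotent_of_ker_le_center f.rangeRestrict ?_
  intro x hx
  rw [MonoidHom.ker_rangeRestrict, MonoidHom.mem_ker, hf, qe_eq_one] at hx
  rw [Subgroup.mem_center_iff]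
  intro y
  exact Subtype.ext (mem_cz.1 (hc (mem_inf.2 ⟨hx, x.2⟩)) y y.2)

theorem cyclic_of_nilp_rank1 {W : Subgroup G} (hodd : Odd (Nat.card W))
    (hn : Group.IsNilpotent W) (h : RankLE 1 W) : IsCyclic W := by
  haveI := zgroup_of_rank1 hodd h
  infer_instance

theorem elab_card_dvd {p : ℕ} {A : Subgroup G} (hc : Nat.card A = p ^ 2) :
    p ∣ Nat.card A := by
  rw [hc]; exact dvd_pow_self p (by norm_num)

theorem exists_max_prime {E : Subgroup G} (h : E ≠ ⊥) : ∃ q : ℕ, q.Prime ∧ q ∣ Nat.card E ∧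
    ∀ r : ℕ, r.Prime → r ∣ Nat.card E → r ≤ q := by
  have h1 : 1 < Nat.card E := (one_lt_card_iff_ne_bot E).2 h
  have hne : (Nat.card E).primeFactors.Nonempty := Nat.nonempty_primeFactors.2 h1
  refine ⟨_, Nat.prime_of_mem_primeFactors (Finset.max'_mem _ hne),
    Nat.dvd_of_mem_primeFactors (Finset.max'_mem _ hne), fun r hr hd => ?_⟩
  exact Finset.le_max' _ r (Nat.mem_primeFactors.2 ⟨hr, hd, Nat.card_pos.ne'⟩)

theorem exists_prime_dvd_of_ne_bot {E : Subgroup G} (h : E ≠ ⊥) :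
    ∃ q : ℕ, q.Prime ∧ q ∣ Nat.card E := by
  obtain ⟨q, hq, hd, -⟩ := exists_max_prime h
  exact ⟨q, hq, hd⟩

theorem hall_dvd {q : ℕ} (hq : q.Prime) {Q E : Subgroup G} (hQ : IsPiHallOf {q} Q E)
    (hd : q ∣ Nat.card E) : q ∣ Nat.card Q := by
  rw [← card_mul_relIndex (hall_le hQ)] at hd
  rcases hq.dvd_mul.1 hd with h | h
  · exact h
  · exact absurd h ((hall_iff.1 hQ).2.2 q hq rfl)

theorem hall_ne_bot {q : ℕ} (hq : q.Prime) {Q E : Subgroup G} (hQ : IsPiHallOf {q} Q E)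
    (hd : q ∣ Nat.card E) : Q ≠ ⊥ := by
  rintro rfl
  have := hall_dvd hq hQ hd
  rw [card_bot] at this
  exact hq.one_lt.ne' (Nat.dvd_one.1 this)

variable (hG : IsMinSimpleOddOrder G)
include hG

/-- the rank of the Sylow subgroups for primes outside `σ(M)` is at most two -/
theorem rank_of_not_sigma {M : Subgroup G} (hM : IsCoatom M) {p : ℕ} (hp : p.Prime)
    (hps : p ∉ sigma M) : PRankLE p 2 M :=
  alpha_rank hG hp fun h => hps (alpha_sub_sigma hG hM h)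

theorem core_rank2 {M : Subgroup G} (hM : IsCoatom M) {E : Subgroup G} (hEM : E ≤ M)
    (hE : IsPi (sigma M)ᶜ E) {p : ℕ} (hp : p.Prime) : PRankLE p 2 E := by
  by_cases hps : p ∈ sigma M
  · rw [rank_iff]
    intro A hAE hA
    have h1 : A = ⊥ := by
      apply eq_bot_of_isPi (π := {p}) (elab_isPi hp hA)
      intro q hq hd hqp
      rw [Set.mem_singleton_iff] at hqp
      rw [hqp] at hd
      exact hE p hp (hd.trans (card_dvd_of_le hAE)) hps
    rw [h1, card_bot]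
    exact Nat.one_le_pow _ _ hp.pos
  · exact rank_mono hEM (rank_of_not_sigma hG hM hp hps)

/-- B & G 10.11 (a) -/
theorem sigma_not_uniq {M : Subgroup G} (hM : IsCoatom M) {K : Subgroup G} (hKM : K ≤ M)
    (hK : IsPi (sigma M)ᶜ K) : ¬ InUniqueMaximal K := by
  intro hU
  have hK1 := uniq_ne_bot hG hU
  obtain ⟨E, hE, hKE⟩ := hall_exists_ge (max_sol hG hM) hK hKM
  have hEM := hall_le hE
  have hE1 : E ≠ ⊥ := fun h => hK1 (le_bot_iff.1 (h ▸ hKE))
  obtain ⟨q, hq, hqE, hmax⟩ := exists_max_prime hE1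
  have hqs : q ∉ sigma M := hall_isPi hE q hq hqE
  obtain ⟨Q, hQ⟩ := exists_syl hq E
  have hQ1 := hall_ne_bot hq hQ hqE
  have hQp : IsPGroup q Q := (hall_isPi hQ).isPGroup hq
  have hL : IsPiHallOf {r | r.Prime ∧ q - 1 < r} Q E := by
    rw [hall_iff]
    refine ⟨hall_le hQ, ?_, ?_⟩
    · intro r hr hd
      have h1 := hall_isPi hQ r hr hd
      rw [Set.mem_singleton_iff] at h1
      exact ⟨hr, by rw [h1]; have := hq.one_lt; omega⟩
    · rintro r hr ⟨-, hlt⟩ hd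
      have h1 : r ∣ Nat.card E := by
        rw [← card_mul_relIndex (hall_le hQ)]; exact hd.mul_left _
      have h2 := hmax r hr h1
      have h3 : r = q := by omega
      rw [h3] at hd
      exact (hall_iff.1 hQ).2.2 q hq rfl hd
  have hEQ : E ≤ 𝓝(Q) := hall_large_le (solvable_sub hEM (max_sol hG hM)) (ms_odd hG E)
    (fun p hp => rank_mono (piCoreOf_le _ _) (core_rank2 hG hM hEM (hall_isPi hE) hp)) (q - 1) hL
  have hQM : IsPiHallOf {q} Q M := hall_trans hQ hE (by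
    intro r hr
    rw [Set.mem_singleton_iff] at hr
    rw [hr]; exact hqs)
  have hNM : ¬ 𝓝(Q) ≤ M := fun h => hqs (mem_sigma_iff.2
    ⟨hq, hqE.trans (card_dvd_of_le hEM), Q, hQM, h⟩)
  obtain ⟨H, hH, hNH⟩ := exists_max hG (ms_nz_ne_top hG hQ1 (ms_p_ne_top hG hq hQp))
  have h1 := uniq_eq hU hM hKM hH (hKE.trans (hEQ.trans hNH))
  rw [h1] at hNH
  exact hNM hNH

theorem maxE2_of {M : Subgroup G} (hM : IsCoatom M) {p : ℕ} (hp : p.Prime) (hr2 : PRankLE p 2 M)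
    {A : Subgroup G} (hAM : A ≤ M) (hA : IsElementaryAbelian p A) (hAc : Nat.card A = p ^ 2) :
    MaxE2 p A :=
  ⟨hA, hAc, fun _ hB hAB => bg10_5a hG hM hp hr2 hAM hA hAc hB hAB⟩

theorem syl_le_sigmaCore {M : Subgroup G} (hM : IsCoatom M) {q : ℕ} (hqs : q ∈ sigma M)
    {Q : Subgroup G} (hQ : IsPi {q} Q) (hQM : Q ≤ M) : Q ≤ sigmaCore M :=
  le_hall_of_normal (sigma_hall hG hM) (le_nz_sigmaCore hG M)
    (hQ.mono (Set.singleton_subset_iff.2 hqs)) hQM

theorem alphaCore_bot {M : Subgroup G} (hM : IsCoatom M)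
    (h : ∀ q ∈ sigma M, PRankLE q 2 M) : alphaCore M = ⊥ := by
  by_contra hne
  obtain ⟨q, hq, hd⟩ := exists_prime_dvd_of_ne_bot hne
  have h1 := hall_isPi (alpha_hall hG hM) q hq hd
  exact h1.2 (h q (alpha_sub_sigma hG hM h1))

theorem der_nilp_of_alphaCore {M : Subgroup G} (hM : IsCoatom M) (h : alphaCore M = ⊥) :
    Group.IsNilpotent ↥⁅M, M⁆ := by
  refine nilp_of_qm (N := alphaCore M) ((comm_self_le M).trans (le_nz_alphaCore hG M)) ?_
    (der_quot_nilp hG hM)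
  rw [h, bot_inf_eq]; exact bot_le

/-- B & G 10.11 (b) -/
theorem bg10_11b {M : Subgroup G} (hM : IsCoatom M) {p : ℕ} (hp : p.Prime) (hps : p ∉ sigma M)
    {A : Subgroup G} (hAM : A ≤ M) (hA : IsElementaryAbelian p A) (hAc : Nat.card A = p ^ 2) :
    ¬ A ≤ 𝓒(sigmaCore M) := by
  intro hAC
  have hE2 := maxE2_of hG hM hp (rank_of_not_sigma hG hM hp hps) hAM hA hAc
  have hAp : IsPi (sigma M)ᶜ A := by
    intro q hq hd hqs
    have h1 := elab_isPi hp hA q hq hd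
    rw [Set.mem_singleton_iff] at h1
    rw [h1] at hqs
    exact hps hqs
  have hAnu := sigma_not_uniq hG hM hAM hAp
  have hrk : ∀ q ∈ sigma M, PRankLE q 2 M := by
    intro q hqs
    by_contra hr
    have hq := sigma_prime hqs
    obtain ⟨Q, hQ⟩ := exists_syl hq M
    have hQs := syl_le_sigmaCore hG hM hqs (hall_isPi hQ) (hall_le hQ)
    have hQU := uniq_of_prank3 hG hq (X := Q) (fun h => hr ((rank_syl hq hQ).2 h))
      (ms_p_ne_top hG hq ((hall_isPi hQ).isPGroup hq))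
    exact hAnu (bg9_2' hG hp hQU hA hAc (hAC.trans (cz_anti hQs)))
  have hnil := der_nilp_of_alphaCore hG hM (alphaCore_bot hG hM hrk)
  obtain ⟨q, hq, hqd⟩ := exists_prime_dvd_of_ne_bot (sigmaCore_ne_bot hG hM)
  have hqs := hall_isPi (sigma_hall hG hM) q hq hqd
  obtain ⟨Q, hQ⟩ := exists_syl hq M
  have hqM := hqd.trans (card_dvd_of_le (hall_le (sigma_hall hG hM)))
  have hQs := syl_le_sigmaCore hG hM hqs (hall_isPi hQ) (hall_le hQ)
  have hQt := sigma_syl hqs hQ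
  have hQN := sigma_nz hqs hQ
  have hqp : q ≠ p := fun h => hps (h ▸ hqs)
  have hAQ : A ≤ 𝓒(Q) := hAC.trans (cz_anti hQs)
  have hQmax : Q ∈ maxInvSubgroups ⊤ A {q} := by
    refine ⟨mem_inv_top.2 ⟨hall_isPi hQ, hAQ.trans (cz_le_nz Q)⟩, ?_⟩
    intro R hR hQR
    exact (hall_eq_of_le hQt (mem_inv_top.1 hR).1 le_top hQR).symm
  have hqC : q ∣ Nat.card 𝓒(A) :=
    (hall_dvd hq hQ hqM).trans (card_dvd_of_le (le_cz_comm.1 hAQ))
  obtain ⟨P, hP, hAP, -, -, hPd, -⟩ := bg10_10 hG hp hq hqp hE2 hqC hQmax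
  have hPM' : P ≤ ⁅M, M⁆ := hPd.trans (commutator_mono hQN hQN)
  have hPc : P ≤ piCoreOf {p} ⁅M, M⁆ := nilpotent_le_piCoreOf hnil hPM' (hall_isPi hP)
  have hPe : P = piCoreOf {p} ⁅M, M⁆ := hall_eq_of_le hP (isPi_piCoreOf _ _) le_top hPc
  have hMP : M ≤ 𝓝(P) := by
    rw [hPe]
    exact ((left_le_nz_comm M M)).trans (nz_le_nz_piCoreOf _ _)
  have hP1 : P ≠ ⊥ := fun h => hE2.ne_bot hp (le_bot_iff.1 (h ▸ hAP))
  have hPM : P ≤ M := hPM'.trans (comm_self_le M)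
  have hNP := max_nz_eq hG hM hP1 hPM hMP
  exact hps (mem_sigma_iff.2 ⟨hp, (elab_card_dvd hAc).trans (card_dvd_of_le hAM), P,
    hall_le_of_le hP hPM le_top, hNP.le⟩)

/-- B & G 10.11 (c) -/
theorem bg10_11c {M : Subgroup G} (hM : IsCoatom M) {D : Subgroup G} (hD : D ≤ ⁅M, M⁆)
    (hDC : D ≤ 𝓒(sigmaCore M)) (hDs : IsPi (sigma M)ᶜ D) : IsCyclic D ∧ M ≤ 𝓝(D) := by
  set C := ⁅M, M⁆ ⊓ 𝓒(sigmaCore M) with hC
  have hCM : C ≤ M := inf_le_left.trans (comm_self_le M)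
  have hMC : M ≤ 𝓝(C) := le_nz_inf (left_le_nz_comm M M) (le_nz_cz (le_nz_sigmaCore hG M))
  have hCn : Group.IsNilpotent C := by
    refine nilp_of_qm (N := alphaCore M) (hCM.trans (le_nz_alphaCore hG M)) ?_
      (nilpotent_sub (qm_mono inf_le_left) (der_quot_nilp hG hM))
    refine inf_le_left.trans ?_
    rw [le_cz_comm]
    exact inf_le_right.trans (cz_anti (alpha_le_sigma hG hM))
  set W := piCoreOf (sigma M)ᶜ C with hW
  have hWC : W ≤ C := piCoreOf_le _ _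
  have hMW : M ≤ 𝓝(W) := hMC.trans (nz_le_nz_piCoreOf _ _)
  have hWcyc : IsCyclic W := by
    refine cyclic_of_nilp_rank1 (ms_odd hG W) (nilpotent_sub hWC hCn) ?_
    by_contra hr
    obtain ⟨p, hp, B, hBW, hB, hBc⟩ := exists_elab_of_not_rank hr
    have hps : p ∉ sigma M := isPi_piCoreOf _ _ p hp
      ((elab_card_dvd hBc).trans (card_dvd_of_le hBW))
    exact bg10_11b hG hM hp hps (hBW.trans (hWC.trans hCM)) hB hBc
      (hBW.trans (hWC.trans inf_le_right))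
  have hDW : D ≤ W := nilpotent_le_piCoreOf hCn (le_inf hD hDC) hDs
  refine ⟨?_, hMW.trans (nz_of_cyclic hWcyc hDW)⟩
  haveI := hWcyc
  exact isCyclic_of_injective (Subgroup.inclusion hDW) (Subgroup.inclusion_injective hDW)

/-- B & G 10.12 (a) -/
theorem alpha_disj {M H : Subgroup G} (hM : IsCoatom M) (hH : IsCoatom H)
    (hne : ∀ g : G, H ≠ M ^ᵍ g) {p : ℕ} (hα : p ∈ alpha M) (hs : p ∈ sigma H) : False := by
  have hp := hα.1
  have hsM := alpha_sub_sigma hG hM hα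
  obtain ⟨P, hP⟩ := exists_syl hp M
  obtain ⟨S, hS⟩ := exists_syl hp H
  have hPt := sigma_syl hsM hP
  have hSt := sigma_syl hs hS
  obtain ⟨g, -, rfl⟩ := syl_conj hp hPt hSt
  have hSU := uniq_of_prank3 hG hp (X := P ^ᵍ g)
    (fun h => hα.2 ((rank_syl hp hP).2 (rank_cj.1 h)))
    (ms_p_ne_top hG hp ((hall_isPi hSt).isPGroup hp))
  exact hne g (uniq_eq hSU (coatom_cj hM g) (cj_mono (hall_le hP) g) hH (hall_le hS))

/-- B & G 10.12 (b) -/
theorem sigma_disj {M H : Subgroup G} (hM : IsCoatom M) (hH : IsCoatom H)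
    (hne : ∀ g : G, H ≠ M ^ᵍ g) (hn : Group.IsNilpotent (sigmaCore M)) {p : ℕ}
    (hsM : p ∈ sigma M) (hs : p ∈ sigma H) : False := by
  have hp := sigma_prime hsM
  obtain ⟨P, hP⟩ := exists_syl hp M
  obtain ⟨S, hS⟩ := exists_syl hp H
  have hPt := sigma_syl hsM hP
  have hSt := sigma_syl hs hS
  obtain ⟨g, -, rfl⟩ := syl_conj hp hPt hSt
  have hPs := syl_le_sigmaCore hG hM hsM (hall_isPi hP) (hall_le hP)
  have hPe : P = piCoreOf {p} (sigmaCore M) := hall_eq_of_le hPt (isPi_piCoreOf _ _) le_top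
    (nilpotent_le_piCoreOf hn hPs (hall_isPi hP))
  have hMP : M ≤ 𝓝(P) := by
    rw [hPe]
    exact (le_nz_sigmaCore hG M).trans (nz_le_nz_piCoreOf _ _)
  have h1 : M ^ᵍ g ≤ H := by
    refine le_trans ?_ (sigma_nz hs hS)
    rw [nz_cj]
    exact cj_mono hMP g
  rcases (coatom_cj hM g).le_iff.1 h1 with h | h
  · exact max_ne_top hG hH h
  · exact hne g h

end

end CfsgLib.BGPi
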