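import Cfsg.Agent.EqBase
import Cfsg.Agent.LibBG11b

/-! B & G 10.13. -/

open Subgroup
open scoped Pointwise commutatorElement

namespace CfsgLib.BGPi

open Cfsg

universe u

section
variable {G : Type u} [Group G] [Finite G]

/-- the structure of `C_P(A)` -/
structure E2Str (p : ℕ) (P A Z Y : Subgroup G) : Prop where
  cZ : Nat.card Z = p
  ZA : Z ≤ A
  Zc : Z ≤ 𝓒(P)
  Yc : IsCyclic Y
  ZY : Z ≤ Y
  YP : Y ≤ P ⊓ 𝓒(A)
  spl : ∀ A₀ ≤ A, Nat.card A₀ = p → A₀ ≠ Z → A₀ ⊓ Y = ⊥ ∧ A₀ ⊔ Y = P ⊓ 𝓒(A)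

theorem card_p_inf {p : ℕ} (hp : p.Prime) {X Y : Subgroup G} (hX : Nat.card X = p)
    (h : ¬ X ≤ Y) : X ⊓ Y = ⊥ := by
  have h1 := Subgroup.card_dvd_of_le (inf_le_left : X ⊓ Y ≤ X)
  rw [hX] at h1
  rcases (Nat.dvd_prime hp).1 h1 with h2 | h2
  · exact (Subgroup.card_eq_one).1 h2
  · exfalso
    apply h
    have h3 : X ⊓ Y = X := Subgroup.eq_of_le_of_card_ge inf_le_left (by rw [hX, h2])
    rw [← h3]; exact inf_le_right

theorem card_p_eq {p : ℕ} (hp : p.Prime) {X Y : Subgroup G} (hX : Nat.card X = p)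
    (hY : Nat.card Y = p) (h : X ≤ Y) : X = Y :=
  Subgroup.eq_of_le_of_card_ge h (by rw [hX, hY])

theorem two_lines {p : ℕ} (hp : p.Prime) {A X Y : Subgroup G} (hA : IsMulCommutative A)
    (hc : Nat.card A = p ^ 2) (hXA : X ≤ A) (hYA : Y ≤ A) (hX : Nat.card X = p)
    (hY : Nat.card Y = p) (hne : X ≠ Y) : X ⊓ Y = ⊥ ∧ X ⊔ Y = A := by
  have h1 : X ⊓ Y = ⊥ := card_p_inf hp hX fun h => hne (card_p_eq hp hX hY h)
  refine ⟨h1, ?_⟩
  have hXN : X ≤ 𝓝(Y) := le_nz_of_le_cz (hXA.trans ((comm_iff_le_cz.1 hA).trans (cz_anti hYA)))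
  apply Subgroup.eq_of_le_of_card_ge (sup_le hXA hYA)
  rw [card_sup_of_disjoint hXN h1, hX, hY, hc, pow_two]

theorem exists_line_ne {p : ℕ} (hp : p.Prime) {A Z : Subgroup G} (hA : IsElementaryAbelian p A)
    (hc : Nat.card A = p ^ 2) (hZ : Nat.card Z = p) : ∃ A₀ ≤ A, Nat.card A₀ = p ∧ A₀ ≠ Z := by
  haveI : Fact p.Prime := ⟨hp⟩
  have h1 : ¬ A ≤ Z := by
    intro h
    have := Nat.le_of_dvd Nat.card_pos (card_dvd_of_le h)
    rw [hc, hZ] at this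
    have := p_lt_p2 hp
    omega
  obtain ⟨a, ha, haZ⟩ := SetLike.not_le_iff_exists.1 h1
  refine ⟨zpowers a, by rwa [zpowers_le], ?_, ?_⟩
  · rw [Nat.card_zpowers]
    exact orderOf_eq_prime (hA.2 a ha) fun h => haZ (h ▸ one_mem _)
  · rintro rfl
    exact haZ (mem_zpowers a)

theorem E2Str.comm {p : ℕ} (hp : p.Prime) {P A Z Y : Subgroup G} (h : E2Str p P A Z Y)
    (hA : IsElementaryAbelian p A) (hc : Nat.card A = p ^ 2) :
    IsMulCommutative ↥(P ⊓ 𝓒(A)) := by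
  obtain ⟨A₀, hA₀, hc₀, hne⟩ := exists_line_ne hp hA hc h.cZ
  obtain ⟨-, e⟩ := h.spl A₀ hA₀ hc₀ hne
  rw [← e]
  haveI := h.Yc
  refine comm_sup (comm_mono hA₀ hA.1) ⟨⟨fun a b => IsCyclic.commGroup.mul_comm a b⟩⟩ ?_
  rw [le_cz_comm]
  exact h.YP.trans (inf_le_right.trans (cz_anti hA₀))

/-- narrow case of rank at least three -/
theorem e2_narrow {p : ℕ} (hp : p.Prime) (hp2 : p ≠ 2) {S A : Subgroup G} (hS : IsPGroup p S)
    (hr : ¬ PRankLE p 2 S) (hAS : A ≤ S) (hA : MaxE2 p A) : ∃ Z Y, E2Str p S A Z Y := by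
  obtain ⟨-, hWc, hTi, hAW, Z, hZc, -, hZA, -, hZC, -⟩ := narrow_rel hp hp2 hS hr hAS hA.el hA.card
    (fun B _ hB hAB => hA.max B hB hAB)
  set W := oz2 hp hp2 S with hW
  set T := S ⊓ 𝓒(W) with hT
  have hZS : Z ≤ S := hZA.trans hAS
  have hWS : W ≤ S := (oz2_le hp hp2 S)
  have hZT : Z ≤ T := le_inf hZS (hZC.trans (cz_anti hWS))
  have hAT : ¬ A ≤ T := fun h => hAW (h.trans inf_le_right)
  have hATZ : ∀ x ∈ A, x ∈ T → x ∈ Z := by
    intro x hxA hxT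
    by_contra hxZ
    apply hAT
    obtain ⟨-, e⟩ := two_lines hp hA.el.1 hA.card hZA (Y := zpowers x) (by rwa [zpowers_le]) hZc
      (by
        haveI : Fact p.Prime := ⟨hp⟩
        rw [Nat.card_zpowers]
        exact orderOf_eq_prime (hA.el.2 x hxA) fun h => hxZ (h ▸ one_mem _))
      (by rintro rfl; exact hxZ (mem_zpowers x))
    rw [← e]
    exact sup_le hZT (by rwa [zpowers_le])
  refine ⟨Z, T ⊓ 𝓒(A), hZc, hZA, hZC, ?_, ?_, ?_, ?_⟩
  · by_contra hnc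
    obtain ⟨E, hE, hEe, hEc⟩ := exists_elab2 hp hp2
      (hS.to_le (inf_le_left.trans inf_le_left)) hnc
    have h1 : E ≤ Z := fun x hx => hATZ x
      (hA.mem (mem_inf.1 (hE hx)).2 (hEe.2 x hx)) (mem_inf.1 (hE hx)).1
    have h2 := Nat.le_of_dvd Nat.card_pos (card_dvd_of_le h1)
    rw [hEc, hZc] at h2
    have := p_lt_p2 hp
    omega
  · exact le_inf hZT (hZC.trans (cz_anti hAS))
  · exact inf_le_inf_right _ inf_le_left
  · intro A₀ hA₀ hc₀ hne
    have h0 : ¬ A₀ ≤ T := fun h => hne (card_p_eq hp hc₀ hZc fun x hx => hATZ x (hA₀ hx) (h hx))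
    have h1 := card_p_inf hp hc₀ h0
    refine ⟨?_, ?_⟩
    · rw [eq_bot_iff, ← h1]
      exact inf_le_inf_left _ inf_le_left
    · have hAC : A ≤ 𝓒(A) := comm_iff_le_cz.1 hA.el.1
      have hST : S ≤ 𝓝(T) := le_nz_inf le_normalizer (le_nz_cz (le_normalizer.trans (nz_oz2 hp hp2 S)))
      have hsup : A₀ ⊔ T = S := by
        have h2 := card_sup_of_disjoint ((hA₀.trans hAS).trans hST) h1
        apply Subgroup.eq_of_le_of_card_ge (sup_le (hA₀.trans hAS) inf_le_left)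
        rw [h2, hc₀, ← card_mul_relIndex (inf_le_left : T ≤ S), hTi, mul_comm]
      apply le_antisymm
      · exact sup_le (le_inf (hA₀.trans hAS) (hA₀.trans hAC)) (inf_le_inf_right _ inf_le_left)
      · intro x hx
        have hxS := (mem_inf.1 hx).1
        rw [← hsup] at hxS
        obtain ⟨a, ha, t, ht, rfl⟩ := (mem_sup_of_nz ((hA₀.trans hAS).trans hST)).1 hxS
        refine mul_mem (mem_sup_left ha) (mem_sup_right (mem_inf.2 ⟨ht, ?_⟩))
        have h3 := mul_mem (inv_mem (hAC (hA₀ ha))) (mem_inf.1 hx).2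
        rwa [inv_mul_cancel_left] at h3

theorem conj_line {x a z : G} (hz : Commute x z) (haz : Commute a z) (h : x * a * x⁻¹ = a * z)
    (i : ℕ) : x ^ i * a * (x ^ i)⁻¹ = a * z ^ i := by
  induction i with
  | zero => simp
  | succ n ih =>
    have h3 : x ^ (n + 1) * a * (x ^ (n + 1))⁻¹ = x * (x ^ n * a * (x ^ n)⁻¹) * x⁻¹ := by
      rw [pow_succ' x n]; group
    have h4 : x * (a * z ^ n) * x⁻¹ = (x * a * x⁻¹) * (x * z ^ n * x⁻¹) := by group
    rw [h3, ih, h4, h, (hz.pow_right n).eq, mul_inv_cancel_right, mul_assoc, ← pow_succ']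

/-- transitivity on the lines different from `Z` -/
theorem E2Str.trans {p : ℕ} (hp : p.Prime) {P A Z Y : Subgroup G} (h : E2Str p P A Z Y)
    (hP : IsPGroup p P) (hAP : A ≤ P) (hn : ¬ P ≤ 𝓒(P)) (hA : MaxE2 p A) :
    (∃ x ∈ P ⊓ 𝓝(A), x ∉ 𝓒(A)) ∧ ∀ x ∈ P ⊓ 𝓝(A), x ∉ 𝓒(A) → ∀ A₁ ≤ A, ∀ A₂ ≤ A,
      Nat.card A₁ = p → Nat.card A₂ = p → A₁ ≠ Z → A₂ ≠ Z → ∃ i : ℕ, A₁ ^ᵍ (x ^ i) = A₂ := by
  haveI : Fact p.Prime := ⟨hp⟩
  have hab := h.comm hp hA.el hA.card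
  have hZP : Z ≤ P := h.ZA.trans hAP
  constructor
  · by_contra hcon
    push Not at hcon
    have hle : P ⊓ 𝓝(A) ≤ 𝓒(A) := hcon
    set C := P ⊓ 𝓒(A) with hC
    have hAC : A ≤ C := le_inf hAP (comm_iff_le_cz.1 hA.el.1)
    have hPn : Group.IsNilpotent P := nilpotent_of_isPi hp (isPi_of_isPGroup hp hP)
    have h1 : P ⊓ 𝓝(C) ≤ C := by
      intro x hx
      obtain ⟨hxP, hxC⟩ := mem_inf.1 hx
      refine mem_inf.2 ⟨hxP, hle (mem_inf.2 ⟨hxP, ?_⟩)⟩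
      have h2 : zpowers x ≤ 𝓝(A) := by
        have h3 : zpowers x ≤ 𝓝(C) := by rwa [zpowers_le]
        rw [le_nz]
        intro k hk a ha
        have h4 := le_nz.1 h3 k hk a (hAC ha)
        refine hA.mem (mem_inf.1 h4).2 ?_
        rw [conj_pow, hA.el.2 a ha]; group
      exact h2 (mem_zpowers x)
    have h2 := nilpotent_eq_of_nz_le hPn inf_le_left h1
    apply hn
    have h3 := comm_iff_le_cz.1 hab
    have h4 : C = P := h2
    rw [h4] at h3
    exact h3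
  · intro x hx hxC A₁ hA₁ A₂ hA₂ hc₁ hc₂ hn₁ hn₂
    obtain ⟨hxP, hxN⟩ := mem_inf.1 hx
    have hAc := comm_iff_le_cz.1 hA.el.1
    have hZx : ∀ z ∈ Z, Commute x z := fun z hz => (mem_cz.1 (h.Zc hz) x hxP)
    have hcm : ∀ a ∈ A, ∀ b ∈ A, Commute a b := fun a ha b hb => mem_cz.1 (hAc hb) a ha
    -- `x` acts trivially on `A / Z`
    have hAZ : ∀ a ∈ A, a⁻¹ * (x * a * x⁻¹) ∈ Z := by
      have hP' : ⁅A, P ⊓ 𝓝(A)⁆ < A := by
        refine pgroup_comm_lt hp (R := P ⊓ 𝓝(A)) (hP.to_le inf_le_left) (le_inf hAP le_normalizer)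
          inf_le_right (hA.ne_bot hp)
      have hc3 := card_le_of_lt hp (k := 1) hA.isP hP' (le_of_eq hA.card)
      rw [pow_one] at hc3
      set X := ⁅A, P ⊓ 𝓝(A)⁆ with hX
      have hXN : P ⊓ 𝓝(A) ≤ 𝓝(X) := right_le_nz_comm _ _
      have hXp : X ≤ P := hP'.le.trans hAP
      -- `X` is central in `P ⊓ N(A)`
      have hXc : X ≤ 𝓒(P ⊓ 𝓝(A)) := by
        by_cases hX1 : X = ⊥
        · rw [hX1]; exact bot_le
        · have h5 := pgroup_comm_lt hp (R := P ⊓ 𝓝(A)) (hP.to_le inf_le_left)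
            (hP'.le.trans (le_inf hAP le_normalizer)) hXN hX1
          have h6 := card_le_of_lt hp (k := 0) (hP.to_le hXp) h5 (by rw [zero_add, pow_one]; exact hc3)
          rw [pow_zero] at h6
          rw [← comm_eq_bot_iff]
          exact (Subgroup.card_eq_one).1 (le_antisymm h6 Nat.card_pos)
      have hXZ : X ≤ Z := by
        by_contra hXZ
        have hX1 : X ≠ ⊥ := fun h => hXZ (h ▸ bot_le)
        have hXc' : Nat.card X = p := by
          have h7 := pgroup_dvd_card hp (hP.to_le hXp) hX1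
          exact le_antisymm hc3 (Nat.le_of_dvd Nat.card_pos h7)
        obtain ⟨-, e⟩ := two_lines hp hA.el.1 hA.card hP'.le h.ZA hXc' h.cZ
          (fun h => hXZ h.le)
        apply hxC
        have h8 : A ≤ 𝓒(P ⊓ 𝓝(A)) :=
          e.ge.trans (sup_le hXc (h.Zc.trans (cz_anti inf_le_left)))
        exact (le_cz_comm.1 h8) hx
      intro a ha
      have h9 : a⁻¹ * (x * a * x⁻¹) = ⁅a⁻¹, x⁆ := by rw [commutatorElement_def]; group
      rw [h9]
      exact hXZ (commutator_mem_commutator (inv_mem ha) hx)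
    -- generators
    obtain ⟨a, haA, ha⟩ : ∃ a ∈ A₁, zpowers a = A₁ := by
      haveI : IsCyclic A₁ := isCyclic_of_prime_card hc₁
      obtain ⟨⟨a, ha⟩, hg⟩ := IsCyclic.exists_generator (α := A₁)
      refine ⟨a, ha, le_antisymm (by rwa [zpowers_le]) fun b hb => ?_⟩
      obtain ⟨k, hk⟩ := mem_zpowers_iff.1 (hg ⟨b, hb⟩)
      exact mem_zpowers_iff.2 ⟨k, congrArg Subtype.val hk⟩
    obtain ⟨-, e1⟩ := two_lines hp hA.el.1 hA.card hA₁ h.ZA hc₁ h.cZ hn₁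
    obtain ⟨b, hbA, hb⟩ : ∃ b ∈ A₂, zpowers b = A₂ := by
      haveI : IsCyclic A₂ := isCyclic_of_prime_card hc₂
      obtain ⟨⟨a, ha⟩, hg⟩ := IsCyclic.exists_generator (α := A₂)
      refine ⟨a, ha, le_antisymm (by rwa [zpowers_le]) fun b hb => ?_⟩
      obtain ⟨k, hk⟩ := mem_zpowers_iff.1 (hg ⟨b, hb⟩)
      exact mem_zpowers_iff.2 ⟨k, congrArg Subtype.val hk⟩
    have hbm : b ∈ A₁ ⊔ Z := by rw [e1]; exact hA₂ hbA
    obtain ⟨a', ha', z, hz, rfl⟩ := (mem_sup_of_nz (le_nz_of_le_cz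
      (hA₁.trans (hAc.trans (cz_anti h.ZA))))).1 hbm
    -- `a' ≠ 1`
    have ha'1 : a' ≠ 1 := by
      rintro rfl
      rw [one_mul] at hb
      apply hn₂
      refine card_p_eq hp hc₂ h.cZ ?_
      rw [← hb, zpowers_le]; exact hz
    have hza' : zpowers a' = A₁ := by
      refine card_p_eq hp ?_ hc₁ (by rwa [zpowers_le])
      rw [Nat.card_zpowers]
      exact orderOf_eq_prime (hA.el.2 _ (hA₁ ha')) ha'1
    set w := a'⁻¹ * (x * a' * x⁻¹) with hw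
    have hwZ : w ∈ Z := hAZ a' (hA₁ ha')
    have hw1 : w ≠ 1 := by
      intro h1
      apply hxC
      have h2 : A₁ ⊔ Z ≤ 𝓒(zpowers x) := by
        refine sup_le ?_ ?_
        · rw [← hza', zpowers_le, mem_cz]
          rintro _ ⟨k, rfl⟩
          have h3 : Commute x a' := by
            have h4 : x * a' = a' * (a'⁻¹ * (x * a' * x⁻¹)) * x := by group
            show x * a' = a' * x
            rw [h4, ← hw, h1, mul_one]
          exact (h3.zpow_left k).eq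
        · intro z hz
          rw [mem_cz]
          rintro _ ⟨k, rfl⟩
          exact ((hZx z hz).zpow_left k).eq
      rw [e1, le_cz_comm] at h2
      exact h2 (mem_zpowers x)
    have hzw : ∃ i : ℕ, w ^ i = z := by
      have h1 := mem_powers_of_prime_card (G := Z) (g := ⟨w, hwZ⟩) (g' := ⟨z, hz⟩) h.cZ
        (fun h => hw1 (congrArg Subtype.val h))
      obtain ⟨i, hi⟩ := (Submonoid.mem_powers_iff _ _).1 h1
      exact ⟨i, congrArg Subtype.val hi⟩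
    obtain ⟨i, hi⟩ := hzw
    refine ⟨i, ?_⟩
    have h5 := conj_line (x := x) (a := a') (z := w) (hZx w hwZ)
      (hcm a' (hA₁ ha') w (h.ZA hwZ)) (by rw [hw]; group) i
    rw [hi] at h5
    have h6 : (zpowers a') ^ᵍ (x ^ i) = zpowers (a' * z) := by
      apply le_antisymm
      · intro y hy
        rw [mem_cj] at hy
        obtain ⟨k, hk⟩ := mem_zpowers_iff.1 hy
        refine mem_zpowers_iff.2 ⟨k, ?_⟩
        rw [← h5, conj_zpow, hk]; group
      · rw [zpowers_le, mem_cj]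
        rw [← h5]
        have h7 : (x ^ i)⁻¹ * (x ^ i * a' * (x ^ i)⁻¹) * x ^ i = a' := by group
        rw [h7]; exact mem_zpowers a'
    rw [← hza', h6, hb]

/-- `Z` contains all central elements of order `p` -/
theorem E2Str.mem_Z {p : ℕ} (hp : p.Prime) {P A Z Y : Subgroup G} (h : E2Str p P A Z Y)
    (hAP : A ≤ P) (hn : ¬ P ≤ 𝓒(P)) (hA : MaxE2 p A) {x : G} (hx : x ∈ P ⊓ 𝓒(P))
    (hxp : x ^ p = 1) : x ∈ Z := by
  haveI : Fact p.Prime := ⟨hp⟩
  by_contra hxZ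
  have hxA : x ∈ A := hA.mem ((cz_anti hAP) (mem_inf.1 hx).2) hxp
  obtain ⟨-, e⟩ := two_lines hp hA.el.1 hA.card h.ZA (Y := zpowers x) (by rwa [zpowers_le]) h.cZ
    (by
      rw [Nat.card_zpowers]
      exact orderOf_eq_prime hxp fun h => hxZ (h ▸ one_mem _))
    (by rintro rfl; exact hxZ (mem_zpowers x))
  have h1 : A ≤ 𝓒(P) := by
    rw [← e]
    exact sup_le h.Zc (by rw [zpowers_le]; exact (mem_inf.1 hx).2)
  have h2 := h.comm hp hA.el hA.card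
  rw [inf_eq_left.2 (le_cz_comm.1 h1)] at h2
  exact hn (comm_iff_le_cz.1 h2)

theorem E2Str.nz {p : ℕ} (hp : p.Prime) {P A Z Y : Subgroup G} (h : E2Str p P A Z Y)
    (hAP : A ≤ P) (hn : ¬ P ≤ 𝓒(P)) (hA : MaxE2 p A) : 𝓝(P) ≤ 𝓝(Z) := by
  rw [le_nz]
  intro g hg z hz
  refine h.mem_Z hp hAP hn hA (mem_inf.2 ⟨?_, ?_⟩) ?_
  · exact le_nz.1 (le_refl 𝓝(P)) g hg z (hAP (h.ZA hz))
  · exact le_nz.1 (nz_le_nz_cz P) g hg z (h.Zc hz)
  · rw [conj_pow, hA.el.2 z (h.ZA hz)]; group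

variable (hG : IsMinSimpleOddOrder G)
include hG

/-- B & G 10.13 for Sylow subgroups -/
theorem e2_sylow {p : ℕ} (hp : p.Prime) {S A : Subgroup G} (hS : IsPiHallOf {p} S ⊤)
    (hAS : A ≤ S) (hn : ¬ S ≤ 𝓒(S)) (hA : MaxE2 p A) : ∃ Z Y, E2Str p S A Z Y := by
  have hSp : IsPGroup p S := (hall_isPi hS).isPGroup hp
  have hp2 : p ≠ 2 := ms_p_ne_two hG hp hA.dvd
  by_cases hr : PRankLE p 2 S
  · have hS1 : S ≠ ⊥ := by rintro rfl; exact hn bot_le
    have hSt := ms_p_ne_top hG hp hSp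
    have hNt := ms_nz_ne_top hG hS1 hSt
    have hNs := ms_sol hG hNt
    obtain ⟨V, hV⟩ := hall_exists (π := {p}ᶜ) hNs
    have hPN := hall_le_of_le hS le_normalizer le_top
    have hsup := hall_sup_compl hPN hV
    have hVN := hall_le hV
    have hcop : (Nat.card V).Coprime p := (isPi_compl_singleton' hp).1 (hall_isPi hV)
    have hPV : ⁅S, V⁆ = S := by
      refine eq_comm_of_le_der hVN ?_ ?_ ?_
      · exact IsPi.inf_eq_bot (hall_isPi hS) (hall_isPi hV)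
      · exact solvable_of_isPGroup hp hSp
      · rw [hsup]; exact bg10_7foc hG hp hS
    obtain ⟨h3, h⟩ := rank2_struct hp hp2 hSp hS1 hr hVN hcop (ms_odd hG V) hPV
    rcases h with h | ⟨W, hWS, hW, hWc, hWn, hWC, hcyc⟩
    · exact absurd (comm_iff_le_cz.1 h) hn
    obtain ⟨hZe, hZc⟩ := nonab_p3 hp (hSp.to_le hWS) hWc hWn
    set Z := ⁅W, W⁆ with hZ
    have hAW : A ≤ W := fun a ha => (hW a (hAS ha)).1 (hA.el.2 a ha)
    have hZW : Z ≤ W := by rw [hZe]; exact inf_le_left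
    have hZCW : Z ≤ 𝓒(W) := by rw [hZe]; exact inf_le_right
    have hZA : Z ≤ A := fun z hz => hA.mem ((cz_anti hAW) (hZCW hz))
      ((hW z (hWS (hZW hz))).2 (hZW hz))
    have hAc := comm_iff_le_cz.1 hA.el.1
    have hCN : W ≤ 𝓝(S ⊓ 𝓒(W)) := le_nz_of_le_cz (by rw [le_cz_comm]; exact inf_le_right)
    have hZCS : Z ≤ 𝓒(S) := by
      rw [le_cz_comm, ← hWC]
      refine sup_le ?_ ?_
      · rw [le_cz_comm]; exact hZCW
      · exact inf_le_right.trans (cz_anti hZW)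
    refine ⟨Z, S ⊓ 𝓒(W), hZc, hZA, hZCS, hcyc, le_inf (hZW.trans hWS) hZCW,
      inf_le_inf_left _ (cz_anti hAW), ?_⟩
    intro A₀ hA₀ hc₀ hne
    have h0 : ¬ A₀ ≤ S ⊓ 𝓒(W) := by
      intro h
      apply hne
      refine card_p_eq hp hc₀ hZc ?_
      rw [hZe]
      exact le_inf (hA₀.trans hAW) (h.trans inf_le_right)
    refine ⟨card_p_inf hp hc₀ h0, ?_⟩
    obtain ⟨-, e⟩ := two_lines hp hA.el.1 hA.card hA₀ hZA hc₀ hZc hne
    apply le_antisymm
    · exact sup_le (le_inf (hA₀.trans hAS) (hA₀.trans hAc)) (inf_le_inf_left _ (cz_anti hAW))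
    · intro x hx
      have hxS := (mem_inf.1 hx).1
      rw [← hWC] at hxS
      obtain ⟨w, hw, c, hc, rfl⟩ := (mem_sup_of_nz hCN).1 hxS
      have hcA : c ∈ 𝓒(A) := (cz_anti hAW) (mem_inf.1 hc).2
      have hwA : w ∈ 𝓒(A) := by
        have h3 := mul_mem (mem_inf.1 hx).2 (inv_mem hcA)
        rwa [mul_inv_cancel_right] at h3
      have hwA' : w ∈ A := hA.mem hwA ((hW w (hWS hw)).2 hw)
      rw [← e] at hwA'
      refine mul_mem ?_ (mem_sup_right hc)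
      exact (sup_le_sup_left (le_inf (hZW.trans hWS) hZCW) A₀) hwA'
  · exact e2_narrow hp hp2 hSp hr hAS hA

/-- B & G 10.13 -/
theorem e2_exists {p : ℕ} (hp : p.Prime) {P A : Subgroup G} (hP : IsPGroup p P)
    (hAP : A ≤ P) (hn : ¬ P ≤ 𝓒(P)) (hA : MaxE2 p A) : ∃ Z Y, E2Str p P A Z Y := by
  obtain ⟨S, hS, hPS⟩ := exists_syl_ge hp (isPi_of_isPGroup hp hP) (le_top : P ≤ ⊤)
  have hnS : ¬ S ≤ 𝓒(S) := fun h => hn (hPS.trans (h.trans (cz_anti hPS)))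
  obtain ⟨Z, Y, h⟩ := e2_sylow hG hp hS (hAP.trans hPS) hnS hA
  have hZP : Z ≤ P := h.ZA.trans hAP
  refine ⟨Z, Y ⊓ P, h.cZ, h.ZA, h.Zc.trans (cz_anti hPS), ?_, le_inf h.ZY hZP, ?_, ?_⟩
  · haveI := h.Yc
    exact isCyclic_of_injective (Subgroup.inclusion (inf_le_left : Y ⊓ P ≤ Y))
      (Subgroup.inclusion_injective _)
  · exact le_inf inf_le_right (inf_le_left.trans (h.YP.trans inf_le_right))
  · intro A₀ hA₀ hc₀ hne
    obtain ⟨e1, e2⟩ := h.spl A₀ hA₀ hc₀ hne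
    refine ⟨by rw [eq_bot_iff, ← e1]; exact inf_le_inf_left _ inf_le_left, ?_⟩
    have hAc := comm_iff_le_cz.1 hA.el.1
    apply le_antisymm
    · exact sup_le (le_inf (hA₀.trans hAP) (hA₀.trans hAc))
        (le_inf inf_le_right (inf_le_left.trans (h.YP.trans inf_le_right)))
    · intro x hx
      have hx' : x ∈ A₀ ⊔ Y := by
        rw [e2]; exact mem_inf.2 ⟨hPS (mem_inf.1 hx).1, (mem_inf.1 hx).2⟩
      have hAY : A₀ ≤ 𝓝(Y) := le_nz_of_le_cz (by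
        rw [le_cz_comm]
        exact h.YP.trans (inf_le_right.trans (cz_anti hA₀)))
      obtain ⟨a, ha, y, hy, rfl⟩ := (mem_sup_of_nz hAY).1 hx'
      refine mul_mem (mem_sup_left ha) (mem_sup_right (mem_inf.2 ⟨hy, ?_⟩))
      have h3 := mul_mem (inv_mem (hAP (hA₀ ha))) (mem_inf.1 hx).1
      rwa [inv_mul_cancel_left] at h3

end

end CfsgLib.BGPi
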