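import Cfsg.Agent.EqBase
import Cfsg.Agent.LibBGThm36h

/-! B & G Theorem 3.8. -/

open scoped Pointwise commutatorElement
open Subgroup Cfsg

namespace CfsgLib.BGPi

universe u
variable {G : Type u} [Group G] [Finite G]

/-- a coprime group centralizing the Fitting subgroup of a solvable group centralizes it -/
theorem cop_fitting {A K : Subgroup G} (hAK : A ≤ 𝓝(K)) (hcop : (Nat.card A).Coprime (Nat.card K))
    (hs : Group.IsSolvable K) (h : A ≤ 𝓒(fittingOf K)) : A ≤ 𝓒(K) := by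
  set F := fittingOf K with hF
  have hKF : K ≤ 𝓝(F) := le_nz_fittingOf K
  have h1 : ⁅⁅K, F⁆, A⁆ = ⊥ := by
    rw [comm_eq_bot_iff]
    exact (comm_le_right hKF).trans (le_cz_comm.1 h)
  have h2 : ⁅⁅F, A⁆, K⁆ = ⊥ := by
    rw [comm_eq_bot_iff.2 (le_cz_comm.1 h), commutator_bot_left]
  have h3 := three_le h1 h2
  have h4 : ⁅K, A⁆ ≤ F := by
    refine le_trans (le_inf (comm_le_left hAK) ?_) (cz_fittingOf_le hs)
    rw [commutator_comm, ← comm_eq_bot_iff]; exact h3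
  exact cop_le_cz hAK hcop hs (le_trans h (cz_anti h4))

/-- the prime order case of 3.8 -/
theorem bg38 {K R : Subgroup G} (hKs : Group.IsSolvable K) (hKodd : Odd (Nat.card K))
    (hRK : R ≤ 𝓝(K)) (hcop : (Nat.card R).Coprime (Nat.card K)) (hr : (Nat.card R).Prime)
    (hr2 : Nat.card R ≠ 2) (hF : fittingOf K ⊓ 𝓒(R) = ⊥) : ⁅K, R⁆ ≤ fittingOf K := by
  set F := fittingOf K with hFdef
  have hFK : F ≤ K := fittingOf_le K
  have hKF : K ≤ 𝓝(F) := le_nz_fittingOf K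
  have hRF : R ≤ 𝓝(F) := hRK.trans (nz_le_nz_fittingOf K)
  have hFn := fittingOf_nilpotent K
  rw [← qm_cz_iff hKF hRF, le_cz_comm]
  have hcop' : (Nat.card (qm F R)).Coprime (Nat.card (qm F K)) :=
    Nat.Coprime.coprime_dvd_left (qm_card_dvd hRF) (hcop.coprime_dvd_right (qm_card_dvd hKF))
  apply cop_fitting (qm_nz hRK) hcop' (qm_solvable hKs)
  rw [le_cz_comm]
  apply le_of_syls
  intro q hq
  have hn := fittingOf_nilpotent (qm F K)
  refine ⟨_, nilpotent_hall (π := {q}) hn, ?_⟩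
  rw [piCoreOf_fittingOf hq]
  set Y := pull F (piCoreOf {q} (qm F K)) with hY
  have hYK : Y ≤ K := by
    conv_rhs => rw [← pull_qm hFK hKF]
    exact pull_mono (piCoreOf_le _ _)
  have hFY : F ≤ Y := le_pull
  have hKY : K ≤ 𝓝(Y) := pull_nz hKF (le_nz_piCoreOf _ _)
  have hRY : R ≤ 𝓝(Y) := pull_nz hRF ((qm_nz hRK).trans (nz_le_nz_piCoreOf _ _))
  have hYF : Y ≤ 𝓝(F) := hYK.trans hKF
  have hYelt : ∀ x ∈ Y, ∃ k : ℕ, x ^ q ^ k ∈ F := by
    intro x hx
    obtain ⟨hx1, hx2⟩ := mem_pull.1 hx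
    obtain ⟨k, hk⟩ := (isPi_piCoreOf {q} (qm F K)).isPGroup hq ⟨_, hx2⟩
    refine ⟨k, ?_⟩
    have h1 : (qe F hx1) ^ q ^ k = 1 := congrArg Subtype.val hk
    rwa [← qe_pow, qe_eq_one] at h1
  have hYs := solvable_sub hYK hKs
  have hcopY : (Nat.card R).Coprime (Nat.card Y) := hcop.coprime_dvd_right (card_dvd_of_le hYK)
  obtain ⟨Q, hQ, hRQ⟩ := cop_hall_exists hRY hcopY hYs {q}
  have hQY := hall_le hQ
  have hQK := hQY.trans hYK
  have hQq : IsPGroup q Q := (hall_isPi hQ).isPGroup hq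
  -- `Y = F Q`
  have hFQ : F ⊔ Q = Y := by
    apply le_antisymm (sup_le hFY hQY)
    rw [← relIndex_eq_one]
    by_contra hne
    obtain ⟨l, hl, hld⟩ := Nat.exists_prime_and_dvd hne
    by_cases hlq : l = q
    · subst hlq
      exact (hall_iff.1 hQ).2.2 l hl rfl (hld.trans (relIndex_dvd_of_le_left Y le_sup_right))
    · refine not_dvd_relIndex_of_elt hl hFY hYF ?_ (hld.trans (relIndex_dvd_of_le_left Y le_sup_left))
      intro x hx
      obtain ⟨k, hk⟩ := hYelt x hx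
      exact ⟨q ^ k, ((Nat.coprime_primes hq hl).2 (Ne.symm hlq)).pow_left k, hk⟩
  -- `[Q, R]` centralizes `O_p(K)` for `p ≠ q`
  have hcent : ⁅Q, R⁆ ≤ 𝓒(piCoreOf {q}ᶜ F) := by
    rw [le_cz_comm]
    apply le_of_syls
    intro p hp
    have hFp : piCoreOf {q}ᶜ F ≤ F := piCoreOf_le _ _
    have hFpn := nilpotent_sub hFp hFn
    refine ⟨_, nilpotent_hall (π := {p}) hFpn, ?_⟩
    rw [piCoreOf_piCoreOf]
    by_cases hpq : p = q
    · have h1 : ({p} ∩ {q}ᶜ : Set ℕ) = ∅ := by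
        ext x; simp only [Set.mem_inter_iff, Set.mem_singleton_iff, Set.mem_compl_iff,
          Set.mem_empty_iff_false, iff_false]
        rintro ⟨rfl, h⟩; exact h hpq
      have h2 : piCoreOf ({p} ∩ {q}ᶜ) F = ⊥ := by
        rw [h1]; exact isPi_bot_iff.1 (isPi_piCoreOf _ _)
      rw [h2]; exact bot_le
    have h1 : ({p} ∩ {q}ᶜ : Set ℕ) = {p} := by
      ext x; simp only [Set.mem_inter_iff, Set.mem_singleton_iff, Set.mem_compl_iff,
          and_iff_left_iff_imp]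
      rintro rfl h; exact hpq h
    rw [h1]
    set V := piCoreOf {p} F with hV
    by_cases hV0 : V = ⊥
    · rw [hV0]; exact bot_le
    have hVF : V ≤ F := piCoreOf_le _ _
    have hVK : V ≤ K := hVF.trans hFK
    have hKV : K ≤ 𝓝(V) := hKF.trans (nz_le_nz_piCoreOf _ _)
    have hRV : R ≤ 𝓝(V) := hRF.trans (nz_le_nz_piCoreOf _ _)
    have hVp : IsPGroup p V := (isPi_piCoreOf _ _).isPGroup hp
    have hpK : p ∣ Nat.card K := (pgroup_dvd_card hp hVp hV0).trans (card_dvd_of_le hVK)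
    have hrp : Nat.card R ≠ p := by
      intro h
      rw [h] at hcop
      exact hp.one_lt.ne' (Nat.Coprime.eq_one_of_dvd hcop hpK)
    have hΦV := phi_le p V
    have hq2 : Odd (Nat.card Q) := Odd.of_dvd_nat hKodd (card_dvd_of_le hQK)
    have hQV : Q ≤ 𝓝(V) := hQK.trans hKV
    have h2 := thm34_mod hp hr hrp hr2 (V := V) (W := phi p V) (K := Q) (R := R)
      (le_normalizer.trans (nz_le_nz_phi _ _)) (hQV.trans (nz_le_nz_phi _ _))
      (hRV.trans (nz_le_nz_phi _ _)) hΦV (comm_le_phi p V) (fun v hv => pow_mem_phi hv)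
      (pgroup_solvable hp hVp) rfl (hcop.coprime_dvd_right (card_dvd_of_le hVK))
      (pgroup_solvable hq hQq) hq2 (pgroup_not_dvd hq hp hpq hQq)
      (hcop.coprime_dvd_right (card_dvd_of_le hQK)) hRQ hQV hRV
      (by
        refine le_trans ?_ bot_le
        rw [← hF]; exact inf_le_inf_right _ hVF)
    have hQR : ⁅Q, R⁆ ≤ Q := comm_le_left hRQ
    have hQRV : ⁅Q, R⁆ ≤ 𝓝(V) := hQR.trans hQV
    have hc : (Nat.card ↥⁅Q, R⁆).Coprime (Nat.card V) :=
      pq_coprime hq hp (Ne.symm hpq) (hQq.to_le hQR) hVp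
    have h3 := cop_quot_cz hQRV hc (pgroup_solvable hp hVp) hΦV
      (hQRV.trans (nz_le_nz_phi _ _)) le_rfl (le_normalizer.trans (nz_le_nz_phi _ _)) h2
    have h4 : V ⊓ 𝓒(⁅Q, R⁆) = V := phi_nongen hp hVp inf_le_left h3
    rw [← h4]; exact inf_le_right
  set C := Y ⊓ 𝓒(piCoreOf {q}ᶜ F) with hC
  have hCn : Group.IsNilpotent C := by
    apply nilpotent_of_central_quot hq
    intro x hx hxo
    have hxY := (mem_inf.1 hx).1
    obtain ⟨k, hk⟩ := hYelt x hxY
    have hxF : x ∈ F := mem_of_pow_mem_coprime (m := q ^ k) (n := orderOf x)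
      ((hxo.pow_right k).symm) hk (by rw [pow_orderOf_eq_one]; exact one_mem _)
    have hxq : x ∈ piCoreOf {q}ᶜ F := by
      have h1 : zpowers x ≤ piCoreOf {q}ᶜ F := by
        apply nilpotent_le_piCoreOf hFn (zpowers_le.2 hxF)
        rw [isPi_compl_singleton' hq, Nat.card_zpowers]; exact hxo
      exact h1 (mem_zpowers x)
    have : C ≤ 𝓒(piCoreOf {q}ᶜ F) := inf_le_right
    exact (le_cz_comm.1 this) hxq
  have hCF : C ≤ F := le_fittingOf (inf_le_left.trans hYK)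
    (le_nz_inf hKY (le_nz_cz (hKF.trans (nz_le_nz_piCoreOf _ _)))) hCn
  have hQRF : ⁅Q, R⁆ ≤ F :=
    le_trans (le_inf ((comm_le_left hRQ).trans hQY) hcent) hCF
  have hYRF : ⁅Y, R⁆ ≤ F := by
    rw [← hFQ]
    exact (comm_sup_le_left (hQK.trans hKF) hRF).trans (sup_le le_rfl hQRF)
  have h1 : piCoreOf {q} (qm F K) = qm F Y := by
    apply le_antisymm
    · intro y hy
      obtain ⟨x, hx, hxK, rfl⟩ := mem_qm.1 (piCoreOf_le _ _ hy)
      exact qe_mem hx (mem_pull.2 ⟨hx, hy⟩)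
    · intro y hy
      obtain ⟨x, hx, hxY, rfl⟩ := mem_qm.1 hy
      exact (mem_pull.1 hxY).2
  rw [h1, qm_cz_iff hYF hRF]
  exact hYRF

end CfsgLib.BGPi
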