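import Cfsg.Agent.EqBase
import Cfsg.Agent.LibBG11c
import Cfsg.Agent.LibBG38

/-! B & G section 11. -/

open Subgroup
open scoped Pointwise commutatorElement

namespace CfsgLib.BGPi

open Cfsg

universe u

section
variable {G : Type u} [Group G] [Finite G]

theorem ab_cop_inf {V A : Subgroup G} (hV : V ≤ 𝓒(V)) (hA : A ≤ 𝓝(V))
    (hcop : (Nat.card A).Coprime (Nat.card V)) : ⁅V, A⁆ ⊓ 𝓒(A) = ⊥ := by
  haveI := comm_iff_le_cz.2 hV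
  exact CfsgLib.Coprime2.commutator_inf_centralizer (V := V) (A := A) hA hcop

theorem l34 {l : ℕ} (hl : l.Prime) {V K X : Subgroup G} (hV : IsPGroup l V)
    (hX : (Nat.card X).Prime) (hX2 : Nat.card X ≠ 2) (hXl : Nat.card X ≠ l)
    (hKs : Group.IsSolvable K) (hKodd : Odd (Nat.card K)) (hKl : (Nat.card K).Coprime l)
    (hcop : (Nat.card X).Coprime (Nat.card K)) (hXK : X ≤ 𝓝(K)) (hKV : K ≤ 𝓝(V))
    (hXV : X ≤ 𝓝(V)) (hfix : V ⊓ 𝓒(X) ≤ 𝓒(⁅K, X⁆)) : ⁅K, X⁆ ≤ 𝓒(V) := by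
  set D := ⁅K, X⁆ with hD
  have hDK : D ≤ K := comm_le_left hXK
  have hKD : K ≤ 𝓝(D) := left_le_nz_comm K X
  have hXD : X ≤ 𝓝(D) := right_le_nz_comm K X
  have hDV : D ≤ 𝓝(V) := hDK.trans hKV
  set W := ⁅V, D⁆ with hW
  have hWV : W ≤ V := comm_le_left hDV
  have hKW : K ≤ 𝓝(W) := le_nz_comm hKV hKD
  have hXW : X ≤ 𝓝(W) := le_nz_comm hXV hXD
  have hWl := hV.to_le hWV
  have hVs := pgroup_solvable hl hV
  have hcD : (Nat.card D).Coprime (Nat.card V) :=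
    coprime_card_of_pgroup hl hV (hKl.coprime_dvd_left (card_dvd_of_le hDK))
  have hWD : ⁅W, D⁆ = W := cop_comm_comm hDV hcD hVs
  have hcDW : (Nat.card D).Coprime (Nat.card W) := hcD.coprime_dvd_right (card_dvd_of_le hWV)
  have hPW := phi_le l W
  have hWP : W ≤ 𝓝(phi l W) := le_normalizer.trans (nz_le_nz_phi l W)
  have hDW : D ≤ 𝓝(W) := hDK.trans hKW
  have hDP : D ≤ 𝓝(phi l W) := hDW.trans (nz_le_nz_phi l W)
  have hab : qm (phi l W) W ≤ 𝓒(qm (phi l W) W) := (qm_cz_iff hWP hWP).2 (comm_le_phi l W)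
  have hq := ab_cop_inf (V := qm (phi l W) W) (A := qm (phi l W) D) hab (qm_nz hDW)
    (Nat.Coprime.coprime_dvd_left (qm_card_dvd hDP) (hcDW.coprime_dvd_right (qm_card_dvd hWP)))
  rw [← qm_comm hWP hDP, hWD] at hq
  have h1 : W ⊓ 𝓒(D) ≤ phi l W := by
    rw [← qm_eq_bot (inf_le_left.trans hWP), eq_bot_iff, ← hq]
    refine le_inf (qm_mono inf_le_left) ?_
    rw [qm_cz_iff (inf_le_left.trans hWP) hDP]
    have : ⁅W ⊓ 𝓒(D), D⁆ = ⊥ := comm_eq_bot_iff.2 inf_le_right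
    rw [this]; exact bot_le
  have hcX : (Nat.card X).Coprime (Nat.card W) :=
    coprime_card_of_pgroup hl hWl ((Nat.coprime_primes hX hl).2 hXl)
  have hKnd : ¬ l ∣ Nat.card K := fun h => hl.one_lt.ne' (Nat.Coprime.eq_one_of_dvd hKl.symm h)
  have h2 := thm34_mod hl hX hXl hX2 (V := W) (W := phi l W) (K := K) (R := X) hWP
    (hKW.trans (nz_le_nz_phi l W)) (hXW.trans (nz_le_nz_phi l W)) hPW (comm_le_phi l W)
    (fun v hv => pow_mem_phi hv) (pgroup_solvable hl hWl) rfl hcX hKs hKodd hKnd hcop hXK hKW hXW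
    (le_trans (le_inf inf_le_left ((inf_le_inf_right _ hWV).trans hfix)) h1)
  rw [← hD, hWD] at h2
  have hWb : W = ⊥ := by
    by_contra hne
    exact (phi_lt hl hWl hne).not_ge h2
  rw [le_cz_comm, ← comm_eq_bot_iff]
  exact hWb

theorem l34s {V K X : Subgroup G} (hVs : Group.IsSolvable V)
    (hX : (Nat.card X).Prime) (hX2 : Nat.card X ≠ 2)
    (hKs : Group.IsSolvable K) (hKodd : Odd (Nat.card K))
    (hKV' : (Nat.card K).Coprime (Nat.card V)) (hXV' : (Nat.card X).Coprime (Nat.card V))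
    (hcop : (Nat.card X).Coprime (Nat.card K)) (hXK : X ≤ 𝓝(K)) (hKV : K ≤ 𝓝(V))
    (hXV : X ≤ 𝓝(V)) (hfix : V ⊓ 𝓒(X) ≤ 𝓒(⁅K, X⁆)) : ⁅K, X⁆ ≤ 𝓒(V) := by
  rw [le_cz_comm]
  apply le_of_syls
  intro l hl
  by_cases hd : l ∣ Nat.card V
  · have hKXV : K ⊔ X ≤ 𝓝(V) := sup_le hKV hXV
    have hc : (Nat.card ↥(K ⊔ X)).Coprime (Nat.card V) := by
      have := card_sup_mul_card_inf (H := X) (K := K) hXK
      rw [sup_comm]
      exact Nat.Coprime.coprime_dvd_left (Dvd.intro _ this) (Nat.Coprime.mul_left hXV' hKV')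
    obtain ⟨S, hS, hn⟩ := cop_hall_exists hKXV hc hVs {l}
    refine ⟨S, hS, ?_⟩
    rw [le_cz_comm]
    refine l34 hl ((hall_isPi hS).isPGroup hl) hX hX2 ?_ hKs hKodd (hKV'.coprime_dvd_right hd)
      hcop hXK (le_sup_left.trans hn) (le_sup_right.trans hn)
      ((inf_le_inf_right _ (hall_le hS)).trans hfix)
    rintro rfl
    exact hX.one_lt.ne' (Nat.Coprime.eq_one_of_dvd hXV' hd)
  · exact ⟨⊥, hall_bot.2 ((isPi_compl_singleton hl).2 hd), bot_le⟩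

theorem comm_sup_right_le {Q X Y D : Subgroup G} (hQ : Q ≤ 𝓝(D)) (hX : X ≤ 𝓝(D)) (hY : Y ≤ 𝓝(D))
    (h1 : ⁅Q, X⁆ ≤ D) (h2 : ⁅Q, Y⁆ ≤ D) : ⁅Q, X ⊔ Y⁆ ≤ D := by
  rw [← qm_cz_iff hQ (sup_le hX hY), le_cz_comm, qm_sup hX hY]
  rw [← qm_cz_iff hQ hX, le_cz_comm] at h1
  rw [← qm_cz_iff hQ hY, le_cz_comm] at h2
  exact sup_le h1 h2

theorem zpowers_card_prime {p : ℕ} (hp : p.Prime) {x : G} (hx : x ^ p = 1) (h1 : x ≠ 1) :
    Nat.card (zpowers x) = p := by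
  haveI : Fact p.Prime := ⟨hp⟩
  rw [Nat.card_zpowers]; exact orderOf_eq_prime hx h1

theorem exists_line_ne2 {p : ℕ} (hp : p.Prime) {A B₁ B₂ : Subgroup G}
    (hA : IsElementaryAbelian p A) (hc : Nat.card A = p ^ 2) (h1 : B₁ ≤ A) (h2 : B₂ ≤ A)
    (hc1 : Nat.card B₁ = p) (hc2 : Nat.card B₂ = p) :
    ∃ X ≤ A, Nat.card X = p ∧ X ≠ B₁ ∧ X ≠ B₂ := by
  by_cases he : B₁ = B₂
  · subst he
    obtain ⟨X, hX, hXc, hne⟩ := exists_line_ne hp hA hc hc1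
    exact ⟨X, hX, hXc, hne, hne⟩
  · obtain ⟨hi, -⟩ := two_lines hp hA.1 hc h1 h2 hc1 hc2 he
    have hn : ∀ B : Subgroup G, Nat.card B = p → ∃ b ∈ B, b ≠ 1 := by
      intro B hB
      have h3 : B ≠ ⊥ := by
        rintro rfl
        rw [card_bot] at hB
        exact hp.one_lt.ne hB
      exact B.bot_or_exists_ne_one.resolve_left h3
    obtain ⟨a, ha, ha1⟩ := hn B₁ hc1
    obtain ⟨b, hb, hb1⟩ := hn B₂ hc2
    have hab1 : a * b ≠ 1 := by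
      intro h
      have h3 : b ∈ B₁ ⊓ B₂ := ⟨by
        rw [← inv_eq_of_mul_eq_one_right h]; exact B₁.inv_mem ha, hb⟩
      rw [hi, mem_bot] at h3
      exact hb1 h3
    have habA : a * b ∈ A := mul_mem (h1 ha) (h2 hb)
    refine ⟨zpowers (a * b), by rwa [zpowers_le], zpowers_card_prime hp (hA.2 _ habA) hab1, ?_, ?_⟩
    · intro h
      have h3 : a * b ∈ B₁ := by rw [← h]; exact mem_zpowers _
      have h4 : b ∈ B₁ ⊓ B₂ := ⟨by simpa using mul_mem (inv_mem ha) h3, hb⟩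
      rw [hi, mem_bot] at h4
      exact hb1 h4
    · intro h
      have h3 : a * b ∈ B₂ := by rw [← h]; exact mem_zpowers _
      have h4 : a ∈ B₁ ⊓ B₂ := ⟨ha, by simpa using mul_mem h3 (inv_mem hb)⟩
      rw [hi, mem_bot] at h4
      exact ha1 h4

theorem syl_maxInv {q : ℕ} {A Q : Subgroup G} (hQ : IsPiHallOf {q} Q ⊤) (hA : A ≤ 𝓝(Q)) :
    Q ∈ maxInvSubgroups ⊤ A {q} := by
  refine ⟨mem_inv_top.2 ⟨hall_isPi hQ, hA⟩, ?_⟩
  intro R hR hQR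
  exact (hall_eq_of_le hQ (mem_inv_top.1 hR).1 le_top hQR).symm

theorem sigma_cj_le (M : Subgroup G) (g : G) : sigma M ⊆ sigma (M ^ᵍ g) := by
  intro p h
  obtain ⟨hp, hd, P, hP, hN⟩ := mem_sigma_iff.1 h
  refine mem_sigma_iff.2 ⟨hp, by rwa [card_cj], P ^ᵍ g, hall_cj hP g, ?_⟩
  rw [nz_cj]; exact cj_mono hN g

theorem sigma_cj (M : Subgroup G) (g : G) : sigma (M ^ᵍ g) = sigma M := by
  apply Set.Subset.antisymm _ (sigma_cj_le M g)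
  have := sigma_cj_le (M ^ᵍ g) g⁻¹
  rwa [cj_inv_cj] at this

theorem sigmaCore_cj (M : Subgroup G) (g : G) : sigmaCore (M ^ᵍ g) = (sigmaCore M) ^ᵍ g := by
  have h1 : ∀ X : Subgroup G, sigmaCore X = piCoreOf (sigma X) X := fun X => rfl
  rw [h1, h1, sigma_cj, piCoreOf_cj]

/-- in an abelian `p`-group containing `A` -/
theorem MaxE2.omega {p : ℕ} {A P : Subgroup G} (h : MaxE2 p A) (hAP : A ≤ P) (hP : P ≤ 𝓒(P))
    {x : G} (hx : x ∈ P) : x ^ p = 1 ↔ x ∈ A :=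
  ⟨fun hxp => h.mem (cz_anti hAP (hP hx)) hxp, fun hxA => h.el.2 x hxA⟩

theorem MaxE2.nz {p : ℕ} {A P : Subgroup G} (h : MaxE2 p A) (hAP : A ≤ P) (hP : P ≤ 𝓒(P)) :
    𝓝(P) ≤ 𝓝(A) := by
  rw [le_nz]
  intro g hg a ha
  have h1 : g * a * g⁻¹ ∈ P := (mem_normalizer_iff.1 hg a).1 (hAP ha)
  rw [← h.omega hAP hP h1, conj_pow, h.el.2 a ha]
  group

/-- the hypothesis of section 11 -/
structure Exc (p : ℕ) (M A₀ A : Subgroup G) : Prop where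
  hM : IsCoatom M
  hp : p.Prime
  ns : p ∉ sigma M
  AM : A ≤ M
  el : IsElementaryAbelian p A
  card : Nat.card A = p ^ 2
  A0 : A₀ ≤ A
  card0 : Nat.card A₀ = p
  nz : 𝓝(A₀) ≤ M

theorem Exc.cz {p : ℕ} {M A₀ A : Subgroup G} (c : Exc p M A₀ A) : 𝓒(A) ≤ M :=
  (cz_anti c.A0).trans ((cz_le_nz _).trans c.nz)

theorem Exc.ne {p q : ℕ} {M A₀ A : Subgroup G} (c : Exc p M A₀ A) (hq : q ∈ sigma M) : q ≠ p :=
  fun h => c.ns (h ▸ hq)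

theorem Exc.isPi {p : ℕ} {M A₀ A : Subgroup G} (c : Exc p M A₀ A) : IsPi (sigma M)ᶜ A := by
  intro q hq hd hqs
  have h1 := elab_isPi c.hp c.el q hq hd
  rw [Set.mem_singleton_iff] at h1
  exact c.ne hqs h1

variable (hG : IsMinSimpleOddOrder G)
include hG

theorem Exc.e2 {p : ℕ} {M A₀ A : Subgroup G} (c : Exc p M A₀ A) : MaxE2 p A :=
  maxE2_of hG c.hM c.hp (rank_of_not_sigma hG c.hM c.hp c.ns) c.AM c.el c.card

theorem Exc.cop {p : ℕ} {M A₀ A : Subgroup G} (c : Exc p M A₀ A) :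
    (Nat.card A).Coprime (Nat.card (sigmaCore M)) :=
  ((hall_isPi (sigma_hall hG c.hM)).coprime c.isPi).symm

theorem Exc.act {p : ℕ} {M A₀ A : Subgroup G} (c : Exc p M A₀ A) : A ≤ 𝓝(sigmaCore M) :=
  c.AM.trans (le_nz_sigmaCore hG M)

theorem sigmaCore_le {M : Subgroup G} (hM : IsCoatom M) : sigmaCore M ≤ M :=
  hall_le (sigma_hall hG hM)

theorem sigmaCore_sol {M : Subgroup G} (hM : IsCoatom M) : Group.IsSolvable (sigmaCore M) :=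
  solvable_sub (sigmaCore_le hG hM) (max_sol hG hM)

/-- 11.1 -/
theorem Exc.meet1 {p q : ℕ} {M A₀ A : Subgroup G} (c : Exc p M A₀ A) {g : G} (hg : g ∉ M)
    (hq : q ∈ sigma M) {Q₁ Q₂ H : Subgroup G} (h1 : IsPiHallOf {q} Q₁ M)
    (h2 : IsPiHallOf {q} Q₂ (M ^ᵍ g)) (hA1 : A ≤ 𝓝(Q₁)) (hA2 : A ≤ 𝓝(Q₂)) (hH : H ≠ ⊤)
    (hAH : A ≤ H) (e1 : H ⊓ Q₁ ≠ ⊥) (e2 : H ⊓ Q₂ ≠ ⊥) : False := by
  have hqp := sigma_prime hq
  have hQ1 := sigma_syl hq h1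
  have hX : IsPiHallOf {q} (Q₂ ^ᵍ g⁻¹) M := by
    have := hall_cj h2 g⁻¹
    rwa [cj_inv_cj] at this
  have hQ2 : IsPiHallOf {q} Q₂ ⊤ := by
    have := hall_cj (sigma_syl hq hX) g
    rwa [cj_cj_inv, cj_top] at this
  obtain ⟨k, hk, e⟩ := (c.e2 hG).meet hG c.hp hqp (c.ne hq) (syl_maxInv hQ1 hA1)
    (syl_maxInv hQ2 hA2) hH hAH e1 e2
  have hkM : k ∈ M := c.cz hk
  have hXg : (Q₂ ^ᵍ g⁻¹) ^ᵍ g ≤ M := by
    rw [cj_cj_inv, e, cj_le_iff, cj_eq_of_mem (inv_mem hkM)]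
    exact hall_le h1
  have hX0 : Q₂ ^ᵍ g⁻¹ ≠ ⊥ := by
    rw [Ne, cj_eq_bot]
    rintro rfl
    exact e2 (inf_bot_eq _)
  obtain ⟨m, hm, c', hc', e'⟩ := bg10_1 hG c.hM hq ((hall_isPi hX).isPGroup hqp) hX0
    (hall_le hX) hXg
  apply hg
  rw [e']
  exact mul_mem hm (sigma_nz hq hX (cz_le_nz _ hc'))

/-- 11.2 -/
theorem Exc.inf_cj {p : ℕ} {M A₀ A : Subgroup G} (c : Exc p M A₀ A) {g : G} (hg : g ∉ M)
    (hAg : A ≤ M ^ᵍ g) : sigmaCore M ⊓ M ^ᵍ g = ⊥ := by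
  by_contra hne
  obtain ⟨q, hq, hqd⟩ := exists_prime_dvd_of_ne_bot hne
  have hsd := sigma_hall hG c.hM
  have hqs : q ∈ sigma M := hall_isPi hsd q hq (hqd.trans (card_dvd_of_le inf_le_left))
  set K := sigmaCore M ⊓ M ^ᵍ g with hK
  have hAK : A ≤ 𝓝(K) := le_nz_inf (c.act hG) (hAg.trans le_normalizer)
  have hcS := c.cop hG
  have hSs := sigmaCore_sol hG c.hM
  have hAs : Group.IsSolvable A := pgroup_solvable c.hp (c.e2 hG).isP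
  obtain ⟨X, hX, hAX⟩ := cop_hall_exists hAK (hcS.coprime_dvd_right (card_dvd_of_le inf_le_left))
    (solvable_sub inf_le_left hSs) {q}
  have hX0 := hall_ne_bot hq hX hqd
  obtain ⟨Q₁, hQ1, hAQ1, hXQ1⟩ := cop_hall_ge (c.act hG) hcS hSs hAs (hall_isPi hX)
    ((hall_le hX).trans inf_le_left) hAX
  have hQ1M := hall_trans hQ1 hsd (Set.singleton_subset_iff.2 hqs)
  have hMg := coatom_cj c.hM g
  have hqs' : q ∈ sigma (M ^ᵍ g) := by rw [sigma_cj]; exact hqs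
  have hXS : X ≤ sigmaCore (M ^ᵍ g) := syl_le_sigmaCore hG hMg hqs' (hall_isPi hX)
    ((hall_le hX).trans inf_le_right)
  have hcS' : (Nat.card A).Coprime (Nat.card (sigmaCore (M ^ᵍ g))) := by
    rw [sigmaCore_cj, card_cj]; exact hcS
  obtain ⟨Q₂, hQ2, hAQ2, hXQ2⟩ := cop_hall_ge (hAg.trans (le_nz_sigmaCore hG _)) hcS'
    (sigmaCore_sol hG hMg) hAs (hall_isPi hX) hXS hAX
  have hQ2M := hall_trans hQ2 (sigma_hall hG hMg) (Set.singleton_subset_iff.2 hqs')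
  have hXp : IsPGroup q X := (hall_isPi hX).isPGroup hq
  refine c.meet1 hG hg hqs hQ1M hQ2M hAQ1 hAQ2 (ms_nz_ne_top hG hX0 (ms_p_ne_top hG hq hXp)) hAX
    ?_ ?_
  · intro h
    exact hX0 (le_bot_iff.1 (h ▸ le_inf le_normalizer hXQ1))
  · intro h
    exact hX0 (le_bot_iff.1 (h ▸ le_inf le_normalizer hXQ2))

theorem Exc.fpf_cj {p : ℕ} {M A₀ A : Subgroup G} (c : Exc p M A₀ A) {g : G} (hg : g ∉ M)
    (hAg : A ≤ M ^ᵍ g) : sigmaCore M ⊓ 𝓒(A₀ ^ᵍ g) = ⊥ := by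
  rw [eq_bot_iff, ← c.inf_cj hG hg hAg]
  refine inf_le_inf_left _ ?_
  rw [cz_cj]
  exact cj_mono ((cz_le_nz A₀).trans c.nz) g

theorem Exc.exists_g {p : ℕ} {M A₀ A : Subgroup G} (c : Exc p M A₀ A) {P : Subgroup G}
    (hP : IsPiHallOf {p} P M) (hAP : A ≤ P) : ∃ g ∈ 𝓝(P), g ∉ M := by
  by_contra hcon
  push Not at hcon
  exact c.ns (mem_sigma_iff.2 ⟨c.hp, (elab_card_dvd c.card).trans (card_dvd_of_le c.AM), P, hP,
    hcon⟩)

theorem Exc.exists_P {p : ℕ} {M A₀ A : Subgroup G} (c : Exc p M A₀ A) :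
    ∃ P, IsPiHallOf {p} P M ∧ A ≤ P ∧ ∃ g ∈ 𝓝(P), g ∉ M := by
  obtain ⟨P, hP, hAP⟩ := exists_syl_ge c.hp (elab_isPi c.hp c.el) c.AM
  exact ⟨P, hP, hAP, c.exists_g hG hP hAP⟩

/-- 11.3 -/
theorem Exc.nilp {p : ℕ} {M A₀ A : Subgroup G} (c : Exc p M A₀ A) :
    Group.IsNilpotent (sigmaCore M) := by
  obtain ⟨P, hP, hAP, g, hg, hgM⟩ := c.exists_P hG
  have hPg : P ^ᵍ g = P := mem_nz.1 hg
  have hAg : A ≤ M ^ᵍ g := by
    refine hAP.trans ?_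
    rw [← hPg]; exact cj_mono (hall_le hP) g
  have hfix := c.fpf_cj hG hgM hAg
  have hRM : A₀ ^ᵍ g ≤ M := by
    refine le_trans ?_ (hall_le hP)
    rw [← hPg]; exact cj_mono (c.A0.trans hAP) g
  have hRS : A₀ ^ᵍ g ≤ 𝓝(sigmaCore M) := hRM.trans (le_nz_sigmaCore hG M)
  have hRc : Nat.card ↥(A₀ ^ᵍ g) = p := by rw [card_cj, c.card0]
  have hcop : (Nat.card ↥(A₀ ^ᵍ g)).Coprime (Nat.card (sigmaCore M)) := by
    rw [card_cj]; exact (c.cop hG).coprime_dvd_left (card_dvd_of_le c.A0)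
  have hp2 : p ≠ 2 := ms_p_ne_two hG c.hp (c.e2 hG).dvd
  have hs := sigmaCore_sol hG c.hM
  have h1 := bg38 hs (ms_odd hG _) hRS hcop (by rw [hRc]; exact c.hp) (by rw [hRc]; exact hp2)
    (by
      rw [eq_bot_iff, ← hfix]
      exact inf_le_inf_right _ (fittingOf_le _))
  have h2 := cop_comm_sup hRS hcop hs
  rw [hfix, sup_bot_eq] at h2
  rw [h2] at h1
  exact nilpotent_sub h1 (fittingOf_nilpotent _)

theorem Exc.hall {p q : ℕ} {M A₀ A : Subgroup G} (c : Exc p M A₀ A) (hq : q ∈ sigma M) :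
    IsPiHallOf {q} (piCoreOf {q} (sigmaCore M)) M :=
  hall_trans (nilpotent_hall (c.nilp hG)) (sigma_hall hG c.hM) (Set.singleton_subset_iff.2 hq)

theorem Exc.nd {p q : ℕ} {M A₀ A : Subgroup G} (c : Exc p M A₀ A) (hq : q ∈ sigma M) :
    ¬ q ∣ Nat.card 𝓒(A) := by
  intro hd
  have hqp := sigma_prime hq
  have hQ := c.hall hG hq
  have hMQ : M ≤ 𝓝(piCoreOf {q} (sigmaCore M)) :=
    (le_nz_sigmaCore hG M).trans (nz_le_nz_piCoreOf _ _)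
  obtain ⟨P, hP, hAP, hPQ, hNP, -, -⟩ := bg10_10 hG c.hp hqp (c.ne hq) (c.e2 hG) hd
    (syl_maxInv (sigma_syl hq hQ) (c.AM.trans hMQ))
  have hQM := sigma_nz hq hQ
  have hPM := hPQ.trans hQM
  refine c.ns (mem_sigma_iff.2 ⟨c.hp, (elab_card_dvd c.card).trans (card_dvd_of_le c.AM), P,
    hall_le_of_le hP hPM le_top, hNP.trans (sup_le ((cz_anti hAP).trans c.cz)
      (inf_le_right.trans hQM))⟩)

theorem Exc.inf_cz {p : ℕ} {M A₀ A : Subgroup G} (c : Exc p M A₀ A) :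
    sigmaCore M ⊓ 𝓒(A) = ⊥ := by
  by_contra hne
  obtain ⟨q, hq, hqd⟩ := exists_prime_dvd_of_ne_bot hne
  have hqs : q ∈ sigma M := hall_isPi (sigma_hall hG c.hM) q hq
    (hqd.trans (card_dvd_of_le inf_le_left))
  exact c.nd hG hqs (hqd.trans (card_dvd_of_le inf_le_right))

theorem Exc.final {p : ℕ} {M A₀ A : Subgroup G} (c : Exc p M A₀ A) (h : 𝓝(A) ≤ 𝓝(A₀)) :
    False := by
  obtain ⟨P, hP, hAP, g, hg, hgM⟩ := c.exists_P hG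
  by_cases hab : P ≤ 𝓒(P)
  · exact hgM (c.nz (h ((c.e2 hG).nz hAP hab hg)))
  obtain ⟨Z, Y, hs⟩ := e2_exists hG c.hp ((hall_isPi hP).isPGroup c.hp) hAP hab (c.e2 hG)
  by_cases hZ : A₀ = Z
  · rw [← hZ] at hs
    exact hgM (c.nz (hs.nz c.hp hAP hab (c.e2 hG) hg))
  obtain ⟨⟨x, hx, hxC⟩, htr⟩ := hs.trans c.hp ((hall_isPi hP).isPGroup c.hp) hAP hab (c.e2 hG)
  obtain ⟨X, hXA, hXc, hX1, hX2⟩ := exists_line_ne2 c.hp c.el c.card c.A0 hs.ZA c.card0 hs.cZ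
  obtain ⟨i, hi⟩ := htr x hx hxC A₀ c.A0 X hXA c.card0 hXc hZ hX2
  have h1 : x ^ i ∈ 𝓝(A₀) := pow_mem (h (mem_inf.1 hx).2) i
  rw [mem_nz.1 h1] at hi
  exact hX1 hi.symm

end

end CfsgLib.BGPi
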