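import Cfsg.Agent.EqBase
import Cfsg.Agent.LibBG11d

/-! B & G 11.4. -/

open Subgroup
open scoped Pointwise commutatorElement

namespace CfsgLib.BGPi

open Cfsg

universe u

section
variable {G : Type u} [Group G] [Finite G]

theorem three_lines {p : ℕ} (hp : p.Prime) {A B₁ : Subgroup G}
    (hA : IsElementaryAbelian p A) (hc : Nat.card A = p ^ 2) (h1 : B₁ ≤ A)
    (hc1 : Nat.card B₁ = p) : ∃ B₂ ≤ A, ∃ B₃ ≤ A, Nat.card B₂ = p ∧ Nat.card B₃ = p ∧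
      B₂ ≠ B₁ ∧ B₃ ≠ B₁ ∧ B₃ ≠ B₂ := by
  obtain ⟨B₂, h2, hc2, hne⟩ := exists_line_ne hp hA hc hc1
  obtain ⟨B₃, h3, hc3, hn1, hn2⟩ := exists_line_ne2 hp hA hc h1 h2 hc1 hc2
  exact ⟨B₂, h2, B₃, h3, hc2, hc3, hne, hn1, hn2⟩

theorem nz_line_ne_top (hG : IsMinSimpleOddOrder G) {p : ℕ} (hp : p.Prime) {X : Subgroup G}
    (hX : Nat.card X = p) : 𝓝(X) ≠ ⊤ := by
  have h1 : IsPGroup p X := IsPGroup.of_card (n := 1) (by rw [hX, pow_one])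
  refine ms_nz_ne_top hG ?_ (ms_p_ne_top hG hp h1)
  rintro rfl
  rw [card_bot] at hX
  exact hp.one_lt.ne hX

variable (hG : IsMinSimpleOddOrder G)
include hG

theorem hall_der_nilp {H E : Subgroup G} (hH : IsCoatom H) (hEH : E ≤ H)
    (hE : IsPi (sigma H)ᶜ E) : Group.IsNilpotent ↥⁅E, E⁆ := by
  have h1 : ⁅E, E⁆ ≤ E := comm_self_le E
  refine nilp_of_qm (N := alphaCore H) ((h1.trans hEH).trans (le_nz_alphaCore hG H)) ?_
    (nilpotent_sub (qm_mono (commutator_mono hEH hEH)) (der_quot_nilp hG hH))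
  have h2 : alphaCore H ⊓ ⁅E, E⁆ = ⊥ :=
    ((hall_isPi (sigma_hall hG hH)).le (alpha_le_sigma hG hH)).inf_eq_bot (hE.le h1)
  rw [h2]; exact bot_le

/-- at most one line of `A` acts fixed point freely -/
theorem two_fpf {p r : ℕ} (hp : p.Prime) (hp2 : p ≠ 2) (hr : r.Prime) (hrp : p ≠ r)
    {R Q A X₁ X₂ : Subgroup G}
    (hR : IsPGroup r R) (hA : IsMulCommutative A) (hc : Nat.card A = p ^ 2)
    (hX1 : X₁ ≤ A) (hX2 : X₂ ≤ A)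
    (hc1 : Nat.card X₁ = p) (hc2 : Nat.card X₂ = p) (hne : X₁ ≠ X₂)
    (hQ : Group.IsSolvable Q) (hQr : (Nat.card Q).Coprime r) (hpQ : (Nat.card A).Coprime (Nat.card Q))
    (hAQ : A ≤ 𝓝(Q)) (hQR : Q ≤ 𝓝(R)) (hAR : A ≤ 𝓝(R)) (hQA : ⁅Q, A⁆ = Q)
    (h1 : R ⊓ 𝓒(X₁) = ⊥) (h2 : R ⊓ 𝓒(X₂) = ⊥) : Q ≤ 𝓒(R) := by
  obtain ⟨-, hsup⟩ := two_lines hp hA hc hX1 hX2 hc1 hc2 hne
  have hk : ∀ X : Subgroup G, X ≤ A → Nat.card X = p → R ⊓ 𝓒(X) = ⊥ → ⁅Q, X⁆ ≤ 𝓒(R) := by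
    intro X hXA hXc hX
    refine l34 hr hR (by rw [hXc]; exact hp) (by rw [hXc]; exact hp2) (by rw [hXc]; exact hrp) hQ
      (ms_odd hG Q) hQr ?_ (hXA.trans hAQ) hQR (hXA.trans hAR) (by rw [hX]; exact bot_le)
    exact hpQ.coprime_dvd_left (card_dvd_of_le hXA)
  have hQC : Q ≤ 𝓝(𝓒(R)) := le_nz_cz hQR
  have h3 := comm_sup_right_le hQC (hX1.trans (le_nz_cz hAR)) (hX2.trans (le_nz_cz hAR))
    (hk X₁ hX1 hc1 h1) (hk X₂ hX2 hc2 h2)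
  rw [hsup, hQA] at h3
  exact h3

theorem Exc.core {p q : ℕ} {M A₀ A H : Subgroup G} (c : Exc p M A₀ A) (hq : q ∈ sigma M)
    (hH : IsCoatom H) (hAH : A ≤ H) (hne : H ≠ M) (h0 : H ⊓ piCoreOf {q} (sigmaCore M) ≠ ⊥)
    (hN : 𝓝(H ⊓ piCoreOf {q} (sigmaCore M)) ≤ M) : False := by
  set Q₁ := piCoreOf {q} (sigmaCore M) with hQ1def
  set Q₀ := H ⊓ Q₁ with hQ0def
  have hp := c.hp
  have hqp := sigma_prime hq
  have e2 := c.e2 hG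
  have hp2 : p ≠ 2 := ms_p_ne_two hG hp e2.dvd
  have hQ1 : IsPiHallOf {q} Q₁ M := c.hall hG hq
  have hMQ1 : M ≤ 𝓝(Q₁) := (le_nz_sigmaCore hG M).trans (nz_le_nz_piCoreOf _ _)
  have hAQ1 := c.AM.trans hMQ1
  have hAQ0 : A ≤ 𝓝(Q₀) := le_nz_inf (hAH.trans le_normalizer) hAQ1
  have hQ01 : Q₀ ≤ Q₁ := inf_le_right
  have hQ0H : Q₀ ≤ H := inf_le_left
  have hQ1S : Q₁ ≤ sigmaCore M := piCoreOf_le _ _
  have hQ1t := sigma_syl hq hQ1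
  have hSM := sigmaCore_le hG c.hM
  -- `H` is not conjugate to `M`
  have hnc : ∀ g : G, H ≠ M ^ᵍ g := by
    intro g e
    by_cases hg : g ∈ M
    · exact hne (e.trans (cj_eq_of_mem hg))
    · apply h0
      rw [eq_bot_iff, ← c.inf_cj hG hg (e ▸ hAH)]
      exact le_inf (inf_le_right.trans hQ1S) (inf_le_left.trans e.le)
  have hdis : ∀ r, r ∈ sigma M → r ∈ sigma H → False := fun r h1 h2 =>
    sigma_disj hG c.hM hH hnc (c.nilp hG) h1 h2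
  have hQ0q : IsPi {q} Q₀ := (hall_isPi hQ1).le hQ01
  have hcopQ : (Nat.card A).Coprime (Nat.card Q₀) :=
    (c.cop hG).coprime_dvd_right (card_dvd_of_le (hQ01.trans hQ1S))
  have hQ0s : Group.IsSolvable Q₀ := solvable_sub (hQ01.trans hQ1S) (sigmaCore_sol hG c.hM)
  have hQ0A : ⁅Q₀, A⁆ = Q₀ := by
    have h1 := cop_comm_sup hAQ0 hcopQ hQ0s
    have h2 : Q₀ ⊓ 𝓒(A) = ⊥ := by
      rw [eq_bot_iff, ← c.inf_cz hG]
      exact inf_le_inf_right _ (hQ01.trans hQ1S)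
    rwa [h2, sup_bot_eq] at h1
  have hinv : ∀ Y : Subgroup G, Y ≤ H → IsPi {q} Y → A ≤ 𝓝(Y) → Y ≤ Q₀ := by
    intro Y hYH hY hAY
    by_cases hY0 : Y = ⊥
    · rw [hY0]; exact bot_le
    obtain ⟨Q₂, hQ2, hYQ2⟩ := exists_maxInv (H := ⊤) (mem_inv_top.2 ⟨hY, hAY⟩)
    obtain ⟨k, hk, e⟩ := e2.meet hG hp hqp (c.ne hq) (syl_maxInv hQ1t hAQ1) hQ2
      (max_ne_top hG hH) hAH h0 (fun h => hY0 (le_bot_iff.1 (h ▸ le_inf hYH hYQ2)))
    rw [cj_le_of_le_nz hMQ1 (c.cz hk)] at e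
    exact le_inf hYH (e ▸ hYQ2)
  have hHS := sigma_hall hG hH
  have hHnS := le_nz_sigmaCore hG H
  have hqH : q ∉ sigma H := fun h => hdis q hq h
  have hQ0dvd : q ∣ Nat.card Q₀ := pgroup_dvd_card hqp (hQ0q.isPGroup hqp) h0
  have hpH : p ∉ sigma H := by
    intro h
    have h1 : A ≤ sigmaCore H := syl_le_sigmaCore hG hH h (elab_isPi hp c.el) hAH
    have h2 : Q₀ ≤ sigmaCore H := by
      rw [← hQ0A]
      exact (commutator_mono le_rfl h1).trans (comm_le_right (hQ0H.trans hHnS))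
    exact hqH (hall_isPi hHS q hqp (hQ0dvd.trans (card_dvd_of_le h2)))
  have hQ0pi : IsPi (sigma H)ᶜ Q₀ := hQ0q.mono (Set.singleton_subset_iff.2 hqH)
  have hApi : IsPi (sigma H)ᶜ A := (elab_isPi hp c.el).mono (Set.singleton_subset_iff.2 hpH)
  obtain ⟨E, hE, hQAE⟩ := hall_exists_ge (max_sol hG hH) (hQ0pi.sup' hApi hAQ0) (sup_le hQ0H hAH)
  have hEH := hall_le hE
  have hQ0E : Q₀ ≤ E := le_sup_left.trans hQAE
  have hAE : A ≤ E := le_sup_right.trans hQAE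
  have hEn := hall_der_nilp hG hH hEH (hall_isPi hE)
  have hQ0E' : Q₀ ≤ ⁅E, E⁆ := by rw [← hQ0A]; exact commutator_mono hQ0E hAE
  have hEQ0 : E ≤ 𝓝(Q₀) := by
    have hET : E ≤ 𝓝(piCoreOf {q} ⁅E, E⁆) :=
      (left_le_nz_comm E E).trans (nz_le_nz_piCoreOf _ _)
    have h1 : Q₀ = piCoreOf {q} ⁅E, E⁆ := by
      apply le_antisymm (nilpotent_le_piCoreOf hEn hQ0E' hQ0q)
      exact hinv _ (((piCoreOf_le _ _).trans (comm_self_le E)).trans hEH) (isPi_piCoreOf _ _)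
        (hAE.trans hET)
    rw [h1]; exact hET
  have hEM : E ≤ M := hEQ0.trans hN
  have hSHpi : IsPi (sigma M)ᶜ (sigmaCore H) := by
    intro r hr hd hrs
    exact hdis r hrs (hall_isPi hHS r hr hd)
  have hcen : sigmaCore H ⊓ M ≤ 𝓒(Q₀) := by
    rw [← comm_eq_bot_iff, eq_bot_iff, ← (hall_isPi (sigma_hall hG c.hM)).inf_eq_bot hSHpi]
    refine le_inf ?_ ?_
    · exact (commutator_mono inf_le_right (hQ01.trans hQ1S)).trans
        (comm_le_right (le_nz_sigmaCore hG M))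
    · exact (commutator_mono inf_le_left hQ0H).trans (comm_le_left hHnS)
  have hncen : ¬ Q₀ ≤ 𝓒(sigmaCore H) := by
    intro h
    have h1 : sigmaCore H ≤ M := (le_cz_comm.1 h).trans ((cz_le_nz Q₀).trans hN)
    have h2 : H ≤ M := by
      rw [← hall_sup_compl hHS hE]
      exact sup_le h1 hEM
    rcases hH.le_iff.1 h2 with h3 | h3
    · exact max_ne_top hG c.hM h3
    · exact hne h3.symm
  have hSHs := sigmaCore_sol hG hH
  have hQ0A0 : ⁅Q₀, A₀⁆ ≤ 𝓒(sigmaCore H) := by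
    refine l34s hSHs (by rw [c.card0]; exact hp) (by rw [c.card0]; exact hp2) hQ0s (ms_odd hG _)
      ((hall_isPi hHS).coprime hQ0pi).symm
      (((hall_isPi hHS).coprime hApi).symm.coprime_dvd_left (card_dvd_of_le c.A0))
      (hcopQ.coprime_dvd_left (card_dvd_of_le c.A0)) (c.A0.trans hAQ0) (hQ0H.trans hHnS)
      ((c.A0.trans hAH).trans hHnS) ?_
    refine le_trans ?_ (hcen.trans (cz_anti (comm_le_left (c.A0.trans hAQ0))))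
    exact inf_le_inf_left _ ((cz_le_nz A₀).trans c.nz)
  -- a Sylow subgroup `R` of `H_σ` not centralized by `Q₀`
  have hQAn : Q₀ ⊔ A ≤ 𝓝(sigmaCore H) := sup_le (hQ0H.trans hHnS) (hAH.trans hHnS)
  have hQAc : (Nat.card ↥(Q₀ ⊔ A)).Coprime (Nat.card (sigmaCore H)) :=
    ((hall_isPi hHS).coprime (hQ0pi.sup' hApi hAQ0)).symm
  obtain ⟨r, hr, R, hR, hQAR, hQR⟩ : ∃ r : ℕ, r.Prime ∧ ∃ R, IsPiHallOf {r} R (sigmaCore H) ∧
      Q₀ ⊔ A ≤ 𝓝(R) ∧ ¬ Q₀ ≤ 𝓒(R) := by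
    by_contra hcon
    push Not at hcon
    apply hncen
    rw [le_cz_comm]
    apply le_of_syls
    intro r hr
    obtain ⟨R, hR, hn⟩ := cop_hall_exists hQAn hQAc hSHs {r}
    exact ⟨R, hR, le_cz_comm.1 (hcon r hr R hR hn)⟩
  have hR0 : R ≠ ⊥ := by
    rintro rfl
    apply hQR
    rw [cz_bot]; exact le_top
  have hRr : IsPGroup r R := (hall_isPi hR).isPGroup hr
  have hrH : r ∈ sigma H := hall_isPi hHS r hr
    ((pgroup_dvd_card hr hRr hR0).trans (card_dvd_of_le (hall_le hR)))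
  have hRH : IsPiHallOf {r} R H := hall_trans hR hHS (Set.singleton_subset_iff.2 hrH)
  have hRt := sigma_syl hrH hRH
  have hrp : r ≠ p := fun h => hpH (h ▸ hrH)
  have hrq : r ≠ q := fun h => hqH (h ▸ hrH)
  have hAR : A ≤ 𝓝(R) := le_sup_right.trans hQAR
  have hQnR : Q₀ ≤ 𝓝(R) := le_sup_left.trans hQAR
  have hQr : (Nat.card Q₀).Coprime r := by
    haveI : Fact q.Prime := ⟨hqp⟩
    obtain ⟨n, hn⟩ := (IsPGroup.iff_card (p := q)).1 (hQ0q.isPGroup hqp)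
    rw [hn]
    exact ((Nat.coprime_primes hqp hr).2 hrq.symm).pow_left n
  have hone : ∀ X₁ X₂ : Subgroup G, X₁ ≤ A → X₂ ≤ A → Nat.card X₁ = p → Nat.card X₂ = p →
      X₁ ≠ X₂ → R ⊓ 𝓒(X₁) = ⊥ → R ⊓ 𝓒(X₂) = ⊥ → False := by
    intro X₁ X₂ h1 h2 hc1 hc2 hne' hf1 hf2
    exact hQR (two_fpf hG hp hp2 hr hrp.symm hRr c.el.1 c.card h1 h2 hc1 hc2 hne' hQ0s hQr hcopQ
      hAQ0 hQnR hAR hQ0A hf1 hf2)
  have hone' : ∀ g ∈ 𝓝(A), ∀ X₁ X₂ : Subgroup G, X₁ ≤ A → X₂ ≤ A → Nat.card X₁ = p →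
      Nat.card X₂ = p → X₁ ≠ X₂ → R ^ᵍ g ⊓ 𝓒(X₁) = ⊥ → R ^ᵍ g ⊓ 𝓒(X₂) = ⊥ → False := by
    intro g hg X₁ X₂ h1 h2 hc1 hc2 hne' hf1 hf2
    have hAg : A ^ᵍ g⁻¹ = A := mem_nz.1 (inv_mem hg)
    have key : ∀ X : Subgroup G, R ^ᵍ g ⊓ 𝓒(X) = ⊥ → R ⊓ 𝓒(X ^ᵍ g⁻¹) = ⊥ := by
      intro X hX
      have h3 : (R ^ᵍ g ⊓ 𝓒(X)) ^ᵍ g⁻¹ = ⊥ := by rw [hX, cj_bot]
      rwa [cj_inf, cj_inv_cj, ← cz_cj] at h3
    refine hone (X₁ ^ᵍ g⁻¹) (X₂ ^ᵍ g⁻¹) (hAg ▸ cj_mono h1 g⁻¹) (hAg ▸ cj_mono h2 g⁻¹)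
      (by rw [card_cj, hc1]) (by rw [card_cj, hc2]) (fun h => hne' (cj_inj.1 h)) (key _ hf1)
      (key _ hf2)
  -- the normalizer of `A`
  have hfac : ∀ g ∈ 𝓝(A), ∃ k ∈ 𝓒(A), k⁻¹ * g ∈ H := by
    intro g hg
    have hgood : ∃ X ≤ A, Nat.card X = p ∧ R ⊓ 𝓒(X) ≠ ⊥ ∧ R ^ᵍ g ⊓ 𝓒(X) ≠ ⊥ := by
      by_contra hcon
      push Not at hcon
      obtain ⟨B₂, h2, B₃, h3, hc2, hc3, n21, n31, n32⟩ := three_lines hp c.el c.card c.A0 c.card0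
      have k := fun X hX hXc => (em (R ⊓ 𝓒(X) = ⊥)).imp id (hcon X hX hXc)
      have o := hone
      have o' := hone' g hg
      rcases k A₀ c.A0 c.card0 with k1 | k1 <;> rcases k B₂ h2 hc2 with k2 | k2 <;>
        rcases k B₃ h3 hc3 with k3 | k3
      · exact o _ _ h2 c.A0 hc2 c.card0 n21 k2 k1
      · exact o _ _ h2 c.A0 hc2 c.card0 n21 k2 k1
      · exact o _ _ h3 c.A0 hc3 c.card0 n31 k3 k1
      · exact o' _ _ h3 h2 hc3 hc2 n32 k3 k2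
      · exact o _ _ h3 h2 hc3 hc2 n32 k3 k2
      · exact o' _ _ h3 c.A0 hc3 c.card0 n31 k3 k1
      · exact o' _ _ h2 c.A0 hc2 c.card0 n21 k2 k1
      · exact o' _ _ h2 c.A0 hc2 c.card0 n21 k2 k1
    obtain ⟨X, hXA, hXc, hf1, hf2⟩ := hgood
    have hRt' : IsPiHallOf {r} (R ^ᵍ g) ⊤ := by
      have := hall_cj hRt g
      rwa [cj_top] at this
    have hARg : A ≤ 𝓝(R ^ᵍ g) := by
      rw [nz_cj]
      have := cj_mono hAR g
      rwa [mem_nz.1 hg] at this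
    have hAX : A ≤ 𝓒(X) := (comm_iff_le_cz.1 c.el.1).trans (cz_anti hXA)
    obtain ⟨k, hk, e⟩ := e2.meet hG hp hr hrp (syl_maxInv hRt hAR) (syl_maxInv hRt' hARg)
      (nz_line_ne_top hG hp hXc) (hAX.trans (cz_le_nz X))
      (fun h => hf1 (le_bot_iff.1 (h ▸ le_inf (inf_le_right.trans (cz_le_nz X)) inf_le_left)))
      (fun h => hf2 (le_bot_iff.1 (h ▸ le_inf (inf_le_right.trans (cz_le_nz X)) inf_le_left)))
    refine ⟨k, hk, sigma_nz hrH hRH ?_⟩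
    rw [mem_nz, cj_mul, e, cj_inv_cj]
  have hHA : ∀ h ∈ H, h ∈ 𝓝(A) → h ∈ 𝓝(A₀) := by
    intro h hh hhA
    have h1 : h ∈ sigmaCore H ⊔ E := by rw [hall_sup_compl hHS hE]; exact hh
    obtain ⟨s, hs, e, he, rfl⟩ := (mem_sup_of_nz' (hEH.trans hHnS)).1 h1
    have hsC : s ∈ 𝓒(A) := by
      rw [mem_cz]
      intro a ha
      have hi : (s * e)⁻¹ * a * (s * e) ∈ A := by
        have := (mem_normalizer_iff.1 (inv_mem hhA) a).1 ha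
        rwa [inv_inv] at this
      have h3 : s⁻¹ * a * s * a⁻¹ ∈ E := by
        have h4 : s⁻¹ * a * s * a⁻¹ = e * ((s * e)⁻¹ * a * (s * e)) * e⁻¹ * a⁻¹ := by group
        rw [h4]
        exact mul_mem (mul_mem (mul_mem he (hAE hi)) (inv_mem he)) (inv_mem (hAE ha))
      have h5 : s⁻¹ * a * s * a⁻¹ ∈ sigmaCore H := by
        have h6 : a * s * a⁻¹ ∈ sigmaCore H := (mem_normalizer_iff.1 (hHnS (hAH ha)) s).1 hs
        have h7 : s⁻¹ * a * s * a⁻¹ = s⁻¹ * (a * s * a⁻¹) := by group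
        rw [h7]; exact mul_mem (inv_mem hs) h6
      have h8 : s⁻¹ * a * s * a⁻¹ ∈ sigmaCore H ⊓ E := ⟨h5, h3⟩
      rw [(hall_isPi hHS).inf_eq_bot (hall_isPi hE), mem_bot] at h8
      have h9 : s * (s⁻¹ * a * s * a⁻¹) * a = s * a := by rw [h8, mul_one]
      rw [← h9]; group
    have hsA : s ∈ 𝓝(A) := cz_le_nz A hsC
    have heA : e ∈ 𝓝(A) := by
      have := mul_mem (inv_mem hsA) hhA
      rwa [inv_mul_cancel_left] at this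
    have he0 : e ∈ 𝓝(A₀) := by
      rw [mem_nz]
      by_contra hne'
      have hle : A₀ ^ᵍ e ≤ A := by
        conv_rhs => rw [← mem_nz.1 heA]
        exact cj_mono c.A0 e
      obtain ⟨-, hsup⟩ := two_lines hp c.el.1 c.card c.A0 hle c.card0 (by rw [card_cj, c.card0])
        (Ne.symm hne')
      have hC : H ≤ 𝓝(𝓒(sigmaCore H)) := le_nz_cz hHnS
      have h3 : ⁅Q₀, A₀ ^ᵍ e⁆ ≤ 𝓒(sigmaCore H) := by
        have h4 := cj_mono hQ0A0 e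
        rwa [cj_comm, mem_nz.1 (hEQ0 he), mem_nz.1 (hC (hEH he))] at h4
      have h4 := comm_sup_right_le (hQ0H.trans hC) ((c.A0.trans hAH).trans hC)
        ((hle.trans hAH).trans hC) hQ0A0 h3
      rw [hsup, hQ0A] at h4
      exact hncen h4
    exact mul_mem (cz_le_nz A₀ (cz_anti c.A0 hsC)) he0
  refine c.final hG ?_
  intro g hg
  obtain ⟨k, hk, hkg⟩ := hfac g hg
  have h1 : k⁻¹ * g ∈ 𝓝(A) := mul_mem (inv_mem (cz_le_nz A hk)) hg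
  have h2 := hHA _ hkg h1
  have h3 := mul_mem (cz_le_nz A₀ (cz_anti c.A0 hk)) h2
  rwa [mul_inv_cancel_left] at h3

theorem Exc.uniq_aux {p q : ℕ} {M A₀ A : Subgroup G} (c : Exc p M A₀ A) (hq : q ∈ sigma M) :
    ∀ (n : ℕ) (H : Subgroup G), Nat.card G - Nat.card ↥(H ⊓ piCoreOf {q} (sigmaCore M)) = n →
      IsCoatom H → A ≤ H → H ≠ M → H ⊓ piCoreOf {q} (sigmaCore M) ≠ ⊥ → False := by
  intro n
  induction n using Nat.strong_induction_on with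
  | _ n ih =>
  intro H hn hH hAH hne h0
  by_cases hN : 𝓝(H ⊓ piCoreOf {q} (sigmaCore M)) ≤ M
  · exact c.core hG hq hH hAH hne h0 hN
  set Q₁ := piCoreOf {q} (sigmaCore M) with hQ1def
  have hqp := sigma_prime hq
  have hQ1 : IsPiHallOf {q} Q₁ M := c.hall hG hq
  have hMQ1 : M ≤ 𝓝(Q₁) := (le_nz_sigmaCore hG M).trans (nz_le_nz_piCoreOf _ _)
  have hQ1p : IsPGroup q Q₁ := (hall_isPi hQ1).isPGroup hqp
  have hlt : H ⊓ Q₁ < Q₁ := by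
    refine lt_of_le_of_ne inf_le_right ?_
    intro h
    apply hN
    rw [h]; exact sigma_nz hq hQ1
  obtain ⟨H', hH', hNH'⟩ := exists_max hG (X := 𝓝(H ⊓ Q₁)) (ms_nz_ne_top hG h0
    (ms_p_ne_top hG hqp (hQ1p.to_le inf_le_right)))
  have h1 : H ⊓ Q₁ < Q₁ ⊓ 𝓝(H ⊓ Q₁) :=
    nilpotent_nz_lt (nilpotent_of_isPi hqp (hall_isPi hQ1)) hlt
  have h2 : Q₁ ⊓ 𝓝(H ⊓ Q₁) ≤ H' ⊓ Q₁ := le_inf (inf_le_right.trans hNH') inf_le_left
  have h3 : Nat.card ↥(H ⊓ Q₁) < Nat.card ↥(H' ⊓ Q₁) :=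
    lt_of_lt_of_le (by
      by_contra hc
      exact h1.ne (eq_of_card_le h1.le (not_lt.1 hc))) (Subgroup.card_le_of_le h2)
  have h4 : Nat.card ↥(H' ⊓ Q₁) ≤ Nat.card G := Subgroup.card_le_card_group _
  refine ih (Nat.card G - Nat.card ↥(H' ⊓ Q₁)) (by omega) H' rfl hH' ?_ ?_ ?_
  · exact (le_nz_inf (hAH.trans le_normalizer) (c.AM.trans hMQ1)).trans hNH'
  · rintro rfl
    exact hN hNH'
  · intro h
    rw [h, card_bot] at h3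
    have := Nat.card_pos (α := ↥(H ⊓ Q₁))
    omega

/-- B & G 11.4 -/
theorem Exc.uniq {p : ℕ} {M A₀ A H : Subgroup G} (c : Exc p M A₀ A) (hH : IsCoatom H)
    (hAH : A ≤ H) (h : H ⊓ sigmaCore M ≠ ⊥) : H = M := by
  by_contra hne
  obtain ⟨q, hq, hqd⟩ := exists_prime_dvd_of_ne_bot h
  have hqs : q ∈ sigma M := hall_isPi (sigma_hall hG c.hM) q hq
    (hqd.trans (card_dvd_of_le inf_le_right))
  obtain ⟨X, hX⟩ := exists_syl hq (H ⊓ sigmaCore M)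
  have hX0 := hall_ne_bot hq hX hqd
  have h1 : X ≤ piCoreOf {q} (sigmaCore M) :=
    nilpotent_le_piCoreOf (c.nilp hG) ((hall_le hX).trans inf_le_right) (hall_isPi hX)
  refine c.uniq_aux hG hqs _ H rfl hH hAH hne ?_
  intro h2
  exact hX0 (le_bot_iff.1 (h2 ▸ le_inf ((hall_le hX).trans inf_le_left) h1))

end

end CfsgLib.BGPi
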