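import Cfsg.Agent.EqBase
import Cfsg.Agent.LibBG11e

/-! B & G 11.5 - 11.7. -/

open Subgroup
open scoped Pointwise commutatorElement

namespace CfsgLib.BGPi

open Cfsg

universe u

section
variable {G : Type u} [Group G] [Finite G]

theorem cyclic_sub {A B : Subgroup G} (h : A ≤ B) (hB : IsCyclic B) : IsCyclic A := by
  haveI := hB
  exact isCyclic_of_injective (Subgroup.inclusion h) (Subgroup.inclusion_injective h)

theorem rank1_of_cyclic {p : ℕ} (hp : p.Prime) {R : Subgroup G} (h : IsCyclic R) :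
    PRankLE p 1 R := by
  rw [rank_iff]
  intro A hA hAe
  rw [pow_one]
  exact elab_cyclic_card hp hAe (cyclic_sub hA h)

theorem hall_pcompl_sup {p : ℕ} (hp : p.Prime) {K P : Subgroup G} (hK : IsPi {p}ᶜ K)
    (hP : IsPi {p} P) (hn : P ≤ 𝓝(K)) : IsPiHallOf {p}ᶜ K (K ⊔ P) := by
  rw [hall_iff]
  refine ⟨le_sup_left, hK, ?_⟩
  intro q hq hqp hd
  rw [sup_comm, relIndex_sup_eq hn] at hd
  exact hqp (hP q hq (hd.trans (relIndex_dvd_card K P)))

variable (hG : IsMinSimpleOddOrder G)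
include hG

theorem Exc.ab_aux {p : ℕ} {M A₀ A P : Subgroup G} (c : Exc p M A₀ A) (hP : IsPiHallOf {p} P M)
    (hAP : A ≤ P) : P ≤ 𝓒(P) := by
  by_contra hab
  obtain ⟨g, hg, hgM⟩ := c.exists_g hG hP hAP
  have e2 := c.e2 hG
  have hPp := (hall_isPi hP).isPGroup c.hp
  obtain ⟨Z, Y, hs⟩ := e2_exists hG c.hp hPp hAP hab e2
  have hNZ : 𝓝(P) ≤ 𝓝(Z) := hs.nz c.hp hAP hab e2
  have hZ : A₀ ≠ Z := by
    rintro rfl
    exact hgM (c.nz (hNZ hg))
  obtain ⟨H, hH, hZH⟩ := exists_max hG (nz_line_ne_top hG c.hp hs.cZ)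
  have hAH : A ≤ H := ((comm_iff_le_cz.1 c.el.1).trans ((cz_anti hs.ZA).trans (cz_le_nz Z))).trans
    hZH
  have hHM : H ≠ M := by
    rintro rfl
    exact hgM (hZH (hNZ hg))
  have hHS : H ⊓ sigmaCore M = ⊥ := by
    by_contra h
    exact hHM (c.uniq hG hH hAH h)
  have hZf : sigmaCore M ⊓ 𝓒(Z) = ⊥ := by
    rw [eq_bot_iff, ← hHS]
    exact le_inf (inf_le_right.trans ((cz_le_nz Z).trans hZH)) inf_le_left
  obtain ⟨⟨x, hx, hxC⟩, htr⟩ := hs.trans c.hp hPp hAP hab e2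
  have hPg : P ^ᵍ g = P := mem_nz.1 hg
  have hAg : A ≤ M ^ᵍ g := by
    refine hAP.trans ?_
    rw [← hPg]; exact cj_mono (hall_le hP) g
  have hAgM : A ^ᵍ g ≤ M := by
    refine le_trans ?_ (hall_le hP)
    rw [← hPg]; exact cj_mono hAP g
  obtain ⟨b, hb, hb1, hbS⟩ := exists_cent_ne_bot hG (B := A ^ᵍ g) (Q := sigmaCore M)
    (comm_cj c.el.1 g) ((e2.cj g).nc c.hp) (hAgM.trans (le_nz_sigmaCore hG M))
    (by rw [card_cj]; exact c.cop hG) (sigmaCore_ne_bot hG c.hM)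
  apply hbS
  set b' := g⁻¹ * b * g with hb'
  have hb'A : b' ∈ A := mem_cj.1 hb
  have hb'1 : b' ≠ 1 := by
    intro h
    apply hb1
    have : b = g * b' * g⁻¹ := by rw [hb']; group
    rw [this, h]; group
  have hLc : Nat.card (zpowers b') = p := zpowers_card_prime c.hp (c.el.2 _ hb'A) hb'1
  have hLA : zpowers b' ≤ A := by rwa [zpowers_le]
  have hbL : b ∈ (zpowers b') ^ᵍ g := by
    rw [mem_cj]; exact mem_zpowers _
  have hcb : Subgroup.centralizer {b} = 𝓒((zpowers b') ^ᵍ g) := by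
    rw [← cz_zpowers]
    have h1 : zpowers b ≤ (zpowers b') ^ᵍ g := by rwa [zpowers_le]
    have h2 : zpowers b = (zpowers b') ^ᵍ g := eq_of_card_le h1 (by
      rw [card_cj, hLc, zpowers_card_prime c.hp ((elab_cj c.el g).2 b hb) hb1])
    rw [h2]
  rw [hcb]
  by_cases hLZ : zpowers b' = Z
  · rw [hLZ, mem_nz.1 (hNZ hg)]; exact hZf
  obtain ⟨i, hi⟩ := htr x hx hxC A₀ c.A0 _ hLA c.card0 hLc hZ hLZ
  rw [← hi, ← cj_mul]
  have hxi : x ^ i ∈ M := pow_mem (hall_le hP (mem_inf.1 hx).1) i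
  refine c.fpf_cj hG ?_ ?_
  · intro h
    apply hgM
    have := mul_mem h (inv_mem hxi)
    rwa [mul_inv_cancel_right] at this
  · rw [cj_mul, cj_eq_of_mem hxi]; exact hAg

/-- 11.5 -/
theorem Exc.ab {p : ℕ} {M A₀ A P : Subgroup G} (c : Exc p M A₀ A) (hP : IsPiHallOf {p} P M) :
    P ≤ 𝓒(P) := by
  obtain ⟨P₀, hP0, hAP, -⟩ := c.exists_P hG
  have h1 := c.ab_aux hG hP0 hAP
  obtain ⟨m, -, rfl⟩ := syl_conj c.hp hP0 hP
  rw [cz_cj]
  exact cj_mono h1 m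

/-- 11.6 -/
theorem Exc.lines {p : ℕ} {M A₀ A : Subgroup G} (c : Exc p M A₀ A) :
    ∃ A₁ ≤ A, ∃ A₂ ≤ A, Nat.card A₁ = p ∧ Nat.card A₂ = p ∧ A₁ ≠ A₂ ∧
      sigmaCore M ⊓ 𝓒(A₁) = ⊥ ∧ sigmaCore M ⊓ 𝓒(A₂) = ⊥ := by
  obtain ⟨P, hP, hAP, g, hg, hgM⟩ := c.exists_P hG
  have hN : 𝓝(P) ≤ 𝓝(A) := (c.e2 hG).nz hAP (c.ab hG hP)
  have hA : ∀ y ∈ 𝓝(A), A₀ ^ᵍ y ≤ A := by
    intro y hy
    conv_rhs => rw [← mem_nz.1 hy]
    exact cj_mono c.A0 y
  have hAM : ∀ y ∈ 𝓝(A), A ≤ M ^ᵍ y := by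
    intro y hy
    conv_lhs => rw [← mem_nz.1 hy]
    exact cj_mono c.AM y
  have hg2 : g * g ∉ M := by
    intro h
    apply hgM
    refine mem_of_pow_mem_coprime (m := 2) (n := orderOf g) ?_ (by rwa [pow_two])
      (by rw [pow_orderOf_eq_one]; exact one_mem _)
    exact ((ms_odd' hG).of_dvd_nat (orderOf_dvd_natCard g)).coprime_two_left
  have hgA := hN hg
  have hggA := mul_mem hgA hgA
  refine ⟨A₀ ^ᵍ g, hA g hgA, A₀ ^ᵍ (g * g), hA _ hggA, by rw [card_cj, c.card0],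
    by rw [card_cj, c.card0], ?_, c.fpf_cj hG hgM (hAM g hgA), c.fpf_cj hG hg2 (hAM _ hggA)⟩
  rw [cj_mul, Ne, cj_inj]
  intro h
  exact hgM (c.nz (mem_nz.2 h.symm))

theorem Exc.l34 {p : ℕ} {M A₀ A K : Subgroup G} (c : Exc p M A₀ A) (hKM : K ≤ M)
    (hK : IsPi (sigma M)ᶜ K) (hAK : A ≤ 𝓝(K)) (hcop : (Nat.card A).Coprime (Nat.card K)) :
    ⁅K, A⁆ ≤ 𝓒(sigmaCore M) := by
  obtain ⟨A₁, h1, A₂, h2, hc1, hc2, hne, hf1, hf2⟩ := c.lines hG
  obtain ⟨-, hsup⟩ := two_lines c.hp c.el.1 c.card h1 h2 hc1 hc2 hne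
  have hp2 : p ≠ 2 := ms_p_ne_two hG c.hp (c.e2 hG).dvd
  have hKS : K ≤ 𝓝(sigmaCore M) := hKM.trans (le_nz_sigmaCore hG M)
  have hk : ∀ X : Subgroup G, X ≤ A → Nat.card X = p → sigmaCore M ⊓ 𝓒(X) = ⊥ →
      ⁅K, X⁆ ≤ 𝓒(sigmaCore M) := by
    intro X hXA hXc hX
    exact l34s (sigmaCore_sol hG c.hM) (by rw [hXc]; exact c.hp) (by rw [hXc]; exact hp2)
      (solvable_sub hKM (max_sol hG c.hM)) (ms_odd hG K)
      ((hall_isPi (sigma_hall hG c.hM)).coprime hK).symm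
      ((c.cop hG).coprime_dvd_left (card_dvd_of_le hXA))
      (hcop.coprime_dvd_left (card_dvd_of_le hXA)) (hXA.trans hAK) hKS (hXA.trans (c.act hG))
      (by rw [hX]; exact bot_le)
  have hC := le_nz_cz (c.act hG)
  have := comm_sup_right_le (le_nz_cz hKS) (h1.trans hC) (h2.trans hC) (hk A₁ h1 hc1 hf1)
    (hk A₂ h2 hc2 hf2)
  rwa [hsup] at this

/-- 11.7, the main case -/
theorem Exc.norm_aux {p : ℕ} {M A₀ A E : Subgroup G} (c : Exc p M A₀ A)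
    (hE : IsPiHallOf (sigma M)ᶜ E M) (hAE : A ≤ E) : ⁅piCoreOf {p}ᶜ E, A⁆ = ⊥ := by
  by_contra hD0
  have hp := c.hp
  have e2 := c.e2 hG
  have hEM := hall_le hE
  set K := piCoreOf {p}ᶜ E with hK
  have hKE : K ≤ E := piCoreOf_le _ _
  have hEK : E ≤ 𝓝(K) := le_nz_piCoreOf _ _
  have hKp : IsPi {p}ᶜ K := isPi_piCoreOf _ _
  have hAK := hAE.trans hEK
  have hcop : (Nat.card A).Coprime (Nat.card K) := (elab_isPi hp c.el).coprime hKp
  have hKs := solvable_sub (hKE.trans hEM) (max_sol hG c.hM)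
  set D := ⁅K, A⁆ with hD
  have hDK : D ≤ K := comm_le_left hAK
  have hDM : D ≤ M := (hDK.trans hKE).trans hEM
  have hDC : D ≤ 𝓒(sigmaCore M) := c.l34 hG (hKE.trans hEM) ((hall_isPi hE).le hKE) hAK hcop
  have hDs : IsPi (sigma M)ᶜ D := (hall_isPi hE).le (hDK.trans hKE)
  obtain ⟨hDcyc, hMD⟩ := bg10_11c hG c.hM (commutator_mono (hKE.trans hEM) c.AM) hDC hDs
  obtain ⟨r, hr, hrd⟩ := exists_prime_dvd_of_ne_bot hD0
  have hrp : r ≠ p := hKp r hr (hrd.trans (card_dvd_of_le hDK))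
  have hrs : r ∉ sigma M := hDs r hr hrd
  haveI : Fact r.Prime := ⟨hr⟩
  obtain ⟨⟨x, hxD⟩, hx⟩ := exists_prime_orderOf_dvd_card' r hrd
  rw [Subgroup.orderOf_mk] at hx
  set X₀ := zpowers x with hX0
  have hX0D : X₀ ≤ D := by rwa [hX0, zpowers_le]
  have hX0c : Nat.card X₀ = r := by rw [hX0, Nat.card_zpowers, hx]
  have hX0b : X₀ ≠ ⊥ := by
    intro h
    rw [h, card_bot] at hX0c
    exact hr.one_lt.ne hX0c
  have hMX0 : M ≤ 𝓝(X₀) := hMD.trans (nz_of_cyclic hDcyc hX0D)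
  have hNX0 := max_nz_eq hG c.hM hX0b (hX0D.trans hDM) hMX0
  obtain ⟨⟨hr2, hr1⟩, -⟩ := bg10_5c hG c.hM hr hrs hX0c hNX0.le
  have hDA : ⁅D, A⁆ = D := cop_comm_comm hAK hcop hKs
  have hAD : A ≤ 𝓝(D) := right_le_nz_comm K A
  have hDcomm : D ≤ 𝓒(D) := by
    rw [← comm_iff_le_cz]
    haveI := hDcyc
    exact ⟨⟨fun a b => IsCyclic.commGroup.mul_comm a b⟩⟩
  have hDfix : D ⊓ 𝓒(A) = ⊥ := by
    have := ab_cop_inf hDcomm hAD (hcop.coprime_dvd_right (card_dvd_of_le hDK))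
    rwa [hDA] at this
  have hAX0 : ¬ A ≤ 𝓒(X₀) := by
    intro h
    apply hX0b
    rw [eq_bot_iff, ← hDfix]
    exact le_inf hX0D (le_cz_comm.1 h)
  -- `p < r`
  have hX0p : IsPGroup r X₀ := IsPGroup.of_card (n := 1) (by rw [hX0c, pow_one])
  have hpr : p < r := by
    obtain ⟨a, haA, haX⟩ := SetLike.not_le_iff_exists.1 hAX0
    have h1 := prime_act hr hX0c.le hX0p (hMX0 (c.AM haA))
    by_contra hlt
    apply haX
    refine mem_of_pow_mem_coprime (m := r - 1) (n := p) ?_ h1 (by rw [c.el.2 a haA]; exact one_mem _)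
    rw [Nat.coprime_comm, hp.coprime_iff_not_dvd]
    intro hd
    have := Nat.le_of_dvd (by have := hr.one_lt; omega) hd
    omega
  have hr2' : r ≠ 2 := by have := hp.two_le; omega
  -- `r` does not divide the order of `C(A)`
  have hrC : ¬ r ∣ Nat.card 𝓒(A) := by
    intro hd
    have hAn := c.AM.trans hMX0
    obtain ⟨Q, hQ, hX0Q⟩ := exists_maxInv (H := ⊤) (mem_inv_top.2
      ⟨isPi_of_isPGroup hr hX0p, hAn⟩)
    obtain ⟨P, hP, hAP, -, -, -, hnar⟩ := bg10_10 hG hp hr hrp e2 hd hQ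
    have hQr : IsPGroup r Q := (mem_inv_top.1 hQ.1).1.isPGroup hr
    have hn : PRankLE r 2 Q ∨ ∃ E, NarE r Q E := by
      by_cases hrk : PRankLE r 2 Q
      · exact Or.inl hrk
      right
      have hxr : x ^ r = 1 := by rw [← hx]; exact pow_orderOf_eq_one x
      obtain ⟨B, hXB, hBQ, hB, hmax⟩ := exists_max_elab hX0Q (elab_zpowers hxr)
      refine ⟨B, narE_of_max hr hr2' hQr hrk hBQ hB hmax ?_⟩
      refine rank_iff.1 hr2 B ?_ hB
      exact (comm_iff_le_cz.1 hB.1).trans ((cz_anti hXB).trans ((cz_le_nz _).trans hNX0.le))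
    exact hAX0 (hAP.trans ((hnar hn).trans (cz_anti hX0Q)))
  -- an `A`-invariant Sylow `r`-subgroup of `E`
  have hEs := solvable_sub hEM (max_sol hG c.hM)
  have hApr : IsPi {p, r} A := (elab_isPi hp c.el).mono (by simp)
  obtain ⟨J, hJ, hAJ⟩ := hall_exists_ge hEs hApr hAE
  have hJE := hall_le hJ
  obtain ⟨R, hR⟩ := exists_syl hr J
  have hL : IsPiHallOf {q | q.Prime ∧ p < q} R J := by
    rw [hall_iff]
    refine ⟨hall_le hR, ?_, ?_⟩
    · intro q hq hd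
      have h1 := hall_isPi hR q hq hd
      rw [Set.mem_singleton_iff] at h1
      rw [h1]; exact ⟨hr, hpr⟩
    · rintro q hq ⟨-, hlt⟩ hd
      have h1 : q ∣ Nat.card J := by
        rw [← card_mul_relIndex (hall_le hR)]; exact hd.mul_left _
      have h2 := hall_isPi hJ q hq h1
      rcases h2 with h3 | h3
      · omega
      · rw [Set.mem_singleton_iff] at h3
        rw [h3] at hd
        exact (hall_iff.1 hR).2.2 r hr rfl hd
  have hJs := solvable_sub hJE hEs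
  have hJR : J ≤ 𝓝(R) := hall_large_le hJs (ms_odd hG J)
    (fun q hq => rank_mono (piCoreOf_le _ _)
      (core_rank2 hG c.hM (hJE.trans hEM) ((hall_isPi hE).le hJE) hq)) p hL
  have hAR := hAJ.trans hJR
  have hRE : IsPiHallOf {r} R E := hall_trans hR hJ (by simp)
  have hRM : IsPiHallOf {r} R M := hall_trans hRE hE (Set.singleton_subset_iff.2 hrs)
  have hRr : IsPGroup r R := (hall_isPi hR).isPGroup hr
  have hcR : (Nat.card A).Coprime (Nat.card R) := pq_coprime hp hr hrp.symm e2.isP hRr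
  have hRfix : R ⊓ 𝓒(A) = ⊥ := by
    by_contra h
    exact hrC ((pgroup_dvd_card hr (hRr.to_le inf_le_left) h).trans (card_dvd_of_le inf_le_right))
  have hRA : ⁅R, A⁆ = R := by
    have := cop_comm_sup hAR hcR (pgroup_solvable hr hRr)
    rwa [hRfix, sup_bot_eq] at this
  have hRs : IsPi (sigma M)ᶜ R := (hall_isPi hE).le (hall_le hRE)
  have hRC : R ≤ 𝓒(sigmaCore M) := by
    have := c.l34 hG (hall_le hRM) hRs hAR hcR
    rwa [hRA] at this
  have hRd : R ≤ ⁅M, M⁆ := by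
    rw [← hRA]; exact commutator_mono (hall_le hRM) c.AM
  obtain ⟨hRcyc, -⟩ := bg10_11c hG c.hM hRd hRC hRs
  exact hr1 ((rank_syl hr hRM).2 (rank1_of_cyclic hr hRcyc))

theorem Exc.nzE {p : ℕ} {M A₀ A E : Subgroup G} (c : Exc p M A₀ A)
    (hE : IsPiHallOf (sigma M)ᶜ E M) (hAE : A ≤ E) : E ≤ 𝓝(A) := by
  have hKA := c.norm_aux hG hE hAE
  have hp := c.hp
  have e2 := c.e2 hG
  have hEM := hall_le hE
  set K := piCoreOf {p}ᶜ E with hK
  have hKE : K ≤ E := piCoreOf_le _ _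
  have hEK : E ≤ 𝓝(K) := le_nz_piCoreOf _ _
  have hKp : IsPi {p}ᶜ K := isPi_piCoreOf _ _
  have hAK : A ≤ 𝓒(K) := le_cz_comm.1 (comm_eq_bot_iff.1 hKA)
  obtain ⟨P, hP, hAP⟩ := exists_syl_ge hp (elab_isPi hp c.el) hAE
  have hPM : IsPiHallOf {p} P M := hall_trans hP hE (Set.singleton_subset_iff.2 c.ns)
  have hPab := c.ab hG hPM
  have hPE := hall_le hP
  have hEtop : E ≠ ⊤ := fun h => max_ne_top hG c.hM (top_le_iff.1 (h ▸ hEM))
  have hEKP : E ≤ 𝓝(K ⊔ P) := plen1_normal hp (bg10_6 hG hp hEtop) hP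
  have hKPE : K ⊔ P ≤ E := sup_le hKE hPE
  set W := (K ⊔ P) ⊓ 𝓒(K) with hW
  have hWKP : W ≤ K ⊔ P := inf_le_left
  have hEW : E ≤ 𝓝(W) := le_nz_inf hEKP (le_nz_cz hEK)
  have hWE : W ≤ E := hWKP.trans hKPE
  have h1 : IsPiHallOf {p} (P ⊓ W) W := hall_inf_normal hP hWE hEW
  have h2 : IsPiHallOf {p}ᶜ (K ⊓ W) W := hall_inf_normal
    (hall_pcompl_sup hp hKp (hall_isPi hP) (hPE.trans hEK)) hWKP (hKPE.trans hEW)
  have h3 : P ⊓ W ⊔ K ⊓ W = W := hall_sup_compl h1 h2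
  have hWn : W ≤ 𝓝(P ⊓ W) := by
    conv_lhs => rw [← h3]
    refine sup_le le_normalizer (le_nz_of_le_cz ?_)
    rw [le_cz_comm]
    exact inf_le_right.trans (inf_le_right.trans (cz_anti inf_le_left))
  have hES : E ≤ 𝓝(P ⊓ W) := by
    rw [← piCoreOf_eq_of_hall h1 hWn]
    exact hEW.trans (nz_le_nz_piCoreOf _ _)
  have hAS : A ≤ P ⊓ W := le_inf hAP (le_inf (hAP.trans le_sup_right) hAK)
  exact hES.trans (e2.nz hAS (inf_le_left.trans (hPab.trans (cz_anti inf_le_left))))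

/-- 11.7 -/
theorem Exc.norm {p : ℕ} {M A₀ A : Subgroup G} (c : Exc p M A₀ A) :
    M ≤ 𝓝(sigmaCore M ⊔ A) := by
  obtain ⟨E, hE, hAE⟩ := hall_exists_ge (max_sol hG c.hM) c.isPi c.AM
  have h1 := c.nzE hG hE hAE
  conv_lhs => rw [← hall_sup_compl (sigma_hall hG c.hM) hE]
  exact sup_le (le_sup_left.trans le_normalizer)
    (le_nz_sup ((hall_le hE).trans (le_nz_sigmaCore hG M)) h1)

end

end CfsgLib.BGPi
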