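import Cfsg.Agent.EqBase
import Cfsg.Agent.LibBG11f

/-! B & G 12.3, 12.4. -/

open Subgroup
open scoped Pointwise commutatorElement

namespace CfsgLib.BGPi

open Cfsg

universe u

section
variable {G : Type u} [Group G] [Finite G]

/-- generation of `U` by the centralizers of the lines of `A` -/
theorem lines_gen {p : ℕ} (hp : p.Prime) {A U X : Subgroup G} (hA : IsElementaryAbelian p A)
    (hc : Nat.card A = p ^ 2) (hAU : A ≤ 𝓝(U)) (hcop : (Nat.card A).Coprime (Nat.card U))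
    (h : ∀ B ≤ A, Nat.card B = p → U ⊓ 𝓒(B) ≤ X) : U ≤ X := by
  haveI := hA.1
  rw [← CfsgLib.Coprime2.generation_noncyclic (nc_of_card hp hA (le_of_eq hc.symm)) hAU hcop]
  refine iSup₂_le ?_
  rintro a ⟨haA, ha1⟩
  rw [← cz_zpowers]
  exact h _ (by rwa [zpowers_le]) (zpowers_card_prime hp (hA.2 a haA) ha1)

theorem line_el {p : ℕ} {A B : Subgroup G} (hA : IsElementaryAbelian p A) (h : B ≤ A) :
    IsElementaryAbelian p B := elab_mono h hA

variable (hG : IsMinSimpleOddOrder G)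
include hG

theorem bg12_3_aux {M H A A₀ U : Subgroup G} {p : ℕ} (hM : IsCoatom M) (hH : IsCoatom H)
    (hne : H ≠ M) (hp : p.Prime) (e2 : MaxE2 p A) (hAM : A ≤ M) (hA0 : A₀ ≤ A)
    (hA0c : Nat.card A₀ = p) (hN : 𝓝(A₀) ≤ H) (hUM : U ≤ M) (hMU : M ≤ 𝓝(U))
    (hpU : ¬ p ∣ Nat.card U)
    (hα : p ∈ sigma H → ∀ r : ℕ, r.Prime → r ∣ Nat.card U → r ∉ alpha H) : A ≤ 𝓒(U ⊓ H) := by
  have hAH : A ≤ H := ((comm_iff_le_cz.1 e2.el.1).trans ((cz_anti hA0).trans (cz_le_nz _))).trans hN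
  have hAp := elab_isPi hp e2.el
  have hcop : (Nat.card A).Coprime (Nat.card U) := hAp.coprime ((isPi_compl_singleton hp).2 hpU)
  by_cases hpH : p ∈ sigma H
  · have hAS : A ≤ sigmaCore H := syl_le_sigmaCore hG hH hpH hAp hAH
    have hAd : A ≤ ⁅H, H⁆ := hAS.trans (sigma_le_der hG hH)
    rw [le_cz_comm]
    have hAUH : A ≤ 𝓝(U ⊓ H) := le_nz_inf (hAM.trans hMU) (hAH.trans le_normalizer)
    refine inv_le_of_syls hAUH (hcop.coprime_dvd_right (card_dvd_of_le inf_le_left))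
      (solvable_sub (inf_le_left.trans hUM) (max_sol hG hM)) ?_
    intro q hq S hSq hSU hAS'
    have hSc : (Nat.card A).Coprime (Nat.card S) :=
      hcop.coprime_dvd_right (card_dvd_of_le (hSU.trans inf_le_left))
    have hSs : Group.IsSolvable S := solvable_sub (hSU.trans (inf_le_left.trans hUM)) (max_sol hG hM)
    rw [← comm_eq_bot_iff]
    by_contra hT
    set T := ⁅S, A⁆ with hTdef
    have hTS : T ≤ S := comm_le_left hAS'
    have hTA : ⁅T, A⁆ = T := cop_comm_comm hAS' hSc hSs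
    have hTq : IsPi {q} T := hSq.le hTS
    have hqT : q ∣ Nat.card T := pgroup_dvd_card hq (hTq.isPGroup hq) hT
    have hqU : q ∣ Nat.card U := hqT.trans (card_dvd_of_le (hTS.trans (hSU.trans inf_le_left)))
    have hTH : T ≤ ⁅H, H⁆ := commutator_mono (hSU.trans inf_le_right) hAH
    have hqp : p ≠ q := by
      rintro rfl
      exact hpU hqU
    have hHα := le_nz_alphaCore hG H
    have hTn : T ≤ 𝓝(alphaCore H) := (hTH.trans (comm_self_le H)).trans hHα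
    have hAn : A ≤ 𝓝(alphaCore H) := hAH.trans hHα
    have h1 : qm (alphaCore H) T ≤ 𝓒(qm (alphaCore H) A) := by
      refine nilpotent_commute (π := {q}) (der_quot_nilp hG hH) (qm_mono hTH) (qm_mono hAd) ?_ ?_
      · exact isPi_of_isPGroup hq (qm_isPGroup (hTq.isPGroup hq))
      · intro s hs hd hsq
        rw [Set.mem_singleton_iff] at hsq
        have := hAp s hs (hd.trans (qm_card_dvd hAn))
        rw [Set.mem_singleton_iff] at this
        exact hqp (this.symm.trans hsq)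
    rw [qm_cz_iff hTn hAn, hTA] at h1
    exact hα hpH q hq hqU (hall_isPi (alpha_hall hG hH) q hq (hqT.trans (card_dvd_of_le h1)))
  · have c : Exc p H A₀ A := ⟨hH, hp, hpH, hAH, e2.el, e2.card, hA0, hA0c, hN⟩
    have h1 : M ⊓ sigmaCore H = ⊥ := by
      by_contra h
      exact hne (c.uniq hG hM hAM h).symm
    have h2 := c.norm hG
    have h3 : (A ⊔ sigmaCore H) ⊓ M = A := by
      rw [dedekind' (c.act hG) hAM, inf_comm, h1, sup_bot_eq]
    rw [le_cz_comm, ← comm_eq_bot_iff, eq_bot_iff, ← cop_inf hcop]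
    refine le_inf ?_ ((commutator_mono inf_le_left le_rfl).trans (comm_le_left (hAM.trans hMU)))
    conv_rhs => rw [← h3]
    refine le_inf ?_ ?_
    · rw [sup_comm]
      exact (commutator_mono inf_le_right le_sup_right).trans (comm_le_right h2)
    · exact (commutator_mono (inf_le_left.trans hUM) hAM).trans (comm_self_le M)

/-- B & G 12.3 (a) -/
theorem bg12_3a {M H A A₀ : Subgroup G} {p : ℕ} (hM : IsCoatom M) (hH : IsCoatom H)
    (hne : H ≠ M) (hp : p.Prime) (hps : p ∉ sigma M) (hAM : A ≤ M)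
    (hA : IsElementaryAbelian p A) (hAc : Nat.card A = p ^ 2) (hA0 : A₀ ≤ A)
    (hA0c : Nat.card A₀ = p) (hN : 𝓝(A₀) ≤ H) : A ≤ 𝓒(sigmaCore M ⊓ H) := by
  refine bg12_3_aux hG hM hH hne hp
    (maxE2_of hG hM hp (rank_of_not_sigma hG hM hp hps) hAM hA hAc) hAM hA0 hA0c hN
    (sigmaCore_le hG hM) (le_nz_sigmaCore hG M)
    (fun h => hps (hall_isPi (sigma_hall hG hM) p hp h)) ?_
  intro hpH r hr hd hrα
  refine alpha_disj hG hH hM ?_ hrα (hall_isPi (sigma_hall hG hM) r hr hd)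
  rintro g rfl
  apply hps
  rw [sigma_cj]; exact hpH

/-- B & G 12.3 (b) -/
theorem bg12_3b {M H A A₀ : Subgroup G} {p : ℕ} (hM : IsCoatom M) (hH : IsCoatom H)
    (hne : H ≠ M) (hp : p.Prime) (hpα : p ∉ alpha M) (hAM : A ≤ M)
    (hA : IsElementaryAbelian p A) (hAc : Nat.card A = p ^ 2) (hA0 : A₀ ≤ A)
    (hA0c : Nat.card A₀ = p) (hN : 𝓝(A₀) ≤ H) : A ≤ 𝓒(alphaCore M ⊓ H) := by
  by_cases hps : p ∉ sigma M
  · exact (bg12_3a hG hM hH hne hp hps hAM hA hAc hA0 hA0c hN).trans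
      (cz_anti (inf_le_inf_right _ (alpha_le_sigma hG hM)))
  rw [not_not] at hps
  have hr2 := alpha_rank hG hp hpα
  refine bg12_3_aux hG hM hH hne hp (maxE2_of hG hM hp hr2 hAM hA hAc) hAM hA0 hA0c hN
    ((alpha_le_sigma hG hM).trans (sigmaCore_le hG hM)) (le_nz_alphaCore hG M)
    (fun h => hpα (hall_isPi (alpha_hall hG hM) p hp h)) ?_
  intro hpH r hr hd hrα
  refine alpha_disj hG hM hH ?_ (hall_isPi (alpha_hall hG hM) r hr hd)
    (alpha_sub_sigma hG hH hrα)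
  rintro g rfl
  have hX : A₀ ^ᵍ g⁻¹ ≤ M := by
    rw [cj_le_iff, inv_inv]
    refine le_trans ?_ hN
    exact le_normalizer
  have hXg : (A₀ ^ᵍ g⁻¹) ^ᵍ g ≤ M := by rw [cj_cj_inv]; exact hA0.trans hAM
  have hA0p : IsPGroup p A₀ := IsPGroup.of_card (n := 1) (by rw [hA0c, pow_one])
  have hX0 : A₀ ^ᵍ g⁻¹ ≠ ⊥ := by
    rw [Ne, cj_eq_bot]
    rintro rfl
    rw [card_bot] at hA0c
    exact hp.one_lt.ne hA0c
  obtain ⟨m, hm, k, hk, e⟩ := bg10_1 hG hM hps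
    (isPGroup_iff_isPi hp |>.2 ((isPi_of_isPGroup hp hA0p).cj g⁻¹)) hX0 hX hXg
  have hk' : k ∈ M := by
    have h1 : 𝓒(A₀ ^ᵍ g⁻¹) ≤ M := by
      rw [cz_cj, cj_le_iff, inv_inv]
      exact (cz_le_nz A₀).trans hN
    exact h1 hk
  apply hne
  rw [e]
  exact cj_eq_of_mem (mul_mem hm hk')

/-- B & G 12.4, second part -/
theorem bg12_4b {M A : Subgroup G} {p : ℕ} (hM : IsCoatom M) (hp : p.Prime) (hAM : A ≤ M)
    (hA : IsElementaryAbelian p A) (hAc : Nat.card A = p ^ 2)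
    (h : ∀ A₀ : Subgroup G, A₀ ≤ A → Nat.card A₀ = p → ∃ H, IsCoatom H ∧ H ≠ M ∧ 𝓝(A₀) ≤ H) :
    p ∈ sigma M ∧ alphaCore M = ⊥ ∧ Group.IsNilpotent (sigmaCore M) := by
  have hps : p ∈ sigma M := by
    by_contra hps
    refine bg10_11b hG hM hp hps hAM hA hAc ?_
    rw [le_cz_comm]
    refine lines_gen hp hA hAc (hAM.trans (le_nz_sigmaCore hG M)) ?_ ?_
    · refine ((hall_isPi (sigma_hall hG hM)).coprime ?_).symm
      exact (elab_isPi hp hA).mono (Set.singleton_subset_iff.2 hps)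
    · intro B hB hBc
      obtain ⟨H, hH, hne, hN⟩ := h B hB hBc
      refine le_trans ?_ (le_cz_comm.1 (bg12_3a hG hM hH hne hp hps hAM hA hAc hB hBc hN))
      exact inf_le_inf_left _ ((cz_le_nz B).trans hN)
  have hline : ∃ B ≤ A, Nat.card B = p := by
    haveI : Fact p.Prime := ⟨hp⟩
    obtain ⟨⟨x, hxA⟩, hx⟩ := exists_prime_orderOf_dvd_card' p (elab_card_dvd hAc)
    rw [Subgroup.orderOf_mk] at hx
    exact ⟨zpowers x, by rwa [zpowers_le], by rw [Nat.card_zpowers, hx]⟩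
  have hpα : p ∉ alpha M := by
    intro hα
    obtain ⟨P, hP, hAP⟩ := exists_syl_ge hp (elab_isPi hp hA) hAM
    have hPp : IsPGroup p P := (hall_isPi hP).isPGroup hp
    have hP3 : ¬ PRankLE p 2 P := fun hr => hα.2 ((rank_syl hp hP).2 hr)
    have hP0 : P ≠ ⊥ := by
      rintro rfl
      exact hP3 (bot_rank hG hp)
    have hne : P ⊓ 𝓒(P) ≠ ⊥ := pgroup_inf_cz hp (hall_isPi hP) (hall_isPi hP) le_normalizer hP0
    haveI : Fact p.Prime := ⟨hp⟩
    obtain ⟨⟨z, hz⟩, hzo⟩ := exists_prime_orderOf_dvd_card' p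
      (pgroup_dvd_card hp (hPp.to_le inf_le_left) hne)
    rw [Subgroup.orderOf_mk] at hzo
    have hzp : z ^ p = 1 := by rw [← hzo]; exact pow_orderOf_eq_one z
    by_cases hzA : z ∈ A
    · obtain ⟨H, hH, hne', hN⟩ := h (zpowers z) (by rwa [zpowers_le])
        (by rw [Nat.card_zpowers, hzo])
      have hPU := uniq_of_prank3 hG hp hP3 (ms_p_ne_top hG hp hPp)
      have hPH : P ≤ H := by
        refine le_trans ?_ ((cz_le_nz _).trans hN)
        rw [le_cz_comm, zpowers_le]; exact hz.2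
      exact hne' (uniq_eq hPU hM (hall_le hP) hH hPH)
    · have hc : ∀ a ∈ A, a * z = z * a := fun a ha => mem_cz.1 hz.2 a (hAP ha)
      have hB := elab_sup_zpowers hA hzp hc
      have hBc := card_sup_zpowers hp hzp hzA (fun a ha => by
        rw [mem_centralizer_singleton_iff]; exact hc a ha)
      have hB3 : ¬ PRankLE p 2 ↥(A ⊔ zpowers z) := by
        rw [not_rank_iff hp]
        exact ⟨_, le_rfl, hB, by rw [hBc, hAc]; ring⟩
      have hBU := uniq_of_prank3 hG hp hB3 (ms_p_ne_top hG hp (elab_isPGroup hB))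
      obtain ⟨B₀, hB0, hB0c⟩ := hline
      obtain ⟨H, hH, hne', hN⟩ := h B₀ hB0 hB0c
      have hBH : A ⊔ zpowers z ≤ H :=
        ((comm_iff_le_cz.1 hB.1).trans ((cz_anti (hB0.trans le_sup_left)).trans (cz_le_nz _))).trans
          hN
      refine hne' (uniq_eq hBU hM (sup_le hAM ?_) hH hBH)
      rw [zpowers_le]; exact hall_le hP hz.1
  have hαb : alphaCore M = ⊥ := by
    by_contra hαne
    have hAC : A ≤ 𝓒(alphaCore M) := by
      rw [le_cz_comm]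
      refine lines_gen hp hA hAc (hAM.trans (le_nz_alphaCore hG M)) ?_ ?_
      · refine ((hall_isPi (alpha_hall hG hM)).coprime ?_).symm
        exact (elab_isPi hp hA).mono (Set.singleton_subset_iff.2 hpα)
      · intro B hB hBc
        obtain ⟨H, hH, hne, hN⟩ := h B hB hBc
        refine le_trans ?_ (le_cz_comm.1 (bg12_3b hG hM hH hne hp hpα hAM hA hAc hB hBc hN))
        exact inf_le_inf_left _ ((cz_le_nz B).trans hN)
    obtain ⟨q, hq, hqd⟩ := exists_prime_dvd_of_ne_bot hαne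
    have hqα := hall_isPi (alpha_hall hG hM) q hq hqd
    obtain ⟨Q, hQ⟩ := exists_syl hq (alphaCore M)
    have hQM := hall_trans hQ (alpha_hall hG hM) (Set.singleton_subset_iff.2 hqα)
    have hQ3 : ¬ PRankLE q 2 Q := fun hr => hqα.2 ((rank_syl hq hQM).2 hr)
    have hQU := uniq_of_prank3 hG hq hQ3 (ms_p_ne_top hG hq ((hall_isPi hQ).isPGroup hq))
    have hAU := bg9_2' hG hp hQU hA hAc (hAC.trans (cz_anti (hall_le hQ)))
    obtain ⟨B₀, hB0, hB0c⟩ := hline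
    obtain ⟨H, hH, hne', hN⟩ := h B₀ hB0 hB0c
    exact hne' (uniq_eq hAU hM hAM hH
      (((comm_iff_le_cz.1 hA.1).trans ((cz_anti hB0).trans (cz_le_nz _))).trans hN))
  exact ⟨hps, hαb, nilpotent_sub (sigma_le_der hG hM) (der_nilp_of_alphaCore hG hM hαb)⟩

/-- if `p ∉ σ(M)` then some line has its normalizer in `M` -/
theorem exists_exc {M A : Subgroup G} {p : ℕ} (hM : IsCoatom M) (hp : p.Prime)
    (hps : p ∉ sigma M) (hAM : A ≤ M) (hA : IsElementaryAbelian p A) (hAc : Nat.card A = p ^ 2) :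
    ∃ A₀, Exc p M A₀ A := by
  by_contra hcon
  push Not at hcon
  refine hps (bg12_4b hG hM hp hAM hA hAc ?_).1
  intro A₀ hA0 hA0c
  obtain ⟨H, hH, hN⟩ := exists_max hG (nz_line_ne_top hG hp hA0c)
  refine ⟨H, hH, ?_, hN⟩
  rintro rfl
  exact hcon A₀ ⟨hM, hp, hps, hAM, hA, hAc, hA0, hA0c, hN⟩

/-- B & G 12.4, first part -/
theorem bg12_4a {M A : Subgroup G} {p : ℕ} (hM : IsCoatom M) (hp : p.Prime) (hAM : A ≤ M)
    (hA : IsElementaryAbelian p A) (hAc : Nat.card A = p ^ 2) : 𝓒(A) ≤ M := by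
  by_cases hline : ∃ A₀ ≤ A, Nat.card A₀ = p ∧ 𝓝(A₀) ≤ M
  · obtain ⟨A₀, hA0, -, hN⟩ := hline
    exact (cz_anti hA0).trans ((cz_le_nz _).trans hN)
  push Not at hline
  have hall : ∀ A₀ : Subgroup G, A₀ ≤ A → Nat.card A₀ = p →
      ∃ H, IsCoatom H ∧ H ≠ M ∧ 𝓝(A₀) ≤ H := by
    intro A₀ hA0 hA0c
    obtain ⟨H, hH, hN⟩ := exists_max hG (nz_line_ne_top hG hp hA0c)
    refine ⟨H, hH, ?_, hN⟩
    rintro rfl
    exact hline A₀ hA0 hA0c hN
  obtain ⟨hps, hαb, hnil⟩ := bg12_4b hG hM hp hAM hA hAc hall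
  have hpα : p ∉ alpha M := by
    intro hα
    obtain ⟨P, hP⟩ := exists_syl hp M
    have h1 : P ≤ alphaCore M := le_hall_of_normal (alpha_hall hG hM) (le_nz_alphaCore hG M)
      ((hall_isPi hP).mono (Set.singleton_subset_iff.2 hα)) (hall_le hP)
    rw [hαb, le_bot_iff] at h1
    exact hα.2 ((rank_syl hp hP).2 (h1 ▸ bot_rank hG hp))
  have hr2 := alpha_rank hG hp hpα
  have e2 := maxE2_of hG hM hp hr2 hAM hA hAc
  -- the normal Sylow subgroup `P`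
  set P := piCoreOf {p} (sigmaCore M) with hPdef
  have hP : IsPiHallOf {p} P M :=
    hall_trans (nilpotent_hall hnil) (sigma_hall hG hM) (Set.singleton_subset_iff.2 hps)
  have hPt := sigma_syl hps hP
  have hMP : M ≤ 𝓝(P) := (le_nz_sigmaCore hG M).trans (nz_le_nz_piCoreOf _ _)
  have hAP : A ≤ P := le_hall_of_normal hP hMP (elab_isPi hp hA) hAM
  have hNP := sigma_nz hps hP
  by_contra hCM
  obtain ⟨q, hq, hqS⟩ : ∃ q : ℕ, q.Prime ∧ ∀ S, IsPiHallOf {q} S 𝓒(A) → ¬ S ≤ M := by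
    by_contra hcon
    push Not at hcon
    exact hCM (le_of_syls hcon)
  have hqp : q ≠ p := by
    rintro rfl
    obtain ⟨S, hS, hAS⟩ := exists_syl_ge hp (elab_isPi hp hA)
      (comm_iff_le_cz.1 hA.1 : A ≤ 𝓒(A))
    -- every Sylow subgroup of `C(A)` is conjugate into `P ⊓ C(A)`
    have h1 := bg10_7syl hG hp hPt hAP
    have h2 : IsPiHallOf {q} (P ⊓ 𝓒(A)) 𝓒(A) := by
      have h3 := hall_inf_normal h1 (cz_le_nz A) (nz_le_nz_cz A)
      have h4 : P ⊓ 𝓝(A) ⊓ 𝓒(A) = P ⊓ 𝓒(A) := by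
        rw [inf_assoc, inf_eq_right.2 (cz_le_nz A)]
      rwa [h4] at h3
    exact hqS _ h2 (inf_le_left.trans (hall_le hP))
  have hqd : q ∣ Nat.card 𝓒(A) := by
    by_contra hd
    exact hqS ⊥ (hall_bot.2 ((isPi_compl_singleton hq).2 hd)) bot_le
  -- a Sylow `q`-subgroup of `C(A)` in a `P`-invariant `Q`
  obtain ⟨S₀, hS0⟩ := exists_syl hq 𝓒(A)
  obtain ⟨Q₀, hQ0, hSQ0⟩ := exists_maxInv (H := ⊤) (mem_inv_top.2
    ⟨hall_isPi hS0, le_nz_of_le_cz (le_cz_comm.1 (hall_le hS0))⟩)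
  obtain ⟨P₁, hP1, hAP1, hPQ0, -, -, hnar0⟩ := bg10_10 hG hp hq hqp e2 hqd hQ0
  obtain ⟨c, hc, rfl⟩ : ∃ c ∈ 𝓒(A), P ^ᵍ c = P₁ := by
    obtain ⟨g, -, rfl⟩ := syl_conj hp hPt hP1
    have hAg : A ^ᵍ g⁻¹ ≤ P := by rwa [cj_le_iff, inv_inv]
    obtain ⟨y, hy, k, hk, e⟩ := bg10_7fus hG hp hPt hAg (g := g) (by rwa [cj_cj_inv])
    refine ⟨y * k * y⁻¹, ?_, ?_⟩
    · have h1 : (A ^ᵍ g⁻¹) ^ᵍ y = A := by
        have h2 : (A ^ᵍ g⁻¹) ^ᵍ g = (A ^ᵍ g⁻¹) ^ᵍ y := by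
          calc (A ^ᵍ g⁻¹) ^ᵍ g = (A ^ᵍ g⁻¹) ^ᵍ (y * k) := by rw [← e]
            _ = (A ^ᵍ g⁻¹) ^ᵍ y := by rw [cj_mul, mem_nz.1 (cz_le_nz _ hk)]
        rw [← h2, cj_cj_inv]
      rw [← h1, cz_cj]
      exact conj_mem_cj hk
    · rw [e, cj_mul, mem_nz.1 (inv_mem hy)]
  set Q := Q₀ ^ᵍ c⁻¹ with hQdef
  have hcN : c⁻¹ ∈ 𝓝(A) := cz_le_nz A (inv_mem hc)
  have hQ : Q ∈ maxInvSubgroups ⊤ A {q} := maxInv_cj hQ0 hcN
  have hQq : IsPGroup q Q := (mem_inv_top.1 hQ.1).1.isPGroup hq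
  have hPQ : P ≤ 𝓝(Q) := by
    rw [hQdef, nz_cj, le_cj_iff, inv_inv]
    exact hPQ0
  have hSQ : S₀ ^ᵍ c⁻¹ ≤ Q := cj_mono hSQ0 _
  have hS : IsPiHallOf {q} (S₀ ^ᵍ c⁻¹) 𝓒(A) := hall_cj_mem hS0 (inv_mem hc)
  have hSM := hqS _ hS
  have hQM : ¬ Q ≤ M := fun h => hSM (hSQ.trans h)
  have hnn : ¬ (PRankLE q 2 Q ∨ ∃ E, NarE q Q E) := by
    intro h
    apply hQM
    have h1 : P ^ᵍ c ≤ 𝓒(Q₀) := by
      apply hnar0
      rcases h with h | ⟨E, h⟩
      · exact Or.inl (rank_cj.1 h)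
      · right
        have := h.cj c
        rw [hQdef, cj_cj_inv] at this
        exact ⟨_, this⟩
    have h2 : P ≤ 𝓒(Q) := by
      rw [hQdef, cz_cj, le_cj_iff, inv_inv]
      exact h1
    exact (le_cz_comm.1 h2).trans ((cz_le_nz P).trans hNP)
  push Not at hnn
  obtain ⟨hQ3, -⟩ := hnn
  have hQU := uniq_of_prank3 hG hq hQ3 (ms_p_ne_top hG hq hQq)
  obtain ⟨L, hL, hQL, -⟩ := uniq_iff.1 hQU
  have hQ0 : Q ≠ ⊥ := by
    intro h
    exact hQM (h ▸ bot_le)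
  have hNQL : 𝓝(Q) ≤ L := uniq_le hQU hL hQL le_normalizer
    (ms_nz_ne_top hG hQ0 (ms_p_ne_top hG hq hQq))
  have hLM : L ≠ M := by
    rintro rfl
    exact hQM hQL
  have hPL : P ≤ L := hPQ.trans hNQL
  have hpL : p ∉ sigma L := by
    intro h
    have h1 : 𝓝(P) ≤ L := sigma_nz h (hall_le_of_le hPt hPL le_top)
    have h2 : M ≤ L := hMP.trans h1
    rcases hM.le_iff.1 h2 with h3 | h3
    · exact max_ne_top hG hL h3
    · exact hLM h3
  obtain ⟨A₀, cL⟩ := exists_exc hG hL hp hpL (hAP.trans hPL) hA hAc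
  have hqα : q ∈ alpha L := ⟨hq, fun hr => hQ3 (rank_mono hQL hr)⟩
  have hqσ := alpha_sub_sigma hG hL hqα
  have h1 : Q ≤ sigmaCore L := syl_le_sigmaCore hG hL hqσ (mem_inv_top.1 hQ.1).1 hQL
  have h2 : S₀ ^ᵍ c⁻¹ ≤ sigmaCore L ⊓ 𝓒(A) := le_inf (hSQ.trans h1) (hall_le hS)
  rw [cL.inf_cz hG, le_bot_iff] at h2
  exact hSM (h2 ▸ bot_le)

end

end CfsgLib.BGPi
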