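import Cfsg.Agent.EqBase
import Cfsg.Agent.LibBG12a

/-! B & G 12.1, 12.5, 12.6. -/

open Subgroup
open scoped Pointwise commutatorElement

namespace CfsgLib.BGPi

open Cfsg

universe u

section
variable {G : Type u} [Group G] [Finite G]

theorem burnside_rel {q : ℕ} (hq : q.Prime) {S E : Subgroup G} (hS : IsPiHallOf {q} S E)
    (h : E ⊓ 𝓝(S) ≤ 𝓒(S)) : ¬ q ∣ Nat.card ↥⁅E, E⁆ := by
  haveI : Fact q.Prime := ⟨hq⟩
  obtain ⟨Q, hQ⟩ := exists_sylow_of_hall hS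
  have hSE := hall_le hS
  have hQ' : (Q : Subgroup E) = S.subgroupOf E := by
    apply Subgroup.map_injective E.subtype_injective
    rw [hQ, subgroupOf_map hSE]
  have hN : Subgroup.normalizer ((Q : Subgroup E) : Set E) ≤
      Subgroup.centralizer ((Q : Subgroup E) : Set E) := by
    rw [hQ', nz_subgroupOf_eq hSE, cz_subgroupOf hSE]
    intro x hx
    exact h ⟨x.2, hx⟩
  have hnd := MonoidHom.not_dvd_card_ker_transferSylow Q hN
  have hcomm : ∀ a b : (Q : Subgroup E), a * b = b * a := by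
    intro a b
    exact Subtype.ext (hN (Subgroup.le_normalizer b.2) a a.2)
  have hle : _root_.commutator E ≤ (MonoidHom.transferSylow Q hN).ker := by
    rw [_root_.commutator_def, Subgroup.commutator_le]
    intro x _ y _
    rw [MonoidHom.mem_ker, commutatorElement_def, map_mul, map_mul, map_mul,
      hcomm (MonoidHom.transferSylow Q hN x), mul_assoc,
      mul_assoc, ← mul_assoc ((MonoidHom.transferSylow Q hN) x), ← map_mul, mul_inv_cancel, map_one,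
      one_mul, ← map_mul, mul_inv_cancel, map_one]
  intro hd
  apply hnd
  refine dvd_trans ?_ (card_dvd_of_le hle)
  rw [← map_subtype_commutator, card_map_subtype] at hd
  exact hd

theorem cyc_comm {q : ℕ} (hq : q.Prime) {S A : Subgroup G} (hS : IsPGroup q S)
    (hcyc : IsCyclic S) (hA : A ≤ 𝓝(S)) (hcop : (Nat.card A).Coprime q) (hn : ¬ A ≤ 𝓒(S)) :
    ⁅S, A⁆ = S ∧ S ⊓ 𝓒(A) = ⊥ := by
  haveI : Fact q.Prime := ⟨hq⟩
  have hSc : S ≤ 𝓒(S) := by
    rw [← comm_iff_le_cz]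
    haveI := hcyc
    exact ⟨⟨fun a b => IsCyclic.commGroup.mul_comm a b⟩⟩
  have hc := coprime_card_of_pgroup hq hS hcop
  have h1 := ab_cop_inf hSc hA hc
  have h2 := cop_comm_sup hA hc (pgroup_solvable hq hS)
  have hVS : ⁅S, A⁆ ≤ S := comm_le_left hA
  have hprime : ∀ X : Subgroup G, X ≤ S → X ≠ ⊥ → ∃ x ∈ X, x ≠ 1 ∧ x ^ q = 1 := by
    intro X hX hX1
    obtain ⟨x, hx⟩ := exists_prime_orderOf_dvd_card' q (pgroup_dvd_card hq (hS.to_le hX) hX1)
    refine ⟨x, x.2, ?_, ?_⟩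
    · intro h
      have h1 : x = 1 := Subtype.ext h
      rw [h1, orderOf_one] at hx
      exact hq.ne_one hx.symm
    · have : x ^ q = 1 := by rw [← hx]; exact pow_orderOf_eq_one _
      exact congrArg Subtype.val this
  have hC : S ⊓ 𝓒(A) = ⊥ := by
    by_contra hC
    have hV : ⁅S, A⁆ ≠ ⊥ := fun h => hn (le_cz_comm.1 (comm_eq_bot_iff.1 h))
    obtain ⟨v, hv, hv1, hvq⟩ := hprime _ hVS hV
    obtain ⟨x, hx, hx1, hxq⟩ := hprime _ inf_le_left hC
    have h3 := mem_zpowers_of_cyclic hcyc hq (hVS hv) (mem_inf.1 hx).1 hv1 hvq hxq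
    have h4 : x ∈ ⁅S, A⁆ ⊓ 𝓒(A) := ⟨(zpowers_le.2 hv) h3, (mem_inf.1 hx).2⟩
    rw [h1, mem_bot] at h4
    exact hx1 h4
  rw [hC, sup_bot_eq] at h2
  exact ⟨h2, hC⟩

theorem cyclic_of_rank1 {q : ℕ} (hq : q.Prime) (hq2 : q ≠ 2) {S : Subgroup G} (hS : IsPGroup q S)
    (h : PRankLE q 1 S) : IsCyclic S := by
  by_contra hnc
  obtain ⟨E, hE, hEe, hEc⟩ := exists_elab2 hq hq2 hS hnc
  have := rank_iff.1 h E hE hEe
  rw [hEc, pow_one] at this
  have h2 : q < q ^ 2 := p_lt_p2 hq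
  omega

/-- a cyclic Sylow subgroup meeting the commutator subgroup lies in it -/
theorem cyc_syl_le_der {q : ℕ} (hq : q.Prime) {S E : Subgroup G} (hEs : Group.IsSolvable E)
    (hS : IsPiHallOf {q} S E) (hcyc : IsCyclic S) (hd : q ∣ Nat.card ↥⁅E, E⁆) :
    S ≤ ⁅E, E⁆ := by
  have hSE := hall_le hS
  have hSq : IsPGroup q S := (hall_isPi hS).isPGroup hq
  have hSN : IsPiHallOf {q} S (E ⊓ 𝓝(S)) :=
    hall_le_of_le hS (le_inf hSE le_normalizer) inf_le_left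
  obtain ⟨A, hA⟩ := hall_exists (π := {q}ᶜ) (solvable_sub (inf_le_left : E ⊓ 𝓝(S) ≤ E) hEs)
  have hAN : A ≤ 𝓝(S) := (hall_le hA).trans inf_le_right
  have hSc : S ≤ 𝓒(S) := by
    rw [← comm_iff_le_cz]
    haveI := hcyc
    exact ⟨⟨fun a b => IsCyclic.commGroup.mul_comm a b⟩⟩
  have hnA : ¬ A ≤ 𝓒(S) := by
    intro h
    refine burnside_rel hq hS ?_ hd
    rw [← hall_sup_compl hSN hA]
    exact sup_le hSc h
  obtain ⟨h1, -⟩ := cyc_comm hq hSq hcyc hAN ((isPi_compl_singleton' hq).1 (hall_isPi hA)) hnA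
  rw [← h1]
  exact commutator_mono hSE ((hall_le hA).trans inf_le_left)

variable (hG : IsMinSimpleOddOrder G)
include hG

theorem compl_hall {M E : Subgroup G} (hM : IsCoatom M) (hE : IsComplIn E (sigmaCore M) M) :
    IsPiHallOf (sigma M)ᶜ E M := by
  have hS := sigma_hall hG hM
  have h1 := IsComplIn_relIndex hE
  have h2 := IsComplIn_relIndex' hE
  rw [hall_iff]
  refine ⟨hE.1, ?_, ?_⟩
  · intro q hq hd hqs
    rw [← h2] at hd
    exact (hall_iff.1 hS).2.2 q hq hqs hd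
  · intro q hq hqs hd
    rw [h1] at hd
    exact hqs (hall_isPi hS q hq hd)

theorem compl_sup {M E : Subgroup G} (hM : IsCoatom M) (hE : IsPiHallOf (sigma M)ᶜ E M) :
    sigmaCore M ⊔ E = M := hall_sup_compl (sigma_hall hG hM) hE

theorem rank1_cyclic_of {π : Set ℕ} {M E : Subgroup G} (hEM : E ≤ M) (hE : IsPi π E)
    (hn : Group.IsNilpotent E) (h : ∀ p ∈ π, PRankLE p 1 M) : IsCyclic E := by
  refine cyclic_of_nilp_rank1 (ms_odd hG E) hn ?_
  by_contra hr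
  obtain ⟨p, hp, B, hBE, hB, hBc⟩ := exists_elab_of_not_rank hr
  have hpE := hE p hp ((elab_card_dvd hBc).trans (card_dvd_of_le hBE))
  have := rank_iff.1 (h p hpE) B (hBE.trans hEM) hB
  rw [hBc, pow_one] at this
  have h2 : p < p ^ (1 + 1) := p_lt_p2 hp
  omega

theorem der_dvd {M E : Subgroup G} (hM : IsCoatom M) (hE : IsPiHallOf (sigma M)ᶜ E M) {q : ℕ}
    (hq : q.Prime) (hqs : q ∉ sigma M) (hd : q ∣ Nat.card ↥⁅M, M⁆) : q ∣ Nat.card ↥⁅E, E⁆ := by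
  have hSn : E ≤ 𝓝(sigmaCore M) := (hall_le hE).trans (le_nz_sigmaCore hG M)
  have h1 := comm_prod_le hSn
  rw [compl_sup hG hM hE] at h1
  have h2 := hd.trans (card_dvd_of_le h1)
  have h3 : ⁅E, E⁆ ≤ 𝓝(sigmaCore M) := (comm_self_le E).trans hSn
  have h4 := card_sup_mul_card_inf h3
  rw [sup_comm] at h2
  have h5 : q ∣ Nat.card ↥⁅E, E⁆ * Nat.card ↥(sigmaCore M) := by
    rw [← h4]; exact h2.mul_right _
  rcases hq.dvd_mul.1 h5 with h6 | h6
  · exact h6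
  · exact absurd (hall_isPi (sigma_hall hG hM) q hq h6) hqs

/-- B & G 12.1, `τ₁` -/
theorem bg12_1a {M E E₁ : Subgroup G} (hM : IsCoatom M) (hE : IsPiHallOf (sigma M)ᶜ E M)
    (h1 : IsPi (tau1 M) E₁) (h1E : E₁ ≤ E) : IsCyclic E₁ := by
  have hEM := hall_le hE
  have hc : IsMulCommutative E₁ := by
    rw [comm_iff_comm_bot]
    by_contra hne
    obtain ⟨q, hq, hqd⟩ := exists_prime_dvd_of_ne_bot hne
    have hq1 := h1 q hq (hqd.trans (card_dvd_of_le (comm_self_le E₁)))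
    exact hq1.2.2.2.1 (hqd.trans (card_dvd_of_le
      (commutator_mono (h1E.trans hEM) (h1E.trans hEM))))
  refine rank1_cyclic_of hG (h1E.trans hEM) h1 ?_ fun p hp => hp.2.2.2.2
  exact nilpotent_of_class2 (by rw [comm_iff_comm_bot.1 hc]; exact bot_le)

/-- B & G 12.1, `τ₃` -/
theorem bg12_1c {M E E₃ : Subgroup G} (hM : IsCoatom M) (hE : IsPiHallOf (sigma M)ᶜ E M)
    (h3 : IsPiHallOf (tau3 M) E₃ E) : IsCyclic E₃ ∧ E₃ ≤ ⁅E, E⁆ ∧ E ≤ 𝓝(E₃) := by
  have hEM := hall_le hE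
  have hEs := solvable_sub hEM (max_sol hG hM)
  have hEn := hall_der_nilp hG hM hEM (hall_isPi hE)
  have hle : E₃ ≤ ⁅E, E⁆ := by
    apply le_of_syls
    intro q hq
    by_cases hd : q ∣ Nat.card E₃
    · have hq3 := hall_isPi h3 q hq hd
      obtain ⟨S, hS⟩ := exists_syl hq E₃
      have hSE := hall_trans hS h3 (Set.singleton_subset_iff.2 hq3)
      refine ⟨S, hS, cyc_syl_le_der hq hEs hSE ?_ (der_dvd hG hM hE hq hq3.2.1 hq3.2.2.1)⟩
      refine cyclic_of_rank1 hq ?_ ((hall_isPi hS).isPGroup hq)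
        (rank_mono ((hall_le hSE).trans hEM) hq3.2.2.2)
      exact ms_p_ne_two hG hq (hd.trans (Subgroup.card_subgroup_dvd_card _))
    · exact ⟨⊥, hall_bot.2 ((isPi_compl_singleton hq).2 hd), bot_le⟩
  refine ⟨rank1_cyclic_of hG ((hall_le h3).trans hEM) (hall_isPi h3) (nilpotent_sub hle hEn)
    fun p hp => hp.2.2.2, hle, ?_⟩
  have h4 : E₃ = piCoreOf (tau3 M) ⁅E, E⁆ := by
    refine hall_eq_of_le h3 (isPi_piCoreOf _ _) ((piCoreOf_le _ _).trans (comm_self_le E)) ?_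
    exact nilpotent_le_piCoreOf hEn hle (hall_isPi h3)
  rw [h4]
  exact (left_le_nz_comm E E).trans (nz_le_nz_piCoreOf _ _)

/-- B & G 12.6, the intersection of `M` with `N(A)` -/
theorem Exc.infN {p : ℕ} {M A₀ A E : Subgroup G} (c : Exc p M A₀ A)
    (hE : IsPiHallOf (sigma M)ᶜ E M) (hAE : A ≤ E) : M ⊓ 𝓝(A) = E := by
  have hEM := hall_le hE
  have hEA := c.nzE hG hE hAE
  have hES : E ≤ 𝓝(sigmaCore M) := hEM.trans (le_nz_sigmaCore hG M)
  have h1 : sigmaCore M ⊓ 𝓝(A) = ⊥ := by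
    rw [eq_bot_iff, ← c.inf_cz hG]
    refine le_inf inf_le_left ?_
    rw [← comm_eq_bot_iff, eq_bot_iff, ← cop_inf (c.cop hG)]
    exact le_inf (comm_le_right inf_le_right)
      ((commutator_mono inf_le_left le_rfl).trans (comm_le_left (c.act hG)))
  have h2 := dedekind' hES hEA
  rw [sup_comm, compl_sup hG c.hM hE, h1, sup_bot_eq] at h2
  exact h2

theorem Exc.notN {p : ℕ} {M A₀ A : Subgroup G} (c : Exc p M A₀ A) : ¬ 𝓝(A) ≤ M := by
  obtain ⟨P, hP, hAP, g, hg, hgM⟩ := c.exists_P hG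
  intro h
  exact hgM (h ((c.e2 hG).nz hAP (c.ab hG hP) hg))

theorem Exc.line_le {p : ℕ} {M A₀ A E X : Subgroup G} (c : Exc p M A₀ A)
    (hE : IsPiHallOf (sigma M)ᶜ E M) (hAE : A ≤ E) (hX : X ≤ E) (hXc : Nat.card X = p) :
    X ≤ A := by
  have hXp : IsPGroup p X := IsPGroup.of_card (n := 1) (by rw [hXc, pow_one])
  have hEM := hall_le hE
  have h1 : IsPGroup p ↥(A ⊔ X) := pgroup_sup c.hp (c.e2 hG).isP hXp
    (hX.trans (c.nzE hG hE hAE))
  obtain ⟨P, hP, hle⟩ := exists_syl_ge c.hp (isPi_of_isPGroup c.hp h1)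
    (sup_le c.AM (hX.trans hEM))
  intro x hx
  rw [← (c.e2 hG).omega (le_sup_left.trans hle) (c.ab hG hP) (hle (mem_sup_right hx))]
  have := congrArg Subtype.val (pow_card_eq_one' (x := (⟨x, hx⟩ : X)))
  rw [hXc] at this
  exact this

theorem Exc.uniq_cz {p : ℕ} {M A₀ A X : Subgroup G} (c : Exc p M A₀ A) (hX : X ≤ A)
    (hX0 : X ≠ ⊥) (h : sigmaCore M ⊓ 𝓒(X) ≠ ⊥) :
    𝓒(X) ≤ M ∧ ∀ L : Subgroup G, IsCoatom L → 𝓒(X) ≤ L → L = M := by
  have hAX : A ≤ 𝓒(X) := (comm_iff_le_cz.1 c.el.1).trans (cz_anti hX)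
  have h1 : ∀ L : Subgroup G, IsCoatom L → 𝓒(X) ≤ L → L = M := by
    intro L hL hXL
    refine c.uniq hG hL (hAX.trans hXL) ?_
    intro h2
    apply h
    rw [eq_bot_iff, ← h2]
    exact le_inf (inf_le_right.trans hXL) inf_le_left
  obtain ⟨L, hL, hXL⟩ := exists_max hG (ms_cz_ne_top hG hX0)
  refine ⟨?_, h1⟩
  rw [← h1 L hL hXL]; exact hXL

end

end CfsgLib.BGPi
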