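import Cfsg.Agent.EqBase
import Cfsg.Agent.LibBG12b

/-! B & G 12.7. -/

open Subgroup
open scoped Pointwise commutatorElement

namespace CfsgLib.BGPi

open Cfsg

universe u

section
variable {G : Type u} [Group G] [Finite G]

theorem exists_pow_order {p : ℕ} (hp : p.Prime) {d : G} (hd : d ≠ 1)
    (hdp : IsPGroup p (zpowers d)) : d ^ (orderOf d / p) ≠ 1 ∧ (d ^ (orderOf d / p)) ^ p = 1 ∧
      (p ^ 2 ∣ orderOf d ∨ d ^ p = 1) := by
  haveI : Fact p.Prime := ⟨hp⟩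
  obtain ⟨n, hn⟩ := IsPGroup.iff_card.1 hdp
  rw [Nat.card_zpowers] at hn
  have hn0 : n ≠ 0 := by
    rintro rfl
    rw [pow_zero, orderOf_eq_one_iff] at hn
    exact hd hn
  obtain ⟨m, rfl⟩ := Nat.exists_eq_succ_of_ne_zero hn0
  have hdiv : orderOf d / p = p ^ m := by
    rw [hn, pow_succ, Nat.mul_div_cancel _ hp.pos]
  rw [hdiv]
  refine ⟨?_, ?_, ?_⟩
  · intro h
    have h1 := orderOf_dvd_of_pow_eq_one h
    rw [hn] at h1
    have h2 := Nat.le_of_dvd (pow_pos hp.pos m) h1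
    have h3 : p ^ m < p ^ m.succ := Nat.pow_lt_pow_right hp.one_lt (Nat.lt_succ_self m)
    omega
  · rw [← pow_mul, ← pow_succ, ← Nat.succ_eq_add_one, ← hn]
    exact pow_orderOf_eq_one d
  · rcases m with _ | m
    · right
      rw [← pow_one p]
      have : orderOf d = p ^ 1 := hn
      rw [← this]
      exact pow_orderOf_eq_one d
    · left
      rw [hn]
      exact pow_dvd_pow p (by omega)

variable (hG : IsMinSimpleOddOrder G)
include hG

theorem max_nz_sigmaCore {M : Subgroup G} (hM : IsCoatom M) : 𝓝(sigmaCore M) = M :=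
  max_nz_eq hG hM (sigmaCore_ne_bot hG hM) (sigmaCore_le hG hM) (le_nz_sigmaCore hG M)

theorem Exc.S_inf {p : ℕ} {M A₀ A S : Subgroup G} (c : Exc p M A₀ A) (hS : IsPGroup p S)
    (hAS : A ≤ S) : S ⊓ M = S ⊓ 𝓒(A) := by
  apply le_antisymm
  · refine le_inf inf_le_left ?_
    obtain ⟨P, hP, hle⟩ := exists_syl_ge c.hp (isPi_of_isPGroup c.hp (hS.to_le inf_le_left))
      (inf_le_right : S ⊓ M ≤ M)
    exact (hle.trans (c.ab hG hP)).trans (cz_anti ((le_inf hAS c.AM).trans hle))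
  · exact inf_le_inf_left _ c.cz

theorem Exc.nonab {p : ℕ} {M A₀ A S : Subgroup G} (c : Exc p M A₀ A)
    (hS : IsPiHallOf {p} S ⊤) (hAS : A ≤ S) (hn : ¬ S ≤ 𝓒(S)) :
    ∃ Z Y, E2Str p S A Z Y ∧ A₀ ≠ Z ∧ sigmaCore M ≤ 𝓒(A₀) ∧ A ⊓ 𝓒(sigmaCore M) = A₀ ∧
      ∀ X ≤ A, Nat.card X = p → X ≠ A₀ → sigmaCore M ⊓ 𝓒(X) = ⊥ ∧ ¬ 𝓒(X) ≤ M := by
  have e2 := c.e2 hG
  have hp := c.hp
  have hSp : IsPGroup p S := (hall_isPi hS).isPGroup hp
  have hSM := c.S_inf hG hSp hAS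
  obtain ⟨Z, Y, hs⟩ := e2_sylow hG hp hS hAS hn e2
  have hSnM : ¬ S ≤ M := by
    intro h
    apply hn
    rw [← comm_iff_le_cz]
    have h1 := hs.comm hp c.el c.card
    rwa [← hSM, inf_eq_left.2 h] at h1
  have hSZ : S ≤ 𝓒(Z) := le_cz_comm.1 hs.Zc
  have hZ : A₀ ≠ Z := by
    rintro rfl
    exact hSnM (hSZ.trans ((cz_le_nz _).trans c.nz))
  obtain ⟨⟨x, hx, hxC⟩, htr⟩ := hs.trans hp hSp hAS hn e2
  have hxA : x ∈ 𝓝(A) := (mem_inf.1 hx).2
  -- the lines different from `Z` and `A₀`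
  have hX : ∀ X ≤ A, Nat.card X = p → X ≠ A₀ → X ≠ Z → ∃ y ∈ 𝓝(A), y ∉ M ∧ X = A₀ ^ᵍ y := by
    intro X hXA hXc h1 h2
    obtain ⟨i, hi⟩ := htr x hx hxC A₀ c.A0 X hXA c.card0 hXc hZ h2
    refine ⟨x ^ i, pow_mem hxA i, ?_, hi.symm⟩
    intro h3
    have h4 : x ^ i ∈ S ⊓ 𝓒(A) := by
      rw [← hSM]
      exact ⟨pow_mem (mem_inf.1 hx).1 i, h3⟩
    have h5 : x ^ i ∈ 𝓝(A₀) := cz_le_nz A₀ (cz_anti c.A0 (mem_inf.1 h4).2)
    rw [mem_nz.1 h5] at hi
    exact h1 hi.symm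
  have hZf : sigmaCore M ⊓ 𝓒(Z) = ⊥ := by
    by_contra h
    have hZ0 : Z ≠ ⊥ := by
      intro h1
      have := hs.cZ
      rw [h1, card_bot] at this
      exact hp.one_lt.ne this
    exact hSnM (hSZ.trans (c.uniq_cz hG hs.ZA hZ0 h).1)
  have hlines1 : ∀ X ≤ A, Nat.card X = p → X ≠ A₀ → sigmaCore M ⊓ 𝓒(X) = ⊥ := by
    intro X hXA hXc hne
    by_cases hXZ : X = Z
    · rw [hXZ]
      exact hZf
    obtain ⟨y, hy, hyM, rfl⟩ := hX X hXA hXc hne hXZ
    refine c.fpf_cj hG hyM ?_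
    conv_lhs => rw [← mem_nz.1 hy]
    exact cj_mono c.AM y
  have hSA0 : sigmaCore M ≤ 𝓒(A₀) := by
    refine lines_gen hp c.el c.card (c.act hG) (c.cop hG) ?_
    intro B hB hBc
    by_cases hBA : B = A₀
    · rw [hBA]; exact inf_le_right
    · rw [hlines1 B hB hBc hBA]; exact bot_le
  have hlines : ∀ X ≤ A, Nat.card X = p → X ≠ A₀ → sigmaCore M ⊓ 𝓒(X) = ⊥ ∧ ¬ 𝓒(X) ≤ M := by
    intro X hXA hXc hne
    refine ⟨hlines1 X hXA hXc hne, fun h => ?_⟩
    by_cases hXZ : X = Z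
    · rw [hXZ] at h
      exact hSnM (hSZ.trans h)
    obtain ⟨y, hy, hyM, rfl⟩ := hX X hXA hXc hne hXZ
    apply hyM
    rw [cz_cj] at h
    have h1 : (sigmaCore M) ^ᵍ y ≤ sigmaCore M :=
      le_hall_of_normal (sigma_hall hG c.hM) (le_nz_sigmaCore hG M)
        ((hall_isPi (sigma_hall hG c.hM)).cj y) ((cj_mono hSA0 y).trans h)
    rw [← max_nz_sigmaCore hG c.hM, mem_nz]
    exact eq_of_card_le h1 (by rw [card_cj])
  have hAcz : A ⊓ 𝓒(sigmaCore M) = A₀ := by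
    have h1 : A₀ ≤ A ⊓ 𝓒(sigmaCore M) := le_inf c.A0 (le_cz_comm.1 hSA0)
    have h2 : A ⊓ 𝓒(sigmaCore M) ≠ A := by
      intro h
      have h3 : sigmaCore M ≤ 𝓒(A) := le_cz_comm.1 (inf_eq_left.1 h)
      apply sigmaCore_ne_bot hG c.hM
      rw [eq_bot_iff, ← c.inf_cz hG]
      exact le_inf le_rfl h3
    symm
    refine eq_of_card_le h1 ?_
    have h3 := card_dvd_of_le (inf_le_left : A ⊓ 𝓒(sigmaCore M) ≤ A)
    rw [c.card] at h3
    obtain ⟨k, hk, hk'⟩ := (Nat.dvd_prime_pow hp).1 h3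
    have h4 : k ≠ 2 := by
      rintro rfl
      exact h2 (eq_of_card_le inf_le_left (by rw [hk', c.card]))
    rw [hk', c.card0]
    calc p ^ k ≤ p ^ 1 := Nat.pow_le_pow_right hp.pos (by omega)
      _ = p := pow_one p
  exact ⟨Z, Y, hs, hZ, hSA0, hAcz, hlines⟩

theorem Exc.nonab_fit {p : ℕ} {M A₀ A E S : Subgroup G} (c : Exc p M A₀ A)
    (hE : IsPiHallOf (sigma M)ᶜ E M) (hAE : A ≤ E)
    (hS : IsPiHallOf {p} S ⊤) (hAS : A ≤ S) (hn : ¬ S ≤ 𝓒(S)) :
    tau2 M = {p} ∧ fittingOf M = sigmaCore M ⊔ A₀ := by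
  obtain ⟨Z, Y, hs, hZ, hSA0, hAcz, hlines⟩ := c.nonab hG hS hAS hn
  have e2 := c.e2 hG
  have hp := c.hp
  have hEM := hall_le hE
  have hp2 : p ≠ 2 := ms_p_ne_two hG hp e2.dvd
  have hpdM : p ∣ Nat.card M := (elab_card_dvd c.card).trans (card_dvd_of_le c.AM)
  have htau : tau2 M = {p} := by
    apply Set.Subset.antisymm
    · rintro r ⟨hr, hrs, hr2, hr1⟩
      rw [Set.mem_singleton_iff]
      by_contra hrp
      obtain ⟨R, hR⟩ := exists_syl hr E
      have hRM := hall_trans hR hE (Set.singleton_subset_iff.2 hrs)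
      have hR1 : ¬ PRankLE r 1 R := fun h => hr1 ((rank_syl hr hRM).2 h)
      obtain ⟨B, hBR, hB, hBc⟩ := (not_rank_iff hr).1 hR1
      have hBE := hBR.trans (hall_le hR)
      obtain ⟨B₀, cB⟩ := exists_exc hG c.hM hr hrs (hBE.trans hEM) hB hBc
      have hEA := c.nzE hG hE hAE
      have hEB := cB.nzE hG hE hBE
      have hcop : (Nat.card B).Coprime (Nat.card A) :=
        pq_coprime hr hp hrp (cB.e2 hG).isP e2.isP
      have hBA : B ≤ 𝓒(A) := by
        rw [← comm_eq_bot_iff, eq_bot_iff, ← cop_inf hcop]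
        exact le_inf (comm_le_left (hAE.trans hEB)) (comm_le_right (hBE.trans hEA))
      have hrC : r ∣ Nat.card 𝓒(A) := (elab_card_dvd hBc).trans (card_dvd_of_le hBA)
      obtain ⟨Q, hQ, hBQ⟩ := exists_maxInv (H := ⊤) (mem_inv_top.2
        ⟨elab_isPi hr hB, le_nz_of_le_cz (le_cz_comm.1 hBA)⟩)
      obtain ⟨P, hP, hAP, -, -, -, hnar⟩ := bg10_10 hG hp hr hrp e2 hrC hQ
      have hQr : IsPGroup r Q := (mem_inv_top.1 hQ.1).1.isPGroup hr
      have hr2' : r ≠ 2 := ms_p_ne_two hG hr (cB.e2 hG).dvd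
      have hn' : PRankLE r 2 Q ∨ ∃ E, NarE r Q E := by
        by_cases hrk : PRankLE r 2 Q
        · exact Or.inl hrk
        · exact Or.inr ⟨B, narE_of_max hr hr2' hQr hrk hBQ hB
            (fun C _ hC hBC => (cB.e2 hG).max C hC hBC) (le_of_eq hBc)⟩
      have hPM : P ≤ M := (hnar hn').trans ((cz_anti hBQ).trans cB.cz)
      have hPab := c.ab hG (hall_le_of_le hP hPM le_top)
      obtain ⟨g, -, rfl⟩ := syl_conj hp hP hS
      apply hn
      rw [cz_cj]
      exact cj_mono hPab g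
    · rintro r hr
      rw [Set.mem_singleton_iff] at hr
      subst hr
      refine ⟨hp, c.ns, rank_of_not_sigma hG c.hM hp c.ns, fun h => ?_⟩
      have := rank_iff.1 h A c.AM c.el
      rw [c.card, pow_one] at this
      have h2 : r < r ^ 2 := p_lt_p2 hp
      omega
  refine ⟨htau, ?_⟩
  have hA0M : A₀ ≤ M := c.A0.trans c.AM
  have hMA0 : M ≤ 𝓝(A₀) := by
    conv_lhs => rw [← compl_sup hG c.hM hE]
    refine sup_le (hSA0.trans (cz_le_nz _)) ?_
    rw [← hAcz]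
    exact le_nz_inf (c.nzE hG hE hAE) (le_nz_cz (hEM.trans (le_nz_sigmaCore hG M)))
  apply le_antisymm
  · apply le_of_syls
    intro q hq
    refine ⟨_, nilpotent_hall (π := {q}) (fittingOf_nilpotent M), ?_⟩
    rw [piCoreOf_fittingOf hq]
    set D := piCoreOf {q} M with hD
    have hDM : D ≤ M := piCoreOf_le _ _
    have hMD : M ≤ 𝓝(D) := le_nz_piCoreOf _ _
    have hDq : IsPi {q} D := isPi_piCoreOf _ _
    have hDp : IsPGroup q D := hDq.isPGroup hq
    by_cases hqs : q ∈ sigma M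
    · exact (syl_le_sigmaCore hG c.hM hqs hDq hDM).trans le_sup_left
    by_cases hD0 : D = ⊥
    · rw [hD0]; exact bot_le
    refine le_trans ?_ le_sup_right
    have hqD : q ∣ Nat.card D := pgroup_dvd_card hq hDp hD0
    have hqM : q ∣ Nat.card M := hqD.trans (card_dvd_of_le hDM)
    by_cases hqp : q = p
    · subst hqp
      obtain ⟨P, hP, hAP⟩ := exists_syl_ge hp (elab_isPi hp c.el) c.AM
      have hPab := c.ab hG hP
      obtain ⟨S', hS', hPS'⟩ := exists_syl_ge hp (hall_isPi hP) (le_top : P ≤ ⊤)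
      have hn' : ¬ S' ≤ 𝓒(S') := by
        intro h
        obtain ⟨g, -, rfl⟩ := syl_conj hp hS' hS
        apply hn
        rw [cz_cj]
        exact cj_mono h g
      obtain ⟨Z', Y', hs', hZ', -, -, -⟩ := c.nonab hG hS' (hAP.trans hPS') hn'
      obtain ⟨e1, e2'⟩ := hs'.spl A₀ c.A0 c.card0 hZ'
      have hDP : D ≤ P := piCoreOf_le_hall hP
      have hDC : D ≤ 𝓒(sigmaCore M) := by
        rw [← comm_eq_bot_iff, eq_bot_iff]
        have h1 : D ⊓ sigmaCore M = ⊥ := by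
          rw [inf_comm]
          exact (hall_isPi (sigma_hall hG c.hM)).inf_eq_bot
            (hDq.mono (Set.singleton_subset_iff.2 hqs))
        rw [← h1]
        exact le_inf (comm_le_left ((sigmaCore_le hG c.hM).trans hMD))
          (comm_le_right (hDM.trans (le_nz_sigmaCore hG M)))
      have hone : ∀ d ∈ D, d ^ q = 1 → d ∈ A₀ := by
        intro d hd hdq
        rw [← hAcz]
        exact ⟨(e2.omega hAP hPab (hDP hd)).1 hdq, hDC hd⟩
      intro d hd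
      by_cases hd1 : d = 1
      · rw [hd1]; exact one_mem _
      obtain ⟨h1, h2, h3⟩ := exists_pow_order hp hd1 (hDp.to_le (by rwa [zpowers_le]))
      rcases h3 with h3 | h3
      · exfalso
        have h4 := hone _ (pow_mem hd _) h2
        have h5 : d ∈ A₀ ⊔ Y' := by
          rw [e2']
          exact ⟨hPS' (hDP hd), (cz_anti hAP) (hPab (hDP hd))⟩
        have hA0Y : A₀ ≤ 𝓒(Y') := le_cz_comm.1 (hs'.YP.trans (inf_le_right.trans (cz_anti c.A0)))
        obtain ⟨a, ha, y, hy, rfl⟩ := (mem_sup_of_nz (hA0Y.trans (cz_le_nz _))).1 h5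
        obtain ⟨m, hm⟩ := h3
        have h6 : orderOf (a * y) / q = q * m := by
          rw [hm, pow_two, mul_assoc, Nat.mul_div_cancel_left _ hp.pos]
        have h7 : (a * y) ^ (q * m) ∈ Y' := by
          rw [pow_mul, (show Commute a y from (mem_cz.1 (hA0Y ha) y hy).symm).mul_pow, c.el.2 a (c.A0 ha), one_mul]
          exact pow_mem (pow_mem hy _) _
        rw [h6] at h4 h1
        have h8 : (a * y) ^ (q * m) ∈ A₀ ⊓ Y' := ⟨h4, h7⟩
        rw [e1, mem_bot] at h8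
        exact h1 h8
      · exact hone d hd h3
    · exfalso
      have hr2 := rank_of_not_sigma hG c.hM hq hqs
      have hr1 : PRankLE q 1 M := by
        by_contra h
        have h1 : q ∈ tau2 M := ⟨hq, hqs, hr2, h⟩
        rw [htau, Set.mem_singleton_iff] at h1
        exact hqp h1
      have hq2 : q ≠ 2 := ms_p_ne_two hG hq (hqM.trans (Subgroup.card_subgroup_dvd_card _))
      have hcyc := cyclic_of_rank1 hq hq2 hDp (rank_mono hDM hr1)
      haveI : Fact q.Prime := ⟨hq⟩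
      obtain ⟨⟨x, hxD⟩, hx⟩ := exists_prime_orderOf_dvd_card' q hqD
      rw [Subgroup.orderOf_mk] at hx
      have hX0D : zpowers x ≤ D := by rwa [zpowers_le]
      have hX0c : Nat.card (zpowers x) = q := by rw [Nat.card_zpowers, hx]
      have hX0b : zpowers x ≠ ⊥ := by
        intro h
        rw [h, card_bot] at hX0c
        exact hq.one_lt.ne hX0c
      have hN := max_nz_eq hG c.hM hX0b (hX0D.trans hDM) (hMD.trans (nz_of_cyclic hcyc hX0D))
      exact (bg10_5c hG c.hM hq hqs hX0c hN.le).1.2 hr1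
  · refine sup_le (le_fittingOf (sigmaCore_le hG c.hM) (le_nz_sigmaCore hG M) (c.nilp hG)) ?_
    exact le_fittingOf hA0M hMA0 (nilpotent_of_isPi hp ((elab_isPi hp c.el).le c.A0))

end

end CfsgLib.BGPi
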