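import Cfsg.Agent.EqBase
import Cfsg.Agent.LibBG12c

/-! B & G 12.8. -/

open Subgroup
open scoped Pointwise commutatorElement

namespace CfsgLib.BGPi

open Cfsg

universe u

section
variable {G : Type u} [Group G] [Finite G]

theorem comm_of_pcores {N : Subgroup G} (hN : Group.IsNilpotent N)
    (h : ∀ q : ℕ, q.Prime → piCoreOf {q} N ≤ 𝓒(piCoreOf {q} N)) : N ≤ 𝓒(N) := by
  apply le_of_syls
  intro q hq
  refine ⟨_, nilpotent_hall (π := {q}) hN, ?_⟩
  rw [le_cz_comm]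
  apply le_of_syls
  intro r hr
  refine ⟨_, nilpotent_hall (π := {r}) hN, ?_⟩
  by_cases hrq : r = q
  · subst hrq; exact h r hr
  · refine nilpotent_commute (π := {r}) hN (piCoreOf_le _ _) (piCoreOf_le _ _)
      (isPi_piCoreOf _ _) ((isPi_piCoreOf _ _).mono ?_)
    rintro x hx
    rw [Set.mem_singleton_iff] at hx
    subst hx
    intro h1
    exact hrq h1.symm

/-- an abelian normal Sylow subgroup in the commutator subgroup -/
theorem ab_focal {p : ℕ} (hp : p.Prime) {S N : Subgroup G} (hNs : Group.IsSolvable N)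
    (hS : IsPiHallOf {p} S N) (hN : N ≤ 𝓝(S)) (hab : S ≤ 𝓒(S)) (hd : S ≤ ⁅N, N⁆) :
    S ≤ ⁅S, N⁆ := by
  obtain ⟨A, hA⟩ := hall_exists (π := {p}ᶜ) hNs
  have hAN := hall_le hA
  have hSN := hall_le hS
  have hAS : A ≤ 𝓝(S) := hAN.trans hN
  have hsup : S ⊔ A = N := hall_sup_compl hS hA
  set V := ⁅S, A⁆ with hV
  have hSV : S ≤ 𝓝(V) := left_le_nz_comm S A
  have hAV : A ≤ 𝓝(V) := right_le_nz_comm S A
  have h1 : qm V S ≤ 𝓒(qm V A) := (qm_cz_iff hSV hAV).2 le_rfl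
  have hNV : N ≤ 𝓝(V) := by rw [← hsup]; exact sup_le hSV hAV
  have h2 := comm_prod_le (K := qm V A) (U := qm V S) (h1.trans (cz_le_nz _))
  have h3 : ⁅qm V S, qm V S⁆ = ⊥ := by
    rw [comm_eq_bot_iff, qm_cz_iff hSV hSV, comm_eq_bot_iff.2 hab]
    exact bot_le
  rw [h3, sup_bot_eq, ← qm_sup hAV hSV, sup_comm, hsup, ← qm_comm hNV hNV] at h2
  have h4 : qm V S ≤ qm V A := (qm_mono hd).trans h2
  have hSp : IsPGroup p S := (hall_isPi hS).isPGroup hp
  have h5 : IsPi {p} (qm V S) := isPi_of_isPGroup hp (qm_isPGroup hSp)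
  have h6 : IsPi {p}ᶜ (qm V A) := fun q hq hd => hall_isPi hA q hq (hd.trans (qm_card_dvd hAV))
  have h7 : qm V S = ⊥ := eq_bot_of_isPi h5 (h6.le h4)
  exact ((qm_eq_bot hSV).1 h7).trans (commutator_mono le_rfl hAN)

variable (hG : IsMinSimpleOddOrder G)
include hG

theorem exists_exc_tau2 {M E : Subgroup G} (hM : IsCoatom M) (hE : IsPiHallOf (sigma M)ᶜ E M)
    {p : ℕ} (hp : p ∈ tau2 M) : ∃ A ≤ E, ∃ A₀, Exc p M A₀ A := by
  obtain ⟨hpp, hps, hr2, hr1⟩ := hp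
  obtain ⟨R, hR⟩ := exists_syl hpp E
  have hRM := hall_trans hR hE (Set.singleton_subset_iff.2 hps)
  have hR1 : ¬ PRankLE p 1 R := fun h => hr1 ((rank_syl hpp hRM).2 h)
  obtain ⟨B, hBR, hB, hBc⟩ := (not_rank_iff hpp).1 hR1
  have hBE := hBR.trans (hall_le hR)
  obtain ⟨B₀, cB⟩ := exists_exc hG hM hpp hps (hBE.trans (hall_le hE)) hB hBc
  exact ⟨B, hBE, B₀, cB⟩

/-- `p`-subgroups of `M` for `p ∉ σ(M)` are abelian -/
theorem pgroup_ab {M Q : Subgroup G} (hM : IsCoatom M) {q : ℕ} (hq : q.Prime)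
    (hqs : q ∉ sigma M) (hQM : Q ≤ M) (hQ : IsPi {q} Q) : Q ≤ 𝓒(Q) := by
  by_cases hr1 : PRankLE q 1 M
  · by_cases hQ0 : Q = ⊥
    · rw [hQ0]; exact bot_le
    have hQp := hQ.isPGroup hq
    have hqQ := pgroup_dvd_card hq hQp hQ0
    have hcyc := cyclic_of_rank1 hq (ms_p_ne_two hG hq
      (hqQ.trans (Subgroup.card_subgroup_dvd_card _))) hQp (rank_mono hQM hr1)
    rw [← comm_iff_le_cz]
    haveI := hcyc
    exact ⟨⟨fun a b => IsCyclic.commGroup.mul_comm a b⟩⟩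
  · obtain ⟨P, hP, hQP⟩ := exists_syl_ge hq hQ hQM
    obtain ⟨B, hBM, hB, hBc⟩ := (not_rank_iff hq).1 hr1
    obtain ⟨B₀, cB⟩ := exists_exc hG hM hq hqs hBM hB hBc
    exact hQP.trans ((cB.ab hG hP).trans (cz_anti hQP))

/-- B & G 12.8 (nilpotent `σ(M)'`-subgroups are abelian) -/
theorem nilp_ab {M N : Subgroup G} (hM : IsCoatom M) (hNM : N ≤ M)
    (hN : Group.IsNilpotent N) (hNs : IsPi (sigma M)ᶜ N) : N ≤ 𝓒(N) := by
  refine comm_of_pcores hN fun q hq => ?_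
  by_cases hd : q ∣ Nat.card N
  · exact pgroup_ab hG hM hq (hNs q hq hd) ((piCoreOf_le _ _).trans hNM) (isPi_piCoreOf _ _)
  · have h1 : piCoreOf {q} N = ⊥ := by
      refine eq_bot_of_isPi (isPi_piCoreOf _ _) ?_
      exact ((isPi_compl_singleton hq).2 hd).le (piCoreOf_le _ _)
    rw [h1]; exact bot_le

/-- noncyclic `p`-subgroups for `p ∈ σ(M)` -/
theorem nz_noncyc {M P : Subgroup G} (hM : IsCoatom M) {p : ℕ} (hps : p ∈ sigma M)
    (hP : IsPGroup p P) (hPM : P ≤ M) (hnc : ¬ IsCyclic P) : 𝓝(P) ≤ M := by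
  have hp := sigma_prime hps
  have hP0 : P ≠ ⊥ := by
    rintro rfl
    exact hnc inferInstance
  have hp2 : p ≠ 2 := ms_p_ne_two hG hp ((pgroup_dvd_card hp hP hP0).trans
    (Subgroup.card_subgroup_dvd_card _))
  obtain ⟨A, hAP, hA, hAc⟩ := exists_elab2 hp hp2 hP hnc
  rw [bg10_1b hG hM hps hP hP0 hPM]
  exact sup_le inf_le_left ((cz_anti hAP).trans (bg12_4a hG hM hp (hAP.trans hPM) hA hAc))

theorem Exc.syl_le {p : ℕ} {M A₀ A E S : Subgroup G} (c : Exc p M A₀ A)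
    (hE : IsPiHallOf (sigma M)ᶜ E M) (hAE : A ≤ E) (hAS : A ≤ S) (hab : S ≤ 𝓒(S)) : S ≤ E := by
  rw [← c.infN hG hE hAE]
  exact le_inf ((hab.trans (cz_anti hAS)).trans c.cz)
    ((hab.trans (cz_anti hAS)).trans (cz_le_nz A))

/-- abelian Sylow subgroups are normal in `E` -/
theorem Exc.syl_nz {p : ℕ} {M A₀ A E S : Subgroup G} (c : Exc p M A₀ A)
    (hE : IsPiHallOf (sigma M)ᶜ E M) (hAE : A ≤ E) (hS : IsPiHallOf {p} S ⊤) (hAS : A ≤ S)
    (hab : S ≤ 𝓒(S)) : E ≤ 𝓝(S) := by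
  have hp := c.hp
  have e2 := c.e2 hG
  have hSE := c.syl_le hG hE hAE hAS hab
  have hEM := hall_le hE
  have hSE' := hall_le_of_le hS hSE le_top
  have hSp : IsPGroup p S := (hall_isPi hS).isPGroup hp
  have hKA := c.norm_aux hG hE hAE
  set K := piCoreOf {p}ᶜ E with hK
  have hKE : K ≤ E := piCoreOf_le _ _
  have hEK : E ≤ 𝓝(K) := le_nz_piCoreOf _ _
  have hKC : K ≤ 𝓒(A) := comm_eq_bot_iff.1 hKA
  have hCE : 𝓒(A) ≤ E := by
    rw [← c.infN hG hE hAE]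
    exact le_inf c.cz (cz_le_nz A)
  set D := piCoreOf {p}ᶜ 𝓒(A) with hD
  have hKD : K ≤ D := le_piCoreOf hKC (hCE.trans hEK) (isPi_piCoreOf _ _)
  have hDC : D ≤ 𝓒(A) := piCoreOf_le _ _
  have hND : 𝓝(A) ≤ 𝓝(D) := (nz_le_nz_cz A).trans (nz_le_nz_piCoreOf _ _)
  have hNSA : 𝓝(S) ≤ 𝓝(A) := e2.nz hAS hab
  have hNSD := hNSA.trans hND
  have hSD : S ≤ 𝓝(D) := le_normalizer.trans hNSD
  have hcop : (Nat.card S).Coprime (Nat.card D) := (hall_isPi hS).coprime (isPi_piCoreOf _ _)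
  have hDs : Group.IsSolvable D := solvable_sub ((hDC.trans hCE).trans hEM) (max_sol hG c.hM)
  have hS0 : S ≠ ⊥ := fun h => e2.ne_bot hp (le_bot_iff.1 (h ▸ hAS))
  have hNs : Group.IsSolvable ↥𝓝(S) := ms_sol hG (ms_nz_ne_top hG hS0 (ms_p_ne_top hG hp hSp))
  have hfoc : S ≤ ⁅S, 𝓝(S)⁆ := ab_focal hp hNs (hall_le_of_le hS le_normalizer le_top) le_rfl hab
    (bg10_7foc hG hp hS)
  have hSDc : S ≤ 𝓒(D) := by
    rw [le_cz_comm]
    apply le_of_syls
    intro r hr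
    obtain ⟨R, hR, hSR⟩ := cop_hall_exists hSD hcop hDs {r}
    refine ⟨R, hR, ?_⟩
    rw [le_cz_comm]
    by_cases hrd : r ∣ Nat.card R
    · have hRp : IsPGroup r R := (hall_isPi hR).isPGroup hr
      have hRE : R ≤ E := ((hall_le hR).trans hDC).trans hCE
      have hr2 : PRankLE r 2 R := rank_mono hRE (core_rank2 hG c.hM hEM (hall_isPi hE) hr)
      have hrne : r ≠ 2 := ms_p_ne_two hG hr (hrd.trans (Subgroup.card_subgroup_dvd_card _))
      set N₁ := 𝓝(S) ⊓ 𝓝(R) with hN1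
      have hSN1 : S ≤ N₁ := le_inf le_normalizer hSR
      have h1 : ⁅S, 𝓝(S)⁆ ≤ ⁅S, N₁⁆ := by
        rw [Subgroup.commutator_le]
        intro s hs g hg
        have hRg : IsPiHallOf {r} (R ^ᵍ g) D := by
          have := hall_cj hR g
          rwa [mem_nz.1 (hNSD hg)] at this
        have hSRg : S ≤ 𝓝(R ^ᵍ g) := by
          have := cj_mono hSR g
          rwa [mem_nz.1 hg, ← nz_cj] at this
        obtain ⟨k, hk, e⟩ := cop_hall_conj hSD hcop hDs hR hSR hRg hSRg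
        have hkS : k ∈ 𝓒(S) := (mem_inf.1 hk).2
        have hn : k⁻¹ * g ∈ N₁ := by
          refine ⟨Subgroup.mul_mem _ (Subgroup.inv_mem _ (cz_le_nz S hkS)) hg, ?_⟩
          have : R ^ᵍ (k⁻¹ * g) = R := by rw [cj_mul, ← e, cj_inv_cj]
          exact mem_nz.2 this
        have h2 : ⁅s, g⁆ = ⁅s, k⁻¹ * g⁆ := by
          have h3 : g * s⁻¹ * g⁻¹ ∈ S := (mem_normalizer_iff.1 hg _).1 (inv_mem hs)
          have h4 : k⁻¹ * (g * s⁻¹ * g⁻¹) * k = g * s⁻¹ * g⁻¹ := by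
            have h5 := mem_cz.1 hkS _ h3
            rw [mul_assoc, h5]; group
          rw [commutatorElement_def, commutatorElement_def]
          calc s * g * s⁻¹ * g⁻¹ = s * (g * s⁻¹ * g⁻¹) := by group
            _ = s * (k⁻¹ * (g * s⁻¹ * g⁻¹) * k) := by rw [h4]
            _ = s * (k⁻¹ * g) * s⁻¹ * (k⁻¹ * g)⁻¹ := by group
        rw [h2]
        exact commutator_mem_commutator hs hn
      intro s hs
      refine rk2_der hr hrne hRp hr2 (inf_le_right : N₁ ≤ 𝓝(R)) (ms_odd hG _)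
        (commutator_mono hSN1 le_rfl (h1 (hfoc hs))) ?_
      have hrp : r ≠ p := by
        rintro rfl
        exact (isPi_piCoreOf {r}ᶜ 𝓒(A)) r hr (hrd.trans (card_dvd_of_le (hall_le hR))) rfl
      exact ord_cop hp hr hrp hSp hs
    · have h1 : R = ⊥ := eq_bot_of_isPi (hall_isPi hR) ((isPi_compl_singleton hr).2 hrd)
      rw [h1, cz_bot]; exact le_top
  have hSK : S ≤ 𝓒(K) := hSDc.trans (cz_anti hKD)
  have hEtop : E ≠ ⊤ := fun h => max_ne_top hG c.hM (top_le_iff.1 (h ▸ hEM))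
  have hEKS : E ≤ 𝓝(K ⊔ S) := plen1_normal hp (bg10_6 hG hp hEtop) hSE'
  have hKSn : K ⊔ S ≤ 𝓝(S) := sup_le (le_nz_of_le_cz (le_cz_comm.1 hSK)) le_normalizer
  have h2 : IsPiHallOf {p} S (K ⊔ S) :=
    hall_le_of_le hSE' le_sup_right (sup_le hKE hSE)
  rw [← piCoreOf_eq_of_hall h2 hKSn]
  exact hEKS.trans (nz_le_nz_piCoreOf _ _)

/-- a `τ₂`-element of `E` centralizes `A` -/
theorem Exc.tau2_cz {p : ℕ} {M A₀ A E : Subgroup G} (c : Exc p M A₀ A)
    (hE : IsPiHallOf (sigma M)ᶜ E M) (hAE : A ≤ E) {X : Subgroup G} (hX : X ≤ E)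
    (hXn : Group.IsNilpotent X)
    (hXt : IsPi (tau2 M) X) : X ≤ 𝓒(A) := by
  have hp := c.hp
  have e2 := c.e2 hG
  have hEM := hall_le hE
  have hEA := c.nzE hG hE hAE
  -- the `p`-part
  have hpp : ∀ T : Subgroup G, T ≤ E → IsPi {p} T → T ≤ 𝓒(A) := by
    intro T hTE hT
    have h1 : IsPGroup p ↥(A ⊔ T) := pgroup_sup hp e2.isP (hT.isPGroup hp) (hTE.trans hEA)
    have h2 := pgroup_ab hG c.hM hp c.ns (sup_le c.AM (hTE.trans hEM)) (isPi_of_isPGroup hp h1)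
    exact le_sup_right.trans (h2.trans (cz_anti le_sup_left))
  obtain ⟨S, hS, hAS⟩ := exists_syl_ge hp (elab_isPi hp c.el) (le_top : A ≤ ⊤)
  by_cases hab : S ≤ 𝓒(S)
  · have hES := c.syl_nz hG hE hAE hS hAS hab
    have hSE := c.syl_le hG hE hAE hAS hab
    apply le_of_syls
    intro q hq
    refine ⟨_, nilpotent_hall (π := {q}) hXn, ?_⟩
    set T := piCoreOf {q} X with hT
    have hTX : T ≤ X := piCoreOf_le _ _
    have hTq : IsPi {q} T := isPi_piCoreOf _ _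
    by_cases hT0 : T = ⊥
    · rw [hT0]; exact bot_le
    by_cases hqp : q = p
    · subst hqp
      exact hpp T (hTX.trans hX) hTq
    have hqt : q ∈ tau2 M := hXt q hq ((pgroup_dvd_card hq (hTq.isPGroup hq) hT0).trans
      (card_dvd_of_le hTX))
    obtain ⟨B, hBE, B₀, cB⟩ := exists_exc_tau2 hG c.hM hE hqt
    obtain ⟨Q, hQ, hBQ⟩ := exists_syl_ge hq (elab_isPi hq cB.el) (le_top : B ≤ ⊤)
    by_cases habQ : Q ≤ 𝓒(Q)
    · have hEQ := cB.syl_nz hG hE hBE hQ hBQ habQ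
      have hQE := cB.syl_le hG hE hBE hBQ habQ
      have hTQ : T ≤ Q := le_hall_of_normal (hall_le_of_le hQ hQE le_top) hEQ hTq (hTX.trans hX)
      have hcop : (Nat.card Q).Coprime (Nat.card S) :=
        pq_coprime hq hp hqp ((hall_isPi hQ).isPGroup hq) ((hall_isPi hS).isPGroup hp)
      have hQS : Q ≤ 𝓒(S) := by
        rw [← comm_eq_bot_iff, eq_bot_iff, ← cop_inf hcop]
        exact le_inf (comm_le_left (hSE.trans hEQ)) (comm_le_right (hQE.trans hES))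
      exact hTQ.trans (hQS.trans (cz_anti hAS))
    · exfalso
      have h1 := (cB.nonab_fit hG hE hBE hQ hBQ habQ).1
      have h2 : p ∈ tau2 M := by
        refine ⟨hp, c.ns, rank_of_not_sigma hG c.hM hp c.ns, fun h => ?_⟩
        have := rank_iff.1 h A c.AM c.el
        rw [c.card, pow_one] at this
        have h2 : p < p ^ 2 := p_lt_p2 hp
        omega
      rw [h1, Set.mem_singleton_iff] at h2
      exact hqp h2.symm
  · have h1 := (c.nonab_fit hG hE hAE hS hAS hab).1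
    exact hpp X hX (h1 ▸ hXt)

theorem tau2_sub {M : Subgroup G} : tau2 M ⊆ (sigma M)ᶜ := fun _ hp => hp.2.1

/-- B & G 12.8, the last part -/
theorem tau2_uniq {M : Subgroup G} (hM : IsCoatom M) {x : G} (hx : x ∈ M) (hx1 : x ≠ 1)
    (hxt : ∀ p : ℕ, p.Prime → p ∣ orderOf x → p ∈ tau2 M) (hxs : x ∈ sigmaHat M) :
    Subgroup.centralizer ({x} : Set G) ≤ M ∧ ∀ L : Subgroup G, IsCoatom L →
      Subgroup.centralizer ({x} : Set G) ≤ L → L = M := by
  have hXt : IsPi (tau2 M) (zpowers x) := by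
    intro p hp hd
    rw [Nat.card_zpowers] at hd
    exact hxt p hp hd
  obtain ⟨E, hE, hXE⟩ := hall_exists_ge (max_sol hG hM) (hXt.mono (tau2_sub hG))
    (by rwa [zpowers_le] : zpowers x ≤ M)
  obtain ⟨p, hp, hpd⟩ := Nat.exists_prime_and_dvd (n := orderOf x)
    (fun h => hx1 (orderOf_eq_one_iff.1 h))
  obtain ⟨A, hAE, A₀, c⟩ := exists_exc_tau2 hG hM hE (hxt p hp hpd)
  have hXn : Group.IsNilpotent (zpowers x) := by
    refine nilpotent_of_class2 ?_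
    rw [comm_iff_comm_bot.1 (comm_zpowers x)]; exact bot_le
  have h1 := c.tau2_cz hG hE hAE hXE hXn hXt
  have hAx : A ≤ Subgroup.centralizer ({x} : Set G) := by
    rw [← cz_zpowers]; exact le_cz_comm.1 h1
  obtain ⟨-, y, hy, hy1, hxy⟩ := hxs
  have h2 : ∀ L : Subgroup G, IsCoatom L → Subgroup.centralizer ({x} : Set G) ≤ L → L = M := by
    intro L hL hxL
    refine c.uniq hG hL (hAx.trans hxL) ?_
    intro h3
    have h4 : y ∈ L ⊓ sigmaCore M := ⟨hxL (by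
      rw [mem_centralizer_singleton_iff]; exact hxy.symm), hy⟩
    rw [h3, mem_bot] at h4
    exact hy1 h4
  obtain ⟨L, hL, hxL⟩ := exists_max hG (ms_cz1_ne_top hG hx1)
  refine ⟨?_, h2⟩
  rw [← h2 L hL hxL]; exact hxL

end

end CfsgLib.BGPi
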