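import Cfsg.Agent.EqBase
import Cfsg.Agent.LibBG12d

/-! B & G: nonabelian `p`-subgroups lie in a unique maximal subgroup. -/

open Subgroup
open scoped Pointwise commutatorElement

namespace CfsgLib.BGPi

open Cfsg

universe u

section
variable {G : Type u} [Group G] [Finite G]

theorem exists_line {p : ℕ} (hp : p.Prime) {A : Subgroup G} (hA : Nat.card A = p ^ 2) :
    ∃ X ≤ A, Nat.card X = p := by
  haveI : Fact p.Prime := ⟨hp⟩
  obtain ⟨⟨x, hxA⟩, hx⟩ := exists_prime_orderOf_dvd_card' p (elab_card_dvd hA)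
  rw [Subgroup.orderOf_mk] at hx
  exact ⟨zpowers x, by rwa [zpowers_le], by rw [Nat.card_zpowers, hx]⟩

/-- generation when `Z` acts trivially -/
theorem quot_gen {p : ℕ} (hp : p.Prime) {W Z Q X : Subgroup G} (hZW : Z ≤ W) (hWZ : W ≤ 𝓝(Z))
    (hZc : Nat.card Z = p) (hWc : Nat.card W = p ^ 3) (hW : ⁅W, W⁆ ≤ Z)
    (hWp : ∀ w ∈ W, w ^ p = 1) (hWQ : W ≤ 𝓝(Q)) (hZQ : Q ≤ 𝓒(Z))
    (hcop : (Nat.card W).Coprime (Nat.card Q))
    (h : ∀ w ∈ W, w ∉ Z → Q ⊓ 𝓒(zpowers w) ≤ X) : Q ≤ X ⊔ Z := by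
  have hQZ : Q ≤ 𝓝(Z) := hZQ.trans (cz_le_nz Z)
  have hel : IsElementaryAbelian p (qm Z W) := by
    rw [elab_iff]
    refine ⟨(qm_cz_iff hWZ hWZ).2 hW, ?_⟩
    intro y hy
    obtain ⟨w, hw, hwW, rfl⟩ := mem_qm.1 hy
    rw [← qe_pow, qe_eq_one, hWp w hwW]
    exact one_mem _
  have hcard : Nat.card (qm Z W) = p ^ 2 := by
    rw [qm_card hWZ]
    have h1 := card_mul_relIndex hZW
    rw [hZc, hWc] at h1
    have h2 : p * Z.relIndex W = p * p ^ 2 := by rw [h1]; ring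
    exact Nat.eq_of_mul_eq_mul_left hp.pos h2
  have hQW : Q ⊓ Z = ⊥ := by
    rw [inf_comm]
    exact cop_inf (hcop.coprime_dvd_left (card_dvd_of_le hZW))
  have key : qm Z Q ≤ qm Z (Q ⊓ X) := by
    refine lines_gen hp hel hcard (qm_nz hWQ) ?_ ?_
    · exact Nat.Coprime.coprime_dvd_left (qm_card_dvd hWZ)
        (hcop.coprime_dvd_right (qm_card_dvd hQZ))
    · intro B hB hBc
      have hB0 : B ≠ ⊥ := by
        rintro rfl
        rw [card_bot] at hBc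
        exact hp.one_lt.ne hBc
      obtain ⟨b, hb, hb1⟩ := B.bot_or_exists_ne_one.resolve_left hB0
      obtain ⟨w, hwn, hwW, rfl⟩ := mem_qm.1 (hB hb)
      have hwZ : w ∉ Z := fun h => hb1 ((qe_eq_one hwn).2 h)
      rintro y ⟨hy, hyB⟩
      obtain ⟨x, hxn, hxQ, rfl⟩ := mem_qm.1 hy
      refine qe_mem hxn ⟨hxQ, h w hwW hwZ ⟨hxQ, ?_⟩⟩
      have h1 := mem_cz.1 hyB _ hb
      rw [← qe_mul hwn hxn, ← qe_mul hxn hwn] at h1
      have h2 : w * x * (x * w)⁻¹ ∈ Z := by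
        have hxw : x * w ∈ 𝓝(Z) := mul_mem hxn hwn
        have hwx : w * x ∈ 𝓝(Z) := mul_mem hwn hxn
        have h3 : qe Z (mul_mem hwx (Subgroup.inv_mem _ hxw)) = 1 := by
          rw [qe_mul hwx (Subgroup.inv_mem _ hxw), qe_inv hxw, h1, mul_inv_cancel]
        exact (qe_eq_one _).1 h3
      have h3 : w * x * (x * w)⁻¹ ∈ Q := by
        have h4 : w * x * (x * w)⁻¹ = (w * x * w⁻¹) * x⁻¹ := by group
        rw [h4]
        exact mul_mem ((mem_normalizer_iff.1 (hWQ hwW) x).1 hxQ) (inv_mem hxQ)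
      have h4 : w * x * (x * w)⁻¹ ∈ Q ⊓ Z := ⟨h3, h2⟩
      rw [hQW, mem_bot, mul_inv_eq_one] at h4
      rw [cz_zpowers]
      show x ∈ Subgroup.centralizer {w}
      rw [mem_centralizer_singleton_iff]
      first | exact h4 | exact h4.symm
  exact ((qm_le_iff hQZ (inf_le_left.trans hQZ)).1 key).trans (sup_le_sup_right inf_le_right _)

variable (hG : IsMinSimpleOddOrder G)
include hG

theorem nonab_W {p : ℕ} (hp : p.Prime) {S : Subgroup G} (hS : IsPiHallOf {p} S ⊤)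
    (hn : ¬ S ≤ 𝓒(S)) (hr : PRankLE p 2 S) : ∃ W ≤ S, (∀ x ∈ S, x ^ p = 1 ↔ x ∈ W) ∧
      Nat.card W = p ^ 3 ∧ ¬ W ≤ 𝓒(W) ∧ Nat.card ↥⁅W, W⁆ = p ∧ ⁅W, W⁆ = W ⊓ 𝓒(W) ∧
      ⁅W, W⁆ ≤ 𝓒(S) := by
  have hSp : IsPGroup p S := (hall_isPi hS).isPGroup hp
  have hS1 : S ≠ ⊥ := by rintro rfl; exact hn bot_le
  have hp2 : p ≠ 2 := ms_p_ne_two hG hp ((pgroup_dvd_card hp hSp hS1).trans
    (Subgroup.card_subgroup_dvd_card _))
  have hSt := ms_p_ne_top hG hp hSp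
  have hNt := ms_nz_ne_top hG hS1 hSt
  have hNs := ms_sol hG hNt
  obtain ⟨V, hV⟩ := hall_exists (π := {p}ᶜ) hNs
  have hPN := hall_le_of_le hS le_normalizer le_top
  have hsup := hall_sup_compl hPN hV
  have hVN := hall_le hV
  have hcop : (Nat.card V).Coprime p := (isPi_compl_singleton' hp).1 (hall_isPi hV)
  have hPV : ⁅S, V⁆ = S := by
    refine eq_comm_of_le_der hVN ?_ ?_ ?_
    · exact IsPi.inf_eq_bot (hall_isPi hS) (hall_isPi hV)
    · exact solvable_of_isPGroup hp hSp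
    · rw [hsup]; exact bg10_7foc hG hp hS
  obtain ⟨h3, h⟩ := rank2_struct hp hp2 hSp hS1 hr hVN hcop (ms_odd hG V) hPV
  rcases h with h | ⟨W, hWS, hW, hWc, hWn, hWC, hcyc⟩
  · exact absurd (comm_iff_le_cz.1 h) hn
  obtain ⟨hZe, hZc⟩ := nonab_p3 hp (hSp.to_le hWS) hWc hWn
  refine ⟨W, hWS, hW, hWc, hWn, hZc, hZe, ?_⟩
  rw [le_cz_comm, ← hWC]
  refine sup_le ?_ ?_
  · rw [le_cz_comm, hZe]; exact inf_le_right
  · exact inf_le_right.trans (cz_anti (by rw [hZe]; exact inf_le_left))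

/-- the situation of two maximal subgroups above a nonabelian Sylow subgroup of rank two -/
theorem two_max_core {p : ℕ} (hp : p.Prime) {S W M H : Subgroup G} (hS : IsPiHallOf {p} S ⊤)
    (hr : PRankLE p 2 S) (hWS : W ≤ S) (hW : ∀ x ∈ S, x ^ p = 1 ↔ x ∈ W)
    (hWc : Nat.card W = p ^ 3) (hWn : ¬ W ≤ 𝓒(W)) (hZc : Nat.card ↥⁅W, W⁆ = p)
    (hZe : ⁅W, W⁆ = W ⊓ 𝓒(W)) (hZS : ⁅W, W⁆ ≤ 𝓒(S)) (hM : IsCoatom M) (hH : IsCoatom H)
    (hSM : S ≤ M) (hSH : S ≤ H) (hne : H ≠ M)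
    (hUM : ∀ L : Subgroup G, IsCoatom L → 𝓝(⁅W, W⁆) ≤ L → L = M) : False := by
  set Z := ⁅W, W⁆ with hZ
  have hSp : IsPGroup p S := (hall_isPi hS).isPGroup hp
  have hSn : ¬ S ≤ 𝓒(S) := fun h => hWn (hWS.trans (h.trans (cz_anti hWS)))
  have hZW : Z ≤ W := by rw [hZe]; exact inf_le_left
  have hZCW : Z ≤ 𝓒(W) := by rw [hZe]; exact inf_le_right
  have hSHall : ∀ L : Subgroup G, S ≤ L → IsPiHallOf {p} S L := fun L hL =>
    hall_le_of_le hS hL le_top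
  have hsig : ∀ L : Subgroup G, IsCoatom L → S ≤ L → p ∈ sigma L := by
    intro L hL hSL
    by_contra hps
    exact hSn (pgroup_ab hG hL hp hps hSL (hall_isPi hS))
  have hNS : ∀ L : Subgroup G, IsCoatom L → S ≤ L → 𝓝(S) ≤ L := fun L hL hSL =>
    sigma_nz (hsig L hL hSL) (hSHall L hSL)
  have hαne : ∀ L L' : Subgroup G, IsCoatom L → IsCoatom L' → S ≤ L → S ≤ L' → L' ≠ L →
      alphaCore L ≠ ⊥ := by
    intro L L' hL hL' hSL hSL' hne' h0
    have hn := nilpotent_sub (sigma_le_der hG hL) (der_nilp_of_alphaCore hG hL h0)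
    have h1 : S ≤ sigmaCore L := syl_le_sigmaCore hG hL (hsig L hL hSL) (hall_isPi hS) hSL
    have h2 : S = piCoreOf {p} (sigmaCore L) := hall_eq_of_le hS (isPi_piCoreOf _ _) le_top
      (nilpotent_le_piCoreOf hn h1 (hall_isPi hS))
    have h3 : L ≤ 𝓝(S) := by
      rw [h2]; exact (le_nz_sigmaCore hG L).trans (nz_le_nz_piCoreOf _ _)
    rcases hL.le_iff.1 (h3.trans (hNS L' hL' hSL')) with h4 | h4
    · exact max_ne_top hG hL' h4
    · exact hne' h4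
  have hpα : ∀ L : Subgroup G, S ≤ L → p ∉ alpha L := fun L hSL hα =>
    hα.2 ((rank_syl hp (hSHall L hSL)).2 hr)
  have hMα := hαne M H hM hH hSM hSH hne
  have hHα := hαne H M hH hM hSH hSM hne.symm
  -- every line outside `Z` has its normalizer in `H`
  have hline : ∀ w ∈ W, w ∉ Z → IsElementaryAbelian p (Z ⊔ zpowers w) ∧
      Nat.card ↥(Z ⊔ zpowers w) = p ^ 2 ∧ 𝓝(zpowers w) ≤ H := by
    intro w hw hwZ
    have hwp : w ^ p = 1 := (hW w (hWS hw)).2 hw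
    have hwc : ∀ z ∈ Z, z * w = w * z := fun z hz => (mem_cz.1 (hZCW hz) w hw).symm
    have hZel : IsElementaryAbelian p Z := by
      rw [elab_iff]
      exact ⟨hZCW.trans (cz_anti hZW), fun a ha => (hW a (hWS (hZW ha))).2 (hZW ha)⟩
    have hA := elab_sup_zpowers hZel hwp hwc
    have hAc : Nat.card ↥(Z ⊔ zpowers w) = p ^ 2 := by
      rw [card_sup_zpowers hp hwp hwZ (fun a ha => by
        rw [mem_centralizer_singleton_iff]; exact hwc a ha), hZc, pow_two]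
    have hAS : Z ⊔ zpowers w ≤ S := sup_le (hZW.trans hWS) (by rw [zpowers_le]; exact hWS hw)
    refine ⟨hA, hAc, ?_⟩
    have hAM := hAS.trans hSM
    have hAH := hAS.trans hSH
    have e2 := maxE2_of hG hH hp (alpha_rank hG hp (hpα H hSH)) hAH hA hAc
    obtain ⟨Z', Y, hs⟩ := e2_sylow hG hp hS hAS hSn e2
    have hZZ' : Z = Z' := card_p_eq hp hZc hs.cZ fun z hz =>
      hs.mem_Z hp hAS hSn e2 ⟨hWS (hZW hz), hZS hz⟩ ((hW z (hWS (hZW hz))).2 (hZW hz))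
    -- by 12.4 applied to `H`
    obtain ⟨X, hXA, hXc, hXU⟩ : ∃ X ≤ Z ⊔ zpowers w, Nat.card X = p ∧
        ∀ L : Subgroup G, IsCoatom L → 𝓝(X) ≤ L → L = H := by
      by_contra hcon
      push Not at hcon
      refine hHα (bg12_4b hG hH hp hAH hA hAc ?_).2.1
      intro A₀ hA0 hA0c
      obtain ⟨L, hL, hNL, hLne⟩ := hcon A₀ hA0 hA0c
      exact ⟨L, hL, hLne, hNL⟩
    have hXZ : X ≠ Z' := by
      rintro rfl
      rw [← hZZ'] at hXU
      obtain ⟨L, hL, hNL⟩ := exists_max hG (nz_line_ne_top hG hp hZc)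
      exact hne ((hXU L hL hNL).symm.trans (hUM L hL hNL))
    have hNX : 𝓝(X) ≤ H := by
      obtain ⟨L, hL, hNL⟩ := exists_max hG (nz_line_ne_top hG hp hXc)
      rw [← hXU L hL hNL]; exact hNL
    obtain ⟨⟨x, hx, hxC⟩, htr⟩ := hs.trans hp hSp hAS hSn e2
    have hw1 : w ≠ 1 := fun h => hwZ (h ▸ one_mem _)
    have hwcard : Nat.card (zpowers w) = p := zpowers_card_prime hp hwp hw1
    obtain ⟨i, hi⟩ := htr x hx hxC X hXA (zpowers w) le_sup_right hXc hwcard hXZ (by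
      intro h
      apply hwZ
      rw [hZZ', ← h]
      exact mem_zpowers w)
    rw [← hi, nz_cj, cj_le_iff, cj_eq_of_mem (inv_mem (pow_mem (hSH (mem_inf.1 hx).1) i))]
    exact hNX
  have hcen : ∀ w ∈ W, w ∉ Z → Z ⊔ zpowers w ≤ 𝓒(alphaCore M ⊓ H) := by
    intro w hw hwZ
    obtain ⟨hA, hAc, hN⟩ := hline w hw hwZ
    have hAS : Z ⊔ zpowers w ≤ S := sup_le (hZW.trans hWS) (by rw [zpowers_le]; exact hWS hw)
    have hw1 : w ≠ 1 := fun h => hwZ (h ▸ one_mem _)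
    exact bg12_3b hG hM hH hne hp (hpα M hSM) (hAS.trans hSM) hA hAc le_sup_right
      (zpowers_card_prime hp ((hW w (hWS hw)).2 hw) hw1) hN
  -- `Z` centralizes `M_α`
  obtain ⟨w₀, hw0, hw0Z⟩ : ∃ w ∈ W, w ∉ Z := by
    by_contra hcon
    push Not at hcon
    have h1 : W ≤ Z := hcon
    exact hWn (h1.trans hZCW)
  obtain ⟨hA, hAc, hN0⟩ := hline w₀ hw0 hw0Z
  have hAS : Z ⊔ zpowers w₀ ≤ S := sup_le (hZW.trans hWS) (by rw [zpowers_le]; exact hWS hw0)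
  have hAα : Z ⊔ zpowers w₀ ≤ 𝓝(alphaCore M) := (hAS.trans hSM).trans (le_nz_alphaCore hG M)
  have hαZ : alphaCore M ≤ 𝓒(Z) := by
    refine lines_gen hp hA hAc hAα ?_ ?_
    · refine ((hall_isPi (alpha_hall hG hM)).coprime ?_).symm
      exact (elab_isPi hp hA).mono (Set.singleton_subset_iff.2 (hpα M hSM))
    · intro B hB hBc
      by_cases hBZ : B = Z
      · rw [hBZ]; exact inf_le_right
      · -- `B` is generated by an element outside `Z`
        have hB0 : B ≠ ⊥ := by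
          rintro rfl
          rw [card_bot] at hBc
          exact hp.one_lt.ne hBc
        obtain ⟨b, hb, hb1⟩ := B.bot_or_exists_ne_one.resolve_left hB0
        have hbS := hAS (hB hb)
        have hbp : b ^ p = 1 := hA.2 b (hB hb)
        have hbW : b ∈ W := (hW b hbS).1 hbp
        have hzB : zpowers b = B := card_p_eq hp (zpowers_card_prime hp hbp hb1) hBc
          (by rwa [zpowers_le])
        have hbZ : b ∉ Z := by
          intro h
          apply hBZ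
          rw [← hzB]
          exact card_p_eq hp (by rw [hzB]; exact hBc) hZc (by rwa [zpowers_le])
        obtain ⟨-, -, hNb⟩ := hline b hbW hbZ
        have h1 := le_cz_comm.1 (hcen b hbW hbZ)
        refine le_trans ?_ (h1.trans (cz_anti le_sup_left))
        rw [← hzB]
        exact inf_le_inf_left _ ((cz_le_nz _).trans hNb)
  -- a `W`-invariant Sylow subgroup `Q` of `M_α`
  obtain ⟨q, hq, hqd⟩ := exists_prime_dvd_of_ne_bot hMα
  have hqα := hall_isPi (alpha_hall hG hM) q hq hqd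
  have hWα : W ≤ 𝓝(alphaCore M) := (hWS.trans hSM).trans (le_nz_alphaCore hG M)
  have hWpi : IsPi {p} W := (hall_isPi hS).le hWS
  have hcopα : (Nat.card W).Coprime (Nat.card (alphaCore M)) :=
    ((hall_isPi (alpha_hall hG hM)).coprime
      (hWpi.mono (Set.singleton_subset_iff.2 (hpα M hSM)))).symm
  have hαs : Group.IsSolvable (alphaCore M) :=
    solvable_sub (hall_le (alpha_hall hG hM)) (max_sol hG hM)
  obtain ⟨Q, hQ, hWQ⟩ := cop_hall_exists hWα hcopα hαs {q}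
  have hQM := hall_trans hQ (alpha_hall hG hM) (Set.singleton_subset_iff.2 hqα)
  have hQ3 : ¬ PRankLE q 2 Q := fun hr => hqα.2 ((rank_syl hq hQM).2 hr)
  have hQU := uniq_of_prank3 hG hq hQ3 (ms_p_ne_top hG hq ((hall_isPi hQ).isPGroup hq))
  have hWp : ∀ w ∈ W, w ^ p = 1 := fun w hw => (hW w (hWS hw)).2 hw
  have h1 := quot_gen hp (X := H) hZW (le_normalizer.trans (nz_comm_le W W |> fun h =>
    (le_inf le_rfl le_rfl).trans h)) hZc hWc le_rfl hWp hWQ ((hall_le hQ).trans hαZ)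
    (hcopα.coprime_dvd_right (card_dvd_of_le (hall_le hQ))) (by
      intro w hw hwZ
      exact inf_le_right.trans ((cz_le_nz _).trans (hline w hw hwZ).2.2))
  exact hne (uniq_eq hQU hM (hall_le hQM) hH (h1.trans (sup_le le_rfl
    ((hZW.trans hWS).trans hSH))))

theorem two_max {p : ℕ} (hp : p.Prime) {S M H : Subgroup G} (hS : IsPiHallOf {p} S ⊤)
    (hn : ¬ S ≤ 𝓒(S)) (hM : IsCoatom M) (hH : IsCoatom H) (hSM : S ≤ M) (hSH : S ≤ H) :
    H = M := by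
  by_contra hne
  have hSp : IsPGroup p S := (hall_isPi hS).isPGroup hp
  have hr : PRankLE p 2 S := by
    by_contra hr
    exact hne (uniq_eq (uniq_of_prank3 hG hp hr (ms_p_ne_top hG hp hSp)) hM hSM hH hSH)
  obtain ⟨W, hWS, hW, hWc, hWn, hZc, hZe, hZS⟩ := nonab_W hG hp hS hn hr
  set Z := ⁅W, W⁆ with hZ
  have hZW : Z ≤ W := by rw [hZe]; exact inf_le_left
  have hZCW : Z ≤ 𝓒(W) := by rw [hZe]; exact inf_le_right
  have hSHall : ∀ L : Subgroup G, S ≤ L → IsPiHallOf {p} S L := fun L hL =>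
    hall_le_of_le hS hL le_top
  have hsig : ∀ L : Subgroup G, IsCoatom L → S ≤ L → p ∈ sigma L := by
    intro L hL hSL
    by_contra hps
    exact hn (pgroup_ab hG hL hp hps hSL (hall_isPi hS))
  have hNS : ∀ L : Subgroup G, IsCoatom L → S ≤ L → 𝓝(S) ≤ L := fun L hL hSL =>
    sigma_nz (hsig L hL hSL) (hSHall L hSL)
  have hαne : ∀ L L' : Subgroup G, IsCoatom L → IsCoatom L' → S ≤ L → S ≤ L' → L' ≠ L →
      alphaCore L ≠ ⊥ := by
    intro L L' hL hL' hSL hSL' hne' h0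
    have hn := nilpotent_sub (sigma_le_der hG hL) (der_nilp_of_alphaCore hG hL h0)
    have h1 : S ≤ sigmaCore L := syl_le_sigmaCore hG hL (hsig L hL hSL) (hall_isPi hS) hSL
    have h2 : S = piCoreOf {p} (sigmaCore L) := hall_eq_of_le hS (isPi_piCoreOf _ _) le_top
      (nilpotent_le_piCoreOf hn h1 (hall_isPi hS))
    have h3 : L ≤ 𝓝(S) := by
      rw [h2]; exact (le_nz_sigmaCore hG L).trans (nz_le_nz_piCoreOf _ _)
    rcases hL.le_iff.1 (h3.trans (hNS L' hL' hSL')) with h4 | h4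
    · exact max_ne_top hG hL' h4
    · exact hne' h4
  have hpα : ∀ L : Subgroup G, S ≤ L → p ∉ alpha L := fun L hSL hα =>
    hα.2 ((rank_syl hp (hSHall L hSL)).2 hr)
  obtain ⟨w, hw, hwZ⟩ : ∃ w ∈ W, w ∉ Z := by
    by_contra hcon
    push Not at hcon
    have h1 : W ≤ Z := hcon
    exact hWn (h1.trans hZCW)
  have hwp : w ^ p = 1 := (hW w (hWS hw)).2 hw
  have hwc : ∀ z ∈ Z, z * w = w * z := fun z hz => (mem_cz.1 (hZCW hz) w hw).symm
  have hZel : IsElementaryAbelian p Z := by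
    rw [elab_iff]
    exact ⟨hZCW.trans (cz_anti hZW), fun a ha => (hW a (hWS (hZW ha))).2 (hZW ha)⟩
  have hA := elab_sup_zpowers hZel hwp hwc
  have hAc : Nat.card ↥(Z ⊔ zpowers w) = p ^ 2 := by
    rw [card_sup_zpowers hp hwp hwZ (fun a ha => by
      rw [mem_centralizer_singleton_iff]; exact hwc a ha), hZc, pow_two]
  have hAS : Z ⊔ zpowers w ≤ S := sup_le (hZW.trans hWS) (by rw [zpowers_le]; exact hWS hw)
  have e2 := maxE2_of hG hH hp (alpha_rank hG hp (hpα H hSH)) (hAS.trans hSH) hA hAc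
  obtain ⟨Z', Y, hs⟩ := e2_sylow hG hp hS hAS hn e2
  have hZZ' : Z = Z' := card_p_eq hp hZc hs.cZ fun z hz =>
    hs.mem_Z hp hAS hn e2 ⟨hWS (hZW hz), hZS hz⟩ ((hW z (hWS (hZW hz))).2 (hZW hz))
  have hex : ∀ L L' : Subgroup G, IsCoatom L → IsCoatom L' → S ≤ L → S ≤ L' → L' ≠ L →
      ∃ X ≤ Z ⊔ zpowers w, Nat.card X = p ∧ ∀ L' : Subgroup G, IsCoatom L' → 𝓝(X) ≤ L' →
        L' = L := by
    intro L L' hL hL' hSL hSL' hne'
    by_contra hcon
    push Not at hcon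
    refine hαne L L' hL hL' hSL hSL' hne' (bg12_4b hG hL hp (hAS.trans hSL) hA hAc ?_).2.1
    intro A₀ hA0 hA0c
    obtain ⟨L, hL, hNL, hLne⟩ := hcon A₀ hA0 hA0c
    exact ⟨L, hL, hLne, hNL⟩
  obtain ⟨X, hXA, hXc, hXU⟩ := hex M H hM hH hSM hSH hne
  obtain ⟨Y', hYA, hYc, hYU⟩ := hex H M hH hM hSH hSM (Ne.symm hne)
  by_cases hXZ : X = Z
  · subst hXZ
    exact two_max_core hG hp hS hr hWS hW hWc hWn hZc hZe hZS hM hH hSM hSH hne hXU
  by_cases hYZ : Y' = Z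
  · subst hYZ
    exact two_max_core hG hp hS hr hWS hW hWc hWn hZc hZe hZS hH hM hSH hSM (Ne.symm hne) hYU
  obtain ⟨⟨x, hx, hxC⟩, htr⟩ := hs.trans hp hSp hAS hn e2
  obtain ⟨i, hi⟩ := htr x hx hxC X hXA Y' hYA hXc hYc (hZZ' ▸ hXZ) (hZZ' ▸ hYZ)
  have hxi : x ^ i ∈ S := pow_mem (mem_inf.1 hx).1 i
  obtain ⟨L, hL, hNL⟩ := exists_max hG (nz_line_ne_top hG hp hXc)
  have h1 := hXU L hL hNL
  rw [h1] at hNL
  apply hne
  symm
  refine hYU M hM ?_
  rw [← hi, nz_cj, cj_le_iff, cj_eq_of_mem (inv_mem (hSM hxi))]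
  exact hNL

/-- nonabelian `p`-subgroups lie in a unique maximal subgroup -/
theorem nonab_uniq {p : ℕ} (hp : p.Prime) {P : Subgroup G} (hP : IsPGroup p P)
    (hn : ¬ P ≤ 𝓒(P)) : InUniqueMaximal P := by
  obtain ⟨M, hM, hPM⟩ := exists_max hG (ms_p_ne_top hG hp hP)
  refine uniq_intro hM hPM fun L hL hPL => ?_
  obtain ⟨R, hR, hPR⟩ := exists_syl_ge hp (isPi_of_isPGroup hp hP) (le_inf hPM hPL)
  have hRn : ¬ R ≤ 𝓒(R) := fun h => hn (hPR.trans (h.trans (cz_anti hPR)))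
  have hRp : IsPGroup p R := (hall_isPi hR).isPGroup hp
  have hRM : R ≤ M := (hall_le hR).trans inf_le_left
  have hRL : R ≤ L := (hall_le hR).trans inf_le_right
  have hnc : ¬ IsCyclic R := by
    intro h
    apply hRn
    rw [← comm_iff_le_cz]
    exact ⟨⟨fun a b => IsCyclic.commGroup.mul_comm a b⟩⟩
  have hN : ∀ X : Subgroup G, IsCoatom X → R ≤ X → 𝓝(R) ≤ X := by
    intro X hX hRX
    refine nz_noncyc hG hX ?_ hRp hRX hnc
    by_contra hps
    exact hRn (pgroup_ab hG hX hp hps hRX (hall_isPi hR))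
  obtain ⟨S, hS, hRS⟩ := exists_syl_ge hp (hall_isPi hR) (le_top : R ≤ ⊤)
  have hRe : R = S := by
    refine nilpotent_eq_of_nz_le (nilpotent_of_isPi hp (hall_isPi hS)) hRS ?_
    have h1 : S ⊓ 𝓝(R) ≤ M ⊓ L := inf_le_right.trans (le_inf (hN M hM hRM) (hN L hL hRL))
    have h2 : R ≤ S ⊓ 𝓝(R) := le_inf hRS le_normalizer
    exact (hall_eq_of_le hR ((hall_isPi hS).le inf_le_left) h1 h2).ge
  subst hRe
  exact two_max hG hp hS hRn hM hL hRM hRL

end

end CfsgLib.BGPi
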