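import Cfsg.Agent.EqBase
import Cfsg.Agent.LibBG12e

/-! B & G, 12.14. -/

open Subgroup
open scoped Pointwise commutatorElement

namespace CfsgLib.BGPi

open Cfsg

universe u

section
variable {G : Type u} [Group G] [Finite G]

/-- in a nonabelian group of rank two with the structure of 4.16, `[P,P]` has order `p` -/
theorem central_prod_der {W C Z : Subgroup G} (hWZ : ⁅W, W⁆ ≤ Z) (hC : C ≤ 𝓒(C)) (hWC : C ≤ 𝓒(W))
    (hZW : Z ≤ W) (hW : W ≤ 𝓝(Z)) : ⁅W ⊔ C, W ⊔ C⁆ ≤ Z := by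
  have hCZ : C ≤ 𝓝(Z) := (hWC.trans (cz_anti hZW)).trans (cz_le_nz _)
  have hWC' : W ≤ 𝓒(C) := le_cz_comm.1 hWC
  have hn : W ⊔ C ≤ 𝓝(Z) := sup_le hW hCZ
  rw [← qm_cz_iff hn hn, qm_sup hW hCZ]
  have h1 : qm Z W ≤ 𝓒(qm Z W) := (qm_cz_iff hW hW).2 hWZ
  have h2 : qm Z C ≤ 𝓒(qm Z C) := (qm_cz_iff hCZ hCZ).2 (by
    rw [comm_eq_bot_iff.2 hC]; exact bot_le)
  have h3 : qm Z W ≤ 𝓒(qm Z C) := (qm_cz_iff hW hCZ).2 (by
    rw [comm_eq_bot_iff.2 hWC']; exact bot_le)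
  refine sup_le ?_ ?_
  · rw [le_cz_comm]; exact sup_le h1 (le_cz_comm.1 h3)
  · rw [le_cz_comm]; exact sup_le h3 h2

variable (hG : IsMinSimpleOddOrder G)
include hG

theorem nonab_der {p : ℕ} (hp : p.Prime) {S : Subgroup G} (hS : IsPiHallOf {p} S ⊤)
    (hn : ¬ S ≤ 𝓒(S)) (hr : PRankLE p 2 S) : Nat.card ↥⁅S, S⁆ = p ∧ ⁅S, S⁆ ≤ 𝓒(S) := by
  have hSp : IsPGroup p S := (hall_isPi hS).isPGroup hp
  have hS1 : S ≠ ⊥ := by rintro rfl; exact hn bot_le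
  have hp2 : p ≠ 2 := ms_p_ne_two hG hp ((pgroup_dvd_card hp hSp hS1).trans
    (Subgroup.card_subgroup_dvd_card _))
  have hSt := ms_p_ne_top hG hp hSp
  have hNt := ms_nz_ne_top hG hS1 hSt
  have hNs := ms_sol hG hNt
  obtain ⟨V, hV⟩ := hall_exists (π := {p}ᶜ) hNs
  have hPN := hall_le_of_le hS le_normalizer le_top
  have hsup := hall_sup_compl hPN hV
  have hVN := hall_le hV
  have hcop : (Nat.card V).Coprime p := (isPi_compl_singleton' hp).1 (hall_isPi hV)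
  have hPV : ⁅S, V⁆ = S := by
    refine eq_comm_of_le_der hVN ?_ ?_ ?_
    · exact IsPi.inf_eq_bot (hall_isPi hS) (hall_isPi hV)
    · exact solvable_of_isPGroup hp hSp
    · rw [hsup]; exact bg10_7foc hG hp hS
  obtain ⟨h3, h⟩ := rank2_struct hp hp2 hSp hS1 hr hVN hcop (ms_odd hG V) hPV
  rcases h with h | ⟨W, hWS, hW, hWc, hWn, hWC, hcyc⟩
  · exact absurd (comm_iff_le_cz.1 h) hn
  obtain ⟨hZe, hZc⟩ := nonab_p3 hp (hSp.to_le hWS) hWc hWn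
  have h4 : ⁅W, W⁆ ≤ 𝓒(S) := by
    rw [le_cz_comm, ← hWC]
    refine sup_le ?_ ?_
    · rw [le_cz_comm, hZe]; exact inf_le_right
    · exact inf_le_right.trans (cz_anti (by rw [hZe]; exact inf_le_left))
  have h5 : ⁅S, S⁆ ≤ ⁅W, W⁆ := by
    have h6 : ⁅W ⊔ (S ⊓ 𝓒(W)), W ⊔ (S ⊓ 𝓒(W))⁆ ≤ ⁅W, W⁆ := by
      refine central_prod_der le_rfl ?_ inf_le_right (comm_self_le W) (left_le_nz_comm W W)
      haveI := hcyc
      exact comm_iff_le_cz.1 inferInstance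
    rwa [hWC] at h6
  have h6 : ⁅S, S⁆ = ⁅W, W⁆ := le_antisymm h5 (commutator_mono hWS hWS)
  rw [h6]
  exact ⟨hZc, h4⟩

theorem uniq_cz_of_rank3 {M P X : Subgroup G} (hM : IsCoatom M) {p : ℕ} (hp : p.Prime)
    (hPM : P ≤ M) (hP : IsPGroup p P) (hr : ¬ PRankLE p 2 ↥(P ⊓ 𝓒(X))) :
    (∀ L : Subgroup G, IsCoatom L → 𝓒(X) ≤ L → L = M) ∧ InUniqueMaximal P := by
  have h1 : InUniqueMaximal (P ⊓ 𝓒(X)) :=
    uniq_of_prank3 hG hp hr (ms_p_ne_top hG hp (hP.to_le inf_le_left))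
  refine ⟨fun L hL hCL => uniq_eq h1 hM (inf_le_left.trans hPM) hL (inf_le_right.trans hCL), ?_⟩
  exact uniq_of_prank3 hG hp (fun h => hr (rank_mono inf_le_left h)) (ms_p_ne_top hG hp hP)

/-- B & G 12.14 -/
theorem bg12_14 {M P X : Subgroup G} (hM : IsCoatom M) {p : ℕ} (hps : p ∈ sigma M)
    (hP : IsPiHallOf {p} P M) (hXP : X ≤ P) (hX : Nat.card X = p)
    (h : p ∈ beta M ∨ X ≤ ⁅sigmaCore M, sigmaCore M⁆) :
    (∀ L : Subgroup G, IsCoatom L → 𝓒(X) ≤ L → L = M) ∧ InUniqueMaximal P := by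
  have hp := sigma_prime hps
  haveI : Fact p.Prime := ⟨hp⟩
  have hPM := hall_le hP
  have hPp : IsPGroup p P := (hall_isPi hP).isPGroup hp
  have hPt := sigma_syl hps hP
  have hX1 : X ≠ ⊥ := by
    rintro rfl
    rw [card_bot] at hX
    exact hp.one_lt.ne hX
  have hpX : p ∣ Nat.card X := by rw [hX]
  have hp2 : p ≠ 2 := ms_p2' hG hp hpX
  have hXe : IsElementaryAbelian p X := by
    obtain ⟨ρ, hρ, hρp⟩ := exists_gen_prime hp hX
    rw [hρ]; exact elab_zpowers hρp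
  by_cases hr : PRankLE p 2 ↥(P ⊓ 𝓒(X))
  swap
  · exact uniq_cz_of_rank3 hG hM hp hPM hPp hr
  -- the narrow structure
  have key : ¬ PRankLE p 2 P → ∃ B, X ≤ B ∧ NarE p P B := by
    intro hr3
    obtain ⟨B, hXB, hBP, hB, hmax⟩ := exists_max_elab hXP hXe
    have hBc : Nat.card B ≤ p ^ 2 := by
      refine rank_iff.1 hr B (le_inf hBP ?_) hB
      exact (comm_iff_le_cz.1 hB.1).trans (cz_anti hXB)
    exact ⟨B, hXB, narE_of_max hp hp2 hPp hr3 hBP hB hmax hBc⟩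
  by_cases hβ : p ∈ beta M
  · exfalso
    have hr3 : ¬ PRankLE p 2 P := fun hr2 => hβ.1.2 ((rank_syl hp hP).2 hr2)
    obtain ⟨B, -, c⟩ := key hr3
    obtain ⟨S, hS⟩ := exists_sylow_of_hall_top hPt
    obtain ⟨B', hB', hB'e, hlt⟩ := hβ.2.2.2 S B (by rw [hS]; exact c.le) c.el c.card
    rw [hS] at hB'
    exact hlt.ne' (c.max B' hB' hB'e hlt.le)
  have hXd := h.resolve_left hβ
  have hpM : p ∣ Nat.card M := hpX.trans (card_dvd_of_le (hXP.trans hPM))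
  have hPS : P ≤ sigmaCore M := syl_le_sigmaCore hG hM hps (hall_isPi hP) hPM
  have hPH : IsPiHallOf {p} P (sigmaCore M) := hall_le_of_le hP hPS (sigmaCore_le hG hM)
  obtain ⟨k, hk⟩ := CfsgLib.Npc9.hnpc_iff_pPrimeCore.1 (not_beta_facts hG hM hp hpM hβ).2.1
  set N := piCoreOf {p}ᶜ (sigmaCore M) with hN
  have hNc : (Nat.card N).Coprime p := (isPi_compl_singleton' hp).1 (isPi_piCoreOf _ _)
  have hNS : N ≤ sigmaCore M := piCoreOf_le _ _
  have hSN : sigmaCore M ≤ 𝓝(N) := le_nz_piCoreOf _ _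
  have hNrel : N.relIndex (sigmaCore M) = p ^ k := by
    rw [hN, ← pPrimeCore_map hp, relIndex_map_subtype, hk]
  have hNP : N ⊔ P = sigmaCore M := by
    refine eq_of_card_le (sup_le hNS hPS) ?_
    rw [sup_comm, card_sup_of_disjoint (hPS.trans hSN)
      (cop_inf (((coprime_card_of_pgroup hp hPp hNc)).symm))]
    have h1 := card_mul_relIndex hNS
    rw [hNrel] at h1
    have h2 := card_mul_relIndex hPS
    have h3 : ¬ p ∣ P.relIndex (sigmaCore M) := (hall_iff.1 hPH).2.2 p hp rfl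
    have h4 : p ^ k ∣ Nat.card P := by
      have h5 : p ^ k ∣ Nat.card P * P.relIndex (sigmaCore M) := by
        rw [h2, ← h1]; exact dvd_mul_left _ _
      exact (Nat.Coprime.pow_left k ((Nat.Prime.coprime_iff_not_dvd hp).2 h3)).dvd_of_dvd_mul_right h5
    rw [← h1, mul_comm]
    exact Nat.mul_le_mul_right _ (Nat.le_of_dvd Nat.card_pos h4)
  have hXPP : X ≤ ⁅P, P⁆ := by
    have h1 := prod_der (hPS.trans hSN) hXP (K := N) (by rw [hX]; exact hNc.symm)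
    rw [hNP] at h1
    have h2 : X ≤ X ⊓ ⁅P, P⁆ := by rw [← h1]; exact le_inf le_rfl hXd
    exact h2.trans inf_le_right
  have hn : ¬ P ≤ 𝓒(P) := by
    intro h1
    rw [comm_eq_bot_iff.2 h1] at hXPP
    exact hX1 (le_bot_iff.1 hXPP)
  have hPU := nonab_uniq hG hp hPp hn
  refine ⟨?_, hPU⟩
  by_cases hr3 : PRankLE p 2 P
  · obtain ⟨h1, h2⟩ := nonab_der hG hp hPt hn hr3
    have h3 : P ≤ 𝓒(X) := le_cz_comm.1 (hXPP.trans h2)
    exact fun L hL hCL => uniq_eq hPU hM hPM hL (h3.trans hCL)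
  · exfalso
    obtain ⟨B, hXB, c⟩ := key hr3
    obtain ⟨hWe, hWc, hTi, hBT, Z, hZc, -, hZB, hZW, hZP, hWPZ⟩ :=
      narrow_rel hp hp2 hPp hr3 c.le c.el c.card c.max
    set W := oz2 hp hp2 P with hW
    have hWP : W ≤ P := oz2_le hp hp2 P
    have hPW : P ≤ 𝓝(W) := le_normalizer.trans (nz_oz2 hp hp2 P)
    set T := P ⊓ 𝓒(W) with hT
    have hPT : P ≤ 𝓝(T) := le_nz_inf le_normalizer (le_nz_cz hPW)
    have hPPT : ⁅P, P⁆ ≤ T := by
      rw [← qm_cz_iff hPT hPT]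
      have h1 : Nat.card (qm T P) = p := by rw [qm_card hPT]; exact hTi
      haveI := isCyclic_of_prime_card h1
      exact comm_iff_le_cz.1 inferInstance
    have hXT : X ≤ T := hXPP.trans hPPT
    have hXW : X ≤ 𝓒(W) := hXT.trans inf_le_right
    have hWX : W ≤ 𝓒(X) := le_cz_comm.1 hXW
    have hXleW : X ≤ W := by
      by_contra hne
      have h1 : X ⊓ W = ⊥ := card_p_inf hp hX hne
      have h2 : IsElementaryAbelian p (X ⊔ W) := elab_sup hXe hWe hXW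
      have h3 : Nat.card ↥(X ⊔ W) = p * p ^ 2 := by
        rw [card_sup_of_disjoint (le_nz_of_le_cz hXW) h1, hX, hWc]
      have h4 := rank_iff.1 hr (X ⊔ W) (le_inf (sup_le hXP hWP)
        (sup_le (comm_iff_le_cz.1 hXe.1) hWX)) h2
      rw [h3] at h4
      have h5 : 0 < p ^ 2 := pow_pos hp.pos 2
      nlinarith [hp.two_le]
    obtain ⟨D, hDP, hD, hDc⟩ := (not_rank_iff hp).1 hr3
    obtain ⟨D₁, hD1, hD1e, hD1c⟩ := inf_cz_ge hG hp hPp hWP hPW hWe hWc hDP hD hDc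
    have hTX : T ≤ P ⊓ 𝓒(X) := le_inf inf_le_left (inf_le_right.trans (cz_anti hXleW))
    by_cases hDW : D₁ ≤ W
    · have h1 : D₁ = W := eq_of_card_le hDW (by rw [hWc, hD1c])
      have h2 : D ≤ T := le_inf hDP ((comm_iff_le_cz.1 hD.1).trans (cz_anti (by
        rw [← h1]; exact hD1.trans inf_le_left)))
      have h3 := rank_iff.1 hr D (h2.trans hTX) hD
      rw [hDc] at h3
      have h5 : 0 < p ^ 2 := pow_pos hp.pos 2
      have h6 : p ^ (2 + 1) = p ^ 2 * p := pow_succ _ _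
      rw [h6] at h3
      nlinarith [hp.two_le]
    · have h2 : IsElementaryAbelian p (D₁ ⊔ W) := elab_sup hD1e hWe (hD1.trans inf_le_right)
      have hWT : W ≤ T := le_inf hWP (comm_iff_le_cz.1 hWe.1)
      have h3 : D₁ ⊔ W ≤ T := sup_le (le_inf (hD1.trans (inf_le_left.trans hDP))
        (hD1.trans inf_le_right)) hWT
      have h4 := rank_iff.1 hr (D₁ ⊔ W) (h3.trans hTX) h2
      have h5 : W = D₁ ⊔ W := eq_of_card_le le_sup_right (by rw [hWc]; exact h4)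
      exact hDW (by rw [h5]; exact le_sup_left)

omit [Finite G] hG in
theorem syl_uniq_conj [Finite G] {p : ℕ} (hp : p.Prime) {M P Q : Subgroup G} (hP : IsPiHallOf {p} P M)
    (hQ : IsPiHallOf {p} Q M) (h : InUniqueMaximal P) : InUniqueMaximal Q := by
  obtain ⟨m, -, hm⟩ := syl_conj hp hP hQ
  rw [← hm]
  exact uniq_cj h m

theorem bg12_14' {M X : Subgroup G} (hM : IsCoatom M) {p : ℕ} (hps : p ∈ sigma M) (hXM : X ≤ M)
    (hX : Nat.card X = p) (h : p ∈ beta M ∨ X ≤ ⁅sigmaCore M, sigmaCore M⁆) :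
    𝓒(X) ≤ M ∧ (∀ L : Subgroup G, IsCoatom L → 𝓒(X) ≤ L → L = M) ∧
      ∀ P, IsPiHallOf {p} P M → InUniqueMaximal P := by
  have hp := sigma_prime hps
  have hXp : IsPi {p} X := by
    obtain ⟨ρ, hρ, hρp⟩ := exists_gen_prime hp hX
    rw [hρ]; exact elab_isPi hp (elab_zpowers hρp)
  obtain ⟨P, hP, hXP⟩ := exists_syl_ge hp hXp hXM
  obtain ⟨h1, h2⟩ := bg12_14 hG hM hps hP hXP hX h
  obtain ⟨L, hL, hCL⟩ := exists_max hG (X := 𝓒(X)) (fun ht => nz_line_ne_top hG hp hX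
    (top_le_iff.1 (by rw [← ht]; exact cz_le_nz X)))
  have h3 := h1 L hL hCL
  exact ⟨h3 ▸ hCL, h1, fun Q hQ => syl_uniq_conj hp hP hQ h2⟩

/-- B & G 12.15 (a) -/
theorem bg12_15a {M H X : Subgroup G} (hM : IsCoatom M) {q : ℕ} (hq : q ∈ sigma M)
    (hX : IsPGroup q X) (hX1 : X ≠ ⊥) (hXM : X ≤ M) (hne : H ≠ M)
    (hN : 𝓝(X) ≤ H) : ∀ g : G, H ≠ M ^ᵍ g := by
  rintro g rfl
  have hXH : X ≤ M ^ᵍ g := le_normalizer.trans hN
  obtain ⟨m, hm, c, hc, hgc⟩ := bg10_1 hG hM hq hX hX1 hXM (g := g⁻¹) (le_cj_iff.1 hXH)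
  have h1 : c ∈ M ^ᵍ g := hN (cz_le_nz X hc)
  have h2 : g = c⁻¹ * m⁻¹ := by rw [← mul_inv_rev, ← hgc, inv_inv]
  have h3 : M ^ᵍ g = M ^ᵍ c⁻¹ := by
    rw [h2, cj_mul, cj_eq_of_mem (inv_mem hm)]
  have h4 : (M ^ᵍ g) ^ᵍ c = M ^ᵍ g := cj_eq_of_mem h1
  apply hne
  rw [← h4, h3, cj_cj_inv]

theorem bg12_15b {M H X S : Subgroup G} (hM : IsCoatom M) {q : ℕ} (hq : q ∈ sigma M)
    (hN : 𝓝(X) ≤ H)
    (hS : IsPiHallOf {q} S (M ⊓ H)) (hXS : X ≤ S) :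
    𝓝(S) ≤ M ∧ IsPiHallOf {q} S H := by
  have hqp := sigma_prime hq
  have hSp : IsPGroup q S := (hall_isPi hS).isPGroup hqp
  have hSM : S ≤ M := (hall_le hS).trans inf_le_left
  have hSH : S ≤ H := (hall_le hS).trans inf_le_right
  have h1 : 𝓝(S) ≤ M := by
    by_cases hc : IsCyclic S
    · have h2 := (nz_of_cyclic hc hXS).trans hN
      have h3 := syl_of_nz_le hqp hS hSM (le_inf inf_le_left (inf_le_right.trans h2))
      exact sigma_nz hq h3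
    · exact nz_noncyc hG hM hq hSp hSM hc
  exact ⟨h1, syl_of_nz_le hqp hS hSH (le_inf (inf_le_right.trans h1) inf_le_left)⟩

end

end CfsgLib.BGPi
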