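import Cfsg.Agent.EqBase
import Cfsg.Agent.LibBG12f

/-! B & G, 12.15 - 12.17. -/

open Subgroup
open scoped Pointwise commutatorElement

namespace CfsgLib.BGPi

open Cfsg

universe u

section
variable {G : Type u} [Group G] [Finite G]

theorem hall_of_sup {π : Set ℕ} {N D H T : Subgroup G} (hN : D ≤ 𝓝(N))
    (hH : N ⊔ D = H) (hNπ : IsPi πᶜ N) (hT : IsPiHallOf π T D) : IsPiHallOf π T H := by
  have hDH : D ≤ H := by rw [← hH]; exact le_sup_right
  have hTH := (hall_le hT).trans hDH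
  refine hall_iff.2 ⟨hTH, hall_isPi hT, fun p hp hpπ hd => ?_⟩
  have h1 := card_sup_mul_card_inf hN
  rw [sup_comm, hH] at h1
  have h2 := card_mul_relIndex hTH
  have h3 := card_mul_relIndex (hall_le hT)
  have h4 : Nat.card T * (T.relIndex H * Nat.card ↥(D ⊓ N)) = Nat.card T * (T.relIndex D * Nat.card N) := by
    rw [← mul_assoc, h2, h1, ← mul_assoc, h3]
  have h5 := Nat.eq_of_mul_eq_mul_left Nat.card_pos h4
  have h6 : p ∣ T.relIndex D * Nat.card N := by rw [← h5]; exact Dvd.dvd.mul_right hd _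
  rcases (Nat.Prime.dvd_mul hp).1 h6 with h7 | h7
  · exact (hall_iff.1 hT).2.2 p hp hpπ h7
  · exact hNπ p hp h7 hpπ

theorem subj_of_sup {π : Set ℕ} {N D H Y : Subgroup G} (hs : Group.IsSolvable H) (hN : D ≤ 𝓝(N))
    (hH : N ⊔ D = H) (hNπ : IsPi πᶜ N) (hY : IsPi π Y) (hYH : Y ≤ H) : ∃ h ∈ H, Y ^ᵍ h ≤ D := by
  have hDH : D ≤ H := by rw [← hH]; exact le_sup_right
  obtain ⟨T, hT⟩ := hall_exists (π := π) (solvable_sub hDH hs)
  obtain ⟨h, hh, hYh⟩ := hall_subj hs (hall_of_sup hN hH hNπ hT) hY hYH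
  exact ⟨h, hh, hYh.trans (hall_le hT)⟩

variable (hG : IsMinSimpleOddOrder G)
include hG

/-- the Frattini argument for `M_β` -/
theorem beta_frat {M L : Subgroup G} (hM : IsCoatom M)
    (hL : IsPiHallOf (beta M)ᶜ L ⁅M, M⁆) :
    Group.IsNilpotent L ∧ piCoreOf (beta M) M ⊔ (M ⊓ 𝓝(L)) = M := by
  have hLn : Group.IsNilpotent L := by
    refine not_beta_nilp hG hM (le_refl ⁅M, M⁆) (H := L) ?_
    rw [hall_iff] at hL ⊢
    refine ⟨hL.1, isPi_compl_iff'.1 hL.2.1, fun p hp h => hL.2.2 p hp h.2⟩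
  have hBM := beta_hall hG hM
  have hDM : ⁅M, M⁆ ≤ M := comm_self_le M
  have hBD : piCoreOf (beta M) M ≤ ⁅M, M⁆ := by
    refine le_trans ?_ (sigma_le_der hG hM)
    refine le_hall_of_normal (sigma_hall hG hM) (le_nz_sigmaCore hG M) ?_ (piCoreOf_le _ _)
    exact (isPi_piCoreOf _ _).mono ((beta_sub_alpha hG).trans (alpha_sub_sigma hG hM))
  have h1 : piCoreOf (beta M) M ⊔ L = ⁅M, M⁆ := hall_sup_compl (hall_le_of_le hBM hBD hDM) hL
  have h2 := frattini_hall (solvable_sub hDM (max_sol hG hM)) hDM (nz_comm_le M M |>.trans' (by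
    exact le_inf le_normalizer le_normalizer)) hL
  refine ⟨hLn, le_antisymm (sup_le (piCoreOf_le _ _) inf_le_left) ?_⟩
  conv_lhs => rw [← h2, ← h1]
  refine sup_le (sup_le le_sup_left ?_) le_sup_right
  exact le_sup_of_le_right (le_inf ((hall_le hL).trans hDM) le_normalizer)

theorem beta_nz_syl {M S : Subgroup G} (hM : IsCoatom M) {q : ℕ} (hq : q ∈ sigma M)
    (hS : IsPiHallOf {q} S M) : piCoreOf (beta M) M ⊔ (M ⊓ 𝓝(S)) = M := by
  have hqp := sigma_prime hq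
  by_cases hqβ : q ∈ beta M
  · have h1 : S ≤ piCoreOf (beta M) M :=
      le_hall_of_normal (beta_hall hG hM) (le_nz_piCoreOf _ _)
        ((hall_isPi hS).mono (Set.singleton_subset_iff.2 hqβ)) (hall_le hS)
    exact frattini_hall (solvable_sub (piCoreOf_le _ _) (max_sol hG hM)) (piCoreOf_le _ _)
      (le_nz_piCoreOf _ _) (hall_le_of_le hS h1 (piCoreOf_le _ _))
  · have hSD := sigma_focal hG hM hq hS
    have hDM : ⁅M, M⁆ ≤ M := comm_self_le M
    obtain ⟨L, hL, hSL⟩ := hall_exists_ge (π := (beta M)ᶜ) (solvable_sub hDM (max_sol hG hM))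
      ((hall_isPi hS).mono (Set.singleton_subset_iff.2 hqβ)) hSD
    obtain ⟨hLn, h1⟩ := beta_frat hG hM hL
    have h2 : IsPiHallOf {q} S L := hall_le_of_le hS hSL ((hall_le hL).trans hDM)
    have h3 : piCoreOf {q} L = S := (hall_eq_of_le h2
      (isPi_piCoreOf _ _) (piCoreOf_le _ _) (nilpotent_le_piCoreOf hLn hSL (hall_isPi hS))).symm
    have h4 : 𝓝(L) ≤ 𝓝(S) := by rw [← h3]; exact nz_le_nz_piCoreOf _ _
    refine le_antisymm (sup_le (piCoreOf_le _ _) inf_le_left) ?_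
    conv_lhs => rw [← h1]
    exact sup_le_sup le_rfl (inf_le_inf le_rfl h4)

/-- B & G 12.15 (d1) -/
theorem bg12_15d {M H X S : Subgroup G} (hM : IsCoatom M) (hH : IsCoatom H) {q : ℕ}
    (hq : q ∈ sigma M) (hqH : q ∈ sigma H) (hN : 𝓝(X) ≤ H)
    (hS : IsPiHallOf {q} S (M ⊓ H)) (hXS : X ≤ S) :
    piCoreOf (beta H) H ⊔ (M ⊓ H) = H := by
  obtain ⟨h1, h2⟩ := bg12_15b hG hM hq hN hS hXS
  have h3 := beta_nz_syl hG hH hqH h2
  refine le_antisymm (sup_le (piCoreOf_le _ _) inf_le_right) ?_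
  conv_lhs => rw [← h3]
  exact sup_le_sup le_rfl (le_inf (inf_le_right.trans h1) inf_le_left)

/-- B & G 12.15 (e) -/
theorem bg12_15e {M H X S : Subgroup G} (hM : IsCoatom M) (hH : IsCoatom H) {q : ℕ}
    (hq : q ∈ sigma M) (hne : H ≠ M) (hqH : q ∉ sigma H) (hX1 : X ≠ ⊥) (hN : 𝓝(X) ≤ H)
    (hS : IsPiHallOf {q} S (M ⊓ H)) (hXS : X ≤ S) :
    ∃ A ≤ S, ∃ A₀, Exc q H A₀ A ∧ 𝓝(A) ≤ M ∧ IsPiHallOf (sigma H)ᶜ (M ⊓ H) H ∧
      M ⊓ sigmaCore H = ⊥ ∧ H ⊓ 𝓝(A) = M ⊓ H ∧ sigmaCore H ⊔ (M ⊓ H) = H := by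
  have hqp := sigma_prime hq
  obtain ⟨h1, h2⟩ := bg12_15b hG hM hq hN hS hXS
  have hSp : IsPGroup q S := (hall_isPi hS).isPGroup hqp
  have hSM : S ≤ M := (hall_le hS).trans inf_le_left
  have hSH : S ≤ H := (hall_le hS).trans inf_le_right
  have hqS : q ∣ Nat.card S := (pgroup_dvd_card hqp (hSp.to_le hXS) hX1).trans (card_dvd_of_le hXS)
  have hq2 := ms_p2' hG hqp hqS
  have hnc : ¬ IsCyclic S := by
    intro hc
    exact hqH (mem_sigma_iff.2 ⟨hqp, hqS.trans (card_dvd_of_le hSH), S, h2,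
      (nz_of_cyclic hc hXS).trans hN⟩)
  obtain ⟨A, hAS, hA, hAc⟩ := exists_elab2 hqp hq2 hSp hnc
  have hAM := hAS.trans hSM
  have hAH := hAS.trans hSH
  obtain ⟨A₀, c⟩ := exists_exc hG hH hqp hqH hAH hA hAc
  obtain ⟨E, hE, hAE⟩ := hall_exists_ge (max_sol hG hH) c.isPi hAH
  have h3 := c.infN hG hE hAE
  have h4 : 𝓝(A) ≤ M := nz_noncyc hG hM hq (elab_isPGroup hA) hAM ((c.e2 hG).nc hqp)
  have h5 : M ⊓ sigmaCore H = ⊥ := by
    by_contra h
    exact hne (c.uniq hG hM hAM h).symm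
  have hEM : E ≤ M := by rw [← h3]; exact inf_le_right.trans h4
  have h6 := compl_sup hG hH hE
  have h7 : M ⊓ H = E := by
    conv_lhs => rw [← h6]
    rw [inf_comm, sup_comm, dedekind' ((hall_le hE).trans (le_nz_sigmaCore hG H)) hEM, inf_comm, h5,
      sup_bot_eq]
  refine ⟨A, hAS, A₀, c, h4, by rw [h7]; exact hE, h5, by rw [h3, h7], by rw [h7]; exact h6⟩

theorem nilp_pcore_hall {p : ℕ} {L S : Subgroup G} (hL : Group.IsNilpotent L)
    (hS : IsPiHallOf {p} S L) : piCoreOf {p} L = S :=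
  (hall_eq_of_le hS (isPi_piCoreOf _ _) (piCoreOf_le _ _)
    (nilpotent_le_piCoreOf hL (hall_le hS) (hall_isPi hS))).symm

/-- B & G 12.15 (e2) -/
theorem bg12_15e2 {M H X S : Subgroup G} (hM : IsCoatom M) (hH : IsCoatom H) {q : ℕ}
    (hq : q ∈ sigma M) (hXp : IsPGroup q X) (hXM : X ≤ M) (hne : H ≠ M) (hqH : q ∉ sigma H)
    (hX1 : X ≠ ⊥) (hN : 𝓝(X) ≤ H)
    (hS : IsPiHallOf {q} S (M ⊓ H)) (hXS : X ≤ S) {p : ℕ} (hpM : p ∣ Nat.card M)
    (hpH : p ∈ sigma H) : p ∈ beta H := by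
  have hqp := sigma_prime hq
  have hp := sigma_prime hpH
  haveI : Fact p.Prime := ⟨hp⟩
  haveI : Fact q.Prime := ⟨hqp⟩
  by_contra hpβ
  obtain ⟨A, hAS, A₀, c, hNA, hD, h5, -, -⟩ := bg12_15e hG hM hH hq hne hqH hX1 hN hS hXS
  have hAM : A ≤ M := hAS.trans ((hall_le hS).trans inf_le_left)
  have hAH : A ≤ H := hAS.trans ((hall_le hS).trans inf_le_right)
  have hHn := c.nilp hG
  have hnc := bg12_15a hG hM hq hXp hX1 hXM hne hN
  have hAq : IsPi {q} A := elab_isPi hqp c.el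
  have hqp' : q ≠ p := by rintro rfl; exact hqH hpH
  -- `q ≤ p`
  have hpH' : p ∣ Nat.card H := hpH.2.1
  have hqd : q ∣ (pPrimeCore p ↥H).index := by
    by_contra hnd
    have hA1 : A ≤ piCoreOf {p}ᶜ H := by
      have h1 : IsPiHallOf {q} (A.subgroupOf H) ⊤ ∨ True := Or.inr trivial
      rw [← pPrimeCore_map hp]
      intro a ha
      refine ⟨⟨a, hAH ha⟩, ?_, rfl⟩
      have h2 : (⟨a, hAH ha⟩ : H) ^ (pPrimeCore p ↥H).index ∈ pPrimeCore p ↥H :=
        Subgroup.pow_index_mem _ _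
      have h3 : (⟨a, hAH ha⟩ : H) ^ q ∈ pPrimeCore p ↥H := by
        have : (⟨a, hAH ha⟩ : H) ^ q = 1 := Subtype.ext ((elab_iff.1 c.el).2 a ha)
        rw [this]; exact one_mem _
      exact mem_of_pow_mem_coprime (((Nat.Prime.coprime_iff_not_dvd hqp).2 hnd)) h3 h2
    have h2 : A ≤ 𝓒(piCoreOf {p} (sigmaCore H)) := by
      have h3 : piCoreOf {p} (sigmaCore H) = sigmaCore H ⊓ piCoreOf {p} H :=
        piCoreOf_of_normal (sigmaCore_le hG hH) (le_nz_sigmaCore hG H)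
      have h4 : piCoreOf {p}ᶜ H ≤ 𝓒(piCoreOf {p} H) := by
        rw [← comm_eq_bot_iff, eq_bot_iff]
        have h6 : piCoreOf {p} H ⊓ piCoreOf {p}ᶜ H = ⊥ :=
          IsPi.inf_eq_bot (isPi_piCoreOf _ _) (isPi_piCoreOf _ _)
        rw [← h6]
        refine le_inf ?_ ?_
        · exact comm_le_right ((piCoreOf_le _ _).trans (le_nz_piCoreOf _ _))
        · exact comm_le_left ((piCoreOf_le _ _).trans (le_nz_piCoreOf _ _))
      exact (hA1.trans h4).trans (cz_anti (by rw [h3]; exact inf_le_right))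
    have h3 := c.hall hG hpH
    have h4 : piCoreOf {p} (sigmaCore H) ≤ sigmaCore H ⊓ 𝓒(A) :=
      le_inf (piCoreOf_le _ _) (le_cz_comm.1 h2)
    rw [c.inf_cz hG, le_bot_iff] at h4
    exact hall_ne_bot hp h3 hpH' h4
  have hle : q ≤ p := (not_beta_facts hG hH hp hpH' hpβ).2.2 q hqp hqd
  -- now in `M`
  have e2 := c.e2 hG
  have hqβ : q ∉ beta M := by
    intro h
    obtain ⟨P, hP, hAP⟩ := exists_syl_ge hqp hAq (le_top (a := A))
    obtain ⟨P', hP'⟩ := exists_sylow_of_hall_top hP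
    obtain ⟨B, hB, hBe, hlt⟩ := h.2.2.2 P' A (by rw [hP']; exact hAP) c.el c.card
    exact hlt.ne' (e2.max B hBe hlt.le)
  have hpσ : p ∉ sigma M := fun h => sigma_disj hG hH hM (fun g hg => by
    refine hnc g⁻¹ ?_
    rw [hg, cj_inv_cj]) hHn hpH h
  have hqM : q ∣ Nat.card M := (pgroup_dvd_card hqp hXp hX1).trans (card_dvd_of_le hXM)
  have hpd : ¬ p ∣ (pPrimeCore q ↥M).index := by
    intro h
    have := (not_beta_facts hG hM hqp hqM hqβ).2.2 p hp h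
    exact hqp' (le_antisymm hle this)
  obtain ⟨S₀, hS₀, hAS₀⟩ := exists_syl_ge hqp hAq hAM
  have h6 := beta_nz_syl hG hM hq hS₀
  obtain ⟨P, hP⟩ := exists_syl hp (M ⊓ 𝓝(S₀))
  have hβp : IsPi {p}ᶜ (piCoreOf (beta M) M) := by
    rw [isPi_compl_singleton hp]
    intro hd
    exact hpσ (alpha_sub_sigma hG hM (beta_sub_alpha hG (isPi_piCoreOf _ _ p hp hd)))
  have hPM : IsPiHallOf {p} P M := hall_of_sup (inf_le_left.trans (le_nz_piCoreOf _ _)) h6 hβp hP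
  have hPn : P ≤ 𝓝(S₀) := (hall_le hP).trans inf_le_right
  have hPK : P ≤ piCoreOf {q}ᶜ M := by
    rw [← pPrimeCore_map hqp]
    intro a ha
    refine ⟨⟨a, hall_le hPM ha⟩, ?_, rfl⟩
    have h2 : (⟨a, hall_le hPM ha⟩ : M) ^ (pPrimeCore q ↥M).index ∈ pPrimeCore q ↥M :=
      Subgroup.pow_index_mem _ _
    have hPp : IsPGroup p P := (hall_isPi hP).isPGroup hp
    obtain ⟨k, hk⟩ := hPp.exists_card_eq
    have h3 : (⟨a, hall_le hPM ha⟩ : M) ^ (p ^ k) ∈ pPrimeCore q ↥M := by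
      have : (⟨a, hall_le hPM ha⟩ : M) ^ (p ^ k) = 1 := by
        have h4 : (⟨a, ha⟩ : P) ^ (p ^ k) = 1 := by rw [← hk]; exact pow_card_eq_one'
        have h5 : a ^ (p ^ k) = 1 := by
          have h6 := congrArg (Subtype.val : P → G) h4
          simpa using h6
        exact Subtype.ext (by simpa using h5)
      rw [this]; exact one_mem _
    exact mem_of_pow_mem_coprime (Nat.Coprime.pow_left k ((Nat.Prime.coprime_iff_not_dvd hp).2 hpd)) h3 h2
  have hPC : P ≤ 𝓒(S₀) := by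
    rw [← comm_eq_bot_iff, eq_bot_iff]
    have h7 : S₀ ⊓ piCoreOf {q}ᶜ M = ⊥ := IsPi.inf_eq_bot (hall_isPi hS₀) (isPi_piCoreOf _ _)
    rw [← h7]
    refine le_inf (comm_le_right hPn) ?_
    exact (commutator_mono hPK le_rfl).trans
      (comm_le_left ((hall_le hS₀).trans (le_nz_piCoreOf _ _)))
  have hPH : P ≤ H := hPC.trans ((cz_anti hAS₀).trans c.cz)
  have h8 : P ≤ M ⊓ H := le_inf (hall_le hPM) hPH
  have h9 := hall_dvd hp hPM hpM
  exact (hall_isPi hD) p hp (h9.trans (card_dvd_of_le h8)) hpH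

end

end CfsgLib.BGPi
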