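import Cfsg.Agent.EqBase
import Cfsg.Agent.LibBG12g

/-! B & G, 12.15 (d), 12.16, 12.17. -/

open Subgroup
open scoped Pointwise commutatorElement

namespace CfsgLib.BGPi

open Cfsg

universe u

section
variable {G : Type u} [Group G] [Finite G]
variable (hG : IsMinSimpleOddOrder G)
include hG

theorem alphaCore_ne_bot {M H : Subgroup G} (hM : IsCoatom M) (hH : IsCoatom H)
    (hnc : ∀ g : G, H ≠ M ^ᵍ g) {q : ℕ} (hq : q ∈ sigma M) (hqH : q ∈ sigma H) :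
    alphaCore M ≠ ⊥ := by
  intro h
  have h1 := der_nilp_of_alphaCore hG hM h
  exact sigma_disj hG hM hH hnc (nilpotent_sub (sigma_le_der hG hM) h1) hq hqH

/-- B & G 12.15 (d2) -/
theorem bg12_15d2 {M H X S : Subgroup G} (hM : IsCoatom M) (hH : IsCoatom H) {q : ℕ}
    (hq : q ∈ sigma M) (hXp : IsPGroup q X) (hX1 : X ≠ ⊥) (hXM : X ≤ M) (hne : H ≠ M)
    (hqH : q ∈ sigma H) (hN : 𝓝(X) ≤ H)
    (hS : IsPiHallOf {q} S (M ⊓ H)) (hXS : X ≤ S) {p : ℕ} (hp : p ∈ tau1 H)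
    (hpα : p ∉ alpha M) : p ∈ tau1 M := by
  obtain ⟨hpp, hpσ, hpH, hpH', hpr⟩ := hp
  have hqp := sigma_prime hq
  obtain ⟨h1, h2⟩ := bg12_15b hG hM hq hN hS hXS
  have hnc := bg12_15a hG hM hq hXp hX1 hXM hne hN
  have hSM : S ≤ M := (hall_le hS).trans inf_le_left
  have hSt : IsPiHallOf {q} S ⊤ := sigma_syl hqH h2
  have hSM' : IsPiHallOf {q} S M := hall_le_of_le hSt hSM le_top
  have hNH : 𝓝(S) ≤ H := sigma_nz hqH h2
  have hqβ : q ∉ beta M := fun h => alpha_disj hG hM hH hnc (beta_sub_alpha hG h) hqH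
  have hpβ : p ∉ beta M := fun h => hpα (beta_sub_alpha hG h)
  have hDM : ⁅M, M⁆ ≤ M := comm_self_le M
  have hSD := sigma_focal hG hM hq hSM'
  obtain ⟨L, hL, hSL⟩ := hall_exists_ge (π := (beta M)ᶜ) (solvable_sub hDM (max_sol hG hM))
    ((hall_isPi hSM').mono (Set.singleton_subset_iff.2 hqβ)) hSD
  obtain ⟨hLn, h3⟩ := beta_frat hG hM hL
  have h4 : piCoreOf {q} L = S :=
    nilp_pcore_hall hG hLn (hall_le_of_le hSM' hSL ((hall_le hL).trans hDM))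
  have h5 : 𝓝(L) ≤ H := by
    refine le_trans ?_ hNH
    rw [← h4]; exact nz_le_nz_piCoreOf _ _
  have hMβ : IsPi {p}ᶜ (piCoreOf (beta M) M) := by
    rw [isPi_compl_singleton hpp]
    intro hd
    exact hpβ (isPi_piCoreOf _ _ p hpp hd)
  have hn : M ⊓ 𝓝(L) ≤ 𝓝(piCoreOf (beta M) M) := inf_le_left.trans (le_nz_piCoreOf _ _)
  -- p ∤ |M'|
  have hpD : ¬ p ∣ Nat.card ↥⁅M, M⁆ := by
    intro hd
    obtain ⟨P₂, hP₂⟩ := exists_syl hpp L
    have hP₂n := hall_ne_bot hpp (hall_of_sup (π := {p}) (H := ⁅M, M⁆) (N := piCoreOf (beta M) M)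
      (D := L) (((hall_le hL).trans hDM).trans (le_nz_piCoreOf _ _)) (by
        refine hall_sup_compl (hall_le_of_le (beta_hall hG hM) ?_ hDM) hL
        refine le_trans ?_ (sigma_le_der hG hM)
        refine le_hall_of_normal (sigma_hall hG hM) (le_nz_sigmaCore hG M) ?_ (piCoreOf_le _ _)
        exact (isPi_piCoreOf _ _).mono ((beta_sub_alpha hG).trans (alpha_sub_sigma hG hM)))
      hMβ hP₂) hd
    have hcop : (Nat.card P₂).Coprime (Nat.card (piCoreOf (beta M) M)) :=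
      (hall_isPi hP₂).coprime hMβ
    have h6 := prod_der hn (H := P₂) (le_inf ((hall_le hP₂).trans ((hall_le hL).trans hDM))
      ((hall_le hP₂).trans le_normalizer)) hcop
    rw [h3] at h6
    have h7 : P₂ ≤ ⁅H, H⁆ := by
      have h8 : P₂ ≤ P₂ ⊓ ⁅M ⊓ 𝓝(L), M ⊓ 𝓝(L)⁆ := by
        rw [← h6]; exact le_inf le_rfl ((hall_le hP₂).trans (hall_le hL))
      exact (h8.trans inf_le_right).trans (commutator_mono (inf_le_right.trans h5)
        (inf_le_right.trans h5))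
    exact hpH' ((pgroup_dvd_card hpp ((hall_isPi hP₂).isPGroup hpp) hP₂n).trans
      (card_dvd_of_le h7))
  have hpM : p ∣ Nat.card M := by
    obtain ⟨P, hP⟩ := exists_syl hpp H
    have h6 := bg12_15d hG hM hH hq hqH hN hS hXS
    have hβ' : IsPi {p}ᶜ (piCoreOf (beta H) H) := by
      rw [isPi_compl_singleton hpp]
      intro hd
      exact hpσ (alpha_sub_sigma hG hH (beta_sub_alpha hG (isPi_piCoreOf _ _ p hpp hd)))
    obtain ⟨h, -, hh⟩ := subj_of_sup (max_sol hG hH) (inf_le_right.trans (le_nz_piCoreOf _ _)) h6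
      hβ' (hall_isPi hP) (hall_le hP)
    have h7 := hall_dvd hpp hP hpH
    rw [← card_cj P h] at h7
    exact h7.trans (card_dvd_of_le (hh.trans inf_le_left))
  refine ⟨hpp, ?_, hpM, hpD, ?_⟩
  · intro hs
    obtain ⟨P, hP⟩ := exists_syl hpp M
    exact hpD ((hall_dvd hpp hP hpM).trans (card_dvd_of_le (sigma_focal hG hM hs hP)))
  · rw [rank_iff]
    intro A hAM hA
    obtain ⟨m, -, hm⟩ := subj_of_sup (max_sol hG hM) hn h3 hMβ (elab_isPi hpp hA) hAM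
    have h8 := rank_iff.1 hpr (A ^ᵍ m) (hm.trans (inf_le_right.trans h5)) (elab_cj hA m)
    rwa [card_cj] at h8

/-- the factorization used in 12.16 -/
theorem bg12_16_aux {M K X : Subgroup G} (hM : IsCoatom M) (hK : IsCoatom K) {q : ℕ}
    (hq : q ∈ sigma M) (hXp : IsPGroup q X) (hX1 : X ≠ ⊥) (hXM : X ≤ M) (hne : K ≠ M)
    (hN : 𝓝(X) ≤ K) : ∃ W ≤ K, K ≤ 𝓝(W) ∧ W ⊔ (M ⊓ K) = K ∧ IsPi (sigma M)ᶜ W ∧
      ∀ p : ℕ, p.Prime → p ∣ Nat.card M → p ∉ sigma M → ¬ IsIdealPrime p G → ¬ p ∣ Nat.card W := by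
  have hqp := sigma_prime hq
  have hXK : X ≤ M ⊓ K := le_inf hXM (le_normalizer.trans hN)
  obtain ⟨S, hS, hXS⟩ := exists_syl_ge hqp (isPi_of_isPGroup hqp hXp) hXK
  have hnc := bg12_15a hG hM hq hXp hX1 hXM hne hN
  by_cases hqK : q ∈ sigma K
  · refine ⟨piCoreOf (beta K) K, piCoreOf_le _ _, le_nz_piCoreOf _ _,
      bg12_15d hG hM hK hq hqK hN hS hXS, ?_, ?_⟩
    · intro r hr hd hrs
      have h1 := isPi_piCoreOf (beta K) K r hr hd
      refine alpha_disj hG hK hM (fun g hg => hnc g⁻¹ ?_) (beta_sub_alpha hG h1) hrs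
      rw [hg, cj_inv_cj]
    · intro p hp _ _ hpi hd
      exact hpi (isPi_piCoreOf (beta K) K p hp hd).2
  · obtain ⟨A, hAS, A₀, c, hNA, hD, h5, h6, h7⟩ := bg12_15e hG hM hK hq hne hqK hX1 hN hS hXS
    refine ⟨sigmaCore K, sigmaCore_le hG hK, le_nz_sigmaCore hG K, h7, ?_, ?_⟩
    · intro r hr hd hrs
      have h1 := hall_isPi (sigma_hall hG hK) r hr hd
      refine sigma_disj hG hK hM (fun g hg => hnc g⁻¹ ?_) (c.nilp hG) h1 hrs
      rw [hg, cj_inv_cj]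
    · intro p hp hpM _ hpi hd
      have h1 := hall_isPi (sigma_hall hG hK) p hp hd
      exact hpi (bg12_15e2 hG hM hK hq hXp hXM hne hqK hX1 hN hS hXS hpM h1).2

/-- B & G 12.16 (a) -/
theorem bg12_16a {M Y : Subgroup G} (hM : IsCoatom M) (hY1 : Y ≠ ⊥) (hY : IsPi (sigma M) Y) :
    ∃ g : G, Y ^ᵍ g ≤ sigmaCore M := by
  have hYt : Y ≠ ⊤ := by
    rintro rfl
    obtain ⟨r, hr, hd, hrs⟩ := exists_not_sigma hG hM
    exact hrs (hY r hr (hd.trans (card_dvd_of_le le_top)))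
  obtain ⟨q, hq, hqY, hX1⟩ := exists_pcore_ne_bot (ms_sol hG hYt) hY1
  have hqs := hY q hq hqY
  obtain ⟨S, hS⟩ := exists_syl hq M
  have hSt := sigma_syl hqs hS
  obtain ⟨g, -, hg⟩ := syl_subj hq hSt (isPi_piCoreOf {q} Y) le_top
  rw [piCoreOf_cj] at hg
  have hX1' : piCoreOf {q} (Y ^ᵍ g) ≠ ⊥ := by
    rw [← piCoreOf_cj]; exact fun h => hX1 (cj_eq_bot.1 h)
  set Z := Y ^ᵍ g with hZ
  have hZπ : IsPi (sigma M) Z := hY.cj g
  set X := piCoreOf {q} Z with hX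
  have hXM : X ≤ M := hg.trans (hall_le hS)
  have hXq : IsPGroup q X := (isPi_piCoreOf {q} Z).isPGroup hq
  have hZN : Z ≤ 𝓝(X) := le_nz_piCoreOf _ _
  have fin : ∀ T : Subgroup G, IsPi (sigma M) T → T ≤ M → T ≤ sigmaCore M := fun T hT hTM =>
    le_hall_of_normal (sigma_hall hG hM) (le_nz_sigmaCore hG M) hT hTM
  by_cases hNM : 𝓝(X) ≤ M
  · exact ⟨g, fin Z hZπ (hZN.trans hNM)⟩
  · obtain ⟨K, hK, hNK⟩ := exists_max hG (ms_nz_ne_top hG hX1' (ms_p_ne_top hG hq hXq))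
    have hne : K ≠ M := by rintro rfl; exact hNM hNK
    obtain ⟨W, hWK, hKW, hWs, hWπ, -⟩ := bg12_16_aux hG hM hK hqs hXq hX1' hXM hne hNK
    obtain ⟨k, -, hk⟩ := subj_of_sup (max_sol hG hK) (inf_le_right.trans hKW) hWs hWπ hZπ
      (hZN.trans hNK)
    refine ⟨k * g, ?_⟩
    rw [cj_mul]
    exact fin _ (hZπ.cj k) (hk.trans inf_le_left)

/-- B & G 12.16 (b), (c), special case -/
theorem bg12_16b_aux {M H X : Subgroup G} (hM : IsCoatom M) (hH : IsCoatom H)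
    (hnc : H ≠ M) {q : ℕ}
    (hq : q ∈ sigma M) (hXp : IsPGroup q X) (hX1 : X ≠ ⊥) (hXM : X ≤ M) (hXH : X ≤ H)
    {p : ℕ} (hp : p.Prime) (hpM : p ∣ Nat.card M) (hps : p ∉ sigma M) (hpi : ¬ IsIdealPrime p G) :
    PRankLE p 1 ↥(H ⊓ 𝓝(X)) ∧ (p ∈ tau1 M → ¬ p ∣ Nat.card ↥⁅H ⊓ 𝓝(X), H ⊓ 𝓝(X)⁆) := by
  have hXσ : X ≤ sigmaCore M := syl_le_sigmaCore hG hM hq
    (isPi_of_isPGroup (sigma_prime hq) hXp) hXM
  -- a maximal subgroup over a noncyclic `p`-subgroup of `M` and `X`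
  have key : ∀ L A : Subgroup G, IsCoatom L → L ≠ M → A ≤ M → A ≤ L → IsElementaryAbelian p A →
      Nat.card A = p ^ 2 → X ≤ L → False := by
    intro L A hL hLM hAM hAL hA hAc hXL
    obtain ⟨A₀, c⟩ := exists_exc hG hM hp hps hAM hA hAc
    refine hLM (c.uniq hG hL hAL fun h => hX1 ?_)
    rw [← le_bot_iff, ← h]
    exact le_inf hXL hXσ
  by_cases hNM : 𝓝(X) ≤ M
  · refine ⟨?_, ?_⟩
    · by_contra h
      obtain ⟨A, hA, hAe, hAc⟩ := (not_rank_iff hp).1 h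
      exact key H A hH hnc (hA.trans (inf_le_right.trans hNM)) (hA.trans inf_le_left) hAe hAc hXH
    · rintro ⟨-, -, -, hd, -⟩ h
      exact hd (h.trans (card_dvd_of_le (commutator_mono (inf_le_right.trans hNM)
        (inf_le_right.trans hNM))))
  · obtain ⟨K, hK, hNK⟩ := exists_max hG (ms_nz_ne_top hG hX1 (ms_p_ne_top hG (sigma_prime hq) hXp))
    have hne : K ≠ M := by rintro rfl; exact hNM hNK
    obtain ⟨W, hWK, hKW, hWs, -, hWp⟩ := bg12_16_aux hG hM hK hq hXp hX1 hXM hne hNK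
    have hWp' := hWp p hp hpM hps hpi
    refine ⟨?_, ?_⟩
    · by_contra h
      obtain ⟨A, hA, hAe, hAc⟩ := (not_rank_iff hp).1 h
      obtain ⟨k, hk, hAk⟩ := subj_of_sup (π := {p}) (max_sol hG hK) (inf_le_right.trans hKW) hWs
        ((isPi_compl_singleton hp).2 hWp') (elab_isPi hp hAe) (hA.trans (inf_le_right.trans hNK))
      exact key K (A ^ᵍ k) hK hne (hAk.trans inf_le_left) (hAk.trans inf_le_right) (elab_cj hAe k)
        (by rw [card_cj]; exact hAc) (le_normalizer.trans hNK)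
    · rintro ⟨-, -, -, hd, -⟩ h
      have h1 : ⁅H ⊓ 𝓝(X), H ⊓ 𝓝(X)⁆ ≤ ⁅K, K⁆ :=
        commutator_mono (inf_le_right.trans hNK) (inf_le_right.trans hNK)
      have h2 := comm_prod_le (inf_le_right.trans hKW : M ⊓ K ≤ 𝓝(W))
      rw [hWs] at h2
      have h3 : ⁅M ⊓ K, M ⊓ K⁆ ≤ 𝓝(W) :=
        ((comm_self_le _).trans inf_le_right).trans hKW
      have h4 := card_sup_mul_card_inf h3
      have h5 : p ∣ Nat.card ↥(⁅M ⊓ K, M ⊓ K⁆ ⊔ W) := by
        rw [sup_comm]; exact (h.trans (card_dvd_of_le h1)).trans (card_dvd_of_le h2)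
      have h6 : p ∣ Nat.card ↥⁅M ⊓ K, M ⊓ K⁆ * Nat.card W := by
        rw [← h4]; exact Dvd.dvd.mul_right h5 _
      rcases (Nat.Prime.dvd_mul hp).1 h6 with h7 | h7
      · exact hd (h7.trans (card_dvd_of_le (commutator_mono inf_le_left inf_le_left)))
      · exact hWp' h7

/-- B & G 12.16 (b), (c) -/
theorem bg12_16b {M H Y : Subgroup G} (hM : IsCoatom M) (hH : IsCoatom H)
    (hnc : ∀ g : G, H ≠ M ^ᵍ g) (hY1 : Y ≠ ⊥) (hY : IsPi (sigma M) Y) (hYH : Y ≤ H)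
    {p : ℕ} (hp : p.Prime) (hpM : p ∣ Nat.card M) (hps : p ∉ sigma M) (hpi : ¬ IsIdealPrime p G) :
    PRankLE p 1 ↥(H ⊓ 𝓝(Y)) ∧ (p ∈ tau1 M → ¬ p ∣ Nat.card ↥⁅H ⊓ 𝓝(Y), H ⊓ 𝓝(Y)⁆) := by
  have hYs : Group.IsSolvable Y := solvable_sub hYH (max_sol hG hH)
  obtain ⟨q, hq, hqY, hX1⟩ := exists_pcore_ne_bot hYs hY1
  have hqs := hY q hq hqY
  obtain ⟨S, hS⟩ := exists_syl hq M
  have hSt := sigma_syl hqs hS
  obtain ⟨g, -, hg⟩ := syl_subj hq hSt (isPi_piCoreOf {q} Y) le_top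
  set X := piCoreOf {q} Y with hX
  have hXq : IsPGroup q X := (isPi_piCoreOf {q} Y).isPGroup hq
  have hXg : IsPGroup q ↥(X ^ᵍ g) := ((isPi_piCoreOf {q} Y).cj g).isPGroup hq
  have hNN : H ⊓ 𝓝(Y) ≤ H ⊓ 𝓝(X) := inf_le_inf le_rfl (nz_le_nz_piCoreOf _ _)
  have hXH : X ≤ H := (piCoreOf_le _ _).trans hYH
  have hne : H ^ᵍ g ≠ M := by
    intro h
    refine hnc g⁻¹ ?_
    rw [← h, cj_inv_cj]
  obtain ⟨h1, h2⟩ := bg12_16b_aux hG hM (coatom_cj hH g) hne hqs hXg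
    (fun h => hX1 (cj_eq_bot.1 h)) (hg.trans (hall_le hS)) (cj_mono hXH g) hp hpM hps hpi
  rw [nz_cj, ← cj_inf] at h1 h2
  refine ⟨rank_mono hNN (rank_cj.1 h1), fun h => ?_⟩
  have h3 := h2 h
  rw [← cj_comm, card_cj] at h3
  exact fun h4 => h3 (h4.trans (card_dvd_of_le (commutator_mono hNN hNN)))

/-- B & G 12.17 -/
theorem bg12_17 {M E : Subgroup G} (hM : IsCoatom M) (hE : IsPiHallOf (sigma M)ᶜ E M) :
    sigmaCore M ⊓ 𝓒(E) ≤ ⁅sigmaCore M, sigmaCore M⁆ ∧ ⁅sigmaCore M, E⁆ = sigmaCore M := by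
  have hEM := hall_le hE
  have hEn : E ≤ 𝓝(sigmaCore M) := hEM.trans (le_nz_sigmaCore hG M)
  have hcop : (Nat.card (sigmaCore M)).Coprime (Nat.card E) :=
    (hall_isPi (sigma_hall hG hM)).coprime (hall_isPi hE)
  have h1 : ⁅sigmaCore M, E⁆ = sigmaCore M := by
    refine eq_comm_of_le_der hEn (cop_inf hcop) (sigmaCore_sol hG hM) ?_
    rw [compl_sup hG hM hE]
    exact sigma_le_der hG hM
  refine ⟨?_, h1⟩
  set V := sigmaCore M with hV
  set D := ⁅V, V⁆ with hD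
  have hVD : V ≤ 𝓝(D) := left_le_nz_comm V V
  have hED : E ≤ 𝓝(D) := le_nz_comm hEn hEn
  have hVab : qm D V ≤ 𝓒(qm D V) := (qm_cz_iff hVD hVD).2 le_rfl
  have h2 := ab_cop_inf hVab (qm_nz hEn) (A := qm D E)
    (Nat.Coprime.coprime_dvd_left (qm_card_dvd hED) (hcop.symm.coprime_dvd_right (qm_card_dvd hVD)))
  rw [← qm_comm hVD hED, h1] at h2
  rintro x ⟨hxV, hxE⟩
  have hxn : x ∈ 𝓝(D) := hVD hxV
  have h3 : qe D hxn ∈ qm D V ⊓ 𝓒(qm D E) := by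
    refine ⟨qe_mem hxn hxV, mem_cz.2 ?_⟩
    intro y hy
    obtain ⟨e, hen, heE, rfl⟩ := mem_qm.1 hy
    rw [← qe_mul hen hxn, ← qe_mul hxn hen]
    congr 1
    have := mem_cz.1 hxE e heE
    simp only [this]
  rw [h2, mem_bot] at h3
  exact (qe_eq_one hxn).1 h3

/-- B & G 12.17, last part -/
theorem bg12_17c {M : Subgroup G} (hM : IsCoatom M) {g : G} (hg : g ∉ M) :
    IsCyclic ↥(sigmaCore M ⊓ M ^ᵍ g) ∧
      (∀ p : ℕ, p.Prime → p ∣ Nat.card ↥(sigmaCore M ⊓ M ^ᵍ g) → p ∉ beta M) ∧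
      sigmaCore M ⊓ M ^ᵍ g ⊓ ⁅sigmaCore M, sigmaCore M⁆ = ⊥ := by
  have hσM := sigmaCore_le hG hM
  have key : ∀ P : Subgroup G, ∀ p : ℕ, p ∈ sigma M → IsPGroup p P → P ≠ ⊥ →
      P ≤ sigmaCore M ⊓ M ^ᵍ g → 𝓒(P) ≤ M → False := by
    intro P p hp hPp hP1 hP hC
    obtain ⟨m, hm, c, hc, hgc⟩ := bg10_1 hG hM hp hPp hP1 (hP.trans (inf_le_left.trans hσM))
      (g := g⁻¹) (le_cj_iff.1 (hP.trans inf_le_right))
    apply hg
    rw [← inv_inv g, hgc]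
    exact inv_mem (mul_mem hm (hC hc))
  have key2 : ∀ P : Subgroup G, ∀ p : ℕ, p.Prime → Nat.card P = p → P ≤ sigmaCore M ⊓ M ^ᵍ g →
      (p ∈ beta M ∨ P ≤ ⁅sigmaCore M, sigmaCore M⁆) → False := by
    intro P p hp hPc hP h
    have hpσ : p ∈ sigma M := hall_isPi (sigma_hall hG hM) p hp
      ((by rw [hPc] : p ∣ Nat.card P).trans (card_dvd_of_le (hP.trans inf_le_left)))
    obtain ⟨h1, -, -⟩ := bg12_14' hG hM hpσ (hP.trans (inf_le_left.trans hσM)) hPc h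
    obtain ⟨ρ, hρ, hρp⟩ := exists_gen_prime hp hPc
    refine key P p hpσ ?_ ?_ hP h1
    · rw [hρ]; exact elab_isPGroup (elab_zpowers hρp)
    · rintro rfl
      rw [card_bot] at hPc
      exact hp.one_lt.ne hPc
  have hD : sigmaCore M ⊓ M ^ᵍ g ⊓ ⁅sigmaCore M, sigmaCore M⁆ = ⊥ := by
    by_contra h
    obtain ⟨p, hp, hd⟩ := exists_prime_dvd_of_ne_bot h
    haveI : Fact p.Prime := ⟨hp⟩
    obtain ⟨⟨x, hx⟩, hxo⟩ := exists_prime_orderOf_dvd_card' p hd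
    rw [Subgroup.orderOf_mk] at hxo
    have hz : zpowers x ≤ sigmaCore M ⊓ M ^ᵍ g ⊓ ⁅sigmaCore M, sigmaCore M⁆ := by rwa [zpowers_le]
    exact key2 (zpowers x) p hp (by rw [Nat.card_zpowers, hxo]) (hz.trans inf_le_left)
      (Or.inr (hz.trans inf_le_right))
  refine ⟨?_, ?_, hD⟩
  · set X := sigmaCore M ⊓ M ^ᵍ g with hX
    have hab : X ≤ 𝓒(X) := by
      rw [← comm_eq_bot_iff, eq_bot_iff, ← hD]
      exact le_inf (comm_self_le X) (commutator_mono inf_le_left inf_le_left)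
    have hn : Group.IsNilpotent X := by
      exact nilpotent_of_class2 (by rw [comm_eq_bot_iff.2 hab]; exact bot_le)
    refine cyclic_of_nilp_rank1 (ms_odd hG X) hn ?_
    intro p hp
    haveI : Fact p.Prime := ⟨hp⟩
    rw [rank_iff]
    intro A hAX hA
    by_contra hlt
    push Not at hlt
    have hpX : p ∈ sigma M := by
      have hA1 : A ≠ ⊥ := by
        rintro rfl
        rw [card_bot] at hlt
        exact absurd hlt (not_lt.2 (Nat.one_le_pow _ _ hp.pos))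
      exact hall_isPi (sigma_hall hG hM) p hp
        ((pgroup_dvd_card hp (elab_isPGroup hA) hA1).trans (card_dvd_of_le (hAX.trans inf_le_left)))
    have hA1 : A ≠ ⊥ := by
      rintro rfl
      rw [card_bot] at hlt
      exact absurd hlt (not_lt.2 (Nat.one_le_pow _ _ hp.pos))
    have hnc : ¬ IsCyclic A := fun h => by
      have h1 := rank_iff.1 (rank1_of_cyclic hp h) A le_rfl hA
      exact absurd hlt (not_lt.2 h1)
    exact key A p hpX (elab_isPGroup hA) hA1 hAX ((cz_le_nz A).trans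
      (nz_noncyc hG hM hpX (elab_isPGroup hA) (hAX.trans (inf_le_left.trans hσM)) hnc))
  · intro p hp hd hβ
    haveI : Fact p.Prime := ⟨hp⟩
    obtain ⟨⟨x, hx⟩, hxo⟩ := exists_prime_orderOf_dvd_card' p hd
    rw [Subgroup.orderOf_mk] at hxo
    exact key2 (zpowers x) p hp (by rw [Nat.card_zpowers, hxo]) (by rwa [zpowers_le]) (Or.inl hβ)

end

end CfsgLib.BGPi
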