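import Cfsg.Agent.EqBase
import Cfsg.Agent.LibBG12h

/-! B & G §13: a generation lemma, 13.1, 13.2. -/

open Subgroup
open scoped Pointwise commutatorElement

namespace CfsgLib.BGPi

open Cfsg

universe u

section
variable {G : Type u} [Group G] [Finite G]

theorem exp_of_class2 {p : ℕ} (hp : p.Prime) (hp2 : p ≠ 2) {D : Subgroup G}
    (hc : ⁅D, D⁆ ≤ 𝓒(D)) (hgen : D ≤ closure {x : G | x ∈ D ∧ x ^ p = 1}) :
    ∀ x ∈ D, x ^ p = 1 := by
  have key : ∀ x ∈ closure {x : G | x ∈ D ∧ x ^ p = 1}, x ∈ D ∧ x ^ p = 1 := by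
    intro x hx
    induction hx using Subgroup.closure_induction with
    | mem x hx => exact hx
    | one => exact ⟨one_mem _, one_pow _⟩
    | mul b x _ _ hb hx =>
      refine ⟨mul_mem hb.1 hx.1, ?_⟩
      set c := b⁻¹ * x * b * x⁻¹ with hcdef
      have hcD : c ∈ ⁅D, D⁆ := by
        have h1 := commutator_mem_commutator (inv_mem hb.1) hx.1
        rw [commutatorElement_def, inv_inv] at h1
        exact h1
      have hcC := hc hcD
      have hbc : Commute b c := mem_cz.1 hcC b hb.1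
      have hxc : Commute x c := mem_cz.1 hcC x hx.1
      have h1 : x * b * x⁻¹ = b * c := by rw [hcdef]; group
      have h2 : c ^ p = 1 := by
        have h3 : (x * b * x⁻¹) ^ p = 1 := by
          rw [conj_pow, hb.2]; group
        rw [h1, hbc.mul_pow, hb.2, one_mul] at h3
        exact h3
      rw [mul_pow2' hp hp2 h1 (by rw [hxc.eq]; group) hbc h2, hb.2, hx.2, one_mul]
    | inv x _ hx => exact ⟨inv_mem hx.1, by rw [inv_pow, hx.2, inv_one]⟩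
  exact fun x hx => (key x (hgen hx)).2

/-- the key generation lemma of 13.4 -/
theorem cz_rank2_aux {p : ℕ} (hp : p.Prime) (hp2 : p ≠ 2) {T K X P : Subgroup G} (hT : IsPGroup p T)
    (hX : (Nat.card X).Prime) (hX2 : Nat.card X ≠ 2) (hXp : Nat.card X ≠ p)
    (hKs : Group.IsSolvable K) (hKodd : Odd (Nat.card K)) (hKp : (Nat.card K).Coprime p)
    (hcop : (Nat.card X).Coprime (Nat.card K)) (hXK : X ≤ 𝓝(K))
    (hKX : ⁅K, X⁆ = K)
    (hP : Nat.card P = p) (hPK : P ≤ 𝓒(K)) (hPX : P ≤ T ⊓ 𝓒(X)) :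
    ∀ (n : ℕ) (D : Subgroup G), Nat.card D = n → D ≤ T → K ≤ 𝓝(D) → X ≤ 𝓝(D) → ¬ K ≤ 𝓒(D) →
      ¬ PRankLE p 1 ↥(T ⊓ 𝓒(X)) := by
  intro n
  induction n using Nat.strong_induction_on with
  | _ n ih =>
  intro D hDn hDT hKD hXD hKC
  have hDp := hT.to_le hDT
  by_cases hex : ∃ D' < D, K ≤ 𝓝(D') ∧ X ≤ 𝓝(D') ∧ ¬ K ≤ 𝓒(D')
  · obtain ⟨D', hlt, h1, h2, h3⟩ := hex
    exact ih (Nat.card D') (by rw [← hDn]; exact card_lt_of_lt hlt) D' rfl (hlt.le.trans hDT) h1 h2 h3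
  push Not at hex
  have hDs := pgroup_solvable hp hDp
  have hcK : (Nat.card K).Coprime (Nat.card D) := coprime_card_of_pgroup hp hDp hKp
  have hcX : (Nat.card X).Coprime (Nat.card D) :=
    coprime_card_of_pgroup hp hDp ((Nat.coprime_primes hX hp).2 hXp)
  have hD0 : D ≠ ⊥ := by
    rintro rfl
    exact hKC (by rw [cz_bot]; exact le_top)
  have hDK : ⁅D, K⁆ = D := by
    by_contra hne
    have hlt : ⁅D, K⁆ < D := lt_of_le_of_ne (comm_le_left hKD) hne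
    exact hKC (cop_le_cz hKD hcK hDs (hex _ hlt (le_nz_comm hKD le_normalizer) (le_nz_comm hXD hXK)))
  set F := phi p D with hF
  have hFD : F ≤ D := phi_le p D
  have hFlt : F < D := phi_lt hp hDp hD0
  have hKF : K ≤ 𝓝(F) := hKD.trans (nz_le_nz_phi p D)
  have hXF : X ≤ 𝓝(F) := hXD.trans (nz_le_nz_phi p D)
  have hDF : D ≤ 𝓝(F) := le_normalizer.trans (nz_le_nz_phi p D)
  have hKCF : K ≤ 𝓒(F) := hex F hFlt hKF hXF
  have hDCF : ⁅D, F⁆ = ⊥ := by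
    have h1 : ⁅⁅K, F⁆, D⁆ = ⊥ := by
      rw [comm_eq_bot_iff.2 hKCF, comm_eq_bot_iff]; exact bot_le
    have h2 : ⁅⁅F, D⁆, K⁆ = ⊥ := by
      rw [comm_eq_bot_iff]
      exact (comm_le_left hDF).trans (le_cz_comm.1 hKCF)
    have h3 := three_le h1 h2
    rwa [hDK] at h3
  have hclass : ⁅D, D⁆ ≤ 𝓒(D) := (comm_le_phi p D).trans (le_cz_comm.1 (comm_eq_bot_iff.1 hDCF))
  have hgen : D ≤ closure {x : G | x ∈ D ∧ x ^ p = 1} := by
    by_contra hne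
    set Ω := closure {x : G | x ∈ D ∧ x ^ p = 1} with hΩ
    have hΩD : Ω ≤ D := by
      rw [hΩ, closure_le]; exact fun x hx => hx.1
    have hlt : Ω < D := lt_of_le_of_ne hΩD fun h => hne h.ge
    have hnz : ∀ A : Subgroup G, A ≤ 𝓝(D) → A ≤ 𝓝(Ω) := by
      intro A hA
      refine nz_le_nz_closure fun a ha s hs => ⟨le_nz.1 hA a ha s hs.1, ?_⟩
      rw [conj_pow, hs.2]; group
    have h1 := hex Ω hlt (hnz K hKD) (hnz X hXD)
    refine hKC (cop_omega hp hp2 hDp hKD hKp fun x hx hxp a ha => ?_)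
    exact (mem_cz.1 (h1 ha) x (subset_closure ⟨hx, hxp⟩)).symm
  have hexp := exp_of_class2 hp hp2 hclass hgen
  -- centralizer of `X` in `D` is not in `F`
  have hKnd : ¬ p ∣ Nat.card K := fun h => hp.one_lt.ne' (Nat.Coprime.eq_one_of_dvd hKp.symm h)
  have h2 : ¬ D ⊓ 𝓒(X) ≤ F := by
    intro h
    have h3 := thm34_mod hp hX hXp hX2 hDF hKF hXF hFD (comm_le_phi p D)
      (fun v hv => pow_mem_phi hv) hDs rfl hcX hKs hKodd hKnd hcop hXK hKD hXD h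
    rw [hKX, hDK] at h3
    exact hFlt.not_ge h3
  obtain ⟨d, ⟨hdD, hdX⟩, hdF⟩ := SetLike.not_le_iff_exists.1 h2
  intro hr
  have hcyc := cyclic_of_rank1 hp hp2 (hT.to_le (inf_le_left : T ⊓ 𝓒(X) ≤ T)) hr
  obtain ⟨ρ, hρ, hρp⟩ := exists_gen_prime hp hP
  have hρ1 : ρ ≠ 1 := by
    rintro rfl
    rw [zpowers_one_eq_bot] at hρ
    rw [hρ, card_bot] at hP
    exact hp.one_lt.ne hP
  have hdP : d ∈ P := by
    rw [hρ]
    exact mem_zpowers_of_cyclic hcyc hp (hPX (by rw [hρ]; exact mem_zpowers ρ)) ⟨hDT hdD, hdX⟩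
      hρ1 hρp (hexp d hdD)
  have hdK := hPK hdP
  -- but `C_D(K) ≤ F`
  have hab : qm F D ≤ 𝓒(qm F D) := (qm_cz_iff hDF hDF).2 (comm_le_phi p D)
  have hq := ab_cop_inf (V := qm F D) (A := qm F K) hab (qm_nz hKD)
    (Nat.Coprime.coprime_dvd_left (qm_card_dvd hKF) (hcK.coprime_dvd_right (qm_card_dvd hDF)))
  rw [← qm_comm hDF hKF, hDK] at hq
  have h1 : D ⊓ 𝓒(K) ≤ F := by
    rw [← qm_eq_bot (inf_le_left.trans hDF), eq_bot_iff, ← hq]
    refine le_inf (qm_mono inf_le_left) ?_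
    rw [qm_cz_iff (inf_le_left.trans hDF) hKF]
    have : ⁅D ⊓ 𝓒(K), K⁆ = ⊥ := comm_eq_bot_iff.2 inf_le_right
    rw [this]; exact bot_le
  exact hdF (h1 ⟨hdD, hdK⟩)

theorem cz_rank2 {p : ℕ} (hp : p.Prime) (hp2 : p ≠ 2) {T K X P : Subgroup G} (hT : IsPGroup p T)
    (hX : (Nat.card X).Prime) (hX2 : Nat.card X ≠ 2) (hXp : Nat.card X ≠ p)
    (hKs : Group.IsSolvable K) (hKodd : Odd (Nat.card K)) (hKp : (Nat.card K).Coprime p)
    (hcop : (Nat.card X).Coprime (Nat.card K)) (hXK : X ≤ 𝓝(K))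
    (hKX : ⁅K, X⁆ = K) (hKT : K ≤ 𝓝(T)) (hXT : X ≤ 𝓝(T)) (hKC : ¬ K ≤ 𝓒(T))
    (hP : Nat.card P = p) (hPK : P ≤ 𝓒(K)) (hPX : P ≤ T ⊓ 𝓒(X)) :
    ¬ PRankLE p 1 ↥(T ⊓ 𝓒(X)) :=
  cz_rank2_aux hp hp2 hT hX hX2 hXp hKs hKodd hKp hcop hXK hKX hP hPK hPX _ T rfl le_rfl hKT hXT hKC

theorem hall_dvd' {π : Set ℕ} {q : ℕ} (hq : q.Prime) (hqπ : q ∈ π) {Q E : Subgroup G}
    (hQ : IsPiHallOf π Q E) (hd : q ∣ Nat.card E) : q ∣ Nat.card Q := by
  have h1 := card_mul_relIndex (hall_le hQ)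
  rw [← h1] at hd
  exact ((Nat.Prime.dvd_mul hq).1 hd).resolve_right ((hall_iff.1 hQ).2.2 q hq hqπ)

variable (hG : IsMinSimpleOddOrder G)
include hG

theorem prime_class {H P : Subgroup G} (hH : IsCoatom H) {p : ℕ} (hp : p.Prime)
    (hPp : IsPGroup p P) (hP1 : P ≠ ⊥) (hN : 𝓝(P) ≤ H) : p ∈ sigma H ∨ p ∈ tau2 H := by
  by_cases hs : p ∈ sigma H
  · exact Or.inl hs
  right
  have hr2 := rank_of_not_sigma hG hH hp hs
  refine ⟨hp, hs, hr2, fun hr1 => hs ?_⟩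
  have hPH : P ≤ H := le_normalizer.trans hN
  obtain ⟨Q, hQ, hPQ⟩ := exists_syl_ge hp (isPi_of_isPGroup hp hPp) hPH
  have hpP := pgroup_dvd_card hp hPp hP1
  have hp2 := ms_p2' hG hp hpP
  have hc : IsCyclic Q := cyclic_of_rank1 hp hp2 ((hall_isPi hQ).isPGroup hp)
    (rank_mono (hall_le hQ) hr1)
  exact mem_sigma_iff.2 ⟨hp, hpP.trans (card_dvd_of_le hPH), Q, hQ, (nz_of_cyclic hc hPQ).trans hN⟩

/-- for `p ∈ σ(H) ∪ τ₃(H)`, Sylow `p`-subgroups lie in the derived subgroup -/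
theorem syl_le_der {H S : Subgroup G} (hH : IsCoatom H) {p : ℕ} (hp : p.Prime)
    (hS : IsPiHallOf {p} S H) (hpH : p ∣ Nat.card H) (h1 : p ∉ tau1 H) (h2 : p ∉ tau2 H) :
    S ≤ ⁅H, H⁆ := by
  by_cases hs : p ∈ sigma H
  · exact sigma_focal hG hH hs hS
  · have hr2 := rank_of_not_sigma hG hH hp hs
    have hr1 : PRankLE p 1 H := by
      by_contra h
      exact h2 ⟨hp, hs, hr2, h⟩
    have hd : p ∣ Nat.card ↥⁅H, H⁆ := by
      by_contra h
      exact h1 ⟨hp, hs, hpH, h, hr1⟩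
    have hp2 := ms_p2' hG hp hpH
    exact cyc_syl_le_der hp (max_sol hG hH) hS (cyclic_of_rank1 hp hp2
      ((hall_isPi hS).isPGroup hp) (rank_mono (hall_le hS) hr1)) hd

/-- B & G 13.1 -/
theorem bg13_1 {M H : Subgroup G} (hM : IsCoatom M) (hH : IsCoatom H)
    (hnc : ∀ g : G, H ≠ M ^ᵍ g) {p : ℕ} (hp : p.Prime) (hpM : p ∣ Nat.card M) (hps : p ∉ sigma M)
    (hpH : p ∣ Nat.card H) (hpt : p ∉ tau1 H) (hne : ⁅sigmaCore M ⊓ H, M ⊓ H⁆ ≠ ⊥) :
    (∀ P ≤ M ⊓ H, IsPGroup p P → P ≤ 𝓒(sigmaCore M ⊓ H)) ∧ p ∉ tau2 H ∧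
      (p ∈ tau1 M → IsIdealPrime p G) := by
  have hnc' : ∀ g : G, M ≠ H ^ᵍ g := fun g hg => hnc g⁻¹ (by rw [hg, cj_inv_cj])
  set Y := ⁅sigmaCore M ⊓ H, M ⊓ H⁆ with hY
  have hMσ := sigma_hall hG hM
  have hn : M ⊓ H ≤ 𝓝(sigmaCore M ⊓ H) :=
    le_nz_inf (inf_le_left.trans (le_nz_sigmaCore hG M)) (inf_le_right.trans le_normalizer)
  have hYσ : Y ≤ sigmaCore M := (comm_le_left hn).trans inf_le_left
  have hYπ : IsPi (sigma M) Y := (hall_isPi hMσ).le hYσ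
  have hYH' : Y ≤ ⁅H, H⁆ := commutator_mono inf_le_right inf_le_right
  have hHH : ⁅H, H⁆ ≤ H := comm_self_le H
  obtain ⟨q, hq, hqY⟩ := exists_prime_dvd_of_ne_bot hne
  have hqs : q ∈ sigma M := hYπ q hq hqY
  -- (b)
  have hb : p ∉ tau2 H := by
    intro ht2
    obtain ⟨E₀, hE₀⟩ := hall_exists (π := (sigma H)ᶜ) (max_sol hG hH)
    obtain ⟨A₀, hA₀E, B₀, c₀⟩ := exists_exc_tau2 hG hH hE₀ ht2
    have hdis : ∀ r : ℕ, r ∈ sigma M → r ∉ sigma H := fun r hr hr' =>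
      sigma_disj hG hH hM hnc' (c₀.nilp hG) hr' hr
    have hYπ' : IsPi (sigma H)ᶜ Y := hYπ.mono hdis
    obtain ⟨E, hE, hYE⟩ := hall_exists_ge (max_sol hG hH) hYπ' (hYH'.trans hHH)
    obtain ⟨A, hAE, B, c⟩ := exists_exc_tau2 hG hH hE ht2
    have hEH := hall_le hE
    have hYE' : Y ≤ ⁅E, E⁆ := by
      have h1 := prod_der (hEH.trans (le_nz_sigmaCore hG H)) hYE (K := sigmaCore H)
        (((hall_isPi (sigma_hall hG hH)).coprime hYπ').symm)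
      rw [compl_sup hG hH hE] at h1
      have h2 : Y ≤ Y ⊓ ⁅E, E⁆ := by rw [← h1]; exact le_inf le_rfl hYH'
      exact h2.trans inf_le_right
    have hE'E : ⁅E, E⁆ ≤ E := comm_self_le E
    have hEn : Group.IsNilpotent ↥⁅E, E⁆ := hall_der_nilp hG hH hEH (hall_isPi hE)
    have hYn : Group.IsNilpotent Y := nilpotent_sub hYE' hEn
    set Yq := piCoreOf {q} Y with hYq
    have hYq1 : Yq ≠ ⊥ := nilpotent_pcore_ne_bot hYn hq hqY
    have hYqY : Yq ≤ Y := piCoreOf_le _ _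
    have hqt := hYπ' q hq hqY
    have hAn : A ≤ 𝓝(Yq) := by
      by_cases hq2 : q ∈ tau2 H
      · have h1 : Yq ≤ 𝓒(A) := c.tau2_cz hG hE hAE (hYqY.trans (hYE'.trans hE'E))
          (nilpotent_sub hYqY hYn) ((isPi_piCoreOf _ _).mono (Set.singleton_subset_iff.2 hq2))
        exact (le_cz_comm.1 h1).trans (cz_le_nz _)
      · have hr1 : PRankLE q 1 H := by
          by_contra h
          exact hq2 ⟨hq, hqt, rank_of_not_sigma hG hH hq hqt, h⟩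
        have hcyc : IsCyclic (piCoreOf {q} ⁅E, E⁆) := cyclic_of_rank1 hq (ms_p2' hG hq hqY)
          ((isPi_piCoreOf {q} ⁅E, E⁆).isPGroup hq)
          (rank_mono ((piCoreOf_le _ _).trans (hE'E.trans hEH)) hr1)
        have h1 : Yq ≤ piCoreOf {q} ⁅E, E⁆ :=
          nilpotent_le_piCoreOf hEn (hYqY.trans hYE') (isPi_piCoreOf _ _)
        have h2 : E ≤ 𝓝(⁅E, E⁆) := left_le_nz_comm E E
        exact hAE.trans (h2.trans ((nz_le_nz_piCoreOf {q} ⁅E, E⁆).trans (nz_of_cyclic hcyc h1)))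
    have h3 := (bg12_16b hG hM hH hnc hYq1 (hYπ.le hYqY) (hYqY.trans (hYH'.trans hHH)) hp hpM hps
      (bg10_5b hG hH hp ht2.2.2.1 ht2.2.2.2)).1
    have h4 := rank_iff.1 h3 A (le_inf (hAE.trans hEH) hAn) c.el
    rw [c.card] at h4
    have h5 := hp.two_le
    nlinarith
  have hD : ∀ S : Subgroup G, IsPiHallOf {p} S H → S ≤ ⁅H, H⁆ := fun S hS =>
    syl_le_der hG hH hp hS hpH hpt hb
  refine ⟨?_, hb, ?_⟩
  · intro P hP hPp
    have hPπ := isPi_of_isPGroup hp hPp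
    obtain ⟨S, hS, hPS⟩ := exists_syl_ge hp hPπ (hP.trans inf_le_right)
    have hPH' : P ≤ ⁅H, H⁆ := hPS.trans (hD S hS)
    have hPn : P ≤ 𝓝(sigmaCore M ⊓ H) := hP.trans hn
    have hVs : Group.IsSolvable ↥(sigmaCore M ⊓ H) := solvable_sub inf_le_right (max_sol hG hH)
    have hcop : (Nat.card P).Coprime (Nat.card ↥(sigmaCore M ⊓ H)) := by
      have h1 : IsPi (sigma M)ᶜ P := hPπ.mono (by
        rintro r rfl; exact hps)
      exact (((hall_isPi hMσ).le inf_le_left).coprime h1).symm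
    rw [le_cz_comm, ← comm_eq_bot_iff]
    set D := ⁅sigmaCore M ⊓ H, P⁆ with hDdef
    have hDD : ⁅D, P⁆ = D := cop_comm_comm hPn hcop hVs
    have hDV : D ≤ sigmaCore M ⊓ H := comm_le_left hPn
    have hDH' : D ≤ ⁅H, H⁆ := commutator_mono inf_le_right (hP.trans inf_le_right)
    have hHα := le_nz_alphaCore hG H
    have h1 : qm (alphaCore H) D ≤ 𝓒(qm (alphaCore H) P) := by
      refine le_cz_comm.1 (nilpotent_commute (π := {p}) (der_quot_nilp hG hH) (qm_mono hPH')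
        (qm_mono hDH') ?_ ?_)
      · exact isPi_of_isPGroup hp (qm_isPGroup hPp)
      · intro s hs hd hsp
        rw [Set.mem_singleton_iff] at hsp
        subst hsp
        exact hps (((hall_isPi hMσ).le (hDV.trans inf_le_left)) s hs
          (hd.trans (qm_card_dvd (hDH'.trans (hHH.trans hHα)))))
    rw [qm_cz_iff (hDH'.trans (hHH.trans hHα)) ((hP.trans inf_le_right).trans hHα), hDD] at h1
    by_contra hD1
    obtain ⟨r, hr, hrD⟩ := exists_prime_dvd_of_ne_bot hD1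
    exact alpha_disj hG hH hM hnc' (hall_isPi (alpha_hall hG hH) r hr (hrD.trans (card_dvd_of_le h1)))
      ((hall_isPi hMσ) r hr (hrD.trans (card_dvd_of_le (hDV.trans inf_le_left))))
  · intro ht1
    by_contra hpi
    have hpβ : p ∉ beta H := fun h => hpi h.2
    have hqβ : q ∉ beta H := fun h => alpha_disj hG hH hM hnc' (beta_sub_alpha hG h) hqs
    obtain ⟨L, hL⟩ := hall_exists (π := (beta H)ᶜ) (solvable_sub hHH (max_sol hG hH))
    obtain ⟨hLn, hLf⟩ := beta_frat hG hH hL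
    have hLH := (hall_le hL).trans hHH
    have hqL : q ∣ Nat.card L := hall_dvd' hq hqβ hL (hqY.trans (card_dvd_of_le hYH'))
    have hpH' : p ∣ Nat.card ↥⁅H, H⁆ := by
      obtain ⟨S, hS⟩ := exists_syl hp H
      exact (hall_dvd hp hS hpH).trans (card_dvd_of_le (hD S hS))
    have hpL : p ∣ Nat.card L := hall_dvd' hp hpβ hL hpH'
    set Y₁ := piCoreOf {q} L with hY₁
    have hY1n : Y₁ ≠ ⊥ := nilpotent_pcore_ne_bot hLn hq hqL
    have hNY : H ⊓ 𝓝(L) ≤ H ⊓ 𝓝(Y₁) := inf_le_inf le_rfl (nz_le_nz_piCoreOf _ _)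
    obtain ⟨P, hP⟩ := exists_syl hp L
    have hβ' : IsPi {p}ᶜ (piCoreOf (beta H) H) := by
      rw [isPi_compl_singleton hp]
      intro hd
      exact hpβ (isPi_piCoreOf _ _ p hp hd)
    have h1 := prod_der (inf_le_left.trans (le_nz_piCoreOf _ _) : H ⊓ 𝓝(L) ≤ 𝓝(piCoreOf (beta H) H))
      (H := P) (le_inf ((hall_le hP).trans hLH) ((hall_le hP).trans le_normalizer))
      ((hall_isPi hP).coprime hβ')
    rw [hLf] at h1
    have h2 : P ≤ P ⊓ ⁅H ⊓ 𝓝(L), H ⊓ 𝓝(L)⁆ := by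
      rw [← h1]; exact le_inf le_rfl ((hall_le hP).trans (hall_le hL))
    have h3 := (bg12_16b hG hM hH hnc hY1n ((isPi_piCoreOf {q} L).mono
      (Set.singleton_subset_iff.2 hqs)) ((piCoreOf_le _ _).trans hLH) hp hpM hps hpi).2 ht1
    exact h3 ((hall_dvd hp hP hpL).trans (card_dvd_of_le ((h2.trans inf_le_right).trans
      (commutator_mono hNY hNY))))

/-- B & G 13.2 -/
theorem bg13_2 {M H P : Subgroup G} (hM : IsCoatom M) (hH : IsCoatom H) {p : ℕ} (hp : p.Prime)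
    (hps : p ∉ sigma M) (hr : PRankLE p 1 M) (hPM : P ≤ M) (hPp : IsPGroup p P) (hP1 : P ≠ ⊥)
    (hN : 𝓝(P) ≤ H) :
    (∀ g : G, H ≠ M ^ᵍ g) ∧ (∀ X ≤ M ⊓ H, IsPGroup p X → X ≤ 𝓒(sigmaCore M ⊓ H)) ∧
      (∀ X ≤ M ⊓ H, IsPi (sigma M)ᶜ X → IsPi (tau1 H)ᶜ X → X ≤ 𝓒(sigmaCore M ⊓ H)) ∧
      (⁅sigmaCore M ⊓ H, M ⊓ H⁆ ≠ ⊥ → p ∈ sigma H ∧ (p ∈ tau1 M → p ∈ beta H)) := by
  have hcl := prime_class hG hH hp hPp hP1 hN
  have hnc : ∀ g : G, H ≠ M ^ᵍ g := by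
    rintro g rfl
    rcases hcl with h | h
    · rw [sigma_cj] at h; exact hps h
    · exact h.2.2.2 (rank_cj.2 hr)
  have hPH : P ≤ H := le_normalizer.trans hN
  have hpP := pgroup_dvd_card hp hPp hP1
  have hpM := hpP.trans (card_dvd_of_le hPM)
  have hpH := hpP.trans (card_dvd_of_le hPH)
  have hpt : p ∉ tau1 H := by
    intro ht
    rcases hcl with h | h
    · exact ht.2.1 h
    · exact h.2.2.2 ht.2.2.2.2
  have hb : ∀ X ≤ M ⊓ H, IsPi (sigma M)ᶜ X → IsPi (tau1 H)ᶜ X → X ≤ 𝓒(sigmaCore M ⊓ H) := by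
    intro X hX hXs hXt
    by_cases hne : ⁅sigmaCore M ⊓ H, M ⊓ H⁆ = ⊥
    · exact hX.trans (le_cz_comm.1 (comm_eq_bot_iff.1 hne))
    refine le_of_syls fun r hr => ?_
    obtain ⟨S, hS⟩ := exists_syl hr X
    refine ⟨S, hS, ?_⟩
    by_cases hS1 : S = ⊥
    · rw [hS1]; exact bot_le
    have hSp := (hall_isPi hS).isPGroup hr
    have hrX := (pgroup_dvd_card hr hSp hS1).trans (card_dvd_of_le (hall_le hS))
    exact (bg13_1 hG hM hH hnc hr (hrX.trans (card_dvd_of_le (hX.trans inf_le_left)))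
      (hXs r hr hrX) (hrX.trans (card_dvd_of_le (hX.trans inf_le_right))) (hXt r hr hrX) hne).1 S
      ((hall_le hS).trans hX) hSp
  refine ⟨hnc, ?_, hb, ?_⟩
  · intro X hX hXp
    refine hb X hX ((isPi_of_isPGroup hp hXp).mono ?_) ((isPi_of_isPGroup hp hXp).mono ?_)
    · rintro r rfl; exact hps
    · rintro r rfl; exact hpt
  · intro hne
    obtain ⟨-, h2, h3⟩ := bg13_1 hG hM hH hnc hp hpM hps hpH hpt hne
    have hs := hcl.resolve_right h2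
    refine ⟨hs, fun ht => ⟨⟨hp, fun hr2 => ?_⟩, h3 ht⟩⟩
    obtain ⟨S, hS⟩ := exists_syl hp H
    have h4 := sigma_syl hs hS
    have h5 : PRankLE p 2 (⊤ : Subgroup G) := (rank_syl hp h4).2 (rank_mono (hall_le hS) hr2)
    exact (h3 ht).2.1 (rank_top_iff.2 fun A hA => rank_iff.1 h5 A le_top hA)

end

end CfsgLib.BGPi
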