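import Cfsg.Agent.EqBase
import Cfsg.Agent.LibBG13a

/-! B & G 13.3, 13.4, 13.5. -/

open Subgroup
open scoped Pointwise commutatorElement

namespace CfsgLib.BGPi

open Cfsg

universe u

section
variable {G : Type u} [Group G] [Finite G]

theorem isPi_of_card_prime {X : Subgroup G} {r : ℕ} (hr : r.Prime) (hX : Nat.card X = r) :
    IsPi {r} X := by
  intro s hs hd
  rw [hX] at hd
  exact (Nat.prime_dvd_prime_iff_eq hs hr).1 hd

theorem ne_bot_of_card_prime {X : Subgroup G} {r : ℕ} (hr : r.Prime) (hX : Nat.card X = r) :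
    X ≠ ⊥ := by
  rintro rfl
  rw [card_bot] at hX
  exact hr.one_lt.ne hX

variable (hG : IsMinSimpleOddOrder G)
include hG

/-- B & G 13.3 (a) -/
theorem bg13_3a {M E S : Subgroup G} (hM : IsCoatom M) (hE : IsPiHallOf (sigma M)ᶜ E M) {p : ℕ}
    (hp : p.Prime) (hS : IsPiHallOf {p} S E) (hc : IsCyclic S) {x : G} (hx : x ∈ S) (hx1 : x ≠ 1) :
    sigmaCore M ⊓ Subgroup.centralizer ({x} : Set G) = sigmaCore M ⊓ 𝓒(S) := by
  have hS1 : S ≠ ⊥ := by rintro rfl; exact hx1 (by simpa using hx)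
  have hSp := (hall_isPi hS).isPGroup hp
  have hpS := pgroup_dvd_card hp hSp hS1
  have hps : p ∉ sigma M := hall_isPi hE p hp (hpS.trans (card_dvd_of_le (hall_le hS)))
  have hSM : IsPiHallOf {p} S M := hall_trans hS hE (Set.singleton_subset_iff.2 hps)
  have hr : PRankLE p 1 M := (rank_syl hp hSM).2 (rank1_of_cyclic hp hc)
  set X := zpowers x with hX
  have hXS : X ≤ S := by rwa [hX, zpowers_le]
  have hX1 : X ≠ ⊥ := by rw [hX, Ne, zpowers_eq_bot]; exact hx1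
  have hXp := hSp.to_le hXS
  obtain ⟨H, hH, hN⟩ := exists_max hG (ms_nz_ne_top hG hX1 (ms_p_ne_top hG hp hXp))
  obtain ⟨-, ha, -, -⟩ := bg13_2 hG hM hH hp hps hr (hXS.trans (hall_le hSM)) hXp hX1 hN
  have hSab : S ≤ 𝓒(S) := comm_iff_le_cz.1 (by haveI := hc; infer_instance)
  have hSX : S ≤ 𝓒(X) := hSab.trans (cz_anti hXS)
  have hSH : S ≤ H := (hSX.trans (cz_le_nz X)).trans hN
  have h1 := ha S (le_inf (hall_le hSM) hSH) hSp
  have h2 : Subgroup.centralizer ({x} : Set G) = 𝓒(X) := (cz_zpowers x).symm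
  rw [h2]
  refine le_antisymm (le_inf inf_le_left ?_) (inf_le_inf le_rfl (cz_anti hXS))
  refine le_trans ?_ (le_cz_comm.1 h1)
  exact le_inf inf_le_left (inf_le_right.trans ((cz_le_nz X).trans hN))

theorem bg13_4_aux {M P R Q : Subgroup G} (hM : IsCoatom M) {p q r : ℕ} (hp : p ∈ tau1 M)
    (hPM : P ≤ M) (hP : Nat.card P = p) (hRM : R ≤ M) (hr : r.Prime) (hR : Nat.card R = r)
    (hrs : r ∉ sigma M) (hRP : R ≤ 𝓒(P)) (hq : q.Prime) (hQ : IsPGroup q Q)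
    (hQM : Q ≤ sigmaCore M) (hQP : Q ≤ 𝓒(P)) (hRQ : R ≤ 𝓝(Q)) (hne : ⁅Q, R⁆ ≠ ⊥) :
    ⁅⁅Q, R⁆, R⁆ = ⁅Q, R⁆ ∧ ∃ H, IsCoatom H ∧ (∀ g : G, H ≠ M ^ᵍ g) ∧ 𝓝(⁅Q, R⁆) ≤ H ∧
      q ∈ sigma H ∧ r ∈ tau1 H := by
  have hpp := hp.1
  have hps := hp.2.1
  have hPπ := isPi_of_card_prime hpp hP
  have hPp := hPπ.isPGroup hpp
  have hP1 := ne_bot_of_card_prime hpp hP
  have hRπ := isPi_of_card_prime hr hR
  have hR1 := ne_bot_of_card_prime hr hR
  obtain ⟨H, hH, hN⟩ := exists_max hG (nz_line_ne_top hG hpp hP)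
  obtain ⟨hnc, -, hb, hc⟩ := bg13_2 hG hM hH hpp hps hp.2.2.2.2 hPM hPp hP1 hN
  have hnc' : ∀ g : G, M ≠ H ^ᵍ g := fun g hg => hnc g⁻¹ (by rw [hg, cj_inv_cj])
  have hHM : H ≠ M := fun h => hnc 1 (by rw [cj_one]; exact h)
  have hCH : 𝓒(P) ≤ H := (cz_le_nz P).trans hN
  have hPH : P ≤ H := le_normalizer.trans hN
  have hRH := hRP.trans hCH
  have hQH := hQP.trans hCH
  have hQV : Q ≤ sigmaCore M ⊓ H := le_inf hQM hQH
  have hRn : ¬ R ≤ 𝓒(sigmaCore M ⊓ H) := by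
    intro h
    exact hne (comm_eq_bot_iff.2 (le_cz_comm.1 (h.trans (cz_anti hQV))))
  have hRs : IsPi (sigma M)ᶜ R := hRπ.mono (by rintro s rfl; exact hrs)
  have hrt : r ∈ tau1 H := by
    by_contra h
    exact hRn (hb R (le_inf hRM hRH) hRs (hRπ.mono (by rintro s rfl; exact h)))
  have hne' : ⁅sigmaCore M ⊓ H, M ⊓ H⁆ ≠ ⊥ := by
    intro h
    exact hRn ((le_inf hRM hRH).trans (le_cz_comm.1 (comm_eq_bot_iff.1 h)))
  obtain ⟨hpH, hpβ⟩ := hc hne'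
  have hpβ := hpβ hp
  have hQ1 : Q ≠ ⊥ := by
    rintro rfl
    exact hne (comm_eq_bot_iff.2 bot_le)
  have hqQ := pgroup_dvd_card hq hQ hQ1
  have hqs : q ∈ sigma M := hall_isPi (sigma_hall hG hM) q hq (hqQ.trans (card_dvd_of_le hQM))
  have hqp : q ≠ p := by rintro rfl; exact hps hqs
  have hrq : r ≠ q := by rintro rfl; exact hrs hqs
  have hrp : r ≠ p := by rintro rfl; exact hrt.2.1 hpH
  have hr2 : r ≠ 2 := ms_p2' hG hr (by rw [hR] : r ∣ Nat.card R)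
  have hp2 : p ≠ 2 := ms_p2' hG hpp (by rw [hP] : p ∣ Nat.card P)
  have hcRQ : (Nat.card R).Coprime (Nat.card Q) :=
    coprime_card_of_pgroup hq hQ (by rw [hR]; exact (Nat.coprime_primes hr hq).2 hrq)
  set K := ⁅Q, R⁆ with hK
  have hKQ : K ≤ Q := comm_le_left hRQ
  have hRK : R ≤ 𝓝(K) := right_le_nz_comm Q R
  have hKR : ⁅K, R⁆ = K := cop_comm_comm hRQ hcRQ (pgroup_solvable hq hQ)
  have hKq := hQ.to_le hKQ
  have hKπ := isPi_of_isPGroup hq hKq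
  refine ⟨hKR, H, hH, hnc, ?_⟩
  -- the invariant Sylow subgroup
  have hqα : q ∉ alpha H := fun h => alpha_disj hG hH hM hnc' h hqs
  have hrα : r ∉ alpha H := fun h => hrt.2.1 (alpha_sub_sigma hG hH h)
  have hpα := beta_sub_alpha hG hpβ
  have hBα : IsPi (alpha H)ᶜ (K ⊔ R) := IsPi.sup' (hKπ.mono (by rintro s rfl; exact hqα))
    (hRπ.mono (by rintro s rfl; exact hrα)) hRK
  have hBH : K ⊔ R ≤ H := sup_le (hKQ.trans hQH) hRH
  have hαH : alphaCore H ≤ H := hall_le (alpha_hall hG hH)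
  have hPα : P ≤ alphaCore H := le_hall_of_normal (alpha_hall hG hH) (le_nz_alphaCore hG H)
    (hPπ.mono (by rintro s rfl; exact hpα)) hPH
  obtain ⟨T, hT, hBT, hPT⟩ := cop_hall_ge (hBH.trans (le_nz_alphaCore hG H))
    (((hall_isPi (alpha_hall hG hH)).coprime hBα).symm) (solvable_sub hαH (max_sol hG hH))
    (solvable_sub hBH (max_sol hG hH)) hPπ hPα
    (sup_le (le_nz_of_le_cz (hKQ.trans hQP)) (le_nz_of_le_cz hRP))
  have hTH : IsPiHallOf {p} T H := hall_trans hT (alpha_hall hG hH) (Set.singleton_subset_iff.2 hpα)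
  have hTp := (hall_isPi hT).isPGroup hpp
  have hKT : K ≤ 𝓝(T) := le_sup_left.trans hBT
  have hRT : R ≤ 𝓝(T) := le_sup_right.trans hBT
  have hKC : K ≤ 𝓒(T) := by
    by_contra hcon
    have h1 := cz_rank2 hpp hp2 hTp (by rw [hR]; exact hr) (by rw [hR]; exact hr2)
      (by rw [hR]; exact hrp) (pgroup_solvable hq hKq) (ms_odd hG K)
      ((hKπ.coprime_of_dvd (n := p) (by
        rintro s hs rfl hd
        exact hqp ((Nat.prime_dvd_prime_iff_eq hs hpp).1 hd))))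
      (hcRQ.coprime_dvd_right (card_dvd_of_le hKQ)) hRK hKR hKT hRT hcon hP
      (le_cz_comm.1 (hKQ.trans hQP)) (le_inf hPT (le_cz_comm.1 hRP))
    have h2 : ¬ RankLE 1 ↥(alphaCore H ⊓ 𝓒(R)) := by
      refine not_rank_of_prank hpp fun h => h1 (rank_mono ?_ h)
      exact inf_le_inf (hall_le hT) le_rfl
    have h3 := bg10_3 hG hH hRH (hRπ.mono (by rintro s rfl; exact hrα)) h2
    have h4 : 𝓝(R) ≤ H := uniq_le h3 hH inf_le_left (inf_le_right.trans (cz_le_nz R))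
      (nz_line_ne_top hG hr hR)
    rcases prime_class hG hH hr (hRπ.isPGroup hr) hR1 h4 with h5 | h5
    · exact hrt.2.1 h5
    · exact h5.2.2.2 hrt.2.2.2.2
  have hTr : ¬ PRankLE p 2 T := fun h => hpα.2 ((rank_syl hpp hTH).2 h)
  have hTU := uniq_of_prank3 hG hpp hTr (ms_p_ne_top hG hpp hTp)
  have hNK : 𝓝(K) ≤ H := uniq_le hTU hH (hall_le hTH) ((le_cz_comm.1 hKC).trans (cz_le_nz K))
    (ms_nz_ne_top hG hne (ms_p_ne_top hG hq hKq))
  refine ⟨hNK, ?_, hrt⟩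
  by_contra hqH
  have hKM : K ≤ M := hKQ.trans (hQM.trans (sigmaCore_le hG hM))
  obtain ⟨S, hS, hKS⟩ := exists_syl_ge hq hKπ (le_inf hKM (hKQ.trans hQH))
  obtain ⟨A, -, A₀, -, -, -, h5, -, -⟩ := bg12_15e hG hM hH hqs hHM hqH hne hNK hS hKS
  apply hP1
  rw [← le_bot_iff, ← h5]
  exact le_inf hPM (syl_le_sigmaCore hG hH hpH hPπ hPH)

/-- invariant Sylow subgroups not centralized -/
theorem exists_inv_syl {V R : Subgroup G} (hV : Group.IsSolvable V) (hRV : R ≤ 𝓝(V))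
    (hcop : (Nat.card R).Coprime (Nat.card V)) (h : ¬ V ≤ 𝓒(R)) :
    ∃ q : ℕ, q.Prime ∧ ∃ Q, IsPiHallOf {q} Q V ∧ R ≤ 𝓝(Q) ∧ ⁅Q, R⁆ ≠ ⊥ := by
  by_contra hcon
  push Not at hcon
  apply h
  refine le_of_syls fun q hq => ?_
  obtain ⟨Q, hQ, hRQ⟩ := cop_hall_exists hRV hcop hV {q}
  exact ⟨Q, hQ, comm_eq_bot_iff.1 (hcon q hq Q hQ hRQ)⟩

theorem bg13_4_alpha {M P R : Subgroup G} (hM : IsCoatom M) {p r : ℕ} (hp : p ∈ tau1 M)
    (hPM : P ≤ M) (hP : Nat.card P = p) (hRM : R ≤ M) (hr : r.Prime) (hR : Nat.card R = r)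
    (hrs : r ∉ sigma M) (hRP : R ≤ 𝓒(P)) : alphaCore M ⊓ 𝓒(P) ≤ 𝓒(R) := by
  by_contra hcon
  have hαM : alphaCore M ≤ M := hall_le (alpha_hall hG hM)
  have hRn : R ≤ 𝓝(alphaCore M ⊓ 𝓒(P)) := le_nz_inf (hRM.trans (le_nz_alphaCore hG M))
    (le_nz_cz (le_nz_of_le_cz hRP))
  have hrα : r ∉ alpha M := fun h => hrs (alpha_sub_sigma hG hM h)
  have hcop : (Nat.card R).Coprime (Nat.card ↥(alphaCore M ⊓ 𝓒(P))) :=
    (((hall_isPi (alpha_hall hG hM)).le inf_le_left).coprime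
      ((isPi_of_card_prime hr hR).mono (by rintro s rfl; exact hrα))).symm
  obtain ⟨q, hq, Q, hQ, hRQ, hne⟩ := exists_inv_syl hG (solvable_sub (inf_le_left.trans hαM)
    (max_sol hG hM)) hRn hcop hcon
  have hQα : Q ≤ alphaCore M := (hall_le hQ).trans inf_le_left
  obtain ⟨-, H, hH, hnc, -, hqH, -⟩ := bg13_4_aux hG hM hp hPM hP hRM hr hR hrs hRP hq
    ((hall_isPi hQ).isPGroup hq) (hQα.trans (alpha_le_sigma hG hM)) ((hall_le hQ).trans inf_le_right)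
    hRQ hne
  have hQ1 : Q ≠ ⊥ := by
    rintro rfl
    exact hne (comm_eq_bot_iff.2 bot_le)
  have hqα : q ∈ alpha M := hall_isPi (alpha_hall hG hM) q hq
    ((pgroup_dvd_card hq ((hall_isPi hQ).isPGroup hq) hQ1).trans (card_dvd_of_le hQα))
  exact alpha_disj hG hM hH hnc hqα hqH

/-- B & G 13.4 -/
theorem bg13_4 {M P R : Subgroup G} (hM : IsCoatom M) {p r : ℕ} (hp : p ∈ tau1 M)
    (hPM : P ≤ M) (hP : Nat.card P = p) (hRM : R ≤ M) (hr : r.Prime) (hR : Nat.card R = r)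
    (hrs : r ∉ sigma M) (hRP : R ≤ 𝓒(P)) : sigmaCore M ⊓ 𝓒(P) ≤ 𝓒(R) := by
  by_contra hcon
  have hσM := sigmaCore_le hG hM
  have hRn : R ≤ 𝓝(sigmaCore M ⊓ 𝓒(P)) := le_nz_inf (hRM.trans (le_nz_sigmaCore hG M))
    (le_nz_cz (le_nz_of_le_cz hRP))
  have hcop : (Nat.card R).Coprime (Nat.card ↥(sigmaCore M ⊓ 𝓒(P))) :=
    (((hall_isPi (sigma_hall hG hM)).le inf_le_left).coprime
      ((isPi_of_card_prime hr hR).mono (by rintro s rfl; exact hrs))).symm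
  obtain ⟨q, hq, Q, hQ, hRQ, hne⟩ := exists_inv_syl hG (solvable_sub (inf_le_left.trans hσM)
    (max_sol hG hM)) hRn hcop hcon
  have hQσ : Q ≤ sigmaCore M := (hall_le hQ).trans inf_le_left
  have hQp := (hall_isPi hQ).isPGroup hq
  have hQP := (hall_le hQ).trans (inf_le_right : sigmaCore M ⊓ 𝓒(P) ≤ 𝓒(P))
  obtain ⟨hKR, H, hH, hnc, hNK, hqH, hrt⟩ := bg13_4_aux hG hM hp hPM hP hRM hr hR hrs hRP hq
    hQp hQσ hQP hRQ hne
  set K := ⁅Q, R⁆ with hK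
  have hKQ : K ≤ Q := comm_le_left hRQ
  have hKp := hQp.to_le hKQ
  have hKM : K ≤ M := hKQ.trans (hQσ.trans hσM)
  have hRK : R ≤ 𝓝(K) := right_le_nz_comm Q R
  have hHM : H ≠ M := fun h => hnc 1 (by rw [cj_one]; exact h)
  have hqs : q ∈ sigma M := hall_isPi (sigma_hall hG hM) q hq
    ((pgroup_dvd_card hq hKp hne).trans (card_dvd_of_le (hKQ.trans hQσ)))
  have hqα : q ∉ alpha M := fun h => alpha_disj hG hM hH hnc h hqH
  have hrα : r ∉ alpha M := fun h => hrs (alpha_sub_sigma hG hM h)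
  obtain ⟨S, hS, hKS⟩ := exists_syl_ge hq (isPi_of_isPGroup hq hKp)
    (le_inf hKM (le_normalizer.trans hNK))
  have hr1 : r ∈ tau1 M := bg12_15d2 hG hM hH hqs hKp hne hKM hHM hqH hNK hS hKS hrt hrα
  have h1 := bg13_4_alpha hG hM hp hPM hP hRM hr hR hrs hRP
  have h2 := bg13_4_alpha hG hM hr1 hRM hR hPM hp.1 hP hp.2.1 (le_cz_comm.1 hRP)
  have hαM : alphaCore M ≤ M := hall_le (alpha_hall hG hM)
  have hKα : K ≤ 𝓝(alphaCore M) := hKM.trans (le_nz_alphaCore hG M)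
  have hRα : R ≤ 𝓝(alphaCore M) := hRM.trans (le_nz_alphaCore hG M)
  set C := alphaCore M ⊓ 𝓒(R) with hC
  have hCeq : C = alphaCore M ⊓ 𝓒(P) :=
    le_antisymm (le_inf inf_le_left h2) (le_inf inf_le_left h1)
  have hKC : K ≤ 𝓝(C) := by
    rw [hCeq]
    exact le_nz_inf hKα (le_nz_cz (le_nz_of_le_cz (hKQ.trans hQP)))
  have hfix : C ≤ 𝓒(⁅K, R⁆) := by
    rw [le_cz_comm, ← comm_eq_bot_iff]
    refine three_le (A := R) (B := C) (C := K) ?_ ?_
    · have : ⁅R, C⁆ = ⊥ := comm_eq_bot_iff.2 (le_cz_comm.1 inf_le_right)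
      rw [this, comm_eq_bot_iff]; exact bot_le
    · rw [comm_eq_bot_iff]
      exact (comm_le_left hKC).trans inf_le_right
  have hKπ := isPi_of_isPGroup hq hKp
  have h3 := l34s (V := alphaCore M) (K := K) (X := R) (solvable_sub hαM (max_sol hG hM))
    (by rw [hR]; exact hr) (by rw [hR]; exact ms_p2' hG hr (by rw [hR] : r ∣ Nat.card R))
    (pgroup_solvable hq hKp) (ms_odd hG K)
    (((hall_isPi (alpha_hall hG hM)).coprime (hKπ.mono (by rintro s rfl; exact hqα))).symm)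
    (((hall_isPi (alpha_hall hG hM)).coprime ((isPi_of_card_prime hr hR).mono
      (by rintro s rfl; exact hrα))).symm)
    (by
      rw [hR]
      refine (hKπ.coprime_of_dvd (n := r) ?_).symm
      rintro s hs rfl hd
      exact hrs (by rw [← (Nat.prime_dvd_prime_iff_eq hs hr).1 hd]; exact hqs)) hRK hKα hRα hfix
  rw [hKR] at h3
  have hα1 := alphaCore_ne_bot hG hM hH hnc hqs hqH
  obtain ⟨t, ht, htd⟩ := exists_prime_dvd_of_ne_bot hα1
  have htα := hall_isPi (alpha_hall hG hM) t ht htd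
  obtain ⟨T, hT⟩ := exists_syl ht (alphaCore M)
  have hTM : IsPiHallOf {t} T M := hall_trans hT (alpha_hall hG hM) (Set.singleton_subset_iff.2 htα)
  have hTp := (hall_isPi hT).isPGroup ht
  have hTr : ¬ PRankLE t 2 T := fun h => htα.2 ((rank_syl ht hTM).2 h)
  have hTU := uniq_of_prank3 hG ht hTr (ms_p_ne_top hG ht hTp)
  have hTH : T ≤ H := (hall_le hT).trans ((le_cz_comm.1 h3).trans ((cz_le_nz K).trans hNK))
  exact hHM (uniq_eq hTU hM (hall_le hTM) hH hTH)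

end

end CfsgLib.BGPi
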