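import Cfsg.Agent.EqBase
import Cfsg.Agent.LibBG13b

/-! B & G 13.3 (b), 13.5, 13.6. -/

open Subgroup
open scoped Pointwise commutatorElement

namespace CfsgLib.BGPi

open Cfsg

universe u

section
variable {G : Type u} [Group G] [Finite G]

theorem exists_card_prime {H : Subgroup G} {p : ℕ} (hp : p.Prime) (h : p ∣ Nat.card H) :
    ∃ P ≤ H, Nat.card P = p := by
  haveI : Fact p.Prime := ⟨hp⟩
  obtain ⟨⟨x, hx⟩, hxo⟩ := exists_prime_orderOf_dvd_card' p h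
  rw [Subgroup.orderOf_mk] at hxo
  exact ⟨zpowers x, by rwa [zpowers_le], by rw [Nat.card_zpowers, hxo]⟩

theorem exists_prime_sub {H : Subgroup G} (h : H ≠ ⊥) :
    ∃ p : ℕ, p.Prime ∧ p ∣ Nat.card H ∧ ∃ P ≤ H, Nat.card P = p := by
  obtain ⟨p, hp, hd⟩ := exists_prime_dvd_of_ne_bot h
  exact ⟨p, hp, hd, exists_card_prime hp hd⟩

theorem cz_gen {P : Subgroup G} {ρ : G} (h : P = zpowers ρ) :
    𝓒(P) = Subgroup.centralizer ({ρ} : Set G) := by rw [h, cz_zpowers]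

variable (hG : IsMinSimpleOddOrder G)
include hG

theorem bg13_3a' {M Q X : Subgroup G} (hM : IsCoatom M) {q : ℕ} (hq : q.Prime)
    (hqs : q ∉ sigma M) (hr : PRankLE q 1 M) (hQ : IsPGroup q Q) (hQM : Q ≤ M) (hXQ : X ≤ Q)
    (hX1 : X ≠ ⊥) : sigmaCore M ⊓ 𝓒(X) ≤ 𝓒(Q) := by
  obtain ⟨x, hx, hx1⟩ := X.bot_or_exists_ne_one.resolve_left hX1
  have hQπ := isPi_of_isPGroup hq hQ
  obtain ⟨E, hE, hQE⟩ := hall_exists_ge (π := (sigma M)ᶜ) (max_sol hG hM)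
    (hQπ.mono (by rintro s rfl; exact hqs)) hQM
  obtain ⟨S, hS, hQS⟩ := exists_syl_ge hq hQπ hQE
  have hqX := (pgroup_dvd_card hq (hQ.to_le hXQ) hX1)
  have hc : IsCyclic S := cyclic_of_rank1 hq (ms_p2' hG hq hqX) ((hall_isPi hS).isPGroup hq)
    (rank_mono ((hall_le hS).trans (hall_le hE)) hr)
  have h1 := bg13_3a hG hM hE hq hS hc (hQS (hXQ hx)) hx1
  have h2 : 𝓒(X) ≤ Subgroup.centralizer ({x} : Set G) := by
    rw [← cz_zpowers]; exact cz_anti (by rwa [zpowers_le])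
  calc sigmaCore M ⊓ 𝓒(X) ≤ sigmaCore M ⊓ Subgroup.centralizer ({x} : Set G) :=
        inf_le_inf le_rfl h2
    _ = sigmaCore M ⊓ 𝓒(S) := h1
    _ ≤ 𝓒(Q) := inf_le_right.trans (cz_anti hQS)

/-- B & G 13.5 -/
theorem bg13_5 {M E E₁ P : Subgroup G} (hM : IsCoatom M) (hE : IsPiHallOf (sigma M)ᶜ E M)
    (h1 : IsPi (tau1 M) E₁) (h1E : E₁ ≤ E) (hP : P ≤ E₁) (hP1 : P ≠ ⊥) :
    sigmaCore M ⊓ 𝓒(P) = sigmaCore M ⊓ 𝓒(E₁) := by
  refine le_antisymm (le_inf inf_le_left ?_) (inf_le_inf le_rfl (cz_anti hP))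
  have hcyc : IsCyclic E₁ := bg12_1a hG hM hE h1 h1E
  have hab : E₁ ≤ 𝓒(E₁) := comm_iff_le_cz.1 (by haveI := hcyc; infer_instance)
  obtain ⟨p, hp, hpP, P₀, hP0, hP0c⟩ := exists_prime_sub hP1
  have hpt : p ∈ tau1 M := h1 p hp (hpP.trans (card_dvd_of_le hP))
  have hEM := hall_le hE
  rw [le_cz_comm]
  refine le_of_syls fun q hq => ?_
  obtain ⟨Q, hQ⟩ := exists_syl hq E₁
  refine ⟨Q, hQ, ?_⟩
  by_cases hQ1 : Q = ⊥
  · rw [hQ1]; exact bot_le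
  have hQp := (hall_isPi hQ).isPGroup hq
  have hqQ := pgroup_dvd_card hq hQp hQ1
  have hqt : q ∈ tau1 M := h1 q hq (hqQ.trans (card_dvd_of_le (hall_le hQ)))
  obtain ⟨R, hRQ, hRc⟩ := exists_card_prime hq hqQ
  have hRE := hRQ.trans (hall_le hQ)
  have h2 := bg13_4 hG hM hpt (((hP0.trans hP).trans h1E).trans hEM) hP0c ((hRE.trans h1E).trans hEM)
    hq hRc hqt.2.1 ((hRE.trans hab).trans (cz_anti (hP0.trans hP)))
  have h3 := bg13_3a' hG hM hq hqt.2.1 hqt.2.2.2.2 hQp (((hall_le hQ).trans h1E).trans hEM) hRQ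
    (ne_bot_of_card_prime hq hRc)
  rw [le_cz_comm]
  calc sigmaCore M ⊓ 𝓒(P) ≤ sigmaCore M ⊓ 𝓒(P₀) := inf_le_inf le_rfl (cz_anti hP0)
    _ ≤ sigmaCore M ⊓ 𝓒(R) := le_inf inf_le_left h2
    _ ≤ 𝓒(Q) := h3

/-- B & G 13.3 (b) -/
theorem bg13_3b {M E E₃ R : Subgroup G} (hM : IsCoatom M) (hE : IsPiHallOf (sigma M)ᶜ E M)
    (h3 : IsPiHallOf (tau3 M) E₃ E) (hR : R ≤ E₃) (hR1 : R ≠ ⊥) :
    sigmaCore M ⊓ 𝓒(R) ≤ 𝓒(E₃) := by
  obtain ⟨hcyc, hder, hn⟩ := bg12_1c hG hM hE h3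
  obtain ⟨r, hr, hrR, R₀, hR0, hR0c⟩ := exists_prime_sub hR1
  have hrt : r ∈ tau3 M := hall_isPi h3 r hr (hrR.trans (card_dvd_of_le hR))
  obtain ⟨H, hH, hN⟩ := exists_max hG (nz_line_ne_top hG hr hR0c)
  have hEH : E ≤ H := (hn.trans (nz_of_cyclic hcyc (hR0.trans hR))).trans hN
  have hEM := hall_le hE
  have h3E := hall_le h3
  obtain ⟨-, -, hb, -⟩ := bg13_2 hG hM hH hr hrt.2.1 hrt.2.2.2 ((hR0.trans hR).trans (h3E.trans hEM))
    ((isPi_of_card_prime hr hR0c).isPGroup hr) (ne_bot_of_card_prime hr hR0c) hN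
  have h1 := hb E₃ (h3E.trans (le_inf hEM hEH)) ((hall_isPi hE).le h3E) (by
    intro s hs hd ht
    exact ht.2.2.2.1 (hd.trans (card_dvd_of_le (hder.trans (commutator_mono hEH hEH)))))
  rw [le_cz_comm] at h1
  refine le_trans ?_ h1
  exact le_inf inf_le_left (inf_le_right.trans ((cz_anti hR0).trans ((cz_le_nz R₀).trans hN)))

/-- the derived subgroup of a complement centralizes invariant Sylow subgroups for non-`β` primes -/
theorem der_cz_syl {M E Q : Subgroup G} (hM : IsCoatom M) (hE : IsPiHallOf (sigma M)ᶜ E M) {q : ℕ}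
    (hq : q ∈ sigma M) (hqβ : q ∉ beta M) (hQ : IsPi {q} Q) (hQM : Q ≤ sigmaCore M)
    (hEQ : E ≤ 𝓝(Q)) : ⁅E, E⁆ ≤ 𝓒(Q) := by
  have hEM := hall_le hE
  have hDE : ⁅E, E⁆ ≤ E := comm_self_le E
  have hDM : ⁅M, M⁆ ≤ M := comm_self_le M
  have hβσ : beta M ⊆ sigma M := (beta_sub_alpha hG).trans (alpha_sub_sigma hG hM)
  have hDσ : IsPi (sigma M)ᶜ ⁅E, E⁆ := (hall_isPi hE).le hDE
  have hDπ : IsPi (beta M)ᶜ ⁅E, E⁆ := IsPi.mono (Set.compl_subset_compl.2 hβσ) hDσ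
  have hTπ : IsPi (beta M)ᶜ (⁅E, E⁆ ⊔ Q) := IsPi.sup hDπ
    (hQ.mono (by rintro s rfl; exact hqβ)) (hDE.trans hEQ)
  have hTM : ⁅E, E⁆ ⊔ Q ≤ ⁅M, M⁆ :=
    sup_le (commutator_mono hEM hEM) (hQM.trans (sigma_le_der hG hM))
  obtain ⟨L, hL, hTL⟩ := hall_exists_ge (solvable_sub hDM (max_sol hG hM)) hTπ hTM
  have hLn := (beta_frat hG hM hL).1
  rw [le_cz_comm]
  refine nilpotent_commute (π := {q}) hLn (le_sup_right.trans hTL) (le_sup_left.trans hTL) hQ ?_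
  refine IsPi.mono ?_ hDσ
  intro s hs hsq
  rw [Set.mem_singleton_iff] at hsq
  exact hs (hsq ▸ hq)

theorem bg13_6_aux {M P X : Subgroup G} (hM : IsCoatom M) {p q : ℕ} (hp : p ∈ tau1 M)
    (hPM : P ≤ M) (hP : Nat.card P = p) (hq : q.Prime) (hX : Nat.card X = q)
    (hXM : X ≤ sigmaCore M) (hXP : X ≤ 𝓒(P)) :
    q ∈ beta M ∨ X ≤ ⁅sigmaCore M, sigmaCore M⁆ := by
  by_contra hcon
  push Not at hcon
  obtain ⟨hqβ, hXd⟩ := hcon
  have hpp := hp.1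
  have hPπ := isPi_of_card_prime hpp hP
  have hXπ := isPi_of_card_prime hq hX
  have hqs : q ∈ sigma M := hall_isPi (sigma_hall hG hM) q hq
    ((by rw [hX] : q ∣ Nat.card X).trans (card_dvd_of_le hXM))
  have hσM := sigmaCore_le hG hM
  have hMn := le_nz_sigmaCore hG M
  have hVs := sigmaCore_sol hG hM
  obtain ⟨E, hE, hPE⟩ := hall_exists_ge (π := (sigma M)ᶜ) (max_sol hG hM)
    (hPπ.mono (by rintro s rfl; exact hp.2.1)) hPM
  have hEM := hall_le hE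
  have hEs := solvable_sub hEM (max_sol hG hM)
  have hcE : (Nat.card E).Coprime (Nat.card (sigmaCore M)) :=
    ((hall_isPi (sigma_hall hG hM)).coprime (hall_isPi hE)).symm
  obtain ⟨Q, hQ, hEQ⟩ := cop_hall_exists (hEM.trans hMn) hcE hVs {q}
  have hcP := hcE.coprime_dvd_left (card_dvd_of_le hPE)
  have hQC := cop_hall_cz ((hPE.trans hEM).trans hMn) hcP hVs (solvable_sub hPE hEs) hQ
    (hPE.trans hEQ)
  obtain ⟨c, hc, hXc⟩ := syl_subj hq hQC hXπ (le_inf hXM hXP)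
  set Y := X ^ᵍ c with hY
  have hYQ : Y ≤ Q := hXc.trans inf_le_left
  have hYP : Y ≤ 𝓒(P) := hXc.trans inf_le_right
  have hYM : Y ≤ sigmaCore M := hYQ.trans (hall_le hQ)
  have hYd : ¬ Y ≤ ⁅sigmaCore M, sigmaCore M⁆ := by
    intro h
    apply hXd
    have h1 : ⁅sigmaCore M, sigmaCore M⁆ ^ᵍ c = ⁅sigmaCore M, sigmaCore M⁆ :=
      cj_le_of_le_nz (left_le_nz_comm (sigmaCore M) (sigmaCore M)) hc.1
    rw [← h1] at h
    exact (cj_le_cj c).1 h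
  have hE'Q : ⁅E, E⁆ ≤ 𝓒(Q) :=
    der_cz_syl hG hM hE hqs hqβ (hall_isPi hQ) (hall_le hQ) hEQ
  have hE'Y : ⁅E, E⁆ ≤ 𝓒(Y) := hE'Q.trans (cz_anti hYQ)
  apply hYd
  have hEY : E ≤ 𝓒(Y) := by
    refine le_of_syls fun s hs => ?_
    by_cases hsE : s ∣ Nat.card E
    swap
    · obtain ⟨S, hS⟩ := exists_syl hs E
      refine ⟨S, hS, ?_⟩
      by_cases hS1 : S = ⊥
      · rw [hS1]; exact bot_le
      · exact absurd ((pgroup_dvd_card hs ((hall_isPi hS).isPGroup hs) hS1).trans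
          (card_dvd_of_le (hall_le hS))) hsE
    have hsσ : s ∉ sigma M := hall_isPi hE s hs hsE
    have hsM := hsE.trans (card_dvd_of_le hEM)
    by_cases hs2 : s ∈ tau2 M
    · exfalso
      obtain ⟨A, hAE, A₀, c'⟩ := exists_exc_tau2 hG hM hE hs2
      have hEA := c'.nzE hG hE hAE
      have hsp : s ≠ p := by rintro rfl; exact hs2.2.2.2 hp.2.2.2.2
      have hAp := elab_isPi hs c'.el
      have hcop : (Nat.card P).Coprime (Nat.card A) := by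
        rw [hP]
        refine (hAp.coprime_of_dvd (n := p) ?_).symm
        rintro t ht rfl hd
        exact hsp ((Nat.prime_dvd_prime_iff_eq ht hpp).1 hd)
      have h1 := cop_comm_sup (hPE.trans hEA) hcop (solvable_sub hAE hEs)
      have h2 : A ≤ 𝓒(Y) := by
        rw [← h1]
        refine sup_le ((commutator_mono hAE hPE).trans hE'Y) ?_
        rintro a ⟨haA, haP⟩
        by_cases ha1 : a = 1
        · rw [ha1]; exact one_mem _
        have hac : Nat.card (zpowers a) = s :=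
          zpowers_card_prime hs ((elab_iff.1 c'.el).2 a haA) ha1
        have h3 := bg13_4 hG hM hp hPM hP (R := zpowers a)
          (by rw [zpowers_le]; exact hEM (hAE haA)) hs hac hsσ (by rw [zpowers_le]; exact haP)
        exact (le_cz_comm.1 ((le_inf hYM hYP).trans h3)) (mem_zpowers a)
      have h3 : Y ≤ sigmaCore M ⊓ 𝓒(A) := le_inf hYM (le_cz_comm.1 h2)
      rw [c'.inf_cz hG, le_bot_iff] at h3
      exact ne_bot_of_card_prime hq (by rw [hY, card_cj, hX]) h3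
    have hr1 : PRankLE s 1 M := by
      by_contra h
      exact hs2 ⟨hs, hsσ, rank_of_not_sigma hG hM hs hsσ, h⟩
    by_cases hd : s ∣ Nat.card ↥⁅M, M⁆
    · obtain ⟨S, hS⟩ := exists_syl hs E
      refine ⟨S, hS, le_trans ?_ hE'Y⟩
      refine cyc_syl_le_der hs hEs hS ?_ (der_dvd hG hM hE hs hsσ hd)
      exact cyclic_of_rank1 hs (ms_p2' hG hs hsE) ((hall_isPi hS).isPGroup hs)
        (rank_mono ((hall_le hS).trans hEM) hr1)
    · have hst : s ∈ tau1 M := ⟨hs, hsσ, hsM, hd, hr1⟩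
      obtain ⟨E₁, hE1, hPE1⟩ := hall_exists_ge (π := tau1 M) hEs
        (hPπ.mono (by rintro t rfl; exact hp)) hPE
      have h1 := bg13_5 hG hM hE (hall_isPi hE1) (hall_le hE1) hPE1 (ne_bot_of_card_prime hpp hP)
      obtain ⟨S, hS⟩ := exists_syl hs E₁
      refine ⟨S, hall_trans hS hE1 (Set.singleton_subset_iff.2 hst), (hall_le hS).trans ?_⟩
      rw [le_cz_comm]
      exact (le_inf hYM hYP).trans (h1.le.trans inf_le_right)
  exact (le_inf hYM (le_cz_comm.1 hEY)).trans (bg12_17 hG hM hE).1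

/-- B & G 13.6 -/
theorem bg13_6 {M P X : Subgroup G} (hM : IsCoatom M) {p q : ℕ} (hp : p ∈ tau1 M)
    (hPM : P ≤ M) (hP : Nat.card P = p) (hq : q.Prime) (hX : Nat.card X = q)
    (hXM : X ≤ sigmaCore M) (hXP : X ≤ 𝓒(P)) :
    𝓒(X) ≤ M ∧ (∀ L : Subgroup G, IsCoatom L → 𝓒(X) ≤ L → L = M) ∧
      ∀ S, IsPiHallOf {q} S M → InUniqueMaximal S := by
  have hqs : q ∈ sigma M := hall_isPi (sigma_hall hG hM) q hq
    ((by rw [hX] : q ∣ Nat.card X).trans (card_dvd_of_le hXM))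
  exact bg12_14' hG hM hqs (hXM.trans (sigmaCore_le hG hM)) hX
    (bg13_6_aux hG hM hp hPM hP hq hX hXM hXP)

end

end CfsgLib.BGPi
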