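import Cfsg.Agent.EqBase
import Cfsg.Agent.LibBG13c

/-! B & G 13.8, 13.9. -/

open Subgroup
open scoped Pointwise commutatorElement

namespace CfsgLib.BGPi

open Cfsg

universe u

section
variable {G : Type u} [Group G] [Finite G]

theorem hall_normal_inf {π : Set ℕ} {H M T : Subgroup G} (h : IsPiHallOf π H M)
    (hn : M ≤ 𝓝(H)) (hT : T ≤ M) : IsPiHallOf π (H ⊓ T) T := by
  refine hall_iff.2 ⟨inf_le_right, (hall_isPi h).le inf_le_left, fun p hp hpπ hd => ?_⟩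
  rw [inf_relIndex_right] at hd
  have h1 : H.relIndex T = H.relIndex (T ⊔ H) := (relIndex_sup_eq (hT.trans hn)).symm
  have h2 : H.relIndex (T ⊔ H) ∣ H.relIndex M := by
    have h3 : H.relIndex (T ⊔ H) * (T ⊔ H).relIndex M = H.relIndex M :=
      relIndex_mul_relIndex _ _ _ le_sup_right (sup_le hT (hall_le h))
    exact ⟨_, h3.symm⟩
  rw [h1] at hd
  exact (hall_iff.1 h).2.2 p hp hpπ (hd.trans h2)

/-- a coprime group inside the derived subgroup centralizes a normal subgroup of rank one -/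
theorem der_cz_rank1 {D A Q : Subgroup G} (hDA : D ≤ 𝓝(A)) (hAs : Group.IsSolvable A)
    (hodd : Odd (Nat.card A)) (hr : RankLE 1 A) (hQD : Q ≤ ⁅D, D⁆)
    (hcop : (Nat.card Q).Coprime (Nat.card A)) : Q ≤ 𝓒(A) := by
  set F := fittingOf A with hF
  have hFA : F ≤ A := fittingOf_le A
  have hFn := fittingOf_nilpotent A
  have hFr : RankLE 1 F := fun p hp => rank_mono hFA (hr p hp)
  have hFc : IsCyclic F := cyclic_of_nilp_rank1 (Odd.of_dvd_nat hodd (card_dvd_of_le hFA)) hFn hFr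
  have hDF : D ≤ 𝓝(F) := hDA.trans (nz_le_nz_fittingOf A)
  have h1 : ⁅D, D⁆ ≤ 𝓒(F) := comm_le_cz_cyclic hFc hDF
  exact cop_fitting (((hQD.trans (comm_self_le D))).trans hDA) hcop hAs (hQD.trans h1)

variable (hG : IsMinSimpleOddOrder G)
include hG

theorem maxE2_not_ideal {q : ℕ} (hq : q.Prime) {A : Subgroup G} (e2 : MaxE2 q A) :
    ¬ IsIdealPrime q G := by
  intro h
  obtain ⟨P, hP, hAP⟩ := exists_syl_ge hq (elab_isPi hq e2.el) (le_top (a := A))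
  haveI : Fact q.Prime := ⟨hq⟩
  obtain ⟨P', hP'⟩ := exists_sylow_of_hall_top hP
  obtain ⟨B, hB, hBe, hlt⟩ := h.2.2 P' A (by rw [hP']; exact hAP) e2.el e2.card
  exact hlt.ne' (e2.max B hBe hlt.le)

theorem beta_nz {M Y : Subgroup G} (hM : IsCoatom M) {q : ℕ} (hq : q ∈ beta M)
    (hYM : Y ≤ M) (hYp : IsPGroup q Y) (hY1 : Y ≠ ⊥) : 𝓝(Y) ≤ M := by
  by_contra hcon
  have hqα := beta_sub_alpha hG hq
  have hqs := alpha_sub_sigma hG hM hqα
  have hqp := sigma_prime hqs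
  obtain ⟨K, hK, hNK⟩ := exists_max hG (ms_nz_ne_top hG hY1 (ms_p_ne_top hG hqp hYp))
  have hne : K ≠ M := by rintro rfl; exact hcon hNK
  have hnc := bg12_15a hG hM hqs hYp hY1 hYM hne hNK
  by_cases hqK : q ∈ sigma K
  · exact alpha_disj hG hM hK hnc hqα hqK
  · obtain ⟨S, hS, hYS⟩ := exists_syl_ge hqp (isPi_of_isPGroup hqp hYp)
      (le_inf hYM (le_normalizer.trans hNK))
    obtain ⟨A, -, A₀, c, -⟩ := bg12_15e hG hM hK hqs hne hqK hY1 hNK hS hYS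
    exact maxE2_not_ideal hG hqp (c.e2 hG) hq.2

/-- Frattini for `M_β` and Sylow subgroups in `M'` -/
theorem beta_nz_syl' {M S : Subgroup G} (hM : IsCoatom M) {q : ℕ} (hqp : q.Prime)
    (hqβ : q ∉ beta M) (hS : IsPiHallOf {q} S M) (hSD : S ≤ ⁅M, M⁆) :
    piCoreOf (beta M) M ⊔ (M ⊓ 𝓝(S)) = M := by
  have hDM : ⁅M, M⁆ ≤ M := comm_self_le M
  obtain ⟨L, hL, hSL⟩ := hall_exists_ge (π := (beta M)ᶜ) (solvable_sub hDM (max_sol hG hM))
    ((hall_isPi hS).mono (Set.singleton_subset_iff.2 hqβ)) hSD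
  obtain ⟨hLn, h1⟩ := beta_frat hG hM hL
  have h2 : IsPiHallOf {q} S L := hall_le_of_le hS hSL ((hall_le hL).trans hDM)
  have h3 : piCoreOf {q} L = S := nilp_pcore_hall hG hLn h2
  have h4 : 𝓝(L) ≤ 𝓝(S) := by rw [← h3]; exact nz_le_nz_piCoreOf _ _
  refine le_antisymm (sup_le (piCoreOf_le _ _) inf_le_left) ?_
  conv_lhs => rw [← h1]
  exact sup_le_sup le_rfl (inf_le_inf le_rfl h4)

theorem betaCore_le {M : Subgroup G} : piCoreOf (beta M) M ≤ alphaCore M := by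
  exact piCoreOf_mono_set (beta_sub_alpha hG) M

/-- one half of the configuration of 13.8 -/
theorem bg13_8a {M H P Q : Subgroup G} (hM : IsCoatom M) (hH : IsCoatom H) (hne : H ≠ M) {p q : ℕ}
    (hpM : p ∈ tau1 M) (hPD : P ≤ M ⊓ H) (hP : Nat.card P = p) (hq : q.Prime)
    (hQ : IsPiHallOf {q} Q (M ⊓ H)) (hPQ : P ≤ 𝓝(Q)) (hQP : Q ⊓ 𝓒(P) = ⊥) (hN : 𝓝(Q) ≤ H) :
    Q ≤ ⁅M ⊓ H, M ⊓ H⁆ ∧ piCoreOf (beta M) M ⊔ (M ⊓ H) = M ∧
      ¬ piCoreOf (beta M) M ⊓ 𝓒(P) ≤ 𝓒(Q) ∧ RankLE 1 ↥(alphaCore M ⊓ 𝓒(P)) ∧ q ∉ alpha M := by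
  have hpp := hpM.1
  have hPπ := isPi_of_card_prime hpp hP
  have hP1 := ne_bot_of_card_prime hpp hP
  have hQp := (hall_isPi hQ).isPGroup hq
  have hqp : q ≠ p := by
    rintro rfl
    have h1 : P ≤ Q := by
      have h2 : IsPi {q} (Q ⊔ P) := IsPi.sup' (hall_isPi hQ) hPπ hPQ
      have h3 := hall_eq_of_le hQ h2 (sup_le (hall_le hQ) hPD) le_sup_left
      rw [h3]; exact le_sup_right
    apply hP1
    rw [← le_bot_iff, ← hQP]
    refine le_inf h1 ?_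
    haveI : Fact q.Prime := ⟨hq⟩
    haveI := isCyclic_of_prime_card hP
    exact comm_iff_le_cz.1 inferInstance
  have hcop : (Nat.card P).Coprime (Nat.card Q) := by
    rw [hP]
    refine ((hall_isPi hQ).coprime_of_dvd (n := p) ?_).symm
    rintro t ht rfl hd
    exact hqp ((Nat.prime_dvd_prime_iff_eq ht hpp).1 hd)
  have hQs := pgroup_solvable hq hQp
  have hQQ : ⁅Q, P⁆ = Q := by
    have h1 := cop_comm_sup hPQ hcop hQs
    rwa [hQP, sup_bot_eq] at h1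
  have hQD : Q ≤ ⁅M ⊓ H, M ⊓ H⁆ := by
    conv_lhs => rw [← hQQ]
    exact commutator_mono (hall_le hQ) hPD
  have hQM : IsPiHallOf {q} Q M := syl_of_nz_le hq hQ ((hall_le hQ).trans inf_le_left)
    (le_inf inf_le_left (inf_le_right.trans hN))
  have hQM' : Q ≤ ⁅M, M⁆ := hQD.trans (commutator_mono inf_le_left inf_le_left)
  have hqα : q ∉ alpha M := by
    intro h
    have h1 : ¬ PRankLE q 2 Q := fun h2 => h.2 ((rank_syl hq hQM).2 h2)
    have h2 := uniq_of_prank3 hG hq h1 (ms_p_ne_top hG hq hQp)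
    exact hne (uniq_eq h2 hM (hall_le hQM) hH ((hall_le hQ).trans inf_le_right))
  have hqβ : q ∉ beta M := fun h => hqα (beta_sub_alpha hG h)
  have h1 := beta_nz_syl' hG hM hq hqβ hQM hQM'
  have h2 : piCoreOf (beta M) M ⊔ (M ⊓ H) = M := by
    refine le_antisymm (sup_le (piCoreOf_le _ _) inf_le_left) ?_
    conv_lhs => rw [← h1]
    exact sup_le_sup le_rfl (inf_le_inf le_rfl hN)
  refine ⟨hQD, h2, ?_, ?_, hqα⟩
  · intro h3
    have hβn := le_nz_piCoreOf (beta M) M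
    have hpβ : p ∉ beta M := fun h => hpM.2.1 (alpha_sub_sigma hG hM (beta_sub_alpha hG h))
    have hβπ := isPi_piCoreOf (beta M) M
    have h4 := l34s (V := piCoreOf (beta M) M) (K := Q) (X := P)
      (solvable_sub (piCoreOf_le _ _) (max_sol hG hM)) (by rw [hP]; exact hpp)
      (by rw [hP]; exact ms_p2' hG hpp (by rw [hP] : p ∣ Nat.card P)) hQs (ms_odd hG Q)
      ((hβπ.coprime ((hall_isPi hQ).mono (by rintro s rfl; exact hqβ))).symm)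
      ((hβπ.coprime (hPπ.mono (by rintro s rfl; exact hpβ))).symm) hcop hPQ
      ((hall_le hQM).trans hβn) ((hPD.trans inf_le_left).trans hβn) (by rw [hQQ]; exact h3)
    rw [hQQ] at h4
    have h5 : piCoreOf (beta M) M ≤ H := (le_cz_comm.1 h4).trans ((cz_le_nz Q).trans hN)
    have h6 : M ≤ H := by rw [← h2]; exact sup_le h5 inf_le_right
    exact hne (eq_of_card_le h6 (by
      rcases eq_or_lt_of_le h6 with h7 | h7
      · rw [h7]
      · exact absurd (hM.2 _ h7) hH.1)).symm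
  · by_contra h3
    have hPM := hPD.trans inf_le_left
    have h4 := bg10_3 hG hM hPM (hPπ.mono (by
      rintro s rfl; exact fun h => hpM.2.1 (alpha_sub_sigma hG hM h))) h3
    have h5 : 𝓝(P) ≤ M := uniq_le h4 hM inf_le_left (inf_le_right.trans (cz_le_nz P))
      (nz_line_ne_top hG hpp hP)
    rcases prime_class hG hM hpp (hPπ.isPGroup hpp) hP1 h5 with h6 | h6
    · exact hpM.2.1 h6
    · exact h6.2.2.2 hpM.2.2.2.2

/-- the transfer step in 13.8 -/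
theorem bg13_8b {M H P : Subgroup G} (hM : IsCoatom M) (hH : IsCoatom H)
    (hnc : ∀ g : G, H ≠ M ^ᵍ g) {p v : ℕ}
    (hpM : p ∈ tau1 M) (hpH : p ∈ tau1 H) (hPD : P ≤ M ⊓ H) (hP : Nat.card P = p)
    (hMD : piCoreOf (beta M) M ⊔ (M ⊓ H) = M) (hv : v ∈ beta H)
    (hd : v ∣ Nat.card ↥(M ⊓ 𝓒(P))) :
    sigmaCore M ⊓ 𝓒(P) ≤ H ∧ ∃ X ≤ M ⊓ H, Nat.card X = v ∧ X ≤ 𝓒(P) ∧
      X ≤ piCoreOf (beta H) H := by
  have hpp := hpM.1
  have hvα := beta_sub_alpha hG hv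
  have hvs := alpha_sub_sigma hG hH hvα
  have hvp := sigma_prime hvs
  have hvM : v ∉ sigma M := fun h => alpha_disj hG hH hM (fun g hg => hnc g⁻¹ (by
    rw [hg, cj_inv_cj])) hvα h
  have hPπ := isPi_of_card_prime hpp hP
  have hPM := hPD.trans inf_le_left
  obtain ⟨X₁, hX1, hX1c⟩ := exists_card_prime hvp hd
  have hpβ : p ∉ beta M := fun h => hpM.2.1 (alpha_sub_sigma hG hM (beta_sub_alpha hG h))
  have hvβ : v ∉ beta M := fun h => hvM (alpha_sub_sigma hG hM (beta_sub_alpha hG h))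
  have hn : M ⊓ H ≤ 𝓝(piCoreOf (beta M) M) := inf_le_left.trans (le_nz_piCoreOf _ _)
  have hcop : (Nat.card P).Coprime (Nat.card (piCoreOf (beta M) M)) :=
    ((isPi_piCoreOf (beta M) M).coprime (hPπ.mono (by rintro s rfl; exact hpβ))).symm
  have h1 := prod_nz hn hPD hcop (Or.inl (pgroup_solvable hpp (hPπ.isPGroup hpp)))
  rw [hMD] at h1
  have hs : Group.IsSolvable ↥(M ⊓ 𝓝(P)) := solvable_sub inf_le_left (max_sol hG hM)
  obtain ⟨m, hm, hXm⟩ := subj_of_sup (π := {v}) (N := piCoreOf (beta M) M ⊓ 𝓒(P))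
    (D := M ⊓ H ⊓ 𝓝(P)) (H := M ⊓ 𝓝(P)) (Y := X₁) hs
    (le_nz_inf (inf_le_left.trans hn) (inf_le_right.trans (nz_le_nz_cz P))) h1.symm
    ((isPi_piCoreOf (beta M) M).le inf_le_left |>.mono (by
      intro s hs hsv
      rw [Set.mem_singleton_iff] at hsv
      exact hvβ (hsv ▸ hs)))
    (isPi_of_card_prime hvp hX1c) (hX1.trans (inf_le_inf le_rfl (cz_le_nz P)))
  set X := X₁ ^ᵍ m with hX
  have hXc : Nat.card X = v := by rw [hX, card_cj, hX1c]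
  have hXD : X ≤ M ⊓ H := hXm.trans inf_le_left
  have hXP : X ≤ 𝓒(P) := by
    have h2 : 𝓒(P) ^ᵍ m = 𝓒(P) := by
      rw [← cz_cj, mem_nz.1 hm.2]
    rw [← h2]
    exact cj_mono (hX1.trans inf_le_right) m
  have hXβ : X ≤ piCoreOf (beta H) H := le_hall_of_normal (beta_hall hG hH) (le_nz_piCoreOf _ _)
    ((isPi_of_card_prime hvp hXc).mono (by rintro s rfl; exact hv)) (hXD.trans inf_le_right)
  have hXσ : X ≤ sigmaCore H := syl_le_sigmaCore hG hH hvs (isPi_of_card_prime hvp hXc)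
    (hXD.trans inf_le_right)
  have h3 := bg13_4 hG hM hpM hPM hP (hXD.trans inf_le_left) hvp hXc hvM hXP
  obtain ⟨h4, -, -⟩ := bg13_6 hG hH hpH (hPD.trans inf_le_right) hP hvp hXc hXσ hXP
  refine ⟨?_, X, hXD, hXc, hXP, hXβ⟩
  exact (le_cz_comm.1 (le_cz_comm.1 h3)).trans h4

/-- the final contradiction in 13.8 -/
theorem bg13_8c {M H P Q X : Subgroup G} (hM : IsCoatom M) (hH : IsCoatom H)
    (hnc : ∀ g : G, H ≠ M ^ᵍ g) {p q v : ℕ} (hpH : p ∈ tau1 H)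
    (hPD : P ≤ M ⊓ H) (hP : Nat.card P = p) (hq : q.Prime) (hQ : IsPi {q} Q)
    (hQD : Q ≤ ⁅M ⊓ H, M ⊓ H⁆) (hqα : q ∉ alpha M)
    (hVQ : ¬ piCoreOf (beta M) M ⊓ 𝓒(P) ≤ 𝓒(Q)) (hVH : piCoreOf (beta M) M ⊓ 𝓒(P) ≤ H)
    (hv : v ∈ beta H) (hXP : X ≤ 𝓒(P)) (hXD : X ≤ M ⊓ H) (hX : Nat.card X = v)
    (hXβ : X ≤ piCoreOf (beta H) H) : False := by
  have hne : H ≠ M := fun h => hnc 1 (by rw [cj_one]; exact h)
  have hvα := beta_sub_alpha hG hv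
  have hvs := alpha_sub_sigma hG hH hvα
  have hvp := sigma_prime hvs
  have hnc' : ∀ g : G, M ≠ H ^ᵍ g := fun g hg => hnc g⁻¹ (by rw [hg, cj_inv_cj])
  have hvM : v ∉ sigma M := fun h => alpha_disj hG hH hM hnc' hvα h
  have hXσ : X ≤ sigmaCore H := syl_le_sigmaCore hG hH hvs (isPi_of_card_prime hvp hX)
    (hXD.trans inf_le_right)
  obtain ⟨h4, -, -⟩ := bg13_6 hG hH hpH (hPD.trans inf_le_right) hP hvp hX hXσ hXP
  set D := M ⊓ H with hD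
  set A := piCoreOf (beta M) M ⊓ H with hA
  have hAD : A ≤ D := inf_le_inf (piCoreOf_le _ _) le_rfl
  have hDA : D ≤ 𝓝(A) := le_nz_inf (inf_le_left.trans (le_nz_piCoreOf _ _))
    (inf_le_right.trans le_normalizer)
  have hB : piCoreOf (beta H) H ⊓ M ≤ D := by
    rw [hD, inf_comm M H]; exact inf_le_inf (piCoreOf_le _ _) le_rfl
  have hDB : D ≤ 𝓝(piCoreOf (beta H) H ⊓ M) := le_nz_inf (inf_le_right.trans (le_nz_piCoreOf _ _))
    (inf_le_left.trans le_normalizer)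
  have hAX : A ≤ 𝓒(X) := by
    have h1 : A ≤ 𝓒(piCoreOf (beta H) H ⊓ M) := by
      rw [← comm_eq_bot_iff, eq_bot_iff]
      have h2 : A ⊓ (piCoreOf (beta H) H ⊓ M) = ⊥ := by
        refine cop_inf (IsPi.coprime (π := alpha M) ?_ ?_)
        · exact ((isPi_piCoreOf (beta M) M).le inf_le_left).mono (beta_sub_alpha hG)
        · refine ((isPi_piCoreOf (beta H) H).le inf_le_left).mono ?_
          intro s hs hsM
          exact alpha_disj hG hM hH hnc hsM (alpha_sub_sigma hG hH (beta_sub_alpha hG hs))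
      rw [← h2]
      exact le_inf (comm_le_left (hB.trans hDA)) (comm_le_right (hAD.trans hDB))
    exact h1.trans (cz_anti (le_inf hXβ (hXD.trans inf_le_left)))
  have hAr : RankLE 1 A := by
    by_contra hcon
    have h5 : ¬ RankLE 1 ↥(alphaCore M ⊓ 𝓒(X)) := by
      intro h6
      exact hcon fun s hs => rank_mono (le_inf (inf_le_left.trans (betaCore_le hG)) hAX) (h6 s hs)
    have h6 := bg10_3 hG hM (hXD.trans inf_le_left) ((isPi_of_card_prime hvp hX).mono (by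
      rintro s rfl; exact fun h => hvM (alpha_sub_sigma hG hM h))) h5
    exact hne (uniq_eq h6 hM inf_le_left hH (inf_le_right.trans h4))
  have hqβ : q ∉ beta M := fun h => hqα (beta_sub_alpha hG h)
  have h7 : Q ≤ 𝓒(A) := der_cz_rank1 hDA (solvable_sub (inf_le_right) (max_sol hG hH))
    (ms_odd hG A) hAr hQD ((((isPi_piCoreOf (beta M) M).le inf_le_left).coprime
      (hQ.mono (by rintro s rfl; exact hqβ))).symm)
  exact hVQ ((le_inf inf_le_left hVH).trans (le_cz_comm.1 h7))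

/-- 13.8, one orientation -/
theorem bg13_8d {M H P Q : Subgroup G} (hM : IsCoatom M) (hH : IsCoatom H)
    (hnc : ∀ g : G, H ≠ M ^ᵍ g) {p q : ℕ} (hpM : p ∈ tau1 M) (hpH : p ∈ tau1 H)
    (hPD : P ≤ M ⊓ H) (hP : Nat.card P = p) (hq : q.Prime)
    (hQ : IsPiHallOf {q} Q (M ⊓ H)) (hPQ : P ≤ 𝓝(Q)) (hQP : Q ⊓ 𝓒(P) = ⊥) (hNQ : 𝓝(Q) ≤ H)
    {v : ℕ} (hv : v ∈ beta H) (hd : v ∣ Nat.card ↥(M ⊓ 𝓒(P))) : False := by
  have hne : H ≠ M := fun h => hnc 1 (by rw [cj_one]; exact h)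
  obtain ⟨a1, a2, a3, a4, a5⟩ := bg13_8a hG hM hH hne hpM hPD hP hq hQ hPQ hQP hNQ
  obtain ⟨b1, X, hXD, hX, hXP, hXβ⟩ := bg13_8b hG hM hH hnc hpM hpH hPD hP a2 hv hd
  have hβσ : piCoreOf (beta M) M ≤ sigmaCore M := (betaCore_le hG).trans (alpha_le_sigma hG hM)
  exact bg13_8c hG hM hH hnc hpH hPD hP hq (hall_isPi hQ) a1 a5 a3
    ((inf_le_inf hβσ le_rfl).trans b1) hv hXP hXD hX hXβ

/-- Sylow subgroups of `C_{M_β}(P)` are Sylow in `C(P)` -/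
theorem bg13_8e {M P : Subgroup G} (hM : IsCoatom M) {v : ℕ} (hv : v ∈ beta M) {Y : Subgroup G}
    (hPM : P ≤ M) (hY : IsPiHallOf {v} Y (piCoreOf (beta M) M ⊓ 𝓒(P))) (hY1 : Y ≠ ⊥) :
    IsPiHallOf {v} Y 𝓒(P) := by
  have hvp := sigma_prime (alpha_sub_sigma hG hM (beta_sub_alpha hG hv))
  have h1 := hall_normal_inf (T := M ⊓ 𝓒(P)) (beta_hall hG hM) (le_nz_piCoreOf _ _) inf_le_left
  have h2 : piCoreOf (beta M) M ⊓ (M ⊓ 𝓒(P)) = piCoreOf (beta M) M ⊓ 𝓒(P) := by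
    rw [← inf_assoc, inf_of_le_left (piCoreOf_le (beta M) M)]
  rw [h2] at h1
  have h3 := hall_trans hY h1 (Set.singleton_subset_iff.2 hv)
  refine syl_of_nz_le hvp h3 ((hall_le h3).trans inf_le_right) ?_
  exact le_inf (inf_le_right.trans (beta_nz hG hM hv ((hall_le h3).trans inf_le_left)
    ((hall_isPi hY).isPGroup hvp) hY1)) inf_le_left

/-- B & G 13.8 -/
theorem bg13_8 {M H P Q R : Subgroup G} (hM : IsCoatom M) (hH : IsCoatom H)
    (hnc : ∀ g : G, H ≠ M ^ᵍ g) {p q r : ℕ} (hpM : p ∈ tau1 M) (hpH : p ∈ tau1 H)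
    (hPD : P ≤ M ⊓ H) (hP : Nat.card P = p) (hq : q.Prime) (hr : r.Prime)
    (hQ : IsPiHallOf {q} Q (M ⊓ H)) (hPQ : P ≤ 𝓝(Q)) (hQP : Q ⊓ 𝓒(P) = ⊥) (hNQ : 𝓝(Q) ≤ H)
    (hR : IsPiHallOf {r} R (M ⊓ H)) (hPR : P ≤ 𝓝(R)) (hRP : R ⊓ 𝓒(P) = ⊥) (hNR : 𝓝(R) ≤ M) :
    False := by
  have hne : H ≠ M := fun h => hnc 1 (by rw [cj_one]; exact h)
  have hnc' : ∀ g : G, M ≠ H ^ᵍ g := fun g hg => hnc g⁻¹ (by rw [hg, cj_inv_cj])
  have hPD' : P ≤ H ⊓ M := by rwa [inf_comm]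
  have hR' : IsPiHallOf {r} R (H ⊓ M) := by rwa [inf_comm]
  have c1 : ∀ v ∈ beta H, ¬ v ∣ Nat.card ↥(M ⊓ 𝓒(P)) := fun v hv hd =>
    bg13_8d hG hM hH hnc hpM hpH hPD hP hq hQ hPQ hQP hNQ hv hd
  have c2 : ∀ v ∈ beta M, ¬ v ∣ Nat.card ↥(H ⊓ 𝓒(P)) := fun v hv hd =>
    bg13_8d hG hH hM hnc' hpH hpM hPD' hP hr hR' hPR hRP hNR hv hd
  obtain ⟨-, -, a3, -, -⟩ := bg13_8a hG hM hH hne hpM hPD hP hq hQ hPQ hQP hNQ
  obtain ⟨-, -, b3, -, -⟩ := bg13_8a hG hH hM hne.symm hpH hPD' hP hr hR' hPR hRP hNR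
  have hV1 : piCoreOf (beta M) M ⊓ 𝓒(P) ≠ ⊥ := fun h => a3 (by rw [h]; exact bot_le)
  have hW1 : piCoreOf (beta H) H ⊓ 𝓒(P) ≠ ⊥ := fun h => b3 (by rw [h]; exact bot_le)
  obtain ⟨v, hv, hvd⟩ := exists_prime_dvd_of_ne_bot hV1
  obtain ⟨w, hw, hwd⟩ := exists_prime_dvd_of_ne_bot hW1
  have hvβ : v ∈ beta M := ((isPi_piCoreOf (beta M) M).le inf_le_left) v hv hvd
  have hwβ : w ∈ beta H := ((isPi_piCoreOf (beta H) H).le inf_le_left) w hw hwd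
  obtain ⟨Y, hY⟩ := exists_syl hv (piCoreOf (beta M) M ⊓ 𝓒(P))
  obtain ⟨Z, hZ⟩ := exists_syl hw (piCoreOf (beta H) H ⊓ 𝓒(P))
  have hY1 : Y ≠ ⊥ := hall_ne_bot hv hY hvd
  have hZ1 : Z ≠ ⊥ := hall_ne_bot hw hZ hwd
  have hYC := bg13_8e hG hM hvβ (hPD.trans inf_le_left) hY hY1
  have hZC := bg13_8e hG hH hwβ (hPD.trans inf_le_right) hZ hZ1
  have hYM : Y ≤ M := (hall_le hY).trans (inf_le_left.trans (piCoreOf_le _ _))
  have hZH : Z ≤ H := (hall_le hZ).trans (inf_le_left.trans (piCoreOf_le _ _))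
  have hCs : Group.IsSolvable 𝓒(P) := ms_sol hG fun h => nz_line_ne_top hG hpM.1 hP
    (top_le_iff.1 (by rw [← h]; exact cz_le_nz P))
  obtain ⟨J, hJ⟩ := hall_exists (π := ({v, w} : Set ℕ)) hCs
  have hJC := hall_le hJ
  have hvC : v ∣ Nat.card 𝓒(P) := (hall_dvd hv hY hvd).trans (card_dvd_of_le (hall_le hYC))
  have hwC : w ∣ Nat.card 𝓒(P) := (hall_dvd hw hZ hwd).trans (card_dvd_of_le (hall_le hZC))
  have hvJ : v ∣ Nat.card J := hall_dvd' hv (Or.inl rfl) hJ hvC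
  have hwJ : w ∣ Nat.card J := hall_dvd' hw (Or.inr rfl) hJ hwC
  have hJs : Group.IsSolvable J := solvable_sub hJC hCs
  have hJ1 : J ≠ ⊥ := by
    rintro rfl
    rw [card_bot] at hvJ
    exact hv.one_lt.ne' (Nat.dvd_one.1 hvJ)
  obtain ⟨s, hs, hsJ, hN1⟩ := exists_pcore_ne_bot hJs hJ1
  have hsp : IsPGroup s (piCoreOf {s} J) := (isPi_piCoreOf {s} J).isPGroup hs
  have hJN : J ≤ 𝓝(piCoreOf {s} J) := le_nz_piCoreOf _ _
  have hNC : piCoreOf {s} J ≤ 𝓒(P) := (piCoreOf_le _ _).trans hJC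
  have gen : ∀ (L T : Subgroup G) (t : ℕ), IsCoatom L → t ∈ beta L → IsPiHallOf {t} T 𝓒(P) →
      T ≤ L → s = t → ∃ c ∈ 𝓒(P), J ^ᵍ c ≤ L := by
    intro L T t hL ht hT hTL hst
    subst hst
    obtain ⟨c, hc, hNc⟩ := syl_subj hs hT (isPi_piCoreOf {s} J) hNC
    refine ⟨c, hc, ?_⟩
    have h1 : 𝓝((piCoreOf {s} J) ^ᵍ c) ≤ L := beta_nz hG hL ht (hNc.trans hTL)
      (((isPi_piCoreOf {s} J).cj c).isPGroup hs) (fun h => hN1 (cj_eq_bot.1 h))
    refine le_trans ?_ h1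
    rw [nz_cj]
    exact cj_mono hJN c
  have hcC : ∀ c ∈ 𝓒(P), J ^ᵍ c ≤ 𝓒(P) := by
    intro c hc
    have h1 : 𝓒(P) ^ᵍ c = 𝓒(P) := cj_eq_of_mem hc
    rw [← h1]; exact cj_mono hJC c
  rcases hall_isPi hJ s hs hsJ with h | h
  · obtain ⟨c, hc, hJc⟩ := gen M Y v hM hvβ hYC hYM h
    refine c1 w hwβ ?_
    rw [← card_cj J c] at hwJ
    exact hwJ.trans (card_dvd_of_le (le_inf hJc (hcC c hc)))
  · obtain ⟨c, hc, hJc⟩ := gen H Z w hH hwβ hZC hZH h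
    refine c2 v hvβ ?_
    rw [← card_cj J c] at hvJ
    exact hvJ.trans (card_dvd_of_le (le_inf hJc (hcC c hc)))

end

end CfsgLib.BGPi
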