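import Cfsg.Agent.EqBase
import Cfsg.Agent.LibBG13d

/-! B & G 13.9: `σ(M)` and `σ(H)` are disjoint. -/

open Subgroup
open scoped Pointwise commutatorElement

namespace CfsgLib.BGPi

open Cfsg

universe u

section
variable {G : Type u} [Group G] [Finite G]
variable (hG : IsMinSimpleOddOrder G)
include hG

theorem exists_tau1 {M : Subgroup G} (hM : IsCoatom M) (h2 : ∀ s : ℕ, s ∉ tau2 M) :
    ∃ p : ℕ, p ∈ tau1 M := by
  have hlt : ⁅M, M⁆ < M := comm_lt_of_solvable (max_sol hG hM) (max_ne_bot hG hM)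
  have h1 : (⁅M, M⁆).relIndex M ≠ 1 := by
    intro h
    exact hlt.not_ge (relIndex_eq_one.1 h)
  obtain ⟨p, hp, hd⟩ := Nat.exists_prime_and_dvd h1
  refine ⟨p, ?_⟩
  by_contra hpt
  have hpM : p ∣ Nat.card M := hd.trans (by
    rw [← card_mul_relIndex hlt.le]; exact dvd_mul_left _ _)
  obtain ⟨P, hP⟩ := exists_syl hp M
  have h3 := syl_le_der hG hM hp hP hpM hpt (h2 p)
  refine (hall_iff.1 hP).2.2 p hp rfl (hd.trans ?_)
  exact ⟨_, ((mul_comm _ _).trans (relIndex_mul_relIndex P ⁅M, M⁆ M h3 hlt.le)).symm⟩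

theorem sigma_part_aux {M H S : Subgroup G} (hM : IsCoatom M) (hH : IsCoatom H)
    (hnc : ∀ g : G, H ≠ M ^ᵍ g) {q : ℕ} (hqM : q ∈ sigma M) (hqH : q ∈ sigma H)
    (hS : IsPiHallOf {q} S ⊤) (hSM : S ≤ M) (hSH : S ≤ H) : False := by
  have hne : H ≠ M := fun h => hnc 1 (by rw [cj_one]; exact h)
  have hnc' : ∀ g : G, M ≠ H ^ᵍ g := fun g hg => hnc g⁻¹ (by rw [hg, cj_inv_cj])
  have hqp := sigma_prime hqM
  have hSM' : IsPiHallOf {q} S M := hall_le_of_le hS hSM le_top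
  have hSH' : IsPiHallOf {q} S H := hall_le_of_le hS hSH le_top
  have hSD : IsPiHallOf {q} S (M ⊓ H) := hall_le_of_le hS (le_inf hSM hSH) le_top
  have hNM : 𝓝(S) ≤ M := sigma_nz hqM hSM'
  have hNH : 𝓝(S) ≤ H := sigma_nz hqH hSH'
  have hSp := (hall_isPi hS).isPGroup hqp
  have hS1 : S ≠ ⊥ := hall_ne_bot hqp hSM' hqM.2.1
  have h2 : ∀ s : ℕ, s ∉ tau2 M := by
    intro s hs
    obtain ⟨E, hE⟩ := hall_exists (π := (sigma M)ᶜ) (max_sol hG hM)
    obtain ⟨A, -, A₀, c⟩ := exists_exc_tau2 hG hM hE hs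
    exact sigma_disj hG hM hH hnc (c.nilp hG) hqM hqH
  obtain ⟨p, hp⟩ := exists_tau1 hG hM h2
  have hpp := hp.1
  have hpβ : p ∉ beta M := fun h => hp.2.1 (alpha_sub_sigma hG hM (beta_sub_alpha hG h))
  have hf := beta_nz_syl hG hM hqM hSM'
  obtain ⟨P', hP'⟩ := exists_syl hpp (M ⊓ 𝓝(S))
  have hP'M : IsPiHallOf {p} P' M := hall_of_sup (inf_le_left.trans (le_nz_piCoreOf _ _)) hf
    ((isPi_compl_singleton hpp).2 fun hd => hpβ (isPi_piCoreOf _ _ p hpp hd)) hP'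
  obtain ⟨P, hPP', hP⟩ := exists_card_prime hpp (hall_dvd hpp hP'M hp.2.2.1)
  have hPS : P ≤ 𝓝(S) := (hPP'.trans (hall_le hP')).trans inf_le_right
  have hPM : P ≤ M := hPS.trans hNM
  have hPH : P ≤ H := hPS.trans hNH
  have hPπ := isPi_of_card_prime hpp hP
  have hP1 := ne_bot_of_card_prime hpp hP
  have hSσ : S ≤ sigmaCore M := syl_le_sigmaCore hG hM hqM (hall_isPi hS) hSM
  have hSP : S ⊓ 𝓒(P) = ⊥ := by
    by_contra h
    obtain ⟨x, hx, hxd, X, hX, hXc⟩ := exists_prime_sub h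
    have hxq : x = q := (hall_isPi hS) x hx (hxd.trans (card_dvd_of_le inf_le_left))
    subst hxq
    obtain ⟨-, -, h3⟩ := bg13_6 hG hM hp hPM hP hx hXc ((hX.trans inf_le_left).trans hSσ)
      (hX.trans inf_le_right)
    exact hne (uniq_eq (h3 S hSM') hM hSM hH hSH)
  by_cases hpH : p ∈ tau1 H
  · exact bg13_8 hG hM hH hnc hp hpH (le_inf hPM hPH) hP hqp hqp hSD hPS hSP hNH hSD hPS hSP hNM
  have hpα : p ∈ alpha H := by
    by_contra hpα
    exact hpH (bg12_15d2 hG hH hM hqH hSp hS1 hSH hne.symm hqM hNM (by rwa [inf_comm]) le_rfl hp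
      hpα)
  have hpσ := alpha_sub_sigma hG hH hpα
  have hpβH : p ∈ beta H := by
    by_contra hpβH
    have hqβ : q ∉ beta H := fun h => alpha_disj hG hH hM hnc' (beta_sub_alpha hG h) hqM
    have hDH : ⁅H, H⁆ ≤ H := comm_self_le H
    obtain ⟨L, hL, hSL⟩ := hall_exists_ge (π := (beta H)ᶜ) (solvable_sub hDH (max_sol hG hH))
      ((hall_isPi hS).mono (Set.singleton_subset_iff.2 hqβ)) (sigma_focal hG hH hqH hSH')
    have hLn := (beta_frat hG hH hL).1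
    obtain ⟨P₁, hP₁⟩ := exists_syl hpp L
    have h3 : IsPiHallOf {p} P₁ ⁅H, H⁆ := hall_trans hP₁ hL (Set.singleton_subset_iff.2 hpβH)
    obtain ⟨P₂, hP₂, h12⟩ := exists_syl_ge hpp (hall_isPi h3) ((hall_le h3).trans hDH)
    have h4 : P₁ = P₂ := hall_eq_of_le h3 (hall_isPi hP₂) (sigma_focal hG hH hpσ hP₂) h12
    rw [← h4] at hP₂
    have h5 : P₁ ≤ 𝓒(S) := by
      refine nilpotent_commute (π := {p}) hLn (hall_le hP₁) hSL (hall_isPi hP₁) ?_
      refine (hall_isPi hS).mono ?_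
      rintro s rfl h
      rw [Set.mem_singleton_iff] at h
      subst h
      exact hp.2.1 hqM
    have h6 : ¬ PRankLE p 2 P₁ := fun h => hpα.2 ((rank_syl hpp hP₂).2 h)
    have h7 := uniq_of_prank3 hG hpp h6 (ms_p_ne_top hG hpp ((hall_isPi hP₁).isPGroup hpp))
    exact hne (uniq_eq h7 hM ((h5.trans (cz_le_nz S)).trans hNM) hH (hall_le hP₂))
  have hNP := beta_nz hG hH hpβH hPH (hPπ.isPGroup hpp) hP1
  obtain ⟨-, ha, -, -⟩ := bg13_2 hG hM hH hpp hp.2.1 hp.2.2.2.2 hPM (hPπ.isPGroup hpp) hP1 hNP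
  have h8 := ha P (le_inf hPM hPH) (hPπ.isPGroup hpp)
  apply hS1
  rw [← le_bot_iff, ← hSP]
  exact le_inf le_rfl ((le_inf hSσ hSH).trans (le_cz_comm.1 h8))

/-- B & G 13.9 -/
theorem sigma_part {M H : Subgroup G} (hM : IsCoatom M) (hH : IsCoatom H)
    (hnc : ∀ g : G, H ≠ M ^ᵍ g) {q : ℕ} (hqM : q ∈ sigma M) (hqH : q ∈ sigma H) : False := by
  have hqp := sigma_prime hqM
  obtain ⟨S₁, hS₁⟩ := exists_syl hqp M
  obtain ⟨S₂, hS₂⟩ := exists_syl hqp H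
  have h1 := sigma_syl hqM hS₁
  have h2 := sigma_syl hqH hS₂
  obtain ⟨g, -, hg⟩ := syl_conj hqp h2 h1
  refine sigma_part_aux hG hM (coatom_cj hH g) ?_ hqM (by rw [sigma_cj]; exact hqH) h1 (hall_le hS₁)
    (by rw [← hg]; exact cj_mono (hall_le hS₂) g)
  intro k hk
  refine hnc (g⁻¹ * k) ?_
  rw [cj_mul, ← hk, cj_inv_cj]

end

end CfsgLib.BGPi
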