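import Cfsg.Agent.EqBase
import Cfsg.Agent.LibBG13e

/-! B & G §13: the action of `E₁E₃`, preparations. -/

open Subgroup
open scoped Pointwise commutatorElement

namespace CfsgLib.BGPi

open Cfsg

universe u

section
variable {G : Type u} [Group G] [Finite G]

theorem cz_cj_of_nz {R : Subgroup G} {e : G} (he : e ∈ 𝓝(R)) : 𝓒(R) ^ᵍ e = 𝓒(R) := by
  rw [← cz_cj, mem_nz.1 he]

theorem cj_le_cz {P R : Subgroup G} {e : G} (he : e ∈ 𝓝(R)) (h : P ≤ 𝓒(R)) : P ^ᵍ e ≤ 𝓒(R) := by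
  rw [← cz_cj_of_nz he]; exact cj_mono h e

theorem normal_le_hall {π : Set ℕ} {W E D : Subgroup G} (hE : IsPiHallOf π E D) (hWD : W ≤ D)
    (hn : D ≤ 𝓝(W)) (hW : IsPi π W) : W ≤ E :=
  (le_piCoreOf hWD hn hW).trans (piCoreOf_le_hall hE)

variable (hG : IsMinSimpleOddOrder G)
include hG

theorem tau_cases {M : Subgroup G} (hM : IsCoatom M) {s : ℕ} (hs : s.Prime) (hsM : s ∣ Nat.card M)
    (hσ : s ∉ sigma M) : s ∈ tau1 M ∨ s ∈ tau2 M ∨ s ∈ tau3 M := by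
  have hr2 := rank_of_not_sigma hG hM hs hσ
  by_cases hr1 : PRankLE s 1 M
  · by_cases hd : s ∣ Nat.card ↥⁅M, M⁆
    · exact Or.inr (Or.inr ⟨hs, hσ, hd, hr1⟩)
    · exact Or.inl ⟨hs, hσ, hsM, hd, hr1⟩
  · exact Or.inr (Or.inl ⟨hs, hσ, hr2, hr1⟩)

theorem tau3_normal {M E R : Subgroup G} (hM : IsCoatom M) (hE : IsPiHallOf (sigma M)ᶜ E M) {r : ℕ}
    (hr : r ∈ tau3 M) (hRE : R ≤ E) (hR : IsPi {r} R) :
    E ≤ 𝓝(R) ∧ ∃ E₃, IsPiHallOf (tau3 M) E₃ E ∧ R ≤ E₃ ∧ IsCyclic E₃ ∧ E ≤ 𝓝(E₃) := by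
  obtain ⟨E₃, h3⟩ := hall_exists (π := tau3 M) (solvable_sub (hall_le hE) (max_sol hG hM))
  obtain ⟨hc, -, hn⟩ := bg12_1c hG hM hE h3
  have h1 : R ≤ E₃ := le_hall_of_normal h3 hn (hR.mono (by rintro s rfl; exact hr)) hRE
  exact ⟨hn.trans (nz_of_cyclic hc h1), E₃, h3, h1, hc, hn⟩

theorem line_cz_le {M E R R' : Subgroup G} (hM : IsCoatom M) (hE : IsPiHallOf (sigma M)ᶜ E M)
    {r r' : ℕ} (hr : r ∈ tau3 M) (hr' : r' ∈ tau3 M) (hRE : R ≤ E) (hRE' : R' ≤ E)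
    (hR : Nat.card R = r) (hR' : IsPi {r'} R') : sigmaCore M ⊓ 𝓒(R) ≤ 𝓒(R') := by
  obtain ⟨-, E₃, h3, h1, hc, hn⟩ := tau3_normal hG hM hE hr hRE (isPi_of_card_prime hr.1 hR)
  have h2 : R' ≤ E₃ := le_hall_of_normal h3 hn
    (hR'.mono (by rintro s rfl; exact hr')) hRE'
  exact (bg13_3b hG hM hE h3 h1 (ne_bot_of_card_prime hr.1 hR)).trans (cz_anti h2)

theorem tau3_not_cz {M E R : Subgroup G} (hM : IsCoatom M) (hE : IsPiHallOf (sigma M)ᶜ E M) {r : ℕ}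
    (hr : r ∈ tau3 M) (hRE : R ≤ E) (hR : Nat.card R = r) : ¬ E ≤ 𝓒(R) := by
  intro hcz
  have hrp := hr.1
  obtain ⟨S, hS, hRS⟩ := exists_syl_ge hrp (isPi_of_card_prime hrp hR) hRE
  have hSp := (hall_isPi hS).isPGroup hrp
  have hr2 := ms_p2' hG hrp (by rw [hR] : r ∣ Nat.card R)
  have hc : IsCyclic S := cyclic_of_rank1 hrp hr2 hSp
    (rank_mono ((hall_le hS).trans (hall_le hE)) hr.2.2.2)
  have hSab : S ≤ 𝓒(S) := comm_iff_le_cz.1 (by haveI := hc; infer_instance)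
  have h1 : E ⊓ 𝓝(S) ≤ 𝓒(S) := by
    refine le_of_syls fun s hs => ?_
    by_cases hsr : s = r
    · subst hsr
      exact ⟨S, hall_le_of_le hS (le_inf (hall_le hS) le_normalizer) inf_le_left, hSab⟩
    · obtain ⟨T, hT⟩ := exists_syl hs (E ⊓ 𝓝(S))
      refine ⟨T, hT, ?_⟩
      by_contra hn
      have hcop : (Nat.card T).Coprime r := by
        refine (hall_isPi hT).coprime_of_dvd (n := r) ?_
        rintro t ht rfl hd
        exact hsr ((Nat.prime_dvd_prime_iff_eq ht hrp).1 hd)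
      have h2 := (cyc_comm hrp hSp hc ((hall_le hT).trans inf_le_right) hcop hn).2
      apply ne_bot_of_card_prime hrp hR
      rw [← le_bot_iff, ← h2]
      exact le_inf hRS (le_cz_comm.1 (((hall_le hT).trans inf_le_left).trans hcz))
  have h2 := burnside_rel hrp hS h1
  exact h2 (der_dvd hG hM hE hrp hr.2.1 hr.2.2.1)

theorem t3_no_tau2 {M E R : Subgroup G} (hM : IsCoatom M) (hE : IsPiHallOf (sigma M)ᶜ E M) {r : ℕ}
    (hr : r ∈ tau3 M) (hRE : R ≤ E) (hR : Nat.card R = r) (hC : sigmaCore M ⊓ 𝓒(R) ≠ ⊥) :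
    ∀ s : ℕ, s ∉ tau2 M := by
  intro s hs
  have hrp := hr.1
  have hRπ := isPi_of_card_prime hrp hR
  obtain ⟨hn, -⟩ := tau3_normal hG hM hE hr hRE hRπ
  obtain ⟨H, hH, hN⟩ := exists_max hG (nz_line_ne_top hG hrp hR)
  obtain ⟨A, hAE, A₀, c⟩ := exists_exc_tau2 hG hM hE hs
  have h1 : H = M := by
    refine c.uniq hG hH (hAE.trans (hn.trans hN)) ?_
    intro h
    apply hC
    rw [← le_bot_iff, ← h]
    exact le_inf (inf_le_right.trans ((cz_le_nz R).trans hN)) inf_le_left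
  subst h1
  rcases prime_class hG hM hrp (hRπ.isPGroup hrp) (ne_bot_of_card_prime hrp hR) hN with h | h
  · exact hr.2.1 h
  · exact h.2.2.2 hr.2.2.2

/-- if there are no `τ₂`-primes, `E` is generated by its Hall `τ₁`- and `τ₃`-subgroups -/
theorem E_le_of {M E E₁ E₃ X : Subgroup G} (hM : IsCoatom M) (hE : IsPiHallOf (sigma M)ᶜ E M)
    (h1 : IsPiHallOf (tau1 M) E₁ E) (h3 : IsPiHallOf (tau3 M) E₃ E) (h2 : ∀ s : ℕ, s ∉ tau2 M)
    (h1X : E₁ ≤ X) (h3X : E₃ ≤ X) : E ≤ X := by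
  refine le_of_syls fun s hs => ?_
  by_cases hsE : s ∣ Nat.card E
  swap
  · obtain ⟨S, hS⟩ := exists_syl hs E
    refine ⟨S, hS, ?_⟩
    by_cases hS1 : S = ⊥
    · rw [hS1]; exact bot_le
    · exact absurd ((pgroup_dvd_card hs ((hall_isPi hS).isPGroup hs) hS1).trans
        (card_dvd_of_le (hall_le hS))) hsE
  rcases tau_cases hG hM hs (hsE.trans (card_dvd_of_le (hall_le hE))) (hall_isPi hE s hs hsE) with
    h | h | h
  · obtain ⟨S, hS⟩ := exists_syl hs E₁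
    exact ⟨S, hall_trans hS h1 (Set.singleton_subset_iff.2 h), (hall_le hS).trans h1X⟩
  · exact absurd h (h2 s)
  · obtain ⟨S, hS⟩ := exists_syl hs E₃
    exact ⟨S, hall_trans hS h3 (Set.singleton_subset_iff.2 h), (hall_le hS).trans h3X⟩

theorem tau1_not_cz {M E E₁ R : Subgroup G} (hM : IsCoatom M) (hE : IsPiHallOf (sigma M)ᶜ E M)
    {r : ℕ} (h1 : IsPiHallOf (tau1 M) E₁ E) (hr : r ∈ tau3 M) (hRE : R ≤ E) (hR : Nat.card R = r)
    (h2 : ∀ s : ℕ, s ∉ tau2 M) : ¬ E₁ ≤ 𝓒(R) := by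
  intro h
  obtain ⟨-, E₃, h3, h4, hc, -⟩ := tau3_normal hG hM hE hr hRE (isPi_of_card_prime hr.1 hR)
  refine tau3_not_cz hG hM hE hr hRE hR (E_le_of hG hM hE h1 h3 h2 h ?_)
  have hab : E₃ ≤ 𝓒(E₃) := comm_iff_le_cz.1 (by haveI := hc; infer_instance)
  exact hab.trans (cz_anti h4)

/-- B & G 13.7, first form -/
theorem tau13_T1 {M E E₁ R P : Subgroup G} (hM : IsCoatom M) (hE : IsPiHallOf (sigma M)ᶜ E M)
    {r p : ℕ} (h1 : IsPiHallOf (tau1 M) E₁ E) (hr : r ∈ tau3 M) (hRE : R ≤ E) (hR : Nat.card R = r)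
    (hp : p ∈ tau1 M) (hPE : P ≤ E) (hP : Nat.card P = p) (hPR : P ≤ 𝓒(R)) :
    sigmaCore M ⊓ 𝓒(R) ≤ 𝓒(E₁) := by
  by_contra hcon
  have hC : sigmaCore M ⊓ 𝓒(R) ≠ ⊥ := fun h => hcon (by rw [h]; exact bot_le)
  have h2 := t3_no_tau2 hG hM hE hr hRE hR hC
  have hrp := hr.1
  have hpp := hp.1
  have hEM := hall_le hE
  have hRπ := isPi_of_card_prime hrp hR
  have hRp := hRπ.isPGroup hrp
  have hR1 := ne_bot_of_card_prime hrp hR
  have hPπ := isPi_of_card_prime hpp hP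
  obtain ⟨hn, -⟩ := tau3_normal hG hM hE hr hRE hRπ
  obtain ⟨e, he, hPe⟩ := hall_subj (solvable_sub hEM (max_sol hG hM)) h1
    (hPπ.mono (by rintro s rfl; exact hp)) hPE
  have hPR' : P ^ᵍ e ≤ 𝓒(R) := cj_le_cz (hn he) hPR
  obtain ⟨H, hH, hN⟩ := exists_max hG (nz_line_ne_top hG hrp hR)
  obtain ⟨hnc, -, hb, hc⟩ := bg13_2 hG hM hH hrp hr.2.1 hr.2.2.2 (hRE.trans hEM) hRp hR1 hN
  have hEH : E ≤ H := hn.trans hN
  have h1E := hall_le h1
  have hCH : sigmaCore M ⊓ 𝓒(R) ≤ sigmaCore M ⊓ H :=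
    inf_le_inf le_rfl ((cz_le_nz R).trans hN)
  have h1H : IsPi (tau1 H) E₁ := by
    intro s hs hd
    by_contra hst
    obtain ⟨S, hS⟩ := exists_syl hs E₁
    have hS1 := hall_ne_bot hs hS hd
    have h3 := hb S ((hall_le hS).trans (h1E.trans (le_inf hEM hEH)))
      ((hall_isPi hE).le ((hall_le hS).trans h1E))
      ((hall_isPi hS).mono (by rintro t rfl; exact hst))
    have h4 := bg13_5 hG hM hE (hall_isPi h1) h1E (hall_le hS) hS1
    exact hcon ((le_inf inf_le_left (hCH.trans (le_cz_comm.1 h3))).trans (h4.le.trans inf_le_right))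
  have hne : ⁅sigmaCore M ⊓ H, M ⊓ H⁆ ≠ ⊥ := by
    intro h
    have h3 := comm_eq_bot_iff.1 h
    exact hcon (hCH.trans (h3.trans (cz_anti (h1E.trans (le_inf hEM hEH)))))
  have hrH := (hc hne).1
  have hRH : R ≤ sigmaCore H := syl_le_sigmaCore hG hH hrH hRπ (le_normalizer.trans hN)
  obtain ⟨F, hF, h1F⟩ := hall_exists_ge (π := (sigma H)ᶜ) (max_sol hG hH)
    (h1H.mono fun s hs => hs.2.1) (h1E.trans hEH)
  have h5 := bg13_5 hG hH hF h1H h1F hPe (fun h => ne_bot_of_card_prime hpp hP (cj_eq_bot.1 h))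
  have h6 : R ≤ 𝓒(E₁) := (le_inf hRH (le_cz_comm.1 hPR')).trans (h5.le.trans inf_le_right)
  exact tau1_not_cz hG hM hE h1 hr hRE hR h2 (le_cz_comm.1 h6)

theorem sig_comm {M H : Subgroup G} (hM : IsCoatom M) (hH : IsCoatom H)
    (hnc : ∀ g : G, H ≠ M ^ᵍ g) : sigmaCore H ⊓ M ≤ 𝓒(sigmaCore M ⊓ H) := by
  rw [← comm_eq_bot_iff, eq_bot_iff]
  have h1 : (sigmaCore H ⊓ M) ⊓ (sigmaCore M ⊓ H) = ⊥ := by
    refine cop_inf (IsPi.coprime (π := sigma H) ((hall_isPi (sigma_hall hG hH)).le inf_le_left) ?_)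
    refine ((hall_isPi (sigma_hall hG hM)).le inf_le_left).mono ?_
    intro s hs hsH
    exact sigma_part hG hM hH hnc hs hsH
  rw [← h1]
  have hσM := sigmaCore_le hG hM
  have hσH := sigmaCore_le hG hH
  refine le_inf (comm_le_left ?_) (comm_le_right ?_)
  · exact le_nz_inf (inf_le_right.trans (le_nz_sigmaCore hG H)) ((inf_le_left.trans hσM).trans
      le_normalizer)
  · exact le_nz_inf (inf_le_right.trans (le_nz_sigmaCore hG M)) ((inf_le_left.trans hσH).trans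
      le_normalizer)

theorem comm_line_eq {P R : Subgroup G} {r : ℕ} (hr : r.Prime) (hR : Nat.card R = r)
    (hn : P ≤ 𝓝(R)) (h : ¬ P ≤ 𝓒(R)) : ⁅R, P⁆ = R := by
  have h1 : ⁅R, P⁆ ≤ R := comm_le_left hn
  by_contra hne
  have h2 : Nat.card ↥⁅R, P⁆ ∣ r := by rw [← hR]; exact card_dvd_of_le h1
  rcases (Nat.dvd_prime hr).1 h2 with h3 | h3
  · apply h
    rw [le_cz_comm, ← comm_eq_bot_iff]
    exact Subgroup.eq_bot_of_card_eq _ h3
  · exact hne (eq_of_card_le h1 (by rw [h3, hR]))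

theorem not_cz_line {M E P R : Subgroup G} (hM : IsCoatom M) (hE : IsPiHallOf (sigma M)ᶜ E M)
    {r p : ℕ} (hr : r ∈ tau3 M) (hRE : R ≤ E) (hR : Nat.card R = r)
    (hp : p.Prime) (hPE : P ≤ E) (hP : Nat.card P = p) (hPR : ¬ P ≤ 𝓒(R)) :
    ¬ sigmaCore M ⊓ 𝓒(P) ≤ 𝓒(R) := by
  intro h
  have hrp := hr.1
  have hRπ := isPi_of_card_prime hrp hR
  have hRp := hRπ.isPGroup hrp
  have hR1 := ne_bot_of_card_prime hrp hR
  have hEM := hall_le hE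
  have hPπ := isPi_of_card_prime hp hP
  obtain ⟨hn, -⟩ := tau3_normal hG hM hE hr hRE hRπ
  have h1 := comm_line_eq hG hrp hR (hPE.trans hn) hPR
  have hσ := hall_isPi (sigma_hall hG hM)
  have hpr : p ≠ r := by
    rintro rfl
    apply hPR
    have h2 : P = R := by
      obtain ⟨-, E₃, h3, h4, hc, hn3⟩ := tau3_normal hG hM hE hr hRE hRπ
      have h5 : P ≤ E₃ := le_hall_of_normal h3 hn3
        (hPπ.mono (by rintro s rfl; exact hr)) hPE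
      obtain ⟨ρ, hρ, hρp⟩ := exists_gen_prime hrp hR
      have hρ1 : ρ ≠ 1 := by
        rintro rfl
        rw [zpowers_one_eq_bot] at hρ
        exact hR1 hρ
      obtain ⟨η, hη, hηp⟩ := exists_gen_prime hrp hP
      have h6 : η ∈ zpowers ρ := mem_zpowers_of_cyclic hc hrp
        (h4 (by rw [hρ]; exact mem_zpowers ρ)) (h5 (by rw [hη]; exact mem_zpowers η)) hρ1 hρp hηp
      refine eq_of_card_le ?_ (by rw [hP, hR])
      rw [hη, zpowers_le, hρ]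
      exact h6
    rw [h2]
    haveI : Fact p.Prime := ⟨hp⟩
    haveI := isCyclic_of_prime_card hR
    exact comm_iff_le_cz.1 inferInstance
  have h2 := l34s (V := sigmaCore M) (K := R) (X := P) (sigmaCore_sol hG hM)
    (by rw [hP]; exact hp) (by rw [hP]; exact ms_p2' hG hp (by rw [hP] : p ∣ Nat.card P))
    (pgroup_solvable hrp hRp) (ms_odd hG R)
    ((hσ.coprime ((hall_isPi hE).le hRE)).symm) ((hσ.coprime ((hall_isPi hE).le hPE)).symm)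
    (by rw [hP, hR]; exact (Nat.coprime_primes hp hrp).2 hpr) (hPE.trans hn)
    ((hRE.trans hEM).trans (le_nz_sigmaCore hG M)) ((hPE.trans hEM).trans (le_nz_sigmaCore hG M))
    (by rw [h1]; exact h)
  rw [h1] at h2
  have h3 : M ≤ 𝓝(R) := by
    rw [← compl_sup hG hM hE]
    exact sup_le ((le_cz_comm.1 h2).trans (cz_le_nz R)) hn
  have h4 : 𝓝(R) = M := max_nz_eq hG hM hR1 (hRE.trans hEM) h3
  rcases prime_class hG hM hrp hRp hR1 h4.le with h5 | h5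
  · exact hr.2.1 h5
  · exact h5.2.2.2 hr.2.2.2

theorem tau2_uniq' {H X : Subgroup G} (hH : IsCoatom H) {x : ℕ} (hx : x ∈ tau2 H) (hXH : X ≤ H)
    (hX : Nat.card X = x) (hC : sigmaCore H ⊓ 𝓒(X) ≠ ⊥) :
    𝓒(X) ≤ H ∧ ∀ L : Subgroup G, IsCoatom L → 𝓒(X) ≤ L → L = H := by
  have hxp := hx.1
  obtain ⟨ρ, hρ, hρp⟩ := exists_gen_prime hxp hX
  have hρ1 : ρ ≠ 1 := by
    rintro rfl
    rw [zpowers_one_eq_bot] at hρ
    exact ne_bot_of_card_prime hxp hX hρ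
  have hρX : ρ ∈ X := by rw [hρ]; exact mem_zpowers ρ
  obtain ⟨y, ⟨hy, hyX⟩, hy1⟩ := (sigmaCore H ⊓ 𝓒(X)).bot_or_exists_ne_one.resolve_left hC
  rw [cz_gen hρ]
  refine tau2_uniq hG hH (hXH hρX) hρ1 ?_ ⟨hXH hρX, y, hy, hy1, mem_cz.1 hyX ρ hρX⟩
  intro p hp hd
  rw [← Nat.card_zpowers, ← hρ, hX] at hd
  rw [(Nat.prime_dvd_prime_iff_eq hp hxp).1 hd]
  exact hx

theorem nz_le_of_uniq {H X : Subgroup G} (hX : 𝓝(X) ≠ ⊤)
    (h : ∀ L : Subgroup G, IsCoatom L → 𝓒(X) ≤ L → L = H) : 𝓝(X) ≤ H := by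
  obtain ⟨L, hL, hNL⟩ := exists_max hG hX
  rw [← h L hL ((cz_le_nz X).trans hNL)]
  exact hNL

end

end CfsgLib.BGPi
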