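import Cfsg.Agent.EqBase
import Cfsg.Agent.LibBG13f

/-! B & G §13: 13.7–13.10, the case where no element of `E₁` centralizes an element of `E₃`. -/

open Subgroup
open scoped Pointwise commutatorElement

namespace CfsgLib.BGPi

open Cfsg

universe u

section
variable {G : Type u} [Group G] [Finite G]

theorem comm_prime_cz {X : Subgroup G} {x : ℕ} (hx : x.Prime) (hX : Nat.card X = x) : X ≤ 𝓒(X) := by
  haveI : Fact x.Prime := ⟨hx⟩
  haveI := isCyclic_of_prime_card hX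
  exact comm_iff_le_cz.1 inferInstance

variable (hG : IsMinSimpleOddOrder G)
include hG

theorem acts_tau1 {H F B B₀ Y : Subgroup G} (hH : IsCoatom H) (hF : IsPiHallOf (sigma H)ᶜ F H)
    {r y : ℕ} (c : Exc r H B₀ B) (hBF : B ≤ F) (hYF : Y ≤ F) (hy : y.Prime) (hY : Nat.card Y = y)
    (hn : ¬ B ≤ 𝓒(Y)) : y ∈ tau1 H := by
  have hYπ := isPi_of_card_prime hy hY
  have hyF : y ∣ Nat.card F := by rw [← hY]; exact card_dvd_of_le hYF
  have hyσ : y ∉ sigma H := hall_isPi hF y hy hyF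
  rcases tau_cases hG hH hy (hyF.trans (card_dvd_of_le (hall_le hF))) hyσ with h | h | h
  · exact h
  · exfalso
    apply hn
    rw [le_cz_comm]
    exact c.tau2_cz hG hF hBF hYF (nilpotent_of_isPi hy hYπ) (hYπ.mono (by rintro s rfl; exact h))
  · exfalso
    apply hn
    obtain ⟨hn1, -⟩ := tau3_normal hG hH hF h hYF hYπ
    have hne : r ≠ y := by
      rintro rfl
      have := rank_iff.1 h.2.2.2 B c.AM c.el
      rw [c.card, pow_one] at this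
      have h2 : r < r ^ 2 := p_lt_p2 hy
      omega
    have hcop : (Nat.card B).Coprime (Nat.card Y) :=
      pq_coprime c.hp hy hne (elab_isPGroup c.el) (hYπ.isPGroup hy)
    rw [← comm_eq_bot_iff, eq_bot_iff, ← cop_inf hcop]
    exact le_inf (comm_le_left (hYF.trans (c.nzE hG hF hBF))) (comm_le_right (hBF.trans hn1))

theorem t2_case1 {M E R P X H : Subgroup G} (hM : IsCoatom M) (hE : IsPiHallOf (sigma M)ᶜ E M)
    {r p x : ℕ} (hr : r ∈ tau3 M) (hRE : R ≤ E) (hR : Nat.card R = r)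
    (hp : p ∈ tau1 M) (hPE : P ≤ E) (hP : Nat.card P = p) (hPR : ¬ P ≤ 𝓒(R))
    (hH : IsCoatom H) (hN : 𝓝(R) ≤ H) (hrH : r ∈ sigma H)
    (hx : x.Prime) (hX : Nat.card X = x) (hXσ : X ≤ sigmaCore M) (hXR : X ≤ 𝓒(R))
    (hXP : X ≤ 𝓒(P)) : False := by
  have hrp := hr.1
  have hpp := hp.1
  have hEM := hall_le hE
  have hRπ := isPi_of_card_prime hrp hR
  have hRp := hRπ.isPGroup hrp
  have hR1 := ne_bot_of_card_prime hrp hR
  have hPπ := isPi_of_card_prime hpp hP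
  have hXπ := isPi_of_card_prime hx hX
  have hX1 := ne_bot_of_card_prime hx hX
  obtain ⟨hn, -⟩ := tau3_normal hG hM hE hr hRE hRπ
  have hEH : E ≤ H := hn.trans hN
  obtain ⟨hnc, -⟩ := bg13_2 hG hM hH hrp hr.2.1 hr.2.2.2 (hRE.trans hEM) hRp hR1 hN
  have hne : M ≠ H := fun h => hnc 1 (by rw [cj_one]; exact h.symm)
  obtain ⟨hCM, hu, -⟩ := bg13_6 hG hM hp (hPE.trans hEM) hP hx hX hXσ hXP
  have hxM : x ∈ sigma M := hall_isPi (sigma_hall hG hM) x hx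
    (by rw [← hX]; exact card_dvd_of_le hXσ)
  have hxH : x ∉ sigma H := fun h => sigma_part hG hM hH hnc hxM h
  have hXH : X ≤ H := hXR.trans ((cz_le_nz R).trans hN)
  have hRH : R ≤ sigmaCore H := syl_le_sigmaCore hG hH hrH hRπ (le_normalizer.trans hN)
  have hRX : R ≤ sigmaCore H ⊓ 𝓒(X) := le_inf hRH (le_cz_comm.1 hXR)
  have hCX : sigmaCore H ⊓ 𝓒(X) ≠ ⊥ := fun h => hR1 (le_bot_iff.1 (h ▸ hRX))
  have hxd : x ∣ Nat.card H := by rw [← hX]; exact card_dvd_of_le hXH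
  have hx2 : x ∉ tau2 H := by
    intro h
    obtain ⟨-, h2⟩ := tau2_uniq' hG hH h hXH hX hCX
    exact hne (h2 M hM hCM)
  have hXM : X ≤ M := hXσ.trans (sigmaCore_le hG hM)
  have hP3 : ∀ F : Subgroup G, IsPiHallOf (sigma H)ᶜ F H → X ≤ F → x ∈ tau3 H →
      ∀ s : ℕ, s ∉ tau2 H := fun F hF hXF h3 => t3_no_tau2 hG hH hF h3 hXF hX hCX
  have hpH : p ∈ sigma H := by
    by_contra hpH
    have hRP : ¬ R ≤ 𝓒(P) := fun h => hPR (le_cz_comm.1 h)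
    rcases tau_cases hG hH hx hxd hxH with h1 | h2 | h3
    · exact hRP (hRX.trans (bg13_4 hG hH h1 hXH hX (hPE.trans hEH) hpp hP hpH (le_cz_comm.1 hXP)))
    · exact hx2 h2
    · obtain ⟨F, hF, hXF⟩ := hall_exists_ge (π := (sigma H)ᶜ) (max_sol hG hH)
        (IsPi.sup (π := (sigma H)ᶜ) (hXπ.mono (by rintro s rfl; exact hxH))
          (hPπ.mono (by rintro s rfl; exact hpH)) (hXP.trans (cz_le_nz P)))
        (sup_le hXH (hPE.trans hEH))
      have hXF' : X ≤ F := le_sup_left.trans hXF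
      have hPF : P ≤ F := le_sup_right.trans hXF
      have hno := hP3 F hF hXF' h3
      rcases tau_cases hG hH hpp (by rw [← hP]; exact card_dvd_of_le (hPE.trans hEH)) hpH with
        g1 | g2 | g3
      · obtain ⟨F₁, hF₁, hPF₁⟩ := hall_exists_ge (π := tau1 H)
          (solvable_sub (hall_le hF) (max_sol hG hH)) (hPπ.mono (by rintro s rfl; exact g1)) hPF
        have h4 := tau13_T1 hG hH hF hF₁ h3 hXF' hX g1 hPF hP (le_cz_comm.1 hXP)
        exact hRP ((hRX.trans h4).trans (cz_anti hPF₁))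
      · exact hno p g2
      · exact hRP (hRX.trans (line_cz_le hG hH hF h3 g3 hXF' hPF hX hPπ))
  have hPH : P ≤ sigmaCore H := syl_le_sigmaCore hG hH hpH hPπ (hPE.trans hEH)
  have hsc := sig_comm hG hM hH hnc
  have hVP : sigmaCore M ⊓ H ≤ 𝓒(P) := le_cz_comm.1 ((le_inf hPH (hPE.trans hEM)).trans hsc)
  have hVR : sigmaCore M ⊓ H ≤ 𝓒(R) := le_cz_comm.1 ((le_inf hRH (hRE.trans hEM)).trans hsc)
  suffices hCP : 𝓒(P) ≤ H from
    not_cz_line hG hM hE hr hRE hR hpp hPE hP hPR ((inf_le_inf le_rfl hCP).trans hVR)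
  rcases tau_cases hG hH hx hxd hxH with h1 | h2 | h3
  · exact (bg13_6 hG hH h1 hXH hX hpp hP hPH (le_cz_comm.1 hXP)).1
  · exact absurd h2 hx2
  obtain ⟨F, hF, hXF⟩ := hall_exists_ge (π := (sigma H)ᶜ) (max_sol hG hH)
    (hXπ.mono (by rintro s rfl; exact hxH)) hXH
  have hno := hP3 F hF hXF h3
  have hNX : 𝓝(X) ≤ M := nz_le_of_uniq hG (nz_line_ne_top hG hx hX) hu
  obtain ⟨hFX, -⟩ := tau3_normal hG hH hF h3 hXF hXπ
  have hFH := hall_le hF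
  obtain ⟨F₁, hF₁⟩ := hall_exists (π := tau1 H) (solvable_sub hFH (max_sol hG hH))
  have hF1n : ¬ F₁ ≤ 𝓒(X) := tau1_not_cz hG hH hF hF₁ h3 hXF hX hno
  have hF1 : F₁ ≠ ⊥ := fun h => hF1n (by rw [h]; exact bot_le)
  obtain ⟨p', hp', hpd, P', hPF', hPc'⟩ := exists_prime_sub hF1
  have hp1 : p' ∈ tau1 H := hall_isPi hF₁ p' hp' hpd
  have hPπ' := isPi_of_card_prime hp' hPc'
  have hPH' : P' ≤ H := hPF'.trans ((hall_le hF₁).trans hFH)
  have hPM' : P' ≤ M := hPF'.trans ((hall_le hF₁).trans (hFX.trans hNX))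
  suffices hPP : P ≤ 𝓒(P') from (bg13_6 hG hH hp1 hPH' hPc' hpp hP hPH hPP).1
  by_cases hps : p' ∈ sigma M
  · rw [le_cz_comm]
    exact (le_inf (syl_le_sigmaCore hG hM hps hPπ' hPM') hPH').trans hVP
  have hno2 := t3_no_tau2 hG hM hE hr hRE hR (fun h => hX1 (le_bot_iff.1 (h ▸ le_inf hXσ hXR)))
  have hEs := solvable_sub hEM (max_sol hG hM)
  obtain ⟨E₁, h1, hPE1⟩ := hall_exists_ge (π := tau1 M) hEs (hPπ.mono (by rintro s rfl; exact hp))
    hPE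
  obtain ⟨-, E₃, g3, hRE3, -, -⟩ := tau3_normal hG hM hE hr hRE hRπ
  have hEC : E ≤ 𝓒(sigmaCore M ⊓ H) := by
    refine E_le_of hG hM hE h1 g3 hno2 ?_ ?_
    · rw [le_cz_comm]
      have h5 := bg13_5 hG hM hE (hall_isPi h1) (hall_le h1) hPE1 (ne_bot_of_card_prime hpp hP)
      exact (le_inf inf_le_left hVP).trans (h5.le.trans inf_le_right)
    · rw [le_cz_comm]
      exact (le_inf inf_le_left hVR).trans (bg13_3b hG hM hE g3 hRE3 hR1)
  obtain ⟨m, hm, hmE⟩ := hall_subj (solvable_sub inf_le_left (max_sol hG hM))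
    (hall_le_of_le hE (le_inf hEM hEH) inf_le_left) (hPπ'.mono (by rintro s rfl; exact hps))
    (le_inf hPM' hPH')
  have hmn : m ∈ 𝓝(sigmaCore M ⊓ H) :=
    (le_nz_inf (inf_le_left.trans (le_nz_sigmaCore hG M))
      (inf_le_right.trans le_normalizer) : M ⊓ H ≤ 𝓝(sigmaCore M ⊓ H)) hm
  have hP'C : P' ≤ 𝓒(sigmaCore M ⊓ H) := by
    have h6 := hmE.trans hEC
    rw [← cz_cj_of_nz hmn, cj_le_cj] at h6
    exact h6
  have hP'X : P' ≤ 𝓒(X) := hP'C.trans (cz_anti (le_inf hXσ hXH))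
  have h7 := tau13_T1 hG hH hF hF₁ h3 hXF hX hp1 (hPF'.trans (hall_le hF₁)) hPc' hP'X
  exact ((le_inf hPH (le_cz_comm.1 hXP)).trans h7).trans (cz_anti hPF')

theorem t2_case2 {M E R P X H : Subgroup G} (hM : IsCoatom M) (hE : IsPiHallOf (sigma M)ᶜ E M)
    {r p x : ℕ} (hr : r ∈ tau3 M) (hRE : R ≤ E) (hR : Nat.card R = r)
    (hp : p ∈ tau1 M) (hPE : P ≤ E) (hP : Nat.card P = p)
    (hNo : ∀ p' r' : ℕ, ∀ P' R' : Subgroup G, p' ∈ tau1 M → r' ∈ tau3 M → P' ≤ E → R' ≤ E →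
      Nat.card P' = p' → Nat.card R' = r' → ¬ P' ≤ 𝓒(R'))
    (hH : IsCoatom H) (hN : 𝓝(R) ≤ H) (hrH : r ∉ sigma H)
    (hx : x.Prime) (hX : Nat.card X = x) (hXσ : X ≤ sigmaCore M) (hXR : X ≤ 𝓒(R))
    (hXP : X ≤ 𝓒(P)) : False := by
  have hrp := hr.1
  have hpp := hp.1
  have hEM := hall_le hE
  have hRπ := isPi_of_card_prime hrp hR
  have hRp := hRπ.isPGroup hrp
  have hR1 := ne_bot_of_card_prime hrp hR
  have hPπ := isPi_of_card_prime hpp hP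
  have hXπ := isPi_of_card_prime hx hX
  have hX1 := ne_bot_of_card_prime hx hX
  have hPR := hNo p r P R hp hr hPE hRE hP hR
  obtain ⟨hn, -⟩ := tau3_normal hG hM hE hr hRE hRπ
  have hEH : E ≤ H := hn.trans hN
  obtain ⟨hnc, -⟩ := bg13_2 hG hM hH hrp hr.2.1 hr.2.2.2 (hRE.trans hEM) hRp hR1 hN
  have hne : M ≠ H := fun h => hnc 1 (by rw [cj_one]; exact h.symm)
  obtain ⟨hCM, hu, -⟩ := bg13_6 hG hM hp (hPE.trans hEM) hP hx hX hXσ hXP
  have hxM : x ∈ sigma M := hall_isPi (sigma_hall hG hM) x hx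
    (by rw [← hX]; exact card_dvd_of_le hXσ)
  have hxH : x ∉ sigma H := fun h => sigma_part hG hM hH hnc hxM h
  have hXH : X ≤ H := hXR.trans ((cz_le_nz R).trans hN)
  have hr2 : r ∈ tau2 H := (prime_class hG hH hrp hRp hR1 hN).resolve_left hrH
  have hno2 := t3_no_tau2 hG hM hE hr hRE hR (fun h => hX1 (le_bot_iff.1 (h ▸ le_inf hXσ hXR)))
  -- every `B` is not centralized by `X`
  have hBX : ∀ B B₀ : Subgroup G, Exc r H B₀ B → ¬ B ≤ 𝓒(X) := by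
    intro B B₀ c h
    have := rank_iff.1 hr.2.2.2 B (h.trans hCM) c.el
    rw [c.card, pow_one] at this
    have h2 : r < r ^ 2 := p_lt_p2 hrp
    omega
  have hXRn : X ≤ 𝓝(R) := hXR.trans (cz_le_nz R)
  have hx1 : x ∈ tau1 H := by
    obtain ⟨F, hF, hXF⟩ := hall_exists_ge (π := (sigma H)ᶜ) (max_sol hG hH)
      (hXπ.mono (by rintro s rfl; exact hxH)) hXH
    obtain ⟨B, hBF, B₀, c⟩ := exists_exc_tau2 hG hH hF hr2
    exact acts_tau1 hG hH hF c hBF hXF hx hX (hBX B B₀ c)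
  have hCX : sigmaCore H ⊓ 𝓒(X) = ⊥ := by
    by_contra hC
    obtain ⟨z, hz, hzd, Z, hZ, hZc⟩ := exists_prime_sub hC
    have hzH : z ∈ sigma H := hall_isPi (sigma_hall hG hH) z hz
      (hzd.trans (card_dvd_of_le inf_le_left))
    have hZσ : Z ≤ sigmaCore H := hZ.trans inf_le_left
    have hZX : Z ≤ 𝓒(X) := hZ.trans inf_le_right
    obtain ⟨hZH, hZu, -⟩ := bg13_6 hG hH hx1 hXH hX hz hZc hZσ hZX
    have hZR : Z ≤ 𝓒(R) := hZ.trans (bg13_4 hG hH hx1 hXH hX (hRE.trans hEH) hrp hR hrH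
      (le_cz_comm.1 hXR))
    have hZM : Z ≤ M := hZX.trans hCM
    have hzM : z ∉ sigma M := fun h => sigma_part hG hM hH hnc h hzH
    have hZE : Z ≤ E := by
      refine (le_inf hZσ hZM).trans (normal_le_hall (D := M ⊓ H)
        (hall_le_of_le hE (le_inf hEM hEH) inf_le_left)
        (le_inf inf_le_right (inf_le_left.trans (sigmaCore_le hG hH)))
        (le_nz_inf (inf_le_right.trans (le_nz_sigmaCore hG H)) (inf_le_left.trans le_normalizer))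
        (IsPi.mono ?_ ((hall_isPi (sigma_hall hG hH)).le inf_le_left)))
      intro s hs hsM
      exact sigma_part hG hM hH hnc hsM hs
    have hzdM : z ∣ Nat.card M := by rw [← hZc]; exact card_dvd_of_le hZM
    rcases tau_cases hG hM hz hzdM hzM with h1 | h2 | h3
    · exact hNo z r Z R h1 hr hZE hRE hZc hR hZR
    · exact hno2 z h2
    · exact t2_case1 hG hM hE h3 hZE hZc hp hPE hP (hNo p z P Z hp h3 hPE hZE hP hZc) hH
        (nz_le_of_uniq hG (nz_line_ne_top hG hz hZc) hZu) hzH hx hX hXσ (le_cz_comm.1 hZX) hXP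
  have hpH : p ∉ sigma H := by
    intro h
    have h1 : P ≤ sigmaCore H ⊓ 𝓒(X) :=
      le_inf (syl_le_sigmaCore hG hH h hPπ (hPE.trans hEH)) (le_cz_comm.1 hXP)
    rw [hCX, le_bot_iff] at h1
    exact ne_bot_of_card_prime hpp hP h1
  have hRPn : P ≤ 𝓝(R) := hPE.trans hn
  obtain ⟨F, hF, hTF⟩ := hall_exists_ge (π := (sigma H)ᶜ) (max_sol hG hH)
    (IsPi.sup (π := (sigma H)ᶜ) (hXπ.mono (by rintro s rfl; exact hxH))
      (IsPi.sup' (hRπ.mono (by rintro s rfl; exact hrH)) (hPπ.mono (by rintro s rfl; exact hpH))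
        hRPn) (le_nz_sup hXRn (hXP.trans (cz_le_nz P))))
    (sup_le hXH (sup_le (hRE.trans hEH) (hPE.trans hEH)))
  have hXF : X ≤ F := le_sup_left.trans hTF
  have hRF : R ≤ F := (le_sup_left.trans le_sup_right).trans hTF
  have hPF : P ≤ F := (le_sup_right.trans le_sup_right).trans hTF
  obtain ⟨B, hBF, B₀, c⟩ := exists_exc_tau2 hG hH hF hr2
  have hRB : R ≤ B := c.line_le hG hF hBF hRF hR
  have hp1 : p ∈ tau1 H := acts_tau1 hG hH hF c hBF hPF hpp hP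
    (fun h => hPR (le_cz_comm.1 (hRB.trans h)))
  have hCP : sigmaCore H ⊓ 𝓒(P) = ⊥ := by
    have h1 : IsPi (tau1 H) (X ⊔ P) := IsPi.sup (hXπ.mono (by rintro s rfl; exact hx1))
      (hPπ.mono (by rintro s rfl; exact hp1)) (hXP.trans (cz_le_nz P))
    have h2 := bg13_5 hG hH hF h1 (sup_le hXF hPF) le_sup_right (ne_bot_of_card_prime hpp hP)
    rw [h2, ← le_bot_iff, ← hCX]
    exact inf_le_inf le_rfl (cz_anti le_sup_left)
  have hσ := hall_isPi (sigma_hall hG hH)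
  have hBσ : IsPi (sigma H)ᶜ B := c.isPi
  have hFn : F ≤ 𝓝(B) := c.nzE hG hF hBF
  have hFσ : F ≤ 𝓝(sigmaCore H) := (hall_le hF).trans (le_nz_sigmaCore hG H)
  have key : ∀ (y : ℕ) (Y : Subgroup G), y.Prime → y ≠ r → Nat.card Y = y → Y ≤ F →
      sigmaCore H ⊓ 𝓒(Y) = ⊥ → ⁅B, Y⁆ ≤ 𝓒(sigmaCore H) := by
    intro y Y hy hyr hYc hYF hC
    refine l34s (sigmaCore_sol hG hH) (by rw [hYc]; exact hy)
      (by rw [hYc]; exact ms_p2' hG hy (by rw [hYc] : y ∣ Nat.card Y))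
      (pgroup_solvable hrp (elab_isPGroup c.el)) (ms_odd hG B) (hσ.coprime hBσ).symm
      (hσ.coprime ((hall_isPi hF).le hYF)).symm ?_ (hYF.trans hFn) (hBF.trans hFσ) (hYF.trans hFσ)
      (by rw [hC]; exact bot_le)
    rw [hYc, c.card]
    exact ((Nat.coprime_primes hy hrp).2 hyr).pow_right 2
  have hxr : x ≠ r := fun h => hr.2.1 (h ▸ hxM)
  have hpr : p ≠ r := fun h => hp.2.2.2.1 (h ▸ hr.2.2.1)
  have k1 := key x X hx hxr hX hXF hCX
  have k2 := key p P hpp hpr hP hPF hCP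
  have hR2 : R ≤ 𝓒(sigmaCore H) := by
    rw [← comm_line_eq hG hrp hR hRPn hPR]
    exact (commutator_mono hRB le_rfl).trans k2
  have hBX' := hBX B B₀ c
  have hcop : (Nat.card X).Coprime (Nat.card B) := by
    rw [hX, c.card]
    exact ((Nat.coprime_primes hx hrp).2 hxr).pow_right 2
  have hBab : B ≤ 𝓒(B) := (elab_iff.1 c.el).1
  have h1 : ⁅B, X⁆ ⊓ R = ⊥ := by
    rw [← le_bot_iff, ← ab_cop_inf hBab (hXF.trans hFn) hcop]
    exact inf_le_inf le_rfl (le_cz_comm.1 hXR)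
  have h2 : ⁅B, X⁆ ≤ B := comm_le_left (hXF.trans hFn)
  have h3 : ⁅B, X⁆ ≠ ⊥ := fun h => hBX' (comm_eq_bot_iff.1 h)
  have h4 : ⁅B, X⁆ ⊔ R = B := by
    refine eq_of_card_le (sup_le h2 hRB) ?_
    rw [card_sup_of_disjoint ((h2.trans hBab).trans ((cz_anti hRB).trans (cz_le_nz _))) h1, hR,
      c.card, pow_two]
    refine Nat.mul_le_mul ?_ le_rfl
    exact Nat.le_of_dvd Nat.card_pos
      (pgroup_dvd_card hrp ((elab_isPGroup c.el).to_le h2) h3)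
  exact bg10_11b hG hH hrp hrH c.AM c.el c.card (by rw [← h4]; exact sup_le k1 hR2)

theorem t2_step2 {M E R P : Subgroup G} (hM : IsCoatom M) (hE : IsPiHallOf (sigma M)ᶜ E M)
    {r p : ℕ} (hr : r ∈ tau3 M) (hRE : R ≤ E) (hR : Nat.card R = r)
    (hp : p ∈ tau1 M) (hPE : P ≤ E) (hP : Nat.card P = p)
    (hNo : ∀ p' r' : ℕ, ∀ P' R' : Subgroup G, p' ∈ tau1 M → r' ∈ tau3 M → P' ≤ E → R' ≤ E →
      Nat.card P' = p' → Nat.card R' = r' → ¬ P' ≤ 𝓒(R')) :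
    sigmaCore M ⊓ 𝓒(R) ⊓ 𝓒(P) = ⊥ := by
  by_contra hC
  have hrp := hr.1
  have hRπ := isPi_of_card_prime hrp hR
  obtain ⟨x, hx, -, X, hX, hXc⟩ := exists_prime_sub hC
  obtain ⟨H, hH, hN⟩ := exists_max hG (nz_line_ne_top hG hrp hR)
  have hXσ : X ≤ sigmaCore M := hX.trans (inf_le_left.trans inf_le_left)
  have hXR : X ≤ 𝓒(R) := hX.trans (inf_le_left.trans inf_le_right)
  have hXP : X ≤ 𝓒(P) := hX.trans inf_le_right
  by_cases hrH : r ∈ sigma H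
  · exact t2_case1 hG hM hE hr hRE hR hp hPE hP (hNo p r P R hp hr hPE hRE hP hR) hH hN hrH hx hXc
      hXσ hXR hXP
  · exact t2_case2 hG hM hE hr hRE hR hp hPE hP hNo hH hN hrH hx hXc hXσ hXR hXP

theorem t2_main {M E R : Subgroup G} (hM : IsCoatom M) (hE : IsPiHallOf (sigma M)ᶜ E M)
    {r : ℕ} (hr : r ∈ tau3 M) (hRE : R ≤ E) (hR : Nat.card R = r)
    (hNo : ∀ p' r' : ℕ, ∀ P' R' : Subgroup G, p' ∈ tau1 M → r' ∈ tau3 M → P' ≤ E → R' ≤ E →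
      Nat.card P' = p' → Nat.card R' = r' → ¬ P' ≤ 𝓒(R')) (hC : sigmaCore M ⊓ 𝓒(R) ≠ ⊥) :
    False := by
  have hrp := hr.1
  have hEM := hall_le hE
  have hRπ := isPi_of_card_prime hrp hR
  have hRp := hRπ.isPGroup hrp
  have hR1 := ne_bot_of_card_prime hrp hR
  obtain ⟨hn, -⟩ := tau3_normal hG hM hE hr hRE hRπ
  obtain ⟨H, hH, hN⟩ := exists_max hG (nz_line_ne_top hG hrp hR)
  have hEH : E ≤ H := hn.trans hN
  have hno2 := t3_no_tau2 hG hM hE hr hRE hR hC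
  have hEs := solvable_sub hEM (max_sol hG hM)
  obtain ⟨E₁, hE₁⟩ := hall_exists (π := tau1 M) hEs
  have h1n : ¬ E₁ ≤ 𝓒(R) := tau1_not_cz hG hM hE hE₁ hr hRE hR hno2
  have hE1 : E₁ ≠ ⊥ := fun h => h1n (by rw [h]; exact bot_le)
  obtain ⟨p, hpp, hpd, P, hPF, hP⟩ := exists_prime_sub hE1
  have hp : p ∈ tau1 M := hall_isPi hE₁ p hpp hpd
  have hPE : P ≤ E := hPF.trans (hall_le hE₁)
  have hPπ := isPi_of_card_prime hpp hP
  have hPR := hNo p r P R hp hr hPE hRE hP hR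
  have hV := t2_step2 hG hM hE hr hRE hR hp hPE hP hNo
  obtain ⟨hnc, ha, hb, hc⟩ := bg13_2 hG hM hH hrp hr.2.1 hr.2.2.2 (hRE.trans hEM) hRp hR1 hN
  have hVR : sigmaCore M ⊓ H ≤ 𝓒(R) := le_cz_comm.1 (ha R (le_inf (hRE.trans hEM)
    (hRE.trans hEH)) hRp)
  have hVV : sigmaCore M ⊓ 𝓒(R) ≤ sigmaCore M ⊓ H :=
    inf_le_inf le_rfl ((cz_le_nz R).trans hN)
  have hVe : sigmaCore M ⊓ H = sigmaCore M ⊓ 𝓒(R) :=
    le_antisymm (le_inf inf_le_left hVR) hVV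
  have hPD : P ≤ M ⊓ H := le_inf (hPE.trans hEM) (hPE.trans hEH)
  have hnPV : ¬ P ≤ 𝓒(sigmaCore M ⊓ H) := by
    intro h
    apply hC
    rw [← le_bot_iff, ← hV]
    exact le_inf le_rfl (hVV.trans (le_cz_comm.1 h))
  have hpH : p ∈ tau1 H := by
    by_contra h
    exact hnPV (hb P hPD ((hall_isPi hE).le hPE) (hPπ.mono (by rintro s rfl; exact h)))
  have hrH : r ∈ sigma H := by
    refine (hc ?_).1
    intro h
    exact hnPV (le_cz_comm.1 ((comm_eq_bot_iff.1 h).trans (cz_anti hPD)))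
  -- `Q`
  have hVs : Group.IsSolvable ↥(sigmaCore M ⊓ H) :=
    solvable_sub inf_le_left (sigmaCore_sol hG hM)
  have hV1 : sigmaCore M ⊓ H ≠ ⊥ := fun h => hC (le_bot_iff.1 (h ▸ hVV))
  have hDV : M ⊓ H ≤ 𝓝(sigmaCore M ⊓ H) :=
    le_nz_inf (inf_le_left.trans (le_nz_sigmaCore hG M)) (inf_le_right.trans le_normalizer)
  have hVσ : IsPi (sigma M) (sigmaCore M ⊓ H) := (hall_isPi (sigma_hall hG hM)).le inf_le_left
  have hcop : (Nat.card P).Coprime (Nat.card ↥(sigmaCore M ⊓ H)) :=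
    (hVσ.coprime ((hall_isPi hE).le hPE)).symm
  obtain ⟨q, hq, hqd⟩ := exists_prime_dvd_of_ne_bot hV1
  obtain ⟨Q, hQ, hPQ⟩ := cop_hall_exists (hPD.trans hDV) hcop hVs ({q} : Set ℕ)
  have hqM : q ∈ sigma M := hVσ q hq hqd
  have hVD : IsPiHallOf (sigma M) (sigmaCore M ⊓ (M ⊓ H)) (M ⊓ H) :=
    hall_normal_inf (sigma_hall hG hM) (le_nz_sigmaCore hG M) inf_le_left
  rw [← inf_assoc, inf_eq_left.2 (sigmaCore_le hG hM)] at hVD
  have hQD : IsPiHallOf {q} Q (M ⊓ H) := hall_trans hQ hVD (Set.singleton_subset_iff.2 hqM)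
  have hQV := hall_le hQ
  have hQ1 : Q ≠ ⊥ := hall_ne_bot hq hQ hqd
  have hQp := (hall_isPi hQ).isPGroup hq
  have hQR : Q ≤ 𝓒(R) := hQV.trans hVR
  have hQP : Q ⊓ 𝓒(P) = ⊥ := by
    rw [← le_bot_iff, ← hV]
    exact inf_le_inf (hQV.trans hVe.le) le_rfl
  have hQM : Q ≤ M := hQV.trans (inf_le_left.trans (sigmaCore_le hG hM))
  have hNQ : 𝓝(Q) ≤ M := by
    obtain ⟨K, hK, hNK⟩ := exists_max hG (ms_nz_ne_top hG hQ1 (ms_p_ne_top hG hq hQp))
    by_cases hKM : K = M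
    · rw [← hKM]; exact hNK
    have hKnc := bg12_15a hG hM hqM hQp hQ1 hQM hKM hNK
    have hqK : q ∉ sigma K := fun h => sigma_part hG hM hK hKnc hqM h
    obtain ⟨S, hS, hQS⟩ := exists_syl_ge hq (hall_isPi hQ) (le_inf hQM (le_normalizer.trans hNK))
    obtain ⟨A, hAS, A₀, c, -, hHK, -⟩ := bg12_15e hG hM hK hqM hKM hqK hQ1 hNK hS hQS
    have hRK : R ≤ M ⊓ K := le_inf (hRE.trans hEM)
      ((le_cz_comm.1 hQR).trans ((cz_le_nz Q).trans hNK))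
    have hPK : P ≤ M ⊓ K := le_inf (hPE.trans hEM) (hPQ.trans hNK)
    have hAMK : A ≤ M ⊓ K := hAS.trans (hall_le hS)
    have hrK : r ∉ tau1 K := by
      intro h
      apply h.2.2.2.1
      have h1 : R ≤ ⁅K, K⁆ := by
        rw [← comm_line_eq hG hrp hR (hPE.trans hn) hPR]
        exact commutator_mono (hRK.trans inf_le_right) (hPK.trans inf_le_right)
      rw [← hR]
      exact card_dvd_of_le h1
    have hAR : A ≤ 𝓒(R) := by
      by_contra h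
      exact hrK (acts_tau1 hG hK hHK c hAMK hRK hrp hR h)
    have hAM : A ≤ M := hAMK.trans inf_le_left
    have hAq : IsPi {q} A := elab_isPi hq c.el
    have hAV : A ≤ sigmaCore M ⊓ H :=
      le_inf (syl_le_sigmaCore hG hM hqM hAq hAM) (hAR.trans ((cz_le_nz R).trans hN))
    obtain ⟨v, -, hv⟩ := syl_subj hq hQ hAq hAV
    have hQnc : ¬ IsCyclic Q := by
      intro h
      have h1 := rank_iff.1 (rank1_of_cyclic hq h) (A ^ᵍ v) hv (elab_cj c.el v)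
      rw [card_cj, c.card, pow_one] at h1
      have h2 : q < q ^ 2 := p_lt_p2 hq
      omega
    exact nz_noncyc hG hM hqM hQp hQM hQnc
  -- `R̂`
  obtain ⟨S, hS, hRS⟩ := exists_syl_ge hrp hRπ hRE
  have hSp := (hall_isPi hS).isPGroup hrp
  have hSc : IsCyclic S := cyclic_of_rank1 hrp (ms_p2' hG hrp (by rw [hR] : r ∣ Nat.card R)) hSp
    (rank_mono ((hall_le hS).trans hEM) hr.2.2.2)
  obtain ⟨hSn, -⟩ := tau3_normal hG hM hE hr (hall_le hS) (hall_isPi hS)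
  have hNS : 𝓝(S) ≤ H := (nz_of_cyclic hSc hRS).trans hN
  have hSD : IsPiHallOf {r} S (M ⊓ H) :=
    hall_trans hS (hall_le_of_le hE (le_inf hEM hEH) inf_le_left) (Set.singleton_subset_iff.2 hr.2.1)
  have hpr : p ≠ r := fun h => hp.2.2.2.1 (h ▸ hr.2.2.1)
  have hSP : S ⊓ 𝓒(P) = ⊥ := by
    refine (cyc_comm hrp hSp hSc (hPE.trans hSn) (by rw [hP]; exact (Nat.coprime_primes hpp hrp).2 hpr)
      ?_).2
    intro h
    exact hPR (h.trans (cz_anti hRS))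
  exact bg13_8 hG hM hH hnc hp hpH hPD hP hrp hq hSD (hPE.trans hSn) hSP hNS hQD hPQ hQP hNQ

/-- B & G 13.10 -/
theorem tau3_struct {M E E₁ R : Subgroup G} (hM : IsCoatom M) (hE : IsPiHallOf (sigma M)ᶜ E M)
    (h1 : IsPiHallOf (tau1 M) E₁ E)
    {r : ℕ} (hr : r ∈ tau3 M) (hRE : R ≤ E) (hR : Nat.card R = r)
    (hC : sigmaCore M ⊓ 𝓒(R) ≠ ⊥) :
    (∀ s : ℕ, s ∉ tau2 M) ∧ E₁ ≠ ⊥ ∧ sigmaCore M ⊓ 𝓒(R) = sigmaCore M ⊓ 𝓒(E₁) ∧
    (∀ p : ℕ, ∀ P : Subgroup G, p ∈ tau1 M → P ≤ E → Nat.card P = p → P ≤ 𝓒(R)) := by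
  have hrp := hr.1
  have hEM := hall_le hE
  have hRπ := isPi_of_card_prime hrp hR
  have hR1 := ne_bot_of_card_prime hrp hR
  obtain ⟨hn, -⟩ := tau3_normal hG hM hE hr hRE hRπ
  have hno2 := t3_no_tau2 hG hM hE hr hRE hR hC
  have hEs := solvable_sub hEM (max_sol hG hM)
  have h1n : ¬ E₁ ≤ 𝓒(R) := tau1_not_cz hG hM hE h1 hr hRE hR hno2
  have hE1 : E₁ ≠ ⊥ := fun h => h1n (by rw [h]; exact bot_le)
  have hex : ∃ p' r' : ℕ, ∃ P' R' : Subgroup G, p' ∈ tau1 M ∧ r' ∈ tau3 M ∧ P' ≤ E ∧ R' ≤ E ∧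
      Nat.card P' = p' ∧ Nat.card R' = r' ∧ P' ≤ 𝓒(R') := by
    by_contra hcon
    refine t2_main hG hM hE hr hRE hR ?_ hC
    intro p' r' P' R' g1 g2 g3 g4 g5 g6 g7
    exact hcon ⟨p', r', P', R', g1, g2, g3, g4, g5, g6, g7⟩
  obtain ⟨p', r', P', R', g1, g2, g3, g4, g5, g6, g7⟩ := hex
  have hRπ' := isPi_of_card_prime g2.1 g6
  have hPπ' := isPi_of_card_prime g1.1 g5
  obtain ⟨hn', -⟩ := tau3_normal hG hM hE g2 g4 hRπ'
  have e1 : sigmaCore M ⊓ 𝓒(R) ≤ 𝓒(R') := line_cz_le hG hM hE hr g2 hRE g4 hR hRπ'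
  have e2 : sigmaCore M ⊓ 𝓒(R') ≤ 𝓒(R) := line_cz_le hG hM hE g2 hr g4 hRE g6 hRπ
  have e3 := tau13_T1 hG hM hE h1 g2 g4 g6 g1 g3 g5 g7
  have hle : sigmaCore M ⊓ 𝓒(R) ≤ sigmaCore M ⊓ 𝓒(E₁) :=
    le_inf inf_le_left ((le_inf inf_le_left e1).trans e3)
  -- conjugate `P'` into `E₁`
  obtain ⟨e, he, hPe⟩ := hall_subj hEs h1 (hPπ'.mono (by rintro s rfl; exact g1)) g3
  have hPR' : P' ^ᵍ e ≤ 𝓒(R') := cj_le_cz (hn' he) g7
  have hge : sigmaCore M ⊓ 𝓒(E₁) ≤ sigmaCore M ⊓ 𝓒(R) := by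
    refine le_inf inf_le_left ((le_inf inf_le_left ?_).trans e2)
    have h5 := bg13_4 hG hM g1 (((hPe.trans (hall_le h1)).trans hEM)) (by rw [card_cj, g5])
      (g4.trans hEM) g2.1 g6 g2.2.1 (le_cz_comm.1 hPR')
    exact (inf_le_inf le_rfl (cz_anti hPe)).trans h5
  have heq := le_antisymm hle hge
  refine ⟨hno2, hE1, heq, ?_⟩
  intro p P hp hPE hP
  obtain ⟨a, ha, hPa⟩ := hall_subj hEs h1
    ((isPi_of_card_prime hp.1 hP).mono (by rintro s rfl; exact hp)) hPE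
  have h6 : P ^ᵍ a ≤ 𝓒(R) := by
    by_contra hcon
    refine not_cz_line hG hM hE hr hRE hR hp.1 (hPa.trans (hall_le h1)) (by rw [card_cj, hP]) hcon ?_
    have h7 := bg13_5 hG hM hE (hall_isPi h1) (hall_le h1) hPa
      (fun h => ne_bot_of_card_prime hp.1 hP (cj_eq_bot.1 h))
    rw [h7, ← heq]
    exact inf_le_right
  rw [← cz_cj_of_nz (hn ha), cj_le_cj] at h6
  exact h6

end

end CfsgLib.BGPi
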