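import Cfsg.Agent.EqBase
import Cfsg.Agent.LibBG13g

/-! B & G §14: the set `κ(M)`; preparations for 14.2. -/

open Subgroup
open scoped Pointwise commutatorElement

namespace CfsgLib.BGPi

open Cfsg

universe u

section
variable {G : Type u} [Group G] [Finite G]

theorem sylmap_hall {p : ℕ} (hp : p.Prime) {M : Subgroup G} (P : Sylow p M) :
    IsPiHallOf {p} ((P : Subgroup M).map M.subtype) M := by
  haveI : Fact p.Prime := ⟨hp⟩
  exact hall_of_sylow_sub P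

theorem cyc_card_prime_eq {S X Y : Subgroup G} (hS : IsCyclic S) {p : ℕ} (hp : p.Prime)
    (hX : X ≤ S) (hY : Y ≤ S) (hXc : Nat.card X = p) (hYc : Nat.card Y = p) : X = Y := by
  obtain ⟨ρ, hρ, hρp⟩ := exists_gen_prime hp hXc
  have hρ1 : ρ ≠ 1 := by
    rintro rfl
    rw [zpowers_one_eq_bot] at hρ
    exact ne_bot_of_card_prime hp hXc hρ
  obtain ⟨η, hη, hηp⟩ := exists_gen_prime hp hYc
  have h6 : η ∈ zpowers ρ := mem_zpowers_of_cyclic hS hp
    (hX (by rw [hρ]; exact mem_zpowers ρ)) (hY (by rw [hη]; exact mem_zpowers η)) hρ1 hρp hηp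
  symm
  refine eq_of_card_le ?_ (by rw [hXc, hYc])
  rw [hη, zpowers_le, hρ]
  exact h6

theorem le_cz_iff_one {y : G} {X : Subgroup G} : y ∈ 𝓒(X) ↔ ∀ x ∈ X, x * y = y * x := mem_cz

variable (hG : IsMinSimpleOddOrder G)
include hG

theorem syl_cyc {M S : Subgroup G} {p : ℕ} (hp : p.Prime) (hpM : p ∣ Nat.card M)
    (hr : PRankLE p 1 M) (hS : IsPGroup p S) (hSM : S ≤ M) : IsCyclic S :=
  cyclic_of_rank1 hp (ms_p2' hG hp hpM) hS (rank_mono hSM hr)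

theorem rank1_conj {M X Y : Subgroup G} {p : ℕ} (hp : p.Prime) (hr : PRankLE p 1 M)
    (hXM : X ≤ M) (hYM : Y ≤ M) (hX : Nat.card X = p) (hY : Nat.card Y = p) :
    ∃ m ∈ M, X ^ᵍ m = Y := by
  obtain ⟨S, hS, hYS⟩ := exists_syl_ge hp (isPi_of_card_prime hp hY) hYM
  obtain ⟨m, hm, hXS⟩ := syl_subj hp hS (isPi_of_card_prime hp hX) hXM
  refine ⟨m, hm, ?_⟩
  have hpM : p ∣ Nat.card M := by rw [← hX]; exact card_dvd_of_le hXM
  exact cyc_card_prime_eq (syl_cyc hG hp hpM hr ((hall_isPi hS).isPGroup hp) (hall_le hS)) hp hXS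
    hYS (by rw [card_cj, hX]) hY

theorem kappa_iff {M : Subgroup G} {p : ℕ} : p ∈ kappa M ↔ p.Prime ∧ p ∉ sigma M ∧
    PRankLE p 1 M ∧ ∃ X ≤ M, Nat.card X = p ∧ sigmaCore M ⊓ 𝓒(X) ≠ ⊥ := by
  constructor
  · rintro ⟨hp, hpM, hσ, h⟩
    haveI : Fact p.Prime := ⟨hp⟩
    obtain ⟨P⟩ : Nonempty (Sylow p M) := inferInstance
    obtain ⟨hc, x, hxP, hx1, y, hy, hy1, hxy⟩ := h P
    have hS := sylmap_hall hp P
    have hSc : IsCyclic ↥((P : Subgroup M).map M.subtype) := by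
      haveI := hc
      exact isCyclic_of_surjective _ (MulEquiv.surjective
        ((P : Subgroup M).equivMapOfInjective M.subtype (Subgroup.subtype_injective M)))
    refine ⟨hp, hσ, (rank_syl hp hS).2 (rank1_of_cyclic hp hSc), ?_⟩
    have hz1 : zpowers (x : G) ≠ ⊥ := by
      intro h0
      rw [zpowers_eq_bot] at h0
      exact hx1 (Subtype.ext h0)
    have hzS : zpowers (x : G) ≤ (P : Subgroup M).map M.subtype := by
      rw [zpowers_le]
      exact ⟨x, hxP, rfl⟩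
    have hd := pgroup_dvd_card hp (((hall_isPi hS).isPGroup hp).to_le hzS) hz1
    obtain ⟨X, hX, hXc⟩ := exists_card_prime hp hd
    refine ⟨X, hX.trans (hzS.trans (hall_le hS)), hXc, ?_⟩
    intro h0
    apply hy1
    have : y ∈ sigmaCore M ⊓ 𝓒(X) := ⟨hy, cz_anti hX (by
      rw [cz_zpowers, Subgroup.mem_centralizer_singleton_iff]
      exact hxy.symm)⟩
    rw [h0] at this
    exact Subgroup.mem_bot.1 this
  · rintro ⟨hp, hσ, hr, X, hXM, hXc, hC⟩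
    have hpM : p ∣ Nat.card M := by rw [← hXc]; exact card_dvd_of_le hXM
    refine ⟨hp, hpM, hσ, fun P => ?_⟩
    have hS := sylmap_hall hp P
    have hSp := (hall_isPi hS).isPGroup hp
    have hSc := syl_cyc hG hp hpM hr hSp (hall_le hS)
    refine ⟨?_, ?_⟩
    · haveI := hSc
      exact isCyclic_of_surjective _ (MulEquiv.surjective
        ((P : Subgroup M).equivMapOfInjective M.subtype (Subgroup.subtype_injective M)).symm)
    obtain ⟨m, hm, hXS⟩ := syl_subj hp hS (isPi_of_card_prime hp hXc) hXM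
    obtain ⟨y, ⟨hy, hyX⟩, hy1⟩ := (sigmaCore M ⊓ 𝓒(X)).bot_or_exists_ne_one.resolve_left hC
    obtain ⟨x, hx, hx1⟩ := X.bot_or_exists_ne_one.resolve_left (ne_bot_of_card_prime hp hXc)
    have hx' : m * x * m⁻¹ ∈ (P : Subgroup M).map M.subtype := hXS (conj_mem_cj hx)
    obtain ⟨x', hx'P, hxe⟩ := hx'
    have hxe' : (x' : G) = m * x * m⁻¹ := hxe
    refine ⟨x', hx'P, ?_, m * y * m⁻¹, ?_, ?_, ?_⟩
    · rintro rfl
      apply hx1
      have h1 : m * x * m⁻¹ = 1 := by rw [← hxe']; rfl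
      exact conj_eq_one_iff.1 h1
    · have h1 := le_nz_sigmaCore hG M hm
      exact (Subgroup.mem_normalizer_iff.1 h1 y).1 hy
    · exact fun h1 => hy1 (conj_eq_one_iff.1 h1)
    · rw [hxe']
      have h1 : x * y = y * x := mem_cz.1 hyX x hx
      calc m * x * m⁻¹ * (m * y * m⁻¹) = m * (x * y) * m⁻¹ := by group
        _ = m * y * m⁻¹ * (m * x * m⁻¹) := by rw [h1]; group

theorem kappa_prime {M : Subgroup G} {p : ℕ} (h : p ∈ kappa M) : p.Prime := h.1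

theorem kappa_line {M X : Subgroup G} {p : ℕ} (h : p ∈ kappa M) (hXM : X ≤ M)
    (hX : Nat.card X = p) : sigmaCore M ⊓ 𝓒(X) ≠ ⊥ := by
  obtain ⟨hp, -, hr, Y, hYM, hY, hC⟩ := (kappa_iff hG).1 h
  obtain ⟨m, hm, hm'⟩ := rank1_conj hG hp hr hYM hXM hY hX
  intro h0
  apply hC
  rw [← cj_eq_bot (g := m), cj_inf, ← cz_cj, hm', cj_le_of_le_nz (le_nz_sigmaCore hG M) hm, h0]

theorem kappa_not_tau2 {M : Subgroup G} {p : ℕ} (h : p ∈ kappa M) : p ∉ tau2 M :=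
  fun h2 => h2.2.2.2 ((kappa_iff hG).1 h).2.2.1

theorem kappa_tau {M : Subgroup G} (hM : IsCoatom M) {p : ℕ} (h : p ∈ kappa M) :
    p ∈ tau1 M ∨ p ∈ tau3 M := by
  rcases tau_cases hG hM h.1 h.2.1 h.2.2.1 with h1 | h1 | h1
  · exact Or.inl h1
  · exact absurd h1 (kappa_not_tau2 hG h)
  · exact Or.inr h1

/-- the extension of 13.6 to `κ(M)` -/
theorem kap_uniq {M X Y : Subgroup G} (hM : IsCoatom M) {x y : ℕ} (hy : y.Prime)
    (hY : Nat.card Y = y) (hYM : Y ≤ M) (hyσ : y ∉ sigma M) (hy2 : y ∉ tau2 M) (hx : x.Prime)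
    (hX : Nat.card X = x) (hXσ : X ≤ sigmaCore M) (hXY : X ≤ 𝓒(Y)) :
    𝓒(X) ≤ M ∧ (∀ L : Subgroup G, IsCoatom L → 𝓒(X) ≤ L → L = M) ∧
      ∀ S, IsPiHallOf {x} S M → InUniqueMaximal S := by
  rcases tau_cases hG hM hy (by rw [← hY]; exact card_dvd_of_le hYM) hyσ with h | h | h
  · exact bg13_6 hG hM h hYM hY hx hX hXσ hXY
  · exact absurd h hy2
  · have hYπ := isPi_of_card_prime hy hY
    obtain ⟨E, hE, hYE⟩ := hall_exists_ge (π := (sigma M)ᶜ) (max_sol hG hM)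
      (hYπ.mono (by rintro s rfl; exact hyσ)) hYM
    obtain ⟨E₁, h1⟩ := hall_exists (π := tau1 M) (solvable_sub (hall_le hE) (max_sol hG hM))
    have hXC : X ≤ sigmaCore M ⊓ 𝓒(Y) := le_inf hXσ hXY
    obtain ⟨-, hE1, he, -⟩ := tau3_struct hG hM hE h1 h hYE hY
      (fun h0 => ne_bot_of_card_prime hx hX (le_bot_iff.1 (h0 ▸ hXC)))
    obtain ⟨p, hp, hpd, P, hPE, hP⟩ := exists_prime_sub hE1
    have hpt : p ∈ tau1 M := hall_isPi h1 p hp hpd
    exact bg13_6 hG hM hpt (hPE.trans ((hall_le h1).trans (hall_le hE))) hP hx hX hXσ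
      ((hXC.trans he.le).trans (inf_le_right.trans (cz_anti hPE)))

theorem Exc.card_contra {r : ℕ} {M A₀ A L : Subgroup G} (c : Exc r M A₀ A) (hAL : A ≤ L)
    (h : PRankLE r 1 L) : False := by
  have := rank_iff.1 h A hAL c.el
  rw [c.card, pow_one] at this
  have h2 : r < r ^ 2 := p_lt_p2 c.hp
  omega

/-- `L ∈ 𝓜(N(A))` for an `A` as in `Exc` -/
theorem Exc.maxN {r : ℕ} {M A₀ A L : Subgroup G} (c : Exc r M A₀ A) (hL : IsCoatom L)
    (hN : 𝓝(A) ≤ L) : r ∈ sigma L ∧ L ≠ M ∧ L ⊓ sigmaCore M = ⊥ ∧ A ≤ sigmaCore L := by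
  have hAL : A ≤ L := le_normalizer.trans hN
  have hA1 : A ≠ ⊥ := by
    intro h
    have := c.card
    rw [h, Subgroup.card_bot] at this
    have h2 : r < r ^ 2 := p_lt_p2 c.hp
    have := c.hp.two_le
    omega
  have h1 : r ∈ sigma L := by
    rcases prime_class hG hL c.hp (elab_isPGroup c.el) hA1 hN with h | h
    · exact h
    · exfalso
      obtain ⟨B₀, c'⟩ := exists_exc hG hL c.hp h.2.1 hAL c.el c.card
      exact c'.notN hG hN
  have h2 : L ≠ M := fun h => c.notN hG (h ▸ hN)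
  refine ⟨h1, h2, ?_, syl_le_sigmaCore hG hL h1 (elab_isPi c.hp c.el) hAL⟩
  by_contra h
  exact h2 (c.uniq hG hL hAL h)

/-- Lemma A -/
theorem lemmaA {M E A A₀ P : Subgroup G} (hM : IsCoatom M) (hE : IsPiHallOf (sigma M)ᶜ E M)
    {r p : ℕ} (c : Exc r M A₀ A) (hAE : A ≤ E) (hp : p ∈ tau1 M) (hPE : P ≤ E)
    (hP : Nat.card P = p) (hC : sigmaCore M ⊓ 𝓒(P) ≠ ⊥) : A ⊓ 𝓒(P) = ⊥ := by
  by_contra hne
  have hpp := hp.1
  have hEM := hall_le hE
  have hPM := hPE.trans hEM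
  have hPπ := isPi_of_card_prime hpp hP
  have hAp := elab_isPGroup c.el
  have hrd : r ∣ Nat.card ↥(A ⊓ 𝓒(P)) := pgroup_dvd_card c.hp (hAp.to_le inf_le_left) hne
  obtain ⟨R, hR, hRc⟩ := exists_card_prime c.hp hrd
  have hRA : R ≤ A := hR.trans inf_le_left
  have hRP : R ≤ 𝓒(P) := hR.trans inf_le_right
  have hR1 := ne_bot_of_card_prime c.hp hRc
  have h4 : ∀ R' : Subgroup G, R' ≤ A → Nat.card R' = r → R' ≤ 𝓒(P) →
      sigmaCore M ⊓ 𝓒(P) ≤ 𝓒(R') := fun R' g1 g2 g3 =>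
    bg13_4 hG hM hp hPM hP (g1.trans c.AM) c.hp g2 c.ns g3
  have hRC : sigmaCore M ⊓ 𝓒(R) ≠ ⊥ := fun h => hC (le_bot_iff.1
    (h ▸ le_inf inf_le_left (h4 R hRA hRc hRP)))
  obtain ⟨hCM, hu⟩ := c.uniq_cz hG hRA hR1 hRC
  obtain ⟨L, hL, hNL⟩ := exists_max hG (ms_nz_ne_top hG (X := A) (fun h => hR1 (le_bot_iff.1
    (h ▸ hRA))) (ms_p_ne_top hG c.hp hAp))
  obtain ⟨hrL, hLM, hLi, hAσ⟩ := c.maxN hG hL hNL
  have hPA : P ≤ 𝓝(A) := hPE.trans (c.nzE hG hE hAE)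
  have hPL : P ≤ L := hPA.trans hNL
  have hRLC : R ≤ sigmaCore L ⊓ 𝓒(P) := le_inf (hRA.trans hAσ) hRP
  have hLC : sigmaCore L ⊓ 𝓒(P) ≠ ⊥ := fun h => hR1 (le_bot_iff.1 (h ▸ hRLC))
  have hnPA : ¬ P ≤ 𝓒(A) := by
    intro h
    apply hC
    rw [← le_bot_iff, ← c.inf_cz hG]
    refine le_inf inf_le_left ?_
    obtain ⟨A₁, hA1, A₂, hA2, hc1, hc2, hne12, -, -⟩ := c.lines hG
    have hAP : A ≤ 𝓒(P) := le_cz_comm.1 h
    obtain ⟨-, hs⟩ := two_lines c.hp (comm_iff_le_cz.2 (elab_iff.1 c.el).1) c.card hA1 hA2 hc1 hc2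
      hne12
    rw [← hs, le_cz_comm]
    exact sup_le (le_cz_comm.1 (h4 A₁ hA1 hc1 (hA1.trans hAP)))
      (le_cz_comm.1 (h4 A₂ hA2 hc2 (hA2.trans hAP)))
  by_cases hpL : p ∈ sigma L
  · have hPσ := syl_le_sigmaCore hG hL hpL hPπ hPL
    have hpβ : p ∈ beta L := by
      by_contra hpβ
      have hrβ : r ∉ beta L := fun h => maxE2_not_ideal hG c.hp (c.e2 hG) h.2
      have hDL : ⁅L, L⁆ ≤ L := comm_self_le L
      obtain ⟨N, hN, hsN⟩ := hall_exists_ge (π := (beta L)ᶜ) (solvable_sub hDL (max_sol hG hL))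
        (IsPi.sup' (π := (beta L)ᶜ) ((elab_isPi c.hp c.el).mono (by rintro s rfl; exact hrβ))
          (hPπ.mono (by rintro s rfl; exact hpβ)) hPA)
        (sup_le (hAσ.trans (sigma_le_der hG hL)) (hPσ.trans (sigma_le_der hG hL)))
      have hNn := (beta_frat hG hL hN).1
      apply hnPA
      refine nilpotent_commute (π := {p}) hNn (le_sup_right.trans hsN) (le_sup_left.trans hsN)
        hPπ ((elab_isPi c.hp c.el).mono ?_)
      rintro s rfl h
      rw [Set.mem_singleton_iff] at h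
      subst h
      have h2 : PRankLE s 1 M := hp.2.2.2.2
      exact c.card_contra hG c.AM h2
    have hNP := beta_nz hG hL hpβ hPL (hPπ.isPGroup hpp) (ne_bot_of_card_prime hpp hP)
    apply hC
    rw [← le_bot_iff, ← hLi]
    exact le_inf (inf_le_right.trans ((cz_le_nz P).trans hNP)) inf_le_left
  by_cases hp2 : p ∈ tau2 L
  · obtain ⟨h1, -⟩ := tau2_uniq' hG hL hp2 hPL hP hLC
    apply hC
    rw [← le_bot_iff, ← hLi]
    exact le_inf (inf_le_right.trans h1) inf_le_left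
  · obtain ⟨-, h2, -⟩ := kap_uniq hG hL hpp hP hPL hpL hp2 c.hp hRc (hRA.trans hAσ) hRP
    exact hLM (h2 M hM hCM).symm

end

end CfsgLib.BGPi
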