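import Cfsg.Agent.EqBase
import Cfsg.Agent.LibBG14a

/-! B & G 14.1 and 14.2. -/

open Subgroup
open scoped Pointwise commutatorElement

namespace CfsgLib.BGPi

open Cfsg

universe u

section
variable {G : Type u} [Group G] [Finite G]
variable (hG : IsMinSimpleOddOrder G)
include hG

theorem nilp_of_fpf {V A : Subgroup G} (hV : Group.IsSolvable V) {p : ℕ} (hp : p.Prime)
    (hA : Nat.card A = p) (hAV : A ≤ 𝓝(V)) (hcop : (Nat.card A).Coprime (Nat.card V))
    (hC : V ⊓ 𝓒(A) = ⊥) : Group.IsNilpotent V := by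
  have h1 := bg38 hV (ms_odd hG V) hAV hcop (by rw [hA]; exact hp)
    (by rw [hA]; exact ms_p2' hG hp (by rw [hA] : p ∣ Nat.card A))
    (by rw [← le_bot_iff, ← hC]; exact inf_le_inf (fittingOf_le V) le_rfl)
  have h2 := cop_comm_sup hAV hcop hV
  rw [hC, sup_bot_eq] at h2
  rw [h2] at h1
  have h3 : fittingOf V = V := le_antisymm (fittingOf_le V) h1
  rw [← h3]
  exact fittingOf_nilpotent V

theorem bg14_1 {M S : Subgroup G} (hM : IsCoatom M) {p : ℕ} (hp : p.Prime)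
    (hpM : p ∣ Nat.card M) (hσ : p ∉ sigma M) (hκ : p ∉ kappa M) (hS : IsPiHallOf {p} S M) :
    Nat.card ↥(closure {x : G | x ∈ S ∧ x ^ p = 1}) ≤ p ^ 2 ∧
      sigmaCore M ⊓ 𝓒(closure {x : G | x ∈ S ∧ x ^ p = 1}) = ⊥ ∧
      Group.IsNilpotent (sigmaCore M) := by
  have hSp := (hall_isPi hS).isPGroup hp
  have hSM := hall_le hS
  by_cases hr : PRankLE p 1 M
  · have hSc := syl_cyc hG hp hpM hr hSp hSM
    obtain ⟨A, hAS, hAc⟩ := exists_card_prime hp (hall_dvd hp hS hpM)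
    have hA1 := ne_bot_of_card_prime hp hAc
    have h1 : closure {x : G | x ∈ S ∧ x ^ p = 1} = A := by
      refine le_antisymm ?_ ?_
      · rw [Subgroup.closure_le]
        rintro x ⟨hxS, hxp⟩
        obtain ⟨ρ, hρ, hρp⟩ := exists_gen_prime hp hAc
        have hρ1 : ρ ≠ 1 := by
          rintro rfl
          rw [zpowers_one_eq_bot] at hρ
          exact hA1 hρ
        have := mem_zpowers_of_cyclic hSc hp (hAS (by rw [hρ]; exact mem_zpowers ρ)) hxS hρ1 hρp hxp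
        rw [← hρ] at this
        exact this
      · intro x hx
        refine subset_closure ⟨hAS hx, ?_⟩
        have := orderOf_dvd_natCard (⟨x, hx⟩ : A)
        rw [hAc] at this
        have h2 := orderOf_dvd_iff_pow_eq_one.1 this
        simpa using congrArg Subtype.val h2
    rw [h1]
    have hC : sigmaCore M ⊓ 𝓒(A) = ⊥ := by
      by_contra h
      exact hκ ((kappa_iff hG).2 ⟨hp, hσ, hr, A, hAS.trans hSM, hAc, h⟩)
    refine ⟨?_, hC, ?_⟩
    · rw [hAc]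
      exact (p_lt_p2 hp).le
    · refine nilp_of_fpf hG (sigmaCore_sol hG hM) hp hAc
        ((hAS.trans hSM).trans (le_nz_sigmaCore hG M)) ?_ hC
      exact ((hall_isPi (sigma_hall hG hM)).coprime
        ((isPi_of_card_prime hp hAc).mono (by rintro s rfl; exact hσ))).symm
  · have hr1 : ¬ PRankLE p 1 S := fun h => hr ((rank_syl hp hS).2 h)
    obtain ⟨A, hAS, hA, hAc⟩ := (not_rank_iff hp).1 hr1
    obtain ⟨A₀, c⟩ := exists_exc hG hM hp hσ (hAS.trans hSM) hA hAc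
    have hab := c.ab hG hS
    have h1 : closure {x : G | x ∈ S ∧ x ^ p = 1} = A := by
      refine le_antisymm ?_ ?_
      · rw [Subgroup.closure_le]
        rintro x ⟨hxS, hxp⟩
        exact ((c.e2 hG).omega hAS hab hxS).1 hxp
      · intro x hx
        exact subset_closure ⟨hAS hx, (elab_iff.1 hA).2 x hx⟩
    rw [h1]
    exact ⟨hAc.le, c.inf_cz hG, c.nilp hG⟩


theorem hall_pi0 {M E U : Subgroup G} (hE : IsPiHallOf (sigma M)ᶜ E M)
    (hU : IsPiHallOf (kappa M)ᶜ U E) :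
    IsPiHallOf {q | q.Prime ∧ q ∉ kappa M ∧ q ∉ sigma M} U M := by
  have hUE := hall_le hU
  have hEM := hall_le hE
  refine hall_iff.2 ⟨hUE.trans hEM, ?_, ?_⟩
  · intro q hq hd
    exact ⟨hq, hall_isPi hU q hq hd, hall_isPi hE q hq (hd.trans (card_dvd_of_le hUE))⟩
  · rintro q hq ⟨-, h1, h2⟩ hd
    rw [← relIndex_mul_relIndex U E M hUE hEM] at hd
    rcases (Nat.Prime.dvd_mul hq).1 hd with h | h
    · exact (hall_iff.1 hU).2.2 q hq h1 h
    · exact (hall_iff.1 hE).2.2 q hq h2 h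

theorem kap_cases {M K : Subgroup G} (hM : IsCoatom M) (hK : IsPiHallOf (kappa M) K M)
    (hK1 : K ≠ ⊥) :
    (kappa M = tau1 M ∧ IsCyclic K ∧ ∀ (r : ℕ) (R : Subgroup G), r ∈ tau3 M → R ≤ M →
      Nat.card R = r → sigmaCore M ⊓ 𝓒(R) = ⊥) ∨
    ((∀ s : ℕ, s ∉ tau2 M) ∧ IsPiHallOf (sigma M)ᶜ K M ∧
      (∀ s : ℕ, s ∈ kappa M ↔ s ∈ tau1 M ∨ s ∈ tau3 M) ∧
      ∃ r : ℕ, r ∈ tau3 M ∧ ∃ R ≤ K, Nat.card R = r ∧ sigmaCore M ⊓ 𝓒(R) ≠ ⊥) := by
  have hKM := hall_le hK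
  have hKσ : IsPi (sigma M)ᶜ K := (hall_isPi hK).mono fun s hs => hs.2.2.1
  obtain ⟨E, hE, hKE⟩ := hall_exists_ge (max_sol hG hM) hKσ hKM
  have hEM := hall_le hE
  have hEs := solvable_sub hEM (max_sol hG hM)
  by_cases h3 : ∃ (r : ℕ) (R : Subgroup G), r ∈ tau3 M ∧ R ≤ M ∧ Nat.card R = r ∧
    sigmaCore M ⊓ 𝓒(R) ≠ ⊥
  · right
    obtain ⟨r, R, hr, hRM, hR, hC⟩ := h3
    have hrκ : r ∈ kappa M := (kappa_iff hG).2 ⟨hr.1, hr.2.1, hr.2.2.2, R, hRM, hR, hC⟩
    obtain ⟨R', hRK, hR'⟩ := exists_card_prime hr.1 (hall_dvd' hr.1 hrκ hK hrκ.2.1)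
    have hC' := kappa_line hG hrκ (hRK.trans hKM) hR'
    obtain ⟨E₁, h1⟩ := hall_exists (π := tau1 M) hEs
    obtain ⟨h2, hE1, he, hcz⟩ := tau3_struct hG hM hE h1 hr (hRK.trans hKE) hR' hC'
    have hκ : ∀ s : ℕ, s ∈ kappa M ↔ s ∈ tau1 M ∨ s ∈ tau3 M := by
      intro s
      refine ⟨kappa_tau hG hM, ?_⟩
      rintro (hs | hs)
      · obtain ⟨S, hS, hSc⟩ := exists_card_prime hs.1 (hall_dvd' hs.1 hs h1
          (hall_dvd' hs.1 (show s ∈ (sigma M)ᶜ from hs.2.1) hE hs.2.2.1))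
        have h5 := bg13_5 hG hM hE (hall_isPi h1) (hall_le h1) hS (ne_bot_of_card_prime hs.1 hSc)
        refine (kappa_iff hG).2 ⟨hs.1, hs.2.1, hs.2.2.2.2, S, hS.trans ((hall_le h1).trans hEM),
          hSc, ?_⟩
        rw [h5, ← he]
        exact hC'
      · obtain ⟨S, hS, hSc⟩ := exists_card_prime hs.1
          (hall_dvd' hs.1 (show s ∈ (sigma M)ᶜ from hs.2.1) hE
            (hs.2.2.1.trans (card_dvd_of_le (comm_self_le M))))
        refine (kappa_iff hG).2 ⟨hs.1, hs.2.1, hs.2.2.2, S, hS.trans hEM, hSc, ?_⟩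
        intro h
        apply hC'
        rw [← le_bot_iff, ← h]
        exact le_inf inf_le_left (line_cz_le hG hM hE hr hs (hRK.trans hKE) hS hR'
          (isPi_of_card_prime hs.1 hSc))
    refine ⟨h2, hall_iff.2 ⟨hKM, hKσ, ?_⟩, hκ, r, hr, R', hRK, hR', hC'⟩
    intro p hp hpσ hd
    have hpM : p ∣ Nat.card M := hd.trans (by
      rw [← card_mul_relIndex hKM]; exact dvd_mul_left _ _)
    have hpκ : p ∈ kappa M := by
      rw [hκ]
      rcases tau_cases hG hM hp hpM hpσ with h | h | h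
      · exact Or.inl h
      · exact absurd h (h2 p)
      · exact Or.inr h
    exact (hall_iff.1 hK).2.2 p hp hpκ hd
  · left
    have h3' : ∀ (r : ℕ) (R : Subgroup G), r ∈ tau3 M → R ≤ M →
        Nat.card R = r → sigmaCore M ⊓ 𝓒(R) = ⊥ := by
      intro r R h4 h5 h6
      by_contra h7
      exact h3 ⟨r, R, h4, h5, h6, h7⟩
    have hsub : ∀ s ∈ kappa M, s ∈ tau1 M := by
      intro s hs
      rcases kappa_tau hG hM hs with h | h
      · exact h
      · exfalso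
        obtain ⟨hsp, -, -, X, hXM, hX, hC⟩ := (kappa_iff hG).1 hs
        exact hC (h3' s X h hXM hX)
    have hK1t : IsPi (tau1 M) K := (hall_isPi hK).mono hsub
    obtain ⟨E₁, h1, hKE1⟩ := hall_exists_ge (π := tau1 M) hEs hK1t hKE
    have hcyc : IsCyclic E₁ := bg12_1a hG hM hE (hall_isPi h1) (hall_le h1)
    obtain ⟨p, hp, hpd, P, hPK, hP⟩ := exists_prime_sub hK1
    have hpκ : p ∈ kappa M := hall_isPi hK p hp hpd
    refine ⟨Set.Subset.antisymm hsub ?_, cyclic_sub hKE1 hcyc, h3'⟩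
    intro s hs
    obtain ⟨S, hS, hSc⟩ := exists_card_prime hs.1 (hall_dvd' hs.1 hs h1
      (hall_dvd' hs.1 (show s ∈ (sigma M)ᶜ from hs.2.1) hE hs.2.2.1))
    have h5 := bg13_5 hG hM hE (hall_isPi h1) (hall_le h1) hS (ne_bot_of_card_prime hs.1 hSc)
    have h6 := bg13_5 hG hM hE (hall_isPi h1) (hall_le h1) (hPK.trans hKE1)
      (ne_bot_of_card_prime hp hP)
    refine (kappa_iff hG).2 ⟨hs.1, hs.2.1, hs.2.2.2.2, S, hS.trans ((hall_le h1).trans hEM),
      hSc, ?_⟩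
    rw [h5, ← h6]
    exact kappa_line hG hpκ (hPK.trans hKM) hP

/-- a subgroup of `K` whose order is a prime of `τ₁(M)` -/
theorem kap_P {M K : Subgroup G} (hM : IsCoatom M) (hK : IsPiHallOf (kappa M) K M)
    (hK1 : K ≠ ⊥) : ∃ p : ℕ, p ∈ tau1 M ∧ p ∈ kappa M ∧ ∃ P ≤ K, Nat.card P = p := by
  rcases kap_cases hG hM hK hK1 with ⟨h1, -, -⟩ | ⟨h2, hKE, hκ, r, hr, R, hRK, hR, hC⟩
  · obtain ⟨p, hp, hpd, P, hPK, hP⟩ := exists_prime_sub hK1
    have hpκ : p ∈ kappa M := hall_isPi hK p hp hpd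
    exact ⟨p, h1 ▸ hpκ, hpκ, P, hPK, hP⟩
  · obtain ⟨E₁, h1⟩ := hall_exists (π := tau1 M) (solvable_sub (hall_le hK) (max_sol hG hM))
    obtain ⟨-, hE1, -, -⟩ := tau3_struct hG hM hKE h1 hr hRK hR hC
    obtain ⟨p, hp, hpd, P, hPE, hP⟩ := exists_prime_sub hE1
    have hpt := hall_isPi h1 p hp hpd
    exact ⟨p, hpt, (hκ p).2 (Or.inl hpt), P, hPE.trans (hall_le h1), hP⟩

/-- 14.2 (a) -/
theorem kap_cz {M K X : Subgroup G} (hM : IsCoatom M) (hK : IsPiHallOf (kappa M) K M)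
    (hX : X ≤ K) (hX1 : X ≠ ⊥) : sigmaCore M ⊓ 𝓒(X) = sigmaCore M ⊓ 𝓒(K) := by
  have hK1 : K ≠ ⊥ := fun h => hX1 (le_bot_iff.1 (h ▸ hX))
  have hKM := hall_le hK
  have hKσ : IsPi (sigma M)ᶜ K := (hall_isPi hK).mono fun s hs => hs.2.2.1
  refine le_antisymm (le_inf inf_le_left ?_) (inf_le_inf le_rfl (cz_anti hX))
  rcases kap_cases hG hM hK hK1 with ⟨h1, -, -⟩ | ⟨h2, hKE, hκ, r, hr, R, hRK, hR, hC⟩
  · obtain ⟨E, hE, hKE⟩ := hall_exists_ge (max_sol hG hM) hKσ hKM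
    exact (bg13_5 hG hM hE (h1 ▸ hall_isPi hK) hKE hX hX1).le.trans inf_le_right
  · have hKs := solvable_sub hKM (max_sol hG hM)
    obtain ⟨x, hx, hxd, X₀, hX0, hXc⟩ := exists_prime_sub hX1
    refine (inf_le_inf le_rfl (cz_anti hX0)).trans ?_
    have hxκ : x ∈ kappa M := hall_isPi hK x hx (hxd.trans (card_dvd_of_le hX))
    have hXπ := isPi_of_card_prime hx hXc
    obtain ⟨-, E₃, g3, hRE3, -, -⟩ := tau3_normal hG hM hKE hr hRK (isPi_of_card_prime hr.1 hR)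
    rw [le_cz_comm]
    rcases (hκ x).1 hxκ with hxt | hxt
    · obtain ⟨E₁, h1, hXE1⟩ := hall_exists_ge (π := tau1 M) hKs
        (hXπ.mono (by rintro s rfl; exact hxt)) (hX0.trans hX)
      obtain ⟨-, -, he, -⟩ := tau3_struct hG hM hKE h1 hr hRK hR hC
      have h5 := bg13_5 hG hM hKE (hall_isPi h1) (hall_le h1) hXE1 (ne_bot_of_card_prime hx hXc)
      refine E_le_of hG hM hKE h1 g3 h2 ?_ ?_
      · rw [le_cz_comm, h5]
        exact inf_le_right
      · rw [le_cz_comm, h5, ← he]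
        exact bg13_3b hG hM hKE g3 hRE3 (ne_bot_of_card_prime hr.1 hR)
    · obtain ⟨E₁, h1⟩ := hall_exists (π := tau1 M) hKs
      obtain ⟨-, -, he, -⟩ := tau3_struct hG hM hKE h1 hxt (hX0.trans hX) hXc
        (kappa_line hG hxκ ((hX0.trans hX).trans hKM) hXc)
      obtain ⟨-, E₃', g3', hXE3, -, -⟩ := tau3_normal hG hM hKE hxt (hX0.trans hX) hXπ
      refine E_le_of hG hM hKE h1 g3' h2 ?_ ?_
      · rw [le_cz_comm, he]
        exact inf_le_right
      · rw [le_cz_comm]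
        exact bg13_3b hG hM hKE g3' hXE3 (ne_bot_of_card_prime hx hXc)

theorem kap_star_ne {M K : Subgroup G} (hM : IsCoatom M) (hK : IsPiHallOf (kappa M) K M)
    (hK1 : K ≠ ⊥) : sigmaCore M ⊓ 𝓒(K) ≠ ⊥ := by
  obtain ⟨p, hp, hpd, P, hPK, hP⟩ := exists_prime_sub hK1
  rw [← kap_cz hG hM hK hPK (ne_bot_of_card_prime hp hP)]
  exact kappa_line hG (hall_isPi hK p hp hpd) (hPK.trans (hall_le hK)) hP

theorem tau2_syl_le {M E P S : Subgroup G} (hM : IsCoatom M) (hE : IsPiHallOf (sigma M)ᶜ E M)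
    {s p : ℕ} (hs : s ∈ tau2 M) (hp : p ∈ tau1 M) (hpκ : p ∈ kappa M) (hPE : P ≤ E)
    (hP : Nat.card P = p) (hS : IsPiHallOf {s} S E) : S ≤ ⁅E, E⁆ := by
  have hsp := hs.1
  have hpp := hp.1
  have hEM := hall_le hE
  have hSE := hall_le hS
  have hSp := (hall_isPi hS).isPGroup hsp
  have hEs := solvable_sub hEM (max_sol hG hM)
  have hPπ := isPi_of_card_prime hpp hP
  have hDE : ⁅E, E⁆ ≤ E := comm_self_le E
  obtain ⟨A, hAE, A₀, c⟩ := exists_exc_tau2 hG hM hE hs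
  have hAS : A ≤ S := normal_le_hall hS hAE (c.nzE hG hE hAE) (elab_isPi hsp c.el)
  have hN : E ≤ 𝓝(⁅E, E⁆ ⊔ S) := by
    refine le_nz_of_comm_le ?_
    exact (commutator_mono (sup_le hDE hSE) le_rfl).trans le_sup_left
  have hfr := frattini_syl hsp (sup_le hDE hSE) hN
    (hall_le_of_le hS le_sup_right (sup_le hDE hSE))
  have hfr' : ⁅E, E⁆ ⊔ (E ⊓ 𝓝(S)) = E := by
    rw [sup_assoc, sup_eq_right.2 (le_inf hSE le_normalizer : S ≤ E ⊓ 𝓝(S))] at hfr
    exact hfr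
  have hpD : IsPi ({p} : Set ℕ)ᶜ ⁅E, E⁆ := by
    rw [isPi_compl_singleton hpp]
    intro h
    exact hp.2.2.2.1 (h.trans (card_dvd_of_le (commutator_mono hEM hEM)))
  obtain ⟨h, hh, hPh⟩ := subj_of_sup hEs (inf_le_left.trans (le_nz_comm le_normalizer le_normalizer))
    hfr' hpD hPπ hPE
  have hPhE : P ^ᵍ h ≤ E := hPh.trans inf_le_left
  have hPhc : Nat.card ↥(P ^ᵍ h) = p := by rw [card_cj, hP]
  have hA := lemmaA hG hM hE c hAE hp hPhE hPhc (kappa_line hG hpκ (hPhE.trans hEM) hPhc)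
  have hSC : S ⊓ 𝓒(P ^ᵍ h) = ⊥ := by
    by_contra hne
    obtain ⟨y, hy, hyd, Y, hY, hYc⟩ := exists_prime_sub hne
    have hys : y = s := (hall_isPi hS) y hy (hyd.trans (card_dvd_of_le inf_le_left))
    subst hys
    have hYA : Y ≤ A := c.line_le hG hE hAE ((hY.trans inf_le_left).trans hSE) hYc
    have h1 : Y ≤ ⊥ := by
      rw [← hA]
      exact le_inf hYA (hY.trans inf_le_right)
    exact ne_bot_of_card_prime hy hYc (le_bot_iff.1 h1)
  have hps : p ≠ s := by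
    rintro rfl
    exact hs.2.2.2 hp.2.2.2.2
  have hcop : (Nat.card ↥(P ^ᵍ h)).Coprime (Nat.card S) :=
    pq_coprime hpp hsp hps ((hPπ.cj h).isPGroup hpp) hSp
  have h2 := cop_comm_sup (hPh.trans inf_le_right) hcop (pgroup_solvable hsp hSp)
  rw [hSC, sup_bot_eq] at h2
  rw [← h2]
  exact commutator_mono hSE hPhE

/-- the structure of a maximal subgroup with `κ(M) ≠ ∅` -/
theorem kap_struct {M K : Subgroup G} (hM : IsCoatom M) (hK : IsPiHallOf (kappa M) K M)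
    (hK1 : K ≠ ⊥) : ∃ E U : Subgroup G, IsPiHallOf (sigma M)ᶜ E M ∧ K ≤ E ∧ E ≤ 𝓝(U) ∧
      IsPiHallOf (kappa M)ᶜ U E ∧ U ≤ 𝓒(U) ∧
      ∀ (x : ℕ) (X : Subgroup G), x.Prime → X ≤ K → Nat.card X = x →
        U ⊓ 𝓒(X) = ⊥ ∧ K ≤ 𝓝(X) := by
  have hKM := hall_le hK
  have hKσ : IsPi (sigma M)ᶜ K := (hall_isPi hK).mono fun s hs => hs.2.2.1
  rcases kap_cases hG hM hK hK1 with ⟨h1, hcyc, h3⟩ | ⟨h2, hKE, hκ, r, hr, R, hRK, hR, hC⟩
  · obtain ⟨E, hE, hKE⟩ := hall_exists_ge (max_sol hG hM) hKσ hKM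
    have hEM := hall_le hE
    have hEs := solvable_sub hEM (max_sol hG hM)
    have hDE : ⁅E, E⁆ ≤ E := comm_self_le E
    have hDM : ⁅E, E⁆ ≤ ⁅M, M⁆ := commutator_mono hEM hEM
    have hDσ : IsPi (sigma M)ᶜ ⁅E, E⁆ := (hall_isPi hE).le hDE
    have hUab := nilp_ab hG hM (hDE.trans hEM) (hall_der_nilp hG hM hEM (hall_isPi hE)) hDσ
    obtain ⟨p, hpt, hpκ, P, hPK, hP⟩ := kap_P hG hM hK hK1
    refine ⟨E, ⁅E, E⁆, hE, hKE, le_nz_comm le_normalizer le_normalizer, ?_, hUab, ?_⟩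
    · refine hall_iff.2 ⟨hDE, ?_, ?_⟩
      · intro q hq hd hqκ
        rw [h1] at hqκ
        exact hqκ.2.2.2.1 (hd.trans (card_dvd_of_le hDM))
      · intro q hq hqκ hd
        have hqE : q ∣ Nat.card E := hd.trans (by
          rw [← card_mul_relIndex hDE]; exact dvd_mul_left _ _)
        have hqσ : q ∉ sigma M := hall_isPi hE q hq hqE
        obtain ⟨S, hS⟩ := exists_syl hq E
        have hSD : S ≤ ⁅E, E⁆ := by
          rcases tau_cases hG hM hq (hqE.trans (card_dvd_of_le hEM)) hqσ with g | g | g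
          · exact absurd (h1 ▸ g) hqκ
          · exact tau2_syl_le hG hM hE g hpt hpκ (hPK.trans hKE) hP hS
          · refine cyc_syl_le_der hq hEs hS (syl_cyc hG hq (hqE.trans (card_dvd_of_le hEM)) g.2.2.2
              ((hall_isPi hS).isPGroup hq) ((hall_le hS).trans hEM)) (der_dvd hG hM hE hq hqσ g.2.2.1)
        refine (hall_iff.1 hS).2.2 q hq rfl (hd.trans ?_)
        exact ⟨_, ((mul_comm _ _).trans (relIndex_mul_relIndex S ⁅E, E⁆ E hSD hDE)).symm⟩
    · intro x X hx hX hXc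
      have hxκ : x ∈ kappa M := hall_isPi hK x hx (by rw [← hXc]; exact card_dvd_of_le hX)
      have hxt : x ∈ tau1 M := h1 ▸ hxκ
      have hXC := kappa_line hG hxκ (hX.trans hKM) hXc
      refine ⟨?_, ?_⟩
      · by_contra hne
        obtain ⟨y, hy, hyd, Y, hY, hYc⟩ := exists_prime_sub hne
        have hYD : Y ≤ ⁅E, E⁆ := hY.trans inf_le_left
        have hYE : Y ≤ E := hYD.trans hDE
        have hYX : Y ≤ 𝓒(X) := hY.trans inf_le_right
        have hyσ : y ∉ sigma M := hDσ y hy (hyd.trans (card_dvd_of_le inf_le_left))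
        have hyM : y ∣ Nat.card M := by rw [← hYc]; exact card_dvd_of_le (hYE.trans hEM)
        have hXY := bg13_4 hG hM hxt (hX.trans hKM) hXc (hYE.trans hEM) hy hYc hyσ hYX
        rcases tau_cases hG hM hy hyM hyσ with g | g | g
        · exact g.2.2.2.1 (by rw [← hYc]; exact card_dvd_of_le (hYD.trans hDM))
        · obtain ⟨A, hAE, A₀, c⟩ := exists_exc_tau2 hG hM hE g
          have hA := lemmaA hG hM hE c hAE hxt (hX.trans hKE) hXc hXC
          have h5 : Y ≤ ⊥ := by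
            rw [← hA]
            exact le_inf (c.line_le hG hE hAE hYE hYc) hYX
          exact ne_bot_of_card_prime hy hYc (le_bot_iff.1 h5)
        · apply hXC
          rw [← le_bot_iff, ← h3 y Y g (hYE.trans hEM) hYc]
          exact le_inf inf_le_left hXY
      · have hab : K ≤ 𝓒(K) := comm_iff_le_cz.1 (by haveI := hcyc; infer_instance)
        exact (hab.trans (cz_anti hX)).trans (cz_le_nz X)
  · have hKs := solvable_sub hKM (max_sol hG hM)
    refine ⟨K, ⊥, hKE, le_rfl, ?_, ?_, bot_le, ?_⟩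
    · rw [le_nz]
      rintro k - h hh
      rw [Subgroup.mem_bot] at hh ⊢
      rw [hh]; group
    · rw [hall_bot]
      rw [compl_compl]
      exact hall_isPi hK
    · intro x X hx hX hXc
      refine ⟨bot_inf_eq _, ?_⟩
      have hxκ : x ∈ kappa M := hall_isPi hK x hx (by rw [← hXc]; exact card_dvd_of_le hX)
      have hXπ := isPi_of_card_prime hx hXc
      rcases (hκ x).1 hxκ with hxt | hxt
      · obtain ⟨E₁, h1, hXE1⟩ := hall_exists_ge (π := tau1 M) hKs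
          (hXπ.mono (by rintro s rfl; exact hxt)) hX
        obtain ⟨-, -, he, hcz⟩ := tau3_struct hG hM hKE h1 hr hRK hR hC
        have hcyc : IsCyclic E₁ := bg12_1a hG hM hKE (hall_isPi h1) (hall_le h1)
        have hab : E₁ ≤ 𝓒(E₁) := comm_iff_le_cz.1 (by haveI := hcyc; infer_instance)
        obtain ⟨-, E₃, g3, hRE3, hc3, hn3⟩ := tau3_normal hG hM hKE hr hRK
          (isPi_of_card_prime hr.1 hR)
        refine (E_le_of hG hM hKE h1 g3 h2 (hab.trans (cz_anti hXE1)) ?_).trans (cz_le_nz X)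
        refine le_of_syls fun s hs => ?_
        obtain ⟨S, hS⟩ := exists_syl hs E₃
        refine ⟨S, hS, ?_⟩
        by_cases hS1 : S = ⊥
        · rw [hS1]; exact bot_le
        rw [le_cz_comm]
        by_contra hcon
        have hSp := (hall_isPi hS).isPGroup hs
        have hsd := pgroup_dvd_card hs hSp hS1
        have hst : s ∈ tau3 M := hall_isPi g3 s hs (hsd.trans (card_dvd_of_le (hall_le hS)))
        obtain ⟨T, hT, hTc⟩ := exists_card_prime hs hsd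
        have hTK : T ≤ K := (hT.trans (hall_le hS)).trans (hall_le g3)
        obtain ⟨-, -, -, hcz'⟩ := tau3_struct hG hM hKE h1 hst hTK hTc
          (kappa_line hG ((hκ s).2 (Or.inr hst)) (hTK.trans hKM) hTc)
        have hxs : x ≠ s := by
          rintro rfl
          exact hxt.2.2.2.1 hst.2.2.1
        have h6 := (cyc_comm hs hSp (cyclic_sub (hall_le hS) hc3) (hX.trans (hn3.trans
          (nz_of_cyclic hc3 (hall_le hS)))) (by rw [hXc]; exact (Nat.coprime_primes hx hs).2 hxs)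
          hcon).2
        have h7 : T ≤ ⊥ := by
          rw [← h6]
          exact le_inf hT (le_cz_comm.1 (hcz' x X hxt hX hXc))
        exact ne_bot_of_card_prime hs hTc (le_bot_iff.1 h7)
      · exact (tau3_normal hG hM hKE hxt hX hXπ).1

end

end CfsgLib.BGPi
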