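import Cfsg.Agent.EqBase
import Cfsg.Agent.LibBG14b

/-! B & G 14.2 (continued). -/

open Subgroup
open scoped Pointwise commutatorElement

namespace CfsgLib.BGPi

open Cfsg

universe u

section
variable {G : Type u} [Group G] [Finite G]
variable (hG : IsMinSimpleOddOrder G)
include hG

theorem kap_EUK {M K E U : Subgroup G} (hK : IsPiHallOf (kappa M) K M)
    (hE : IsPiHallOf (sigma M)ᶜ E M) (hKE : K ≤ E) (hU : IsPiHallOf (kappa M)ᶜ U E) : U ⊔ K = E := by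
  rw [sup_comm]
  exact hall_sup_compl (hall_le_of_le hK hKE (hall_le hE)) hU

/-- 14.2 (b): the normalizer in `M` of a subgroup of `K` -/
theorem kap_nz {M K X : Subgroup G} (hM : IsCoatom M) (hK : IsPiHallOf (kappa M) K M)
    (hX : X ≤ K) (hX1 : X ≠ ⊥) (hKX : K ≤ 𝓝(X)) :
    M ⊓ 𝓝(X) = K ⊔ (sigmaCore M ⊓ 𝓒(K)) := by
  have hK1 : K ≠ ⊥ := fun h => hX1 (le_bot_iff.1 (h ▸ hX))
  have hKM := hall_le hK
  have hMs := max_sol hG hM
  obtain ⟨E, U, hE, hKE, hEU, hU, hUab, hl⟩ := kap_struct hG hM hK hK1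
  have hEM := hall_le hE
  have hXE := hX.trans hKE
  have h1 : sigmaCore M ⊔ E = M := compl_sup hG hM hE
  have h2 : U ⊔ K = E := kap_EUK hG hK hE hKE hU
  have c1 : (Nat.card X).Coprime (Nat.card (sigmaCore M)) :=
    ((hall_isPi (sigma_hall hG hM)).coprime ((hall_isPi hE).le hXE)).symm
  have c2 : (Nat.card X).Coprime (Nat.card U) :=
    IsPi.coprime ((hall_isPi hK).le hX) (hall_isPi hU)
  have h3 := prod_nz (hEM.trans (le_nz_sigmaCore hG M)) hXE c1 (Or.inr (sigmaCore_sol hG hM))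
  have h4 := prod_nz (hKE.trans hEU) hX c2
    (Or.inr (solvable_sub ((hall_le hU).trans hEM) hMs))
  rw [h1] at h3
  rw [h2] at h4
  have hUX : U ⊓ 𝓒(X) = ⊥ := by
    obtain ⟨x, hx, -, X₀, hX0, hXc⟩ := exists_prime_sub hX1
    rw [← le_bot_iff, ← (hl x X₀ hx (hX0.trans hX) hXc).1]
    exact inf_le_inf le_rfl (cz_anti hX0)
  rw [hUX, bot_sup_eq, inf_eq_left.2 hKX] at h4
  rw [h3, h4, kap_cz hG hM hK hX hX1, sup_comm]

/-- facts about the maximal subgroups above `N(X)` for `X ≤ K` of prime order -/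
theorem kap_above {M K X L : Subgroup G} (hM : IsCoatom M) (hK : IsPiHallOf (kappa M) K M)
    (hX : X ≤ K) {x : ℕ} (hx : x.Prime) (hXc : Nat.card X = x) (hL : IsCoatom L)
    (hN : 𝓝(X) ≤ L) : X ≤ sigmaCore L := by
  have hX1 := ne_bot_of_card_prime hx hXc
  have hXπ := isPi_of_card_prime hx hXc
  have hXp := hXπ.isPGroup hx
  have hK1 : K ≠ ⊥ := fun h => hX1 (le_bot_iff.1 (h ▸ hX))
  have hKM := hall_le hK
  have hXM := hX.trans hKM
  have hXL : X ≤ L := le_normalizer.trans hN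
  rcases prime_class hG hL hx hXp hX1 hN with h | h2
  · exact syl_le_sigmaCore hG hL h hXπ hXL
  exfalso
  have hxκ : x ∈ kappa M := hall_isPi hK x hx (by rw [← hXc]; exact card_dvd_of_le hX)
  have hxσ : x ∉ sigma M := hxκ.2.2.1
  have hx1 : PRankLE x 1 M := ((kappa_iff hG).1 hxκ).2.2.1
  obtain ⟨y, hy, hyd, Y, hY, hYc⟩ := exists_prime_sub (kap_star_ne hG hM hK hK1)
  have hYσ : Y ≤ sigmaCore M := hY.trans inf_le_left
  have hYK : Y ≤ 𝓒(K) := hY.trans inf_le_right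
  have hYπ := isPi_of_card_prime hy hYc
  have hY1 := ne_bot_of_card_prime hy hYc
  have hyM : y ∈ sigma M := hall_isPi (sigma_hall hG hM) y hy
    (by rw [← hYc]; exact card_dvd_of_le hYσ)
  obtain ⟨p, hpt, hpκ, P, hPK, hP⟩ := kap_P hG hM hK hK1
  obtain ⟨hCY, huY, -⟩ := bg13_6 hG hM hpt (hPK.trans hKM) hP hy hYc hYσ (hYK.trans (cz_anti hPK))
  obtain ⟨hnc, -⟩ := bg13_2 hG hM hL hx hxσ hx1 hXM hXp hX1 hN
  have hyL : y ∉ sigma L := fun h => sigma_part hG hM hL hnc hyM h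
  have hYX : Y ≤ 𝓒(X) := hYK.trans (cz_anti hX)
  have hYL : Y ≤ L := hYX.trans ((cz_le_nz X).trans hN)
  have hML : M ≠ L := fun h => hyL (h ▸ hyM)
  obtain ⟨F, hF, hXYF⟩ := hall_exists_ge (π := (sigma L)ᶜ) (max_sol hG hL)
    (IsPi.sup (π := (sigma L)ᶜ) (hYπ.mono (by rintro s rfl; exact hyL))
      (hXπ.mono (by rintro s rfl; exact h2.2.1)) (hYX.trans (cz_le_nz X))) (sup_le hYL hXL)
  have hYF : Y ≤ F := le_sup_left.trans hXYF
  have hXF : X ≤ F := le_sup_right.trans hXYF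
  obtain ⟨B, hBF, B₀, c⟩ := exists_exc_tau2 hG hL hF h2
  have hXB : X ≤ B := c.line_le hG hF hBF hXF hXc
  have hBY : ¬ B ≤ 𝓒(Y) := fun h => c.card_contra hG (h.trans hCY) hx1
  have hy1 : y ∈ tau1 L := acts_tau1 hG hL hF c hBF hYF hy hYc hBY
  have hCL : sigmaCore L ⊓ 𝓒(Y) = ⊥ := by
    by_contra hne
    have h3 := lemmaA hG hL hF c hBF hy1 hYF hYc hne
    apply hX1
    rw [← le_bot_iff, ← h3]
    exact le_inf hXB (le_cz_comm.1 hYX)
  obtain ⟨T, hT, hNT⟩ := exists_max hG (ms_nz_ne_top hG (X := B) (fun h => hX1 (le_bot_iff.1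
    (h ▸ hXB))) (ms_p_ne_top hG hx (elab_isPGroup c.el)))
  obtain ⟨hxT, hTL, hTi, hBσ⟩ := c.maxN hG hT hNT
  have hYT : Y ≤ T := (hYF.trans (c.nzE hG hF hBF)).trans hNT
  have hXT : X ≤ sigmaCore T := hXB.trans hBσ
  have hXTC : X ≤ sigmaCore T ⊓ 𝓒(Y) := le_inf hXT (le_cz_comm.1 hYX)
  have hyT : y ∉ sigma T := by
    intro h
    by_cases hc : ∃ g : G, T = M ^ᵍ g
    · obtain ⟨g, rfl⟩ := hc
      rw [sigma_cj] at hxT
      exact hxσ hxT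
    · exact sigma_part hG hM hT (fun g hg => hc ⟨g, hg⟩) hyM h
  by_cases hy2 : y ∈ tau2 T
  · obtain ⟨h3, -⟩ := tau2_uniq' hG hT hy2 hYT hYc
      (fun h => hX1 (le_bot_iff.1 (h ▸ hXTC)))
    have := huY T hT h3
    rw [this] at hxT
    exact hxσ hxT
  · obtain ⟨-, h4, -⟩ := kap_uniq hG hT hy hYc hYT hyT hy2 hx hXc hXT (le_cz_comm.1 hYX)
    exact hTL (h4 L hL ((cz_le_nz X).trans hN)).symm

/-- B & G 14.2 -/
theorem bg14_2 {M K : Subgroup G} (hM : IsCoatom M) (hK : IsPiHallOf (kappa M) K M)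
    (hK1 : K ≠ ⊥) :
    (∀ k ∈ K, k ≠ 1 → sigmaCore M ⊓ Subgroup.centralizer ({k} : Set G) = sigmaCore M ⊓ 𝓒(K)) ∧
      (∃ U : Subgroup G, IsMulCommutative U ∧
        IsPiHallOf {q | q.Prime ∧ q ∉ kappa M ∧ q ∉ sigma M} U M ∧
        K ≤ 𝓝(U) ∧ ∀ k ∈ K, k ≠ 1 → U ⊓ Subgroup.centralizer ({k} : Set G) = ⊥) ∧
      ∀ X : Subgroup G, X ≤ K → (Nat.card X).Prime →
        M ⊓ 𝓝(X) = K ⊔ (sigmaCore M ⊓ 𝓒(K)) ∧ M ⊓ 𝓝(K) = K ⊔ (sigmaCore M ⊓ 𝓒(K)) ∧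
        ∀ L : Subgroup G, IsCoatom L → 𝓝(X) ≤ L → X ≤ sigmaCore L := by
  obtain ⟨E, U, hE, hKE, hEU, hU, hUab, hl⟩ := kap_struct hG hM hK hK1
  refine ⟨?_, ⟨U, comm_iff_le_cz.2 hUab, hall_pi0 hG hE hU, hKE.trans hEU, ?_⟩, ?_⟩
  · intro k hk hk1
    rw [← cz_zpowers]
    exact kap_cz hG hM hK (by rwa [zpowers_le]) (by rwa [Ne, zpowers_eq_bot])
  · intro k hk hk1
    have h1 : zpowers k ≠ ⊥ := by rwa [Ne, zpowers_eq_bot]
    obtain ⟨x, hx, -, X, hX, hXc⟩ := exists_prime_sub h1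
    rw [← cz_zpowers, ← le_bot_iff, ← (hl x X hx (hX.trans (by rwa [zpowers_le])) hXc).1]
    exact inf_le_inf le_rfl (cz_anti hX)
  · intro X hX hXp
    have hX1 := ne_bot_of_card_prime hXp rfl
    exact ⟨kap_nz hG hM hK hX hX1 (hl _ X hXp hX rfl).2, kap_nz hG hM hK le_rfl hK1 le_normalizer,
      fun L hL hN => kap_above hG hM hK hX hXp rfl hL hN⟩

end

end CfsgLib.BGPi
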