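import Cfsg.Agent.EqBase
import Cfsg.Agent.LibBG14c

/-! B & G 14.2, 14.3. -/

open Subgroup
open scoped Pointwise commutatorElement

namespace CfsgLib.BGPi

open Cfsg

universe u

section
variable {G : Type u} [Group G] [Finite G]
variable (hG : IsMinSimpleOddOrder G)
include hG

/-- nontrivial subgroups of `K*` -/
theorem kstar_uniq {M K X : Subgroup G} (hM : IsCoatom M) (hK : IsPiHallOf (kappa M) K M)
    (hK1 : K ≠ ⊥) {x : ℕ} (hx : x.Prime) (hXc : Nat.card X = x)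
    (hX : X ≤ sigmaCore M ⊓ 𝓒(K)) :
    𝓒(X) ≤ M ∧ (∀ L : Subgroup G, IsCoatom L → 𝓒(X) ≤ L → L = M) ∧
      ∀ S, IsPiHallOf {x} S M → InUniqueMaximal S := by
  obtain ⟨p, hpt, hpκ, P, hPK, hP⟩ := kap_P hG hM hK hK1
  exact bg13_6 hG hM hpt (hPK.trans (hall_le hK)) hP hx hXc (hX.trans inf_le_left)
    ((hX.trans inf_le_right).trans (cz_anti hPK))

/-- an element conjugating a subgroup of `M` with small centralizer into `M` lies in `M` -/
theorem mem_of_cj_le {M X : Subgroup G} (hM : IsCoatom M) {x : ℕ} (hx : x.Prime)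
    (hXc : Nat.card X = x) (hXσ : X ≤ sigmaCore M) (hC : 𝓒(X) ≤ M) {g : G} (hg : X ^ᵍ g ≤ M) :
    g ∈ M := by
  have hxM : x ∈ sigma M := hall_isPi (sigma_hall hG hM) x hx
    (by rw [← hXc]; exact card_dvd_of_le hXσ)
  obtain ⟨m, hm, c, hc, rfl⟩ := bg10_1 hG hM hxM ((isPi_of_card_prime hx hXc).isPGroup hx)
    (ne_bot_of_card_prime hx hXc) (hXσ.trans (sigmaCore_le hG hM)) hg
  exact mul_mem hm (hC hc)

theorem kap_line_unique {M K X Y : Subgroup G} (hM : IsCoatom M)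
    (hK : IsPiHallOf (kappa M) K M) {x : ℕ} (hx : x.Prime)
    (hX : X ≤ K) (hXc : Nat.card X = x) (hY : Y ≤ K) (hYc : Nat.card Y = x) : X = Y := by
  have hX1 := ne_bot_of_card_prime hx hXc
  have hK1 : K ≠ ⊥ := fun h => hX1 (le_bot_iff.1 (h ▸ hX))
  have hKM := hall_le hK
  have hxκ : x ∈ kappa M := hall_isPi hK x hx (by rw [← hXc]; exact card_dvd_of_le hX)
  have hr := ((kappa_iff hG).1 hxκ).2.2.1
  obtain ⟨E, U, -, -, -, -, -, hl⟩ := kap_struct hG hM hK hK1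
  obtain ⟨S, hS⟩ := exists_syl hx K
  have h1 := normal_le_hall hS hX (hl x X hx hX hXc).2 (isPi_of_card_prime hx hXc)
  have h2 := normal_le_hall hS hY (hl x Y hx hY hYc).2 (isPi_of_card_prime hx hYc)
  exact cyc_card_prime_eq (syl_cyc hG hx hxκ.2.1 hr ((hall_isPi hS).isPGroup hx)
    ((hall_le hS).trans hKM)) hx h1 h2 hXc hYc

/-- B & G 14.2 (c)-(e) -/
theorem bg14_2' {M K : Subgroup G} (hM : IsCoatom M) (hK : IsPiHallOf (kappa M) K M)
    (hK1 : K ≠ ⊥) :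
    (∀ g : G, g ∉ M → (sigmaCore M ⊓ 𝓒(K)) ⊓ M ^ᵍ g = ⊥) ∧
      (∀ g ∈ M, g ∉ K ⊔ (sigmaCore M ⊓ 𝓒(K)) → K ⊓ K ^ᵍ g = ⊥) ∧
      (∀ p : ℕ, p.Prime → p ∣ Nat.card ↥(sigmaCore M ⊓ 𝓒(K)) → ∀ S : Subgroup G,
        IsPiHallOf {p} S (sigmaCore M) → InUniqueMaximal S ∧ S ≤ M ∧ ¬ S ≤ sigmaCore M ⊓ 𝓒(K)) ∧
      ∀ Y : Subgroup G, IsPi (sigma M) Y → Y ⊓ (sigmaCore M ⊓ 𝓒(K)) ≠ ⊥ → Y ≤ sigmaCore M := by
  have hKM := hall_le hK
  refine ⟨?_, ?_, ?_, ?_⟩
  · intro g hg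
    by_contra hne
    obtain ⟨x, hx, -, X, hX, hXc⟩ := exists_prime_sub hne
    obtain ⟨hC, -⟩ := kstar_uniq hG hM hK hK1 hx hXc (hX.trans inf_le_left)
    have h1 : X ^ᵍ g⁻¹ ≤ M := by
      rw [← le_cj_iff]
      exact hX.trans inf_le_right
    have h2 := mem_of_cj_le hG hM hx hXc ((hX.trans inf_le_left).trans inf_le_left) hC h1
    exact hg (inv_mem_iff.1 h2)
  · intro g hgM hg
    by_contra hne
    obtain ⟨x, hx, -, X, hX, hXc⟩ := exists_prime_sub hne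
    have hXK : X ≤ K := hX.trans inf_le_left
    have h1 : X ^ᵍ g⁻¹ ≤ K := by
      rw [← le_cj_iff]
      exact hX.trans inf_le_right
    have h2 := kap_line_unique hG hM hK hx h1 (by rw [card_cj, hXc]) hXK hXc
    have h3 : g⁻¹ ∈ 𝓝(X) := mem_nz.2 h2
    obtain ⟨E, U, -, -, -, -, -, hl⟩ := kap_struct hG hM hK hK1
    apply hg
    rw [← kap_nz hG hM hK hXK (ne_bot_of_card_prime hx hXc) (hl x X hx hXK hXc).2]
    have h4 := Subgroup.inv_mem _ h3
    rw [inv_inv] at h4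
    exact ⟨hgM, h4⟩
  · intro p hp hpd S hS
    obtain ⟨X, hX, hXc⟩ := exists_card_prime hp hpd
    have hXσ : X ≤ sigmaCore M := hX.trans inf_le_left
    have hpM : p ∈ sigma M := hall_isPi (sigma_hall hG hM) p hp
      (by rw [← hXc]; exact card_dvd_of_le hXσ)
    have hSM : IsPiHallOf {p} S M := hall_trans hS (sigma_hall hG hM)
      (Set.singleton_subset_iff.2 hpM)
    obtain ⟨-, -, hu⟩ := kstar_uniq hG hM hK hK1 hp hXc hX
    have hSu := hu S hSM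
    refine ⟨hSu, hall_le hSM, ?_⟩
    intro hSK
    obtain ⟨y, hy, -, Y, hY, hYc⟩ := exists_prime_sub hK1
    obtain ⟨L, hL, hNL⟩ := exists_max hG (nz_line_ne_top hG hy hYc)
    have h1 := kap_above hG hM hK hY hy hYc hL hNL
    have h2 : S ≤ L := (hSK.trans (inf_le_right.trans (cz_anti hY))).trans ((cz_le_nz Y).trans hNL)
    have h3 : L = M := uniq_eq hSu hM (hall_le hSM) hL h2
    rw [h3] at h1
    have h4 : y ∈ sigma M := hall_isPi (sigma_hall hG hM) y hy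
      (by rw [← hYc]; exact card_dvd_of_le h1)
    exact (hall_isPi hK y hy (by rw [← hYc]; exact card_dvd_of_le hY)).2.2.1 h4
  · intro Y hY hne
    obtain ⟨x, hx, -, X, hX, hXc⟩ := exists_prime_sub hne
    obtain ⟨hC, -⟩ := kstar_uniq hG hM hK hK1 hx hXc (hX.trans inf_le_right)
    have hY1 : Y ≠ ⊥ := by
      rintro rfl
      exact hne (bot_inf_eq _)
    obtain ⟨g, hg⟩ := bg12_16a hG hM hY1 hY
    have hgM : g ∈ M := mem_of_cj_le hG hM hx hXc ((hX.trans inf_le_right).trans inf_le_left) hC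
      (((cj_mono (hX.trans inf_le_left) g).trans hg).trans (sigmaCore_le hG hM))
    rw [cj_le_iff, cj_le_of_le_nz (le_nz_sigmaCore hG M) (inv_mem hgM)] at hg
    exact hg

end

end CfsgLib.BGPi
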