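import Cfsg.Agent.EqBase
import Cfsg.Agent.LibBG14d

/-! B & G 14.3. -/

open Subgroup
open scoped Pointwise commutatorElement

namespace CfsgLib.BGPi

open Cfsg

universe u

section
variable {G : Type u} [Group G] [Finite G]

theorem isPi_zpowers {π : Set ℕ} {x : G} :
    IsPi π (zpowers x) ↔ ∀ p : ℕ, p.Prime → p ∣ orderOf x → p ∈ π := by
  constructor
  · intro h p hp hd
    exact h p hp (by rwa [Nat.card_zpowers])
  · intro h p hp hd
    rw [Nat.card_zpowers] at hd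
    exact h p hp hd

theorem cz1_eq (x : G) : Subgroup.centralizer ({x} : Set G) = 𝓒(zpowers x) := (cz_zpowers x).symm

variable (hG : IsMinSimpleOddOrder G)
include hG

/-- a `σ(M)'`-subgroup centralizing something in `M_σ`: its primes are in `κ(M) ∪ τ₂(M)` -/
theorem prime_kt {M X : Subgroup G} (hM : IsCoatom M) {p : ℕ} (hp : p.Prime) (hXM : X ≤ M)
    (hX : Nat.card X = p) (hσ : p ∉ sigma M) (hC : sigmaCore M ⊓ 𝓒(X) ≠ ⊥) :
    p ∈ kappa M ∨ p ∈ tau2 M := by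
  have hr2 := rank_of_not_sigma hG hM hp hσ
  by_cases hr1 : PRankLE p 1 M
  · exact Or.inl ((kappa_iff hG).2 ⟨hp, hσ, hr1, X, hXM, hX, hC⟩)
  · exact Or.inr ⟨hp, hσ, hr2, hr1⟩

/-- `κ`-elements and `τ₂`-elements do not commute -/
theorem kap_tau2_cz {M X Y : Subgroup G} (hM : IsCoatom M) {p q : ℕ} (hp : p ∈ kappa M)
    (hq : q ∈ tau2 M) (hXM : X ≤ M) (hX : Nat.card X = p) (hYM : Y ≤ M) (hY : Nat.card Y = q)
    (h : Y ≤ 𝓒(X)) : False := by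
  have hXπ := isPi_of_card_prime hp.1 hX
  have hYπ := isPi_of_card_prime hq.1 hY
  obtain ⟨K, hK, hXK⟩ := hall_exists_ge (π := kappa M) (max_sol hG hM)
    (hXπ.mono (by rintro s rfl; exact hp)) hXM
  have hK1 : K ≠ ⊥ := fun h0 => ne_bot_of_card_prime hp.1 hX (le_bot_iff.1 (h0 ▸ hXK))
  rcases kap_cases hG hM hK hK1 with ⟨h1, -, -⟩ | ⟨h2, -⟩
  · obtain ⟨E, hE, hXY⟩ := hall_exists_ge (π := (sigma M)ᶜ) (max_sol hG hM)
      (IsPi.sup (π := (sigma M)ᶜ) (hYπ.mono (by rintro s rfl; exact hq.2.1))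
        (hXπ.mono (by rintro s rfl; exact hp.2.2.1)) (h.trans (cz_le_nz X))) (sup_le hYM hXM)
    have hYE : Y ≤ E := le_sup_left.trans hXY
    have hXE : X ≤ E := le_sup_right.trans hXY
    obtain ⟨A, hAE, A₀, c⟩ := exists_exc_tau2 hG hM hE hq
    have h3 := lemmaA hG hM hE c hAE (h1 ▸ hp) hXE hX (kappa_line hG hp hXM hX)
    have h4 : Y ≤ ⊥ := by
      rw [← h3]
      exact le_inf (c.line_le hG hE hAE hYE hY) h
    exact ne_bot_of_card_prime hq.1 hY (le_bot_iff.1 h4)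
  · exact h2 q hq

/-- commuting `τ₂`-lines -/
theorem tau2_common {M : Subgroup G} (hM : IsCoatom M) {x' : G} (hx' : x' ∈ M) (hx'1 : x' ≠ 1)
    (ht : IsPi (tau2 M) (zpowers x')) (hC : sigmaCore M ⊓ 𝓒(zpowers x') ≠ ⊥) :
    ∃ L : Subgroup G, IsCoatom L ∧ IsPi (sigma L) (zpowers x') := by
  have hz1 : zpowers x' ≠ ⊥ := by rwa [Ne, zpowers_eq_bot]
  have hzM : zpowers x' ≤ M := by rwa [zpowers_le]
  obtain ⟨E, hE, hzE⟩ := hall_exists_ge (π := (sigma M)ᶜ) (max_sol hG hM)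
    (ht.mono (tau2_sub hG)) hzM
  obtain ⟨p, hp, hpd, X, hX, hXc⟩ := exists_prime_sub hz1
  have hpt := ht p hp hpd
  obtain ⟨A, hAE, A₀, c⟩ := exists_exc_tau2 hG hM hE hpt
  have hXA := c.line_le hG hE hAE (hX.trans hzE) hXc
  have hX1 := ne_bot_of_card_prime hp hXc
  obtain ⟨L, hL, hNL⟩ := exists_max hG (ms_nz_ne_top hG (X := A) (fun h => hX1 (le_bot_iff.1
    (h ▸ hXA))) (ms_p_ne_top hG hp (elab_isPGroup c.el)))
  obtain ⟨hpL, hLM, hLi, hAσ⟩ := c.maxN hG hL hNL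
  refine ⟨L, hL, ?_⟩
  intro q hq hqd
  by_contra hqL
  have hqt := ht q hq hqd
  obtain ⟨Y, hY, hYc⟩ := exists_card_prime hq hqd
  obtain ⟨B, hBE, B₀, c'⟩ := exists_exc_tau2 hG hM hE hqt
  have hEL : E ≤ L := (c.nzE hG hE hAE).trans hNL
  have hqt' : q ∈ tau2 L := ⟨hq, hqL, rank_of_not_sigma hG hL hq hqL,
    fun h => c'.card_contra hG (hBE.trans hEL) h⟩
  have hzab : zpowers x' ≤ 𝓒(zpowers x') := comm_iff_le_cz.1 (comm_zpowers x')
  have hXY : X ≤ 𝓒(Y) := (hX.trans hzab).trans (cz_anti hY)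
  obtain ⟨h1, -⟩ := tau2_uniq' hG hL hqt' ((hY.trans hzE).trans hEL) hYc
    (fun h => hX1 (le_bot_iff.1 (h ▸ le_inf (hXA.trans hAσ) hXY)))
  obtain ⟨-, h2⟩ := tau2_uniq' hG hM hqt (hY.trans hzM) hYc
    (fun h => hC (le_bot_iff.1 (h ▸ inf_le_inf le_rfl (cz_anti hY))))
  exact hLM (h2 L hL h1)

theorem uniq_zpowers {M : Subgroup G} {x : G} {X : Subgroup G} (hX : X ≤ zpowers x)
    (h : 𝓒(X) ≤ M) : Subgroup.centralizer ({x} : Set G) ≤ M := by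
  rw [cz1_eq]
  exact (cz_anti hX).trans h

/-- B & G 14.3 -/
theorem bg14_3 {M : Subgroup G} (hM : IsCoatom M) {x x' : G} (hx : x ∈ sigmaCore M) (hx1 : x ≠ 1)
    (hx' : x' ∈ M) (hxx : x' ∈ Subgroup.centralizer ({x} : Set G)) (hx'1 : x' ≠ 1)
    (hσ : ∀ p : ℕ, p.Prime → p ∣ orderOf x' → p ∉ sigma M) :
    ((∀ p : ℕ, p.Prime → p ∣ orderOf x' → p ∈ kappa M) ∧
        Subgroup.centralizer ({x} : Set G) ≤ M) ∨
      ((∀ p : ℕ, p.Prime → p ∣ orderOf x' → p ∈ tau2 M) ∧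
        (∃ L : Subgroup G, IsCoatom L ∧ ∀ p : ℕ, p.Prime → p ∣ orderOf x' → p ∈ sigma L) ∧
        (Subgroup.centralizer ({x'} : Set G) ≤ M ∧ ∀ L : Subgroup G, IsCoatom L →
          Subgroup.centralizer ({x'} : Set G) ≤ L → L = M)) := by
  have hzM : zpowers x' ≤ M := by rwa [zpowers_le]
  have hxz : x ∈ 𝓒(zpowers x') := by
    rw [cz_zpowers, Subgroup.mem_centralizer_singleton_iff]
    exact (Subgroup.mem_centralizer_singleton_iff.1 hxx).symm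
  have hC : sigmaCore M ⊓ 𝓒(zpowers x') ≠ ⊥ := by
    intro h
    apply hx1
    have : x ∈ sigmaCore M ⊓ 𝓒(zpowers x') := ⟨hx, hxz⟩
    rw [h] at this
    exact Subgroup.mem_bot.1 this
  have hzab : zpowers x' ≤ 𝓒(zpowers x') := comm_iff_le_cz.1 (comm_zpowers x')
  have hkt : ∀ p : ℕ, p.Prime → p ∣ orderOf x' → ∃ X ≤ zpowers x', Nat.card X = p ∧
      (p ∈ kappa M ∨ p ∈ tau2 M) := by
    intro p hp hd
    obtain ⟨X, hX, hXc⟩ := exists_card_prime hp (by rwa [Nat.card_zpowers] : p ∣ Nat.card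
      (zpowers x'))
    refine ⟨X, hX, hXc, prime_kt hG hM hp (hX.trans hzM) hXc (hσ p hp hd) ?_⟩
    exact fun h => hC (le_bot_iff.1 (h ▸ inf_le_inf le_rfl (cz_anti hX)))
  by_cases hκ : ∃ p : ℕ, p.Prime ∧ p ∣ orderOf x' ∧ p ∈ kappa M
  · left
    obtain ⟨p, hp, hd, hpκ⟩ := hκ
    obtain ⟨X, hX, hXc, -⟩ := hkt p hp hd
    refine ⟨?_, ?_⟩
    · intro q hq hqd
      obtain ⟨Y, hY, hYc, h | h⟩ := hkt q hq hqd
      · exact h
      · exact (kap_tau2_cz hG hM hpκ h (hX.trans hzM) hXc (hY.trans hzM) hYc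
          ((hY.trans hzab).trans (cz_anti hX))).elim
    · obtain ⟨K, hK, hXK⟩ := hall_exists_ge (π := kappa M) (max_sol hG hM)
        ((isPi_of_card_prime hp hXc).mono (by rintro s rfl; exact hpκ)) (hX.trans hzM)
      have hX1 := ne_bot_of_card_prime hp hXc
      have hK1 : K ≠ ⊥ := fun h0 => hX1 (le_bot_iff.1 (h0 ▸ hXK))
      have hzx : zpowers x ≤ sigmaCore M ⊓ 𝓒(K) := by
        rw [← kap_cz hG hM hK hXK hX1, zpowers_le]
        exact ⟨hx, cz_anti hX hxz⟩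
      obtain ⟨y, hy, -, Y, hY, hYc⟩ := exists_prime_sub
        (show zpowers x ≠ ⊥ by rwa [Ne, zpowers_eq_bot])
      obtain ⟨h1, -⟩ := kstar_uniq hG hM hK hK1 hy hYc (hY.trans hzx)
      exact uniq_zpowers hG hY h1
  · right
    have ht : ∀ p : ℕ, p.Prime → p ∣ orderOf x' → p ∈ tau2 M := by
      intro p hp hd
      obtain ⟨X, hX, hXc, h | h⟩ := hkt p hp hd
      · exact absurd ⟨p, hp, hd, h⟩ hκ
      · exact h
    obtain ⟨L, hL, h1⟩ := tau2_common hG hM hx' hx'1 (isPi_zpowers.2 ht) hC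
    refine ⟨ht, ⟨L, hL, isPi_zpowers.1 h1⟩, ?_⟩
    refine tau2_uniq hG hM hx' hx'1 ht ⟨hx', x, hx, hx1, ?_⟩
    exact Subgroup.mem_centralizer_singleton_iff.1 hxx

end

end CfsgLib.BGPi
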