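import Cfsg.Agent.EqBase
import Cfsg.Agent.LibBG14e

/-! B & G §§14–16: first consequences for the standard factorisation. -/

open Subgroup
open scoped Pointwise commutatorElement

namespace CfsgLib.BGPi

open Cfsg

universe u

section
variable {G : Type u} [Group G] [Finite G]
variable (hG : IsMinSimpleOddOrder G)
include hG

theorem exists_sigma {p : ℕ} (hp : p.Prime) (hpG : p ∣ Nat.card G) :
    ∃ M : Subgroup G, IsCoatom M ∧ p ∈ sigma M := by
  obtain ⟨P, hP⟩ := exists_syl hp (⊤ : Subgroup G)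
  have hP1 : P ≠ ⊥ := hall_ne_bot hp hP (by rwa [Subgroup.card_top])
  have hPp := (hall_isPi hP).isPGroup hp
  obtain ⟨M, hM, hN⟩ := exists_max hG (ms_nz_ne_top hG hP1 (ms_p_ne_top hG hp hPp))
  have hPM : P ≤ M := le_normalizer.trans hN
  refine ⟨M, hM, mem_sigma_iff.2 ⟨hp, ?_, P, hall_le_of_le hP hPM le_top, hN⟩⟩
  exact (pgroup_dvd_card hp hPp hP1).trans (card_dvd_of_le hPM)

theorem sigma_conj_of {M N : Subgroup G} (hM : IsCoatom M) (hN : IsCoatom N)
    (h : (sigma M ∩ sigma N).Nonempty) : ∃ g : G, N = M ^ᵍ g := by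
  by_contra hne
  obtain ⟨p, h1, h2⟩ := h
  exact sigma_part hG hM hN (fun g hg => hne ⟨g, hg⟩) h1 h2

/-- facts on a standard factorisation -/
theorem dec_facts {M K U : Subgroup G} (hM : IsCoatom M) (hKU : IsSigmaDecomposition M K U) :
    IsPiHallOf (sigma M)ᶜ (U ⊔ K) M ∧ IsPiHallOf (kappa M)ᶜ U (U ⊔ K) ∧
      IsPiHallOf (kappa M) K (U ⊔ K) ∧ (U ⊔ K) ⊔ sigmaCore M = M := by
  obtain ⟨hKc, hK, hc, hKUn⟩ := hKU
  have hKM := hall_le hK
  have hσM := sigmaCore_le hG hM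
  have hσ := sigma_hall hG hM
  have hKσ : IsPi (sigma M)ᶜ K := (hall_isPi hK).mono fun s hs => hs.2.2.1
  have hcard := IsComplIn_card hc
  have hUM : U ≤ M := hc.1
  have hUKn : K ≤ 𝓝(U) := hKUn
  have hd1 : K ⊓ sigmaCore M = ⊥ := by
    rw [inf_comm]; exact cop_inf ((hall_isPi hσ).coprime hKσ)
  have h1 : Nat.card ↥(K ⊔ sigmaCore M) = Nat.card K * Nat.card (sigmaCore M) :=
    card_sup_of_disjoint (hKM.trans (le_nz_sigmaCore hG M)) hd1
  have hd2 : U ⊓ K = ⊥ := by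
    rw [← le_bot_iff, ← hc.2.2.1]
    exact inf_le_inf le_rfl le_sup_left
  have h2 : Nat.card ↥(U ⊔ K) = Nat.card U * Nat.card K := by
    rw [sup_comm, card_sup_of_disjoint hUKn (by rw [inf_comm]; exact hd2), mul_comm]
  have hEM : U ⊔ K ≤ M := sup_le hUM hKM
  have hsup : (U ⊔ K) ⊔ sigmaCore M = M := by
    rw [sup_assoc]; exact IsComplIn_sup hc
  -- `U ⊔ K` is a `σ'`-group: compare cards
  obtain ⟨E, hE⟩ := hall_exists (π := (sigma M)ᶜ) (max_sol hG hM)
  have hcE : Nat.card (sigmaCore M) * Nat.card E = Nat.card M := by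
    have h3 := card_sup_of_disjoint ((hall_le hE).trans (le_nz_sigmaCore hG M))
      (cop_inf ((hall_isPi hσ).coprime (hall_isPi hE)).symm)
    rw [sup_comm, compl_sup hG hM hE] at h3
    rw [h3, mul_comm]
  have hcEU : Nat.card E = Nat.card ↥(U ⊔ K) := by
    have h4 : Nat.card (sigmaCore M) * Nat.card E =
        Nat.card (sigmaCore M) * Nat.card ↥(U ⊔ K) := by
      rw [hcE, ← hcard, h1, h2]; ring
    exact Nat.eq_of_mul_eq_mul_left Nat.card_pos h4
  have hEσ : IsPi (sigma M)ᶜ (U ⊔ K) := by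
    intro p hp hd
    rw [← hcEU] at hd
    exact hall_isPi hE p hp hd
  have hEH : IsPiHallOf (sigma M)ᶜ (U ⊔ K) M := hall_of_card_le hE hEσ hEM hcEU.le
  have hKE : IsPiHallOf (kappa M) K (U ⊔ K) := hall_le_of_le hK le_sup_right hEM
  refine ⟨hEH, ?_, hKE, hsup⟩
  have hr1 : K.relIndex (U ⊔ K) = Nat.card U := by
    have h5 := card_mul_relIndex (le_sup_right : K ≤ U ⊔ K)
    rw [h2, mul_comm (Nat.card U)] at h5
    exact Nat.eq_of_mul_eq_mul_left Nat.card_pos h5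
  have hr2 : U.relIndex (U ⊔ K) = Nat.card K := by
    have h5 := card_mul_relIndex (le_sup_left : U ≤ U ⊔ K)
    rw [h2] at h5
    exact Nat.eq_of_mul_eq_mul_left Nat.card_pos h5
  refine hall_iff.2 ⟨le_sup_left, ?_, ?_⟩
  · intro p hp hd hpκ
    rw [← hr1] at hd
    exact (hall_iff.1 hKE).2.2 p hp hpκ hd
  · intro p hp hpκ hd
    rw [hr2] at hd
    exact hpκ (hall_isPi hK p hp hd)

theorem dec_normal {M K U : Subgroup G} (hM : IsCoatom M) (hKU : IsSigmaDecomposition M K U) :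
    M ≤ 𝓝(U ⊔ sigmaCore M) := by
  obtain ⟨-, -, -, hs⟩ := dec_facts hG hM hKU
  have hσM := sigmaCore_le hG hM
  have hUM : U ≤ M := hKU.compl.1
  have hKM := hall_le hKU.hall
  calc M = (U ⊔ K) ⊔ sigmaCore M := hs.symm
    _ ≤ _ := by
      refine sup_le (sup_le (le_sup_left.trans le_normalizer) ?_)
        (le_sup_right.trans le_normalizer)
      exact le_nz_sup hKU.normal (hKM.trans (le_nz_sigmaCore hG M))

/-- `C_M(k) = K × K*` -/
theorem kap_cz_elt {M K : Subgroup G} (hM : IsCoatom M) (hK : IsPiHallOf (kappa M) K M)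
    (hKc : IsCyclic K) {k : G} (hk : k ∈ K) (hk1 : k ≠ 1) :
    M ⊓ Subgroup.centralizer ({k} : Set G) = K ⊔ (sigmaCore M ⊓ 𝓒(K)) := by
  have hz1 : zpowers k ≠ ⊥ := by rwa [Ne, zpowers_eq_bot]
  have hzK : zpowers k ≤ K := by rwa [zpowers_le]
  have hab : K ≤ 𝓒(K) := comm_iff_le_cz.1 (by haveI := hKc; infer_instance)
  rw [cz1_eq]
  refine le_antisymm ?_ ?_
  · rw [← kap_nz hG hM hK hzK hz1 ((hab.trans (cz_anti hzK)).trans (cz_le_nz _))]
    exact inf_le_inf le_rfl (cz_le_nz _)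
  · refine sup_le (le_inf (hall_le hK) (hab.trans (cz_anti hzK))) ?_
    exact inf_le_inf (sigmaCore_le hG hM) (cz_anti hzK)

theorem dec_fpf {M K U : Subgroup G} (hM : IsCoatom M) (hKU : IsSigmaDecomposition M K U)
    {k : G} (hk : k ∈ K) (hk1 : k ≠ 1) : U ⊓ Subgroup.centralizer ({k} : Set G) = ⊥ := by
  obtain ⟨hE, hU, hKE, -⟩ := dec_facts hG hM hKU
  have h1 := kap_cz_elt hG hM hKU.hall hKU.cyclic hk hk1
  have h2 : U ⊓ Subgroup.centralizer ({k} : Set G) ≤ K ⊔ (sigmaCore M ⊓ 𝓒(K)) := by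
    rw [← h1]
    exact inf_le_inf hKU.compl.1 le_rfl
  have h3 : IsPi {q | q.Prime ∧ (q ∈ kappa M ∨ q ∈ sigma M)} (K ⊔ (sigmaCore M ⊓ 𝓒(K))) := by
    refine IsPi.sup' ?_ ?_ ?_
    · intro q hq hd
      exact ⟨hq, Or.inl (hall_isPi hKU.hall q hq hd)⟩
    · intro q hq hd
      exact ⟨hq, Or.inr (hall_isPi (sigma_hall hG hM) q hq (hd.trans (card_dvd_of_le inf_le_left)))⟩
    · exact inf_le_right.trans (cz_le_nz K)
  refine eq_bot_of_isPi (h3.le h2) ?_
  intro q hq hd hmem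
  have hdU := hd.trans (card_dvd_of_le inf_le_left)
  rcases hmem.2 with h | h
  · exact hall_isPi hU q hq hdU h
  · exact hall_isPi hE q hq (hdU.trans (card_dvd_of_le le_sup_left)) h

theorem exists_dec {M K : Subgroup G} (hM : IsCoatom M) (hKc : IsCyclic K)
    (hK : IsPiHallOf (kappa M) K M) : ∃ U : Subgroup G, IsSigmaDecomposition M K U := by
  have hKM := hall_le hK
  have hσ := hall_isPi (sigma_hall hG hM)
  have hσn := le_nz_sigmaCore hG M
  have hKσ : IsPi (sigma M)ᶜ K := (hall_isPi hK).mono fun s hs => hs.2.2.1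
  have key : ∀ E U : Subgroup G, IsPiHallOf (sigma M)ᶜ E M → K ≤ E → E ≤ 𝓝(U) →
      IsPiHallOf (kappa M)ᶜ U E → IsSigmaDecomposition M K U := by
    intro E U hE hKE hEU hU
    have hEM := hall_le hE
    have hUE := hall_le hU
    have hUK := kap_EUK hG hK hE hKE hU
    refine ⟨hKc, hK, ?_, hKE.trans hEU⟩
    have hd : U ⊓ (K ⊔ sigmaCore M) = ⊥ := by
      have h1 : E ⊓ (K ⊔ sigmaCore M) = K := by
        rw [inf_comm, dedekind' (hKM.trans hσn) hKE,
          cop_inf (hσ.coprime (hall_isPi hE)), sup_bot_eq]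
      have h2 : U ⊓ (K ⊔ sigmaCore M) ≤ U ⊓ K :=
        le_inf inf_le_left ((inf_le_inf hUE le_rfl).trans h1.le)
      rw [← le_bot_iff]
      refine h2.trans (cop_inf ?_).le
      exact ((hall_isPi hK).coprime (hall_isPi hU)).symm
    refine ⟨hUE.trans hEM, sup_le hKM (sigmaCore_le hG hM), hd, ?_⟩
    intro m hm
    rw [← compl_sup hG hM hE, sup_comm] at hm
    obtain ⟨e, he, s, hs, rfl⟩ := (mem_sup_of_nz (hEM.trans hσn)).1 hm
    rw [← hUK] at he
    obtain ⟨u, hu, k, hk, rfl⟩ := (mem_sup_of_nz' (hKE.trans hEU)).1 he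
    exact ⟨u, hu, k * s, mul_mem ((le_sup_left : K ≤ _) hk) ((le_sup_right : sigmaCore M ≤ _) hs),
      mul_assoc _ _ _⟩
  by_cases hK1 : K = ⊥
  · obtain ⟨E, hE⟩ := hall_exists (π := (sigma M)ᶜ) (max_sol hG hM)
    refine ⟨E, key E E hE (by rw [hK1]; exact bot_le) le_normalizer (hall_self ?_)⟩
    intro p hp hd hpκ
    have h1 := (hall_iff.1 hK).2.2 p hp hpκ
    rw [hK1, Subgroup.relIndex_bot_left] at h1
    exact h1 (hd.trans (card_dvd_of_le (hall_le hE)))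
  · obtain ⟨E, U, hE, hKE, hEU, hU, -, -⟩ := kap_struct hG hM hK hK1
    exact ⟨U, key E U hE hKE hEU hU⟩

end

end CfsgLib.BGPi
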