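import Cfsg.Agent.EqBase
import Cfsg.Agent.LibBG14f

/-! B & G 14.4, 14.5. -/

open Subgroup
open scoped Pointwise commutatorElement

namespace CfsgLib.BGPi

open Cfsg

universe u

section
variable {G : Type u} [Group G] [Finite G]

omit [Finite G] in
theorem nilp_of_comm {X : Subgroup G} (h : IsMulCommutative X) : Group.IsNilpotent X := by
  letI : CommGroup X := { (inferInstance : Group X) with
    mul_comm := fun a b => h.is_comm.comm a b }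
  exact CommGroup.isNilpotent (G := X)

variable (hG : IsMinSimpleOddOrder G)
include hG

/-- all elements of a `τ₂(M)`-subgroup of `E` centralize `A` -/
theorem Exc.tau2_cz' {p : ℕ} {M A₀ A E X : Subgroup G} (c : Exc p M A₀ A)
    (hE : IsPiHallOf (sigma M)ᶜ E M) (hAE : A ≤ E) (hX : X ≤ E) (hXt : IsPi (tau2 M) X) :
    X ≤ 𝓒(A) := by
  intro x hx
  have h1 : zpowers x ≤ X := by rwa [zpowers_le]
  have hn : Group.IsNilpotent (zpowers x) := nilp_of_comm (comm_zpowers x)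
  exact c.tau2_cz hG hE hAE (h1.trans hX) hn (hXt.le h1) (mem_zpowers x)

/-- B & G Theorem B (4): `U`-subgroups with fixed points in `M_σ` -/
theorem tau2_uniq_sub {M X : Subgroup G} (hM : IsCoatom M) (hXM : X ≤ M) (hX1 : X ≠ ⊥)
    (hXt : IsPi (tau2 M) X) (hC : sigmaCore M ⊓ 𝓒(X) ≠ ⊥) :
    𝓒(X) ≤ M ∧ ∀ L : Subgroup G, IsCoatom L → 𝓒(X) ≤ L → L = M := by
  obtain ⟨x, hx, hxd, X₀, hX0, hXc⟩ := exists_prime_sub hX1
  have hxt := hXt x hx hxd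
  obtain ⟨E, hE, hXE⟩ := hall_exists_ge (π := (sigma M)ᶜ) (max_sol hG hM)
    (hXt.mono (tau2_sub hG)) hXM
  obtain ⟨A, hAE, A₀, c⟩ := exists_exc_tau2 hG hM hE hxt
  have hXA := c.tau2_cz' hG hE hAE hXE hXt
  have hC0 : sigmaCore M ⊓ 𝓒(X₀) ≠ ⊥ :=
    fun h => hC (le_bot_iff.1 (h ▸ inf_le_inf le_rfl (cz_anti hX0)))
  obtain ⟨h1, -⟩ := tau2_uniq' hG hM hxt (hX0.trans hXM) hXc hC0
  have h2 := (cz_anti hX0).trans h1
  refine ⟨h2, fun L hL hCL => c.uniq hG hL ((le_cz_comm.1 hXA).trans hCL) ?_⟩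
  intro h
  apply hC
  rw [← le_bot_iff, ← h]
  exact le_inf (inf_le_right.trans hCL) inf_le_left

theorem fittingHallOf_le_sigmaCore {M : Subgroup G} (hM : IsCoatom M) :
    fittingHallOf M ≤ sigmaCore M := by
  have hF := hall_fittingHallOf M
  have hFM := fittingHallOf_le M
  have hFn := fittingHallOf_nilpotent M
  refine le_hall_of_normal (sigma_hall hG hM) (le_nz_sigmaCore hG M) ?_ hFM
  intro p hp hd
  have hP : IsPiHallOf {p} (piCoreOf {p} (fittingHallOf M)) (fittingHallOf M) := nilpotent_hall hFn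
  have hPM : IsPiHallOf {p} (piCoreOf {p} (fittingHallOf M)) M :=
    hall_trans hP hF (Set.singleton_subset_iff.2 hd)
  have hP1 : piCoreOf {p} (fittingHallOf M) ≠ ⊥ := hall_ne_bot hp hP hd
  refine mem_sigma_iff.2 ⟨hp, hd.trans (card_dvd_of_le hFM), _, hPM, ?_⟩
  exact (max_nz_eq hG hM hP1 (hall_le hPM)
    ((le_nz_fittingHallOf M).trans (nz_le_nz_piCoreOf _ _))).le

theorem sigmaCore_le_fittingHallOf {M : Subgroup G} (hM : IsCoatom M)
    (h : Group.IsNilpotent (sigmaCore M)) : sigmaCore M ≤ fittingHallOf M :=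
  le_fittingHallOf (sigmaCore_le hG hM) (le_nz_sigmaCore hG M) h
    (hall_coprime (sigma_hall hG hM))

/-- B & G 14.4 -/
theorem bg14_4 {M L : Subgroup G} (hM : IsCoatom M) {x : G} (hx : x ∈ sigmaCore M) (hx1 : x ≠ 1)
    (hxM : ¬ Subgroup.centralizer ({x} : Set G) ≤ M) (hL : IsCoatom L)
    (hxL : Subgroup.centralizer ({x} : Set G) ≤ L) :
    (∀ N : Subgroup G, IsCoatom N → Subgroup.centralizer ({x} : Set G) ≤ N → N = L) ∧
    (∀ g : G, L ≠ M ^ᵍ g) ∧ IsPi (tau2 L) (zpowers x) ∧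
    sigmaCore L ⊓ Subgroup.centralizer ({x} : Set G) ≠ ⊥ ∧ M ⊓ sigmaCore L = ⊥ ∧
    IsPiHallOf (sigma L)ᶜ (M ⊓ L) L ∧ sigmaCore L ⊔ (M ⊓ L) = L ∧
    (∀ (q : ℕ) (X : Subgroup G), q.Prime → X ≤ zpowers x → Nat.card X = q → 𝓝(X) ≤ L ∧
      ∀ S : Subgroup G, IsPiHallOf {q} S (M ⊓ L) → 𝓝(S) ≤ M ∧
      ∃ A ≤ S, ∃ A₀, Exc q L A₀ A ∧ 𝓝(A) ≤ M) ∧
    Subgroup.centralizer ({x} : Set G) ≤ (sigmaCore L ⊓ Subgroup.centralizer ({x} : Set G)) ⊔
      (M ⊓ Subgroup.centralizer ({x} : Set G)) := by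
  have hz1 : zpowers x ≠ ⊥ := by rwa [Ne, zpowers_eq_bot]
  have hzσ : zpowers x ≤ sigmaCore M := by rwa [zpowers_le]
  have hσM := sigmaCore_le hG hM
  have hzM := hzσ.trans hσM
  rw [cz1_eq] at hxM hxL ⊢
  have hzab : zpowers x ≤ 𝓒(zpowers x) := comm_iff_le_cz.1 (comm_zpowers x)
  -- the claim for a single subgroup of prime order
  have key : ∀ (q : ℕ) (X : Subgroup G), q.Prime → X ≤ zpowers x → Nat.card X = q →
      ∀ K : Subgroup G, IsCoatom K → 𝓝(X) ≤ K →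
      (∀ N : Subgroup G, IsCoatom N → 𝓒(zpowers x) ≤ N → N = K) ∧
      (∀ g : G, K ≠ M ^ᵍ g) ∧ IsPi (tau2 K) (zpowers x) ∧ sigmaCore K ⊓ 𝓒(zpowers x) ≠ ⊥ ∧
      M ⊓ sigmaCore K = ⊥ ∧ IsPiHallOf (sigma K)ᶜ (M ⊓ K) K ∧ sigmaCore K ⊔ (M ⊓ K) = K ∧
      (∀ S : Subgroup G, IsPiHallOf {q} S (M ⊓ K) → 𝓝(S) ≤ M ∧
        ∃ A ≤ S, ∃ A₀, Exc q K A₀ A ∧ 𝓝(A) ≤ M) ∧
      𝓒(zpowers x) ≤ (sigmaCore K ⊓ 𝓒(zpowers x)) ⊔ (M ⊓ 𝓒(zpowers x)) := by
    intro q X hq hX hXc K hK hNK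
    have hXπ := isPi_of_card_prime hq hXc
    have hXp := hXπ.isPGroup hq
    have hX1 := ne_bot_of_card_prime hq hXc
    have hXM := hX.trans hzM
    have hqM : q ∈ sigma M := hall_isPi (sigma_hall hG hM) q hq
      (by rw [← hXc]; exact card_dvd_of_le (hX.trans hzσ))
    have hCK : 𝓒(zpowers x) ≤ K := (cz_anti hX).trans ((cz_le_nz X).trans hNK)
    have hne : K ≠ M := fun h => hxM (h ▸ hCK)
    have hnc := bg12_15a hG hM hqM hXp hX1 hXM hne hNK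
    have hqK : q ∉ sigma K := fun h => sigma_part hG hM hK hnc hqM h
    have hXK : X ≤ K := le_normalizer.trans hNK
    obtain ⟨S, hS, hXS⟩ := exists_syl_ge hq hXπ (le_inf hXM hXK)
    obtain ⟨A, hAS, A₀, c, hNA, hH, hi, -, hs⟩ := bg12_15e hG hM hK hqM hne hqK hX1 hNK hS hXS
    have hzK : zpowers x ≤ K := hzab.trans hCK
    have hzD : zpowers x ≤ M ⊓ K := le_inf hzM hzK
    have hcop : (Nat.card (zpowers x)).Coprime (Nat.card (sigmaCore K)) :=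
      ((hall_isPi (sigma_hall hG hK)).coprime ((hall_isPi hH).le hzD)).symm
    have hprod := prod_nz ((hall_le hH).trans (le_nz_sigmaCore hG K)) hzD hcop
      (Or.inr (sigmaCore_sol hG hK))
    rw [hs] at hprod
    have hsplit : 𝓒(zpowers x) ≤ (sigmaCore K ⊓ 𝓒(zpowers x)) ⊔ (M ⊓ 𝓒(zpowers x)) := by
      intro g hg
      have hg' : g ∈ K ⊓ 𝓝(zpowers x) := ⟨hCK hg, cz_le_nz _ hg⟩
      rw [hprod] at hg'
      have hnn : (M ⊓ K) ⊓ 𝓝(zpowers x) ≤ 𝓝(sigmaCore K ⊓ 𝓒(zpowers x)) :=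
        le_nz_inf ((inf_le_left.trans inf_le_right).trans (le_nz_sigmaCore hG K))
          (inf_le_right.trans (nz_le_nz_cz _))
      obtain ⟨a, ha, b, hb, rfl⟩ := (mem_sup_of_nz' hnn).1 hg'
      have hbC : b ∈ 𝓒(zpowers x) := by
        have := mul_mem (Subgroup.inv_mem _ ha.2) hg
        rwa [inv_mul_cancel_left] at this
      exact mul_mem ((le_sup_left : sigmaCore K ⊓ 𝓒(zpowers x) ≤ _) ha)
        ((le_sup_right : M ⊓ 𝓒(zpowers x) ≤ _) ⟨hb.1.1, hbC⟩)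
    have hC1 : sigmaCore K ⊓ 𝓒(zpowers x) ≠ ⊥ := by
      intro h
      rw [h, bot_sup_eq] at hsplit
      exact hxM (hsplit.trans inf_le_left)
    -- `x` is a `τ₂(K)`-element
    have hq2 : q ∈ tau2 K := ⟨hq, hqK, rank_of_not_sigma hG hK hq hqK,
      fun h => c.card_contra hG c.AM h⟩
    obtain ⟨v, ⟨hv, hvx⟩, hv1⟩ := (sigmaCore K ⊓ 𝓒(zpowers x)).bot_or_exists_ne_one.resolve_left hC1
    have hxv : x ∈ Subgroup.centralizer ({v} : Set G) := by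
      rw [Subgroup.mem_centralizer_singleton_iff]
      exact mem_cz.1 hvx x (mem_zpowers x)
    have hqx : q ∣ orderOf x := by
      rw [← Nat.card_zpowers, ← hXc]; exact card_dvd_of_le hX
    have ht : IsPi (tau2 K) (zpowers x) := by
      rcases bg14_3 hG hK hv hv1 (hzK (mem_zpowers x)) hxv hx1
        (isPi_zpowers.1 ((hall_isPi hH).le hzD)) with ⟨h, -⟩ | ⟨h, -, -⟩
      · exact absurd hq2 (kappa_not_tau2 hG (h q hq hqx))
      · exact isPi_zpowers.2 h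
    obtain ⟨-, hu⟩ := tau2_uniq_sub hG hK hzK hz1 ht hC1
    refine ⟨hu, hnc, ht, hC1, hi, hH, hs, ?_, hsplit⟩
    intro T hT
    obtain ⟨hNT, -⟩ := bg12_15b hG hM hqM hNK hS hXS
    obtain ⟨m, hm, rfl⟩ := syl_conj hq hS hT
    refine ⟨?_, A ^ᵍ m, cj_mono hAS m, A₀ ^ᵍ m, ?_, ?_⟩
    · rw [nz_cj]
      have := cj_mono hNT m
      rwa [cj_eq_of_mem hm.1] at this
    · refine ⟨c.hM, c.hp, c.ns, ?_, elab_cj c.el m, by rw [card_cj, c.card], cj_mono c.A0 m,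
        by rw [card_cj, c.card0], ?_⟩
      · have := cj_mono c.AM m
        rwa [cj_eq_of_mem hm.2] at this
      · rw [nz_cj]
        have := cj_mono c.nz m
        rwa [cj_eq_of_mem hm.2] at this
    · rw [nz_cj]
      have := cj_mono hNA m
      rwa [cj_eq_of_mem hm.1] at this
  obtain ⟨q, hq, -, X, hX, hXc⟩ := exists_prime_sub hz1
  obtain ⟨K, hK, hNK⟩ := exists_max hG (nz_line_ne_top hG hq hXc)
  obtain ⟨h1, h2, h3, h4, h5, h6, h7, -, h9⟩ := key q X hq hX hXc K hK hNK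
  have hLK : L = K := h1 L hL hxL
  subst hLK
  refine ⟨h1, h2, h3, h4, h5, h6, h7, ?_, h9⟩
  intro q' X' hq' hX' hXc'
  obtain ⟨K, hK, hNK'⟩ := exists_max hG (nz_line_ne_top hG hq' hXc')
  obtain ⟨g1, -, -, -, -, -, -, g8, -⟩ := key q' X' hq' hX' hXc' K hK hNK'
  have hLK : L = K := g1 L hL hxL
  subst hLK
  exact ⟨hNK', g8⟩

end

end CfsgLib.BGPi
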