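import Cfsg.Agent.EqBase
import Cfsg.Agent.LibBG14g

/-! B & G 14.4, 14.5 (continued). -/

open Subgroup
open scoped Pointwise commutatorElement

namespace CfsgLib.BGPi

open Cfsg

universe u

section
variable {G : Type u} [Group G] [Finite G]

theorem compl_of {A B M : Subgroup G} (hA : A ≤ M) (hB : B ≤ M) (h : A ⊓ B = ⊥)
    (hn : A ≤ 𝓝(B) ∨ B ≤ 𝓝(A)) (hs : M ≤ A ⊔ B) : IsComplIn A B M := by
  refine ⟨hA, hB, h, fun m hm => ?_⟩
  have hm' := hs hm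
  rcases hn with hn | hn
  · obtain ⟨a, ha, b, hb, rfl⟩ := (mem_sup_of_nz hn).1 hm'
    exact ⟨a, ha, b, hb, rfl⟩
  · obtain ⟨a, ha, b, hb, rfl⟩ := (mem_sup_of_nz' hn).1 hm'
    exact ⟨a, ha, b, hb, rfl⟩

variable (hG : IsMinSimpleOddOrder G)
include hG

theorem sigmaCore_eq_fittingHallOf {M : Subgroup G} (hM : IsCoatom M)
    (h : Group.IsNilpotent (sigmaCore M)) : sigmaCore M = fittingHallOf M :=
  le_antisymm (sigmaCore_le_fittingHallOf hG hM h) (fittingHallOf_le_sigmaCore hG hM)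

theorem nilp_of_tau2 {M : Subgroup G} (hM : IsCoatom M) {p : ℕ} (hp : p ∈ tau2 M) :
    Group.IsNilpotent (sigmaCore M) := by
  obtain ⟨E, hE⟩ := hall_exists (π := (sigma M)ᶜ) (max_sol hG hM)
  obtain ⟨A, -, A₀, c⟩ := exists_exc_tau2 hG hM hE hp
  exact c.nilp hG

theorem dec_hall {M K U : Subgroup G} (hM : IsCoatom M) (hKU : IsSigmaDecomposition M K U) :
    IsPiHallOf (kappa M)ᶜ (U ⊔ sigmaCore M) M := by
  obtain ⟨hE, hU, hKE, hs⟩ := dec_facts hG hM hKU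
  have hUM : U ≤ M := hKU.compl.1
  have hσM := sigmaCore_le hG hM
  have hle : U ⊔ sigmaCore M ≤ M := sup_le hUM hσM
  refine hall_iff.2 ⟨hle, ?_, ?_⟩
  · refine IsPi.sup (hall_isPi hU) ?_ (hUM.trans (le_nz_sigmaCore hG M))
    have h0 : sigma M ⊆ (kappa M)ᶜ := fun p hp hκ => hκ.2.2.1 hp
    exact IsPi.mono h0 (hall_isPi (sigma_hall hG hM))
  · intro p hp hpκ hd
    have h1 : (U ⊔ sigmaCore M).relIndex M = (U ⊔ sigmaCore M).relIndex K := by
      have h2 : K ⊔ (U ⊔ sigmaCore M) = M := by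
        rw [← sup_assoc, sup_comm K]; exact hs
      calc (U ⊔ sigmaCore M).relIndex M = (U ⊔ sigmaCore M).relIndex (K ⊔ (U ⊔ sigmaCore M)) := by
            rw [h2]
        _ = _ := relIndex_sup_eq ((hall_le hKU.hall).trans (dec_normal hG hM hKU))
    rw [h1] at hd
    exact hpκ (hall_isPi hKU.hall p hp (hd.trans (Subgroup.relIndex_dvd_card _ _)))

theorem bg14_4' {M : Subgroup G} (hM : IsCoatom M) {x : G} (hx : x ∈ sigmaCore M) (hx1 : x ≠ 1)
    (hxM : ¬ Subgroup.centralizer ({x} : Set G) ≤ M) :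
    ∃ N : Subgroup G, (IsCoatom N ∧ Subgroup.centralizer ({x} : Set G) ≤ N) ∧
      (∀ L : Subgroup G, IsCoatom L → Subgroup.centralizer ({x} : Set G) ≤ L → L = N) ∧
        sigmaCore N = fittingHallOf N ∧
        Subgroup.centralizer ({x} : Set G) ≤
          𝓝(sigmaCore N ⊓ Subgroup.centralizer ({x} : Set G)) ∧
        IsComplIn (M ⊓ Subgroup.centralizer ({x} : Set G))
          (sigmaCore N ⊓ Subgroup.centralizer ({x} : Set G))
          (Subgroup.centralizer ({x} : Set G)) ∧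
        IsComplIn (M ⊓ N) (sigmaCore N) N ∧
        ∀ K' U' : Subgroup G, IsSigmaDecomposition N K' U' →
          U' ≠ ⊥ ∧ x ∈ sigmaA N U' ∧ x ∉ sigmaCore N := by
  obtain ⟨L, hL, hxL⟩ := exists_max hG (ms_cz1_ne_top hG hx1)
  obtain ⟨h1, h2, h3, h4, h5, h6, h7, h8, h9⟩ := bg14_4 hG hM hx hx1 hxM hL hxL
  have hz1 : zpowers x ≠ ⊥ := by rwa [Ne, zpowers_eq_bot]
  obtain ⟨q, hq, hqd⟩ := exists_prime_dvd_of_ne_bot hz1
  have hq2 := h3 q hq hqd
  have hnil := nilp_of_tau2 hG hL hq2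
  have hxx : x ∈ Subgroup.centralizer ({x} : Set G) := by
    rw [Subgroup.mem_centralizer_singleton_iff]
  have hnn : Subgroup.centralizer ({x} : Set G) ≤
          𝓝(sigmaCore L ⊓ Subgroup.centralizer ({x} : Set G)) :=
    le_nz_inf (hxL.trans (le_nz_sigmaCore hG L)) le_normalizer
  have hxσ : x ∉ sigmaCore L := by
    intro h
    have h10 : q ∈ sigma L := hall_isPi (sigma_hall hG hL) q hq
      (hqd.trans (card_dvd_of_le (by rwa [zpowers_le])))
    exact hq2.2.1 h10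
  refine ⟨L, ⟨hL, hxL⟩, h1, sigmaCore_eq_fittingHallOf hG hL hnil, hnn, ?_, ?_, ?_⟩
  · refine compl_of inf_le_right inf_le_right ?_ (Or.inl (inf_le_right.trans hnn)) ?_
    · rw [← le_bot_iff, ← h5]
      exact inf_le_inf inf_le_left inf_le_left
    · rw [sup_comm]; exact h9
  · refine compl_of inf_le_right (sigmaCore_le hG hL) ?_
      (Or.inl (inf_le_right.trans (le_nz_sigmaCore hG L))) ?_
    · rw [← le_bot_iff, ← h5]
      exact inf_le_inf inf_le_left le_rfl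
    · rw [sup_comm]; exact h7.ge
  · intro K' U' hKU
    have hH := dec_hall hG hL hKU
    have hxU : x ∈ U' ⊔ sigmaCore L := by
      have h10 := le_hall_of_normal hH (dec_normal hG hL hKU)
        (h3.mono (fun s hs hsκ => kappa_not_tau2 hG hsκ hs) : IsPi (kappa L)ᶜ (zpowers x))
        (by rw [zpowers_le]; exact hxL hxx)
      exact h10 (mem_zpowers x)
    refine ⟨?_, ⟨⟨hxL hxx, ?_⟩, hxU⟩, hxσ⟩
    · rintro rfl
      rw [bot_sup_eq] at hxU
      exact hxσ hxU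
    · obtain ⟨v, ⟨hv, hvx⟩, hv1⟩ :=
        (sigmaCore L ⊓ Subgroup.centralizer ({x} : Set G)).bot_or_exists_ne_one.resolve_left h4
      exact ⟨v, hv, hv1, (Subgroup.mem_centralizer_singleton_iff.1 hvx).symm⟩

/-- transitivity: B & G 14.4 (a) -/
theorem bg14_4_trans {M : Subgroup G} (hM : IsCoatom M) {x : G} (hx : x ∈ sigmaCore M)
    (hx1 : x ≠ 1) {g : G} (hg : x ∈ M ^ᵍ g) :
    ∃ r ∈ Subgroup.centralizer ({x} : Set G), M ^ᵍ r = M ^ᵍ g := by
  have hz1 : zpowers x ≠ ⊥ := by rwa [Ne, zpowers_eq_bot]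
  have hzσ : zpowers x ≤ sigmaCore M := by rwa [zpowers_le]
  have hzM := hzσ.trans (sigmaCore_le hG hM)
  obtain ⟨q, hq, -, X, hX, hXc⟩ := exists_prime_sub hz1
  have hXπ := isPi_of_card_prime hq hXc
  have hXp := hXπ.isPGroup hq
  have hX1 := ne_bot_of_card_prime hq hXc
  have hXM := hX.trans hzM
  have hqM : q ∈ sigma M := hall_isPi (sigma_hall hG hM) q hq
    (by rw [← hXc]; exact card_dvd_of_le (hX.trans hzσ))
  have hzg : zpowers x ≤ M ^ᵍ g := by rwa [zpowers_le]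
  have hXg : X ^ᵍ g⁻¹ ≤ M := by
    rw [← le_cj_iff]; exact hX.trans hzg
  obtain ⟨m, hm, c, hc, hmc⟩ := bg10_1 hG hM hqM hXp hX1 hXM hXg
  have hgM : M ^ᵍ g = M ^ᵍ c⁻¹ := by
    have : g = c⁻¹ * m⁻¹ := by rw [← mul_inv_rev, ← hmc, inv_inv]
    rw [this, cj_mul, cj_eq_of_mem (inv_mem hm)]
  have hc' : c⁻¹ ∈ 𝓒(X) := inv_mem hc
  by_cases hCM : 𝓒(X) ≤ M
  · refine ⟨1, one_mem _, ?_⟩
    rw [hgM, cj_one, cj_eq_of_mem (hCM hc')]
  obtain ⟨K, hK, hNK⟩ := exists_max hG (nz_line_ne_top hG hq hXc)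
  have hCK : 𝓒(X) ≤ K := (cz_le_nz X).trans hNK
  have hne : K ≠ M := fun h => hCM (h ▸ hCK)
  have hnc := bg12_15a hG hM hqM hXp hX1 hXM hne hNK
  have hqK : q ∉ sigma K := fun h => sigma_part hG hM hK hnc hqM h
  have hXK : X ≤ K := le_normalizer.trans hNK
  obtain ⟨S, hS, hXS⟩ := exists_syl_ge hq hXπ (le_inf hXM hXK)
  obtain ⟨A, hAS, A₀, -, -, hH, hi, -, hs⟩ := bg12_15e hG hM hK hqM hne hqK hX1 hNK hS hXS
  have hcK : c⁻¹ ∈ sigmaCore K ⊔ (M ⊓ K) := by rw [hs]; exact hCK hc'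
  obtain ⟨r, hr, d, hd, hrd⟩ := (mem_sup_of_nz'
    (inf_le_right.trans (le_nz_sigmaCore hG K) : M ⊓ K ≤ 𝓝(sigmaCore K))).1 hcK
  have hMr : M ^ᵍ r = M ^ᵍ g := by
    rw [hgM, ← hrd, cj_mul, cj_eq_of_mem hd.1]
  refine ⟨r, ?_, hMr⟩
  -- `r` commutes with `x`
  have hxK : x ∈ K := by
    have h1 : zpowers x ≤ 𝓒(zpowers x) := comm_iff_le_cz.1 (comm_zpowers x)
    exact hCK ((cz_anti hX) (h1 (mem_zpowers x)))
  have h2 : r⁻¹ * x * r ∈ M := by
    have h3 : x ∈ M ^ᵍ r := by rw [hMr]; exact hg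
    exact mem_cj.1 h3
  have h4 : (x⁻¹ * (r⁻¹ * x * r)) ∈ M ⊓ sigmaCore K := by
    refine ⟨mul_mem (M.inv_mem (hzM (mem_zpowers x))) h2, ?_⟩
    have h5 : x⁻¹ * r⁻¹ * x ∈ sigmaCore K := by
      have := le_nz.1 (le_nz_sigmaCore hG K) x⁻¹ (K.inv_mem hxK) r⁻¹ ((sigmaCore K).inv_mem hr)
      rwa [inv_inv] at this
    have h6 := mul_mem h5 hr
    have h7 : x⁻¹ * (r⁻¹ * x * r) = x⁻¹ * r⁻¹ * x * r := by group
    rw [h7]; exact h6
  rw [hi, Subgroup.mem_bot] at h4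
  rw [Subgroup.mem_centralizer_singleton_iff]
  have h8 : r⁻¹ * x * r = x := (inv_mul_eq_one.1 h4).symm
  calc r * x = r * (r⁻¹ * x * r) := by rw [h8]
    _ = x * r := by group

theorem bg14_4'' {M : Subgroup G} (hM : IsCoatom M) {x : G} (hx : x ∈ sigmaCore M) (hx1 : x ≠ 1) :
    (Nat.card ↥(M ⊓ Subgroup.centralizer ({x} : Set G))).Coprime
        ((M ⊓ Subgroup.centralizer ({x} : Set G)).relIndex
          (Subgroup.centralizer ({x} : Set G))) ∧
      ∃ R : Subgroup G, Subgroup.centralizer ({x} : Set G) ≤ 𝓝(R) ∧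
        IsComplIn (M ⊓ Subgroup.centralizer ({x} : Set G)) R
          (Subgroup.centralizer ({x} : Set G)) ∧
        ∀ g : G, x ∈ M ^ᵍ g → ∃! r : G, r ∈ R ∧ M ^ᵍ r = M ^ᵍ g := by
  by_cases hxM : Subgroup.centralizer ({x} : Set G) ≤ M
  · rw [inf_eq_right.2 hxM]
    refine ⟨?_, ⊥, ?_, ?_, ?_⟩
    · rw [Subgroup.relIndex_self]; exact Nat.coprime_one_right _
    · rw [le_nz]
      rintro k - h hh
      rw [Subgroup.mem_bot] at hh ⊢
      rw [hh]; group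
    · exact ⟨le_rfl, bot_le, inf_bot_eq _, fun m hm => ⟨m, hm, 1, one_mem _, (mul_one m).symm⟩⟩
    · intro g hg
      obtain ⟨r, hr, hrg⟩ := bg14_4_trans hG hM hx hx1 hg
      refine ⟨1, ⟨one_mem _, ?_⟩, ?_⟩
      · show M ^ᵍ (1 : G) = M ^ᵍ g
        rw [← hrg, cj_one, cj_eq_of_mem (hxM hr)]
      · rintro y ⟨hy, -⟩
        exact Subgroup.mem_bot.1 hy
  · obtain ⟨L, hL, hxL⟩ := exists_max hG (ms_cz1_ne_top hG hx1)
    obtain ⟨h1, h2, h3, h4, h5, h6, h7, h8, h9⟩ := bg14_4 hG hM hx hx1 hxM hL hxL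
    have hnn : Subgroup.centralizer ({x} : Set G) ≤
            𝓝(sigmaCore L ⊓ Subgroup.centralizer ({x} : Set G)) :=
      le_nz_inf (hxL.trans (le_nz_sigmaCore hG L)) le_normalizer
    have hc : IsComplIn (M ⊓ Subgroup.centralizer ({x} : Set G))
        (sigmaCore L ⊓ Subgroup.centralizer ({x} : Set G))
        (Subgroup.centralizer ({x} : Set G)) := by
      refine compl_of inf_le_right inf_le_right ?_ (Or.inl (inf_le_right.trans hnn)) ?_
      · rw [← le_bot_iff, ← h5]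
        exact inf_le_inf inf_le_left inf_le_left
      · rw [sup_comm]; exact h9
    refine ⟨?_, _, hnn, hc, ?_⟩
    · rw [IsComplIn_relIndex hc]
      refine (IsPi.coprime (π := sigma L) ((hall_isPi (sigma_hall hG hL)).le inf_le_left) ?_).symm
      exact (hall_isPi h6).le (le_inf inf_le_left (inf_le_right.trans hxL))
    · intro g hg
      obtain ⟨c, hcx, hcg⟩ := bg14_4_trans hG hM hx hx1 hg
      obtain ⟨r, hr, d, hd, hrd⟩ := (mem_sup_of_nz'
        (inf_le_right.trans hnn : M ⊓ Subgroup.centralizer ({x} : Set G) ≤ _)).1 (h9 hcx)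
      have hrg : M ^ᵍ r = M ^ᵍ g := by
        rw [← hcg, ← hrd, cj_mul, cj_eq_of_mem hd.1]
      refine ⟨r, ⟨hr, hrg⟩, ?_⟩
      rintro y ⟨hy, hyg⟩
      have h10 : M ^ᵍ (r⁻¹ * y) = M := by
        have hyg' : M ^ᵍ y = M ^ᵍ g := hyg
        rw [cj_mul, hyg', ← hrg, cj_inv_cj]
      have h11 : r⁻¹ * y ∈ M ⊓ sigmaCore L :=
        ⟨coatom_cj_le hG hM h10, mul_mem ((sigmaCore L).inv_mem hr.1) hy.1⟩
      rw [h5, Subgroup.mem_bot] at h11
      exact (inv_mul_eq_one.1 h11).symm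

end

end CfsgLib.BGPi
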