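import Cfsg.Agent.EqBase
import Cfsg.Agent.LibBG14h

/-! B & G 14.5: disjointness of the cosets `x R(x)`. -/

open Subgroup
open scoped Pointwise commutatorElement

namespace CfsgLib.BGPi

open Cfsg

universe u

section
variable {G : Type u} [Group G] [Finite G]

theorem mem_zpowers_mul_of_coprime {x r : G} (h : Commute x r)
    (hc : (orderOf x).Coprime (orderOf r)) : x ∈ zpowers (x * r) := by
  have h1 : (x * r) ^ orderOf r = x ^ orderOf r := by
    rw [h.mul_pow, pow_orderOf_eq_one, mul_one]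
  have h2 : x ^ orderOf r ∈ zpowers (x * r) := by
    rw [← h1]; exact pow_mem (mem_zpowers _) _
  obtain ⟨m, hm⟩ := exists_pow_eq_self_of_coprime (n := orderOf r) (x := x) hc.symm
  have h3 := pow_mem h2 m
  rwa [hm] at h3

/-- if `x r = y s` with `x, y` of `π`-order and `r, s` of `π'`-order, each pair commuting,
then `x = y` -/
theorem pi_parts {π : Set ℕ} {x r y s : G} (hx : IsPi π (zpowers x)) (hy : IsPi π (zpowers y))
    (hr : IsPi πᶜ (zpowers r)) (hs : IsPi πᶜ (zpowers s)) (h1 : Commute x r) (h2 : Commute y s)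
    (h : x * r = y * s) : x = y ∧ r = s := by
  have c1 : (orderOf x).Coprime (orderOf r) := by
    rw [← Nat.card_zpowers, ← Nat.card_zpowers]; exact hx.coprime hr
  have c2 : (orderOf y).Coprime (orderOf s) := by
    rw [← Nat.card_zpowers, ← Nat.card_zpowers]; exact hy.coprime hs
  have c3 : (orderOf x).Coprime (orderOf s) := by
    rw [← Nat.card_zpowers, ← Nat.card_zpowers]; exact hx.coprime hs
  have c4 : (orderOf y).Coprime (orderOf r) := by
    rw [← Nat.card_zpowers, ← Nat.card_zpowers]; exact hy.coprime hr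
  set g := x * r with hg
  have mx : x ∈ zpowers g := mem_zpowers_mul_of_coprime h1 c1
  have my : y ∈ zpowers g := by rw [h]; exact mem_zpowers_mul_of_coprime h2 c2
  have mr : r ∈ zpowers g := by
    have := mul_mem ((zpowers g).inv_mem mx) (mem_zpowers g)
    rwa [hg, inv_mul_cancel_left] at this
  have ms : s ∈ zpowers g := by
    have h0 := mul_mem ((zpowers g).inv_mem my) (mem_zpowers g)
    have h0' : y⁻¹ * g = s := by rw [h]; group
    rwa [h0'] at h0
  have comm : ∀ a ∈ zpowers g, ∀ b ∈ zpowers g, Commute a b := by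
    rintro a ⟨i, rfl⟩ b ⟨j, rfl⟩
    exact (Commute.refl g).zpow_zpow i j
  have e1 : y⁻¹ * x = s * r⁻¹ := by
    have : x = y * s * r⁻¹ := by rw [← h, hg]; group
    rw [this]; group
  set t := y⁻¹ * x with ht
  have o1 : t ^ (orderOf y * orderOf x) = 1 := by
    rw [ht, (comm _ ((zpowers g).inv_mem my) _ mx).mul_pow, inv_pow, pow_mul, pow_orderOf_eq_one,
      one_pow, inv_one, one_mul, mul_comm, pow_mul, pow_orderOf_eq_one, one_pow]
  have o2 : t ^ (orderOf s * orderOf r) = 1 := by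
    rw [e1, (comm _ ms _ ((zpowers g).inv_mem mr)).mul_pow, inv_pow, pow_mul, pow_orderOf_eq_one,
      one_pow, one_mul, mul_comm (orderOf s), pow_mul, pow_orderOf_eq_one, one_pow, inv_one]
  have o3 : orderOf t ∣ Nat.gcd (orderOf y * orderOf x) (orderOf s * orderOf r) :=
    Nat.dvd_gcd (orderOf_dvd_of_pow_eq_one o1) (orderOf_dvd_of_pow_eq_one o2)
  have o4 : (orderOf y * orderOf x).Coprime (orderOf s * orderOf r) :=
    Nat.Coprime.mul_left (Nat.Coprime.mul_right c2 c4) (Nat.Coprime.mul_right c3 c1)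
  rw [o4] at o3
  have ht1 : t = 1 := orderOf_eq_one_iff.1 (Nat.dvd_one.1 o3)
  refine ⟨(inv_mul_eq_one.1 ht1).symm, ?_⟩
  rw [e1] at ht1
  exact (mul_inv_eq_one.1 ht1).symm

variable (hG : IsMinSimpleOddOrder G)
include hG

theorem cross {L L' X Y : Subgroup G} (hL : IsCoatom L) (hL' : IsCoatom L') {p q : ℕ}
    (hp : p ∈ tau2 L) (hq : q ∈ tau2 L') (hqL : q ∈ sigma L)
    (hY : Nat.card Y = q) (hYL : Y ≤ sigmaCore L) (hCY : 𝓒(Y) ≤ L')
    (hX1 : X ≠ ⊥) (hXL' : X ≤ sigmaCore L') (hXL : X ≤ L) (hXY : X ≤ 𝓒(Y)) : False := by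
  have hqp := hq.1
  have hYπ := isPi_of_card_prime hqp hY
  obtain ⟨E, hE⟩ := hall_exists (π := (sigma L)ᶜ) (max_sol hG hL)
  obtain ⟨A, -, A₀, c⟩ := exists_exc_tau2 hG hL hE hp
  have hQ := c.hall hG hqL
  set Q := piCoreOf {q} (sigmaCore L) with hQd
  have hLQ : L ≤ 𝓝(Q) := (le_nz_sigmaCore hG L).trans (nz_le_nz_piCoreOf _ _)
  have hYQ : Y ≤ Q := le_hall_of_normal hQ hLQ hYπ (hYL.trans (sigmaCore_le hG hL))
  have hQp := (hall_isPi hQ).isPGroup hqp
  have hQt := sigma_syl hqL hQ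
  have hqodd := ms_p2' hG hqp (by rw [hY] : q ∣ Nat.card Y)
  -- `Q` is not cyclic
  have hQnc : ¬ IsCyclic Q := by
    intro h
    obtain ⟨F, hF⟩ := hall_exists (π := (sigma L')ᶜ) (max_sol hG hL')
    obtain ⟨B, hBF, B₀, c'⟩ := exists_exc_tau2 hG hL' hF hq
    obtain ⟨g, -, hg⟩ := syl_subj hqp hQt (elab_isPi hqp c'.el) le_top
    have h1 := rank_iff.1 (rank1_of_cyclic hqp h) (B ^ᵍ g) hg (elab_cj c'.el g)
    rw [card_cj, c'.card, pow_one] at h1
    have h2 : q < q ^ 2 := p_lt_p2 hqp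
    omega
  obtain ⟨v, hv, hvq⟩ := exists_gen_prime hqp hY
  have hv1 : v ≠ 1 := by
    rintro rfl
    rw [zpowers_one_eq_bot] at hv
    exact ne_bot_of_card_prime hqp hY hv
  have hTnc := cz1_nc hqp hQp hQnc (hYQ (by rw [hv]; exact mem_zpowers v)) hv1 hvq
  rw [← cz_gen hv] at hTnc
  set T := Q ⊓ 𝓒(Y) with hT
  have hTp : IsPGroup q T := hQp.to_le inf_le_left
  have hTL' : T ≤ L' := inf_le_right.trans hCY
  obtain ⟨B, hBT, hB, hBc⟩ := exists_elab2 hqp hqodd hTp hTnc
  obtain ⟨B₀, c'⟩ := exists_exc hG hL' hqp hq.2.1 (hBT.trans hTL') hB hBc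
  have hTab := pgroup_ab hG hL' hqp hq.2.1 hTL' (isPi_of_isPGroup hqp hTp)
  have hXT : X ≤ 𝓝(T) := le_nz_inf (hXL.trans hLQ)
    (hXY.trans ((cz_le_nz Y).trans (nz_le_nz_cz Y)))
  have hXB : X ≤ 𝓝(B) := hXT.trans ((c'.e2 hG).nz hBT hTab)
  have h1 : X ≤ 𝓒(B) := by
    rw [← comm_eq_bot_iff, eq_bot_iff, ← cop_inf (c'.cop hG)]
    refine le_inf (comm_le_right hXB) ?_
    exact (commutator_mono hXL' le_rfl).trans (comm_le_left (c'.act hG))
  apply hX1
  rw [← le_bot_iff, ← c'.inf_cz hG]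
  exact le_inf hXL' h1

theorem supportR_of_le {M : Subgroup G} {x : G}
    (h : Subgroup.centralizer ({x} : Set G) ≤ M) : supportR M x = ⊥ := by
  rw [supportR, dif_neg]
  exact fun h' => h'.1 h

theorem supportR_of_not {M L : Subgroup G} (hM : IsCoatom M) {x : G} (hx : x ∈ sigmaCore M)
    (hx1 : x ≠ 1) (hxM : ¬ Subgroup.centralizer ({x} : Set G) ≤ M) (hL : IsCoatom L)
    (hxL : Subgroup.centralizer ({x} : Set G) ≤ L) :
    supportR M x = sigmaCore L ⊓ Subgroup.centralizer ({x} : Set G) := by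
  obtain ⟨N, ⟨hN, hxN⟩, hu, hF, -⟩ := bg14_4' hG hM hx hx1 hxM
  have hex : ∃! L : Subgroup G, IsCoatom L ∧ Subgroup.centralizer ({x} : Set G) ≤ L :=
    ⟨N, ⟨hN, hxN⟩, fun K hK => hu K hK.1 hK.2⟩
  rw [supportR, dif_pos ⟨hxM, hex⟩]
  have hch := Classical.choose_spec hex.exists
  have h1 : Classical.choose hex.exists = N := hu _ hch.1 hch.2
  have h2 : L = N := hu L hL hxL
  rw [h2, hF]
  congr 1
  exact congrArg fittingHallOf h1

theorem supportR_facts {M : Subgroup G} (hM : IsCoatom M) {x r : G} (hx : x ∈ sigmaCore M)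
    (hx1 : x ≠ 1) (hr : r ∈ supportR M x) :
    r = 1 ∨ ∃ L : Subgroup G, IsCoatom L ∧ (∀ g : G, L ≠ M ^ᵍ g) ∧ IsPi (tau2 L) (zpowers x) ∧
      r ∈ sigmaCore L ∧ Commute x r ∧ Subgroup.centralizer ({x} : Set G) ≤ L := by
  by_cases hxM : Subgroup.centralizer ({x} : Set G) ≤ M
  · left
    rw [supportR_of_le hG hxM] at hr
    exact Subgroup.mem_bot.1 hr
  · right
    obtain ⟨L, hL, hxL⟩ := exists_max hG (ms_cz1_ne_top hG hx1)
    obtain ⟨-, h2, h3, -⟩ := bg14_4 hG hM hx hx1 hxM hL hxL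
    rw [supportR_of_not hG hM hx hx1 hxM hL hxL] at hr
    exact ⟨L, hL, h2, h3, hr.1, (Subgroup.mem_centralizer_singleton_iff.1 hr.2).symm, hxL⟩

theorem ord_sigma {M : Subgroup G} (hM : IsCoatom M) {x : G} (hx : x ∈ sigmaCore M) :
    IsPi (sigma M) (zpowers x) :=
  (hall_isPi (sigma_hall hG hM)).le (by rwa [zpowers_le])

theorem supp_disj1 {M N L : Subgroup G} (hM : IsCoatom M) (hN : IsCoatom N) (hL : IsCoatom L)
    {x y r : G} (hx : x ∈ sigmaCore M) (hy : y ∈ sigmaCore N) (hx1 : x ≠ 1)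
    (hnc : ∀ g : G, L ≠ M ^ᵍ g) (ht : IsPi (tau2 L) (zpowers x)) (hr : r ∈ sigmaCore L)
    (hr1 : r ≠ 1) (hxr : Commute x r) (h : x * r = y) : False := by
  have c1 : (orderOf x).Coprime (orderOf r) := by
    rw [← Nat.card_zpowers, ← Nat.card_zpowers]
    exact ((ord_sigma hG hL hr).coprime (ht.mono (tau2_sub hG))).symm
  have ho : orderOf y = orderOf x * orderOf r := by
    rw [← h, hxr.orderOf_mul_eq_mul_orderOf_of_coprime c1]
  have hox : orderOf x ≠ 1 := fun h => hx1 (orderOf_eq_one_iff.1 h)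
  have hor : orderOf r ≠ 1 := fun h => hr1 (orderOf_eq_one_iff.1 h)
  obtain ⟨a, ha, hax⟩ := Nat.exists_prime_and_dvd hox
  obtain ⟨b, hb, hbr⟩ := Nat.exists_prime_and_dvd hor
  have haM := isPi_zpowers.1 (ord_sigma hG hM hx) a ha hax
  have haN := isPi_zpowers.1 (ord_sigma hG hN hy) a ha (by rw [ho]; exact Dvd.dvd.mul_right hax _)
  have hbL := isPi_zpowers.1 (ord_sigma hG hL hr) b hb hbr
  have hbN := isPi_zpowers.1 (ord_sigma hG hN hy) b hb (by rw [ho]; exact Dvd.dvd.mul_left hbr _)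
  obtain ⟨g, hg⟩ := sigma_conj_of hG hM hN ⟨a, haM, haN⟩
  obtain ⟨k, hk⟩ := sigma_conj_of hG hN hL ⟨b, hbN, hbL⟩
  refine hnc (k * g) ?_
  rw [cj_mul, ← hg, ← hk]

theorem sigma_disj' {M N : Subgroup G} (hM : IsCoatom M) (hN : IsCoatom N)
    (hnc : ∀ g : G, N ≠ M ^ᵍ g) : sigma N ⊆ (sigma M)ᶜ := fun _ hp hpM =>
  sigma_part hG hM hN hnc hpM hp

/-- B & G 14.5 -/
theorem supp_disj {M N : Subgroup G} (hM : IsCoatom M) (hN : IsCoatom N) {x y r s : G}
    (hx : x ∈ sigmaCore M) (hy : y ∈ sigmaCore N) (hx1 : x ≠ 1) (hy1 : y ≠ 1) (hxy : x ≠ y)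
    (hr : r ∈ supportR M x) (hs : s ∈ supportR N y) : x * r ≠ y * s := by
  intro h
  rcases supportR_facts hG hM hx hx1 hr with hr1 | ⟨L, hL, hnc, ht, hrL, hxr, hxL⟩
  · rcases supportR_facts hG hN hy hy1 hs with hs1 | ⟨L', hL', hnc', ht', hsL, hys, hyL⟩
    · rw [hr1, hs1, mul_one, mul_one] at h
      exact hxy h
    · rw [hr1, mul_one] at h
      by_cases hs1 : s = 1
      · rw [hs1, mul_one] at h
        exact hxy h
      · exact supp_disj1 hG hN hM hL' hy hx hy1 hnc' ht' hsL hs1 hys h.symm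
  · by_cases hr1 : r = 1
    · rw [hr1, mul_one] at h
      rcases supportR_facts hG hN hy hy1 hs with hs1 | ⟨L', hL', hnc', ht', hsL, hys, hyL⟩
      · rw [hs1, mul_one] at h
        exact hxy h
      · by_cases hs1 : s = 1
        · rw [hs1, mul_one] at h
          exact hxy h
        · exact supp_disj1 hG hN hM hL' hy hx hy1 hnc' ht' hsL hs1 hys h.symm
    rcases supportR_facts hG hN hy hy1 hs with hs1 | ⟨L', hL', hnc', ht', hsL, hys, hyL⟩
    · rw [hs1, mul_one] at h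
      exact supp_disj1 hG hM hN hL hx hy hx1 hnc ht hrL hr1 hxr h
    by_cases hs1 : s = 1
    · rw [hs1, mul_one] at h
      exact supp_disj1 hG hM hN hL hx hy hx1 hnc ht hrL hr1 hxr h
    have c1 : (orderOf x).Coprime (orderOf r) := by
      rw [← Nat.card_zpowers, ← Nat.card_zpowers]
      exact ((ord_sigma hG hL hrL).coprime (ht.mono (tau2_sub hG))).symm
    have c2 : (orderOf y).Coprime (orderOf s) := by
      rw [← Nat.card_zpowers, ← Nat.card_zpowers]
      exact ((ord_sigma hG hL' hsL).coprime (ht'.mono (tau2_sub hG))).symm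
    have ho : orderOf x * orderOf r = orderOf y * orderOf s := by
      rw [← hxr.orderOf_mul_eq_mul_orderOf_of_coprime c1, h,
        hys.orderOf_mul_eq_mul_orderOf_of_coprime c2]
    have hox : orderOf x ≠ 1 := fun h => hx1 (orderOf_eq_one_iff.1 h)
    obtain ⟨a, ha, hax⟩ := Nat.exists_prime_and_dvd hox
    have haM := isPi_zpowers.1 (ord_sigma hG hM hx) a ha hax
    have had : a ∣ orderOf y * orderOf s := by rw [← ho]; exact Dvd.dvd.mul_right hax _
    have hrM : IsPi (sigma M)ᶜ (zpowers r) := (ord_sigma hG hL hrL).mono (sigma_disj' hG hM hL hnc)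
    rcases (Nat.Prime.dvd_mul ha).1 had with hay | has
    · have haN := isPi_zpowers.1 (ord_sigma hG hN hy) a ha hay
      obtain ⟨g, hg⟩ := sigma_conj_of hG hM hN ⟨a, haM, haN⟩
      have hσ : sigma N = sigma M := by rw [hg, sigma_cj]
      have hsM : IsPi (sigma M)ᶜ (zpowers s) := by
        rw [← hσ]
        exact (ord_sigma hG hL' hsL).mono (sigma_disj' hG hN hL' hnc')
      exact hxy (pi_parts (ord_sigma hG hM hx) (hσ ▸ ord_sigma hG hN hy) hrM hsM hxr hys h).1
    · have haL := isPi_zpowers.1 (ord_sigma hG hL' hsL) a ha has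
      obtain ⟨g, hg⟩ := sigma_conj_of hG hM hL' ⟨a, haM, haL⟩
      have hσ : sigma L' = sigma M := by rw [hg, sigma_cj]
      have hyM : IsPi (sigma M)ᶜ (zpowers y) := by
        have h0 : sigma N ⊆ (sigma M)ᶜ := fun p hp hpM => by
          rw [← hσ] at hpM
          exact sigma_part hG hN hL' hnc' hp hpM
        exact IsPi.mono h0 (ord_sigma hG hN hy)
      obtain ⟨e1, e2⟩ := pi_parts (ord_sigma hG hM hx) (hσ ▸ ord_sigma hG hL' hsL) hrM hyM hxr
        hys.symm (by rw [h, hys.eq])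
      subst e1
      subst e2
      have hz1 : zpowers x ≠ ⊥ := by rwa [Ne, zpowers_eq_bot]
      have hy1' : zpowers r ≠ ⊥ := by rwa [Ne, zpowers_eq_bot]
      obtain ⟨q, hq, hqd, Y, hY, hYc⟩ := exists_prime_sub hy1'
      have hqt := ht' q hq hqd
      have hrL' : zpowers r ≤ L' := by
        rw [zpowers_le]
        exact hyL (by rw [Subgroup.mem_centralizer_singleton_iff])
      have hrC : zpowers x ≤ 𝓒(zpowers r) := by
        rw [zpowers_le, cz_zpowers, Subgroup.mem_centralizer_singleton_iff]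
        exact hxr.eq
      have hXσ : zpowers x ≤ sigmaCore L' := by rwa [zpowers_le]
      have hXY : zpowers x ≤ 𝓒(Y) := hrC.trans (cz_anti hY)
      obtain ⟨h1, -⟩ := tau2_uniq' hG hL' hqt (hY.trans hrL') hYc
        (fun h0 => hz1 (le_bot_iff.1 (h0 ▸ le_inf hXσ hXY)))
      have hqL : q ∈ sigma L := ord_sigma hG hL hrL q hq hqd
      exact cross hG hL hL' (ht a ha (by rwa [Nat.card_zpowers])) hqt hqL hYc
        (hY.trans (by rwa [zpowers_le])) h1 hz1 hXσ
        (by rw [zpowers_le]; exact hxL (by rw [Subgroup.mem_centralizer_singleton_iff])) hXY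

end

end CfsgLib.BGPi
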