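import Cfsg.Agent.EqBase
import Cfsg.Agent.LibBG14i

/-! B & G 14.6: counting. -/

open Subgroup
open scoped Pointwise commutatorElement

namespace CfsgLib.BGPi

open Cfsg

universe u

section
variable {G : Type u} [Group G] [Finite G]

/-- counting the conjugates of a `TI`-set -/
theorem ti_count {T : Set G} {W : Subgroup G} (h1 : ∀ w ∈ W, ∀ t ∈ T, w * t * w⁻¹ ∈ T)
    (h2 : ∀ g t : G, t ∈ T → g * t * g⁻¹ ∈ T → g ∈ W) :
    Set.ncard {a : G | ∃ g : G, ∃ t ∈ T, a = g * t * g⁻¹} * Nat.card W = T.ncard * Nat.card G := by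
  set C : Set G := {a : G | ∃ g : G, ∃ t ∈ T, a = g * t * g⁻¹} with hC
  have hch : ∀ u : C, ∃ p : G × G, p.2 ∈ T ∧ (u : G) = p.1 * p.2 * p.1⁻¹ := by
    rintro ⟨u, g, t, ht, rfl⟩
    exact ⟨(g, t), ht, rfl⟩
  choose f hf1 hf2 using hch
  have hw : ∀ (u : C) (w : W), (w : G)⁻¹ * (f u).2 * w ∈ T := by
    intro u w
    have := h1 (w : G)⁻¹ (W.inv_mem w.2) _ (hf1 u)
    rwa [inv_inv] at this
  let φ : C × W → G × T := fun p => ((f p.1).1 * p.2, ⟨_, hw p.1 p.2⟩)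
  have hφ : Function.Bijective φ := by
    constructor
    · rintro ⟨u, w⟩ ⟨u', w'⟩ h
      have e1 : (f u).1 * (w : G) = (f u').1 * (w' : G) := congrArg Prod.fst h
      have e2 : (w : G)⁻¹ * (f u).2 * w = (w' : G)⁻¹ * (f u').2 * w' :=
        congrArg (fun p : G × T => (p.2 : G)) h
      have e3 : (u : G) = u' := by
        rw [hf2 u, hf2 u']
        calc (f u).1 * (f u).2 * (f u).1⁻¹
            = ((f u).1 * w) * ((w : G)⁻¹ * (f u).2 * w) * ((f u).1 * w)⁻¹ := by group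
          _ = ((f u').1 * w') * ((w' : G)⁻¹ * (f u').2 * w') * ((f u').1 * w')⁻¹ := by rw [e1, e2]
          _ = (f u').1 * (f u').2 * (f u').1⁻¹ := by group
      have e4 : u = u' := Subtype.ext e3
      subst e4
      have e5 : (w : G) = w' := mul_left_cancel e1
      rw [Subtype.ext e5]
    · rintro ⟨g, t, ht⟩
      let u : C := ⟨g * t * g⁻¹, g, t, ht, rfl⟩
      have hu : g * t * g⁻¹ = (f u).1 * (f u).2 * (f u).1⁻¹ := hf2 u
      have hwW : (f u).1⁻¹ * g ∈ W := by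
        refine h2 _ t ht ?_
        have : (f u).1⁻¹ * g * t * ((f u).1⁻¹ * g)⁻¹ = (f u).2 := by
          calc (f u).1⁻¹ * g * t * ((f u).1⁻¹ * g)⁻¹ = (f u).1⁻¹ * (g * t * g⁻¹) * (f u).1 := by
                group
            _ = (f u).2 := by rw [hu]; group
        rw [this]
        exact hf1 u
      refine ⟨(u, ⟨_, hwW⟩), ?_⟩
      refine Prod.ext ?_ (Subtype.ext ?_)
      · show (f u).1 * ((f u).1⁻¹ * g) = g
        group
      · show ((f u).1⁻¹ * g)⁻¹ * (f u).2 * ((f u).1⁻¹ * g) = t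
        calc ((f u).1⁻¹ * g)⁻¹ * (f u).2 * ((f u).1⁻¹ * g)
            = g⁻¹ * ((f u).1 * (f u).2 * (f u).1⁻¹) * g := by group
          _ = t := by rw [← hu]; group
  have h3 := Nat.card_congr (Equiv.ofBijective φ hφ)
  rw [Nat.card_prod, Nat.card_prod] at h3
  rw [← Nat.card_coe_set_eq, ← Nat.card_coe_set_eq, h3, mul_comm]

variable (hG : IsMinSimpleOddOrder G)
include hG

theorem supportR_indep {M N : Subgroup G} (hM : IsCoatom M) (hN : IsCoatom N) {x : G}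
    (hxM : x ∈ sigmaCore M) (hxN : x ∈ sigmaCore N) (hx1 : x ≠ 1) :
    supportR M x = supportR N x := by
  have hz1 : zpowers x ≠ ⊥ := by rwa [Ne, zpowers_eq_bot]
  obtain ⟨p, hp, hd⟩ := exists_prime_dvd_of_ne_bot hz1
  obtain ⟨g, rfl⟩ := sigma_conj_of hG hM hN ⟨p, ord_sigma hG hM hxM p hp hd,
    ord_sigma hG hN hxN p hp hd⟩
  obtain ⟨r, hr, hrg⟩ := bg14_4_trans hG hM hxM hx1 (sigmaCore_le hG hN hxN)
  have hxx : x ∈ Subgroup.centralizer ({x} : Set G) := by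
    rw [Subgroup.mem_centralizer_singleton_iff]
  by_cases h : Subgroup.centralizer ({x} : Set G) ≤ M
  · have : M ^ᵍ g = M := by rw [← hrg, cj_eq_of_mem (h hr)]
    rw [this]
  · have h' : ¬ Subgroup.centralizer ({x} : Set G) ≤ M ^ᵍ g := by
      intro h'
      apply h
      rw [← hrg, le_cj_iff, cj_eq_of_mem (Subgroup.inv_mem _ hr)] at h'
      exact h'
    obtain ⟨L, hL, hxL⟩ := exists_max hG (ms_cz1_ne_top hG hx1)
    rw [supportR_of_not hG hM hxM hx1 h hL hxL, supportR_of_not hG hN hxN hx1 h' hL hxL]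

theorem mem_cj' {H : Subgroup G} {g x : G} : g * x * g⁻¹ ∈ H ^ᵍ g ↔ x ∈ H := by
  rw [mem_cj]
  have : g⁻¹ * (g * x * g⁻¹) * g = x := by group
  rw [this]

theorem cz1_cj (g x : G) : Subgroup.centralizer ({g * x * g⁻¹} : Set G) =
    (Subgroup.centralizer ({x} : Set G)) ^ᵍ g := by
  ext y
  rw [mem_cj, Subgroup.mem_centralizer_singleton_iff, Subgroup.mem_centralizer_singleton_iff]
  constructor
  · intro h
    calc g⁻¹ * y * g * x = g⁻¹ * (y * (g * x * g⁻¹)) * g := by group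
      _ = x * (g⁻¹ * y * g) := by rw [h]; group
  · intro h
    calc y * (g * x * g⁻¹) = g * (g⁻¹ * y * g * x) * g⁻¹ := by group
      _ = g * x * g⁻¹ * y := by rw [h]; group

theorem supportR_cj {M : Subgroup G} (hM : IsCoatom M) {x : G}
    (hxM : x ∈ sigmaCore M) (hx1 : x ≠ 1) (g : G) :
    supportR (M ^ᵍ g) (g * x * g⁻¹) = (supportR M x) ^ᵍ g := by
  have hMg := coatom_cj hM g
  have hx' : g * x * g⁻¹ ∈ sigmaCore (M ^ᵍ g) := by
    rw [sigmaCore_cj]; exact (mem_cj' hG).2 hxM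
  have hx1' : g * x * g⁻¹ ≠ 1 := fun h => hx1 (conj_eq_one_iff.1 h)
  by_cases h : Subgroup.centralizer ({x} : Set G) ≤ M
  · rw [supportR_of_le hG h, supportR_of_le hG, cj_bot]
    rw [cz1_cj hG, cj_le_cj]
    exact h
  · have h' : ¬ Subgroup.centralizer ({g * x * g⁻¹} : Set G) ≤ M ^ᵍ g := by
      rw [cz1_cj hG, cj_le_cj]; exact h
    obtain ⟨L, hL, hxL⟩ := exists_max hG (ms_cz1_ne_top hG hx1)
    have hLg := coatom_cj hL g
    rw [supportR_of_not hG hM hxM hx1 h hL hxL, supportR_of_not hG hMg hx' hx1' h' hLg (by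
      rw [cz1_cj hG, cj_le_cj]; exact hxL), sigmaCore_cj, cz1_cj hG, cj_inf]

/-- the elements of `tilde M` -/
theorem mem_tilde {M : Subgroup G} (hM : IsCoatom M) {u : G} :
    u ∈ tildeOf M ((sigmaCore M : Set G) \ {1}) ↔ ∃ N : Subgroup G, (∃ g : G, N = M ^ᵍ g) ∧
      ∃ x ∈ sigmaCore N, x ≠ 1 ∧ ∃ r ∈ supportR N x, u = x * r := by
  constructor
  · rintro ⟨a, ⟨ha, ha1⟩, r, hr, y, rfl⟩
    refine ⟨M ^ᵍ y, ⟨y, rfl⟩, y * a * y⁻¹, ?_, fun h => ha1 (conj_eq_one_iff.1 h), y * r * y⁻¹, ?_, ?_⟩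
    · rw [sigmaCore_cj]; exact (mem_cj' hG).2 ha
    · rw [supportR_cj hG hM ha (fun h => ha1 h)]
      exact (mem_cj' hG).2 hr
    · group
  · rintro ⟨_, ⟨g, rfl⟩, x, hx, hx1, r, hr, rfl⟩
    have hx' : g⁻¹ * x * g ∈ sigmaCore M := by
      rw [sigmaCore_cj] at hx
      exact mem_cj.1 hx
    have hx1' : g⁻¹ * x * g ≠ 1 := by
      intro h
      apply hx1
      calc x = g * (g⁻¹ * x * g) * g⁻¹ := by group
        _ = 1 := by rw [h]; group
    have hr' : g⁻¹ * r * g ∈ supportR M (g⁻¹ * x * g) := by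
      have h1 := supportR_cj hG hM hx' hx1' g
      have h2 : g * (g⁻¹ * x * g) * g⁻¹ = x := by group
      rw [h2] at h1
      rw [h1] at hr
      exact mem_cj.1 hr
    exact ⟨g⁻¹ * x * g, ⟨hx', hx1'⟩, g⁻¹ * r * g, hr', g, by group⟩

theorem tilde_disj {M N : Subgroup G} (hM : IsCoatom M) (hN : IsCoatom N)
    (hnc : ∀ g : G, N ≠ M ^ᵍ g) : Disjoint (tildeOf M ((sigmaCore M : Set G) \ {1}))
      (tildeOf N ((sigmaCore N : Set G) \ {1})) := by
  rw [Set.disjoint_left]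
  intro u h1 h2
  obtain ⟨M', ⟨g, rfl⟩, x, hx, hx1, r, hr, hu⟩ := (mem_tilde hG hM).1 h1
  obtain ⟨N', ⟨k, rfl⟩, y, hy, hy1, s, hs, hu'⟩ := (mem_tilde hG hN).1 h2
  have hM' := coatom_cj hM g
  have hN' := coatom_cj hN k
  by_cases hxy : x = y
  · subst hxy
    have hz1 : zpowers x ≠ ⊥ := by rwa [Ne, zpowers_eq_bot]
    obtain ⟨p, hp, hd⟩ := exists_prime_dvd_of_ne_bot hz1
    have e1 := ord_sigma hG hM' hx p hp hd
    have e2 := ord_sigma hG hN' hy p hp hd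
    rw [sigma_cj] at e1 e2
    exact sigma_part hG hM hN hnc e1 e2
  · exact supp_disj hG hM' hN' hx hy hx1 hy1 hxy hr hs (by rw [← hu, ← hu'])

/-- `Ω(M)` -/
theorem om_card {M : Subgroup G} (hM : IsCoatom M) :
    Nat.card {p : G × Subgroup G // (∃ g : G, p.2 = M ^ᵍ g) ∧ p.1 ∈ sigmaCore p.2 ∧ p.1 ≠ 1} =
      (Nat.card (sigmaCore M) - 1) * M.index := by
  let D := {a : G // a ∈ sigmaCore M ∧ a ≠ 1}
  let Ω := {p : G × Subgroup G // (∃ g : G, p.2 = M ^ᵍ g) ∧ p.1 ∈ sigmaCore p.2 ∧ p.1 ≠ 1}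
  have hD : Nat.card D = Nat.card (sigmaCore M) - 1 := by
    have h1 : Nat.card D = Set.ncard ((sigmaCore M : Set G) \ {1}) := by
      rw [← Nat.card_coe_set_eq]
      rfl
    rw [h1, Set.ncard_diff_singleton_of_mem (one_mem _), ← Nat.card_coe_set_eq]
    rfl
  let ψ : (G ⧸ M) × D → Ω := fun p => ⟨(p.1.out * p.2.1 * p.1.out⁻¹, M ^ᵍ p.1.out), ⟨_, rfl⟩, by
    show p.1.out * p.2.1 * p.1.out⁻¹ ∈ sigmaCore (M ^ᵍ p.1.out)
    rw [sigmaCore_cj]; exact (mem_cj' hG).2 p.2.2.1, fun h => p.2.2.2 (conj_eq_one_iff.1 h)⟩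
  have hψ : Function.Bijective ψ := by
    constructor
    · rintro ⟨q, a⟩ ⟨q', a'⟩ h
      have e1 : q.out * a.1 * q.out⁻¹ = q'.out * a'.1 * q'.out⁻¹ :=
        congrArg (fun p : Ω => p.1.1) h
      have e2 : M ^ᵍ q.out = M ^ᵍ q'.out := congrArg (fun p : Ω => p.1.2) h
      have e3 : q.out⁻¹ * q'.out ∈ M := by
        refine coatom_cj_le hG hM ?_
        rw [cj_mul, ← e2, cj_inv_cj]
      have e4 : q = q' := by
        have := QuotientGroup.eq.2 e3
        rwa [QuotientGroup.out_eq', QuotientGroup.out_eq'] at this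
      subst e4
      have e5 : a.1 = a'.1 := by
        have := mul_right_cancel e1
        exact mul_left_cancel this
      rw [Subtype.ext e5]
    · rintro ⟨⟨x, N⟩, ⟨g, hg⟩, hx, hx1⟩
      have hg' : N = M ^ᵍ g := hg
      subst hg'
      have hx' : x ∈ sigmaCore (M ^ᵍ g) := hx
      let q : G ⧸ M := (g : G ⧸ M)
      obtain ⟨m, hm⟩ : ∃ m : M, (q.out : G) = g * m := by
        have h1 : ((q.out : G) : G ⧸ M) = (g : G ⧸ M) := QuotientGroup.out_eq' q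
        have h2 := QuotientGroup.eq.1 h1.symm
        exact ⟨⟨_, h2⟩, by simp⟩
      have hq : M ^ᵍ q.out = M ^ᵍ g := by rw [hm, cj_mul, cj_eq_of_mem m.2]
      have hx2 : x ∈ (sigmaCore M) ^ᵍ q.out := by
        rw [← sigmaCore_cj, hq]; exact hx'
      have hx3 : (q.out)⁻¹ * x * q.out ≠ 1 := by
        intro h
        apply hx1
        show x = 1
        calc x = q.out * ((q.out)⁻¹ * x * q.out) * (q.out)⁻¹ := by group
          _ = 1 := by rw [h]; group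
      refine ⟨(q, ⟨(q.out)⁻¹ * x * q.out, mem_cj.1 hx2, hx3⟩), ?_⟩
      refine Subtype.ext (Prod.ext ?_ ?_)
      · show q.out * ((q.out)⁻¹ * x * q.out) * (q.out)⁻¹ = x
        group
      · exact hq
  have h3 := Nat.card_congr (Equiv.ofBijective ψ hψ)
  rw [Nat.card_prod, hD] at h3
  rw [← h3, mul_comm]
  rfl

/-- B & G 14.6 (a) -/
theorem tilde_card {M : Subgroup G} (hM : IsCoatom M) :
    Set.ncard (tildeOf M ((sigmaCore M : Set G) \ {1})) =
      (Nat.card (sigmaCore M) - 1) * M.index := by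
  rw [← om_card hG hM, ← Nat.card_coe_set_eq]
  let Ω := {p : G × Subgroup G // (∃ g : G, p.2 = M ^ᵍ g) ∧ p.1 ∈ sigmaCore p.2 ∧ p.1 ≠ 1}
  -- for each element a base point
  have hb : ∀ x : G, ∃ N : Subgroup G, (∃ p : Ω, p.1.1 = x) → (∃ g : G, N = M ^ᵍ g) ∧
      x ∈ sigmaCore N ∧ x ≠ 1 := by
    intro x
    by_cases h : ∃ p : Ω, p.1.1 = x
    · obtain ⟨⟨⟨y, N⟩, h1, h2, h3⟩, rfl⟩ := h
      exact ⟨N, fun _ => ⟨h1, h2, h3⟩⟩
    · exact ⟨⊥, fun h' => absurd h' h⟩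
  choose base hbase using hb
  have hR : ∀ p : Ω, ∃ r : G, r ∈ supportR (base p.1.1) p.1.1 ∧ (base p.1.1) ^ᵍ r = p.1.2 := by
    rintro ⟨⟨x, N⟩, ⟨g, hg⟩, hx, hx1⟩
    have hg' : N = M ^ᵍ g := hg
    subst hg'
    have hx' : x ∈ sigmaCore (M ^ᵍ g) := hx
    obtain ⟨⟨k, hk⟩, hB, -⟩ := hbase x ⟨⟨⟨x, M ^ᵍ g⟩, ⟨g, rfl⟩, hx, hx1⟩, rfl⟩
    show ∃ r : G, r ∈ supportR (base x) x ∧ (base x) ^ᵍ r = M ^ᵍ g
    have hBc : IsCoatom (base x) := by rw [hk]; exact coatom_cj hM k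
    have hgB : M ^ᵍ g = (base x) ^ᵍ (g * k⁻¹) := by rw [hk, cj_mul, cj_inv_cj]
    rw [hgB]
    have hxB : x ∈ (base x) ^ᵍ (g * k⁻¹) := by
      rw [← hgB]; exact sigmaCore_le hG (coatom_cj hM g) hx'
    by_cases hxM : Subgroup.centralizer ({x} : Set G) ≤ base x
    · obtain ⟨r, hr, hrg⟩ := bg14_4_trans hG hBc hB hx1 hxB
      refine ⟨1, one_mem _, ?_⟩
      rw [← hrg, cj_one, cj_eq_of_mem (hxM hr)]
    · obtain ⟨L, hL, hxL⟩ := exists_max hG (ms_cz1_ne_top hG hx1)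
      obtain ⟨h1, h2, h3, h4, h5, h6, h7, h8, h9⟩ := bg14_4 hG hBc hB hx1 hxM hL hxL
      have hnn : Subgroup.centralizer ({x} : Set G) ≤
              𝓝(sigmaCore L ⊓ Subgroup.centralizer ({x} : Set G)) :=
        le_nz_inf (hxL.trans (le_nz_sigmaCore hG L)) le_normalizer
      obtain ⟨c, hcx, hcg⟩ := bg14_4_trans hG hBc hB hx1 hxB
      obtain ⟨r, hr, d, hd, hrd⟩ := (mem_sup_of_nz'
        (inf_le_right.trans hnn : base x ⊓ Subgroup.centralizer ({x} : Set G) ≤ _)).1 (h9 hcx)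
      refine ⟨r, ?_, ?_⟩
      · rw [supportR_of_not hG hBc hB hx1 hxM hL hxL]; exact hr
      · rw [← hcg, ← hrd, cj_mul, cj_eq_of_mem hd.1]
  choose ρ hρ1 hρ2 using hR
  have hmem : ∀ p : Ω, p.1.1 * ρ p ∈ tildeOf M ((sigmaCore M : Set G) \ {1}) := by
    intro p
    obtain ⟨⟨k, hk⟩, hB, hx1⟩ := hbase p.1.1 ⟨p, rfl⟩
    exact (mem_tilde hG hM).2 ⟨base p.1.1, ⟨k, hk⟩, p.1.1, hB, hx1, ρ p, hρ1 p, rfl⟩
  let F : Ω → tildeOf M ((sigmaCore M : Set G) \ {1}) := fun p => ⟨_, hmem p⟩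
  have hF : Function.Bijective F := by
    constructor
    · intro p p' h
      have e1 : p.1.1 * ρ p = p'.1.1 * ρ p' := congrArg Subtype.val h
      obtain ⟨⟨k, hk⟩, hB, hx1⟩ := hbase p.1.1 ⟨p, rfl⟩
      obtain ⟨⟨k', hk'⟩, hB', hx1'⟩ := hbase p'.1.1 ⟨p', rfl⟩
      have hBc : IsCoatom (base p.1.1) := by rw [hk]; exact coatom_cj hM k
      have hBc' : IsCoatom (base p'.1.1) := by rw [hk']; exact coatom_cj hM k'
      have e2 : p.1.1 = p'.1.1 := by
        by_contra hne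
        exact supp_disj hG hBc hBc' hB hB' hx1 hx1' hne (hρ1 p) (hρ1 p') e1
      have e3 : ρ p = ρ p' := by
        rw [e2] at e1
        exact mul_left_cancel e1
      have e4 : p.1.2 = p'.1.2 := by
        rw [← hρ2 p, ← hρ2 p', e3, e2]
      exact Subtype.ext (Prod.ext e2 e4)
    · rintro ⟨u, hu⟩
      obtain ⟨N, ⟨g, hg⟩, x, hx, hx1, r, hr, hur⟩ := (mem_tilde hG hM).1 hu
      have hN : IsCoatom N := by rw [hg]; exact coatom_cj hM g
      have hex : ∃ p : Ω, p.1.1 = x := ⟨⟨⟨x, N⟩, ⟨g, hg⟩, hx, hx1⟩, rfl⟩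
      obtain ⟨⟨k, hk⟩, hB, -⟩ := hbase x hex
      have hBc : IsCoatom (base x) := by rw [hk]; exact coatom_cj hM k
      rw [supportR_indep hG hN hBc hx hB hx1] at hr
      -- the pair
      have hrx : Commute x r := by
        rcases supportR_facts hG hBc hB hx1 hr with h | ⟨_, _, _, _, _, h, _⟩
        · rw [h]; exact Commute.one_right x
        · exact h
      have hxr : x ∈ sigmaCore ((base x) ^ᵍ r) := by
        rw [sigmaCore_cj, mem_cj]
        have : r⁻¹ * x * r = x := by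
          rw [mul_assoc, hrx.eq, inv_mul_cancel_left]
        rw [this]; exact hB
      let p : Ω := ⟨⟨x, (base x) ^ᵍ r⟩, ⟨r * k, by
        show (base x) ^ᵍ r = M ^ᵍ (r * k)
        rw [cj_mul, ← hk]⟩, hxr, hx1⟩
      refine ⟨p, Subtype.ext ?_⟩
      show x * ρ p = u
      rw [hur]
      congr 1
      have e1 : ρ p ∈ supportR (base x) x := hρ1 p
      have e2 : (base x) ^ᵍ (ρ p) = (base x) ^ᵍ r := hρ2 p
      have e3 : r⁻¹ * ρ p ∈ base x := by
        refine coatom_cj_le hG hBc ?_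
        rw [cj_mul, e2, cj_inv_cj]
      by_cases hxM : Subgroup.centralizer ({x} : Set G) ≤ base x
      · rw [supportR_of_le hG hxM, Subgroup.mem_bot] at e1 hr
        rw [e1, hr]
      · obtain ⟨L, hL, hxL⟩ := exists_max hG (ms_cz1_ne_top hG hx1)
        obtain ⟨h1, h2, h3, h4, h5, -⟩ := bg14_4 hG hBc hB hx1 hxM hL hxL
        rw [supportR_of_not hG hBc hB hx1 hxM hL hxL] at e1 hr
        have h11 : r⁻¹ * ρ p ∈ base x ⊓ sigmaCore L :=
          ⟨e3, mul_mem ((sigmaCore L).inv_mem hr.1) e1.1⟩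
        rw [h5, Subgroup.mem_bot] at h11
        exact (inv_mul_eq_one.1 h11).symm
  exact (Nat.card_congr (Equiv.ofBijective F hF)).symm

end

end CfsgLib.BGPi
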