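import Cfsg.Agent.EqBase
import Cfsg.Agent.LibBG14j

/-! B & G 14.7: pairs of maximal subgroups of type `P`. -/

open Subgroup
open scoped Pointwise commutatorElement

namespace CfsgLib.BGPi

open Cfsg

universe u

section
variable {G : Type u} [Group G] [Finite G]

/-- a pair of maximal subgroups of type `P` whose `Z`-groups share suitable elements -/
structure KPair (M L K J : Subgroup G) (y₁ y₂ : G) : Prop where
  hM : IsCoatom M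
  hL : IsCoatom L
  hK : IsPiHallOf (kappa M) K M
  hJ : IsPiHallOf (kappa L) J L
  m1 : y₁ ∈ sigmaCore M ⊓ 𝓒(K)
  j1 : y₁ ∈ J
  n1 : y₁ ≠ 1
  m2 : y₂ ∈ sigmaCore L ⊓ 𝓒(J)
  k2 : y₂ ∈ K
  n2 : y₂ ≠ 1

theorem KPair.symm {M L K J : Subgroup G} {y₁ y₂ : G} (c : KPair M L K J y₁ y₂) :
    KPair L M J K y₂ y₁ :=
  ⟨c.hL, c.hM, c.hJ, c.hK, c.m2, c.k2, c.n2, c.m1, c.j1, c.n1⟩

variable (hG : IsMinSimpleOddOrder G)
include hG

theorem KPair.K1 {M L K J : Subgroup G} {y₁ y₂ : G} (c : KPair M L K J y₁ y₂) : K ≠ ⊥ := by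
  rintro rfl
  exact c.n2 (Subgroup.mem_bot.1 c.k2)

theorem KPair.z2 {M L K J : Subgroup G} {y₁ y₂ : G} (c : KPair M L K J y₁ y₂) :
    zpowers y₂ ≠ ⊥ := by rw [Ne, zpowers_eq_bot]; exact c.n2

theorem KPair.hnc {M L K J : Subgroup G} {y₁ y₂ : G} (c : KPair M L K J y₁ y₂) (g : G) :
    L ≠ M ^ᵍ g := by
  intro h
  obtain ⟨p, hp, hd⟩ := exists_prime_dvd_of_ne_bot (c.z2 hG)
  have h1 : p ∈ sigma L := ord_sigma hG c.hL c.m2.1 p hp hd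
  have h2 : p ∈ kappa M := hall_isPi c.hK p hp (hd.trans (card_dvd_of_le (by
    rw [zpowers_le]; exact c.k2)))
  rw [h, sigma_cj] at h1
  exact h2.2.2.1 h1

theorem kstar_cz {M K : Subgroup G} (hM : IsCoatom M) (hK : IsPiHallOf (kappa M) K M)
    (hK1 : K ≠ ⊥) {Y : Subgroup G} (hY : Y ≤ sigmaCore M ⊓ 𝓒(K)) (hY1 : Y ≠ ⊥) : 𝓒(Y) ≤ M := by
  obtain ⟨x, hx, -, X, hX, hXc⟩ := exists_prime_sub hY1
  exact (cz_anti hX).trans (kstar_uniq hG hM hK hK1 hx hXc (hX.trans hY)).1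

theorem kstar_nz {M K X : Subgroup G} (hM : IsCoatom M) (hK : IsPiHallOf (kappa M) K M)
    (hK1 : K ≠ ⊥) {x : ℕ} (hx : x.Prime) (hXc : Nat.card X = x)
    (hX : X ≤ sigmaCore M ⊓ 𝓒(K)) : 𝓝(X) ≤ M :=
  nz_le_of_uniq hG (nz_line_ne_top hG hx hXc) (kstar_uniq hG hM hK hK1 hx hXc hX).2.1

theorem KPair.sig {M L K J : Subgroup G} {y₁ y₂ : G} (c : KPair M L K J y₁ y₂) :
    sigmaCore M ⊓ L = sigmaCore M ⊓ 𝓒(K) := by
  have hzK : zpowers y₂ ≤ K := by rw [zpowers_le]; exact c.k2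
  have hz := c.z2 hG
  refine le_antisymm ?_ ?_
  · rw [← kap_cz hG c.hM c.hK hzK hz]
    refine le_inf inf_le_left ?_
    have h1 := sig_comm hG c.hM c.hL (c.hnc hG)
    rw [le_cz_comm]
    refine le_trans ?_ h1
    rw [zpowers_le]
    exact ⟨c.m2.1, hall_le c.hK c.k2⟩
  · refine le_inf inf_le_left ?_
    have h1 : 𝓒(zpowers y₂) ≤ L := kstar_cz hG c.hL c.hJ (c.symm.K1 hG)
      (by rw [zpowers_le]; exact c.m2) hz
    exact (inf_le_right.trans (cz_anti hzK)).trans h1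

theorem KPair.kle {M L K J : Subgroup G} {y₁ y₂ : G} (c : KPair M L K J y₁ y₂) : K ≤ L := by
  have hzK : zpowers y₂ ≤ K := by rw [zpowers_le]; exact c.k2
  obtain ⟨x, hx, -, X, hX, hXc⟩ := exists_prime_sub (c.z2 hG)
  obtain ⟨E, U, -, -, -, -, -, hl⟩ := kap_struct hG c.hM c.hK (c.K1 hG)
  exact (hl x X hx (hX.trans hzK) hXc).2.trans (kstar_nz hG c.hL c.hJ (c.symm.K1 hG) hx hXc
    (hX.trans (by rw [zpowers_le]; exact c.m2)))

theorem KPair.sk {M L K J : Subgroup G} {y₁ y₂ : G} (c : KPair M L K J y₁ y₂) {q : ℕ}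
    (hq : q ∈ sigma M) (hqL : q ∣ Nat.card L) : q ∈ kappa L := by
  have hqp := sigma_prime hq
  by_contra hκ
  have hqσ : q ∉ sigma L := fun h => sigma_part hG c.hM c.hL (c.hnc hG) hq h
  obtain ⟨E, U, hE, hJE, hEU, hU, hUab, hl⟩ := kap_struct hG c.hL c.hJ (c.symm.K1 hG)
  have hqU : q ∣ Nat.card U := hall_dvd' hqp (show q ∈ (kappa L)ᶜ from hκ) hU
    (hall_dvd' hqp (show q ∈ (sigma L)ᶜ from hqσ) hE hqL)
  have hUn : Group.IsNilpotent U := nilp_of_comm (comm_iff_le_cz.2 hUab)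
  have hT : IsPiHallOf {q} (piCoreOf {q} U) U := nilpotent_hall hUn
  set T := piCoreOf {q} U with hTd
  have hT1 : T ≠ ⊥ := hall_ne_bot hqp hT hqU
  have hTE : IsPiHallOf {q} T E := hall_trans hT hU (Set.singleton_subset_iff.2 hκ)
  have hJT : J ≤ 𝓝(T) := (hJE.trans hEU).trans (nz_le_nz_piCoreOf _ _)
  have hz1 : zpowers y₁ ≤ J := by rw [zpowers_le]; exact c.j1
  have h1 : IsPi (sigma M) (T ⊔ zpowers y₁) := by
    refine IsPi.sup' ?_ (ord_sigma hG c.hM c.m1.1) (hz1.trans hJT)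
    exact (hall_isPi hT).mono (by rintro s rfl; exact hq)
  obtain ⟨-, -, -, h4⟩ := bg14_2' hG c.hM c.hK (c.K1 hG)
  have h2 : T ⊔ zpowers y₁ ≤ sigmaCore M := by
    refine h4 _ h1 ?_
    intro h
    apply c.n1
    have h3 : y₁ ∈ (T ⊔ zpowers y₁) ⊓ (sigmaCore M ⊓ 𝓒(K)) :=
      ⟨(le_sup_right : zpowers y₁ ≤ _) (mem_zpowers _), c.m1⟩
    rw [h] at h3
    exact Subgroup.mem_bot.1 h3
  have hEL := hall_le hE
  have hTL : T ≤ L := (hall_le hTE).trans hEL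
  have hTK : T ≤ sigmaCore M ⊓ 𝓒(K) := by
    rw [← c.sig hG]; exact le_inf (le_sup_left.trans h2) hTL
  have hy2 : y₂ ∈ sigmaCore L ⊓ 𝓒(T) := by
    refine ⟨c.m2.1, ?_⟩
    have : T ≤ 𝓒(zpowers y₂) := (hTK.trans inf_le_right).trans (cz_anti (by
      rw [zpowers_le]; exact c.k2))
    exact le_cz_comm.1 this (mem_zpowers _)
  obtain ⟨X, hX, hXc⟩ := exists_card_prime hqp (pgroup_dvd_card hqp ((hall_isPi hT).isPGroup hqp)
    hT1)
  have hkt := prime_kt hG c.hL hqp (hX.trans hTL) hXc hqσ (by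
    intro h
    apply c.n2
    have h3 : y₂ ∈ sigmaCore L ⊓ 𝓒(X) := ⟨hy2.1, cz_anti hX hy2.2⟩
    rw [h] at h3
    exact Subgroup.mem_bot.1 h3)
  have hq2 : q ∈ tau2 L := hkt.resolve_left hκ
  obtain ⟨A, hAE, A₀, e⟩ := exists_exc_tau2 hG c.hL hE hq2
  have hAT : A ≤ T := normal_le_hall hTE hAE (e.nzE hG hE hAE) (elab_isPi hqp e.el)
  apply c.n2
  have h3 : y₂ ∈ sigmaCore L ⊓ 𝓒(A) := ⟨hy2.1, cz_anti hAT hy2.2⟩
  rw [e.inf_cz hG] at h3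
  exact Subgroup.mem_bot.1 h3

theorem KPair.syl {M L K J T : Subgroup G} {y₁ y₂ : G} (c : KPair M L K J y₁ y₂) {q : ℕ}
    (hq : q ∈ sigma M) (hT : IsPiHallOf {q} T J) : T ≤ sigmaCore M ⊓ 𝓒(K) := by
  rw [← c.sig hG]
  have hTL := (hall_le hT).trans (hall_le c.hJ)
  exact le_inf (syl_le_sigmaCore hG c.hM hq (hall_isPi hT) ((hall_le hT).trans (c.symm.kle hG))) hTL

theorem KPair.hall {M L K J : Subgroup G} {y₁ y₂ : G} (c : KPair M L K J y₁ y₂) :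
    IsPiHallOf (sigma M) (sigmaCore M ⊓ 𝓒(K)) L := by
  have hle : sigmaCore M ⊓ 𝓒(K) ≤ L := by rw [← c.sig hG]; exact inf_le_right
  refine hall_iff.2 ⟨hle, (hall_isPi (sigma_hall hG c.hM)).le inf_le_left, ?_⟩
  intro q hqp hq hd
  have hqL : q ∣ Nat.card L := hd.trans (by
    rw [← card_mul_relIndex hle]; exact dvd_mul_left _ _)
  have hκ := c.sk hG hq hqL
  obtain ⟨T, hT⟩ := exists_syl hqp J
  have hTL : IsPiHallOf {q} T L := hall_trans hT c.hJ (Set.singleton_subset_iff.2 hκ)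
  refine (hall_iff.1 hTL).2.2 q hqp rfl (hd.trans ?_)
  exact ⟨_, ((mul_comm _ _).trans (relIndex_mul_relIndex T _ L (c.syl hG hq hT) hle)).symm⟩

theorem KPair.star_le {M L K J : Subgroup G} {y₁ y₂ : G} (c : KPair M L K J y₁ y₂) :
    sigmaCore M ⊓ 𝓒(K) ≤ J := by
  have hle : sigmaCore M ⊓ 𝓒(K) ≤ L := by rw [← c.sig hG]; exact inf_le_right
  have hσ : IsPi (sigma M) (sigmaCore M ⊓ 𝓒(K)) := (hall_isPi (sigma_hall hG c.hM)).le inf_le_left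
  refine le_of_syls fun q hq => ?_
  by_cases hd : q ∣ Nat.card ↥(sigmaCore M ⊓ 𝓒(K))
  · have hqM := hσ q hq hd
    have hκ := c.sk hG hqM (hd.trans (card_dvd_of_le hle))
    obtain ⟨T, hT⟩ := exists_syl hq J
    have hTL : IsPiHallOf {q} T L := hall_trans hT c.hJ (Set.singleton_subset_iff.2 hκ)
    exact ⟨T, hall_le_of_le hTL (c.syl hG hqM hT) hle, hall_le hT⟩
  · obtain ⟨S, hS⟩ := exists_syl hq (sigmaCore M ⊓ 𝓒(K))
    refine ⟨S, hS, ?_⟩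
    by_cases hS1 : S = ⊥
    · rw [hS1]; exact bot_le
    · exact absurd ((pgroup_dvd_card hq ((hall_isPi hS).isPGroup hq) hS1).trans
        (card_dvd_of_le (hall_le hS))) hd

theorem KPair.Z_le {M L K J : Subgroup G} {y₁ y₂ : G} (c : KPair M L K J y₁ y₂) :
    K ⊔ (sigmaCore M ⊓ 𝓒(K)) ≤ J ⊔ (sigmaCore L ⊓ 𝓒(J)) := by
  refine sup_le ?_ ((c.star_le hG).trans le_sup_left)
  have hz1 : zpowers y₁ ≤ J := by rw [zpowers_le]; exact c.j1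
  obtain ⟨x, hx, -, X, hX, hXc⟩ := exists_prime_sub (c.symm.z2 hG)
  obtain ⟨E, U, -, -, -, -, -, hl⟩ := kap_struct hG c.hL c.hJ (c.symm.K1 hG)
  rw [← kap_nz hG c.hL c.hJ (hX.trans hz1) (ne_bot_of_card_prime hx hXc)
    (hl x X hx (hX.trans hz1) hXc).2]
  refine le_inf (c.kle hG) ?_
  have h1 : K ≤ 𝓒(sigmaCore M ⊓ 𝓒(K)) := le_cz_comm.1 inf_le_right
  have h2 : X ≤ sigmaCore M ⊓ 𝓒(K) := hX.trans (by rw [zpowers_le]; exact c.m1)
  exact (h1.trans (cz_anti h2)).trans (cz_le_nz X)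

theorem KPair.Z_eq {M L K J : Subgroup G} {y₁ y₂ : G} (c : KPair M L K J y₁ y₂) :
    K ⊔ (sigmaCore M ⊓ 𝓒(K)) = J ⊔ (sigmaCore L ⊓ 𝓒(J)) :=
  le_antisymm (c.Z_le hG) (c.symm.Z_le hG)

theorem KPair.inf {M L K J : Subgroup G} {y₁ y₂ : G} (c : KPair M L K J y₁ y₂) :
    M ⊓ L = K ⊔ (sigmaCore M ⊓ 𝓒(K)) := by
  have h0 : sigmaCore L ⊓ 𝓒(J) ≤ K := c.symm.star_le hG
  have h1 : sigmaCore L ⊓ 𝓒(J) ≠ ⊥ := kap_star_ne hG c.hL c.hJ (c.symm.K1 hG)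
  have hD : M ⊓ L ≤ 𝓝(sigmaCore L ⊓ 𝓒(J)) := by
    rw [← c.symm.sig hG]
    exact le_nz_inf (inf_le_right.trans (le_nz_sigmaCore hG L)) (inf_le_left.trans le_normalizer)
  have hKD : K ≤ M ⊓ L := le_inf (hall_le c.hK) (c.kle hG)
  refine le_antisymm ?_ ?_
  · rw [← kap_nz hG c.hM c.hK h0 h1 (hKD.trans hD)]
    exact le_inf inf_le_left hD
  · refine sup_le hKD (le_inf (inf_le_left.trans (sigmaCore_le hG c.hM)) ?_)
    rw [← c.sig hG]; exact inf_le_right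

/-- Step B: the maximal subgroups above `N(X)`, `X ≤ K` of prime order -/
theorem exists_KPair {M K X L : Subgroup G} (hM : IsCoatom M) (hK : IsPiHallOf (kappa M) K M)
    {x : ℕ} (hx : x.Prime) (hXc : Nat.card X = x) (hX : X ≤ K) (hL : IsCoatom L)
    (hN : 𝓝(X) ≤ L) :
    ∃ J y₁ y₂, KPair M L K J y₁ y₂ ∧ X ≤ sigmaCore L ⊓ 𝓒(J) := by
  have hX1 := ne_bot_of_card_prime hx hXc
  have hK1 : K ≠ ⊥ := fun h => hX1 (le_bot_iff.1 (h ▸ hX))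
  have hKM := hall_le hK
  have hXL := kap_above hG hM hK hX hx hXc hL hN
  have hxκ : x ∈ kappa M := hall_isPi hK x hx (by rw [← hXc]; exact card_dvd_of_le hX)
  have hxσ : x ∉ sigma M := hxκ.2.2.1
  have hx1 : PRankLE x 1 M := ((kappa_iff hG).1 hxκ).2.2.1
  obtain ⟨hnc, -⟩ := bg13_2 hG hM hL hx hxσ hx1 (hX.trans hKM)
    ((isPi_of_card_prime hx hXc).isPGroup hx) hX1 hN
  obtain ⟨y, hy, -, Y, hY, hYc⟩ := exists_prime_sub (kap_star_ne hG hM hK hK1)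
  have hYπ := isPi_of_card_prime hy hYc
  have hY1 := ne_bot_of_card_prime hy hYc
  have hYX : Y ≤ 𝓒(X) := (hY.trans inf_le_right).trans (cz_anti hX)
  have hYL : Y ≤ L := hYX.trans ((cz_le_nz X).trans hN)
  have hyM : y ∈ sigma M := hall_isPi (sigma_hall hG hM) y hy
    (by rw [← hYc]; exact card_dvd_of_le (hY.trans inf_le_left))
  have hyL : y ∉ sigma L := fun h => sigma_part hG hM hL hnc hyM h
  have hXC : X ≤ sigmaCore L ⊓ 𝓒(Y) := le_inf hXL (le_cz_comm.1 hYX)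
  have hC : sigmaCore L ⊓ 𝓒(Y) ≠ ⊥ := fun h => hX1 (le_bot_iff.1 (h ▸ hXC))
  have hyκ : y ∈ kappa L := by
    rcases prime_kt hG hL hy hYL hYc hyL hC with h | h
    · exact h
    · exfalso
      obtain ⟨h1, -⟩ := tau2_uniq' hG hL h hYL hYc hC
      have h2 := (kstar_uniq hG hM hK hK1 hy hYc hY).2.1 L hL h1
      exact hnc 1 (by rw [cj_one]; exact h2)
  obtain ⟨J, hJ, hYJ⟩ := hall_exists_ge (π := kappa L) (max_sol hG hL)
    (hYπ.mono (by rintro s rfl; exact hyκ)) hYL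
  have hXJ : X ≤ sigmaCore L ⊓ 𝓒(J) := by
    rw [← kap_cz hG hL hJ hYJ hY1]; exact hXC
  obtain ⟨y₁, h1, h1n⟩ := Y.bot_or_exists_ne_one.resolve_left hY1
  obtain ⟨y₂, h2, h2n⟩ := X.bot_or_exists_ne_one.resolve_left hX1
  exact ⟨J, y₁, y₂, ⟨hM, hL, hK, hJ, hY h1, hYJ h1, h1n, hXJ h2, hX h2, h2n⟩, hXJ⟩

end

end CfsgLib.BGPi
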