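import Cfsg.Agent.EqBase
import Cfsg.Agent.LibBG14k

/-! Frobenius groups acting: `K` has prime order when `U ≠ 1`. -/

open Subgroup
open scoped Pointwise commutatorElement

namespace CfsgLib.BGPi

open Cfsg

universe u

theorem abs_frob {A H : Type*} [CommGroup A] [Finite A] [Group H] [Finite H] (φ : H →* MulAut A)
    (U K K₀ : Subgroup H) (hKU : ∀ k ∈ K, ∀ u ∈ U, k * u * k⁻¹ ∈ U)
    (hfpf : ∀ k ∈ K, k ≠ 1 → ∀ u ∈ U, k * u * k⁻¹ = u → u = 1)
    (hUA : ∀ a : A, (∀ u ∈ U, φ u a = a) → a = 1) (hK0 : K₀ ≤ K) {k' : H} (hk' : k' ∈ K)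
    (hk0 : k' ∉ K₀) (hfix : ∀ a : A, (∀ k ∈ K₀, φ k a = a) → φ k' a = a)
    (hcop : (Nat.card U).Coprime (Nat.card A)) (a : A) : a = 1 := by
  classical
  haveI : Fintype U := Fintype.ofFinite U
  haveI : Fintype K₀ := Fintype.ofFinite K₀
  have key : ∀ x ∈ K, x ≠ 1 → ∏ u : U, φ ((u : H)⁻¹ * x * u) a = 1 := by
    intro x hx hx1
    let f : U → U := fun u => ⟨(u : H)⁻¹ * (x * u * x⁻¹), U.mul_mem (U.inv_mem u.2)
      (hKU x hx u u.2)⟩
    have hf : Function.Injective f := by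
      intro u v huv
      have e1 : (u : H)⁻¹ * (x * u * x⁻¹) = (v : H)⁻¹ * (x * v * x⁻¹) := congrArg Subtype.val huv
      have e2 : x * ((v : H) * (u : H)⁻¹) * x⁻¹ = (v : H) * (u : H)⁻¹ := by
        have e3 : x * v * x⁻¹ = v * ((u : H)⁻¹ * (x * u * x⁻¹)) := by rw [e1]; group
        calc x * ((v : H) * (u : H)⁻¹) * x⁻¹ = (x * v * x⁻¹) * (x * u * x⁻¹)⁻¹ := by group
          _ = (v * ((u : H)⁻¹ * (x * u * x⁻¹))) * (x * u * x⁻¹)⁻¹ := by rw [e3]
          _ = (v : H) * (u : H)⁻¹ := by group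
      have e4 := hfpf x hx hx1 _ (U.mul_mem v.2 (U.inv_mem u.2)) e2
      exact Subtype.ext (mul_inv_eq_one.1 e4).symm
    have hb : Function.Bijective f := Finite.injective_iff_bijective.1 hf
    have h1 : ∏ u : U, φ ((u : H)⁻¹ * x * u) a = ∏ u : U, φ (u : H) (φ x a) := by
      refine Fintype.prod_bijective f hb _ _ fun u => ?_
      show φ ((u : H)⁻¹ * x * u) a = φ ((u : H)⁻¹ * (x * u * x⁻¹)) (φ x a)
      rw [← MulAut.mul_apply, ← map_mul]
      congr 2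
      group
    rw [h1]
    refine hUA _ fun v hv => ?_
    rw [map_prod]
    refine Fintype.prod_bijective (fun u : U => (⟨v, hv⟩ : U) * u) (Group.mulLeft_bijective _) _ _
      fun u => ?_
    rw [← MulAut.mul_apply, ← map_mul]
    rfl
  have h2 : ∀ u : U, ∏ k : K₀, φ ((u : H)⁻¹ * (k' * k) * u) a =
      ∏ k : K₀, φ ((u : H)⁻¹ * k * u) a := by
    intro u
    have h3 : φ k' (∏ k : K₀, φ ((k : H) * u) a) = ∏ k : K₀, φ ((k : H) * u) a := by
      refine hfix _ fun v hv => ?_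
      rw [map_prod]
      refine Fintype.prod_bijective (fun k : K₀ => (⟨v, hv⟩ : K₀) * k) (Group.mulLeft_bijective _) _ _
        fun k => ?_
      rw [← MulAut.mul_apply, ← map_mul, ← mul_assoc]
      rfl
    have h4 := congrArg (φ (u : H)⁻¹) h3
    rw [map_prod, map_prod, map_prod] at h4
    calc ∏ k : K₀, φ ((u : H)⁻¹ * (k' * k) * u) a
        = ∏ k : K₀, φ (u : H)⁻¹ (φ k' (φ ((k : H) * u) a)) := by
          refine Finset.prod_congr rfl fun k _ => ?_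
          rw [← MulAut.mul_apply, ← map_mul, ← MulAut.mul_apply, ← map_mul]
          congr 2
          group
      _ = ∏ k : K₀, φ (u : H)⁻¹ (φ ((k : H) * u) a) := h4
      _ = _ := by
          refine Finset.prod_congr rfl fun k _ => ?_
          rw [← MulAut.mul_apply, ← map_mul]
          congr 2
          group
  have h5 : ∏ u : U, ∏ k : K₀, φ ((u : H)⁻¹ * (k' * k) * u) a =
      ∏ u : U, ∏ k : K₀, φ ((u : H)⁻¹ * k * u) a := Finset.prod_congr rfl fun u _ => h2 u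
  rw [Finset.prod_comm, Finset.prod_comm (f := fun (u : U) (k : K₀) => φ ((u : H)⁻¹ * k * u) a)]
    at h5
  have h6 : ∏ k : K₀, ∏ u : U, φ ((u : H)⁻¹ * (k' * k) * u) a = 1 := by
    refine Finset.prod_eq_one fun k _ => ?_
    refine key _ (K.mul_mem hk' (hK0 k.2)) fun h => hk0 ?_
    have : k' = (k : H)⁻¹ := eq_inv_of_mul_eq_one_left h
    rw [this]
    exact K₀.inv_mem k.2
  have h7 : ∏ k : K₀, ∏ u : U, φ ((u : H)⁻¹ * k * u) a = a ^ Nat.card U := by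
    rw [Finset.prod_eq_single (1 : K₀)]
    · rw [Finset.prod_congr rfl (g := fun _ => a), Finset.prod_const, Finset.card_univ,
        Nat.card_eq_fintype_card]
      intro u _
      simp
    · intro k _ hk
      exact key _ (hK0 k.2) fun h => hk (Subtype.ext h)
    · intro h
      exact absurd (Finset.mem_univ _) h
  rw [h6, h7] at h5
  have h8 : orderOf a ∣ Nat.gcd (Nat.card U) (Nat.card A) :=
    Nat.dvd_gcd (orderOf_dvd_of_pow_eq_one h5.symm) (orderOf_dvd_natCard a)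
  rw [hcop] at h8
  exact orderOf_eq_one_iff.1 (Nat.dvd_one.1 h8)

section
variable {G : Type u} [Group G] [Finite G]

theorem frob_fix_ab {W U K K₀ : Subgroup G} (hW : W ≤ 𝓒(W)) (hUW : U ≤ 𝓝(W)) (hKW : K ≤ 𝓝(W))
    (hKU : K ≤ 𝓝(U)) (hfpf : ∀ k ∈ K, k ≠ 1 → U ⊓ Subgroup.centralizer ({k} : Set G) = ⊥)
    (hUA : W ⊓ 𝓒(U) = ⊥) (hK0 : K₀ ≤ K) {k' : G} (hk' : k' ∈ K) (hk0 : k' ∉ K₀)
    (hfix : W ⊓ 𝓒(K₀) ≤ Subgroup.centralizer ({k'} : Set G))
    (hcop : (Nat.card U).Coprime (Nat.card W)) : W = ⊥ := by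
  letI : CommGroup W := { (inferInstance : Group W) with
    mul_comm := fun a b => Subtype.ext (mem_cz.1 (hW b.2) a a.2) }
  let N := 𝓝(W)
  let φ : N →* MulAut W := Subgroup.normalizerMonoidHom W
  have hφ : ∀ (n : N) (w : W), ((φ n w : W) : G) = n * w * (n : G)⁻¹ := fun n w => rfl
  have hmem : ∀ {X : Subgroup G} {n : N}, n ∈ X.subgroupOf N ↔ (n : G) ∈ X :=
    fun {X n} => Subgroup.mem_subgroupOf
  rw [eq_bot_iff]
  intro a ha
  have h := abs_frob φ (U.subgroupOf N) (K.subgroupOf N) (K₀.subgroupOf N) ?_ ?_ ?_ ?_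
    (k' := ⟨k', hKW hk'⟩) hk' hk0 ?_ ?_ ⟨a, ha⟩
  · exact Subgroup.mem_bot.2 (congrArg Subtype.val h)
  · intro k hk u hu
    exact le_nz.1 hKU k hk u hu
  · intro k hk hk1 u hu h
    have h1 : (u : G) ∈ U ⊓ Subgroup.centralizer ({(k : G)} : Set G) := by
      refine ⟨hu, Subgroup.mem_centralizer_singleton_iff.2 ?_⟩
      have h2 : (k : G) * u * (k : G)⁻¹ = u := congrArg Subtype.val h
      exact (mul_inv_eq_iff_eq_mul.1 h2).symm
    rw [hfpf k hk (fun h => hk1 (Subtype.ext h))] at h1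
    exact Subtype.ext (Subgroup.mem_bot.1 h1)
  · intro w hw
    have h1 : (w : G) ∈ W ⊓ 𝓒(U) := by
      refine ⟨w.2, mem_cz.2 fun u hu => ?_⟩
      have h2 := congrArg Subtype.val (hw ⟨u, hUW hu⟩ hu)
      have h3 : u * (w : G) * u⁻¹ = w := h2
      exact mul_inv_eq_iff_eq_mul.1 h3
    rw [hUA] at h1
    exact Subtype.ext (Subgroup.mem_bot.1 h1)
  · intro k hk
    exact hK0 hk
  · intro w hw
    have h1 : (w : G) ∈ W ⊓ 𝓒(K₀) := by
      refine ⟨w.2, mem_cz.2 fun u hu => ?_⟩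
      have h2 := congrArg Subtype.val (hw ⟨u, hKW (hK0 hu)⟩ hu)
      have h3 : u * (w : G) * u⁻¹ = w := h2
      exact mul_inv_eq_iff_eq_mul.1 h3
    have h4 := Subgroup.mem_centralizer_singleton_iff.1 (hfix h1)
    apply Subtype.ext
    show k' * (w : G) * k'⁻¹ = w
    rw [← h4]; group
  · rw [card_subgroupOf hUW]
    exact hcop

theorem frob_fix {V U K K₀ : Subgroup G} (hV : Group.IsSolvable V) (hUV : U ≤ 𝓝(V))
    (hKV : K ≤ 𝓝(V))
    (hKU : K ≤ 𝓝(U)) (hfpf : ∀ k ∈ K, k ≠ 1 → U ⊓ Subgroup.centralizer ({k} : Set G) = ⊥)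
    (hUA : V ⊓ 𝓒(U) = ⊥) (hK0 : K₀ ≤ K) {k' : G} (hk' : k' ∈ K) (hk0 : k' ∉ K₀)
    (hfix : V ⊓ 𝓒(K₀) ≤ Subgroup.centralizer ({k'} : Set G))
    (hcop : (Nat.card U).Coprime (Nat.card V)) : V = ⊥ := by
  by_contra hV1
  have hF1 : fittingOf V ≠ ⊥ := fun h => hV1 ((fittingOf_eq_bot hV).1 h)
  have hFV := fittingOf_le V
  have hn : V ≤ 𝓝(fittingOf V) := le_nz_fittingOf V
  have hW1 := nilpotent_inf_center (fittingOf_nilpotent V) le_rfl le_normalizer hF1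
  have hFn := nz_le_nz_fittingOf V
  have hWV : fittingOf V ⊓ 𝓒(fittingOf V) ≤ V := inf_le_left.trans hFV
  have hnW : 𝓝(V) ≤ 𝓝(fittingOf V ⊓ 𝓒(fittingOf V)) := le_nz_inf hFn (le_nz_cz hFn)
  apply hW1
  refine frob_fix_ab ?_ (hUV.trans hnW) (hKV.trans hnW) hKU hfpf ?_ hK0 hk' hk0 ?_ ?_
  · exact inf_le_right.trans (cz_anti inf_le_left)
  · rw [← le_bot_iff, ← hUA]; exact inf_le_inf hWV le_rfl
  · exact (inf_le_inf hWV le_rfl).trans hfix
  · exact cop_le hcop le_rfl hWV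

variable (hG : IsMinSimpleOddOrder G)
include hG

/-- `K` has prime order if `U ≠ 1` -/
theorem kap_prime {M K E U : Subgroup G} (hM : IsCoatom M) (hK : IsPiHallOf (kappa M) K M)
    (hK1 : K ≠ ⊥) (hE : IsPiHallOf (sigma M)ᶜ E M) (hKE : K ≤ E) (hEU : E ≤ 𝓝(U))
    (hU : IsPiHallOf (kappa M)ᶜ U E) (hU1 : U ≠ ⊥)
    (hfpf : ∀ k ∈ K, k ≠ 1 → U ⊓ Subgroup.centralizer ({k} : Set G) = ⊥) :
    (Nat.card K).Prime ∧ Group.IsNilpotent (sigmaCore M) ∧ sigmaCore M ⊓ 𝓒(U) = ⊥ := by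
  have hEM := hall_le hE
  have hUE := hall_le hU
  have hKM := hall_le hK
  obtain ⟨r, hr, hrd⟩ := exists_prime_dvd_of_ne_bot hU1
  have hrκ : r ∉ kappa M := hall_isPi hU r hr hrd
  have hrσ : r ∉ sigma M := hall_isPi hE r hr (hrd.trans (card_dvd_of_le hUE))
  obtain ⟨S, hS⟩ := exists_syl hr U
  have hSM : IsPiHallOf {r} S M := hall_trans (hall_trans hS hU (Set.singleton_subset_iff.2 hrκ)) hE
    (Set.singleton_subset_iff.2 hrσ)
  obtain ⟨-, h2, h3⟩ := bg14_1 hG hM hr (hrd.trans (card_dvd_of_le (hUE.trans hEM))) hrσ hrκ hSM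
  have hUC : sigmaCore M ⊓ 𝓒(U) = ⊥ := by
    rw [← le_bot_iff, ← h2]
    refine inf_le_inf le_rfl (cz_anti ?_)
    rw [Subgroup.closure_le]
    rintro x ⟨hx, -⟩
    exact hall_le hS hx
  refine ⟨?_, h3, hUC⟩
  obtain ⟨p, hp, -, P, hP, hPc⟩ := exists_prime_sub hK1
  by_cases hPK : P = K
  · rw [← hPK, hPc]; exact hp
  exfalso
  obtain ⟨k', hk', hk0⟩ : ∃ k' ∈ K, k' ∉ P := by
    by_contra h
    apply hPK
    refine le_antisymm hP fun k hk => ?_
    by_contra hkP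
    exact h ⟨k, hk, hkP⟩
  apply sigmaCore_ne_bot hG hM
  refine frob_fix (sigmaCore_sol hG hM) ((hUE.trans hEM).trans (le_nz_sigmaCore hG M))
    (hKM.trans (le_nz_sigmaCore hG M)) (hKE.trans hEU) hfpf hUC hP hk' hk0 ?_
    ((hall_isPi (sigma_hall hG hM)).coprime ((hall_isPi hE).le hUE)).symm
  rw [kap_cz hG hM hK hP (ne_bot_of_card_prime hp hPc)]
  rw [cz1_eq]
  exact inf_le_right.trans (cz_anti (by rwa [zpowers_le]))

end

end CfsgLib.BGPi
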