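import Cfsg.Agent.EqBase
import Cfsg.Agent.LibBG14l

/-! B & G 14.7: the counting argument. -/

open Subgroup
open scoped Pointwise commutatorElement

namespace CfsgLib.BGPi

open Cfsg

universe u

section
variable {G : Type u} [Group G] [Finite G]
variable (hG : IsMinSimpleOddOrder G)
include hG

theorem Z_comm {N J : Subgroup G} : J ≤ 𝓝(sigmaCore N ⊓ 𝓒(J)) :=
  (le_cz_comm.1 (inf_le_right : sigmaCore N ⊓ 𝓒(J) ≤ 𝓒(J))).trans (cz_le_nz _)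

theorem Z_le_N {N J : Subgroup G} (hN : IsCoatom N) (hJ : IsPiHallOf (kappa N) J N) :
    J ⊔ (sigmaCore N ⊓ 𝓒(J)) ≤ N :=
  sup_le (hall_le hJ) (inf_le_left.trans (sigmaCore_le hG hN))

theorem kap_sig {N J : Subgroup G} (hJ : IsPiHallOf (kappa N) J N) : IsPi (sigma N)ᶜ J :=
  (hall_isPi hJ).mono fun _ hs => hs.2.2.1

theorem Z_sig {N J : Subgroup G} (hN : IsCoatom N) (hJ : IsPiHallOf (kappa N) J N) :
    (J ⊔ (sigmaCore N ⊓ 𝓒(J))) ⊓ sigmaCore N = sigmaCore N ⊓ 𝓒(J) := by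
  rw [sup_comm, dedekind (Z_comm hG) inf_le_left, inf_comm J,
    cop_inf ((hall_isPi (sigma_hall hG hN)).coprime (kap_sig hG hJ)), sup_bot_eq]

theorem Z_hall {N J : Subgroup G} (hN : IsCoatom N) (hJ : IsPiHallOf (kappa N) J N) :
    IsPiHallOf (sigma N)ᶜ J (J ⊔ (sigmaCore N ⊓ 𝓒(J))) := by
  refine hall_of_sup (N := sigmaCore N ⊓ 𝓒(J)) (Z_comm hG) (sup_comm _ _) ?_
    (hall_self (kap_sig hG hJ))
  rw [compl_compl]
  exact (hall_isPi (sigma_hall hG hN)).le inf_le_left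

theorem Z_nz {N J : Subgroup G} : J ⊔ (sigmaCore N ⊓ 𝓒(J)) ≤ 𝓝(J) :=
  sup_le le_normalizer (inf_le_right.trans (cz_le_nz _))

theorem Z_nz' {N J : Subgroup G} : J ⊔ (sigmaCore N ⊓ 𝓒(J)) ≤ 𝓝(sigmaCore N ⊓ 𝓒(J)) :=
  sup_le (Z_comm hG) le_normalizer

theorem Z_sub_star {N J X : Subgroup G} (hN : IsCoatom N) (hJ : IsPiHallOf (kappa N) J N)
    (hX : X ≤ J ⊔ (sigmaCore N ⊓ 𝓒(J))) (hXσ : IsPi (sigma N) X) : X ≤ sigmaCore N ⊓ 𝓒(J) := by
  rw [← Z_sig hG hN hJ]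
  exact le_inf hX (le_hall_of_normal (sigma_hall hG hN) (le_nz_sigmaCore hG N) hXσ
    (hX.trans (Z_le_N hG hN hJ)))

theorem Z_sub_J {N J X : Subgroup G} (hN : IsCoatom N) (hJ : IsPiHallOf (kappa N) J N)
    (hX : X ≤ J ⊔ (sigmaCore N ⊓ 𝓒(J))) (hXσ : IsPi (sigma N)ᶜ X) : X ≤ J :=
  le_hall_of_normal (Z_hall hG hN hJ) (Z_nz hG) hXσ hX

theorem star_card {N J : Subgroup G} (hN : IsCoatom N) (hJ : IsPiHallOf (kappa N) J N)
    (hJ1 : J ≠ ⊥) : 3 * Nat.card ↥(sigmaCore N ⊓ 𝓒(J)) ≤ Nat.card (sigmaCore N) := by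
  have hle : sigmaCore N ⊓ 𝓒(J) ≤ sigmaCore N := inf_le_left
  have h1 := card_mul_relIndex hle
  have hne : sigmaCore N ⊓ 𝓒(J) ≠ sigmaCore N := by
    intro h
    obtain ⟨p, hp, hd⟩ := exists_prime_dvd_of_ne_bot (kap_star_ne hG hN hJ hJ1)
    obtain ⟨S, hS⟩ := exists_syl hp (sigmaCore N)
    obtain ⟨-, -, h3, -⟩ := bg14_2' hG hN hJ hJ1
    exact (h3 p hp hd S hS).2.2 (by rw [h]; exact hall_le hS)
  have hodd : Odd ((sigmaCore N ⊓ 𝓒(J)).relIndex (sigmaCore N)) := by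
    have h2 := ms_odd hG (sigmaCore N)
    rw [← h1] at h2
    exact (Nat.odd_mul.1 h2).2
  have hn1 : (sigmaCore N ⊓ 𝓒(J)).relIndex (sigmaCore N) ≠ 1 := by
    intro h
    exact hne (le_antisymm hle (relIndex_eq_one.1 h))
  have h3 : 3 ≤ (sigmaCore N ⊓ 𝓒(J)).relIndex (sigmaCore N) := by
    obtain ⟨k, hk⟩ := hodd
    omega
  rw [← h1, mul_comm 3]
  exact Nat.mul_le_mul le_rfl h3

theorem tilde_conj {M : Subgroup G} {u : G} (g : G)
    (h : u ∈ tildeOf M ((sigmaCore M : Set G) \ {1})) :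
    g * u * g⁻¹ ∈ tildeOf M ((sigmaCore M : Set G) \ {1}) := by
  obtain ⟨a, ha, r, hr, y, rfl⟩ := h
  exact ⟨a, ha, r, hr, g * y, by group⟩

/-- an element of `Z` with both a `σ(N)`-part and a `σ(N)'`-part is in no `tilde N'` -/
theorem T_tilde {N J N' : Subgroup G} (hN : IsCoatom N) (hJ : IsPiHallOf (kappa N) J N)
    (hJ1 : J ≠ ⊥) (hN' : IsCoatom N') {t : G} (ht : t ∈ J ⊔ (sigmaCore N ⊓ 𝓒(J))) {p q : ℕ}
    (hp : p.Prime) (hpt : p ∣ orderOf t) (hpN : p ∈ sigma N) (hq : q.Prime) (hqt : q ∣ orderOf t)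
    (hqN : q ∉ sigma N) (h : t ∈ tildeOf N' ((sigmaCore N' : Set G) \ {1})) : False := by
  obtain ⟨N₁, ⟨k, hk⟩, x, hx, hx1, r, hr, htx⟩ := (mem_tilde hG hN').1 h
  have hN1 : IsCoatom N₁ := by rw [hk]; exact coatom_cj hN' k
  have htZ : zpowers t ≤ J ⊔ (sigmaCore N ⊓ 𝓒(J)) := by rwa [zpowers_le]
  by_cases hr1 : r = 1
  · rw [hr1, mul_one] at htx
    subst htx
    have h1 := ord_sigma hG hN1 hx
    rw [isPi_zpowers] at h1
    obtain ⟨g, hg⟩ := sigma_conj_of hG hN hN1 ⟨p, hpN, h1 p hp hpt⟩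
    have h2 := h1 q hq hqt
    rw [hg, sigma_cj] at h2
    exact hqN h2
  rcases supportR_facts hG hN1 hx hx1 hr with h0 | ⟨L, hL, hnc, htau, hrL, hxr, hxL⟩
  · exact hr1 h0
  have c1 : (orderOf x).Coprime (orderOf r) := by
    rw [← Nat.card_zpowers, ← Nat.card_zpowers]
    exact ((ord_sigma hG hL hrL).coprime (htau.mono (tau2_sub hG))).symm
  have hxt : zpowers x ≤ zpowers t := by
    rw [zpowers_le, htx]; exact mem_zpowers_mul_of_coprime hxr c1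
  have hrt : zpowers r ≤ zpowers t := by
    rw [zpowers_le, htx, hxr.eq]; exact mem_zpowers_mul_of_coprime hxr.symm c1.symm
  have ho : orderOf t = orderOf x * orderOf r := by
    rw [htx, hxr.orderOf_mul_eq_mul_orderOf_of_coprime c1]
  have hstar : ∀ X : Subgroup G, X ≤ zpowers t → Nat.card X = p →
      X ≤ sigmaCore N ⊓ 𝓒(J) ∧ 𝓒(X) ≤ N := by
    intro X hX hXc
    have h1 : X ≤ sigmaCore N ⊓ 𝓒(J) := Z_sub_star hG hN hJ (hX.trans htZ)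
      ((isPi_of_card_prime hp hXc).mono (by rintro s rfl; exact hpN))
    exact ⟨h1, (kstar_uniq hG hN hJ hJ1 hp hXc h1).1⟩
  rw [ho] at hpt
  rcases (Nat.Prime.dvd_mul hp).1 hpt with hpx | hpr
  · obtain ⟨X, hX, hXc⟩ := exists_card_prime hp (by rwa [Nat.card_zpowers] : p ∣ Nat.card
      (zpowers x))
    obtain ⟨e1, e2⟩ := hstar X (hX.trans hxt) hXc
    have h1 := ord_sigma hG hN1 hx
    rw [isPi_zpowers] at h1
    obtain ⟨g, hg⟩ := sigma_conj_of hG hN hN1 ⟨p, hpN, h1 p hp hpx⟩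
    have hxN1 : zpowers x ≤ N₁ := by rw [zpowers_le]; exact sigmaCore_le hG hN1 hx
    have h3 : X ^ᵍ g⁻¹ ≤ N := by
      rw [← le_cj_iff, ← hg]; exact hX.trans hxN1
    have h4 := mem_of_cj_le hG hN hp hXc (e1.trans inf_le_left) e2 h3
    have h5 : N₁ = N := by rw [hg, cj_eq_of_mem (by rwa [← inv_inv g, inv_mem_iff])]
    apply hr1
    rw [supportR_of_le hG (by
      rw [h5, cz1_eq]; exact (cz_anti hX).trans e2), Subgroup.mem_bot] at hr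
    exact hr
  · obtain ⟨X, hX, hXc⟩ := exists_card_prime hp (by rwa [Nat.card_zpowers] : p ∣ Nat.card
      (zpowers r))
    obtain ⟨e1, e2⟩ := hstar X (hX.trans hrt) hXc
    have h1 := ord_sigma hG hL hrL
    rw [isPi_zpowers] at h1
    obtain ⟨g, hg⟩ := sigma_conj_of hG hN hL ⟨p, hpN, h1 p hp hpr⟩
    have hxN1 : zpowers r ≤ L := by rw [zpowers_le]; exact sigmaCore_le hG hL hrL
    have h3 : X ^ᵍ g⁻¹ ≤ N := by
      rw [← le_cj_iff, ← hg]; exact hX.trans hxN1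
    have h4 := mem_of_cj_le hG hN hp hXc (e1.trans inf_le_left) e2 h3
    have h5 : L = N := by rw [hg, cj_eq_of_mem (by rwa [← inv_inv g, inv_mem_iff])]
    subst h5
    obtain ⟨a, ha, had⟩ := exists_prime_dvd_of_ne_bot (show zpowers x ≠ ⊥ by
      rwa [Ne, zpowers_eq_bot])
    have ha2 := htau a ha had
    obtain ⟨Y, hY, hYc⟩ := exists_card_prime ha had
    have h6 : Y ≤ J := Z_sub_J hG hN hJ ((hY.trans hxt).trans htZ)
      ((isPi_of_card_prime ha hYc).mono (by rintro s rfl; exact ha2.2.1))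
    exact kappa_not_tau2 hG (hall_isPi hJ a ha (by rw [← hYc]; exact card_dvd_of_le h6)) ha2

/-- the same kind of element controls fusion -/
theorem T_fusion {N J : Subgroup G} (hN : IsCoatom N) (hJ : IsPiHallOf (kappa N) J N)
    (hJ1 : J ≠ ⊥) {t g : G} (ht : t ∈ J ⊔ (sigmaCore N ⊓ 𝓒(J))) {p q : ℕ}
    (hp : p.Prime) (hpt : p ∣ orderOf t) (hpN : p ∈ sigma N) (hq : q.Prime) (hqt : q ∣ orderOf t)
    (hqN : q ∉ sigma N) (hg : g * t * g⁻¹ ∈ N) : g ∈ N ∧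
    (g * t * g⁻¹ ∈ J ⊔ (sigmaCore N ⊓ 𝓒(J)) → g ∈ J ⊔ (sigmaCore N ⊓ 𝓒(J))) := by
  have htZ : zpowers t ≤ J ⊔ (sigmaCore N ⊓ 𝓒(J)) := by rwa [zpowers_le]
  have hcj : ∀ X : Subgroup G, X ≤ zpowers t → ∀ Y : Subgroup G, g * t * g⁻¹ ∈ Y → X ^ᵍ g ≤ Y := by
    intro X hX Y hY
    refine (cj_mono hX g).trans ?_
    intro y hy
    rw [mem_cj] at hy
    obtain ⟨n, hn⟩ := hy
    have h1 : y = (g * t * g⁻¹) ^ n := by
      have hn' : t ^ n = g⁻¹ * y * g := hn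
      rw [conj_zpow, hn']; group
    rw [h1]
    exact Y.zpow_mem hY n
  obtain ⟨X, hX, hXc⟩ := exists_card_prime hp (by rwa [Nat.card_zpowers] : p ∣ Nat.card
    (zpowers t))
  have e1 : X ≤ sigmaCore N ⊓ 𝓒(J) := Z_sub_star hG hN hJ (hX.trans htZ)
    ((isPi_of_card_prime hp hXc).mono (by rintro s rfl; exact hpN))
  have e2 := (kstar_uniq hG hN hJ hJ1 hp hXc e1).1
  have hgN := mem_of_cj_le hG hN hp hXc (e1.trans inf_le_left) e2 (hcj X hX N hg)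
  refine ⟨hgN, fun hgZ => ?_⟩
  obtain ⟨Y, hY, hYc⟩ := exists_card_prime hq (by rwa [Nat.card_zpowers] : q ∣ Nat.card
    (zpowers t))
  have hYπ := isPi_of_card_prime hq hYc
  have f1 : Y ≤ J := Z_sub_J hG hN hJ (hY.trans htZ) (hYπ.mono (by rintro s rfl; exact hqN))
  have f2 : Y ^ᵍ g ≤ J := Z_sub_J hG hN hJ (hcj Y hY _ hgZ)
    ((hYπ.cj g).mono (by rintro s rfl; exact hqN))
  obtain ⟨-, h2, -, -⟩ := bg14_2' hG hN hJ hJ1
  by_contra hgn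
  have h3 := h2 g hgN hgn
  have h4 : Y ^ᵍ g ≤ ⊥ := by
    rw [← h3]; exact le_inf f2 (cj_mono f1 g)
  exact ne_bot_of_card_prime hq hYc (cj_eq_bot.1 (le_bot_iff.1 h4))

theorem T_primes {N J : Subgroup G} (hN : IsCoatom N) (hJ : IsPiHallOf (kappa N) J N)
    {t : G} (ht : t ∈ J ⊔ (sigmaCore N ⊓ 𝓒(J))) (htn : t ∉ sigmaCore N ⊓ 𝓒(J)) :
    ∃ q : ℕ, q.Prime ∧ q ∣ orderOf t ∧ q ∉ sigma N := by
  by_contra hcon
  apply htn
  have htZ : zpowers t ≤ J ⊔ (sigmaCore N ⊓ 𝓒(J)) := by rwa [zpowers_le]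
  refine Z_sub_star hG hN hJ htZ (isPi_zpowers.2 fun q hq hd => ?_) (mem_zpowers t)
  by_contra hqN
  exact hcon ⟨q, hq, hd, hqN⟩

end

end CfsgLib.BGPi
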