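import Cfsg.Agent.EqBase
import Cfsg.Agent.LibBG14m

/-! B & G 14.7: the counting argument, part 2. -/

open Subgroup
open scoped Pointwise commutatorElement

namespace CfsgLib.BGPi

open Cfsg

universe u

theorem sum_ncard_le {ι α : Type*} [Finite α] (I : Finset ι) (A : ι → Set α) :
    ∀ (T : Set α), (∀ i ∈ I, ∀ j ∈ I, i ≠ j → Disjoint (A i) (A j)) →
      (∀ i ∈ I, Disjoint (A i) T) → ∑ i ∈ I, (A i).ncard + T.ncard ≤ Nat.card α := by
  classical
  induction I using Finset.induction_on with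
  | empty =>
    intro T _ _
    rw [Finset.sum_empty, zero_add, ← Set.ncard_univ]
    exact Set.ncard_le_ncard (Set.subset_univ T)
  | insert i I hi ih =>
    intro T h hT
    rw [Finset.sum_insert hi, add_comm (A i).ncard, add_assoc, ← Set.ncard_union_eq
      (hT i (Finset.mem_insert_self i I))]
    refine ih (A i ∪ T) (fun j hj k hk => h j (Finset.mem_insert_of_mem hj) k
      (Finset.mem_insert_of_mem hk)) fun j hj => ?_
    rw [Set.disjoint_union_right]
    refine ⟨h j (Finset.mem_insert_of_mem hj) i (Finset.mem_insert_self i I) ?_,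
      hT j (Finset.mem_insert_of_mem hj)⟩
    rintro rfl
    exact hi hj

theorem cover_ncard_le {ι α : Type*} [Finite α] (I : Finset ι) (B : ι → Set α) (S : Set α) :
    S.ncard ≤ {t | t ∈ S ∧ ∀ i ∈ I, t ∉ B i}.ncard + ∑ i ∈ I, (B i).ncard := by
  classical
  induction I using Finset.induction_on with
  | empty =>
    rw [Finset.sum_empty, add_zero]
    refine Set.ncard_le_ncard fun t ht => ⟨ht, fun i hi => absurd hi (Finset.notMem_empty i)⟩
  | insert i I hi ih =>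
    refine ih.trans ?_
    rw [Finset.sum_insert hi, ← add_assoc]
    refine Nat.add_le_add_right ?_ _
    refine (Set.ncard_le_ncard_diff_add_ncard _ (B i)).trans ?_
    refine Nat.add_le_add_right (Set.ncard_le_ncard ?_) _
    rintro t ⟨⟨ht, h1⟩, h2⟩
    refine ⟨ht, fun j hj => ?_⟩
    rcases Finset.mem_insert.1 hj with rfl | hj
    · exact h2
    · exact h1 j hj

section
variable {G : Type u} [Group G] [Finite G]
variable (hG : IsMinSimpleOddOrder G)
include hG

theorem count_contra (I : Finset (Subgroup G)) (J : Subgroup G → Subgroup G) (Z : Subgroup G)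
    (hc : ∀ N ∈ I, IsCoatom N) (hJ : ∀ N ∈ I, IsPiHallOf (kappa N) (J N) N)
    (hJ1 : ∀ N ∈ I, J N ≠ ⊥) (hZ : ∀ N ∈ I, J N ⊔ (sigmaCore N ⊓ 𝓒(J N)) = Z)
    (hP : ∀ N ∈ I, IsPiHallOf (sigma N)ᶜ (J N) N)
    (hnc : ∀ N ∈ I, ∀ N' ∈ I, N ≠ N' → ∀ g : G, N' ≠ N ^ᵍ g)
    (hp : ∀ p : ℕ, p.Prime → p ∣ Nat.card Z → ∃ N ∈ I, p ∈ sigma N)
    (h2 : 2 ≤ I.card) : False := by
  classical
  set Ks : Subgroup G → Subgroup G := fun N => sigmaCore N ⊓ 𝓒(J N) with hKs
  set T : Set G := {t | t ∈ (Z : Set G) ∧ ∀ N ∈ I, t ∉ (Ks N : Set G)} with hT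
  obtain ⟨N₀, hN₀⟩ : I.Nonempty := Finset.card_pos.1 (by omega)
  -- primes of elements of `T`
  have hT1 : ∀ t ∈ T, t ≠ 1 := by
    rintro t ht rfl
    exact ht.2 N₀ hN₀ (one_mem _)
  have hTp : ∀ t ∈ T, ∃ N ∈ I, (∃ p : ℕ, p.Prime ∧ p ∣ orderOf t ∧ p ∈ sigma N) ∧
      ∃ q : ℕ, q.Prime ∧ q ∣ orderOf t ∧ q ∉ sigma N := by
    intro t ht
    obtain ⟨p, hpp, hpd⟩ := Nat.exists_prime_and_dvd (fun h => hT1 t ht (orderOf_eq_one_iff.1 h) :
      orderOf t ≠ 1)
    obtain ⟨N, hN, hpN⟩ := hp p hpp (hpd.trans (by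
      rw [← Nat.card_zpowers]; exact card_dvd_of_le (zpowers_le.2 ht.1)))
    exact ⟨N, hN, ⟨p, hpp, hpd, hpN⟩, T_primes hG (hc N hN) (hJ N hN) (by
      rw [hZ N hN]; exact ht.1) (ht.2 N hN)⟩
  -- TI
  have t1 : ∀ w ∈ Z, ∀ t ∈ T, w * t * w⁻¹ ∈ T := by
    intro w hw t ht
    refine ⟨Z.mul_mem (Z.mul_mem hw ht.1) (Z.inv_mem hw), fun N hN h => ht.2 N hN ?_⟩
    have h3 : w ∈ 𝓝(Ks N) := by
      rw [← hZ N hN] at hw
      exact Z_nz' hG hw
    exact (Subgroup.mem_normalizer_iff.1 h3 t).2 h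
  have t2 : ∀ g t : G, t ∈ T → g * t * g⁻¹ ∈ T → g ∈ Z := by
    intro g t ht hg
    obtain ⟨N, hN, ⟨p, hpp, hpd, hpN⟩, q, hq, hqd, hqN⟩ := hTp t ht
    have h3 := T_fusion hG (hc N hN) (hJ N hN) (hJ1 N hN) (t := t) (g := g)
      (by rw [hZ N hN]; exact ht.1) hpp hpd hpN hq hqd hqN
      (Z_le_N hG (hc N hN) (hJ N hN) (by rw [hZ N hN]; exact hg.1))
    rw [hZ N hN] at h3
    exact h3.2 hg.1
  have e1 := ti_count t1 t2
  set C : Set G := {a : G | ∃ g : G, ∃ t ∈ T, a = g * t * g⁻¹} with hC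
  have e2 : ∑ N ∈ I, (tildeOf N ((sigmaCore N : Set G) \ {1})).ncard + C.ncard ≤ Nat.card G := by
    refine sum_ncard_le I _ C (fun N hN N' hN' hne => tilde_disj hG (hc N hN) (hc N' hN')
      (hnc N hN N' hN' hne)) fun N hN => ?_
    rw [Set.disjoint_left]
    rintro u hu ⟨g, t, ht, rfl⟩
    have h3 := tilde_conj hG g⁻¹ hu
    have h4 : g⁻¹ * (g * t * g⁻¹) * g⁻¹⁻¹ = t := by group
    rw [h4] at h3
    obtain ⟨N', hN', ⟨p, hpp, hpd, hpN⟩, q, hq, hqd, hqN⟩ := hTp t ht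
    exact T_tilde hG (hc N' hN') (hJ N' hN') (hJ1 N' hN') (hc N hN) (by
      rw [hZ N' hN']; exact ht.1) hpp hpd hpN hq hqd hqN h3
  have e3 : Nat.card Z + I.card ≤ T.ncard + ∑ N ∈ I, Nat.card (Ks N) + 1 := by
    have h3 := cover_ncard_le I (fun N => (Ks N : Set G) \ {1}) (Z : Set G)
    have h4 : {t | t ∈ (Z : Set G) ∧ ∀ i ∈ I, t ∉ (Ks i : Set G) \ {1}}.ncard ≤ T.ncard + 1 := by
      refine (Set.ncard_le_ncard (t := T ∪ {1}) ?_).trans ?_
      · rintro t ⟨ht, h5⟩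
        by_cases h6 : t = 1
        · exact Or.inr h6
        · exact Or.inl ⟨ht, fun N hN h7 => h5 N hN ⟨h7, h6⟩⟩
      · refine (Set.ncard_union_le _ _).trans ?_
        rw [Set.ncard_singleton]
    have h5 : ∀ N : Subgroup G, ((N : Set G) \ {1}).ncard + 1 = Nat.card N := by
      intro N
      rw [Set.ncard_diff_singleton_add_one (one_mem N)]
      exact (Nat.card_coe_set_eq (N : Set G)).symm
    have h6 : ∑ N ∈ I, ((Ks N : Set G) \ {1}).ncard + I.card = ∑ N ∈ I, Nat.card (Ks N) := by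
      rw [Finset.card_eq_sum_ones, ← Finset.sum_add_distrib]
      exact Finset.sum_congr rfl fun N _ => h5 (Ks N)
    have h7 : (Z : Set G).ncard = Nat.card Z := (Nat.card_coe_set_eq (Z : Set G)).symm
    rw [h7] at h3
    omega
  have e4 : ∀ N ∈ I, 3 * Nat.card (Ks N) * Nat.card G ≤
      3 * Nat.card Z * (tildeOf N ((sigmaCore N : Set G) \ {1})).ncard + Nat.card G := by
    intro N hN
    have a1 : Nat.card Z = Nat.card (J N) * Nat.card (Ks N) := by
      rw [← hZ N hN]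
      exact card_sup_of_disjoint (Z_comm hG) (by
        rw [inf_comm]
        exact cop_inf (((hall_isPi (sigma_hall hG (hc N hN))).le inf_le_left).coprime
          (kap_sig hG (hJ N hN))))
    have a2 : Nat.card N = Nat.card (J N) * Nat.card (sigmaCore N) := by
      have b1 : J N ⊔ sigmaCore N = N := by
        rw [sup_comm]; exact compl_sup hG (hc N hN) (hP N hN)
      have b2 := card_sup_of_disjoint ((hall_le (hP N hN)).trans (le_nz_sigmaCore hG N)) (by
        rw [inf_comm]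
        exact cop_inf ((hall_isPi (sigma_hall hG (hc N hN))).coprime
          (kap_sig hG (hJ N hN))))
      rw [b1] at b2
      exact b2
    have a3 : Nat.card N * N.index = Nat.card G := card_mul_index N
    have a4 := star_card hG (hc N hN) (hJ N hN) (hJ1 N hN)
    rw [tilde_card hG (hc N hN), ← a3, a2, a1]
    have a5 : 0 < Nat.card (sigmaCore N) := Nat.card_pos
    set a := Nat.card (sigmaCore N)
    set j := Nat.card (J N)
    set i := N.index
    have a4' : 3 * Nat.card (Ks N) ≤ a := a4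
    set k := Nat.card (Ks N)
    obtain ⟨b, hb⟩ : ∃ b, a = b + 1 := ⟨a - 1, by omega⟩
    rw [hb] at a4' ⊢
    rw [Nat.add_sub_cancel]
    nlinarith [Nat.mul_le_mul_left (j * i) a4']
  have e5 : 3 * (∑ N ∈ I, Nat.card (Ks N)) * Nat.card G ≤
      3 * Nat.card Z * (∑ N ∈ I, (tildeOf N ((sigmaCore N : Set G) \ {1})).ncard) +
        I.card * Nat.card G := by
    have h3 := Finset.sum_le_sum e4
    rw [Finset.sum_add_distrib, ← Finset.sum_mul, ← Finset.mul_sum, ← Finset.mul_sum,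
      Finset.sum_const, smul_eq_mul] at h3
    exact h3
  have hg : 0 < Nat.card G := Nat.card_pos
  set S := ∑ N ∈ I, (tildeOf N ((sigmaCore N : Set G) \ {1})).ncard
  set B := ∑ N ∈ I, Nat.card (Ks N)
  set z := Nat.card Z
  set g := Nat.card G
  set t := T.ncard
  set c := C.ncard
  set n := I.card
  have f1 : 3 * z * (S + c) ≤ 3 * z * g := Nat.mul_le_mul_left _ e2
  have f2 : 3 * g * (z + n) ≤ 3 * g * (t + B + 1) := Nat.mul_le_mul_left _ e3
  nlinarith [Nat.mul_le_mul_right g h2]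

end

end CfsgLib.BGPi
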