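import Cfsg.Agent.EqBase
import Cfsg.Agent.LibBG14n

/-! B & G 14.7: the dual maximal subgroup. -/

open Subgroup
open scoped Pointwise commutatorElement

namespace CfsgLib.BGPi

open Cfsg

universe u

section
variable {G : Type u} [Group G] [Finite G]

/-- `L` is the dual `M*` of `M` with respect to the Hall `κ(M)`-subgroup `K` -/
structure Dual (M L K : Subgroup G) : Prop where
  hM : IsCoatom M
  hL : IsCoatom L
  hK : IsPiHallOf (kappa M) K M
  K1 : K ≠ ⊥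
  hJ : IsPiHallOf (kappa L) (sigmaCore M ⊓ 𝓒(K)) L
  hS : K = sigmaCore L ⊓ 𝓒(sigmaCore M ⊓ 𝓒(K))

variable (hG : IsMinSimpleOddOrder G)
include hG

theorem kap_cyc_of_nilp {M K : Subgroup G} (hM : IsCoatom M) (hK : IsPiHallOf (kappa M) K M)
    (hK1 : K ≠ ⊥) (hn : Group.IsNilpotent K) : kappa M = tau1 M ∧ IsCyclic K := by
  rcases kap_cases hG hM hK hK1 with ⟨h1, h2, -⟩ | ⟨h2, hKE, hκ, r, hr, R, hRK, hR, hC⟩
  · exact ⟨h1, h2⟩
  · exfalso
    have h3 := nilp_ab hG hM (hall_le hK) hn (kap_sig hG hK)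
    exact tau3_not_cz hG hM hKE hr hRK hR (h3.trans (cz_anti hRK))

theorem Dual.star1 {M L K : Subgroup G} (d : Dual M L K) : sigmaCore M ⊓ 𝓒(K) ≠ ⊥ :=
  kap_star_ne hG d.hM d.hK d.K1

theorem Dual.symm {M L K : Subgroup G} (d : Dual M L K) : Dual L M (sigmaCore M ⊓ 𝓒(K)) where
  hM := d.hL
  hL := d.hM
  hK := d.hJ
  K1 := d.star1 hG
  hJ := by rw [← d.hS]; exact d.hK
  hS := by rw [← d.hS]

theorem Dual.pair {M L K : Subgroup G} (d : Dual M L K) :
    ∃ y₁ y₂, KPair M L K (sigmaCore M ⊓ 𝓒(K)) y₁ y₂ := by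
  obtain ⟨⟨y₁, h1⟩, h1'⟩ := Subgroup.ne_bot_iff_exists_ne_one.1 (d.star1 hG)
  obtain ⟨⟨y₂, h2⟩, h2'⟩ := Subgroup.ne_bot_iff_exists_ne_one.1 d.K1
  refine ⟨y₁, y₂, d.hM, d.hL, d.hK, d.hJ, h1, h1, fun h => h1' (Subtype.ext h), ?_, h2,
    fun h => h2' (Subtype.ext h)⟩
  rw [← d.hS]; exact h2

theorem Dual.uniqL {M L K Y : Subgroup G} (d : Dual M L K) {y : ℕ} (hy : y.Prime)
    (hYc : Nat.card Y = y) (hY : Y ≤ K) : 𝓒(Y) ≤ L ∧ ∀ N : Subgroup G, IsCoatom N → 𝓒(Y) ≤ N →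
      N = L := by
  have h1 := kstar_uniq hG d.hL d.hJ (d.star1 hG) hy hYc (by rw [← d.hS]; exact hY)
  exact ⟨h1.1, h1.2.1⟩

theorem Dual.uniqM {M L K X : Subgroup G} (d : Dual M L K) {x : ℕ} (hx : x.Prime)
    (hXc : Nat.card X = x) (hX : X ≤ sigmaCore M ⊓ 𝓒(K)) : 𝓒(X) ≤ M ∧
      ∀ N : Subgroup G, IsCoatom N → 𝓒(X) ≤ N → N = M := by
  have h1 := kstar_uniq hG d.hM d.hK d.K1 hx hXc hX
  exact ⟨h1.1, h1.2.1⟩

theorem Dual.unique {M L L' K : Subgroup G} (d : Dual M L K) (d' : Dual M L' K) : L' = L := by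
  obtain ⟨y, hy, -, Y, hY, hYc⟩ := exists_prime_sub d.K1
  exact (d.uniqL hG hy hYc hY).2 L' d'.hL (d'.uniqL hG hy hYc hY).1

/-- two members of the family of Step B are not conjugate -/
theorem fam_nc {M K L J L' J' : Subgroup G} {y₁ y₂ y₁' y₂' : G} (c : KPair M L K J y₁ y₂)
    (c' : KPair M L' K J' y₁' y₂') (g : G) (h : L' = L ^ᵍ g) : L = L' := by
  have h1 := c.symm.hall hG
  have h2 := c'.symm.hall hG
  have e1 : sigma L' = sigma L := by rw [h, sigma_cj]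
  rw [e1] at h2
  have h3 : sigmaCore L' ⊓ 𝓒(J') ≤ sigmaCore L ⊓ 𝓒(J) := by
    refine le_hall_of_normal (H := sigmaCore L ⊓ 𝓒(J)) (M := K) ?_ ?_ (hall_isPi h2)
      (c'.symm.star_le hG)
    · exact hall_le_of_le h1 (c.symm.star_le hG) (hall_le c.hK)
    · have h4 : K ≤ 𝓝(sigmaCore L ⊓ M) :=
        le_nz_inf ((c.kle hG).trans (le_nz_sigmaCore hG L)) ((hall_le c.hK).trans le_normalizer)
      rw [c.symm.sig hG] at h4
      exact h4
  obtain ⟨x, hx, -, X, hX, hXc⟩ := exists_prime_sub (kap_star_ne hG c'.hL c'.hJ (c'.symm.K1 hG))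
  have h5 := kstar_uniq hG c'.hL c'.hJ (c'.symm.K1 hG) hx hXc hX
  have h6 := kstar_uniq hG c.hL c.hJ (c.symm.K1 hG) hx hXc (hX.trans h3)
  exact h5.2.1 L c.hL h6.1

theorem KPair.card_eq {M L K J : Subgroup G} {y₁ y₂ : G} (c : KPair M L K J y₁ y₂) :
    Nat.card K * Nat.card ↥(sigmaCore M ⊓ 𝓒(K)) = Nat.card J * Nat.card ↥(sigmaCore L ⊓ 𝓒(J)) := by
  have h : ∀ {N I : Subgroup G}, IsCoatom N → IsPiHallOf (kappa N) I N →
      Nat.card ↥(I ⊔ (sigmaCore N ⊓ 𝓒(I))) = Nat.card I * Nat.card ↥(sigmaCore N ⊓ 𝓒(I)) := by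
    intro N I hN hI
    exact card_sup_of_disjoint (Z_comm hG) (by
      rw [inf_comm]
      exact cop_inf (((hall_isPi (sigma_hall hG hN)).le inf_le_left).coprime (kap_sig hG hI)))
  rw [← h c.hM c.hK, ← h c.hL c.hJ, c.Z_eq hG]

/-- if the two `K`s have the right inclusions one gets a dual -/
theorem KPair.dual_of_J {M L K J : Subgroup G} {y₁ y₂ : G} (c : KPair M L K J y₁ y₂)
    (hJ : J = sigmaCore M ⊓ 𝓒(K)) : Dual M L K := by
  have h1 := c.card_eq hG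
  have h2 : K = sigmaCore L ⊓ 𝓒(J) := by
    refine (eq_of_le_of_card_ge (c.symm.star_le hG) ?_).symm
    rw [← hJ, mul_comm] at h1
    exact (Nat.eq_of_mul_eq_mul_left Nat.card_pos h1).le
  refine ⟨c.hM, c.hL, c.hK, c.K1 hG, hJ ▸ c.hJ, ?_⟩
  rw [← hJ]; exact h2

theorem KPair.dual_of_K {M L K J : Subgroup G} {y₁ y₂ : G} (c : KPair M L K J y₁ y₂)
    (hK : K = sigmaCore L ⊓ 𝓒(J)) : Dual M L K := by
  have h1 := c.symm.dual_of_J hG hK
  have h2 := h1.symm hG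
  rwa [← hK] at h2

open scoped Classical in
/-- 14.7, the main step -/
theorem exists_dual {M K : Subgroup G} (hM : IsCoatom M) (hK : IsPiHallOf (kappa M) K M)
    (hK1 : K ≠ ⊥) : ∃ L, Dual M L K ∧ IsCyclic K ∧ IsCyclic ↥(sigmaCore M ⊓ 𝓒(K)) ∧
      ((¬ IsPiHallOf (sigma M)ᶜ K M ∧ (Nat.card K).Prime) ∨
        (¬ IsPiHallOf (sigma L)ᶜ (sigmaCore M ⊓ 𝓒(K)) L ∧
          (Nat.card ↥(sigmaCore M ⊓ 𝓒(K))).Prime)) := by
  have key : ∀ {N J : Subgroup G}, IsCoatom N → IsPiHallOf (kappa N) J N → J ≠ ⊥ →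
      ¬ IsPiHallOf (sigma N)ᶜ J N → (Nat.card J).Prime ∧ Group.IsNilpotent (sigmaCore N) := by
    intro N J hN hJ hJ1 hP
    obtain ⟨E, U, hE, hJE, hEU, hU, hUab, hl⟩ := kap_struct hG hN hJ hJ1
    have hU1 : U ≠ ⊥ := by
      intro h
      apply hP
      have h3 : J = E := by
        have h4 := hall_sup_compl (hall_le_of_le hJ hJE (hall_le hE)) hU
        rw [h, sup_bot_eq] at h4
        exact h4
      rw [h3]; exact hE
    have h5 := kap_prime hG hN hJ hJ1 hE hJE hEU hU hU1 (by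
      intro k hk hk1
      obtain ⟨x, hx, -, X, hX, hXc⟩ := exists_prime_sub (show zpowers k ≠ ⊥ by
        rwa [Ne, zpowers_eq_bot])
      have h6 := (hl x X hx (hX.trans (by rwa [zpowers_le])) hXc).1
      rw [eq_bot_iff, ← h6, cz1_eq]
      exact inf_le_inf le_rfl (cz_anti hX))
    exact ⟨h5.1, h5.2.1⟩
  have hKM := hall_le hK
  by_cases hP : IsPiHallOf (sigma M)ᶜ K M
  swap
  · obtain ⟨hp, hn⟩ := key hM hK hK1 hP
    obtain ⟨L, hL, hNL⟩ := exists_max hG (nz_line_ne_top hG hp rfl)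
    obtain ⟨J, y₁, y₂, c, hX⟩ := exists_KPair hG hM hK hp rfl le_rfl hL hNL
    have hKe : K = sigmaCore L ⊓ 𝓒(J) := le_antisymm hX (c.symm.star_le hG)
    have d := c.dual_of_K hG hKe
    refine ⟨L, d, ?_, ?_, Or.inl ⟨hP, hp⟩⟩
    · haveI := Fact.mk hp
      exact isCyclic_of_prime_card (p := Nat.card K) rfl
    · exact (kap_cyc_of_nilp hG hL d.hJ (d.star1 hG) (nilpotent_sub inf_le_left hn)).2
  -- the family
  let F : Set (Subgroup G) := {L | IsCoatom L ∧ ∃ (x : ℕ) (X : Subgroup G), x.Prime ∧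
    Nat.card X = x ∧ X ≤ K ∧ 𝓝(X) ≤ L}
  have hF : ∀ L : Subgroup G, L ∈ F → ∃ J y₁ y₂, KPair M L K J y₁ y₂ := by
    rintro L ⟨hL, x, X, hx, hXc, hX, hN⟩
    obtain ⟨J, y₁, y₂, c, -⟩ := exists_KPair hG hM hK hx hXc hX hL hN
    exact ⟨J, y₁, y₂, c⟩
  have hMF : M ∉ F := by
    intro h
    obtain ⟨J, y₁, y₂, c⟩ := hF M h
    exact c.hnc hG 1 (cj_one M).symm
  have hch : ∀ L : Subgroup G, ∃ J : Subgroup G, (L = M → J = K) ∧
      (L ∈ F → ∃ y₁ y₂, KPair M L K J y₁ y₂) := by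
    intro L
    by_cases h1 : L ∈ F
    · obtain ⟨J, hJ⟩ := hF L h1
      exact ⟨J, fun h => absurd (h ▸ h1) hMF, fun _ => hJ⟩
    · exact ⟨K, fun _ => rfl, fun h => absurd h h1⟩
  choose J hJM hJF using hch
  have hex : ∃ L ∈ F, ¬ IsPiHallOf (sigma L)ᶜ (J L) L := by
    by_contra hcon
    have hcon' : ∀ L ∈ F, IsPiHallOf (sigma L)ᶜ (J L) L := by
      intro L hL
      by_contra h
      exact hcon ⟨L, hL, h⟩
    let I : Finset (Subgroup G) := insert M (Set.toFinite F).toFinset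
    have hI : ∀ N ∈ I, N = M ∨ N ∈ F := by
      intro N hN
      rcases Finset.mem_insert.1 hN with h | h
      · exact Or.inl h
      · exact Or.inr ((Set.Finite.mem_toFinset _).1 h)
    refine count_contra hG I J (K ⊔ (sigmaCore M ⊓ 𝓒(K))) ?_ ?_ ?_ ?_ ?_ ?_ ?_ ?_
    · intro N hN
      rcases hI N hN with rfl | h
      · exact hM
      · exact h.1
    · intro N hN
      rcases hI N hN with h | h
      · rw [hJM N h, h]; exact hK
      · obtain ⟨y₁, y₂, c⟩ := hJF N h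
        exact c.hJ
    · intro N hN
      rcases hI N hN with h | h
      · rw [hJM N h]; exact hK1
      · obtain ⟨y₁, y₂, c⟩ := hJF N h
        exact c.symm.K1 hG
    · intro N hN
      rcases hI N hN with h | h
      · rw [hJM N h, h]
      · obtain ⟨y₁, y₂, c⟩ := hJF N h
        exact (c.Z_eq hG).symm
    · intro N hN
      rcases hI N hN with h | h
      · rw [hJM N h, h]; exact hP
      · exact hcon' N h
    · intro N hN N' hN' hne g hg
      rcases hI N hN with h | h <;> rcases hI N' hN' with h' | h'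
      · exact hne (h.trans h'.symm)
      · obtain ⟨y₁, y₂, c⟩ := hJF N' h'
        rw [h] at hg
        exact c.hnc hG g hg
      · obtain ⟨y₁, y₂, c⟩ := hJF N h
        rw [h'] at hg
        refine c.hnc hG g⁻¹ ?_
        rw [hg, cj_inv_cj]
      · obtain ⟨y₁, y₂, c⟩ := hJF N h
        obtain ⟨y₁', y₂', c'⟩ := hJF N' h'
        exact hne (fam_nc hG c c' g hg)
    · intro p hp hpd
      by_cases hpM : p ∈ sigma M
      · exact ⟨M, Finset.mem_insert_self _ _, hpM⟩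
      · have h1 := (hall_iff.1 (Z_hall hG hM hK)).2.2 p hp hpM
        have h2 : p ∣ Nat.card K := hall_dvd' hp hpM (Z_hall hG hM hK) hpd
        obtain ⟨X, hX, hXc⟩ := exists_card_prime hp h2
        obtain ⟨L, hL, hNL⟩ := exists_max hG (nz_line_ne_top hG hp hXc)
        refine ⟨L, Finset.mem_insert_of_mem ((Set.Finite.mem_toFinset _).2
          ⟨hL, p, X, hp, hXc, hX, hNL⟩), ?_⟩
        have h3 := kap_above hG hM hK hX hp hXc hL hNL
        exact hall_isPi (sigma_hall hG hL) p hp (by rw [← hXc]; exact card_dvd_of_le h3)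
    · obtain ⟨x, hx, -, X, hX, hXc⟩ := exists_prime_sub hK1
      obtain ⟨L, hL, hNL⟩ := exists_max hG (nz_line_ne_top hG hx hXc)
      have hLF : L ∈ F := ⟨hL, x, X, hx, hXc, hX, hNL⟩
      have h1 : ({M, L} : Finset (Subgroup G)) ⊆ I := by
        intro N hN
        rcases Finset.mem_insert.1 hN with h | h
        · rw [h]; exact Finset.mem_insert_self _ _
        · rw [Finset.mem_singleton.1 h]
          exact Finset.mem_insert_of_mem ((Set.Finite.mem_toFinset _).2 hLF)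
      have h2 := Finset.card_le_card h1
      rwa [Finset.card_pair (by rintro rfl; exact hMF hLF)] at h2
  obtain ⟨L, hLF, hLP⟩ := hex
  obtain ⟨y₁, y₂, c⟩ := hJF L hLF
  obtain ⟨hp, hn⟩ := key c.hL c.hJ (c.symm.K1 hG) hLP
  have hJe : J L = sigmaCore M ⊓ 𝓒(K) := by
    refine (eq_of_le_of_card_ge (c.star_le hG) ?_).symm
    rcases (Nat.dvd_prime hp).1 (card_dvd_of_le (c.star_le hG)) with h | h
    · exact absurd (card_eq_one.1 h) (kap_star_ne hG hM hK hK1)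
    · exact h.ge
  have d := c.dual_of_J hG hJe
  rw [hJe] at hLP hp
  refine ⟨L, d, ?_, ?_, Or.inr ⟨hLP, hp⟩⟩
  · refine (kap_cyc_of_nilp hG hM hK hK1 (nilpotent_sub ?_ hn)).2
    rw [d.hS]; exact inf_le_left
  · haveI := Fact.mk hp
    exact isCyclic_of_prime_card (p := Nat.card ↥(sigmaCore M ⊓ 𝓒(K))) rfl

end

end CfsgLib.BGPi
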