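import Cfsg.Agent.EqBase
import Cfsg.Agent.LibBG14o

/-! B & G 14.7: consequences. -/

open Subgroup
open scoped Pointwise commutatorElement

namespace CfsgLib.BGPi

open Cfsg

universe u

section
variable {G : Type u} [Group G] [Finite G]

theorem cyc_sup {A B : Subgroup G} (hA : IsCyclic A) (hB : IsCyclic B)
    (hc : (Nat.card A).Coprime (Nat.card B)) (h : A ≤ 𝓒(B)) : IsCyclic ↥(A ⊔ B) := by
  obtain ⟨⟨a, ha⟩, ha'⟩ := hA.exists_generator
  obtain ⟨⟨b, hb⟩, hb'⟩ := hB.exists_generator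
  have ea : zpowers a = A := by
    refine le_antisymm (zpowers_le.2 ha) fun x hx => ?_
    obtain ⟨n, hn⟩ := Subgroup.mem_zpowers_iff.1 (ha' ⟨x, hx⟩)
    exact Subgroup.mem_zpowers_iff.2 ⟨n, congrArg Subtype.val hn⟩
  have eb : zpowers b = B := by
    refine le_antisymm (zpowers_le.2 hb) fun x hx => ?_
    obtain ⟨n, hn⟩ := Subgroup.mem_zpowers_iff.1 (hb' ⟨x, hx⟩)
    exact Subgroup.mem_zpowers_iff.2 ⟨n, congrArg Subtype.val hn⟩
  have hab : Commute a b := ((Subgroup.mem_centralizer_iff.1 (h ha)) b hb).symm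
  have oa : orderOf a = Nat.card A := by rw [← Nat.card_zpowers, ea]
  have ob : orderOf b = Nat.card B := by rw [← Nat.card_zpowers, eb]
  have hco : (orderOf a).Coprime (orderOf b) := by rw [oa, ob]; exact hc
  have oab := hab.orderOf_mul_eq_mul_orderOf_of_coprime hco
  have h1 : A ⊔ B = zpowers (a * b) := by
    apply le_antisymm
    · refine sup_le ?_ ?_
      · rw [← ea, zpowers_le]; exact mem_zpowers_mul_of_coprime hab hco
      · rw [← eb, zpowers_le, hab.eq]; exact mem_zpowers_mul_of_coprime hab.symm hco.symm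
    · rw [zpowers_le]
      exact (A ⊔ B).mul_mem (Subgroup.mem_sup_left ha) (Subgroup.mem_sup_right hb)
  rw [h1]
  infer_instance

variable (hG : IsMinSimpleOddOrder G)
include hG

theorem Dual.cyc {M L K : Subgroup G} (d : Dual M L K) : IsCyclic K := by
  obtain ⟨-, -, h1, -⟩ := exists_dual hG d.hM d.hK d.K1
  exact h1

theorem Dual.cycs {M L K : Subgroup G} (d : Dual M L K) : IsCyclic ↥(sigmaCore M ⊓ 𝓒(K)) := by
  obtain ⟨-, -, -, h1, -⟩ := exists_dual hG d.hM d.hK d.K1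
  exact h1

theorem Dual.P2 {M L K : Subgroup G} (d : Dual M L K) :
    (¬ IsPiHallOf (sigma M)ᶜ K M ∧ (Nat.card K).Prime) ∨
        (¬ IsPiHallOf (sigma L)ᶜ (sigmaCore M ⊓ 𝓒(K)) L ∧
          (Nat.card ↥(sigmaCore M ⊓ 𝓒(K))).Prime) := by
  obtain ⟨L', d', -, -, h⟩ := exists_dual hG d.hM d.hK d.K1
  rw [← d'.unique hG d] at h
  exact h

theorem kap_cyc {M K : Subgroup G} (hM : IsCoatom M) (hK : IsPiHallOf (kappa M) K M) :
    IsCyclic K := by
  by_cases h : K = ⊥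
  · rw [h]; infer_instance
  · obtain ⟨-, -, h1, -⟩ := exists_dual hG hM hK h
    exact h1

theorem kap_tau1 {M K : Subgroup G} (hM : IsCoatom M) (hK : IsPiHallOf (kappa M) K M)
    (hK1 : K ≠ ⊥) : kappa M = tau1 M := by
  haveI := kap_cyc hG hM hK
  exact (kap_cyc_of_nilp hG hM hK hK1 (nilp_of_comm inferInstance)).1

theorem Dual.inf {M L K : Subgroup G} (d : Dual M L K) :
    M ⊓ L = K ⊔ (sigmaCore M ⊓ 𝓒(K)) := by
  obtain ⟨y₁, y₂, c⟩ := d.pair hG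
  exact c.inf hG

theorem kap_cop {M K : Subgroup G} (hM : IsCoatom M) (hK : IsPiHallOf (kappa M) K M) :
    (Nat.card K).Coprime (Nat.card ↥(sigmaCore M ⊓ 𝓒(K))) :=
  (((hall_isPi (sigma_hall hG hM)).le inf_le_left).coprime (kap_sig hG hK)).symm

theorem Z_card {M K : Subgroup G} (hM : IsCoatom M) (hK : IsPiHallOf (kappa M) K M) :
    Nat.card ↥(K ⊔ (sigmaCore M ⊓ 𝓒(K))) = Nat.card K * Nat.card ↥(sigmaCore M ⊓ 𝓒(K)) :=
  card_sup_of_disjoint (Z_comm hG) (cop_inf (kap_cop hG hM hK))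

theorem Z_cyc {M K : Subgroup G} (hM : IsCoatom M) (hK : IsPiHallOf (kappa M) K M)
    (hK1 : K ≠ ⊥) : IsCyclic ↥(K ⊔ (sigmaCore M ⊓ 𝓒(K))) := by
  obtain ⟨L, d, h1, h2, -⟩ := exists_dual hG hM hK hK1
  exact cyc_sup h1 h2 (kap_cop hG hM hK) (le_cz_comm.1 inf_le_right)

theorem Z_ab {M K : Subgroup G} (hM : IsCoatom M) (hK : IsPiHallOf (kappa M) K M)
    (hK1 : K ≠ ⊥) {x y : G} (hx : x ∈ K ⊔ (sigmaCore M ⊓ 𝓒(K)))
    (hy : y ∈ K ⊔ (sigmaCore M ⊓ 𝓒(K))) : x * y = y * x := by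
  haveI := Z_cyc hG hM hK hK1
  have h3 := IsMulCommutative.is_comm.comm (⟨x, hx⟩ : ↥(K ⊔ (sigmaCore M ⊓ 𝓒(K)))) ⟨y, hy⟩
  exact congrArg Subtype.val h3

theorem Dual.czx {M L K : Subgroup G} (d : Dual M L K) {x : G} (hx : x ∈ K) (hx1 : x ≠ 1) :
    Subgroup.centralizer ({x} : Set G) ≤ L ∧
      M ⊓ Subgroup.centralizer ({x} : Set G) = K ⊔ (sigmaCore M ⊓ 𝓒(K)) := by
  obtain ⟨p, hp, -, X, hX, hXc⟩ := exists_prime_sub (show zpowers x ≠ ⊥ by
    rwa [Ne, zpowers_eq_bot])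
  have h1 : Subgroup.centralizer ({x} : Set G) ≤ L := by
    rw [cz1_eq]
    exact (cz_anti hX).trans (d.uniqL hG hp hXc (hX.trans (by rwa [zpowers_le]))).1
  refine ⟨h1, le_antisymm ?_ (le_inf (Z_le_N hG d.hM d.hK) fun y hy => ?_)⟩
  · rw [← d.inf hG]; exact inf_le_inf le_rfl h1
  · rw [Subgroup.mem_centralizer_singleton_iff]
    exact Z_ab hG d.hM d.hK d.K1 hy (Subgroup.mem_sup_left hx)

theorem Dual.Zs {M L K : Subgroup G} (d : Dual M L K) :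
    (sigmaCore M ⊓ 𝓒(K)) ⊔ (sigmaCore L ⊓ 𝓒(sigmaCore M ⊓ 𝓒(K))) =
      K ⊔ (sigmaCore M ⊓ 𝓒(K)) := by
  rw [← d.hS, sup_comm]

theorem Dual.czy {M L K : Subgroup G} (d : Dual M L K) {y : G} (hy : y ∈ sigmaCore M ⊓ 𝓒(K))
    (hy1 : y ≠ 1) : Subgroup.centralizer ({y} : Set G) ≤ M ∧
      L ⊓ Subgroup.centralizer ({y} : Set G) = K ⊔ (sigmaCore M ⊓ 𝓒(K)) := by
  have h := (d.symm hG).czx hG hy hy1
  rw [d.Zs hG] at h
  exact h

theorem Dual.czxy {M L K : Subgroup G} (d : Dual M L K) {x y : G} (hx : x ∈ K) (hx1 : x ≠ 1)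
    (hy : y ∈ sigmaCore M ⊓ 𝓒(K)) (hy1 : y ≠ 1) :
    Subgroup.centralizer ({x * y} : Set G) = K ⊔ (sigmaCore M ⊓ 𝓒(K)) := by
  have hxy : Commute x y := Z_ab hG d.hM d.hK d.K1 (Subgroup.mem_sup_left hx)
    (Subgroup.mem_sup_right hy)
  have hco : (orderOf x).Coprime (orderOf y) := by
    rw [← Nat.card_zpowers, ← Nat.card_zpowers]
    exact Nat.Coprime.of_dvd (card_dvd_of_le (zpowers_le.2 hx)) (card_dvd_of_le (zpowers_le.2 hy))
      (kap_cop hG d.hM d.hK)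
  apply le_antisymm
  · rw [← d.inf hG]
    have h1 : Subgroup.centralizer ({x * y} : Set G) ≤ Subgroup.centralizer ({x} : Set G) := by
      rw [cz1_eq, cz1_eq]
      refine cz_anti ?_
      rw [zpowers_le]; exact mem_zpowers_mul_of_coprime hxy hco
    have h2 : Subgroup.centralizer ({x * y} : Set G) ≤ Subgroup.centralizer ({y} : Set G) := by
      rw [cz1_eq, cz1_eq]
      refine cz_anti ?_
      rw [zpowers_le, hxy.eq]; exact mem_zpowers_mul_of_coprime hxy.symm hco.symm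
    exact le_inf (h2.trans (d.czy hG hy hy1).1) (h1.trans (d.czx hG hx hx1).1)
  · intro z hz
    rw [Subgroup.mem_centralizer_singleton_iff]
    exact Z_ab hG d.hM d.hK d.K1 hz (Subgroup.mul_mem _ (Subgroup.mem_sup_left hx)
      (Subgroup.mem_sup_right hy))

/-- elements of `Ẑ` -/
theorem hat_mem {M K : Subgroup G} {z : G}
    (hz : z ∈ K ⊔ (sigmaCore M ⊓ 𝓒(K))) (h1 : z ∉ K) (h2 : z ∉ sigmaCore M ⊓ 𝓒(K)) :
    ∃ x ∈ K, ∃ y ∈ sigmaCore M ⊓ 𝓒(K), x ≠ 1 ∧ y ≠ 1 ∧ z = x * y := by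
  obtain ⟨x, hx, y, hy, rfl⟩ := (mem_sup_of_nz (Z_comm hG)).1 hz
  refine ⟨x, hx, y, hy, ?_, ?_, rfl⟩
  · rintro rfl
    exact h2 (by rwa [one_mul])
  · rintro rfl
    exact h1 (by rwa [mul_one])

end

end CfsgLib.BGPi
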