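import Cfsg.Agent.EqBase
import Cfsg.Agent.LibBG14p

/-! B & G 14.7: the set of elements of `K K*` outside `K` and `K*`. -/

open Subgroup
open scoped Pointwise commutatorElement

namespace CfsgLib.BGPi

open Cfsg

universe u

/-- the set of elements of `K K*` outside `K ∪ K*` -/
def hatZ {G : Type u} [Group G] (M K : Subgroup G) : Set G :=
  (↑(K ⊔ (sigmaCore M ⊓ 𝓒(K))) : Set G) \ ((K : Set G) ∪ ↑(sigmaCore M ⊓ 𝓒(K)))

section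
variable {G : Type u} [Group G] [Finite G]

variable (hG : IsMinSimpleOddOrder G)
include hG

theorem hat_primes {M K : Subgroup G} (hM : IsCoatom M) (hK : IsPiHallOf (kappa M) K M)
    {z : G} (hz : z ∈ hatZ M K) :
    (∃ p : ℕ, p.Prime ∧ p ∣ orderOf z ∧ p ∈ sigma M) ∧
      ∃ q : ℕ, q.Prime ∧ q ∣ orderOf z ∧ q ∉ sigma M := by
  have h1 : z ∉ K := fun h => hz.2 (Or.inl h)
  have h2 : z ∉ sigmaCore M ⊓ 𝓒(K) := fun h => hz.2 (Or.inr h)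
  refine ⟨?_, T_primes hG hM hK hz.1 h2⟩
  by_contra hcon
  apply h1
  have hZ : zpowers z ≤ K ⊔ (sigmaCore M ⊓ 𝓒(K)) := by rw [zpowers_le]; exact hz.1
  refine Z_sub_J hG hM hK hZ (isPi_zpowers.2 fun q hq hd hqN => ?_) (mem_zpowers z)
  exact hcon ⟨q, hq, hd, hqN⟩

theorem hat_fusion {M K : Subgroup G} (hM : IsCoatom M) (hK : IsPiHallOf (kappa M) K M)
    (hK1 : K ≠ ⊥) {z g : G} (hz : z ∈ hatZ M K) (hg : g * z * g⁻¹ ∈ M) : g ∈ M ∧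
      (g * z * g⁻¹ ∈ K ⊔ (sigmaCore M ⊓ 𝓒(K)) → g ∈ K ⊔ (sigmaCore M ⊓ 𝓒(K))) := by
  obtain ⟨⟨p, hp, hpd, hpM⟩, q, hq, hqd, hqM⟩ := hat_primes hG hM hK hz
  exact T_fusion hG hM hK hK1 hz.1 hp hpd hpM hq hqd hqM hg

theorem hat_fusion' {M K : Subgroup G} (hM : IsCoatom M) (hK : IsPiHallOf (kappa M) K M)
    (hK1 : K ≠ ⊥) {z g : G} (hz : z ∈ hatZ M K) (hg : g * z * g⁻¹ ∈ hatZ M K) :
    g ∈ K ⊔ (sigmaCore M ⊓ 𝓒(K)) :=
  (hat_fusion hG hM hK hK1 hz (Z_le_N hG hM hK hg.1)).2 hg.1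

theorem hat_conj {M K : Subgroup G} (hM : IsCoatom M) (hK : IsPiHallOf (kappa M) K M)
    (hK1 : K ≠ ⊥) {z g : G} (hg : g ∈ K ⊔ (sigmaCore M ⊓ 𝓒(K))) (hz : z ∈ hatZ M K) :
    g * z * g⁻¹ ∈ hatZ M K := by
  rw [Z_ab hG hM hK hK1 hg hz.1, mul_inv_cancel_right]
  exact hz

theorem hat_tilde {M K N : Subgroup G} (hM : IsCoatom M) (hK : IsPiHallOf (kappa M) K M)
    (hK1 : K ≠ ⊥) (hN : IsCoatom N) {z : G} (hz : z ∈ hatZ M K)
    (h : z ∈ tildeOf N ((sigmaCore N : Set G) \ {1})) : False := by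
  obtain ⟨⟨p, hp, hpd, hpM⟩, q, hq, hqd, hqM⟩ := hat_primes hG hM hK hz
  exact T_tilde hG hM hK hK1 hN hz.1 hp hpd hpM hq hqd hqM h

theorem mul_mem_hat {M K : Subgroup G} (hM : IsCoatom M) (hK : IsPiHallOf (kappa M) K M)
    {x y : G} (hx : x ∈ K) (hx1 : x ≠ 1) (hy : y ∈ sigmaCore M ⊓ 𝓒(K)) (hy1 : y ≠ 1) :
    x * y ∈ hatZ M K := by
  have h0 : K ⊓ (sigmaCore M ⊓ 𝓒(K)) = ⊥ := cop_inf (kap_cop hG hM hK)
  refine ⟨Subgroup.mul_mem _ (Subgroup.mem_sup_left hx) (Subgroup.mem_sup_right hy), ?_⟩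
  rintro (h | h)
  · have h1 : y ∈ K := (Subgroup.mul_mem_cancel_left K hx).1 h
    have h2 : y ∈ K ⊓ (sigmaCore M ⊓ 𝓒(K)) := ⟨h1, hy⟩
    rw [h0, Subgroup.mem_bot] at h2
    exact hy1 h2
  · have h1 : x ∈ sigmaCore M ⊓ 𝓒(K) := (Subgroup.mul_mem_cancel_right _ hy).1 h
    have h2 : x ∈ K ⊓ (sigmaCore M ⊓ 𝓒(K)) := ⟨hx, h1⟩
    rw [h0, Subgroup.mem_bot] at h2
    exact hx1 h2

theorem hat_ne {M K : Subgroup G} (hM : IsCoatom M) (hK : IsPiHallOf (kappa M) K M)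
    (hK1 : K ≠ ⊥) : (hatZ M K).Nonempty := by
  obtain ⟨⟨x, hx⟩, hx1⟩ := Subgroup.ne_bot_iff_exists_ne_one.1 hK1
  obtain ⟨⟨y, hy⟩, hy1⟩ := Subgroup.ne_bot_iff_exists_ne_one.1 (kap_star_ne hG hM hK hK1)
  exact ⟨x * y, mul_mem_hat hG hM hK hx (fun h => hx1 (Subtype.ext h)) hy
    (fun h => hy1 (Subtype.ext h))⟩

theorem hat_normalizer {M K : Subgroup G} (hM : IsCoatom M) (hK : IsPiHallOf (kappa M) K M)
    (hK1 : K ≠ ⊥) : Subgroup.normalizer (hatZ M K) = K ⊔ (sigmaCore M ⊓ 𝓒(K)) := by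
  apply le_antisymm
  · intro g hg
    obtain ⟨z, hz⟩ := hat_ne hG hM hK hK1
    exact hat_fusion' hG hM hK hK1 hz ((Subgroup.mem_set_normalizer_iff.1 hg z).1 hz)
  · intro g hg
    rw [Subgroup.mem_set_normalizer_iff]
    intro z
    refine ⟨fun hz => hat_conj hG hM hK hK1 hg hz, fun hz => ?_⟩
    have h1 := hat_conj hG hM hK hK1 ((K ⊔ (sigmaCore M ⊓ 𝓒(K))).inv_mem hg) hz
    have h2 : g⁻¹ * (g * z * g⁻¹) * g⁻¹⁻¹ = z := by group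
    rwa [h2] at h1

theorem hat_ti {M K : Subgroup G} (hM : IsCoatom M) (hK : IsPiHallOf (kappa M) K M)
    (hK1 : K ≠ ⊥) : IsTISubset (hatZ M K) := by
  intro g hg z hz hgz
  exfalso
  apply hg
  rw [hat_normalizer hG hM hK hK1]
  exact hat_fusion' hG hM hK hK1 hz hgz

theorem hat_ncard {M K : Subgroup G} (hM : IsCoatom M) (hK : IsPiHallOf (kappa M) K M) :
    (hatZ M K).ncard + Nat.card K + Nat.card ↥(sigmaCore M ⊓ 𝓒(K)) =
      Nat.card K * Nat.card ↥(sigmaCore M ⊓ 𝓒(K)) + 1 := by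
  have h0 : K ⊓ (sigmaCore M ⊓ 𝓒(K)) = ⊥ := cop_inf (kap_cop hG hM hK)
  have h1 : ((K : Set G) ∪ ↑(sigmaCore M ⊓ 𝓒(K))) ⊆
      (↑(K ⊔ (sigmaCore M ⊓ 𝓒(K))) : Set G) := by
    rintro x (hx | hx)
    · exact Subgroup.mem_sup_left hx
    · exact Subgroup.mem_sup_right hx
  have h2 := Set.ncard_diff_add_ncard_of_subset h1
  have h3 := Set.ncard_union_add_ncard_inter (K : Set G) ↑(sigmaCore M ⊓ 𝓒(K))
  have h4 : (K : Set G) ∩ ↑(sigmaCore M ⊓ 𝓒(K)) = {1} := by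
    rw [← Subgroup.coe_inf, h0, Subgroup.coe_bot]
  have h5 : ∀ N : Subgroup G, (N : Set G).ncard = Nat.card N := fun N =>
    (Nat.card_coe_set_eq (N : Set G)).symm
  rw [h4, Set.ncard_singleton, h5, h5] at h3
  rw [h5, Z_card hG hM hK] at h2
  have h6 : (hatZ M K).ncard = ((↑(K ⊔ (sigmaCore M ⊓ 𝓒(K))) : Set G) \ ((K : Set G) ∪
    ↑(sigmaCore M ⊓ 𝓒(K)))).ncard := rfl
  omega

/-- the set of conjugates of the elements of `Ẑ` -/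
theorem hat_count {M K : Subgroup G} (hM : IsCoatom M) (hK : IsPiHallOf (kappa M) K M)
    (hK1 : K ≠ ⊥) :
    Nat.card K * Nat.card ↥(sigmaCore M ⊓ 𝓒(K)) *
      Set.ncard {a : G | ∃ g : G, ∃ z ∈ hatZ M K, a = g * z * g⁻¹} =
        (Nat.card K * Nat.card ↥(sigmaCore M ⊓ 𝓒(K)) - Nat.card K -
          Nat.card ↥(sigmaCore M ⊓ 𝓒(K)) + 1) * Nat.card G := by
  have h1 := ti_count (T := hatZ M K) (W := K ⊔ (sigmaCore M ⊓ 𝓒(K)))
    (fun w hw t ht => hat_conj hG hM hK hK1 hw ht)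
    (fun g t ht hgt => hat_fusion' hG hM hK hK1 ht hgt)
  have h2 := hat_ncard hG hM hK
  have h3 : 0 < Nat.card K := Nat.card_pos
  have h4 : 1 < Nat.card K := (Subgroup.one_lt_card_iff_ne_bot _).2 hK1
  have h5 : 1 < Nat.card ↥(sigmaCore M ⊓ 𝓒(K)) :=
    (Subgroup.one_lt_card_iff_ne_bot _).2 (kap_star_ne hG hM hK hK1)
  rw [Z_card hG hM hK] at h1
  rw [mul_comm, h1]
  congr 1
  set k := Nat.card K
  set k' := Nat.card ↥(sigmaCore M ⊓ 𝓒(K))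
  obtain ⟨a, ha⟩ : ∃ a, k = a + 2 := ⟨k - 2, by omega⟩
  obtain ⟨b, hb⟩ : ∃ b, k' = b + 2 := ⟨k' - 2, by omega⟩
  have h6 : k * k' = a * b + 2 * a + 2 * b + 4 := by rw [ha, hb]; ring
  omega

theorem hat_half {M K : Subgroup G} (hM : IsCoatom M) (hK : IsPiHallOf (kappa M) K M)
    (hK1 : K ≠ ⊥) :
    Nat.card G < 2 * Set.ncard {a : G | ∃ g : G, ∃ z ∈ hatZ M K, a = g * z * g⁻¹} := by
  have h1 := hat_count hG hM hK hK1
  have h4 : 1 < Nat.card K := (Subgroup.one_lt_card_iff_ne_bot _).2 hK1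
  have h5 : 1 < Nat.card ↥(sigmaCore M ⊓ 𝓒(K)) :=
    (Subgroup.one_lt_card_iff_ne_bot _).2 (kap_star_ne hG hM hK hK1)
  have o1 := ms_odd hG K
  have o2 := ms_odd hG (sigmaCore M ⊓ 𝓒(K))
  have hc := kap_cop hG hM hK
  have hg : 0 < Nat.card G := Nat.card_pos
  set k := Nat.card K
  set k' := Nat.card ↥(sigmaCore M ⊓ 𝓒(K))
  set C := Set.ncard {a : G | ∃ g : G, ∃ z ∈ hatZ M K, a = g * z * g⁻¹}
  obtain ⟨a, ha⟩ := o1
  obtain ⟨b, hb⟩ := o2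
  have ha1 : 1 ≤ a := by omega
  have hb1 : 1 ≤ b := by omega
  have hab : a ≠ b := by
    intro h
    have : k = k' := by omega
    rw [this, Nat.coprime_self] at hc
    omega
  have h6 : k * k' = 4 * (a * b) + 2 * a + 2 * b + 1 := by rw [ha, hb]; ring
  have hab1 : 1 ≤ a * b := Nat.mul_pos ha1 hb1
  have h7 : k * k' - k - k' + 1 = 4 * (a * b) := by omega
  rw [h7, h6] at h1
  -- (4ab+2a+2b+1) * C = 4ab * g, want g < 2C
  have h8 : 2 * a + 2 * b + 2 ≤ 4 * (a * b) := by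
    rcases Nat.lt_or_gt_of_ne hab with h | h
    · nlinarith
    · nlinarith
  by_contra hcon
  push Not at hcon
  have h9 : (4 * (a * b) + 2 * a + 2 * b + 1) * (2 * C) ≤
      (4 * (a * b) + 2 * a + 2 * b + 1) * Nat.card G := Nat.mul_le_mul_left _ hcon
  have h10 : (4 * (a * b) + 2 * a + 2 * b + 1) * (2 * C) = 2 * (4 * (a * b) * Nat.card G) := by
    rw [← h1]; ring
  rw [h10] at h9
  nlinarith [Nat.mul_le_mul_right (Nat.card G) h8]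

theorem kappa_cj (M : Subgroup G) (g : G) : kappa (M ^ᵍ g) = kappa M := by
  have h : ∀ (N : Subgroup G) (g : G), kappa N ⊆ kappa (N ^ᵍ g) := by
    intro N g p hp
    obtain ⟨h1, h2, h3, X, hX, hXc, hC⟩ := (kappa_iff hG).1 hp
    refine (kappa_iff hG).2 ⟨h1, by rwa [sigma_cj], rank_cj.2 h3, X ^ᵍ g, cj_mono hX g, ?_, ?_⟩
    · rw [card_cj]; exact hXc
    · rw [sigmaCore_cj, cz_cj, ← cj_inf, Ne, cj_eq_bot]; exact hC
  refine Set.Subset.antisymm ?_ (h M g)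
  have h1 := h (M ^ᵍ g) g⁻¹
  rwa [cj_inv_cj] at h1

/-- every maximal subgroup with nonempty `κ` is conjugate to `M` or to its dual -/
theorem Dual.conj_of {M L K : Subgroup G} (d : Dual M L K) {H : Subgroup G} (hH : IsCoatom H)
    (hκ : (kappa H).Nonempty) : ∃ g : G, H = M ^ᵍ g ∨ H = L ^ᵍ g := by
  obtain ⟨p, hp⟩ := hκ
  obtain ⟨KH, hKH⟩ := hall_exists (π := kappa H) (max_sol hG hH)
  have hp' := (kappa_iff hG).1 hp
  have hKH1 : KH ≠ ⊥ := by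
    intro h
    have h1 : p ∣ Nat.card KH := hall_dvd' hp'.1 hp hKH hp.2.1
    rw [h, Subgroup.card_bot] at h1
    exact hp'.1.one_lt.ne' (Nat.dvd_one.1 h1)
  have h1 := hat_half hG d.hM d.hK d.K1
  have h2 := hat_half hG hH hKH hKH1
  set A := {a : G | ∃ g : G, ∃ z ∈ hatZ M K, a = g * z * g⁻¹}
  set B := {a : G | ∃ g : G, ∃ z ∈ hatZ H KH, a = g * z * g⁻¹}
  have h3 : (A ∩ B).Nonempty := by
    by_contra hcon
    rw [Set.not_nonempty_iff_eq_empty] at hcon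
    have h4 := Set.ncard_union_eq (Set.disjoint_iff_inter_eq_empty.2 hcon)
    have h5 : (A ∪ B).ncard ≤ Nat.card G := by
      rw [← Set.ncard_univ]
      exact Set.ncard_le_ncard (Set.subset_univ _)
    omega
  obtain ⟨a, ⟨g, z, hz, ha⟩, g', z', hz', ha'⟩ := h3
  -- move `H` by `g⁻¹ g'`
  set k := g⁻¹ * g' with hk
  have hzz : z = k * z' * k⁻¹ := by
    have h4 : g * z * g⁻¹ = g' * z' * g'⁻¹ := ha ▸ ha'
    calc z = g⁻¹ * (g * z * g⁻¹) * g := by group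
      _ = g⁻¹ * (g' * z' * g'⁻¹) * g := by rw [h4]
      _ = k * z' * k⁻¹ := by rw [hk]; group
  have hHk := coatom_cj hH k
  have hKk : IsPiHallOf (kappa (H ^ᵍ k)) (KH ^ᵍ k) (H ^ᵍ k) := by
    rw [kappa_cj hG]; exact hall_cj hKH k
  have hKk1 : KH ^ᵍ k ≠ ⊥ := fun h => hKH1 (cj_eq_bot.1 h)
  have hst : sigmaCore (H ^ᵍ k) ⊓ 𝓒(KH ^ᵍ k) = (sigmaCore H ⊓ 𝓒(KH)) ^ᵍ k := by
    rw [cj_inf, sigmaCore_cj, cz_cj]
  have hzk : z ∈ hatZ (H ^ᵍ k) (KH ^ᵍ k) := by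
    obtain ⟨x, hx, y, hy, hx1, hy1, hxy⟩ := hat_mem hG hz'.1 (fun h => hz'.2 (Or.inl h))
      (fun h => hz'.2 (Or.inr h))
    have h4 : z = (k * x * k⁻¹) * (k * y * k⁻¹) := by rw [hzz, hxy]; group
    rw [h4]
    refine mul_mem_hat hG hHk hKk ((mem_cj' hG).2 hx) (fun h => hx1 (conj_eq_one_iff.1 h)) ?_
      (fun h => hy1 (conj_eq_one_iff.1 h))
    rw [hst]; exact (mem_cj' hG).2 hy
  obtain ⟨L', d', -⟩ := exists_dual hG hHk hKk hKk1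
  have hZ : K ⊔ (sigmaCore M ⊓ 𝓒(K)) = (KH ^ᵍ k) ⊔ (sigmaCore (H ^ᵍ k) ⊓ 𝓒(KH ^ᵍ k)) := by
    obtain ⟨x, hx, y, hy, hx1, hy1, hxy⟩ := hat_mem hG hz.1 (fun h => hz.2 (Or.inl h))
      (fun h => hz.2 (Or.inr h))
    obtain ⟨x', hx', y', hy', hx1', hy1', hxy'⟩ := hat_mem hG hzk.1 (fun h => hzk.2 (Or.inl h))
      (fun h => hzk.2 (Or.inr h))
    rw [← d.czxy hG hx hx1 hy hy1, ← d'.czxy hG hx' hx1' hy' hy1', ← hxy, ← hxy']
  obtain ⟨q, hq, -, X, hX, hXc⟩ := exists_prime_sub (d'.star1 hG)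
  obtain ⟨hu1, hu2⟩ := d'.uniqM hG hq hXc hX
  have hXZ : X ≤ K ⊔ (sigmaCore M ⊓ 𝓒(K)) := by rw [hZ]; exact hX.trans le_sup_right
  have hXπ := isPi_of_card_prime hq hXc
  refine ⟨k⁻¹, ?_⟩
  by_cases hqM : q ∈ sigma M
  · left
    have h4 := Z_sub_star hG d.hM d.hK hXZ (hXπ.mono (by rintro s rfl; exact hqM))
    rw [hu2 M d.hM (d.uniqM hG hq hXc h4).1, cj_inv_cj]
  · right
    have h4 := Z_sub_J hG d.hM d.hK hXZ (hXπ.mono (by rintro s rfl; exact hqM))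
    rw [hu2 L d.hL (d.uniqL hG hq hXc h4).1, cj_inv_cj]

end

end CfsgLib.BGPi
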