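import Cfsg.Agent.EqBase
import Cfsg.Agent.LibBG14q

/-! B & G §14: `A(M)`, `A₀(M)` and the covering of `G`. -/

open Subgroup
open scoped Pointwise commutatorElement

namespace CfsgLib.BGPi

open Cfsg

universe u

section
variable {G : Type u} [Group G] [Finite G]

theorem comm_of_zpowers {x b c : G} (hb : b ∈ zpowers x) (hc : c ∈ zpowers x) : Commute b c := by
  obtain ⟨m, rfl⟩ := Subgroup.mem_zpowers_iff.1 hb
  obtain ⟨n, rfl⟩ := Subgroup.mem_zpowers_iff.1 hc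
  exact (Commute.refl x).zpow_zpow m n

theorem exists_parts (π : Set ℕ) (x : G) : ∃ b ∈ zpowers x, ∃ c ∈ zpowers x, x = b * c ∧
    Commute b c ∧ IsPi π (zpowers b) ∧ IsPi πᶜ (zpowers c) := by
  have hN : Group.IsNilpotent (zpowers x) := nilp_of_comm inferInstance
  have h1 := nilpotent_sup_piCoreOf (π := π) hN
  have hle : ∀ ρ : Set ℕ, piCoreOf ρ (zpowers x) ≤ zpowers x := fun ρ => piCoreOf_le _ _
  have h2 : x ∈ piCoreOf π (zpowers x) ⊔ piCoreOf πᶜ (zpowers x) := by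
    rw [h1]; exact mem_zpowers x
  obtain ⟨b, hb, c, hc, hbc⟩ := (mem_sup_of_nz ((hle _).trans (le_nz_piCoreOf _ _))).1 h2
  refine ⟨b, hle _ hb, c, hle _ hc, hbc.symm, comm_of_zpowers (hle _ hb) (hle _ hc), ?_, ?_⟩
  · exact (isPi_piCoreOf _ _).le (by rwa [zpowers_le])
  · exact (isPi_piCoreOf _ _).le (by rwa [zpowers_le])

theorem zpowers_conj (g x : G) : zpowers (g * x * g⁻¹) = (zpowers x) ^ᵍ g := by
  ext y
  rw [mem_cj, Subgroup.mem_zpowers_iff, Subgroup.mem_zpowers_iff]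
  constructor
  · rintro ⟨n, rfl⟩
    exact ⟨n, by rw [conj_zpow]; group⟩
  · rintro ⟨n, hn⟩
    exact ⟨n, by rw [conj_zpow, hn]; group⟩

theorem orderOf_conj' (g x : G) : orderOf (g * x * g⁻¹) = orderOf x := by
  rw [← Nat.card_zpowers, zpowers_conj, card_cj, Nat.card_zpowers]

variable (hG : IsMinSimpleOddOrder G)
include hG

/-- the parts of an element of `M` -/
theorem sig_parts {M : Subgroup G} (hM : IsCoatom M) {x : G} (hx : x ∈ M) :
    ∃ b ∈ zpowers x, ∃ c ∈ zpowers x, x = b * c ∧ Commute b c ∧ b ∈ sigmaCore M ∧ c ∈ M ∧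
      ∀ p : ℕ, p.Prime → p ∣ orderOf c → p ∉ sigma M := by
  obtain ⟨b, hb, c, hc, h1, h2, h3, h4⟩ := exists_parts (sigma M) x
  have hxM : zpowers x ≤ M := by rwa [zpowers_le]
  refine ⟨b, hb, c, hc, h1, h2, ?_, hxM hc, ?_⟩
  · have h5 := le_hall_of_normal (sigma_hall hG hM) (le_nz_sigmaCore hG M) h3
      (by rw [zpowers_le]; exact hxM hb)
    rwa [zpowers_le] at h5
  · rw [isPi_zpowers] at h4
    exact h4

theorem sigmaHat_cj {M : Subgroup G} {m x : G} (hm : m ∈ M) (hx : x ∈ sigmaHat M) :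
    m * x * m⁻¹ ∈ sigmaHat M := by
  obtain ⟨hxM, y, hy, hy1, hxy⟩ := hx
  refine ⟨M.mul_mem (M.mul_mem hm hxM) (M.inv_mem hm), m * y * m⁻¹, ?_, ?_, ?_⟩
  · exact (Subgroup.mem_normalizer_iff.1 (le_nz_sigmaCore hG M hm) y).1 hy
  · exact fun h => hy1 (conj_eq_one_iff.1 h)
  · calc m * x * m⁻¹ * (m * y * m⁻¹) = m * (x * y) * m⁻¹ := by group
      _ = m * (y * x) * m⁻¹ := by rw [hxy]
      _ = _ := by group

/-- the `σ(M)'`-part of an element of `M` centralising a nonidentity element of `M_σ` -/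
theorem hat_dich {M : Subgroup G} (hM : IsCoatom M) {x c : G} (hx : x ∈ sigmaHat M)
    (hc : c ∈ zpowers x) (hc1 : c ≠ 1) (hcσ : ∀ p : ℕ, p.Prime → p ∣ orderOf c → p ∉ sigma M) :
    (∀ p : ℕ, p.Prime → p ∣ orderOf c → p ∈ kappa M) ∨
      ((∀ p : ℕ, p.Prime → p ∣ orderOf c → p ∈ tau2 M) ∧
        (Subgroup.centralizer ({c} : Set G) ≤ M ∧ ∀ L : Subgroup G, IsCoatom L →
          Subgroup.centralizer ({c} : Set G) ≤ L → L = M)) := by
  obtain ⟨hxM, y, hy, hy1, hxy⟩ := hx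
  have hcM : c ∈ M := by
    have : zpowers x ≤ M := by rwa [zpowers_le]
    exact this hc
  have hcy : c ∈ Subgroup.centralizer ({y} : Set G) := by
    have : zpowers x ≤ Subgroup.centralizer ({y} : Set G) := by
      rw [zpowers_le, Subgroup.mem_centralizer_singleton_iff]; exact hxy
    exact this hc
  rcases bg14_3 hG hM hy hy1 hcM hcy hc1 hcσ with ⟨h, -⟩ | ⟨h1, -, h2⟩
  · exact Or.inl h
  · exact Or.inr ⟨h1, h2⟩

theorem ti_of_sub {T : Set G} {M : Subgroup G} (h1 : ∀ m ∈ M, ∀ t ∈ T, m * t * m⁻¹ ∈ T)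
    (h2 : ∀ g t : G, t ∈ T → g * t * g⁻¹ ∈ T → g ∈ M) : IsTISubset T := by
  intro g hg t ht hgt
  exfalso
  apply hg
  have hgM := h2 g t ht hgt
  rw [Subgroup.mem_set_normalizer_iff]
  intro z
  refine ⟨fun hz => h1 g hgM z hz, fun hz => ?_⟩
  have h3 := h1 g⁻¹ (M.inv_mem hgM) _ hz
  have h4 : g⁻¹ * (g * z * g⁻¹) * g⁻¹⁻¹ = z := by group
  rwa [h4] at h3

theorem dec_kap' {M K U : Subgroup G} (hM : IsCoatom M) (hKU : IsSigmaDecomposition M K U)
    {c : G} (hc : c ∈ M) (h : ∀ p : ℕ, p.Prime → p ∣ orderOf c → p ∉ kappa M) :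
    c ∈ U ⊔ sigmaCore M := by
  have h1 := le_hall_of_normal (dec_hall hG hM hKU) (dec_normal hG hM hKU)
    (isPi_zpowers.2 h : IsPi (kappa M)ᶜ (zpowers c)) (by rwa [zpowers_le])
  rwa [zpowers_le] at h1

/-- B & G 14.? : `A(M) - M_σ` is a TI-subset -/
theorem A_ti {M K U : Subgroup G} (hM : IsCoatom M) (hKU : IsSigmaDecomposition M K U) :
    IsTISubset (sigmaA M U \ (sigmaCore M : Set G)) := by
  refine ti_of_sub hG (M := M) ?_ ?_
  · rintro m hm t ⟨⟨h1, h2⟩, h3⟩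
    refine ⟨⟨sigmaHat_cj hG hm h1, ?_⟩, ?_⟩
    · exact (Subgroup.mem_normalizer_iff.1 (dec_normal hG hM hKU hm) t).1 h2
    · exact fun h => h3 ((Subgroup.mem_normalizer_iff.1 (le_nz_sigmaCore hG M hm) t).2 h)
  · have key : ∀ x c : G, x ∈ sigmaA M U \ (sigmaCore M : Set G) → c ∈ zpowers x → c ≠ 1 →
        (∀ p : ℕ, p.Prime → p ∣ orderOf c → p ∉ sigma M) →
        (Subgroup.centralizer ({c} : Set G) ≤ M ∧ ∀ L : Subgroup G, IsCoatom L →
          Subgroup.centralizer ({c} : Set G) ≤ L → L = M) := by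
      rintro x c ⟨⟨h1, h2⟩, h3⟩ hc hc1 hcσ
      rcases hat_dich hG hM h1 hc hc1 hcσ with h | ⟨-, h⟩
      · exfalso
        obtain ⟨p, hp, hpd⟩ := Nat.exists_prime_and_dvd (fun h => hc1 (orderOf_eq_one_iff.1 h) :
          orderOf c ≠ 1)
        have h4 : zpowers c ≤ U ⊔ sigmaCore M := by
          rw [zpowers_le]
          have : zpowers x ≤ U ⊔ sigmaCore M := by rw [zpowers_le]; exact h2
          exact this hc
        exact hall_isPi (dec_hall hG hM hKU) p hp (hpd.trans (by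
          rw [← Nat.card_zpowers]; exact card_dvd_of_le h4)) (h p hp hpd)
      · exact h
    intro g t ht hgt
    obtain ⟨b, hb, c, hc, hbc, hcm, hbσ, hcM, hcσ⟩ := sig_parts hG hM ht.1.1.1
    have hc1 : c ≠ 1 := by
      rintro rfl
      rw [mul_one] at hbc
      exact ht.2 (hbc ▸ hbσ)
    obtain ⟨h1, h2⟩ := key t c ht hc hc1 hcσ
    have hc' : g * c * g⁻¹ ∈ zpowers (g * t * g⁻¹) := by
      rw [zpowers_conj]; exact (mem_cj' hG).2 hc
    obtain ⟨h3, h4⟩ := key _ _ hgt hc' (fun h => hc1 (conj_eq_one_iff.1 h)) (by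
      rw [orderOf_conj']; exact hcσ)
    have h5 : M ^ᵍ g = M := by
      refine h4 _ (coatom_cj hM g) ?_
      rw [cz1_cj hG]; exact cj_mono h1 g
    have h6 : g ∈ 𝓝(M) := by
      rw [Subgroup.mem_normalizer_iff]
      intro x
      constructor
      · intro hx
        have h7 : g * x * g⁻¹ ∈ M ^ᵍ g := (mem_cj' hG).2 hx
        rwa [h5] at h7
      · intro hx
        rw [← h5] at hx
        exact (mem_cj' hG).1 hx
    rwa [max_nz_self hG hM] at h6

/-- conjugating a `κ`-element into `K` -/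
theorem kap_conj_in {M K : Subgroup G} (hM : IsCoatom M) (hK : IsPiHallOf (kappa M) K M) {c : G}
    (hc : c ∈ M) (h : ∀ p : ℕ, p.Prime → p ∣ orderOf c → p ∈ kappa M) :
    ∃ m ∈ M, m⁻¹ * c * m ∈ K := by
  obtain ⟨K', hK', hcK'⟩ := hall_exists_ge (max_sol hG hM) (isPi_zpowers.2 h :
    IsPi (kappa M) (zpowers c)) (by rwa [zpowers_le])
  obtain ⟨m, hm, hmK⟩ := hall_conj (max_sol hG hM) hK hK'
  refine ⟨m, hm, ?_⟩
  have h1 : c ∈ K ^ᵍ m := by rw [hmK]; rwa [zpowers_le] at hcK'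
  exact mem_cj.1 h1

/-- an element `b c` with `b ∈ M_σ`, `c` a `κ(M)`-element, is in a conjugate of `Ẑ` -/
theorem kap_in_hat {M K : Subgroup G} (hM : IsCoatom M) (hK : IsPiHallOf (kappa M) K M)
    (hKc : IsCyclic K) {b c : G} (hb : b ∈ sigmaCore M) (hb1 : b ≠ 1) (hc : c ∈ M) (hc1 : c ≠ 1)
    (hbc : Commute b c) (h : ∀ p : ℕ, p.Prime → p ∣ orderOf c → p ∈ kappa M) :
    ∃ m ∈ M, m⁻¹ * (b * c) * m ∈ hatZ M K := by
  obtain ⟨m, hm, hmK⟩ := kap_conj_in hG hM hK hc h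
  refine ⟨m, hm, ?_⟩
  have hc1' : m⁻¹ * c * m ≠ 1 := by
    intro h1
    apply hc1
    have : c = m * (m⁻¹ * c * m) * m⁻¹ := by group
    rw [this, h1]; group
  have hb' : m⁻¹ * b * m ∈ sigmaCore M := by
    have h1 := (Subgroup.mem_normalizer_iff.1 (le_nz_sigmaCore hG M (M.inv_mem hm)) b).1 hb
    rwa [inv_inv] at h1
  have hb1' : m⁻¹ * b * m ≠ 1 := by
    intro h1
    apply hb1
    have : b = m * (m⁻¹ * b * m) * m⁻¹ := by group
    rw [this, h1]; group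
  have h1 : m⁻¹ * b * m ∈ M ⊓ Subgroup.centralizer ({m⁻¹ * c * m} : Set G) := by
    refine Subgroup.mem_inf.2 ⟨sigmaCore_le hG hM hb', ?_⟩
    rw [Subgroup.mem_centralizer_singleton_iff]
    calc m⁻¹ * b * m * (m⁻¹ * c * m) = m⁻¹ * (b * c) * m := by group
      _ = m⁻¹ * (c * b) * m := by rw [hbc.eq]
      _ = _ := by group
  rw [kap_cz_elt hG hM hK hKc hmK hc1'] at h1
  have h2 : m⁻¹ * b * m ∈ sigmaCore M ⊓ 𝓒(K) := by
    rw [← Z_sig hG hM hK]; exact ⟨h1, hb'⟩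
  have h3 : m⁻¹ * (b * c) * m = (m⁻¹ * c * m) * (m⁻¹ * b * m) := by
    rw [hbc.eq]; group
  rw [h3]
  exact mul_mem_hat hG hM hK hmK hc1' h2 hb1'

/-- `A₀(M) - A(M)` is the union of the `M`-conjugates of `Ẑ` -/
theorem A0_diff {M K U : Subgroup G} (hM : IsCoatom M) (hKU : IsSigmaDecomposition M K U)
    (hK1 : K ≠ ⊥) :
    {a : G | ∃ m ∈ M, ∃ z ∈ hatZ M K, a = m * z * m⁻¹} = sigmaA0 M K \ sigmaA M U := by
  have hK := hKU.hall
  ext a
  constructor
  · rintro ⟨m, hm, z, hz, rfl⟩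
    obtain ⟨⟨p, hp, hpd, hpM⟩, q, hq, hqd, hqM⟩ := hat_primes hG hM hK hz
    have hzM : z ∈ M := Z_le_N hG hM hK hz.1
    obtain ⟨x, hx, y, hy, hx1, hy1, hxy⟩ := hat_mem hG hz.1 (fun h => hz.2 (Or.inl h))
      (fun h => hz.2 (Or.inr h))
    have hzh : z ∈ sigmaHat M := by
      refine ⟨hzM, y, hy.1, hy1, ?_⟩
      exact Z_ab hG hM hK hK1 hz.1 (Subgroup.mem_sup_right hy)
    refine ⟨⟨sigmaHat_cj hG hm hzh, ?_⟩, ?_⟩
    · rintro ⟨k, hk, hk1, m', hm', h⟩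
      have h1 : orderOf z = orderOf k := by
        rw [← orderOf_conj' m z, h, orderOf_conj']
      rw [h1] at hpd
      exact kap_sig hG hK p hp (hpd.trans (by
        rw [← Nat.card_zpowers]; exact card_dvd_of_le (zpowers_le.2 hk))) hpM
    · rintro ⟨-, h⟩
      have h1 : z ∈ U ⊔ sigmaCore M :=
        (Subgroup.mem_normalizer_iff.1 (dec_normal hG hM hKU hm) z).2 h
      have h2 : q ∈ kappa M := by
        have h3 : q ∣ Nat.card ↥(K ⊔ (sigmaCore M ⊓ 𝓒(K))) := hqd.trans (by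
          rw [← Nat.card_zpowers]; exact card_dvd_of_le (zpowers_le.2 hz.1))
        exact hall_isPi hK q hq (hall_dvd' hq hqM (Z_hall hG hM hK) h3)
      exact hall_isPi (dec_hall hG hM hKU) q hq (hqd.trans (by
        rw [← Nat.card_zpowers]; exact card_dvd_of_le (zpowers_le.2 h1))) h2
  · rintro ⟨⟨h1, h2⟩, h3⟩
    obtain ⟨b, hb, c, hc, hbc, hcm, hbσ, hcM, hcσ⟩ := sig_parts hG hM h1.1
    have hc1 : c ≠ 1 := by
      rintro rfl
      rw [mul_one] at hbc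
      exact h3 ⟨h1, Subgroup.mem_sup_right (hbc ▸ hbσ)⟩
    rcases hat_dich hG hM h1 hc hc1 hcσ with h | ⟨h, -⟩
    · by_cases hb1 : b = 1
      · exfalso
        obtain ⟨m, hm, hmK⟩ := kap_conj_in hG hM hK hcM h
        apply h2
        refine ⟨m⁻¹ * c * m, hmK, ?_, m, hm, ?_⟩
        · intro h4
          apply hc1
          have : c = m * (m⁻¹ * c * m) * m⁻¹ := by group
          rw [this, h4]; group
        · rw [hbc, hb1]; group
      · obtain ⟨m, hm, hmz⟩ := kap_in_hat hG hM hK hKU.cyclic hbσ hb1 hcM hc1 hcm h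
        refine ⟨m, hm, _, hmz, ?_⟩
        rw [hbc]; group
    · exfalso
      apply h3
      refine ⟨h1, ?_⟩
      rw [hbc]
      refine Subgroup.mul_mem _ (Subgroup.mem_sup_right hbσ) ?_
      exact dec_kap' hG hM hKU hcM fun p hp hpd hκ => kappa_not_tau2 hG hκ (h p hp hpd)

theorem A0_ti {M K U : Subgroup G} (hM : IsCoatom M) (hKU : IsSigmaDecomposition M K U)
    (hK1 : K ≠ ⊥) : IsTISubset (sigmaA0 M K \ sigmaA M U) := by
  rw [← A0_diff hG hM hKU hK1]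
  refine ti_of_sub hG (M := M) ?_ ?_
  · rintro n hn t ⟨m, hm, z, hz, rfl⟩
    exact ⟨n * m, M.mul_mem hn hm, z, hz, by group⟩
  · rintro g t ⟨m, hm, z, hz, rfl⟩ ⟨m', hm', z', hz', h⟩
    have h1 : (g * m) * z * (g * m)⁻¹ ∈ M := by
      have h2 : (g * m) * z * (g * m)⁻¹ = m' * z' * m'⁻¹ := by rw [← h]; group
      rw [h2]
      exact M.mul_mem (M.mul_mem hm' (Z_le_N hG hM hKU.hall hz'.1)) (M.inv_mem hm')
    have h2 := (hat_fusion hG hM hKU.hall hK1 hz h1).1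
    exact (M.mul_mem_cancel_right hm).1 h2

end

end CfsgLib.BGPi
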