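import Cfsg.Agent.EqBase
import Cfsg.Agent.LibBG14r

/-! B & G §14: the covering of `G`. -/

open Subgroup
open scoped Pointwise commutatorElement

namespace CfsgLib.BGPi

open Cfsg

universe u

section
variable {G : Type u} [Group G] [Finite G]

theorem zpowers_eq_of_prime {q : ℕ} (hq : q.Prime) {X : Subgroup G} (hX : Nat.card X = q) {x : G}
    (hx : x ∈ X) (hx1 : x ≠ 1) : zpowers x = X := by
  have h1 : zpowers x ≤ X := by rwa [zpowers_le]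
  refine eq_of_le_of_card_ge h1 ?_
  have h2 := card_dvd_of_le h1
  rw [hX] at h2 ⊢
  rcases (Nat.dvd_prime hq).1 h2 with h | h
  · exact absurd (zpowers_eq_bot.1 (card_eq_one.1 h)) hx1
  · exact h.ge

variable (hG : IsMinSimpleOddOrder G)
include hG

/-- conjugating a `σ(L)'`-element of `C(x)` into `M` -/
theorem cz_conj_in {M L D : Subgroup G} (hL : IsCoatom L) (hDL : D ≤ L)
    (hD : D ≤ (sigmaCore L ⊓ D) ⊔ (M ⊓ D)) {c : G} (hc : c ∈ D)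
    (hcσ : IsPi (sigma L)ᶜ (zpowers c)) : ∃ s ∈ D, c ∈ M ^ᵍ s := by
  have hDs := solvable_sub hDL (max_sol hG hL)
  have hn : D ≤ 𝓝(sigmaCore L ⊓ D) := le_nz_inf (hDL.trans (le_nz_sigmaCore hG L)) le_normalizer
  obtain ⟨T, hT⟩ := hall_exists (π := (sigma L)ᶜ) (solvable_sub inf_le_right hDs :
    Group.IsSolvable ↥(M ⊓ D))
  have hsup : (sigmaCore L ⊓ D) ⊔ (M ⊓ D) = D := le_antisymm (sup_le inf_le_right inf_le_right) hD
  have hTD : IsPiHallOf (sigma L)ᶜ T D := by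
    refine hall_of_sup (N := sigmaCore L ⊓ D) (inf_le_right.trans hn) hsup ?_ hT
    rw [compl_compl]
    exact (hall_isPi (sigma_hall hG hL)).le inf_le_left
  obtain ⟨T', hT', hcT'⟩ := hall_exists_ge hDs hcσ (by rwa [zpowers_le])
  obtain ⟨s, hs, hsT⟩ := hall_conj hDs hTD hT'
  refine ⟨s, hs, ?_⟩
  have h1 : T ^ᵍ s ≤ M ^ᵍ s := cj_mono ((hall_le hT).trans inf_le_left) s
  rw [hsT] at h1
  rw [zpowers_le] at hcT'
  exact h1 hcT'

/-- an element of prime order in `σ(M)` is in a conjugate of `M_σ` -/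
theorem exists_cj_sigma {M : Subgroup G} (hM : IsCoatom M) {q : ℕ} (hq : q ∈ sigma M)
    {X : Subgroup G} (hX : IsPiHallOf {q} X ⊤ ∨ IsPi {q} X) : ∃ g : G, X ≤ (sigmaCore M) ^ᵍ g := by
  have hqp := sigma_prime hq
  have hXπ : IsPi {q} X := by
    rcases hX with h | h
    · exact hall_isPi h
    · exact h
  obtain ⟨S, hS⟩ := exists_syl hqp (sigmaCore M)
  have hSt : IsPiHallOf {q} S ⊤ :=
    hall_trans hS (sigma_hall_top hG hM) (Set.singleton_subset_iff.2 hq)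
  obtain ⟨T, hT, hXT⟩ := exists_syl_ge hqp hXπ (le_top : X ≤ ⊤)
  obtain ⟨g, -, hg⟩ := syl_conj hqp hSt hT
  refine ⟨g, hXT.trans ?_⟩
  rw [← hg]
  exact cj_mono (hall_le hS) g

/-- the heart of the covering -/
theorem cover_step {M : Subgroup G} (hM : IsCoatom M) {g b c : G} (hg : g ∈ M)
    (hgbc : g = b * c) (hb : b ∈ sigmaCore M) (hb1 : b ≠ 1) (hcM : c ∈ M) (hbc : Commute b c)
    (hcσ : ∀ p : ℕ, p.Prime → p ∣ orderOf c → p ∉ sigma M) :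
    (∃ N : Subgroup G, IsCoatom N ∧ g ∈ tildeOf N ((sigmaCore N : Set G) \ {1})) ∨
      ∃ M' K : Subgroup G, IsCoatom M' ∧ IsPiHallOf (kappa M') K M' ∧ K ≠ ⊥ ∧
        ∃ h : G, h⁻¹ * g * h ∈ hatZ M' K := by
  by_cases hc1 : c = 1
  · left
    refine ⟨M, hM, (mem_tilde hG hM).2 ⟨M, ⟨1, (cj_one M).symm⟩, b, hb, hb1, 1, one_mem _, ?_⟩⟩
    rw [hgbc, hc1]
  have hcb : c ∈ Subgroup.centralizer ({b} : Set G) :=
    Subgroup.mem_centralizer_singleton_iff.2 hbc.symm.eq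
  rcases bg14_3 hG hM hb hb1 hcM hcb hc1 hcσ with ⟨h, -⟩ | ⟨ht, ⟨L, hL, hcL⟩, hcC, hcU⟩
  · right
    obtain ⟨K, hK⟩ := hall_exists (π := kappa M) (max_sol hG hM)
    obtain ⟨m, hm, hmz⟩ := kap_in_hat hG hM hK (kap_cyc hG hM hK) hb hb1 hcM hc1 hbc h
    refine ⟨M, K, hM, hK, ?_, m, ?_⟩
    · intro hK1
      obtain ⟨n, hn, hnK⟩ := kap_conj_in hG hM hK hcM h
      rw [hK1, Subgroup.mem_bot] at hnK
      apply hc1
      have : c = n * (n⁻¹ * c * n) * n⁻¹ := by group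
      rw [this, hnK]; group
    · rw [hgbc]; exact hmz
  · left
    -- a subgroup of prime order of `⟨c⟩`
    obtain ⟨q, hq, hqd, X, hX, hXc⟩ := exists_prime_sub (show zpowers c ≠ ⊥ by
      rwa [Ne, zpowers_eq_bot])
    have hqc : q ∣ orderOf c := by rwa [← Nat.card_zpowers]
    have hqL := hcL q hq hqc
    have hqt := ht q hq hqc
    obtain ⟨k, hk⟩ := exists_cj_sigma hG hL hqL (X := X) (Or.inr (isPi_of_card_prime hq hXc))
    have hLk := coatom_cj hL k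
    rw [← sigmaCore_cj] at hk
    obtain ⟨⟨x, hxX⟩, hx1⟩ := Subgroup.ne_bot_iff_exists_ne_one.1 (ne_bot_of_card_prime hq hXc)
    have hx1' : x ≠ 1 := fun h => hx1 (Subtype.ext h)
    have hzx : zpowers x = X := zpowers_eq_of_prime hq hXc hxX hx1'
    have hxc : x ∈ zpowers c := hX hxX
    have hxM : x ∈ M := by
      have : zpowers c ≤ M := by rwa [zpowers_le]
      exact this hxc
    have hxo : orderOf x = q := by rw [← Nat.card_zpowers, hzx, hXc]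
    have hxb : x ∈ Subgroup.centralizer ({b} : Set G) := by
      have : zpowers c ≤ Subgroup.centralizer ({b} : Set G) := by rwa [zpowers_le]
      exact this hxc
    have hxσ : ∀ p : ℕ, p.Prime → p ∣ orderOf x → p ∉ sigma M := by
      intro p hp hpd
      rw [hxo] at hpd
      rw [(Nat.prime_dvd_prime_iff_eq hp hq).1 hpd]
      exact hqt.2.1
    have hqLσ : q ∈ sigma (L ^ᵍ k) := by rw [sigma_cj]; exact hqL
    have hxU : Subgroup.centralizer ({x} : Set G) ≤ M ∧ ∀ L : Subgroup G, IsCoatom L →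
        Subgroup.centralizer ({x} : Set G) ≤ L → L = M := by
      rcases bg14_3 hG hM hb hb1 hxM hxb hx1' hxσ with ⟨h, -⟩ | ⟨-, -, h⟩
      · exact absurd hqt (kappa_not_tau2 hG (h q hq (by rw [hxo])))
      · exact h
    have hne : L ^ᵍ k ≠ M := by
      intro h
      rw [h] at hqLσ
      exact hqt.2.1 hqLσ
    have hxLn : ¬ Subgroup.centralizer ({x} : Set G) ≤ L ^ᵍ k := fun h => hne (hxU.2 _ hLk h)
    obtain ⟨-, -, -, -, -, -, -, -, h9⟩ := bg14_4 hG hLk (hk hxX) hx1' hxLn hM hxU.1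
    obtain ⟨s, hs, hcs⟩ := cz_conj_in hG (M := L ^ᵍ k) hM hxU.1 h9 (c := c) (by
      rw [Subgroup.mem_centralizer_singleton_iff]
      exact (comm_of_zpowers (mem_zpowers c) hxc).eq) (isPi_zpowers.2 hcσ)
    have hL' := coatom_cj hLk s
    have hσ' : sigma ((L ^ᵍ k) ^ᵍ s) = sigma L := by rw [sigma_cj, sigma_cj]
    have hcσ' : c ∈ sigmaCore ((L ^ᵍ k) ^ᵍ s) := by
      have h1 := le_hall_of_normal (sigma_hall hG hL') (le_nz_sigmaCore hG _)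
        (isPi_zpowers.2 (by rw [hσ']; exact hcL) : IsPi (sigma ((L ^ᵍ k) ^ᵍ s)) (zpowers c))
        (by rwa [zpowers_le])
      rwa [zpowers_le] at h1
    have hcLn : ¬ Subgroup.centralizer ({c} : Set G) ≤ (L ^ᵍ k) ^ᵍ s := by
      intro h
      have h2 := hcU _ hL' h
      rw [h2] at hσ'
      rw [← hσ'] at hqL
      exact hqt.2.1 hqL
    refine ⟨(L ^ᵍ k) ^ᵍ s, hL', (mem_tilde hG hL').2 ⟨_, ⟨1, (cj_one _).symm⟩, c, hcσ', hc1, b, ?_,
      ?_⟩⟩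
    · rw [supportR_of_not hG hL' hcσ' hc1 hcLn hM hcC]
      exact ⟨hb, Subgroup.mem_centralizer_singleton_iff.2 hbc.eq⟩
    · rw [hgbc, hbc.eq]

/-- the covering of `G` -/
theorem cover {g : G} (hg1 : g ≠ 1) :
    (∃ N : Subgroup G, IsCoatom N ∧ g ∈ tildeOf N ((sigmaCore N : Set G) \ {1})) ∨
      ∃ M' K : Subgroup G, IsCoatom M' ∧ IsPiHallOf (kappa M') K M' ∧ K ≠ ⊥ ∧
        ∃ h : G, h⁻¹ * g * h ∈ hatZ M' K := by
  obtain ⟨p, hp, hpd, X, hX, hXc⟩ := exists_prime_sub (show zpowers g ≠ ⊥ by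
      rwa [Ne, zpowers_eq_bot])
  have hpg : p ∣ orderOf g := by rwa [← Nat.card_zpowers]
  obtain ⟨M₀, hM₀, hpM₀⟩ := exists_sigma hG hp (hpg.trans (orderOf_dvd_natCard g))
  obtain ⟨k, hk⟩ := exists_cj_sigma hG hM₀ hpM₀ (X := X) (Or.inr (isPi_of_card_prime hp hXc))
  rw [← sigmaCore_cj] at hk
  have hM := coatom_cj hM₀ k
  have hpM : p ∈ sigma (M₀ ^ᵍ k) := by rw [sigma_cj]; exact hpM₀
  set M := M₀ ^ᵍ k
  obtain ⟨⟨x, hxX⟩, hx1⟩ := Subgroup.ne_bot_iff_exists_ne_one.1 (ne_bot_of_card_prime hp hXc)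
  have hx1' : x ≠ 1 := fun h => hx1 (Subtype.ext h)
  have hxg : x ∈ zpowers g := hX hxX
  have hgx : g ∈ Subgroup.centralizer ({x} : Set G) := by
    rw [Subgroup.mem_centralizer_singleton_iff]
    exact (comm_of_zpowers (mem_zpowers g) hxg).eq
  -- elements of maximal subgroups with `p ∈ σ`
  have key : ∀ N : Subgroup G, IsCoatom N → p ∈ sigma N → g ∈ N →
    (∃ N : Subgroup G, IsCoatom N ∧ g ∈ tildeOf N ((sigmaCore N : Set G) \ {1})) ∨
      ∃ M' K : Subgroup G, IsCoatom M' ∧ IsPiHallOf (kappa M') K M' ∧ K ≠ ⊥ ∧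
        ∃ h : G, h⁻¹ * g * h ∈ hatZ M' K := by
    intro N hN hpN hgN
    obtain ⟨b, hb, c, hc, hbc, hcm, hbσ, hcM, hcσ⟩ := sig_parts hG hN hgN
    refine cover_step hG hN hgN hbc hbσ ?_ hcM hcm hcσ
    rintro rfl
    rw [one_mul] at hbc
    rw [hbc] at hpg
    exact hcσ p hp hpg hpN
  by_cases hCM : Subgroup.centralizer ({x} : Set G) ≤ M
  · exact key M hM hpM (hCM hgx)
  · obtain ⟨N, hN, hxN⟩ := exists_max hG (ms_cz1_ne_top hG hx1')
    obtain ⟨-, -, -, -, -, -, -, -, h9⟩ := bg14_4 hG hM (hk hxX) hx1' hCM hN hxN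
    obtain ⟨b, hb, c, hc, hbc, hcm, hbσ, hcM, hcσ⟩ := sig_parts hG hN (hxN hgx)
    by_cases hb1 : b = 1
    · rw [hb1, one_mul] at hbc
      rw [← hbc] at hcσ
      obtain ⟨s, hs, hcs⟩ := cz_conj_in hG (M := M) hN hxN h9 hgx (isPi_zpowers.2 hcσ)
      exact key _ (coatom_cj hM s) (by rw [sigma_cj]; exact hpM) hcs
    · exact cover_step hG hN (hxN hgx) hbc hbσ hb1 hcM hcm hcσ

theorem hat_cj {M K : Subgroup G} (hM : IsCoatom M) (hK : IsPiHallOf (kappa M) K M) {g z : G}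
    (hz : z ∈ hatZ (M ^ᵍ g) (K ^ᵍ g)) : g⁻¹ * z * g ∈ hatZ M K := by
  have hst : sigmaCore (M ^ᵍ g) ⊓ 𝓒(K ^ᵍ g) = (sigmaCore M ⊓ 𝓒(K)) ^ᵍ g := by
    rw [cj_inf, sigmaCore_cj, cz_cj]
  obtain ⟨x, hx, y, hy, hx1, hy1, hxy⟩ := hat_mem hG hz.1 (fun h => hz.2 (Or.inl h))
      (fun h => hz.2 (Or.inr h))
  rw [hst] at hy
  have h4 : g⁻¹ * z * g = (g⁻¹ * x * g) * (g⁻¹ * y * g) := by rw [hxy]; group
  have h5 : ∀ a : G, g⁻¹ * a * g = 1 → a = 1 := by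
    intro a ha
    have : a = g * (g⁻¹ * a * g) * g⁻¹ := by group
    rw [this, ha]; group
  rw [h4]
  exact mul_mem_hat hG hM hK (mem_cj.1 hx) (fun h => hx1 (h5 _ h)) (mem_cj.1 hy)
    (fun h => hy1 (h5 _ h))

theorem Dual.hat_eq {M L K : Subgroup G} (d : Dual M L K) :
    hatZ L (sigmaCore M ⊓ 𝓒(K)) = hatZ M K := by
  unfold hatZ
  rw [d.Zs hG, ← d.hS, Set.union_comm]

/-- any `Ẑ` is conjugate to a given one -/
theorem hat_any {M K : Subgroup G} (hM : IsCoatom M) (hK : IsPiHallOf (kappa M) K M)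
    (hK1 : K ≠ ⊥) {M' K' : Subgroup G} (hM' : IsCoatom M') (hK' : IsPiHallOf (kappa M') K' M')
    (hK1' : K' ≠ ⊥) {z : G} (hz : z ∈ hatZ M' K') : ∃ y : G, y⁻¹ * z * y ∈ hatZ M K := by
  obtain ⟨L, d, -⟩ := exists_dual hG hM hK hK1
  obtain ⟨p, hp, hpd⟩ := exists_prime_dvd_of_ne_bot hK1'
  have key : ∀ N J : Subgroup G, IsCoatom N → IsPiHallOf (kappa N) J N → (∃ g, M' = N ^ᵍ g) →
      ∃ y : G, y⁻¹ * z * y ∈ hatZ N J := by
    rintro N J hN hJ ⟨g, rfl⟩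
    have h1 : IsPiHallOf (kappa (N ^ᵍ g)) (J ^ᵍ g) (N ^ᵍ g) := by
      rw [kappa_cj hG]; exact hall_cj hJ g
    obtain ⟨m, hm, hmJ⟩ := hall_conj (max_sol hG hM') h1 hK'
    have h2 : N ^ᵍ g = N ^ᵍ (m * g) := by rw [cj_mul, cj_eq_of_mem hm]
    rw [← hmJ, ← cj_mul, h2] at hz
    exact ⟨m * g, hat_cj hG hN hJ hz⟩
  obtain ⟨g, hg | hg⟩ := d.conj_of hG hM' ⟨p, hall_isPi hK' p hp hpd⟩
  · exact key M K hM hK ⟨g, hg⟩
  · rw [← d.hat_eq hG]
    exact key L _ d.hL d.hJ ⟨g, hg⟩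

end

end CfsgLib.BGPi
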