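import Cfsg.Agent.EqBase
import Cfsg.Agent.LibBG14s

/-! B & G 14.12: maximal subgroups of type `P2`. -/

open Subgroup
open scoped Pointwise commutatorElement

namespace CfsgLib.BGPi

open Cfsg

universe u

section
variable {G : Type u} [Group G] [Finite G]

variable (hG : IsMinSimpleOddOrder G)
include hG

theorem dec_U_ab {M K U : Subgroup G} (hM : IsCoatom M) (hKU : IsSigmaDecomposition M K U)
    (hK1 : K ≠ ⊥) : U ≤ 𝓒(U) := by
  obtain ⟨hE, hU, hKE, -⟩ := dec_facts hG hM hKU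
  have h1 := hall_pi0 hG hE hU
  obtain ⟨E', U', hE', hKE', hEU', hU', hab, -⟩ := kap_struct hG hM hKU.hall hK1
  have h2 := hall_pi0 hG hE' hU'
  obtain ⟨m, hm, hmU⟩ := hall_conj (max_sol hG hM) h2 h1
  rw [← hmU, cz_cj]; exact cj_mono hab m

theorem sigma_core_dvd {M : Subgroup G} (hM : IsCoatom M) {q : ℕ} (hq : q ∈ sigma M) :
    q ∣ Nat.card (sigmaCore M) := hall_dvd' hq.1 hq (sigma_hall hG hM) hq.2.1

theorem dec_cop {M K U : Subgroup G} (hM : IsCoatom M) (hKU : IsSigmaDecomposition M K U) :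
    (Nat.card K).Coprime (Nat.card U) := by
  obtain ⟨hE, hU, hKE, -⟩ := dec_facts hG hM hKU
  exact (hall_isPi hKE).coprime (hall_isPi hU)

theorem dec_UcK {M K U : Subgroup G} (hM : IsCoatom M) (hKU : IsSigmaDecomposition M K U)
    (hK1 : K ≠ ⊥) : U ⊓ 𝓒(K) = ⊥ := by
  obtain ⟨⟨k, hk⟩, hk1⟩ := Subgroup.ne_bot_iff_exists_ne_one.1 hK1
  have hk1' : k ≠ 1 := fun h => hk1 (Subtype.ext h)
  rw [eq_bot_iff, ← dec_fpf hG hM hKU hk hk1', cz1_eq]
  exact inf_le_inf le_rfl (cz_anti (by rwa [zpowers_le]))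

theorem dec_comm {M K U : Subgroup G} (hM : IsCoatom M) (hKU : IsSigmaDecomposition M K U)
    (hK1 : K ≠ ⊥) : ⁅U, K⁆ = U := by
  have h1 := cop_comm_sup hKU.normal (dec_cop hG hM hKU)
    (solvable_sub hKU.compl.1 (max_sol hG hM))
  rwa [dec_UcK hG hM hKU hK1, sup_bot_eq] at h1

theorem p2_facts {M K U : Subgroup G} (hM : IsCoatom M) (hKU : IsSigmaDecomposition M K U)
    (hK1 : K ≠ ⊥) (hU1 : U ≠ ⊥) : (Nat.card K).Prime ∧ Group.IsNilpotent (sigmaCore M) ∧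
      sigmaCore M ⊓ 𝓒(U) = ⊥ ∧ sigma M ⊆ beta M := by
  obtain ⟨hE, hU, hKE, -⟩ := dec_facts hG hM hKU
  have h1 := kap_prime hG hM hKU.hall hK1 hE le_sup_right (sup_le le_normalizer hKU.normal) hU
    hU1 (fun k hk hk1 => dec_fpf hG hM hKU hk hk1)
  refine ⟨h1.1, h1.2.1, h1.2.2, fun q hq => ?_⟩
  by_contra hqβ
  have hQ : IsPiHallOf {q} (piCoreOf {q} (sigmaCore M)) (sigmaCore M) := nilpotent_hall h1.2.1
  have hQ1 : piCoreOf {q} (sigmaCore M) ≠ ⊥ := hall_ne_bot hq.1 hQ (sigma_core_dvd hG hM hq)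
  have hn : M ≤ 𝓝(piCoreOf {q} (sigmaCore M)) :=
    (le_nz_sigmaCore hG M).trans (nz_le_nz_piCoreOf _ _)
  have h2 := der_cz_syl hG hM hE hq hqβ (isPi_piCoreOf _ _) (piCoreOf_le _ _)
    ((hall_le hE).trans hn)
  apply hQ1
  rw [eq_bot_iff, ← h1.2.2]
  refine le_inf (piCoreOf_le _ _) ?_
  rw [le_cz_comm]
  refine le_trans ?_ h2
  calc U = ⁅U, K⁆ := (dec_comm hG hM hKU hK1).symm
    _ ≤ _ := Subgroup.commutator_mono le_sup_left le_sup_right

/-- facts on a maximal `H ≥ K` with `κ(H) = ∅` -/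
theorem Dual.notconj {M L K H : Subgroup G} (d : Dual M L K) (hκ : kappa H = ∅) :
    ∀ g : G, H ≠ L ^ᵍ g := by
  intro g h
  obtain ⟨p, hp, hpd⟩ := exists_prime_dvd_of_ne_bot (d.star1 hG)
  have h1 := hall_isPi d.hJ p hp hpd
  rw [h, kappa_cj hG] at hκ
  rw [hκ] at h1
  exact h1

theorem Dual.KL {M L K : Subgroup G} (d : Dual M L K) : K ≤ sigmaCore L := by
  have h : sigmaCore L ⊓ 𝓒(sigmaCore M ⊓ 𝓒(K)) ≤ sigmaCore L := inf_le_left
  rwa [← d.hS] at h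

theorem Dual.pH {M L K H : Subgroup G} (d : Dual M L K) (hH : IsCoatom H) (hκ : kappa H = ∅) :
    IsPi (sigma H)ᶜ K := by
  intro p hp hpd hpH
  have h1 : p ∈ sigma L := (hall_isPi (sigma_hall hG d.hL)) p hp (hpd.trans
    (card_dvd_of_le (d.KL hG)))
  exact sigma_part hG d.hL hH (d.notconj hG hκ) h1 hpH

theorem Dual.nzK {M L K : Subgroup G} (d : Dual M L K) (hp : (Nat.card K).Prime) :
    𝓒(K) ≤ L ∧ 𝓝(K) ≤ L := by
  have h1 := d.uniqL hG hp rfl le_rfl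
  exact ⟨h1.1, nz_le_of_uniq hG (nz_line_ne_top hG hp rfl) h1.2⟩

theorem Dual.fpf {M L K H : Subgroup G} (d : Dual M L K) (hp : (Nat.card K).Prime)
    (hH : IsCoatom H) (hκ : kappa H = ∅) (hKH : K ≤ H) : sigmaCore H ⊓ 𝓒(K) = ⊥ := by
  by_contra hC
  have hpH : Nat.card K ∉ sigma H := d.pH hG hH hκ _ hp dvd_rfl
  rcases prime_kt hG hH hp hKH rfl hpH hC with h | h
  · rw [hκ] at h; exact h
  · have h1 := tau2_uniq' hG hH h hKH rfl hC
    have h2 := h1.2 L d.hL (d.nzK hG hp).1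
    exact d.notconj hG hκ 1 (by rw [cj_one, h2])

/-- if `K` acts fixed-point-freely on `N` and on `B`, then on `N B` -/
theorem fpf_sup {N B K : Subgroup G} (hBN : B ≤ 𝓝(N)) (hKN : K ≤ 𝓝(N)) (hKB : K ≤ 𝓝(B))
    (h0 : N ⊓ B = ⊥) (h1 : N ⊓ 𝓒(K) = ⊥) (h2 : B ⊓ 𝓒(K) = ⊥) : (N ⊔ B) ⊓ 𝓒(K) = ⊥ := by
  rw [eq_bot_iff]
  rintro v ⟨hv, hvK⟩
  obtain ⟨n, hn, b, hb, rfl⟩ := (mem_sup_of_nz' hBN).1 hv
  have key : ∀ k ∈ K, k * b * k⁻¹ = b := by
    intro k hk
    have h3 : k * (n * b) = (n * b) * k := Subgroup.mem_centralizer_iff.1 hvK k hk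
    have hn' : k * n * k⁻¹ ∈ N := (Subgroup.mem_normalizer_iff.1 (hKN hk) n).1 hn
    have hb' : k * b * k⁻¹ ∈ B := (Subgroup.mem_normalizer_iff.1 (hKB hk) b).1 hb
    have h4 : (k * n * k⁻¹)⁻¹ * n = (k * b * k⁻¹) * b⁻¹ := by
      have h5 : (k * n * k⁻¹) * (k * b * k⁻¹) = n * b := by
        calc (k * n * k⁻¹) * (k * b * k⁻¹) = (k * (n * b)) * k⁻¹ := by group
          _ = n * b := by rw [h3]; group
      calc (k * n * k⁻¹)⁻¹ * n = (k * n * k⁻¹)⁻¹ * (n * b) * b⁻¹ := by group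
        _ = (k * n * k⁻¹)⁻¹ * ((k * n * k⁻¹) * (k * b * k⁻¹)) * b⁻¹ := by rw [h5]
        _ = _ := by group
    have h6 : (k * b * k⁻¹) * b⁻¹ ∈ N ⊓ B :=
      ⟨h4 ▸ N.mul_mem (N.inv_mem hn') hn, B.mul_mem hb' (B.inv_mem hb)⟩
    rw [h0, Subgroup.mem_bot] at h6
    exact mul_inv_eq_one.1 h6
  have hb2 : b ∈ B ⊓ 𝓒(K) := by
    refine ⟨hb, Subgroup.mem_centralizer_iff.2 fun k hk => ?_⟩
    have h3 := key k hk
    calc k * b = (k * b * k⁻¹) * k := by group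
      _ = b * k := by rw [h3]
  rw [h2, Subgroup.mem_bot] at hb2
  rw [hb2, mul_one] at hvK ⊢
  have hn2 : n ∈ N ⊓ 𝓒(K) := ⟨hn, hvK⟩
  rw [h1] at hn2
  exact hn2

/-- the key step of 14.12 -/
theorem Dual.cz_el {M L K H F B B₀ : Subgroup G} {q : ℕ} (d : Dual M L K)
    (hp : (Nat.card K).Prime) (hβ : sigma M ⊆ beta M) (hH : IsCoatom H) (hκ : kappa H = ∅)
    (hF : IsPiHallOf (sigma H)ᶜ F H) (hKF : K ≤ F) (c : Exc q H B₀ B) (hBF : B ≤ F)
    (hqp : q ≠ Nat.card K) : K ≤ 𝓒(B) := by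
  by_contra hn
  have hFH := hall_le hF
  have hKH := hKF.trans hFH
  have hBH := hBF.trans hFH
  have hq := c.hp
  have hFB : F ≤ 𝓝(B) := by
    have h1 := c.infN hG hF hBF
    rw [← h1]; exact inf_le_right
  have hKB := hKF.trans hFB
  have hBq : IsPi {q} B := elab_isPi hq c.el
  have hKπ := isPi_of_card_prime hp (rfl : Nat.card K = Nat.card K)
  have hcKB : (Nat.card K).Coprime (Nat.card B) := by
    rw [c.card]
    exact Nat.Coprime.pow_right 2 ((Nat.coprime_primes hp hq).2 (Ne.symm hqp))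
  have hBab : B ≤ 𝓒(B) := comm_iff_le_cz.1 c.el.1
  have hKσ := d.pH hG hH hκ
  have hσn : H ≤ 𝓝(sigmaCore H) := le_nz_sigmaCore hG H
  have hfpf := d.fpf hG hp hH hκ hKH
  -- `C_B(K) ≠ 1`
  have hC : B ⊓ 𝓒(K) ≠ ⊥ := by
    intro h
    have hcB := c.cop hG
    have h1 : (sigmaCore H ⊔ B) ⊓ 𝓒(K) = ⊥ := fpf_sup hG (hBH.trans hσn) (hKH.trans hσn) hKB
      (by rw [inf_comm]; exact cop_inf hcB) hfpf h
    have h2 : (Nat.card K).Coprime (Nat.card ↥(sigmaCore H ⊔ B)) := by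
      have h3 : IsPi {Nat.card K}ᶜ (sigmaCore H ⊔ B) := by
        refine IsPi.sup' ?_ ?_ ?_
        · refine (hall_isPi (sigma_hall hG hH)).mono ?_
          intro s hs hs'
          rw [Set.mem_singleton_iff] at hs'
          exact hKσ _ hp dvd_rfl (hs' ▸ hs)
        · refine hBq.mono ?_
          rintro s hs hs'
          rw [Set.mem_singleton_iff] at hs hs'
          exact hqp (hs ▸ hs')
        · exact hBH.trans hσn
      exact hKπ.coprime h3
    have h3 := nilp_of_fpf hG (V := sigmaCore H ⊔ B) (A := K)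
      (solvable_sub (sup_le (sigmaCore_le hG hH) hBH) (max_sol hG hH)) hp rfl
      (le_nz_sup (hKH.trans hσn) hKB) h2 h1
    have h4 : B ≤ 𝓒(sigmaCore H) := nilpotent_commute (π := {q}) h3 le_sup_right le_sup_left hBq
      (by
        refine (hall_isPi (sigma_hall hG hH)).mono ?_
        intro s hs hs'
        rw [Set.mem_singleton_iff] at hs'
        exact c.ns (hs' ▸ hs))
    exact bg10_11b hG hH hq c.ns hBH c.el c.card h4
  -- a subgroup of order `q` of `C_B(K)`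
  obtain ⟨q', hq', hqd', B₁, hB1, hB1c⟩ := exists_prime_sub hC
  have hqq : q' = q := hBq q' hq' (hqd'.trans (card_dvd_of_le inf_le_left))
  subst hqq
  have hB1B : B₁ ≤ B := hB1.trans inf_le_left
  have hB1K : B₁ ≤ 𝓒(K) := hB1.trans inf_le_right
  have hKB1 : K ≤ 𝓒(B₁) := le_cz_comm.1 hB1K
  have hCL := (d.nzK hG hp).1
  have hB1L : B₁ ≤ L := hB1K.trans hCL
  have hni : ¬ IsIdealPrime q' G := maxE2_not_ideal hG hq' (c.e2 hG)
  have hqM : q' ∉ sigma M := fun h => hni (hβ h).2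
  have hqκ : q' ∉ kappa L := by
    intro h
    exact hqM ((hall_isPi (sigma_hall hG d.hM)) q' hq' ((hall_dvd' hq' h d.hJ h.2.1).trans
      (card_dvd_of_le inf_le_left)))
  have hKL := d.KL hG
  have hCne : sigmaCore L ⊓ 𝓒(B₁) ≠ ⊥ := by
    intro h
    have h1 : K ≤ sigmaCore L ⊓ 𝓒(B₁) := le_inf hKL hKB1
    rw [h] at h1
    exact d.K1 (le_bot_iff.1 h1)
  have hBL : B ≤ L := by
    by_cases hCB : 𝓒(B₁) ≤ L
    · exact hBab.trans ((cz_anti hB1B).trans hCB)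
    have hqL : q' ∈ sigma L := by
      by_contra hqL
      rcases prime_kt hG d.hL hq' hB1L hB1c hqL hCne with h | h
      · exact hqκ h
      · exact hCB (tau2_uniq' hG d.hL h hB1L hB1c hCne).1
    have hB1σ : B₁ ≤ sigmaCore L := syl_le_sigmaCore hG d.hL hqL (hBq.le hB1B) hB1L
    obtain ⟨⟨b, hb⟩, hb1⟩ := Subgroup.ne_bot_iff_exists_ne_one.1 (ne_bot_of_card_prime hq' hB1c)
    have hb1' : b ≠ 1 := fun h => hb1 (Subtype.ext h)
    have hzb := zpowers_eq_of_prime hq' hB1c hb hb1'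
    obtain ⟨N, hN, hbN⟩ := exists_max hG (ms_cz1_ne_top hG hb1')
    have hbL : ¬ Subgroup.centralizer ({b} : Set G) ≤ L := by
      rw [cz1_eq, hzb]; exact hCB
    obtain ⟨-, -, h3, -, -, h6, -, -, -⟩ := bg14_4 hG d.hL (hB1σ hb) hb1' hbL hN hbN
    rw [hzb] at h3
    rw [cz1_eq, hzb] at hbN
    have hqN := (h3 q' hq' (by rw [hB1c])).2.1
    have hKN : K ≤ N := hKB1.trans hbN
    have hpN : IsPi (sigma N)ᶜ K := (hall_isPi h6).le (le_inf (hKL.trans (sigmaCore_le hG d.hL)) hKN)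
    have hBN : B ≤ N := (hBab.trans (cz_anti hB1B)).trans hbN
    have hBKπ : IsPi (sigma N)ᶜ (B ⊔ K) := by
      refine IsPi.sup' ?_ hpN hKB
      refine hBq.mono ?_
      rintro s hs
      rw [Set.mem_singleton_iff] at hs
      rw [hs]; exact hqN
    obtain ⟨F', hF', hBKF'⟩ := hall_exists_ge (max_sol hG hN) hBKπ (sup_le hBN hKN)
    obtain ⟨n, hn', hnF⟩ := hall_conj (max_sol hG hN) h6 hF'
    have h7 : B ⊔ K ≤ L ^ᵍ n := hBKF'.trans (by rw [← hnF]; exact cj_mono inf_le_left n)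
    have h8 : K ^ᵍ n⁻¹ ≤ L := by
      rw [← le_cj_iff]; exact le_sup_right.trans h7
    have h9 := mem_of_cj_le hG d.hL hp rfl hKL hCL h8
    have h10 : L ^ᵍ n = L := cj_eq_of_mem (by rwa [← inv_inv n, L.inv_mem_iff])
    rw [h10] at h7
    exact le_sup_left.trans h7
  have hX1 : ⁅B, K⁆ ≠ ⊥ := fun h => hn (le_cz_comm.1 (comm_eq_bot_iff.1 h))
  have hXB : ⁅B, K⁆ ≤ B := comm_le_left hKB
  have hXσ : ⁅B, K⁆ ≤ sigmaCore L := by
    refine (Subgroup.commutator_mono le_rfl hKL).trans (comm_le_right ?_)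
    exact hBL.trans (le_nz_sigmaCore hG L)
  obtain ⟨s, hs, hsd⟩ := exists_prime_dvd_of_ne_bot hX1
  have hsq : s = q' := hBq s hs (hsd.trans (card_dvd_of_le hXB))
  subst hsq
  by_cases hpβ : Nat.card K ∈ beta L
  · have hKβ : K ≤ piCoreOf (beta L) L := le_hall_of_normal (beta_hall hG d.hL)
      (le_nz_piCoreOf _ _) (hKπ.mono (by
        intro t ht
        rw [Set.mem_singleton_iff] at ht
        rw [ht]; exact hpβ)) (hKL.trans (sigmaCore_le hG d.hL))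
    have hXβ : ⁅B, K⁆ ≤ piCoreOf (beta L) L := (Subgroup.commutator_mono le_rfl hKβ).trans
      (comm_le_right (hBL.trans (le_nz_piCoreOf _ _)))
    exact hni ((isPi_piCoreOf (beta L) L) s hs (hsd.trans (card_dvd_of_le hXβ))).2
  · have hsL : s ∈ sigma L := (hall_isPi (sigma_hall hG d.hL)) s hs
      (hsd.trans (card_dvd_of_le hXσ))
    have hBσ : B ≤ sigmaCore L := syl_le_sigmaCore hG d.hL hsL hBq hBL
    have hBK : B ⊔ K ≤ ⁅L, L⁆ := (sup_le hBσ hKL).trans (sigma_le_der hG d.hL)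
    have hBKπ : IsPi (beta L)ᶜ (B ⊔ K) := by
      refine IsPi.sup' ?_ ?_ hKB
      · refine hBq.mono ?_
        intro t ht ht'
        rw [Set.mem_singleton_iff] at ht
        exact hni (ht ▸ ht').2
      · refine hKπ.mono ?_
        intro t ht ht'
        rw [Set.mem_singleton_iff] at ht
        exact hpβ (ht ▸ ht')
    obtain ⟨W, hW, hBKW⟩ := hall_exists_ge (solvable_sub (comm_self_le L) (max_sol hG d.hL))
      hBKπ hBK
    have hWn := (beta_frat hG d.hL hW).1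
    have h4 : B ≤ 𝓒(K) := nilpotent_commute (π := {s}) hWn (le_sup_left.trans hBKW)
      (le_sup_right.trans hBKW) hBq (hKπ.mono (by
        intro t ht ht'
        rw [Set.mem_singleton_iff] at ht ht'
        exact hqp (ht'.symm.trans ht)))
    exact hn (le_cz_comm.1 h4)

end

end CfsgLib.BGPi
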