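import Cfsg.Agent.EqBase
import Cfsg.Agent.LibBG14t

/-! B & G 14.12. -/

open Subgroup
open scoped Pointwise commutatorElement

namespace CfsgLib.BGPi

open Cfsg

universe u

section
variable {G : Type u} [Group G] [Finite G]

variable (hG : IsMinSimpleOddOrder G)
include hG

/-- if `K` (of prime order) acts fixed-point-freely on `H_σ` and on the `q`-group `Q` then `Q`
centralises `H_σ` -/
theorem fpf_cz {H K Q : Subgroup G} (hH : IsCoatom H) (hp : (Nat.card K).Prime) (hKH : K ≤ H)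
    (hKσ : IsPi (sigma H)ᶜ K) (hfpf : sigmaCore H ⊓ 𝓒(K) = ⊥) {q : ℕ} (hQ : IsPi {q} Q)
    (hQH : Q ≤ H) (hqσ : q ∉ sigma H) (hqp : q ≠ Nat.card K) (hKQ : K ≤ 𝓝(Q))
    (hQK : Q ⊓ 𝓒(K) = ⊥) : Q ≤ 𝓒(sigmaCore H) := by
  have hσn : H ≤ 𝓝(sigmaCore H) := le_nz_sigmaCore hG H
  have hσ := hall_isPi (sigma_hall hG hH)
  have hKπ := isPi_of_card_prime hp (rfl : Nat.card K = Nat.card K)
  have hσq : IsPi {q}ᶜ (sigmaCore H) := by
    refine hσ.mono ?_
    intro s hs hs'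
    rw [Set.mem_singleton_iff] at hs'
    exact hqσ (hs' ▸ hs)
  have h1 : (sigmaCore H ⊔ Q) ⊓ 𝓒(K) = ⊥ := fpf_sup hG (hQH.trans hσn) (hKH.trans hσn) hKQ
      (by rw [inf_comm]; exact cop_inf (hQ.coprime hσq)) hfpf hQK
  have h2 : (Nat.card K).Coprime (Nat.card ↥(sigmaCore H ⊔ Q)) := by
    have h3 : IsPi {Nat.card K}ᶜ (sigmaCore H ⊔ Q) := by
      refine IsPi.sup' ?_ ?_ ?_
      · refine hσ.mono ?_
        intro s hs hs'
        rw [Set.mem_singleton_iff] at hs'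
        exact hKσ _ hp dvd_rfl (hs' ▸ hs)
      · refine hQ.mono ?_
        rintro s hs hs'
        rw [Set.mem_singleton_iff] at hs hs'
        exact hqp (hs ▸ hs')
      · exact hQH.trans hσn
    exact hKπ.coprime h3
  have h3 := nilp_of_fpf hG (V := sigmaCore H ⊔ Q) (A := K)
    (solvable_sub (sup_le (sigmaCore_le hG hH) hQH) (max_sol hG hH)) hp rfl
    (le_nz_sup (hKH.trans hσn) hKQ) h2 h1
  exact nilpotent_commute (π := {q}) h3 le_sup_right le_sup_left hQ hσq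

theorem kappa_of_line {H X : Subgroup G} (hH : IsCoatom H) {q : ℕ} (hq : q.Prime) (hqσ : q ∉ sigma H)
    (hXH : X ≤ H) (hX : Nat.card X = q) (hC : sigmaCore H ⊓ 𝓒(X) ≠ ⊥) (hκ : kappa H = ∅) :
    q ∈ tau2 H := by
  rcases prime_kt hG hH hq hXH hX hqσ hC with h | h
  · rw [hκ] at h; exact absurd h (Set.notMem_empty _)
  · exact h

/-- the Hall `σ(H)'`-subgroup containing `K` is in the dual -/
theorem Dual.F_le {M L K H F : Subgroup G} (d : Dual M L K)
    (hp : (Nat.card K).Prime) (hβ : sigma M ⊆ beta M) (hH : IsCoatom H) (hκ : kappa H = ∅)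
    (hF : IsPiHallOf (sigma H)ᶜ F H) (hKF : K ≤ F) : F ≤ L ∧ K ≤ fittingOf F := by
  have hFH := hall_le hF
  have hKH := hKF.trans hFH
  have hKσ := d.pH hG hH hκ
  have hKπ := isPi_of_card_prime hp (rfl : Nat.card K = Nat.card K)
  have hKp := hKπ.isPGroup hp
  have hfpf := d.fpf hG hp hH hκ hKH
  obtain ⟨hCL, hNL⟩ := d.nzK hG hp
  have hKn : Group.IsNilpotent K := nilpotent_of_isPi hp hKπ
  have hKab : K ≤ 𝓒(K) := comm_prime_cz hp rfl
  have hpH : Nat.card K ∣ Nat.card H := card_dvd_of_le hKH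
  have hpσ : Nat.card K ∉ sigma H := hKσ _ hp dvd_rfl
  have hpL : Nat.card K ∈ sigma L := (hall_isPi (sigma_hall hG d.hL)) _ hp
    (card_dvd_of_le (d.KL hG))
  rcases tau_cases hG hH hp hpH hpσ with h | h | h
  · -- `p ∈ τ₁(H)`
    have hD : Group.IsNilpotent ↥⁅F, F⁆ := hall_der_nilp hG hH hFH (hall_isPi hF)
    have hDF : ⁅F, F⁆ ≤ F := comm_self_le F
    have hFD : F ≤ 𝓝(⁅F, F⁆) := (le_inf le_normalizer le_normalizer).trans (nz_comm_le F F)
    have hDd : ⁅F, F⁆ ≤ ⁅H, H⁆ := Subgroup.commutator_mono hFH hFH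
    have hpD : ¬ Nat.card K ∣ Nat.card ↥⁅F, F⁆ := fun hd =>
      h.2.2.2.1 (hd.trans (card_dvd_of_le hDd))
    have hDK : ⁅F, F⁆ ≤ 𝓒(K) := by
      refine nilpotent_le_of_pcores hD fun q hq => ?_
      rw [le_cz_comm]
      set Q := piCoreOf {q} ⁅F, F⁆ with hQd
      have hQπ : IsPi {q} Q := isPi_piCoreOf _ _
      have hQD : Q ≤ ⁅F, F⁆ := piCoreOf_le _ _
      by_cases hqd : q ∣ Nat.card ↥⁅F, F⁆
      swap
      · have : Q = ⊥ := by
          by_contra hQ1
          obtain ⟨s, hs, hsd⟩ := exists_prime_dvd_of_ne_bot hQ1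
          have hsq : s = q := hQπ s hs hsd
          exact hqd (hsq ▸ hsd.trans (card_dvd_of_le hQD))
        rw [this]
        exact le_cz_comm.1 bot_le
      have hqp : q ≠ Nat.card K := fun h' => hpD (h' ▸ hqd)
      have hqF : q ∣ Nat.card F := hqd.trans (card_dvd_of_le hDF)
      have hqσ : q ∉ sigma H := hall_isPi hF q hq hqF
      have hqH : q ∣ Nat.card H := hqF.trans (card_dvd_of_le hFH)
      have hFQ : F ≤ 𝓝(Q) := hFD.trans (nz_le_nz_piCoreOf _ _)
      have hKQ := hKF.trans hFQ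
      have hcop : (Nat.card K).Coprime q := (Nat.coprime_primes hp hq).2 (Ne.symm hqp)
      have hQp := hQπ.isPGroup hq
      rcases tau_cases hG hH hq hqH hqσ with h' | h' | h'
      · exact absurd (hqd.trans (card_dvd_of_le hDd)) h'.2.2.2.1
      · obtain ⟨B, hBF, B₀, c⟩ := exists_exc_tau2 hG hH hF h'
        have hKB := d.cz_el hG hp hβ hH hκ hF hKF c hBF hqp
        refine cop_omega hq (ms_p2' hG hq hqH) hQp hKQ
          hcop ?_
        intro x hx hxq a ha
        by_cases hx1 : x = 1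
        · rw [hx1, mul_one, one_mul]
        have h5 : zpowers x ≤ B := c.line_le hG hF hBF (by
          rw [zpowers_le]; exact hDF (hQD hx)) (zpowers_card_prime hq hxq hx1)
        have h6 : x ∈ B := h5 (mem_zpowers x)
        exact ((Subgroup.mem_centralizer_iff.1 (hKB ha)) x h6).symm
      · by_contra hn
        have hcyc : IsCyclic Q := syl_cyc hG hq hqH h'.2.2.2 hQp (hQD.trans (hDF.trans hFH))
        obtain ⟨h5, h6⟩ := cyc_comm hq hQp hcyc hKQ hcop hn
        have h7 := fpf_cz hG hH hp hKH hKσ hfpf hQπ (hQD.trans (hDF.trans hFH)) hqσ hqp hKQ h6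
        have hQ1 : Q ≠ ⊥ := by
          intro h8
          apply hn
          rw [h8]; exact le_cz_comm.1 bot_le
        obtain ⟨s, hs, hsd, X, hX, hXc⟩ := exists_prime_sub hQ1
        have hsq : s = q := hQπ s hs hsd
        subst hsq
        have h8 : sigmaCore H ⊓ 𝓒(X) = sigmaCore H :=
          inf_eq_left.2 (le_cz_comm.1 (hX.trans h7))
        have h9 := kappa_of_line hG hH hs hqσ ((hX.trans hQD).trans (hDF.trans hFH)) hXc (by
          rw [h8]; exact sigmaCore_ne_bot hG hH) hκ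
        exact h9.2.2.2 h'.2.2.2
    have hFK : F ≤ 𝓒(K) := by
      intro f hf
      rw [Subgroup.mem_centralizer_iff]
      intro k hk
      set c := f * k * f⁻¹ * k⁻¹ with hc
      have hcD : c ∈ ⁅F, F⁆ := Subgroup.commutator_mem_commutator hf (hKF hk)
      have hck : Commute c k := (Subgroup.mem_centralizer_iff.1 (hDK hcD) k hk).symm
      have h5 : f * k * f⁻¹ = c * k := by rw [hc]; group
      have h6 : k ^ Nat.card K = 1 := by
        have := pow_card_eq_one' (x := (⟨k, hk⟩ : K))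
        exact congrArg Subtype.val this
      have h7 : c ^ Nat.card K = 1 := by
        have h8 : (f * k * f⁻¹) ^ Nat.card K = 1 := by
          rw [conj_pow, h6]; group
        rw [h5, hck.mul_pow, h6, mul_one] at h8
        exact h8
      have h8 : c = 1 := by
        have h9 := orderOf_dvd_of_pow_eq_one h7
        rcases (Nat.dvd_prime hp).1 h9 with h10 | h10
        · exact orderOf_eq_one_iff.1 h10
        · exfalso
          apply hpD
          rw [← h10, ← Nat.card_zpowers]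
          exact card_dvd_of_le (by rwa [zpowers_le])
      rw [h8, one_mul] at h5
      calc k * f = (f * k * f⁻¹) * f := by rw [h5]
        _ = f * k := by group
    exact ⟨hFK.trans hCL, le_fittingOf hKF (hFK.trans (cz_le_nz K)) hKn⟩
  · -- `p ∈ τ₂(H)`
    obtain ⟨B, hBF, B₀, c⟩ := exists_exc_tau2 hG hH hF h
    have hKB : K ≤ B := c.line_le hG hF hBF hKF rfl
    have hBab : B ≤ 𝓒(B) := comm_iff_le_cz.1 c.el.1
    have hBL : B ≤ L := (hBab.trans (cz_anti hKB)).trans hCL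
    have hFB : F ≤ 𝓝(B) := by
      have h1 := c.infN hG hF hBF
      rw [← h1]; exact inf_le_right
    have hBπ := elab_isPi hp c.el
    have h1 := nz_noncyc hG d.hL hpL (hBπ.isPGroup hp) hBL ((c.e2 hG).nc hp)
    exact ⟨hFB.trans h1, hKB.trans (le_fittingOf hBF hFB (nilpotent_of_isPi hp hBπ))⟩
  · obtain ⟨h1, -⟩ := tau3_normal hG hH hF h hKF hKπ
    exact ⟨h1.trans hNL, le_fittingOf hKF h1 hKn⟩

/-- B & G 14.12 -/
theorem bg14_12 {M K U L R H : Subgroup G} (hKU : IsSigmaDecomposition M K U) (hU1 : U ≠ ⊥)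
    (d : Dual M L K) {r : ℕ} (hr : r.Prime) (hrU : r ∣ Nat.card U) (hR : IsPiHallOf {r} R U)
    (hH : IsCoatom H) (hNR : 𝓝(R) ≤ H) :
    kappa H = ∅ ∧ U ≤ sigmaCore H ∧ M ⊓ H = U ⊔ K ∧ ¬ H ⊓ 𝓝(U) ≤ M ∧
      K ≤ fittingOf (H ⊓ L) ∧ IsComplIn (H ⊓ L) (sigmaCore H) H ∧
      Group.IsNilpotent (sigmaCore H) ∧ sigmaCore H ⊓ 𝓒(K) = ⊥ := by
  have hM := d.hM
  have hK1 := d.K1
  obtain ⟨hE, hUE, hKE, -⟩ := dec_facts hG hM hKU
  obtain ⟨hp, hMn, hCU, hβ⟩ := p2_facts hG hM hKU hK1 hU1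
  have hUab := dec_U_ab hG hM hKU hK1
  have hUK := dec_UcK hG hM hKU hK1
  have hUM : U ≤ M := hKU.compl.1
  have hRU := hall_le hR
  have hU0 := hall_pi0 hG hE hUE
  have hU0π := hall_isPi hU0
  have hUs : IsPi (sigma M)ᶜ U := hU0π.mono fun s hs => hs.2.2
  have hUκ : IsPi (kappa M)ᶜ U := hU0π.mono fun s hs => hs.2.1
  have hrM : r ∉ sigma M := hUs r hr hrU
  have hrκ : r ∉ kappa M := hUκ r hr hrU
  have hRM : IsPiHallOf {r} R M := hall_trans hR hU0 (Set.singleton_subset_iff.2 ⟨hr, hrκ, hrM⟩)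
  have hUR : U ≤ 𝓝(R) := (hUab.trans (cz_anti hRU)).trans (cz_le_nz R)
  have hKR : K ≤ 𝓝(R) := by
    have h1 := piCoreOf_eq_of_hall hR hUR
    rw [← h1]
    exact hKU.normal.trans (nz_le_nz_piCoreOf _ _)
  have hUH := hUR.trans hNR
  have hKH := hKR.trans hNR
  have hR1 : R ≠ ⊥ := hall_ne_bot hr hR hrU
  have hRπ := hall_isPi hR
  have hRp := hRπ.isPGroup hr
  have hCL := (d.nzK hG hp).1
  -- `κ(H) = ∅`
  have hκ : kappa H = ∅ := by
    by_contra hne
    obtain ⟨g, hg | hg⟩ := d.conj_of hG hH (Set.nonempty_iff_ne_empty.2 hne)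
    · apply hrM
      have h1 : IsPiHallOf {r} (R ^ᵍ g) H := by rw [hg]; exact hall_cj hRM g
      have h2 : IsPiHallOf {r} R H := hall_of_card_le h1 hRπ (le_normalizer.trans hNR)
        (by rw [card_cj])
      have h3 : r ∈ sigma H := mem_sigma_iff.2 ⟨hr, (hrU.trans (card_dvd_of_le hUH)), R, h2, hNR⟩
      rw [hg, sigma_cj] at h3
      exact h3
    · have h1 : K ^ᵍ g⁻¹ ≤ L := by rw [← le_cj_iff, ← hg]; exact hKH
      have h2 := mem_of_cj_le hG d.hL hp rfl (d.KL hG) hCL h1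
      have h3 : H = L := by
        rw [hg]; exact cj_eq_of_mem (by rwa [← inv_inv g, L.inv_mem_iff])
      have h4 : U ≤ K := by
        refine Z_sub_J hG hM hKU.hall ?_ hUs
        rw [← d.inf hG]
        exact le_inf hUM (h3 ▸ hUH)
      apply hU1
      rw [eq_bot_iff, ← cop_inf (dec_cop hG hM hKU)]
      exact le_inf h4 le_rfl
  have hKσ := d.pH hG hH hκ
  have hfpf := d.fpf hG hp hH hκ hKH
  have hσn : H ≤ 𝓝(sigmaCore H) := le_nz_sigmaCore hG H
  have hσπ := hall_isPi (sigma_hall hG hH)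
  -- no prime of `U` is in `τ₂(H)`
  have key : ∀ s : ℕ, s.Prime → s ∣ Nat.card U → s ∉ tau2 H := by
    intro s hs hsU ht
    obtain ⟨S, hS⟩ := exists_syl hs U
    have hSU := hall_le hS
    have hUS : U ≤ 𝓝(S) := (hUab.trans (cz_anti hSU)).trans (cz_le_nz S)
    have hKS : K ≤ 𝓝(S) := by
      have h1 := piCoreOf_eq_of_hall hS hUS
      rw [← h1]
      exact hKU.normal.trans (nz_le_nz_piCoreOf _ _)
    have hSKπ : IsPi (sigma H)ᶜ (S ⊔ K) := by
      refine IsPi.sup' ?_ hKσ hKS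
      refine (hall_isPi hS).mono ?_
      rintro t ht'
      rw [Set.mem_singleton_iff] at ht'
      rw [ht']; exact ht.2.1
    obtain ⟨F, hF, hSKF⟩ := hall_exists_ge (max_sol hG hH) hSKπ (sup_le (hSU.trans hUH) hKH)
    obtain ⟨B, hBF, B₀, c⟩ := exists_exc_tau2 hG hH hF ht
    have hsp : s ≠ Nat.card K := by
      intro h
      have h1 := dec_cop hG hM hKU
      rw [← h] at h1
      exact hs.one_lt.ne' (Nat.Coprime.eq_one_of_dvd h1 hsU)
    have hKB := d.cz_el hG hp hβ hH hκ hF (le_sup_right.trans hSKF) c hBF hsp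
    obtain ⟨Y, hY, hYc⟩ := exists_card_prime hs (hall_dvd hs hS hsU)
    have hYB : Y ≤ B := c.line_le hG hF hBF ((hY.trans le_sup_left).trans hSKF) hYc
    have h1 : Y ≤ U ⊓ 𝓒(K) := le_inf (hY.trans hSU) (le_cz_comm.1 (hKB.trans (cz_anti hYB)))
    rw [hUK] at h1
    exact ne_bot_of_card_prime hs hYc (le_bot_iff.1 h1)
  have hrH : r ∈ sigma H := by
    rcases prime_class hG hH hr hRp hR1 hNR with h | h
    · exact h
    · exact absurd h (key r hr hrU)
  have hRσ : R ≤ sigmaCore H := syl_le_sigmaCore hG hH hrH hRπ (hRU.trans hUH)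
  have hUσπ : IsPi (sigma H) U := by
    intro s hs hsU
    by_contra hsσ
    obtain ⟨Y, hY, hYc⟩ := exists_card_prime hs hsU
    have hRY : R ≤ 𝓒(Y) := (hRU.trans hUab).trans (cz_anti hY)
    have h1 : sigmaCore H ⊓ 𝓒(Y) ≠ ⊥ := by
      intro h
      have h2 : R ≤ sigmaCore H ⊓ 𝓒(Y) := le_inf hRσ hRY
      rw [h] at h2
      exact hR1 (le_bot_iff.1 h2)
    exact key s hs hsU (kappa_of_line hG hH hs hsσ (hY.trans hUH) hYc h1 hκ)
  have hUσ : U ≤ sigmaCore H := le_hall_of_normal (sigma_hall hG hH) hσn hUσπ hUH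
  have hσnil : Group.IsNilpotent (sigmaCore H) := by
    refine nilp_of_fpf hG (sigmaCore_sol hG hH) hp rfl (hKH.trans hσn) ?_ hfpf
    exact (hσπ.coprime hKσ).symm
  -- `M ∩ H = U K`
  have hncM : ∀ g : G, H ≠ M ^ᵍ g := (d.symm hG).notconj hG hκ
  have hMσH : sigmaCore M ⊓ H = ⊥ := by
    rw [eq_bot_iff, ← hCU]
    refine le_inf inf_le_left ?_
    rw [le_cz_comm]
    exact (le_inf hUσ hUM).trans (sig_comm hG hM hH hncM)
  have hMH : M ⊓ H = U ⊔ K := by
    have h1 := compl_sup hG hM hE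
    have h2 := dedekind' (H := U ⊔ K) (K := sigmaCore M) (L := H)
      ((hall_le hE).trans (le_nz_sigmaCore hG M)) (sup_le hUH hKH)
    rw [sup_comm, h1, hMσH, sup_bot_eq] at h2
    exact h2
  have hKσH : K ⊓ sigmaCore H = ⊥ := cop_inf (hσπ.coprime hKσ).symm
  have hnU : ¬ H ⊓ 𝓝(U) ≤ M := by
    intro h
    have h1 : sigmaCore H ⊓ 𝓝(U) ≤ U := by
      have h2 : sigmaCore H ⊓ 𝓝(U) ≤ (U ⊔ K) ⊓ sigmaCore H := by
        rw [← hMH]
        refine le_inf (le_inf ?_ (inf_le_left.trans (sigmaCore_le hG hH))) inf_le_left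
        exact (inf_le_inf (sigmaCore_le hG hH) le_rfl).trans h
      rwa [dedekind hKU.normal hUσ, hKσH, sup_bot_eq] at h2
    have h3 := nilpotent_eq_of_nz_le hσnil hUσ h1
    have h4 : H ≤ M := by
      refine le_trans (le_inf le_rfl ?_) h
      rw [h3]; exact hσn
    have h5 : H = M := (hH.le_iff.1 h4).resolve_left hM.1 |>.symm
    exact hncM 1 (by rw [cj_one, h5])
  obtain ⟨F, hF, hKF⟩ := hall_exists_ge (max_sol hG hH) hKσ hKH
  obtain ⟨hFL, hKFit⟩ := d.F_le hG hp hβ hH hκ hF hKF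
  have hLσ : sigmaCore H ⊓ L = ⊥ := by
    rw [eq_bot_iff, ← hfpf]
    refine le_inf inf_le_left ?_
    rw [le_cz_comm]
    refine (le_inf (d.KL hG) hKH).trans ?_
    rw [le_cz_comm]
    exact sig_comm hG d.hL hH (d.notconj hG hκ)
  have hHL : H ⊓ L = F := by
    have h1 := compl_sup hG hH hF
    have h2 := dedekind' (H := F) (K := sigmaCore H) (L := L) ((hall_le hF).trans hσn) hFL
    rw [sup_comm, h1, hLσ, sup_bot_eq] at h2
    exact h2
  refine ⟨hκ, hUσ, hMH, hnU, by rw [hHL]; exact hKFit, ?_, hσnil, hfpf⟩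
  rw [hHL]
  refine compl_of (hall_le hF) (sigmaCore_le hG hH) ?_ (Or.inl ((hall_le hF).trans hσn)) ?_
  · rw [inf_comm]; exact cop_inf ((hall_isPi (sigma_hall hG hH)).coprime (hall_isPi hF))
  · rw [sup_comm, compl_sup hG hH hF]

end

end CfsgLib.BGPi
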