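import Cfsg.Agent.EqBase
import Cfsg.Agent.LibBG14u

/-! B & G §14-15: derived subgroups and Fitting subgroups. -/

open Subgroup
open scoped Pointwise commutatorElement

namespace CfsgLib.BGPi

open Cfsg

universe u

section
variable {G : Type u} [Group G] [Finite G]

theorem cz_le_der_of_comm {V E : Subgroup G} (hEn : E ≤ 𝓝(V))
    (hcop : (Nat.card V).Coprime (Nat.card E)) (h1 : ⁅V, E⁆ = V) : V ⊓ 𝓒(E) ≤ ⁅V, V⁆ := by
  set D := ⁅V, V⁆ with hD
  have hVD : V ≤ 𝓝(D) := left_le_nz_comm V V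
  have hED : E ≤ 𝓝(D) := le_nz_comm hEn hEn
  have hVab : qm D V ≤ 𝓒(qm D V) := (qm_cz_iff hVD hVD).2 le_rfl
  have h2 := ab_cop_inf hVab (qm_nz hEn) (A := qm D E)
    (Nat.Coprime.coprime_dvd_left (qm_card_dvd hED) (hcop.symm.coprime_dvd_right (qm_card_dvd hVD)))
  rw [← qm_comm hVD hED, h1] at h2
  rintro x ⟨hxV, hxE⟩
  have hxn : x ∈ 𝓝(D) := hVD hxV
  have h3 : qe D hxn ∈ qm D V ⊓ 𝓒(qm D E) := by
    refine ⟨qe_mem hxn hxV, mem_cz.2 ?_⟩
    intro y hy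
    obtain ⟨e, hen, heE, rfl⟩ := mem_qm.1 hy
    rw [← qe_mul hen hxn, ← qe_mul hxn hen]
    congr 1
    have := mem_cz.1 hxE e heE
    simp only [this]
  rw [h2, mem_bot] at h3
  exact (qe_eq_one hxn).1 h3

variable (hG : IsMinSimpleOddOrder G)
include hG

theorem dec_sup {M K U : Subgroup G} (hM : IsCoatom M) (hKU : IsSigmaDecomposition M K U) :
    (U ⊔ sigmaCore M) ⊔ K = M := by
  obtain ⟨-, -, -, h⟩ := dec_facts hG hM hKU
  rw [sup_assoc, sup_comm _ K, ← sup_assoc]; exact h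

theorem dec_der {M K U : Subgroup G} (hM : IsCoatom M) (hKU : IsSigmaDecomposition M K U)
    (hK1 : K ≠ ⊥) : ⁅M, M⁆ = U ⊔ sigmaCore M := by
  have hn := dec_normal hG hM hKU
  have hs := dec_sup hG hM hKU
  have hKM := hall_le hKU.hall
  have hUM : U ≤ M := hKU.compl.1
  have hNM : U ⊔ sigmaCore M ≤ M := sup_le hUM (sigmaCore_le hG hM)
  have hKab : K ≤ 𝓒(K) := by
    haveI := hKU.cyclic
    exact comm_iff_le_cz.1 inferInstance
  apply le_antisymm
  · -- `M / N` is abelian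
    have h1 : ⁅K, K⁆ = ⊥ := comm_eq_bot_iff.2 hKab
    have h2 : ∀ x ∈ M, ∀ y ∈ M, ⁅x, y⁆ ∈ U ⊔ sigmaCore M := by
      intro x hx y hy
      rw [← hs] at hx hy
      obtain ⟨a, ha, k, hk, rfl⟩ := (mem_sup_of_nz' (hKM.trans hn)).1 hx
      obtain ⟨b, hb, l, hl, rfl⟩ := (mem_sup_of_nz' (hKM.trans hn)).1 hy
      have hkl : k * l = l * k := Subgroup.mem_centralizer_iff.1 (hKab hl) k hk
      have hcj : ∀ z ∈ M, ∀ n ∈ U ⊔ sigmaCore M, z * n * z⁻¹ ∈ U ⊔ sigmaCore M := fun z hz n hn' =>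
        (Subgroup.mem_normalizer_iff.1 (hn hz) n).1 hn'
      have h3 : ⁅a * k, b * l⁆ = a * (k * b * k⁻¹) * ((k * l * k⁻¹ * l⁻¹) * (l * a⁻¹ * l⁻¹)) * b⁻¹ := by
        rw [commutatorElement_def]; group
      have h4 : k * l * k⁻¹ * l⁻¹ = 1 := by rw [hkl]; group
      rw [h3, h4, one_mul]
      have hkM := hKM hk
      have hlM := hKM hl
      exact Subgroup.mul_mem _ (Subgroup.mul_mem _ (Subgroup.mul_mem _ ha (hcj k hkM b hb))
        (hcj l hlM _ (Subgroup.inv_mem _ ha))) (Subgroup.inv_mem _ hb)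
    exact Subgroup.commutator_le.2 h2
  · refine sup_le ?_ (sigma_le_der hG hM)
    calc U = ⁅U, K⁆ := (dec_comm hG hM hKU hK1).symm
      _ ≤ _ := Subgroup.commutator_mono hUM hKM

/-- `K*` is in the second derived subgroup -/
theorem star_le_der2 {M K U : Subgroup G} (hM : IsCoatom M) (hKU : IsSigmaDecomposition M K U)
    (hK1 : K ≠ ⊥) : sigmaCore M ⊓ 𝓒(K) ≤ ⁅⁅M, M⁆, ⁅M, M⁆⁆ := by
  have hn := dec_normal hG hM hKU
  have hs := dec_sup hG hM hKU
  have hKM := hall_le hKU.hall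
  have hKn := hKM.trans hn
  have hUM : U ≤ M := hKU.compl.1
  have hNM : U ⊔ sigmaCore M ≤ M := sup_le hUM (sigmaCore_le hG hM)
  rw [dec_der hG hM hKU hK1]
  have hcop : (Nat.card ↥(U ⊔ sigmaCore M)).Coprime (Nat.card K) :=
    ((hall_isPi hKU.hall).coprime (hall_isPi (dec_hall hG hM hKU))).symm
  have h1 : ⁅U ⊔ sigmaCore M, K⁆ = U ⊔ sigmaCore M := by
    refine eq_comm_of_le_der hKn (cop_inf hcop) (solvable_sub hNM (max_sol hG hM)) ?_
    rw [hs, dec_der hG hM hKU hK1]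
  exact (inf_le_inf le_sup_right le_rfl).trans (cz_le_der_of_comm hKn hcop h1)

/-- elements of prime order of `F(M)` outside `σ(M)` -/
theorem ti_line_sig' {M X : Subgroup G} (hM : IsCoatom M) {q : ℕ} (hq : q.Prime)
    (hqσ : q ∉ sigma M) (hX : Nat.card X = q) (hXM : X ≤ M) (hXC : X ≤ 𝓒(sigmaCore M)) :
    q ∈ tau2 M ∧ 𝓒(X) ≤ M ∧ (∀ L : Subgroup G, IsCoatom L → 𝓒(X) ≤ L → L = M) := by
  have h1 : sigmaCore M ⊓ 𝓒(X) = sigmaCore M := inf_eq_left.2 (le_cz_comm.1 hXC)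
  have h2 : sigmaCore M ⊓ 𝓒(X) ≠ ⊥ := by rw [h1]; exact sigmaCore_ne_bot hG hM
  have ht : q ∈ tau2 M := by
    rcases prime_kt hG hM hq hXM hX hqσ h2 with h | h
    · exfalso
      obtain ⟨K, hK, hXK⟩ := hall_exists_ge (π := kappa M) (max_sol hG hM)
        ((isPi_of_card_prime hq hX).mono (by rintro s rfl; exact h)) hXM
      have hX1 := ne_bot_of_card_prime hq hX
      have hK1 : K ≠ ⊥ := fun h => hX1 (le_bot_iff.1 (h ▸ hXK))
      have h3 := kap_cz hG hM hK hXK hX1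
      rw [h1] at h3
      have h4 := star_card hG hM hK hK1
      rw [← h3] at h4
      have h5 : 0 < Nat.card (sigmaCore M) := Nat.card_pos
      omega
    · exact h
  exact ⟨ht, tau2_uniq' hG hM ht hXM hX h2⟩

theorem ti_of_uniq {M X : Subgroup G} (hM : IsCoatom M) {g : G} (h1 : 𝓒(X) ≤ M)
    (h2 : ∀ L : Subgroup G, IsCoatom L → 𝓒(X ^ᵍ g) ≤ L → L = M) : g ∈ M := by
  have h3 : M ^ᵍ g = M := h2 _ (coatom_cj hM g) (by rw [cz_cj]; exact cj_mono h1 g)
  have h6 : g ∈ 𝓝(M) := by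
    rw [Subgroup.mem_normalizer_iff]
    intro x
    constructor
    · intro hx
      have h7 : g * x * g⁻¹ ∈ M ^ᵍ g := (mem_cj' hG).2 hx
      rwa [h3] at h7
    · intro hx
      rw [← h3] at hx
      exact (mem_cj' hG).1 hx
  rwa [max_nz_self hG hM] at h6

theorem fit_le {M : Subgroup G} : fittingOf M ≤ M := Subgroup.map_subtype_le _

theorem ti_of_lines {M F : Subgroup G} (hM : IsCoatom M) (hMF : M ≤ 𝓝(F))
    (h : ∀ (q : ℕ) (X : Subgroup G) (g : G), q.Prime → Nat.card X = q → X ≤ F → X ^ᵍ g ≤ F →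
      g ∈ M) : IsTISubset (F : Set G) := by
  intro g hg x hx hgx
  by_contra hx1
  apply hg
  refine hMF ?_
  obtain ⟨q, hq, -, X, hX, hXc⟩ := exists_prime_sub (show zpowers x ≠ ⊥ by
    rwa [Ne, zpowers_eq_bot])
  refine h q X g hq hXc (hX.trans (by rwa [zpowers_le])) ?_
  refine (cj_mono hX g).trans ?_
  rw [← zpowers_conj, zpowers_le]
  exact hgx

theorem p2_fit_ti {M K U : Subgroup G} (hM : IsCoatom M) (hKU : IsSigmaDecomposition M K U)
    (hK1 : K ≠ ⊥) (hU1 : U ≠ ⊥) : IsTISubset (fittingOf M : Set G) ∧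
      sigmaCore M ≤ fittingOf M := by
  obtain ⟨hp, hMn, hCU, hβ⟩ := p2_facts hG hM hKU hK1 hU1
  have hσF : sigmaCore M ≤ fittingOf M :=
    le_fittingOf (sigmaCore_le hG hM) (le_nz_sigmaCore hG M) hMn
  refine ⟨ti_of_lines hG hM (le_nz_fittingOf M) ?_, hσF⟩
  intro q X g hq hXc hX hXg
  have hXM := hX.trans (fittingOf_le M)
  have hXgM := hXg.trans (fittingOf_le M)
  have hXπ := isPi_of_card_prime hq hXc
  by_cases hqσ : q ∈ sigma M
  · have h1 := beta_nz hG hM (hβ hqσ) hXM (hXπ.isPGroup hq) (ne_bot_of_card_prime hq hXc)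
    exact mem_of_cj_le hG hM hq hXc (syl_le_sigmaCore hG hM hqσ hXπ hXM)
      ((cz_le_nz X).trans h1) hXgM
  · have hc : ∀ Y : Subgroup G, Y ≤ fittingOf M → Nat.card Y = q → Y ≤ 𝓒(sigmaCore M) := by
      intro Y hY hYc
      refine nilpotent_commute (π := {q}) (fittingOf_nilpotent M) hY hσF
        (isPi_of_card_prime hq hYc) ?_
      refine (hall_isPi (sigma_hall hG hM)).mono ?_
      intro s hs hs'
      rw [Set.mem_singleton_iff] at hs'
      exact hqσ (hs' ▸ hs)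
    have hXgc : Nat.card ↥(X ^ᵍ g) = q := by rw [card_cj, hXc]
    obtain ⟨-, h1, -⟩ := ti_line_sig' hG hM hq hqσ hXc hXM (hc X hX hXc)
    obtain ⟨-, -, h2⟩ := ti_line_sig' hG hM hq hqσ hXgc hXgM (hc _ hXg hXgc)
    exact ti_of_uniq hG hM h1 h2

end

end CfsgLib.BGPi
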