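import Cfsg.Agent.EqBase
import Cfsg.Agent.LibBG14v

/-! B & G §15: the Fitting subgroup of a maximal subgroup. -/

open Subgroup
open scoped Pointwise commutatorElement

namespace CfsgLib.BGPi

open Cfsg

universe u

section
variable {G : Type u} [Group G] [Finite G]

variable (hG : IsMinSimpleOddOrder G)
include hG

/-- a subgroup of order `q ∈ κ(M)` is not normal in `M` -/
theorem kappa_not_normal {M X : Subgroup G} (hM : IsCoatom M) {q : ℕ} (hq : q ∈ kappa M)
    (hX : Nat.card X = q) (hXM : X ≤ M) (hn : M ≤ 𝓝(X)) : False := by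
  have hqp := hq.1
  obtain ⟨K, hK, hXK⟩ := hall_exists_ge (π := kappa M) (max_sol hG hM)
        ((isPi_of_card_prime hqp hX).mono (by rintro s rfl; exact hq)) hXM
  have hX1 := ne_bot_of_card_prime hqp hX
  have hK1 : K ≠ ⊥ := fun h => hX1 (le_bot_iff.1 (h ▸ hXK))
  have h1 := kap_nz hG hM hK hXK hX1 ((hall_le hK).trans hn)
  rw [inf_eq_left.2 hn] at h1
  have h2 := Z_sig hG hM hK
  rw [← h1, inf_eq_right.2 (sigmaCore_le hG hM)] at h2
  have h3 := star_card hG hM hK hK1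
  rw [← h2] at h3
  have h4 : 0 < Nat.card (sigmaCore M) := Nat.card_pos
  omega

theorem fit_sigma {M : Subgroup G} (hM : IsCoatom M) :
    piCoreOf (sigma M) (fittingOf M) = fittingOf (sigmaCore M) := by
  have hFn := fittingOf_nilpotent M
  have hMF := le_nz_fittingOf M
  apply le_antisymm
  · have h1 : piCoreOf (sigma M) (fittingOf M) ≤ M := (piCoreOf_le _ _).trans (fittingOf_le M)
    have h2 : M ≤ 𝓝(piCoreOf (sigma M) (fittingOf M)) := hMF.trans (nz_le_nz_piCoreOf _ _)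
    have h3 := le_hall_of_normal (sigma_hall hG hM) (le_nz_sigmaCore hG M)
      (isPi_piCoreOf (sigma M) (fittingOf M)) h1
    exact le_fittingOf h3 ((sigmaCore_le hG hM).trans h2) (nilpotent_sub (piCoreOf_le _ _) hFn)
  · refine nilpotent_le_piCoreOf hFn ?_ ((hall_isPi (sigma_hall hG hM)).le (fittingOf_le _))
    exact le_fittingOf ((fittingOf_le _).trans (sigmaCore_le hG hM))
      ((le_nz_sigmaCore hG M).trans (nz_le_nz_fittingOf _)) (fittingOf_nilpotent _)

theorem fit_sup {M : Subgroup G} (hM : IsCoatom M) :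
    fittingOf M = fittingOf (sigmaCore M) ⊔ piCoreOf (sigma M)ᶜ (fittingOf M) := by
  rw [← fit_sigma hG hM]
  exact (nilpotent_sup_piCoreOf (fittingOf_nilpotent M)).symm

/-- primes of `O_{σ'}(F(M))` -/
theorem fit_tau2 {M : Subgroup G} (hM : IsCoatom M) :
    IsPi (tau2 M) (piCoreOf (sigma M)ᶜ (fittingOf M)) := by
  intro q hq hqd
  set Y := piCoreOf (sigma M)ᶜ (fittingOf M) with hY
  have hFn := fittingOf_nilpotent M
  have hYF : Y ≤ fittingOf M := piCoreOf_le _ _
  have hYM : Y ≤ M := hYF.trans (fittingOf_le M)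
  have hYn : Group.IsNilpotent Y := nilpotent_sub hYF hFn
  have hqσ : q ∉ sigma M := isPi_piCoreOf (sigma M)ᶜ (fittingOf M) q hq hqd
  obtain ⟨X, hX, hXc⟩ := exists_card_prime hq hqd
  have hXM := hX.trans hYM
  have hW1 : fittingOf (sigmaCore M) ≠ ⊥ := by
    rw [Ne, fittingOf_eq_bot (sigmaCore_sol hG hM)]; exact sigmaCore_ne_bot hG hM
  have hC : sigmaCore M ⊓ 𝓒(X) ≠ ⊥ := by
    intro h
    apply hW1
    rw [eq_bot_iff, ← h]
    refine le_inf (fittingOf_le _) ?_
    rw [← fit_sigma hG hM]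
    exact nilpotent_commute hFn (piCoreOf_le _ _) (hX.trans hYF) (isPi_piCoreOf _ _)
      ((isPi_of_card_prime hq hXc).mono (by rintro s rfl; exact hqσ))
  rcases prime_kt hG hM hq hXM hXc hqσ hC with h | h
  · exfalso
    have hQ : IsPiHallOf {q} (piCoreOf {q} Y) Y := nilpotent_hall hYn
    have hQM : piCoreOf {q} Y ≤ M := (piCoreOf_le _ _).trans hYM
    have hqM : q ∣ Nat.card M := hqd.trans (card_dvd_of_le hYM)
    have hcyc : IsCyclic ↥(piCoreOf {q} Y) := syl_cyc hG hq hqM ((kappa_iff hG).1 h).2.2.1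
      ((isPi_piCoreOf _ _).isPGroup hq) hQM
    have hXQ : X ≤ piCoreOf {q} Y := nilpotent_le_piCoreOf hYn hX (isPi_of_card_prime hq hXc)
    have hn : M ≤ 𝓝(piCoreOf {q} Y) :=
      ((le_nz_fittingOf M).trans (nz_le_nz_piCoreOf _ _)).trans (nz_le_nz_piCoreOf _ _)
    exact kappa_not_normal hG hM h hXc hXM (hn.trans (nz_of_cyclic hcyc hXQ))
  · exact h

theorem fit_cyc {M : Subgroup G} (hM : IsCoatom M) :
    IsCyclic ↥(piCoreOf (sigma M)ᶜ (fittingOf M)) := by
  set Y := piCoreOf (sigma M)ᶜ (fittingOf M) with hY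
  by_cases hY1 : Y = ⊥
  · rw [hY1]; infer_instance
  have hFn := fittingOf_nilpotent M
  have hYF : Y ≤ fittingOf M := piCoreOf_le _ _
  have hYM : Y ≤ M := hYF.trans (fittingOf_le M)
  have hYn : Group.IsNilpotent Y := nilpotent_sub hYF hFn
  have hYπ : IsPi (sigma M)ᶜ Y := isPi_piCoreOf (sigma M)ᶜ (fittingOf M)
  obtain ⟨q, hq, hqd⟩ := exists_prime_dvd_of_ne_bot hY1
  have hMn := nilp_of_tau2 hG hM (fit_tau2 hG hM q hq hqd)
  have hσF : sigmaCore M ≤ fittingOf M :=
    le_fittingOf (sigmaCore_le hG hM) (le_nz_sigmaCore hG M) hMn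
  refine cyclic_of_nilp_rank1 (ms_odd hG Y) hYn fun p hp => ?_
  by_contra hr
  obtain ⟨A, hAY, hA, hAc⟩ := (not_rank_iff hp).1 hr
  have hAπ := hYπ.le hAY
  have hpσ : p ∉ sigma M := hAπ p hp (elab_card_dvd hAc)
  refine bg10_11b hG hM hp hpσ (hAY.trans hYM) hA hAc ?_
  rw [le_cz_comm]
  exact nilpotent_commute hFn hσF (hAY.trans hYF) (hall_isPi (sigma_hall hG hM)) hAπ

end

end CfsgLib.BGPi
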