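import Cfsg.Agent.EqBase
import Cfsg.Agent.LibBG15a
import Cfsg.Agent.S1442

/-! B & G 15.2: preparations. -/

open Subgroup
open scoped Pointwise commutatorElement

namespace CfsgLib.BGPi

open Cfsg

universe u

section
variable {G : Type u} [Group G] [Finite G]

theorem qm_fix {V X N : Subgroup G} (hXV : X ≤ 𝓝(V)) (hcop : (Nat.card X).Coprime (Nat.card V))
    (hVs : Group.IsSolvable V) (hNV : N ≤ V) (hVN : V ≤ 𝓝(N)) (hXN : X ≤ 𝓝(N)) :
    qm N V ⊓ 𝓒(qm N X) ≤ qm N (V ⊓ 𝓒(X)) := by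
  rintro y ⟨hyV, hyX⟩
  obtain ⟨v, hv, hvV, rfl⟩ := mem_qm.1 hyV
  have h1 : qm N (zpowers v) ≤ 𝓒(qm N X) := by rw [qm_zpowers hv, zpowers_le]; exact hyX
  have h2 := (qm_cz_iff (zpowers_le.2 hv) hXN).1 h1
  have h3 := cop_quot_cz hXV hcop hVs hNV hXN (zpowers_le.2 hvV) (zpowers_le.2 hv) h2
  rw [qe_mem_iff (inf_le_left.trans hVN), sup_comm]
  exact h3 (mem_zpowers v)

theorem qm_bot_of_le {X N : Subgroup G} (hX : X ≤ 𝓝(N)) (h : X ≤ N) : qm N X = ⊥ :=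
  (qm_eq_bot hX).2 h

theorem qm_prime {X N : Subgroup G} (hX : (Nat.card X).Prime) (hXN : X ≤ 𝓝(N)) (h : ¬ X ≤ N) :
    Nat.card (qm N X) = Nat.card X := by
  rcases (Nat.dvd_prime hX).1 (qm_card_dvd hXN) with h1 | h1
  · exact absurd ((qm_eq_bot hXN).1 (card_eq_one.1 h1)) h
  · exact h1

theorem not_le_of_cop {X N V : Subgroup G} (hX : (Nat.card X).Prime) (hNV : N ≤ V)
    (hcop : (Nat.card X).Coprime (Nat.card V)) : ¬ X ≤ N := by
  intro h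
  have h1 : X ⊓ V = ⊥ := cop_inf hcop
  rw [inf_eq_left.2 (h.trans hNV)] at h1
  exact ne_bot_of_card_prime hX rfl h1

/-- 3.4 modulo a normal subgroup -/
theorem l34q {V K X N : Subgroup G} (hVs : Group.IsSolvable V)
    (hX : (Nat.card X).Prime) (hX2 : Nat.card X ≠ 2)
    (hKs : Group.IsSolvable K) (hKodd : Odd (Nat.card K))
    (hKV' : (Nat.card K).Coprime (Nat.card V)) (hXV' : (Nat.card X).Coprime (Nat.card V))
    (hcop : (Nat.card X).Coprime (Nat.card K)) (hXK : X ≤ 𝓝(K)) (hKV : K ≤ 𝓝(V))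
    (hXV : X ≤ 𝓝(V)) (hNV : N ≤ V) (hVN : V ≤ 𝓝(N)) (hKN : K ≤ 𝓝(N)) (hXN : X ≤ 𝓝(N))
    (hfix : V ⊓ 𝓒(X) ≤ N) : ⁅V, ⁅K, X⁆⁆ ≤ N := by
  have hXn : ¬ X ≤ N := not_le_of_cop hX hNV hXV'
  have hc := qm_prime hX hXN hXn
  have h1 := l34s (V := qm N V) (K := qm N K) (X := qm N X) (qm_solvable hVs) (by rwa [hc])
    (by rwa [hc]) (qm_solvable hKs) (hKodd.of_dvd_nat (qm_card_dvd hKN))
    (Nat.Coprime.of_dvd (qm_card_dvd hKN) (qm_card_dvd hVN) hKV')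
    (by rw [hc]; exact hXV'.coprime_dvd_right (qm_card_dvd hVN))
    (by rw [hc]; exact hcop.coprime_dvd_right (qm_card_dvd hKN))
    (qm_nz hXK) (qm_nz hKV) (qm_nz hXV) (by
      have h2 := qm_fix hXV hXV' hVs hNV hVN hXN
      have h3 : qm N (V ⊓ 𝓒(X)) = ⊥ := qm_bot_of_le (inf_le_left.trans hVN) hfix
      rw [h3] at h2
      rw [le_bot_iff.1 h2]
      exact bot_le)
  have hKX : ⁅K, X⁆ ≤ 𝓝(N) := (comm_le_left hXK).trans hKN
  rw [← qm_comm hKN hXN, le_cz_comm] at h1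
  exact (qm_cz_iff hVN hKX).1 h1

/-- a solvable group of odd order with a fixed-point-free automorphism of prime order -/
theorem nilp_of_fpf' {V A : Subgroup G} (hV : Group.IsSolvable V) (hodd : Odd (Nat.card V))
    (hp : (Nat.card A).Prime) (hp2 : Nat.card A ≠ 2) (hAV : A ≤ 𝓝(V))
    (hcop : (Nat.card A).Coprime (Nat.card V)) (hC : V ⊓ 𝓒(A) = ⊥) : Group.IsNilpotent V := by
  have h1 := bg38 hV hodd hAV hcop hp hp2
    (by rw [← le_bot_iff, ← hC]; exact inf_le_inf (fittingOf_le V) le_rfl)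
  have h2 := cop_comm_sup hAV hcop hV
  rw [hC, sup_bot_eq] at h2
  rw [h2] at h1
  have h3 : fittingOf V = V := le_antisymm (fittingOf_le V) h1
  rw [← h3]
  exact fittingOf_nilpotent V

/-- mod `N`: `V / N` is nilpotent if `A` has no fixed points on it -/
theorem nilp_qm_of_fpf {V A N : Subgroup G} (hV : Group.IsSolvable V) (hodd : Odd (Nat.card V))
    (hp : (Nat.card A).Prime) (hp2 : Nat.card A ≠ 2) (hAV : A ≤ 𝓝(V))
    (hcop : (Nat.card A).Coprime (Nat.card V)) (hNV : N ≤ V) (hVN : V ≤ 𝓝(N)) (hAN : A ≤ 𝓝(N))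
    (hC : V ⊓ 𝓒(A) ≤ N) : Group.IsNilpotent (qm N V) := by
  have hc := qm_prime hp hAN (not_le_of_cop hp hNV hcop)
  refine nilp_of_fpf' (A := qm N A) (qm_solvable hV) (hodd.of_dvd_nat (qm_card_dvd hVN))
    (by rwa [hc]) (by rwa [hc]) (qm_nz hAV)
    (by rw [hc]; exact hcop.coprime_dvd_right (qm_card_dvd hVN)) ?_
  have h2 := qm_fix hAV hcop hV hNV hVN hAN
  have h3 : qm N (V ⊓ 𝓒(A)) = ⊥ := qm_bot_of_le (inf_le_left.trans hVN) hC
  rw [h3] at h2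
  exact le_bot_iff.1 h2

/-- if `A` acts without fixed points on `V / O_q(V)` then `O_q(V)` is a Sylow subgroup -/
theorem core_syl_of_fpf {V A : Subgroup G} {q : ℕ} (hq : q.Prime) (hV : Group.IsSolvable V)
    (hodd : Odd (Nat.card V)) (hp : (Nat.card A).Prime) (hp2 : Nat.card A ≠ 2) (hAV : A ≤ 𝓝(V))
    (hcop : (Nat.card A).Coprime (Nat.card V)) (hC : V ⊓ 𝓒(A) ≤ piCoreOf {q} V) :
    IsPiHallOf {q} (piCoreOf {q} V) V ∧ Group.IsNilpotent (qm (piCoreOf {q} V) V) := by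
  have hVQ := le_nz_piCoreOf {q} V
  have h1 := nilp_qm_of_fpf hV hodd hp hp2 hAV hcop (piCoreOf_le {q} V) hVQ
    (hAV.trans (nz_le_nz_piCoreOf _ _)) hC
  refine ⟨hall_iff.2 ⟨piCoreOf_le _ _, isPi_piCoreOf _ _, ?_⟩, h1⟩
  intro p hp' hpq hd
  rw [Set.mem_singleton_iff] at hpq
  subst hpq
  rw [← qm_card hVQ] at hd
  exact nilpotent_pcore_ne_bot h1 hp' hd (qm_core_bot hp' rfl)

end

end CfsgLib.BGPi
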