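import Cfsg.Agent.EqBase
import Cfsg.Agent.LibBG15b

/-! B & G 15.2: maximal subgroups with non-nilpotent `M_σ`. -/

open Subgroup
open scoped Pointwise commutatorElement

namespace CfsgLib.BGPi

open Cfsg

universe u

section
variable {G : Type u} [Group G] [Finite G]

/-- the configuration of B & G 15.2 -/
structure NF (M K K₁ D : Subgroup G) (q : ℕ) : Prop where
  hM : IsCoatom M
  hK : IsPiHallOf (kappa M) K M
  K1 : K ≠ ⊥
  hP : IsPiHallOf (sigma M)ᶜ K M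
  qp : q.Prime
  star : Nat.card ↥(sigmaCore M ⊓ 𝓒(K)) = q
  hK₁ : K₁ ≤ K
  hp : (Nat.card K₁).Prime
  hD : IsPiHallOf {q}ᶜ D (sigmaCore M)
  KD : K ≤ 𝓝(D)
  nn : ¬ Group.IsNilpotent (sigmaCore M)

variable (hG : IsMinSimpleOddOrder G)
include hG

theorem NF.p2 {M K K₁ D : Subgroup G} {q : ℕ} (c : NF M K K₁ D q) : Nat.card K₁ ≠ 2 :=
  ms_p2' hG c.hp dvd_rfl

theorem NF.kσ {M K K₁ D : Subgroup G} {q : ℕ} (c : NF M K K₁ D q) : K ≤ 𝓝(sigmaCore M) :=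
  (hall_le c.hK).trans (le_nz_sigmaCore hG M)

theorem NF.cop {M K K₁ D : Subgroup G} {q : ℕ} (c : NF M K K₁ D q) :
    (Nat.card K).Coprime (Nat.card (sigmaCore M)) :=
  ((hall_isPi (sigma_hall hG c.hM)).coprime (kap_sig hG c.hK)).symm

theorem NF.cop1 {M K K₁ D : Subgroup G} {q : ℕ} (c : NF M K K₁ D q) :
    (Nat.card K₁).Coprime (Nat.card (sigmaCore M)) :=
  Nat.Coprime.coprime_dvd_left (card_dvd_of_le c.hK₁) (c.cop hG)

theorem NF.fix {M K K₁ D : Subgroup G} {q : ℕ} (c : NF M K K₁ D q) :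
    sigmaCore M ⊓ 𝓒(K₁) = sigmaCore M ⊓ 𝓒(K) :=
  kap_cz hG c.hM c.hK c.hK₁ (ne_bot_of_card_prime c.hp rfl)

/-- `K*` is contained in every subgroup containing a fixed point of `K₁` -/
theorem NF.star_le {M K K₁ D : Subgroup G} {q : ℕ} (c : NF M K K₁ D q) {X : Subgroup G}
    (hX : X ≤ sigmaCore M) (h : X ⊓ 𝓒(K₁) ≠ ⊥) : sigmaCore M ⊓ 𝓒(K) ≤ X := by
  have h1 : X ⊓ 𝓒(K₁) ≤ sigmaCore M ⊓ 𝓒(K) := by
    rw [← c.fix hG]; exact inf_le_inf hX le_rfl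
  have h2 := card_dvd_of_le h1
  rw [c.star] at h2
  rcases (Nat.dvd_prime c.qp).1 h2 with h3 | h3
  · exact absurd (card_eq_one.1 h3) h
  · have h4 := eq_of_le_of_card_ge h1 (by rw [c.star, h3])
    rw [← h4]; exact inf_le_left

theorem NF.fix_bot {M K K₁ D : Subgroup G} {q : ℕ} (c : NF M K K₁ D q) {X : Subgroup G}
    (hX : X ≤ sigmaCore M) (h : ¬ sigmaCore M ⊓ 𝓒(K) ≤ X) : X ⊓ 𝓒(K₁) = ⊥ := by
  by_contra h1
  exact h (c.star_le hG hX h1)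

theorem NF.starQ {M K K₁ D : Subgroup G} {q : ℕ} (c : NF M K K₁ D q) :
    sigmaCore M ⊓ 𝓒(K) ≤ piCoreOf {q} (sigmaCore M) := by
  have hs := sigmaCore_sol hG c.hM
  have hσn := le_nz_sigmaCore hG M
  have hFn : K ≤ 𝓝(fittingOf (sigmaCore M)) := (c.kσ hG).trans (nz_le_nz_fittingOf _)
  have hF : sigmaCore M ⊓ 𝓒(K) ≤ fittingOf (sigmaCore M) := by
    refine c.star_le hG (fittingOf_le _) fun h => c.nn ?_
    have h2 := bg38 hs (ms_odd hG _) (c.hK₁.trans (c.kσ hG)) (c.cop1 hG) c.hp (c.p2 hG) h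
    have h3 := cop_quot_cz (c.hK₁.trans (c.kσ hG)) (c.cop1 hG) hs (fittingOf_le (sigmaCore M))
      (c.hK₁.trans hFn) le_rfl (le_nz_fittingOf _) h2
    rw [c.fix hG] at h3
    have h4 : ⁅sigmaCore M, K⁆ ≤ fittingOf (sigmaCore M) := by
      refine (Subgroup.commutator_mono h3 le_rfl).trans ?_
      refine (comm_sup_le_left (inf_le_left.trans (le_nz_fittingOf _)) hFn).trans
        (sup_le le_rfl ?_)
      rw [comm_eq_bot_iff.2 inf_le_right]; exact bot_le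
    rw [(bg12_17 hG c.hM c.hP).2] at h4
    exact nilpotent_sub h4 (fittingOf_nilpotent _)
  rw [← piCoreOf_fittingOf c.qp]
  exact nilpotent_le_piCoreOf (fittingOf_nilpotent _) hF (isPi_of_card_prime c.qp c.star)

theorem NF.Qhall {M K K₁ D : Subgroup G} {q : ℕ} (c : NF M K K₁ D q) :
    IsPiHallOf {q} (piCoreOf {q} (sigmaCore M)) (sigmaCore M) ∧
      Group.IsNilpotent (qm (piCoreOf {q} (sigmaCore M)) (sigmaCore M)) :=
  core_syl_of_fpf c.qp (sigmaCore_sol hG c.hM) (ms_odd hG _) c.hp (c.p2 hG)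
    (c.hK₁.trans (c.kσ hG)) (c.cop1 hG) (by rw [c.fix hG]; exact c.starQ hG)

theorem NF.QDinf {M K K₁ D : Subgroup G} {q : ℕ} (c : NF M K K₁ D q) :
    piCoreOf {q} (sigmaCore M) ⊓ D = ⊥ :=
  cop_inf ((isPi_piCoreOf _ _).coprime (hall_isPi c.hD))

theorem NF.QDsup {M K K₁ D : Subgroup G} {q : ℕ} (c : NF M K K₁ D q) :
    piCoreOf {q} (sigmaCore M) ⊔ D = sigmaCore M := hall_sup_compl (c.Qhall hG).1 c.hD

theorem NF.Dnilp {M K K₁ D : Subgroup G} {q : ℕ} (c : NF M K K₁ D q) :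
    Group.IsNilpotent D := by
  have hDn : D ≤ 𝓝(piCoreOf {q} (sigmaCore M)) := (hall_le c.hD).trans (le_nz_piCoreOf _ _)
  refine nilp_of_qm hDn ?_ (nilpotent_sub (qm_mono (hall_le c.hD)) (c.Qhall hG).2)
  rw [c.QDinf hG]; exact bot_le

theorem NF.Dfix {M K K₁ D : Subgroup G} {q : ℕ} (c : NF M K K₁ D q) : D ⊓ 𝓒(K₁) = ⊥ := by
  refine c.fix_bot hG (hall_le c.hD) fun h => ?_
  have h1 : sigmaCore M ⊓ 𝓒(K) ≤ piCoreOf {q} (sigmaCore M) ⊓ D := le_inf (c.starQ hG) h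
  rw [c.QDinf hG] at h1
  exact ne_bot_of_card_prime c.qp c.star (le_bot_iff.1 h1)

theorem NF.Dcomm {M K K₁ D : Subgroup G} {q : ℕ} (c : NF M K K₁ D q) : ⁅D, K₁⁆ = D := by
  have h1 := cop_comm_sup (c.hK₁.trans c.KD)
    ((c.cop1 hG).coprime_dvd_right (card_dvd_of_le (hall_le c.hD)))
    (solvable_sub (hall_le c.hD) (sigmaCore_sol hG c.hM))
  rwa [c.Dfix hG, sup_bot_eq] at h1

theorem NF.Dnc {M K K₁ D : Subgroup G} {q : ℕ} (c : NF M K K₁ D q) :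
    ¬ D ≤ 𝓒(piCoreOf {q} (sigmaCore M)) := by
  intro h
  apply c.nn
  have hQn : Group.IsNilpotent ↥(piCoreOf {q} (sigmaCore M)) :=
    nilpotent_of_isPi c.qp (isPi_piCoreOf _ _)
  have hDQ : D ≤ 𝓝(piCoreOf {q} (sigmaCore M)) := h.trans (cz_le_nz _)
  refine nilpotent_of_normal_sylows fun p hp => ?_
  have hDn := c.Dnilp hG
  by_cases hpq : p = q
  · subst hpq
    exact (hall_iff.1 (c.Qhall hG).1).2.2 p hp rfl
  · have hP : IsPiHallOf {p} (piCoreOf {p} D) D := nilpotent_hall hDn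
    have hPV : IsPiHallOf {p} (piCoreOf {p} D) (sigmaCore M) := hall_trans hP c.hD
      (Set.singleton_subset_iff.2 hpq)
    have hn : sigmaCore M ≤ 𝓝(piCoreOf {p} D) := by
      refine (c.QDsup hG).ge.trans ?_
      refine sup_le ?_ (le_nz_piCoreOf _ _)
      refine le_trans ?_ (cz_le_nz _)
      rw [le_cz_comm]
      exact (piCoreOf_le _ _).trans h
    rw [piCoreOf_eq_of_hall hPV hn]
    exact (hall_iff.1 hPV).2.2 p hp rfl

/-- abbreviations -/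
theorem NF.Qn {M K K₁ D : Subgroup G} {q : ℕ} (c : NF M K K₁ D q) :
    M ≤ 𝓝(piCoreOf {q} (sigmaCore M)) := (le_nz_sigmaCore hG M).trans (nz_le_nz_piCoreOf _ _)

theorem NF.DM {M K K₁ D : Subgroup G} {q : ℕ} (c : NF M K K₁ D q) : D ≤ M :=
  (hall_le c.hD).trans (sigmaCore_le hG c.hM)

theorem NF.Qs {M K K₁ D : Subgroup G} {q : ℕ} (c : NF M K K₁ D q) :
    Group.IsSolvable ↥(piCoreOf {q} (sigmaCore M)) :=
  solvable_sub (piCoreOf_le _ _) (sigmaCore_sol hG c.hM)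

theorem NF.copD {M K K₁ D : Subgroup G} {q : ℕ} (c : NF M K K₁ D q) :
    (Nat.card D).Coprime (Nat.card ↥(piCoreOf {q} (sigmaCore M))) :=
  ((isPi_piCoreOf _ _).coprime (hall_isPi c.hD)).symm

theorem NF.starQ0 {M K K₁ D : Subgroup G} {q : ℕ} (c : NF M K K₁ D q) :
    ¬ sigmaCore M ⊓ 𝓒(K) ≤ piCoreOf {q} (sigmaCore M) ⊓ 𝓒(D) := by
  intro h
  apply c.Dnc hG
  have hKM := hall_le c.hK
  have h1 := l34s (V := piCoreOf {q} (sigmaCore M)) (K := D) (X := K₁) (c.Qs hG) c.hp (c.p2 hG)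
    (solvable_sub (hall_le c.hD) (sigmaCore_sol hG c.hM)) (ms_odd hG D) (c.copD hG)
    ((c.cop1 hG).coprime_dvd_right (card_dvd_of_le (piCoreOf_le _ _)))
    ((c.cop1 hG).coprime_dvd_right (card_dvd_of_le (hall_le c.hD)))
    (c.hK₁.trans c.KD) ((c.DM hG).trans (c.Qn hG)) ((c.hK₁.trans hKM).trans (c.Qn hG)) (by
      rw [c.Dcomm hG]
      refine (inf_le_inf (piCoreOf_le _ _) le_rfl).trans ?_
      rw [c.fix hG]
      exact h.trans inf_le_right)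
  rwa [c.Dcomm hG] at h1

/-- (A) -/
theorem NF.up {M K K₁ D N : Subgroup G} {q : ℕ} (c : NF M K K₁ D q)
    (hN : N ≤ piCoreOf {q} (sigmaCore M)) (hQN : piCoreOf {q} (sigmaCore M) ≤ 𝓝(N))
    (hDN : D ≤ 𝓝(N)) (hKN : K₁ ≤ 𝓝(N)) (h0 : piCoreOf {q} (sigmaCore M) ⊓ 𝓒(D) ≤ N)
    (h : sigmaCore M ⊓ 𝓒(K) ≤ N) : N = piCoreOf {q} (sigmaCore M) := by
  have hKM := hall_le c.hK
  have hDQ := (c.DM hG).trans (c.Qn hG)
  have h1 := l34q (V := piCoreOf {q} (sigmaCore M)) (K := D) (X := K₁) (c.Qs hG) c.hp (c.p2 hG)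
    (solvable_sub (hall_le c.hD) (sigmaCore_sol hG c.hM)) (ms_odd hG D) (c.copD hG)
    ((c.cop1 hG).coprime_dvd_right (card_dvd_of_le (piCoreOf_le _ _)))
    ((c.cop1 hG).coprime_dvd_right (card_dvd_of_le (hall_le c.hD)))
    (c.hK₁.trans c.KD) hDQ ((c.hK₁.trans hKM).trans (c.Qn hG)) hN hQN hDN hKN (by
      refine (inf_le_inf (piCoreOf_le _ _) le_rfl).trans ?_
      rw [c.fix hG]
      exact h)
  rw [c.Dcomm hG] at h1
  have h2 := cop_quot_cz hDQ (c.copD hG) (c.Qs hG) hN hDN le_rfl hQN h1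
  exact le_antisymm hN (h2.trans (sup_le le_rfl h0))

/-- (B) -/
theorem NF.down {M K K₁ D N : Subgroup G} {q : ℕ} (c : NF M K K₁ D q)
    (hN : N ≤ piCoreOf {q} (sigmaCore M))
    (hDN : D ≤ 𝓝(N)) (hKN : K₁ ≤ 𝓝(N)) (h0 : piCoreOf {q} (sigmaCore M) ⊓ 𝓒(D) ≤ N)
    (hN0 : N ≤ 𝓝(piCoreOf {q} (sigmaCore M) ⊓ 𝓒(D)))
    (h : ¬ sigmaCore M ⊓ 𝓒(K) ≤ N) : N = piCoreOf {q} (sigmaCore M) ⊓ 𝓒(D) := by
  have hKM := hall_le c.hK
  have hDQ := (c.DM hG).trans (c.Qn hG)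
  have hDQ0 : D ≤ 𝓝(piCoreOf {q} (sigmaCore M) ⊓ 𝓒(D)) :=
    (le_cz_comm.1 inf_le_right).trans (cz_le_nz _)
  have hKQ0 : K₁ ≤ 𝓝(piCoreOf {q} (sigmaCore M) ⊓ 𝓒(D)) :=
    le_nz_inf ((c.hK₁.trans hKM).trans (c.Qn hG)) ((c.hK₁.trans c.KD).trans (nz_le_nz_cz _))
  have h1 := l34q (V := N) (K := D) (X := K₁) (N := piCoreOf {q} (sigmaCore M) ⊓ 𝓒(D))
    (solvable_sub hN (c.Qs hG)) c.hp (c.p2 hG)
    (solvable_sub (hall_le c.hD) (sigmaCore_sol hG c.hM)) (ms_odd hG D)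
    ((c.copD hG).coprime_dvd_right (card_dvd_of_le hN))
    ((c.cop1 hG).coprime_dvd_right (card_dvd_of_le (hN.trans (piCoreOf_le _ _))))
    ((c.cop1 hG).coprime_dvd_right (card_dvd_of_le (hall_le c.hD)))
    (c.hK₁.trans c.KD) hDN hKN h0 hN0 hDQ0 hKQ0 (by
      rw [c.fix_bot hG (hN.trans (piCoreOf_le _ _)) h]; exact bot_le)
  rw [c.Dcomm hG] at h1
  have h2 := cop_quot_cz hDN ((c.copD hG).coprime_dvd_right (card_dvd_of_le hN))
    (solvable_sub hN (c.Qs hG)) h0 hDQ0 le_rfl hN0 h1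
  refine le_antisymm (h2.trans (sup_le le_rfl (inf_le_inf hN le_rfl))) h0

/-- `Q₀` is normal in `Q` -/
theorem NF.Q0n {M K K₁ D : Subgroup G} {q : ℕ} (c : NF M K K₁ D q) :
    piCoreOf {q} (sigmaCore M) ≤ 𝓝(piCoreOf {q} (sigmaCore M) ⊓ 𝓒(D)) := by
  set Q := piCoreOf {q} (sigmaCore M) with hQ
  set Q₀ := Q ⊓ 𝓒(D) with hQ0
  have hKM := hall_le c.hK
  have hDQ : D ≤ 𝓝(Q) := (c.DM hG).trans (c.Qn hG)
  have hKQ : K₁ ≤ 𝓝(Q) := (c.hK₁.trans hKM).trans (c.Qn hG)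
  have hDQ0 : D ≤ 𝓝(Q₀) := (le_cz_comm.1 inf_le_right).trans (cz_le_nz _)
  have hKQ0 : K₁ ≤ 𝓝(Q₀) := le_nz_inf hKQ ((c.hK₁.trans c.KD).trans (nz_le_nz_cz _))
  have hQn : Group.IsNilpotent Q := nilpotent_of_isPi c.qp (isPi_piCoreOf _ _)
  have hQp : IsPGroup q Q := (isPi_piCoreOf _ _).isPGroup c.qp
  set C := Q ⊓ 𝓒(Q₀) with hC
  have hCQ : C ≤ Q := inf_le_left
  have hDC : D ≤ 𝓝(C) := le_nz_inf hDQ (hDQ0.trans (nz_le_nz_cz _))
  have hKC : K₁ ≤ 𝓝(C) := le_nz_inf hKQ (hKQ0.trans (nz_le_nz_cz _))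
  have hQV : Q ≤ sigmaCore M := piCoreOf_le _ _
  -- `D` does not centralise `C`
  have h1 : ¬ C ≤ Q₀ := by
    intro h
    exact c.Dnc hG (Cfsg.Agent.S1442.result Q D hQn hDQ (c.copD hG) h)
  have hstar : sigmaCore M ⊓ 𝓒(K) ≤ C := by
    by_contra h
    apply h1
    have h2 := l34s (V := C) (K := D) (X := K₁) (solvable_sub hCQ (c.Qs hG)) c.hp (c.p2 hG)
      (solvable_sub (hall_le c.hD) (sigmaCore_sol hG c.hM)) (ms_odd hG D)
      ((c.copD hG).coprime_dvd_right (card_dvd_of_le hCQ))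
      ((c.cop1 hG).coprime_dvd_right (card_dvd_of_le (hCQ.trans hQV)))
      ((c.cop1 hG).coprime_dvd_right (card_dvd_of_le (hall_le c.hD)))
      (c.hK₁.trans c.KD) hDC hKC (by rw [c.fix_bot hG (hCQ.trans hQV) h]; exact bot_le)
    rw [c.Dcomm hG, le_cz_comm] at h2
    exact le_inf hCQ h2
  have hphi : Q ≤ 𝓝(phi q Q ⊔ (C ⊔ Q₀)) :=
    le_nz_of_comm_le ((Subgroup.commutator_mono
      (sup_le (phi_le _ _) (sup_le hCQ inf_le_left)) le_rfl).trans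
      ((comm_le_phi q Q).trans le_sup_left))
  have h3 : phi q Q ⊔ (C ⊔ Q₀) = Q := by
    refine c.up hG (sup_le (phi_le _ _) (sup_le hCQ inf_le_left)) hphi ?_ ?_
      (le_sup_right.trans le_sup_right) ((hstar.trans le_sup_left).trans le_sup_right)
    · exact le_nz_sup (hDQ.trans (nz_le_nz_phi _ _)) (le_nz_sup hDC hDQ0)
    · exact le_nz_sup (hKQ.trans (nz_le_nz_phi _ _)) (le_nz_sup hKC hKQ0)
  have h4 := phi_nongen c.qp hQp (sup_le hCQ inf_le_left : C ⊔ Q₀ ≤ Q) h3.ge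
  rw [← h4]
  exact sup_le (inf_le_right.trans (cz_le_nz _)) le_normalizer

theorem NF.Q0M {M K K₁ D : Subgroup G} {q : ℕ} (c : NF M K K₁ D q) :
    M ≤ 𝓝(piCoreOf {q} (sigmaCore M) ⊓ 𝓒(D)) := by
  have hKM := hall_le c.hK
  have h1 := compl_sup hG c.hM c.hP
  have h2 := c.QDsup hG
  calc M = sigmaCore M ⊔ K := h1.symm
    _ ≤ _ := by
      refine sup_le (h2.ge.trans (sup_le (c.Q0n hG) ?_)) ?_
      · exact (le_cz_comm.1 inf_le_right).trans (cz_le_nz _)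
      · exact le_nz_inf (hKM.trans (c.Qn hG)) (c.KD.trans (nz_le_nz_cz _))

theorem NF.Q0ne {M K K₁ D : Subgroup G} {q : ℕ} (c : NF M K K₁ D q) :
    piCoreOf {q} (sigmaCore M) ⊓ 𝓒(D) ≠ piCoreOf {q} (sigmaCore M) := by
  intro h
  exact c.Dnc hG (le_cz_comm.1 (inf_eq_left.1 h))

theorem NF.phi_le' {M K K₁ D : Subgroup G} {q : ℕ} (c : NF M K K₁ D q) :
    phi q (piCoreOf {q} (sigmaCore M)) ≤ piCoreOf {q} (sigmaCore M) ⊓ 𝓒(D) := by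
  set Q := piCoreOf {q} (sigmaCore M) with hQ
  set Q₀ := Q ⊓ 𝓒(D) with hQ0
  have hKM := hall_le c.hK
  have hDM := c.DM hG
  have hMQ : M ≤ 𝓝(Q) := c.Qn hG
  have hMQ0 : M ≤ 𝓝(Q₀) := c.Q0M hG
  have hMN : M ≤ 𝓝(phi q Q ⊔ Q₀) := le_nz_sup (hMQ.trans (nz_le_nz_phi _ _)) hMQ0
  have hQM : Q ≤ M := (piCoreOf_le _ _).trans (sigmaCore_le hG c.hM)
  have hN : phi q Q ⊔ Q₀ ≤ Q := sup_le (phi_le _ _) inf_le_left
  have hQp : IsPGroup q Q := (isPi_piCoreOf _ _).isPGroup c.qp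
  by_cases h : sigmaCore M ⊓ 𝓒(K) ≤ phi q Q ⊔ Q₀
  · have h1 := c.up hG hN (hQM.trans hMN) (hDM.trans hMN) ((c.hK₁.trans hKM).trans hMN)
      le_sup_right h
    have h2 := phi_nongen c.qp hQp (inf_le_left : Q₀ ≤ Q) h1.ge
    exact absurd h2 (c.Q0ne hG)
  · have h1 := c.down hG hN (hDM.trans hMN) ((c.hK₁.trans hKM).trans hMN)
      le_sup_right ((hN.trans hQM).trans hMQ0) h
    exact le_sup_left.trans h1.le

theorem NF.irr {M K K₁ D N : Subgroup G} {q : ℕ} (c : NF M K K₁ D q)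
    (hN : N ≤ piCoreOf {q} (sigmaCore M)) (h0 : piCoreOf {q} (sigmaCore M) ⊓ 𝓒(D) ≤ N)
    (hMN : M ≤ 𝓝(N)) : N = piCoreOf {q} (sigmaCore M) ⊓ 𝓒(D) ∨
      N = piCoreOf {q} (sigmaCore M) := by
  have hKM := hall_le c.hK
  have hDM := c.DM hG
  have hQM : piCoreOf {q} (sigmaCore M) ≤ M := (piCoreOf_le _ _).trans (sigmaCore_le hG c.hM)
  by_cases h : sigmaCore M ⊓ 𝓒(K) ≤ N
  · exact Or.inr (c.up hG hN (hQM.trans hMN) (hDM.trans hMN) ((c.hK₁.trans hKM).trans hMN) h0 h)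
  · exact Or.inl (c.down hG hN (hDM.trans hMN) ((c.hK₁.trans hKM).trans hMN) h0
      ((hN.trans hQM).trans (c.Q0M hG)) h)

end

end CfsgLib.BGPi
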