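import Cfsg.Agent.EqBase
import Cfsg.Agent.LibBG15c

/-! B & G 15.2, continued. -/

open Subgroup
open scoped Pointwise commutatorElement

namespace CfsgLib.BGPi

open Cfsg

universe u

section
variable {G : Type u} [Group G] [Finite G]

variable (hG : IsMinSimpleOddOrder G)
include hG

/-- `K` has prime order -/
theorem NF.Kprime {M K K₁ D : Subgroup G} {q : ℕ} (c : NF M K K₁ D q) : K = K₁ := by
  by_contra hne
  have hKM := hall_le c.hK
  set V := sigmaCore M with hV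
  set Q := piCoreOf {q} V with hQ
  set Q₀ := Q ⊓ 𝓒(D) with hQ0
  obtain ⟨k, hk, hk1⟩ : ∃ k ∈ K, k ∉ K₁ := by
    by_contra h
    push Not at h
    exact hne (le_antisymm h c.hK₁)
  have hMQ0 : M ≤ 𝓝(Q₀) := c.Q0M hG
  have hQM : Q ≤ M := (piCoreOf_le _ _).trans (sigmaCore_le hG c.hM)
  have hQV : Q ≤ V := piCoreOf_le _ _
  have hDM := c.DM hG
  have hDV : D ≤ V := hall_le c.hD
  have hVM : V ≤ M := sigmaCore_le hG c.hM
  have hQ0V : Q₀ ≤ V := inf_le_left.trans hQV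
  have hVs := sigmaCore_sol hG c.hM
  have hKV := c.kσ hG
  have hcopKV := c.cop hG
  have hQ0n := hQM.trans hMQ0
  have hstar : V ⊓ 𝓒(K) ≤ 𝓝(Q₀) := (inf_le_left.trans hVM).trans hMQ0
  have hW : qm Q₀ Q = ⊥ := by
    refine frob_fix_ab (W := qm Q₀ Q) (U := qm Q₀ D) (K := qm Q₀ K) (K₀ := qm Q₀ K₁)
      (k' := qe Q₀ (hMQ0 (hKM hk))) ?_ (qm_nz (hDM.trans (c.Qn hG))) (qm_nz (hKM.trans (c.Qn hG)))
      (qm_nz c.KD) ?_ ?_ (qm_mono c.hK₁) (qe_mem _ hk) ?_ ?_ ?_
    · rw [qm_cz_iff hQ0n hQ0n]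
      exact (comm_le_phi q Q).trans (c.phi_le' hG)
    · intro y hy hy1
      obtain ⟨z, hz, hzK, rfl⟩ := mem_qm.1 hy
      have hz1 : z ≠ 1 := by
        rintro rfl
        exact hy1 ((qe_eq_one hz).2 (one_mem _))
      have hzz : zpowers z ≤ K := by rwa [zpowers_le]
      have hzb : zpowers z ≠ ⊥ := by rwa [Ne, zpowers_eq_bot]
      have h1 := qm_fix (V := V) (X := zpowers z) (N := Q₀) (hzz.trans hKV)
        (Nat.Coprime.coprime_dvd_left (card_dvd_of_le hzz) hcopKV) hVs hQ0V (hVM.trans hMQ0)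
        ((hzz.trans hKM).trans hMQ0)
      rw [kap_cz hG c.hM c.hK hzz hzb] at h1
      rw [eq_bot_iff]
      have h2 : qm Q₀ D ⊓ Subgroup.centralizer ({qe Q₀ hz} : Set _) ≤
          qm Q₀ D ⊓ qm Q₀ (V ⊓ 𝓒(K)) := by
        refine le_inf inf_le_left (le_trans ?_ h1)
        refine inf_le_inf (qm_mono hDV) ?_
        rw [qm_zpowers hz, cz1_eq]
      refine h2.trans (le_of_eq (cop_inf ?_))
      refine Nat.Coprime.of_dvd (qm_card_dvd (hDM.trans hMQ0)) (qm_card_dvd hstar) ?_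
      exact ((isPi_of_card_prime c.qp c.star).coprime (hall_isPi c.hD)).symm
    · have h1 := qm_fix (V := Q) (X := D) (N := Q₀) (hDM.trans (c.Qn hG)) (c.copD hG) (c.Qs hG)
        inf_le_left hQ0n (hDM.trans hMQ0)
      rw [qm_bot_of_le (inf_le_left.trans hQ0n) le_rfl] at h1
      exact le_bot_iff.1 h1
    · intro h
      rw [qe_mem_iff ((c.hK₁.trans hKM).trans hMQ0)] at h
      obtain ⟨a, ha, b, hb, hab⟩ := (mem_sup_of_nz ((c.hK₁.trans hKM).trans hMQ0)).1 h
      have hbK : b ∈ K := by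
        have : b = a⁻¹ * k := by rw [← hab]; group
        rw [this]
        exact K.mul_mem (K.inv_mem (c.hK₁ ha)) hk
      have hb1 : b ∈ K ⊓ V := ⟨hbK, hQ0V hb⟩
      rw [cop_inf hcopKV, Subgroup.mem_bot] at hb1
      rw [hb1, mul_one] at hab
      exact hk1 (hab ▸ ha)
    · have h1 := qm_fix (V := Q) (X := K₁) (N := Q₀) ((c.hK₁.trans hKM).trans (c.Qn hG))
        ((c.cop1 hG).coprime_dvd_right (card_dvd_of_le hQV)) (c.Qs hG)
        inf_le_left hQ0n ((c.hK₁.trans hKM).trans hMQ0)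
      have h2 : Q ⊓ 𝓒(K₁) ≤ V ⊓ 𝓒(K) := by
        rw [← c.fix hG]; exact inf_le_inf hQV le_rfl
      refine (h1.trans (qm_mono h2)).trans ?_
      intro y hy
      obtain ⟨z, hz, hzV, rfl⟩ := mem_qm.1 hy
      rw [Subgroup.mem_centralizer_singleton_iff, ← qe_mul, ← qe_mul]
      have h3 : k * z = z * k := Subgroup.mem_centralizer_iff.1 hzV.2 k hk
      congr 1
      exact h3.symm
    · exact Nat.Coprime.of_dvd (qm_card_dvd (hDM.trans hMQ0)) (qm_card_dvd hQ0n) (c.copD hG)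
  exact c.Q0ne hG (le_antisymm inf_le_left ((qm_eq_bot hQ0n).1 hW))

/-- `q ∈ β(M)` -/
theorem NF.qβ {M K K₁ D : Subgroup G} {q : ℕ} (c : NF M K K₁ D q) : q ∈ beta M := by
  by_contra hqβ
  apply c.Dnc hG
  set V := sigmaCore M with hV
  set Q := piCoreOf {q} V with hQ
  have hVM : V ≤ M := sigmaCore_le hG c.hM
  have hVd : V ≤ ⁅M, M⁆ := sigma_le_der hG c.hM
  have hQV : Q ≤ V := piCoreOf_le _ _
  have hQπ : IsPi {q} Q := isPi_piCoreOf _ _
  have hdM : ⁅M, M⁆ ≤ M := comm_self_le M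
  have hQβ : IsPi (beta M)ᶜ Q := hQπ.mono (by
    intro s hs hs'
    rw [Set.mem_singleton_iff] at hs
    exact hqβ (hs ▸ hs'))
  obtain ⟨L, hL, hQL⟩ := hall_exists_ge (solvable_sub hdM (max_sol hG c.hM)) hQβ (hQV.trans hVd)
  have hLn := (beta_frat hG c.hM hL).1
  have hB := beta_hall hG c.hM
  refine le_of_syls fun s hs => ?_
  obtain ⟨S, hS⟩ := exists_syl hs D
  refine ⟨S, hS, ?_⟩
  have hSπ := hall_isPi hS
  have hSM := (hall_le hS).trans (c.DM hG)
  by_cases hsβ : s ∈ beta M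
  · have h1 : S ≤ piCoreOf (beta M) M := le_hall_of_normal hB (le_nz_piCoreOf _ _)
      (hSπ.mono (Set.singleton_subset_iff.2 hsβ)) hSM
    refine h1.trans ?_
    rw [← comm_eq_bot_iff]
    have h2 : ⁅piCoreOf (beta M) M, Q⁆ ≤ piCoreOf (beta M) M ⊓ Q :=
      le_inf (comm_le_left ((hQV.trans hVM).trans (le_nz_piCoreOf _ _)))
        (comm_le_right ((piCoreOf_le _ _).trans (c.Qn hG)))
    rw [cop_inf ((hall_isPi hB).coprime hQβ)] at h2
    exact le_bot_iff.1 h2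
  · by_cases hsq : s = q
    · have h1 : S = ⊥ := by
        by_contra hS1
        obtain ⟨t, ht, htd⟩ := exists_prime_dvd_of_ne_bot hS1
        have h2 : t = s := hSπ t ht htd
        have h3 := hall_isPi c.hD t ht (htd.trans (card_dvd_of_le (hall_le hS)))
        exact h3 (h2.trans hsq)
      rw [h1]; exact bot_le
    · obtain ⟨T, hT, hST⟩ := exists_syl_ge hs hSπ (((hall_le hS).trans (hall_le c.hD)).trans hVd)
      obtain ⟨T', hT'⟩ := exists_syl hs L
      have hT'd : IsPiHallOf {s} T' ⁅M, M⁆ :=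
        hall_trans hT' hL (Set.singleton_subset_iff.2 hsβ)
      obtain ⟨m, hm, hmT⟩ := syl_conj hs hT'd hT
      have h1 : T' ≤ 𝓒(Q) := by
        rw [le_cz_comm]
        exact nilpotent_commute (π := {q}) hLn hQL (hall_le hT') hQπ
          ((hall_isPi hT').mono (by
            intro t ht ht'
            rw [Set.mem_singleton_iff] at ht ht'
            exact hsq (ht.symm.trans ht')))
      have h2 : Q ^ᵍ m = Q := cj_le_of_le_nz (c.Qn hG) (hdM hm)
      refine hST.trans ?_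
      rw [← hmT, ← h2, cz_cj]
      exact cj_mono h1 m

/-- existence of the configuration -/
theorem exists_NF {M K U : Subgroup G} (hM : IsCoatom M) (hKU : IsSigmaDecomposition M K U)
    (hnn : ¬ Group.IsNilpotent (sigmaCore M)) : U = ⊥ ∧ K ≠ ⊥ ∧
      ∃ K₁ D q, NF M K K₁ D q := by
  obtain ⟨hE, hUE, hKE, hs⟩ := dec_facts hG hM hKU
  have hK := hKU.hall
  have ht2 : ∀ s : ℕ, s ∉ tau2 M := fun s hs => hnn (nilp_of_tau2 hG hM hs)
  have hK1 : K ≠ ⊥ := by
    intro hK1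
    have hκ : kappa M = ∅ := by
      by_contra hne
      obtain ⟨s, hs'⟩ := Set.nonempty_iff_ne_empty.2 hne
      have h1 : s ∣ Nat.card K := hall_dvd' hs'.1 hs' hK hs'.2.1
      rw [hK1, Subgroup.card_bot] at h1
      exact hs'.1.one_lt.ne' (Nat.dvd_one.1 h1)
    have hEM := hall_le hE
    have hE1 : U ⊔ K ≠ ⊥ := by
      intro h
      rw [h, bot_sup_eq] at hs
      have h1 := sigma_le_der hG hM
      rw [hs] at h1
      have hMne : M ≠ ⊥ := by
        intro hb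
        exact sigmaCore_ne_bot hG hM (le_bot_iff.1 ((sigmaCore_le hG hM).trans hb.le))
      exact (comm_lt_of_solvable (max_sol hG hM) hMne).not_ge h1
    obtain ⟨p, hp, hpd, X, hX, hXc⟩ := exists_prime_sub hE1
    have hpσ : p ∉ sigma M := hall_isPi hE p hp hpd
    apply hnn
    refine nilp_of_fpf hG (sigmaCore_sol hG hM) hp hXc
      ((hX.trans hEM).trans (le_nz_sigmaCore hG M)) ?_ ?_
    · exact ((hall_isPi (sigma_hall hG hM)).coprime
        ((isPi_of_card_prime hp hXc).mono (by rintro s rfl; exact hpσ))).symm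
    · by_contra hC
      exact ht2 p (kappa_of_line hG hM hp hpσ (hX.trans hEM) hXc hC hκ)
  have hU1 : U = ⊥ := by
    by_contra hU1
    exact hnn (p2_facts hG hM hKU hK1 hU1).2.1
  have hP : IsPiHallOf (sigma M)ᶜ K M := by rwa [hU1, bot_sup_eq] at hE
  obtain ⟨L, d, -⟩ := exists_dual hG hM hK hK1
  have hq : (Nat.card ↥(sigmaCore M ⊓ 𝓒(K))).Prime := by
    rcases d.P2 hG with ⟨h, -⟩ | ⟨-, h⟩
    · exact absurd hP h
    · exact h
  obtain ⟨p, hp, -, K₁, hK₁, hK₁c⟩ := exists_prime_sub hK1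
  have hKn : K ≤ 𝓝(sigmaCore M) := (hall_le hK).trans (le_nz_sigmaCore hG M)
  have hcop : (Nat.card K).Coprime (Nat.card (sigmaCore M)) :=
    ((hall_isPi (sigma_hall hG hM)).coprime (kap_sig hG hK)).symm
  obtain ⟨D, hD, hKD⟩ := cop_hall_exists hKn hcop (sigmaCore_sol hG hM)
    {Nat.card ↥(sigmaCore M ⊓ 𝓒(K))}ᶜ
  exact ⟨hU1, hK1, K₁, D, _, hM, hK, hK1, hP, hq, rfl, hK₁, by rwa [hK₁c], hD, hKD, hnn⟩

end

end CfsgLib.BGPi
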