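import Cfsg.Agent.EqBase
import Cfsg.Agent.LibBG15d

/-! B & G 15.2, consequences. -/

open Subgroup
open scoped Pointwise commutatorElement

namespace CfsgLib.BGPi

open Cfsg

universe u

section
variable {G : Type u} [Group G] [Finite G]

theorem nilp_map_of_sup {M X : Subgroup G} (hX : X ≤ M) (hXn : Group.IsNilpotent X)
    (h : ⁅M, M⁆ ≤ fittingHallOf M ⊔ X) :
    Group.IsNilpotent ↥((commutator ↥M).map (QuotientGroup.mk' (fittingHall ↥M))) := by
  have h1 : (commutator ↥M).map (QuotientGroup.mk' (fittingHall ↥M)) ≤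
      (X.subgroupOf M).map (QuotientGroup.mk' (fittingHall ↥M)) := by
    rintro _ ⟨x, hx, rfl⟩
    have h2 : (x : G) ∈ ⁅M, M⁆ := by
      have h3 : (x : G) ∈ (commutator ↥M).map M.subtype := ⟨x, hx, rfl⟩
      rwa [commutator_def, Subgroup.map_commutator, ← MonoidHom.range_eq_map,
        Subgroup.range_subtype] at h3
    obtain ⟨a, ha, b, hb, hab⟩ := (mem_sup_of_nz (hX.trans (le_nz_fittingHallOf M))).1
      ((sup_comm (fittingHallOf M) X) ▸ h h2)
    obtain ⟨b', hb', hbb⟩ := hb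
    refine ⟨⟨a, hX ha⟩, ha, ?_⟩
    rw [QuotientGroup.mk'_apply, QuotientGroup.mk'_apply, QuotientGroup.eq]
    have : (⟨a, hX ha⟩ : M)⁻¹ * x = b' := by
      apply Subtype.ext
      change a⁻¹ * (x : G) = (b' : G)
      rw [← hab]
      change a⁻¹ * (a * b) = _
      rw [← hbb]
      simp
    rw [this]; exact hb'
  have h2 : Group.IsNilpotent ↥(X.subgroupOf M) := by
    haveI := hXn
    exact Group.nilpotent_of_mulEquiv (Subgroup.subgroupOfEquivOfLe hX).symm
  exact nilpotent_sub h1 (nilpotent_map h2 _)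

variable (hG : IsMinSimpleOddOrder G)
include hG

theorem der_lt {M : Subgroup G} (hM : IsCoatom M) : ⁅M, M⁆ < M :=
  comm_lt_of_solvable (max_sol hG hM) (max_ne_bot hG hM)

theorem NF.QMF {M K K₁ D : Subgroup G} {q : ℕ} (c : NF M K K₁ D q) :
    piCoreOf {q} (sigmaCore M) ≤ fittingHallOf M := by
  have hQ := (c.Qhall hG).1
  have hQM : IsPiHallOf {q} (piCoreOf {q} (sigmaCore M)) M :=
    hall_trans hQ (sigma_hall hG c.hM) (Set.singleton_subset_iff.2
      (alpha_sub_sigma hG c.hM (beta_sub_alpha hG (c.qβ hG))))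
  refine le_fittingHallOf (hall_le hQM) (c.Qn hG) (nilpotent_of_isPi c.qp (isPi_piCoreOf _ _)) ?_
  refine Nat.Coprime.symm ?_
  rw [Nat.coprime_comm]
  exact hall_coprime hQM

theorem NF.starMF {M K K₁ D : Subgroup G} {q : ℕ} (c : NF M K K₁ D q) :
    sigmaCore M ⊓ 𝓒(K) ≤ fittingHallOf M := (c.starQ hG).trans (c.QMF hG)

theorem NF.der {M K K₁ D : Subgroup G} {q : ℕ} (c : NF M K K₁ D q) :
    ⁅M, M⁆ = sigmaCore M := by
  refine le_antisymm ?_ (sigma_le_der hG c.hM)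
  have h1 := compl_sup hG c.hM c.hP
  have hKab : K ≤ 𝓒(K) := by
    haveI : IsCyclic K := kap_cyc hG c.hM c.hK
    intro x hx
    rw [Subgroup.mem_centralizer_iff]
    intro y hy
    have h2 := (IsCyclic.commGroup (α := K)).mul_comm ⟨y, hy⟩ ⟨x, hx⟩
    exact congrArg Subtype.val h2
  have hn := c.kσ hG
  have h2 : ⁅sigmaCore M ⊔ K, sigmaCore M ⊔ K⁆ ≤ sigmaCore M := by
    refine comm_sup_right_le (sup_le le_normalizer hn) le_normalizer hn ?_ ?_
    · exact comm_le_right (sup_le le_normalizer hn)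
    · refine (comm_sup_le_left hn hn).trans (sup_le le_rfl ?_)
      rw [comm_eq_bot_iff.2 hKab]; exact bot_le
  rwa [h1] at h2

/-- B & G 15.2: M'/M_F is nilpotent and M_F ≠ 1 -/
theorem s1355 {M : Subgroup G} (hM : IsCoatom M) :
    fittingHallOf M ≠ ⊥ ∧ ∃ X ≤ M, Group.IsNilpotent X ∧ ⁅M, M⁆ ≤ fittingHallOf M ⊔ X := by
  obtain ⟨E, hE⟩ := hall_exists (π := (sigma M)ᶜ) (max_sol hG hM)
  by_cases hn : Group.IsNilpotent (sigmaCore M)
  · have h1 := sigmaCore_eq_fittingHallOf hG hM hn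
    rw [← h1]
    refine ⟨sigmaCore_ne_bot hG hM, ⁅E, E⁆, (comm_self_le E).trans (hall_le hE),
      hall_der_nilp hG hM (hall_le hE) (hall_isPi hE), ?_⟩
    have h2 := compl_sup hG hM hE
    have hEn : E ≤ 𝓝(sigmaCore M) := (hall_le hE).trans (le_nz_sigmaCore hG M)
    have hEn' : ⁅E, E⁆ ≤ 𝓝(sigmaCore M) := (comm_self_le E).trans hEn
    have hN : sigmaCore M ⊔ E ≤ 𝓝(sigmaCore M ⊔ ⁅E, E⁆) := by
      refine sup_le (le_sup_left.trans le_normalizer) (le_nz_sup hEn (le_nz_comm le_normalizer le_normalizer))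
    calc ⁅M, M⁆ = ⁅sigmaCore M ⊔ E, sigmaCore M ⊔ E⁆ := by rw [h2]
      _ ≤ sigmaCore M ⊔ ⁅E, E⁆ := by
        refine comm_sup_right_le hN (le_sup_left.trans hN) (le_sup_right.trans hN) ?_ ?_
        · exact (comm_le_right (sup_le le_normalizer hEn)).trans le_sup_left
        · exact comm_sup_le_left hEn hEn
  · obtain ⟨K, hK⟩ := hall_exists (π := kappa M) (max_sol hG hM)
    obtain ⟨U, hKU⟩ := exists_dec hG hM (kap_cyc hG hM hK) hK
    obtain ⟨-, -, K₁, D, q, c⟩ := exists_NF hG hM hKU hn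
    refine ⟨fun h => ?_, D, c.DM hG, c.Dnilp hG, ?_⟩
    · have h1 := c.starMF hG
      rw [h] at h1
      exact ne_bot_of_card_prime c.qp c.star (le_bot_iff.1 h1)
    · rw [c.der hG, ← c.QDsup hG]
      exact sup_le_sup (c.QMF hG) le_rfl

/-- the Fitting subgroup is TI in the non-nilpotent case -/
theorem NF.fit_le {M K K₁ D : Subgroup G} {q : ℕ} (c : NF M K K₁ D q) :
    fittingOf M ≤ sigmaCore M := by
  have h1 : piCoreOf (sigma M)ᶜ (fittingOf M) = ⊥ := by
    by_contra h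
    obtain ⟨p, hp, hpd⟩ := exists_prime_dvd_of_ne_bot h
    exact c.nn (nilp_of_tau2 hG c.hM (fit_tau2 hG c.hM p hp hpd))
  rw [fit_sup hG c.hM, h1, sup_bot_eq]
  exact fittingOf_le _

theorem NF.czQ {M K K₁ D X : Subgroup G} {q : ℕ} (c : NF M K K₁ D q) (hX1 : X ≠ ⊥)
    (hX : X ≤ 𝓒(piCoreOf {q} (sigmaCore M))) : 𝓒(X) ≤ M := by
  have hQ := (c.Qhall hG).1
  have h1 := ((bg14_2' hG c.hM c.hK c.K1).2.2.1 q c.qp (by rw [c.star]) _ hQ).1
  rw [le_cz_comm] at hX
  obtain ⟨L, hL, hLX⟩ := exists_max hG (ms_cz_ne_top hG hX1)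
  obtain ⟨M₀, -, hu⟩ := h1
  have h2 := hu L ⟨hL, hX.trans hLX⟩
  have h3 := hu M ⟨c.hM, (piCoreOf_le _ _).trans (sigmaCore_le hG c.hM)⟩
  exact hLX.trans (h2.trans h3.symm).le

theorem NF.fit_ti {M K K₁ D : Subgroup G} {q : ℕ} (c : NF M K K₁ D q) :
    IsTISubset (fittingOf M : Set G) := by
  refine ti_of_lines hG c.hM (le_nz_fittingOf M) fun r X g hr hX hXF hg => ?_
  have hXσ := hXF.trans (c.fit_le hG)
  refine mem_of_cj_le hG c.hM hr hX hXσ ?_ (hg.trans (fittingOf_le M))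
  by_cases hrq : r = q
  · subst hrq
    refine (cz_le_nz _).trans (beta_nz hG c.hM (c.qβ hG) (hXσ.trans (sigmaCore_le hG c.hM))
      ((isPi_of_card_prime hr hX).isPGroup hr) (ne_bot_of_card_prime hr hX))
  · refine c.czQ hG (ne_bot_of_card_prime hr hX) ?_
    have hQF : piCoreOf {q} (sigmaCore M) ≤ fittingOf M :=
      (c.QMF hG).trans (fittingHallOf_le_fittingOf M)
    rw [le_cz_comm]
    exact nilpotent_commute (π := {q}) (fittingOf_nilpotent M) hQF hXF (isPi_piCoreOf _ _)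
      ((isPi_of_card_prime hr hX).mono (by
        rintro t ht ht'
        rw [Set.mem_singleton_iff] at ht ht'
        exact hrq (ht.symm.trans ht')))

end

end CfsgLib.BGPi
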