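import Cfsg.Agent.EqBase
import Cfsg.Agent.LibBG15f
import Cfsg.Agent.LibBG15b

/-! The order formula `|V| = |C_V(X)| ^ |X|` for a Frobenius group `K X` acting on `V`. -/

open Subgroup
open scoped Pointwise commutatorElement

namespace CfsgLib.BGPi

open Cfsg

universe u v w

theorem ind_card {A : Type v} {X : Type w} [CommGroup A] [Finite A] [Group X] [Finite X]
    [MulDistribMulAction X A] (W U : Subgroup A) (h0 : W ⊓ U = ⊥)
    (h1 : ∀ y : X, y ≠ 1 → ∀ w ∈ W, y • w ∈ U)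
    (h2 : ∀ P : Subgroup A, (∀ y : X, ∀ w ∈ W, y • w ∈ P) → P = ⊤) :
    Nat.card A = Nat.card {a : A // ∀ y : X, y • a = a} ^ Nat.card X ∧
      Nat.card W = Nat.card {a : A // ∀ y : X, y • a = a} := by
  classical
  haveI := Fintype.ofFinite X
  let ψ : (X → W) →* A :=
    { toFun := fun f => ∏ y : X, y • (f y : A)
      map_one' := by simp
      map_mul' := fun f g => by
        simp only [Pi.mul_apply, Subgroup.coe_mul, smul_mul']
        exact Finset.prod_mul_distrib }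
  have hψ : ∀ f, ψ f = ∏ y : X, y • (f y : A) := fun f => rfl
  have hinj : Function.Injective ψ := by
    rw [injective_iff_map_eq_one]
    intro f hf
    funext z
    have h3 : z⁻¹ • ψ f = 1 := by rw [hf, smul_one]
    rw [hψ, Finset.smul_prod', ← Finset.mul_prod_erase _ _ (Finset.mem_univ z),
      inv_smul_smul] at h3
    have h4 : ∏ y ∈ Finset.univ.erase z, z⁻¹ • y • (f y : A) ∈ U := by
      refine Subgroup.prod_mem _ fun y hy => ?_
      rw [← mul_smul]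
      refine h1 _ ?_ _ (f y).2
      intro h
      exact (Finset.mem_erase.1 hy).1 (inv_mul_eq_one.1 h).symm
    have h5 : (f z : A) ∈ W ⊓ U := by
      refine ⟨(f z).2, ?_⟩
      rw [mul_eq_one_iff_eq_inv] at h3
      rw [h3]
      exact U.inv_mem h4
    rw [h0, Subgroup.mem_bot] at h5
    exact Subtype.ext h5
  have hsurj : Function.Surjective ψ := by
    rw [← MonoidHom.range_eq_top]
    apply h2
    intro y w hw
    refine ⟨Pi.mulSingle y ⟨w, hw⟩, ?_⟩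
    rw [hψ, Finset.prod_eq_single y]
    · simp
    · intro z _ hz
      simp [Pi.mulSingle_eq_of_ne hz]
    · intro h; exact absurd (Finset.mem_univ y) h
  have hsh : ∀ (z : X) f, z • ψ f = ψ (fun y => f (z⁻¹ * y)) := by
    intro z f
    rw [hψ, hψ, Finset.smul_prod']
    refine Finset.prod_bij (fun y _ => z * y) (fun _ _ => Finset.mem_univ _)
      (fun a _ b _ h => mul_left_cancel h) (fun b _ => ⟨z⁻¹ * b, Finset.mem_univ _, by simp⟩) ?_
    intro y _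
    rw [inv_mul_cancel_left, mul_smul]
  have hA : Nat.card A = Nat.card W ^ Nat.card X := by
    rw [← Nat.card_congr (Equiv.ofBijective ψ ⟨hinj, hsurj⟩), Nat.card_fun]
  suffices hWc : Nat.card W = Nat.card {a : A // ∀ y : X, y • a = a} from
    ⟨by rw [hA, hWc], hWc⟩
  refine Nat.card_congr (Equiv.ofBijective
    (fun w : W => (⟨ψ (fun _ => w), fun y => by rw [hsh]⟩ : {a : A // ∀ y : X, y • a = a})) ⟨?_, ?_⟩)
  · intro a b hab
    exact congrFun (hinj (congrArg Subtype.val hab)) 1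
  · rintro ⟨a, ha⟩
    obtain ⟨f, rfl⟩ := hsurj a
    refine ⟨f 1, Subtype.ext ?_⟩
    change ψ (fun _ => f 1) = ψ f
    congr 1
    funext z
    have h3 := ha z
    rw [hsh] at h3
    have h4 := congrFun (hinj h3) z
    simpa using h4

section
variable {G : Type u} [Group G] [Finite G]

theorem base_ii {V X W U : Subgroup G} (hVab : V ≤ 𝓒(V)) (hXV : X ≤ 𝓝(V)) (hW : W ≤ V)
    (h0 : W ⊓ U = ⊥) (h1 : ∀ y ∈ X, y ≠ 1 → W ^ᵍ y ≤ U)
    (h2 : ∀ P ≤ V, (∀ y ∈ X, W ^ᵍ y ≤ P) → P = V) :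
    Nat.card V = Nat.card ↥(V ⊓ 𝓒(X)) ^ Nat.card X ∧ Nat.card W = Nat.card ↥(V ⊓ 𝓒(X)) := by
  letI : CommGroup V := { (inferInstance : Group V) with
    mul_comm := fun a b => Subtype.ext (mem_cz.1 (hVab b.2) a a.2) }
  have hn : ∀ (y : X) (v : V), (y : G) * v * (y : G)⁻¹ ∈ V := fun y v =>
    (Subgroup.mem_normalizer_iff.1 (hXV y.2) v).1 v.2
  letI : MulDistribMulAction X V :=
    { smul := fun y v => ⟨(y : G) * v * (y : G)⁻¹, hn y v⟩
      one_smul := fun v => Subtype.ext (by change (1 : G) * v * (1 : G)⁻¹ = v; simp)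
      mul_smul := fun y z v => Subtype.ext (by
        change ((y * z : X) : G) * v * ((y * z : X) : G)⁻¹ = y * (z * v * (z : G)⁻¹) * (y : G)⁻¹
        simp [mul_assoc])
      smul_mul := fun y v w => Subtype.ext (by
        change (y : G) * (v * w) * (y : G)⁻¹ = y * v * (y : G)⁻¹ * (y * w * (y : G)⁻¹)
        simp [mul_assoc])
      smul_one := fun y => Subtype.ext (by change (y : G) * 1 * (y : G)⁻¹ = 1; simp) }
  have hs : ∀ (y : X) (v : V), ((y • v : V) : G) = (y : G) * v * (y : G)⁻¹ := fun y v => rfl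
  have key := ind_card (A := V) (X := X) (W.subgroupOf V) (U.subgroupOf V) ?_ ?_ ?_
  · have hf : Nat.card {a : V // ∀ y : X, y • a = a} = Nat.card ↥(V ⊓ 𝓒(X)) := ?_
    · have hWV : Nat.card (W.subgroupOf V) = Nat.card W :=
        Nat.card_congr (Subgroup.subgroupOfEquivOfLe hW).toEquiv
      rw [hf, hWV] at key
      exact key
    refine Nat.card_congr
      { toFun := fun a => ⟨((a : V) : G), ⟨(a : V).2, mem_cz.2 fun y hy => ?_⟩⟩
        invFun := fun a => ⟨⟨(a : G), a.2.1⟩, fun y => Subtype.ext ?_⟩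
        left_inv := fun a => rfl
        right_inv := fun a => rfl }
    · have h3 : y * ((a : V) : G) * y⁻¹ = ((a : V) : G) := congrArg Subtype.val (a.2 ⟨y, hy⟩)
      exact mul_inv_eq_iff_eq_mul.1 h3
    · change (y : G) * (a : G) * (y : G)⁻¹ = (a : G)
      exact mul_inv_eq_iff_eq_mul.2 (mem_cz.1 a.2.2 y y.2)
  · rw [eq_bot_iff]
    rintro x ⟨hx, hx'⟩
    have h3 : (x : G) ∈ W ⊓ U := ⟨hx, hx'⟩
    rw [h0] at h3
    exact Subtype.ext (Subgroup.mem_bot.1 h3)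
  · intro y hy w hw
    exact h1 y y.2 (fun h => hy (Subtype.ext h)) (conj_mem_cj hw)
  · intro P hP
    have h3 := h2 (P.map V.subtype) (Subgroup.map_subtype_le P) (by
      intro y hy z hz
      obtain ⟨w, hw, rfl⟩ := hz
      exact ⟨(⟨y, hy⟩ : X) • (⟨w, hW hw⟩ : V), hP ⟨y, hy⟩ _ hw, rfl⟩)
    rw [eq_top_iff]
    intro v _
    obtain ⟨w, hw, hwv⟩ := h3.ge v.2
    have : w = v := Subtype.ext hwv
    exact this ▸ hw

theorem base_i' {V X : Subgroup G} {x k : G} (hVab : V ≤ 𝓒(V)) (hXV : X ≤ 𝓝(V))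
    (hx : zpowers x = X) (hk : k ∈ 𝓝(V))
    (hcomm : ∀ i j : ℕ, ∀ v ∈ V, (x ^ i * k * (x ^ i)⁻¹) * ((x ^ j * k * (x ^ j)⁻¹) * v *
      (x ^ j * k * (x ^ j)⁻¹)⁻¹) * (x ^ i * k * (x ^ i)⁻¹)⁻¹ = (x ^ j * k * (x ^ j)⁻¹) *
      ((x ^ i * k * (x ^ i)⁻¹) * v * (x ^ i * k * (x ^ i)⁻¹)⁻¹) * (x ^ j * k * (x ^ j)⁻¹)⁻¹)
    (hinj : ∀ i < orderOf x, ∀ j < orderOf x, i ≠ j → ∀ v ∈ V,
      (x ^ i * k * (x ^ i)⁻¹) * v * (x ^ i * k * (x ^ i)⁻¹)⁻¹ =
      (x ^ j * k * (x ^ j)⁻¹) * v * (x ^ j * k * (x ^ j)⁻¹)⁻¹ → v = 1) :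
    Nat.card V = Nat.card ↥(V ⊓ 𝓒(X)) ^ Nat.card X ∧
      ∀ c₀ ∈ V, (∀ v ∈ V ⊓ 𝓒(X), ∃ n : ℤ, v = c₀ ^ n) → ∀ a ∈ 𝓝(V), ∀ b ∈ 𝓝(V),
        (∀ v ∈ V, a * (k * v * k⁻¹) * a⁻¹ = k * (a * v * a⁻¹) * k⁻¹) →
        (∀ v ∈ V, b * (k * v * k⁻¹) * b⁻¹ = k * (b * v * b⁻¹) * k⁻¹) →
        ∀ v ∈ V, a * (b * v * b⁻¹) * a⁻¹ = b * (a * v * a⁻¹) * b⁻¹ := by
  letI : CommGroup V := { (inferInstance : Group V) with
    mul_comm := fun a b => Subtype.ext (mem_cz.1 (hVab b.2) a a.2) }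
  have hxV : x ∈ 𝓝(V) := hXV (hx ▸ mem_zpowers x)
  let c : (g : G) → g ∈ 𝓝(V) → (V →* V) := fun g hg =>
    { toFun := fun v => ⟨g * v * g⁻¹, (Subgroup.mem_normalizer_iff.1 hg v).1 v.2⟩
      map_one' := Subtype.ext (by change g * 1 * g⁻¹ = 1; simp)
      map_mul' := fun v w => Subtype.ext (by
        change g * (v * w) * g⁻¹ = g * v * g⁻¹ * (g * w * g⁻¹)
        simp [mul_assoc]) }
  have hc : ∀ g hg (v : V), ((c g hg v : V) : G) = g * v * g⁻¹ := fun g hg v => rfl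
  let ad : (g : G) → g ∈ 𝓝(V) → AddMonoid.End (Additive V) := fun g hg =>
    MonoidHom.toAdditive (c g hg)
  let xh : AddMonoid.End (Additive V) := ad x hxV
  have hki : ∀ i : ℕ, x ^ i * k * (x ^ i)⁻¹ ∈ 𝓝(V) := fun i =>
    mul_mem (mul_mem (pow_mem hxV i) hk) (inv_mem (pow_mem hxV i))
  let σ : ℕ → (Additive V →+ Additive V) := fun i =>
    MonoidHom.toAdditive (c (x ^ i * k * (x ^ i)⁻¹) (hki i))
  have hxi : ∀ (i : ℕ) (v : Additive V), ((Additive.toMul ((xh ^ i) v) : V) : G) =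
      x ^ i * ((Additive.toMul v : V) : G) * (x ^ i)⁻¹ := by
    intro i
    induction i with
    | zero => intro v; rw [pow_zero, pow_zero]; change ((Additive.toMul v : V) : G) = _; simp
    | succ i ih =>
      intro v
      rw [pow_succ']
      change x * ((Additive.toMul ((xh ^ i) v) : V) : G) * x⁻¹ = _
      rw [ih]
      simp [pow_succ', mul_assoc]
  have k1 : xh ^ orderOf x = 1 := by
    refine AddMonoidHom.ext fun v => ?_
    apply Additive.toMul.injective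
    apply Subtype.ext
    have h := hxi (orderOf x) v
    rw [pow_orderOf_eq_one] at h
    refine h.trans ?_
    change 1 * ((Additive.toMul v : V) : G) * 1⁻¹ = ((Additive.toMul v : V) : G)
    simp
  have k2 : ∀ i v, σ i ((xh ^ i) v) = (xh ^ i) ((ad k hk) v) := by
    intro i v
    apply Additive.toMul.injective
    apply Subtype.ext
    rw [hxi]
    change (x ^ i * k * (x ^ i)⁻¹) * ((Additive.toMul ((xh ^ i) v) : V) : G) *
      (x ^ i * k * (x ^ i)⁻¹)⁻¹ = x ^ i * (k * ((Additive.toMul v : V) : G) * k⁻¹) * (x ^ i)⁻¹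
    rw [hxi]
    group
  have k3 : ∀ i j v, σ i (σ j v) = σ j (σ i v) := by
    intro i j v
    apply Additive.toMul.injective
    apply Subtype.ext
    exact hcomm i j _ (Additive.toMul v : V).2
  have k4 : ∀ i < orderOf x, ∀ j < orderOf x, i ≠ j → ∀ v, σ i v = σ j v → v = 0 := by
    intro i hi j hj hij v hv
    apply Additive.toMul.injective
    apply Subtype.ext
    exact hinj i hi j hj hij _ (Additive.toMul v : V).2 (congrArg Subtype.val hv)
  constructor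
  · have key := CfsgLib.BGVan.vand_card (V := Additive V) (p := orderOf x) (orderOf_pos x) xh k1
      (ad k hk) σ k2 k3 k4
    have h1 : Nat.card X = orderOf x := by rw [← hx, Nat.card_zpowers]
    rw [h1]
    refine key.trans ?_
    congr 1
    refine Nat.card_congr
      { toFun := fun a => ⟨((Additive.toMul (a : Additive V) : V) : G),
          ⟨(Additive.toMul (a : Additive V)).2, ?_⟩⟩
        invFun := fun a => ⟨Additive.ofMul (⟨(a : G), a.2.1⟩ : V), ?_⟩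
        left_inv := fun a => rfl
        right_inv := fun a => rfl }
    · have h3 : x * ((Additive.toMul (a : Additive V) : V) : G) * x⁻¹ =
          ((Additive.toMul (a : Additive V) : V) : G) := congrArg Subtype.val a.2
      change _ ∈ 𝓒(X)
      rw [← hx, ← cz1_eq, Subgroup.mem_centralizer_singleton_iff]
      exact (mul_inv_eq_iff_eq_mul.1 h3).symm
    · have h3 : x * (a : G) * x⁻¹ = (a : G) :=
        mul_inv_eq_iff_eq_mul.2 (mem_cz.1 a.2.2 x (hx ▸ mem_zpowers x))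
      exact congrArg Additive.ofMul (Subtype.ext h3)
  · intro c₀ hc₀ hcyc a ha b hb hak hbk v hv
    have h1 := CfsgLib.BGVan.vand_comm (V := Additive V) (p := orderOf x) (orderOf_pos x) xh k1
      (ad k hk) σ k2 k3 k4 (Additive.ofMul ⟨c₀, hc₀⟩) ?_ (ad a ha) (ad b hb) ?_ ?_
      (Additive.ofMul ⟨v, hv⟩)
    · exact congrArg (fun w : Additive V => ((Additive.toMul w : V) : G)) h1
    · intro w hw
      have h3 : x * ((Additive.toMul w : V) : G) * x⁻¹ = ((Additive.toMul w : V) : G) :=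
        congrArg Subtype.val hw
      obtain ⟨n, hn⟩ := hcyc ((Additive.toMul w : V) : G) ⟨(Additive.toMul w : V).2, by
        change _ ∈ 𝓒(X)
        rw [← hx, ← cz1_eq, Subgroup.mem_centralizer_singleton_iff]
        exact (mul_inv_eq_iff_eq_mul.1 h3).symm⟩
      refine ⟨n, ?_⟩
      apply Additive.toMul.injective
      apply Subtype.ext
      rw [hn]
      rfl
    · refine AddMonoidHom.ext fun w => ?_
      apply Additive.toMul.injective
      apply Subtype.ext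
      exact hak _ (Additive.toMul w : V).2
    · refine AddMonoidHom.ext fun w => ?_
      apply Additive.toMul.injective
      apply Subtype.ext
      exact hbk _ (Additive.toMul w : V).2

end

section
variable {G : Type u} [Group G] [Finite G]

/-- a maximal element among finitely many subgroups -/
theorem exists_max_sub {P : Subgroup G → Prop} {C : Subgroup G} (hC : P C) :
    ∃ B, P B ∧ C ≤ B ∧ ∀ B', P B' → B ≤ B' → B' = B := by
  obtain ⟨B, hCB, hB⟩ := (Set.toFinite {H | P H}).exists_le_maximal hC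
  exact ⟨B, hB.1, hCB, fun B' h1 h2 => le_antisymm (hB.2 h1 h2) h2⟩

theorem comp_dich {V K X : Subgroup G} (hVab : V ≤ 𝓒(V)) (hKs : Group.IsSolvable K)
    (hX : (Nat.card X).Prime) (hKV : K ≤ 𝓝(V)) (hXV : X ≤ 𝓝(V)) (hXK : X ≤ 𝓝(K))
    (hcKV : (Nat.card K).Coprime (Nat.card V)) (hcXK : (Nat.card X).Coprime (Nat.card K))
    (hKX : K ⊓ 𝓒(X) = ⊥) (hVK : V ⊓ 𝓒(K) = ⊥) (hV1 : V ≠ ⊥)
    (hKd : ⁅K, K⁆ ≤ K ⊓ 𝓒(V))
    (hirr : ∀ N ≤ V, V ≤ 𝓝(N) → K ≤ 𝓝(N) → X ≤ 𝓝(N) → N = ⊥ ∨ N = V) :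
    (∃ x k : G, zpowers x = X ∧ k ∈ K ∧
      (∀ i j : ℕ, ∀ v ∈ V, (x ^ i * k * (x ^ i)⁻¹) * ((x ^ j * k * (x ^ j)⁻¹) * v *
      (x ^ j * k * (x ^ j)⁻¹)⁻¹) * (x ^ i * k * (x ^ i)⁻¹)⁻¹ = (x ^ j * k * (x ^ j)⁻¹) *
      ((x ^ i * k * (x ^ i)⁻¹) * v * (x ^ i * k * (x ^ i)⁻¹)⁻¹) * (x ^ j * k * (x ^ j)⁻¹)⁻¹) ∧
      (∀ i < orderOf x, ∀ j < orderOf x, i ≠ j → ∀ v ∈ V,
      (x ^ i * k * (x ^ i)⁻¹) * v * (x ^ i * k * (x ^ i)⁻¹)⁻¹ =
      (x ^ j * k * (x ^ j)⁻¹) * v * (x ^ j * k * (x ^ j)⁻¹)⁻¹ → v = 1)) ∨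
    (∃ B ≤ K, K ⊓ 𝓒(V) ≤ B ∧ V ⊓ 𝓒(B) ⊓ ⁅V, B⁆ = ⊥ ∧
      (∀ y ∈ X, y ≠ 1 → (V ⊓ 𝓒(B)) ^ᵍ y ≤ ⁅V, B⁆) ∧
      (∀ P ≤ V, (∀ y ∈ X, (V ⊓ 𝓒(B)) ^ᵍ y ≤ P) → P = V)) := by
  have hVn : ∀ N ≤ V, V ≤ 𝓝(N) := fun N hN => (hVab.trans (cz_anti hN)).trans (cz_le_nz _)
  have hVs : Group.IsSolvable V :=
    Group.isSolvable_of_comm fun a b => Subtype.ext (mem_cz.1 (hVab b.2) a a.2)
  set C := K ⊓ 𝓒(V) with hC
  have hKC : K ≤ 𝓝(C) := le_nz_inf le_normalizer (hKV.trans (nz_le_nz_cz _))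
  have hXC : X ≤ 𝓝(C) := le_nz_inf hXK (hXV.trans (nz_le_nz_cz _))
  have hCV : V ⊓ 𝓒(C) = V := inf_eq_left.2 (le_cz_comm.1 inf_le_right)
  obtain ⟨B, ⟨hBK, hCB, hB1⟩, -, hBmax⟩ := exists_max_sub
    (P := fun B => B ≤ K ∧ C ≤ B ∧ V ⊓ 𝓒(B) ≠ ⊥) (C := C)
    ⟨inf_le_left, le_rfl, by rw [hCV]; exact hV1⟩
  have hKB : K ≤ 𝓝(B) := by
    refine le_nz_of_comm_le ?_
    exact (Subgroup.commutator_mono hBK le_rfl).trans (hKd.trans hCB)
  have hmax : ∀ D ≤ K, ¬ D ≤ B → V ⊓ 𝓒(B ⊔ D) = ⊥ := by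
    intro D hD hDB
    by_contra h
    have h1 := hBmax (B ⊔ D) ⟨sup_le hBK hD, hCB.trans le_sup_left, h⟩ le_sup_left
    exact hDB (le_sup_right.trans h1.le)
  obtain ⟨⟨x, hx⟩, hx1'⟩ := (Subgroup.ne_bot_iff_exists_ne_one (H := X)).1 (ne_bot_of_card_prime hX rfl)
  have hx1 : x ≠ 1 := fun h => hx1' (Subtype.ext h)
  have hxX := zpowers_eq_of_prime hX rfl hx hx1
  by_cases hXB : X ≤ 𝓝(B)
  · -- every element outside `C` acts without fixed points
    have hW : V ⊓ 𝓒(B) = V := by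
      rcases hirr (V ⊓ 𝓒(B)) inf_le_left (hVn _ inf_le_left)
        (le_nz_inf hKV (hKB.trans (nz_le_nz_cz _)))
        (le_nz_inf hXV (hXB.trans (nz_le_nz_cz _))) with h | h
      · exact absurd h hB1
      · exact h
    have hBC : B = C := le_antisymm (le_inf hBK (le_cz_comm.1 (inf_eq_left.1 hW))) hCB
    subst hBC
    have hKC' : ¬ K ≤ C := by
      intro h
      apply hV1
      rw [eq_bot_iff, ← hVK]
      exact le_inf le_rfl (le_cz_comm.1 (h.trans inf_le_right))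
    obtain ⟨k, hk, hkC⟩ := SetLike.not_le_iff_exists.1 hKC'
    have hxi : ∀ i : ℕ, x ^ i ∈ X := fun i => pow_mem hx i
    have hki : ∀ i : ℕ, x ^ i * k * (x ^ i)⁻¹ ∈ K := fun i =>
      (Subgroup.mem_normalizer_iff.1 (hXK (hxi i)) k).1 hk
    refine Or.inl ⟨x, k, hxX, hk, ?_, ?_⟩
    · intro i j v hv
      set a := x ^ i * k * (x ^ i)⁻¹ with ha
      set b := x ^ j * k * (x ^ j)⁻¹ with hb
      have h1 : a⁻¹ * b⁻¹ * a * b ∈ 𝓒(V) := by
        have h2 := Subgroup.commutator_mem_commutator (K.inv_mem (hki i)) (K.inv_mem (hki j))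
        rw [commutatorElement_def, inv_inv, inv_inv] at h2
        exact (hKd h2).2
      have h3 := mem_cz.1 h1 v hv
      have h4 : a * (b * v * b⁻¹) * a⁻¹ = (b * a) * (a⁻¹ * b⁻¹ * a * b) * v *
          (a⁻¹ * b⁻¹ * a * b)⁻¹ * (b * a)⁻¹ := by group
      rw [h4, mul_assoc (b * a), ← h3]
      group
    · intro i hi j hj hij v hv h
      by_contra hv1
      set a := x ^ i * k * (x ^ i)⁻¹ with ha
      set b := x ^ j * k * (x ^ j)⁻¹ with hb
      have hm : b⁻¹ * a * v = v * (b⁻¹ * a) := by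
        have h1 : a * v * a⁻¹ = b * v * b⁻¹ := h
        calc b⁻¹ * a * v = b⁻¹ * (a * v * a⁻¹) * a := by group
          _ = b⁻¹ * (b * v * b⁻¹) * a := by rw [h1]
          _ = v * (b⁻¹ * a) := by group
      have hmK : b⁻¹ * a ∈ K := K.mul_mem (K.inv_mem (hki j)) (hki i)
      have hmC : b⁻¹ * a ∈ C := by
        by_contra h1
        have h2 := hmax (zpowers (b⁻¹ * a)) (by rwa [zpowers_le]) (by rwa [zpowers_le])
        have h3 : v ∈ V ⊓ 𝓒(C ⊔ zpowers (b⁻¹ * a)) := by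
          refine ⟨hv, ?_⟩
          have h4 : C ⊔ zpowers (b⁻¹ * a) ≤ 𝓒(zpowers v) := by
            refine sup_le (inf_le_right.trans (cz_anti (by rwa [zpowers_le]))) ?_
            rw [zpowers_le, ← cz1_eq, Subgroup.mem_centralizer_singleton_iff]
            exact hm
          rw [le_cz_comm, zpowers_le] at h4
          exact h4
        rw [h2, Subgroup.mem_bot] at h3
        exact hv1 h3
      -- the element `k` is centralised modulo `C`
      set y := (x ^ j)⁻¹ * x ^ i with hy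
      have hyX : y ∈ X := X.mul_mem (X.inv_mem (hxi j)) (hxi i)
      have hy1 : y ≠ 1 := by
        intro h1
        exact hij (pow_injOn_Iio_orderOf hi hj (inv_mul_eq_one.1 h1).symm)
      have hyk : k⁻¹ * y * k * y⁻¹ ∈ C := by
        have h1 := (Subgroup.mem_normalizer_iff.1 (hXC (X.inv_mem (hxi j))) _).1 hmC
        have h2 : (x ^ j)⁻¹ * (b⁻¹ * a) * ((x ^ j)⁻¹)⁻¹ = k⁻¹ * y * k * y⁻¹ := by
          rw [ha, hb, hy]; group
        rwa [h2] at h1
      have hyzX := zpowers_eq_of_prime hX rfl hyX hy1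
      have hkn : k ∈ 𝓝(C) := hKC hk
      have hyn : y ∈ 𝓝(C) := hXC hyX
      have h1 : qm C (zpowers k) ≤ 𝓒(qm C (zpowers y)) := by
        rw [qm_zpowers hkn, qm_zpowers hyn, ← cz1_eq, zpowers_le,
          Subgroup.mem_centralizer_singleton_iff]
        have h2 : qe C (mul_mem (mul_mem (mul_mem (inv_mem hkn) hyn) hkn) (inv_mem hyn)) = 1 :=
          (qe_eq_one _).2 hyk
        rw [qe_mul (mul_mem (mul_mem (inv_mem hkn) hyn) hkn) (inv_mem hyn),
          qe_mul (mul_mem (inv_mem hkn) hyn) hkn, qe_mul (inv_mem hkn) hyn, qe_inv hkn,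
          qe_inv hyn] at h2
        have h3 : (qe C hkn)⁻¹ * qe C hyn * qe C hkn = qe C hyn := mul_inv_eq_one.1 h2
        symm
        calc qe C hyn * qe C hkn = qe C hkn * ((qe C hkn)⁻¹ * qe C hyn * qe C hkn) := by group
          _ = _ := by rw [h3]
      rw [hyzX, qm_cz_iff (by rwa [zpowers_le]) hXC] at h1
      have h2 := cop_quot_cz hXK hcXK hKs inf_le_left hXC (by rwa [zpowers_le])
        (by rwa [zpowers_le]) h1
      rw [hKX, sup_bot_eq, zpowers_le] at h2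
      exact hkC h2
  · -- permuted components
    have hBV := hBK.trans hKV
    have hcBV : (Nat.card B).Coprime (Nat.card V) :=
      Nat.Coprime.coprime_dvd_left (card_dvd_of_le hBK) hcKV
    refine Or.inr ⟨B, hBK, hCB, ?_, ?_, ?_⟩
    · rw [eq_bot_iff, ← ab_cop_inf hVab hBV hcBV]
      exact le_inf inf_le_right (inf_le_left.trans inf_le_right)
    · intro y hy hy1
      have hVy : V ^ᵍ y = V := mem_nz.1 (hXV hy)
      have hKy : K ^ᵍ y = K := mem_nz.1 (hXK hy)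
      have hW : (V ⊓ 𝓒(B)) ^ᵍ y = V ⊓ 𝓒(B ^ᵍ y) := by rw [cj_inf, cz_cj, hVy]
      have hByK : B ^ᵍ y ≤ K := by rw [← hKy]; exact cj_mono hBK y
      have hBy : ¬ B ^ᵍ y ≤ B := by
        intro h
        have h1 := eq_of_le_of_card_ge h (card_cj B y).ge
        apply hXB
        rw [← zpowers_eq_of_prime hX rfl hy hy1, zpowers_le]
        exact mem_nz.2 h1
      have h1 := hmax _ hByK hBy
      have hKBy : K ≤ 𝓝(B ^ᵍ y) := by
        rw [nz_cj, ← hKy]; exact cj_mono hKB y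
      have h2 := cop_comm_sup (A := B) (K := V ⊓ 𝓒(B ^ᵍ y))
        (le_nz_inf hBV ((hBK.trans hKBy).trans (nz_le_nz_cz _)))
        (hcBV.coprime_dvd_right (card_dvd_of_le inf_le_left)) (solvable_sub inf_le_left hVs)
      rw [hW, ← h2]
      refine sup_le (Subgroup.commutator_mono inf_le_left le_rfl) ?_
      refine le_trans (le_of_eq ?_) bot_le
      rw [eq_bot_iff, ← h1]
      refine le_inf (inf_le_left.trans inf_le_left) ?_
      rw [le_cz_comm]
      refine sup_le ?_ ?_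
      · rw [le_cz_comm]; exact inf_le_right
      · rw [le_cz_comm]; exact inf_le_left.trans inf_le_right
    · intro P hP h
      set T : Set G := {g | ∃ y ∈ X, g ∈ (V ⊓ 𝓒(B)) ^ᵍ y} with hT
      have hTP : Subgroup.closure T ≤ P := by
        rw [Subgroup.closure_le]
        rintro g ⟨y, hy, hg⟩
        exact h y hy hg
      have hWT : V ⊓ 𝓒(B) ≤ Subgroup.closure T := by
        intro g hg
        refine Subgroup.subset_closure ⟨1, X.one_mem, ?_⟩
        rwa [cj_one]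
      have hKT : K ≤ 𝓝(Subgroup.closure T) := by
        refine nz_le_nz_closure ?_
        rintro a ha g ⟨y, hy, hg⟩
        refine ⟨y, hy, ?_⟩
        have hKW : K ≤ 𝓝((V ⊓ 𝓒(B)) ^ᵍ y) := by
          rw [nz_cj, ← mem_nz.1 (hXK hy)]
          exact cj_mono (le_nz_inf hKV (hKB.trans (nz_le_nz_cz _))) y
        exact (Subgroup.mem_normalizer_iff.1 (hKW ha) g).1 hg
      have hXT : X ≤ 𝓝(Subgroup.closure T) := by
        refine nz_le_nz_closure ?_
        rintro a ha g ⟨y, hy, hg⟩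
        refine ⟨a * y, X.mul_mem ha hy, ?_⟩
        rw [mem_cj] at hg ⊢
        have h2 : (a * y)⁻¹ * (a * g * a⁻¹) * (a * y) = y⁻¹ * g * y := by group
        rwa [h2]
      rcases hirr (Subgroup.closure T) (hTP.trans hP) (hVn _ (hTP.trans hP)) hKT hXT with h1 | h1
      · rw [h1] at hWT
        exact absurd (le_bot_iff.1 hWT) hB1
      · exact le_antisymm hP (h1.ge.trans hTP)

theorem wie_irr {V K X : Subgroup G} (hVs : Group.IsSolvable V) (hKs : Group.IsSolvable K)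
    (hX : (Nat.card X).Prime) (hKV : K ≤ 𝓝(V)) (hXV : X ≤ 𝓝(V)) (hXK : X ≤ 𝓝(K))
    (hcKV : (Nat.card K).Coprime (Nat.card V)) (hcXK : (Nat.card X).Coprime (Nat.card K))
    (hKX : K ⊓ 𝓒(X) = ⊥) (hVK : V ⊓ 𝓒(K) = ⊥) (hV1 : V ≠ ⊥)
    (hirr : ∀ N ≤ V, V ≤ 𝓝(N) → K ≤ 𝓝(N) → X ≤ 𝓝(N) → N = ⊥ ∨ N = V)
    (hmin : ∀ E ≤ K, E ≠ K → X ≤ 𝓝(E) → V ⊓ 𝓒(E) ≠ ⊥) :
    Nat.card V = Nat.card ↥(V ⊓ 𝓒(X)) ^ Nat.card X := by
  have hVab : V ≤ 𝓒(V) := by
    rw [← comm_eq_bot_iff]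
    rcases hirr ⁅V, V⁆ (comm_self_le V) (left_le_nz_comm V V) (le_nz_comm hKV hKV)
      (le_nz_comm hXV hXV) with h | h
    · exact h
    · exact absurd h (comm_lt_of_solvable hVs hV1).ne
  have hVn : ∀ N ≤ V, V ≤ 𝓝(N) := fun N hN => (hVab.trans (cz_anti hN)).trans (cz_le_nz _)
  have hK1 : K ≠ ⊥ := by
    rintro rfl
    apply hV1
    rw [eq_bot_iff, ← hVK]
    exact le_inf le_rfl (by rw [le_cz_comm]; exact bot_le)
  have hKd : ⁅K, K⁆ ≤ K ⊓ 𝓒(V) := by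
    refine le_inf (comm_self_le K) ?_
    have h1 : ⁅K, K⁆ ≠ K := (comm_lt_of_solvable hKs hK1).ne
    have h2 := hmin ⁅K, K⁆ (comm_self_le K) h1 (le_nz_comm hXK hXK)
    rcases hirr (V ⊓ 𝓒(⁅K, K⁆)) inf_le_left (hVn _ inf_le_left)
      (le_nz_inf hKV ((left_le_nz_comm K K).trans (nz_le_nz_cz _)))
      (le_nz_inf hXV ((le_nz_comm hXK hXK).trans (nz_le_nz_cz _))) with h | h
    · exact absurd h h2
    · rw [le_cz_comm]; exact inf_eq_left.1 h
  rcases comp_dich hVab hKs hX hKV hXV hXK hcKV hcXK hKX hVK hV1 hKd hirr with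
    ⟨x, k, hx, hk, h1, h2⟩ | ⟨B, hBK, hCB, h0, h1, h2⟩
  · exact (base_i' hVab hXV hx (hKV hk) h1 h2).1
  · exact (base_ii hVab hXV inf_le_left h0 h1 h2).1

/-- fixed points of `X` on `K N / N` -/
theorem qm_fpf {K X N : Subgroup G} (hXK : X ≤ 𝓝(K)) (hKs : Group.IsSolvable K)
    (hNs : Group.IsSolvable N) (hKN : K ≤ 𝓝(N)) (hXN : X ≤ 𝓝(N))
    (hcXK : (Nat.card X).Coprime (Nat.card K)) (hcXN : (Nat.card X).Coprime (Nat.card N))
    (hKX : K ⊓ 𝓒(X) = ⊥) (hi : K ⊓ N = ⊥) : qm N K ⊓ 𝓒(qm N X) = ⊥ := by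
  have hXKN : X ≤ 𝓝(K ⊔ N) := le_nz_sup hXK hXN
  have hKNs : Group.IsSolvable ↥(K ⊔ N) := solvable_sup hKN hKs hNs
  have hc : (Nat.card X).Coprime (Nat.card ↥(K ⊔ N)) :=
    (hcXK.mul_right hcXN).coprime_dvd_right (Dvd.intro _ (card_sup_mul_card_inf hKN))
  have h1 := qm_fix hXKN hc hKNs le_sup_right (sup_le hKN le_normalizer) hXN
  have h2 : (K ⊔ N) ⊓ 𝓒(X) ≤ N := by
    rintro y ⟨hy, hyX⟩
    obtain ⟨k, hk, n, hn, rfl⟩ := (mem_sup_of_nz hKN).1 hy
    have h3 : k ∈ K ⊓ 𝓒(X) := by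
      refine ⟨hk, mem_cz.2 fun x hx => ?_⟩
      have h4 := mem_cz.1 hyX x hx
      have h5 : k⁻¹ * (x * k * x⁻¹) = n * (x * n * x⁻¹)⁻¹ := by
        have h6 : x * (k * n) * x⁻¹ = k * n := by rw [h4]; group
        calc k⁻¹ * (x * k * x⁻¹) = k⁻¹ * (x * (k * n) * x⁻¹) * (x * n * x⁻¹)⁻¹ := by group
          _ = _ := by rw [h6]; group
      have h6 : k⁻¹ * (x * k * x⁻¹) ∈ K ⊓ N := by
        refine ⟨K.mul_mem (K.inv_mem hk) ((Subgroup.mem_normalizer_iff.1 (hXK hx) k).1 hk), ?_⟩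
        rw [h5]
        exact N.mul_mem hn (N.inv_mem ((Subgroup.mem_normalizer_iff.1 (hXN hx) n).1 hn))
      rw [hi, Subgroup.mem_bot] at h6
      have h7 := inv_mul_eq_one.1 h6
      exact (mul_inv_eq_iff_eq_mul.1 h7.symm)
    rw [hKX, Subgroup.mem_bot] at h3
    rw [h3, one_mul]; exact hn
  have h3 : qm N ((K ⊔ N) ⊓ 𝓒(X)) = ⊥ := qm_bot_of_le (h2.trans le_normalizer) h2
  rw [h3] at h1
  exact le_bot_iff.1 ((inf_le_inf (qm_mono le_sup_left) le_rfl).trans h1)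

end

theorem wie_aux : ∀ n : ℕ, ∀ {G : Type u} [Group G] [Finite G] {V K X : Subgroup G},
    Nat.card V + Nat.card K ≤ n → Group.IsSolvable V → Group.IsSolvable K →
    (Nat.card X).Prime → K ≤ 𝓝(V) → X ≤ 𝓝(V) → X ≤ 𝓝(K) →
    (Nat.card K).Coprime (Nat.card V) → (Nat.card X).Coprime (Nat.card V) →
    (Nat.card X).Coprime (Nat.card K) → K ⊓ 𝓒(X) = ⊥ → V ⊓ 𝓒(K) = ⊥ →
    Nat.card V = Nat.card ↥(V ⊓ 𝓒(X)) ^ Nat.card X := by
  intro n
  induction n with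
  | zero =>
    intro G _ _ V K X h
    have := Nat.card_pos (α := V)
    omega
  | succ n ih =>
    intro G _ _ V K X hn hVs hKs hX hKV hXV hXK hcKV hcXV hcXK hKX hVK
    by_cases hV1 : V = ⊥
    · subst hV1; simp
    by_cases hE : ∃ E ≤ K, E ≠ K ∧ X ≤ 𝓝(E) ∧ V ⊓ 𝓒(E) = ⊥
    · obtain ⟨E, hEK, hne, hXE, hVE⟩ := hE
      have h1 : Nat.card E < Nat.card K := by
        refine lt_of_le_of_ne (Subgroup.card_le_of_le hEK) fun h => hne ?_
        exact eq_of_le_of_card_ge hEK h.ge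
      refine ih (V := V) (K := E) (X := X) (by omega) hVs (solvable_sub hEK hKs) hX
        (hEK.trans hKV) hXV hXE (Nat.Coprime.coprime_dvd_left (card_dvd_of_le hEK) hcKV) hcXV
        (hcXK.coprime_dvd_right (card_dvd_of_le hEK)) ?_ hVE
      rw [eq_bot_iff, ← hKX]
      exact inf_le_inf hEK le_rfl
    by_cases hN : ∃ N ≤ V, V ≤ 𝓝(N) ∧ K ≤ 𝓝(N) ∧ X ≤ 𝓝(N) ∧ N ≠ ⊥ ∧ N ≠ V
    · obtain ⟨N, hNV, hVN, hKN, hXN, hN1, hN2⟩ := hN
      have h1 : Nat.card N < Nat.card V := by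
        refine lt_of_le_of_ne (Subgroup.card_le_of_le hNV) fun h => hN2 ?_
        exact eq_of_le_of_card_ge hNV h.ge
      have hNs := solvable_sub hNV hVs
      have hA := ih (V := N) (K := K) (X := X) (by omega) hNs hKs hX hKN hXN hXK
        (hcKV.coprime_dvd_right (card_dvd_of_le hNV)) (hcXV.coprime_dvd_right (card_dvd_of_le hNV))
        hcXK hKX (by rw [eq_bot_iff, ← hVK]; exact inf_le_inf hNV le_rfl)
      have hcm := card_mul_relIndex hNV
      have hN1' : 1 < Nat.card N := by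
        rw [Subgroup.one_lt_card_iff_ne_bot]; exact hN1
      have hqV : Nat.card (qm N V) = N.relIndex V := qm_card hVN
      have hlt : Nat.card (qm N V) < Nat.card V := by
        rw [hqV, ← hcm]
        have h2 : 0 < N.relIndex V := by
          rw [← hqV]; exact Nat.card_pos
        nlinarith
      have hle : Nat.card (qm N K) ≤ Nat.card K := Nat.le_of_dvd Nat.card_pos (qm_card_dvd hKN)
      have hXp := qm_prime hX hXN (not_le_of_cop hX hNV hcXV)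
      have hB := ih (V := qm N V) (K := qm N K) (X := qm N X) (by omega) (qm_solvable hVs)
        (qm_solvable hKs) (by rw [hXp]; exact hX) (qm_nz hKV) (qm_nz hXV) (qm_nz hXK)
        (Nat.Coprime.of_dvd (qm_card_dvd hKN) (qm_card_dvd hVN) hcKV)
        (Nat.Coprime.of_dvd (qm_card_dvd hXN) (qm_card_dvd hVN) hcXV)
        (Nat.Coprime.of_dvd (qm_card_dvd hXN) (qm_card_dvd hKN) hcXK)
        (qm_fpf hXK hKs hNs hKN hXN hcXK (hcXV.coprime_dvd_right (card_dvd_of_le hNV)) hKX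
          (cop_inf (hcKV.coprime_dvd_right (card_dvd_of_le hNV))))
        (by
          have h2 := qm_fix hKV hcKV hVs hNV hVN hKN
          rw [hVK, qm_bot_of_le bot_le bot_le] at h2
          exact le_bot_iff.1 h2)
      have hVX : V ⊓ 𝓒(X) ≤ 𝓝(N) := inf_le_left.trans hVN
      have hfix : qm N V ⊓ 𝓒(qm N X) = qm N (V ⊓ 𝓒(X)) := by
        refine le_antisymm (qm_fix hXV hcXV hVs hNV hVN hXN) (le_inf (qm_mono inf_le_left) ?_)
        rw [qm_cz_iff hVX hXN, comm_eq_bot_iff.2 inf_le_right]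
        exact bot_le
      rw [hfix, hXp, hqV, qm_card hVX] at hB
      have hfc : Nat.card ↥(N ⊓ 𝓒(X)) * N.relIndex (V ⊓ 𝓒(X)) = Nat.card ↥(V ⊓ 𝓒(X)) := by
        have h2 := card_mul_relIndex (inf_le_right : N ⊓ (V ⊓ 𝓒(X)) ≤ V ⊓ 𝓒(X))
        rw [Subgroup.inf_relIndex_right] at h2
        rw [← h2]
        congr 2
        rw [← inf_assoc, inf_eq_left.2 hNV]
      rw [← hcm, hA, hB, ← hfc, mul_pow]
    · push Not at hE hN
      refine wie_irr hVs hKs hX hKV hXV hXK hcKV hcXK hKX hVK hV1 ?_ ?_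
      · intro N hNV h1 h2 h3
        by_cases h4 : N = ⊥
        · exact Or.inl h4
        · exact Or.inr (hN N hNV h1 h2 h3 h4)
      · intro E hEK h1 h2
        exact hE E hEK h1 h2

theorem wie {G : Type u} [Group G] [Finite G] {V K X : Subgroup G}
    (hVs : Group.IsSolvable V) (hKs : Group.IsSolvable K)
    (hX : (Nat.card X).Prime) (hKV : K ≤ 𝓝(V)) (hXV : X ≤ 𝓝(V)) (hXK : X ≤ 𝓝(K))
    (hcKV : (Nat.card K).Coprime (Nat.card V)) (hcXV : (Nat.card X).Coprime (Nat.card V))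
    (hcXK : (Nat.card X).Coprime (Nat.card K))
    (hKX : K ⊓ 𝓒(X) = ⊥) (hVK : V ⊓ 𝓒(K) = ⊥) :
    Nat.card V = Nat.card ↥(V ⊓ 𝓒(X)) ^ Nat.card X :=
  wie_aux _ le_rfl hVs hKs hX hKV hXV hXK hcKV hcXV hcXK hKX hVK

end CfsgLib.BGPi
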