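import Cfsg.Agent.EqBase
import Cfsg.Agent.LibBG15g

/-! If `|C_V(X)|` is prime then `[K, K]` centralises `V`. -/

open Subgroup
open scoped Pointwise commutatorElement

namespace CfsgLib.BGPi

open Cfsg

universe u

section
variable {G : Type u} [Group G] [Finite G]

theorem nilp_comm_ne {K E : Subgroup G} (hK : Group.IsNilpotent K) (hE : E ≤ K)
    (h : ⁅E, K⁆ = E) : E = ⊥ := by
  obtain ⟨n, hn⟩ := cser_bot hK hE
  have key : ∀ k, cser K E k = E := by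
    intro k
    induction k with
    | zero => rfl
    | succ k ih =>
      change ⁅cser K E k, K⁆ = E
      rw [ih, h]
  rw [← key n, hn]

theorem comm_of_act {V : Subgroup G} {a b : G} (ha : a ∈ 𝓝(V)) (hb : b ∈ 𝓝(V))
    (h : ∀ v ∈ V, a * (b * v * b⁻¹) * a⁻¹ = b * (a * v * a⁻¹) * b⁻¹) : ⁅a, b⁆ ∈ 𝓒(V) := by
  rw [mem_cz]
  intro v hv
  have h4 := h (a⁻¹ * (b⁻¹ * v * b) * a) (by
    have h5 := (Subgroup.mem_normalizer_iff.1 (inv_mem hb) v).1 hv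
    rw [inv_inv] at h5
    have h6 := (Subgroup.mem_normalizer_iff.1 (inv_mem ha) _).1 h5
    rwa [inv_inv] at h6)
  rw [commutatorElement_def]
  have h6 : a * b * a⁻¹ * b⁻¹ * v * (a * b * a⁻¹ * b⁻¹)⁻¹ = v := by
    calc a * b * a⁻¹ * b⁻¹ * v * (a * b * a⁻¹ * b⁻¹)⁻¹
        = a * (b * (a⁻¹ * (b⁻¹ * v * b) * a) * b⁻¹) * a⁻¹ := by group
      _ = b * (a * (a⁻¹ * (b⁻¹ * v * b) * a) * a⁻¹) * b⁻¹ := h4
      _ = v := by group
  exact (mul_inv_eq_iff_eq_mul.1 h6).symm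

theorem nz_comm_cyc {W : Subgroup G} {w : G} (hw : zpowers w = W) {a b : G} (ha : a ∈ 𝓝(W))
    (hb : b ∈ 𝓝(W)) : ⁅a, b⁆ ∈ 𝓒(W) := by
  refine comm_of_act ha hb fun v hv => ?_
  have h1 : a * w * a⁻¹ ∈ W := (Subgroup.mem_normalizer_iff.1 ha w).1 (hw ▸ mem_zpowers w)
  have h2 : b * w * b⁻¹ ∈ W := (Subgroup.mem_normalizer_iff.1 hb w).1 (hw ▸ mem_zpowers w)
  rw [← hw] at h1 h2 hv
  obtain ⟨m, hm⟩ := mem_zpowers_iff.1 h1
  obtain ⟨n, hn⟩ := mem_zpowers_iff.1 h2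
  obtain ⟨t, rfl⟩ := mem_zpowers_iff.1 hv
  have h3 : ∀ i : ℤ, a * w ^ i * a⁻¹ = w ^ (m * i) := by
    intro i
    rw [← conj_zpow, ← hm, ← zpow_mul]
  have h4 : ∀ i : ℤ, b * w ^ i * b⁻¹ = w ^ (n * i) := by
    intro i
    rw [← conj_zpow, ← hn, ← zpow_mul]
  rw [h3, h4, h3, h4]
  congr 1
  ring

theorem wie_comm {V K X : Subgroup G} {q : ℕ} (hq : q.Prime) (hVab : V ≤ 𝓒(V))
    (hKn : Group.IsNilpotent K) (hKs : Group.IsSolvable K)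
    (hX : (Nat.card X).Prime) (hKV : K ≤ 𝓝(V)) (hXV : X ≤ 𝓝(V)) (hXK : X ≤ 𝓝(K))
    (hcKV : (Nat.card K).Coprime (Nat.card V)) (hcXV : (Nat.card X).Coprime (Nat.card V))
    (hcXK : (Nat.card X).Coprime (Nat.card K))
    (hKX : K ⊓ 𝓒(X) = ⊥) (hVK : V ⊓ 𝓒(K) = ⊥)
    (hfix : Nat.card ↥(V ⊓ 𝓒(X)) = q) : ⁅K, K⁆ ≤ 𝓒(V) := by
  have hVs : Group.IsSolvable V :=
    Group.isSolvable_of_comm fun a b => Subtype.ext (mem_cz.1 (hVab b.2) a a.2)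
  have hV1 : V ≠ ⊥ := by
    rintro rfl
    rw [bot_inf_eq, Subgroup.card_bot] at hfix
    exact hq.one_lt.ne hfix
  have hVn : ∀ N ≤ V, V ≤ 𝓝(N) := fun N hN => (hVab.trans (cz_anti hN)).trans (cz_le_nz _)
  have hcV := wie hVs hKs hX hKV hXV hXK hcKV hcXV hcXK hKX hVK
  rw [hfix] at hcV
  have hirr : ∀ E ≤ K, X ≤ 𝓝(E) → V ⊓ 𝓒(E) = ⊥ → ∀ N ≤ V, E ≤ 𝓝(N) → X ≤ 𝓝(N) →
      N = ⊥ ∨ N = V := by
    intro E hEK hXE hVE N hNV hEN hXN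
    have h1 := wie (V := N) (K := E) (X := X) (solvable_sub hNV hVs) (solvable_sub hEK hKs) hX
      hEN hXN hXE (Nat.Coprime.of_dvd (card_dvd_of_le hEK) (card_dvd_of_le hNV) hcKV)
      (hcXV.coprime_dvd_right (card_dvd_of_le hNV)) (hcXK.coprime_dvd_right (card_dvd_of_le hEK))
      (by rw [eq_bot_iff, ← hKX]; exact inf_le_inf hEK le_rfl)
      (by rw [eq_bot_iff, ← hVE]; exact inf_le_inf hNV le_rfl)
    have h2 : Nat.card ↥(N ⊓ 𝓒(X)) ∣ q := by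
      rw [← hfix]; exact card_dvd_of_le (inf_le_inf hNV le_rfl)
    rcases (Nat.dvd_prime hq).1 h2 with h3 | h3
    · left
      rw [h3, one_pow] at h1
      exact card_eq_one.1 h1
    · right
      rw [h3, ← hcV] at h1
      exact eq_of_le_of_card_ge hNV h1.ge
  have hKnc : ¬ K ≤ 𝓒(V) := by
    intro h
    apply hV1
    rw [eq_bot_iff, ← hVK]
    exact le_inf le_rfl (le_cz_comm.1 h)
  obtain ⟨E, ⟨hEK, hKE, hXE, hEnc⟩, hEmin⟩ :=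
    (Set.toFinite {E : Subgroup G | E ≤ K ∧ K ≤ 𝓝(E) ∧ X ≤ 𝓝(E) ∧ ¬ E ≤ 𝓒(V)}).exists_minimal
      ⟨K, le_rfl, le_normalizer, hXK, hKnc⟩
  have hE0 : ⁅E, K⁆ ≤ 𝓒(V) := by
    by_contra h
    have h1 : ⁅E, K⁆ ≤ E := comm_le_left hKE
    have h2 := hEmin (show ⁅E, K⁆ ∈ {E : Subgroup G | E ≤ K ∧ K ≤ 𝓝(E) ∧ X ≤ 𝓝(E) ∧ ¬ E ≤ 𝓒(V)}
      from ⟨h1.trans hEK, right_le_nz_comm E K, le_nz_comm hXE hXK, h⟩) h1
    have h3 := nilp_comm_ne hKn hEK (le_antisymm h1 h2)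
    rw [h3] at hEnc
    exact hEnc bot_le
  have hVE : V ⊓ 𝓒(E) = ⊥ := by
    rcases hirr K le_rfl hXK hVK (V ⊓ 𝓒(E)) inf_le_left (le_nz_inf hKV (hKE.trans (nz_le_nz_cz _)))
      (le_nz_inf hXV (hXE.trans (nz_le_nz_cz _))) with h | h
    · exact h
    · exact absurd (le_cz_comm.1 (inf_eq_left.1 h)) hEnc
  have hEd : ⁅E, E⁆ ≤ E ⊓ 𝓒(V) :=
    le_inf (comm_self_le E) ((Subgroup.commutator_mono le_rfl hEK).trans hE0)
  have hXp := hirr E hEK hXE hVE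
  rcases comp_dich hVab (solvable_sub hEK hKs) hX (hEK.trans hKV) hXV hXE
    (Nat.Coprime.coprime_dvd_left (card_dvd_of_le hEK) hcKV)
    (hcXK.coprime_dvd_right (card_dvd_of_le hEK))
    (by rw [eq_bot_iff, ← hKX]; exact inf_le_inf hEK le_rfl) hVE hV1 hEd
    (fun N hNV _ hEN hXN => hXp N hNV hEN hXN) with
    ⟨x, k, hx, hk, h1, h2⟩ | ⟨B, hBE, hCB, h0, h1, h2⟩
  · have h3 := (base_i' hVab hXV hx (hKV (hEK hk)) h1 h2).2
    obtain ⟨⟨c₀, hc₀⟩, hc1'⟩ := (Subgroup.ne_bot_iff_exists_ne_one (H := V ⊓ 𝓒(X))).1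
      (ne_bot_of_card_prime hq hfix)
    have hc1 : c₀ ≠ 1 := fun h => hc1' (Subtype.ext h)
    have hcz := zpowers_eq_of_prime hq hfix hc₀ hc1
    have hcomm : ∀ a ∈ K, ∀ v ∈ V, a * (k * v * k⁻¹) * a⁻¹ = k * (a * v * a⁻¹) * k⁻¹ := by
      intro a ha v hv
      have h4 : ⁅k⁻¹, a⁻¹⁆ ∈ 𝓒(V) :=
        hE0 (commutator_mem_commutator (E.inv_mem hk) (K.inv_mem ha))
      rw [commutatorElement_def, inv_inv, inv_inv] at h4
      have h5 := mem_cz.1 h4 v hv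
      have h6 : k * (a * v * a⁻¹) * k⁻¹ = (a * k) * (k⁻¹ * a⁻¹ * k * a * v *
          (k⁻¹ * a⁻¹ * k * a)⁻¹) * (a * k)⁻¹ := by group
      rw [h6, ← h5]
      group
    rw [Subgroup.commutator_le]
    intro a ha b hb
    exact comm_of_act (hKV ha) (hKV hb) (h3 c₀ hc₀.1 (fun v hv => by
      rw [← hcz] at hv
      obtain ⟨n, hn⟩ := mem_zpowers_iff.1 hv
      exact ⟨n, hn.symm⟩) a (hKV ha) b (hKV hb) (hcomm a ha) (hcomm b hb))
  · have hWc := (base_ii hVab hXV inf_le_left h0 h1 h2).2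
    rw [hfix] at hWc
    have hKB : K ≤ 𝓝(B) := by
      refine le_nz_of_comm_le ?_
      refine le_trans (le_inf ?_ ?_) hCB
      · exact (Subgroup.commutator_mono hBE le_rfl).trans (comm_le_left hKE)
      · exact (Subgroup.commutator_mono hBE le_rfl).trans hE0
    have hKW : K ≤ 𝓝(V ⊓ 𝓒(B)) := le_nz_inf hKV (hKB.trans (nz_le_nz_cz _))
    obtain ⟨⟨w, hw⟩, hw1'⟩ := (Subgroup.ne_bot_iff_exists_ne_one (H := V ⊓ 𝓒(B))).1
      (ne_bot_of_card_prime hq hWc)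
    have hw1 : w ≠ 1 := fun h => hw1' (Subtype.ext h)
    have hcz := zpowers_eq_of_prime hq hWc hw hw1
    have hKKW : ⁅K, K⁆ ≤ 𝓒(V ⊓ 𝓒(B)) := by
      rw [Subgroup.commutator_le]
      intro a ha b hb
      exact nz_comm_cyc hcz (hKW ha) (hKW hb)
    have h3 := h2 (V ⊓ 𝓒(⁅K, K⁆)) inf_le_left (by
      intro y hy
      have hy' : ⁅K, K⁆ ^ᵍ y = ⁅K, K⁆ := mem_nz.1 (le_nz_comm hXK hXK hy)
      refine le_inf ?_ ?_
      · have h4 := cj_mono (inf_le_left : V ⊓ 𝓒(B) ≤ V) y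
        rwa [mem_nz.1 (hXV hy)] at h4
      · rw [le_cz_comm, cz_cj, ← hy']
        exact cj_mono hKKW y)
    exact le_cz_comm.1 (inf_eq_left.1 h3)

theorem nilp_qm {N A : Subgroup G} (hAN : A ≤ 𝓝(N)) (hA : Group.IsNilpotent A) :
    Group.IsNilpotent (qm N A) := by
  haveI := hA
  exact nilpotent_map (Group.nilpotent_of_mulEquiv (Subgroup.subgroupOfEquivOfLe hAN).symm) _

theorem cop_of_phi {q : ℕ} (hq : q.Prime) {P A : Subgroup G} (hP : IsPGroup q P)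
    (hAP : A ≤ 𝓝(P)) (hcop : (Nat.card A).Coprime (Nat.card P)) (hPs : Group.IsSolvable P)
    (h : ⁅P, A⁆ ≤ phi q P) : A ≤ 𝓒(P) := by
  have h1 := cop_comm_sup hAP hcop hPs
  have h2 := phi_nongen hq hP (inf_le_left : P ⊓ 𝓒(A) ≤ P)
    (h1.ge.trans (sup_le_sup h le_rfl))
  rw [le_cz_comm]
  exact inf_eq_left.1 h2

theorem wie_comm_nilp {V K X : Subgroup G} (hVn : Group.IsNilpotent V)
    (hcyc : IsCyclic ↥(V ⊓ 𝓒(X)))
    (hKn : Group.IsNilpotent K) (hKs : Group.IsSolvable K)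
    (hX : (Nat.card X).Prime) (hKV : K ≤ 𝓝(V)) (hXV : X ≤ 𝓝(V)) (hXK : X ≤ 𝓝(K))
    (hcKV : (Nat.card K).Coprime (Nat.card V)) (hcXV : (Nat.card X).Coprime (Nat.card V))
    (hcXK : (Nat.card X).Coprime (Nat.card K))
    (hKX : K ⊓ 𝓒(X) = ⊥) (hVK : V ⊓ 𝓒(K) = ⊥) : ⁅K, K⁆ ≤ 𝓒(V) := by
  have hKKV : ⁅K, K⁆ ≤ 𝓝(V) := (comm_self_le K).trans hKV
  rw [le_cz_comm]
  refine nilpotent_le_of_pcores hVn fun q hq => ?_
  rw [le_cz_comm]
  set P := piCoreOf {q} V with hP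
  have hPV : P ≤ V := piCoreOf_le _ _
  have hPp : IsPGroup q P := (isPi_piCoreOf _ _).isPGroup hq
  have hPs : Group.IsSolvable P := solvable_of_isPGroup hq hPp
  have hKP : K ≤ 𝓝(P) := hKV.trans (nz_le_nz_piCoreOf _ _)
  have hXP : X ≤ 𝓝(P) := hXV.trans (nz_le_nz_piCoreOf _ _)
  have hcKP := hcKV.coprime_dvd_right (card_dvd_of_le hPV)
  have hcXP := hcXV.coprime_dvd_right (card_dvd_of_le hPV)
  by_cases hP1 : P = ⊥
  · rw [hP1, le_cz_comm]; exact bot_le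
  refine cop_of_phi hq hPp ((comm_self_le K).trans hKP)
    (Nat.Coprime.coprime_dvd_left (card_dvd_of_le (comm_self_le K)) hcKP) hPs ?_
  set N := phi q P with hN
  have hNP : N ≤ P := phi_le _ _
  have hPN : P ≤ 𝓝(N) := le_normalizer.trans (nz_le_nz_phi _ _)
  have hKN : K ≤ 𝓝(N) := hKP.trans (nz_le_nz_phi _ _)
  have hXN : X ≤ 𝓝(N) := hXP.trans (nz_le_nz_phi _ _)
  have hab : qm N P ≤ 𝓒(qm N P) := (qm_cz_iff hPN hPN).2 (comm_le_phi q P)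
  have hKX' : qm N K ⊓ 𝓒(qm N X) = ⊥ :=
    qm_fpf hXK hKs (solvable_sub hNP hPs) hKN hXN hcXK
      (hcXP.coprime_dvd_right (card_dvd_of_le hNP)) hKX
      (cop_inf (hcKP.coprime_dvd_right (card_dvd_of_le hNP)))
  have hVK' : qm N P ⊓ 𝓒(qm N K) = ⊥ := by
    have h2 := qm_fix hKP hcKP hPs hNP hPN hKN
    have h3 : P ⊓ 𝓒(K) = ⊥ := by
      rw [eq_bot_iff, ← hVK]; exact inf_le_inf hPV le_rfl
    rw [h3, qm_bot_of_le bot_le bot_le] at h2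
    exact le_bot_iff.1 h2
  have hXp := qm_prime hX hXN (not_le_of_cop hX hNP hcXP)
  have hXp' : (Nat.card (qm N X)).Prime := by rw [hXp]; exact hX
  have hc1 := Nat.Coprime.of_dvd (qm_card_dvd hKN) (qm_card_dvd hPN) hcKP
  have hc2 := Nat.Coprime.of_dvd (qm_card_dvd hXN) (qm_card_dvd hPN) hcXP
  have hc3 := Nat.Coprime.of_dvd (qm_card_dvd hXN) (qm_card_dvd hKN) hcXK
  have hfix : Nat.card ↥(qm N P ⊓ 𝓒(qm N X)) ∣ q := by
    have h1 := qm_fix hXP hcXP hPs hNP hPN hXN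
    refine (card_dvd_of_le h1).trans ?_
    have h2 : IsCyclic ↥(P ⊓ 𝓒(X)) := by
      have h3 : P ⊓ 𝓒(X) ≤ V ⊓ 𝓒(X) := inf_le_inf hPV le_rfl
      exact isCyclic_of_injective (Subgroup.inclusion h3) (Subgroup.inclusion_injective h3)
    obtain ⟨⟨g, hg⟩, hgen⟩ := h2.exists_generator
    have h3 : P ⊓ 𝓒(X) = zpowers g := by
      refine le_antisymm (fun y hy => ?_) (by rwa [zpowers_le])
      obtain ⟨n, hn⟩ := mem_zpowers_iff.1 (hgen ⟨y, hy⟩)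
      exact mem_zpowers_iff.2 ⟨n, congrArg Subtype.val hn⟩
    have hgN : g ∈ 𝓝(N) := hPN hg.1
    rw [h3, qm_zpowers hgN, Nat.card_zpowers, orderOf_dvd_iff_pow_eq_one, ← qe_pow]
    exact (qe_eq_one _).2 (pow_mem_phi hg.1)
  rcases (Nat.dvd_prime hq).1 hfix with h1 | h1
  · exfalso
    have h2 := wie (V := qm N P) (K := qm N K) (X := qm N X) (qm_solvable hPs)
      (qm_solvable hKs) hXp' (qm_nz hKP) (qm_nz hXP) (qm_nz hXK) hc1 hc2 hc3 hKX' hVK'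
    rw [h1, one_pow] at h2
    have h3 := (qm_eq_bot hPN).1 (card_eq_one.1 h2)
    exact (phi_lt hq hPp hP1).not_ge h3
  · have hKn' : Group.IsNilpotent (qm N K) := nilp_qm hKN hKn
    have h2 := wie_comm hq hab hKn' (qm_solvable hKs) hXp' (qm_nz hKP) (qm_nz hXP)
      (qm_nz hXK) hc1 hc2 hc3 hKX' hVK' h1
    rw [← qm_comm hKN hKN, qm_cz_iff ((comm_self_le K).trans hKN) hPN] at h2
    rwa [Subgroup.commutator_comm]

end

end CfsgLib.BGPi
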