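import Cfsg.Agent.EqBase
import Cfsg.Agent.LibBG15h
import Cfsg.Agent.LibBG14l
import Cfsg.Agent.LibBG15b

/-! Statement S1446. -/

open Subgroup
open scoped Pointwise commutatorElement

namespace CfsgLib.BGPi

open Cfsg

universe u

section
variable {G : Type u} [Group G] [Finite G]

theorem cop_of_fpf {K X : Subgroup G} (hX : (Nat.card X).Prime) (hXK : X ≤ 𝓝(K))
    (hKX : K ⊓ 𝓒(X) = ⊥) : (Nat.card X).Coprime (Nat.card K) := by
  have hn : ∀ (y : X) (v : K), (y : G) * v * (y : G)⁻¹ ∈ K := fun y v =>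
    (Subgroup.mem_normalizer_iff.1 (hXK y.2) v).1 v.2
  letI : MulAction X K :=
    { smul := fun y v => ⟨(y : G) * v * (y : G)⁻¹, hn y v⟩
      one_smul := fun v => Subtype.ext (by change (1 : G) * v * (1 : G)⁻¹ = v; simp)
      mul_smul := fun y z v => Subtype.ext (by
        change ((y * z : X) : G) * v * ((y * z : X) : G)⁻¹ = y * (z * v * (z : G)⁻¹) * (y : G)⁻¹
        simp [mul_assoc]) }
  haveI : Fact (Nat.card X).Prime := ⟨hX⟩
  have hXp : IsPGroup (Nat.card X) X := IsPGroup.of_card (n := 1) (by rw [pow_one])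
  have h := hXp.card_modEq_card_fixedPoints (α := K)
  have h1 : Nat.card (MulAction.fixedPoints X K) = 1 := by
    rw [Nat.card_eq_one_iff_unique]
    refine ⟨⟨fun a b => ?_⟩, ⟨⟨1, fun y => Subtype.ext (by
      change (y : G) * 1 * (y : G)⁻¹ = 1; simp)⟩⟩⟩
    have key : ∀ a : MulAction.fixedPoints X K, ((a : K) : G) = 1 := by
      intro a
      have h2 : ((a : K) : G) ∈ K ⊓ 𝓒(X) := by
        refine ⟨(a : K).2, mem_cz.2 fun y hy => ?_⟩
        have h3 : y * ((a : K) : G) * y⁻¹ = ((a : K) : G) :=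
          congrArg Subtype.val (a.2 ⟨y, hy⟩)
        exact mul_inv_eq_iff_eq_mul.1 h3
      rwa [hKX, Subgroup.mem_bot] at h2
    exact Subtype.ext (Subtype.ext ((key a).trans (key b).symm))
  rw [h1] at h
  rw [hX.coprime_iff_not_dvd]
  intro hd
  have h2 : 1 ≡ 0 [MOD Nat.card X] := h.symm.trans ((Nat.modEq_zero_iff_dvd).2 hd)
  exact hX.one_lt.ne' (Nat.dvd_one.1 ((Nat.modEq_zero_iff_dvd).1 h2))

theorem s1446 (K R M : Subgroup G) (hK1 : K ≠ ⊥) (hR1 : R ≠ ⊥)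
    (hRK : R ≤ 𝓝(K)) (hfrob : ∀ r ∈ R, r ≠ 1 → K ⊓ Subgroup.centralizer ({r} : Set G) = ⊥)
    (hsolv : Group.IsSolvable ↥(K ⊔ R)) (hodd : Odd (Nat.card ↥(K ⊔ R)))
    (hM1 : M ≠ ⊥) (hMn : Group.IsNilpotent M) (hKM : K ≤ 𝓝(M)) (hRM : R ≤ 𝓝(M))
    (hcop : (Nat.card ↥(K ⊔ R)).Coprime (Nat.card M)) (hCK : M ⊓ 𝓒(K) = ⊥)
    (hpr : ∀ x ∈ R, x ≠ 1 → M ⊓ Subgroup.centralizer ({x} : Set G) = M ⊓ 𝓒(R)) :
    (Nat.card R).Prime ∧ Nat.card M = Nat.card ↥(M ⊓ 𝓒(R)) ^ Nat.card R ∧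
      (IsCyclic ↥(M ⊓ 𝓒(R)) → ⁅K, K⁆ ≤ 𝓒(M)) := by
  haveI := hMn
  have hMs : Group.IsSolvable M := inferInstance
  have hcKM := Nat.Coprime.coprime_dvd_left (card_dvd_of_le (le_sup_left : K ≤ K ⊔ R)) hcop
  have hcRM := Nat.Coprime.coprime_dvd_left (card_dvd_of_le (le_sup_right : R ≤ K ⊔ R)) hcop
  have hKs : Group.IsSolvable K := solvable_sub le_sup_left hsolv
  have hRp : (Nat.card R).Prime := by
    obtain ⟨p, hp, -, R₀, hR₀, hR₀c⟩ := exists_prime_sub hR1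
    by_contra hnp
    have hne : ¬ R ≤ R₀ := by
      intro h
      apply hnp
      rw [le_antisymm h hR₀, hR₀c]; exact hp
    obtain ⟨k', hk', hk0⟩ := SetLike.not_le_iff_exists.1 hne
    obtain ⟨⟨x, hx⟩, hx1'⟩ := (Subgroup.ne_bot_iff_exists_ne_one (H := R₀)).1
      (ne_bot_of_card_prime hp hR₀c)
    have hx1 : x ≠ 1 := fun h => hx1' (Subtype.ext h)
    have hxz := zpowers_eq_of_prime hp hR₀c hx hx1
    refine hM1 (frob_fix hMs hKM hRM hRK hfrob hCK hR₀ hk' hk0 ?_ hcKM)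
    rw [← hxz, ← cz1_eq, hpr x (hR₀ hx) hx1]
    refine inf_le_right.trans ?_
    rw [cz1_eq]
    exact cz_anti (by rwa [zpowers_le])
  have hKR : K ⊓ 𝓒(R) = ⊥ := by
    obtain ⟨⟨x, hx⟩, hx1'⟩ := (Subgroup.ne_bot_iff_exists_ne_one (H := R)).1 hR1
    have hx1 : x ≠ 1 := fun h => hx1' (Subtype.ext h)
    rw [← hfrob x hx hx1, cz1_eq, zpowers_eq_of_prime hRp rfl hx hx1]
  have hcRK := cop_of_fpf hRp hRK hKR
  refine ⟨hRp, wie hMs hKs hRp hKM hRM hRK hcKM hcRM hcRK hKR hCK, fun hcyc => ?_⟩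
  have hoddK : Odd (Nat.card K) := Odd.of_dvd_nat hodd (card_dvd_of_le le_sup_left)
  have hR2 : Nat.card R ≠ 2 := by
    intro h
    have h1 : Odd (Nat.card R) := Odd.of_dvd_nat hodd (card_dvd_of_le le_sup_right)
    rw [h] at h1
    exact absurd h1 (by decide)
  have hKn := nilp_of_fpf' hKs hoddK hRp hR2 hRK hcRK hKR
  exact wie_comm_nilp hMn hcyc hKn hKs hRp hKM hRM hRK hcKM hcRM hcRK hKR hCK

end

end CfsgLib.BGPi
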