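import Cfsg.Agent.EqBase
import Cfsg.Agent.LibBG15e
import Cfsg.Agent.LibBG15i

/-! B & G 15.2, the order of `Q / Q₀`. -/

open Subgroup
open scoped Pointwise commutatorElement

namespace CfsgLib.BGPi

open Cfsg

universe u

section
variable {G : Type u} [Group G] [Finite G]
variable (hG : IsMinSimpleOddOrder G)
include hG

theorem NF.Kp {M K K₁ D : Subgroup G} {q : ℕ} (c : NF M K K₁ D q) : (Nat.card K).Prime := by
  rw [c.Kprime hG]; exact c.hp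

/-- the numbers -/
theorem NF.cardQ {M K K₁ D : Subgroup G} {q : ℕ} (c : NF M K K₁ D q) :
    Nat.card ↥(piCoreOf {q} (sigmaCore M)) =
      Nat.card ↥(piCoreOf {q} (sigmaCore M) ⊓ 𝓒(D)) * q ^ Nat.card K := by
  have hKM := hall_le c.hK
  have hK1 := c.Kprime hG
  have hMQ0 : M ≤ 𝓝(piCoreOf {q} (sigmaCore M) ⊓ 𝓒(D)) := c.Q0M hG
  have hMQ := c.Qn hG
  have hQ0Q : piCoreOf {q} (sigmaCore M) ⊓ 𝓒(D) ≤ piCoreOf {q} (sigmaCore M) := inf_le_left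
  have hQσ : piCoreOf {q} (sigmaCore M) ≤ sigmaCore M := piCoreOf_le _ _
  have hQM := hQσ.trans (sigmaCore_le hG c.hM)
  have hDM := c.DM hG
  have hKQ : K ≤ 𝓝(piCoreOf {q} (sigmaCore M)) := hKM.trans hMQ
  have hcKQ : (Nat.card K).Coprime (Nat.card ↥(piCoreOf {q} (sigmaCore M))) :=
    (c.cop hG).coprime_dvd_right (card_dvd_of_le hQσ)
  have hKs : Group.IsSolvable K := solvable_sub hKM (max_sol hG c.hM)
  have hDs : Group.IsSolvable D := solvable_sub hDM (max_sol hG c.hM)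
  have hfixD : D ⊓ 𝓒(K) = ⊥ := by rw [hK1]; exact c.Dfix hG
  have hKp := c.Kp hG
  have hXp := qm_prime hKp (hKM.trans hMQ0) (not_le_of_cop hKp hQ0Q hcKQ)
  have h1 := wie (V := qm (piCoreOf {q} (sigmaCore M) ⊓ 𝓒(D)) (piCoreOf {q} (sigmaCore M)))
    (K := qm (piCoreOf {q} (sigmaCore M) ⊓ 𝓒(D)) D)
    (X := qm (piCoreOf {q} (sigmaCore M) ⊓ 𝓒(D)) K) (qm_solvable (c.Qs hG)) (qm_solvable hDs)
    (by rw [hXp]; exact hKp) (qm_nz (hDM.trans hMQ)) (qm_nz hKQ) (qm_nz c.KD)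
    (Nat.Coprime.of_dvd (qm_card_dvd (hDM.trans hMQ0)) (qm_card_dvd (hQM.trans hMQ0)) (c.copD hG))
    (Nat.Coprime.of_dvd (qm_card_dvd (hKM.trans hMQ0)) (qm_card_dvd (hQM.trans hMQ0)) hcKQ)
    (Nat.Coprime.of_dvd (qm_card_dvd (hKM.trans hMQ0)) (qm_card_dvd (hDM.trans hMQ0))
      ((c.cop hG).coprime_dvd_right (card_dvd_of_le (hall_le c.hD))))
    (qm_fpf c.KD hDs (solvable_sub hQ0Q (c.Qs hG)) (hDM.trans hMQ0) (hKM.trans hMQ0)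
      ((c.cop hG).coprime_dvd_right (card_dvd_of_le (hall_le c.hD)))
      (hcKQ.coprime_dvd_right (card_dvd_of_le hQ0Q)) hfixD
      (cop_inf ((c.copD hG).coprime_dvd_right (card_dvd_of_le hQ0Q))))
    (by
      have h2 := qm_fix (V := piCoreOf {q} (sigmaCore M)) (X := D)
        (N := piCoreOf {q} (sigmaCore M) ⊓ 𝓒(D)) (hDM.trans hMQ) (c.copD hG) (c.Qs hG)
        hQ0Q (hQM.trans hMQ0) (hDM.trans hMQ0)
      rw [qm_bot_of_le ((hQ0Q.trans hQM).trans hMQ0) le_rfl] at h2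
      exact le_bot_iff.1 h2)
  have hstarM : sigmaCore M ⊓ 𝓒(K) ≤ 𝓝(piCoreOf {q} (sigmaCore M) ⊓ 𝓒(D)) :=
    (inf_le_left.trans (sigmaCore_le hG c.hM)).trans hMQ0
  have hsc : (Nat.card ↥(sigmaCore M ⊓ 𝓒(K))).Prime := by rw [c.star]; exact c.qp
  have hfix : qm (piCoreOf {q} (sigmaCore M) ⊓ 𝓒(D)) (piCoreOf {q} (sigmaCore M)) ⊓
      𝓒(qm (piCoreOf {q} (sigmaCore M) ⊓ 𝓒(D)) K) =
      qm (piCoreOf {q} (sigmaCore M) ⊓ 𝓒(D)) (sigmaCore M ⊓ 𝓒(K)) := by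
    refine le_antisymm ?_ (le_inf (qm_mono (c.starQ hG)) ?_)
    · refine (qm_fix hKQ hcKQ (c.Qs hG) hQ0Q (hQM.trans hMQ0) (hKM.trans hMQ0)).trans ?_
      exact qm_mono (inf_le_inf hQσ le_rfl)
    · rw [qm_cz_iff hstarM (hKM.trans hMQ0), comm_eq_bot_iff.2 inf_le_right]
      exact bot_le
  rw [hfix, hXp, qm_prime hsc hstarM (c.starQ0 hG), c.star, qm_card (hQM.trans hMQ0)] at h1
  rw [← h1, card_mul_relIndex hQ0Q]

theorem NF.D0c {M K K₁ D D' : Subgroup G} {q : ℕ} (c : NF M K K₁ D q)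
    (hD' : IsPiHallOf {q}ᶜ D' (sigmaCore M)) : Group.IsNilpotent D' ∧
      piCoreOf {q} (sigmaCore M) ⊓ 𝓒(D') = piCoreOf {q} (sigmaCore M) ⊓ 𝓒(D) := by
  obtain ⟨m, hm, hmD⟩ := hall_conj (sigmaCore_sol hG c.hM) c.hD hD'
  have hmM := sigmaCore_le hG c.hM hm
  subst hmD
  refine ⟨nilpotent_cj.2 (c.Dnilp hG), ?_⟩
  have h1 : (piCoreOf {q} (sigmaCore M) ⊓ 𝓒(D)) ^ᵍ m = piCoreOf {q} (sigmaCore M) ⊓ 𝓒(D) :=
    mem_nz.1 (c.Q0M hG hmM)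
  have h2 : (piCoreOf {q} (sigmaCore M)) ^ᵍ m = piCoreOf {q} (sigmaCore M) :=
    mem_nz.1 (c.Qn hG hmM)
  rw [← h1, cj_inf, h2, ← cz_cj]

end

theorem hall_of_compl {G : Type u} [Group G] [Finite G] {Q D V : Subgroup G} {q : ℕ}
    (hQ : IsPiHallOf {q} Q V) (h : IsComplIn Q D V) : IsPiHallOf {q}ᶜ D V := by
  refine ⟨h.2.1, ?_, ?_⟩
  · intro p hp hd hpq
    rw [Set.mem_singleton_iff] at hpq
    have h1 := IsComplIn_relIndex h
    exact hQ.2.2 p hp hpq (by rw [h1]; exact hd)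
  · intro p hp hpq hd
    have h1 := IsComplIn_relIndex' h
    rw [h1] at hd
    exact hpq (hQ.2.1 p hp hd)

end CfsgLib.BGPi
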