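import Cfsg.Agent.EqBase
import Cfsg.Agent.LibBG15j

/-! τ₂-subgroups with fixed points are cyclic; the Fitting subgroup. -/

open Subgroup
open scoped Pointwise commutatorElement

namespace CfsgLib.BGPi

open Cfsg

universe u

section
variable {G : Type u} [Group G] [Finite G]

theorem nilp_sup_comm {H K : Subgroup G} (h : H ≤ 𝓒(K)) (hH : Group.IsNilpotent H)
    (hK : Group.IsNilpotent K) : Group.IsNilpotent ↥(H ⊔ K) := by
  haveI := hH
  haveI := hK
  have hc : ∀ (a : H) (b : K), Commute (H.subtype a) (K.subtype b) := fun a b =>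
    (mem_cz.1 (h a.2) b b.2).symm
  have h1 : (⊤ : Subgroup (H × K)).map (MonoidHom.noncommCoprod H.subtype K.subtype hc) =
      H ⊔ K := by
    rw [← MonoidHom.range_eq_map, MonoidHom.noncommCoprod_range, Subgroup.range_subtype,
      Subgroup.range_subtype]
  rw [← h1]
  have h2 : Group.IsNilpotent (⊤ : Subgroup (H × K)) :=
    Group.nilpotent_of_mulEquiv (Subgroup.topEquiv (G := H × K)).symm
  exact nilpotent_map h2 _

theorem le_of_cop_sup {M N K Y : Subgroup G} (hN : M ≤ 𝓝(N)) (hs : N ⊔ K = M) (hY : Y ≤ M)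
    (hcop : (Nat.card Y).Coprime (Nat.card K)) : Y ≤ N := by
  have hKM : K ≤ M := hs ▸ le_sup_right
  have hNM : N ≤ M := hs ▸ le_sup_left
  have h1 : qm N Y ≤ qm N K := by
    have h2 : qm N Y ≤ qm N M := qm_mono hY
    rwa [← hs, qm_sup (hNM.trans hN) (hKM.trans hN), qm_bot_of_le (hNM.trans hN) le_rfl,
      bot_sup_eq] at h2
  have h2 : qm N Y = ⊥ := by
    have h3 := cop_inf (Nat.Coprime.of_dvd (qm_card_dvd (hY.trans hN))
      (qm_card_dvd (hKM.trans hN)) hcop)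
    rwa [inf_eq_left.2 h1] at h3
  exact (qm_eq_bot (hY.trans hN)).1 h2

variable (hG : IsMinSimpleOddOrder G)
include hG

theorem tau2_cyc {M X : Subgroup G} (hM : IsCoatom M) (hXM : X ≤ M) (hXt : IsPi (tau2 M) X)
    (hC : sigmaCore M ⊓ 𝓒(X) ≠ ⊥) : IsCyclic X := by
  have hXσ : IsPi (sigma M)ᶜ X := hXt.mono (tau2_sub hG)
  obtain ⟨E, hE, hXE⟩ := hall_exists_ge (max_sol hG hM) hXσ hXM
  have hEM := hall_le hE
  have hXs : Group.IsSolvable X := solvable_sub hXM (max_sol hG hM)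
  -- rank one
  have hr1 : ∀ r : ℕ, r.Prime → PRankLE r 1 X := by
    intro r hr
    by_contra h
    obtain ⟨A, hAX, hAe, hAc⟩ := (not_rank_iff hr).1 h
    have hrX : r ∣ Nat.card X := by
      refine dvd_trans ?_ (card_dvd_of_le hAX)
      rw [hAc]; exact dvd_pow_self _ (by norm_num)
    have hrt := hXt r hr hrX
    have hrσ : r ∉ sigma M := tau2_sub hG hrt
    obtain ⟨A₀, c⟩ := exists_exc hG hM hr hrσ (hAX.trans hXM) hAe hAc
    obtain ⟨s, hs, hsd⟩ := exists_prime_dvd_of_ne_bot hC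
    have hsσ : s ∈ sigma M := hall_isPi (sigma_hall hG hM) s hs
      (hsd.trans (card_dvd_of_le inf_le_left))
    exact c.nd hG hsσ (hsd.trans (card_dvd_of_le (inf_le_right.trans (cz_anti hAX))))
  have hsc : ∀ r : ℕ, r.Prime → ∀ S : Subgroup G, IsPiHallOf {r} S X → S ≤ 𝓒(S) := by
    intro r hr S hS
    have hSp : IsPGroup r S := (hall_isPi hS).isPGroup hr
    by_cases hrX : r ∣ Nat.card X
    · haveI := cyclic_of_rank1 hr (ms_p2' hG hr hrX) hSp (rank_mono (hall_le hS) (hr1 r hr))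
      intro x hx
      rw [Subgroup.mem_centralizer_iff]
      intro y hy
      have h2 := (IsCyclic.commGroup (α := S)).mul_comm ⟨y, hy⟩ ⟨x, hx⟩
      exact congrArg Subtype.val h2
    · have hS1 : S = ⊥ := by
        by_contra h
        obtain ⟨t, ht, htd⟩ := exists_prime_dvd_of_ne_bot h
        have h1 := hall_isPi hS t ht htd
        rw [Set.mem_singleton_iff] at h1
        exact hrX (h1 ▸ htd.trans (card_dvd_of_le (hall_le hS)))
      rw [hS1]; exact bot_le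
  -- `X` centralises each `O_r(X)`
  have key : ∀ r : ℕ, r.Prime → X ≤ 𝓒(piCoreOf {r} X) := by
    intro r hr
    have hFX : piCoreOf {r} X ≤ X := piCoreOf_le _ _
    have hFp : IsPGroup r ↥(piCoreOf {r} X) := (isPi_piCoreOf _ _).isPGroup hr
    by_cases hrX : r ∣ Nat.card X
    · have hrt := hXt r hr hrX
      obtain ⟨A, hAE, A₀, c⟩ := exists_exc_tau2 hG hM hE hrt
      have hXA := c.tau2_cz' hG hE hAE hXE hXt
      refine le_of_syls fun s hs => ?_
      obtain ⟨S, hS⟩ := exists_syl hs X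
      refine ⟨S, hS, ?_⟩
      by_cases hsr : s = r
      · subst hsr
        obtain ⟨S', hS', hFS'⟩ := exists_syl_ge hs (isPi_piCoreOf {s} X) hFX
        obtain ⟨m, hm, hmS⟩ := syl_conj hs hS' hS
        have h1 : piCoreOf {s} X ≤ S := by
          have h2 := cj_mono hFS' m
          rw [hmS, mem_nz.1 (le_nz_piCoreOf {s} X hm)] at h2
          exact h2
        exact (hsc s hs S hS).trans (cz_anti h1)
      · refine cop_omega hr (ms_p2' hG hr hrX) hFp
          ((hall_le hS).trans (le_nz_piCoreOf _ _)) ?_ ?_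
        · have h1 : IsPGroup s S := (hall_isPi hS).isPGroup hs
          haveI : Fact s.Prime := ⟨hs⟩
          obtain ⟨n, hn⟩ := (IsPGroup.iff_card (p := s)).1 h1
          rw [hn]
          exact Nat.Coprime.pow_left n ((Nat.coprime_primes hs hr).2 hsr)
        · intro x hx hxr a ha
          by_cases hx1 : x = 1
          · rw [hx1]; simp
          haveI : Fact r.Prime := ⟨hr⟩
          have ho : orderOf x = r := orderOf_eq_prime hxr hx1
          have h2 : zpowers x ≤ A := c.line_le hG hE hAE (by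
            rw [zpowers_le]; exact hXE (hFX hx)) (by rw [Nat.card_zpowers, ho])
          have h3 := hXA (hall_le hS ha)
          exact (mem_cz.1 h3 x (h2 (mem_zpowers x))).symm
    · have hF1 : piCoreOf {r} X = ⊥ := by
        by_contra h
        obtain ⟨t, ht, htd⟩ := exists_prime_dvd_of_ne_bot h
        have h1 := isPi_piCoreOf {r} X t ht htd
        rw [Set.mem_singleton_iff] at h1
        exact hrX (h1 ▸ htd.trans (card_dvd_of_le hFX))
      rw [hF1, le_cz_comm]; exact bot_le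
  have hXF : X ≤ 𝓒(fittingOf X) := by
    rw [le_cz_comm]
    refine nilpotent_le_of_pcores (fittingOf_nilpotent X) fun r hr => ?_
    rw [piCoreOf_fittingOf hr, le_cz_comm]
    exact key r hr
  have hXn : Group.IsNilpotent X :=
    nilpotent_sub ((le_inf le_rfl hXF).trans (cz_fittingOf_le hXs)) (fittingOf_nilpotent X)
  exact cyclic_of_nilp_rank1 (ms_odd hG X) hXn fun r hr => hr1 r hr

theorem cz_sigma_nilp {M : Subgroup G} (hM : IsCoatom M) :
    Group.IsNilpotent ↥(M ⊓ 𝓒(sigmaCore M)) := by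
  set C := M ⊓ 𝓒(sigmaCore M) with hCdef
  have hCM : C ≤ M := inf_le_left
  have hCs : Group.IsSolvable C := solvable_sub hCM (max_sol hG hM)
  obtain ⟨X, hX⟩ := hall_exists (π := (sigma M)ᶜ) hCs
  have hXM := (hall_le hX).trans hCM
  have hXt : IsPi (tau2 M) X := by
    intro r hr hd
    obtain ⟨L, hL, hLc⟩ := exists_card_prime hr hd
    have hrσ : r ∉ sigma M := hall_isPi hX r hr hd
    exact (ti_line_sig' hG hM hr hrσ hLc (hL.trans hXM)
      ((hL.trans (hall_le hX)).trans inf_le_right)).1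
  have hXC : sigmaCore M ⊓ 𝓒(X) = sigmaCore M :=
    inf_eq_left.2 (le_cz_comm.1 ((hall_le hX).trans inf_le_right))
  have hXc := tau2_cyc hG hM hXM hXt (by rw [hXC]; exact sigmaCore_ne_bot hG hM)
  have hCn : C ≤ 𝓝(sigmaCore M) := hCM.trans (le_nz_sigmaCore hG M)
  have hSC : IsPiHallOf (sigma M) (sigmaCore M ⊓ C) C :=
    hall_normal_inf (sigma_hall hG hM) (le_nz_sigmaCore hG M) hCM
  have hsup : (sigmaCore M ⊓ C) ⊔ X = C := hall_sup_compl hSC hX
  have hab : C ≤ 𝓒(C) := by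
    have h1 : sigmaCore M ⊓ C ≤ 𝓒(C) := by
      refine inf_le_left.trans ?_
      rw [le_cz_comm]; exact inf_le_right
    have h2 : X ≤ 𝓒(X) := by
      haveI := hXc
      intro x hx
      rw [Subgroup.mem_centralizer_iff]
      intro y hy
      have h2 := (IsCyclic.commGroup (α := X)).mul_comm ⟨y, hy⟩ ⟨x, hx⟩
      exact congrArg Subtype.val h2
    refine hsup.ge.trans (sup_le h1 ?_)
    rw [le_cz_comm]
    refine hsup.ge.trans (sup_le ?_ ?_)
    · exact h1.trans (cz_anti (hall_le hX))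
    · exact h2
  exact nilpotent_of_class2 ((Subgroup.commutator_mono hab le_rfl).trans (by
    rw [comm_eq_bot_iff.2 le_rfl]; exact bot_le))

/-- B & G: `C_M(Q)` is nilpotent -/
theorem NF.cz_nilp {M K K₁ D : Subgroup G} {q : ℕ} (c : NF M K K₁ D q) :
    Group.IsNilpotent ↥(M ⊓ 𝓒(piCoreOf {q} (sigmaCore M))) := by
  set C := M ⊓ 𝓒(piCoreOf {q} (sigmaCore M)) with hCdef
  have hKM := hall_le c.hK
  have hCM : C ≤ M := inf_le_left
  have hMC : M ≤ 𝓝(C) := le_nz_inf le_normalizer ((c.Qn hG).trans (nz_le_nz_cz _))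
  have hKp := c.Kp hG
  -- `p` does not divide `|C|`
  have hpC : IsPi (sigma M) C := by
    intro s hs hd
    by_contra hsσ
    have hsK : s ∣ Nat.card K := hall_dvd' hs hsσ c.hP (hd.trans (card_dvd_of_le hCM))
    have hsK' : s = Nat.card K := (Nat.prime_dvd_prime_iff_eq hs hKp).1 hsK
    obtain ⟨L, hL, hLc⟩ := exists_card_prime hs hd
    have hLσ : IsPi (sigma M)ᶜ L := (isPi_of_card_prime hs hLc).mono
      (Set.singleton_subset_iff.2 hsσ)
    obtain ⟨E, hE, hLE⟩ := hall_exists_ge (max_sol hG c.hM) hLσ (hL.trans hCM)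
    obtain ⟨m, hm, hmE⟩ := hall_conj (max_sol hG c.hM) hE c.hP
    have h1 : L ^ᵍ m = K := by
      refine eq_of_le_of_card_ge (by rw [← hmE]; exact cj_mono hLE m) ?_
      rw [card_cj, hLc, hsK']
    have h2 : K ≤ C := by
      rw [← h1]
      have h3 := cj_mono hL m
      rwa [mem_nz.1 (hMC hm)] at h3
    have h3 : piCoreOf {q} (sigmaCore M) ≤ sigmaCore M ⊓ 𝓒(K) :=
      le_inf (piCoreOf_le _ _) (le_cz_comm.1 (h2.trans inf_le_right))
    have h4 := le_antisymm h3 (c.starQ hG)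
    have h5 : piCoreOf {q} (sigmaCore M) ⊓ 𝓒(D) < piCoreOf {q} (sigmaCore M) :=
      lt_of_le_of_ne inf_le_left (c.Q0ne hG)
    have h6 := c.cardQ hG
    rw [h4, c.star] at h6
    have h7 : 0 < Nat.card ↥(sigmaCore M ⊓ 𝓒(K) ⊓ 𝓒(D)) := Nat.card_pos
    have h8 := c.qp.two_le
    have h9 := hKp.two_le
    have h10 : q ^ 2 ≤ q ^ Nat.card K := Nat.pow_le_pow_right (by omega) h9
    nlinarith
  have hCσ : C ≤ sigmaCore M := le_hall_of_normal (sigma_hall hG c.hM) (le_nz_sigmaCore hG M)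
    hpC hCM
  refine nilp_of_qm (N := piCoreOf {q} (sigmaCore M)) (hCM.trans (c.Qn hG)) ?_
    (nilpotent_sub (qm_mono hCσ) (c.Qhall hG).2)
  refine inf_le_left.trans ?_
  rw [le_cz_comm]; exact inf_le_right

/-- `F(M) = C_M(M_F) M_F` -/
theorem fit_eq {M : Subgroup G} (hM : IsCoatom M) :
    fittingOf M = (M ⊓ 𝓒(fittingHallOf M)) ⊔ fittingHallOf M := by
  have hFn := fittingOf_nilpotent M
  have hMFM := le_nz_fittingHallOf M
  have hH := hall_fittingHallOf M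
  apply le_antisymm
  · rw [← nilpotent_sup_piCoreOf (π := {p | p ∣ Nat.card (fittingHallOf M)}) hFn]
    refine sup_le (le_trans ?_ le_sup_right) (le_trans ?_ le_sup_left)
    · exact le_hall_of_normal hH hMFM (isPi_piCoreOf _ _) ((piCoreOf_le _ _).trans (fittingOf_le M))
    · refine le_inf ((piCoreOf_le _ _).trans (fittingOf_le M)) ?_
      rw [le_cz_comm]
      exact nilpotent_commute hFn (fittingHallOf_le_fittingOf M) (piCoreOf_le _ _)
        (hall_isPi hH) (isPi_piCoreOf _ _)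
  · refine sup_le (le_fittingOf inf_le_left
      (le_nz_inf le_normalizer (hMFM.trans (nz_le_nz_cz _))) ?_) (fittingHallOf_le_fittingOf M)
    by_cases hn : Group.IsNilpotent (sigmaCore M)
    · rw [← sigmaCore_eq_fittingHallOf hG hM hn]
      exact cz_sigma_nilp hG hM
    · obtain ⟨K, hK⟩ := hall_exists (π := kappa M) (max_sol hG hM)
      obtain ⟨U, hKU⟩ := exists_dec hG hM (kap_cyc hG hM hK) hK
      obtain ⟨-, -, K₁, D, q, c⟩ := exists_NF hG hM hKU hn
      exact nilpotent_sub (inf_le_inf le_rfl (cz_anti (c.QMF hG))) (c.cz_nilp hG)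

/-- `F(M) ≤ M'` if `κ(M) ≠ ∅` -/
theorem fit_le_der {M : Subgroup G} (hM : IsCoatom M) (hκ : (kappa M).Nonempty) :
    fittingOf M ≤ ⁅M, M⁆ := by
  obtain ⟨K, hK⟩ := hall_exists (π := kappa M) (max_sol hG hM)
  obtain ⟨U, hKU⟩ := exists_dec hG hM (kap_cyc hG hM hK) hK
  have hK1 : K ≠ ⊥ := by
    rintro rfl
    obtain ⟨s, hs'⟩ := hκ
    have h1 : s ∣ Nat.card (⊥ : Subgroup G) := hall_dvd' hs'.1 hs' hK hs'.2.1
    rw [Subgroup.card_bot] at h1
    exact hs'.1.one_lt.ne' (Nat.dvd_one.1 h1)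
  have hd := dec_der hG hM hKU hK1
  have hs := dec_sup hG hM hKU
  rw [fit_sup hG hM]
  refine sup_le ((fittingOf_le _).trans (sigma_le_der hG hM)) ?_
  have hcop : (Nat.card ↥(piCoreOf (sigma M)ᶜ (fittingOf M))).Coprime (Nat.card K) := by
    refine ((hall_isPi hK).coprime ?_).symm
    intro r hr hrd hrκ
    exact kappa_not_tau2 hG hrκ (fit_tau2 hG hM r hr hrd)
  rw [hd]
  exact le_of_cop_sup (dec_normal hG hM hKU) hs ((piCoreOf_le _ _).trans (fittingOf_le M)) hcop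

/-- `[D, D]` centralises `Q` -/
theorem NF.DcomQ {M K K₁ D : Subgroup G} {q : ℕ} (c : NF M K K₁ D q) :
    ⁅D, D⁆ ≤ 𝓒(piCoreOf {q} (sigmaCore M)) := by
  have hKM := hall_le c.hK
  have hK1 := c.Kprime hG
  have hMQ0 : M ≤ 𝓝(piCoreOf {q} (sigmaCore M) ⊓ 𝓒(D)) := c.Q0M hG
  have hMQ := c.Qn hG
  have hQ0Q : piCoreOf {q} (sigmaCore M) ⊓ 𝓒(D) ≤ piCoreOf {q} (sigmaCore M) := inf_le_left
  have hQσ : piCoreOf {q} (sigmaCore M) ≤ sigmaCore M := piCoreOf_le _ _
  have hQM := hQσ.trans (sigmaCore_le hG c.hM)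
  have hDM := c.DM hG
  have hKQ : K ≤ 𝓝(piCoreOf {q} (sigmaCore M)) := hKM.trans hMQ
  have hcKQ : (Nat.card K).Coprime (Nat.card ↥(piCoreOf {q} (sigmaCore M))) :=
    (c.cop hG).coprime_dvd_right (card_dvd_of_le hQσ)
  have hDs : Group.IsSolvable D := solvable_sub hDM (max_sol hG c.hM)
  have hfixD : D ⊓ 𝓒(K) = ⊥ := by rw [hK1]; exact c.Dfix hG
  have hKp := c.Kp hG
  have hXp := qm_prime hKp (hKM.trans hMQ0) (not_le_of_cop hKp hQ0Q hcKQ)
  have hQn : Group.IsNilpotent ↥(piCoreOf {q} (sigmaCore M)) :=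
    nilpotent_of_isPi c.qp (isPi_piCoreOf _ _)
  have hstarM : sigmaCore M ⊓ 𝓒(K) ≤ 𝓝(piCoreOf {q} (sigmaCore M) ⊓ 𝓒(D)) :=
    (inf_le_left.trans (sigmaCore_le hG c.hM)).trans hMQ0
  have hsc : (Nat.card ↥(sigmaCore M ⊓ 𝓒(K))).Prime := by rw [c.star]; exact c.qp
  have hfix : qm (piCoreOf {q} (sigmaCore M) ⊓ 𝓒(D)) (piCoreOf {q} (sigmaCore M)) ⊓
      𝓒(qm (piCoreOf {q} (sigmaCore M) ⊓ 𝓒(D)) K) ≤
      qm (piCoreOf {q} (sigmaCore M) ⊓ 𝓒(D)) (sigmaCore M ⊓ 𝓒(K)) := by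
    refine (qm_fix hKQ hcKQ (c.Qs hG) hQ0Q (hQM.trans hMQ0) (hKM.trans hMQ0)).trans ?_
    exact qm_mono (inf_le_inf hQσ le_rfl)
  have hcyc : IsCyclic ↥(qm (piCoreOf {q} (sigmaCore M) ⊓ 𝓒(D)) (piCoreOf {q} (sigmaCore M)) ⊓
      𝓒(qm (piCoreOf {q} (sigmaCore M) ⊓ 𝓒(D)) K)) := by
    have h1 : (Nat.card ↥(qm (piCoreOf {q} (sigmaCore M) ⊓ 𝓒(D)) (sigmaCore M ⊓ 𝓒(K)))).Prime := by
      rw [qm_prime hsc hstarM (c.starQ0 hG)]; exact hsc
    haveI : Fact (Nat.card ↥(qm (piCoreOf {q} (sigmaCore M) ⊓ 𝓒(D)) (sigmaCore M ⊓ 𝓒(K)))).Prime :=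
      ⟨h1⟩
    haveI : IsCyclic ↥(qm (piCoreOf {q} (sigmaCore M) ⊓ 𝓒(D)) (sigmaCore M ⊓ 𝓒(K))) :=
      isCyclic_of_prime_card rfl
    exact isCyclic_of_injective (Subgroup.inclusion hfix) (Subgroup.inclusion_injective hfix)
  have h1 := wie_comm_nilp (V := qm (piCoreOf {q} (sigmaCore M) ⊓ 𝓒(D)) (piCoreOf {q} (sigmaCore M)))
    (K := qm (piCoreOf {q} (sigmaCore M) ⊓ 𝓒(D)) D)
    (X := qm (piCoreOf {q} (sigmaCore M) ⊓ 𝓒(D)) K) (nilp_qm (hQM.trans hMQ0) hQn) hcyc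
    (nilp_qm (hDM.trans hMQ0) (c.Dnilp hG)) (qm_solvable hDs)
    (by rw [hXp]; exact hKp) (qm_nz (hDM.trans hMQ)) (qm_nz hKQ) (qm_nz c.KD)
    (Nat.Coprime.of_dvd (qm_card_dvd (hDM.trans hMQ0)) (qm_card_dvd (hQM.trans hMQ0)) (c.copD hG))
    (Nat.Coprime.of_dvd (qm_card_dvd (hKM.trans hMQ0)) (qm_card_dvd (hQM.trans hMQ0)) hcKQ)
    (Nat.Coprime.of_dvd (qm_card_dvd (hKM.trans hMQ0)) (qm_card_dvd (hDM.trans hMQ0))
      ((c.cop hG).coprime_dvd_right (card_dvd_of_le (hall_le c.hD))))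
    (qm_fpf c.KD hDs (solvable_sub hQ0Q (c.Qs hG)) (hDM.trans hMQ0) (hKM.trans hMQ0)
      ((c.cop hG).coprime_dvd_right (card_dvd_of_le (hall_le c.hD)))
      (hcKQ.coprime_dvd_right (card_dvd_of_le hQ0Q)) hfixD
      (cop_inf ((c.copD hG).coprime_dvd_right (card_dvd_of_le hQ0Q))))
    (by
      have h2 := qm_fix (V := piCoreOf {q} (sigmaCore M)) (X := D)
        (N := piCoreOf {q} (sigmaCore M) ⊓ 𝓒(D)) (hDM.trans hMQ) (c.copD hG) (c.Qs hG)
        hQ0Q (hQM.trans hMQ0) (hDM.trans hMQ0)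
      rw [qm_bot_of_le ((hQ0Q.trans hQM).trans hMQ0) le_rfl] at h2
      exact le_bot_iff.1 h2)
  have hDD : ⁅D, D⁆ ≤ D := comm_self_le D
  rw [← qm_comm (hDM.trans hMQ0) (hDM.trans hMQ0), qm_cz_iff ((hDD.trans hDM).trans hMQ0)
    (hQM.trans hMQ0)] at h1
  have hcD : (Nat.card ↥⁅D, D⁆).Coprime (Nat.card ↥(piCoreOf {q} (sigmaCore M))) :=
    Nat.Coprime.coprime_dvd_left (card_dvd_of_le hDD) (c.copD hG)
  have hDQ : ⁅D, D⁆ ≤ 𝓝(piCoreOf {q} (sigmaCore M)) := (hDD.trans hDM).trans hMQ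
  refine cop_le_cz hDQ hcD (c.Qs hG) ?_
  rw [le_cz_comm, Subgroup.commutator_comm (piCoreOf {q} (sigmaCore M))]
  exact (h1.trans inf_le_right).trans (cz_anti hDD)

/-- `M'' ≤ F(M)` -/
theorem der2_le_fit {M : Subgroup G} (hM : IsCoatom M) : ⁅⁅M, M⁆, ⁅M, M⁆⁆ ≤ fittingOf M := by
  by_cases hn : Group.IsNilpotent (sigmaCore M)
  · obtain ⟨E, hE⟩ := hall_exists (π := (sigma M)ᶜ) (max_sol hG hM)
    have hEM := hall_le hE
    have h2 := compl_sup hG hM hE
    have hEn : E ≤ 𝓝(sigmaCore M) := hEM.trans (le_nz_sigmaCore hG M)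
    have hEE : ⁅E, E⁆ ≤ E := comm_self_le E
    have hN : sigmaCore M ⊔ E ≤ 𝓝(sigmaCore M ⊔ ⁅E, E⁆) := by
      refine sup_le (le_sup_left.trans le_normalizer)
        (le_nz_sup hEn (le_nz_comm le_normalizer le_normalizer))
    have h1 : ⁅M, M⁆ ≤ sigmaCore M ⊔ ⁅E, E⁆ := by
      calc ⁅M, M⁆ = ⁅sigmaCore M ⊔ E, sigmaCore M ⊔ E⁆ := by rw [h2]
        _ ≤ sigmaCore M ⊔ ⁅E, E⁆ := by
          refine comm_sup_right_le hN (le_sup_left.trans hN) (le_sup_right.trans hN) ?_ ?_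
          · exact (comm_le_right (sup_le le_normalizer hEn)).trans le_sup_left
          · exact comm_sup_le_left hEn hEn
    have hab : ⁅E, E⁆ ≤ 𝓒(⁅E, E⁆) := nilp_ab hG hM (hEE.trans hEM)
      (hall_der_nilp hG hM hEM (hall_isPi hE)) ((hall_isPi hE).le hEE)
    have hEn' := hEE.trans hEn
    have h3 : ⁅⁅M, M⁆, ⁅M, M⁆⁆ ≤ sigmaCore M := by
      refine (Subgroup.commutator_mono h1 h1).trans ?_
      refine comm_sup_right_le (sup_le le_normalizer hEn') le_normalizer hEn' ?_ ?_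
      · exact comm_le_right (sup_le le_normalizer hEn')
      · refine (comm_sup_le_left hEn' hEn').trans (sup_le le_rfl ?_)
        rw [comm_eq_bot_iff.2 hab]; exact bot_le
    exact h3.trans (le_fittingOf (sigmaCore_le hG hM) (le_nz_sigmaCore hG M) hn)
  · obtain ⟨K, hK⟩ := hall_exists (π := kappa M) (max_sol hG hM)
    obtain ⟨U, hKU⟩ := exists_dec hG hM (kap_cyc hG hM hK) hK
    obtain ⟨-, -, K₁, D, q, c⟩ := exists_NF hG hM hKU hn
    rw [c.der hG]
    set Q := piCoreOf {q} (sigmaCore M) with hQ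
    have hDM := c.DM hG
    have hMQ : M ≤ 𝓝(Q) := c.Qn hG
    have hDQ := hDM.trans hMQ
    have hsup : Q ⊔ D = sigmaCore M := c.QDsup hG
    have hQM : Q ≤ M := (piCoreOf_le _ _).trans (sigmaCore_le hG hM)
    have hDD : ⁅D, D⁆ ≤ D := comm_self_le D
    have hDc := c.DcomQ hG
    have hQn : Group.IsNilpotent Q := nilpotent_of_isPi c.qp (isPi_piCoreOf _ _)
    -- the subgroup `Q D'`
    have hN1 : Q ⊔ D ≤ 𝓝(Q ⊔ ⁅D, D⁆) :=
      sup_le (le_sup_left.trans le_normalizer)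
        (le_nz_sup hDQ (le_nz_comm le_normalizer le_normalizer))
    have h1 : ⁅sigmaCore M, sigmaCore M⁆ ≤ Q ⊔ ⁅D, D⁆ := by
      calc ⁅sigmaCore M, sigmaCore M⁆ = ⁅Q ⊔ D, Q ⊔ D⁆ := by rw [hsup]
        _ ≤ _ := by
          refine comm_sup_right_le hN1 (le_sup_left.trans hN1) (le_sup_right.trans hN1) ?_ ?_
          · exact (comm_le_right (sup_le le_normalizer hDQ)).trans le_sup_left
          · exact comm_sup_le_left hDQ hDQ
    have hKM := hall_le c.hK
    have hMN : M ≤ 𝓝(Q ⊔ ⁅D, D⁆) := by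
      rw [← compl_sup hG hM c.hP, ← hsup]
      exact sup_le hN1 (le_nz_sup (hKM.trans hMQ) (le_nz_comm c.KD c.KD))
    refine h1.trans (le_fittingOf (sup_le hQM (hDD.trans hDM)) hMN ?_)
    exact nilp_sup_comm (le_cz_comm.1 hDc) hQn (nilpotent_sub hDD (c.Dnilp hG))

end

end CfsgLib.BGPi
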