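import Cfsg.Agent.EqBase
import Cfsg.Agent.LibBG15k

/-! Statement S1438. -/

open Subgroup
open scoped Pointwise commutatorElement

namespace CfsgLib.BGPi

open Cfsg

universe u

section
variable {G : Type u} [Group G] [Finite G]

theorem nilp_hall_core {π : Set ℕ} {H N : Subgroup G} (hN : Group.IsNilpotent N)
    (hH : IsPiHallOf π H N) : piCoreOf π N = H := by
  have hs : Group.IsSolvable N := by haveI := hN; infer_instance
  obtain ⟨m, hm, h⟩ := hall_conj hs (nilpotent_hall hN) hH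
  rw [← h, mem_nz.1 (le_nz_piCoreOf π N hm)]

theorem core_le_hall' {π : Set ℕ} {N H Q : Subgroup G} (hs : Group.IsSolvable N)
    (hH : IsPiHallOf π H N) (hQN : Q ≤ N) (hNQ : N ≤ 𝓝(Q)) (hQ : IsPi π Q) : Q ≤ H := by
  obtain ⟨H', hH', hQH⟩ := hall_exists_ge hs hQ hQN
  obtain ⟨m, hm, h⟩ := hall_conj hs hH' hH
  have h1 := cj_mono hQH m
  rwa [h, mem_nz.1 (hNQ hm)] at h1

theorem hall_mid {π : Set ℕ} {H L N : Subgroup G} (h : IsPiHallOf π H N) (hHL : H ≤ L)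
    (hLN : L ≤ N) : IsPiHallOf π H L := by
  refine ⟨hHL, h.2.1, fun p hp hpπ hd => h.2.2 p hp hpπ (hd.trans ?_)⟩
  rw [← Subgroup.relIndex_mul_relIndex H L N hHL hLN]
  exact dvd_mul_right _ _

theorem frat_sup {π : Set ℕ} {Q H N M : Subgroup G} (hs : Group.IsSolvable M) (hNM : N ≤ M)
    (hH : IsPiHallOf π H N) (hQN : Q ≤ N) (hQH : M ≤ 𝓝(Q ⊔ H)) : Q ⊔ (M ⊓ 𝓝(H)) = M := by
  have hHM := (hall_le hH).trans hNM
  have h1 : IsPiHallOf π H (Q ⊔ H) := hall_mid hH le_sup_right (sup_le hQN (hall_le hH))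
  have hQHM : Q ⊔ H ≤ M := sup_le (hQN.trans hNM) hHM
  have h2 := frattini_hall (solvable_sub hQHM hs) hQHM hQH h1
  have h3 : H ≤ M ⊓ 𝓝(H) := le_inf hHM le_normalizer
  rwa [sup_assoc, sup_eq_right.2 h3] at h2

theorem fus_frat {M N₀ H : Subgroup G} (hMN : M ≤ 𝓝(N₀)) (hi : N₀ ⊓ H = ⊥)
    (hs : N₀ ⊔ (M ⊓ 𝓝(H)) = M) {x m : G} (hx : x ∈ H) (hm : m ∈ M) (hmx : m * x * m⁻¹ ∈ H)
    (hHM : H ≤ M) : ∃ n ∈ M ⊓ 𝓝(H), n * x * n⁻¹ = m * x * m⁻¹ := by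
  have hN0M : N₀ ≤ M := hs ▸ le_sup_left
  rw [← hs, sup_comm] at hm
  obtain ⟨n, hn, u, hu, rfl⟩ := (mem_sup_of_nz (inf_le_left.trans hMN)).1 hm
  refine ⟨n, hn, ?_⟩
  have hy : u * x * u⁻¹ ∈ H := by
    have h1 := (Subgroup.mem_normalizer_iff.1 (inv_mem hn.2) _).1 hmx
    have h2 : n⁻¹ * (n * u * x * (n * u)⁻¹) * n⁻¹⁻¹ = u * x * u⁻¹ := by group
    rwa [h2] at h1
  have h3 : u * x * u⁻¹ * x⁻¹ ∈ N₀ ⊓ H := by
    refine ⟨?_, H.mul_mem hy (H.inv_mem hx)⟩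
    have h4 := (Subgroup.mem_normalizer_iff.1 (hMN (hHM hx)) u⁻¹).1 (N₀.inv_mem hu)
    have h5 : u * x * u⁻¹ * x⁻¹ = u * (x * u⁻¹ * x⁻¹) := by group
    rw [h5]
    exact N₀.mul_mem hu h4
  rw [hi, Subgroup.mem_bot] at h3
  have h6 : u * x * u⁻¹ = x := mul_inv_eq_one.1 h3
  have h7 : n * u * x * (n * u)⁻¹ = n * (u * x * u⁻¹) * n⁻¹ := by group
  rw [h7, h6]

variable (hG : IsMinSimpleOddOrder G)
include hG

theorem NF.QH {M K K₁ D H : Subgroup G} {q : ℕ} (c : NF M K K₁ D q) {π : Set ℕ}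
    (hH : IsPiHallOf π H (sigmaCore M)) : M ≤ 𝓝(piCoreOf {q} (sigmaCore M) ⊔ H) := by
  have hMQ := c.Qn hG
  have hHM := (hall_le hH).trans (sigmaCore_le hG c.hM)
  have hQM : piCoreOf {q} (sigmaCore M) ≤ M := (piCoreOf_le _ _).trans (sigmaCore_le hG c.hM)
  have h1 := qm_hall hH ((sigmaCore_le hG c.hM).trans hMQ)
  have h2 := nilp_hall_core (c.Qhall hG).2 h1
  have h3 : qm (piCoreOf {q} (sigmaCore M)) M ≤ 𝓝(qm (piCoreOf {q} (sigmaCore M)) H) := by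
    rw [← h2]
    exact (qm_nz (le_nz_sigmaCore hG M)).trans (nz_le_nz_piCoreOf _ _)
  have h4 : ⁅qm (piCoreOf {q} (sigmaCore M)) H, qm (piCoreOf {q} (sigmaCore M)) M⁆ ≤
      qm (piCoreOf {q} (sigmaCore M)) H := comm_le_left h3
  rw [← qm_comm (hHM.trans hMQ) hMQ, qm_le_iff
    (((Subgroup.commutator_mono hHM le_rfl).trans (comm_self_le M)).trans hMQ)
    (hHM.trans hMQ)] at h4
  refine le_nz_of_comm_le ((comm_sup_le_left (hHM.trans hMQ) hMQ).trans (sup_le le_sup_left ?_))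
  exact h4.trans (sup_le le_sup_right le_sup_left)

theorem hall_frat {M H : Subgroup G} (hM : IsCoatom M) {π : Set ℕ}
    (hH : IsPiHallOf π H (sigmaCore M)) (hπ : ∀ p ∈ π, p.Prime → p ∣ Nat.card H) :
    ∃ N₀ : Subgroup G, M ≤ 𝓝(N₀) ∧ N₀ ⊓ H = ⊥ ∧ N₀ ⊔ (M ⊓ 𝓝(H)) = M := by
  have hHM := (hall_le hH).trans (sigmaCore_le hG hM)
  have key : M ≤ 𝓝(H) → ∃ N₀ : Subgroup G, M ≤ 𝓝(N₀) ∧ N₀ ⊓ H = ⊥ ∧ N₀ ⊔ (M ⊓ 𝓝(H)) = M := by
    intro h
    have h0 : M ≤ 𝓝((⊥ : Subgroup G)) :=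
      le_nz_of_comm_le (by rw [Subgroup.commutator_bot_left])
    have h1 : (⊥ : Subgroup G) ⊔ (M ⊓ 𝓝(H)) = M := by
      rw [bot_sup_eq]; exact inf_eq_left.2 h
    exact ⟨⊥, h0, bot_inf_eq _, h1⟩
  by_cases hn : Group.IsNilpotent (sigmaCore M)
  · apply key
    rw [← nilp_hall_core hn hH]
    exact (le_nz_sigmaCore hG M).trans (nz_le_nz_piCoreOf _ _)
  · obtain ⟨K, hK⟩ := hall_exists (π := kappa M) (max_sol hG hM)
    obtain ⟨U, hKU⟩ := exists_dec hG hM (kap_cyc hG hM hK) hK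
    obtain ⟨-, -, K₁, D, q, c⟩ := exists_NF hG hM hKU hn
    have hQH := c.QH hG hH
    by_cases hq : q ∈ π
    · have hπ' : IsPi π (piCoreOf {q} (sigmaCore M)) :=
        (isPi_piCoreOf {q} (sigmaCore M)).mono (Set.singleton_subset_iff.2 hq)
      have hs := sigmaCore_sol hG hM
      have h2 := piCoreOf_le {q} (sigmaCore M)
      have h3 := le_nz_piCoreOf {q} (sigmaCore M)
      have h1 : piCoreOf {q} (sigmaCore M) ≤ H := core_le_hall' hs hH h2 h3 hπ'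
      have h4 := sup_eq_right.2 h1
      rw [h4] at hQH
      exact key hQH
    · refine ⟨piCoreOf {q} (sigmaCore M), c.Qn hG, ?_, ?_⟩
      · refine cop_inf ((isPi_piCoreOf {q} (sigmaCore M)).coprime ((hall_isPi hH).mono ?_))
        intro s hs hs'
        rw [Set.mem_singleton_iff] at hs'
        exact hq (hs' ▸ hs)
      · exact frat_sup (max_sol hG hM) (sigmaCore_le hG hM) hH (piCoreOf_le {q} (sigmaCore M)) hQH

theorem s1438a {M H : Subgroup G} (hM : IsCoatom M) (hH : H ≤ sigmaCore M) (hH1 : H ≠ ⊥)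
    (hHall : (Nat.card H).Coprime (H.relIndex (sigmaCore M))) :
    ∃ X : Subgroup G, IsCyclic X ∧ (∀ p : ℕ, p.Prime → p ∣ Nat.card X → p ∈ tau2 M) ∧
      M ⊓ 𝓒(H) = (sigmaCore M ⊓ 𝓒(H)) ⊔ X := by
  have hHh := hall_of_coprime hH hHall
  have hCM : M ⊓ 𝓒(H) ≤ M := inf_le_left
  obtain ⟨X, hX⟩ := hall_exists (π := (sigma M)ᶜ) (solvable_sub hCM (max_sol hG hM))
  have hXM := (hall_le hX).trans hCM
  have hXH : X ≤ 𝓒(H) := (hall_le hX).trans inf_le_right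
  have hHX : H ≤ sigmaCore M ⊓ 𝓒(X) := le_inf hH (le_cz_comm.1 hXH)
  have hXt : IsPi (tau2 M) X := by
    intro r hr hd
    obtain ⟨L, hL, hLc⟩ := exists_card_prime hr hd
    have hrσ : r ∉ sigma M := hall_isPi hX r hr hd
    have hHL : H ≤ sigmaCore M ⊓ 𝓒(L) := hHX.trans (inf_le_inf le_rfl (cz_anti hL))
    rcases prime_kt hG hM hr (hL.trans hXM) hLc hrσ
      (fun h => hH1 (le_bot_iff.1 (h ▸ hHL))) with hκ | h2
    · exfalso
      have hLκ : IsPi (kappa M) L := (isPi_of_card_prime hr hLc).mono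
        (Set.singleton_subset_iff.2 hκ)
      obtain ⟨K, hK, hLK⟩ := hall_exists_ge (max_sol hG hM) hLκ (hL.trans hXM)
      have hL1 := ne_bot_of_card_prime hr hLc
      have hK1 : K ≠ ⊥ := fun h => hL1 (le_bot_iff.1 (h ▸ hLK))
      rw [kap_cz hG hM hK hLK hL1] at hHL
      obtain ⟨p, hp, hpd⟩ := exists_prime_dvd_of_ne_bot hH1
      obtain ⟨S, hS⟩ := exists_syl hp H
      have hS' : IsPiHallOf {p} S (sigmaCore M) :=
        hall_trans hS hHh (Set.singleton_subset_iff.2 hpd)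
      exact ((bg14_2' hG hM hK hK1).2.2.1 p hp (hpd.trans (card_dvd_of_le hHL)) S hS').2.2
        ((hall_le hS).trans hHL)
    · exact h2
  have hcyc := tau2_cyc hG hM hXM hXt (fun h => hH1 (le_bot_iff.1 (h ▸ hHX)))
  refine ⟨X, hcyc, hXt, ?_⟩
  have hSC : IsPiHallOf (sigma M) (sigmaCore M ⊓ (M ⊓ 𝓒(H))) (M ⊓ 𝓒(H)) :=
    hall_normal_inf (sigma_hall hG hM) (le_nz_sigmaCore hG M) hCM
  have h1 := hall_sup_compl hSC hX
  rw [← inf_assoc, inf_eq_left.2 (sigmaCore_le hG hM)] at h1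
  exact h1.symm

theorem s1438b {M H : Subgroup G} (hM : IsCoatom M) (hH : H ≤ sigmaCore M)
    (hHall : (Nat.card H).Coprime (H.relIndex (sigmaCore M))) {x g : G} (hx : x ∈ H)
    (hgx : g * x * g⁻¹ ∈ H) : ∃ n ∈ M ⊓ 𝓝(H), n * x * n⁻¹ = g * x * g⁻¹ := by
  have hHM := hH.trans (sigmaCore_le hG hM)
  by_cases hx1 : x = 1
  · subst hx1
    exact ⟨1, one_mem _, by simp⟩
  have hHh := hall_of_coprime hH hHall
  obtain ⟨r, hr, hrM⟩ := bg14_4_trans hG hM (hH hx) hx1 (g := g⁻¹)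
    (mem_cj.2 (by rw [inv_inv]; exact hHM hgx))
  have hm : g * r ∈ M := by
    rw [← max_nz_self hG hM, mem_nz, cj_mul, hrM, cj_cj_inv]
  have hrx : r * x * r⁻¹ = x := by
    rw [Subgroup.mem_centralizer_singleton_iff] at hr
    exact mul_inv_eq_iff_eq_mul.2 hr
  have hmx : g * r * x * (g * r)⁻¹ = g * x * g⁻¹ := by
    calc g * r * x * (g * r)⁻¹ = g * (r * x * r⁻¹) * g⁻¹ := by group
      _ = _ := by rw [hrx]
  obtain ⟨N₀, h1, h2, h3⟩ := hall_frat hG hM hHh (fun p hp _ => hp)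
  obtain ⟨n, hn, hn'⟩ := fus_frat h1 h2 h3 hx hm (by rw [hmx]; exact hgx) hHM
  exact ⟨n, hn, hn'.trans hmx⟩

end

end CfsgLib.BGPi
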