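import Cfsg.Agent.EqBase
import Cfsg.Agent.LibBG15l

/-! Statement S1384. -/

open Subgroup
open scoped Pointwise commutatorElement

namespace CfsgLib.BGPi

open Cfsg

universe u

section
variable {G : Type u} [Group G] [Finite G]
variable (hG : IsMinSimpleOddOrder G)
include hG

/-- a prime outside `σ(M)` whose Sylow subgroups centralise a Sylow subgroup of `M_σ` -/
theorem no_cz_syl {M P R : Subgroup G} (hM : IsCoatom M) {p r : ℕ} (hp : p.Prime) (hr : r.Prime)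
    (hP : IsPiHallOf {p} P (sigmaCore M)) (hP1 : P ≠ ⊥) (hR : IsPiHallOf {r} R M)
    (hrM : r ∣ Nat.card M) (hrσ : r ∉ sigma M) (hRP : R ≤ 𝓒(P)) : False := by
  have hrR : r ∣ Nat.card R := hall_dvd' (π := {r}) hr rfl hR hrM
  have hpP : p ∣ Nat.card P := by
    obtain ⟨t, ht, htd⟩ := exists_prime_dvd_of_ne_bot hP1
    have h1 := hall_isPi hP t ht htd
    rw [Set.mem_singleton_iff] at h1
    rwa [← h1]
  obtain ⟨X, hX, hXc⟩ := exists_card_prime hr hrR
  have hRM := hall_le hR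
  have hPX : P ≤ sigmaCore M ⊓ 𝓒(X) :=
    le_inf (hall_le hP) (le_cz_comm.1 (hX.trans hRP))
  have hpσ : p ∈ sigma M := hall_isPi (sigma_hall hG hM) p hp
    (hpP.trans (card_dvd_of_le (hall_le hP)))
  rcases prime_kt hG hM hr (hX.trans hRM) hXc hrσ (fun h => hP1 (le_bot_iff.1 (h ▸ hPX)))
    with hκ | h2
  · have hLκ : IsPi (kappa M) X := (isPi_of_card_prime hr hXc).mono
      (Set.singleton_subset_iff.2 hκ)
    obtain ⟨K, hK, hLK⟩ := hall_exists_ge (max_sol hG hM) hLκ (hX.trans hRM)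
    have hL1 := ne_bot_of_card_prime hr hXc
    have hK1 : K ≠ ⊥ := fun h => hL1 (le_bot_iff.1 (h ▸ hLK))
    rw [kap_cz hG hM hK hLK hL1] at hPX
    exact ((bg14_2' hG hM hK hK1).2.2.1 p hp (hpP.trans (card_dvd_of_le hPX)) P hP).2.2 hPX
  · have h3 : ¬ PRankLE r 1 R := fun h => h2.2.2.2 ((rank_syl hr hR).2 h)
    obtain ⟨A, hAR, hAe, hAc⟩ := (not_rank_iff hr).1 h3
    obtain ⟨A₀, c⟩ := exists_exc hG hM hr hrσ (hAR.trans hRM) hAe hAc
    exact c.nd hG hpσ (hpP.trans (card_dvd_of_le (le_cz_comm.1 (hAR.trans hRP))))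

theorem s1384 {H : Subgroup G} (hHn : Group.IsNilpotent H)
    (hHall : (Nat.card H).Coprime H.index) {x g : G} (hx : x ∈ H) (hgx : g * x * g⁻¹ ∈ H) :
    ∃ n ∈ 𝓝(H), n * x * n⁻¹ = g * x * g⁻¹ := by
  by_cases hH1 : H = ⊥
  · subst hH1
    rw [Subgroup.mem_bot] at hx
    subst hx
    exact ⟨1, one_mem _, by simp⟩
  obtain ⟨p, hp, hpd⟩ := exists_prime_dvd_of_ne_bot hH1
  have hHt : IsPiHallOf {t | t ∣ Nat.card H} H ⊤ :=
    hall_of_coprime le_top (by rwa [Subgroup.relIndex_top_right])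
  have hsyl : ∀ r : ℕ, r.Prime → r ∣ Nat.card H → IsPiHallOf {r} (piCoreOf {r} H) ⊤ :=
    fun r hr hd => hall_trans (nilpotent_hall hHn) hHt (Set.singleton_subset_iff.2 hd)
  have hP := hsyl p hp hpd
  have hP1 : piCoreOf {p} H ≠ ⊥ := nilpotent_pcore_ne_bot hHn hp hpd
  have hPt : piCoreOf {p} H ≠ ⊤ := ms_p_ne_top hG hp ((isPi_piCoreOf {p} H).isPGroup hp)
  obtain ⟨M, hM, hPM⟩ := exists_max hG (ms_nz_ne_top hG hP1 hPt)
  · have hHM : H ≤ M := (le_nz_piCoreOf _ _).trans hPM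
    have hPM' : IsPiHallOf {p} (piCoreOf {p} H) M :=
      hall_mid hP ((piCoreOf_le _ _).trans hHM) le_top
    have hpM : p ∣ Nat.card M := hpd.trans (card_dvd_of_le hHM)
    have hpσ : p ∈ sigma M := (mem_sigma_iff).2 ⟨hp, hpM, _, hPM', hPM⟩
    have hPσ : IsPiHallOf {p} (piCoreOf {p} H) (sigmaCore M) := by
      refine hall_mid hP ?_ le_top
      exact le_hall_of_normal (sigma_hall hG hM) (le_nz_sigmaCore hG M)
        ((isPi_piCoreOf _ _).mono (Set.singleton_subset_iff.2 hpσ)) (hall_le hPM')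
    have hHσ : IsPi (sigma M) H := by
      intro r hr hd
      by_contra hrσ
      have hR := hsyl r hr hd
      have hRM : IsPiHallOf {r} (piCoreOf {r} H) M :=
        hall_mid hR ((piCoreOf_le _ _).trans hHM) le_top
      refine no_cz_syl hG hM hp hr hPσ hP1 hRM (hd.trans (card_dvd_of_le hHM)) hrσ ?_
      refine nilpotent_commute hHn (piCoreOf_le _ _) (piCoreOf_le _ _) (isPi_piCoreOf {r} H)
        ((isPi_piCoreOf {p} H).mono ?_)
      intro t ht ht'
      rw [Set.mem_singleton_iff] at ht ht'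
      exact hrσ (ht' ▸ ht ▸ hpσ)
    have hHs : H ≤ sigmaCore M :=
      le_hall_of_normal (sigma_hall hG hM) (le_nz_sigmaCore hG M) hHσ hHM
    have hc : (Nat.card H).Coprime (H.relIndex (sigmaCore M)) :=
      hHall.coprime_dvd_right (Subgroup.relIndex_dvd_index_of_le hHs)
    obtain ⟨n, hn, hn'⟩ := s1438b hG hM hHs hc hx hgx
    exact ⟨n, hn.2, hn'⟩

end

end CfsgLib.BGPi
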