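import Cfsg.Statements.S1363
import Cfsg.Agent.LibBG14u

set_option autoImplicit false
open Cfsg

namespace Cfsg.Agent.S1363
open CfsgLib.BGPi

/-- Let G be a minimal simple group of odd order and M a maximal subgroup with standard factorisation M = K U M_σ and K ≠ 1. Then U is abelian and the normalizer of U in G is not contained in M. -/
theorem result {G : Type*} [Group G] [Finite G] (hG : Cfsg.IsMinSimpleOddOrder G)
    (M : Subgroup G) (hM : IsCoatom M) (K U : Subgroup G) (hKU : Cfsg.IsSigmaDecomposition M K U) (hK1 : K ≠ ⊥) :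
    IsMulCommutative U ∧ ¬ Subgroup.normalizer (U : Set G) ≤ M := by
  refine ⟨comm_iff_le_cz.2 (dec_U_ab hG hM hKU hK1), ?_⟩
  by_cases hU1 : U = ⊥
  · subst hU1
    intro h
    apply hM.1
    rw [eq_top_iff]
    refine le_trans ?_ h
    rw [le_nz]
    rintro k - x hx
    rw [Subgroup.mem_bot] at hx ⊢
    rw [hx]; group
  · obtain ⟨L, d, -⟩ := exists_dual hG hM hKU.hall hK1
    obtain ⟨r, hr, hrU⟩ := exists_prime_dvd_of_ne_bot hU1
    obtain ⟨R, hR⟩ := exists_syl hr U
    have hRp := (hall_isPi hR).isPGroup hr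
    obtain ⟨H, hH, hNR⟩ := exists_max hG (ms_nz_ne_top hG (hall_ne_bot hr hR hrU)
      (ms_p_ne_top hG hr hRp))
    obtain ⟨-, -, -, h4, -⟩ := bg14_12 hG hKU hU1 d hr hrU hR hH hNR
    exact fun h => h4 (inf_le_right.trans h)


end Cfsg.Agent.S1363
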