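import Cfsg.Statements.S1364
import Cfsg.Agent.LibBG15e

set_option autoImplicit false
open Cfsg

namespace Cfsg.Agent.S1364
open CfsgLib.BGPi

/-- Let G be a minimal simple group of odd order, M a maximal subgroup with standard factorisation M = K U M_σ and K ≠ 1, and put K* = M_σ ∩ C_G(K). Then K* is cyclic, nontrivial and contained in M_F, while M_F itself is not cyclic. -/
theorem result {G : Type*} [Group G] [Finite G] (hG : Cfsg.IsMinSimpleOddOrder G)
    (M : Subgroup G) (hM : IsCoatom M) (K U : Subgroup G) (hKU : Cfsg.IsSigmaDecomposition M K U) (hK1 : K ≠ ⊥) :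
    IsCyclic ↥(Cfsg.sigmaCore M ⊓ Subgroup.centralizer (K : Set G)) ∧ (Cfsg.sigmaCore M ⊓ Subgroup.centralizer (K : Set G)) ≠ ⊥ ∧ (Cfsg.sigmaCore M ⊓ Subgroup.centralizer (K : Set G)) ≤ Cfsg.fittingHallOf M ∧ ¬ IsCyclic (Cfsg.fittingHallOf M) := by
  obtain ⟨L, d, -⟩ := exists_dual hG hM hKU.hall hK1
  have hcyc := d.cycs hG
  have hK := hKU.hall
  obtain ⟨p, hp, hpd⟩ := exists_prime_dvd_of_ne_bot (d.star1 hG)
  have key : ∀ {r : ℕ} {S F : Subgroup G}, r ∈ Cfsg.beta M → IsPiHallOf {r} S M → S ≤ F →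
      ¬ IsCyclic F := by
    intro r S F hr hS hSF hc
    have hr1 : r.Prime := (beta_sub_alpha hG hr).1
    have h1 := (beta_sub_alpha hG hr).2
    rw [rank_syl hr1 hS] at h1
    exact h1 (rank_mono hSF (CfsgLib.BGPi.rank_le hr1 (by norm_num) (rank1_of_cyclic hr1 hc)))
  refine ⟨hcyc, d.star1 hG, ?_, ?_⟩
  · by_cases hn : Group.IsNilpotent (Cfsg.sigmaCore M)
    · rw [← sigmaCore_eq_fittingHallOf hG hM hn]; exact inf_le_left
    · obtain ⟨-, -, K₁, D, q, c⟩ := exists_NF hG hM hKU hn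
      exact c.starMF hG
  · intro hc
    by_cases hn : Group.IsNilpotent (Cfsg.sigmaCore M)
    · rw [← sigmaCore_eq_fittingHallOf hG hM hn] at hc
      by_cases hU : U = ⊥
      · have hP : IsPiHallOf (Cfsg.sigma M)ᶜ K M := by
          have h1 := (dec_facts hG hM hKU).1
          rwa [hU, bot_sup_eq] at h1
        have h1 := cz_le_der_of_comm ((hall_le hK).trans (le_nz_sigmaCore hG M))
          ((hall_isPi (sigma_hall hG hM)).coprime (kap_sig hG hK)) (bg12_17 hG hM hP).2
        have h2 : ⁅Cfsg.sigmaCore M, Cfsg.sigmaCore M⁆ = ⊥ := by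
          rw [comm_eq_bot_iff]
          haveI := hc
          intro x hx
          rw [Subgroup.mem_centralizer_iff]
          intro y hy
          have h2 := (IsCyclic.commGroup (α := Cfsg.sigmaCore M)).mul_comm ⟨y, hy⟩ ⟨x, hx⟩
          exact congrArg Subtype.val h2
        rw [h2] at h1
        exact d.star1 hG (le_bot_iff.1 h1)
      · have h1 := (p2_facts hG hM hKU hK1 hU).2.2.2
        have hpσ : p ∈ Cfsg.sigma M :=
          hall_isPi (sigma_hall hG hM) p hp (hpd.trans (Subgroup.card_dvd_of_le inf_le_left))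
        obtain ⟨S, hS⟩ := exists_syl hp (Cfsg.sigmaCore M)
        exact key (h1 hpσ) (hall_trans hS (sigma_hall hG hM) (Set.singleton_subset_iff.2 hpσ))
          (hall_le hS) hc
    · obtain ⟨-, -, K₁, D, q, c⟩ := exists_NF hG hM hKU hn
      exact key (c.qβ hG) (hall_trans (c.Qhall hG).1 (sigma_hall hG hM)
        (Set.singleton_subset_iff.2 (alpha_sub_sigma hG hM (beta_sub_alpha hG (c.qβ hG)))))
        (c.QMF hG) hc


end Cfsg.Agent.S1364
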