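import Cfsg.Agent.EqBase
import Cfsg.Agent.LibBG15m
import Cfsg.Agent.S1363
import Cfsg.Agent.S1364
import Cfsg.Agent.S1372

/-! B & G section 16: the data of type P. -/

open Subgroup
open scoped Pointwise commutatorElement

namespace CfsgLib.BGPi

open Cfsg

universe u

section
variable {G : Type u} [Group G] [Finite G]

theorem complIn_of_hall {π : Set ℕ} {H V M : Subgroup G} (hH : IsPiHallOf π H M)
    (hn : M ≤ 𝓝(H)) (hV : IsPiHallOf πᶜ V M) : IsComplIn H V M := by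
  refine compl_of (hall_le hH) (hall_le hV) (cop_inf ((hall_isPi hH).coprime (hall_isPi hV)))
    (Or.inr ((hall_le hV).trans hn)) ?_
  rw [hall_sup_compl hH hV]

variable (hG : IsMinSimpleOddOrder G)
include hG

theorem Z_comm' {M K : Subgroup G} {x y : G} (hM : IsCoatom M) (hK : IsPiHallOf (kappa M) K M)
    (hK1 : K ≠ ⊥) (hx : x ∈ K ⊔ (sigmaCore M ⊓ 𝓒(K))) (hy : y ∈ K ⊔ (sigmaCore M ⊓ 𝓒(K))) :
    x * y = y * x := by
  haveI : IsCyclic ↥(K ⊔ (sigmaCore M ⊓ 𝓒(K))) := Z_cyc hG hM hK hK1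
  have h2 := (IsCyclic.commGroup (α := ↥(K ⊔ (sigmaCore M ⊓ 𝓒(K))))).mul_comm ⟨x, hx⟩ ⟨y, hy⟩
  exact congrArg Subtype.val h2

theorem selfnorm {M K : Subgroup G} (hM : IsCoatom M) (hK : IsPiHallOf (kappa M) K M)
    (hK1 : K ≠ ⊥) : IsSelfNormalizingCyclic K (sigmaCore M ⊓ 𝓒(K)) := by
  have hstar := kap_star_ne hG hM hK hK1
  have hcop : (Nat.card K).Coprime (Nat.card (sigmaCore M)) :=
    ((hall_isPi (sigma_hall hG hM)).coprime (kap_sig hG hK)).symm
  refine ⟨hK1, hstar, ?_, ?_, Z_cyc hG hM hK hK1, ?_⟩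
  · rw [eq_bot_iff, ← cop_inf hcop]
    exact inf_le_inf le_rfl inf_le_left
  · intro a ha b hb
    exact mem_cz.1 hb.2 a ha
  · intro X hX hXne
    obtain ⟨x, hx⟩ := hXne
    apply le_antisymm
    · intro g hg
      have h1 : g * x * g⁻¹ ∈ X := (Subgroup.mem_set_normalizer_iff.1 hg x).1 hx
      exact hat_fusion' hG hM hK hK1 (hX hx) (hX h1)
    · intro z hz
      have key : ∀ w ∈ K ⊔ (sigmaCore M ⊓ 𝓒(K)), ∀ y ∈ X, w * y * w⁻¹ = y := by
        intro w hw y hy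
        have h1 : w * y = y * w := Z_comm' hG hM hK hK1 hw (hX hy).1
        rw [h1]; group
      rw [Subgroup.mem_set_normalizer_iff]
      intro y
      constructor
      · intro hy
        rwa [key z hz y hy]
      · intro hy
        have h1 := key z⁻¹ (inv_mem hz) _ hy
        have h2 : z⁻¹ * (z * y * z⁻¹) * z⁻¹⁻¹ = y := by group
        rw [h2] at h1
        rw [h1]; exact hy

/-- the subgroup `M'` is a complement to `K` -/
theorem compl_der {M K U : Subgroup G} (hM : IsCoatom M) (hKU : IsSigmaDecomposition M K U)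
    (hK1 : K ≠ ⊥) : IsComplIn ⁅M, M⁆ K M := by
  have hd := dec_der hG hM hKU hK1
  have hs := dec_sup hG hM hKU
  have hKM := hall_le hKU.hall
  have hn := dec_normal hG hM hKU
  rw [← hd] at hs hn
  refine compl_of (comm_self_le M) hKM ?_ (Or.inr (hKM.trans hn)) hs.ge
  rw [eq_bot_iff]
  rintro x ⟨hx, hxK⟩
  change x ∈ ⁅M, M⁆ at hx
  rw [hd] at hx
  obtain ⟨u, hu, s, hs', rfl⟩ := (mem_sup_of_nz ((hKU.compl.1).trans (le_nz_sigmaCore hG M))).1 hx
  have h1 : u ∈ U ⊓ (K ⊔ sigmaCore M) := by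
    refine ⟨hu, ?_⟩
    have h2 : u = (u * s) * s⁻¹ := by group
    rw [h2]
    exact mul_mem (Subgroup.mem_sup_left hxK) (Subgroup.mem_sup_right (inv_mem hs'))
  rw [hKU.compl.2.2.1, Subgroup.mem_bot] at h1
  subst h1
  rw [one_mul] at hxK ⊢
  have h2 : s ∈ sigmaCore M ⊓ K := ⟨hs', hxK⟩
  rwa [cop_inf ((hall_isPi (sigma_hall hG hM)).coprime (kap_sig hG hKU.hall))] at h2

theorem typeP_of {M K U V : Subgroup G} (hM : IsCoatom M) (hKU : IsSigmaDecomposition M K U)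
    (hK1 : K ≠ ⊥) (hV : Group.IsNilpotent V) (hKV : K ≤ 𝓝(V))
    (hc : IsComplIn (fittingHallOf M) V ⁅M, M⁆) :
    IsTypePWith M K V (sigmaCore M ⊓ 𝓒(K)) := by
  have hK := hKU.hall
  have hKc := kap_cyc hG hM hK
  obtain ⟨-, h2, h3, h4⟩ := Cfsg.Agent.S1364.result hG M hM K U hKU hK1
  have hκ : (kappa M).Nonempty := by
    obtain ⟨p, hp, hpd⟩ := exists_prime_dvd_of_ne_bot hK1
    exact ⟨p, hall_isPi hK p hp hpd⟩
  have hfe := fit_eq hG hM
  rw [sup_comm] at hfe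
  have hder := star_le_der2 hG hM hKU hK1
  have hstarder : sigmaCore M ⊓ 𝓒(K) ≤ ⁅M, M⁆ := hder.trans (comm_self_le _)
  refine
    { W₁_ne := hK1
      W₁_cyclic := hKc
      W₁_hall := hall_coprime hK
      W₁_compl := compl_der hG hM hKU hK1
      U_nilpotent := hV
      U_normal := hKV
      U_compl := hc
      H_not_cyclic := h4
      derived_two_le := ?_
      fitting_eq := hfe.symm
      fitting_le := fit_le_der hG hM hκ
      W₂_le := le_inf h3 hder
      W₂_centralizer := ?_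
      selfNormalizing := selfnorm hG hM hK hK1 }
  · rw [← hfe]; exact der2_le_fit hG hM
  · intro x hx hx1
    have h5 := kap_cz_elt hG hM hK hKc hx hx1
    have h6 : ⁅M, M⁆ ⊓ Subgroup.centralizer ({x} : Set G) =
        ⁅M, M⁆ ⊓ (K ⊔ (sigmaCore M ⊓ 𝓒(K))) := by
      rw [← h5, ← inf_assoc, inf_eq_left.2 (comm_self_le M)]
    rw [h6]
    apply le_antisymm
    · rintro y ⟨hy, hy'⟩
      have hKn : K ≤ 𝓝(sigmaCore M ⊓ 𝓒(K)) := Z_comm hG
      obtain ⟨k, hk, s, hs, rfl⟩ := (mem_sup_of_nz hKn).1 hy'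
      have h7 : k ∈ ⁅M, M⁆ ⊓ K := by
        refine ⟨?_, hk⟩
        have h8 : k = (k * s) * s⁻¹ := by group
        change k ∈ ⁅M, M⁆
        rw [h8]
        exact (⁅M, M⁆).mul_mem hy ((⁅M, M⁆).inv_mem (hstarder hs))
      rw [(compl_der hG hM hKU hK1).2.2.1, Subgroup.mem_bot] at h7
      subst h7
      rwa [one_mul]
    · exact le_inf hstarder le_sup_right

/-- existence of the data -/
theorem exists_compl_nn {M K U : Subgroup G} (hM : IsCoatom M) (hKU : IsSigmaDecomposition M K U)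
    (hn : ¬ Group.IsNilpotent (sigmaCore M)) :
    ∃ V : Subgroup G, Group.IsNilpotent V ∧ K ≤ 𝓝(V) ∧ IsComplIn (fittingHallOf M) V ⁅M, M⁆ ∧ V ≠ ⊥ ∧
      IsPiHallOf {p | p ∣ Nat.card (fittingHallOf M)}ᶜ V (sigmaCore M) := by
  obtain ⟨hU, hK1, K₁, D, q, c⟩ := exists_NF hG hM hKU hn
  have hMF := fittingHallOf_le_sigmaCore hG hM
  have hH := hall_mid (hall_fittingHallOf M) hMF (sigmaCore_le hG hM)
  have hqd : q ∣ Nat.card (fittingHallOf M) := by
    rw [← c.star]; exact card_dvd_of_le (c.starMF hG)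
  have hV : IsPiHallOf {p | p ∣ Nat.card (fittingHallOf M)}ᶜ
      (piCoreOf {p | p ∣ Nat.card (fittingHallOf M)}ᶜ D) (sigmaCore M) := by
    refine hall_trans (nilpotent_hall (c.Dnilp hG)) c.hD ?_
    intro t ht ht'
    rw [Set.mem_singleton_iff] at ht'
    subst ht'
    exact ht hqd
  refine ⟨_, nilpotent_sub (piCoreOf_le _ _) (c.Dnilp hG), c.KD.trans (nz_le_nz_piCoreOf _ _),
    ?_, ?_, hV⟩
  · rw [c.der hG]
    exact complIn_of_hall hH ((sigmaCore_le hG hM).trans (le_nz_fittingHallOf M)) hV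
  · intro h
    apply hn
    have h1 := hall_sup_compl hH hV
    rw [h, sup_bot_eq] at h1
    rw [← h1]
    exact fittingHallOf_nilpotent M

end

end CfsgLib.BGPi
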