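import Cfsg.Agent.EqBase
import Cfsg.Agent.LibBG16a

/-! B & G section 16: types, part 1. -/

open Subgroup
open scoped Pointwise commutatorElement

namespace CfsgLib.BGPi

open Cfsg

universe u

section
variable {G : Type u} [Group G] [Finite G]
variable (hG : IsMinSimpleOddOrder G)
include hG

/-- Hall subgroups of `M_σ` -/
theorem hall_sigma_nz {M T P : Subgroup G} (hM : IsCoatom M) {π : Set ℕ}
    (hT : IsPiHallOf π T (sigmaCore M)) {p : ℕ} (hp : p.Prime) (hP : IsPiHallOf {p} P T)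
    (hP1 : P ≠ ⊥) : 𝓝(P) ≤ M := by
  obtain ⟨t, ht, htd⟩ := exists_prime_dvd_of_ne_bot hP1
  have h1 := hall_isPi hP t ht htd
  rw [Set.mem_singleton_iff] at h1
  subst h1
  have hpT := htd.trans (card_dvd_of_le (hall_le hP))
  have hpσ : t ∈ sigma M := hall_isPi (sigma_hall hG hM) t ht
    (hpT.trans (card_dvd_of_le (hall_le hT)))
  have h2 : IsPiHallOf {t} P (sigmaCore M) :=
    hall_trans hP hT (Set.singleton_subset_iff.2 (hall_isPi hT t ht hpT))
  exact sigma_nz hpσ (hall_trans h2 (sigma_hall hG hM) (Set.singleton_subset_iff.2 hpσ))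

theorem nilp_hall_nz {M T : Subgroup G} (hM : IsCoatom M) {π : Set ℕ}
    (hT : IsPiHallOf π T (sigmaCore M)) (hn : Group.IsNilpotent T) (hT1 : T ≠ ⊥) :
    𝓝(T) ≤ M := by
  obtain ⟨r, hr, hrd⟩ := exists_prime_dvd_of_ne_bot hT1
  exact (nz_le_nz_piCoreOf {r} T).trans (hall_sigma_nz hG hM hT hr (nilpotent_hall hn)
    (nilpotent_pcore_ne_bot hn hr hrd))

/-- `W₁` is a Hall `κ(M)`-subgroup -/
theorem typeP_hall {M W₁ V W₂ : Subgroup G} (hM : IsCoatom M) (h : IsTypePWith M W₁ V W₂) :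
    IsPiHallOf (kappa M) W₁ M := by
  have hWM : W₁ ≤ M := h.W₁_compl.2.1
  have hrel : W₁.relIndex M = Nat.card ↥⁅M, M⁆ := IsComplIn_relIndex' h.W₁_compl
  have hcop := h.W₁_hall
  have hWh := hall_of_coprime hWM hcop
  rw [hrel] at hcop
  have hW2 : W₂ ≤ sigmaCore M :=
    (h.W₂_le.trans inf_le_left).trans (fittingHallOf_le_sigmaCore hG hM)
  have hκ : IsPi (kappa M) W₁ := by
    intro p hp hpd
    rw [kappa_iff hG]
    have hpσ : p ∉ sigma M := by
      intro hpσ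
      have h1 : p ∣ Nat.card (sigmaCore M) :=
        hall_dvd' hp hpσ (sigma_hall hG hM) (hpd.trans (card_dvd_of_le hWM))
      have h2 := h1.trans (card_dvd_of_le (sigma_le_der hG hM))
      exact Nat.Prime.not_coprime_iff_dvd.2 ⟨p, hp, hpd, h2⟩ hcop
    obtain ⟨X, hX, hXc⟩ := exists_card_prime hp hpd
    obtain ⟨S, hS⟩ := exists_syl hp W₁
    have hSM : IsPiHallOf {p} S M := hall_trans hS hWh (Set.singleton_subset_iff.2 hpd)
    have hcS : IsCyclic S := by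
      haveI := h.W₁_cyclic
      exact isCyclic_of_injective (Subgroup.inclusion (hall_le hS))
        (Subgroup.inclusion_injective _)
    refine ⟨hp, hpσ, (rank_syl hp hSM).2 (rank1_of_cyclic hp hcS), X, hX.trans hWM, hXc, ?_⟩
    obtain ⟨⟨x, hx⟩, hx1'⟩ := (Subgroup.ne_bot_iff_exists_ne_one (H := X)).1
      (ne_bot_of_card_prime hp hXc)
    have hx1 : x ≠ 1 := fun h => hx1' (Subtype.ext h)
    have h1 := h.W₂_centralizer x (hX hx) hx1
    have h2 : W₂ ≤ sigmaCore M ⊓ 𝓒(X) := by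
      refine le_inf hW2 ?_
      rw [← h1, ← zpowers_eq_of_prime hp hXc hx hx1, ← cz1_eq]
      exact inf_le_right
    intro h3
    rw [h3] at h2
    exact h.selfNormalizing.2.1 (le_bot_iff.1 h2)
  refine ⟨hWM, hκ, fun p hp hpκ hd => ?_⟩
  rw [hrel] at hd
  obtain ⟨K, hK⟩ := hall_exists (π := kappa M) (max_sol hG hM)
  obtain ⟨U, hKU⟩ := exists_dec hG hM (kap_cyc hG hM hK) hK
  have hK1 : K ≠ ⊥ := by
    rintro rfl
    have h1 : p ∣ Nat.card (⊥ : Subgroup G) :=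
      hall_dvd' hp hpκ hK (hd.trans (card_dvd_of_le (comm_self_le M)))
    rw [Subgroup.card_bot] at h1
    exact hp.one_lt.ne' (Nat.dvd_one.1 h1)
  have h1 := IsComplIn_relIndex' (compl_der hG hM hKU hK1)
  exact hK.2.2 p hp hpκ (by rw [h1]; exact hd)

theorem typeP_U {M K U W₁ V W₂ : Subgroup G} (hM : IsCoatom M)
    (hKU : IsSigmaDecomposition M K U) (h : IsTypePWith M W₁ V W₂) :
    K ≠ ⊥ ∧ (Group.IsNilpotent (sigmaCore M) → ∃ m ∈ M, U ^ᵍ m = V) := by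
  have hW := typeP_hall hG hM h
  have hc : Nat.card K = Nat.card W₁ := by
    obtain ⟨m, -, hm⟩ := hall_conj (max_sol hG hM) hKU.hall hW
    rw [← hm, card_cj]
  have hK1 : K ≠ ⊥ := by
    rintro rfl
    rw [Subgroup.card_bot] at hc
    exact h.W₁_ne (card_eq_one.1 hc.symm)
  refine ⟨hK1, fun hn => ?_⟩
  have hd := dec_der hG hM hKU hK1
  have hdM : ⁅M, M⁆ ≤ M := comm_self_le M
  have hσd := sigma_le_der hG hM
  have hσ : IsPiHallOf (sigma M) (sigmaCore M) ⁅M, M⁆ :=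
    hall_mid (sigma_hall hG hM) hσd hdM
  have hUd : U ≤ ⁅M, M⁆ := by rw [hd]; exact le_sup_left
  have hUh : IsPiHallOf (sigma M)ᶜ U ⁅M, M⁆ := by
    have hUE := (dec_facts hG hM hKU).1
    refine ⟨hUd, fun p hp hpd => hall_isPi hUE p hp (hpd.trans (card_dvd_of_le le_sup_left)),
      fun p hp hpσ hpd => ?_⟩
    have h1 : U ⊓ sigmaCore M = ⊥ := by
      rw [eq_bot_iff, ← hKU.compl.2.2.1]
      exact inf_le_inf le_rfl le_sup_right
    have h2 : IsComplIn (sigmaCore M) U ⁅M, M⁆ := by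
      refine compl_of hσd hUd (by rw [inf_comm]; exact h1)
        (Or.inr ((hUd.trans hdM).trans (le_nz_sigmaCore hG M))) ?_
      rw [hd, sup_comm]
    rw [IsComplIn_relIndex' h2] at hpd
    exact hpσ (hall_isPi (sigma_hall hG hM) p hp hpd)
  have hVh : IsPiHallOf (sigma M)ᶜ V ⁅M, M⁆ := by
    have h2 := h.U_compl
    rw [← sigmaCore_eq_fittingHallOf hG hM hn] at h2
    refine ⟨h2.2.1, fun p hp hpd hpσ => ?_, fun p hp hpσ hpd => ?_⟩
    · have h3 := IsComplIn_relIndex h2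
      exact hσ.2.2 p hp hpσ (by rw [h3]; exact hpd)
    · rw [IsComplIn_relIndex' h2] at hpd
      exact hpσ (hall_isPi (sigma_hall hG hM) p hp hpd)
  obtain ⟨m, hm, hmV⟩ := hall_conj (solvable_sub hdM (max_sol hG hM)) hUh hVh
  exact ⟨m, hdM hm, hmV⟩

theorem nz_conj_le {M U V : Subgroup G} {m : G} (hm : m ∈ M) (h : U ^ᵍ m = V)
    (hV : 𝓝(V) ≤ M) : 𝓝(U) ≤ M := by
  rw [← h, nz_cj] at hV
  have h1 := cj_le_iff.1 hV
  rwa [mem_nz.1 (le_normalizer (inv_mem hm))] at h1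

theorem dec_U_bot {M K U : Subgroup G} (hM : IsCoatom M) (hKU : IsSigmaDecomposition M K U)
    (hK1 : K ≠ ⊥) : U = ⊥ ↔ ⁅M, M⁆ = sigmaCore M := by
  have hd := dec_der hG hM hKU hK1
  constructor
  · intro h; rw [hd, h, bot_sup_eq]
  · intro h
    rw [hd] at h
    have h1 : U ≤ sigmaCore M := h ▸ le_sup_left
    rw [eq_bot_iff, ← hKU.compl.2.2.1]
    exact le_inf le_rfl (h1.trans le_sup_right)

theorem type34_fwd {M K U : Subgroup G} (hM : IsCoatom M) (hKU : IsSigmaDecomposition M K U)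
    (h : IsOfTypeIII M ∨ IsOfTypeIV M) : K ≠ ⊥ ∧ U = ⊥ ∧ fittingHallOf M ≠ sigmaCore M := by
  have h1 : ∃ W₁ V W₂ : Subgroup G, IsTypePWith M W₁ V W₂ ∧ 𝓝(V) ≤ M := by
    rcases h with ⟨W₁, V, W₂, h, -, -, -, -, h2⟩ | ⟨W₁, V, W₂, h, -, -, -, -, h2⟩
    · exact ⟨W₁, V, W₂, h, h2⟩
    · exact ⟨W₁, V, W₂, h, h2⟩
  obtain ⟨W₁, V, W₂, hP, hV⟩ := h1
  obtain ⟨hK1, h2⟩ := typeP_U hG hM hKU hP
  have hn : ¬ Group.IsNilpotent (sigmaCore M) := by
    intro hn
    obtain ⟨m, hm, hmV⟩ := h2 hn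
    exact (Cfsg.Agent.S1363.result hG M hM K U hKU hK1).2 (nz_conj_le hG hm hmV hV)
  refine ⟨hK1, (exists_NF hG hM hKU hn).1, fun h3 => hn ?_⟩
  rw [← h3]
  exact fittingHallOf_nilpotent M

theorem type34_bwd {M K U : Subgroup G} (hM : IsCoatom M) (hKU : IsSigmaDecomposition M K U)
    (hne : fittingHallOf M ≠ sigmaCore M) : IsOfTypeIII M ∨ IsOfTypeIV M := by
  have hn : ¬ Group.IsNilpotent (sigmaCore M) :=
    fun h => hne (sigmaCore_eq_fittingHallOf hG hM h).symm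
  obtain ⟨hU, hK1, K₁, D, q, c⟩ := exists_NF hG hM hKU hn
  obtain ⟨V, hVn, hKV, hVc, hV1, hVh⟩ := exists_compl_nn hG hM hKU hn
  have hP := typeP_of hG hM hKU hK1 hVn hKV hVc
  have hVM := nilp_hall_nz hG hM hVh hVn hV1
  by_cases hab : IsMulCommutative V
  · exact Or.inl ⟨K, V, _, hP, hV1, c.Kp hG, c.fit_ti hG, hab, hVM⟩
  · exact Or.inr ⟨K, V, _, hP, hV1, c.Kp hG, c.fit_ti hG, hab, hVM⟩

/-- `M_s` -/
theorem typeCore_hall {M : Subgroup G} (hM : IsCoatom M) :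
    ∃ π : Set ℕ, IsPiHallOf π (typeCore M) (sigmaCore M) := by
  obtain ⟨K, hK⟩ := hall_exists (π := kappa M) (max_sol hG hM)
  obtain ⟨U, hKU⟩ := exists_dec hG hM (kap_cyc hG hM hK) hK
  rw [typeCore]
  split_ifs with h
  · obtain ⟨hK1, hU, -⟩ := type34_fwd hG hM hKU h
    rw [(dec_U_bot hG hM hKU hK1).1 hU]
    exact ⟨Set.univ, le_rfl, fun p _ _ => trivial, fun p hp _ hd => by
      rw [Subgroup.relIndex_self] at hd
      exact hp.one_lt.ne' (Nat.dvd_one.1 hd)⟩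
  · exact ⟨_, hall_mid (hall_fittingHallOf M) (fittingHallOf_le_sigmaCore hG hM)
      (sigmaCore_le hG hM)⟩

theorem hall_sigma_cop {M T : Subgroup G} (hM : IsCoatom M) {π : Set ℕ}
    (hT : IsPiHallOf π T (sigmaCore M)) : (Nat.card T).Coprime T.index := by
  have h1 := hall_coprime hT
  have h2 := hall_coprime (sigma_hall_top hG hM)
  rw [Subgroup.relIndex_top_right] at h2
  rw [← Subgroup.relIndex_mul_index (hall_le hT)]
  exact Nat.Coprime.mul_right h1 (Nat.Coprime.coprime_dvd_left (card_dvd_of_le (hall_le hT)) h2)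

end

end CfsgLib.BGPi
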