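import Cfsg.Agent.EqBase
import Cfsg.Agent.LibBG16b

/-! B & G section 12: abelian Sylow subgroups for τ₂, actions on them. -/

open Subgroup
open scoped Pointwise commutatorElement

namespace CfsgLib.BGPi

open Cfsg

universe u v w

theorem npc_cz {G : Type u} [Group G] [Finite G] {p : ℕ} (hp : p.Prime) {X P : Subgroup G}
    (h : HasNormalPComplement p ↥X)
    (hPX : P ≤ X) (hP : IsPGroup p P) {a : G} (ha : a ∈ X) (hac : (orderOf a).Coprime p)
    (haP : a ∈ 𝓝(P)) : a ∈ 𝓒(P) := by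
  haveI : Fact p.Prime := ⟨hp⟩
  obtain ⟨P₀, N, hN, hc⟩ := h
  have hidx : N.index = Nat.card P₀ := hc.symm.index_eq_card
  have hcN : (Nat.card N).Coprime p := by
    have h1 : (P₀ : Subgroup X).index = Nat.card N := hc.index_eq_card
    rw [← h1]
    exact ((Nat.Prime.coprime_iff_not_dvd hp).2 P₀.not_dvd_index).symm
  obtain ⟨n, hn⟩ := (IsPGroup.iff_card).1 P₀.isPGroup'
  have haN : (⟨a, ha⟩ : X) ∈ N := by
    have h1 := N.pow_index_mem (⟨a, ha⟩ : X)
    have h2 : (N.index).Coprime (orderOf (⟨a, ha⟩ : X)) := by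
      rw [hidx, hn, Subgroup.orderOf_mk]
      exact (Nat.Coprime.pow_right n hac).symm
    obtain ⟨m, hm⟩ := exists_pow_eq_self_of_coprime h2
    rw [← hm]
    exact N.pow_mem h1 m
  rw [mem_cz]
  intro s hs
  have h1 : (⟨a, ha⟩ : X) * ⟨s, hPX hs⟩ * (⟨a, ha⟩ : X)⁻¹ * (⟨s, hPX hs⟩ : X)⁻¹ ∈ N := by
    rw [mul_assoc, mul_assoc]
    refine N.mul_mem haN ?_
    rw [← mul_assoc]
    exact hN.conj_mem _ (N.inv_mem haN) _
  have h2 : a * s * a⁻¹ * s⁻¹ ∈ P := by
    refine P.mul_mem ?_ (P.inv_mem hs)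
    exact le_nz.1 le_rfl a haP s hs
  obtain ⟨k, hk⟩ := hP ⟨_, h2⟩
  have h3 : orderOf (a * s * a⁻¹ * s⁻¹) ∣ p ^ k := by
    rw [orderOf_dvd_iff_pow_eq_one]
    exact congrArg Subtype.val hk
  have h4 : orderOf (a * s * a⁻¹ * s⁻¹) ∣ Nat.card N := by
    have h5 : orderOf (⟨_, h1⟩ : N) ∣ Nat.card N := orderOf_dvd_natCard _
    rw [Subgroup.orderOf_mk] at h5
    rw [← Subgroup.orderOf_coe] at h5
    exact h5
  have h5 : orderOf (a * s * a⁻¹ * s⁻¹) = 1 :=
    Nat.eq_one_of_dvd_coprimes (Nat.Coprime.pow_right k hcN) h4 h3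
  rw [orderOf_eq_one_iff] at h5
  have h6 : a * s * a⁻¹ = s := mul_inv_eq_one.1 h5
  exact (mul_inv_eq_iff_eq_mul.1 h6).symm

theorem end_geom {V : Type*} [AddCommGroup V] [Finite V] (f g : AddMonoid.End V)
    (hfg : Commute f g) {r : ℕ} (hr : r.Prime) (hf : f ^ r = 1) (hg : g ^ r = 1)
    (hcop : (Nat.card V).Coprime r) (h1 : ∀ v, g v = v → v = 0)
    (h2 : ∀ i < r, ∀ v, (f * g ^ i) v = v → v = 0) (v : V) : v = 0 := by
  have key : ∀ x : AddMonoid.End V, x ^ r = 1 → (∀ v, x v = v → v = 0) →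
      ∑ j ∈ Finset.range r, x ^ j = 0 := by
    intro x hx hfix
    ext v
    apply hfix
    have h3 : x * ∑ j ∈ Finset.range r, x ^ j = ∑ j ∈ Finset.range r, x ^ j := by
      have h4 := mul_geom_sum x r
      rw [hx, sub_self, sub_mul, one_mul, sub_eq_zero] at h4
      exact h4
    exact DFunLike.congr_fun h3 v
  have h3 : ∀ i < r, ∑ j ∈ Finset.range r, (f * g ^ i) ^ j = 0 := by
    intro i hi
    refine key _ ?_ (h2 i hi)
    rw [(hfg.pow_right i).mul_pow, hf, one_mul, ← pow_mul, mul_comm i r, pow_mul, hg, one_pow]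
  have h4 : ∀ j < r, j ≠ 0 → ∑ i ∈ Finset.range r, (g ^ j) ^ i = 0 := by
    intro j hj hj0
    refine key _ ?_ ?_
    · rw [← pow_mul, mul_comm j r, pow_mul, hg, one_pow]
    · intro v hv
      apply h1
      have hc : Nat.Coprime j r := (Nat.coprime_of_lt_prime hj0 hj hr).symm
      -- (g ^ j) v = v and (g ^ r) v = v imply g v = v
      have h5 : ∀ m : ℕ, (g ^ (j * m)) v = v := by
        intro m
        induction m with
        | zero => simp
        | succ m ih =>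
          rw [Nat.mul_succ, pow_add]
          show (g ^ (j * m)) ((g ^ j) v) = v
          rw [hv, ih]
      obtain ⟨m, hm⟩ := Nat.exists_mul_mod_eq_one_of_coprime hc hr.one_lt
      have h6 : g ^ (j * m) = g := by
        have h7 := Nat.div_add_mod (j * m) r
        rw [← h7, hm.2, pow_add, pow_mul, hg, one_pow, one_mul, pow_one]
      have h7 := h5 m
      rwa [h6] at h7
  have h5 : ∑ i ∈ Finset.range r, ∑ j ∈ Finset.range r, (f * g ^ i) ^ j = 0 :=
    Finset.sum_eq_zero fun i hi => h3 i (Finset.mem_range.1 hi)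
  rw [Finset.sum_comm] at h5
  have h6 : ∀ j ∈ Finset.range r, ∑ i ∈ Finset.range r, (f * g ^ i) ^ j
      = if j = 0 then (r : AddMonoid.End V) else 0 := by
    intro j hj
    split_ifs with h0
    · subst h0
      simp
    · have h7 : ∀ i ∈ Finset.range r, (f * g ^ i) ^ j = f ^ j * (g ^ j) ^ i := by
        intro i _
        rw [(hfg.pow_right i).mul_pow, ← pow_mul, ← pow_mul, mul_comm i j]
      rw [Finset.sum_congr rfl h7, ← Finset.mul_sum, h4 j (Finset.mem_range.1 hj) h0, mul_zero]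
  rw [Finset.sum_congr rfl h6, Finset.sum_ite_eq' (Finset.range r) 0,
    if_pos (Finset.mem_range.2 hr.pos)] at h5
  have h7 : r • v = 0 := by
    have h8 := DFunLike.congr_fun h5 v
    have h9 : (r : AddMonoid.End V) v = r • v := AddMonoid.End.natCast_apply r v
    rw [h9] at h8
    exact h8
  have h8 : addOrderOf v ∣ r := addOrderOf_dvd_of_nsmul_eq_zero h7
  have h9 : addOrderOf v ∣ Nat.card V := addOrderOf_dvd_natCard v
  exact AddMonoid.addOrderOf_eq_one_iff.1 (Nat.eq_one_of_dvd_coprimes hcop h9 h8)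

section
variable {G : Type u} [Group G] [Finite G]

/-- two commuting elements of order `r` on an abelian `r'`-group -/
theorem two_act {A : Subgroup G} (hA : A ≤ 𝓒(A)) {r : ℕ} (hr : r.Prime)
    (hcop : (Nat.card A).Coprime r) {x y : G} (hx : x ∈ 𝓝(A)) (hy : y ∈ 𝓝(A))
    (hxy : Commute x y) (hxr : x ^ r ∈ 𝓒(A)) (hyr : y ^ r ∈ 𝓒(A))
    (h1 : A ⊓ Subgroup.centralizer ({y} : Set G) = ⊥)
    (h2 : ∀ i < r, A ⊓ Subgroup.centralizer ({x * y ^ i} : Set G) = ⊥) : A = ⊥ := by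
  letI : CommGroup A := { (inferInstance : Group A) with
    mul_comm := fun a b => Subtype.ext (mem_cz.1 (hA b.2) a a.2) }
  let φ : 𝓝(A) →* MulAut A := Subgroup.normalizerMonoidHom A
  let θ : 𝓝(A) →* AddMonoid.End (Additive A) :=
    { toFun := fun n => MonoidHom.toAdditive (φ n).toMonoidHom
      map_one' := by rw [map_one]; rfl
      map_mul' := fun a b => by rw [map_mul]; rfl }
  have hθ : ∀ (n : 𝓝(A)) (v : Additive A),
      ((Additive.toMul (θ n v) : A) : G) = n * (Additive.toMul v : A) * (n : G)⁻¹ :=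
    fun n v => rfl
  have hcz : ∀ n : 𝓝(A), (n : G) ∈ 𝓒(A) → θ n = 1 := by
    intro n hn
    ext v
    show (n : G) * (Additive.toMul v : A) * (n : G)⁻¹ = (Additive.toMul v : A)
    rw [← mem_cz.1 hn _ (Additive.toMul v : A).2]; group
  have hfix : ∀ (n : 𝓝(A)), A ⊓ Subgroup.centralizer ({(n : G)} : Set G) = ⊥ →
      ∀ v : Additive A, θ n v = v → v = 0 := by
    intro n hn v hv
    have h3 : ((Additive.toMul v : A) : G) ∈ A ⊓ Subgroup.centralizer ({(n : G)} : Set G) := by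
      refine ⟨(Additive.toMul v : A).2, Subgroup.mem_centralizer_singleton_iff.2 ?_⟩
      have h4 : (n : G) * (Additive.toMul v : A) * (n : G)⁻¹ = (Additive.toMul v : A) :=
        congrArg (fun w : Additive A => ((Additive.toMul w : A) : G)) hv
      exact (mul_inv_eq_iff_eq_mul.1 h4).symm
    rw [hn] at h3
    have h4 : (Additive.toMul v : A) = 1 := Subtype.ext (Subgroup.mem_bot.1 h3)
    exact h4
  rw [eq_bot_iff]
  intro a ha
  have h := end_geom (θ ⟨x, hx⟩) (θ ⟨y, hy⟩) ?_ hr ?_ ?_ ?_ ?_ ?_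
    (Additive.ofMul (⟨a, ha⟩ : A))
  · have h3 : (⟨a, ha⟩ : A) = 1 := h
    exact Subgroup.mem_bot.2 (congrArg Subtype.val h3)
  · show θ ⟨x, hx⟩ * θ ⟨y, hy⟩ = θ ⟨y, hy⟩ * θ ⟨x, hx⟩
    rw [← map_mul, ← map_mul]
    congr 1
    exact Subtype.ext hxy
  · rw [← map_pow]
    exact hcz _ hxr
  · rw [← map_pow]
    exact hcz _ hyr
  · exact hcop
  · exact hfix _ h1
  · intro i hi
    rw [← map_pow, ← map_mul]
    exact hfix _ (h2 i hi)

end

end CfsgLib.BGPi
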