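import Cfsg.Agent.EqBase
import Cfsg.Agent.LibBG17a

/-! B & G section 12: abelian Sylow subgroups for τ₂. -/

open Subgroup
open scoped Pointwise commutatorElement

namespace CfsgLib.BGPi

open Cfsg

universe u v w

section
variable {G : Type u} [Group G] [Finite G]

structure AbS (p : ℕ) (M A₀ A E S : Subgroup G) : Prop where
  c : Exc p M A₀ A
  hE : IsPiHallOf (sigma M)ᶜ E M
  AE : A ≤ E
  hS : IsPiHallOf {p} S ⊤
  AS : A ≤ S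
  ab : S ≤ 𝓒(S)

theorem AbS.czM {p : ℕ} {M A₀ A E S : Subgroup G} (d : AbS p M A₀ A E S) : 𝓒(S) ≤ M :=
  (cz_anti d.AS).trans d.c.cz

theorem comm_sup_cz {S D : Subgroup G} (hD : D ≤ 𝓝(S)) : ⁅S, D ⊔ 𝓒(S)⁆ = ⁅S, D⁆ := by
  apply le_antisymm
  · rw [commutator_le]
    intro s hs d' hd'
    rw [mem_sup_of_nz (hD.trans (nz_le_nz_cz S))] at hd'
    obtain ⟨d, hd, c, hc, rfl⟩ := hd'
    have h1 : c * s⁻¹ = s⁻¹ * c := (mem_cz.1 hc _ (S.inv_mem hs)).symm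
    have h2 : ⁅s, d * c⁆ = ⁅s, d⁆ := by
      rw [commutatorElement_def, commutatorElement_def]
      calc s * (d * c) * s⁻¹ * (d * c)⁻¹ = s * d * (c * s⁻¹) * c⁻¹ * d⁻¹ := by group
        _ = s * d * (s⁻¹ * c) * c⁻¹ * d⁻¹ := by rw [h1]
        _ = s * d * s⁻¹ * d⁻¹ := by group
    rw [h2]
    exact commutator_mem_commutator hs hd
  · exact commutator_mono le_rfl le_sup_left

variable (hG : IsMinSimpleOddOrder G)
include hG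

theorem AbS.SE {p : ℕ} {M A₀ A E S : Subgroup G} (d : AbS p M A₀ A E S) : S ≤ E :=
  d.c.syl_le hG d.hE d.AE d.AS d.ab

theorem AbS.ES {p : ℕ} {M A₀ A E S : Subgroup G} (d : AbS p M A₀ A E S) : E ≤ 𝓝(S) :=
  d.c.syl_nz hG d.hE d.AE d.hS d.AS d.ab

theorem AbS.czE {p : ℕ} {M A₀ A E S : Subgroup G} (d : AbS p M A₀ A E S) : 𝓒(S) ≤ E := by
  rw [← d.c.infN hG d.hE d.AE]
  exact le_inf d.czM ((cz_anti d.AS).trans (cz_le_nz A))

theorem AbS.nzA {p : ℕ} {M A₀ A E S : Subgroup G} (d : AbS p M A₀ A E S) : 𝓝(S) ≤ 𝓝(A) :=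
  (d.c.e2 hG).nz d.AS d.ab

theorem AbS.nzNS {p : ℕ} {M A₀ A E S : Subgroup G} (d : AbS p M A₀ A E S) : ¬ 𝓝(S) ≤ M := by
  intro h
  obtain ⟨g, hg, hgM⟩ := d.c.exists_g hG
    (hall_le_of_le d.hS ((d.SE hG).trans (hall_le d.hE)) le_top) d.AS
  exact hgM (h hg)

theorem AbS.S1 {p : ℕ} {M A₀ A E S : Subgroup G} (d : AbS p M A₀ A E S) : S ≠ ⊥ := by
  rintro rfl
  exact (d.c.e2 hG).ne_bot d.c.hp (le_bot_iff.1 d.AS)

theorem AbS.Sp {p : ℕ} {M A₀ A E S : Subgroup G} (d : AbS p M A₀ A E S) : IsPGroup p S :=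
  (hall_isPi d.hS).isPGroup d.c.hp

theorem AbS.notβ {p : ℕ} {M A₀ A E S L : Subgroup G} (d : AbS p M A₀ A E S) : p ∉ beta L :=
  fun h => maxE2_not_ideal hG d.c.hp (d.c.e2 hG) h.2

/-- `p`-complements in maximal subgroups containing `S` -/
theorem AbS.npc {p : ℕ} {M A₀ A E S L : Subgroup G} (d : AbS p M A₀ A E S) (hL : IsCoatom L)
    (hSL : S ≤ L) :
    HasNormalPComplement p ↥⁅L, L⁆ ∧ HasNormalPComplement p ↥(sigmaCore L) := by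
  have h1 : p ∣ Nat.card L :=
    (pgroup_dvd_card d.c.hp (d.Sp hG) (d.S1 hG)).trans (card_dvd_of_le hSL)
  have h2 := not_beta_facts hG hL d.c.hp h1 (d.notβ hG)
  exact ⟨h2.1, h2.2.1⟩

/-- 12.8 (c) -/
theorem AbS.der {p : ℕ} {M A₀ A E S : Subgroup G} (d : AbS p M A₀ A E S) :
    ⁅𝓝(S), 𝓝(S)⁆ ≤ 𝓒(S) := by
  have hSt := ms_p_ne_top hG d.c.hp (d.Sp hG)
  obtain ⟨L, hL, hNL⟩ := exists_max hG (ms_nz_ne_top hG (d.S1 hG) hSt)
  have hSN : S ≤ 𝓝(S) := le_normalizer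
  have hnpc := (d.npc hG hL (hSN.trans hNL)).1
  have hSD : S ≤ ⁅𝓝(S), 𝓝(S)⁆ := bg10_7foc hG d.c.hp d.hS
  have hDL : ⁅𝓝(S), 𝓝(S)⁆ ≤ ⁅L, L⁆ := commutator_mono hNL hNL
  have h1 := der_le_syl_cz d.c.hp (X := S) (N := 𝓝(S)) le_rfl (cz_le_nz S)
    (hall_le_of_le d.hS hSN le_top) (fun a ha hac =>
      npc_cz d.c.hp hnpc (hSD.trans hDL) (d.Sp hG) (hDL ha) hac (comm_self_le _ ha))
  exact h1.trans (sup_le d.ab le_rfl)

theorem AbS.inv {p : ℕ} {M A₀ A E S X : Subgroup G} (d : AbS p M A₀ A E S) (hX : X ≤ A)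
    (hX1 : X ≠ ⊥) (hn : 𝓝(S) ≤ 𝓝(X)) : sigmaCore M ⊓ 𝓒(X) = ⊥ := by
  by_contra h
  have h1 := d.c.uniq_cz hG hX hX1 h
  apply d.nzNS hG
  refine hn.trans (nz_le_of_uniq hG ?_ h1.2)
  refine ms_nz_ne_top hG hX1 ?_
  have hXp : IsPGroup p X := (d.c.e2 hG).isP.to_le hX
  exact ms_p_ne_top hG d.c.hp hXp

theorem AbS.nz_sup {p : ℕ} {M A₀ A E S D : Subgroup G} (d : AbS p M A₀ A E S)
    (hD : D ≤ 𝓝(S)) : 𝓝(S) ≤ 𝓝(D ⊔ 𝓒(S)) := by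
  apply le_nz_of_comm_le
  refine le_trans ?_ le_sup_right
  refine (commutator_mono (sup_le hD (cz_le_nz S)) le_rfl).trans (d.der hG)

theorem AbS.nz_comm {p : ℕ} {M A₀ A E S D : Subgroup G} (d : AbS p M A₀ A E S)
    (hD : D ≤ 𝓝(S)) : 𝓝(S) ≤ 𝓝(⁅S, D⁆) := by
  rw [← comm_sup_cz hD]
  exact le_nz_comm le_rfl (d.nz_sup hG hD)

theorem AbS.nz_cz {p : ℕ} {M A₀ A E S D : Subgroup G} (d : AbS p M A₀ A E S)
    (hD : D ≤ 𝓝(S)) : 𝓝(S) ≤ 𝓝(S ⊓ 𝓒(D)) := by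
  have h1 : S ⊓ 𝓒(D) = S ⊓ 𝓒(D ⊔ 𝓒(S)) := by
    apply le_antisymm
    · refine le_inf inf_le_left ?_
      rw [le_cz_comm]
      refine sup_le (le_cz_comm.1 inf_le_right) (cz_anti inf_le_left)
    · exact inf_le_inf_left _ (cz_anti le_sup_left)
  rw [h1]
  exact le_nz_inf le_rfl (le_nz_cz (d.nz_sup hG hD))

/-- 12.8 (e) -/
theorem AbS.prime_cz {p : ℕ} {M A₀ A E S K : Subgroup G} (d : AbS p M A₀ A E S) (hK : K ≤ E)
    (hKp : (Nat.card K).Prime) (hC : sigmaCore M ⊓ 𝓒(K) = ⊥) : K ≤ 𝓒(S) := by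
  have hKπ : IsPi {Nat.card K} K := isPi_of_card_prime hKp rfl
  by_cases hp : Nat.card K = p
  · have h1 : K ≤ S := by
      refine le_hall_of_normal (hall_le_of_le d.hS (d.SE hG) le_top) (d.ES hG) ?_ hK
      rw [← hp]; exact hKπ
    exact h1.trans d.ab
  · have hKn : K ≤ 𝓝(S) := hK.trans (d.ES hG)
    have hcop : (Nat.card K).Coprime (Nat.card S) := by
      refine coprime_card_of_pgroup d.c.hp (d.Sp hG) ?_
      exact (Nat.coprime_primes hKp d.c.hp).2 hp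
    have hQS : ⁅S, K⁆ ≤ S := comm_le_left hKn
    have hi := ab_cop_inf d.ab hKn hcop
    have hEM := hall_le d.hE
    have hQσ : ⁅S, K⁆ ≤ 𝓒(sigmaCore M) := by
      refine fpf_cz hG d.c.hM hKp (hK.trans hEM) ((hall_isPi d.hE).le hK) hC (q := p)
        ((hall_isPi d.hS).le hQS) ((hQS.trans (d.SE hG)).trans hEM) d.c.ns (fun h => hp h.symm)
        (le_nz_comm hKn le_normalizer) hi
    by_cases hQ1 : ⁅S, K⁆ = ⊥
    · rw [comm_eq_bot_iff] at hQ1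
      exact le_cz_comm.1 hQ1
    exfalso
    have hQA : ⁅S, K⁆ ⊓ A ≠ ⊥ := by
      have h1 := pgroup_dvd_card d.c.hp ((d.Sp hG).to_le hQS) hQ1
      obtain ⟨X, hX, hXc⟩ := exists_card_prime d.c.hp h1
      have h2 := d.c.line_le hG d.hE d.AE ((hX.trans hQS).trans (d.SE hG)) hXc
      intro h3
      have h4 : X ≤ ⊥ := by rw [← h3]; exact le_inf hX h2
      exact ne_bot_of_card_prime d.c.hp hXc (le_bot_iff.1 h4)
    have h1 := d.inv hG (inf_le_right : ⁅S, K⁆ ⊓ A ≤ A) hQA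
      (le_nz_inf (d.nz_comm hG hKn) (d.nzA hG))
    have h2 : sigmaCore M ≤ 𝓒(⁅S, K⁆ ⊓ A) := le_cz_comm.1 (inf_le_left.trans hQσ)
    rw [inf_eq_left.2 h2] at h1
    exact sigmaCore_ne_bot hG d.c.hM h1

end

end CfsgLib.BGPi
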