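import Cfsg.Agent.EqBase
import Cfsg.Agent.LibBG17b

/-! B & G section 12: the action of `E` on abelian Sylow subgroups for τ₂. -/

open Subgroup
open scoped Pointwise commutatorElement

namespace CfsgLib.BGPi

open Cfsg

universe u v w

theorem exists_last {G : Type u} [Group G] {C : Subgroup G} {x : G} {r k : ℕ} (hx : x ∉ C)
    (hk : x ^ (r ^ k) ∈ C) : ∃ j : ℕ, x ^ (r ^ j) ∉ C ∧ (x ^ (r ^ j)) ^ r ∈ C := by
  classical
  have hex : ∃ k, x ^ (r ^ k) ∈ C := ⟨k, hk⟩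
  have h1 := Nat.find_spec hex
  have h0 : Nat.find hex ≠ 0 := by
    intro h0
    rw [h0, pow_zero, pow_one] at h1
    exact hx h1
  obtain ⟨j, hj⟩ := Nat.exists_eq_succ_of_ne_zero h0
  refine ⟨j, Nat.find_min hex (by omega), ?_⟩
  rw [← pow_mul, ← pow_succ, ← Nat.succ_eq_add_one, ← hj]
  exact h1

section
variable {G : Type u} [Group G] [Finite G]
variable (hG : IsMinSimpleOddOrder G)
include hG

/-- `r`-elements for `r ∈ σ(H)` centralise `S` -/
theorem AbS.sig_cz {p : ℕ} {M A₀ A E S H R : Subgroup G} (d : AbS p M A₀ A E S) {r : ℕ}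
    (hr : r.Prime) (hrp : r ≠ p) (hH : IsCoatom H) (hSH : S ≤ sigmaCore H) (hRH : R ≤ H)
    (hRπ : IsPi {r} R) (hrs : r ∈ sigma H) (hRS : R ≤ 𝓝(S)) : R ≤ 𝓒(S) := by
  have hRσ : R ≤ sigmaCore H := le_hall_of_normal (sigma_hall hG hH) (le_nz_sigmaCore hG H)
    (hRπ.mono (Set.singleton_subset_iff.2 hrs)) hRH
  intro x hx
  refine npc_cz d.c.hp (d.npc hG hH (hSH.trans (sigmaCore_le hG hH))).2 hSH (d.Sp hG) (hRσ hx) ?_
    (hRS hx)
  have h1 : IsPi {r} (zpowers x) := hRπ.le (zpowers_le.2 hx)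
  rw [isPi_zpowers] at h1
  rw [Nat.coprime_comm, Nat.Prime.coprime_iff_not_dvd d.c.hp]
  intro h2
  have h3 := h1 p d.c.hp h2
  rw [Set.mem_singleton_iff] at h3
  exact hrp h3.symm

theorem AbS.fix_line {p : ℕ} {M A₀ A E S : Subgroup G} (d : AbS p M A₀ A E S)
    (hno : ∀ X ≤ A, Nat.card X = p → ¬ 𝓝(S) ≤ 𝓝(X)) {x : G} (hx : x ∈ 𝓝(S))
    (hxA : x ∉ 𝓒(A)) : A ⊓ Subgroup.centralizer ({x} : Set G) = ⊥ := by
  by_contra h
  have hD : zpowers x ≤ 𝓝(S) := zpowers_le.2 hx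
  have h1 : 𝓝(S) ≤ 𝓝(A ⊓ (S ⊓ 𝓒(zpowers x))) := le_nz_inf (d.nzA hG) (d.nz_cz hG hD)
  have h2 : A ⊓ (S ⊓ 𝓒(zpowers x)) = A ⊓ Subgroup.centralizer ({x} : Set G) := by
    rw [← inf_assoc, inf_eq_left.2 d.AS, cz1_eq]
  rw [h2] at h1
  have h3 : Nat.card ↥(A ⊓ Subgroup.centralizer ({x} : Set G)) ∣ p ^ 2 := by
    rw [← d.c.card]
    exact card_dvd_of_le inf_le_left
  rw [Nat.dvd_prime_pow d.c.hp] at h3
  obtain ⟨k, hk, hk'⟩ := h3
  have h0 : k ≠ 0 := by
    rintro rfl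
    rw [pow_zero] at hk'
    exact h ((Subgroup.card_eq_one).1 hk')
  have h4 : k ≠ 1 := by
    rintro rfl
    rw [pow_one] at hk'
    exact hno _ inf_le_left hk' h1
  have h5 : k = 2 := by omega
  subst h5
  have h6 : A ⊓ Subgroup.centralizer ({x} : Set G) = A :=
    Subgroup.eq_of_le_of_card_ge inf_le_left (by rw [hk', d.c.card])
  apply hxA
  rw [← h6]
  refine mem_cz.2 fun a ha => ?_
  exact (Subgroup.mem_centralizer_singleton_iff.1 ha.2)

/-- irreducible action -/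
theorem AbS.irr {p : ℕ} {M A₀ A E S : Subgroup G} (d : AbS p M A₀ A E S)
    (hno : ∀ X ≤ A, Nat.card X = p → ¬ 𝓝(S) ≤ 𝓝(X))
    (h13 : ∀ (q : ℕ) (K : Subgroup G), q.Prime → K ≤ E → Nat.card K = q →
      q ∈ tau1 M ∪ tau3 M → sigmaCore M ⊓ 𝓒(K) = ⊥) : E ≤ 𝓒(A) := by
  have hEM := hall_le d.hE
  have hSE := d.SE hG
  have hES := d.ES hG
  have hpp := d.c.hp
  have key : IsPiHallOf Set.univ (E ⊓ 𝓒(A)) E := by
    refine hall_of_syls inf_le_left (isPi_univ _) ?_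
    intro r hr _ R hR
    refine le_inf (hall_le hR) ?_
    have hRE := hall_le hR
    have hRπ := hall_isPi hR
    by_cases hR1 : R = ⊥
    · rw [hR1]; exact bot_le
    have hrR : r ∣ Nat.card R := pgroup_dvd_card hr (hRπ.isPGroup hr) hR1
    have hrσ : r ∉ sigma M := hall_isPi d.hE r hr (hrR.trans (card_dvd_of_le hRE))
    by_cases hrp : r = p
    · subst hrp
      have h1 : R ≤ S := le_hall_of_normal (hall_le_of_le d.hS hSE le_top) hES hRπ hRE
      exact (h1.trans d.ab).trans (cz_anti d.AS)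
    have hrM : r ∣ Nat.card M := hrR.trans (card_dvd_of_le (hRE.trans hEM))
    by_cases hr2 : r ∈ tau2 M
    · exact d.c.tau2_cz' hG d.hE d.AE hRE (hRπ.mono (Set.singleton_subset_iff.2 hr2))
    have hr13 : r ∈ tau1 M ∪ tau3 M := by
      rcases tau_cases hG d.c.hM hr hrM hrσ with h | h | h
      · exact Or.inl h
      · exact absurd h hr2
      · exact Or.inr h
    have hrk : PRankLE r 1 M := by
      rcases hr13 with h | h
      · exact h.2.2.2.2
      · exact h.2.2.2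
    by_contra hRA
    obtain ⟨R₁, hR1R, hR1c⟩ := exists_card_prime hr hrR
    have hR1C := h13 r R₁ hr (hR1R.trans hRE) hR1c hr13
    have hR1S : R₁ ≤ 𝓒(S) := d.prime_cz hG (hR1R.trans hRE) (by rw [hR1c]; exact hr) hR1C
    -- the maximal subgroup above `N(A)`
    have hA1 := (d.c.e2 hG).ne_bot hpp
    have hAt := ms_p_ne_top hG hpp (d.c.e2 hG).isP
    obtain ⟨H, hH, hNH⟩ := exists_max hG (ms_nz_ne_top hG hA1 hAt)
    obtain ⟨hpH, hHM, hHi, hAH⟩ := d.c.maxN hG hH hNH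
    have hNSH : 𝓝(S) ≤ H := (d.nzA hG).trans hNH
    have hSH : S ≤ sigmaCore H := le_hall_of_normal (sigma_hall hG hH) (le_nz_sigmaCore hG H)
      ((hall_isPi d.hS).mono (Set.singleton_subset_iff.2 hpH)) (le_normalizer.trans hNSH)
    have hRH : R ≤ H := (hRE.trans hES).trans hNSH
    have hRS : R ≤ 𝓝(S) := hRE.trans hES
    have hRp := hRπ.isPGroup hr
    by_cases hrsH : r ∈ sigma H
    · exact hRA ((d.sig_cz hG hr hrp hH hSH hRH hRπ hrsH hRS).trans (cz_anti d.AS))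
    by_cases hrk1 : PRankLE r 1 H
    · have h1 := bg13_3a' hG hH hr hrsH hrk1 hRp hRH hR1R (ne_bot_of_card_prime hr hR1c)
      have h2 : S ≤ 𝓒(R) := (le_inf hSH (le_cz_comm.1 hR1S)).trans h1
      exact hRA ((le_cz_comm.1 h2).trans (cz_anti d.AS))
    have hrH : r ∣ Nat.card H := hrR.trans (card_dvd_of_le hRH)
    have hr2H : r ∈ tau2 H := by
      rcases tau_cases hG hH hr hrH hrsH with h | h | h
      · exact absurd h.2.2.2.2 hrk1
      · exact h
      · exact absurd h.2.2.2 hrk1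
    obtain ⟨F, hF, hRF⟩ := hall_exists_ge (π := (sigma H)ᶜ) (max_sol hG hH)
      (hRπ.mono (Set.singleton_subset_iff.2 hrsH)) hRH
    obtain ⟨B, hBF, B₀, c'⟩ := exists_exc_tau2 hG hH hF hr2H
    have hRB : R ≤ 𝓒(B) := c'.tau2_cz' hG hF hBF hRF (hRπ.mono (Set.singleton_subset_iff.2 hr2H))
    -- `S` is normal in `H`
    have hSeq : piCoreOf {p} (sigmaCore H) = S := by
      refine piCoreOf_eq_of_hall (hall_le_of_le d.hS hSH le_top) ?_
      have h1 := nilp_pcore_hall hG (c'.nilp hG) (hall_le_of_le d.hS hSH le_top : IsPiHallOf {p} S _)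
      rw [← h1]
      exact le_nz_piCoreOf _ _
    have hHS : H ≤ 𝓝(S) := by
      rw [← hSeq]
      exact (le_nz_sigmaCore hG H).trans (nz_le_nz_piCoreOf _ _)
    have hBM : ¬ B ≤ M := fun h => c'.card_contra hG h hrk
    obtain ⟨b, hbB, hbM⟩ := SetLike.not_le_iff_exists.1 hBM
    obtain ⟨x, hxR, hxA⟩ := SetLike.not_le_iff_exists.1 hRA
    obtain ⟨k, hk⟩ := hRp ⟨x, hxR⟩
    have hk' : x ^ (r ^ k) = 1 := congrArg Subtype.val hk
    obtain ⟨j, hj1, hj2⟩ := exists_last (C := 𝓒(A)) (r := r) (k := k) hxA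
      (by rw [hk']; exact one_mem _)
    set y := x ^ (r ^ j) with hy
    have hyR : y ∈ R := R.pow_mem hxR _
    have hbr : b ^ r = 1 := c'.el.2 b hbB
    have hyb : Commute y b := (mem_cz.1 (hRB hyR) b hbB).symm
    have hbS : b ∈ 𝓝(S) := hHS (c'.AM hbB)
    have hyS : y ∈ 𝓝(S) := hRS hyR
    have hczM : 𝓒(A) ≤ M := d.c.cz
    have hyM : y ∈ M := hEM (hRE hyR)
    have hbA : b ∉ 𝓒(A) := fun h => hbM (hczM h)
    have hcopA : (Nat.card A).Coprime r := by
      rw [d.c.card]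
      exact Nat.Coprime.pow_left 2 ((Nat.coprime_primes hpp hr).2 (fun h => hrp h.symm))
    have hAab : A ≤ 𝓒(A) := (d.AS.trans d.ab).trans (cz_anti d.AS)
    refine hA1 (two_act hAab hr hcopA (d.nzA hG hyS) (d.nzA hG hbS) hyb hj2
      (by rw [hbr]; exact one_mem _) (d.fix_line hG hno hbS hbA) ?_)
    intro i hi
    refine d.fix_line hG hno (mul_mem hyS (pow_mem hbS i)) ?_
    intro h
    rcases Nat.eq_zero_or_pos i with h0 | h0
    · subst h0
      rw [pow_zero, mul_one] at h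
      exact hj1 h
    · have h1 : b ^ i ∈ M := by
        have h2 := M.mul_mem (M.inv_mem hyM) (hczM h)
        rwa [← mul_assoc, inv_mul_cancel, one_mul] at h2
      apply hbM
      have hc : Nat.Coprime i (orderOf b) := by
        have h3 : orderOf b ∣ r := orderOf_dvd_of_pow_eq_one hbr
        exact Nat.Coprime.coprime_dvd_right h3
          (Nat.coprime_of_lt_prime (by omega) hi hr).symm
      obtain ⟨m, hm⟩ := exists_pow_eq_self_of_coprime hc
      rw [← hm]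
      exact M.pow_mem h1 m
  intro x hx
  have h1 : Nat.card E ∣ Nat.card ↥(E ⊓ 𝓒(A)) := isPi_card_dvd_hall key (isPi_univ E) le_rfl
  have h2 : E ⊓ 𝓒(A) = E := Subgroup.eq_of_le_of_card_ge inf_le_left
    (Nat.le_of_dvd (card_pos' _) h1)
  rw [← h2] at hx
  exact hx.2

end

end CfsgLib.BGPi
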