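import Cfsg.Agent.EqBase
import Cfsg.Agent.LibBG17c

/-! B & G section 12: cyclic subgroups of full exponent. -/

open Subgroup
open scoped Pointwise commutatorElement

namespace CfsgLib.BGPi

open Cfsg

universe u v w

/-- Teichmüller lift of an invariant line -/
theorem lift_line {S : Type*} [CommGroup S] [Finite S] {K : Type*} [Group K] [Finite K]
    (φ : K →* MulAut S) {p : ℕ} (hp : p.Prime) (hcop : (Nat.card K).Coprime p) (a : ℕ) {z s : S}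
    (hs : s ^ (p ^ a) = z) (hz : z ≠ 1) (hzp : z ^ p = 1)
    (hinv : ∀ k, φ k z ∈ zpowers z) :
    ∃ y : S, y ^ (p ^ a) ∈ zpowers z ∧ y ^ (p ^ a) ≠ 1 ∧ ∀ k, φ k y ∈ zpowers y := by
  classical
  haveI : Fact p.Prime := ⟨hp⟩
  haveI : Fintype K := Fintype.ofFinite K
  have hzo : orderOf z = p := orderOf_eq_prime hzp hz
  have h1 : ∀ k : K, ∃ n : ℕ, φ k z = z ^ n := by
    intro k
    obtain ⟨n, hn⟩ := (mem_zpowers_iff_mem_range_orderOf.1 (hinv k) |> Finset.mem_image.1)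
    exact ⟨n, hn.2.symm⟩
  choose n hn using h1
  have hmul : ∀ k h : K, n (k * h) ≡ n k * n h [MOD p] := by
    intro k h
    rw [← hzo, ← pow_eq_pow_iff_modEq, ← hn, map_mul, MulAut.mul_apply, hn h, map_pow, hn k,
      ← pow_mul]
  have hone : n 1 ≡ 1 [MOD p] := by
    rw [← hzo, ← pow_eq_pow_iff_modEq, ← hn, map_one, MulAut.one_apply, pow_one]
  have hlift : ∀ x y : ℕ, x ≡ y [MOD p] → x ^ (p ^ a) ≡ y ^ (p ^ a) [MOD p ^ (a + 1)] := by
    intro x y hxy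
    have h2 : (p : ℤ) ∣ (x : ℤ) - y := (Nat.modEq_iff_dvd.1 hxy.symm)
    have h3 := dvd_sub_pow_of_dvd_sub (R := ℤ) (p := p) (a := (x : ℤ)) (b := (y : ℤ))
      (by exact_mod_cast h2) a
    refine (Nat.modEq_iff_dvd.2 ?_).symm
    push_cast
    exact_mod_cast h3
  have hs' : ∀ k : K, (φ k s) ^ (p ^ (a + 1)) = 1 := by
    intro k
    rw [← map_pow, pow_succ, pow_mul, hs, hzp, map_one]
  set N : K → ℕ := fun k => n k ^ (p ^ a) with hN
  have hNmul : ∀ k h : K, N (k * h) ≡ N k * N h [MOD p ^ (a + 1)] := by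
    intro k h
    have h2 := hlift _ _ (hmul k h)
    rwa [mul_pow] at h2
  set y : S := ∏ k : K, (φ k s) ^ N k⁻¹ with hy
  have hya : y ^ (p ^ a) = z ^ Nat.card K := by
    rw [hy, ← Finset.prod_pow, Nat.card_eq_fintype_card, ← Finset.card_univ,
      ← Finset.prod_const]
    refine Finset.prod_congr rfl fun k _ => ?_
    rw [← pow_mul, mul_comm, pow_mul, ← map_pow, hs, hn, ← pow_mul]
    have h3 : n k * N k⁻¹ ≡ 1 [MOD orderOf z] := by
      rw [hzo]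
      have h4 : N k⁻¹ ≡ n k⁻¹ [MOD p] := by
        have h5 : ∀ (m t : ℕ), m ^ (p ^ t) ≡ m [MOD p] := by
          intro m t
          induction t with
          | zero => simpa using Nat.ModEq.refl m
          | succ t ih =>
            rw [pow_succ, pow_mul]
            have h6 : ∀ w : ℕ, w ^ p ≡ w [MOD p] := by
              intro w
              rw [← ZMod.natCast_eq_natCast_iff, Nat.cast_pow, ZMod.pow_card]
            exact (h6 _).trans ih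
        exact h5 _ _
      calc n k * N k⁻¹ ≡ n k * n k⁻¹ [MOD p] := Nat.ModEq.mul_left _ h4
        _ ≡ n (k * k⁻¹) [MOD p] := (hmul _ _).symm
        _ ≡ 1 [MOD p] := by rw [mul_inv_cancel]; exact hone
    have h4 := pow_eq_pow_iff_modEq.2 h3
    rwa [pow_one] at h4
  refine ⟨y, ?_, ?_, ?_⟩
  · rw [hya]; exact pow_mem (mem_zpowers z) _
  · rw [hya]
    intro h
    have h2 := orderOf_dvd_of_pow_eq_one h
    rw [hzo] at h2
    exact (Nat.Prime.coprime_iff_not_dvd hp).1 hcop.symm h2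
  · intro h
    have h2 : φ h y = y ^ N h := by
      rw [hy, map_prod, ← Finset.prod_pow]
      refine Fintype.prod_equiv (Equiv.mulLeft h) _ _ fun k => ?_
      rw [map_pow, ← MulAut.mul_apply, ← map_mul, Equiv.coe_mulLeft, ← pow_mul]
      rw [pow_eq_pow_iff_modEq]
      refine Nat.ModEq.of_dvd (orderOf_dvd_of_pow_eq_one (hs' (h * k))) ?_
      have h3 : N k⁻¹ ≡ N ((h * k)⁻¹) * N h [MOD p ^ (a + 1)] := by
        have h4 := hNmul (h * k)⁻¹ h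
        have h5 : (h * k)⁻¹ * h = k⁻¹ := by group
        rwa [h5] at h4
      exact h3
    rw [h2]
    exact pow_mem (mem_zpowers y) _

section
variable {G : Type u} [Group G] [Finite G]

/-- the image of the `n`-th power map on an abelian subgroup -/
def powIm (S : Subgroup G) (n : ℕ) : Subgroup G := Subgroup.closure {x | ∃ s ∈ S, s ^ n = x}

theorem mem_powIm {S : Subgroup G} (hS : S ≤ 𝓒(S)) {n : ℕ} {x : G} :
    x ∈ powIm S n ↔ ∃ s ∈ S, s ^ n = x := by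
  constructor
  · intro hx
    induction hx using Subgroup.closure_induction with
    | mem x hx => exact hx
    | one => exact ⟨1, S.one_mem, one_pow n⟩
    | mul x y _ _ hx hy =>
      obtain ⟨s, hs, rfl⟩ := hx
      obtain ⟨t, ht, rfl⟩ := hy
      refine ⟨s * t, S.mul_mem hs ht, ?_⟩
      have h1 : Commute s t := mem_cz.1 (hS ht) s hs
      exact h1.mul_pow n
    | inv x _ hx =>
      obtain ⟨s, hs, rfl⟩ := hx
      exact ⟨s⁻¹, S.inv_mem hs, inv_pow s n⟩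
  · intro hx
    exact Subgroup.subset_closure hx

theorem nz_powIm (S : Subgroup G) (n : ℕ) : 𝓝(S) ≤ 𝓝(powIm S n) := by
  refine nz_le_nz_closure ?_
  rintro a ha x ⟨s, hs, rfl⟩
  refine ⟨a * s * a⁻¹, le_nz.1 le_rfl a ha s hs, ?_⟩
  rw [conj_pow]

theorem exists_exp {p : ℕ} (hp : p.Prime) {S : Subgroup G} (hS : IsPGroup p S) (h1 : S ≠ ⊥) :
    ∃ a : ℕ, (∀ s ∈ S, s ^ (p ^ (a + 1)) = 1) ∧ ∃ s ∈ S, s ^ (p ^ a) ≠ 1 := by
  classical
  haveI : Fact p.Prime := ⟨hp⟩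
  have hex : ∃ k, ∀ s ∈ S, s ^ (p ^ k) = 1 := by
    obtain ⟨k, hk⟩ := IsPGroup.iff_card.1 hS
    refine ⟨k, fun s hs => ?_⟩
    have h2 : (⟨s, hs⟩ : S) ^ Nat.card S = 1 := pow_card_eq_one'
    rw [hk] at h2
    exact congrArg Subtype.val h2
  have h2 := Nat.find_spec hex
  have h0 : Nat.find hex ≠ 0 := by
    intro h0
    apply h1
    rw [eq_bot_iff]
    intro s hs
    have h3 := h2 s hs
    rw [h0, pow_zero, pow_one] at h3
    exact Subgroup.mem_bot.2 h3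
  obtain ⟨a, ha⟩ := Nat.exists_eq_succ_of_ne_zero h0
  rw [ha] at h2
  refine ⟨a, h2, ?_⟩
  have h3 := Nat.find_min hex (m := a) (by omega)
  push Not at h3
  exact h3

theorem cyc_fpf {V : Subgroup G} {y : G} {p a : ℕ} (hp : p.Prime) (hy : y ^ (p ^ (a + 1)) = 1)
    (hy1 : y ^ (p ^ a) ≠ 1) (hV : V ⊓ 𝓒(zpowers (y ^ (p ^ a))) = ⊥) {x : G}
    (hx : x ∈ zpowers y) (hx1 : x ≠ 1) : V ⊓ Subgroup.centralizer ({x} : Set G) = ⊥ := by
  haveI : Fact p.Prime := ⟨hp⟩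
  have hyo : orderOf y = p ^ (a + 1) := orderOf_eq_prime_pow hy1 hy
  have hyp : IsPGroup p (zpowers y) := IsPGroup.of_card (n := a + 1) (by rw [Nat.card_zpowers, hyo])
  have hxy : zpowers x ≤ zpowers y := zpowers_le.2 hx
  have hx1' : zpowers x ≠ ⊥ := by
    intro h
    exact hx1 (zpowers_eq_bot.1 h)
  obtain ⟨X, hX, hXc⟩ := exists_card_prime hp (pgroup_dvd_card hp (hyp.to_le hxy) hx1')
  have hZ : zpowers (y ^ (p ^ a)) ≤ zpowers y := zpowers_le.2 (pow_mem (mem_zpowers y) _)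
  have hZc : Nat.card (zpowers (y ^ (p ^ a))) = p := by
    rw [Nat.card_zpowers]
    refine orderOf_eq_prime ?_ hy1
    rw [← pow_mul, ← pow_succ]
    exact hy
  have hcyc : IsCyclic (zpowers y) := inferInstance
  have h1 := cyc_card_prime_eq hcyc hp (hX.trans hxy) hZ hXc hZc
  rw [eq_bot_iff, ← hV, cz1_eq, ← h1]
  exact inf_le_inf_left _ (cz_anti hX)

theorem exists_max_inv {p : ℕ} (hp : p.Prime) {E S K : Subgroup G} (hS : S ≤ 𝓒(S))
    (hK : K ≤ 𝓝(S)) (hcop : (Nat.card K).Coprime p) {a : ℕ} {s : G} (hs : s ∈ S)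
    (hs1 : s ^ (p ^ a) ≠ 1) (hsp : s ^ (p ^ (a + 1)) = 1)
    (hKn : K ≤ 𝓝(zpowers (s ^ (p ^ a)))) :
    ∃ y ∈ S, zpowers (y ^ (p ^ a)) = zpowers (s ^ (p ^ a)) ∧ y ^ (p ^ a) ≠ 1 ∧
      K ≤ 𝓝(zpowers y) := by
  letI : CommGroup S := { (inferInstance : Group S) with
    mul_comm := fun a b => Subtype.ext (mem_cz.1 (hS b.2) a a.2) }
  let φ : K →* MulAut S := (Subgroup.normalizerMonoidHom S).comp (Subgroup.inclusion hK)
  have hφ : ∀ (n : K) (w : S), ((φ n w : S) : G) = n * w * (n : G)⁻¹ := fun n w => rfl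
  have hcoe : ∀ {v w : S}, v ∈ zpowers w ↔ (v : G) ∈ zpowers (w : G) := by
    intro v w
    rw [mem_zpowers_iff, mem_zpowers_iff]
    constructor
    · rintro ⟨k, hk⟩
      exact ⟨k, by rw [← hk]; rfl⟩
    · rintro ⟨k, hk⟩
      exact ⟨k, Subtype.ext (by rw [← hk]; rfl)⟩
  obtain ⟨y, h1, h2, h3⟩ := lift_line φ hp hcop a (z := (⟨s, hs⟩ : S) ^ (p ^ a))
    (s := ⟨s, hs⟩) rfl
    (fun h => hs1 (congrArg Subtype.val h)) (by
      rw [← pow_mul, ← pow_succ]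
      exact Subtype.ext hsp) (by
      intro k
      rw [hcoe, hφ]
      exact le_nz.1 hKn k k.2 _ (mem_zpowers _))
  refine ⟨y, y.2, ?_, fun h => h2 (Subtype.ext h), ?_⟩
  · have h4 : (y : G) ^ (p ^ a) ∈ zpowers (s ^ (p ^ a)) := hcoe.1 h1
    have h5 : Nat.card (zpowers (s ^ (p ^ a))) = p := by
      haveI : Fact p.Prime := ⟨hp⟩
      rw [Nat.card_zpowers]
      refine orderOf_eq_prime ?_ hs1
      rw [← pow_mul, ← pow_succ]
      exact hsp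
    exact zpowers_eq_of_prime hp h5 h4 (fun h => h2 (Subtype.ext h))
  · intro k hk
    have h4 : k * (y : G) * k⁻¹ ∈ zpowers (y : G) := by
      have h5 := hcoe.1 (h3 ⟨k, hk⟩)
      exact h5
    have h5 : ∀ j ∈ K, ∀ x ∈ zpowers (y : G), j * x * j⁻¹ ∈ zpowers (y : G) := by
      intro j hj x hx
      obtain ⟨m, rfl⟩ := mem_zpowers_iff.1 hx
      rw [← conj_zpow]
      exact zpow_mem (hcoe.1 (h3 ⟨j, hj⟩)) m
    exact le_nz.2 h5 hk

variable (hG : IsMinSimpleOddOrder G)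
include hG

/-- the line -/
theorem AbS.line {p : ℕ} {M A₀ A E S : Subgroup G} (d : AbS p M A₀ A E S) {a : ℕ}
    (ha : ∀ s ∈ S, s ^ (p ^ (a + 1)) = 1) (ha' : ∃ s ∈ S, s ^ (p ^ a) ≠ 1) :
    ∃ s ∈ S, s ^ (p ^ a) ≠ 1 ∧ sigmaCore M ⊓ 𝓒(zpowers (s ^ (p ^ a))) = ⊥ ∧
      ((∀ (q : ℕ) (K : Subgroup G), q.Prime → K ≤ E → Nat.card K = q →
        q ∈ tau1 M ∪ tau3 M → sigmaCore M ⊓ 𝓒(K) = ⊥) → E ≤ 𝓝(zpowers (s ^ (p ^ a)))) := by
  have hpp := d.c.hp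
  set D := powIm S (p ^ a) with hD
  have hDS : D ≤ S := by
    intro x hx
    obtain ⟨s, hs, rfl⟩ := (mem_powIm d.ab).1 hx
    exact S.pow_mem hs _
  have hDA : D ≤ A := by
    intro x hx
    rw [← (d.c.e2 hG).omega d.AS d.ab (hDS hx)]
    obtain ⟨s, hs, rfl⟩ := (mem_powIm d.ab).1 hx
    rw [← pow_mul, ← pow_succ]
    exact ha s hs
  have hD1 : D ≠ ⊥ := by
    obtain ⟨s, hs, hs1⟩ := ha'
    intro h
    have h1 : s ^ (p ^ a) ∈ D := (mem_powIm d.ab).2 ⟨s, hs, rfl⟩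
    rw [h] at h1
    exact hs1 (Subgroup.mem_bot.1 h1)
  have hNSD : 𝓝(S) ≤ 𝓝(D) := nz_powIm S _
  have fin : ∀ X ≤ D, Nat.card X = p → sigmaCore M ⊓ 𝓒(X) = ⊥ →
      ((∀ (q : ℕ) (K : Subgroup G), q.Prime → K ≤ E → Nat.card K = q →
        q ∈ tau1 M ∪ tau3 M → sigmaCore M ⊓ 𝓒(K) = ⊥) → E ≤ 𝓝(X)) →
      ∃ s ∈ S, s ^ (p ^ a) ≠ 1 ∧ sigmaCore M ⊓ 𝓒(zpowers (s ^ (p ^ a))) = ⊥ ∧
      ((∀ (q : ℕ) (K : Subgroup G), q.Prime → K ≤ E → Nat.card K = q →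
        q ∈ tau1 M ∪ tau3 M → sigmaCore M ⊓ 𝓒(K) = ⊥) → E ≤ 𝓝(zpowers (s ^ (p ^ a)))) := by
    intro X hX hXc hC hn
    obtain ⟨z, hz, hz1⟩ := (Subgroup.ne_bot_iff_exists_ne_one).1 (ne_bot_of_card_prime hpp hXc)
      |> fun ⟨z, hz⟩ => (⟨z.1, z.2, fun h => hz (Subtype.ext h)⟩ : ∃ z : G, z ∈ X ∧ z ≠ 1)
    obtain ⟨s, hs, rfl⟩ := (mem_powIm d.ab).1 (hX hz)
    have h1 := zpowers_eq_of_prime hpp hXc hz hz1
    exact ⟨s, hs, hz1, by rw [h1]; exact hC, by rw [h1]; exact hn⟩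
  by_cases hDp : Nat.card D = p
  · exact fin D le_rfl hDp (d.inv hG hDA hD1 hNSD) (fun _ => (d.ES hG).trans hNSD)
  have hDeq : D = A := by
    have h3 : Nat.card D ∣ p ^ 2 := by
      rw [← d.c.card]
      exact card_dvd_of_le hDA
    rw [Nat.dvd_prime_pow hpp] at h3
    obtain ⟨k, hk, hk'⟩ := h3
    have h0 : k ≠ 0 := by
      rintro rfl
      rw [pow_zero] at hk'
      exact hD1 ((Subgroup.card_eq_one).1 hk')
    have h4 : k ≠ 1 := by
      rintro rfl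
      rw [pow_one] at hk'
      exact hDp hk'
    have h5 : k = 2 := by omega
    subst h5
    exact Subgroup.eq_of_le_of_card_ge hDA (by rw [hk', d.c.card])
  by_cases hno : ∀ X ≤ A, Nat.card X = p → ¬ 𝓝(S) ≤ 𝓝(X)
  · obtain ⟨A₁, h1, A₂, h2, hc1, hc2, hne, hf1, hf2⟩ := d.c.lines hG
    refine fin A₁ (by rw [hDeq]; exact h1) hc1 hf1 (fun h13 => ?_)
    have h3 := d.irr hG hno h13
    exact (h3.trans (cz_anti h1)).trans (cz_le_nz _)
  · push Not at hno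
    obtain ⟨X, hX, hXc, hXn⟩ := hno
    exact fin X (by rw [hDeq]; exact hX) hXc
      (d.inv hG hX (ne_bot_of_card_prime hpp hXc) hXn) (fun _ => (d.ES hG).trans hXn)

theorem AbS.exists_y {p : ℕ} {M A₀ A E S : Subgroup G} (d : AbS p M A₀ A E S) :
    ∃ y ∈ S, (∀ s ∈ S, orderOf s ∣ orderOf y) ∧
      ∀ x ∈ zpowers y, x ≠ 1 → sigmaCore M ⊓ Subgroup.centralizer ({x} : Set G) = ⊥ := by
  haveI : Fact p.Prime := ⟨d.c.hp⟩
  obtain ⟨a, ha, ha'⟩ := exists_exp d.c.hp (d.Sp hG) (d.S1 hG)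
  obtain ⟨s, hs, hs1, hC, -⟩ := d.line hG ha ha'
  refine ⟨s, hs, ?_, ?_⟩
  · intro t ht
    rw [orderOf_eq_prime_pow hs1 (ha s hs)]
    exact orderOf_dvd_of_pow_eq_one (ha t ht)
  · intro x hx hx1
    exact cyc_fpf d.c.hp (ha s hs) hs1 hC hx hx1

theorem AbS.exists_Y {p : ℕ} {M A₀ A E S : Subgroup G} (d : AbS p M A₀ A E S)
    (h13 : ∀ (q : ℕ) (K : Subgroup G), q.Prime → K ≤ E → Nat.card K = q →
        q ∈ tau1 M ∪ tau3 M → sigmaCore M ⊓ 𝓒(K) = ⊥) :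
    ∃ y ∈ S, (∀ s ∈ S, orderOf s ∣ orderOf y) ∧ E ≤ 𝓝(zpowers y) ∧
      ∀ x ∈ zpowers y, x ≠ 1 → sigmaCore M ⊓ Subgroup.centralizer ({x} : Set G) = ⊥ := by
  haveI : Fact p.Prime := ⟨d.c.hp⟩
  have hEs : Group.IsSolvable E := solvable_sub (hall_le d.hE) (max_sol hG d.c.hM)
  obtain ⟨a, ha, ha'⟩ := exists_exp d.c.hp (d.Sp hG) (d.S1 hG)
  obtain ⟨s, hs, hs1, hC, hn⟩ := d.line hG ha ha'
  have hn := hn h13
  obtain ⟨K, hK⟩ := hall_exists (π := {p}ᶜ) hEs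
  have hKE := hall_le hK
  have hSE := hall_le_of_le d.hS (d.SE hG) le_top
  have hsup := hall_sup_compl hSE hK
  obtain ⟨y, hy, hyz, hy1, hyn⟩ := exists_max_inv d.c.hp (E := E) d.ab (hKE.trans (d.ES hG))
    ((isPi_compl_singleton' d.c.hp).1 (hall_isPi hK)) hs hs1 (ha s hs) (hKE.trans hn)
  refine ⟨y, hy, ?_, ?_, ?_⟩
  · intro t ht
    rw [orderOf_eq_prime_pow hy1 (ha y hy)]
    exact orderOf_dvd_of_pow_eq_one (ha t ht)
  · rw [← hsup]
    refine sup_le ?_ hyn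
    exact (d.ab.trans (cz_anti (zpowers_le.2 hy))).trans (cz_le_nz _)
  · intro x hx hx1
    exact cyc_fpf d.c.hp (ha y hy) hy1 (by rw [hyz]; exact hC) hx hx1

end

end CfsgLib.BGPi
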