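import Cfsg.Agent.EqBase
import Cfsg.Agent.LibBG17d

/-! B & G section 12: the subgroup `E₀`. -/

open Subgroup
open scoped Pointwise commutatorElement

namespace CfsgLib.BGPi

open Cfsg

universe u v w

section
variable {G : Type u} [Group G] [Finite G]

theorem assemble {E E₁ : Subgroup G} (hEs : Group.IsSolvable E) (hE1 : E₁ ≤ E)
    (Y : ℕ → Subgroup G) (τ : Finset ℕ) (hτ : ∀ q ∈ τ, q.Prime)
    (hY : ∀ q ∈ τ, Y q ≤ E ∧ E ≤ 𝓝(Y q) ∧ IsPi {q} (Y q)) (h1 : ∀ q ∈ τ, ¬ q ∣ Nat.card E₁) :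
    ∃ E₀ ≤ E, E₁ ≤ E₀ ∧ (∀ q ∈ τ, Y q ≤ E₀) ∧ ∀ (r : ℕ) (x : G), r.Prime → x ∈ E₀ →
      orderOf x = r → (r ∈ τ ∧ x ∈ Y r) ∨ (r ∉ τ ∧ ∃ g ∈ E, g * x * g⁻¹ ∈ E₁) := by
  classical
  induction τ using Finset.induction_on with
  | empty =>
    refine ⟨E₁, hE1, le_rfl, fun q hq => by simp at hq, fun r x hr hx hxr => Or.inr ⟨by simp, 1,
      E.one_mem, ?_⟩⟩
    simpa using hx
  | insert q τ hqτ ih =>
    obtain ⟨E₀, hE0, hE10, hYE, hprop⟩ := ih (fun r hr => hτ r (Finset.mem_insert_of_mem hr))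
      (fun r hr => hY r (Finset.mem_insert_of_mem hr))
      (fun r hr => h1 r (Finset.mem_insert_of_mem hr))
    have hqp := hτ q (Finset.mem_insert_self q τ)
    obtain ⟨hYq, hYn, hYπ⟩ := hY q (Finset.mem_insert_self q τ)
    have hq0 : ¬ q ∣ Nat.card E₀ := by
      intro hd
      haveI : Fact q.Prime := ⟨hqp⟩
      obtain ⟨x, hx⟩ := exists_prime_orderOf_dvd_card' q hd
      have hx' : orderOf (x : G) = q := by rw [Subgroup.orderOf_coe, hx]
      rcases hprop q x hqp x.2 hx' with ⟨h2, -⟩ | ⟨-, g, hg, hgx⟩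
      · exact hqτ h2
      · apply h1 q (Finset.mem_insert_self q τ)
        have h3 : orderOf (g * (x : G) * g⁻¹) = q := by rw [orderOf_conj', hx']
        rw [← h3]
        exact Subgroup.orderOf_dvd_natCard _ hgx
    have hE0n : E₀ ≤ 𝓝(Y q) := hE0.trans hYn
    have hYh : IsPiHallOf {q} (Y q) (Y q ⊔ E₀) := by
      refine hall_iff.2 ⟨le_sup_left, hYπ, ?_⟩
      intro p hp hpq
      rw [Set.mem_singleton_iff] at hpq
      subst hpq
      rw [sup_comm, relIndex_sup_eq hE0n]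
      exact fun h => hq0 (h.trans (Subgroup.relIndex_dvd_card _ _))
    have hEh : IsPiHallOf {q}ᶜ E₀ (Y q ⊔ E₀) := by
      refine hall_of_sup hE0n rfl ?_ (hall_self ((isPi_compl_singleton hqp).2 hq0))
      rw [compl_compl]; exact hYπ
    have hle : Y q ⊔ E₀ ≤ E := sup_le hYq hE0
    refine ⟨Y q ⊔ E₀, hle, hE10.trans le_sup_right, ?_, ?_⟩
    · intro r hr
      rcases Finset.mem_insert.1 hr with h | h
      · rw [h]; exact le_sup_left
      · exact (hYE r h).trans le_sup_right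
    · intro r x hr hx hxr
      by_cases hrq : r = q
      · subst hrq
        refine Or.inl ⟨Finset.mem_insert_self _ _, ?_⟩
        have h2 : zpowers x ≤ Y r := by
          refine le_hall_of_normal hYh (hle.trans hYn) ?_ (zpowers_le.2 hx)
          rw [isPi_zpowers, hxr]
          intro p hp hpd
          exact (Nat.prime_dvd_prime_iff_eq hp hr).1 hpd
        exact h2 (mem_zpowers x)
      · have hxπ : IsPi {q}ᶜ (zpowers x) := by
          rw [isPi_zpowers, hxr]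
          intro p hp hpd hpq
          rw [Set.mem_singleton_iff] at hpq
          exact hrq (((Nat.prime_dvd_prime_iff_eq hp hr).1 hpd).symm.trans hpq)
        obtain ⟨g, hg, hgx⟩ := hall_subj (solvable_sub hle hEs) hEh hxπ (zpowers_le.2 hx)
        have hgx' : g * x * g⁻¹ ∈ E₀ := hgx (conj_mem_cj (mem_zpowers x))
        rcases hprop r _ hr hgx' (by rw [orderOf_conj', hxr]) with ⟨h2, h3⟩ | ⟨h2, g', hg', h3⟩
        · refine Or.inl ⟨Finset.mem_insert_of_mem h2, ?_⟩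
          have h4 := le_nz.1 (hY r (Finset.mem_insert_of_mem h2)).2.1 g⁻¹
            (E.inv_mem (hle hg)) _ h3
          have h5 : g⁻¹ * (g * x * g⁻¹) * g⁻¹⁻¹ = x := by group
          rwa [h5] at h4
        · refine Or.inr ⟨?_, g' * g, E.mul_mem hg' (hle hg), ?_⟩
          · rw [Finset.mem_insert, not_or]
            exact ⟨hrq, h2⟩
          · have h5 : g' * g * x * (g' * g)⁻¹ = g' * (g * x * g⁻¹) * g'⁻¹ := by group
            rw [h5]; exact h3

theorem exp_eq {E₀ E : Subgroup G} (h : E₀ ≤ E)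
    (hx : ∀ (q k : ℕ) (g : G), q.Prime → g ∈ E → orderOf g = q ^ k →
      ∃ e ∈ E₀, q ^ k ∣ orderOf e) : Monoid.exponent E₀ = Monoid.exponent E := by
  apply Nat.dvd_antisymm
  · rw [Monoid.exponent_dvd_iff_forall_pow_eq_one]
    intro g
    have h1 := Monoid.pow_exponent_eq_one (⟨g, h g.2⟩ : E)
    have h2 : (g : G) ^ Monoid.exponent E = 1 := congrArg Subtype.val h1
    exact Subtype.ext h2
  · rw [Monoid.exponent_dvd]
    intro g
    rw [Nat.dvd_iff_prime_pow_dvd_dvd]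
    intro q k hq hk
    obtain ⟨m, hm⟩ := hk
    have hpos : 0 < orderOf (g : G) := orderOf_pos _
    have hgo : orderOf (g : G) = q ^ k * m := by rw [Subgroup.orderOf_coe, hm]
    have hm0 : m ≠ 0 := by
      rintro rfl
      rw [mul_zero] at hgo
      omega
    have h2 : orderOf ((g : G) ^ m) = q ^ k := by
      rw [orderOf_pow' _ hm0, hgo, Nat.gcd_eq_right (Dvd.intro_left _ rfl)]
      exact Nat.mul_div_cancel _ (Nat.pos_of_ne_zero hm0)
    obtain ⟨e, he, hd⟩ := hx q k _ hq (E.pow_mem g.2 m) h2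
    refine hd.trans ?_
    have h3 := Monoid.order_dvd_exponent (⟨e, he⟩ : E₀)
    rwa [Subgroup.orderOf_mk] at h3

theorem fpf_of_prime {E₀ V : Subgroup G}
    (h : ∀ (r : ℕ) (x : G), r.Prime → x ∈ E₀ → orderOf x = r →
      V ⊓ Subgroup.centralizer ({x} : Set G) = ⊥) {e : G} (he : e ∈ E₀) (he1 : e ≠ 1) :
    V ⊓ Subgroup.centralizer ({e} : Set G) = ⊥ := by
  have h1 : orderOf e ≠ 1 := fun h => he1 (orderOf_eq_one_iff.1 h)
  obtain ⟨r, hr, m, hm⟩ := Nat.exists_prime_and_dvd h1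
  have hpos : 0 < orderOf e := orderOf_pos _
  have hm0 : m ≠ 0 := by
    rintro rfl
    rw [mul_zero] at hm
    omega
  have h2 : orderOf (e ^ m) = r := by
    rw [orderOf_pow' _ hm0, hm, Nat.gcd_eq_right (Dvd.intro_left _ rfl)]
    exact Nat.mul_div_cancel _ (Nat.pos_of_ne_zero hm0)
  rw [eq_bot_iff, ← h r _ hr (E₀.pow_mem he m) h2]
  refine inf_le_inf_left _ ?_
  rw [cz1_eq, cz1_eq]
  exact cz_anti (zpowers_le.2 (pow_mem (mem_zpowers e) m))

theorem fpf_conj {V : Subgroup G} {g x : G} (hg : g ∈ 𝓝(V))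
    (h : V ⊓ Subgroup.centralizer ({g * x * g⁻¹} : Set G) = ⊥) :
    V ⊓ Subgroup.centralizer ({x} : Set G) = ⊥ := by
  rw [cz1_eq, zpowers_conj, cz_cj, ← cz1_eq] at h
  have h1 : (V ⊓ Subgroup.centralizer ({x} : Set G)) ^ᵍ g = ⊥ := by
    rw [cj_inf, mem_nz.1 hg, h]
  exact cj_eq_bot.1 h1

end

end CfsgLib.BGPi
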