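import Cfsg.Agent.EqBase
import Cfsg.Agent.LibBG17e

/-! B & G section 12: the subgroup `E₀`, all Sylow subgroups for `τ₂` abelian. -/

open Subgroup
open scoped Pointwise commutatorElement

namespace CfsgLib.BGPi

open Cfsg

universe u v w

section
variable {G : Type u} [Group G] [Finite G]
variable (hG : IsMinSimpleOddOrder G)
include hG

theorem absOf {M E : Subgroup G} (hM : IsCoatom M) (hE : IsPiHallOf (sigma M)ᶜ E M) {p : ℕ}
    (hp : p ∈ tau2 M) (hab : ∀ S : Subgroup G, IsPiHallOf {p} S ⊤ → S ≤ 𝓒(S)) :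
    ∃ A₀ A S : Subgroup G, AbS p M A₀ A E S := by
  obtain ⟨A, hAE, A₀, c⟩ := exists_exc_tau2 hG hM hE hp
  obtain ⟨S, hS, hAS⟩ := exists_syl_ge c.hp (elab_isPi c.hp c.el) (le_top : A ≤ ⊤)
  exact ⟨A₀, A, S, c, hE, hAE, hS, hAS, hab S hS⟩

theorem cz_tau2 {M E : Subgroup G} (hM : IsCoatom M) (hE : IsPiHallOf (sigma M)ᶜ E M)
    (h13 : ∀ (q : ℕ) (K : Subgroup G), q.Prime → K ≤ E → Nat.card K = q →
        q ∈ tau1 M ∪ tau3 M → sigmaCore M ⊓ 𝓒(K) = ⊥) {x : G} (hx : x ∈ sigmaCore M)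
    (hx1 : x ≠ 1) : IsPi (tau2 M) (E ⊓ Subgroup.centralizer ({x} : Set G)) := by
  intro q hq hqd
  obtain ⟨X, hX, hXc⟩ := exists_card_prime hq hqd
  have hXE := hX.trans inf_le_left
  have hqE : q ∣ Nat.card E := hqd.trans (card_dvd_of_le inf_le_left)
  have hqσ := hall_isPi hE q hq hqE
  have hqM := hqE.trans (card_dvd_of_le (hall_le hE))
  have hxX : x ∈ sigmaCore M ⊓ 𝓒(X) := by
    refine ⟨hx, mem_cz.2 fun y hy => ?_⟩
    exact (Subgroup.mem_centralizer_singleton_iff.1 (hX hy).2)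
  have hne : ¬ sigmaCore M ⊓ 𝓒(X) = ⊥ := by
    intro h
    rw [h] at hxX
    exact hx1 (Subgroup.mem_bot.1 hxX)
  rcases tau_cases hG hM hq hqM hqσ with h | h | h
  · exact absurd (h13 q X hq hXE hXc (Or.inl h)) hne
  · exact h
  · exact absurd (h13 q X hq hXE hXc (Or.inr h)) hne

/-- the Hall `τ₂`-subgroup -/
theorem tau2_hall {M E : Subgroup G} (hM : IsCoatom M) (hE : IsPiHallOf (sigma M)ᶜ E M)
    (hab : ∀ p ∈ tau2 M, ∀ S : Subgroup G, IsPiHallOf {p} S ⊤ → S ≤ 𝓒(S)) :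
    IsPiHallOf (tau2 M) (piCoreOf (tau2 M) E) E ∧
      piCoreOf (tau2 M) E ≤ 𝓒(piCoreOf (tau2 M) E) := by
  have hNE := piCoreOf_le (tau2 M) E
  have hNπ := isPi_piCoreOf (tau2 M) E
  have key : ∀ p ∈ tau2 M, ∀ S : Subgroup G, IsPiHallOf {p} S E →
      S ≤ piCoreOf (tau2 M) E ∧ E ≤ 𝓝(S) := by
    intro p hp S hS
    obtain ⟨A₀, A, S', d⟩ := absOf hG hM hE hp (hab p hp)
    have hS' : IsPiHallOf {p} S' E := hall_le_of_le d.hS (d.SE hG) le_top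
    have h1 : S = S' := by
      have h2 : S ≤ S' := le_hall_of_normal hS' (d.ES hG) (hall_isPi hS) (hall_le hS)
      exact hall_eq_of_le hS (hall_isPi hS') (hall_le hS') h2
    subst h1
    exact ⟨le_piCoreOf (hall_le hS) (d.ES hG)
      ((hall_isPi hS).mono (Set.singleton_subset_iff.2 hp)), d.ES hG⟩
  have hH : IsPiHallOf (tau2 M) (piCoreOf (tau2 M) E) E :=
    hall_of_syls hNE hNπ (fun p _ hpt S hS => (key p hpt S hS).1)
  refine ⟨hH, nilp_ab hG hM (hNE.trans (hall_le hE)) ?_ ((hall_isPi hE).le hNE)⟩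
  apply nilpotent_of_normal_sylows
  intro p hp hpd
  have hpN : p ∣ Nat.card ↥(piCoreOf (tau2 M) E) := hpd.trans (Subgroup.relIndex_dvd_card _ _)
  have hpt := hNπ p hp hpN
  obtain ⟨S, hS⟩ := exists_syl hp (piCoreOf (tau2 M) E)
  have hSE : IsPiHallOf {p} S E := hall_trans hS hH (Set.singleton_subset_iff.2 hpt)
  have h1 : piCoreOf {p} (piCoreOf (tau2 M) E) = S :=
    piCoreOf_eq_of_hall hS (hNE.trans (key p hpt S hSE).2)
  rw [h1] at hpd
  exact (hall_iff.1 hS).2.2 p hp rfl hpd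

theorem s1421_ab {M E : Subgroup G} (hM : IsCoatom M) (hE : IsPiHallOf (sigma M)ᶜ E M)
    (hab : ∀ p ∈ tau2 M, ∀ S : Subgroup G, IsPiHallOf {p} S ⊤ → S ≤ 𝓒(S))
    (h13 : ∀ (q : ℕ) (K : Subgroup G), q.Prime → K ≤ E → Nat.card K = q →
        q ∈ tau1 M ∪ tau3 M → sigmaCore M ⊓ 𝓒(K) = ⊥) :
    (∃ A₀ : Subgroup G, A₀ ≤ E ∧ E ≤ 𝓝(A₀) ∧ A₀ ≤ 𝓒(A₀) ∧
        ∀ x ∈ sigmaCore M, x ≠ 1 → E ⊓ Subgroup.centralizer ({x} : Set G) ≤ A₀) ∧
      ∃ E₀ : Subgroup G, E₀ ≤ E ∧ Monoid.exponent E₀ = Monoid.exponent E ∧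
        ∀ e ∈ E₀, e ≠ 1 → sigmaCore M ⊓ Subgroup.centralizer ({e} : Set G) = ⊥ := by
  classical
  have hEM := hall_le hE
  have hEs : Group.IsSolvable E := solvable_sub hEM (max_sol hG hM)
  obtain ⟨hH, hHab⟩ := tau2_hall hG hM hE hab
  refine ⟨⟨piCoreOf (tau2 M) E, piCoreOf_le _ _, le_nz_piCoreOf _ _, hHab, fun x hx hx1 => ?_⟩, ?_⟩
  · exact le_hall_of_normal hH (le_nz_piCoreOf _ _) (cz_tau2 hG hM hE h13 hx hx1) inf_le_left
  have hdat : ∀ q : ℕ, ∃ (S : Subgroup G) (y : G), q ∈ tau2 M → y ∈ S ∧ S ≤ E ∧ E ≤ 𝓝(S) ∧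
      IsPiHallOf {q} S E ∧ (∀ s ∈ S, orderOf s ∣ orderOf y) ∧ E ≤ 𝓝(zpowers y) ∧
      ∀ x ∈ zpowers y, x ≠ 1 → sigmaCore M ⊓ Subgroup.centralizer ({x} : Set G) = ⊥ := by
    intro q
    by_cases hq : q ∈ tau2 M
    · obtain ⟨A₀, A, S, d⟩ := absOf hG hM hE hq (hab q hq)
      obtain ⟨y, hy, h1, h2, h3⟩ := d.exists_Y hG h13
      exact ⟨S, y, fun _ => ⟨hy, d.SE hG, d.ES hG, hall_le_of_le d.hS (d.SE hG) le_top, h1, h2,
        h3⟩⟩
    · exact ⟨⊥, 1, fun h => absurd h hq⟩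
  choose S y hSy using hdat
  obtain ⟨E₁, hE1⟩ := hall_exists (π := (tau2 M)ᶜ) hEs
  set τ : Finset ℕ := (Nat.card M).primeFactors.filter (· ∈ tau2 M) with hτ
  have hτ2 : ∀ q ∈ τ, q.Prime ∧ q ∈ tau2 M := by
    intro q hq
    rw [hτ, Finset.mem_filter] at hq
    exact ⟨Nat.prime_of_mem_primeFactors hq.1, hq.2⟩
  have hτ3 : ∀ q : ℕ, q.Prime → q ∣ Nat.card M → q ∈ tau2 M → q ∈ τ := by
    intro q hq hqd hqt
    rw [hτ, Finset.mem_filter]
    exact ⟨Nat.mem_primeFactors.2 ⟨hq, hqd, (card_pos' M).ne'⟩, hqt⟩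
  obtain ⟨E₀, hE0, hE10, hYE, hprop⟩ := assemble hEs (hall_le hE1) (fun q => zpowers (y q)) τ
    (fun q hq => (hτ2 q hq).1) (fun q hq => by
      obtain ⟨h1, h2, h3, h4, h5, h6, h7⟩ := hSy q (hτ2 q hq).2
      exact ⟨zpowers_le.2 (h2 h1), h6, (hall_isPi h4).le (zpowers_le.2 h1)⟩)
    (fun q hq hd => hall_isPi hE1 q (hτ2 q hq).1 hd (hτ2 q hq).2)
  refine ⟨E₀, hE0, exp_eq hE0 ?_, fun e he he1 => fpf_of_prime ?_ he he1⟩
  · intro q k g hq hg hgo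
    rcases Nat.eq_zero_or_pos k with h0 | h0
    · subst h0
      exact ⟨1, E₀.one_mem, by simp⟩
    have hqM : q ∣ Nat.card M := by
      have h1 : q ∣ orderOf g := by rw [hgo]; exact dvd_pow_self q (by omega)
      exact h1.trans (Subgroup.orderOf_dvd_natCard _ (hEM hg))
    by_cases hqt : q ∈ tau2 M
    · obtain ⟨h1, h2, h3, h4, h5, h6, h7⟩ := hSy q hqt
      have hqτ := hτ3 q hq hqM hqt
      refine ⟨y q, hYE q hqτ (mem_zpowers _), ?_⟩
      rw [← hgo]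
      apply h5
      have h8 : zpowers g ≤ S q := by
        refine le_hall_of_normal h4 h3 ?_ (zpowers_le.2 hg)
        rw [isPi_zpowers, hgo]
        intro p hp hpd
        exact (Nat.prime_dvd_prime_iff_eq hp hq).1 (hp.dvd_of_dvd_pow hpd)
      exact h8 (mem_zpowers g)
    · have h8 : IsPi (tau2 M)ᶜ (zpowers g) := by
        rw [isPi_zpowers, hgo]
        intro p hp hpd
        have h9 := (Nat.prime_dvd_prime_iff_eq hp hq).1 (hp.dvd_of_dvd_pow hpd)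
        rw [h9]; exact hqt
      obtain ⟨m, hm, hmg⟩ := hall_subj hEs hE1 h8 (zpowers_le.2 hg)
      refine ⟨m * g * m⁻¹, hE10 (hmg (conj_mem_cj (mem_zpowers g))), ?_⟩
      rw [orderOf_conj', hgo]
  · intro r x hr hx hxr
    have hx1 : x ≠ 1 := by
      rintro rfl
      rw [orderOf_one] at hxr
      exact hr.one_lt.ne hxr
    rcases hprop r x hr hx hxr with ⟨h1, h2⟩ | ⟨h1, g, hg, h2⟩
    · exact (hSy r (hτ2 r h1).2).2.2.2.2.2.2 x h2 hx1
    · refine fpf_conj (g := g) ((hEM hg |> le_nz_sigmaCore hG M)) ?_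
      have h3 := hall_le hE1 h2
      have h4 : orderOf (g * x * g⁻¹) = r := by rw [orderOf_conj', hxr]
      have h5 : r ∣ Nat.card E := by rw [← h4]; exact Subgroup.orderOf_dvd_natCard _ h3
      have hrσ := hall_isPi hE r hr h5
      have hrM := h5.trans (card_dvd_of_le hEM)
      have hrt : r ∉ tau2 M := fun h => h1 (hτ3 r hr hrM h)
      have h6 : r ∈ tau1 M ∪ tau3 M := by
        rcases tau_cases hG hM hr hrM hrσ with h | h | h
        · exact Or.inl h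
        · exact absurd h hrt
        · exact Or.inr h
      rw [cz1_eq]
      exact h13 r (zpowers (g * x * g⁻¹)) hr (zpowers_le.2 h3)
        (by rw [Nat.card_zpowers, h4]) h6

end

end CfsgLib.BGPi
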