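import Cfsg.Agent.EqBase
import Cfsg.Agent.LibGaschutz
import Cfsg.Agent.LibBG17f

/-! B & G section 12: the subgroup `E₀`, nonabelian Sylow subgroups. -/

open Subgroup
open scoped Pointwise commutatorElement

namespace CfsgLib.BGPi

open Cfsg

universe u v w

section
variable {G : Type u} [Group G] [Finite G]

theorem mul_pow_mem_normal {A₀ E : Subgroup G} (hn : E ≤ 𝓝(A₀)) {a e : G} (ha : a ∈ A₀)
    (he : e ∈ E) (n : ℕ) : (a * e) ^ n * (e ^ n)⁻¹ ∈ A₀ := by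
  induction n with
  | zero => simp
  | succ n ih =>
    have h1 : (a * e) ^ (n + 1) * (e ^ (n + 1))⁻¹
        = ((a * e) ^ n * (e ^ n)⁻¹) * (e ^ n * a * (e ^ n)⁻¹) := by
      rw [pow_succ, pow_succ]; group
    rw [h1]
    exact A₀.mul_mem ih (le_nz.1 hn _ (E.pow_mem he n) a ha)

theorem exists_compl_rel {E A₀ P Y : Subgroup G} (hn : E ≤ 𝓝(A₀)) (hab : A₀ ≤ 𝓒(A₀))
    (hAP : A₀ ≤ P) (hPE : P ≤ E) (hcop : (Nat.card A₀).Coprime (P.relIndex E))
    (hi : A₀ ⊓ Y = ⊥) (hs : A₀ ⊔ Y = P) :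
    ∃ E₀ ≤ E, A₀ ⊓ E₀ = ⊥ ∧ A₀ ⊔ E₀ = E := by
  have hAE := hAP.trans hPE
  have hYP : Y ≤ P := by rw [← hs]; exact le_sup_right
  have hYE := hYP.trans hPE
  haveI := normal_subgroupOf hAE hn
  haveI : IsMulCommutative (A₀.subgroupOf E) := by
    refine ⟨⟨fun a b => Subtype.ext (Subtype.ext ?_)⟩⟩
    exact mem_cz.1 (hab b.2) _ a.2
  obtain ⟨H, hH⟩ := CfsgLib.Gaschutz.exists_complement (A₀.subgroupOf E) (P.subgroupOf E)
    (by intro x hx; exact hAP hx) (by rw [card_subgroupOf hAE]; exact hcop)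
    (Y.subgroupOf E) (by intro x hx; exact hYP hx) (by
      rw [eq_bot_iff]
      intro x hx
      have h1 : (x : G) ∈ A₀ ⊓ Y := ⟨hx.2, hx.1⟩
      rw [hi] at h1
      exact Subgroup.mem_bot.2 (Subtype.ext (Subgroup.mem_bot.1 h1))) (by
      apply Subgroup.map_injective (Subgroup.subtype_injective E)
      rw [Subgroup.map_sup, subgroupOf_map hAE, subgroupOf_map hYE, subgroupOf_map hPE, hs])
  refine ⟨H.map E.subtype, Subgroup.map_subtype_le H, ?_, ?_⟩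
  · rw [eq_bot_iff]
    rintro x ⟨hx1, y, hy, rfl⟩
    have h1 : y ∈ A₀.subgroupOf E ⊓ H := ⟨hx1, hy⟩
    rw [hH.disjoint.eq_bot] at h1
    rw [Subgroup.mem_bot.1 h1]
    exact Subgroup.mem_bot.2 rfl
  · have h1 := hH.sup_eq_top
    have h2 := congrArg (Subgroup.map E.subtype) h1
    rw [Subgroup.map_sup, subgroupOf_map hAE] at h2
    rw [h2]
    exact (Subgroup.map_subtype_le _).antisymm (fun x hx => ⟨⟨x, hx⟩, Subgroup.mem_top _, rfl⟩)

variable (hG : IsMinSimpleOddOrder G)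
include hG

theorem s1421_nonab {M E : Subgroup G} (hM : IsCoatom M) (hE : IsPiHallOf (sigma M)ᶜ E M)
    {p : ℕ} (hp : p ∈ tau2 M) {S' : Subgroup G} (hS' : IsPiHallOf {p} S' ⊤) (hn' : ¬ S' ≤ 𝓒(S'))
    (h13 : ∀ (q : ℕ) (K : Subgroup G), q.Prime → K ≤ E → Nat.card K = q →
        q ∈ tau1 M ∪ tau3 M → sigmaCore M ⊓ 𝓒(K) = ⊥) :
    (∃ A₀ : Subgroup G, A₀ ≤ E ∧ E ≤ 𝓝(A₀) ∧ A₀ ≤ 𝓒(A₀) ∧
        ∀ x ∈ sigmaCore M, x ≠ 1 → E ⊓ Subgroup.centralizer ({x} : Set G) ≤ A₀) ∧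
      ∃ E₀ : Subgroup G, E₀ ≤ E ∧ Monoid.exponent E₀ = Monoid.exponent E ∧
        ∀ e ∈ E₀, e ≠ 1 → sigmaCore M ⊓ Subgroup.centralizer ({e} : Set G) = ⊥ := by
  have hEM := hall_le hE
  have hEs : Group.IsSolvable E := solvable_sub hEM (max_sol hG hM)
  obtain ⟨A, hAE, A₀, c⟩ := exists_exc_tau2 hG hM hE hp
  have hpp := c.hp
  obtain ⟨P, hP, hAP⟩ := exists_syl_ge hpp (elab_isPi hpp c.el) hAE
  obtain ⟨S, hS, hPS⟩ := exists_syl_ge hpp (hall_isPi hP) (le_top : P ≤ ⊤)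
  have hn : ¬ S ≤ 𝓒(S) := by
    intro h
    obtain ⟨m, -, hm⟩ := syl_conj hpp hS hS'
    apply hn'
    rw [← hm, cz_cj]
    exact cj_mono h m
  have hAS := hAP.trans hPS
  obtain ⟨Z, Y, hs, hZ, hSA0, hAcz, hlines⟩ := c.nonab hG hS hAS hn
  have ht2 := (c.nonab_fit hG hE hAE hS hAS hn).1
  have hA0Z : A₀ ≠ Z := hZ
  obtain ⟨hi, hsup⟩ := hs.spl A₀ c.A0 c.card0 hA0Z
  have hPe : P = S ⊓ M := by
    have h1 : IsPiHallOf {p} P M := hall_trans hP hE (Set.singleton_subset_iff.2 c.ns)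
    exact hall_eq_of_le h1 ((hall_isPi hS).le inf_le_left) inf_le_right
      (le_inf hPS (hall_le h1))
  have hP2 : A₀ ⊔ Y = P := by rw [hsup, hPe, c.S_inf hG ((hall_isPi hS).isPGroup hpp) hAS]
  have hA0E : A₀ ≤ E := c.A0.trans hAE
  have hEn : E ≤ 𝓝(A₀) := by
    rw [← hAcz]
    exact le_nz_inf (c.nzE hG hE hAE) (le_nz_cz (hEM.trans (le_nz_sigmaCore hG M)))
  have hAab : A₀ ≤ 𝓒(A₀) := comm_prime_cz hpp c.card0
  have hYP : Y ≤ P := by rw [← hP2]; exact le_sup_right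
  have hYE : Y ≤ E := hYP.trans (hall_le hP)
  have hYA : Y ≤ 𝓒(A₀) := (hs.YP.trans inf_le_right).trans (cz_anti c.A0)
  have ha0 : ∀ a ∈ A₀, a ^ p = 1 := fun a ha => c.el.2 a (c.A0 ha)
  have hPdec : ∀ t ∈ P, ∃ a ∈ A₀, ∃ y ∈ Y, Commute a y ∧ a * y = t := by
    intro t ht
    rw [← hP2] at ht
    rw [mem_sup_of_nz' (hYA.trans (cz_le_nz _))] at ht
    obtain ⟨a, ha, y, hy, rfl⟩ := ht
    exact ⟨a, ha, y, hy, mem_cz.1 (hYA hy) a ha, rfl⟩
  -- lines centralising something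
  have hline : ∀ t ∈ E, t ^ p = 1 → t ≠ 1 → ∀ x ∈ sigmaCore M, x ≠ 1 → Commute t x → t ∈ A₀ := by
    intro t ht htp ht1 x hx hx1 htx
    have h1 : orderOf t = p := by
      haveI : Fact p.Prime := ⟨hpp⟩
      exact orderOf_eq_prime htp ht1
    have h2 : zpowers t ≤ A := c.line_le hG hE hAE (zpowers_le.2 ht) (by rw [Nat.card_zpowers, h1])
    by_contra h3
    have h4 := (hlines (zpowers t) h2 (by rw [Nat.card_zpowers, h1])
      (fun h => h3 (h ▸ mem_zpowers t))).1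
    have h5 : x ∈ sigmaCore M ⊓ 𝓒(zpowers t) := by
      refine ⟨hx, ?_⟩
      rw [← cz1_eq]
      exact Subgroup.mem_centralizer_singleton_iff.2 htx.symm.eq
    rw [h4] at h5
    exact hx1 (Subgroup.mem_bot.1 h5)
  have hPx : ∀ t ∈ P, ∀ x ∈ sigmaCore M, x ≠ 1 → Commute t x → t ∈ A₀ := by
    intro t ht x hx hx1 htx
    by_cases ht1 : t = 1
    · rw [ht1]; exact A₀.one_mem
    by_cases htp : t ^ p = 1
    · exact hline t (hall_le hP ht) htp ht1 x hx hx1 htx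
    exfalso
    obtain ⟨a, ha, y, hy, hay, rfl⟩ := hPdec t ht
    obtain ⟨k, hk⟩ := ((hall_isPi hP).isPGroup hpp) ⟨_, ht⟩
    have hk' : (a * y) ^ (p ^ k) = 1 := congrArg Subtype.val hk
    obtain ⟨j, hj1, hj2⟩ := exists_last (C := (⊥ : Subgroup G)) (x := (a * y) ^ p) (r := p)
      (k := k) (fun h => htp (Subgroup.mem_bot.1 h)) (by
        rw [← pow_mul, mul_comm, pow_mul, hk', one_pow]; exact one_mem _)
    set w := ((a * y) ^ p) ^ (p ^ j) with hw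
    have hw1 : w ≠ 1 := fun h => hj1 (Subgroup.mem_bot.2 h)
    have hwp : w ^ p = 1 := Subgroup.mem_bot.1 hj2
    have hwE : w ∈ E := E.pow_mem (E.pow_mem (hall_le hP ht) _) _
    have hwx : Commute w x := (htx.pow_left p).pow_left _
    have hwA := hline w hwE hwp hw1 x hx hx1 hwx
    have hwY : w ∈ Y := by
      rw [hw, hay.mul_pow, ha0 a ha, one_mul]
      exact Y.pow_mem (Y.pow_mem hy _) _
    have h1 : w ∈ A₀ ⊓ Y := ⟨hwA, hwY⟩
    rw [hi] at h1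
    exact hw1 (Subgroup.mem_bot.1 h1)
  have hT : ∀ x ∈ sigmaCore M, x ≠ 1 → E ⊓ Subgroup.centralizer ({x} : Set G) ≤ A₀ := by
    intro x hx hx1 t ht
    have h1 := cz_tau2 hG hM hE h13 hx hx1
    rw [ht2] at h1
    have h2 : IsPi {p} (zpowers t) := h1.le (zpowers_le.2 ht)
    obtain ⟨g, hg, hgt⟩ := syl_subj hpp hP h2 (zpowers_le.2 ht.1)
    have h3 : g * t * g⁻¹ ∈ P := hgt (conj_mem_cj (mem_zpowers t))
    have h4 : g * x * g⁻¹ ∈ sigmaCore M :=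
      le_nz.1 (le_nz_sigmaCore hG M) g (hEM hg) x hx
    have h5 : Commute t x := (Subgroup.mem_centralizer_singleton_iff.1 ht.2)
    have h6 : Commute (g * t * g⁻¹) (g * x * g⁻¹) := by
      show g * t * g⁻¹ * (g * x * g⁻¹) = g * x * g⁻¹ * (g * t * g⁻¹)
      calc g * t * g⁻¹ * (g * x * g⁻¹) = g * (t * x) * g⁻¹ := by group
        _ = g * (x * t) * g⁻¹ := by rw [h5.eq]
        _ = g * x * g⁻¹ * (g * t * g⁻¹) := by group
    have h7 := hPx _ h3 _ h4 (fun h => hx1 (conj_eq_one_iff.1 h)) h6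
    have h8 := le_nz.1 hEn g⁻¹ (E.inv_mem hg) _ h7
    have h9 : g⁻¹ * (g * t * g⁻¹) * g⁻¹⁻¹ = t := by group
    rwa [h9] at h8
  refine ⟨⟨A₀, hA0E, hEn, hAab, hT⟩, ?_⟩
  have hcop : (Nat.card A₀).Coprime (P.relIndex E) := by
    rw [c.card0, Nat.Prime.coprime_iff_not_dvd hpp]
    exact (hall_iff.1 hP).2.2 p hpp rfl
  obtain ⟨E₀, hE0, hE0i, hE0s⟩ := exists_compl_rel hEn hAab (c.A0.trans hAP) (hall_le hP) hcop hi hP2
  have hdec : ∀ g ∈ E, ∃ a ∈ A₀, ∃ e ∈ E₀, a * e = g := by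
    intro g hg
    rw [← hE0s, mem_sup_of_nz' (hE0.trans hEn)] at hg
    exact hg
  have hpow : ∀ a ∈ A₀, ∀ e ∈ E₀, (a * e) ^ orderOf e ∈ A₀ := by
    intro a ha e he
    have h1 := mul_pow_mem_normal hEn ha (hE0 he) (orderOf e)
    rwa [pow_orderOf_eq_one, inv_one, mul_one] at h1
  refine ⟨E₀, hE0, exp_eq hE0 ?_, ?_⟩
  · intro q k g hq hg hgo
    by_cases hqp : q = p
    · subst hqp
      have hy : ∃ y ∈ Y, q ^ k ∣ orderOf y := by
        have hgπ : IsPi {q} (zpowers g) := by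
          rw [isPi_zpowers, hgo]
          intro r hr hrd
          exact (Nat.prime_dvd_prime_iff_eq hr hq).1 (hr.dvd_of_dvd_pow hrd)
        obtain ⟨m, hm, hmg⟩ := syl_subj hpp hP hgπ (zpowers_le.2 hg)
        have h3 : m * g * m⁻¹ ∈ P := hmg (conj_mem_cj (mem_zpowers g))
        obtain ⟨a, ha, y, hy, hay, hayg⟩ := hPdec _ h3
        have h4 : orderOf (a * y) = q ^ k := by rw [hayg, orderOf_conj', hgo]
        by_cases hy1 : y = 1
        · -- then `k ≤ 1`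
          have hk1 : q ^ k ∣ q := by
            rw [← h4, hy1, mul_one]
            exact orderOf_dvd_of_pow_eq_one (ha0 a ha)
          obtain ⟨z, hz, hz1⟩ := (Subgroup.ne_bot_iff_exists_ne_one).1
            (ne_bot_of_card_prime hpp hs.cZ)
            |> fun ⟨z, hz⟩ => (⟨z.1, z.2, fun h => hz (Subtype.ext h)⟩ : ∃ z : G, z ∈ Z ∧ z ≠ 1)
          have h5 := zpowers_eq_of_prime hpp hs.cZ hz hz1
          refine ⟨z, hs.ZY hz, ?_⟩
          have h6 : orderOf z = q := by rw [← Nat.card_zpowers, h5, hs.cZ]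
          rw [h6]; exact hk1
        · refine ⟨y, hy, ?_⟩
          rw [← h4]
          apply orderOf_dvd_of_pow_eq_one
          rw [hay.mul_pow, pow_orderOf_eq_one, mul_one]
          have h5 : q ∣ orderOf y := by
            have h6 : IsPi {q} (zpowers y) := (hall_isPi hP).le (zpowers_le.2 (hYP hy))
            have h7 : zpowers y ≠ ⊥ := fun h => hy1 (zpowers_eq_bot.1 h)
            have h8 := pgroup_dvd_card hpp (h6.isPGroup hpp) h7
            rwa [Nat.card_zpowers] at h8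
          obtain ⟨n, hn⟩ := h5
          rw [hn, pow_mul, ha0 a ha, one_pow]
      obtain ⟨y, hyY, hyd⟩ := hy
      obtain ⟨a, ha, e, he, hae⟩ := hdec y (hYE hyY)
      refine ⟨e, he, hyd.trans ?_⟩
      apply orderOf_dvd_of_pow_eq_one
      have h1 : y ^ orderOf e ∈ A₀ ⊓ Y := ⟨by rw [← hae]; exact hpow a ha e he, Y.pow_mem hyY _⟩
      rw [hi] at h1
      exact Subgroup.mem_bot.1 h1
    · obtain ⟨a, ha, e, he, hae⟩ := hdec g hg
      refine ⟨e, he, ?_⟩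
      have h1 : g ^ (orderOf e * p) = 1 := by
        rw [pow_mul, ← hae]
        exact ha0 _ (hpow a ha e he)
      have h2 := orderOf_dvd_of_pow_eq_one h1
      rw [hgo] at h2
      exact Nat.Coprime.dvd_of_dvd_mul_right
        (Nat.Coprime.pow_left k ((Nat.coprime_primes hq hpp).2 hqp)) h2
  · intro e he he1
    rw [eq_bot_iff]
    rintro x ⟨hx, hxe⟩
    by_contra hx1
    have hx1' : x ≠ 1 := fun h => hx1 (Subgroup.mem_bot.2 h)
    have h1 : e ∈ A₀ := hT x hx hx1' ⟨hE0 he, Subgroup.mem_centralizer_singleton_iff.2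
      (Subgroup.mem_centralizer_singleton_iff.1 hxe).symm⟩
    have h2 : e ∈ A₀ ⊓ E₀ := ⟨h1, he⟩
    rw [hE0i] at h2
    exact he1 (Subgroup.mem_bot.1 h2)

theorem s1421 {M E : Subgroup G} (hM : IsCoatom M) (hE : IsPiHallOf (sigma M)ᶜ E M)
    (h13 : ∀ (q : ℕ) (K : Subgroup G), q.Prime → K ≤ E → Nat.card K = q →
        q ∈ tau1 M ∪ tau3 M → sigmaCore M ⊓ 𝓒(K) = ⊥) :
    (∃ A₀ : Subgroup G, A₀ ≤ E ∧ E ≤ 𝓝(A₀) ∧ A₀ ≤ 𝓒(A₀) ∧
        ∀ x ∈ sigmaCore M, x ≠ 1 → E ⊓ Subgroup.centralizer ({x} : Set G) ≤ A₀) ∧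
      ∃ E₀ : Subgroup G, E₀ ≤ E ∧ Monoid.exponent E₀ = Monoid.exponent E ∧
        ∀ e ∈ E₀, e ≠ 1 → sigmaCore M ⊓ Subgroup.centralizer ({e} : Set G) = ⊥ := by
  by_cases hab : ∀ p ∈ tau2 M, ∀ S : Subgroup G, IsPiHallOf {p} S ⊤ → S ≤ 𝓒(S)
  · exact s1421_ab hG hM hE hab h13
  · push Not at hab
    obtain ⟨p, hp, S, hS, hn⟩ := hab
    exact s1421_nonab hG hM hE hp hS hn h13

end

end CfsgLib.BGPi
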