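import Cfsg.Agent.EqBase
import Cfsg.Agent.LibBG17g

/-! B & G section 15: the subgroup `U₀`. -/

open Subgroup
open scoped Pointwise commutatorElement

namespace CfsgLib.BGPi

open Cfsg

universe u v w

section
variable {G : Type u} [Group G] [Finite G]
variable (hG : IsMinSimpleOddOrder G)
include hG

theorem h13_of_kappa {M E : Subgroup G} (hM : IsCoatom M) (hE : IsPiHallOf (sigma M)ᶜ E M)
    (hκ : kappa M = ∅) : ∀ (q : ℕ) (K : Subgroup G), q.Prime → K ≤ E → Nat.card K = q →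
        q ∈ tau1 M ∪ tau3 M → sigmaCore M ⊓ 𝓒(K) = ⊥ := by
  intro q K hq hK hKc hq13
  by_contra h
  have h1 : q ∈ kappa M := by
    rw [kappa_iff hG]
    rcases hq13 with h2 | h2
    · exact ⟨hq, h2.2.1, h2.2.2.2.2, K, hK.trans (hall_le hE), hKc, h⟩
    · exact ⟨hq, h2.2.1, h2.2.2.2, K, hK.trans (hall_le hE), hKc, h⟩
  rw [hκ] at h1
  exact h1

theorem kappa_empty_of {M K : Subgroup G} (hM : IsCoatom M) (hK : IsPiHallOf (kappa M) K M)
    (hK1 : K = ⊥) : kappa M = ∅ := by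
  rw [Set.eq_empty_iff_forall_notMem]
  intro p hp
  have h1 := hall_dvd' hp.1 hp hK hp.2.1
  rw [hK1, Subgroup.card_bot] at h1
  exact hp.1.one_lt.ne' (Nat.dvd_one.1 h1)

theorem fpf_of_line {V T : Subgroup G} {q : ℕ} (hq : q.Prime) (hT : IsPi {q} T)
    (h : ∀ X ≤ T, Nat.card X = q → V ⊓ 𝓒(X) = ⊥) {x : G} (hx : x ∈ T) (hx1 : x ≠ 1) :
    V ⊓ Subgroup.centralizer ({x} : Set G) = ⊥ := by
  have h1 : zpowers x ≤ T := zpowers_le.2 hx
  have h2 : zpowers x ≠ ⊥ := fun h => hx1 (zpowers_eq_bot.1 h)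
  obtain ⟨X, hX, hXc⟩ := exists_card_prime hq (pgroup_dvd_card hq ((hT.le h1).isPGroup hq) h2)
  rw [eq_bot_iff, ← h X (hX.trans h1) hXc, cz1_eq]
  exact inf_le_inf_left _ (cz_anti hX)

theorem s1360_data {M K U : Subgroup G} (hM : IsCoatom M) (hKU : IsSigmaDecomposition M K U)
    {q : ℕ} (hq : q.Prime) (hqU : q ∣ Nat.card U) :
    ∃ y ∈ U, IsPi {q} (zpowers y) ∧
      (∀ s ∈ U, IsPi {q} (zpowers s) → orderOf s ∣ orderOf y) ∧
      ∀ x ∈ zpowers y, x ≠ 1 → sigmaCore M ⊓ Subgroup.centralizer ({x} : Set G) = ⊥ := by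
  obtain ⟨hE, hUE, hKE, -⟩ := dec_facts hG hM hKU
  have hEM := hall_le hE
  have hUle := hall_le hUE
  have hUn : U ⊔ K ≤ 𝓝(U) := sup_le le_normalizer hKU.normal
  have hqκ : q ∉ kappa M := hall_isPi hUE q hq hqU
  have hqE : q ∣ Nat.card ↥(U ⊔ K) := hqU.trans (card_dvd_of_le hUle)
  have hqσ : q ∉ sigma M := hall_isPi hE q hq hqE
  have hqM := hqE.trans (card_dvd_of_le hEM)
  have hle : ∀ P : Subgroup G, P ≤ U ⊔ K → IsPi {q} P → P ≤ U := fun P hP hPπ =>
    le_hall_of_normal hUE hUn (hPπ.mono (Set.singleton_subset_iff.2 hqκ)) hP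
  by_cases hq2 : q ∈ tau2 M
  · by_cases hab : ∀ S : Subgroup G, IsPiHallOf {q} S ⊤ → S ≤ 𝓒(S)
    · obtain ⟨A₀, A, S, d⟩ := absOf hG hM hE hq2 hab
      obtain ⟨y, hy, h1, h2⟩ := d.exists_y hG
      have hSπ := hall_isPi d.hS
      refine ⟨y, hle S (d.SE hG) hSπ hy, hSπ.le (zpowers_le.2 hy), ?_, h2⟩
      intro s hs hsπ
      apply h1
      have h3 : zpowers s ≤ S := le_hall_of_normal (hall_le_of_le d.hS (d.SE hG) le_top)
        (d.ES hG) hsπ (zpowers_le.2 (hUle hs))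
      exact h3 (mem_zpowers s)
    · push Not at hab
      obtain ⟨S', hS', hn'⟩ := hab
      obtain ⟨A, hAE, A₀, c⟩ := exists_exc_tau2 hG hM hE hq2
      have hpp := c.hp
      obtain ⟨P, hP, hAP⟩ := exists_syl_ge hpp (elab_isPi hpp c.el) hAE
      obtain ⟨S, hS, hPS⟩ := exists_syl_ge hpp (hall_isPi hP) (le_top : P ≤ ⊤)
      have hn : ¬ S ≤ 𝓒(S) := by
        intro h
        obtain ⟨m, -, hm⟩ := syl_conj hpp hS hS'
        apply hn'
        rw [← hm, cz_cj]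
        exact cj_mono h m
      have hAS := hAP.trans hPS
      obtain ⟨Z, Y, hs, hZ, hSA0, hAcz, hlines⟩ := c.nonab hG hS hAS hn
      obtain ⟨hi, hsup⟩ := hs.spl A₀ c.A0 c.card0 hZ
      have hPe : P = S ⊓ M := by
        have h1 : IsPiHallOf {q} P M := hall_trans hP hE (Set.singleton_subset_iff.2 c.ns)
        exact hall_eq_of_le h1 ((hall_isPi hS).le inf_le_left) inf_le_right
          (le_inf hPS (hall_le h1))
      have hP2 : A₀ ⊔ Y = P := by rw [hsup, hPe, c.S_inf hG ((hall_isPi hS).isPGroup hpp) hAS]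
      have hYP : Y ≤ P := by rw [← hP2]; exact le_sup_right
      have hYA : Y ≤ 𝓒(A₀) := (hs.YP.trans inf_le_right).trans (cz_anti c.A0)
      have ha0 : ∀ a ∈ A₀, a ^ q = 1 := fun a ha => c.el.2 a (c.A0 ha)
      have hPπ := hall_isPi hP
      haveI := hs.Yc
      obtain ⟨y, hy⟩ := IsCyclic.exists_zpow_surjective (G := Y)
      have hyY : zpowers (y : G) = Y := by
        apply le_antisymm (zpowers_le.2 y.2)
        intro z hz
        obtain ⟨n, hn⟩ := hy ⟨z, hz⟩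
        exact mem_zpowers_iff.2 ⟨n, congrArg Subtype.val hn⟩
      have hqy : q ∣ orderOf (y : G) := by
        rw [← Nat.card_zpowers, hyY, ← hs.cZ]
        exact card_dvd_of_le hs.ZY
      have hyo : ∀ z ∈ Y, z ^ orderOf (y : G) = 1 := by
        intro z hz
        rw [← hyY] at hz
        obtain ⟨n, rfl⟩ := mem_zpowers_iff.1 hz
        rw [← zpow_natCast, ← zpow_mul, mul_comm, zpow_mul, zpow_natCast, pow_orderOf_eq_one,
          one_zpow]
      refine ⟨y, hle P (hall_le hP) hPπ (hYP y.2), hPπ.le (zpowers_le.2 (hYP y.2)), ?_, ?_⟩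
      · intro s hs' hsπ
        obtain ⟨m, hm, hmg⟩ := syl_subj hpp hP hsπ (zpowers_le.2 (hUle hs'))
        have h3 : m * s * m⁻¹ ∈ P := hmg (conj_mem_cj (mem_zpowers s))
        rw [← hP2, mem_sup_of_nz' (hYA.trans (cz_le_nz _))] at h3
        obtain ⟨a, ha, z, hz, haz⟩ := h3
        have hcomm : Commute a z := mem_cz.1 (hYA hz) a ha
        rw [← orderOf_conj' m s, ← haz]
        apply orderOf_dvd_of_pow_eq_one
        rw [hcomm.mul_pow, hyo z hz, mul_one]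
        obtain ⟨n, hn⟩ := hqy
        rw [hn, pow_mul, ha0 a ha, one_pow]
      · intro x hx hx1
        rw [hyY] at hx
        refine fpf_of_line hG hpp (hPπ.le hYP) ?_ hx hx1
        intro X hX hXc
        have h1 : X = Z := cyc_card_prime_eq hs.Yc hpp hX hs.ZY hXc hs.cZ
        rw [h1]
        exact (hlines Z hs.ZA hs.cZ (fun h => hZ h.symm)).1
  · have hrk : PRankLE q 1 M := by
      rcases tau_cases hG hM hq hqM hqσ with h | h | h
      · exact h.2.2.2.2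
      · exact absurd h hq2
      · exact h.2.2.2
    obtain ⟨P, hP⟩ := exists_syl hq (U ⊔ K)
    have hPπ := hall_isPi hP
    have hPM := (hall_le hP).trans hEM
    have hcyc : IsCyclic P := syl_cyc hG hq hqM hrk (hPπ.isPGroup hq) hPM
    obtain ⟨y, hy⟩ := IsCyclic.exists_zpow_surjective (G := P)
    have hyY : zpowers (y : G) = P := by
      apply le_antisymm (zpowers_le.2 y.2)
      intro z hz
      obtain ⟨n, hn⟩ := hy ⟨z, hz⟩
      exact mem_zpowers_iff.2 ⟨n, congrArg Subtype.val hn⟩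
    refine ⟨y, hle P (hall_le hP) hPπ y.2, by rw [hyY]; exact hPπ, ?_, ?_⟩
    · intro s hs' hsπ
      obtain ⟨m, hm, hmg⟩ := syl_subj hq hP hsπ (zpowers_le.2 (hUle hs'))
      have h3 : m * s * m⁻¹ ∈ P := hmg (conj_mem_cj (mem_zpowers s))
      rw [← orderOf_conj' m s, ← Nat.card_zpowers (y : G), hyY]
      exact Subgroup.orderOf_dvd_natCard _ h3
    · intro x hx hx1
      rw [hyY] at hx
      refine fpf_of_line hG hq hPπ ?_ hx hx1
      intro X hX hXc
      by_contra h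
      exact hqκ ((kappa_iff hG).2 ⟨hq, hqσ, hrk, X, hX.trans hPM, hXc, h⟩)

theorem s1360 {M K U : Subgroup G} (hM : IsCoatom M) (hKU : IsSigmaDecomposition M K U) :
    ∃ U₀ : Subgroup G, U₀ ≤ U ∧ Monoid.exponent U₀ = Monoid.exponent U ∧
      ∀ u ∈ U₀, u ≠ 1 → sigmaCore M ⊓ Subgroup.centralizer ({u} : Set G) = ⊥ := by
  classical
  obtain ⟨hE, hUE, hKE, -⟩ := dec_facts hG hM hKU
  by_cases hK1 : K = ⊥
  · have hκ := kappa_empty_of hG hM hKU.hall hK1
    have hE' : IsPiHallOf (sigma M)ᶜ U M := by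
      rw [hK1, sup_bot_eq] at hE
      exact hE
    exact (s1421 hG hM hE' (h13_of_kappa hG hM hE' hκ)).2
  have hUab := dec_U_ab hG hM hKU hK1
  have hUM := (hall_le hUE).trans (hall_le hE)
  have hdat : ∀ q : ℕ, ∃ y : G, q.Prime → q ∣ Nat.card U → y ∈ U ∧ IsPi {q} (zpowers y) ∧
      (∀ s ∈ U, IsPi {q} (zpowers s) → orderOf s ∣ orderOf y) ∧
      ∀ x ∈ zpowers y, x ≠ 1 → sigmaCore M ⊓ Subgroup.centralizer ({x} : Set G) = ⊥ := by
    intro q
    by_cases hq : q.Prime ∧ q ∣ Nat.card U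
    · obtain ⟨y, h1, h2, h3, h4⟩ := s1360_data hG hM hKU hq.1 hq.2
      exact ⟨y, fun _ _ => ⟨h1, h2, h3, h4⟩⟩
    · exact ⟨1, fun h1 h2 => absurd ⟨h1, h2⟩ hq⟩
  choose y hy using hdat
  have hτ : ∀ q ∈ (Nat.card U).primeFactors, q.Prime ∧ q ∣ Nat.card U := fun q hq =>
    ⟨Nat.prime_of_mem_primeFactors hq, Nat.dvd_of_mem_primeFactors hq⟩
  obtain ⟨E₀, hE0, -, hYE, hprop⟩ := assemble (solvable_sub hUM (max_sol hG hM))
    (bot_le : (⊥ : Subgroup G) ≤ U) (fun q => zpowers (y q)) (Nat.card U).primeFactors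
    (fun q hq => (hτ q hq).1) (fun q hq => by
      obtain ⟨h1, h2, h3, h4⟩ := hy q (hτ q hq).1 (hτ q hq).2
      exact ⟨zpowers_le.2 h1, (hUab.trans (cz_anti (zpowers_le.2 h1))).trans (cz_le_nz _), h2⟩)
    (fun q hq hd => by
      rw [Subgroup.card_bot] at hd
      exact (hτ q hq).1.one_lt.ne' (Nat.dvd_one.1 hd))
  refine ⟨E₀, hE0, exp_eq hE0 ?_, fun e he he1 => fpf_of_prime ?_ he he1⟩
  · intro q k g hq hg hgo
    rcases Nat.eq_zero_or_pos k with h0 | h0
    · subst h0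
      exact ⟨1, E₀.one_mem, by simp⟩
    have hqU : q ∣ Nat.card U := by
      have h1 : q ∣ orderOf g := by rw [hgo]; exact dvd_pow_self q (by omega)
      exact h1.trans (Subgroup.orderOf_dvd_natCard _ hg)
    obtain ⟨h1, h2, h3, h4⟩ := hy q hq hqU
    refine ⟨y q, hYE q (Nat.mem_primeFactors.2 ⟨hq, hqU, (card_pos' U).ne'⟩) (mem_zpowers _), ?_⟩
    rw [← hgo]
    apply h3 g hg
    rw [isPi_zpowers, hgo]
    intro p hp hpd
    exact (Nat.prime_dvd_prime_iff_eq hp hq).1 (hp.dvd_of_dvd_pow hpd)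
  · intro r x hr hx hxr
    have hx1 : x ≠ 1 := by
      rintro rfl
      rw [orderOf_one] at hxr
      exact hr.one_lt.ne hxr
    rcases hprop r x hr hx hxr with ⟨h1, h2⟩ | ⟨h1, g, hg, h2⟩
    · exact (hy r (hτ r h1).1 (hτ r h1).2).2.2.2 x h2 hx1
    · exfalso
      exact hx1 (conj_eq_one_iff.1 (Subgroup.mem_bot.1 h2))

end

end CfsgLib.BGPi
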