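import Cfsg.Agent.EqBase
import Cfsg.Agent.LibBG17h

/-! B & G section 16: groups of type F and type II. -/

open Subgroup
open scoped Pointwise commutatorElement

namespace CfsgLib.BGPi

open Cfsg

universe u v w

section
variable {G : Type u} [Group G] [Finite G]

theorem exponent_subgroupOf {H N : Subgroup G} (h : H ≤ N) :
    Monoid.exponent (H.subgroupOf N) = Monoid.exponent H :=
  Monoid.exponent_eq_of_mulEquiv (Subgroup.subgroupOfEquivOfLe h)

theorem fittingHall_eq (N : Subgroup G) : fittingHall N = (fittingHallOf N).subgroupOf N := by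
  apply Subgroup.map_injective (Subgroup.subtype_injective N)
  rw [subgroupOf_map (fittingHallOf_le N)]
  rfl

theorem typeF_of {N H U U₁ U₀ : Subgroup G} (hNs : Group.IsSolvable N)
    (hodd : Odd (Nat.card N)) (hH : fittingHallOf N = H) (hH1 : H ≠ ⊥) (hU1 : U ≠ ⊥)
    (hc : IsComplIn H U N) (hU₁ : U₁ ≤ U) (hn : U ≤ 𝓝(U₁)) (hab : U₁ ≤ 𝓒(U₁))
    (hx : ∀ x ∈ H, x ≠ 1 → U ⊓ Subgroup.centralizer ({x} : Set G) ≤ U₁)
    (hU₀ : U₀ ≤ U) (hexp : Monoid.exponent U₀ = Monoid.exponent U)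
    (hfpf : ∀ u ∈ U₀, u ≠ 1 → H ⊓ Subgroup.centralizer ({u} : Set G) = ⊥) : IsOfTypeF ↥N := by
  subst hH
  have hHN := fittingHallOf_le N
  have hUN : U ≤ N := hc.2.1
  have hHn := le_nz_fittingHallOf N
  have hi : fittingHallOf N ⊓ U = ⊥ := hc.2.2.1
  have hs := IsComplIn_sup hc
  have hmem : ∀ {X : Subgroup G} {n : N}, n ∈ X.subgroupOf N ↔ (n : G) ∈ X :=
    fun {X n} => Subgroup.mem_subgroupOf
  refine ⟨hNs, hodd, ?_, ?_, U.subgroupOf N, ?_, ?_, ⟨U₁.subgroupOf N, ?_, ?_, ?_, ?_⟩,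
    U₀.subgroupOf N, ?_, ?_, ?_⟩
  · intro h
    apply hH1
    rw [← subgroupOf_map hHN, ← fittingHall_eq, h, Subgroup.map_bot]
  · intro h
    apply hU1
    rw [← hi, eq_comm, inf_eq_right]
    intro u hu
    have h1 : (⟨u, hUN hu⟩ : N) ∈ fittingHall N := by rw [h]; exact Subgroup.mem_top _
    rw [fittingHall_eq] at h1
    exact h1
  · intro h
    apply hU1
    rw [← subgroupOf_map hUN, h, Subgroup.map_bot]
  · rw [fittingHall_eq]
    exact isComplement_subgroupOf hHN hHn hUN hi hs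
  · intro x hx'
    exact hU₁ hx'
  · intro u hu
    rw [mem_nz]
    have h2 : ∀ g ∈ U.subgroupOf N, ∀ x ∈ U₁.subgroupOf N, g * x * g⁻¹ ∈ U₁.subgroupOf N :=
      fun g hg x hx => le_nz.1 hn (g : G) hg (x : G) hx
    exact mem_nz.1 (le_nz.2 h2 hu)
  · refine ⟨⟨fun a b => Subtype.ext (Subtype.ext ?_)⟩⟩
    exact mem_cz.1 (hab b.2) _ a.2
  · rintro x hxH hx1 u ⟨hu, hux⟩
    rw [fittingHall_eq] at hxH
    refine hx (x : G) hxH (fun h => hx1 (Subtype.ext h)) ⟨hu, ?_⟩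
    have h3 := Subgroup.mem_centralizer_singleton_iff.1
      (show u ∈ Subgroup.centralizer ({x} : Set N) from hux)
    exact Subgroup.mem_centralizer_singleton_iff.2 (congrArg Subtype.val h3)
  · intro x hx'
    exact hU₀ hx'
  · rw [exponent_subgroupOf (hU₀.trans hUN), exponent_subgroupOf hUN, hexp]
  · intro u hu hu1 x hxH hux
    rw [fittingHall_eq] at hxH
    have h1 : (x : G) ∈ fittingHallOf N ⊓ Subgroup.centralizer ({(u : G)} : Set G) :=
      ⟨hxH, Subgroup.mem_centralizer_singleton_iff.2 (congrArg Subtype.val hux).symm⟩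
    rw [hfpf u hu (fun h => hu1 (Subtype.ext h))] at h1
    exact Subtype.ext (Subgroup.mem_bot.1 h1)

variable (hG : IsMinSimpleOddOrder G)
include hG

/-- prime divisors of `U₀` -/
theorem exists_U0_elt {M K U : Subgroup G} (hM : IsCoatom M) (hKU : IsSigmaDecomposition M K U)
    {q : ℕ} (hq : q.Prime) (hqU : q ∣ Nat.card U) :
    ∃ X ≤ U, Nat.card X = q ∧ sigmaCore M ⊓ 𝓒(X) = ⊥ := by
  obtain ⟨y, hy, hyπ, h1, h2⟩ := s1360_data hG hM hKU hq hqU
  obtain ⟨X, hX, hXc⟩ := exists_card_prime hq hqU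
  obtain ⟨z, hz, hz1⟩ := (Subgroup.ne_bot_iff_exists_ne_one).1 (ne_bot_of_card_prime hq hXc)
      |> fun ⟨z, hz⟩ => (⟨z.1, z.2, fun h => hz (Subtype.ext h)⟩ : ∃ z : G, z ∈ X ∧ z ≠ 1)
  have h3 := zpowers_eq_of_prime hq hXc hz hz1
  have h4 := h1 z (hX hz) (by rw [h3]; exact isPi_of_card_prime hq hXc)
  rw [← Nat.card_zpowers z, h3, hXc, ← Nat.card_zpowers] at h4
  obtain ⟨Z, hZ, hZc⟩ := exists_card_prime hq h4
  obtain ⟨w, hw, hw1⟩ := (Subgroup.ne_bot_iff_exists_ne_one).1 (ne_bot_of_card_prime hq hZc)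
      |> fun ⟨z, hz⟩ => (⟨z.1, z.2, fun h => hz (Subtype.ext h)⟩ : ∃ z : G, z ∈ Z ∧ z ≠ 1)
  refine ⟨Z, hZ.trans (zpowers_le.2 hy), hZc, ?_⟩
  rw [← zpowers_eq_of_prime hq hZc hw hw1, ← cz1_eq]
  exact h2 w (hZ hw) hw1

/-- `(U M_σ)_F = M_σ` -/
theorem fitHall_U {M K U : Subgroup G} (hM : IsCoatom M) (hKU : IsSigmaDecomposition M K U)
    (hn : Group.IsNilpotent (sigmaCore M)) : fittingHallOf (U ⊔ sigmaCore M) = sigmaCore M := by
  have hσM := sigmaCore_le hG hM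
  have hUM : U ≤ M := (hall_le (dec_facts hG hM hKU).2.1).trans (hall_le (dec_facts hG hM hKU).1)
  have hTM : U ⊔ sigmaCore M ≤ M := sup_le hUM hσM
  have hMn := le_nz_sigmaCore hG M
  have hσ := sigma_hall hG hM
  have hσT : IsPiHallOf (sigma M) (sigmaCore M) (U ⊔ sigmaCore M) :=
    hall_le_of_le hσ le_sup_right hTM
  apply le_antisymm
  · have hHT := fittingHallOf_le (U ⊔ sigmaCore M)
    have hTn := le_nz_fittingHallOf (U ⊔ sigmaCore M)
    have hHn := fittingHallOf_nilpotent (U ⊔ sigmaCore M)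
    have hcop := fittingHallOf_coprime (U ⊔ sigmaCore M)
    refine le_hall_of_normal hσ hMn ?_ (hHT.trans hTM)
    intro r hr hrd
    by_contra hrσ
    -- the Sylow `r`-subgroup
    have hR : IsPiHallOf {r} (piCoreOf {r} (fittingHallOf (U ⊔ sigmaCore M)))
        (fittingHallOf (U ⊔ sigmaCore M)) := nilpotent_hall hHn
    have hRT : IsPiHallOf {r} (piCoreOf {r} (fittingHallOf (U ⊔ sigmaCore M)))
        (U ⊔ sigmaCore M) :=
      hall_trans hR (hall_fittingHallOf _) (Set.singleton_subset_iff.2 hrd)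
    have hRn : U ⊔ sigmaCore M ≤ 𝓝(piCoreOf {r} (fittingHallOf (U ⊔ sigmaCore M))) :=
      hTn.trans (nz_le_nz_piCoreOf _ _)
    have hσF : sigmaCore M ≤ fittingHallOf (U ⊔ sigmaCore M) :=
      le_fittingHallOf le_sup_right (hTM.trans hMn) hn (hall_coprime hσT)
    have hRC : piCoreOf {r} (fittingHallOf (U ⊔ sigmaCore M)) ≤ 𝓒(sigmaCore M) := by
      refine nilpotent_commute (π := {r}) hHn (piCoreOf_le _ _) hσF (isPi_piCoreOf _ _) ?_
      refine (hall_isPi hσ).mono ?_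
      intro s hs hsr
      rw [Set.mem_singleton_iff] at hsr
      exact hrσ (hsr ▸ hs)
    have hrT : r ∣ Nat.card ↥(U ⊔ sigmaCore M) := hrd.trans (card_dvd_of_le hHT)
    have hrU : r ∣ Nat.card U := by
      have h1 := card_sup_mul_card_inf (hUM.trans hMn)
      have h2 : r ∣ Nat.card U * Nat.card (sigmaCore M) := by
        rw [← h1]; exact hrT.mul_right _
      rcases (Nat.Prime.dvd_mul hr).1 h2 with h3 | h3
      · exact h3
      · exact absurd (hall_isPi hσ r hr h3) hrσ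
    obtain ⟨X, hX, hXc, hXf⟩ := exists_U0_elt hG hM hKU hr hrU
    have hXR : X ≤ piCoreOf {r} (fittingHallOf (U ⊔ sigmaCore M)) :=
      le_hall_of_normal hRT hRn (isPi_of_card_prime hr hXc) (hX.trans le_sup_left)
    have h1 : sigmaCore M ≤ 𝓒(X) := le_cz_comm.1 (hXR.trans hRC)
    rw [inf_eq_left.2 h1] at hXf
    exact sigmaCore_ne_bot hG hM hXf
  · exact le_fittingHallOf le_sup_right (hTM.trans hMn) hn (hall_coprime hσT)

theorem dec_compl {M K U : Subgroup G} (hM : IsCoatom M) (hKU : IsSigmaDecomposition M K U) :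
    IsComplIn (sigmaCore M) U (U ⊔ sigmaCore M) := by
  obtain ⟨hE, hUE, -, -⟩ := dec_facts hG hM hKU
  refine complIn_of_hall (hall_le_of_le (sigma_hall hG hM) le_sup_right
    (sup_le ((hall_le hUE).trans (hall_le hE)) (sigmaCore_le hG hM)))
    ((sup_le ((hall_le hUE).trans (hall_le hE)) (sigmaCore_le hG hM)).trans
      (le_nz_sigmaCore hG M)) ?_
  have h1 : IsPi (sigma M)ᶜ U := (hall_isPi hE).le (hall_le hUE)
  refine hall_iff.2 ⟨le_sup_left, h1, ?_⟩
  intro p hp hpσ hpd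
  have hUn : U ≤ 𝓝(sigmaCore M) :=
    ((hall_le hUE).trans (hall_le hE)).trans (le_nz_sigmaCore hG M)
  have h2 : U.relIndex (U ⊔ sigmaCore M) ∣ Nat.card (sigmaCore M) := by
    have h3 := card_mul_relIndex (le_sup_left : U ≤ U ⊔ sigmaCore M)
    have h4 := card_sup_of_disjoint hUn (by
      rw [inf_comm]
      exact (hall_isPi (sigma_hall hG hM)).inf_eq_bot h1)
    rw [h4] at h3
    exact ⟨1, by rw [mul_one]; exact (Nat.eq_of_mul_eq_mul_left (card_pos' U) h3).symm⟩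
  exact hpσ (hall_isPi (sigma_hall hG hM) p hp (hpd.trans h2))

theorem type2_fwd {M K U : Subgroup G} (hM : IsCoatom M) (hKU : IsSigmaDecomposition M K U)
    (h : IsOfTypeII M) : K ≠ ⊥ ∧ U ≠ ⊥ := by
  obtain ⟨W₁, V, W₂, hP, hV1, -, -, -, hVn, -, -⟩ := h
  obtain ⟨hK1, h2⟩ := typeP_U hG hM hKU hP
  refine ⟨hK1, ?_⟩
  by_cases hn : Group.IsNilpotent (sigmaCore M)
  · obtain ⟨m, hm, hmV⟩ := h2 hn
    rintro rfl
    rw [cj_bot] at hmV
    exact hV1 hmV.symm
  · exfalso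
    apply hVn
    have hU := (exists_NF hG hM hKU hn).1
    have hD : ⁅M, M⁆ = sigmaCore M := (dec_U_bot hG hM hKU hK1).1 hU
    have hc := hP.U_compl
    have hHD : fittingHallOf M ≤ ⁅M, M⁆ := hc.1
    have hHh : IsPiHallOf {p | p ∣ Nat.card (fittingHallOf M)} (fittingHallOf M) ⁅M, M⁆ :=
      hall_le_of_le (hall_fittingHallOf M) hHD (comm_self_le M)
    have hVh : IsPiHallOf {p | p ∣ Nat.card (fittingHallOf M)}ᶜ V ⁅M, M⁆ := by
      refine hall_iff.2 ⟨hc.2.1, ?_, ?_⟩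
      · intro p hp hpd hpH
        rw [← IsComplIn_relIndex hc] at hpd
        exact (hall_iff.1 hHh).2.2 p hp hpH hpd
      · intro p hp hpn hpd
        rw [IsComplIn_relIndex' hc] at hpd
        exact hpn hpd
    rw [hD] at hVh
    exact nilp_hall_nz hG hM hVh hP.U_nilpotent hV1

theorem type2_bwd {M K U : Subgroup G} (hM : IsCoatom M) (hKU : IsSigmaDecomposition M K U)
    (hK1 : K ≠ ⊥) (hU1 : U ≠ ⊥) : IsOfTypeII M := by
  obtain ⟨hKp, hσn, hcU, hβ⟩ := p2_facts hG hM hKU hK1 hU1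
  obtain ⟨hE, hUE, hKE, -⟩ := dec_facts hG hM hKU
  have hUab := dec_U_ab hG hM hKU hK1
  have hF := sigmaCore_eq_fittingHallOf hG hM hσn
  have hD := dec_der hG hM hKU hK1
  have hcU := dec_compl hG hM hKU
  have hc : IsComplIn (fittingHallOf M) U ⁅M, M⁆ := by rw [hD, ← hF]; exact hcU
  have hFD : fittingHallOf ⁅M, M⁆ = fittingHallOf M := by
    rw [hD, fitHall_U hG hM hKU hσn, hF]
  obtain ⟨U₀, hU0, hexp, hfpf⟩ := s1360 hG hM hKU
  refine ⟨K, U, _, typeP_of hG hM hKU hK1 (nilp_of_comm (comm_iff_le_cz.2 hUab)) hKU.normal hc,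
    hU1, hKp, (p2_fit_ti hG hM hKU hK1 hU1).1, comm_iff_le_cz.2 hUab,
    (Cfsg.Agent.S1363.result hG M hM K U hKU hK1).2, ?_, hFD⟩
  refine typeF_of (solvable_sub (comm_self_le M) (max_sol hG hM)) (ms_odd hG _) hFD
    (by rw [← hF]; exact sigmaCore_ne_bot hG hM) hU1 hc le_rfl le_normalizer hUab
    (fun x _ _ => inf_le_left) hU0 hexp ?_
  rw [← hF]
  exact hfpf

end

end CfsgLib.BGPi
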