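import Cfsg.Statements.S1358
import Cfsg.Agent.LibBG14f

set_option autoImplicit false
open Cfsg

namespace Cfsg.Agent.S1358
open CfsgLib.BGPi

/-- Let G be a minimal simple group of odd order and M a maximal subgroup with standard factorisation M = K U M_σ. Then for every prime p, every Sylow p-subgroup of U is abelian and has no elementary abelian subgroup of order p ^ 3. -/
theorem result {G : Type*} [Group G] [Finite G] (hG : Cfsg.IsMinSimpleOddOrder G)
    (M : Subgroup G) (hM : IsCoatom M) (K U : Subgroup G) (hKU : Cfsg.IsSigmaDecomposition M K U) :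
    ∀ (p : ℕ), p.Prime → ∀ P : Sylow p U, IsMulCommutative (P : Subgroup U) ∧ Cfsg.PRankLE p 2 (P : Subgroup U) := by
  intro p hp P
  haveI : Fact p.Prime := ⟨hp⟩
  obtain ⟨hE, hU, -, -⟩ := dec_facts hG hM hKU
  have hS := sylmap_hall hp P
  have hSU := hall_le hS
  have hSM := hSU.trans hKU.compl.1
  have hSp := hall_isPi hS
  by_cases hS1 : (P : Subgroup U).map U.subtype = ⊥
  · have hP : (P : Subgroup U) = ⊥ := by
      rwa [Subgroup.map_eq_bot_iff_of_injective _ U.subtype_injective] at hS1
    rw [hP]
    refine ⟨inferInstance, rank_top_iff.2 fun A hA => ?_⟩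
    have : Nat.card A = 1 := by
      rw [Subgroup.card_eq_one]
      exact Subsingleton.elim _ _
    rw [this]
    exact Nat.one_le_pow _ _ hp.pos
  have hpd := pgroup_dvd_card hp (hSp.isPGroup hp) hS1
  have hσ : p ∉ Cfsg.sigma M := hall_isPi hE p hp ((hpd.trans (Subgroup.card_dvd_of_le hSU)).trans
    (Subgroup.card_dvd_of_le le_sup_left))
  have hab := pgroup_ab hG hM hp hσ hSM hSp
  have hab' := comm_iff_le_cz.2 hab
  refine ⟨⟨⟨fun a b => ?_⟩⟩, rank_top_iff.2 fun A hA => ?_⟩
  · have ha : ((a : U) : G) ∈ (P : Subgroup U).map U.subtype := ⟨a, a.2, rfl⟩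
    have hb : ((b : U) : G) ∈ (P : Subgroup U).map U.subtype := ⟨b, b.2, rfl⟩
    apply Subtype.ext
    apply Subtype.ext
    exact mem_cz.1 (hab hb) _ ha
  · have hr := rank_of_not_sigma hG hM hp hσ
    have h1 := elab_map (elab_map hA (P : Subgroup U).subtype) U.subtype
    have h2 := rank_iff.1 hr _ ?_ h1
    · rwa [card_map_subtype, card_map_subtype] at h2
    · refine le_trans (Subgroup.map_mono ?_) hSM
      rw [Subgroup.map_le_iff_le_comap]
      intro x _
      exact x.2


end Cfsg.Agent.S1358
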