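import Cfsg.Statements.S1361
import Cfsg.Agent.LibBG14h

set_option autoImplicit false
open Cfsg

namespace Cfsg.Agent.S1361
open CfsgLib.BGPi

/-- Let G be a minimal simple group of odd order and M a maximal subgroup with standard factorisation M = K U M_σ. If X is a nontrivial subgroup of U centralizing some non-identity element of M_σ, then C_G(X) ≤ M and M is the unique maximal subgroup of G containing C_G(X). -/
theorem result {G : Type*} [Group G] [Finite G] (hG : Cfsg.IsMinSimpleOddOrder G)
    (M : Subgroup G) (hM : IsCoatom M) (K U : Subgroup G) (hKU : Cfsg.IsSigmaDecomposition M K U) (X : Subgroup G) (hXU : X ≤ U) (hX : X ≠ ⊥)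
    (hXc : Cfsg.sigmaCore M ⊓ Subgroup.centralizer (X : Set G) ≠ ⊥) :
    Subgroup.centralizer (X : Set G) ≤ M ∧ ∀ L : Subgroup G, IsCoatom L → Subgroup.centralizer (X : Set G) ≤ L → L = M := by
  obtain ⟨hE, hU, -, -⟩ := dec_facts hG hM hKU
  have hXM := hXU.trans hKU.compl.1
  refine tau2_uniq_sub hG hM hXM hX ?_ hXc
  intro p hp hd
  have hdU := hd.trans (Subgroup.card_dvd_of_le hXU)
  obtain ⟨Y, hY, hYc⟩ := exists_card_prime hp hd
  have hσ : p ∉ Cfsg.sigma M := hall_isPi hE p hp (hdU.trans (Subgroup.card_dvd_of_le le_sup_left))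
  rcases prime_kt hG hM hp (hY.trans hXM) hYc hσ
    (fun h => hXc (le_bot_iff.1 (h ▸ inf_le_inf le_rfl (cz_anti hY)))) with h | h
  · exact absurd h (hall_isPi hU p hp hdU)
  · exact h


end Cfsg.Agent.S1361
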