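import Cfsg.Agent.EqBase
import Cfsg.Agent.LibBG17i
import Cfsg.Agent.S1364
import Cfsg.Agent.S1358
import Cfsg.Agent.S1361
import Cfsg.Agent.S1362

/-! B & G section 16: type I and type II. -/

open Subgroup
open scoped Pointwise commutatorElement

namespace CfsgLib.BGPi

open Cfsg

universe u v w

section
variable {G : Type u} [Group G] [Finite G]

theorem complIn_cj {A B M : Subgroup G} (h : IsComplIn A B M) (g : G) :
    IsComplIn (A ^ᵍ g) (B ^ᵍ g) (M ^ᵍ g) := by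
  obtain ⟨h1, h2, h3, h4⟩ := h
  refine ⟨cj_mono h1 g, cj_mono h2 g, ?_, ?_⟩
  · rw [← cj_inf, h3, cj_bot]
  · intro m hm
    rw [mem_cj] at hm
    obtain ⟨a, ha, b, hb, hab⟩ := h4 _ hm
    refine ⟨g * a * g⁻¹, conj_mem_cj ha, g * b * g⁻¹, conj_mem_cj hb, ?_⟩
    calc m = g * (g⁻¹ * m * g) * g⁻¹ := by group
      _ = g * (a * b) * g⁻¹ := by rw [hab]
      _ = g * a * g⁻¹ * (g * b * g⁻¹) := by group

variable (hG : IsMinSimpleOddOrder G)
include hG

theorem typeF_kappa {M K U : Subgroup G} (hM : IsCoatom M) (hKU : IsSigmaDecomposition M K U)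
    (h : IsOfTypeF ↥M) : K = ⊥ := by
  by_contra hK1
  obtain ⟨-, -, -, -, U', hU'1, hcomp, -, U₀, hU₀, hexp, hfpf⟩ := h
  obtain ⟨p, hp, hpK⟩ := exists_prime_dvd_of_ne_bot hK1
  haveI : Fact p.Prime := ⟨hp⟩
  have hκ : p ∈ kappa M := hall_isPi hKU.hall p hp hpK
  obtain ⟨-, hpσ, hrk, -⟩ := (kappa_iff hG).1 hκ
  have hKM := hall_le hKU.hall
  have hpM : p ∣ Nat.card M := hpK.trans (card_dvd_of_le hKM)
  have hcard := hcomp.card_mul
  have hpH : ¬ p ∣ Nat.card (fittingHall M) := by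
    intro h1
    have h2 : p ∣ Nat.card (fittingHallOf M) := by
      rw [fittingHallOf, card_map_subtype]; exact h1
    exact hpσ (hall_isPi (sigma_hall hG hM) p hp
      (h2.trans (card_dvd_of_le (fittingHallOf_le_sigmaCore hG hM))))
  have hpU : p ∣ Nat.card U' := by
    rw [← hcard] at hpM
    exact ((Nat.Prime.dvd_mul hp).1 hpM).resolve_left hpH
  have hpU0 : p ∣ Nat.card U₀ := by
    obtain ⟨u, hu⟩ := exists_prime_orderOf_dvd_card' p hpU
    have h1 : p ∣ Monoid.exponent U' := by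
      rw [← hu]; exact Monoid.order_dvd_exponent u
    rw [← hexp] at h1
    exact h1.trans Group.exponent_dvd_nat_card
  obtain ⟨u, hu⟩ := exists_prime_orderOf_dvd_card' p hpU0
  have huo : orderOf ((u : M) : G) = p := by
    rw [Subgroup.orderOf_coe, Subgroup.orderOf_coe, hu]
  have hX : Nat.card (zpowers ((u : M) : G)) = p := by rw [Nat.card_zpowers, huo]
  have hXM : zpowers ((u : M) : G) ≤ M := zpowers_le.2 (u : M).2
  obtain ⟨Y, hY, hYc⟩ := exists_card_prime hp hpK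
  obtain ⟨m, hm, hmY⟩ := rank1_conj hG hp hrk hXM (hY.trans hKM) hX hYc
  obtain ⟨-, hs1, hsF, -⟩ := Cfsg.Agent.S1364.result hG M hM K U hKU hK1
  have h2 := kap_cz hG hM hKU.hall hY (ne_bot_of_card_prime hp hYc)
  have h3 : fittingHallOf M ⊓ 𝓒(Y) ≠ ⊥ := by
    intro h4
    apply hs1
    rw [eq_bot_iff, ← h4]
    exact le_inf hsF (inf_le_right.trans (cz_anti hY))
  have h4 : fittingHallOf M ⊓ 𝓒(zpowers ((u : M) : G)) ≠ ⊥ := by
    intro h5
    apply h3
    have h6 : (fittingHallOf M ⊓ 𝓒(zpowers ((u : M) : G))) ^ᵍ m = ⊥ := by rw [h5, cj_bot]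
    rw [cj_inf, ← cz_cj, hmY, cj_le_of_le_nz (le_nz_fittingHallOf M) hm] at h6
    exact h6
  obtain ⟨x, hx, hx1⟩ := (Subgroup.ne_bot_iff_exists_ne_one).1 h4
      |> fun ⟨z, hz⟩ => (⟨z.1, z.2, fun h => hz (Subtype.ext h)⟩ :
        ∃ z : G, z ∈ fittingHallOf M ⊓ 𝓒(zpowers ((u : M) : G)) ∧ z ≠ 1)
  have hxM : x ∈ M := fittingHallOf_le M hx.1
  have h5 := hfpf (u : M) u.2 (by
    intro h6
    have h7 : ((u : M) : G) = 1 := by rw [h6]; rfl
    rw [h7, orderOf_one] at huo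
    exact hp.one_lt.ne huo) ⟨x, hxM⟩ (by
      rw [fittingHall_eq]
      exact hx.1) (Subtype.ext (mem_cz.1 hx.2 _ (mem_zpowers _)))
  exact hx1 (congrArg Subtype.val h5)

theorem nilp_of_K_bot {M K U : Subgroup G} (hM : IsCoatom M) (hKU : IsSigmaDecomposition M K U)
    (h : K = ⊥) : Group.IsNilpotent (sigmaCore M) := by
  by_contra hn
  exact (exists_NF hG hM hKU hn).2.1 h

theorem exists_dec' {M : Subgroup G} (hM : IsCoatom M) :
    ∃ K U : Subgroup G, IsSigmaDecomposition M K U := by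
  obtain ⟨K, hK⟩ := hall_exists (π := kappa M) (max_sol hG hM)
  obtain ⟨U, hU⟩ := exists_dec hG hM (kap_cyc hG hM hK) hK
  exact ⟨K, U, hU⟩

/-- the standard factorisation attached to a complement -/
theorem type12_dec {M U : Subgroup G} (hM : IsCoatom M)
    (hU : (IsOfTypeI M ∧ IsComplIn (fittingHallOf M) U M) ∨
      (IsOfTypeII M ∧ IsComplIn (fittingHallOf M) U ⁅M, M⁆)) :
    ∃ K : Subgroup G, IsSigmaDecomposition M K U ∧ fittingHallOf M = sigmaCore M ∧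
      ((IsOfTypeI M ∧ K = ⊥ ∧ U ⊔ sigmaCore M = M) ∨
        (IsOfTypeII M ∧ K ≠ ⊥ ∧ U ≠ ⊥ ∧ U ⊔ sigmaCore M = ⁅M, M⁆)) := by
  obtain ⟨K, U', hKU⟩ := exists_dec' hG hM
  rcases hU with ⟨h1, hc⟩ | ⟨h2, hc⟩
  · have hK1 := typeF_kappa hG hM hKU h1.1
    have hn := nilp_of_K_bot hG hM hKU hK1
    have hF := sigmaCore_eq_fittingHallOf hG hM hn
    rw [← hF] at hc
    refine ⟨⊥, ⟨?_, ?_, ?_, bot_le⟩, hF.symm, Or.inl ⟨h1, rfl, ?_⟩⟩
    · have := hKU.cyclic
      rwa [hK1] at this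
    · have := hKU.hall
      rwa [hK1] at this
    · rw [bot_sup_eq]
      exact IsComplIn_symm hc
    · rw [sup_comm]; exact IsComplIn_sup hc
  · obtain ⟨hK1, hU1⟩ := type2_fwd hG hM hKU h2
    obtain ⟨hKp, hσn, hcU, hβ⟩ := p2_facts hG hM hKU hK1 hU1
    have hF := sigmaCore_eq_fittingHallOf hG hM hσn
    have hD := dec_der hG hM hKU hK1
    have hDM : ⁅M, M⁆ ≤ M := comm_self_le M
    rw [← hF] at hc
    have hσD : IsPiHallOf (sigma M) (sigmaCore M) ⁅M, M⁆ :=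
      hall_le_of_le (sigma_hall hG hM) (sigma_le_der hG hM) hDM
    have hhall : ∀ V : Subgroup G, IsComplIn (sigmaCore M) V ⁅M, M⁆ →
        IsPiHallOf (sigma M)ᶜ V ⁅M, M⁆ := by
      intro V hV
      refine hall_iff.2 ⟨hV.2.1, ?_, ?_⟩
      · intro p hp hpd hpH
        rw [← IsComplIn_relIndex hV] at hpd
        exact (hall_iff.1 hσD).2.2 p hp hpH hpd
      · intro p hp hpn hpd
        rw [IsComplIn_relIndex' hV] at hpd
        exact hpn (hall_isPi hσD p hp hpd)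
    have h3 : IsComplIn (sigmaCore M) U' ⁅M, M⁆ := by rw [hD]; exact dec_compl hG hM hKU
    obtain ⟨m, hm, hmU⟩ := hall_conj (solvable_sub hDM (max_sol hG hM)) (hhall U' h3) (hhall U hc)
    have hmM := hDM hm
    have hσm : (sigmaCore M) ^ᵍ m = sigmaCore M := cj_le_of_le_nz (le_nz_sigmaCore hG M) hmM
    have hMm : M ^ᵍ m = M := cj_eq_of_mem hmM
    refine ⟨K ^ᵍ m, ⟨?_, ?_, ?_, ?_⟩, hF.symm, Or.inr ⟨h2, fun h => hK1 (cj_eq_bot.1 h), ?_, ?_⟩⟩
    · haveI := hKU.cyclic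
      exact isCyclic_of_surjective (cjEquiv K m) (cjEquiv K m).surjective
    · exact hall_cj_mem hKU.hall hmM
    · have h8 := complIn_cj hKU.compl m
      rw [cj_sup, hσm, hMm, hmU] at h8
      exact h8
    · rw [← hmU, nz_cj]
      exact cj_mono hKU.normal m
    · rw [← hmU]
      exact fun h => hU1 (cj_eq_bot.1 h)
    · rw [sup_comm]; exact IsComplIn_sup hc

end

end CfsgLib.BGPi
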