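import Cfsg.Agent.EqBase
import Cfsg.Agent.LibBG8
import Cfsg.Agent.LibBG10b

/-! Bender: invariant subgroups for a maximal local subgroup whose Fitting subgroup
has two primes. -/

open Subgroup
open scoped Pointwise commutatorElement

namespace CfsgLib.BGPi

open Cfsg

universe u
variable {G : Type u} [Group G] [Finite G]

/-- the configuration -/
structure BML (H M R : Subgroup G) : Prop where
  hmax : ∀ L : Subgroup G, IsLocalSubgroup L → H ≤ L → L = H
  hF2 : 2 ≤ (Nat.card (fittingOf H)).primeFactors.card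
  hM : M ≤ fittingOf H
  hCM : fittingOf H ⊓ 𝓒(M) ≤ M
  hR : Group.IsSolvable R
  hMR : M ≤ 𝓝(R)
  hXR : H ⊓ 𝓒(fittingOf H) ≤ 𝓝(R)

theorem BML.core_ne {H : Subgroup G} {p : ℕ} (hp : p.Prime) (h : p ∣ Nat.card (fittingOf H)) :
    piCoreOf {p} (fittingOf H) ≠ ⊥ := by
  intro h0
  have h1 := nilpotent_hall (π := {p}) (fittingOf_nilpotent H)
  rw [h0] at h1
  exact (hall_iff.1 h1).2.2 p hp rfl (by rwa [relIndex_bot_left])

variable {H M R : Subgroup G}

theorem BML.nilM (c : BML H M R) : Group.IsNilpotent M :=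
  nilpotent_sub c.hM (fittingOf_nilpotent H)

theorem BML.cz_le (c : BML H M R) {p : ℕ} (hp : p.Prime) (h : p ∣ Nat.card (fittingOf H)) :
    𝓒(piCoreOf {p} M) ≤ H := by
  set F := fittingOf H with hF
  set P := piCoreOf {p} F with hP
  set Z := P ⊓ 𝓒(F) with hZ
  have hPF : P ≤ F := piCoreOf_le _ _
  have hZ1 : Z ≠ ⊥ := nilpotent_inf_center (fittingOf_nilpotent H) hPF (le_nz_piCoreOf _ _)
    (BML.core_ne hp h)
  have hZp : IsPi {p} Z := (isPi_piCoreOf _ _).le inf_le_left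
  have hZM : Z ≤ M := by
    refine le_trans ?_ c.hCM
    exact le_inf (inf_le_left.trans hPF) (inf_le_right.trans (cz_anti c.hM))
  have hZM' : Z ≤ piCoreOf {p} M := nilpotent_le_piCoreOf c.nilM hZM hZp
  have hHZ : H ≤ 𝓝(Z) := le_nz_inf
    ((le_nz_fittingOf H).trans (nz_le_nz_piCoreOf _ _)) (le_nz_cz (le_nz_fittingOf H))
  have h1 : 𝓝(Z) = H := c.hmax _ ⟨p, Z, hp, hZp.isPGroup hp, hZ1, rfl⟩ hHZ
  calc 𝓒(piCoreOf {p} M) ≤ 𝓒(Z) := cz_anti hZM'
    _ ≤ 𝓝(Z) := cz_le_nz _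
    _ = H := h1

theorem BML.exists_ne (c : BML H M R) (p : ℕ) :
    ∃ r : ℕ, r.Prime ∧ r ∣ Nat.card (fittingOf H) ∧ r ≠ p := by
  obtain ⟨r, hr, hne⟩ := Finset.exists_mem_ne (Nat.lt_of_lt_of_le one_lt_two c.hF2) p
  exact ⟨r, Nat.prime_of_mem_primeFactors hr, Nat.dvd_of_mem_primeFactors hr, hne⟩

theorem BML.cz_le' (c : BML H M R) (p : ℕ) : 𝓒(piCoreOf {p}ᶜ M) ≤ H := by
  obtain ⟨r, hr, hrF, hne⟩ := c.exists_ne p
  refine le_trans (cz_anti (piCoreOf_mono_set ?_ M)) (c.cz_le hr hrF)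
  intro s hs
  rw [Set.mem_singleton_iff] at hs
  subst hs
  exact hne

theorem BML.W_le (c : BML H M R) : R ⊓ (H ⊓ 𝓒(fittingOf H)) ≤ fittingOf H := by
  set F := fittingOf H with hF
  set X := H ⊓ 𝓒(F) with hX
  set W := R ⊓ X with hW
  have hXW : X ≤ 𝓝(W) := le_nz_inf c.hXR le_normalizer
  have hHX : H ≤ 𝓝(X) := le_nz_inf le_normalizer (le_nz_cz (le_nz_fittingOf H))
  have h1 : fittingOf W ≤ fittingOf X := by
    refine le_fittingOf ((fittingOf_le W).trans inf_le_right) ?_ (fittingOf_nilpotent W)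
    exact hXW.trans (nz_le_nz_fittingOf W)
  have h2 : fittingOf X ≤ F := by
    refine le_fittingOf ((fittingOf_le X).trans inf_le_left) ?_ (fittingOf_nilpotent X)
    exact hHX.trans (nz_le_nz_fittingOf X)
  have hWs : Group.IsSolvable W := by
    haveI := c.hR
    exact solvable_of_solvable_injective (inclusion_injective (inf_le_left : W ≤ R))
  have h3 : W ≤ 𝓒(fittingOf W) :=
    (inf_le_right.trans inf_le_right).trans (cz_anti (h1.trans h2))
  have h4 := cz_fittingOf_le hWs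
  exact ((le_inf le_rfl h3).trans h4).trans (h1.trans h2)

theorem BML.M_sup (c : BML H M R) (p : ℕ) : piCoreOf {p} M ⊔ piCoreOf {p}ᶜ M = M :=
  nilpotent_sup_piCoreOf c.nilM

/-- a subgroup of order coprime to `F` centralising `M` centralises `F` -/
theorem BML.cz_F (c : BML H M R) {Y : Subgroup G} (hc : (Nat.card Y).Coprime
    (Nat.card (fittingOf H))) (hYM : Y ≤ 𝓒(M)) : Y ≤ H ⊓ 𝓒(fittingOf H) := by
  set F := fittingOf H with hF
  obtain ⟨r, hr, hrF, -⟩ := c.exists_ne 1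
  have hYH : Y ≤ H := (hYM.trans (cz_anti (piCoreOf_le _ _))).trans (c.cz_le hr hrF)
  refine le_inf hYH ?_
  have key : ∀ p : ℕ, p.Prime → Y ≤ 𝓒(piCoreOf {p} H) := by
    intro p hp
    rw [← piCoreOf_fittingOf hp H, ← hF]
    by_cases hpF : p ∣ Nat.card F
    · have hPF : piCoreOf {p} F ≤ F := piCoreOf_le _ _
      refine pxq hp (P := piCoreOf {p} M) (Q := Y) (U := piCoreOf {p} F)
        ((isPi_piCoreOf _ _).isPGroup hp) (hc.coprime_dvd_right hpF)
        ((isPi_piCoreOf _ _).isPGroup hp) ?_ ?_ ?_ ?_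
      · exact (piCoreOf_le _ _).trans (le_cz_comm.1 hYM)
      · exact ((piCoreOf_le _ _).trans c.hM).trans (le_nz_piCoreOf _ _)
      · exact (hYH.trans (le_nz_fittingOf H)).trans (nz_le_nz_piCoreOf _ _)
      · have h1 : piCoreOf {p} F ⊓ 𝓒(piCoreOf {p} M) ≤ 𝓒(M) := by
          rw [le_cz_comm]
          nth_rewrite 1 [← c.M_sup p]
          refine sup_le ?_ ?_
          · rw [le_cz_comm]; exact inf_le_right
          · rw [le_cz_comm]
            refine inf_le_left.trans ?_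
            exact nilpotent_commute (π := {p}) (fittingOf_nilpotent H) hPF
              ((piCoreOf_le _ _).trans c.hM) (isPi_piCoreOf _ _) (isPi_piCoreOf _ _)
        have h2 : piCoreOf {p} F ⊓ 𝓒(piCoreOf {p} M) ≤ M :=
          (le_inf (inf_le_left.trans hPF) h1).trans c.hCM
        exact h2.trans (le_cz_comm.1 hYM)
    · have h0 : piCoreOf {p} F = ⊥ := by
        refine eq_bot_of_isPi (isPi_piCoreOf {p} F) ?_
        rw [isPi_compl_singleton hp]
        exact fun h => hpF (h.trans (Subgroup.card_dvd_of_le (piCoreOf_le _ _)))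
      rw [h0, le_cz_comm]
      exact bot_le
  intro y hy
  have h2 := cz_compl (π := Set.univ) (H := H) (x := y) fun q hq _ => key q hq hy
  rwa [piCoreOf_self (isPi_univ _)] at h2

theorem BML.eq_bot (c : BML H M R) {Y : Subgroup G} (hc : (Nat.card Y).Coprime
    (Nat.card (fittingOf H))) (hYM : Y ≤ 𝓒(M)) (hYR : Y ≤ R) : Y = ⊥ := by
  have h1 : Y ≤ fittingOf H := (le_inf hYR (c.cz_F hc hYM)).trans c.W_le
  have h2 := cop_inf hc
  rwa [inf_eq_left.2 h1] at h2

/-- fixed points of the `p'`-part are trivial -/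
theorem BML.fix_bot (c : BML H M R) {Y : Subgroup G} (hc : (Nat.card Y).Coprime
    (Nat.card (fittingOf H))) (hMY : M ≤ 𝓝(Y)) (hYR : Y ≤ R) (p : ℕ) :
    Y ⊓ 𝓒(piCoreOf {p}ᶜ M) = ⊥ := by
  set D := Y ⊓ 𝓒(piCoreOf {p}ᶜ M) with hD
  have hDH : D ≤ H := inf_le_right.trans (c.cz_le' p)
  have hcD : (Nat.card D).Coprime (Nat.card (fittingOf H)) :=
    cop_le hc inf_le_left le_rfl
  refine c.eq_bot hcD ?_ (inf_le_left.trans hYR)
  rw [le_cz_comm, ← c.M_sup p]
  refine sup_le ?_ (le_cz_comm.1 inf_le_right)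
  rw [le_cz_comm, ← comm_eq_bot_iff, eq_bot_iff]
  have h1 : piCoreOf {p} M ≤ 𝓝(D) := by
    refine le_nz_inf ((piCoreOf_le _ _).trans hMY) (le_nz_cz ?_)
    exact (piCoreOf_le _ _).trans (le_nz_piCoreOf _ _)
  have h2 : ⁅D, piCoreOf {p} M⁆ ≤ D := comm_le_left h1
  have h3 : ⁅D, piCoreOf {p} M⁆ ≤ fittingOf H := by
    refine (commutator_mono le_rfl ((piCoreOf_le _ _).trans c.hM)).trans ?_
    exact comm_le_right (hDH.trans (le_nz_fittingOf H))
  calc ⁅D, piCoreOf {p} M⁆ ≤ D ⊓ fittingOf H := le_inf h2 h3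
    _ = ⊥ := cop_inf hcD

end CfsgLib.BGPi
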