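import Cfsg.Agent.EqBase
import Cfsg.Agent.LibBG18a

/-! Bender: invariant subgroups for a maximal local subgroup, continued. -/

open Subgroup
open scoped Pointwise commutatorElement

namespace CfsgLib.BGPi

open Cfsg

universe u
variable {G : Type u} [Group G] [Finite G] {H M R : Subgroup G}

theorem BML.piM (c : BML H M R) {n : ℕ} (hn : n = Nat.card (fittingOf H)) :
    IsPi {p | p ∣ n} M := by
  subst hn
  exact (isPi_self _).le c.hM

theorem BML.copK (c : BML H M R) :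
    (Nat.card M).Coprime (Nat.card ↥(piCoreOf (primesNotDvd (Nat.card (fittingOf H))) R)) := by
  have h1 : (Nat.card ↥(piCoreOf (primesNotDvd (Nat.card (fittingOf H))) R)).Coprime
      (Nat.card (fittingOf H)) := isPi_primesNotDvd.1 (isPi_piCoreOf _ _)
  exact (h1.coprime_dvd_right (Subgroup.card_dvd_of_le c.hM)).symm

/-- the `p'`-part of `M` centralises the `p`-part of the Fitting subgroup of `R / O_{π'}(R)` -/
theorem BML.cz_pcore (c : BML H M R) {p : ℕ} (hp : p.Prime)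
    (hpF : p ∣ Nat.card (fittingOf H)) :
    qm (piCoreOf (primesNotDvd (Nat.card (fittingOf H))) R) (piCoreOf {p}ᶜ M) ≤
      𝓒(piCoreOf {p} (qm (piCoreOf (primesNotDvd (Nat.card (fittingOf H))) R) R)) := by
  set F := fittingOf H with hF
  set π : Set ℕ := {r | r ∣ Nat.card F} with hπ
  set K := piCoreOf (primesNotDvd (Nat.card F)) R with hK
  have hKR : K ≤ R := piCoreOf_le _ _
  have hRK : R ≤ 𝓝(K) := le_nz_piCoreOf _ _
  have hMK : M ≤ 𝓝(K) := c.hMR.trans (nz_le_nz_piCoreOf _ _)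
  have hKπ : IsPi πᶜ K := by
    rw [isPi_compl_iff]
    intro r hr hrK hrπ
    exact ((isPi_piCoreOf (primesNotDvd (Nat.card F)) R) r hr hrK).2 hrπ
  have hMπ : IsPi π M := (isPi_self F).le c.hM
  have hMs : Group.IsSolvable M := by
    haveI := c.nilM
    infer_instance
  have hLs : Group.IsSolvable ↥(M ⊔ R) := solvable_sup c.hMR hMs c.hR
  obtain ⟨X₀, hX₀, hMX₀⟩ := hall_exists_ge hLs hMπ (le_sup_left : M ≤ M ⊔ R)
  set P₁ := pull K (piCoreOf {p} (qm K R)) with hP₁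
  have hP₁R : P₁ ≤ R := by
    rw [← pull_qm hKR hRK]
    exact pull_mono (piCoreOf_le _ _)
  have hRP₁ : R ≤ 𝓝(P₁) := pull_nz hRK (le_nz_piCoreOf _ _)
  have hMP₁ : M ≤ 𝓝(P₁) := pull_nz hMK ((qm_nz c.hMR).trans (nz_le_nz_piCoreOf _ _))
  have hLP₁ : M ⊔ R ≤ 𝓝(P₁) := sup_le hMP₁ hRP₁
  set S := X₀ ⊓ P₁ with hS
  have hSP : IsPiHallOf π S P₁ := hall_inf_normal hX₀ (hP₁R.trans le_sup_right) hLP₁
  have hqP : qm K P₁ = piCoreOf {p} (qm K R) := qm_pull _
  have hPK : P₁ ≤ 𝓝(K) := hP₁R.trans hRK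
  have hqS : qm K S = piCoreOf {p} (qm K R) := by
    have h1 := qm_hall hSP hPK
    rw [hqP] at h1
    refine hall_eq_of_le h1 ?_ le_rfl (hall_le h1)
    refine (isPi_piCoreOf {p} _).mono ?_
    intro r hr
    rw [Set.mem_singleton_iff] at hr
    subst hr
    exact hpF
  have hSK : S ⊓ K = ⊥ := (hall_isPi hSP).inf_eq_bot hKπ
  have hSp : IsPi {p} S := by
    have h1 : Nat.card (qm K S) = Nat.card S := by
      rw [qm_card ((hall_le hSP).trans hPK)]
      rw [← inf_relIndex_right, inf_comm, hSK, relIndex_bot_left]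
    intro r hr hrS
    rw [← h1, hqS] at hrS
    exact isPi_piCoreOf {p} (qm K R) r hr hrS
  have hMS : M ≤ 𝓝(S) := le_nz_inf (hMX₀.trans le_normalizer) hMP₁
  -- the centralising statement
  have hFp : piCoreOf {p}ᶜ M ≤ piCoreOf {p}ᶜ F :=
    nilpotent_le_piCoreOf (fittingOf_nilpotent H) ((piCoreOf_le _ _).trans c.hM)
      (isPi_piCoreOf _ _)
  have key : piCoreOf {p}ᶜ M ≤ 𝓒(S) := by
    refine pxq hp (P := piCoreOf {p} M) (Q := piCoreOf {p}ᶜ M) (U := S)
      ((isPi_piCoreOf _ _).isPGroup hp) ((isPi_compl_singleton' hp).1 (isPi_piCoreOf _ _))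
      (hSp.isPGroup hp) ?_ ((piCoreOf_le _ _).trans hMS) ((piCoreOf_le _ _).trans hMS) ?_
    · exact nilpotent_commute (π := {p}) c.nilM (piCoreOf_le _ _) (piCoreOf_le _ _)
        (isPi_piCoreOf _ _) (isPi_piCoreOf _ _)
    · set D := S ⊓ 𝓒(piCoreOf {p} M) with hD
      have hDH : D ≤ H := inf_le_right.trans (c.cz_le hp hpF)
      rw [← comm_eq_bot_iff, eq_bot_iff]
      have h1 : ⁅D, piCoreOf {p}ᶜ M⁆ ≤ S :=
        (commutator_mono inf_le_left le_rfl).trans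
          (comm_le_left ((piCoreOf_le _ _).trans hMS))
      have h2 : ⁅D, piCoreOf {p}ᶜ M⁆ ≤ piCoreOf {p}ᶜ F :=
        (commutator_mono le_rfl hFp).trans
          (comm_le_right ((hDH.trans (le_nz_fittingOf H)).trans (nz_le_nz_piCoreOf _ _)))
      calc ⁅D, piCoreOf {p}ᶜ M⁆ ≤ S ⊓ piCoreOf {p}ᶜ F := le_inf h1 h2
        _ = ⊥ := hSp.inf_eq_bot (isPi_piCoreOf _ _)
  rw [← hqS, qm_cz_iff ((piCoreOf_le _ _).trans hMK) ((hall_le hSP).trans hPK),
    comm_eq_bot_iff.2 key]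
  exact bot_le

/-- invariant `q`-subgroups lie in the core -/
theorem BML.le_core (c : BML H M R) {q : ℕ} (hq : q.Prime) (hqF : ¬ q ∣ Nat.card (fittingOf H))
    {Y : Subgroup G} (hY : IsPi {q} Y) (hYR : Y ≤ R) (hMY : M ≤ 𝓝(Y)) :
    Y ≤ piCoreOf (primesNotDvd (Nat.card (fittingOf H))) R := by
  set F := fittingOf H with hF
  set K := piCoreOf (primesNotDvd (Nat.card F)) R with hK
  have hRK : R ≤ 𝓝(K) := le_nz_piCoreOf _ _
  have hMK : M ≤ 𝓝(K) := c.hMR.trans (nz_le_nz_piCoreOf _ _)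
  have hYK : Y ≤ 𝓝(K) := hYR.trans hRK
  have hcY : (Nat.card Y).Coprime (Nat.card F) := by
    refine hY.coprime_of_dvd ?_
    intro p _ hpq
    rw [Set.mem_singleton_iff] at hpq
    subst hpq
    exact hqF
  have hYs : Group.IsSolvable Y := solvable_of_isPGroup hq (hY.isPGroup hq)
  have key : ∀ p : ℕ, p.Prime → qm K Y ≤ 𝓒(piCoreOf {p} (qm K R)) := by
    intro p hp
    by_cases hpF : p ∣ Nat.card F
    · have h1 := c.cz_pcore hp hpF
      rw [← hF, ← hK] at h1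
      set A := piCoreOf {p}ᶜ M with hA
      have hAM : A ≤ M := piCoreOf_le _ _
      have hcA : (Nat.card A).Coprime (Nat.card Y) :=
        ((hcY.coprime_dvd_right (Subgroup.card_dvd_of_le c.hM)).coprime_dvd_right
          (Subgroup.card_dvd_of_le hAM)).symm
      have h2 : ⁅Y, A⁆ = Y := by
        have h3 := cop_comm_sup (hAM.trans hMY) hcA hYs
        rw [c.fix_bot hcY hMY hYR p, sup_bot_eq] at h3
        exact h3
      set P := piCoreOf {p} (qm K R) with hP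
      have hAP : ⁅qm K A, P⁆ = ⊥ := comm_eq_bot_iff.2 h1
      have hYP : qm K Y ≤ 𝓝(P) := (qm_mono hYR).trans (le_nz_piCoreOf _ _)
      have h4 : ⁅⁅qm K Y, qm K A⁆, P⁆ = ⊥ := by
        refine three_sub (H := qm K A) (K := P) (L := qm K Y) ?_ ?_
        · rw [hAP]; exact commutator_bot_left _
        · rw [eq_bot_iff]
          have h5 : ⁅P, qm K Y⁆ ≤ P := comm_le_left hYP
          refine (commutator_mono h5 le_rfl).trans ?_
          rw [commutator_comm, hAP]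
      rw [← qm_comm hYK (hAM.trans hMK), h2] at h4
      exact comm_eq_bot_iff.1 h4
    · have h0 : piCoreOf {p} (qm K R) = ⊥ := qm_core_bot hp ⟨hp, hpF⟩
      rw [h0, le_cz_comm]
      exact bot_le
  have h1 : qm K Y ≤ 𝓒(fittingOf (qm K R)) := by
    intro y hy
    have h2 := cz_compl (π := Set.univ) (H := qm K R) (x := y) fun p hp _ => key p hp hy
    rwa [piCoreOf_self (isPi_univ _)] at h2
  have h2 : qm K Y ≤ fittingOf (qm K R) :=
    (le_inf (qm_mono hYR) h1).trans (cz_fittingOf_le (qm_solvable c.hR))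
  have h3 : IsPi {q} (qm K Y) := fun r hr hrY => hY r hr (hrY.trans (qm_card_dvd hYK))
  have h4 : qm K Y ≤ piCoreOf {q} (fittingOf (qm K R)) :=
    nilpotent_le_piCoreOf (fittingOf_nilpotent _) h2 h3
  have h5 : piCoreOf {q} (qm K R) = ⊥ := qm_core_bot hq ⟨hq, hqF⟩
  rw [piCoreOf_fittingOf hq, h5, le_bot_iff, qm_eq_bot hYK] at h4
  exact h4

theorem BML.main (c : BML H M R) {q : ℕ} (hq : q.Prime) (hqF : ¬ q ∣ Nat.card (fittingOf H)) :
    ∃ S : Subgroup G, IsPiHallOf {q} S (piCoreOf (primesNotDvd (Nat.card (fittingOf H))) R) ∧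
      M ≤ 𝓝(S) ∧ ∀ Y : Subgroup G, IsPi {q} Y → Y ≤ R → M ≤ 𝓝(Y) → Y ≤ S := by
  set K := piCoreOf (primesNotDvd (Nat.card (fittingOf H))) R with hK
  have hMK : M ≤ 𝓝(K) := c.hMR.trans (nz_le_nz_piCoreOf _ _)
  have hcop : (Nat.card M).Coprime (Nat.card K) := c.copK
  have hKs : Group.IsSolvable K := by
    haveI := c.hR
    exact solvable_of_solvable_injective (inclusion_injective (piCoreOf_le _ R))
  have hMs : Group.IsSolvable M := by
    haveI := c.nilM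
    infer_instance
  obtain ⟨S, hS, hMS⟩ := cop_hall_exists hMK hcop hKs {q}
  refine ⟨S, hS, hMS, fun Y hY hYR hMY => ?_⟩
  have hYK := c.le_core hq hqF hY hYR hMY
  obtain ⟨T, hT, hMT, hYT⟩ := cop_hall_ge hMK hcop hKs hMs hY hYK hMY
  obtain ⟨x, hx, hxS⟩ := cop_hall_conj hMK hcop hKs hT hMT hS hMS
  have h0 : K ⊓ 𝓒(M) = ⊥ := by
    have h1 : (Nat.card ↥(K ⊓ 𝓒(M))).Coprime (Nat.card (fittingOf H)) := by
      have h2 : (Nat.card K).Coprime (Nat.card (fittingOf H)) :=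
        isPi_primesNotDvd.1 (isPi_piCoreOf _ _)
      exact cop_le h2 inf_le_left le_rfl
    exact c.eq_bot h1 inf_le_right (inf_le_left.trans (piCoreOf_le _ _))
  rw [h0, mem_bot] at hx
  subst hx
  rw [cj_one] at hxS
  rwa [← hxS]

theorem s1481 (hmax : ∀ L : Subgroup G, IsLocalSubgroup L → H ≤ L → L = H)
    (hF2 : 2 ≤ (Nat.card (fittingOf H)).primeFactors.card)
    (hM : M ≤ fittingOf H) (hCM : fittingOf H ⊓ 𝓒(M) ≤ M)
    (hR : Group.IsSolvable R) (hMR : M ≤ 𝓝(R))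
    (hXR : H ⊓ 𝓒(fittingOf H) ≤ 𝓝(R)) {q : ℕ} (hq : q.Prime)
    (hqF : ¬ q ∣ Nat.card (fittingOf H)) :
    ∃! Q : Subgroup G, Q ∈ maxInvSubgroups R M {q} ∧
      (∀ Q' : Subgroup G, Q' ∈ maxInvSubgroups R M {q} →
        Q' ≤ piCoreOf (primesNotDvd (Nat.card (fittingOf H))) R ∧
        ¬ q ∣ Q'.relIndex (piCoreOf (primesNotDvd (Nat.card (fittingOf H))) R)) := by
  have c : BML H M R := ⟨hmax, hF2, hM, hCM, hR, hMR, hXR⟩
  obtain ⟨S, hS, hMS, hall⟩ := c.main hq hqF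
  have hSR : S ≤ R := (hall_le hS).trans (piCoreOf_le _ _)
  have hSi : S ∈ invSubgroups R M {q} := ⟨hSR, hall_isPi hS, hMS⟩
  have hSm : S ∈ maxInvSubgroups R M {q} :=
    ⟨hSi, fun T hT hST => le_antisymm (hall T hT.2.1 hT.1 hT.2.2) hST⟩
  have huniq : ∀ T : Subgroup G, T ∈ maxInvSubgroups R M {q} → T = S := by
    intro T hT
    exact (hT.2 S hSi (hall T hT.1.2.1 hT.1.1 hT.1.2.2)).symm
  refine ⟨S, ⟨hSm, fun T hT => ?_⟩, fun T hT => huniq T hT.1⟩
  rw [huniq T hT]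
  exact ⟨hall_le hS, (hall_iff.1 hS).2.2 q hq rfl⟩

end CfsgLib.BGPi
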