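import Cfsg.Agent.EqBase
import Cfsg.Agent.LibBG15b
import Cfsg.Agent.LibBG17a
import Cfsg.Agent.LibBGOm4

/-! A cyclic group acting on a nonabelian group of order `p ^ 3`. -/

open Subgroup
open scoped Pointwise commutatorElement

namespace CfsgLib.BGPi

open Cfsg

universe u

theorem end_sl2 {V : Type*} [AddCommGroup V] {p : ℕ} (hp : p.Prime)
    (hV : ∀ v : V, p • v = 0) (φ φ' : AddMonoid.End V) (h1 : φ * φ' = 1) (h2 : φ' * φ = 1)
    (t : ℤ) (h : φ * φ + 1 = (t : AddMonoid.End V) * φ) :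
    (φ ^ (p + 1) - 1) * (φ ^ (p - 1) - 1) = 0 := by
  have hp0 : (p : AddMonoid.End V) = 0 := by
    ext v
    rw [AddMonoid.End.natCast_apply]
    exact hV v
  have hc : Commute φ φ' := by
    show φ * φ' = φ' * φ
    rw [h1, h2]
  have h3 : φ + φ' = (t : AddMonoid.End V) := by
    calc φ + φ' = (φ * φ + 1) * φ' := by rw [add_mul, mul_assoc, h1, mul_one, one_mul]
      _ = (t : AddMonoid.End V) := by rw [h, mul_assoc, h1, mul_one]
  obtain ⟨r, hr⟩ := hc.exists_add_pow_prime_eq hp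
  simp only [hp0, zero_mul, add_zero] at hr
  rw [h3] at hr
  have h4 : ((t : AddMonoid.End V)) ^ p = t := by
    haveI := Fact.mk hp
    have h5 : ((t ^ p - t : ℤ) : ZMod p) = 0 := by
      push_cast
      rw [ZMod.pow_card, sub_self]
    obtain ⟨m, hm⟩ := (ZMod.intCast_zmod_eq_zero_iff_dvd _ _).1 h5
    have h6 : ((t ^ p - t : ℤ) : AddMonoid.End V) = 0 := by
      rw [hm]
      push_cast
      rw [hp0, zero_mul]
    push_cast at h6
    exact sub_eq_zero.1 h6
  rw [h4, ← h3] at hr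
  -- `φ + φ' = φ ^ p + φ' ^ p`
  have h7 : φ ^ p * φ' = φ ^ (p - 1) := by
    obtain ⟨m, hm⟩ : ∃ m, p = m + 1 := ⟨p - 1, by have := hp.pos; omega⟩
    rw [hm, Nat.add_sub_cancel, pow_succ, mul_assoc, h1, mul_one]
  have h8 : φ ^ p * φ' ^ p = 1 := by rw [← hc.mul_pow, h1, one_pow]
  have h9 : φ ^ (p + 1) + φ ^ (p - 1) = φ ^ (p + p) + 1 := by
    calc φ ^ (p + 1) + φ ^ (p - 1) = φ ^ p * (φ + φ') := by rw [mul_add, h7, ← pow_succ]
      _ = φ ^ p * (φ ^ p + φ' ^ p) := by rw [hr]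
      _ = φ ^ (p + p) + 1 := by rw [mul_add, h8, ← pow_add]
  have h10 : φ ^ (p + 1) * φ ^ (p - 1) = φ ^ (p + p) := by
    rw [← pow_add]; congr 1; have := hp.pos; omega
  calc (φ ^ (p + 1) - 1) * (φ ^ (p - 1) - 1)
      = φ ^ (p + 1) * φ ^ (p - 1) + 1 - (φ ^ (p + 1) + φ ^ (p - 1)) := by noncomm_ring
    _ = 0 := by rw [h10, h9, sub_self]

section
variable {G : Type u} [Group G] [Finite G]

theorem p3_cyc {p : ℕ} (hp : p.Prime) {P : Subgroup G} (hP : IsPGroup p P)
    (hc : Nat.card P = p ^ 3) (hn : ¬ P ≤ 𝓒(P)) (hexp : ∀ x ∈ P, x ^ p = 1)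
    {k : G} (hk : k ∈ 𝓝(P)) (hkp : (orderOf k).Coprime p) (hkZ : k ∈ 𝓒(⁅P, P⁆))
    (hfix : ∀ j : ℕ, k ^ j ≠ 1 → P ⊓ Subgroup.centralizer ({k ^ j} : Set G) ≤ ⁅P, P⁆) :
    k ^ (p - 1) = 1 ∨ k ^ (p + 1) = 1 := by
  haveI := Fact.mk hp
  obtain ⟨hZe, hZc⟩ := nonab_p3 hp hP hc hn
  set Z := ⁅P, P⁆ with hZ
  have hZP : Z ≤ P := by rw [hZe]; exact inf_le_left
  have hPZc : P ≤ 𝓒(Z) := by rw [le_cz_comm, hZe]; exact inf_le_right
  have hPZ : P ≤ 𝓝(Z) := hPZc.trans (cz_le_nz _)
  have hkNZ : k ∈ 𝓝(Z) := cz_le_nz _ hkZ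
  set A := qm Z P with hA
  have hAab : A ≤ 𝓒(A) := (qm_cz_iff hPZ hPZ).2 le_rfl
  have hAc : Nat.card A = p ^ 2 := by
    rw [hA, qm_card hPZ]
    have h1 := card_mul_relIndex hZP
    rw [hZc, hc] at h1
    have h2 : p * Z.relIndex P = p * p ^ 2 := by rw [h1]; ring
    exact Nat.eq_of_mul_eq_mul_left hp.pos h2
  have hA1 : A ≠ ⊥ := by
    intro h
    rw [h, Subgroup.card_bot] at hAc
    exact (Nat.one_lt_pow two_ne_zero hp.one_lt).ne hAc
  have hkA : qe Z hkNZ ∈ 𝓝(A) := by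
    have h1 : zpowers k ≤ 𝓝(P) := by rwa [zpowers_le]
    have h2 := qm_nz (N := Z) h1
    rw [qm_zpowers hkNZ, zpowers_le] at h2
    exact h2
  letI : CommGroup A := { (inferInstance : Group A) with
    mul_comm := fun a b => Subtype.ext (mem_cz.1 (hAab b.2) a a.2) }
  let φ0 : 𝓝(A) →* MulAut A := Subgroup.normalizerMonoidHom A
  let θ : 𝓝(A) →* AddMonoid.End (Additive A) :=
    { toFun := fun n => MonoidHom.toAdditive (φ0 n).toMonoidHom
      map_one' := by rw [map_one]; rfl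
      map_mul' := fun a b => by rw [map_mul]; rfl }
  have hθ : ∀ (n : 𝓝(A)) (v : Additive A),
      ((Additive.toMul (θ n v) : A) : QN Z) =
        n * (Additive.toMul v : A) * (n : QN Z)⁻¹ := fun n v => rfl
  set κ : 𝓝(A) := ⟨qe Z hkNZ, hkA⟩ with hκ
  -- fixed points of powers
  have hfp : ∀ j : ℕ, k ^ j ≠ 1 → ∀ v : Additive A, (θ κ ^ j) v = v → v = 0 := by
    intro j hj v hv
    rw [← map_pow] at hv
    have hkj : k ^ j ∈ 𝓝(Z) := pow_mem hkNZ j
    have hqj : qe Z hkj = (qe Z hkNZ) ^ j := by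
      unfold qe
      rw [← map_pow]
      rfl
    have h3 : ((Additive.toMul v : A) : QN Z) ∈ A ⊓ 𝓒(qm Z (zpowers (k ^ j))) := by
      refine ⟨(Additive.toMul v : A).2, ?_⟩
      rw [qm_zpowers hkj, ← cz1_eq, hqj]
      refine Subgroup.mem_centralizer_singleton_iff.2 ?_
      have h4 : (((κ ^ j : 𝓝(A)) : QN Z)) * (Additive.toMul v : A) *
          (((κ ^ j : 𝓝(A)) : QN Z))⁻¹ = (Additive.toMul v : A) :=
        congrArg (fun w : Additive A => ((Additive.toMul w : A) : QN Z)) hv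
      rw [Subgroup.coe_pow] at h4
      exact (mul_inv_eq_iff_eq_mul.1 h4).symm
    have h5 : A ⊓ 𝓒(qm Z (zpowers (k ^ j))) = ⊥ := by
      rw [eq_bot_iff]
      have hXP : zpowers (k ^ j) ≤ 𝓝(P) := by rw [zpowers_le]; exact pow_mem hk j
      have hXZ : zpowers (k ^ j) ≤ 𝓝(Z) := by rw [zpowers_le]; exact hkj
      have hcop : (Nat.card (zpowers (k ^ j))).Coprime (Nat.card P) := by
        rw [Nat.card_zpowers, hc]
        exact Nat.Coprime.pow_right 3 (hkp.coprime_dvd_left (orderOf_pow_dvd j))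
      refine (qm_fix hXP hcop (solvable_of_isPGroup hp hP) hZP hPZ hXZ).trans ?_
      have h6 : P ⊓ 𝓒(zpowers (k ^ j)) ≤ Z := by
        rw [← cz1_eq]; exact hfix j hj
      refine (qm_mono h6).trans ?_
      rw [(qm_eq_bot (le_normalizer : Z ≤ 𝓝(Z))).2 le_rfl]
    rw [h5] at h3
    have h4 : (Additive.toMul v : A) = 1 := Subtype.ext (Subgroup.mem_bot.1 h3)
    exact h4
  -- elements of the quotient
  have hVp : ∀ v : Additive A, p • v = 0 := by
    intro v
    obtain ⟨x, hx, hxP, hxe⟩ := mem_qm.1 (Additive.toMul v : A).2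
    have h1 : (Additive.toMul v : A) ^ p = 1 := by
      apply Subtype.ext
      rw [Subgroup.coe_pow, ← hxe, Subgroup.coe_one]
      unfold qe
      rw [← map_pow]
      have h2 : (⟨x, hx⟩ : ↥𝓝(Z)) ^ p = 1 := Subtype.ext (hexp x hxP)
      rw [h2, map_one]
    exact h1
  have hkP : ∀ x ∈ P, k * x * k⁻¹ ∈ P := fun x hx => (Subgroup.mem_normalizer_iff.1 hk x).1 hx
  -- the conclusion from the vanishing of a product
  have hfin : ((θ κ) ^ (p + 1) - 1) * ((θ κ) ^ (p - 1) - 1) = 0 →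
      k ^ (p - 1) = 1 ∨ k ^ (p + 1) = 1 := by
    intro h0
    by_contra hcon
    push Not at hcon
    apply hA1
    rw [eq_bot_iff]
    intro a ha
    set v : Additive A := Additive.ofMul (⟨a, ha⟩ : A) with hv
    have h1 : ((θ κ) ^ (p + 1) - 1) (((θ κ) ^ (p - 1) - 1) v) = 0 :=
      DFunLike.congr_fun h0 v
    have h2 := hfp (p + 1) hcon.2 _ (sub_eq_zero.1 h1)
    have h3 := hfp (p - 1) hcon.1 _ (sub_eq_zero.1 h2)
    have h4 : (⟨a, ha⟩ : A) = 1 := h3
    exact Subgroup.mem_bot.2 (congrArg Subtype.val h4)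
  have hκval : (κ : QN Z) = qe Z hkNZ := rfl
  -- the class of an element of `P`
  have hcls : ∀ x (hx : x ∈ P), ((Additive.toMul (θ κ (Additive.ofMul
      (⟨qe Z (hPZ hx), qe_mem _ hx⟩ : A))) : A) : QN Z) = qe Z (hPZ (hkP x hx)) := by
    intro x hx
    rw [hθ, hκval]
    show qe Z hkNZ * qe Z (hPZ hx) * (qe Z hkNZ)⁻¹ = _
    rw [← qe_inv hkNZ, ← qe_mul, ← qe_mul]
  have hzp : ∀ (x : G) (hx : x ∈ P) (i : ℤ),
      qe Z (hPZ (zpow_mem hx i)) = (qe Z (hPZ hx)) ^ i := by
    intro x hx i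
    unfold qe
    rw [← map_zpow]
    rfl
  by_cases hcase : ∀ x ∈ P, ∃ m : ℤ, ∃ z ∈ Z, k * x * k⁻¹ = x ^ m * z
  · left
    by_contra hne
    apply hA1
    rw [eq_bot_iff]
    intro a ha
    obtain ⟨x, hx', hxP, hxe⟩ := mem_qm.1 ha
    obtain ⟨m, z, hz, hm⟩ := hcase x hxP
    set v : Additive A := Additive.ofMul (⟨qe Z (hPZ hxP), qe_mem _ hxP⟩ : A) with hv
    have hmv : θ κ v = m • v := by
      have h1 : ((Additive.toMul (θ κ v) : A) : QN Z) = ((Additive.toMul (m • v) : A) : QN Z) := by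
        rw [hcls x hxP]
        show _ = (qe Z (hPZ hxP)) ^ m
        rw [← hzp x hxP m]
        have h2 : qe Z (hPZ (hkP x hxP)) =
            qe Z (hPZ (zpow_mem hxP m)) * qe Z (hPZ (hZP hz)) := by
          rw [← qe_mul]
          congr 1
        rw [h2, (qe_eq_one _).2 hz, mul_one]
      exact Subtype.ext h1
    have hv0 : v = 0 := by
      by_cases hpm : (p : ℤ) ∣ m
      · obtain ⟨s, hs⟩ := hpm
        have h1 : θ κ v = 0 := by
          rw [hmv, hs, mul_comm, mul_smul, natCast_zsmul, hVp, smul_zero]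
        have h2 : θ κ⁻¹ (θ κ v) = v := by
          have h3 : θ κ⁻¹ * θ κ = 1 := by rw [← map_mul, inv_mul_cancel, map_one]
          exact DFunLike.congr_fun h3 v
        rw [h1, map_zero] at h2
        exact h2.symm
      · refine hfp (p - 1) hne v ?_
        have h1 : ∀ n : ℕ, (θ κ ^ n) v = (m ^ n : ℤ) • v := by
          intro n
          induction n with
          | zero => rw [pow_zero, pow_zero, one_smul]; rfl
          | succ n ih =>
            rw [pow_succ', pow_succ]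
            show θ κ ((θ κ ^ n) v) = _
            rw [ih, map_zsmul, hmv, mul_smul]
        rw [h1]
        have h2 : ((m ^ (p - 1) - 1 : ℤ) : ZMod p) = 0 := by
          push_cast
          rw [ZMod.pow_card_sub_one_eq_one, sub_self]
          intro h3
          exact hpm ((ZMod.intCast_zmod_eq_zero_iff_dvd _ _).1 h3)
        obtain ⟨s, hs⟩ := (ZMod.intCast_zmod_eq_zero_iff_dvd _ _).1 h2
        have h3 : (m ^ (p - 1) : ℤ) = 1 + s * p := by linarith [hs]
        rw [h3, add_smul, one_smul, mul_smul, natCast_zsmul, hVp, smul_zero, add_zero]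
    have h4 : (⟨qe Z (hPZ hxP), qe_mem _ hxP⟩ : A) = 1 := hv0
    have h5 := congrArg Subtype.val h4
    rw [Subgroup.mem_bot, ← hxe]
    exact h5
  · push Not at hcase
    obtain ⟨x, hxP, hxm⟩ := hcase
    set y := k * x * k⁻¹ with hy
    have hyP : y ∈ P := hkP x hxP
    set a : QN Z := qe Z (hPZ hxP) with ha
    set b : QN Z := qe Z (hPZ hyP) with hb
    have haA : a ∈ A := qe_mem _ hxP
    have hbA : b ∈ A := qe_mem _ hyP
    have hba : b ∉ zpowers a := by
      intro h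
      obtain ⟨i, hi⟩ := Subgroup.mem_zpowers_iff.1 h
      rw [ha, ← hzp x hxP i] at hi
      have h1 : (x ^ i)⁻¹ * y ∈ Z := by
        refine (qe_eq_one (mul_mem (inv_mem (hPZ (zpow_mem hxP i))) (hPZ hyP))).1 ?_
        rw [qe_mul (inv_mem (hPZ (zpow_mem hxP i))) (hPZ hyP), qe_inv (hPZ (zpow_mem hxP i)), hi]
        exact inv_mul_cancel _
      exact hxm i _ h1 (by group)
    have ha1 : a ≠ 1 := by
      intro h
      have h1 : x ∈ Z := (qe_eq_one _).1 h
      refine hxm 1 1 (one_mem _) ?_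
      rw [zpow_one, mul_one, hy, ← mem_cz.1 hkZ x h1, mul_inv_cancel_right]
    have hap : a ^ p = 1 := by
      rw [ha]
      unfold qe
      rw [← map_pow]
      have h2 : (⟨x, hPZ hxP⟩ : ↥𝓝(Z)) ^ p = 1 := Subtype.ext (hexp x hxP)
      rw [h2, map_one]
    have hca : Nat.card (zpowers a) = p := by
      rw [Nat.card_zpowers]
      exact orderOf_eq_prime hap ha1
    have hab : Commute a b := (mem_cz.1 (hAab hbA) a haA)
    set B := zpowers a ⊔ zpowers b with hB
    have hBA : B ≤ A := sup_le (by rwa [zpowers_le]) (by rwa [zpowers_le])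
    have hBe : B = A := by
      refine eq_of_card_le hBA ?_
      have h1 := card_dvd_of_le hBA
      have h2 : Nat.card (zpowers a) ∣ Nat.card B := card_dvd_of_le le_sup_left
      rw [hAc] at h1 ⊢
      rw [hca] at h2
      obtain ⟨n, hn2, hn'⟩ := (Nat.dvd_prime_pow hp).1 h1
      rw [hn']
      rcases Nat.lt_or_ge n 2 with h3 | h3
      · exfalso
        have h4 : n = 1 ∨ n = 0 := by omega
        rcases h4 with rfl | rfl
        · rw [pow_one] at hn'
          have h5 : zpowers a = B := eq_of_card_le le_sup_left (by rw [hn', hca])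
          exact hba (h5 ▸ (le_sup_right : zpowers b ≤ B) (mem_zpowers b))
        · rw [pow_zero] at hn'
          rw [hn'] at h2
          exact hp.one_lt.ne' (Nat.dvd_one.1 h2)
      · exact Nat.pow_le_pow_right hp.pos h3
    have hel : ∀ u ∈ A, ∃ i j : ℤ, u = a ^ i * b ^ j := by
      intro u hu
      rw [← hBe] at hu
      have hnz : zpowers a ≤ 𝓝(zpowers b) := by
        refine le_trans ?_ (cz_le_nz _)
        rw [zpowers_le, ← cz1_eq]
        exact Subgroup.mem_centralizer_singleton_iff.2 hab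
      obtain ⟨r, hr, s, hs, rfl⟩ := (mem_sup_of_nz hnz).1 hu
      obtain ⟨i, rfl⟩ := Subgroup.mem_zpowers_iff.1 hr
      obtain ⟨j, rfl⟩ := Subgroup.mem_zpowers_iff.1 hs
      exact ⟨i, j, rfl⟩
    -- the image of `y`
    have hy'P : k * y * k⁻¹ ∈ P := hkP y hyP
    obtain ⟨i, j, hij⟩ := hel (qe Z (hPZ hy'P)) (qe_mem _ hy'P)
    have hzZ : (x ^ i * y ^ j)⁻¹ * (k * y * k⁻¹) ∈ Z := by
      have hxy : x ^ i * y ^ j ∈ P := mul_mem (zpow_mem hxP i) (zpow_mem hyP j)
      refine (qe_eq_one (mul_mem (inv_mem (hPZ hxy)) (hPZ hy'P))).1 ?_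
      rw [qe_mul (inv_mem (hPZ hxy)) (hPZ hy'P), qe_inv (hPZ hxy),
        qe_mul (hPZ (zpow_mem hxP i)) (hPZ (zpow_mem hyP j)), hzp x hxP i, hzp y hyP j, hij]
      exact inv_mul_cancel _
    set z := (x ^ i * y ^ j)⁻¹ * (k * y * k⁻¹) with hz
    have hy' : k * y * k⁻¹ = x ^ i * y ^ j * z := by rw [hz]; group
    set c := ⁅x, y⁆ with hc'
    have hcZ : c ∈ Z := Subgroup.commutator_mem_commutator hxP hyP
    have hcen : ∀ w ∈ Z, ∀ u ∈ P, Commute w u := fun w hw u hu => mem_cz.1 (hPZc hu) w hw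
    have hkc : k * c * k⁻¹ = c := by
      rw [← mem_cz.1 hkZ c hcZ, mul_inv_cancel_right]
    have hc1 : c ≠ 1 := by
      intro h
      apply hn
      have hxyc : Commute x y := commutatorElement_eq_one_iff_commute.1 h
      -- every element is `x ^ i y ^ j z`
      have hrep : ∀ u ∈ P, ∃ i j : ℤ, ∃ w ∈ Z, u = x ^ i * y ^ j * w := by
        intro u hu
        obtain ⟨i', j', h1⟩ := hel (qe Z (hPZ hu)) (qe_mem _ hu)
        have hxy : x ^ i' * y ^ j' ∈ P := mul_mem (zpow_mem hxP i') (zpow_mem hyP j')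
        refine ⟨i', j', (x ^ i' * y ^ j')⁻¹ * u, ?_, by group⟩
        refine (qe_eq_one (mul_mem (inv_mem (hPZ hxy)) (hPZ hu))).1 ?_
        rw [qe_mul (inv_mem (hPZ hxy)) (hPZ hu), qe_inv (hPZ hxy),
          qe_mul (hPZ (zpow_mem hxP i')) (hPZ (zpow_mem hyP j')), hzp x hxP i', hzp y hyP j', h1]
        exact inv_mul_cancel _
      intro u hu
      rw [mem_cz]
      intro w hw
      obtain ⟨i₁, j₁, w₁, hw₁, rfl⟩ := hrep u hu
      obtain ⟨i₂, j₂, w₂, hw₂, rfl⟩ := hrep w hw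
      have cx : ∀ w ∈ Z, Commute w x := fun w hw => hcen w hw x hxP
      have cy : ∀ w ∈ Z, Commute w y := fun w hw => hcen w hw y hyP
      have key : Commute (x ^ i₂ * y ^ j₂ * w₂) (x ^ i₁ * y ^ j₁ * w₁) := by
        refine Commute.mul_left (Commute.mul_left ?_ ?_) ?_
        · refine Commute.mul_right (Commute.mul_right ?_ ?_) ?_
          · exact Commute.zpow_zpow (Commute.refl x) _ _
          · exact Commute.zpow_zpow hxyc _ _
          · exact ((cx w₁ hw₁).zpow_right i₂).symm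
        · refine Commute.mul_right (Commute.mul_right ?_ ?_) ?_
          · exact Commute.zpow_zpow hxyc.symm _ _
          · exact Commute.zpow_zpow (Commute.refl y) _ _
          · exact ((cy w₁ hw₁).zpow_right j₂).symm
        · refine Commute.mul_right (Commute.mul_right ?_ ?_) ?_
          · exact (cx w₂ hw₂).zpow_right _
          · exact (cy w₂ hw₂).zpow_right _
          · exact hcen w₂ hw₂ w₁ (hZP hw₁)
      exact key
    have hci : c ^ (i + 1) = 1 := by
      have h1 : k * c * k⁻¹ = ⁅y, k * y * k⁻¹⁆ := by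
        rw [hc', commutatorElement_def, commutatorElement_def, hy]
        group
      have h2 : ⁅y, k * y * k⁻¹⁆ = c ^ (-i) := by
        rw [hy']
        have e1 : Commute c x := hcen c hcZ x hxP
        have e2 : y * x * y⁻¹ = c⁻¹ * x := by
          rw [hc', commutatorElement_def]; group
        have e3 : y * x ^ i * y⁻¹ = c ^ (-i) * x ^ i := by
          rw [← conj_zpow, e2, (e1.inv_left).mul_zpow, inv_zpow, zpow_neg]
        have e4 : Commute z y := hcen z hzZ y hyP
        have e5 : Commute z (x ^ i * y ^ j) :=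
          hcen z hzZ _ (mul_mem (zpow_mem hxP i) (zpow_mem hyP j))
        rw [commutatorElement_def]
        calc y * (x ^ i * y ^ j * z) * y⁻¹ * (x ^ i * y ^ j * z)⁻¹
            = y * x ^ i * y ^ j * (z * y⁻¹) * z⁻¹ * (y ^ j)⁻¹ * (x ^ i)⁻¹ := by group
          _ = y * x ^ i * y ^ j * (y⁻¹ * z) * z⁻¹ * (y ^ j)⁻¹ * (x ^ i)⁻¹ := by
              rw [(e4.inv_right).eq]
          _ = (y * x ^ i * y⁻¹) * (x ^ i)⁻¹ := by group
          _ = c ^ (-i) := by rw [e3, mul_inv_cancel_right]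
      rw [hkc, h2] at h1
      calc c ^ (i + 1) = c ^ i * c := by rw [zpow_add, zpow_one]
        _ = c ^ i * c ^ (-i) := by rw [← h1]
        _ = 1 := by rw [← zpow_add, add_neg_cancel, zpow_zero]
    have hcp : c ^ p = 1 := hexp c (hZP hcZ)
    have hpi : (p : ℤ) ∣ i + 1 := by
      have h1 : orderOf c = p := orderOf_eq_prime hcp hc1
      rw [← h1]
      exact orderOf_dvd_iff_zpow_eq_one.2 hci
    obtain ⟨s, hs⟩ := hpi
    set v : Additive A := Additive.ofMul (⟨a, haA⟩ : A) with hv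
    set w : Additive A := Additive.ofMul (⟨b, hbA⟩ : A) with hw
    have hφv : θ κ v = w := Subtype.ext (hcls x hxP)
    have hφw : θ κ w = -v + j • w := by
      have h1 : θ κ w = i • v + j • w := by
        have h2 : ((Additive.toMul (θ κ w) : A) : QN Z) =
            ((Additive.toMul (i • v + j • w) : A) : QN Z) := by
          rw [hcls y hyP, hij]
          rfl
        exact Subtype.ext h2
      have h3 : i = -1 + s * p := by linarith [hs]
      rw [h1, h3, add_smul, mul_smul, natCast_zsmul, hVp, smul_zero, add_zero, neg_smul, one_smul]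
    have hgen : ∀ u : Additive A, ∃ i j : ℤ, u = i • v + j • w := by
      intro u
      obtain ⟨i', j', h1⟩ := hel _ (Additive.toMul u : A).2
      exact ⟨i', j', Subtype.ext h1⟩
    have hrel : θ κ * θ κ + 1 = ((j : ℤ) : AddMonoid.End (Additive A)) * θ κ := by
      refine DFunLike.ext _ _ fun u => ?_
      obtain ⟨i', j', rfl⟩ := hgen u
      show θ κ (θ κ (i' • v + j' • w)) + (i' • v + j' • w) =
        ((j : ℤ) : AddMonoid.End (Additive A)) (θ κ (i' • v + j' • w))
      rw [AddMonoid.End.intCast_apply]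
      simp only [map_add, map_zsmul, hφv, hφw, map_neg]
      module
    have hinv1 : θ κ * θ κ⁻¹ = 1 := by rw [← map_mul, mul_inv_cancel, map_one]
    have hinv2 : θ κ⁻¹ * θ κ = 1 := by rw [← map_mul, inv_mul_cancel, map_one]
    exact hfin (end_sl2 hp hVp (θ κ) (θ κ⁻¹) hinv1 hinv2 j hrel)

end

end CfsgLib.BGPi
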