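import Cfsg.Agent.EqBase
import Cfsg.Agent.LibBG16b
import Cfsg.Agent.LibBG18c
import Cfsg.Agent.LibBGOm6
import Cfsg.Agent.LibBGThm36g

/-! B & G section 16: type V. -/

open Subgroup
open scoped Pointwise commutatorElement

namespace CfsgLib.BGPi

open Cfsg

universe u

theorem comm_sup_central {G : Type u} [Group G] {P V : Subgroup G} (h : P ≤ 𝓒(V)) (hV : V ≤ 𝓒(V)) :
    ⁅P ⊔ V, P ⊔ V⁆ = ⁅P, P⁆ := by
  apply le_antisymm
  · rw [Subgroup.commutator_le]
    have hnz : P ≤ 𝓝(V) := h.trans (cz_le_nz _)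
    intro a ha b hb
    obtain ⟨x, hx, v, hv, rfl⟩ := (mem_sup_of_nz hnz).1 ha
    obtain ⟨y, hy, w, hw, rfl⟩ := (mem_sup_of_nz hnz).1 hb
    have e1 : v * y = y * v := mem_cz.1 (h hy) v hv
    have e2 : w * x = x * w := mem_cz.1 (h hx) w hw
    have e3 : v * w = w * v := mem_cz.1 (hV hw) v hv
    have e4 : Commute v y := e1
    have e5 : Commute w x := e2
    have e6 : Commute v w := e3
    have h1 : ⁅x * v, y * w⁆ = ⁅x, y⁆ := by
      rw [commutatorElement_def, commutatorElement_def]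
      have s1 : x * v * (y * w) = x * y * (w * v) := by
        rw [mul_assoc, ← mul_assoc v y w, e1, mul_assoc y v w, e3, ← mul_assoc]
      rw [s1]
      have s2 : x * y * (w * v) * (x * v)⁻¹ = x * y * x⁻¹ * w := by
        rw [mul_inv_rev, ← mul_assoc, mul_assoc (x * y) (w * v) v⁻¹, mul_inv_cancel_right,
          mul_assoc (x * y) w x⁻¹, (e5.inv_right).eq, ← mul_assoc]
      rw [s2, mul_inv_rev, mul_assoc, ← mul_assoc w w⁻¹ y⁻¹, mul_inv_cancel, one_mul]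
    rw [h1]
    exact Subgroup.commutator_mem_commutator hx hy
  · exact Subgroup.commutator_mono le_sup_left le_sup_left

section
variable {G : Type u} [Group G] [Finite G]
variable (hG : IsMinSimpleOddOrder G)
include hG

theorem type5_fwd {M K U : Subgroup G} (hM : IsCoatom M) (hKU : IsSigmaDecomposition M K U)
    (h : IsOfTypeV M) : K ≠ ⊥ ∧ U = ⊥ ∧ fittingHallOf M = sigmaCore M := by
  obtain ⟨W₁, V, W₂, hP, hV, -⟩ := h
  obtain ⟨hK1, -⟩ := typeP_U hG hM hKU hP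
  have h3 : ⁅M, M⁆ ≤ fittingHallOf M := by
    intro x hx
    obtain ⟨a, ha, b, hb, rfl⟩ := hP.U_compl.2.2.2 x hx
    rw [hV] at hb
    rw [Subgroup.mem_bot.1 hb, mul_one]
    exact ha
  have h5 := fittingHallOf_le_sigmaCore hG hM
  have h4 : ⁅M, M⁆ = sigmaCore M := le_antisymm (h3.trans h5) (sigma_le_der hG hM)
  exact ⟨hK1, (dec_U_bot hG hM hKU hK1).2 h4, le_antisymm h5 (h4 ▸ h3)⟩

/-- a line showing that `M_σ` is not a TI-subset -/
theorem nti_line {M : Subgroup G} (hM : IsCoatom M) (h : ¬ IsTISubset (sigmaCore M : Set G)) :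
    ∃ (p : ℕ) (x : G), p.Prime ∧ x ∈ sigmaCore M ∧ orderOf x = p ∧
      ¬ Subgroup.centralizer ({x} : Set G) ≤ M ∧ p ∉ beta M := by
  by_contra hcon
  push Not at hcon
  apply h
  refine ti_of_lines hG hM (le_nz_sigmaCore hG M) fun q X g hq hX hXF hXg => ?_
  by_contra hgM
  obtain ⟨x, hx, hx1⟩ := X.bot_or_exists_ne_one.resolve_left (ne_bot_of_card_prime hq hX)
  have hxo : orderOf x = q := by
    rw [← Nat.card_zpowers, zpowers_eq_of_prime hq hX hx hx1, hX]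
  have hg' : g⁻¹ ∉ M := fun h => hgM (by simpa using M.inv_mem h)
  have hXM : X ≤ M ^ᵍ g⁻¹ := by
    rw [le_cj_iff, inv_inv]
    exact hXg.trans (sigmaCore_le hG hM)
  obtain ⟨hc, hβ, -⟩ := bg12_17c hG hM hg'
  have hqβ : q ∉ beta M := hβ q hq (by
    rw [← hX]; exact card_dvd_of_le (le_inf hXF hXM))
  have hCM : Subgroup.centralizer ({x} : Set G) ≤ M := by
    by_contra hCM
    exact hqβ (hcon q x hq (hXF hx) hxo hCM)
  obtain ⟨r, hr, hrM⟩ := bg14_4_trans hG hM (hXF hx) hx1 (hXM hx)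
  rw [cj_eq_of_mem (hCM hr)] at hrM
  exact hg' (by
    have h1 := mem_nz.2 hrM.symm
    rwa [max_nz_self hG hM] at h1)

/-- a noncyclic nilpotent `σ'`-subgroup contains an exceptional pair -/
theorem noncyc_tau2 {N E V : Subgroup G} (hN : IsCoatom N) (hE : IsPiHallOf (sigma N)ᶜ E N)
    (hVE : V ≤ E) (hV : Group.IsNilpotent V) (hnc : ¬ IsCyclic V) :
    ∃ (r : ℕ) (B B₀ : Subgroup G), B ≤ V ∧ Exc r N B₀ B := by
  have h1 : ¬ RankLE 1 V := fun h => hnc (cyclic_of_nilp_rank1 (ms_odd hG V) hV h)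
  obtain ⟨r, hr, hr1⟩ : ∃ r : ℕ, r.Prime ∧ ¬ PRankLE r 1 V := by
    by_contra hcon
    push Not at hcon
    exact h1 hcon
  obtain ⟨B, hBV, hBe, hBc⟩ := (not_rank_iff hr).1 hr1
  have hrB : r ∣ Nat.card B := by rw [hBc]; exact dvd_pow_self r (by norm_num)
  have hrσ : r ∉ sigma N := hall_isPi hE r hr (hrB.trans (card_dvd_of_le (hBV.trans hVE)))
  have hr2 : r ∈ tau2 N := ⟨hr, hrσ, rank_of_not_sigma hG hN hr hrσ,
    (not_rank_iff hr).2 ⟨B, (hBV.trans hVE).trans (hall_le hE), hBe, hBc⟩⟩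
  obtain ⟨A, hAE, A₀, c⟩ := exists_exc_tau2 hG hN hE hr2
  have hBA : B ≤ A := by
    intro b hb
    by_cases hb1 : b = 1
    · rw [hb1]; exact one_mem _
    haveI := Fact.mk hr
    have hbo : orderOf b = r := orderOf_eq_prime (hBe.2 b hb) hb1
    exact c.line_le hG hE hAE (by rw [zpowers_le]; exact hVE (hBV hb))
      (by rw [Nat.card_zpowers, hbo]) (mem_zpowers b)
  have h2 : B = A := eq_of_card_le hBA (by rw [c.card, hBc])
  subst h2
  exact ⟨r, B, A₀, hBV, c⟩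

theorem nti_struct {M : Subgroup G} (hM : IsCoatom M) (hn : Group.IsNilpotent (sigmaCore M))
    (hna : ¬ sigmaCore M ≤ 𝓒(sigmaCore M)) (h : ¬ IsTISubset (sigmaCore M : Set G)) :
    ∃ p : ℕ, p.Prime ∧ p ∈ sigma M ∧ p ∉ beta M ∧ p ∣ Nat.card (sigmaCore M) ∧
      IsCyclic (piCoreOf {p}ᶜ (sigmaCore M)) ∧
      ¬ piCoreOf {p} (sigmaCore M) ≤ 𝓒(piCoreOf {p} (sigmaCore M)) := by
  obtain ⟨p, x, hp, hxσ, hxo, hxM, hpβ⟩ := nti_line hG hM h
  have hx1 : x ≠ 1 := by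
    rintro rfl
    rw [orderOf_one] at hxo
    exact hp.one_lt.ne hxo
  obtain ⟨N, hN, hxN⟩ := exists_max hG (ms_cz1_ne_top hG hx1)
  obtain ⟨-, -, -, h4, h5, h6, -, -, -⟩ := bg14_4 hG hM hxσ hx1 hxM hN hxN
  set H := sigmaCore M with hH
  set P := piCoreOf {p} H with hP
  set V := piCoreOf {p}ᶜ H with hV
  have hPH : P ≤ H := piCoreOf_le _ _
  have hVH : V ≤ H := piCoreOf_le _ _
  have hHM : H ≤ M := sigmaCore_le hG hM
  have hxP : x ∈ P := by
    have h1 : IsPi {p} (zpowers x) := isPi_of_card_prime hp (by rw [Nat.card_zpowers, hxo])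
    exact nilpotent_le_piCoreOf hn (by rwa [zpowers_le]) h1 (mem_zpowers x)
  have hPV : P ≤ 𝓒(V) := nilpotent_commute hn hPH hVH (isPi_piCoreOf _ _) (isPi_piCoreOf _ _)
  have hVx : V ≤ Subgroup.centralizer ({x} : Set G) := by
    rw [cz1_eq, le_cz_comm, zpowers_le]
    exact hPV hxP
  have hVN : V ≤ N := hVx.trans hxN
  have hVE : V ≤ M ⊓ N := le_inf (hVH.trans hHM) hVN
  have hVn : Group.IsNilpotent V := nilpotent_sub hVH hn
  have hVab : V ≤ 𝓒(V) := nilp_ab hG hN hVN hVn ((hall_isPi h6).le hVE)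
  have hdvd : p ∣ Nat.card H := by
    rw [← hxo, ← Nat.card_zpowers]
    exact card_dvd_of_le (by rwa [zpowers_le])
  have hPn : ¬ P ≤ 𝓒(P) := by
    intro hPc
    apply hna
    have h1 : P ⊔ V = H := nilpotent_sup_piCoreOf hn
    rw [← comm_eq_bot_iff, ← h1, comm_sup_central hPV hVab, comm_eq_bot_iff]
    exact hPc
  refine ⟨p, hp, hall_isPi (sigma_hall hG hM) p hp hdvd, hpβ, hdvd, ?_, hPn⟩
  by_contra hnc
  obtain ⟨r, B, B₀, hBV, c⟩ := noncyc_tau2 hG hN h6 hVE hVn hnc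
  set C := sigmaCore N ⊓ Subgroup.centralizer ({x} : Set G) with hC
  have hBC : B ≤ 𝓝(C) :=
    le_nz_inf (c.AM.trans (le_nz_sigmaCore hG N)) ((hBV.trans hVx).trans le_normalizer)
  have hcop : (Nat.card B).Coprime (Nat.card C) :=
    (c.cop hG).coprime_dvd_right (card_dvd_of_le inf_le_left)
  obtain ⟨b, hb, hb1, hbC⟩ := exists_cent_ne_bot hG c.el.1
    (nc_of_card c.hp c.el c.card.ge) hBC hcop h4
  have h7 := (c.uniq_cz hG (X := zpowers b) (by rwa [zpowers_le]) (by rwa [Ne, zpowers_eq_bot])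
    (by
      intro h0
      apply hbC
      rw [eq_bot_iff, ← h0, ← cz1_eq]
      exact inf_le_inf inf_le_left le_rfl)).1
  have hPN : P ≤ N := by
    refine le_trans ?_ h7
    rw [le_cz_comm, zpowers_le]
    exact (le_cz_comm.1 hPV) (hBV hb)
  exact hPn (nilp_ab hG hN hPN (nilpotent_sub hPH hn)
    ((hall_isPi h6).le (le_inf (hPH.trans hHM) hPN)))

theorem type5_arith {M K : Subgroup G} (hM : IsCoatom M) (hK : IsPiHallOf (kappa M) K M)
    (hd : ⁅M, M⁆ = sigmaCore M) (hn : Group.IsNilpotent (sigmaCore M)) {W₂ : Subgroup G}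
    (hW : IsTypePWith M K ⊥ W₂) (h : ¬ IsTISubset (sigmaCore M : Set G)) :
    ∃ p : ℕ, p.Prime ∧ p ∣ Nat.card (sigmaCore M) ∧ IsCyclic (piCoreOf {p}ᶜ (sigmaCore M)) ∧
      (Nat.card K ∣ p - 1 ∨
        (Nat.card (piCoreOf {p} (sigmaCore M)) = p ^ 3 ∧ Nat.card K ∣ p + 1)) := by
  have hW1 : W₂ ≠ ⊥ := hW.selfNormalizing.2.1
  have hWc : IsCyclic W₂ := cyclic_sub le_sup_right hW.selfNormalizing.2.2.2.2.1
  have hWH : W₂ ≤ ⁅sigmaCore M, sigmaCore M⁆ := by
    have := hW.W₂_le.trans inf_le_right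
    rwa [hd] at this
  have hna : ¬ sigmaCore M ≤ 𝓒(sigmaCore M) := by
    intro h0
    rw [comm_eq_bot_iff.2 h0] at hWH
    exact hW1 (le_bot_iff.1 hWH)
  obtain ⟨p, hp, hpσ, hpβ, hpd, hVc, hPn⟩ := nti_struct hG hM hn hna h
  refine ⟨p, hp, hpd, hVc, ?_⟩
  haveI := Fact.mk hp
  set H := sigmaCore M with hH
  set P := piCoreOf {p} H with hP
  set V := piCoreOf {p}ᶜ H with hV
  have hPH : P ≤ H := piCoreOf_le _ _
  have hVH : V ≤ H := piCoreOf_le _ _
  have hHM : H ≤ M := sigmaCore_le hG hM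
  have hPV : P ≤ 𝓒(V) := nilpotent_commute hn hPH hVH (isPi_piCoreOf _ _) (isPi_piCoreOf _ _)
  have hVab : V ≤ 𝓒(V) := comm_iff_le_cz.1 hVc.commutative
  have hWP : W₂ ≤ ⁅P, P⁆ := by
    have h1 : P ⊔ V = H := nilpotent_sup_piCoreOf hn
    rw [← h1, comm_sup_central hPV hVab] at hWH
    exact hWH
  have hPp : IsPGroup p P := (isPi_piCoreOf _ _).isPGroup hp
  have hPhM : IsPiHallOf {p} P M :=
    hall_trans (nilpotent_hall hn) (sigma_hall hG hM) (Set.singleton_subset_iff.2 hpσ)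
  have hp2 : p ≠ 2 := ms_p2' hG hp hpd
  -- a generator of `K`
  obtain ⟨⟨k, hkK⟩, hk⟩ := hW.W₁_cyclic.exists_generator
  have hkz : zpowers k = K := by
    apply le_antisymm
    · rwa [zpowers_le]
    · intro y hy
      obtain ⟨i, hi⟩ := Subgroup.mem_zpowers_iff.1 (hk ⟨y, hy⟩)
      exact Subgroup.mem_zpowers_iff.2 ⟨i, congrArg Subtype.val hi⟩
  have hkc : orderOf k = Nat.card K := by rw [← hkz, Nat.card_zpowers]
  have hKM : K ≤ M := hall_le hK
  have hpK : ¬ p ∣ Nat.card K := fun h1 =>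
    ((kappa_iff hG).1 (hall_isPi hK p hp h1)).2.1 hpσ
  have hKp : (Nat.card K).Coprime p := ((Nat.Prime.coprime_iff_not_dvd hp).2 hpK).symm
  have hkp : (orderOf k).Coprime p := by rw [hkc]; exact hKp
  have hMP : M ≤ 𝓝(P) := (le_nz_sigmaCore hG M).trans (nz_le_nz_piCoreOf _ _)
  have hkP : k ∈ 𝓝(P) := hMP (hKM hkK)
  have hfix : ∀ j : ℕ, k ^ j ≠ 1 → P ⊓ Subgroup.centralizer ({k ^ j} : Set G) ≤ W₂ := by
    intro j hj
    rw [← hW.W₂_centralizer (k ^ j) (pow_mem hkK j) hj, hd]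
    exact inf_le_inf hPH le_rfl
  have hPW : ¬ P ≤ W₂ := by
    intro h1
    exact hPn (comm_iff_le_cz.1 (cyclic_sub h1 hWc).commutative)
  rcases not_beta_syl hG hM hp (hpd.trans (card_dvd_of_le hHM)) hpβ hPhM with hr | ⟨E, hE⟩
  swap
  · left
    rw [← hkc]
    apply orderOf_dvd_of_pow_eq_one
    by_contra hne
    apply hPW
    refine le_trans (le_inf le_rfl ?_) (hfix _ hne)
    have h1 := hE.pow hkP hkp
    rw [cz1_eq, le_cz_comm, zpowers_le]
    exact h1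
  · have hKP : K ≤ 𝓝(P) := hKM.trans hMP
    have hk1 : k ≠ 1 := by
      rintro rfl
      rw [zpowers_one_eq_bot] at hkz
      exact hW.W₁_ne hkz.symm
    have hPK0 : P ⊓ 𝓒(K) ≤ W₂ := by
      have h1 := hfix 1 (by rwa [pow_one])
      rwa [pow_one, cz1_eq, hkz] at h1
    have hPK : ⁅P, K⁆ = P := by
      have hs : Group.IsSolvable P := solvable_of_isPGroup hp hPp
      have hcopP : (Nat.card K).Coprime (Nat.card P) := by
        obtain ⟨n, hn'⟩ := (IsPGroup.iff_card.1 hPp)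
        rw [hn']
        exact Nat.Coprime.pow_right n hKp
      have h1 := cop_comm_sup hKP hcopP hs
      refine phi_nongen hp hPp (comm_le_left hKP) ?_
      calc P = ⁅P, K⁆ ⊔ (P ⊓ 𝓒(K)) := h1.symm
        _ ≤ phi p P ⊔ ⁅P, K⁆ := sup_le le_sup_right
            (le_sup_of_le_left ((hPK0.trans hWP).trans (comm_le_phi p P)))
    have hP1 : P ≠ ⊥ := by
      intro h1
      exact hPn (by rw [h1]; exact bot_le)
    obtain ⟨-, h1 | ⟨W, hWP', hWx, hWcard, hWn, hWsup, hWcyc⟩⟩ :=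
      rank2_struct hp hp2 hPp hP1 hr hKP hKp (ms_odd hG K) hPK
    · exact absurd (comm_iff_le_cz.1 h1) hPn
    set C := P ⊓ 𝓒(W) with hC
    have hWp : IsPGroup p W := hPp.to_le hWP'
    obtain ⟨hZe, hZc⟩ := nonab_p3 hp hWp hWcard hWn
    have hCab : C ≤ 𝓒(C) := comm_iff_le_cz.1 hWcyc.commutative
    have hWC : W ≤ 𝓒(C) := by rw [le_cz_comm]; exact inf_le_right
    have hPW' : ⁅P, P⁆ = ⁅W, W⁆ := by
      rw [← comm_sup_central hWC hCab, hWsup]
    have hW2 : W₂ = ⁅W, W⁆ := by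
      rw [hPW'] at hWP
      refine eq_of_card_le hWP ?_
      rw [hZc]
      have h2 : Nat.card W₂ ∣ p := by rw [← hZc]; exact card_dvd_of_le hWP
      rcases (Nat.dvd_prime hp).1 h2 with h3 | h3
      · exact absurd (card_eq_one.1 h3) hW1
      · exact h3.ge
    have hKW : K ≤ 𝓝(W) := by
      rw [le_nz]
      intro a ha x hx
      refine (hWx _ (le_nz.1 hKP a ha x (hWP' hx))).1 ?_
      rw [conj_pow, (hWx x (hWP' hx)).2 hx, mul_one, mul_inv_cancel]
    have hKC : K ≤ 𝓝(C) := le_nz_inf hKP (hKW.trans (nz_le_nz_cz _))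
    have hKcC : K ≤ 𝓒(C) := by
      refine cop_omega hp hp2 (hPp.to_le inf_le_left) hKC hKp fun x hx hxp a ha => ?_
      have h2 : x ∈ W₂ := by
        rw [hW2, hZe]
        exact ⟨(hWx x hx.1).1 hxp, hx.2⟩
      exact hW.selfNormalizing.2.2.2.1 a ha x h2
    have hCW : C ≤ W := by
      refine (le_inf (inf_le_left : C ≤ P) (le_cz_comm.1 hKcC)).trans (hPK0.trans ?_)
      rw [hW2, hZe]
      exact inf_le_left
    have hPeq : P = W := by rw [← hWsup]; exact sup_eq_left.2 hCW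
    have hcard : Nat.card P = p ^ 3 := by rw [hPeq]; exact hWcard
    have hexp : ∀ x ∈ P, x ^ p = 1 := fun x hx => (hWx x hx).2 (hPeq ▸ hx)
    have hPP : ⁅P, P⁆ = W₂ := by rw [hPW', hW2]
    have hkZ : k ∈ 𝓒(⁅P, P⁆) := by
      rw [hPP, mem_cz]
      intro b hb
      exact (hW.selfNormalizing.2.2.2.1 k hkK b hb).symm
    rcases p3_cyc hp hPp hcard hPn hexp hkP hkp hkZ (by rw [hPP]; exact hfix) with h2 | h2
    · left
      rw [← hkc]
      exact orderOf_dvd_of_pow_eq_one h2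
    · right
      refine ⟨hcard, ?_⟩
      rw [← hkc]
      exact orderOf_dvd_of_pow_eq_one h2

theorem type5_bwd {M K U : Subgroup G} (hM : IsCoatom M) (hKU : IsSigmaDecomposition M K U)
    (hK1 : K ≠ ⊥) (hU : U = ⊥) (hF : fittingHallOf M = sigmaCore M) : IsOfTypeV M := by
  have hd : ⁅M, M⁆ = sigmaCore M := (dec_U_bot hG hM hKU hK1).1 hU
  have hn : Group.IsNilpotent (sigmaCore M) := by rw [← hF]; exact fittingHallOf_nilpotent M
  have hc : IsComplIn (fittingHallOf M) ⊥ ⁅M, M⁆ := by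
    rw [hF, hd]
    exact ⟨le_rfl, bot_le, inf_bot_eq _, fun x hx => ⟨x, hx, 1, one_mem _, (mul_one x).symm⟩⟩
  have hbn : Group.IsNilpotent (⊥ : Subgroup G) := nilpotent_sub bot_le hn
  have hKb : K ≤ 𝓝((⊥ : Subgroup G)) := by
    rw [le_nz]
    intro a _ b hb
    rw [Subgroup.mem_bot] at hb ⊢
    rw [hb, mul_one, mul_inv_cancel]
  have hP := typeP_of hG hM hKU hK1 hbn hKb hc
  refine ⟨K, ⊥, _, hP, rfl, ?_⟩
  rw [hF]
  by_cases h : IsTISubset (sigmaCore M : Set G)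
  · exact Or.inl h
  right
  obtain ⟨p, hp, hpd, hV, h1⟩ := type5_arith hG hM hKU.hall hd hn hP h
  have h3 : IsCyclic (pPrimeCore p (sigmaCore M)) := by
    have h4 : IsCyclic ↥((pPrimeCore p (sigmaCore M)).map (sigmaCore M).subtype) := by
      rw [pPrimeCore_map hp]; exact hV
    exact isCyclic_of_injective ((pPrimeCore p (sigmaCore M)).equivMapOfInjective
      (sigmaCore M).subtype (sigmaCore M).subtype_injective).toMonoidHom (MulEquiv.injective _)
  rcases h1 with h1 | ⟨h1, h2⟩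
  · exact Or.inl ⟨p, hp, hpd, h1, h3⟩
  · refine Or.inr ⟨p, hp, hpd, ?_, h2, h3⟩
    rw [← h1, ← pCore_map hp]
    exact Nat.card_congr ((pCore p (sigmaCore M)).equivMapOfInjective
      (sigmaCore M).subtype (sigmaCore M).subtype_injective).toEquiv

end

end CfsgLib.BGPi
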