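import Cfsg.Agent.EqBase
import Cfsg.Agent.LibBG18d

/-! B & G 15.8. -/

open Subgroup
open scoped Pointwise commutatorElement

namespace CfsgLib.BGPi

open Cfsg

universe u

section
variable {G : Type u} [Group G] [Finite G]
variable (hG : IsMinSimpleOddOrder G)
include hG

theorem NF.czK {M K K₁ D : Subgroup G} {q : ℕ} (c : NF M K K₁ D q) :
    D ⊓ 𝓒(sigmaCore M ⊓ 𝓒(K)) ≤ 𝓒(piCoreOf {q} (sigmaCore M)) := by
  set Q := piCoreOf {q} (sigmaCore M) with hQ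
  set X := D ⊓ 𝓒(sigmaCore M ⊓ 𝓒(K)) with hX
  have hDσ : D ≤ sigmaCore M := hall_le c.hD
  have hDM : D ≤ M := c.DM hG
  have hMQ : M ≤ 𝓝(Q) := c.Qn hG
  have hKM : K ≤ M := hall_le c.hK
  have hK1K : K₁ ≤ K := c.hK₁
  have hDQ : ⁅D, D⁆ ≤ 𝓒(Q) := c.DcomQ hG
  have hN : Q ⊓ 𝓒(X) = Q := by
    refine c.up hG inf_le_left ?_ ?_ ?_ ?_ ?_
    · -- `Q` normalizes
      have h1 : ⁅Q, Q⁆ ≤ Q ⊓ 𝓒(D) := (comm_le_phi q Q).trans (c.phi_le' hG)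
      have h2 : Q ⊓ 𝓒(D) ≤ Q ⊓ 𝓒(X) := inf_le_inf le_rfl (cz_anti inf_le_left)
      rw [le_nz]
      intro a ha b hb
      have h3 : ⁅a, b⁆ ∈ Q ⊓ 𝓒(X) := h2 (h1 (Subgroup.commutator_mem_commutator ha hb.1))
      have h4 : a * b * a⁻¹ = ⁅a, b⁆ * b := by rw [commutatorElement_def]; group
      rw [h4]
      exact mul_mem h3 hb
    · -- `D` normalizes
      rw [le_nz]
      intro d hd x hx
      refine ⟨le_nz.1 (hDM.trans hMQ) d hd x hx.1, mem_cz.2 fun y hy => ?_⟩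
      have h1 : ⁅y⁻¹, d⁻¹⁆ ∈ 𝓒(Q) :=
        hDQ (Subgroup.commutator_mem_commutator (inv_mem hy.1) (inv_mem hd))
      have h2 : Commute ⁅y⁻¹, d⁻¹⁆ x := (mem_cz.1 h1 x hx.1).symm
      have h3 : Commute y x := mem_cz.1 hx.2 y hy
      have h4 : Commute (d⁻¹ * y * d) x := by
        have h5 : d⁻¹ * y * d = y * ⁅y⁻¹, d⁻¹⁆ := by rw [commutatorElement_def]; group
        rw [h5]
        exact h3.mul_left h2
      have h5 : (d⁻¹ * y * d) * x = x * (d⁻¹ * y * d) := h4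
      calc y * (d * x * d⁻¹) = d * ((d⁻¹ * y * d) * x) * d⁻¹ := by group
        _ = d * (x * (d⁻¹ * y * d)) * d⁻¹ := by rw [h5]
        _ = d * x * d⁻¹ * y := by group
    · refine le_nz_inf ((hK1K.trans hKM).trans hMQ) (le_trans ?_ (nz_le_nz_cz X))
      refine le_nz_inf (hK1K.trans c.KD) ?_
      refine le_trans ?_ (nz_le_nz_cz _)
      refine le_trans ?_ (cz_le_nz _)
      rw [le_cz_comm]
      exact inf_le_right.trans (cz_anti hK1K)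
    · exact inf_le_inf le_rfl (cz_anti inf_le_left)
    · exact le_inf (c.starQ hG) (le_cz_comm.1 inf_le_right)
  rw [le_cz_comm, ← hN]
  exact inf_le_right

/-- a `q'`-element of `M_σ` centralising `M_σ ∩ C(K)` has its centraliser in `M` -/
theorem NF.czb {M K K₁ D : Subgroup G} {q : ℕ} (c : NF M K K₁ D q) {b : G} (hb : b ∈ sigmaCore M)
    (hb1 : b ≠ 1) (hbq : (orderOf b).Coprime q) (hbK : b ∈ 𝓒(sigmaCore M ⊓ 𝓒(K))) :
    Subgroup.centralizer ({b} : Set G) ≤ M := by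
  set Q := piCoreOf {q} (sigmaCore M) with hQ
  have hDσ : D ≤ sigmaCore M := hall_le c.hD
  have hMQ : M ≤ 𝓝(Q) := c.Qn hG
  have hQσ : Q ≤ sigmaCore M := piCoreOf_le _ _
  have hπ : IsPi {q}ᶜ (zpowers b) := by
    intro s hs hsd
    rw [Set.mem_compl_iff, Set.mem_singleton_iff]
    rintro rfl
    rw [Nat.card_zpowers] at hsd
    exact hs.one_lt.ne' (Nat.Coprime.eq_one_of_dvd hbq.symm hsd)
  obtain ⟨D', hD', hbD'⟩ := hall_exists_ge (sigmaCore_sol hG c.hM) hπ (by rwa [zpowers_le])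
  obtain ⟨g, hg, hgD⟩ := hall_conj (sigmaCore_sol hG c.hM) c.hD hD'
  have hDQn : D ≤ 𝓝(Q) := (c.DM hG).trans hMQ
  rw [← c.QDsup hG] at hg
  obtain ⟨u, hu, d, hd, rfl⟩ := (mem_sup_of_nz' hDQn).1 hg
  have hbD : b ∈ D ^ᵍ u := by
    have h1 : b ∈ D' := hbD' (mem_zpowers b)
    rwa [← hgD, cj_mul, cj_eq_of_mem hd] at h1
  have hb' : u⁻¹ * b * u ∈ D := mem_cj.1 hbD
  have hb'K : u⁻¹ * b * u ∈ 𝓒(sigmaCore M ⊓ 𝓒(K)) := by
    refine mem_cz.2 fun x hx => ?_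
    have hxQ : x ∈ Q := c.starQ hG hx
    have h1 : ⁅x⁻¹, u⁻¹⁆ ∈ 𝓒(D) := ((comm_le_phi q Q).trans (c.phi_le' hG))
      (Subgroup.commutator_mem_commutator (inv_mem hxQ) (inv_mem hu)) |>.2
    have h2 : Commute (u⁻¹ * b * u) ⁅x⁻¹, u⁻¹⁆ := mem_cz.1 h1 _ hb'
    have h3 : Commute b x := (mem_cz.1 hbK x hx).symm
    have h3' : b * x = x * b := h3
    have h4 : Commute (u⁻¹ * b * u) (u⁻¹ * x * u) := by
      show (u⁻¹ * b * u) * (u⁻¹ * x * u) = (u⁻¹ * x * u) * (u⁻¹ * b * u)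
      calc (u⁻¹ * b * u) * (u⁻¹ * x * u) = u⁻¹ * (b * x) * u := by group
        _ = u⁻¹ * (x * b) * u := by rw [h3']
        _ = (u⁻¹ * x * u) * (u⁻¹ * b * u) := by group
    have h5 : Commute (u⁻¹ * b * u) ((u⁻¹ * x * u) * ⁅x⁻¹, u⁻¹⁆⁻¹) := h4.mul_right h2.inv_right
    have h6 : (u⁻¹ * x * u) * ⁅x⁻¹, u⁻¹⁆⁻¹ = x := by rw [commutatorElement_def]; group
    rw [h6] at h5
    exact h5.symm
  have h1 := c.czK hG ⟨hb', hb'K⟩
  have h2 : b ∈ 𝓒(Q) := by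
    have h3 : b ∈ 𝓒(Q) ^ᵍ u := mem_cj.2 h1
    rwa [← cz_cj, cj_eq_of_mem hu] at h3
  have h3 := c.czQ hG (X := zpowers b) (by rwa [Ne, zpowers_eq_bot]) (by rwa [zpowers_le])
  rw [cz1_eq]
  exact h3

end

end CfsgLib.BGPi
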