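import Cfsg.Agent.EqBase
import Cfsg.Agent.LibBG19a
import Cfsg.Agent.LibBG14u

/-! B & G 15.8. -/

open Subgroup
open scoped Pointwise commutatorElement

namespace CfsgLib.BGPi

open Cfsg

universe u

theorem ti_cz {G : Type u} [Group G] {F L : Subgroup G} (h : IsTISubset (F : Set G)) (hF : 𝓝(F) ≤ L)
    {b : G} (hb : b ∈ F) (hb1 : b ≠ 1) : Subgroup.centralizer ({b} : Set G) ≤ L := by
  intro c hc
  by_contra hcL
  refine hb1 (h c (fun hn => hcL (hF hn)) b hb ?_)
  have h1 : c * b = b * c := Subgroup.mem_centralizer_singleton_iff.1 hc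
  rw [h1, mul_inv_cancel_right]
  exact hb

section
variable {G : Type u} [Group G] [Finite G]
variable (hG : IsMinSimpleOddOrder G)
include hG

/-- structure of `M_σ` when some line in it has its centraliser outside `M` -/
theorem nti_at {M : Subgroup G} (hM : IsCoatom M) (hn : Group.IsNilpotent (sigmaCore M))
    {p : ℕ} {x : G} (hp : p.Prime) (hxσ : x ∈ sigmaCore M) (hxo : orderOf x = p)
    (hxM : ¬ Subgroup.centralizer ({x} : Set G) ≤ M) :
    piCoreOf {p}ᶜ (sigmaCore M) ≤ 𝓒(piCoreOf {p}ᶜ (sigmaCore M)) ∧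
      (∀ r : ℕ, r.Prime → PRankLE r 2 ↥(piCoreOf {p}ᶜ (sigmaCore M))) ∧
      (¬ piCoreOf {p} (sigmaCore M) ≤ 𝓒(piCoreOf {p} (sigmaCore M)) →
        IsCyclic (piCoreOf {p}ᶜ (sigmaCore M))) := by
  have hx1 : x ≠ 1 := by
    rintro rfl
    rw [orderOf_one] at hxo
    exact hp.one_lt.ne hxo
  obtain ⟨N, hN, hxN⟩ := exists_max hG (ms_cz1_ne_top hG hx1)
  obtain ⟨-, -, -, h4, h5, h6, -, -, -⟩ := bg14_4 hG hM hxσ hx1 hxM hN hxN
  set H := sigmaCore M with hH
  set P := piCoreOf {p} H with hP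
  set V := piCoreOf {p}ᶜ H with hV
  have hPH : P ≤ H := piCoreOf_le _ _
  have hVH : V ≤ H := piCoreOf_le _ _
  have hHM : H ≤ M := sigmaCore_le hG hM
  have hxP : x ∈ P := by
    have h1 : IsPi {p} (zpowers x) := isPi_of_card_prime hp (by rw [Nat.card_zpowers, hxo])
    exact nilpotent_le_piCoreOf hn (by rwa [zpowers_le]) h1 (mem_zpowers x)
  have hPV : P ≤ 𝓒(V) := nilpotent_commute hn hPH hVH (isPi_piCoreOf _ _) (isPi_piCoreOf _ _)
  have hVx : V ≤ Subgroup.centralizer ({x} : Set G) := by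
    rw [cz1_eq, le_cz_comm, zpowers_le]
    exact hPV hxP
  have hVN : V ≤ N := hVx.trans hxN
  have hVE : V ≤ M ⊓ N := le_inf (hVH.trans hHM) hVN
  have hVn : Group.IsNilpotent V := nilpotent_sub hVH hn
  have hVσ : IsPi (sigma N)ᶜ V := (hall_isPi h6).le hVE
  have hVab : V ≤ 𝓒(V) := nilp_ab hG hN hVN hVn hVσ
  refine ⟨hVab, fun r hr => core_rank2 hG hN hVN hVσ hr, fun hPn => ?_⟩
  by_contra hnc
  obtain ⟨r, B, B₀, hBV, c⟩ := noncyc_tau2 hG hN h6 hVE hVn hnc
  set C := sigmaCore N ⊓ Subgroup.centralizer ({x} : Set G) with hC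
  have hBC : B ≤ 𝓝(C) :=
    le_nz_inf (c.AM.trans (le_nz_sigmaCore hG N)) ((hBV.trans hVx).trans le_normalizer)
  have hcop : (Nat.card B).Coprime (Nat.card C) :=
    (c.cop hG).coprime_dvd_right (card_dvd_of_le inf_le_left)
  obtain ⟨b, hb, hb1, hbC⟩ := exists_cent_ne_bot hG c.el.1
    (nc_of_card c.hp c.el c.card.ge) hBC hcop h4
  have h7 := (c.uniq_cz hG (X := zpowers b) (by rwa [zpowers_le]) (by rwa [Ne, zpowers_eq_bot])
    (by
      intro h0
      apply hbC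
      rw [eq_bot_iff, ← h0, ← cz1_eq]
      exact inf_le_inf inf_le_left le_rfl)).1
  have hPN : P ≤ N := by
    refine le_trans ?_ h7
    rw [le_cz_comm, zpowers_le]
    exact (le_cz_comm.1 hPV) (hBV hb)
  exact hPn (nilp_ab hG hN hPN (nilpotent_sub hPH hn)
    ((hall_isPi h6).le (le_inf (hPH.trans hHM) hPN)))

/-- B & G 15.8 -/
theorem bg15_8 {M K U L R H : Subgroup G} (hKU : IsSigmaDecomposition M K U) (hU1 : U ≠ ⊥)
    (d : Dual M L K) {r : ℕ} (hr : r.Prime) (hrU : r ∣ Nat.card U) (hR : IsPiHallOf {r} R U)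
    (hH : IsCoatom H) (hNR : 𝓝(R) ≤ H) {s t : ℕ} (hs : s ∈ tau2 M) : t ∉ tau2 H := by
  intro ht
  obtain ⟨hκ, hUσ, hMH, -, -, hcompl, hσn, hfpf⟩ := bg14_12 hG hKU hU1 d hr hrU hR hH hNR
  have hM := d.hM
  have hL := d.hL
  have hK1 := d.K1
  obtain ⟨hp, -, -, hβ⟩ := p2_facts hG hM hKU hK1 hU1
  obtain ⟨hEM, hUE, hKE, -⟩ := dec_facts hG hM hKU
  have hE : IsPiHallOf (sigma H)ᶜ (H ⊓ L) H := compl_hall hG hH hcompl
  have hKH : K ≤ H := by
    have : K ≤ M ⊓ H := by rw [hMH]; exact le_sup_right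
    exact this.trans inf_le_right
  have hKL : K ≤ L := (d.KL hG).trans (sigmaCore_le hG hL)
  have hKE' : K ≤ H ⊓ L := le_inf hKH hKL
  obtain ⟨B, hBE, B₀, c⟩ := exists_exc_tau2 hG hH hE ht
  have htp := c.hp
  have hBL : B ≤ L := hBE.trans inf_le_right
  have hBab : B ≤ 𝓒(B) := comm_iff_le_cz.1 c.el.1
  have hBπ := elab_isPi htp c.el
  have hBn : Group.IsNilpotent B := nilpotent_of_isPi htp hBπ
  have hKBt : t = Nat.card K → K ≤ B := fun h => c.line_le hG hE hBE hKE' h.symm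
  have hKB : K ≤ 𝓒(B) := by
    by_cases h : t = Nat.card K
    · exact (hKBt h).trans hBab
    · exact d.cz_el hG hp hβ hH hκ hE hKE' c hBE h
  -- `t ∈ σ(L)`
  have htL : t ∈ sigma L := by
    by_contra htL
    have hBσ : IsPi (sigma L)ᶜ B := by
      intro q hq hqB
      have h1 := hBπ q hq hqB
      rw [Set.mem_singleton_iff] at h1
      rw [h1]; exact htL
    obtain ⟨F, hF, hBF⟩ := hall_exists_ge (max_sol hG hL) hBσ hBL
    obtain ⟨r', B', B₀', hB'B, c'⟩ := noncyc_tau2 hG hL hF hBF hBn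
      (nc_of_card c.hp c.el c.card.ge)
    have h1 := c'.inf_cz hG
    apply hK1
    rw [eq_bot_iff, ← h1]
    exact le_inf (d.KL hG) (hKB.trans (cz_anti hB'B))
  have hBLσ : B ≤ sigmaCore L := by
    refine le_hall_of_normal (sigma_hall hG hL) (le_nz_sigmaCore hG L) ?_ hBL
    intro q hq hqB
    have h1 := hBπ q hq hqB
    rw [Set.mem_singleton_iff] at h1
    rw [h1]; exact htL
  -- the element `b`
  have hBσ : B ≤ 𝓝(sigmaCore H) := c.act hG
  obtain ⟨b, hb, hb1, hbC⟩ := exists_cent_ne_bot hG c.el.1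
    (nc_of_card c.hp c.el c.card.ge) hBσ (c.cop hG) (sigmaCore_ne_bot hG hH)
  have hbo : orderOf b = t := by
    haveI := Fact.mk htp
    exact orderOf_eq_prime (c.el.2 b hb) hb1
  have hbL : ¬ Subgroup.centralizer ({b} : Set G) ≤ L := by
    intro h
    apply hbC
    rw [eq_bot_iff, ← hcompl.2.2.1]
    exact le_inf (le_inf (inf_le_left.trans (sigmaCore_le hG hH)) (inf_le_right.trans h))
      inf_le_left
  have hbσ : b ∈ sigmaCore L := hBLσ hb
  -- decomposition of `L`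
  have hJ1 := d.star1 hG
  obtain ⟨W, hW⟩ := exists_dec hG hL (kap_cyc hG hL d.hJ) d.hJ
  have hWb : W = ⊥ := by
    by_contra hW1
    obtain ⟨h1, h2⟩ := p2_fit_ti hG hL hW hJ1 hW1
    exact hbL (ti_cz h1 (max_nz_fitting hG hL).le (h2 hbσ) hb1)
  have hKeq : K = sigmaCore L ⊓ 𝓒(sigmaCore M ⊓ 𝓒(K)) := d.hS
  have hLn : Group.IsNilpotent (sigmaCore L) := by
    by_contra hnn
    obtain ⟨-, -, K₁, D, q, c'⟩ := exists_NF hG hL hW hnn
    by_cases htq : t = q
    · have h1 : b ∈ fittingOf L := by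
        have h2 : b ∈ piCoreOf {q} (sigmaCore L) := by
          have h3 := (c'.Qhall hG).1
          have h4 : IsPi {q} (zpowers b) := by
            rw [← htq]
            exact isPi_of_card_prime htp (by rw [Nat.card_zpowers, hbo])
          exact le_hall_of_normal h3 (le_nz_piCoreOf _ _) h4 (by rwa [zpowers_le])
            (mem_zpowers b)
        exact le_fittingOf ((piCoreOf_le _ _).trans (sigmaCore_le hG hL)) (c'.Qn hG)
          (nilpotent_of_isPi c'.qp (isPi_piCoreOf _ _)) h2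
      exact hbL (ti_cz (c'.fit_ti hG) (max_nz_fitting hG hL).le h1 hb1)
    · refine hbL (c'.czb hG hbσ hb1 ?_ ?_)
      · rw [hbo]; exact (Nat.coprime_primes htp c'.qp).2 htq
      · rw [← hKeq]
        exact (le_cz_comm.1 hKB) hb
  have hLd : ⁅L, L⁆ = sigmaCore L := (dec_U_bot hG hL hW hJ1).1 hWb
  have hKd : K ≤ ⁅sigmaCore L, sigmaCore L⁆ := by
    have h1 := star_le_der2 hG hL hW hJ1
    rw [← hKeq, hLd] at h1
    exact h1
  obtain ⟨hVab, -, hPn⟩ := nti_at hG hL hLn htp hbσ hbo hbL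
  set T := piCoreOf {t} (sigmaCore L) with hT
  set V := piCoreOf {t}ᶜ (sigmaCore L) with hV
  have hTV : T ≤ 𝓒(V) := nilpotent_commute hLn (piCoreOf_le _ _) (piCoreOf_le _ _)
    (isPi_piCoreOf _ _) (isPi_piCoreOf _ _)
  have hTs : T ⊔ V = sigmaCore L := nilpotent_sup_piCoreOf hLn
  have hKT : K ≤ ⁅T, T⁆ := by
    rwa [← hTs, comm_sup_central hTV hVab] at hKd
  have hTn : ¬ T ≤ 𝓒(T) := by
    intro h
    rw [comm_eq_bot_iff.2 h] at hKT
    exact hK1 (le_bot_iff.1 hKT)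
  have htK : t = Nat.card K := by
    have h1 : IsPi {t} K := (isPi_piCoreOf {t} (sigmaCore L)).le (hKT.trans (comm_self_le T))
    exact (h1 _ hp dvd_rfl).symm
  have hKB' := hKBt htK
  have hTG : IsPiHallOf {t} T ⊤ :=
    hall_trans (nilpotent_hall hLn) (sigma_hall_top hG hL) (Set.singleton_subset_iff.2 htL)
  have hBT : B ≤ T := nilpotent_le_piCoreOf hLn hBLσ hBπ
  obtain ⟨-, -, -, -, hB0, -, -⟩ := c.nonab hG hTG hBT hTn
  -- `A`
  obtain ⟨A, hAE, A₀, cA⟩ := exists_exc_tau2 hG hM hEM hs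
  have hAU : A ≤ U := by
    refine le_hall_of_normal hUE (sup_le le_normalizer hKU.normal) ?_ hAE
    intro q hq hqA
    have h1 := elab_isPi cA.hp cA.el q hq hqA
    rw [Set.mem_singleton_iff] at h1
    rw [h1]
    exact fun h => kappa_not_tau2 hG h hs
  have hB0M : B₀ ≤ M := by
    refine le_trans ?_ cA.cz
    rw [le_cz_comm]
    exact (hAU.trans hUσ).trans hB0
  have hne : K ≠ B₀ := by
    intro h
    rw [h] at hfpf
    rw [inf_eq_left.2 hB0] at hfpf
    exact sigmaCore_ne_bot hG hH hfpf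
  have hBM : B ≤ M := by
    have h1 : K ⊔ B₀ = B := by
      refine eq_of_card_le (sup_le hKB' c.A0) ?_
      rw [c.card]
      have h2 : Nat.card ↥(K ⊔ B₀) ∣ t ^ 2 := by
        rw [← c.card]; exact card_dvd_of_le (sup_le hKB' c.A0)
      obtain ⟨n, hn2, hn⟩ := (Nat.dvd_prime_pow htp).1 h2
      rw [hn]
      refine Nat.pow_le_pow_right htp.pos ?_
      by_contra hn3
      have h3 : Nat.card ↥(K ⊔ B₀) ≤ t := by
        rw [hn]
        calc t ^ n ≤ t ^ 1 := Nat.pow_le_pow_right htp.pos (by omega)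
          _ = t := pow_one t
      have h4 : K = K ⊔ B₀ := eq_of_card_le le_sup_left (by rw [← htK]; exact h3)
      have h5 : B₀ = K ⊔ B₀ := eq_of_card_le le_sup_right (by rw [c.card0]; exact h3)
      exact hne (h4.trans h5.symm)
    rw [← h1]
    exact sup_le (hall_le d.hK) hB0M
  have h1 := card_dvd_of_le hBM
  rw [c.card, ← card_mul_relIndex (hall_le d.hK), ← htK, pow_two] at h1
  have h2 : t ∣ K.relIndex M := Nat.dvd_of_mul_dvd_mul_left htp.pos h1
  refine d.hK.2.2 t htp ?_ h2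
  exact hall_isPi d.hK t htp (by rw [← htK])

end

end CfsgLib.BGPi
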