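import Cfsg.Agent.EqBase
import Cfsg.Agent.LibBG19b

/-! B & G 15.9. -/

open Subgroup
open scoped Pointwise commutatorElement

namespace CfsgLib.BGPi

open Cfsg

universe u

section
variable {G : Type u} [Group G] [Finite G]
variable (hG : IsMinSimpleOddOrder G)
include hG

theorem semireg_of {M E : Subgroup G} (hM : IsCoatom M) (hκ : kappa M = ∅)
    (hτ : ∀ t, t ∉ tau2 M) (hE : IsPiHallOf (sigma M)ᶜ E M) {y : G} (hy : y ∈ E) (hy1 : y ≠ 1) :
    sigmaCore M ⊓ Subgroup.centralizer ({y} : Set G) = ⊥ := by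
  by_contra hne
  have hz1 : zpowers y ≠ ⊥ := by rwa [Ne, zpowers_eq_bot]
  obtain ⟨s, hs, hsd, X, hX, hXc⟩ := exists_prime_sub hz1
  have hXE : X ≤ E := hX.trans (by rwa [zpowers_le])
  have hsσ : s ∉ sigma M := hall_isPi hE s hs (by rw [← hXc]; exact card_dvd_of_le hXE)
  refine hτ s (kappa_of_line hG hM hs hsσ (hXE.trans (hall_le hE)) hXc ?_ hκ)
  intro h
  apply hne
  rw [eq_bot_iff, ← h, cz1_eq]
  exact inf_le_inf le_rfl (cz_anti hX)

theorem not_beta_of {M : Subgroup G} (hM : IsCoatom M) {p : ℕ} {x : G} (hp : p.Prime)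
    (hxσ : x ∈ sigmaCore M) (hxo : orderOf x = p)
    (hxM : ¬ Subgroup.centralizer ({x} : Set G) ≤ M) : p ∉ beta M := by
  obtain ⟨g, hg, hgM⟩ := SetLike.not_le_iff_exists.1 hxM
  refine (bg12_17c hG hM hgM).2.1 p hp ?_
  rw [← hxo, ← Nat.card_zpowers]
  refine card_dvd_of_le ?_
  rw [zpowers_le]
  refine ⟨hxσ, mem_cj.2 ?_⟩
  have h1 : g * x = x * g := Subgroup.mem_centralizer_singleton_iff.1 hg
  have h2 : g⁻¹ * x * g = x := by rw [mul_assoc, ← h1, inv_mul_cancel_left]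
  rw [h2]
  exact sigmaCore_le hG hM hxσ

theorem frob_cyc {M E : Subgroup G} (hM : IsCoatom M) (hκ : kappa M = ∅)
    (hτ : ∀ t, t ∉ tau2 M) (hE : IsPiHallOf (sigma M)ᶜ E M) (hn : Group.IsNilpotent (sigmaCore M))
    {x : G} (hx : x ∈ sigmaCore M) (hx1 : x ≠ 1)
    (hxM : ¬ Subgroup.centralizer ({x} : Set G) ≤ M) : IsCyclic E := by
  have hz1 : zpowers x ≠ ⊥ := by rwa [Ne, zpowers_eq_bot]
  obtain ⟨p, hp, hpd, X, hX, hXc⟩ := exists_prime_sub hz1
  obtain ⟨y, hy, hy1⟩ := X.bot_or_exists_ne_one.resolve_left (ne_bot_of_card_prime hp hXc)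
  have hyX : zpowers y = X := zpowers_eq_of_prime hp hXc hy hy1
  have hyo : orderOf y = p := by rw [← Nat.card_zpowers, hyX, hXc]
  have hyσ : y ∈ sigmaCore M := by
    have h1 : zpowers x ≤ sigmaCore M := by rwa [zpowers_le]
    exact h1 (hX hy)
  have hyM : ¬ Subgroup.centralizer ({y} : Set G) ≤ M := by
    intro h
    apply hxM
    refine le_trans ?_ h
    rw [cz1_eq, cz1_eq, hyX]
    exact cz_anti hX
  have hpβ := not_beta_of hG hM hp hyσ hyo hyM
  obtain ⟨hVab, hVr, -⟩ := nti_at hG hM hn hp hyσ hyo hyM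
  have hEM := hall_le hE
  have hderσ : ⁅E, E⁆ ≤ 𝓒(sigmaCore M) := by
    rw [le_cz_comm]
    refine nilpotent_le_of_pcores hn fun q hq => ?_
    rw [le_cz_comm]
    set S := piCoreOf {q} (sigmaCore M) with hS
    by_cases hS1 : S = ⊥
    · rw [hS1, le_cz_comm]; exact bot_le
    have hqS : q ∣ Nat.card S := by
      obtain ⟨s, hs, hsd⟩ := exists_prime_dvd_of_ne_bot hS1
      have h1 := isPi_piCoreOf {q} (sigmaCore M) s hs hsd
      rw [Set.mem_singleton_iff] at h1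
      rwa [h1] at hsd
    have hqσ : q ∈ sigma M := hall_isPi (sigma_hall hG hM) q hq
      (hqS.trans (card_dvd_of_le (piCoreOf_le _ _)))
    have hSM : IsPiHallOf {q} S M :=
      hall_trans (nilpotent_hall hn) (sigma_hall hG hM) (Set.singleton_subset_iff.2 hqσ)
    have hqβ : q ∉ beta M := by
      by_cases hqp : q = p
      · rw [hqp]; exact hpβ
      · intro h
        have h1 := beta_sub_alpha hG h
        have h2 : S ≤ piCoreOf {p}ᶜ (sigmaCore M) := by
          refine nilpotent_le_piCoreOf hn (piCoreOf_le _ _) ?_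
          refine (isPi_piCoreOf _ _).mono ?_
          intro s hs
          rw [Set.mem_singleton_iff] at hs
          rw [hs]
          exact hqp
        have h3 : PRankLE q 2 S := rank_mono h2 (hVr q hq)
        exact h1.2 ((rank_syl hq hSM).2 h3)
    exact der_cz_syl hG hM hE hqσ hqβ (isPi_piCoreOf _ _) (piCoreOf_le _ _)
      (hEM.trans ((le_nz_sigmaCore hG M).trans (nz_le_nz_piCoreOf _ _)))
  have hder : ⁅E, E⁆ = ⊥ := by
    by_contra hne
    obtain ⟨z, hz, hz1⟩ := ⁅E, E⁆.bot_or_exists_ne_one.resolve_left hne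
    have h1 := semireg_of hG hM hκ hτ hE (comm_self_le E hz) hz1
    have h2 : sigmaCore M ≤ Subgroup.centralizer ({z} : Set G) := by
      rw [cz1_eq, le_cz_comm, zpowers_le]
      exact hderσ hz
    rw [inf_eq_left.2 h2] at h1
    exact sigmaCore_ne_bot hG hM h1
  have hEab : IsMulCommutative E := comm_iff_le_cz.2 (comm_eq_bot_iff.1 hder)
  refine rank1_cyclic_of hG (π := {q | q.Prime ∧ q ∣ Nat.card E}) hEM
    (fun q hq hqE => ⟨hq, hqE⟩) (nilp_of_comm hEab) ?_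
  rintro q ⟨hq, hqE⟩
  by_contra hr
  have hqσ := hall_isPi hE q hq hqE
  exact hτ q ⟨hq, hqσ, rank_of_not_sigma hG hM hq hqσ, hr⟩

theorem bg15_9 {M N : Subgroup G} (hM : IsCoatom M) {x : G} (hx : x ∈ sigmaCore M) (hx1 : x ≠ 1)
    (hxM : ¬ Subgroup.centralizer ({x} : Set G) ≤ M) (hN : IsCoatom N)
    (hxN : Subgroup.centralizer ({x} : Set G) ≤ N) (hkN : (kappa N).Nonempty) :
    kappa M = ∅ ∧ (∀ t, t ∉ tau2 M) ∧ Group.IsNilpotent (sigmaCore M) := by
  obtain ⟨-, -, h3, -, -, h6, -, h8, -⟩ := bg14_4 hG hM hx hx1 hxM hN hxN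
  have hz1 : zpowers x ≠ ⊥ := by rwa [Ne, zpowers_eq_bot]
  obtain ⟨q, hq, hqd, X, hX, hXc⟩ := exists_prime_sub hz1
  have hq2 := h3 q hq hqd
  obtain ⟨-, h8⟩ := h8 q X hq hX hXc
  obtain ⟨S, hS⟩ := exists_syl hq (M ⊓ N)
  obtain ⟨hNS, A, hAS, A₀, cA, -⟩ := h8 S hS
  have hqσ := cA.ns
  have hSN : IsPiHallOf {q} S N := hall_trans hS h6 (Set.singleton_subset_iff.2 hqσ)
  -- decomposition of `N`
  obtain ⟨K, hK⟩ := hall_exists (π := kappa N) (max_sol hG hN)
  have hK1 : K ≠ ⊥ := by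
    obtain ⟨s, hsκ⟩ := hkN
    obtain ⟨hs, -, -, Y, hYN, hYc, -⟩ := (kappa_iff hG).1 hsκ
    intro h
    have h1 : s ∣ Nat.card K := hall_dvd' hs hsκ hK (by rw [← hYc]; exact card_dvd_of_le hYN)
    rw [h, Subgroup.card_bot] at h1
    exact hs.one_lt.ne' (Nat.dvd_one.1 h1)
  obtain ⟨L, d, -⟩ := exists_dual hG hN hK hK1
  obtain ⟨U, hKU⟩ := exists_dec hG hN (kap_cyc hG hN hK) hK
  obtain ⟨hE, hUE, hKE, -⟩ := dec_facts hG hN hKU
  have hU0 := hall_pi0 hG hE hUE
  have hqN : q ∣ Nat.card N := (dvd_pow_self q two_ne_zero).trans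
    (by rw [← cA.card]; exact card_dvd_of_le cA.AM)
  have hqπ : q ∈ {q | q.Prime ∧ q ∉ kappa N ∧ q ∉ sigma N} :=
    ⟨hq, fun h => kappa_not_tau2 hG h hq2, hqσ⟩
  have hqU : q ∣ Nat.card U := hall_dvd' hq hqπ hU0 hqN
  have hU1 : U ≠ ⊥ := by
    intro h
    rw [h, Subgroup.card_bot] at hqU
    exact hq.one_lt.ne' (Nat.dvd_one.1 hqU)
  obtain ⟨R, hR⟩ := exists_syl hq U
  have hRN : IsPiHallOf {q} R N := hall_trans hR hU0 (Set.singleton_subset_iff.2 hqπ)
  obtain ⟨n, hn, hnR⟩ := hall_conj (max_sol hG hN) hSN hRN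
  have hNR : 𝓝(R) ≤ M ^ᵍ n := by
    rw [← hnR, nz_cj]
    exact cj_mono hNS n
  have hH := coatom_cj hM n
  obtain ⟨hκ, -, -, -, -, -, hnil, -⟩ := bg14_12 hG hKU hU1 d hq hqU hR hH hNR
  refine ⟨by rwa [kappa_cj hG] at hκ, fun t ht => ?_, ?_⟩
  · refine bg15_8 hG hKU hU1 d hq hqU hR hH hNR hq2 (t := t) ?_
    refine ⟨ht.1, ?_, rank_cj.2 ht.2.2.1, fun h => ht.2.2.2 (rank_cj.1 h)⟩
    rw [sigma_cj]
    exact ht.2.1
  · rw [sigmaCore_cj] at hnil
    exact nilpotent_cj.1 hnil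

/-- the statement S1376 -/
theorem s1376 {M : Subgroup G} (hM : IsCoatom M) {x : G} (hx : x ∈ sigmaCore M) (hx1 : x ≠ 1)
    (hxM : ¬ Subgroup.centralizer ({x} : Set G) ≤ M) {N : Subgroup G} (hN : IsCoatom N)
    (hxN : Subgroup.centralizer ({x} : Set G) ≤ N) (hkN : (kappa N).Nonempty) :
    kappa M = ∅ ∧ (∃ E : Subgroup ↥M, IsFrobeniusComplement E ∧ IsCyclic E) ∧
      ¬ IsTISubset (fittingHallOf M : Set G) := by
  obtain ⟨hκ, hτ, hn⟩ := bg15_9 hG hM hx hx1 hxM hN hxN hkN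
  have hσF := sigmaCore_eq_fittingHallOf hG hM hn
  refine ⟨hκ, ?_, ?_⟩
  · obtain ⟨E, hE⟩ := hall_exists (π := (sigma M)ᶜ) (max_sol hG hM)
    have hEM := hall_le hE
    have hEc := frob_cyc hG hM hκ hτ hE hn hx hx1 hxM
    have hσM := sigmaCore_le hG hM
    have hEσ : E ⊓ sigmaCore M = ⊥ := by
      rw [inf_comm]
      exact cop_inf ((hall_isPi (sigma_hall hG hM)).coprime (hall_isPi hE))
    have hsup : sigmaCore M ⊔ E = M := compl_sup hG hM hE
    have hE1 : E ≠ ⊥ := by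
      intro h
      rw [h, sup_bot_eq] at hsup
      exact (der_lt hG hM).not_ge (hsup.ge.trans (sigma_le_der hG hM))
    refine ⟨E.subgroupOf M, ⟨?_, ?_, ?_⟩, ?_⟩
    · intro h
      rw [Subgroup.subgroupOf_eq_bot, disjoint_iff, inf_eq_left.2 hEM] at h
      exact hE1 h
    · intro h
      rw [Subgroup.subgroupOf_eq_top] at h
      apply sigmaCore_ne_bot hG hM
      rw [eq_bot_iff, ← hEσ]
      exact le_inf (hσM.trans h) le_rfl
    · intro g hg
      rw [eq_bot_iff]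
      rintro y ⟨hy, hyg⟩
      rw [Subgroup.mem_bot]
      by_contra hy1
      apply hg
      replace hy : (y : G) ∈ E := hy
      replace hyg : y ∈ MulAut.conj g • E.subgroupOf M := hyg
      rw [Subgroup.mem_subgroupOf]
      have hgM : (g : G) ∈ sigmaCore M ⊔ E := by rw [hsup]; exact g.2
      obtain ⟨m, hm, e, he, hme⟩ := (mem_sup_of_nz'
        (hEM.trans (le_nz_sigmaCore hG M))).1 hgM
      have hyg' : (g : G)⁻¹ * y * g ∈ E := by
        have h1 := (Subgroup.mem_smul_pointwise_iff_exists _ _ _).1 hyg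
        obtain ⟨z, hz, hzy⟩ := h1
        replace hz : (z : G) ∈ E := hz
        have h2 : (y : G) = g * z * (g : G)⁻¹ := by
          rw [← hzy]; rfl
        rw [h2]
        have h3 : (g : G)⁻¹ * (g * z * (g : G)⁻¹) * g = z := by group
        rw [h3]
        exact hz
      have hmy : m⁻¹ * y * m ∈ E := by
        have h1 : m⁻¹ * (y : G) * m = e * ((g : G)⁻¹ * y * g) * e⁻¹ := by
          rw [← hme]; group
        rw [h1]
        exact mul_mem (mul_mem he hyg') (inv_mem he)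
      have hcomm : (y : G)⁻¹ * (m⁻¹ * y * m) = 1 := by
        rw [← Subgroup.mem_bot, ← hEσ]
        refine ⟨E.mul_mem (E.inv_mem hy) hmy, ?_⟩
        have h1 : (y : G)⁻¹ * m⁻¹ * y ∈ sigmaCore M := by
          have := le_nz.1 (le_nz_sigmaCore hG M) (y : G)⁻¹ (M.inv_mem y.2) m⁻¹ (inv_mem hm)
          rwa [inv_inv] at this
        have h2 : (y : G)⁻¹ * (m⁻¹ * y * m) = (y : G)⁻¹ * m⁻¹ * y * m := by group
        rw [h2]
        exact mul_mem h1 hm
      have hm1 : m = 1 := by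
        rw [← Subgroup.mem_bot, ← semireg_of hG hM hκ hτ hE hy (fun h => hy1 (Subtype.ext h))]
        refine ⟨hm, Subgroup.mem_centralizer_singleton_iff.2 ?_⟩
        have h1 : (y : G) = m⁻¹ * y * m := (inv_mul_eq_one.1 hcomm)
        calc m * (y : G) = m * (m⁻¹ * y * m) := by rw [← h1]
          _ = y * m := by group
      rw [← hme, hm1, one_mul]
      exact he
    · exact isCyclic_of_injective (Subgroup.subgroupOfEquivOfLe hEM).toMonoidHom
        (MulEquiv.injective _)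
  · intro h
    rw [← hσF] at h
    exact hxM (ti_cz h (max_nz_sigmaCore hG hM).le hx hx1)

end

end CfsgLib.BGPi
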