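import Cfsg.Agent.EqBase
import Cfsg.Agent.LibBG19c

/-! The statement S1436. -/

open Subgroup
open scoped Pointwise commutatorElement

namespace CfsgLib.BGPi

open Cfsg

universe u

section
variable {G : Type u} [Group G] [Finite G]

theorem lt_of_act {q p : ℕ} (hq : q.Prime) (hp : p.Prime) (hq2 : q ≠ 2) (hp2 : p ≠ 2)
    {Q : Subgroup G} (hQ : IsPGroup q Q) (h : PRankLE q 2 Q ∨ ∃ E, NarE q Q E) {b : G}
    (hb : b ∈ 𝓝(Q)) (hbo : orderOf b = p) (hpq : p ≠ q) (hbQ : b ∉ 𝓒(Q)) : p < q := by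
  have hcop : (orderOf b).Coprime q := by rw [hbo]; exact (Nat.coprime_primes hp hq).2 hpq
  have h1 : p ∣ q - 1 ∨ p ∣ q + 1 := by
    by_contra hcon
    push Not at hcon
    apply hbQ
    rcases h with hr | ⟨E, hE⟩
    · refine rk2_primes hq hq2 hQ hr (A := zpowers b) (by rwa [zpowers_le]) (mem_zpowers b)
        hcop ?_ ?_
      · rw [hbo]; exact hp.coprime_iff_not_dvd.2 hcon.1
      · rw [hbo]; exact hp.coprime_iff_not_dvd.2 hcon.2
    · have h2 := hE.pow hb hcop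
      obtain ⟨m, hm⟩ := exists_pow_eq_self_of_coprime (x := b) (n := q - 1)
        (by rw [hbo]; exact (hp.coprime_iff_not_dvd.2 hcon.1).symm)
      rw [← hm]
      exact pow_mem h2 m
  have h2 := two_mul_le hp2 hp hq hq2 h1
  have := hq.one_lt
  omega

variable (hG : IsMinSimpleOddOrder G)
include hG

theorem tau2_cj (M : Subgroup G) (g : G) : tau2 (M ^ᵍ g) = tau2 M := by
  ext t
  simp only [tau2, Set.mem_setOf_eq, sigma_cj, rank_cj]

theorem tau2_lt {M N : Subgroup G} (hM : IsCoatom M) {x : G} {q p : ℕ} (hq : q.Prime)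
    (hx : x ∈ sigmaCore M) (hxo : orderOf x = q)
    (hxM : ¬ Subgroup.centralizer ({x} : Set G) ≤ M) (hN : IsCoatom N)
    (hxN : Subgroup.centralizer ({x} : Set G) ≤ N) {B₀ B : Subgroup G} (c : Exc p M B₀ B)
    (hpN : p ∈ sigma N) : p < q := by
  have hx1 : x ≠ 1 := by
    rintro rfl
    rw [orderOf_one] at hxo
    exact hq.one_lt.ne hxo
  obtain ⟨-, -, -, -, -, h6, -, -, -⟩ := bg14_4 hG hM hx hx1 hxM hN hxN
  have hn := c.nilp hG
  have hzx : IsPi {q} (zpowers x) := isPi_of_card_prime hq (by rw [Nat.card_zpowers, hxo])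
  have hzσ : zpowers x ≤ sigmaCore M := by rwa [zpowers_le]
  have hσM := sigmaCore_le hG hM
  have hxQ : x ∈ piCoreOf {q} (sigmaCore M) :=
    nilpotent_le_piCoreOf hn hzσ hzx (mem_zpowers x)
  have hqd : q ∣ Nat.card (sigmaCore M) := by
    rw [← hxo, ← Nat.card_zpowers]; exact card_dvd_of_le hzσ
  have hqσ : q ∈ sigma M := hall_isPi (sigma_hall hG hM) q hq hqd
  have hqβ := not_beta_of hG hM hq hx hxo hxM
  have hS : IsPiHallOf {q} (piCoreOf {q} (sigmaCore M)) M :=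
    hall_trans (nilpotent_hall hn) (sigma_hall hG hM) (Set.singleton_subset_iff.2 hqσ)
  obtain ⟨b, hb, hb1⟩ := B.bot_or_exists_ne_one.resolve_left (by
    intro h
    have h1 := c.card
    rw [h, Subgroup.card_bot] at h1
    exact (Nat.one_lt_pow two_ne_zero c.hp.one_lt).ne h1)
  have hbo : orderOf b = p := by
    haveI := Fact.mk c.hp
    exact orderOf_eq_prime (c.el.2 b hb) hb1
  have hbM : b ∈ M := c.AM hb
  have hpB : p ∣ Nat.card M := by
    rw [← hbo, ← Nat.card_zpowers]; exact card_dvd_of_le (by rwa [zpowers_le])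
  refine lt_of_act hq c.hp (ms_p2' hG hq hqd) (ms_p2' hG c.hp hpB)
    ((isPi_piCoreOf _ _).isPGroup hq)
    (not_beta_syl hG hM hq (hqd.trans (card_dvd_of_le hσM)) hqβ hS)
    (b := b) ?_ hbo ?_ ?_
  · exact ((le_nz_sigmaCore hG M).trans (nz_le_nz_piCoreOf _ _)) hbM
  · rintro rfl
    exact c.ns hqσ
  · intro hbQ
    have h1 : b ∈ N := hxN (Subgroup.mem_centralizer_singleton_iff.2 (mem_cz.1 hbQ x hxQ).symm)
    exact hall_isPi h6 p c.hp (by
      rw [← hbo, ← Nat.card_zpowers]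
      exact card_dvd_of_le (by rw [zpowers_le]; exact ⟨hbM, h1⟩)) hpN

theorem prime_red {M N : Subgroup G} (hM : IsCoatom M) {x : G} (hx : x ∈ sigmaCore M) (hx1 : x ≠ 1)
    (hxM : ¬ Subgroup.centralizer ({x} : Set G) ≤ M) (hN : IsCoatom N)
    (hxN : Subgroup.centralizer ({x} : Set G) ≤ N) :
    ∃ (q : ℕ) (y : G), q.Prime ∧ y ∈ sigmaCore M ∧ orderOf y = q ∧ y ≠ 1 ∧
      ¬ Subgroup.centralizer ({y} : Set G) ≤ M ∧ Subgroup.centralizer ({y} : Set G) ≤ N := by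
  obtain ⟨-, -, -, -, -, -, -, h8, -⟩ := bg14_4 hG hM hx hx1 hxM hN hxN
  have hz1 : zpowers x ≠ ⊥ := by rwa [Ne, zpowers_eq_bot]
  obtain ⟨q, hq, hqd, X, hX, hXc⟩ := exists_prime_sub hz1
  obtain ⟨y, hy, hy1⟩ := X.bot_or_exists_ne_one.resolve_left (ne_bot_of_card_prime hq hXc)
  have hyX : zpowers y = X := zpowers_eq_of_prime hq hXc hy hy1
  have hyo : orderOf y = q := by rw [← Nat.card_zpowers, hyX, hXc]
  refine ⟨q, y, hq, ?_, hyo, hy1, ?_, ?_⟩
  · have h1 : zpowers x ≤ sigmaCore M := by rwa [zpowers_le]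
    exact h1 (hX hy)
  · intro h
    apply hxM
    refine le_trans ?_ h
    rw [cz1_eq, cz1_eq, hyX]
    exact cz_anti hX
  · rw [cz1_eq, hyX]
    exact (cz_le_nz X).trans (h8 q X hq hX hXc).1

theorem tau2_not_sigma {M N : Subgroup G} (hM : IsCoatom M) {x : G} (hx : x ∈ sigmaCore M)
    (hx1 : x ≠ 1) (hxM : ¬ Subgroup.centralizer ({x} : Set G) ≤ M) (hN : IsCoatom N)
    (hxN : Subgroup.centralizer ({x} : Set G) ≤ N) {p : ℕ} (hp : p ∈ tau2 M) : p ∉ sigma N := by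
  intro hpN
  obtain ⟨q, y, hq, hyσ, hyo, hy1, hyM, hyN⟩ := prime_red hG hM hx hx1 hxM hN hxN
  obtain ⟨-, -, h3, -, -, -, -, -, -⟩ := bg14_4 hG hM hyσ hy1 hyM hN hyN
  have hqτ : q ∈ tau2 N := h3 q hq (by rw [Nat.card_zpowers, hyo])
  have hqσ : q ∈ sigma M := hall_isPi (sigma_hall hG hM) q hq (by
    rw [← hyo, ← Nat.card_zpowers]; exact card_dvd_of_le (by rwa [zpowers_le]))
  obtain ⟨E, hE⟩ := hall_exists (π := (sigma M)ᶜ) (max_sol hG hM)
  obtain ⟨B, hBE, B₀, c⟩ := exists_exc_tau2 hG hM hE hp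
  have hlt := tau2_lt hG hM hq hyσ hyo hyM hN hyN c hpN
  have hBπ := elab_isPi c.hp c.el
  obtain ⟨g, hg⟩ := exists_cj_sigma hG hN hpN (Or.inr hBπ)
  set N₁ := N ^ᵍ g with hN₁
  have hN1 : IsCoatom N₁ := coatom_cj hN g
  have hBσ : B ≤ sigmaCore N₁ := by rw [hN₁, sigmaCore_cj]; exact hg
  have hpN1 : p ∈ sigma N₁ := by rw [hN₁, sigma_cj]; exact hpN
  have hBN : 𝓝(B) ≤ N₁ := nz_noncyc hG hN1 hpN1 (hBπ.isPGroup c.hp)
    (hBσ.trans (sigmaCore_le hG hN1)) (nc_of_card c.hp c.el c.card.ge)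
  obtain ⟨-, -, hinf, -⟩ := c.maxN hG hN1 hBN
  obtain ⟨b, hb, hb1, hbC⟩ := exists_cent_ne_bot hG c.el.1
    (nc_of_card c.hp c.el c.card.ge) (c.act hG) (c.cop hG) (sigmaCore_ne_bot hG hM)
  have hbo : orderOf b = p := by
    haveI := Fact.mk c.hp
    exact orderOf_eq_prime (c.el.2 b hb) hb1
  have hbM : Subgroup.centralizer ({b} : Set G) ≤ M := by
    rw [cz1_eq]
    refine (c.uniq_cz hG (X := zpowers b) (by rwa [zpowers_le]) (by rwa [Ne, zpowers_eq_bot])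
      ?_).1
    rw [← cz1_eq]
    exact hbC
  have hbN : ¬ Subgroup.centralizer ({b} : Set G) ≤ N₁ := by
    intro h
    apply hbC
    rw [eq_bot_iff, ← hinf]
    exact le_inf (inf_le_right.trans h) inf_le_left
  have hqτ1 : q ∈ tau2 N₁ := by rw [hN₁, tau2_cj hG]; exact hqτ
  obtain ⟨E₁, hE₁⟩ := hall_exists (π := (sigma N₁)ᶜ) (max_sol hG hN1)
  obtain ⟨A, hAE, A₀, cA⟩ := exists_exc_tau2 hG hN1 hE₁ hqτ1
  have hlt' := tau2_lt hG hN1 c.hp (hBσ hb) hbo hbN hM hbM cA hqσ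
  omega

end

end CfsgLib.BGPi
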