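import Cfsg.Agent.EqBase
import Cfsg.Agent.LibBG19d

/-! The statement S1436. -/

open Subgroup
open scoped Pointwise commutatorElement

namespace CfsgLib.BGPi

open Cfsg

universe u

section
variable {G : Type u} [Group G] [Finite G]
variable (hG : IsMinSimpleOddOrder G)
include hG

theorem der_cz_sigma {M E : Subgroup G} (hM : IsCoatom M)
    (hE : IsPiHallOf (sigma M)ᶜ E M) (hn : Group.IsNilpotent (sigmaCore M))
    {p : ℕ} {y : G} (hp : p.Prime) (hyσ : y ∈ sigmaCore M) (hyo : orderOf y = p)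
    (hyM : ¬ Subgroup.centralizer ({y} : Set G) ≤ M) : ⁅E, E⁆ ≤ 𝓒(sigmaCore M) := by
  have hpβ := not_beta_of hG hM hp hyσ hyo hyM
  obtain ⟨hVab, hVr, -⟩ := nti_at hG hM hn hp hyσ hyo hyM
  have hEM := hall_le hE
  rw [le_cz_comm]
  refine nilpotent_le_of_pcores hn fun q hq => ?_
  rw [le_cz_comm]
  set S := piCoreOf {q} (sigmaCore M) with hS
  by_cases hS1 : S = ⊥
  · rw [hS1, le_cz_comm]; exact bot_le
  have hqS : q ∣ Nat.card S := by
    obtain ⟨s, hs, hsd⟩ := exists_prime_dvd_of_ne_bot hS1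
    have h1 := isPi_piCoreOf {q} (sigmaCore M) s hs hsd
    rw [Set.mem_singleton_iff] at h1
    rwa [h1] at hsd
  have hqσ : q ∈ sigma M := hall_isPi (sigma_hall hG hM) q hq
    (hqS.trans (card_dvd_of_le (piCoreOf_le _ _)))
  have hSM : IsPiHallOf {q} S M :=
    hall_trans (nilpotent_hall hn) (sigma_hall hG hM) (Set.singleton_subset_iff.2 hqσ)
  have hqβ : q ∉ beta M := by
    by_cases hqp : q = p
    · rw [hqp]; exact hpβ
    · intro h
      have h1 := beta_sub_alpha hG h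
      have h2 : S ≤ piCoreOf {p}ᶜ (sigmaCore M) := by
        refine nilpotent_le_piCoreOf hn (piCoreOf_le _ _) ?_
        refine (isPi_piCoreOf _ _).mono ?_
        intro s hs
        rw [Set.mem_singleton_iff] at hs
        rw [hs]
        exact hqp
      have h3 : PRankLE q 2 S := rank_mono h2 (hVr q hq)
      exact h1.2 ((rank_syl hq hSM).2 h3)
  exact der_cz_syl hG hM hE hqσ hqβ (isPi_piCoreOf _ _) (piCoreOf_le _ _)
    (hEM.trans ((le_nz_sigmaCore hG M).trans (nz_le_nz_piCoreOf _ _)))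

theorem kappa_bot_of {M N : Subgroup G} (hM : IsCoatom M) {x : G} (hx : x ∈ sigmaCore M)
    (hx1 : x ≠ 1) (hxM : ¬ Subgroup.centralizer ({x} : Set G) ≤ M) (hN : IsCoatom N)
    (hxN : Subgroup.centralizer ({x} : Set G) ≤ N) (hκN : kappa N = ∅) {p : ℕ}
    (hpN : p ∈ sigma N) (hpM : p ∣ Nat.card M) : kappa M = ∅ := by
  by_contra hκ
  have hp : p.Prime := sigma_prime hpN
  obtain ⟨-, h2, -, -, -, -, -, -, -⟩ := bg14_4 hG hM hx hx1 hxM hN hxN
  have hpσ : p ∉ sigma M := fun h => sigma_part hG hM hN h2 h hpN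
  obtain ⟨K, hK⟩ := hall_exists (π := kappa M) (max_sol hG hM)
  have hK1 : K ≠ ⊥ := by
    obtain ⟨s, hsκ⟩ := Set.nonempty_iff_ne_empty.2 hκ
    obtain ⟨hs, -, -, Y, hYM, hYc, -⟩ := (kappa_iff hG).1 hsκ
    intro h
    have h1 : s ∣ Nat.card K := hall_dvd' hs hsκ hK (by rw [← hYc]; exact card_dvd_of_le hYM)
    rw [h, Subgroup.card_bot] at h1
    exact hs.one_lt.ne' (Nat.dvd_one.1 h1)
  obtain ⟨U, hKU⟩ := exists_dec hG hM (kap_cyc hG hM hK) hK
  have hUb : U = ⊥ := by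
    by_contra hU1
    obtain ⟨h3, h4⟩ := p2_fit_ti hG hM hKU hK1 hU1
    exact hxM (ti_cz h3 (max_nz_fitting hG hM).le (h4 hx) hx1)
  obtain ⟨hE, -, -, -⟩ := dec_facts hG hM hKU
  rw [hUb, bot_sup_eq] at hE
  have hpK : p ∣ Nat.card K := hall_dvd' hp hpσ hE hpM
  obtain ⟨L, d, -⟩ := exists_dual hG hM hK hK1
  have hpL : p ∈ sigma L := hall_isPi (sigma_hall hG d.hL) p hp
    (hpK.trans (card_dvd_of_le (d.KL hG)))
  have hnc : ∀ g : G, N ≠ L ^ᵍ g := d.notconj hG hκN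
  exact sigma_part hG d.hL hN hnc hpL hpN

theorem tau2_empty_of {M N : Subgroup G} (hM : IsCoatom M) {x : G} (hx : x ∈ sigmaCore M)
    (hx1 : x ≠ 1) (hxM : ¬ Subgroup.centralizer ({x} : Set G) ≤ M) (hN : IsCoatom N)
    (hxN : Subgroup.centralizer ({x} : Set G) ≤ N) (hκN : kappa N = ∅) (hκM : kappa M = ∅) {p : ℕ}
    (hpN : p ∈ sigma N) (hpM : p ∣ Nat.card M) {t : ℕ} : t ∉ tau2 M := by
  intro ht
  have hp : p.Prime := sigma_prime hpN
  obtain ⟨q, y, hq, hyσ, hyo, hy1, hyM, hyN⟩ := prime_red hG hM hx hx1 hxM hN hxN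
  obtain ⟨-, h2, h3, -, h5, h6, -, h8, -⟩ := bg14_4 hG hM hyσ hy1 hyM hN hyN
  have hpσ : p ∉ sigma M := fun h => sigma_part hG hM hN h2 h hpN
  have hqτ : q ∈ tau2 N := h3 q hq (by rw [Nat.card_zpowers, hyo])
  have hqσM : q ∣ Nat.card (sigmaCore M) := by
    rw [← hyo, ← Nat.card_zpowers]; exact card_dvd_of_le (by rwa [zpowers_le])
  have hqσ : q ∈ sigma M := hall_isPi (sigma_hall hG hM) q hq hqσM
  have hσM := sigmaCore_le hG hM
  -- `A`
  obtain ⟨S, hS⟩ := exists_syl hq (M ⊓ N)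
  obtain ⟨-, A, hAS, A₀, cA, -⟩ := (h8 q (zpowers y) hq le_rfl
    (by rw [Nat.card_zpowers, hyo])).2 S hS
  have hAE : A ≤ M ⊓ N := hAS.trans (hall_le hS)
  -- `B`
  obtain ⟨E, hE⟩ := hall_exists (π := (sigma M)ᶜ) (max_sol hG hM)
  have hEM := hall_le hE
  obtain ⟨B, hBE, B₀, c⟩ := exists_exc_tau2 hG hM hE ht
  have hn := c.nilp hG
  have hder := der_cz_sigma hG hM hE hn hq hyσ hyo hyM
  -- `Y`
  have hpE : p ∣ Nat.card E := hall_dvd' hp hpσ hE hpM
  obtain ⟨Y, hYE, hYc⟩ := exists_card_prime hp hpE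
  have hYM := hYE.trans hEM
  have hpτ : p ∉ tau2 M := fun h => tau2_not_sigma hG hM hyσ hy1 hyM hN hyN h hpN
  have hYfix : sigmaCore M ⊓ 𝓒(Y) = ⊥ := by
    by_contra hne
    exact hpτ (kappa_of_line hG hM hp hpσ hYM hYc hne hκM)
  obtain ⟨z, hz, hz1⟩ := Y.bot_or_exists_ne_one.resolve_left (ne_bot_of_card_prime hp hYc)
  have hzY : zpowers z = Y := zpowers_eq_of_prime hp hYc hz hz1
  have hzo : orderOf z = p := by rw [← Nat.card_zpowers, hzY, hYc]
  have hp2 : p ≠ 2 := ms_p2' hG hp hpM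
  have hq2 : q ≠ 2 := ms_p2' hG hq hqσM
  have hpq : p ≠ q := fun h => hpσ (h ▸ hqσ)
  -- `p < q`
  have hlt : p < q := by
    have hzx : IsPi {q} (zpowers y) := isPi_of_card_prime hq (by rw [Nat.card_zpowers, hyo])
    have hyQ : y ∈ piCoreOf {q} (sigmaCore M) :=
      nilpotent_le_piCoreOf hn (by rwa [zpowers_le]) hzx (mem_zpowers y)
    have hSh : IsPiHallOf {q} (piCoreOf {q} (sigmaCore M)) M :=
      hall_trans (nilpotent_hall hn) (sigma_hall hG hM) (Set.singleton_subset_iff.2 hqσ)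
    refine lt_of_act hq hp hq2 hp2 ((isPi_piCoreOf _ _).isPGroup hq)
      (not_beta_syl hG hM hq (hqσM.trans (card_dvd_of_le hσM))
        (not_beta_of hG hM hq hyσ hyo hyM) hSh) (b := z) ?_ hzo hpq ?_
    · exact ((le_nz_sigmaCore hG M).trans (nz_le_nz_piCoreOf _ _)) (hYM hz)
    · intro h
      apply hy1
      rw [← Subgroup.mem_bot, ← hYfix]
      refine ⟨hyσ, ?_⟩
      have h7 : piCoreOf {q} (sigmaCore M) ≤ 𝓒(Y) := by
        rw [le_cz_comm, ← hzY, zpowers_le]; exact h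
      exact h7 hyQ
  -- `p ∈ β(N)`
  have hNn := nilp_of_tau2 hG hN hqτ
  have hpβ : p ∈ beta N := by
    by_contra hpβ
    have hPh : IsPiHallOf {p} (piCoreOf {p} (sigmaCore N)) N :=
      hall_trans (nilpotent_hall hNn) (sigma_hall hG hN) (Set.singleton_subset_iff.2 hpN)
    have hP1 : piCoreOf {p} (sigmaCore N) ≠ ⊥ :=
      hall_ne_bot hp (nilpotent_hall hNn) (sigma_core_dvd hG hN hpN)
    obtain ⟨a, ha, haP⟩ : ∃ a ∈ A, a ∉ 𝓒(piCoreOf {p} (sigmaCore N)) := by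
      by_contra hcon
      push Not at hcon
      apply hP1
      rw [eq_bot_iff, ← cA.inf_cz hG]
      exact le_inf (piCoreOf_le _ _) (le_cz_comm.1 hcon)
    have ha1 : a ≠ 1 := fun h => haP (h ▸ one_mem _)
    have hao : orderOf a = q := by
      haveI := Fact.mk hq
      exact orderOf_eq_prime (cA.el.2 a ha) ha1
    have := lt_of_act hp hq hp2 hq2 ((isPi_piCoreOf _ _).isPGroup hp)
      (not_beta_syl hG hN hp ((sigma_core_dvd hG hN hpN).trans
        (card_dvd_of_le (sigmaCore_le hG hN))) hpβ hPh) (b := a)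
      (((le_nz_sigmaCore hG N).trans (nz_le_nz_piCoreOf _ _)) (cA.AM ha)) hao (Ne.symm hpq) haP
    omega
  -- conjugate `Y` into `N`
  obtain ⟨g, hg⟩ := exists_cj_sigma hG hN hpN
    (Or.inr (isPi_of_card_prime hp hYc : IsPi {p} Y))
  have hY' : Y ^ᵍ g⁻¹ ≤ sigmaCore N := by rwa [← le_cj_iff]
  have hY'N := hY'.trans (sigmaCore_le hG hN)
  have hCY := (bg12_14' hG hN hpN hY'N (by rw [card_cj]; exact hYc) (Or.inl hpβ)).1
  have hB1 : B ⊓ 𝓒(Y) ≠ ⊥ := by
    intro h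
    have hYB : Y ≤ 𝓝(B) := hYE.trans (c.nzE hG hE hBE)
    have htp : t ≠ p := by
      rintro rfl
      exact hpτ ht
    have hcop : (Nat.card Y).Coprime (Nat.card B) := by
      rw [hYc, c.card]
      exact Nat.Coprime.pow_right 2 ((Nat.coprime_primes hp c.hp).2 (Ne.symm htp))
    have h7 := cop_comm_sup hYB hcop
      (solvable_of_isPGroup c.hp ((elab_isPi c.hp c.el).isPGroup c.hp))
    rw [h, sup_bot_eq] at h7
    have h8 : B ≤ 𝓒(sigmaCore M) := by
      rw [← h7]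
      exact (Subgroup.commutator_mono hBE hYE).trans hder
    have h9 := c.inf_cz hG
    rw [inf_eq_left.2 (le_cz_comm.1 h8)] at h9
    exact sigmaCore_ne_bot hG hM h9
  have htB : t ∣ Nat.card ↥(B ⊓ 𝓒(Y)) := by
    obtain ⟨s, hs, hsd⟩ := exists_prime_dvd_of_ne_bot hB1
    have h7 := elab_isPi c.hp c.el s hs (hsd.trans (card_dvd_of_le inf_le_left))
    rw [Set.mem_singleton_iff] at h7
    rwa [h7] at hsd
  obtain ⟨T, hT, hTc⟩ := exists_card_prime c.hp htB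
  have hTY : T ^ᵍ g⁻¹ ≤ 𝓒(Y ^ᵍ g⁻¹) := by
    rw [cz_cj]; exact cj_mono (hT.trans inf_le_right) g⁻¹
  have htN : t ∉ sigma N := tau2_not_sigma hG hM hyσ hy1 hyM hN hyN ht
  have htτ : t ∈ tau2 N := by
    refine kappa_of_line hG hN c.hp htN (hTY.trans hCY) (by rw [card_cj]; exact hTc) ?_ hκN
    intro h
    have h7 : Y ^ᵍ g⁻¹ ≤ ⊥ := by rw [← h]; exact le_inf hY' (le_cz_comm.1 hTY)
    have h8 : Nat.card ↥(Y ^ᵍ g⁻¹) = p := by rw [card_cj]; exact hYc
    rw [le_bot_iff.1 h7, Subgroup.card_bot] at h8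
    exact hp.one_lt.ne h8
  obtain ⟨B', hB'E, B₀', c'⟩ := exists_exc_tau2 hG hN h6 htτ
  have hB'A : B' ≤ 𝓒(A) := by
    refine cA.tau2_cz hG h6 hAE hB'E
      (nilpotent_of_isPi c'.hp (elab_isPi c'.hp c'.el)) ?_
    intro s hs hsd
    have h7 := elab_isPi c'.hp c'.el s hs hsd
    rw [Set.mem_singleton_iff] at h7
    rw [h7]; exact htτ
  -- `B'` is exceptional in `M`
  have hB'M : B' ≤ M := hB'E.trans inf_le_left
  have hB'σ : IsPi (sigma M)ᶜ B' := by
    intro s hs hsd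
    have h7 := elab_isPi c'.hp c'.el s hs hsd
    rw [Set.mem_singleton_iff] at h7
    rw [h7]; exact ht.2.1
  obtain ⟨F, hF, hB'F⟩ := hall_exists_ge (max_sol hG hM) hB'σ hB'M
  obtain ⟨r', C, C₀, hCB, cC⟩ := noncyc_tau2 hG hM hF hB'F
    (nilpotent_of_isPi c'.hp (elab_isPi c'.hp c'.el)) (nc_of_card c'.hp c'.el c'.card.ge)
  have hAσ : A ≤ sigmaCore M := by
    refine le_hall_of_normal (sigma_hall hG hM) (le_nz_sigmaCore hG M) ?_
      (hAE.trans inf_le_left)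
    intro s hs hsd
    have h7 := elab_isPi hq cA.el s hs hsd
    rw [Set.mem_singleton_iff] at h7
    rw [h7]; exact hqσ
  have hA1 : A ≤ ⊥ := by
    rw [← cC.inf_cz hG]
    exact le_inf hAσ ((le_cz_comm.1 hB'A).trans (cz_anti hCB))
  have h9 := cA.card
  rw [le_bot_iff.1 hA1, Subgroup.card_bot] at h9
  exact (Nat.one_lt_pow two_ne_zero hq.one_lt).ne h9

end

end CfsgLib.BGPi
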