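import Cfsg.Agent.EqBase
import Cfsg.Agent.LibBG19e

/-! The statement S1436. -/

open Subgroup
open scoped Pointwise commutatorElement

namespace CfsgLib.BGPi

open Cfsg

universe u

section
variable {G : Type u} [Group G] [Finite G]
variable (hG : IsMinSimpleOddOrder G)
include hG

theorem s1436a {M N : Subgroup G} (hM : IsCoatom M) {x : G} (hx : x ∈ sigmaCore M)
    (hx1 : x ≠ 1) (hxM : ¬ Subgroup.centralizer ({x} : Set G) ≤ M) (hN : IsCoatom N)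
    (hxN : Subgroup.centralizer ({x} : Set G) ≤ N) (h : ∃ p ∈ sigma N, p ∣ Nat.card M) :
    kappa M = ∅ ∧ tau2 M = ∅ := by
  obtain ⟨p, hpN, hpM⟩ := h
  by_cases hκN : kappa N = ∅
  · have h1 := kappa_bot_of hG hM hx hx1 hxM hN hxN hκN hpN hpM
    exact ⟨h1, Set.eq_empty_iff_forall_notMem.2 fun t =>
      tau2_empty_of hG hM hx hx1 hxM hN hxN hκN h1 hpN hpM⟩
  · obtain ⟨h1, h2, -⟩ := bg15_9 hG hM hx hx1 hxM hN hxN (Set.nonempty_iff_ne_empty.2 hκN)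
    exact ⟨h1, Set.eq_empty_iff_forall_notMem.2 h2⟩

theorem s1436b {M N : Subgroup G} (hM : IsCoatom M) {x : G} (hx : x ∈ sigmaCore M)
    (hx1 : x ≠ 1) (hxM : ¬ Subgroup.centralizer ({x} : Set G) ≤ M) (hN : IsCoatom N)
    (hxN : Subgroup.centralizer ({x} : Set G) ≤ N) {y : G} {N' : Subgroup G} {g : G}
    (hy : y ∈ sigmaCore M) (hy1 : y ≠ 1) (hyM : ¬ Subgroup.centralizer ({y} : Set G) ≤ M)
    (hN' : IsCoatom N') (hyN : Subgroup.centralizer ({y} : Set G) ≤ N') (hg : N' ^ᵍ g = N) :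
    ∃ m ∈ M, N' ^ᵍ m = N := by
  obtain ⟨q, z, hq, hzσ, hzo, hz1, hzM, hzN⟩ := prime_red hG hM hx hx1 hxM hN hxN
  obtain ⟨-, -, h3, -, -, h6, -, h8, -⟩ := bg14_4 hG hM hzσ hz1 hzM hN hzN
  obtain ⟨-, -, -, -, -, h6', -, -, -⟩ := bg14_4 hG hM hy hy1 hyM hN' hyN
  have hqσ : q ∈ sigma M := hall_isPi (sigma_hall hG hM) q hq (by
    rw [← hzo, ← Nat.card_zpowers]; exact card_dvd_of_le (by rwa [zpowers_le]))
  obtain ⟨S, hS⟩ := exists_syl hq (M ⊓ N)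
  obtain ⟨hNS, A, hAS, A₀, cA, -⟩ := (h8 q (zpowers z) hq le_rfl
    (by rw [Nat.card_zpowers, hzo])).2 S hS
  have h7 : IsPiHallOf (sigma N)ᶜ (M ^ᵍ g ⊓ N) N := by
    have h9 := hall_cj h6' g
    rw [hg, cj_inf, hg] at h9
    rw [← hg, sigma_cj, hg]
    exact h9
  obtain ⟨n, hn, hnE⟩ := hall_conj (max_sol hG hN) h7 h6
  have hSE : S ≤ M ⊓ N := hall_le hS
  have hSM : S ≤ M := hSE.trans inf_le_left
  have hSh : S ≤ M ^ᵍ (n * g) := by
    rw [cj_mul]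
    refine hSE.trans ?_
    rw [← hnE]
    exact cj_mono inf_le_left n
  have hSp : IsPGroup q S := (hall_isPi hS).isPGroup hq
  have hS1 : S ≠ ⊥ := by
    intro h
    rw [h] at hAS
    have h9 := cA.card
    rw [le_bot_iff.1 hAS, Subgroup.card_bot] at h9
    exact (Nat.one_lt_pow two_ne_zero hq.one_lt).ne h9
  have hS' : S ^ᵍ (n * g)⁻¹ ≤ M := by rwa [← le_cj_iff]
  obtain ⟨m, hm, c, hc, hmc⟩ := bg10_1 hG hM hqσ hSp hS1 hSM hS'
  refine ⟨n * g, ?_, ?_⟩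
  · rw [← M.inv_mem_iff, hmc]
    exact mul_mem hm (((cz_le_nz S).trans hNS) hc)
  · rw [cj_mul, hg, cj_eq_of_mem hn]

end

end CfsgLib.BGPi
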