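import Cfsg.Agent.EqBase
import Cfsg.Agent.LibBG19f

/-! The sets `A₁(M)`, `A(M)`, `A₀(M)`. -/

open Subgroup
open scoped Pointwise commutatorElement

namespace CfsgLib.BGPi

open Cfsg

universe u

section
variable {G : Type u} [Group G] [Finite G]
variable (hG : IsMinSimpleOddOrder G)
include hG

theorem typeCore_eq {M : Subgroup G} (hM : IsCoatom M) : typeCore M = sigmaCore M := by
  obtain ⟨K, hK⟩ := hall_exists (π := kappa M) (max_sol hG hM)
  obtain ⟨U, hKU⟩ := exists_dec hG hM (kap_cyc hG hM hK) hK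
  rw [typeCore]
  split_ifs with h
  · obtain ⟨hK1, hU, -⟩ := type34_fwd hG hM hKU h
    rw [(dec_U_bot hG hM hKU hK1).1 hU]
  · by_contra hne
    exact h (type34_bwd hG hM hKU hne)

/-- `A(M) - M_σ` -/
theorem A_fus {M K U : Subgroup G} (hM : IsCoatom M) (hKU : IsSigmaDecomposition M K U) {g t : G}
    (ht : t ∈ sigmaA M U \ (sigmaCore M : Set G))
    (hgt : g * t * g⁻¹ ∈ sigmaA M U \ (sigmaCore M : Set G)) : g ∈ M := by
  have key : ∀ x c : G, x ∈ sigmaA M U \ (sigmaCore M : Set G) → c ∈ zpowers x → c ≠ 1 →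
      (∀ p : ℕ, p.Prime → p ∣ orderOf c → p ∉ sigma M) →
      (Subgroup.centralizer ({c} : Set G) ≤ M ∧ ∀ L : Subgroup G, IsCoatom L →
        Subgroup.centralizer ({c} : Set G) ≤ L → L = M) := by
    rintro x c ⟨⟨h1, h2⟩, h3⟩ hc hc1 hcσ
    rcases hat_dich hG hM h1 hc hc1 hcσ with h | ⟨-, h⟩
    · exfalso
      obtain ⟨p, hp, hpd⟩ := Nat.exists_prime_and_dvd (fun h => hc1 (orderOf_eq_one_iff.1 h) :
        orderOf c ≠ 1)
      have h4 : zpowers c ≤ U ⊔ sigmaCore M := by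
        rw [zpowers_le]
        have : zpowers x ≤ U ⊔ sigmaCore M := by rw [zpowers_le]; exact h2
        exact this hc
      exact hall_isPi (dec_hall hG hM hKU) p hp (hpd.trans (by
        rw [← Nat.card_zpowers]; exact card_dvd_of_le h4)) (h p hp hpd)
    · exact h
  obtain ⟨b, hb, c, hc, hbc, hcm, hbσ, hcM, hcσ⟩ := sig_parts hG hM ht.1.1.1
  have hc1 : c ≠ 1 := by
    rintro rfl
    rw [mul_one] at hbc
    exact ht.2 (hbc ▸ hbσ)
  obtain ⟨h1, h2⟩ := key t c ht hc hc1 hcσ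
  have hc' : g * c * g⁻¹ ∈ zpowers (g * t * g⁻¹) := by
    rw [zpowers_conj]; exact (mem_cj' hG).2 hc
  obtain ⟨h3, h4⟩ := key _ _ hgt hc' (fun h => hc1 (conj_eq_one_iff.1 h)) (by
    rw [orderOf_conj']; exact hcσ)
  have h5 : M ^ᵍ g = M := by
    refine h4 _ (coatom_cj hM g) ?_
    rw [cz1_cj hG]; exact cj_mono h1 g
  have h6 : g ∈ 𝓝(M) := mem_nz.2 h5
  rwa [max_nz_self hG hM] at h6

/-- elements of `M` commuting with an element of `M_σ` in the Frobenius case -/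
theorem frob_cz {M : Subgroup G} (hM : IsCoatom M) (hκ : kappa M = ∅) (hτ : ∀ t, t ∉ tau2 M)
    {z y : G} (hz : z ∈ M) (hy : y ∈ sigmaCore M) (hy1 : y ≠ 1) (h : z * y = y * z) :
    z ∈ sigmaCore M := by
  obtain ⟨b, hb, c, hc, hbc, hcm, hbσ, hcM, hcσ⟩ := sig_parts hG hM hz
  have hc1 : c = 1 := by
    by_contra hc1
    obtain ⟨E, hE, hcE⟩ := hall_exists_ge (max_sol hG hM) (isPi_zpowers.2 hcσ :
      IsPi (sigma M)ᶜ (zpowers c)) (by rwa [zpowers_le])
    have h1 := semireg_of hG hM hκ hτ hE (hcE (mem_zpowers c)) hc1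
    apply hy1
    rw [← Subgroup.mem_bot, ← h1]
    refine ⟨hy, Subgroup.mem_centralizer_singleton_iff.2 ?_⟩
    have h2 : z ∈ Subgroup.centralizer ({y} : Set G) :=
      Subgroup.mem_centralizer_singleton_iff.2 h
    have h3 : c ∈ Subgroup.centralizer ({y} : Set G) := by
      have : zpowers z ≤ Subgroup.centralizer ({y} : Set G) := by rwa [zpowers_le]
      exact this hc
    exact (Subgroup.mem_centralizer_singleton_iff.1 h3).symm
  rw [hbc, hc1, mul_one]
  exact hbσ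

theorem star_le_fit {M K : Subgroup G} (hM : IsCoatom M) (hK : IsPiHallOf (kappa M) K M)
    (hK1 : K ≠ ⊥) : sigmaCore M ⊓ 𝓒(K) ≤ fittingHallOf M := by
  obtain ⟨U, hKU⟩ := exists_dec hG hM (kap_cyc hG hM hK) hK
  by_cases hn : Group.IsNilpotent (sigmaCore M)
  · rw [← sigmaCore_eq_fittingHallOf hG hM hn]; exact inf_le_left
  · obtain ⟨-, -, K₁, D, q, c⟩ := exists_NF hG hM hKU hn
    exact c.starMF hG

theorem typeF_kappa {M : Subgroup G} (hM : IsCoatom M) (h : IsOfTypeF ↥M) : kappa M = ∅ := by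
  by_contra hne
  obtain ⟨s, hsκ⟩ := Set.nonempty_iff_ne_empty.2 hne
  obtain ⟨hs, hsσ, hr, Y, hYM, hYc, -⟩ := (kappa_iff hG).1 hsκ
  obtain ⟨K, hK⟩ := hall_exists (π := kappa M) (max_sol hG hM)
  have hsM : s ∣ Nat.card M := by rw [← hYc]; exact card_dvd_of_le hYM
  have hsK : s ∣ Nat.card K := hall_dvd' hs hsκ hK hsM
  have hK1 : K ≠ ⊥ := by
    intro h
    rw [h, Subgroup.card_bot] at hsK
    exact hs.one_lt.ne' (Nat.dvd_one.1 hsK)
  obtain ⟨X, hXK, hXc⟩ := exists_card_prime hs hsK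
  have hstar := star_le_fit hG hM hK hK1
  have hst1 := kap_star_ne hG hM hK hK1
  obtain ⟨-, -, -, -, U, -, hcompl, -, U₀, hU0, hexp, hfpf⟩ := h
  -- `s` divides `|U|`
  have hsF : ¬ s ∣ Nat.card (fittingHall ↥M) := by
    intro hd
    have h1 : Nat.card (fittingHall ↥M) = Nat.card (fittingHallOf M) :=
      Nat.card_congr ((fittingHall ↥M).equivMapOfInjective M.subtype
        M.subtype_injective).toEquiv
    rw [h1] at hd
    exact hsσ (hall_isPi (sigma_hall hG hM) s hs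
      (hd.trans (card_dvd_of_le (fittingHallOf_le_sigmaCore hG hM))))
  have hsU : s ∣ Nat.card U := by
    have h1 := hcompl.card_mul
    rw [← h1] at hsM
    exact (hs.dvd_mul.1 hsM).resolve_left hsF
  haveI := Fact.mk hs
  obtain ⟨v, hv⟩ := exists_prime_orderOf_dvd_card' s hsU
  have h2 : s ∣ Monoid.exponent U₀ := by
    rw [hexp, ← hv]; exact Monoid.order_dvd_exponent v
  have h3 : s ∣ Nat.card U₀ := h2.trans Group.exponent_dvd_nat_card
  obtain ⟨w, hw⟩ := exists_prime_orderOf_dvd_card' s h3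
  have hwo : orderOf ((w : ↥M) : G) = s := by
    rw [Subgroup.orderOf_coe, Subgroup.orderOf_coe, hw]
  have hwc : Nat.card (zpowers ((w : ↥M) : G)) = s := by rw [Nat.card_zpowers, hwo]
  obtain ⟨m, hm, hmX⟩ := rank1_conj hG hs hr (by rw [zpowers_le]; exact (w : ↥M).2)
    (hXK.trans (hall_le hK)) hwc hXc
  obtain ⟨y, ⟨hyσ, hyK⟩, hy1⟩ :=
    (sigmaCore M ⊓ 𝓒(K)).bot_or_exists_ne_one.resolve_left hst1
  have hyF : y ∈ fittingHallOf M := hstar ⟨hyσ, hyK⟩
  have hwK : m * ((w : ↥M) : G) * m⁻¹ ∈ K := by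
    apply hXK
    rw [← hmX]
    exact (mem_cj' hG).2 (mem_zpowers _)
  have hcomm : (m * ((w : ↥M) : G) * m⁻¹) * y = y * (m * ((w : ↥M) : G) * m⁻¹) :=
    mem_cz.1 hyK _ hwK
  have hMF : M ≤ 𝓝(fittingHallOf M) := le_nz_fittingHallOf M
  have hy' : m⁻¹ * y * m ∈ fittingHallOf M := by
    have := le_nz.1 hMF m⁻¹ (M.inv_mem hm) y hyF
    rwa [inv_inv] at this
  obtain ⟨f, hf, hfy⟩ := hy'
  have hf1 : f = 1 := by
    refine hfpf _ w.2 ?_ f hf ?_
    · intro h
      rw [h, Subgroup.coe_one, orderOf_one] at hwo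
      exact hs.one_lt.ne hwo
    · apply Subtype.ext
      rw [Subgroup.coe_mul, Subgroup.coe_mul]
      change (f : G) = _ at hfy
      rw [hfy]
      calc ((w : ↥M) : G) * (m⁻¹ * y * m)
          = m⁻¹ * ((m * ((w : ↥M) : G) * m⁻¹) * y) * m := by group
        _ = m⁻¹ * (y * (m * ((w : ↥M) : G) * m⁻¹)) * m := by rw [hcomm]
        _ = m⁻¹ * y * m * ((w : ↥M) : G) := by group
  apply hy1
  rw [hf1, map_one] at hfy
  calc y = m * (m⁻¹ * y * m) * m⁻¹ := by group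
    _ = 1 := by rw [← hfy, mul_one, mul_inv_cancel]

end

end CfsgLib.BGPi
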