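import Cfsg.Agent.EqBase
import Cfsg.Agent.LibBG20a

/-! The sets `A₁(M)`, `A(M)`, `A₀(M)`: fusion. -/

open Subgroup
open scoped Pointwise commutatorElement

namespace CfsgLib.BGPi

open Cfsg

universe u

section
variable {G : Type u} [Group G] [Finite G]

theorem hall_empty {K M : Subgroup G} {π : Set ℕ} (hK : IsPiHallOf π K M) (h : π = ∅) : K = ⊥ := by
  by_contra hne
  obtain ⟨p, hp, hd⟩ := exists_prime_dvd_of_ne_bot hne
  have := hall_isPi hK p hp hd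
  rw [h] at this
  exact this

variable (hG : IsMinSimpleOddOrder G)
include hG

theorem fit_eq_of_kappa {M : Subgroup G} (hM : IsCoatom M) (hκ : kappa M = ∅) :
    fittingHallOf M = sigmaCore M := by
  by_contra hne
  obtain ⟨K, hK⟩ := hall_exists (π := kappa M) (max_sol hG hM)
  obtain ⟨U, hKU⟩ := exists_dec hG hM (kap_cyc hG hM hK) hK
  exact (type34_fwd hG hM hKU (type34_bwd hG hM hKU hne)).1 (hall_empty hK hκ)

theorem typeI_kappa {M : Subgroup G} (hM : IsCoatom M) (h : IsOfTypeI M) : kappa M = ∅ :=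
  typeF_kappa hG hM h.1

theorem typeA_sub {M K U : Subgroup G} (hM : IsCoatom M) (hKU : IsSigmaDecomposition M K U)
    {a : G} (ha : a ∈ typeA M) : a ∈ sigmaA M U ∧ a ≠ 1 := by
  obtain ⟨-, -, -, hsup⟩ := dec_facts hG hM hKU
  rw [typeA] at ha
  split_ifs at ha with hI
  · have hκ := typeI_kappa hG hM hI
    have hKb := hall_empty hKU.hall hκ
    obtain ⟨haM, ha1, x, hx, hx1, hax⟩ := ha
    rw [fit_eq_of_kappa hG hM hκ] at hx
    refine ⟨⟨⟨haM, x, hx, hx1, hax⟩, ?_⟩, ha1⟩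
    rw [hKb, sup_bot_eq] at hsup
    rw [hsup]
    exact haM
  · obtain ⟨haM, ha1, x, hx, hx1, hax⟩ := ha
    rw [typeCore_eq hG hM] at hx
    refine ⟨⟨⟨comm_self_le M haM, x, hx, hx1, hax⟩, ?_⟩, ha1⟩
    by_cases hK1 : K = ⊥
    · rw [hK1, sup_bot_eq] at hsup
      rw [hsup]
      exact comm_self_le M haM
    · rw [← dec_der hG hM hKU hK1]
      exact haM

theorem typeA1_eq {M : Subgroup G} (hM : IsCoatom M) : typeA1 M = (sigmaCore M : Set G) \ {1} := by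
  rw [typeA1, typeCore_eq hG hM]

theorem typeA1_sub {M : Subgroup G} (hM : IsCoatom M) {a : G} (ha : a ∈ typeA1 M) :
    a ∈ typeA M := by
  rw [typeA1_eq hG hM] at ha
  obtain ⟨ha, ha1⟩ := ha
  have ha1' : a ≠ 1 := ha1
  rw [typeA]
  split_ifs with hI
  · refine ⟨sigmaCore_le hG hM ha, ha1', a, ?_, ha1', rfl⟩
    rw [fit_eq_of_kappa hG hM (typeI_kappa hG hM hI)]
    exact ha
  · refine ⟨sigma_le_der hG hM ha, ha1', a, ?_, ha1', rfl⟩
    rw [typeCore_eq hG hM]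
    exact ha

theorem typeP_star {M W₁ V W₂ : Subgroup G} (hM : IsCoatom M) (h : IsTypePWith M W₁ V W₂) :
    W₂ = sigmaCore M ⊓ 𝓒(W₁) := by
  apply le_antisymm
  · refine le_inf ((h.W₂_le.trans inf_le_left).trans (fittingHallOf_le_sigmaCore hG hM)) ?_
    intro b hb
    exact mem_cz.2 fun a ha => h.selfNormalizing.2.2.2.1 a ha b hb
  · obtain ⟨x, hx, hx1⟩ := W₁.bot_or_exists_ne_one.resolve_left h.W₁_ne
    rw [← h.W₂_centralizer x hx hx1, cz1_eq]
    exact inf_le_inf (sigma_le_der hG hM) (cz_anti (by rwa [zpowers_le]))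

/-- the description of `A₀(M)` -/
theorem typeA0_cases {M : Subgroup G} (hM : IsCoatom M) {a : G} (ha : a ∈ typeA0 M) :
    a ∈ typeA M ∨ ∃ W : Subgroup G, IsPiHallOf (kappa M) W M ∧ W ≠ ⊥ ∧ ∃ m ∈ M, ∃ w ∈ hatZ M W,
      a = m * w * m⁻¹ := by
  rcases ha with ha | ⟨-, W₁, V, W₂, h, m, hm, w, hw, hw1, hw2, rfl⟩
  · exact Or.inl ha
  · right
    refine ⟨W₁, typeP_hall hG hM h, h.W₁_ne, m, hm, w, ?_, rfl⟩
    have h1 := typeP_star hG hM h
    rw [hatZ, ← h1]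
    refine ⟨hw, ?_⟩
    rintro (h2 | h2)
    · exact hw1 h2
    · exact hw2 h2

theorem typeA0_mem {M : Subgroup G} (hM : IsCoatom M) {a : G} (ha : a ∈ typeA0 M) :
    a ∈ M ∧ a ≠ 1 := by
  obtain ⟨K, hK⟩ := hall_exists (π := kappa M) (max_sol hG hM)
  obtain ⟨U, hKU⟩ := exists_dec hG hM (kap_cyc hG hM hK) hK
  rcases typeA0_cases hG hM ha with h | ⟨W, hW, hW1, m, hm, w, hw, rfl⟩
  · obtain ⟨h1, h2⟩ := typeA_sub hG hM hKU h
    exact ⟨h1.1.1, h2⟩
  · have hwM : w ∈ M := by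
      have h1 : W ⊔ (sigmaCore M ⊓ 𝓒(W)) ≤ M :=
        sup_le (hall_le hW) (inf_le_left.trans (sigmaCore_le hG hM))
      exact h1 hw.1
    refine ⟨M.mul_mem (M.mul_mem hm hwM) (M.inv_mem hm), ?_⟩
    intro h
    rw [conj_eq_one_iff] at h
    exact hw.2 (Or.inl (h ▸ W.one_mem))

theorem sig_back {M : Subgroup G} (hM : IsCoatom M) {a g : G} (ha : a ∈ M)
    (h : g * a * g⁻¹ ∈ sigmaCore M) : a ∈ sigmaCore M := by
  have h1 : IsPi (sigma M) (zpowers a) := by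
    rw [isPi_zpowers]
    intro p hp hpd
    refine hall_isPi (sigma_hall hG hM) p hp ?_
    rw [← orderOf_conj' (g := g)] at hpd
    rw [← Nat.card_zpowers] at hpd
    exact hpd.trans (card_dvd_of_le (by rwa [zpowers_le]))
  exact le_hall_of_normal (sigma_hall hG hM) (le_nz_sigmaCore hG M) h1 (by rwa [zpowers_le])
    (mem_zpowers a)

/-- outside of `M_σ` -/
theorem A0_out {M : Subgroup G} (hM : IsCoatom M) {a g : G} (ha : a ∈ typeA0 M)
    (haσ : a ∉ sigmaCore M) (hga : g * a * g⁻¹ ∈ typeA0 M) : g ∈ M := by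
  obtain ⟨K, hK⟩ := hall_exists (π := kappa M) (max_sol hG hM)
  obtain ⟨U, hKU⟩ := exists_dec hG hM (kap_cyc hG hM hK) hK
  have haM := (typeA0_mem hG hM ha).1
  have hgaM := (typeA0_mem hG hM hga).1
  rcases typeA0_cases hG hM ha with h | ⟨W, hW, hW1, m, hm, w, hw, rfl⟩
  · rcases typeA0_cases hG hM hga with h' | ⟨W, hW, hW1, m, hm, w, hw, hmw⟩
    · refine A_fus hG hM hKU ⟨(typeA_sub hG hM hKU h).1, haσ⟩ ⟨(typeA_sub hG hM hKU h').1, ?_⟩
      exact fun h2 => haσ (sig_back hG hM haM h2)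
    · have h1 : (g⁻¹ * m) * w * (g⁻¹ * m)⁻¹ ∈ M := by
        have h2 : (g⁻¹ * m) * w * (g⁻¹ * m)⁻¹ = a := by
          calc (g⁻¹ * m) * w * (g⁻¹ * m)⁻¹ = g⁻¹ * (m * w * m⁻¹) * g := by group
            _ = g⁻¹ * (g * a * g⁻¹) * g := by rw [hmw]
            _ = a := by group
        rw [h2]; exact haM
      have h3 := (hat_fusion hG hM hW hW1 hw h1).1
      have h4 := M.mul_mem h3 (M.inv_mem hm)
      rw [mul_inv_cancel_right] at h4
      rwa [M.inv_mem_iff] at h4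
  · have h1 : (g * m) * w * (g * m)⁻¹ ∈ M := by
      have h2 : (g * m) * w * (g * m)⁻¹ = g * (m * w * m⁻¹) * g⁻¹ := by group
      rw [h2]; exact hgaM
    have h3 := (hat_fusion hG hM hW hW1 hw h1).1
    have h4 := M.mul_mem h3 (M.inv_mem hm)
    rwa [mul_inv_cancel_right] at h4

theorem sig_fus {M : Subgroup G} (hM : IsCoatom M) {a g : G} (ha : a ∈ sigmaCore M) (ha1 : a ≠ 1)
    (hga : g * a * g⁻¹ ∈ M) : ∃ m ∈ M, m * a * m⁻¹ = g * a * g⁻¹ := by
  have h1 : a ∈ M ^ᵍ g⁻¹ := by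
    rw [mem_cj, inv_inv]; exact hga
  obtain ⟨r, hr, hrM⟩ := bg14_4_trans hG hM ha ha1 h1
  refine ⟨g * r, ?_, ?_⟩
  · have h2 : M ^ᵍ (g * r) = M := by
      rw [cj_mul, hrM, ← cj_mul, mul_inv_cancel, cj_one]
    have h3 := mem_nz.2 h2
    rwa [max_nz_self hG hM] at h3
  · have h2 : r * a = a * r := Subgroup.mem_centralizer_singleton_iff.1 hr
    calc g * r * a * (g * r)⁻¹ = g * (r * a) * r⁻¹ * g⁻¹ := by group
      _ = g * (a * r) * r⁻¹ * g⁻¹ := by rw [h2]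
      _ = g * a * g⁻¹ := by group

theorem A0_cz {M : Subgroup G} (hM : IsCoatom M) {a : G} (ha : a ∈ typeA0 M)
    (haσ : a ∉ sigmaCore M) : Subgroup.centralizer ({a} : Set G) ≤ M := by
  intro c hc
  refine A0_out hG hM ha haσ (g := c) ?_
  have h2 : c * a = a * c := Subgroup.mem_centralizer_singleton_iff.1 hc
  rw [h2, mul_inv_cancel_right]
  exact ha

theorem A0_fus {M : Subgroup G} (hM : IsCoatom M) {a g : G} (ha : a ∈ typeA0 M)
    (hga : g * a * g⁻¹ ∈ typeA0 M) : ∃ m ∈ M, m * a * m⁻¹ = g * a * g⁻¹ := by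
  by_cases haσ : a ∈ sigmaCore M
  · exact sig_fus hG hM haσ (typeA0_mem hG hM ha).2 (typeA0_mem hG hM hga).1
  · exact ⟨g, A0_out hG hM ha haσ hga, rfl⟩

end

end CfsgLib.BGPi
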