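import Cfsg.Agent.EqBase
import Cfsg.Agent.LibBG20b
import Cfsg.Agent.S1381

/-! The sets `A₁(M)`, `A(M)`, `A₀(M)`: the Dade hypothesis. -/

open Subgroup
open scoped Pointwise commutatorElement

namespace CfsgLib.BGPi

open Cfsg

universe u

section
variable {G : Type u} [Group G] [Finite G]
variable (hG : IsMinSimpleOddOrder G)
include hG

theorem set_nz {M : Subgroup G} (hM : IsCoatom M) {A : Set G} (hAM : A ⊆ (M : Set G))
    (hinv : ∀ m ∈ M, ∀ a ∈ A, m * a * m⁻¹ ∈ A) (hne : ∃ a ∈ A, a ≠ 1) :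
    Subgroup.normalizer A = M := by
  have h1 : M ≤ Subgroup.normalizer A := by
    intro m hm
    rw [Subgroup.mem_set_normalizer_iff]
    intro x
    refine ⟨fun hx => hinv m hm x hx, fun hx => ?_⟩
    have h2 := hinv m⁻¹ (M.inv_mem hm) _ hx
    have h3 : m⁻¹ * (m * x * m⁻¹) * m⁻¹⁻¹ = x := by group
    rwa [h3] at h2
  have hC : Subgroup.closure A ≤ M := (Subgroup.closure_le M).2 hAM
  have h2 : Subgroup.normalizer A ≤ 𝓝(Subgroup.closure A) := by
    intro g hg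
    rw [Subgroup.mem_set_normalizer_iff] at hg
    refine mem_nz.2 ?_
    have h3 : (fun x => g * x * g⁻¹) '' A = A := by
      ext x
      constructor
      · rintro ⟨y, hy, rfl⟩
        exact (hg y).1 hy
      · intro hx
        refine ⟨g⁻¹ * x * g, ?_, by group⟩
        rw [hg]
        have : g * (g⁻¹ * x * g) * g⁻¹ = x := by group
        rwa [this]
    rw [MonoidHom.map_closure]
    congr 1
  have hC1 : Subgroup.closure A ≠ ⊥ := by
    obtain ⟨a, ha, ha1⟩ := hne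
    intro h
    apply ha1
    rw [← Subgroup.mem_bot, ← h]
    exact Subgroup.subset_closure ha
  refine le_antisymm ?_ h1
  exact h2.trans (max_nz_eq hG hM hC1 hC (h1.trans h2)).le

theorem supp_cop {M : Subgroup G} (hM : IsCoatom M) {a b : G} (ha : a ∈ typeA0 M)
    (hb : b ∈ typeA0 M) :
    (Nat.card (supportR M a)).Coprime (Nat.card ↥(M ⊓ Subgroup.centralizer ({b} : Set G))) := by
  have ha1 := (typeA0_mem hG hM ha).2
  by_cases haM : Subgroup.centralizer ({a} : Set G) ≤ M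
  · rw [supportR_of_le hG haM, Subgroup.card_bot]
    exact Nat.coprime_one_left _
  have haσ : a ∈ sigmaCore M := by
    by_contra h
    exact haM (A0_cz hG hM ha h)
  obtain ⟨L, hL, haL⟩ := exists_max hG (ms_cz1_ne_top hG ha1)
  obtain ⟨-, hnc, -⟩ := bg14_4 hG hM haσ ha1 haM hL haL
  rw [supportR_of_not hG hM haσ ha1 haM hL haL]
  by_contra hcop
  obtain ⟨p, hp, hp1, hp2⟩ := Nat.Prime.not_coprime_iff_dvd.1 hcop
  have hpL : p ∈ sigma L := hall_isPi (sigma_hall hG hL) p hp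
    (hp1.trans (card_dvd_of_le inf_le_left))
  have hpM : p ∣ Nat.card M := hp2.trans (card_dvd_of_le inf_le_left)
  obtain ⟨hκ, hτ⟩ := s1436a hG hM haσ ha1 haM hL haL ⟨p, hpL, hpM⟩
  have hτ' : ∀ t, t ∉ tau2 M := fun t ht => by rw [hτ] at ht; exact ht
  obtain ⟨K, hK⟩ := hall_exists (π := kappa M) (max_sol hG hM)
  obtain ⟨U, hKU⟩ := exists_dec hG hM (kap_cyc hG hM hK) hK
  have hbσ : b ∈ sigmaCore M := by
    rcases typeA0_cases hG hM hb with h | ⟨W, hW, hW1, -⟩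
    · obtain ⟨⟨⟨hbM, y, hy, hy1, hby⟩, -⟩, -⟩ := typeA_sub hG hM hKU h
      exact frob_cz hG hM hκ hτ' hbM hy hy1 hby
    · exact absurd (hall_empty hW hκ) hW1
  have hle : M ⊓ Subgroup.centralizer ({b} : Set G) ≤ sigmaCore M := by
    rintro z ⟨hz, hzb⟩
    exact frob_cz hG hM hκ hτ' hz hbσ (typeA0_mem hG hM hb).2
      (Subgroup.mem_centralizer_singleton_iff.1 hzb)
  have hpσ : p ∈ sigma M := hall_isPi (sigma_hall hG hM) p hp (hp2.trans (card_dvd_of_le hle))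
  exact sigma_part hG hM hL hnc hpσ hpL

theorem dade_of {M : Subgroup G} (hM : IsCoatom M) {A : Set G} (hA : A ⊆ typeA0 M)
    (hinv : ∀ m ∈ M, ∀ a ∈ A, m * a * m⁻¹ ∈ A) : DadeHypothesis A M (supportR M) := by
  have key : ∀ a ∈ A, supportR M a = ⊥ ∧ Subgroup.centralizer ({a} : Set G) ≤ M ∨
      ∃ L : Subgroup G, IsCoatom L ∧ Subgroup.centralizer ({a} : Set G) ≤ L ∧
        supportR M a = sigmaCore L ⊓ Subgroup.centralizer ({a} : Set G) ∧ M ⊓ sigmaCore L = ⊥ ∧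
        Subgroup.centralizer ({a} : Set G) ≤
          (sigmaCore L ⊓ Subgroup.centralizer ({a} : Set G)) ⊔
            (M ⊓ Subgroup.centralizer ({a} : Set G)) := by
    intro a ha
    have ha1 := (typeA0_mem hG hM (hA ha)).2
    by_cases haM : Subgroup.centralizer ({a} : Set G) ≤ M
    · exact Or.inl ⟨supportR_of_le hG haM, haM⟩
    right
    have haσ : a ∈ sigmaCore M := by
      by_contra h
      exact haM (A0_cz hG hM (hA ha) h)
    obtain ⟨L, hL, haL⟩ := exists_max hG (ms_cz1_ne_top hG ha1)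
    obtain ⟨-, -, -, -, h5, -, -, -, h9⟩ := bg14_4 hG hM haσ ha1 haM hL haL
    exact ⟨L, hL, haL, supportR_of_not hG hM haσ ha1 haM hL haL, h5, h9⟩
  refine ⟨?_, ?_, hinv, ?_, ?_, ?_, ?_, ?_, ?_⟩
  · intro h
    exact (typeA0_mem hG hM (hA h)).2 rfl
  · intro a ha
    exact (typeA0_mem hG hM (hA ha)).1
  · intro a ha g hga
    exact A0_fus hG hM (hA ha) (hA hga)
  · intro a ha
    rcases key a ha with ⟨h1, -⟩ | ⟨L, -, -, h1, -⟩
    · rw [h1]; exact bot_le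
    · rw [h1]; exact inf_le_right
  · intro a ha c hc u hu
    rcases key a ha with ⟨h1, -⟩ | ⟨L, -, hCL, h1, -⟩
    · rw [h1, Subgroup.mem_bot] at hu ⊢
      rw [hu, mul_one, mul_inv_cancel]
    · rw [h1] at hu ⊢
      refine ⟨?_, (Subgroup.centralizer _).mul_mem ((Subgroup.centralizer _).mul_mem hc hu.2)
        ((Subgroup.centralizer _).inv_mem hc)⟩
      exact le_nz.1 (le_nz_sigmaCore hG L) c (hCL hc) u hu.1
  · intro a ha
    rcases key a ha with ⟨h1, -⟩ | ⟨L, -, -, h1, h2, -⟩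
    · rw [h1, bot_inf_eq]
    · rw [h1, eq_bot_iff, ← h2]
      exact le_inf (inf_le_right.trans inf_le_left) (inf_le_left.trans inf_le_left)
  · intro a ha
    rcases key a ha with ⟨h1, h2⟩ | ⟨L, -, -, h1, -, h2⟩
    · rw [h1, bot_sup_eq]; exact inf_eq_right.2 h2
    · rw [h1]
      exact le_antisymm (sup_le inf_le_right inf_le_right) h2
  · intro a ha b hb
    exact supp_cop hG hM (hA ha) (hA hb)

theorem typeA1_inv {M : Subgroup G} (hM : IsCoatom M) :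
    ∀ m ∈ M, ∀ a ∈ typeA1 M, m * a * m⁻¹ ∈ typeA1 M := by
  intro m hm a ha
  rw [typeA1_eq hG hM] at ha ⊢
  refine ⟨le_nz.1 (le_nz_sigmaCore hG M) m hm a ha.1, ?_⟩
  intro h
  exact ha.2 (conj_eq_one_iff.1 h)

theorem typeA_inv {M : Subgroup G} (hM : IsCoatom M) :
    ∀ m ∈ M, ∀ a ∈ typeA M, m * a * m⁻¹ ∈ typeA M := by
  intro m hm a ha
  have aux : ∀ x : G, a * x = x * a → (m * a * m⁻¹) * (m * x * m⁻¹) =
      (m * x * m⁻¹) * (m * a * m⁻¹) := by
    intro x h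
    calc (m * a * m⁻¹) * (m * x * m⁻¹) = m * (a * x) * m⁻¹ := by group
      _ = m * (x * a) * m⁻¹ := by rw [h]
      _ = _ := by group
  rw [typeA] at ha ⊢
  split_ifs at ha ⊢ with hI
  · obtain ⟨haM, ha1, x, hx, hx1, hax⟩ := ha
    exact ⟨M.mul_mem (M.mul_mem hm haM) (M.inv_mem hm), fun h => ha1 (conj_eq_one_iff.1 h),
      m * x * m⁻¹, le_nz.1 (le_nz_fittingHallOf M) m hm x hx,
      fun h => hx1 (conj_eq_one_iff.1 h), aux x hax⟩
  · obtain ⟨haM, ha1, x, hx, hx1, hax⟩ := ha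
    rw [typeCore_eq hG hM] at hx ⊢
    have hMd : M ≤ 𝓝(⁅M, M⁆) := (le_inf le_normalizer le_normalizer).trans (nz_comm_le M M)
    exact ⟨le_nz.1 hMd m hm a haM, fun h => ha1 (conj_eq_one_iff.1 h),
      m * x * m⁻¹, le_nz.1 (le_nz_sigmaCore hG M) m hm x hx,
      fun h => hx1 (conj_eq_one_iff.1 h), aux x hax⟩

theorem typeA0_inv {M : Subgroup G} (hM : IsCoatom M) :
    ∀ m ∈ M, ∀ a ∈ typeA0 M, m * a * m⁻¹ ∈ typeA0 M := by
  rintro m hm a (ha | ⟨hI, W₁, V, W₂, h, n, hn, w, hw, hw1, hw2, rfl⟩)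
  · exact Or.inl (typeA_inv hG hM m hm a ha)
  · refine Or.inr ⟨hI, W₁, V, W₂, h, m * n, M.mul_mem hm hn, w, hw, hw1, hw2, ?_⟩
    group

theorem typeSet_facts {M : Subgroup G} (hM : IsCoatom M) {A : Set G}
    (hA : A = typeA1 M ∨ A = typeA M ∨ A = typeA0 M) :
    Subgroup.normalizer A = M ∧ DadeHypothesis A M (supportR M) := by
  have h1 : A ⊆ typeA0 M ∧ typeA1 M ⊆ A ∧ ∀ m ∈ M, ∀ a ∈ A, m * a * m⁻¹ ∈ A := by
    rcases hA with rfl | rfl | rfl
    · exact ⟨fun a ha => Or.inl (typeA1_sub hG hM ha), fun a ha => ha, typeA1_inv hG hM⟩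
    · exact ⟨fun a ha => Or.inl ha, fun a ha => typeA1_sub hG hM ha, typeA_inv hG hM⟩
    · exact ⟨fun a ha => ha, fun a ha => Or.inl (typeA1_sub hG hM ha), typeA0_inv hG hM⟩
  obtain ⟨h2, h3, h4⟩ := h1
  refine ⟨set_nz hG hM (fun a ha => (typeA0_mem hG hM (h2 ha)).1) h4 ?_, dade_of hG hM h2 h4⟩
  obtain ⟨x, hx, hx1⟩ :=
    (sigmaCore M).bot_or_exists_ne_one.resolve_left (sigmaCore_ne_bot hG hM)
  refine ⟨x, h3 ?_, hx1⟩
  rw [typeA1_eq hG hM]
  exact ⟨hx, hx1⟩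

/-- type II -/
theorem typeII_ti {M : Subgroup G} (hM : IsCoatom M) (hII : IsOfTypeII M) {A : Set G}
    (hA : A = typeA1 M ∨ A = typeA M ∨ A = typeA0 M) :
    IsTISubset A ∧ Subgroup.normalizer A = M := by
  obtain ⟨hnz, hD⟩ := typeSet_facts hG hM hA
  refine ⟨?_, hnz⟩
  intro g hg x hx hgx
  exfalso
  apply hg
  rw [hnz]
  obtain ⟨m, hm, hmx⟩ := hD.fusion x hx g hgx
  have hA0 : x ∈ typeA0 M := by
    rcases hA with rfl | rfl | rfl
    · exact Or.inl (typeA1_sub hG hM hx)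
    · exact Or.inl hx
    · exact hx
  have hCM : Subgroup.centralizer ({x} : Set G) ≤ M := by
    by_cases hxσ : x ∈ sigmaCore M
    · obtain ⟨K, hK⟩ := hall_exists (π := kappa M) (max_sol hG hM)
      obtain ⟨U, hKU⟩ := exists_dec hG hM (kap_cyc hG hM hK) hK
      obtain ⟨hK1, hU1⟩ := (Cfsg.Agent.S1381.result hG M hM K U hKU).1 hII
      obtain ⟨h1, h2⟩ := p2_fit_ti hG hM hKU hK1 hU1
      exact ti_cz h1 (max_nz_fitting hG hM).le (h2 hxσ) (typeA0_mem hG hM hA0).2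
    · exact A0_cz hG hM hA0 hxσ
  have h1 : m⁻¹ * g ∈ Subgroup.centralizer ({x} : Set G) := by
    rw [Subgroup.mem_centralizer_singleton_iff]
    calc m⁻¹ * g * x = m⁻¹ * (g * x * g⁻¹) * g := by group
      _ = m⁻¹ * (m * x * m⁻¹) * g := by rw [hmx]
      _ = x * (m⁻¹ * g) := by group
  have h2 := M.mul_mem hm (hCM h1)
  rwa [mul_inv_cancel_left] at h2

end

end CfsgLib.BGPi
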