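import Cfsg.Agent.EqBase
import Cfsg.Agent.LibBG18c

/-! A Vandermonde argument for Frobenius groups acting on abelian groups. -/

open Subgroup
open scoped Pointwise

namespace CfsgLib.BGPi

section vdm

variable {R M : Type*} [CommRing R] [AddCommGroup M] [Module R M] {m : ℕ}

theorem mat_ann (A : Matrix (Fin m) (Fin m) R) (d : Fin m → M)
    (h : ∀ i, ∑ j, A i j • d j = 0) (k : Fin m) : A.det • d k = 0 := by
  have h1 : A.det • d k = ∑ j, (A.adjugate * A) k j • d j := by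
    rw [Matrix.adjugate_mul]
    rw [Finset.sum_eq_single k]
    · simp
    · intro b _ hb
      simp [Matrix.one_apply_ne (Ne.symm hb)]
    · intro h; exact absurd (Finset.mem_univ _) h
  rw [h1]
  have h2 : ∀ j, (A.adjugate * A) k j • d j = ∑ i, A.adjugate k i • (A i j • d j) := by
    intro j
    rw [Matrix.mul_apply, Finset.sum_smul]
    exact Finset.sum_congr rfl fun i _ => mul_smul _ _ _
  rw [Finset.sum_congr rfl fun j _ => h2 j, Finset.sum_comm]
  refine Finset.sum_eq_zero fun i _ => ?_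
  rw [← Finset.smul_sum, h i, smul_zero]

theorem vdm_det (z : Fin m → R) (P : Submodule R M)
    (h : ∀ i j, i ≠ j → ∀ d ∈ P, (z j - z i) • d = 0 → d = 0) :
    ∀ d ∈ P, (Matrix.vandermonde z).det • d = 0 → d = 0 := by
  rw [Matrix.det_vandermonde]
  refine Finset.prod_induction _ (fun r : R => ∀ d ∈ P, r • d = 0 → d = 0) ?_ ?_ ?_
  · intro a b ha hb d hd h0
    rw [mul_smul] at h0
    exact hb d hd (ha _ (P.smul_mem _ hd) h0)
  · intro d _ h0
    rwa [one_smul] at h0
  · intro i _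
    refine Finset.prod_induction _ (fun r : R => ∀ d ∈ P, r • d = 0 → d = 0) ?_ ?_ ?_
    · intro a b ha hb d hd h0
      rw [mul_smul] at h0
      exact hb d hd (ha _ (P.smul_mem _ hd) h0)
    · intro d _ h0
      rwa [one_smul] at h0
    · intro j hj
      exact h i j (ne_of_lt (Finset.mem_Ioi.1 hj))

theorem vdm1 (z : Fin m → R) (P : Submodule R M)
    (h : ∀ i j, i ≠ j → ∀ d ∈ P, (z j - z i) • d = 0 → d = 0) (d : Fin m → M)
    (hd : ∀ j, d j ∈ P) (h0 : ∀ i, ∑ j : Fin m, (z i) ^ (j : ℕ) • d j = 0) : ∀ j, d j = 0 :=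
  fun j => vdm_det z P h _ (hd j) (mat_ann _ d h0 j)

theorem vdm2 (z : Fin m → R) (P : Submodule R M)
    (h : ∀ i j, i ≠ j → ∀ d ∈ P, (z j - z i) • d = 0 → d = 0) (d : Fin m → M)
    (hd : ∀ j, d j ∈ P) (h0 : ∀ j : Fin m, ∑ i, (z i) ^ (j : ℕ) • d i = 0) : ∀ j, d j = 0 := by
  intro j
  refine vdm_det z P h _ (hd j) ?_
  rw [← Matrix.det_transpose]
  exact mat_ann _ d h0 j

end vdm

/-- operator form -/
theorem vdm_act {Γ V : Type*} [Group Γ] [AddCommGroup V] [DistribMulAction Γ V]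
    (A : Subgroup Γ) (hcomm : ∀ a ∈ A, ∀ b ∈ A, ∀ v : V, a • b • v = b • a • v) (W : Subgroup Γ)
    (hWA : W ≤ A) {m : ℕ} (z : Fin m → Γ) (hz : ∀ i, z i ∈ A)
    (h : ∀ i j, i ≠ j → ∀ d : V, (∀ w ∈ W, w • d = d) → z j • d = z i • d → d = 0)
    (d : Fin m → V) (hd : ∀ j, ∀ w ∈ W, w • d j = d j) :
    ((∀ i, ∑ j : Fin m, (z i) ^ (j : ℕ) • d j = 0) → ∀ j, d j = 0) ∧
    ((∀ j : Fin m, ∑ i, (z i) ^ (j : ℕ) • d i = 0) → ∀ j, d j = 0) := by
  set S : Set (AddMonoid.End V) := (DistribMulAction.toAddMonoidEnd Γ V) '' (A : Set Γ) with hS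
  have hcS : ∀ x ∈ S, ∀ y ∈ S, x * y = y * x := by
    rintro _ ⟨a, ha, rfl⟩ _ ⟨b, hb, rfl⟩
    ext v
    exact hcomm a ha b hb v
  letI : CommRing (Subring.closure S) := Subring.closureCommRingOfComm hcS
  let ι : ∀ a ∈ A, Subring.closure S := fun a ha => ⟨DistribMulAction.toAddMonoidEnd Γ V a,
    Subring.subset_closure ⟨a, ha, rfl⟩⟩
  have hι : ∀ a (ha : a ∈ A) (v : V), ι a ha • v = a • v := fun a ha v => rfl
  let P : Submodule (Subring.closure S) V :=
    { carrier := {v | ∀ w ∈ W, w • v = v}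
      add_mem' := fun {a b} ha hb w hw => by rw [smul_add, ha w hw, hb w hw]
      zero_mem' := fun w _ => smul_zero w
      smul_mem' := fun r v hv w hw => by
        show w • r • v = r • v
        rw [← hι w (hWA hw), ← mul_smul, mul_comm, mul_smul, hι w (hWA hw), hv w hw] }
  have hpow : ∀ (i : Fin m) (n : ℕ) (v : V), (ι (z i) (hz i)) ^ n • v = (z i) ^ n • v := by
    intro i n
    induction n with
    | zero => intro v; rw [pow_zero, pow_zero, one_smul, one_smul]
    | succ n ih => intro v; rw [pow_succ, pow_succ, mul_smul, mul_smul, hι _ (hz i), ih]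
  have hP : ∀ i j, i ≠ j → ∀ d ∈ P, (ι (z j) (hz j) - ι (z i) (hz i)) • d = 0 → d = 0 := by
    intro i j hij d hd h0
    rw [sub_smul, sub_eq_zero] at h0
    exact h i j hij d hd h0
  constructor
  · intro h0
    refine vdm1 (fun i => ι (z i) (hz i)) P hP d hd fun i => ?_
    rw [← h0 i]
    exact Finset.sum_congr rfl fun j _ => hpow i j _
  · intro h0
    refine vdm2 (fun i => ι (z i) (hz i)) P hP d hd fun j => ?_
    rw [← h0 j]
    exact Finset.sum_congr rfl fun i _ => hpow i j _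

end CfsgLib.BGPi
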