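import Cfsg.Agent.EqBase
import Cfsg.Agent.LibBG21a

open Subgroup
open scoped Pointwise

namespace CfsgLib.BGPi

section
variable {Γ V : Type*} [Group Γ] [Finite Γ] [AddCommGroup V] [Finite V] [DistribMulAction Γ V]

theorem cop_nsmul {n : ℕ} (h : n.Coprime (Nat.card V)) {v : V} (hv : n • v = 0) : v = 0 := by
  have h1 : addOrderOf v ∣ n := addOrderOf_dvd_of_nsmul_eq_zero hv
  have h2 : addOrderOf v ∣ Nat.card V := addOrderOf_dvd_natCard v
  exact AddMonoid.addOrderOf_eq_one_iff.1 (Nat.eq_one_of_dvd_coprimes h h1 h2)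

/-- displacement of a fixed-point-free element fills up an invariant subgroup -/
theorem fpf_fill {W : Subgroup Γ} {e : Γ} (hW : ∀ w ∈ W, e * w * e⁻¹ ∈ W)
    (hf : ∀ w ∈ W, e * w = w * e → w = 1) {A : Subgroup Γ} (hWA : W ≤ A)
    (hfA : ∀ a ∈ A, e * a = a * e → a = 1) {a : Γ} (ha : a ∈ A)
    (h : e * a * e⁻¹ * a⁻¹ ∈ W) : a ∈ W := by
  have key : ∀ x ∈ A, ∀ y ∈ A, e * x * e⁻¹ * x⁻¹ = e * y * e⁻¹ * y⁻¹ → x = y := by
    intro x hx y hy hxy
    have h1 : x * e⁻¹ * x⁻¹ = y * e⁻¹ * y⁻¹ := by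
      have := congrArg (fun t => e⁻¹ * t) hxy
      simpa [mul_assoc] using this
    have h2 : e * (y⁻¹ * x) = (y⁻¹ * x) * e := by
      have h3 : x * e * x⁻¹ = y * e * y⁻¹ := by
        have := congrArg (fun t => t⁻¹) h1
        simpa [mul_assoc] using this
      calc e * (y⁻¹ * x) = y⁻¹ * (y * e * y⁻¹) * x := by group
        _ = y⁻¹ * (x * e * x⁻¹) * x := by rw [h3]
        _ = (y⁻¹ * x) * e := by group
    have h4 := hfA _ (A.mul_mem (A.inv_mem hy) hx) h2
    exact (inv_mul_eq_one.1 h4).symm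
  let φ : W → W := fun w => ⟨e * w * e⁻¹ * (w : Γ)⁻¹, W.mul_mem (hW w w.2) (W.inv_mem w.2)⟩
  have hφ : Function.Injective φ := by
    intro x y hxy
    exact Subtype.ext (key x (hWA x.2) y (hWA y.2) (congrArg Subtype.val hxy))
  obtain ⟨w, hw⟩ := (Finite.injective_iff_surjective.1 hφ) ⟨_, h⟩
  have h5 := key w (hWA w.2) a ha (congrArg Subtype.val hw)
  rw [← h5]; exact w.2

theorem vdm_core (A E : Subgroup Γ) (hAE : ∀ e ∈ E, ∀ a ∈ A, e * a * e⁻¹ ∈ A)
    (hcomm : ∀ a ∈ A, ∀ b ∈ A, ∀ v : V, a • b • v = b • a • v)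
    (hfpf : ∀ e ∈ E, e ≠ 1 → ∀ a ∈ A, e * a = a * e → a = 1)
    (hcop : (Nat.card A).Coprime (Nat.card V))
    (hirr : ∀ S : AddSubgroup V, (∀ a ∈ A, ∀ v ∈ S, a • v ∈ S) →
      (∀ e ∈ E, ∀ v ∈ S, e • v ∈ S) → S = ⊥ ∨ S = ⊤)
    (hA0 : ∀ v : V, (∀ a ∈ A, a • v = v) → v = 0) (hne : ∃ v : V, v ≠ 0) :
    Nat.card V = Nat.card {v : V // ∀ e ∈ E, e • v = v} ^ Nat.card E := by
  classical
  -- a maximal subgroup with a nonzero fixed point
  obtain ⟨W, hW⟩ := Set.Finite.exists_maximal (Set.toFinite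
    {W : Subgroup Γ | W ≤ A ∧ ∃ v : V, v ≠ 0 ∧ ∀ w ∈ W, w • v = v}) (by
      obtain ⟨v, hv⟩ := hne
      exact ⟨⊥, bot_le, v, hv, fun w hw => by rw [mem_bot.1 hw, one_smul]⟩)
  obtain ⟨hWA, d₀, hd₀, hd₀W⟩ := hW.prop
  have hmax : ∀ x ∈ A, x ∉ W → ∀ v : V, (∀ w ∈ W, w • v = v) → x • v = v → v = 0 := by
    intro x hx hxW v hv hxv
    by_contra hv0
    have h1 : W ⊔ zpowers x ≤ MulAction.stabilizer Γ v :=
      sup_le (fun w hw => hv w hw) (zpowers_le.2 hxv)
    have h2 := hW.le_of_ge (y := W ⊔ zpowers x)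
      ⟨sup_le hWA (zpowers_le.2 hx), v, hv0, fun w hw => h1 hw⟩ le_sup_left
    exact hxW (h2 (le_sup_right (a := W) (mem_zpowers x)))
  obtain ⟨z, hzA, hzW⟩ : ∃ z ∈ A, z ∉ W := by
    by_contra hcon
    push Not at hcon
    exact hd₀ (hA0 d₀ fun a ha => hd₀W a (hcon a ha))
  haveI := Fintype.ofFinite W
  haveI := Fintype.ofFinite E
  set T : V →+ V := ∑ w : W, DistribMulAction.toAddMonoidHom V (w : Γ) with hT
  have hTv : ∀ v, T v = ∑ w : W, (w : Γ) • v := by
    intro v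
    rw [hT, AddMonoidHom.finset_sum_apply]
    rfl
  have hTD : ∀ v, ∀ w ∈ W, w • T v = T v := by
    intro v w hw
    rw [hTv, Finset.smul_sum]
    exact Fintype.sum_equiv (Equiv.mulLeft (⟨w, hw⟩ : W)) _ _ (fun x => by
      rw [← mul_smul]; rfl)
  have hTw : ∀ v : V, (∀ w ∈ W, w • v = v) → T v = Nat.card W • v := by
    intro v hv
    rw [hTv, Finset.sum_congr rfl (fun (w : W) _ => hv w w.2), Finset.sum_const, Finset.card_univ,
      Nat.card_eq_fintype_card]
  have hTA : ∀ a ∈ A, ∀ v, T (a • v) = a • T v := by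
    intro a ha v
    rw [hTv, hTv, Finset.smul_sum]
    exact Finset.sum_congr rfl fun w _ => hcomm _ (hWA w.2) _ ha _
  have hTK : ∀ k ∈ 𝓝(W), ∀ v, T (k • v) = k • T v := by
    intro k hk v
    rw [hTv, hTv, Finset.smul_sum]
    symm
    refine Fintype.sum_equiv (Subgroup.normalizerMonoidHom W ⟨k, hk⟩).toEquiv _ _ (fun w => ?_)
    have h1 : (((Subgroup.normalizerMonoidHom W ⟨k, hk⟩).toEquiv w : W) : Γ) =
      k * w * k⁻¹ := rfl
    rw [h1, ← mul_smul, ← mul_smul]
    congr 1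
    group
  have hcW : ∀ v : V, Nat.card W • v = 0 → v = 0 := fun v hv =>
    cop_nsmul (hcop.coprime_dvd_left (card_dvd_of_le hWA)) hv
  have hDA : ∀ a ∈ A, ∀ v : V, (∀ w ∈ W, w • v = v) → ∀ w ∈ W, w • a • v = a • v := by
    intro a ha v hv w hw
    rw [hcomm _ (hWA hw) _ ha, hv w hw]
  -- the killing property
  have hkill : ∀ e ∈ E, e ∉ 𝓝(W) → ∀ v : V, (∀ w ∈ W, w • v = v) → T (e • v) = 0 := by
    intro e he heW v hv
    obtain ⟨w, hw, hew⟩ : ∃ w ∈ W, e * w * e⁻¹ ∉ W := by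
      by_contra hcon
      push Not at hcon
      exact heW (Subgroup.mem_normalizer_fintype (S := (W : Set Γ)) hcon)
    refine hmax _ (hAE e he w (hWA hw)) hew _ (hTD _) ?_
    rw [← hTA _ (hAE e he w (hWA hw)), ← mul_smul]
    have h1 : e * w * e⁻¹ * e = e * w := by group
    rw [h1, mul_smul, hv w hw]
  -- the group `K`
  set K : Subgroup Γ := E ⊓ 𝓝(W) with hK
  set Q := E ⧸ (K.subgroupOf E) with hQ
  set r : Q → Γ := fun c => ((Quotient.out c : E) : Γ) with hr
  have hrE : ∀ c, r c ∈ E := fun c => (Quotient.out c : E).2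
  have hr1 : ∀ e ∈ E, ∃ c, ∃ k ∈ K, e = r c * k := by
    intro e he
    refine ⟨QuotientGroup.mk (⟨e, he⟩ : E), (r (QuotientGroup.mk (⟨e, he⟩ : E)))⁻¹ * e, ?_, by group⟩
    have h1 : (QuotientGroup.mk (Quotient.out (QuotientGroup.mk (⟨e, he⟩ : E) : Q)) : Q) =
      QuotientGroup.mk (⟨e, he⟩ : E) := Quotient.out_eq' _
    have h2 := QuotientGroup.eq.1 h1
    exact h2
  have hr2 : ∀ c c', c ≠ c' → (r c')⁻¹ * r c ∉ K := by
    intro c c' hcc h
    apply hcc
    have h1 : (QuotientGroup.mk (Quotient.out c' : E) : Q) = QuotientGroup.mk (Quotient.out c) :=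
      QuotientGroup.eq.2 h
    rw [QuotientGroup.out_eq', QuotientGroup.out_eq'] at h1
    exact h1.symm
  have hr3 : ∀ c c', c ≠ c' → (r c')⁻¹ * r c ∉ 𝓝(W) := fun c c' h h' =>
    hr2 c c' h ⟨E.mul_mem (E.inv_mem (hrE _)) (hrE _), h'⟩
  haveI := Fintype.ofFinite Q
  set m := Nat.card K with hm
  let κ : Fin m ≃ K := (Finite.equivFin K).symm
  have hcard : Nat.card (Q × Fin m) = Nat.card E := by
    rw [Nat.card_prod, Nat.card_fin, Subgroup.card_eq_card_quotient_mul_card_subgroup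
      (K.subgroupOf E)]
    congr 1
    exact (Nat.card_congr (Subgroup.subgroupOfEquivOfLe (inf_le_left : K ≤ E)).toEquiv).symm
  set u : Fin m → Γ := fun i => (κ i : Γ) * z * (κ i : Γ)⁻¹ with hu
  have huA : ∀ i, u i ∈ A := fun i => hAE _ (κ i).2.1 z hzA
  have hupow : ∀ i (n : ℕ) (v : V), (u i) ^ n • (κ i : Γ) • v = (κ i : Γ) • z ^ n • v := by
    intro i n v
    rw [hu]
    simp only
    rw [conj_pow, ← mul_smul, ← mul_smul]
    congr 1
    group
  have hudiff : ∀ i j, i ≠ j → ∀ d : V, (∀ w ∈ W, w • d = d) → u j • d = u i • d → d = 0 := by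
    intro i j hij d hd hdd
    have h1 : ((u i)⁻¹ * u j) • d = d := by rw [mul_smul, hdd, inv_smul_smul]
    refine hmax _ (A.mul_mem (A.inv_mem (huA i)) (huA j)) ?_ d hd h1
    intro h2
    have hkK : ((κ j : Γ)⁻¹ * κ i) ∈ K := K.mul_mem (K.inv_mem (κ j).2) (κ i).2
    have h3 : ((κ j : Γ)⁻¹ * κ i) * z⁻¹ * ((κ j : Γ)⁻¹ * κ i)⁻¹ * (z⁻¹)⁻¹ ∈ W := by
      have h4 := (Subgroup.mem_normalizer_iff.1 (inv_mem (κ j).2.2) _).1 h2
      have h5 : (κ j : Γ)⁻¹ * ((u i)⁻¹ * u j) * ((κ j : Γ)⁻¹)⁻¹ =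
        ((κ j : Γ)⁻¹ * κ i) * z⁻¹ * ((κ j : Γ)⁻¹ * κ i)⁻¹ * (z⁻¹)⁻¹ := by
        simp only [hu]; group
      rwa [h5] at h4
    have h6 : z⁻¹ ∈ W := by
      have hne1 : ((κ j : Γ)⁻¹ * κ i) ≠ 1 := by
        intro h
        apply hij
        have h7 : (κ j : Γ) = κ i := inv_mul_eq_one.1 h
        exact (κ.injective (Subtype.ext h7)).symm
      refine fpf_fill (A := A) (e := (κ j : Γ)⁻¹ * κ i)
        (fun w hw => (Subgroup.mem_normalizer_iff.1 hkK.2 _).1 hw)
        (fun w hw h => hfpf _ hkK.1 hne1 w (hWA hw) h) hWA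
        (fun a ha h => hfpf _ hkK.1 hne1 a ha h) (A.inv_mem hzA) h3
    exact hzW (by simpa using W.inv_mem h6)
  -- the common kernel
  have hS0 : ∀ v : V, (∀ e ∈ E, T (e⁻¹ • v) = 0) → v = 0 := by
    let S : AddSubgroup V :=
      { carrier := {v | ∀ e ∈ E, T (e⁻¹ • v) = 0}
        add_mem' := fun {a b} ha hb e he => by rw [smul_add, map_add, ha e he, hb e he, add_zero]
        zero_mem' := fun e _ => by rw [smul_zero, map_zero]
        neg_mem' := fun {a} ha e he => by rw [smul_neg, map_neg, ha e he, neg_zero] }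
    have hSA : ∀ a ∈ A, ∀ v ∈ S, a • v ∈ S := by
      intro a ha v hv e he
      have h1 : e⁻¹ * a * e ∈ A := by
        have := hAE e⁻¹ (E.inv_mem he) a ha
        rwa [inv_inv] at this
      have h2 : e⁻¹ • a • v = (e⁻¹ * a * e) • e⁻¹ • v := by
        rw [← mul_smul, ← mul_smul]; congr 1; group
      rw [h2, hTA _ h1, hv e he, smul_zero]
    have hSE : ∀ e ∈ E, ∀ v ∈ S, e • v ∈ S := by
      intro f hf v hv e he
      have h1 := hv (f⁻¹ * e) (E.mul_mem (E.inv_mem hf) he)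
      rw [mul_inv_rev, inv_inv, mul_smul] at h1
      exact h1
    rcases hirr S hSA hSE with h | h
    · intro v hv
      have h1 : v ∈ S := hv
      rw [h] at h1
      exact AddSubgroup.mem_bot.1 h1
    · exfalso
      have h1 : d₀ ∈ S := by rw [h]; exact AddSubgroup.mem_top _
      have h2 := h1 1 E.one_mem
      rw [inv_one, one_smul, hTw d₀ hd₀W] at h2
      exact hd₀ (hcW _ h2)
  -- the trace over `E`
  set τ : V →+ V := ∑ e : E, DistribMulAction.toAddMonoidHom V (e : Γ) with hτ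
  have hτv : ∀ v, τ v = ∑ e : E, (e : Γ) • v := by
    intro v
    rw [hτ, AddMonoidHom.finset_sum_apply]
    rfl
  have hτE : ∀ v, ∀ e ∈ E, e • τ v = τ v := by
    intro v e he
    rw [hτv, Finset.smul_sum]
    exact Fintype.sum_equiv (Equiv.mulLeft (⟨e, he⟩ : E)) _ _ (fun x => by
      rw [← mul_smul]; rfl)
  -- trace and `T`
  have hTτ : ∀ y : V, (∀ w ∈ W, w • y = y) →
      T (τ y) = Nat.card W • ∑ i, (κ i : Γ) • y := by
    intro y hy
    rw [hτv, map_sum]
    have h1 : ∀ e : E, T ((e : Γ) • y) =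
        if (e : Γ) ∈ 𝓝(W) then Nat.card W • ((e : Γ) • y) else 0 := by
      intro e
      split_ifs with h
      · rw [hTK _ h, hTw y hy, smul_comm]
      · exact hkill _ e.2 h y hy
    rw [Finset.sum_congr rfl fun e _ => h1 e, ← Finset.sum_filter, ← Finset.smul_sum]
    congr 1
    symm
    refine Finset.sum_bij (fun i _ => (⟨(κ i : Γ), (κ i).2.1⟩ : E)) ?_ ?_ ?_ ?_
    · intro i _
      exact Finset.mem_filter.2 ⟨Finset.mem_univ _, (κ i).2.2⟩
    · intro i _ j _ hij
      have h7 : (κ i : Γ) = κ j := congrArg (fun t : E => (t : Γ)) hij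
      exact κ.injective (Subtype.ext h7)
    · intro e he
      refine ⟨κ.symm ⟨(e : Γ), e.2, (Finset.mem_filter.1 he).2⟩, Finset.mem_univ _, ?_⟩
      apply Subtype.ext
      simp
    · intro i _; rfl
  have hzA' : ∀ n : ℕ, z ^ n ∈ A := fun n => A.pow_mem hzA n
  apply le_antisymm
  · -- `Ψ`
    let Ψ : V → (Q × Fin m → {v : V // ∀ e ∈ E, e • v = v}) := fun v c =>
      ⟨τ (T (z ^ (c.2 : ℕ) • (r c.1)⁻¹ • v)), hτE _⟩
    have hΨ : Function.Injective Ψ := by
      intro v v' hvv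
      rw [← sub_eq_zero]
      set x := v - v' with hx
      have h1 : ∀ c (j : Fin m), τ (T (z ^ (j : ℕ) • (r c)⁻¹ • x)) = 0 := by
        intro c j
        have h2 : τ (T (z ^ (j : ℕ) • (r c)⁻¹ • v)) = τ (T (z ^ (j : ℕ) • (r c)⁻¹ • v')) :=
          congrArg Subtype.val (congrFun hvv (c, j))
        rw [hx, smul_sub, smul_sub, map_sub, map_sub, h2, sub_self]
      have h2 : ∀ c, T ((r c)⁻¹ • x) = 0 := by
        intro c
        set y := T ((r c)⁻¹ • x) with hy
        have hyD : ∀ w ∈ W, w • y = y := hTD _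
        have h3 := (vdm_act A hcomm W hWA u huA hudiff (fun i => (κ i : Γ) • y) (by
          intro i w hw
          have h4 : (κ i : Γ) • y = T ((κ i : Γ) • (r c)⁻¹ • x) := by
            rw [hTK _ (κ i).2.2]
          rw [h4]
          exact hTD _ w hw)).2 (by
          intro j
          have h5 : ∑ i, (u i) ^ (j : ℕ) • (κ i : Γ) • y = ∑ i, (κ i : Γ) • z ^ (j : ℕ) • y :=
            Finset.sum_congr rfl fun i _ => hupow i _ _
          rw [h5]
          apply hcW
          rw [← hTτ _ (hDA _ (hzA' _) _ hyD), hy, ← hTA _ (hzA' _), h1 c j, map_zero])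
        have h4 := h3 (κ.symm ⟨1, K.one_mem⟩)
        simpa using h4
      apply hS0
      intro e he
      obtain ⟨c, k, hk, rfl⟩ := hr1 e he
      rw [mul_inv_rev, mul_smul, hTK _ (inv_mem hk.2), h2 c, smul_zero]
    have h1 := Nat.card_le_card_of_injective Ψ hΨ
    rwa [Nat.card_fun, hcard] at h1
  · -- `Φ`
    let Φ : (Q × Fin m → {v : V // ∀ e ∈ E, e • v = v}) → V := fun f =>
      ∑ c : Q × Fin m, r c.1 • z ^ (c.2 : ℕ) • T (f c : V)
    have hΦ : Function.Injective Φ := by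
      intro f f' hff
      have hfix : ∀ c, ∀ e ∈ E, e • ((f c : V) - (f' c : V)) = (f c : V) - (f' c : V) := by
        intro c e he
        rw [smul_sub, (f c).2 e he, (f' c).2 e he]
      have h0 : ∑ c : Q × Fin m, r c.1 • z ^ (c.2 : ℕ) • T ((f c : V) - (f' c : V)) = 0 := by
        have h1 : ∀ c : Q × Fin m, r c.1 • z ^ (c.2 : ℕ) • T ((f c : V) - (f' c : V)) =
            r c.1 • z ^ (c.2 : ℕ) • T (f c : V) - r c.1 • z ^ (c.2 : ℕ) • T (f' c : V) := by
          intro c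
          rw [map_sub, smul_sub, smul_sub]
        rw [Finset.sum_congr rfl fun c _ => h1 c, Finset.sum_sub_distrib, sub_eq_zero]
        exact hff
      set g : Q × Fin m → V := fun c => (f c : V) - (f' c : V) with hg
      have hg0 : ∀ c, g c = 0 := by
        rintro ⟨c', j'⟩
        -- apply `T (r c')⁻¹`
        have h1 : ∑ j : Fin m, z ^ (j : ℕ) • T (g (c', j)) = 0 := by
          apply hcW
          have h2 : T ((r c')⁻¹ • ∑ c : Q × Fin m, r c.1 • z ^ (c.2 : ℕ) • T (g c)) = 0 := by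
            rw [h0, smul_zero, map_zero]
          rw [Finset.smul_sum, map_sum, Fintype.sum_prod_type, Finset.sum_eq_single c'] at h2
          · rw [Finset.smul_sum, ← h2]
            refine Finset.sum_congr rfl fun j _ => ?_
            simp only
            rw [inv_smul_smul, hTw _ (hDA _ (hzA' _) _ (hTD _))]
          · intro c _ hcc
            refine Finset.sum_eq_zero fun j _ => ?_
            simp only
            rw [← mul_smul]
            exact hkill _ (E.mul_mem (E.inv_mem (hrE _)) (hrE _)) (hr3 c c' hcc) _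
              (hDA _ (hzA' _) _ (hTD _))
          · intro h; exact absurd (Finset.mem_univ _) h
        have hgT : ∀ k ∈ K, ∀ j, k • T (g (c', j)) = T (g (c', j)) := by
          intro k hk j
          rw [← hTK k hk.2, hfix _ k hk.1]
        have h3 := (vdm_act A hcomm W hWA u huA hudiff (fun j => T (g (c', j)))
          (fun j => hTD _)).1 (by
          intro i
          have h4 : ∑ j : Fin m, (u i) ^ (j : ℕ) • T (g (c', j)) =
              (κ i : Γ) • ∑ j : Fin m, z ^ (j : ℕ) • T (g (c', j)) := by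
            rw [Finset.smul_sum]
            refine Finset.sum_congr rfl fun j _ => ?_
            rw [← hupow, hgT _ (κ i).2]
          rw [h4, h1, smul_zero])
        apply hS0
        intro e he
        rw [hfix _ _ (E.inv_mem he)]
        exact h3 j'
      funext c
      exact Subtype.ext (sub_eq_zero.1 (hg0 c))
    have h1 := Nat.card_le_card_of_injective Φ hΦ
    rwa [Nat.card_fun, hcard] at h1

end

end CfsgLib.BGPi
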