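import Cfsg.Agent.EqBase
import Cfsg.Agent.LibBG21b

open Subgroup
open scoped Pointwise commutatorElement

namespace CfsgLib.BGPi

open Cfsg

universe u

section
variable {X : Type u} [Group X] [Finite X]

/-- the irreducible commutative case -/
theorem irr_case {U E H : Subgroup X}
    (hEU : E ≤ 𝓝(U)) (hfpf : ∀ e ∈ E, e ≠ 1 → ∀ u ∈ U, e * u = u * e → u = 1)
    (hUH : U ≤ 𝓝(H)) (hEH : E ≤ 𝓝(H)) (hcop : (Nat.card U).Coprime (Nat.card H))
    (hH1 : H ≠ ⊥) (hHab : H ≤ 𝓒(H))
    (hirr : ∀ N ≤ H, U ≤ 𝓝(N) → E ≤ 𝓝(N) → N = ⊥ ∨ N = H)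
    (hUU : ⁅U, U⁆ ≤ 𝓒(H)) (hC : H ⊓ 𝓒(U) = ⊥) :
    Nat.card H = Nat.card ↥(H ⊓ 𝓒(E)) ^ Nat.card E := by
  letI : CommGroup H := { (inferInstance : Group H) with
    mul_comm := fun a b => Subtype.ext (mem_cz.1 (hHab b.2) a a.2) }
  let φ0 : 𝓝(H) →* MulAut H := Subgroup.normalizerMonoidHom H
  letI : DistribMulAction 𝓝(H) (Additive H) :=
    { smul := fun g v => Additive.ofMul (φ0 g (Additive.toMul v))
      one_smul := fun v => by
        show Additive.ofMul (φ0 1 (Additive.toMul v)) = v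
        rw [map_one]; rfl
      mul_smul := fun a b v => by
        show Additive.ofMul (φ0 (a * b) (Additive.toMul v)) = _
        rw [map_mul]; rfl
      smul_zero := fun g => map_one (φ0 g)
      smul_add := fun g a b => map_mul (φ0 g) _ _ }
  have hθ : ∀ (g : 𝓝(H)) (v : Additive H), ((Additive.toMul (g • v) : H) : X) =
    g * (Additive.toMul v : H) * (g : X)⁻¹ := fun g v => rfl
  have hext : ∀ v w : Additive H, ((Additive.toMul v : H) : X) = (Additive.toMul w : H) →
    v = w := fun v w h => Additive.toMul.injective (Subtype.ext h)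
  have hcardE : Nat.card (E.subgroupOf 𝓝(H)) = Nat.card E :=
    Nat.card_congr (Subgroup.subgroupOfEquivOfLe hEH).toEquiv
  have hcardU : Nat.card (U.subgroupOf 𝓝(H)) = Nat.card U :=
    Nat.card_congr (Subgroup.subgroupOfEquivOfLe hUH).toEquiv
  have hcardH : Nat.card (Additive H) = Nat.card H := rfl
  have key : Nat.card (Additive H) = Nat.card {v : Additive H //
      ∀ e ∈ E.subgroupOf 𝓝(H), e • v = v} ^ Nat.card (E.subgroupOf 𝓝(H)) := by
    refine vdm_core (U.subgroupOf 𝓝(H)) (E.subgroupOf 𝓝(H)) ?_ ?_ ?_ ?_ ?_ ?_ ?_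
    · intro e he a ha
      exact (Subgroup.mem_normalizer_iff.1 (hEU he) _).1 ha
    · intro a ha b hb v
      apply hext
      rw [hθ, hθ, hθ, hθ]
      have h1 : ⁅(a : X)⁻¹, (b : X)⁻¹⁆ ∈ 𝓒(H) :=
        hUU (commutator_mem_commutator (U.inv_mem ha) (U.inv_mem hb))
      have h2 := mem_cz.1 h1 _ (Additive.toMul v).2
      rw [commutatorElement_def, inv_inv, inv_inv] at h2
      set y : X := ((Additive.toMul v : H) : X) with hy
      have h3 : y = ((a : X)⁻¹ * (b : X)⁻¹ * a * b) * y * ((a : X)⁻¹ * (b : X)⁻¹ * a * b)⁻¹ := by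
        first
          | exact eq_mul_inv_of_mul_eq h2
          | exact eq_mul_inv_of_mul_eq h2.symm
      calc (a : X) * (b * y * (b : X)⁻¹) * (a : X)⁻¹
          = b * a * (((a : X)⁻¹ * (b : X)⁻¹ * a * b) * y *
            ((a : X)⁻¹ * (b : X)⁻¹ * a * b)⁻¹) * (a : X)⁻¹ * (b : X)⁻¹ := by group
        _ = b * a * y * (a : X)⁻¹ * (b : X)⁻¹ := by rw [← h3]
        _ = b * (a * y * (a : X)⁻¹) * (b : X)⁻¹ := by group
    · intro e he he1 a ha hea
      apply Subtype.ext
      exact hfpf e he (fun h => he1 (Subtype.ext h)) a ha (congrArg Subtype.val hea)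
    · rw [hcardU]; exact hcop
    · intro S hSU hSE
      have hinv : ∀ g : 𝓝(H), (∀ v ∈ S, g • v ∈ S) →
          (g : X) ∈ 𝓝((AddSubgroup.toSubgroup S : Subgroup H).map H.subtype) := by
        intro g hg
        refine Subgroup.mem_normalizer_fintype
          (S := (((AddSubgroup.toSubgroup S : Subgroup H).map H.subtype : Subgroup X) : Set X)) ?_
        rintro _ ⟨v, hv, rfl⟩
        exact ⟨Additive.toMul (g • Additive.ofMul v), hg _ hv, rfl⟩
      have h1 := hirr ((AddSubgroup.toSubgroup S : Subgroup H).map H.subtype)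
        (by rintro _ ⟨v, _, rfl⟩; exact v.2)
        (fun u hu => hinv ⟨u, hUH hu⟩ (hSU ⟨u, hUH hu⟩ hu))
        (fun u hu => hinv ⟨u, hEH hu⟩ (hSE ⟨u, hEH hu⟩ hu))
      rcases h1 with h1 | h1
      · left
        rw [eq_bot_iff]
        intro v hv
        have h2 : ((Additive.toMul v : H) : X) ∈
          (AddSubgroup.toSubgroup S : Subgroup H).map H.subtype := ⟨Additive.toMul v, hv, rfl⟩
        rw [h1] at h2
        exact AddSubgroup.mem_bot.2 (hext _ _ (Subgroup.mem_bot.1 h2))
      · right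
        rw [eq_top_iff]
        intro v _
        have h2 : ((Additive.toMul v : H) : X) ∈
          (AddSubgroup.toSubgroup S : Subgroup H).map H.subtype := by
          rw [h1]; exact (Additive.toMul v).2
        obtain ⟨w, hw, hwv⟩ := h2
        have h3 : w = Additive.toMul v := Subtype.ext hwv
        rw [h3] at hw
        exact hw
    · intro v hv
      have h2 : ((Additive.toMul v : H) : X) ∈ H ⊓ 𝓒(U) := by
        refine ⟨(Additive.toMul v).2, mem_cz.2 fun x hx => ?_⟩
        have h3 : (x : X) * (Additive.toMul v : H) * (x : X)⁻¹ = (Additive.toMul v : H) :=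
          congrArg (fun w : Additive H => ((Additive.toMul w : H) : X)) (hv ⟨x, hUH hx⟩ hx)
        first
          | exact (mul_inv_eq_iff_eq_mul.1 h3)
          | exact (mul_inv_eq_iff_eq_mul.1 h3).symm
      rw [hC] at h2
      exact hext _ _ (Subgroup.mem_bot.1 h2)
    · obtain ⟨x, hx, hx1⟩ := (Subgroup.bot_or_exists_ne_one H).resolve_left hH1
      exact ⟨Additive.ofMul ⟨x, hx⟩, fun h => hx1 (congrArg
        (fun w : Additive H => ((Additive.toMul w : H) : X)) h)⟩
  rw [hcardE, hcardH] at key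
  rw [key]
  congr 1
  refine Nat.card_congr
    { toFun := fun v => ⟨((Additive.toMul v.1 : H) : X), (Additive.toMul v.1).2, ?_⟩
      invFun := fun x => ⟨Additive.ofMul ⟨x, x.2.1⟩, ?_⟩
      left_inv := fun v => rfl
      right_inv := fun x => rfl }
  · refine mem_cz.2 fun x hx => ?_
    have h3 : (x : X) * (Additive.toMul v.1 : H) * (x : X)⁻¹ = (Additive.toMul v.1 : H) :=
      congrArg (fun w : Additive H => ((Additive.toMul w : H) : X)) (v.2 ⟨x, hEH hx⟩ hx)
    first
      | exact (mul_inv_eq_iff_eq_mul.1 h3)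
      | exact (mul_inv_eq_iff_eq_mul.1 h3).symm
  · intro e he
    apply hext
    rw [hθ]
    have h4 := mem_cz.1 x.2.2 _ he
    refine mul_inv_eq_iff_eq_mul.2 ?_
    first
      | exact h4
      | exact h4.symm

end

end CfsgLib.BGPi
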