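import Cfsg.Agent.EqBase
import Cfsg.Agent.LibBG21c
import Cfsg.Agent.LibBG15b

open Subgroup
open scoped Pointwise commutatorElement

namespace CfsgLib.BGPi

open Cfsg

universe u

section
variable {X : Type u} [Group X] [Finite X]

theorem qm_card_mul {N A : Subgroup X} (hA : A ≤ 𝓝(N)) :
    Nat.card (qm N A) * Nat.card ↥(N ⊓ A) = Nat.card A := by
  rw [qm_card hA, Subgroup.relIndex, mul_comm]
  have h1 : Nat.card ↥(N ⊓ A) = Nat.card (N.subgroupOf A) := by
    rw [← Subgroup.inf_subgroupOf_right]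
    exact (Nat.card_congr (Subgroup.subgroupOfEquivOfLe inf_le_right).toEquiv).symm
  rw [h1, Subgroup.card_mul_index]

theorem mult_step {N H B : Subgroup X} (hBH : B ≤ 𝓝(H)) (hcop : (Nat.card B).Coprime (Nat.card H))
    (hs : Group.IsSolvable H) (hNH : N ≤ H) (hHN : H ≤ 𝓝(N)) (hBN : B ≤ 𝓝(N)) :
    Nat.card ↥(qm N H ⊓ 𝓒(qm N B)) * Nat.card ↥(N ⊓ 𝓒(B)) = Nat.card ↥(H ⊓ 𝓒(B)) := by
  have h1 : qm N H ⊓ 𝓒(qm N B) = qm N (H ⊓ 𝓒(B)) := by
    refine le_antisymm (qm_fix hBH hcop hs hNH hHN hBN) (le_inf (qm_mono inf_le_left) ?_)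
    refine (qm_cz_iff (inf_le_left.trans hHN) hBN).2 ?_
    rw [comm_eq_bot_iff.2 inf_le_right]
    exact bot_le
  rw [h1, ← qm_card_mul (N := N) (A := H ⊓ 𝓒(B)) (inf_le_left.trans hHN), ← inf_assoc,
    inf_eq_left.2 hNH]

theorem card_sup_cop {U E H : Subgroup X} (hEU : E ≤ 𝓝(U)) (h1 : (Nat.card U).Coprime (Nat.card H))
    (h2 : (Nat.card E).Coprime (Nat.card H)) : (Nat.card ↥(U ⊔ E)).Coprime (Nat.card H) := by
  have h3 : Nat.card ↥(U ⊔ E) ∣ Nat.card U * Nat.card E := by
    have h4 := card_sup_mul_card_inf hEU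
    rw [sup_comm, mul_comm (Nat.card E)] at h4
    exact Dvd.intro _ h4
  exact Nat.Coprime.coprime_dvd_left h3 (Nat.Coprime.mul_left h1 h2)

end

theorem frob_main : ∀ (n : ℕ) {X : Type u} [Group X] [Finite X] (U E H : Subgroup X),
    Nat.card H + Nat.card U ≤ n → Group.IsSolvable U → E ≤ 𝓝(U) →
    (∀ e ∈ E, e ≠ 1 → ∀ u ∈ U, e * u = u * e → u = 1) → U ≤ 𝓝(H) → E ≤ 𝓝(H) →
    (Nat.card U).Coprime (Nat.card H) → (Nat.card E).Coprime (Nat.card H) →
    Group.IsSolvable H →
    Nat.card ↥(H ⊓ 𝓒(U ⊔ E)) ^ Nat.card E * Nat.card H =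
      Nat.card ↥(H ⊓ 𝓒(E)) ^ Nat.card E * Nat.card ↥(H ⊓ 𝓒(U)) := by
  intro n
  induction n with
  | zero =>
    intro X _ _ U E H hn
    have := card_pos' H
    omega
  | succ n ih =>
    intro X _ _ U E H hn hUs hEU hfpf hUH hEH hUc hEc hHs
    by_cases hN : ∃ N ≤ H, H ≤ 𝓝(N) ∧ U ≤ 𝓝(N) ∧ E ≤ 𝓝(N) ∧ N ≠ ⊥ ∧ N ≠ H
    · obtain ⟨N, hNH, hHN, hUN, hEN, hN1, hN2⟩ := hN
      have hcN : Nat.card N < Nat.card H := card_lt_of_lt (lt_of_le_of_ne hNH hN2)
      have hdN : Nat.card N ∣ Nat.card H := card_dvd_of_le hNH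
      have hNs : Group.IsSolvable N := solvable_sub hNH hHs
      have i1 := ih U E N (by omega) hUs hEU hfpf hUN hEN (hUc.coprime_dvd_right hdN)
        (hEc.coprime_dvd_right hdN) hNs
      have hNE : N ⊓ E = ⊥ := by
        rw [inf_comm]; exact cop_inf (hEc.coprime_dvd_right hdN)
      have hNU : N ⊓ U = ⊥ := by
        rw [inf_comm]; exact cop_inf (hUc.coprime_dvd_right hdN)
      have hcE : Nat.card (qm N E) = Nat.card E := by
        rw [← qm_card_mul hEN, hNE, Subgroup.card_bot, mul_one]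
      have hcH : Nat.card (qm N H) * Nat.card N = Nat.card H := by
        rw [← qm_card_mul hHN, inf_eq_left.2 hNH]
      have hcH' : Nat.card (qm N H) < Nat.card H := by
        have h1 : 1 < Nat.card N := by
          have h2 := card_pos' N
          have h3 : Nat.card N ≠ 1 := fun h => hN1 (Subgroup.card_eq_one.1 h)
          omega
        have h2 := card_pos' (qm N H)
        nlinarith
      have hcU : Nat.card (qm N U) ≤ Nat.card U := Nat.le_of_dvd (card_pos' U) (qm_card_dvd hUN)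
      have i2 := ih (qm N U) (qm N E) (qm N H) (by omega) (qm_solvable hUs) (qm_nz hEU) (by
        intro e he he1 u hu heu
        obtain ⟨e, heN, heE, rfl⟩ := mem_qm.1 he
        obtain ⟨u, huN, huU, rfl⟩ := mem_qm.1 hu
        have h1 : e ≠ 1 := by
          rintro rfl
          exact he1 ((qe_eq_one heN).2 N.one_mem)
        have h2 : e * u * e⁻¹ * u⁻¹ ∈ N := by
          have h3 : qe N (mul_mem (mul_mem (mul_mem heN huN) (inv_mem heN)) (inv_mem huN)) = 1 := by
            have h31 : qe N (mul_mem (mul_mem (mul_mem heN huN) (inv_mem heN)) (inv_mem huN)) =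
              qe N heN * qe N huN * (qe N heN)⁻¹ * (qe N huN)⁻¹ := rfl
            rw [h31, heu]
            group
          exact (qe_eq_one _).1 h3
        have h3 : e * u * e⁻¹ * u⁻¹ ∈ U := U.mul_mem (le_nz.1 hEU e heE u huU) (U.inv_mem huU)
        have h4 : e * u * e⁻¹ * u⁻¹ ∈ N ⊓ U := ⟨h2, h3⟩
        rw [hNU, Subgroup.mem_bot] at h4
        have h5 : e * u = u * e := by
          have := congrArg (fun t => t * u * e) h4
          simpa [mul_assoc] using this
        have h6 := hfpf e heE h1 u huU h5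
        subst h6
        exact (qe_eq_one huN).2 N.one_mem) (qm_nz hUH) (qm_nz hEH)
        (Nat.Coprime.of_dvd (qm_card_dvd hUN) (qm_card_dvd hHN) hUc)
        (Nat.Coprime.of_dvd (qm_card_dvd hEN) (qm_card_dvd hHN) hEc) (qm_solvable hHs)
      rw [hcE, ← qm_sup hUN hEN] at i2
      have m1 := mult_step hUH hUc hHs hNH hHN hUN
      have m2 := mult_step hEH hEc hHs hNH hHN hEN
      have m3 := mult_step (sup_le hUH hEH) (card_sup_cop hEU hUc hEc) hHs hNH hHN
        (sup_le hUN hEN)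
      rw [← m1, ← m2, ← m3, ← hcH, mul_pow, mul_pow]
      calc _ = (Nat.card ↥(qm N H ⊓ 𝓒(qm N (U ⊔ E))) ^ Nat.card E * Nat.card (qm N H)) *
          (Nat.card ↥(N ⊓ 𝓒(U ⊔ E)) ^ Nat.card E * Nat.card N) := by ring
        _ = _ := by rw [i1, i2]; ring
    · push Not at hN
      by_cases hH1 : H = ⊥
      · subst hH1
        simp
      have hHH : ⁅H, H⁆ = ⊥ := by
        by_contra h
        have h1 := comm_lt_of_solvable hHs hH1
        exact h1.ne (hN ⁅H, H⁆ h1.le (left_le_nz_comm H H) (le_nz_comm hUH hUH)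
          (le_nz_comm hEH hEH) h)
      have hHab : H ≤ 𝓒(H) := comm_eq_bot_iff.1 hHH
      have hirr : ∀ N ≤ H, U ≤ 𝓝(N) → E ≤ 𝓝(N) → N = ⊥ ∨ N = H := by
        intro N hNH hUN hEN
        by_cases h : N = ⊥
        · exact Or.inl h
        · exact Or.inr (hN N hNH (le_nz_of_le_cz (hHab.trans (cz_anti hNH))) hUN hEN h)
      rcases hirr (H ⊓ 𝓒(U)) inf_le_left (le_nz_inf hUH (le_nz_cz le_normalizer))
        (le_nz_inf hEH (le_nz_cz hEU)) with h | h
      · have h1 : H ⊓ 𝓒(U ⊔ E) = ⊥ := by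
          rw [eq_bot_iff, ← h]
          exact inf_le_inf_left _ (cz_anti le_sup_left)
        rw [h1, h, Subgroup.card_bot, one_pow, one_mul, mul_one]
        by_cases hUU : ⁅U, U⁆ ≤ 𝓒(H)
        · exact irr_case hEU hfpf hUH hEH hUc hH1 hHab hirr hUU h
        · have hU1 : U ≠ ⊥ := by
            rintro rfl
            apply hUU
            rw [Subgroup.commutator_bot_left]
            exact bot_le
          have h2 := comm_lt_of_solvable hUs hU1
          have h2E : E ≤ 𝓝(⁅U, U⁆) := le_nz_comm hEU hEU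
          rcases hirr (H ⊓ 𝓒(⁅U, U⁆)) inf_le_left (le_nz_inf hUH (le_nz_cz (left_le_nz_comm U U)))
            (le_nz_inf hEH (le_nz_cz h2E)) with h3 | h3
          · have hc := card_lt_of_lt h2
            have hUs' : Group.IsSolvable (⁅U, U⁆ : Subgroup X) := solvable_sub h2.le hUs
            have i1 := ih ⁅U, U⁆ E H (by omega) hUs' h2E
              (fun e he he1 u hu h => hfpf e he he1 u (h2.le hu) h) (h2.le.trans hUH) hEH
              (hUc.coprime_dvd_left (card_dvd_of_le h2.le)) hEc hHs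
            have h4 : H ⊓ 𝓒(⁅U, U⁆ ⊔ E) = ⊥ := by
              rw [eq_bot_iff, ← h3]
              exact inf_le_inf_left _ (cz_anti le_sup_left)
            rw [h4, h3, Subgroup.card_bot, one_pow, one_mul, mul_one] at i1
            exact i1
          · exact absurd (le_cz_comm.1 (inf_eq_left.1 h3)) hUU
      · have h1 : H ⊓ 𝓒(U ⊔ E) = H ⊓ 𝓒(E) := by
          refine le_antisymm (inf_le_inf_left _ (cz_anti le_sup_right)) (le_inf inf_le_left ?_)
          rw [le_cz_comm]
          refine sup_le ?_ (le_cz_comm.1 inf_le_right)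
          rw [le_cz_comm]
          exact inf_le_left.trans (inf_eq_left.1 h)
        rw [h1, h]

end CfsgLib.BGPi
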