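import Mathlib
import Cfsg.Agent.LibFusionH12

/-! Fixed-point-free automorphisms of prime order: the "Frobenius group acting" lemma. -/

set_option autoImplicit false

namespace CfsgLib.FpfH12

open Cfsg Subgroup CfsgLib.FusionH12
open scoped IsMulCommutative

section Frob

variable {Γ : Type*} [Group Γ]

/-- conjugation of elements of the normalizer on an abelian subgroup as endomorphisms -/
def cE (M : Subgroup Γ) [hM : IsMulCommutative M] : ↥(normalizer (M : Set Γ)) →*
    AddMonoid.End (Additive M) where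
  toFun g :=
    { toFun := fun m => Additive.ofMul ⟨g.1 * (Additive.toMul m).1 * g.1⁻¹,
        (mem_normalizer_iff.1 g.2 _).1 (Additive.toMul m).2⟩
      map_zero' := by
        apply Additive.toMul.injective
        apply Subtype.ext
        simp
      map_add' := by
        intro x y
        apply Additive.toMul.injective
        apply Subtype.ext
        simp [mul_assoc] }
  map_one' := by
    apply DFunLike.ext
    intro m
    apply Additive.toMul.injective
    apply Subtype.ext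
    change (1 : Γ) * (Additive.toMul m).1 * (1 : Γ)⁻¹ = (Additive.toMul m).1
    simp
  map_mul' := by
    intro g h
    apply DFunLike.ext
    intro m
    apply Additive.toMul.injective
    apply Subtype.ext
    change (g.1 * h.1) * (Additive.toMul m).1 * (g.1 * h.1)⁻¹ =
      g.1 * (h.1 * (Additive.toMul m).1 * h.1⁻¹) * g.1⁻¹
    simp [mul_assoc]

theorem cE_apply (M : Subgroup Γ) [hM : IsMulCommutative M] (g : ↥(normalizer (M : Set Γ)))
    (m : Additive M) : ((Additive.toMul (cE M g m) : M) : Γ) = g.1 * (Additive.toMul m).1 * g.1⁻¹ := rfl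

theorem sum_zero (M : Subgroup Γ) [hM : IsMulCommutative M] {p : ℕ} (z : ↥(normalizer (M : Set Γ)))
    (hz : z ^ p = 1) (hf : ∀ m ∈ M, z.1 * m * z.1⁻¹ = m → m = 1) :
    ∑ i ∈ Finset.range p, (cE M z) ^ i = 0 := by
  have h1 : (cE M z - 1) * ∑ i ∈ Finset.range p, (cE M z) ^ i = 0 := by
    rw [mul_geom_sum, ← map_pow, hz, map_one, sub_self]
  apply DFunLike.ext
  intro m
  have h2 := DFunLike.congr_fun h1 m
  set w := (∑ i ∈ Finset.range p, (cE M z) ^ i) m with hw
  have h3 : cE M z w - w = 0 := h2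
  have h4 : cE M z w = w := sub_eq_zero.1 h3
  have h5 := congrArg (fun x : Additive M => ((Additive.toMul x : M) : Γ)) h4
  simp only [cE_apply] at h5
  have h6 := hf _ (Additive.toMul w).2 h5
  apply Additive.toMul.injective
  exact Subtype.ext h6

theorem frob_centralizes (M R : Subgroup Γ) [hM : IsMulCommutative M] [Finite M] [Finite R] {y : Γ}
    {p : ℕ} (hp : p.Prime) (hy : y ^ p = 1) (hRM : R ≤ normalizer (M : Set Γ))
    (hyM : y ∈ normalizer (M : Set Γ)) (hyR : y ∈ normalizer (R : Set Γ))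
    (hCM : ∀ m ∈ M, y * m * y⁻¹ = m → m = 1) (hCR : ∀ r ∈ R, y * r * y⁻¹ = r → r = 1)
    (hco : (Nat.card R).Coprime (Nat.card M)) : ∀ r ∈ R, ∀ m ∈ M, r * m * r⁻¹ = m := by
  classical
  haveI := Fintype.ofFinite R
  have hyR' : ∀ r ∈ R, y * r * y⁻¹ ∈ R := fun r hr => (mem_normalizer_iff.1 hyR r).1 hr
  have hyRi : ∀ r ∈ R, ∀ i : ℕ, y ^ i * r * (y ^ i)⁻¹ ∈ R := fun r hr i =>
    (mem_normalizer_iff.1 (pow_mem hyR i) r).1 hr
  -- conjugacy of the coset
  have h1 : ∀ r ∈ R, ∃ x ∈ R, x * y * x⁻¹ = r * y := by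
    let f : R → R := fun x => ⟨x.1 * (y * x.1⁻¹ * y⁻¹), mul_mem x.2 (hyR' _ (inv_mem x.2))⟩
    have hinj : Function.Injective f := by
      intro x x' h
      have h' : x.1 * (y * x.1⁻¹ * y⁻¹) = x'.1 * (y * x'.1⁻¹ * y⁻¹) := congrArg Subtype.val h
      have h2 : y * (x'.1⁻¹ * x.1) * y⁻¹ = x'.1⁻¹ * x.1 := by
        calc y * (x'.1⁻¹ * x.1) * y⁻¹ = x'.1⁻¹ * (x'.1 * (y * x'.1⁻¹ * y⁻¹)) * (y * x.1 * y⁻¹) := by group
          _ = x'.1⁻¹ * (x.1 * (y * x.1⁻¹ * y⁻¹)) * (y * x.1 * y⁻¹) := by rw [h']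
          _ = x'.1⁻¹ * x.1 := by group
      have h3 := hCR _ (mul_mem (inv_mem x'.2) x.2) h2
      exact Subtype.ext (inv_mul_eq_one.1 h3).symm
    intro r hr
    obtain ⟨x, hx⟩ := (Finite.injective_iff_surjective.1 hinj) ⟨r, hr⟩
    have hx' : x.1 * (y * x.1⁻¹ * y⁻¹) = r := congrArg Subtype.val hx
    exact ⟨x.1, x.2, by rw [← hx']; group⟩
  have h2 : ∀ r ∈ R, (r * y) ^ p = 1 ∧ ∀ m ∈ M, (r * y) * m * (r * y)⁻¹ = m → m = 1 := by
    intro r hr
    obtain ⟨x, hx, hxy⟩ := h1 r hr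
    constructor
    · rw [← hxy, conj_pow, hy]; simp
    · intro m hm h
      rw [← hxy] at h
      have h3 : y * (x⁻¹ * m * x) * y⁻¹ = x⁻¹ * m * x := by
        calc y * (x⁻¹ * m * x) * y⁻¹ = x⁻¹ * ((x * y * x⁻¹) * m * (x * y * x⁻¹)⁻¹) * x := by group
          _ = _ := by rw [h]
      have hxm : x⁻¹ * m * x ∈ M := by
        have := (mem_normalizer_iff.1 (inv_mem (hRM hx)) m).1 hm
        rwa [inv_inv] at this
      have h4 := hCM _ hxm h3
      calc m = x * (x⁻¹ * m * x) * x⁻¹ := by group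
        _ = 1 := by rw [h4]; group
  -- membership of powers
  have hmem : ∀ r ∈ R, ∀ i : ℕ, (r * y) ^ i * (y ^ i)⁻¹ ∈ R := by
    intro r hr i
    induction i with
    | zero => simp
    | succ i ih =>
      have : (r * y) ^ (i + 1) * (y ^ (i + 1))⁻¹ =
          r * (y * ((r * y) ^ i * (y ^ i)⁻¹) * y⁻¹) := by
        rw [pow_succ' (r * y), pow_succ y]
        have : (y ^ i * y)⁻¹ = (y ^ i)⁻¹ * y⁻¹ := by
          rw [← pow_succ, pow_succ', mul_inv_rev]
        rw [this]; simp only [mul_assoc]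
      rw [this]
      exact mul_mem hr (hyR' _ ih)
  let Y : ↥(normalizer (M : Set Γ)) := ⟨y, hyM⟩
  let ρ : R → ↥(normalizer (M : Set Γ)) := fun r => ⟨r.1, hRM r.2⟩
  set S : AddMonoid.End (Additive M) := ∑ r : R, cE M (ρ r) with hS
  have h3 : ∀ i, 0 < i → i < p → ∑ r : R, (cE M (ρ r * Y)) ^ i = S * (cE M Y) ^ i := by
    intro i hi hip
    have hcop : Nat.Coprime p i := (Nat.Prime.coprime_iff_not_dvd hp).2 (Nat.not_dvd_of_pos_of_lt hi hip)
    obtain ⟨j, hj⟩ : ∃ j : ℕ, i * j % p = 1 % p := by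
      have := Nat.exists_mul_mod_eq_one_of_coprime hcop.symm hp.one_lt
      obtain ⟨j, hj⟩ := this
      exact ⟨j, by rw [Nat.mod_eq_of_lt hp.one_lt]; exact hj.2⟩
    have hpow : ∀ z : Γ, z ^ p = 1 → (z ^ i) ^ j = z := by
      intro z hz
      rw [← pow_mul]
      have h5 : z ^ (i * j) = z ^ (i * j % p) := by
        conv_lhs => rw [← Nat.div_add_mod (i * j) p, pow_add, pow_mul, hz, one_pow, one_mul]
      rw [h5, hj, Nat.mod_eq_of_lt hp.one_lt, pow_one]
    let β : R → R := fun r => ⟨(r.1 * y) ^ i * (y ^ i)⁻¹, hmem r.1 r.2 i⟩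
    have hβ : Function.Injective β := by
      intro r s h
      have h' : (r.1 * y) ^ i * (y ^ i)⁻¹ = (s.1 * y) ^ i * (y ^ i)⁻¹ := congrArg Subtype.val h
      have h6 := mul_right_cancel h'
      have h7 := congrArg (fun z => z ^ j) h6
      simp only [hpow _ (h2 r.1 r.2).1, hpow _ (h2 s.1 s.2).1] at h7
      exact Subtype.ext (mul_right_cancel h7)
    have hβ' : Function.Bijective β := Finite.injective_iff_bijective.1 hβ
    have h8 : ∀ r : R, (cE M (ρ r * Y)) ^ i = cE M (ρ (β r)) * (cE M Y) ^ i := by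
      intro r
      rw [← map_pow, ← map_pow, ← map_mul]
      congr 1
      apply Subtype.ext
      simp [ρ, β, Y]
    rw [Finset.sum_congr rfl (fun r _ => h8 r), ← Finset.sum_mul, hS]
    congr 1
    exact Function.Bijective.sum_comp hβ' (fun r => cE M (ρ r))
  have h4 : ∑ i ∈ Finset.range p, ∑ r : R, (cE M (ρ r * Y)) ^ i = 0 := by
    rw [Finset.sum_comm]
    apply Finset.sum_eq_zero
    intro r _
    apply sum_zero
    · apply Subtype.ext
      simpa [ρ, Y] using (h2 r.1 r.2).1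
    · intro m hm h
      exact (h2 r.1 r.2).2 m hm h
  have h5 : ∑ i ∈ Finset.range p, (cE M Y) ^ i = 0 :=
    sum_zero M Y (Subtype.ext (by simpa [Y] using hy)) hCM
  obtain ⟨q, rfl⟩ : ∃ q, p = q + 1 := ⟨p - 1, by have := hp.pos; omega⟩
  rw [Finset.sum_range_succ'] at h4 h5
  have h6 : ∑ i ∈ Finset.range q, ∑ r : R, (cE M (ρ r * Y)) ^ (i + 1) =
      S * ∑ i ∈ Finset.range q, (cE M Y) ^ (i + 1) := by
    rw [Finset.mul_sum]
    apply Finset.sum_congr rfl
    intro i hi
    exact h3 (i + 1) (Nat.succ_pos i) (by have := Finset.mem_range.1 hi; omega)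
  have h7 : ∑ i ∈ Finset.range q, (cE M Y) ^ (i + 1) = -1 := by
    rw [pow_zero] at h5
    exact eq_neg_of_add_eq_zero_left h5
  have h7' : S * (-1 : AddMonoid.End (Additive M)) = -S := by
    apply DFunLike.ext
    intro m
    exact map_neg S m
  rw [h6, h7, h7'] at h4
  simp only [pow_zero, Finset.sum_const] at h4
  have h8 : (Finset.univ : Finset R).card • (1 : AddMonoid.End (Additive M)) = S := by
    rw [add_comm, ← sub_eq_add_neg, sub_eq_zero] at h4
    exact h4
  intro s hs m hm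
  have h9 : cE M (ρ ⟨s, hs⟩) * S = S := by
    rw [hS, Finset.mul_sum]
    have : ∀ r : R, cE M (ρ ⟨s, hs⟩) * cE M (ρ r) = cE M (ρ (⟨s, hs⟩ * r)) := by
      intro r
      rw [← map_mul]; rfl
    rw [Finset.sum_congr rfl (fun r _ => this r)]
    exact Function.Bijective.sum_comp (Group.mulLeft_bijective (⟨s, hs⟩ : R))
      (fun r => cE M (ρ r))
  rw [← h8] at h9
  have h10 := DFunLike.congr_fun h9 (Additive.ofMul ⟨m, hm⟩)
  set n := (Finset.univ : Finset R).card with hn
  have h11 : cE M (ρ ⟨s, hs⟩) (n • Additive.ofMul ⟨m, hm⟩) = n • Additive.ofMul (⟨m, hm⟩ : M) := h10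
  rw [map_nsmul] at h11
  have h12 : n • (cE M (ρ ⟨s, hs⟩) (Additive.ofMul ⟨m, hm⟩) - Additive.ofMul (⟨m, hm⟩ : M)) = 0 := by
    rw [nsmul_sub, h11, sub_self]
  set w := cE M (ρ ⟨s, hs⟩) (Additive.ofMul ⟨m, hm⟩) - Additive.ofMul (⟨m, hm⟩ : M) with hw
  have h13 : (Additive.toMul w) ^ n = 1 := congrArg Additive.toMul h12
  have h14 : (Additive.toMul w) ^ Nat.card M = 1 := pow_card_eq_one'
  have h15 : Nat.Coprime n (Nat.card M) := by
    rw [hn, Finset.card_univ, ← Nat.card_eq_fintype_card]; exact hco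
  have h16 : Additive.toMul w = 1 := by
    rw [← orderOf_eq_one_iff]
    exact Nat.eq_one_of_dvd_coprimes h15 (orderOf_dvd_of_pow_eq_one h13)
      (orderOf_dvd_of_pow_eq_one h14)
  have h17 : w = 0 := Additive.toMul.injective h16
  rw [hw, sub_eq_zero] at h17
  exact congrArg (fun x : Additive M => ((Additive.toMul x : M) : Γ)) h17

end Frob

end CfsgLib.FpfH12
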