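import Mathlib
import Cfsg.Prelude.Def_Solvable
import Cfsg.Prelude.Def_Transfer
import Cfsg.Agent.LibFpfH12
import Cfsg.Agent.LibH2Npc
import Cfsg.Agent.LibNpc9
import Cfsg.Agent.LibCores
import Cfsg.Agent.LibTransNil

/-! Thompson: a finite group with a fixed-point-free automorphism of prime order is nilpotent. -/

set_option autoImplicit false

namespace CfsgLib.FpfH12

open Cfsg Subgroup CfsgLib.FusionH12
open scoped IsMulCommutative Pointwise

universe u

section Basic

variable {G : Type u} [Group G] [Finite G] {φ : MulAut G}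

theorem surj_aux (hf : ∀ g, φ g = g → g = 1) (g : G) : ∃ x, x⁻¹ * φ x = g := by
  have hinj : Function.Injective (fun x : G => x⁻¹ * φ x) := by
    intro x y h
    have h' : x⁻¹ * φ x = y⁻¹ * φ y := h
    have h2 : φ (y * x⁻¹) = y * x⁻¹ := by
      rw [map_mul, map_inv]
      calc φ y * (φ x)⁻¹ = y * (y⁻¹ * φ y) * (φ x)⁻¹ := by group
        _ = y * (x⁻¹ * φ x) * (φ x)⁻¹ := by rw [h']
        _ = y * x⁻¹ := by group
    exact (mul_inv_eq_one.1 (hf _ h2)).symm
  exact (Finite.injective_iff_surjective.1 hinj) g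

theorem pow_apply_mem {K : Subgroup G} (hK : K.map φ.toMonoidHom = K) {x : G} (hx : x ∈ K) : φ x ∈ K := by
  rw [← hK]; exact mem_map_of_mem _ hx

/-- restriction of an automorphism -/
def restr (φ : MulAut G) (K : Subgroup G) (hK : K.map φ.toMonoidHom = K) : MulAut K :=
  (φ.subgroupMap K).trans (MulEquiv.subgroupCongr hK)

theorem restr_apply (K : Subgroup G) (hK : K.map φ.toMonoidHom = K) (k : K) :
    ((restr φ K hK k : K) : G) = φ k := rfl

theorem restr_pow (K : Subgroup G) (hK : K.map φ.toMonoidHom = K) (n : ℕ) (k : K) :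
    (((restr φ K hK ^ n) k : K) : G) = (φ ^ n) k := by
  induction n generalizing k with
  | zero => simp
  | succ n ih =>
    rw [pow_succ, pow_succ, MulAut.mul_apply, MulAut.mul_apply, ih]
    rfl

theorem congr_pow (N : Subgroup G) [N.Normal] (hN : N.map φ.toMonoidHom = N) (n : ℕ) (g : G) :
    ((QuotientGroup.congr N N φ hN : MulAut (G ⧸ N)) ^ n) (QuotientGroup.mk g) =
      QuotientGroup.mk ((φ ^ n) g) := by
  induction n generalizing g with
  | zero => simp
  | succ n ih =>
    rw [pow_succ, pow_succ, MulAut.mul_apply, MulAut.mul_apply]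
    have : (QuotientGroup.congr N N φ hN : MulAut (G ⧸ N)) (QuotientGroup.mk g) =
        QuotientGroup.mk (φ g) := rfl
    rw [this, ih]

theorem fpf_quotient (hf : ∀ g, φ g = g → g = 1) (N : Subgroup G) [N.Normal]
    (hN : N.map φ.toMonoidHom = N) (x : G ⧸ N)
    (hx : (QuotientGroup.congr N N φ hN : MulAut (G ⧸ N)) x = x) : x = 1 := by
  induction x using QuotientGroup.induction_on with
  | H g =>
    have h1 : (QuotientGroup.mk (φ g) : G ⧸ N) = QuotientGroup.mk g := hx
    rw [eq_comm, QuotientGroup.eq] at h1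
    -- g⁻¹ φ g = n⁻¹ φ n
    have hf' : ∀ k : N, restr φ N hN k = k → k = 1 := by
      intro k hk
      have := congrArg Subtype.val hk
      rw [restr_apply] at this
      exact Subtype.ext (hf _ this)
    obtain ⟨n, hn⟩ := surj_aux hf' ⟨g⁻¹ * φ g, h1⟩
    have hn' : n.1⁻¹ * φ n.1 = g⁻¹ * φ g := congrArg Subtype.val hn
    have h2 : φ (n.1 * g⁻¹) = n.1 * g⁻¹ := by
      rw [map_mul, map_inv]
      calc φ n.1 * (φ g)⁻¹ = n.1 * (n.1⁻¹ * φ n.1) * (φ g)⁻¹ := by group
        _ = n.1 * (g⁻¹ * φ g) * (φ g)⁻¹ := by rw [hn']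
        _ = n.1 * g⁻¹ := by group
    have h3 := hf _ h2
    rw [QuotientGroup.eq_one_iff]
    rw [← mul_inv_eq_one.1 h3]
    exact n.2

theorem aut_centralizes_aux {Γ : Type*} [Group Γ] (i : G →* Γ) (hi : Function.Injective i) (y : Γ)
    (hy : ∀ g : G, y * i g * y⁻¹ = i (φ g)) {p : ℕ} (hyp : y ^ p = 1)
    (hf : ∀ g, φ g = g → g = 1) (hp : p.Prime)
    (M R : Subgroup G) [hMc : IsMulCommutative M] (hM : M.map φ.toMonoidHom = M)
    (hR : R.map φ.toMonoidHom = R) (hRM : R ≤ normalizer (M : Set G))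
    (hco : (Nat.card R).Coprime (Nat.card M)) : ∀ r ∈ R, ∀ m ∈ M, r * m * r⁻¹ = m := by
  have hnorm : ∀ K : Subgroup G, K.map φ.toMonoidHom = K → y ∈ normalizer ((K.map i : Subgroup Γ) : Set Γ) := by
    intro K hK
    rw [mem_nrm]
    ext z
    rw [mem_cj, mem_map, mem_map]
    constructor
    · rintro ⟨k, hk, hkz⟩
      refine ⟨φ k, pow_apply_mem hK hk, ?_⟩
      rw [← hy, hkz]; group
    · rintro ⟨k, hk, rfl⟩
      rw [← hK] at hk
      obtain ⟨l, hl, rfl⟩ := mem_map.1 hk
      refine ⟨l, hl, ?_⟩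
      have := hy l
      change i l = y⁻¹ * i (φ l) * y
      rw [← this]; group
  haveI : IsMulCommutative (M.map i) := by
    refine ⟨⟨?_⟩⟩
    rintro ⟨_, ⟨a, ha, rfl⟩⟩ ⟨_, ⟨b, hb, rfl⟩⟩
    apply Subtype.ext
    change i a * i b = i b * i a
    rw [← map_mul, ← map_mul]
    congr 1
    exact congrArg Subtype.val (hMc.is_comm.comm ⟨a, ha⟩ ⟨b, hb⟩)
  haveI : Finite (M.map i) := Finite.of_equiv M (M.equivMapOfInjective i hi).toEquiv
  haveI : Finite (R.map i) := Finite.of_equiv R (R.equivMapOfInjective i hi).toEquiv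
  have hcard : ∀ K : Subgroup G, Nat.card (K.map i) = Nat.card K := fun K =>
    Nat.card_congr (K.equivMapOfInjective i hi).toEquiv.symm
  have hRM' : R.map i ≤ normalizer ((M.map i : Subgroup Γ) : Set Γ) := by
    rintro _ ⟨r, hr, rfl⟩
    rw [mem_normalizer_iff]
    intro x
    have hr' := mem_normalizer_iff.1 (hRM hr)
    constructor
    · rintro ⟨m, hm, rfl⟩
      exact ⟨r * m * r⁻¹, (hr' m).1 hm, by simp⟩
    · rintro ⟨m, hm, hmx⟩
      refine ⟨r⁻¹ * m * r, ?_, ?_⟩
      · apply (hr' _).2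
        have : r * (r⁻¹ * m * r) * r⁻¹ = m := by group
        rw [this]; exact hm
      · rw [map_mul, map_mul, map_inv, hmx]
        change (i r)⁻¹ * (i r * x * (i r)⁻¹) * i r = x
        group
  have hfix : ∀ K : Subgroup G, ∀ z ∈ K.map i, y * z * y⁻¹ = z → z = 1 := by
    rintro K _ ⟨k, hk, rfl⟩ h
    rw [hy] at h
    rw [hf k (hi h), map_one]
  have := frob_centralizes (M.map i) (R.map i) hp hyp hRM' (hnorm M hM) (hnorm R hR)
    (hfix M) (hfix R) (by rw [hcard, hcard]; exact hco)
  intro r hr m hm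
  apply hi
  rw [map_mul, map_mul, map_inv]
  exact this _ (mem_map_of_mem i hr) _ (mem_map_of_mem i hm)

theorem aut_centralizes (hf : ∀ g, φ g = g → g = 1) {p : ℕ} (hp : p.Prime) (hφ : φ ^ p = 1)
    (M R : Subgroup G) [hMc : IsMulCommutative M] (hM : M.map φ.toMonoidHom = M)
    (hR : R.map φ.toMonoidHom = R) (hRM : R ≤ normalizer (M : Set G))
    (hco : (Nat.card R).Coprime (Nat.card M)) : ∀ r ∈ R, ∀ m ∈ M, r * m * r⁻¹ = m := by
  refine aut_centralizes_aux
    (SemidirectProduct.inl : G →* SemidirectProduct G (MulAut G) (MonoidHom.id (MulAut G)))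
    SemidirectProduct.inl_injective (SemidirectProduct.inr φ) ?_ ?_ hf hp M R hM hR hRM hco (p := p)
  · intro g
    have := SemidirectProduct.inl_aut (φ := MonoidHom.id (MulAut G)) φ g
    rw [MonoidHom.id_apply] at this
    rw [this, map_inv]
  · rw [← map_pow, hφ, map_one]

theorem inv_sylow (hf : ∀ g, φ g = g → g = 1) (q : ℕ) [Fact q.Prime] :
    ∃ P : Sylow q G, (P : Subgroup G).map φ.toMonoidHom = P := by
  obtain ⟨P0⟩ : Nonempty (Sylow q G) := inferInstance
  obtain ⟨g, hg⟩ := MulAction.exists_smul_eq G P0 (φ • P0)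
  obtain ⟨x, hx⟩ := surj_aux hf g⁻¹
  have hg' : cj g (P0 : Subgroup G) = (P0 : Subgroup G).map φ.toMonoidHom :=
    congrArg (fun S : Sylow q G => (S : Subgroup G)) hg
  refine ⟨x • P0, ?_⟩
  change (cj x (P0 : Subgroup G)).map φ.toMonoidHom = cj x (P0 : Subgroup G)
  have h1 : (cj x (P0 : Subgroup G)).map φ.toMonoidHom = cj (φ x) ((P0 : Subgroup G).map φ.toMonoidHom) := by
    ext z
    rw [mem_cj, mem_map, mem_map]
    constructor
    · rintro ⟨w, hw, rfl⟩
      rw [mem_cj] at hw
      refine ⟨x⁻¹ * w * x, hw, ?_⟩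
      change φ (x⁻¹ * w * x) = (φ x)⁻¹ * φ w * φ x
      rw [map_mul, map_mul, map_inv]
    · rintro ⟨w, hw, hwz⟩
      refine ⟨x * w * x⁻¹, conj_mem_cj hw, ?_⟩
      change φ w = (φ x)⁻¹ * z * φ x at hwz
      change φ (x * w * x⁻¹) = z
      rw [map_mul, map_mul, map_inv, hwz]; group
  rw [h1, ← hg', ← cj_mul]
  have h2 : φ x * g = x := by
    have : φ x = x * g⁻¹ := by rw [← hx]; group
    rw [this]; group
  rw [h2]

end Basic

end CfsgLib.FpfH12

namespace CfsgLib.FpfH12

open Cfsg Subgroup CfsgLib.FusionH12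
open scoped IsMulCommutative Pointwise

universe u

section Main

theorem step_core (G : Type u) [Group G] [Finite G]
    (IH : ∀ (H : Type u) [Group H] [Finite H], Nat.card H < Nat.card G → ∀ (ψ : MulAut H) (p : ℕ),
      p.Prime → ψ ^ p = 1 → (∀ g, ψ g = g → g = 1) → Group.IsNilpotent H)
    (φ : MulAut G) {p : ℕ} (hp : p.Prime) (hφ : φ ^ p = 1) (hf : ∀ g, φ g = g → g = 1)
    {t : ℕ} (ht : t.Prime) (hcore : pCore t G ≠ ⊥) : Group.IsNilpotent G := by
  haveI : Fact t.Prime := ⟨ht⟩
  set P := pCore t G with hP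
  haveI hPn : P.Normal := inferInstance
  have hPp : IsPGroup t P := CfsgLib.Cores.pCore_isPGroup t
  set M : Subgroup G := P ⊓ centralizer (P : Set G) with hM
  haveI hMn : M.Normal := inferInstance
  haveI hMc : IsMulCommutative M := by
    refine ⟨⟨?_⟩⟩
    rintro ⟨a, ha⟩ ⟨b, hb⟩
    apply Subtype.ext
    exact ((mem_centralizer_iff.1 (mem_inf.1 hb).2) a (mem_inf.1 ha).1)
  have hPinv : P.map φ.toMonoidHom = P := CfsgLib.Cores.map_pCore_equiv t φ
  have hMinv : M.map φ.toMonoidHom = M := by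
    apply Subgroup.eq_of_le_of_card_ge
    · rintro _ ⟨m, hm, rfl⟩
      obtain ⟨h1, h2⟩ := mem_inf.1 hm
      refine mem_inf.2 ⟨pow_apply_mem hPinv h1, ?_⟩
      rw [mem_centralizer_iff] at h2 ⊢
      intro x hx
      change x ∈ P at hx
      rw [← hPinv] at hx
      obtain ⟨y, hy, rfl⟩ := mem_map.1 hx
      change φ y * φ m = φ m * φ y
      rw [← map_mul, ← map_mul, h2 y hy]
    · exact (Nat.card_congr (M.equivMapOfInjective φ.toMonoidHom φ.injective).toEquiv).le
  have hMne : M ≠ ⊥ := by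
    haveI : Nontrivial P := (nontrivial_iff_ne_bot P).2 hcore
    have hc := hPp.center_nontrivial
    obtain ⟨⟨z, hz⟩, hz1⟩ := exists_ne (1 : center P)
    intro h
    have h1 : (z : G) ∈ M := by
      refine mem_inf.2 ⟨z.2, ?_⟩
      rw [mem_centralizer_iff]
      intro x hx
      exact congrArg Subtype.val ((mem_center_iff.1 hz) ⟨x, hx⟩)
    rw [h, mem_bot] at h1
    exact hz1 (Subtype.ext (Subtype.ext h1))
  have hMp : IsPGroup t M := hPp.to_le inf_le_left
  -- quotient
  have hlt : Nat.card (G ⧸ M) < Nat.card G := by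
    rw [Subgroup.card_eq_card_quotient_mul_card_subgroup M]
    have h1 : 1 < Nat.card M := by
      rw [Finite.one_lt_card_iff_nontrivial]
      exact (nontrivial_iff_ne_bot M).2 hMne
    have h2 : 0 < Nat.card (G ⧸ M) := Nat.card_pos
    nlinarith
  have hφq : (QuotientGroup.congr M M φ hMinv : MulAut (G ⧸ M)) ^ p = 1 := by
    apply MulEquiv.ext
    intro x
    induction x using QuotientGroup.induction_on with
    | H g => rw [congr_pow, hφ]; rfl
  have hnil : Group.IsNilpotent (G ⧸ M) :=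
    IH (G ⧸ M) hlt _ p hp hφq (fpf_quotient hf M hMinv)
  apply (Group.isNilpotent_of_finite_tfae (G := G)).out 0 3 |>.2
  intro r hr S
  -- it suffices to treat the invariant Sylow subgroup
  obtain ⟨R, hR⟩ := inv_sylow hf r
  suffices hRn : (R : Subgroup G).Normal by
    obtain ⟨g, hg⟩ := MulAction.exists_smul_eq G R S
    have h1 : (S : Subgroup G) = cj g (R : Subgroup G) :=
      (congrArg (fun S : Sylow r G => (S : Subgroup G)) hg).symm
    rw [h1, cj_of_normal]
    exact hRn
  have hRM : ((R : Subgroup G) ⊔ M).Normal := by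
    have h1 : (((R.mapSurjective (QuotientGroup.mk'_surjective M) : Sylow r (G ⧸ M)) :
      Subgroup (G ⧸ M)).comap (QuotientGroup.mk' M)).Normal := by
      haveI : ((R.mapSurjective (QuotientGroup.mk'_surjective M) : Sylow r (G ⧸ M)) :
        Subgroup (G ⧸ M)).Normal := inferInstance
      exact Subgroup.Normal.comap this _
    have h2 : (((R.mapSurjective (QuotientGroup.mk'_surjective M) : Sylow r (G ⧸ M)) :
      Subgroup (G ⧸ M)).comap (QuotientGroup.mk' M)) = (R : Subgroup G) ⊔ M := by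
      change ((R : Subgroup G).map (QuotientGroup.mk' M)).comap (QuotientGroup.mk' M) = _
      rw [comap_map_eq, QuotientGroup.ker_mk']
    rwa [h2] at h1
  by_cases hrt : r = t
  · subst hrt
    have h1 : M ≤ R := CfsgLib.Cores.normal_le_sylow hMn hMp R
    rwa [sup_eq_left.2 h1] at hRM
  · have hco : (Nat.card (R : Subgroup G)).Coprime (Nat.card M) := by
      obtain ⟨n, hn⟩ := R.2.exists_card_eq
      obtain ⟨m, hm⟩ := hMp.exists_card_eq
      have hn' : Nat.card (R : Subgroup G) = r ^ n := hn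
      rw [hn', hm]
      exact Nat.Coprime.pow _ _ ((Nat.coprime_primes hr.out ht).2 hrt)
    have hcen := aut_centralizes hf hp hφ M R hMinv hR
      (by rw [normalizer_eq_top]; exact le_top) hco
    refine ⟨fun x hx g => ?_⟩
    have h1 : g * x * g⁻¹ ∈ (R : Subgroup G) ⊔ M := hRM.conj_mem x
      ((le_sup_left : (R : Subgroup G) ≤ _) hx) g
    rw [mem_sup_of_normal_right] at h1
    obtain ⟨s, hs, m, hm, hsm⟩ := h1
    have hcomm : Commute s m := mul_inv_eq_iff_eq_mul.1 (hcen s hs m hm)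
    have h2 : (g * x * g⁻¹) ^ Nat.card (R : Subgroup G) = 1 := by
      rw [conj_pow]
      have : x ^ Nat.card (R : Subgroup G) = 1 := by
        have := pow_card_eq_one' (x := (⟨x, hx⟩ : (R : Subgroup G)))
        exact congrArg Subtype.val this
      rw [this]; group
    have h3 : s ^ Nat.card (R : Subgroup G) = 1 := by
      have := pow_card_eq_one' (x := (⟨s, hs⟩ : (R : Subgroup G)))
      exact congrArg Subtype.val this
    have h4 : m ^ Nat.card M = 1 := by
      have := pow_card_eq_one' (x := (⟨m, hm⟩ : M))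
      exact congrArg Subtype.val this
    rw [← hsm, hcomm.mul_pow, h3, one_mul] at h2
    have h5 : m = 1 := by
      rw [← orderOf_eq_one_iff]
      exact Nat.eq_one_of_dvd_coprimes hco (orderOf_dvd_of_pow_eq_one h2)
        (orderOf_dvd_of_pow_eq_one h4)
    rw [h5, mul_one] at hsm
    rw [← hsm]; exact hs

theorem main : ∀ (n : ℕ) (G : Type u) [Group G] [Finite G], Nat.card G = n → ∀ (φ : MulAut G) (p : ℕ),
      p.Prime → φ ^ p = 1 → (∀ g, φ g = g → g = 1) → Group.IsNilpotent G := by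
  intro n
  induction n using Nat.strong_induction_on with
  | _ n IH =>
  intro G _ _ hn φ p hp hφ hf
  have IH' : ∀ (H : Type u) [Group H] [Finite H], Nat.card H < Nat.card G → ∀ (ψ : MulAut H) (p : ℕ),
      p.Prime → ψ ^ p = 1 → (∀ g, ψ g = g → g = 1) → Group.IsNilpotent H := by
    intro H _ _ hH ψ p hp hψ hfψ
    exact IH (Nat.card H) (by rw [← hn]; exact hH) H rfl ψ p hp hψ hfψ
  have IHsub : ∀ K : Subgroup G, K.map φ.toMonoidHom = K → K ≠ ⊤ → Group.IsNilpotent K := by
    intro K hK hKt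
    refine IH' K ?_ (restr φ K hK) p hp ?_ ?_
    · exact lt_of_le_of_ne (Nat.le_of_dvd Nat.card_pos (card_subgroup_dvd_card K))
        (fun h => hKt (K.eq_top_of_card_eq h))
    · apply MulEquiv.ext
      intro k
      apply Subtype.ext
      rw [restr_pow, hφ]; rfl
    · intro k hk
      exact Subtype.ext (hf _ (congrArg Subtype.val hk))
  by_cases hodd : ∃ q : ℕ, q.Prime ∧ q ≠ 2 ∧ q ∣ Nat.card G
  · obtain ⟨q, hq, hq2, hqG⟩ := hodd
    haveI : Fact q.Prime := ⟨hq⟩
    obtain ⟨Q, hQ⟩ := inv_sylow hf q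
    have hQne : (Q : Subgroup G) ≠ ⊥ := Q.ne_bot_of_dvd_card hqG
    set Z := centerThompsonOf q (Q : Subgroup G) with hZ
    have hZne : Z ≠ ⊥ := CfsgLib.H2Npc.centerThompsonOf_ne_bot Q.2 hQne
    have hZQ : Z ≤ Q := CfsgLib.H2Npc.centerThompsonOf_le q _
    have hZinv : Z.map φ.toMonoidHom = Z := by
      rw [hZ, ← CfsgLib.H2Npc.centerThompsonOf_map q φ.toMonoidHom (φ.injective.injOn), hQ]
    have hZp : IsPGroup q Z := Q.2.to_le hZQ
    by_cases hN : normalizer (Z : Set G) = ⊤
    · have hZn : Z.Normal := normalizer_eq_top_iff.1 hN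
      refine step_core G IH' φ hp hφ hf hq ?_
      intro h
      apply hZne
      rw [eq_bot_iff, ← h]
      exact CfsgLib.Cores.le_pCore hZn hZp
    · have hNinv : (normalizer (Z : Set G)).map φ.toMonoidHom = normalizer (Z : Set G) := by
        rw [Subgroup.map_equiv_normalizer_eq, hZinv]
      have hNnil := IHsub _ hNinv hN
      have hNpc : HasNormalPComplement q (normalizer (Z : Set G)) :=
        CfsgLib.TransNil.hasNPC_of_isNilpotent hNnil q
      have hG : HasNormalPComplement q G := CfsgLib.H2Npc.npc_of_ZJE hq2 Q hNpc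
      obtain ⟨k, hk⟩ := CfsgLib.Npc9.hnpc_iff_pPrimeCore.1 hG
      set K := pPrimeCore q G with hK
      have hKco : (Nat.card K).Coprime q := CfsgLib.Cores.pPrimeCore_coprime q
      have hKinv : K.map φ.toMonoidHom = K := CfsgLib.Cores.map_pPrimeCore_equiv q φ
      have hKt : K ≠ ⊤ := by
        intro h
        rw [h, card_top] at hKco
        exact (Nat.Prime.coprime_iff_not_dvd hq).1 hKco.symm hqG
      have hKnil := IHsub K hKinv hKt
      by_cases hKb : K = ⊥
      · rw [hKb, index_bot] at hk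
        exact (IsPGroup.of_card hk).isNilpotent
      · have hfit : fittingSubgroup G ≠ ⊥ := by
          intro h
          apply hKb
          rw [eq_bot_iff, ← h]
          exact CfsgLib.Cores.le_fittingSubgroup inferInstance hKnil
        obtain ⟨t, ht, htc⟩ : ∃ t : ℕ, t.Prime ∧ pCore t G ≠ ⊥ := by
          by_contra hall
          push Not at hall
          exact hfit (CfsgLib.Cores.fittingSubgroup_eq_bot_of_pCore hall)
        exact step_core G IH' φ hp hφ hf ht htc
  · push Not at hodd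
    haveI : Fact (Nat.Prime 2) := ⟨Nat.prime_two⟩
    have h2 : ∃ k, Nat.card G = 2 ^ k := by
      have := Nat.eq_prime_pow_of_unique_prime_dvd (n := Nat.card G) (p := 2) Nat.card_pos.ne' (by
        intro d hd hdG
        by_contra hne
        exact hodd d hd hne hdG)
      exact ⟨_, this⟩
    obtain ⟨k, hk⟩ := h2
    exact (IsPGroup.of_card hk).isNilpotent

end Main

end CfsgLib.FpfH12
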