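import Cfsg.Agent.EqBase
import Cfsg.Agent.LibBG21d
import Cfsg.Agent.LibFpfH12b

open Subgroup
open scoped Pointwise commutatorElement

namespace CfsgLib.BGPi

open Cfsg

universe u

variable {X : Type u} [Group X] [Finite X]

theorem frob_ker_nilp {U E : Subgroup X} (hE1 : E ≠ ⊥) (hEU : E ≤ 𝓝(U))
    (hfpf : ∀ e ∈ E, e ≠ 1 → ∀ u ∈ U, e * u = u * e → u = 1) : Group.IsNilpotent U := by
  have h1 : Nat.card E ≠ 1 := fun h => hE1 (Subgroup.card_eq_one.1 h)
  obtain ⟨p, hp, hpE⟩ := Nat.exists_prime_and_dvd h1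
  haveI := Fact.mk hp
  obtain ⟨x, hx⟩ := exists_prime_orderOf_dvd_card' (G := E) p hpE
  have hx1 : (x : X) ≠ 1 := by
    intro h
    have h2 : x = 1 := Subtype.ext h
    rw [h2, orderOf_one] at hx
    exact hp.one_lt.ne hx
  have hxp : (⟨(x : X), hEU x.2⟩ : 𝓝(U)) ^ p = 1 := by
    apply Subtype.ext
    have h2 : x ^ p = 1 := by rw [← hx]; exact pow_orderOf_eq_one x
    exact congrArg (fun t : E => (t : X)) h2
  refine CfsgLib.FpfH12.main (Nat.card U) U rfl
    (Subgroup.normalizerMonoidHom U ⟨(x : X), hEU x.2⟩) p hp ?_ ?_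
  · rw [← map_pow, hxp, map_one]
  · intro g hg
    apply Subtype.ext
    have h2 : (x : X) * g * (x : X)⁻¹ = g := congrArg Subtype.val hg
    exact hfpf x x.2 hx1 g g.2 (mul_inv_eq_iff_eq_mul.1 h2)

theorem nilp_solvable {U : Subgroup X} (h : Group.IsNilpotent U) : Group.IsSolvable U := by
  haveI := h
  infer_instance

end CfsgLib.BGPi
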