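import Cfsg.Agent.EqBase
import Cfsg.Agent.LibBG22a
import Cfsg.Agent.LibBG10e
import Cfsg.Agent.LibBGRank

open Subgroup
open scoped Pointwise commutatorElement

namespace CfsgLib.BGPi

open Cfsg

universe u

def CA (G : Type u) [Group G] : Prop := ∀ A B : Subgroup G, IsMulCommutative A →
  IsMulCommutative B → Nat.card A = Nat.card B → ∃ g : G, B = A ^ᵍ g

section
variable {G : Type u} [Group G] [Finite G]

theorem ca_el (hB : CA G) {p : ℕ} (hp : p.Prime) {N : Subgroup G} (hN : (⊤ : Subgroup G) ≤ 𝓝(N))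
    (hNp : ∀ x ∈ N, x ^ p = 1) (hN1 : N ≠ ⊥) {x : G} (hx : x ^ p = 1) : x ∈ N := by
  haveI := Fact.mk hp
  by_cases hx1 : x = 1
  · rw [hx1]; exact N.one_mem
  obtain ⟨y, hy, hy1⟩ := (Subgroup.bot_or_exists_ne_one N).resolve_left hN1
  have h1 : orderOf x = p := orderOf_eq_prime hx hx1
  have h2 : orderOf y = p := orderOf_eq_prime (hNp y hy) hy1
  obtain ⟨g, hg⟩ := hB (zpowers y) (zpowers x) inferInstance inferInstance (by
    rw [Nat.card_zpowers, Nat.card_zpowers, h1, h2])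
  have h3 : x ∈ (zpowers y) ^ᵍ g := hg ▸ mem_zpowers x
  have h4 : N ^ᵍ g = N := cj_le_of_le_nz hN (mem_top g)
  rw [← h4]
  exact Subgroup.map_mono (zpowers_le.2 hy) h3

theorem ca_dec (hs : Group.IsSolvable G) (hB : CA G) {p : ℕ} (hp : p.Prime) {N : Subgroup G}
    (hN : (⊤ : Subgroup G) ≤ 𝓝(N)) (hNp : ∀ x ∈ N, x ^ p = 1) (hNab : N ≤ 𝓒(N)) (hN1 : N ≠ ⊥)
    {A : Subgroup G} (hNA : N ≤ A) (hA : ⁅A, A⁆ ≤ N) :
    ∃ R H : Subgroup G, IsPiHallOf {p} R A ∧ IsPiHallOf {p}ᶜ H A ∧ N ≤ R ∧ H ≤ 𝓒(H) ∧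
      (R ≠ N → Nat.card N = p ∧ A ≤ 𝓒(N) ∧ H ≤ 𝓒(R) ∧ ∃ x ∈ R, orderOf x = p ^ 2) := by
  haveI := Fact.mk hp
  have hNpi : IsPi {p} N := by
    refine isPi_of_isPGroup hp ?_
    intro x
    exact ⟨1, Subtype.ext (by rw [pow_one]; exact hNp x x.2)⟩
  obtain ⟨R, hR, hNR⟩ := exists_syl_ge hp hNpi hNA
  have hAs : Group.IsSolvable A := by
    haveI := hs
    exact Group.isSolvable_of_isSolvable_injective (f := A.subtype) (Subgroup.subtype_injective A)
  obtain ⟨H, hH⟩ := hall_exists (π := {p}ᶜ) hAs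
  have hRA := hall_le hR
  have hHA := hall_le hH
  have hAR : A ≤ 𝓝(R) := le_nz_of_comm_le ((commutator_mono hRA le_rfl).trans (hA.trans hNR))
  have hHp : (Nat.card H).Coprime p := (isPi_compl_singleton' hp).1 (hall_isPi hH)
  refine ⟨R, H, hR, hH, hNR, ?_, ?_⟩
  · rw [← comm_eq_bot_iff]
    refine eq_bot_of_isPi (π := {p}) ?_ ?_
    · exact hNpi.le ((commutator_mono hHA hHA).trans hA)
    · exact (hall_isPi hH).le (comm_le_left le_normalizer)
  · intro hRN
    have hRp : IsPGroup p R := IsPi.isPGroup hp (hall_isPi hR)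
    obtain ⟨x₀, hx₀R, hx₀N⟩ : ∃ x ∈ R, x ∉ N := by
      by_contra hcon
      push Not at hcon
      exact hRN (le_antisymm hcon hNR)
    have hex : ∃ k, x₀ ^ (p ^ k) ∈ N := by
      obtain ⟨k, hk⟩ := hRp ⟨x₀, hx₀R⟩
      refine ⟨k, ?_⟩
      have h1 : x₀ ^ (p ^ k) = 1 := congrArg Subtype.val hk
      rw [h1]; exact N.one_mem
    classical
    have hk1 := Nat.find_spec hex
    have hk0 : Nat.find hex ≠ 0 := by
      intro h
      rw [h, pow_zero, pow_one] at hk1
      exact hx₀N hk1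
    have hk2 := Nat.find_min hex (m := Nat.find hex - 1) (by omega)
    set k := Nat.find hex with hk
    set x := x₀ ^ (p ^ (k - 1)) with hx
    have hxR : x ∈ R := R.pow_mem hx₀R _
    have hxp : x ^ p ∈ N := by
      rw [hx, ← pow_mul, ← pow_succ]
      have h1 : k - 1 + 1 = k := by omega
      rw [h1]; exact hk1
    have hxp1 : x ^ p ≠ 1 := fun h => hk2 (ca_el hB hp hN hNp hN1 h)
    have hox : orderOf x = p ^ 2 := by
      refine orderOf_eq_prime_pow (n := 1) ?_ ?_
      · rw [pow_one]; exact hxp1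
      · rw [pow_succ, pow_one, pow_mul]; exact hNp _ hxp
    have hcN : Nat.card N = p := by
      obtain ⟨n, hn⟩ := (IsPGroup.iff_card).1 (IsPi.isPGroup hp hNpi)
      have hn0 : n ≠ 0 := by
        rintro rfl
        exact hN1 (Subgroup.card_eq_one.1 (by rw [hn, pow_zero]))
      by_cases hn2 : n = 1
      · rw [hn, hn2, pow_one]
      · exfalso
        obtain ⟨K, hK⟩ := Sylow.exists_subgroup_card_pow_prime (G := N) p (n := 2) (by
          rw [hn]; exact pow_dvd_pow p (by omega))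
        have hKN : K.map N.subtype ≤ N := Subgroup.map_subtype_le K
        obtain ⟨g, hg⟩ := hB (K.map N.subtype) (zpowers x)
          (comm_mono hKN (comm_iff_le_cz.2 hNab)) inferInstance (by
            rw [card_map_subtype, hK, Nat.card_zpowers, hox])
        have h3 : x ∈ (K.map N.subtype) ^ᵍ g := hg ▸ mem_zpowers x
        have h4 : N ^ᵍ g = N := cj_le_of_le_nz hN (mem_top g)
        apply hk2
        rw [← h4]
        exact Subgroup.map_mono hKN h3
    have hNz : zpowers (x ^ p) = N := card_prime_zpowers hp hcN hxp hxp1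
    have hAN : A ≤ 𝓒(N) := by
      rw [le_cz_comm, ← hNz, zpowers_le, mem_cz]
      intro a ha
      have hc : x⁻¹ * a * x * a⁻¹ ∈ N := by
        have h1 := hA (commutator_mem_commutator (A.inv_mem (hRA hxR)) ha)
        rw [commutatorElement_def, inv_inv] at h1
        exact h1
      have hcx : Commute x (x⁻¹ * a * x * a⁻¹) := by
        rw [← hNz] at hc
        obtain ⟨j, hj⟩ := mem_zpowers_iff.1 hc
        rw [← hj]
        exact ((Commute.refl x).pow_right p).zpow_right j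
      have h1 : a * x * a⁻¹ = x * (x⁻¹ * a * x * a⁻¹) := by group
      have h2 : a * x ^ p * a⁻¹ = x ^ p := by
        rw [← conj_pow, h1, hcx.mul_pow, hNp _ hc, mul_one]
      exact mul_inv_eq_iff_eq_mul.1 h2
    refine ⟨hcN, hAN, ?_, x, hxR, hox⟩
    rw [le_cz_comm, ← comm_eq_bot_iff]
    have hRs : Group.IsSolvable R := solvable_sub hRA hAs
    have hcop : (Nat.card H).Coprime (Nat.card R) := by
      obtain ⟨n, hn⟩ := (IsPGroup.iff_card).1 hRp
      rw [hn]; exact hHp.pow_right n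
    rw [← cop_comm_comm (hHA.trans hAR) hcop hRs, comm_eq_bot_iff]
    exact ((commutator_mono hRA hHA).trans hA).trans (le_cz_comm.1 (hHA.trans hAN))

theorem hall_card_dvd' {π : Set ℕ} {R R' A B : Subgroup G} (h : IsPiHallOf π R A)
    (h' : IsPiHallOf π R' B) (hc : Nat.card A = Nat.card B) : Nat.card R ∣ Nat.card R' := by
  have h1 : Nat.card R ∣ Nat.card R' * R'.relIndex B := by
    have h2 : Nat.card R' * R'.relIndex B = Nat.card B := by
      rw [← card_subgroupOf (hall_le h'), Subgroup.relIndex, Subgroup.card_mul_index]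
    rw [h2, ← hc]
    exact Subgroup.card_dvd_of_le (hall_le h)
  refine Nat.Coprime.dvd_of_dvd_mul_right ?_ h1
  by_contra hcon
  obtain ⟨q, hq, hq1, hq2⟩ := Nat.Prime.not_coprime_iff_dvd.1 hcon
  exact h'.2.2 q hq (h.2.1 q hq hq1) hq2

theorem hall_card_eq' {π : Set ℕ} {R R' A B : Subgroup G} (h : IsPiHallOf π R A)
    (h' : IsPiHallOf π R' B) (hc : Nat.card A = Nat.card B) : Nat.card R = Nat.card R' :=
  Nat.dvd_antisymm (hall_card_dvd' h h' hc) (hall_card_dvd' h' h hc.symm)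

end

end CfsgLib.BGPi
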