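import Cfsg.Agent.EqBase
import Cfsg.Agent.LibBG22b

open Subgroup
open scoped Pointwise commutatorElement

namespace CfsgLib.BGPi

open Cfsg

universe u

section
variable {G : Type u} [Group G] [Finite G]

theorem comm_mem_of_der {A N : Subgroup G} (hA : ⁅A, A⁆ ≤ N) {x y : G} (hx : x ∈ A) (hy : y ∈ A) :
    y⁻¹ * x⁻¹ * y * x ∈ N := by
  have h1 := hA (commutator_mem_commutator (A.inv_mem hy) (A.inv_mem hx))
  rw [commutatorElement_def, inv_inv, inv_inv] at h1
  exact h1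

/-- the order-eight step -/
theorem card_eight {R : Subgroup G} (hR : IsPi {2} R) (h8 : Nat.card R ≤ 8)
    (hn : ¬ R ≤ 𝓒(R)) : Nat.card R = 8 := by
  haveI := Fact.mk Nat.prime_two
  obtain ⟨k, hk⟩ := (IsPGroup.iff_card).1 (IsPi.isPGroup Nat.prime_two hR)
  have hk3 : k ≤ 3 := by
    by_contra hcon
    have h1 : 2 ^ 4 ≤ 2 ^ k := Nat.pow_le_pow_right (by norm_num) (by omega)
    rw [← hk] at h1
    omega
  have hk2 : ¬ k ≤ 2 := by
    intro hk2
    apply hn
    rw [← comm_iff_le_cz]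
    interval_cases k
    · have : Subsingleton R := by
        rw [← Nat.card_eq_one_iff_unique.trans (and_iff_left (⟨1⟩ : Nonempty R))]
        simpa using hk
      exact ⟨⟨fun a b => Subsingleton.elim _ _⟩⟩
    · haveI : IsCyclic R := isCyclic_of_prime_card (p := 2) (by simpa using hk)
      exact IsCyclic.commutative
    · have := IsPGroup.commutative_of_card_eq_prime_sq (p := 2) hk
      exact ⟨⟨fun a b => this a b⟩⟩
  have : k = 3 := by omega
  rw [hk, this]; norm_num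

theorem ca_key (hs : Group.IsSolvable G) (hB : CA G) {p : ℕ} (hp : p.Prime) {N : Subgroup G}
    (hN : (⊤ : Subgroup G) ≤ 𝓝(N)) (hNp : ∀ x ∈ N, x ^ p = 1) (hNab : N ≤ 𝓒(N)) (hN1 : N ≠ ⊥)
    (hq : p = 2 → Nat.card N = 2 → ∀ x y : G, x * y ≠ y * x → x ^ 4 = 1 → y ^ 4 = 1 →
      y⁻¹ * x⁻¹ * y * x ∈ N → ∀ S : Subgroup G, IsPi {2} S → Nat.card S ≤ 8)
    {A B : Subgroup G} (hNA : N ≤ A) (hNB : N ≤ B) (hA : ⁅A, A⁆ ≤ N) (hB' : ⁅B, B⁆ ≤ N)
    (hc : Nat.card A = Nat.card B) : ∃ g : G, B = A ^ᵍ g := by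
  haveI := Fact.mk hp
  obtain ⟨R, H, hR, hH, hNR, hHH, hRf⟩ := ca_dec hs hB hp hN hNp hNab hN1 hNA hA
  obtain ⟨R', H', hR', hH', hNR', hHH', hRf'⟩ := ca_dec hs hB hp hN hNp hNab hN1 hNB hB'
  have hcR := hall_card_eq' hR hR' hc
  have hcH := hall_card_eq' hH hH' hc
  have hAs := hall_sup_compl hR hH
  have hBs := hall_sup_compl hR' hH'
  by_cases hRN : R = N
  · have hRN' : N = R' := Subgroup.eq_of_le_of_card_ge hNR' (by rw [← hcR, hRN])
    obtain ⟨g, hg⟩ := hB H H' (comm_iff_le_cz.2 hHH) (comm_iff_le_cz.2 hHH') hcH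
    refine ⟨g, ?_⟩
    rw [← hAs, ← hBs, cj_sup, ← hg, hRN, ← hRN', cj_le_of_le_nz hN (mem_top g)]
  · have hRN' : R' ≠ N := by
      intro h
      exact hRN (Subgroup.eq_of_le_of_card_ge hNR (by rw [hcR, h])).symm
    obtain ⟨hcN, hAN, hHR, x, hx, hox⟩ := hRf hRN
    obtain ⟨-, hBN, hHR', x', hx', hox'⟩ := hRf' hRN'
    by_cases hab : R ≤ 𝓒(R) ∧ R' ≤ 𝓒(R')
    · refine hB A B ?_ ?_ hc
      · rw [← hAs]
        exact comm_sup (comm_iff_le_cz.2 hab.1) (comm_iff_le_cz.2 hHH) (le_cz_comm.1 hHR)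
      · rw [← hBs]
        exact comm_sup (comm_iff_le_cz.2 hab.2) (comm_iff_le_cz.2 hHH') (le_cz_comm.1 hHR')
    · -- the nonabelian case
      have hred : ∀ X Y : Subgroup G, IsPiHallOf {p} X Y → ⁅Y, Y⁆ ≤ N → Y ≤ 𝓒(N) →
          ¬ X ≤ 𝓒(X) → p = 2 ∧ ∀ S : Subgroup G, IsPi {2} S → Nat.card S ≤ 8 := by
        intro X Y hX hY hYN hXX
        have hXY := hall_le hX
        obtain ⟨h2, a, haX, b, hbX, hab, ha4, hb4⟩ := red hp (R := X) (N := N)
          (IsPi.isPGroup hp (hall_isPi hX)) hcN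
          (fun x hx y hy => comm_mem_of_der hY (hXY hx) (hXY hy))
          (fun x hx n hn => mem_cz.1 (hYN (hXY hx)) n hn)
          (fun x _ h => ca_el hB hp hN hNp hN1 h) (by
            by_contra hcon
            push Not at hcon
            exact hXX fun x hx => mem_cz.2 fun y hy => hcon y hy x hx)
        exact ⟨h2, hq h2 (h2 ▸ hcN) a b hab ha4 hb4 (comm_mem_of_der hY (hXY haX) (hXY hbX))⟩
      have hall : p = 2 ∧ (∀ S : Subgroup G, IsPi {2} S → Nat.card S ≤ 8) ∧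
          Nat.card R = 8 ∧ Nat.card R' = 8 := by
        by_cases h1 : R ≤ 𝓒(R)
        · have h2 : ¬ R' ≤ 𝓒(R') := fun h => hab ⟨h1, h⟩
          obtain ⟨h3, h4⟩ := hred R' B hR' hB' hBN h2
          subst h3
          have h5 := card_eight (hall_isPi hR') (h4 _ (hall_isPi hR')) h2
          exact ⟨rfl, h4, by rw [hcR, h5], h5⟩
        · obtain ⟨h3, h4⟩ := hred R A hR hA hAN h1
          subst h3
          have h5 := card_eight (hall_isPi hR) (h4 _ (hall_isPi hR)) h1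
          exact ⟨rfl, h4, h5, by rw [← hcR, h5]⟩
      obtain ⟨h2, h8, hR8, hR8'⟩ := hall
      subst h2
      -- the abelian subgroups of order `4 |H|`
      have hxH : zpowers x ≤ 𝓒(H) := (zpowers_le.2 hx).trans (le_cz_comm.1 hHR)
      have hxH' : zpowers x' ≤ 𝓒(H') := (zpowers_le.2 hx').trans (le_cz_comm.1 hHR')
      have hcard : ∀ (X K : Subgroup G) (t : G), t ∈ X → IsPi {2} X → IsPi {2}ᶜ K →
          orderOf t = 2 ^ 2 → zpowers t ≤ 𝓒(K) → Nat.card ↥(zpowers t ⊔ K) = 4 * Nat.card K := by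
        intro X K t ht hX hK hot htK
        rw [card_sup_of_disjoint (le_nz_of_le_cz htK)
          (IsPi.inf_eq_bot (hX.le (zpowers_le.2 ht)) hK), Nat.card_zpowers, hot]
        norm_num
      have hc1 := hcard R H x hx (hall_isPi hR) (hall_isPi hH) hox hxH
      have hc2 := hcard R' H' x' hx' (hall_isPi hR') (hall_isPi hH') hox' hxH'
      obtain ⟨g, hg⟩ := hB (zpowers x ⊔ H) (zpowers x' ⊔ H')
        (comm_sup inferInstance (comm_iff_le_cz.2 hHH) hxH)
        (comm_sup inferInstance (comm_iff_le_cz.2 hHH') hxH') (by rw [hc1, hc2, hcH])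
      have hC'ab : IsMulCommutative ↥(zpowers x' ⊔ H') :=
        comm_sup inferInstance (comm_iff_le_cz.2 hHH') hxH'
      have hC'B : zpowers x' ⊔ H' ≤ B :=
        sup_le (zpowers_le.2 (hall_le hR' hx')) (hall_le hH')
      have hH'C : IsPiHallOf {2}ᶜ H' (zpowers x' ⊔ H') := hall_le_of_le hH' le_sup_right hC'B
      have hHg : H ^ᵍ g = H' := by
        have h1 : H ^ᵍ g ≤ zpowers x' ⊔ H' := by
          rw [hg, cj_sup]; exact le_sup_right
        have h2 : zpowers x' ⊔ H' ≤ 𝓝(H') := le_nz_of_le_cz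
          ((comm_iff_le_cz.1 hC'ab).trans (cz_anti le_sup_right))
        have h3 := le_hall_of_normal hH'C h2 ((hall_isPi hH).cj g) h1
        exact Subgroup.eq_of_le_of_card_ge h3 (by rw [card_cj, hcH])
      have hR1D : R ^ᵍ g ≤ 𝓒(H') := by
        rw [← hHg, cz_cj]
        exact Subgroup.map_mono (le_cz_comm.1 hHR)
      have hR2D : R' ≤ 𝓒(H') := le_cz_comm.1 hHR'
      have hsyl : ∀ X : Subgroup G, IsPi {2} X → Nat.card X = 8 → X ≤ 𝓒(H') →
          IsPiHallOf {2} X 𝓒(H') := by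
        intro X hX hX8 hXD
        obtain ⟨S, hS, hXS⟩ := exists_syl_ge Nat.prime_two hX hXD
        have h1 : X = S := Subgroup.eq_of_le_of_card_ge hXS (by
          rw [hX8]; exact h8 S (hall_isPi hS))
        rw [h1]; exact hS
      obtain ⟨d, hd, hdR⟩ := syl_conj Nat.prime_two
        (hsyl (R ^ᵍ g) ((hall_isPi hR).cj g) (by rw [card_cj, hR8]) hR1D)
        (hsyl R' (hall_isPi hR') hR8' hR2D)
      refine ⟨d * g, ?_⟩
      have hdH : H' ^ᵍ d = H' := cj_le_of_le_nz (cz_le_nz H') hd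
      rw [cj_mul, ← hAs, ← hBs, cj_sup, cj_sup, hHg, hdR, hdH]

end

end CfsgLib.BGPi
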