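import Cfsg.Agent.EqBase
import Cfsg.Agent.LibBG22c
import Cfsg.Agent.LibBGOm

open Subgroup
open scoped Pointwise commutatorElement

namespace CfsgLib.BGPi

open Cfsg

universe u

section
variable {G : Type u} [Group G] [Finite G]

theorem pw_lemma {g : G} {m : ℕ} (hg : g ^ (2 ^ m) = 1) {U : Subgroup G} (hgU : g ∉ U) :
    ∃ k : ℕ, g ^ k ∉ U ∧ (g ^ k) ^ 2 ∈ U := by
  classical
  have hex : ∃ k, g ^ (2 ^ k) ∈ U := ⟨m, by rw [hg]; exact U.one_mem⟩
  have h1 := Nat.find_spec hex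
  have h0 : Nat.find hex ≠ 0 := by
    intro h
    rw [h, pow_zero, pow_one] at h1
    exact hgU h1
  have h2 := Nat.find_min hex (m := Nat.find hex - 1) (by omega)
  refine ⟨2 ^ (Nat.find hex - 1), h2, ?_⟩
  rw [← pow_mul, ← pow_succ]
  have h3 : Nat.find hex - 1 + 1 = Nat.find hex := by omega
  rw [h3]; exact h1

theorem two_elt {T : Subgroup G} (hT : IsPi {2} T) {g : G} (hg : g ∈ T) :
    ∃ m : ℕ, g ^ (2 ^ m) = 1 := by
  obtain ⟨k, hk⟩ := (IsPi.isPGroup Nat.prime_two hT) ⟨g, hg⟩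
  exact ⟨k, congrArg Subtype.val hk⟩

theorem card_le_two_mul {T T₁ : Subgroup G} (h : T₁ ≤ T)
    (h1 : ∀ s ∈ T, ∀ s' ∈ T, s ∉ T₁ → s' ∉ T₁ → s⁻¹ * s' ∈ T₁) :
    Nat.card T ≤ 2 * Nat.card T₁ := by
  classical
  by_cases hT : T ≤ T₁
  · have := Subgroup.card_le_of_le hT
    omega
  · obtain ⟨s₀, hs₀, hs₀'⟩ : ∃ s ∈ T, s ∉ T₁ := by
      by_contra hcon
      push Not at hcon
      exact hT hcon
    let f : T → Bool × T₁ := fun s => if hs : (s : G) ∈ T₁ then (true, ⟨s, hs⟩)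
      else (false, ⟨s₀⁻¹ * s, h1 s₀ hs₀ s s.2 hs₀' hs⟩)
    have hf : Function.Injective f := by
      intro s s' hss
      simp only [f] at hss
      split_ifs at hss with h2 h3 h3
      · exact Subtype.ext (congrArg (fun t : Bool × T₁ => (t.2 : G)) hss)
      · exact absurd (congrArg Prod.fst hss) (by simp)
      · exact absurd (congrArg Prod.fst hss) (by simp)
      · have h4 := congrArg (fun t : Bool × T₁ => (t.2 : G)) hss
        exact Subtype.ext (mul_left_cancel h4)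
    have h2 := Nat.card_le_card_of_injective f hf
    rw [Nat.card_prod] at h2
    simpa using h2

theorem gam (hB : CA G) {N T : Subgroup G} (hN : (⊤ : Subgroup G) ≤ 𝓝(N)) (hNc : Nat.card N = 2)
    (hTn : (⊤ : Subgroup G) ≤ 𝓝(T)) (hT2 : IsPi {2} T) (hTC : 𝓒(T) ≤ T) (hNT : N ≤ T) {x y : G}
    (hxy : x * y ≠ y * x) (hx4 : x ^ 4 = 1) (hy4 : y ^ 4 = 1) :
    ∀ S : Subgroup G, IsPi {2} S → Nat.card S ≤ 8 := by
  have hN2 : ∀ n ∈ N, n ^ 2 = 1 := by
    intro n hn
    have h := pow_card_eq_one' (G := N) (x := ⟨n, hn⟩)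
    rw [hNc] at h
    exact congrArg Subtype.val h
  have hN1 : N ≠ ⊥ := by
    rintro rfl
    rw [Subgroup.card_bot] at hNc
    omega
  have hel : ∀ g : G, g ^ 2 = 1 → g ∈ N := fun g hg => ca_el hB Nat.prime_two hN hN2 hN1 hg
  obtain ⟨z, hz1, hzu⟩ := (Nat.card_eq_two_iff' (1 : N)).1 hNc
  have hzu' : ∀ m ∈ N, m ≠ 1 → m = z := by
    intro m hm hm1
    have h1 := hzu ⟨m, hm⟩ (fun h => hm1 (congrArg Subtype.val h))
    exact congrArg Subtype.val h1
  have hNcen : ∀ g n : G, n ∈ N → g * n = n * g := by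
    intro g n hn
    by_cases h1 : n = 1
    · rw [h1]; simp
    · have h2 : g * n * g⁻¹ ∈ N := le_nz.1 hN g (mem_top g) n hn
      have h3 : g * n * g⁻¹ ≠ 1 := fun h => h1 (by
        have := conj_eq_one_iff.1 h; exact this)
      have h4 : g * n * g⁻¹ = n := by rw [hzu' _ h2 h3, hzu' _ hn h1]
      exact mul_inv_eq_iff_eq_mul.1 h4
  have hsq : ∀ w : G, w ^ 4 = 1 → w ∉ N → w ^ 2 = z := by
    intro w hw hwN
    refine hzu' _ (hel _ (by rw [← pow_mul]; exact hw)) (fun h => hwN (hel w h))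
  have hord : ∀ w : G, w ^ 4 = 1 → w ∉ N → orderOf w = 4 := by
    intro w hw hwN
    have h1 := orderOf_eq_prime_pow (p := 2) (n := 1) (x := w)
      (by rw [pow_one]; exact fun h => hwN (hel w h)) hw
    exact h1
  have hxN : x ∉ N := fun h => hxy (hNcen y x h).symm
  have hyN : y ∉ N := fun h => hxy (hNcen x y h)
  have hzz : (z : G) * z = 1 := by rw [← pow_two]; exact hN2 _ z.2
  -- odd powers
  have hodd : ∀ w : G, w ^ 4 = 1 → w ∉ N → ∀ v ∈ zpowers w, v ∉ N → v = w ∨ v = w⁻¹ := by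
    intro w hw hwN v hv hvN
    obtain ⟨j, rfl⟩ := mem_zpowers_iff.1 hv
    have hw2 := hsq w hw hwN
    have hwi : w ^ 2 * w = w⁻¹ := by
      rw [eq_inv_iff_mul_eq_one, ← pow_succ, ← pow_succ]; exact hw
    have hNi : ∀ i : ℤ, w ^ (2 * i) ∈ N := by
      intro i
      rw [zpow_mul]
      have h1 : w ^ (2 : ℤ) = z := by rw [← hw2]; norm_cast
      rw [h1]
      exact N.zpow_mem z.2 i
    obtain ⟨i, rfl | rfl⟩ := Int.even_or_odd' j
    · exact absurd (hNi i) hvN
    · by_cases h1 : w ^ (2 * i) = 1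
      · left; rw [zpow_add, h1, one_mul, zpow_one]
      · right
        rw [zpow_add, hzu' _ (hNi i) h1, ← hw2, zpow_one, hwi]
  -- a normal cyclic subgroup of order 4
  have hTN : ¬ T ≤ N := by
    intro h
    apply hxN
    apply h
    apply hTC
    rw [mem_cz]
    intro t ht
    exact (hNcen x t (h ht)).symm
  obtain ⟨D, hD⟩ := Set.Finite.exists_minimal (Set.toFinite
    {D : Subgroup G | D ≤ T ∧ T ≤ 𝓝(D) ∧ ¬ D ≤ N}) ⟨T, le_rfl, le_normalizer, hTN⟩
  obtain ⟨hDT, hTD, hDN⟩ := hD.prop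
  have hT2' := IsPi.isPGroup Nat.prime_two hT2
  have hDTN : ⁅D, T⁆ ≤ N := by
    by_contra hcon
    have h1 := pgroup_comm_lt Nat.prime_two hT2' hDT hTD (fun h => hDN (h ▸ bot_le))
    have h2 := hD.le_of_le (y := ⁅D, T⁆) ⟨h1.le.trans hDT, right_le_nz_comm D T, hcon⟩ h1.le
    exact absurd h2 (not_le_of_gt h1)
  obtain ⟨t₀, ht₀, ht₀N⟩ : ∃ t ∈ D, t ∉ N := by
    by_contra hcon
    push Not at hcon
    exact hDN hcon
  obtain ⟨m, hm⟩ := two_elt hT2 (hDT ht₀)
  obtain ⟨k, hkN, hk2⟩ := pw_lemma hm ht₀N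
  set t := t₀ ^ k with ht
  have htD : t ∈ D := D.pow_mem ht₀ k
  have ht4 : t ^ 4 = 1 := by
    have h1 := hN2 _ hk2
    rw [← pow_mul] at h1
    exact h1
  have htsq := hsq t ht4 hkN
  have hTt : T ≤ 𝓝(zpowers t) := by
    rw [le_nz]
    intro s hs h hh
    obtain ⟨j, rfl⟩ := mem_zpowers_iff.1 hh
    have h1 : s * t * s⁻¹ ∈ zpowers t := by
      have h2 : t⁻¹ * s * t * s⁻¹ ∈ N := by
        have h3 := hDTN (commutator_mem_commutator (D.inv_mem htD) hs)
        rw [commutatorElement_def, inv_inv] at h3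
        exact h3
      have h4 : s * t * s⁻¹ = t * (t⁻¹ * s * t * s⁻¹) := by group
      rw [h4]
      refine mul_mem (mem_zpowers t) ?_
      by_cases h5 : t⁻¹ * s * t * s⁻¹ = 1
      · rw [h5]; exact one_mem _
      · rw [hzu' _ h2 h5, ← htsq]; exact pow_mem (mem_zpowers t) 2
    rw [← conj_zpow]
    exact zpow_mem h1 j
  have hall4 : ∀ w : G, w ^ 4 = 1 → w ∉ N → w ∈ T ∧ T ≤ 𝓝(zpowers w) := by
    intro w hw hwN
    obtain ⟨g, hg⟩ := hB (zpowers t) (zpowers w) inferInstance inferInstance (by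
      rw [Nat.card_zpowers, Nat.card_zpowers, hord t ht4 hkN, hord w hw hwN])
    have hTg : T ^ᵍ g = T := cj_le_of_le_nz hTn (mem_top g)
    constructor
    · rw [← hTg]
      have h3 : w ∈ (zpowers t) ^ᵍ g := hg ▸ mem_zpowers w
      exact Subgroup.map_mono (zpowers_le.2 (hDT htD)) h3
    · rw [hg, nz_cj]
      conv_lhs => rw [← hTg]
      exact Subgroup.map_mono hTt
  have hconj : ∀ w : G, w ^ 4 = 1 → w ∉ N → ∀ s ∈ T, s * w * s⁻¹ = w ∨ s * w * s⁻¹ = w⁻¹ := by
    intro w hw hwN s hs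
    refine hodd w hw hwN _ (le_nz.1 (hall4 w hw hwN).2 s hs w (mem_zpowers w)) ?_
    intro h
    apply hwN
    have h1 := le_nz.1 hN s⁻¹ (mem_top _) _ h
    have h2 : s⁻¹ * (s * w * s⁻¹) * s⁻¹⁻¹ = w := by group
    rwa [h2] at h1
  have hxT := (hall4 x hx4 hxN).1
  have hyT := (hall4 y hy4 hyN).1
  -- the centralizer of `x` and `y` in `T`
  have hC0 : ∀ c ∈ T, c * x = x * c → c * y = y * c → c ∈ N := by
    intro c hc hcx hcy
    by_contra hcN
    obtain ⟨m, hm⟩ := two_elt hT2 hc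
    obtain ⟨k, hkN, hk2⟩ := pw_lemma hm hcN
    set d := c ^ k with hd
    have hd4 : d ^ 4 = 1 := by
      have h1 := hN2 _ hk2
      rw [← pow_mul] at h1
      exact h1
    have hdx : Commute x d := (show Commute x c from hcx.symm).pow_right k
    have hdy : Commute y d := (show Commute y c from hcy.symm).pow_right k
    have h1 : x * d ∈ N := by
      apply hel
      rw [hdx.mul_pow, hsq x hx4 hxN, hsq d hd4 hkN, hzz]
    apply hxy
    have h2 : y * (x * d) = (x * d) * y := hNcen y _ h1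
    have h3 : (y * x) * d = (x * y) * d := by
      rw [mul_assoc, h2, mul_assoc, mul_assoc, hdy.eq]
    exact (mul_right_cancel h3).symm
  have hcz : ∀ w : G, w ^ 4 = 1 → w ∉ N → ∀ U : Subgroup G, U ≤ T →
      Nat.card U ≤ 2 * Nat.card ↥(U ⊓ Subgroup.centralizer ({w} : Set G)) := by
    intro w hw hwN U hU
    refine card_le_two_mul inf_le_left ?_
    intro s hs s' hs' h h'
    have hh : ∀ s ∈ U, s ∉ U ⊓ Subgroup.centralizer ({w} : Set G) → s * w * s⁻¹ = w⁻¹ := by
      intro s hs h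
      rcases hconj w hw hwN s (hU hs) with h1 | h1
      · exfalso
        apply h
        refine ⟨hs, Subgroup.mem_centralizer_singleton_iff.2 ?_⟩
        first
          | exact (mul_inv_eq_iff_eq_mul.1 h1)
          | exact (mul_inv_eq_iff_eq_mul.1 h1).symm
      · exact h1
    have h1 := hh s hs h
    have h2 := hh s' hs' h'
    refine ⟨U.mul_mem (U.inv_mem hs) hs', Subgroup.mem_centralizer_singleton_iff.2 ?_⟩
    have h3 : (s⁻¹ * s') * w * (s⁻¹ * s')⁻¹ = w := by
      calc (s⁻¹ * s') * w * (s⁻¹ * s')⁻¹ = s⁻¹ * (s' * w * s'⁻¹) * s := by group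
        _ = s⁻¹ * (s * w * s⁻¹) * s := by rw [h2, h1]
        _ = w := by group
    first
      | exact (mul_inv_eq_iff_eq_mul.1 h3)
      | exact (mul_inv_eq_iff_eq_mul.1 h3).symm
  have hT8 : Nat.card T ≤ 8 := by
    have h1 := hcz x hx4 hxN T le_rfl
    have h2 := hcz y hy4 hyN (T ⊓ Subgroup.centralizer ({x} : Set G)) inf_le_left
    have h3 : Nat.card ↥(T ⊓ Subgroup.centralizer ({x} : Set G) ⊓
        Subgroup.centralizer ({y} : Set G)) ≤ 2 := by
      rw [← hNc]
      refine Subgroup.card_le_of_le ?_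
      rintro c ⟨⟨hc, hcx⟩, hcy⟩
      have h4 := Subgroup.mem_centralizer_singleton_iff.1 hcx
      have h5 := Subgroup.mem_centralizer_singleton_iff.1 hcy
      refine hC0 c hc ?_ ?_
      · first
          | exact h4
          | exact h4.symm
      · first
          | exact h5
          | exact h5.symm
    omega
  have hT4 : ∀ w ∈ T, w ^ 4 = 1 := by
    intro w hw
    by_contra hw4
    obtain ⟨m, hm⟩ := two_elt hT2 hw
    haveI := Fact.mk Nat.prime_two
    obtain ⟨k, hk, hk2⟩ := (Nat.dvd_prime_pow Nat.prime_two).1 (orderOf_dvd_of_pow_eq_one hm)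
    have hk3 : 3 ≤ k := by
      by_contra hcon
      apply hw4
      apply orderOf_dvd_iff_pow_eq_one.1
      rw [hk2]
      calc 2 ^ k ∣ 2 ^ 2 := pow_dvd_pow 2 (by omega)
        _ = 4 := by norm_num
    have h8 : 8 ≤ Nat.card (zpowers w) := by
      rw [Nat.card_zpowers, hk2]
      calc 8 = 2 ^ 3 := by norm_num
        _ ≤ 2 ^ k := Nat.pow_le_pow_right (by norm_num) hk3
    have h1 : zpowers w = T := Subgroup.eq_of_le_of_card_ge (zpowers_le.2 hw) (hT8.trans h8)
    have h2 : IsMulCommutative T := h1 ▸ (inferInstance : IsMulCommutative (zpowers w))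
    exact hxy (mem_cz.1 (comm_iff_le_cz.1 h2 hyT) x hxT)
  intro S hS
  have hST : IsPi {2} (S ⊔ T) := hS.sup hT2 (le_top.trans hTn)
  suffices h : S ⊔ T ≤ T from (Subgroup.card_le_of_le (le_sup_left.trans h)).trans hT8
  by_contra hcon
  obtain ⟨g₀, hg₀, hg₀T⟩ : ∃ g ∈ S ⊔ T, g ∉ T := by
    by_contra hcon'
    push Not at hcon'
    exact hcon hcon'
  obtain ⟨m, hm⟩ := two_elt hST hg₀
  obtain ⟨k, hgT, hg2⟩ := pw_lemma hm hg₀T
  set g := g₀ ^ k with hg
  have hout : ∀ g : G, g ∉ T → g ^ 4 ≠ 1 := by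
    intro g hgT h
    by_cases h1 : g ∈ N
    · exact hgT (hNT h1)
    · exact hgT (hall4 g h h1).1
  set a := g ^ 2 with ha
  have ha4 : a ^ 4 = 1 := hT4 a hg2
  have haN : a ∉ N := by
    intro h
    apply hout g hgT
    have h1 := hN2 _ h
    rw [ha, ← pow_mul] at h1
    exact h1
  have hga : Commute g a := (Commute.refl g).pow_right 2
  obtain ⟨b, hbT, hba⟩ : ∃ b ∈ T, b * a ≠ a * b := by
    by_contra hcon'
    push Not at hcon'
    exact haN (hC0 a hg2 (hcon' x hxT).symm (hcon' y hyT).symm)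
  have hb4 : b ^ 4 = 1 := hT4 b hbT
  have hbN : b ∉ N := fun h => hba (hNcen a b h).symm
  have hbz : b ∉ zpowers a := by
    intro h
    obtain ⟨j, rfl⟩ := mem_zpowers_iff.1 h
    exact hba ((Commute.refl a).zpow_left j)
  have hidx : ((zpowers a).subgroupOf T).index = 2 := by
    have h1 : Nat.card (zpowers a) * ((zpowers a).subgroupOf T).index = Nat.card T := by
      rw [← card_subgroupOf (zpowers_le.2 hg2), Subgroup.card_mul_index]
    rw [Nat.card_zpowers, hord a ha4 haN] at h1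
    have h2 : ((zpowers a).subgroupOf T).index ≠ 1 := by
      rw [Ne, Subgroup.index_eq_one]
      intro h
      have h3 : (⟨b, hbT⟩ : T) ∈ (zpowers a).subgroupOf T := by rw [h]; exact mem_top _
      exact hbz h3
    have h3 := card_pos' T
    have h4 : ((zpowers a).subgroupOf T).index ≠ 0 := by
      intro h; rw [h] at h1; omega
    omega
  have hmul : ∀ u ∈ T, ∀ v ∈ T, u ∉ zpowers a → v ∉ zpowers a → u * v ∈ zpowers a := by
    intro u hu v hv h1 h2
    have h3 := (Subgroup.mul_mem_iff_of_index_two hidx (a := (⟨u, hu⟩ : T))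
      (b := (⟨v, hv⟩ : T))).2 (iff_of_false h1 h2)
    exact h3
  set b' := g * b * g⁻¹ with hb'
  have hb'T : b' ∈ T := le_nz.1 hTn g (mem_top g) b hbT
  have hb'z : b' ∉ zpowers a := by
    intro h
    apply hba
    obtain ⟨j, hj⟩ := mem_zpowers_iff.1 h
    have h1 : b' * a = a * b' := by
      rw [← hj]; exact (Commute.refl a).zpow_left j
    have h2 : b = g⁻¹ * b' * g := by rw [hb']; group
    have h3 : Commute g⁻¹ a := hga.inv_left
    rw [h2]
    calc g⁻¹ * b' * g * a = g⁻¹ * b' * (g * a) := by group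
      _ = g⁻¹ * (b' * a) * g := by rw [hga.eq]; group
      _ = (g⁻¹ * a) * b' * g := by rw [h1]; group
      _ = a * (g⁻¹ * b' * g) := by rw [h3.eq]; group
  have hbgT : b * g ∉ T := fun h => hgT ((Subgroup.mul_mem_cancel_left T hbT).1 h)
  have hbg2 : (b * g) ^ 2 = b * b' * a := by
    rw [hb', ha, pow_two, pow_two]; group
  have hbb' : b * b' ∈ zpowers a := hmul b hbT b' hb'T hbz hb'z
  have he : b * b' * a ∈ zpowers a := mul_mem hbb' (mem_zpowers a)
  have heN : b * b' * a ∉ N := by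
    intro h
    apply hout _ hbgT
    have h1 := hN2 _ h
    rw [← hbg2, ← pow_mul] at h1
    exact h1
  have hb'b : b' = b ∨ b' = b⁻¹ := by
    rcases hodd a ha4 haN _ he heN with h1 | h1
    · right
      have h2 : b * b' = 1 := mul_eq_right.1 h1
      exact (inv_eq_of_mul_eq_one_right h2).symm
    · left
      have h2 : b * b' * (a * a) = 1 := by
        rw [← mul_assoc, h1, inv_mul_cancel]
      rw [← pow_two, hsq a ha4 haN, ← hsq b hb4 hbN] at h2
      have h3 : b' * b ^ 2 = b⁻¹ := by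
        rw [eq_comm, inv_eq_iff_mul_eq_one, ← mul_assoc]; exact h2
      have h4 : b' = b⁻¹ * (b ^ 2)⁻¹ := by rw [← h3]; group
      rw [h4]
      have h5 : b ^ 2 * b ^ 2 = 1 := by rw [← pow_add]; exact hb4
      have h6 : (b ^ 2)⁻¹ = b ^ 2 := inv_eq_of_mul_eq_one_left h5
      rw [h6, pow_two]; group
  obtain ⟨g', hg'T, hg'a, hg'b⟩ : ∃ g' : G, g' ∉ T ∧ g' * a = a * g' ∧ g' * b * g'⁻¹ = b := by
    rcases hb'b with h1 | h1
    · exact ⟨g, hgT, hga.eq, h1⟩
    · refine ⟨a * g, fun h => hgT ((Subgroup.mul_mem_cancel_left T hg2).1 h), ?_, ?_⟩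
      · rw [mul_assoc, hga.eq]
      · rcases hconj b hb4 hbN a hg2 with h2 | h2
        · exfalso
          exact hba (mul_inv_eq_iff_eq_mul.1 h2).symm
        · calc a * g * b * (a * g)⁻¹ = a * (g * b * g⁻¹) * a⁻¹ := by group
            _ = a * b⁻¹ * a⁻¹ := by rw [← hb', h1]
            _ = (a * b * a⁻¹)⁻¹ := by group
            _ = b := by rw [h2, inv_inv]
  have hg'b' : g' * b = b * g' := mul_inv_eq_iff_eq_mul.1 hg'b
  apply hg'T
  apply hTC
  rw [mem_cz]
  intro u hu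
  have hzc : ∀ v ∈ zpowers a, g' * v = v * g' := by
    intro v hv
    obtain ⟨j, rfl⟩ := mem_zpowers_iff.1 hv
    exact (show Commute g' a from hg'a).zpow_right j
  by_cases huz : u ∈ zpowers a
  · exact (hzc u huz).symm
  · have h1 : b * u ∈ zpowers a := hmul b hbT u hu hbz huz
    have h2 := hzc _ h1
    have h3 : b * (g' * u) = b * (u * g') := by
      rw [← mul_assoc, ← hg'b', mul_assoc, h2, mul_assoc]
    exact (mul_left_cancel h3).symm

end

end CfsgLib.BGPi
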