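import Cfsg.Agent.EqBase
import Cfsg.Agent.LibBG22d
import Cfsg.Agent.LibBGPlen
import Cfsg.Agent.LibBGThm34

open Subgroup
open scoped Pointwise commutatorElement

namespace CfsgLib.BGPi

open Cfsg

universe u

section
variable {G : Type u} [Group G] [Finite G]

theorem ca_quot {G' : Type u} [Group G'] [Finite G'] (f : G →* G') (hf : Function.Surjective f)
    (h : ∀ A B : Subgroup G, f.ker ≤ A → f.ker ≤ B → ⁅A, A⁆ ≤ f.ker → ⁅B, B⁆ ≤ f.ker →
      Nat.card A = Nat.card B → ∃ g : G, B = A ^ᵍ g) : CA G' := by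
  intro A B hA hB hc
  have hder : ∀ A : Subgroup G', IsMulCommutative A → ⁅A.comap f, A.comap f⁆ ≤ f.ker := by
    intro A hA
    rw [← Subgroup.map_eq_bot_iff, Subgroup.map_commutator,
      Subgroup.map_comap_eq_self_of_surjective hf]
    exact comm_iff_comm_bot.1 hA
  have hidx : ∀ A : Subgroup G', Nat.card (A.comap f) * A.index = Nat.card G := by
    intro A
    rw [← Subgroup.index_comap_of_surjective A hf, Subgroup.card_mul_index]
  have h1 : A.index = B.index := by
    have h2 := A.card_mul_index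
    have h3 := B.card_mul_index
    rw [hc, ← h3] at h2
    exact Nat.eq_of_mul_eq_mul_left (card_pos' B) h2
  have h4 : Nat.card (A.comap f) = Nat.card (B.comap f) := by
    have h2 := hidx A
    rw [h1, ← hidx B] at h2
    exact Nat.eq_of_mul_eq_mul_right (Nat.pos_of_ne_zero Subgroup.index_ne_zero_of_finite) h2
  obtain ⟨g, hg⟩ := h (A.comap f) (B.comap f) (Subgroup.ker_le_comap f A)
    (Subgroup.ker_le_comap f B) (hder A hA) (hder B hB) h4
  refine ⟨f g, ?_⟩
  rw [← Subgroup.map_comap_eq_self_of_surjective hf B, hg]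
  ext y
  rw [mem_cj]
  constructor
  · rintro ⟨x, hx, rfl⟩
    have h5 : g⁻¹ * x * g ∈ A.comap f := mem_cj.1 hx
    simpa using h5
  · intro hy
    obtain ⟨x, rfl⟩ := hf y
    refine ⟨x, mem_cj.2 ?_, rfl⟩
    show f (g⁻¹ * x * g) ∈ A
    simpa using hy

theorem exists_elem_in (hs : Group.IsSolvable G) {M : Subgroup G} (hM : (⊤ : Subgroup G) ≤ 𝓝(M))
    (hM1 : M ≠ ⊥) : ∃ (p : ℕ) (N : Subgroup G), p.Prime ∧ p ∣ Nat.card M ∧ N ≤ M ∧
      (⊤ : Subgroup G) ≤ 𝓝(N) ∧ N ≠ ⊥ ∧ N ≤ 𝓒(N) ∧ ∀ x ∈ N, x ^ p = 1 := by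
  obtain ⟨D, hD⟩ := Set.Finite.exists_minimal (Set.toFinite
    {D : Subgroup G | D ≤ M ∧ (⊤ : Subgroup G) ≤ 𝓝(D) ∧ D ≠ ⊥}) ⟨M, le_rfl, hM, hM1⟩
  obtain ⟨hDM, hDn, hD1⟩ := hD.prop
  have hDs : Group.IsSolvable D := by
    haveI := hs
    exact Group.isSolvable_of_isSolvable_injective (f := D.subtype) (Subgroup.subtype_injective D)
  have hlt := comm_lt_of_solvable hDs hD1
  have hab : ⁅D, D⁆ = ⊥ := by
    by_contra h
    have h2 := hD.le_of_le (y := ⁅D, D⁆) ⟨hlt.le.trans hDM, le_nz_comm hDn hDn, h⟩ hlt.le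
    exact absurd h2 (not_le_of_gt hlt)
  have hDD : D ≤ 𝓒(D) := comm_eq_bot_iff.1 hab
  have hcd : Nat.card D ≠ 1 := fun h => hD1 (Subgroup.card_eq_one.1 h)
  obtain ⟨p, hp, hpD⟩ := Nat.exists_prime_and_dvd hcd
  haveI := Fact.mk hp
  let N : Subgroup G :=
    { carrier := {x | x ∈ D ∧ x ^ p = 1}
      mul_mem' := fun {a b} ha hb => ⟨D.mul_mem ha.1 hb.1, by
        have h1 : Commute a b := mem_cz.1 (hDD hb.1) a ha.1
        rw [h1.mul_pow, ha.2, hb.2, one_mul]⟩
      one_mem' := ⟨D.one_mem, one_pow p⟩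
      inv_mem' := fun {a} ha => ⟨D.inv_mem ha.1, by rw [inv_pow, ha.2, inv_one]⟩ }
  have hND : N ≤ D := fun x hx => hx.1
  refine ⟨p, N, hp, hpD.trans (Subgroup.card_dvd_of_le hDM), hND.trans hDM, ?_, ?_,
    hND.trans (hDD.trans (cz_anti hND)), fun x hx => hx.2⟩
  · rw [le_nz]
    intro k hk h hh
    exact ⟨le_nz.1 hDn k hk h hh.1, by rw [conj_pow, hh.2]; group⟩
  · intro h
    obtain ⟨x, hx⟩ := exists_prime_orderOf_dvd_card' (G := D) p hpD
    have h1 : (x : G) ∈ N := ⟨x.2, by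
      have h2 : x ^ p = 1 := by rw [← hx]; exact pow_orderOf_eq_one x
      exact congrArg (fun t : D => (t : G)) h2⟩
    rw [h] at h1
    have h2 : x = 1 := Subtype.ext (Subgroup.mem_bot.1 h1)
    rw [h2, orderOf_one] at hx
    exact hp.one_lt.ne hx

/-- quotient by an elementary abelian normal subgroup, given the order-two input -/
theorem ca_elem (hs : Group.IsSolvable G) (hB : CA G) {p : ℕ} (hp : p.Prime) {N : Subgroup G}
    [N.Normal] (hN1 : N ≠ ⊥) (hNab : N ≤ 𝓒(N)) (hNp : ∀ x ∈ N, x ^ p = 1)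
    (hq : p = 2 → Nat.card N = 2 → ∀ x y : G, x * y ≠ y * x → x ^ 4 = 1 → y ^ 4 = 1 →
      y⁻¹ * x⁻¹ * y * x ∈ N → ∀ S : Subgroup G, IsPi {2} S → Nat.card S ≤ 8) : CA (G ⧸ N) := by
  refine ca_quot (QuotientGroup.mk' N) (QuotientGroup.mk'_surjective N) ?_
  rw [QuotientGroup.ker_mk']
  intro A B hA hB' h1 h2 hc
  have hN : (⊤ : Subgroup G) ≤ 𝓝(N) := le_nz.2 fun k _ h hh => (inferInstance : N.Normal).conj_mem h hh k
  exact ca_key hs hB hp hN hNp hNab hN1 hq hA hB' h1 h2 hc

end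

theorem ca_main : ∀ (n : ℕ) (G : Type u) [Group G] [Finite G], Nat.card G ≤ n →
    Group.IsSolvable G → CA G → ∀ (G' : Type u) [Group G'] [Finite G'] (f : G →* G'),
    Function.Surjective f → CA G' := by
  intro n
  induction n with
  | zero =>
    intro G _ _ hn
    have := Nat.card_pos (α := G)
    omega
  | succ n ih =>
    intro G _ _ hn hs hB
    haveI := hs
    -- trivial kernel
    have htriv : ∀ (G' : Type u) [Group G'] [Finite G'] (f : G →* G'), Function.Surjective f →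
        f.ker = ⊥ → CA G' := by
      intro G' _ _ f hf hk
      refine ca_quot f hf ?_
      rw [hk]
      intro A B _ _ h1 h2 hc
      exact hB A B (comm_iff_comm_bot.2 (le_bot_iff.1 h1)) (comm_iff_comm_bot.2 (le_bot_iff.1 h2)) hc
    -- step
    have hstep : ∀ (G' : Type u) [Group G'] [Finite G'] (f : G →* G'), Function.Surjective f →
        ∀ (N : Subgroup G) [N.Normal], N ≤ f.ker → N ≠ ⊥ → CA (G ⧸ N) → CA G' := by
      intro G' _ _ f hf N _ hNf hN1 hCA
      have hlt : Nat.card (G ⧸ N) ≤ n := by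
        have h1 := Subgroup.card_eq_card_quotient_mul_card_subgroup N
        have h2 : 1 < Nat.card N := by
          have h3 := card_pos' N
          have h4 : Nat.card N ≠ 1 := fun h => hN1 (Subgroup.card_eq_one.1 h)
          omega
        have h3 : 0 < Nat.card (G ⧸ N) := Nat.card_pos
        nlinarith
      have hs' : Group.IsSolvable (G ⧸ N) := inferInstance
      exact ih (G ⧸ N) hlt hs' hCA G' (QuotientGroup.lift N f fun x hx => hNf hx) (by
        intro y
        obtain ⟨x, rfl⟩ := hf y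
        exact ⟨QuotientGroup.mk x, rfl⟩)
    have hkn : ∀ (G' : Type u) [Group G'] (f : G →* G'), (⊤ : Subgroup G) ≤ 𝓝(f.ker) :=
      fun G' _ f => le_nz.2 fun k _ h hh => f.normal_ker.conj_mem h hh k
    have hnorm : ∀ N : Subgroup G, (⊤ : Subgroup G) ≤ 𝓝(N) → N.Normal :=
      fun N hN => ⟨fun x hx g => le_nz.1 hN g (mem_top g) x hx⟩
    -- odd kernels
    have hodd : ∀ (G' : Type u) [Group G'] [Finite G'] (f : G →* G'), Function.Surjective f →
        (Nat.card f.ker).Coprime 2 → CA G' := by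
      intro G' _ _ f hf hk
      by_cases hk1 : f.ker = ⊥
      · exact htriv G' f hf hk1
      obtain ⟨p, N, hp, hpk, hNk, hNn, hN1, hNab, hNp⟩ := exists_elem_in hs (hkn G' f) hk1
      haveI := hnorm N hNn
      refine hstep G' f hf N hNk hN1 (ca_elem hs hB hp hN1 hNab hNp ?_)
      intro h2
      subst h2
      exact absurd hpk ((Nat.Prime.coprime_iff_not_dvd Nat.prime_two).1 hk.symm)
    intro G' _ _ f hf
    by_cases hk1 : f.ker = ⊥
    · exact htriv G' f hf hk1
    obtain ⟨p, N, hp, hpk, hNk, hNn, hN1, hNab, hNp⟩ := exists_elem_in hs (hkn G' f) hk1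
    haveI hNnor := hnorm N hNn
    refine hstep G' f hf N hNk hN1 (ca_elem hs hB hp hN1 hNab hNp ?_)
    intro h2 hcN x y hxy hx hy hcom S hS
    subst h2
    haveI : Fact (Nat.Prime 2) := ⟨Nat.prime_two⟩
    -- the quotient by the odd core
    set O := pPrimeCore 2 G with hO
    have hOc : (Nat.card O).Coprime 2 := coprime_core 2
    set π := QuotientGroup.mk' O with hπ
    have hker : π.ker = O := QuotientGroup.ker_mk' O
    have hCA : CA (G ⧸ O) := hodd (G ⧸ O) π (QuotientGroup.mk'_surjective O) (by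
      rw [hker]; exact hOc)
    have hinj : ∀ S : Subgroup G, IsPi {2} S → S ⊓ O = ⊥ := by
      intro S hS
      exact IsPi.inf_eq_bot hS ((isPi_compl_singleton' Nat.prime_two).2 hOc)
    have hcard : ∀ S : Subgroup G, IsPi {2} S → Nat.card (S.map π) = Nat.card S := by
      intro S hS
      have h1 : Function.Injective (π.subgroupMap S) := by
        rw [injective_iff_map_eq_one]
        intro s hs1
        have h2 : π s = 1 := congrArg Subtype.val hs1
        have h3 : (s : G) ∈ S ⊓ O := ⟨s.2, by rw [← hker]; exact h2⟩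
        rw [hinj S hS] at h3
        exact Subtype.ext (Subgroup.mem_bot.1 h3)
      exact (Nat.card_congr (Equiv.ofBijective _ ⟨h1, π.subgroupMap_surjective S⟩)).symm
    have hNpi : IsPi {2} N := by
      refine isPi_of_isPGroup Nat.prime_two ?_
      intro x
      exact ⟨1, Subtype.ext (by rw [pow_one]; exact hNp x x.2)⟩
    have hcore : pPrimeCore 2 (G ⧸ O) = ⊥ := CfsgLib.Cores.pPrimeCore_quotient_pPrimeCore 2
    have hsq : Group.IsSolvable (G ⧸ O) := inferInstance
    have hTC : 𝓒(pCore 2 (G ⧸ O)) ≤ pCore 2 (G ⧸ O) := pconstrained_core hcore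
    have hTp : IsPGroup 2 (pCore 2 (G ⧸ O)) := CfsgLib.Cores.pCore_isPGroup 2
    haveI hNmn : (N.map π).Normal := hNnor.map π (QuotientGroup.mk'_surjective O)
    have hNT : N.map π ≤ pCore 2 (G ⧸ O) :=
      CfsgLib.Cores.le_pCore hNmn (((IsPi.isPGroup Nat.prime_two hNpi)).map π)
    have hTn : (⊤ : Subgroup (G ⧸ O)) ≤ 𝓝(pCore 2 (G ⧸ O)) := by
      have h1 : (pCore 2 (G ⧸ O)).Normal := inferInstance
      exact le_nz.2 fun k _ h hh => h1.conj_mem h hh k
    have h8 := gam hCA (N := N.map π) (T := pCore 2 (G ⧸ O)) (x := π x) (y := π y)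
      (le_nz.2 fun k _ h hh => hNmn.conj_mem h hh k) (by rw [hcard N hNpi, hcN]) hTn
      (isPi_of_isPGroup Nat.prime_two hTp) hTC hNT (by
        intro h
        apply hxy
        have h1 : π (y⁻¹ * x⁻¹ * y * x) = 1 := by
          have h2 : π (y⁻¹ * x⁻¹ * y * x) = (π y)⁻¹ * (π x)⁻¹ * (π y * π x) := by
            simp [mul_assoc]
          rw [h2, ← h]; group
        have h3 : y⁻¹ * x⁻¹ * y * x ∈ N ⊓ O := ⟨hcom, by rw [← hker]; exact h1⟩
        rw [hinj N hNpi, Subgroup.mem_bot] at h3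
        have h4 : x * y * (y⁻¹ * x⁻¹ * y * x) = y * x := by group
        rw [h3, mul_one] at h4
        exact h4) (by rw [← map_pow, hx, map_one]) (by rw [← map_pow, hy, map_one])
    rw [← hcard S hS]
    exact h8 _ (hS.map π)

theorem s3912 {G : Type u} [Group G] [Finite G] (hB : CA G) (hsol : Group.IsSolvable G)
    (M : Subgroup G) [M.Normal] : CA (G ⧸ M) :=
  ca_main (Nat.card G) G le_rfl hsol hB (G ⧸ M) (QuotientGroup.mk' M)
    (QuotientGroup.mk'_surjective M)

end CfsgLib.BGPi
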