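import Cfsg.Agent.EqBase
import Mathlib

/-! Linear algebra for B & G section 3: extraspecial groups with an automorphism of prime order. -/

open scoped BigOperators
open Module

namespace CfsgLib.BGRep

variable {k W E : Type*} [Field k] [AddCommGroup W] [Module k W] [Group E]

/-- a representation is simple -/
def Irr (π : E →* Module.End k W) : Prop :=
  ∀ U : Submodule k W, (∀ x : E, U ≤ U.comap (π x)) → U = ⊥ ∨ U = ⊤

theorem schur [IsAlgClosed k] [FiniteDimensional k W] [Nontrivial W] {π : E →* Module.End k W}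
    (hirr : Irr π) {T : Module.End k W} (hT : ∀ x, π x * T = T * π x) :
    ∃ μ : k, T = μ • 1 := by
  obtain ⟨μ, hμ⟩ := Module.End.exists_eigenvalue T
  refine ⟨μ, ?_⟩
  have h1 := hirr (Module.End.eigenspace T μ) (by
    intro x w hw
    rw [Submodule.mem_comap, Module.End.mem_eigenspace_iff]
    rw [Module.End.mem_eigenspace_iff] at hw
    have h2 := LinearMap.congr_fun (hT x) w
    rw [Module.End.mul_apply, Module.End.mul_apply, hw, map_smul] at h2
    exact h2.symm)
  rcases h1 with h1 | h1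
  · exact absurd h1 hμ
  · ext w
    have : w ∈ Module.End.eigenspace T μ := by rw [h1]; trivial
    rw [Module.End.mem_eigenspace_iff] at this
    simpa using this

section avg
variable (π : E →* Module.End k W) (K : Subgroup E) [Fintype K]

/-- averaging over `K` -/
noncomputable def avg (X : Module.End k W) : Module.End k W :=
  ∑ x : K, π x * X * π (x : E)⁻¹

variable {π K}

theorem pi_inv (x : E) : π x⁻¹ * π x = 1 := by rw [← map_mul, inv_mul_cancel, map_one]
theorem pi_inv' (x : E) : π x * π x⁻¹ = 1 := by rw [← map_mul, mul_inv_cancel, map_one]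

theorem avg_comm {y : E} (hy : y ∈ K) (X : Module.End k W) :
    π y * avg π K X = avg π K X * π y := by
  rw [avg, Finset.mul_sum, Finset.sum_mul]
  refine Fintype.sum_equiv (Equiv.mulLeft ⟨y, hy⟩) _ _ fun x => ?_
  simp only [Equiv.coe_mulLeft, Subgroup.coe_mul, mul_inv_rev, map_mul, mul_assoc, pi_inv, mul_one]

theorem avg_conj {y : E} (hy : y ∈ K) (X : Module.End k W) :
    avg π K (π y * X * π y⁻¹) = avg π K X := by
  rw [avg, avg]
  refine Fintype.sum_equiv (Equiv.mulRight ⟨y, hy⟩) _ _ fun x => ?_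
  simp only [Equiv.coe_mulRight, Subgroup.coe_mul, mul_inv_rev, map_mul]
  simp only [mul_assoc]

theorem avg_smul (c : k) (X : Module.End k W) : avg π K (c • X) = c • avg π K X := by
  rw [avg, avg, Finset.smul_sum]
  refine Finset.sum_congr rfl fun x _ => ?_
  rw [mul_smul_comm, smul_mul_assoc]

theorem avg_sum {ι : Type*} (s : Finset ι) (f : ι → Module.End k W) :
    avg π K (∑ i ∈ s, f i) = ∑ i ∈ s, avg π K (f i) := by
  simp only [avg, Finset.mul_sum, Finset.sum_mul]
  exact Finset.sum_comm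

theorem avg_of_comm {X : Module.End k W} (h : ∀ x ∈ K, π x * X = X * π x) :
    avg π K X = (Fintype.card K : k) • X := by
  rw [avg, Finset.sum_congr rfl (g := fun _ => X)]
  · rw [Finset.sum_const, Finset.card_univ, Nat.cast_smul_eq_nsmul]
  · intro x _
    rw [h x x.2, mul_assoc, pi_inv', mul_one]

/-- noncentral elements average to zero -/
theorem avg_eq_zero {X : Module.End k W} {y : E} (hy : y ∈ K) {μ : k} (hμ : μ ≠ 1)
    (h : π y * X * π y⁻¹ = μ • X) : avg π K X = 0 := by
  have h1 := avg_conj (π := π) hy X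
  rw [h, avg_smul] at h1
  have h2 : (μ - 1) • avg π K X = 0 := by rw [sub_smul, one_smul, h1, sub_self]
  rcases smul_eq_zero.1 h2 with h3 | h3
  · exact absurd (sub_eq_zero.1 h3) hμ
  · exact h3


section core
variable [IsAlgClosed k] [FiniteDimensional k W] [Nontrivial W] [Finite E]
variable {π : E →* Module.End k W} {K Z : Subgroup E} {ρ : E} {r : ℕ}

/-- the configuration: `E = K⟨ρ⟩`, `ρ` of order `r` acts without fixed points on `K / Z`,
`Z` central, `K / Z` nondegenerate -/
structure ESC (π : E →* Module.End k W) (K Z : Subgroup E) (ρ : E) (r : ℕ) : Prop where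
  irr : Irr π
  le : Z ≤ K
  cen : ∀ z ∈ Z, ∀ x : E, z * x = x * z
  gen : ∀ X : Module.End k W, (∀ x ∈ K, π x * X = X * π x) → π ρ * X = X * π ρ →
    ∀ x : E, π x * X = X * π x
  nrm : ∀ x ∈ K, ρ * x * ρ⁻¹ ∈ K
  nrm' : ∀ x ∈ K, ρ⁻¹ * x * ρ ∈ K
  pr : r.Prime
  pw : ρ ^ r = 1
  fpf : ∀ i, 0 < i → i < r → ∀ x ∈ K, ρ ^ i * x * (ρ ^ i)⁻¹ * x⁻¹ ∈ Z → x ∈ Z
  nd : ∀ x ∈ K, x ∉ Z → ∃ y ∈ K, ∃ μ : k, μ ≠ 1 ∧ π y * π x * π y⁻¹ = μ • π x
  cK : (Nat.card K : k) ≠ 0
  cr : (r : k) ≠ 0
  fix : ∑ i ∈ Finset.range r, π (ρ ^ i) = 0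

variable (h : ESC π K Z ρ r)
include h

theorem ESC.scal {z : E} (hz : z ∈ Z) : ∃ μ : k, π z = μ • 1 := by
  refine schur h.irr fun x => ?_
  rw [← map_mul, ← map_mul, h.cen z hz x]

theorem ESC.avg_noncen [Fintype K] {x : E} (hx : x ∈ K) (hxZ : x ∉ Z) : avg π K (π x) = 0 := by
  obtain ⟨y, hy, μ, hμ, he⟩ := h.nd x hx hxZ
  exact avg_eq_zero hy hμ he

theorem ESC.avg_cen [Fintype K] {z : E} (hz : z ∈ Z) :
    avg π K (π z) = (Fintype.card K : k) • π z := by
  apply avg_of_comm
  intro x _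
  rw [← map_mul, ← map_mul, h.cen z hz x]

theorem ESC.cK' [Fintype K] : (Fintype.card K : k) ≠ 0 := by
  rw [← Nat.card_eq_fintype_card]; exact h.cK

theorem ESC.cZ : (Nat.card Z : k) ≠ 0 := by
  intro h0
  apply h.cK
  obtain ⟨c, hc⟩ := Subgroup.card_dvd_of_le h.le
  rw [hc, Nat.cast_mul, h0, zero_mul]

/-- the key computation `Avg(ρ) Avg(ρ⁻¹) = |Z| |K|` -/
theorem ESC.key [Fintype K] :
    avg π K (π ρ) * avg π K (π ρ⁻¹) = ((Nat.card Z : k) * (Fintype.card K : k)) • 1 := by
  classical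
  have h1 : avg π K (π ρ) * avg π K (π ρ⁻¹) = avg π K (π ρ * avg π K (π ρ⁻¹)) := by
    conv_lhs => rw [avg, Finset.sum_mul]
    conv_rhs => rw [avg]
    refine Finset.sum_congr rfl fun x _ => ?_
    rw [mul_assoc, avg_comm (inv_mem x.2)]
    simp only [mul_assoc]
  have h2 : π ρ * avg π K (π ρ⁻¹) = ∑ u : K, π (ρ * u * ρ⁻¹ * (u : E)⁻¹) := by
    rw [avg, Finset.mul_sum]
    refine Finset.sum_congr rfl fun u _ => ?_
    simp only [map_mul, mul_assoc]
  have hr1 := h.pr.one_lt
  have h3 : ∀ u : K, avg π K (π (ρ * u * ρ⁻¹ * (u : E)⁻¹)) =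
      if (u : E) ∈ Z then (Fintype.card K : k) • (1 : Module.End k W) else 0 := by
    intro u
    split_ifs with hu
    · have : ρ * u * ρ⁻¹ * (u : E)⁻¹ = 1 := by rw [← h.cen u hu ρ]; group
      rw [this, h.avg_cen Z.one_mem, map_one]
    · apply h.avg_noncen (mul_mem (h.nrm u u.2) (inv_mem u.2))
      intro hc
      apply hu
      refine h.fpf 1 one_pos hr1 u u.2 ?_
      rwa [pow_one]
  rw [h1, h2, avg_sum, Finset.sum_congr rfl fun u _ => h3 u, ← Finset.sum_filter, Finset.sum_const,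
    ← Nat.cast_smul_eq_nsmul k, smul_smul]
  congr 2
  have h4 : Nat.card Z = Nat.card (Z.subgroupOf K) :=
    (Nat.card_congr (Subgroup.subgroupOfEquivOfLe h.le).toEquiv).symm
  rw [h4, Nat.card_eq_fintype_card, Fintype.card_subtype]
  rfl

theorem ESC.avg_rho_comm [Fintype K] : π ρ * avg π K (π ρ) = avg π K (π ρ) * π ρ := by
  have h1 : π ρ * avg π K (π ρ) * π ρ⁻¹ = avg π K (π ρ) := by
    rw [avg, Finset.mul_sum, Finset.sum_mul]
    let e : K ≃ K :=
      { toFun := fun x => ⟨ρ * x * ρ⁻¹, h.nrm x x.2⟩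
        invFun := fun x => ⟨ρ⁻¹ * x * ρ, h.nrm' x x.2⟩
        left_inv := fun x => Subtype.ext (by simp only; group)
        right_inv := fun x => Subtype.ext (by simp only; group) }
    refine Fintype.sum_equiv e _ _ fun x => ?_
    change _ = π (ρ * x * ρ⁻¹) * π ρ * π (ρ * x * ρ⁻¹)⁻¹
    simp only [← map_mul]
    congr 1
    group
  conv_rhs => rw [← h1]
  rw [mul_assoc _ (π ρ⁻¹), pi_inv, mul_one]

/-- `π(ρ⁻¹)` is in the span of `π(K)` -/
theorem ESC.rho_span [Fintype K] :
    ∃ μ : k, π ρ⁻¹ = μ • ∑ x : K, π (x * ρ * (x : E)⁻¹ * ρ⁻¹) := by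
  obtain ⟨μ, hμ⟩ := schur h.irr (h.gen (avg π K (π ρ)) (fun x hx => avg_comm hx _) h.avg_rho_comm)
  have hμ0 : μ ≠ 0 := by
    rintro rfl
    have := h.key
    rw [hμ, zero_smul, zero_mul] at this
    have h1 := (smul_eq_zero.1 this.symm)
    rcases h1 with h1 | h1
    · exact (mul_ne_zero h.cZ h.cK') h1
    · exact one_ne_zero h1
  refine ⟨μ⁻¹, ?_⟩
  have h2 : avg π K (π ρ) = (∑ x : K, π (x * ρ * (x : E)⁻¹ * ρ⁻¹)) * π ρ := by
    rw [avg, Finset.sum_mul]
    refine Finset.sum_congr rfl fun x _ => ?_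
    simp only [← map_mul]
    congr 1
    group
  rw [hμ] at h2
  have h3 : (∑ x : K, π (x * ρ * (x : E)⁻¹ * ρ⁻¹)) = μ • π ρ⁻¹ := by
    have h4 := congrArg (· * π ρ⁻¹) h2
    simp only [smul_mul_assoc, one_mul] at h4
    rw [mul_assoc, pi_inv', mul_one] at h4
    exact h4.symm
  rw [h3, smul_smul, inv_mul_cancel₀ hμ0, one_smul]

/-- the commutant of `K` is scalar -/
theorem ESC.comm_scal [Fintype K] {X : Module.End k W} (hX : ∀ x ∈ K, π x * X = X * π x) :
    ∃ μ : k, X = μ • 1 := by
  apply schur h.irr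
  apply h.gen X hX
  obtain ⟨μ, hμ⟩ := h.rho_span
  have h1 : π ρ⁻¹ * X = X * π ρ⁻¹ := by
    rw [hμ, smul_mul_assoc, mul_smul_comm, Finset.sum_mul, Finset.mul_sum]
    congr 1
    refine Finset.sum_congr rfl fun x _ => ?_
    apply hX
    have : (x : E) * ρ * (x : E)⁻¹ * ρ⁻¹ = x * (ρ * (x : E)⁻¹ * ρ⁻¹) := by group
    rw [this]
    exact mul_mem x.2 (h.nrm _ (inv_mem x.2))
  have h2 := congrArg (fun Y => π ρ * Y * π ρ) h1
  simp only [mul_assoc, pi_inv, mul_one] at h2
  rw [← mul_assoc (π ρ) (π ρ⁻¹), pi_inv', one_mul] at h2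
  exact h2.symm

/-- inversion formula -/
theorem ESC.inversion [Fintype K] (X : Module.End k W) :
    ∑ x : K, avg π K (X * π (x : E)⁻¹) * π x = ((Nat.card Z : k) * (Fintype.card K : k)) • X := by
  classical
  have h0 : ∀ x : K, avg π K (X * π (x : E)⁻¹) * π x =
      ∑ y : K, π y * X * (π (x : E)⁻¹ * π (y : E)⁻¹ * π x) := by
    intro x
    rw [avg, Finset.sum_mul]
    refine Finset.sum_congr rfl fun y _ => ?_
    simp only [mul_assoc]
  rw [Finset.sum_congr rfl fun x _ => h0 x, Finset.sum_comm]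
  have h1 : ∀ y : K, ∑ x : K, π y * X * (π (x : E)⁻¹ * π (y : E)⁻¹ * π x) =
      π y * X * avg π K (π (y : E)⁻¹) := by
    intro y
    rw [← Finset.mul_sum, avg]
    congr 1
    refine Fintype.sum_equiv (Equiv.inv K) _ _ fun x => ?_
    simp
  have h2 : ∀ y : K, π y * X * avg π K (π (y : E)⁻¹) =
      if (y : E) ∈ Z then (Fintype.card K : k) • X else 0 := by
    intro y
    split_ifs with hy
    · rw [h.avg_cen (inv_mem hy), mul_smul_comm, mul_assoc]
      obtain ⟨μ, hμ⟩ := h.scal hy
      have h3 : X * π (y : E)⁻¹ = π (y : E)⁻¹ * X := by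
        obtain ⟨ν, hν⟩ := h.scal (inv_mem hy)
        rw [hν, mul_smul_comm, smul_mul_assoc, mul_one, one_mul]
      rw [h3, ← mul_assoc, pi_inv', one_mul]
    · rw [h.avg_noncen (inv_mem y.2) (fun hc => hy (by simpa using inv_mem hc)), mul_zero]
  rw [Finset.sum_congr rfl fun y _ => h1 y, Finset.sum_congr rfl fun y _ => h2 y,
    ← Finset.sum_filter, Finset.sum_const, ← Nat.cast_smul_eq_nsmul k, smul_smul]
  congr 2
  have h4 : Nat.card Z = Nat.card (Z.subgroupOf K) :=
    (Nat.card_congr (Subgroup.subgroupOfEquivOfLe h.le).toEquiv).symm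
  rw [h4, Nat.card_eq_fintype_card, Fintype.card_subtype]
  rfl

theorem ESC.mem_span (X : Module.End k W) :
    X ∈ Submodule.span k (Set.range fun x : K => π x) := by
  classical
  letI := Fintype.ofFinite K
  have h1 := h.inversion X
  have h2 : X = ((Nat.card Z : k) * (Fintype.card K : k))⁻¹ •
      ∑ x : K, avg π K (X * π (x : E)⁻¹) * π x := by
    rw [h1, smul_smul, inv_mul_cancel₀ (mul_ne_zero h.cZ h.cK'), one_smul]
  rw [h2]
  refine Submodule.smul_mem _ _ (Submodule.sum_mem _ fun x _ => ?_)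
  obtain ⟨μ, hμ⟩ := h.comm_scal (X := avg π K (X * π (x : E)⁻¹)) (fun y hy => avg_comm hy _)
  rw [hμ, smul_mul_assoc, one_mul]
  exact Submodule.smul_mem _ _ (Submodule.subset_span ⟨x, rfl⟩)

/-! ### dimension -/

theorem ESC.avg_mul_inv [Fintype K] {x y : E} (hx : x ∈ K) (hy : y ∈ K) (hxy : x * y⁻¹ ∉ Z) :
    avg π K (π x * π y⁻¹) = 0 := by
  rw [← map_mul]
  exact h.avg_noncen (mul_mem hx (inv_mem hy)) hxy

/-- the dimension of `W` -/
theorem ESC.finrank_sq : (finrank k W) ^ 2 * Nat.card Z = Nat.card K := by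
  classical
  letI := Fintype.ofFinite K
  let Q := K ⧸ (Z.subgroupOf K)
  letI : Fintype Q := Fintype.ofFinite Q
  let s : Q → K := Quotient.out
  have hs : ∀ c : Q, (s c : Q) = c := fun c => Quotient.out_eq' c
  let b : Q → Module.End k W := fun c => π (s c)
  have hli : LinearIndependent k b := by
    rw [Fintype.linearIndependent_iff]
    intro g hg d
    have h1 : avg π K ((∑ c, g c • b c) * π ((s d : K) : E)⁻¹) = 0 := by
      rw [hg, zero_mul]
      simp [avg]
    rw [Finset.sum_mul, avg_sum] at h1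
    simp only [smul_mul_assoc, avg_smul] at h1
    rw [Finset.sum_eq_single d] at h1
    · rw [← map_mul, mul_inv_cancel, h.avg_cen Z.one_mem, map_one, smul_smul] at h1
      rcases smul_eq_zero.1 h1 with h2 | h2
      · rcases mul_eq_zero.1 h2 with h3 | h3
        · exact h3
        · exact absurd h3 h.cK'
      · exact absurd h2 one_ne_zero
    · intro c _ hcd
      rw [h.avg_mul_inv (s c).2 (s d).2, smul_zero]
      intro hc
      apply hcd
      rw [← hs c, ← hs d]
      have h4 : (s d : K)⁻¹ * s c ∈ Z.subgroupOf K := by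
        rw [Subgroup.mem_subgroupOf]
        have : (((s d : K)⁻¹ * s c : K) : E) = ((s d : K) : E)⁻¹ * (((s c : K) : E) * ((s d : K) : E)⁻¹) * ((s d : K) : E) := by
          simp [mul_assoc]
        rw [this, mul_assoc, h.cen _ hc, ← mul_assoc, inv_mul_cancel, one_mul]
        exact hc
      exact (QuotientGroup.eq.2 h4).symm
    · intro hd; exact absurd (Finset.mem_univ d) hd
  have hsp : ⊤ ≤ Submodule.span k (Set.range b) := by
    intro X _
    refine Submodule.span_le.2 ?_ (h.mem_span X)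
    rintro _ ⟨x, rfl⟩
    have h4 : ((s (x : Q) : K) : E)⁻¹ * x ∈ Z := by
      have h6 : (s (x : Q) : Q) = x := hs _
      have h7 : (s (x : Q))⁻¹ * x ∈ Z.subgroupOf K := QuotientGroup.eq.1 h6
      exact h7
    obtain ⟨μ, hμ⟩ := h.scal h4
    have h5 : π (x : E) = μ • b (x : Q) := by
      have : (x : E) = (s (x : Q) : K) * (((s (x : Q) : K) : E)⁻¹ * x) := by group
      conv_lhs => rw [this, map_mul, hμ, mul_smul_comm, mul_one]
    change π (x : E) ∈ _
    rw [h5]
    exact Submodule.smul_mem _ _ (Submodule.subset_span ⟨_, rfl⟩)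
  have h1 := Module.finrank_eq_card_basis (Basis.mk hli hsp)
  rw [Module.finrank_linearMap, ← pow_two] at h1
  rw [h1, ← Nat.card_eq_fintype_card]
  have h2 : Nat.card Z = Nat.card (Z.subgroupOf K) :=
    (Nat.card_congr (Subgroup.subgroupOfEquivOfLe h.le).toEquiv).symm
  rw [h2, ← Subgroup.card_eq_card_quotient_mul_card_subgroup]

/-! ### the number of orbits -/

theorem ESC.rho_ne : ρ ≠ 1 := by
  rintro rfl
  have h1 := h.fix
  simp only [one_pow, map_one, Finset.sum_const, Finset.card_range] at h1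
  rw [← Nat.cast_smul_eq_nsmul k] at h1
  rcases smul_eq_zero.1 h1 with h2 | h2
  · exact h.cr h2
  · exact one_ne_zero h2

theorem ESC.ord : orderOf ρ = r := by
  haveI := Fact.mk h.pr
  exact orderOf_eq_prime h.pw h.rho_ne

theorem ESC.pow_nrm (t : Subgroup.zpowers ρ) (x : K) : (t : E) * x * (t : E)⁻¹ ∈ K := by
  obtain ⟨n, hn⟩ := (Subgroup.mem_zpowers_iff.1 t.2)
  have key : ∀ (n : ℕ) (x : E), x ∈ K → ρ ^ n * x * (ρ ^ n)⁻¹ ∈ K := by
    intro n
    induction n with
    | zero => intro x hx; simpa using hx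
    | succ n ih =>
      intro x hx
      have : ρ ^ (n + 1) * x * (ρ ^ (n + 1))⁻¹ = ρ ^ n * (ρ * x * ρ⁻¹) * (ρ ^ n)⁻¹ := by
        rw [pow_succ]; group
      rw [this]
      exact ih _ (h.nrm x hx)
  obtain ⟨m, hm⟩ : ∃ m : ℕ, ρ ^ m = t := by
    have := (isOfFinOrder_of_finite ρ).mem_powers_iff_mem_zpowers.2 t.2
    exact this
  rw [← hm]
  exact key m x x.2

/-- the action of `Z × ⟨ρ⟩` on `K` -/
noncomputable def ESC.act : MulAction (Z × Subgroup.zpowers ρ) K where
  smul g x := ⟨(g.2 : E) * x * (g.2 : E)⁻¹ * g.1, mul_mem (h.pow_nrm g.2 x) (h.le g.1.2)⟩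
  one_smul x := Subtype.ext (by
    change ((1 : Z × Subgroup.zpowers ρ).2 : E) * x * ((1 : Z × Subgroup.zpowers ρ).2 : E)⁻¹ *
      ((1 : Z × Subgroup.zpowers ρ).1 : E) = x
    simp)
  mul_smul g g' x := Subtype.ext (by
    change ((g * g').2 : E) * x * ((g * g').2 : E)⁻¹ * ((g * g').1 : E) =
      (g.2 : E) * ((g'.2 : E) * x * (g'.2 : E)⁻¹ * g'.1) * (g.2 : E)⁻¹ * g.1
    simp only [Prod.snd_mul, Prod.fst_mul, Subgroup.coe_mul, mul_inv_rev]
    have h1 := h.cen g'.1 g'.1.2 (g.2 : E)⁻¹
    have h2 := h.cen g.1 g.1.2 (g'.1 : E)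
    calc (g.2 : E) * g'.2 * x * ((g'.2 : E)⁻¹ * (g.2 : E)⁻¹) * ((g.1 : E) * g'.1)
        = (g.2 : E) * g'.2 * x * (g'.2 : E)⁻¹ * (g.2 : E)⁻¹ * ((g.1 : E) * g'.1) := by group
      _ = (g.2 : E) * g'.2 * x * (g'.2 : E)⁻¹ * ((g.2 : E)⁻¹ * g'.1) * g.1 := by rw [h2]; group
      _ = (g.2 : E) * g'.2 * x * (g'.2 : E)⁻¹ * ((g'.1 : E) * (g.2 : E)⁻¹) * g.1 := by rw [h1]
      _ = _ := by group)

theorem ESC.pow_fpf {t : E} (ht : t ∈ Subgroup.zpowers ρ) (ht1 : t ≠ 1) {x : E} (hx : x ∈ K)
    (hc : t * x * t⁻¹ * x⁻¹ ∈ Z) : x ∈ Z := by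
  obtain ⟨i, hi, rfl⟩ : ∃ i : ℕ, i < r ∧ ρ ^ i = t := by
    have h1 := (isOfFinOrder_of_finite ρ).mem_powers_iff_mem_zpowers.2 ht
    obtain ⟨m, hm⟩ := h1
    refine ⟨m % r, Nat.mod_lt _ h.pr.pos, ?_⟩
    rw [← h.ord, pow_mod_orderOf]
    exact hm
  refine h.fpf i ?_ hi x hx hc
  rcases Nat.eq_zero_or_pos i with h0 | h0
  · subst h0; exact absurd (pow_zero ρ) ht1
  · exact h0

theorem ESC.orbits :
    Nat.card (@MulAction.orbitRel.Quotient (Z × Subgroup.zpowers ρ) K _ h.act) * (r * Nat.card Z) =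
      Nat.card K + (r - 1) * Nat.card Z := by
  classical
  letI := h.act
  letI := Fintype.ofFinite K
  letI := Fintype.ofFinite Z
  letI := Fintype.ofFinite (Subgroup.zpowers ρ)
  letI := Fintype.ofFinite (MulAction.orbitRel.Quotient (Z × Subgroup.zpowers ρ) K)
  have h1 := MulAction.sum_card_fixedBy_eq_card_orbits_mul_card_group (Z × Subgroup.zpowers ρ) K
  have h2 : Fintype.card (Z × Subgroup.zpowers ρ) = r * Nat.card Z := by
    rw [← Nat.card_eq_fintype_card, Nat.card_prod, Nat.card_zpowers, h.ord, mul_comm]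
  rw [h2] at h1
  rw [Nat.card_eq_fintype_card (α := MulAction.orbitRel.Quotient _ _), ← h1]
  have hsm : ∀ (g : Z × Subgroup.zpowers ρ) (x : K),
      ((g • x : K) : E) = (g.2 : E) * x * (g.2 : E)⁻¹ * g.1 := fun g x => rfl
  have hfx : ∀ (g : Z × Subgroup.zpowers ρ) (x : K), g • x = x →
      (g.2 : E) * x * (g.2 : E)⁻¹ * (x : E)⁻¹ = (g.1 : E)⁻¹ := by
    intro g x hx
    have h3 := congrArg Subtype.val hx
    rw [hsm] at h3
    have h4 := h.cen g.1 g.1.2 ((g.2 : E) * x * (g.2 : E)⁻¹)
    rw [← h4] at h3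
    have h5 : (g.2 : E) * x * (g.2 : E)⁻¹ = (g.1 : E)⁻¹ * x := eq_inv_mul_of_mul_eq h3
    rw [h5, mul_inv_cancel_right]
  have h3 : ∀ g : Z × Subgroup.zpowers ρ, Fintype.card (MulAction.fixedBy K g) =
      if g.1 = 1 then (if g.2 = 1 then Nat.card K else Nat.card Z) else 0 := by
    rintro ⟨z, t⟩
    simp only
    by_cases ht : t = 1
    · subst ht
      by_cases hz : z = 1
      · subst hz
        rw [if_pos rfl, if_pos rfl, ← Nat.card_eq_fintype_card]
        refine Nat.card_congr (Equiv.subtypeUnivEquiv fun x => ?_)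
        change (1 : Z × Subgroup.zpowers ρ) • x = x
        exact one_smul _ x
      · rw [if_neg hz, Fintype.card_eq_zero_iff]
        refine ⟨fun x => hz ?_⟩
        have := hfx _ _ x.2
        simp only [Subgroup.coe_one, one_mul, inv_one, mul_one, mul_inv_cancel] at this
        exact Subtype.ext (by simpa using this.symm)
    · have ht1 : (t : E) ≠ 1 := fun h0 => ht (Subtype.ext h0)
      have key : ∀ x : K, (z, t) • x = x → (x : E) ∈ Z ∧ z = 1 := by
        intro x hx
        have h4 := hfx _ _ hx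
        simp only at h4
        have h5 : (x : E) ∈ Z := by
          refine h.pow_fpf t.2 ht1 x.2 ?_
          rw [h4]; exact inv_mem z.2
        refine ⟨h5, ?_⟩
        rw [← h.cen _ h5, mul_inv_cancel_right, mul_inv_cancel] at h4
        exact Subtype.ext (by simpa using h4.symm)
      by_cases hz : z = 1
      · subst hz
        rw [if_pos rfl, if_neg ht, ← Nat.card_eq_fintype_card]
        refine Nat.card_congr
          { toFun := fun x => ⟨((x : K) : E), (key x x.2).1⟩
            invFun := fun z => ⟨⟨z, h.le z.2⟩, ?_⟩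
            left_inv := fun x => rfl
            right_inv := fun z => rfl }
        change ((1, t) : Z × Subgroup.zpowers ρ) • _ = _
        apply Subtype.ext
        rw [hsm]
        simp only [Subgroup.coe_one, mul_one]
        rw [← h.cen _ z.2, mul_assoc, mul_inv_cancel, mul_one]
      · rw [if_neg hz, Fintype.card_eq_zero_iff]
        exact ⟨fun x => hz (key x x.2).2⟩
  rw [Finset.sum_congr rfl fun g _ => h3 g, Fintype.sum_prod_type, Finset.sum_eq_single (1 : Z)]
  · simp only [if_true]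
    rw [← Finset.add_sum_erase _ _ (Finset.mem_univ (1 : Subgroup.zpowers ρ)), if_pos rfl]
    congr 1
    rw [Finset.sum_congr rfl (g := fun _ => Nat.card Z), Finset.sum_const,
      Finset.card_erase_of_mem (Finset.mem_univ _), Finset.card_univ, ← Nat.card_eq_fintype_card,
      Nat.card_zpowers, h.ord, smul_eq_mul]
    intro t ht
    rw [if_neg (Finset.ne_of_mem_erase ht)]
  · intro z _ hz
    simp only [if_neg hz, Finset.sum_const_zero]
  · intro h0; exact absurd (Finset.mem_univ _) h0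

/-! ### the commutant of `ρ` -/

/-- the commutant of `ρ` -/
def cmt (T : Module.End k W) : Submodule k (Module.End k W) where
  carrier := {X | T * X = X * T}
  add_mem' := by
    intro X Y hX hY
    change T * (X + Y) = (X + Y) * T
    rw [mul_add, add_mul, hX, hY]
  zero_mem' := by
    change T * 0 = 0 * T
    rw [mul_zero, zero_mul]
  smul_mem' := by
    intro c X hX
    change T * (c • X) = (c • X) * T
    rw [mul_smul_comm, smul_mul_assoc, hX]

theorem ESC.cmt_le : finrank k (cmt (π ρ)) ≤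
    Nat.card (@MulAction.orbitRel.Quotient (Z × Subgroup.zpowers ρ) K _ h.act) := by
  classical
  letI := h.act
  letI := Fintype.ofFinite K
  letI := Fintype.ofFinite Z
  letI := Fintype.ofFinite (Subgroup.zpowers ρ)
  letI := Fintype.ofFinite (MulAction.orbitRel.Quotient (Z × Subgroup.zpowers ρ) K)
  have hsm : ∀ (g : Z × Subgroup.zpowers ρ) (x : K),
      ((g • x : K) : E) = (g.2 : E) * x * (g.2 : E)⁻¹ * g.1 := fun g x => rfl
  set O := MulAction.orbitRel.Quotient (Z × Subgroup.zpowers ρ) K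
  let f : O → Module.End k W := fun o => avg π (Subgroup.zpowers ρ) (π (Quotient.out o : K))
  have h1 : ∀ x : K, avg π (Subgroup.zpowers ρ) (π (x : E)) ∈ Submodule.span k (Set.range f) := by
    intro x
    set o : O := Quotient.mk _ x with ho
    have h2 : (Quotient.mk _ (Quotient.out o) : O) = Quotient.mk _ x := Quotient.out_eq o
    have h3 : (MulAction.orbitRel (Z × Subgroup.zpowers ρ) K) x (Quotient.out o) :=
      Quotient.exact h2.symm
    obtain ⟨g, hg⟩ := h3
    simp only at hg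
    obtain ⟨μ, hμ⟩ := h.scal g.1.2
    have h4 : avg π (Subgroup.zpowers ρ) (π (x : E)) = μ • f o := by
      rw [← hg, hsm, map_mul, map_mul, map_mul, hμ, mul_smul_comm, mul_one, avg_smul,
        avg_conj g.2.2]
    rw [h4]
    exact Submodule.smul_mem _ _ (Submodule.subset_span ⟨o, rfl⟩)
  have h2 : cmt (π ρ) ≤ Submodule.span k (Set.range f) := by
    intro X hX
    change π ρ * X = X * π ρ at hX
    have h3 : ∀ t ∈ Subgroup.zpowers ρ, π t * X = X * π t := by
      intro t ht
      obtain ⟨m, rfl⟩ := (isOfFinOrder_of_finite ρ).mem_powers_iff_mem_zpowers.2 ht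
      change π (ρ ^ m) * X = X * π (ρ ^ m)
      rw [map_pow]
      exact (Commute.pow_left (show Commute (π ρ) X from hX) m)
    have h4 := avg_of_comm h3
    have h5 : (Fintype.card (Subgroup.zpowers ρ) : k) = r := by
      rw [← Nat.card_eq_fintype_card, Nat.card_zpowers, h.ord]
    rw [h5] at h4
    have h6 : avg π (Subgroup.zpowers ρ) X ∈ Submodule.span k (Set.range f) := by
      have h7 := h.mem_span X
      refine Submodule.span_induction (p := fun Y _ => avg π (Subgroup.zpowers ρ) Y ∈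
        Submodule.span k (Set.range f)) ?_ ?_ ?_ ?_ h7
      · rintro _ ⟨x, rfl⟩
        exact h1 x
      · simp [avg]
      · intro Y Y' _ _ hY hY'
        have : avg π (Subgroup.zpowers ρ) (Y + Y') = avg π (Subgroup.zpowers ρ) Y +
            avg π (Subgroup.zpowers ρ) Y' := by
          simp only [avg, mul_add, add_mul, Finset.sum_add_distrib]
        rw [this]
        exact Submodule.add_mem _ hY hY'
      · intro c Y _ hY
        rw [avg_smul]
        exact Submodule.smul_mem _ _ hY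
    have h8 : X = (r : k)⁻¹ • avg π (Subgroup.zpowers ρ) X := by
      rw [h4, smul_smul, inv_mul_cancel₀ h.cr, one_smul]
    rw [h8]
    exact Submodule.smul_mem _ _ h6
  refine (Submodule.finrank_mono h2).trans ?_
  rw [Nat.card_eq_fintype_card]
  exact finrank_range_le_card f

omit h [Finite E] in
/-- an eigenbasis for `ρ` with eigenvalues `≠ 1` -/
theorem le_cmt (hr : r.Prime) (cr : (r : k) ≠ 0) {T : Module.End k W} (hpw : T ^ r = 1)
    (hfix : ∑ i ∈ Finset.range r, T ^ i = 0) :
    (finrank k W) ^ 2 ≤ (r - 1) * finrank k (cmt T) := by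
  classical
  have hss : T.IsSemisimple := by
    refine Module.End.isSemisimple_of_squarefree_aeval_eq_zero (p := Polynomial.X ^ r - 1) ?_ ?_
    · exact (Polynomial.X_pow_sub_one_separable_iff.2 cr).squarefree
    · simp [hpw]
  have htop := hss.iSup_eigenspace_eq_top
  have hint := DirectSum.isInternal_submodule_of_iSupIndep_of_iSup_eq_top
    (Module.End.eigenspaces_iSupIndep T) htop
  let b := hint.collectedBasis fun μ => Module.finBasis k (Module.End.eigenspace T μ)
  letI := FiniteDimensional.fintypeBasisIndex b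
  let c : (Σ μ : k, Fin (finrank k (Module.End.eigenspace T μ))) → k := fun i => i.1
  have hb : ∀ i, T (b i) = c i • b i := fun i =>
    Module.End.mem_eigenspace_iff.1 (hint.collectedBasis_mem _ i)
  have hpow : ∀ (n : ℕ) i, (T ^ n) (b i) = (c i) ^ n • b i := by
    intro n i
    induction n with
    | zero => simp
    | succ n ih => rw [pow_succ', Module.End.mul_apply, ih, map_smul, hb, smul_smul, pow_succ]
  have hc1 : ∀ i, c i ^ r = 1 := by
    intro i
    have h1 := hpow r i
    rw [hpw, Module.End.one_apply] at h1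
    have h2 : ((c i) ^ r - 1) • b i = 0 := by rw [sub_smul, one_smul, ← h1, sub_self]
    rcases smul_eq_zero.1 h2 with h3 | h3
    · exact sub_eq_zero.1 h3
    · exact absurd h3 (b.ne_zero i)
  have hc2 : ∀ i, c i ≠ 1 := by
    intro i hi
    have h1 := LinearMap.congr_fun hfix (b i)
    rw [LinearMap.sum_apply] at h1
    simp only [hpow, hi, one_pow, one_smul, Finset.sum_const, Finset.card_range,
      LinearMap.zero_apply] at h1
    rw [← Nat.cast_smul_eq_nsmul k] at h1
    rcases smul_eq_zero.1 h1 with h3 | h3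
    · exact cr h3
    · exact absurd h3 (b.ne_zero i)
  -- elements of the commutant
  let P := {ij : (Σ μ : k, Fin (finrank k (Module.End.eigenspace T μ))) ×
    (Σ μ : k, Fin (finrank k (Module.End.eigenspace T μ))) // c ij.1 = c ij.2}
  have hP : Fintype.card P ≤ finrank k (cmt T) := by
    have hmem : ∀ ij : P, b.end ij.1 ∈ cmt T := by
      rintro ⟨⟨i, j⟩, hij⟩
      change T * b.end (i, j) = b.end (i, j) * T
      refine b.ext fun l => ?_
      rw [Module.End.mul_apply, Module.End.mul_apply, hb, map_smul, Basis.end_apply_apply]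
      simp only
      split_ifs with hl
      · subst hl
        rw [hb]
        congr 1
      · simp
    have hli : LinearIndependent k (fun ij : P => (⟨b.end ij.1, hmem ij⟩ : cmt T)) := by
      apply LinearIndependent.of_comp (cmt T).subtype
      exact (b.end.linearIndependent).comp (fun ij : P => ij.1) Subtype.val_injective
    exact hli.fintype_card_le_finrank
  -- Cauchy–Schwarz
  let S : Finset k := (Polynomial.nthRootsFinset r (1 : k)).erase 1
  have hS : S.card ≤ r - 1 := by
    have h1 : (1 : k) ∈ Polynomial.nthRootsFinset r (1 : k) := by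
      rw [Polynomial.mem_nthRootsFinset hr.pos, one_pow]
    rw [Finset.card_erase_of_mem h1]
    exact Nat.sub_le_sub_right ((Multiset.toFinset_card_le _).trans (Polynomial.card_nthRoots r 1)) 1
  have hcS : ∀ i, c i ∈ S := fun i =>
    Finset.mem_erase.2 ⟨hc2 i, (Polynomial.mem_nthRootsFinset hr.pos _).2 (hc1 i)⟩
  have hD : finrank k W = ∑ μ ∈ S, (Finset.univ.filter fun i => c i = μ).card := by
    rw [Module.finrank_eq_card_basis b, ← Finset.card_univ]
    exact Finset.card_eq_sum_card_fiberwise fun i _ => hcS i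
  have hPc : Fintype.card P = ∑ μ ∈ S, (Finset.univ.filter fun i => c i = μ).card ^ 2 := by
    rw [Fintype.card_subtype]
    rw [Finset.card_eq_sum_card_fiberwise (f := fun ij => c ij.1) (t := S) (fun i _ => hcS _)]
    refine Finset.sum_congr rfl fun μ _ => ?_
    rw [pow_two, ← Finset.card_product]
    congr 1
    ext ⟨i, j⟩
    simp only [Finset.mem_filter, Finset.mem_univ, true_and, Finset.mem_product]
    constructor
    · rintro ⟨h1, h2⟩; exact ⟨h2, h1 ▸ h2⟩
    · rintro ⟨h1, h2⟩; exact ⟨h1.trans h2.symm, h1⟩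
  calc (finrank k W) ^ 2 ≤ S.card * Fintype.card P := by
        rw [hD, hPc]; exact sq_sum_le_card_mul_sum_sq
    _ ≤ (r - 1) * finrank k (cmt T) := Nat.mul_le_mul hS hP

/-- the main result: `dim W = 1` or `dim W + 1 = r` -/
theorem ESC.main : finrank k W = 1 ∨ finrank k W + 1 = r := by
  have h1 := h.finrank_sq
  have h2 := h.orbits
  have h3 := h.cmt_le
  have h4 : (finrank k W) ^ 2 ≤ (r - 1) * finrank k (cmt (π ρ)) := by
    refine le_cmt h.pr h.cr ?_ ?_
    · rw [← map_pow, h.pw, map_one]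
    · have := h.fix
      simpa only [map_pow] using this
  set D := finrank k W with hD
  set N := Nat.card (@MulAction.orbitRel.Quotient (Z × Subgroup.zpowers ρ) K _ h.act) with hN
  have hZ : 0 < Nat.card Z := Nat.card_pos
  have hr := h.pr.two_le
  have h5 : N * r = D ^ 2 + (r - 1) := by
    rw [← h1] at h2
    have : (N * r) * Nat.card Z = (D ^ 2 + (r - 1)) * Nat.card Z := by
      rw [mul_assoc, h2, add_mul]
    exact Nat.eq_of_mul_eq_mul_right hZ this
  have h6 : D ^ 2 ≤ (r - 1) * N := h4.trans (Nat.mul_le_mul_left _ h3)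
  have hDpos : 0 < D := Module.finrank_pos
  obtain ⟨s, rfl⟩ : ∃ s, r = s + 1 := ⟨r - 1, by omega⟩
  simp only [Nat.add_sub_cancel] at h5 h6
  have h7 : D ^ 2 ≤ s ^ 2 := by nlinarith
  have h8 : D ≤ s := by
    by_contra hc
    push Not at hc
    nlinarith
  by_cases hD1 : D = 1
  · exact Or.inl hD1
  right
  have h9 : (s + 1) ∣ D ^ 2 - 1 := by
    have : D ^ 2 - 1 + (s + 1) = N * (s + 1) := by
      have : 1 ≤ D ^ 2 := Nat.one_le_pow _ _ hDpos
      omega
    rw [← Nat.dvd_add_left (dvd_refl (s + 1)), this]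
    exact dvd_mul_left _ _
  have h10 : D ^ 2 - 1 = (D + 1) * (D - 1) := by
    have := Nat.sq_sub_sq D 1
    simpa using this
  rw [h10] at h9
  rcases (Nat.Prime.dvd_mul h.pr).1 h9 with h11 | h11
  · have := Nat.le_of_dvd (by omega) h11
    omega
  · have := Nat.le_of_dvd (by omega) h11
    omega

end core

end avg

end CfsgLib.BGRep
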