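import Cfsg.Agent.EqBase
import Cfsg.Agent.LibBGRep

/-! From linear representations over arbitrary fields to the configuration of `LibBGRep`. -/

open scoped BigOperators TensorProduct
open Module

namespace CfsgLib.BGRep

/-- restriction of a representation to an invariant subspace -/
noncomputable def resRep {k T E : Type*} [Field k] [AddCommGroup T] [Module k T] [Group E]
    (π : E →* Module.End k T) (U : Submodule k T) (hU : ∀ x : E, ∀ u ∈ U, π x u ∈ U) :
    E →* Module.End k U where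
  toFun x := (π x).restrict (hU x)
  map_one' := by
    ext u
    simp
  map_mul' x y := by
    ext u
    simp

theorem resRep_apply {k T E : Type*} [Field k] [AddCommGroup T] [Module k T] [Group E]
    (π : E →* Module.End k T) (U : Submodule k T) (hU : ∀ x : E, ∀ u ∈ U, π x u ∈ U) (x : E)
    (u : U) : ((resRep π U hU x u : U) : T) = π x u := rfl

/-- existence of a simple submodule on which a central element acts as a nontrivial scalar -/
theorem exists_simple {k T E : Type*} [Field k] [IsAlgClosed k] [AddCommGroup T] [Module k T]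
    [FiniteDimensional k T] [Group E] [Finite E] (π : E →* Module.End k T) {z : E}
    (hz : ∀ x : E, z * x = x * z) (hzn : (orderOf z : k) ≠ 0) (hz1 : π z ≠ 1) :
    ∃ (W : Submodule k T) (hW : ∀ x : E, ∀ u ∈ W, π x u ∈ W), Nontrivial W ∧
      Irr (resRep π W hW) ∧ ∃ μ : k, μ ≠ 1 ∧ ∀ u ∈ W, π z u = μ • u := by
  classical
  have hss : (π z).IsSemisimple := by
    refine Module.End.isSemisimple_of_squarefree_aeval_eq_zero
      (p := Polynomial.X ^ (orderOf z) - 1) ?_ ?_
    · exact (Polynomial.X_pow_sub_one_separable_iff.2 hzn).squarefree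
    · rw [map_sub, map_pow, Polynomial.aeval_X, map_one, ← map_pow, pow_orderOf_eq_one, map_one,
        sub_self]
  have htop := hss.iSup_eigenspace_eq_top
  obtain ⟨μ, hμ1, hμ⟩ : ∃ μ : k, μ ≠ 1 ∧ (π z).eigenspace μ ≠ ⊥ := by
    by_contra hcon
    push Not at hcon
    apply hz1
    have h1 : (π z).eigenspace 1 = ⊤ := by
      rw [← htop]
      apply le_antisymm (le_iSup _ 1)
      refine iSup_le fun μ => ?_
      by_cases hμ : μ = 1
      · rw [hμ]
      · rw [hcon μ hμ]; exact bot_le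
    ext w
    have : w ∈ (π z).eigenspace 1 := by rw [h1]; trivial
    rw [Module.End.mem_eigenspace_iff, one_smul] at this
    simpa using this
  let S : Set (Submodule k T) := {W | W ≠ ⊥ ∧ (∀ x : E, ∀ u ∈ W, π x u ∈ W) ∧
    W ≤ (π z).eigenspace μ}
  have hS : S.Nonempty := by
    refine ⟨(π z).eigenspace μ, hμ, ?_, le_rfl⟩
    intro x u hu
    rw [Module.End.mem_eigenspace_iff] at hu ⊢
    rw [← Module.End.mul_apply, ← map_mul, hz x, map_mul, Module.End.mul_apply, hu, map_smul]
  obtain ⟨W, ⟨hW0, hW, hWU⟩, hmin⟩ := wellFounded_lt.has_min S hS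
  refine ⟨W, hW, ?_, ?_, μ, hμ1, fun u hu => Module.End.mem_eigenspace_iff.1 (hWU hu)⟩
  · exact Submodule.nontrivial_iff_ne_bot.2 hW0
  · intro U hU
    by_cases hU0 : U = ⊥
    · exact Or.inl hU0
    right
    have h1 : U.map W.subtype ∈ S := by
      refine ⟨?_, ?_, (Submodule.map_subtype_le W U).trans hWU⟩
      · intro h2
        apply hU0
        rw [eq_bot_iff]
        intro u hu
        have h3 : W.subtype u ∈ U.map W.subtype := Submodule.mem_map_of_mem hu
        rw [h2, Submodule.mem_bot] at h3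
        rw [Submodule.mem_bot]
        exact Subtype.ext h3
      · rintro x _ ⟨u, hu, rfl⟩
        exact ⟨resRep π W hW x u, hU x hu, rfl⟩
    have h2 := hmin _ h1
    have h3 : U.map W.subtype = W := by
      rcases lt_or_eq_of_le (Submodule.map_subtype_le W U) with h4 | h4
      · exact absurd h4 h2
      · exact h4
    rw [eq_top_iff]
    intro w _
    have h4 : (w : T) ∈ U.map W.subtype := by rw [h3]; exact w.2
    obtain ⟨u, hu, he⟩ := h4
    have : u = w := Subtype.ext he
    rwa [← this]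

/-- the main result over an algebraically closed field -/
theorem ext_lin_alg {k T E : Type*} [Field k] [IsAlgClosed k] [AddCommGroup T] [Module k T]
    [FiniteDimensional k T]
    [Group E] [Finite E] (π : E →* Module.End k T) {K Z : Subgroup E} {ρ : E} {r : ℕ}
    (hr : r.Prime) (hrF : (r : k) ≠ 0) (hKF : (Nat.card K : k) ≠ 0) (hZK : Z ≤ K)
    (hcen : ∀ z ∈ Z, ∀ x : E, z * x = x * z) (hgen : K ⊔ Subgroup.zpowers ρ = ⊤)
    (hn : ρ ∈ Subgroup.normalizer (K : Set E)) (hpw : ρ ^ r = 1)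
    (hfpf : ∀ i, 0 < i → i < r → ∀ x ∈ K, ρ ^ i * x * (ρ ^ i)⁻¹ * x⁻¹ ∈ Z → x ∈ Z)
    (hcomm : ∀ x ∈ K, ∀ y ∈ K, y * x * y⁻¹ * x⁻¹ ∈ Z) {z₀ : E} (hz₀ : z₀ ∈ Z) (hz1 : π z₀ ≠ 1)
    (hnd : ∀ x ∈ K, x ∉ Z → ∀ N : Subgroup E, N ≤ Z → z₀ ∉ N → ∃ y ∈ K, y * x * y⁻¹ * x⁻¹ ∉ N)
    (hfix0 : ∑ i ∈ Finset.range r, π (ρ ^ i) = 0) :
    ∃ D : ℕ, D ^ 2 * Nat.card Z = Nat.card K ∧ (D = 1 ∨ D + 1 = r) := by
  classical
  have hord : (orderOf z₀ : k) ≠ 0 := by
    intro h0
    apply hKF
    have h1 : orderOf z₀ ∣ Nat.card K := by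
      have h2 : orderOf (⟨z₀, hZK hz₀⟩ : K) ∣ Nat.card K := orderOf_dvd_natCard _
      rwa [← Subgroup.orderOf_coe] at h2
    obtain ⟨c, hc⟩ := h1
    rw [hc, Nat.cast_mul, h0, zero_mul]
  obtain ⟨W, hW, hWn, hirr, μ, hμ1, hμ⟩ := exists_simple π (hcen z₀ hz₀) hord hz1
  set πW := resRep π W hW with hπW
  have hsub : ∀ X : Module.End k W, (∀ x ∈ K, πW x * X = X * πW x) → πW ρ * X = X * πW ρ →
    ∀ x : E, πW x * X = X * πW x := by
    intro X h1 h2
    let C : Subgroup E :=
      { carrier := {x | πW x * X = X * πW x}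
        one_mem' := by
          show πW 1 * X = X * πW 1
          rw [map_one, one_mul, mul_one]
        mul_mem' := by
          intro a b ha hb
          show πW (a * b) * X = X * πW (a * b)
          rw [map_mul, mul_assoc, show πW b * X = X * πW b from hb, ← mul_assoc,
            show πW a * X = X * πW a from ha, mul_assoc]
        inv_mem' := by
          intro a ha
          show πW a⁻¹ * X = X * πW a⁻¹
          have ha' : πW a * X = X * πW a := ha
          have e1 : πW a * πW a⁻¹ = 1 := by rw [← map_mul, mul_inv_cancel, map_one]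
          have e2 : πW a⁻¹ * πW a = 1 := by rw [← map_mul, inv_mul_cancel, map_one]
          calc πW a⁻¹ * X = πW a⁻¹ * (X * (πW a * πW a⁻¹)) := by rw [e1, mul_one]
            _ = πW a⁻¹ * (πW a * X) * πW a⁻¹ := by rw [ha']; simp only [mul_assoc]
            _ = (πW a⁻¹ * πW a) * X * πW a⁻¹ := by simp only [mul_assoc]
            _ = X * πW a⁻¹ := by rw [e2, one_mul] }
    have hC : (⊤ : Subgroup E) ≤ C := by
      rw [← hgen, sup_le_iff, Subgroup.zpowers_le]
      exact ⟨h1, h2⟩
    intro x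
    exact hC (Subgroup.mem_top x)
  have hesc : ESC πW K Z ρ r :=
    { irr := hirr
      le := hZK
      cen := hcen
      gen := hsub
      nrm := fun x hx => (Subgroup.mem_normalizer_iff.1 hn x).1 hx
      nrm' := fun x hx => (Subgroup.mem_normalizer_iff''.1 hn x).1 hx
      pr := hr
      pw := hpw
      fpf := hfpf
      nd := by
        intro x hx hxZ
        obtain ⟨y, hy, hyN⟩ := hnd x hx hxZ (Z ⊓ πW.ker) inf_le_left (by
          intro h0
          have h1 : πW z₀ = 1 := MonoidHom.mem_ker.1 (Subgroup.mem_inf.1 h0).2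
          obtain ⟨u, hu⟩ := exists_ne (0 : W)
          have h2 : ((πW z₀ u : W) : T) = μ • (u : T) := hμ u u.2
          rw [h1, Module.End.one_apply] at h2
          have h3 : (μ - 1) • (u : T) = 0 := by rw [sub_smul, one_smul, ← h2, sub_self]
          rcases smul_eq_zero.1 h3 with h4 | h4
          · exact hμ1 (sub_eq_zero.1 h4)
          · exact hu (Subtype.ext h4))
        have hc := hcomm x hx y hy
        obtain ⟨ν, hν⟩ : ∃ ν : k, πW (y * x * y⁻¹ * x⁻¹) = ν • 1 := by
          refine schur hirr fun w => ?_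
          rw [← map_mul, ← map_mul, hcen _ hc w]
        refine ⟨y, hy, ν, ?_, ?_⟩
        · intro h1
          apply hyN
          refine Subgroup.mem_inf.2 ⟨hc, ?_⟩
          rw [MonoidHom.mem_ker, hν, h1, one_smul]
        · rw [← map_mul, ← map_mul]
          have : y * x * y⁻¹ = (y * x * y⁻¹ * x⁻¹) * x := by group
          rw [this, map_mul, hν, smul_mul_assoc, one_mul]
      cK := hKF
      cr := hrF
      fix := by
        ext u
        rw [LinearMap.sum_apply, LinearMap.zero_apply, Submodule.coe_sum, ZeroMemClass.coe_zero]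
        have h1 : ∀ i ∈ Finset.range r, ((πW (ρ ^ i) u : W) : T) = π (ρ ^ i) u :=
          fun i _ => rfl
        rw [Finset.sum_congr rfl h1, ← LinearMap.sum_apply, hfix0, LinearMap.zero_apply] }
  exact ⟨finrank k W, hesc.finrank_sq, hesc.main⟩

/-- the sum over powers of an element without fixed points is zero -/
theorem sum_pow_zero {F M E : Type*} [Field F] [AddCommGroup M] [Module F M]
    [Group E] (π₀ : E →* Module.End F M) {ρ : E} {r : ℕ} (hpw : ρ ^ r = 1)
    (hfix : ∀ v : M, π₀ ρ v = v → v = 0) : ∑ i ∈ Finset.range r, π₀ (ρ ^ i) = 0 := by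
  ext v
  rw [LinearMap.sum_apply, LinearMap.zero_apply]
  apply hfix
  rw [map_sum]
  have h1 : ∀ i, π₀ ρ (π₀ (ρ ^ i) v) = π₀ (ρ ^ (i + 1)) v := by
    intro i
    rw [pow_succ', map_mul, Module.End.mul_apply]
  simp only [h1]
  have h2 := Finset.sum_range_succ (fun i => π₀ (ρ ^ i) v) r
  rw [Finset.sum_range_succ', hpw, pow_zero] at h2
  exact add_right_cancel h2

/-- the main result for linear groups over an arbitrary field -/
theorem ext_lin {F M E : Type*} [Field F] [AddCommGroup M] [Module F M] [FiniteDimensional F M]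
    [Group E] [Finite E] (π₀ : E →* Module.End F M) {K Z : Subgroup E} {ρ : E} {r : ℕ}
    (hr : r.Prime) (hrF : (r : F) ≠ 0) (hKF : (Nat.card K : F) ≠ 0) (hZK : Z ≤ K)
    (hcen : ∀ z ∈ Z, ∀ x : E, z * x = x * z) (hgen : K ⊔ Subgroup.zpowers ρ = ⊤)
    (hn : ρ ∈ Subgroup.normalizer (K : Set E)) (hpw : ρ ^ r = 1)
    (hfpf : ∀ i, 0 < i → i < r → ∀ x ∈ K, ρ ^ i * x * (ρ ^ i)⁻¹ * x⁻¹ ∈ Z → x ∈ Z)
    (hcomm : ∀ x ∈ K, ∀ y ∈ K, y * x * y⁻¹ * x⁻¹ ∈ Z) {z₀ : E} (hz₀ : z₀ ∈ Z) (hz₀1 : π₀ z₀ ≠ 1)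
    (hnd : ∀ x ∈ K, x ∉ Z → ∀ N : Subgroup E, N ≤ Z → z₀ ∉ N → ∃ y ∈ K, y * x * y⁻¹ * x⁻¹ ∉ N)
    (hfix : ∀ v : M, π₀ ρ v = v → v = 0) :
    ∃ D : ℕ, D ^ 2 * Nat.card Z = Nat.card K ∧ (D = 1 ∨ D + 1 = r) := by
  classical
  let bc : Module.End F M →ₐ[F] Module.End (AlgebraicClosure F) (AlgebraicClosure F ⊗[F] M) :=
    Module.End.baseChangeHom F (AlgebraicClosure F) M
  have hbc : Function.Injective bc := LinearMap.baseChangeHom_injective F M (AlgebraicClosure F)
  have hcast : ∀ n : ℕ, (n : F) ≠ 0 → (n : AlgebraicClosure F) ≠ 0 := by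
    intro n hn h0
    apply hn
    have : algebraMap F (AlgebraicClosure F) (n : F) = 0 := by rw [map_natCast]; exact h0
    exact (map_eq_zero _).1 this
  refine ext_lin_alg ((bc : Module.End F M →* Module.End (AlgebraicClosure F)
    (AlgebraicClosure F ⊗[F] M)).comp π₀) hr (hcast _ hrF) (hcast _ hKF) hZK hcen
    hgen hn hpw hfpf hcomm hz₀ ?_ hnd ?_
  · intro h
    apply hz₀1
    apply hbc
    rw [map_one]
    exact h
  · have h1 := sum_pow_zero π₀ hpw hfix
    have h2 : ∑ i ∈ Finset.range r, bc (π₀ (ρ ^ i)) = 0 := by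
      rw [← map_sum, h1, map_zero]
    exact h2

end CfsgLib.BGRep
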