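import Cfsg.Agent.EqBase
import Cfsg.Agent.LibBGRepB

/-! Group-theoretic forms of the results of `LibBGRep`. -/

open scoped BigOperators
open Module

namespace CfsgLib.BGRep

/-- Frobenius-type averaging -/
theorem frob_lin {F M E : Type*} [Field F] [AddCommGroup M] [Module F M]
    [Group E] [Finite E] (π : E →* Module.End F M) {K : Subgroup E} {ρ : E} {r : ℕ}
    (hr : 0 < r) (hKF : (Nat.card K : F) ≠ 0)
    (hn : ρ ∈ Subgroup.normalizer (K : Set E)) (hpw : ρ ^ r = 1)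
    (hfpf : ∀ i, 0 < i → i < r → ∀ x ∈ K, ρ ^ i * x * (ρ ^ i)⁻¹ = x → x = 1)
    (hK : ∀ v : M, (∀ x ∈ K, π x v = v) → v = 0)
    (hfix : ∀ v : M, π ρ v = v → v = 0) (v : M) : v = 0 := by
  classical
  haveI := Fintype.ofFinite K
  have h1 := sum_pow_zero π hpw hfix
  have hK0 : ∑ x : K, π x = 0 := by
    ext w
    rw [LinearMap.sum_apply, LinearMap.zero_apply]
    apply hK
    intro x hx
    rw [map_sum]
    refine Fintype.sum_equiv (Equiv.mulLeft ⟨x, hx⟩) _ _ fun y => ?_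
    simp only [Equiv.coe_mulLeft, Subgroup.coe_mul, map_mul, Module.End.mul_apply]
  have h2 : avg π K (∑ i ∈ Finset.range r, π (ρ ^ i)) = 0 := by
    rw [h1, avg]; simp
  rw [avg_sum, Finset.sum_eq_single_of_mem 0 (Finset.mem_range.2 hr), pow_zero, map_one, avg] at h2
  · have h3 : ∀ x : K, π x * 1 * π (x : E)⁻¹ = 1 := fun x => by rw [mul_one, pi_inv']
    simp only [h3, Finset.sum_const, Finset.card_univ] at h2
    have h4 := LinearMap.congr_fun h2 v
    rw [← Nat.card_eq_fintype_card, ← Nat.cast_smul_eq_nsmul F, LinearMap.smul_apply,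
      Module.End.one_apply, LinearMap.zero_apply] at h4
    rcases smul_eq_zero.1 h4 with h5 | h5
    · exact absurd h5 hKF
    · exact h5
  · intro i hi hi0
    have hi1 : 0 < i := Nat.pos_of_ne_zero hi0
    have hi2 : i < r := Finset.mem_range.1 hi
    have hni : ρ ^ i ∈ Subgroup.normalizer (K : Set E) := Subgroup.pow_mem _ hn i
    have hc : ∀ x : K, ρ ^ i * (x : E) * (ρ ^ i)⁻¹ ∈ K := fun x =>
      (Subgroup.mem_normalizer_iff.1 hni x).1 x.2
    let f : K → K := fun x => x * (⟨_, hc x⟩ : K)⁻¹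
    have hf : Function.Injective f := by
      intro x y hxy
      have h3 : (x : E) * (ρ ^ i * (x : E) * (ρ ^ i)⁻¹)⁻¹ =
          (y : E) * (ρ ^ i * (y : E) * (ρ ^ i)⁻¹)⁻¹ := congrArg Subtype.val hxy
      have h4 : ρ ^ i * ((y : E)⁻¹ * x) * (ρ ^ i)⁻¹ = (y : E)⁻¹ * x := by
        have h5 : (y : E)⁻¹ * x = (ρ ^ i * (y : E) * (ρ ^ i)⁻¹)⁻¹ * (ρ ^ i * (x : E) * (ρ ^ i)⁻¹) := by
          rw [eq_comm, ← eq_mul_inv_iff_mul_eq, eq_comm, mul_assoc, h3]
          group
        conv_rhs => rw [h5]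
        group
      have h5 := hfpf i hi1 hi2 _ (K.mul_mem (K.inv_mem y.2) x.2) h4
      exact Subtype.ext (inv_mul_eq_one.1 h5).symm
    have hb : Function.Bijective f := Finite.injective_iff_bijective.1 hf
    rw [avg]
    have h3 : ∀ x : K, π x * π (ρ ^ i) * π (x : E)⁻¹ = π (f x) * π (ρ ^ i) := by
      intro x
      rw [← map_mul, ← map_mul, ← map_mul]
      congr 1
      show _ = (x : E) * (ρ ^ i * (x : E) * (ρ ^ i)⁻¹)⁻¹ * ρ ^ i
      group
    simp only [h3]
    rw [← Finset.sum_mul]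
    have h4 : ∑ x : K, π (f x) = ∑ x : K, π x :=
      Fintype.sum_equiv (Equiv.ofBijective f hb) _ _ fun x => rfl
    rw [h4, hK0, zero_mul]

/-- linear representation over `ZMod p` from an additive action -/
noncomputable def repZ {M E : Type*} [AddCommGroup M] [Group E] (p : ℕ) [Module (ZMod p) M]
    (φ : E →* AddMonoid.End M) : E →* Module.End (ZMod p) M where
  toFun x := AddMonoidHom.toZModLinearMap p (φ x)
  map_one' := by
    ext v
    rw [map_one]; rfl
  map_mul' x y := by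
    ext v
    rw [map_mul]; rfl

theorem repZ_apply {M E : Type*} [AddCommGroup M] [Group E] (p : ℕ) [Module (ZMod p) M]
    (φ : E →* AddMonoid.End M) (x : E) (v : M) : repZ p φ x v = φ x v := rfl

/-- additive version of an action -/
def addAct {V E : Type*} [CommGroup V] [Group E] (φ : E →* MulAut V) :
    E →* AddMonoid.End (Additive V) where
  toFun x := MonoidHom.toAdditive (φ x).toMonoidHom
  map_one' := by
    refine AddMonoidHom.ext fun v => ?_
    show Additive.ofMul (φ 1 v.toMul) = v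
    rw [map_one]; rfl
  map_mul' x y := by
    refine AddMonoidHom.ext fun v => ?_
    show Additive.ofMul (φ (x * y) v.toMul) = Additive.ofMul (φ x (φ y v.toMul))
    rw [map_mul]; rfl

theorem addAct_apply {V E : Type*} [CommGroup V] [Group E] (φ : E →* MulAut V) (x : E) (v : V) :
    addAct φ x (Additive.ofMul v) = Additive.ofMul (φ x v) := rfl

/-- linear representation over `ZMod p` attached to an action on an elementary abelian group -/
theorem exists_rep {V E : Type*} [CommGroup V] [Finite V] [Group E] (φ : E →* MulAut V) (p : ℕ)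
    [Fact p.Prime] (hV : ∀ v : V, v ^ p = 1) :
    ∃ (inst : Module (ZMod p) (Additive V)) (π : E →* Module.End (ZMod p) (Additive V)),
      (Module.Finite (ZMod p) (Additive V)) ∧
      ∀ x v, π x (Additive.ofMul v) = Additive.ofMul (φ x v) := by
  letI inst : Module (ZMod p) (Additive V) :=
    AddCommGroup.zmodModule (fun v => by
      show Additive.ofMul (v.toMul ^ p) = 0
      rw [hV]; rfl)
  refine ⟨inst, repZ p (addAct φ), ?_, ?_⟩
  · haveI : Finite (Additive V) := inferInstanceAs (Finite V)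
    exact Module.Finite.of_finite
  · intro x v; rfl

theorem ext_grp {V E : Type*} [CommGroup V] [Finite V] [Group E] [Finite E] (φ : E →* MulAut V)
    {p : ℕ} [Fact p.Prime] (hV : ∀ v : V, v ^ p = 1) {K Z : Subgroup E} {ρ : E} {r : ℕ}
    (hr : r.Prime) (hrp : r ≠ p) (hKp : ¬ p ∣ Nat.card K) (hZK : Z ≤ K)
    (hcen : ∀ z ∈ Z, ∀ x : E, z * x = x * z) (hgen : K ⊔ Subgroup.zpowers ρ = ⊤)
    (hn : ρ ∈ Subgroup.normalizer (K : Set E)) (hpw : ρ ^ r = 1)
    (hfpf : ∀ i, 0 < i → i < r → ∀ x ∈ K, ρ ^ i * x * (ρ ^ i)⁻¹ * x⁻¹ ∈ Z → x ∈ Z)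
    (hcomm : ∀ x ∈ K, ∀ y ∈ K, y * x * y⁻¹ * x⁻¹ ∈ Z) {z₀ : E} (hz₀ : z₀ ∈ Z) (hz₀1 : φ z₀ ≠ 1)
    (hnd : ∀ x ∈ K, x ∉ Z → ∀ N : Subgroup E, N ≤ Z → z₀ ∉ N → ∃ y ∈ K, y * x * y⁻¹ * x⁻¹ ∉ N)
    (hfix : ∀ v : V, φ ρ v = v → v = 1) :
    ∃ D : ℕ, D ^ 2 * Nat.card Z = Nat.card K ∧ (D = 1 ∨ D + 1 = r) := by
  obtain ⟨inst, π, hfin, hπ⟩ := exists_rep φ p hV
  have hp : p.Prime := Fact.out
  refine ext_lin (F := ZMod p) (M := Additive V) π hr ?_ ?_ hZK hcen hgen hn hpw hfpf hcomm hz₀ ?_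
    hnd ?_
  · intro h
    rw [ZMod.natCast_eq_zero_iff] at h
    exact hrp ((Nat.prime_dvd_prime_iff_eq hp hr).1 h).symm
  · intro h
    rw [ZMod.natCast_eq_zero_iff] at h
    exact hKp h
  · intro h
    apply hz₀1
    ext v
    have h1 := hπ z₀ v
    rw [h] at h1
    exact (Additive.ofMul.injective h1).symm
  · intro v hv
    have h1 := hπ ρ v.toMul
    rw [ofMul_toMul, hv] at h1
    have h2 := hfix v.toMul (Additive.ofMul.injective h1.symm)
    exact h2

theorem frob_grp {V E : Type*} [CommGroup V] [Finite V] [Group E] [Finite E] (φ : E →* MulAut V)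
    {p : ℕ} [Fact p.Prime] (hV : ∀ v : V, v ^ p = 1) {K : Subgroup E} {ρ : E} {r : ℕ}
    (hr : 0 < r) (hKp : ¬ p ∣ Nat.card K)
    (hn : ρ ∈ Subgroup.normalizer (K : Set E)) (hpw : ρ ^ r = 1)
    (hfpf : ∀ i, 0 < i → i < r → ∀ x ∈ K, ρ ^ i * x * (ρ ^ i)⁻¹ = x → x = 1)
    (hK : ∀ v : V, (∀ x ∈ K, φ x v = v) → v = 1)
    (hfix : ∀ v : V, φ ρ v = v → v = 1) (v : V) : v = 1 := by
  obtain ⟨inst, π, hfin, hπ⟩ := exists_rep φ p hV
  have hp : p.Prime := Fact.out
  have h0 := frob_lin (F := ZMod p) (M := Additive V) π (K := K) hr ?_ hn hpw hfpf ?_ ?_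
    (Additive.ofMul v)
  · exact h0
  · intro h
    rw [ZMod.natCast_eq_zero_iff] at h
    exact hKp h
  · intro w hw
    exact hK w.toMul fun x hx => by
      have h1 := hπ x w.toMul
      rw [ofMul_toMul, hw x hx] at h1
      exact Additive.ofMul.injective h1.symm
  · intro w hw
    have h1 := hπ ρ w.toMul
    rw [ofMul_toMul, hw] at h1
    exact hfix w.toMul (Additive.ofMul.injective h1.symm)

end CfsgLib.BGRep
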