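import Mathlib
import Cfsg.Agent.EqBase

/-! Brauer's theorem on groups with few Sylow `p`-subgroups of order `p`: arithmetic (seat helper11). -/

set_option autoImplicit false
set_option linter.all false

namespace CfsgLib.BR11

/-- `n` is not of Brauer's form -/
def NoF (p n : ℕ) : Prop := ∀ h u : ℕ, 0 < h → 0 < u → n * (u + 1) ≠ h * u * p + u ^ 2 + u + h

theorem lemN_pos {p n D : ℕ} (hp : 3 ≤ p) (hn : 1 ≤ n) (hF : NoF p n) (hpp : p.Prime)
    (hD : D ∣ (1 + n * p) * (p - 1)) (h1 : (D : ℤ) ≡ 1 [ZMOD p]) : D = 1 ∨ D = 1 + n * p := by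
  obtain ⟨q, rfl⟩ : ∃ q, p = q + 1 := ⟨p - 1, by omega⟩
  have hD0 : 0 < D := Nat.pos_of_dvd_of_pos hD (by simp; omega)
  -- D = u p + 1
  obtain ⟨u, hu⟩ : ∃ u : ℕ, D = u * (q + 1) + 1 := by
    have h2 : ((q + 1 : ℕ) : ℤ) ∣ (D : ℤ) - 1 := by
      have := h1.symm.dvd
      exact this
    obtain ⟨c, hc⟩ := h2
    have hc0 : 0 ≤ c := by
      by_contra hcon
      push Not at hcon
      have : ((q + 1 : ℕ) : ℤ) * c < 0 := mul_neg_of_pos_of_neg (by positivity) hcon
      have hD1 : (1 : ℤ) ≤ D := by exact_mod_cast hD0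
      linarith
    obtain ⟨u, rfl⟩ := Int.eq_ofNat_of_zero_le hc0
    refine ⟨u, ?_⟩
    have : (D : ℤ) = u * (q + 1) + 1 := by push_cast at hc; linarith
    exact_mod_cast this
  rcases Nat.eq_zero_or_pos u with h0 | hupos
  · left; rw [hu, h0]; ring
  right
  -- D ∣ (1 + n p)(u + 1)
  have hcop : Nat.Coprime D (q + 1) := by
    rw [hu]
    have h3 : Nat.Coprime (1 + (q + 1) * u) (q + 1) := by
      rw [Nat.coprime_add_mul_left_left]; exact Nat.coprime_one_left _
    have e : u * (q + 1) + 1 = 1 + (q + 1) * u := by ring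
    rw [e]; exact h3
  have hdvd : D ∣ (1 + n * (q + 1)) * (u + 1) := by
    have h3 : D ∣ (q + 1) * ((1 + n * (q + 1)) * (u + 1)) := by
      have e : (q + 1) * ((1 + n * (q + 1)) * (u + 1)) = (1 + n * (q + 1)) * (u * (q + 1) + 1) + (1 + n * (q + 1)) * (q + 1 - 1) := by
        rw [Nat.add_sub_cancel]; ring
      rw [e, ← hu]
      exact dvd_add (Dvd.intro_left _ rfl) hD
    exact hcop.dvd_of_dvd_mul_left h3
  obtain ⟨τ, hτ⟩ := hdvd
  -- integer congruence
  have hτZ : ((1 + n * (q + 1)) * (u + 1) : ℤ) = (u * (q + 1) + 1) * τ := by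
    have := hτ
    rw [hu] at this
    exact_mod_cast this
  have hmod : ((q : ℤ) + 1) ∣ τ - (u + 1) := by
    refine ⟨n * (u + 1) - u * τ, ?_⟩
    linear_combination -hτZ
  obtain ⟨h, hh⟩ := hmod
  have hτ' : (τ : ℤ) = u + 1 + h * (q + 1) := by linear_combination hh
  have hmain : (n : ℤ) * (u + 1) = h * u * (q + 1) + u ^ 2 + u + h := by
    have h4 : ((q : ℤ) + 1) * (n * (u + 1)) = (q + 1) * (h * u * (q + 1) + u ^ 2 + u + h) := by
      rw [hτ'] at hτZ
      linear_combination hτZ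
    exact mul_left_cancel₀ (by positivity) h4
  rcases lt_trichotomy h 0 with hneg | h0 | hpos
  · exfalso
    obtain ⟨h', rfl⟩ : ∃ h' : ℕ, h = -(h' : ℤ) := ⟨h.natAbs, by omega⟩
    have hh1 : 1 ≤ h' := by omega
    have hτpos : 0 < τ := by
      rcases Nat.eq_zero_or_pos τ with h5 | h5
      · exfalso
        rw [h5, mul_zero] at hτ
        have : 0 < (1 + n * (q + 1)) * (u + 1) := by positivity
        omega
      · exact h5
    have h5 : (h' : ℤ) * (q + 1) < u + 1 := by
      have : (0 : ℤ) < τ := by exact_mod_cast hτpos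
      linarith
    -- (u + 1) ∣ h' q
    have h6 : ((u : ℤ) + 1) ∣ h' * q := by
      refine ⟨n - u + h' * (q + 1), ?_⟩
      linear_combination -hmain
    have h7 : (0 : ℤ) < h' * q := by
      have : (1 : ℤ) ≤ h' := by exact_mod_cast hh1
      have : (2 : ℤ) ≤ q := by exact_mod_cast (by omega : 2 ≤ q)
      positivity
    have h8 := Int.le_of_dvd h7 h6
    have h9 : (h' : ℤ) * (q + 1) = h' * q + h' := by ring
    have : (1 : ℤ) ≤ h' := by exact_mod_cast hh1
    linarith
  · subst h0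
    have h5 : (n : ℤ) * (u + 1) = u * (u + 1) := by linear_combination hmain
    have h6 : (n : ℤ) = u := mul_right_cancel₀ (by positivity) h5
    have h7 : n = u := by exact_mod_cast h6
    rw [hu, h7]; ring
  · exfalso
    obtain ⟨h', rfl⟩ := Int.eq_ofNat_of_zero_le hpos.le
    refine hF h' u (by omega) hupos ?_
    have : ((n * (u + 1) : ℕ) : ℤ) = ((h' * u * (q + 1) + u ^ 2 + u + h' : ℕ) : ℤ) := by
      push_cast; exact hmain
    exact_mod_cast this

theorem lemN_neg {p n D : ℕ} (hp : 3 ≤ p) (hn : 1 ≤ n) (hF : NoF p n) (hpp : p.Prime)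
    (hD : D ∣ (1 + n * p) * (p - 1)) (h1 : (D : ℤ) ≡ -1 [ZMOD p]) : D = p - 1 ∨ D = (p - 1) * (1 + n * p) := by
  obtain ⟨q, rfl⟩ : ∃ q, p = q + 1 := ⟨p - 1, by omega⟩
  have hq2 : 2 ≤ q := by omega
  have hD0 : 0 < D := Nat.pos_of_dvd_of_pos hD (by simp; omega)
  -- D = (w+1) p - 1 = w p + q
  obtain ⟨w, hw⟩ : ∃ w : ℕ, D = w * (q + 1) + q := by
    have h2 : ((q + 1 : ℕ) : ℤ) ∣ (D : ℤ) - (-1) := h1.symm.dvd
    obtain ⟨c, hc⟩ := h2
    have hc0 : 1 ≤ c := by
      by_contra hcon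
      push Not at hcon
      have h3 : c ≤ 0 := by omega
      have : ((q + 1 : ℕ) : ℤ) * c ≤ 0 := mul_nonpos_of_nonneg_of_nonpos (by positivity) h3
      have hD1 : (1 : ℤ) ≤ D := by exact_mod_cast hD0
      linarith
    obtain ⟨w, hw⟩ := Int.eq_ofNat_of_zero_le (show 0 ≤ c - 1 by omega)
    refine ⟨w, ?_⟩
    have hc' : c = w + 1 := by omega
    have : (D : ℤ) = w * (q + 1) + q := by rw [hc'] at hc; push_cast at hc; linarith
    exact_mod_cast this
  rcases Nat.eq_zero_or_pos w with h0 | hwpos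
  · left; rw [hw, h0]; simp
  right
  have hcop : Nat.Coprime D (q + 1) := by
    have e : w * (q + 1) + q = q + w * (q + 1) := by ring
    rw [hw, e, Nat.coprime_add_mul_right_left]
    exact (Nat.coprime_self_add_right).2 (Nat.coprime_one_right q)
  have hdvd : D ∣ (1 + n * (q + 1)) * w := by
    have h3 : D ∣ (q + 1) * ((1 + n * (q + 1)) * w) := by
      have e : (q + 1) * ((1 + n * (q + 1)) * w) + (1 + n * (q + 1)) * (q + 1 - 1) = (1 + n * (q + 1)) * (w * (q + 1) + q) := by
        rw [Nat.add_sub_cancel]; ring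
      have h4 : D ∣ (q + 1) * ((1 + n * (q + 1)) * w) + (1 + n * (q + 1)) * (q + 1 - 1) := by
        rw [e, ← hw]; exact Dvd.intro_left _ rfl
      exact (Nat.dvd_add_left hD).1 h4
    exact hcop.dvd_of_dvd_mul_left h3
  obtain ⟨τ, hτ⟩ := hdvd
  have hτZ : ((1 + n * (q + 1)) * w : ℤ) = (w * (q + 1) + q) * τ := by
    have := hτ
    rw [hw] at this
    exact_mod_cast this
  have hτpos : 0 < τ := by
    rcases Nat.eq_zero_or_pos τ with h5 | h5
    · exfalso
      rw [h5, mul_zero] at hτ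
      have : 0 < (1 + n * (q + 1)) * w := by positivity
      omega
    · exact h5
  have hmod : ((q : ℤ) + 1) ∣ τ + w := by
    refine ⟨w * τ + τ - n * w, ?_⟩
    linear_combination hτZ
  obtain ⟨h, hh⟩ := hmod
  have hτ' : (τ : ℤ) = h * (q + 1) - w := by linear_combination hh
  have hmain : (n : ℤ) * w = h * (w * (q + 1) + q) - (w + 1) * w := by
    have h4 : ((q : ℤ) + 1) * (n * w) = (q + 1) * (h * (w * (q + 1) + q) - (w + 1) * w) := by
      rw [hτ'] at hτZ
      linear_combination hτZ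
    exact mul_left_cancel₀ (by positivity) h4
  have hhpos : 0 < h := by
    have h5 : (0 : ℤ) < τ := by exact_mod_cast hτpos
    have h6 : (0 : ℤ) < h * (q + 1) := by
      have : (0 : ℤ) ≤ w := by positivity
      linarith
    by_contra hcon
    push Not at hcon
    have h7 : h * ((q : ℤ) + 1) ≤ 0 := mul_nonpos_of_nonpos_of_nonneg hcon (by positivity)
    linarith
  obtain ⟨h', rfl⟩ := Int.eq_ofNat_of_zero_le hhpos.le
  -- k = h q / w
  have hk : (w : ℤ) ∣ h' * q := by
    refine ⟨n - h' * (q + 1) + (w + 1), ?_⟩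
    linear_combination -hmain
  obtain ⟨k, hk⟩ := hk
  have hkpos : 0 < k := by
    have h7 : (0 : ℤ) < w * k := by
      rw [← hk]
      have : (2 : ℤ) ≤ q := by exact_mod_cast hq2
      positivity
    by_contra hcon
    push Not at hcon
    have h8 : (w : ℤ) * k ≤ 0 := mul_nonpos_of_nonneg_of_nonpos (by positivity) hcon
    linarith
  obtain ⟨k', rfl⟩ := Int.eq_ofNat_of_zero_le hkpos.le
  have hn' : (n : ℤ) = h' * (q + 1) + k' - w - 1 := by
    have hw0 : (w : ℤ) ≠ 0 := by exact_mod_cast hwpos.ne'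
    apply mul_right_cancel₀ hw0
    linear_combination hmain + hk
  rcases Nat.lt_or_ge 1 k' with hk2 | hk1
  · exfalso
    obtain ⟨U, rfl⟩ : ∃ U, k' = U + 1 := ⟨k' - 1, by omega⟩
    refine hF h' U (by omega) (by omega) ?_
    have : ((n * (U + 1) : ℕ) : ℤ) = ((h' * U * (q + 1) + U ^ 2 + U + h' : ℕ) : ℤ) := by
      push_cast at hk hn' ⊢
      rw [hn']
      linear_combination hk
    exact_mod_cast this
  · have hk1' : k' = 1 := by omega
    subst hk1'
    have h8 : (n : ℤ) = h' := by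
      push_cast at hk hn'
      linear_combination hn' + hk
    have h9 : (w : ℤ) = n * q := by
      push_cast at hk
      rw [h8]; linear_combination -hk
    have h10 : w = n * q := by exact_mod_cast h9
    rw [hw, h10, Nat.add_sub_cancel]; ring

end CfsgLib.BR11
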