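import Mathlib
import Cfsg.Agent.EqBase
import Cfsg.Agent.LibCharBasic2
import Cfsg.Agent.LibBlockCore

/-! Averaging characters over a normal subgroup (seat helper11). -/

set_option autoImplicit false
set_option linter.all false

namespace CfsgLib.BR11

open Subgroup Cfsg CfsgLib.CharBasic
open scoped ComplexConjugate

universe u

section
variable {H : Type u} [Group H] [Fintype H]

/-- average over a subgroup -/
noncomputable def av (K : Subgroup H) [Fintype K] (χ : H → ℂ) (g : H) : ℂ := (Nat.card K : ℂ)⁻¹ * ∑ k : K, χ (k * g)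

variable {K : Subgroup H} [Fintype K]

theorem cK : (Nat.card K : ℂ) ≠ 0 := by exact_mod_cast Nat.card_pos.ne'

theorem av_mul (χ : H → ℂ) (k : K) (g : H) : av K χ (k * g) = av K χ g := by
  unfold av
  congr 1
  apply Fintype.sum_equiv (Equiv.mulRight k)
  intro x
  show χ (x * (k * g)) = χ (((x * k : K) : H) * g)
  rw [Subgroup.coe_mul, mul_assoc]

theorem av_av (χ : H → ℂ) (g : H) : av K (av K χ) g = av K χ g := by
  conv_lhs => unfold av
  rw [Finset.sum_congr rfl fun (k : K) _ => show (Nat.card K : ℂ)⁻¹ * ∑ k' : K, χ (k' * (k * g)) = av K χ g from av_mul χ k g,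
    Finset.sum_const, Finset.card_univ, nsmul_eq_mul, ← Nat.card_eq_fintype_card, ← mul_assoc, inv_mul_cancel₀ cK, one_mul]

theorem av_sum {ι : Type*} (s : Finset ι) (c : ι → ℂ) (f : ι → H → ℂ) (g : H) :
    av K (fun h => ∑ i ∈ s, c i * f i h) g = ∑ i ∈ s, c i * av K (f i) g := by
  unfold av
  rw [Finset.sum_comm, Finset.mul_sum]
  apply Finset.sum_congr rfl
  intro i _
  rw [← Finset.mul_sum]; ring

theorem av_irr [hK : K.Normal] (ψ : IrrCharacter H) : ∃ c : ℕ, (c = 0 ∨ c = 1) ∧ ∀ g, av K (ψ : H → ℂ) g = c * (ψ : H → ℂ) g := by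
  classical
  have ha : IsClassFunction H (fun h : H => if h ∈ K then (1 : ℂ) else 0) := by
    intro g c
    show (if c * g * c⁻¹ ∈ K then (1 : ℂ) else 0) = if g ∈ K then 1 else 0
    have h1 : c * g * c⁻¹ ∈ K ↔ g ∈ K := by
      constructor
      · intro h
        have h2 := hK.conj_mem _ h c⁻¹
        have e : c⁻¹ * (c * g * c⁻¹) * c⁻¹⁻¹ = g := by group
        rwa [e] at h2
      · intro h; exact hK.conj_mem g h c
    by_cases h : g ∈ K
    · rw [if_pos h, if_pos (h1.2 h)]
    · rw [if_neg h, if_neg (fun h0 => h (h1.1 h0))]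
  obtain ⟨c, hc⟩ : ∃ c : ℂ, ∀ g, av K (ψ : H → ℂ) g = c * (ψ : H → ℂ) g := by
    refine ⟨(Nat.card K : ℂ)⁻¹ * CfsgLib.BlockCore.omg (ψ : H → ℂ) (fun h : H => if h ∈ K then (1 : ℂ) else 0), fun g => ?_⟩
    rw [mul_assoc, ← CfsgLib.BlockCore.sum_mul_eq_omg ψ ha g]
    unfold av
    congr 1
    rw [← Finset.sum_subtype (Finset.univ.filter (fun h : H => h ∈ K)) (p := fun h => h ∈ K) (fun h => by simp) (fun h => (ψ : H → ℂ) (h * g)),
      Finset.sum_filter]
    apply Finset.sum_congr rfl
    intro x _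
    show _ = (if x ∈ K then (1 : ℂ) else 0) * _
    split_ifs <;> simp
  have h2 : c * c = c := by
    have h3 := av_av (K := K) (ψ : H → ℂ) 1
    have h4 : av K (av K (ψ : H → ℂ)) 1 = c * av K (ψ : H → ℂ) 1 := by
      have h5 : av K (ψ : H → ℂ) = fun g => c * (ψ : H → ℂ) g := funext hc
      conv_lhs => rw [h5]
      unfold av
      rw [← Finset.mul_sum]; ring
    rw [h4, hc] at h3
    have h5 := irr_one_ne_zero ψ.2
    have h6 : (c * c - c) * (ψ : H → ℂ) 1 = 0 := by linear_combination h3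
    rcases mul_eq_zero.1 h6 with h7 | h7
    · linear_combination h7
    · exact absurd h7 h5
  have h3 : c = 0 ∨ c = 1 := by
    have : c * (c - 1) = 0 := by linear_combination h2
    rcases mul_eq_zero.1 this with h | h
    · exact Or.inl h
    · exact Or.inr (by linear_combination h)
  rcases h3 with rfl | rfl
  · exact ⟨0, Or.inl rfl, fun g => by rw [hc]; simp⟩
  · exact ⟨1, Or.inr rfl, fun g => by rw [hc]; simp⟩

theorem av_char [hK : K.Normal] {χ : H → ℂ} (hχ : IsCharacter H χ) : IsCharacter H (av K χ) := by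
  obtain ⟨m, hm, hexp, -⟩ := char_expand hχ
  choose c hc1 hc2 using fun ψ : IrrCharacter H => av_irr (K := K) ψ
  have h1 : av K χ = fun g => ∑ ψ : IrrCharacter H, ((m ψ * c ψ : ℕ) : ℂ) * (ψ : H → ℂ) g := by
    funext g
    have h2 : χ = fun h => ∑ ψ : IrrCharacter H, (m ψ : ℂ) * (ψ : H → ℂ) h := by
      conv_lhs => rw [hexp]
      funext h; simp [Finset.sum_apply]
    rw [h2, av_sum]
    apply Finset.sum_congr rfl
    intro ψ _
    rw [hc2]; push_cast; ring
  have h3 : av K χ = ∑ ψ : IrrCharacter H, (m ψ * c ψ) • (ψ : H → ℂ) := by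
    rw [h1]; funext g; simp [Finset.sum_apply]
  rw [h3]
  apply isCharacter_sum
  intro ψ _
  exact isCharacter_nsmul (irr_isCharacter ψ.2) _

theorem av_one (χ : H → ℂ) : av K χ 1 = (Nat.card K : ℂ)⁻¹ * ∑ k : K, χ k := by
  unfold av; simp only [mul_one]

theorem av_mem (χ : H → ℂ) {g : H} (hg : g ∈ K) : av K χ g = av K χ 1 := by
  have := av_mul χ (⟨g, hg⟩ : K) 1
  rwa [mul_one] at this

theorem sum_av (χ : H → ℂ) : ∑ g : H, av K χ g = ∑ g : H, χ g := by
  unfold av
  rw [← Finset.mul_sum, Finset.sum_comm]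
  have h1 : ∀ k : K, ∑ g : H, χ (k * g) = ∑ g : H, χ g := fun k => Fintype.sum_equiv (Equiv.mulLeft (k : H)) _ _ (fun g => rfl)
  rw [Finset.sum_congr rfl fun k _ => h1 k, Finset.sum_const, Finset.card_univ, nsmul_eq_mul, ← Nat.card_eq_fintype_card, ← mul_assoc,
    inv_mul_cancel₀ cK, one_mul]

theorem inner_one_av (χ : H → ℂ) : classInner (av K χ) (fun _ => 1) = classInner χ (fun _ => 1) := by
  rw [inner_one_right, inner_one_right, sum_av]

/-- a character whose multiplicity of the principal character is the degree is constant -/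
theorem const_of_mult {χ : H → ℂ} (hχ : IsCharacter H χ) (h : classInner χ (fun _ => 1) = χ 1) (g : H) : χ g = χ 1 := by
  obtain ⟨n, hn⟩ := char_one_nat hχ
  have h1 : ∑ g : H, ((n : ℝ) - (χ g).re) = 0 := by
    rw [inner_one_right, hn] at h
    have hH0 : (Nat.card H : ℂ) ≠ 0 := by exact_mod_cast Nat.card_pos.ne'
    have h2 : ∑ g : H, χ g = Nat.card H * n := by
      rw [← h, ← mul_assoc, mul_inv_cancel₀ hH0, one_mul]
    have h3 := congrArg Complex.re h2
    rw [Complex.re_sum] at h3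
    rw [Finset.sum_sub_distrib, h3, Finset.sum_const, Finset.card_univ, nsmul_eq_mul, ← Nat.card_eq_fintype_card]
    have : ((Nat.card H : ℂ) * n).re = Nat.card H * n := by
      rw [← Nat.cast_mul, Complex.natCast_re]; push_cast; ring
    rw [this]; ring
  have h2 : ∀ g : H, ‖χ g‖ ≤ n := fun g => by
    have := char_norm_le hχ g
    rwa [hn, Complex.natCast_re] at this
  rw [Finset.sum_eq_zero_iff_of_nonneg (fun g _ => by
    have := (Complex.re_le_norm (χ g)).trans (h2 g)
    linarith)] at h1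
  have h3 := h1 g (Finset.mem_univ g)
  have h4 : (χ g).re = n := by linarith
  rw [hn]
  apply Complex.ext
  · rw [h4, Complex.natCast_re]
  · rw [Complex.natCast_im]
    have h5 := Complex.sq_norm (χ g)
    rw [Complex.normSq_apply, h4] at h5
    have h6 : ‖χ g‖ ^ 2 ≤ (n : ℝ) ^ 2 := pow_le_pow_left₀ (norm_nonneg _) (h2 g) 2
    nlinarith [mul_self_nonneg (χ g).im]

end
end CfsgLib.BR11
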