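import Cfsg.Agent.EqBase
import Mathlib

set_option autoImplicit false
set_option maxHeartbeats 400000

/-! Integer combinatorics for blocks of defect one. -/

namespace CfsgLib.Once19

/-- variation of a nonconstant integer function -/
theorem int_var {I : Type*} (s : Finset I) (f : I → ℤ) (h : ∃ x ∈ s, ∃ y ∈ s, f x ≠ f y) :
    (s.card : ℤ) - 1 ≤ s.card * ∑ x ∈ s, f x ^ 2 - (∑ x ∈ s, f x) ^ 2 := by
  obtain ⟨x0, hx0, y0, hy0, hxy⟩ := h
  have hn : (0 : ℤ) < s.card := by exact_mod_cast Finset.card_pos.2 ⟨x0, hx0⟩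
  set n : ℤ := (s.card : ℤ) with hnd
  set S := ∑ x ∈ s, f x with hS
  set c := S / n with hc
  set r := S % n with hr
  have hSr : S = n * c + r := (Int.mul_ediv_add_emod S n).symm
  have hr0 : 0 ≤ r := Int.emod_nonneg _ hn.ne'
  have hrn : r < n := Int.emod_lt_of_pos _ hn
  have hg1 : ∑ x ∈ s, (f x - c) = r := by
    rw [Finset.sum_sub_distrib, Finset.sum_const, nsmul_eq_mul, ← hS, ← hnd, hSr]; ring
  have hg2 : ∑ x ∈ s, (f x - c) ^ 2 = ∑ x ∈ s, f x ^ 2 - 2 * c * S + n * c ^ 2 := by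
    have h1 : ∀ x ∈ s, (f x - c) ^ 2 = f x ^ 2 - 2 * c * f x + c ^ 2 := fun x _ => by ring
    rw [Finset.sum_congr rfl h1, Finset.sum_add_distrib, Finset.sum_sub_distrib, ← Finset.mul_sum,
      Finset.sum_const, nsmul_eq_mul]
  have hge : r ≤ ∑ x ∈ s, (f x - c) ^ 2 := by
    rw [← hg1]
    refine Finset.sum_le_sum fun x _ => ?_
    nlinarith [Int.le_self_sq (f x - c)]
  have hge1 : 1 ≤ ∑ x ∈ s, (f x - c) ^ 2 := by
    obtain ⟨x, hx, hxc⟩ : ∃ x ∈ s, f x ≠ c := by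
      by_contra hcon
      push Not at hcon
      exact hxy (by rw [hcon x0 hx0, hcon y0 hy0])
    have h2 : (f x - c) ^ 2 ≤ ∑ x ∈ s, (f x - c) ^ 2 :=
      Finset.single_le_sum (f := fun x => (f x - c) ^ 2) (fun y _ => sq_nonneg _) hx
    have h3 : 0 < (f x - c) ^ 2 := by
      have : f x - c ≠ 0 := sub_ne_zero.2 hxc
      positivity
    omega
  have hid : n * ∑ x ∈ s, f x ^ 2 - S ^ 2 = n * ∑ x ∈ s, (f x - c) ^ 2 - r ^ 2 := by
    rw [hg2]
    have : r = S - n * c := by rw [hSr]; ring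
    rw [this]; ring
  rw [hid]
  rcases eq_or_lt_of_le hr0 with h0 | h0
  · rw [← h0]
    nlinarith
  · nlinarith

section Core

variable {U I : Type*} [CommGroup U] [Fintype U] [Fintype I] [DecidableEq I] [MulAction U I]

/-- orbit as a finset -/
def orb (U : Type*) {I : Type*} [CommGroup U] [Fintype U] [DecidableEq I] [MulAction U I] (χ : I) : Finset I :=
  Finset.univ.image (fun u : U => u • χ)

/-- order of the stabiliser -/
def sta (U : Type*) {I : Type*} [CommGroup U] [Fintype U] [DecidableEq I] [MulAction U I] (χ : I) : ℕ :=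
  (Finset.univ.filter (fun u : U => u • χ = χ)).card

theorem mem_orb {χ ψ : I} : ψ ∈ orb U χ ↔ ∃ u : U, u • χ = ψ := by
  simp [orb]

theorem self_mem_orb (χ : I) : χ ∈ orb U χ := mem_orb.2 ⟨1, one_smul _ _⟩

theorem smul_mem_orb {χ ψ : I} (u : U) (h : ψ ∈ orb U χ) : u • ψ ∈ orb U χ := by
  obtain ⟨v, rfl⟩ := mem_orb.1 h
  exact mem_orb.2 ⟨u * v, mul_smul _ _ _⟩

theorem orb_eq {χ ψ : I} (h : ψ ∈ orb U χ) : orb U ψ = orb U χ := by
  obtain ⟨v, rfl⟩ := mem_orb.1 h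
  ext ξ
  rw [mem_orb, mem_orb]
  constructor
  · rintro ⟨u, rfl⟩; exact ⟨u * v, mul_smul _ _ _⟩
  · rintro ⟨u, rfl⟩; exact ⟨u * v⁻¹, by rw [smul_smul]; simp⟩

theorem sum_smul (χ : I) (f : I → ℤ) : ∑ u : U, f (u • χ) = sta U χ * ∑ ξ ∈ orb U χ, f ξ := by
  rw [Finset.sum_comp f (fun u : U => u • χ), Finset.mul_sum]
  refine Finset.sum_congr rfl fun ξ hξ => ?_
  obtain ⟨v, rfl⟩ := mem_orb.1 (show ξ ∈ orb U χ from hξ)
  rw [nsmul_eq_mul]
  congr 2
  refine Finset.card_bij (fun u _ => v⁻¹ * u) ?_ ?_ ?_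
  · intro u hu
    simp only [Finset.mem_filter, Finset.mem_univ, true_and] at hu ⊢
    rw [mul_smul, hu, smul_smul]; simp
  · intro u _ w _ h
    exact mul_left_cancel h
  · intro u hu
    simp only [Finset.mem_filter, Finset.mem_univ, true_and] at hu
    refine ⟨v * u, ?_, by simp⟩
    simp only [Finset.mem_filter, Finset.mem_univ, true_and]
    rw [mul_smul, hu]

theorem sta_mul (χ : I) : sta U χ * (orb U χ).card = Fintype.card U := by
  have h := sum_smul (U := U) χ (fun _ => (1 : ℤ))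
  simp only [Finset.sum_const, nsmul_eq_mul, mul_one, Finset.card_univ] at h
  exact_mod_cast h.symm

theorem sta_smul (χ : I) (v : U) : sta U (v • χ) = sta U χ := by
  have h1 := sta_mul (U := U) χ
  have h2 := sta_mul (U := U) (v • χ)
  rw [orb_eq (smul_mem_orb v (self_mem_orb χ))] at h2
  have h3 : 0 < (orb U χ).card := Finset.card_pos.2 ⟨χ, self_mem_orb χ⟩
  exact Nat.eq_of_mul_eq_mul_right h3 (h2.trans h1.symm)

/-- sums of orbit functions are sums over orbits -/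
theorem dvd_sum_of_orb {B : Finset I} (hB : ∀ (u : U), ∀ χ ∈ B, u • χ ∈ B) {D : ℤ} (F : I → ℤ)
    (hF : ∀ (u : U) χ, F (u • χ) = F χ) (hD : ∀ χ ∈ B, D ∣ (orb U χ).card * F χ) : D ∣ ∑ χ ∈ B, F χ := by
  classical
  rw [← Finset.sum_fiberwise_of_maps_to (g := fun χ => orb U χ) (t := B.image (fun χ => orb U χ))
    (fun χ hχ => Finset.mem_image_of_mem _ hχ)]
  refine Finset.dvd_sum fun O hO => ?_
  obtain ⟨χ, hχ, rfl⟩ := Finset.mem_image.1 hO
  have h1 : B.filter (fun ξ => orb U ξ = orb U χ) = orb U χ := by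
    ext ξ
    rw [Finset.mem_filter]
    constructor
    · rintro ⟨-, h⟩
      rw [← h]; exact self_mem_orb ξ
    · intro h
      refine ⟨?_, orb_eq h⟩
      obtain ⟨u, rfl⟩ := mem_orb.1 h
      exact hB u χ hχ
  rw [h1]
  have h2 : ∑ ξ ∈ orb U χ, F ξ = (orb U χ).card * F χ := by
    rw [← nsmul_eq_mul, ← Finset.sum_const]
    refine Finset.sum_congr rfl fun ξ hξ => ?_
    obtain ⟨u, rfl⟩ := mem_orb.1 hξ
    exact hF u χ
  rw [h2]
  exact hD χ hχ

variable {p e : ℕ} {a : U → I → ℤ} {B : Finset I}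

theorem a_smul (c1 : ∀ j (u : U) χ, a j (u • χ) = a (j * u⁻¹) χ) (j : U) (χ : I) : a 1 (j⁻¹ • χ) = a j χ := by
  rw [c1, inv_inv, one_mul]

theorem sum_orb_j (c1 : ∀ j (u : U) χ, a j (u • χ) = a (j * u⁻¹) χ) (j : U) (χ : I) :
    ∑ ξ ∈ orb U χ, a j ξ = ∑ ξ ∈ orb U χ, a 1 ξ := by
  have h1 : ∀ ξ ∈ orb U χ, a j ξ = a 1 (j⁻¹ • ξ) := fun ξ _ => (a_smul c1 j ξ).symm
  rw [Finset.sum_congr rfl h1]
  refine Finset.sum_nbij' (fun ξ => j⁻¹ • ξ) (fun ξ => j • ξ) ?_ ?_ ?_ ?_ ?_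
  · intro ξ hξ; exact smul_mem_orb _ hξ
  · intro ξ hξ; exact smul_mem_orb _ hξ
  · intro ξ _; simp
  · intro ξ _; simp
  · intro ξ _; rfl

theorem sum_all (c1 : ∀ j (u : U) χ, a j (u • χ) = a (j * u⁻¹) χ) (χ : I) (g : ℤ → ℤ) :
    ∑ k : U, g (a k χ) = sta U χ * ∑ ξ ∈ orb U χ, g (a 1 ξ) := by
  rw [← sum_smul (U := U) χ (fun ξ => g (a 1 ξ)), ← Equiv.sum_comp (Equiv.inv U)]
  refine Finset.sum_congr rfl fun k _ => ?_
  rw [Equiv.inv_apply, ← a_smul c1 k⁻¹ χ, inv_inv]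

set_option maxHeartbeats 4000000 in
theorem core (hp : p.Prime) (hU : Fintype.card U = p - 1) (he : 0 < e)
    (hB : ∀ (u : U), ∀ χ ∈ B, u • χ ∈ B)
    (c1 : ∀ j (u : U) χ, a j (u • χ) = a (j * u⁻¹) χ)
    (c2 : ∀ j χ, χ ∉ B → a j χ = 0)
    (c3 : ∀ j, ∑ χ, a j χ ^ 2 = 1 + e)
    (c4 : ∀ j, ∑ χ, a j χ * ∑ k, a k χ = p * e)
    (H : Finset U) (hH : H.card = e) (c5 : ∀ u : U, (∀ j χ, a j χ = a (j * u) χ) → u ∈ H)
    (c6 : ∀ χ ∈ B, ∀ ψ ∈ B, |∑ ξ ∈ orb U χ, a 1 ξ| = |∑ ξ ∈ orb U ψ, a 1 ξ|) :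
    ∃ χ0 ∈ B, (orb U χ0).card * e = p - 1 ∧ B.card = (orb U χ0).card + e ∧
      (∀ χ ∈ B, χ ∉ orb U χ0 → (∀ u : U, u • χ = χ) ∧ ∃ δ : ℤ, (δ = 1 ∨ δ = -1) ∧ ∀ j, a j χ = δ) ∧
      ∃ ε : ℤ, (ε = 1 ∨ ε = -1) ∧ ∀ j, ∃ ψ ∈ orb U χ0, a j ψ = ε ∧ ∀ ξ ∈ orb U χ0, ξ ≠ ψ → a j ξ = 0 := by
  have hp2 := hp.two_le
  have hP1 : (0 : ℤ) < (Fintype.card U : ℤ) := by rw [hU]; exact_mod_cast (by omega : 0 < p - 1)
  have hpU : (p : ℤ) = Fintype.card U + 1 := by rw [hU]; push_cast [show 1 ≤ p by omega]; ring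
  set P1 : ℤ := (Fintype.card U : ℤ) with hP1d
  -- sums over the group
  set S : I → ℤ := fun χ => ∑ k, a k χ with hS
  have hSD : ∀ χ, S χ = sta U χ * ∑ ξ ∈ orb U χ, a 1 ξ := fun χ => sum_all c1 χ (fun z => z)
  have hsn : ∀ χ : I, (sta U χ : ℤ) * (orb U χ).card = P1 := fun χ => by
    rw [hP1d]; exact_mod_cast sta_mul (U := U) χ
  have hspos : ∀ χ : I, (0 : ℤ) < sta U χ := by
    intro χ
    by_contra hcon
    have : (sta U χ : ℤ) = 0 := by
      have := Int.natCast_nonneg (sta U χ); omega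
    have h2 := hsn χ
    rw [this, zero_mul] at h2
    omega
  have hnpos : ∀ χ : I, (0 : ℤ) < (orb U χ).card := fun χ => by
    exact_mod_cast Finset.card_pos.2 ⟨χ, self_mem_orb χ⟩
  have hSsq : ∑ χ, S χ ^ 2 = P1 * (p * e) := by
    have h1 : ∀ χ, S χ ^ 2 = ∑ j, a j χ * S χ := fun χ => by rw [← Finset.sum_mul, sq]
    simp_rw [h1]
    rw [Finset.sum_comm]
    simp_rw [hS, c4]
    rw [Finset.sum_const, Finset.card_univ, nsmul_eq_mul]
  -- total variation
  set W : I → ℤ := fun χ => P1 * ∑ j, a j χ ^ 2 - S χ ^ 2 with hW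
  have hWsum : ∑ χ, W χ = P1 * (P1 - e) := by
    simp_rw [hW]
    rw [Finset.sum_sub_distrib, hSsq, ← Finset.mul_sum, Finset.sum_comm]
    simp_rw [c3]
    rw [Finset.sum_const, Finset.card_univ, nsmul_eq_mul, hpU]; ring
  have hWnn : ∀ χ, 0 ≤ W χ := by
    intro χ
    have h1 := sq_sum_le_card_mul_sum_sq (s := (Finset.univ : Finset U)) (f := fun j => a j χ)
    rw [Finset.card_univ] at h1
    simp only [hW, hS]
    linarith
  have hWsm : ∀ (u : U) χ, W (u • χ) = W χ := by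
    intro u χ
    have h1 : ∀ g : ℤ → ℤ, ∑ j, g (a j (u • χ)) = ∑ j, g (a j χ) := by
      intro g
      simp_rw [c1]
      exact Equiv.sum_comp (Equiv.mulRight u⁻¹) (fun j => g (a j χ))
    simp only [hW, hS]
    rw [h1 (fun z => z ^ 2), h1 (fun z => z)]
  -- nonconstant characters
  let NC : I → Prop := fun χ => ∃ j k : U, a j χ ≠ a k χ
  have hNCW : ∀ χ, NC χ → (sta U χ : ℤ) ^ 2 * ((orb U χ).card - 1) ≤ W χ ∧ 2 ≤ (orb U χ).card := by
    rintro χ ⟨j, k, hjk⟩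
    have hj : a 1 (j⁻¹ • χ) ≠ a 1 (k⁻¹ • χ) := by rwa [a_smul c1, a_smul c1]
    have h1 := int_var (orb U χ) (fun ξ => a 1 ξ) ⟨_, smul_mem_orb j⁻¹ (self_mem_orb χ), _,
      smul_mem_orb k⁻¹ (self_mem_orb χ), hj⟩
    constructor
    · have h2 := sum_all c1 χ (fun z => z ^ 2)
      simp only [hW]
      rw [h2, hSD, ← hsn χ]
      have h3 := hspos χ
      nlinarith [mul_le_mul_of_nonneg_left h1 (sq_nonneg (sta U χ : ℤ))]
    · by_contra hcon
      have h3 : (orb U χ).card ≤ 1 := by omega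
      exact hj (congrArg (a 1) (Finset.card_le_one.1 h3 _ (smul_mem_orb j⁻¹ (self_mem_orb χ)) _
        (smul_mem_orb k⁻¹ (self_mem_orb χ))))
  have hNCorb : ∀ χ, NC χ → P1 * (P1 - sta U χ) ≤ ∑ ξ ∈ orb U χ, W ξ := by
    intro χ hχ
    have h1 : ∑ ξ ∈ orb U χ, W ξ = (orb U χ).card * W χ := by
      rw [← nsmul_eq_mul, ← Finset.sum_const]
      refine Finset.sum_congr rfl fun ξ hξ => ?_
      obtain ⟨u, rfl⟩ := mem_orb.1 hξ
      exact hWsm u χ
    rw [h1]
    have h2 := (hNCW χ hχ).1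
    have h3 := hsn χ
    have h4 := mul_le_mul_of_nonneg_left h2 (hnpos χ).le
    calc P1 * (P1 - sta U χ) = (orb U χ).card * ((sta U χ : ℤ) ^ 2 * ((orb U χ).card - 1)) := by
          rw [← h3]; ring
      _ ≤ _ := h4
  have huniq : ∀ χ ψ, NC χ → NC ψ → ψ ∈ orb U χ := by
    intro χ ψ hχ hψ
    by_contra hne
    have hdis : Disjoint (orb U χ) (orb U ψ) := by
      rw [Finset.disjoint_left]
      intro ξ h1 h2
      apply hne
      rw [← orb_eq h1, orb_eq h2]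
      exact self_mem_orb ψ
    have h1 : ∑ ξ ∈ orb U χ ∪ orb U ψ, W ξ ≤ ∑ ξ, W ξ :=
      Finset.sum_le_sum_of_subset_of_nonneg (Finset.subset_univ _) (fun ξ _ _ => hWnn ξ)
    rw [Finset.sum_union hdis, hWsum] at h1
    have h2 := hNCorb χ hχ
    have h3 := hNCorb ψ hψ
    have h4 : 2 * (sta U χ : ℤ) ≤ P1 := by
      rw [← hsn χ]
      have : (2 : ℤ) ≤ (orb U χ).card := by exact_mod_cast (hNCW χ hχ).2
      nlinarith [hspos χ]
    have h5 : 2 * (sta U ψ : ℤ) ≤ P1 := by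
      rw [← hsn ψ]
      have : (2 : ℤ) ≤ (orb U ψ).card := by exact_mod_cast (hNCW ψ hψ).2
      nlinarith [hspos ψ]
    have he' : (0 : ℤ) < e := by exact_mod_cast he
    nlinarith
  -- constant characters
  have hconst : ∀ χ, ¬ NC χ → ∀ j, a j χ = a 1 χ := by
    intro χ hχ j
    by_contra hne
    exact hχ ⟨j, 1, hne⟩
  have hNCsm : ∀ (u : U) χ, NC χ → NC (u • χ) := by
    rintro u χ ⟨j, k, hjk⟩
    refine ⟨j * u, k * u, ?_⟩
    rw [c1, c1]; simpa using hjk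
  have hCsm : ∀ (u : U) χ, ¬ NC χ → a 1 (u • χ) = a 1 χ := by
    intro u χ hχ
    rw [c1]; exact hconst χ hχ _
  have hCD : ∀ χ, ¬ NC χ → ∑ ξ ∈ orb U χ, a 1 ξ = (orb U χ).card * a 1 χ := by
    intro χ hχ
    rw [← nsmul_eq_mul, ← Finset.sum_const]
    refine Finset.sum_congr rfl fun ξ hξ => ?_
    obtain ⟨u, rfl⟩ := mem_orb.1 hξ
    exact hCsm u χ hχ
  have hCS : ∀ χ, ¬ NC χ → S χ = P1 * a 1 χ := by
    intro χ hχ
    rw [hSD, hCD χ hχ, ← hsn χ]; ring
  have hne : B.Nonempty := by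
    by_contra hcon
    rw [Finset.not_nonempty_iff_eq_empty] at hcon
    have h1 := c3 1
    rw [Finset.sum_eq_zero (fun χ _ => by rw [c2 1 χ (by rw [hcon]; simp)]; ring)] at h1
    have : (0 : ℤ) < e := by exact_mod_cast he
    omega
  obtain ⟨χb, hχb⟩ := hne
  set D : ℤ := |∑ ξ ∈ orb U χb, a 1 ξ| with hDdef
  have hD : ∀ χ ∈ B, |∑ ξ ∈ orb U χ, a 1 ξ| = D := fun χ hχ => c6 χ hχ χb hχb
  have hD0 : 0 ≤ D := abs_nonneg _
  -- final step for constant characters once `D = 1`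
  have hfin : D = 1 → ∀ χ ∈ B, ¬ NC χ → (orb U χ).card = 1 ∧ (a 1 χ = 1 ∨ a 1 χ = -1) := by
    intro h1 χ hχ hc
    have h2 := hD χ hχ
    rw [hCD χ hc, h1, abs_mul, Nat.abs_cast] at h2
    have h3 : (orb U χ).card = 1 ∧ |a 1 χ| = 1 := by
      have h4 := Int.eq_one_or_neg_one_of_mul_eq_one h2
      rcases h4 with h4 | h4
      · rw [h4, one_mul] at h2
        exact ⟨by exact_mod_cast h4, h2⟩
      · have := hnpos χ; omega
    refine ⟨h3.1, ?_⟩
    rcases abs_eq (by norm_num : (0 : ℤ) ≤ 1) |>.1 h3.2 with h4 | h4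
    · exact Or.inl h4
    · exact Or.inr h4
  have hfix : ∀ χ : I, (orb U χ).card = 1 → ∀ u : U, u • χ = χ := by
    intro χ h1 u
    exact Finset.card_le_one.1 h1.le _ (smul_mem_orb u (self_mem_orb χ)) _ (self_mem_orb χ)
  by_cases hcase : ∃ χ1, NC χ1
  · obtain ⟨χ1, hχ1⟩ := hcase
    have hχ1B : χ1 ∈ B := by
      by_contra hcon
      obtain ⟨j, k, hjk⟩ := hχ1
      exact hjk (by rw [c2 j χ1 hcon, c2 k χ1 hcon])
    have hYB : orb U χ1 ⊆ B := by
      intro ξ hξ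
      obtain ⟨u, rfl⟩ := mem_orb.1 hξ
      exact hB u χ1 hχ1B
    have hYiff : ∀ ξ, ξ ∈ orb U χ1 ↔ NC ξ := by
      intro ξ
      constructor
      · intro hξ
        obtain ⟨u, rfl⟩ := mem_orb.1 hξ
        exact hNCsm u χ1 hχ1
      · intro hξ; exact huniq χ1 ξ hχ1 hξ
    -- stabiliser order
    have hs1 : (e : ℤ) ≤ sta U χ1 := by
      have h1 : ∑ ξ ∈ orb U χ1, W ξ ≤ ∑ ξ, W ξ :=
        Finset.sum_le_sum_of_subset_of_nonneg (Finset.subset_univ _) (fun ξ _ _ => hWnn ξ)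
      rw [hWsum] at h1
      have h2 := (hNCorb χ1 hχ1).trans h1
      have h3 := le_of_mul_le_mul_left h2 hP1
      omega
    have hs2 : sta U χ1 ≤ e := by
      rw [← hH]
      refine Finset.card_le_card fun u hu => ?_
      rw [Finset.mem_filter] at hu
      apply c5
      intro j χ
      by_cases hχ : χ ∈ orb U χ1
      · obtain ⟨v, rfl⟩ := mem_orb.1 hχ
        have h1 : u⁻¹ • (v • χ1) = v • χ1 := by
          rw [smul_smul, mul_comm, mul_smul]
          congr 1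
          rw [inv_smul_eq_iff]; exact hu.2.symm
        conv_lhs => rw [← h1]
        rw [c1 j u⁻¹, inv_inv]
      · rw [hYiff] at hχ
        rw [hconst χ hχ, hconst χ hχ (j * u)]
    have hs : (sta U χ1 : ℤ) = e := le_antisymm (by exact_mod_cast hs2) hs1
    set n1 : ℤ := ((orb U χ1).card : ℤ) with hn1
    have hn1e : n1 * e = P1 := by rw [← hsn χ1, hs, mul_comm]
    set D1 : ℤ := ∑ ξ ∈ orb U χ1, a 1 ξ with hD1
    have hD1D : |D1| = D := hD χ1 hχ1B
    -- main numerical identity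
    have hmain : D1 ^ 2 + n1 * ∑ χ ∈ B \ orb U χ1, a 1 χ ^ 2 = p := by
      have h1 : ∑ χ, S χ ^ 2 = ∑ χ ∈ orb U χ1, S χ ^ 2 + ∑ χ ∈ B \ orb U χ1, S χ ^ 2 := by
        rw [← Finset.sum_sdiff (Finset.subset_univ B)]
        have h2 : ∑ χ ∈ Finset.univ \ B, S χ ^ 2 = 0 := by
          refine Finset.sum_eq_zero fun χ hχ => ?_
          rw [Finset.mem_sdiff] at hχ
          have : S χ = 0 := Finset.sum_eq_zero fun j _ => c2 j χ hχ.2
          rw [this]; ring
        rw [h2, zero_add, ← Finset.sum_sdiff hYB, add_comm]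
      have h2 : ∑ χ ∈ orb U χ1, S χ ^ 2 = n1 * (e * D1) ^ 2 := by
        rw [hn1, ← nsmul_eq_mul, ← Finset.sum_const]
        refine Finset.sum_congr rfl fun ξ hξ => ?_
        rw [hSD, orb_eq hξ]
        obtain ⟨u, rfl⟩ := mem_orb.1 hξ
        rw [sta_smul, hs]
      have h3 : ∑ χ ∈ B \ orb U χ1, S χ ^ 2 = P1 ^ 2 * ∑ χ ∈ B \ orb U χ1, a 1 χ ^ 2 := by
        rw [Finset.mul_sum]
        refine Finset.sum_congr rfl fun ξ hξ => ?_
        rw [Finset.mem_sdiff, hYiff] at hξ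
        rw [hCS ξ hξ.2]; ring
      rw [hSsq, h2, h3] at h1
      have he' : (0 : ℤ) < e := by exact_mod_cast he
      have hn1' : (0 : ℤ) < n1 := hnpos χ1
      have h4 : (n1 * e ^ 2) * (D1 ^ 2 + n1 * ∑ χ ∈ B \ orb U χ1, a 1 χ ^ 2) = (n1 * e ^ 2) * p := by
        rw [← hn1e] at h1
        linear_combination -h1
      exact mul_left_cancel₀ (by positivity) h4
    have hdvd : D ∣ ∑ χ ∈ B \ orb U χ1, a 1 χ ^ 2 := by
      classical
      have h1 : ∑ χ ∈ B \ orb U χ1, a 1 χ ^ 2 = ∑ χ ∈ B \ orb U χ1, (if χ ∈ orb U χ1 then 0 else a 1 χ ^ 2) := by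
        refine Finset.sum_congr rfl fun χ hχ => ?_
        rw [Finset.mem_sdiff] at hχ
        rw [if_neg hχ.2]
      rw [h1]
      refine dvd_sum_of_orb (U := U) ?_ _ ?_ ?_
      · intro u χ hχ
        rw [Finset.mem_sdiff] at hχ ⊢
        refine ⟨hB u χ hχ.1, fun h => hχ.2 ?_⟩
        have := smul_mem_orb u⁻¹ h
        simpa using this
      · intro u χ
        by_cases h : χ ∈ orb U χ1
        · rw [if_pos h, if_pos (smul_mem_orb u h)]
        · have h2 : u • χ ∉ orb U χ1 := fun h2 => h (by simpa using smul_mem_orb u⁻¹ h2)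
          rw [if_neg h, if_neg h2, hCsm u χ (by rwa [← hYiff])]
      · intro χ hχ
        rw [Finset.mem_sdiff] at hχ
        rw [if_neg hχ.2]
        have h3 : ¬ NC χ := by rw [← hYiff]; exact hχ.2
        have h4 := hD χ hχ.1
        rw [hCD χ h3] at h4
        have h5 : ((orb U χ).card : ℤ) * a 1 χ ^ 2 = ((orb U χ).card * a 1 χ) * a 1 χ := by ring
        rw [h5, ← h4, abs_dvd]
        exact Dvd.intro _ rfl
    have hDp : D ∣ p := by
      rw [← hmain]
      refine dvd_add ?_ (dvd_mul_of_dvd_right hdvd _)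
      rw [← sq_abs, hD1D]
      exact dvd_pow_self _ two_ne_zero
    have hD1' : D = 1 := by
      obtain ⟨d, hd⟩ := Int.eq_ofNat_of_zero_le hD0
      rw [hd] at hDp
      have h1 : d ∣ p := by exact_mod_cast hDp
      rcases (Nat.dvd_prime hp).1 h1 with h2 | h2
      · rw [hd, h2]; rfl
      · exfalso
        have h3 : D1 ^ 2 ≤ p := by
          rw [← hmain]
          have : 0 ≤ n1 * ∑ χ ∈ B \ orb U χ1, a 1 χ ^ 2 :=
            mul_nonneg (hnpos χ1).le (Finset.sum_nonneg fun _ _ => sq_nonneg _)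
          linarith
        rw [← sq_abs, hD1D, hd, h2] at h3
        have h4 : (2 : ℤ) ≤ p := by exact_mod_cast hp2
        nlinarith
    have hcnt : n1 * ((B \ orb U χ1).card : ℤ) = P1 := by
      have h1 : ∑ χ ∈ B \ orb U χ1, a 1 χ ^ 2 = (B \ orb U χ1).card := by
        rw [Finset.card_eq_sum_ones, Nat.cast_sum]
        refine Finset.sum_congr rfl fun χ hχ => ?_
        rw [Finset.mem_sdiff, hYiff] at hχ
        rcases (hfin hD1' χ hχ.1 hχ.2).2 with h2 | h2 <;> rw [h2] <;> norm_num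
      rw [h1, ← sq_abs, hD1D, hD1'] at hmain
      linarith
    have hcnt' : ((B \ orb U χ1).card : ℤ) = e := by
      rw [← hn1e] at hcnt
      exact mul_left_cancel₀ (hnpos χ1).ne' hcnt
    refine ⟨χ1, hχ1B, ?_, ?_, ?_, D1, ?_, ?_⟩
    · have : (((orb U χ1).card * e : ℕ) : ℤ) = ((p - 1 : ℕ) : ℤ) := by
        push_cast
        rw [← hn1, hn1e, hP1d, hU]
      exact_mod_cast this
    · have h1 := Finset.card_sdiff_add_card_eq_card hYB
      have h2 : (B \ orb U χ1).card = e := by exact_mod_cast hcnt'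
      omega
    · intro χ hχ hχY
      rw [hYiff] at hχY
      obtain ⟨h1, h2⟩ := hfin hD1' χ hχ hχY
      exact ⟨hfix χ h1, a 1 χ, h2, hconst χ hχY⟩
    · rw [hD1'] at hD1D
      exact (abs_eq (by norm_num)).1 hD1D
    · intro j
      have h1 : ∑ ξ ∈ orb U χ1, a j ξ ^ 2 = 1 := by
        have h2 := c3 j
        have h3 : ∑ χ, a j χ ^ 2 = ∑ χ ∈ orb U χ1, a j χ ^ 2 + ∑ χ ∈ B \ orb U χ1, a j χ ^ 2 := by
          rw [← Finset.sum_sdiff (Finset.subset_univ B)]
          have h2 : ∑ χ ∈ Finset.univ \ B, a j χ ^ 2 = 0 := by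
            refine Finset.sum_eq_zero fun χ hχ => ?_
            rw [Finset.mem_sdiff] at hχ
            rw [c2 j χ hχ.2]; ring
          rw [h2, zero_add, ← Finset.sum_sdiff hYB, add_comm]
        have h4 : ∑ χ ∈ B \ orb U χ1, a j χ ^ 2 = e := by
          rw [← hcnt', Finset.card_eq_sum_ones, Nat.cast_sum]
          refine Finset.sum_congr rfl fun χ hχ => ?_
          rw [Finset.mem_sdiff, hYiff] at hχ
          rw [hconst χ hχ.2 j]
          rcases (hfin hD1' χ hχ.1 hχ.2).2 with h2 | h2 <;> rw [h2] <;> norm_num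
        rw [h3, h4] at h2
        linarith
      obtain ⟨ψ, hψ, hψ0⟩ : ∃ ψ ∈ orb U χ1, a j ψ ≠ 0 := by
        by_contra hcon
        push Not at hcon
        rw [Finset.sum_eq_zero (fun ξ hξ => by rw [hcon ξ hξ]; ring)] at h1
        exact zero_ne_one h1
      have h2 : ∀ ξ ∈ orb U χ1, ξ ≠ ψ → a j ξ = 0 := by
        intro ξ hξ hne
        by_contra h0
        have h3 : ∑ ζ ∈ ({ψ, ξ} : Finset I), a j ζ ^ 2 ≤ ∑ ζ ∈ orb U χ1, a j ζ ^ 2 := by
          refine Finset.sum_le_sum_of_subset_of_nonneg ?_ (fun _ _ _ => sq_nonneg _)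
          intro ζ hζ
          rcases Finset.mem_insert.1 hζ with h | h
          · rw [h]; exact hψ
          · rw [Finset.mem_singleton.1 h]; exact hξ
        rw [Finset.sum_pair hne.symm, h1] at h3
        have h4 : 0 < a j ψ ^ 2 := by positivity
        have h5 : 0 < a j ξ ^ 2 := by positivity
        omega
      refine ⟨ψ, hψ, ?_, h2⟩
      rw [hD1, ← sum_orb_j c1 j χ1, Finset.sum_eq_single_of_mem ψ hψ (fun ξ hξ hne => h2 ξ hξ hne)]
  · push Not at hcase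
    have hcase' : ∀ χ, ¬ NC χ := by
      rintro χ ⟨j, k, hjk⟩
      exact hcase χ ⟨j, k, hjk⟩
    have hW0 : ∀ χ, W χ = 0 := by
      intro χ
      simp only [hW]
      rw [hCS χ (hcase' χ), Finset.sum_congr rfl (fun j _ => by rw [hconst χ (hcase' χ) j]), Finset.sum_const,
        Finset.card_univ, nsmul_eq_mul, ← hP1d]
      ring
    have heP : (e : ℤ) = P1 := by
      simp_rw [hW0] at hWsum
      rw [Finset.sum_const_zero] at hWsum
      rcases mul_eq_zero.1 hWsum.symm with h | h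
      · omega
      · omega
    have hsum : ∑ χ ∈ B, a 1 χ ^ 2 = p := by
      have h1 : ∑ χ, S χ ^ 2 = P1 ^ 2 * ∑ χ ∈ B, a 1 χ ^ 2 := by
        rw [← Finset.sum_sdiff (Finset.subset_univ B)]
        have h2 : ∑ χ ∈ Finset.univ \ B, S χ ^ 2 = 0 := by
          refine Finset.sum_eq_zero fun χ hχ => ?_
          rw [Finset.mem_sdiff] at hχ
          have : S χ = 0 := Finset.sum_eq_zero fun j _ => c2 j χ hχ.2
          rw [this]; ring
        rw [h2, zero_add, Finset.mul_sum]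
        refine Finset.sum_congr rfl fun ξ _ => ?_
        rw [hCS ξ (hcase' ξ)]; ring
      rw [hSsq, heP] at h1
      have h2 : P1 ^ 2 * ∑ χ ∈ B, a 1 χ ^ 2 = P1 ^ 2 * p := by rw [← h1]; ring
      exact mul_left_cancel₀ (by positivity) h2
    have hdvd : D ∣ p := by
      rw [← hsum]
      refine dvd_sum_of_orb (U := U) hB _ (fun u χ => by rw [hCsm u χ (hcase' χ)]) ?_
      intro χ hχ
      have h4 := hD χ hχ
      rw [hCD χ (hcase' χ)] at h4
      have h5 : ((orb U χ).card : ℤ) * a 1 χ ^ 2 = ((orb U χ).card * a 1 χ) * a 1 χ := by ring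
      rw [h5, ← h4, abs_dvd]
      exact Dvd.intro _ rfl
    have hD1' : D = 1 := by
      obtain ⟨d, hd⟩ := Int.eq_ofNat_of_zero_le hD0
      rw [hd] at hdvd
      have h1 : d ∣ p := by exact_mod_cast hdvd
      rcases (Nat.dvd_prime hp).1 h1 with h2 | h2
      · rw [hd, h2]; rfl
      · exfalso
        have h3 := hD χb hχb
        rw [hCD χb (hcase' χb), abs_mul, Nat.abs_cast, hd, h2] at h3
        have h4 : (orb U χb).card ∣ p := by
          have : ((orb U χb).card : ℤ) ∣ (p : ℤ) := Dvd.intro _ h3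
          exact_mod_cast this
        have h5 : (orb U χb).card ≤ p - 1 := by
          rw [← hU, ← sta_mul (U := U) χb]
          have : 0 < sta U χb := by exact_mod_cast hspos χb
          exact Nat.le_mul_of_pos_left _ this
        have h6 : (orb U χb).card = 1 := by
          rcases (Nat.dvd_prime hp).1 h4 with h | h
          · exact h
          · omega
        rw [h6, Nat.cast_one, one_mul] at h3
        have h7 : a 1 χb ^ 2 ≤ ∑ χ ∈ B, a 1 χ ^ 2 :=
          Finset.single_le_sum (f := fun χ => a 1 χ ^ 2) (fun _ _ => sq_nonneg _) hχb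
        rw [hsum, ← sq_abs, h3] at h7
        have h8 : (2 : ℤ) ≤ p := by exact_mod_cast hp2
        nlinarith
    have hall := fun χ hχ => hfin hD1' χ hχ (hcase' χ)
    have hcard : (B.card : ℤ) = p := by
      rw [← hsum, Finset.card_eq_sum_ones, Nat.cast_sum]
      refine Finset.sum_congr rfl fun χ hχ => ?_
      rcases (hall χ hχ).2 with h2 | h2 <;> rw [h2] <;> norm_num
    have heP' : e = p - 1 := by
      have : (e : ℤ) = ((p - 1 : ℕ) : ℤ) := by rw [heP, hP1d, hU]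
      exact_mod_cast this
    have hcard' : B.card = p := by exact_mod_cast hcard
    refine ⟨χb, hχb, ?_, ?_, ?_, a 1 χb, (hall χb hχb).2, ?_⟩
    · rw [(hall χb hχb).1, one_mul, heP']
    · rw [(hall χb hχb).1, hcard', heP']; omega
    · intro χ hχ _
      exact ⟨hfix χ (hall χ hχ).1, a 1 χ, (hall χ hχ).2, hconst χ (hcase' χ)⟩
    · intro j
      refine ⟨χb, self_mem_orb χb, hconst χb (hcase' χb) j, fun ξ hξ hne => ?_⟩
      exact absurd (Finset.card_le_one.1 (hall χb hχb).1.le _ hξ _ (self_mem_orb χb)) hne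

end Core

end CfsgLib.Once19
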