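import Mathlib
import Cfsg.Prelude.Def_Blocks

/-!
# Roots of unity modulo a maximal ideal of the algebraic integers (S0901) (helper17)
-/

set_option autoImplicit false
set_option linter.style.haveILetI false

namespace CfsgLib.ModRoots

open Cfsg Polynomial

variable {p : ℕ} {M : Ideal AlgInt}

theorem natCast_not_mem (hM : IsPModular p M) {m : ℕ} (hm : ¬ p ∣ m) : (m : AlgInt) ∉ M := by
  intro h
  have hcop : IsCoprime (p : ℤ) (m : ℤ) :=
    Nat.isCoprime_iff_coprime.mpr ((Nat.Prime.coprime_iff_not_dvd hM.1).mpr hm)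
  obtain ⟨a, b, hab⟩ := hcop
  apply hM.2.1.ne_top
  rw [Ideal.eq_top_iff_one]
  have h1 : (1 : AlgInt) = (a : AlgInt) * (p : AlgInt) + (b : AlgInt) * (m : AlgInt) := by
    exact_mod_cast congrArg (fun z : ℤ => (z : AlgInt)) hab.symm
  rw [h1]
  exact M.add_mem (M.mul_mem_left _ hM.2.2) (M.mul_mem_left _ h)

theorem inj (hM : IsPModular p M) (ε₁ ε₂ : AlgInt)
    (h1 : ∃ m : ℕ, ¬ p ∣ m ∧ (ε₁ : ℂ) ^ m = 1) (h2 : ∃ m : ℕ, ¬ p ∣ m ∧ (ε₂ : ℂ) ^ m = 1)
    (h : ε₁ - ε₂ ∈ M) : ε₁ = ε₂ := by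
  obtain ⟨m, hm, hm1⟩ := h1
  obtain ⟨n, hn, hn1⟩ := h2
  have hm0 : m ≠ 0 := by rintro rfl; exact hm (dvd_zero p)
  have hn0 : n ≠ 0 := by rintro rfl; exact hn (dvd_zero p)
  set N := m * n with hN
  have hNp : ¬ p ∣ N := by
    intro h'
    rcases hM.1.dvd_mul.mp h' with h' | h'
    · exact hm h'
    · exact hn h'
  have e1 : ε₁ ^ N = 1 := by
    apply Subtype.ext
    push_cast
    rw [hN, pow_mul, hm1, one_pow]
  have e2 : ε₂ ^ N = 1 := by
    apply Subtype.ext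
    push_cast
    rw [hN, mul_comm, pow_mul, hn1, one_pow]
  by_contra hne
  have hN0 : 0 < N := Nat.pos_of_ne_zero (mul_ne_zero hm0 hn0)
  set ε := ε₂ * ε₁ ^ (N - 1) with hε
  have e3 : ε * ε₁ = ε₂ := by
    rw [hε, mul_assoc, ← pow_succ, Nat.sub_add_cancel hN0, e1, mul_one]
  have e4 : ε ≠ 1 := by
    intro h'
    rw [h', one_mul] at e3
    exact hne e3
  have e5 : ε ^ N = 1 := by
    rw [hε, mul_pow, e2, ← pow_mul, mul_comm (N - 1), pow_mul, e1, one_pow, one_mul]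
  have e6 : (∑ i ∈ Finset.range N, ε ^ i) = 0 := by
    have := geom_sum_mul ε N
    rw [e5, sub_self] at this
    exact (mul_eq_zero.mp this).resolve_right (sub_ne_zero.mpr e4)
  have e7 : Ideal.Quotient.mk M ε = 1 := by
    have h3 : Ideal.Quotient.mk M ε₁ = Ideal.Quotient.mk M ε₂ := Ideal.Quotient.eq.mpr h
    rw [hε, map_mul, ← h3, ← map_mul, ← pow_succ', Nat.sub_add_cancel hN0, e1, map_one]
  have e8 : Ideal.Quotient.mk M (N : AlgInt) = 0 := by
    have := congrArg (Ideal.Quotient.mk M) e6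
    rw [map_sum] at this
    simp only [map_pow, e7, one_pow, Finset.sum_const, Finset.card_range, map_zero] at this
    rw [← this]
    simp
  exact natCast_not_mem hM hNp (Ideal.Quotient.eq_zero_iff_mem.mp e8)

theorem exists_pow (hM : IsPModular p M) (a : AlgInt) (ha : a ∉ M) :
    ∃ m : ℕ, ¬ p ∣ m ∧ a ^ m - 1 ∈ M := by
  haveI := hM.2.1
  haveI : Fact p.Prime := ⟨hM.1⟩
  letI : Field (AlgInt ⧸ M) := Ideal.Quotient.field M
  have hp0 : (p : AlgInt ⧸ M) = 0 := by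
    have := Ideal.Quotient.eq_zero_iff_mem.mpr hM.2.2
    rwa [map_natCast] at this
  haveI : CharP (AlgInt ⧸ M) p := by
    apply (CharP.charP_iff_prime_eq_zero hM.1).mpr hp0
  letI : Algebra (ZMod p) (AlgInt ⧸ M) := ZMod.algebra _ p
  set x := Ideal.Quotient.mk M a with hx
  have hx0 : x ≠ 0 := fun h => ha (Ideal.Quotient.eq_zero_iff_mem.mp h)
  have hint : IsIntegral ℤ x := by
    have h1 : IsIntegral ℤ a := by
      have := a.2
      exact (isIntegral_algebraMap_iff (B := ℂ) (R := ℤ) (A := AlgInt) Subtype.val_injective).mp this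
    exact h1.map (Ideal.Quotient.mkₐ ℤ M)
  have hint2 : IsIntegral (ZMod p) x := by
    obtain ⟨f, hf, hfx⟩ := hint
    refine ⟨f.map (Int.castRingHom (ZMod p)), hf.map _, ?_⟩
    rw [eval₂_map]
    have : (algebraMap (ZMod p) (AlgInt ⧸ M)).comp (Int.castRingHom (ZMod p)) =
      algebraMap ℤ (AlgInt ⧸ M) := RingHom.ext_int _ _
    rw [this]
    exact hfx
  haveI hfin : Module.Finite (ZMod p) (Algebra.adjoin (ZMod p) {x}) :=
    Module.Finite.iff_fg.mpr hint2.fg_adjoin_singleton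
  haveI : Finite (Algebra.adjoin (ZMod p) {x}) := Module.finite_of_finite (ZMod p)
  obtain ⟨i, j, hij, hne⟩ := Function.not_injective_iff.mp
    (not_injective_infinite_finite
      (fun n : ℕ => (⟨x, Algebra.self_mem_adjoin_singleton (ZMod p) x⟩ :
        Algebra.adjoin (ZMod p) {x}) ^ n))
  have hij' : x ^ i = x ^ j := by
    have := congrArg Subtype.val hij
    simpa using this
  have hex : ∃ n : ℕ, 0 < n ∧ x ^ n = 1 := by
    rcases lt_or_gt_of_ne hne with h | h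
    · refine ⟨j - i, Nat.sub_pos_of_lt h, ?_⟩
      have h1 : x ^ i * x ^ (j - i) = x ^ i * 1 := by
        rw [← pow_add, Nat.add_sub_cancel' h.le, mul_one, hij']
      exact mul_left_cancel₀ (pow_ne_zero _ hx0) h1
    · refine ⟨i - j, Nat.sub_pos_of_lt h, ?_⟩
      have h1 : x ^ j * x ^ (i - j) = x ^ j * 1 := by
        rw [← pow_add, Nat.add_sub_cancel' h.le, mul_one, hij']
      exact mul_left_cancel₀ (pow_ne_zero _ hx0) h1
  obtain ⟨n, hn, hxn⟩ := hex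
  obtain ⟨k, m, hm, hnm⟩ := Nat.exists_eq_pow_mul_and_not_dvd hn.ne' p hM.1.ne_one
  refine ⟨m, hm, ?_⟩
  apply Ideal.Quotient.eq_zero_iff_mem.mp
  rw [map_sub, map_pow, map_one, ← hx]
  haveI : ExpChar (AlgInt ⧸ M) p := ExpChar.prime hM.1
  have h1 : (x ^ m - 1) ^ p ^ k = 0 := by
    rw [sub_pow_expChar_pow, one_pow, ← pow_mul, mul_comm, ← hnm, hxn, sub_self]
  exact pow_eq_zero_iff (pow_ne_zero _ hM.1.ne_zero) |>.mp h1

theorem surj (hM : IsPModular p M) (a : AlgInt) (ha : a ∉ M) :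
    ∃ ε : AlgInt, (∃ m : ℕ, ¬ p ∣ m ∧ (ε : ℂ) ^ m = 1) ∧ a - ε ∈ M := by
  obtain ⟨m, hm, ham⟩ := exists_pow hM a ha
  have hm0 : m ≠ 0 := by rintro rfl; exact hm (dvd_zero p)
  have hprim := Complex.isPrimitiveRoot_exp m hm0
  set ζ := Complex.exp (2 * Real.pi * Complex.I / m) with hζ
  have hint : IsIntegral ℤ ζ := hprim.isIntegral (Nat.pos_of_ne_zero hm0)
  set z : AlgInt := ⟨ζ, hint⟩ with hz
  have hprod : (a : ℂ) ^ m - 1 = ∏ μ ∈ nthRootsFinset m (1 : ℂ), ((a : ℂ) - μ) := by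
    have := congrArg (Polynomial.eval (a : ℂ)) (X_pow_sub_one_eq_prod (Nat.pos_of_ne_zero hm0) hprim)
    simpa [eval_prod] using this
  have hprod2 : a ^ m - 1 = ∏ μ ∈ (nthRootsFinset m (1 : ℂ)).attach,
      (a - ⟨(μ : ℂ), IsIntegral.of_pow (Nat.pos_of_ne_zero hm0)
        (by rw [(mem_nthRootsFinset (Nat.pos_of_ne_zero hm0) (1:ℂ)).mp μ.2]; exact isIntegral_one)⟩) := by
    apply Subtype.ext
    push_cast
    rw [hprod, ← Finset.prod_attach]
  rw [hprod2] at ham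
  haveI := hM.2.1.isPrime
  obtain ⟨μ, _, hμ⟩ := (Ideal.IsPrime.prod_mem_iff).mp ham
  refine ⟨_, ⟨m, hm, ?_⟩, hμ⟩
  exact (mem_nthRootsFinset (Nat.pos_of_ne_zero hm0) (1:ℂ)).mp μ.2

end CfsgLib.ModRoots
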