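import Mathlib
import Cfsg.Agent.EqBase
import Cfsg.Agent.LibLocR
import Cfsg.Agent.LibModRoots

/-!
# The maximal unramified subfield of `ℂ` at a maximal ideal of the algebraic integers, I
(helper17)
-/

set_option autoImplicit false
set_option linter.unusedSectionVars false
set_option linter.style.haveILetI false
set_option linter.unusedSimpArgs false

namespace CfsgLib.Ur

open Cfsg CfsgLib.LocR

variable {M : Ideal AlgInt} {p : ℕ}

/-- unramified subfields: algebraic, with uniformizer `p` -/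
structure IsUr (M : Ideal AlgInt) (p : ℕ) (K : Subfield ℂ) : Prop where
  alg : ∀ z ∈ K, IsAlgebraic ℚ z
  div : ∀ z ∈ K, MemLocalIdeal M z → MemLocalRing M (z / p)

theorem memR_alg {z : ℂ} (h : MemLocalRing M z) : IsAlgebraic ℚ z := by
  obtain ⟨a, b, hb, rfl⟩ := h
  have h1 : ∀ a : AlgInt, IsAlgebraic ℚ (a : ℂ) := fun a =>
    (a.2.tower_top (A := ℚ)).isAlgebraic
  rw [div_eq_mul_inv]
  exact (h1 a).mul (h1 b).inv

theorem isUr_bot (hM : IsPModular p M) : IsUr M p (⊥ : Subfield ℂ) := by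
  haveI := LocR.isPrime hM
  have hrat : ∀ z ∈ (⊥ : Subfield ℂ), ∃ q : ℚ, z = (q : ℂ) := by
    intro z hz
    have h1 : (⊥ : Subfield ℂ) ≤ (algebraMap ℚ ℂ).fieldRange := bot_le
    obtain ⟨q, hq⟩ := h1 hz
    exact ⟨q, by rw [← hq]; rfl⟩
  refine ⟨?_, ?_⟩
  · intro z hz
    obtain ⟨q, rfl⟩ := hrat z hz
    exact isAlgebraic_algebraMap q
  · intro z hz h
    obtain ⟨q, rfl⟩ := hrat z hz
    have hq : (q : ℂ) = (q.num : ℂ) / (q.den : ℂ) := by
      exact_mod_cast (Rat.num_div_den q).symm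
    have hd0 : (q.den : ℂ) ≠ 0 := by exact_mod_cast q.den_nz
    have h1 : MemLocalIdeal M ((q.num : ℤ) : ℂ) := by
      have h2 := memI_mul_right h (memR_natCast (M := M) q.den)
      rw [hq, div_mul_cancel₀ _ hd0] at h2
      exact h2
    have h2 : (p : ℤ) ∣ q.num := (memI_intCast_iff hM _).mp h1
    have h3 : ¬ p ∣ q.den := by
      intro h4
      have h5 : p ∣ q.num.natAbs := Int.natCast_dvd.mp h2
      have h6 := Nat.dvd_gcd h5 h4
      rw [q.reduced.gcd_eq_one] at h6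
      exact hM.1.one_lt.ne' (Nat.dvd_one.mp h6)
    obtain ⟨c, hc⟩ := h2
    have hp0 : (p : ℂ) ≠ 0 := by exact_mod_cast hM.1.ne_zero
    have h4 : (q : ℂ) / p = (c : ℂ) * ((q.den : ℂ))⁻¹ := by
      rw [hq, hc]; push_cast; field_simp
    rw [h4]
    exact memR_mul (memR_intCast c) (memR_natCast_inv hM h3)

theorem exists_max (hM : IsPModular p M) : ∃ L : Subfield ℂ, Maximal (IsUr M p) L := by
  obtain ⟨L, _, hL⟩ := zorn_le_nonempty₀ {K : Subfield ℂ | IsUr M p K} (by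
    intro c hc hch y hy
    haveI : Nonempty c := ⟨⟨y, hy⟩⟩
    have hdir : DirectedOn (· ≤ ·) c := hch.directedOn
    refine ⟨sSup c, ⟨?_, ?_⟩, fun z hz => le_sSup hz⟩
    · intro z hz
      obtain ⟨K, hK, hzK⟩ := (Subfield.mem_sSup_of_directedOn ⟨y, hy⟩ hdir).mp hz
      exact (hc hK).alg z hzK
    · intro z hz h
      obtain ⟨K, hK, hzK⟩ := (Subfield.mem_sSup_of_directedOn ⟨y, hy⟩ hdir).mp hz
      exact (hc hK).div z hzK h) ⊥ (isUr_bot hM)
  exact ⟨L, hL⟩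

section Val
variable {K : Subfield ℂ}

theorem IsUr.mem_p (hK : IsUr M p K) : (p : ℂ) ∈ K := natCast_mem K p

theorem IsUr.val_int (hM : IsPModular p M) (hK : IsUr M p K) {z : ℂ} (hz : z ∈ K)
    (hR : MemLocalRing M z) (h0 : z ≠ 0) :
    ∃ (k : ℕ) (u : ℂ), u ∈ K ∧ z = (p : ℂ) ^ k * u ∧ MemLocalRing M u ∧ ¬ MemLocalIdeal M u := by
  classical
  haveI := LocR.isPrime hM
  have hp0 : (p : ℂ) ≠ 0 := by exact_mod_cast hM.1.ne_zero
  have hex : ∃ k : ℕ, ¬ MemLocalRing M (z / (p : ℂ) ^ k) := by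
    by_contra hcon
    push Not at hcon
    exact h0 (eq_zero_of_forall_memR_div hM hcon)
  have hk := Nat.find_spec hex
  have hmin := fun j => Nat.find_min (H := hex) (m := j)
  set k := Nat.find hex with hkdef
  have hk0 : k ≠ 0 := by
    intro h
    rw [h, pow_zero, div_one] at hk
    exact hk hR
  obtain ⟨j, hj⟩ := Nat.exists_eq_succ_of_ne_zero hk0
  have h1 : MemLocalRing M (z / (p : ℂ) ^ j) := by
    by_contra h2
    exact hmin j (by omega) h2
  have huK : z / (p : ℂ) ^ j ∈ K := K.div_mem hz (K.pow_mem hK.mem_p j)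
  refine ⟨j, z / (p : ℂ) ^ j, huK, by field_simp, h1, ?_⟩
  intro h2
  apply hk
  have h3 := hK.div _ huK h2
  rw [hj, pow_succ, ← div_div]
  exact h3

theorem IsUr.val (hM : IsPModular p M) (hK : IsUr M p K) {z : ℂ} (hz : z ∈ K) (h0 : z ≠ 0) :
    ∃ (k : ℤ) (u : ℂ), u ∈ K ∧ z = (p : ℂ) ^ k * u ∧ MemLocalRing M u ∧ ¬ MemLocalIdeal M u := by
  haveI := LocR.isPrime hM
  have hp0 : (p : ℂ) ≠ 0 := by exact_mod_cast hM.1.ne_zero
  have halg := hK.alg z hz
  have halg2 : IsAlgebraic ℤ z := (IsFractionRing.isAlgebraic_iff ℤ ℚ ℂ).mpr halg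
  obtain ⟨y, n, hn0, hy⟩ : ∃ (y : ℂ) (n : ℤ), n ≠ 0 ∧ IsIntegral ℤ y ∧ (n : ℂ) * z = y := by
    obtain ⟨n, hn0, hn⟩ := halg2.exists_integral_multiple
    exact ⟨n • z, n, hn0, hn, by simp⟩
  obtain ⟨hy1, hy2⟩ := hy
  have hnC : (n : ℂ) ≠ 0 := by exact_mod_cast hn0
  have hyK : y ∈ K := by rw [← hy2]; exact K.mul_mem (intCast_mem K n) hz
  have hy0 : y ≠ 0 := by rw [← hy2]; exact mul_ne_zero hnC h0
  obtain ⟨k, u, hu, h1, h2, h3⟩ := hK.val_int hM hyK (memR_of_isIntegral hy1) hy0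
  obtain ⟨l, v, hv, h4, h5, h6⟩ := hK.val_int hM (intCast_mem K n) (memR_intCast n) hnC
  have hv0 := ne_zero_of_not_memI h6
  refine ⟨(k : ℤ) - l, u / v, K.div_mem hu hv, ?_, ?_, ?_⟩
  · have h7 : z = y / n := by rw [← hy2]; field_simp
    rw [h7, h1, h4, zpow_sub₀ hp0, zpow_natCast, zpow_natCast]
    field_simp
  · rw [div_eq_mul_inv]; exact memR_mul h2 (memR_inv h5 h6)
  · intro h8
    apply h3
    have h9 := memI_mul_right h8 h5
    rwa [div_mul_cancel₀ _ hv0] at h9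

/-- the valuation ring -/
def RL (M : Ideal AlgInt) [M.IsPrime] (K : Subfield ℂ) : Subring ℂ := K.toSubring ⊓ LocR.subring M

theorem mem_RL [M.IsPrime] {z : ℂ} : z ∈ RL M K ↔ z ∈ K ∧ MemLocalRing M z := Iff.rfl

theorem IsUr.isDVR (hM : IsPModular p M) [M.IsPrime] (hK : IsUr M p K) :
    IsDiscreteValuationRing (RL M K) := by
  have hp0 : (p : ℂ) ≠ 0 := by exact_mod_cast hM.1.ne_zero
  have hunit : ∀ u : RL M K, ¬ MemLocalIdeal M (u : ℂ) → IsUnit u := by
    intro u hu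
    have hu0 := ne_zero_of_not_memI hu
    refine IsUnit.of_mul_eq_one ⟨(u : ℂ)⁻¹, K.inv_mem u.2.1, memR_inv u.2.2 hu⟩ ?_
    apply Subtype.ext
    change (u : ℂ) * (u : ℂ)⁻¹ = 1
    exact mul_inv_cancel₀ hu0
  apply IsDiscreteValuationRing.ofHasUnitMulPowIrreducibleFactorization
  refine ⟨⟨(p : ℂ), hK.mem_p, memR_natCast p⟩, ?_, ?_⟩
  · refine ⟨?_, ?_⟩
    · intro h
      obtain ⟨v, hv⟩ := h.exists_right_inv
      have h1 := congrArg Subtype.val hv
      change (p : ℂ) * (v : ℂ) = 1 at h1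
      apply not_memI_one (M := M)
      rw [← h1]
      exact memI_mul_right (memI_p hM) v.2.2
    · intro a b hab
      by_contra hcon
      push Not at hcon
      obtain ⟨ha, hb⟩ := hcon
      have ha' : MemLocalIdeal M (a : ℂ) := by by_contra h; exact ha (hunit a h)
      have hb' : MemLocalIdeal M (b : ℂ) := by by_contra h; exact hb (hunit b h)
      have h1 := hK.div _ a.2.1 ha'
      have h2 := congrArg Subtype.val hab
      change (p : ℂ) = (a : ℂ) * (b : ℂ) at h2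
      apply not_memI_one (M := M)
      have h3 := memI_mul_left h1 hb'
      have h4 : (a : ℂ) / p * b = 1 := by
        rw [div_mul_eq_mul_div, ← h2, div_self hp0]
      rwa [h4] at h3
  · intro x hx
    have hx0 : (x : ℂ) ≠ 0 := fun h => hx (Subtype.ext h)
    obtain ⟨k, u, hu, h1, h2, h3⟩ := hK.val_int hM x.2.1 x.2.2 hx0
    refine ⟨k, ?_⟩
    obtain ⟨w, hw⟩ := hunit ⟨u, hu, h2⟩ h3
    refine ⟨w, ?_⟩
    apply Subtype.ext
    rw [hw]
    change (p : ℂ) ^ k * u = x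
    rw [h1]

end Val

end CfsgLib.Ur
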