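import Mathlib
import Cfsg.Agent.EqBase
import Cfsg.Agent.LibUr1

/-!
# The maximal unramified subfield of `ℂ`, II: the unramified criterion (helper17)
-/

set_option autoImplicit false
set_option linter.unusedSectionVars false
set_option linter.style.haveILetI false
set_option linter.unusedSimpArgs false

namespace CfsgLib.Ur

open Cfsg CfsgLib.LocR

variable {M : Ideal AlgInt} {p : ℕ}

/-- the prime of a subring below `M` -/
def nn (M : Ideal AlgInt) [M.IsPrime] (A : Subring ℂ) (hAR : ∀ z ∈ A, MemLocalRing M z) : Ideal A where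
  carrier := {y | MemLocalIdeal M (y : ℂ)}
  add_mem' := fun ha hb => memI_add ha hb
  zero_mem' := memI_zero
  smul_mem' := fun c x hx => memI_mul_left (hAR c c.2) hx

theorem mem_nn [M.IsPrime] {A : Subring ℂ} {hAR : ∀ z ∈ A, MemLocalRing M z} {y : A} :
    y ∈ nn M A hAR ↔ MemLocalIdeal M (y : ℂ) := Iff.rfl

theorem KL (hM : IsPModular p M) [M.IsPrime] {L : Subfield ℂ} (hL : Maximal (IsUr M p) L)
    (A : Subring ℂ) [IsNoetherianRing A] (hLA : RL M L ≤ A) (hAR : ∀ z ∈ A, MemLocalRing M z)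
    (h : nn M A hAR ≤ Ideal.span {(p : A)} ⊔ nn M A hAR * nn M A hAR) :
    ∀ z ∈ A, z ∈ L := by
  classical
  have hp0 : (p : ℂ) ≠ 0 := by exact_mod_cast hM.1.ne_zero
  have hLU := hL.prop
  obtain ⟨s, hs1, hs2⟩ := Submodule.exists_sub_one_mem_and_smul_le_of_fg_of_le_sup
    (I := nn M A hAR) (N := Ideal.span {(p : A)}) (N' := nn M A hAR) (P := nn M A hAR)
    (IsNoetherian.noetherian _) le_rfl h
  have hs : ¬ MemLocalIdeal M (s : ℂ) := by
    intro h1
    apply not_memI_one (M := M)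
    have h2 := memI_sub h1 hs1
    push_cast at h2
    rwa [sub_sub_cancel] at h2
  have hdiv : ∀ u : A, MemLocalIdeal M (u : ℂ) → ∃ a : A, (s : ℂ) * u = p * a := by
    intro u hu
    have h1 : s • u ∈ Ideal.span {(p : A)} := hs2 (Submodule.smul_mem_pointwise_smul _ _ _ hu)
    obtain ⟨a, ha⟩ := Ideal.mem_span_singleton'.mp h1
    refine ⟨a, ?_⟩
    have h2 := congrArg Subtype.val ha
    change (a : ℂ) * (p : ℂ) = (s : ℂ) * u at h2
    rw [← h2, mul_comm]
  have key : ∀ z ∈ A, z ≠ 0 → ∃ (k : ℕ) (t u : ℂ), t ∈ A ∧ u ∈ A ∧ ¬ MemLocalIdeal M t ∧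
      ¬ MemLocalIdeal M u ∧ t * z = (p : ℂ) ^ k * u := by
    intro z hz hz0
    by_contra hcon
    push Not at hcon
    apply hz0
    apply eq_zero_of_forall_memR_div hM
    have hk : ∀ k : ℕ, ∃ t u : ℂ, t ∈ A ∧ u ∈ A ∧ ¬ MemLocalIdeal M t ∧ t * z = (p : ℂ) ^ k * u := by
      intro k
      induction k with
      | zero =>
        exact ⟨1, z, A.one_mem, hz, not_memI_one, by rw [pow_zero]⟩
      | succ k ih =>
        obtain ⟨t, u, ht, hu, htn, htz⟩ := ih
        have hun : MemLocalIdeal M u := by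
          by_contra h1
          exact hcon k t u ht hu htn h1 htz
        obtain ⟨a, ha⟩ := hdiv ⟨u, hu⟩ hun
        refine ⟨s * t, a, A.mul_mem s.2 ht, a.2, ?_, ?_⟩
        · exact not_memI_mul (hAR _ s.2) (hAR _ ht) hs htn
        · rw [mul_assoc, htz, ← mul_assoc, mul_comm (s : ℂ), mul_assoc]
          rw [show (s : ℂ) * u = p * a from ha, pow_succ, mul_assoc]
    intro k
    obtain ⟨t, u, ht, hu, htn, htz⟩ := hk k
    have ht0 := ne_zero_of_not_memI htn
    have h1 : z / (p : ℂ) ^ k = u * t⁻¹ := by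
      field_simp
      rw [mul_comm z t, htz, mul_comm]
    rw [h1]
    exact memR_mul (hAR _ hu) (memR_inv (hAR _ ht) htn)
  have hK : IsUr M p (Subfield.closure (A : Set ℂ)) := by
    have hmem : ∀ z ∈ Subfield.closure (A : Set ℂ), ∃ a ∈ A, ∃ b ∈ A, a / b = z := by
      intro z hz
      obtain ⟨a, ha, b, hb, hab⟩ := Subfield.mem_closure_iff.mp hz
      rw [Subring.closure_eq] at ha hb
      exact ⟨a, ha, b, hb, hab⟩
    refine ⟨?_, ?_⟩
    · intro z hz
      obtain ⟨a, ha, b, hb, rfl⟩ := hmem z hz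
      rw [div_eq_mul_inv]
      exact (memR_alg (hAR a ha)).mul (memR_alg (hAR b hb)).inv
    · intro z hz hzI
      obtain ⟨a, ha, b, hb, rfl⟩ := hmem z hz
      rcases eq_or_ne a 0 with h0 | ha0
      · rw [h0, zero_div, zero_div]; exact memR_zero
      rcases eq_or_ne b 0 with h0 | hb0
      · rw [h0, div_zero, zero_div]; exact memR_zero
      obtain ⟨k, t, u, ht, hu, htn, hun, h1⟩ := key a ha ha0
      obtain ⟨l, t', u', ht', hu', htn', hun', h1'⟩ := key b hb hb0
      have ht0 := ne_zero_of_not_memI htn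
      have ht0' := ne_zero_of_not_memI htn'
      have hu0 := ne_zero_of_not_memI hun
      have hu0' := ne_zero_of_not_memI hun'
      have ha' : a = (p : ℂ) ^ k * u / t := by rw [← h1]; field_simp
      have hb' : b = (p : ℂ) ^ l * u' / t' := by rw [← h1']; field_simp
      have hw : MemLocalRing M (u * t' * (t⁻¹ * u'⁻¹)) :=
        memR_mul (memR_mul (hAR _ hu) (hAR _ ht')) (memR_mul (memR_inv (hAR _ ht) htn)
          (memR_inv (hAR _ hu') hun'))
      have hw' : MemLocalRing M (t * u' * (u⁻¹ * t'⁻¹)) :=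
        memR_mul (memR_mul (hAR _ ht) (hAR _ hu')) (memR_mul (memR_inv (hAR _ hu) hun)
          (memR_inv (hAR _ ht') htn'))
      have hkl : l + 1 ≤ k := by
        by_contra hlt
        have hle : k ≤ l := by omega
        obtain ⟨d, rfl⟩ := Nat.exists_eq_add_of_le hle
        apply not_memI_one (M := M)
        have h2 := memI_mul_right (memI_mul_right hzI (memR_pow (memR_natCast p) d)) hw'
        have h3 : a / b * (p : ℂ) ^ d * (t * u' * (u⁻¹ * t'⁻¹)) = 1 := by
          rw [ha', hb', pow_add]; field_simp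
        rwa [h3] at h2
      obtain ⟨d, rfl⟩ := Nat.exists_eq_add_of_le hkl
      have h4 : a / b / p = (p : ℂ) ^ d * (u * t' * (t⁻¹ * u'⁻¹)) := by
        rw [ha', hb', pow_add, pow_succ]; field_simp
      rw [h4]
      exact memR_mul (memR_pow (memR_natCast p) d) hw
  have hLK : L ≤ Subfield.closure (A : Set ℂ) := by
    intro z hz
    rcases eq_or_ne z 0 with h0 | h0
    · rw [h0]; exact zero_mem _
    obtain ⟨k, u, hu, h1, h2, h3⟩ := hLU.val hM hz h0
    rw [h1]
    apply mul_mem (zpow_mem (natCast_mem _ p) k)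
    exact Subfield.subset_closure (hLA ⟨hu, h2⟩)
  have hKL := hL.le_of_ge hK hLK
  intro z hz
  exact hKL (Subfield.subset_closure hz)

end CfsgLib.Ur
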