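import Mathlib
import Cfsg.Agent.EqBase
import Cfsg.Agent.LibUr2

/-!
# The maximal unramified subfield of `ℂ`, III: roots of unity, residues, étale families (helper17)
-/

set_option autoImplicit false
set_option linter.unusedSectionVars false
set_option linter.style.haveILetI false
set_option linter.unusedSimpArgs false

namespace CfsgLib.Ur

open Cfsg CfsgLib.LocR

variable {M : Ideal AlgInt} {p : ℕ}

theorem exists_dvd (hp : p.Prime) {n : ℕ} (hn : ¬ p ∣ n) : ∃ k : ℕ, 0 < k ∧ n ∣ p ^ k - 1 := by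
  have hn0 : 0 < n := Nat.pos_of_ne_zero (by rintro rfl; exact hn (dvd_zero _))
  refine ⟨n.totient, Nat.totient_pos.mpr hn0, ?_⟩
  have h1 := Nat.ModEq.pow_totient ((Nat.Prime.coprime_iff_not_dvd hp).mpr hn)
  exact (Nat.modEq_iff_dvd' (Nat.one_le_pow _ _ hp.pos)).mp h1.symm

theorem frob_eq_of_pow {z : ℂ} {n k : ℕ} (hp : p.Prime) (hz : z ^ n = 1) (hk : n ∣ p ^ k - 1) :
    z ^ p ^ k = z := by
  obtain ⟨c, hc⟩ := hk
  have h1 : p ^ k = n * c + 1 := by
    have := Nat.one_le_pow k p hp.pos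
    omega
  rw [h1, pow_succ, pow_mul, hz, one_pow, one_mul]

/-- the residue field is algebraic over the prime field -/
theorem exists_frob (hM : IsPModular p M) [M.IsPrime] {z : ℂ} (hz : MemLocalRing M z) :
    ∃ k : ℕ, 0 < k ∧ MemLocalIdeal M (z ^ p ^ k - z) := by
  by_cases h0 : MemLocalIdeal M z
  · refine ⟨1, one_pos, memI_sub (memI_pow h0 (pow_ne_zero _ hM.1.ne_zero)) h0⟩
  obtain ⟨a, b, hb, rfl⟩ := hz
  have hb0 := ne_zero_of_not_mem hb
  have ha : a ∉ M := by
    intro h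
    exact h0 ⟨a, b, h, hb, rfl⟩
  obtain ⟨m, hm, ham⟩ := ModRoots.exists_pow hM a ha
  obtain ⟨n, hn, hbn⟩ := ModRoots.exists_pow hM b hb
  have hmn : ¬ p ∣ m * n := by
    intro h
    rcases hM.1.dvd_mul.mp h with h | h
    · exact hm h
    · exact hn h
  obtain ⟨k, hk, hkd⟩ := exists_dvd hM.1 hmn
  refine ⟨k, hk, ?_⟩
  -- z ^ (mn) ≡ 1
  have h1 : MemLocalIdeal M ((a : ℂ) ^ m - 1) := by
    have := memI_of_mem ham; push_cast at this; exact this
  have h2 : MemLocalIdeal M ((b : ℂ) ^ n - 1) := by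
    have := memI_of_mem hbn; push_cast at this; exact this
  have h3 : MemLocalIdeal M ((a : ℂ) ^ (m * n) - 1) := by
    have := pow_sub_pow_memI hM (memR_pow (memR_algInt a) m) memR_one h1 n
    rwa [one_pow, ← pow_mul] at this
  have h4 : MemLocalIdeal M ((b : ℂ) ^ (m * n) - 1) := by
    have := pow_sub_pow_memI hM (memR_pow (memR_algInt b) n) memR_one h2 m
    rwa [one_pow, ← pow_mul, mul_comm n m] at this
  have hbR := memR_inv (memR_algInt b) (fun h => hb ((memI_algInt_iff b).mp h))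
  have h5 : MemLocalIdeal M (((a : ℂ) / b) ^ (m * n) - 1) := by
    have h6 : ((a : ℂ) / b) ^ (m * n) - 1 = ((a : ℂ) ^ (m * n) - 1 - ((b : ℂ) ^ (m * n) - 1)) * ((b : ℂ)⁻¹) ^ (m * n) := by
      rw [div_pow, inv_pow]; field_simp; ring
    rw [h6]
    exact memI_mul_right (memI_sub h3 h4) (memR_pow hbR _)
  obtain ⟨c, hc⟩ := hkd
  have hzR : MemLocalRing M ((a : ℂ) / b) := ⟨a, b, hb, rfl⟩
  have h6 : MemLocalIdeal M (((a : ℂ) / b) ^ (m * n * c) - 1) := by
    have := pow_sub_pow_memI hM (memR_pow hzR (m * n)) memR_one h5 c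
    rwa [one_pow, ← pow_mul] at this
  have h7 : p ^ k = m * n * c + 1 := by
    have := Nat.one_le_pow k p hM.1.pos
    omega
  have h8 : ((a : ℂ) / b) ^ p ^ k - (a : ℂ) / b = (((a : ℂ) / b) ^ (m * n * c) - 1) * ((a : ℂ) / b) := by
    rw [h7, pow_succ]; ring
  rw [h8]
  exact memI_mul_right h6 hzR

theorem frob_iter {A : Type*} [CommRing A] (hp : p.Prime) (h0 : (p : A) = 0) {x : A} {k : ℕ} (hx : x ^ p ^ k = x)
    (l : ℕ) : x ^ p ^ (k * l) = x := by
  induction l with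
  | zero => rw [mul_zero, pow_zero, pow_one]
  | succ l ih => rw [mul_add, mul_one, pow_add, pow_mul, ih, hx]

/-- fixed points of powers of Frobenius -/
def frobSub (A : Type*) [CommRing A] (p : ℕ) (hp : p.Prime) (h0 : (p : A) = 0) : Subring A where
  carrier := {x | ∃ k : ℕ, 0 < k ∧ x ^ p ^ k = x}
  mul_mem' := by
    rintro a b ⟨k, hk, hak⟩ ⟨l, hl, hbl⟩
    refine ⟨k * l, Nat.mul_pos hk hl, ?_⟩
    rw [mul_pow, frob_iter hp h0 hak l, mul_comm k l, frob_iter hp h0 hbl k]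
  one_mem' := ⟨1, one_pos, one_pow _⟩
  add_mem' := by
    rintro a b ⟨k, hk, hak⟩ ⟨l, hl, hbl⟩
    refine ⟨k * l, Nat.mul_pos hk hl, ?_⟩
    haveI : Fact p.Prime := ⟨hp⟩
    rcases subsingleton_or_nontrivial A with hs | hs
    · exact Subsingleton.elim _ _
    haveI : CharP A p := (CharP.charP_iff_prime_eq_zero hp).mpr h0
    rw [add_pow_char_pow, frob_iter hp h0 hak l, mul_comm k l, frob_iter hp h0 hbl k]
  zero_mem' := ⟨1, one_pos, by rw [zero_pow (pow_ne_zero _ hp.ne_zero)]⟩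
  neg_mem' := by
    rintro a ⟨k, hk, hak⟩
    refine ⟨k, hk, ?_⟩
    haveI : Fact p.Prime := ⟨hp⟩
    rcases subsingleton_or_nontrivial A with hs | hs
    · exact Subsingleton.elim _ _
    haveI : CharP A p := (CharP.charP_iff_prime_eq_zero hp).mpr h0
    have h1 := sub_pow_char_pow (x := (0 : A)) (y := a) (n := k) (p := p)
    rw [zero_sub, zero_pow (pow_ne_zero _ hp.ne_zero), zero_sub, hak] at h1
    exact h1

theorem root_mem (hM : IsPModular p M) [M.IsPrime] {L : Subfield ℂ} (hL : Maximal (IsUr M p) L)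
    {ζ : ℂ} {n : ℕ} (hn : ¬ p ∣ n) (hζ : ζ ^ n = 1) : ζ ∈ L := by
  have hn0 : 0 < n := Nat.pos_of_ne_zero (by rintro rfl; exact hn (dvd_zero _))
  have hLU := hL.prop
  have hζR : MemLocalRing M ζ := memR_of_pow_eq_one hn0 hζ
  haveI := hLU.isDVR hM
  set A : Subalgebra (RL M L) ℂ := Algebra.adjoin (RL M L) {ζ} with hA
  haveI hNoeth : IsNoetherianRing A := isNoetherianRing_of_fg (Subalgebra.fg_def.2 ⟨{ζ}, Set.finite_singleton _, rfl⟩)
  have hAR : ∀ z ∈ A, MemLocalRing M z := by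
    intro z hz
    induction hz using Algebra.adjoin_induction with
    | mem x hx => rw [Set.mem_singleton_iff.mp hx]; exact hζR
    | algebraMap r => exact r.2.2
    | add x y _ _ hx hy => exact memR_add hx hy
    | mul x y _ _ hx hy => exact memR_mul hx hy
  have hζA : ζ ∈ A := Algebra.subset_adjoin (Set.mem_singleton _)
  refine KL hM hL A.toSubring (fun z hz => A.algebraMap_mem ⟨z, hz⟩) (fun z hz => hAR z hz) ?_ ζ hζA
  intro y hy
  -- Frobenius on A / pA
  set I : Ideal A.toSubring := Ideal.span {(p : A.toSubring)} with hI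
  have h0 : ((p : ℕ) : A.toSubring ⧸ I) = 0 := by
    have : (Ideal.Quotient.mk I) (p : A.toSubring) = 0 :=
      Ideal.Quotient.eq_zero_iff_mem.mpr (Ideal.mem_span_singleton_self _)
    rwa [map_natCast] at this
  have hfrob : ∀ z (hz : z ∈ A), Ideal.Quotient.mk I (⟨z, hz⟩ : A.toSubring) ∈
      frobSub (A.toSubring ⧸ I) p hM.1 h0 := by
    intro z hz
    induction hz using Algebra.adjoin_induction with
    | mem x hx =>
      obtain ⟨k, hk, hkd⟩ := exists_dvd hM.1 hn
      refine ⟨k, hk, ?_⟩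
      rw [← map_pow]
      congr 1
      apply Subtype.ext
      change x ^ p ^ k = x
      rw [Set.mem_singleton_iff.mp hx]
      exact frob_eq_of_pow hM.1 hζ hkd
    | algebraMap r =>
      obtain ⟨k, hk, hkI⟩ := exists_frob hM r.2.2
      refine ⟨k, hk, ?_⟩
      have h1 : (r : ℂ) ^ p ^ k - r ∈ L := L.sub_mem (L.pow_mem r.2.1 _) r.2.1
      have h2 := hLU.div _ h1 hkI
      have hp0 : (p : ℂ) ≠ 0 := by exact_mod_cast hM.1.ne_zero
      have h3 : ((r : ℂ) ^ p ^ k - r) / p ∈ A.toSubring :=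
        A.algebraMap_mem ⟨_, L.div_mem h1 hLU.mem_p, h2⟩
      rw [← map_pow]
      apply Ideal.Quotient.eq.mpr
      rw [hI, Ideal.mem_span_singleton']
      refine ⟨⟨_, h3⟩, ?_⟩
      apply Subtype.ext
      change ((r : ℂ) ^ p ^ k - r) / p * p = (r : ℂ) ^ p ^ k - r
      field_simp
    | add x y hx hy hx' hy' =>
      have := (frobSub (A.toSubring ⧸ I) p hM.1 h0).add_mem hx' hy'
      rw [← map_add] at this
      exact this
    | mul x y hx hy hx' hy' =>
      have := (frobSub (A.toSubring ⧸ I) p hM.1 h0).mul_mem hx' hy'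
      rw [← map_mul] at this
      exact this
  obtain ⟨k, hk, hyk⟩ := hfrob y y.2
  have h1 : (y : A.toSubring) - y ^ p ^ k ∈ I := by
    apply Ideal.Quotient.eq.mp
    rw [map_pow]
    exact hyk.symm
  have h2 : y ^ p ^ k ∈ nn M A.toSubring (fun z hz => hAR z hz) * nn M A.toSubring (fun z hz => hAR z hz) := by
    have h3 : 2 ≤ p ^ k := by
      calc 2 ≤ p := hM.1.two_le
        _ = p ^ 1 := (pow_one p).symm
        _ ≤ p ^ k := Nat.pow_le_pow_right hM.1.pos hk
    obtain ⟨d, hd⟩ := Nat.exists_eq_add_of_le h3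
    rw [hd, pow_add, pow_two]
    exact Ideal.mul_mem_right _ _ (Ideal.mul_mem_mul hy hy)
  have h3 : y = (y - y ^ p ^ k) + y ^ p ^ k := by ring
  rw [h3]
  exact Submodule.add_mem_sup h1 h2

/-- residues are represented in `L` -/
theorem exists_res (hM : IsPModular p M) [M.IsPrime] {L : Subfield ℂ} (hL : Maximal (IsUr M p) L)
    {z : ℂ} (hz : MemLocalRing M z) : ∃ r ∈ RL M L, MemLocalIdeal M (z - r) := by
  by_cases h0 : MemLocalIdeal M z
  · exact ⟨0, zero_mem _, by rwa [sub_zero]⟩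
  obtain ⟨a, b, hb, rfl⟩ := hz
  have hb0 := ne_zero_of_not_mem hb
  have ha : a ∉ M := by
    intro h
    exact h0 ⟨a, b, h, hb, rfl⟩
  obtain ⟨α, ⟨m, hm, hα⟩, ha'⟩ := ModRoots.surj hM a ha
  obtain ⟨β, ⟨n, hn, hβ⟩, hb'⟩ := ModRoots.surj hM b hb
  have hn0 : 0 < n := Nat.pos_of_ne_zero (by rintro rfl; exact hn (dvd_zero _))
  have hm0 : 0 < m := Nat.pos_of_ne_zero (by rintro rfl; exact hm (dvd_zero _))
  have hβn : ¬ MemLocalIdeal M (β : ℂ) := by
    intro h
    have h1 := memI_pow h hn0.ne'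
    rw [hβ] at h1
    exact not_memI_one h1
  have hβ0 := ne_zero_of_not_memI hβn
  have hβR := memR_inv (memR_algInt β) hβn
  have hbR := memR_inv (memR_algInt b) (fun h => hb ((memI_algInt_iff b).mp h))
  refine ⟨(α : ℂ) / β, ⟨L.div_mem (root_mem hM hL hm hα) (root_mem hM hL hn hβ), ?_⟩, ?_⟩
  · rw [div_eq_mul_inv]; exact memR_mul (memR_algInt α) hβR
  · have h1 : MemLocalIdeal M ((a : ℂ) - α) := by
      have := memI_of_mem ha'; push_cast at this; exact this
    have h2 : MemLocalIdeal M ((b : ℂ) - β) := by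
      have := memI_of_mem hb'; push_cast at this; exact this
    have h3 : (a : ℂ) / b - α / β = (((a : ℂ) - α) * β - α * ((b : ℂ) - β)) * ((b : ℂ)⁻¹ * (β : ℂ)⁻¹) := by
      field_simp; ring
    rw [h3]
    exact memI_mul_right (memI_sub (memI_mul_right h1 (memR_algInt β))
      (memI_mul_left (memR_algInt α) h2)) (memR_mul hbR hβR)

/-- étale families are contained in `L` -/
theorem KL2 (hM : IsPModular p M) [M.IsPrime] {L : Subfield ℂ} (hL : Maximal (IsUr M p) L)
    {ι : Type*} [Finite ι] (δ : ι → ℂ) (hδ : ∀ i, MemLocalIdeal M (δ i))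
    (hAR : ∀ z ∈ (Algebra.adjoin (RL M L) (Set.range δ)).toSubring, MemLocalRing M z)
    (h : ∀ i (hi : δ i ∈ (Algebra.adjoin (RL M L) (Set.range δ)).toSubring),
      (⟨δ i, hi⟩ : (Algebra.adjoin (RL M L) (Set.range δ)).toSubring) ∈
        Ideal.span {(p : (Algebra.adjoin (RL M L) (Set.range δ)).toSubring)} ⊔
          nn M (Algebra.adjoin (RL M L) (Set.range δ)).toSubring hAR *
          nn M (Algebra.adjoin (RL M L) (Set.range δ)).toSubring hAR) : ∀ i, δ i ∈ L := by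
  have hLU := hL.prop
  haveI := hLU.isDVR hM
  have hp0 : (p : ℂ) ≠ 0 := by exact_mod_cast hM.1.ne_zero
  set A : Subalgebra (RL M L) ℂ := Algebra.adjoin (RL M L) (Set.range δ) with hA
  haveI hNoeth : IsNoetherianRing A :=
    isNoetherianRing_of_fg (Subalgebra.fg_def.2 ⟨Set.range δ, Set.finite_range _, rfl⟩)
  have hmem : ∀ i, δ i ∈ A := fun i => Algebra.subset_adjoin ⟨i, rfl⟩
  intro i
  refine KL hM hL A.toSubring (fun z hz => A.algebraMap_mem ⟨z, hz⟩) hAR ?_ (δ i) (hmem i)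
  set I : Ideal A.toSubring := Ideal.span (Set.range fun i => (⟨δ i, hmem i⟩ : A.toSubring)) with hI
  have hstr : ∀ z (hz : z ∈ A), ∃ r : RL M L, (⟨z, hz⟩ : A.toSubring) - ⟨(r : ℂ), A.algebraMap_mem r⟩ ∈ I := by
    intro z hz
    induction hz using Algebra.adjoin_induction with
    | mem x hx =>
      obtain ⟨j, rfl⟩ := hx
      refine ⟨0, ?_⟩
      have : (⟨δ j, hmem j⟩ : A.toSubring) - ⟨((0 : RL M L) : ℂ), A.algebraMap_mem 0⟩ = ⟨δ j, hmem j⟩ := by
        apply Subtype.ext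
        change δ j - 0 = δ j
        rw [sub_zero]
      rw [this]
      exact Ideal.subset_span ⟨j, rfl⟩
    | algebraMap r =>
      refine ⟨r, ?_⟩
      rw [show (⟨(algebraMap (RL M L) ℂ) r, A.algebraMap_mem r⟩ : A.toSubring) - ⟨(r : ℂ), A.algebraMap_mem r⟩ = 0 from sub_self _]
      exact I.zero_mem
    | add x y hx hy hx' hy' =>
      obtain ⟨r, hr⟩ := hx'
      obtain ⟨s, hs⟩ := hy'
      refine ⟨r + s, ?_⟩
      have := I.add_mem hr hs
      convert this using 1
      apply Subtype.ext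
      change x + y - ((r : ℂ) + s) = (x - r) + (y - s)
      ring
    | mul x y hx hy hx' hy' =>
      obtain ⟨r, hr⟩ := hx'
      obtain ⟨s, hs⟩ := hy'
      refine ⟨r * s, ?_⟩
      have := I.add_mem (I.mul_mem_right (⟨y, hy⟩ : A.toSubring) hr)
        (I.mul_mem_left (⟨(r : ℂ), A.algebraMap_mem r⟩ : A.toSubring) hs)
      convert this using 1
      apply Subtype.ext
      change x * y - ((r : ℂ) * s) = (x - r) * y + r * (y - s)
      ring
  have hIle : I ≤ Ideal.span {(p : A.toSubring)} ⊔ nn M A.toSubring hAR * nn M A.toSubring hAR := by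
    rw [hI, Ideal.span_le]
    rintro _ ⟨j, rfl⟩
    exact h j (hmem j)
  have hInn : I ≤ nn M A.toSubring hAR := by
    rw [hI, Ideal.span_le]
    rintro _ ⟨j, rfl⟩
    exact hδ j
  intro y hy
  obtain ⟨r, hr⟩ := hstr y y.2
  have h1 : MemLocalIdeal M (r : ℂ) := by
    have h2 : MemLocalIdeal M ((y : ℂ) - r) := hInn hr
    have h3 := memI_sub (show MemLocalIdeal M (y : ℂ) from hy) h2
    rwa [sub_sub_cancel] at h3
  have h2 := hLU.div _ r.2.1 h1
  have h3 : (r : ℂ) / p ∈ A := A.algebraMap_mem ⟨_, L.div_mem r.2.1 hLU.mem_p, h2⟩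
  have h4 : (⟨(r : ℂ), A.algebraMap_mem r⟩ : A.toSubring) ∈ Ideal.span {(p : A.toSubring)} := by
    rw [Ideal.mem_span_singleton']
    refine ⟨⟨_, h3⟩, ?_⟩
    apply Subtype.ext
    change (r : ℂ) / p * p = r
    field_simp
  have h5 : y = ((⟨y, y.2⟩ : A.toSubring) - ⟨(r : ℂ), A.algebraMap_mem r⟩) + ⟨(r : ℂ), A.algebraMap_mem r⟩ := by
    rw [sub_add_cancel]
  rw [h5]
  exact Ideal.add_mem _ (hIle hr) ((le_sup_left : Ideal.span {(p : A.toSubring)} ≤ _) h4)

end CfsgLib.Ur
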