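import Mathlib
import Cfsg.Agent.EqBase
import Cfsg.Agent.LibUr3
import Cfsg.Agent.LibBrP1

/-!
# The maximal unramified subfield of `ℂ`, IV: group algebra elements with coefficients in a
subring, integrality (helper17)
-/

set_option autoImplicit false
set_option linter.unusedSectionVars false
set_option linter.style.haveILetI false
set_option linter.unusedSimpArgs false

namespace CfsgLib.Ur

open Cfsg CfsgLib.LocR Polynomial

variable {M : Ideal AlgInt} {p : ℕ} {G : Type*} [Group G] [Fintype G]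

/-- elements with coefficients in a subring -/
def Cf (S : Subring ℂ) (G : Type*) [Group G] [Fintype G] : Subring (MonoidAlgebra ℂ G) where
  carrier := {a | ∀ g, a.coeff g ∈ S}
  mul_mem' := by
    intro a b ha hb g
    rw [BrP.mul_coeff]
    exact sum_mem fun x _ => S.mul_mem (ha x) (hb _)
  one_mem' := by
    classical
    intro g
    rw [BrP.one_coeff]
    split_ifs
    · exact S.one_mem
    · exact S.zero_mem
  add_mem' := fun ha hb g => S.add_mem (ha g) (hb g)
  zero_mem' := fun g => S.zero_mem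
  neg_mem' := fun ha g => S.neg_mem (ha g)

theorem mem_Cf {S : Subring ℂ} {a : MonoidAlgebra ℂ G} : a ∈ Cf S G ↔ ∀ g, a.coeff g ∈ S := Iff.rfl

theorem Cf_mono {S T : Subring ℂ} (h : S ≤ T) {a : MonoidAlgebra ℂ G} (ha : a ∈ Cf S G) :
    a ∈ Cf T G := fun g => h (ha g)

theorem Cf_smul {S : Subring ℂ} {c : ℂ} (hc : c ∈ S) {a : MonoidAlgebra ℂ G} (ha : a ∈ Cf S G) :
    c • a ∈ Cf S G := fun g => by rw [BrP.smul_coeff]; exact S.mul_mem hc (ha g)

theorem Cf_single {S : Subring ℂ} (x : G) : MonoidAlgebra.single x (1 : ℂ) ∈ Cf S G := by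
  classical
  intro g
  rw [MonoidAlgebra.coeff_single, Finsupp.single_apply]
  split_ifs
  · exact S.one_mem
  · exact S.zero_mem

theorem Cf_aeval {S : Subring ℂ} {a : MonoidAlgebra ℂ G} (ha : a ∈ Cf S G) {h : ℂ[X]}
    (hh : ∀ i, h.coeff i ∈ S) : aeval a h ∈ Cf S G := by
  rw [aeval_eq_sum_range]
  exact sum_mem fun i _ => Cf_smul (hh i) (pow_mem ha i)

/-- every element is the sum of its coefficients -/
theorem eq_sum_single (a : MonoidAlgebra ℂ G) :
    a = ∑ x : G, a.coeff x • MonoidAlgebra.single x (1 : ℂ) := by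
  classical
  apply BrP.ext'
  intro g
  rw [BrP.sum_coeff, Finset.sum_eq_single g]
  · rw [BrP.smul_coeff, MonoidAlgebra.coeff_single, Finsupp.single_apply, if_pos rfl, mul_one]
  · intro x _ hx
    rw [BrP.smul_coeff, MonoidAlgebra.coeff_single, Finsupp.single_apply, if_neg hx, mul_zero]
  · intro h; exact absurd (Finset.mem_univ _) h

/-- the subalgebra over `S` -/
def CfA (S : Subring ℂ) (G : Type*) [Group G] [Fintype G] : Subalgebra S (MonoidAlgebra ℂ G) where
  toSubsemiring := (Cf S G).toSubsemiring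
  algebraMap_mem' := by
    intro r
    rw [Algebra.algebraMap_eq_smul_one]
    have h1 : r • (1 : MonoidAlgebra ℂ G) = (r : ℂ) • (1 : MonoidAlgebra ℂ G) := rfl
    rw [h1]
    exact Cf_smul r.2 (Cf S G).one_mem

theorem CfA_fg (S : Subring ℂ) : (Subalgebra.toSubmodule (CfA S G)).FG := by
  classical
  refine ⟨Finset.univ.image (fun x : G => MonoidAlgebra.single x (1 : ℂ)), ?_⟩
  apply le_antisymm
  · rw [Submodule.span_le]
    intro z hz
    rw [Finset.coe_image] at hz
    obtain ⟨x, _, rfl⟩ := hz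
    exact Cf_single x
  · intro a ha
    rw [eq_sum_single a]
    refine Submodule.sum_mem _ fun x _ => ?_
    have h1 : a.coeff x • MonoidAlgebra.single x (1 : ℂ) =
        (⟨a.coeff x, ha x⟩ : S) • MonoidAlgebra.single x (1 : ℂ) := rfl
    rw [h1]
    exact Submodule.smul_mem _ _ (Submodule.subset_span (by
      rw [Finset.coe_image]; exact ⟨x, Finset.mem_coe.mpr (Finset.mem_univ x), rfl⟩))

/-- integral equations -/
theorem exists_poly {S : Subring ℂ} {a : MonoidAlgebra ℂ G} (ha : a ∈ Cf S G) :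
    ∃ f : ℂ[X], f.Monic ∧ (∀ i, f.coeff i ∈ S) ∧ aeval a f = 0 := by
  obtain ⟨f, hf, hfa⟩ := IsIntegral.of_mem_of_fg (CfA S G) (CfA_fg S) a ha
  refine ⟨f.map (algebraMap S ℂ), hf.map _, ?_, ?_⟩
  · intro i
    rw [coeff_map]
    exact (f.coeff i).2
  · rw [aeval_map_algebraMap]
    exact hfa

/-- the local ring is integrally closed -/
theorem memR_of_root [M.IsPrime] {f : ℂ[X]} (hf : f.Monic) (hc : ∀ i, MemLocalRing M (f.coeff i))
    {z : ℂ} (hz : f.IsRoot z) : MemLocalRing M z := by
  classical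
  -- clear denominators
  choose a b hb hab using hc
  set s : AlgInt := ∏ i ∈ Finset.range f.natDegree, b i with hs
  have hsM : s ∉ M := by
    intro h
    obtain ⟨i, _, hi⟩ := (Ideal.IsPrime.prod_mem_iff).mp h
    exact hb i hi
  have hs0 := ne_zero_of_not_mem hsM
  -- the scaled polynomial
  have hcoef : ∀ i < f.natDegree, ∃ c : AlgInt, (c : ℂ) = f.coeff i * s := by
    intro i hi
    refine ⟨a i * ∏ j ∈ (Finset.range f.natDegree).erase i, b j, ?_⟩
    have h1 := Finset.mul_prod_erase (Finset.range f.natDegree) b (Finset.mem_range.mpr hi)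
    rw [hs, ← h1, ← hab i]
    have hb0 := ne_zero_of_not_mem (hb i)
    push_cast
    field_simp
  have hint : IsIntegral AlgInt ((s : ℂ) * z) := by
    choose c hc' using hcoef
    set F : AlgInt[X] := X ^ f.natDegree + ∑ i : Fin f.natDegree,
      C (c i i.2 * s ^ (f.natDegree - 1 - i)) * X ^ (i : ℕ) with hF
    refine ⟨F, ?_, ?_⟩
    · rw [hF]
      apply monic_X_pow_add
      refine lt_of_le_of_lt (degree_sum_le _ _) ?_
      rw [Finset.sup_lt_iff (by exact WithBot.bot_lt_coe _)]
      intro i _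
      refine lt_of_le_of_lt (degree_C_mul_X_pow_le _ _) ?_
      exact_mod_cast i.2
    · rw [hF, eval₂_add, eval₂_finsetSum, eval₂_pow, eval₂_X]
      simp only [eval₂_mul, eval₂_C, eval₂_pow, eval₂_X]
      have h1 : ∀ i : Fin f.natDegree, (algebraMap AlgInt ℂ) (c i i.2 * s ^ (f.natDegree - 1 - i)) *
          ((s : ℂ) * z) ^ (i : ℕ) = (s : ℂ) ^ f.natDegree * (f.coeff i * z ^ (i : ℕ)) := by
        intro i
        have h2 : (algebraMap AlgInt ℂ) (c i i.2 * s ^ (f.natDegree - 1 - i)) =
          (c i i.2 : ℂ) * (s : ℂ) ^ (f.natDegree - 1 - i) := rfl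
        rw [h2, hc', mul_pow]
        have h3 : (s : ℂ) ^ f.natDegree = s * s ^ (f.natDegree - 1 - i) * s ^ (i : ℕ) := by
          rw [← pow_succ', ← pow_add]; congr 1; have := i.2; omega
        rw [h3]
        ring
      rw [Finset.sum_congr rfl fun i _ => h1 i, ← Finset.mul_sum, mul_pow, ← mul_add]
      have h4 : f.eval z = z ^ f.natDegree + ∑ i : Fin f.natDegree, f.coeff i * z ^ (i : ℕ) := by
        rw [eval_eq_sum_range, Finset.sum_range_succ, Fin.sum_univ_eq_sum_range
          (fun i => f.coeff i * z ^ i), hf.coeff_natDegree, one_mul, add_comm]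
      rw [← h4, hz, mul_zero]
  have hint2 : IsIntegral ℤ ((s : ℂ) * z) := isIntegral_trans (R := ℤ) (A := AlgInt) _ hint
  refine ⟨⟨_, hint2⟩, s, hsM, ?_⟩
  change (s : ℂ) * z / s = z
  field_simp

end CfsgLib.Ur
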