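import Mathlib
import Cfsg.Agent.EqBase
import Cfsg.Agent.LibUr4

/-!
# The maximal unramified subfield of `ℂ`, V: idempotents (helper17)
-/

set_option autoImplicit false
set_option linter.unusedSectionVars false
set_option linter.style.haveILetI false
set_option linter.unusedSimpArgs false

namespace CfsgLib.Ur

open Cfsg CfsgLib.LocR Polynomial

variable {M : Ideal AlgInt} {p : ℕ} {G : Type*} [Group G] [Fintype G]

/-- coefficients in the local ideal -/
def MI (M : Ideal AlgInt) (a : MonoidAlgebra ℂ G) : Prop := ∀ g, MemLocalIdeal M (a.coeff g)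

section MIlemmas
variable [M.IsPrime]

theorem MI_zero : MI M (0 : MonoidAlgebra ℂ G) := fun _ => memI_zero

theorem MI_add {a b : MonoidAlgebra ℂ G} (ha : MI M a) (hb : MI M b) : MI M (a + b) :=
  fun g => memI_add (ha g) (hb g)

theorem MI_sub {a b : MonoidAlgebra ℂ G} (ha : MI M a) (hb : MI M b) : MI M (a - b) :=
  fun g => memI_sub (ha g) (hb g)

theorem MI_neg {a : MonoidAlgebra ℂ G} (ha : MI M a) : MI M (-a) :=
  fun g => memI_neg (ha g)

theorem MI_mul_left {a b : MonoidAlgebra ℂ G} (ha : a ∈ Cf (LocR.subring M) G) (hb : MI M b) :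
    MI M (a * b) := by
  intro g
  rw [BrP.mul_coeff]
  exact memI_sum fun x _ => memI_mul_left (ha x) (hb _)

theorem MI_mul_right {a b : MonoidAlgebra ℂ G} (ha : MI M a) (hb : b ∈ Cf (LocR.subring M) G) :
    MI M (a * b) := by
  intro g
  rw [BrP.mul_coeff]
  exact memI_sum fun x _ => memI_mul_right (ha x) (hb _)

theorem MI_smul {a : MonoidAlgebra ℂ G} {c : ℂ} (hc : MemLocalIdeal M c)
    (ha : a ∈ Cf (LocR.subring M) G) : MI M (c • a) := by
  intro g
  rw [BrP.smul_coeff]
  exact memI_mul_right hc (ha g)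

theorem MI_smul' {a : MonoidAlgebra ℂ G} {c : ℂ} (hc : MemLocalRing M c) (ha : MI M a) :
    MI M (c • a) := by
  intro g
  rw [BrP.smul_coeff]
  exact memI_mul_left hc (ha g)

theorem MI_sum {ι : Type*} (s : Finset ι) (f : ι → MonoidAlgebra ℂ G) (h : ∀ i ∈ s, MI M (f i)) :
    MI M (∑ i ∈ s, f i) := by
  intro g
  rw [BrP.sum_coeff]
  exact memI_sum fun i hi => h i hi g

theorem MI_mem {a : MonoidAlgebra ℂ G} (ha : MI M a) : a ∈ Cf (LocR.subring M) G :=
  fun g => memR_of_memI (ha g)

theorem MI_aeval {a : MonoidAlgebra ℂ G} (ha : a ∈ Cf (LocR.subring M) G) {q : ℂ[X]}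
    (hq : ∀ i, MemLocalIdeal M (q.coeff i)) : MI M (aeval a q) := by
  rw [aeval_eq_sum_range]
  exact MI_sum _ _ fun i _ => MI_smul (hq i) (pow_mem ha i)

theorem MI_trans {a b c : MonoidAlgebra ℂ G} (h1 : MI M (a - b)) (h2 : MI M (b - c)) :
    MI M (a - c) := by
  have := MI_add h1 h2
  rwa [sub_add_sub_cancel] at this

end MIlemmas

theorem RL_le [M.IsPrime] {L : Subfield ℂ} : RL M L ≤ LocR.subring M := inf_le_right

theorem RL_le' [M.IsPrime] {L : Subfield ℂ} : RL M L ≤ L.toSubring := inf_le_left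

/-- divide by `p` -/
theorem exists_div (hM : IsPModular p M) [M.IsPrime] {L : Subfield ℂ} (hLU : IsUr M p L)
    {a : MonoidAlgebra ℂ G} (ha : a ∈ Cf L.toSubring G) (hI : MI M a) :
    ∃ b ∈ Cf (RL M L) G, a = (p : ℂ) • b := by
  have hp0 : (p : ℂ) ≠ 0 := by exact_mod_cast hM.1.ne_zero
  refine ⟨(p : ℂ)⁻¹ • a, ?_, ?_⟩
  · intro g
    rw [BrP.smul_coeff]
    refine ⟨L.mul_mem (L.inv_mem hLU.mem_p) (ha g), ?_⟩
    have := hLU.div _ (ha g) (hI g)
    rwa [div_eq_inv_mul] at this
  · rw [smul_smul, mul_inv_cancel₀ hp0, one_smul]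

/-- approximate polynomials -/
theorem exists_approx (hM : IsPModular p M) [M.IsPrime] {L : Subfield ℂ}
    (hL : Maximal (IsUr M p) L) {q : ℂ[X]} (hq : ∀ i, MemLocalRing M (q.coeff i)) :
    ∃ q₀ : ℂ[X], (∀ i, q₀.coeff i ∈ RL M L) ∧ ∀ i, MemLocalIdeal M ((q - q₀).coeff i) := by
  classical
  choose r hr hrI using fun i => exists_res hM hL (hq i)
  refine ⟨∑ i ∈ Finset.range (q.natDegree + 1), monomial i (r i), ?_, ?_⟩
  · intro i
    rw [finsetSum_coeff]
    refine sum_mem fun j _ => ?_
    rw [coeff_monomial]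
    split_ifs
    · exact hr j
    · exact zero_mem _
  · intro i
    rw [coeff_sub, finsetSum_coeff]
    simp only [coeff_monomial]
    rw [Finset.sum_ite_eq']
    split_ifs with h
    · exact hrI i
    · rw [Finset.mem_range, not_lt] at h
      rw [coeff_eq_zero_of_natDegree_lt (by omega), sub_zero]
      exact memI_zero

theorem exists_coprime [M.IsPrime] (s t : Multiset (LocR.subring M))
    (hs : ∀ x ∈ s, MemLocalIdeal M (x : ℂ)) (ht : ∀ x ∈ t, ¬ MemLocalIdeal M (x : ℂ)) :
    IsCoprime ((s.map fun x => (X - C x : (LocR.subring M)[X])).prod)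
      ((t.map fun x => (X - C x : (LocR.subring M)[X])).prod) := by
  induction s using Multiset.induction with
  | empty => rw [Multiset.map_zero, Multiset.prod_zero]; exact isCoprime_one_left
  | cons a s ih =>
    rw [Multiset.map_cons, Multiset.prod_cons]
    refine IsCoprime.mul_left ?_ (ih fun x hx => hs x (Multiset.mem_cons_of_mem hx))
    have ha := hs a (Multiset.mem_cons_self a s)
    clear ih
    induction t using Multiset.induction with
    | empty => rw [Multiset.map_zero, Multiset.prod_zero]; exact isCoprime_one_right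
    | cons b t iht =>
      rw [Multiset.map_cons, Multiset.prod_cons]
      refine IsCoprime.mul_right ?_ (iht fun x hx => ht x (Multiset.mem_cons_of_mem hx))
      have hb := ht b (Multiset.mem_cons_self b t)
      have hu : IsUnit (a - b) := by
        rw [isUnit_subring_iff]
        intro h
        apply hb
        have h1 := memI_sub ha h
        push_cast at h1
        rwa [sub_sub_cancel] at h1
      obtain ⟨c, hc⟩ := hu.exists_left_inv
      refine ⟨-C c, C c, ?_⟩
      have h1 : -C c * (X - C a) + C c * (X - C b) = C (c * (a - b)) := by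
        rw [C_mul, C_sub]; ring
      rw [h1, hc, C_1]

/-- a product of factors `a - α`, `α` in the local ideal -/
theorem prod_approx [M.IsPrime] {a : MonoidAlgebra ℂ G} (ha : a ∈ Cf (LocR.subring M) G)
    (s : Multiset ℂ) (hs : ∀ x ∈ s, MemLocalIdeal M x) :
    MI M (aeval a ((s.map fun x => (X - C x : ℂ[X])).prod) - a ^ (Multiset.card s)) := by
  induction s using Multiset.induction with
  | empty =>
    rw [Multiset.map_zero, Multiset.prod_zero, map_one, Multiset.card_zero, pow_zero, sub_self]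
    exact MI_zero
  | cons b s ih =>
    have h1 := ih fun x hx => hs x (Multiset.mem_cons_of_mem hx)
    have hb := hs b (Multiset.mem_cons_self b s)
    rw [Multiset.map_cons, Multiset.prod_cons, map_mul, Multiset.card_cons, pow_succ']
    set Q := aeval a ((s.map fun x => (X - C x : ℂ[X])).prod) with hQ
    have hQR : Q ∈ Cf (LocR.subring M) G := by
      have h2 : Q = (Q - a ^ Multiset.card s) + a ^ Multiset.card s := by rw [sub_add_cancel]
      rw [h2]
      exact add_mem (MI_mem h1) (pow_mem ha _)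
    have h2 : aeval a (X - C b : ℂ[X]) = a - b • (1 : MonoidAlgebra ℂ G) := by
      rw [map_sub, aeval_X, aeval_C, Algebra.algebraMap_eq_smul_one]
    rw [h2]
    have h3 : (a - b • (1 : MonoidAlgebra ℂ G)) * Q - a * a ^ Multiset.card s =
        a * (Q - a ^ Multiset.card s) - b • Q := by
      rw [sub_mul, mul_sub, smul_mul_assoc, one_mul]; abel
    rw [h3]
    exact MI_sub (MI_mul_left ha h1) (MI_smul hb hQR)

/-- the étale equation of an idempotent -/
theorem etale_eq {a x b δ e : MonoidAlgebra ℂ G} (hex : e * x = x) (hxe : x * e = x)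
    (hee : e * e = e) (heδ : e * δ = δ) (hcom : x * δ = δ * x)
    (hb : x * x - x = (p : ℂ) • b) (hid : (x + δ) * (x + δ) = x + δ) :
    δ = -((p : ℂ) • (4 * (b * δ) + (2 * x - e) * b)) - (2 * x - e) * (δ * δ) := by
  have h1 : (2 * x - e) * (2 * x - e) = 4 * (x * x - x) + e := by
    have : (2 * x - e) * (2 * x - e) = 4 * (x * x) - 2 * (x * e) - 2 * (e * x) + e * e := by
      noncomm_ring
    rw [this, hex, hxe, hee]; noncomm_ring
  have h2 : (2 * x - e) * δ = -((p : ℂ) • b) - δ * δ := by
    rw [← hb]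
    have h3 : (x + δ) * (x + δ) = x * x + x * δ + δ * x + δ * δ := by noncomm_ring
    rw [h3, ← hcom] at hid
    have h4 : (2 * x - e) * δ = 2 * (x * δ) - e * δ := by noncomm_ring
    rw [h4, heδ]
    have h5 : 2 * (x * δ) = x * δ + x * δ := by noncomm_ring
    rw [h5]
    have h6 : x * δ + x * δ = x + δ - x * x - δ * δ := by rw [← hid]; abel
    rw [h6]; abel
  have h3 : (2 * x - e) * ((2 * x - e) * δ) = 4 * (x * x - x) * δ + δ := by
    rw [← mul_assoc, h1, add_mul, heδ]
  rw [h2, hb] at h3
  have h4 : δ = (2 * x - e) * (-((p : ℂ) • b) - δ * δ) - 4 * ((p : ℂ) • b) * δ := by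
    rw [h3]; abel
  have h5 : (2 * x - e) * (-((p : ℂ) • b) - δ * δ) - 4 * ((p : ℂ) • b) * δ =
      -((p : ℂ) • (4 * (b * δ) + (2 * x - e) * b)) - (2 * x - e) * (δ * δ) := by
    rw [mul_sub, mul_neg, mul_smul_comm, mul_smul_comm, smul_mul_assoc, smul_add, mul_assoc]
    abel
  rw [← h5]
  exact h4

end CfsgLib.Ur
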