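import Mathlib
import Cfsg.Agent.EqBase
import Cfsg.Agent.LibUr5

/-!
# The maximal unramified subfield of `ℂ`, VI: the trichotomy in corner rings (helper17)
-/

set_option autoImplicit false
set_option linter.unusedSectionVars false
set_option linter.style.haveILetI false
set_option linter.unusedSimpArgs false

namespace CfsgLib.Ur

open Cfsg CfsgLib.LocR Polynomial

variable {M : Ideal AlgInt} {p : ℕ} {G : Type*} [Group G] [Fintype G]

section InI
variable {S : Subring ℂ}

/-- membership in an ideal of a subring, as a predicate on complex numbers -/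
def InI (I : Ideal S) (z : ℂ) : Prop := ∃ h : z ∈ S, (⟨z, h⟩ : S) ∈ I

theorem InI_zero {I : Ideal S} : InI I 0 := ⟨S.zero_mem, I.zero_mem⟩

theorem InI_add {I : Ideal S} {z w : ℂ} (hz : InI I z) (hw : InI I w) : InI I (z + w) := by
  obtain ⟨h1, h2⟩ := hz
  obtain ⟨h3, h4⟩ := hw
  exact ⟨S.add_mem h1 h3, I.add_mem h2 h4⟩

theorem InI_neg {I : Ideal S} {z : ℂ} (hz : InI I z) : InI I (-z) := by
  obtain ⟨h1, h2⟩ := hz
  exact ⟨S.neg_mem h1, I.neg_mem h2⟩

theorem InI_mul {I : Ideal S} {z w : ℂ} (hz : z ∈ S) (hw : InI I w) : InI I (z * w) := by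
  obtain ⟨h3, h4⟩ := hw
  exact ⟨S.mul_mem hz h3, I.mul_mem_left ⟨z, hz⟩ h4⟩

theorem InI_sum {I : Ideal S} {ι : Type*} (s : Finset ι) (f : ι → ℂ) (h : ∀ i ∈ s, InI I (f i)) :
    InI I (∑ i ∈ s, f i) := by
  classical
  induction s using Finset.induction with
  | empty => rw [Finset.sum_empty]; exact InI_zero
  | insert a s ha ih =>
    rw [Finset.sum_insert ha]
    exact InI_add (h a (Finset.mem_insert_self a s)) (ih fun i hi => h i (Finset.mem_insert_of_mem hi))

theorem InI_mono {I J : Ideal S} (hIJ : I ≤ J) {z : ℂ} (hz : InI I z) : InI J z := by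
  obtain ⟨h1, h2⟩ := hz
  exact ⟨h1, hIJ h2⟩

end InI

/-- an idempotent close to an element with coefficients in `L`, and commuting with it, has
coefficients in `L` -/
theorem descend (hM : IsPModular p M) [M.IsPrime] {L : Subfield ℂ} (hL : Maximal (IsUr M p) L)
    {e x f : MonoidAlgebra ℂ G} (he : e ∈ Cf (RL M L) G) (hee : e * e = e)
    (hx : x ∈ Cf (RL M L) G) (hex : e * x = x) (hxe : x * e = x) (hff : f * f = f)
    (hef : e * f = f) (hI : MI M (f - x)) (hcom : x * f = f * x) : f ∈ Cf (RL M L) G := by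
  classical
  have hLU := hL.prop
  obtain ⟨δ, hδ⟩ : ∃ δ, δ = f - x := ⟨_, rfl⟩
  have hfx : f = x + δ := by rw [hδ]; abel
  rw [← hδ] at hI
  have hxR : x ∈ Cf (LocR.subring M) G := Cf_mono RL_le hx
  have hfR : f ∈ Cf (LocR.subring M) G := by rw [hfx]; exact add_mem hxR (MI_mem hI)
  have hxx : MI M (x * x - x) := by
    have h1 : x * x - x = -(f * δ) - δ * f + δ * δ + δ := by
      have h2 : x = f - δ := by rw [hfx]; abel
      rw [h2]
      have h3 : (f - δ) * (f - δ) - (f - δ) = (f * f - f) - f * δ - δ * f + δ * δ + δ := by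
        noncomm_ring
      rw [h3, hff]; abel
    rw [h1]
    exact MI_add (MI_add (MI_sub (MI_neg (MI_mul_left hfR hI)) (MI_mul_right hI hfR))
      (MI_mul_left (MI_mem hI) hI)) hI
  obtain ⟨b, hb, hbx⟩ := exists_div hM hLU
    (Cf_mono RL_le' (sub_mem (mul_mem hx hx) hx)) hxx
  have heq := etale_eq (a := (0 : MonoidAlgebra ℂ G)) (δ := δ) hex hxe hee
    (by rw [hδ, mul_sub, hef, hex]) (by rw [hδ, mul_sub, sub_mul, hcom]) hbx
    (by rw [← hfx]; exact hff)
  -- the ring generated by the coefficients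
  set A : Subalgebra (RL M L) ℂ := Algebra.adjoin (RL M L) (Set.range fun g => δ.coeff g) with hA
  have hRA : RL M L ≤ A.toSubring := fun z hz => A.algebraMap_mem ⟨z, hz⟩
  have hδA : δ ∈ Cf A.toSubring G := fun g => Algebra.subset_adjoin ⟨g, rfl⟩
  have hAR : ∀ z ∈ A.toSubring, MemLocalRing M z := by
    intro z hz
    have hz' : z ∈ A := hz
    induction hz' using Algebra.adjoin_induction with
    | mem x hx => obtain ⟨g, rfl⟩ := hx; exact memR_of_memI (hI g)
    | algebraMap r => exact r.2.2
    | add x y hx hy hx' hy' => exact memR_add (hx' hx) (hy' hy)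
    | mul x y hx hy hx' hy' => exact memR_mul (hx' hx) (hy' hy)
  have hkey : ∀ g, δ.coeff g ∈ L := by
    apply KL2 hM hL (fun g => δ.coeff g) hI hAR
    intro g hg
    have h0 : InI (Ideal.span {(p : A.toSubring)} ⊔ nn M A.toSubring hAR * nn M A.toSubring hAR)
        (δ.coeff g) := by
      rw [heq, BrP.sub_coeff, BrP.neg_coeff, BrP.smul_coeff, sub_eq_add_neg]
      apply InI_add
      · apply InI_neg
        have hw : (4 * (b * δ) + (2 * x - e) * b) ∈ Cf A.toSubring G := by
          have h4 : (4 : MonoidAlgebra ℂ G) ∈ Cf A.toSubring G := by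
            have : (4 : MonoidAlgebra ℂ G) = 1 + 1 + 1 + 1 := by norm_num
            rw [this]
            exact add_mem (add_mem (add_mem (one_mem _) (one_mem _)) (one_mem _)) (one_mem _)
          have h2 : (2 : MonoidAlgebra ℂ G) ∈ Cf A.toSubring G := by
            have : (2 : MonoidAlgebra ℂ G) = 1 + 1 := by norm_num
            rw [this]
            exact add_mem (one_mem _) (one_mem _)
          exact add_mem (mul_mem h4 (mul_mem (Cf_mono hRA hb) hδA))
            (mul_mem (sub_mem (mul_mem h2 (Cf_mono hRA hx)) (Cf_mono hRA he)) (Cf_mono hRA hb))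
        refine ⟨mul_mem (natCast_mem _ p) (hw g), ?_⟩
        apply (le_sup_left : Ideal.span {(p : A.toSubring)} ≤ _)
        rw [Ideal.mem_span_singleton']
        exact ⟨⟨_, hw g⟩, Subtype.ext (mul_comm _ _)⟩
      · apply InI_neg
        apply InI_mono le_sup_right
        rw [BrP.mul_coeff]
        refine InI_sum _ _ fun y _ => ?_
        have h2 : (2 : MonoidAlgebra ℂ G) ∈ Cf A.toSubring G := by
          have : (2 : MonoidAlgebra ℂ G) = 1 + 1 := by norm_num
          rw [this]
          exact add_mem (one_mem _) (one_mem _)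
        refine InI_mul ((sub_mem (mul_mem h2 (Cf_mono hRA hx)) (Cf_mono hRA he)) y) ?_
        rw [BrP.mul_coeff]
        refine InI_sum _ _ fun z _ => ?_
        exact ⟨mul_mem (hδA _) (hδA _), Ideal.mul_mem_mul
          (show (⟨δ.coeff z, hδA z⟩ : A.toSubring) ∈ nn M A.toSubring hAR from hI _)
          (show (⟨δ.coeff _, hδA _⟩ : A.toSubring) ∈ nn M A.toSubring hAR from hI _)⟩
    exact h0.2
  intro g
  refine ⟨?_, hfR g⟩
  rw [hfx, BrP.add_coeff]
  exact L.add_mem (hx g).1 (hkey g)

/-- the trichotomy -/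
theorem trich (hM : IsPModular p M) [M.IsPrime] {L : Subfield ℂ} (hL : Maximal (IsUr M p) L)
    {e a : MonoidAlgebra ℂ G} (he : e ∈ Cf (RL M L) G) (hee : e * e = e)
    (ha : a ∈ Cf (RL M L) G) (hea : e * a = a) (hae : a * e = a) :
    (∃ k : ℕ, MI M (a ^ (k + 1))) ∨
    (∃ b ∈ Cf (RL M L) G, e * b = b ∧ b * e = b ∧ a * b = e ∧ b * a = e) ∨
    (∃ f ∈ Cf (RL M L) G, f * f = f ∧ e * f = f ∧ f * e = f ∧ f ≠ 0 ∧ f ≠ e) := by
  classical
  have haR : a ∈ Cf (LocR.subring M) G := Cf_mono RL_le ha
  have heR : e ∈ Cf (LocR.subring M) G := Cf_mono RL_le he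
  obtain ⟨f, hf, hfc, hfa⟩ := exists_poly ha
  have hf0 : f ≠ 0 := hf.ne_zero
  have hrootR : ∀ z ∈ f.roots, z ∈ LocR.subring M := fun z hz =>
    memR_of_root hf (fun i => (hfc i).2) (isRoot_of_mem_roots hz)
  -- lift the roots
  obtain ⟨s, hs⟩ : ∃ s : Multiset (LocR.subring M),
      s.map (fun x : LocR.subring M => (x : ℂ)) = f.roots := by
    refine ⟨f.roots.pmap (fun z hz => (⟨z, hz⟩ : LocR.subring M)) hrootR, ?_⟩
    rw [Multiset.map_pmap, Multiset.pmap_eq_map, Multiset.map_id']
  set s0 := s.filter (fun x : LocR.subring M => MemLocalIdeal M (x : ℂ)) with hs0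
  set s1 := s.filter (fun x : LocR.subring M => ¬ MemLocalIdeal M (x : ℂ)) with hs1
  have hs01 : s0 + s1 = s := Multiset.filter_add_not _ _
  obtain ⟨u, v, huv⟩ := exists_coprime s0 s1 (fun x hx => (Multiset.mem_filter.mp hx).2)
    (fun x hx => (Multiset.mem_filter.mp hx).2)
  let φ := mapRingHom (LocR.subring M).subtype
  have hφc : ∀ (q : (LocR.subring M)[X]) (i : ℕ), MemLocalRing M ((φ q).coeff i) := by
    intro q i
    change MemLocalRing M ((q.map (LocR.subring M).subtype).coeff i)
    rw [coeff_map]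
    exact (q.coeff i).2
  have hφprod : ∀ t : Multiset (LocR.subring M), φ ((t.map fun x => (X - C x : (LocR.subring M)[X])).prod) =
      ((t.map (fun x : LocR.subring M => (x : ℂ))).map fun x => (X - C x : ℂ[X])).prod := by
    intro t
    rw [map_multiset_prod, Multiset.map_map, Multiset.map_map]
    congr 1
    apply Multiset.map_congr rfl
    intro x _
    change (X - C x : (LocR.subring M)[X]).map (LocR.subring M).subtype = X - C (x : ℂ)
    rw [Polynomial.map_sub, map_X, map_C]
    rfl
  obtain ⟨F0, hF0⟩ : ∃ q, q = φ ((s0.map fun x => (X - C x : (LocR.subring M)[X])).prod) := ⟨_, rfl⟩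
  obtain ⟨F1, hF1⟩ : ∃ q, q = φ ((s1.map fun x => (X - C x : (LocR.subring M)[X])).prod) := ⟨_, rfl⟩
  obtain ⟨U, hU⟩ : ∃ q, q = φ u := ⟨_, rfl⟩
  obtain ⟨V, hV⟩ : ∃ q, q = φ v := ⟨_, rfl⟩
  have hUV : U * F0 + V * F1 = 1 := by
    rw [hU, hV, hF0, hF1, ← map_mul, ← map_mul, ← map_add, huv, map_one]
  have hF01 : F0 * F1 = f := by
    rw [hF0, hF1, ← map_mul, ← Multiset.prod_add, ← Multiset.map_add, hs01, hφprod, hs]
    exact (Splits.eq_prod_roots_of_monic (IsAlgClosed.splits f) hf).symm
  have hcomm : ∀ q : ℂ[X], e * aeval a q = aeval a q * e := by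
    intro q
    have h1 : Commute e a := by rw [Commute, SemiconjBy, hea, hae]
    rw [aeval_eq_sum_range, Finset.mul_sum, Finset.sum_mul]
    refine Finset.sum_congr rfl fun i _ => ?_
    rw [mul_smul_comm, smul_mul_assoc]
    congr 1
    exact (h1.pow_right i).eq
  -- evaluation in the corner
  obtain ⟨P, hP⟩ : ∃ P : ℂ[X] → MonoidAlgebra ℂ G, ∀ q, P q = aeval a q * e := ⟨_, fun _ => rfl⟩
  have hPmul : ∀ q q', P q * P q' = P (q * q') := by
    intro q q'
    rw [hP, hP, hP, map_mul, mul_assoc, ← mul_assoc e, hcomm, mul_assoc, hee, mul_assoc]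
  have hPadd : ∀ q q', P (q + q') = P q + P q' := by
    intro q q'
    rw [hP, hP, hP, map_add, add_mul]
  have hPsub : ∀ q q', P (q - q') = P q - P q' := by
    intro q q'
    rw [hP, hP, hP, map_sub, sub_mul]
  have hP1 : P 1 = e := by rw [hP, map_one, one_mul]
  have hPX : P X = a := by rw [hP, aeval_X, hae]
  have hPf : P f = 0 := by rw [hP, hfa, zero_mul]
  have heP : ∀ q, e * P q = P q := by intro q; rw [← hP1, hPmul, one_mul]
  have hPe : ∀ q, P q * e = P q := by intro q; rw [← hP1, hPmul, mul_one]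
  have hPcomm : ∀ q q', P q * P q' = P q' * P q := by intro q q'; rw [hPmul, hPmul, mul_comm]
  have hPR : ∀ q, (∀ i, MemLocalRing M (q.coeff i)) → P q ∈ Cf (LocR.subring M) G := by
    intro q hq
    rw [hP]
    exact mul_mem (Cf_aeval haR hq) heR
  have hPL : ∀ q, (∀ i, q.coeff i ∈ RL M L) → P q ∈ Cf (RL M L) G := by
    intro q hq
    rw [hP]
    exact mul_mem (Cf_aeval ha hq) he
  have hUF : ∀ i, MemLocalRing M ((U * F0).coeff i) := by
    rw [hU, hF0, ← map_mul]
    exact hφc _
  -- the idempotent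
  obtain ⟨E, hE⟩ : ∃ E, E = P (U * F0) := ⟨_, rfl⟩
  have hEE : E * E = E := by
    rw [hE, hPmul]
    have h1 : U * F0 * (U * F0) = U * F0 - (U * V) * f := by
      rw [← hF01]
      have h2 : U * F0 = 1 - V * F1 := by rw [← hUV]; ring
      calc U * F0 * (U * F0) = U * F0 * (1 - V * F1) := by rw [← h2]
        _ = U * F0 - U * V * (F0 * F1) := by ring
    rw [h1, hPsub, ← hPmul (U * V) f, hPf, mul_zero, sub_zero]
  obtain ⟨q₀, hq₀, hq₀I⟩ := exists_approx hM hL hUF
  have hEI : MI M (E - P q₀) := by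
    rw [hE, ← hPsub, hP]
    exact MI_mul_right (MI_aeval haR hq₀I) heR
  have hEL : E ∈ Cf (RL M L) G := by
    apply descend hM hL he hee (hPL q₀ hq₀) (heP _) (hPe _) hEE (by rw [hE]; exact heP _) hEI
    rw [hE]; exact hPcomm _ _
  by_cases hE0 : E = 0
  · -- nilpotent
    left
    have h1 : P F0 = 0 := by
      have h2 : F0 = F0 * (U * F0) + V * f := by
        rw [← hF01]
        calc F0 = F0 * (U * F0 + V * F1) := by rw [hUV, mul_one]
          _ = F0 * (U * F0) + V * (F0 * F1) := by ring
      rw [h2, hPadd, ← hPmul, ← hE, hE0, mul_zero, ← hPmul, hPf, mul_zero, add_zero]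
    have h2 := prod_approx haR (s0.map (fun x : LocR.subring M => (x : ℂ))) (by
      intro x hx
      obtain ⟨y, hy, rfl⟩ := Multiset.mem_map.mp hx
      exact (Multiset.mem_filter.mp hy).2)
    rw [← hφprod, ← hF0] at h2
    refine ⟨Multiset.card (s0.map (fun x : LocR.subring M => (x : ℂ))), ?_⟩
    have h3 := MI_neg (MI_mul_right h2 haR)
    have h4 : -((aeval a F0 - a ^ Multiset.card (s0.map (fun x : LocR.subring M => (x : ℂ)))) * a) =
        a ^ (Multiset.card (s0.map (fun x : LocR.subring M => (x : ℂ))) + 1) := by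
      rw [sub_mul, ← pow_succ]
      have h5 : aeval a F0 * a = 0 := by
        calc aeval a F0 * a = aeval a F0 * (e * a) := by rw [hea]
          _ = (aeval a F0 * e) * a := by rw [mul_assoc]
          _ = 0 := by rw [← hP, h1, zero_mul]
      rw [h5, zero_sub, neg_neg]
    rw [h4] at h3
    exact h3
  by_cases hE1 : E = e
  · right; left
    -- inverse with coefficients in the local ring
    have h1 : P F1 = 0 := by
      have h2 : F1 = F1 - F1 * (U * F0) + U * f := by
        rw [← hF01]; ring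
      rw [h2, hPadd, hPsub, ← hPmul, ← hE, hE1, hPe, sub_self, zero_add, ← hPmul, hPf, mul_zero]
    have hc0 : F1.coeff 0 ≠ 0 ∧ MemLocalRing M (F1.coeff 0)⁻¹ := by
      have h2 : F1.coeff 0 = ((s1.map (fun x : LocR.subring M => (x : ℂ))).map fun x => -x).prod := by
        rw [hF1, hφprod, coeff_zero_eq_eval_zero, eval_multiset_prod, Multiset.map_map]
        congr 1
        apply Multiset.map_congr rfl
        intro x _
        simp
      have h3 : ∀ t : Multiset ℂ, (∀ x ∈ t, MemLocalRing M x ∧ ¬ MemLocalIdeal M x) →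
          MemLocalRing M (t.map fun x => -x).prod ∧ ¬ MemLocalIdeal M (t.map fun x => -x).prod := by
        intro t
        induction t using Multiset.induction with
        | empty =>
          intro _
          rw [Multiset.map_zero, Multiset.prod_zero]
          exact ⟨memR_one, not_memI_one⟩
        | cons b t ih =>
          intro h
          obtain ⟨h4, h5⟩ := ih fun x hx => h x (Multiset.mem_cons_of_mem hx)
          obtain ⟨h6, h7⟩ := h b (Multiset.mem_cons_self b t)
          rw [Multiset.map_cons, Multiset.prod_cons]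
          exact ⟨memR_mul (memR_neg h6) h4, not_memI_mul (memR_neg h6) h4
            (fun h8 => h7 (memI_neg_iff.mp h8)) h5⟩
      have h4 := h3 (s1.map (fun x : LocR.subring M => (x : ℂ))) (by
        intro x hx
        obtain ⟨y, hy, rfl⟩ := Multiset.mem_map.mp hx
        exact ⟨y.2, (Multiset.mem_filter.mp hy).2⟩)
      rw [← h2] at h4
      exact ⟨ne_zero_of_not_memI h4.2, memR_inv h4.1 h4.2⟩
    -- inverse over the local ring
    have hinvR : ∃ b ∈ Cf (LocR.subring M) G, e * b = b ∧ b * e = b ∧ a * b = e ∧ b * a = e := by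
      have h2 : F1 = F1.divX * X + C (F1.coeff 0) := (divX_mul_X_add F1).symm
      have h3 : P F1.divX * a + (F1.coeff 0) • e = 0 := by
        have h4 : P (C (F1.coeff 0)) = (F1.coeff 0) • e := by
          rw [hP, aeval_C, Algebra.algebraMap_eq_smul_one, smul_mul_assoc, one_mul]
        rw [← h4]
        nth_rewrite 1 [← hPX]
        rw [hPmul, ← hPadd, ← h2, h1]
      have h4 : (-(F1.coeff 0)⁻¹) • P F1.divX * a = e := by
        rw [smul_mul_assoc, eq_neg_of_add_eq_zero_left h3, neg_smul, smul_neg, neg_neg, smul_smul,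
          inv_mul_cancel₀ hc0.1, one_smul]
      refine ⟨(-(F1.coeff 0)⁻¹) • P F1.divX, ?_, ?_, ?_, ?_, h4⟩
      · apply Cf_smul (memR_neg hc0.2)
        apply hPR
        intro i
        rw [coeff_divX]
        rw [hF1]
        exact hφc _ _
      · rw [mul_smul_comm, heP]
      · rw [smul_mul_assoc, hPe]
      · rw [← h4, mul_smul_comm, smul_mul_assoc]
        congr 1
        nth_rewrite 1 [← hPX]
        rw [hPcomm, hPX]
    obtain ⟨b, hbR, heb, hbe, hab, hba⟩ := hinvR
    -- inverse over `L`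
    obtain ⟨g, hg1, hg2⟩ := exists_eq_pow_rootMultiplicity_mul_and_not_dvd f hf0 0
    set m := rootMultiplicity 0 f with hm
    have hg0 : g.coeff 0 ≠ 0 := by
      intro h
      apply hg2
      rw [C_0, sub_zero]
      exact X_dvd_iff.mpr h
    rw [C_0, sub_zero] at hg1
    have hgL : ∀ i, g.coeff i ∈ L := by
      intro i
      have h2 := congrArg (fun q => coeff q (i + m)) hg1
      simp only [coeff_X_pow_mul] at h2
      rw [← h2]
      exact (hfc _).1
    have hPg : P g = 0 := by
      have h2 : ∀ j : ℕ, P (X ^ j * g) = 0 → P g = 0 := by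
        intro j
        induction j with
        | zero => intro h; rwa [pow_zero, one_mul] at h
        | succ j ih =>
          intro h
          apply ih
          rw [pow_succ', mul_assoc, ← hPmul, hPX] at h
          have h3 := congrArg (fun t => b * t) h
          simp only [mul_zero] at h3
          rwa [← mul_assoc, hba, heP] at h3
      exact h2 m (by rw [← hg1]; exact hPf)
    have hinvL : (-(g.coeff 0)⁻¹) • P g.divX * a = e := by
      have h2 : g = g.divX * X + C (g.coeff 0) := (divX_mul_X_add g).symm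
      have h3 : P g.divX * a + (g.coeff 0) • e = 0 := by
        have h4 : P (C (g.coeff 0)) = (g.coeff 0) • e := by
          rw [hP, aeval_C, Algebra.algebraMap_eq_smul_one, smul_mul_assoc, one_mul]
        rw [← h4]
        nth_rewrite 1 [← hPX]
        rw [hPmul, ← hPadd, ← h2, hPg]
      rw [smul_mul_assoc, eq_neg_of_add_eq_zero_left h3, neg_smul, smul_neg, neg_neg, smul_smul,
          inv_mul_cancel₀ hg0, one_smul]
    have hbeq : b = (-(g.coeff 0)⁻¹) • P g.divX := by
      calc b = e * b := heb.symm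
        _ = (-(g.coeff 0)⁻¹) • P g.divX * a * b := by rw [hinvL]
        _ = (-(g.coeff 0)⁻¹) • P g.divX * (a * b) := by rw [mul_assoc]
        _ = (-(g.coeff 0)⁻¹) • P g.divX := by rw [hab, smul_mul_assoc, hPe]
    refine ⟨b, ?_, heb, hbe, hab, hba⟩
    intro x
    refine ⟨?_, hbR x⟩
    have hPdiv : P g.divX ∈ Cf L.toSubring G := by
      rw [hP]
      refine mul_mem (Cf_aeval (Cf_mono RL_le' ha) ?_) (Cf_mono RL_le' he)
      intro i
      rw [coeff_divX]
      exact hgL _
    rw [hbeq, BrP.smul_coeff]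
    exact L.mul_mem (L.neg_mem (L.inv_mem (hgL 0))) (hPdiv x)
  · right; right
    exact ⟨E, hEL, hEE, by rw [hE]; exact heP _, by rw [hE]; exact hPe _, hE0, hE1⟩

end CfsgLib.Ur
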