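import Mathlib
import Cfsg.Agent.EqBase
import Cfsg.Agent.LibUr6
import Cfsg.Agent.LibGalChar

/-!
# The maximal unramified subfield of `ℂ`, VII: values of characters on group algebra elements,
local corner rings (helper17)
-/

set_option autoImplicit false
set_option linter.unusedSectionVars false
set_option linter.style.haveILetI false
set_option linter.unusedSimpArgs false

namespace CfsgLib.Ur

open Cfsg CfsgLib.LocR

universe u
variable {M : Ideal AlgInt} {p : ℕ} {G : Type u} [Group G] [Fintype G]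

/-- linear extension of a function on the group -/
noncomputable def ev (χ : G → ℂ) (a : MonoidAlgebra ℂ G) : ℂ := ∑ g : G, a.coeff g * χ g

theorem ev_add (χ : G → ℂ) (a b : MonoidAlgebra ℂ G) : ev χ (a + b) = ev χ a + ev χ b := by
  unfold ev
  rw [← Finset.sum_add_distrib]
  refine Finset.sum_congr rfl fun g _ => ?_
  rw [BrP.add_coeff, add_mul]

theorem ev_sub (χ : G → ℂ) (a b : MonoidAlgebra ℂ G) : ev χ (a - b) = ev χ a - ev χ b := by
  unfold ev
  rw [← Finset.sum_sub_distrib]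
  refine Finset.sum_congr rfl fun g _ => ?_
  rw [BrP.sub_coeff, sub_mul]

theorem ev_smul (χ : G → ℂ) (c : ℂ) (a : MonoidAlgebra ℂ G) : ev χ (c • a) = c * ev χ a := by
  unfold ev
  rw [Finset.mul_sum]
  refine Finset.sum_congr rfl fun g _ => ?_
  rw [BrP.smul_coeff, mul_assoc]

theorem ev_zero (χ : G → ℂ) : ev χ 0 = 0 := by
  unfold ev
  refine Finset.sum_eq_zero fun g _ => ?_
  rw [BrP.zero_coeff, zero_mul]

theorem ev_sum (χ : G → ℂ) {ι : Type*} (s : Finset ι) (f : ι → MonoidAlgebra ℂ G) :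
    ev χ (∑ i ∈ s, f i) = ∑ i ∈ s, ev χ (f i) := by
  classical
  induction s using Finset.induction with
  | empty => rw [Finset.sum_empty, Finset.sum_empty, ev_zero]
  | insert a s ha ih => rw [Finset.sum_insert ha, Finset.sum_insert ha, ev_add, ih]

theorem ev_single (χ : G → ℂ) (x : G) (c : ℂ) : ev χ (MonoidAlgebra.single x c) = c * χ x := by
  classical
  unfold ev
  rw [Finset.sum_eq_single x]
  · rw [MonoidAlgebra.coeff_single, Finsupp.single_eq_same]
  · intro y _ hy
    rw [MonoidAlgebra.coeff_single, Finsupp.single_apply, if_neg hy.symm, zero_mul]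
  · intro h; exact absurd (Finset.mem_univ x) h

theorem ev_eq_trace {V : Type*} [AddCommGroup V] [Module ℂ V] [FiniteDimensional ℂ V]
    (ρ : Representation ℂ G V) (a : MonoidAlgebra ℂ G) :
    ev ρ.character a = LinearMap.trace ℂ V (ρ.asAlgebraHom a) := by
  conv_rhs => rw [eq_sum_single a]
  rw [map_sum, map_sum]
  unfold ev
  refine Finset.sum_congr rfl fun g _ => ?_
  rw [map_smul, map_smul, Representation.asAlgebraHom_single_one, smul_eq_mul]
  rfl

theorem ev_mul_comm {χ : G → ℂ} (hχ : IsCharacter G χ) (a b : MonoidAlgebra ℂ G) :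
    ev χ (a * b) = ev χ (b * a) := by
  obtain ⟨n, ρ, rfl⟩ := hχ
  rw [ev_eq_trace, ev_eq_trace, map_mul ρ.asAlgebraHom, map_mul ρ.asAlgebraHom,
    LinearMap.trace_mul_comm]

/-- eigenvalues of integral elements are integral -/
theorem memR_eig [M.IsPrime] {V : Type*} [AddCommGroup V] [Module ℂ V] [FiniteDimensional ℂ V]
    (ρ : Representation ℂ G V) {a : MonoidAlgebra ℂ G} (ha : a ∈ Cf (LocR.subring M) G) {α : ℂ}
    {v : V} (hv : v ≠ 0) (h : ρ.asAlgebraHom a v = α • v) : MemLocalRing M α := by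
  obtain ⟨f, hf, hfc, hfa⟩ := exists_poly ha
  apply memR_of_root hf hfc
  have h1 : (Polynomial.aeval (ρ.asAlgebraHom a) f) v = (f.eval α) • v := by
    have h2 : ∀ n : ℕ, ((ρ.asAlgebraHom a) ^ n) v = α ^ n • v := by
      intro n
      induction n with
      | zero => simp
      | succ n ih => rw [pow_succ, Module.End.mul_apply, h, map_smul, ih, smul_smul, pow_succ']
    rw [Polynomial.aeval_eq_sum_range, Polynomial.eval_eq_sum_range, LinearMap.sum_apply,
      Finset.sum_smul]
    refine Finset.sum_congr rfl fun i _ => ?_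
    rw [LinearMap.smul_apply, h2, smul_smul]
  have h2 : Polynomial.aeval (ρ.asAlgebraHom a) f = 0 := by
    rw [Polynomial.aeval_algHom_apply, hfa, map_zero]
  rw [h2, LinearMap.zero_apply] at h1
  exact (smul_eq_zero.mp h1.symm).resolve_right hv

theorem memR_ev [M.IsPrime] {χ : G → ℂ} (hχ : IsCharacter G χ) {a : MonoidAlgebra ℂ G}
    (ha : a ∈ Cf (LocR.subring M) G) : MemLocalRing M (ev χ a) := by
  obtain ⟨n, ρ, rfl⟩ := hχ
  rw [ev_eq_trace, Module.End.trace_eq_sum_roots_charpoly_of_splits (IsAlgClosed.splits _)]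
  have h1 : ∀ s : Multiset ℂ, (∀ x ∈ s, MemLocalRing M x) → MemLocalRing M s.sum := by
    intro s
    induction s using Multiset.induction with
    | empty => intro _; rw [Multiset.sum_zero]; exact memR_zero
    | cons b s ih =>
      intro h
      rw [Multiset.sum_cons]
      exact memR_add (h b (Multiset.mem_cons_self b s)) (ih fun x hx => h x (Multiset.mem_cons_of_mem hx))
  apply h1
  intro x hx
  have h2 := (Module.End.hasEigenvalue_iff_isRoot_charpoly _ _).mpr (Polynomial.isRoot_of_mem_roots hx)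
  obtain ⟨v, hv⟩ := h2.exists_hasEigenvector
  exact memR_eig ρ ha hv.2 hv.apply_eq_smul

/-- characters are `0` modulo `M` on topologically nilpotent elements -/
theorem memI_ev_of_nilp (hM : IsPModular p M) [M.IsPrime] {L : Subfield ℂ} (hLU : IsUr M p L)
    {χ : G → ℂ} (hχ : IsCharacter G χ) {z : MonoidAlgebra ℂ G}
    (hz : z ∈ Cf (RL M L) G) {k : ℕ} (hk : MI M (z ^ (k + 1))) : MemLocalIdeal M (ev χ z) := by
  have hp0 : (p : ℂ) ≠ 0 := by exact_mod_cast hM.1.ne_zero
  obtain ⟨b, hb, hbz⟩ := exists_div hM hLU (Cf_mono RL_le' (pow_mem hz (k + 1))) hk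
  obtain ⟨n, ρ, rfl⟩ := hχ
  rw [ev_eq_trace, Module.End.trace_eq_sum_roots_charpoly_of_splits (IsAlgClosed.splits _)]
  have h1 : ∀ s : Multiset ℂ, (∀ x ∈ s, MemLocalIdeal M x) → MemLocalIdeal M s.sum := by
    intro s
    induction s using Multiset.induction with
    | empty => intro _; rw [Multiset.sum_zero]; exact memI_zero
    | cons b s ih =>
      intro h
      rw [Multiset.sum_cons]
      exact memI_add (h b (Multiset.mem_cons_self b s)) (ih fun x hx => h x (Multiset.mem_cons_of_mem hx))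
  apply h1
  intro x hx
  have h2 := (Module.End.hasEigenvalue_iff_isRoot_charpoly _ _).mpr (Polynomial.isRoot_of_mem_roots hx)
  obtain ⟨v, hv⟩ := h2.exists_hasEigenvector
  have hxR := memR_eig ρ (Cf_mono RL_le hz) hv.2 hv.apply_eq_smul
  apply memI_of_pow hxR (n := k + 1)
  have h3 : (ρ.asAlgebraHom (z ^ (k + 1))) v = x ^ (k + 1) • v := by
    have h4 : ∀ n : ℕ, ((ρ.asAlgebraHom z) ^ n) v = x ^ n • v := by
      intro n
      induction n with
      | zero => simp
      | succ n ih => rw [pow_succ, Module.End.mul_apply, hv.apply_eq_smul, map_smul, ih, smul_smul, pow_succ']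
    rw [map_pow, h4]
  rw [hbz, map_smul, LinearMap.smul_apply] at h3
  have h4 : ρ.asAlgebraHom b v = (x ^ (k + 1) / p) • v := by
    rw [div_eq_inv_mul, mul_smul, ← h3, smul_smul, inv_mul_cancel₀ hp0, one_smul]
  have h5 := memR_eig ρ (Cf_mono RL_le hb) hv.2 h4
  have h6 := memI_mul_right (memI_p hM) h5
  rwa [mul_div_cancel₀ _ hp0] at h6

/-- the trace of an idempotent is a natural number -/
theorem ev_idem {χ : G → ℂ} (hχ : IsCharacter G χ) {e : MonoidAlgebra ℂ G} (he : e * e = e) :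
    ∃ m : ℕ, ev χ e = m := by
  obtain ⟨n, ρ, rfl⟩ := hχ
  rw [ev_eq_trace]
  have h1 : IsIdempotentElem (ρ.asAlgebraHom e) := by
    rw [IsIdempotentElem, ← map_mul, he]
  exact ⟨_, (LinearMap.IsIdempotentElem.isProj_range _ h1).trace⟩

/-- primitive idempotents -/
structure Prim (M : Ideal AlgInt) [M.IsPrime] (L : Subfield ℂ) (e : MonoidAlgebra ℂ G) : Prop where
  mem : e ∈ Cf (RL M L) G
  idem : e * e = e
  ne : e ≠ 0
  prim : ∀ f ∈ Cf (RL M L) G, f * f = f → e * f = f → f * e = f → f = 0 ∨ f = e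

/-- elements of the corner -/
structure InE (M : Ideal AlgInt) [M.IsPrime] (L : Subfield ℂ) (e a : MonoidAlgebra ℂ G) : Prop where
  mem : a ∈ Cf (RL M L) G
  left : e * a = a
  right : a * e = a

/-- elements of the radical -/
structure InJ (M : Ideal AlgInt) [M.IsPrime] (L : Subfield ℂ) (e a : MonoidAlgebra ℂ G) : Prop where
  inE : InE M L e a
  nilp : ∃ k : ℕ, MI M (a ^ (k + 1))

section Local
variable [M.IsPrime] {L : Subfield ℂ} {e : MonoidAlgebra ℂ G}

theorem InE.add {a b : MonoidAlgebra ℂ G} (ha : InE M L e a) (hb : InE M L e b) : InE M L e (a + b) :=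
  ⟨add_mem ha.mem hb.mem, by rw [mul_add, ha.left, hb.left], by rw [add_mul, ha.right, hb.right]⟩

theorem InE.sub {a b : MonoidAlgebra ℂ G} (ha : InE M L e a) (hb : InE M L e b) : InE M L e (a - b) :=
  ⟨sub_mem ha.mem hb.mem, by rw [mul_sub, ha.left, hb.left], by rw [sub_mul, ha.right, hb.right]⟩

theorem InE.mul {a b : MonoidAlgebra ℂ G} (ha : InE M L e a) (hb : InE M L e b) : InE M L e (a * b) :=
  ⟨mul_mem ha.mem hb.mem, by rw [← mul_assoc, ha.left], by rw [mul_assoc, hb.right]⟩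

theorem InE.smul {c : ℂ} (hc : c ∈ RL M L) {a : MonoidAlgebra ℂ G} (ha : InE M L e a) :
    InE M L e (c • a) :=
  ⟨Cf_smul hc ha.mem, by rw [mul_smul_comm, ha.left], by rw [smul_mul_assoc, ha.right]⟩

theorem InE.pow {a : MonoidAlgebra ℂ G} (ha : InE M L e a) (n : ℕ) : InE M L e (a ^ (n + 1)) := by
  induction n with
  | zero => rw [zero_add, pow_one]; exact ha
  | succ n ih => rw [pow_succ]; exact ih.mul ha

theorem Prim.inE (h : Prim M L e) : InE M L e e := ⟨h.mem, h.idem, h.idem⟩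

theorem Prim.corner (h : Prim M L e) {a : MonoidAlgebra ℂ G} (ha : a ∈ Cf (RL M L) G) :
    InE M L e (e * a * e) :=
  ⟨mul_mem (mul_mem h.mem ha) h.mem, by rw [← mul_assoc, ← mul_assoc, h.idem],
    by rw [mul_assoc, h.idem]⟩

theorem not_MI_idem (hM : IsPModular p M) (hLU : IsUr M p L) {f : MonoidAlgebra ℂ G}
    (hf : f ∈ Cf (RL M L) G) (hff : f * f = f) (h0 : f ≠ 0) : ¬ MI M f := by
  intro h
  apply h0
  have hp0 : (p : ℂ) ≠ 0 := by exact_mod_cast hM.1.ne_zero
  obtain ⟨b, hb, hbf⟩ := exists_div hM hLU (Cf_mono RL_le' hf) h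
  have h1 : ∀ n : ℕ, f = (p : ℂ) ^ (n + 1) • b ^ (n + 1) := by
    intro n
    induction n with
    | zero => rw [zero_add, pow_one, pow_one]; exact hbf
    | succ n ih =>
      calc f = f * f := hff.symm
        _ = ((p : ℂ) ^ (n + 1) • b ^ (n + 1)) * ((p : ℂ) • b) := by rw [← hbf, ← ih]
        _ = (p : ℂ) ^ (n + 1 + 1) • b ^ (n + 1 + 1) := by
          rw [smul_mul_smul_comm, ← pow_succ, ← pow_succ]
  apply BrP.ext'
  intro g
  rw [BrP.zero_coeff]
  apply eq_zero_of_forall_memR_div hM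
  intro k
  have h2 : f.coeff g / (p : ℂ) ^ k = (p : ℂ) * (b ^ (k + 1)).coeff g := by
    conv_lhs => rw [h1 k, BrP.smul_coeff]
    rw [pow_succ]; field_simp
  rw [h2]
  exact memR_mul (memR_natCast p) ((pow_mem hb (k + 1)) g).2

theorem Prim.dich (hM : IsPModular p M) (hL : Maximal (IsUr M p) L) (h : Prim M L e)
    {a : MonoidAlgebra ℂ G} (ha : InE M L e a) :
    InJ M L e a ∨ ∃ b, InE M L e b ∧ a * b = e ∧ b * a = e := by
  rcases trich hM hL h.mem h.idem ha.mem ha.left ha.right with h1 | ⟨b, hb, h1, h2, h3, h4⟩ |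
    ⟨f, hf, h1, h2, h3, h4, h5⟩
  · exact Or.inl ⟨ha, h1⟩
  · exact Or.inr ⟨b, ⟨hb, h1, h2⟩, h3, h4⟩
  · rcases h.prim f hf h1 h2 h3 with h6 | h6
    · exact absurd h6 h4
    · exact absurd h6 h5

theorem Prim.not_right_inv (hM : IsPModular p M) (hL : Maximal (IsUr M p) L) (h : Prim M L e)
    {a d : MonoidAlgebra ℂ G} (ha : InJ M L e a) (hd : InE M L e d) : a * d ≠ e := by
  intro had
  obtain ⟨k, hk⟩ := ha.nilp
  have h1 : ∀ n : ℕ, a ^ (n + 1) * d ^ (n + 1) = e := by
    intro n
    induction n with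
    | zero => rw [zero_add, pow_one, pow_one, had]
    | succ n ih =>
      calc a ^ (n + 1 + 1) * d ^ (n + 1 + 1) = a ^ (n + 1) * (a * d) * d ^ (n + 1) := by
            rw [pow_succ a (n + 1), pow_succ' d (n + 1)]; simp only [mul_assoc]
        _ = a ^ (n + 1) * d ^ (n + 1) := by rw [had, (ha.inE.pow n).right]
        _ = e := ih
  apply not_MI_idem hM hL.prop h.mem h.idem h.ne
  rw [← h1 k]
  exact MI_mul_right hk (pow_mem (Cf_mono RL_le hd.mem) _)

theorem Prim.not_left_inv (hM : IsPModular p M) (hL : Maximal (IsUr M p) L) (h : Prim M L e)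
    {a d : MonoidAlgebra ℂ G} (ha : InJ M L e a) (hd : InE M L e d) : d * a ≠ e := by
  intro had
  obtain ⟨k, hk⟩ := ha.nilp
  have h1 : ∀ n : ℕ, d ^ (n + 1) * a ^ (n + 1) = e := by
    intro n
    induction n with
    | zero => rw [zero_add, pow_one, pow_one, had]
    | succ n ih =>
      calc d ^ (n + 1 + 1) * a ^ (n + 1 + 1) = d ^ (n + 1) * (d * a) * a ^ (n + 1) := by
            rw [pow_succ d (n + 1), pow_succ' a (n + 1)]; simp only [mul_assoc]
        _ = d ^ (n + 1) * a ^ (n + 1) := by rw [had, (hd.pow n).right]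
        _ = e := ih
  apply not_MI_idem hM hL.prop h.mem h.idem h.ne
  rw [← h1 k]
  exact MI_mul_left (pow_mem (Cf_mono RL_le hd.mem) _) hk

theorem Prim.J_mul_right (hM : IsPModular p M) (hL : Maximal (IsUr M p) L) (h : Prim M L e)
    {a b : MonoidAlgebra ℂ G} (ha : InJ M L e a) (hb : InE M L e b) : InJ M L e (a * b) := by
  rcases h.dich hM hL (ha.inE.mul hb) with h1 | ⟨c, hc, h1, h2⟩
  · exact h1
  · exact absurd (by rw [← mul_assoc]; exact h1) (h.not_right_inv hM hL ha (hb.mul hc))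

theorem Prim.J_mul_left (hM : IsPModular p M) (hL : Maximal (IsUr M p) L) (h : Prim M L e)
    {a b : MonoidAlgebra ℂ G} (ha : InJ M L e a) (hb : InE M L e b) : InJ M L e (b * a) := by
  rcases h.dich hM hL (hb.mul ha.inE) with h1 | ⟨c, hc, h1, h2⟩
  · exact h1
  · exact absurd (by rw [mul_assoc]; exact h2) (h.not_left_inv hM hL ha (hc.mul hb))

/-- `e - y` is a unit for `y` in the radical -/
theorem Prim.not_J_sub (hM : IsPModular p M) (hL : Maximal (IsUr M p) L) (h : Prim M L e)
    {y : MonoidAlgebra ℂ G} (hy : InJ M L e y) : ¬ InJ M L e (e - y) := by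
  intro h1
  obtain ⟨k, hk⟩ := hy.nilp
  obtain ⟨l, hl⟩ := h1.nilp
  have hcomm : Commute y (e - y) := by
    rw [Commute, SemiconjBy, mul_sub, sub_mul, hy.inE.left, hy.inE.right]
  have h2 : e ^ (k + 1 + (l + 1)) = ∑ m ∈ Finset.range (k + 1 + (l + 1) + 1),
      y ^ m * (e - y) ^ (k + 1 + (l + 1) - m) * ((k + 1 + (l + 1)).choose m : MonoidAlgebra ℂ G) := by
    rw [← hcomm.add_pow, add_sub_cancel]
  have h3 : e ^ (k + 1 + (l + 1)) = e := by
    have : ∀ n : ℕ, e ^ (n + 1) = e := by
      intro n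
      induction n with
      | zero => rw [zero_add, pow_one]
      | succ n ih => rw [pow_succ, ih, h.idem]
    exact this _
  apply not_MI_idem hM hL.prop h.mem h.idem h.ne
  rw [h3] at h2
  rw [h2]
  refine MI_sum _ _ fun m hm => ?_
  have hyR := Cf_mono (RL_le (M := M)) hy.inE.mem
  have hzR := Cf_mono (RL_le (M := M)) h1.inE.mem
  apply MI_mul_right
  · rcases le_or_gt (k + 1) m with h4 | h4
    · obtain ⟨d, rfl⟩ := Nat.exists_eq_add_of_le h4
      rw [pow_add]
      exact MI_mul_right (MI_mul_right hk (pow_mem hyR _)) (pow_mem hzR _)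
    · have h5 : k + 1 + (l + 1) - m = (l + 1) + (k + 1 - m) := by omega
      rw [h5, pow_add]
      exact MI_mul_left (pow_mem hyR _) (MI_mul_right hl (pow_mem hzR _))
  · exact natCast_mem _ _

theorem Prim.J_add (hM : IsPModular p M) (hL : Maximal (IsUr M p) L) (h : Prim M L e)
    {a b : MonoidAlgebra ℂ G} (ha : InJ M L e a) (hb : InJ M L e b) : InJ M L e (a + b) := by
  rcases h.dich hM hL (ha.inE.add hb.inE) with h1 | ⟨c, hc, h1, h2⟩
  · exact h1
  · exfalso
    have h3 : a * c = e - b * c := by rw [← h1, add_mul]; abel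
    apply h.not_J_sub hM hL (h.J_mul_right hM hL hb hc)
    rw [← h3]
    exact h.J_mul_right hM hL ha hc

theorem Prim.J_smul (hM : IsPModular p M) (hL : Maximal (IsUr M p) L) (h : Prim M L e)
    {a : MonoidAlgebra ℂ G} (ha : InJ M L e a) {c : ℂ} (hc : c ∈ RL M L) : InJ M L e (c • a) := by
  have h1 := h.J_mul_left hM hL ha (h.inE.smul hc)
  rwa [smul_mul_assoc, ha.inE.left] at h1

theorem Prim.J_neg (hM : IsPModular p M) (hL : Maximal (IsUr M p) L) (h : Prim M L e)
    {a : MonoidAlgebra ℂ G} (ha : InJ M L e a) : InJ M L e (-a) := by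
  have := h.J_smul hM hL ha (c := -1) (neg_mem (one_mem _))
  rwa [neg_one_smul] at this

theorem Prim.J_sub (hM : IsPModular p M) (hL : Maximal (IsUr M p) L) (h : Prim M L e)
    {a b : MonoidAlgebra ℂ G} (ha : InJ M L e a) (hb : InJ M L e b) : InJ M L e (a - b) := by
  rw [sub_eq_add_neg]
  exact h.J_add hM hL ha (h.J_neg hM hL hb)

theorem Prim.p_mem (hM : IsPModular p M) (h : Prim M L e) {a : MonoidAlgebra ℂ G}
    (ha : InE M L e a) (hI : MI M a) : InJ M L e a :=
  ⟨ha, 0, by rw [zero_add, pow_one]; exact hI⟩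

end Local

end CfsgLib.Ur
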