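import Mathlib
import Cfsg.Agent.EqBase
import Cfsg.Agent.LibUr7

/-!
# The maximal unramified subfield of `ℂ`, VIII: residues of local corner rings (helper17)
-/

set_option autoImplicit false
set_option linter.unusedSectionVars false
set_option linter.style.haveILetI false
set_option linter.unusedSimpArgs false

namespace CfsgLib.Ur

open Cfsg CfsgLib.LocR CfsgLib.CharBasic

universe u
variable {M : Ideal AlgInt} {p : ℕ} {G : Type u} [Group G] [Fintype G]

/-- the regular representation on functions -/
def reg (G : Type u) [Group G] : Representation ℂ G (G → ℂ) where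
  toFun g :=
    { toFun := fun f x => f (g⁻¹ * x)
      map_add' := fun _ _ => rfl
      map_smul' := fun _ _ => rfl }
  map_one' := by ext f x; simp
  map_mul' g h := by
    apply LinearMap.ext
    intro f
    funext x
    change f ((g * h)⁻¹ * x) = f (h⁻¹ * (g⁻¹ * x))
    rw [mul_inv_rev, mul_assoc]

theorem reg_apply (g : G) (f : G → ℂ) (x : G) : reg G g f x = f (g⁻¹ * x) := rfl

theorem reg_char [DecidableEq G] (g : G) : (reg G).character g = if g = 1 then (Nat.card G : ℂ) else 0 := by
  have h1 : (reg G).character g = LinearMap.trace ℂ (G → ℂ) (reg G g) := rfl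
  rw [h1, LinearMap.trace_eq_matrix_trace ℂ (Pi.basisFun ℂ G), Matrix.trace]
  have h2 : ∀ x : G, (LinearMap.toMatrix (Pi.basisFun ℂ G) (Pi.basisFun ℂ G) (reg G g)).diag x =
      if g = 1 then 1 else 0 := by
    intro x
    rw [Matrix.diag_apply, LinearMap.toMatrix_apply, Pi.basisFun_repr, Pi.basisFun_apply, reg_apply,
      Pi.single_apply]
    have h3 : (g⁻¹ * x = x) ↔ g = 1 := by
      rw [mul_eq_right, inv_eq_one]
    simp only [h3]
  rw [Finset.sum_congr rfl fun x _ => h2 x, Finset.sum_const, nsmul_eq_mul, Finset.card_univ,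
    ← Nat.card_eq_fintype_card]
  split_ifs <;> simp

theorem reg_asAlg (a : MonoidAlgebra ℂ G) (f : G → ℂ) (x : G) :
    (reg G).asAlgebraHom a f x = ∑ g : G, a.coeff g * f (g⁻¹ * x) := by
  conv_lhs => rw [eq_sum_single a]
  rw [map_sum, LinearMap.sum_apply, Finset.sum_apply]
  refine Finset.sum_congr rfl fun g _ => ?_
  rw [map_smul, Representation.asAlgebraHom_single_one]
  rfl

/-- the coefficient at the identity -/
theorem sum_ev (a : MonoidAlgebra ℂ G) :
    ∑ χ : IrrCharacter G, (χ : G → ℂ) 1 * ev (χ : G → ℂ) a = Nat.card G * a.coeff 1 := by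
  classical
  unfold ev
  simp only [Finset.mul_sum]
  rw [Finset.sum_comm]
  have h1 : ∀ g : G, ∑ χ : IrrCharacter G, (χ : G → ℂ) 1 * (a.coeff g * (χ : G → ℂ) g) =
      if g = 1 then Nat.card G * a.coeff 1 else 0 := by
    intro g
    have h2 : ∑ χ : IrrCharacter G, (χ : G → ℂ) 1 * (a.coeff g * (χ : G → ℂ) g) =
        a.coeff g * ∑ χ : IrrCharacter G, (χ : G → ℂ) 1 * (χ : G → ℂ) g := by
      rw [Finset.mul_sum]
      exact Finset.sum_congr rfl fun χ _ => by ring
    rw [h2]
    split_ifs with hg
    · subst hg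
      have h3 : ∑ χ : IrrCharacter G, (χ : G → ℂ) 1 * (χ : G → ℂ) 1 = Nat.card G := by
        have h4 := column_orthogonality (1 : G) 1
        rw [if_pos (IsConj.refl _)] at h4
        have h5 : Nat.card (Subgroup.centralizer ({(1 : G)} : Set G)) = Nat.card G := by
          have : Subgroup.centralizer ({(1 : G)} : Set G) = ⊤ := by
            rw [eq_top_iff]
            intro x _
            rw [Subgroup.mem_centralizer_singleton_iff]; simp
          rw [this]; exact Subgroup.card_top
        rw [h5] at h4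
        rw [← h4]
        refine Finset.sum_congr rfl fun χ _ => ?_
        obtain ⟨n, -, hn⟩ := irr_one_nat χ.2
        rw [hn, Complex.conj_natCast]
      rw [h3, mul_comm]
    · rw [sum_degree_mul g hg, mul_zero]
  rw [Finset.sum_congr rfl fun g _ => h1 g, Finset.sum_ite_eq' Finset.univ (1 : G), if_pos (Finset.mem_univ _)]

theorem exists_ev_ne {e : MonoidAlgebra ℂ G} (he : e * e = e) (h0 : e ≠ 0) :
    ∃ χ : IrrCharacter G, ev (χ : G → ℂ) e ≠ 0 := by
  classical
  by_contra hcon
  push Not at hcon
  apply h0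
  have h1 := sum_ev e
  rw [Finset.sum_eq_zero (fun χ _ => by rw [hcon χ, mul_zero])] at h1
  have h2 : LinearMap.trace ℂ (G → ℂ) ((reg G).asAlgebraHom e) = 0 := by
    rw [← ev_eq_trace]
    unfold ev
    rw [Finset.sum_eq_single 1]
    · rw [reg_char, if_pos rfl, mul_comm, ← h1]
    · intro g _ hg
      rw [reg_char, if_neg hg, mul_zero]
    · intro h; exact absurd (Finset.mem_univ _) h
  have h3 : IsIdempotentElem ((reg G).asAlgebraHom e) := by
    rw [IsIdempotentElem, ← map_mul, he]
  have h4 := (LinearMap.IsIdempotentElem.trace_eq_zero_iff h3).mp h2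
  apply BrP.ext'
  intro x
  have h5 := congrArg (fun T : Module.End ℂ (G → ℂ) => T (Pi.single 1 1) x) h4
  simp only [LinearMap.zero_apply] at h5
  rw [reg_asAlg, Finset.sum_eq_single x] at h5
  · rw [inv_mul_cancel, Pi.single_eq_same, mul_one] at h5
    exact h5
  · intro g _ hg
    rw [Pi.single_apply, if_neg, mul_zero]
    intro h
    exact hg (inv_mul_eq_one.mp h)
  · intro h; exact absurd (Finset.mem_univ _) h

section Res
variable [M.IsPrime] {L : Subfield ℂ} {e : MonoidAlgebra ℂ G}

theorem Prim.exists_res (hM : IsPModular p M) (hL : Maximal (IsUr M p) L) (h : Prim M L e)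
    {a : MonoidAlgebra ℂ G} (ha : InE M L e a) : ∃ r ∈ RL M L, InJ M L e (a - r • e) := by
  obtain ⟨χ, hχ⟩ := exists_ev_ne h.idem h.ne
  obtain ⟨n, ρ, hirr, hρ⟩ := χ.2
  rw [← hρ, ev_eq_trace] at hχ
  have hne : ρ.asAlgebraHom e ≠ 0 := by
    intro h1
    rw [h1, map_zero] at hχ
    exact hχ rfl
  set T := ρ.asAlgebraHom a with hT
  set W := LinearMap.range (ρ.asAlgebraHom e) with hW
  have hWT : ∀ v ∈ W, T v ∈ W := by
    rintro _ ⟨v, rfl⟩
    refine ⟨T (ρ.asAlgebraHom e v), ?_⟩
    rw [← Module.End.mul_apply, hT, ← map_mul, ha.left]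
  have hWne : Nontrivial W := by
    rw [Submodule.nontrivial_iff_ne_bot]
    intro h1
    exact hne (LinearMap.range_eq_bot.mp h1)
  obtain ⟨α, hα⟩ := Module.End.exists_eigenvalue (T.restrict hWT)
  obtain ⟨w, hw⟩ := hα.exists_hasEigenvector
  have hw1 : T (w : Fin n → ℂ) = α • (w : Fin n → ℂ) := by
    have := congrArg Subtype.val hw.apply_eq_smul
    exact this
  have hw0 : (w : Fin n → ℂ) ≠ 0 := fun h1 => hw.2 (Subtype.ext h1)
  have hwe : ρ.asAlgebraHom e (w : Fin n → ℂ) = w := by
    obtain ⟨v, hv⟩ := w.2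
    rw [← hv, ← Module.End.mul_apply, ← map_mul, h.idem]
  have hαR := memR_eig ρ (Cf_mono RL_le ha.mem) hw0 hw1
  obtain ⟨r, hr, hrI⟩ := Ur.exists_res hM hL hαR
  refine ⟨r, hr, ?_⟩
  rcases h.dich hM hL (ha.sub (h.inE.smul hr)) with h1 | ⟨b, hb, h1, h2⟩
  · exact h1
  · exfalso
    have h3 : ρ.asAlgebraHom (a - r • e) (w : Fin n → ℂ) = (α - r) • (w : Fin n → ℂ) := by
      rw [map_sub, LinearMap.sub_apply, map_smul, LinearMap.smul_apply, hwe, sub_smul]
      rw [hw1]
    have h4 : (α - r) • ρ.asAlgebraHom b (w : Fin n → ℂ) = w := by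
      rw [← map_smul, ← h3, ← Module.End.mul_apply, ← map_mul, h2, hwe]
    have h5 : α - r ≠ 0 := by
      intro h6
      rw [h6, zero_smul] at h4
      exact hw0 h4.symm
    have h6 : ρ.asAlgebraHom b (w : Fin n → ℂ) = (α - r)⁻¹ • (w : Fin n → ℂ) := by
      conv_rhs => rw [← h4]
      rw [smul_smul, inv_mul_cancel₀ h5, one_smul]
    have h7 := memR_eig ρ (Cf_mono RL_le hb.mem) hw0 h6
    have h8 := memI_mul_right hrI h7
    rw [mul_inv_cancel₀ h5] at h8
    exact not_memI_one h8

/-- values of characters in terms of the residue -/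
theorem Prim.ev_congr (hM : IsPModular p M) (hL : Maximal (IsUr M p) L) (h : Prim M L e)
    {a : MonoidAlgebra ℂ G} {r : ℂ} (hJ : InJ M L e (a - r • e)) {χ : G → ℂ}
    (hχ : IsCharacter G χ) : MemLocalIdeal M (ev χ a - r * ev χ e) := by
  obtain ⟨k, hk⟩ := hJ.nilp
  have h1 := memI_ev_of_nilp hM hL.prop hχ hJ.inE.mem hk
  rwa [ev_sub, ev_smul] at h1

end Res

/-- induction principle: every idempotent is a sum of primitive ones -/
theorem idem_induction (hM : IsPModular p M) [M.IsPrime] {L : Subfield ℂ} (hLU : IsUr M p L)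
    {Q : MonoidAlgebra ℂ G → Prop} (h0 : Q 0) (hadd : ∀ a b, Q a → Q b → Q (a + b))
    (hprim : ∀ e, Prim M L e → Q e) {e : MonoidAlgebra ℂ G} (he : e ∈ Cf (RL M L) G)
    (hee : e * e = e) : Q e := by
  classical
  -- the rank
  have hreg : IsCharacter G ((reg G).character) := by
    have := isCharacter_character (reg G)
    exact this
  have key : ∀ (n : ℕ) (e : MonoidAlgebra ℂ G), e ∈ Cf (RL M L) G → e * e = e →
      ev (reg G).character e = n → Q e := by
    intro n
    induction n using Nat.strong_induction_on with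
    | _ n ih =>
      intro e he hee hn
      by_cases hz : e = 0
      · rw [hz]; exact h0
      by_cases hp : ∀ f ∈ Cf (RL M L) G, f * f = f → e * f = f → f * e = f → f = 0 ∨ f = e
      · exact hprim e ⟨he, hee, hz, hp⟩
      push Not at hp
      obtain ⟨f, hf, hff, hef, hfe, hf0, hfe'⟩ := hp
      have hg : (e - f) * (e - f) = e - f := by
        rw [mul_sub, sub_mul, sub_mul, hee, hef, hfe, hff, sub_self, sub_zero]
      obtain ⟨a, ha⟩ := ev_idem hreg hff
      obtain ⟨b, hb⟩ := ev_idem hreg hg
      have hpos : ∀ f : MonoidAlgebra ℂ G, f * f = f → f ≠ 0 → ev (reg G).character f ≠ 0 := by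
        intro f hff hf0 h1
        apply hf0
        rw [ev_eq_trace] at h1
        have h3 : IsIdempotentElem ((reg G).asAlgebraHom f) := by
          rw [IsIdempotentElem, ← map_mul, hff]
        have h4 := (LinearMap.IsIdempotentElem.trace_eq_zero_iff h3).mp h1
        apply BrP.ext'
        intro x
        have h5 := congrArg (fun T : Module.End ℂ (G → ℂ) => T (Pi.single 1 1) x) h4
        simp only [LinearMap.zero_apply] at h5
        rw [reg_asAlg, Finset.sum_eq_single x] at h5
        · rw [inv_mul_cancel, Pi.single_eq_same, mul_one] at h5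
          exact h5
        · intro g _ hg
          rw [Pi.single_apply, if_neg, mul_zero]
          intro h
          exact hg (inv_mul_eq_one.mp h)
        · intro h; exact absurd (Finset.mem_univ _) h
      have ha0 : a ≠ 0 := by
        rintro rfl
        exact hpos f hff hf0 (by rw [ha, Nat.cast_zero])
      have hb0 : b ≠ 0 := by
        rintro rfl
        exact hpos (e - f) hg (sub_ne_zero.mpr (Ne.symm hfe')) (by rw [hb, Nat.cast_zero])
      have hab : a + b = n := by
        have h1 : ev (reg G).character e = ev (reg G).character f + ev (reg G).character (e - f) := by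
          rw [← ev_add]; congr 1; abel
        rw [ha, hb, hn] at h1
        exact_mod_cast h1.symm
      have h1 : e = f + (e - f) := by abel
      rw [h1]
      exact hadd _ _ (ih a (by omega) f hf hff ha) (ih b (by omega) (e - f) (sub_mem he hf) hg hb)
  obtain ⟨n, hn⟩ := ev_idem hreg hee
  exact key n e he hee hn

end CfsgLib.Ur
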