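import Mathlib
import Cfsg.Agent.EqBase
import Cfsg.Agent.LibUr8
import Cfsg.Agent.LibCharIndA
import Cfsg.Agent.LibCharBasic3
import Cfsg.Agent.LibBrP7

/-!
# Characters of projective modules vanish on `p`-singular elements (helper17)
-/

set_option autoImplicit false
set_option linter.unusedSectionVars false
set_option linter.style.haveILetI false
set_option linter.unusedSimpArgs false

namespace CfsgLib.Ur

open Cfsg CfsgLib.LocR CfsgLib.CharBasic CfsgLib.CharIndA
open scoped ComplexConjugate

universe u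
variable {M : Ideal AlgInt} {p : ℕ} {G : Type u} [Group G] [Fintype G]

section Mono
variable (H : Subgroup G) (l : H →* ℂˣ)

/-- the monomial matrices of an induced representation -/
noncomputable def mono (g : G) : Matrix (G ⧸ H) (G ⧸ H) ℂ := fun s t =>
  extendByZero H (fun h => (l h : ℂ)) (s.out⁻¹ * g * t.out)

theorem ext_mul_right (x : G) (h : H) : extendByZero H (fun h => (l h : ℂ)) (x * h) =
    extendByZero H (fun h => (l h : ℂ)) x * (l h : ℂ) := by
  by_cases hx : x ∈ H
  · rw [ext_mem H _ hx, ext_mem H _ (H.mul_mem hx h.2), ← Units.val_mul, ← map_mul]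
    rfl
  · rw [ext_not_mem H _ hx, ext_not_mem H _ (fun h' => hx ?_), zero_mul]
    have := H.mul_mem h' (H.inv_mem h.2)
    rwa [mul_inv_cancel_right] at this

theorem mono_mul [Fintype (G ⧸ H)] (g g' : G) : mono H l (g * g') = mono H l g * mono H l g' := by
  classical
  ext s u
  rw [Matrix.mul_apply]
  have hmem : ((g' * u.out : G) : G ⧸ H).out⁻¹ * (g' * u.out) ∈ H := by
    rw [← QuotientGroup.eq]
    exact QuotientGroup.out_eq' _
  rw [Finset.sum_eq_single ((g' * u.out : G) : G ⧸ H)]
  · unfold mono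
    have h2 : s.out⁻¹ * (g * g') * u.out = (s.out⁻¹ * g * ((g' * u.out : G) : G ⧸ H).out) *
        ((⟨_, hmem⟩ : H) : G) := by
      group
    rw [h2, ext_mul_right, ← ext_mem H (fun h => (l h : ℂ)) hmem]
    congr 2
    group
  · intro t _ ht
    have h3 : t.out⁻¹ * g' * u.out ∉ H := by
      intro h4
      apply ht
      rw [← QuotientGroup.out_eq' t, QuotientGroup.eq, ← mul_assoc]
      exact h4
    unfold mono
    rw [ext_not_mem H _ h3, mul_zero]
  · intro h; exact absurd (Finset.mem_univ _) h

/-- the monomial matrix of a group algebra element -/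
noncomputable def monoA (a : MonoidAlgebra ℂ G) : Matrix (G ⧸ H) (G ⧸ H) ℂ :=
  ∑ g : G, a.coeff g • mono H l g

theorem monoA_mul [Fintype (G ⧸ H)] (a b : MonoidAlgebra ℂ G) :
    monoA H l (a * b) = monoA H l a * monoA H l b := by
  unfold monoA
  rw [Finset.sum_mul]
  simp only [BrP.mul_coeff, Finset.sum_smul, Finset.mul_sum]
  rw [Finset.sum_comm]
  refine Finset.sum_congr rfl fun x _ => ?_
  rw [← Equiv.sum_comp (Equiv.mulLeft x)]
  refine Finset.sum_congr rfl fun y _ => ?_
  rw [Equiv.coe_mulLeft, inv_mul_cancel_left, mono_mul, smul_mul_smul_comm]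

theorem trace_mono [Fintype (G ⧸ H)] (g : G) : (mono H l g).trace = indFun H (fun h => (l h : ℂ)) g := by
  classical
  haveI := Fintype.ofFinite H
  have hH : (Nat.card H : ℂ) ≠ 0 := by exact_mod_cast Nat.card_pos.ne'
  rw [ind_apply]
  rw [eq_inv_mul_iff_mul_eq₀ hH]
  have hconst : ∀ (x : G) (h : H), extendByZero H (fun h => (l h : ℂ)) ((x * h)⁻¹ * g * (x * h)) =
      extendByZero H (fun h => (l h : ℂ)) (x⁻¹ * g * x) := by
    intro x h
    have h1 : (x * (h : G))⁻¹ * g * (x * h) = ((h : G)⁻¹ * (x⁻¹ * g * x)) * h := by group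
    rw [h1, ext_mul_right]
    by_cases hx : x⁻¹ * g * x ∈ H
    · rw [ext_mem H _ hx, ext_mem H _ (H.mul_mem (H.inv_mem h.2) hx)]
      have h2 : (⟨(h : G)⁻¹ * (x⁻¹ * g * x), H.mul_mem (H.inv_mem h.2) hx⟩ : H) = h⁻¹ * ⟨x⁻¹ * g * x, hx⟩ := rfl
      rw [h2, map_mul, map_inv]
      push_cast
      field_simp
    · rw [ext_not_mem H _ hx, ext_not_mem H _ (fun h' => hx ?_), zero_mul]
      have := H.mul_mem h.2 h'
      rwa [mul_inv_cancel_left] at this
  have h3 : ∑ y : (G ⧸ H) × H, extendByZero H (fun h => (l h : ℂ)) ((y.1.out * (y.2 : G))⁻¹ * g * (y.1.out * y.2))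
      = ∑ x : G, extendByZero H (fun h => (l h : ℂ)) (x⁻¹ * g * x) := by
    have hb : Function.Bijective (fun y : (G ⧸ H) × H => (y.1.out * (y.2 : G) : G)) := by
      constructor
      · rintro ⟨q, h⟩ ⟨q', h'⟩ heq
        have heq' : q.out * (h : G) = q'.out * h' := heq
        have h4 : q = q' := by
          rw [← QuotientGroup.out_eq' q, ← QuotientGroup.out_eq' q', QuotientGroup.eq]
          have h5 : q.out⁻¹ * q'.out = h * (h' : G)⁻¹ := by
            rw [eq_mul_inv_iff_mul_eq, mul_assoc, ← heq', inv_mul_cancel_left]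
          rw [h5]
          exact H.mul_mem h.2 (H.inv_mem h'.2)
        subst h4
        have h5 := mul_left_cancel heq'
        rw [Prod.mk.injEq]
        exact ⟨rfl, Subtype.ext h5⟩
      · intro x
        refine ⟨⟨(x : G ⧸ H), ⟨(x : G ⧸ H).out⁻¹ * x, ?_⟩⟩, ?_⟩
        · rw [← QuotientGroup.eq]; exact QuotientGroup.out_eq' _
        · change (x : G ⧸ H).out * ((x : G ⧸ H).out⁻¹ * x) = x
          rw [mul_inv_cancel_left]
    exact Fintype.sum_bijective _ hb _ _ (fun y => rfl)
  rw [← h3, Fintype.sum_prod_type]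
  simp only [hconst, Finset.sum_const, Finset.card_univ, nsmul_eq_mul]
  rw [← Finset.mul_sum, ← Nat.card_eq_fintype_card, Matrix.trace]
  rfl

theorem trace_monoA [Fintype (G ⧸ H)] (a : MonoidAlgebra ℂ G) :
    (monoA H l a).trace = ev (indFun H (fun h => (l h : ℂ))) a := by
  unfold monoA ev
  rw [Matrix.trace_sum]
  refine Finset.sum_congr rfl fun g _ => ?_
  rw [Matrix.trace_smul, trace_mono, smul_eq_mul]

end Mono

/-- congruent idempotent matrices over the local ring have the same trace -/
theorem trace_eq_of_congr [M.IsPrime] {n : Type*} [Fintype n] [DecidableEq n] {P Q : Matrix n n ℂ}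
    (hP : P * P = P) (hQ : Q * Q = Q) (hPR : ∀ i j, MemLocalRing M (P i j))
    (hQR : ∀ i j, MemLocalRing M (Q i j)) (h : ∀ i j, MemLocalIdeal M (P i j - Q i j)) :
    P.trace = Q.trace := by
  set U := P * Q + (1 - P) * (1 - Q) with hU
  have hP0 : P * (1 - P) = 0 := by rw [mul_sub, mul_one, hP, sub_self]
  have hQ0 : (1 - Q) * Q = 0 := by rw [sub_mul, one_mul, hQ, sub_self]
  have hPU : P * U = P * Q := by
    rw [hU, mul_add, ← mul_assoc, hP, ← mul_assoc, hP0, zero_mul, add_zero]
  have hUQ : U * Q = P * Q := by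
    rw [hU, add_mul, mul_assoc, hQ, mul_assoc, hQ0, mul_zero, add_zero]
  -- the determinant
  set P' : Matrix n n (LocR.subring M) := fun i j => ⟨P i j, hPR i j⟩ with hP'
  set Q' : Matrix n n (LocR.subring M) := fun i j => ⟨Q i j, hQR i j⟩ with hQ'
  have e1 : P'.map (LocR.subring M).subtype = P := rfl
  have e2 : Q'.map (LocR.subring M).subtype = Q := rfl
  have e3 : (P' * Q' + (1 - P') * (1 - Q')).map (LocR.subring M).subtype = U := by
    have : ∀ X : Matrix n n (LocR.subring M), X.map (LocR.subring M).subtype =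
      (LocR.subring M).subtype.mapMatrix X := fun _ => rfl
    rw [this, map_add, map_mul, map_mul, map_sub, map_sub, map_one]
    rfl
  have hdet : U.det ≠ 0 := by
    haveI : IsLocalRing (LocR.subring M) := LocR.isLocalRing_subring
    have h1 : U.det = ((P' * Q' + (1 - P') * (1 - Q')).det : LocR.subring M) := by
      rw [← e3]
      exact ((LocR.subring M).subtype.map_det _).symm
    rw [h1]
    have h2 : IsLocalRing.residue (LocR.subring M) ((P' * Q' + (1 - P') * (1 - Q')).det) = 1 := by
      rw [RingHom.map_det, map_add, map_mul, map_mul, map_sub, map_sub, map_one]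
      have h3 : (IsLocalRing.residue (LocR.subring M)).mapMatrix Q' =
          (IsLocalRing.residue (LocR.subring M)).mapMatrix P' := by
        ext i j
        change IsLocalRing.residue (LocR.subring M) (Q' i j) = IsLocalRing.residue (LocR.subring M) (P' i j)
        rw [eq_comm, ← sub_eq_zero, ← map_sub, IsLocalRing.residue_eq_zero_iff]
        exact (LocR.mem_maximalIdeal_iff _).mpr (h i j)
      have h4 : (IsLocalRing.residue (LocR.subring M)).mapMatrix P' *
          (IsLocalRing.residue (LocR.subring M)).mapMatrix P' =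
          (IsLocalRing.residue (LocR.subring M)).mapMatrix P' := by
        rw [← map_mul]
        congr 1
        ext i j
        have h5 := congrFun (congrFun hP i) j
        rw [Matrix.mul_apply] at h5 ⊢
        have h6 : (((∑ k, P' i k * P' k j : LocR.subring M)) : ℂ) = ∑ k, P i k * P k j := by
          push_cast; rfl
        rw [h6, h5]
      rw [h3, h4, mul_sub, sub_mul, sub_mul, one_mul, one_mul, mul_one, h4]
      rw [sub_self, sub_zero, add_sub_cancel, Matrix.det_one]
    intro h0
    have h3 : (P' * Q' + (1 - P') * (1 - Q')).det = 0 := Subtype.ext h0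
    rw [h3, map_zero] at h2
    exact zero_ne_one h2
  have hu : IsUnit U.det := isUnit_iff_ne_zero.mpr hdet
  have h1 : P = U * Q * U⁻¹ := by
    rw [hUQ, ← hPU, mul_assoc, Matrix.mul_nonsing_inv _ hu, mul_one]
  rw [h1, Matrix.trace_mul_comm, ← mul_assoc, Matrix.nonsing_inv_mul _ hu, one_mul]

/-- congruent linear characters have the same multiplicity in a projective character -/
theorem ev_ind_congr [M.IsPrime] (H : Subgroup G) (l l' : H →* ℂˣ)
    (h : ∀ x, MemLocalIdeal M ((l x : ℂ) - (l' x : ℂ))) {e : MonoidAlgebra ℂ G}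
    (he : e ∈ Cf (LocR.subring M) G) (hee : e * e = e) :
    ev (indFun H (fun h => (l h : ℂ))) e = ev (indFun H (fun h => (l' h : ℂ))) e := by
  classical
  haveI := Fintype.ofFinite (G ⧸ H)
  rw [← trace_monoA, ← trace_monoA]
  have hlR : ∀ (l : H →* ℂˣ) (x : G), MemLocalRing M (extendByZero H (fun h => (l h : ℂ)) x) := by
    intro l x
    by_cases hx : x ∈ H
    · rw [ext_mem H _ hx]
      apply memR_of_pow_eq_one (n := Nat.card H) Nat.card_pos
      rw [← Units.val_pow_eq_pow_val, ← map_pow, pow_card_eq_one', map_one, Units.val_one]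
    · rw [ext_not_mem H _ hx]; exact memR_zero
  have hR : ∀ (l : H →* ℂˣ) (i j : G ⧸ H), MemLocalRing M (monoA H l e i j) := by
    intro l i j
    unfold monoA
    rw [Matrix.sum_apply]
    exact memR_sum fun g _ => memR_mul (he g) (hlR l _)
  apply trace_eq_of_congr (M := M)
  · rw [← monoA_mul, hee]
  · rw [← monoA_mul, hee]
  · exact hR l
  · exact hR l'
  · intro i j
    unfold monoA
    rw [Matrix.sum_apply, Matrix.sum_apply, ← Finset.sum_sub_distrib]
    refine memI_sum fun g _ => ?_
    change MemLocalIdeal M (e.coeff g * mono H l g i j - e.coeff g * mono H l' g i j)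
    rw [← mul_sub]
    apply memI_mul_left (he g)
    unfold mono
    by_cases hx : i.out⁻¹ * g * j.out ∈ H
    · rw [ext_mem H _ hx, ext_mem H _ hx]; exact h _
    · rw [ext_not_mem H _ hx, ext_not_mem H _ hx, sub_zero]; exact memI_zero

/-- the character of the projective module of an idempotent -/
noncomputable def Phi (e : MonoidAlgebra ℂ G) (g : G) : ℂ :=
  ∑ χ : IrrCharacter G, ev (χ : G → ℂ) e * (χ : G → ℂ) g

theorem Phi_classFun (e : MonoidAlgebra ℂ G) : IsClassFunction G (Phi e) := by
  intro g h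
  unfold Phi
  exact Finset.sum_congr rfl fun χ _ => by rw [CharBasic.irr_classFun χ.2]

theorem ev_conj {χ : G → ℂ} (hχ : IsCharacter G χ) {e : MonoidAlgebra ℂ G} (hee : e * e = e) :
    conj (ev χ e) = ev χ e := by
  obtain ⟨m, hm⟩ := ev_idem hχ hee
  rw [hm, Complex.conj_natCast]

theorem ev_eq_inner {f : G → ℂ} (hf : IsClassFunction G f) {e : MonoidAlgebra ℂ G} (hee : e * e = e) :
    ev f e = classInner f (Phi e) := by
  have h1 : ev f e = ∑ χ : IrrCharacter G, classInner f χ * ev (χ : G → ℂ) e := by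
    unfold ev
    simp only [Finset.mul_sum]
    rw [Finset.sum_comm]
    refine Finset.sum_congr rfl fun g _ => ?_
    rw [classFun_expand_apply hf g, Finset.mul_sum]
    refine Finset.sum_congr rfl fun χ _ => by ring
  rw [h1]
  unfold classInner
  simp only [Finset.mul_sum, Finset.sum_mul, Phi, map_sum, map_mul]
  rw [Finset.sum_comm]
  refine Finset.sum_congr rfl fun g _ => ?_
  refine Finset.sum_congr rfl fun χ _ => ?_
  rw [ev_conj (irr_isCharacter χ.2) hee]
  ring

/-- projective characters vanish on `p`-singular elements -/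
theorem Phi_singular (hM : IsPModular p M) [M.IsPrime] {e : MonoidAlgebra ℂ G}
    (he : e ∈ Cf (LocR.subring M) G) (hee : e * e = e) {g : G} (hg : p ∣ orderOf g) :
    Phi e g = 0 := by
  classical
  set H := Subgroup.zpowers g with hH
  haveI := Fintype.ofFinite H
  have hab : ∀ a b : H, a * b = b * a := by
    rintro ⟨_, i, rfl⟩ ⟨_, j, rfl⟩
    apply Subtype.ext
    change g ^ i * g ^ j = g ^ j * g ^ i
    rw [← zpow_add, ← zpow_add, add_comm]
  -- a linear character of `p`-power order
  obtain ⟨k, m, hm, hkm⟩ := Nat.exists_eq_pow_mul_and_not_dvd (orderOf_pos g).ne' p hM.1.ne_one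
  have hk0 : k ≠ 0 := by
    rintro rfl
    rw [pow_zero, one_mul] at hkm
    exact hm (hkm ▸ hg)
  set y : H := ⟨g, Subgroup.mem_zpowers g⟩ with hy
  have hym : y ^ m ≠ 1 := by
    intro h
    have h1 : g ^ m = 1 := congrArg Subtype.val h
    have h2 := orderOf_dvd_of_pow_eq_one h1
    rw [hkm] at h2
    have hm0 : 0 < m := Nat.pos_of_ne_zero (by rintro rfl; exact hm (dvd_zero _))
    have h3 := Nat.le_of_dvd hm0 h2
    have h4 : 2 ≤ p ^ k := by
      calc 2 ≤ p := hM.1.two_le
        _ = p ^ 1 := (pow_one p).symm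
        _ ≤ p ^ k := Nat.pow_le_pow_right hM.1.pos (Nat.pos_of_ne_zero hk0)
    nlinarith
  obtain ⟨f, hf⟩ := exists_hom_ne_one hab hym
  have hfp : ∀ x : H, MemLocalIdeal M (((f ^ m) x : ℂ) - 1) := by
    intro x
    apply memI_sub_one_of_pow_ppow_eq_one hM (k := k)
    have h1 : x ^ orderOf g = 1 := by
      obtain ⟨_, i, rfl⟩ := x
      apply Subtype.ext
      change (g ^ i) ^ orderOf g = 1
      rw [← zpow_natCast, ← zpow_mul, mul_comm, zpow_mul, zpow_natCast, pow_orderOf_eq_one, one_zpow]
    rw [← Units.val_pow_eq_pow_val, MonoidHom.pow_apply, ← pow_mul, mul_comm m, ← hkm, ← map_pow, h1,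
      map_one, Units.val_one]
  have hfy : ((f ^ m) y : ℂ) ≠ 1 := by
    intro h
    apply hf
    rw [map_pow]
    apply Units.ext
    rw [Units.val_one, ← h]
    rfl
  -- orthogonality
  have h0 : (fun h : H => Phi e h * (conj ((f ^ m) h : ℂ) - 1)) = 0 := by
    apply classFun_eq_zero
    · intro a b
      rw [hab b a, mul_inv_cancel_right]
    · intro lam hlam
      obtain ⟨l, hl⟩ := irr_hom_of_comm hab hlam
      have hl' : lam = fun h => (l h : ℂ) := funext hl
      have h1 := ev_ind_congr H (l * f ^ m) l (by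
        intro x
        have h2 : (((l * f ^ m) x : ℂˣ) : ℂ) - (l x : ℂ) = (l x : ℂ) * (((f ^ m) x : ℂ) - 1) := by
          rw [MonoidHom.mul_apply, Units.val_mul]; ring
        rw [h2]
        apply memI_mul_left _ (hfp x)
        apply memR_of_pow_eq_one (n := Nat.card H) Nat.card_pos
        rw [← Units.val_pow_eq_pow_val, ← map_pow, pow_card_eq_one', map_one, Units.val_one]) he hee
      rw [ev_eq_inner (ind_classFun H _) hee, ev_eq_inner (ind_classFun H _) hee,
        frobenius H _ (Phi_classFun e), frobenius H _ (Phi_classFun e)] at h1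
      have h2 : classInner (fun h : H => Phi e h * (conj ((f ^ m) h : ℂ) - 1)) lam =
          conj (classInner (fun h => (((l * f ^ m) h : ℂˣ) : ℂ)) (fun h : H => Phi e h)) -
          conj (classInner (fun h => ((l h : ℂˣ) : ℂ)) (fun h : H => Phi e h)) := by
        rw [CharBasic.inner_conj_symm, CharBasic.inner_conj_symm, hl']
        unfold classInner
        rw [← mul_sub, ← Finset.sum_sub_distrib]
        congr 1
        refine Finset.sum_congr rfl fun x _ => ?_
        rw [MonoidHom.mul_apply, Units.val_mul, map_mul]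
        ring
      rw [h2, h1, sub_self]
  have h1 := congrFun h0 y
  rcases mul_eq_zero.mp h1 with h2 | h2
  · exact h2
  · exfalso
    apply hfy
    have h3 : conj ((f ^ m) y : ℂ) = 1 := sub_eq_zero.mp h2
    have h4 := congrArg conj h3
    rwa [Complex.conj_conj, map_one] at h4

end CfsgLib.Ur
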