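import Mathlib
import Cfsg.Agent.EqBase
import Cfsg.Agent.LibUr9
import Cfsg.Agent.LibBlockCov

/-!
# `p`-conjugacy of characters when `p` divides the group order exactly once (helper17)
-/

set_option autoImplicit false
set_option linter.unusedSectionVars false
set_option linter.style.haveILetI false
set_option linter.unusedSimpArgs false

namespace CfsgLib.Ur

open Cfsg CfsgLib.LocR CfsgLib.CharBasic CfsgLib.CharIndA
open scoped ComplexConjugate

universe u
variable {M : Ideal AlgInt} {p : ℕ} {G : Type u} [Group G] [Fintype G]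

/-- `p` divides the order exactly once -/
structure Once (p : ℕ) (G : Type u) [Group G] : Prop where
  prime : p.Prime
  dvd : p ∣ Nat.card G
  sq : ¬ p ^ 2 ∣ Nat.card G

theorem Once.card (h : Once p G) : p * (Nat.card G / p) = Nat.card G := Nat.mul_div_cancel' h.dvd

theorem Once.not_dvd (h : Once p G) : ¬ p ∣ Nat.card G / p := by
  intro h1
  apply h.sq
  rw [← h.card, pow_two]
  exact Nat.mul_dvd_mul_left p h1

theorem Once.coprime (h : Once p G) : Nat.Coprime p (Nat.card G / p) :=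
  (Nat.Prime.coprime_iff_not_dvd h.prime).mpr h.not_dvd

theorem Once.modEq (h : Once p G) {a b : ℕ} (h1 : a ≡ b [MOD p]) (h2 : a ≡ b [MOD (Nat.card G / p)]) :
    a ≡ b [MOD Nat.card G] := by
  rw [← h.card]
  exact (Nat.modEq_and_modEq_iff_modEq_mul h.coprime).mp ⟨h1, h2⟩

/-- exponents -/
noncomputable def kk (h : Once p G) (u : (ZMod p)ˣ) : ℕ :=
  (Nat.chineseRemainder h.coprime (u : ZMod p).val 1 : ℕ)

theorem kk_p (h : Once p G) (u : (ZMod p)ˣ) : kk h u ≡ (u : ZMod p).val [MOD p] :=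
  (Nat.chineseRemainder h.coprime (u : ZMod p).val 1).2.1

theorem kk_q (h : Once p G) (u : (ZMod p)ˣ) : kk h u ≡ 1 [MOD (Nat.card G / p)] :=
  (Nat.chineseRemainder h.coprime (u : ZMod p).val 1).2.2

theorem kk_coprime (h : Once p G) (u : (ZMod p)ˣ) : (kk h u).Coprime (Nat.card G) := by
  haveI : Fact p.Prime := ⟨h.prime⟩
  rw [← h.card]
  apply Nat.Coprime.mul_right
  · rw [Nat.Coprime, (kk_p h u).gcd_eq]
    exact ZMod.val_coe_unit_coprime u
  · rw [Nat.Coprime, (kk_q h u).gcd_eq]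
    exact Nat.gcd_one_left _

theorem kk_one (h : Once p G) : kk h 1 ≡ 1 [MOD Nat.card G] := by
  haveI : Fact p.Prime := ⟨h.prime⟩
  apply h.modEq _ (kk_q h 1)
  have h1 := kk_p h 1
  rwa [Units.val_one, ZMod.val_one] at h1

theorem kk_mul (h : Once p G) (u v : (ZMod p)ˣ) : kk h (u * v) ≡ kk h u * kk h v [MOD Nat.card G] := by
  haveI : Fact p.Prime := ⟨h.prime⟩
  apply h.modEq
  · refine (kk_p h (u * v)).trans ?_
    refine Nat.ModEq.trans ?_ ((kk_p h u).mul (kk_p h v)).symm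
    rw [Units.val_mul, ZMod.val_mul]
    exact Nat.mod_modEq _ _
  · refine (kk_q h (u * v)).trans ?_
    have := ((kk_q h u).mul (kk_q h v)).symm
    rwa [one_mul] at this

theorem pow_congr {a b : ℕ} (h : a ≡ b [MOD Nat.card G]) (g : G) : g ^ a = g ^ b := by
  rw [pow_eq_pow_iff_modEq]
  exact h.of_dvd (orderOf_dvd_natCard g)

theorem irr_pow {k : ℕ} (hk : k.Coprime (Nat.card G)) (χ : IrrCharacter G) :
    IsIrrCharacter G (fun g => (χ : G → ℂ) (g ^ k)) := by
  obtain ⟨σ, hσ⟩ := GalChar.exists_gal_of_coprime hk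
  have h1 := GalChar.isIrrCharacter_gal σ χ.2
  have h2 : (fun g => (χ : G → ℂ) (g ^ k)) = σ ∘ (χ : G → ℂ) := funext fun g => hσ _ (irr_isCharacter χ.2) g
  rw [h2]
  exact h1

/-- the action of `(ℤ/p)ˣ` on irreducible characters -/
noncomputable def act (h : Once p G) : MulAction (ZMod p)ˣ (IrrCharacter G) where
  smul u χ := ⟨fun g => (χ : G → ℂ) (g ^ kk h u), irr_pow (kk_coprime h u) χ⟩
  one_smul χ := by
    apply Subtype.ext
    funext g
    change (χ : G → ℂ) (g ^ kk h 1) = (χ : G → ℂ) g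
    rw [pow_congr (kk_one h), pow_one]
  mul_smul u v χ := by
    apply Subtype.ext
    funext g
    change (χ : G → ℂ) (g ^ kk h (u * v)) = (χ : G → ℂ) ((g ^ kk h u) ^ kk h v)
    rw [pow_congr (kk_mul h u v), pow_mul]

/-- the twisted character -/
noncomputable def tw (h : Once p G) (u : (ZMod p)ˣ) (χ : IrrCharacter G) : IrrCharacter G :=
  (act h).toSMul.smul u χ

theorem tw_apply (h : Once p G) (u : (ZMod p)ˣ) (χ : IrrCharacter G) (g : G) :
    (tw h u χ : G → ℂ) g = (χ : G → ℂ) (g ^ kk h u) := rfl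

/-- the classes of `p`-conjugate characters -/
noncomputable def cls (h : Once p G) (χ : IrrCharacter G) : Finset (IrrCharacter G) := by
  classical
  exact Finset.univ.filter (fun ψ => ∃ u : (ZMod p)ˣ, tw h u χ = ψ)

theorem mem_cls {h : Once p G} {χ ψ : IrrCharacter G} : ψ ∈ cls h χ ↔ ∃ u : (ZMod p)ˣ, tw h u χ = ψ := by
  unfold cls
  simp

theorem self_mem_cls (h : Once p G) (χ : IrrCharacter G) : χ ∈ cls h χ :=
  mem_cls.mpr ⟨1, (act h).one_smul χ⟩

theorem cls_eq {h : Once p G} {χ ψ : IrrCharacter G} (hψ : ψ ∈ cls h χ) : cls h ψ = cls h χ := by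
  obtain ⟨u, rfl⟩ := mem_cls.mp hψ
  ext θ
  rw [mem_cls, mem_cls]
  constructor
  · rintro ⟨v, rfl⟩
    exact ⟨v * u, (act h).mul_smul v u χ⟩
  · rintro ⟨v, rfl⟩
    refine ⟨v * u⁻¹, ?_⟩
    have := (act h).mul_smul (v * u⁻¹) u χ
    rw [inv_mul_cancel_right] at this
    exact this.symm

theorem cls_eq_of_mem {h : Once p G} {χ ψ θ : IrrCharacter G} (h1 : θ ∈ cls h χ) (h2 : θ ∈ cls h ψ) :
    cls h χ = cls h ψ := (cls_eq h1).symm.trans (cls_eq h2)

/-- the class length is prime to `p` -/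
theorem cls_card (h : Once p G) (χ : IrrCharacter G) : (cls h χ).card ∣ p - 1 := by
  haveI : Fact p.Prime := ⟨h.prime⟩
  letI := act h
  classical
  have h1 := MulAction.card_orbit_mul_card_stabilizer_eq_card_group (ZMod p)ˣ χ
  rw [ZMod.card_units_eq_totient, Nat.totient_prime h.prime] at h1
  have h2 : Fintype.card (MulAction.orbit (ZMod p)ˣ χ) = (cls h χ).card := by
    rw [← Set.toFinset_card]
    congr 1
    ext ψ
    rw [Set.mem_toFinset, mem_cls]
    rfl
  rw [h2] at h1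
  exact Dvd.intro _ h1

theorem cls_card_pos (h : Once p G) (χ : IrrCharacter G) : 0 < (cls h χ).card :=
  Finset.card_pos.mpr ⟨χ, self_mem_cls h χ⟩

theorem not_dvd_cls (h : Once p G) (χ : IrrCharacter G) : ¬ p ∣ (cls h χ).card := by
  intro h1
  have h2 := h1.trans (cls_card h χ)
  have h3 := h.prime.two_le
  have := Nat.le_of_dvd (by omega) h2
  omega

theorem sum_tw (h : Once p G) (χ : IrrCharacter G) (F : IrrCharacter G → ℂ) [Fintype (ZMod p)ˣ] :
    ∑ u : (ZMod p)ˣ, F (tw h u χ) = ((p - 1) / (cls h χ).card : ℕ) * ∑ ψ ∈ cls h χ, F ψ := by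
  haveI : Fact p.Prime := ⟨h.prime⟩
  classical
  letI := act h
  have hstab : ∀ ψ ∈ cls h χ, (Finset.univ.filter (fun u : (ZMod p)ˣ => tw h u χ = ψ)).card =
      (p - 1) / (cls h χ).card := by
    intro ψ hψ
    obtain ⟨v, rfl⟩ := mem_cls.mp hψ
    have h1 := MulAction.card_orbit_mul_card_stabilizer_eq_card_group (ZMod p)ˣ χ
    rw [ZMod.card_units_eq_totient, Nat.totient_prime h.prime] at h1
    have h2 : Fintype.card (MulAction.orbit (ZMod p)ˣ χ) = (cls h χ).card := by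
      rw [← Set.toFinset_card]
      congr 1
      ext ψ
      rw [Set.mem_toFinset, mem_cls]
      rfl
    rw [h2] at h1
    have h3 : (Finset.univ.filter (fun u : (ZMod p)ˣ => tw h u χ = tw h v χ)).card =
        Fintype.card (MulAction.stabilizer (ZMod p)ˣ χ) := by
      rw [← Fintype.card_subtype]
      refine Fintype.card_congr ⟨fun u => ⟨v⁻¹ * u.1, ?_⟩, fun s => ⟨v * s.1, ?_⟩, ?_, ?_⟩
      · rw [MulAction.mem_stabilizer_iff, mul_smul]
        have : u.1 • χ = v • χ := u.2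
        rw [this, inv_smul_smul]
      · have h4 : s.1 • χ = χ := MulAction.mem_stabilizer_iff.mp s.2
        change (v * s.1) • χ = v • χ
        rw [mul_smul, h4]
      · intro u; apply Subtype.ext; simp
      · intro s; apply Subtype.ext; simp
    rw [h3, ← h1, Nat.mul_div_cancel_left _ (cls_card_pos h χ)]
  rw [← Finset.sum_fiberwise_of_maps_to (s := Finset.univ) (t := cls h χ)
    (g := fun u : (ZMod p)ˣ => tw h u χ) (fun u _ => mem_cls.mpr ⟨u, rfl⟩), Finset.mul_sum]
  refine Finset.sum_congr rfl fun ψ hψ => ?_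
  rw [Finset.sum_congr rfl (g := fun _ => F ψ)]
  · rw [Finset.sum_const, nsmul_eq_mul, hstab ψ hψ]
  · intro u hu
    rw [(Finset.mem_filter.mp hu).2]

/-- the class sum character -/
noncomputable def Xs (h : Once p G) (χ : IrrCharacter G) (g : G) : ℂ := ∑ ψ ∈ cls h χ, (ψ : G → ℂ) g

/-- twisting does not change values on `p`-regular elements -/
theorem tw_reg (h : Once p G) (u : (ZMod p)ˣ) (χ : IrrCharacter G) {g : G} (hg : ¬ p ∣ orderOf g) :
    (tw h u χ : G → ℂ) g = (χ : G → ℂ) g := by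
  rw [tw_apply]
  congr 1
  have h1 : orderOf g ∣ Nat.card G / p := by
    have h2 : orderOf g ∣ p * (Nat.card G / p) := by rw [h.card]; exact orderOf_dvd_natCard g
    exact Nat.Coprime.dvd_of_dvd_mul_left ((Nat.Prime.coprime_iff_not_dvd h.prime).mpr hg).symm h2
  have h2 : g ^ kk h u = g ^ 1 := by
    rw [pow_eq_pow_iff_modEq]
    exact (kk_q h u).of_dvd h1
  rw [h2, pow_one]

theorem cls_reg {h : Once p G} {χ ψ : IrrCharacter G} (hψ : ψ ∈ cls h χ) {g : G} (hg : ¬ p ∣ orderOf g) :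
    (ψ : G → ℂ) g = (χ : G → ℂ) g := by
  obtain ⟨u, rfl⟩ := mem_cls.mp hψ
  exact tw_reg h u χ hg

theorem cls_one {h : Once p G} {χ ψ : IrrCharacter G} (hψ : ψ ∈ cls h χ) :
    (ψ : G → ℂ) 1 = (χ : G → ℂ) 1 :=
  cls_reg hψ (by rw [orderOf_one]; exact fun h1 => h.prime.one_lt.ne' (Nat.dvd_one.mp h1))

theorem cls_block (hM : IsPModular p M) {h : Once p G} {B : Set (IrrCharacter G)} (hB : IsPBlock M B)
    {χ ψ : IrrCharacter G} (hψ : ψ ∈ cls h χ) (hχ : χ ∈ B) : ψ ∈ B := by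
  have hp := BlockR.isPrime_of_modular hM
  haveI : Fact p.Prime := ⟨h.prime⟩
  apply BlockIdem.mem_of_sameBlock hp hB hχ
  apply BlockCov.sameBlock_of_reg hM
  intro g hg
  have h1 : centralChar (χ : G → ℂ) g = centralChar (ψ : G → ℂ) g := by
    unfold centralChar
    rw [cls_reg hψ hg, cls_one hψ]
  rw [h1, sub_self]
  exact BlockR.ideal_zero hp

section Field
variable [M.IsPrime] {L : Subfield ℂ}

theorem sum_pow_val (h : Once p G) [Fintype (ZMod p)ˣ] {α : ℂ} (hα : α ^ p = 1) :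
    ∑ u : (ZMod p)ˣ, α ^ (u : ZMod p).val = (p : ℂ) - 1 ∨ ∑ u : (ZMod p)ˣ, α ^ (u : ZMod p).val = -1 := by
  classical
  haveI : Fact p.Prime := ⟨h.prime⟩
  haveI : NeZero p := ⟨h.prime.ne_zero⟩
  have h1 : ∑ x : ZMod p, α ^ x.val = 1 + ∑ u : (ZMod p)ˣ, α ^ (u : ZMod p).val := by
    have h2 : ∑ u : (ZMod p)ˣ, α ^ (u : ZMod p).val =
        ∑ x ∈ (Finset.univ : Finset (ZMod p)).erase 0, α ^ x.val := by
      symm
      refine Finset.sum_bij' (fun x hx => Units.mk0 x (Finset.ne_of_mem_erase hx)) (fun u _ => (u : ZMod p))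
        (fun x _ => Finset.mem_univ _) (fun u _ => Finset.mem_erase.mpr ⟨u.ne_zero, Finset.mem_univ _⟩)
        (fun x _ => rfl) (fun u _ => by apply Units.ext; rfl) (fun x _ => rfl)
    rw [h2, ← Finset.add_sum_erase Finset.univ _ (Finset.mem_univ (0 : ZMod p)), ZMod.val_zero, pow_zero]
  by_cases hα1 : α = 1
  · left
    have h3 : ∑ x : ZMod p, α ^ x.val = p := by
      rw [hα1]; simp [ZMod.card]
    rw [h3] at h1
    linear_combination -h1
  · right
    have h3 : ∑ x : ZMod p, α ^ x.val = 0 := by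
      have h4 : α * ∑ x : ZMod p, α ^ x.val = ∑ x : ZMod p, α ^ x.val := by
        rw [Finset.mul_sum]
        refine Fintype.sum_equiv (Equiv.addRight (1 : ZMod p)) _ _ fun x => ?_
        rw [Equiv.coe_addRight, ← pow_succ']
        have h5 : (x + 1).val ≡ x.val + 1 [MOD p] := by
          rw [ZMod.val_add, ZMod.val_one]; exact Nat.mod_modEq _ _
        have h6 : ∀ a b : ℕ, a ≡ b [MOD p] → α ^ a = α ^ b := by
          intro a b hab
          have h7 : ∀ n : ℕ, α ^ n = α ^ (n % p) := by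
            intro n
            conv_lhs => rw [← Nat.div_add_mod n p, pow_add, pow_mul, hα, one_pow, one_mul]
          rw [h7 a, h7 b, hab]
        exact (h6 _ _ h5).symm
      have h5 : (α - 1) * ∑ x : ZMod p, α ^ x.val = 0 := by rw [sub_mul, one_mul, h4, sub_self]
      exact (mul_eq_zero.mp h5).resolve_left (sub_ne_zero.mpr hα1)
    rw [h3] at h1
    linear_combination -h1

theorem sum_pow_mem (hM : IsPModular p M) (hL : Maximal (IsUr M p) L) (h : Once p G) [Fintype (ZMod p)ˣ]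
    {ω : ℂ} (hω : ω ^ Nat.card G = 1) : ∑ u : (ZMod p)ˣ, ω ^ kk h u ∈ L := by
  have hp := h.prime
  set q := Nat.card G / p with hq
  -- exponents
  obtain ⟨a, ha1, ha2⟩ : ∃ a : ℕ, a ≡ 1 [MOD p] ∧ a ≡ 0 [MOD q] :=
    ⟨_, (Nat.chineseRemainder h.coprime 1 0).2⟩
  obtain ⟨b, hb1, hb2⟩ : ∃ b : ℕ, b ≡ 0 [MOD p] ∧ b ≡ 1 [MOD q] :=
    ⟨_, (Nat.chineseRemainder h.coprime 0 1).2⟩
  have hpow : ∀ {m n : ℕ}, m ≡ n [MOD Nat.card G] → ω ^ m = ω ^ n := by
    intro m n hmn
    have h7 : ∀ n : ℕ, ω ^ n = ω ^ (n % Nat.card G) := by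
      intro n
      conv_lhs => rw [← Nat.div_add_mod n (Nat.card G), pow_add, pow_mul, hω, one_pow, one_mul]
    rw [h7 m, h7 n, hmn]
  have hα : (ω ^ a) ^ p = 1 := by
    rw [← pow_mul]
    have : a * p ≡ 0 [MOD Nat.card G] := by
      apply h.modEq
      · have := (Nat.ModEq.refl (n := p) a).mul (show p ≡ 0 [MOD p] from by simp [Nat.ModEq])
        rwa [mul_zero] at this
      · have := ha2.mul (Nat.ModEq.refl (n := q) p)
        rwa [zero_mul] at this
    rw [hpow this, pow_zero]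
  have hβ : (ω ^ b) ^ q = 1 := by
    rw [← pow_mul]
    have : b * q ≡ 0 [MOD Nat.card G] := by
      apply h.modEq
      · have := hb1.mul (Nat.ModEq.refl (n := p) q)
        rwa [zero_mul] at this
      · have := (Nat.ModEq.refl (n := q) b).mul (show q ≡ 0 [MOD q] from by simp [Nat.ModEq])
        rwa [mul_zero] at this
    rw [hpow this, pow_zero]
  have hsplit : ∀ u : (ZMod p)ˣ, ω ^ kk h u = ω ^ b * (ω ^ a) ^ (u : ZMod p).val := by
    intro u
    rw [← pow_mul, ← pow_add]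
    apply hpow
    apply h.modEq
    · refine (kk_p h u).trans ?_
      have h1 := hb1.add (ha1.mul (Nat.ModEq.refl (n := p) (u : ZMod p).val))
      rw [zero_add, one_mul] at h1
      exact h1.symm
    · refine (kk_q h u).trans ?_
      have h1 := hb2.add (ha2.mul (Nat.ModEq.refl (n := q) (u : ZMod p).val))
      rw [zero_mul, add_zero] at h1
      exact h1.symm
  rw [Finset.sum_congr rfl fun u _ => hsplit u, ← Finset.mul_sum]
  have hβL : ω ^ b ∈ L := root_mem hM hL h.not_dvd hβ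
  rcases sum_pow_val h hα with h1 | h1
  · rw [h1]
    exact L.mul_mem hβL (L.sub_mem (natCast_mem L p) L.one_mem)
  · rw [h1]
    exact L.mul_mem hβL (L.neg_mem L.one_mem)

/-- class sums have values in `L` -/
theorem Xs_mem (hM : IsPModular p M) (hL : Maximal (IsUr M p) L) (h : Once p G) (χ : IrrCharacter G)
    (g : G) : Xs h χ g ∈ L := by
  classical
  haveI : Fact p.Prime := ⟨h.prime⟩
  haveI : Fintype (ZMod p)ˣ := Fintype.ofFinite _
  have h1 := sum_tw h χ (fun ψ => (ψ : G → ℂ) g)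
  have h2 : ∑ u : (ZMod p)ˣ, (tw h u χ : G → ℂ) g ∈ L := by
    obtain ⟨n, ρ, hirr, hρ⟩ := χ.2
    obtain ⟨b, ω, hω1, hω2⟩ := exists_diag_rep ρ g
    have h3 : ∀ u : (ZMod p)ˣ, (tw h u χ : G → ℂ) g = ∑ i, ω i ^ kk h u := by
      intro u
      rw [tw_apply, ← hρ]
      exact trace_of_diag b _ (fun i => (ω i) ^ kk h u) (fun i => diag_pow ρ g (hω2 i) _)
    rw [Finset.sum_congr rfl fun u _ => h3 u, Finset.sum_comm]
    refine sum_mem fun i _ => ?_
    apply sum_pow_mem hM hL h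
    obtain ⟨m, hm⟩ := orderOf_dvd_natCard g
    rw [hm, pow_mul, hω1, one_pow]
  rw [h1] at h2
  have h3 : (((p - 1) / (cls h χ).card : ℕ) : ℂ) ≠ 0 := by
    have h4 := h.prime.two_le
    have h5 := Nat.div_pos (Nat.le_of_dvd (by omega) (cls_card h χ)) (cls_card_pos h χ)
    exact_mod_cast h5.ne'
  have h4 : Xs h χ g = (((p - 1) / (cls h χ).card : ℕ) : ℂ)⁻¹ *
      ((((p - 1) / (cls h χ).card : ℕ) : ℂ) * ∑ ψ ∈ cls h χ, (ψ : G → ℂ) g) := by
    rw [← mul_assoc, inv_mul_cancel₀ h3, one_mul]; rfl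
  rw [h4]
  exact L.mul_mem (L.inv_mem (natCast_mem L _)) h2

end Field

end CfsgLib.Ur
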