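import Mathlib
import Cfsg.Agent.EqBase
import Cfsg.Agent.LibUr10

/-!
# Central idempotents and trace identities in the complex group algebra (helper17)
-/

set_option autoImplicit false
set_option linter.unusedSectionVars false
set_option linter.style.haveILetI false
set_option linter.unusedSimpArgs false

namespace CfsgLib.Ur

open Cfsg CfsgLib.LocR CfsgLib.CharBasic CfsgLib.CharIndA
open scoped ComplexConjugate

universe u
variable {M : Ideal AlgInt} {p : ℕ} {G : Type u} [Group G] [Fintype G]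

/-- group elements -/
noncomputable abbrev sg (g : G) : MonoidAlgebra ℂ G := MonoidAlgebra.single g (1 : ℂ)

theorem sg_mul (g h : G) : (sg g : MonoidAlgebra ℂ G) * sg h = sg (g * h) := by
  rw [MonoidAlgebra.single_mul_single, mul_one]

theorem sg_one : (sg 1 : MonoidAlgebra ℂ G) = 1 := rfl

theorem coeff_mul_sg (a : MonoidAlgebra ℂ G) (g x : G) : (a * sg g).coeff x = a.coeff (x * g⁻¹) := by
  classical
  rw [BrP.mul_coeff', Finset.sum_eq_single g]
  · rw [MonoidAlgebra.coeff_single, Finsupp.single_eq_same, mul_one]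
  · intro y _ hy
    rw [MonoidAlgebra.coeff_single, Finsupp.single_apply, if_neg hy.symm, mul_zero]
  · intro h; exact absurd (Finset.mem_univ _) h

theorem ev_mul (χ : G → ℂ) (a b : MonoidAlgebra ℂ G) :
    ev χ (a * b) = ∑ x : G, ∑ y : G, a.coeff x * b.coeff y * χ (x * y) := by
  unfold ev
  simp only [BrP.mul_coeff, Finset.sum_mul]
  rw [Finset.sum_comm]
  refine Finset.sum_congr rfl fun x _ => ?_
  rw [← Equiv.sum_comp (Equiv.mulLeft x)]
  refine Finset.sum_congr rfl fun y _ => ?_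
  rw [Equiv.coe_mulLeft, inv_mul_cancel_left]

/-- the central idempotent of a set of irreducible characters -/
noncomputable def eps (S : Finset (IrrCharacter G)) : MonoidAlgebra ℂ G :=
  BrP.mk fun g => (Nat.card G : ℂ)⁻¹ * ∑ χ ∈ S, (χ : G → ℂ) 1 * (χ : G → ℂ) g⁻¹

theorem eps_coeff (S : Finset (IrrCharacter G)) (g : G) :
    (eps S).coeff g = (Nat.card G : ℂ)⁻¹ * ∑ χ ∈ S, (χ : G → ℂ) 1 * (χ : G → ℂ) g⁻¹ := rfl

theorem eps_classFun (S : Finset (IrrCharacter G)) : IsClassFunction G (fun g => (eps S).coeff g) := by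
  intro g h
  simp only [eps_coeff]
  congr 1
  refine Finset.sum_congr rfl fun χ _ => ?_
  have h1 : (h * g * h⁻¹)⁻¹ = h * g⁻¹ * h⁻¹ := by group
  rw [h1, CharBasic.irr_classFun χ.2]

theorem ev_eps_mul [DecidableEq (IrrCharacter G)] (S : Finset (IrrCharacter G)) (ψ : IrrCharacter G) (a : MonoidAlgebra ℂ G) :
    ev (ψ : G → ℂ) (eps S * a) = if ψ ∈ S then ev (ψ : G → ℂ) a else 0 := by
  have hG : (Nat.card G : ℂ) ≠ 0 := by exact_mod_cast Nat.card_pos.ne'
  have hψ0 := CharBasic.irr_one_ne_zero ψ.2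
  rw [ev_mul, Finset.sum_comm]
  have h1 : ∀ y : G, ∑ x : G, (eps S).coeff x * a.coeff y * (ψ : G → ℂ) (x * y) =
      BlockCore.omg (ψ : G → ℂ) (fun x => (eps S).coeff x) * (a.coeff y * (ψ : G → ℂ) y) := by
    intro y
    have h2 := BlockCore.sum_mul_eq_omg ψ (eps_classFun S) y
    calc ∑ x : G, (eps S).coeff x * a.coeff y * (ψ : G → ℂ) (x * y)
        = a.coeff y * ∑ x : G, (eps S).coeff x * (ψ : G → ℂ) (x * y) := by
          rw [Finset.mul_sum]; exact Finset.sum_congr rfl fun x _ => by ring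
      _ = _ := by rw [h2]; ring
  rw [Finset.sum_congr rfl fun y _ => h1 y, ← Finset.mul_sum]
  have h3 : BlockCore.omg (ψ : G → ℂ) (fun x => (eps S).coeff x) = if ψ ∈ S then 1 else 0 := by
    unfold BlockCore.omg
    have h4 : ∑ x : G, (eps S).coeff x * (ψ : G → ℂ) x = ∑ χ ∈ S, (χ : G → ℂ) 1 *
        classInner (ψ : G → ℂ) (χ : G → ℂ) := by
      simp only [eps_coeff, classInner, Finset.mul_sum, Finset.sum_mul]
      rw [Finset.sum_comm]
      refine Finset.sum_congr rfl fun χ _ => Finset.sum_congr rfl fun x _ => ?_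
      rw [char_inv_eq_conj (irr_isCharacter χ.2)]; ring
    rw [h4]
    split_ifs with hS
    · rw [Finset.sum_eq_single ψ]
      · rw [irr_inner_self ψ.2, mul_one, div_self hψ0]
      · intro χ _ hχ
        rw [irr_inner_ne ψ.2 χ.2 (fun h => hχ (Subtype.ext h.symm)), mul_zero]
      · intro h; exact absurd hS h
    · rw [Finset.sum_eq_zero, zero_div]
      intro χ hχ
      rw [irr_inner_ne ψ.2 χ.2 (fun h => hS (by rw [Subtype.ext h]; exact hχ)), mul_zero]
  rw [h3]
  split_ifs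
  · rw [one_mul]; rfl
  · rw [zero_mul]

/-- coefficients from character values -/
theorem coeff_eq (a : MonoidAlgebra ℂ G) (g : G) :
    a.coeff g = (Nat.card G : ℂ)⁻¹ * ∑ χ : IrrCharacter G, (χ : G → ℂ) 1 * ev (χ : G → ℂ) (a * sg g⁻¹) := by
  have hG : (Nat.card G : ℂ) ≠ 0 := by exact_mod_cast Nat.card_pos.ne'
  rw [sum_ev, coeff_mul_sg, inv_inv, one_mul, ← mul_assoc, inv_mul_cancel₀ hG, one_mul]

theorem ext_ev {a b : MonoidAlgebra ℂ G}
    (h : ∀ (χ : IrrCharacter G) (g : G), ev (χ : G → ℂ) (a * sg g) = ev (χ : G → ℂ) (b * sg g)) : a = b := by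
  apply BrP.ext'
  intro g
  rw [coeff_eq, coeff_eq]
  congr 1
  exact Finset.sum_congr rfl fun χ _ => by rw [h]

theorem eps_comm (S : Finset (IrrCharacter G)) (a : MonoidAlgebra ℂ G) : a * eps S = eps S * a := by
  classical
  apply ext_ev
  intro χ g
  rw [mul_assoc, ev_mul_comm (irr_isCharacter χ.2), mul_assoc, mul_assoc, ev_eps_mul, ev_eps_mul,
    ev_mul_comm (irr_isCharacter χ.2)]

theorem eps_mul_self (S : Finset (IrrCharacter G)) : eps S * eps S = eps S := by
  classical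
  apply ext_ev
  intro χ g
  rw [mul_assoc, ev_eps_mul, ev_eps_mul]
  split_ifs <;> rfl

theorem eps_mul_disj {S T : Finset (IrrCharacter G)} (h : Disjoint S T) : eps S * eps T = 0 := by
  classical
  apply ext_ev
  intro χ g
  rw [mul_assoc, ev_eps_mul, ev_eps_mul, zero_mul, ev_zero]
  split_ifs with h1 h2
  · exact absurd h2 (Finset.disjoint_left.mp h h1)
  · rfl
  · rfl

theorem eps_eq_zero_iff {S : Finset (IrrCharacter G)} {e : MonoidAlgebra ℂ G} (he : e * e = e) :
    eps S * e = 0 ↔ ∀ χ ∈ S, ev (χ : G → ℂ) e = 0 := by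
  classical
  constructor
  · intro h χ hχ
    have h1 := ev_eps_mul S χ e
    rw [if_pos hχ, h, ev_zero] at h1
    exact h1.symm
  · intro h
    by_contra hne
    have hid : (eps S * e) * (eps S * e) = eps S * e := by
      rw [mul_assoc, ← mul_assoc e, eps_comm, mul_assoc, he, ← mul_assoc, eps_mul_self]
    obtain ⟨χ, hχ⟩ := exists_ev_ne hid hne
    rw [ev_eps_mul] at hχ
    split_ifs at hχ with h1
    · exact hχ (h χ h1)
    · exact hχ rfl

/-- an idempotent with vanishing character values is zero -/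
theorem idem_eq_zero {e : MonoidAlgebra ℂ G} (he : e * e = e)
    (h : ∀ χ : IrrCharacter G, ev (χ : G → ℂ) e = 0) : e = 0 := by
  by_contra hne
  obtain ⟨χ, hχ⟩ := exists_ev_ne he hne
  exact hχ (h χ)

/-! ### trace identities -/

theorem T1_group (χ : IrrCharacter G) (x y : G) :
    ∑ g : G, (χ : G → ℂ) (g * x * g⁻¹ * y) = (Nat.card G : ℂ) / (χ : G → ℂ) 1 * ((χ : G → ℂ) x * (χ : G → ℂ) y) := by
  classical
  have hχ0 := CharBasic.irr_one_ne_zero χ.2
  -- class indicator
  set a : G → ℂ := fun z => ∑ g : G, if g * x * g⁻¹ = z then (1 : ℂ) else 0 with ha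
  have hacl : IsClassFunction G a := by
    intro z h
    simp only [ha]
    refine Fintype.sum_equiv (Equiv.mulLeft h⁻¹) _ _ fun g => ?_
    rw [Equiv.coe_mulLeft]
    have h1 : (g * x * g⁻¹ = h * z * h⁻¹) ↔ (h⁻¹ * g * x * (h⁻¹ * g)⁻¹ = z) := by
      constructor
      · intro h2
        have : h⁻¹ * g * x * (h⁻¹ * g)⁻¹ = h⁻¹ * (g * x * g⁻¹) * h := by group
        rw [this, h2]; group
      · intro h2
        have : g * x * g⁻¹ = h * (h⁻¹ * g * x * (h⁻¹ * g)⁻¹) * h⁻¹ := by group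
        rw [this, h2]
    simp only [h1]
  have h1 := BlockCore.sum_mul_eq_omg χ hacl y
  have h2 : ∀ f : G → ℂ, ∑ z : G, a z * f z = ∑ g : G, f (g * x * g⁻¹) := by
    intro f
    simp only [ha, Finset.sum_mul]
    rw [Finset.sum_comm]
    refine Finset.sum_congr rfl fun g _ => ?_
    simp
  rw [h2 (fun z => (χ : G → ℂ) (z * y))] at h1
  rw [h1]
  unfold BlockCore.omg
  rw [h2]
  have h3 : ∀ g : G, (χ : G → ℂ) (g * x * g⁻¹) = (χ : G → ℂ) x := fun g => CharBasic.irr_classFun χ.2 x g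
  rw [Finset.sum_congr rfl fun g _ => h3 g, Finset.sum_const, nsmul_eq_mul, Finset.card_univ,
    ← Nat.card_eq_fintype_card]
  ring

theorem T1 (χ : IrrCharacter G) (a b : MonoidAlgebra ℂ G) :
    ∑ g : G, ev (χ : G → ℂ) (sg g * a * sg g⁻¹ * b) =
      (Nat.card G : ℂ) / (χ : G → ℂ) 1 * (ev (χ : G → ℂ) a * ev (χ : G → ℂ) b) := by
  have h1 : ∀ g : G, ev (χ : G → ℂ) (sg g * a * sg g⁻¹ * b) =
      ∑ x : G, ∑ y : G, a.coeff x * b.coeff y * (χ : G → ℂ) (g * x * g⁻¹ * y) := by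
    intro g
    rw [ev_mul]
    have h2 : ∀ z : G, (sg g * a * sg g⁻¹).coeff z = a.coeff (g⁻¹ * z * g) := by
      intro z
      rw [coeff_mul_sg, inv_inv]
      have h3 : ∀ w : G, (sg g * a).coeff w = a.coeff (g⁻¹ * w) := by
        classical
        intro w
        rw [BrP.mul_coeff, Finset.sum_eq_single g]
        · rw [MonoidAlgebra.coeff_single, Finsupp.single_eq_same, one_mul]
        · intro v _ hv
          rw [MonoidAlgebra.coeff_single, Finsupp.single_apply, if_neg hv.symm, zero_mul]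
        · intro h; exact absurd (Finset.mem_univ _) h
      rw [h3, mul_assoc]
    rw [← Equiv.sum_comp (MulAut.conj g).toEquiv]
    refine Finset.sum_congr rfl fun x _ => Finset.sum_congr rfl fun y _ => ?_
    rw [h2]
    have h3 : (MulAut.conj g).toEquiv x = g * x * g⁻¹ := rfl
    rw [h3]
    have h4 : g⁻¹ * (g * x * g⁻¹) * g = x := by group
    rw [h4]
  rw [Finset.sum_congr rfl fun g _ => h1 g, Finset.sum_comm]
  unfold ev
  rw [Finset.sum_mul_sum, Finset.mul_sum]
  refine Finset.sum_congr rfl fun x _ => ?_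
  rw [Finset.sum_comm, Finset.mul_sum]
  refine Finset.sum_congr rfl fun y _ => ?_
  rw [← Finset.mul_sum, T1_group]
  ring

theorem T2_group (χ : IrrCharacter G) (x y : G) :
    ∑ g : G, (χ : G → ℂ) (x * g) * (χ : G → ℂ) (g⁻¹ * y) = (Nat.card G : ℂ) / (χ : G → ℂ) 1 * (χ : G → ℂ) (x * y) := by
  have hχ0 := CharBasic.irr_one_ne_zero χ.2
  have hG : (Nat.card G : ℂ) ≠ 0 := by exact_mod_cast Nat.card_pos.ne'
  have h1 : ∑ g : G, (χ : G → ℂ) (x * g) * (χ : G → ℂ) (g⁻¹ * y) =
      ∑ g : G, (fun z => (χ : G → ℂ) z⁻¹) g * (χ : G → ℂ) (g * (x * y)) := by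
    refine Fintype.sum_equiv ((Equiv.mulLeft x).trans (Equiv.inv G)) _ _ fun g => ?_
    simp only [Equiv.trans_apply, Equiv.coe_mulLeft, Equiv.inv_apply, inv_inv]
    congr 2
    group
  have hcl : IsClassFunction G (fun z => (χ : G → ℂ) z⁻¹) := by
    intro z h
    have : (h * z * h⁻¹)⁻¹ = h * z⁻¹ * h⁻¹ := by group
    change (χ : G → ℂ) (h * z * h⁻¹)⁻¹ = _
    rw [this, CharBasic.irr_classFun χ.2]
  rw [h1, BlockCore.sum_mul_eq_omg χ hcl]
  have h2 : BlockCore.omg (χ : G → ℂ) (fun z => (χ : G → ℂ) z⁻¹) = (Nat.card G : ℂ) / (χ : G → ℂ) 1 := by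
    unfold BlockCore.omg
    congr 1
    have h3 := irr_inner_self χ.2
    unfold classInner at h3
    have h4 : ∑ z : G, (χ : G → ℂ) z⁻¹ * (χ : G → ℂ) z = ∑ z : G, (χ : G → ℂ) z * conj ((χ : G → ℂ) z) := by
      refine Finset.sum_congr rfl fun z _ => ?_
      rw [char_inv_eq_conj (irr_isCharacter χ.2), mul_comm]
    rw [h4]
    have h5 : (Nat.card G : ℂ)⁻¹ * ∑ z : G, (χ : G → ℂ) z * conj ((χ : G → ℂ) z) = 1 := by
      simpa using h3
    field_simp at h5
    exact h5
  rw [h2]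

theorem T2 (χ : IrrCharacter G) (a b : MonoidAlgebra ℂ G) :
    ∑ g : G, ev (χ : G → ℂ) (a * sg g) * ev (χ : G → ℂ) (sg g⁻¹ * b) =
      (Nat.card G : ℂ) / (χ : G → ℂ) 1 * ev (χ : G → ℂ) (a * b) := by
  classical
  have h1 : ∀ g : G, ev (χ : G → ℂ) (a * sg g) = ∑ x : G, a.coeff x * (χ : G → ℂ) (x * g) := by
    intro g
    rw [ev_mul]
    refine Finset.sum_congr rfl fun x _ => ?_
    rw [Finset.sum_eq_single g]
    · rw [MonoidAlgebra.coeff_single, Finsupp.single_eq_same, mul_one]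
    · intro y _ hy
      rw [MonoidAlgebra.coeff_single, Finsupp.single_apply, if_neg hy.symm, mul_zero, zero_mul]
    · intro h; exact absurd (Finset.mem_univ _) h
  have h2 : ∀ g : G, ev (χ : G → ℂ) (sg g⁻¹ * b) = ∑ y : G, b.coeff y * (χ : G → ℂ) (g⁻¹ * y) := by
    intro g
    rw [ev_mul, Finset.sum_comm]
    refine Finset.sum_congr rfl fun y _ => ?_
    rw [Finset.sum_eq_single g⁻¹]
    · rw [MonoidAlgebra.coeff_single, Finsupp.single_eq_same, one_mul]
    · intro x _ hx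
      rw [MonoidAlgebra.coeff_single, Finsupp.single_apply, if_neg hx.symm, zero_mul, zero_mul]
    · intro h; exact absurd (Finset.mem_univ _) h
  have h3 : ∀ g : G, ev (χ : G → ℂ) (a * sg g) * ev (χ : G → ℂ) (sg g⁻¹ * b) =
      ∑ x : G, ∑ y : G, a.coeff x * b.coeff y * ((χ : G → ℂ) (x * g) * (χ : G → ℂ) (g⁻¹ * y)) := by
    intro g
    rw [h1, h2, Finset.sum_mul_sum]
    refine Finset.sum_congr rfl fun x _ => Finset.sum_congr rfl fun y _ => by ring
  rw [Finset.sum_congr rfl fun g _ => h3 g, Finset.sum_comm, ev_mul, Finset.mul_sum]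
  refine Finset.sum_congr rfl fun x _ => ?_
  rw [Finset.sum_comm, Finset.mul_sum]
  refine Finset.sum_congr rfl fun y _ => ?_
  rw [← Finset.mul_sum, T2_group]
  ring

end CfsgLib.Ur
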