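import Mathlib
import Cfsg.Agent.EqBase
import Cfsg.Agent.LibUr11

/-!
# Components of local corner rings when `p` divides the order once: exactly two components
(helper17)
-/

set_option autoImplicit false
set_option linter.unusedSectionVars false
set_option linter.style.haveILetI false
set_option linter.unusedSimpArgs false

namespace CfsgLib.Ur

open Cfsg CfsgLib.LocR CfsgLib.CharBasic CfsgLib.CharIndA
open scoped ComplexConjugate

universe u
variable {M : Ideal AlgInt} {p : ℕ} {G : Type u} [Group G] [Fintype G]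

/-- trace on a class -/
noncomputable def tau (h : Once p G) (χ : IrrCharacter G) (a : MonoidAlgebra ℂ G) : ℂ :=
  ∑ ψ ∈ cls h χ, ev (ψ : G → ℂ) a

noncomputable def uu (p : ℕ) (χ : IrrCharacter G) : ℂ := (χ : G → ℂ) 1 * p / Nat.card G

/-- the central idempotent of a class -/
noncomputable abbrev ec (h : Once p G) (χ : IrrCharacter G) : MonoidAlgebra ℂ G := eps (cls h χ)

theorem tau_add (h : Once p G) (χ : IrrCharacter G) (a b : MonoidAlgebra ℂ G) :
    tau h χ (a + b) = tau h χ a + tau h χ b := by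
  unfold tau; rw [← Finset.sum_add_distrib]; exact Finset.sum_congr rfl fun ψ _ => ev_add _ _ _

theorem tau_sub (h : Once p G) (χ : IrrCharacter G) (a b : MonoidAlgebra ℂ G) :
    tau h χ (a - b) = tau h χ a - tau h χ b := by
  unfold tau; rw [← Finset.sum_sub_distrib]; exact Finset.sum_congr rfl fun ψ _ => ev_sub _ _ _

theorem tau_smul (h : Once p G) (χ : IrrCharacter G) (c : ℂ) (a : MonoidAlgebra ℂ G) :
    tau h χ (c • a) = c * tau h χ a := by
  unfold tau; rw [Finset.mul_sum]; exact Finset.sum_congr rfl fun ψ _ => ev_smul _ _ _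

theorem tau_comm (h : Once p G) (χ : IrrCharacter G) (a b : MonoidAlgebra ℂ G) :
    tau h χ (a * b) = tau h χ (b * a) := by
  unfold tau; exact Finset.sum_congr rfl fun ψ _ => ev_mul_comm (irr_isCharacter ψ.2) _ _

theorem tau_ec (h : Once p G) (χ : IrrCharacter G) (a : MonoidAlgebra ℂ G) :
    tau h χ (ec h χ * a) = tau h χ a := by
  classical
  unfold tau
  refine Finset.sum_congr rfl fun ψ hψ => ?_
  rw [ev_eps_mul, if_pos hψ]

theorem tau_mem (hM : IsPModular p M) [M.IsPrime] {L : Subfield ℂ} (hL : Maximal (IsUr M p) L)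
    (h : Once p G) (χ : IrrCharacter G) {a : MonoidAlgebra ℂ G} (ha : a ∈ Cf L.toSubring G) :
    tau h χ a ∈ L := by
  have h1 : tau h χ a = ∑ g : G, a.coeff g * Xs h χ g := by
    unfold tau ev Xs
    rw [Finset.sum_comm]
    exact Finset.sum_congr rfl fun g _ => by rw [Finset.mul_sum]
  rw [h1]
  exact sum_mem fun g _ => L.mul_mem (ha g) (Xs_mem hM hL h χ g)

theorem card_ne (G : Type u) [Group G] [Fintype G] : (Nat.card G : ℂ) ≠ 0 := by exact_mod_cast Nat.card_pos.ne'

theorem coeff_ec_mul (h : Once p G) (χ : IrrCharacter G) (a : MonoidAlgebra ℂ G) (g : G) :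
    (ec h χ * a).coeff g = uu p χ / p * tau h χ (a * sg g⁻¹) := by
  classical
  have hp0 : (p : ℂ) ≠ 0 := by exact_mod_cast h.prime.ne_zero
  have hG := card_ne G
  rw [coeff_eq]
  have h1 : ∀ ψ : IrrCharacter G, (ψ : G → ℂ) 1 * ev (ψ : G → ℂ) (ec h χ * a * sg g⁻¹) =
      if ψ ∈ cls h χ then (χ : G → ℂ) 1 * ev (ψ : G → ℂ) (a * sg g⁻¹) else 0 := by
    intro ψ
    rw [mul_assoc, ev_eps_mul]
    split_ifs with hψ
    · rw [cls_one hψ]
    · rw [mul_zero]
  rw [Finset.sum_congr rfl fun ψ _ => h1 ψ, ← Finset.sum_filter, ← Finset.mul_sum]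
  have h2 : Finset.univ.filter (fun ψ => ψ ∈ cls h χ) = cls h χ := by ext ψ; simp
  rw [h2]
  unfold uu tau
  field_simp

theorem uu_mem {L : Subfield ℂ} (χ : IrrCharacter G) : uu p χ ∈ L := by
  obtain ⟨n, hn0, hn⟩ := irr_one_nat χ.2
  unfold uu
  rw [hn]
  exact L.div_mem (L.mul_mem (natCast_mem L n) (natCast_mem L p)) (natCast_mem L _)

theorem uu_eq (h : Once p G) (χ : IrrCharacter G) :
    uu p χ = (χ : G → ℂ) 1 * ((Nat.card G / p : ℕ) : ℂ)⁻¹ := by
  have hp0 : (p : ℂ) ≠ 0 := by exact_mod_cast h.prime.ne_zero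
  have h1 : (Nat.card G : ℂ) = p * ((Nat.card G / p : ℕ) : ℂ) := by exact_mod_cast h.card.symm
  have h2 : ((Nat.card G / p : ℕ) : ℂ) ≠ 0 := by
    intro h3
    apply card_ne G
    rw [h1, h3, mul_zero]
  unfold uu
  rw [h1]
  field_simp

theorem uu_memR (hM : IsPModular p M) [M.IsPrime] (h : Once p G) (χ : IrrCharacter G) :
    MemLocalRing M (uu p χ) := by
  rw [uu_eq h]
  obtain ⟨n, hn0, hn⟩ := irr_one_nat χ.2
  rw [hn]
  exact memR_mul (memR_natCast n) (memR_natCast_inv hM h.not_dvd)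

theorem uu_not_memI (hM : IsPModular p M) [M.IsPrime] (h : Once p G) (χ : IrrCharacter G)
    (hdeg : ¬ p ∣ charDegree (χ : G → ℂ)) : ¬ MemLocalIdeal M (uu p χ) := by
  intro h1
  rw [uu_eq h, CharInt.irr_one_eq_charDegree χ.2] at h1
  have h2 : ((Nat.card G / p : ℕ) : ℂ) ≠ 0 := by
    intro h3
    apply h.not_dvd
    rw [Nat.cast_eq_zero.mp h3]; exact dvd_zero p
  have h3 := memI_mul_right h1 (memR_natCast (M := M) (Nat.card G / p))
  rw [mul_assoc, inv_mul_cancel₀ h2, mul_one, memI_natCast_iff hM] at h3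
  exact hdeg h3

section Comp
variable [M.IsPrime] {L : Subfield ℂ} {e : MonoidAlgebra ℂ G}

theorem ev_corner {χ : G → ℂ} (hχ : IsCharacter G χ) {a x : MonoidAlgebra ℂ G} (hea : e * a = a)
    (hae : a * e = a) : ev χ (a * x) = ev χ (a * (e * x * e)) := by
  have h1 : a * (e * x * e) = (a * e) * x * e := by simp only [mul_assoc]
  rw [h1, hae, ev_mul_comm hχ (a * x) e, ← mul_assoc, hea]

theorem tau_corner (h : Once p G) (χ : IrrCharacter G) {a x : MonoidAlgebra ℂ G} (hea : e * a = a)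
    (hae : a * e = a) : tau h χ (a * x) = tau h χ (a * (e * x * e)) := by
  unfold tau
  exact Finset.sum_congr rfl fun ψ _ => ev_corner (irr_isCharacter ψ.2) hea hae

theorem tau_memI_of_J (hM : IsPModular p M) (hL : Maximal (IsUr M p) L) (h : Once p G)
    (χ : IrrCharacter G) {z : MonoidAlgebra ℂ G} (hz : InJ M L e z) : MemLocalIdeal M (tau h χ z) := by
  obtain ⟨k, hk⟩ := hz.nilp
  exact memI_sum fun ψ _ => memI_ev_of_nilp hM hL.prop (irr_isCharacter ψ.2) hz.inE.mem hk

theorem div_p_mem (hM : IsPModular p M) (hL : Maximal (IsUr M p) L) {z : ℂ} (hz : z ∈ L)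
    (hI : MemLocalIdeal M z) : z / p ∈ RL M L :=
  ⟨L.div_mem hz hL.prop.mem_p, hL.prop.div z hz hI⟩

/-- the radical is stable under the central idempotents -/
theorem Prim.ecJ (hM : IsPModular p M) (hL : Maximal (IsUr M p) L) (h : Once p G) (he : Prim M L e)
    (χ : IrrCharacter G) {z : MonoidAlgebra ℂ G} (hz : InJ M L e z) : InJ M L e (ec h χ * z) := by
  have hp0 : (p : ℂ) ≠ 0 := by exact_mod_cast h.prime.ne_zero
  have hmem : ∀ z, InJ M L e z → ec h χ * z ∈ Cf (RL M L) G := by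
    intro z hz g
    rw [coeff_ec_mul, tau_corner h χ hz.inE.left hz.inE.right]
    have h1 : InJ M L e (z * (e * sg g⁻¹ * e)) :=
      he.J_mul_right hM hL hz (he.corner (Cf_single g⁻¹))
    have h2 := div_p_mem hM hL (tau_mem hM hL h χ (Cf_mono RL_le' h1.inE.mem))
      (tau_memI_of_J hM hL h χ h1)
    have h3 : uu p χ / p * tau h χ (z * (e * sg g⁻¹ * e)) =
        uu p χ * (tau h χ (z * (e * sg g⁻¹ * e)) / p) := by ring
    rw [h3]
    exact (RL M L).mul_mem ⟨uu_mem χ, uu_memR hM h χ⟩ h2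
  have hE : InE M L e (ec h χ * z) := by
    refine ⟨hmem z hz, ?_, ?_⟩
    · rw [← mul_assoc, eps_comm, mul_assoc, hz.inE.left]
    · rw [mul_assoc, hz.inE.right]
  refine ⟨hE, ?_⟩
  obtain ⟨k, hk⟩ := hz.nilp
  obtain ⟨b, hb, hbz⟩ := exists_div hM hL.prop (Cf_mono RL_le' (pow_mem hz.inE.mem (k + 1))) hk
  have hbE : InE M L e b := by
    have h1 : b = (p : ℂ)⁻¹ • z ^ (k + 1) := by rw [hbz, smul_smul, inv_mul_cancel₀ hp0, one_smul]
    refine ⟨hb, ?_, ?_⟩
    · rw [h1, mul_smul_comm, (hz.inE.pow k).left]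
    · rw [h1, smul_mul_assoc, (hz.inE.pow k).right]
  have hpb : InJ M L e (z ^ (k + 1)) := he.p_mem hM (hz.inE.pow k) hk
  have hpow : ∀ n : ℕ, (ec h χ * z) ^ (n + 1) = ec h χ * z ^ (n + 1) := by
    intro n
    induction n with
    | zero => rw [zero_add, pow_one, pow_one]
    | succ n ih =>
      calc (ec h χ * z) ^ (n + 1 + 1) = ec h χ * z ^ (n + 1) * (ec h χ * z) := by rw [pow_succ, ih]
        _ = ec h χ * (z ^ (n + 1) * ec h χ) * z := by simp only [mul_assoc]
        _ = ec h χ * ec h χ * z ^ (n + 1) * z := by rw [eps_comm]; simp only [mul_assoc]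
        _ = ec h χ * z ^ (n + 1 + 1) := by rw [eps_mul_self, mul_assoc, ← pow_succ]
  refine ⟨k + 1 + k, ?_⟩
  have h1 : (ec h χ * z) ^ (k + 1 + k + 1) = (p : ℂ) • ((ec h χ * z ^ (k + 1)) * b) := by
    rw [hpow]
    have h2 : z ^ (k + 1 + k + 1) = z ^ (k + 1) * z ^ (k + 1) := by rw [← pow_add, ← add_assoc]
    rw [h2]
    nth_rewrite 2 [hbz]
    rw [mul_smul_comm, mul_smul_comm, mul_assoc]
  rw [h1]
  exact MI_smul (memI_p hM) (Cf_mono RL_le (mul_mem (hmem _ hpb) hb))

theorem ec_e_idem (h : Once p G) (he : e * e = e) (χ : IrrCharacter G) :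
    (ec h χ * e) * (ec h χ * e) = ec h χ * e := by
  rw [mul_assoc, ← mul_assoc e, eps_comm, mul_assoc, he, ← mul_assoc, eps_mul_self]

theorem Prim.scal (hM : IsPModular p M) (hL : Maximal (IsUr M p) L) (h : Once p G) (he : Prim M L e)
    (χ : IrrCharacter G) (hne : ec h χ * e ≠ 0) {s : ℂ} (hs : s ∈ RL M L)
    (hJ : InJ M L e (s • (ec h χ * e))) : MemLocalIdeal M s := by
  by_contra hsI
  have hs0 := ne_zero_of_not_memI hsI
  have h1 := he.J_smul hM hL hJ (c := s⁻¹) ⟨L.inv_mem hs.1, memR_inv hs.2 hsI⟩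
  rw [smul_smul, inv_mul_cancel₀ hs0, one_smul] at h1
  obtain ⟨k, hk⟩ := h1.nilp
  have hid := ec_e_idem h he.idem χ
  have hpow : ∀ n : ℕ, (ec h χ * e) ^ (n + 1) = ec h χ * e := by
    intro n
    induction n with
    | zero => rw [zero_add, pow_one]
    | succ n ih => rw [pow_succ, ih, hid]
  rw [hpow] at hk
  exact not_MI_idem hM hL.prop h1.inE.mem hid hne hk

/-- multiplicity: constant on classes -/
theorem ev_cls (hM : IsPModular p M) (h : Once p G) (heR : e ∈ Cf (LocR.subring M) G) (he : e * e = e)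
    {χ ψ : IrrCharacter G} (hψ : ψ ∈ cls h χ) : ev (ψ : G → ℂ) e = ev (χ : G → ℂ) e := by
  rw [ev_eq_inner (CharBasic.irr_classFun ψ.2) he, ev_eq_inner (CharBasic.irr_classFun χ.2) he]
  unfold classInner
  congr 1
  refine Finset.sum_congr rfl fun g _ => ?_
  by_cases hg : p ∣ orderOf g
  · rw [Phi_singular hM heR he hg, map_zero, mul_zero, mul_zero]
  · rw [cls_reg hψ hg]

theorem tau_e (hM : IsPModular p M) (h : Once p G) (heR : e ∈ Cf (LocR.subring M) G) (he : e * e = e)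
    (χ : IrrCharacter G) : tau h χ e = (cls h χ).card * ev (χ : G → ℂ) e := by
  unfold tau
  rw [Finset.sum_congr rfl fun ψ hψ => ev_cls hM h heR he hψ, Finset.sum_const, nsmul_eq_mul]

/-- the scalars `β` -/
noncomputable def be (h : Once p G) (e : MonoidAlgebra ℂ G) (χ : IrrCharacter G) : ℂ :=
  uu p χ * tau h χ e

theorem be_mem (hM : IsPModular p M) (hL : Maximal (IsUr M p) L) (h : Once p G) (he : Prim M L e)
    (χ : IrrCharacter G) : be h e χ ∈ RL M L :=
  ⟨L.mul_mem (uu_mem χ) (tau_mem hM hL h χ (Cf_mono RL_le' he.mem)),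
    memR_mul (uu_memR hM h χ) (memR_sum fun ψ _ => memR_ev (irr_isCharacter ψ.2) (Cf_mono RL_le he.mem))⟩

theorem Prim.tau_congr (hM : IsPModular p M) (hL : Maximal (IsUr M p) L) (h : Once p G)
    (he : Prim M L e) (χ : IrrCharacter G) {b : MonoidAlgebra ℂ G} {r : ℂ}
    (hJ : InJ M L e (b - r • e)) : MemLocalIdeal M (uu p χ * tau h χ b - be h e χ * r) := by
  have h1 := memI_mul_left (uu_memR hM h χ) (tau_memI_of_J hM hL h χ hJ)
  rw [tau_sub, tau_smul] at h1
  have h2 : uu p χ * tau h χ b - be h e χ * r = uu p χ * (tau h χ b - r * tau h χ e) := by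
    unfold be; ring
  rw [h2]
  exact h1

theorem ec_disj (h : Once p G) {χ ψ : IrrCharacter G} (hne : cls h χ ≠ cls h ψ) : ec h χ * ec h ψ = 0 := by
  apply eps_mul_disj
  rw [Finset.disjoint_left]
  intro θ h1 h2
  exact hne (cls_eq_of_mem h1 h2)

/-- `β` is a unit when there is another component -/
theorem Prim.be_unit (hM : IsPModular p M) (hL : Maximal (IsUr M p) L) (h : Once p G)
    (he : Prim M L e) {χ ψ : IrrCharacter G} (hχ : ec h χ * e ≠ 0) (hψ : ec h ψ * e ≠ 0)
    (hne : cls h χ ≠ cls h ψ) : ¬ MemLocalIdeal M (be h e χ) := by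
  intro hI
  have hmem : ec h χ * e ∈ Cf (RL M L) G := by
    intro g
    rw [coeff_ec_mul, tau_corner h χ he.idem he.idem]
    have hb := he.corner (Cf_single (S := RL M L) g⁻¹)
    obtain ⟨r, hr, hJ⟩ := he.exists_res hM hL hb
    have h0 : e * (e * sg g⁻¹ * e) = e * sg g⁻¹ * e := hb.left
    rw [h0]
    have h1 := he.tau_congr hM hL h χ hJ
    have h2 : MemLocalIdeal M (uu p χ * tau h χ (e * sg g⁻¹ * e)) := by
      have h3 := memI_add h1 (memI_mul_right hI hr.2)
      rwa [sub_add_cancel] at h3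
    have h3 := div_p_mem hM hL (L.mul_mem (uu_mem χ) (tau_mem hM hL h χ (Cf_mono RL_le' hb.mem))) h2
    have h4 : uu p χ / p * tau h χ (e * sg g⁻¹ * e) = uu p χ * tau h χ (e * sg g⁻¹ * e) / p := by ring
    rw [h4]
    exact h3
  rcases he.prim _ hmem (ec_e_idem h he.idem χ) (by rw [← mul_assoc, eps_comm, mul_assoc, he.idem])
    (by rw [mul_assoc, he.idem]) with h1 | h1
  · exact hχ h1
  · apply hψ
    rw [← h1, ← mul_assoc, ec_disj h (Ne.symm hne), zero_mul]

/-- at most two components -/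
theorem Prim.two (hM : IsPModular p M) (hL : Maximal (IsUr M p) L) (h : Once p G)
    (he : Prim M L e) {χ ψ θ : IrrCharacter G} (hχ : ec h χ * e ≠ 0) (hψ : ec h ψ * e ≠ 0)
    (hθ : ec h θ * e ≠ 0) (h1 : cls h χ ≠ cls h ψ) (h2 : cls h χ ≠ cls h θ)
    (h3 : cls h ψ ≠ cls h θ) : False := by
  have hβ := he.be_unit hM hL h hψ hχ (Ne.symm h1)
  set y := be h e ψ • (ec h χ * e) - be h e χ • (ec h ψ * e) with hy
  have hyE : InE M L e y := by
    refine ⟨?_, ?_, ?_⟩
    · intro g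
      rw [hy, BrP.sub_coeff, BrP.smul_coeff, BrP.smul_coeff, coeff_ec_mul, coeff_ec_mul,
        tau_corner h χ he.idem he.idem, tau_corner h ψ he.idem he.idem]
      have hb := he.corner (Cf_single (S := RL M L) g⁻¹)
      obtain ⟨r, hr, hJ⟩ := he.exists_res hM hL hb
      rw [show e * (e * sg g⁻¹ * e) = e * sg g⁻¹ * e from hb.left]
      have e1 := he.tau_congr hM hL h χ hJ
      have e2 := he.tau_congr hM hL h ψ hJ
      have e3 := memI_sub (memI_mul_left (be_mem hM hL h he ψ).2 e1)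
        (memI_mul_left (be_mem hM hL h he χ).2 e2)
      have e4 : be h e ψ * (uu p χ * tau h χ (e * sg g⁻¹ * e) - be h e χ * r) -
          be h e χ * (uu p ψ * tau h ψ (e * sg g⁻¹ * e) - be h e ψ * r) =
          be h e ψ * (uu p χ * tau h χ (e * sg g⁻¹ * e)) -
          be h e χ * (uu p ψ * tau h ψ (e * sg g⁻¹ * e)) := by ring
      rw [e4] at e3
      have e5 := div_p_mem hM hL (L.sub_mem
        (L.mul_mem (be_mem hM hL h he ψ).1 (L.mul_mem (uu_mem χ) (tau_mem hM hL h χ (Cf_mono RL_le' hb.mem))))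
        (L.mul_mem (be_mem hM hL h he χ).1 (L.mul_mem (uu_mem ψ) (tau_mem hM hL h ψ (Cf_mono RL_le' hb.mem))))) e3
      convert e5 using 1
      ring
    · rw [hy, mul_sub, mul_smul_comm, mul_smul_comm, ← mul_assoc, ← mul_assoc, eps_comm, eps_comm,
        mul_assoc, mul_assoc, he.idem]
    · rw [hy, sub_mul, smul_mul_assoc, smul_mul_assoc, mul_assoc, mul_assoc, he.idem]
  obtain ⟨r, hr, hJ⟩ := he.exists_res hM hL hyE
  -- multiply by the idempotent of θ
  have k1 := he.ecJ hM hL h θ hJ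
  have k2 : ec h θ * (y - r • e) = (-r) • (ec h θ * e) := by
    rw [hy, mul_sub, mul_sub, mul_smul_comm, mul_smul_comm, ← mul_assoc, ← mul_assoc,
      ec_disj h (Ne.symm h2), ec_disj h (Ne.symm h3), zero_mul, smul_zero, smul_zero, sub_zero,
      zero_sub, mul_smul_comm, neg_smul]
  rw [k2] at k1
  have k3 := he.scal hM hL h θ hθ (neg_mem hr) k1
  rw [memI_neg_iff] at k3
  -- multiply by the idempotent of χ
  have k4 := he.ecJ hM hL h χ hJ
  have k5 : ec h χ * (y - r • e) = (be h e ψ - r) • (ec h χ * e) := by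
    rw [hy, mul_sub, mul_sub, mul_smul_comm, mul_smul_comm, ← mul_assoc, ← mul_assoc,
      eps_mul_self, ec_disj h h1, zero_mul, smul_zero, sub_zero, mul_smul_comm, sub_smul]
  rw [k5] at k4
  have k6 := he.scal hM hL h χ hχ (sub_mem (be_mem hM hL h he ψ) hr) k4
  apply hβ
  have k7 := memI_add k6 k3
  rwa [sub_add_cancel] at k7

end Comp

end CfsgLib.Ur
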