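import Mathlib
import Cfsg.Agent.EqBase
import Cfsg.Agent.LibUr12
import Cfsg.Agent.LibBrP7

/-!
# Components of local corner rings when `p` divides the order once: multiplicity one (helper17)
-/

set_option autoImplicit false
set_option linter.unusedSectionVars false
set_option linter.style.haveILetI false
set_option linter.unusedSimpArgs false
set_option linter.unusedVariables false

namespace CfsgLib.Ur

open Cfsg CfsgLib.LocR CfsgLib.CharBasic CfsgLib.CharIndA
open scoped ComplexConjugate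

universe u
variable {M : Ideal AlgInt} {p : ℕ} {G : Type u} [Group G] [Fintype G]

section Comp
variable [M.IsPrime] {L : Subfield ℂ} {e : MonoidAlgebra ℂ G}

/-- the component algebra -/
structure InA (L : Subfield ℂ) (e : MonoidAlgebra ℂ G) (h : Once p G) (χ : IrrCharacter G)
    (x : MonoidAlgebra ℂ G) : Prop where
  mem : x ∈ Cf L.toSubring G
  left : e * x = x
  right : x * e = x
  comp : ec h χ * x = x

/-- the component order -/
def InO (M : Ideal AlgInt) [M.IsPrime] (L : Subfield ℂ) (e : MonoidAlgebra ℂ G) (h : Once p G)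
    (χ : IrrCharacter G) (x : MonoidAlgebra ℂ G) : Prop :=
  ∃ a, InE M L e a ∧ x = ec h χ * a

theorem ec_right (h : Once p G) (χ : IrrCharacter G) {x : MonoidAlgebra ℂ G} (hx : ec h χ * x = x) :
    x * ec h χ = x := by rw [eps_comm, hx]

/-- F2 -/
theorem F2 (hM : IsPModular p M) (hL : Maximal (IsUr M p) L) (h : Once p G) (he : Prim M L e)
    {χ ψ : IrrCharacter G} (hψ : ec h ψ * e ≠ 0) (hne : cls h χ ≠ cls h ψ)
    {x : MonoidAlgebra ℂ G} (hx : InA L e h χ x)
    (ht : ∀ a, InE M L e a → MemLocalIdeal M (tau h χ (x * a))) : InJ M L e x := by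
  have hE : InE M L e x := by
    refine ⟨?_, hx.left, hx.right⟩
    intro g
    rw [← hx.comp, coeff_ec_mul, tau_corner h χ hx.left hx.right]
    have hb := he.corner (Cf_single (S := RL M L) g⁻¹)
    have h3 := div_p_mem hM hL (tau_mem hM hL h χ (mul_mem hx.mem (Cf_mono RL_le' hb.mem))) (ht _ hb)
    have h4 : uu p χ / p * tau h χ (x * (e * sg g⁻¹ * e)) =
      uu p χ * (tau h χ (x * (e * sg g⁻¹ * e)) / p) := by ring
    rw [h4]
    exact (RL M L).mul_mem ⟨uu_mem χ, uu_memR hM h χ⟩ h3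
  rcases he.dich hM hL hE with h1 | ⟨b, hb, hxb, hbx⟩
  · exact h1
  · exfalso
    apply hψ
    rw [← hxb, ← hx.comp, mul_assoc, ← mul_assoc, ec_disj h (Ne.symm hne), zero_mul]

/-- F3 -/
theorem F3 (hM : IsPModular p M) (hL : Maximal (IsUr M p) L) (h : Once p G) (he : Prim M L e)
    {χ ψ : IrrCharacter G} (hχ : ec h χ * e ≠ 0) (hψ : ec h ψ * e ≠ 0) (hne : cls h χ ≠ cls h ψ)
    {x : MonoidAlgebra ℂ G} (hx : InA L e h χ x)
    (ht : ∀ z, InJ M L e z → MemLocalIdeal M (tau h χ (x * z))) : InO M L e h χ x := by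
  have hp0 : (p : ℂ) ≠ 0 := by exact_mod_cast h.prime.ne_zero
  have hβ := he.be_unit hM hL h hψ hχ (Ne.symm hne)
  have hβ0 := ne_zero_of_not_memI hβ
  have hβm := be_mem hM hL h he ψ
  have hpe : InJ M L e ((p : ℂ) • e) :=
    he.p_mem hM (he.inE.smul ⟨hL.prop.mem_p, memR_natCast p⟩) (MI_smul (memI_p hM) (Cf_mono RL_le he.mem))
  have hτ : tau h χ x ∈ RL M L := by
    have h1 := ht _ hpe
    rw [mul_smul_comm, hx.right, tau_smul] at h1
    have h2 := div_p_mem hM hL (L.mul_mem hL.prop.mem_p (tau_mem hM hL h χ hx.mem)) h1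
    rwa [mul_div_cancel_left₀ _ hp0] at h2
  set s : ℂ := -(uu p χ * tau h χ x / be h e ψ) with hs
  have hsR : s ∈ RL M L := by
    rw [hs, div_eq_mul_inv]
    exact neg_mem (mul_mem (mul_mem ⟨uu_mem χ, uu_memR hM h χ⟩ hτ)
      ⟨L.inv_mem hβm.1, memR_inv hβm.2 hβ⟩)
  have hsβ : s * be h e ψ = -(uu p χ * tau h χ x) := by
    rw [hs, neg_mul, div_mul_cancel₀ _ hβ0]
  have hE : InE M L e (x + s • (ec h ψ * e)) := by
    refine ⟨?_, ?_, ?_⟩
    · intro g
      rw [← hx.comp, BrP.add_coeff, BrP.smul_coeff, coeff_ec_mul, coeff_ec_mul,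
        tau_corner h χ hx.left hx.right, tau_corner h ψ he.idem he.idem]
      have hb := he.corner (Cf_single (S := RL M L) g⁻¹)
      obtain ⟨r, hr, hJ⟩ := he.exists_res hM hL hb
      rw [show e * (e * sg g⁻¹ * e) = e * sg g⁻¹ * e from hb.left]
      set b := e * sg g⁻¹ * e with hbdef
      have e1 : MemLocalIdeal M (uu p χ * tau h χ (x * (b - r • e))) :=
        memI_mul_left (uu_memR hM h χ) (ht _ hJ)
      rw [mul_sub, mul_smul_comm, hx.right, tau_sub, tau_smul] at e1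
      have e2 := he.tau_congr hM hL h ψ hJ
      have e3 := memI_add e1 (memI_mul_left hsR.2 e2)
      have e4 : uu p χ * (tau h χ (x * b) - r * tau h χ x) + s * (uu p ψ * tau h ψ b - be h e ψ * r) =
          uu p χ * tau h χ (x * b) + s * (uu p ψ * tau h ψ b) := by
        linear_combination (-r) * hsβ
      rw [e4] at e3
      have e5 := div_p_mem hM hL (L.add_mem
        (L.mul_mem (uu_mem χ) (tau_mem hM hL h χ (mul_mem hx.mem (Cf_mono RL_le' hb.mem))))
        (L.mul_mem hsR.1 (L.mul_mem (uu_mem ψ) (tau_mem hM hL h ψ (Cf_mono RL_le' hb.mem))))) e3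
      convert e5 using 1
      ring
    · rw [mul_add, mul_smul_comm, ← mul_assoc, eps_comm, mul_assoc, he.idem, hx.left]
    · rw [add_mul, smul_mul_assoc, mul_assoc, he.idem, hx.right]
  refine ⟨_, hE, ?_⟩
  rw [mul_add, mul_smul_comm, ← mul_assoc, ec_disj h hne, zero_mul, smul_zero, add_zero, hx.comp]

theorem InO.inA (hL : Maximal (IsUr M p) L) {h : Once p G} {χ : IrrCharacter G}
    (hecL : ec h χ * e ∈ Cf L.toSubring G) (he : e * e = e)
    {x : MonoidAlgebra ℂ G} (hx : InO M L e h χ x) : InA L e h χ x := by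
  obtain ⟨a, ha, rfl⟩ := hx
  refine ⟨?_, ?_, ?_, ?_⟩
  · have h1 : ec h χ * a = (ec h χ * e) * a := by rw [mul_assoc, ha.left]
    rw [h1]
    exact mul_mem hecL (Cf_mono RL_le' ha.mem)
  · rw [← mul_assoc, eps_comm, mul_assoc, ha.left]
  · rw [mul_assoc, ha.right]
  · rw [← mul_assoc, eps_mul_self]

theorem ec_e_mem (hM : IsPModular p M) (hL : Maximal (IsUr M p) L) (h : Once p G)
    (he : Prim M L e) (χ : IrrCharacter G) : ec h χ * e ∈ Cf L.toSubring G := by
  intro g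
  rw [coeff_ec_mul]
  refine L.mul_mem (L.div_mem (uu_mem χ) hL.prop.mem_p) ?_
  rw [tau_corner h χ he.idem he.idem]
  have hb := he.corner (Cf_single (S := RL M L) g⁻¹)
  exact tau_mem hM hL h χ (mul_mem (Cf_mono RL_le' he.mem) (Cf_mono RL_le' hb.mem))

theorem InO.add {h : Once p G} {χ : IrrCharacter G} {x y : MonoidAlgebra ℂ G}
    (hx : InO M L e h χ x) (hy : InO M L e h χ y) : InO M L e h χ (x + y) := by
  obtain ⟨a, ha, rfl⟩ := hx
  obtain ⟨b, hb, rfl⟩ := hy
  exact ⟨a + b, ha.add hb, by rw [mul_add]⟩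

theorem InO.sub {h : Once p G} {χ : IrrCharacter G} {x y : MonoidAlgebra ℂ G}
    (hx : InO M L e h χ x) (hy : InO M L e h χ y) : InO M L e h χ (x - y) := by
  obtain ⟨a, ha, rfl⟩ := hx
  obtain ⟨b, hb, rfl⟩ := hy
  exact ⟨a - b, ha.sub hb, by rw [mul_sub]⟩

theorem InO.smul {h : Once p G} {χ : IrrCharacter G} {x : MonoidAlgebra ℂ G} {c : ℂ}
    (hc : c ∈ RL M L) (hx : InO M L e h χ x) : InO M L e h χ (c • x) := by
  obtain ⟨a, ha, rfl⟩ := hx
  exact ⟨c • a, ha.smul hc, by rw [mul_smul_comm]⟩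

theorem InO.mul {h : Once p G} {χ : IrrCharacter G} {x y : MonoidAlgebra ℂ G}
    (hx : InO M L e h χ x) (hy : InO M L e h χ y) : InO M L e h χ (x * y) := by
  obtain ⟨a, ha, rfl⟩ := hx
  obtain ⟨b, hb, rfl⟩ := hy
  refine ⟨a * b, ha.mul hb, ?_⟩
  calc ec h χ * a * (ec h χ * b) = ec h χ * (a * ec h χ) * b := by simp only [mul_assoc]
    _ = ec h χ * ec h χ * a * b := by rw [eps_comm]; simp only [mul_assoc]
    _ = ec h χ * (a * b) := by rw [eps_mul_self, mul_assoc]

theorem InO.of_J {h : Once p G} {χ : IrrCharacter G} {x : MonoidAlgebra ℂ G}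
    (hx : InJ M L e x) (hc : ec h χ * x = x) : InO M L e h χ x := ⟨x, hx.inE, hc.symm⟩

theorem InO.one {h : Once p G} {χ : IrrCharacter G} (he : Prim M L e) : InO M L e h χ (ec h χ * e) :=
  ⟨e, he.inE, rfl⟩

/-- `J·O ⊆ J` -/
theorem J_mul_O (hM : IsPModular p M) (hL : Maximal (IsUr M p) L) {h : Once p G} (he : Prim M L e)
    {χ : IrrCharacter G} {z x : MonoidAlgebra ℂ G} (hz : InJ M L e z) (hx : InO M L e h χ x) :
    InJ M L e (z * x) := by
  obtain ⟨a, ha, rfl⟩ := hx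
  have h1 : z * (ec h χ * a) = ec h χ * (z * a) := by
    rw [← mul_assoc, eps_comm, mul_assoc]
  rw [h1]
  exact he.ecJ hM hL h χ (he.J_mul_right hM hL hz ha)

theorem O_mul_J (hM : IsPModular p M) (hL : Maximal (IsUr M p) L) {h : Once p G} (he : Prim M L e)
    {χ : IrrCharacter G} {z x : MonoidAlgebra ℂ G} (hz : InJ M L e z) (hx : InO M L e h χ x) :
    InJ M L e (x * z) := by
  obtain ⟨a, ha, rfl⟩ := hx
  rw [mul_assoc]
  exact he.ecJ hM hL h χ (he.J_mul_left hM hL hz ha)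

theorem pO_J (hM : IsPModular p M) (hL : Maximal (IsUr M p) L) {h : Once p G} (he : Prim M L e)
    {χ : IrrCharacter G} {x : MonoidAlgebra ℂ G} (hx : InO M L e h χ x) :
    InJ M L e ((p : ℂ) • x) := by
  obtain ⟨a, ha, rfl⟩ := hx
  rw [← mul_smul_comm]
  exact he.ecJ hM hL h χ (he.p_mem hM (ha.smul ⟨hL.prop.mem_p, memR_natCast p⟩)
    (MI_smul (memI_p hM) (Cf_mono RL_le ha.mem)))

/-- reduction of elements -/
noncomputable def rdv (M : Ideal AlgInt) [M.IsPrime] (a : MonoidAlgebra ℂ G) : G → BrP.kM M :=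
  fun g => BrP.rd M (a.coeff g)

theorem rdv_add {a b : MonoidAlgebra ℂ G} (ha : a ∈ Cf (LocR.subring M) G)
    (hb : b ∈ Cf (LocR.subring M) G) : rdv M (a + b) = rdv M a + rdv M b := by
  funext g
  change BrP.rd M ((a + b).coeff g) = BrP.rd M (a.coeff g) + BrP.rd M (b.coeff g)
  rw [BrP.add_coeff, BrP.rd_add (ha g) (hb g)]

theorem rdv_smul {a : MonoidAlgebra ℂ G} (ha : a ∈ Cf (LocR.subring M) G) {c : ℂ}
    (hc : MemLocalRing M c) : rdv M (c • a) = BrP.rd M c • rdv M a := by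
  funext g
  change BrP.rd M ((c • a).coeff g) = BrP.rd M c * BrP.rd M (a.coeff g)
  rw [BrP.smul_coeff, BrP.rd_mul hc (ha g)]

theorem rdv_eq {a b : MonoidAlgebra ℂ G} (ha : a ∈ Cf (LocR.subring M) G)
    (hb : b ∈ Cf (LocR.subring M) G) (h : rdv M a = rdv M b) : MI M (a - b) := by
  intro g
  have h1 : BrP.rd M (a.coeff g) = BrP.rd M (b.coeff g) := congrFun h g
  rw [BrP.rd_eq_iff (ha g) (hb g)] at h1
  rw [BrP.sub_coeff]
  exact h1

end Comp

end CfsgLib.Ur
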