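import Mathlib
import Cfsg.Agent.EqBase
import Cfsg.Agent.LibUr13

/-!
# Components of local corner rings when `p` divides the order once: principal radical,
multiplicity one (helper17)
-/

set_option autoImplicit false
set_option linter.unusedSectionVars false
set_option linter.style.haveILetI false
set_option linter.unusedSimpArgs false
set_option linter.unusedVariables false

namespace CfsgLib.Ur

open Cfsg CfsgLib.LocR CfsgLib.CharBasic CfsgLib.CharIndA
open scoped ComplexConjugate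

universe u
variable {M : Ideal AlgInt} {p : ℕ} {G : Type u} [Group G] [Fintype G]

section Comp
variable [M.IsPrime] {L : Subfield ℂ} {e : MonoidAlgebra ℂ G}

/-- the subspace `y O + p O` modulo `p` -/
noncomputable def NN (hM : IsPModular p M) (hL : Maximal (IsUr M p) L) (h : Once p G)
    (he : Prim M L e) (χ : IrrCharacter G) (y : MonoidAlgebra ℂ G) (hy : InJ M L e y) :
    Submodule (BrP.kM M) (G → BrP.kM M) where
  carrier := {v | ∃ o o', InO M L e h χ o ∧ InO M L e h χ o' ∧ v = rdv M (y * o + (p : ℂ) • o')}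
  add_mem' := by
    rintro _ _ ⟨o, o', ho, ho', rfl⟩ ⟨q, q', hq, hq', rfl⟩
    refine ⟨o + q, o' + q', ho.add hq, ho'.add hq', ?_⟩
    have h1 : ∀ {o o'}, InO M L e h χ o → InO M L e h χ o' →
        y * o + (p : ℂ) • o' ∈ Cf (LocR.subring M) G := fun ho ho' =>
      Cf_mono RL_le (add_mem (J_mul_O hM hL he hy ho).inE.mem (pO_J hM hL he ho').inE.mem)
    rw [← rdv_add (h1 ho ho') (h1 hq hq')]
    congr 1
    rw [mul_add, smul_add]; abel
  zero_mem' := by
    refine ⟨0, 0, ⟨0, ⟨zero_mem _, mul_zero _, zero_mul _⟩, (mul_zero _).symm⟩,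
      ⟨0, ⟨zero_mem _, mul_zero _, zero_mul _⟩, (mul_zero _).symm⟩, ?_⟩
    funext g
    change (0 : BrP.kM M) = BrP.rd M ((y * 0 + (p : ℂ) • (0 : MonoidAlgebra ℂ G)).coeff g)
    rw [mul_zero, smul_zero, add_zero]
    exact BrP.rd_zero.symm
  smul_mem' := by
    rintro c _ ⟨o, o', ho, ho', rfl⟩
    obtain ⟨z, hz, rfl⟩ := BrP.rd_surj c
    obtain ⟨r, hr, hzr⟩ := Ur.exists_res hM hL hz
    refine ⟨r • o, r • o', ho.smul hr, ho'.smul hr, ?_⟩
    have h1 : y * o + (p : ℂ) • o' ∈ Cf (LocR.subring M) G :=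
      Cf_mono RL_le (add_mem (J_mul_O hM hL he hy ho).inE.mem (pO_J hM hL he ho').inE.mem)
    rw [(BrP.rd_eq_iff hz hr.2).mpr hzr, ← rdv_smul h1 hr.2]
    congr 1
    rw [smul_add, mul_smul_comm, smul_comm]

theorem exists_x (hM : IsPModular p M) (hL : Maximal (IsUr M p) L) (h : Once p G) (he : Prim M L e)
    {χ ψ : IrrCharacter G} (hχ : ec h χ * e ≠ 0) (hψ : ec h ψ * e ≠ 0) (hne : cls h χ ≠ cls h ψ) :
    ∃ x, InA L e h χ x ∧ ¬ InO M L e h χ x ∧ ∀ z, InJ M L e z → ec h χ * z = z →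
      InO M L e h χ (x * z) := by
  classical
  have hp0 : (p : ℂ) ≠ 0 := by exact_mod_cast h.prime.ne_zero
  have hpL : ((p : ℂ)⁻¹) ∈ L := L.inv_mem hL.prop.mem_p
  have hεL := ec_e_mem hM hL h he χ
  have hεright : ∀ {y : MonoidAlgebra ℂ G}, y * e = y → ec h χ * y = y → y * (ec h χ * e) = y := by
    intro y h1 h2
    rw [← mul_assoc, eps_comm, h2, h1]
  by_cases hA : ∀ z, InJ M L e z → ec h χ * z = z → ∃ o, InO M L e h χ o ∧ z = (p : ℂ) • o
  · refine ⟨(p : ℂ)⁻¹ • (ec h χ * e), ⟨Cf_smul hpL hεL, ?_, ?_, ?_⟩, ?_, ?_⟩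
    · rw [mul_smul_comm, ← mul_assoc, eps_comm, mul_assoc, he.idem]
    · rw [smul_mul_assoc, mul_assoc, he.idem]
    · rw [mul_smul_comm, ← mul_assoc, eps_mul_self]
    · rintro ⟨a, ha, hxa⟩
      obtain ⟨r, hr, hJ⟩ := he.exists_res hM hL ha
      have h1 := he.ecJ hM hL h χ hJ
      have h2 := he.J_smul hM hL h1 (c := (p : ℂ)) ⟨hL.prop.mem_p, memR_natCast p⟩
      have h3 : (p : ℂ) • (ec h χ * (a - r • e)) = (1 - p * r) • (ec h χ * e) := by
        rw [mul_sub, ← hxa, mul_smul_comm, smul_sub, smul_smul, smul_smul, mul_inv_cancel₀ hp0,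
          ← sub_smul]
      rw [h3] at h2
      have h4 := he.scal hM hL h χ hχ
        (sub_mem (RL M L).one_mem (mul_mem ⟨hL.prop.mem_p, memR_natCast p⟩ hr)) h2
      have h5 := memI_add h4 (memI_mul_right (memI_p hM) hr.2)
      rw [sub_add_cancel] at h5
      exact not_memI_one h5
    · intro z hz hcz
      obtain ⟨o, ho, hzo⟩ := hA z hz hcz
      have h1 : (p : ℂ)⁻¹ • (ec h χ * e) * z = o := by
        rw [smul_mul_assoc, mul_assoc, hz.inE.left, hcz, hzo, smul_smul, inv_mul_cancel₀ hp0, one_smul]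
      rw [h1]; exact ho
  · push Not at hA
    obtain ⟨y₀, hy₀, hcy₀, hny₀⟩ := hA
    -- minimal dimension
    let P : ℕ → Prop := fun n => ∃ (y : MonoidAlgebra ℂ G) (hy : InJ M L e y), ec h χ * y = y ∧
      (∀ o, InO M L e h χ o → y ≠ (p : ℂ) • o) ∧
      Module.finrank (BrP.kM M) (NN hM hL h he χ y hy) = n
    have hex : ∃ n, P n := ⟨_, y₀, hy₀, hcy₀, hny₀, rfl⟩
    obtain ⟨y, hy, hcy, hny, hn⟩ := Nat.find_spec hex
    have hmin : ∀ (y' : MonoidAlgebra ℂ G) (hy' : InJ M L e y'), ec h χ * y' = y' →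
        (∀ o, InO M L e h χ o → y' ≠ (p : ℂ) • o) →
        Module.finrank (BrP.kM M) (NN hM hL h he χ y hy) ≤
          Module.finrank (BrP.kM M) (NN hM hL h he χ y' hy') := by
      intro y' hy' h1 h2
      rw [hn]
      exact Nat.find_min' hex ⟨y', hy', h1, h2, rfl⟩
    have key : ∀ z, InJ M L e z → ec h χ * z = z → ∃ o, InO M L e h χ o ∧ y * z = (p : ℂ) • o := by
      intro z hz hcz
      by_contra hcon
      push Not at hcon
      have hyz : InJ M L e (y * z) := he.J_mul_right hM hL hy hz.inE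
      have hcyz : ec h χ * (y * z) = y * z := by rw [← mul_assoc, hcy]
      have hle : NN hM hL h he χ (y * z) hyz ≤ NN hM hL h he χ y hy := by
        rintro _ ⟨o, o', ho, ho', rfl⟩
        exact ⟨z * o, o', (InO.of_J hz hcz).mul ho, ho', by rw [mul_assoc]⟩
      have heq := Submodule.eq_of_le_of_finrank_le hle (hmin _ hyz hcyz hcon)
      have hymem : rdv M y ∈ NN hM hL h he χ y hy := by
        refine ⟨ec h χ * e, 0, InO.one he, ⟨0, ⟨zero_mem _, mul_zero _, zero_mul _⟩, (mul_zero _).symm⟩, ?_⟩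
        rw [hεright hy.inE.right hcy, smul_zero, add_zero]
      rw [← heq] at hymem
      obtain ⟨o, o', ho, ho', hv⟩ := hymem
      have hJ1 : InJ M L e (y * z * o) := J_mul_O hM hL he hyz ho
      have hJ2 := pO_J hM hL he ho'
      have hMI := rdv_eq (Cf_mono RL_le hy.inE.mem)
        (Cf_mono RL_le (add_mem hJ1.inE.mem hJ2.inE.mem)) hv
      have hJ3 : InJ M L e (y - (y * z * o + (p : ℂ) • o')) := he.J_sub hM hL hy (he.J_add hM hL hJ1 hJ2)
      obtain ⟨b, hb, hbe⟩ := exists_div hM hL.prop (Cf_mono RL_le' hJ3.inE.mem) hMI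
      have hbb : b = (p : ℂ)⁻¹ • (y - (y * z * o + (p : ℂ) • o')) := by
        rw [hbe, smul_smul, inv_mul_cancel₀ hp0, one_smul]
      have hco' : ec h χ * o' = o' := (ho'.inA hL hεL he.idem).comp
      have hbE : InE M L e b := by
        refine ⟨hb, ?_, ?_⟩
        · rw [hbb, mul_smul_comm, hJ3.inE.left]
        · rw [hbb, smul_mul_assoc, hJ3.inE.right]
      have hbc : ec h χ * b = b := by
        rw [hbb, mul_smul_comm, mul_sub, mul_add, mul_smul_comm, hco', hcy, ← mul_assoc,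
          ← mul_assoc, hcy]
      have hbO : InO M L e h χ b := ⟨b, hbE, hbc.symm⟩
      -- `e - z o` is invertible
      have hzo : InJ M L e (z * o) := J_mul_O hM hL he hz ho
      have hE : InE M L e (e - z * o) := he.inE.sub hzo.inE
      rcases he.dich hM hL hE with h1 | ⟨c, hc, hc1, hc2⟩
      · exact he.not_J_sub hM hL hzo h1
      · have h2 : y * (e - z * o) = (p : ℂ) • (o' + b) := by
          rw [mul_sub, hy.inE.right, smul_add, ← hbe, ← mul_assoc]; abel
        have hcc : InO M L e h χ (ec h χ * c) := ⟨c, hc, rfl⟩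
        have hob : ec h χ * (o' + b) = o' + b := by rw [mul_add, hco', hbc]
        refine hny ((o' + b) * (ec h χ * c)) ((ho'.add hbO).mul hcc) ?_
        rw [← smul_mul_assoc, ← h2]
        have h3 : y * (e - z * o) * (ec h χ * c) = (ec h χ * y) * ((e - z * o) * c) := by
          calc y * (e - z * o) * (ec h χ * c) = y * ((e - z * o) * ec h χ) * c := by
                simp only [mul_assoc]
            _ = (y * ec h χ) * ((e - z * o) * c) := by rw [eps_comm]; simp only [mul_assoc]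
            _ = (ec h χ * y) * ((e - z * o) * c) := by rw [eps_comm _ y]
        rw [h3, hcy, hc1, hy.inE.right]
    have hyL : y ∈ Cf L.toSubring G := Cf_mono RL_le' hy.inE.mem
    refine ⟨(p : ℂ)⁻¹ • y, ⟨Cf_smul hpL hyL, ?_, ?_, ?_⟩, ?_, ?_⟩
    · rw [mul_smul_comm, hy.inE.left]
    · rw [smul_mul_assoc, hy.inE.right]
    · rw [mul_smul_comm, hcy]
    · intro hO
      exact hny _ hO (by rw [smul_smul, mul_inv_cancel₀ hp0, one_smul])
    · intro z hz hcz
      obtain ⟨o, ho, hzo⟩ := key z hz hcz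
      rw [smul_mul_assoc, hzo, smul_smul, inv_mul_cancel₀ hp0, one_smul]
      exact ho

/-- the radical of the component is principal -/
theorem exists_gen (hM : IsPModular p M) (hL : Maximal (IsUr M p) L) (h : Once p G) (he : Prim M L e)
    {χ ψ : IrrCharacter G} (hχ : ec h χ * e ≠ 0) (hψ : ec h ψ * e ≠ 0) (hne : cls h χ ≠ cls h ψ) :
    ∃ w x, InJ M L e w ∧ ec h χ * w = w ∧ InA L e h χ x ∧ w * x = ec h χ * e ∧
      x * w = ec h χ * e ∧ ∀ z, InJ M L e z → ec h χ * z = z → InO M L e h χ (x * z) := by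
  classical
  obtain ⟨x, hxA, hxO, hxz⟩ := exists_x hM hL h he hχ hψ hne
  have hxc : ∀ z : MonoidAlgebra ℂ G, x * (ec h χ * z) = x * z := by
    intro z
    rw [← mul_assoc, eps_comm, hxA.comp]
  have hex : ∃ z, InJ M L e z ∧ ¬ InJ M L e (x * z) := by
    by_contra hcon
    push Not at hcon
    exact hxO (F3 hM hL h he hχ hψ hne hxA fun z hz => tau_memI_of_J hM hL h χ (hcon z hz))
  obtain ⟨z, hz, hxz1⟩ := hex
  have hz' := he.ecJ hM hL h χ hz
  have hcz' : ec h χ * (ec h χ * z) = ec h χ * z := by rw [← mul_assoc, eps_mul_self]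
  obtain ⟨a, ha, hxa⟩ := hxz _ hz' hcz'
  rw [hxc] at hxa
  rcases he.dich hM hL ha with h1 | ⟨b, hb, hab, hba⟩
  · exact absurd (hxa ▸ he.ecJ hM hL h χ h1) hxz1
  · have hwJ : InJ M L e (ec h χ * z * b) := he.J_mul_right hM hL hz' hb
    have hwc : ec h χ * (ec h χ * z * b) = ec h χ * z * b := by
      rw [← mul_assoc, ← mul_assoc, eps_mul_self]
    have hxw : x * (ec h χ * z * b) = ec h χ * e := by
      rw [← mul_assoc, hxc, hxa, mul_assoc, hab]
    have hεw : ∀ {y : MonoidAlgebra ℂ G}, e * y = y → ec h χ * y = y → (ec h χ * e) * y = y := by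
      intro y h1 h2
      rw [mul_assoc, h1, h2]
    refine ⟨ec h χ * z * b, x, hwJ, hwc, hxA, ?_, hxw, hxz⟩
    set w := ec h χ * z * b with hw
    have h1 : (w * x) * (w * x) = w * x := by
      calc (w * x) * (w * x) = w * (x * w) * x := by simp only [mul_assoc]
        _ = w * ((ec h χ * e) * x) := by rw [hxw, mul_assoc]
        _ = w * x := by rw [hεw hxA.left hxA.comp]
    have h2 : (ec h χ * e) * (w * x) = w * x := by rw [← mul_assoc, hεw hwJ.inE.left hwc]
    have h3 : (w * x) * (ec h χ * e) = w * x := by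
      rw [mul_assoc, hxc, hxA.right]
    have h4 : (ec h χ * e - w * x) * (ec h χ * e - w * x) = ec h χ * e - w * x := by
      rw [mul_sub, sub_mul, sub_mul, ec_e_idem h he.idem, h1, h2, h3, sub_self, sub_zero]
    have h5 := idem_eq_zero h4 (by
      intro θ
      rw [ev_sub, ev_mul_comm (irr_isCharacter θ.2) w x, hxw, sub_self])
    exact (sub_eq_zero.mp h5).symm

end Comp

end CfsgLib.Ur
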