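import Mathlib
import Cfsg.Agent.EqBase
import Cfsg.Agent.LibUr14

/-!
# Multiplicity one for indecomposable projectives when `p` divides the order once (helper17)
-/

set_option autoImplicit false
set_option linter.unusedSectionVars false
set_option linter.style.haveILetI false
set_option linter.unusedSimpArgs false
set_option linter.unusedVariables false

namespace CfsgLib.Ur

open Cfsg CfsgLib.LocR CfsgLib.CharBasic CfsgLib.CharIndA
open Polynomial
open scoped ComplexConjugate

universe u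
variable {M : Ideal AlgInt} {p : ℕ} {G : Type u} [Group G] [Fintype G]

section Comp
variable [M.IsPrime] {L : Subfield ℂ} {e : MonoidAlgebra ℂ G}

/-- Krull intersection -/
theorem eq_zero_of_div (hM : IsPModular p M) (hL : Maximal (IsUr M p) L) (hp : p.Prime) {z : ℂ}
    (hz : z ∈ L) (h : ∀ n : ℕ, MemLocalRing M (z / (p : ℂ) ^ n)) : z = 0 := by
  by_contra h0
  have hp0 : (p : ℂ) ≠ 0 := by exact_mod_cast hp.ne_zero
  have hR : MemLocalRing M z := by simpa using h 0
  obtain ⟨k, u, hu, hzu, huR, huI⟩ := hL.prop.val_int hM hz hR h0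
  have h1 := h (k + 1)
  have h2 : u = (p : ℂ) * (z / (p : ℂ) ^ (k + 1)) := by
    rw [hzu, pow_succ]; field_simp
  exact huI (h2 ▸ memI_mul_right (memI_p hM) h1)

theorem comm_O (hM : IsPModular p M) (hL : Maximal (IsUr M p) L) (h : Once p G) (he : Prim M L e)
    {χ ψ : IrrCharacter G} (hχ : ec h χ * e ≠ 0) (hψ : ec h ψ * e ≠ 0) (hne : cls h χ ≠ cls h ψ)
    {a b : MonoidAlgebra ℂ G} (ha : InO M L e h χ a) (hb : InO M L e h χ b) : a * b = b * a := by
  classical
  have hp0 : (p : ℂ) ≠ 0 := by exact_mod_cast h.prime.ne_zero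
  have hpL : ((p : ℂ)⁻¹) ∈ L := L.inv_mem hL.prop.mem_p
  have hεL := ec_e_mem hM hL h he χ
  obtain ⟨w, x, hwJ, hwc, hxA, hwx, hxw, hxz⟩ := exists_gen hM hL h he hχ hψ hne
  set ε := ec h χ * e with hε
  have hεl : ∀ {y : MonoidAlgebra ℂ G}, InO M L e h χ y → ε * y = y := by
    intro y hy
    have := hy.inA hL hεL he.idem
    rw [hε, mul_assoc, this.left, this.comp]
  have hεr : ∀ {y : MonoidAlgebra ℂ G}, InO M L e h χ y → y * ε = y := by
    intro y hy
    have := hy.inA hL hεL he.idem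
    rw [hε, ← mul_assoc, eps_comm, this.comp, this.right]
  have hwO : InO M L e h χ w := InO.of_J hwJ hwc
  have hεw : ε * w = w := hεl hwO
  have hwε : w * ε = w := hεr hwO
  have hεpow : ∀ n : ℕ, w ^ n * ε = ε * w ^ n := by
    intro n
    induction n with
    | zero => rw [pow_zero, one_mul, mul_one]
    | succ n ih => rw [pow_succ, mul_assoc, hwε, ← mul_assoc, ← ih, mul_assoc, hεw]
  -- expansion
  have hexp : ∀ n : ℕ, ∀ o, InO M L e h χ o → ∃ (c : MonoidAlgebra ℂ G) (P : ℂ[X]) (o' : MonoidAlgebra ℂ G),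
      InO M L e h χ o' ∧ c = ε * aeval w P ∧ InO M L e h χ c ∧ o = c + w ^ n * o' := by
    intro n
    induction n with
    | zero =>
      intro o ho
      refine ⟨0, 0, o, ho, by rw [map_zero, mul_zero], ⟨0, ⟨zero_mem _, mul_zero _, zero_mul _⟩, (mul_zero _).symm⟩, ?_⟩
      rw [pow_zero, one_mul, zero_add]
    | succ n ih =>
      intro o ho
      obtain ⟨c, P, o', ho', hcP, hc, hoc⟩ := ih o ho
      obtain ⟨a', ha', hoa⟩ := ho'
      obtain ⟨r, hr, hJ⟩ := he.exists_res hM hL ha'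
      set z := ec h χ * (a' - r • e) with hzdef
      have hzJ : InJ M L e z := he.ecJ hM hL h χ hJ
      have hzc : ec h χ * z = z := by rw [hzdef, ← mul_assoc, eps_mul_self]
      have ho'z : o' = r • ε + z := by
        rw [hoa, hzdef, mul_sub, mul_smul_comm, hε]; abel
      have hzw : z = w * (x * z) := by
        rw [← mul_assoc, hwx, hεl (InO.of_J hzJ hzc)]
      have hwn : ∀ n : ℕ, InO M L e h χ (w ^ n * ε) := by
        intro n
        induction n with
        | zero => rw [pow_zero, one_mul]; exact InO.one he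
        | succ n ih =>
          rw [pow_succ, mul_assoc, hwε]
          have h1 : w ^ n * w = (w ^ n * ε) * w := by rw [mul_assoc, hεw]
          rw [h1]
          exact ih.mul hwO
      refine ⟨c + r • (w ^ n * ε), P + C r * X ^ n, x * z, hxz z hzJ hzc, ?_, hc.add ((hwn n).smul hr), ?_⟩
      · rw [map_add, mul_add, ← hcP, map_mul, aeval_C, map_pow, aeval_X, Algebra.algebraMap_eq_smul_one,
          smul_mul_assoc, one_mul, mul_smul_comm, hεpow]
      · rw [hoc, ho'z, mul_add, mul_smul_comm, pow_succ, mul_assoc, ← hzw, add_assoc]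
  -- the commutator is divisible by all powers of `w`
  have hcom : ∀ n : ℕ, ∃ o, InO M L e h χ o ∧ a * b - b * a = w ^ n * o := by
    intro n
    obtain ⟨c, P, a', ha', hcP, hc, hac⟩ := hexp n a ha
    obtain ⟨d, Q, b', hb', hdQ, hd, hbd⟩ := hexp n b hb
    have hcw : ∀ (P : ℂ[X]) (k : ℕ), (ε * aeval w P) * w ^ k = w ^ k * (ε * aeval w P) := by
      intro P k
      have h1 : aeval w P * w ^ k = w ^ k * aeval w P := by
        have : aeval w (P * X ^ k) = aeval w (X ^ k * P) := by rw [mul_comm]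
        rw [map_mul, map_mul, map_pow, aeval_X] at this
        exact this
      rw [mul_assoc, h1, ← mul_assoc, ← hεpow, mul_assoc]
    have hεP : ∀ P : ℂ[X], aeval w P * ε = ε * aeval w P := by
      intro P
      induction P using Polynomial.induction_on' with
      | add p q hp hq => rw [map_add, add_mul, mul_add, hp, hq]
      | monomial n c =>
        rw [aeval_monomial, Algebra.algebraMap_eq_smul_one, smul_mul_assoc, one_mul, smul_mul_assoc,
          mul_smul_comm, hεpow]
    have hcd : c * d = d * c := by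
      have h1 : ∀ P Q : ℂ[X], (ε * aeval w P) * (ε * aeval w Q) = ε * aeval w (P * Q) := by
        intro P Q
        calc (ε * aeval w P) * (ε * aeval w Q) = ε * (aeval w P * ε) * aeval w Q := by
              simp only [mul_assoc]
          _ = (ε * ε) * (aeval w P * aeval w Q) := by rw [hεP]; simp only [mul_assoc]
          _ = ε * aeval w (P * Q) := by rw [hεl (InO.one he), map_mul]
      rw [hcP, hdQ, h1, h1, mul_comm P Q]
    have hcwn := hcw P n
    have hdwn := hcw Q n
    rw [← hcP] at hcwn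
    rw [← hdQ] at hdwn
    have hwnO : ∀ o, InO M L e h χ o → InO M L e h χ (w ^ n * o) := by
      intro o ho
      have : ∀ k : ℕ, InO M L e h χ (w ^ k * o) := by
        intro k
        induction k with
        | zero => rw [pow_zero, one_mul]; exact ho
        | succ k ih => rw [pow_succ', mul_assoc]; exact hwO.mul ih
      exact this n
    refine ⟨(c * b' + a' * d + a' * (w ^ n * b')) - (d * a' + b' * c + b' * (w ^ n * a')),
      ((((hc.mul hb').add (ha'.mul hd)).add (ha'.mul (hwnO _ hb'))).sub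
      (((hd.mul ha').add (hb'.mul hc)).add (hb'.mul (hwnO _ ha')))), ?_⟩
    have e1 : c * (w ^ n * b') = w ^ n * (c * b') := by rw [← mul_assoc, hcwn, mul_assoc]
    have e2 : d * (w ^ n * a') = w ^ n * (d * a') := by rw [← mul_assoc, hdwn, mul_assoc]
    rw [hac, hbd]
    simp only [add_mul, mul_add, mul_sub]
    rw [e1, e2, hcd]
    simp only [mul_assoc]
    abel
  -- powers of `p`
  obtain ⟨k, hk⟩ := hwJ.nilp
  obtain ⟨b₀, hb₀, hbw⟩ := exists_div hM hL.prop (Cf_mono RL_le' (pow_mem hwJ.inE.mem (k + 1))) hk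
  have hb₀e : b₀ = (p : ℂ)⁻¹ • w ^ (k + 1) := by
    rw [hbw, smul_smul, inv_mul_cancel₀ hp0, one_smul]
  have hb₀E : InE M L e b₀ := by
    refine ⟨hb₀, ?_, ?_⟩
    · rw [hb₀e, mul_smul_comm, (hwJ.inE.pow k).left]
    · rw [hb₀e, smul_mul_assoc, (hwJ.inE.pow k).right]
  have hb₀O : InO M L e h χ b₀ := by
    refine ⟨b₀, hb₀E, ?_⟩
    rw [hb₀e, mul_smul_comm, pow_succ', ← mul_assoc, hwc]
  have hpn : ∀ n : ℕ, ∃ o, InO M L e h χ o ∧ a * b - b * a = (p : ℂ) ^ n • o := by
    intro n
    obtain ⟨o, ho, hab⟩ := hcom ((k + 1) * n)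
    refine ⟨b₀ ^ n * o, ?_, ?_⟩
    · have : ∀ k : ℕ, InO M L e h χ (b₀ ^ k * o) := by
        intro k
        induction k with
        | zero => rw [pow_zero, one_mul]; exact ho
        | succ k ih => rw [pow_succ', mul_assoc]; exact hb₀O.mul ih
      exact this n
    · rw [hab, pow_mul, hbw, _root_.smul_pow, smul_mul_assoc]
  rw [← sub_eq_zero]
  apply BrP.ext'
  intro g
  have hdA : InA L e h χ (a * b - b * a) := ((ha.mul hb).sub (hb.mul ha)).inA hL hεL he.idem
  have h1 : (p : ℂ) * (a * b - b * a).coeff g = 0 := by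
    refine eq_zero_of_div hM hL h.prime (L.mul_mem hL.prop.mem_p (hdA.mem g)) fun n => ?_
    obtain ⟨o, ho, hab⟩ := hpn n
    have h2 := pO_J hM hL he ho
    have h3 : (p : ℂ) * (a * b - b * a).coeff g / (p : ℂ) ^ n = ((p : ℂ) • o).coeff g := by
      rw [hab, BrP.smul_coeff, BrP.smul_coeff]
      field_simp
    rw [h3]
    exact (h2.inE.mem g).2
  rcases mul_eq_zero.mp h1 with h2 | h2
  · exact absurd h2 hp0
  · rw [h2]; rfl

/-- multiplicity one -/
theorem mult_one (hM : IsPModular p M) (hL : Maximal (IsUr M p) L) (h : Once p G) (he : Prim M L e)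
    {χ ψ : IrrCharacter G} (hχ : ec h χ * e ≠ 0) (hψ : ec h ψ * e ≠ 0) (hne : cls h χ ≠ cls h ψ) :
    ev (χ : G → ℂ) e = 1 := by
  classical
  have hχc := irr_isCharacter χ.2
  set N : ℂ := (Nat.card G : ℂ) / (χ : G → ℂ) 1 with hN
  have hN0 : N ≠ 0 := by
    rw [hN]
    exact div_ne_zero (card_ne G) (CharBasic.irr_one_ne_zero χ.2)
  obtain ⟨m, hm⟩ := ev_idem hχc he.idem
  -- `ev χ` of products only depends on the component
  have hcm : ∀ a b : MonoidAlgebra ℂ G, InE M L e a → InE M L e b → ∀ c : MonoidAlgebra ℂ G,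
      ev (χ : G → ℂ) (a * b * c) = ev (χ : G → ℂ) (b * a * c) := by
    intro a b ha hb c
    have h1 : ∀ y : MonoidAlgebra ℂ G, ev (χ : G → ℂ) y = ev (χ : G → ℂ) (ec h χ * y) := by
      intro y
      rw [ev_eps_mul, if_pos (self_mem_cls h χ)]
    have h2 : (ec h χ * a) * (ec h χ * b) = (ec h χ * b) * (ec h χ * a) :=
      comm_O hM hL h he hχ hψ hne ⟨a, ha, rfl⟩ ⟨b, hb, rfl⟩
    have h3 : ∀ a b : MonoidAlgebra ℂ G, (ec h χ * a) * (ec h χ * b) = ec h χ * (a * b) := by
      intro a b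
      calc ec h χ * a * (ec h χ * b) = ec h χ * (a * ec h χ) * b := by simp only [mul_assoc]
        _ = ec h χ * ec h χ * a * b := by rw [eps_comm]; simp only [mul_assoc]
        _ = ec h χ * (a * b) := by rw [eps_mul_self, mul_assoc]
    rw [h3, h3] at h2
    rw [h1, h1 (b * a * c), ← mul_assoc, h2, mul_assoc]
  set gg : G → MonoidAlgebra ℂ G := fun g => e * sg g * e with hgg
  have hE : ∀ g, InE M L e (gg g) := fun g => he.corner (Cf_single g)
  -- first evaluation
  have hS1 : ∑ k : G, ∑ g : G, ev (χ : G → ℂ) (sg g * (gg k) * sg g⁻¹ * (gg k⁻¹)) = N * (N * m) := by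
    rw [Finset.sum_congr rfl fun k _ => T1 χ (gg k) (gg k⁻¹), ← Finset.mul_sum]
    congr 1
    have h1 : ∀ k : G, ev (χ : G → ℂ) (gg k) * ev (χ : G → ℂ) (gg k⁻¹) =
        ev (χ : G → ℂ) (e * sg k) * ev (χ : G → ℂ) (sg k⁻¹ * e) := by
      intro k
      have e1 : ev (χ : G → ℂ) (gg k) = ev (χ : G → ℂ) (e * sg k) := by
        rw [hgg]; dsimp only
        rw [ev_mul_comm hχc (e * sg k) e, ← mul_assoc, he.idem]
      have e2 : ev (χ : G → ℂ) (gg k⁻¹) = ev (χ : G → ℂ) (sg k⁻¹ * e) := by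
        rw [hgg]; dsimp only
        rw [mul_assoc, ev_mul_comm hχc e (sg k⁻¹ * e), mul_assoc, he.idem]
      rw [e1, e2]
    rw [Finset.sum_congr rfl fun k _ => h1 k, T2, he.idem, hm]
  -- second evaluation
  have hS2 : ∑ k : G, ∑ g : G, ev (χ : G → ℂ) (sg g * (gg k) * sg g⁻¹ * (gg k⁻¹)) =
      N * m * (N * (m * m)) := by
    have h1 : ∀ k g : G, ev (χ : G → ℂ) (sg g * (gg k) * sg g⁻¹ * (gg k⁻¹)) =
        ev (χ : G → ℂ) (sg g * e * sg g⁻¹ * (gg k * gg k⁻¹)) := by
      intro k g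
      -- bring into the corner
      have e1 : ev (χ : G → ℂ) (sg g * (gg k) * sg g⁻¹ * (gg k⁻¹)) =
          ev (χ : G → ℂ) (gg g * gg k * (gg g⁻¹ * gg k⁻¹)) := by
        have : gg g * gg k * (gg g⁻¹ * gg k⁻¹) = e * (sg g * gg k * sg g⁻¹ * gg k⁻¹) := by
          have k1 : e * gg k = gg k := (hE k).left
          have k2 : gg k * e = gg k := (hE k).right
          have k3 : e * gg k⁻¹ = gg k⁻¹ := (hE k⁻¹).left
          calc gg g * gg k * (gg g⁻¹ * gg k⁻¹)
              = (e * sg g * (e * gg k)) * (e * sg g⁻¹ * (e * gg k⁻¹)) := by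
                rw [hgg]; simp only [mul_assoc]
            _ = e * sg g * (gg k * e) * sg g⁻¹ * gg k⁻¹ := by rw [k1, k3]; simp only [mul_assoc]
            _ = e * (sg g * gg k * sg g⁻¹ * gg k⁻¹) := by rw [k2]; simp only [mul_assoc]
        have k4 : gg k⁻¹ * e = gg k⁻¹ := (hE k⁻¹).right
        rw [this, ev_mul_comm hχc e, mul_assoc _ _ e, k4]
      have e2 : ev (χ : G → ℂ) (sg g * e * sg g⁻¹ * (gg k * gg k⁻¹)) =
          ev (χ : G → ℂ) (gg g * gg g⁻¹ * (gg k * gg k⁻¹)) := by
        have : gg g * gg g⁻¹ * (gg k * gg k⁻¹) = e * (sg g * e * sg g⁻¹ * (gg k * gg k⁻¹)) := by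
          have k1 : e * gg k = gg k := (hE k).left
          calc gg g * gg g⁻¹ * (gg k * gg k⁻¹)
              = e * sg g * (e * e) * sg g⁻¹ * ((e * gg k) * gg k⁻¹) := by
                rw [hgg]; simp only [mul_assoc]
            _ = e * (sg g * e * sg g⁻¹ * (gg k * gg k⁻¹)) := by
                rw [k1, he.idem]; simp only [mul_assoc]
        have k4 : gg k⁻¹ * e = gg k⁻¹ := (hE k⁻¹).right
        rw [this, ev_mul_comm hχc e, mul_assoc _ _ e, mul_assoc (gg k) _ e, k4]
      rw [e1, e2]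
      -- commute
      have e3 : gg g * gg k * (gg g⁻¹ * gg k⁻¹) = gg g * (gg k * gg g⁻¹ * gg k⁻¹) := by
        simp only [mul_assoc]
      have e4 : ev (χ : G → ℂ) (gg g * gg k * (gg g⁻¹ * gg k⁻¹)) =
          ev (χ : G → ℂ) (gg k * gg g⁻¹ * (gg k⁻¹ * gg g)) := by
        rw [e3, ev_mul_comm hχc (gg g)]; simp only [mul_assoc]
      rw [e4, hcm _ _ (hE k) (hE g⁻¹)]
      have e5 : gg g⁻¹ * gg k * (gg k⁻¹ * gg g) = gg g⁻¹ * gg k * gg k⁻¹ * gg g := by
        simp only [mul_assoc]
      rw [e5, ev_mul_comm hχc _ (gg g)]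
      simp only [mul_assoc]
    rw [Finset.sum_congr rfl fun k _ => Finset.sum_congr rfl fun g _ => h1 k g,
      Finset.sum_congr rfl fun k _ => T1 χ e (gg k * gg k⁻¹), ← Finset.mul_sum, hm, mul_assoc]
    congr 1
    rw [← Finset.mul_sum]
    congr 1
    have h2 : ∀ k : G, ev (χ : G → ℂ) (gg k * gg k⁻¹) = ev (χ : G → ℂ) (sg k * e * sg k⁻¹ * e) := by
      intro k
      have e1 : gg k * gg k⁻¹ = e * (sg k * e * sg k⁻¹ * e) := by
        calc gg k * gg k⁻¹ = e * sg k * (e * e) * sg k⁻¹ * e := by rw [hgg]; simp only [mul_assoc]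
          _ = e * (sg k * e * sg k⁻¹ * e) := by rw [he.idem]; simp only [mul_assoc]
      rw [e1, ev_mul_comm hχc e, mul_assoc, he.idem]
    rw [Finset.sum_congr rfl fun k _ => h2 k, T1, hm]
  have h5 : N * (N * m) = N * m * (N * (m * m)) := hS1.symm.trans hS2
  have h6 : (m : ℂ) ≠ 0 := by
    intro h7
    apply hχ
    rw [eps_eq_zero_iff he.idem]
    intro θ hθ
    rw [ev_cls hM h (Cf_mono RL_le he.mem) he.idem hθ, hm, h7]
  have h7 : (m : ℂ) * m = 1 := by
    have : N * N * m * ((m : ℂ) * m - 1) = 0 := by linear_combination -h5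
    rcases mul_eq_zero.mp this with h8 | h8
    · exact absurd h8 (mul_ne_zero (mul_ne_zero hN0 hN0) h6)
    · linear_combination h8
  have h8 : m * m = 1 := by exact_mod_cast h7
  have h9 : m = 1 := Nat.eq_one_of_mul_eq_one_left h8
  rw [hm, h9, Nat.cast_one]

end Comp

end CfsgLib.Ur
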