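import Mathlib
import Cfsg.Agent.EqBase
import Cfsg.Agent.LibUr15
import Cfsg.Agent.LibBlockReg

/-!
# Blocks when `p` divides the order once: the connecting theorem (helper17)
-/

set_option autoImplicit false
set_option linter.unusedSectionVars false
set_option linter.style.haveILetI false
set_option linter.unusedSimpArgs false
set_option linter.unusedVariables false

namespace CfsgLib.Ur

open Cfsg CfsgLib.LocR CfsgLib.CharBasic CfsgLib.CharIndA CfsgLib.BlockIdem CfsgLib.BlockReg CfsgLib.BlockCore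
open scoped ComplexConjugate

universe u
variable {M : Ideal AlgInt} {p : ℕ} {G : Type u} [Group G] [Fintype G]

section Comp
variable [M.IsPrime] {L : Subfield ℂ} {e : MonoidAlgebra ℂ G}

theorem sum_cls_mem (hM : IsPModular p M) (hL : Maximal (IsUr M p) L) (h : Once p G)
    (T : Finset (IrrCharacter G)) (hT : ∀ χ ∈ T, ∀ ψ ∈ cls h χ, ψ ∈ T) (g : G) :
    ∑ ψ ∈ T, (ψ : G → ℂ) 1 * (ψ : G → ℂ) g ∈ L := by
  classical
  have key : ∑ χ ∈ T, (χ : G → ℂ) 1 * ((cls h χ).card : ℂ)⁻¹ * Xs h χ g =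
      ∑ ψ ∈ T, (ψ : G → ℂ) 1 * (ψ : G → ℂ) g := by
    have h1 : ∀ χ ∈ T, (χ : G → ℂ) 1 * ((cls h χ).card : ℂ)⁻¹ * Xs h χ g =
        ∑ ψ ∈ T, if ψ ∈ cls h χ then (χ : G → ℂ) 1 * ((cls h χ).card : ℂ)⁻¹ * (ψ : G → ℂ) g else 0 := by
      intro χ hχ
      rw [← Finset.sum_filter]
      unfold Xs
      rw [Finset.mul_sum]
      have : T.filter (fun ψ => ψ ∈ cls h χ) = cls h χ := by
        ext ψ
        simp only [Finset.mem_filter]
        exact ⟨fun h => h.2, fun h' => ⟨hT χ hχ ψ h', h'⟩⟩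
      rw [this]
    rw [Finset.sum_congr rfl h1, Finset.sum_comm]
    refine Finset.sum_congr rfl fun ψ hψ => ?_
    rw [← Finset.sum_filter]
    have : T.filter (fun χ => ψ ∈ cls h χ) = cls h ψ := by
      ext χ
      simp only [Finset.mem_filter]
      constructor
      · rintro ⟨-, h2⟩
        rw [cls_eq h2]
        exact self_mem_cls h χ
      · intro h2
        refine ⟨hT ψ hψ χ h2, ?_⟩
        rw [cls_eq h2]
        exact self_mem_cls h ψ
    rw [this]
    have h2 : ∀ χ ∈ cls h ψ, (χ : G → ℂ) 1 * ((cls h χ).card : ℂ)⁻¹ * (ψ : G → ℂ) g =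
        (ψ : G → ℂ) 1 * ((cls h ψ).card : ℂ)⁻¹ * (ψ : G → ℂ) g := by
      intro χ hχ
      rw [cls_one hχ, cls_eq hχ]
    rw [Finset.sum_congr rfl h2, Finset.sum_const, nsmul_eq_mul]
    have h3 : ((cls h ψ).card : ℂ) ≠ 0 := by
      exact_mod_cast (cls_card_pos h ψ).ne'
    field_simp
  rw [← key]
  refine sum_mem fun χ _ => L.mul_mem (L.mul_mem ?_ (L.inv_mem (natCast_mem L _))) (Xs_mem hM hL h χ g)
  obtain ⟨n, hn0, hn⟩ := irr_one_nat χ.2
  rw [hn]; exact natCast_mem L n

theorem eps_mul_eq {S : Finset (IrrCharacter G)} (he : e * e = e)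
    (hS : ∀ χ : IrrCharacter G, ev (χ : G → ℂ) e ≠ 0 → χ ∈ S) : eps S * e = e := by
  classical
  apply ext_ev
  intro χ g
  rw [mul_assoc, ev_eps_mul]
  split_ifs with h1
  · rfl
  · have h2 : ev (χ : G → ℂ) e = 0 := by
      by_contra h3
      exact h1 (hS χ h3)
    have h3 : eps {χ} * e = 0 := by
      rw [eps_eq_zero_iff he]
      intro ψ hψ
      rw [Finset.mem_singleton.mp hψ, h2]
    have h4 : ev (χ : G → ℂ) (eps {χ} * (e * sg g)) = ev (χ : G → ℂ) (e * sg g) := by
      rw [ev_eps_mul, if_pos (Finset.mem_singleton_self χ)]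
    rw [← h4, ← mul_assoc, h3, zero_mul, ev_zero]

/-- block idempotents are integral over `L` -/
theorem eps_block_mem (hM : IsPModular p M) (hL : Maximal (IsUr M p) L) (h : Once p G)
    {B : Set (IrrCharacter G)} (hB : IsPBlock M B) {T : Finset (IrrCharacter G)}
    (hT : ∀ χ, χ ∈ T ↔ χ ∈ B) : eps T ∈ Cf (RL M L) G := by
  classical
  intro g
  have h1 : (eps T).coeff g = (Nat.card G : ℂ)⁻¹ * ∑ ψ ∈ T, (ψ : G → ℂ) 1 * (ψ : G → ℂ) g⁻¹ :=
    eps_coeff T g
  refine ⟨?_, ?_⟩
  · rw [h1]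
    refine L.mul_mem (L.inv_mem (natCast_mem L _)) (sum_cls_mem hM hL h T ?_ g⁻¹)
    intro χ hχ ψ hψ
    rw [hT] at hχ ⊢
    exact cls_block hM hB hψ hχ
  · have h2 := BlockIdem.blockCoeff_ring (LocR.isPrime hM) hB g
    have h3 : (eps T).coeff g = blockCoeff B g := by
      rw [h1]
      unfold blockCoeff
      congr 1
      have : B = (T : Set (IrrCharacter G)) := by
        ext χ; simp only [Finset.mem_coe]; exact (hT χ).symm
      rw [this, finsum_mem_coe_finset]
      refine Finset.sum_congr rfl fun χ _ => ?_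
      rw [char_inv_eq_conj (irr_isCharacter χ.2)]
    rw [h3]; exact h2

/-- the characters of a primitive idempotent are in one block -/
theorem supp_block (hM : IsPModular p M) (hL : Maximal (IsUr M p) L) (h : Once p G) (he : Prim M L e)
    {B : Set (IrrCharacter G)} (hB : IsPBlock M B) {χ ψ : IrrCharacter G} (hχB : χ ∈ B)
    (hχ : ev (χ : G → ℂ) e ≠ 0) (hψ : ev (ψ : G → ℂ) e ≠ 0) : ψ ∈ B := by
  classical
  set T : Finset (IrrCharacter G) := Finset.univ.filter (fun χ => χ ∈ B) with hTdef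
  have hT : ∀ χ, χ ∈ T ↔ χ ∈ B := fun χ => by simp [hTdef]
  have h1 := eps_block_mem hM hL h hB hT
  have h2 : (eps T * e) * (eps T * e) = eps T * e := by
    rw [mul_assoc, ← mul_assoc e, eps_comm, mul_assoc, he.idem, ← mul_assoc, eps_mul_self]
  rcases he.prim _ (mul_mem h1 he.mem) h2 (by rw [← mul_assoc, eps_comm, mul_assoc, he.idem])
    (by rw [mul_assoc, he.idem]) with h3 | h3
  · exfalso
    rw [eps_eq_zero_iff he.idem] at h3
    exact hχ (h3 χ ((hT χ).mpr hχB))
  · by_contra hψB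
    apply hψ
    rw [← h3, ev_eps_mul, if_neg]
    rwa [hT]

theorem ec_ne_iff (hM : IsPModular p M) (h : Once p G) (he : Prim M L e) {χ : IrrCharacter G} :
    ec h χ * e ≠ 0 ↔ ev (χ : G → ℂ) e ≠ 0 := by
  rw [ne_eq, eps_eq_zero_iff he.idem]
  constructor
  · intro h1 h2
    apply h1
    intro θ hθ
    rw [ev_cls hM h (Cf_mono RL_le he.mem) he.idem hθ, h2]
  · intro h1 h2
    exact h1 (h2 χ (self_mem_cls h χ))

/-- there are two components -/
theorem exists_second (hM : IsPModular p M) (hL : Maximal (IsUr M p) L) (h : Once p G) (he : Prim M L e)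
    {χ : IrrCharacter G} (hdeg : ¬ p ∣ charDegree (χ : G → ℂ)) (hχ : ev (χ : G → ℂ) e ≠ 0) :
    ∃ ψ : IrrCharacter G, ev (ψ : G → ℂ) e ≠ 0 ∧ cls h χ ≠ cls h ψ := by
  classical
  by_contra hcon
  push Not at hcon
  haveI : Fact p.Prime := ⟨h.prime⟩
  have hXc : IsCharacter G (fun g => Xs h χ g) := by
    have h1 : (fun g => Xs h χ g) = ∑ ψ ∈ cls h χ, (ψ : G → ℂ) := by
      funext g; unfold Xs; rw [Finset.sum_apply]
    rw [h1]
    exact isCharacter_sum _ _ fun ψ _ => irr_isCharacter ψ.2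
  have hPhi : ∀ g, Phi e g = ev (χ : G → ℂ) e * Xs h χ g := by
    intro g
    unfold Phi Xs
    rw [Finset.mul_sum]
    symm
    apply Finset.sum_subset_zero_on_sdiff (Finset.subset_univ _)
    · intro ψ hψ
      have h1 := (Finset.mem_sdiff.mp hψ).2
      have h2 : ev (ψ : G → ℂ) e = 0 := by
        by_contra h3
        apply h1
        rw [hcon ψ h3]
        exact self_mem_cls h ψ
      rw [h2, zero_mul]
    · intro ψ hψ
      rw [ev_cls hM h (Cf_mono RL_le he.mem) he.idem hψ]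
  have hX1 : Xs h χ 1 = ((((cls h χ).card * charDegree (χ : G → ℂ) : ℕ)) : ℂ) := by
    unfold Xs
    rw [Finset.sum_congr rfl fun ψ hψ => cls_one hψ, Finset.sum_const, nsmul_eq_mul,
      CharInt.irr_one_eq_charDegree χ.2]
    push_cast; ring
  have h1 := BlockReg.degree_of_vanish (p := p) hXc hX1 (fun x hx => by
    have h2 := Phi_singular hM (Cf_mono RL_le he.mem) he.idem hx
    rw [hPhi] at h2
    rcases mul_eq_zero.mp h2 with h3 | h3
    · exact absurd h3 hχ
    · exact h3)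
  have h2 : p ∣ p ^ (Nat.card G).factorization p := by
    apply dvd_pow_self
    have h3 := (h.prime.dvd_iff_one_le_factorization Nat.card_pos.ne').mp h.dvd
    omega
  rcases h.prime.dvd_mul.mp (h2.trans h1) with h3 | h3
  · exact not_dvd_cls h χ h3
  · exact hdeg h3

/-- the projective character is a sum of two class sums -/
theorem Phi_two (hM : IsPModular p M) (hL : Maximal (IsUr M p) L) (h : Once p G) (he : Prim M L e)
    {χ ψ : IrrCharacter G} (hχ : ev (χ : G → ℂ) e ≠ 0) (hψ : ev (ψ : G → ℂ) e ≠ 0)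
    (hne : cls h χ ≠ cls h ψ) (g : G) : Phi e g = Xs h χ g + Xs h ψ g := by
  classical
  have hχ' := (ec_ne_iff hM h he).mpr hχ
  have hψ' := (ec_ne_iff hM h he).mpr hψ
  have h1 := mult_one hM hL h he hχ' hψ' hne
  have h2 := mult_one hM hL h he hψ' hχ' (Ne.symm hne)
  have hdisj : Disjoint (cls h χ) (cls h ψ) := by
    rw [Finset.disjoint_left]
    intro θ h3 h4
    exact hne (cls_eq_of_mem h3 h4)
  unfold Phi Xs
  rw [← Finset.sum_union hdisj]
  symm
  apply Finset.sum_subset_zero_on_sdiff (Finset.subset_univ _)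
  · intro θ hθ
    have h3 := (Finset.mem_sdiff.mp hθ).2
    have h4 : ev (θ : G → ℂ) e = 0 := by
      by_contra h5
      rw [Finset.mem_union, not_or] at h3
      refine he.two hM hL h hχ' hψ' ((ec_ne_iff hM h he).mpr h5) hne ?_ ?_
      · intro h6; exact h3.1 (h6 ▸ self_mem_cls h θ)
      · intro h6; exact h3.2 (h6 ▸ self_mem_cls h θ)
    rw [h4, zero_mul]
  · intro θ hθ
    rcases Finset.mem_union.mp hθ with h3 | h3
    · rw [ev_cls hM h (Cf_mono RL_le he.mem) he.idem h3, h1, one_mul]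
    · rw [ev_cls hM h (Cf_mono RL_le he.mem) he.idem h3, h2, one_mul]

end Comp

/-- **The connecting theorem**: a block with `p ∤ χ(1)` cannot be split into sets closed under
`p`-conjugacy without a relation between class sums of the parts. -/
theorem BB (hM : IsPModular p M) (h : Once p G) {B : Set (IrrCharacter G)} (hB : IsPBlock M B)
    (hdeg : ∀ χ ∈ B, ¬ p ∣ charDegree (χ : G → ℂ)) {S : Set (IrrCharacter G)} (hSB : S ⊆ B)
    (hS : S.Nonempty) (hSne : S ≠ B) (hcl : ∀ χ ∈ S, ∀ ψ ∈ cls h χ, ψ ∈ S) :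
    ∃ χ ∈ S, ∃ ψ ∈ B, ψ ∉ S ∧ ∀ g : G, p ∣ orderOf g → Xs h χ g + Xs h ψ g = 0 := by
  classical
  haveI := LocR.isPrime hM
  have hp := LocR.isPrime hM
  obtain ⟨L, hL⟩ := exists_max hM
  by_contra hcon
  push Not at hcon
  set T : Finset (IrrCharacter G) := Finset.univ.filter (fun χ => χ ∈ S) with hTdef
  have hT : ∀ χ, χ ∈ T ↔ χ ∈ S := fun χ => by simp [hTdef]
  have hprim : ∀ e, Prim M L e → eps T * e ∈ Cf (RL M L) G := by
    intro e he
    by_cases hA : ∃ θ ∈ S, ev (θ : G → ℂ) e ≠ 0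
    · obtain ⟨θ, hθS, hθ⟩ := hA
      obtain ⟨θ', hθ', hne⟩ := exists_second hM hL h he (hdeg θ (hSB hθS)) hθ
      have hPhi := Phi_two hM hL h he hθ hθ' hne
      have hθ'B : θ' ∈ B := supp_block hM hL h he hB (hSB hθS) hθ hθ'
      have hθ'S : θ' ∈ S := by
        by_contra h1
        obtain ⟨g, hg, hg0⟩ := hcon θ hθS θ' hθ'B h1
        apply hg0
        rw [← hPhi, Phi_singular hM (Cf_mono RL_le he.mem) he.idem hg]
      rw [eps_mul_eq he.idem]
      · exact he.mem
      · intro χ hχ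
        rw [hT]
        by_cases h1 : cls h θ = cls h χ
        · exact hcl θ hθS χ (h1 ▸ self_mem_cls h χ)
        by_cases h2 : cls h θ' = cls h χ
        · exact hcl θ' hθ'S χ (h2 ▸ self_mem_cls h χ)
        exfalso
        exact he.two hM hL h ((ec_ne_iff hM h he).mpr hθ) ((ec_ne_iff hM h he).mpr hθ')
          ((ec_ne_iff hM h he).mpr hχ) hne h1 h2
    · push Not at hA
      rw [(eps_eq_zero_iff he.idem).mpr fun χ hχ => hA χ ((hT χ).mp hχ)]
      exact zero_mem _
  have h1 : eps T * 1 ∈ Cf (RL M L) G := by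
    refine idem_induction hM hL.prop (Q := fun a => eps T * a ∈ Cf (RL M L) G) ?_ ?_ hprim
      (one_mem _) (mul_one 1)
    · rw [mul_zero]; exact zero_mem _
    · intro a b ha hb
      rw [mul_add]; exact add_mem ha hb
  rw [mul_one] at h1
  have hAR : BlockIdem.AR M (BlockIdem.ind S) := by
    intro g
    have h2 : BlockCore.fou (BlockIdem.ind S) g = (eps T).coeff g := by
      unfold BlockCore.fou
      rw [eps_coeff, ← Finset.sum_filter_add_sum_filter_not Finset.univ (fun χ => χ ∈ S)]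
      congr 1
      rw [Finset.sum_eq_zero (s := Finset.univ.filter (fun χ => ¬ χ ∈ S)), add_zero]
      · refine Finset.sum_congr rfl fun χ hχ => ?_
        rw [BlockIdem.ind_of (Finset.mem_filter.mp hχ).2, one_mul, char_inv_eq_conj (irr_isCharacter χ.2)]
      · intro χ hχ
        rw [BlockIdem.ind_not (Finset.mem_filter.mp hχ).2, zero_mul]
    rw [h2]
    exact (h1 g).2
  obtain ⟨χ, hχ⟩ := hS
  obtain ⟨ψ, hψB, hψS⟩ : ∃ ψ ∈ B, ψ ∉ S := by
    by_contra h3
    push Not at h3
    exact hSne (Set.Subset.antisymm hSB h3)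
  have h4 := BlockIdem.sameBlock_val hp hAR (BlockIdem.sameBlock_of_mem hp hB (hSB hχ) hψB)
  rw [BlockIdem.ind_of hχ, BlockIdem.ind_not hψS, sub_zero] at h4
  exact not_memI_one h4

end CfsgLib.Ur
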