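import Mathlib
import Cfsg.Agent.EqBase
import Cfsg.Agent.LibUr16
import Cfsg.Agent.LibBlockSec3
import Cfsg.Agent.LibOnceA19

set_option autoImplicit false
set_option maxHeartbeats 400000
set_option linter.unusedSectionVars false
set_option linter.style.haveILetI false

/-! Blocks of defect one: the centralizer of the Sylow subgroup. -/

namespace CfsgLib.Once19

open CfsgLib.CharInt hiding irr_isCharacter irr_classFun irr_one_ne_zero schur_scalar
open Cfsg CfsgLib.CharInt2 CfsgLib.CharBasic CfsgLib.BlockR CfsgLib.BlockCore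
  CfsgLib.BlockIdem CfsgLib.BlockIdeal CfsgLib.BlockConj CfsgLib.BlockBrauer CfsgLib.BlockInd
  CfsgLib.BlockFMT CfsgLib.BlockFMT2 CfsgLib.BlockOrth CfsgLib.BlockDefect
  CfsgLib.BlockReg CfsgLib.BlockReg2 CfsgLib.BlockCount CfsgLib.BlockCount2 CfsgLib.BlockQP
  CfsgLib.BlockCov3 CfsgLib.BlockCov4 CfsgLib.BlockSec CfsgLib.BlockSec3 CfsgLib.CharNorm CfsgLib.Ur
open scoped ComplexConjugate

universe u

/-- the product of an irreducible character and a linear one -/
theorem irr_mul_lin {G : Type*} [Group G] [Fintype G] {χ : G → ℂ} (hχ : IsIrrCharacter G χ) (l : G →* ℂˣ) :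
    IsIrrCharacter G (fun g => (l g : ℂ) * χ g) := by
  rw [irr_iff_norm_one]
  refine ⟨isCharacter_mul (isCharacter_hom l) (CfsgLib.CharBasic.irr_isCharacter hχ), ?_⟩
  rw [← irr_inner_self hχ]
  unfold classInner
  congr 1
  refine Finset.sum_congr rfl fun g _ => ?_
  have h1 : (l g : ℂ) * conj (l g : ℂ) = 1 := by
    have h2 : ‖(l g : ℂ)‖ = 1 := by
      refine Complex.norm_eq_one_of_pow_eq_one (n := Nat.card G) ?_ Nat.card_pos.ne'
      rw [← Units.val_pow_eq_pow_val, ← map_pow, pow_card_eq_one', map_one, Units.val_one]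
    rw [Complex.mul_conj, Complex.normSq_eq_norm_sq, h2]; simp
  rw [map_mul]
  linear_combination (χ g * conj (χ g)) * h1

/-- a linear character separating a central Sylow subgroup of prime order -/
theorem exists_lam {p : ℕ} [hp : Fact p.Prime] {C : Type u} [Group C] [Finite C] (x : C) (hx : orderOf x = p)
    (hc : ∀ c : C, c * x = x * c) (hsq : ¬ p ^ 2 ∣ Nat.card C) :
    ∃ lam : C →* ℂˣ, lam x ≠ 1 ∧ ∀ c, lam c ^ p = 1 := by
  classical
  have hn : (Subgroup.zpowers x).Normal := by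
    constructor
    intro n hn c
    obtain ⟨k, rfl⟩ := Subgroup.mem_zpowers_iff.1 hn
    have h1 : Commute c x := hc c
    rw [(h1.zpow_right k).eq, mul_inv_cancel_right]
    exact hn
  have hcard : Nat.card (Subgroup.zpowers x) = p := by rw [Nat.card_zpowers, hx]
  have hcop : Nat.Coprime (Nat.card (Subgroup.zpowers x)) (Subgroup.zpowers x).index := by
    rw [hcard, Nat.Prime.coprime_iff_not_dvd hp.out]
    intro h
    apply hsq
    rw [← (Subgroup.zpowers x).card_mul_index, hcard, pow_two]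
    exact Nat.mul_dvd_mul_left p h
  obtain ⟨K, hK⟩ := Subgroup.exists_right_complement'_of_coprime hcop
  have hKn : K.Normal := by
    constructor
    intro k hk c
    obtain ⟨⟨u, k'⟩, huk⟩ := hK.2 c
    replace huk : (u : C) * (k' : C) = c := huk
    have hu : ∀ d : C, (u : C) * d * (u : C)⁻¹ = d := by
      intro d
      obtain ⟨i, hi⟩ := Subgroup.mem_zpowers_iff.1 u.2
      rw [← hi]
      have h1 : Commute d x := hc d
      rw [← (h1.zpow_right i).eq, mul_inv_cancel_right]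
    have : c * k * c⁻¹ = (u : C) * ((k' : C) * k * (k' : C)⁻¹) * (u : C)⁻¹ := by
      rw [← huk]; group
    rw [this, hu]
    exact K.mul_mem (K.mul_mem k'.2 hk) (K.inv_mem k'.2)
  have hQ : Nat.card (C ⧸ K) = p := by
    have h1 := hK.card_mul
    have h2 := K.card_mul_index
    rw [hcard] at h1
    have h3 : 0 < Nat.card K := Nat.card_pos
    have h4 : Nat.card K * K.index = Nat.card K * p := by rw [h2, ← h1, mul_comm]
    exact Nat.eq_of_mul_eq_mul_left h3 h4
  have hcyc : IsCyclic (C ⧸ K) := isCyclic_of_prime_card hQ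
  letI : CommGroup (C ⧸ K) := IsCyclic.commGroup
  have hx1 : (QuotientGroup.mk x : C ⧸ K) ≠ 1 := by
    intro h
    have h1 : x ∈ K := (QuotientGroup.eq_one_iff x).1 h
    have h2 : x ∈ (Subgroup.zpowers x) ⊓ K := ⟨Subgroup.mem_zpowers x, h1⟩
    rw [hK.disjoint.eq_bot, Subgroup.mem_bot] at h2
    rw [h2, orderOf_one] at hx
    exact hp.out.one_lt.ne hx
  haveI : NeZero (Monoid.exponent (C ⧸ K) : ℂ) := ⟨by
    exact_mod_cast Monoid.exponent_ne_zero_of_finite⟩
  obtain ⟨φ, hφ⟩ := CommGroup.exists_apply_ne_one_of_hasEnoughRootsOfUnity (C ⧸ K) ℂ hx1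
  refine ⟨φ.comp (QuotientGroup.mk' K), hφ, fun c => ?_⟩
  rw [MonoidHom.comp_apply, ← map_pow, ← hQ, pow_card_eq_one', map_one]

/-- basic data -/
structure Dat (p : ℕ) (G : Type u) [Group G] [Fintype G] where
  h : Once p G
  x : G
  hx : orderOf x = p
  lam : Subgroup.centralizer ({x} : Set G) →* ℂˣ
  lamx : lam ⟨x, Subgroup.mem_centralizer_singleton_iff.2 rfl⟩ ≠ 1
  lamp : ∀ c, lam c ^ p = 1
  th : IrrCharacter (Subgroup.centralizer ({x} : Set G))
  thx : ∀ c, (th : Subgroup.centralizer ({x} : Set G) → ℂ) (⟨x, Subgroup.mem_centralizer_singleton_iff.2 rfl⟩ * c) =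
    (th : Subgroup.centralizer ({x} : Set G) → ℂ) c

variable {p : ℕ} {G : Type u} [Group G] [Fintype G]

namespace Dat

/-- the centralizer -/
abbrev C (D : Dat p G) : Subgroup G := Subgroup.centralizer ({D.x} : Set G)

/-- the generator in the centralizer -/
def xc (D : Dat p G) : D.C := ⟨D.x, Subgroup.mem_centralizer_singleton_iff.2 rfl⟩

variable (D : Dat p G)

/-- primitive root -/
noncomputable def z : ℂ := (D.lam D.xc : ℂ)

include D in
theorem prime : p.Prime := D.h.prime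

theorem xc_comm (c : D.C) : c * D.xc = D.xc * c := by
  apply Subtype.ext
  exact Subgroup.mem_centralizer_singleton_iff.1 c.2

theorem z_pow : D.z ^ p = 1 := by
  have := D.lamp D.xc
  rw [z, ← Units.val_pow_eq_pow_val, this, Units.val_one]

theorem z_ne : D.z ≠ 1 := fun h => D.lamx (Units.ext h)

theorem z_prim : IsPrimitiveRoot D.z p := by
  haveI : Fact p.Prime := ⟨D.prime⟩
  have := IsPrimitiveRoot.orderOf D.z
  rwa [orderOf_eq_prime D.z_pow D.z_ne] at this

theorem lam_mem (c : D.C) : ∃ j < p, (D.lam c : ℂ) = D.z ^ j := by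
  haveI : NeZero p := ⟨D.prime.ne_zero⟩
  obtain ⟨j, hj, hj'⟩ := D.z_prim.eq_pow_of_pow_eq_one (ξ := (D.lam c : ℂ)) (by
    rw [← Units.val_pow_eq_pow_val, D.lamp, Units.val_one])
  exact ⟨j, hj, hj'.symm⟩

theorem card_ker : ¬ p ∣ Nat.card D.lam.ker := by
  intro h
  have h1 : p ∣ Nat.card D.lam.range := by
    have h2 : orderOf (⟨D.lam D.xc, D.xc, rfl⟩ : D.lam.range) = p := by
      haveI : Fact p.Prime := ⟨D.prime⟩
      apply orderOf_eq_prime
      · apply Subtype.ext; exact D.lamp D.xc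
      · intro h; exact D.lamx (congrArg Subtype.val h)
    have h3 := orderOf_dvd_natCard (⟨D.lam D.xc, D.xc, rfl⟩ : D.lam.range)
    rwa [h2] at h3
  have h2 : Nat.card D.C = Nat.card D.lam.ker * Nat.card D.lam.range := by
    rw [← Subgroup.index_ker, Subgroup.card_mul_index]
  apply D.h.sq
  refine dvd_trans ?_ (Subgroup.card_subgroup_dvd_card D.C)
  rw [h2, pow_two]
  exact Nat.mul_dvd_mul h h1

theorem lam_eq_one_iff (c : D.C) : (D.lam c : ℂ) = 1 ↔ ¬ p ∣ orderOf c := by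
  constructor
  · intro h hp
    apply D.card_ker
    have h1 : c ∈ D.lam.ker := by
      rw [MonoidHom.mem_ker]; exact Units.ext h
    refine hp.trans ?_
    have := orderOf_dvd_natCard (⟨c, h1⟩ : D.lam.ker)
    rwa [← Subgroup.orderOf_coe] at this
  · intro hc
    have h1 : D.lam c ^ orderOf c = 1 := by rw [← map_pow, pow_orderOf_eq_one, map_one]
    have h2 : orderOf (D.lam c) ∣ p := orderOf_dvd_of_pow_eq_one (D.lamp c)
    have h3 : orderOf (D.lam c) ∣ orderOf c := orderOf_dvd_of_pow_eq_one h1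
    rcases (Nat.dvd_prime D.prime).1 h2 with h4 | h4
    · rw [orderOf_eq_one_iff] at h4
      rw [h4, Units.val_one]
    · rw [h4] at h3; exact absurd h3 hc

theorem lam_xc_pow (j : ℕ) : (D.lam (D.xc ^ j) : ℂ) = D.z ^ j := by
  rw [map_pow, Units.val_pow_eq_pow_val]; rfl

/-- decomposition of elements of the centralizer -/
theorem decomp (c : D.C) : ∃ (j : ℕ) (y : D.C), j < p ∧ c = D.xc ^ j * y ∧ ¬ p ∣ orderOf y ∧ (D.lam c : ℂ) = D.z ^ j := by
  obtain ⟨j, hj, hj'⟩ := D.lam_mem c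
  refine ⟨j, (D.xc ^ j)⁻¹ * c, hj, by rw [mul_inv_cancel_left], ?_, hj'⟩
  rw [← D.lam_eq_one_iff, map_mul, map_inv, Units.val_mul, Units.val_inv_eq_inv_val, lam_xc_pow, hj',
    inv_mul_cancel₀ (pow_ne_zero _ (D.z_prim.ne_zero D.prime.ne_zero))]

theorem th_pow (j : ℕ) (c : D.C) : (D.th : D.C → ℂ) (D.xc ^ j * c) = (D.th : D.C → ℂ) c := by
  induction j with
  | zero => rw [pow_zero, one_mul]
  | succ n ih =>
    rw [pow_succ', mul_assoc]
    exact (D.thx _).trans ih

theorem sum_pow (w : ℂ) (hw : w ^ p = 1) : ∑ i ∈ Finset.range p, w ^ i = if w = 1 then (p : ℂ) else 0 := by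
  split_ifs with h
  · rw [h]; simp
  · have := mul_neg_geom_sum w p
    rw [hw, sub_self, mul_eq_zero] at this
    rcases this with h1 | h1
    · exact absurd (sub_eq_zero.1 h1).symm h
    · exact h1

theorem lam_conj (c : D.C) : conj (D.lam c : ℂ) = (D.lam c : ℂ)⁻¹ := by
  have h2 : ‖(D.lam c : ℂ)‖ = 1 := by
    refine Complex.norm_eq_one_of_pow_eq_one (n := p) ?_ D.prime.ne_zero
    rw [← Units.val_pow_eq_pow_val, D.lamp, Units.val_one]
  exact (Complex.inv_eq_conj h2).symm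

theorem lam_pow_p (c : D.C) : (D.lam c : ℂ) ^ p = 1 := by
  rw [← Units.val_pow_eq_pow_val, D.lamp, Units.val_one]

/-- the characters `lam^i th` -/
noncomputable def lt (i : ℕ) : D.C → ℂ := fun c => (D.lam c : ℂ) ^ i * (D.th : D.C → ℂ) c

theorem lt_zero : D.lt 0 = (D.th : D.C → ℂ) := by
  funext c; simp [lt]

theorem lt_mod (i : ℕ) : D.lt (i % p) = D.lt i := by
  funext c
  unfold lt
  congr 1
  conv_rhs => rw [← Nat.div_add_mod i p, pow_add, pow_mul, D.lam_pow_p, one_pow, one_mul]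

theorem lt_congr {i j : ℕ} (h : i ≡ j [MOD p]) : D.lt i = D.lt j := by
  rw [← D.lt_mod i, ← D.lt_mod j, h]

theorem lt_irr (i : ℕ) : IsIrrCharacter D.C (D.lt i) := by
  letI := Fintype.ofFinite D.C
  have := irr_mul_lin D.th.2 (D.lam ^ i)
  refine (congrArg (IsIrrCharacter D.C) ?_).mp this
  funext c
  unfold lt
  rw [MonoidHom.pow_apply, Units.val_pow_eq_pow_val]

theorem lt_irr' {θ' : D.C → ℂ} (h : IsIrrCharacter D.C θ') (i : ℕ) :
    IsIrrCharacter D.C (fun c => (D.lam c : ℂ) ^ i * θ' c) := by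
  letI := Fintype.ofFinite D.C
  have := irr_mul_lin h (D.lam ^ i)
  refine (congrArg (IsIrrCharacter D.C) ?_).mp this
  funext c
  rw [MonoidHom.pow_apply, Units.val_pow_eq_pow_val]

theorem reg_mul (f : D.C → ℂ) (c : D.C) : reg p f c = if (D.lam c : ℂ) = 1 then f c else 0 := by
  split_ifs with h
  · exact reg_of ((D.lam_eq_one_iff c).1 h)
  · refine reg_not ?_
    by_contra hcon
    exact h ((D.lam_eq_one_iff c).2 hcon)

variable [Fintype D.C]

/-- Fourier transform -/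
theorem sum_mm (f : G → ℂ) : ∑ i ∈ Finset.range p, D.z ^ i * classInner (fun c : D.C => f c) (D.lt i) =
    p * classInner (reg p (fun c : D.C => f (D.x * c))) (D.th : D.C → ℂ) := by
  have hz0 : D.z ≠ 0 := D.z_prim.ne_zero D.prime.ne_zero
  unfold classInner
  have h1 : ∀ i ∈ Finset.range p, D.z ^ i * ((Nat.card D.C : ℂ)⁻¹ * ∑ g : D.C, f g * conj (D.lt i g)) =
      (Nat.card D.C : ℂ)⁻¹ * ∑ g : D.C, (f g * conj ((D.th : D.C → ℂ) g)) * (D.z * (D.lam g : ℂ)⁻¹) ^ i := by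
    intro i _
    rw [Finset.mul_sum, Finset.mul_sum, Finset.mul_sum]
    refine Finset.sum_congr rfl fun g _ => ?_
    unfold lt
    rw [map_mul, map_pow, D.lam_conj, mul_pow]; ring
  rw [Finset.sum_congr rfl h1, ← Finset.mul_sum, Finset.sum_comm]
  simp_rw [← Finset.mul_sum]
  have h2 : ∀ g : D.C, ∑ i ∈ Finset.range p, (D.z * (D.lam g : ℂ)⁻¹) ^ i = if (D.lam g : ℂ) = D.z then (p : ℂ) else 0 := by
    intro g
    rw [sum_pow _ (by rw [mul_pow, D.z_pow, inv_pow, D.lam_pow_p, inv_one, one_mul])]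
    have h3 : (D.lam g : ℂ) ≠ 0 := Units.ne_zero _
    by_cases h : (D.lam g : ℂ) = D.z
    · rw [if_pos h, if_pos (by rw [h, mul_inv_cancel₀ hz0])]
    · rw [if_neg h, if_neg]
      intro h4
      apply h
      rw [mul_inv_eq_one₀ h3] at h4
      exact h4.symm
  simp_rw [h2]
  rw [← Equiv.sum_comp (Equiv.mulLeft D.xc)]
  rw [← mul_assoc, mul_comm (p : ℂ), mul_assoc, Finset.mul_sum (s := Finset.univ) (a := (p : ℂ))]
  congr 1
  refine Finset.sum_congr rfl fun g _ => ?_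
  rw [D.reg_mul]
  have h5 : (D.lam (Equiv.mulLeft D.xc g) : ℂ) = D.z ↔ (D.lam g : ℂ) = 1 := by
    change (D.lam (D.xc * g) : ℂ) = D.z ↔ _
    rw [map_mul, Units.val_mul]
    change D.z * _ = D.z ↔ _
    constructor
    · intro h; exact mul_left_cancel₀ hz0 (by rw [h, mul_one])
    · intro h; rw [h, mul_one]
  have h6 : (D.th : D.C → ℂ) (Equiv.mulLeft D.xc g) = (D.th : D.C → ℂ) g := D.thx g
  have h7 : ((Equiv.mulLeft D.xc g : D.C) : G) = D.x * g := rfl
  rw [h6, h7]
  by_cases h : (D.lam g : ℂ) = 1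
  · rw [if_pos h, if_pos (h5.2 h)]; ring
  · rw [if_neg h, if_neg (fun h8 => h (h5.1 h8))]; ring

theorem lt_eq_iff {θ' : D.C → ℂ} (hθ' : IsIrrCharacter D.C θ')
    (hx : ∀ c, θ' (D.xc * c) = θ' c) (i j : ℕ) (h : (fun c => (D.lam c : ℂ) ^ i * θ' c) = D.lt j) :
    i ≡ j [MOD p] ∧ θ' = (D.th : D.C → ℂ) := by
  have h0 : θ' 1 ≠ 0 := CfsgLib.CharInt.irr_one_ne_zero hθ'
  have h1 := congrFun h 1
  unfold lt at h1
  simp only [map_one, Units.val_one, one_pow, one_mul] at h1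
  have h2 := congrFun h (D.xc * 1)
  unfold lt at h2
  simp only [hx] at h2
  have h3 : (D.th : D.C → ℂ) (D.xc * 1) = (D.th : D.C → ℂ) 1 := D.thx 1
  rw [h3, ← h1, mul_one] at h2
  have h4 := mul_right_cancel₀ h0 h2
  change D.z ^ i = D.z ^ j at h4
  have h5 : i ≡ j [MOD p] := by
    have hp0 : 0 < p := D.prime.pos
    rw [pow_eq_pow_mod i D.z_pow, pow_eq_pow_mod j D.z_pow] at h4
    exact D.z_prim.pow_inj (Nat.mod_lt _ hp0) (Nat.mod_lt _ hp0) h4
  refine ⟨h5, ?_⟩
  rw [← D.lt_congr h5] at h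
  funext c
  have h6 := congrFun h c
  unfold lt at h6
  exact mul_left_cancel₀ (pow_ne_zero _ (Units.ne_zero _)) h6

theorem lt_inner (i j : ℕ) : classInner (D.lt i) (D.lt j) = if i ≡ j [MOD p] then 1 else 0 := by
  classical
  rw [irr_inner (D.lt_irr i) (D.lt_irr j)]
  congr 1
  apply propext
  constructor
  · intro h
    exact (D.lt_eq_iff D.th.2 D.thx i j h).1
  · intro h; exact D.lt_congr h

theorem lt_inner' {θ' : D.C → ℂ} (hθ' : IsIrrCharacter D.C θ')
    (hx : ∀ c, θ' (D.xc * c) = θ' c) (hne : θ' ≠ (D.th : D.C → ℂ)) (i j : ℕ) :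
    classInner (fun c => (D.lam c : ℂ) ^ i * θ' c) (D.lt j) = 0 := by
  classical
  rw [irr_inner (D.lt_irr' hθ' i) (D.lt_irr j), if_neg]
  intro h
  exact hne (D.lt_eq_iff hθ' hx i j h).2

/-- column orthogonality as a count -/
theorem col_count [DecidableEq G] (g h : G) : ∑ χ : IrrCharacter G, (χ : G → ℂ) g * conj ((χ : G → ℂ) h) =
    ∑ t : G, if t * g * t⁻¹ = h then (1 : ℂ) else 0 := by
  classical
  rw [column_orthogonality]
  have h1 := card_transporter (x := g) (z := h)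
  rw [Finset.sum_boole, h1]
  by_cases hc : IsConj g h
  · rw [if_pos hc, cInd_of hc, mul_one]
  · rw [if_neg hc, cInd_not hc, mul_zero]

theorem gram_aux (φ ψ : D.C → ℂ) :
    ∑ χ : IrrCharacter G, classInner (fun c : D.C => (χ : G → ℂ) c) φ * conj (classInner (fun c : D.C => (χ : G → ℂ) c) ψ) =
      (Nat.card D.C : ℂ)⁻¹ * (Nat.card D.C : ℂ)⁻¹ * ∑ t : G, ∑ c : D.C, conj (φ c) * ext0 D.C ψ (t * c * t⁻¹) := by
  classical
  have h1 : ∀ χ : IrrCharacter G, classInner (fun c : D.C => (χ : G → ℂ) c) φ * conj (classInner (fun c : D.C => (χ : G → ℂ) c) ψ) =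
      (Nat.card D.C : ℂ)⁻¹ * (Nat.card D.C : ℂ)⁻¹ * ∑ c : D.C, ∑ c' : D.C, (conj (φ c) * ψ c') * ((χ : G → ℂ) c * conj ((χ : G → ℂ) c')) := by
    intro χ
    unfold classInner
    rw [map_mul, map_inv₀, map_natCast, map_sum]
    rw [mul_mul_mul_comm, Finset.sum_mul_sum]
    congr 1
    refine Finset.sum_congr rfl fun c _ => Finset.sum_congr rfl fun c' _ => ?_
    rw [map_mul, Complex.conj_conj]; ring
  rw [Finset.sum_congr rfl (fun χ _ => h1 χ), ← Finset.mul_sum]
  congr 1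
  rw [Finset.sum_comm]
  rw [Finset.sum_comm (s := (Finset.univ : Finset G))]
  refine Finset.sum_congr rfl fun c _ => ?_
  rw [Finset.sum_comm]
  have h2 : ∀ c' : D.C, ∑ χ : IrrCharacter G, (conj (φ c) * ψ c') * ((χ : G → ℂ) c * conj ((χ : G → ℂ) c')) =
      ∑ t : G, (conj (φ c) * ψ c') * (if t * (c : G) * t⁻¹ = c' then (1 : ℂ) else 0) := by
    intro c'
    rw [← Finset.mul_sum, ← Finset.mul_sum, col_count]
  rw [Finset.sum_congr rfl (fun c' _ => h2 c'), Finset.sum_comm]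
  refine Finset.sum_congr rfl fun t _ => ?_
  by_cases ht : t * (c : G) * t⁻¹ ∈ D.C
  · rw [ext0_mem ψ ht, Finset.sum_eq_single ⟨_, ht⟩]
    · rw [if_pos rfl, mul_one]
    · intro c' _ hne
      rw [if_neg, mul_zero]
      intro h; exact hne (Subtype.ext h.symm)
    · intro h; exact absurd (Finset.mem_univ _) h
  · rw [ext0_not ψ ht, mul_zero]
    refine Finset.sum_eq_zero fun c' _ => ?_
    rw [if_neg, mul_zero]
    intro h; exact ht (h ▸ c'.2)

/-- an exponent extracting the `p`-part -/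
noncomputable def ss (D : Dat p G) : ℕ := (Nat.chineseRemainder D.h.coprime 1 0 : ℕ)

omit [Fintype D.C] in
theorem ss_p : D.ss ≡ 1 [MOD p] := (Nat.chineseRemainder D.h.coprime 1 0).2.1

omit [Fintype D.C] in
theorem ss_q : D.ss ≡ 0 [MOD (Nat.card G / p)] := (Nat.chineseRemainder D.h.coprime 1 0).2.2

omit [Fintype D.C] in
theorem reg_pow_ss {y : G} (hy : ¬ p ∣ orderOf y) : y ^ D.ss = 1 := by
  rw [← orderOf_dvd_iff_pow_eq_one]
  have h1 : orderOf y ∣ Nat.card G / p := by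
    have h2 : orderOf y ∣ p * (Nat.card G / p) := by rw [D.h.card]; exact orderOf_dvd_natCard y
    exact Nat.Coprime.dvd_of_dvd_mul_left ((Nat.Prime.coprime_iff_not_dvd D.prime).mpr hy).symm h2
  exact h1.trans ((Nat.modEq_zero_iff_dvd).1 D.ss_q)

omit [Fintype D.C] in
theorem x_pow_congr {i j : ℕ} (h : i ≡ j [MOD p]) : D.x ^ i = D.x ^ j := by
  rw [pow_eq_pow_iff_modEq, D.hx]; exact h

omit [Fintype D.C] in
theorem decomp_pow_ss {j : ℕ} {y : D.C} (hy : ¬ p ∣ orderOf y) : (((D.xc ^ j * y : D.C) : G)) ^ D.ss = D.x ^ j := by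
  have hc : Commute (D.x ^ j) (y : G) := by
    have : Commute (y : G) D.x := Subgroup.mem_centralizer_singleton_iff.1 y.2
    exact (this.pow_right j).symm
  have h1 : ((D.xc ^ j * y : D.C) : G) = D.x ^ j * y := rfl
  rw [h1, hc.mul_pow, D.reg_pow_ss (y := (y : G)) (by rwa [Subgroup.orderOf_coe]), mul_one, ← pow_mul]
  apply D.x_pow_congr
  have := (D.ss_p).mul_left j
  rwa [mul_one] at this

omit [Fintype D.C] in
theorem sing_iff (c : D.C) {j : ℕ} {y : D.C} (hc : c = D.xc ^ j * y) (hy : ¬ p ∣ orderOf y) :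
    p ∣ orderOf c ↔ ¬ j ≡ 0 [MOD p] := by
  have h1 : (D.lam c : ℂ) = D.z ^ j := by
    rw [hc, map_mul, Units.val_mul, D.lam_xc_pow, (D.lam_eq_one_iff y).2 hy, mul_one]
  rw [← not_iff_not, ← D.lam_eq_one_iff, h1, not_not, D.z_prim.pow_eq_one_iff_dvd, Nat.modEq_zero_iff_dvd]

omit [Fintype D.C] in
/-- conjugating a singular element of the centralizer into the centralizer -/
theorem conj_norm {t : G} {c : D.C} (hc : p ∣ orderOf c) (ht : t * (c : G) * t⁻¹ ∈ D.C) :
    t ∈ Subgroup.normalizer ((Subgroup.zpowers D.x : Subgroup G) : Set G) := by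
  haveI : Fact p.Prime := ⟨D.prime⟩
  obtain ⟨j, y, hj, hcj, hy, -⟩ := D.decomp c
  obtain ⟨i, y', hi, hci, hy', -⟩ := D.decomp ⟨_, ht⟩
  have h1 : (c : G) ^ D.ss = D.x ^ j := by rw [hcj]; exact D.decomp_pow_ss hy
  have h2 : (t * (c : G) * t⁻¹) ^ D.ss = D.x ^ i := by
    have h3 : (t * (c : G) * t⁻¹) = ((D.xc ^ i * y' : D.C) : G) := congrArg Subtype.val hci
    rw [h3]; exact D.decomp_pow_ss hy'
  rw [conj_pow, h1] at h2
  have hj0 : ¬ j ≡ 0 [MOD p] := (D.sing_iff c hcj hy).1 hc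
  have hj1 : ¬ p ∣ j := fun h => hj0 ((Nat.modEq_zero_iff_dvd).2 h)
  -- an inverse of `j`
  obtain ⟨k, hk⟩ : ∃ k : ℕ, j * k ≡ 1 [MOD p] := by
    have hcop : Nat.Coprime j p := ((Nat.Prime.coprime_iff_not_dvd D.prime).2 hj1).symm
    obtain ⟨k, -, hk⟩ := Nat.exists_mul_mod_eq_one_of_coprime hcop D.prime.one_lt
    exact ⟨k, by rw [Nat.ModEq, hk, Nat.mod_eq_of_lt D.prime.one_lt]⟩
  have h3 : t * D.x * t⁻¹ = D.x ^ (i * k) := by
    have h4 : D.x = (D.x ^ j) ^ k := by
      rw [← pow_mul, D.x_pow_congr hk, pow_one]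
    rw [pow_mul, ← h2, conj_pow, ← h4]
  have hle : (Subgroup.zpowers D.x).map (MulAut.conj t).toMonoidHom ≤ Subgroup.zpowers D.x := by
    rw [MonoidHom.map_zpowers, Subgroup.zpowers_le]
    change t * D.x * t⁻¹ ∈ _
    rw [h3]
    exact Subgroup.pow_mem _ (Subgroup.mem_zpowers _) _
  exact mem_normalizer_of_map_conj hle

end Dat

end CfsgLib.Once19
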