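import Mathlib
import Cfsg.Agent.EqBase
import Cfsg.Agent.LibOnceB19

set_option autoImplicit false
set_option maxHeartbeats 400000
set_option linter.unusedSectionVars false
set_option linter.style.haveILetI false

/-! Blocks of defect one: the Gram matrix. -/

namespace CfsgLib.Once19

open CfsgLib.CharInt hiding irr_isCharacter irr_classFun irr_one_ne_zero schur_scalar
open Cfsg CfsgLib.CharInt2 CfsgLib.CharBasic CfsgLib.BlockR CfsgLib.BlockCore
  CfsgLib.BlockIdem CfsgLib.BlockIdeal CfsgLib.BlockConj CfsgLib.BlockBrauer CfsgLib.BlockInd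
  CfsgLib.BlockFMT CfsgLib.BlockFMT2 CfsgLib.BlockOrth CfsgLib.BlockDefect
  CfsgLib.BlockReg CfsgLib.BlockReg2 CfsgLib.BlockCount CfsgLib.BlockCount2 CfsgLib.BlockQP
  CfsgLib.BlockCov3 CfsgLib.BlockCov4 CfsgLib.BlockSec CfsgLib.BlockSec3 CfsgLib.CharNorm CfsgLib.Ur
open scoped ComplexConjugate

universe u
variable {p : ℕ} {G : Type u} [Group G] [Fintype G]

namespace Dat
variable (D : Dat p G)

/-- normalizer of the Sylow subgroup -/
abbrev N : Subgroup G := Subgroup.normalizer ((Subgroup.zpowers D.x : Subgroup G) : Set G)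

theorem norm_pow {t : G} (ht : t ∈ D.N) : ∃ a : ℕ, t * D.x * t⁻¹ = D.x ^ a := by
  haveI : Fact p.Prime := ⟨D.prime⟩
  have h1 : t * D.x * t⁻¹ ∈ Subgroup.zpowers D.x :=
    (Subgroup.mem_normalizer_iff.1 ht D.x).1 (Subgroup.mem_zpowers _)
  obtain ⟨a, ha⟩ := (mem_powers_iff_mem_zpowers (x := D.x)).2 h1
  exact ⟨a, ha.symm⟩

theorem norm_pow_ne {t : G} {a : ℕ} (h : t * D.x * t⁻¹ = D.x ^ a) : ¬ p ∣ a := by
  rintro ⟨b, rfl⟩
  have h0 := pow_orderOf_eq_one D.x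
  rw [D.hx] at h0
  rw [pow_mul, h0, one_pow, conj_eq_one_iff] at h
  have := D.hx
  rw [h, orderOf_one] at this
  exact D.prime.one_lt.ne this

theorem conj_mem {t : G} (ht : t ∈ D.N) (c : D.C) : t * (c : G) * t⁻¹ ∈ D.C := by
  have h0 : t⁻¹ ∈ D.N := D.N.inv_mem ht
  obtain ⟨b, hb⟩ := D.norm_pow h0
  rw [inv_inv] at hb
  rw [Subgroup.mem_centralizer_singleton_iff]
  have h1 : (c : G) * (t⁻¹ * D.x * t) = (t⁻¹ * D.x * t) * c := by
    rw [hb]
    have : Commute (c : G) D.x := Subgroup.mem_centralizer_singleton_iff.1 c.2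
    exact this.pow_right b
  calc t * (c : G) * t⁻¹ * D.x = t * ((c : G) * (t⁻¹ * D.x * t)) * t⁻¹ := by group
    _ = t * ((t⁻¹ * D.x * t) * c) * t⁻¹ := by rw [h1]
    _ = _ := by group

/-- conjugation on the centralizer -/
def cj {t : G} (ht : t ∈ D.N) : D.C ≃* D.C where
  toFun c := ⟨t * c * t⁻¹, D.conj_mem ht c⟩
  invFun c := ⟨t⁻¹ * c * t, by
    have := D.conj_mem (D.N.inv_mem ht) c
    rwa [inv_inv] at this⟩
  left_inv c := by apply Subtype.ext; simp only; group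
  right_inv c := by apply Subtype.ext; simp only; group
  map_mul' a b := by apply Subtype.ext; simp only [Subgroup.coe_mul]; group

theorem cj_coe {t : G} (ht : t ∈ D.N) (c : D.C) : (D.cj ht c : G) = t * c * t⁻¹ := rfl

theorem cj_reg {t : G} (ht : t ∈ D.N) {c : D.C} (hc : ¬ p ∣ orderOf c) : ¬ p ∣ orderOf (D.cj ht c) := by
  rwa [MulEquiv.orderOf_eq]

theorem cj_decomp {t : G} (ht : t ∈ D.N) {a : ℕ} (ha : t * D.x * t⁻¹ = D.x ^ a) (i : ℕ) (y : D.C) :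
    D.cj ht (D.xc ^ i * y) = D.xc ^ (a * i) * D.cj ht y := by
  rw [map_mul, map_pow]
  congr 1
  rw [pow_mul]
  congr 1
  apply Subtype.ext
  rw [cj_coe]
  exact ha

theorem lam_cj {t : G} (ht : t ∈ D.N) {a : ℕ} (ha : t * D.x * t⁻¹ = D.x ^ a) (c : D.C) :
    (D.lam (D.cj ht c) : ℂ) = (D.lam c : ℂ) ^ a := by
  obtain ⟨i, y, -, hc, hy, hl⟩ := D.decomp c
  rw [hl, hc, D.cj_decomp ht ha, map_mul, Units.val_mul, D.lam_xc_pow, (D.lam_eq_one_iff _).2 (D.cj_reg ht hy), mul_one,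
    ← pow_mul, mul_comm]

theorem th_cj_irr {t : G} (ht : t ∈ D.N) : IsIrrCharacter D.C (fun c => (D.th : D.C → ℂ) (D.cj ht c)) :=
  isIrrCharacter_comp_equiv D.th.2 (D.cj ht)

theorem th_cj_x {t : G} (ht : t ∈ D.N) (c : D.C) :
    (D.th : D.C → ℂ) (D.cj ht (D.xc * c)) = (D.th : D.C → ℂ) (D.cj ht c) := by
  obtain ⟨a, ha⟩ := D.norm_pow ht
  have := D.cj_decomp ht ha 1 c
  rw [pow_one] at this
  rw [this, D.th_pow]

variable [Fintype D.C]

theorem inner_t {t : G} (ht : t ∈ D.N) {j k : ℕ} (hj : ¬ j ≡ 0 [MOD p]) (hk : ¬ k ≡ 0 [MOD p])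
    [Decidable (t * D.x ^ k * t⁻¹ = D.x ^ j)] [Decidable ((fun c => (D.th : D.C → ℂ) (D.cj ht c)) = (D.th : D.C → ℂ))] :
    ∑ c : D.C, conj (D.lt j c - D.lt 0 c) * ext0 D.C (D.lt k - D.lt 0) (t * c * t⁻¹) =
      if (fun c => (D.th : D.C → ℂ) (D.cj ht c)) = (D.th : D.C → ℂ) then
        (Nat.card D.C : ℂ) * (if t * D.x ^ k * t⁻¹ = D.x ^ j then 2 else 1) else 0 := by
  obtain ⟨a, ha⟩ := D.norm_pow ht
  have hpa := D.norm_pow_ne ha
  have h1 : ∀ c : D.C, ext0 D.C (D.lt k - D.lt 0) (t * c * t⁻¹) =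
      (D.lam c : ℂ) ^ (a * k) * (D.th : D.C → ℂ) (D.cj ht c) - (D.lam c : ℂ) ^ 0 * (D.th : D.C → ℂ) (D.cj ht c) := by
    intro c
    rw [ext0_mem _ (D.conj_mem ht c), Pi.sub_apply]
    have h2 : (⟨t * c * t⁻¹, D.conj_mem ht c⟩ : D.C) = D.cj ht c := rfl
    rw [h2]
    unfold lt
    rw [D.lam_cj ht ha, pow_zero, pow_mul, pow_zero]
  have hN : (Nat.card D.C : ℂ) ≠ 0 := by exact_mod_cast Nat.card_pos.ne'
  have h3 : ∑ c : D.C, conj (D.lt j c - D.lt 0 c) * ext0 D.C (D.lt k - D.lt 0) (t * c * t⁻¹) =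
      (Nat.card D.C : ℂ) * classInner ((fun c : D.C => (D.lam c : ℂ) ^ (a * k) * (D.th : D.C → ℂ) (D.cj ht c)) -
        (fun c : D.C => (D.lam c : ℂ) ^ 0 * (D.th : D.C → ℂ) (D.cj ht c))) (D.lt j - D.lt 0) := by
    unfold classInner
    rw [mul_inv_cancel_left₀ hN]
    refine Finset.sum_congr rfl fun c _ => ?_
    rw [h1]
    simp only [Pi.sub_apply]
    ring
  rw [h3, ci_sub_l, ci_sub_r, ci_sub_r]
  by_cases hθ : (fun c => (D.th : D.C → ℂ) (D.cj ht c)) = (D.th : D.C → ℂ)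
  · rw [if_pos hθ]
    have h4 : ∀ i : ℕ, (fun c : D.C => (D.lam c : ℂ) ^ i * (D.th : D.C → ℂ) (D.cj ht c)) = D.lt i := by
      intro i
      funext c
      have := congrFun hθ c
      rw [this]; rfl
    rw [h4, h4, D.lt_inner, D.lt_inner, D.lt_inner, D.lt_inner]
    have e1 : ¬ a * k ≡ 0 [MOD p] := by
      rw [Nat.modEq_zero_iff_dvd]
      intro h
      rcases (D.prime.dvd_mul).1 h with h | h
      · exact hpa h
      · exact hk ((Nat.modEq_zero_iff_dvd).2 h)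
    have e2 : ¬ 0 ≡ j [MOD p] := fun h => hj h.symm
    rw [if_neg e1, if_neg e2, if_pos (Nat.ModEq.refl 0)]
    have e3 : a * k ≡ j [MOD p] ↔ t * D.x ^ k * t⁻¹ = D.x ^ j := by
      rw [← conj_pow, ha, ← pow_mul, pow_eq_pow_iff_modEq, D.hx]
    by_cases h5 : t * D.x ^ k * t⁻¹ = D.x ^ j
    · rw [if_pos (e3.2 h5), if_pos h5]; ring
    · rw [if_neg (fun h => h5 (e3.1 h)), if_neg h5]; ring
  · rw [if_neg hθ]
    have h5 := D.lt_inner' (D.th_cj_irr ht) (D.th_cj_x ht) hθ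
    rw [h5, h5, h5, h5]; ring

/-- the coefficients -/
noncomputable def aC (j : ℕ) (χ : IrrCharacter G) : ℂ :=
  classInner (fun c : D.C => (χ : G → ℂ) c) (D.lt j) - classInner (fun c : D.C => (χ : G → ℂ) c) (D.lt 0)

theorem gramC {j k : ℕ} (hj : ¬ j ≡ 0 [MOD p]) (hk : ¬ k ≡ 0 [MOD p]) {T : Subgroup G}
    (hT : ∀ g : G, g ∈ T ↔ g ∈ D.N ∧ ∀ c c' : D.C, (c' : G) = g * c * g⁻¹ → (D.th : D.C → ℂ) c' = (D.th : D.C → ℂ) c)
    [DecidablePred (· ∈ T)] [DecidableEq G] :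
    ∑ χ : IrrCharacter G, D.aC j χ * conj (D.aC k χ) =
      (Nat.card D.C : ℂ)⁻¹ * ∑ t : G, if t ∈ T then (if t * D.x ^ k * t⁻¹ = D.x ^ j then (2 : ℂ) else 1) else 0 := by
  classical
  have hN : (Nat.card D.C : ℂ) ≠ 0 := by exact_mod_cast Nat.card_pos.ne'
  have h1 : ∀ (i : ℕ) (χ : IrrCharacter G), D.aC i χ = classInner (fun c : D.C => (χ : G → ℂ) c) (D.lt i - D.lt 0) := by
    intro i χ
    rw [ci_sub_r]; rfl
  simp_rw [h1]
  rw [D.gram_aux, mul_assoc]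
  congr 1
  rw [Finset.mul_sum]
  refine Finset.sum_congr rfl fun t _ => ?_
  by_cases htN : t ∈ D.N
  · have h2 := D.inner_t htN hj hk
    have h3 : ((fun c => (D.th : D.C → ℂ) (D.cj htN c)) = (D.th : D.C → ℂ)) ↔ t ∈ T := by
      rw [hT]
      constructor
      · intro h
        refine ⟨htN, fun c c' hc => ?_⟩
        have h4 : c' = D.cj htN c := Subtype.ext hc
        rw [h4]
        exact congrFun h c
      · rintro ⟨-, h⟩
        funext c
        exact h c _ rfl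
    have h4 : ∀ c : D.C, conj ((D.lt j - D.lt 0) c) = conj (D.lt j c - D.lt 0 c) := fun c => rfl
    simp_rw [h4]
    rw [h2]
    by_cases htT : t ∈ T
    · rw [if_pos (h3.2 htT), if_pos htT, inv_mul_cancel_left₀ hN]
    · rw [if_neg (fun h => htT (h3.1 h)), if_neg htT, mul_zero]
  · rw [if_neg (fun h => htN ((hT t).1 h).1)]
    rw [Finset.sum_eq_zero, mul_zero]
    intro c _
    by_cases hc : p ∣ orderOf c
    · by_cases ht : t * (c : G) * t⁻¹ ∈ D.C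
      · exact absurd (D.conj_norm hc ht) htN
      · rw [ext0_not _ ht, mul_zero]
    · have h5 : (D.lam c : ℂ) = 1 := (D.lam_eq_one_iff c).2 hc
      have h6 : (D.lt j - D.lt 0) c = 0 := by
        rw [Pi.sub_apply]
        unfold lt
        rw [h5, one_pow, one_pow, sub_self]
      rw [h6, map_zero, zero_mul]

theorem exists_mZ (i : ℕ) (χ : IrrCharacter G) : ∃ n : ℕ, classInner (fun c : D.C => (χ : G → ℂ) c) (D.lt i) = n :=
  char_mult (isCharacter_restrict (CfsgLib.CharBasic.irr_isCharacter χ.2) D.C) (CfsgLib.CharBasic.irr_isCharacter (D.lt_irr i))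

/-- multiplicities -/
noncomputable def mZ (i : ℕ) (χ : IrrCharacter G) : ℕ := (D.exists_mZ i χ).choose

theorem mZ_spec (i : ℕ) (χ : IrrCharacter G) : classInner (fun c : D.C => (χ : G → ℂ) c) (D.lt i) = D.mZ i χ :=
  (D.exists_mZ i χ).choose_spec

/-- integer coefficients -/
noncomputable def aZ (i : ℕ) (χ : IrrCharacter G) : ℤ := (D.mZ i χ : ℤ) - D.mZ 0 χ

theorem aZ_spec (i : ℕ) (χ : IrrCharacter G) : (D.aZ i χ : ℂ) = D.aC i χ := by
  unfold aZ aC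
  rw [mZ_spec, mZ_spec]; push_cast; ring

theorem mZ_congr {i j : ℕ} (h : i ≡ j [MOD p]) (χ : IrrCharacter G) : D.mZ i χ = D.mZ j χ := by
  have h1 := D.mZ_spec i χ
  rw [D.lt_congr h, D.mZ_spec] at h1
  exact_mod_cast h1.symm

theorem aZ_congr {i j : ℕ} (h : i ≡ j [MOD p]) (χ : IrrCharacter G) : D.aZ i χ = D.aZ j χ := by
  unfold aZ; rw [D.mZ_congr h]

/-- the integral Gram matrix -/
theorem gramZ {j k : ℕ} (hj : ¬ j ≡ 0 [MOD p]) (hk : ¬ k ≡ 0 [MOD p]) {T : Subgroup G}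
    (hT : ∀ g : G, g ∈ T ↔ g ∈ D.N ∧ ∀ c c' : D.C, (c' : G) = g * c * g⁻¹ → (D.th : D.C → ℂ) c' = (D.th : D.C → ℂ) c)
    [DecidablePred (· ∈ T)] [DecidableEq G] :
    (Nat.card D.C : ℤ) * ∑ χ : IrrCharacter G, D.aZ j χ * D.aZ k χ =
      Nat.card T + (Finset.univ.filter (fun t : G => t ∈ T ∧ t * D.x ^ k * t⁻¹ = D.x ^ j)).card := by
  classical
  have h1 := D.gramC hj hk hT
  have hN : (Nat.card D.C : ℂ) ≠ 0 := by exact_mod_cast Nat.card_pos.ne'
  have h2 : ∀ χ : IrrCharacter G, D.aC j χ * conj (D.aC k χ) = ((D.aZ j χ * D.aZ k χ : ℤ) : ℂ) := by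
    intro χ
    rw [← D.aZ_spec, ← D.aZ_spec, map_intCast]; push_cast; ring
  rw [Finset.sum_congr rfl (fun χ _ => h2 χ), eq_inv_mul_iff_mul_eq₀ hN] at h1
  have h3 : ∑ t : G, (if t ∈ T then (if t * D.x ^ k * t⁻¹ = D.x ^ j then (2 : ℂ) else 1) else 0) =
      ((Nat.card T + (Finset.univ.filter (fun t : G => t ∈ T ∧ t * D.x ^ k * t⁻¹ = D.x ^ j)).card : ℕ) : ℂ) := by
    have h4 : Nat.card T = (Finset.univ.filter (fun t : G => t ∈ T)).card := by
      rw [Nat.card_eq_fintype_card, ← Fintype.card_subtype]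
    rw [h4]
    push_cast
    rw [← Finset.sum_boole, ← Finset.sum_boole, ← Finset.sum_add_distrib]
    refine Finset.sum_congr rfl fun t _ => ?_
    by_cases ht : t ∈ T <;> by_cases h5 : t * D.x ^ k * t⁻¹ = D.x ^ j <;> simp [ht, h5]
    norm_num
  rw [h3] at h1
  exact_mod_cast h1

end Dat

end CfsgLib.Once19
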