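import Mathlib
import Cfsg.Agent.EqBase
import Cfsg.Agent.LibOnceC19

set_option autoImplicit false
set_option maxHeartbeats 400000
set_option linter.unusedSectionVars false
set_option linter.style.haveILetI false

/-! Blocks of defect one: the structure theorem. -/

namespace CfsgLib.Once19

open CfsgLib.CharInt hiding irr_isCharacter irr_classFun irr_one_ne_zero schur_scalar
open Cfsg CfsgLib.CharInt2 CfsgLib.CharBasic CfsgLib.BlockR CfsgLib.BlockCore
  CfsgLib.BlockIdem CfsgLib.BlockIdeal CfsgLib.BlockConj CfsgLib.BlockBrauer CfsgLib.BlockInd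
  CfsgLib.BlockFMT CfsgLib.BlockFMT2 CfsgLib.BlockOrth CfsgLib.BlockDefect
  CfsgLib.BlockReg CfsgLib.BlockReg2 CfsgLib.BlockCount CfsgLib.BlockCount2 CfsgLib.BlockQP
  CfsgLib.BlockCov3 CfsgLib.BlockCov4 CfsgLib.BlockSec CfsgLib.BlockSec3 CfsgLib.CharNorm CfsgLib.Ur
open scoped ComplexConjugate

universe u
variable {p : ℕ} {G : Type u} [Group G] [Fintype G]

/-- representative of a unit -/
def uv (u : (ZMod p)ˣ) : ℕ := (u : ZMod p).val

theorem uv_cast [NeZero p] (u : (ZMod p)ˣ) : ((uv u : ℕ) : ZMod p) = u := by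
  unfold uv; rw [ZMod.natCast_zmod_val]

theorem uv_mul [NeZero p] (u v : (ZMod p)ˣ) : uv (u * v) ≡ uv u * uv v [MOD p] := by
  rw [← ZMod.natCast_eq_natCast_iff, Nat.cast_mul, uv_cast, uv_cast, uv_cast, Units.val_mul]

theorem uv_ne [hp : Fact p.Prime] (u : (ZMod p)ˣ) : ¬ uv u ≡ 0 [MOD p] := by
  intro h
  rw [← ZMod.natCast_eq_natCast_iff, uv_cast, Nat.cast_zero] at h
  exact u.ne_zero h

theorem exists_uv [hp : Fact p.Prime] {n : ℕ} (h : ¬ n ≡ 0 [MOD p]) : ∃ u : (ZMod p)ˣ, uv u ≡ n [MOD p] := by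
  have h1 : (n : ZMod p) ≠ 0 := by
    intro h2
    apply h
    rwa [← ZMod.natCast_eq_natCast_iff, Nat.cast_zero]
  refine ⟨Units.mk0 _ h1, ?_⟩
  rw [← ZMod.natCast_eq_natCast_iff, uv_cast]; rfl

theorem uv_one [hp : Fact p.Prime] : uv (1 : (ZMod p)ˣ) = 1 := by
  unfold uv
  rw [Units.val_one, ZMod.val_one]

theorem uv_inj [NeZero p] {u v : (ZMod p)ˣ} (h : uv u ≡ uv v [MOD p]) : u = v := by
  rw [← ZMod.natCast_eq_natCast_iff, uv_cast, uv_cast] at h
  exact Units.ext h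

/-- vanishing sums of `p`-th roots of unity -/
theorem all_equal {z : ℂ} (hp : p.Prime) (hz : IsPrimitiveRoot z p) (n : ℕ → ℤ)
    (h : ∑ i ∈ Finset.range p, z ^ i * (n i : ℂ) = 0) : ∀ i < p, n i = n 0 := by
  have hp1 : p = (p - 1) + 1 := by have := hp.pos; omega
  have hgeo : ∑ i ∈ Finset.range p, z ^ i = 0 := hz.geom_sum_eq_zero hp.one_lt
  let P : Polynomial ℤ := ∑ i ∈ Finset.range (p - 1), Polynomial.monomial i (n i - n (p - 1))
  have hPz : Polynomial.aeval z P = 0 := by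
    simp only [P, map_sum, Polynomial.aeval_monomial]
    have h1 : ∑ i ∈ Finset.range p, z ^ i * ((n i : ℂ) - n (p - 1)) = 0 := by
      simp_rw [mul_sub]
      rw [Finset.sum_sub_distrib, h, ← Finset.sum_mul, hgeo]; ring
    rw [hp1, Finset.sum_range_succ] at h1
    simp only [Nat.add_sub_cancel, sub_self, mul_zero, add_zero] at h1
    rw [← h1]
    refine Finset.sum_congr rfl fun i _ => ?_
    rw [mul_comm]; congr 1; simp
  have hcoef : ∀ i < p - 1, P.coeff i = n i - n (p - 1) := by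
    intro i hi
    simp only [P, Polynomial.finsetSum_coeff, Polynomial.coeff_monomial]
    rw [Finset.sum_ite_eq' (Finset.range (p - 1)) i, if_pos (Finset.mem_range.2 hi)]
  have hP0 : P = 0 := by
    by_contra hne
    have h2 : minpoly ℤ z ∣ P := minpoly.isIntegrallyClosed_dvd (hz.isIntegral hp.pos) hPz
    have h3 := Polynomial.natDegree_le_of_dvd h2 hne
    rw [← Polynomial.cyclotomic_eq_minpoly hz hp.pos, Polynomial.natDegree_cyclotomic, Nat.totient_prime hp] at h3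
    have h4 : P.natDegree < p - 1 := by
      have h5 : P.degree < (p - 1 : ℕ) := by
        refine (Polynomial.degree_sum_le _ _).trans_lt ?_
        rw [Finset.sup_lt_iff (by exact WithBot.bot_lt_coe _)]
        intro i hi
        refine (Polynomial.degree_monomial_le _ _).trans_lt ?_
        exact_mod_cast Finset.mem_range.1 hi
      exact (Polynomial.natDegree_lt_iff_degree_lt hne).2 h5
    omega
  have h6 : ∀ i < p, n i = n (p - 1) := by
    intro i hi
    rcases Nat.lt_or_ge i (p - 1) with h7 | h7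
    · have := hcoef i h7
      rw [hP0, Polynomial.coeff_zero] at this
      omega
    · have : i = p - 1 := by omega
      rw [this]
  intro i hi
  rw [h6 i hi, h6 0 hp.pos]

namespace Dat
variable (D : Dat p G)

section T
variable {T : Subgroup G}
  (hT : ∀ g : G, g ∈ T ↔ g ∈ D.N ∧ ∀ c c' : D.C, (c' : G) = g * c * g⁻¹ → (D.th : D.C → ℂ) c' = (D.th : D.C → ℂ) c)

theorem comm_of_pow {j : ℕ} (hj : ¬ j ≡ 0 [MOD p]) {t : G} (h : t * D.x ^ j * t⁻¹ = D.x ^ j) : t ∈ D.C := by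
  haveI : Fact p.Prime := ⟨D.prime⟩
  obtain ⟨u, hu⟩ := exists_uv hj
  have h1 : D.x ^ (j * uv u⁻¹) = D.x := by
    conv_rhs => rw [← pow_one D.x]
    apply D.x_pow_congr
    refine (hu.symm.mul_right _).trans ((uv_mul u u⁻¹).symm.trans ?_)
    rw [mul_inv_cancel, uv_one]
  rw [Subgroup.mem_centralizer_singleton_iff]
  have h2 : t * D.x * t⁻¹ = D.x := by
    conv_lhs => rw [← h1, pow_mul, ← conj_pow, h, ← pow_mul, h1]
  calc t * D.x = (t * D.x * t⁻¹) * t := by group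
    _ = _ := by rw [h2]

include hT in
theorem C_le_T : D.C ≤ T := by
  intro g hg
  rw [hT]
  refine ⟨?_, fun c c' hc => ?_⟩
  · have h1 : Subgroup.centralizer ((Subgroup.zpowers D.x : Subgroup G) : Set G) = D.C := centralizer_zpowers D.x
    exact Subgroup.centralizer_le_normalizer _ (by rw [h1]; exact hg)
  · have h2 : c' = ⟨g, hg⟩ * c * ⟨g, hg⟩⁻¹ := Subtype.ext hc
    rw [h2]
    exact CfsgLib.CharInt.irr_classFun D.th.2 _ _

include hT in
theorem T_le_N : T ≤ D.N := fun g hg => ((hT g).1 hg).1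

/-- fibre count -/
noncomputable def nT (T : Subgroup G) (j k : ℕ) : ℕ := by
  classical
  exact (Finset.univ.filter (fun t : G => t ∈ T ∧ t * D.x ^ k * t⁻¹ = D.x ^ j)).card

include hT in
theorem nT_pos {j k : ℕ} (hk : ¬ k ≡ 0 [MOD p]) {t0 : G} (ht0 : t0 ∈ T) (h0 : t0 * D.x ^ k * t0⁻¹ = D.x ^ j) :
    D.nT T j k = Nat.card D.C := by
  classical
  unfold nT
  rw [Nat.card_eq_fintype_card, ← Fintype.card_coe]
  refine Fintype.card_congr ⟨fun t => ⟨t0⁻¹ * t.1, ?_⟩, fun c => ⟨t0 * c, ?_⟩, ?_, ?_⟩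
  · have h1 := (Finset.mem_filter.1 t.2).2
    apply D.comm_of_pow hk
    have h2 : t0⁻¹ * t.1 * D.x ^ k * (t0⁻¹ * t.1)⁻¹ = t0⁻¹ * (t.1 * D.x ^ k * t.1⁻¹) * t0 := by group
    rw [h2, h1.2, ← h0]; group
  · rw [Finset.mem_filter]
    refine ⟨Finset.mem_univ _, T.mul_mem ht0 (D.C_le_T hT c.2), ?_⟩
    have h3 : (c : G) * D.x ^ k * (c : G)⁻¹ = D.x ^ k := by
      have : Commute (c : G) D.x := Subgroup.mem_centralizer_singleton_iff.1 c.2
      rw [(this.pow_right k).eq, mul_inv_cancel_right]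
    calc t0 * (c : G) * D.x ^ k * (t0 * (c : G))⁻¹ = t0 * ((c : G) * D.x ^ k * (c : G)⁻¹) * t0⁻¹ := by group
      _ = _ := by rw [h3, h0]
  · intro t; apply Subtype.ext; simp
  · intro c; apply Subtype.ext; simp

include hT in
theorem nT_self {j : ℕ} (hj : ¬ j ≡ 0 [MOD p]) : D.nT T j j = Nat.card D.C :=
  D.nT_pos hT hj T.one_mem (by simp)

include hT in
theorem sum_nT [Fintype (ZMod p)ˣ] (j : (ZMod p)ˣ) : ∑ k : (ZMod p)ˣ, D.nT T (uv j) (uv k) = Nat.card T := by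
  classical
  haveI : Fact p.Prime := ⟨D.prime⟩
  unfold nT
  simp_rw [Finset.card_filter]
  rw [Finset.sum_comm]
  have h1 : Nat.card T = (Finset.univ.filter (fun t : G => t ∈ T)).card := by
    rw [Nat.card_eq_fintype_card, ← Fintype.card_subtype]
  rw [h1, Finset.card_filter]
  refine Finset.sum_congr rfl fun t _ => ?_
  by_cases ht : t ∈ T
  · rw [if_pos ht]
    simp only [ht, true_and]
    obtain ⟨a, ha⟩ := D.norm_pow (D.T_le_N hT ht)
    have hpa := D.norm_pow_ne ha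
    obtain ⟨w, hw⟩ := exists_uv (p := p) (n := a) (fun h => hpa ((Nat.modEq_zero_iff_dvd).1 h))
    have h2 : ∀ k : (ZMod p)ˣ, t * D.x ^ uv k * t⁻¹ = D.x ^ uv j ↔ k = j * w⁻¹ := by
      intro k
      rw [← conj_pow, ha, ← pow_mul, pow_eq_pow_iff_modEq, D.hx]
      constructor
      · intro h
        have h3 : uv (w * k) ≡ uv j [MOD p] := (uv_mul w k).trans ((hw.mul_right _).trans h)
        have h4 := uv_inj h3
        rw [← h4, mul_comm w k, mul_inv_cancel_right]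
      · rintro rfl
        refine (hw.symm.mul_right _).trans ((uv_mul w _).symm.trans ?_)
        rw [mul_comm w, inv_mul_cancel_right]
    simp_rw [h2]
    simp
  · rw [if_neg ht]
    refine Finset.sum_eq_zero fun k _ => ?_
    rw [if_neg]
    exact fun h => ht h.1

variable [Fintype D.C]

include hT in
theorem gramN {j k : ℕ} (hj : ¬ j ≡ 0 [MOD p]) (hk : ¬ k ≡ 0 [MOD p]) :
    (Nat.card D.C : ℤ) * ∑ χ : IrrCharacter G, D.aZ j χ * D.aZ k χ = Nat.card T + D.nT T j k := by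
  classical
  have h := D.gramZ hj hk hT
  rw [h]
  unfold nT
  congr 3

/-- coefficients indexed by units -/
noncomputable def aU (u : (ZMod p)ˣ) (χ : IrrCharacter G) : ℤ := D.aZ (uv u) χ

include hT in
theorem c3 {e : ℕ} (he : Nat.card T = e * Nat.card D.C) (j : (ZMod p)ˣ) :
    ∑ χ : IrrCharacter G, D.aU j χ ^ 2 = 1 + e := by
  haveI : Fact p.Prime := ⟨D.prime⟩
  have h := D.gramN hT (uv_ne j) (uv_ne j)
  rw [D.nT_self hT (uv_ne j), he] at h
  have hN : (0 : ℤ) < Nat.card D.C := by exact_mod_cast Nat.card_pos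
  have h1 : ∀ χ : IrrCharacter G, D.aU j χ ^ 2 = D.aZ (uv j) χ * D.aZ (uv j) χ := fun χ => by rw [sq]; rfl
  rw [Finset.sum_congr rfl (fun χ _ => h1 χ)]
  apply mul_left_cancel₀ hN.ne'
  rw [h]; push_cast; ring

include hT in
theorem c4 {e : ℕ} (he : Nat.card T = e * Nat.card D.C) [Fintype (ZMod p)ˣ] (hU : Fintype.card (ZMod p)ˣ = p - 1)
    (j : (ZMod p)ˣ) :
    ∑ χ : IrrCharacter G, D.aU j χ * ∑ k, D.aU k χ = p * e := by
  haveI : Fact p.Prime := ⟨D.prime⟩
  have hN : (0 : ℤ) < Nat.card D.C := by exact_mod_cast Nat.card_pos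
  simp_rw [Finset.mul_sum]
  rw [Finset.sum_comm]
  apply mul_left_cancel₀ hN.ne'
  rw [Finset.mul_sum]
  have h1 : ∀ k : (ZMod p)ˣ, (Nat.card D.C : ℤ) * ∑ χ : IrrCharacter G, D.aU j χ * D.aU k χ =
      Nat.card T + D.nT T (uv j) (uv k) := fun k => D.gramN hT (uv_ne j) (uv_ne k)
  rw [Finset.sum_congr rfl (fun k _ => h1 k), Finset.sum_add_distrib, Finset.sum_const, Finset.card_univ, hU,
    nsmul_eq_mul, ← Nat.cast_sum, D.sum_nT hT, he]
  have hp := D.prime.pos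
  push_cast [show 1 ≤ p by omega]
  ring

include hT in
theorem c5 {e : ℕ} (he : Nat.card T = e * Nat.card D.C) [Fintype (ZMod p)ˣ] :
    ∃ H : Finset (ZMod p)ˣ, H.card = e ∧ ∀ u : (ZMod p)ˣ, (∀ j χ, D.aU j χ = D.aU (j * u) χ) → u ∈ H := by
  classical
  haveI : Fact p.Prime := ⟨D.prime⟩
  have hN : 0 < Nat.card D.C := Nat.card_pos
  refine ⟨Finset.univ.filter (fun u => 0 < D.nT T (uv (1 : (ZMod p)ˣ)) (uv u)), ?_, ?_⟩
  · have h1 := D.sum_nT hT 1
    have h2 : ∀ u : (ZMod p)ˣ, D.nT T (uv (1 : (ZMod p)ˣ)) (uv u) =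
        if 0 < D.nT T (uv (1 : (ZMod p)ˣ)) (uv u) then Nat.card D.C else 0 := by
      intro u
      split_ifs with h
      · have h3 : ∃ t0 ∈ T, t0 * D.x ^ (uv u) * t0⁻¹ = D.x ^ (uv (1 : (ZMod p)ˣ)) := by
          unfold nT at h
          obtain ⟨t, ht⟩ := Finset.card_pos.1 h
          rw [Finset.mem_filter] at ht
          exact ⟨t, ht.2⟩
        obtain ⟨t0, ht0, h0⟩ := h3
        exact D.nT_pos hT (uv_ne u) ht0 h0
      · omega
    rw [Finset.sum_congr rfl (fun u _ => h2 u), ← Finset.sum_filter, Finset.sum_const, smul_eq_mul, he] at h1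
    exact Nat.eq_of_mul_eq_mul_right hN h1
  · intro u hu
    rw [Finset.mem_filter]
    refine ⟨Finset.mem_univ _, ?_⟩
    have h1 := D.gramN hT (uv_ne (1 : (ZMod p)ˣ)) (uv_ne u)
    have h2 := D.gramN hT (uv_ne (1 : (ZMod p)ˣ)) (uv_ne (1 : (ZMod p)ˣ))
    have h3 : ∀ χ, D.aZ (uv u) χ = D.aZ (uv (1 : (ZMod p)ˣ)) χ := by
      intro χ
      have := hu 1 χ
      rw [one_mul] at this
      exact this.symm
    simp_rw [h3] at h1
    rw [h2, D.nT_self hT (uv_ne _)] at h1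
    have h4 : Nat.card D.C = D.nT T (uv (1 : (ZMod p)ˣ)) (uv u) := by
      have := add_left_cancel h1
      exact_mod_cast this
    rw [← h4]; exact hN

end T

section Gal
variable [Fintype D.C]

theorem pow_kk_reg (u : (ZMod p)ˣ) {y : G} (hy : ¬ p ∣ orderOf y) : y ^ kk D.h u = y := by
  have h1 : orderOf y ∣ Nat.card G / p := by
    have h2 : orderOf y ∣ p * (Nat.card G / p) := by rw [D.h.card]; exact orderOf_dvd_natCard y
    exact Nat.Coprime.dvd_of_dvd_mul_left ((Nat.Prime.coprime_iff_not_dvd D.prime).mpr hy).symm h2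
  have h2 : y ^ kk D.h u = y ^ 1 := by
    rw [pow_eq_pow_iff_modEq]
    exact (kk_q D.h u).of_dvd h1
  rw [h2, pow_one]

theorem lt_pow_kk (i : ℕ) (u : (ZMod p)ˣ) (c : D.C) : D.lt i (c ^ kk D.h u) = D.lt (i * kk D.h u) c := by
  unfold lt
  rw [map_pow, Units.val_pow_eq_pow_val, ← pow_mul, mul_comm i]
  congr 1
  obtain ⟨j, y, -, hc, hy, -⟩ := D.decomp c
  have h1 : c ^ kk D.h u = D.xc ^ (j * kk D.h u) * y := by
    have hcm : Commute (D.xc ^ j) y := by
      have : Commute y D.xc := D.xc_comm y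
      exact (this.pow_right j).symm
    rw [hc, hcm.mul_pow, ← pow_mul]
    congr 1
    apply Subtype.ext
    rw [Subgroup.coe_pow]
    exact D.pow_kk_reg u (by rwa [Subgroup.orderOf_coe])
  rw [h1, D.th_pow, hc, D.th_pow]

theorem sum_pow_kk (u : (ZMod p)ˣ) (F : D.C → ℂ) : ∑ c : D.C, F (c ^ kk D.h u) = ∑ c : D.C, F c := by
  have hinv : ∀ (v w : (ZMod p)ˣ), v * w = 1 → ∀ c : D.C, (c ^ kk D.h v) ^ kk D.h w = c := by
    intro v w hvw c
    apply Subtype.ext
    rw [Subgroup.coe_pow, Subgroup.coe_pow, ← pow_mul, ← pow_congr (kk_mul D.h v w), hvw, pow_congr (kk_one D.h),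
      pow_one]
  exact Equiv.sum_comp (⟨fun c => c ^ kk D.h u, fun c => c ^ kk D.h u⁻¹, hinv u u⁻¹ (mul_inv_cancel u),
    hinv u⁻¹ u (inv_mul_cancel u)⟩ : D.C ≃ D.C) F

theorem mZ_tw (i : ℕ) (u : (ZMod p)ˣ) (χ : IrrCharacter G) : D.mZ i (tw D.h u χ) = D.mZ (i * kk D.h u⁻¹) χ := by
  have h1 : (D.mZ i (tw D.h u χ) : ℂ) = D.mZ (i * kk D.h u⁻¹) χ := by
    rw [← D.mZ_spec, ← D.mZ_spec]
    unfold classInner
    congr 1
    rw [← D.sum_pow_kk u (fun c : D.C => (χ : G → ℂ) c * conj (D.lt (i * kk D.h u⁻¹) c))]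
    refine Finset.sum_congr rfl fun c _ => ?_
    rw [tw_apply, Subgroup.coe_pow, ← D.lt_pow_kk]
    congr 3
    apply Subtype.ext
    rw [Subgroup.coe_pow, Subgroup.coe_pow, ← pow_mul, ← pow_congr (kk_mul D.h u u⁻¹), mul_inv_cancel,
      pow_congr (kk_one D.h), pow_one]
  exact_mod_cast h1

theorem c1 (j u : (ZMod p)ˣ) (χ : IrrCharacter G) : D.aU j (tw D.h u χ) = D.aU (j * u⁻¹) χ := by
  haveI : Fact p.Prime := ⟨D.prime⟩
  unfold aU aZ
  rw [D.mZ_tw, D.mZ_tw, zero_mul]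
  congr 2
  apply D.mZ_congr
  exact ((kk_p D.h u⁻¹).mul_left (uv j)).trans (uv_mul j u⁻¹).symm

end Gal

end Dat

end CfsgLib.Once19
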