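import Mathlib
import Cfsg.Agent.EqBase
import Cfsg.Agent.LibOnceD19

set_option autoImplicit false
set_option maxHeartbeats 400000
set_option linter.unusedSectionVars false
set_option linter.style.haveILetI false

/-! Blocks of defect one: the structure theorem (second part). -/

namespace CfsgLib.Once19

open CfsgLib.CharInt hiding irr_isCharacter irr_classFun irr_one_ne_zero schur_scalar
open Cfsg CfsgLib.CharInt2 CfsgLib.CharBasic CfsgLib.BlockR CfsgLib.BlockCore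
  CfsgLib.BlockIdem CfsgLib.BlockIdeal CfsgLib.BlockConj CfsgLib.BlockBrauer CfsgLib.BlockInd
  CfsgLib.BlockFMT CfsgLib.BlockFMT2 CfsgLib.BlockOrth CfsgLib.BlockDefect
  CfsgLib.BlockReg CfsgLib.BlockReg2 CfsgLib.BlockCount CfsgLib.BlockCount2 CfsgLib.BlockQP
  CfsgLib.BlockCov3 CfsgLib.BlockCov4 CfsgLib.BlockSec CfsgLib.BlockSec3 CfsgLib.CharNorm CfsgLib.Ur
open scoped ComplexConjugate

universe u
variable {p : ℕ} {G : Type u} [Group G] [Fintype G]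

namespace Dat
variable (D : Dat p G) [Fintype D.C]

/-- the generalized decomposition number -/
noncomputable def dd (f : G → ℂ) : ℂ := p * classInner (reg p (fun c : D.C => f (D.x * c))) (D.th : D.C → ℂ)

theorem dd_eq (χ : IrrCharacter G) : D.dd (χ : G → ℂ) = ∑ i ∈ Finset.range p, D.z ^ i * (D.aZ i χ : ℂ) := by
  have h1 := D.sum_mm (χ : G → ℂ)
  have hgeo : ∑ i ∈ Finset.range p, D.z ^ i = 0 := D.z_prim.geom_sum_eq_zero D.prime.one_lt
  unfold dd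
  rw [← h1]
  have h2 : ∀ i ∈ Finset.range p, D.z ^ i * (D.aZ i χ : ℂ) =
      D.z ^ i * classInner (fun c : D.C => (χ : G → ℂ) c) (D.lt i) - D.z ^ i * (D.mZ 0 χ : ℂ) := by
    intro i _
    rw [D.mZ_spec]
    unfold aZ
    push_cast
    ring
  rw [Finset.sum_congr rfl h2, Finset.sum_sub_distrib, ← Finset.sum_mul, hgeo, zero_mul, sub_zero]

theorem aZ_zero_of_dd (χ : IrrCharacter G) (h : D.dd (χ : G → ℂ) = 0) (i : ℕ) : D.aZ i χ = 0 := by
  rw [D.dd_eq] at h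
  have h1 := all_equal D.prime D.z_prim (fun i => D.aZ i χ) h
  have h0 : D.aZ 0 χ = 0 := by unfold aZ; ring
  rw [← D.aZ_congr (Nat.mod_modEq i p), h1 _ (Nat.mod_lt _ D.prime.pos), h0]

section Block
variable {M : Ideal AlgInt} (hM : IsPModular p M) {b : Set (IrrCharacter D.C)} {B : Set (IrrCharacter G)}
  (hb : IsInducedBlock M D.C b B) (hθ : D.th ∈ b)

include hM in
/-- second main theorem in terms of the decomposition numbers -/
theorem dd_zero_of_not {b : Set (IrrCharacter D.C)} (hb : IsPBlock M b) (hθ : D.th ∈ b) {χ : IrrCharacter G}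
    (hχ : ¬ IsInducedBlock M D.C b (blockOf M (χ : G → ℂ))) : D.dd (χ : G → ℂ) = 0 := by
  haveI : Fact p.Prime := ⟨D.prime⟩
  have hp := isPrime_of_modular hM
  unfold dd
  have hϑc : IsClassFunction _ (fun c : D.C => (χ : G → ℂ) (D.x * c)) :=
    translate_classFun (CfsgLib.CharInt.irr_classFun χ.2)
  rw [inner_reg_blockPart hM hb hϑc hθ]
  have h2 : reg p (blockPart b (fun c : D.C => (χ : G → ℂ) (D.x * c))) = 0 := by
    funext y
    by_cases hy : p ∣ orderOf y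
    · rw [reg_not hy]; rfl
    · rw [reg_of hy]
      exact second_main_char hM ⟨1, by rw [pow_one]; exact D.hx⟩ ⟨χ, rfl⟩ (mem_blockOf_self hp χ) hb hχ hy
  rw [h2, ci_zero_l, mul_zero]

include hM hb hθ in
theorem c2 {χ : IrrCharacter G} (hχ : χ ∉ B) (i : ℕ) : D.aZ i χ = 0 := by
  haveI : Fact p.Prime := ⟨D.prime⟩
  have hp := isPrime_of_modular hM
  apply D.aZ_zero_of_dd
  apply D.dd_zero_of_not hM hb.1 hθ
  intro h
  have h2 := induced_unique hp h hb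
  rw [← h2] at hχ
  exact hχ (mem_blockOf_self hp χ)

/-- class sums of coefficients -/
noncomputable def DD (χ : IrrCharacter G) : ℤ := ∑ ξ ∈ cls D.h χ, D.aU 1 ξ

theorem DD_cls {χ ψ : IrrCharacter G} (h : ψ ∈ cls D.h χ) : D.DD ψ = D.DD χ := by
  unfold DD; rw [cls_eq h]

theorem sum_cls_j (j : (ZMod p)ˣ) (χ : IrrCharacter G) : ∑ ξ ∈ cls D.h χ, D.aU j ξ = D.DD χ := by
  classical
  have hcl : ∀ (u : (ZMod p)ˣ) (ξ : IrrCharacter G), ξ ∈ cls D.h χ → tw D.h u ξ ∈ cls D.h χ := by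
    intro u ξ hξ
    rw [← cls_eq hξ]
    exact mem_cls.2 ⟨u, rfl⟩
  have htt : ∀ (u v : (ZMod p)ˣ) (ξ : IrrCharacter G), tw D.h u (tw D.h v ξ) = tw D.h (u * v) ξ :=
    fun u v ξ => ((act D.h).mul_smul u v ξ).symm
  have ht1 : ∀ ξ : IrrCharacter G, tw D.h 1 ξ = ξ := fun ξ => (act D.h).one_smul ξ
  unfold DD
  have h1 : ∀ ξ ∈ cls D.h χ, D.aU j ξ = D.aU 1 (tw D.h j⁻¹ ξ) := by
    intro ξ _
    rw [D.c1, inv_inv, one_mul]
  rw [Finset.sum_congr rfl h1]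
  refine Finset.sum_nbij' (fun ξ => tw D.h j⁻¹ ξ) (fun ξ => tw D.h j ξ) ?_ ?_ ?_ ?_ ?_
  · intro ξ hξ; exact hcl _ _ hξ
  · intro ξ hξ; exact hcl _ _ hξ
  · intro ξ _; simp only [htt, mul_inv_cancel, ht1]
  · intro ξ _; simp only [htt, inv_mul_cancel, ht1]
  · intro ξ _; rfl

theorem dd_Xs (χ : IrrCharacter G) : D.dd (Xs D.h χ) = -(D.DD χ : ℂ) := by
  haveI : Fact p.Prime := ⟨D.prime⟩
  haveI : NeZero p := ⟨D.prime.ne_zero⟩
  have h1 : D.dd (Xs D.h χ) = ∑ ξ ∈ cls D.h χ, D.dd (ξ : G → ℂ) := by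
    unfold dd
    rw [← Finset.mul_sum, ← ci_sum_l]
    congr 2
    funext c
    rw [Finset.sum_apply]
    by_cases hc : p ∣ orderOf c
    · rw [reg_not hc, Finset.sum_eq_zero]
      intro ξ _; rw [reg_not hc]
    · rw [reg_of hc]
      unfold Xs
      exact Finset.sum_congr rfl fun ξ _ => (reg_of (f := fun c : D.C => (ξ : G → ℂ) (D.x * c)) hc).symm
  rw [h1, Finset.sum_congr rfl (fun ξ _ => D.dd_eq ξ), Finset.sum_comm]
  have hgeo : ∑ i ∈ Finset.range p, D.z ^ i = 0 := D.z_prim.geom_sum_eq_zero D.prime.one_lt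
  have h2 : ∀ i ∈ Finset.range p, ∑ ξ ∈ cls D.h χ, D.z ^ i * (D.aZ i ξ : ℂ) =
      D.z ^ i * (D.DD χ : ℂ) - (if i = 0 then (D.DD χ : ℂ) else 0) := by
    intro i hi
    rw [← Finset.mul_sum]
    by_cases hi0 : i = 0
    · rw [if_pos hi0, hi0]
      have h3 : ∀ ξ ∈ cls D.h χ, ((D.aZ 0 ξ : ℤ) : ℂ) = 0 := by
        intro ξ _
        unfold aZ
        simp
      rw [Finset.sum_eq_zero h3]; simp
    · rw [if_neg hi0, sub_zero]
      congr 1
      have hi1 : ¬ i ≡ 0 [MOD p] := by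
        rw [Nat.modEq_zero_iff_dvd]
        intro h
        exact absurd (Nat.le_of_dvd (Nat.pos_of_ne_zero hi0) h) (not_le.2 (Finset.mem_range.1 hi))
      obtain ⟨u, hu⟩ := exists_uv hi1
      rw [← D.sum_cls_j u χ]
      push_cast
      refine Finset.sum_congr rfl fun ξ _ => ?_
      unfold aU
      rw [D.aZ_congr hu]
  rw [Finset.sum_congr rfl h2, Finset.sum_sub_distrib, ← Finset.sum_mul, hgeo, zero_mul, zero_sub]
  congr 1
  rw [Finset.sum_ite_eq' (Finset.range p) 0, if_pos (Finset.mem_range.2 D.prime.pos)]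

include hM in
theorem c6 (hB : IsPBlock M B) (hdeg : ∀ χ ∈ B, ¬ p ∣ charDegree (χ : G → ℂ)) {χ ψ : IrrCharacter G} (hχ : χ ∈ B)
    (hψ : ψ ∈ B) : |D.DD χ| = |D.DD ψ| := by
  by_contra hne
  let S : Set (IrrCharacter G) := {ξ | ξ ∈ B ∧ |D.DD ξ| = |D.DD χ|}
  obtain ⟨ξ, hξ, η, hη, hηS, hsum⟩ := BB (S := S) hM D.h hB hdeg (fun ξ hξ => hξ.1) ⟨χ, hχ, rfl⟩
    (fun h => hne (by
      have : ψ ∈ S := by rw [h]; exact hψ
      exact this.2.symm))
    (fun ξ hξ η hη => ⟨cls_block hM hB hη hξ.1, by rw [D.DD_cls hη]; exact hξ.2⟩)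
  apply hηS
  refine ⟨hη, ?_⟩
  rw [← hξ.2]
  have h1 : D.dd (Xs D.h ξ) + D.dd (Xs D.h η) = 0 := by
    unfold dd
    rw [← mul_add, ← ci_add_l]
    have h2 : (reg p (fun c : D.C => Xs D.h ξ (D.x * c)) + reg p (fun c : D.C => Xs D.h η (D.x * c))) = 0 := by
      funext c
      rw [Pi.add_apply]
      by_cases hc : p ∣ orderOf c
      · rw [reg_not hc, reg_not hc]; simp
      · rw [reg_of hc, reg_of hc]
        apply hsum
        have h3 : p ∣ orderOf (D.xc ^ 1 * c) := by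
          rw [D.sing_iff (D.xc ^ 1 * c) rfl hc, Nat.modEq_zero_iff_dvd]
          intro h
          exact D.prime.one_lt.ne' (Nat.dvd_one.1 h)
        rw [pow_one, ← Subgroup.orderOf_coe] at h3
        exact h3
    rw [h2, ci_zero_l, mul_zero]
  rw [D.dd_Xs, D.dd_Xs] at h1
  have h2 : D.DD ξ + D.DD η = 0 := by
    have : ((D.DD ξ + D.DD η : ℤ) : ℂ) = 0 := by push_cast; linear_combination -h1
    exact_mod_cast this
  have h3 : D.DD η = - D.DD ξ := by linarith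
  rw [h3, abs_neg]

include hM hb hθ in
/-- the structure of a block of defect one -/
theorem str (hdeg : ∀ χ ∈ B, ¬ p ∣ charDegree (χ : G → ℂ)) {T : Subgroup G}
    (hT : ∀ g : G, g ∈ T ↔ g ∈ D.N ∧ ∀ c c' : D.C, (c' : G) = g * c * g⁻¹ → (D.th : D.C → ℂ) c' = (D.th : D.C → ℂ) c)
    {e : ℕ} (he : Nat.card T = e * Nat.card D.C) :
    ∃ χ0 ∈ B, (cls D.h χ0).card * e = p - 1 ∧ Nat.card B = (cls D.h χ0).card + e ∧
      (∀ χ ∈ B, χ ∉ cls D.h χ0 → cls D.h χ = {χ} ∧ ∃ δ : ℤ, (δ = 1 ∨ δ = -1) ∧ ∀ i : ℕ, ¬ i ≡ 0 [MOD p] → D.aZ i χ = δ) ∧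
      ∃ ε : ℤ, (ε = 1 ∨ ε = -1) ∧ ∀ i : ℕ, ¬ i ≡ 0 [MOD p] →
        ∃ ψ ∈ cls D.h χ0, D.aZ i ψ = ε ∧ ∀ ξ ∈ cls D.h χ0, ξ ≠ ψ → D.aZ i ξ = 0 := by
  classical
  haveI : Fact p.Prime := ⟨D.prime⟩
  haveI : NeZero p := ⟨D.prime.ne_zero⟩
  letI := act D.h
  have hB := hb.2.1
  have hU : Fintype.card (ZMod p)ˣ = p - 1 := ZMod.card_units p
  have he0 : 0 < e := by
    rw [Nat.pos_iff_ne_zero]
    rintro rfl
    rw [zero_mul] at he
    exact Nat.card_pos.ne' he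
  have hsm : ∀ (u : (ZMod p)ˣ) (χ : IrrCharacter G), u • χ = tw D.h u χ := fun u χ => rfl
  have horb : ∀ χ : IrrCharacter G, orb (ZMod p)ˣ χ = cls D.h χ := by
    intro χ; ext ψ
    rw [mem_orb, mem_cls]; rfl
  set Bf : Finset (IrrCharacter G) := Finset.univ.filter (· ∈ B) with hBf
  have hmem : ∀ χ, χ ∈ Bf ↔ χ ∈ B := fun χ => by simp [hBf]
  obtain ⟨H, hH, hHc⟩ := D.c5 hT he
  obtain ⟨χ0, h0, h1, h2, h3, ε, hε, h4⟩ := core (U := (ZMod p)ˣ) (I := IrrCharacter G) (p := p) (e := e) (a := D.aU)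
    (B := Bf) D.prime hU he0
    (fun u χ hχ => by
      rw [hmem] at hχ ⊢
      exact cls_block hM (h := D.h) hB (mem_cls.2 ⟨u, rfl⟩) hχ)
    (fun j u χ => D.c1 j u χ)
    (fun j χ hχ => by
      rw [hmem] at hχ
      exact D.c2 hM hb hθ hχ _)
    (fun j => D.c3 hT he j)
    (fun j => D.c4 hT he hU j) H hH hHc
    (fun χ hχ ψ hψ => by
      rw [hmem] at hχ hψ
      rw [horb, horb]
      exact D.c6 hM hB hdeg hχ hψ)
  rw [horb] at h1 h2 h3 h4
  refine ⟨χ0, (hmem _).1 h0, h1, ?_, ?_, ε, hε, ?_⟩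
  · rw [← h2, hBf, Nat.card_eq_fintype_card, Fintype.card_subtype]
  · intro χ hχ hχ0
    obtain ⟨e1, δ, hδ, e2⟩ := h3 χ ((hmem χ).2 hχ) hχ0
    refine ⟨?_, δ, hδ, fun i hi => ?_⟩
    · ext ψ
      rw [mem_cls, Finset.mem_singleton]
      constructor
      · rintro ⟨u, rfl⟩; exact e1 u
      · rintro rfl; exact ⟨1, e1 1⟩
    · obtain ⟨u, hu⟩ := exists_uv hi
      rw [← D.aZ_congr hu]; exact e2 u
  · intro i hi
    obtain ⟨u, hu⟩ := exists_uv hi
    obtain ⟨ψ, e1, e2, e3⟩ := h4 u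
    exact ⟨ψ, e1, by rw [← D.aZ_congr hu]; exact e2, fun ξ hξ hne => by rw [← D.aZ_congr hu]; exact e3 ξ hξ hne⟩

end Block

end Dat

end CfsgLib.Once19
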