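import Mathlib
import Cfsg.Agent.EqBase
import Cfsg.Agent.LibOnceE19

set_option autoImplicit false
set_option maxHeartbeats 400000
set_option linter.unusedSectionVars false
set_option linter.style.haveILetI false

/-! Blocks of defect one: data attached to a block. -/

namespace CfsgLib.Once19

open CfsgLib.CharInt hiding irr_isCharacter irr_classFun irr_one_ne_zero schur_scalar
open Cfsg CfsgLib.CharInt2 CfsgLib.CharBasic CfsgLib.BlockR CfsgLib.BlockCore
  CfsgLib.BlockIdem CfsgLib.BlockIdeal CfsgLib.BlockConj CfsgLib.BlockBrauer CfsgLib.BlockInd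
  CfsgLib.BlockFMT CfsgLib.BlockFMT2 CfsgLib.BlockOrth CfsgLib.BlockDefect
  CfsgLib.BlockReg CfsgLib.BlockReg2 CfsgLib.BlockCount CfsgLib.BlockCount2 CfsgLib.BlockQP
  CfsgLib.BlockCov3 CfsgLib.BlockCov4 CfsgLib.BlockSec CfsgLib.BlockSec3 CfsgLib.CharNorm CfsgLib.Ur
open scoped ComplexConjugate

universe u
variable {p : ℕ} {G : Type u} [Group G] [Fintype G]

/-- a central element acts as a scalar -/
theorem central_scalar {C : Type u} [Group C] [Finite C] {χ : C → ℂ} (hχ : IsIrrCharacter C χ) {x : C}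
    (hx : ∀ c, c * x = x * c) {n : ℕ} (hn : x ^ n = 1) : ∃ w : ℂ, w ^ n = 1 ∧ ∀ c, χ (x * c) = w * χ c := by
  have h0 := CfsgLib.CharInt.irr_one_ne_zero hχ
  obtain ⟨m, ρ, hρ, rfl⟩ := hχ
  haveI := hρ
  obtain ⟨w, hw⟩ := CfsgLib.CharInt.schur_scalar ρ (ρ x) (fun g => by
    have h1 : ρ x ∘ₗ ρ g = ρ (x * g) := (map_mul ρ x g).symm
    have h2 : ρ g ∘ₗ ρ x = ρ (g * x) := (map_mul ρ g x).symm
    rw [h1, h2, hx])
  have hch : ∀ c, ρ.character (x * c) = w * ρ.character c := by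
    intro c
    unfold Representation.character
    rw [map_mul, hw]
    change LinearMap.trace ℂ _ ((w • LinearMap.id) ∘ₗ (ρ c)) = _
    rw [LinearMap.smul_comp, LinearMap.id_comp, map_smul, smul_eq_mul]
  refine ⟨w, ?_, hch⟩
  have h3 : ∀ k : ℕ, ρ.character (x ^ k) = w ^ k * ρ.character 1 := by
    intro k
    induction k with
    | zero => simp
    | succ k ih => rw [pow_succ', hch, ih, pow_succ']; ring
  have h4 := h3 n
  rw [hn] at h4
  exact (mul_right_cancel₀ h0 (by rw [one_mul]; exact h4)).symm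

namespace Dat
variable (D : Dat p G) [Fintype D.C]

/-- relation on regular elements -/
theorem rel_reg (i : ℕ) {g : G} (hg : ¬ p ∣ orderOf g) :
    ∑ χ : IrrCharacter G, (D.aZ i χ : ℂ) * (χ : G → ℂ) g = 0 := by
  classical
  have key : ∀ g : G, ¬ p ∣ orderOf g → ∑ χ : IrrCharacter G, (D.aZ i χ : ℂ) * conj ((χ : G → ℂ) g) = 0 := by
    intro g hg
    have h1 : ∀ χ : IrrCharacter G, (D.aZ i χ : ℂ) * conj ((χ : G → ℂ) g) =
        (Nat.card D.C : ℂ)⁻¹ * ∑ c : D.C, conj (D.lt i c - D.lt 0 c) * ((χ : G → ℂ) c * conj ((χ : G → ℂ) g)) := by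
      intro χ
      have h2 : (D.aZ i χ : ℂ) = classInner (fun c : D.C => (χ : G → ℂ) c) (D.lt i - D.lt 0) := by
        rw [D.aZ_spec, ci_sub_r]; rfl
      rw [h2]
      unfold classInner
      rw [mul_assoc, Finset.sum_mul]
      congr 1
      refine Finset.sum_congr rfl fun c _ => ?_
      rw [Pi.sub_apply]; ring
    rw [Finset.sum_congr rfl (fun χ _ => h1 χ), ← Finset.mul_sum, Finset.sum_comm]
    rw [Finset.sum_eq_zero, mul_zero]
    intro c _
    rw [← Finset.mul_sum, column_orthogonality]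
    by_cases hc : IsConj (c : G) g
    · have h3 : ¬ p ∣ orderOf c := by
        obtain ⟨t, ht⟩ := isConj_iff.1 hc
        rw [← Subgroup.orderOf_coe, ← orderOf_conj (c : G) t, ht]
        exact hg
      have h4 : (D.lam c : ℂ) = 1 := (D.lam_eq_one_iff c).2 h3
      have h5 : D.lt i c - D.lt 0 c = 0 := by
        unfold lt; rw [h4, one_pow, one_pow, sub_self]
      rw [h5, map_zero, zero_mul]
    · rw [if_neg hc, mul_zero]
  have h1 := key g⁻¹ (by rwa [orderOf_inv])
  rw [← h1]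
  refine Finset.sum_congr rfl fun χ _ => ?_
  rw [char_inv_eq_conj (CfsgLib.CharBasic.irr_isCharacter χ.2), Complex.conj_conj]

end Dat

variable {M : Ideal AlgInt}

theorem fact_card (h : Once p G) : (Nat.card G).factorization p = 1 := by
  haveI : Fact p.Prime := ⟨h.prime⟩
  have h0 : Nat.card G ≠ 0 := Nat.card_pos.ne'
  have h1 : 1 ≤ (Nat.card G).factorization p := by
    rw [← h.prime.pow_dvd_iff_le_factorization h0, pow_one]; exact h.dvd
  have h2 : ¬ 2 ≤ (Nat.card G).factorization p := by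
    rw [← h.prime.pow_dvd_iff_le_factorization h0]; exact h.sq
  omega

theorem deg_ne (χ : IrrCharacter G) : charDegree (χ : G → ℂ) ≠ 0 := by
  intro h
  have h1 := CfsgLib.CharInt.irr_one_eq_charDegree χ.2
  rw [h, Nat.cast_zero] at h1
  exact CfsgLib.CharInt.irr_one_ne_zero χ.2 h1

/-- in a block with one character of degree prime to `p` all degrees are prime to `p` -/
theorem deg_all (hM : IsPModular p M) (h : Once p G) {B : Set (IrrCharacter G)} (hB : IsPBlock M B)
    {χ : IrrCharacter G} (hχ : χ ∈ B) (hd : ¬ p ∣ charDegree (χ : G → ℂ)) :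
    ∀ ψ ∈ B, ¬ p ∣ charDegree (ψ : G → ℂ) := by
  haveI : Fact p.Prime := ⟨h.prime⟩
  have hp := isPrime_of_modular hM
  intro ψ hψ hdvd
  have h1 : (charDegree (ψ : G → ℂ)).factorization p = (Nat.card G).factorization p := by
    apply le_antisymm
    · rw [fact_card h]
      by_contra hcon
      have h2 : p ^ 2 ∣ charDegree (ψ : G → ℂ) := by
        rw [h.prime.pow_dvd_iff_le_factorization (deg_ne ψ)]; omega
      exact h.sq (h2.trans (CfsgLib.CharInt2.charDegree_dvd_card ψ.2))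
    · rw [fact_card h]
      rw [← h.prime.pow_dvd_iff_le_factorization (deg_ne ψ), pow_one]; exact hdvd
  have h2 := defect_zero_block hM h1
  rw [← block_eq_blockOf hp hB hψ] at h2
  rw [h2, Set.mem_singleton_iff] at hχ
  rw [hχ] at hd
  exact hd hdvd

theorem deg_of_defect (hM : IsPModular p M) (h : Once p G) {B : Set (IrrCharacter G)} (hB : IsPBlock M B)
    (hd : 0 < blockDefect p B) : ∃ χ ∈ B, ¬ p ∣ charDegree (χ : G → ℂ) := by
  haveI : Fact p.Prime := ⟨h.prime⟩
  have hp := isPrime_of_modular hM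
  unfold blockDefect at hd
  rw [fact_card h] at hd
  obtain ⟨ψ, hψ⟩ := block_nonempty hp hB
  have hne : ((fun χ : IrrCharacter G => (charDegree (χ : G → ℂ)).factorization p) '' B).Nonempty := ⟨_, ψ, hψ, rfl⟩
  obtain ⟨χ, hχ, hχ'⟩ := Nat.sInf_mem hne
  refine ⟨χ, hχ, fun h1 => ?_⟩
  have h2 : 1 ≤ (charDegree (χ : G → ℂ)).factorization p := by
    rw [← h.prime.pow_dvd_iff_le_factorization (deg_ne χ), pow_one]; exact h1
  simp only at hχ'
  omega

/-- an element of order `p` -/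
theorem exists_x (h : Once p G) : ∃ x : G, orderOf x = p := by
  haveI : Fact p.Prime := ⟨h.prime⟩
  exact exists_prime_orderOf_dvd_card' p h.dvd

/-- data attached to a block -/
theorem exists_dat (hM : IsPModular p M) (h : Once p G) {x : G} (hx : orderOf x = p) {B : Set (IrrCharacter G)}
    (hB : IsPBlock M B) {χ : IrrCharacter G} (hχ : χ ∈ B) (hd : ¬ p ∣ charDegree (χ : G → ℂ)) :
    ∃ D : Dat p G, D.x = x ∧ ∃ b : Set (IrrCharacter D.C), IsInducedBlock M D.C b B ∧ D.th ∈ b := by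
  classical
  haveI : Fact p.Prime := ⟨h.prime⟩
  have hp := isPrime_of_modular hM
  set C := Subgroup.centralizer ({x} : Set G) with hC
  letI : Fintype C := Fintype.ofFinite _
  let xc : C := ⟨x, Subgroup.mem_centralizer_singleton_iff.2 rfl⟩
  have hxc : ∀ c : C, c * xc = xc * c := fun c => Subtype.ext (Subgroup.mem_centralizer_singleton_iff.1 c.2)
  have hxo : orderOf xc = p := by rw [← Subgroup.orderOf_coe]; exact hx
  obtain ⟨lam, hl1, hl2⟩ := exists_lam xc hxo hxc (fun h1 => h.sq (h1.trans (Subgroup.card_subgroup_dvd_card C)))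
  have hpp : ∃ k : ℕ, orderOf x = p ^ k := ⟨1, by rw [pow_one]; exact hx⟩
  have hχx : (χ : G → ℂ) x ≠ 0 := by
    intro h0
    have h1 := char_congr hM (CfsgLib.CharBasic.irr_isCharacter χ.2) (Commute.one_right x) hpp
    rw [mul_one, h0, zero_sub] at h1
    have h2 := ideal_neg h1
    rw [neg_neg, CfsgLib.CharInt.irr_one_eq_charDegree χ.2, ideal_nat_iff hM] at h2
    exact hd h2
  obtain ⟨b, hb, hby⟩ := exists_blockPart_ne_zero (M := M) hp
    (translate_classFun (x := x) (CfsgLib.CharInt.irr_classFun χ.2)) (y := (1 : C)) (by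
      simpa using hχx)
  have hind : IsInducedBlock M C b B := by
    by_contra hnot
    apply hby
    refine second_main_char hM hpp hB hχ hb hnot ?_
    rw [orderOf_one]
    exact fun h1 => h.prime.one_lt.ne' (Nat.dvd_one.1 h1)
  obtain ⟨ψ, hψ⟩ := block_nonempty hp hb
  obtain ⟨w, hw, hwc⟩ := central_scalar ψ.2 hxc (n := p) (by rw [← hxo]; exact pow_orderOf_eq_one xc)
  -- the value of `lam` is a primitive root
  have hzp : (lam xc : ℂ) ^ p = 1 := by rw [← Units.val_pow_eq_pow_val, hl2, Units.val_one]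
  have hz1 : (lam xc : ℂ) ≠ 1 := fun h1 => hl1 (Units.ext h1)
  have hzprim : IsPrimitiveRoot (lam xc : ℂ) p := by
    have := IsPrimitiveRoot.orderOf (lam xc : ℂ)
    rwa [orderOf_eq_prime hzp hz1] at this
  haveI : NeZero p := ⟨h.prime.ne_zero⟩
  obtain ⟨i, -, hi⟩ := hzprim.eq_pow_of_pow_eq_one hw
  -- the canonical character
  have hirr := irr_mul_lin ψ.2 (lam⁻¹ ^ i)
  let θ : IrrCharacter C := ⟨_, hirr⟩
  have hθ : ∀ c : C, (θ : C → ℂ) c = ((lam c : ℂ)⁻¹) ^ i * (ψ : C → ℂ) c := by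
    intro c
    change (((lam⁻¹ ^ i) c : ℂˣ) : ℂ) * (ψ : C → ℂ) c = _
    rw [MonoidHom.pow_apply, MonoidHom.inv_apply, Units.val_pow_eq_pow_val, Units.val_inv_eq_inv_val]
  have hθx : ∀ c : C, (θ : C → ℂ) (xc * c) = (θ : C → ℂ) c := by
    intro c
    rw [hθ, hθ, hwc, map_mul, Units.val_mul, ← hi, mul_inv, mul_pow]
    have h0 : (lam xc : ℂ) ^ i ≠ 0 := pow_ne_zero _ (Units.ne_zero _)
    rw [inv_pow]
    field_simp
  let D : Dat p G := ⟨h, x, hx, lam, hl1, hl2, θ, hθx⟩
  refine ⟨D, rfl, b, hind, ?_⟩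
  have hsame : SameBlock M (ψ : C → ℂ) (θ : C → ℂ) := by
    apply CfsgLib.BlockCov.sameBlock_of_reg hM
    intro c hc
    have h1 : ∀ c : C, ¬ p ∣ orderOf c → (θ : C → ℂ) c = (ψ : C → ℂ) c := by
      intro c hc
      rw [hθ, (D.lam_eq_one_iff c).2 hc, inv_one, one_pow, one_mul]
    have h2 : centralChar (ψ : C → ℂ) c - centralChar (θ : C → ℂ) c = 0 := by
      unfold centralChar
      rw [h1 c hc, h1 1 (by rw [orderOf_one]; exact fun h1 => h.prime.one_lt.ne' (Nat.dvd_one.1 h1)), sub_self]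
    rw [h2]; exact ideal_zero hp
  exact mem_of_sameBlock hp hb hψ hsame

/-- the inertia group -/
def inert (D : Dat p G) : Subgroup G where
  carrier := {g | g ∈ D.N ∧ ∀ c c' : D.C, (c' : G) = g * c * g⁻¹ → (D.th : D.C → ℂ) c' = (D.th : D.C → ℂ) c}
  mul_mem' := by
    rintro a b ⟨ha, ha'⟩ ⟨hb, hb'⟩
    refine ⟨D.N.mul_mem ha hb, fun c c' h => ?_⟩
    rw [ha' (D.cj hb c) c' (by rw [h, D.cj_coe]; group), hb' c (D.cj hb c) rfl]
  one_mem' := ⟨D.N.one_mem, fun c c' h => by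
    have : c' = c := Subtype.ext (by rw [h]; group)
    rw [this]⟩
  inv_mem' := by
    rintro a ⟨ha, ha'⟩
    refine ⟨D.N.inv_mem ha, fun c c' h => ?_⟩
    exact (ha' c' c (by rw [h]; group)).symm

theorem mem_inert (D : Dat p G) (g : G) : g ∈ inert D ↔
    g ∈ D.N ∧ ∀ c c' : D.C, (c' : G) = g * c * g⁻¹ → (D.th : D.C → ℂ) c' = (D.th : D.C → ℂ) c := Iff.rfl

theorem exists_e (D : Dat p G) {T : Subgroup G} (hT : D.C ≤ T) :
    Nat.card T = D.C.relIndex T * Nat.card D.C := by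
  have h := Subgroup.relIndex_mul_relIndex ⊥ D.C T bot_le hT
  rw [Subgroup.relIndex_bot_left, Subgroup.relIndex_bot_left] at h
  rw [← h, mul_comm]

/-! ### `p`-conjugacy -/

theorem conj_iff (h : Once p G) (θ ψ : IrrCharacter G) :
    (∃ σ : ℂ ≃+* ℂ, σ (Complex.exp (2 * Real.pi * Complex.I / ((Nat.card G / p ^ (Nat.card G).factorization p) : ℕ))) =
        Complex.exp (2 * Real.pi * Complex.I / ((Nat.card G / p ^ (Nat.card G).factorization p) : ℕ)) ∧
      (ψ : G → ℂ) = fun g => σ ((θ : G → ℂ) g)) ↔ ψ ∈ cls h θ := by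
  haveI : Fact p.Prime := ⟨h.prime⟩
  haveI : NeZero p := ⟨h.prime.ne_zero⟩
  rw [fact_card h, pow_one]
  set m := Nat.card G / p with hm
  have hm0 : m ≠ 0 := by
    intro h0
    have := h.card
    rw [← hm, h0, mul_zero] at this
    exact Nat.card_pos.ne this
  set ζ := Complex.exp (2 * Real.pi * Complex.I / (m : ℕ)) with hζ
  have hζp : IsPrimitiveRoot ζ m := Complex.isPrimitiveRoot_exp _ hm0
  have hcardm : Nat.card G = p * m := h.card.symm
  constructor
  · rintro ⟨σ, hσ, hψ⟩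
    have hn : 0 < Nat.card G := Nat.card_pos
    have hξ : IsPrimitiveRoot (Complex.exp (2 * Real.pi * Complex.I / (Nat.card G : ℕ))) (Nat.card G) :=
      Complex.isPrimitiveRoot_exp _ hn.ne'
    set ξ := Complex.exp (2 * Real.pi * Complex.I / (Nat.card G : ℕ))
    haveI : NeZero (Nat.card G) := ⟨hn.ne'⟩
    have hσξ : IsPrimitiveRoot (σ ξ) (Nat.card G) := hξ.map_of_injective σ.injective
    obtain ⟨k, hk, hk'⟩ := hξ.isPrimitiveRoot_iff.1 hσξ
    have hroots : ∀ z : ℂ, z ^ Nat.card G = 1 → σ z = z ^ k := by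
      intro z hz
      obtain ⟨m, -, hm⟩ := hξ.eq_pow_of_pow_eq_one hz
      rw [← hm, map_pow, ← hk'.2, ← pow_mul, ← pow_mul, mul_comm]
    have hk1 : k ≡ 1 [MOD m] := by
      have h1 : σ ζ = ζ ^ k := hroots ζ (by rw [hcardm, mul_comm, pow_mul, hζp.pow_eq_one, one_pow])
      rw [hσ] at h1
      have h2 : ζ ^ k = ζ ^ 1 := by rw [pow_one]; exact h1.symm
      rw [pow_eq_pow_mod k hζp.pow_eq_one, pow_eq_pow_mod 1 hζp.pow_eq_one] at h2
      exact hζp.pow_inj (Nat.mod_lt _ (Nat.pos_of_ne_zero hm0)) (Nat.mod_lt _ (Nat.pos_of_ne_zero hm0)) h2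
    have hkp : ¬ k ≡ 0 [MOD p] := by
      rw [Nat.modEq_zero_iff_dvd]
      intro h1
      have h2 := Nat.Coprime.coprime_dvd_right h.dvd hk'.1
      exact h.prime.one_lt.ne' (Nat.Coprime.eq_one_of_dvd h2.symm h1)
    obtain ⟨u, hu⟩ := exists_uv hkp
    rw [mem_cls]
    refine ⟨u, Subtype.ext ?_⟩
    funext g
    rw [tw_apply, hψ]
    have h3 : g ^ kk h u = g ^ k := pow_congr (h.modEq ((kk_p h u).trans hu) ((kk_q h u).trans hk1.symm)) g
    rw [h3]
    refine CfsgLib.GalChar.char_pow_eq_of_roots (CfsgLib.CharBasic.irr_isCharacter θ.2) g k σ fun z hz => hroots z ?_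
    obtain ⟨m, hm⟩ := orderOf_dvd_natCard g
    rw [hm, pow_mul, hz, one_pow]
  · intro hψ
    obtain ⟨u, rfl⟩ := mem_cls.1 hψ
    obtain ⟨σ, hσ⟩ := CfsgLib.GalField.exists_ringEquiv_pow (Nat.card G) (kk h u) Nat.card_pos (kk_coprime h u)
    refine ⟨σ, ?_, ?_⟩
    · rw [hσ ζ (by rw [hcardm, mul_comm, pow_mul, hζp.pow_eq_one, one_pow])]
      have h1 : ζ ^ kk h u = ζ ^ 1 := by
        rw [pow_eq_pow_mod (kk h u) hζp.pow_eq_one, pow_eq_pow_mod 1 hζp.pow_eq_one]
        congr 1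
        exact kk_q h u
      rw [h1, pow_one]
    · funext g
      rw [tw_apply]
      refine CfsgLib.GalChar.char_pow_eq_of_roots (CfsgLib.CharBasic.irr_isCharacter θ.2) g (kk h u) σ fun z hz => hσ z ?_
      obtain ⟨m, hm⟩ := orderOf_dvd_natCard g
      rw [hm, pow_mul, hz, one_pow]

end CfsgLib.Once19
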