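import Mathlib
import Cfsg.Agent.EqBase
import Cfsg.Agent.LibOnceF19
import Cfsg.Agent.LibBlockK1

set_option autoImplicit false
set_option maxHeartbeats 400000
set_option linter.unusedSectionVars false
set_option linter.style.haveILetI false

/-! Blocks of defect one: degrees. -/

namespace CfsgLib.Once19

open CfsgLib.CharInt hiding irr_isCharacter irr_classFun irr_one_ne_zero schur_scalar
open Cfsg CfsgLib.CharInt2 CfsgLib.CharBasic CfsgLib.BlockR CfsgLib.BlockCore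
  CfsgLib.BlockIdem CfsgLib.BlockIdeal CfsgLib.BlockConj CfsgLib.BlockBrauer CfsgLib.BlockInd
  CfsgLib.BlockFMT CfsgLib.BlockFMT2 CfsgLib.BlockOrth CfsgLib.BlockDefect
  CfsgLib.BlockReg CfsgLib.BlockReg2 CfsgLib.BlockCount CfsgLib.BlockCount2 CfsgLib.BlockQP
  CfsgLib.BlockCov3 CfsgLib.BlockCov4 CfsgLib.BlockSec CfsgLib.BlockSec3 CfsgLib.CharNorm CfsgLib.Ur
open scoped ComplexConjugate

universe u
variable {p : ℕ} {G : Type u} [Group G] [Fintype G] {M : Ideal AlgInt}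

namespace Dat
variable (D : Dat p G)

/-- `x` is in the kernel -/
def Can (ψ : D.C → ℂ) : Prop := ∀ c, ψ (D.xc * c) = ψ c

/-- replace the character -/
def setTh (ψ : IrrCharacter D.C) (hψ : D.Can (ψ : D.C → ℂ)) : Dat p G where
  h := D.h
  x := D.x
  hx := D.hx
  lam := D.lam
  lamx := D.lamx
  lamp := D.lamp
  th := ψ
  thx := hψ

theorem can_th : D.Can (D.th : D.C → ℂ) := D.thx

theorem can_cj {t : G} (ht : t ∈ D.N) : D.Can (fun c => (D.th : D.C → ℂ) (D.cj ht c)) := D.th_cj_x ht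

variable [Fintype D.C]

theorem sum_inv {F : D.C → ℂ} (hF : ∀ c, F (D.xc * c) = F c) :
    ∑ c : D.C, F c = p * ∑ c : D.C, if (D.lam c : ℂ) = 1 then F c else 0 := by
  have h1 : ∀ i ∈ Finset.range p, i ≠ 0 → ∑ c : D.C, F c * (D.lam c : ℂ) ^ i = 0 := by
    intro i hi hi0
    have h2 : ∑ c : D.C, F c * (D.lam c : ℂ) ^ i = D.z ^ i * ∑ c : D.C, F c * (D.lam c : ℂ) ^ i := by
      rw [Finset.mul_sum, ← Equiv.sum_comp (Equiv.mulLeft D.xc)]
      refine Finset.sum_congr rfl fun c _ => ?_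
      have h3 : (Equiv.mulLeft D.xc) c = D.xc * c := rfl
      rw [h3, hF, map_mul, Units.val_mul]
      change F c * (D.z * _) ^ i = _
      rw [mul_pow]; ring
    have h3 : D.z ^ i ≠ 1 := by
      rw [Ne, D.z_prim.pow_eq_one_iff_dvd]
      intro h
      exact absurd (Nat.le_of_dvd (Nat.pos_of_ne_zero hi0) h) (not_le.2 (Finset.mem_range.1 hi))
    have h4 : (1 - D.z ^ i) * ∑ c : D.C, F c * (D.lam c : ℂ) ^ i = 0 := by
      rw [sub_mul, one_mul, ← h2, sub_self]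
    rcases mul_eq_zero.1 h4 with h5 | h5
    · exact absurd (sub_eq_zero.1 h5).symm h3
    · exact h5
  have h2 : ∑ i ∈ Finset.range p, ∑ c : D.C, F c * (D.lam c : ℂ) ^ i = ∑ c : D.C, F c := by
    rw [Finset.sum_eq_single_of_mem 0 (Finset.mem_range.2 D.prime.pos) h1]
    simp
  rw [← h2, Finset.sum_comm, Finset.mul_sum]
  refine Finset.sum_congr rfl fun c _ => ?_
  rw [← Finset.mul_sum, sum_pow _ (D.lam_pow_p c)]
  split_ifs with h
  · ring
  · rw [mul_zero, mul_zero]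

theorem inner_can {f ψ : D.C → ℂ} (hf : D.Can f) (hψ : D.Can ψ) :
    classInner f ψ = p * classInner (reg p f) ψ := by
  unfold classInner
  rw [D.sum_inv (F := fun c => f c * conj (ψ c)) (fun c => by
    change f (D.xc * c) * conj (ψ (D.xc * c)) = f c * conj (ψ c)
    rw [hf c, hψ c])]
  rw [← mul_assoc, mul_comm (Nat.card D.C : ℂ)⁻¹ (p : ℂ), mul_assoc]
  congr 2
  refine Finset.sum_congr rfl fun c _ => ?_
  rw [D.reg_mul]
  split_ifs <;> simp

theorem not_can (ψ : IrrCharacter D.C) (hψ : ¬ D.Can (ψ : D.C → ℂ)) {f : D.C → ℂ} (hf : D.Can f) :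
    classInner f (ψ : D.C → ℂ) = 0 := by
  obtain ⟨w, hw, hwc⟩ := central_scalar ψ.2 (x := D.xc) D.xc_comm (n := p) (by
    apply Subtype.ext
    rw [Subgroup.coe_pow]
    change D.x ^ p = 1
    have := pow_orderOf_eq_one D.x
    rwa [D.hx] at this)
  have hw1 : w ≠ 1 := by
    rintro rfl
    exact hψ (fun c => by rw [hwc, one_mul])
  unfold classInner
  have h2 : ∑ c : D.C, f c * conj ((ψ : D.C → ℂ) c) = conj w * ∑ c : D.C, f c * conj ((ψ : D.C → ℂ) c) := by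
    rw [Finset.mul_sum, ← Equiv.sum_comp (Equiv.mulLeft D.xc)]
    refine Finset.sum_congr rfl fun c _ => ?_
    have h3 : (Equiv.mulLeft D.xc) c = D.xc * c := rfl
    rw [h3, hf, hwc, map_mul]; ring
  have h4 : (1 - conj w) * ∑ c : D.C, f c * conj ((ψ : D.C → ℂ) c) = 0 := by
    rw [sub_mul, one_mul, ← h2, sub_self]
  rcases mul_eq_zero.1 h4 with h5 | h5
  · exfalso
    apply hw1
    have h6 := (sub_eq_zero.1 h5).symm
    have h7 := congrArg conj h6
    rwa [Complex.conj_conj, map_one] at h7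
  · rw [h5, mul_zero]

/-- canonical characters are unique in their blocks -/
theorem can_unique (hM : IsPModular p M) {ψ ψ' : IrrCharacter D.C} (h : D.Can (ψ : D.C → ℂ)) (h' : D.Can (ψ' : D.C → ℂ))
    (hs : SameBlock M (ψ : D.C → ℂ) (ψ' : D.C → ℂ)) : ψ = ψ' := by
  classical
  haveI : Fact p.Prime := ⟨D.prime⟩
  have hp := isPrime_of_modular hM
  by_contra hne
  have h1 := inner_div_congr hM ψ hs
  have hc : ((p ^ (Nat.card D.C).factorization p : ℕ) : ℂ) = p := by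
    have h2 : (Nat.card D.C).factorization p = 1 := by
      have h0 : Nat.card D.C ≠ 0 := Nat.card_pos.ne'
      apply le_antisymm
      · rw [← fact_card D.h]
        exact (Nat.factorization_le_iff_dvd h0 Nat.card_pos.ne').2 (Subgroup.card_subgroup_dvd_card D.C) p
      · rw [← D.prime.pow_dvd_iff_le_factorization h0, pow_one]
        have h3 : orderOf D.xc = p := by rw [← Subgroup.orderOf_coe]; exact D.hx
        have h4 := orderOf_dvd_natCard D.xc
        rwa [h3] at h4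
    rw [h2, pow_one]
  rw [ci_smul_l, ci_smul_l, hc, ← D.inner_can h h, ← D.inner_can h h', irr_inner_self ψ.2,
    irr_inner_ne ψ.2 ψ'.2 (fun h => hne (Subtype.ext h)), zero_div, sub_zero] at h1
  have hd : (charDegree (ψ : D.C → ℂ) : ℂ) ≠ 0 := by exact_mod_cast (irr_charDegree_pos ψ.2).ne'
  have h2 := ideal_mul_left hp (ring_nat hp (charDegree (ψ : D.C → ℂ))) h1
  rw [mul_one_div, div_self hd] at h2
  exact not_ideal_one hp h2

/-- sum of multiplicities -/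
theorem sum_mZ (χ : IrrCharacter G) : ((∑ i ∈ Finset.range p, D.mZ i χ : ℕ) : ℂ) =
    p * classInner (reg p (fun c : D.C => (χ : G → ℂ) c)) (D.th : D.C → ℂ) := by
  push_cast
  rw [Finset.sum_congr rfl (fun i _ => (D.mZ_spec i χ).symm)]
  unfold classInner
  rw [← Finset.mul_sum, Finset.sum_comm, ← mul_assoc, mul_comm (p : ℂ), mul_assoc, Finset.mul_sum (a := (p : ℂ))]
  congr 1
  refine Finset.sum_congr rfl fun c _ => ?_
  unfold lt
  have h1 : ∀ i ∈ Finset.range p, (χ : G → ℂ) c * conj ((D.lam c : ℂ) ^ i * (D.th : D.C → ℂ) c) =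
      ((χ : G → ℂ) c * conj ((D.th : D.C → ℂ) c)) * ((D.lam c : ℂ)⁻¹) ^ i := by
    intro i _
    rw [map_mul, map_pow, D.lam_conj]; ring
  rw [Finset.sum_congr rfl h1, ← Finset.mul_sum, sum_pow _ (by rw [inv_pow, D.lam_pow_p, inv_one]), D.reg_mul]
  by_cases h : (D.lam c : ℂ) = 1
  · rw [if_pos h, if_pos (by rw [h, inv_one])]; ring
  · rw [if_neg h, if_neg (fun h2 => h (inv_eq_one.1 h2))]; ring

theorem sum_mZ_eq (χ : IrrCharacter G) :
    ((∑ i ∈ Finset.range p, D.mZ i χ : ℕ) : ℤ) = p * D.mZ 0 χ + ∑ i ∈ Finset.range p, D.aZ i χ := by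
  unfold aZ
  rw [Finset.sum_sub_distrib, Finset.sum_const, Finset.card_range, nsmul_eq_mul]
  push_cast; ring

/-- the exponent extracting the regular part -/
noncomputable def rr (D : Dat p G) : ℕ := (Nat.chineseRemainder D.h.coprime 0 1 : ℕ)

omit [Fintype D.C] in
theorem rr_p : D.rr ≡ 0 [MOD p] := (Nat.chineseRemainder D.h.coprime 0 1).2.1

omit [Fintype D.C] in
theorem rr_q : D.rr ≡ 1 [MOD (Nat.card G / p)] := (Nat.chineseRemainder D.h.coprime 0 1).2.2

omit [Fintype D.C] in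
theorem reg_pow_rr {y : G} (hy : ¬ p ∣ orderOf y) : y ^ D.rr = y := by
  have h1 : orderOf y ∣ Nat.card G / p := by
    have h2 : orderOf y ∣ p * (Nat.card G / p) := by rw [D.h.card]; exact orderOf_dvd_natCard y
    exact Nat.Coprime.dvd_of_dvd_mul_left ((Nat.Prime.coprime_iff_not_dvd D.prime).mpr hy).symm h2
  have h2 : y ^ D.rr = y ^ 1 := by
    rw [pow_eq_pow_iff_modEq]
    exact D.rr_q.of_dvd h1
  rw [h2, pow_one]

/-- expansion of the degree in canonical characters -/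
theorem degree_expand [DecidablePred (fun ψ : IrrCharacter D.C => D.Can (ψ : D.C → ℂ))] (χ : IrrCharacter G) :
    (χ : G → ℂ) 1 = ∑ ψ ∈ Finset.univ.filter (fun ψ : IrrCharacter D.C => D.Can (ψ : D.C → ℂ)),
      (p * classInner (reg p (fun c : D.C => (χ : G → ℂ) c)) (ψ : D.C → ℂ)) * (ψ : D.C → ℂ) 1 := by
  classical
  let f0 : D.C → ℂ := fun c => (χ : G → ℂ) ((c : G) ^ D.rr)
  have hf0 : IsClassFunction D.C f0 := by
    intro c g
    change (χ : G → ℂ) (((g * c * g⁻¹ : D.C) : G) ^ D.rr) = (χ : G → ℂ) ((c : G) ^ D.rr)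
    have h1 : ((g * c * g⁻¹ : D.C) : G) ^ D.rr = (g : G) * (c : G) ^ D.rr * (g : G)⁻¹ := by
      rw [← conj_pow]; rfl
    rw [h1]
    exact CfsgLib.CharInt.irr_classFun χ.2 _ _
  have hcan : D.Can f0 := by
    intro c
    change (χ : G → ℂ) (((D.xc * c : D.C) : G) ^ D.rr) = (χ : G → ℂ) ((c : G) ^ D.rr)
    congr 1
    have hc : Commute D.x (c : G) := (Subgroup.mem_centralizer_singleton_iff.1 c.2 : (c : G) * D.x = D.x * c).symm
    have h1 : ((D.xc * c : D.C) : G) = D.x * c := rfl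
    have h2 : D.x ^ D.rr = 1 := by
      rw [D.x_pow_congr D.rr_p, pow_zero]
    rw [h1, hc.mul_pow, h2, one_mul]
  have h1 : f0 1 = (χ : G → ℂ) 1 := by
    change (χ : G → ℂ) (((1 : D.C) : G) ^ D.rr) = _
    rw [Subgroup.coe_one, one_pow]
  rw [← h1, classFun_expand_apply hf0 1, Finset.sum_filter]
  refine Finset.sum_congr rfl fun ψ _ => ?_
  split_ifs with h
  · rw [D.inner_can hcan h]
    congr 3
    funext c
    by_cases hc : p ∣ orderOf c
    · rw [reg_not hc, reg_not hc]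
    · rw [reg_of hc, reg_of hc]
      change (χ : G → ℂ) ((c : G) ^ D.rr) = (χ : G → ℂ) c
      rw [D.reg_pow_rr (by rwa [Subgroup.orderOf_coe])]
  · rw [D.not_can ψ h hcan, zero_mul]

theorem reg_inner_cj {t : G} (ht : t ∈ D.N) (χ : IrrCharacter G) :
    classInner (reg p (fun c : D.C => (χ : G → ℂ) c)) (fun c => (D.th : D.C → ℂ) (D.cj ht c)) =
      classInner (reg p (fun c : D.C => (χ : G → ℂ) c)) (D.th : D.C → ℂ) := by
  unfold classInner
  congr 1
  rw [← Equiv.sum_comp (D.cj ht).toEquiv (fun c => reg p (fun c : D.C => (χ : G → ℂ) c) c * conj ((D.th : D.C → ℂ) c))]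
  refine Finset.sum_congr rfl fun c _ => ?_
  have h1 : (D.cj ht).toEquiv c = D.cj ht c := rfl
  rw [h1]
  congr 1
  have h2 : (χ : G → ℂ) (D.cj ht c : G) = (χ : G → ℂ) c := by
    rw [cj_coe]
    exact CfsgLib.CharInt.irr_classFun χ.2 _ _
  by_cases hc : p ∣ orderOf c
  · rw [reg_not hc, reg_not (by rwa [MulEquiv.orderOf_eq])]
  · rw [reg_of hc, reg_of (D.cj_reg ht hc), h2]

/-- conjugates of the canonical character -/
noncomputable def Orb : Finset (IrrCharacter D.C) := by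
  classical
  exact Finset.univ.filter (fun ψ => ∃ t, ∃ ht : t ∈ D.N, ∀ c, (ψ : D.C → ℂ) c = (D.th : D.C → ℂ) (D.cj ht c))

theorem mem_Orb {ψ : IrrCharacter D.C} : ψ ∈ D.Orb ↔
    ∃ t, ∃ ht : t ∈ D.N, ∀ c, (ψ : D.C → ℂ) c = (D.th : D.C → ℂ) (D.cj ht c) := by
  unfold Orb; simp

theorem card_Orb {T : Subgroup G}
    (hT : ∀ g : G, g ∈ T ↔ g ∈ D.N ∧ ∀ c c' : D.C, (c' : G) = g * c * g⁻¹ → (D.th : D.C → ℂ) c' = (D.th : D.C → ℂ) c) :
    D.Orb.card * Nat.card T = Nat.card D.N := by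
  classical
  have h1 : Nat.card D.N = (Finset.univ.filter (fun t : G => t ∈ D.N)).card := by
    rw [Nat.card_eq_fintype_card, ← Fintype.card_subtype]
  let φ : G → IrrCharacter D.C := fun t => if ht : t ∈ D.N then ⟨_, D.th_cj_irr ht⟩ else D.th
  have hφ : ∀ t (ht : t ∈ D.N) c, (φ t : D.C → ℂ) c = (D.th : D.C → ℂ) (D.cj ht c) := by
    intro t ht c
    simp only [φ, dif_pos ht]
  rw [h1, Finset.card_eq_sum_card_fiberwise (f := φ) (t := D.Orb) (fun t ht => by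
    rw [Finset.mem_coe, Finset.mem_filter] at ht
    rw [Finset.mem_coe, D.mem_Orb]
    exact ⟨t, ht.2, hφ t ht.2⟩)]
  rw [← smul_eq_mul, ← Finset.sum_const]
  refine Finset.sum_congr rfl fun ψ hψ => ?_
  obtain ⟨t0, ht0, hψ0⟩ := D.mem_Orb.1 hψ
  rw [Nat.card_eq_fintype_card, ← Fintype.card_coe]
  refine Fintype.card_congr ⟨fun s => ⟨s.1 * t0, ?_⟩, fun t => ⟨t.1 * t0⁻¹, ?_⟩, ?_, ?_⟩
  · have hs := (hT s.1).1 s.2
    have hst : s.1 * t0 ∈ D.N := D.N.mul_mem hs.1 ht0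
    rw [Finset.mem_filter, Finset.mem_filter]
    refine ⟨⟨Finset.mem_univ _, hst⟩, ?_⟩
    apply Subtype.ext
    funext c
    rw [hφ _ hst, hψ0]
    exact hs.2 (D.cj ht0 c) _ (by rw [D.cj_coe, D.cj_coe]; group)
  · have ht := t.2
    rw [Finset.mem_filter, Finset.mem_filter] at ht
    rw [hT]
    refine ⟨D.N.mul_mem ht.1.2 (D.N.inv_mem ht0), fun c c' hc => ?_⟩
    have h2 : ∀ d : D.C, (D.th : D.C → ℂ) (D.cj ht.1.2 d) = (D.th : D.C → ℂ) (D.cj ht0 d) := by
      intro d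
      rw [← hφ _ ht.1.2, ht.2, hψ0]
    have h3 := h2 ((D.cj ht0).symm c)
    rw [MulEquiv.apply_symm_apply] at h3
    rw [← h3]
    refine congrArg (D.th : D.C → ℂ) (Subtype.ext ?_)
    rw [D.cj_coe, hc]
    have h4 : (((D.cj ht0).symm c : D.C) : G) = t0⁻¹ * c * t0 := rfl
    rw [h4]; group
  · intro s; apply Subtype.ext; simp
  · intro t; apply Subtype.ext; simp

/-- the degree modulo `p` -/
theorem degree_mod (hM : IsPModular p M) {B : Set (IrrCharacter G)} (hB : IsPBlock M B)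
    {b : Set (IrrCharacter D.C)} (hb : IsInducedBlock M D.C b B) (hθ : D.th ∈ b)
    (hPD : IsDefectGroup p M B (Subgroup.zpowers D.x)) {χ : IrrCharacter G} (hχ : χ ∈ B) :
    (charDegree (χ : G → ℂ) : ℤ) ≡ (D.Orb.card : ℤ) * charDegree (D.th : D.C → ℂ) * ∑ i ∈ Finset.range p, D.aZ i χ [ZMOD p] := by
  classical
  haveI : Fact p.Prime := ⟨D.prime⟩
  have hp := isPrime_of_modular hM
  haveI : M.IsPrime := hp
  -- multiplicity sums
  have hn : ∀ ψ : IrrCharacter D.C, D.Can (ψ : D.C → ℂ) → ∃ n : ℕ, (p * classInner (reg p (fun c : D.C => (χ : G → ℂ) c)) (ψ : D.C → ℂ)) = n ∧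
      (ψ ∉ D.Orb → (p : ℤ) ∣ n) ∧ (ψ ∈ D.Orb → n = ∑ i ∈ Finset.range p, D.mZ i χ ∧
        charDegree (ψ : D.C → ℂ) = charDegree (D.th : D.C → ℂ)) := by
    intro ψ hψ
    by_cases hO : ψ ∈ D.Orb
    · refine ⟨∑ i ∈ Finset.range p, D.mZ i χ, ?_, fun h => absurd hO h, fun _ => ⟨rfl, ?_⟩⟩
      · rw [D.sum_mZ]
        obtain ⟨t, ht, hψt⟩ := D.mem_Orb.1 hO
        have h1 : (ψ : D.C → ℂ) = fun c => (D.th : D.C → ℂ) (D.cj ht c) := funext hψt
        rw [h1, D.reg_inner_cj ht]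
      · obtain ⟨t, ht, hψt⟩ := D.mem_Orb.1 hO
        unfold charDegree
        rw [hψt, map_one]
    · letI : Fintype (D.setTh ψ hψ).C := inferInstanceAs (Fintype D.C)
      refine ⟨∑ i ∈ Finset.range p, (D.setTh ψ hψ).mZ i χ, ?_, fun _ => ?_, fun h => absurd h hO⟩
      · rw [(D.setTh ψ hψ).sum_mZ]; rfl
      · -- all multiplicities agree
        have hnot : ¬ IsInducedBlock M D.C (blockOf M (ψ : D.C → ℂ)) B := by
          intro hind
          apply hO
          have hPC : D.C = Subgroup.zpowers D.x ⊔ Subgroup.centralizer ((Subgroup.zpowers D.x : Subgroup G) : Set G) := by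
            rw [centralizer_zpowers, eq_comm, sup_eq_right, Subgroup.zpowers_le]
            exact Subgroup.mem_centralizer_singleton_iff.2 rfl
          obtain ⟨-, h2⟩ := CfsgLib.BlockK1.s0973 hM hB hPD hPC
          obtain ⟨n, hnN, h3⟩ := h2 b (blockOf M (ψ : D.C → ℂ)) hb hind
          obtain ⟨θ2, hθ2, h4⟩ := h3 D.th hθ
          have h5 : ∀ c, (θ2 : D.C → ℂ) c = (D.th : D.C → ℂ) (D.cj hnN c) := fun c => h4 c (D.conj_mem hnN c)
          have h6 : D.Can (θ2 : D.C → ℂ) := by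
            intro c
            rw [h5, h5]
            exact D.th_cj_x hnN c
          have h7 : ψ = θ2 := D.can_unique hM hψ h6 hθ2
          rw [D.mem_Orb]
          exact ⟨n, hnN, by rw [h7]; exact h5⟩
        have hnot' : ¬ IsInducedBlock M D.C (blockOf M (ψ : D.C → ℂ)) (blockOf M (χ : G → ℂ)) := by
          rw [← block_eq_blockOf hp hB hχ]; exact hnot
        have h8 : (D.setTh ψ hψ).dd (χ : G → ℂ) = 0 :=
          (D.setTh ψ hψ).dd_zero_of_not hM (b := blockOf M (ψ : D.C → ℂ)) ⟨ψ, rfl⟩ (mem_blockOf_self hp ψ) hnot'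
        have h9 := (D.setTh ψ hψ).sum_mZ_eq χ
        rw [Finset.sum_eq_zero (fun i _ => (D.setTh ψ hψ).aZ_zero_of_dd χ h8 i), add_zero] at h9
        rw [h9]
        exact Dvd.intro _ rfl
  choose n hn1 hn2 hn3 using hn
  have h1 := D.degree_expand χ
  set Cs := Finset.univ.filter (fun ψ : IrrCharacter D.C => D.Can (ψ : D.C → ℂ)) with hCs
  let n' : IrrCharacter D.C → ℕ := fun ψ => if h : D.Can (ψ : D.C → ℂ) then n ψ h else 0
  have h2 : (charDegree (χ : G → ℂ) : ℤ) = ∑ ψ ∈ Cs, (n' ψ : ℤ) * charDegree (ψ : D.C → ℂ) := by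
    have h3 : (charDegree (χ : G → ℂ) : ℂ) = ((∑ ψ ∈ Cs, n' ψ * charDegree (ψ : D.C → ℂ) : ℕ) : ℂ) := by
      rw [← CfsgLib.CharInt.irr_one_eq_charDegree χ.2, h1]
      push_cast
      refine Finset.sum_congr rfl fun ψ hψ => ?_
      have hc : D.Can (ψ : D.C → ℂ) := (Finset.mem_filter.1 hψ).2
      simp only [n', dif_pos hc]
      rw [hn1 ψ hc, CfsgLib.CharInt.irr_one_eq_charDegree ψ.2]
    have h4 : charDegree (χ : G → ℂ) = ∑ ψ ∈ Cs, n' ψ * charDegree (ψ : D.C → ℂ) := by exact_mod_cast h3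
    rw [h4]; push_cast; rfl
  have hOC : D.Orb ⊆ Cs := by
    intro ψ hψ
    rw [hCs, Finset.mem_filter]
    refine ⟨Finset.mem_univ _, ?_⟩
    obtain ⟨t, ht, hψt⟩ := D.mem_Orb.1 hψ
    intro c
    rw [hψt, hψt]
    exact D.th_cj_x ht c
  rw [h2, ← Finset.sum_sdiff hOC]
  have h5 : ∑ ψ ∈ D.Orb, (n' ψ : ℤ) * charDegree (ψ : D.C → ℂ) =
      (D.Orb.card : ℤ) * charDegree (D.th : D.C → ℂ) * ((∑ i ∈ Finset.range p, D.mZ i χ : ℕ) : ℤ) := by
    rw [mul_assoc, ← nsmul_eq_mul, ← Finset.sum_const]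
    refine Finset.sum_congr rfl fun ψ hψ => ?_
    have hc : D.Can (ψ : D.C → ℂ) := (Finset.mem_filter.1 (hOC hψ)).2
    simp only [n', dif_pos hc]
    obtain ⟨e1, e2⟩ := hn3 ψ hc hψ
    rw [e1, e2]; push_cast; ring
  have h6 : (p : ℤ) ∣ ∑ ψ ∈ Cs \ D.Orb, (n' ψ : ℤ) * charDegree (ψ : D.C → ℂ) := by
    refine Finset.dvd_sum fun ψ hψ => ?_
    rw [Finset.mem_sdiff] at hψ
    have hc : D.Can (ψ : D.C → ℂ) := (Finset.mem_filter.1 hψ.1).2
    simp only [n', dif_pos hc]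
    exact dvd_mul_of_dvd_left (hn2 ψ hc hψ.2) _
  rw [h5, D.sum_mZ_eq]
  obtain ⟨q, hq⟩ := h6
  rw [hq, Int.modEq_iff_dvd]
  refine ⟨-(q + (D.Orb.card : ℤ) * charDegree (D.th : D.C → ℂ) * D.mZ 0 χ), ?_⟩
  ring

end Dat

end CfsgLib.Once19
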