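import Mathlib
import Cfsg.Agent.EqBase
import Cfsg.Agent.LibOnceG19

set_option autoImplicit false
set_option maxHeartbeats 400000
set_option linter.unusedSectionVars false
set_option linter.style.haveILetI false

/-! Blocks of defect one: degrees of the members. -/

namespace CfsgLib.Once19

open CfsgLib.CharInt hiding irr_isCharacter irr_classFun irr_one_ne_zero schur_scalar
open Cfsg CfsgLib.CharInt2 CfsgLib.CharBasic CfsgLib.BlockR CfsgLib.BlockCore
  CfsgLib.BlockIdem CfsgLib.BlockIdeal CfsgLib.BlockConj CfsgLib.BlockBrauer CfsgLib.BlockInd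
  CfsgLib.BlockFMT CfsgLib.BlockFMT2 CfsgLib.BlockOrth CfsgLib.BlockDefect
  CfsgLib.BlockReg CfsgLib.BlockReg2 CfsgLib.BlockCount CfsgLib.BlockCount2 CfsgLib.BlockQP
  CfsgLib.BlockCov3 CfsgLib.BlockCov4 CfsgLib.BlockSec CfsgLib.BlockSec3 CfsgLib.CharNorm CfsgLib.Ur
open scoped ComplexConjugate

universe u
variable {p : ℕ} {G : Type u} [Group G] [Fintype G] {M : Ideal AlgInt}

theorem sum_range_units [hp : Fact p.Prime] [Fintype (ZMod p)ˣ] (F : ℕ → ℤ) (h0 : F 0 = 0) :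
    ∑ i ∈ Finset.range p, F i = ∑ u : (ZMod p)ˣ, F (uv u) := by
  classical
  haveI : NeZero p := ⟨hp.out.ne_zero⟩
  rw [← Finset.sum_image (g := uv) (f := F) (s := Finset.univ) (fun u _ v _ h => uv_inj (by rw [h]))]
  symm
  apply Finset.sum_subset
  · intro i hi
    obtain ⟨u, _, rfl⟩ := Finset.mem_image.1 hi
    exact Finset.mem_range.2 (ZMod.val_lt _)
  · intro i hi hni
    by_cases hi0 : i = 0
    · rw [hi0, h0]
    · exfalso
      obtain ⟨u, hu⟩ := exists_uv (p := p) (n := i) (by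
        rw [Nat.modEq_zero_iff_dvd]
        intro h
        exact absurd (Nat.le_of_dvd (Nat.pos_of_ne_zero hi0) h) (not_le.2 (Finset.mem_range.1 hi)))
      apply hni
      rw [Finset.mem_image]
      exact ⟨u, Finset.mem_univ _, Nat.ModEq.eq_of_lt_of_lt hu (ZMod.val_lt _) (Finset.mem_range.1 hi)⟩

theorem sum_range_const (hp : p.Prime) (F : ℕ → ℤ) (h0 : F 0 = 0) {δ : ℤ} (h : ∀ i, ¬ i ≡ 0 [MOD p] → F i = δ) :
    ∑ i ∈ Finset.range p, F i = ((p : ℤ) - 1) * δ := by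
  haveI : Fact p.Prime := ⟨hp⟩
  haveI : NeZero p := ⟨hp.ne_zero⟩
  rw [sum_range_units F h0, Finset.sum_congr rfl (fun u _ => h _ (uv_ne u)), Finset.sum_const, Finset.card_univ,
    ZMod.card_units p, nsmul_eq_mul]
  have := hp.pos
  push_cast [show 1 ≤ p by omega]
  ring

namespace Dat
variable (D : Dat p G) [Fintype D.C]

theorem aZ_zero (χ : IrrCharacter G) : D.aZ 0 χ = 0 := by
  unfold aZ; ring

theorem sum_aZ_cls {χ0 : IrrCharacter G} {e : ℕ} {ε : ℤ} (hce : (cls D.h χ0).card * e = p - 1)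
    (h4 : ∀ i : ℕ, ¬ i ≡ 0 [MOD p] → ∃ ψ ∈ cls D.h χ0, D.aZ i ψ = ε ∧ ∀ ξ ∈ cls D.h χ0, ξ ≠ ψ → D.aZ i ξ = 0)
    {χ : IrrCharacter G} (hχ : χ ∈ cls D.h χ0) : ∑ i ∈ Finset.range p, D.aZ i χ = e * ε := by
  classical
  haveI : Fact p.Prime := ⟨D.prime⟩
  haveI : NeZero p := ⟨D.prime.ne_zero⟩
  letI := act D.h
  have hU : Fintype.card (ZMod p)ˣ = p - 1 := ZMod.card_units p
  have horb : ∀ χ : IrrCharacter G, orb (ZMod p)ˣ χ = cls D.h χ := by
    intro χ; ext ψ
    rw [mem_orb, mem_cls]; rfl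
  rw [sum_range_units _ (D.aZ_zero χ)]
  have h1 := sum_all (a := D.aU) (fun j u χ => D.c1 j u χ) χ (fun n => n)
  have h2 : ∑ u : (ZMod p)ˣ, D.aZ (uv u) χ = ∑ u : (ZMod p)ˣ, D.aU u χ := rfl
  rw [h2, h1, horb]
  have hcc : cls D.h χ = cls D.h χ0 := cls_eq hχ
  have h3 := sta_mul (U := (ZMod p)ˣ) χ
  rw [horb, hU, hcc, ← hce, mul_comm (cls D.h χ0).card e] at h3
  have h4' : sta (ZMod p)ˣ χ = e := Nat.eq_of_mul_eq_mul_right (cls_card_pos D.h χ0) h3
  rw [h4', hcc]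
  congr 1
  have h10 : ¬ 1 ≡ 0 [MOD p] := by
    rw [Nat.modEq_zero_iff_dvd]
    intro h; exact D.prime.one_lt.ne' (Nat.dvd_one.1 h)
  obtain ⟨ψ, e1, e2, e3⟩ := h4 1 h10
  have h5 : ∀ ξ, D.aU 1 ξ = D.aZ 1 ξ := fun ξ => by unfold aU; rw [uv_one]
  rw [Finset.sum_eq_single_of_mem ψ e1 (fun ξ hξ hne => by rw [h5]; exact e3 ξ hξ hne), h5, e2]

theorem orb_eq_div {T : Subgroup G}
    (hT : ∀ g : G, g ∈ T ↔ g ∈ D.N ∧ ∀ c c' : D.C, (c' : G) = g * c * g⁻¹ → (D.th : D.C → ℂ) c' = (D.th : D.C → ℂ) c) :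
    D.Orb.card * D.C.relIndex T = D.C.relIndex D.N := by
  have h1 := D.card_Orb hT
  have h2 := exists_e D (D.C_le_T hT)
  have h3 := exists_e D ((D.C_le_T hT).trans (D.T_le_N hT))
  rw [h2, h3, ← mul_assoc] at h1
  exact Nat.eq_of_mul_eq_mul_right Nat.card_pos h1

end Dat

/-- a full defect block has defect group `⟨x⟩` -/
theorem defect_zpowers (hM : IsPModular p M) (h : Once p G) {B : Set (IrrCharacter G)} (hB : IsPBlock M B)
    {χ : IrrCharacter G} (hχ : χ ∈ B) (hd : ¬ p ∣ charDegree (χ : G → ℂ)) {x : G} (hx : orderOf x = p) :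
    IsDefectGroup p M B (Subgroup.zpowers x) := by
  haveI : Fact p.Prime := ⟨h.prime⟩
  obtain ⟨E, hE⟩ := exists_defectGroup (p := p) hM hB
  have h1 := card_defectGroup hM hB hE
  have h2 : blockDefect p B = 1 := by
    unfold blockDefect
    rw [fact_card h]
    have h3 : sInf ((fun χ : IrrCharacter G => (charDegree (χ : G → ℂ)).factorization p) '' B) = 0 := by
      rw [Nat.sInf_eq_zero]
      left
      refine ⟨χ, hχ, ?_⟩
      exact Nat.factorization_eq_zero_of_not_dvd hd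
    rw [h3]
  rw [h2, pow_one] at h1
  have hcx : Nat.card (Subgroup.zpowers x) = p := by rw [Nat.card_zpowers, hx]
  have hfac : p ^ (Nat.card G).factorization p = p := by rw [fact_card h, pow_one]
  let P1 : Sylow p G := Sylow.ofCard E (by rw [h1, hfac])
  let P2 : Sylow p G := Sylow.ofCard (Subgroup.zpowers x) (by rw [hcx, hfac])
  obtain ⟨g, hg⟩ := MulAction.exists_smul_eq G P1 P2
  have h4 : Subgroup.zpowers x = E.map (MulAut.conj g).toMonoidHom := by
    have h5 : ((g • P1 : Sylow p G) : Subgroup G) = (P2 : Subgroup G) := by rw [hg]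
    rw [Sylow.coe_subgroup_smul] at h5
    exact h5.symm
  rw [h4]
  exact defectGroup_map_conj hE g

end CfsgLib.Once19
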