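import Mathlib
import Cfsg.Agent.EqBase
import Cfsg.Agent.LibOnceH19

set_option autoImplicit false
set_option maxHeartbeats 400000
set_option linter.unusedSectionVars false
set_option linter.style.haveILetI false

/-! Blocks of defect one: Brauer's theorem. -/

namespace CfsgLib.Once19

open CfsgLib.CharInt hiding irr_isCharacter irr_classFun irr_one_ne_zero schur_scalar
open Cfsg CfsgLib.CharInt2 CfsgLib.CharBasic CfsgLib.BlockR CfsgLib.BlockCore
  CfsgLib.BlockIdem CfsgLib.BlockIdeal CfsgLib.BlockConj CfsgLib.BlockBrauer CfsgLib.BlockInd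
  CfsgLib.BlockFMT CfsgLib.BlockFMT2 CfsgLib.BlockOrth CfsgLib.BlockDefect
  CfsgLib.BlockReg CfsgLib.BlockReg2 CfsgLib.BlockCount CfsgLib.BlockCount2 CfsgLib.BlockQP
  CfsgLib.BlockCov3 CfsgLib.BlockCov4 CfsgLib.BlockSec CfsgLib.BlockSec3 CfsgLib.CharNorm CfsgLib.Ur
open scoped ComplexConjugate

universe u
variable {p : ℕ} {G : Type u} [Group G] [Fintype G] {M : Ideal AlgInt}

/-- the data attached to a canonical character -/
theorem exists_dat_th (h : Once p G) {x : G} (hx : orderOf x = p)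
    (θ : IrrCharacter (Subgroup.centralizer ({x} : Set G)))
    (hθP : ∀ y : Subgroup.centralizer ({x} : Set G), (y : G) = x →
      (θ : Subgroup.centralizer ({x} : Set G) → ℂ) y = (θ : Subgroup.centralizer ({x} : Set G) → ℂ) 1) :
    ∃ lam lamx lamp thx, (⟨h, x, hx, lam, lamx, lamp, θ, thx⟩ : Dat p G) = (⟨h, x, hx, lam, lamx, lamp, θ, thx⟩ : Dat p G) := by
  haveI : Fact p.Prime := ⟨h.prime⟩
  let xc : Subgroup.centralizer ({x} : Set G) := ⟨x, Subgroup.mem_centralizer_singleton_iff.2 rfl⟩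
  have hxc : ∀ c : Subgroup.centralizer ({x} : Set G), c * xc = xc * c :=
    fun c => Subtype.ext (Subgroup.mem_centralizer_singleton_iff.1 c.2)
  have hxo : orderOf xc = p := by rw [← Subgroup.orderOf_coe]; exact hx
  obtain ⟨lam, hl1, hl2⟩ := exists_lam xc hxo hxc (fun h1 => h.sq (h1.trans (Subgroup.card_subgroup_dvd_card _)))
  obtain ⟨w, hw, hwc⟩ := central_scalar θ.2 hxc (n := p) (by rw [← hxo]; exact pow_orderOf_eq_one xc)
  refine ⟨lam, hl1, hl2, ?_, rfl⟩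
  have h1 := hwc 1
  rw [mul_one] at h1
  have h2 : (θ : Subgroup.centralizer ({x} : Set G) → ℂ) xc = (θ : Subgroup.centralizer ({x} : Set G) → ℂ) 1 := hθP xc rfl
  rw [h2] at h1
  have h3 : w = 1 := by
    have h4 : (θ : Subgroup.centralizer ({x} : Set G) → ℂ) 1 ≠ 0 := CfsgLib.CharInt.irr_one_ne_zero θ.2
    exact (mul_right_cancel₀ h4 (by rw [one_mul]; exact h1)).symm
  intro c
  have h5 := hwc c
  rw [h3, one_mul] at h5
  exact h5

namespace Dat
variable (D : Dat p G) [Fintype D.C]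

open Classical in
/-- **Brauer** -/
theorem main (hM : IsPModular p M) {B : Set (IrrCharacter G)} (hPD : IsDefectGroup p M B (Subgroup.zpowers D.x))
    {b : Set (IrrCharacter D.C)} (hb : IsInducedBlock M D.C b B) (hθ : D.th ∈ b) {T : Subgroup G}
    (hT : ∀ g : G, g ∈ T ↔ g ∈ D.N ∧ ∀ c c' : D.C, (c' : G) = g * c * g⁻¹ → (D.th : D.C → ℂ) c' = (D.th : D.C → ℂ) c)
    {e : ℕ} (he : D.C.relIndex T = e) :
    ∃ Y : Finset (IrrCharacter G), Y.Nonempty ∧ (∀ ψ ∈ Y, ψ ∈ B) ∧ Y.card * e = p - 1 ∧ Nat.card B = Y.card + e ∧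
      (∀ ψ ∈ Y, ∀ ψ' ∈ Y, ∀ g : G, ¬ p ∣ orderOf g → (ψ : G → ℂ) g = (ψ' : G → ℂ) g) ∧
      (∀ χ ∈ B, χ ∉ Y → cls D.h χ = {χ} ∧ ∃ δ : ℤ, (δ = 1 ∨ δ = -1) ∧ (∀ i : ℕ, ¬ i ≡ 0 [MOD p] → D.aZ i χ = δ) ∧
        (charDegree (χ : G → ℂ) : ℤ) ≡ -δ * (D.Orb.card * charDegree (D.th : D.C → ℂ) : ℕ) [ZMOD p]) ∧
      ∃ ε : ℤ, (ε = 1 ∨ ε = -1) ∧ (∀ ψ ∈ Y, (charDegree (ψ : G → ℂ) : ℤ) ≡ ε * (D.Orb.card * e * charDegree (D.th : D.C → ℂ) : ℕ) [ZMOD p]) ∧
        ∀ ψ ∈ Y, ∀ g : G, ¬ p ∣ orderOf g →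
          (∑ χ ∈ (Finset.univ.filter (fun χ : IrrCharacter G => χ ∈ B ∧ χ ∉ Y) : Finset (IrrCharacter G)), (D.aZ 1 χ : ℂ) * (χ : G → ℂ) g) +
            (ε : ℂ) * (ψ : G → ℂ) g = 0 := by
  classical
  haveI : Fact p.Prime := ⟨D.prime⟩
  have hp := isPrime_of_modular hM
  have hB := hb.2.1
  have hbd : 0 < blockDefect p B := by
    have h1 := card_defectGroup hM hB hPD
    rw [Nat.card_zpowers, D.hx] at h1
    rw [Nat.pos_iff_ne_zero]
    intro h0
    rw [h0, pow_zero] at h1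
    exact D.prime.one_lt.ne' h1
  obtain ⟨χ1, hχ1, hd1⟩ := deg_of_defect hM D.h hB hbd
  have hdeg := deg_all hM D.h hB hχ1 hd1
  have he' := exists_e D (D.C_le_T hT)
  rw [he] at he'
  obtain ⟨χ0, h0, h1, h2, h3, ε, hε, h4⟩ := D.str hM hb hθ hdeg hT he'
  have h10 : ¬ 1 ≡ 0 [MOD p] := by
    rw [Nat.modEq_zero_iff_dvd]
    intro h; exact D.prime.one_lt.ne' (Nat.dvd_one.1 h)
  have hYB : ∀ ψ ∈ cls D.h χ0, ψ ∈ B := fun ψ hψ => cls_block hM hB hψ h0
  refine ⟨cls D.h χ0, ⟨χ0, self_mem_cls D.h χ0⟩, hYB, h1, h2, ?_, ?_, ε, hε, ?_, ?_⟩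
  · intro ψ hψ ψ' hψ' g hg
    rw [cls_reg hψ hg, cls_reg hψ' hg]
  · intro χ hχ hχY
    obtain ⟨e1, δ, hδ, e2⟩ := h3 χ hχ hχY
    refine ⟨e1, δ, hδ, e2, ?_⟩
    have h5 := D.degree_mod hM hB hb hθ hPD hχ
    rw [sum_range_const D.prime _ (D.aZ_zero χ) e2] at h5
    refine h5.trans ?_
    rw [Int.modEq_iff_dvd]
    refine ⟨-(δ * (D.Orb.card * charDegree (D.th : D.C → ℂ))), ?_⟩
    push_cast; ring
  · intro ψ hψ
    have h5 := D.degree_mod hM hB hb hθ hPD (hYB ψ hψ)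
    rw [D.sum_aZ_cls h1 h4 hψ] at h5
    refine h5.trans ?_
    rw [Int.modEq_iff_dvd]
    refine ⟨0, ?_⟩
    push_cast; ring
  · intro θ hθY g hg
    obtain ⟨ψ, hψ, hψε, hψ0⟩ := h4 1 h10
    have hrel := D.rel_reg 1 hg
    have hθψ : (θ : G → ℂ) g = (ψ : G → ℂ) g := by
      rw [cls_reg hθY hg, cls_reg hψ hg]
    rw [hθψ]
    rw [← hrel, ← Finset.sum_filter_add_sum_filter_not Finset.univ (fun χ : IrrCharacter G => χ ∈ B ∧ χ ∉ cls D.h χ0)
      (fun χ => (D.aZ 1 χ : ℂ) * (χ : G → ℂ) g)]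
    refine congrArg₂ (· + ·) (Finset.sum_congr (by congr) (fun _ _ => rfl)) ?_
    symm
    rw [Finset.sum_eq_single ψ]
    · rw [hψε]
    · intro χ hχ hne
      rw [Finset.mem_filter] at hχ
      have h5 : χ ∉ B ∨ χ ∈ cls D.h χ0 := by
        by_contra hcon
        push Not at hcon
        exact hχ.2 hcon
      have h6 : D.aZ 1 χ = 0 := by
        rcases h5 with h5 | h5
        · exact D.c2 hM hb hθ h5 1
        · exact hψ0 χ h5 hne
      rw [h6]; simp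
    · intro hψn
      exfalso
      apply hψn
      rw [Finset.mem_filter]
      exact ⟨Finset.mem_univ _, fun h5 => h5.2 hψ⟩

/-- expansion of `χ(x c)` in canonical characters -/
theorem x_expand [DecidablePred (fun ψ : IrrCharacter D.C => D.Can (ψ : D.C → ℂ))] (χ : IrrCharacter G) {c : D.C}
    (hc : ¬ p ∣ orderOf c) :
    (χ : G → ℂ) (D.x * c) = ∑ ψ ∈ Finset.univ.filter (fun ψ : IrrCharacter D.C => D.Can (ψ : D.C → ℂ)),
      (p * classInner (reg p (fun c : D.C => (χ : G → ℂ) (D.x * c))) (ψ : D.C → ℂ)) * (ψ : D.C → ℂ) c := by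
  classical
  let f0 : D.C → ℂ := fun c => (χ : G → ℂ) (D.x * (c : G) ^ D.rr)
  have hf0 : IsClassFunction D.C f0 := by
    intro c g
    change (χ : G → ℂ) (D.x * ((g * c * g⁻¹ : D.C) : G) ^ D.rr) = (χ : G → ℂ) (D.x * (c : G) ^ D.rr)
    have h1 : D.x * ((g * c * g⁻¹ : D.C) : G) ^ D.rr = (g : G) * (D.x * (c : G) ^ D.rr) * (g : G)⁻¹ := by
      have h2 : ((g * c * g⁻¹ : D.C) : G) ^ D.rr = (g : G) * (c : G) ^ D.rr * (g : G)⁻¹ := by
        rw [← conj_pow]; rfl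
      have h3 : (g : G) * D.x = D.x * g := Subgroup.mem_centralizer_singleton_iff.1 g.2
      rw [h2, ← mul_assoc (g : G) D.x, h3]; group
    rw [h1]
    exact CfsgLib.CharInt.irr_classFun χ.2 _ _
  have hcan : D.Can f0 := by
    intro c
    change (χ : G → ℂ) (D.x * ((D.xc * c : D.C) : G) ^ D.rr) = (χ : G → ℂ) (D.x * (c : G) ^ D.rr)
    congr 2
    have hc : Commute D.x (c : G) := (Subgroup.mem_centralizer_singleton_iff.1 c.2 : (c : G) * D.x = D.x * c).symm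
    have h1 : ((D.xc * c : D.C) : G) = D.x * c := rfl
    have h2 : D.x ^ D.rr = 1 := by
      rw [D.x_pow_congr D.rr_p, pow_zero]
    rw [h1, hc.mul_pow, h2, one_mul]
  have h1 : f0 c = (χ : G → ℂ) (D.x * c) := by
    change (χ : G → ℂ) (D.x * (c : G) ^ D.rr) = _
    rw [D.reg_pow_rr (by rwa [Subgroup.orderOf_coe])]
  rw [← h1, classFun_expand_apply hf0 c, Finset.sum_filter]
  refine Finset.sum_congr rfl fun ψ _ => ?_
  split_ifs with h
  · rw [D.inner_can hcan h]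
    congr 3
    funext c
    by_cases hc : p ∣ orderOf c
    · rw [reg_not hc, reg_not hc]
    · rw [reg_of hc, reg_of hc]
      change (χ : G → ℂ) (D.x * (c : G) ^ D.rr) = (χ : G → ℂ) (D.x * c)
      rw [D.reg_pow_rr (by rwa [Subgroup.orderOf_coe])]
  · rw [D.not_can ψ h hcan, zero_mul]

end Dat

/-- S4442 in terms of a generator -/
theorem s4442 (hM : IsPModular p M) (h : Once p G) {x : G} (hx : orderOf x = p) {B : Set (IrrCharacter G)}
    {P0 C : Subgroup G} (hP0 : P0 = Subgroup.zpowers x) (hC : C = Subgroup.centralizer ({x} : Set G))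
    (hBP : IsDefectGroup p M B P0) {b : Set (IrrCharacter C)}
    (hind : IsInducedBlock M C b B) (θ : IrrCharacter C) (hθ : θ ∈ b)
    (hθP : ∀ y : C, (y : G) ∈ P0 → (θ : C → ℂ) y = (θ : C → ℂ) 1) (T : Subgroup G)
    (hT : ∀ g : G, g ∈ T ↔ (g ∈ Subgroup.normalizer (P0 : Set G) ∧
      ∀ c c' : C, (c' : G) = g * c * g⁻¹ → (θ : C → ℂ) c' = (θ : C → ℂ) c)) (e f : ℕ)
    (he : C.relIndex T = e) (hf : C.relIndex (Subgroup.normalizer (P0 : Set G)) = f) :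
    e ∣ p - 1 ∧ Nat.card B = e + (p - 1) / e ∧ ∃ X Y : Set (IrrCharacter G), B = X ∪ Y ∧ Disjoint X Y ∧
      Nat.card X = e ∧ Nat.card Y = (p - 1) / e ∧
      (∀ χ ∈ X, (charDegree (χ : G → ℂ) : ℤ) ≡ ((f / e * charDegree (θ : C → ℂ) : ℕ) : ℤ) [ZMOD p] ∨
        (charDegree (χ : G → ℂ) : ℤ) ≡ -((f / e * charDegree (θ : C → ℂ) : ℕ) : ℤ) [ZMOD p]) ∧
      (∃ ε : ℤ, (ε = 1 ∨ ε = -1) ∧ ∀ ψ ∈ Y, (charDegree (ψ : G → ℂ) : ℤ) ≡ ε * ((f * charDegree (θ : C → ℂ) : ℕ) : ℤ) [ZMOD p]) ∧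
      ∀ ψ ∈ Y, ∀ ψ' ∈ Y, ∀ g : G, ¬ p ∣ orderOf g → (ψ : G → ℂ) g = (ψ' : G → ℂ) g := by
  classical
  subst hP0
  subst hC
  obtain ⟨lam, lamx, lamp, thx, -⟩ := exists_dat_th h hx θ (fun y hy => hθP y (by rw [hy]; exact Subgroup.mem_zpowers x))
  set D : Dat p G := ⟨h, x, hx, lam, lamx, lamp, θ, thx⟩ with hD
  letI : Fintype D.C := Fintype.ofFinite _
  obtain ⟨Y, hYn, hYB, hYc, hBc, hYreg, hX, ε, hε, hYd, hrel⟩ := D.main hM hBP hind hθ hT he
  have he0 : 0 < e := by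
    rw [Nat.pos_iff_ne_zero]; rintro rfl
    rw [mul_zero] at hYc
    have := D.prime.two_le
    omega
  have hYq : Y.card = (p - 1) / e := by
    rw [← hYc]; exact (Nat.mul_div_cancel _ he0).symm
  have hfe : D.Orb.card * e = f := by
    rw [← he, ← hf]; exact D.orb_eq_div hT
  have hfe2 : f / e = D.Orb.card := by rw [← hfe]; exact Nat.mul_div_cancel _ he0
  have hB1 : B = (B \ (Y : Set (IrrCharacter G))) ∪ (Y : Set (IrrCharacter G)) := by
    ext χ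
    rw [Set.mem_union, Set.mem_diff, Finset.mem_coe]
    constructor
    · intro hχ
      by_cases h1 : χ ∈ Y
      · exact Or.inr h1
      · exact Or.inl ⟨hχ, h1⟩
    · rintro (h1 | h1)
      · exact h1.1
      · exact hYB χ h1
  have hcardY : Nat.card ((Y : Finset _) : Set (IrrCharacter G)) = Y.card := by
    rw [Nat.card_eq_fintype_card]; simp
  have hcardX : Nat.card (B \ (Y : Set (IrrCharacter G)) : Set (IrrCharacter G)) = e := by
    have h1 : (B \ (Y : Set (IrrCharacter G))).ncard + (Y : Set (IrrCharacter G)).ncard = B.ncard :=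
      Set.ncard_diff_add_ncard_of_subset hYB
    rw [Nat.card_coe_set_eq] at hBc hcardY ⊢
    omega
  refine ⟨⟨Y.card, by rw [← hYc, mul_comm]⟩, by rw [hBc, hYq, add_comm], B \ (Y : Set (IrrCharacter G)), (Y : Set (IrrCharacter G)), hB1,
    Set.disjoint_sdiff_left, hcardX, by rw [hcardY, hYq], ?_, ⟨ε, hε, ?_⟩, hYreg⟩
  · intro χ hχ
    obtain ⟨-, δ, hδ, -, hd⟩ := hX χ hχ.1 hχ.2
    rw [hfe2]
    rcases hδ with rfl | rfl
    · right
      rw [neg_mul, one_mul] at hd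
      exact hd
    · left
      rw [neg_neg, one_mul] at hd
      exact hd
  · intro ψ hψ
    have := hYd ψ hψ
    rw [hfe] at this
    exact this

end CfsgLib.Once19
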