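import Mathlib
import Cfsg.Agent.EqBase
import Cfsg.Agent.LibOnceI19
import Cfsg.Agent.LibBlockH

set_option autoImplicit false
set_option maxHeartbeats 400000
set_option linter.unusedSectionVars false
set_option linter.style.haveILetI false

/-! Blocks of defect one: the principal block. -/

namespace CfsgLib.Once19

open CfsgLib.CharInt hiding irr_isCharacter irr_classFun irr_one_ne_zero schur_scalar
open Cfsg CfsgLib.CharInt2 CfsgLib.CharBasic CfsgLib.BlockR CfsgLib.BlockCore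
  CfsgLib.BlockIdem CfsgLib.BlockIdeal CfsgLib.BlockConj CfsgLib.BlockBrauer CfsgLib.BlockInd
  CfsgLib.BlockFMT CfsgLib.BlockFMT2 CfsgLib.BlockOrth CfsgLib.BlockDefect
  CfsgLib.BlockReg CfsgLib.BlockReg2 CfsgLib.BlockCount CfsgLib.BlockCount2 CfsgLib.BlockQP
  CfsgLib.BlockCov3 CfsgLib.BlockCov4 CfsgLib.BlockSec CfsgLib.BlockSec3 CfsgLib.CharNorm CfsgLib.Ur
open scoped ComplexConjugate

universe u
variable {p : ℕ} {G : Type u} [Group G] [Fintype G] {M : Ideal AlgInt}

theorem once_of_sylow [hp : Fact p.Prime] (P : Sylow p G) (hP : Nat.card P = p) : Once p G := by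
  have h1 := P.card_eq_multiplicity
  rw [hP] at h1
  have h0 : Nat.card G ≠ 0 := Nat.card_pos.ne'
  have h2 : (Nat.card G).factorization p = 1 := by
    have h3 : p ^ 1 = p ^ (Nat.card G).factorization p := by rw [pow_one]; exact h1
    exact (Nat.pow_right_injective hp.out.two_le h3).symm
  refine ⟨hp.out, ?_, ?_⟩
  · have := (hp.out.pow_dvd_iff_le_factorization h0 (k := 1)).2 (by omega)
    rwa [pow_one] at this
  · intro h
    have := (hp.out.pow_dvd_iff_le_factorization h0 (k := 2)).1 h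
    omega

theorem sylow_gen [hp : Fact p.Prime] (P : Sylow p G) (hP : Nat.card P = p) :
    ∃ x : G, orderOf x = p ∧ (P : Subgroup G) = Subgroup.zpowers x ∧
      Subgroup.centralizer ((P : Subgroup G) : Set G) = Subgroup.centralizer ({x} : Set G) := by
  have hc : IsCyclic P := isCyclic_of_prime_card hP
  obtain ⟨g, hg⟩ := hc.exists_generator
  have ho : orderOf (g : G) = p := by
    rw [Subgroup.orderOf_coe, orderOf_eq_card_of_forall_mem_zpowers hg, hP]
  have h1 : (P : Subgroup G) = Subgroup.zpowers (g : G) := by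
    ext y
    constructor
    · intro hy
      obtain ⟨k, hk⟩ := Subgroup.mem_zpowers_iff.1 (hg ⟨y, hy⟩)
      rw [Subgroup.mem_zpowers_iff]
      refine ⟨k, ?_⟩
      have := congrArg Subtype.val hk
      rwa [Subgroup.coe_zpow] at this
    · intro hy
      obtain ⟨k, rfl⟩ := Subgroup.mem_zpowers_iff.1 hy
      exact Subgroup.zpow_mem _ g.2 k
  refine ⟨g, ho, h1, ?_⟩
  exact (congrArg (fun K : Subgroup G => Subgroup.centralizer (K : Set G)) h1).trans (centralizer_zpowers (g : G))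

/-- the principal block -/
theorem exists_principal (hM : IsPModular p M) (h : Once p G) {x : G} (hx : orderOf x = p) :
    ∃ D : Dat p G, D.x = x ∧ (∀ c, (D.th : D.C → ℂ) c = 1) ∧
      IsInducedBlock M D.C (principalBlock M D.C) (principalBlock M G) ∧ D.th ∈ principalBlock M D.C := by
  haveI : Fact p.Prime := ⟨h.prime⟩
  have hp := isPrime_of_modular hM
  let o : IrrCharacter G := ⟨fun _ => 1, isIrrCharacter_one (G := G)⟩
  have hoB : IsPBlock M (principalBlock M G) := ⟨o, rfl⟩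
  have ho : o ∈ principalBlock M G := mem_blockOf_self hp o
  have hd : ¬ p ∣ charDegree (o : G → ℂ) := by
    have : charDegree (o : G → ℂ) = 1 := by
      unfold charDegree
      change ⌊((1 : ℂ)).re⌋₊ = 1
      simp
    rw [this]
    intro h1
    exact h.prime.one_lt.ne' (Nat.dvd_one.1 h1)
  obtain ⟨D, hDx, b, hb, -⟩ := exists_dat hM h hx hoB ho hd
  have hbp : b = principalBlock M D.C := (CfsgLib.BlockH.third_main hM D.C b ⟨_, hb⟩).1 hb
  letI : Fintype D.C := Fintype.ofFinite _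
  let oC : IrrCharacter D.C := ⟨fun _ => 1, isIrrCharacter_one (G := D.C)⟩
  have hcan : D.Can (oC : D.C → ℂ) := fun c => rfl
  refine ⟨D.setTh oC hcan, hDx, fun c => rfl, ?_, mem_blockOf_self hp oC⟩
  rw [hbp] at hb
  exact hb

namespace Dat
variable (D : Dat p G) [Fintype D.C]

open Classical in
/-- **Brauer**: the principal block -/
theorem principal (hM : IsPModular p M) (h1 : ∀ c, (D.th : D.C → ℂ) c = 1)
    (hb : IsInducedBlock M D.C (principalBlock M D.C) (principalBlock M G)) (hθ : D.th ∈ principalBlock M D.C)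
    {e : ℕ} (he : D.C.relIndex D.N = e) :
    ∃ Y : Finset (IrrCharacter G), Y.Nonempty ∧ (∀ ψ ∈ Y, ψ ∈ principalBlock M G) ∧ Y.card * e = p - 1 ∧
      Nat.card (principalBlock M G) = Y.card + e ∧
      (∀ ψ ∈ Y, ∀ ψ' ∈ Y, ∀ g : G, ¬ p ∣ orderOf g → (ψ : G → ℂ) g = (ψ' : G → ℂ) g) ∧
      ∃ δ : IrrCharacter G → ℤ, (∀ χ ∈ principalBlock M G, χ ∉ Y → (δ χ = 1 ∨ δ χ = -1) ∧
        (charDegree (χ : G → ℂ) : ℤ) ≡ δ χ [ZMOD p] ∧ ∀ j : ℕ, ¬ j ≡ 0 [MOD p] → ∀ c : D.C, ¬ p ∣ orderOf c →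
          (χ : G → ℂ) (D.x ^ j * c) = δ χ) ∧
      ∃ ε : ℤ, (ε = 1 ∨ ε = -1) ∧ (∀ ψ ∈ Y, (charDegree (ψ : G → ℂ) : ℤ) ≡ ε * e [ZMOD p]) ∧
        ∀ ψ ∈ Y, ∀ g : G, ¬ p ∣ orderOf g →
          (ε : ℂ) * (ψ : G → ℂ) g = ∑ χ ∈ (Finset.univ.filter (fun χ : IrrCharacter G => χ ∈ principalBlock M G ∧ χ ∉ Y) : Finset (IrrCharacter G)),
            (δ χ : ℂ) * (χ : G → ℂ) g := by
  haveI : Fact p.Prime := ⟨D.prime⟩
  have hp := isPrime_of_modular hM
  let o : IrrCharacter G := ⟨fun _ => 1, isIrrCharacter_one (G := G)⟩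
  have hoB : IsPBlock M (principalBlock M G) := ⟨o, rfl⟩
  have ho : o ∈ principalBlock M G := mem_blockOf_self hp o
  have hd : ¬ p ∣ charDegree (o : G → ℂ) := by
    have : charDegree (o : G → ℂ) = 1 := by
      unfold charDegree
      change ⌊((1 : ℂ)).re⌋₊ = 1
      simp
    rw [this]
    intro h1
    exact D.prime.one_lt.ne' (Nat.dvd_one.1 h1)
  have hPD := defect_zpowers hM D.h hoB ho hd D.hx
  have hT : ∀ g : G, g ∈ D.N ↔ g ∈ D.N ∧ ∀ c c' : D.C, (c' : G) = g * c * g⁻¹ → (D.th : D.C → ℂ) c' = (D.th : D.C → ℂ) c :=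
    fun g => ⟨fun hg => ⟨hg, fun c c' _ => by rw [h1, h1]⟩, fun hg => hg.1⟩
  have hOrb : D.Orb.card = 1 := by
    have h2 := D.card_Orb hT
    have h3 : 0 < Nat.card D.N := Nat.card_pos
    exact Nat.eq_of_mul_eq_mul_right h3 (by rw [h2, one_mul])
  have hdth : charDegree (D.th : D.C → ℂ) = 1 := by
    unfold charDegree
    rw [h1]; simp
  obtain ⟨Y, hYn, hYB, hYc, hBc, hYreg, hX, ε, hε, hYd, hrel⟩ := D.main hM hPD hb hθ hT he
  have h10 : ¬ 1 ≡ 0 [MOD p] := by
    rw [Nat.modEq_zero_iff_dvd]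
    intro h; exact D.prime.one_lt.ne' (Nat.dvd_one.1 h)
  refine ⟨Y, hYn, hYB, hYc, hBc, hYreg, fun χ => - D.aZ 1 χ, ?_, ε, hε, ?_, ?_⟩
  · intro χ hχ hχY
    obtain ⟨e1, δ, hδ, e2, e3⟩ := hX χ hχ hχY
    have e4 := e2 1 h10
    simp only
    rw [e4]
    refine ⟨by rcases hδ with rfl | rfl <;> simp, ?_, ?_⟩
    · rw [hOrb, hdth] at e3
      simpa using e3
    · intro j hj c hc
      obtain ⟨u, hu⟩ := exists_uv hj
      have e5 : (tw D.h u χ : G → ℂ) = χ := by
        have : tw D.h u χ ∈ cls D.h χ := mem_cls.2 ⟨u, rfl⟩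
        rw [e1, Finset.mem_singleton] at this
        rw [this]
      have e6 : (χ : G → ℂ) (D.x ^ j * c) = (χ : G → ℂ) (D.x * c) := by
        conv_rhs => rw [← e5]
        rw [tw_apply]
        congr 1
        have hcm : Commute D.x (c : G) := (Subgroup.mem_centralizer_singleton_iff.1 c.2 : (c : G) * D.x = D.x * c).symm
        have hcy : (c : G) ^ kk D.h u = c := D.pow_kk_reg u (y := (c : G)) (by rwa [Subgroup.orderOf_coe])
        have hxy : D.x ^ j = D.x ^ kk D.h u := D.x_pow_congr (hu.symm.trans (kk_p D.h u).symm)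
        rw [hcm.mul_pow, hcy, hxy]
      rw [e6, D.x_expand χ hc]
      have hcan : D.Can (D.th : D.C → ℂ) := D.can_th
      rw [Finset.sum_eq_single_of_mem D.th (Finset.mem_filter.2 ⟨Finset.mem_univ _, hcan⟩)]
      · have e7 : (p * classInner (reg p (fun c : D.C => (χ : G → ℂ) (D.x * c))) (D.th : D.C → ℂ)) = D.dd (χ : G → ℂ) := rfl
        rw [e7, D.dd_eq, h1, mul_one]
        have hgeo : ∑ i ∈ Finset.range p, D.z ^ i = 0 := D.z_prim.geom_sum_eq_zero D.prime.one_lt
        have e8 : ∀ i ∈ Finset.range p, D.z ^ i * (D.aZ i χ : ℂ) = D.z ^ i * (δ : ℂ) - (if i = 0 then (δ : ℂ) else 0) := by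
          intro i hi
          by_cases hi0 : i = 0
          · rw [if_pos hi0, hi0, D.aZ_zero]; simp
          · rw [if_neg hi0, sub_zero, e2]
            rw [Nat.modEq_zero_iff_dvd]
            intro h
            exact absurd (Nat.le_of_dvd (Nat.pos_of_ne_zero hi0) h) (not_le.2 (Finset.mem_range.1 hi))
        rw [Finset.sum_congr rfl e8, Finset.sum_sub_distrib, ← Finset.sum_mul, hgeo, zero_mul, zero_sub,
          Finset.sum_ite_eq' (Finset.range p) 0, if_pos (Finset.mem_range.2 D.prime.pos)]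
        push_cast; rfl
      · intro ψ hψ hne
        have hψc : D.Can (ψ : D.C → ℂ) := (Finset.mem_filter.1 hψ).2
        letI : Fintype (D.setTh ψ hψc).C := inferInstanceAs (Fintype D.C)
        have hnot : ¬ IsInducedBlock M D.C (blockOf M (ψ : D.C → ℂ)) (principalBlock M G) := by
          intro hind
          have e9 : blockOf M (ψ : D.C → ℂ) = principalBlock M D.C :=
            (CfsgLib.BlockH.third_main hM D.C _ ⟨_, hind⟩).1 hind
          apply hne
          apply D.can_unique hM hψc hcan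
          have e10 : D.th ∈ blockOf M (ψ : D.C → ℂ) := by rw [e9]; exact hθ
          exact e10
        have hnot' : ¬ IsInducedBlock M D.C (blockOf M (ψ : D.C → ℂ)) (blockOf M (χ : G → ℂ)) := by
          rw [← block_eq_blockOf hp hoB hχ]; exact hnot
        have h8 : (D.setTh ψ hψc).dd (χ : G → ℂ) = 0 :=
          (D.setTh ψ hψc).dd_zero_of_not hM (b := blockOf M (ψ : D.C → ℂ)) ⟨ψ, rfl⟩ (mem_blockOf_self hp ψ) hnot'
        have h9 : (p * classInner (reg p (fun c : D.C => (χ : G → ℂ) (D.x * c))) (ψ : D.C → ℂ)) = (D.setTh ψ hψc).dd (χ : G → ℂ) := rfl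
        rw [h9, h8, zero_mul]
  · intro ψ hψ
    have := hYd ψ hψ
    rw [hOrb, hdth] at this
    simpa using this
  · intro ψ hψ g hg
    have h2 := hrel ψ hψ g hg
    have h3 := eq_neg_of_add_eq_zero_right h2
    rw [h3, ← Finset.sum_neg_distrib]
    refine Finset.sum_congr rfl fun χ _ => ?_
    push_cast; ring

end Dat

end CfsgLib.Once19
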