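import Cfsg.Statements.S4441
import Cfsg.Agent.LibOnceJ19

set_option autoImplicit false
open Cfsg

namespace Cfsg.Agent.S4441


/-- Let p be an odd prime and G a finite group whose Sylow p-subgroup P has order p; let C = C_G(P), N = N_G(P), e the index of C in N and t = (p − 1)/e; fix a maximal ideal M of the algebraic integers containing p and let B₀ be the principal block. Then B₀ is the disjoint union of a set X of e characters and a set Y of t characters such that: each χ ∈ X has a sign ε_χ with χ(1) ≡ ε_χ (mod p) and χ(x y) = ε_χ for every non-identity x ∈ P and every p-regular y ∈ C; all members of Y agree on the p-regular elements of G; there is one sign ε with θ(1) ≡ ε e (mod p) for every θ ∈ Y; and for every θ ∈ Y and every p-regular g, ε θ(g) = Σ_{χ ∈ X} ε_χ χ(g). -/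
theorem result {G : Type*} [Group G] [Fintype G] (p : ℕ) [Fact p.Prime] (M : Ideal Cfsg.AlgInt) (hM : Cfsg.IsPModular p M) (hodd : p ≠ 2) (P : Sylow p G) (hP : Nat.card P = p) (e : ℕ) (he : (Subgroup.centralizer ((P : Subgroup G) : Set G)).relIndex (Subgroup.normalizer ((P : Subgroup G) : Set G)) = e) : ∃ X Y : Set (Cfsg.IrrCharacter G), Cfsg.principalBlock M G = X ∪ Y ∧ Disjoint X Y ∧ Nat.card X = e ∧ Nat.card Y = (p - 1) / e ∧ ∃ (εX : Cfsg.IrrCharacter G → ℤ) (ε : ℤ), (∀ χ ∈ X, (εX χ = 1 ∨ εX χ = -1) ∧ (Cfsg.charDegree (χ : G → ℂ) : ℤ) ≡ εX χ [ZMOD p] ∧ ∀ x : G, x ∈ (P : Subgroup G) → x ≠ 1 → ∀ y : G, y ∈ Subgroup.centralizer ((P : Subgroup G) : Set G) → ¬ p ∣ orderOf y → (χ : G → ℂ) (x * y) = (εX χ : ℂ)) ∧ (ε = 1 ∨ ε = -1) ∧ (∀ θ ∈ Y, (Cfsg.charDegree (θ : G → ℂ) : ℤ) ≡ ε * (e : ℤ) [ZMOD p]) ∧ (∀ θ ∈ Y, ∀ θ' ∈ Y, ∀ g : G, ¬ p ∣ orderOf g → (θ : G → ℂ) g = (θ' : G → ℂ) g) ∧ ∀ θ ∈ Y, ∀ g : G, ¬ p ∣ orderOf g → (ε : ℂ) * (θ : G → ℂ)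 g = ∑ᶠ χ ∈ X, (εX χ : ℂ) * (χ : G → ℂ) g := by
  classical
  have h := CfsgLib.Once19.once_of_sylow P hP
  obtain ⟨x, hx, h1, h2⟩ := CfsgLib.Once19.sylow_gen P hP
  obtain ⟨D, hDx, hth, hb, hθ⟩ := CfsgLib.Once19.exists_principal hM h hx
  letI : Fintype D.C := Fintype.ofFinite _
  have hC : Subgroup.centralizer ((P : Subgroup G) : Set G) = D.C := by rw [h2, ← hDx]
  have hN : Subgroup.normalizer ((P : Subgroup G) : Set G) = D.N := by
    rw [h1, ← hDx]
  rw [hC, hN] at he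
  obtain ⟨Y, hYn, hYB, hYc, hBc, hYreg, δ, hδ, ε, hε, hYd, hrel⟩ := D.principal hM hth hb hθ he
  have he0 : 0 < e := by
    rw [Nat.pos_iff_ne_zero]; rintro rfl
    rw [mul_zero] at hYc
    have := D.prime.two_le
    omega
  have hYq : Y.card = (p - 1) / e := by
    rw [← hYc]; exact (Nat.mul_div_cancel _ he0).symm
  have hcardY : Nat.card ((Y : Finset _) : Set (IrrCharacter G)) = Y.card := by
    rw [Nat.card_eq_fintype_card]; simp
  have hcardX : Nat.card (principalBlock M G \ (Y : Set (IrrCharacter G)) : Set (IrrCharacter G)) = e := by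
    have h1 : (principalBlock M G \ (Y : Set (IrrCharacter G))).ncard + (Y : Set (IrrCharacter G)).ncard = (principalBlock M G).ncard :=
      Set.ncard_diff_add_ncard_of_subset hYB
    rw [Nat.card_coe_set_eq] at hBc hcardY ⊢
    omega
  refine ⟨principalBlock M G \ (Y : Set (IrrCharacter G)), (Y : Set (IrrCharacter G)), ?_, Set.disjoint_sdiff_left, hcardX,
    by rw [hcardY, hYq], δ, ε, ?_, hε, hYd, hYreg, ?_⟩
  · ext χ
    rw [Set.mem_union, Set.mem_diff, Finset.mem_coe]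
    constructor
    · intro hχ
      by_cases h1 : χ ∈ Y
      · exact Or.inr h1
      · exact Or.inl ⟨hχ, h1⟩
    · rintro (h1 | h1)
      · exact h1.1
      · exact hYB χ h1
  · intro χ hχ
    obtain ⟨a1, a2, a3⟩ := hδ χ hχ.1 hχ.2
    refine ⟨a1, a2, ?_⟩
    intro y hy hy1 c hc hcr
    rw [h1, ← hDx] at hy
    obtain ⟨j, hj⟩ : ∃ j : ℕ, D.x ^ j = y := by
      have := (isOfFinOrder_of_finite D.x).mem_powers_iff_mem_zpowers.2 hy
      exact this
    rw [hC] at hc
    have hj0 : ¬ j ≡ 0 [MOD p] := by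
      intro h5
      apply hy1
      rw [← hj, D.x_pow_congr h5, pow_zero]
    rw [← hj]
    exact a3 j hj0 ⟨c, hc⟩ (by rwa [← Subgroup.orderOf_coe])
  · intro θ hθ g hg
    rw [hrel θ hθ g hg]
    have hset : (principalBlock M G \ (Y : Set (IrrCharacter G))) =
        ((Finset.univ.filter (fun χ : IrrCharacter G => χ ∈ principalBlock M G ∧ χ ∉ Y) : Finset _) : Set (IrrCharacter G)) := by
      ext χ; simp
    rw [hset, finsum_mem_coe_finset]

end Cfsg.Agent.S4441
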