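import Mathlib
import Cfsg.Agent.EqBase
import Cfsg.Agent.LibBR11a
import Cfsg.Agent.LibBR11b
import Cfsg.Agent.LibBlockSec2
import Cfsg.Agent.LibBlockOrth
import Cfsg.Agent.LibDi11b
import Cfsg.Agent.S4441

/-! Groups with a Sylow subgroup of order `p`: sums over the Sylow subgroup (seat helper11). -/

set_option autoImplicit false
set_option linter.all false

namespace CfsgLib.BR11

open Subgroup Cfsg CfsgLib.CharBasic
open scoped ComplexConjugate

universe u

section
variable {G : Type u} [Group G] [Fintype G] {p : ℕ} [hp : Fact p.Prime]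

open Classical in
/-- sum over the nonidentity elements of a subgroup -/
noncomputable def SP (P : Subgroup G) (χ : G → ℂ) : ℂ := ∑ x ∈ Finset.univ.filter (fun x : G => x ∈ P ∧ x ≠ 1), χ x

theorem ord_of_mem {P : Subgroup G} (hP : Nat.card P = p) {x : G} (hx : x ∈ P) (h1 : x ≠ 1) : orderOf x = p := by
  have h2 : orderOf x ∣ p := by
    rw [← hP]
    have := orderOf_dvd_natCard (⟨x, hx⟩ : P)
    rwa [← Subgroup.orderOf_coe] at this
  rcases (Nat.dvd_prime hp.out).1 h2 with h3 | h3
  · exact absurd (orderOf_eq_one_iff.1 h3) h1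
  · exact h3

theorem zpowers_eq {P : Subgroup G} (hP : Nat.card P = p) {x : G} (hx : x ∈ P) (h1 : x ≠ 1) : zpowers x = P := by
  apply Subgroup.eq_of_le_of_card_ge
  · rwa [zpowers_le]
  · rw [Nat.card_zpowers, ord_of_mem hP hx h1, hP]

theorem sylow_card (P Q : Sylow p G) (hP : Nat.card P = p) : Nat.card Q = p := (Nat.card_congr (P.equiv Q).toEquiv).symm.trans hP

theorem SP_conj {F : G → ℂ} (hF : IsClassFunction G F) (P Q : Sylow p G) : SP (Q : Subgroup G) F = SP (P : Subgroup G) F := by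
  classical
  obtain ⟨g, hg⟩ := MulAction.exists_smul_eq G P Q
  unfold SP
  symm
  apply Finset.sum_bij (fun x _ => g * x * g⁻¹)
  · intro x hx
    rw [Finset.mem_filter] at hx ⊢
    refine ⟨Finset.mem_univ _, ?_, ?_⟩
    · have h1 : g * x * g⁻¹ ∈ (g • P : Sylow p G) := by
        rw [← SetLike.mem_coe, Sylow.coe_smul]
        exact ⟨x, hx.2.1, rfl⟩
      rw [hg] at h1; exact h1
    · intro h0
      apply hx.2.2
      calc x = g⁻¹ * (g * x * g⁻¹) * g := by group
        _ = 1 := by rw [h0]; group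
  · intro a _ b _ h
    simpa using h
  · intro y hy
    rw [Finset.mem_filter] at hy
    refine ⟨g⁻¹ * y * g, ?_, by group⟩
    rw [Finset.mem_filter]
    refine ⟨Finset.mem_univ _, ?_, ?_⟩
    · have h1 : y ∈ (g • P : Sylow p G) := by rw [hg]; exact hy.2.1
      rw [← SetLike.mem_coe, Sylow.coe_smul] at h1
      obtain ⟨z, hz, rfl⟩ := h1
      have e : g⁻¹ * (MulAut.conj g • z) * g = z := by
        show g⁻¹ * (g * z * g⁻¹) * g = z
        group
      rw [e]; exact hz
    · intro h0
      apply hy.2.2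
      calc y = g * (g⁻¹ * y * g) * g⁻¹ := by group
        _ = 1 := by rw [h0]; group
  · intro x _
    exact (hF x g).symm

open Classical in
theorem sum_ord_p {F : G → ℂ} (hF : IsClassFunction G F) (P : Sylow p G) (hP : Nat.card P = p) :
    ∑ g : G, (if orderOf g = p then (1 : ℂ) else 0) * F g = Nat.card (Sylow p G) * SP (P : Subgroup G) F := by
  letI : Fintype (Sylow p G) := Fintype.ofFinite _
  have h1 : ∑ Q : Sylow p G, SP (Q : Subgroup G) F = Nat.card (Sylow p G) * SP (P : Subgroup G) F := by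
    rw [Finset.sum_congr rfl fun Q _ => SP_conj hF P Q, Finset.sum_const, Finset.card_univ, nsmul_eq_mul, ← Nat.card_eq_fintype_card]
  rw [← h1]
  unfold SP
  rw [Finset.sum_congr rfl fun (Q : Sylow p G) _ => Finset.sum_filter (fun x : G => x ∈ (Q : Subgroup G) ∧ x ≠ 1) F, Finset.sum_comm]
  apply Finset.sum_congr rfl
  intro x _
  by_cases hx : orderOf x = p
  · rw [if_pos hx, one_mul]
    have hx1 : x ≠ 1 := by rintro rfl; rw [orderOf_one] at hx; exact hp.out.one_lt.ne hx
    have hc : Nat.card (zpowers x) = p := by rw [Nat.card_zpowers, hx]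
    obtain ⟨Q, hQ⟩ := (IsPGroup.of_card (p := p) (n := 1) (G := zpowers x) (by rw [hc, pow_one])).exists_le_sylow
    have hxQ : x ∈ (Q : Subgroup G) := hQ (mem_zpowers x)
    rw [Finset.sum_eq_single Q]
    · rw [if_pos ⟨hxQ, hx1⟩]
    · intro Q' _ hne
      rw [if_neg]
      rintro ⟨h2, -⟩
      apply hne
      apply Sylow.ext
      rw [← zpowers_eq (sylow_card P Q' hP) h2 hx1, ← zpowers_eq (sylow_card P Q hP) hxQ hx1]
    · intro h; exact absurd (Finset.mem_univ _) h
  · rw [if_neg hx, zero_mul]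
    symm
    apply Finset.sum_eq_zero
    intro Q _
    rw [if_neg]
    rintro ⟨h2, h3⟩
    exact hx (ord_of_mem (sylow_card P Q hP) h2 h3)

/-- the divisibility coming from the sum of all elements of order `p` -/
theorem dvd_of_SP (P : Sylow p G) (hP : Nat.card P = p) (χ : IrrCharacter G) {d : ℕ} {s : ℤ} (hd : (χ : G → ℂ) 1 = d)
    (hs : SP (P : Subgroup G) (χ : G → ℂ) = s) : (d : ℤ) ∣ Nat.card (Sylow p G) * s := by
  classical
  letI : Fintype (ConjClasses G) := Fintype.ofFinite _
  have hcl : IsClassFunction G (fun g : G => if orderOf g = p then (1 : ℂ) else 0) := by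
    intro g c
    show (if orderOf (c * g * c⁻¹) = p then (1 : ℂ) else 0) = if orderOf g = p then 1 else 0
    rw [CfsgLib.TransFus.orderOf_conj]
  have h1 := CfsgLib.BlockOrth.omg_eq_sum_classes hcl χ
  have h2 : IsIntegral ℤ (CfsgLib.BlockCore.omg (χ : G → ℂ) (fun g : G => if orderOf g = p then (1 : ℂ) else 0)) := by
    rw [h1]
    apply IsIntegral.sum
    intro C _
    apply IsIntegral.mul
    · split_ifs
      · exact isIntegral_one
      · exact isIntegral_zero
    · exact CfsgLib.CharInt.centralChar_isIntegral χ.2 _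
  unfold CfsgLib.BlockCore.omg at h2
  have h3 := sum_ord_p (irr_classFun χ.2) P hP
  have h4 : (∑ x : G, (fun g : G => if orderOf g = p then (1 : ℂ) else 0) x * (χ : G → ℂ) x) = Nat.card (Sylow p G) * s := by
    rw [← hs, ← h3]
  rw [h4, hd] at h2
  have hd0 : (d : ℤ) ≠ 0 := by
    intro h0
    apply irr_one_ne_zero χ.2
    rw [hd]; exact_mod_cast h0
  have h5 : ((Nat.card (Sylow p G) : ℂ) * s / d) = (((Nat.card (Sylow p G) * s : ℤ) : ℚ) / ((d : ℤ) : ℚ) : ℚ) := by push_cast; ring
  rw [h5] at h2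
  have h6 : IsIntegral ℤ ((((Nat.card (Sylow p G) * s : ℤ) : ℚ) / ((d : ℤ) : ℚ) : ℚ)) := by
    have := (isIntegral_algebraMap_iff (algebraMap ℚ ℂ).injective (R := ℤ) (x := ((((Nat.card (Sylow p G) * s : ℤ) : ℚ) / ((d : ℤ) : ℚ) : ℚ)))).1
    exact this h2
  obtain ⟨c, hc⟩ := IsIntegrallyClosed.isIntegral_iff.1 h6
  refine ⟨c, ?_⟩
  have hd0' : ((d : ℤ) : ℚ) ≠ 0 := by exact_mod_cast hd0
  have h7 : (c : ℚ) * ((d : ℤ) : ℚ) = ((Nat.card (Sylow p G) * s : ℤ) : ℚ) := by
    rw [eq_div_iff hd0'] at hc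
    exact hc
  have h8 : (c * d : ℤ) = Nat.card (Sylow p G) * s := by exact_mod_cast h7
  rw [← h8]; ring

theorem norm_iff {P : Subgroup G} (hP : Nat.card P = p) {x : G} (hx : x ∈ P) (h1 : x ≠ 1) (g : G) :
    g * x * g⁻¹ ∈ P ↔ g ∈ normalizer (P : Set G) := by
  constructor
  · intro h
    have hz := zpowers_eq hP hx h1
    have h2 : ∀ y ∈ P, g * y * g⁻¹ ∈ P := by
      intro y hy
      rw [← hz] at hy
      obtain ⟨k, rfl⟩ := mem_zpowers_iff.1 hy
      rw [← conj_zpow]; exact P.zpow_mem h k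
    obtain ⟨f, hf⟩ : ∃ f : P → P, ∀ w, (f w : G) = g * w * g⁻¹ := ⟨fun w => ⟨_, h2 w w.2⟩, fun _ => rfl⟩
    have hinj : Function.Injective f := by
      intro a b hab
      have h3 : g * (a : G) * g⁻¹ = g * b * g⁻¹ := by rw [← hf, ← hf, hab]
      exact Subtype.ext (by simpa using h3)
    rw [mem_normalizer_iff]
    intro w
    refine ⟨h2 w, fun hw => ?_⟩
    obtain ⟨a, ha⟩ := Finite.surjective_of_injective hinj ⟨_, hw⟩
    have h3 : g * (a : G) * g⁻¹ = g * w * g⁻¹ := by rw [← hf, ha]
    have h4 : (a : G) = w := by simpa using h3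
    rw [← h4]; exact a.2
  · intro h
    exact (mem_normalizer_iff.1 h x).1 hx

theorem cent_eq {P : Subgroup G} (hP : Nat.card P = p) {x : G} (hx : x ∈ P) (h1 : x ≠ 1) :
    centralizer ({x} : Set G) = centralizer (P : Set G) := by
  apply le_antisymm
  · intro g hg
    rw [mem_centralizer_iff]
    intro y hy
    have hz := zpowers_eq hP hx h1
    rw [← hz] at hy
    obtain ⟨k, rfl⟩ := mem_zpowers_iff.1 hy
    have h2 : Commute x g := (mem_centralizer_singleton_iff.1 hg).symm
    exact h2.zpow_left k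
  · intro g hg
    rw [mem_centralizer_singleton_iff]
    exact ((mem_centralizer_iff.1 hg) x hx).symm

/-- the number of conjugates of `x` in `P` -/
theorem card_conj {P : Subgroup G} (hP : Nat.card P = p) {e : ℕ}
    (he : (centralizer (P : Set G)).relIndex (normalizer (P : Set G)) = e) {x : G} (hx : x ∈ P) (h1 : x ≠ 1) :
    Nat.card {s : G // IsConj x s ∧ s ∈ P} = e := by
  have h2 := CfsgLib.Di11.card_fib x (fun y => y ∈ P)
  have h3 : Nat.card {g : G // (fun y => y ∈ P) (g * x * g⁻¹)} = Nat.card (normalizer (P : Set G)) :=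
    Nat.card_congr (Equiv.subtypeEquivRight fun g => norm_iff hP hx h1 g)
  rw [h3, cent_eq hP hx h1] at h2
  have h4 : Nat.card (centralizer (P : Set G)) * (centralizer (P : Set G)).relIndex (normalizer (P : Set G)) = Nat.card (normalizer (P : Set G)) := by
    have h5 := ((centralizer (P : Set G)).subgroupOf (normalizer (P : Set G))).card_mul_index
    have hle : centralizer (P : Set G) ≤ normalizer (P : Set G) := by
      intro g hg
      rw [← norm_iff hP hx h1]
      have h6 : x * g = g * x := (mem_centralizer_iff.1 hg) x hx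
      rw [← h6, mul_inv_cancel_right]; exact hx
    rwa [Nat.card_congr (Subgroup.subgroupOfEquivOfLe hle).toEquiv] at h5
  rw [he] at h4
  have h5 : Nat.card (centralizer (P : Set G)) * Nat.card {s : G // IsConj x s ∧ s ∈ P} = Nat.card (centralizer (P : Set G)) * e := by
    rw [h4, h2]
  exact Nat.eq_of_mul_eq_mul_left Nat.card_pos h5

theorem card_P1 {P : Subgroup G} [DecidableEq G] [DecidablePred (fun x : G => x ∈ P ∧ x ≠ 1)] (hP : Nat.card P = p) :
    (Finset.univ.filter (fun x : G => x ∈ P ∧ x ≠ 1)).card = p - 1 := by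
  classical
  have h1 : (Finset.univ.filter (fun x : G => x ∈ P ∧ x ≠ 1)) = (Finset.univ.filter (fun x : G => x ∈ P)).erase 1 := by
    ext x
    simp only [Finset.mem_filter, Finset.mem_univ, true_and, Finset.mem_erase]
    tauto
  rw [h1, Finset.card_erase_of_mem (by rw [Finset.mem_filter]; exact ⟨Finset.mem_univ _, P.one_mem⟩)]
  congr 1
  rw [← hP, Nat.card_eq_fintype_card, ← Fintype.card_subtype]

theorem e_dvd {P : Subgroup G} (hP : Nat.card P = p) {e : ℕ}
    (he : (centralizer (P : Set G)).relIndex (normalizer (P : Set G)) = e) : e ∣ p - 1 := by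
  classical
  rw [← card_P1 (G := G) hP, Finset.card_eq_sum_card_image (fun x : G => ConjClasses.mk x)]
  apply Finset.dvd_sum
  intro c hc
  rw [Finset.mem_image] at hc
  obtain ⟨x, hx, rfl⟩ := hc
  rw [Finset.mem_filter] at hx
  rw [← card_conj hP he hx.2.1 hx.2.2, Nat.card_eq_fintype_card, Fintype.card_subtype]
  apply dvd_of_eq
  congr 1
  ext y
  simp only [Finset.mem_filter, Finset.mem_univ, true_and]
  rw [ConjClasses.mk_eq_mk_iff_isConj]
  constructor
  · rintro ⟨h1, h2⟩
    refine ⟨⟨h2, ?_⟩, h1.symm⟩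
    rintro rfl
    rw [isConj_one_left] at h1
    exact hx.2.2 h1
  · rintro ⟨⟨h1, -⟩, h2⟩
    exact ⟨h2.symm, h1⟩

end
end CfsgLib.BR11
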