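import Mathlib
import Cfsg.Agent.EqBase
import Cfsg.Agent.LibBR11c
import Cfsg.Agent.LibTransPC

/-! Groups with a Sylow subgroup of order `p`: the principal block (seat helper11). -/

set_option autoImplicit false
set_option linter.all false

namespace CfsgLib.BR11

open Subgroup Cfsg CfsgLib.CharBasic
open scoped ComplexConjugate

universe u

/-- a group with a central Sylow subgroup is `p`-nilpotent -/
theorem npc_index {H : Type u} [Group H] [Finite H] {p : ℕ} [hp : Fact p.Prime] {Q : Subgroup H} (hQ : IsPGroup p Q) (hi : ¬ p ∣ Q.index)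
    (hc : ∀ q ∈ Q, ∀ h : H, h * q = q * h) : ∃ k : ℕ, (pPrimeCore p H).index = p ^ k := by
  have hP : normalizer (((hQ.toSylow hi : Sylow p H) : Subgroup H) : Set H) ≤ centralizer (((hQ.toSylow hi : Sylow p H) : Subgroup H) : Set H) := by
    rw [IsPGroup.toSylow_coe]
    intro g hg
    rw [mem_centralizer_iff]
    intro v hv
    exact (hc v hv g).symm
  have hnpc : Cfsg.HasNormalPComplement p H := ⟨hQ.toSylow hi, (MonoidHom.transferSylow (hQ.toSylow hi) hP).ker, inferInstance,
    MonoidHom.ker_transferSylow_isComplement' _ hP⟩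
  obtain ⟨K, hK, hKo, k, hk⟩ := (CfsgLib.TransPC.hasNPC_iff p).1 hnpc
  have h1 : K ≤ pPrimeCore p H := CfsgLib.Cores.le_pPrimeCore hK ((Nat.Prime.coprime_iff_not_dvd hp.out).2 hKo).symm
  have h2 := Subgroup.index_dvd_of_le h1
  rw [hk] at h2
  obtain ⟨j, -, hj⟩ := (Nat.dvd_prime_pow hp.out).1 h2
  exact ⟨j, hj⟩

section
variable {G : Type u} [Group G] [Fintype G] {p : ℕ} [hp : Fact p.Prime]

theorem P_le_C {P : Subgroup G} (hP : Nat.card P = p) : P ≤ centralizer (P : Set G) := by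
  intro g hg
  rw [mem_centralizer_iff]
  intro y hy
  by_cases h1 : g = 1
  · rw [h1, mul_one, one_mul]
  · have hz := zpowers_eq hP hg h1
    have hy' : y ∈ P := hy
    rw [← hz] at hy'
    obtain ⟨k, rfl⟩ := mem_zpowers_iff.1 hy'
    exact ((Commute.refl g).zpow_left k).eq

theorem core_index (P : Sylow p G) (hP : Nat.card P = p) {x : G} (hx : x ∈ (P : Subgroup G)) (h1 : x ≠ 1) :
    ∃ k : ℕ, (pPrimeCore p (centralizer ({x} : Set G))).index = p ^ k := by
  have hC := cent_eq hP hx h1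
  have hle : (P : Subgroup G) ≤ centralizer ({x} : Set G) := by rw [hC]; exact P_le_C hP
  have hPc : IsPGroup p ((P : Subgroup G).subgroupOf (centralizer ({x} : Set G))) := by
    apply IsPGroup.of_card (n := 1)
    rw [Nat.card_congr (Subgroup.subgroupOfEquivOfLe hle).toEquiv, pow_one]; exact hP
  apply npc_index hPc
  · intro h2
    apply P.not_dvd_index
    rw [← Subgroup.relIndex_mul_index hle]
    exact Dvd.dvd.mul_right h2 _
  · intro q hq c
    apply Subtype.ext
    have h3 : (c : G) ∈ centralizer ((P : Subgroup G) : Set G) := hC ▸ c.2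
    exact ((mem_centralizer_iff.1 h3) q hq).symm

theorem card_C_fact (P : Sylow p G) (hP : Nat.card P = p) {x : G} (hx : x ∈ (P : Subgroup G)) (h1 : x ≠ 1) :
    (Nat.card (centralizer ({x} : Set G))).factorization p = 1 := by
  have hC := cent_eq hP hx h1
  have hle : (P : Subgroup G) ≤ centralizer ({x} : Set G) := by rw [hC]; exact P_le_C hP
  have h2 := ((P : Subgroup G).subgroupOf (centralizer ({x} : Set G))).card_mul_index
  rw [Nat.card_congr (Subgroup.subgroupOfEquivOfLe hle).toEquiv] at h2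
  have hP' : Nat.card (P : Subgroup G) = p := hP
  rw [hP'] at h2
  have h3 : ¬ p ∣ ((P : Subgroup G).subgroupOf (centralizer ({x} : Set G))).index := by
    intro h3
    apply P.not_dvd_index
    rw [← Subgroup.relIndex_mul_index hle]
    exact Dvd.dvd.mul_right h3 _
  have h4 : ((P : Subgroup G).subgroupOf (centralizer ({x} : Set G))).index ≠ 0 := fun h0 => h3 (by rw [h0]; exact dvd_zero _)
  rw [← h2, Nat.factorization_mul hp.out.ne_zero h4, Finsupp.add_apply, Nat.factorization_eq_zero_of_not_dvd h3, hp.out.factorization,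
    Finsupp.single_eq_same]

/-- `Σ |χ(x)|² = p` over the principal block -/
theorem block_norm {M : Ideal AlgInt} (hM : IsPModular p M) (P : Sylow p G) (hP : Nat.card P = p) {x : G} (hx : x ∈ (P : Subgroup G)) (h1 : x ≠ 1) :
    ∑ᶠ χ ∈ principalBlock M G, ‖(χ : G → ℂ) x‖ ^ 2 = p := by
  letI : Fintype (centralizer ({x} : Set G)) := Fintype.ofFinite _
  have h2 := CfsgLib.BlockSec2.principal_sum hM (z := x) ⟨1, by rw [pow_one]; exact ord_of_mem hP hx h1⟩
    (y := (1 : centralizer ({x} : Set G))) (by rw [orderOf_one]; exact hp.out.one_lt.ne' ∘ Nat.dvd_one.1)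
  have h3 := CfsgLib.BlockSec2.principal_sum_nilpotent (H := centralizer ({x} : Set G)) hM (y := 1) (core_index P hP hx h1)
    (by rw [orderOf_one]; exact hp.out.one_lt.ne' ∘ Nat.dvd_one.1)
  rw [h3, card_C_fact P hP hx h1, pow_one] at h2
  have h4 : ∀ χ : IrrCharacter G, (χ : G → ℂ) (x * ((1 : centralizer ({x} : Set G)) : G)) = (χ : G → ℂ) x := by
    intro χ; rw [OneMemClass.coe_one, mul_one]
  simp only [h4] at h2
  exact h2

/-- block constancy -/
theorem block_const {M : Ideal AlgInt} (hM : IsPModular p M) (P : Sylow p G) (hP : Nat.card P = p) {x : G} (hx : x ∈ (P : Subgroup G)) (h1 : x ≠ 1)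
    {χ : IrrCharacter G} (hχ : χ ∈ principalBlock M G) {y : G} (hy : y ∈ centralizer ((P : Subgroup G) : Set G)) (hyr : ¬ p ∣ orderOf y) :
    (χ : G → ℂ) (x * y) = (χ : G → ℂ) x := by
  letI : Fintype (centralizer ({x} : Set G)) := Fintype.ofFinite _
  letI : Fintype (pPrimeCore p (centralizer ({x} : Set G))) := Fintype.ofFinite _
  have hy' : y ∈ centralizer ({x} : Set G) := by rw [cent_eq hP hx h1]; exact hy
  have h2 : (⟨y, hy'⟩ : centralizer ({x} : Set G)) ∈ pPrimeCore p (centralizer ({x} : Set G)) :=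
    CfsgLib.BlockCov2.mem_of_reg_of_pindex (pPrimeCore p (centralizer ({x} : Set G))) (core_index P hP hx h1)
      (g := (⟨y, hy'⟩ : centralizer ({x} : Set G))) (by rw [Subgroup.orderOf_mk]; exact hyr)
  exact CfsgLib.BlockSec2.principal_const hM (u := x) ⟨1, by rw [pow_one]; exact ord_of_mem hP hx h1⟩ h2 hχ

open Classical in
/-- the principal block as a finset -/
noncomputable def B0 (M : Ideal AlgInt) (G : Type u) [Group G] [Fintype G] : Finset (IrrCharacter G) := (Set.toFinite (principalBlock M G)).toFinset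

theorem mem_B0 {M : Ideal AlgInt} {χ : IrrCharacter G} : χ ∈ B0 M G ↔ χ ∈ principalBlock M G := by
  unfold B0; rw [Set.Finite.mem_toFinset]

theorem sum_B0 {M : Ideal AlgInt} {R : Type*} [AddCommMonoid R] (f : IrrCharacter G → R) : ∑ᶠ χ ∈ principalBlock M G, f χ = ∑ χ ∈ B0 M G, f χ := by
  unfold B0
  rw [finsum_mem_eq_finite_toFinset_sum]

theorem gram {M : Ideal AlgInt} (hM : IsPModular p M) (P : Sylow p G) (hP : Nat.card P = p) {x y : G} (hx : x ∈ (P : Subgroup G)) (h1 : x ≠ 1)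
    (hy : y ∈ (P : Subgroup G)) (h2 : y ≠ 1) [Decidable (IsConj x y)] :
    ∑ χ ∈ B0 M G, (χ : G → ℂ) x * conj ((χ : G → ℂ) y) = if IsConj x y then (p : ℂ) else 0 := by
  split_ifs with h
  · have h3 : ∀ χ : IrrCharacter G, (χ : G → ℂ) x * conj ((χ : G → ℂ) y) = ((‖(χ : G → ℂ) x‖ ^ 2 : ℝ) : ℂ) := by
      intro χ
      obtain ⟨c, rfl⟩ := isConj_iff.1 h
      rw [irr_classFun χ.2 x c, Complex.mul_conj, Complex.normSq_eq_norm_sq]
    rw [Finset.sum_congr rfl fun χ _ => h3 χ, ← Complex.ofReal_sum, ← sum_B0, block_norm hM P hP hx h1]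
    simp
  · rw [← sum_B0]
    have hB : IsPBlock M (principalBlock M G) := ⟨⟨_, isIrrCharacter_one⟩, rfl⟩
    exact CfsgLib.BlockOrth.block_orth_conj hM hB (CfsgLib.BlockOrth.isPPart_self ⟨1, by rw [pow_one]; exact ord_of_mem hP hx h1⟩)
      (CfsgLib.BlockOrth.isPPart_self ⟨1, by rw [pow_one]; exact ord_of_mem hP hy h2⟩) h

theorem sum_SP {M : Ideal AlgInt} (hM : IsPModular p M) (P : Sylow p G) (hP : Nat.card P = p) {e : ℕ}
    (he : (centralizer ((P : Subgroup G) : Set G)).relIndex (normalizer ((P : Subgroup G) : Set G)) = e) :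
    ∑ χ ∈ B0 M G, SP (P : Subgroup G) (χ : G → ℂ) * conj (SP (P : Subgroup G) (χ : G → ℂ)) = p * (p - 1 : ℕ) * e := by
  classical
  have h1 : ∀ χ : IrrCharacter G, SP (P : Subgroup G) (χ : G → ℂ) * conj (SP (P : Subgroup G) (χ : G → ℂ)) =
      ∑ x ∈ Finset.univ.filter (fun x : G => x ∈ (P : Subgroup G) ∧ x ≠ 1), ∑ y ∈ Finset.univ.filter (fun x : G => x ∈ (P : Subgroup G) ∧ x ≠ 1),
        (χ : G → ℂ) x * conj ((χ : G → ℂ) y) := by
    intro χ
    unfold SP
    rw [map_sum, Finset.sum_mul_sum]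
  rw [Finset.sum_congr rfl fun χ _ => h1 χ, Finset.sum_comm]
  have h2 : ∀ x ∈ Finset.univ.filter (fun x : G => x ∈ (P : Subgroup G) ∧ x ≠ 1), ∑ χ ∈ B0 M G,
      ∑ y ∈ Finset.univ.filter (fun x : G => x ∈ (P : Subgroup G) ∧ x ≠ 1), (χ : G → ℂ) x * conj ((χ : G → ℂ) y) = p * e := by
    intro x hx
    rw [Finset.mem_filter] at hx
    rw [Finset.sum_comm]
    have h3 : ∀ y ∈ Finset.univ.filter (fun x : G => x ∈ (P : Subgroup G) ∧ x ≠ 1), ∑ χ ∈ B0 M G, (χ : G → ℂ) x * conj ((χ : G → ℂ) y) =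
        if IsConj x y then (p : ℂ) else 0 := by
      intro y hy
      rw [Finset.mem_filter] at hy
      exact gram hM P hP hx.2.1 hx.2.2 hy.2.1 hy.2.2
    rw [Finset.sum_congr rfl h3, ← Finset.sum_filter, Finset.sum_const, nsmul_eq_mul, Finset.filter_filter]
    have h4 : (Finset.univ.filter (fun y : G => (y ∈ (P : Subgroup G) ∧ y ≠ 1) ∧ IsConj x y)).card = e := by
      rw [← card_conj (P := (P : Subgroup G)) hP he hx.2.1 hx.2.2, Nat.card_eq_fintype_card, Fintype.card_subtype]
      congr 1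
      ext y
      simp only [Finset.mem_filter, Finset.mem_univ, true_and]
      constructor
      · rintro ⟨⟨h5, h6⟩, h7⟩; exact ⟨h7, h5⟩
      · rintro ⟨h5, h6⟩
        refine ⟨⟨h6, ?_⟩, h5⟩
        rintro rfl
        rw [isConj_one_left] at h5
        exact hx.2.2 h5
    rw [h4]; ring
  rw [Finset.sum_congr rfl h2, Finset.sum_const, nsmul_eq_mul, card_P1 (G := G) (P := (P : Subgroup G)) hP]
  ring

end
end CfsgLib.BR11
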