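import Mathlib
import Cfsg.Agent.EqBase
import Cfsg.Agent.LibBR11d

/-! Groups with a Sylow subgroup of order `p`: degrees in the principal block (seat helper11). -/

set_option autoImplicit false
set_option linter.all false

namespace CfsgLib.BR11

open Subgroup Cfsg CfsgLib.CharBasic
open scoped ComplexConjugate

universe u

/-- the principal character -/
noncomputable def tr (G : Type u) [Group G] [Fintype G] : IrrCharacter G := ⟨fun _ => 1, isIrrCharacter_one⟩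

/-- structure of the principal block -/
structure Blk {G : Type u} [Group G] [Fintype G] (p : ℕ) (P : Subgroup G) (N e t : ℕ) (X Y : Finset (IrrCharacter G)) (εX : IrrCharacter G → ℤ) (ε : ℤ) : Prop where
  disj : Disjoint X Y
  cX : X.card = e
  cY : Y.card = t
  et : e * t = p - 1
  one : tr G ∈ X ∨ tr G ∈ Y
  sgn : ∀ χ ∈ X, εX χ = 1 ∨ εX χ = -1
  valX : ∀ χ ∈ X, ∀ x ∈ P, x ≠ 1 → (χ : G → ℂ) x = (εX χ : ℂ)
  degX : ∀ χ ∈ X, ∃ d : ℕ, (χ : G → ℂ) 1 = d ∧ (d : ℤ) ≡ εX χ [ZMOD p] ∧ d ∣ N * (p - 1)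
  sgnY : ε = 1 ∨ ε = -1
  degY : ∃ d : ℕ, (∀ χ ∈ Y, (χ : G → ℂ) 1 = d) ∧ (d : ℤ) ≡ ε * e [ZMOD p] ∧ d ∣ N * e
  SY : ∀ χ ∈ Y, SP P (χ : G → ℂ) = -((ε * e : ℤ) : ℂ)
  reg : ∀ χ ∈ Y, ∀ χ' ∈ Y, ∀ g : G, ¬ p ∣ orderOf g → (χ : G → ℂ) g = (χ' : G → ℂ) g
  rel : ∀ θ ∈ Y, ∀ g : G, ¬ p ∣ orderOf g → (ε : ℂ) * (θ : G → ℂ) g = ∑ χ ∈ X, (εX χ : ℂ) * (χ : G → ℂ) g
  const : ∀ χ, χ ∈ X ∨ χ ∈ Y → ∀ x ∈ P, x ≠ 1 → ∀ y ∈ centralizer (P : Set G), ¬ p ∣ orderOf y → (χ : G → ℂ) (x * y) = (χ : G → ℂ) x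
  sumY : ∀ x ∈ P, x ≠ 1 → ∑ θ ∈ Y, (θ : G → ℂ) x = -(ε : ℂ)
  norm : ∀ x ∈ P, x ≠ 1 → ∑ χ ∈ X, ‖(χ : G → ℂ) x‖ ^ 2 + ∑ χ ∈ Y, ‖(χ : G → ℂ) x‖ ^ 2 = p

section
variable {G : Type u} [Group G] [Fintype G] {p : ℕ} [hp : Fact p.Prime]

theorem conj_int (z : ℤ) : conj (z : ℂ) = z := map_intCast _ z

theorem SP_const (P : Subgroup G) (hP : Nat.card P = p) {χ : G → ℂ} {c : ℂ} (h : ∀ x ∈ P, x ≠ 1 → χ x = c) : SP P χ = (p - 1 : ℕ) * c := by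
  classical
  unfold SP
  rw [Finset.sum_congr rfl fun x hx => h x (Finset.mem_filter.1 hx).2.1 (Finset.mem_filter.1 hx).2.2, Finset.sum_const, nsmul_eq_mul]
  congr 2
  exact card_P1 (G := G) hP

theorem SP_real (P : Subgroup G) {χ : G → ℂ} (hχ : IsCharacter G χ) : conj (SP P χ) = SP P χ := by
  classical
  unfold SP
  rw [map_sum]
  apply Finset.sum_bij (fun x _ => x⁻¹)
  · intro x hx
    rw [Finset.mem_filter] at hx ⊢
    exact ⟨Finset.mem_univ _, P.inv_mem hx.2.1, inv_ne_one.2 hx.2.2⟩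
  · intro a _ b _ h; exact inv_injective h
  · intro y hy
    rw [Finset.mem_filter] at hy
    exact ⟨y⁻¹, by rw [Finset.mem_filter]; exact ⟨Finset.mem_univ _, P.inv_mem hy.2.1, inv_ne_one.2 hy.2.2⟩, inv_inv y⟩
  · intro x _
    rw [char_inv_eq_conj hχ]

theorem exists_blk (hodd : p ≠ 2) (P : Sylow p G) (hP : Nat.card P = p) {e : ℕ}
    (he : (centralizer ((P : Subgroup G) : Set G)).relIndex (normalizer ((P : Subgroup G) : Set G)) = e) (he0 : 0 < e) :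
    ∃ (t : ℕ) (X Y : Finset (IrrCharacter G)) (εX : IrrCharacter G → ℤ) (ε : ℤ), Blk p (P : Subgroup G) (Nat.card (Sylow p G)) e t X Y εX ε := by
  classical
  obtain ⟨M, hM⟩ := CfsgLib.BlockReg2.exists_modular p hp.out
  obtain ⟨X, Y, hXY, hdis, hcX, hcY, εX, ε, hX, hε, hYd, hYr, hrel⟩ := Cfsg.Agent.S4441.result p M hM hodd P hP e he
  obtain ⟨Xf, hXf⟩ : ∃ Xf : Finset (IrrCharacter G), ∀ χ, χ ∈ Xf ↔ χ ∈ X := ⟨(Set.toFinite X).toFinset, fun χ => Set.Finite.mem_toFinset _⟩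
  obtain ⟨Yf, hYf⟩ : ∃ Yf : Finset (IrrCharacter G), ∀ χ, χ ∈ Yf ↔ χ ∈ Y := ⟨(Set.toFinite Y).toFinset, fun χ => Set.Finite.mem_toFinset _⟩
  have hXs : X = (Xf : Set (IrrCharacter G)) := by ext χ; rw [Finset.mem_coe, hXf]
  have hYs : Y = (Yf : Set (IrrCharacter G)) := by ext χ; rw [Finset.mem_coe, hYf]
  have hcXf : Xf.card = e := by
    rw [← hcX, hXs, Nat.card_coe_set_eq, Set.ncard_coe_finset]
  obtain ⟨t, ht⟩ := e_dvd (P := (P : Subgroup G)) hP he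
  have hcYf : Yf.card = t := by
    rw [hYs, Nat.card_coe_set_eq, Set.ncard_coe_finset, ht, Nat.mul_div_cancel_left _ he0] at hcY
    exact hcY
  have hd : Disjoint Xf Yf := by
    rw [Finset.disjoint_left]
    intro χ h1 h2
    exact (Set.disjoint_left.1 hdis) ((hXf χ).1 h1) ((hYf χ).1 h2)
  have hmem : ∀ χ : IrrCharacter G, χ ∈ principalBlock M G ↔ χ ∈ Xf ∨ χ ∈ Yf := by
    intro χ; rw [hXY, Set.mem_union, hXf, hYf]
  have hsum : ∀ {R : Type} [AddCommMonoid R] (f : IrrCharacter G → R), ∑ χ ∈ B0 M G, f χ = ∑ χ ∈ Xf, f χ + ∑ χ ∈ Yf, f χ := by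
    intro R _ f
    rw [← Finset.sum_union hd]
    apply Finset.sum_congr _ (fun _ _ => rfl)
    ext χ
    rw [mem_B0, hmem, Finset.mem_union]
  have hvalX : ∀ χ ∈ Xf, ∀ x ∈ (P : Subgroup G), x ≠ 1 → (χ : G → ℂ) x = (εX χ : ℂ) := by
    intro χ hχ x hx h1
    have := (hX χ ((hXf χ).1 hχ)).2.2 x hx h1 1 (one_mem _) (by rw [orderOf_one]; exact hp.out.one_lt.ne' ∘ Nat.dvd_one.1)
    rwa [mul_one] at this
  have hsgn : ∀ χ ∈ Xf, εX χ = 1 ∨ εX χ = -1 := fun χ hχ => (hX χ ((hXf χ).1 hχ)).1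
  have hSX : ∀ χ ∈ Xf, SP (P : Subgroup G) (χ : G → ℂ) = (p - 1 : ℕ) * (εX χ : ℂ) := fun χ hχ => SP_const _ hP (hvalX χ hχ)
  have hp1 : 1 ≤ p := hp.out.one_lt.le
  have ht0 : 0 < t := by
    rcases Nat.eq_zero_or_pos t with h | h
    · rw [h, mul_zero] at ht
      have := hp.out.two_le
      omega
    · exact h
  -- degrees
  have hnat : ∀ χ : IrrCharacter G, (χ : G → ℂ) 1 = (charDegree (χ : G → ℂ) : ℂ) := by
    intro χ
    exact CfsgLib.CharInt.irr_one_eq_charDegree χ.2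
  -- the relation at 1
  have hone : ¬ p ∣ orderOf (1 : G) := by rw [orderOf_one]; exact hp.out.one_lt.ne' ∘ Nat.dvd_one.1
  have hrel' : ∀ θ ∈ Yf, ∀ g : G, ¬ p ∣ orderOf g → (ε : ℂ) * (θ : G → ℂ) g = ∑ χ ∈ Xf, (εX χ : ℂ) * (χ : G → ℂ) g := by
    intro θ hθ g hg
    rw [hrel θ ((hYf θ).1 hθ) g hg, hXs, finsum_mem_coe_finset]
  obtain ⟨θ0, hθ0⟩ : Yf.Nonempty := by rw [← Finset.card_pos, hcYf]; exact ht0
  have hεsq : (ε : ℂ) * ε = 1 := by rcases hε with rfl | rfl <;> norm_num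
  -- sums over Y
  have hsumY : ∀ x ∈ (P : Subgroup G), x ≠ 1 → ∑ θ ∈ Yf, (θ : G → ℂ) x = -(ε : ℂ) := by
    intro x hx h1
    have hB : IsPBlock M (principalBlock M G) := ⟨⟨_, isIrrCharacter_one⟩, rfl⟩
    have h2 := CfsgLib.BlockOrth.weak_block_orth hM hB (x := 1) (y := x) hone (by rw [ord_of_mem hP hx h1])
    rw [sum_B0, hsum] at h2
    have h3 : ∀ χ ∈ Xf, (χ : G → ℂ) 1 * conj ((χ : G → ℂ) x) = (εX χ : ℂ) * (χ : G → ℂ) 1 := by
      intro χ hχ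
      rw [hvalX χ hχ x hx h1, conj_int, mul_comm]
    have h4 : ∀ θ ∈ Yf, (θ : G → ℂ) 1 * conj ((θ : G → ℂ) x) = (θ0 : G → ℂ) 1 * conj ((θ : G → ℂ) x) := by
      intro θ hθ
      rw [hYr θ ((hYf θ).1 hθ) θ0 ((hYf θ0).1 hθ0) 1 hone]
    rw [Finset.sum_congr rfl h3, Finset.sum_congr rfl h4, ← hrel' θ0 hθ0 1 hone, ← Finset.mul_sum, ← map_sum] at h2
    have h5 := irr_one_ne_zero θ0.2
    have h6 : (ε : ℂ) + conj (∑ θ ∈ Yf, (θ : G → ℂ) x) = 0 := by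
      apply mul_left_cancel₀ h5
      rw [mul_zero, ← h2]; ring
    have h7 : conj (∑ θ ∈ Yf, (θ : G → ℂ) x) = -(ε : ℂ) := by linear_combination h6
    have h8 := congrArg conj h7
    rw [Complex.conj_conj, map_neg, conj_int] at h8
    exact h8
  have hsumSY : ∑ θ ∈ Yf, SP (P : Subgroup G) (θ : G → ℂ) = (p - 1 : ℕ) * (-(ε : ℂ)) := by
    have h1 : ∑ θ ∈ Yf, SP (P : Subgroup G) (θ : G → ℂ) = SP (P : Subgroup G) (fun x => ∑ θ ∈ Yf, (θ : G → ℂ) x) := by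
      unfold SP; rw [Finset.sum_comm]
    rw [h1]
    exact SP_const _ hP hsumY
  have hsq : ∑ θ ∈ Yf, SP (P : Subgroup G) (θ : G → ℂ) * conj (SP (P : Subgroup G) (θ : G → ℂ)) = (p - 1 : ℕ) * e := by
    have h1 := sum_SP hM P hP he
    rw [hsum] at h1
    have h2 : ∀ χ ∈ Xf, SP (P : Subgroup G) (χ : G → ℂ) * conj (SP (P : Subgroup G) (χ : G → ℂ)) = ((p - 1 : ℕ) : ℂ) ^ 2 := by
      intro χ hχ
      rw [hSX χ hχ, map_mul, Complex.conj_natCast, conj_int]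
      rcases hsgn χ hχ with h | h <;> rw [h] <;> push_cast <;> ring
    rw [Finset.sum_congr rfl h2, Finset.sum_const, hcXf, nsmul_eq_mul] at h1
    have h3 : ((p - 1 : ℕ) : ℂ) = (p : ℂ) - 1 := by push_cast [hp1]; ring
    rw [h3] at h1 ⊢
    linear_combination h1
  have het : ((p - 1 : ℕ) : ℂ) = e * t := by rw [ht]; push_cast; ring
  have hSY : ∀ θ ∈ Yf, SP (P : Subgroup G) (θ : G → ℂ) = -((ε * e : ℤ) : ℂ) := by
    have h1 : ∑ θ ∈ Yf, (SP (P : Subgroup G) (θ : G → ℂ) + ((ε * e : ℤ) : ℂ)) * conj (SP (P : Subgroup G) (θ : G → ℂ) + ((ε * e : ℤ) : ℂ)) = 0 := by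
      have h2 : ∀ θ ∈ Yf, (SP (P : Subgroup G) (θ : G → ℂ) + ((ε * e : ℤ) : ℂ)) * conj (SP (P : Subgroup G) (θ : G → ℂ) + ((ε * e : ℤ) : ℂ)) =
          SP (P : Subgroup G) (θ : G → ℂ) * conj (SP (P : Subgroup G) (θ : G → ℂ)) + 2 * ((ε * e : ℤ) : ℂ) * SP (P : Subgroup G) (θ : G → ℂ) +
            ((ε * e : ℤ) : ℂ) * ((ε * e : ℤ) : ℂ) := by
        intro θ _
        rw [map_add, conj_int, SP_real _ (irr_isCharacter θ.2)]
        ring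
      rw [Finset.sum_congr rfl h2, Finset.sum_add_distrib, Finset.sum_add_distrib, hsq, ← Finset.mul_sum, hsumSY, Finset.sum_const, hcYf, nsmul_eq_mul, het]
      push_cast
      linear_combination (-(2 * (e : ℂ) ^ 2 * t) + (e : ℂ) ^ 2 * t) * hεsq
    have h3 : ∀ z : ℂ, z * conj z = ((‖z‖ ^ 2 : ℝ) : ℂ) := fun z => by rw [Complex.mul_conj, Complex.normSq_eq_norm_sq]
    rw [Finset.sum_congr rfl fun θ _ => h3 _, ← Complex.ofReal_sum] at h1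
    have h4 : ∑ θ ∈ Yf, ‖SP (P : Subgroup G) (θ : G → ℂ) + ((ε * e : ℤ) : ℂ)‖ ^ 2 = 0 := by exact_mod_cast h1
    rw [Finset.sum_eq_zero_iff_of_nonneg (fun _ _ => sq_nonneg _)] at h4
    intro θ hθ
    have h5 := h4 θ hθ
    have h6 : ‖SP (P : Subgroup G) (θ : G → ℂ) + ((ε * e : ℤ) : ℂ)‖ = 0 := by
      rwa [sq_eq_zero_iff] at h5
    rw [norm_eq_zero] at h6
    linear_combination h6
  refine ⟨t, Xf, Yf, εX, ε, hd, hcXf, hcYf, ht.symm, ?_, hsgn, hvalX, ?_, hε, ?_, hSY, ?_, hrel', ?_, hsumY, ?_⟩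
  · rw [← hmem]
    intro g
    show MemLocalIdeal M (centralChar (fun _ : G => (1:ℂ)) g - centralChar (fun _ : G => (1:ℂ)) g)
    rw [sub_self]
    exact CfsgLib.BlockR.ideal_zero hM.2.1.isPrime
  · intro χ hχ
    refine ⟨charDegree (χ : G → ℂ), hnat χ, (hX χ ((hXf χ).1 hχ)).2.1, ?_⟩
    have h1 := dvd_of_SP P hP χ (hnat χ) (s := (p - 1 : ℕ) * εX χ) (by rw [hSX χ hχ]; push_cast; ring)
    rcases hsgn χ hχ with h | h
    · rw [h, mul_one] at h1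
      exact_mod_cast h1
    · rw [h] at h1
      have h2 : ((charDegree (χ : G → ℂ) : ℕ) : ℤ) ∣ ((Nat.card (Sylow p G) * (p - 1 : ℕ) : ℕ) : ℤ) := by
        have e : ((Nat.card (Sylow p G) * (p - 1 : ℕ) : ℕ) : ℤ) = -((Nat.card (Sylow p G) : ℤ) * ((p - 1 : ℕ) * (-1))) := by push_cast; ring
        rw [e, dvd_neg]; exact h1
      exact_mod_cast h2
  · refine ⟨charDegree (θ0 : G → ℂ), ?_, hYd θ0 ((hYf θ0).1 hθ0), ?_⟩
    · intro χ hχ
      rw [hYr χ ((hYf χ).1 hχ) θ0 ((hYf θ0).1 hθ0) 1 hone, hnat]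
    · have h1 := dvd_of_SP P hP θ0 (hnat θ0) (s := -(ε * e)) (by rw [hSY θ0 hθ0]; push_cast; ring)
      rcases hε with h | h
      · rw [h] at h1
        have h2 : ((charDegree (θ0 : G → ℂ) : ℕ) : ℤ) ∣ ((Nat.card (Sylow p G) * e : ℕ) : ℤ) := by
          have e' : ((Nat.card (Sylow p G) * e : ℕ) : ℤ) = -((Nat.card (Sylow p G) : ℤ) * (-(1 * e))) := by push_cast; ring
          rw [e', dvd_neg]; exact h1
        exact_mod_cast h2
      · rw [h] at h1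
        have h2 : ((charDegree (θ0 : G → ℂ) : ℕ) : ℤ) ∣ ((Nat.card (Sylow p G) * e : ℕ) : ℤ) := by
          have e' : ((Nat.card (Sylow p G) * e : ℕ) : ℤ) = ((Nat.card (Sylow p G) : ℤ) * (-(-1 * e))) := by push_cast; ring
          rw [e']; exact h1
        exact_mod_cast h2
  · intro χ hχ χ' hχ' g hg
    exact hYr χ ((hYf χ).1 hχ) χ' ((hYf χ').1 hχ') g hg
  · intro χ hχ x hx h1 y hy hyr
    exact block_const hM P hP hx h1 ((hmem χ).2 hχ) hy hyr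
  · intro x hx h1
    rw [← hsum, ← sum_B0]
    exact block_norm hM P hP hx h1

end
end CfsgLib.BR11
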