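import Mathlib
import Cfsg.Agent.EqBase
import Cfsg.Agent.LibBR11e

/-! Groups with a Sylow subgroup of order `p`: the possible degrees (seat helper11). -/

set_option autoImplicit false
set_option linter.all false

namespace CfsgLib.BR11

open Subgroup Cfsg CfsgLib.CharBasic
open scoped ComplexConjugate

universe u

theorem num1 {p n e t a b c d : ℕ} (hn : 1 ≤ n) (ht : 2 ≤ t) (hp : e * t + 1 = p) (he : 1 ≤ e) (hc : 1 + a + b + c = e)
    (h : d + b * (p - 1) + c * ((p - 1) * (1 + n * p)) = 1 + a * (1 + n * p))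
    (hd : t * d = p - 1 ∨ t * d = (p - 1) * (1 + n * p)) : c = 0 ∧ d = e ∧ a * (n + 1) + 1 = e ∧ b = a * n := by
  subst hp
  rw [Nat.add_sub_cancel] at h hd
  obtain ⟨f, rfl⟩ : ∃ f, t = f + 2 := ⟨t - 2, by omega⟩
  obtain ⟨m, rfl⟩ : ∃ m, n = m + 1 := ⟨n - 1, by omega⟩
  set K := 1 + (m + 1) * (e * (f + 2) + 1) with hK
  have hK1 : 1 < K := by
    have : 0 < (m + 1) * (e * (f + 2) + 1) := by positivity
    omega
  have hc0 : c = 0 := by
    by_contra hne
    obtain ⟨c', rfl⟩ : ∃ c', c = c' + 1 := ⟨c - 1, by omega⟩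
    have h1 : a + 2 ≤ e := by omega
    have h2 : a * K + 2 * K ≤ e * K := by nlinarith
    have h3 : e * K ≤ e * (f + 2) * K := by nlinarith [Nat.zero_le (e * f * K), Nat.zero_le (e * K)]
    nlinarith [Nat.zero_le (c' * (e * (f + 2) * K)), Nat.zero_le (b * (e * (f + 2)))]
  subst hc0
  rw [zero_mul, add_zero] at h
  rw [add_zero] at hc
  have hd' : d = e := by
    rcases hd with hd | hd
    · apply Nat.eq_of_mul_eq_mul_left (show 0 < f + 2 by omega)
      rw [hd, mul_comm]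
    · exfalso
      have h1 : d = e * K := by
        apply Nat.eq_of_mul_eq_mul_left (show 0 < f + 2 by omega)
        rw [hd]; ring
      have h2 : a + 1 ≤ e := by omega
      have h3 : a * K + K ≤ e * K := by nlinarith
      rw [h1] at h
      nlinarith [Nat.zero_le (b * (e * (f + 2)))]
  subst hd'
  refine ⟨rfl, rfl, ?_⟩
  subst hc
  rw [hK] at h
  have h1 : (a : ℤ) * (m + 1 + 1) + 1 = 1 + a + b := by
    have h2 : ((1 + a + b) * (f + 2) + 1 : ℤ) ≠ 0 := by positivity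
    apply mul_left_cancel₀ h2
    have h' : ((1 + a + b + b * ((1 + a + b) * (f + 2)) : ℕ) : ℤ) = ((1 + a * (1 + (m + 1) * ((1 + a + b) * (f + 2) + 1)) : ℕ) : ℤ) := by rw [h]
    push_cast at h'
    linear_combination -h'
  have h3 : a * (m + 1 + 1) + 1 = 1 + a + b := by exact_mod_cast h1
  refine ⟨h3, ?_⟩
  nlinarith

theorem num2 {p n e t a b c d : ℕ} (hn : 1 ≤ n) (ht : 2 ≤ t) (hp : e * t + 1 = p) (he : 1 ≤ e) (hc : 1 + a + b + c = e)
    (h : d + (1 + a * (1 + n * p)) = b * (p - 1) + c * ((p - 1) * (1 + n * p)))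
    (hd : t * d = 1 + n * p) : c = 0 ∧ (a * t + 1) * (n + 1) + t = t * e ∧ b + a + 1 = e := by
  subst hp
  rw [Nat.add_sub_cancel] at h
  have hc0 : c = 0 := by
    by_contra hne
    obtain ⟨c', rfl⟩ : ∃ c', c = c' + 1 := ⟨c - 1, by omega⟩
    obtain ⟨f, rfl⟩ : ∃ f, t = f + 2 := ⟨t - 2, by omega⟩
    set K := 1 + n * (e * (f + 2) + 1) with hK
    have hK1 : 1 < K := by
      have : 0 < n * (e * (f + 2) + 1) := Nat.mul_pos (by omega) (by omega)
      omega
    have h1 : a + 2 ≤ e := by omega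
    have h2 : a * K + 2 * K ≤ e * K := by nlinarith
    have h3 : e * K + e * K ≤ e * (f + 2) * K := by nlinarith [Nat.zero_le (e * f * K), Nat.zero_le (e * K)]
    have h4 : 2 * d ≤ K := by rw [← hd]; nlinarith [Nat.zero_le (f * d)]
    nlinarith [Nat.zero_le (c' * (e * (f + 2) * K)), Nat.zero_le (b * (e * (f + 2)))]
  subst hc0
  rw [zero_mul, add_zero] at h
  rw [add_zero] at hc
  refine ⟨rfl, ?_, by omega⟩
  subst hc
  have h1 : ((a * t + 1) * (n + 1) + t : ℤ) = t * (1 + a + b) := by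
    have h2 : ((1 + a + b) * t + 1 : ℤ) ≠ 0 := by positivity
    apply mul_left_cancel₀ h2
    have h' : ((d + (1 + a * (1 + n * ((1 + a + b) * t + 1))) : ℕ) : ℤ) = ((b * ((1 + a + b) * t) : ℕ) : ℤ) := by rw [h]
    have hd' : ((t * d : ℕ) : ℤ) = ((1 + n * ((1 + a + b) * t + 1) : ℕ) : ℤ) := by rw [hd]
    push_cast at h' hd'
    linear_combination (t : ℤ) * h' - hd'
  exact_mod_cast h1

theorem num3 {p n a b c : ℕ} (hn : 1 ≤ n) (hp : 3 ≤ p) (hc : 1 + a + b + c = p)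
    (h : b * (p - 1) + c * ((p - 1) * (1 + n * p)) = 1 + a * (1 + n * p)) : c = 0 ∧ a * (n + 1) + 1 = p - 1 ∧ b = a * n + 1 := by
  obtain ⟨q, rfl⟩ : ∃ q, p = q + 1 := ⟨p - 1, by omega⟩
  rw [Nat.add_sub_cancel] at h ⊢
  have hc0 : c = 0 := by
    by_contra hne
    obtain ⟨c', rfl⟩ : ∃ c', c = c' + 1 := ⟨c - 1, by omega⟩
    set K := 1 + n * (q + 1) with hK
    have hK1 : 1 < K := by
      have : 0 < n * (q + 1) := Nat.mul_pos (by omega) (by omega)
      omega
    have h1 : a + 1 ≤ q := by omega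
    have h2 : a * K + K ≤ q * K := by nlinarith
    nlinarith [Nat.zero_le (c' * (q * K)), Nat.zero_le (b * q)]
  subst hc0
  rw [zero_mul, add_zero] at h
  rw [add_zero] at hc
  have hq : q = a + b := by omega
  subst hq
  have h1 : (a * (n + 1) + 1 : ℤ) = a + b := by
    have h2 : (a + b + 1 : ℤ) ≠ 0 := by positivity
    apply mul_left_cancel₀ h2
    have h' : ((b * (a + b) : ℕ) : ℤ) = ((1 + a * (1 + n * (a + b + 1)) : ℕ) : ℤ) := by rw [h]
    push_cast at h'
    linear_combination -h'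
  have h3 : a * (n + 1) + 1 = a + b := by exact_mod_cast h1
  exact ⟨rfl, h3, by nlinarith⟩

section
variable {G : Type u} [Group G] [Fintype G] {p : ℕ} [hp : Fact p.Prime]

theorem tr_apply (g : G) : ((tr G : IrrCharacter G) : G → ℂ) g = 1 := rfl

theorem eq_tr (hperf : commutator G = ⊤) (χ : IrrCharacter G) (h : (χ : G → ℂ) 1 = 1) : χ = tr G := by
  apply Subtype.ext
  funext g
  have h1 := CfsgLib.CharBasic.linear_mul (irr_isCharacter χ.2) h
  let f : G →* ℂ := { toFun := (χ : G → ℂ), map_one' := h, map_mul' := h1 }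
  have h2 : g ∈ f.toHomUnits.ker := by
    have h3 : commutator G ≤ f.toHomUnits.ker := Abelianization.commutator_subset_ker _
    rw [hperf] at h3
    exact h3 (mem_top g)
  rw [MonoidHom.mem_ker] at h2
  have h3 := congrArg (fun u : ℂˣ => (u : ℂ)) h2
  exact (show (f g : ℂ) = 1 by simpa using h3)

theorem part {Z : Finset (IrrCharacter G)} {s : IrrCharacter G → ℤ} {n : ℕ} (htr : tr G ∈ Z) (hs : s (tr G) = 1)
    (hpat : ∀ χ ∈ Z, (s χ = 1 ∧ (χ = tr G ∨ (χ : G → ℂ) 1 = (1 + n * p : ℕ))) ∨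
      (s χ = -1 ∧ ((χ : G → ℂ) 1 = (p - 1 : ℕ) ∨ (χ : G → ℂ) 1 = ((p - 1) * (1 + n * p) : ℕ)))) :
    ∃ A B C : Finset (IrrCharacter G), Z = insert (tr G) (A ∪ B ∪ C) ∧ tr G ∉ A ∪ B ∪ C ∧ Disjoint A B ∧ Disjoint (A ∪ B) C ∧
      (∀ χ ∈ A, s χ = 1 ∧ (χ : G → ℂ) 1 = (1 + n * p : ℕ)) ∧ (∀ χ ∈ B, s χ = -1 ∧ (χ : G → ℂ) 1 = (p - 1 : ℕ)) ∧
      (∀ χ ∈ C, s χ = -1 ∧ (χ : G → ℂ) 1 = ((p - 1) * (1 + n * p) : ℕ)) := by
  classical
  refine ⟨Z.filter (fun χ => s χ = 1 ∧ χ ≠ tr G), Z.filter (fun χ => s χ = -1 ∧ (χ : G → ℂ) 1 = (p - 1 : ℕ)),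
    Z.filter (fun χ => s χ = -1 ∧ (χ : G → ℂ) 1 ≠ (p - 1 : ℕ)), ?_, ?_, ?_, ?_, ?_, ?_, ?_⟩
  · ext χ
    simp only [Finset.mem_insert, Finset.mem_union, Finset.mem_filter]
    constructor
    · intro h
      by_cases h1 : χ = tr G
      · exact Or.inl h1
      · rcases hpat χ h with ⟨h2, -⟩ | ⟨h2, -⟩
        · exact Or.inr (Or.inl (Or.inl ⟨h, h2, h1⟩))
        · by_cases h3 : (χ : G → ℂ) 1 = (p - 1 : ℕ)
          · exact Or.inr (Or.inl (Or.inr ⟨h, h2, h3⟩))
          · exact Or.inr (Or.inr ⟨h, h2, h3⟩)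
    · rintro (rfl | (⟨h, -⟩ | ⟨h, -⟩) | ⟨h, -⟩)
      exacts [htr, h, h, h]
  · simp only [Finset.mem_union, Finset.mem_filter]
    rintro ((⟨-, -, h⟩ | ⟨-, h, -⟩) | ⟨-, h, -⟩)
    · exact h rfl
    · rw [hs] at h; norm_num at h
    · rw [hs] at h; norm_num at h
  · rw [Finset.disjoint_left]
    intro χ h1 h2
    rw [Finset.mem_filter] at h1 h2
    rw [h1.2.1] at h2; norm_num at h2
  · rw [Finset.disjoint_left]
    intro χ h1 h2
    rw [Finset.mem_union, Finset.mem_filter, Finset.mem_filter] at h1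
    rw [Finset.mem_filter] at h2
    rcases h1 with h1 | h1
    · rw [h1.2.1] at h2; norm_num at h2
    · exact h2.2.2 h1.2.2
  · intro χ h
    rw [Finset.mem_filter] at h
    rcases hpat χ h.1 with ⟨h2, h3⟩ | ⟨h2, -⟩
    · exact ⟨h2, h3.resolve_left h.2.2⟩
    · rw [h2] at h; norm_num at h
  · intro χ h
    rw [Finset.mem_filter] at h
    exact h.2
  · intro χ h
    rw [Finset.mem_filter] at h
    rcases hpat χ h.1 with ⟨h2, h3⟩ | ⟨h2, h3⟩
    · rw [h2] at h; norm_num at h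
    · exact ⟨h2, h3.resolve_left h.2.2⟩

/-- degrees and values in the principal block -/
structure Dat (p : ℕ) (P : Subgroup G) (n e t a b d : ℕ) (A B Y : Finset (IrrCharacter G)) : Prop where
  nZ : tr G ∉ A ∪ B ∪ Y
  dAB : Disjoint A B
  dY : Disjoint (A ∪ B) Y
  cA : A.card = a
  cB : B.card = b
  cY : Y.card = t
  degA : ∀ χ ∈ A, (χ : G → ℂ) 1 = (1 + n * p : ℕ)
  valA : ∀ χ ∈ A, ∀ x ∈ P, x ≠ 1 → (χ : G → ℂ) x = 1
  degB : ∀ χ ∈ B, (χ : G → ℂ) 1 = (p - 1 : ℕ)
  valB : ∀ χ ∈ B, ∀ x ∈ P, x ≠ 1 → (χ : G → ℂ) x = -1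
  degY : ∀ χ ∈ Y, (χ : G → ℂ) 1 = d
  regY : ∀ χ ∈ Y, ∀ χ' ∈ Y, ∀ g : G, ¬ p ∣ orderOf g → (χ : G → ℂ) g = (χ' : G → ℂ) g
  const : ∀ χ ∈ B, ∀ x ∈ P, x ≠ 1 → ∀ y ∈ centralizer (P : Set G), ¬ p ∣ orderOf y → (χ : G → ℂ) (x * y) = (χ : G → ℂ) x
  norm : ∀ x ∈ P, x ≠ 1 → ∑ χ ∈ insert (tr G) (A ∪ B ∪ Y), ‖(χ : G → ℂ) x‖ ^ 2 = p
  et : e * t + 1 = p
  t0 : 0 < t
  e2 : 2 ≤ e
  alt : (d = e ∧ (∀ χ ∈ Y, SP P (χ : G → ℂ) = -(e : ℂ)) ∧ a * (n + 1) + 1 = e ∧ b = a * n) ∨
    (2 ≤ t ∧ t * d = 1 + n * p ∧ (∀ χ ∈ Y, SP P (χ : G → ℂ) = e) ∧ (a * t + 1) * (n + 1) + t = t * e ∧ b + a + 1 = e)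

theorem sum_part {A B C : Finset (IrrCharacter G)} {s : IrrCharacter G → ℤ} {n : ℕ} {x : IrrCharacter G} (hx : x ∉ A ∪ B ∪ C)
    (hs : s x = 1) (hx1 : (x : G → ℂ) 1 = 1) (h1 : Disjoint A B) (h2 : Disjoint (A ∪ B) C)
    (hA : ∀ χ ∈ A, s χ = 1 ∧ (χ : G → ℂ) 1 = (1 + n * p : ℕ)) (hB : ∀ χ ∈ B, s χ = -1 ∧ (χ : G → ℂ) 1 = (p - 1 : ℕ))
    (hC : ∀ χ ∈ C, s χ = -1 ∧ (χ : G → ℂ) 1 = ((p - 1) * (1 + n * p) : ℕ)) :
    ∑ χ ∈ insert x (A ∪ B ∪ C), (s χ : ℂ) * (χ : G → ℂ) 1 = 1 + A.card * (1 + n * p : ℕ) - B.card * (p - 1 : ℕ) - C.card * ((p - 1) * (1 + n * p) : ℕ) ∧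
      (insert x (A ∪ B ∪ C)).card = 1 + A.card + B.card + C.card := by
  classical
  constructor
  · rw [Finset.sum_insert hx, Finset.sum_union h2, Finset.sum_union h1, hs, hx1]
    have e1 : ∀ χ ∈ A, (s χ : ℂ) * (χ : G → ℂ) 1 = ((1 + n * p : ℕ) : ℂ) := by
      intro χ h; rw [(hA χ h).1, (hA χ h).2, Int.cast_one, one_mul]
    have e2 : ∀ χ ∈ B, (s χ : ℂ) * (χ : G → ℂ) 1 = -((p - 1 : ℕ) : ℂ) := by
      intro χ h; rw [(hB χ h).1, (hB χ h).2, Int.cast_neg, Int.cast_one, neg_one_mul]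
    have e3 : ∀ χ ∈ C, (s χ : ℂ) * (χ : G → ℂ) 1 = -(((p - 1) * (1 + n * p) : ℕ) : ℂ) := by
      intro χ h; rw [(hC χ h).1, (hC χ h).2, Int.cast_neg, Int.cast_one, neg_one_mul]
    rw [Finset.sum_congr rfl e1, Finset.sum_congr rfl e2, Finset.sum_congr rfl e3, Finset.sum_const, Finset.sum_const, Finset.sum_const,
      nsmul_eq_mul, nsmul_eq_mul, nsmul_eq_mul, Int.cast_one]
    ring
  · rw [Finset.card_insert_of_notMem hx, Finset.card_union_of_disjoint h2, Finset.card_union_of_disjoint h1]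
    ring

theorem exists_dat (hperf : commutator G = ⊤) {n e t : ℕ} (P : Sylow p G) (hP : Nat.card P = p) (hp3 : 3 ≤ p) (hn : 1 ≤ n) (hF : NoF p n) (he2 : 2 ≤ e)
    {X Y : Finset (IrrCharacter G)} {εX : IrrCharacter G → ℤ} {ε : ℤ} (hB : Blk p (P : Subgroup G) (1 + n * p) e t X Y εX ε) :
    ∃ (a b d : ℕ) (A B Y' : Finset (IrrCharacter G)), Dat p (P : Subgroup G) n e t a b d A B Y' := by
  classical
  obtain ⟨x0, hx0, hx01⟩ : ∃ x ∈ (P : Subgroup G), x ≠ 1 := by
    by_contra hne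
    push Not at hne
    have h1 : (P : Subgroup G) = ⊥ := by rw [eq_bot_iff]; exact fun x hx => hne x hx
    have h2 : Nat.card (P : Subgroup G) = p := hP
    rw [h1, card_bot] at h2; omega
  have ht0 : 0 < t := by
    rcases Nat.eq_zero_or_pos t with h | h
    · have := hB.et; rw [h, mul_zero] at this; omega
    · exact h
  have het : e * t + 1 = p := by have := hB.et; omega
  have hpp := hp.out
  have hstr : tr G ∈ X → εX (tr G) = 1 := by
    intro h
    have := hB.valX (tr G) h x0 hx0 hx01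
    rw [tr_apply] at this
    exact_mod_cast this.symm
  have hpatX : ∀ χ ∈ X, (εX χ = 1 ∧ (χ = tr G ∨ (χ : G → ℂ) 1 = (1 + n * p : ℕ))) ∨
      (εX χ = -1 ∧ ((χ : G → ℂ) 1 = (p - 1 : ℕ) ∨ (χ : G → ℂ) 1 = ((p - 1) * (1 + n * p) : ℕ))) := by
    intro χ hχ
    obtain ⟨D, hD, hDm, hDd⟩ := hB.degX χ hχ
    rcases hB.sgn χ hχ with h | h
    · left
      refine ⟨h, ?_⟩
      rw [h] at hDm
      rcases lemN_pos hp3 hn hF hpp hDd hDm with h1 | h1
      · left; apply eq_tr hperf; rw [hD, h1, Nat.cast_one]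
      · right; rw [hD, h1]
    · right
      refine ⟨h, ?_⟩
      rw [h] at hDm
      rcases lemN_neg hp3 hn hF hpp hDd hDm with h1 | h1
      · left; rw [hD, h1]
      · right; rw [hD, h1]
  obtain ⟨d, hd, hdm, hdd⟩ := hB.degY
  have htd : t * d ∣ (1 + n * p) * (p - 1) := by
    rw [← hB.et, ← mul_assoc, mul_comm]
    exact Nat.mul_dvd_mul hdd (dvd_refl t)
  have htdm : ((t * d : ℕ) : ℤ) ≡ -ε [ZMOD p] := by
    have h1 : ((t * d : ℕ) : ℤ) ≡ t * (ε * e) [ZMOD p] := by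
      push_cast
      exact hdm.mul_left _
    have h2 : (t : ℤ) * (ε * e) ≡ -ε [ZMOD p] := by
      rw [Int.modEq_iff_dvd]
      refine ⟨-ε, ?_⟩
      have : (p : ℤ) = e * t + 1 := by exact_mod_cast het.symm
      rw [this]; ring
    exact h1.trans h2
  have hone : ¬ p ∣ orderOf (1 : G) := by rw [orderOf_one]; exact hp.out.one_lt.ne' ∘ Nat.dvd_one.1
  obtain ⟨θ0, hθ0⟩ : Y.Nonempty := by rw [← Finset.card_pos, hB.cY]; exact ht0
  have hrel1 := hB.rel θ0 hθ0 1 hone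
  by_cases ht : t = 1
  · subst ht
    rw [mul_one] at het
    obtain ⟨θ, hYθ⟩ := Finset.card_eq_one.1 hB.cY
    have hθ : θ ∈ Y := by rw [hYθ]; exact Finset.mem_singleton_self _
    have hθX : θ ∉ X := fun h => (Finset.disjoint_left.1 hB.disj) h hθ
    have hθv : ∀ x ∈ (P : Subgroup G), x ≠ 1 → (θ : G → ℂ) x = ((-ε : ℤ) : ℂ) := by
      intro x hx h1
      have := hB.sumY x hx h1
      rw [hYθ, Finset.sum_singleton] at this
      rw [this]; push_cast; rfl
    set s : IrrCharacter G → ℤ := fun χ => if χ ∈ X then εX χ else -ε with hsdef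
    have hsX : ∀ χ ∈ X, s χ = εX χ := fun χ h => if_pos h
    have hsθ : s θ = -ε := if_neg hθX
    have htrZ : tr G ∈ insert θ X := by
      rw [Finset.mem_insert]
      rcases hB.one with h | h
      · exact Or.inr h
      · left; rw [hYθ, Finset.mem_singleton] at h; exact h
    have hval : ∀ χ ∈ insert θ X, ∀ x ∈ (P : Subgroup G), x ≠ 1 → (χ : G → ℂ) x = (s χ : ℂ) := by
      intro χ hχ x hx h1
      rw [Finset.mem_insert] at hχ
      rcases hχ with rfl | hχ
      · rw [hsθ]; exact hθv x hx h1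
      · rw [hsX χ hχ]; exact hB.valX χ hχ x hx h1
    have hstr' : s (tr G) = 1 := by
      have := hval _ htrZ x0 hx0 hx01
      rw [tr_apply] at this
      exact_mod_cast this.symm
    have hpatZ : ∀ χ ∈ insert θ X, (s χ = 1 ∧ (χ = tr G ∨ (χ : G → ℂ) 1 = (1 + n * p : ℕ))) ∨
      (s χ = -1 ∧ ((χ : G → ℂ) 1 = (p - 1 : ℕ) ∨ (χ : G → ℂ) 1 = ((p - 1) * (1 + n * p) : ℕ))) := by
      intro χ hχ
      rw [Finset.mem_insert] at hχ
      rcases hχ with rfl | hχ
      · rw [hsθ, hd _ hθ]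
        rw [one_mul] at htd htdm
        rcases hB.sgnY with h | h
        · right
          refine ⟨by rw [h], ?_⟩
          rw [h] at htdm
          rcases lemN_neg hp3 hn hF hpp htd htdm with h1 | h1
          · left; rw [h1]
          · right; rw [h1]
        · left
          refine ⟨by rw [h]; norm_num, ?_⟩
          rw [h, neg_neg] at htdm
          rcases lemN_pos hp3 hn hF hpp htd htdm with h1 | h1
          · left; apply eq_tr hperf; rw [hd _ hθ, h1, Nat.cast_one]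
          · right; rw [h1]
      · rw [hsX χ hχ]; exact hpatX χ hχ
    obtain ⟨A, B, C, hZ, hnZ, hAB, hABC, hA, hB', hC⟩ := part (p := p) (n := n) htrZ hstr' hpatZ
    obtain ⟨hs1, hs2⟩ := sum_part (p := p) (s := s) (n := n) (x := tr G) hnZ hstr' (tr_apply 1) hAB hABC hA hB' hC
    rw [← hZ] at hs1 hs2
    rw [Finset.card_insert_of_notMem hθX, hB.cX] at hs2
    have hrelθ := hB.rel θ hθ 1 hone
    rw [Finset.sum_insert hθX, hsθ, Finset.sum_congr rfl fun χ hχ => by rw [hsX χ hχ], ← hrelθ] at hs1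
    obtain ⟨hC0, ha1, hb1⟩ := num3 (p := p) (n := n) (a := A.card) (b := B.card) (c := C.card) hn hp3 (by omega) (by
      have h1 : (B.card * (p - 1 : ℕ) + C.card * ((p - 1) * (1 + n * p) : ℕ) : ℂ) = 1 + A.card * (1 + n * p : ℕ) := by
        push_cast at hs1 ⊢
        linear_combination hs1
      exact_mod_cast h1)
    have hCe : C = ∅ := Finset.card_eq_zero.1 hC0
    rw [hCe, Finset.union_empty] at hZ hnZ
    obtain ⟨θ', hθ'⟩ : B.Nonempty := by rw [← Finset.card_pos]; omega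
    have hAZ : ∀ χ ∈ A, χ ∈ insert θ X := fun χ h => by rw [hZ]; exact Finset.mem_insert_of_mem (Finset.mem_union_left _ h)
    have hBZ : ∀ χ ∈ B, χ ∈ insert θ X := fun χ h => by rw [hZ]; exact Finset.mem_insert_of_mem (Finset.mem_union_right _ h)
    have hun : A ∪ B.erase θ' ∪ {θ'} = A ∪ B := by
      rw [Finset.union_assoc]
      congr 1
      ext χ
      rw [Finset.mem_union, Finset.mem_erase, Finset.mem_singleton]
      constructor
      · rintro (⟨-, h⟩ | rfl)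
        exacts [h, hθ']
      · intro h
        by_cases h1 : χ = θ'
        · exact Or.inr h1
        · exact Or.inl ⟨h1, h⟩
    have hvB : ∀ χ ∈ B, ∀ x ∈ (P : Subgroup G), x ≠ 1 → (χ : G → ℂ) x = -1 := by
      intro χ h x hx h1
      rw [hval χ (hBZ χ h) x hx h1, (hB' χ h).1]; norm_num
    refine ⟨A.card, A.card * n, p - 1, A, B.erase θ', {θ'}, ?_⟩
    refine ⟨?_, ?_, ?_, rfl, ?_, Finset.card_singleton _, fun χ h => (hA χ h).2, ?_, fun χ h => (hB' χ (Finset.mem_of_mem_erase h)).2,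
      fun χ h => hvB χ (Finset.mem_of_mem_erase h), ?_, ?_, ?_, ?_, by omega, one_pos, he2, ?_⟩
    · rw [hun]; exact hnZ
    · exact hAB.mono_right (Finset.erase_subset _ _)
    · rw [Finset.disjoint_singleton_right, Finset.mem_union, Finset.mem_erase]
      rintro (h | ⟨h, -⟩)
      · exact (Finset.disjoint_left.1 hAB) h hθ'
      · exact h rfl
    · rw [Finset.card_erase_of_mem hθ', hb1, Nat.add_sub_cancel]
    · intro χ h x hx h1
      rw [hval χ (hAZ χ h) x hx h1, (hA χ h).1, Int.cast_one]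
    · intro χ h
      rw [Finset.mem_singleton] at h
      rw [h]; exact (hB' θ' hθ').2
    · intro χ h χ' h' g _
      rw [Finset.mem_singleton] at h h'
      rw [h, h']
    · intro χ h x hx h1 y hy hyr
      have h2 := hBZ χ (Finset.mem_of_mem_erase h)
      rw [Finset.mem_insert] at h2
      refine hB.const χ ?_ x hx h1 y hy hyr
      rcases h2 with h2 | h2
      · right; rw [h2]; exact hθ
      · left; exact h2
    · intro x hx h1
      rw [hun, ← hZ, Finset.sum_insert hθX, add_comm]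
      have := hB.norm x hx h1
      rw [hYθ, Finset.sum_singleton] at this
      exact this
    · left
      refine ⟨by omega, ?_, by omega, rfl⟩
      intro χ h
      rw [Finset.mem_singleton] at h
      rw [h, SP_const _ hP (hvB θ' hθ'), mul_neg_one, show p - 1 = e by omega]
  · have ht2 : 2 ≤ t := by omega
    have htrX : tr G ∈ X := by
      rcases hB.one with h | h
      · exact h
      · exfalso
        have h1 : 1 < Y.card := by rw [hB.cY]; omega
        obtain ⟨θ, hθ, hne⟩ := Finset.exists_mem_ne h1 (tr G)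
        apply hne
        apply eq_tr hperf
        rw [hd θ hθ, ← hd (tr G) h, tr_apply]
    obtain ⟨A, B, C, hX, hnX, hAB, hABC, hA, hB', hC⟩ := part (p := p) (n := n) htrX (hstr htrX) hpatX
    obtain ⟨hs1, hs2⟩ := sum_part (p := p) (s := εX) (n := n) (x := tr G) hnX (hstr htrX) (tr_apply 1) hAB hABC hA hB' hC
    rw [← hX] at hs1 hs2
    rw [hs1, hd θ0 hθ0] at hrel1
    rw [hB.cX] at hs2
    have hAX : ∀ χ ∈ A, χ ∈ X := fun χ h => by
      rw [hX]; exact Finset.mem_insert_of_mem (Finset.mem_union_left _ (Finset.mem_union_left _ h))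
    have hBX : ∀ χ ∈ B, χ ∈ X := fun χ h => by
      rw [hX]; exact Finset.mem_insert_of_mem (Finset.mem_union_left _ (Finset.mem_union_right _ h))
    have key : C.card = 0 → ((d = e ∧ (∀ χ ∈ Y, SP (P : Subgroup G) (χ : G → ℂ) = -(e : ℂ)) ∧ A.card * (n + 1) + 1 = e ∧ B.card = A.card * n) ∨
        (2 ≤ t ∧ t * d = 1 + n * p ∧ (∀ χ ∈ Y, SP (P : Subgroup G) (χ : G → ℂ) = e) ∧ (A.card * t + 1) * (n + 1) + t = t * e ∧ B.card + A.card + 1 = e)) →
        ∃ (a b d : ℕ) (A B Y' : Finset (IrrCharacter G)), Dat p (P : Subgroup G) n e t a b d A B Y' := by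
      intro hC0 halt
      have hCe : C = ∅ := Finset.card_eq_zero.1 hC0
      rw [hCe, Finset.union_empty] at hX hnX
      refine ⟨A.card, B.card, d, A, B, Y, ?_⟩
      refine ⟨?_, hAB, ?_, rfl, rfl, hB.cY, fun χ h => (hA χ h).2, ?_, fun χ h => (hB' χ h).2, ?_, hd, hB.reg, ?_, ?_, het, ht0, he2, halt⟩
      · rw [Finset.mem_union]
        rintro (h | h)
        · exact hnX h
        · exact (Finset.disjoint_left.1 hB.disj) htrX h
      · apply Finset.disjoint_of_subset_left _ hB.disj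
        intro χ h
        rw [Finset.mem_union] at h
        exact h.elim (hAX χ) (hBX χ)
      · intro χ h x hx h1
        rw [hB.valX χ (hAX χ h) x hx h1, (hA χ h).1, Int.cast_one]
      · intro χ h x hx h1
        rw [hB.valX χ (hBX χ h) x hx h1, (hB' χ h).1]; norm_num
      · intro χ h x hx h1 y hy hyr
        exact hB.const χ (Or.inl (hBX χ h)) x hx h1 y hy hyr
      · intro x hx h1
        have h2 : insert (tr G) (A ∪ B ∪ Y) = X ∪ Y := by rw [hX, Finset.insert_union]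
        rw [h2, Finset.sum_union hB.disj]
        exact hB.norm x hx h1
    rcases hB.sgnY with h | h
    · rw [h] at htdm hrel1
      have hdd' := lemN_neg hp3 hn hF hpp htd htdm
      obtain ⟨h1, h2, h3, h4⟩ := num1 (p := p) (n := n) (e := e) (t := t) (a := A.card) (b := B.card) (c := C.card) (d := d) hn ht2 het (by omega) (by omega) (by
        have h1 : (d + B.card * (p - 1 : ℕ) + C.card * ((p - 1) * (1 + n * p) : ℕ) : ℂ) = 1 + A.card * (1 + n * p : ℕ) := by
          push_cast at hrel1 ⊢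
          linear_combination hrel1
        exact_mod_cast h1) hdd'
      apply key h1
      left
      refine ⟨h2, ?_, h3, h4⟩
      intro χ hχ
      rw [hB.SY χ hχ, h]; push_cast; ring
    · rw [h] at htdm hrel1
      rw [neg_neg] at htdm
      rcases lemN_pos hp3 hn hF hpp htd htdm with h0 | h0
      · exfalso
        have := Nat.eq_one_of_mul_eq_one_right h0
        omega
      · obtain ⟨h1, h2, h3⟩ := num2 (p := p) (n := n) (e := e) (t := t) (a := A.card) (b := B.card) (c := C.card) (d := d) hn ht2 het (by omega) (by omega) (by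
          have h1 : (d + (1 + A.card * (1 + n * p : ℕ)) : ℂ) = B.card * (p - 1 : ℕ) + C.card * ((p - 1) * (1 + n * p) : ℕ) := by
            push_cast at hrel1 ⊢
            linear_combination -hrel1
          exact_mod_cast h1) h0
        apply key h1
        right
        refine ⟨ht2, h0, ?_, h2, h3⟩
        intro χ hχ
        rw [hB.SY χ hχ, h]; push_cast; ring

end
end CfsgLib.BR11
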