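import Mathlib
import Cfsg.Agent.EqBase
import Cfsg.Agent.LibBR11f

/-! Groups with a Sylow subgroup of order `p`: the normaliser (seat helper11). -/

set_option autoImplicit false
set_option linter.all false

namespace CfsgLib.BR11

open Subgroup Cfsg CfsgLib.CharBasic
open scoped ComplexConjugate

universe u

theorem char_zero {H : Type u} [Group H] [Finite H] {χ : H → ℂ} (h : IsCharacter H χ) (h1 : χ 1 = 0) (g : H) : χ g = 0 := by
  have := char_norm_le h g
  rw [h1, Complex.zero_re] at this
  exact norm_le_zero_iff.1 this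

/-- the function on `E` given by the `P`-fixed points -/
noncomputable def phi {G : Type u} [Group G] [Fintype G] (p : ℕ) (P E : Subgroup G) (χ : G → ℂ) (s : E) : ℂ :=
  open Classical in if s = 1 then (χ 1 + SP P χ) / p else χ s

/-- the structure of the normaliser of `P` -/
structure Frob {G : Type u} [Group G] [Fintype G] (p e : ℕ) (P E : Subgroup G) : Prop where
  cP : Nat.card P = p
  cE : Nat.card E = e
  cyc : IsCyclic E
  char : ∀ χ : G → ℂ, IsCharacter G χ → IsCharacter E (phi p P E χ)
  disj : ∀ s ∈ E, s ∈ P → s = 1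
  le : E ≤ normalizer (P : Set G)
  centP : ∀ x ∈ P, x ≠ 1 → centralizer ({x} : Set G) = P
  mem : ∀ g ∈ normalizer (P : Set G), ∃ x ∈ P, ∃ s ∈ E, g = x * s
  cnj : ∀ s ∈ E, s ≠ 1 → ∀ z ∈ P, ∃ x ∈ P, x * s * x⁻¹ = z * s
  reg : ∀ s ∈ E, ¬ p ∣ orderOf s

section
variable {G : Type u} [Group G] [Fintype G] {p : ℕ} [hp : Fact p.Prime]

/-- the sum over `P` -/
theorem sum_P (P : Subgroup G) [Fintype P] (χ : G → ℂ) : ∑ k : P, χ k = χ 1 + SP P χ := by
  classical
  unfold SP
  have h1 : ∑ k : P, χ k = ∑ x ∈ Finset.univ.filter (fun x : G => x ∈ P), χ x := by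
    rw [Finset.sum_filter]
    rw [← Finset.sum_filter, ← Finset.sum_subtype (Finset.univ.filter (fun x : G => x ∈ P)) (p := fun x => x ∈ P) (fun x => by simp) χ]
  rw [h1]
  have h2 : (Finset.univ.filter (fun x : G => x ∈ P)) = insert 1 (Finset.univ.filter (fun x : G => x ∈ P ∧ x ≠ 1)) := by
    ext x
    simp only [Finset.mem_filter, Finset.mem_univ, true_and, Finset.mem_insert]
    constructor
    · intro h
      by_cases hx : x = 1
      · exact Or.inl hx
      · exact Or.inr ⟨h, hx⟩
    · rintro (rfl | h)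
      exacts [one_mem _, h.1]
  rw [h2, Finset.sum_insert (by simp)]

/-- the Sylow subgroup is self-centralising -/
theorem cent_P (hcore : pPrimeCore p G = ⊥) (P : Sylow p G) (hP : Nat.card P = p) {χ : G → ℂ} (hχ : IsCharacter G χ)
    (h1 : χ 1 = (p - 1 : ℕ)) (hv : ∀ x ∈ (P : Subgroup G), x ≠ 1 → χ x = -1)
    (hc : ∀ x ∈ (P : Subgroup G), x ≠ 1 → ∀ y ∈ centralizer ((P : Subgroup G) : Set G), ¬ p ∣ orderOf y → χ (x * y) = χ x) :
    centralizer ((P : Subgroup G) : Set G) = P := by
  classical
  have hpp := hp.out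
  have hp2 := hpp.two_le
  set C := centralizer ((P : Subgroup G) : Set G) with hC
  have hPC : (P : Subgroup G) ≤ C := P_le_C hP
  have hreg : ∀ y ∈ C, ¬ p ∣ orderOf y → y = 1 := by
    intro y hy hyr
    letI : Fintype C := Fintype.ofFinite _
    letI : Fintype ((P : Subgroup G).subgroupOf C) := Fintype.ofFinite _
    haveI hn : ((P : Subgroup G).subgroupOf C).Normal := by
      constructor
      intro x hx g
      rw [mem_subgroupOf] at hx ⊢
      have h2 : (x : G) * g = g * x := (mem_centralizer_iff.1 g.2 x hx)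
      have e1 : ((g * x * g⁻¹ : C) : G) = x := by
        rw [Subgroup.coe_mul, Subgroup.coe_mul, Subgroup.coe_inv, ← h2]; group
      rw [e1]; exact hx
    have hch := av_char (K := (P : Subgroup G).subgroupOf C) (isCharacter_comp hχ C.subtype)
    have hcard : (Nat.card ((P : Subgroup G).subgroupOf C) : ℂ) = p := by
      rw [Nat.card_congr (Subgroup.subgroupOfEquivOfLe hPC).toEquiv]; exact_mod_cast hP
    have hp0 : (p : ℂ) ≠ 0 := by exact_mod_cast hpp.ne_zero
    letI : Fintype (P : Subgroup G) := Fintype.ofFinite _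
    have hsum : ∀ z : C, ∑ k : (P : Subgroup G).subgroupOf C, (χ ∘ C.subtype) (k * z) = ∑ k : (P : Subgroup G), χ (k * z) := by
      intro z
      exact Fintype.sum_equiv (Subgroup.subgroupOfEquivOfLe hPC).toEquiv _ _ (fun k => rfl)
    have hav : ∀ z : C, av ((P : Subgroup G).subgroupOf C) (χ ∘ C.subtype) z = (p : ℂ)⁻¹ * ∑ k : (P : Subgroup G), χ (k * z) := by
      intro z
      unfold av
      rw [hcard, hsum]
    have hz1 : av ((P : Subgroup G).subgroupOf C) (χ ∘ C.subtype) 1 = 0 := by
      rw [hav]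
      have : ∑ k : (P : Subgroup G), χ (k * (1 : C)) = ∑ k : (P : Subgroup G), χ k := Finset.sum_congr rfl fun k _ => by
        rw [Subgroup.coe_one, mul_one]
      rw [this, sum_P, SP_const _ hP hv, h1]; ring
    have hz2 := char_zero hch hz1 ⟨y, hy⟩
    rw [hav] at hz2
    have hs : ∑ k : (P : Subgroup G), χ (k * y) = χ y + SP (P : Subgroup G) (fun x => χ (x * y)) := by
      have := sum_P (P : Subgroup G) (fun x => χ (x * y))
      rw [one_mul] at this
      exact this
    have hs2 : SP (P : Subgroup G) (fun x => χ (x * y)) = (p - 1 : ℕ) * (-1) := by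
      apply SP_const _ hP
      intro x hx hx1
      rw [hc x hx hx1 y hy hyr, hv x hx hx1]
    have hyv : χ y = χ 1 := by
      rw [show ((⟨y, hy⟩ : C) : G) = y from rfl, hs, hs2] at hz2
      rw [h1]
      have := (mul_eq_zero.1 hz2).resolve_left (inv_ne_zero hp0)
      linear_combination this
    obtain ⟨K, hK, hKm⟩ := exists_kernel hχ
    have hKp : ¬ p ∣ Nat.card K := by
      intro hd
      obtain ⟨k, hk⟩ := exists_prime_orderOf_dvd_card' p hd
      have hk' : orderOf (k : G) = p := by rw [Subgroup.orderOf_coe]; exact hk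
      have hIs : IsPGroup p (zpowers (k : G)) := by
        apply IsPGroup.of_card (n := 1)
        rw [Nat.card_zpowers, hk', pow_one]
      obtain ⟨Q, hQ⟩ := hIs.exists_le_sylow
      obtain ⟨g, hg⟩ := MulAction.exists_smul_eq G Q P
      have hkQ : (k : G) ∈ (Q : Subgroup G) := hQ (mem_zpowers _)
      have hkP : g * k * g⁻¹ ∈ (P : Subgroup G) := by
        rw [← hg, Sylow.coe_subgroup_smul]
        exact Subgroup.smul_mem_pointwise_smul _ (MulAut.conj g) _ hkQ
      have hne : g * k * g⁻¹ ≠ 1 := by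
        intro h
        rw [conj_eq_one_iff] at h
        rw [h, orderOf_one] at hk'
        omega
      have h3 := (hKm _).1 (hK.conj_mem k k.2 g)
      rw [hv _ hkP hne, h1] at h3
      have h4 : ((p - 1 : ℕ) : ℂ) + 1 = 0 := by rw [← h3]; ring
      have h5 : ((p - 1 + 1 : ℕ) : ℂ) = 0 := by push_cast; exact h4
      rw [Nat.cast_eq_zero] at h5; omega
    have hle : K ≤ pPrimeCore p G := CfsgLib.Cores.le_pPrimeCore hK ((Nat.Prime.coprime_iff_not_dvd hpp).2 hKp).symm
    rw [hcore, le_bot_iff] at hle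
    have : y ∈ K := (hKm y).2 hyv
    rw [hle, mem_bot] at this
    exact this
  have hpg : IsPGroup p C := by
    intro g
    refine ⟨(orderOf (g : G)).factorization p, ?_⟩
    apply Subtype.ext
    rw [Subgroup.coe_pow, Subgroup.coe_one]
    apply hreg _ (C.pow_mem g.2 _)
    rw [orderOf_pow_of_dvd (pow_ne_zero _ hpp.ne_zero) (Nat.ordProj_dvd _ _)]
    exact Nat.not_dvd_ordCompl hpp (orderOf_pos _).ne'
  exact P.is_maximal' hpg hPC

theorem exists_frob (P : Sylow p G) (hP : Nat.card P = p) (hC : centralizer ((P : Subgroup G) : Set G) = P) {e : ℕ}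
    (he : (centralizer ((P : Subgroup G) : Set G)).relIndex (normalizer ((P : Subgroup G) : Set G)) = e) :
    ∃ E : Subgroup G, Frob p e (P : Subgroup G) E := by
  classical
  have hpp := hp.out
  have hp2 := hpp.two_le
  set N := normalizer ((P : Subgroup G) : Set G) with hN
  have hPN : (P : Subgroup G) ≤ N := le_normalizer
  rw [hC] at he
  have hcentP : ∀ x ∈ (P : Subgroup G), x ≠ 1 → centralizer ({x} : Set G) = P := by
    intro x hx h1; rw [cent_eq hP hx h1, hC]
  letI : Fintype N := Fintype.ofFinite _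
  set K := (P : Subgroup G).subgroupOf N with hK
  haveI hKn : K.Normal := Subgroup.normal_in_normalizer
  letI : Fintype K := Fintype.ofFinite _
  have hKc : Nat.card K = p := by
    rw [hK, Nat.card_congr (Subgroup.subgroupOfEquivOfLe hPN).toEquiv]; exact hP
  have hcop : Nat.Coprime (Nat.card K) K.index := by
    rw [hKc, Nat.Prime.coprime_iff_not_dvd hpp]
    intro h
    apply P.not_dvd_index
    rw [← Subgroup.relIndex_mul_index hPN]
    exact Dvd.dvd.mul_right h _
  obtain ⟨E0, hE0⟩ := Subgroup.exists_right_complement'_of_coprime hcop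
  have hEc : Nat.card (E0.map N.subtype) = e := by
    rw [Subgroup.card_map_of_injective N.subtype_injective]
    have h1 := hE0.card_mul
    have h2 := K.card_mul_index
    have h3 : K.index = e := he
    rw [h3, hKc] at h2
    rw [hKc] at h1
    exact Nat.eq_of_mul_eq_mul_left hpp.pos (h1.trans h2.symm)
  have hElN : E0.map N.subtype ≤ N := Subgroup.map_subtype_le _
  have hdisj : ∀ s ∈ E0.map N.subtype, s ∈ (P : Subgroup G) → s = 1 := by
    rintro s ⟨s', hs', rfl⟩ hsP
    have h1 : s' ∈ K ⊓ E0 := ⟨mem_subgroupOf.2 hsP, hs'⟩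
    rw [hE0.disjoint.eq_bot, mem_bot] at h1
    rw [h1]; rfl
  have hcnj : ∀ s ∈ E0.map N.subtype, s ≠ 1 → ∀ z ∈ (P : Subgroup G), ∃ x ∈ (P : Subgroup G), x * s * x⁻¹ = z * s := by
    intro s hs hs1 z hz
    have hsN := hElN hs
    have hcm : ∀ x ∈ (P : Subgroup G), x * s * x⁻¹ * s⁻¹ ∈ (P : Subgroup G) := by
      intro x hx
      have h1 : s * x⁻¹ * s⁻¹ ∈ (P : Subgroup G) := (mem_normalizer_iff.1 hsN _).1 (inv_mem hx)
      have e1 : x * s * x⁻¹ * s⁻¹ = x * (s * x⁻¹ * s⁻¹) := by group
      rw [e1]; exact mul_mem hx h1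
    have hinj : Function.Injective (fun x : (P : Subgroup G) => (⟨x * s * (x : G)⁻¹ * s⁻¹, hcm x x.2⟩ : (P : Subgroup G))) := by
      intro x y hxy
      have h1 : (x : G) * s * (x : G)⁻¹ * s⁻¹ = y * s * (y : G)⁻¹ * s⁻¹ := congrArg Subtype.val hxy
      have h2 : (x : G) * s * (x : G)⁻¹ = y * s * (y : G)⁻¹ := mul_right_cancel h1
      by_contra hne
      have h3 : (y : G)⁻¹ * x ∈ (P : Subgroup G) := mul_mem (inv_mem y.2) x.2
      have h4 : (y : G)⁻¹ * x ≠ 1 := by
        intro h
        apply hne
        apply Subtype.ext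
        rw [inv_mul_eq_one] at h
        exact h.symm
      have h5 : s ∈ centralizer ({(y : G)⁻¹ * x} : Set G) := by
        rw [mem_centralizer_singleton_iff]
        calc s * ((y : G)⁻¹ * x) = (y : G)⁻¹ * (y * s * (y : G)⁻¹) * x := by group
          _ = (y : G)⁻¹ * (x * s * (x : G)⁻¹) * x := by rw [h2]
          _ = (y : G)⁻¹ * x * s := by group
      rw [hcentP _ h3 h4] at h5
      exact hs1 (hdisj s hs h5)
    obtain ⟨x, hx⟩ := (Finite.injective_iff_surjective.1 hinj) ⟨z, hz⟩
    refine ⟨x, x.2, ?_⟩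
    have h1 : (x : G) * s * (x : G)⁻¹ * s⁻¹ = z := congrArg Subtype.val hx
    rw [← h1]; group
  have hcyc : IsCyclic (E0.map N.subtype) := by
    have hPcyc : IsCyclic (P : Subgroup G) := isCyclic_of_prime_card (p := p) hP
    have h1 : IsCyclic (MulAut (P : Subgroup G)) := by
      have e := IsCyclic.mulAutMulEquiv (P : Subgroup G)
      have hP' : Nat.card (P : Subgroup G) = p := hP
      rw [hP'] at e
      exact isCyclic_of_surjective e.symm e.symm.surjective
    let f : E0.map N.subtype →* MulAut (P : Subgroup G) := (P : Subgroup G).normalizerMonoidHom.comp (Subgroup.inclusion hElN)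
    apply isCyclic_of_injective f
    rw [injective_iff_map_eq_one]
    intro s hs
    have h2 : Subgroup.inclusion hElN s ∈ (P : Subgroup G).normalizerMonoidHom.ker := by
      rw [MonoidHom.mem_ker]; exact hs
    rw [Subgroup.normalizerMonoidHom_ker, mem_subgroupOf, hC] at h2
    apply Subtype.ext
    exact hdisj s s.2 h2
  refine ⟨E0.map N.subtype, hP, hEc, hcyc, ?_, hdisj, hElN, hcentP, ?_, hcnj, ?_⟩
  · intro χ hχ
    have hch := av_char (K := K) (isCharacter_comp hχ N.subtype)
    have hch2 := isCharacter_comp hch (Subgroup.inclusion hElN)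
    have hp0 : (p : ℂ) ≠ 0 := by exact_mod_cast hpp.ne_zero
    letI : Fintype (P : Subgroup G) := Fintype.ofFinite _
    have hav : ∀ z : N, av K (χ ∘ N.subtype) z = (p : ℂ)⁻¹ * ∑ k : (P : Subgroup G), χ (k * z) := by
      intro z
      unfold av
      rw [hKc]
      congr 1
      exact Fintype.sum_equiv (Subgroup.subgroupOfEquivOfLe hPN).toEquiv _ _ (fun k => rfl)
    have heq : phi p (P : Subgroup G) (E0.map N.subtype) χ = (av K (χ ∘ N.subtype)) ∘ (Subgroup.inclusion hElN) := by
      funext s
      rw [Function.comp_apply, hav]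
      unfold phi
      split_ifs with h
      · rw [h, map_one]
        have h1 : ∑ k : (P : Subgroup G), χ (k * ((1 : N) : G)) = ∑ k : (P : Subgroup G), χ k := Finset.sum_congr rfl fun k _ => by
          rw [Subgroup.coe_one, mul_one]
        rw [h1, sum_P]; ring
      · have h1 : ∀ k : (P : Subgroup G), χ (k * ((Subgroup.inclusion hElN s : N) : G)) = χ s := by
          intro k
          obtain ⟨x, hx, hxe⟩ := hcnj s s.2 (fun h' => h (Subtype.ext h')) k k.2
          show χ (k * (s : G)) = χ s
          rw [← hxe]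
          exact char_classFun hχ s x
        rw [Finset.sum_congr rfl fun k _ => h1 k, Finset.sum_const, Finset.card_univ, nsmul_eq_mul, ← Nat.card_eq_fintype_card]
        have hP' : Nat.card (P : Subgroup G) = p := hP
        rw [hP']
        field_simp
    rw [heq]; exact hch2
  · intro g hg
    have h1 := hE0.sup_eq_top
    have h2 : (⟨g, hg⟩ : N) ∈ K ⊔ E0 := by rw [h1]; exact mem_top _
    rw [Subgroup.mem_sup_of_normal_left] at h2
    obtain ⟨x, hx, s, hs, hxs⟩ := h2
    refine ⟨x, mem_subgroupOf.1 hx, s, Subgroup.mem_map_of_mem _ hs, ?_⟩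
    have := congrArg Subtype.val hxs
    exact this.symm
  · intro s hs hd
    have h1 : orderOf s ∣ Nat.card (E0.map N.subtype) := by
      have := orderOf_dvd_natCard (⟨s, hs⟩ : E0.map N.subtype)
      rwa [← Subgroup.orderOf_coe] at this
    rw [hEc, ← he] at h1
    apply P.not_dvd_index
    rw [← Subgroup.relIndex_mul_index hPN]
    exact Dvd.dvd.mul_right (hd.trans h1) _

end
end CfsgLib.BR11
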