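import Mathlib
import Cfsg.Agent.EqBase
import Cfsg.Agent.LibBR11g

/-! Groups with a Sylow subgroup of order `p`: multiplicities (seat helper11). -/

set_option autoImplicit false
set_option linter.all false

namespace CfsgLib.BR11

open Subgroup Cfsg CfsgLib.CharBasic
open scoped ComplexConjugate

universe u

section
variable {H : Type u} [Group H] [Fintype H]

theorem mult_le {χ : H → ℂ} (hχ : IsCharacter H χ) : ∃ c m : ℕ, classInner χ (fun _ => 1) = c ∧ χ 1 = m ∧ c ≤ m := by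
  classical
  obtain ⟨f, hf, hexp, -⟩ := char_expand hχ
  obtain ⟨m, hm⟩ := char_one_nat hχ
  refine ⟨f (tr H), m, hf (tr H), hm, ?_⟩
  choose d hd0 hd using fun ψ : IrrCharacter H => irr_one_nat ψ.2
  have h1 : (m : ℂ) = ((∑ ψ : IrrCharacter H, f ψ * d ψ : ℕ) : ℂ) := by
    rw [← hm, hexp, Finset.sum_apply]
    push_cast
    apply Finset.sum_congr rfl
    intro ψ _
    rw [Pi.smul_apply, smul_eq_mul, hd]
  have h2 : m = ∑ ψ : IrrCharacter H, f ψ * d ψ := by exact_mod_cast h1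
  rw [h2]
  calc f (tr H) ≤ f (tr H) * d (tr H) := Nat.le_mul_of_pos_right _ (hd0 _)
    _ ≤ _ := Finset.single_le_sum (f := fun ψ => f ψ * d ψ) (fun _ _ => Nat.zero_le _) (Finset.mem_univ _)

theorem inner_char_nat {χ ψ : H → ℂ} (hχ : IsCharacter H χ) (hψ : IsCharacter H ψ) : ∃ n : ℕ, classInner χ ψ = n := by
  classical
  obtain ⟨f, hf, hexp, -⟩ := char_expand hχ
  obtain ⟨g, hg, hexp', -⟩ := char_expand hψ
  refine ⟨∑ i : IrrCharacter H, g i * f i, ?_⟩
  have h1 : classInner χ ψ = ∑ i : IrrCharacter H, (g i : ℂ) * classInner χ i := by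
    rw [hexp']
    unfold classInner
    rw [Finset.sum_congr rfl fun i _ => show (g i : ℂ) * ((Nat.card H : ℂ)⁻¹ * ∑ x : H, χ x * conj ((i : H → ℂ) x)) =
      (Nat.card H : ℂ)⁻¹ * ∑ x : H, χ x * ((g i : ℂ) * conj ((i : H → ℂ) x)) by
        rw [mul_left_comm]; congr 1; rw [Finset.mul_sum]; exact Finset.sum_congr rfl fun x _ => by ring]
    rw [← Finset.mul_sum, Finset.sum_comm]
    congr 1
    apply Finset.sum_congr rfl
    intro x _
    rw [← Finset.mul_sum, Finset.sum_apply, map_sum]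
    congr 1
    apply Finset.sum_congr rfl
    intro i _
    rw [Pi.smul_apply, smul_eq_mul, map_mul, Complex.conj_natCast]
  rw [h1]
  push_cast
  exact Finset.sum_congr rfl fun i _ => by rw [hf]

end

/-- the configuration -/
structure Cfg {G : Type u} [Group G] [Fintype G] (p n e t a b d : ℕ) (P E : Subgroup G) (A B Y : Finset (IrrCharacter G)) : Prop
    extends Dat p P n e t a b d A B Y, Frob p e P E where
  n1 : 1 ≤ n
  p3 : 3 ≤ p
  cG : Nat.card G = p * e * (1 + n * p)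
  perf : commutator G = ⊤

section
variable {G : Type u} [Group G] [Fintype G] {p : ℕ} [hp : Fact p.Prime]
variable {n e t a b d : ℕ} {P E : Subgroup G} {A B Y : Finset (IrrCharacter G)}

open Classical in
/-- the principal block -/
noncomputable def ZZ (A B Y : Finset (IrrCharacter G)) : Finset (IrrCharacter G) := insert (tr G) (A ∪ B ∪ Y)

theorem Cfg.sumZ (h : Cfg p n e t a b d P E A B Y) {R : Type*} [AddCommMonoid R] (f : IrrCharacter G → R) :
    ∑ χ ∈ ZZ A B Y, f χ = f (tr G) + (∑ χ ∈ A, f χ + ∑ χ ∈ B, f χ + ∑ χ ∈ Y, f χ) := by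
  classical
  unfold ZZ
  have hnZ : tr G ∉ A ∪ B ∪ Y := by
    have := h.nZ
    rwa [Finset.mem_union, Finset.mem_union] at this ⊢
  rw [Finset.sum_insert hnZ]
  rw [Finset.sum_union, Finset.sum_union]
  · exact h.dAB
  · have := h.dY
    rw [Finset.disjoint_left] at this ⊢
    intro x hx
    apply this
    rwa [Finset.mem_union] at hx ⊢

open Classical in
theorem Cfg.sum_all (h : Cfg p n e t a b d P E A B Y) {R : Type*} [AddCommMonoid R] (f : IrrCharacter G → R) :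
    ∑ χ, f χ = f (tr G) + (∑ χ ∈ A, f χ + ∑ χ ∈ B, f χ + ∑ χ ∈ Y, f χ) + ∑ χ ∈ (ZZ A B Y)ᶜ, f χ := by
  rw [← h.sumZ, Finset.sum_add_sum_compl]

/-- characters outside the principal block vanish on `P` -/
theorem Cfg.vanish (h : Cfg p n e t a b d P E A B Y) {χ : IrrCharacter G} (hχ : χ ∉ ZZ A B Y) {x : G} (hx : x ∈ P) (h1 : x ≠ 1) :
    (χ : G → ℂ) x = 0 := by
  classical
  have h2 := column_orthogonality x x
  rw [if_pos (IsConj.refl x), h.centP x hx h1, h.cP] at h2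
  have h3 : ∀ χ : IrrCharacter G, (χ : G → ℂ) x * conj ((χ : G → ℂ) x) = ((‖(χ : G → ℂ) x‖ ^ 2 : ℝ) : ℂ) := fun χ => by
    rw [Complex.mul_conj, Complex.normSq_eq_norm_sq]
  rw [Finset.sum_congr rfl fun χ _ => h3 χ, ← Complex.ofReal_sum] at h2
  have h4 : ∑ χ : IrrCharacter G, ‖(χ : G → ℂ) x‖ ^ 2 = (p : ℝ) := by exact_mod_cast h2
  rw [← Finset.sum_add_sum_compl (ZZ A B Y)] at h4
  have h5 : ∑ χ ∈ ZZ A B Y, ‖(χ : G → ℂ) x‖ ^ 2 = (p : ℝ) := by
    have := h.norm x hx h1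
    rw [← this]
    unfold ZZ
    congr!
  rw [h5] at h4
  have h6 : ∑ χ ∈ (ZZ A B Y)ᶜ, ‖(χ : G → ℂ) x‖ ^ 2 = 0 := by linarith
  rw [Finset.sum_eq_zero_iff_of_nonneg (fun _ _ => sq_nonneg _)] at h6
  have h7 := h6 χ (Finset.mem_compl.2 hχ)
  rwa [sq_eq_zero_iff, norm_eq_zero] at h7

theorem Cfg.SP_zero (h : Cfg p n e t a b d P E A B Y) {χ : IrrCharacter G} (hχ : χ ∉ ZZ A B Y) : SP P (χ : G → ℂ) = 0 := by
  classical
  unfold SP
  apply Finset.sum_eq_zero
  intro x hx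
  rw [Finset.mem_filter] at hx
  exact h.vanish hχ hx.2.1 hx.2.2

/-- the numbers -/
theorem Cfg.exists_num (h : Cfg p n e t a b d P E A B Y) [Fintype E] : ∃ c m : IrrCharacter G → ℕ,
    (∀ χ : IrrCharacter G, classInner (phi p P E (χ : G → ℂ)) (fun _ => 1) = c χ) ∧ (∀ χ : IrrCharacter G, phi p P E (χ : G → ℂ) 1 = m χ) ∧ ∀ χ, c χ ≤ m χ := by
  choose c m h1 h2 h3 using fun χ : IrrCharacter G => mult_le (h.char (χ : G → ℂ) (irr_isCharacter χ.2))
  exact ⟨c, m, h1, h2, h3⟩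

theorem phi_one (χ : G → ℂ) : phi p P E χ 1 = (χ 1 + SP P χ) / p := by
  unfold phi; rw [if_pos rfl]

theorem phi_ne (χ : G → ℂ) {s : E} (hs : s ≠ 1) : phi p P E χ s = χ s := by
  unfold phi; rw [if_neg hs]

theorem sum_SP_comm (g : G) : ∑ χ : IrrCharacter G, (χ : G → ℂ) g * conj (SP P (χ : G → ℂ)) =
    SP P (fun x => ∑ χ : IrrCharacter G, (χ : G → ℂ) g * conj ((χ : G → ℂ) x)) := by
  classical
  unfold SP
  rw [Finset.sum_comm]
  apply Finset.sum_congr rfl
  intro χ _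
  rw [map_sum, Finset.mul_sum]

theorem col_phi_one (g : G) : ∑ χ : IrrCharacter G, (χ : G → ℂ) g * conj (phi p P E (χ : G → ℂ) 1) =
    (p : ℂ)⁻¹ * (∑ χ : IrrCharacter G, (χ : G → ℂ) g * conj ((χ : G → ℂ) 1) +
      SP P (fun x => ∑ χ : IrrCharacter G, (χ : G → ℂ) g * conj ((χ : G → ℂ) x))) := by
  rw [← sum_SP_comm, ← Finset.sum_add_distrib, Finset.mul_sum]
  apply Finset.sum_congr rfl
  intro χ _
  rw [phi_one, map_div₀, map_add, Complex.conj_natCast]
  ring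

theorem col_sum (hcE : Nat.card E = e) (he : 0 < e) [Fintype E] {c : IrrCharacter G → ℕ}
    (hc : ∀ χ : IrrCharacter G, classInner (phi p P E (χ : G → ℂ)) (fun _ => 1) = c χ) (g : G) :
    (e : ℂ) * ∑ χ : IrrCharacter G, (χ : G → ℂ) g * c χ = ∑ s : E, ∑ χ : IrrCharacter G, (χ : G → ℂ) g * conj (phi p P E (χ : G → ℂ) s) := by
  rw [Finset.sum_comm, Finset.mul_sum]
  apply Finset.sum_congr rfl
  intro χ _
  have he0 : (e : ℂ) ≠ 0 := by exact_mod_cast he.ne'
  have h1 : (e : ℂ) * c χ = ∑ s : E, phi p P E (χ : G → ℂ) s := by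
    rw [← hc, inner_one_right, hcE, ← mul_assoc, mul_inv_cancel₀ he0, one_mul]
  have h2 : (e : ℂ) * c χ = ∑ s : E, conj (phi p P E (χ : G → ℂ) s) := by
    have := congrArg conj h1
    rwa [map_mul, Complex.conj_natCast, Complex.conj_natCast, map_sum] at this
  rw [← Finset.mul_sum, ← h2]; ring

theorem Cfg.not_conj (h : Cfg p n e t a b d P E A B Y) {s x : G} (hs : s ∈ E) (hx : x ∈ P) (h1 : x ≠ 1) : ¬ IsConj s x := by
  intro hc
  obtain ⟨g, hg⟩ := isConj_iff.1 hc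
  have h2 : orderOf x = orderOf s := by rw [← hg]; exact MulEquiv.orderOf_eq (MulAut.conj g) s
  exact h.reg s hs (by rw [← h2, ord_of_mem h.cP hx h1])

theorem SP_zero' {F : G → ℂ} (hF : ∀ x ∈ P, x ≠ 1 → F x = 0) : SP P F = 0 := by
  classical
  unfold SP
  apply Finset.sum_eq_zero
  intro x hx
  rw [Finset.mem_filter] at hx
  exact hF x hx.2.1 hx.2.2

theorem Cfg.e0 (h : Cfg p n e t a b d P E A B Y) : 0 < e := by have := h.e2; omega

/-- the permutation character at `1` -/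
theorem Cfg.T_one (h : Cfg p n e t a b d P E A B Y) [Fintype E] {c : IrrCharacter G → ℕ}
    (hc : ∀ χ : IrrCharacter G, classInner (phi p P E (χ : G → ℂ)) (fun _ => 1) = c χ) :
    ∑ χ : IrrCharacter G, (χ : G → ℂ) 1 * c χ = (1 + n * p : ℕ) := by
  classical
  have he0 : (e : ℂ) ≠ 0 := by exact_mod_cast h.e0.ne'
  have hp0 : (p : ℂ) ≠ 0 := by exact_mod_cast hp.out.ne_zero
  apply mul_left_cancel₀ he0
  rw [col_sum h.cE h.e0 hc, ← Finset.add_sum_erase _ _ (Finset.mem_univ (1 : E)), col_phi_one, column_orthogonality, if_pos (IsConj.refl _),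
    SP_zero' (fun x hx h1 => by rw [column_orthogonality, if_neg (h.not_conj (one_mem _) hx h1)]), add_zero, Finset.sum_eq_zero, add_zero]
  · have h1 : Nat.card (centralizer ({(1 : G)} : Set G)) = Nat.card G := by
      have : centralizer ({(1 : G)} : Set G) = ⊤ := by
        rw [eq_top_iff]; intro g _
        rw [mem_centralizer_singleton_iff, one_mul, mul_one]
      rw [this, Subgroup.card_top]
    rw [h1, h.cG]
    push_cast
    field_simp
  · intro s hs
    have h2 : s ≠ 1 := Finset.ne_of_mem_erase hs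
    rw [Finset.sum_congr rfl fun χ _ => by rw [phi_ne _ h2], column_orthogonality, if_neg]
    intro h3
    rw [isConj_one_right] at h3
    exact h2 (Subtype.ext h3)

/-- the permutation character on `E` -/
theorem Cfg.T_ne (h : Cfg p n e t a b d P E A B Y) [Fintype E] {c : IrrCharacter G → ℕ}
    (hc : ∀ χ : IrrCharacter G, classInner (phi p P E (χ : G → ℂ)) (fun _ => 1) = c χ) {g : G} (hg : g ∈ E) (hg1 : g ≠ 1) :
    (e : ℂ) * ∑ χ : IrrCharacter G, (χ : G → ℂ) g * c χ = Nat.card (centralizer ({g} : Set G)) * Nat.card {s : G // IsConj g s ∧ s ∈ E} := by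
  classical
  rw [col_sum h.cE h.e0 hc, ← Finset.add_sum_erase _ _ (Finset.mem_univ (1 : E)), col_phi_one, column_orthogonality,
    if_neg (fun h1 => hg1 ((isConj_one_left).1 h1)),
    SP_zero' (fun x hx h1 => by rw [column_orthogonality, if_neg (h.not_conj hg hx h1)]), add_zero, mul_zero, zero_add]
  have h1 : ∀ s ∈ Finset.univ.erase (1 : E), ∑ χ : IrrCharacter G, (χ : G → ℂ) g * conj (phi p P E (χ : G → ℂ) s) =
      if IsConj g s then (Nat.card (centralizer ({g} : Set G)) : ℂ) else 0 := by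
    intro s hs
    have h2 : s ≠ 1 := Finset.ne_of_mem_erase hs
    rw [Finset.sum_congr rfl fun χ _ => by rw [phi_ne _ h2], column_orthogonality]
  rw [Finset.sum_congr rfl h1, ← Finset.sum_filter, Finset.sum_const, nsmul_eq_mul, mul_comm]
  congr 2
  rw [← Fintype.card_coe, ← Nat.card_eq_fintype_card]
  refine Nat.card_congr ⟨fun s => ⟨s.1, ((Finset.mem_filter.1 s.2).2), s.1.2⟩, fun s => ⟨⟨s.1, s.2.2⟩, ?_⟩, fun s => rfl, fun s => rfl⟩
  rw [Finset.mem_filter, Finset.mem_erase]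
  refine ⟨⟨?_, Finset.mem_univ _⟩, s.2.1⟩
  intro h3
  have h4 : (s : G) = 1 := congrArg Subtype.val h3
  have h5 := s.2.1
  rw [h4, isConj_one_left] at h5
  exact hg1 h5

/-- degrees outside the block -/
theorem Cfg.deg_out (h : Cfg p n e t a b d P E A B Y) {m : IrrCharacter G → ℕ}
    (hm : ∀ χ : IrrCharacter G, phi p P E (χ : G → ℂ) 1 = m χ) {χ : IrrCharacter G} (hχ : χ ∉ ZZ A B Y) :
    (χ : G → ℂ) 1 = p * m χ := by
  have hp0 : (p : ℂ) ≠ 0 := by exact_mod_cast hp.out.ne_zero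
  have h1 := hm χ
  rw [phi_one, h.SP_zero hχ, add_zero, div_eq_iff hp0] at h1
  rw [h1]; ring

theorem Cfg.m_tr (h : Cfg p n e t a b d P E A B Y) {m : IrrCharacter G → ℕ}
    (hm : ∀ χ : IrrCharacter G, phi p P E (χ : G → ℂ) 1 = m χ) : m (tr G) = 1 := by
  have hp0 : (p : ℂ) ≠ 0 := by exact_mod_cast hp.out.ne_zero
  have h1 := hm (tr G)
  rw [phi_one, SP_const P h.cP (c := 1) (fun x _ _ => tr_apply x), tr_apply, Nat.cast_sub hp.out.one_lt.le, Nat.cast_one] at h1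
  have h2 : ((m (tr G) : ℕ) : ℂ) = (1 : ℕ) := by rw [← h1, Nat.cast_one]; field_simp; ring
  exact_mod_cast h2

theorem Cfg.m_A (h : Cfg p n e t a b d P E A B Y) {m : IrrCharacter G → ℕ}
    (hm : ∀ χ : IrrCharacter G, phi p P E (χ : G → ℂ) 1 = m χ) {χ : IrrCharacter G} (hχ : χ ∈ A) : m χ = n + 1 := by
  have hp0 : (p : ℂ) ≠ 0 := by exact_mod_cast hp.out.ne_zero
  have h1 := hm χ
  rw [phi_one, SP_const P h.cP (h.valA χ hχ), h.degA χ hχ, Nat.cast_sub hp.out.one_lt.le, Nat.cast_one] at h1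
  have h2 : ((m χ : ℕ) : ℂ) = (n + 1 : ℕ) := by rw [← h1]; push_cast; field_simp; ring
  exact_mod_cast h2

theorem Cfg.m_B (h : Cfg p n e t a b d P E A B Y) {m : IrrCharacter G → ℕ}
    (hm : ∀ χ : IrrCharacter G, phi p P E (χ : G → ℂ) 1 = m χ) {χ : IrrCharacter G} (hχ : χ ∈ B) : m χ = 0 := by
  have hp0 : (p : ℂ) ≠ 0 := by exact_mod_cast hp.out.ne_zero
  have h1 := hm χ
  rw [phi_one, SP_const P h.cP (h.valB χ hχ), h.degB χ hχ, Nat.cast_sub hp.out.one_lt.le, Nat.cast_one] at h1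
  have h2 : ((m χ : ℕ) : ℂ) = (0 : ℕ) := by rw [← h1]; push_cast; field_simp; ring
  exact_mod_cast h2

/-- sum of squares outside the block -/
theorem Cfg.sum_sq (h : Cfg p n e t a b d P E A B Y) {m : IrrCharacter G → ℕ}
    (hm : ∀ χ : IrrCharacter G, phi p P E (χ : G → ℂ) 1 = m χ) : ∑ χ ∈ (ZZ A B Y)ᶜ, m χ ^ 2 = n := by
  classical
  have hpp := hp.out
  have h1 := column_orthogonality (1 : G) 1
  rw [if_pos (IsConj.refl _)] at h1
  have h2 : Nat.card (centralizer ({(1 : G)} : Set G)) = Nat.card G := by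
    have : centralizer ({(1 : G)} : Set G) = ⊤ := by
      rw [eq_top_iff]; intro g _
      rw [mem_centralizer_singleton_iff, one_mul, mul_one]
    rw [this, Subgroup.card_top]
  rw [h2, h.sum_all, h.cG] at h1
  have hA : ∑ χ ∈ A, (χ : G → ℂ) 1 * conj ((χ : G → ℂ) 1) = a * ((1 + n * p : ℕ) : ℂ) ^ 2 := by
    rw [Finset.sum_congr rfl fun χ hχ => by rw [h.degA χ hχ, Complex.conj_natCast], Finset.sum_const, h.cA, nsmul_eq_mul]; ring
  have hB : ∑ χ ∈ B, (χ : G → ℂ) 1 * conj ((χ : G → ℂ) 1) = b * ((p - 1 : ℕ) : ℂ) ^ 2 := by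
    rw [Finset.sum_congr rfl fun χ hχ => by rw [h.degB χ hχ, Complex.conj_natCast], Finset.sum_const, h.cB, nsmul_eq_mul]; ring
  have hY : ∑ χ ∈ Y, (χ : G → ℂ) 1 * conj ((χ : G → ℂ) 1) = t * (d : ℂ) ^ 2 := by
    rw [Finset.sum_congr rfl fun χ hχ => by rw [h.degY χ hχ, Complex.conj_natCast], Finset.sum_const, h.cY, nsmul_eq_mul]; ring
  have hC : ∑ χ ∈ (ZZ A B Y)ᶜ, (χ : G → ℂ) 1 * conj ((χ : G → ℂ) 1) = (p : ℂ) ^ 2 * ∑ χ ∈ (ZZ A B Y)ᶜ, (m χ : ℂ) ^ 2 := by
    rw [Finset.mul_sum]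
    apply Finset.sum_congr rfl
    intro χ hχ
    rw [h.deg_out hm (Finset.mem_compl.1 hχ), map_mul, Complex.conj_natCast, Complex.conj_natCast]; ring
  rw [hA, hB, hY, hC, tr_apply, map_one, mul_one] at h1
  have h3 : 1 + (a * (1 + n * p) ^ 2 + b * (p - 1) ^ 2 + t * d ^ 2) + p ^ 2 * ∑ χ ∈ (ZZ A B Y)ᶜ, m χ ^ 2 = p * e * (1 + n * p) := by
    exact_mod_cast h1
  have hp0 : (p : ℤ) ≠ 0 := by exact_mod_cast hpp.ne_zero
  obtain ⟨q, hq⟩ : ∃ q, p = q + 1 := ⟨p - 1, by have := hpp.two_le; omega⟩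
  have het : (e * t : ℤ) = p - 1 := by
    have := h.et
    have h4 : ((e * t + 1 : ℕ) : ℤ) = p := by rw [this]
    push_cast at h4; linarith
  have hpq : ((p - 1 : ℕ) : ℤ) = p - 1 := by rw [Nat.cast_sub hpp.one_lt.le, Nat.cast_one]
  have h3' : (1 + (a * (1 + n * p) ^ 2 + b * (p - 1) ^ 2 + t * d ^ 2) + p ^ 2 * (∑ χ ∈ (ZZ A B Y)ᶜ, m χ ^ 2 : ℕ) : ℤ) = p * e * (1 + n * p) := by
    rw [← hpq]; exact_mod_cast h3
  have h5 : ((∑ χ ∈ (ZZ A B Y)ᶜ, m χ ^ 2 : ℕ) : ℤ) = n := by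
    apply mul_left_cancel₀ (pow_ne_zero 2 hp0)
    rcases h.alt with ⟨hd, -, ha, hb⟩ | ⟨ht2, htd, -, ha, hb⟩
    · have ha' : (e : ℤ) = a * (n + 1) + 1 := by exact_mod_cast ha.symm
      have hb' : (b : ℤ) = a * n := by exact_mod_cast hb
      have hd' : (d : ℤ) = e := by exact_mod_cast hd
      rw [hb', hd'] at h3'
      have h6 : (t * e ^ 2 : ℤ) = (p - 1) * e := by rw [← het]; ring
      rw [h6, ha'] at h3'
      linear_combination h3'
    · have ht0 : (t : ℤ) ≠ 0 := by exact_mod_cast h.t0.ne'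
      apply mul_left_cancel₀ ht0
      have htd' : (t * d : ℤ) = 1 + n * p := by exact_mod_cast htd
      have ha' : ((a * t + 1) * (n + 1) + t : ℤ) = p - 1 := by rw [← het]; have h7 : (((a * t + 1) * (n + 1) + t : ℕ) : ℤ) = ((t * e : ℕ) : ℤ) := by rw [ha]
                                                               push_cast at h7; linarith
      have hb' : (t * b : ℤ) = a * t * n + n + 1 := by
        have h7 : ((b + a + 1 : ℕ) : ℤ) = e := by rw [hb]
        push_cast at h7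
        have h8 : (t * (b + a + 1) : ℤ) = p - 1 := by rw [h7, ← het]; ring
        rw [← ha'] at h8
        linear_combination h8
      have e1 : (t * (p ^ 2 * (∑ χ ∈ (ZZ A B Y)ᶜ, m χ ^ 2 : ℕ)) : ℤ) = p * (e * t) * (1 + n * p) - t - a * t * (1 + n * p) ^ 2 - (t * b) * (p - 1) ^ 2 - (t * d) ^ 2 := by
        linear_combination (t : ℤ) * h3'
      rw [e1, het, hb', htd']
      have ht' : (t : ℤ) = p - 1 - (a * t + 1) * (n + 1) := by linarith
      have key : (p * (p - 1) * (1 + n * p) - (p - 1 - (a * t + 1) * (n + 1)) - a * t * (1 + n * p) ^ 2 - (a * t * n + n + 1) * (p - 1) ^ 2 - (1 + n * p) ^ 2 : ℤ) =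
        (p - 1 - (a * t + 1) * (n + 1)) * (p ^ 2 * n) := by ring
      linear_combination key + (1 + (p : ℤ) ^ 2 * n) * (-ht')
  exact_mod_cast h5

end
end CfsgLib.BR11
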