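import Mathlib
import Cfsg.Agent.EqBase
import Cfsg.Agent.LibBR11h

/-! Groups with a Sylow subgroup of order `p`: fixed points (seat helper11). -/

set_option autoImplicit false
set_option linter.all false

namespace CfsgLib.BR11

open Subgroup Cfsg CfsgLib.CharBasic
open scoped ComplexConjugate

universe u

section
variable {G : Type u} [Group G] [Fintype G] {p : ℕ} [hp : Fact p.Prime]
variable {n e t a b d : ℕ} {P E : Subgroup G} {A B Y : Finset (IrrCharacter G)}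

/-- the multiplicities in the permutation character -/
theorem Cfg.mults (h : Cfg p n e t a b d P E A B Y) [Fintype E] {c m : IrrCharacter G → ℕ}
    (hc : ∀ χ : IrrCharacter G, classInner (phi p P E (χ : G → ℂ)) (fun _ => 1) = c χ)
    (hm : ∀ χ : IrrCharacter G, phi p P E (χ : G → ℂ) 1 = m χ) (hcm : ∀ χ, c χ ≤ m χ) :
    c (tr G) = 1 ∧ (∀ χ ∈ A, c χ = 0) ∧ (∀ χ ∈ B, c χ = 0) ∧ (∀ χ ∈ Y, c χ = 0) ∧ ∀ χ ∈ (ZZ A B Y)ᶜ, c χ = m χ := by
  classical
  have hpp := hp.out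
  have he0 : (e : ℂ) ≠ 0 := by exact_mod_cast h.e0.ne'
  have h1 : c (tr G) = 1 := by
    have h2 := hc (tr G)
    rw [inner_one_right, h.cE] at h2
    have h3 : ∀ s : E, phi p P E ((tr G : IrrCharacter G) : G → ℂ) s = 1 := by
      intro s
      by_cases hs : s = 1
      · rw [hs, hm, h.m_tr hm, Nat.cast_one]
      · rw [phi_ne _ hs]; rfl
    rw [Finset.sum_congr rfl fun s _ => h3 s, Finset.sum_const, Finset.card_univ, ← Nat.card_eq_fintype_card, h.cE, nsmul_eq_mul, mul_one,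
      inv_mul_cancel₀ he0] at h2
    exact_mod_cast h2.symm
  have hT := h.T_one hc
  rw [h.sum_all, tr_apply, h1, Nat.cast_one, mul_one] at hT
  have hA : ∑ χ ∈ A, (χ : G → ℂ) 1 * c χ = ((1 + n * p : ℕ) : ℂ) * (∑ χ ∈ A, c χ : ℕ) := by
    rw [Nat.cast_sum, Finset.mul_sum]
    exact Finset.sum_congr rfl fun χ hχ => by rw [h.degA χ hχ]
  have hB : ∑ χ ∈ B, (χ : G → ℂ) 1 * c χ = ((p - 1 : ℕ) : ℂ) * (∑ χ ∈ B, c χ : ℕ) := by
    rw [Nat.cast_sum, Finset.mul_sum]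
    exact Finset.sum_congr rfl fun χ hχ => by rw [h.degB χ hχ]
  have hY : ∑ χ ∈ Y, (χ : G → ℂ) 1 * c χ = (d : ℂ) * (∑ χ ∈ Y, c χ : ℕ) := by
    rw [Nat.cast_sum, Finset.mul_sum]
    exact Finset.sum_congr rfl fun χ hχ => by rw [h.degY χ hχ]
  have hZ : ∑ χ ∈ (ZZ A B Y)ᶜ, (χ : G → ℂ) 1 * c χ = (p : ℂ) * (∑ χ ∈ (ZZ A B Y)ᶜ, m χ * c χ : ℕ) := by
    rw [Nat.cast_sum, Finset.mul_sum]
    apply Finset.sum_congr rfl
    intro χ hχ
    rw [h.deg_out hm (Finset.mem_compl.1 hχ)]; push_cast; ring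
  rw [hA, hB, hY, hZ] at hT
  have hT' : 1 + ((1 + n * p) * ∑ χ ∈ A, c χ + (p - 1) * ∑ χ ∈ B, c χ + d * ∑ χ ∈ Y, c χ) + p * ∑ χ ∈ (ZZ A B Y)ᶜ, m χ * c χ = 1 + n * p := by
    exact_mod_cast hT
  have hA0 : ∑ χ ∈ A, c χ = 0 := by
    by_contra hne
    have h2 : 1 ≤ ∑ χ ∈ A, c χ := Nat.one_le_iff_ne_zero.2 hne
    nlinarith [Nat.zero_le ((p - 1) * ∑ χ ∈ B, c χ), Nat.zero_le (d * ∑ χ ∈ Y, c χ), Nat.zero_le (p * ∑ χ ∈ (ZZ A B Y)ᶜ, m χ * c χ),
      Nat.mul_le_mul_left (1 + n * p) h2]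
  have hcB : ∀ χ ∈ B, c χ = 0 := by
    intro χ hχ
    have := hcm χ
    rw [h.m_B hm hχ] at this
    omega
  have hB0 : ∑ χ ∈ B, c χ = 0 := Finset.sum_eq_zero hcB
  have hcY : ∀ χ ∈ Y, c χ = 0 := by
    rcases h.alt with ⟨hd, hS, ha, hb⟩ | ⟨ht2, htd, hS, ha, hb⟩
    · intro χ hχ
      have h2 : m χ = 0 := by
        have h3 := hm χ
        rw [phi_one, h.degY χ hχ, hS χ hχ, hd, add_neg_cancel, zero_div] at h3
        exact_mod_cast h3.symm
      have := hcm χ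
      omega
    · have hEq : ∀ χ ∈ Y, ∀ χ' ∈ Y, c χ = c χ' := by
        intro χ hχ χ' hχ'
        have h2 := hc χ
        have h3 := hc χ'
        have h4 : ∀ s : E, phi p P E (χ : G → ℂ) s = phi p P E (χ' : G → ℂ) s := by
          intro s
          by_cases hs : s = 1
          · rw [hs, phi_one, phi_one, h.degY χ hχ, h.degY χ' hχ', hS χ hχ, hS χ' hχ']
          · rw [phi_ne _ hs, phi_ne _ hs]
            exact h.regY χ hχ χ' hχ' s (h.reg s s.2)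
        rw [inner_one_right, Finset.sum_congr rfl fun s _ => h4 s, ← inner_one_right, h3] at h2
        exact_mod_cast h2.symm
      intro χ hχ
      have h5 : ∑ χ' ∈ Y, c χ' = t * c χ := by
        rw [Finset.sum_congr rfl fun χ' hχ' => hEq χ' hχ' χ hχ, Finset.sum_const, h.cY, smul_eq_mul]
      rw [h5] at hT'
      by_contra hne
      have h6 : 1 ≤ c χ := Nat.one_le_iff_ne_zero.2 hne
      have h7 : d * (t * c χ) = (1 + n * p) * c χ := by rw [← htd]; ring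
      rw [h7] at hT'
      nlinarith [Nat.zero_le ((p - 1) * ∑ χ ∈ B, c χ), Nat.zero_le ((1 + n * p) * ∑ χ ∈ A, c χ), Nat.zero_le (p * ∑ χ ∈ (ZZ A B Y)ᶜ, m χ * c χ),
        Nat.mul_le_mul_left (1 + n * p) h6]
  have hY0 : ∑ χ ∈ Y, c χ = 0 := Finset.sum_eq_zero hcY
  refine ⟨h1, fun χ hχ => ?_, hcB, hcY, ?_⟩
  · exact (Finset.sum_eq_zero_iff.1 hA0) χ hχ
  · rw [hA0, hB0, hY0] at hT'
    have h2 : ∑ χ ∈ (ZZ A B Y)ᶜ, m χ * c χ = n := by
      apply Nat.eq_of_mul_eq_mul_left hpp.pos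
      linarith
    have h3 := h.sum_sq hm
    have h4 : ∀ χ ∈ (ZZ A B Y)ᶜ, m χ * c χ = m χ ^ 2 := by
      have h5 : ∀ χ ∈ (ZZ A B Y)ᶜ, m χ * c χ ≤ m χ ^ 2 := fun χ _ => by rw [sq]; exact Nat.mul_le_mul_left _ (hcm χ)
      exact (Finset.sum_eq_sum_iff_of_le h5).1 (h2.trans h3.symm)
    intro χ hχ
    have h5 := h4 χ hχ
    rw [sq] at h5
    have h6 : 0 < m χ := by
      rw [Nat.pos_iff_ne_zero]
      intro h0
      have h7 := h.deg_out hm (Finset.mem_compl.1 hχ)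
      rw [h0, Nat.cast_zero, mul_zero] at h7
      exact irr_one_ne_zero χ.2 h7
    exact Nat.eq_of_mul_eq_mul_left h6 h5

/-- characters outside the block are constant on `E` -/
theorem Cfg.out_const (h : Cfg p n e t a b d P E A B Y) {m : IrrCharacter G → ℕ}
    (hm : ∀ χ : IrrCharacter G, phi p P E (χ : G → ℂ) 1 = m χ) {χ : IrrCharacter G} (hχ : χ ∉ ZZ A B Y) {s : G} (hs : s ∈ E) (hs1 : s ≠ 1) :
    (χ : G → ℂ) s = m χ := by
  letI : Fintype E := Fintype.ofFinite _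
  obtain ⟨c, m', hc, hm', hcm⟩ := h.exists_num
  have hmm : m' = m := by
    funext χ
    have := (hm' χ).symm.trans (hm χ)
    exact_mod_cast this
  subst hmm
  obtain ⟨-, -, -, -, h1⟩ := h.mults hc hm hcm
  have h2 := hc χ
  rw [h1 χ (Finset.mem_compl.2 hχ), ← hm χ] at h2
  have h3 := const_of_mult (h.char (χ : G → ℂ) (irr_isCharacter χ.2)) h2 ⟨s, hs⟩
  rw [phi_ne _ (fun h0 => hs1 (congrArg Subtype.val h0)), hm] at h3
  exact h3

/-- the number of fixed points -/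
theorem Cfg.fix (h : Cfg p n e t a b d P E A B Y) {s : G} (hs : s ∈ E) (hs1 : s ≠ 1) :
    Nat.card {x : G // x * s * x⁻¹ ∈ E} = e * (n + 1) := by
  classical
  letI : Fintype E := Fintype.ofFinite _
  obtain ⟨c, m, hc, hm, hcm⟩ := h.exists_num
  obtain ⟨h1, h2, h3, h4, h5⟩ := h.mults hc hm hcm
  have hT := h.T_ne hc hs hs1
  rw [h.sum_all, tr_apply, h1, Nat.cast_one, mul_one, Finset.sum_eq_zero (s := A) (fun χ hχ => by rw [h2 χ hχ]; simp),
    Finset.sum_eq_zero (s := B) (fun χ hχ => by rw [h3 χ hχ]; simp), Finset.sum_eq_zero (s := Y) (fun χ hχ => by rw [h4 χ hχ]; simp), add_zero, add_zero, add_zero] at hT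
  have h6 : ∑ χ ∈ (ZZ A B Y)ᶜ, (χ : G → ℂ) s * c χ = n := by
    rw [Finset.sum_congr rfl fun χ hχ => by rw [h.out_const hm (Finset.mem_compl.1 hχ) hs hs1, h5 χ hχ]]
    rw [← h.sum_sq hm]
    push_cast
    exact Finset.sum_congr rfl fun χ _ => by ring
  rw [h6] at hT
  rw [CfsgLib.Di11.card_fib s (fun y => y ∈ E)]
  have h7 : ((e * (n + 1) : ℕ) : ℂ) = ((Nat.card (centralizer ({s} : Set G)) * Nat.card {x : G // IsConj s x ∧ x ∈ E} : ℕ) : ℂ) := by
    push_cast; rw [← hT]; ring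
  exact (by exact_mod_cast h7.symm)

end
end CfsgLib.BR11
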