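import Cfsg.Agent.EqBase
import Cfsg.Agent.LibCharBasic3
import Cfsg.Agent.LibCharIndA
import Cfsg.Agent.LibCharInt2
/-!
# Constituents of characters (helper19)
-/
set_option autoImplicit false
set_option linter.all false
open Cfsg CfsgLib.CharBasic CfsgLib.CharIndA
open scoped ComplexConjugate
namespace CfsgLib.Con19

universe u v
variable {G : Type u} [Group G] [Fintype G]

theorem char_eq_zero_of_one {φ : G → ℂ} (h : IsCharacter G φ) (h1 : φ 1 = 0) : φ = 0 := by
  funext g
  have := char_norm_le h g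
  rw [h1, Complex.zero_re] at this
  simpa using le_antisymm this (norm_nonneg _)

theorem char_one_re_nonneg {φ : G → ℂ} (h : IsCharacter G φ) : 0 ≤ (φ 1).re := by
  obtain ⟨n, hn⟩ := char_one_nat h
  rw [hn]; simp

/-- subtracting a constituent -/
theorem sub_irr_char {φ χ : G → ℂ} (h : IsCharacter G φ) (hχ : IsIrrCharacter G χ)
    (hne : classInner φ χ ≠ 0) : IsCharacter G (φ - χ) := by
  rw [isCharacter_iff]
  refine ⟨classFun_sub (char_classFun h) (irr_classFun hχ), fun ψ hψ => ?_⟩
  obtain ⟨n, hn⟩ := char_mult h (irr_isCharacter hψ)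
  rw [CharBasic.inner_sub_left, hn]
  by_cases he : χ = ψ
  · subst he
    rw [irr_inner_self hχ]
    rw [hn] at hne
    have hn0 : n ≠ 0 := by
      intro h0; apply hne; rw [h0]; simp
    obtain ⟨m, rfl⟩ := Nat.exists_eq_succ_of_ne_zero hn0
    exact ⟨m, by push_cast; ring⟩
  · rw [irr_inner_ne hχ hψ he]
    exact ⟨n, by ring⟩

theorem eq_of_degree_le {φ χ : G → ℂ} (h : IsCharacter G φ) (hχ : IsIrrCharacter G χ)
    (hne : classInner φ χ ≠ 0) (hle : (φ 1).re ≤ (χ 1).re) : φ = χ := by
  have h1 := sub_irr_char h hχ hne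
  obtain ⟨n, hn⟩ := char_one_nat h1
  have h2 : ((φ - χ) 1).re ≤ 0 := by
    simp only [Pi.sub_apply, Complex.sub_re]; linarith
  rw [hn, Complex.natCast_re] at h2
  have h3 : n = 0 := by
    have : (n : ℝ) = 0 := le_antisymm h2 (Nat.cast_nonneg n)
    exact_mod_cast this
  rw [h3, Nat.cast_zero] at hn
  exact sub_eq_zero.1 (char_eq_zero_of_one h1 hn)

theorem exists_constituent {φ : G → ℂ} (h : IsCharacter G φ) (hne : φ ≠ 0) :
    ∃ χ : IrrCharacter G, classInner φ (χ : G → ℂ) ≠ 0 := by
  by_contra hno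
  push Not at hno
  apply hne
  rw [classFun_expand (char_classFun h)]
  exact Finset.sum_eq_zero fun χ _ => by rw [hno χ, zero_smul]

theorem irr_decomp {α β χ : G → ℂ} (hα : IsCharacter G α) (hβ : IsCharacter G β)
    (hχ : IsIrrCharacter G χ) (he : α + β = χ) : α = 0 ∨ β = 0 := by
  by_cases ha : α = 0
  · exact Or.inl ha
  right
  obtain ⟨ψ, hψ⟩ := exists_constituent hα ha
  have h1 : classInner χ (ψ : G → ℂ) = classInner α ψ + classInner β ψ := by
    rw [← he, CharBasic.inner_add_left]
  have hψχ : χ = ψ := by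
    by_contra hne
    rw [irr_inner_ne hχ ψ.2 hne] at h1
    obtain ⟨a, ha⟩ := char_mult hα (irr_isCharacter ψ.2)
    obtain ⟨b, hb⟩ := char_mult hβ (irr_isCharacter ψ.2)
    rw [ha] at hψ
    rw [ha, hb] at h1
    have h2 : ((a + b : ℕ) : ℂ) = 0 := by push_cast; exact h1.symm
    have h3 : a + b = 0 := by exact_mod_cast h2
    apply hψ
    have : a = 0 := by omega
    rw [this]; simp
  have h2 : α = χ := by
    rw [hψχ] at he ⊢
    apply eq_of_degree_le hα ψ.2 hψ
    have := char_one_re_nonneg hβ
    rw [← he]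
    simp only [Pi.add_apply, Complex.add_re]; linarith
  rw [h2] at he
  simpa using he

/-- a character that induces irreducibly is irreducible -/
theorem irr_of_ind_irr (H : Subgroup G) {θ : H → ℂ} (hθ : IsCharacter H θ)
    (hi : IsIrrCharacter G (indFun H θ)) : IsIrrCharacter H θ := by
  haveI : Fintype H := Fintype.ofFinite H
  have hne : θ ≠ 0 := by
    rintro rfl
    rw [ind_zero] at hi
    exact irr_ne_zero hi rfl
  obtain ⟨ψ, hψ⟩ := exists_constituent hθ hne
  have h1 := sub_irr_char hθ ψ.2 hψ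
  have h2 : indFun H (ψ : H → ℂ) + indFun H (θ - ψ) = indFun H θ := by
    rw [← ind_add]; congr 1; abel
  rcases irr_decomp (isCharacter_ind H (irr_isCharacter ψ.2)) (isCharacter_ind H h1) hi h2 with h | h
  · exfalso
    have := congrFun h 1
    rw [ind_one] at this
    rcases mul_eq_zero.1 this with h | h
    · exact H.index_ne_zero_of_finite (by exact_mod_cast h)
    · exact irr_one_ne_zero ψ.2 h
  · have := congrFun h 1
    rw [ind_one] at this
    rcases mul_eq_zero.1 this with h | h
    · exact absurd (by exact_mod_cast h) H.index_ne_zero_of_finite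
    · have h3 := char_eq_zero_of_one h1 h
      rw [sub_eq_zero.1 h3]
      exact ψ.2

end CfsgLib.Con19
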