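import Cfsg.Agent.EqBase
import Cfsg.Agent.LibBlockOrth
import Cfsg.Agent.LibBlockDefect
import Cfsg.Agent.LibGalChar2
import Cfsg.Agent.LibCores
import Cfsg.Agent.LibClassAlg
import Cfsg.Agent.LibCon19
/-!
# Normal p'-subgroups and blocks (helper19)
-/
set_option autoImplicit false
set_option linter.all false
open Cfsg CfsgLib.CharBasic
open scoped ComplexConjugate
namespace CfsgLib.PB19

universe u v
variable {G : Type u} [Group G] [Finite G] {p : ℕ} [hp : Fact p.Prime] {M : Ideal AlgInt}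

/-- characters in the same block contain the same normal `p'`-subgroups in their kernels -/
theorem ker_of_sameBlock (hM : IsPModular p M) (N : Subgroup G) [N.Normal] (hN : ¬ p ∣ Nat.card N)
    {χ ψ : IrrCharacter G} (h : SameBlock M (χ : G → ℂ) (ψ : G → ℂ)) (hχ : ∀ n ∈ N, (χ : G → ℂ) n = (χ : G → ℂ) 1) :
    ∀ n ∈ N, (ψ : G → ℂ) n = (ψ : G → ℂ) 1 := by
  classical
  haveI : Fintype G := Fintype.ofFinite G
  haveI : Fintype N := Fintype.ofFinite N
  have hMp := CfsgLib.BlockR.isPrime_of_modular hM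
  let a : G → ℂ := fun x => if x ∈ N then (Nat.card N : ℂ)⁻¹ else 0
  have ha : IsClassFunction G a := by
    intro x y
    have : y * x * y⁻¹ ∈ N ↔ x ∈ N := by
      constructor
      · intro h
        have := ‹N.Normal›.conj_mem _ h y⁻¹
        simpa [mul_assoc] using this
      · intro h; exact ‹N.Normal›.conj_mem _ h y
    simp only [a, this]
  let v : IrrCharacter G → ℂ := fun χ => CfsgLib.BlockCore.omg (χ : G → ℂ) a
  have hfou : CfsgLib.BlockCore.fou v = a := CfsgLib.BlockCore.fou_omg ha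
  have hAR : CfsgLib.BlockIdem.AR M v := by
    intro g
    rw [hfou]
    simp only [a]
    split_ifs
    · exact CfsgLib.BlockR.ring_inv_nat hM hN
    · exact CfsgLib.BlockR.ring_zero hMp
  have hv : ∀ φ : IrrCharacter G, v φ = if ∀ n ∈ N, (φ : G → ℂ) n = (φ : G → ℂ) 1 then 1 else 0 := by
    intro φ
    have h1 := CfsgLib.GalChar2.avg_irr N φ.2 1
    have h2 : v φ = (∑ x : G, a x * (φ : G → ℂ) x) / (φ : G → ℂ) 1 := rfl
    have h3 : ∑ x : G, a x * (φ : G → ℂ) x = (Nat.card N : ℂ)⁻¹ * ∑ n : N, (φ : G → ℂ) (n * 1) := by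
      rw [Finset.mul_sum]
      simp only [a, ite_mul, zero_mul, mul_one]
      rw [← Finset.sum_filter]
      rw [Finset.sum_subtype (Finset.univ.filter fun x : G => x ∈ N) (p := fun x => x ∈ N) (by intro x; simp)]
    rw [h2, h3, h1]
    split_ifs
    · exact div_self (irr_one_ne_zero φ.2)
    · exact zero_div _
  have h4 := CfsgLib.BlockIdem.sameBlock_val hMp hAR h
  by_contra hψ
  rw [hv χ, hv ψ, if_pos hχ, if_neg hψ, sub_zero] at h4
  exact CfsgLib.BlockR.not_ideal_one hMp h4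

/-- members of the principal block contain `O_{p'}(G)` in their kernels -/
theorem ker_principal (hM : IsPModular p M) {χ : IrrCharacter G} (hχ : χ ∈ principalBlock M G) :
    ∀ n ∈ pPrimeCore p G, (χ : G → ℂ) n = (χ : G → ℂ) 1 := by
  have h1 : ¬ p ∣ Nat.card (pPrimeCore p G) := by
    intro hd
    have h2 := CfsgLib.Cores.pPrimeCore_coprime (G := G) p
    have h3 := Nat.dvd_gcd hd (dvd_refl p)
    rw [h2] at h3
    exact hp.out.one_lt.ne' (Nat.dvd_one.1 h3)
  haveI : (pPrimeCore p G).Normal := inferInstance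
  haveI : Fintype G := Fintype.ofFinite G
  let e : IrrCharacter G := ⟨fun _ => 1, isIrrCharacter_one⟩
  exact ker_of_sameBlock hM (pPrimeCore p G) h1 (χ := e) (ψ := χ) hχ (fun n _ => rfl)

/-- the block projection of a class function vanishing on the `p`-section of `y` vanishes at `y` -/
theorem proj_section (hM : IsPModular p M) {B : Set (IrrCharacter G)} (hB : IsPBlock M B) [Fintype G] (c : G → ℂ)
    {y y' : G} (hy : IsPPart p y y')
    (hc : ∀ z z' : G, IsPPart p z z' → IsConj z' y' → c z = 0) :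
    ∑ᶠ χ ∈ B, (∑ z : G, c z * (χ : G → ℂ) z) * conj ((χ : G → ℂ) y) = 0 := by
  classical
  have h1 : ∑ᶠ χ ∈ B, (∑ z : G, c z * (χ : G → ℂ) z) * conj ((χ : G → ℂ) y) =
      ∑ z : G, c z * ∑ᶠ χ ∈ B, (χ : G → ℂ) z * conj ((χ : G → ℂ) y) := by
    rw [finsum_mem_eq_finite_toFinset_sum _ (Set.toFinite B)]
    have h2 : ∀ z : G, ∑ᶠ χ ∈ B, (χ : G → ℂ) z * conj ((χ : G → ℂ) y) = ∑ χ ∈ (Set.toFinite B).toFinset, (χ : G → ℂ) z * conj ((χ : G → ℂ) y) :=
      fun z => finsum_mem_eq_finite_toFinset_sum _ (Set.toFinite B)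
    simp only [h2, Finset.mul_sum, Finset.sum_mul]
    rw [Finset.sum_comm]
    exact Finset.sum_congr rfl fun z _ => Finset.sum_congr rfl fun χ _ => by ring
  rw [h1]
  apply Finset.sum_eq_zero
  intro z _
  obtain ⟨z', hz'⟩ := CfsgLib.BlockOrth.isPPart_exists p z
  by_cases hcon : IsConj z' y'
  · rw [hc z z' hz' hcon, zero_mul]
  · rw [CfsgLib.BlockOrth.block_orth_conj hM hB hz' hy hcon, mul_zero]

theorem isPPart_self {G : Type*} [Group G] {p : ℕ} [hp : Fact p.Prime] {y : G} (hy : ∃ k : ℕ, orderOf y = p ^ k) : IsPPart p y y :=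
  ⟨1, by simp, Commute.one_right y, hy, by rw [orderOf_one, Nat.dvd_one]; exact hp.out.ne_one⟩

end CfsgLib.PB19
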