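import Mathlib
import Cfsg.Agent.EqBase
import Cfsg.Prelude.Def_Blocks
import Cfsg.Agent.LibBlockCount2
import Cfsg.Agent.LibBlockReg
import Cfsg.Agent.LibGalChar
import Cfsg.Agent.LibPB19

/-!
# Inflation and blocks; Galois stability of the principal block (helper19)

* `infl_sameBlock`: same block in `G/N` implies same block in `G` (after inflation)
* `infl_sameBlock_iff`: equivalence when `N` is a `p'`-group
* `mem_principal_infl`
* `finsum_principal_infl`: sums over `B₀(G)` are sums over `B₀(G/N)` for `N` a normal `p'`-subgroup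
* `sameBlock_gal`: blocks are permuted by Galois automorphisms (same maximal ideal)
* `principal_gal`: the principal block is Galois stable
-/

set_option autoImplicit false
set_option linter.unusedSectionVars false
set_option linter.style.haveILetI false
set_option linter.unusedSimpArgs false

namespace CfsgLib.Infl19

open CfsgLib.CharInt hiding irr_isCharacter irr_classFun irr_one_ne_zero schur_scalar
open Cfsg CfsgLib.CharBasic CfsgLib.BlockR CfsgLib.BlockCore
  CfsgLib.BlockIdem CfsgLib.BlockIdeal CfsgLib.BlockBrauer CfsgLib.BlockCount2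
open scoped ComplexConjugate Pointwise

universe u

variable {M : Ideal AlgInt} {p : ℕ} [Fact p.Prime] {G : Type u} [Group G] [Finite G]

theorem infl_sameBlock (hM : IsPModular p M) (N : Subgroup G) [N.Normal] {ξ ξ' : IrrCharacter (G ⧸ N)}
    (h : SameBlock M (ξ : G ⧸ N → ℂ) (ξ' : G ⧸ N → ℂ)) :
    SameBlock M (infl N ξ : G → ℂ) (infl N ξ' : G → ℂ) := by
  classical
  letI := Fintype.ofFinite G
  letI : Fintype (G ⧸ N) := Fintype.ofFinite _
  have hp := isPrime_of_modular hM
  intro g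
  rw [centralChar_eq_omg, centralChar_eq_omg, omg_infl, omg_infl]
  exact omg_sameBlock hp h (push_classFun N (isClassFunction_cInd g)) (push_ring hp N (cInd_ring hp g))

theorem infl_sameBlock_iff (hM : IsPModular p M) (N : Subgroup G) [N.Normal] (hN : ¬ p ∣ Nat.card N)
    {ξ ξ' : IrrCharacter (G ⧸ N)} :
    SameBlock M (infl N ξ : G → ℂ) (infl N ξ' : G → ℂ) ↔
      SameBlock M (ξ : G ⧸ N → ℂ) (ξ' : G ⧸ N → ℂ) := by
  classical
  letI := Fintype.ofFinite G
  letI : Fintype (G ⧸ N) := Fintype.ofFinite _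
  have hp := isPrime_of_modular hM
  refine ⟨fun h => ?_, infl_sameBlock hM N⟩
  intro y
  set a : G → ℂ := fun x => cInd y (x : G ⧸ N) with ha
  have hacf : IsClassFunction G a := by
    intro x g
    simp only [ha, QuotientGroup.mk_mul, QuotientGroup.mk_inv]
    exact isClassFunction_cInd y (x : G ⧸ N) (g : G ⧸ N)
  have haR : ∀ x, MemLocalRing M (a x) := fun x => cInd_ring hp y _
  have h1 := omg_sameBlock hp h hacf haR
  have h2 : ∀ ζ : IrrCharacter (G ⧸ N), omg (infl N ζ : G → ℂ) a =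
      (Nat.card N : ℂ) * centralChar (ζ : G ⧸ N → ℂ) y := by
    intro ζ
    rw [centralChar_eq_omg]
    unfold omg
    have h3 : ∑ x : G, a x * (infl N ζ : G → ℂ) x = (Nat.card N : ℂ) * ∑ q : G ⧸ N, cInd y q * (ζ : G ⧸ N → ℂ) q :=
      CfsgLib.Quot19.sum_quot N (fun q : G ⧸ N => cInd y q * (ζ : G ⧸ N → ℂ) q)
    rw [h3, infl_one, mul_div_assoc]
  rw [h2, h2, ← mul_sub] at h1
  rcases ideal_prime hp (ring_nat hp _) (ring_sub hp (centralChar_ring hp ξ y) (centralChar_ring hp ξ' y)) h1 with h | h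
  · exact absurd ((ideal_nat_iff hM).1 h) hN
  · exact h

/-- the trivial character -/
theorem one_irr : IsIrrCharacter G (fun _ : G => (1 : ℂ)) := by
  haveI := Fintype.ofFinite G
  exact isIrrCharacter_one

theorem mem_principal_infl (hM : IsPModular p M) (N : Subgroup G) [N.Normal] (hN : ¬ p ∣ Nat.card N)
    (ξ : IrrCharacter (G ⧸ N)) : infl N ξ ∈ principalBlock M G ↔ ξ ∈ principalBlock M (G ⧸ N) := by
  have h1 := infl_sameBlock_iff hM N hN (ξ := (⟨fun _ => 1, one_irr⟩ : IrrCharacter (G ⧸ N))) (ξ' := ξ)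
  exact h1

/-- characters of the principal block are inflated from the quotient by a normal `p'`-subgroup -/
theorem exists_infl (hM : IsPModular p M) (N : Subgroup G) [N.Normal] (hN : ¬ p ∣ Nat.card N)
    {χ : IrrCharacter G} (hχ : χ ∈ principalBlock M G) :
    ∃ ξ ∈ principalBlock M (G ⧸ N), infl N ξ = χ := by
  classical
  letI := Fintype.ofFinite G
  have h1 : ∀ n ∈ N, (χ : G → ℂ) n = (χ : G → ℂ) 1 :=
    CfsgLib.PB19.ker_of_sameBlock hM N hN (χ := (⟨fun _ => 1, one_irr⟩ : IrrCharacter G)) (ψ := χ) hχ (fun n _ => rfl)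
  obtain ⟨χ', h2, h3⟩ := CfsgLib.Quot19.irr_deflate N χ.2 h1
  have h4 : infl N ⟨χ', h2⟩ = χ := by
    apply Subtype.ext
    funext g
    exact h3 g
  refine ⟨⟨χ', h2⟩, ?_, h4⟩
  rw [← mem_principal_infl hM N hN, h4]
  exact hχ

theorem principal_eq_image (hM : IsPModular p M) (N : Subgroup G) [N.Normal] (hN : ¬ p ∣ Nat.card N) :
    principalBlock M G = infl N '' (principalBlock M (G ⧸ N)) := by
  ext χ
  constructor
  · intro hχ
    obtain ⟨ξ, h1, h2⟩ := exists_infl hM N hN hχ
    exact ⟨ξ, h1, h2⟩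
  · rintro ⟨ξ, h1, rfl⟩
    exact (mem_principal_infl hM N hN ξ).2 h1

theorem finsum_principal_infl {R : Type*} [AddCommMonoid R] (hM : IsPModular p M) (N : Subgroup G) [N.Normal]
    (hN : ¬ p ∣ Nat.card N) (F : IrrCharacter G → R) :
    ∑ᶠ χ ∈ principalBlock M G, F χ = ∑ᶠ ξ ∈ principalBlock M (G ⧸ N), F (infl N ξ) := by
  rw [principal_eq_image hM N hN, finsum_mem_image (Set.injOn_of_injective (infl_injective N))]

/-! ### Galois action -/

/-- a field automorphism acting on the algebraic integers -/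
noncomputable def galInt (σ : ℂ ≃+* ℂ) : AlgInt →+* AlgInt :=
  RingHom.codRestrict ((σ : ℂ →+* ℂ).comp (algebraMap AlgInt ℂ)) AlgInt (fun x => by
    have h1 : IsIntegral ℤ (x : ℂ) := x.2
    exact map_isIntegral_int (σ : ℂ →+* ℂ) h1)

theorem galInt_coe (σ : ℂ ≃+* ℂ) (x : AlgInt) : ((galInt σ x : AlgInt) : ℂ) = σ (x : ℂ) := rfl

theorem galInt_surj (σ : ℂ ≃+* ℂ) : Function.Surjective (galInt σ) := by
  intro y
  refine ⟨galInt σ.symm y, ?_⟩
  apply Subtype.ext
  rw [galInt_coe, galInt_coe, RingEquiv.apply_symm_apply]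

theorem comap_modular (hM : IsPModular p M) (σ : ℂ ≃+* ℂ) : IsPModular p (M.comap (galInt σ)) := by
  refine ⟨hM.1, ?_, ?_⟩
  · haveI := hM.2.1
    exact Ideal.comap_isMaximal_of_surjective _ (galInt_surj σ)
  · rw [Ideal.mem_comap, map_natCast]
    exact hM.2.2

theorem ideal_gal {σ : ℂ ≃+* ℂ} {z : ℂ} (h : MemLocalIdeal (M.comap (galInt σ)) z) : MemLocalIdeal M (σ z) := by
  obtain ⟨a, b, ha, hb, rfl⟩ := h
  refine ⟨galInt σ a, galInt σ b, ha, hb, ?_⟩
  rw [galInt_coe, galInt_coe, map_div₀]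

theorem centralChar_gal (σ : ℂ ≃+* ℂ) (χ : IrrCharacter G) (g : G) :
    centralChar (CfsgLib.GalChar.galIrr σ χ : G → ℂ) g = σ (centralChar (χ : G → ℂ) g) := by
  unfold centralChar
  rw [CfsgLib.GalChar.galIrr_apply, CfsgLib.GalChar.galIrr_apply, map_div₀, map_mul, map_natCast]

/-- Galois conjugates of characters in the same block are in the same block -/
theorem sameBlock_gal (hM : IsPModular p M) (σ : ℂ ≃+* ℂ) {χ ψ : IrrCharacter G}
    (h : SameBlock M (χ : G → ℂ) (ψ : G → ℂ)) :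
    SameBlock M (CfsgLib.GalChar.galIrr σ χ : G → ℂ) (CfsgLib.GalChar.galIrr σ ψ : G → ℂ) := by
  have h1 := CfsgLib.BlockReg.sameBlock_indep hM (comap_modular hM σ) h
  intro g
  rw [centralChar_gal, centralChar_gal, ← map_sub]
  exact ideal_gal (h1 g)

theorem principal_gal (hM : IsPModular p M) (σ : ℂ ≃+* ℂ) {χ : IrrCharacter G} :
    CfsgLib.GalChar.galIrr σ χ ∈ principalBlock M G ↔ χ ∈ principalBlock M G := by
  have key : ∀ (τ : ℂ ≃+* ℂ) (ψ : IrrCharacter G), ψ ∈ principalBlock M G →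
      CfsgLib.GalChar.galIrr τ ψ ∈ principalBlock M G := by
    intro τ ψ hψ
    have h1 := sameBlock_gal hM τ (χ := (⟨fun _ => 1, one_irr⟩ : IrrCharacter G)) (ψ := ψ) hψ
    have h2 : CfsgLib.GalChar.galIrr τ (⟨fun _ => 1, one_irr⟩ : IrrCharacter G) =
        (⟨fun _ => 1, one_irr⟩ : IrrCharacter G) := by
      apply Subtype.ext
      funext g
      rw [CfsgLib.GalChar.galIrr_apply]
      exact map_one τ
    rw [h2] at h1
    exact h1
  constructor
  · intro h
    have h1 := key σ.symm _ h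
    have h2 : CfsgLib.GalChar.galIrr σ.symm (CfsgLib.GalChar.galIrr σ χ) = χ := by
      apply Subtype.ext
      funext g
      rw [CfsgLib.GalChar.galIrr_apply, CfsgLib.GalChar.galIrr_apply, RingEquiv.symm_apply_apply]
    rwa [h2] at h1
  · exact key σ χ

/-- `Σ_{χ ∈ B₀} |χ(x)|²` is an integer -/
theorem principal_norm_int (hM : IsPModular p M) (x : G) :
    ∃ m : ℤ, ∑ᶠ χ ∈ principalBlock M G, (χ : G → ℂ) x * conj ((χ : G → ℂ) x) = (m : ℂ) := by
  classical
  letI := Fintype.ofFinite G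
  rw [finsum_mem_eq_finite_toFinset_sum _ (Set.toFinite _)]
  apply CfsgLib.GalChar.exists_int_of_fixed
  · apply IsIntegral.sum
    intro χ _
    rw [← char_inv_eq_conj (irr_isCharacter χ.2)]
    exact (CfsgLib.CharInt.irr_isIntegral χ.2 x).mul (CfsgLib.CharInt.irr_isIntegral χ.2 x⁻¹)
  · intro σ
    rw [map_sum]
    refine Finset.sum_equiv (CfsgLib.GalChar.galIrr σ) ?_ ?_
    · intro χ
      rw [Set.Finite.mem_toFinset, Set.Finite.mem_toFinset, principal_gal hM]
    · intro χ _
      rw [← char_inv_eq_conj (irr_isCharacter χ.2), ← char_inv_eq_conj (irr_isCharacter (CfsgLib.GalChar.galIrr σ χ).2),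
        CfsgLib.GalChar.galIrr_apply, CfsgLib.GalChar.galIrr_apply, map_mul]

theorem core_not_dvd (p : ℕ) [hp : Fact p.Prime] (G : Type u) [Group G] [Finite G] :
    ¬ p ∣ Nat.card (pPrimeCore p G) := by
  intro hd
  have h2 := CfsgLib.Cores.pPrimeCore_coprime (G := G) p
  have h3 := Nat.dvd_gcd hd (dvd_refl p)
  rw [h2] at h3
  exact hp.out.one_lt.ne' (Nat.dvd_one.1 h3)

end CfsgLib.Infl19
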