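import Mathlib
import Cfsg.Agent.EqBase
import Cfsg.Prelude.Def_Blocks
import Cfsg.Agent.LibInfl19

/-!
# Kernel of the principal block (helper19)

* `mem_core_iff`: `g ∈ O_{p'}(G)` iff `χ g = χ 1` for all `χ ∈ B₀`
* `mem_core_of_sum`: if `Σ_{χ∈B₀} χ(1) χ̄(x) = Σ_{χ∈B₀} χ(1)²` then `x ∈ O_{p'}(G)`
-/

set_option autoImplicit false
set_option linter.unusedSectionVars false
set_option linter.style.haveILetI false
set_option linter.unusedSimpArgs false

namespace CfsgLib.PBker19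

open CfsgLib.CharInt hiding irr_isCharacter irr_classFun irr_one_ne_zero schur_scalar
open Cfsg CfsgLib.CharBasic CfsgLib.BlockR CfsgLib.BlockCore
  CfsgLib.BlockIdem CfsgLib.Infl19
open scoped ComplexConjugate Pointwise

universe u

variable {M : Ideal AlgInt} {p : ℕ} [Fact p.Prime] {G : Type u} [Group G] [Finite G]

theorem one_mem_principal (hM : IsPModular p M) :
    (⟨fun _ => 1, one_irr⟩ : IrrCharacter G) ∈ principalBlock M G := by
  change SameBlock M (fun _ : G => (1:ℂ)) (fun _ : G => (1 : ℂ))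
  exact sameBlock_refl (isPrime_of_modular hM) _

theorem principal_isBlock (M : Ideal AlgInt) : IsPBlock M (principalBlock M G) :=
  ⟨⟨fun _ => 1, one_irr⟩, rfl⟩

theorem re_le (χ : IrrCharacter G) (x : G) :
    ((χ : G → ℂ) 1 * conj ((χ : G → ℂ) x)).re ≤ ((χ : G → ℂ) 1 * conj ((χ : G → ℂ) 1)).re := by
  haveI := Fintype.ofFinite G
  obtain ⟨n, hn, h1⟩ := irr_one_nat χ.2
  have h2 := char_norm_le (irr_isCharacter χ.2) x
  rw [h1] at h2 ⊢
  have h3 : ((χ : G → ℂ) x).re ≤ n := by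
    refine (Complex.re_le_norm _).trans ?_
    simpa using h2
  have h4 : ((n : ℂ) * conj ((χ : G → ℂ) x)).re = n * ((χ : G → ℂ) x).re := by
    simp [Complex.mul_re]
  have h5 : ((n : ℂ) * conj (n : ℂ)).re = n * (n : ℝ) := by
    simp [Complex.mul_re]
  rw [h4, h5]
  exact mul_le_mul_of_nonneg_left h3 (by positivity)

theorem eq_of_re_eq (χ : IrrCharacter G) (x : G)
    (h : ((χ : G → ℂ) 1 * conj ((χ : G → ℂ) x)).re = ((χ : G → ℂ) 1 * conj ((χ : G → ℂ) 1)).re) :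
    (χ : G → ℂ) x = (χ : G → ℂ) 1 := by
  haveI := Fintype.ofFinite G
  obtain ⟨n, hn, h1⟩ := irr_one_nat χ.2
  have h2 := char_norm_le (irr_isCharacter χ.2) x
  rw [h1] at h h2 ⊢
  have h4 : ((n : ℂ) * conj ((χ : G → ℂ) x)).re = n * ((χ : G → ℂ) x).re := by
    simp [Complex.mul_re]
  have h5 : ((n : ℂ) * conj (n : ℂ)).re = n * (n : ℝ) := by
    simp [Complex.mul_re]
  rw [h4, h5] at h
  have hn' : (n : ℝ) ≠ 0 := by exact_mod_cast hn.ne'
  have h6 : ((χ : G → ℂ) x).re = n := mul_left_cancel₀ hn' h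
  have h7 : ‖(χ : G → ℂ) x‖ ≤ n := by simpa using h2
  have h8 : ((χ : G → ℂ) x).im = 0 := by
    have h9 : ‖(χ : G → ℂ) x‖ ^ 2 = ((χ : G → ℂ) x).re ^ 2 + ((χ : G → ℂ) x).im ^ 2 := by
      rw [Complex.sq_norm, Complex.normSq_apply]; ring
    have h10 : ‖(χ : G → ℂ) x‖ ^ 2 ≤ (n : ℝ) ^ 2 := pow_le_pow_left₀ (norm_nonneg _) h7 2
    rw [h9, h6] at h10
    nlinarith [sq_nonneg ((χ : G → ℂ) x).im]
  apply Complex.ext
  · rw [h6]; simp
  · rw [h8]; simp

/-- if `Σ_{χ ∈ B} χ(1) χ̄(x) = Σ_{χ ∈ B} χ(1)²` then `x` is in the kernel of all `χ ∈ B` -/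
theorem ker_of_sum (B : Set (IrrCharacter G)) (x : G)
    (h : ∑ᶠ χ ∈ B, (χ : G → ℂ) 1 * conj ((χ : G → ℂ) x) = ∑ᶠ χ ∈ B, (χ : G → ℂ) 1 * conj ((χ : G → ℂ) 1)) :
    ∀ χ ∈ B, (χ : G → ℂ) x = (χ : G → ℂ) 1 := by
  classical
  rw [finsum_mem_eq_finite_toFinset_sum _ (Set.toFinite B), finsum_mem_eq_finite_toFinset_sum _ (Set.toFinite B)] at h
  have h1 := congrArg Complex.re h
  rw [Complex.re_sum, Complex.re_sum] at h1
  have h2 := (Finset.sum_eq_sum_iff_of_le (fun χ (_ : χ ∈ (Set.toFinite B).toFinset) => re_le χ x)).1 h1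
  intro χ hχ
  exact eq_of_re_eq χ x (h2 χ (by simpa using hχ))

theorem sum_pos_ne {B : Set (IrrCharacter G)} (hB : B.Nonempty) :
    ∑ᶠ χ ∈ B, (χ : G → ℂ) 1 * conj ((χ : G → ℂ) 1) ≠ 0 := by
  classical
  haveI := Fintype.ofFinite G
  rw [finsum_mem_eq_finite_toFinset_sum _ (Set.toFinite B)]
  intro h
  have h1 := congrArg Complex.re h
  rw [Complex.re_sum, Complex.zero_re] at h1
  have h2 : ∀ χ : IrrCharacter G, 0 < ((χ : G → ℂ) 1 * conj ((χ : G → ℂ) 1)).re := by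
    intro χ
    obtain ⟨n, hn, h1⟩ := irr_one_nat χ.2
    rw [h1]
    simp only [map_natCast, Complex.mul_re, Complex.natCast_re, Complex.natCast_im, mul_zero, sub_zero]
    positivity
  obtain ⟨χ, hχ⟩ := hB
  have h3 : 0 < ∑ χ ∈ (Set.toFinite B).toFinset, ((χ : G → ℂ) 1 * conj ((χ : G → ℂ) 1)).re :=
    Finset.sum_pos (fun χ _ => h2 χ) ⟨χ, by simpa using hχ⟩
  linarith

/-- the common kernel of the principal block is `O_{p'}(G)` -/
theorem mem_core_iff (hM : IsPModular p M) (g : G) :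
    g ∈ pPrimeCore p G ↔ ∀ χ ∈ principalBlock M G, (χ : G → ℂ) g = (χ : G → ℂ) 1 := by
  classical
  haveI := Fintype.ofFinite G
  refine ⟨fun hg χ hχ => CfsgLib.PB19.ker_principal hM hχ g hg, ?_⟩
  have hex : ∀ χ : IrrCharacter G, ∃ K : Subgroup G, K.Normal ∧ ∀ g, g ∈ K ↔ (χ : G → ℂ) g = (χ : G → ℂ) 1 :=
    fun χ => exists_kernel (irr_isCharacter χ.2)
  choose κ hκn hκ using hex
  set K : Subgroup G := ⨅ χ ∈ principalBlock M G, κ χ with hK
  have hmem : ∀ g, g ∈ K ↔ ∀ χ ∈ principalBlock M G, (χ : G → ℂ) g = (χ : G → ℂ) 1 := by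
    intro g
    simp only [hK, Subgroup.mem_iInf, hκ]
  have hKn : K.Normal := by
    constructor
    intro n hn g
    rw [hmem] at hn ⊢
    intro χ hχ
    rw [irr_classFun χ.2 n g]
    exact hn χ hχ
  have hcop : (Nat.card K).Coprime p := by
    rw [Nat.coprime_comm, Nat.Prime.coprime_iff_not_dvd Fact.out]
    intro hd
    obtain ⟨k, hk⟩ := exists_prime_orderOf_dvd_card' (G := K) p hd
    have h1 : p ∣ orderOf (k : G) := by rw [Subgroup.orderOf_coe, hk]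
    have h2 := CfsgLib.BlockOrth.weak_block_orth hM (principal_isBlock M) (x := (1 : G))
      (by rw [orderOf_one, Nat.dvd_one]; exact (Fact.out : p.Prime).ne_one) h1
    have h3 : ∑ᶠ χ ∈ principalBlock M G, (χ : G → ℂ) 1 * conj ((χ : G → ℂ) k) =
        ∑ᶠ χ ∈ principalBlock M G, (χ : G → ℂ) 1 * conj ((χ : G → ℂ) 1) := by
      apply finsum_mem_congr rfl
      intro χ hχ
      rw [(hmem k).1 k.2 χ hχ]
    rw [h3] at h2
    exact sum_pos_ne ⟨_, one_mem_principal hM⟩ h2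
  intro h
  exact CfsgLib.Cores.le_pPrimeCore hKn hcop ((hmem g).2 h)

theorem mem_core_of_sum (hM : IsPModular p M) (x : G)
    (h : ∑ᶠ χ ∈ principalBlock M G, (χ : G → ℂ) 1 * conj ((χ : G → ℂ) x) =
      ∑ᶠ χ ∈ principalBlock M G, (χ : G → ℂ) 1 * conj ((χ : G → ℂ) 1)) : x ∈ pPrimeCore p G :=
  (mem_core_iff hM x).2 (ker_of_sum _ x h)

end CfsgLib.PBker19
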