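import Mathlib
import Cfsg.Agent.EqBase
import Cfsg.Prelude.Def_Blocks
import Cfsg.Agent.LibBlockOrth2
import Cfsg.Agent.LibBlockH

/-!
# Sections of `p`-elements and blocks of the centralizer (helper19)

For a `p`-element `y` with centralizer `C`, and `χ : G → ℂ`, `tr y χ c = χ (y c)` on `C`.

* `sum_blockPart`: `Σ_χ (tr χ)_b(c) χ̄(y c') = Σ_{ψ ∈ b} ψ(c) ψ̄(c')` for `p`-regular `c, c'`
* `tr_eq_sum`: `χ(y c) = Σ_{b^G = B} (tr χ)_b(c)` for `χ ∈ B`
* `principal_section`: `Σ_{χ∈B₀(G)} χ(yc) χ̄(yc') = Σ_{ψ∈B₀(C)} ψ(c) ψ̄(c')`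
-/

set_option autoImplicit false
set_option linter.unusedSectionVars false
set_option linter.style.haveILetI false
set_option linter.unusedSimpArgs false

namespace CfsgLib.Sec19

open Cfsg CfsgLib.CharInt CfsgLib.CharInt2 CfsgLib.BlockR CfsgLib.BlockCore
  CfsgLib.BlockIdem CfsgLib.BlockOrth
open scoped ComplexConjugate Pointwise

universe u

variable {G : Type u} [Group G] [Finite G] {M : Ideal AlgInt} {p : ℕ} [Fact p.Prime]

/-- the centralizer of an element -/
abbrev Cz (y : G) : Subgroup G := Subgroup.centralizer ({y} : Set G)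

/-- translate by `y` -/
def tr (y : G) (χ : G → ℂ) : Subgroup.centralizer ({y} : Set G) → ℂ := fun c => χ (y * (c : G))

theorem tr_classFun {y : G} {χ : G → ℂ} (h : IsClassFunction G χ) :
    IsClassFunction (Subgroup.centralizer ({y} : Set G)) (tr y χ) := translate_classFun h

theorem comm_cent {y : G} (c : Subgroup.centralizer ({y} : Set G)) : (c : G) * y = y * (c : G) := by
  have := Subgroup.mem_centralizer_singleton_iff.1 c.2
  first
    | exact this
    | exact this.symm

theorem mem_cent {y c : G} (h : c * y = y * c) : c ∈ Subgroup.centralizer ({y} : Set G) := by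
  rw [Subgroup.mem_centralizer_singleton_iff]
  first
    | exact h
    | exact h.symm

theorem isPPart_tr {y : G} (hy : ∃ k : ℕ, orderOf y = p ^ k) {c : Subgroup.centralizer ({y} : Set G)}
    (hc : ¬ p ∣ orderOf c) : IsPPart p (y * (c : G)) y :=
  isPPart_mul hy (by rwa [Subgroup.orderOf_coe]) (comm_cent c).symm

/-- second orthogonality in counting form -/
theorem column_count [Fintype G] [DecidableEq G] (g h : G) :
    ∑ χ : IrrCharacter G, (χ : G → ℂ) g * conj ((χ : G → ℂ) h) =
      ∑ x : G, if x * g * x⁻¹ = h then (1 : ℂ) else 0 := by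
  classical
  rw [CfsgLib.CharBasic.column_orthogonality]
  rw [← Finset.sum_filter, Finset.sum_const, nsmul_eq_mul, mul_one]
  split_ifs with hc
  · obtain ⟨z, hz⟩ := isConj_iff.1 hc
    congr 1
    rw [Nat.card_eq_fintype_card, ← Finset.card_univ]
    symm
    refine Finset.card_bij' (fun x _ => (⟨x⁻¹ * z, ?_⟩ : Subgroup.centralizer ({g} : Set G)))
      (fun c _ => z * (c : G)⁻¹) ?_ ?_ ?_ ?_
    · apply mem_cent
      rename_i x hx
      rw [Finset.mem_filter] at hx
      have h1 : x * g * x⁻¹ = z * g * z⁻¹ := by rw [hx.2, hz]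
      calc x⁻¹ * z * g = x⁻¹ * (z * g * z⁻¹) * z := by group
        _ = x⁻¹ * (x * g * x⁻¹) * z := by rw [h1]
        _ = _ := by group
    · intro x _
      exact Finset.mem_univ _
    · intro c _
      rw [Finset.mem_filter]
      refine ⟨Finset.mem_univ _, ?_⟩
      have h1 := comm_cent c
      have h2 : (c : G)⁻¹ * g * c = g := by
        rw [mul_assoc, ← h1]; group
      calc z * (c : G)⁻¹ * g * (z * (c : G)⁻¹)⁻¹ = z * ((c : G)⁻¹ * g * c) * z⁻¹ := by group
        _ = h := by rw [h2, hz]
    · intro x _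
      simp
    · intro c _
      apply Subtype.ext
      simp
  · have : (Finset.univ.filter (fun x : G => x * g * x⁻¹ = h)) = ∅ := by
      rw [Finset.filter_eq_empty_iff]
      intro x _ hx
      exact hc (isConj_iff.2 ⟨x, hx⟩)
    rw [this]
    simp

/-- the key formula -/
theorem sum_blockPart [Fintype G] (hM : IsPModular p M) {y : G} (hy : ∃ k : ℕ, orderOf y = p ^ k)
    {b : Set (IrrCharacter (Subgroup.centralizer ({y} : Set G)))} (hb : IsPBlock M b)
    {c c' : Subgroup.centralizer ({y} : Set G)} (hc : ¬ p ∣ orderOf c) (hc' : ¬ p ∣ orderOf c') :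
    ∑ χ : IrrCharacter G, blockPart b (tr y (χ : G → ℂ)) c * conj ((χ : G → ℂ) (y * (c' : G))) =
      ∑ᶠ ψ ∈ b, (ψ : Subgroup.centralizer ({y} : Set G) → ℂ) c *
        conj ((ψ : Subgroup.centralizer ({y} : Set G) → ℂ) c') := by
  classical
  letI : Fintype (Subgroup.centralizer ({y} : Set G)) := Fintype.ofFinite _
  set S : (Cz y) → ℂ := fun d => ∑ᶠ ψ ∈ b, (ψ : (Cz y) → ℂ) c * conj ((ψ : (Cz y) → ℂ) d) with hS
  have hCne : (Nat.card (Cz y) : ℂ) ≠ 0 := by exact_mod_cast Nat.card_pos.ne'
  have hScf : ∀ (d x : (Cz y)), S (x * d * x⁻¹) = S d := by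
    intro d x
    simp only [hS]
    refine finsum_mem_congr rfl fun ψ _ => ?_
    rw [CfsgLib.CharInt.irr_classFun ψ.2]
  have hS0 : ∀ d : (Cz y), p ∣ orderOf d → S d = 0 := fun d hd => weak_block_orth hM hb hc hd
  simp only [blockPart_eq_sum, ← hS]
  calc ∑ χ : IrrCharacter G, (Nat.card (Cz y) : ℂ)⁻¹ * (∑ g : (Cz y), tr y (χ : G → ℂ) g * S g) * conj ((χ : G → ℂ) (y * (c' : G)))
      = (Nat.card (Cz y) : ℂ)⁻¹ * ∑ g : (Cz y), S g * ∑ χ : IrrCharacter G, (χ : G → ℂ) (y * (g : G)) * conj ((χ : G → ℂ) (y * (c' : G))) := by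
        simp only [Finset.mul_sum, Finset.sum_mul]
        rw [Finset.sum_comm]
        refine Finset.sum_congr rfl fun g _ => Finset.sum_congr rfl fun χ _ => ?_
        simp only [tr]
        ring
    _ = (Nat.card (Cz y) : ℂ)⁻¹ * ∑ g : (Cz y), S g * ∑ x : (Cz y), if x * g * x⁻¹ = c' then (1 : ℂ) else 0 := by
        congr 1
        refine Finset.sum_congr rfl fun g _ => ?_
        by_cases hg : p ∣ orderOf g
        · rw [hS0 g hg, zero_mul, zero_mul]
        congr 1
        rw [column_count]
        rw [← Finset.sum_filter, ← Finset.sum_filter, Finset.sum_const, Finset.sum_const]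
        congr 1
        symm
        refine Finset.card_bij (fun x _ => (x : G)) ?_ ?_ ?_
        · intro x hx
          rw [Finset.mem_filter] at hx ⊢
          refine ⟨Finset.mem_univ _, ?_⟩
          have h1 := congrArg Subtype.val hx.2
          simp only [Subgroup.coe_mul, Subgroup.coe_inv] at h1
          have h2 := comm_cent x
          rw [← h1]
          rw [← mul_assoc (x : G) y, h2]
          group
        · intro x _ x' _ h
          exact Subtype.ext h
        · intro x hx
          rw [Finset.mem_filter] at hx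
          have h1 := isPPart_tr hy hg
          have h2 := isPPart_conj h1 x
          have h3 := isPPart_tr hy hc'
          rw [hx.2] at h2
          have h4 : x * y * x⁻¹ = y := isPPart_unique h2 h3
          have h5 : x * y = y * x := by
            calc x * y = (x * y * x⁻¹) * x := by group
              _ = y * x := by rw [h4]
          refine ⟨⟨x, mem_cent h5⟩, ?_, rfl⟩
          rw [Finset.mem_filter]
          refine ⟨Finset.mem_univ _, ?_⟩
          apply Subtype.ext
          simp only [Subgroup.coe_mul, Subgroup.coe_inv]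
          have h6 := hx.2
          rw [← mul_assoc, h5] at h6
          have h7 : y * (x * (g : G) * x⁻¹) = y * (c' : G) := by rw [← h6]; group
          exact mul_left_cancel h7
    _ = S c' := by
        have h1 : ∀ g : (Cz y), S g * ∑ x : (Cz y), (if x * g * x⁻¹ = c' then (1 : ℂ) else 0) =
            ∑ x : (Cz y), if x * g * x⁻¹ = c' then S c' else 0 := by
          intro g
          rw [Finset.mul_sum]
          refine Finset.sum_congr rfl fun x _ => ?_
          split_ifs with h
          · rw [mul_one, ← h, hScf]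
          · rw [mul_zero]
        rw [Finset.sum_congr rfl fun g _ => h1 g, Finset.sum_comm]
        have h2 : ∀ x : (Cz y), ∑ g : (Cz y), (if x * g * x⁻¹ = c' then S c' else 0) = S c' := by
          intro x
          rw [Finset.sum_eq_single (x⁻¹ * c' * x)]
          · rw [if_pos (by group)]
          · intro g _ hg
            rw [if_neg]
            intro h
            apply hg
            rw [← h]; group
          · intro h; exact absurd (Finset.mem_univ _) h
        rw [Finset.sum_congr rfl fun x _ => h2 x, Finset.sum_const, nsmul_eq_mul, Finset.card_univ,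
          ← Nat.card_eq_fintype_card, ← mul_assoc, inv_mul_cancel₀ hCne, one_mul]

/-- for `χ` in the principal block, `χ(yc)` is the value of the principal block part -/
theorem principal_part (hM : IsPModular p M) {y : G} (hy : ∃ k : ℕ, orderOf y = p ^ k)
    {χ : IrrCharacter G} (hχ : χ ∈ principalBlock M G)
    {c : Subgroup.centralizer ({y} : Set G)} (hc : ¬ p ∣ orderOf c) :
    blockPart (principalBlock M (Subgroup.centralizer ({y} : Set G))) (tr y (χ : G → ℂ)) c =
      (χ : G → ℂ) (y * (c : G)) := by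
  classical
  letI := Fintype.ofFinite G
  letI : Fintype (Subgroup.centralizer ({y} : Set G)) := Fintype.ofFinite _
  have hp := isPrime_of_modular hM
  have h1irr : ∀ (K : Type u) [Group K] [Finite K], IsIrrCharacter K (fun _ : K => (1 : ℂ)) := by
    intro K _ _
    haveI := Fintype.ofFinite K
    exact CfsgLib.CharBasic.isIrrCharacter_one
  have hblkG : IsPBlock M (principalBlock M G) := ⟨⟨_, h1irr G⟩, rfl⟩
  have hblkC : IsPBlock M (principalBlock M (Cz y)) := ⟨⟨_, h1irr (Cz y)⟩, rfl⟩
  by_contra hne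
  set ϑ : (Cz y) → ℂ := tr y (χ : G → ℂ) - blockPart (principalBlock M (Cz y)) (tr y (χ : G → ℂ)) with hϑ
  have hcf : IsClassFunction (Cz y) ϑ := by
    apply CfsgLib.CharBasic.classFun_sub
    · exact tr_classFun (CfsgLib.CharBasic.irr_classFun χ.2)
    · exact blockPart_classFun _ _
  have h2 : ϑ c ≠ 0 := by
    intro h
    apply hne
    have h3 : tr y (χ : G → ℂ) c - blockPart (principalBlock M (Cz y)) (tr y (χ : G → ℂ)) c = 0 := h
    rw [sub_eq_zero] at h3
    exact h3.symm
  obtain ⟨b, hb, hbc⟩ := exists_blockPart_ne_zero (M := M) hp hcf h2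
  -- inner products
  have hin : ∀ ψ : IrrCharacter (Cz y), classInner (blockPart (principalBlock M (Cz y)) (tr y (χ : G → ℂ))) (ψ : (Cz y) → ℂ) =
      ind (principalBlock M (Cz y)) ψ * classInner (tr y (χ : G → ℂ)) (ψ : (Cz y) → ℂ) := by
    intro ψ
    have h3 : blockPart (principalBlock M (Cz y)) (tr y (χ : G → ℂ)) =
        ∑ φ : IrrCharacter (Cz y), (ind (principalBlock M (Cz y)) φ * classInner (tr y (χ : G → ℂ)) (φ : (Cz y) → ℂ)) • (φ : (Cz y) → ℂ) := by
      funext x
      rw [blockPart_expand, Finset.sum_apply]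
      refine Finset.sum_congr rfl fun φ _ => ?_
      rw [Pi.smul_apply, smul_eq_mul]; ring
    rw [h3, CfsgLib.CharBasic.inner_comb]
  have hin2 : ∀ ψ : IrrCharacter (Cz y), classInner ϑ (ψ : (Cz y) → ℂ) =
      (1 - ind (principalBlock M (Cz y)) ψ) * classInner (tr y (χ : G → ℂ)) (ψ : (Cz y) → ℂ) := by
    intro ψ
    rw [hϑ, CfsgLib.CharBasic.inner_sub_left, hin]; ring
  by_cases hb0 : b = principalBlock M (Cz y)
  · apply hbc
    rw [blockPart_expand]
    refine Finset.sum_eq_zero fun ψ _ => ?_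
    rw [hin2]
    by_cases h4 : ψ ∈ b
    · rw [hb0] at h4
      rw [ind_of h4, sub_self]; ring
    · rw [ind_not h4]; ring
  · apply hbc
    have h5 : blockPart b ϑ c = blockPart b (tr y (χ : G → ℂ)) c := by
      rw [blockPart_expand, blockPart_expand]
      refine Finset.sum_congr rfl fun ψ _ => ?_
      rw [hin2]
      by_cases h4 : ψ ∈ b
      · have h6 : ψ ∉ principalBlock M (Cz y) := fun h7 => hb0 (block_eq_of_mem hp hb hblkC h4 h7)
        rw [ind_not h6]; ring
      · rw [ind_not h4]; ring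
    rw [h5]
    refine second_main_char hM hy hblkG hχ hb ?_ hc
    intro h6
    exact hb0 ((CfsgLib.BlockH.third_main hM (Cz y) b ⟨_, h6⟩).1 h6)

theorem principal_part_zero (hM : IsPModular p M) {y : G} (hy : ∃ k : ℕ, orderOf y = p ^ k)
    {χ : IrrCharacter G} (hχ : χ ∉ principalBlock M G)
    {c : Subgroup.centralizer ({y} : Set G)} (hc : ¬ p ∣ orderOf c) :
    blockPart (principalBlock M (Subgroup.centralizer ({y} : Set G))) (tr y (χ : G → ℂ)) c = 0 := by
  classical
  letI := Fintype.ofFinite G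
  letI : Fintype (Subgroup.centralizer ({y} : Set G)) := Fintype.ofFinite _
  have hp := isPrime_of_modular hM
  have h1irr : ∀ (K : Type u) [Group K] [Finite K], IsIrrCharacter K (fun _ : K => (1 : ℂ)) := by
    intro K _ _
    haveI := Fintype.ofFinite K
    exact CfsgLib.CharBasic.isIrrCharacter_one
  have hblkC : IsPBlock M (principalBlock M (Cz y)) := ⟨⟨_, h1irr (Cz y)⟩, rfl⟩
  refine second_main_char hM hy (B := blockOf M (χ : G → ℂ)) ⟨χ, rfl⟩ (mem_blockOf_self hp χ) hblkC ?_ hc
  intro h
  have h2 := (CfsgLib.BlockH.third_main hM (Cz y) (principalBlock M (Cz y)) ⟨_, h⟩).2 rfl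
  apply hχ
  -- both induced blocks agree
  have h3 : (⟨_, h1irr (Cz y)⟩ : IrrCharacter (Cz y)) ∈ principalBlock M (Cz y) := mem_blockOf_self hp ⟨_, h1irr (Cz y)⟩
  have h4 : (⟨_, h1irr G⟩ : IrrCharacter G) ∈ principalBlock M G := mem_blockOf_self hp ⟨_, h1irr G⟩
  have h5 : SameBlock M (fun _ : G => (1 : ℂ)) (χ : G → ℂ) := by
    intro g
    have h6 := h.2.2 _ h3 _ (mem_blockOf_self hp χ) g
    have h7 := h2.2.2 _ h3 _ h4 g
    have h8 := ideal_sub hp h6 h7
    have h9 : (inducedCentralChar (Cz y) ((⟨_, h1irr (Cz y)⟩ : IrrCharacter (Cz y)) : (Cz y) → ℂ) g - centralChar (χ : G → ℂ) g) -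
        (inducedCentralChar (Cz y) ((⟨_, h1irr (Cz y)⟩ : IrrCharacter (Cz y)) : (Cz y) → ℂ) g -
          centralChar ((⟨_, h1irr G⟩ : IrrCharacter G) : G → ℂ) g) =
        centralChar (fun _ : G => (1 : ℂ)) g - centralChar (χ : G → ℂ) g := by
      simp only
      ring
    rwa [h9] at h8
  exact h5

/-- sums over the principal block on a `p`-section -/
theorem principal_section (hM : IsPModular p M) {y : G} (hy : ∃ k : ℕ, orderOf y = p ^ k)
    {c c' : Subgroup.centralizer ({y} : Set G)} (hc : ¬ p ∣ orderOf c) (hc' : ¬ p ∣ orderOf c') :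
    ∑ᶠ χ ∈ principalBlock M G, (χ : G → ℂ) (y * (c : G)) * conj ((χ : G → ℂ) (y * (c' : G))) =
      ∑ᶠ ψ ∈ principalBlock M (Subgroup.centralizer ({y} : Set G)),
        (ψ : Subgroup.centralizer ({y} : Set G) → ℂ) c *
        conj ((ψ : Subgroup.centralizer ({y} : Set G) → ℂ) c') := by
  classical
  letI := Fintype.ofFinite G
  have h1irr : IsIrrCharacter (Subgroup.centralizer ({y} : Set G)) (fun _ => (1 : ℂ)) := by
    haveI := Fintype.ofFinite (Subgroup.centralizer ({y} : Set G))
    exact CfsgLib.CharBasic.isIrrCharacter_one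
  rw [← sum_blockPart hM hy (b := principalBlock M (Subgroup.centralizer ({y} : Set G))) ⟨⟨_, h1irr⟩, rfl⟩ hc hc',
    ← sum_ind]
  refine Finset.sum_congr rfl fun χ _ => ?_
  by_cases h : χ ∈ principalBlock M G
  · rw [ind_of h, one_mul, principal_part hM hy h hc]
  · rw [ind_not h, zero_mul, principal_part_zero hM hy h hc, zero_mul]

/-- `Σ_{χ∈B₀(G)} |χ(y)|² = Σ_{ψ∈B₀(C(y))} ψ(1)²` -/
theorem principal_norm (hM : IsPModular p M) {y : G} (hy : ∃ k : ℕ, orderOf y = p ^ k) :
    ∑ᶠ χ ∈ principalBlock M G, (χ : G → ℂ) y * conj ((χ : G → ℂ) y) =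
      ((∑ᶠ ψ ∈ principalBlock M (Subgroup.centralizer ({y} : Set G)),
        charDegree (ψ : Subgroup.centralizer ({y} : Set G) → ℂ) ^ 2 : ℕ) : ℂ) := by
  classical
  have h1 : ¬ p ∣ orderOf (1 : Subgroup.centralizer ({y} : Set G)) := by
    rw [orderOf_one, Nat.dvd_one]; exact (Fact.out : p.Prime).ne_one
  have h2 := principal_section (M := M) (G := G) hM hy h1 h1
  rw [Subgroup.coe_one, mul_one] at h2
  rw [h2, finsum_mem_eq_finite_toFinset_sum _ (Set.toFinite _), finsum_mem_eq_finite_toFinset_sum _ (Set.toFinite _)]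
  push_cast
  refine Finset.sum_congr rfl fun ψ _ => ?_
  rw [CfsgLib.CharInt.irr_one_eq_charDegree ψ.2, map_natCast, sq]

end CfsgLib.Sec19
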