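import Cfsg.Statements.S4720
import Cfsg.Agent.LibSec19
import Cfsg.Agent.LibCharIndA

set_option autoImplicit false
open Cfsg

namespace Cfsg.Agent.S4720

open CfsgLib.BlockR CfsgLib.BlockIdem CfsgLib.BlockOrth CfsgLib.Sec19
open scoped ComplexConjugate

/-- Let p be a prime, M a maximal ideal of the algebraic integers containing p, P a p-subgroup of the finite group G, N a subgroup with P ≤ N ≤ N_G(P), and U a nonempty subset of P normalized by N such that an element of U and an element of P that are conjugate in G are already conjugate in N, and such that λ(C_G(y)) = w·#C_N(y) for every y ∈ U with one rational number w, where λ(X) denotes the sum of the squares of the degrees of the irreducible characters in the principal p-block of X. For a complex function θ on P and χ in the principal block of G put a_χ(θ) = #P⁻¹ Σ_{y ∈ P} χ(y) θ(y⁻¹). Then for generalized characters θ, η of P with θ vanishing outside U, Σ_χ a_χ(θ)·conj(a_χ(η)) = (w/#P²)·Σ_{y ∈ P} θ(y)·conj(Σ_{x ∈ N} η(x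 y x⁻¹)) (η extended by zero off P; the conjugates lie in P), the first sum over the principal p-block of G. -/
theorem result {G : Type*} [Group G] [Finite G] (p : ℕ) [Fact p.Prime] (M : Ideal Cfsg.AlgInt) (hM : Cfsg.IsPModular p M) (P : Subgroup G) (hP : IsPGroup p P) (N : Subgroup G) (hPN : P ≤ N) (hNN : N ≤ Subgroup.normalizer (P : Set G)) (U : Set G) (hUne : U.Nonempty) (hUP : U ⊆ (P : Set G)) (hUN : ∀ n ∈ N, ∀ u ∈ U, n * u * n⁻¹ ∈ U) (hfus : ∀ u ∈ U, ∀ g : G, g * u * g⁻¹ ∈ (P : Set G) → ∃ n ∈ N, n * u * n⁻¹ = g * u * g⁻¹) (w : ℚ) (hw : ∀ y ∈ U, ((∑ᶠ ψ ∈ Cfsg.principalBlock M ↥(Subgroup.centralizer ({y} : Set G)), Cfsg.charDegree (ψ : ↥(Subgroup.centralizer ({y} : Set G)) → ℂ) ^ 2) : ℚ) = w * Nat.card ↥(N ⊓ Subgroup.centralizer ({y} : Set G))) (θ η : ↥P → ℂ) (hθ : Cfsg.IsGeneralizedCharacter ↥P θ) (hη : Cfsg.IsGeneralizedCharacter ↥P η) (hθU : ∀ y : ↥P, (y : G) ∉ U → θ y = 0) : ∑ᶠ χ ∈ Cfsg.principalBlock M G, ((Nat.card ↥P : ℂ)⁻¹ * ∑ᶠ y : ↥P, (χ : G → ℂ) (y : G) * θ y⁻¹) *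 (starRingEnd ℂ) ((Nat.card ↥P : ℂ)⁻¹ * ∑ᶠ y : ↥P, (χ : G → ℂ) (y : G) * η y⁻¹) = ((w : ℂ) / ((Nat.card ↥P : ℂ) ^ 2)) * ∑ᶠ y : ↥P, θ y * (starRingEnd ℂ) (∑ᶠ x : ↥N, Cfsg.extendByZero P η ((x : G) * (y : G) * (x : G)⁻¹)) := by
  classical
  letI := Fintype.ofFinite G
  letI : Fintype P := Fintype.ofFinite P
  letI : Fintype N := Fintype.ofFinite N
  have hp := isPrime_of_modular hM
  have hblkG : IsPBlock M (principalBlock M G) := ⟨⟨fun _ => 1, CfsgLib.CharBasic.isIrrCharacter_one⟩, rfl⟩
  have hPne : (Nat.card P : ℂ) ≠ 0 := by exact_mod_cast Nat.card_pos.ne'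
  have hpel : ∀ y : G, y ∈ P → ∃ k : ℕ, orderOf y = p ^ k := by
    intro y hy
    obtain ⟨k, hk⟩ := IsPGroup.iff_orderOf.1 hP ⟨y, hy⟩
    exact ⟨k, by rw [← hk, Subgroup.orderOf_mk]⟩
  -- the kernel
  set K : G → G → ℂ := fun y z => ∑ᶠ χ ∈ principalBlock M G, (χ : G → ℂ) y * conj ((χ : G → ℂ) z) with hK
  set L : G → ℕ := fun y => ∑ᶠ ψ ∈ principalBlock M (Subgroup.centralizer ({y} : Set G)), charDegree (ψ : Subgroup.centralizer ({y} : Set G) → ℂ) ^ 2 with hL
  have hK0 : ∀ y ∈ P, ∀ z ∈ P, ¬ IsConj y z → K y z = 0 := by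
    intro y hy z hz hc
    exact block_orth_conj hM hblkG (isPPart_self (hpel y hy)) (isPPart_self (hpel z hz)) hc
  have hK1 : ∀ y ∈ P, ∀ z, IsConj y z → K y z = (L y : ℂ) := by
    intro y hy z hc
    rw [hL, ← principal_norm hM (hpel y hy)]
    simp only [hK]
    refine finsum_mem_congr rfl fun χ _ => ?_
    rw [CfsgLib.CharInt.irr_isConj χ.2 hc]
  have hKconj : ∀ y ∈ P, ∀ z ∈ P, K y⁻¹ z⁻¹ = K y z := by
    intro y hy z hz
    have h1 : K y⁻¹ z⁻¹ = conj (K y z) := by
      simp only [hK]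
      rw [← sum_ind, ← sum_ind, map_sum]
      refine Finset.sum_congr rfl fun χ _ => ?_
      rw [CfsgLib.CharBasic.char_inv_eq_conj (CfsgLib.CharBasic.irr_isCharacter χ.2),
        CfsgLib.CharBasic.char_inv_eq_conj (CfsgLib.CharBasic.irr_isCharacter χ.2), map_mul, map_mul]
      congr 1
      by_cases h : χ ∈ principalBlock M G
      · rw [ind_of h, map_one]
      · rw [ind_not h, map_zero]
    rw [h1]
    by_cases hc : IsConj y z
    · rw [hK1 y hy z hc, map_natCast]
    · rw [hK0 y hy z hz hc, map_zero]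
  have hLw : ∀ y ∈ U, (L y : ℂ) = (w : ℂ) * (Nat.card (N ⊓ Subgroup.centralizer ({y} : Set G) : Subgroup G) : ℂ) := by
    intro y hy
    have h1 := hw y hy
    have h2 : (((L y : ℕ) : ℚ)) = w * Nat.card (N ⊓ Subgroup.centralizer ({y} : Set G) : Subgroup G) := by
      rw [← h1, hL]
      simp only
      rw [finsum_mem_eq_finite_toFinset_sum _ (Set.toFinite _), finsum_mem_eq_finite_toFinset_sum _ (Set.toFinite _)]
      push_cast
      rfl
    exact_mod_cast congrArg (fun q : ℚ => (q : ℂ)) h2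
  -- expand the left-hand side
  have hLHS : ∑ᶠ χ ∈ principalBlock M G, ((Nat.card ↥P : ℂ)⁻¹ * ∑ᶠ y : ↥P, (χ : G → ℂ) (y : G) * θ y⁻¹) *
      conj ((Nat.card ↥P : ℂ)⁻¹ * ∑ᶠ y : ↥P, (χ : G → ℂ) (y : G) * η y⁻¹) =
      ((Nat.card P : ℂ) ^ 2)⁻¹ * ∑ y : P, ∑ z : P, θ y * conj (η z) * K y z := by
    have h1 : ∀ χ : IrrCharacter G, ∀ f : P → ℂ, ∑ᶠ y : ↥P, (χ : G → ℂ) (y : G) * f y⁻¹ =
        ∑ y : P, (χ : G → ℂ) ((y : G)⁻¹) * f y := by
      intro χ f
      rw [finsum_eq_sum_of_fintype]
      rw [← Equiv.sum_comp (Equiv.inv P)]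
      refine Finset.sum_congr rfl fun y _ => ?_
      simp
    simp only [h1]
    rw [← sum_ind]
    have h2 : ∀ y z : P, K y z = ∑ χ : IrrCharacter G, ind (principalBlock M G) χ * ((χ : G → ℂ) ((y : G)⁻¹) * conj ((χ : G → ℂ) ((z : G)⁻¹))) := by
      intro y z
      rw [← hKconj y y.2 z z.2]
      simp only [hK]
      rw [← sum_ind]
    simp only [h2]
    simp only [Finset.mul_sum, map_mul, map_sum, Finset.sum_mul, map_inv₀, map_natCast]
    rw [Finset.sum_comm]
    conv_rhs => rw [Finset.sum_comm]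
    refine Finset.sum_congr rfl fun y _ => ?_
    rw [Finset.sum_comm]
    refine Finset.sum_congr rfl fun z _ => ?_
    refine Finset.sum_congr rfl fun χ _ => ?_
    field_simp
  rw [hLHS, finsum_eq_sum_of_fintype]
  rw [Finset.mul_sum, Finset.mul_sum]
  refine Finset.sum_congr rfl fun y _ => ?_
  by_cases hyU : (y : G) ∈ U
  · have h1 : ∑ z : P, θ y * conj (η z) * K y z = θ y * ((w : ℂ) * conj (∑ x : N, extendByZero P η ((x : G) * (y : G) * (x : G)⁻¹))) := by
      have h2 : ∑ z : P, conj (η z) * K y z = (w : ℂ) * ∑ x : N, conj (extendByZero P η ((x : G) * (y : G) * (x : G)⁻¹)) := by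
        -- group the sum over `x` according to the conjugate
        have hmem : ∀ x : N, (x : G) * (y : G) * (x : G)⁻¹ ∈ P := fun x => hUP (hUN x x.2 y hyU)
        have h3 : ∑ x : N, conj (extendByZero P η ((x : G) * (y : G) * (x : G)⁻¹)) =
            ∑ z : P, ∑ x : N, if (⟨(x : G) * (y : G) * (x : G)⁻¹, hmem x⟩ : P) = z then conj (η z) else 0 := by
          rw [Finset.sum_comm]
          refine Finset.sum_congr rfl fun x _ => ?_
          rw [Finset.sum_ite_eq, if_pos (Finset.mem_univ _)]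
          rw [CfsgLib.CharIndA.ext_mem P η (hmem x)]
        rw [h3, Finset.mul_sum]
        refine Finset.sum_congr rfl fun z _ => ?_
        rw [← Finset.sum_filter, Finset.sum_const, nsmul_eq_mul]
        by_cases hc : IsConj (y : G) (z : G)
        · rw [hK1 y y.2 z hc, hLw y hyU]
          obtain ⟨g, hg⟩ := isConj_iff.1 hc
          obtain ⟨n, hn, hn'⟩ := hfus y hyU g (by rw [hg]; exact z.2)
          rw [hg] at hn'
          have h4 : (Finset.univ.filter (fun x : N => (⟨(x : G) * (y : G) * (x : G)⁻¹, hmem x⟩ : P) = z)).card =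
              Nat.card (N ⊓ Subgroup.centralizer ({(y : G)} : Set G) : Subgroup G) := by
            rw [Nat.card_eq_fintype_card, ← Finset.card_univ]
            refine Finset.card_bij' (fun x _ => (⟨n⁻¹ * (x : G), ?_⟩ : (N ⊓ Subgroup.centralizer ({(y : G)} : Set G) : Subgroup G)))
              (fun c _ => (⟨n * (c : G), ?_⟩ : N)) ?_ ?_ ?_ ?_
            · rename_i x hx
              rw [Finset.mem_filter] at hx
              have h5 : (x : G) * (y : G) * (x : G)⁻¹ = z := congrArg Subtype.val hx.2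
              refine ⟨N.mul_mem (N.inv_mem hn) x.2, mem_cent ?_⟩
              have h6 : (x : G) * (y : G) * (x : G)⁻¹ = n * y * n⁻¹ := by rw [h5, hn']
              calc n⁻¹ * (x : G) * y = n⁻¹ * ((x : G) * y * (x : G)⁻¹) * x := by group
                _ = n⁻¹ * (n * y * n⁻¹) * x := by rw [h6]
                _ = _ := by group
            · exact N.mul_mem hn c.2.1
            · intro x _
              exact Finset.mem_univ _
            · intro c _
              rw [Finset.mem_filter]
              refine ⟨Finset.mem_univ _, ?_⟩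
              apply Subtype.ext
              have h5 := comm_cent (y := (y : G)) ⟨c, c.2.2⟩
              have h5' : (c : G) * y = y * c := h5
              show n * (c : G) * y * (n * (c : G))⁻¹ = z
              rw [← hn', mul_assoc n, h5']
              group
            · intro x _
              apply Subtype.ext
              simp
            · intro c _
              apply Subtype.ext
              simp
          rw [h4]
          ring
        · rw [hK0 y y.2 z z.2 hc, mul_zero]
          have : Finset.univ.filter (fun x : N => (⟨(x : G) * (y : G) * (x : G)⁻¹, hmem x⟩ : P) = z) = ∅ := by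
            rw [Finset.filter_eq_empty_iff]
            intro x _ hx
            exact hc (isConj_iff.2 ⟨x, congrArg Subtype.val hx⟩)
          rw [this]; simp
      rw [map_sum, ← h2, Finset.mul_sum]
      refine Finset.sum_congr rfl fun z _ => by ring
    rw [h1, finsum_eq_sum_of_fintype]
    field_simp
  · have h0 : θ y = 0 := hθU y hyU
    simp [h0]

end Cfsg.Agent.S4720
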