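import Cfsg.Agent.EqBase
import Cfsg.Agent.LibInfl19
import Cfsg.Agent.LibPBker19
import Cfsg.Agent.LibSec19
import Cfsg.Agent.LibPSolv19
import Cfsg.Agent.LibCharBasic3
import Cfsg.Agent.LibBlockSec3
import Cfsg.Agent.S0915
import Cfsg.Agent.S4720

/-!
# Principal blocks of groups with an abelian Sylow subgroup with Frobenius normalizer quotient
-/

set_option autoImplicit false
set_option linter.all false

universe u v w

open Cfsg
open scoped ComplexConjugate

namespace CfsgLib.FrobP19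

/-! ### the combinatorial lemma -/

section Comb
variable {R : Type v} {ι : Type w} [Fintype R] [Fintype ι] [DecidableEq ι] [DecidableEq R]

theorem norm_two (w : ι → ℤ) (h2 : ∑ x, w x * w x = 2) (f : ι → ℝ) (hf : ∀ x, 0 < f x)
    (h0 : ∑ x, (w x : ℝ) * f x = 0) : ∃ a b : ι, a ≠ b ∧ ∀ x, w x = (if x = a then 1 else 0) - (if x = b then 1 else 0) := by
  obtain ⟨a, ha⟩ : ∃ a, 0 < w a := by
    by_contra hcon
    push Not at hcon
    have h1 : ∀ x, (w x : ℝ) * f x = 0 := by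
      have h3 : ∀ x ∈ Finset.univ, (w x : ℝ) * f x ≤ 0 := fun x _ =>
        mul_nonpos_of_nonpos_of_nonneg (by exact_mod_cast hcon x) (hf x).le
      have h4 := (Finset.sum_eq_zero_iff_of_nonpos h3).1 h0
      exact fun x => h4 x (Finset.mem_univ x)
    have h3 : ∀ x, w x = 0 := by
      intro x
      have := h1 x
      rcases mul_eq_zero.1 this with h | h
      · exact_mod_cast h
      · exact absurd h (hf x).ne'
    simp [h3] at h2
  obtain ⟨b, hb⟩ : ∃ b, w b < 0 := by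
    by_contra hcon
    push Not at hcon
    have h1 : ∀ x, (w x : ℝ) * f x = 0 := by
      have h3 : ∀ x ∈ Finset.univ, 0 ≤ (w x : ℝ) * f x := fun x _ =>
        mul_nonneg (by exact_mod_cast hcon x) (hf x).le
      have h4 := (Finset.sum_eq_zero_iff_of_nonneg h3).1 h0
      exact fun x => h4 x (Finset.mem_univ x)
    have h3 : ∀ x, w x = 0 := by
      intro x
      have := h1 x
      rcases mul_eq_zero.1 this with h | h
      · exact_mod_cast h
      · exact absurd h (hf x).ne'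
    simp [h3] at h2
  have hab : a ≠ b := by rintro rfl; omega
  have hsplit : w a * w a + (w b * w b + ∑ x ∈ (Finset.univ.erase a).erase b, w x * w x) = 2 := by
    rw [Finset.add_sum_erase _ (fun x => w x * w x) (Finset.mem_erase.2 ⟨hab.symm, Finset.mem_univ b⟩),
      Finset.add_sum_erase _ (fun x => w x * w x) (Finset.mem_univ a), h2]
  have hrest : 0 ≤ ∑ x ∈ (Finset.univ.erase a).erase b, w x * w x :=
    Finset.sum_nonneg fun x _ => mul_self_nonneg _
  have ha1 : w a = 1 := by nlinarith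
  have hb1 : w b = -1 := by nlinarith
  have hz : ∑ x ∈ (Finset.univ.erase a).erase b, w x * w x = 0 := by rw [ha1, hb1] at hsplit; linarith
  have hz' := (Finset.sum_eq_zero_iff_of_nonneg (fun x _ => mul_self_nonneg (w x))).1 hz
  refine ⟨a, b, hab, fun x => ?_⟩
  by_cases hxa : x = a
  · subst hxa
    rw [ha1, if_pos rfl, if_neg hab]; norm_num
  by_cases hxb : x = b
  · subst hxb
    rw [hb1, if_neg hxa, if_pos rfl]; norm_num
  rw [if_neg hxa, if_neg hxb]
  have := hz' x (Finset.mem_erase.2 ⟨hxb, Finset.mem_erase.2 ⟨hxa, Finset.mem_univ x⟩⟩)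
  simpa using mul_self_eq_zero.1 this

theorem comb (v : R → ι → ℤ) (m : ℤ) (hR : 2 ≤ Fintype.card R)
    (h1 : ∀ i, ∑ x, v i x * v i x = m + 1) (h2 : ∀ i j, i ≠ j → ∑ x, v i x * v j x = m)
    (f : ι → ℝ) (hf : ∀ x, 0 < f x) (h0 : ∀ i j, ∑ x, ((v i x - v j x : ℤ) : ℝ) * f x = 0) :
    ∃ (e : R → ι) (δ d : ℤ) (c : ι → ℤ), Function.Injective e ∧ (δ = 1 ∨ δ = -1) ∧
      (∀ i x, v i x = c x - δ * (if x = e i then 1 else 0)) ∧ (∀ i, c (e i) = d) := by
  classical
  -- it is enough to find e, δ, c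
  suffices hs : ∃ (e : R → ι) (δ : ℤ) (c : ι → ℤ), (δ = 1 ∨ δ = -1) ∧
      (∀ i x, v i x = c x - δ * (if x = e i then 1 else 0)) by
    obtain ⟨e, δ, c, hδ, hv⟩ := hs
    haveI : Nonempty R := Fintype.card_pos_iff.1 (by omega)
    obtain ⟨i0⟩ := ‹Nonempty R›
    have hnorm : ∀ i, m + 1 = ∑ x, c x * c x - 2 * δ * c (e i) + 1 := by
      intro i
      rw [← h1 i]
      have h3 : ∀ x, v i x * v i x = c x * c x - 2 * δ * c x * (if x = e i then 1 else 0) + (if x = e i then 1 else 0) := by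
        intro x
        rw [hv i x]
        split_ifs
        · rcases hδ with h | h <;> rw [h] <;> ring
        · ring
      simp_rw [h3]
      rw [Finset.sum_add_distrib, Finset.sum_sub_distrib]
      simp
    refine ⟨e, δ, c (e i0), c, ?_, hδ, hv, ?_⟩
    · intro i j hij
      by_contra hne
      have h4 := h2 i j hne
      have h5 : ∀ x, v j x = v i x := by
        intro x; rw [hv i x, hv j x, hij]
      simp_rw [h5] at h4
      rw [h1 i] at h4
      omega
    · intro i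
      have h4 := hnorm i
      have h5 := hnorm i0
      rcases hδ with h | h <;> rw [h] at h4 h5 <;> linarith
  have hdiff : ∀ i j, i ≠ j → ∃ a b : ι, a ≠ b ∧ ∀ x, v i x - v j x = (if x = a then 1 else 0) - (if x = b then 1 else 0) := by
    intro i j hij
    refine norm_two (fun x => v i x - v j x) ?_ f hf (h0 i j)
    have h3 : ∀ x, (v i x - v j x) * (v i x - v j x) = v i x * v i x - v i x * v j x - v j x * v i x + v j x * v j x := by
      intro x; ring
    simp_rw [h3]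
    rw [Finset.sum_add_distrib, Finset.sum_sub_distrib, Finset.sum_sub_distrib, h1, h1, h2 i j hij, h2 j i hij.symm]
    ring
  obtain ⟨i0, j0, hij0⟩ := Fintype.exists_pair_of_one_lt_card (by omega : 1 < Fintype.card R)
  have hd : ∀ j, ∃ a b : ι, j ≠ i0 → (a ≠ b ∧ ∀ x, v i0 x - v j x = (if x = a then 1 else 0) - (if x = b then 1 else 0)) := by
    intro j
    by_cases hj : j = i0
    · haveI : Nonempty ι := ⟨(hdiff i0 j0 hij0).choose⟩
      exact ⟨Classical.arbitrary ι, Classical.arbitrary ι, fun h => absurd hj h⟩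
    · obtain ⟨a, b, h⟩ := hdiff i0 j (Ne.symm hj)
      exact ⟨a, b, fun _ => h⟩
  choose a b hab using hd
  have hpair : ∀ j k, j ≠ i0 → k ≠ i0 → j ≠ k → (a j = a k ∨ b j = b k) := by
    intro j k hj hk hjk
    by_contra hcon
    push Not at hcon
    have h3 : ∑ x, (v i0 x - v j x) * (v i0 x - v k x) = 1 := by
      have h4 : ∀ x, (v i0 x - v j x) * (v i0 x - v k x) = v i0 x * v i0 x - v i0 x * v k x - v j x * v i0 x + v j x * v k x := by
        intro x; ring
      simp_rw [h4]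
      rw [Finset.sum_add_distrib, Finset.sum_sub_distrib, Finset.sum_sub_distrib, h1, h2 i0 k (Ne.symm hk), h2 j i0 hj, h2 j k hjk]
      ring
    have h5 : ∀ x, (v i0 x - v j x) * (v i0 x - v k x) =
        (if x = a j then (if x = a k then 1 else 0) else 0) - (if x = a j then (if x = b k then 1 else 0) else 0)
        - (if x = b j then (if x = a k then 1 else 0) else 0) + (if x = b j then (if x = b k then 1 else 0) else 0) := by
      intro x
      rw [(hab j hj).2, (hab k hk).2]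
      split_ifs <;> ring
    simp_rw [h5] at h3
    rw [Finset.sum_add_distrib, Finset.sum_sub_distrib, Finset.sum_sub_distrib] at h3
    simp only [Finset.sum_ite_eq', Finset.mem_univ, if_true, Finset.sum_ite_eq] at h3
    rw [if_neg hcon.1, if_neg hcon.2] at h3
    have h6 : (0:ℤ) ≤ (if a j = b k then 1 else 0) := by split_ifs <;> norm_num
    have h7 : (0:ℤ) ≤ (if b j = a k then 1 else 0) := by split_ifs <;> norm_num
    omega
  by_cases hA : ∀ k, k ≠ i0 → a k = a j0
  · refine ⟨fun k => if k = i0 then a j0 else b k, -1, fun x => v i0 x - (if x = a j0 then 1 else 0), Or.inr rfl, ?_⟩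
    intro k x
    by_cases hk : k = i0
    · subst hk; simp only [if_true]; split_ifs <;> ring
    · have h3 := (hab k hk).2 x
      rw [hA k hk] at h3
      simp only [hk, if_false]
      linarith
  · push Not at hA
    obtain ⟨k0, hk0, hk0a⟩ := hA
    have hk0j : k0 ≠ j0 := by rintro rfl; exact hk0a rfl
    have hb0 : b k0 = b j0 := (hpair k0 j0 hk0 (Ne.symm hij0) hk0j).resolve_left hk0a
    have hB : ∀ k, k ≠ i0 → b k = b j0 := by
      intro k hk
      by_cases h3 : k = j0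
      · rw [h3]
      by_cases h4 : k = k0
      · rw [h4, hb0]
      by_contra hne
      have h5 := (hpair k j0 hk (Ne.symm hij0) h3).resolve_right hne
      have h6 := (hpair k k0 hk hk0 h4).resolve_right (by rw [hb0]; exact hne)
      exact hk0a (by rw [← h6, h5])
    refine ⟨fun k => if k = i0 then b j0 else a k, 1, fun x => v i0 x + (if x = b j0 then 1 else 0), Or.inl rfl, ?_⟩
    intro k x
    by_cases hk : k = i0
    · subst hk; simp only [if_true]; split_ifs <;> ring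
    · have h3 := (hab k hk).2 x
      rw [hB k hk] at h3
      simp only [hk, if_false]
      linarith

end Comb

/-! ### p-groups and p-nilpotent groups -/

open CfsgLib.CharBasic CfsgLib.BlockR CfsgLib.Infl19 CfsgLib.PBker19 CfsgLib.Quot19

section Nilp
variable {G : Type u} [Group G] [Finite G] {p : ℕ} [hp : Fact p.Prime] {M : Ideal AlgInt}

theorem pPrimeCore_eq_bot_of_pgroup (hG : IsPGroup p G) : pPrimeCore p G = ⊥ := by
  rw [Subgroup.eq_bot_iff_card]
  obtain ⟨k, hk⟩ := IsPGroup.iff_card.1 (hG.to_subgroup (pPrimeCore p G))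
  have h1 := CfsgLib.Infl19.core_not_dvd p G
  rw [hk] at h1 ⊢
  rcases Nat.eq_zero_or_pos k with h | h
  · rw [h, pow_zero]
  · exact absurd (dvd_pow_self p h.ne') h1

theorem principal_univ_of_pgroup (hM : IsPModular p M) (hG : IsPGroup p G) : principalBlock M G = Set.univ := by
  ext χ
  refine ⟨fun _ => Set.mem_univ _, fun _ => ?_⟩
  letI := Fintype.ofFinite G
  exact CfsgLib.BlockCov3.one_block hM (⊤ : Subgroup G) (hG.to_subgroup ⊤) le_top ⟨fun _ => 1, one_irr⟩ χ

/-- `λ` of a group with a normal `p`-complement -/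
theorem lambda_nilp (hM : IsPModular p M) (K : Subgroup G) [K.Normal] (hK : ¬ p ∣ Nat.card K)
    (hQ : IsPGroup p (G ⧸ K)) :
    ∑ᶠ ψ ∈ principalBlock M G, charDegree (ψ : G → ℂ) ^ 2 = Nat.card (G ⧸ K) := by
  classical
  rw [CfsgLib.Infl19.finsum_principal_infl hM K hK, principal_univ_of_pgroup hM hQ, finsum_mem_univ]
  letI := Fintype.ofFinite (G ⧸ K)
  rw [finsum_eq_sum_of_fintype]
  have h1 := CfsgLib.CharBasic.sum_sq_degree (G := G ⧸ K)
  have h2 : ∀ ξ : IrrCharacter (G ⧸ K), charDegree (CfsgLib.BlockCount2.infl K ξ : G → ℂ) = charDegree (ξ : G ⧸ K → ℂ) :=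
    fun ξ => rfl
  have h3 : ((∑ ξ : IrrCharacter (G ⧸ K), charDegree (CfsgLib.BlockCount2.infl K ξ : G → ℂ) ^ 2 : ℕ) : ℂ) = (Nat.card (G ⧸ K) : ℂ) := by
    rw [← h1]
    push_cast
    refine Finset.sum_congr rfl fun ξ _ => ?_
    rw [h2, CfsgLib.CharInt.irr_one_eq_charDegree ξ.2]
  exact_mod_cast h3

/-- the centralizer of `y` has a normal complement -/
theorem centralizer_nilp (P : Sylow p G) (hab : IsMulCommutative (P : Subgroup G)) {y : G} (hy : y ∈ (P : Subgroup G))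
    (hf : Subgroup.centralizer ({y} : Set G) ⊓ Subgroup.normalizer ((P : Subgroup G) : Set G) ≤
      Subgroup.centralizer ((P : Subgroup G) : Set G)) :
    ∃ K : Subgroup (Subgroup.centralizer ({y} : Set G)), ∃ _ : K.Normal, ¬ p ∣ Nat.card K ∧
      Nat.card (Subgroup.centralizer ({y} : Set G) ⧸ K) = Nat.card P ∧
      IsPGroup p (Subgroup.centralizer ({y} : Set G) ⧸ K) := by
  classical
  have hPC : (P : Subgroup G) ≤ Subgroup.centralizer ({y} : Set G) := by
    intro x hx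
    rw [Subgroup.mem_centralizer_singleton_iff]
    exact congrArg Subtype.val (hab.is_comm.comm (⟨x, hx⟩ : P) ⟨y, hy⟩)
  set H := Subgroup.centralizer ({y} : Set G) with hH
  let PH : Sylow p H := P.subtype hPC
  have hcomm : Subgroup.normalizer ((PH : Subgroup H) : Set H) ≤ Subgroup.centralizer ((PH : Subgroup H) : Set H) := by
    intro n hn
    have h1 : (n : G) ∈ Subgroup.normalizer ((P : Subgroup G) : Set G) := by
      rw [Subgroup.mem_normalizer_iff] at hn ⊢
      intro x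
      constructor
      · intro hx
        have := (hn ⟨x, hPC hx⟩).1 (show x ∈ (P : Subgroup G) from hx)
        exact this
      · intro hx
        have h2 : (n : G) * x * (n : G)⁻¹ ∈ H := hPC hx
        have h3 : x ∈ H := by
          have := H.mul_mem (H.mul_mem (H.inv_mem n.2) h2) n.2
          simpa [mul_assoc] using this
        exact (hn ⟨x, h3⟩).2 hx
    have h2 := hf ⟨n.2, h1⟩
    rw [Subgroup.mem_centralizer_iff] at h2 ⊢
    intro x hx
    exact Subtype.ext (h2 x hx)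
  have hc := MonoidHom.ker_transferSylow_isComplement' PH hcomm
  set K := (MonoidHom.transferSylow PH hcomm).ker with hKdef
  have hcard : Nat.card K * Nat.card (PH : Subgroup H) = Nat.card H := hc.card_mul
  have hidx : (K.index) = Nat.card (PH : Subgroup H) := hc.symm.index_eq_card
  have hPcard : Nat.card (PH : Subgroup H) = Nat.card P := by
    have h1 : (PH : Subgroup H) = (P : Subgroup G).subgroupOf H := rfl
    rw [h1]
    exact Nat.card_congr (Subgroup.subgroupOfEquivOfLe hPC).toEquiv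
  refine ⟨K, inferInstance, ?_, ?_, ?_⟩
  · intro hd
    have h1 : (PH : Subgroup H).index = Nat.card K := by
      have h3 := (PH : Subgroup H).card_mul_index
      rw [← hcard, mul_comm (Nat.card K)] at h3
      exact Nat.eq_of_mul_eq_mul_left Nat.card_pos h3
    exact PH.not_dvd_index (h1 ▸ hd)
  · rw [← hPcard, ← hidx]; rfl
  · obtain ⟨k, hk⟩ := IsPGroup.iff_card.1 PH.isPGroup'
    exact IsPGroup.of_card (n := k) (by rw [← hk, ← hidx]; rfl)

/-- a `p`-regular element of a group with a normal complement is in the core -/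
theorem mem_core_of_reg {K : Subgroup G} (hK : K.Normal) (hKp : ¬ p ∣ Nat.card K)
    (hQ : IsPGroup p (G ⧸ K)) {c : G} (hc : ¬ p ∣ orderOf c) : c ∈ pPrimeCore p G := by
  have h1 : K ≤ pPrimeCore p G := CfsgLib.Cores.le_pPrimeCore hK
    (((Nat.Prime.coprime_iff_not_dvd hp.out).2 hKp).symm)
  apply h1
  rw [← QuotientGroup.eq_one_iff]
  obtain ⟨k, hk⟩ := IsPGroup.iff_orderOf.1 hQ (c : G ⧸ K)
  have h2 : orderOf (c : G ⧸ K) ∣ orderOf c := orderOf_map_dvd (QuotientGroup.mk' K) c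
  rcases Nat.eq_zero_or_pos k with h | h
  · rw [h, pow_zero, orderOf_eq_one_iff] at hk; exact hk
  · exact absurd ((dvd_pow_self p h.ne').trans (hk ▸ h2)) hc

/-- characters of the principal block are constant on the section of `y` -/
theorem const_section (hM : IsPModular p M) (P : Sylow p G) (hab : IsMulCommutative (P : Subgroup G)) {y z : G}
    (hy : y ∈ (P : Subgroup G))
    (hf : Subgroup.centralizer ({y} : Set G) ⊓ Subgroup.normalizer ((P : Subgroup G) : Set G) ≤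
      Subgroup.centralizer ((P : Subgroup G) : Set G)) (hz : IsPPart p z y) {χ : IrrCharacter G}
    (hχ : χ ∈ principalBlock M G) : (χ : G → ℂ) z = (χ : G → ℂ) y := by
  obtain ⟨c, rfl, hcomm, hy', hc⟩ := hz
  letI := Fintype.ofFinite G
  obtain ⟨K, hKn, hK, -, hQ⟩ := centralizer_nilp P hab hy hf
  have hcC : c ∈ Subgroup.centralizer ({y} : Set G) := by
    rw [Subgroup.mem_centralizer_singleton_iff]; exact hcomm.symm
  have h1 : (⟨c, hcC⟩ : Subgroup.centralizer ({y} : Set G)) ∈ pPrimeCore p (Subgroup.centralizer ({y} : Set G)) :=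
    mem_core_of_reg hKn hK hQ (by rwa [Subgroup.orderOf_mk])
  exact CfsgLib.BlockSec2.principal_const hM hy' h1 hχ

end Nilp

/-! ### linear characters of abelian groups -/

section Lin
variable {A : Type u} [Group A] [Finite A]

/-- linear characters are the irreducible characters of an abelian group -/
noncomputable def linEquiv (hab : ∀ a b : A, a * b = b * a) : (A →* ℂˣ) ≃ IrrCharacter A :=
  Equiv.ofBijective (fun f => (⟨fun g => (f g : ℂ), isIrrCharacter_hom f⟩ : IrrCharacter A))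
    ⟨fun f f' h => hom_ext_fun (congrArg Subtype.val h), fun χ => by
      obtain ⟨f, hf⟩ := irr_hom_of_comm hab χ.2
      exact ⟨f, Subtype.ext (funext fun g => (hf g).symm)⟩⟩

theorem linEquiv_apply (hab : ∀ a b : A, a * b = b * a) (f : A →* ℂˣ) (a : A) :
    (linEquiv hab f : A → ℂ) a = (f a : ℂ) := rfl

theorem finite_lin (hab : ∀ a b : A, a * b = b * a) : Finite (A →* ℂˣ) :=
  Finite.of_equiv _ (linEquiv hab).symm

theorem card_lin (hab : ∀ a b : A, a * b = b * a) : Nat.card (A →* ℂˣ) = Nat.card A := by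
  letI := Fintype.ofFinite A
  rw [Nat.card_congr (linEquiv hab)]
  have h1 := sum_sq_degree (G := A)
  have h2 : ∀ χ : IrrCharacter A, (χ : A → ℂ) 1 ^ 2 = 1 := by
    intro χ; rw [irr_degree_one_of_comm hab χ.2, one_pow]
  simp_rw [h2] at h1
  rw [Finset.sum_const, Finset.card_univ, nsmul_eq_mul, mul_one] at h1
  rw [Nat.card_eq_fintype_card]
  exact_mod_cast h1

variable [Fintype (A →* ℂˣ)]

theorem lin_inner [Fintype A] (ψ φ : A →* ℂˣ) [Decidable (ψ = φ)] :
    classInner (fun a => (ψ a : ℂ)) (fun a => (φ a : ℂ)) = if ψ = φ then 1 else 0 := by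
  split_ifs with h
  · rw [h]; exact irr_inner_self (isIrrCharacter_hom φ)
  · exact irr_inner_ne (isIrrCharacter_hom ψ) (isIrrCharacter_hom φ) (fun h' => h (hom_ext_fun h'))

theorem lin_expand [Fintype A] (hab : ∀ a b : A, a * b = b * a) (f : A → ℂ) (y : A) :
    f y = ∑ ψ : A →* ℂˣ, classInner f (fun a => (ψ a : ℂ)) * (ψ y : ℂ) := by
  rw [classFun_expand_apply (ψ := f) (fun g h => by rw [hab h g, mul_inv_cancel_right])]
  exact ((linEquiv hab).sum_comp (fun χ : IrrCharacter A => classInner f χ * (χ : A → ℂ) y)).symm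

theorem lin_col [Fintype A] (hab : ∀ a b : A, a * b = b * a) {y : A} (hy : y ≠ 1) :
    ∑ ψ : A →* ℂˣ, (ψ y : ℂ) = 0 := by
  classical
  have h1 := CfsgLib.CharBasic.column_orthogonality (G := A) y 1
  rw [if_neg (fun h => hy (isConj_one_left.1 h))] at h1
  rw [← (linEquiv hab).sum_comp] at h1
  rw [← h1]
  refine Finset.sum_congr rfl fun ψ _ => ?_
  rw [linEquiv_apply, linEquiv_apply, map_one, Units.val_one, map_one, mul_one]

end Lin

/-! ### the action of the normalizer on the linear characters -/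

section Act
variable {G : Type u} [Group G]

/-- conjugate under the normalizer -/
def Rel (P : Subgroup G) (ψ ψ' : P →* ℂˣ) : Prop :=
  ∃ n : G, n ∈ Subgroup.normalizer (P : Set G) ∧ ∀ w w' : P, (w' : G) = n * w * n⁻¹ → ψ' w' = ψ w

theorem cn_coe (P : Subgroup G) (n : Subgroup.normalizer (P : Set G)) (w : P) :
    ((Subgroup.normalizerMonoidHom P n w : P) : G) = n * w * (n : G)⁻¹ := rfl

/-- the action on linear characters -/
def linAct (P : Subgroup G) : MulAction (Subgroup.normalizer (P : Set G)) (P →* ℂˣ) where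
  smul n ψ := ψ.comp (Subgroup.normalizerMonoidHom P n⁻¹).toMonoidHom
  one_smul ψ := by
    change ψ.comp (Subgroup.normalizerMonoidHom P 1⁻¹).toMonoidHom = ψ
    rw [inv_one, map_one]; rfl
  mul_smul a b ψ := by
    change ψ.comp (Subgroup.normalizerMonoidHom P (a * b)⁻¹).toMonoidHom =
      (ψ.comp (Subgroup.normalizerMonoidHom P b⁻¹).toMonoidHom).comp (Subgroup.normalizerMonoidHom P a⁻¹).toMonoidHom
    rw [mul_inv_rev, map_mul]; rfl

theorem linAct_apply (P : Subgroup G) (n : Subgroup.normalizer (P : Set G)) (ψ : P →* ℂˣ) (w : P) :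
    letI := linAct P
    (n • ψ) w = ψ (Subgroup.normalizerMonoidHom P n⁻¹ w) := rfl

theorem rel_iff (P : Subgroup G) (ψ ψ' : P →* ℂˣ) :
    letI := linAct P
    Rel P ψ ψ' ↔ ∃ n : Subgroup.normalizer (P : Set G), n • ψ = ψ' := by
  letI := linAct P
  constructor
  · rintro ⟨n, hn, h⟩
    refine ⟨⟨n, hn⟩, ?_⟩
    ext w
    rw [linAct_apply, h (Subgroup.normalizerMonoidHom P (⟨n, hn⟩ : Subgroup.normalizer (P : Set G))⁻¹ w) w]
    rw [cn_coe]
    simp [mul_assoc]
  · rintro ⟨n, rfl⟩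
    refine ⟨n, n.2, fun w w' h => ?_⟩
    rw [linAct_apply]
    congr 1
    apply Subtype.ext
    rw [cn_coe, h]
    simp [mul_assoc]

theorem rel_mem_orbit (P : Subgroup G) (ψ ψ' : P →* ℂˣ) :
    letI := linAct P
    Rel P ψ ψ' ↔ ψ' ∈ MulAction.orbit (Subgroup.normalizer (P : Set G)) ψ := rel_iff P ψ ψ'

theorem rel_refl (P : Subgroup G) (ψ : P →* ℂˣ) : Rel P ψ ψ := by
  rw [rel_iff]
  letI := linAct P
  exact ⟨1, one_smul _ _⟩

theorem rel_symm (P : Subgroup G) {ψ ψ' : P →* ℂˣ} (h : Rel P ψ ψ') : Rel P ψ' ψ := by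
  rw [rel_iff] at h ⊢
  letI := linAct P
  obtain ⟨n, rfl⟩ := h
  exact ⟨n⁻¹, inv_smul_smul _ _⟩

theorem rel_trans (P : Subgroup G) {ψ ψ' ψ'' : P →* ℂˣ} (h : Rel P ψ ψ') (h' : Rel P ψ' ψ'') : Rel P ψ ψ'' := by
  rw [rel_iff] at h h' ⊢
  letI := linAct P
  obtain ⟨n, rfl⟩ := h
  obtain ⟨n', rfl⟩ := h'
  exact ⟨n' * n, mul_smul _ _ _⟩

theorem rel_ne_one (P : Subgroup G) {ψ ψ' : P →* ℂˣ} (h : Rel P ψ ψ') (h1 : ψ ≠ 1) : ψ' ≠ 1 := by
  rintro rfl
  apply h1
  have h2 := rel_symm P h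
  rw [rel_iff] at h2
  letI := linAct P
  obtain ⟨n, rfl⟩ := h2
  rfl

variable [Finite G]

/-- the hypothesis: the centralizers of the non-identity elements meet the normalizer in the centralizer -/
def FrobHyp (P : Subgroup G) : Prop :=
  (∀ a b : P, a * b = b * a) ∧ ∀ y : G, y ∈ P → y ≠ 1 →
    Subgroup.centralizer ({y} : Set G) ⊓ Subgroup.normalizer (P : Set G) = Subgroup.centralizer (P : Set G)

theorem stab_eq {P : Subgroup G} (hF : FrobHyp P) {ψ : P →* ℂˣ} (hψ : ψ ≠ 1) :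
    letI := linAct P
    MulAction.stabilizer (Subgroup.normalizer (P : Set G)) ψ =
      (Subgroup.centralizer (P : Set G)).subgroupOf (Subgroup.normalizer (P : Set G)) := by
  letI := linAct P
  ext n
  rw [MulAction.mem_stabilizer_iff, Subgroup.mem_subgroupOf]
  constructor
  · intro hn
    by_contra hnC
    apply hψ
    -- the map w ↦ w⁻¹ (n w n⁻¹) is injective
    set f : P → P := fun w => w⁻¹ * Subgroup.normalizerMonoidHom P n w with hf
    have hinj : Function.Injective f := by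
      intro w v hwv
      by_contra hne
      have h1 : Subgroup.normalizerMonoidHom P n (w * v⁻¹) = w * v⁻¹ := by
        rw [map_mul, map_inv]
        have h2 : Subgroup.normalizerMonoidHom P n w = w * (v⁻¹ * Subgroup.normalizerMonoidHom P n v) := by
          rw [← show f v = v⁻¹ * Subgroup.normalizerMonoidHom P n v from rfl, ← hwv]
          simp [hf]
        rw [h2]
        simp [mul_assoc]
      have h3 : n.1 ∈ Subgroup.centralizer ({((w * v⁻¹ : P) : G)} : Set G) := by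
        rw [Subgroup.mem_centralizer_singleton_iff]
        have h4 := congrArg Subtype.val h1
        rw [cn_coe] at h4
        rw [mul_inv_eq_iff_eq_mul] at h4
        exact h4
      have h5 : ((w * v⁻¹ : P) : G) ≠ 1 := by
        intro h6
        apply hne
        have h7 : w * v⁻¹ = 1 := Subtype.ext h6
        exact mul_inv_eq_one.1 h7
      have h8 := hF.2 _ (w * v⁻¹ : P).2 h5
      exact hnC (h8 ▸ (⟨h3, n.2⟩ : n.1 ∈ Subgroup.centralizer ({((w * v⁻¹ : P) : G)} : Set G) ⊓ Subgroup.normalizer (P : Set G)))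
    have hsurj : Function.Surjective f := Finite.surjective_of_injective hinj
    ext u
    obtain ⟨w, rfl⟩ := hsurj u
    have h9 : ψ (Subgroup.normalizerMonoidHom P n w) = ψ w := by
      conv_lhs => rw [← hn]
      rw [linAct_apply]
      congr 1
      rw [← MulAut.mul_apply, ← map_mul, inv_mul_cancel, map_one, MulAut.one_apply]
    rw [hf]
    simp only
    rw [map_mul, h9, map_inv, inv_mul_cancel, MonoidHom.one_apply]
  · intro hn
    ext w
    rw [linAct_apply]
    congr 2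
    apply Subtype.ext
    rw [cn_coe]
    rw [Subgroup.mem_centralizer_iff] at hn
    have := hn w.1 w.2
    rw [Subgroup.coe_inv, inv_inv, mul_assoc, this, ← mul_assoc, inv_mul_cancel, one_mul]

theorem card_orbit {P : Subgroup G} (hF : FrobHyp P) {ψ : P →* ℂˣ} (hψ : ψ ≠ 1) :
    Nat.card {ψ' // Rel P ψ ψ'} = (Subgroup.centralizer (P : Set G)).relIndex (Subgroup.normalizer (P : Set G)) := by
  letI := linAct P
  have h1 := MulAction.index_stabilizer (Subgroup.normalizer (P : Set G)) ψ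
  rw [stab_eq hF hψ] at h1
  rw [Subgroup.relIndex, h1, ← Nat.card_coe_set_eq]
  exact Nat.card_congr (Equiv.subtypeEquivRight fun ψ' => rel_mem_orbit P ψ ψ')

end Act

/-! ### multiplicities -/

section Mult
variable {G : Type u} [Group G] [Finite G]

theorem exists_mult (P : Subgroup G) (χ : IrrCharacter G) (ψ : P →* ℂˣ) :
    ∃ n : ℤ, ∀ [Fintype P], classInner (fun w : P => (χ : G → ℂ) w) (fun w => (ψ w : ℂ)) = (n : ℂ) := by
  letI := Fintype.ofFinite P
  obtain ⟨n, hn⟩ := char_mult (isCharacter_restrict (irr_isCharacter χ.2) P) (isCharacter_hom ψ)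
  refine ⟨n, fun {inst} => ?_⟩
  have : inst = Fintype.ofFinite P := Subsingleton.elim _ _
  subst this
  rw [Int.cast_natCast, ← hn]

/-- multiplicity of `ψ` in the restriction of `χ` -/
noncomputable def mult (P : Subgroup G) (χ : IrrCharacter G) (ψ : P →* ℂˣ) : ℤ := (exists_mult P χ ψ).choose

theorem mult_spec (P : Subgroup G) [Fintype P] (χ : IrrCharacter G) (ψ : P →* ℂˣ) :
    classInner (fun w : P => (χ : G → ℂ) w) (fun w => (ψ w : ℂ)) = (mult P χ ψ : ℂ) :=
  (exists_mult P χ ψ).choose_spec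

/-- differences of multiplicities -/
noncomputable def vv (P : Subgroup G) (χ : IrrCharacter G) (ψ : P →* ℂˣ) : ℤ := mult P χ 1 - mult P χ ψ

theorem vv_eq (P : Subgroup G) [Fintype P] (χ : IrrCharacter G) (ψ : P →* ℂˣ) :
    (vv P χ ψ : ℂ) = (Nat.card P : ℂ)⁻¹ * ∑ y : P, (χ : G → ℂ) y * conj (1 - (ψ y : ℂ)) := by
  unfold vv
  push_cast
  rw [← mult_spec, ← mult_spec]
  unfold classInner
  rw [← mul_sub, ← Finset.sum_sub_distrib]
  congr 1
  refine Finset.sum_congr rfl fun y _ => ?_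
  rw [MonoidHom.one_apply, Units.val_one, map_sub, map_one]
  ring

theorem vv_one (P : Subgroup G) (χ : IrrCharacter G) : vv P χ 1 = 0 := sub_self _

theorem lin_inv {A : Type u} [Group A] [Finite A] (ψ : A →* ℂˣ) (y : A) : ((ψ y⁻¹ : ℂˣ) : ℂ) = conj ((ψ y : ℂˣ) : ℂ) := by
  letI := Fintype.ofFinite A
  exact CfsgLib.CharBasic.char_inv_eq_conj (isCharacter_hom ψ) y

theorem value_eq {P : Subgroup G} (hab : ∀ a b : P, a * b = b * a) [Fintype (P →* ℂˣ)] (χ : IrrCharacter G)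
    {y : P} (hy : y ≠ 1) : (χ : G → ℂ) y = - ∑ ψ : P →* ℂˣ, (vv P χ ψ : ℂ) * (ψ y : ℂ) := by
  letI := Fintype.ofFinite P
  have h1 := lin_expand hab (fun w : P => (χ : G → ℂ) w) y
  have h2 := lin_col hab hy
  simp_rw [mult_spec] at h1
  rw [h1]
  have h3 : ∀ ψ : P →* ℂˣ, (vv P χ ψ : ℂ) * (ψ y : ℂ) = (mult P χ 1 : ℂ) * (ψ y : ℂ) - (mult P χ ψ : ℂ) * (ψ y : ℂ) := by
    intro ψ; unfold vv; push_cast; ring
  simp_rw [h3]
  rw [Finset.sum_sub_distrib, ← Finset.mul_sum, h2]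
  ring

theorem vv_rel {P : Subgroup G} (χ : IrrCharacter G) {ψ φ : P →* ℂˣ} (h : Rel P ψ φ) : vv P χ ψ = vv P χ φ := by
  letI := Fintype.ofFinite P
  unfold vv
  congr 1
  have h1 : (mult P χ ψ : ℂ) = (mult P χ φ : ℂ) := by
    rw [← mult_spec, ← mult_spec]
    rw [rel_iff] at h
    letI := linAct P
    obtain ⟨n, rfl⟩ := h
    unfold classInner
    congr 1
    refine Fintype.sum_equiv (Subgroup.normalizerMonoidHom P n).toEquiv _ _ fun w => ?_
    rw [linAct_apply]
    congr 2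
    · change (χ : G → ℂ) (w : G) = (χ : G → ℂ) ((n : G) * w * (n : G)⁻¹)
      rw [CfsgLib.CharInt.irr_isConj χ.2 (isConj_iff.2 ⟨(n : G), rfl⟩)]
    · congr 2
      change w = (Subgroup.normalizerMonoidHom P n⁻¹) ((Subgroup.normalizerMonoidHom P n) w)
      rw [← MulAut.mul_apply, ← map_mul, inv_mul_cancel, map_one, MulAut.one_apply]
  exact_mod_cast h1

theorem vv_orth {p : ℕ} [hp : Fact p.Prime] {M : Ideal AlgInt} (hM : IsPModular p M) {P : Subgroup G}
    (hP : IsPGroup p P) (ψ : P →* ℂˣ) {g : G} (hg : ¬ p ∣ orderOf g) :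
    ∑ᶠ χ ∈ principalBlock M G, (vv P χ ψ : ℂ) * (χ : G → ℂ) g = 0 := by
  classical
  letI := Fintype.ofFinite P
  letI := Fintype.ofFinite G
  have h1 : ∀ y : P, y ≠ 1 → ∑ᶠ χ ∈ principalBlock M G, (χ : G → ℂ) g * (χ : G → ℂ) y = 0 := by
    intro y hy
    have h2 : p ∣ orderOf (y : G)⁻¹ := by
      obtain ⟨k, hk⟩ := IsPGroup.iff_orderOf.1 hP y
      rw [orderOf_inv, Subgroup.orderOf_coe, hk]
      apply dvd_pow_self
      rintro rfl
      rw [pow_zero, orderOf_eq_one_iff] at hk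
      exact hy hk
    have h3 := CfsgLib.BlockOrth.weak_block_orth hM (principal_isBlock (G := G) M) hg h2
    rw [← h3]
    refine finsum_mem_congr rfl fun χ _ => ?_
    rw [CfsgLib.CharBasic.char_inv_eq_conj (irr_isCharacter χ.2), Complex.conj_conj]
  rw [finsum_mem_eq_finite_toFinset_sum _ (Set.toFinite _)]
  simp_rw [vv_eq]
  have h4 : ∀ χ : IrrCharacter G, (Nat.card P : ℂ)⁻¹ * (∑ y : P, (χ : G → ℂ) y * conj (1 - (ψ y : ℂ))) * (χ : G → ℂ) g =
      ∑ y : P, (Nat.card P : ℂ)⁻¹ * conj (1 - (ψ y : ℂ)) * ((χ : G → ℂ) g * (χ : G → ℂ) y) := by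
    intro χ
    rw [Finset.mul_sum, Finset.sum_mul]
    exact Finset.sum_congr rfl fun y _ => by ring
  simp_rw [h4]
  rw [Finset.sum_comm]
  refine Finset.sum_eq_zero fun y _ => ?_
  rw [← Finset.mul_sum]
  by_cases hy : y = 1
  · rw [hy, map_one, Units.val_one, sub_self, map_zero, mul_zero, zero_mul]
  · have h5 := h1 y hy
    rw [finsum_mem_eq_finite_toFinset_sum _ (Set.toFinite _)] at h5
    rw [h5, mul_zero]

end Mult

/-! ### the inner product formula -/

section Inner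
variable {G : Type u} [Group G] [Finite G] {p : ℕ} [hp : Fact p.Prime] {M : Ideal AlgInt}

theorem count_stab {P : Subgroup G} (hF : FrobHyp P) {ψ : P →* ℂˣ} (hψ : ψ ≠ 1) (φ : P →* ℂˣ)
    [Fintype (Subgroup.normalizer (P : Set G))] [∀ a b : P →* ℂˣ, Decidable (a = b)] [Decidable (Rel P ψ φ)] :
    letI := linAct P
    ∑ x : Subgroup.normalizer (P : Set G), (if ψ = x⁻¹ • φ then (1 : ℂ) else 0) =
      if Rel P ψ φ then (Nat.card (Subgroup.centralizer (P : Set G)) : ℂ) else 0 := by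
  letI := linAct P
  split_ifs with h
  · rw [rel_iff] at h
    obtain ⟨x0, rfl⟩ := h
    have h1 : ∑ x : Subgroup.normalizer (P : Set G), (if ψ = x⁻¹ • x0 • ψ then (1 : ℂ) else 0) =
        ∑ x : Subgroup.normalizer (P : Set G), (if x ∈ MulAction.stabilizer (Subgroup.normalizer (P : Set G)) ψ then (1 : ℂ) else 0) := by
      classical
      refine Fintype.sum_equiv ((Equiv.inv _).trans (Equiv.mulRight x0)) _ _ fun x => ?_
      refine if_congr ?_ rfl rfl
      change _ ↔ x⁻¹ * x0 ∈ _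
      rw [MulAction.mem_stabilizer_iff, mul_smul]
      exact eq_comm
    rw [h1]
    rw [Finset.sum_ite, Finset.sum_const_zero, add_zero, Finset.sum_const, nsmul_eq_mul, mul_one]
    rw [← Fintype.card_subtype, ← Nat.card_eq_fintype_card]
    have h2 : Nat.card (MulAction.stabilizer (Subgroup.normalizer (P : Set G)) ψ) = Nat.card (Subgroup.centralizer (P : Set G)) := by
      rw [stab_eq hF hψ]
      refine Nat.card_congr (Subgroup.subgroupOfEquivOfLe ?_).toEquiv
      exact Subgroup.centralizer_le_normalizer _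
    rw [← h2]
  · refine Finset.sum_eq_zero fun x _ => if_neg fun hx => h ?_
    rw [rel_iff]
    exact ⟨x, by rw [hx, smul_inv_smul]⟩

theorem lin_inner_sub {A : Type u} [Group A] [Finite A] [Fintype A] {ψ φ : A →* ℂˣ} (hψ : ψ ≠ 1) (hφ : φ ≠ 1)
    [Decidable (ψ = φ)] : ∑ a : A, (1 - (ψ a : ℂ)) * conj (1 - (φ a : ℂ)) =
      (Nat.card A : ℂ) * (1 + if ψ = φ then 1 else 0) := by
  classical
  have h1 : ∀ α β : A →* ℂˣ, ∑ a : A, (α a : ℂ) * conj (β a : ℂ) = (Nat.card A : ℂ) * (if α = β then 1 else 0) := by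
    intro α β
    have h2 : classInner (fun a => (α a : ℂ)) (fun a => (β a : ℂ)) = if α = β then 1 else 0 := by
      split_ifs with h
      · rw [h]; exact irr_inner_self (isIrrCharacter_hom β)
      · exact irr_inner_ne (isIrrCharacter_hom α) (isIrrCharacter_hom β) (fun h' => h (hom_ext_fun h'))
    rw [← h2]
    unfold classInner
    rw [← mul_assoc, mul_inv_cancel₀ (by exact_mod_cast Nat.card_pos.ne'), one_mul]
  have h3 : ∀ a : A, (1 - (ψ a : ℂ)) * conj (1 - (φ a : ℂ)) =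
      (((1 : A →* ℂˣ) a : ℂˣ) : ℂ) * conj ((((1 : A →* ℂˣ) a : ℂˣ)) : ℂ) - (((1 : A →* ℂˣ) a : ℂˣ) : ℂ) * conj (φ a : ℂ)
      - (ψ a : ℂ) * conj ((((1 : A →* ℂˣ) a : ℂˣ)) : ℂ) + (ψ a : ℂ) * conj (φ a : ℂ) := by
    intro a
    rw [MonoidHom.one_apply, Units.val_one, map_sub, map_one]
    ring
  simp_rw [h3]
  rw [Finset.sum_add_distrib, Finset.sum_sub_distrib, Finset.sum_sub_distrib, h1, h1, h1, h1, if_pos rfl,
    if_neg hψ, if_neg (Ne.symm hφ)]
  congr 1
  split_ifs <;> ring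

theorem vv_inner (hM : IsPModular p M) (P : Sylow p G) (hF : FrobHyp (P : Subgroup G))
    {ψ φ : ((P : Subgroup G)) →* ℂˣ} (hψ : ψ ≠ 1) (hφ : φ ≠ 1) [Decidable (Rel (P : Subgroup G) ψ φ)] :
    ∑ᶠ χ ∈ principalBlock M G, (vv (P : Subgroup G) χ ψ : ℂ) * (vv (P : Subgroup G) χ φ : ℂ) =
      ((Subgroup.centralizer ((P : Subgroup G) : Set G)).relIndex (Subgroup.normalizer ((P : Subgroup G) : Set G)) : ℂ) +
      (if Rel (P : Subgroup G) ψ φ then 1 else 0) := by
  classical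
  letI := Fintype.ofFinite G
  haveI hab : IsMulCommutative (P : Subgroup G) := ⟨⟨hF.1⟩⟩
  letI := Fintype.ofFinite (P : Subgroup G)
  set N := Subgroup.normalizer ((P : Subgroup G) : Set G) with hN
  letI := Fintype.ofFinite N
  set C := Subgroup.centralizer ((P : Subgroup G) : Set G) with hC
  have hCne : (Nat.card C : ℂ) ≠ 0 := by exact_mod_cast Nat.card_pos.ne'
  have hQne : (Nat.card (P : Subgroup G) : ℂ) ≠ 0 := by exact_mod_cast Nat.card_pos.ne'
  have hCN : C ≤ N := Subgroup.centralizer_le_normalizer _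
  have hidx : (Nat.card N : ℂ) = (C.relIndex N : ℂ) * Nat.card C := by
    have h1 := (C.subgroupOf N).card_mul_index
    have h2 : Nat.card (C.subgroupOf N) = Nat.card C := Nat.card_congr (Subgroup.subgroupOfEquivOfLe hCN).toEquiv
    rw [h2] at h1
    have h3 : Nat.card N = C.relIndex N * Nat.card C := by rw [← h1, mul_comm]; rfl
    exact_mod_cast congrArg (Nat.cast : ℕ → ℂ) h3
  obtain ⟨y0, hy0⟩ : ∃ y : (P : Subgroup G), y ≠ 1 := by
    by_contra hcon
    push Not at hcon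
    apply hψ
    ext y
    rw [hcon y, map_one, map_one]
  have key := Cfsg.Agent.S4720.result p M hM (P : Subgroup G) P.isPGroup' N Subgroup.le_normalizer le_rfl
    {y : G | y ∈ (P : Subgroup G) ∧ y ≠ 1} ⟨y0, y0.2, fun h => hy0 (Subtype.ext h)⟩ (fun y hy => hy.1)
    (by
      rintro n hn u ⟨hu, hu1⟩
      refine ⟨(Subgroup.mem_normalizer_iff.1 hn u).1 hu, fun h => hu1 ?_⟩
      rw [mul_inv_eq_one] at h
      exact mul_left_cancel (h.trans (mul_one n).symm))
    (by
      rintro u ⟨hu, hu1⟩ g hg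
      obtain ⟨n, hn, h⟩ := P.conj_eq_normalizer_conj_of_mem u g⁻¹ hu (by rw [inv_inv]; exact hg)
      refine ⟨n⁻¹, N.inv_mem hn, ?_⟩
      rw [inv_inv] at h
      rw [inv_inv, h])
    ((Nat.card (P : Subgroup G) : ℚ) / Nat.card C)
    (by
      rintro y ⟨hy, hy1⟩
      obtain ⟨K, hKn, hK, hidxK, hQK⟩ := centralizer_nilp P hab hy (hF.2 y hy hy1).le
      have h1 := lambda_nilp hM K hK hQK
      have h2 : (∑ᶠ ψ ∈ principalBlock M ↥(Subgroup.centralizer ({y} : Set G)), (charDegree (ψ : ↥(Subgroup.centralizer ({y} : Set G)) → ℂ) : ℚ) ^ 2) = (Nat.card (P : Subgroup G) : ℚ) := by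
        rw [← hidxK, ← h1]
        rw [finsum_mem_eq_finite_toFinset_sum _ (Set.toFinite _), finsum_mem_eq_finite_toFinset_sum _ (Set.toFinite _)]
        push_cast
        rfl
      rw [h2, inf_comm, hF.2 y hy hy1]
      have : (Nat.card C : ℚ) ≠ 0 := by exact_mod_cast Nat.card_pos.ne'
      change _ = _ * (Nat.card C : ℚ)
      field_simp)
    (fun y => 1 - (ψ y : ℂ)) (fun y => 1 - (φ y : ℂ))
    (gen_sub (gen_of_irr one_irr) (gen_of_irr (isIrrCharacter_hom ψ)))
    (gen_sub (gen_of_irr one_irr) (gen_of_irr (isIrrCharacter_hom φ)))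
    (by
      intro y hy
      have : y = 1 := by
        by_contra hne
        exact hy ⟨y.2, fun h => hne (Subtype.ext h)⟩
      rw [this, map_one, Units.val_one, sub_self])
  have hL : ∀ (χ : IrrCharacter G) (α : (P : Subgroup G) →* ℂˣ), (Nat.card (P : Subgroup G) : ℂ)⁻¹ * ∑ᶠ y : (P : Subgroup G), (χ : G → ℂ) y * (1 - (α y⁻¹ : ℂ)) = (vv (P : Subgroup G) χ α : ℂ) := by
    intro χ α
    rw [vv_eq, finsum_eq_sum_of_fintype]
    congr 1
    refine Finset.sum_congr rfl fun y _ => ?_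
    rw [lin_inv, map_sub, map_one]
  have hLHS : ∑ᶠ χ ∈ principalBlock M G, (vv (P : Subgroup G) χ ψ : ℂ) * (vv (P : Subgroup G) χ φ : ℂ) =
      ∑ᶠ χ ∈ principalBlock M G, ((Nat.card (P : Subgroup G) : ℂ)⁻¹ * ∑ᶠ y : (P : Subgroup G), (χ : G → ℂ) y * (1 - (ψ y⁻¹ : ℂ))) *
        conj ((Nat.card (P : Subgroup G) : ℂ)⁻¹ * ∑ᶠ y : (P : Subgroup G), (χ : G → ℂ) y * (1 - (φ y⁻¹ : ℂ))) := by
    refine finsum_mem_congr rfl fun χ _ => ?_
    rw [hL, hL, map_intCast]
  rw [hLHS]
  refine key.trans ?_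
  letI := linAct (P : Subgroup G)
  have hE : ∀ (x : N) (y : (P : Subgroup G)), extendByZero (P : Subgroup G) (fun y : (P : Subgroup G) => 1 - (φ y : ℂ)) ((x : G) * (y : G) * (x : G)⁻¹) =
      1 - (((x⁻¹ • φ : (P : Subgroup G) →* ℂˣ) y : ℂˣ) : ℂ) := by
    intro x y
    rw [linAct_apply, inv_inv]
    unfold extendByZero
    exact Function.Injective.extend_apply Subtype.val_injective _ _ (Subgroup.normalizerMonoidHom (P : Subgroup G) x y)
  have h4 : ∑ᶠ y : (P : Subgroup G), (1 - (ψ y : ℂ)) * conj (∑ᶠ x : N, extendByZero (P : Subgroup G) (fun y : (P : Subgroup G) => 1 - (φ y : ℂ)) ((x : G) * (y : G) * (x : G)⁻¹)) =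
      (Nat.card (P : Subgroup G) : ℂ) * ((Nat.card N : ℂ) + if Rel (P : Subgroup G) ψ φ then (Nat.card C : ℂ) else 0) := by
    rw [← count_stab hF hψ φ]
    simp_rw [hE]
    rw [finsum_eq_sum_of_fintype]
    simp_rw [finsum_eq_sum_of_fintype, map_sum, Finset.mul_sum]
    rw [Finset.sum_comm]
    have h5 : ∀ x : N, ∑ y : (P : Subgroup G), (1 - (ψ y : ℂ)) * conj (1 - (((x⁻¹ • φ : (P : Subgroup G) →* ℂˣ) y : ℂˣ) : ℂ)) =
        (Nat.card (P : Subgroup G) : ℂ) * (1 + if ψ = x⁻¹ • φ then 1 else 0) := by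
      intro x
      refine lin_inner_sub hψ ?_
      exact rel_ne_one (P : Subgroup G) (ψ := φ) ((rel_iff (P : Subgroup G) φ _).2 ⟨x⁻¹, rfl⟩) hφ
    simp_rw [h5]
    rw [← Finset.mul_sum, Finset.sum_add_distrib, Finset.sum_const, Finset.card_univ, nsmul_eq_mul, mul_one,
      Nat.card_eq_fintype_card (α := N)]
  rw [h4, hidx]
  push_cast
  split_ifs
  · field_simp
  · field_simp
    ring

end Inner

/-! ### the core structure -/

section Core
variable {G : Type u} [Group G] [Finite G] {p : ℕ} [hp : Fact p.Prime] {M : Ideal AlgInt}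

theorem card_nontrivial {A : Type u} [Group A] [Finite A] (hab : ∀ a b : A, a * b = b * a) :
    Nat.card {ψ : A →* ℂˣ // ψ ≠ 1} = Nat.card A - 1 := by
  classical
  haveI := finite_lin hab
  letI := Fintype.ofFinite (A →* ℂˣ)
  rw [← card_lin hab, Nat.card_eq_fintype_card, Nat.card_eq_fintype_card]
  have h1 := Fintype.card_subtype_compl (fun ψ : A →* ℂˣ => ψ = 1)
  have h2 : Fintype.card {ψ : A →* ℂˣ // ψ = 1} = 1 := Fintype.card_subtype_eq 1
  rw [h2] at h1
  rw [← h1]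

/-- counting fibres -/
theorem card_range {T : Type w} {P : Subgroup G} (hF : FrobHyp P) {m : ℕ}
    (hm : (Subgroup.centralizer (P : Set G)).relIndex (Subgroup.normalizer (P : Set G)) = m)
    (F : {ψ : P →* ℂˣ // ψ ≠ 1} → T) (h : ∀ a b, F a = F b ↔ Rel P a.1 b.1) :
    Nat.card (Set.range F) * m = Nat.card P - 1 := by
  classical
  haveI := finite_lin hF.1
  rw [← card_nontrivial hF.1]
  haveI : Finite (Set.range F) := Set.finite_range F
  letI := Fintype.ofFinite (Set.range F)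
  rw [Nat.card_congr (Equiv.sigmaFiberEquiv (Set.rangeFactorization F)).symm, Nat.card_sigma]
  have h2 : ∀ t : Set.range F, Nat.card {a // Set.rangeFactorization F a = t} = m := by
    rintro ⟨_, a0, rfl⟩
    rw [← hm, ← card_orbit hF a0.2]
    refine Nat.card_congr
      { toFun := fun a => ⟨a.1.1, (h a0 a.1).1 (congrArg Subtype.val a.2).symm⟩
        invFun := fun b => ⟨⟨b.1, rel_ne_one P b.2 a0.2⟩, Subtype.ext (((h a0 ⟨b.1, rel_ne_one P b.2 a0.2⟩).2 b.2).symm)⟩
        left_inv := fun a => rfl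
        right_inv := fun b => rfl }
  simp_rw [h2]
  rw [Finset.sum_const, Finset.card_univ, Nat.card_eq_fintype_card, smul_eq_mul]

open Classical in
/-- the raw structure of the principal block -/
structure Raw (M : Ideal AlgInt) (P : Subgroup G) (ζ : (P →* ℂˣ) → IrrCharacter G) (c : IrrCharacter G → ℤ) (δ d : ℤ) : Prop where
  hδ : δ = 1 ∨ δ = -1
  hζ : ∀ ψ φ : P →* ℂˣ, ψ ≠ 1 → φ ≠ 1 → (ζ ψ = ζ φ ↔ Rel P ψ φ)
  hB : ∀ ψ : P →* ℂˣ, ψ ≠ 1 → ζ ψ ∈ principalBlock M G
  hv : ∀ ψ : P →* ℂˣ, ψ ≠ 1 → ∀ χ ∈ principalBlock M G, vv P χ ψ = c χ - δ * (if χ = ζ ψ then 1 else 0)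
  hd : ∀ ψ : P →* ℂˣ, ψ ≠ 1 → c (ζ ψ) = d

theorem sum_ite_mem {α : Type*} [Fintype α] {β : Type*} [AddCommMonoid β] (B : Set α) [DecidablePred (· ∈ B)] (f : α → β) :
    ∑ x, (if x ∈ B then f x else 0) = ∑ᶠ x ∈ B, f x := by
  classical
  rw [finsum_mem_eq_finite_toFinset_sum _ (Set.toFinite _), ← Finset.sum_filter]
  refine Finset.sum_congr ?_ fun _ _ => rfl
  ext x; simp

theorem core (hM : IsPModular p M) (P : Sylow p G) (hF : FrobHyp (P : Subgroup G)) {m : ℕ} (hm1 : 0 < m)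
    (hm : (Subgroup.centralizer ((P : Subgroup G) : Set G)).relIndex (Subgroup.normalizer ((P : Subgroup G) : Set G)) = m)
    (hm2 : m + 1 < Nat.card P) :
    ∃ (ζ : ((P : Subgroup G) →* ℂˣ) → IrrCharacter G) (c : IrrCharacter G → ℤ) (δ d : ℤ),
      Raw M (P : Subgroup G) ζ c δ d := by
  classical
  haveI := finite_lin hF.1
  letI := Fintype.ofFinite G
  let S : Setoid {ψ : (P : Subgroup G) →* ℂˣ // ψ ≠ 1} :=
    ⟨fun a b => Rel (P : Subgroup G) a.1 b.1, fun a => rel_refl _ _, fun h => rel_symm _ h, fun h h' => rel_trans _ h h'⟩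
  let R := Quotient S
  haveI : Finite R := Quotient.finite S
  letI : Fintype R := Fintype.ofFinite R
  have hmk : ∀ a b : {ψ : (P : Subgroup G) →* ℂˣ // ψ ≠ 1}, (Quotient.mk S a = Quotient.mk S b) ↔ Rel (P : Subgroup G) a.1 b.1 :=
    fun a b => Quotient.eq (r := S)
  have hcardR : Fintype.card R * m = Nat.card P - 1 := by
    rw [← card_range hF hm (Quotient.mk S) hmk]
    congr 1
    rw [← Nat.card_eq_fintype_card]
    exact (Nat.card_congr (Equiv.Set.univ R)).symm.trans (by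
      rw [show (Set.univ : Set R) = Set.range (Quotient.mk S) from (Set.range_eq_univ.2 Quotient.mk_surjective).symm])
  have hR2 : 2 ≤ Fintype.card R := by
    by_contra hcon
    push Not at hcon
    have h1 : Fintype.card R * m ≤ 1 * m := Nat.mul_le_mul_right m (by omega)
    rw [hcardR, one_mul] at h1
    omega
  let v : R → IrrCharacter G → ℤ := fun i χ => if χ ∈ principalBlock M G then vv (P : Subgroup G) χ (Quotient.out i).1 else 0
  have hin : ∀ i j : R, ((∑ x, v i x * v j x : ℤ) : ℂ) = (m : ℂ) + if i = j then 1 else 0 := by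
    intro i j
    have h1 := vv_inner hM P hF (Quotient.out i).2 (Quotient.out j).2
    rw [hm, ← sum_ite_mem] at h1
    have h2 : (if Rel (P : Subgroup G) (Quotient.out i).1 (Quotient.out j).1 then (1 : ℂ) else 0) = if i = j then 1 else 0 := by
      refine if_congr ?_ rfl rfl
      rw [← hmk, Quotient.out_eq, Quotient.out_eq]
    rw [h2] at h1
    rw [← h1]
    push_cast
    refine Finset.sum_congr rfl fun x _ => ?_
    simp only [v]
    split_ifs
    · rfl
    · push_cast; ring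
  obtain ⟨e, δ, d, c, hinj, hδ, hvc, hcd⟩ := comb v (m : ℤ) hR2
    (fun i => by have := hin i i; rw [if_pos rfl] at this; exact_mod_cast this)
    (fun i j hij => by have := hin i j; rw [if_neg hij, add_zero] at this; exact_mod_cast this)
    (fun χ => (charDegree (χ : G → ℂ) : ℝ))
    (fun χ => by
      obtain ⟨n, hn, h1⟩ := irr_one_nat χ.2
      have h2 := CfsgLib.CharInt.irr_one_eq_charDegree χ.2
      rw [h1] at h2
      have h3 : n = charDegree (χ : G → ℂ) := by exact_mod_cast h2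
      rw [← h3]; exact_mod_cast hn)
    (fun i j => by
      have h1 : ¬ p ∣ orderOf (1 : G) := by rw [orderOf_one, Nat.dvd_one]; exact hp.out.ne_one
      have h2 := vv_orth hM P.isPGroup' (Quotient.out i).1 h1
      have h3 := vv_orth hM P.isPGroup' (Quotient.out j).1 h1
      rw [← sum_ite_mem] at h2 h3
      have h4 : ((∑ x, ((v i x - v j x : ℤ) : ℝ) * (charDegree (x : G → ℂ) : ℝ) : ℝ) : ℂ) =
          (∑ x, if x ∈ principalBlock M G then (vv (P : Subgroup G) x (Quotient.out i).1 : ℂ) * (x : G → ℂ) 1 else 0) -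
          (∑ x, if x ∈ principalBlock M G then (vv (P : Subgroup G) x (Quotient.out j).1 : ℂ) * (x : G → ℂ) 1 else 0) := by
        rw [← Finset.sum_sub_distrib]
        push_cast
        refine Finset.sum_congr rfl fun x _ => ?_
        simp only [v]
        rw [← CfsgLib.CharInt.irr_one_eq_charDegree x.2]
        split_ifs
        · push_cast; ring
        · push_cast; ring
      rw [h2, h3, sub_zero] at h4
      exact_mod_cast h4)
  have hvP : ∀ (ψ : (P : Subgroup G) →* ℂˣ) (h : ψ ≠ 1), ∀ χ ∈ principalBlock M G,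
      vv (P : Subgroup G) χ ψ = v (Quotient.mk S ⟨ψ, h⟩) χ := by
    intro ψ h χ hχ
    simp only [v]
    rw [if_pos hχ]
    apply vv_rel
    exact (hmk ⟨ψ, h⟩ _).1 (Quotient.out_eq _).symm
  have heB : ∀ i, e i ∈ principalBlock M G := by
    intro i
    by_contra hne
    obtain ⟨j, hj⟩ := Fintype.exists_ne_of_one_lt_card (by omega : 1 < Fintype.card R) i
    have h1 := hvc i (e i)
    have h2 := hvc j (e i)
    have hne2 : e i ≠ e j := fun h => hj (hinj h).symm
    simp [v, hne] at h1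
    simp [v, hne, hne2] at h2
    rcases hδ with h | h <;> rw [h] at h1 <;> omega
  refine ⟨fun ψ => if h : ψ ≠ 1 then e (Quotient.mk S ⟨ψ, h⟩) else ⟨fun _ => 1, one_irr⟩, c, δ, d, ⟨hδ, ?_, ?_, ?_, ?_⟩⟩
  · intro ψ φ hψ hφ
    rw [dif_pos hψ, dif_pos hφ, hinj.eq_iff, hmk]
  · intro ψ hψ
    rw [dif_pos hψ]; exact heB _
  · intro ψ hψ χ hχ
    rw [hvP ψ hψ χ hχ, hvc, dif_pos hψ]
    split_ifs <;> rfl
  · intro ψ hψ
    rw [dif_pos hψ]; exact hcd _

end Core

/-! ### consequences of the raw structure -/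

section Finish
variable {G : Type u} [Group G] [Finite G] {p : ℕ} [hp : Fact p.Prime] {M : Ideal AlgInt}
  {P : Subgroup G} {ζ : (P →* ℂˣ) → IrrCharacter G} {c : IrrCharacter G → ℤ} {δ d : ℤ}

/-- exceptional characters -/
def setY (ζ : (P →* ℂˣ) → IrrCharacter G) : Set (IrrCharacter G) := {η | ∃ ψ : P →* ℂˣ, ψ ≠ 1 ∧ ζ ψ = η}

/-- non-exceptional characters -/
def setX (M : Ideal AlgInt) (ζ : (P →* ℂˣ) → IrrCharacter G) : Set (IrrCharacter G) :=
  {χ | χ ∈ principalBlock M G ∧ ∀ ψ : P →* ℂˣ, ψ ≠ 1 → χ ≠ ζ ψ}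

theorem Raw.union (hR : Raw M P ζ c δ d) : principalBlock M G = setX M ζ ∪ setY ζ := by
  ext χ
  constructor
  · intro h
    by_cases h1 : ∃ ψ : P →* ℂˣ, ψ ≠ 1 ∧ ζ ψ = χ
    · exact Or.inr h1
    · push Not at h1
      exact Or.inl ⟨h, fun ψ hψ h2 => h1 ψ hψ h2.symm⟩
  · rintro (h | ⟨ψ, hψ, rfl⟩)
    · exact h.1
    · exact hR.hB ψ hψ

theorem disj : Disjoint (setX M ζ) (setY ζ) := by
  rw [Set.disjoint_left]
  rintro χ h ⟨ψ, hψ, rfl⟩
  exact h.2 ψ hψ rfl

theorem Raw.value_X (hR : Raw M P ζ c δ d) (hab : ∀ a b : P, a * b = b * a) {χ : IrrCharacter G}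
    (hχ : χ ∈ setX M ζ) {y : P} (hy : y ≠ 1) : (χ : G → ℂ) y = (c χ : ℂ) := by
  classical
  haveI := finite_lin hab
  letI := Fintype.ofFinite (P →* ℂˣ)
  letI := Fintype.ofFinite P
  rw [value_eq hab χ hy]
  have h1 : ∀ ψ : P →* ℂˣ, (vv P χ ψ : ℂ) * (ψ y : ℂ) = (c χ : ℂ) * (ψ y : ℂ) - if ψ = 1 then (c χ : ℂ) else 0 := by
    intro ψ
    split_ifs with h
    · rw [h, vv_one, MonoidHom.one_apply, Units.val_one]; push_cast; ring
    · rw [hR.hv ψ h χ hχ.1, if_neg (hχ.2 ψ h)]; push_cast; ring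
  simp_rw [h1]
  rw [Finset.sum_sub_distrib, ← Finset.mul_sum, lin_col hab hy, Finset.sum_ite_eq' Finset.univ (1 : P →* ℂˣ)]
  simp

theorem Raw.value_Y (hR : Raw M P ζ c δ d) (hab : ∀ a b : P, a * b = b * a) {ψ : P →* ℂˣ} (hψ : ψ ≠ 1)
    {y : P} (hy : y ≠ 1) :
    (ζ ψ : G → ℂ) y = (d : ℂ) + (δ : ℂ) * ∑ᶠ ψ' ∈ {ψ' : P →* ℂˣ | Rel P ψ ψ'}, (ψ' y : ℂ) := by
  classical
  haveI := finite_lin hab
  letI := Fintype.ofFinite (P →* ℂˣ)
  letI := Fintype.ofFinite P
  rw [value_eq hab (ζ ψ) hy]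
  have h1 : ∀ φ : P →* ℂˣ, (vv P (ζ ψ) φ : ℂ) * (φ y : ℂ) = (d : ℂ) * (φ y : ℂ) - (if φ = 1 then (d : ℂ) else 0)
      - (δ : ℂ) * (if φ ∈ {ψ' : P →* ℂˣ | Rel P ψ ψ'} then (φ y : ℂ) else 0) := by
    intro φ
    by_cases h : φ = 1
    · have h2 : ¬ (φ ∈ {ψ' : P →* ℂˣ | Rel P ψ ψ'}) := fun h3 => rel_ne_one P h3 hψ h
      rw [if_pos h, if_neg h2, h, vv_one, MonoidHom.one_apply, Units.val_one]; push_cast; ring
    · rw [if_neg h, hR.hv φ h _ (hR.hB ψ hψ), hR.hd ψ hψ]
      by_cases h2 : Rel P ψ φ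
      · have h3 : φ ∈ {ψ' : P →* ℂˣ | Rel P ψ ψ'} := h2
        rw [if_pos h3, if_pos ((hR.hζ ψ φ hψ h).2 h2)]; push_cast; ring
      · have h3 : ¬ (φ ∈ {ψ' : P →* ℂˣ | Rel P ψ ψ'}) := h2
        rw [if_neg h3, if_neg (fun h4 => h2 ((hR.hζ ψ φ hψ h).1 h4))]; push_cast; ring
  simp_rw [h1]
  rw [Finset.sum_sub_distrib, Finset.sum_sub_distrib, ← Finset.mul_sum, ← Finset.mul_sum, lin_col hab hy,
    Finset.sum_ite_eq' Finset.univ (1 : P →* ℂˣ), ← sum_ite_mem, if_pos (Finset.mem_univ _)]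
  ring

theorem Raw.reg_value (hR : Raw M P ζ c δ d) (hM : IsPModular p M) (hP : IsPGroup p P) {ψ : P →* ℂˣ} (hψ : ψ ≠ 1)
    {g : G} (hg : ¬ p ∣ orderOf g) :
    (δ : ℂ) * (ζ ψ : G → ℂ) g = ∑ᶠ χ ∈ principalBlock M G, (c χ : ℂ) * (χ : G → ℂ) g := by
  classical
  letI := Fintype.ofFinite G
  have h1 := vv_orth hM hP ψ hg
  rw [← sum_ite_mem] at h1 ⊢
  have h2 : ∀ χ : IrrCharacter G, (if χ ∈ principalBlock M G then (vv P χ ψ : ℂ) * (χ : G → ℂ) g else 0) =
      (if χ ∈ principalBlock M G then (c χ : ℂ) * (χ : G → ℂ) g else 0) - (if χ = ζ ψ then (δ : ℂ) * (ζ ψ : G → ℂ) g else 0) := by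
    intro χ
    by_cases h : χ ∈ principalBlock M G
    · rw [if_pos h, if_pos h, hR.hv ψ hψ χ h]
      by_cases h3 : χ = ζ ψ
      · rw [if_pos h3, if_pos h3, h3]; push_cast; ring
      · rw [if_neg h3, if_neg h3]; push_cast; ring
    · have h3 : χ ≠ ζ ψ := fun h4 => h (h4 ▸ hR.hB ψ hψ)
      rw [if_neg h, if_neg h, if_neg h3, sub_zero]
  simp_rw [h2] at h1
  rw [Finset.sum_sub_distrib, Finset.sum_ite_eq' Finset.univ (ζ ψ), if_pos (Finset.mem_univ _), sub_eq_zero] at h1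
  exact h1.symm

theorem Raw.delta_sq (hR : Raw M P ζ c δ d) : δ * δ = 1 := by
  rcases hR.hδ with h | h <;> rw [h] <;> rfl

theorem Raw.reg_eq (hR : Raw M P ζ c δ d) (hM : IsPModular p M) (hP : IsPGroup p P) {η η' : IrrCharacter G}
    (hη : η ∈ setY ζ) (hη' : η' ∈ setY ζ) {g : G} (hg : ¬ p ∣ orderOf g) : (η : G → ℂ) g = (η' : G → ℂ) g := by
  obtain ⟨ψ, hψ, rfl⟩ := hη
  obtain ⟨φ, hφ, rfl⟩ := hη'
  have h1 := hR.reg_value hM hP hψ hg
  have h2 := hR.reg_value hM hP hφ hg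
  rw [← h2] at h1
  have h3 : (δ : ℂ) ≠ 0 := by
    rcases hR.hδ with h | h <;> rw [h] <;> norm_num
  exact mul_left_cancel₀ h3 h1

theorem Raw.relation (hR : Raw M P ζ c δ d) (hM : IsPModular p M) (hP : IsPGroup p P) {η : IrrCharacter G}
    (hη : η ∈ setY ζ) {g : G} (hg : ¬ p ∣ orderOf g) :
    ((Nat.card (setY ζ) : ℂ) * d - δ) * (η : G → ℂ) g + ∑ᶠ χ ∈ setX M ζ, (c χ : ℂ) * (χ : G → ℂ) g = 0 := by
  classical
  obtain ⟨ψ, hψ, rfl⟩ := id hη
  have h1 := hR.reg_value hM hP hψ hg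
  rw [hR.union, finsum_mem_union disj (Set.toFinite _) (Set.toFinite _)] at h1
  have h2 : ∑ᶠ χ ∈ setY ζ, (c χ : ℂ) * (χ : G → ℂ) g = ∑ᶠ χ ∈ setY ζ, (d : ℂ) * (ζ ψ : G → ℂ) g := by
    refine finsum_mem_congr rfl fun χ hχ => ?_
    rw [hR.reg_eq hM hP hχ hη hg]
    obtain ⟨φ, hφ, rfl⟩ := hχ
    rw [hR.hd φ hφ]
  have h3 : ∑ᶠ χ ∈ setY ζ, (d : ℂ) * (ζ ψ : G → ℂ) g = (Nat.card (setY ζ) : ℂ) * ((d : ℂ) * (ζ ψ : G → ℂ) g) := by
    rw [finsum_mem_eq_finite_toFinset_sum _ (Set.toFinite _), Finset.sum_const, nsmul_eq_mul, Nat.card_coe_set_eq,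
      Set.ncard_eq_toFinset_card _ (Set.toFinite _)]
  rw [h2, h3] at h1
  linear_combination -h1

theorem exists_other (hF : FrobHyp P) {m : ℕ}
    (hm : (Subgroup.centralizer (P : Set G)).relIndex (Subgroup.normalizer (P : Set G)) = m)
    (hm2 : m + 1 < Nat.card P) {ψ : P →* ℂˣ} (hψ : ψ ≠ 1) : ∃ φ : P →* ℂˣ, φ ≠ 1 ∧ ¬ Rel P ψ φ := by
  classical
  by_contra hcon
  push Not at hcon
  haveI := finite_lin hF.1
  have h1 := card_nontrivial hF.1
  have h2 := card_orbit hF hψ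
  have h3 : Nat.card {φ : P →* ℂˣ // φ ≠ 1} ≤ Nat.card {φ // Rel P ψ φ} :=
    Nat.card_le_card_of_injective (fun a => (⟨a.1, hcon a.1 a.2⟩ : {φ // Rel P ψ φ})) (fun a b h => Subtype.ext (by simpa using h))
  omega

theorem vv_one_G (P : Subgroup G) {φ : P →* ℂˣ} (hφ : φ ≠ 1) : vv P (⟨fun _ => 1, one_irr⟩ : IrrCharacter G) φ = 1 := by
  classical
  letI := Fintype.ofFinite P
  have h1 := vv_eq P (⟨fun _ => 1, one_irr⟩ : IrrCharacter G) φ
  have h2 : ∑ y : P, (1 : ℂ) * conj (1 - (φ y : ℂ)) = Nat.card P := by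
    have h4 : classInner (fun y => (((1 : P →* ℂˣ) y : ℂˣ) : ℂ)) (fun y => (φ y : ℂ)) = 0 :=
      irr_inner_ne (isIrrCharacter_hom _) (isIrrCharacter_hom _) (fun h' => hφ (hom_ext_fun h').symm)
    unfold classInner at h4
    have h5 : (Nat.card P : ℂ)⁻¹ ≠ 0 := inv_ne_zero (by exact_mod_cast Nat.card_pos.ne')
    have h6 := (mul_eq_zero.1 h4).resolve_left h5
    simp only [MonoidHom.one_apply, Units.val_one, one_mul] at h6
    simp only [one_mul, map_sub, map_one]
    rw [Finset.sum_sub_distrib, h6, Finset.sum_const, Finset.card_univ, nsmul_eq_mul, mul_one, sub_zero, Nat.card_eq_fintype_card]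
  rw [h2, inv_mul_cancel₀ (by exact_mod_cast Nat.card_pos.ne')] at h1
  exact_mod_cast h1

theorem Raw.one_mem (hR : Raw M P ζ c δ d) (hM : IsPModular p M) (hF : FrobHyp P) {m : ℕ}
    (hm : (Subgroup.centralizer (P : Set G)).relIndex (Subgroup.normalizer (P : Set G)) = m)
    (hm2 : m + 1 < Nat.card P) : (⟨fun _ => 1, one_irr⟩ : IrrCharacter G) ∈ setX M ζ := by
  refine ⟨one_mem_principal hM, ?_⟩
  intro ψ hψ h
  obtain ⟨φ, hφ, hne⟩ := exists_other hF hm hm2 hψ
  have h1 := hR.hv ψ hψ _ (one_mem_principal hM)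
  have h2 := hR.hv φ hφ _ (one_mem_principal hM)
  rw [vv_one_G P hψ, if_pos h] at h1
  rw [vv_one_G P hφ, if_neg (fun h3 => hne ((hR.hζ ψ φ hψ hφ).1 (h.symm.trans h3)))] at h2
  rcases hR.hδ with h3 | h3 <;> rw [h3] at h1 h2 <;> omega

theorem Raw.c_one (hR : Raw M P ζ c δ d) (hM : IsPModular p M) (hF : FrobHyp P) {m : ℕ}
    (hm : (Subgroup.centralizer (P : Set G)).relIndex (Subgroup.normalizer (P : Set G)) = m)
    (hm2 : m + 1 < Nat.card P) (hψ : ∃ ψ : P →* ℂˣ, ψ ≠ 1) : c (⟨fun _ => 1, one_irr⟩ : IrrCharacter G) = 1 := by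
  obtain ⟨ψ, hψ⟩ := hψ
  have h1 := hR.hv ψ hψ _ (one_mem_principal hM)
  rw [vv_one_G P hψ, if_neg ((hR.one_mem hM hF hm hm2).2 ψ hψ)] at h1
  linarith

theorem exists_ne_one (hab : ∀ a b : P, a * b = b * a) (hP : Nat.card P ≠ 1) : ∃ ψ : P →* ℂˣ, ψ ≠ 1 := by
  by_contra hcon
  push Not at hcon
  haveI : Subsingleton (P →* ℂˣ) := ⟨fun a b => by rw [hcon a, hcon b]⟩
  apply hP
  rw [← card_lin hab]
  exact Nat.card_unique

theorem card_setY (hR : Raw M P ζ c δ d) (hF : FrobHyp P) {m : ℕ}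
    (hm : (Subgroup.centralizer (P : Set G)).relIndex (Subgroup.normalizer (P : Set G)) = m) :
    Nat.card (setY ζ) * m = Nat.card P - 1 := by
  rw [← card_range hF hm (fun ψ => ζ ψ.1) (fun a b => hR.hζ a.1 b.1 a.2 b.2)]
  congr 2
  have : setY ζ = Set.range (fun ψ : {ψ : P →* ℂˣ // ψ ≠ 1} => ζ ψ.1) := by
    ext η
    constructor
    · rintro ⟨ψ, hψ, rfl⟩; exact ⟨⟨ψ, hψ⟩, rfl⟩
    · rintro ⟨ψ, rfl⟩; exact ⟨ψ.1, ψ.2, rfl⟩
  rw [this]

end Finish

section Syl
variable {G : Type u} [Group G] [Finite G] {p : ℕ} [hp : Fact p.Prime] {M : Ideal AlgInt}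
  {P : Sylow p G} {ζ : ((P : Subgroup G) →* ℂˣ) → IrrCharacter G} {c : IrrCharacter G → ℤ} {δ d : ℤ}

theorem Raw.norm (hR : Raw M (P : Subgroup G) ζ c δ d) (hM : IsPModular p M) (hF : FrobHyp (P : Subgroup G)) {m : ℕ}
    (hm : (Subgroup.centralizer ((P : Subgroup G) : Set G)).relIndex (Subgroup.normalizer ((P : Subgroup G) : Set G)) = m)
    (hψ : ∃ ψ : (P : Subgroup G) →* ℂˣ, ψ ≠ 1) :
    (d - δ) ^ 2 + ((Nat.card (setY ζ) : ℤ) - 1) * d ^ 2 + ∑ᶠ χ ∈ setX M ζ, c χ ^ 2 = (m : ℤ) + 1 := by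
  classical
  letI := Fintype.ofFinite G
  obtain ⟨ψ, hψ⟩ := hψ
  have h1 := vv_inner hM P hF hψ hψ
  rw [if_pos (rel_refl _ _), hm] at h1
  have h2 : ∑ᶠ χ ∈ principalBlock M G, vv (P : Subgroup G) χ ψ * vv (P : Subgroup G) χ ψ = (m : ℤ) + 1 := by
    have h3 : ((∑ᶠ χ ∈ principalBlock M G, vv (P : Subgroup G) χ ψ * vv (P : Subgroup G) χ ψ : ℤ) : ℂ) = (m : ℂ) + 1 := by
      rw [← h1]
      rw [finsum_mem_eq_finite_toFinset_sum _ (Set.toFinite _), finsum_mem_eq_finite_toFinset_sum _ (Set.toFinite _)]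
      push_cast
      rfl
    exact_mod_cast h3
  rw [← h2, hR.union, finsum_mem_union disj (Set.toFinite _) (Set.toFinite _), add_comm]
  congr 1
  · refine finsum_mem_congr rfl fun χ hχ => ?_
    rw [hR.hv ψ hψ χ hχ.1, if_neg (hχ.2 ψ hψ)]; ring
  · have h3 : ∑ᶠ χ ∈ setY ζ, vv (P : Subgroup G) χ ψ * vv (P : Subgroup G) χ ψ =
        ∑ᶠ χ ∈ setY ζ, (d ^ 2 + (if χ = ζ ψ then (1 - 2 * d * δ) else 0)) := by
      refine finsum_mem_congr rfl fun χ hχ => ?_
      obtain ⟨φ, hφ, rfl⟩ := hχ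
      rw [hR.hv ψ hψ _ (hR.hB φ hφ), hR.hd φ hφ]
      have := hR.delta_sq
      split_ifs
      · linear_combination this
      · ring
    rw [h3, finsum_mem_eq_finite_toFinset_sum _ (Set.toFinite _), Finset.sum_add_distrib, Finset.sum_const,
      Finset.sum_ite_eq', if_pos (by rw [Set.Finite.mem_toFinset]; exact ⟨ψ, hψ, rfl⟩), nsmul_eq_mul,
      Nat.card_coe_set_eq, Set.ncard_eq_toFinset_card _ (Set.toFinite _)]
    have := hR.delta_sq
    linear_combination this

theorem Raw.c_ne_zero (hR : Raw M (P : Subgroup G) ζ c δ d) (hM : IsPModular p M) (hF : FrobHyp (P : Subgroup G))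
    (hP1 : Nat.card P ≠ 1) {χ : IrrCharacter G} (hχ : χ ∈ setX M ζ) : c χ ≠ 0 := by
  classical
  intro h0
  letI := Fintype.ofFinite (P : Subgroup G)
  have hval : ∀ y : (P : Subgroup G), y ≠ 1 → (χ : G → ℂ) y = 0 := by
    intro y hy
    rw [hR.value_X hF.1 hχ hy, h0, Int.cast_zero]
  -- the multiplicity of the principal character
  have h1 := mult_spec (P : Subgroup G) χ 1
  unfold classInner at h1
  rw [Fintype.sum_eq_single 1 (fun y hy => by rw [hval y hy, zero_mul])] at h1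
  rw [MonoidHom.one_apply, Units.val_one, map_one, mul_one, Subgroup.coe_one, CfsgLib.CharInt.irr_one_eq_charDegree χ.2] at h1
  have hPne : (Nat.card (P : Subgroup G) : ℂ) ≠ 0 := by exact_mod_cast Nat.card_pos.ne'
  have h2 : ((charDegree (χ : G → ℂ) : ℤ)) = Nat.card (P : Subgroup G) * mult (P : Subgroup G) χ 1 := by
    have h3 : ((charDegree (χ : G → ℂ) : ℂ)) = Nat.card (P : Subgroup G) * (mult (P : Subgroup G) χ 1 : ℂ) := by
      rw [← h1, ← mul_assoc, mul_inv_cancel₀ hPne, one_mul]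
    exact_mod_cast h3
  have h4 : Nat.card (P : Subgroup G) ∣ charDegree (χ : G → ℂ) := by
    have : (Nat.card (P : Subgroup G) : ℤ) ∣ (charDegree (χ : G → ℂ) : ℤ) := ⟨_, h2⟩
    exact_mod_cast this
  have h5 := CfsgLib.CharInt2.charDegree_dvd_card χ.2
  have hd0 : charDegree (χ : G → ℂ) ≠ 0 := by
    intro h
    rw [h] at h5
    exact Nat.card_pos.ne' (Nat.eq_zero_of_zero_dvd h5)
  have h6 : (charDegree (χ : G → ℂ)).factorization p = (Nat.card G).factorization p := by
    apply le_antisymm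
    · exact (Nat.factorization_le_iff_dvd hd0 Nat.card_pos.ne').2 h5 p
    · rw [P.card_eq_multiplicity] at h4
      exact (hp.out.pow_dvd_iff_le_factorization hd0).1 h4
  have h7 := CfsgLib.BlockReg.defect_zero_block hM h6
  have h8 : (⟨fun _ => 1, one_irr⟩ : IrrCharacter G) ∈ blockOf M (χ : G → ℂ) := by
    have h9 : SameBlock M (fun _ : G => (1 : ℂ)) (χ : G → ℂ) := hχ.1
    exact CfsgLib.BlockIdem.sameBlock_symm h9
  rw [h7, Set.mem_singleton_iff] at h8
  obtain ⟨y0, hy0⟩ : ∃ y : (P : Subgroup G), y ≠ 1 := by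
    by_contra hcon
    push Not at hcon
    haveI : Subsingleton (P : Subgroup G) := ⟨fun a b => by rw [hcon a, hcon b]⟩
    exact hP1 Nat.card_unique
  have h9 := hval y0 hy0
  rw [← h8] at h9
  exact one_ne_zero h9

end Syl

end CfsgLib.FrobP19
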