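import Cfsg.Agent.EqBase
import Cfsg.Agent.LibFrobP19
import Cfsg.Agent.LibCharMore
import Cfsg.Agent.LibGalChar
import Cfsg.Agent.LibCharInt2

/-!
# Linear groups: abelian Hall subgroups for the large primes
-/

set_option autoImplicit false
set_option linter.all false

universe u v w

open Cfsg
open scoped ComplexConjugate

namespace CfsgLib.Hall19

open CfsgLib.FrobP19 CfsgLib.CharBasic

section Basic
variable {G : Type u} [Group G] [Finite G]

/-- order of a Sylow subgroup -/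
def IsSyl (p : ℕ) (P : Subgroup G) : Prop := Nat.card P = p ^ (Nat.card G).factorization p

theorem IsSyl.isPGroup {p : ℕ} [Fact p.Prime] {P : Subgroup G} (h : IsSyl p P) : IsPGroup p P := IsPGroup.of_card h

theorem exists_syl (p : ℕ) [Fact p.Prime] : ∃ P : Subgroup G, IsSyl p P := by
  obtain ⟨P⟩ : Nonempty (Sylow p G) := inferInstance
  exact ⟨P, P.card_eq_multiplicity⟩

theorem not_dvd_index_of_le {p : ℕ} [hp : Fact p.Prime] {P H : Subgroup G} (h : IsSyl p P) (hle : P ≤ H) : ¬ p ∣ H.index := by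
  intro hd
  have h1 : p ^ (Nat.card G).factorization p ∣ Nat.card H := by
    have : Nat.card P ∣ Nat.card H := Subgroup.card_dvd_of_le hle
    unfold IsSyl at h
    rwa [h] at this
  have h2 : p ^ ((Nat.card G).factorization p + 1) ∣ Nat.card G := by
    rw [pow_succ]
    conv_rhs => rw [← H.card_mul_index]
    exact mul_dvd_mul h1 hd
  exact Nat.pow_succ_factorization_not_dvd Nat.card_pos.ne' hp.out h2

theorem factorization_eq {p : ℕ} [hp : Fact p.Prime] {H : Subgroup G} (h : ¬ p ∣ H.index) :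
    (Nat.card H).factorization p = (Nat.card G).factorization p := by
  have h1 := H.card_mul_index
  have h2 : H.index ≠ 0 := Subgroup.index_ne_zero_of_finite
  rw [← h1, Nat.factorization_mul Nat.card_pos.ne' h2, Finsupp.add_apply, Nat.factorization_eq_zero_of_not_dvd h, add_zero]

theorem IsSyl.map {p : ℕ} [hp : Fact p.Prime] {H : Subgroup G} (hH : ¬ p ∣ H.index) {P : Subgroup H} (h : IsSyl p P) :
    IsSyl p (P.map H.subtype) := by
  unfold IsSyl at h ⊢
  rw [← factorization_eq hH, ← h]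
  exact Nat.card_congr (P.equivMapOfInjective H.subtype H.subtype_injective).symm.toEquiv

/-- p-elements are conjugate into a Sylow subgroup -/
theorem conj_into {p : ℕ} [hp : Fact p.Prime] {P : Subgroup G} (h : IsSyl p P) {R : Subgroup G} (hR : IsPGroup p R) :
    ∃ g : G, ∀ x ∈ R, g * x * g⁻¹ ∈ P := by
  obtain ⟨Q, hQ⟩ := hR.exists_le_sylow
  obtain ⟨g, hg⟩ := MulAction.exists_smul_eq G Q (Sylow.ofCard P h)
  refine ⟨g, fun x hx => ?_⟩
  have h1 : (P : Subgroup G) = ((Sylow.ofCard P h : Sylow p G) : Subgroup G) := rfl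
  rw [h1, ← hg, Sylow.coe_subgroup_smul]
  have h7 := Subgroup.smul_mem_pointwise_smul x (MulAut.conj g) (Q : Subgroup G) (hQ hx)
  rw [MulAut.smul_def, MulAut.conj_apply] at h7
  exact h7

theorem isPGroup_zpowers {p : ℕ} [hp : Fact p.Prime] {x : G} {k : ℕ} (hx : orderOf x = p ^ k) : IsPGroup p (Subgroup.zpowers x) :=
  IsPGroup.of_card (n := k) (by rw [Nat.card_zpowers, hx])

/-- conjugates of Sylow subgroups -/
theorem IsSyl.conj {p : ℕ} {P : Subgroup G} (h : IsSyl p P) (g : G) : IsSyl p (P.map (MulAut.conj g).toMonoidHom) := by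
  unfold IsSyl at h ⊢
  rw [← h]
  exact Nat.card_congr (P.equivMapOfInjective _ (MulAut.conj g).injective).symm.toEquiv

theorem le_of_normal_index {q : ℕ} [hq : Fact q.Prime] {N : Subgroup G} [N.Normal] {Q : Subgroup G} (h : IsPGroup q Q)
    (hN : ¬ q ∣ N.index) : Q ≤ N := by
  intro x hx
  rw [← QuotientGroup.eq_one_iff]
  obtain ⟨k, hk⟩ := IsPGroup.iff_orderOf.1 h ⟨x, hx⟩
  rw [Subgroup.orderOf_mk] at hk
  have h2 : orderOf (x : G ⧸ N) ∣ q ^ k := hk ▸ orderOf_map_dvd (QuotientGroup.mk' N) x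
  have h3 : orderOf (x : G ⧸ N) ∣ N.index := by
    have := orderOf_dvd_natCard (x : G ⧸ N)
    exact this
  obtain ⟨j, hj, hj2⟩ := (Nat.dvd_prime_pow hq.out).1 h2
  rcases Nat.eq_zero_or_pos j with h0 | h0
  · rw [h0, pow_zero, orderOf_eq_one_iff] at hj2; exact hj2
  · exfalso
    apply hN
    exact ((dvd_pow_self q h0.ne').trans (hj2 ▸ dvd_rfl)).trans h3

end Basic

/-! ### characters -/

section Chars
variable {G : Type u} [Group G] [Finite G]

theorem deg_eq {χ : G → ℂ} (hχ : IsCharacter G χ) : χ 1 = (charDegree χ : ℂ) := by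
  letI := Fintype.ofFinite G
  obtain ⟨n, hn⟩ := char_one_nat hχ
  unfold charDegree
  rw [hn]
  simp

/-- an element acts trivially in all constituents -/
theorem eq_of_constituents [Fintype G] {χ : G → ℂ} (hχ : IsCharacter G χ) {g : G}
    (h : ∀ ψ : IrrCharacter G, classInner χ (ψ : G → ℂ) ≠ 0 → (ψ : G → ℂ) g = (ψ : G → ℂ) 1) : χ g = χ 1 := by
  rw [classFun_expand_apply (char_classFun hχ) g, classFun_expand_apply (char_classFun hχ) 1]
  refine Finset.sum_congr rfl fun ψ _ => ?_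
  by_cases h0 : classInner χ (ψ : G → ℂ) = 0
  · rw [h0, zero_mul, zero_mul]
  · rw [h ψ h0]

/-- a group with a faithful character of degree smaller than all prime divisors is abelian -/
theorem abelian_of_primes {χ : G → ℂ} (hχ : IsCharacter G χ) (hf : ∀ g : G, χ g = χ 1 → g = 1)
    (hpr : ∀ r : ℕ, r.Prime → r ∣ Nat.card G → charDegree χ < r) (a b : G) : a * b = b * a := by
  classical
  letI := Fintype.ofFinite G
  have h1 : a * b * a⁻¹ * b⁻¹ = 1 := by
    apply hf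
    apply eq_of_constituents hχ
    intro ψ hψ
    have hle : charDegree (ψ : G → ℂ) ≤ charDegree χ :=
      CfsgLib.CharMore.degree_le_of_mult hχ ψ.2 hψ (CfsgLib.CharInt.irr_one_eq_charDegree ψ.2) (deg_eq hχ)
    have hdvd := CfsgLib.CharInt2.charDegree_dvd_card ψ.2
    have hone : charDegree (ψ : G → ℂ) = 1 := by
      by_contra hne
      obtain ⟨r, hr, hr2⟩ := Nat.exists_prime_and_dvd hne
      have h2 := hpr r hr (hr2.trans hdvd)
      have h3 := Nat.le_of_dvd (CfsgLib.CharInt.irr_charDegree_pos ψ.2) hr2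
      omega
    have hψ1 : (ψ : G → ℂ) 1 = 1 := by rw [CfsgLib.CharInt.irr_one_eq_charDegree ψ.2, hone, Nat.cast_one]
    have hm := linear_mul (irr_isCharacter ψ.2) hψ1
    rw [hm, hm, hm, hψ1]
    have ha : (ψ : G → ℂ) a * (ψ : G → ℂ) a⁻¹ = 1 := by rw [← hm, mul_inv_cancel, hψ1]
    have hb : (ψ : G → ℂ) b * (ψ : G → ℂ) b⁻¹ = 1 := by rw [← hm, mul_inv_cancel, hψ1]
    calc (ψ : G → ℂ) a * (ψ : G → ℂ) b * (ψ : G → ℂ) a⁻¹ * (ψ : G → ℂ) b⁻¹
        = ((ψ : G → ℂ) a * (ψ : G → ℂ) a⁻¹) * ((ψ : G → ℂ) b * (ψ : G → ℂ) b⁻¹) := by ring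
      _ = 1 := by rw [ha, hb, one_mul]
  have h2 : a * b = (a * b * a⁻¹ * b⁻¹) * (b * a) := by group
  rw [h2, h1, one_mul]

theorem restrict_faithful {χ : G → ℂ} (hf : ∀ g : G, χ g = χ 1 → g = 1) (H : Subgroup G) :
    ∀ g : H, (fun x : H => χ x) g = (fun x : H => χ x) 1 → g = 1 := by
  intro g hg
  exact Subtype.ext (hf g (by simpa using hg))

theorem restrict_degree {χ : G → ℂ} (H : Subgroup G) : charDegree (fun x : H => χ x) = charDegree χ := by
  unfold charDegree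
  simp

theorem exists_exponent (p i : ℕ) [hp : Fact p.Prime] (hi : ¬ p ∣ i) :
    ∃ k : ℕ, k.Coprime (Nat.card G) ∧ k ≡ 1 [MOD ordCompl[p] (Nat.card G)] ∧ k ≡ i [MOD ordProj[p] (Nat.card G)] := by
  have hcop : (ordCompl[p] (Nat.card G)).Coprime (ordProj[p] (Nat.card G)) := by
    rw [Nat.coprime_comm]
    exact Nat.Coprime.pow_left _ (Nat.coprime_ordCompl hp.out Nat.card_pos.ne')
  obtain ⟨k, hk1, hk2⟩ := Nat.chineseRemainder hcop 1 i
  refine ⟨k, ?_, hk1, hk2⟩
  rw [← Nat.ordProj_mul_ordCompl_eq_self (Nat.card G) p]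
  apply Nat.Coprime.mul_right
  · have h1 : Nat.gcd k (ordProj[p] (Nat.card G)) = Nat.gcd i (ordProj[p] (Nat.card G)) := hk2.gcd_eq
    rw [Nat.Coprime, h1]
    exact Nat.Coprime.pow_right _ (((Nat.Prime.coprime_iff_not_dvd hp.out).2 hi).symm)
  · have h1 : Nat.gcd k (ordCompl[p] (Nat.card G)) = Nat.gcd 1 (ordCompl[p] (Nat.card G)) := hk1.gcd_eq
    rw [Nat.Coprime, h1, Nat.gcd_one_left]

/-- characters of small degree that are rational at `p`-elements have the `p`-elements in the kernel -/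
theorem small_degree_ker {p : ℕ} [hp : Fact p.Prime] {χ : IrrCharacter G} (hn : charDegree (χ : G → ℂ) + 1 < p)
    (h : ∀ k : ℕ, k.Coprime (Nat.card G) → k ≡ 1 [MOD ordCompl[p] (Nat.card G)] → ∀ g : G, (χ : G → ℂ) (g ^ k) = (χ : G → ℂ) g)
    {x : G} {j : ℕ} (hx : orderOf x = p ^ j) : (χ : G → ℂ) x = (χ : G → ℂ) 1 := by
  classical
  letI := Fintype.ofFinite G
  let X := Subgroup.zpowers x
  letI := Fintype.ofFinite X
  have hab : ∀ a b : X, a * b = b * a := by
    rintro ⟨_, i, rfl⟩ ⟨_, j, rfl⟩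
    exact Subtype.ext ((Commute.refl x).zpow_zpow i j)
  haveI := finite_lin hab
  letI := Fintype.ofFinite (X →* ℂˣ)
  have hXcard : Nat.card X = p ^ j := by rw [Nat.card_zpowers, hx]
  have hXdvd : p ^ j ∣ ordProj[p] (Nat.card G) := by
    apply pow_dvd_pow
    exact (hp.out.pow_dvd_iff_le_factorization Nat.card_pos.ne').1 (hXcard ▸ X.card_subgroup_dvd_card)
  have hmnn : ∀ ψ : X →* ℂˣ, 0 ≤ mult X χ ψ := by
    intro ψ
    obtain ⟨m, hm⟩ := char_mult (isCharacter_restrict (irr_isCharacter χ.2) X) (isCharacter_hom ψ)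
    have h1 := mult_spec X χ ψ
    rw [hm] at h1
    have h2 : mult X χ ψ = (m : ℤ) := by exact_mod_cast h1.symm
    rw [h2]; positivity
  have hsum : ∑ ψ : X →* ℂˣ, mult X χ ψ = (charDegree (χ : G → ℂ) : ℤ) := by
    have h1 := lin_expand hab (fun w : X => (χ : G → ℂ) w) 1
    simp_rw [mult_spec, map_one, Units.val_one, mul_one] at h1
    rw [Subgroup.coe_one, CfsgLib.CharInt.irr_one_eq_charDegree χ.2] at h1
    exact_mod_cast h1.symm
  have hpow : ∀ (ψ : X →* ℂˣ) (i : ℕ), ¬ p ∣ i → mult X χ ((powMonoidHom i).comp ψ) = mult X χ ψ := by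
    intro ψ i hi
    obtain ⟨k, hk, hk1, hk2⟩ := exists_exponent (G := G) p i hi
    have hkX : (Nat.card X).Coprime k := (Nat.Coprime.coprime_dvd_right X.card_subgroup_dvd_card hk).symm
    have h1 : (mult X χ ((powMonoidHom i).comp ψ) : ℂ) = (mult X χ ψ : ℂ) := by
      rw [← mult_spec, ← mult_spec]
      unfold classInner
      congr 1
      refine Fintype.sum_equiv (powCoprime hkX) _ _ fun w => ?_
      rw [powCoprime_apply]
      congr 1
      · rw [Subgroup.coe_pow, h k hk hk1]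
      · congr 2
        change (ψ w) ^ i = ψ (w ^ k)
        rw [← map_pow]
        congr 1
        rw [pow_eq_pow_iff_modEq]
        have h2 : orderOf w ∣ ordProj[p] (Nat.card G) := (orderOf_dvd_natCard w).trans (hXcard ▸ hXdvd)
        exact (hk2.of_dvd h2).symm
    exact_mod_cast h1
  have hzero : ∀ ψ : X →* ℂˣ, ψ ≠ 1 → mult X χ ψ = 0 := by
    intro ψ hψ
    by_contra hne
    have hpos : 1 ≤ mult X χ ψ := by have := hmnn ψ; omega
    obtain ⟨w0, hw0⟩ : ∃ w, ψ w ≠ 1 := by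
      by_contra hcon
      push Not at hcon
      exact hψ (MonoidHom.ext hcon)
    have hord : p ∣ orderOf (ψ w0) := by
      have h1 : (ψ w0) ^ (p ^ j) = 1 := by
        rw [← map_pow, ← hXcard, pow_card_eq_one', map_one]
      obtain ⟨i, -, hi⟩ := (Nat.dvd_prime_pow hp.out).1 (orderOf_dvd_of_pow_eq_one h1)
      rw [hi]
      apply dvd_pow_self
      rintro rfl
      rw [pow_zero, orderOf_eq_one_iff] at hi
      exact hw0 hi
    -- the powers
    have hinj : Set.InjOn (fun i : ℕ => (powMonoidHom i).comp ψ) (Finset.Ico 1 p : Finset ℕ) := by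
      intro a ha b hb hab'
      simp only [Finset.coe_Ico, Set.mem_Ico] at ha hb
      have h1 : (ψ w0) ^ a = (ψ w0) ^ b := DFunLike.congr_fun hab' w0
      rw [pow_eq_pow_iff_modEq] at h1
      have h2 : a ≡ b [MOD p] := h1.of_dvd hord
      exact Nat.ModEq.eq_of_lt_of_lt h2 ha.2 hb.2
    have h3 : ∑ φ ∈ (Finset.Ico 1 p).image (fun i : ℕ => (powMonoidHom i).comp ψ), mult X χ φ ≤ ∑ φ : X →* ℂˣ, mult X χ φ :=
      Finset.sum_le_sum_of_subset_of_nonneg (Finset.subset_univ _) (fun φ _ _ => hmnn φ)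
    rw [Finset.sum_image hinj, hsum] at h3
    have h4 : ∑ i ∈ Finset.Ico 1 p, mult X χ ((powMonoidHom i).comp ψ) = ∑ i ∈ Finset.Ico 1 p, mult X χ ψ := by
      refine Finset.sum_congr rfl fun i hi => ?_
      rw [Finset.mem_Ico] at hi
      apply hpow
      intro hd
      have := Nat.le_of_dvd (by omega) hd
      omega
    rw [h4, Finset.sum_const, Nat.card_Ico, nsmul_eq_mul] at h3
    have h5 : ((p - 1 : ℕ) : ℤ) ≤ charDegree (χ : G → ℂ) := by
      calc ((p - 1 : ℕ) : ℤ) = ((p - 1 : ℕ) : ℤ) * 1 := by ring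
        _ ≤ ((p - 1 : ℕ) : ℤ) * mult X χ ψ := mul_le_mul_of_nonneg_left hpos (by positivity)
        _ ≤ _ := h3
    have h6 : p - 1 ≤ charDegree (χ : G → ℂ) := by exact_mod_cast h5
    omega
  have e1 := lin_expand hab (fun w : X => (χ : G → ℂ) w) ⟨x, Subgroup.mem_zpowers x⟩
  have e2 := lin_expand hab (fun w : X => (χ : G → ℂ) w) 1
  simp only at e1 e2
  rw [Subgroup.coe_one] at e2
  rw [e1, e2]
  refine Finset.sum_congr rfl fun ψ _ => ?_
  rw [mult_spec]
  by_cases h0 : ψ = 1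
  · rw [h0]; simp
  · rw [hzero ψ h0]; simp

/-- the product argument -/
theorem product_argument {p q : ℕ} [hp : Fact p.Prime] [hq : Fact q.Prime] {χ : IrrCharacter G}
    (hnp : charDegree (χ : G → ℂ) + 1 < p) (hnq : charDegree (χ : G → ℂ) + 1 < q)
    (hno : ∀ g : G, ¬ p ∣ orderOf g ∨ ¬ q ∣ orderOf g) :
    (∀ (x : G) (j : ℕ), orderOf x = p ^ j → (χ : G → ℂ) x = (χ : G → ℂ) 1) ∨
      (∀ (x : G) (j : ℕ), orderOf x = q ^ j → (χ : G → ℂ) x = (χ : G → ℂ) 1) := by
  classical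
  letI := Fintype.ofFinite G
  by_cases h1 : ∀ k : ℕ, k.Coprime (Nat.card G) → k ≡ 1 [MOD ordCompl[p] (Nat.card G)] → ∀ g : G, (χ : G → ℂ) (g ^ k) = (χ : G → ℂ) g
  · exact Or.inl fun x j hx => small_degree_ker hnp h1 hx
  by_cases h2 : ∀ k : ℕ, k.Coprime (Nat.card G) → k ≡ 1 [MOD ordCompl[q] (Nat.card G)] → ∀ g : G, (χ : G → ℂ) (g ^ k) = (χ : G → ℂ) g
  · exact Or.inr fun x j hx => small_degree_ker hnq h2 hx
  exfalso
  push Not at h1 h2
  obtain ⟨k, hk, hk1, g1, hg1⟩ := h1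
  obtain ⟨l, hl, hl1, g2, hg2⟩ := h2
  obtain ⟨σ, hσ⟩ := CfsgLib.GalChar.exists_gal_of_coprime hk
  obtain ⟨τ, hτ⟩ := CfsgLib.GalChar.exists_gal_of_coprime hl
  have hσχ : ∀ g, (CfsgLib.GalChar.galIrr σ χ : G → ℂ) g = (χ : G → ℂ) (g ^ k) := fun g => (hσ _ (irr_isCharacter χ.2) g).symm
  have hτχ : ∀ g, (CfsgLib.GalChar.galIrr τ χ : G → ℂ) g = (χ : G → ℂ) (g ^ l) := fun g => (hτ _ (irr_isCharacter χ.2) g).symm
  have hreg : ∀ (r : ℕ) [hr : Fact r.Prime] (m : ℕ), m ≡ 1 [MOD ordCompl[r] (Nat.card G)] → ∀ g : G, ¬ r ∣ orderOf g → g ^ m = g := by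
    intro r hr m hm g hg
    have h3 : orderOf g ∣ ordCompl[r] (Nat.card G) := by
      have h4 : orderOf g ∣ ordProj[r] (Nat.card G) * ordCompl[r] (Nat.card G) := by
        rw [Nat.ordProj_mul_ordCompl_eq_self]; exact orderOf_dvd_natCard g
      refine Nat.Coprime.dvd_of_dvd_mul_left ?_ h4
      exact Nat.Coprime.pow_right _ (((Nat.Prime.coprime_iff_not_dvd hr.out).2 hg).symm)
    conv_rhs => rw [← pow_one g]
    rw [pow_eq_pow_iff_modEq]
    exact hm.of_dvd h3
  have hz : ∀ g : G, ((CfsgLib.GalChar.galIrr σ χ : G → ℂ) g - (χ : G → ℂ) g) * conj ((CfsgLib.GalChar.galIrr τ χ : G → ℂ) g - (χ : G → ℂ) g) = 0 := by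
    intro g
    rcases hno g with h | h
    · rw [hσχ, hreg p k hk1 g h, sub_self, zero_mul]
    · rw [hτχ, hreg q l hl1 g h, sub_self, map_zero, mul_zero]
  have hσne : (CfsgLib.GalChar.galIrr σ χ : G → ℂ) ≠ (χ : G → ℂ) := by
    intro h; apply hg1; rw [← hσχ, h]
  have hτne : (χ : G → ℂ) ≠ (CfsgLib.GalChar.galIrr τ χ : G → ℂ) := by
    intro h; apply hg2; rw [← hτχ, ← h]
  have hsum : classInner (CfsgLib.GalChar.galIrr σ χ : G → ℂ) (CfsgLib.GalChar.galIrr τ χ : G → ℂ)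
      - classInner (CfsgLib.GalChar.galIrr σ χ : G → ℂ) (χ : G → ℂ) - classInner (χ : G → ℂ) (CfsgLib.GalChar.galIrr τ χ : G → ℂ)
      + classInner (χ : G → ℂ) (χ : G → ℂ) = 0 := by
    unfold classInner
    rw [← mul_sub, ← mul_sub, ← mul_add, ← Finset.sum_sub_distrib, ← Finset.sum_sub_distrib, ← Finset.sum_add_distrib]
    rw [Finset.sum_eq_zero, mul_zero]
    intro g _
    rw [← hz g, map_sub]; ring
  rw [irr_inner_ne (CfsgLib.GalChar.galIrr σ χ).2 χ.2 hσne, irr_inner_ne χ.2 (CfsgLib.GalChar.galIrr τ χ).2 hτne,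
    irr_inner_self χ.2] at hsum
  obtain ⟨m, hm⟩ := char_mult (irr_isCharacter (CfsgLib.GalChar.galIrr σ χ).2) (irr_isCharacter (CfsgLib.GalChar.galIrr τ χ).2)
  rw [hm] at hsum
  have h5 : ((m + 1 : ℕ) : ℂ) = 0 := by push_cast; linear_combination hsum
  have h6 : m + 1 = 0 := by exact_mod_cast h5
  omega

end Chars

end CfsgLib.Hall19
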