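import Mathlib
import Cfsg.Agent.EqBase
import Cfsg.Prelude.Def_Characters

set_option autoImplicit false
set_option maxHeartbeats 400000
set_option linter.unusedSectionVars false
set_option linter.style.haveILetI false

/-! Integral forms of representations over valuation rings. -/

namespace CfsgLib.Nag19

open Cfsg

/-- a minimal spanning family over a valuation ring is linearly independent -/
theorem exists_family (A : ValuationSubring ℂ) {n : ℕ} (L : Submodule A (Fin n → ℂ)) (hL : L.FG) :
    ∃ (m : ℕ) (v : Fin m → (Fin n → ℂ)), Submodule.span A (Set.range v) = L ∧ LinearIndependent A v := by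
  classical
  have hex : ∃ m : ℕ, ∃ v : Fin m → (Fin n → ℂ), Submodule.span A (Set.range v) = L := by
    obtain ⟨m, v, hv⟩ := Submodule.fg_iff_exists_fin_generating_family.1 hL
    exact ⟨m, v, hv⟩
  obtain ⟨m, ⟨v, hv⟩, hmin⟩ : ∃ m : ℕ, (∃ v : Fin m → (Fin n → ℂ), Submodule.span A (Set.range v) = L) ∧
      ∀ k < m, ¬ ∃ v : Fin k → (Fin n → ℂ), Submodule.span A (Set.range v) = L :=
    ⟨Nat.find hex, Nat.find_spec hex, fun k hk => Nat.find_min hex hk⟩
  refine ⟨m, v, hv, ?_⟩
  rw [Fintype.linearIndependent_iff]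
  intro c hc
  by_contra hne
  push Not at hne
  obtain ⟨i0, hi0⟩ := hne
  -- an element dividing all
  have hdiv : ∀ s : Finset (Fin m), s.Nonempty → ∃ j ∈ s, ∀ i ∈ s, c j ∣ c i := by
    intro s hs
    induction hs using Finset.Nonempty.cons_induction with
    | singleton a => exact ⟨a, Finset.mem_singleton_self a, fun i hi => by rw [Finset.mem_singleton.1 hi]⟩
    | cons a s ha hs ih =>
      obtain ⟨j, hj, hj'⟩ := ih
      rcases ValuationRing.dvd_total (c j) (c a) with h | h
      · refine ⟨j, Finset.mem_cons_of_mem hj, fun i hi => ?_⟩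
        rw [Finset.mem_cons] at hi
        rcases hi with rfl | hi
        · exact h
        · exact hj' i hi
      · refine ⟨a, Finset.mem_cons_self a s, fun i hi => ?_⟩
        rw [Finset.mem_cons] at hi
        rcases hi with rfl | hi
        · exact dvd_refl _
        · exact h.trans (hj' i hi)
  obtain ⟨j, -, hj⟩ := hdiv Finset.univ ⟨i0, Finset.mem_univ _⟩
  have hcj : c j ≠ 0 := by
    intro h
    apply hi0
    have := hj i0 (Finset.mem_univ _)
    rw [h, zero_dvd_iff] at this
    exact this
  choose d hd using fun i => hj i (Finset.mem_univ i)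
  have hcjC : ((c j : A) : ℂ) ≠ 0 := fun h => hcj (Subtype.ext h)
  have hdj : d j = 1 := by
    have h1 := hd j
    exact (mul_left_cancel₀ hcj (by rw [mul_one]; exact h1)).symm
  have h1 : ∑ i, d i • v i = 0 := by
    have h2 : (c j) • ∑ i, d i • v i = 0 := by
      rw [Finset.smul_sum, ← hc]
      refine Finset.sum_congr rfl fun i _ => ?_
      rw [smul_smul, ← hd i]
    have h3 : ((c j : A) : ℂ) • ∑ i, d i • v i = 0 := h2
    exact (smul_eq_zero.1 h3).resolve_left hcjC
  have hvj : v j ∈ Submodule.span A (v '' {i | i ≠ j}) := by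
    have h2 : v j = - ∑ i ∈ Finset.univ.erase j, d i • v i := by
      rw [← Finset.add_sum_erase Finset.univ _ (Finset.mem_univ j), hdj, one_smul] at h1
      exact eq_neg_of_add_eq_zero_left h1
    rw [h2]
    refine Submodule.neg_mem _ (Submodule.sum_mem _ fun i hi => Submodule.smul_mem _ _ (Submodule.subset_span ?_))
    exact ⟨i, (Finset.mem_erase.1 hi).1, rfl⟩
  -- a shorter family
  have hmpos : 0 < m := Fin.pos_iff_nonempty.2 ⟨j⟩
  obtain ⟨m', hm'⟩ : ∃ m', m = m' + 1 := ⟨m - 1, by omega⟩
  have hshort : ∃ w : Fin m' → (Fin n → ℂ), Submodule.span A (Set.range w) = L := by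
    have hcard : Fintype.card {i : Fin m // i ≠ j} = m' := by
      rw [Fintype.card_subtype_compl, Fintype.card_fin, Fintype.card_subtype_eq]
      omega
    let e : Fin m' ≃ {i : Fin m // i ≠ j} := (Fintype.equivFinOfCardEq hcard).symm
    refine ⟨fun i => v (e i), ?_⟩
    have hr : Set.range (fun i => v (e i)) = v '' {i | i ≠ j} := by
      ext y
      constructor
      · rintro ⟨i, rfl⟩
        exact ⟨(e i : Fin m), (e i).2, rfl⟩
      · rintro ⟨i, hi, rfl⟩
        exact ⟨e.symm ⟨i, hi⟩, by simp⟩
    rw [hr, ← hv]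
    apply le_antisymm
    · exact Submodule.span_mono (Set.image_subset_range _ _)
    · rw [Submodule.span_le]
      rintro _ ⟨i, rfl⟩
      by_cases hij : i = j
      · rw [hij]; exact hvj
      · exact Submodule.subset_span ⟨i, hij, rfl⟩
  exact hmin m' (by omega) hshort

/-- integral form of a character -/
theorem exists_integral {G : Type*} [Group G] [Finite G] {f : G → ℂ} (hf : IsCharacter G f) (A : ValuationSubring ℂ) :
    ∃ (n : ℕ) (Φ : G →* Matrix (Fin n) (Fin n) A), (∀ g, f g = ((Matrix.trace (Φ g) : A) : ℂ)) ∧ f 1 = n := by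
  classical
  haveI := Fintype.ofFinite G
  obtain ⟨n, σ, rfl⟩ := hf
  let T : Set (Fin n → ℂ) := Set.range (fun q : G × Fin n => σ q.1 (Pi.single q.2 1))
  have hTfin : T.Finite := Set.finite_range _
  let L : Submodule A (Fin n → ℂ) := Submodule.span A T
  have hLfg : L.FG := Submodule.fg_span hTfin
  obtain ⟨m, v, hv, hli⟩ := exists_family A L hLfg
  have hliC : LinearIndependent ℂ v := (LinearIndependent.iff_fractionRing A ℂ).1 hli
  have hspan : ⊤ ≤ Submodule.span ℂ (Set.range v) := by
    have h1 : ∀ i, (Pi.single i (1 : ℂ) : Fin n → ℂ) ∈ Submodule.span ℂ (Set.range v) := by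
      intro i
      have h2 : (Pi.single i (1 : ℂ) : Fin n → ℂ) ∈ L := Submodule.subset_span ⟨(1, i), by simp⟩
      rw [← hv] at h2
      exact Submodule.span_le_restrictScalars A ℂ _ h2
    intro w _
    have h3 : w = ∑ i, w i • (Pi.single i (1 : ℂ) : Fin n → ℂ) := by
      funext j
      simp [Finset.sum_apply, Pi.single_apply]
    rw [h3]
    exact Submodule.sum_mem _ fun i _ => Submodule.smul_mem _ _ (h1 i)
  let b : Module.Basis (Fin m) ℂ (Fin n → ℂ) := Module.Basis.mk hliC hspan
  have hb : ∀ i, b i = v i := fun i => by simp [b]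
  have hstab : ∀ (g : G) (w : Fin n → ℂ), w ∈ L → σ g w ∈ L := by
    intro g w hw
    refine Submodule.span_induction (p := fun w _ => σ g w ∈ L) ?_ ?_ ?_ ?_ hw
    · rintro _ ⟨⟨h, i⟩, rfl⟩
      refine Submodule.subset_span ⟨(g * h, i), ?_⟩
      simp only [map_mul, Module.End.mul_apply]
    · rw [map_zero]; exact L.zero_mem
    · intro x y _ _ hx hy; rw [map_add]; exact L.add_mem hx hy
    · intro a x _ hx
      have : σ g (a • x) = a • σ g x := by
        change σ g ((a : ℂ) • x) = (a : ℂ) • σ g x
        rw [map_smul]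
      rw [this]; exact L.smul_mem _ hx
  have hrange : Set.range b = Set.range v := by
    congr 1; funext i; exact hb i
  have hent : ∀ (g : G) (i j : Fin m), LinearMap.toMatrix b b (σ g) i j ∈ A := by
    intro g i j
    rw [LinearMap.toMatrix_apply]
    have h1 : σ g (b j) ∈ Submodule.span A (Set.range b) := by
      rw [hrange, hv]
      apply hstab
      rw [← hv, hb]
      exact Submodule.subset_span ⟨j, rfl⟩
    obtain ⟨a, ha⟩ := (b.mem_span_iff_repr_mem A _).1 h1 i
    rw [← ha]
    exact a.2
  let Φ0 : G → Matrix (Fin m) (Fin m) A := fun g => Matrix.of fun i j => ⟨_, hent g i j⟩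
  have hΦ0 : ∀ g, (Φ0 g).map A.subtype = LinearMap.toMatrix b b (σ g) := by
    intro g; ext i j; rfl
  have hinj : Function.Injective (fun X : Matrix (Fin m) (Fin m) A => X.map A.subtype) :=
    Matrix.map_injective (fun x y h => Subtype.ext h)
  refine ⟨m, ⟨⟨Φ0, ?_⟩, ?_⟩, ?_, ?_⟩
  · apply hinj
    change (Φ0 1).map A.subtype = (1 : Matrix (Fin m) (Fin m) A).map A.subtype
    rw [hΦ0, map_one, Matrix.map_one _ (map_zero _) (map_one _)]
    exact LinearMap.toMatrix_one b
  · intro g h
    apply hinj
    change (Φ0 (g * h)).map A.subtype = (Φ0 g * Φ0 h).map A.subtype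
    rw [Matrix.map_mul, hΦ0, hΦ0, hΦ0, map_mul]
    exact LinearMap.toMatrix_mul b _ _
  · intro g
    change LinearMap.trace ℂ _ (σ g) = ((Matrix.trace (Φ0 g) : A) : ℂ)
    rw [LinearMap.trace_eq_matrix_trace ℂ b, ← hΦ0]
    unfold Matrix.trace
    have : ∀ s : Finset (Fin m), ((∑ i ∈ s, (Φ0 g).diag i : A) : ℂ) = ∑ i ∈ s, (((Φ0 g).map A.subtype).diag i) := by
      intro s
      exact map_sum A.subtype _ _
    exact (this Finset.univ).symm
  · change LinearMap.trace ℂ _ (σ 1) = m
    rw [map_one, LinearMap.trace_one, Module.finrank_eq_card_basis b, Fintype.card_fin]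

end CfsgLib.Nag19
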