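import Mathlib
import Cfsg.Agent.EqBase

set_option autoImplicit false
set_option maxHeartbeats 400000
set_option linter.unusedSectionVars false
set_option linter.style.haveILetI false

/-! Linear algebra in characteristic `p` for the transfer of block components. -/

namespace CfsgLib.Nag19

open Matrix

/-- sums over free actions -/
theorem sum_free {P S W : Type*} [Group P] [Fintype P] [Fintype S] [MulAction P S] [AddCommMonoid W] (F : S → W)
    (hfree : ∀ (u : P) (s : S), u • s = s → u = 1) (h : ∀ s, ∑ u : P, F (u • s) = 0) : ∑ s, F s = 0 := by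
  classical
  rw [← Finset.sum_fiberwise (s := Finset.univ) (g := fun s : S => (Quotient.mk (MulAction.orbitRel P S) s))]
  refine Finset.sum_eq_zero fun q _ => ?_
  obtain ⟨s0, rfl⟩ := Quotient.exists_rep q
  have h1 : (Finset.univ.filter (fun s : S => (Quotient.mk (MulAction.orbitRel P S) s) = Quotient.mk (MulAction.orbitRel P S) s0)) =
      Finset.univ.image (fun u : P => u • s0) := by
    ext s
    rw [Finset.mem_filter, Finset.mem_image]
    constructor
    · rintro ⟨-, h2⟩
      have h3 : (MulAction.orbitRel P S) s s0 := Quotient.exact h2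
      obtain ⟨u, hu⟩ := h3
      exact ⟨u, Finset.mem_univ _, hu⟩
    · rintro ⟨u, -, rfl⟩
      exact ⟨Finset.mem_univ _, Quotient.sound ⟨u, rfl⟩⟩
  rw [h1, Finset.sum_image]
  · exact h s0
  · intro u _ v _ huv
    have h2 : (v⁻¹ * u) • s0 = s0 := by
      have huv' : u • s0 = v • s0 := huv
      rw [mul_smul, huv', inv_smul_smul]
    have h3 := hfree _ _ h2
    exact (inv_mul_eq_one.1 h3).symm

theorem geom_char {k : Type*} [Field k] {p : ℕ} [hp : Fact p.Prime] [CharP k p] {A : Type*} [Ring A] [Algebra k A] (T : A) :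
    ∑ i ∈ Finset.range p, T ^ i = (T - 1) ^ (p - 1) := by
  have h1 : ∑ i ∈ Finset.range p, (Polynomial.X : Polynomial k) ^ i = (Polynomial.X - 1) ^ (p - 1) := by
    have h2 : (Polynomial.X - 1 : Polynomial k) * ∑ i ∈ Finset.range p, (Polynomial.X : Polynomial k) ^ i =
        (Polynomial.X - 1) * (Polynomial.X - 1) ^ (p - 1) := by
      rw [mul_geom_sum, ← pow_succ', Nat.sub_add_cancel hp.out.pos, sub_pow_char, one_pow]
    exact mul_left_cancel₀ (Polynomial.X_sub_C_ne_zero (1 : k)) (by simpa using h2)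
  have h3 := congrArg (Polynomial.aeval T) h1
  simpa using h3

variable {k : Type*} [Field k] {p : ℕ} [hp : Fact p.Prime] [CharP k p]
variable {κ : Type*} [Fintype κ] [DecidableEq κ]
variable {G : Type*} [Group G] [Fintype G]

theorem norm_zero {R : G →* Matrix κ κ k} {x : G} (hR : (R x - 1) ^ (p - 1) = 0) :
    ∑ i ∈ Finset.range p, R (x ^ i) = 0 := by
  rw [← hR, ← geom_char (k := k) (R x)]
  exact Finset.sum_congr rfl fun i _ => map_pow R x i

/-- class function sums outside the centralizer kill fixed vectors -/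
theorem sum_off {R : G →* Matrix κ κ k} {x : G} (hx : orderOf x = p) (hR : (R x - 1) ^ (p - 1) = 0) {c : G → k}
    (hc : ∀ g h, c (h * g * h⁻¹) = c g) {v : κ → k} (hv : R x *ᵥ v = v)
    [DecidablePred (fun g : G => ¬ g * x = x * g)] :
    ∑ g ∈ Finset.univ.filter (fun g : G => ¬ g * x = x * g), c g • (R g *ᵥ v) = 0 := by
  classical
  have hvz : ∀ i : ℕ, R (x ^ i) *ᵥ v = v := by
    intro i
    induction i with
    | zero => rw [pow_zero, map_one, Matrix.one_mulVec]
    | succ n ih => rw [pow_succ, map_mul, ← Matrix.mulVec_mulVec, hv, ih]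
  have hvi : ∀ i : ℕ, R (x ^ i)⁻¹ *ᵥ v = v := by
    intro i
    conv_lhs => rw [← hvz i]
    rw [Matrix.mulVec_mulVec, ← map_mul, inv_mul_cancel, map_one, Matrix.one_mulVec]
  let S := {g : G // ¬ g * x = x * g}
  letI : MulAction (Subgroup.zpowers x) S :=
    { smul := fun u g => ⟨(u : G) * g.1 * (u : G)⁻¹, by
        intro h
        apply g.2
        have hu : (u : G) * x = x * u := by
          obtain ⟨j, hj⟩ := Subgroup.mem_zpowers_iff.1 u.2
          rw [← hj]
          exact ((Commute.refl x).zpow_left j)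
        have h1 : (u : G) * (g.1 * x) * (u : G)⁻¹ = (u : G) * (x * g.1) * (u : G)⁻¹ := by
          calc (u : G) * (g.1 * x) * (u : G)⁻¹ = ((u : G) * g.1 * (u : G)⁻¹) * ((u : G) * x) * (u : G)⁻¹ := by group
            _ = ((u : G) * g.1 * (u : G)⁻¹) * (x * u) * (u : G)⁻¹ := by rw [hu]
            _ = ((u : G) * g.1 * (u : G)⁻¹) * x := by group
            _ = x * ((u : G) * g.1 * (u : G)⁻¹) := h
            _ = (x * u) * g.1 * (u : G)⁻¹ := by group
            _ = (u : G) * (x * g.1) * (u : G)⁻¹ := by rw [← hu]; group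
        exact mul_left_cancel (mul_right_cancel h1)⟩
      one_smul := fun g => Subtype.ext (by
        change ((1 : Subgroup.zpowers x) : G) * g.1 * ((1 : Subgroup.zpowers x) : G)⁻¹ = g.1
        simp)
      mul_smul := fun u w g => Subtype.ext (by
        change ((u * w : Subgroup.zpowers x) : G) * g.1 * ((u * w : Subgroup.zpowers x) : G)⁻¹ =
          (u : G) * ((w : G) * g.1 * (w : G)⁻¹) * (u : G)⁻¹
        rw [Subgroup.coe_mul]; group) }
  have hsm : ∀ (u : Subgroup.zpowers x) (g : S), ((u • g : S) : G) = (u : G) * g.1 * (u : G)⁻¹ := fun u g => rfl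
  have h1 : ∑ g ∈ Finset.univ.filter (fun g : G => ¬ g * x = x * g), c g • (R g *ᵥ v) =
      ∑ g : S, c g.1 • (R g.1 *ᵥ v) := by
    rw [← Finset.sum_subtype (Finset.univ.filter (fun g : G => ¬ g * x = x * g)) (by simp) (fun g => c g • (R g *ᵥ v))]
  rw [h1]
  apply sum_free (P := Subgroup.zpowers x)
  · intro u g hug
    by_contra hu1
    apply g.2
    have h2 : (u : G) * g.1 = g.1 * u := by
      have h3 := hsm u g
      rw [hug] at h3
      exact (mul_inv_eq_iff_eq_mul.1 h3.symm)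
    -- `x` is a power of `u`
    have hcard : Nat.card (Subgroup.zpowers x) = p := by rw [Nat.card_zpowers, hx]
    have ho : orderOf u = p := by
      have h4 := orderOf_dvd_natCard u
      rw [hcard] at h4
      rcases (Nat.dvd_prime hp.out).1 h4 with h5 | h5
      · exact absurd (orderOf_eq_one_iff.1 h5) hu1
      · exact h5
    have h6 : Subgroup.zpowers u = ⊤ := by
      apply Subgroup.eq_top_of_card_eq
      rw [Nat.card_zpowers, ho, hcard]
    have h7 : (⟨x, Subgroup.mem_zpowers x⟩ : Subgroup.zpowers x) ∈ Subgroup.zpowers u := by rw [h6]; trivial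
    obtain ⟨j, hj⟩ := Subgroup.mem_zpowers_iff.1 h7
    have h8 : (u : G) ^ j = x := by
      have := congrArg Subtype.val hj
      rwa [Subgroup.coe_zpow] at this
    have h9 : Commute (u : G) g.1 := h2
    have h10 : g.1 * (u : G) ^ j = (u : G) ^ j * g.1 := (h9.zpow_left j).symm
    rw [h8] at h10
    exact h10
  · intro g
    have h2 : ∀ u : Subgroup.zpowers x, c (u • g : S).1 • (R (u • g : S).1 *ᵥ v) = R u *ᵥ (c g.1 • (R g.1 *ᵥ v)) := by
      intro u
      rw [hsm, hc, Matrix.mulVec_smul]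
      congr 1
      rw [map_mul, map_mul, ← Matrix.mulVec_mulVec, ← Matrix.mulVec_mulVec]
      congr 2
      obtain ⟨j, hj⟩ := (isOfFinOrder_of_finite x).mem_powers_iff_mem_zpowers.2 u.2
      have hj' : x ^ j = (u : G) := hj
      rw [← hj']
      exact hvi j
    rw [Finset.sum_congr rfl (fun u _ => h2 u), ← Matrix.sum_mulVec]
    have h3 : ∑ u : Subgroup.zpowers x, R u = 0 := by
      rw [← norm_zero hR, ← hx, ← Fin.sum_univ_eq_sum_range (fun i => R (x ^ i)),
        ← Equiv.sum_comp (finEquivZPowers (isOfFinOrder_of_finite x))]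
      refine Finset.sum_congr rfl fun i _ => ?_
      rw [finEquivZPowers_apply]
    rw [h3, Matrix.zero_mulVec]

/-- the key vanishing -/
theorem idem_zero_char {R : G →* Matrix κ κ k} {x : G} (hx : orderOf x = p) (hR : (R x - 1) ^ (p - 1) = 0) {c : G → k}
    (hc : ∀ g h, c (h * g * h⁻¹) = c g) (f : Matrix κ κ k) (hf : f * f = f) (hfx : f * R x = R x * f)
    (hcc : (∑ g, c g • R g) * (∑ g, c g • R g) = ∑ g, c g • R g)
    (hfc : f * (∑ g, c g • R g) = (∑ g, c g • R g) * f)
    [DecidablePred (fun g : G => g * x = x * g)]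
    (hC : (∑ g ∈ Finset.univ.filter (fun g : G => g * x = x * g), c g • R g) * f = 0) :
    (∑ g, c g • R g) * f = 0 := by
  classical
  set F := ∑ g, c g • R g with hF
  have hFx : F * R x = R x * F := by
    rw [hF, Finset.sum_mul, Finset.mul_sum, ← Equiv.sum_comp (MulAut.conj x).toEquiv]
    refine Finset.sum_congr rfl fun g _ => ?_
    have h1 : (MulAut.conj x).toEquiv g = x * g * x⁻¹ := rfl
    rw [h1, hc, Matrix.smul_mul, Matrix.mul_smul, ← map_mul, ← map_mul]
    congr 2
    group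
  by_contra hne
  have hE : ∃ w, (F * f) *ᵥ w ≠ 0 := by
    by_contra hcon
    push Not at hcon
    apply hne
    apply Matrix.toLin'.injective
    apply LinearMap.ext
    intro w
    rw [Matrix.toLin'_apply, hcon, map_zero, LinearMap.zero_apply]
  obtain ⟨w, hw⟩ := hE
  set E := F * f with hEdef
  have hEE : E * E = E := by
    rw [hEdef]
    calc F * f * (F * f) = F * (f * F) * f := by noncomm_ring
      _ = F * (F * f) * f := by rw [hfc]
      _ = (F * F) * (f * f) := by noncomm_ring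
      _ = F * f := by rw [hcc, hf]
  have hEx : E * R x = R x * E := by
    rw [hEdef, Matrix.mul_assoc, hfx, ← Matrix.mul_assoc, hFx, Matrix.mul_assoc]
  set N := R x - 1 with hN
  have hEN : ∀ m : ℕ, E * N ^ m = N ^ m * E := by
    have h1 : Commute E N := by
      change E * (R x - 1) = (R x - 1) * E
      rw [mul_sub, sub_mul, hEx]; simp
    intro m
    exact (h1.pow_right m).eq
  have hex : ∃ m : ℕ, N ^ m *ᵥ (E *ᵥ w) = 0 := ⟨p - 1, by rw [hR, Matrix.zero_mulVec]⟩
  obtain ⟨m, hm, hmin⟩ : ∃ m : ℕ, N ^ m *ᵥ (E *ᵥ w) = 0 ∧ ∀ j < m, N ^ j *ᵥ (E *ᵥ w) ≠ 0 :=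
    ⟨Nat.find hex, Nat.find_spec hex, fun j hj => Nat.find_min hex hj⟩
  have hm0 : m ≠ 0 := by
    rintro rfl
    rw [pow_zero, Matrix.one_mulVec] at hm
    exact hw hm
  obtain ⟨j, rfl⟩ := Nat.exists_eq_succ_of_ne_zero hm0
  have hv0 := hmin j (Nat.lt_succ_self j)
  set v := N ^ j *ᵥ (E *ᵥ w) with hv
  have hNv : N *ᵥ v = 0 := by
    rw [hv, Matrix.mulVec_mulVec, ← pow_succ']; exact hm
  have hRv : R x *ᵥ v = v := by
    rw [hN, Matrix.sub_mulVec, Matrix.one_mulVec, sub_eq_zero] at hNv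
    exact hNv
  have hEv : E *ᵥ v = v := by
    rw [hv, Matrix.mulVec_mulVec, Matrix.mulVec_mulVec, hEN, Matrix.mul_assoc, hEE, ← Matrix.mulVec_mulVec]
  have hfv : f *ᵥ v = v := by
    conv_lhs => rw [← hEv]
    rw [Matrix.mulVec_mulVec, hEdef, ← Matrix.mul_assoc, hfc, Matrix.mul_assoc, hf, ← hEdef, hEv]
  have hFv : F *ᵥ v = v := by
    conv_rhs => rw [← hEv, hEdef, ← Matrix.mulVec_mulVec, hfv]
  apply hv0
  rw [← hFv, hF, ← Finset.sum_filter_add_sum_filter_not Finset.univ (fun g : G => g * x = x * g), Matrix.add_mulVec]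
  have h1 : (∑ g ∈ Finset.univ.filter (fun g : G => g * x = x * g), c g • R g) *ᵥ v = 0 := by
    conv_lhs => rw [← hfv]
    rw [Matrix.mulVec_mulVec, hC, Matrix.zero_mulVec]
  have h2 : (∑ g ∈ Finset.univ.filter (fun g : G => ¬ g * x = x * g), c g • R g) *ᵥ v = 0 := by
    rw [Matrix.sum_mulVec, ← sum_off hx hR hc hRv]
    exact Finset.sum_congr rfl fun g _ => Matrix.smul_mulVec _ _ _
  rw [h1, h2, add_zero]

theorem nilp {n : ℕ} {a : Matrix (Fin n) (Fin n) k} (h : IsNilpotent a) : a ^ n = 0 := by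
  have h1 : IsNilpotent (Matrix.toLin' a) := by
    obtain ⟨m, hm⟩ := h
    refine ⟨m, ?_⟩
    rw [← Matrix.toLin'_pow, hm, map_zero]
  have h2 := LinearMap.aeval_self_charpoly (Matrix.toLin' a)
  rw [h1.charpoly_eq_X_pow_finrank] at h2
  simp only [map_pow, Polynomial.aeval_X, Module.finrank_fin_fun] at h2
  rw [← Matrix.toLin'_pow] at h2
  exact (map_eq_zero_iff _ Matrix.toLin'.injective).1 h2

theorem sub_one_pow {A : Type*} [Ring A] [Algebra k A] (T : A) : (T - 1) ^ p = T ^ p - 1 := by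
  have h1 : (Polynomial.X - 1 : Polynomial k) ^ p = Polynomial.X ^ p - 1 := by
    rw [sub_pow_char, one_pow]
  have h3 := congrArg (Polynomial.aeval T) h1
  simpa using h3

open scoped Kronecker in
theorem kron_unip {n1 n2 : ℕ} (hn : n1 + n2 ≤ p) (X : Matrix (Fin n1) (Fin n1) k) (Y : Matrix (Fin n2) (Fin n2) k)
    (hX : X ^ p = 1) (hY : Y ^ p = 1) : (X ⊗ₖ Y - 1) ^ (p - 1) = 0 := by
  have hXn : (X - 1) ^ n1 = 0 := by
    apply nilp
    refine ⟨p, ?_⟩
    have h1 : (X - 1) ^ p = X ^ p - 1 := by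
      exact sub_one_pow (k := k) X
    rw [h1, hX, sub_self]
  have hYn : (Y - 1) ^ n2 = 0 := by
    apply nilp
    refine ⟨p, ?_⟩
    have h1 : (Y - 1) ^ p = Y ^ p - 1 := by
      exact sub_one_pow (k := k) Y
    rw [h1, hY, sub_self]
  have kpow : ∀ (a : Matrix (Fin n1) (Fin n1) k) (b : Matrix (Fin n2) (Fin n2) k) (m : ℕ), (a ⊗ₖ b) ^ m = (a ^ m) ⊗ₖ (b ^ m) := by
    intro a b m
    induction m with
    | zero => rw [pow_zero, pow_zero, pow_zero, Matrix.one_kronecker_one]
    | succ n ih => rw [pow_succ, ih, ← Matrix.mul_kronecker_mul, pow_succ, pow_succ]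
  have h1 : X ⊗ₖ Y - 1 = (X - 1) ⊗ₖ Y + (1 : Matrix (Fin n1) (Fin n1) k) ⊗ₖ (Y - 1) := by
    rw [← Matrix.one_kronecker_one (m := Fin n1) (n := Fin n2) (α := k)]
    ext ⟨i, j⟩ ⟨i', j'⟩
    simp only [Matrix.sub_apply, Matrix.add_apply, Matrix.kronecker_apply]
    ring
  have h2 : ((X - 1) ⊗ₖ Y) ^ n1 = 0 := by
    rw [kpow, hXn, Matrix.zero_kronecker]
  have h3 : ((1 : Matrix (Fin n1) (Fin n1) k) ⊗ₖ (Y - 1)) ^ n2 = 0 := by
    rw [kpow, hYn, Matrix.kronecker_zero]
  have hcomm : Commute ((X - 1) ⊗ₖ Y) ((1 : Matrix (Fin n1) (Fin n1) k) ⊗ₖ (Y - 1)) := by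
    change _ * _ = _ * _
    rw [← Matrix.mul_kronecker_mul, ← Matrix.mul_kronecker_mul]
    congr 1
    · simp
    · rw [mul_sub, sub_mul]; simp
  have h4 := hcomm.add_pow_add_eq_zero_of_pow_eq_zero h2 h3
  rw [h1]
  obtain ⟨j, hj⟩ : ∃ j, p - 1 = (n1 + n2 - 1) + j := ⟨p - 1 - (n1 + n2 - 1), by omega⟩
  rw [hj, pow_add, h4, zero_mul]

/-- idempotent matrices over local rings -/
theorem idem_zero_local {A : Type*} [CommRing A] [IsLocalRing A] (E : Matrix κ κ A) (hE : E * E = E)
    (h : E.map (IsLocalRing.residue A) = 0) : E = 0 := by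
  have h1 : IsUnit (1 - E).det := by
    have h2 : IsLocalRing.residue A (1 - E).det = 1 := by
      rw [RingHom.map_det]
      have h3 : (IsLocalRing.residue A).mapMatrix (1 - E) = 1 := by
        rw [map_sub, map_one]
        have h4 : (IsLocalRing.residue A).mapMatrix E = 0 := h
        rw [h4, sub_zero]
      rw [h3, Matrix.det_one]
    by_contra hcon
    have h3 : (1 - E).det ∈ IsLocalRing.maximalIdeal A := (IsLocalRing.mem_maximalIdeal _).2 hcon
    rw [← IsLocalRing.residue_eq_zero_iff, h2] at h3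
    exact one_ne_zero h3
  have h2 : IsUnit (1 - E) := (Matrix.isUnit_iff_isUnit_det _).2 h1
  have h3 : (1 - E) * E = 0 := by rw [sub_mul, one_mul, hE, sub_self]
  exact (h2.mul_right_eq_zero).1 h3

end CfsgLib.Nag19
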