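import Mathlib
import Cfsg.Agent.EqBase
import Cfsg.Agent.LibNagA19
import Cfsg.Agent.LibNagB19
import Cfsg.Agent.LibBrP7
import Cfsg.Agent.LibBlockInd
import Cfsg.Agent.LibOnceJ19

set_option autoImplicit false
set_option maxHeartbeats 400000
set_option linter.unusedSectionVars false
set_option linter.style.haveILetI false

/-! Block components of representations of small degree. -/

namespace CfsgLib.Nag19

open CfsgLib.CharInt hiding irr_isCharacter irr_classFun irr_one_ne_zero schur_scalar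
open Cfsg CfsgLib.CharInt2 CfsgLib.CharBasic CfsgLib.BlockR CfsgLib.BlockCore
  CfsgLib.BlockIdem CfsgLib.BlockIdeal CfsgLib.BlockConj CfsgLib.BlockBrauer CfsgLib.BlockInd
  CfsgLib.BlockFMT CfsgLib.BlockFMT2 CfsgLib.BlockOrth CfsgLib.BlockDefect
  CfsgLib.BlockReg CfsgLib.BlockReg2 CfsgLib.BlockSec
open scoped ComplexConjugate

universe u
variable {p : ℕ} [hpf : Fact p.Prime] {G : Type u} [Group G] [Fintype G] {M : Ideal AlgInt}

theorem exists_val (hM : IsPModular p M) : ∃ A : ValuationSubring ℂ, (∀ z, MemLocalRing M z → z ∈ A) ∧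
    ∀ (z : ℂ) (hz : z ∈ A), MemLocalIdeal M z → (⟨z, hz⟩ : A) ∈ IsLocalRing.maximalIdeal A := by
  have hp := isPrime_of_modular hM
  haveI : M.IsPrime := hp
  haveI hloc : IsLocalRing (LocR.subring M) := LocR.isLocalRing_subring
  obtain ⟨B, hB⟩ := LocalSubring.exists_le_valuationSubring (⟨LocR.subring M⟩ : LocalSubring ℂ)
  obtain ⟨h1, h2⟩ := LocalSubring.le_def.1 hB
  refine ⟨B, fun z hz => h1 hz, fun z hz hzI => ?_⟩
  rw [IsLocalRing.mem_maximalIdeal, mem_nonunits_iff]
  intro hu
  have hzR : z ∈ LocR.subring M := ideal_ring hzI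
  have h3 : IsUnit (⟨z, hzR⟩ : LocR.subring M) := h2.map_nonunit _ hu
  have h4 := (LocR.mem_maximalIdeal_iff (M := M) ⟨z, hzR⟩).2 hzI
  exact (IsLocalRing.mem_maximalIdeal _).1 h4 h3

/-- the Brauer image of a block idempotent is orthogonal to the blocks which do not induce it -/
theorem conv_ideal (hM : IsPModular p M) {x : G} (hx : orderOf x = p) {B : Set (IrrCharacter G)} (hB : IsPBlock M B)
    {b : Set (IrrCharacter (Subgroup.centralizer ({x} : Set G)))} [Fintype (Subgroup.centralizer ({x} : Set G))]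
    (hb : IsPBlock M b) (hnot : ¬ IsInducedBlock M (Subgroup.centralizer ({x} : Set G)) b B)
    (c : Subgroup.centralizer ({x} : Set G)) :
    MemLocalIdeal M (conv (fun h : Subgroup.centralizer ({x} : Set G) => blockCoeff B (h : G)) (blockCoeff b) c) := by
  classical
  have hp := isPrime_of_modular hM
  haveI : M.IsPrime := hp
  have hBR := AR_ind_block hp hB
  have hbR := AR_ind_block hp hb
  set aB : Subgroup.centralizer ({x} : Set G) → ℂ := fun h => blockCoeff B (h : G) with haB
  have haBe : aB = fun h : Subgroup.centralizer ({x} : Set G) => fou (ind B) (h : G) := by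
    funext h; rw [haB]; exact blockCoeff_eq_fou B _
  have hcl : IsClassFunction (Subgroup.centralizer ({x} : Set G)) aB := by
    rw [haBe]; exact res_classFun _ (fou_classFun _)
  have hPg : IsPGroup p (Subgroup.zpowers x) := by
    refine IsPGroup.of_card (n := 1) ?_
    rw [Nat.card_zpowers, hx, pow_one]
  have hCz : Subgroup.centralizer ((Subgroup.zpowers x : Subgroup G) : Set G) = Subgroup.centralizer ({x} : Set G) :=
    centralizer_zpowers x
  have hPC : Subgroup.zpowers x ≤ Subgroup.centralizer ({x} : Set G) := by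
    rw [Subgroup.zpowers_le]; exact Subgroup.mem_centralizer_singleton_iff.2 rfl
  have hCN : Subgroup.centralizer ({x} : Set G) ≤ Subgroup.normalizer ((Subgroup.zpowers x : Subgroup G) : Set G) := by
    rw [← hCz]; exact Subgroup.centralizer_le_normalizer _
  have hbrH : ∀ a : G → ℂ, brH (Subgroup.zpowers x) (Subgroup.centralizer ({x} : Set G)) a =
      fun h : Subgroup.centralizer ({x} : Set G) => a (h : G) := by
    intro a; funext h
    exact brH_of (by rw [hCz]; exact h.2)
  -- the vector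
  let v : IrrCharacter (Subgroup.centralizer ({x} : Set G)) → ℂ :=
    fun ψ => omg (ψ : Subgroup.centralizer ({x} : Set G) → ℂ) aB
  have hfv : ∀ h, fou v h = aB h := fun h => congrFun (fou_omg hcl) h
  have hv : AR M v := by
    intro h
    rw [hfv, haBe]; exact hBR _
  have hι : Function.Injective (MonoidHom.id (Subgroup.centralizer ({x} : Set G))) := fun _ _ h => h
  have hidem : BrP.Ph M (MonoidHom.id _) v * BrP.Ph M (MonoidHom.id _) v = BrP.Ph M (MonoidHom.id _) v := by
    rw [← BrP.Ph_mul hι hv hv, ← sub_eq_zero, ← BrP.Ph_sub hι (AR_mul hp hv hv) hv,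
      BrP.Ph_eq_zero hι (AR_sub hp (AR_mul hp hv hv) hv)]
    intro h
    rw [fou_sub, fou_mul]
    have h1 := brH_conv hM (P := Subgroup.zpowers x) (H := Subgroup.centralizer ({x} : Set G)) hPg (by rw [hCz])
      (fou_classFun (ind B)) (fou_classFun (ind B)) hBR hBR h
    rw [hbrH, hbrH, ← fou_mul, ind_mul_self] at h1
    have h2 : fou v = aB := funext hfv
    rw [h2, haBe]
    exact h1
  have hw : AR M (v * ind b) := AR_mul hp hv hbR
  have hidemw : BrP.Ph M (MonoidHom.id _) (v * ind b) * BrP.Ph M (MonoidHom.id _) (v * ind b) =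
      BrP.Ph M (MonoidHom.id _) (v * ind b) := by
    rw [← BrP.Ph_mul hι hw hw]
    have h1 : v * ind b * (v * ind b) = (v * v) * ind b := by
      rw [mul_mul_mul_comm, ind_mul_self]
    rw [h1, BrP.Ph_mul hι (AR_mul hp hv hv) hbR, BrP.Ph_mul hι hv hv, hidem, ← BrP.Ph_mul hι hv hbR]
  have hzero : BrP.Ph M (MonoidHom.id _) (v * ind b) = 0 := by
    refine BrP.eq_zero_of_idem_nilpotent hidemw (BrP.Ph_nilpotent hι hw fun ψ => ?_)
    rw [Pi.mul_apply]
    by_cases hψ : ψ ∈ b
    · rw [ind_of hψ, mul_one]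
      obtain ⟨B', hB'⟩ := exists_induced hM (P := Subgroup.zpowers x) (H := Subgroup.centralizer ({x} : Set G)) hPg hPC
        (by rw [hCz]) hCN hb
      obtain ⟨χ', hχ'⟩ := block_nonempty hp hB'.2.1
      have h1 := induced_val hp hB' hψ hχ' hBR
      have h2 : χ' ∉ B := by
        intro h3
        apply hnot
        rw [block_eq_of_mem hp hB hB'.2.1 h3 hχ']
        exact hB'
      rw [ind_not h2, sub_zero] at h1
      change MemLocalIdeal M (omg (ψ : Subgroup.centralizer ({x} : Set G) → ℂ) aB)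
      rw [haBe]; exact h1
    · rw [ind_not hψ, mul_zero]; exact ideal_zero hp
  have h1 := (BrP.Ph_eq_zero hι hw).1 hzero c
  rw [fou_mul] at h1
  have h2 : fou v = aB := funext hfv
  have h3 : fou (ind b) = blockCoeff b := by funext h; exact (blockCoeff_eq_fou b h).symm
  rw [h2, h3] at h1
  exact h1

/-- group algebra elements acting through a matrix representation -/
def act {κ R K : Type*} [Fintype κ] [DecidableEq κ] [CommRing R] [Group K] [Fintype K] (Ψ : K →* Matrix κ κ R)
    (a : K → R) : Matrix κ κ R := ∑ g, a g • Ψ g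

section Act
variable {κ R K : Type*} [Fintype κ] [DecidableEq κ] [CommRing R] [Group K] [Fintype K] (Ψ : K →* Matrix κ κ R)

theorem act_mul (a b : K → R) : act Ψ a * act Ψ b = act Ψ (fun g => ∑ x, a x * b (x⁻¹ * g)) := by
  unfold act
  rw [Finset.sum_mul_sum]
  have h1 : ∀ x : K, ∑ y : K, a x • Ψ x * b y • Ψ y = ∑ g : K, (a x * b (x⁻¹ * g)) • Ψ g := by
    intro x
    rw [← Equiv.sum_comp (Equiv.mulLeft x⁻¹)]
    refine Finset.sum_congr rfl fun g _ => ?_
    have h2 : (Equiv.mulLeft x⁻¹) g = x⁻¹ * g := rfl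
    rw [h2, Matrix.smul_mul, Matrix.mul_smul, smul_smul, ← map_mul, mul_inv_cancel_left]
  rw [Finset.sum_congr rfl (fun x _ => h1 x), Finset.sum_comm]
  refine Finset.sum_congr rfl fun g _ => ?_
  rw [Finset.sum_smul]

theorem act_comm {a : K → R} (ha : ∀ g h, a (h * g * h⁻¹) = a g) (h : K) : act Ψ a * Ψ h = Ψ h * act Ψ a := by
  unfold act
  rw [Finset.sum_mul, Finset.mul_sum, ← Equiv.sum_comp (MulAut.conj h).toEquiv]
  refine Finset.sum_congr rfl fun g _ => ?_
  have h1 : (MulAut.conj h).toEquiv g = h * g * h⁻¹ := rfl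
  rw [h1, ha, Matrix.smul_mul, Matrix.mul_smul, ← map_mul, ← map_mul]
  congr 2
  group

end Act

open scoped Kronecker in
/-- the Kronecker product of two matrix representations -/
def kr {κ1 κ2 R K : Type*} [Fintype κ1] [DecidableEq κ1] [Fintype κ2] [DecidableEq κ2] [CommRing R] [Group K]
    (Φ1 : K →* Matrix κ1 κ1 R) (Φ2 : K →* Matrix κ2 κ2 R) : K →* Matrix (κ1 × κ2) (κ1 × κ2) R where
  toFun g := Φ1 g ⊗ₖ Φ2 g
  map_one' := by rw [map_one, map_one, Matrix.one_kronecker_one]
  map_mul' g h := by rw [map_mul, map_mul, Matrix.mul_kronecker_mul]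

theorem key (hM : IsPModular p M) {x : G} (hx : orderOf x = p) {B : Set (IrrCharacter G)} (hB : IsPBlock M B)
    {b : Set (IrrCharacter (Subgroup.centralizer ({x} : Set G)))} [Fintype (Subgroup.centralizer ({x} : Set G))]
    (hb : IsPBlock M b) (hnot : ¬ IsInducedBlock M (Subgroup.centralizer ({x} : Set G)) b B)
    {f g : G → ℂ} (hf : IsCharacter G f) (hg : IsCharacter G g) {n1 n2 : ℕ} (hf1 : f 1 = n1) (hg1 : g 1 = n2)
    (hn : n1 + n2 ≤ p) :
    ∑ y : G, ∑ c : Subgroup.centralizer ({x} : Set G), blockCoeff B y * blockCoeff b c * (f (y * c) * g (y * c)) = 0 := by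
  classical
  have hp := isPrime_of_modular hM
  haveI : M.IsPrime := hp
  obtain ⟨A, hA1, hA2⟩ := exists_val hM
  obtain ⟨m1, Φ1, hΦ1, hm1⟩ := exists_integral hf A
  obtain ⟨m2, Φ2, hΦ2, hm2⟩ := exists_integral hg A
  have e1 : m1 = n1 := by exact_mod_cast hm1.symm.trans hf1
  have e2 : m2 = n2 := by exact_mod_cast hm2.symm.trans hg1
  subst e1; subst e2
  let k := IsLocalRing.ResidueField A
  have hpk : CharP k p := by
    have h1 : ((p : ℕ) : k) = 0 := by
      have h2 : ((p : ℕ) : k) = IsLocalRing.residue A (p : A) := by rw [map_natCast]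
      rw [h2, IsLocalRing.residue_eq_zero_iff]
      have h3 : MemLocalIdeal M (p : ℂ) := (ideal_nat_iff hM).2 (dvd_refl p)
      have h4 := hA2 (p : ℂ) (hA1 _ (ideal_ring h3)) h3
      exact h4
    exact (CharP.charP_iff_prime_eq_zero hpf.out).2 h1
  let Φ := kr Φ1 Φ2
  let eA : G → A := fun y => ⟨blockCoeff B y, hA1 _ (blockCoeff_ring hp hB y)⟩
  let dA : Subgroup.centralizer ({x} : Set G) → A := fun c => ⟨blockCoeff b c, hA1 _ (blockCoeff_ring hp hb c)⟩
  let F := act Φ eA
  let f' := act (Φ.comp (Subgroup.centralizer ({x} : Set G)).subtype) dA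
  have hidemB : ∀ y, ∑ z, eA z * eA (z⁻¹ * y) = eA y := by
    intro y
    apply Subtype.ext
    have h1 : ((∑ z, eA z * eA (z⁻¹ * y) : A) : ℂ) = ∑ z, blockCoeff B z * blockCoeff B (z⁻¹ * y) := by
      rw [show ((∑ z, eA z * eA (z⁻¹ * y) : A) : ℂ) = A.subtype (∑ z, eA z * eA (z⁻¹ * y)) from rfl, map_sum]
      rfl
    rw [h1]
    have h2 : fou (ind B * ind B) y = conv (fou (ind B)) (fou (ind B)) y := by rw [fou_mul]
    rw [ind_mul_self] at h2
    change _ = blockCoeff B y
    rw [blockCoeff_eq_fou, h2]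
    unfold conv
    exact Finset.sum_congr rfl fun z _ => by rw [blockCoeff_eq_fou, blockCoeff_eq_fou]
  have hidemb : ∀ y, ∑ z, dA z * dA (z⁻¹ * y) = dA y := by
    intro y
    apply Subtype.ext
    have h1 : ((∑ z, dA z * dA (z⁻¹ * y) : A) : ℂ) = ∑ z, blockCoeff b z * blockCoeff b (z⁻¹ * y) := by
      rw [show ((∑ z, dA z * dA (z⁻¹ * y) : A) : ℂ) = A.subtype (∑ z, dA z * dA (z⁻¹ * y)) from rfl, map_sum]
      rfl
    rw [h1]
    have h2 : fou (ind b * ind b) y = conv (fou (ind b)) (fou (ind b)) y := by rw [fou_mul]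
    rw [ind_mul_self] at h2
    change _ = blockCoeff b y
    rw [blockCoeff_eq_fou, h2]
    unfold conv
    exact Finset.sum_congr rfl fun z _ => by rw [blockCoeff_eq_fou, blockCoeff_eq_fou]
  have hclB : ∀ y h, eA (h * y * h⁻¹) = eA y := by
    intro y h
    apply Subtype.ext
    change blockCoeff B (h * y * h⁻¹) = blockCoeff B y
    rw [blockCoeff_eq_fou, blockCoeff_eq_fou]
    exact fou_classFun _ _ _
  have hclb : ∀ y h, dA (h * y * h⁻¹) = dA y := by
    intro y h
    apply Subtype.ext
    change blockCoeff b (h * y * h⁻¹) = blockCoeff b y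
    rw [blockCoeff_eq_fou, blockCoeff_eq_fou]
    exact fou_classFun _ _ _
  have hFF : F * F = F := by
    change act Φ eA * act Φ eA = act Φ eA
    rw [act_mul]
    congr 1
    funext y; exact hidemB y
  have hff : f' * f' = f' := by
    change act _ dA * act _ dA = act _ dA
    rw [act_mul]
    congr 1
    funext y; exact hidemb y
  have hfF : f' * F = F * f' := by
    change (∑ c, dA c • Φ (c : G)) * F = F * (∑ c, dA c • Φ (c : G))
    rw [Finset.sum_mul, Finset.mul_sum]
    refine Finset.sum_congr rfl fun c _ => ?_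
    rw [Matrix.smul_mul, Matrix.mul_smul, act_comm Φ hclB]
  -- reduction
  let ρ := IsLocalRing.residue A
  let R : G →* Matrix (Fin m1 × Fin m2) (Fin m1 × Fin m2) k := (ρ.mapMatrix : _ →+* _).toMonoidHom.comp Φ
  have hRx : (R x - 1) ^ (p - 1) = 0 := by
    have hpow : x ^ p = 1 := by rw [← hx]; exact pow_orderOf_eq_one x
    have h1 := kron_unip (k := k) (p := p) hn (ρ.mapMatrix (Φ1 x)) (ρ.mapMatrix (Φ2 x))
      (by rw [← map_pow, ← map_pow, hpow, map_one, map_one])
      (by rw [← map_pow, ← map_pow, hpow, map_one, map_one])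
    have h2 : R x = Matrix.kroneckerMap (· * ·) (ρ.mapMatrix (Φ1 x)) (ρ.mapMatrix (Φ2 x)) := by
      ext ⟨i, j⟩ ⟨i', j'⟩
      change ρ (Φ1 x i i' * Φ2 x j j') = ρ (Φ1 x i i') * ρ (Φ2 x j j')
      rw [map_mul]
    rw [h2]; exact h1
  have hmapF : ρ.mapMatrix F = ∑ g, ρ (eA g) • R g := by
    change ρ.mapMatrix (∑ g, eA g • Φ g) = _
    rw [map_sum]
    refine Finset.sum_congr rfl fun g _ => ?_
    ext i j
    change ρ (eA g * Φ g i j) = ρ (eA g) * ρ (Φ g i j)
    rw [map_mul]
  have hmapf : ρ.mapMatrix f' = ∑ c : Subgroup.centralizer ({x} : Set G), ρ (dA c) • R c := by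
    change ρ.mapMatrix (∑ c, dA c • Φ (c : G)) = _
    rw [map_sum]
    refine Finset.sum_congr rfl fun g _ => ?_
    ext i j
    change ρ (dA g * Φ g i j) = ρ (dA g) * ρ (Φ g i j)
    rw [map_mul]
  have hzero : ρ.mapMatrix (F * f') = 0 := by
    rw [map_mul, hmapF]
    refine idem_zero_char (k := k) (p := p) hx hRx (c := fun g => ρ (eA g)) ?_ (ρ.mapMatrix f') ?_ ?_ ?_ ?_ ?_
    · intro g h
      change ρ (eA (h * g * h⁻¹)) = ρ (eA g)
      rw [hclB]
    · rw [← map_mul, hff]
    · rw [hmapf, Finset.sum_mul, Finset.mul_sum]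
      refine Finset.sum_congr rfl fun c _ => ?_
      rw [Matrix.smul_mul, Matrix.mul_smul, ← map_mul, ← map_mul]
      congr 2
      exact Subgroup.mem_centralizer_singleton_iff.1 c.2
    · rw [← hmapF, ← map_mul, hFF]
    · rw [← hmapF, ← map_mul, ← map_mul, hfF]
    · have h1 : ∑ g ∈ Finset.univ.filter (fun g : G => g * x = x * g), ρ (eA g) • R g =
          act (R.comp (Subgroup.centralizer ({x} : Set G)).subtype) (fun c => ρ (eA c)) := by
        unfold act
        rw [Finset.sum_subtype (Finset.univ.filter (fun g : G => g * x = x * g)) (p := fun g => g ∈ Subgroup.centralizer ({x} : Set G))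
          (fun g => by rw [Finset.mem_filter, Subgroup.mem_centralizer_singleton_iff]; simp) (fun g => ρ (eA g) • R g)]
        rfl
      have h2 : ρ.mapMatrix f' = act (R.comp (Subgroup.centralizer ({x} : Set G)).subtype) (fun c => ρ (dA c)) := by
        rw [hmapf]; rfl
      rw [h1, h2, act_mul]
      unfold act
      refine Finset.sum_eq_zero fun c _ => ?_
      have h3 : ∑ z : Subgroup.centralizer ({x} : Set G), ρ (eA z) * ρ (dA (z⁻¹ * c)) = 0 := by
        simp_rw [← map_mul]
        rw [← map_sum, IsLocalRing.residue_eq_zero_iff]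
        have h4 := conv_ideal hM hx hB hb hnot c
        have h5 := hA2 _ (hA1 _ (ideal_ring h4)) h4
        refine (congrArg (· ∈ IsLocalRing.maximalIdeal A) (Subtype.ext ?_)).mpr h5
        rw [show ((∑ z : Subgroup.centralizer ({x} : Set G), eA z * dA (z⁻¹ * c) : A) : ℂ) =
          A.subtype (∑ z : Subgroup.centralizer ({x} : Set G), eA z * dA (z⁻¹ * c)) from rfl, map_sum]
        rfl
      simp only
      rw [h3, zero_smul]
  have hE : F * f' = 0 := by
    apply idem_zero_local
    · calc F * f' * (F * f') = F * (f' * F) * f' := by noncomm_ring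
        _ = F * (F * f') * f' := by rw [hfF]
        _ = (F * F) * (f' * f') := by noncomm_ring
        _ = F * f' := by rw [hFF, hff]
    · exact hzero
  -- trace
  have htr : Matrix.trace (F * f') = ∑ y : G, ∑ c : Subgroup.centralizer ({x} : Set G), eA y * dA c * Matrix.trace (Φ (y * c)) := by
    change Matrix.trace ((∑ y, eA y • Φ y) * (∑ c, dA c • Φ (c : G))) = _
    rw [Finset.sum_mul_sum, Matrix.trace_sum]
    refine Finset.sum_congr rfl fun y _ => ?_
    rw [Matrix.trace_sum]
    refine Finset.sum_congr rfl fun c _ => ?_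
    rw [Matrix.smul_mul, Matrix.mul_smul, ← map_mul, Matrix.trace_smul, Matrix.trace_smul, smul_eq_mul, smul_eq_mul, mul_assoc]
  rw [hE, Matrix.trace_zero] at htr
  have h3 := congrArg A.subtype htr.symm
  rw [map_sum, map_zero] at h3
  rw [← h3]
  refine Finset.sum_congr rfl fun y _ => ?_
  rw [map_sum]
  refine Finset.sum_congr rfl fun c _ => ?_
  rw [map_mul, map_mul]
  have h4 : Matrix.trace (Φ (y * c)) = Matrix.trace (Φ1 (y * c)) * Matrix.trace (Φ2 (y * c)) := Matrix.trace_kronecker _ _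
  rw [h4, map_mul, hΦ1, hΦ2]
  rfl

end CfsgLib.Nag19
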