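import Mathlib
import Cfsg.Agent.EqBase
import Cfsg.Agent.LibNagC19

set_option autoImplicit false
set_option maxHeartbeats 400000
set_option linter.unusedSectionVars false
set_option linter.style.haveILetI false

/-! Block components of characters of small degree. -/

namespace CfsgLib.Nag19

open CfsgLib.CharInt hiding irr_isCharacter irr_classFun irr_one_ne_zero schur_scalar
open Cfsg CfsgLib.CharInt2 CfsgLib.CharBasic CfsgLib.BlockR CfsgLib.BlockCore
  CfsgLib.BlockIdem CfsgLib.BlockIdeal CfsgLib.BlockConj CfsgLib.BlockBrauer CfsgLib.BlockInd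
  CfsgLib.BlockFMT CfsgLib.BlockFMT2 CfsgLib.BlockOrth CfsgLib.BlockDefect
  CfsgLib.BlockReg CfsgLib.BlockReg2 CfsgLib.BlockSec
open scoped ComplexConjugate

universe u
variable {p : ℕ} [hpf : Fact p.Prime] {G : Type u} [Group G] [Fintype G] {M : Ideal AlgInt}

theorem comp_zero (hM : IsPModular p M) {x : G} (hx : orderOf x = p) {B : Set (IrrCharacter G)} (hB : IsPBlock M B)
    {b : Set (IrrCharacter (Subgroup.centralizer ({x} : Set G)))} [Fintype (Subgroup.centralizer ({x} : Set G))]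
    (hb : IsPBlock M b) (hnot : ¬ IsInducedBlock M (Subgroup.centralizer ({x} : Set G)) b B)
    {f g : G → ℂ} (hf : IsCharacter G f) (hg : IsCharacter G g) {n1 n2 : ℕ} (hf1 : f 1 = n1) (hg1 : g 1 = n2)
    (hn : n1 + n2 ≤ p) {χ : IrrCharacter G} (hχ : χ ∈ B) (hm : classInner (fun y => f y * g y) (χ : G → ℂ) ≠ 0)
    {ζ : IrrCharacter (Subgroup.centralizer ({x} : Set G))} (hζ : ζ ∈ b) :
    classInner (fun c : Subgroup.centralizer ({x} : Set G) => (χ : G → ℂ) c) (ζ : Subgroup.centralizer ({x} : Set G) → ℂ) = 0 := by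
  classical
  have hkey := key hM hx hB hb hnot hf hg hf1 hg1 hn
  have hfg : IsCharacter G (f * g) := isCharacter_mul hf hg
  obtain ⟨m, hmm, hexp, -⟩ := char_expand hfg
  have hres : ∀ χ : IrrCharacter G, ∃ n : IrrCharacter (Subgroup.centralizer ({x} : Set G)) → ℕ,
      (∀ ζ : IrrCharacter (Subgroup.centralizer ({x} : Set G)),
        classInner (fun c : Subgroup.centralizer ({x} : Set G) => (χ : G → ℂ) c) (ζ : Subgroup.centralizer ({x} : Set G) → ℂ) = n ζ) ∧
      (fun c : Subgroup.centralizer ({x} : Set G) => (χ : G → ℂ) c) =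
        ∑ ζ : IrrCharacter (Subgroup.centralizer ({x} : Set G)), (n ζ : ℂ) • (ζ : Subgroup.centralizer ({x} : Set G) → ℂ) := by
    intro χ
    obtain ⟨n, h1, h2, -⟩ := char_expand (isCharacter_restrict (CfsgLib.CharBasic.irr_isCharacter χ.2)
      (Subgroup.centralizer ({x} : Set G)))
    exact ⟨n, h1, h2⟩
  choose n hn1 hn2 using hres
  -- the inner sums
  have hin : ∀ χ : IrrCharacter G, ∑ c : Subgroup.centralizer ({x} : Set G), blockCoeff b c * (χ : G → ℂ) c =
      ∑ ζ : IrrCharacter (Subgroup.centralizer ({x} : Set G)), (n χ ζ : ℂ) * (ind b ζ * (ζ : Subgroup.centralizer ({x} : Set G) → ℂ) 1) := by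
    intro χ
    have h1 : ∀ c : Subgroup.centralizer ({x} : Set G), (χ : G → ℂ) c = ∑ ζ : IrrCharacter (Subgroup.centralizer ({x} : Set G)),
        (n χ ζ : ℂ) * (ζ : Subgroup.centralizer ({x} : Set G) → ℂ) c := by
      intro c
      have := congrFun (hn2 χ) c
      rw [Finset.sum_apply] at this
      exact this
    simp_rw [h1, Finset.mul_sum]
    rw [Finset.sum_comm]
    refine Finset.sum_congr rfl fun ζ _ => ?_
    have h2 := sum_mul_eq_omg ζ (fou_classFun (ind b)) 1
    rw [omg_fou] at h2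
    rw [← h2, Finset.mul_sum]
    refine Finset.sum_congr rfl fun c _ => ?_
    rw [blockCoeff_eq_fou, mul_one]; ring
  have htot : ∑ y : G, ∑ c : Subgroup.centralizer ({x} : Set G), blockCoeff B y * blockCoeff b c * (f (y * c) * g (y * c)) =
      ∑ χ : IrrCharacter G, (m χ : ℂ) * (ind B χ * ∑ ζ : IrrCharacter (Subgroup.centralizer ({x} : Set G)),
        (n χ ζ : ℂ) * (ind b ζ * (ζ : Subgroup.centralizer ({x} : Set G) → ℂ) 1)) := by
    have h1 : ∀ z : G, f z * g z = ∑ χ : IrrCharacter G, (m χ : ℂ) * (χ : G → ℂ) z := by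
      intro z
      have := congrFun hexp z
      rw [Finset.sum_apply] at this
      exact this
    simp_rw [h1, ← hin, Finset.mul_sum]
    rw [Finset.sum_comm]
    have h2 : ∀ c : Subgroup.centralizer ({x} : Set G), ∑ y : G, ∑ χ : IrrCharacter G,
        blockCoeff B y * blockCoeff b c * ((m χ : ℂ) * (χ : G → ℂ) (y * c)) =
        ∑ χ : IrrCharacter G, (m χ : ℂ) * (ind B χ * (blockCoeff b c * (χ : G → ℂ) c)) := by
      intro c
      rw [Finset.sum_comm]
      refine Finset.sum_congr rfl fun χ _ => ?_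
      have h3 := sum_mul_eq_omg χ (fou_classFun (ind B)) (c : G)
      rw [omg_fou] at h3
      have h4 : ∀ y, blockCoeff B y * blockCoeff b c * ((m χ : ℂ) * (χ : G → ℂ) (y * c)) =
          (blockCoeff b c * (m χ : ℂ)) * (fou (ind B) y * (χ : G → ℂ) (y * c)) := by
        intro y
        rw [blockCoeff_eq_fou B]; ring
      rw [Finset.sum_congr rfl (fun y _ => h4 y), ← Finset.mul_sum, h3]; ring
    rw [Finset.sum_congr rfl (fun c _ => h2 c), Finset.sum_comm]
  rw [htot] at hkey
  -- real nonnegative terms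
  have hdeg : ∀ ζ : IrrCharacter (Subgroup.centralizer ({x} : Set G)), (ζ : Subgroup.centralizer ({x} : Set G) → ℂ) 1 =
      (charDegree (ζ : Subgroup.centralizer ({x} : Set G) → ℂ) : ℂ) := fun ζ => CfsgLib.CharInt.irr_one_eq_charDegree ζ.2
  let iB : IrrCharacter G → ℕ := fun χ => if χ ∈ B then 1 else 0
  let ib : IrrCharacter (Subgroup.centralizer ({x} : Set G)) → ℕ := fun ζ => if ζ ∈ b then 1 else 0
  have hiB : ∀ χ, ind B χ = (iB χ : ℂ) := by
    intro χ
    by_cases h : χ ∈ B
    · rw [ind_of h]; simp [iB, h]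
    · rw [ind_not h]; simp [iB, h]
  have hib : ∀ χ, ind b χ = (ib χ : ℂ) := by
    intro χ
    by_cases h : χ ∈ b
    · rw [ind_of h]; simp [ib, h]
    · rw [ind_not h]; simp [ib, h]
  have hnat : ∑ χ : IrrCharacter G, m χ * (iB χ * ∑ ζ : IrrCharacter (Subgroup.centralizer ({x} : Set G)),
      n χ ζ * (ib ζ * charDegree (ζ : Subgroup.centralizer ({x} : Set G) → ℂ))) = 0 := by
    have : ((∑ χ : IrrCharacter G, m χ * (iB χ * ∑ ζ : IrrCharacter (Subgroup.centralizer ({x} : Set G)),
      n χ ζ * (ib ζ * charDegree (ζ : Subgroup.centralizer ({x} : Set G) → ℂ))) : ℕ) : ℂ) = 0 := by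
      rw [← hkey]
      push_cast
      refine Finset.sum_congr rfl fun χ _ => ?_
      rw [hiB]
      congr 2
      refine Finset.sum_congr rfl fun ζ _ => ?_
      rw [hib, hdeg]
    exact_mod_cast this
  have h1 := (Finset.sum_eq_zero_iff.1 hnat) χ (Finset.mem_univ _)
  have hmχ : m χ ≠ 0 := by
    intro h
    apply hm
    have := hmm χ
    rw [h, Nat.cast_zero] at this
    exact this
  have hiχ : iB χ = 1 := by simp [iB, hχ]
  rw [hiχ, one_mul] at h1
  have h2 := (Nat.mul_eq_zero.1 h1).resolve_left hmχ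
  have h3 := (Finset.sum_eq_zero_iff.1 h2) ζ (Finset.mem_univ _)
  have hiζ : ib ζ = 1 := by simp [ib, hζ]
  rw [hiζ, one_mul] at h3
  rw [hn1 χ ζ]
  rcases Nat.mul_eq_zero.1 h3 with h4 | h4
  · rw [h4, Nat.cast_zero]
  · exfalso
    have h5 := hdeg ζ
    rw [h4, Nat.cast_zero] at h5
    exact CfsgLib.CharInt.irr_one_ne_zero ζ.2 h5

end CfsgLib.Nag19
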