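import Mathlib
import Cfsg.Agent.EqBase
import Cfsg.Agent.LibOnceJ19

set_option autoImplicit false
set_option maxHeartbeats 400000
set_option linter.unusedSectionVars false
set_option linter.style.haveILetI false

/-! Blocks of defect one: expansions of the restriction to the centralizer. -/

namespace CfsgLib.Once19

open CfsgLib.CharInt hiding irr_isCharacter irr_classFun irr_one_ne_zero schur_scalar
open Cfsg CfsgLib.CharInt2 CfsgLib.CharBasic CfsgLib.BlockR CfsgLib.BlockCore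
  CfsgLib.BlockIdem CfsgLib.BlockIdeal CfsgLib.BlockConj CfsgLib.BlockBrauer CfsgLib.BlockInd
  CfsgLib.BlockFMT CfsgLib.BlockFMT2 CfsgLib.BlockOrth CfsgLib.BlockDefect
  CfsgLib.BlockReg CfsgLib.BlockReg2 CfsgLib.BlockCount CfsgLib.BlockCount2 CfsgLib.BlockQP
  CfsgLib.BlockCov3 CfsgLib.BlockCov4 CfsgLib.BlockSec CfsgLib.BlockSec3 CfsgLib.CharNorm CfsgLib.Ur
open scoped ComplexConjugate

universe u
variable {p : ℕ} {G : Type u} [Group G] [Fintype G] {M : Ideal AlgInt}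

namespace Dat
variable (D : Dat p G) [Fintype D.C]

/-- canonical characters -/
noncomputable def CS : Finset (IrrCharacter D.C) := by
  classical
  exact Finset.univ.filter (fun ψ : IrrCharacter D.C => D.Can (ψ : D.C → ℂ))

theorem mem_CS {ψ : IrrCharacter D.C} : ψ ∈ D.CS ↔ D.Can (ψ : D.C → ℂ) := by
  unfold CS; simp

theorem th_mem_CS : D.th ∈ D.CS := D.mem_CS.2 D.can_th

theorem Orb_sub_CS : D.Orb ⊆ D.CS := by
  intro ψ hψ
  rw [D.mem_CS]
  obtain ⟨t, ht, hψt⟩ := D.mem_Orb.1 hψ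
  intro c
  rw [hψt, hψt]
  exact D.th_cj_x ht c

theorem th_mem_Orb : D.th ∈ D.Orb := by
  rw [D.mem_Orb]
  refine ⟨1, D.N.one_mem, fun c => ?_⟩
  refine congrArg (D.th : D.C → ℂ) (Subtype.ext ?_)
  rw [D.cj_coe]; group

/-- number of constituents over a canonical character -/
noncomputable def Nc (ψ : IrrCharacter D.C) (f : G → ℂ) : ℂ := p * classInner (reg p (fun c : D.C => f c)) (ψ : D.C → ℂ)

theorem Nc_th (χ : IrrCharacter G) : D.Nc D.th (χ : G → ℂ) = ((∑ i ∈ Finset.range p, D.mZ i χ : ℕ) : ℂ) :=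
  (D.sum_mZ χ).symm

/-- `Nc` is a natural number, divisible by `p` away from the orbit -/
theorem Nc_nat {ψ : IrrCharacter D.C} (hψ : ψ ∈ D.CS) (χ : IrrCharacter G) :
    D.Nc ψ (χ : G → ℂ) = ((∑ i ∈ Finset.range p, (letI : Fintype (D.setTh ψ (D.mem_CS.1 hψ)).C := inferInstanceAs (Fintype D.C); (D.setTh ψ (D.mem_CS.1 hψ)).mZ i χ) : ℕ) : ℂ) := by
  letI : Fintype (D.setTh ψ (D.mem_CS.1 hψ)).C := inferInstanceAs (Fintype D.C)
  exact ((D.setTh ψ (D.mem_CS.1 hψ)).sum_mZ χ).symm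

theorem Nc_Orb {ψ : IrrCharacter D.C} (hψ : ψ ∈ D.Orb) (χ : IrrCharacter G) :
    D.Nc ψ (χ : G → ℂ) = D.Nc D.th (χ : G → ℂ) := by
  unfold Nc
  obtain ⟨t, ht, hψt⟩ := D.mem_Orb.1 hψ
  have h1 : (ψ : D.C → ℂ) = fun c => (D.th : D.C → ℂ) (D.cj ht c) := funext hψt
  rw [h1, D.reg_inner_cj ht]

theorem deg_Orb {ψ : IrrCharacter D.C} (hψ : ψ ∈ D.Orb) : (ψ : D.C → ℂ) 1 = (D.th : D.C → ℂ) 1 := by
  obtain ⟨t, ht, hψt⟩ := D.mem_Orb.1 hψ
  rw [hψt, map_one]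

/-- blocks which do not induce -/
theorem not_ind (hM : IsPModular p M) {B : Set (IrrCharacter G)} (hB : IsPBlock M B)
    {b : Set (IrrCharacter D.C)} (hb : IsInducedBlock M D.C b B) (hθ : D.th ∈ b)
    (hPD : IsDefectGroup p M B (Subgroup.zpowers D.x)) {ψ : IrrCharacter D.C} (hψ : ψ ∈ D.CS) (hO : ψ ∉ D.Orb) :
    ¬ IsInducedBlock M D.C (blockOf M (ψ : D.C → ℂ)) B := by
  haveI : Fact p.Prime := ⟨D.prime⟩
  have hp := isPrime_of_modular hM
  intro hind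
  apply hO
  have hPC : D.C = Subgroup.zpowers D.x ⊔ Subgroup.centralizer ((Subgroup.zpowers D.x : Subgroup G) : Set G) := by
    rw [centralizer_zpowers, eq_comm, sup_eq_right, Subgroup.zpowers_le]
    exact Subgroup.mem_centralizer_singleton_iff.2 rfl
  obtain ⟨-, h2⟩ := CfsgLib.BlockK1.s0973 hM hB hPD hPC
  obtain ⟨n, hnN, h3⟩ := h2 b (blockOf M (ψ : D.C → ℂ)) hb hind
  obtain ⟨θ2, hθ2, h4⟩ := h3 D.th hθ
  have h5 : ∀ c, (θ2 : D.C → ℂ) c = (D.th : D.C → ℂ) (D.cj hnN c) := fun c => h4 c (D.conj_mem hnN c)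
  have h6 : D.Can (θ2 : D.C → ℂ) := by
    intro c
    rw [h5, h5]
    exact D.th_cj_x hnN c
  have h7 : ψ = θ2 := D.can_unique hM (D.mem_CS.1 hψ) h6 hθ2
  rw [D.mem_Orb]
  exact ⟨n, hnN, by rw [h7]; exact h5⟩

/-- the multiplicities over a canonical character whose block does not induce agree -/
theorem Nc_dvd (hM : IsPModular p M) {ψ : IrrCharacter D.C} (hψ : ψ ∈ D.CS) (χ : IrrCharacter G)
    (hnot : ¬ IsInducedBlock M D.C (blockOf M (ψ : D.C → ℂ)) (blockOf M (χ : G → ℂ))) :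
    ∃ q : ℕ, D.Nc ψ (χ : G → ℂ) = p * q ∧ D.Nc ψ (χ : G → ℂ) = (p * q : ℕ) := by
  haveI : Fact p.Prime := ⟨D.prime⟩
  have hp := isPrime_of_modular hM
  letI : Fintype (D.setTh ψ (D.mem_CS.1 hψ)).C := inferInstanceAs (Fintype D.C)
  have h8 : (D.setTh ψ (D.mem_CS.1 hψ)).dd (χ : G → ℂ) = 0 :=
    (D.setTh ψ (D.mem_CS.1 hψ)).dd_zero_of_not hM (b := blockOf M (ψ : D.C → ℂ)) ⟨ψ, rfl⟩ (mem_blockOf_self hp ψ) hnot
  have h9 := (D.setTh ψ (D.mem_CS.1 hψ)).sum_mZ_eq χ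
  rw [Finset.sum_eq_zero (fun i _ => (D.setTh ψ (D.mem_CS.1 hψ)).aZ_zero_of_dd χ h8 i), add_zero] at h9
  have h10 : D.Nc ψ (χ : G → ℂ) = ((∑ i ∈ Finset.range p, (D.setTh ψ (D.mem_CS.1 hψ)).mZ i χ : ℕ) : ℂ) :=
    ((D.setTh ψ (D.mem_CS.1 hψ)).sum_mZ χ).symm
  have h11 : (∑ i ∈ Finset.range p, (D.setTh ψ (D.mem_CS.1 hψ)).mZ i χ : ℕ) = p * (D.setTh ψ (D.mem_CS.1 hψ)).mZ 0 χ := by
    exact_mod_cast h9
  refine ⟨(D.setTh ψ (D.mem_CS.1 hψ)).mZ 0 χ, ?_, ?_⟩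
  · rw [h10, h11]; push_cast; rfl
  · rw [h10, h11]

/-- the function on the centralizer constant on cosets of `x` agreeing with a class function on regular elements -/
noncomputable def f0 (f : G → ℂ) : D.C → ℂ := fun c => f ((c : G) ^ D.rr)

omit [Fintype D.C] in
theorem f0_reg (f : G → ℂ) {c : D.C} (hc : ¬ p ∣ orderOf c) : D.f0 f c = f c := by
  unfold f0
  rw [D.reg_pow_rr (by rwa [Subgroup.orderOf_coe])]

omit [Fintype D.C] in
theorem f0_class {f : G → ℂ} (hf : IsClassFunction G f) : IsClassFunction D.C (D.f0 f) := by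
  intro c g
  change f (((g * c * g⁻¹ : D.C) : G) ^ D.rr) = f ((c : G) ^ D.rr)
  have h1 : ((g * c * g⁻¹ : D.C) : G) ^ D.rr = (g : G) * (c : G) ^ D.rr * (g : G)⁻¹ := by
    rw [← conj_pow]; rfl
  rw [h1]
  exact hf _ _

omit [Fintype D.C] in
theorem f0_can (f : G → ℂ) : D.Can (D.f0 f) := by
  intro c
  change f (((D.xc * c : D.C) : G) ^ D.rr) = f ((c : G) ^ D.rr)
  congr 1
  have hc : Commute D.x (c : G) := (Subgroup.mem_centralizer_singleton_iff.1 c.2 : (c : G) * D.x = D.x * c).symm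
  have h1 : ((D.xc * c : D.C) : G) = D.x * c := rfl
  have h2 : D.x ^ D.rr = 1 := by
    rw [D.x_pow_congr D.rr_p, pow_zero]
  rw [h1, hc.mul_pow, h2, one_mul]

theorem inner_f0 (f : G → ℂ) {ψ : D.C → ℂ} (hψ : D.Can ψ) :
    classInner (D.f0 f) ψ = p * classInner (reg p (fun c : D.C => f c)) ψ := by
  rw [D.inner_can (D.f0_can f) hψ]
  congr 2
  funext c
  by_cases hc : p ∣ orderOf c
  · rw [reg_not hc, reg_not hc]
  · rw [reg_of hc, reg_of hc, D.f0_reg f hc]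

theorem f0_expand {f : G → ℂ} (hf : IsClassFunction G f) (c : D.C) :
    D.f0 f c = ∑ ψ ∈ D.CS, D.Nc ψ f * (ψ : D.C → ℂ) c := by
  classical
  rw [classFun_expand_apply (D.f0_class hf) c]
  unfold CS
  rw [Finset.sum_filter]
  refine Finset.sum_congr rfl fun ψ _ => ?_
  split_ifs with h
  · rw [D.inner_f0 f h]; rfl
  · rw [D.not_can ψ h (D.f0_can f), zero_mul]

/-- expansion on regular elements of the centralizer -/
theorem reg_expand {f : G → ℂ} (hf : IsClassFunction G f) {c : D.C} (hc : ¬ p ∣ orderOf c) :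
    f c = ∑ ψ ∈ D.CS, D.Nc ψ f * (ψ : D.C → ℂ) c := by
  rw [← D.f0_expand hf, D.f0_reg f hc]

theorem one_expand {f : G → ℂ} (hf : IsClassFunction G f) :
    f 1 = ∑ ψ ∈ D.CS, D.Nc ψ f * (ψ : D.C → ℂ) 1 := by
  have := D.reg_expand hf (c := 1) (by
    rw [orderOf_one]; intro h; exact D.prime.one_lt.ne' (Nat.dvd_one.1 h))
  exact this

/-- norms on the regular elements of the centralizer -/
theorem norm_expand {f : G → ℂ} (hf : IsClassFunction G f) :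
    p * classInner (reg p (fun c : D.C => f c * conj (f c))) (fun _ => 1) = ∑ ψ ∈ D.CS, D.Nc ψ f * conj (D.Nc ψ f) := by
  classical
  have h1 : classInner (D.f0 f) (D.f0 f) = ∑ ψ ∈ D.CS, D.Nc ψ f * conj (D.Nc ψ f) := by
    rw [parseval (D.f0_class hf) (D.f0_class hf)]
    unfold CS
    rw [Finset.sum_filter]
    refine Finset.sum_congr rfl fun ψ _ => ?_
    split_ifs with h
    · rw [D.inner_f0 f h]; rfl
    · rw [D.not_can ψ h (D.f0_can f), zero_mul]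
  rw [← h1, D.inner_can (D.f0_can f) (D.f0_can f)]
  congr 1
  unfold classInner
  congr 1
  refine Finset.sum_congr rfl fun c _ => ?_
  by_cases hc : p ∣ orderOf c
  · rw [reg_not hc, reg_not hc]; simp
  · rw [reg_of hc, reg_of hc, D.f0_reg f hc]; simp

/-- the degree, exactly -/
theorem degree_split (hM : IsPModular p M) {B : Set (IrrCharacter G)} (hB : IsPBlock M B)
    {b : Set (IrrCharacter D.C)} (hb : IsInducedBlock M D.C b B) (hθ : D.th ∈ b)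
    (hPD : IsDefectGroup p M B (Subgroup.zpowers D.x)) {χ : IrrCharacter G} (hχ : χ ∈ B)
    (hlt : charDegree (χ : G → ℂ) < p) :
    charDegree (χ : G → ℂ) = D.Orb.card * charDegree (D.th : D.C → ℂ) * ∑ i ∈ Finset.range p, D.mZ i χ ∧
      ∀ ψ ∈ D.CS, ψ ∉ D.Orb → D.Nc ψ (χ : G → ℂ) = 0 := by
  classical
  haveI : Fact p.Prime := ⟨D.prime⟩
  have hp := isPrime_of_modular hM
  have hn : ∀ ψ ∈ D.CS, ∃ n : ℕ, D.Nc ψ (χ : G → ℂ) = n ∧ (ψ ∉ D.Orb → p ∣ n) := by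
    intro ψ hψ
    by_cases hO : ψ ∈ D.Orb
    · exact ⟨_, D.Nc_nat hψ χ, fun h => absurd hO h⟩
    · have h1 := D.not_ind hM hB hb hθ hPD hψ hO
      rw [block_eq_blockOf hp hB hχ] at h1
      obtain ⟨q, -, hq⟩ := D.Nc_dvd hM hψ χ h1
      exact ⟨p * q, hq, fun _ => Dvd.intro _ rfl⟩
  choose! n hn1 hn2 using hn
  have h1 := D.one_expand (CfsgLib.CharInt.irr_classFun χ.2)
  have hd : charDegree (χ : G → ℂ) = ∑ ψ ∈ D.CS, n ψ * charDegree (ψ : D.C → ℂ) := by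
    have : (charDegree (χ : G → ℂ) : ℂ) = ((∑ ψ ∈ D.CS, n ψ * charDegree (ψ : D.C → ℂ) : ℕ) : ℂ) := by
      rw [← CfsgLib.CharInt.irr_one_eq_charDegree χ.2, h1]
      push_cast
      refine Finset.sum_congr rfl fun ψ hψ => ?_
      rw [hn1 ψ hψ, CfsgLib.CharInt.irr_one_eq_charDegree ψ.2]
    exact_mod_cast this
  have hz : ∀ ψ ∈ D.CS, ψ ∉ D.Orb → n ψ = 0 := by
    intro ψ hψ hO
    obtain ⟨q, hq⟩ := hn2 ψ hψ hO
    rcases Nat.eq_zero_or_pos q with h0 | h0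
    · rw [hq, h0, mul_zero]
    · exfalso
      have h2 : n ψ * charDegree (ψ : D.C → ℂ) ≤ charDegree (χ : G → ℂ) := by
        rw [hd]
        exact Finset.single_le_sum (f := fun ψ => n ψ * charDegree (ψ : D.C → ℂ)) (fun _ _ => Nat.zero_le _) hψ
      have h3 : 0 < charDegree (ψ : D.C → ℂ) := irr_charDegree_pos ψ.2
      have h4 : p ≤ n ψ * charDegree (ψ : D.C → ℂ) := by
        rw [hq]
        calc p = p * 1 * 1 := by ring
          _ ≤ p * q * charDegree (ψ : D.C → ℂ) := Nat.mul_le_mul (Nat.mul_le_mul_left p h0) h3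
      omega
  refine ⟨?_, fun ψ hψ hO => by rw [hn1 ψ hψ, hz ψ hψ hO, Nat.cast_zero]⟩
  rw [hd, ← Finset.sum_sdiff D.Orb_sub_CS, Finset.sum_eq_zero, zero_add]
  · rw [mul_assoc, ← smul_eq_mul, ← Finset.sum_const]
    refine Finset.sum_congr rfl fun ψ hψ => ?_
    have h2 : n ψ = ∑ i ∈ Finset.range p, D.mZ i χ := by
      have h3 := hn1 ψ (D.Orb_sub_CS hψ)
      rw [D.Nc_Orb hψ, D.Nc_th] at h3
      exact_mod_cast h3.symm
    have h3 : charDegree (ψ : D.C → ℂ) = charDegree (D.th : D.C → ℂ) := by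
      unfold charDegree
      rw [D.deg_Orb hψ]
    rw [h2, h3, mul_comm]
  · intro ψ hψ
    rw [Finset.mem_sdiff] at hψ
    rw [hz ψ hψ.1 hψ.2, zero_mul]

/-- the value at `x` -/
theorem x_value (χ : IrrCharacter G) :
    (χ : G → ℂ) D.x = ∑ ψ ∈ D.CS, (p * classInner (reg p (fun c : D.C => (χ : G → ℂ) (D.x * c))) (ψ : D.C → ℂ)) * (ψ : D.C → ℂ) 1 := by
  classical
  have h1 := D.x_expand χ (c := 1) (by
    rw [orderOf_one]; intro h; exact D.prime.one_lt.ne' (Nat.dvd_one.1 h))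
  have h2 : D.x * ((1 : D.C) : G) = D.x := by rw [Subgroup.coe_one, mul_one]
  rw [h2] at h1
  rw [h1]
  unfold CS
  refine Finset.sum_congr ?_ fun _ _ => rfl
  congr

/-- `p`-rational characters of small degree have `x` in the kernel -/
theorem rational_ker {χ : IrrCharacter G} (hc : cls D.h χ = {χ}) (hdeg : charDegree (χ : G → ℂ) < p - 1) :
    (χ : G → ℂ) D.x = (χ : G → ℂ) 1 := by
  classical
  haveI : Fact p.Prime := ⟨D.prime⟩
  haveI : NeZero p := ⟨D.prime.ne_zero⟩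
  rw [D.x_value, D.one_expand (CfsgLib.CharInt.irr_classFun χ.2)]
  refine Finset.sum_congr rfl fun ψ hψ => ?_
  congr 1
  letI : Fintype (D.setTh ψ (D.mem_CS.1 hψ)).C := inferInstanceAs (Fintype D.C)
  have e1 : (p * classInner (reg p (fun c : D.C => (χ : G → ℂ) (D.x * c))) (ψ : D.C → ℂ)) =
    (D.setTh ψ (D.mem_CS.1 hψ)).dd (χ : G → ℂ) := rfl
  have e2 : D.Nc ψ (χ : G → ℂ) = ((∑ i ∈ Finset.range p, (D.setTh ψ (D.mem_CS.1 hψ)).mZ i χ : ℕ) : ℂ) :=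
    ((D.setTh ψ (D.mem_CS.1 hψ)).sum_mZ χ).symm
  rw [e1, (D.setTh ψ (D.mem_CS.1 hψ)).dd_eq, e2]
  -- constancy
  have hconst : ∀ i : ℕ, ¬ i ≡ 0 [MOD p] → (D.setTh ψ (D.mem_CS.1 hψ)).mZ i χ = (D.setTh ψ (D.mem_CS.1 hψ)).mZ 1 χ := by
    intro i hi
    obtain ⟨u, hu⟩ := exists_uv hi
    have h1 := (D.setTh ψ (D.mem_CS.1 hψ)).c1 1 u⁻¹ χ
    have h2 : tw (D.setTh ψ (D.mem_CS.1 hψ)).h u⁻¹ χ = χ := by
      have : tw D.h u⁻¹ χ ∈ cls D.h χ := mem_cls.2 ⟨_, rfl⟩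
      rw [hc, Finset.mem_singleton] at this
      exact this
    rw [h2, inv_inv, one_mul] at h1
    unfold aU at h1
    rw [uv_one, (D.setTh ψ (D.mem_CS.1 hψ)).aZ_congr hu] at h1
    unfold aZ at h1
    omega
  have hNle : (∑ i ∈ Finset.range p, (D.setTh ψ (D.mem_CS.1 hψ)).mZ i χ) * charDegree (ψ : D.C → ℂ) ≤ charDegree (χ : G → ℂ) := by
    have h1 := D.one_expand (CfsgLib.CharInt.irr_classFun χ.2)
    have hn : ∀ ψ ∈ D.CS, ∃ n : ℕ, D.Nc ψ (χ : G → ℂ) = n := fun ψ hψ => ⟨_, D.Nc_nat hψ χ⟩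
    choose! n hn1 using hn
    have hd : charDegree (χ : G → ℂ) = ∑ ψ ∈ D.CS, n ψ * charDegree (ψ : D.C → ℂ) := by
      have : (charDegree (χ : G → ℂ) : ℂ) = ((∑ ψ ∈ D.CS, n ψ * charDegree (ψ : D.C → ℂ) : ℕ) : ℂ) := by
        rw [← CfsgLib.CharInt.irr_one_eq_charDegree χ.2, h1]
        push_cast
        refine Finset.sum_congr rfl fun ψ hψ => ?_
        rw [hn1 ψ hψ, CfsgLib.CharInt.irr_one_eq_charDegree ψ.2]
      exact_mod_cast this
    have h2 : n ψ = ∑ i ∈ Finset.range p, (D.setTh ψ (D.mem_CS.1 hψ)).mZ i χ := by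
      have := (hn1 ψ hψ).symm.trans e2
      exact_mod_cast this
    rw [← h2, hd]
    exact Finset.single_le_sum (f := fun ψ => n ψ * charDegree (ψ : D.C → ℂ)) (fun _ _ => Nat.zero_le _) hψ
  have hpos : 0 < charDegree (ψ : D.C → ℂ) := irr_charDegree_pos ψ.2
  have hNlt : ∑ i ∈ Finset.range p, (D.setTh ψ (D.mem_CS.1 hψ)).mZ i χ < p - 1 := by
    refine lt_of_le_of_lt ?_ hdeg
    exact (Nat.le_mul_of_pos_right _ hpos).trans hNle
  have hm1 : (D.setTh ψ (D.mem_CS.1 hψ)).mZ 1 χ = 0 := by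
    by_contra hne
    have h1 : p - 1 ≤ ∑ i ∈ Finset.range p, (D.setTh ψ (D.mem_CS.1 hψ)).mZ i χ := by
      calc p - 1 = ∑ i ∈ (Finset.range p).erase 0, 1 := by
            rw [Finset.sum_const, Finset.card_erase_of_mem (Finset.mem_range.2 D.prime.pos), Finset.card_range, smul_eq_mul, mul_one]
        _ ≤ ∑ i ∈ (Finset.range p).erase 0, (D.setTh ψ (D.mem_CS.1 hψ)).mZ i χ := by
            refine Finset.sum_le_sum fun i hi => ?_
            rw [Finset.mem_erase, Finset.mem_range] at hi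
            rw [hconst i (by
              rw [Nat.modEq_zero_iff_dvd]
              intro h
              exact absurd (Nat.le_of_dvd (Nat.pos_of_ne_zero hi.1) h) (not_le.2 hi.2))]
            omega
        _ ≤ _ := Finset.sum_le_sum_of_subset (Finset.erase_subset _ _)
    omega
  have hm : ∀ i ∈ Finset.range p, i ≠ 0 → (D.setTh ψ (D.mem_CS.1 hψ)).mZ i χ = 0 := by
    intro i hi hi0
    rw [hconst i (by
      rw [Nat.modEq_zero_iff_dvd]
      intro h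
      exact absurd (Nat.le_of_dvd (Nat.pos_of_ne_zero hi0) h) (not_le.2 (Finset.mem_range.1 hi))), hm1]
  have hgeo : ∑ i ∈ Finset.range p, (D.setTh ψ (D.mem_CS.1 hψ)).z ^ i = 0 := (D.setTh ψ (D.mem_CS.1 hψ)).z_prim.geom_sum_eq_zero (D.setTh ψ (D.mem_CS.1 hψ)).prime.one_lt
  have h3 : ∀ i ∈ Finset.range p, (D.setTh ψ (D.mem_CS.1 hψ)).z ^ i * ((D.setTh ψ (D.mem_CS.1 hψ)).aZ i χ : ℂ) = (if i = 0 then ((D.setTh ψ (D.mem_CS.1 hψ)).mZ 0 χ : ℂ) else 0) - (D.setTh ψ (D.mem_CS.1 hψ)).z ^ i * ((D.setTh ψ (D.mem_CS.1 hψ)).mZ 0 χ : ℂ) := by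
    intro i hi
    by_cases hi0 : i = 0
    · rw [if_pos hi0, hi0, (D.setTh ψ (D.mem_CS.1 hψ)).aZ_zero]; simp
    · rw [if_neg hi0]
      unfold aZ
      rw [hm i hi hi0]
      push_cast; ring
  rw [Finset.sum_congr rfl h3, Finset.sum_sub_distrib, ← Finset.sum_mul, hgeo, zero_mul, sub_zero,
    Finset.sum_ite_eq' (Finset.range p) 0, if_pos (Finset.mem_range.2 D.prime.pos),
    Finset.sum_eq_single_of_mem 0 (Finset.mem_range.2 D.prime.pos) (fun i hi hi0 => hm i hi hi0)]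

end Dat

end CfsgLib.Once19
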