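import Mathlib
import Cfsg.Agent.EqBase
import Cfsg.Agent.LibNagD19
import Cfsg.Agent.LibOnceK19

set_option autoImplicit false
set_option maxHeartbeats 400000
set_option linter.unusedSectionVars false
set_option linter.style.haveILetI false

/-! Characters of small degree, I. -/

namespace CfsgLib.Once19

open CfsgLib.CharInt hiding irr_isCharacter irr_classFun irr_one_ne_zero schur_scalar
open Cfsg CfsgLib.CharInt2 CfsgLib.CharBasic CfsgLib.BlockR CfsgLib.BlockCore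
  CfsgLib.BlockIdem CfsgLib.BlockIdeal CfsgLib.BlockConj CfsgLib.BlockBrauer CfsgLib.BlockInd
  CfsgLib.BlockFMT CfsgLib.BlockFMT2 CfsgLib.BlockOrth CfsgLib.BlockDefect
  CfsgLib.BlockReg CfsgLib.BlockReg2 CfsgLib.BlockCount CfsgLib.BlockCount2 CfsgLib.BlockQP
  CfsgLib.BlockCov3 CfsgLib.BlockCov4 CfsgLib.BlockSec CfsgLib.BlockSec3 CfsgLib.CharNorm CfsgLib.Ur
open scoped ComplexConjugate

universe u
variable {p : ℕ} {G : Type u} [Group G] [Fintype G] {M : Ideal AlgInt}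

/-- subgroups of order `p` are conjugate -/
theorem conj_zpowers (h : Once p G) {x y : G} (hx : orderOf x = p) (hy : orderOf y = p) :
    ∃ t : G, t * y * t⁻¹ ∈ Subgroup.zpowers x := by
  haveI : Fact p.Prime := ⟨h.prime⟩
  have hcx : Nat.card (Subgroup.zpowers x) = p := by rw [Nat.card_zpowers, hx]
  have hcy : Nat.card (Subgroup.zpowers y) = p := by rw [Nat.card_zpowers, hy]
  have hfac : p ^ (Nat.card G).factorization p = p := by rw [fact_card h, pow_one]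
  let P1 : Sylow p G := Sylow.ofCard (Subgroup.zpowers y) (by rw [hcy, hfac])
  let P2 : Sylow p G := Sylow.ofCard (Subgroup.zpowers x) (by rw [hcx, hfac])
  obtain ⟨g, hg⟩ := MulAction.exists_smul_eq G P1 P2
  refine ⟨g, ?_⟩
  have h5 : ((g • P1 : Sylow p G) : Subgroup G) = (P2 : Subgroup G) := by rw [hg]
  rw [Sylow.coe_subgroup_smul] at h5
  have h6 : g * y * g⁻¹ ∈ (P2 : Subgroup G) := by
    rw [← h5]
    exact ⟨y, Subgroup.mem_zpowers y, rfl⟩
  exact h6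

namespace Dat
variable (D : Dat p G)

theorem sing_conj {g : G} (hg : p ∣ orderOf g) : ∃ (t : G) (c : D.C) (j : ℕ), ¬ j ≡ 0 [MOD p] ∧ ¬ p ∣ orderOf c ∧
    t * g * t⁻¹ = D.x ^ j * c := by
  haveI : Fact p.Prime := ⟨D.prime⟩
  have hcard := D.h.card
  set q := Nat.card G / p with hq
  have hcop : Nat.Coprime p q := D.h.coprime
  have hgc : g ^ (p * q) = 1 := by rw [hcard]; exact pow_card_eq_one'
  have hsum : g ^ D.ss * g ^ D.rr = g := by
    rw [← pow_add]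
    conv_rhs => rw [← pow_one g]
    apply CfsgLib.Ur.pow_congr
    apply D.h.modEq
    · exact (Nat.ModEq.add D.ss_p D.rr_p).trans (by rfl)
    · exact (Nat.ModEq.add D.ss_q D.rr_q).trans (by rfl)
  have hyp : (g ^ D.ss) ^ p = 1 := by
    obtain ⟨m, hm⟩ := (Nat.modEq_zero_iff_dvd).1 D.ss_q
    rw [← pow_mul, hm]
    have : q * m * p = (p * q) * m := by ring
    rw [← hq, this, pow_mul, hgc, one_pow]
  have hwq : (g ^ D.rr) ^ q = 1 := by
    obtain ⟨m, hm⟩ := (Nat.modEq_zero_iff_dvd).1 D.rr_p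
    rw [← pow_mul, hm]
    have : p * m * q = (p * q) * m := by ring
    rw [this, pow_mul, hgc, one_pow]
  have hy1 : g ^ D.ss ≠ 1 := by
    intro h
    rw [h, one_mul] at hsum
    rw [hsum] at hwq
    have h1 := hg.trans (orderOf_dvd_of_pow_eq_one hwq)
    exact D.prime.one_lt.ne' (Nat.Coprime.eq_one_of_dvd hcop h1)
  have hyo : orderOf (g ^ D.ss) = p := orderOf_eq_prime hyp hy1
  obtain ⟨t, ht⟩ := conj_zpowers D.h D.hx hyo
  obtain ⟨j, hj⟩ := (isOfFinOrder_of_finite D.x).mem_powers_iff_mem_zpowers.2 ht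
  have hj' : D.x ^ j = t * g ^ D.ss * t⁻¹ := hj
  have hj0 : ¬ j ≡ 0 [MOD p] := by
    intro h
    rw [D.x_pow_congr h, pow_zero] at hj'
    apply hy1
    have : t * g ^ D.ss = t := by
      have := mul_inv_eq_iff_eq_mul.1 hj'.symm
      rw [one_mul] at this
      exact this
    exact mul_eq_left.1 this
  have hcm : t * g ^ D.rr * t⁻¹ ∈ D.C := by
    apply D.comm_of_pow hj0
    rw [hj']
    have h1 : Commute (g ^ D.rr) (g ^ D.ss) := (Commute.refl g).pow_pow _ _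
    calc t * g ^ D.rr * t⁻¹ * (t * g ^ D.ss * t⁻¹) * (t * g ^ D.rr * t⁻¹)⁻¹ =
          t * (g ^ D.rr * g ^ D.ss) * (g ^ D.rr)⁻¹ * t⁻¹ := by group
      _ = t * (g ^ D.ss * g ^ D.rr) * (g ^ D.rr)⁻¹ * t⁻¹ := by rw [h1.eq]
      _ = _ := by group
  refine ⟨t, ⟨_, hcm⟩, j, hj0, ?_, ?_⟩
  · intro h
    rw [← Subgroup.orderOf_coe] at h
    have h1 : (t * g ^ D.rr * t⁻¹) ^ q = 1 := by
      rw [conj_pow, hwq]; simp
    have h2 := h.trans (orderOf_dvd_of_pow_eq_one h1)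
    exact D.prime.one_lt.ne' (Nat.Coprime.eq_one_of_dvd hcop h2)
  · change t * g * t⁻¹ = D.x ^ j * (t * g ^ D.rr * t⁻¹)
    rw [hj']
    conv_lhs => rw [← hsum]
    group

theorem diff_inner {χ : IrrCharacter G} {δ : ℤ}
    (hδ : ∀ j : ℕ, ¬ j ≡ 0 [MOD p] → ∀ c : D.C, ¬ p ∣ orderOf c → (χ : G → ℂ) (D.x ^ j * c) = δ)
    {ψ ψ' : IrrCharacter G} (hψ' : ψ' ∈ cls D.h ψ) (hne : ψ' ≠ ψ) :
    classInner (fun y => (ψ : G → ℂ) y * conj ((ψ : G → ℂ) y)) (χ : G → ℂ) =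
      classInner (fun y => (ψ' : G → ℂ) y * conj ((ψ : G → ℂ) y)) (χ : G → ℂ) + δ := by
  have h1 : classInner (ψ : G → ℂ) (ψ : G → ℂ) = 1 := irr_inner_self ψ.2
  have h2 : classInner (ψ' : G → ℂ) (ψ : G → ℂ) = 0 := irr_inner_ne ψ'.2 ψ.2 (fun h => hne (Subtype.ext h))
  have h3 : classInner (fun y => (ψ : G → ℂ) y * conj ((ψ : G → ℂ) y)) (χ : G → ℂ) -
      classInner (fun y => (ψ' : G → ℂ) y * conj ((ψ : G → ℂ) y)) (χ : G → ℂ) =
      δ * (classInner (ψ : G → ℂ) (ψ : G → ℂ) - classInner (ψ' : G → ℂ) (ψ : G → ℂ)) := by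
    unfold classInner
    rw [← mul_sub, ← mul_sub, ← Finset.sum_sub_distrib, ← Finset.sum_sub_distrib, mul_left_comm, Finset.mul_sum (a := (δ : ℂ))]
    congr 1
    refine Finset.sum_congr rfl fun y _ => ?_
    by_cases hy : p ∣ orderOf y
    · obtain ⟨t, c, j, hj, hc, htc⟩ := D.sing_conj hy
      have h4 : (χ : G → ℂ) y = δ := by
        rw [← CfsgLib.CharInt.irr_classFun χ.2 y t, htc]
        exact hδ j hj c hc
      rw [h4]
      have h5 : conj (δ : ℂ) = δ := map_intCast _ δ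
      rw [h5]; ring
    · rw [cls_reg hψ' hy]; ring
  rw [h1, h2, sub_zero, mul_one] at h3
  linear_combination h3

variable [Fintype D.C]

theorem Nc_sum {ι : Type*} (s : Finset ι) (m : ι → ℂ) (f : ι → G → ℂ) (φ : IrrCharacter D.C) :
    D.Nc φ (fun y => ∑ i ∈ s, m i * f i y) = ∑ i ∈ s, m i * D.Nc φ (f i) := by
  unfold Nc classInner
  have h1 : ∀ c : D.C, reg p (fun c : D.C => ∑ i ∈ s, m i * f i c) c * conj ((φ : D.C → ℂ) c) =
      ∑ i ∈ s, m i * (reg p (fun c : D.C => f i c) c * conj ((φ : D.C → ℂ) c)) := by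
    intro c
    by_cases hc : p ∣ orderOf c
    · rw [reg_not hc, zero_mul]
      symm
      refine Finset.sum_eq_zero fun i _ => ?_
      rw [reg_not hc]; ring
    · rw [reg_of hc, Finset.sum_mul]
      refine Finset.sum_congr rfl fun i _ => ?_
      rw [reg_of hc]; ring
  rw [Finset.sum_congr rfl (fun c _ => h1 c), Finset.sum_comm, Finset.mul_sum, Finset.mul_sum]
  refine Finset.sum_congr rfl fun i _ => ?_
  rw [← Finset.mul_sum]; ring

/-- the members of the principal block occurring in a product of small degree -/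
theorem one_eq_Nc (hM : IsPModular p M) {oC : IrrCharacter D.C} (hoC : ∀ c, (oC : D.C → ℂ) c = 1)
    {f g : G → ℂ} (hf : IsCharacter G f) (hg : IsCharacter G g) {n1 n2 : ℕ} (hf1 : f 1 = n1) (hg1 : g 1 = n2)
    (hn : n1 + n2 ≤ p) {χ : IrrCharacter G} (hχ : χ ∈ principalBlock M G)
    (hm : classInner (fun y => f y * g y) (χ : G → ℂ) ≠ 0) :
    (χ : G → ℂ) 1 = D.Nc oC (χ : G → ℂ) := by
  classical
  haveI : Fact p.Prime := ⟨D.prime⟩
  have hp := isPrime_of_modular hM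
  let o : IrrCharacter G := ⟨fun _ => 1, isIrrCharacter_one (G := G)⟩
  have hoB : IsPBlock M (principalBlock M G) := ⟨o, rfl⟩
  have hocan : oC ∈ D.CS := D.mem_CS.2 (fun c => by rw [hoC, hoC])
  rw [D.one_expand (CfsgLib.CharInt.irr_classFun χ.2), Finset.sum_eq_single_of_mem oC hocan, hoC, mul_one]
  intro φ hφ hne
  letI : Fintype (D.setTh φ (D.mem_CS.1 hφ)).C := inferInstanceAs (Fintype D.C)
  have hnot : ¬ IsInducedBlock M D.C (blockOf M (φ : D.C → ℂ)) (principalBlock M G) := by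
    intro hind
    have e9 : blockOf M (φ : D.C → ℂ) = principalBlock M D.C :=
      (CfsgLib.BlockH.third_main hM D.C _ ⟨_, hind⟩).1 hind
    apply hne
    apply D.can_unique hM (D.mem_CS.1 hφ) (D.mem_CS.1 hocan)
    have h1 : oC ∈ blockOf M (φ : D.C → ℂ) := by
      rw [e9]
      have h2 : (oC : D.C → ℂ) = fun _ => 1 := funext hoC
      have := mem_blockOf_self hp oC
      rw [h2] at this
      exact this
    exact h1
  have hz : ∀ i, (D.setTh φ (D.mem_CS.1 hφ)).mZ i χ = 0 := by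
    intro i
    have h1 := (D.setTh φ (D.mem_CS.1 hφ)).mZ_spec i χ
    let ζ : IrrCharacter D.C := ⟨_, (D.setTh φ (D.mem_CS.1 hφ)).lt_irr i⟩
    have hζ : ζ ∈ blockOf M (φ : D.C → ℂ) := by
      change SameBlock M (φ : D.C → ℂ) (ζ : D.C → ℂ)
      apply CfsgLib.BlockCov.sameBlock_of_reg hM
      intro c hc
      have h3 : ∀ c : D.C, ¬ p ∣ orderOf c → (ζ : D.C → ℂ) c = (φ : D.C → ℂ) c := by
        intro c hc
        change ((D.setTh φ (D.mem_CS.1 hφ)).lam c : ℂ) ^ i * (φ : D.C → ℂ) c = _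
        rw [((D.setTh φ (D.mem_CS.1 hφ)).lam_eq_one_iff c).2 hc, one_pow, one_mul]
      have h2 : centralChar (φ : D.C → ℂ) c - centralChar (ζ : D.C → ℂ) c = 0 := by
        unfold centralChar
        rw [h3 c hc, h3 1 (by rw [orderOf_one]; exact fun h1 => D.prime.one_lt.ne' (Nat.dvd_one.1 h1)), sub_self]
      rw [h2]; exact ideal_zero hp
    have h2 := CfsgLib.Nag19.comp_zero hM D.hx hoB (b := blockOf M (φ : D.C → ℂ)) ⟨φ, rfl⟩ hnot hf hg hf1 hg1 hn hχ hm hζ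
    have h4 : classInner (fun c : (D.setTh φ (D.mem_CS.1 hφ)).C => (χ : G → ℂ) c) ((D.setTh φ (D.mem_CS.1 hφ)).lt i) = 0 := h2
    rw [h4] at h1
    exact_mod_cast h1.symm
  have e2 : D.Nc φ (χ : G → ℂ) = ((∑ i ∈ Finset.range p, (D.setTh φ (D.mem_CS.1 hφ)).mZ i χ : ℕ) : ℂ) :=
    ((D.setTh φ (D.mem_CS.1 hφ)).sum_mZ χ).symm
  rw [e2, Finset.sum_eq_zero (fun i _ => hz i), Nat.cast_zero, zero_mul]

theorem sum_le (hM : IsPModular p M) {ψ ψ' : IrrCharacter G} (hψ' : ψ' ∈ cls D.h ψ) (hn : 2 * charDegree (ψ : G → ℂ) ≤ p)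
    {K : ℕ} (hK : ∑ φ ∈ D.CS, D.Nc φ (ψ : G → ℂ) * conj (D.Nc φ (ψ : G → ℂ)) = K) (S : Finset (IrrCharacter G))
    (hS : ∀ χ ∈ S, χ ∈ principalBlock M G ∧ classInner (fun y => (ψ' : G → ℂ) y * conj ((ψ : G → ℂ) y)) (χ : G → ℂ) ≠ 0) :
    ∑ χ ∈ S, charDegree (χ : G → ℂ) ≤ K := by
  classical
  haveI : Fact p.Prime := ⟨D.prime⟩
  let oC : IrrCharacter D.C := ⟨fun _ => 1, isIrrCharacter_one (G := D.C)⟩
  have hoC : ∀ c, (oC : D.C → ℂ) c = 1 := fun _ => rfl
  have hocan : oC ∈ D.CS := D.mem_CS.2 (fun c => rfl)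
  have hf : IsCharacter G (ψ' : G → ℂ) := CfsgLib.CharBasic.irr_isCharacter ψ'.2
  have hg : IsCharacter G (fun y => conj ((ψ : G → ℂ) y)) := isCharacter_conj (CfsgLib.CharBasic.irr_isCharacter ψ.2)
  have hd1 : (ψ : G → ℂ) 1 = charDegree (ψ : G → ℂ) := CfsgLib.CharInt.irr_one_eq_charDegree ψ.2
  have hf1 : (ψ' : G → ℂ) 1 = charDegree (ψ : G → ℂ) := by
    rw [← hd1]
    exact cls_reg hψ' (by rw [orderOf_one]; exact fun h1 => D.prime.one_lt.ne' (Nat.dvd_one.1 h1))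
  have hg1 : (fun y => conj ((ψ : G → ℂ) y)) 1 = (charDegree (ψ : G → ℂ) : ℂ) := by
    simp only [hd1, Complex.conj_natCast]
  obtain ⟨m, hm, hexp, -⟩ := char_expand (isCharacter_mul hf hg)
  have hm' : ∀ χ : IrrCharacter G, classInner (fun y => (ψ' : G → ℂ) y * conj ((ψ : G → ℂ) y)) (χ : G → ℂ) = m χ := hm
  have hNn : ∀ χ : IrrCharacter G, ∃ k : ℕ, D.Nc oC (χ : G → ℂ) = k := fun χ => ⟨_, D.Nc_nat hocan χ⟩
  choose k hk using hNn
  have h1 : D.Nc oC (fun y => (ψ' : G → ℂ) y * conj ((ψ : G → ℂ) y)) = ∑ χ : IrrCharacter G, (m χ : ℂ) * D.Nc oC (χ : G → ℂ) := by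
    rw [← D.Nc_sum]
    congr 1
    funext y
    have := congrFun hexp y
    rw [Finset.sum_apply] at this
    exact this
  have h2 : D.Nc oC (fun y => (ψ' : G → ℂ) y * conj ((ψ : G → ℂ) y)) = K := by
    rw [← hK, ← D.norm_expand (CfsgLib.CharInt.irr_classFun ψ.2)]
    unfold Nc
    have h3 : reg p (fun c : D.C => (ψ' : G → ℂ) c * conj ((ψ : G → ℂ) c)) =
        reg p (fun c : D.C => (ψ : G → ℂ) c * conj ((ψ : G → ℂ) c)) := by
      funext c
      by_cases hc : p ∣ orderOf c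
      · rw [reg_not hc, reg_not hc]
      · rw [reg_of hc, reg_of hc, cls_reg hψ' (by rwa [Subgroup.orderOf_coe])]
    rw [h3]
  have h3 : K = ∑ χ : IrrCharacter G, m χ * k χ := by
    have : (K : ℂ) = ((∑ χ : IrrCharacter G, m χ * k χ : ℕ) : ℂ) := by
      rw [← h2, h1]
      push_cast
      exact Finset.sum_congr rfl fun χ _ => by rw [hk]
    exact_mod_cast this
  rw [h3]
  refine le_trans (Finset.sum_le_sum (g := fun χ => m χ * k χ) fun χ hχ => ?_) (Finset.sum_le_sum_of_subset (Finset.subset_univ S))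
  obtain ⟨hχB, hχm⟩ := hS χ hχ
  have h4 := D.one_eq_Nc hM hoC hf hg hf1 hg1 (by omega) hχB hχm
  rw [hk, CfsgLib.CharInt.irr_one_eq_charDegree χ.2] at h4
  have h5 : charDegree (χ : G → ℂ) = k χ := by exact_mod_cast h4
  have h6 : m χ ≠ 0 := by
    intro h
    apply hχm
    rw [hm', h, Nat.cast_zero]
  rw [h5]
  exact Nat.le_mul_of_pos_left _ (Nat.pos_of_ne_zero h6)

end Dat

end CfsgLib.Once19
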