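import Mathlib
import Cfsg.Agent.EqBase
import Cfsg.Agent.LibNagE19

set_option autoImplicit false
set_option maxHeartbeats 400000
set_option linter.unusedSectionVars false
set_option linter.style.haveILetI false

/-! Characters of small degree, II. -/

namespace CfsgLib.Once19

open CfsgLib.CharInt hiding irr_isCharacter irr_classFun irr_one_ne_zero schur_scalar
open Cfsg CfsgLib.CharInt2 CfsgLib.CharBasic CfsgLib.BlockR CfsgLib.BlockCore
  CfsgLib.BlockIdem CfsgLib.BlockIdeal CfsgLib.BlockConj CfsgLib.BlockBrauer CfsgLib.BlockInd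
  CfsgLib.BlockFMT CfsgLib.BlockFMT2 CfsgLib.BlockOrth CfsgLib.BlockDefect
  CfsgLib.BlockReg CfsgLib.BlockReg2 CfsgLib.BlockCount CfsgLib.BlockCount2 CfsgLib.BlockQP
  CfsgLib.BlockCov3 CfsgLib.BlockCov4 CfsgLib.BlockSec CfsgLib.BlockSec3 CfsgLib.CharNorm CfsgLib.Ur
open scoped ComplexConjugate

universe u
variable {p : ℕ} {G : Type u} [Group G] [Fintype G] {M : Ideal AlgInt}

/-- the analysis of a nonrational character of small degree -/
structure Small (D : Dat p G) [Fintype D.C] (ψ : IrrCharacter G) (e : ℕ) : Prop where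
  deg : charDegree (ψ : G → ℂ) = D.Orb.card * e * charDegree (D.th : D.C → ℂ)
  orb : D.Orb.card * e = D.C.relIndex D.N
  nc : ∀ φ ∈ D.CS, D.Nc φ (ψ : G → ℂ) = if φ ∈ D.Orb then (e : ℂ) else 0
  m0 : D.mZ 0 ψ = 0
  pos : 0 < e

theorem exists_small (hM : IsPModular p M) (h : Once p G) {x : G} (hx : orderOf x = p) {ψ : IrrCharacter G}
    (hc : cls h ψ ≠ {ψ}) (hdeg : 2 * charDegree (ψ : G → ℂ) ≤ p) :
    ∃ D : Dat p G, D.x = x ∧ ∃ e : ℕ, ∀ (_ : Fintype D.C), Small D ψ e := by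
  classical
  haveI : Fact p.Prime := ⟨h.prime⟩
  have hp := isPrime_of_modular hM
  have hp2 := h.prime.two_le
  have hdpos : 0 < charDegree (ψ : G → ℂ) := irr_charDegree_pos ψ.2
  set B := blockOf M (ψ : G → ℂ) with hBdef
  have hB : IsPBlock M B := ⟨ψ, rfl⟩
  have hψB : ψ ∈ B := mem_blockOf_self hp ψ
  have hnd : ¬ p ∣ charDegree (ψ : G → ℂ) := fun h1 => by
    have := Nat.le_of_dvd hdpos h1; omega
  obtain ⟨D, hDx, b, hb, hθ⟩ := exists_dat hM h hx hB hψB hnd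
  have hPD : IsDefectGroup p M B (Subgroup.zpowers D.x) := defect_zpowers hM h hB hψB hnd D.hx
  have hdall := deg_all hM h hB hψB hnd
  set T := inert D with hTdef
  have hT := mem_inert D
  refine ⟨D, hDx, D.C.relIndex T, ?_⟩
  intro inst
  have he := exists_e D (D.C_le_T hT)
  obtain ⟨χ0, h0, h1, h2, h3, ε, hε, h4⟩ := D.str hM hb hθ hdall hT he
  set e := D.C.relIndex T with hedef
  have hY : ψ ∈ cls D.h χ0 := by
    by_contra hcon
    exact hc (h3 ψ hψB hcon).1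
  have hcc : cls D.h ψ = cls D.h χ0 := cls_eq hY
  have hY2 : 2 ≤ (cls D.h χ0).card := by
    rw [← hcc]
    by_contra hcon
    have h5 := cls_card_pos D.h ψ
    have h6 : (cls D.h ψ).card = 1 := by omega
    obtain ⟨a, ha⟩ := Finset.card_eq_one.1 h6
    have h7 := self_mem_cls D.h ψ
    rw [ha, Finset.mem_singleton] at h7
    apply hc
    have h8 : cls h ψ = cls D.h ψ := rfl
    rw [h8, ha, h7]
  have hsum := D.sum_aZ_cls h1 h4 hY
  have he2 : 2 * e ≤ p - 1 := by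
    rw [← h1]; exact Nat.mul_le_mul_right e hY2
  have he0 : 0 < e := by
    rw [Nat.pos_iff_ne_zero]; intro h5
    rw [h5, mul_zero] at h1; omega
  have hlt : charDegree (ψ : G → ℂ) < p := by omega
  obtain ⟨hdg, hz⟩ := D.degree_split hM hB hb hθ hPD hψB hlt
  have hmZ := D.sum_mZ_eq ψ
  rw [hsum] at hmZ
  set N := ∑ i ∈ Finset.range p, D.mZ i ψ with hN
  have hθpos : 0 < charDegree (D.th : D.C → ℂ) := irr_charDegree_pos D.th.2
  have hOpos : 0 < D.Orb.card := Finset.card_pos.2 ⟨D.th, D.th_mem_Orb⟩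
  have hNle : N ≤ charDegree (ψ : G → ℂ) := by
    rw [hdg]; exact Nat.le_mul_of_pos_left _ (Nat.mul_pos hOpos hθpos)
  have hNpos : 0 < N := by
    rw [Nat.pos_iff_ne_zero]; intro h5; rw [h5, mul_zero] at hdg; omega
  have hpe : 2 * N ≤ p := by omega
  have hkey : D.mZ 0 ψ = 0 ∧ N = e := by
    rcases hε with rfl | rfl
    · have h5 : (N : ℤ) = p * D.mZ 0 ψ + e := by rw [hmZ]; ring
      have h6 : N = p * D.mZ 0 ψ + e := by exact_mod_cast h5
      have h7 : D.mZ 0 ψ = 0 := by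
        by_contra hcon
        have : p ≤ p * D.mZ 0 ψ := Nat.le_mul_of_pos_right _ (Nat.pos_of_ne_zero hcon)
        omega
      rw [h7, mul_zero, zero_add] at h6
      exact ⟨h7, h6⟩
    · exfalso
      have h5 : (N : ℤ) + e = p * D.mZ 0 ψ := by rw [hmZ]; ring
      have h6 : N + e = p * D.mZ 0 ψ := by exact_mod_cast h5
      have h7 : D.mZ 0 ψ ≠ 0 := by
        intro h8; rw [h8, mul_zero] at h6; omega
      have : p ≤ p * D.mZ 0 ψ := Nat.le_mul_of_pos_right _ (Nat.pos_of_ne_zero h7)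
      omega
  refine ⟨?_, ?_, ?_, hkey.1, he0⟩
  · rw [hdg, hkey.2]; ring
  · exact D.orb_eq_div hT
  · intro φ hφ
    split_ifs with hO
    · rw [D.Nc_Orb hO, D.Nc_th, ← hN, hkey.2]
    · exact hz φ hφ hO

theorem Small.norm {D : Dat p G} [Fintype D.C] {ψ : IrrCharacter G} {e : ℕ} (hs : Small D ψ e) :
    ∑ φ ∈ D.CS, D.Nc φ (ψ : G → ℂ) * conj (D.Nc φ (ψ : G → ℂ)) = ((D.Orb.card * (e * e) : ℕ) : ℂ) := by
  classical
  rw [← Finset.sum_sdiff D.Orb_sub_CS, Finset.sum_eq_zero, zero_add]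
  · rw [Finset.sum_congr rfl (g := fun _ => ((e * e : ℕ) : ℂ))]
    · rw [Finset.sum_const, nsmul_eq_mul]; push_cast; rfl
    · intro φ hφ
      rw [hs.nc φ (D.Orb_sub_CS hφ), if_pos hφ, Complex.conj_natCast]; push_cast; rfl
  · intro φ hφ
    rw [Finset.mem_sdiff] at hφ
    rw [hs.nc φ hφ.1, if_neg hφ.2, zero_mul]

/-- the case where `x` acts as a scalar -/
theorem Small.scalar (hM : IsPModular p M) {D : Dat p G} [Fintype D.C] {ψ : IrrCharacter G} {e : ℕ} (hs : Small D ψ e)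
    (hf : D.Orb.card * e = 1) : ‖(ψ : G → ℂ) D.x‖ = charDegree (ψ : G → ℂ) := by
  classical
  have hO1 : D.Orb.card = 1 := Nat.eq_one_of_mul_eq_one_right hf
  have he1 : e = 1 := Nat.eq_one_of_mul_eq_one_left hf
  have hOrb : D.Orb = {D.th} := by
    obtain ⟨a, ha⟩ := Finset.card_eq_one.1 hO1
    have := D.th_mem_Orb
    rw [ha, Finset.mem_singleton] at this
    rw [ha, this]
  rw [D.x_value, Finset.sum_eq_single_of_mem D.th D.th_mem_CS]
  · have e1 : (p * classInner (reg p (fun c : D.C => (ψ : G → ℂ) (D.x * c))) (D.th : D.C → ℂ)) = D.dd (ψ : G → ℂ) := rfl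
    rw [e1, D.dd_eq]
    have hsum : ∑ i ∈ Finset.range p, D.mZ i ψ = 1 := by
      have h1 := hs.nc D.th D.th_mem_CS
      rw [if_pos D.th_mem_Orb, D.Nc_th, he1] at h1
      exact_mod_cast h1
    obtain ⟨i0, hi0, hi1⟩ : ∃ i0 ∈ Finset.range p, D.mZ i0 ψ ≠ 0 := by
      by_contra hcon
      push Not at hcon
      rw [Finset.sum_eq_zero hcon] at hsum
      exact zero_ne_one hsum
    have h3 : D.mZ i0 ψ = 1 ∧ ∀ i ∈ Finset.range p, i ≠ i0 → D.mZ i ψ = 0 := by
      have h4 := hsum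
      rw [← Finset.add_sum_erase _ _ hi0] at h4
      have h5 : D.mZ i0 ψ = 1 ∧ ∑ i ∈ (Finset.range p).erase i0, D.mZ i ψ = 0 := by omega
      refine ⟨h5.1, fun i hi hne => ?_⟩
      exact (Finset.sum_eq_zero_iff.1 h5.2) i (Finset.mem_erase.2 ⟨hne, hi⟩)
    have h4 : ∑ i ∈ Finset.range p, D.z ^ i * (D.aZ i ψ : ℂ) = D.z ^ i0 := by
      rw [Finset.sum_eq_single_of_mem i0 hi0]
      · unfold Dat.aZ
        rw [h3.1, hs.m0]; simp
      · intro i hi hne
        unfold Dat.aZ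
        rw [h3.2 i hi hne, hs.m0]; simp
    rw [h4, norm_mul, norm_pow]
    have h5 : ‖D.z‖ = 1 := Complex.norm_eq_one_of_pow_eq_one D.z_pow D.prime.ne_zero
    rw [h5, one_pow, one_mul, CfsgLib.CharInt.irr_one_eq_charDegree D.th.2, hs.deg, hf, one_mul]
    simp
  · intro φ hφ hne
    have hnO : φ ∉ D.Orb := by rw [hOrb, Finset.mem_singleton]; exact hne
    letI : Fintype (D.setTh φ (D.mem_CS.1 hφ)).C := inferInstanceAs (Fintype D.C)
    have e1 : (p * classInner (reg p (fun c : D.C => (ψ : G → ℂ) (D.x * c))) (φ : D.C → ℂ)) =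
      (D.setTh φ (D.mem_CS.1 hφ)).dd (ψ : G → ℂ) := rfl
    have e2 : D.Nc φ (ψ : G → ℂ) = ((∑ i ∈ Finset.range p, (D.setTh φ (D.mem_CS.1 hφ)).mZ i ψ : ℕ) : ℂ) :=
      ((D.setTh φ (D.mem_CS.1 hφ)).sum_mZ ψ).symm
    rw [hs.nc φ hφ, if_neg hnO] at e2
    have e3 : ∑ i ∈ Finset.range p, (D.setTh φ (D.mem_CS.1 hφ)).mZ i ψ = 0 := by exact_mod_cast e2.symm
    have e4 := Finset.sum_eq_zero_iff.1 e3
    rw [e1, (D.setTh φ (D.mem_CS.1 hφ)).dd_eq, Finset.sum_eq_zero, zero_mul]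
    intro i hi
    unfold Dat.aZ
    rw [e4 i hi, e4 0 (Finset.mem_range.2 D.prime.pos)]; simp

end CfsgLib.Once19
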