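import Mathlib
import Cfsg.Agent.EqBase
import Cfsg.Agent.LibNagF19
import Cfsg.Agent.LibQuot19

set_option autoImplicit false
set_option maxHeartbeats 400000
set_option linter.unusedSectionVars false
set_option linter.style.haveILetI false

/-! Characters of small degree, III. -/

namespace CfsgLib.Once19

open CfsgLib.CharInt hiding irr_isCharacter irr_classFun irr_one_ne_zero schur_scalar
open Cfsg CfsgLib.CharInt2 CfsgLib.CharBasic CfsgLib.BlockR CfsgLib.BlockCore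
  CfsgLib.BlockIdem CfsgLib.BlockIdeal CfsgLib.BlockConj CfsgLib.BlockBrauer CfsgLib.BlockInd
  CfsgLib.BlockFMT CfsgLib.BlockFMT2 CfsgLib.BlockOrth CfsgLib.BlockDefect
  CfsgLib.BlockReg CfsgLib.BlockReg2 CfsgLib.BlockCount CfsgLib.BlockCount2 CfsgLib.BlockQP
  CfsgLib.BlockCov3 CfsgLib.BlockCov4 CfsgLib.BlockSec CfsgLib.BlockSec3 CfsgLib.CharNorm CfsgLib.Ur
open scoped ComplexConjugate

universe u
variable {p : ℕ} {G : Type u} [Group G] [Fintype G] {M : Ideal AlgInt}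

/-- the nonexceptional part of the principal block, for `G` generated by `p`-elements -/
structure PX (M : Ideal AlgInt) (D : Dat p G) (f : ℕ) (Xp Xm : Finset (IrrCharacter G)) (Y : Finset (IrrCharacter G)) : Prop where
  card : Xp.card + Xm.card = f
  mem : ∀ χ, χ ∈ principalBlock M G ↔ χ ∈ Xp ∨ χ ∈ Xm ∨ χ ∈ Y
  disj : Disjoint Xp Xm
  disjY : ∀ χ ∈ Y, χ ∉ Xp ∧ χ ∉ Xm
  one : (⟨fun _ => 1, isIrrCharacter_one (G := G)⟩ : IrrCharacter G) ∈ Xp
  degp : ∀ χ ∈ Xp, χ ≠ (⟨fun _ => 1, isIrrCharacter_one (G := G)⟩ : IrrCharacter G) → p + 1 ≤ charDegree (χ : G → ℂ)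
  degp' : ∀ χ ∈ Xp, (charDegree (χ : G → ℂ) : ℤ) ≡ 1 [ZMOD p]
  degm : ∀ χ ∈ Xm, p - 1 ≤ charDegree (χ : G → ℂ)
  degm' : ∀ χ ∈ Xm, (charDegree (χ : G → ℂ) : ℤ) ≡ -1 [ZMOD p]
  valp : ∀ χ ∈ Xp, ∀ j : ℕ, ¬ j ≡ 0 [MOD p] → ∀ c : D.C, ¬ p ∣ orderOf c → (χ : G → ℂ) (D.x ^ j * c) = (1 : ℤ)
  valm : ∀ χ ∈ Xm, ∀ j : ℕ, ¬ j ≡ 0 [MOD p] → ∀ c : D.C, ¬ p ∣ orderOf c → (χ : G → ℂ) (D.x ^ j * c) = (-1 : ℤ)
  cardY : Y.card * f = p - 1
  degY : ∃ ε : ℤ, (ε = 1 ∨ ε = -1) ∧ (∀ ψ ∈ Y, (charDegree (ψ : G → ℂ) : ℤ) ≡ ε * f [ZMOD p]) ∧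
    ∀ ψ ∈ Y, ∀ g : G, ¬ p ∣ orderOf g → (ε : ℂ) * (ψ : G → ℂ) g = (∑ χ ∈ Xp, (χ : G → ℂ) g) - ∑ χ ∈ Xm, (χ : G → ℂ) g
  regY : ∀ ψ ∈ Y, ∀ ψ' ∈ Y, ∀ g : G, ¬ p ∣ orderOf g → (ψ : G → ℂ) g = (ψ' : G → ℂ) g

theorem principal_transport (hM : IsPModular p M) (h : Once p G) {x : G} (hx : orderOf x = p) :
    IsInducedBlock M (Subgroup.centralizer ({x} : Set G)) (principalBlock M (Subgroup.centralizer ({x} : Set G))) (principalBlock M G) := by
  obtain ⟨D, hDx, -, hb, -⟩ := exists_principal hM h hx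
  subst hDx
  exact hb

theorem exists_PX (hM : IsPModular p M) (D : Dat p G) [Fintype D.C] {f : ℕ} (hf : D.C.relIndex D.N = f)
    (hgen : ∀ N : Subgroup G, N.Normal → D.x ∈ N → N = ⊤) (hf2 : 2 ≤ f) (hfp : f + 1 < p) :
    ∃ Xp Xm Y : Finset (IrrCharacter G), PX M D f Xp Xm Y := by
  classical
  haveI : Fact p.Prime := ⟨D.prime⟩
  have hp := isPrime_of_modular hM
  let oC : IrrCharacter D.C := ⟨fun _ => 1, isIrrCharacter_one (G := D.C)⟩
  have hcan : D.Can (oC : D.C → ℂ) := fun c => rfl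
  letI : Fintype (D.setTh oC hcan).C := inferInstanceAs (Fintype D.C)
  have hb := principal_transport hM D.h D.hx
  have hθ : (D.setTh oC hcan).th ∈ principalBlock M (D.setTh oC hcan).C := mem_blockOf_self hp oC
  obtain ⟨Y, hYn, hYB, hYc, hBc, hYreg, δ, hδ, ε, hε, hYd, hrel⟩ :=
    (D.setTh oC hcan).principal hM (fun c => rfl) hb hθ (e := f) hf
  set o : IrrCharacter G := ⟨fun _ => 1, isIrrCharacter_one (G := G)⟩ with hodef
  have hoB : o ∈ principalBlock M G := mem_blockOf_self hp o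
  have hod : charDegree (o : G → ℂ) = 1 := by
    unfold charDegree
    change ⌊((1 : ℂ)).re⌋₊ = 1
    simp
  have hpr := D.prime
  have hp2 := D.prime.two_le
  have hoY : o ∉ Y := by
    intro h
    have h1 := hYd o h
    rw [hod] at h1
    rcases hε with rfl | rfl
    · rw [one_mul] at h1
      have h2 := (Int.modEq_iff_dvd).1 h1
      have h3 := Int.le_of_dvd (by push_cast; omega) h2
      push_cast at h3
      omega
    · have h2 := (Int.modEq_iff_dvd).1 h1.symm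
      have h3 := Int.le_of_dvd (by push_cast; omega) h2
      push_cast at h3
      omega
  set XX : Finset (IrrCharacter G) := Finset.univ.filter (fun χ => χ ∈ principalBlock M G ∧ χ ∉ Y) with hXX
  have hmXX : ∀ χ, χ ∈ XX ↔ χ ∈ principalBlock M G ∧ χ ∉ Y := fun χ => by simp [hXX]
  have hδo : δ o = 1 := by
    obtain ⟨h1, h2, -⟩ := hδ o hoB hoY
    rcases h1 with h1 | h1
    · exact h1
    · exfalso
      rw [hod, h1] at h2
      have h3 := (Int.modEq_iff_dvd).1 h2.symm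
      have h4 := Int.le_of_dvd (by norm_num) h3
      push_cast at h4
      omega
  have hval1 : ∀ χ ∈ XX, δ χ = 1 → charDegree (χ : G → ℂ) = 1 → χ = o := by
    intro χ hχ hχ1 hd
    obtain ⟨h1, h2, h3⟩ := hδ χ ((hmXX χ).1 hχ).1 ((hmXX χ).1 hχ).2
    have h4 := h3 1 (by
      rw [Nat.modEq_zero_iff_dvd]; intro h; exact D.prime.one_lt.ne' (Nat.dvd_one.1 h)) 1 (by
      rw [orderOf_one]; intro h; exact D.prime.one_lt.ne' (Nat.dvd_one.1 h))
    have h5 : (D.setTh oC hcan).x ^ 1 * ((1 : (D.setTh oC hcan).C) : G) = D.x := by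
      rw [Subgroup.coe_one, mul_one, pow_one]; rfl
    rw [h5, hχ1] at h4
    have h6 : (χ : G → ℂ) D.x = (χ : G → ℂ) 1 := by
      rw [h4, CfsgLib.CharInt.irr_one_eq_charDegree χ.2, hd]; simp
    obtain ⟨K, hKn, hK⟩ := exists_kernel (CfsgLib.CharBasic.irr_isCharacter χ.2)
    have h7 := hgen K hKn ((hK _).2 h6)
    apply Subtype.ext
    exact CfsgLib.Quot19.irr_eq_one_of_ker_top χ.2 (fun g => (hK g).1 (by rw [h7]; trivial))
  refine ⟨XX.filter (fun χ => δ χ = 1), XX.filter (fun χ => δ χ = -1), Y, ?_⟩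
  have hdecomp : ∀ χ ∈ XX, δ χ = 1 ∨ δ χ = -1 := fun χ hχ => (hδ χ ((hmXX χ).1 hχ).1 ((hmXX χ).1 hχ).2).1
  have hdisj : Disjoint (XX.filter (fun χ => δ χ = 1)) (XX.filter (fun χ => δ χ = -1)) := by
    rw [Finset.disjoint_filter]
    intro χ _ h1 h2
    rw [h1] at h2; norm_num at h2
  have hun : XX.filter (fun χ => δ χ = 1) ∪ XX.filter (fun χ => δ χ = -1) = XX := by
    rw [← Finset.filter_or]
    exact Finset.filter_true_of_mem hdecomp
  refine ⟨?_, ?_, hdisj, ?_, ?_, ?_, ?_, ?_, ?_, ?_, ?_, hYc, ⟨ε, hε, hYd, ?_⟩, hYreg⟩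
  · rw [← Finset.card_union_of_disjoint hdisj, hun]
    have h1 : Nat.card (principalBlock M G) = (Finset.univ.filter (fun χ : IrrCharacter G => χ ∈ principalBlock M G)).card := by
      rw [Nat.card_eq_fintype_card, Fintype.card_subtype]
    have h2 : Y ⊆ Finset.univ.filter (fun χ : IrrCharacter G => χ ∈ principalBlock M G) := by
      intro χ hχ
      rw [Finset.mem_filter]; exact ⟨Finset.mem_univ _, hYB χ hχ⟩
    have h3 : XX = (Finset.univ.filter (fun χ : IrrCharacter G => χ ∈ principalBlock M G)) \ Y := by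
      ext χ; rw [hmXX, Finset.mem_sdiff, Finset.mem_filter]; simp
    rw [h3, Finset.card_sdiff_of_subset h2, ← h1, hBc]
    omega
  · intro χ
    constructor
    · intro hχ
      by_cases hχY : χ ∈ Y
      · exact Or.inr (Or.inr hχY)
      · have h1 := (hmXX χ).2 ⟨hχ, hχY⟩
        rcases hdecomp χ h1 with h2 | h2
        · exact Or.inl (Finset.mem_filter.2 ⟨h1, h2⟩)
        · exact Or.inr (Or.inl (Finset.mem_filter.2 ⟨h1, h2⟩))
    · rintro (h1 | h1 | h1)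
      · exact ((hmXX χ).1 (Finset.mem_filter.1 h1).1).1
      · exact ((hmXX χ).1 (Finset.mem_filter.1 h1).1).1
      · exact hYB χ h1
  · intro χ hχ
    exact ⟨fun h => ((hmXX χ).1 (Finset.mem_filter.1 h).1).2 hχ, fun h => ((hmXX χ).1 (Finset.mem_filter.1 h).1).2 hχ⟩
  · exact Finset.mem_filter.2 ⟨(hmXX o).2 ⟨hoB, hoY⟩, hδo⟩
  · intro χ hχ hne
    rw [Finset.mem_filter] at hχ
    obtain ⟨h1, h2, -⟩ := hδ χ ((hmXX χ).1 hχ.1).1 ((hmXX χ).1 hχ.1).2
    have hpos : 0 < charDegree (χ : G → ℂ) := irr_charDegree_pos χ.2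
    have hne1 : charDegree (χ : G → ℂ) ≠ 1 := fun h => hne (hval1 χ hχ.1 hχ.2 h)
    rw [hχ.2] at h2
    have h3 := (Int.modEq_iff_dvd).1 h2.symm
    have h4 := Int.le_of_dvd (by push_cast; omega) h3
    omega
  · intro χ hχ
    rw [Finset.mem_filter] at hχ
    obtain ⟨h1, h2, -⟩ := hδ χ ((hmXX χ).1 hχ.1).1 ((hmXX χ).1 hχ.1).2
    rw [hχ.2] at h2; exact h2
  · intro χ hχ
    rw [Finset.mem_filter] at hχ
    obtain ⟨h1, h2, -⟩ := hδ χ ((hmXX χ).1 hχ.1).1 ((hmXX χ).1 hχ.1).2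
    have hpos : 0 < charDegree (χ : G → ℂ) := irr_charDegree_pos χ.2
    rw [hχ.2] at h2
    have h3 := (Int.modEq_iff_dvd).1 h2.symm
    have h4 := Int.le_of_dvd (by push_cast; omega) h3
    omega
  · intro χ hχ
    rw [Finset.mem_filter] at hχ
    obtain ⟨h1, h2, -⟩ := hδ χ ((hmXX χ).1 hχ.1).1 ((hmXX χ).1 hχ.1).2
    rw [hχ.2] at h2; exact h2
  · intro χ hχ j hj c hc
    rw [Finset.mem_filter] at hχ
    obtain ⟨h1, h2, h3⟩ := hδ χ ((hmXX χ).1 hχ.1).1 ((hmXX χ).1 hχ.1).2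
    have := h3 j hj c hc
    rw [hχ.2] at this; exact this
  · intro χ hχ j hj c hc
    rw [Finset.mem_filter] at hχ
    obtain ⟨h1, h2, h3⟩ := hδ χ ((hmXX χ).1 hχ.1).1 ((hmXX χ).1 hχ.1).2
    have := h3 j hj c hc
    rw [hχ.2] at this; exact this
  · intro ψ hψ g hg
    have h1 := hrel ψ hψ g hg
    rw [h1]
    have h2 : (Finset.univ.filter (fun χ : IrrCharacter G => χ ∈ principalBlock M G ∧ χ ∉ Y) : Finset (IrrCharacter G)) = XX := by
      rw [hXX]
    have h3 : ∑ χ ∈ XX, (δ χ : ℂ) * (χ : G → ℂ) g = (∑ χ ∈ XX.filter (fun χ => δ χ = 1), (χ : G → ℂ) g) -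
        ∑ χ ∈ XX.filter (fun χ => δ χ = -1), (χ : G → ℂ) g := by
      rw [← hun, Finset.sum_union hdisj, hun, sub_eq_add_neg, ← Finset.sum_neg_distrib]
      congr 1
      · refine Finset.sum_congr rfl fun χ hχ => ?_
        rw [(Finset.mem_filter.1 hχ).2]; simp
      · refine Finset.sum_congr rfl fun χ hχ => ?_
        rw [(Finset.mem_filter.1 hχ).2]; simp
    rw [← h3]

/-- the inequalities -/
theorem counts (hM : IsPModular p M) {D : Dat p G} [Fintype D.C] {ψ : IrrCharacter G} {e f : ℕ} (hs : Small D ψ e)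
    (hn : 2 * charDegree (ψ : G → ℂ) ≤ p) {Xp Xm Y : Finset (IrrCharacter G)} (hX : PX M D f Xp Xm Y)
    {ψ' : IrrCharacter G} (hψ' : ψ' ∈ cls D.h ψ) (hne : ψ' ≠ ψ) :
    (∑ χ ∈ Xp, charDegree (χ : G → ℂ) ≤ D.Orb.card * (e * e)) ∧ (∑ χ ∈ Xm, charDegree (χ : G → ℂ) ≤ D.Orb.card * (e * e)) ∧
      (∀ χ ∈ Xp, classInner (fun y => (ψ : G → ℂ) y * conj ((ψ : G → ℂ) y)) (χ : G → ℂ) ≠ 0) ∧
      (∀ χ ∈ Xm, classInner (fun y => (ψ' : G → ℂ) y * conj ((ψ : G → ℂ) y)) (χ : G → ℂ) ≠ 0) := by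
  classical
  have hnat : ∀ ψ1 : IrrCharacter G, ∀ χ : IrrCharacter G, ∃ n : ℕ,
      classInner (fun y => (ψ1 : G → ℂ) y * conj ((ψ : G → ℂ) y)) (χ : G → ℂ) = n := by
    intro ψ1 χ
    obtain ⟨m, hm, -, -⟩ := char_expand (isCharacter_mul (CfsgLib.CharBasic.irr_isCharacter ψ1.2)
      (isCharacter_conj (CfsgLib.CharBasic.irr_isCharacter ψ.2)))
    exact ⟨m χ, hm χ⟩
  have hp1 : ∀ χ ∈ Xp, classInner (fun y => (ψ : G → ℂ) y * conj ((ψ : G → ℂ) y)) (χ : G → ℂ) ≠ 0 := by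
    intro χ hχ
    rw [D.diff_inner (hX.valp χ hχ) hψ' hne]
    obtain ⟨n, hn⟩ := hnat ψ' χ
    rw [hn]
    have : (n : ℂ) + ((1 : ℤ) : ℂ) = ((n + 1 : ℕ) : ℂ) := by push_cast; ring
    rw [this]
    exact_mod_cast Nat.succ_ne_zero n
  have hm1 : ∀ χ ∈ Xm, classInner (fun y => (ψ' : G → ℂ) y * conj ((ψ : G → ℂ) y)) (χ : G → ℂ) ≠ 0 := by
    intro χ hχ
    have h1 := D.diff_inner (hX.valm χ hχ) hψ' hne
    obtain ⟨n, hn⟩ := hnat ψ χ
    rw [hn] at h1
    have h2 : classInner (fun y => (ψ' : G → ℂ) y * conj ((ψ : G → ℂ) y)) (χ : G → ℂ) = ((n + 1 : ℕ) : ℂ) := by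
      push_cast at h1 ⊢
      linear_combination -h1
    rw [h2]
    exact_mod_cast Nat.succ_ne_zero n
  refine ⟨?_, ?_, hp1, hm1⟩
  · exact D.sum_le hM (self_mem_cls D.h ψ) hn hs.norm Xp (fun χ hχ => ⟨(hX.mem χ).2 (Or.inl hχ), hp1 χ hχ⟩)
  · exact D.sum_le hM hψ' hn hs.norm Xm (fun χ hχ => ⟨(hX.mem χ).2 (Or.inr (Or.inl hχ)), hm1 χ hχ⟩)

/-- lower bounds for the sums -/
theorem PX.sum_p {D : Dat p G} {f : ℕ} {Xp Xm Y : Finset (IrrCharacter G)} (hX : PX M D f Xp Xm Y) :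
    1 + (Xp.card - 1) * (p + 1) ≤ ∑ χ ∈ Xp, charDegree (χ : G → ℂ) := by
  classical
  have hod : charDegree ((⟨fun _ => 1, isIrrCharacter_one (G := G)⟩ : IrrCharacter G) : G → ℂ) = 1 := by
    unfold charDegree
    change ⌊((1 : ℂ)).re⌋₊ = 1
    simp
  rw [← Finset.add_sum_erase _ _ hX.one, hod, ← Finset.card_erase_of_mem hX.one, ← smul_eq_mul, ← Finset.sum_const]
  refine Nat.add_le_add_left (Finset.sum_le_sum fun χ hχ => ?_) 1
  rw [Finset.mem_erase] at hχ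
  exact hX.degp χ hχ.2 hχ.1

theorem PX.sum_m {D : Dat p G} {f : ℕ} {Xp Xm Y : Finset (IrrCharacter G)} (hX : PX M D f Xp Xm Y) :
    Xm.card * (p - 1) ≤ ∑ χ ∈ Xm, charDegree (χ : G → ℂ) := by
  classical
  rw [← smul_eq_mul, ← Finset.sum_const]
  exact Finset.sum_le_sum fun χ hχ => hX.degm χ hχ

theorem numer {p f t u v K : ℕ} (h1 : t * f = p - 1) (hp : 2 ≤ p) (ht : 3 ≤ t) (huv : u + v = f) (hu : 1 ≤ u) (hf : 2 ≤ f)
    (hK : K ≤ f * f) (h2 : 1 + (u - 1) * (p + 1) ≤ K) (h3 : v * (p - 1) ≤ K) : False := by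
  have hpp : p = t * f + 1 := by omega
  have h4 : 3 * v ≤ f := by
    have h5 : f * (3 * v) ≤ f * f := by
      calc f * (3 * v) ≤ f * (t * v) := Nat.mul_le_mul_left _ (Nat.mul_le_mul_right _ ht)
        _ = v * (t * f) := by ring
        _ = v * (p - 1) := by rw [h1]
        _ ≤ f * f := h3.trans hK
    exact Nat.le_of_mul_le_mul_left h5 (by omega)
  have h5 : 3 * (u - 1) < f := by
    have h6 : f * (3 * (u - 1)) < f * f := by
      calc f * (3 * (u - 1)) ≤ f * (t * (u - 1)) := Nat.mul_le_mul_left _ (Nat.mul_le_mul_right _ ht)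
        _ = (u - 1) * (t * f) := by ring
        _ ≤ (u - 1) * (p + 1) := Nat.mul_le_mul_left _ (by omega)
        _ < 1 + (u - 1) * (p + 1) := by omega
        _ ≤ f * f := h2.trans hK
    exact Nat.lt_of_mul_lt_mul_left h6
  omega

/-- **Brauer**: characters of small degree -/
theorem core_small (h : Once p G) (hM : IsPModular p M) {x : G} (hx : orderOf x = p)
    (hgen : ∀ N : Subgroup G, N.Normal → x ∈ N → N = ⊤) (ψ : IrrCharacter G) (hdeg : 2 * charDegree (ψ : G → ℂ) + 1 < p) :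
    ‖(ψ : G → ℂ) x‖ = charDegree (ψ : G → ℂ) := by
  classical
  haveI : Fact p.Prime := ⟨h.prime⟩
  have hp := isPrime_of_modular hM
  have hdpos : 0 < charDegree (ψ : G → ℂ) := irr_charDegree_pos ψ.2
  by_cases hc : cls h ψ = {ψ}
  · have hnd : ¬ p ∣ charDegree (ψ : G → ℂ) := fun h1 => by
      have := Nat.le_of_dvd hdpos h1; omega
    obtain ⟨D, hDx, -⟩ := exists_dat hM h hx (B := blockOf M (ψ : G → ℂ)) ⟨ψ, rfl⟩ (mem_blockOf_self hp ψ) hnd
    letI : Fintype D.C := Fintype.ofFinite _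
    have h1 := D.rational_ker (χ := ψ) hc (by omega)
    rw [hDx] at h1
    rw [h1, CfsgLib.CharInt.irr_one_eq_charDegree ψ.2]; simp
  · obtain ⟨D, hDx, e, hs⟩ := exists_small hM h hx hc (by omega)
    letI : Fintype D.C := Fintype.ofFinite _
    have hs := hs inferInstance
    have hθpos : 0 < charDegree (D.th : D.C → ℂ) := irr_charDegree_pos D.th.2
    have hOpos : 0 < D.Orb.card := Finset.card_pos.2 ⟨D.th, D.th_mem_Orb⟩
    by_cases hf1 : D.Orb.card * e = 1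
    · rw [← hDx]; exact hs.scalar hM hf1
    · exfalso
      set f := D.Orb.card * e with hfdef
      have hf2 : 2 ≤ f := by
        have : 0 < f := Nat.mul_pos hOpos hs.pos
        omega
      have hfle : f ≤ charDegree (ψ : G → ℂ) := by
        rw [hs.deg]; exact Nat.le_mul_of_pos_right _ hθpos
      obtain ⟨Xp, Xm, Y, hX⟩ := exists_PX hM D (f := f) hs.orb.symm (by rw [hDx]; exact hgen) hf2 (by omega)
      -- another member of the class
      obtain ⟨ψ', hψ', hne⟩ : ∃ ψ' ∈ cls D.h ψ, ψ' ≠ ψ := by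
        by_contra hcon
        push Not at hcon
        apply hc
        ext a
        rw [Finset.mem_singleton]
        exact ⟨fun ha => hcon a ha, fun ha => by rw [ha]; exact self_mem_cls h ψ⟩
      obtain ⟨hc1, hc2, -, -⟩ := counts hM hs (by omega) hX hψ' hne
      have hY3 : 3 ≤ Y.card := by
        by_contra hcon
        have h1 := hX.cardY
        have h2 : Y.card * f ≤ 2 * f := Nat.mul_le_mul_right _ (by omega)
        omega
      have hKle : D.Orb.card * (e * e) ≤ f * f := by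
        rw [hfdef]
        calc D.Orb.card * (e * e) = (D.Orb.card * 1) * (e * e) := by ring
          _ ≤ (D.Orb.card * D.Orb.card) * (e * e) := Nat.mul_le_mul_right _ (Nat.mul_le_mul_left _ hOpos)
          _ = _ := by ring
      exact numer hX.cardY h.prime.two_le hY3 hX.card (Finset.card_pos.2 ⟨_, hX.one⟩) hf2 hKle
        (hX.sum_p.trans hc1) (hX.sum_m.trans hc2)

end CfsgLib.Once19
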