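import Mathlib
import Cfsg.Agent.EqBase
import Cfsg.Agent.LibNagG19
import Cfsg.Agent.LibHall19

set_option autoImplicit false
set_option maxHeartbeats 400000
set_option linter.unusedSectionVars false
set_option linter.style.haveILetI false

/-! Characters of small degree, IV: Brauer's theorem. -/

namespace CfsgLib.Once19

open CfsgLib.CharInt hiding irr_isCharacter irr_classFun irr_one_ne_zero schur_scalar
open Cfsg CfsgLib.CharInt2 CfsgLib.CharBasic CfsgLib.BlockR CfsgLib.BlockCore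
  CfsgLib.BlockIdem CfsgLib.BlockIdeal CfsgLib.BlockConj CfsgLib.BlockBrauer CfsgLib.BlockInd
  CfsgLib.BlockFMT CfsgLib.BlockFMT2 CfsgLib.BlockOrth CfsgLib.BlockDefect
  CfsgLib.BlockReg CfsgLib.BlockReg2 CfsgLib.BlockCount CfsgLib.BlockCount2 CfsgLib.BlockQP
  CfsgLib.BlockCov3 CfsgLib.BlockCov4 CfsgLib.BlockSec CfsgLib.BlockSec3 CfsgLib.CharNorm CfsgLib.Ur
open scoped ComplexConjugate

universe u
variable {p : ℕ} {G : Type u} [Group G] [Finite G]

/-- the subgroup generated by the conjugates of an element of order `p` -/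
theorem hgen_closure (h : Once p G) {x : G} (hx : orderOf x = p) :
    Once p (Subgroup.normalClosure ({x} : Set G)) ∧
    ∀ N : Subgroup (Subgroup.normalClosure ({x} : Set G)), N.Normal →
      (⟨x, Subgroup.subset_normalClosure (Set.mem_singleton x)⟩ : Subgroup.normalClosure ({x} : Set G)) ∈ N → N = ⊤ := by
  haveI : Fact p.Prime := ⟨h.prime⟩
  set K := Subgroup.normalClosure ({x} : Set G) with hK
  have hxK : x ∈ K := Subgroup.subset_normalClosure (Set.mem_singleton x)
  have hO : Once p K := by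
    refine ⟨h.prime, ?_, fun h1 => h.sq (h1.trans (Subgroup.card_subgroup_dvd_card K))⟩
    have h1 : orderOf (⟨x, hxK⟩ : K) = p := by rw [← Subgroup.orderOf_coe]; exact hx
    have h2 := orderOf_dvd_natCard (⟨x, hxK⟩ : K)
    rwa [h1] at h2
  refine ⟨hO, fun N hN hxN => ?_⟩
  letI := Fintype.ofFinite K
  haveI : N.Normal := hN
  have hxo : orderOf (⟨x, hxK⟩ : K) = p := by rw [← Subgroup.orderOf_coe]; exact hx
  -- all conjugates
  have h1 : ∀ g : G, ∀ hg : g * x * g⁻¹ ∈ K, (⟨_, hg⟩ : K) ∈ N := by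
    intro g hg
    have ho : orderOf (⟨g * x * g⁻¹, hg⟩ : K) = p := by
      rw [← Subgroup.orderOf_coe]
      change orderOf (g * x * g⁻¹) = p
      rw [← hx]
      exact (MulAut.conj g).orderOf_eq x
    obtain ⟨t, ht⟩ := conj_zpowers hO hxo ho
    obtain ⟨j, hj⟩ := Subgroup.mem_zpowers_iff.1 ht
    have h2 : (⟨g * x * g⁻¹, hg⟩ : K) = t⁻¹ * ((⟨x, hxK⟩ : K) ^ j) * t⁻¹⁻¹ := by
      rw [hj]; group
    rw [h2]
    exact hN.conj_mem _ (N.zpow_mem hxN j) _
  have h2 : K ≤ N.map K.subtype := by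
    refine (Subgroup.closure_le _).2 ?_
    intro y hy
    rw [Group.mem_conjugatesOfSet_iff] at hy
    obtain ⟨a, ha, hay⟩ := hy
    rw [Set.mem_singleton_iff] at ha
    subst ha
    obtain ⟨g, hg⟩ := isConj_iff.1 hay
    have hyK : y ∈ K := by
      rw [← hg]
      exact (Subgroup.normalClosure_normal).conj_mem _ hxK g
    refine ⟨⟨y, hyK⟩, ?_, rfl⟩
    have h3 : (⟨y, hyK⟩ : K) = ⟨g * a * g⁻¹, by rw [hg]; exact hyK⟩ := Subtype.ext hg.symm
    rw [h3]
    exact h1 g _
  rw [eq_top_iff]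
  intro y _
  obtain ⟨z, hz, hzy⟩ := h2 y.2
  have : z = y := Subtype.ext hzy
  rw [← this]; exact hz

/-- a central subgroup of order `p` in the normal closure gives a normal subgroup -/
theorem normal_of_central (h : Once p G) {x : G} (hx : orderOf x = p)
    (hc : ∀ g : Subgroup.normalClosure ({x} : Set G), (g : G) * x = x * g) : (Subgroup.zpowers x).Normal := by
  haveI : Fact p.Prime := ⟨h.prime⟩
  obtain ⟨hO, -⟩ := hgen_closure h hx
  set K := Subgroup.normalClosure ({x} : Set G) with hK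
  have hxK : x ∈ K := Subgroup.subset_normalClosure (Set.mem_singleton x)
  letI := Fintype.ofFinite K
  have hxo : orderOf (⟨x, hxK⟩ : K) = p := by rw [← Subgroup.orderOf_coe]; exact hx
  constructor
  intro n hn g
  obtain ⟨k, rfl⟩ := Subgroup.mem_zpowers_iff.1 hn
  rw [← conj_zpow]
  apply Subgroup.zpow_mem
  have hgK : g * x * g⁻¹ ∈ K := (Subgroup.normalClosure_normal).conj_mem _ hxK g
  have ho : orderOf (⟨g * x * g⁻¹, hgK⟩ : K) = p := by
    rw [← Subgroup.orderOf_coe]
    change orderOf (g * x * g⁻¹) = p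
    rw [← hx]
    exact (MulAut.conj g).orderOf_eq x
  obtain ⟨t, ht⟩ := conj_zpowers hO hxo ho
  obtain ⟨j, hj⟩ := Subgroup.mem_zpowers_iff.1 ht
  have h1 : (t : G) * (g * x * g⁻¹) * (t : G)⁻¹ = x ^ j := by
    have := congrArg Subtype.val hj
    rw [Subgroup.coe_zpow] at this
    exact this.symm
  have h2 : g * x * g⁻¹ = (t : G)⁻¹ * x ^ j * t := by
    rw [← h1]; group
  rw [h2]
  have h3 : Commute (t : G) x := hc t
  have h4 : (t : G)⁻¹ * x ^ j * t = x ^ j := by
    rw [mul_assoc, ← (h3.zpow_right j).eq, inv_mul_cancel_left]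
  rw [h4]
  exact Subgroup.zpow_mem _ (Subgroup.mem_zpowers x) j

/-- `x` central in a group with all constituents scalar on `x` -/
theorem central_of_scalars {χ : G → ℂ} (hχ : IsCharacter G χ) (hf : ∀ g : G, χ g = χ 1 → g = 1) {x : G}
    [Fintype G] (hs : ∀ ψ : IrrCharacter G, classInner χ (ψ : G → ℂ) ≠ 0 → ‖(ψ : G → ℂ) x‖ = charDegree (ψ : G → ℂ)) (g : G) :
    g * x = x * g := by
  have h1 : x * g * x⁻¹ * g⁻¹ = 1 := by
    apply hf
    apply CfsgLib.Hall19.eq_of_constituents hχ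
    intro ψ hψ
    have hψ0 : (ψ : G → ℂ) 1 ≠ 0 := CfsgLib.CharInt.irr_one_ne_zero ψ.2
    have hre : ((ψ : G → ℂ) 1).re = charDegree (ψ : G → ℂ) := by
      rw [CfsgLib.CharInt.irr_one_eq_charDegree ψ.2]; simp
    have hsc := fun y => char_mul_of_scalar (CfsgLib.CharBasic.irr_isCharacter ψ.2) hψ0 (g := x) (by rw [hs ψ hψ, hre]) y
    have h2 : x * g * x⁻¹ * g⁻¹ = x * (g * x⁻¹ * g⁻¹) := by group
    rw [h2, hsc, CfsgLib.CharInt.irr_classFun ψ.2]
    have h3 := hsc x⁻¹
    rw [mul_inv_cancel] at h3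
    exact h3.symm
  have h2 : x * g = (x * g * x⁻¹ * g⁻¹) * (g * x) := by group
  rw [h2, h1, one_mul]

/-- S4503 -/
theorem s4503 (p : ℕ) [hp : Fact p.Prime] (hdiv : p ∣ Nat.card G) (hsq : ¬ p ^ 2 ∣ Nat.card G)
    (hnn : ∀ H : Subgroup G, H.Normal → Nat.card H ≠ p) {χ : G → ℂ} (hχ : IsCharacter G χ)
    (hfaith : ∀ g : G, χ g = χ 1 → g = 1) : p ≤ 2 * charDegree χ + 1 := by
  classical
  by_contra hlt
  push Not at hlt
  letI := Fintype.ofFinite G
  have h : Once p G := ⟨hp.out, hdiv, hsq⟩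
  obtain ⟨x, hx⟩ := exists_x h
  obtain ⟨hO, hgen⟩ := hgen_closure h hx
  set K := Subgroup.normalClosure ({x} : Set G) with hK
  have hxK : x ∈ K := Subgroup.subset_normalClosure (Set.mem_singleton x)
  letI : Fintype K := Fintype.ofFinite K
  have hxo : orderOf (⟨x, hxK⟩ : K) = p := by rw [← Subgroup.orderOf_coe]; exact hx
  have hχK : IsCharacter K (fun y : K => χ y) := isCharacter_restrict hχ K
  have hfK : ∀ g : K, (fun y : K => χ y) g = (fun y : K => χ y) 1 → g = 1 := CfsgLib.Hall19.restrict_faithful hfaith K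
  have hdK : charDegree (fun y : K => χ y) = charDegree χ := CfsgLib.Hall19.restrict_degree K
  obtain ⟨M, hM⟩ := CfsgLib.BlockReg2.exists_modular p hp.out
  have hcen : ∀ g : K, (g : G) * x = x * g := by
    intro g
    have h1 := central_of_scalars hχK hfK (x := ⟨x, hxK⟩) (fun ψ hψ => by
      apply core_small hO hM hxo hgen
      have hle : charDegree (ψ : K → ℂ) ≤ charDegree (fun y : K => χ y) :=
        CfsgLib.CharMore.degree_le_of_mult hχK ψ.2 hψ (CfsgLib.CharInt.irr_one_eq_charDegree ψ.2) (CfsgLib.Hall19.deg_eq (χ := fun y : K => χ y) hχK)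
      omega) g
    exact congrArg Subtype.val h1
  have hn := normal_of_central h hx hcen
  apply hnn _ hn
  rw [Nat.card_zpowers, hx]

end CfsgLib.Once19
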