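import Mathlib
import Cfsg.Agent.EqBase
import Cfsg.Agent.LibBR11i
import Cfsg.Agent.S4503

/-! Groups with a Sylow subgroup of order `p`: the normaliser of `E` and the first case (seat helper11). -/

set_option autoImplicit false
set_option linter.all false

namespace CfsgLib.BR11

open Subgroup Cfsg CfsgLib.CharBasic
open scoped ComplexConjugate

universe u

section
variable {G : Type u} [Group G] [Fintype G] {p : ℕ} [hp : Fact p.Prime]
variable {n e t a b d : ℕ} {P E : Subgroup G} {A B Y : Finset (IrrCharacter G)}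

theorem card_sub_eq {α : Type*} [Finite α] {p q : α → Prop} (h : ∀ x, p x → q x) (hc : Nat.card {x // q x} ≤ Nat.card {x // p x}) (x : α) (hx : q x) : p x := by
  classical
  have h1 : {x | p x} = {x | q x} := Set.eq_of_subset_of_ncard_le (fun x hx => h x hx) (by
    rw [← Nat.card_coe_set_eq, ← Nat.card_coe_set_eq]; exact hc) (Set.toFinite _)
  have h2 : x ∈ {x | q x} := hx
  rw [← h1] at h2
  exact h2

theorem Cfg.exists_gen (h : Cfg p n e t a b d P E A B Y) : ∃ g ∈ E, g ≠ 1 ∧ (∀ s ∈ E, ∃ k : ℤ, s = g ^ k) ∧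
    ∀ x : G, x * g * x⁻¹ ∈ E ↔ x ∈ normalizer (E : Set G) := by
  haveI := h.cyc
  obtain ⟨g0, hg0⟩ := IsCyclic.exists_generator (α := E)
  have hgen : ∀ s ∈ E, ∃ k : ℤ, s = (g0 : G) ^ k := by
    intro s hs
    obtain ⟨k, hk⟩ := mem_zpowers_iff.1 (hg0 ⟨s, hs⟩)
    exact ⟨k, by rw [← Subgroup.coe_zpow, hk]⟩
  refine ⟨g0, g0.2, ?_, hgen, ?_⟩
  · intro h1
    have h2 : E = ⊥ := by
      rw [eq_bot_iff]
      intro s hs
      obtain ⟨k, hk⟩ := hgen s hs
      rw [h1, one_zpow] at hk
      rw [hk]; exact one_mem _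
    have h3 := h.cE
    rw [h2, card_bot] at h3
    have := h.e2
    omega
  · intro x
    constructor
    · intro hx
      have h1 : ∀ s ∈ E, x * s * x⁻¹ ∈ E := by
        intro s hs
        obtain ⟨k, hk⟩ := hgen s hs
        have e1 : x * s * x⁻¹ = (x * g0 * x⁻¹) ^ k := by rw [hk, conj_zpow]
        rw [e1]; exact zpow_mem hx k
      rw [mem_normalizer_iff]
      intro s
      refine ⟨h1 s, fun h2 => ?_⟩
      have hmap : E.map (MulAut.conj x).toMonoidHom = E := by
        apply Subgroup.eq_of_le_of_card_ge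
        · rintro _ ⟨s, hs, rfl⟩
          exact h1 s hs
        · rw [Subgroup.card_map_of_injective (MulAut.conj x).injective]
      rw [← hmap] at h2
      obtain ⟨s', hs', he'⟩ := h2
      have h3 : x * s' * x⁻¹ = x * s * x⁻¹ := he'
      have h4 : s' = s := by
        have := mul_right_cancel h3
        exact mul_left_cancel this
      rw [← h4]; exact hs'
    · intro hx
      exact (mem_normalizer_iff.1 hx g0).1 g0.2

theorem Cfg.card_norm (h : Cfg p n e t a b d P E A B Y) : Nat.card (normalizer (E : Set G)) = e * (n + 1) := by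
  obtain ⟨g, hg, hg1, -, hx⟩ := h.exists_gen
  rw [← h.fix hg hg1]
  exact Nat.card_congr ⟨fun x => ⟨x, (hx x).2 x.2⟩, fun x => ⟨x, (hx x).1 x.2⟩, fun x => rfl, fun x => rfl⟩

theorem Cfg.mem_norm (h : Cfg p n e t a b d P E A B Y) {s : G} (hs : s ∈ E) (hs1 : s ≠ 1) (x : G) :
    x * s * x⁻¹ ∈ E ↔ x ∈ normalizer (E : Set G) := by
  constructor
  · refine card_sub_eq (p := fun x => x ∈ normalizer (E : Set G)) (q := fun x => x * s * x⁻¹ ∈ E) ?_ ?_ x
    · intro x hx
      exact (mem_normalizer_iff.1 hx s).1 hs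
    · rw [h.fix hs hs1]
      exact h.card_norm.ge
  · intro hx
    exact (mem_normalizer_iff.1 hx s).1 hs

theorem Cfg.dvd_p1 (h : Cfg p n e t a b d P E A B Y) (hlt : n + 1 < p) : n + 1 ∣ e * t := by
  have h1 : Nat.card (normalizer (E : Set G)) ∣ Nat.card G := Subgroup.card_subgroup_dvd_card _
  rw [h.card_norm, h.cG, mul_comm p e, mul_assoc] at h1
  have h2 : n + 1 ∣ p * (1 + n * p) := Nat.dvd_of_mul_dvd_mul_left h.e0 h1
  have hcop : Nat.Coprime (n + 1) p := by
    rw [Nat.coprime_comm, Nat.Prime.coprime_iff_not_dvd hp.out]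
    exact fun hd => absurd (Nat.le_of_dvd (by omega) hd) (by omega)
  have h3 : n + 1 ∣ 1 + n * p := hcop.dvd_of_dvd_mul_left h2
  have h4 : (n + 1) * p = (1 + n * p) + e * t := by
    have := h.et
    nlinarith
  exact (Nat.dvd_add_right h3).1 (h4 ▸ dvd_mul_right _ _)

theorem Cfg.not_normal (h : Cfg p n e t a b d P E A B Y) (P' : Sylow p G) (hPP : (P' : Subgroup G) = P) (hn : Nat.card (Sylow p G) = 1 + n * p)
    (H : Subgroup G) (hH : H.Normal) : Nat.card H ≠ p := by
  intro hc
  have hHp : IsPGroup p H := IsPGroup.of_card (n := 1) (by rw [hc, pow_one])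
  have h1 : H = P' := by
    obtain ⟨Q, hQ⟩ := hHp.exists_le_sylow
    have hQc : Nat.card Q = p := by
      apply sylow_card P' Q
      rw [hPP]; exact h.cP
    have h2 : H = Q := Subgroup.eq_of_le_of_card_ge hQ (by rw [hc, hQc])
    obtain ⟨g, hg⟩ := MulAction.exists_smul_eq G Q P'
    rw [← hg, Sylow.coe_subgroup_smul, ← h2]
    exact (Subgroup.Normal.conj_smul_eq_self g H).symm
  haveI : (P' : Subgroup G).Normal := h1 ▸ hH
  have h3 : Nat.card (Sylow p G) = 1 := by
    haveI := Sylow.unique_of_normal P' this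
    exact Nat.card_unique
  have h4 := h.n1
  have h5 := hp.out.pos
  rw [hn] at h3
  have : 0 < n * p := Nat.mul_pos (by omega) h5
  omega

theorem Cfg.case2 (h : Cfg p n e t a b d P E A B Y) (hcore : pPrimeCore p G = ⊥) (P' : Sylow p G) (hPP : (P' : Subgroup G) = P)
    (hn : Nat.card (Sylow p G) = 1 + n * p)
    (hd : d = e) (hS : ∀ χ ∈ Y, SP P (χ : G → ℂ) = -(e : ℂ)) (ha : a * (n + 1) + 1 = e) : n = 1 ∧ t = 2 := by
  have hpp := hp.out
  have he2 := h.e2
  have hn1 := h.n1
  have het := h.et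
  have ht0 := h.t0
  have ha1 : 1 ≤ a := by
    rw [Nat.one_le_iff_ne_zero]; rintro rfl; omega
  have h1 : n + 1 < p := by nlinarith
  have h2 := h.dvd_p1 h1
  have hcop : Nat.Coprime (n + 1) e := by
    rw [← ha]
    exact (Nat.coprime_mul_right_add_right _ _ _).2 (Nat.coprime_one_right _)
  have h3 : n + 1 ∣ t := hcop.dvd_of_dvd_mul_left h2
  obtain ⟨θ, hθ⟩ : Y.Nonempty := by rw [← Finset.card_pos, h.cY]; exact ht0
  have h4 := Cfsg.Agent.S4503.result p hpp (by rw [h.cG, mul_assoc]; exact dvd_mul_right _ _) (by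
    rw [h.cG, sq, mul_assoc]
    intro hdv
    have h5 : p ∣ e * (1 + n * p) := Nat.dvd_of_mul_dvd_mul_left hpp.pos hdv
    rcases (Nat.Prime.dvd_mul hpp).1 h5 with h6 | h6
    · exact absurd (Nat.le_of_dvd h.e0 h6) (by nlinarith)
    · have h7 : p ∣ 1 := (Nat.dvd_add_left (dvd_mul_left p n)).1 h6
      exact absurd (Nat.dvd_one.1 h7) hpp.one_lt.ne') (h.not_normal P' hPP hn) (θ : G → ℂ) (irr_isCharacter θ.2) (by
    intro g hg
    obtain ⟨K, hK, hKm⟩ := exists_kernel (irr_isCharacter θ.2)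
    by_cases hpK : p ∣ Nat.card K
    · exfalso
      obtain ⟨k, hk⟩ := exists_prime_orderOf_dvd_card' p hpK
      have hk' : orderOf (k : G) = p := by rw [Subgroup.orderOf_coe]; exact hk
      have hIs : IsPGroup p (zpowers (k : G)) := by
        apply IsPGroup.of_card (n := 1)
        rw [Nat.card_zpowers, hk', pow_one]
      obtain ⟨Q, hQ⟩ := hIs.exists_le_sylow
      obtain ⟨g', hg'⟩ := MulAction.exists_smul_eq G Q P'
      have hkQ : (k : G) ∈ (Q : Subgroup G) := hQ (mem_zpowers _)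
      have hkP : g' * k * g'⁻¹ ∈ P := by
        rw [← hPP, ← hg', Sylow.coe_subgroup_smul]
        exact Subgroup.smul_mem_pointwise_smul _ (MulAut.conj g') _ hkQ
      have hne : g' * k * g'⁻¹ ≠ 1 := by
        intro h
        rw [conj_eq_one_iff] at h
        rw [h, orderOf_one] at hk'
        exact hpp.one_lt.ne hk'
      have hkK : g' * k * g'⁻¹ ∈ K := hK.conj_mem k k.2 g'
      have hPK : P ≤ K := by
        rw [← zpowers_eq h.cP hkP hne, zpowers_le]; exact hkK
      have hS2 := SP_const P h.cP (χ := (θ : G → ℂ)) (c := (d : ℂ)) (fun x hx _ => by rw [← h.degY θ hθ]; exact (hKm x).1 (hPK hx))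
      rw [hS θ hθ, hd] at hS2
      have h5 : (((p - 1) * e + e : ℕ) : ℂ) = 0 := by push_cast; rw [← hS2]; ring
      rw [Nat.cast_eq_zero] at h5
      omega
    · have hle : K ≤ pPrimeCore p G := CfsgLib.Cores.le_pPrimeCore hK ((Nat.Prime.coprime_iff_not_dvd hpp).2 hpK).symm
      rw [hcore, le_bot_iff] at hle
      have : g ∈ K := (hKm g).2 hg
      rwa [hle, mem_bot] at this)
  have h5 : charDegree (θ : G → ℂ) = e := by
    have h6 := CfsgLib.CharInt.irr_one_eq_charDegree θ.2
    rw [h.degY θ hθ, hd] at h6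
    exact_mod_cast h6.symm
  rw [h5] at h4
  have h6 : t ≤ 2 := by
    by_contra hne
    have : 3 ≤ t := by omega
    nlinarith
  have h7 := Nat.le_of_dvd ht0 h3
  omega

end
end CfsgLib.BR11
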