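import Mathlib
import Cfsg.Agent.EqBase
import Cfsg.Agent.LibBR11j

/-! Groups with a Sylow subgroup of order `p`: the second case (seat helper11). -/

set_option autoImplicit false
set_option linter.all false

namespace CfsgLib.BR11

open Subgroup Cfsg CfsgLib.CharBasic
open scoped ComplexConjugate

universe u

section
variable {G : Type u} [Group G] [Fintype G] {p : ℕ} [hp : Fact p.Prime]
variable {n e t a b d : ℕ} {P E : Subgroup G} {A B Y : Finset (IrrCharacter G)}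

/-- numbers in the second case -/
theorem Cfg.nums2 (h : Cfg p n e t a b d P E A B Y) (ha : (a * t + 1) * (n + 1) + t = t * e) (htd : t * d = 1 + n * p) :
    n + 1 = t ∧ e = a * t + 2 ∧ d + e = p := by
  have hpp := hp.out
  have he2 := h.e2
  have hn1 := h.n1
  have het := h.et
  have ht0 := h.t0
  have h1 : t ∣ n + 1 := by
    have h2 : t ∣ (a * t + 1) * (n + 1) := (Nat.dvd_add_left (dvd_refl t)).1 (by rw [ha]; exact dvd_mul_right _ _)
    have hcop : Nat.Coprime t (a * t + 1) := (Nat.coprime_mul_right_add_right _ _ _).2 (Nat.coprime_one_right _)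
    exact hcop.dvd_of_dvd_mul_left h2
  obtain ⟨f, hf⟩ := h1
  have hfe : (a * t + 1) * f + 1 = e := by
    apply Nat.eq_of_mul_eq_mul_left ht0
    rw [← ha, hf]; ring
  have hf0 : 0 < f := by
    rw [Nat.pos_iff_ne_zero]; rintro rfl
    rw [mul_zero] at hf; omega
  have hlt : n + 1 < p := by
    rw [hf, ← het]
    have : f < e := by nlinarith [Nat.zero_le (a * t * f)]
    have : t * f ≤ t * e := Nat.mul_le_mul_left _ this.le
    nlinarith
  have h2 := h.dvd_p1 hlt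
  rw [hf, mul_comm e] at h2
  have h3 : f ∣ e := Nat.dvd_of_mul_dvd_mul_left ht0 h2
  have h4 : f ∣ 1 := by
    rw [← hfe] at h3
    exact (Nat.dvd_add_right (dvd_mul_left f _)).1 h3
  have h5 : f = 1 := Nat.dvd_one.1 h4
  subst h5
  rw [mul_one] at hf hfe
  refine ⟨hf, by omega, ?_⟩
  apply Nat.eq_of_mul_eq_mul_left ht0
  rw [mul_add, htd]
  have : n * p + p = t * p := by rw [← hf]; ring
  nlinarith

theorem Cfg.B_zero (h : Cfg p n e t a b d P E A B Y) {χ : IrrCharacter G} (hχ : χ ∈ B) {s : G} (hs : s ∈ E) (hs1 : s ≠ 1) :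
    (χ : G → ℂ) s = 0 := by
  letI : Fintype E := Fintype.ofFinite _
  obtain ⟨c, m, hc, hm, hcm⟩ := h.exists_num
  have h1 := char_zero (h.char (χ : G → ℂ) (irr_isCharacter χ.2)) (by rw [hm, h.m_B hm hχ, Nat.cast_zero]) ⟨s, hs⟩
  rwa [phi_ne _ (fun h0 => hs1 (congrArg Subtype.val h0))] at h1

/-- the relation on `E` -/
theorem Cfg.kappa (h : Cfg p n e t a b d P E A B Y) (htd : t * d = 1 + n * p) {θ : IrrCharacter G} (hθ : θ ∈ Y) {s : G} (hs : s ∈ E) (hs1 : s ≠ 1) :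
    1 + ∑ χ ∈ A, (χ : G → ℂ) s + (θ : G → ℂ) s = 0 := by
  classical
  letI : Fintype E := Fintype.ofFinite _
  obtain ⟨c, m, hc, hm, hcm⟩ := h.exists_num
  have h1 := column_orthogonality s 1
  rw [if_neg (fun h0 => hs1 (isConj_one_left.1 h0)), h.sum_all] at h1
  have hA : ∑ χ ∈ A, (χ : G → ℂ) s * conj ((χ : G → ℂ) 1) = ((1 + n * p : ℕ) : ℂ) * ∑ χ ∈ A, (χ : G → ℂ) s := by
    rw [Finset.mul_sum]
    exact Finset.sum_congr rfl fun χ hχ => by rw [h.degA χ hχ, Complex.conj_natCast]; ring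
  have hB : ∑ χ ∈ B, (χ : G → ℂ) s * conj ((χ : G → ℂ) 1) = 0 := Finset.sum_eq_zero fun χ hχ => by rw [h.B_zero hχ hs hs1, zero_mul]
  have hY : ∑ χ ∈ Y, (χ : G → ℂ) s * conj ((χ : G → ℂ) 1) = ((1 + n * p : ℕ) : ℂ) * (θ : G → ℂ) s := by
    rw [Finset.sum_congr rfl fun χ hχ => by rw [h.degY χ hχ, Complex.conj_natCast, h.regY χ hχ θ hθ s (h.reg s hs)], Finset.sum_const, h.cY,
      nsmul_eq_mul, ← htd]
    push_cast; ring
  have hZ : ∑ χ ∈ (ZZ A B Y)ᶜ, (χ : G → ℂ) s * conj ((χ : G → ℂ) 1) = (p : ℂ) * n := by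
    rw [Finset.sum_congr rfl fun χ hχ => by
      rw [h.deg_out hm (Finset.mem_compl.1 hχ), map_mul, Complex.conj_natCast, Complex.conj_natCast, h.out_const hm (Finset.mem_compl.1 hχ) hs hs1]]
    rw [← h.sum_sq hm]
    push_cast
    rw [Finset.mul_sum]
    exact Finset.sum_congr rfl fun χ _ => by ring
  rw [hA, hB, hY, hZ, tr_apply, tr_apply, map_one] at h1
  have h2 : ((1 + n * p : ℕ) : ℂ) ≠ 0 := Nat.cast_ne_zero.2 (Nat.add_pos_left one_pos _).ne'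
  apply mul_left_cancel₀ h2
  rw [mul_zero, ← h1]
  push_cast; ring

/-- the order of centralisers -/
theorem Cfg.card_C (h : Cfg p n e t a b d P E A B Y) {θ : IrrCharacter G} (hθ : θ ∈ Y) {s : G} (hs : s ∈ E) (hs1 : s ≠ 1) :
    (Nat.card (centralizer ({s} : Set G)) : ℝ) = 1 + n + ∑ χ ∈ A, ‖(χ : G → ℂ) s‖ ^ 2 + t * ‖(θ : G → ℂ) s‖ ^ 2 := by
  classical
  letI : Fintype E := Fintype.ofFinite _
  obtain ⟨c, m, hc, hm, hcm⟩ := h.exists_num
  have h1 := column_orthogonality s s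
  rw [if_pos (IsConj.refl _)] at h1
  have h3 : ∀ χ : IrrCharacter G, (χ : G → ℂ) s * conj ((χ : G → ℂ) s) = ((‖(χ : G → ℂ) s‖ ^ 2 : ℝ) : ℂ) := fun χ => by
    rw [Complex.mul_conj, Complex.normSq_eq_norm_sq]
  rw [Finset.sum_congr rfl fun χ _ => h3 χ, ← Complex.ofReal_sum] at h1
  have h4 : ∑ χ : IrrCharacter G, ‖(χ : G → ℂ) s‖ ^ 2 = (Nat.card (centralizer ({s} : Set G)) : ℝ) := by exact_mod_cast h1
  rw [← h4, h.sum_all, tr_apply, norm_one]
  have hB : ∑ χ ∈ B, ‖(χ : G → ℂ) s‖ ^ 2 = 0 := Finset.sum_eq_zero fun χ hχ => by rw [h.B_zero hχ hs hs1, norm_zero]; norm_num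
  have hY : ∑ χ ∈ Y, ‖(χ : G → ℂ) s‖ ^ 2 = t * ‖(θ : G → ℂ) s‖ ^ 2 := by
    rw [Finset.sum_congr rfl fun χ hχ => by rw [h.regY χ hχ θ hθ s (h.reg s hs)], Finset.sum_const, h.cY, nsmul_eq_mul]
  have hZ : ∑ χ ∈ (ZZ A B Y)ᶜ, ‖(χ : G → ℂ) s‖ ^ 2 = n := by
    rw [Finset.sum_congr rfl fun χ hχ => by
      rw [h.out_const hm (Finset.mem_compl.1 hχ) hs hs1, Complex.norm_natCast]]
    have := h.sum_sq hm
    exact_mod_cast this
  rw [hB, hY, hZ]
  ring

/-- the regular character -/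
theorem Cfg.rho (h : Cfg p n e t a b d P E A B Y) (htd : t * d = 1 + n * p) (he : n + 1 = t ∧ e = a * t + 2 ∧ d + e = p)
    (hS : ∀ χ ∈ Y, SP P (χ : G → ℂ) = e) {θ : IrrCharacter G} (hθ : θ ∈ Y) (s : E) :
    (s = 1 → 1 + ∑ χ ∈ A, phi p P E (χ : G → ℂ) s + phi p P E (θ : G → ℂ) s = (e : ℂ)) ∧
      (s ≠ 1 → 1 + ∑ χ ∈ A, phi p P E (χ : G → ℂ) s + phi p P E (θ : G → ℂ) s = 0) := by
  classical
  letI : Fintype E := Fintype.ofFinite _
  obtain ⟨c, m, hc, hm, hcm⟩ := h.exists_num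
  refine ⟨fun hs => ?_, fun hs => ?_⟩
  · rw [hs, Finset.sum_congr rfl fun χ hχ => by rw [hm, h.m_A hm hχ], Finset.sum_const, h.cA, nsmul_eq_mul, phi_one, hS θ hθ, h.degY θ hθ]
    have hp0 : (p : ℂ) ≠ 0 := by exact_mod_cast hp.out.ne_zero
    have h1 : ((d : ℂ) + e) / p = 1 := by
      rw [div_eq_one_iff_eq hp0]; exact_mod_cast he.2.2
    rw [h1, he.1, he.2.1]; push_cast; ring
  · rw [phi_ne _ hs, Finset.sum_congr rfl fun χ _ => phi_ne _ hs]
    exact h.kappa htd hθ s.2 (fun h0 => hs (Subtype.ext h0))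

/-- a summand of the regular character has small norm -/
theorem norm_summand {H : Type u} [Group H] [Fintype H] {ψ ρ τ : H → ℂ} (h1 : IsCharacter H ψ) (h2 : IsCharacter H τ)
    (hρ : ∀ s, ψ s + τ s = ρ s) {e : ℕ} (he : Nat.card H = e) (hr : ∀ s, (s = 1 → ρ s = (e : ℂ)) ∧ (s ≠ 1 → ρ s = 0)) :
    ∑ s : H, ‖ψ s‖ ^ 2 ≤ e * (ψ 1).re := by
  classical
  obtain ⟨k, hk⟩ := inner_char_nat h1 h2
  have h3 : ∑ s : H, ψ s * conj (τ s) = e * k := by
    have he0 : (e : ℂ) ≠ 0 := by rw [← he]; exact_mod_cast Nat.card_pos.ne'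
    rw [← hk, classInner, he, ← mul_assoc, mul_inv_cancel₀ he0, one_mul]
  have h4 : ∑ s : H, ψ s * conj (ρ s) = ψ 1 * e := by
    rw [Finset.sum_eq_single 1]
    · rw [(hr 1).1 rfl, Complex.conj_natCast]
    · intro s _ hs; rw [(hr s).2 hs, map_zero, mul_zero]
    · intro h0; exact absurd (Finset.mem_univ _) h0
  have h5 : ∑ s : H, ψ s * conj (ρ s) = ∑ s : H, ψ s * conj (ψ s) + ∑ s : H, ψ s * conj (τ s) := by
    rw [← Finset.sum_add_distrib]
    exact Finset.sum_congr rfl fun s _ => by rw [← hρ, map_add, mul_add]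
  have h6 : ∑ s : H, ψ s * conj (ψ s) = ((∑ s : H, ‖ψ s‖ ^ 2 : ℝ) : ℂ) := by
    rw [Complex.ofReal_sum]
    exact Finset.sum_congr rfl fun s _ => by rw [Complex.mul_conj, Complex.normSq_eq_norm_sq]
  obtain ⟨m, hm⟩ := char_one_nat h1
  rw [h4, h6, h3, hm] at h5
  have h7 : (m : ℝ) * e = ∑ s : H, ‖ψ s‖ ^ 2 + e * k := by exact_mod_cast h5
  rw [hm, Complex.natCast_re]
  have h8 : (0 : ℝ) ≤ e * k := by positivity
  linarith

theorem Cfg.norm_A (h : Cfg p n e t a b d P E A B Y) [Fintype E] (htd : t * d = 1 + n * p) (he : n + 1 = t ∧ e = a * t + 2 ∧ d + e = p)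
    (hS : ∀ χ ∈ Y, SP P (χ : G → ℂ) = e) {χ : IrrCharacter G} (hχ : χ ∈ A) :
    ∑ s : E, ‖phi p P E (χ : G → ℂ) s‖ ^ 2 ≤ e * t := by
  classical
  obtain ⟨c, m, hc, hm, hcm⟩ := h.exists_num
  obtain ⟨θ, hθ⟩ : Y.Nonempty := by rw [← Finset.card_pos, h.cY]; exact h.t0
  have h1 := norm_summand (h.char (χ : G → ℂ) (irr_isCharacter χ.2))
    (isCharacter_add (isCharacter_add (irr_isCharacter (isIrrCharacter_one (G := E)))
      (isCharacter_sum (A.erase χ) (fun χ : IrrCharacter G => phi p P E (χ : G → ℂ)) (fun χ _ => h.char (χ : G → ℂ) (irr_isCharacter χ.2))))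
      (h.char (θ : G → ℂ) (irr_isCharacter θ.2)))
    (ρ := fun s => 1 + ∑ χ ∈ A, phi p P E (χ : G → ℂ) s + phi p P E (θ : G → ℂ) s) (by
      intro s
      show phi p P E (χ : G → ℂ) s + ((1 + (∑ i ∈ A.erase χ, phi p P E (i : G → ℂ)) s) + phi p P E (θ : G → ℂ) s) = _
      rw [Finset.sum_apply]
      show _ = 1 + ∑ χ ∈ A, phi p P E (χ : G → ℂ) s + phi p P E (θ : G → ℂ) s
      rw [← Finset.add_sum_erase A (fun χ : IrrCharacter G => phi p P E (χ : G → ℂ) s) hχ]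
      ring) h.cE (h.rho htd he hS hθ)
  rw [hm, h.m_A hm hχ, Complex.natCast_re, he.1] at h1
  exact h1

theorem Cfg.norm_Y (h : Cfg p n e t a b d P E A B Y) [Fintype E] (htd : t * d = 1 + n * p) (he : n + 1 = t ∧ e = a * t + 2 ∧ d + e = p)
    (hS : ∀ χ ∈ Y, SP P (χ : G → ℂ) = e) {χ : IrrCharacter G} (hχ : χ ∈ Y) :
    phi p P E (χ : G → ℂ) 1 = 1 ∧ ∀ s : E, ‖phi p P E (χ : G → ℂ) s‖ = 1 := by
  classical
  have h1 : phi p P E (χ : G → ℂ) 1 = 1 := by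
    rw [phi_one, hS χ hχ, h.degY χ hχ]
    have hp0 : (p : ℂ) ≠ 0 := by exact_mod_cast hp.out.ne_zero
    rw [div_eq_one_iff_eq hp0]; exact_mod_cast he.2.2
  refine ⟨h1, fun s => ?_⟩
  have hch := h.char (χ : G → ℂ) (irr_isCharacter χ.2)
  have h2 := linear_mul hch h1 s s⁻¹
  rw [mul_inv_cancel, h1] at h2
  have h3 := char_norm_le hch s
  have h4 := char_norm_le hch s⁻¹
  rw [h1, Complex.one_re] at h3 h4
  have h5 := congrArg norm h2
  rw [norm_one, norm_mul] at h5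
  nlinarith [norm_nonneg (phi p P E (χ : G → ℂ) s), norm_nonneg (phi p P E (χ : G → ℂ) s⁻¹)]

open Classical in
/-- the sum of the centraliser orders -/
theorem Cfg.sum_C (h : Cfg p n e t a b d P E A B Y) [Fintype E] (htd : t * d = 1 + n * p) (he : n + 1 = t ∧ e = a * t + 2 ∧ d + e = p)
    (hS : ∀ χ ∈ Y, SP P (χ : G → ℂ) = e) :
    ∑ s ∈ Finset.univ.erase (1 : E), (Nat.card (centralizer ({(s : G)} : Set G)) : ℝ) ≤ e * t * (a + 1) := by
  obtain ⟨c, m, hc, hm, hcm⟩ := h.exists_num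
  obtain ⟨θ, hθ⟩ : Y.Nonempty := by rw [← Finset.card_pos, h.cY]; exact h.t0
  have hcard : (Finset.univ.erase (1 : E)).card = e - 1 := by
    rw [Finset.card_erase_of_mem (Finset.mem_univ _), Finset.card_univ, ← Nat.card_eq_fintype_card, h.cE]
  have he1 : ((e - 1 : ℕ) : ℝ) = e - 1 := by rw [Nat.cast_sub (by have := h.e2; omega), Nat.cast_one]
  have hY := h.norm_Y htd he hS hθ
  have h1 : ∀ s ∈ Finset.univ.erase (1 : E), (Nat.card (centralizer ({(s : G)} : Set G)) : ℝ) = 2 * t + ∑ χ ∈ A, ‖phi p P E (χ : G → ℂ) s‖ ^ 2 := by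
    intro s hs
    have hs1 : s ≠ 1 := Finset.ne_of_mem_erase hs
    rw [h.card_C hθ s.2 (fun h0 => hs1 (Subtype.ext h0)), ← phi_ne (p := p) (P := P) (θ : G → ℂ) hs1, hY.2 s,
      Finset.sum_congr rfl fun χ _ => by rw [← phi_ne (p := p) (P := P) (χ : G → ℂ) hs1]]
    have : (t : ℝ) = n + 1 := by exact_mod_cast he.1.symm
    rw [this]; ring
  have hA : ∀ χ ∈ A, ∑ s ∈ Finset.univ.erase (1 : E), ‖phi p P E (χ : G → ℂ) s‖ ^ 2 ≤ e * t - t ^ 2 := by
    intro χ hχ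
    have h2 := h.norm_A htd he hS hχ
    rw [← Finset.add_sum_erase _ _ (Finset.mem_univ (1 : E)), hm, h.m_A hm hχ, Complex.norm_natCast, he.1] at h2
    linarith
  rw [Finset.sum_congr rfl h1, Finset.sum_add_distrib, Finset.sum_const, hcard, nsmul_eq_mul, he1, Finset.sum_comm]
  have h3 := Finset.sum_le_sum hA
  rw [Finset.sum_const, h.cA, nsmul_eq_mul] at h3
  have h4 : (e : ℝ) = a * t + 2 := by exact_mod_cast he.2.1
  have h5 : ((e : ℝ) - 1) * (2 * t) + a * (e * t - t ^ 2) = e * t * (a + 1) := by rw [h4]; ring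
  linarith

end
end CfsgLib.BR11
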