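import Mathlib
import Cfsg.Agent.EqBase
import Cfsg.Agent.LibBR11k

/-! Groups with a Sylow subgroup of order `p`: fixed points of the Weyl group (seat helper11). -/

set_option autoImplicit false
set_option linter.all false

namespace CfsgLib.BR11

open Subgroup Cfsg CfsgLib.CharBasic
open scoped ComplexConjugate

universe u

section
variable {G : Type u} [Group G] [Fintype G] {p : ℕ} [hp : Fact p.Prime]
variable {n e t a b d : ℕ} {P E : Subgroup G} {A B Y : Finset (IrrCharacter G)}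

theorem Cfg.fw_ge (h : Cfg p n e t a b d P E A B Y) (htd : t * d = 1 + n * p) (he : n + 1 = t ∧ e = a * t + 2 ∧ d + e = p)
    (hS : ∀ χ ∈ Y, SP P (χ : G → ℂ) = e) {w : G} (hw : w ∈ normalizer (E : Set G)) :
    2 ≤ Nat.card {s : E // w * (s : G) = s * w} := by
  classical
  letI : Fintype E := Fintype.ofFinite _
  by_contra hlt
  obtain ⟨θ, hθ⟩ : Y.Nonempty := by rw [← Finset.card_pos, h.cY]; exact h.t0
  obtain ⟨hY1, hYn⟩ := h.norm_Y htd he hS hθ
  have hwm : ∀ s ∈ E, w * s * w⁻¹ ∈ E := fun s hs => (mem_normalizer_iff.1 hw s).1 hs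
  have hsub : ∀ s : E, w * (s : G) = s * w → s = 1 := by
    intro s hs
    haveI : Subsingleton {s : E // w * (s : G) = s * w} := by
      rw [← Finite.card_le_one_iff_subsingleton]; omega
    have := Subsingleton.elim (⟨s, hs⟩ : {s : E // w * (s : G) = s * w}) ⟨1, by rw [Subgroup.coe_one, mul_one, one_mul]⟩
    exact congrArg Subtype.val this
  have hcm : ∀ s : E, w * s * w⁻¹ * (s : G)⁻¹ ∈ E := fun s => mul_mem (hwm s s.2) (inv_mem s.2)
  have hinj : Function.Injective (fun s : E => (⟨w * s * w⁻¹ * (s : G)⁻¹, hcm s⟩ : E)) := by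
    intro s r hsr
    have h1 : w * s * w⁻¹ * (s : G)⁻¹ = w * r * w⁻¹ * (r : G)⁻¹ := congrArg Subtype.val hsr
    have h2 : w * ((r : G)⁻¹ * s) = (r : G)⁻¹ * s * w := by
      have h3 : w * s * w⁻¹ = w * r * w⁻¹ * (r : G)⁻¹ * s := by rw [← h1]; group
      have h4 : w * ((r : G)⁻¹ * s) * w⁻¹ = (r : G)⁻¹ * s := by
        calc w * ((r : G)⁻¹ * s) * w⁻¹ = (w * r * w⁻¹)⁻¹ * (w * s * w⁻¹) := by group
          _ = (w * r * w⁻¹)⁻¹ * (w * r * w⁻¹ * (r : G)⁻¹ * s) := by rw [h3]
          _ = (r : G)⁻¹ * s := by group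
      calc w * ((r : G)⁻¹ * s) = w * ((r : G)⁻¹ * s) * w⁻¹ * w := by group
        _ = (r : G)⁻¹ * s * w := by rw [h4]
    have h5 := hsub (r⁻¹ * s) (by rw [Subgroup.coe_mul, Subgroup.coe_inv]; exact h2)
    exact (inv_mul_eq_one.1 h5).symm
  have hsurj := Finite.injective_iff_surjective.1 hinj
  have hch := h.char (θ : G → ℂ) (irr_isCharacter θ.2)
  have hmu : ∀ u : E, phi p P E (θ : G → ℂ) u = 1 := by
    intro u
    obtain ⟨s, hs⟩ := hsurj u
    have h1 : phi p P E (θ : G → ℂ) (⟨w * s * w⁻¹, hwm s s.2⟩ : E) = phi p P E (θ : G → ℂ) s := by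
      by_cases hs1 : s = 1
      · congr 1
        rw [hs1]; apply Subtype.ext; simp
      · rw [phi_ne _ hs1, phi_ne]
        · exact char_classFun (irr_isCharacter θ.2) s w
        · intro h0
          have h2 := congrArg Subtype.val h0
          have h3 : w * (s : G) * w⁻¹ = 1 := h2
          rw [conj_eq_one_iff] at h3
          exact hs1 (Subtype.ext h3)
    have h2 : u = (⟨w * s * w⁻¹, hwm s s.2⟩ : E) * s⁻¹ := by rw [← hs]; rfl
    rw [h2, linear_mul hch hY1, h1, ← linear_mul hch hY1, mul_inv_cancel, hY1]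
  obtain ⟨c, m, hc, hm, hcm'⟩ := h.exists_num
  obtain ⟨-, -, -, h4, -⟩ := h.mults hc hm hcm'
  have h5 := hc θ
  have he0 : (e : ℂ) ≠ 0 := by exact_mod_cast h.e0.ne'
  rw [h4 θ hθ, inner_one_right, Finset.sum_congr rfl fun s _ => hmu s, Finset.sum_const, Finset.card_univ, ← Nat.card_eq_fintype_card, h.cE,
    nsmul_eq_mul, mul_one, inv_mul_cancel₀ he0] at h5
  norm_num at h5

theorem two_of_cyclic {H : Type u} [Group H] [Finite H] [IsCyclic H] {x y : H} (hx : x * x = 1) (hy : y * y = 1) (hx1 : x ≠ 1) (hy1 : y ≠ 1) : x = y := by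
  classical
  letI : Fintype H := Fintype.ofFinite _
  by_contra hne
  have h1 := IsCyclic.card_pow_eq_one_le (α := H) (n := 2) (by norm_num)
  have h2 : ({1, x, y} : Finset H) ⊆ Finset.univ.filter (fun a : H => a ^ 2 = 1) := by
    intro z hz
    rw [Finset.mem_filter]
    refine ⟨Finset.mem_univ _, ?_⟩
    simp only [Finset.mem_insert, Finset.mem_singleton] at hz
    rcases hz with rfl | rfl | rfl
    · exact one_pow 2
    · rw [sq, hx]
    · rw [sq, hy]
  have h3 := (Finset.card_le_card h2).trans h1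
  rw [Finset.card_insert_of_notMem, Finset.card_insert_of_notMem, Finset.card_singleton] at h3
  · omega
  · rw [Finset.mem_singleton]; exact hne
  · rw [Finset.mem_insert, Finset.mem_singleton]
    rintro (h | h)
    exacts [hx1 h.symm, hy1 h.symm]

theorem Cfg.comm_E (h : Cfg p n e t a b d P E A B Y) {x y : G} (hx : x ∈ E) (hy : y ∈ E) : x * y = y * x := by
  haveI := h.cyc
  letI := IsCyclic.commGroup (α := E)
  exact congrArg Subtype.val (mul_comm (⟨x, hx⟩ : E) ⟨y, hy⟩)

/-- centralisers in `E` -/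
theorem Cfg.fw_eq (h : Cfg p n e t a b d P E A B Y) (htd : t * d = 1 + n * p) (he : n + 1 = t ∧ e = a * t + 2 ∧ d + e = p)
    (hS : ∀ χ ∈ Y, SP P (χ : G → ℂ) = e) {w : G} (hw : w ∈ normalizer (E : Set G)) (hwE : w ∉ E) :
    Nat.card {s : E // w * (s : G) = s * w} = 2 := by
  classical
  letI : Fintype E := Fintype.ofFinite _
  letI : Fintype (normalizer (E : Set G)) := Fintype.ofFinite _
  set W := normalizer (E : Set G) with hW
  have hEW : E ≤ W := le_normalizer
  have hcW : Nat.card W = e * t := by rw [h.card_norm, he.1]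
  have key : ∑ s : E, Nat.card {w : W // (w : G) * s = s * w} = ∑ w : W, Nat.card {s : E // (w : G) * (s : G) = s * w} := by
    have h1 : ∀ s : E, Nat.card {w : W // (w : G) * s = s * w} = ∑ w : W, if (w : G) * s = s * w then 1 else 0 := by
      intro s
      rw [Nat.card_eq_fintype_card, Fintype.card_subtype, Finset.card_filter]
    have h2 : ∀ w : W, Nat.card {s : E // (w : G) * (s : G) = s * w} = ∑ s : E, if (w : G) * s = s * w then 1 else 0 := by
      intro w
      rw [Nat.card_eq_fintype_card, Fintype.card_subtype, Finset.card_filter]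
    rw [Finset.sum_congr rfl fun s _ => h1 s, Finset.sum_congr rfl fun w _ => h2 w, Finset.sum_comm]
  have hs1 : Nat.card {w : W // (w : G) * ((1 : E) : G) = (1 : E) * w} = e * t := by
    rw [← hcW]
    exact Nat.card_congr (Equiv.subtypeUnivEquiv fun w => by rw [Subgroup.coe_one, mul_one, one_mul])
  have hsn : ∀ s ∈ Finset.univ.erase (1 : E), Nat.card {w : W // (w : G) * s = s * w} = Nat.card (centralizer ({(s : G)} : Set G)) := by
    intro s hs
    have hs1 : (s : G) ≠ 1 := fun h0 => Finset.ne_of_mem_erase hs (Subtype.ext h0)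
    refine Nat.card_congr ⟨fun w => ⟨w.1, mem_centralizer_singleton_iff.2 w.2⟩, fun w => ⟨⟨w, ?_⟩, mem_centralizer_singleton_iff.1 w.2⟩, fun w => rfl, fun w => rfl⟩
    apply (h.mem_norm s.2 hs1 w).1
    have h1 := mem_centralizer_singleton_iff.1 w.2
    rw [h1, mul_inv_cancel_right]; exact s.2
  have hsum := h.sum_C htd he hS
  have hL : ∑ s : E, Nat.card {w : W // (w : G) * s = s * w} ≤ e * t * (a + 2) := by
    rw [← Finset.add_sum_erase _ _ (Finset.mem_univ (1 : E)), hs1, Finset.sum_congr rfl hsn]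
    have h1 : ∑ s ∈ Finset.univ.erase (1 : E), Nat.card (centralizer ({(s : G)} : Set G)) ≤ e * t * (a + 1) := by exact_mod_cast hsum
    calc _ ≤ e * t + e * t * (a + 1) := Nat.add_le_add_left h1 _
      _ = _ := by ring
  rw [key, ← Finset.sum_filter_add_sum_filter_not Finset.univ (fun w : W => (w : G) ∈ E)] at hL
  have hcE : (Finset.univ.filter (fun w : W => (w : G) ∈ E)).card = e := by
    rw [← Fintype.card_subtype, ← Nat.card_eq_fintype_card, ← h.cE]
    exact Nat.card_congr ⟨fun w => ⟨w.1, w.2⟩, fun w => ⟨⟨w, hEW w.2⟩, w.2⟩, fun w => rfl, fun w => rfl⟩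
  have hcN : (Finset.univ.filter (fun w : W => ¬ (w : G) ∈ E)).card + e = e * t := by
    rw [← hcW, Nat.card_eq_fintype_card, ← Finset.card_univ, ← Finset.card_filter_add_card_filter_not (s := Finset.univ) (fun w : W => (w : G) ∈ E), hcE]
    ring
  have hE1 : ∑ w ∈ Finset.univ.filter (fun w : W => (w : G) ∈ E), Nat.card {s : E // (w : G) * (s : G) = s * w} = e * e := by
    have hfe : ∀ w ∈ Finset.univ.filter (fun w : W => (w : G) ∈ E), Nat.card {s : E // (w : G) * (s : G) = s * w} = e := by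
      intro w hw
      rw [← h.cE]
      exact Nat.card_congr (Equiv.subtypeUnivEquiv fun s => h.comm_E (Finset.mem_filter.1 hw).2 s.2)
    rw [Finset.sum_congr rfl hfe, Finset.sum_const, hcE, smul_eq_mul]
  rw [hE1] at hL
  have h2 : ∀ w ∈ Finset.univ.filter (fun w : W => ¬ (w : G) ∈ E), 2 ≤ Nat.card {s : E // (w : G) * (s : G) = s * w} :=
    fun w _ => h.fw_ge htd he hS w.2
  have h3 : ∑ w ∈ Finset.univ.filter (fun w : W => ¬ (w : G) ∈ E), Nat.card {s : E // (w : G) * (s : G) = s * w} ≤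
      ∑ w ∈ Finset.univ.filter (fun w : W => ¬ (w : G) ∈ E), 2 := by
    rw [Finset.sum_const, smul_eq_mul]
    have e1 : e * t * (a + 2) = e * e + ((Finset.univ.filter (fun w : W => ¬ (w : G) ∈ E)).card * 2) := by
      have h4 : e * (t * (a + 2)) = e * (e + 2 * t - 2) := by
        congr 1
        rw [he.2.1]
        have : t * (a + 2) = a * t + 2 * t := by ring
        omega
      have h5 : e * (e + 2 * t - 2) + 2 * e = e * e + e * t * 2 := by
        have h6 : 2 ≤ e + 2 * t := by have := h.e2; omega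
        calc e * (e + 2 * t - 2) + 2 * e = e * ((e + 2 * t - 2) + 2) := by ring
          _ = e * (e + 2 * t) := by rw [Nat.sub_add_cancel h6]
          _ = _ := by ring
      have h7 : e * t * (a + 2) = e * (t * (a + 2)) := by ring
      omega
    omega
  have h4 := (Finset.sum_eq_sum_iff_of_le h2).1 (le_antisymm (Finset.sum_le_sum h2) h3)
  exact (h4 ⟨w, hw⟩ (Finset.mem_filter.2 ⟨Finset.mem_univ _, hwE⟩)).symm

/-- the structure in the second case -/
theorem Cfg.struct2 (h : Cfg p n e t a b d P E A B Y) (ht2 : 2 ≤ t) (htd : t * d = 1 + n * p) (he : n + 1 = t ∧ e = a * t + 2 ∧ d + e = p)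
    (hS : ∀ χ ∈ Y, SP P (χ : G → ℂ) = e) : ∃ j ∈ E, j ≠ 1 ∧ j * j = 1 ∧ centralizer ({j} : Set G) = normalizer (E : Set G) ∧
      ∀ s ∈ E, s ≠ 1 → s ≠ j → centralizer ({s} : Set G) = E := by
  classical
  haveI := h.cyc
  have hEW : E ≤ normalizer (E : Set G) := le_normalizer
  have hcW : Nat.card (normalizer (E : Set G)) = e * t := by rw [h.card_norm, he.1]
  have hw : ∀ w ∈ normalizer (E : Set G), w ∉ E → ∃ s ∈ E, s ≠ 1 ∧ s * s = 1 ∧ w * s = s * w ∧ ∀ r ∈ E, w * r = r * w → r = 1 ∨ r = s := by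
    intro w hw hwE
    have h1 := h.fw_eq htd he hS hw hwE
    rw [Nat.card_eq_two_iff' (⟨1, by rw [Subgroup.coe_one, mul_one, one_mul]⟩ : {s : E // w * (s : G) = s * w})] at h1
    obtain ⟨s, hs1, hs2⟩ := h1
    have hs1' : (s.1 : G) ≠ 1 := fun h0 => hs1 (Subtype.ext (Subtype.ext h0))
    have hall : ∀ r ∈ E, w * r = r * w → r = 1 ∨ r = (s.1 : G) := by
      intro r hr hrw
      by_cases hr1 : r = 1
      · exact Or.inl hr1
      · right
        have := hs2 ⟨⟨r, hr⟩, hrw⟩ (fun h0 => hr1 (congrArg (fun z : {s : E // w * (s : G) = s * w} => (z.1 : G)) h0))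
        exact congrArg (fun z : {s : E // w * (s : G) = s * w} => (z.1 : G)) this
    refine ⟨s.1, s.1.2, hs1', ?_, s.2, hall⟩
    have h3 : w * ((s.1 : G) * s.1) = (s.1 : G) * s.1 * w := by
      rw [← mul_assoc, s.2, mul_assoc, s.2, mul_assoc]
    rcases hall _ (mul_mem s.1.2 s.1.2) h3 with h4 | h4
    · exact h4
    · exact absurd (mul_eq_left.1 h4) hs1'
  obtain ⟨w0, hw0, hw0E⟩ : ∃ w ∈ normalizer (E : Set G), w ∉ E := by
    by_contra hne
    push Not at hne
    have h1 : normalizer (E : Set G) = E := le_antisymm hne hEW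
    rw [h1, h.cE] at hcW
    have := h.e0
    nlinarith
  obtain ⟨j, hj, hj1, hjj, hjw, -⟩ := hw w0 hw0 hw0E
  have hjall : ∀ w ∈ normalizer (E : Set G), w ∉ E → ∀ r ∈ E, w * r = r * w → r = 1 ∨ r = j := by
    intro w hw' hwE r hr hrw
    obtain ⟨s, hs, hs1, hss, -, hs2⟩ := hw w hw' hwE
    have h1 : (⟨s, hs⟩ : E) = ⟨j, hj⟩ := two_of_cyclic (Subtype.ext hss) (Subtype.ext hjj) (fun h0 => hs1 (congrArg Subtype.val h0))
      (fun h0 => hj1 (congrArg Subtype.val h0))
    have h2 : s = j := congrArg Subtype.val h1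
    rw [← h2]; exact hs2 r hr hrw
  have hjc : ∀ w ∈ normalizer (E : Set G), w * j = j * w := by
    intro w hw'
    by_cases hwE : w ∈ E
    · exact h.comm_E hwE hj
    · obtain ⟨s, hs, hs1, hss, hsw, -⟩ := hw w hw' hwE
      have h1 : (⟨s, hs⟩ : E) = ⟨j, hj⟩ := two_of_cyclic (Subtype.ext hss) (Subtype.ext hjj) (fun h0 => hs1 (congrArg Subtype.val h0))
        (fun h0 => hj1 (congrArg Subtype.val h0))
      have h2 : s = j := congrArg Subtype.val h1
      rw [← h2]; exact hsw
  have hCle : ∀ s ∈ E, s ≠ 1 → centralizer ({s} : Set G) ≤ normalizer (E : Set G) := by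
    intro s hs hs1 w hw'
    apply (h.mem_norm hs hs1 w).1
    have h1 := mem_centralizer_singleton_iff.1 hw'
    rw [h1, mul_inv_cancel_right]; exact hs
  refine ⟨j, hj, hj1, hjj, le_antisymm (hCle j hj hj1) (fun w hw' => mem_centralizer_singleton_iff.2 (hjc w hw')), ?_⟩
  intro s hs hs1 hsj
  apply le_antisymm
  · intro w hw'
    by_contra hwE
    rcases hjall w (hCle s hs hs1 hw') hwE s hs (mem_centralizer_singleton_iff.1 hw') with h1 | h1
    exacts [hs1 h1, hsj h1]
  · intro w hw'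
    exact mem_centralizer_singleton_iff.2 (h.comm_E hw' hs)

end
end CfsgLib.BR11
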