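import Mathlib
import Cfsg.Agent.EqBase
import Cfsg.Agent.LibBR11l

/-! Groups with a Sylow subgroup of order `p`: a class count (seat helper11). -/

set_option autoImplicit false
set_option linter.all false

namespace CfsgLib.BR11

open Subgroup Cfsg CfsgLib.CharBasic
open scoped ComplexConjugate

universe u

section
variable {G : Type u} [Group G] [Fintype G] {p : ℕ} [hp : Fact p.Prime]
variable {n e t a b d : ℕ} {P E : Subgroup G} {A B Y : Finset (IrrCharacter G)}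

theorem Cfg.A_j (h : Cfg p n e t a b d P E A B Y) (htd : t * d = 1 + n * p) (he : n + 1 = t ∧ e = a * t + 2 ∧ d + e = p)
    (hS : ∀ χ ∈ Y, SP P (χ : G → ℂ) = e) {j : G} (hj : j ∈ E) (hj1 : j ≠ 1) (hjC : centralizer ({j} : Set G) = normalizer (E : Set G)) :
    ∀ χ ∈ A, ‖(χ : G → ℂ) j‖ ^ 2 = (t : ℝ) ^ 2 := by
  classical
  letI : Fintype E := Fintype.ofFinite _
  obtain ⟨c, m, hc, hm, hcm⟩ := h.exists_num
  obtain ⟨θ, hθ⟩ : Y.Nonempty := by rw [← Finset.card_pos, h.cY]; exact h.t0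
  have hj1' : (⟨j, hj⟩ : E) ≠ 1 := fun h0 => hj1 (congrArg Subtype.val h0)
  have h1 := h.card_C hθ hj hj1
  rw [hjC, h.card_norm, he.1] at h1
  have h2 := (h.norm_Y htd he hS hθ).2 ⟨j, hj⟩
  rw [phi_ne _ hj1'] at h2
  rw [h2] at h1
  have h3 : ∀ χ ∈ A, ‖(χ : G → ℂ) j‖ ^ 2 ≤ (t : ℝ) ^ 2 := by
    intro χ hχ
    have h4 := char_norm_le (h.char (χ : G → ℂ) (irr_isCharacter χ.2)) ⟨j, hj⟩
    rw [phi_ne _ hj1', hm, h.m_A hm hχ, he.1, Complex.natCast_re] at h4
    exact pow_le_pow_left₀ (norm_nonneg _) h4 2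
  have h5 : ∑ χ ∈ A, ‖(χ : G → ℂ) j‖ ^ 2 = ∑ χ ∈ A, (t : ℝ) ^ 2 := by
    rw [Finset.sum_const, h.cA, nsmul_eq_mul]
    have e1 : (e : ℝ) = a * t + 2 := by exact_mod_cast he.2.1
    have e2 : (n : ℝ) + 1 = t := by exact_mod_cast he.1
    push_cast at h1
    rw [e1] at h1
    nlinarith
  exact (Finset.sum_eq_sum_iff_of_le h3).1 h5

theorem Cfg.count (h : Cfg p n e t a b d P E A B Y) (htd : t * d = 1 + n * p) (he : n + 1 = t ∧ e = a * t + 2 ∧ d + e = p)
    (hS : ∀ χ ∈ Y, SP P (χ : G → ℂ) = e) {j : G} (hj : j ∈ E) (hj1 : j ≠ 1) (hjC : centralizer ({j} : Set G) = normalizer (E : Set G))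
    {y : G} (hy : y ∈ E) (hy1 : y ≠ 1) : Nat.card {s : G // IsConj j s ∧ IsConj j (s * y)} = e * n := by
  classical
  letI : Fintype E := Fintype.ofFinite _
  obtain ⟨c, m, hc, hm, hcm⟩ := h.exists_num
  obtain ⟨θ, hθ⟩ : Y.Nonempty := by rw [← Finset.card_pos, h.cY]; exact h.t0
  have hj1' : (⟨j, hj⟩ : E) ≠ 1 := fun h0 => hj1 (congrArg Subtype.val h0)
  have hcl := CfsgLib.Di11.class_mul j y
  rw [h.sum_all, hjC, h.card_norm, he.1, h.cG] at hcl
  have hf : ∀ χ : IrrCharacter G, (χ : G → ℂ) j * conj ((χ : G → ℂ) j * (χ : G → ℂ) y / (χ : G → ℂ) 1) =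
      ((‖(χ : G → ℂ) j‖ ^ 2 : ℝ) : ℂ) * conj ((χ : G → ℂ) y) / conj ((χ : G → ℂ) 1) := by
    intro χ
    rw [map_div₀, map_mul, ← Complex.normSq_eq_norm_sq, ← Complex.mul_conj]
    ring
  have hN0 : ((1 + n * p : ℕ) : ℂ) ≠ 0 := Nat.cast_ne_zero.2 (Nat.add_pos_left one_pos _).ne'
  have hd0 : (d : ℂ) ≠ 0 := by
    intro h0
    have h1 : ((t * d : ℕ) : ℂ) = 0 := by push_cast; rw [h0, mul_zero]
    rw [htd] at h1; exact hN0 h1
  have hp0 : (p : ℂ) ≠ 0 := by exact_mod_cast hp.out.ne_zero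
  have he0 : (e : ℂ) ≠ 0 := by exact_mod_cast h.e0.ne'
  have ht0 : (t : ℂ) ≠ 0 := by exact_mod_cast h.t0.ne'
  have hA : ∑ χ ∈ A, (χ : G → ℂ) j * conj ((χ : G → ℂ) j * (χ : G → ℂ) y / (χ : G → ℂ) 1) =
      (t : ℂ) ^ 2 / ((1 + n * p : ℕ) : ℂ) * conj (∑ χ ∈ A, (χ : G → ℂ) y) := by
    rw [map_sum, Finset.mul_sum]
    apply Finset.sum_congr rfl
    intro χ hχ
    rw [hf, h.A_j htd he hS hj hj1 hjC χ hχ, h.degA χ hχ, Complex.conj_natCast]
    push_cast; ring
  have hB : ∑ χ ∈ B, (χ : G → ℂ) j * conj ((χ : G → ℂ) j * (χ : G → ℂ) y / (χ : G → ℂ) 1) = 0 :=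
    Finset.sum_eq_zero fun χ hχ => by rw [h.B_zero hχ hj hj1, zero_mul]
  have hY : ∑ χ ∈ Y, (χ : G → ℂ) j * conj ((χ : G → ℂ) j * (χ : G → ℂ) y / (χ : G → ℂ) 1) =
      (t : ℂ) ^ 2 / ((1 + n * p : ℕ) : ℂ) * conj ((θ : G → ℂ) y) := by
    have h1 : ∀ χ ∈ Y, (χ : G → ℂ) j * conj ((χ : G → ℂ) j * (χ : G → ℂ) y / (χ : G → ℂ) 1) = conj ((θ : G → ℂ) y) / d := by
      intro χ hχ
      have h2 := (h.norm_Y htd he hS hχ).2 ⟨j, hj⟩
      rw [phi_ne _ hj1'] at h2
      have h2' : ‖(χ : G → ℂ) j‖ = 1 := h2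
      rw [hf, h2', h.degY χ hχ, Complex.conj_natCast, h.regY χ hχ θ hθ y (h.reg y hy)]
      norm_num
    rw [Finset.sum_congr rfl h1, Finset.sum_const, h.cY, nsmul_eq_mul]
    have h3 : ((1 + n * p : ℕ) : ℂ) = t * d := by rw [← htd]; push_cast; rfl
    rw [h3]
    field_simp
  have hZ : ∑ χ ∈ (ZZ A B Y)ᶜ, (χ : G → ℂ) j * conj ((χ : G → ℂ) j * (χ : G → ℂ) y / (χ : G → ℂ) 1) = (n : ℂ) / p := by
    rw [← h.sum_sq hm]
    push_cast
    rw [Finset.sum_div]
    apply Finset.sum_congr rfl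
    intro χ hχ
    have hχ' := Finset.mem_compl.1 hχ
    have hm0 : (m χ : ℂ) ≠ 0 := by
      intro h0
      have h7 := h.deg_out hm hχ'
      rw [h0, mul_zero] at h7
      exact irr_one_ne_zero χ.2 h7
    rw [h.out_const hm hχ' hj hj1, h.out_const hm hχ' hy hy1, h.deg_out hm hχ', map_div₀, map_mul, map_mul, Complex.conj_natCast, Complex.conj_natCast]
    field_simp
  rw [hA, hB, hY, hZ, tr_apply, tr_apply, tr_apply] at hcl
  have hk := h.kappa htd hθ hy hy1
  have hk' : conj (∑ χ ∈ A, (χ : G → ℂ) y) + conj ((θ : G → ℂ) y) = -1 := by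
    have := congrArg conj hk
    rw [map_add, map_add, map_one, map_zero] at this
    linear_combination this
  have h1 : (1 : ℂ) + ((t : ℂ) ^ 2 / ((1 + n * p : ℕ) : ℂ)) * (-1) + n / p =
      ((e * t : ℕ) : ℂ) ^ 2 * (Nat.card {s : G // IsConj j s ∧ IsConj j (s * y)} : ℂ) / ((p * e * (1 + n * p) : ℕ) : ℂ) := by
    rw [← hcl, ← hk', mul_one, div_one, map_one, mul_one]
    ring
  set M := Nat.card {s : G // IsConj j s ∧ IsConj j (s * y)} with hM
  have h2 : ((p + n : ℂ) * ((1 + n * p : ℕ) : ℂ) - p * t ^ 2) = e * t ^ 2 * M := by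
    have e1 : ((p * e * (1 + n * p) : ℕ) : ℂ) = p * e * ((1 + n * p : ℕ) : ℂ) := by push_cast; ring
    have e2 : ((e * t : ℕ) : ℂ) = e * t := by push_cast; ring
    rw [e1, e2] at h1
    field_simp at h1
    linear_combination h1
  have h3 : (p : ℂ) = e * t + 1 := by exact_mod_cast h.et.symm
  have h4 : (t : ℂ) = n + 1 := by exact_mod_cast he.1.symm
  have h5 : (M : ℂ) = e * n := by
    apply mul_left_cancel₀ (mul_ne_zero he0 (pow_ne_zero 2 ht0))
    rw [← h2]
    push_cast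
    rw [h3, h4]; ring
  exact_mod_cast h5

/-- first subcase -/
theorem Cfg.case1a (h : Cfg p n e t a b d P E A B Y) (ht2 : 2 ≤ t) (htd : t * d = 1 + n * p) (he : n + 1 = t ∧ e = a * t + 2 ∧ d + e = p)
    (hS : ∀ χ ∈ Y, SP P (χ : G → ℂ) = e) (ha : 1 ≤ a) : n = 1 ∧ t = 2 := by
  classical
  obtain ⟨j, hj, hj1, hjj, hjC, hCs⟩ := h.struct2 ht2 htd he hS
  obtain ⟨y, hy, hy1, hyj⟩ : ∃ y ∈ E, y ≠ 1 ∧ y ≠ j := by
    by_contra hne
    push Not at hne
    have h1 : (E : Set G) ⊆ {1, j} := by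
      intro y hy
      by_cases h1 : y = 1
      · exact Or.inl h1
      · exact Or.inr (hne y hy h1)
    have h2 := Set.ncard_le_ncard h1 (Set.toFinite _)
    have h3 : (E : Set G).ncard = e := by rw [← Nat.card_coe_set_eq]; exact h.cE
    have h4 : ({1, j} : Set G).ncard ≤ 2 := Set.ncard_insert_le _ _ |>.trans (by rw [Set.ncard_singleton])
    have h5 := he.2.1
    nlinarith
  have h1 := h.count htd he hS hj hj1 hjC hy hy1
  have h2 : Nat.card {s : G // IsConj j s ∧ IsConj j (s * y)} ≤ Nat.card (centralizer ({y} : Set G)) := by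
    have hsq : ∀ s : G, IsConj j s → s * s = 1 := by
      intro s hs
      obtain ⟨g, hg⟩ := isConj_iff.1 hs
      rw [← hg]
      calc g * j * g⁻¹ * (g * j * g⁻¹) = g * (j * j) * g⁻¹ := by group
        _ = 1 := by rw [hjj]; group
    have hinv : ∀ s : {s : G // IsConj j s ∧ IsConj j (s * y)}, s.1 * y * s.1⁻¹ = y⁻¹ := by
      intro s
      have h3 := hsq _ s.2.1
      have h4 := hsq _ s.2.2
      have h5 : s.1 * y * s.1 * y = 1 := by rw [mul_assoc]; exact h4
      have h6 : s.1⁻¹ = s.1 := inv_eq_of_mul_eq_one_left h3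
      rw [h6]
      exact eq_inv_of_mul_eq_one_left h5
    by_cases hemp : Nonempty {s : G // IsConj j s ∧ IsConj j (s * y)}
    · obtain ⟨s0⟩ := hemp
      have h7 : Function.Injective (fun s : {s : G // IsConj j s ∧ IsConj j (s * y)} =>
          (⟨s0.1⁻¹ * s.1, by
            rw [mem_centralizer_singleton_iff]
            have e1 := hinv s
            have e2 := hinv s0
            rw [← e2] at e1
            calc s0.1⁻¹ * s.1 * y = s0.1⁻¹ * (s.1 * y * s.1⁻¹) * s.1 := by group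
              _ = s0.1⁻¹ * (s0.1 * y * s0.1⁻¹) * s.1 := by rw [e1]
              _ = y * (s0.1⁻¹ * s.1) := by group⟩ : centralizer ({y} : Set G))) := by
        intro s s' hss
        have := congrArg Subtype.val hss
        exact Subtype.ext (mul_left_cancel this)
      exact Nat.card_le_card_of_injective _ h7
    · haveI : IsEmpty {s : G // IsConj j s ∧ IsConj j (s * y)} := not_nonempty_iff.1 hemp
      rw [Nat.card_of_isEmpty]; exact Nat.zero_le _
  rw [h1, hCs y hy hy1 hyj, h.cE] at h2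
  have h3 : n ≤ 1 := by
    by_contra hne
    have := h.e0
    nlinarith
  have := h.n1
  omega

/-- second subcase -/
theorem Cfg.case1b (h : Cfg p n e t a b d P E A B Y) (ht2 : 2 ≤ t) (htd : t * d = 1 + n * p) (he : n + 1 = t ∧ e = a * t + 2 ∧ d + e = p)
    (hS : ∀ χ ∈ Y, SP P (χ : G → ℂ) = e) (ha : a = 0) : ∃ j : G, j ≠ 1 ∧ j * j = 1 ∧ Nat.card (centralizer ({j} : Set G)) = p - 1 ∧
      ∀ s ∈ centralizer ({j} : Set G), s ≠ 1 → IsConj j s := by
  classical
  obtain ⟨j, hj, hj1, hjj, hjC, hCs⟩ := h.struct2 ht2 htd he hS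
  have he2 : e = 2 := by rw [he.2.1, ha, zero_mul]
  have hcC : Nat.card (centralizer ({j} : Set G)) = p - 1 := by
    rw [hjC, h.card_norm, he.1]; have := h.et; omega
  refine ⟨j, hj1, hjj, hcC, ?_⟩
  have h1 := h.count htd he hS hj hj1 hjC hj hj1
  rw [he2] at h1
  intro s hs hs1
  by_cases hsj : s = j
  · rw [hsj]
  · have h2 := card_sub_eq (p := fun s : G => IsConj j s ∧ IsConj j (s * j)) (q := fun s => s ∈ centralizer ({j} : Set G) ∧ s ≠ 1 ∧ s ≠ j) ?_ ?_ s ⟨hs, hs1, hsj⟩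
    · exact h2.1
    · rintro x ⟨hx1, hx2⟩
      have hsq : ∀ s : G, IsConj j s → s * s = 1 := by
        intro s hs
        obtain ⟨g, hg⟩ := isConj_iff.1 hs
        rw [← hg]
        calc g * j * g⁻¹ * (g * j * g⁻¹) = g * (j * j) * g⁻¹ := by group
          _ = 1 := by rw [hjj]; group
      have h3 := hsq _ hx1
      have h4 := hsq _ hx2
      refine ⟨?_, ?_, ?_⟩
      · rw [mem_centralizer_singleton_iff]
        have h5 : x * j = (x * j)⁻¹ := (inv_eq_of_mul_eq_one_left h4).symm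
        rw [mul_inv_rev, inv_eq_of_mul_eq_one_left h3, inv_eq_of_mul_eq_one_left hjj] at h5
        exact h5
      · rintro rfl
        exact hj1 (isConj_one_left.1 hx1)
      · rintro rfl
        rw [hjj] at hx2
        exact hj1 (isConj_one_left.1 hx2)
    · rw [h1]
      have h3 : ({x : G | x ∈ centralizer ({j} : Set G) ∧ x ≠ 1 ∧ x ≠ j}) = ((centralizer ({j} : Set G) : Subgroup G) : Set G) \ {1, j} := by
        ext x
        simp [not_or]
      have h4 : Nat.card {x : G // x ∈ centralizer ({j} : Set G) ∧ x ≠ 1 ∧ x ≠ j} =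
          (((centralizer ({j} : Set G) : Subgroup G) : Set G) \ {1, j}).ncard := by
        rw [← h3]; rfl
      have h5 : ({1, j} : Set G) ⊆ ((centralizer ({j} : Set G) : Subgroup G) : Set G) := by
        rintro x (rfl | rfl)
        · exact one_mem _
        · exact mem_centralizer_singleton_iff.2 rfl
      rw [h4, Set.ncard_diff h5 (Set.toFinite _), Set.ncard_pair hj1.symm, ← Nat.card_coe_set_eq]
      have h6 : Nat.card ((centralizer ({j} : Set G) : Subgroup G) : Set G) = p - 1 := hcC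
      rw [h6]
      have := h.et
      rw [he2] at this
      omega

end
end CfsgLib.BR11
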