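import Mathlib
import Cfsg.Agent.EqBase
import Cfsg.Agent.LibPL11a

/-! The projective line model of `PSL(2, K)` in coordinates (seat helper11). -/

set_option autoImplicit false
set_option linter.all false

namespace CfsgLib.Zas11

open CfsgLib.PL11 Matrix

universe u v

section
variable {K : Type v} [Field K] [DecidableEq K]

/-- the Möbius action of `SL(2, K)` -/
noncomputable def mob : SpecialLinearGroup (Fin 2) K →* Equiv.Perm (Option K) :=
  (MulAction.toPermHom (GL (Fin 2) K) (OnePoint K)).comp (SpecialLinearGroup.toGL : SpecialLinearGroup (Fin 2) K →* GL (Fin 2) K)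

theorem mob_none (g : SpecialLinearGroup (Fin 2) K) :
    mob g none = if g.1 1 0 = 0 then none else some (g.1 0 0 / g.1 1 0) := by
  have h := OnePoint.smul_infty_eq_ite (SpecialLinearGroup.toGL g : GL (Fin 2) K)
  exact h

theorem mob_some (g : SpecialLinearGroup (Fin 2) K) (k : K) :
    mob g (some k) = if g.1 1 0 * k + g.1 1 1 = 0 then none else some ((g.1 0 0 * k + g.1 0 1) / (g.1 1 0 * k + g.1 1 1)) := by
  have h := OnePoint.smul_some_eq_ite (g := (SpecialLinearGroup.toGL g : GL (Fin 2) K)) (k := k)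
  exact h

theorem mob_ker (g : SpecialLinearGroup (Fin 2) K) : mob g = 1 ↔ g ∈ Subgroup.center (SpecialLinearGroup (Fin 2) K) := by
  have hdet : g.1 0 0 * g.1 1 1 - g.1 0 1 * g.1 1 0 = 1 := by
    have := g.2
    rwa [Matrix.det_fin_two] at this
  rw [Matrix.SpecialLinearGroup.mem_center_iff]
  constructor
  · intro h
    have h1 := mob_none g
    rw [h] at h1
    have h10 : g.1 1 0 = 0 := by
      by_contra hne
      rw [if_neg hne] at h1
      simp at h1
    have h2 := mob_some g 0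
    rw [h] at h2
    have h01 : g.1 0 1 = 0 := by
      rw [h10] at h2 hdet
      simp only [mul_zero, zero_add, zero_mul, add_zero, sub_zero] at h2 hdet
      have h11 : g.1 1 1 ≠ 0 := by rintro h0; rw [h0, mul_zero] at hdet; exact zero_ne_one hdet
      rw [if_neg h11] at h2
      have h3 : (0 : K) = g.1 0 1 / g.1 1 1 := Option.some.inj h2
      rcases div_eq_zero_iff.1 h3.symm with h4 | h4
      · exact h4
      · exact absurd h4 h11
    have h3 := mob_some g 1
    rw [h] at h3
    rw [h10] at h3 hdet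
    rw [h01] at h3
    simp only [mul_one, zero_add, add_zero, mul_zero, sub_zero] at h3 hdet
    have h11 : g.1 1 1 ≠ 0 := by rintro h0; rw [h0, mul_zero] at hdet; exact zero_ne_one hdet
    rw [if_neg h11] at h3
    have h4 : (1 : K) = g.1 0 0 / g.1 1 1 := Option.some.inj h3
    have h5 : g.1 0 0 = g.1 1 1 := by
      rw [eq_div_iff h11, one_mul] at h4
      exact h4.symm
    refine ⟨g.1 0 0, ?_, ?_⟩
    · rw [Fintype.card_fin, pow_two]; rw [← h5] at hdet; exact hdet
    · ext i j
      fin_cases i <;> fin_cases j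
      · simp [Matrix.scalar_apply]
      · simp [Matrix.scalar_apply, h01]
      · simp [Matrix.scalar_apply, h10]
      · simp [Matrix.scalar_apply, h5]
  · rintro ⟨r, hr, hr2⟩
    have e : ∀ i j, g.1 i j = if i = j then r else 0 := by
      intro i j
      have := congrFun (congrFun hr2 i) j
      rw [← this, Matrix.scalar_apply, Matrix.diagonal_apply]
    have e00 := e 0 0
    have e01 := e 0 1
    have e10 := e 1 0
    have e11 := e 1 1
    simp at e00 e01 e10 e11
    have hr0 : r ≠ 0 := by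
      rintro rfl
      rw [e00, e01] at hdet
      simp at hdet
    apply Equiv.ext
    intro z
    cases z with
    | none => rw [mob_none, if_pos e10]; rfl
    | some x =>
      rw [mob_some, e10, e11, e00, e01, zero_mul, zero_add, if_neg hr0, add_zero, mul_div_cancel_left₀ x hr0]
      rfl

/-- the Möbius action of `PSL(2, K)` -/
noncomputable def mobP : ProjectiveSpecialLinearGroup (Fin 2) K →* Equiv.Perm (Option K) :=
  QuotientGroup.lift (Subgroup.center (SpecialLinearGroup (Fin 2) K)) mob (fun g hg => (mob_ker g).2 hg)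

theorem mobP_mk (g : SpecialLinearGroup (Fin 2) K) : mobP (QuotientGroup.mk g : ProjectiveSpecialLinearGroup (Fin 2) K) = mob g := rfl

theorem exists_sl (a b c d : K) (h : a * d - b * c = 1) : ∃ g : Matrix.SpecialLinearGroup (Fin 2) K,
    g.1 0 0 = a ∧ g.1 0 1 = b ∧ g.1 1 0 = c ∧ g.1 1 1 = d :=
  ⟨⟨!![a, b; c, d], by rw [Matrix.det_fin_two]; simpa using h⟩, by simp, by simp, by simp, by simp⟩

theorem mobP_coord {n : ℕ} (hn : ∀ m : K, m ≠ 0 → (m ^ n = 1 ↔ IsSquare m)) (hn0 : n ≠ 0) : Coord K n (mobP (K := K)) := by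
  have hne : ∀ m : K, m ^ n = 1 → m ≠ 0 := by
    rintro m hm rfl
    rw [zero_pow hn0] at hm
    exact zero_ne_one hm
  refine ⟨?_, ?_, ?_, ?_, ?_⟩
  · rw [← MonoidHom.ker_eq_bot_iff, eq_bot_iff]
    intro x hx
    obtain ⟨g, rfl⟩ := QuotientGroup.mk_surjective x
    rw [MonoidHom.mem_ker, mobP_mk, mob_ker] at hx
    exact (QuotientGroup.eq_one_iff g).2 hx
  · intro a
    obtain ⟨g, h00, h01, h10, h11⟩ := exists_sl 1 a 0 1 (by ring)
    refine ⟨QuotientGroup.mk g, ?_, fun x => ?_⟩
    · rw [mobP_mk, mob_none, h10, if_pos rfl]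
    · rw [mobP_mk, mob_some, h10, h11, h00, h01, zero_mul, zero_add, if_neg one_ne_zero, one_mul, div_one]
  · intro m hm
    obtain ⟨u, hu⟩ := (hn m (hne m hm)).1 hm
    have hu0 : u ≠ 0 := by rintro rfl; exact hne m hm (by rw [hu, mul_zero])
    obtain ⟨g, h00, h01, h10, h11⟩ := exists_sl u 0 0 u⁻¹ (by rw [mul_zero, sub_zero, mul_inv_cancel₀ hu0])
    refine ⟨QuotientGroup.mk g, ?_, fun x => ?_⟩
    · rw [mobP_mk, mob_none, h10, if_pos rfl]
    · have : u⁻¹ ≠ 0 := inv_ne_zero hu0
      rw [mobP_mk, mob_some, h10, h11, h00, h01, zero_mul, zero_add, if_neg this, add_zero, hu]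
      congr 1
      rw [div_inv_eq_mul]; ring
  · intro x h1 h2
    obtain ⟨g, rfl⟩ := QuotientGroup.mk_surjective x
    rw [mobP_mk] at h1 h2
    have hdet : g.1 0 0 * g.1 1 1 - g.1 0 1 * g.1 1 0 = 1 := by
      have := g.2
      rwa [Matrix.det_fin_two] at this
    rw [mob_none] at h1
    have h10 : g.1 1 0 = 0 := by
      by_contra hne
      rw [if_neg hne] at h1
      simp at h1
    rw [h10, mul_zero, sub_zero] at hdet
    have h11 : g.1 1 1 ≠ 0 := by rintro h0; rw [h0, mul_zero] at hdet; exact zero_ne_one hdet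
    have h00 : g.1 0 0 ≠ 0 := by rintro h0; rw [h0, zero_mul] at hdet; exact zero_ne_one hdet
    rw [mob_some, h10, mul_zero, zero_add, if_neg h11, mul_zero, zero_add] at h2
    have h01 : g.1 0 1 = 0 := by
      have h3 : g.1 0 1 / g.1 1 1 = 0 := Option.some.inj h2
      rcases div_eq_zero_iff.1 h3 with h4 | h4
      · exact h4
      · exact absurd h4 h11
    refine ⟨g.1 0 0 * g.1 0 0, ?_, fun x => ?_⟩
    · exact (hn _ (mul_ne_zero h00 h00)).2 ⟨_, rfl⟩
    · rw [mobP_mk, mob_some, h10, h01, zero_mul, zero_add, if_neg h11, add_zero]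
      congr 1
      rw [div_eq_iff h11]
      linear_combination (-(x * g.1 0 0)) * hdet
  · obtain ⟨g, h00, h01, h10, h11⟩ := exists_sl (K := K) 0 (-1) 1 0 (by ring)
    refine ⟨QuotientGroup.mk g, ?_, ?_⟩
    · rw [mobP_mk, mob_none, h10, h00, if_neg one_ne_zero, zero_div]
    · rw [mobP_mk, mob_some, h10, h11, mul_zero, zero_add, if_pos rfl]

theorem mobP_swap : ∃ t : ProjectiveSpecialLinearGroup (Fin 2) K, mobP t none = some 0 ∧ mobP t (some 0) = none ∧
    ∀ x : K, x ≠ 0 → mobP t (some x) = some (-x⁻¹) := by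
  obtain ⟨g, h00, h01, h10, h11⟩ := exists_sl (K := K) 0 (-1) 1 0 (by ring)
  refine ⟨QuotientGroup.mk g, ?_, ?_, fun x hx => ?_⟩
  · rw [mobP_mk, mob_none, h10, h00, if_neg one_ne_zero, zero_div]
  · rw [mobP_mk, mob_some, h10, h11, mul_zero, zero_add, if_pos rfl]
  · rw [mobP_mk, mob_some, h10, h11, h00, h01, one_mul, add_zero, if_neg hx, zero_mul, zero_add]
    congr 1
    rw [neg_div, one_div]

theorem psl_closure {n : ℕ} (hn : ∀ m : K, m ≠ 0 → (m ^ n = 1 ↔ IsSquare m)) (hn0 : n ≠ 0) :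
    Nonempty (ProjectiveSpecialLinearGroup (Fin 2) K ≃* Subgroup.closure (gens n (fun x : K => -x⁻¹))) := by
  obtain ⟨t, h1, h2, h3⟩ := mobP_swap (K := K)
  exact (mobP_coord hn hn0).iso_closure h1 h2 h3

/-- identification from a swap `x ↦ -1/x` -/
theorem psl_of_swap {G : Type u} [Group G] {n : ℕ} {Φ : G →* Equiv.Perm (Option K)} (h : Coord K n Φ)
    (hn : ∀ m : K, m ≠ 0 → (m ^ n = 1 ↔ IsSquare m)) (hn0 : n ≠ 0) {t : G} (h1 : Φ t none = some 0) (h2 : Φ t (some 0) = none)
    (h3 : ∀ x, x ≠ 0 → Φ t (some x) = some (-x⁻¹)) : Nonempty (G ≃* ProjectiveSpecialLinearGroup (Fin 2) K) := by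
  obtain ⟨e1⟩ := h.iso_closure h1 h2 h3
  obtain ⟨e2⟩ := psl_closure (K := K) hn hn0
  exact ⟨e1.trans e2.symm⟩

end
end CfsgLib.Zas11
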