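import Mathlib
import Cfsg.Agent.EqBase
import Cfsg.Agent.LibZas11a

/-! Recognition of `PSL(2, q)` and sharply triply transitive groups from coordinates (seat helper11). -/

set_option autoImplicit false
set_option linter.all false

namespace CfsgLib.Zas11

open CfsgLib.PL11

universe u v

section
variable {G : Type u} [Group G] {K : Type v} [Field K] [DecidableEq K] {n : ℕ} {Φ : G →* Equiv.Perm (Option K)}

/-- the function of a swap -/
theorem fn {t : G} (ht1 : Φ t none = some 0) (ht2 : Φ t (some 0) = none) :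
    ∃ f : K → K, ∀ x, x ≠ 0 → f x ≠ 0 ∧ Φ t (some x) = some (f x) := by
  have hval : ∀ x : K, x ≠ 0 → ∃ y, y ≠ 0 ∧ Φ t (some x) = some y := by
    intro x hx
    cases h0 : Φ t (some x) with
    | none =>
      rw [← ht2] at h0
      exact absurd (Option.some.inj ((Φ t).injective h0)) hx
    | some y =>
      refine ⟨y, ?_, rfl⟩
      rintro rfl
      rw [← ht1] at h0
      exact absurd ((Φ t).injective h0) (by simp)
  choose! f hf using hval
  exact ⟨f, hf⟩

theorem fn_inj {t : G} {f : K → K} (hf : ∀ x, x ≠ 0 → f x ≠ 0 ∧ Φ t (some x) = some (f x)) {x y : K} (hx : x ≠ 0) (hy : y ≠ 0)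
    (h : f x = f y) : x = y := by
  have h1 : Φ t (some x) = Φ t (some y) := by rw [(hf x hx).2, (hf y hy).2, h]
  exact Option.some.inj ((Φ t).injective h1)

theorem fn_surj {t : G} (ht1 : Φ t none = some 0) (ht2 : Φ t (some 0) = none) {f : K → K}
    (hf : ∀ x, x ≠ 0 → f x ≠ 0 ∧ Φ t (some x) = some (f x)) {y : K} (hy : y ≠ 0) : ∃ x, x ≠ 0 ∧ f x = y := by
  obtain ⟨z, hz⟩ := (Φ t).surjective (some y)
  cases z with
  | none => rw [ht1] at hz; exact absurd (Option.some.inj hz).symm hy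
  | some x =>
    have hx : x ≠ 0 := by rintro rfl; rw [ht2] at hz; simp at hz
    refine ⟨x, hx, ?_⟩
    rw [(hf x hx).2] at hz
    exact Option.some.inj hz

/-- the functional equation -/
theorem feq (h : Coord K n Φ) {t : G} (ht1 : Φ t none = some 0) (ht2 : Φ t (some 0) = none) {f : K → K}
    (hf : ∀ x, x ≠ 0 → f x ≠ 0 ∧ Φ t (some x) = some (f x)) : FEq n f := by
  obtain ⟨u, hu1, hu2⟩ := h.tr 1
  obtain ⟨w, hw1, hw2⟩ := h.tr (f 1)
  have hf1 := (hf 1 one_ne_zero).1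
  have hwi : ∀ z, Φ w⁻¹ (some z) = some (z - f 1) := by
    intro z
    rw [map_inv, Equiv.Perm.inv_eq_iff_eq, hw2, sub_add_cancel]
  obtain ⟨hi1, hi2⟩ := h.swap_inv ht1 ht2
  obtain ⟨N, hN⟩ : ∃ N, N = t⁻¹ * (w⁻¹ * (t * (u * t))) := ⟨_, rfl⟩
  have hNn : Φ N none = none := by
    rw [hN]
    simp only [map_mul, Equiv.Perm.mul_apply]
    rw [ht1, hu2, zero_add, (hf 1 one_ne_zero).2, hwi, sub_self, hi2]
  obtain ⟨s, y, hs', hsy⟩ := h.stab hNn
  have heq : ∀ z, Φ t (Φ u (Φ t z)) = Φ w (Φ t (Φ N z)) := by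
    intro z
    have h1 : t * (u * t) = w * (t * N) := by rw [hN]; group
    have h2 := congrArg (fun g => Φ g z) h1
    simpa only [map_mul, Equiv.Perm.mul_apply] using h2
  have hE0 := heq (some 0)
  rw [ht2, hu1, ht1, hsy, mul_zero, zero_add] at hE0
  have hy : y ≠ 0 := by
    rintro rfl
    rw [ht2, hw1] at hE0
    exact absurd hE0 (by simp)
  rw [(hf y hy).2, hw2] at hE0
  have hE0' : 0 = f y + f 1 := Option.some.inj hE0
  refine ⟨y, s, hs', hy, by rw [add_comm]; exact hE0'.symm, fun x hx => ⟨fun hx1 => ?_, fun hx1 => ?_⟩⟩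
  · have hE := heq (some x)
    rw [(hf x hx).2, hu2, hx1, ht2, hsy] at hE
    by_contra hne
    rw [(hf _ hne).2, hw2] at hE
    exact absurd hE (by simp)
  · have hE := heq (some x)
    rw [(hf x hx).2, hu2, (hf _ hx1).2, hsy] at hE
    have hne : s * x + y ≠ 0 := by
      intro h0
      rw [h0, ht2, hw1] at hE
      exact absurd hE (by simp)
    rw [(hf _ hne).2, hw2] at hE
    refine ⟨hne, ?_⟩
    rw [add_comm (f 1)]
    exact Option.some.inj hE

/-- scaling a swap -/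
theorem scale (h : Coord K n Φ) {t : G} (ht1 : Φ t none = some 0) (ht2 : Φ t (some 0) = none) {f : K → K}
    (hf : ∀ x, x ≠ 0 → f x ≠ 0 ∧ Φ t (some x) = some (f x)) {m : K} (hm : m ^ n = 1) (hm0 : m ≠ 0) :
    ∃ t', Φ t' none = some 0 ∧ Φ t' (some 0) = none ∧ ∀ x, x ≠ 0 → m * f x ≠ 0 ∧ Φ t' (some x) = some (m * f x) := by
  obtain ⟨g, hg1, hg2⟩ := h.mul m hm
  refine ⟨g * t, ?_, ?_, fun x hx => ⟨mul_ne_zero hm0 (hf x hx).1, ?_⟩⟩
  · rw [map_mul, Equiv.Perm.mul_apply, ht1, hg2, mul_zero]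
  · rw [map_mul, Equiv.Perm.mul_apply, ht2, hg1]
  · rw [map_mul, Equiv.Perm.mul_apply, (hf x hx).2, hg2]

end

section
variable {G : Type u} [Group G] {K : Type v} [Field K] [Fintype K] [DecidableEq K] {n : ℕ} {Φ : G →* Equiv.Perm (Option K)}

theorem dich (hn : 2 * n + 1 = Fintype.card K) {x : K} (hx : x ≠ 0) : x ^ n = 1 ∨ x ^ n = -1 := by
  have h1 := FiniteField.pow_card_sub_one_eq_one x hx
  rw [← hn, Nat.add_sub_cancel, mul_comm, pow_mul] at h1
  have h2 : (x ^ n - 1) * (x ^ n + 1) = 0 := by linear_combination h1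
  rcases mul_eq_zero.1 h2 with h | h
  · left; exact sub_eq_zero.1 h
  · right; exact eq_neg_of_add_eq_zero_left h

theorem neg_one_ne (hn : 2 * n + 1 = Fintype.card K) : (-1 : K) ≠ 1 := by
  intro h
  have h2 : (2 : K) = 0 := by linear_combination -h
  have h3 : ((Fintype.card K : ℕ) : K) = 0 := Nat.cast_card_eq_zero K
  rw [← hn] at h3
  push_cast at h3
  rw [h2, zero_mul, zero_add] at h3
  exact one_ne_zero h3

/-- `x ↦ c₁/x` on squares and `x ↦ c₂/x` on nonsquares -/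
theorem shape_inv (hn : 2 * n + 1 = Fintype.card K) {f : K → K} (hinv : ∀ m x : K, m ^ n = 1 → x ≠ 0 → f (m * x) = m⁻¹ * f x)
    (hf0 : ∀ x, x ≠ 0 → f x ≠ 0) {ν : K} (hν : ν ^ n = -1) (hν0 : ν ≠ 0) :
    ∃ c₁ c₂ : K, c₁ ≠ 0 ∧ c₂ ≠ 0 ∧ (∀ x, x ≠ 0 → x ^ n = 1 → f x = c₁ * x⁻¹) ∧ (∀ x, x ≠ 0 → x ^ n = -1 → f x = c₂ * x⁻¹) := by
  refine ⟨f 1, f ν * ν, hf0 1 one_ne_zero, mul_ne_zero (hf0 ν hν0) hν0, fun x hx hxn => ?_, fun x hx hxn => ?_⟩
  · have := hinv x 1 hxn one_ne_zero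
    rw [mul_one] at this
    rw [this, mul_comm]
  · have h1 : (x * ν⁻¹) ^ n = 1 := by rw [mul_pow, inv_pow, hxn, hν]; field_simp
    have := hinv (x * ν⁻¹) ν h1 hν0
    rw [inv_mul_cancel_right₀ hν0] at this
    rw [this, mul_inv, inv_inv]; ring


theorem isSquare_iff' (hn : 2 * n + 1 = Fintype.card K) {m : K} (hm : m ≠ 0) : m ^ n = 1 ↔ IsSquare m := by
  have hchar : ringChar K ≠ 2 := by
    intro h
    have := FiniteField.even_card_iff_char_two.1 h
    omega
  rw [FiniteField.isSquare_iff hchar hm]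
  have : Fintype.card K / 2 = n := by omega
  rw [this]

theorem exists_nonsq (hn : 2 * n + 1 = Fintype.card K) : ∃ ν : K, ν ^ n = -1 ∧ ν ≠ 0 := by
  have hchar : ringChar K ≠ 2 := by
    intro h
    have := FiniteField.even_card_iff_char_two.1 h
    omega
  obtain ⟨ν, hν⟩ := FiniteField.exists_nonsquare hchar
  have hν0 : ν ≠ 0 := by rintro rfl; exact hν ⟨0, by simp⟩
  refine ⟨ν, ?_, hν0⟩
  rcases dich hn hν0 with h | h
  · exact absurd ((isSquare_iff' hn hν0).1 h) hν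
  · exact h

theorem exists_sum_sq (hn : 2 * n + 1 = Fintype.card K) (x : K) : ∃ a b : K, a ^ 2 + b ^ 2 = x := by
  have hodd : Fintype.card K % 2 = 1 := by omega
  have := FiniteField.exists_root_sum_quadratic (R := K) (f := Polynomial.X ^ 2) (g := Polynomial.X ^ 2 - Polynomial.C x)
    (Polynomial.degree_X_pow 2) (Polynomial.degree_X_pow_sub_C (by norm_num) _) hodd
  obtain ⟨a, b, hab⟩ := this
  refine ⟨a, b, ?_⟩
  simp at hab
  linear_combination hab

/-- the case `c₁ = -1`, `-1` a square -/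
theorem c2_eq (hn : 2 * n + 1 = Fintype.card K) {f : K → K} (hinj : ∀ x y, x ≠ 0 → y ≠ 0 → f x = f y → x = y) {c₂ : K}
    (hneg : (-1 : K) ^ n = 1) (h1 : ∀ x, x ≠ 0 → x ^ n = 1 → f x = (-1) * x⁻¹)
    (h2 : ∀ x, x ≠ 0 → x ^ n = -1 → f x = c₂ * x⁻¹) (hF : FEq n f) : c₂ = -1 := by
  obtain ⟨y, s, hs, hy, hfy, hF⟩ := hF
  have hne1 := neg_one_ne hn
  have hf1 : f 1 = -1 := by rw [h1 1 one_ne_zero (one_pow n)]; simp
  have hfm1 : f (-1) = 1 := by rw [h1 (-1) (by simp) hneg]; simp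
  have hy1 : y = -1 := by
    apply hinj y (-1) hy (by simp)
    rw [hfm1]
    rw [hf1] at hfy
    linear_combination hfy
  have hs1 : s = 1 := by
    have h3 := (hF 1 one_ne_zero).1 (by rw [hf1]; ring)
    rw [hy1] at h3
    linear_combination h3
  obtain ⟨ν, hν, hν0⟩ := exists_nonsq hn
  obtain ⟨a, b, hab⟩ := exists_sum_sq hn ν
  have hsq : ∀ z : K, z ≠ 0 → (z ^ 2) ^ n = 1 := fun z hz => (isSquare_iff' hn (pow_ne_zero 2 hz)).2 ⟨z, by ring⟩
  have hb : b ≠ 0 := by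
    rintro rfl
    have ha : a ≠ 0 := by rintro rfl; apply hν0; rw [← hab]; ring
    have : ν ^ n = 1 := by rw [← hab, zero_pow (by norm_num), add_zero]; exact hsq a ha
    rw [hν] at this
    exact hne1 this
  have ha : a ≠ 0 := by
    rintro rfl
    have : ν ^ n = 1 := by rw [← hab, zero_pow (by norm_num), zero_add]; exact hsq b hb
    rw [hν] at this
    exact hne1 this
  obtain ⟨w, hw⟩ : ∃ w, w = -(a * b⁻¹) ^ 2 := ⟨_, rfl⟩
  have hbi : b⁻¹ ≠ 0 := inv_ne_zero hb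
  have hw0 : w ≠ 0 := by rw [hw]; exact neg_ne_zero.2 (pow_ne_zero 2 (mul_ne_zero ha hbi))
  have hwn : w ^ n = 1 := by
    rw [hw, neg_eq_neg_one_mul, mul_pow, hneg, one_mul]
    exact hsq _ (mul_ne_zero ha hbi)
  have hw1 : w - 1 = -1 * (ν * (b⁻¹) ^ 2) := by
    rw [hw, ← hab]
    field_simp
    ring
  have hw1n : (w - 1) ^ n = -1 := by
    rw [hw1, mul_pow, mul_pow, hneg, hν, hsq _ hbi]; ring
  have hw10 : w - 1 ≠ 0 := by
    rw [hw1]
    exact mul_ne_zero (by simp) (mul_ne_zero hν0 (pow_ne_zero 2 hbi))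
  have hfw : f w = (-1) * w⁻¹ := h1 w hw0 hwn
  have hfw1 : f w + 1 = (w - 1) * w⁻¹ := by
    rw [hfw, sub_mul, mul_inv_cancel₀ hw0]; ring
  have hfw10 : f w + 1 ≠ 0 := by rw [hfw1]; exact mul_ne_zero hw10 (inv_ne_zero hw0)
  have hfw1n : (f w + 1) ^ n = -1 := by
    rw [hfw1, mul_pow, hw1n, inv_pow, hwn, inv_one, mul_one]
  obtain ⟨h3, h4⟩ := (hF w hw0).2 hfw10
  have h5 : s * w + y = w - 1 := by rw [hs1, hy1]; ring
  rw [h5, h2 _ hfw10 hfw1n, h2 _ hw10 hw1n, hf1, hfw1] at h4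
  rw [mul_inv, inv_inv] at h4
  have h6 : c₂ * w = -(w - 1) + c₂ := by
    have h7 : c₂ * ((w - 1)⁻¹ * w) * (w - 1) = (-1 + c₂ * (w - 1)⁻¹) * (w - 1) := by rw [h4]
    have h8 : c₂ * ((w - 1)⁻¹ * w) * (w - 1) = c₂ * w := by field_simp
    have h9 : (-1 + c₂ * (w - 1)⁻¹) * (w - 1) = -(w - 1) + c₂ := by field_simp
    rw [h8, h9] at h7
    exact h7
  have h10 : (c₂ + 1) * (w - 1) = 0 := by linear_combination h6
  rcases mul_eq_zero.1 h10 with h | h
  · linear_combination h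
  · exact absurd h hw10

/-- **Theorem A**: `PSL(2, q)`, `q` odd -/
theorem psl_of_inverts (hn : 2 * n + 1 = Fintype.card K) (hn0 : n ≠ 0) (h : Coord K n Φ) {t : G} (ht1 : Φ t none = some 0)
    (ht2 : Φ t (some 0) = none) {f : K → K} (hf : ∀ x, x ≠ 0 → f x ≠ 0 ∧ Φ t (some x) = some (f x))
    (hinv : ∀ m x : K, m ^ n = 1 → x ≠ 0 → f (m * x) = m⁻¹ * f x) :
    Nonempty (G ≃* Matrix.ProjectiveSpecialLinearGroup (Fin 2) K) := by
  have hne1 := neg_one_ne hn
  obtain ⟨ν, hν, hν0⟩ := exists_nonsq hn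
  obtain ⟨c₁, c₂, hc₁, hc₂, h1, h2⟩ := shape_inv hn hinv (fun x hx => (hf x hx).1) hν hν0
  have hF := feq h ht1 ht2 hf
  have hF' := hF
  obtain ⟨y, s, hs, hy, hfy, hF⟩ := hF
  have hs0 : s ≠ 0 := ne_zero_of_pow hn0 hs
  obtain ⟨x₀, hx₀, hfx₀⟩ := fn_surj ht1 ht2 hf (y := -1) (by simp)
  have hsx : s * x₀ + y = 0 := (hF x₀ hx₀).1 (by rw [hfx₀]; ring)
  have hf1 : f 1 = c₁ := by rw [h1 1 one_ne_zero (one_pow n)]; simp
  -- conclusion from `c₁ = c₂`
  have key : ∀ m : K, m ^ n = 1 → m ≠ 0 → m * c₁ = -1 → m * c₂ = -1 → Nonempty (G ≃* Matrix.ProjectiveSpecialLinearGroup (Fin 2) K) := by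
    intro m hm hm0 e1 e2
    obtain ⟨t', ht1', ht2', hf'⟩ := scale h ht1 ht2 hf hm hm0
    refine psl_of_swap h (fun m hm => isSquare_iff' hn hm) hn0 ht1' ht2' (fun x hx => ?_)
    rw [(hf' x hx).2]
    rcases dich hn hx with hx1 | hx1
    · rw [h1 x hx hx1, ← mul_assoc, e1]; congr 1; ring
    · rw [h2 x hx hx1, ← mul_assoc, e2]; congr 1; ring
  have hm1 := dich hn (x := (-1 : K)) (by simp)
  rcases hm1 with hneg | hneg
  · -- `-1` is a square
    have hy1 : y = -1 := by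
      apply fn_inj hf hy (by simp)
      rw [h1 (-1) (by simp) hneg]
      rw [hf1] at hfy
      rw [inv_neg, inv_one]
      linear_combination hfy
    have hx₀n : x₀ ^ n = 1 := by
      have h3 : s * x₀ = 1 := by rw [hy1] at hsx; linear_combination hsx
      have h4 : (s * x₀) ^ n = 1 := by rw [h3, one_pow]
      rwa [mul_pow, hs, one_mul] at h4
    have hc1 : c₁ = -x₀ := by
      have h3 := h1 x₀ hx₀ hx₀n
      rw [hfx₀] at h3
      field_simp at h3
      linear_combination -h3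
    have hc1n : c₁ ^ n = 1 := by rw [hc1, neg_eq_neg_one_mul, mul_pow, hneg, hx₀n, one_mul]
    obtain ⟨m, hm⟩ : ∃ m, m = -c₁⁻¹ := ⟨_, rfl⟩
    have hm0 : m ≠ 0 := by rw [hm]; exact neg_ne_zero.2 (inv_ne_zero hc₁)
    have hmn : m ^ n = 1 := by rw [hm, neg_eq_neg_one_mul, mul_pow, hneg, inv_pow, hc1n]; simp
    have hmc : m * c₁ = -1 := by rw [hm, neg_mul, inv_mul_cancel₀ hc₁]
    obtain ⟨t', ht1', ht2', hf'⟩ := scale h ht1 ht2 hf hmn hm0
    have hF2 := feq h ht1' ht2' hf'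
    have hc2 : m * c₂ = -1 := by
      refine c2_eq hn (f := fun x => m * f x) (fun x y hx hy => fn_inj hf' hx hy) hneg ?_ ?_ hF2
      · intro x hx hxn; show m * f x = _; rw [h1 x hx hxn, ← mul_assoc, hmc]
      · intro x hx hxn; show m * f x = _; rw [h2 x hx hxn, ← mul_assoc]
    exact key m hmn hm0 hmc hc2
  · -- `-1` is not a square
    have hyn : y ^ n = -1 := by
      rcases dich hn hy with hyn | hyn
      · exfalso
        have h3 := h1 y hy hyn
        rw [hf1, h3] at hfy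
        have h4 : c₁ * (1 + y⁻¹) = 0 := by linear_combination hfy
        rcases mul_eq_zero.1 h4 with h5 | h5
        · exact hc₁ h5
        · have h6 : y⁻¹ = -1 := by linear_combination h5
          have h7 : y = -1 := by rw [← inv_inv y, h6, inv_neg, inv_one]
          rw [h7, hneg] at hyn
          exact hne1 hyn
      · exact hyn
    have hyc : y = -1 * (c₂ * c₁⁻¹) := by
      have h3 := h2 y hy hyn
      rw [hf1, h3] at hfy
      have h4 : c₁ * y + c₂ = 0 := by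
        have h5 := congrArg (fun z => z * y) hfy
        simp only [zero_mul] at h5
        rw [add_mul, mul_assoc c₂, inv_mul_cancel₀ hy, mul_one] at h5
        exact h5
      have h6 : y = (c₁ * y) * c₁⁻¹ := by field_simp
      rw [h6]
      linear_combination c₁⁻¹ * h4
    have hx₀n : x₀ ^ n = 1 := by
      have h3 : s * x₀ = -1 * y := by linear_combination hsx
      have h4 : (s * x₀) ^ n = 1 := by rw [h3, mul_pow, hneg, hyn]; ring
      rwa [mul_pow, hs, one_mul] at h4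
    have hc1 : c₁ = -1 * x₀ := by
      have h3 := h1 x₀ hx₀ hx₀n
      rw [hfx₀] at h3
      field_simp at h3
      linear_combination -h3
    have hc1n : c₁ ^ n = -1 := by rw [hc1, mul_pow, hneg, hx₀n, mul_one]
    have hc2n : c₂ ^ n = -1 := by
      have h3 : c₂ = -1 * (y * c₁) := by rw [hyc]; field_simp
      rw [h3, mul_pow, mul_pow, hneg, hyn, hc1n]; ring
    -- the square of `t`
    obtain ⟨m, hm, hm2⟩ := h.fix (t * t) (by rw [map_mul, Equiv.Perm.mul_apply, ht1, ht2])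
      (by rw [map_mul, Equiv.Perm.mul_apply, ht2, ht1])
    have hff : ∀ x, x ≠ 0 → f (f x) = m * x := by
      intro x hx
      have h3 := hm2 x
      rw [map_mul, Equiv.Perm.mul_apply, (hf x hx).2, (hf _ (hf x hx).1).2] at h3
      exact Option.some.inj h3
    have e1 : m = c₂ * c₁⁻¹ := by
      have h3 := hff 1 one_ne_zero
      rw [hf1, h2 c₁ hc₁ hc1n, mul_one] at h3
      exact h3.symm
    have e2 : m * ν = c₁ * (c₂ * ν⁻¹)⁻¹ := by
      have h3 := hff ν hν0
      rw [h2 ν hν0 hν, h1 _ (mul_ne_zero hc₂ (inv_ne_zero hν0)) (by rw [mul_pow, inv_pow, hc2n, hν]; simp)] at h3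
      exact h3.symm
    have e3 : c₁ ^ 2 = c₂ ^ 2 := by
      rw [e1, mul_inv, inv_inv] at e2
      field_simp at e2
      first
        | exact e2.symm
        | linear_combination -e2
        | (rcases mul_eq_mul_right_iff.1 e2 with h | h
           · linear_combination -h
           · exact absurd h hν0)
    have e4 : c₂ = c₁ := by
      have h3 : (c₂ - c₁) * (c₂ + c₁) = 0 := by linear_combination -e3
      rcases mul_eq_zero.1 h3 with h4 | h4
      · linear_combination h4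
      · exfalso
        have h5 : c₂ = -1 * c₁ := by linear_combination h4
        rw [h5, mul_pow, hneg, hc1n] at hc2n
        apply hne1
        linear_combination -hc2n
    have hm' : (-c₁⁻¹) ^ n = 1 := by rw [neg_eq_neg_one_mul, mul_pow, hneg, inv_pow, hc1n]; simp
    exact key (-c₁⁻¹) hm' (neg_ne_zero.2 (inv_ne_zero hc₁)) (by rw [neg_mul, inv_mul_cancel₀ hc₁])
      (by rw [e4, neg_mul, inv_mul_cancel₀ hc₁])

end
end CfsgLib.Zas11
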