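import Mathlib
import Cfsg.Agent.EqBase
import Cfsg.Agent.LibZas11b

/-! The field of an irreducible abelian group with large abelian operator group (seat helper11). -/

set_option autoImplicit false
set_option linter.all false

namespace CfsgLib.Zas11

open CfsgLib.PL11

universe u v w

section
variable {V : Type u} [AddCommGroup V] [Finite V] {D : Type w} [Group D] [Finite D]

theorem finite_end (V : Type u) [AddCommGroup V] [Finite V] : Finite (AddMonoid.End V) :=
  Finite.of_injective (fun f : AddMonoid.End V => (f : V → V)) (fun f g h => by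
    apply DFunLike.coe_injective; exact h)

theorem irr (ρ : D →* AddMonoid.End V) (hsemi : ∀ d : D, d ≠ 1 → ∀ v, ρ d v = v → v = 0)
    (hcard : Nat.card V ≤ 2 * Nat.card D + 1) (W : AddSubgroup V) (hW : ∀ d, ∀ w ∈ W, ρ d w ∈ W) : W = ⊥ ∨ W = ⊤ := by
  classical
  by_contra hcon
  push Not at hcon
  obtain ⟨h1, h2⟩ := hcon
  obtain ⟨w, hw, hw0⟩ : ∃ w ∈ W, w ≠ 0 := by
    by_contra h
    push Not at h
    exact h1 ((AddSubgroup.eq_bot_iff_forall W).2 h)
  -- orbit
  have hinj : Function.Injective (fun o : Option D => (match o with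
      | none => (⟨0, W.zero_mem⟩ : W)
      | some d => ⟨ρ d w, hW d w hw⟩)) := by
    have hne : ∀ d, ρ d w ≠ 0 := by
      intro d hd
      apply hw0
      have : ρ (d⁻¹ * d) w = 0 := by
        rw [map_mul]; show ρ d⁻¹ (ρ d w) = 0; rw [hd, map_zero]
      rw [inv_mul_cancel, map_one] at this
      exact this
    intro o1 o2 h
    cases o1 with
    | none =>
      cases o2 with
      | none => rfl
      | some d =>
        have := congrArg Subtype.val h
        exact absurd this.symm (hne d)
    | some d1 =>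
      cases o2 with
      | none =>
        have := congrArg Subtype.val h
        exact absurd this (hne d1)
      | some d2 =>
        have h3 : ρ d1 w = ρ d2 w := congrArg Subtype.val h
        congr 1
        by_contra hne'
        apply hw0
        apply hsemi (d2⁻¹ * d1)
        · intro h4
          exact hne' (inv_mul_eq_one.1 h4).symm
        · rw [map_mul]
          show ρ d2⁻¹ (ρ d1 w) = w
          rw [h3]
          show (ρ d2⁻¹ * ρ d2) w = w
          rw [← map_mul, inv_mul_cancel, map_one]; rfl
  have hc1 : Nat.card D + 1 ≤ Nat.card W := by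
    have hle := Nat.card_le_card_of_injective _ hinj
    letI : Fintype D := Fintype.ofFinite D
    rw [Nat.card_eq_fintype_card (α := Option D), Fintype.card_option] at hle
    rw [Nat.card_eq_fintype_card (α := D)]
    exact hle
  have hc2 := AddSubgroup.card_mul_index W
  have hi : 2 ≤ W.index := by
    rcases Nat.lt_or_ge W.index 2 with h | h
    · exfalso
      have hi0 : W.index ≠ 0 := by
        intro h0; rw [h0, mul_zero] at hc2
        exact Nat.card_pos.ne hc2
      have : W.index = 1 := by omega
      exact h2 (AddSubgroup.index_eq_one.1 this)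
    · exact h
  have hc3 : Nat.card W * 2 ≤ Nat.card V := by rw [← hc2]; exact Nat.mul_le_mul_left _ hi
  omega

theorem exists_field [Nontrivial V] (ρ : D →* AddMonoid.End V) (hcomm : ∀ a b : D, a * b = b * a)
    (hsemi : ∀ d : D, d ≠ 1 → ∀ v, ρ d v = v → v = 0) (hcard : Nat.card V ≤ 2 * Nat.card D + 1) :
    ∃ (F : Type) (_ : Field F) (_ : Fintype F) (_ : DecidableEq F) (e : F ≃+ V), ∀ d, ∃ m : F, ∀ x, ρ d (e x) = e (m * x) := by
  classical
  haveI := finite_end V
  obtain ⟨R, hR⟩ : ∃ R, R = Subring.closure (Set.range ρ) := ⟨_, rfl⟩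
  have hRD : ∀ d, ρ d ∈ R := fun d => by rw [hR]; exact Subring.subset_closure ⟨d, rfl⟩
  have hRc : ∀ r ∈ R, ∀ d, r * ρ d = ρ d * r := by
    intro r hr d
    rw [hR] at hr
    induction hr using Subring.closure_induction with
    | mem x hx => obtain ⟨a, rfl⟩ := hx; rw [← map_mul, ← map_mul, hcomm]
    | zero => rw [zero_mul, mul_zero]
    | one => rw [one_mul, mul_one]
    | add x y _ _ h1 h2 => rw [add_mul, mul_add, h1, h2]
    | neg x _ h1 => rw [neg_mul, mul_neg, h1]
    | mul x y _ _ h1 h2 => rw [mul_assoc, h2, ← mul_assoc, h1, mul_assoc]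
  have hker : ∀ r ∈ R, r ≠ 0 → ∀ v, r v = 0 → v = 0 := by
    intro r hr hr0 v hv
    rcases irr ρ hsemi hcard (AddMonoidHom.ker (r : V →+ V)) (by
      intro d w hw
      have hw' : r w = 0 := hw
      have h3 : (r * ρ d) w = 0 := by
        rw [hRc r hr d]
        show ρ d (r w) = 0
        rw [hw', map_zero]
      exact h3) with h | h
    · have : v ∈ AddMonoidHom.ker (r : V →+ V) := hv
      rw [h] at this
      exact this
    · exfalso
      apply hr0
      apply DFunLike.ext
      intro x
      have : x ∈ AddMonoidHom.ker (r : V →+ V) := by rw [h]; trivial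
      exact this
  obtain ⟨v₀, hv₀⟩ := exists_ne (0 : V)
  have hfin : Finite R := inferInstance
  haveI hnt : Nontrivial R := ⟨⟨1, 0, fun h => hv₀ (by
    have h1 := congrArg Subtype.val h
    have h2 := congrArg (fun g : AddMonoid.End V => g v₀) h1
    exact h2)⟩⟩
  haveI hnzd : NoZeroDivisors R := ⟨by
    intro a b hab
    by_cases hb : b = 0
    · exact Or.inr hb
    · left
      have hb' : (b : AddMonoid.End V) ≠ 0 := fun h => hb (Subtype.ext h)
      by_contra ha
      have ha' : (a : AddMonoid.End V) ≠ 0 := fun h => ha (Subtype.ext h)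
      have h1 : (a : AddMonoid.End V) ((b : AddMonoid.End V) v₀) = 0 := by
        have h2 := congrArg Subtype.val hab
        have h3 := congrArg (fun g : AddMonoid.End V => g v₀) h2
        exact h3
      exact hv₀ (hker b b.2 hb' _ (hker a a.2 ha' _ h1))⟩
  haveI hdom : IsDomain R := NoZeroDivisors.to_isDomain R
  letI hfield : Field R := (Finite.isDomain_to_isField R).toField
  letI : Fintype R := Fintype.ofFinite R
  -- the additive isomorphism
  obtain ⟨ev, hev⟩ : ∃ ev : R →+ V, ∀ r : R, ev r = (r : AddMonoid.End V) v₀ :=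
    ⟨{ toFun := fun r => (r : AddMonoid.End V) v₀, map_zero' := rfl, map_add' := fun _ _ => rfl }, fun _ => rfl⟩
  have hevinj : Function.Injective ev := by
    rw [injective_iff_map_eq_zero]
    intro a ha
    by_contra hne
    have ha' : (a : AddMonoid.End V) ≠ 0 := fun h => hne (Subtype.ext h)
    rw [hev] at ha
    exact hv₀ (hker a a.2 ha' _ ha)
  have hevsurj : Function.Surjective ev := by
    rw [← AddMonoidHom.range_eq_top]
    rcases irr ρ hsemi hcard ev.range (by
      rintro d w ⟨r, rfl⟩
      refine ⟨⟨ρ d * r, R.mul_mem (hRD d) r.2⟩, ?_⟩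
      rw [hev, hev]; rfl) with h | h
    · exfalso
      have : ev 1 ∈ ev.range := ⟨1, rfl⟩
      rw [h, hev] at this
      exact hv₀ this
    · exact h
  let e1 : R ≃+ V := AddEquiv.ofBijective ev ⟨hevinj, hevsurj⟩
  obtain ⟨p, hp⟩ := CharP.exists R
  obtain ⟨k, hpp, hk⟩ := FiniteField.card R p
  haveI : Fact p.Prime := ⟨hpp⟩
  letI : Fintype (GaloisField p k) := Fintype.ofFinite _
  have hG : Fintype.card (GaloisField p k) = Fintype.card R := by
    rw [hk, ← Nat.card_eq_fintype_card, GaloisField.card p k k.pos.ne']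
  let e2 : GaloisField p k ≃+* R := FiniteField.ringEquivOfCardEq hG
  refine ⟨GaloisField p k, inferInstance, inferInstance, Classical.decEq _, e2.toAddEquiv.trans e1, fun d => ?_⟩
  refine ⟨e2.symm ⟨ρ d, hRD d⟩, fun x => ?_⟩
  show ρ d (ev (e2 x)) = ev (e2 (e2.symm ⟨ρ d, hRD d⟩ * x))
  rw [map_mul, RingEquiv.apply_symm_apply, hev, hev]
  rfl

/-- the multiplications coming from `D` are the torsion elements -/
theorem exists_field' [Nontrivial V] (ρ : D →* AddMonoid.End V) (hcomm : ∀ a b : D, a * b = b * a)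
    (hsemi : ∀ d : D, d ≠ 1 → ∀ v, ρ d v = v → v = 0) (hcard : Nat.card V ≤ 2 * Nat.card D + 1) :
    ∃ (F : Type) (_ : Field F) (_ : Fintype F) (_ : DecidableEq F) (e : F ≃+ V),
      (∀ d, ∃ m : F, m ^ Nat.card D = 1 ∧ ∀ x, ρ d (e x) = e (m * x)) ∧
      (∀ m : F, m ^ Nat.card D = 1 → ∃ d, ∀ x, ρ d (e x) = e (m * x)) := by
  classical
  obtain ⟨F, i1, i2, i3, e, he⟩ := exists_field ρ hcomm hsemi hcard
  choose μ hμ using he
  have hμ1 : μ 1 = 1 := by
    have h1 := hμ 1 1
    rw [map_one, mul_one] at h1
    exact (e.injective h1).symm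
  have hμm : ∀ a b, μ (a * b) = μ a * μ b := by
    intro a b
    have h1 := hμ (a * b) 1
    rw [map_mul] at h1
    have h2 : (ρ a * ρ b) (e 1) = e (μ a * (μ b * 1)) := by
      show ρ a (ρ b (e 1)) = _
      rw [hμ b, hμ a]
    rw [h2] at h1
    have h3 := e.injective h1
    rw [mul_one, mul_one] at h3
    exact h3.symm
  let μh : D →* F := { toFun := μ, map_one' := hμ1, map_mul' := hμm }
  have hpow : ∀ d, μ d ^ Nat.card D = 1 := by
    intro d
    show μh d ^ Nat.card D = 1
    rw [← map_pow, pow_card_eq_one', map_one]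
  have hinj : Function.Injective μ := by
    intro a b hab
    by_contra hne
    have h1 : e 1 = 0 := by
      apply hsemi (b⁻¹ * a) (fun h => hne (inv_mul_eq_one.1 h).symm)
      rw [hμ, hμm, hab, ← hμm, inv_mul_cancel, hμ1, mul_one]
    rw [← map_zero e] at h1
    exact one_ne_zero (e.injective h1)
  have hpos : 0 < Nat.card D := Nat.card_pos
  refine ⟨F, i1, i2, i3, e, fun d => ⟨μ d, hpow d, hμ d⟩, fun m hm => ?_⟩
  letI : Fintype D := Fintype.ofFinite D
  have hsub : Finset.univ.image μ ⊆ (Polynomial.nthRoots (Nat.card D) (1 : F)).toFinset := by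
    intro x hx
    obtain ⟨d, -, rfl⟩ := Finset.mem_image.1 hx
    rw [Multiset.mem_toFinset, Polynomial.mem_nthRoots hpos]
    exact hpow d
  have hcard2 : (Polynomial.nthRoots (Nat.card D) (1 : F)).toFinset.card ≤ (Finset.univ.image μ).card := by
    rw [Finset.card_image_of_injective _ hinj, Finset.card_univ, ← Nat.card_eq_fintype_card]
    exact (Multiset.toFinset_card_le _).trans (Polynomial.card_nthRoots _ _)
  have heq := Finset.eq_of_subset_of_card_le hsub hcard2
  have hm' : m ∈ Finset.univ.image μ := by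
    rw [heq, Multiset.mem_toFinset, Polynomial.mem_nthRoots hpos]
    exact hm
  obtain ⟨d, -, rfl⟩ := Finset.mem_image.1 hm'
  exact ⟨d, hμ d⟩

end
end CfsgLib.Zas11
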