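import Mathlib
import Cfsg.Agent.EqBase
import Cfsg.Agent.LibZas11c

/-! Coordinates of a Zassenhaus group with abelian kernel (seat helper11). -/

set_option autoImplicit false
set_option linter.all false

namespace CfsgLib.Zas11

open CfsgLib.PL11 Subgroup

universe u v w

/-- a faithful doubly transitive group whose point stabiliser is `Q D` -/
structure Setup {G : Type u} [Group G] {Ω : Type v} [MulAction G Ω] (Q D : Subgroup G) (i o : Ω) : Prop where
  faithful : ∀ g : G, (∀ ω : Ω, g • ω = ω) → g = 1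
  hQi : ∀ u ∈ Q, u • i = i
  hDi : ∀ d ∈ D, d • i = i
  hDo : ∀ d ∈ D, d • o = o
  hfix : ∀ g : G, g • i = i → g • o = o → g ∈ D
  hne : o ≠ i
  hreg : ∀ ω, ω ≠ i → ∃ u ∈ Q, u • o = ω
  hinj : ∀ u ∈ Q, u • o = o → u = 1
  hQab : ∀ x ∈ Q, ∀ y ∈ Q, x * y = y * x
  hDab : ∀ x ∈ D, ∀ y ∈ D, x * y = y * x
  hnorm : ∀ d ∈ D, ∀ u ∈ Q, d * u * d⁻¹ ∈ Q
  hsemi : ∀ d ∈ D, d ≠ 1 → ∀ u ∈ Q, d * u * d⁻¹ = u → u = 1

section
variable {G : Type u} [Group G] [Finite G] {Ω : Type v} [MulAction G Ω] {Q D : Subgroup G} {i o : Ω}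

theorem Setup.coord (hS : Setup Q D i o) (hQ1 : Q ≠ ⊥) (hcard : Nat.card Q ≤ 2 * Nat.card D + 1) (hsw : ∃ t : G, t • i = o ∧ t • o = i) :
    ∃ (F : Type) (_ : Field F) (_ : Fintype F) (_ : DecidableEq F) (Φ : G →* Equiv.Perm (Option F)) (E : Option F ≃ Ω),
      Fintype.card F = Nat.card Q ∧ Coord F (Nat.card D) Φ ∧ E none = i ∧ E (some 0) = o ∧ ∀ g z, E (Φ g z) = g • E z := by
  classical
  letI iQ : CommGroup Q := { (inferInstance : Group Q) with mul_comm := fun a b => Subtype.ext (hS.hQab a a.2 b b.2) }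
  haveI : Nontrivial Q := (Subgroup.nontrivial_iff_ne_bot Q).2 hQ1
  haveI : Nontrivial (Additive Q) := inferInstance
  -- the action
  let cj : D → Q →* Q := fun d => 
    { toFun := fun u => ⟨d * u * (d : G)⁻¹, hS.hnorm d d.2 u u.2⟩
      map_one' := Subtype.ext (by simp)
      map_mul' := fun a b => Subtype.ext (by simp [mul_assoc]) }
  let ρ : D →* AddMonoid.End (Additive Q) :=
    { toFun := fun d => MonoidHom.toAdditive (cj d)
      map_one' := by
        apply AddMonoidHom.ext
        intro x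
        apply Additive.toMul.injective
        apply Subtype.ext
        show (1 : G) * (Additive.toMul x : Q) * (1 : G)⁻¹ = (Additive.toMul x : Q)
        simp
      map_mul' := fun a b => by
        apply AddMonoidHom.ext
        intro x
        apply Additive.toMul.injective
        apply Subtype.ext
        show ((a : G) * b) * (Additive.toMul x : Q) * ((a : G) * b)⁻¹ = a * (b * (Additive.toMul x : Q) * (b : G)⁻¹) * (a : G)⁻¹
        group }
  have hρ : ∀ (d : D) (x : Additive Q), ((Additive.toMul (ρ d x) : Q) : G) = d * (Additive.toMul x : Q) * (d : G)⁻¹ := fun d x => rfl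
  have hcQ : Nat.card (Additive Q) = Nat.card Q := rfl
  obtain ⟨F, i1, i2, i3, e, he1, he2⟩ := exists_field' ρ (fun a b => Subtype.ext (hS.hDab a a.2 b b.2))
    (by
      intro d hd v hv
      have h1 : ((Additive.toMul v : Q) : G) = 1 := by
        apply hS.hsemi d d.2 (fun h => hd (Subtype.ext h)) _ (Additive.toMul v).2
        rw [← hρ, hv]
      apply Additive.toMul.injective
      apply Subtype.ext
      exact h1) (by rw [hcQ]; exact hcard)
  -- the labelling
  obtain ⟨el, hel⟩ : ∃ el : F → G, ∀ x, el x = ((Additive.toMul (e x) : Q) : G) := ⟨_, fun _ => rfl⟩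
  have helQ : ∀ x, el x ∈ Q := fun x => by rw [hel]; exact (Additive.toMul (e x)).2
  have heladd : ∀ x y, el (x + y) = el x * el y := by
    intro x y
    rw [hel, hel, hel, map_add]; rfl
  have hel0 : el 0 = 1 := by rw [hel, map_zero]; rfl
  have helinj : Function.Injective el := by
    intro x y hxy
    rw [hel, hel] at hxy
    exact e.injective (Additive.toMul.injective (Subtype.ext hxy))
  have helsurj : ∀ u ∈ Q, ∃ x, el x = u := by
    intro u hu
    refine ⟨e.symm (Additive.ofMul (⟨u, hu⟩ : Q)), ?_⟩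
    rw [hel, AddEquiv.apply_symm_apply]; rfl
  have helneg : ∀ x, el (-x) = (el x)⁻¹ := by
    intro x
    rw [eq_inv_iff_mul_eq_one, ← heladd, neg_add_cancel, hel0]
  let lab : Option F → Ω := fun z => match z with
    | none => i
    | some x => el x • o
  have hlabne : ∀ x, el x • o ≠ i := by
    intro x h
    apply hS.hne
    have h1 : (el x)⁻¹ • (el x • o) = (el x)⁻¹ • i := by rw [h]
    rw [inv_smul_smul, hS.hQi _ (Q.inv_mem (helQ x))] at h1
    exact h1
  have hlabinj : Function.Injective lab := by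
    intro z1 z2 h
    cases z1 with
    | none =>
      cases z2 with
      | none => rfl
      | some y => exact absurd h.symm (hlabne y)
    | some x =>
      cases z2 with
      | none => exact absurd h (hlabne x)
      | some y =>
        have h1 : el x • o = el y • o := h
        have h2 : el (-y + x) = 1 := by
          apply hS.hinj _ (helQ _)
          rw [heladd, helneg, mul_smul, h1, inv_smul_smul]
        rw [← hel0] at h2
        have h3 := helinj h2
        congr 1
        linear_combination h3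
  have hlabsurj : Function.Surjective lab := by
    intro ω
    by_cases hω : ω = i
    · exact ⟨none, hω.symm⟩
    · obtain ⟨u, hu, huo⟩ := hS.hreg ω hω
      obtain ⟨x, hx⟩ := helsurj u hu
      exact ⟨some x, by show el x • o = ω; rw [hx, huo]⟩
  let E : Option F ≃ Ω := Equiv.ofBijective lab ⟨hlabinj, hlabsurj⟩
  have hEn : E none = i := rfl
  have hEs : ∀ x, E (some x) = el x • o := fun _ => rfl
  let Φ : G →* Equiv.Perm (Option F) := (Equiv.permCongrHom E.symm).toMonoidHom.comp (MulAction.toPermHom G Ω)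
  have hΦ : ∀ g z, E (Φ g z) = g • E z := by
    intro g z
    show E (E.symm (g • E.symm.symm z)) = g • E z
    rw [Equiv.apply_symm_apply, Equiv.symm_symm]
  have hE0 : E (some 0) = o := by rw [hEs, hel0, one_smul]
  have hcardF : Fintype.card F = Nat.card Q := by
    rw [← Nat.card_eq_fintype_card, ← hcQ]
    exact Nat.card_congr e.toEquiv
  have hDmul : ∀ (d : G) (hd : d ∈ D) (m : F), (∀ x, ρ ⟨d, hd⟩ (e x) = e (m * x)) →
      Φ d none = none ∧ ∀ x, Φ d (some x) = some (m * x) := by
    intro d hd m hm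
    refine ⟨E.injective (by rw [hΦ, hEn, hS.hDi d hd]), fun x => E.injective ?_⟩
    rw [hΦ, hEs, hEs, hel (m * x), ← hm x, hρ, ← hel x]
    show d • el x • o = (d * el x * d⁻¹) • o
    rw [mul_smul, mul_smul, hS.hDo _ (D.inv_mem hd)]
  refine ⟨F, i1, i2, i3, Φ, E, hcardF, ⟨?_, ?_, ?_, ?_, ?_⟩, hEn, hE0, hΦ⟩
  · rw [injective_iff_map_eq_one]
    intro g hg
    apply hS.faithful
    intro ω
    have h1 := hΦ g (E.symm ω)
    rw [hg, Equiv.Perm.one_apply, Equiv.apply_symm_apply] at h1
    exact h1.symm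
  · intro a
    refine ⟨el a, E.injective (by rw [hΦ, hEn, hS.hQi _ (helQ a)]), fun x => E.injective ?_⟩
    rw [hΦ, hEs, hEs, add_comm x a, heladd, mul_smul]
  · intro m hm
    obtain ⟨d, hd⟩ := he2 m hm
    exact ⟨d, hDmul d d.2 m hd⟩
  · intro g hg1 hg2
    have h1 : g • i = i := by rw [← hEn, ← hΦ, hg1]
    have h2 : g • o = o := by rw [← hE0, ← hΦ, hg2]
    have hgD := hS.hfix g h1 h2
    obtain ⟨m, hm, hm2⟩ := he1 ⟨g, hgD⟩
    exact ⟨m, hm, (hDmul g hgD m hm2).2⟩
  · obtain ⟨t, ht1, ht2⟩ := hsw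
    exact ⟨t, E.injective (by rw [hΦ, hEn, hE0, ht1]), E.injective (by rw [hΦ, hEn, hE0, ht2])⟩

/-- **recognition of `PSL(2, q)`, `q` odd** -/
theorem Setup.psl (hS : Setup Q D i o) (hcard : 2 * Nat.card D + 1 = Nat.card Q) {t : G} (ht1 : t • i = o) (ht2 : t • o = i)
    (hinv : ∀ d ∈ D, t * d * t⁻¹ = d⁻¹) :
    ∃ (F : Type) (_ : Field F) (_ : Fintype F), Fintype.card F = Nat.card Q ∧
      Nonempty (G ≃* Matrix.ProjectiveSpecialLinearGroup (Fin 2) F) := by
  classical
  have hDpos : 0 < Nat.card D := Nat.card_pos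
  have hQ1 : Q ≠ ⊥ := by
    rintro rfl
    rw [Subgroup.card_bot] at hcard
    omega
  obtain ⟨F, i1, i2, i3, Φ, E, hcF, hC, hEn, hE0, hΦ⟩ := hS.coord hQ1 hcard.ge ⟨t, ht1, ht2⟩
  refine ⟨F, i1, i2, hcF, ?_⟩
  have h1 : Φ t none = some 0 := E.injective (by rw [hΦ, hEn, hE0, ht1])
  have h2 : Φ t (some 0) = none := E.injective (by rw [hΦ, hEn, hE0, ht2])
  obtain ⟨f, hf⟩ := fn h1 h2
  have hn : 2 * Nat.card D + 1 = Fintype.card F := by rw [hcF, hcard]
  have key := psl_of_inverts hn hDpos.ne' hC h1 h2 hf ?_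
  · obtain ⟨e⟩ := key
    exact ⟨by
      convert e⟩
  · intro m x hm hx
    obtain ⟨g, hg1, hg2⟩ := hC.mul m hm
    have hm0 : m ≠ 0 := ne_zero_of_pow hDpos.ne' hm
    have hgD : g ∈ D := by
      apply hS.hfix
      · rw [← hEn, ← hΦ, hg1]
      · rw [← hE0, ← hΦ, hg2, mul_zero]
    have h3 : t * g = g⁻¹ * t := by
      rw [← hinv g hgD]; group
    have h4 := congrArg (fun y => Φ y (some x)) h3
    simp only [map_mul, Equiv.Perm.mul_apply] at h4
    rw [hg2, (hf _ (mul_ne_zero hm0 hx)).2, (hf x hx).2, map_inv] at h4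
    have h5 : Φ g (some (f (m * x))) = some (f x) := by
      rw [h4, ← Equiv.Perm.mul_apply, mul_inv_cancel, Equiv.Perm.one_apply]
    rw [hg2] at h5
    have h6 := Option.some.inj h5
    rw [← h6, inv_mul_cancel_left₀ hm0]

end
end CfsgLib.Zas11
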