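import Mathlib

/-! Basic facts on multiply transitive groups in which non-identity elements have few fixed points. -/

set_option autoImplicit false

namespace Cfsg.Agent.LibZG1

open MulAction

theorem fixedBy_le_two {G Ω : Type*} [Group G] [MulAction G Ω] [Fintype Ω]
    (h3 : ∀ g : G, ∀ a b c : Ω, a ≠ b → b ≠ c → a ≠ c → g • a = a → g • b = b → g • c = c → g = 1)
    (g : G) (hg : g ≠ 1) : Nat.card (fixedBy Ω g) ≤ 2 := by
  classical
  rw [Nat.card_eq_fintype_card]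
  by_contra hcon
  push Not at hcon
  rw [Fintype.two_lt_card_iff] at hcon
  obtain ⟨⟨a, ha⟩, ⟨b, hb⟩, ⟨c, hc⟩, hab, hac, hbc⟩ := hcon
  exact hg (h3 g a b c (fun h => hab (Subtype.ext h)) (fun h => hbc (Subtype.ext h))
    (fun h => hac (Subtype.ext h)) ha hb hc)

/-- parity of the number of fixed points. -/
theorem fixedBy_mod {G Ω : Type*} [Group G] [MulAction G Ω] [Fintype Ω] {p : ℕ} [Fact p.Prime]
    (s : G) (hs : s ^ p = 1) : Fintype.card Ω ≡ Nat.card (fixedBy Ω s) [MOD p] := by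
  classical
  have hp : IsPGroup p (Subgroup.zpowers s) := by
    rintro ⟨x, n, rfl⟩
    refine ⟨1, Subtype.ext ?_⟩
    change (s ^ n) ^ (p ^ 1) = 1
    rw [pow_one, ← zpow_natCast, ← zpow_mul, mul_comm, zpow_mul, zpow_natCast, hs, one_zpow]
  have h := hp.card_modEq_card_fixedPoints Ω
  rw [Nat.card_eq_fintype_card] at h
  have he : fixedPoints (Subgroup.zpowers s) Ω = fixedBy Ω s := by
    ext x
    constructor
    · intro hx
      exact hx ⟨s, Subgroup.mem_zpowers s⟩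
    · rintro hx ⟨y, n, rfl⟩
      have : s ∈ stabilizer G x := hx
      exact (stabilizer G x).zpow_mem this n
  rwa [he] at h

theorem orderOf_conj {G : Type*} [Group G] (g t : G) : orderOf (g * t * g⁻¹) = orderOf t := by
  rw [← MulAut.conj_apply]
  exact MulEquiv.orderOf_eq (MulAut.conj g) t

/-- an involution moving some pair gives an involution swapping any pair -/
theorem swap_of_ne {G Ω : Type*} [Group G] [MulAction G Ω] (h2 : IsMultiplyPretransitive G Ω 2)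
    {a b : Ω} (hab : a ≠ b) (t : G) (ht : orderOf t = 2) {x : Ω} (hx : t • x ≠ x) :
    ∃ g : G, orderOf (g * t * g⁻¹) = 2 ∧ (g * t * g⁻¹) • a = b ∧ (g * t * g⁻¹) • b = a := by
  rw [is_two_pretransitive_iff] at h2
  obtain ⟨g, hg1, hg2⟩ := h2 (Ne.symm hx) hab
  have ht2 : t * t = 1 := by rw [← pow_two, ← ht, pow_orderOf_eq_one]
  refine ⟨g, ?_, ?_, ?_⟩
  · rw [orderOf_conj, ht]
  · rw [← hg1, mul_smul, mul_smul, inv_smul_smul, hg2]
  · rw [← hg2, mul_smul, mul_smul, inv_smul_smul, ← mul_smul t t, ht2, one_smul, hg1]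

theorem card_fixedBy_conj {G Ω : Type*} [Group G] [MulAction G Ω] (g t : G) :
    Nat.card (fixedBy Ω (g * t * g⁻¹)) = Nat.card (fixedBy Ω t) := by
  apply Nat.card_congr
  refine ⟨fun x => ⟨g⁻¹ • x, ?_⟩, fun x => ⟨g • x, ?_⟩, fun x => ?_, fun x => ?_⟩
  · have hx : (g * t * g⁻¹) • (x : Ω) = x := x.2
    change t • g⁻¹ • (x : Ω) = g⁻¹ • x
    rw [mul_smul, mul_smul] at hx
    exact eq_inv_smul_iff.mpr hx
  · have hx : t • (x : Ω) = x := x.2
    change (g * t * g⁻¹) • g • (x : Ω) = g • (x : Ω)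
    rw [mul_smul, mul_smul, inv_smul_smul, hx]
  · exact Subtype.ext (smul_inv_smul g (x : Ω))
  · exact Subtype.ext (inv_smul_smul g (x : Ω))

/-- double counting: for a conjugation-invariant set of elements `T` and a `G`-invariant relation. -/
theorem count_pairs {G Ω : Type*} [Group G] [Finite G] [MulAction G Ω] [Fintype Ω]
    (h2 : IsMultiplyPretransitive G Ω 2) (P : G → Ω → Ω → Prop)
    (hP : ∀ (g t : G) (x y : Ω), P t x y → P (g * t * g⁻¹) (g • x) (g • y))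
    (T : Set G) (hT : ∀ g : G, ∀ t ∈ T, g * t * g⁻¹ ∈ T) (m : ℕ)
    (hm : ∀ t ∈ T, Nat.card {p : Ω × Ω // p.1 ≠ p.2 ∧ P t p.1 p.2} = m) {a b : Ω} (hab : a ≠ b) :
    Nat.card T * m = Fintype.card Ω * (Fintype.card Ω - 1) * Nat.card {t : G // t ∈ T ∧ P t a b} := by
  classical
  have := Fintype.ofFinite G
  have h2' := h2
  rw [is_two_pretransitive_iff] at h2'
  have e1 : Nat.card {q : G × (Ω × Ω) // q.1 ∈ T ∧ q.2.1 ≠ q.2.2 ∧ P q.1 q.2.1 q.2.2}
      = Nat.card T * m := by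
    have E : {q : G × (Ω × Ω) // q.1 ∈ T ∧ q.2.1 ≠ q.2.2 ∧ P q.1 q.2.1 q.2.2} ≃
        (Σ t : T, {p : Ω × Ω // p.1 ≠ p.2 ∧ P t p.1 p.2}) :=
      { toFun := fun q => ⟨⟨q.1.1, q.2.1⟩, ⟨q.1.2, q.2.2⟩⟩
        invFun := fun s => ⟨(s.1.1, s.2.1), s.1.2, s.2.2⟩
        left_inv := fun q => rfl
        right_inv := fun s => rfl }
    rw [Nat.card_congr E, Nat.card_sigma]
    rw [Finset.sum_congr rfl (fun (t : T) _ => hm (t : G) t.2)]
    rw [Finset.sum_const, smul_eq_mul, Finset.card_univ, Nat.card_eq_fintype_card]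
  have e2 : Nat.card {q : G × (Ω × Ω) // q.1 ∈ T ∧ q.2.1 ≠ q.2.2 ∧ P q.1 q.2.1 q.2.2}
      = Fintype.card Ω * (Fintype.card Ω - 1) * Nat.card {t : G // t ∈ T ∧ P t a b} := by
    have E : {q : G × (Ω × Ω) // q.1 ∈ T ∧ q.2.1 ≠ q.2.2 ∧ P q.1 q.2.1 q.2.2} ≃
        (Σ p : {p : Ω × Ω // p.1 ≠ p.2}, {t : G // t ∈ T ∧ P t p.1.1 p.1.2}) :=
      { toFun := fun q => ⟨⟨q.1.2, q.2.2.1⟩, ⟨q.1.1, q.2.1, q.2.2.2⟩⟩
        invFun := fun s => ⟨(s.2.1, s.1.1), s.2.2.1, s.1.2, s.2.2.2⟩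
        left_inv := fun q => rfl
        right_inv := fun s => rfl }
    rw [Nat.card_congr E, Nat.card_sigma]
    have hc : ∀ p : {p : Ω × Ω // p.1 ≠ p.2}, Nat.card {t : G // t ∈ T ∧ P t p.1.1 p.1.2}
        = Nat.card {t : G // t ∈ T ∧ P t a b} := by
      intro p
      obtain ⟨g, hg1, hg2⟩ := h2' p.2 hab
      apply Nat.card_congr
      refine ⟨fun t => ⟨g * t * g⁻¹, hT g t t.2.1, ?_⟩, fun t => ⟨g⁻¹ * t * g⁻¹⁻¹, hT g⁻¹ t t.2.1, ?_⟩,
        fun t => ?_, fun t => ?_⟩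
      · have := hP g t _ _ t.2.2
        rwa [hg1, hg2] at this
      · have := hP g⁻¹ t _ _ t.2.2
        have f1 : g⁻¹ • a = p.1.1 := by rw [← hg1, inv_smul_smul]
        have f2 : g⁻¹ • b = p.1.2 := by rw [← hg2, inv_smul_smul]
        rwa [f1, f2] at this
      · apply Subtype.ext
        change g⁻¹ * (g * (t : G) * g⁻¹) * g⁻¹⁻¹ = t
        group
      · apply Subtype.ext
        change g * (g⁻¹ * (t : G) * g⁻¹⁻¹) * g⁻¹ = t
        group
    rw [Finset.sum_congr rfl (fun p _ => hc p)]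
    rw [Finset.sum_const, smul_eq_mul, Finset.card_univ]
    congr 1
    have h1 : Fintype.card {p : Ω × Ω // p.1 ≠ p.2} = (Finset.univ : Finset Ω).offDiag.card := by
      rw [Fintype.card_subtype]
      congr 1
      ext p
      simp [Finset.mem_offDiag]
    rw [h1, Finset.offDiag_card, Finset.card_univ, Nat.mul_sub, mul_one]
  rw [← e1, e2]

/-- number of ordered pairs of distinct fixed points -/
theorem card_fixed_pairs {G Ω : Type*} [Group G] [MulAction G Ω] [Fintype Ω] (t : G) :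
    Nat.card {p : Ω × Ω // p.1 ≠ p.2 ∧ (t • p.1 = p.1 ∧ t • p.2 = p.2)}
      = Nat.card (fixedBy Ω t) * (Nat.card (fixedBy Ω t) - 1) := by
  classical
  have e : {p : Ω × Ω // p.1 ≠ p.2 ∧ (t • p.1 = p.1 ∧ t • p.2 = p.2)} ≃
      {p : (fixedBy Ω t) × (fixedBy Ω t) // p.1 ≠ p.2} :=
    { toFun := fun p => ⟨(⟨p.1.1, p.2.2.1⟩, ⟨p.1.2, p.2.2.2⟩), fun h => p.2.1 (congrArg Subtype.val h)⟩
      invFun := fun p => ⟨(p.1.1.1, p.1.2.1), fun h => p.2 (Subtype.ext h), p.1.1.2, p.1.2.2⟩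
      left_inv := fun p => rfl
      right_inv := fun p => rfl }
  rw [Nat.card_congr e, Nat.card_eq_fintype_card, Nat.card_eq_fintype_card]
  have h1 : Fintype.card {p : (fixedBy Ω t) × (fixedBy Ω t) // p.1 ≠ p.2}
      = (Finset.univ : Finset (fixedBy Ω t)).offDiag.card := by
    rw [Fintype.card_subtype]
    congr 1
    ext p
    simp [Finset.mem_offDiag]
  rw [h1, Finset.offDiag_card, Finset.card_univ, Nat.mul_sub, mul_one]

/-- number of moved points -/
theorem card_moved {G Ω : Type*} [Group G] [MulAction G Ω] [Fintype Ω] (t : G) :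
    Nat.card {x : Ω // t • x ≠ x} = Fintype.card Ω - Nat.card (fixedBy Ω t) := by
  classical
  rw [Nat.card_eq_fintype_card, Nat.card_eq_fintype_card, Fintype.card_subtype_compl]
  rfl

end Cfsg.Agent.LibZG1
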