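import Cfsg.Agent.EqBase
import Cfsg.Agent.LibExc
/-!
# Irreducible characters up to sign (helper16)
-/
set_option autoImplicit false
set_option linter.all false
open Cfsg CfsgLib.CharBasic CfsgLib.CharIndA CfsgLib.CharNorm
open scoped ComplexConjugate
namespace CfsgLib.Sgn

universe u
variable {G : Type u} [Group G] [Fintype G]

/-- irreducible up to sign -/
def SIrr (x : G → ℂ) : Prop := IsIrrCharacter G x ∨ IsIrrCharacter G (-x)

theorem SIrr.exists_sign {x : G → ℂ} (h : SIrr x) : ∃ (ε : ℂ) (χ : G → ℂ), (ε = 1 ∨ ε = -1) ∧ IsIrrCharacter G χ ∧ x = ε • χ := by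
  rcases h with h | h
  · exact ⟨1, x, Or.inl rfl, h, (one_smul _ _).symm⟩
  · exact ⟨-1, -x, Or.inr rfl, h, by simp⟩

theorem SIrr.neg {x : G → ℂ} (h : SIrr x) : SIrr (-x) := by
  rcases h with h | h
  · right; rwa [neg_neg]
  · left; exact h

theorem SIrr.gen {x : G → ℂ} (h : SIrr x) : IsGeneralizedCharacter G x := by
  rcases h with h | h
  · exact gen_of_irr h
  · have := gen_neg (gen_of_irr h)
    rwa [neg_neg] at this

theorem SIrr.classFun {x : G → ℂ} (h : SIrr x) : IsClassFunction G x := gen_classFun h.gen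

theorem SIrr.one_ne {x : G → ℂ} (h : SIrr x) : x 1 ≠ 0 := by
  rcases h with h | h
  · exact irr_one_ne_zero h
  · have := irr_one_ne_zero h
    simpa using this

theorem SIrr.self {x : G → ℂ} (h : SIrr x) : classInner x x = 1 := by
  obtain ⟨ε, χ, hε, hχ, rfl⟩ := h.exists_sign
  rw [ci_smul_l, ci_smul_r, irr_inner_self hχ]
  rcases hε with rfl | rfl <;> simp

/-- trichotomy -/
theorem SIrr.inner {x y : G → ℂ} (h : SIrr x) (h' : SIrr y) :
    classInner x y = 0 ∨ (x = y ∧ classInner x y = 1) ∨ (x = -y ∧ classInner x y = -1) := by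
  obtain ⟨ε, χ, hε, hχ, rfl⟩ := h.exists_sign
  obtain ⟨δ, ψ, hδ, hψ, rfl⟩ := h'.exists_sign
  by_cases he : χ = ψ
  · subst he
    right
    rw [ci_smul_l, ci_smul_r, irr_inner_self hχ]
    rcases hε with rfl | rfl <;> rcases hδ with rfl | rfl <;> simp
  · left
    rw [ci_smul_l, ci_smul_r, irr_inner_ne hχ hψ he, mul_zero, mul_zero]

theorem SIrr.inner_int {x y : G → ℂ} (h : SIrr x) (h' : SIrr y) :
    classInner x y = 0 ∨ classInner x y = 1 ∨ classInner x y = -1 := by
  rcases h.inner h' with h | h | h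
  · exact Or.inl h
  · exact Or.inr (Or.inl h.2)
  · exact Or.inr (Or.inr h.2)

end CfsgLib.Sgn
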