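import Cfsg.Agent.EqBase
import Cfsg.Agent.LibSgn
import Cfsg.Prelude.Def_OddOrderChar
/-!
# Coherence: basic tools (helper16)
-/
set_option autoImplicit false
set_option linter.all false
open Cfsg CfsgLib.CharBasic CfsgLib.CharIndA CfsgLib.CharNorm CfsgLib.Sgn
open scoped ComplexConjugate
namespace CfsgLib.Coh

universe u v

section Span
variable {X : Type u} {S T : Set (X → ℂ)} {α β : X → ℂ}

theorem z_sub : S ⊆ zspan S := Submodule.subset_span
theorem z_zero : (0 : X → ℂ) ∈ zspan S := (Submodule.span ℤ S).zero_mem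
theorem z_add (h : α ∈ zspan S) (h' : β ∈ zspan S) : α + β ∈ zspan S := (Submodule.span ℤ S).add_mem h h'
theorem z_neg (h : α ∈ zspan S) : -α ∈ zspan S := (Submodule.span ℤ S).neg_mem h
theorem z_minus (h : α ∈ zspan S) (h' : β ∈ zspan S) : α - β ∈ zspan S := (Submodule.span ℤ S).sub_mem h h'
theorem z_smul (n : ℤ) (h : α ∈ zspan S) : n • α ∈ zspan S := (Submodule.span ℤ S).smul_mem n h
theorem z_mono (h : S ⊆ T) : zspan S ⊆ zspan T := Submodule.span_mono h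
theorem z_sum {ι : Type*} (s : Finset ι) (f : ι → X → ℂ) (h : ∀ i ∈ s, f i ∈ zspan S) : ∑ i ∈ s, f i ∈ zspan S :=
  (Submodule.span ℤ S).sum_mem h
theorem z_nsmul (n : ℕ) (h : α ∈ zspan S) : n • α ∈ zspan S := (Submodule.span ℤ S).smul_of_tower_mem n h

theorem z_ind {p : (X → ℂ) → Prop} (h : α ∈ zspan S) (hs : ∀ χ ∈ S, p χ) (h0 : p 0)
    (ha : ∀ α β, α ∈ zspan S → β ∈ zspan S → p α → p β → p (α + β)) (hm : ∀ (n : ℤ) α, α ∈ zspan S → p α → p (n • α)) : p α := by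
  have : α ∈ Submodule.span ℤ S := h
  induction this using Submodule.span_induction with
  | mem x hx => exact hs x hx
  | zero => exact h0
  | add x y hx hy h1 h2 => exact ha x y hx hy (h1 hx) (h2 hy)
  | smul n x hx h1 => exact hm n x hx (h1 hx)

/-- elements of `zspan S` vanishing at one -/
theorem mem_z1 [One X] : α ∈ zspanOn S {1}ᶜ ↔ α ∈ zspan S ∧ α 1 = 0 := by
  constructor
  · rintro ⟨h1, h2⟩
    exact ⟨h1, h2 1 (by simp)⟩
  · rintro ⟨h1, h2⟩
    refine ⟨h1, fun x hx => ?_⟩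
    have : x = 1 := by simpa using hx
    rw [this]; exact h2

theorem z1_zero [One X] : (0 : X → ℂ) ∈ zspanOn S {1}ᶜ := mem_z1.mpr ⟨z_zero, rfl⟩
theorem z1_add [One X] (h : α ∈ zspanOn S {1}ᶜ) (h' : β ∈ zspanOn S {1}ᶜ) : α + β ∈ zspanOn S {1}ᶜ := by
  rw [mem_z1] at h h' ⊢
  exact ⟨z_add h.1 h'.1, by rw [Pi.add_apply, h.2, h'.2, add_zero]⟩
theorem z1_neg [One X] (h : α ∈ zspanOn S {1}ᶜ) : -α ∈ zspanOn S {1}ᶜ := by
  rw [mem_z1] at h ⊢
  exact ⟨z_neg h.1, by rw [Pi.neg_apply, h.2, neg_zero]⟩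
theorem z1_minus [One X] (h : α ∈ zspanOn S {1}ᶜ) (h' : β ∈ zspanOn S {1}ᶜ) : α - β ∈ zspanOn S {1}ᶜ := by
  rw [sub_eq_add_neg]; exact z1_add h (z1_neg h')
theorem z1_smul [One X] (n : ℤ) (h : α ∈ zspanOn S {1}ᶜ) : n • α ∈ zspanOn S {1}ᶜ := by
  rw [mem_z1] at h ⊢
  exact ⟨z_smul n h.1, by rw [Pi.smul_apply, h.2, smul_zero]⟩
theorem z1_mono [One X] (h : S ⊆ T) : zspanOn S {1}ᶜ ⊆ zspanOn T {1}ᶜ := by
  intro α hα
  rw [mem_z1] at hα ⊢
  exact ⟨z_mono h hα.1, hα.2⟩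

/-- predicate: a set closed under the `ℤ`-module operations -/
structure ZMod' (E : Set (X → ℂ)) : Prop where
  zero : (0 : X → ℂ) ∈ E
  add : ∀ α ∈ E, ∀ β ∈ E, α + β ∈ E
  smul : ∀ (n : ℤ), ∀ α ∈ E, n • α ∈ E

theorem zm_span : ZMod' (zspan S) := ⟨z_zero, fun _ h _ h' => z_add h h', fun n _ h => z_smul n h⟩
theorem zm_on [One X] : ZMod' (zspanOn S {1}ᶜ) := ⟨z1_zero, fun _ h _ h' => z1_add h h', fun n _ h => z1_smul n h⟩
end Span

section Iso
variable {L : Type u} [Group L] [Fintype L] {G : Type v} [Group G] [Fintype G] {E : Set (L → ℂ)} {τ : (L → ℂ) → (G → ℂ)}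

theorem iso_zero (hE : ZMod' E) (h : IsLinearIsometryOn E τ) : τ 0 = 0 := by
  have := h.2.1 0 hE.zero 0
  rw [zero_smul, zero_smul] at this
  exact this

theorem iso_add (h : IsLinearIsometryOn E τ) {α β : L → ℂ} (hα : α ∈ E) (hβ : β ∈ E) : τ (α + β) = τ α + τ β := h.1 α hα β hβ

theorem iso_smul (h : IsLinearIsometryOn E τ) {α : L → ℂ} (hα : α ∈ E) (n : ℤ) : τ (n • α) = n • τ α := h.2.1 α hα n

theorem iso_neg (h : IsLinearIsometryOn E τ) {α : L → ℂ} (hα : α ∈ E) : τ (-α) = - τ α := by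
  have := h.2.1 α hα (-1)
  rwa [neg_one_smul, neg_one_smul] at this

theorem zm_neg (hE : ZMod' E) {α : L → ℂ} (hα : α ∈ E) : -α ∈ E := by
  have := hE.smul (-1) α hα
  rwa [neg_one_smul] at this

theorem iso_sub (hE : ZMod' E) (h : IsLinearIsometryOn E τ) {α β : L → ℂ} (hα : α ∈ E) (hβ : β ∈ E) :
    τ (α - β) = τ α - τ β := by
  rw [sub_eq_add_neg, iso_add h hα (zm_neg hE hβ), iso_neg h hβ, sub_eq_add_neg]

theorem zm_sum (hE : ZMod' E) {ι : Type*} (s : Finset ι) (f : ι → L → ℂ) (hf : ∀ i ∈ s, f i ∈ E) : ∑ i ∈ s, f i ∈ E := by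
  classical
  induction s using Finset.induction_on with
  | empty => simpa using hE.zero
  | insert a s ha ih =>
    rw [Finset.sum_insert ha]
    exact hE.add _ (hf a (Finset.mem_insert_self a s)) _ (ih fun i hi => hf i (Finset.mem_insert_of_mem hi))

theorem iso_sum (hE : ZMod' E) (h : IsLinearIsometryOn E τ) {ι : Type*} (s : Finset ι) (f : ι → L → ℂ) (hf : ∀ i ∈ s, f i ∈ E) :
    τ (∑ i ∈ s, f i) = ∑ i ∈ s, τ (f i) := by
  classical
  induction s using Finset.induction_on with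
  | empty => simpa using iso_zero hE h
  | insert a s ha ih =>
    have h1 : ∀ i ∈ s, f i ∈ E := fun i hi => hf i (Finset.mem_insert_of_mem hi)
    rw [Finset.sum_insert ha, Finset.sum_insert ha, iso_add h (hf a (Finset.mem_insert_self a s)) (zm_sum hE s f h1), ih h1]

theorem iso_inner (h : IsLinearIsometryOn E τ) {α β : L → ℂ} (hα : α ∈ E) (hβ : β ∈ E) :
    classInner (τ α) (τ β) = classInner α β := h.2.2.1 α hα β hβ

theorem iso_gen (h : IsLinearIsometryOn E τ) {α : L → ℂ} (hα : α ∈ E) : IsGeneralizedCharacter G (τ α) := h.2.2.2 α hα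

theorem iso_mono {E' : Set (L → ℂ)} (h : IsLinearIsometryOn E τ) (hE : E' ⊆ E) : IsLinearIsometryOn E' τ :=
  ⟨fun α hα β hβ => h.1 α (hE hα) β (hE hβ), fun α hα n => h.2.1 α (hE hα) n, fun α hα β hβ => h.2.2.1 α (hE hα) β (hE hβ),
    fun α hα => h.2.2.2 α (hE hα)⟩

/-- an orthogonal set of nonzero vectors is finite -/
theorem orth_finite {S : Set (L → ℂ)} (horth : ∀ χ ∈ S, ∀ φ ∈ S, χ ≠ φ → classInner χ φ = 0)
    (hne : ∀ χ ∈ S, classInner χ χ ≠ 0) : S.Finite := by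
  have hli : LinearIndependent ℂ (fun χ : S => (χ : L → ℂ)) := by
    rw [linearIndependent_iff']
    intro s c hc χ hχ
    have h1 := congrArg (fun f => classInner f (χ : L → ℂ)) hc
    beta_reduce at h1
    rw [ci_sum_l, ci_zero_l, Finset.sum_eq_single χ] at h1
    · rw [ci_smul_l] at h1
      exact (mul_eq_zero.mp h1).resolve_right (hne χ χ.2)
    · intro φ _ hφ
      rw [ci_smul_l, horth φ φ.2 χ χ.2 (fun h => hφ (Subtype.ext h)), mul_zero]
    · intro h; exact absurd hχ h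
  have := hli.finite
  exact Set.toFinite S

/-- linear extension of an isometric assignment on an orthogonal set -/
theorem build {S : Set (L → ℂ)} (horth : ∀ χ ∈ S, ∀ φ ∈ S, χ ≠ φ → classInner χ φ = 0)
    (hne : ∀ χ ∈ S, classInner χ χ ≠ 0) (f : (L → ℂ) → (G → ℂ)) (hgen : ∀ χ ∈ S, IsGeneralizedCharacter G (f χ))
    (hiso : ∀ χ ∈ S, ∀ φ ∈ S, classInner (f χ) (f φ) = classInner χ φ) :
    ∃ τ₁ : (L → ℂ) → (G → ℂ), IsLinearIsometryOn (zspan S) τ₁ ∧ (∀ χ ∈ S, τ₁ χ = f χ) := by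
  classical
  have hfin := orth_finite horth hne
  let s := hfin.toFinset
  have hs : ∀ {χ}, χ ∈ s ↔ χ ∈ S := fun {χ} => Set.Finite.mem_toFinset hfin
  let τ₁ : (L → ℂ) → (G → ℂ) := fun α => ∑ χ ∈ s, (classInner α χ / classInner χ χ) • f χ
  have hadd : ∀ α β, τ₁ (α + β) = τ₁ α + τ₁ β := by
    intro α β
    simp only [τ₁]
    rw [← Finset.sum_add_distrib]
    refine Finset.sum_congr rfl fun χ _ => ?_
    rw [ci_add_l, add_div, add_smul]
  have hsmul : ∀ (n : ℤ) α, τ₁ (n • α) = n • τ₁ α := by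
    intro n α
    simp only [τ₁]
    rw [Finset.smul_sum]
    refine Finset.sum_congr rfl fun χ _ => ?_
    have e : (n • α : L → ℂ) = (n : ℂ) • α := by ext x; simp
    rw [e, ci_smul_l, mul_div_assoc, mul_smul]
    ext x; simp
  have hval : ∀ χ ∈ S, τ₁ χ = f χ := by
    intro χ hχ
    simp only [τ₁]
    rw [Finset.sum_eq_single χ]
    · rw [div_self (hne χ hχ), one_smul]
    · intro φ hφ hne'
      rw [horth χ hχ φ (hs.mp hφ) hne'.symm, zero_div, zero_smul]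
    · intro h; exact absurd (hs.mpr hχ) h
  have hzero : τ₁ 0 = 0 := by
    simp only [τ₁]
    apply Finset.sum_eq_zero
    intro χ _
    rw [ci_zero_l, zero_div, zero_smul]
  refine ⟨τ₁, ⟨fun α _ β _ => hadd α β, fun α _ n => hsmul n α, ?_, ?_⟩, hval⟩
  · intro α hα β hβ
    refine z_ind (p := fun α => classInner (τ₁ α) (τ₁ β) = classInner α β) hα ?_ ?_ ?_ ?_
    · intro χ hχ
      refine z_ind (p := fun β => classInner (τ₁ χ) (τ₁ β) = classInner χ β) hβ ?_ ?_ ?_ ?_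
      · intro φ hφ
        rw [hval χ hχ, hval φ hφ, hiso χ hχ φ hφ]
      · rw [hzero, ci_zero_r, ci_zero_r]
      · intro a b _ _ h1 h2
        rw [hadd, ci_add_r, ci_add_r, h1, h2]
      · intro n a _ h1
        have e1 : (n • a : L → ℂ) = (n : ℂ) • a := by ext x; simp
        have e2 : (n • τ₁ a : G → ℂ) = (n : ℂ) • τ₁ a := by ext x; simp
        rw [hsmul, e1, e2, ci_smul_r, ci_smul_r, h1]
    · rw [hzero, ci_zero_l, ci_zero_l]
    · intro a b _ _ h1 h2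
      rw [hadd, ci_add_l, ci_add_l, h1, h2]
    · intro n a _ h1
      have e1 : (n • a : L → ℂ) = (n : ℂ) • a := by ext x; simp
      have e2 : (n • τ₁ a : G → ℂ) = (n : ℂ) • τ₁ a := by ext x; simp
      rw [hsmul, e1, e2, ci_smul_l, ci_smul_l, h1]
  · intro α hα
    refine z_ind (p := fun α => IsGeneralizedCharacter G (τ₁ α)) hα ?_ ?_ ?_ ?_
    · intro χ hχ; rw [hval χ hχ]; exact hgen χ hχ
    · rw [hzero]; exact gen_zero
    · intro a b _ _ h1 h2
      rw [hadd]; exact gen_add h1 h2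
    · intro n a _ h1
      rw [hsmul]; exact gen_zsmul h1 n

end Iso

end CfsgLib.Coh
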