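import Cfsg.Agent.EqBase
import Cfsg.Agent.LibCoh
/-!
# Coherence: projections, Lemma 5.4, agreement, uniform degree (helper16)
-/
set_option autoImplicit false
set_option linter.all false
open Cfsg CfsgLib.CharBasic CfsgLib.CharIndA CfsgLib.CharNorm CfsgLib.Sgn
open scoped ComplexConjugate
namespace CfsgLib.Coh

universe u v
variable {L : Type u} [Group L] [Fintype L] {G : Type v} [Group G] [Fintype G]

section Proj

/-- orthonormal finite sets -/
def ON (E : Finset (G → ℂ)) : Prop := (∀ α ∈ E, classInner α α = 1) ∧ ∀ α ∈ E, ∀ β ∈ E, α ≠ β → classInner α β = 0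

/-- orthogonal projection -/
noncomputable def proj (E : Finset (G → ℂ)) (θ : G → ℂ) : G → ℂ := ∑ α ∈ E, classInner θ α • α

variable {E : Finset (G → ℂ)}

theorem proj_inner (hE : ON E) (θ : G → ℂ) {β : G → ℂ} (hβ : β ∈ E) : classInner (proj E θ) β = classInner θ β := by
  classical
  unfold proj
  rw [ci_sum_l, Finset.sum_eq_single β]
  · rw [ci_smul_l, hE.1 β hβ, mul_one]
  · intro α hα hne
    rw [ci_smul_l, hE.2 α hα β hβ hne, mul_zero]
  · intro h; exact absurd hβ h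

theorem proj_orth (θ : G → ℂ) {β : G → ℂ} (hβ : ∀ α ∈ E, classInner α β = 0) : classInner (proj E θ) β = 0 := by
  unfold proj
  rw [ci_sum_l]
  exact Finset.sum_eq_zero fun α hα => by rw [ci_smul_l, hβ α hα, mul_zero]

theorem inner_projr (θ η : G → ℂ) : classInner θ (proj E η) = ∑ α ∈ E, classInner θ α * conj (classInner η α) := by
  unfold proj
  rw [ci_sum_r]
  exact Finset.sum_congr rfl fun α _ => by rw [ci_smul_r, mul_comm]

theorem normSq_c (z : ℂ) : z * conj z = ((‖z‖ ^ 2 : ℝ) : ℂ) := by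
  rw [Complex.mul_conj, Complex.normSq_eq_norm_sq]

theorem inner_proj_self (θ : G → ℂ) : classInner θ (proj E θ) = ((∑ α ∈ E, ‖classInner θ α‖ ^ 2 : ℝ) : ℂ) := by
  rw [inner_projr]
  push_cast
  exact Finset.sum_congr rfl fun α _ => by rw [normSq_c]; push_cast; rfl

theorem proj_norm (hE : ON E) (θ : G → ℂ) : classInner (proj E θ) (proj E θ) = ((∑ α ∈ E, ‖classInner θ α‖ ^ 2 : ℝ) : ℂ) := by
  rw [← inner_proj_self, inner_projr, inner_projr]
  exact Finset.sum_congr rfl fun α hα => by rw [proj_inner hE θ hα]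

theorem proj_compl_norm (hE : ON E) (θ : G → ℂ) : classInner (θ - proj E θ) (θ - proj E θ) =
    classInner θ θ - ((∑ α ∈ E, ‖classInner θ α‖ ^ 2 : ℝ) : ℂ) := by
  have h1 := inner_proj_self (E := E) θ
  have h2 : classInner (proj E θ) θ = ((∑ α ∈ E, ‖classInner θ α‖ ^ 2 : ℝ) : ℂ) := by
    rw [← ci_conj, h1, Complex.conj_ofReal]
  rw [ci_sub_l, ci_sub_r, ci_sub_r, h1, h2, proj_norm hE]
  ring

theorem self_real (θ : G → ℂ) : classInner θ θ = (((classInner θ θ).re : ℝ) : ℂ) ∧ 0 ≤ (classInner θ θ).re := by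
  rw [inner_self_eq]
  refine ⟨by rw [Complex.ofReal_re], ?_⟩
  rw [Complex.ofReal_re]
  positivity

/-- Bessel's inequality -/
theorem bessel (hE : ON E) (θ : G → ℂ) : ∑ α ∈ E, ‖classInner θ α‖ ^ 2 ≤ (classInner θ θ).re := by
  have h1 := (self_real (θ - proj E θ)).2
  rw [proj_compl_norm hE, Complex.sub_re, Complex.ofReal_re] at h1
  linarith

/-- equality in Bessel's inequality -/
theorem bessel_eq (hE : ON E) (θ : G → ℂ) (h : (classInner θ θ).re ≤ ∑ α ∈ E, ‖classInner θ α‖ ^ 2) : θ = proj E θ := by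
  have h1 := proj_compl_norm hE θ
  have h2 := (self_real θ).1
  have h3 : (classInner θ θ).re = ∑ α ∈ E, ‖classInner θ α‖ ^ 2 := le_antisymm h (bessel hE θ)
  rw [h2, h3, sub_self] at h1
  exact sub_eq_zero.mp (inner_self_eq_zero h1)

theorem proj_gen {θ : G → ℂ} (hθ : IsGeneralizedCharacter G θ) (hE : ∀ α ∈ E, IsGeneralizedCharacter G α) :
    IsGeneralizedCharacter G (proj E θ) := by
  unfold proj
  apply gen_sum
  intro α hα
  obtain ⟨n, hn⟩ := gen_inner_int hθ (hE α hα)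
  rw [hn]
  exact gen_intsmul (hE α hα) n

theorem ON.union [DecidableEq (G → ℂ)] {E' : Finset (G → ℂ)} (hE : ON E) (hE' : ON E') (h : ∀ α ∈ E, ∀ β ∈ E', classInner α β = 0) :
    ON (E ∪ E') := by
  refine ⟨fun α hα => ?_, fun α hα β hβ hne => ?_⟩
  · rcases Finset.mem_union.mp hα with h1 | h1
    exacts [hE.1 α h1, hE'.1 α h1]
  · rcases Finset.mem_union.mp hα with h1 | h1 <;> rcases Finset.mem_union.mp hβ with h2 | h2
    · exact hE.2 α h1 β h2 hne
    · exact h α h1 β h2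
    · exact ci_zero_comm (h β h2 α h1)
    · exact hE'.2 α h1 β h2 hne

theorem disj_of_orth [DecidableEq (G → ℂ)] {E' : Finset (G → ℂ)} (hE : ON E) (h : ∀ α ∈ E, ∀ β ∈ E', classInner α β = 0) : Disjoint E E' := by
  rw [Finset.disjoint_left]
  intro α h1 h2
  have := h α h1 α h2
  rw [hE.1 α h1] at this
  exact one_ne_zero this

theorem proj_union [DecidableEq (G → ℂ)] {E' : Finset (G → ℂ)} (h : Disjoint E E') (θ : G → ℂ) : proj (E ∪ E') θ = proj E θ + proj E' θ := by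
  unfold proj
  rw [Finset.sum_union h]

end Proj

section Sys
variable {S : Set (L → ℂ)} {τ : (L → ℂ) → (G → ℂ)} {R : (L → ℂ) → Finset (G → ℂ)}

theorem conj_conj (χ : L → ℂ) : conjFun (conjFun χ) = χ := by
  ext x; simp [conjFun]

theorem conj_one {χ : L → ℂ} (h : IsCharacter L χ) : conjFun χ 1 = χ 1 := by
  obtain ⟨n, hn⟩ := char_one_nat h
  simp only [conjFun, hn]; simp

theorem sys_ne (hS : IsCoherenceSystem S τ R) {χ : L → ℂ} (hχ : χ ∈ S) : classInner χ χ ≠ 0 := by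
  intro h
  have h0 := inner_self_eq_zero h
  apply hS.conj_ne χ hχ
  rw [h0]; ext x; simp [conjFun]

theorem sys_ne_one (hS : IsCoherenceSystem S τ R) {χ : L → ℂ} (hχ : χ ∈ S) : χ 1 ≠ 0 := by
  intro h
  have := CfsgLib.Exc.degree_zero (hS.isCharacter χ hχ) h
  apply sys_ne hS hχ
  rw [this, ci_zero_l]

theorem sys_nat (hS : IsCoherenceSystem S τ R) {χ : L → ℂ} (hχ : χ ∈ S) : ∃ n : ℕ, 0 < n ∧ classInner χ χ = n := by
  obtain ⟨n, hn⟩ := char_mult (hS.isCharacter χ hχ) (hS.isCharacter χ hχ)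
  refine ⟨n, ?_, hn⟩
  rcases Nat.eq_zero_or_pos n with h | h
  · exfalso
    rw [h, Nat.cast_zero] at hn
    exact sys_ne hS hχ hn
  · exact h

theorem sys_ON (hS : IsCoherenceSystem S τ R) {χ : L → ℂ} (hχ : χ ∈ S) : ON (R χ) :=
  ⟨fun α hα => by rw [hS.orthonormal χ hχ α hα α hα, if_pos rfl],
    fun α hα β hβ hne => by rw [hS.orthonormal χ hχ α hα β hβ, if_neg hne]⟩

theorem sys_R_orth (hS : IsCoherenceSystem S τ R) {χ φ : L → ℂ} (hχ : χ ∈ S) (hφ : φ ∈ S) (h1 : φ ≠ χ) (h2 : φ ≠ conjFun χ) :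
    ∀ α ∈ R φ, ∀ β ∈ R χ, classInner α β = 0 :=
  hS.disjoint χ hχ φ hφ (hS.orthogonal φ hφ χ hχ h1) (hS.orthogonal φ hφ _ (hS.conj_mem χ hχ) h2)

theorem sys_conj_mem (hS : IsCoherenceSystem S τ R) {χ : L → ℂ} (hχ : χ ∈ S) : χ - conjFun χ ∈ zspanOn S {1}ᶜ := by
  rw [mem_z1]
  refine ⟨z_minus (z_sub hχ) (z_sub (hS.conj_mem χ hχ)), ?_⟩
  rw [Pi.sub_apply, conj_one (hS.isCharacter χ hχ), sub_self]

theorem sys_conj_inner (hS : IsCoherenceSystem S τ R) {χ : L → ℂ} (hχ : χ ∈ S) : classInner χ (conjFun χ) = 0 :=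
  hS.orthogonal χ hχ _ (hS.conj_mem χ hχ) (hS.conj_ne χ hχ).symm

theorem sys_conj_norm {χ : L → ℂ} (hχ : IsCharacter L χ) : classInner (conjFun χ) (conjFun χ) = classInner χ χ := by
  have := inner_conj_conj χ χ
  have h2 : classInner (conjFun χ) (conjFun χ) = conj (classInner χ χ) := this
  rw [h2, (self_real χ).1, Complex.conj_ofReal]

/-- Lemma 5.4: `θ` is a virtual character with `⟨θ, τ(χ - χ̄)⟩ = ⟨χ,χ⟩` -/
theorem lem54 (hS : IsCoherenceSystem S τ R) {χ : L → ℂ} (hχ : χ ∈ S) {θ : G → ℂ} (hθ : IsGeneralizedCharacter G θ)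
    (h : classInner θ (τ (χ - conjFun χ)) = classInner χ χ) :
    (classInner χ χ).re ≤ ∑ α ∈ R χ, ‖classInner θ α‖ ^ 2 ∧
    (∑ α ∈ R χ, classInner θ α = classInner χ χ) ∧
    (∑ α ∈ R χ, ‖classInner θ α‖ ^ 2 ≤ (classInner χ χ).re → ∑ α ∈ R χ, ‖classInner θ α‖ ^ 2 = (classInner χ χ).re ∧
      ∀ α ∈ R χ, classInner θ α = 0 ∨ classInner θ α = 1) := by
  have ha : ∀ α, ∃ n : ℤ, α ∈ R χ → classInner θ α = n := by
    intro α
    by_cases hα : α ∈ R χ
    · obtain ⟨n, hn⟩ := gen_inner_int hθ (hS.virtual χ hχ α hα)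
      exact ⟨n, fun _ => hn⟩
    · exact ⟨0, fun h => absurd h hα⟩
  choose a ha using ha
  have hsum : ∑ α ∈ R χ, classInner θ α = classInner χ χ := by
    rw [← ci_sum_r, ← hS.sum_eq χ hχ, h]
  have hsumZ : ((∑ α ∈ R χ, a α : ℤ) : ℂ) = classInner χ χ := by
    rw [← hsum]; push_cast
    exact Finset.sum_congr rfl fun α hα => (ha α hα).symm
  have hnorm : ∑ α ∈ R χ, ‖classInner θ α‖ ^ 2 = ((∑ α ∈ R χ, a α ^ 2 : ℤ) : ℝ) := by
    push_cast
    refine Finset.sum_congr rfl fun α hα => ?_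
    rw [ha α hα]
    simp
  have hre : (classInner χ χ).re = ((∑ α ∈ R χ, a α : ℤ) : ℝ) := by
    rw [← hsumZ, Complex.intCast_re]
  have hle : ∀ α ∈ R χ, a α ≤ a α ^ 2 := fun α _ => Int.le_self_sq _
  have hle' : ∑ α ∈ R χ, a α ≤ ∑ α ∈ R χ, a α ^ 2 := Finset.sum_le_sum hle
  refine ⟨by rw [hnorm, hre]; exact_mod_cast hle', hsum, fun hineq => ?_⟩
  rw [hnorm, hre] at hineq
  have h3 : ∑ α ∈ R χ, a α ^ 2 ≤ ∑ α ∈ R χ, a α := by exact_mod_cast hineq
  have h4 := le_antisymm hle' h3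
  refine ⟨by rw [hnorm, hre, h4], fun α hα => ?_⟩
  have h5 := (Finset.sum_eq_sum_iff_of_le hle).mp h4 α hα
  have h6 : a α * (a α - 1) = 0 := by rw [mul_sub, mul_one, ← pow_two, ← h5, sub_self]
  rw [ha α hα]
  rcases mul_eq_zero.mp h6 with h | h
  · left; rw [h]; simp
  · right; rw [sub_eq_zero.mp h]; simp

end Sys

section Agree

/-- agreement with `τ` on the degree zero part -/
theorem agree {S₁ S' : Set (L → ℂ)} (hsub : S₁ ⊆ S') {τ τ₁ τ₂ : (L → ℂ) → (G → ℂ)}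
    (hτ : IsLinearIsometryOn (zspanOn S' {1}ᶜ) τ) (hτ₁ : IsLinearIsometryOn (zspan S₁) τ₁)
    (hag : ∀ β ∈ zspanOn S₁ {1}ᶜ, τ₁ β = τ β) (hτ₂ : IsLinearIsometryOn (zspan S') τ₂)
    (h : ∀ φ ∈ S', ∃ β ∈ zspan S₁, φ 1 = β 1 ∧ τ₂ φ = τ₁ β + τ (φ - β)) :
    ∀ α ∈ zspanOn S' {1}ᶜ, τ₂ α = τ α := by
  have key : ∀ α ∈ zspan S', ∃ β ∈ zspan S₁, α 1 = β 1 ∧ τ₂ α = τ₁ β + τ (α - β) := by
    intro α hα
    refine z_ind (p := fun α => ∃ β ∈ zspan S₁, α 1 = β 1 ∧ τ₂ α = τ₁ β + τ (α - β)) hα h ?_ ?_ ?_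
    · refine ⟨0, z_zero, rfl, ?_⟩
      rw [iso_zero zm_span hτ₂, iso_zero zm_span hτ₁, sub_zero, iso_zero zm_on hτ, add_zero]
    · rintro a b ha hb ⟨β, hβ, h1, h2⟩ ⟨γ, hγ, h3, h4⟩
      refine ⟨β + γ, z_add hβ hγ, by rw [Pi.add_apply, Pi.add_apply, h1, h3], ?_⟩
      have e : a + b - (β + γ) = (a - β) + (b - γ) := by abel
      have m1 : a - β ∈ zspanOn S' {1}ᶜ := mem_z1.mpr ⟨z_minus ha (z_mono hsub hβ), by rw [Pi.sub_apply, h1, sub_self]⟩
      have m2 : b - γ ∈ zspanOn S' {1}ᶜ := mem_z1.mpr ⟨z_minus hb (z_mono hsub hγ), by rw [Pi.sub_apply, h3, sub_self]⟩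
      rw [e, iso_add hτ m1 m2, iso_add hτ₁ hβ hγ, iso_add hτ₂ ha hb, h2, h4]
      abel
    · rintro n a ha ⟨β, hβ, h1, h2⟩
      refine ⟨n • β, z_smul n hβ, by rw [Pi.smul_apply, Pi.smul_apply, h1], ?_⟩
      have m1 : a - β ∈ zspanOn S' {1}ᶜ := mem_z1.mpr ⟨z_minus ha (z_mono hsub hβ), by rw [Pi.sub_apply, h1, sub_self]⟩
      rw [← smul_sub, iso_smul hτ m1, iso_smul hτ₁ hβ, iso_smul hτ₂ ha, h2, smul_add]
  intro α hα
  obtain ⟨h1, h2⟩ := mem_z1.mp hα
  obtain ⟨β, hβ, h3, h4⟩ := key α h1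
  have m1 : β ∈ zspanOn S₁ {1}ᶜ := mem_z1.mpr ⟨hβ, by rw [← h3, h2]⟩
  have m1' := z1_mono hsub m1
  rw [h4, hag β m1, ← iso_add hτ m1' (z1_minus hα m1'), add_sub_cancel]

end Agree

section Uniform
variable {S : Set (L → ℂ)} {τ : (L → ℂ) → (G → ℂ)} {R : (L → ℂ) → Finset (G → ℂ)}

/-- the decomposition of `τ (χ - φ)` when `χ` and `φ` have the same degree -/
theorem uni_decomp (hS : IsCoherenceSystem S τ R) {χ φ : L → ℂ} (hχ : χ ∈ S) (hφ : φ ∈ S) (hd : χ 1 = φ 1)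
    (h1 : φ ≠ χ) (h2 : φ ≠ conjFun χ) :
    τ (χ - φ) = proj (R χ) (τ (χ - φ)) + proj (R φ) (τ (χ - φ)) ∧
    ∑ α ∈ R χ, ‖classInner (τ (χ - φ)) α‖ ^ 2 = (classInner χ χ).re ∧
    ∑ α ∈ R χ, classInner (τ (χ - φ)) α = classInner χ χ := by
  classical
  have m0 : χ - φ ∈ zspanOn S {1}ᶜ := mem_z1.mpr ⟨z_minus (z_sub hχ) (z_sub hφ), by rw [Pi.sub_apply, hd, sub_self]⟩
  have m0' : φ - χ ∈ zspanOn S {1}ᶜ := mem_z1.mpr ⟨z_minus (z_sub hφ) (z_sub hχ), by rw [Pi.sub_apply, hd, sub_self]⟩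
  have hg := iso_gen hS.isometry m0
  have hg' := iso_gen hS.isometry m0'
  have c1 : classInner φ χ = 0 := hS.orthogonal φ hφ χ hχ h1
  have c1' := ci_zero_comm c1
  have c2 : classInner φ (conjFun χ) = 0 := hS.orthogonal φ hφ _ (hS.conj_mem χ hχ) h2
  have h2' : χ ≠ conjFun φ := by
    intro h; apply h2; rw [h, conj_conj]
  have c3 : classInner χ (conjFun φ) = 0 := hS.orthogonal χ hχ _ (hS.conj_mem φ hφ) h2'
  have e1 : classInner (τ (χ - φ)) (τ (χ - conjFun χ)) = classInner χ χ := by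
    rw [iso_inner hS.isometry m0 (sys_conj_mem hS hχ), ci_sub_l, ci_sub_r, ci_sub_r, sys_conj_inner hS hχ, c1, c2]
    ring
  have e2 : classInner (τ (φ - χ)) (τ (φ - conjFun φ)) = classInner φ φ := by
    rw [iso_inner hS.isometry m0' (sys_conj_mem hS hφ), ci_sub_l, ci_sub_r, ci_sub_r, sys_conj_inner hS hφ, c1', c3]
    ring
  have hneg : τ (φ - χ) = - τ (χ - φ) := by rw [← iso_neg hS.isometry m0, neg_sub]
  obtain ⟨l1, l2, l3⟩ := lem54 hS hχ hg e1
  obtain ⟨l1', l2', l3'⟩ := lem54 hS hφ hg' e2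
  have hsum' : ∑ α ∈ R φ, ‖classInner (τ (φ - χ)) α‖ ^ 2 = ∑ α ∈ R φ, ‖classInner (τ (χ - φ)) α‖ ^ 2 := by
    refine Finset.sum_congr rfl fun α _ => ?_
    rw [hneg, ci_neg_l, norm_neg]
  rw [hsum'] at l1'
  have horth : ∀ α ∈ R χ, ∀ β ∈ R φ, classInner α β = 0 := fun α hα β hβ => ci_zero_comm (sys_R_orth hS hχ hφ h1 h2 β hβ α hα)
  have hON := (sys_ON hS hχ).union (sys_ON hS hφ) horth
  have hdisj := disj_of_orth (sys_ON hS hχ) horth
  have hn : (classInner (τ (χ - φ)) (τ (χ - φ))).re = (classInner χ χ).re + (classInner φ φ).re := by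
    rw [iso_inner hS.isometry m0 m0, ci_sub_l, ci_sub_r, ci_sub_r, c1, c1']
    simp
  have hb := bessel hON (τ (χ - φ))
  rw [Finset.sum_union hdisj, hn] at hb
  refine ⟨?_, ?_, l2⟩
  · rw [← proj_union hdisj]
    apply bessel_eq hON
    rw [Finset.sum_union hdisj, hn]
    linarith
  · apply le_antisymm _ l1
    linarith

/-- Theorem 5.7: uniform degree implies coherence -/
theorem uniform (hS : IsCoherenceSystem S τ R) (hdeg : ∀ φ ∈ S, ∀ ψ ∈ S, φ 1 = ψ 1) : IsCoherent S {1}ᶜ τ := by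
  classical
  obtain ⟨χ, hχ⟩ := hS.nonempty
  have hm : ∀ φ ∈ S, χ - φ ∈ zspanOn S {1}ᶜ := fun φ hφ =>
    mem_z1.mpr ⟨z_minus (z_sub hχ) (z_sub hφ), by rw [Pi.sub_apply, hdeg χ hχ φ hφ, sub_self]⟩
  refine ⟨⟨χ - conjFun χ, sys_conj_mem hS hχ, fun h => hS.conj_ne χ hχ (sub_eq_zero.mp h).symm⟩, ?_⟩
  -- the element `X`
  have hX : ∃ X : G → ℂ, IsGeneralizedCharacter G X ∧ classInner X X = classInner χ χ ∧
      ∀ φ ∈ S, classInner X (τ (χ - φ)) = classInner χ χ - classInner χ φ := by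
    have hzero : classInner χ χ - classInner χ χ = 0 := sub_self _
    by_cases hcase : ∀ φ ∈ S, φ = χ ∨ φ = conjFun χ
    · -- `S = {χ, χ̄}`
      obtain ⟨n, hn0, hn⟩ := sys_nat hS hχ
      have hcard : (R χ).card = 2 * n := by
        have e1 : classInner (τ (χ - conjFun χ)) (τ (χ - conjFun χ)) = 2 * n := by
          rw [iso_inner hS.isometry (sys_conj_mem hS hχ) (sys_conj_mem hS hχ), ci_sub_l, ci_sub_r, ci_sub_r,
            sys_conj_inner hS hχ, ci_zero_comm (sys_conj_inner hS hχ), sys_conj_norm (hS.isCharacter χ hχ), hn]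
          ring
        have e2 : classInner (τ (χ - conjFun χ)) (τ (χ - conjFun χ)) = (R χ).card := by
          rw [hS.sum_eq χ hχ, ci_sum_l, Finset.card_eq_sum_ones, Nat.cast_sum]
          refine Finset.sum_congr rfl fun α hα => ?_
          rw [ci_sum_r, Finset.sum_eq_single α]
          · rw [(sys_ON hS hχ).1 α hα, Nat.cast_one]
          · intro β hβ hne; exact (sys_ON hS hχ).2 α hα β hβ hne.symm
          · intro h; exact absurd hα h
        rw [e2] at e1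
        exact_mod_cast e1
      obtain ⟨E, hE, hEc⟩ := Finset.exists_subset_card_eq (s := R χ) (n := n) (by rw [hcard]; omega)
      have hinn : ∀ T ⊆ R χ, E ⊆ T → classInner (∑ α ∈ E, α) (∑ α ∈ T, α) = n := by
        intro T hT hET
        rw [ci_sum_l, ← hEc, Finset.card_eq_sum_ones, Nat.cast_sum]
        refine Finset.sum_congr rfl fun α hα => ?_
        rw [ci_sum_r, Finset.sum_eq_single α]
        · rw [(sys_ON hS hχ).1 α (hE hα), Nat.cast_one]
        · intro β hβ hne; exact (sys_ON hS hχ).2 α (hE hα) β (hT hβ) hne.symm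
        · intro h; exact absurd (hET hα) h
      refine ⟨∑ α ∈ E, α, gen_sum _ _ fun α hα => hS.virtual χ hχ α (hE hα), ?_, ?_⟩
      · rw [hinn E hE (Finset.Subset.refl _), hn]
      · intro φ hφ
        rcases hcase φ hφ with rfl | rfl
        · rw [sub_self, iso_zero zm_on hS.isometry, ci_zero_r, sub_self]
        · rw [hS.sum_eq χ hχ, hinn (R χ) (Finset.Subset.refl _) hE, sys_conj_inner hS hχ, hn, sub_zero]
    · push Not at hcase
      obtain ⟨φ₀, hφ₀, n1, n2⟩ := hcase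
      obtain ⟨d1, d2, d3⟩ := uni_decomp hS hχ hφ₀ (hdeg χ hχ φ₀ hφ₀) n1 n2
      set X := proj (R χ) (τ (χ - φ₀)) with hXdef
      have hXX : classInner X X = classInner χ χ := by
        rw [hXdef, proj_norm (sys_ON hS hχ), d2]
        exact (self_real χ).1.symm
      -- the orthogonality of the `R φ₀` part
      have o1 : ∀ α ∈ R φ₀, ∀ β ∈ R χ, classInner α β = 0 := sys_R_orth hS hχ hφ₀ n1 n2
      have o1' : ∀ α ∈ R χ, ∀ β ∈ R φ₀, classInner α β = 0 := fun α hα β hβ => ci_zero_comm (o1 β hβ α hα)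
      have e0 : classInner X (τ (χ - φ₀)) = classInner χ χ := by
        have h1 : classInner X (τ (χ - φ₀)) = conj (classInner (τ (χ - φ₀)) X) := (ci_conj _ _).symm
        rw [h1, hXdef, inner_proj_self, Complex.conj_ofReal, d2]
        exact (self_real χ).1.symm
      have e0' : classInner X (τ (χ - conjFun χ)) = classInner χ χ := by
        rw [hS.sum_eq χ hχ, ci_sum_r, ← d3]
        exact Finset.sum_congr rfl fun α hα => proj_inner (sys_ON hS hχ) _ hα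
      refine ⟨X, proj_gen (iso_gen hS.isometry (hm φ₀ hφ₀)) (hS.virtual χ hχ), hXX, ?_⟩
      intro φ hφ
      by_cases c1 : φ = χ
      · rw [c1, sub_self, iso_zero zm_on hS.isometry, ci_zero_r, sub_self]
      by_cases c2 : φ = conjFun χ
      · rw [c2, e0', sys_conj_inner hS hχ, sub_zero]
      rw [hS.orthogonal χ hχ φ hφ (Ne.symm c1), sub_zero]
      by_cases c3 : φ = φ₀
      · rw [c3]; exact e0
      by_cases c4 : φ = conjFun φ₀
      · have e1 : χ - φ = (χ - φ₀) + (φ₀ - conjFun φ₀) := by rw [c4]; abel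
        rw [e1, iso_add hS.isometry (hm φ₀ hφ₀) (sys_conj_mem hS hφ₀), ci_add_r, e0, hS.sum_eq φ₀ hφ₀, ci_sum_r,
          Finset.sum_eq_zero, add_zero]
        intro β hβ
        exact proj_orth _ fun α hα => o1' α hα β hβ
      -- generic `φ`
      obtain ⟨f1, f2, f3⟩ := uni_decomp hS hχ hφ (hdeg χ hχ φ hφ) c1 c2
      have g1 : classInner (τ (χ - φ₀)) (τ (χ - φ)) = classInner χ χ := by
        rw [iso_inner hS.isometry (hm φ₀ hφ₀) (hm φ hφ), ci_sub_l, ci_sub_r, ci_sub_r, hS.orthogonal χ hχ φ hφ (Ne.symm c1),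
          hS.orthogonal φ₀ hφ₀ χ hχ n1, hS.orthogonal φ₀ hφ₀ φ hφ (Ne.symm c3)]
        ring
      have g2 : classInner (proj (R φ₀) (τ (χ - φ₀))) (τ (χ - φ)) = 0 := by
        rw [f1, ci_add_r]
        have k1 : classInner (proj (R φ₀) (τ (χ - φ₀))) (proj (R χ) (τ (χ - φ))) = 0 :=
          proj_orth _ fun α hα => ci_zero_comm (proj_orth _ fun β hβ => o1' β hβ α hα)
        have k2 : classInner (proj (R φ₀) (τ (χ - φ₀))) (proj (R φ) (τ (χ - φ))) = 0 :=
          proj_orth _ fun α hα => ci_zero_comm (proj_orth _ fun β hβ => sys_R_orth hS hφ₀ hφ c3 c4 β hβ α hα)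
        rw [k1, k2, add_zero]
      rw [d1, ci_add_l, g2, add_zero] at g1
      exact g1
  obtain ⟨X, hXg, hXX, hXφ⟩ := hX
  obtain ⟨τ₂, h1, h2⟩ := build (S := S) hS.orthogonal (fun φ hφ => sys_ne hS hφ) (fun φ => X - τ (χ - φ))
    (fun φ hφ => gen_sub hXg (iso_gen hS.isometry (hm φ hφ))) (by
      intro φ hφ φ' hφ'
      have e1 : classInner (τ (χ - φ)) X = classInner χ χ - classInner φ χ := by
        rw [← ci_conj, hXφ φ hφ, map_sub, ci_conj, ci_conj]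
      rw [ci_sub_l, ci_sub_r, ci_sub_r, hXX, hXφ φ' hφ', e1, iso_inner hS.isometry (hm φ hφ) (hm φ' hφ'), ci_sub_l, ci_sub_r, ci_sub_r]
      ring)
  obtain ⟨τ₃, h3, h4⟩ := build (S := ({χ} : Set (L → ℂ))) (G := G) (by
      intro a ha b hb hne
      exact absurd ((Set.mem_singleton_iff.mp ha).trans (Set.mem_singleton_iff.mp hb).symm) hne)
    (by intro a ha; rw [Set.mem_singleton_iff.mp ha]; exact sys_ne hS hχ) (fun _ => X) (fun _ _ => hXg)
    (by intro a ha b hb; rw [Set.mem_singleton_iff.mp ha, Set.mem_singleton_iff.mp hb]; exact hXX)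
  refine ⟨τ₂, h1, agree (S₁ := {χ}) (τ₁ := τ₃) (Set.singleton_subset_iff.mpr hχ) hS.isometry h3 ?_ h1 ?_⟩
  · intro β hβ
    obtain ⟨k1, k2⟩ := mem_z1.mp hβ
    obtain ⟨n, hn⟩ := Submodule.mem_span_singleton.mp (show β ∈ Submodule.span ℤ {χ} from k1)
    have : β = 0 := by
      rw [← hn, Pi.smul_apply, zsmul_eq_mul] at k2
      rcases mul_eq_zero.mp k2 with h | h
      · have h' : n = 0 := by exact_mod_cast h
        rw [← hn, h', zero_smul]
      · exact absurd h (sys_ne_one hS hχ)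
    rw [this, iso_zero zm_span h3, iso_zero zm_on hS.isometry]
  · intro φ hφ
    refine ⟨χ, z_sub (Set.mem_singleton χ), hdeg φ hφ χ hχ, ?_⟩
    rw [h2 φ hφ, h4 χ (Set.mem_singleton χ), ← neg_sub φ χ, iso_neg hS.isometry]
    · rw [sub_neg_eq_add]
    · have := z1_neg (hm φ hφ)
      rwa [neg_sub] at this

end Uniform

end CfsgLib.Coh
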