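import Cfsg.Agent.EqBase
import Cfsg.Agent.LibCoh2
/-!
# Coherence: adding characters (helper16)
-/
set_option autoImplicit false
set_option linter.all false
open Cfsg CfsgLib.CharBasic CfsgLib.CharIndA CfsgLib.CharNorm CfsgLib.Sgn
open scoped ComplexConjugate
namespace CfsgLib.Coh

universe u v
variable {L : Type u} [Group L] [Fintype L] {G : Type v} [Group G] [Fintype G]

theorem zsmul_eq (n : ℤ) (f : G → ℂ) : n • f = (n : ℂ) • f := by ext x; simp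

theorem ci_zsmul_l (n : ℤ) (f g : G → ℂ) : classInner (n • f) g = n * classInner f g := by rw [zsmul_eq, ci_smul_l]
theorem ci_zsmul_r (n : ℤ) (f g : G → ℂ) : classInner f (n • g) = n * classInner f g := by rw [zsmul_eq, ci_smul_r]; simp

/-- Bessel's inequality for an orthogonal family -/
theorem bessel' {ι : Type*} (s : Finset ι) (v : ι → G → ℂ) (n : ι → ℝ) (hn : ∀ i ∈ s, 0 < n i)
    (hv : ∀ i ∈ s, classInner (v i) (v i) = n i) (ho : ∀ i ∈ s, ∀ j ∈ s, i ≠ j → classInner (v i) (v j) = 0) (θ : G → ℂ) :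
    ∑ i ∈ s, ‖classInner θ (v i)‖ ^ 2 / n i ≤ (classInner θ θ).re := by
  classical
  set η : G → ℂ := ∑ i ∈ s, (classInner θ (v i) / n i) • v i with hη
  have h1 : classInner θ η = ((∑ i ∈ s, ‖classInner θ (v i)‖ ^ 2 / n i : ℝ) : ℂ) := by
    rw [hη, ci_sum_r]
    push_cast
    refine Finset.sum_congr rfl fun i _ => ?_
    rw [ci_smul_r, map_div₀, Complex.conj_ofReal, div_mul_eq_mul_div, mul_comm, normSq_c]
    push_cast; rfl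
  have h2 : classInner η η = ((∑ i ∈ s, ‖classInner θ (v i)‖ ^ 2 / n i : ℝ) : ℂ) := by
    rw [hη, ci_sum_l]
    push_cast
    refine Finset.sum_congr rfl fun i hi => ?_
    rw [ci_smul_l, ci_sum_r, Finset.sum_eq_single i]
    · rw [ci_smul_r, hv i hi, map_div₀, Complex.conj_ofReal]
      have hn0 : (n i : ℂ) ≠ 0 := by exact_mod_cast (hn i hi).ne'
      rw [div_mul_eq_mul_div, div_mul_cancel₀ _ hn0, normSq_c]
      push_cast; rfl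
    · intro j hj hne
      rw [ci_smul_r, ho i hi j hj hne.symm, mul_zero]
    · intro h; exact absurd hi h
  have h3 : classInner η θ = ((∑ i ∈ s, ‖classInner θ (v i)‖ ^ 2 / n i : ℝ) : ℂ) := by
    rw [← ci_conj, h1, Complex.conj_ofReal]
  have h4 := (self_real (θ - η)).2
  rw [ci_sub_l, ci_sub_r, ci_sub_r, h1, h2, h3] at h4
  simp only [Complex.sub_re, Complex.ofReal_re] at h4
  linarith

/-- adding one irreducible character (S1530) -/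
theorem add_one {S₀ : Finset (L → ℂ)} {χ : L → ℂ} (hirr : ∀ ξ ∈ S₀, IsIrrCharacter L ξ) (hχ : IsIrrCharacter L χ) (hχS : χ ∉ S₀)
    (d : (L → ℂ) → ℕ) (hd : ∀ ξ ∈ S₀, ξ 1 = (d ξ : ℂ)) (hdχ : χ 1 = d χ) {τ : (L → ℂ) → (G → ℂ)}
    {S' : Set (L → ℂ)} (hS' : S' = insert χ (↑S₀ : Set (L → ℂ)))
    (hτ : IsLinearIsometryOn (zspanOn S' {1}ᶜ) τ) (hτ1 : ∀ α ∈ zspanOn S' {1}ᶜ, τ α 1 = 0)
    (hcoh : IsCoherent (↑S₀ : Set (L → ℂ)) {1}ᶜ τ) {ψ : L → ℂ} (hψ : ψ ∈ S₀) (hdvd : d ψ ∣ d χ)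
    (hlt : 2 * d ψ * d χ < ∑ ξ ∈ S₀, d ξ ^ 2) : IsCoherent S' {1}ᶜ τ := by
  classical
  have hsub : (↑S₀ : Set (L → ℂ)) ⊆ S' := by rw [hS']; exact Set.subset_insert _ _
  have hχ' : χ ∈ S' := by rw [hS']; exact Set.mem_insert _ _
  obtain ⟨⟨α₀, hα₀, hα₀'⟩, τ₁, hτ₁, hag⟩ := hcoh
  obtain ⟨a, ha⟩ := hdvd
  have hdpos : ∀ {ξ : L → ℂ}, IsIrrCharacter L ξ → ξ 1 = (d ξ : ℂ) → 0 < d ξ := by
    intro ξ h1 h2
    obtain ⟨n, hn, hn'⟩ := irr_one_nat h1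
    rw [hn'] at h2
    have : n = d ξ := by exact_mod_cast h2
    omega
  have hdψ := hdpos (hirr ψ hψ) (hd ψ hψ)
  have hdχ' := hdpos hχ hdχ
  have ha0 : 0 < a := by
    rcases Nat.eq_zero_or_pos a with h | h
    · rw [h, mul_zero] at ha; omega
    · exact h
  have mS : ∀ ξ ∈ S₀, ξ ∈ zspan (↑S₀ : Set (L → ℂ)) := fun ξ h => z_sub (Finset.mem_coe.mpr h)
  have mS' : ∀ ξ ∈ S₀, ξ ∈ zspan S' := fun ξ h => z_mono hsub (mS ξ h)
  have hs : ∀ ξ ∈ S₀, SIrr (τ₁ ξ) := by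
    intro ξ hξ
    have h1 := iso_inner hτ₁ (mS ξ hξ) (mS ξ hξ)
    rw [irr_inner_self (hirr ξ hξ)] at h1
    exact gen_norm_one (iso_gen hτ₁ (mS ξ hξ)) h1
  have ho : ∀ ξ ∈ S₀, ∀ ζ ∈ S₀, ξ ≠ ζ → classInner (τ₁ ξ) (τ₁ ζ) = 0 := by
    intro ξ hξ ζ hζ hne
    rw [iso_inner hτ₁ (mS ξ hξ) (mS ζ hζ), irr_inner_ne (hirr ξ hξ) (hirr ζ hζ) hne]
  have hχo : ∀ ξ ∈ S₀, classInner χ ξ = 0 := fun ξ hξ => irr_inner_ne hχ (hirr ξ hξ) (fun h => hχS (by rw [h]; exact hξ))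
  -- `θ`
  have mθ : χ - (a : ℤ) • ψ ∈ zspanOn S' {1}ᶜ := by
    rw [mem_z1]
    refine ⟨z_minus (z_sub hχ') (z_smul _ (mS' ψ hψ)), ?_⟩
    rw [Pi.sub_apply, Pi.smul_apply, hdχ, hd ψ hψ, ha]
    push_cast
    rw [zsmul_eq_mul]; push_cast; ring
  set θ := τ (χ - (a : ℤ) • ψ) with hθ
  have hθg : IsGeneralizedCharacter G θ := iso_gen hτ mθ
  have hθn : classInner θ θ = 1 + (a : ℂ) ^ 2 := by
    rw [hθ, iso_inner hτ mθ mθ, ci_sub_l, ci_sub_r, ci_sub_r, ci_zsmul_l, ci_zsmul_l, ci_zsmul_r, ci_zsmul_r,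
      irr_inner_self hχ, irr_inner_self (hirr ψ hψ), hχo ψ hψ, ci_zero_comm (hχo ψ hψ)]
    push_cast; ring
  have hti : ∀ ξ, ∃ t : ℤ, ξ ∈ S₀ → classInner θ (τ₁ ξ) = t := by
    intro ξ
    by_cases h : ξ ∈ S₀
    · obtain ⟨n, hn⟩ := gen_inner_int hθg (iso_gen hτ₁ (mS ξ h))
      exact ⟨n, fun _ => hn⟩
    · exact ⟨0, fun h' => absurd h' h⟩
  choose t ht using hti
  have hmem : ∀ ξ ∈ S₀, (d ψ : ℤ) • ξ - (d ξ : ℤ) • ψ ∈ zspanOn (↑S₀ : Set (L → ℂ)) {1}ᶜ := by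
    intro ξ hξ
    rw [mem_z1]
    refine ⟨z_minus (z_smul _ (mS ξ hξ)) (z_smul _ (mS ψ hψ)), ?_⟩
    rw [Pi.sub_apply, Pi.smul_apply, Pi.smul_apply, hd ξ hξ, hd ψ hψ, zsmul_eq_mul, zsmul_eq_mul]
    push_cast; ring
  have hτ₁mem : ∀ ξ ∈ S₀, τ₁ ((d ψ : ℤ) • ξ - (d ξ : ℤ) • ψ) = (d ψ : ℤ) • τ₁ ξ - (d ξ : ℤ) • τ₁ ψ := by
    intro ξ hξ
    rw [iso_sub zm_span hτ₁ (z_smul _ (mS ξ hξ)) (z_smul _ (mS ψ hψ)), iso_smul hτ₁ (mS ξ hξ), iso_smul hτ₁ (mS ψ hψ)]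
  have hrel : ∀ ξ ∈ S₀, (d ψ : ℤ) * t ξ = (d ξ : ℤ) * (t ψ + a) - (if ξ = ψ then (a : ℤ) * d ψ else 0) := by
    intro ξ hξ
    have h1 : classInner θ (τ₁ ((d ψ : ℤ) • ξ - (d ξ : ℤ) • ψ)) = classInner (χ - (a : ℤ) • ψ) ((d ψ : ℤ) • ξ - (d ξ : ℤ) • ψ) := by
      rw [hag _ (hmem ξ hξ), hθ, iso_inner hτ mθ (z1_mono hsub (hmem ξ hξ))]
    rw [hτ₁mem ξ hξ, ci_sub_r, ci_zsmul_r, ci_zsmul_r, ht ξ hξ, ht ψ hψ, ci_sub_l, ci_sub_r, ci_sub_r, ci_zsmul_r, ci_zsmul_r,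
      ci_zsmul_l, ci_zsmul_l, ci_zsmul_r, ci_zsmul_r, hχo ξ hξ, hχo ψ hψ, irr_inner_self (hirr ψ hψ)] at h1
    by_cases he : ξ = ψ
    · subst he
      rw [if_pos rfl]; ring
    · rw [irr_inner_ne (hirr ψ hψ) (hirr ξ hξ) (Ne.symm he)] at h1
      rw [if_neg he]
      have h2 : (((d ψ : ℤ) * t ξ : ℤ) : ℂ) = (((d ξ : ℤ) * (t ψ + a) - 0 : ℤ) : ℂ) := by
        push_cast at h1 ⊢
        linear_combination h1
      exact_mod_cast h2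
  -- Bessel
  set E : Finset (G → ℂ) := S₀.image τ₁ with hE
  have hinjOn : ∀ ξ ∈ S₀, ∀ ζ ∈ S₀, τ₁ ξ = τ₁ ζ → ξ = ζ := by
    intro ξ hξ ζ hζ he
    by_contra hne
    have := ho ξ hξ ζ hζ hne
    rw [← he, (hs ξ hξ).self] at this
    exact one_ne_zero this
  have hEON : ON E := by
    constructor
    · intro α hα
      obtain ⟨ξ, hξ, rfl⟩ := Finset.mem_image.mp hα
      exact (hs ξ hξ).self
    · intro α hα β hβ hne
      obtain ⟨ξ, hξ, rfl⟩ := Finset.mem_image.mp hα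
      obtain ⟨ζ, hζ, rfl⟩ := Finset.mem_image.mp hβ
      exact ho ξ hξ ζ hζ (fun h => hne (by rw [h]))
  have hsumE : ∑ α ∈ E, ‖classInner θ α‖ ^ 2 = ((∑ ξ ∈ S₀, t ξ ^ 2 : ℤ) : ℝ) := by
    rw [hE, Finset.sum_image hinjOn]
    push_cast
    refine Finset.sum_congr rfl fun ξ hξ => ?_
    rw [ht ξ hξ]; simp
  have hre : (classInner θ θ).re = 1 + (a : ℝ) ^ 2 := by
    rw [hθn]
    have : (1 + (a : ℂ) ^ 2) = ((1 + (a : ℝ) ^ 2 : ℝ) : ℂ) := by push_cast; rfl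
    rw [this, Complex.ofReal_re]
  have hbes := bessel hEON θ
  rw [hsumE, hre] at hbes
  have hbes' : ∑ ξ ∈ S₀, t ξ ^ 2 ≤ 1 + (a : ℤ) ^ 2 := by exact_mod_cast hbes
  set b : ℤ := t ψ + a with hb
  -- `u ξ`
  have hT : (d ψ : ℤ) ^ 2 * ∑ ξ ∈ S₀, t ξ ^ 2 = b ^ 2 * ∑ ξ ∈ S₀, (d ξ : ℤ) ^ 2 + (d ψ : ℤ) ^ 2 * ((a : ℤ) ^ 2 - 2 * a * b) := by
    have h1 : ∀ ξ ∈ S₀, ((d ψ : ℤ) * t ξ) ^ 2 = b ^ 2 * (d ξ : ℤ) ^ 2 + (if ξ = ψ then (d ψ : ℤ) ^ 2 * ((a : ℤ) ^ 2 - 2 * a * b) else 0) := by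
      intro ξ hξ
      rw [hrel ξ hξ]
      by_cases he : ξ = ψ
      · rw [if_pos he, if_pos he, he]; ring
      · rw [if_neg he, if_neg he]; ring
    have h2 : (d ψ : ℤ) ^ 2 * ∑ ξ ∈ S₀, t ξ ^ 2 = ∑ ξ ∈ S₀, ((d ψ : ℤ) * t ξ) ^ 2 := by
      rw [Finset.mul_sum]; exact Finset.sum_congr rfl fun ξ _ => by ring
    rw [h2, Finset.sum_congr rfl h1, Finset.sum_add_distrib, ← Finset.mul_sum, Finset.sum_ite_eq', if_pos hψ]
  have hltZ : 2 * (a : ℤ) * (d ψ : ℤ) ^ 2 < ∑ ξ ∈ S₀, (d ξ : ℤ) ^ 2 := by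
    have : (2 * d ψ * d χ : ℤ) < ∑ ξ ∈ S₀, (d ξ : ℤ) ^ 2 := by exact_mod_cast hlt
    rw [ha] at this
    push_cast at this
    nlinarith
  have hdψZ : (0 : ℤ) < (d ψ : ℤ) ^ 2 := by positivity
  have haZ : (0 : ℤ) < a := by exact_mod_cast ha0
  have hb0 : b = 0 := by
    by_contra hbne
    have hbsq : 0 < b ^ 2 := by positivity
    -- T = ∑ t² - a² + 2ab
    have hT1 : b ^ 2 * (2 * (a : ℤ) * (d ψ : ℤ) ^ 2) < (d ψ : ℤ) ^ 2 * (∑ ξ ∈ S₀, t ξ ^ 2 - (a : ℤ) ^ 2 + 2 * a * b) := by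
      have := mul_lt_mul_of_pos_left hltZ hbsq
      nlinarith
    have hT2 : 2 * (a : ℤ) * b ^ 2 < ∑ ξ ∈ S₀, t ξ ^ 2 - (a : ℤ) ^ 2 + 2 * a * b := by
      by_contra hcon
      push Not at hcon
      have := mul_le_mul_of_nonneg_left hcon hdψZ.le
      nlinarith
    have hT3 : 2 * (a : ℤ) * b ^ 2 + 1 ≤ 1 + 2 * a * b := by linarith
    have hT4 : (a : ℤ) * (b ^ 2 - b) ≤ 0 := by nlinarith
    have hT5 : b ^ 2 - b ≤ 0 := by
      by_contra hcon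
      push Not at hcon
      have := mul_pos haZ hcon
      linarith
    have hb1 : b = 1 := by
      have h1 : b * (b - 1) ≤ 0 := by linarith [hT5, (by ring : b * (b - 1) = b ^ 2 - b)]
      rcases lt_trichotomy b 0 with h | h | h
      · nlinarith
      · exact absurd h hbne
      · by_contra hne
        have : 2 ≤ b := by omega
        nlinarith
    rw [hb1] at hT2
    have hTeq : ∑ ξ ∈ S₀, t ξ ^ 2 = 1 + (a : ℤ) ^ 2 := by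
      have h7 := Int.add_one_le_iff.mpr hT2
      linarith
    have hθE : θ = proj E θ := by
      apply bessel_eq hEON
      rw [hsumE, hre, hTeq]; push_cast; exact le_refl _
    have hθ1 : θ 1 = 0 := hτ1 _ mθ
    rw [hθE] at hθ1
    unfold proj at hθ1
    rw [hE, Finset.sum_image hinjOn, Finset.sum_apply] at hθ1
    have h1 : ∀ ξ ∈ S₀, (d ψ : ℂ) * (classInner θ (τ₁ ξ) • τ₁ ξ) 1 = (t ξ * d ξ : ℂ) * τ₁ ψ 1 := by
      intro ξ hξ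
      have h2 := hτ1 _ (z1_mono hsub (hmem ξ hξ))
      rw [← hag _ (hmem ξ hξ), hτ₁mem ξ hξ, Pi.sub_apply, Pi.smul_apply, Pi.smul_apply, zsmul_eq_mul, zsmul_eq_mul] at h2
      rw [Pi.smul_apply, ht ξ hξ, smul_eq_mul]
      push_cast at h2
      linear_combination (t ξ : ℂ) * h2
    have h2 : (d ψ : ℂ) * ∑ ξ ∈ S₀, (classInner θ (τ₁ ξ) • τ₁ ξ) 1 = (∑ ξ ∈ S₀, (t ξ * d ξ : ℂ)) * τ₁ ψ 1 := by
      rw [Finset.mul_sum, Finset.sum_mul]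
      exact Finset.sum_congr rfl h1
    rw [hθ1, mul_zero] at h2
    have h3 : ∑ ξ ∈ S₀, (t ξ * d ξ : ℂ) = 0 := (mul_eq_zero.mp h2.symm).resolve_right (hs ψ hψ).one_ne
    have h4 : ∑ ξ ∈ S₀, t ξ * (d ξ : ℤ) = 0 := by
      have : ((∑ ξ ∈ S₀, t ξ * (d ξ : ℤ) : ℤ) : ℂ) = ((0 : ℤ) : ℂ) := by push_cast; exact h3
      exact_mod_cast this
    have h5 : (d ψ : ℤ) * ∑ ξ ∈ S₀, t ξ * (d ξ : ℤ) = ∑ ξ ∈ S₀, (d ξ : ℤ) ^ 2 - a * (d ψ : ℤ) ^ 2 := by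
      rw [Finset.mul_sum]
      have h6 : ∀ ξ ∈ S₀, (d ψ : ℤ) * (t ξ * (d ξ : ℤ)) = (d ξ : ℤ) ^ 2 - (if ξ = ψ then (a : ℤ) * (d ψ : ℤ) ^ 2 else 0) := by
        intro ξ hξ
        have := hrel ξ hξ
        rw [hb1] at this
        by_cases he : ξ = ψ
        · rw [if_pos he] at this ⊢
          rw [← mul_assoc, this, he]; ring
        · rw [if_neg he] at this ⊢
          rw [← mul_assoc, this]; ring
      rw [Finset.sum_congr rfl h6, Finset.sum_sub_distrib, Finset.sum_ite_eq', if_pos hψ]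
    rw [h4, mul_zero] at h5
    have : 0 < (a : ℤ) * (d ψ : ℤ) ^ 2 := mul_pos haZ hdψZ
    linarith
  -- the new element
  have ht0 : ∀ ξ ∈ S₀, classInner θ (τ₁ ξ) = if ξ = ψ then -(a : ℂ) else 0 := by
    intro ξ hξ
    have h1 := hrel ξ hξ
    rw [hb0, mul_zero, zero_sub] at h1
    rw [ht ξ hξ]
    have hd0 : (d ψ : ℤ) ≠ 0 := by exact_mod_cast hdψ.ne'
    by_cases he : ξ = ψ
    · rw [if_pos he] at h1 ⊢
      have h2 : t ξ = -a := by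
        apply mul_left_cancel₀ hd0
        rw [h1]; ring
      rw [h2]; push_cast; rfl
    · rw [if_neg he] at h1 ⊢
      rw [neg_zero] at h1
      have h2 : t ξ = 0 := (mul_eq_zero.mp h1).resolve_left hd0
      rw [h2]; simp
  set X := θ + (a : ℤ) • τ₁ ψ with hX
  have hXg : IsGeneralizedCharacter G X := gen_add hθg (gen_zsmul (iso_gen hτ₁ (mS ψ hψ)) _)
  have hXo : ∀ ξ ∈ S₀, classInner X (τ₁ ξ) = 0 := by
    intro ξ hξ
    rw [hX, ci_add_l, ht0 ξ hξ, ci_zsmul_l]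
    by_cases he : ξ = ψ
    · rw [if_pos he, he, (hs ψ hψ).self]; push_cast; ring
    · rw [if_neg he, ho ψ hψ ξ hξ (Ne.symm he)]; ring
  have hXX : classInner X X = 1 := by
    have e1 : classInner (τ₁ ψ) θ = -(a : ℂ) := by
      rw [← ci_conj, ht0 ψ hψ, if_pos rfl, map_neg, Complex.conj_natCast]
    rw [hX, ci_add_l, ci_add_r, ci_add_r, ci_zsmul_l, ci_zsmul_l, ci_zsmul_r, ci_zsmul_r, hθn, ht0 ψ hψ, if_pos rfl, (hs ψ hψ).self, e1]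
    push_cast; ring
  have hirr' : ∀ ξ ∈ S', IsIrrCharacter L ξ := by
    intro ξ hξ
    rw [hS'] at hξ
    rcases hξ with rfl | hξ
    · exact hχ
    · exact hirr ξ hξ
  obtain ⟨τ₂, t1, t2⟩ := build (S := S') (G := G) (fun χ hχ φ hφ hne => irr_inner_ne (hirr' χ hχ) (hirr' φ hφ) hne)
    (fun χ hχ => by rw [irr_inner_self (hirr' χ hχ)]; exact one_ne_zero) (fun ξ => if ξ = χ then X else τ₁ ξ)
    (by
      intro ξ hξ
      beta_reduce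
      rw [hS'] at hξ
      rcases hξ with h | h
      · rw [if_pos h]; exact hXg
      · rw [if_neg (fun h' => hχS (by rw [← h']; exact h))]; exact iso_gen hτ₁ (mS ξ h))
    (by
      intro ξ hξ ζ hζ
      beta_reduce
      have hne : ∀ {ξ}, ξ ∈ (↑S₀ : Set (L → ℂ)) → ξ ≠ χ := fun {ξ} h h' => hχS (by rw [← h']; exact h)
      rw [hS'] at hξ hζ
      rcases hξ with h | h <;> rcases hζ with h' | h'
      · rw [if_pos h, if_pos h', h, h', hXX, irr_inner_self hχ]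
      · rw [if_pos h, if_neg (hne h'), h, hXo ζ h', hχo ζ h']
      · rw [if_neg (hne h), if_pos h', h', ci_zero_comm (hXo ξ h), ci_zero_comm (hχo ξ h)]
      · rw [if_neg (hne h), if_neg (hne h')]; exact iso_inner hτ₁ (mS ξ h) (mS ζ h'))
  refine ⟨⟨α₀, z1_mono hsub hα₀, hα₀'⟩, τ₂, t1, agree hsub hτ hτ₁ hag t1 ?_⟩
  intro φ hφ
  have hφ' := hφ
  rw [hS'] at hφ
  rcases hφ with h | h
  · refine ⟨(a : ℤ) • ψ, z_smul _ (mS ψ hψ), ?_, ?_⟩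
    · have := (mem_z1.mp mθ).2
      rw [Pi.sub_apply] at this
      rw [h]; exact sub_eq_zero.mp this
    · rw [t2 φ hφ', if_pos h, iso_smul hτ₁ (mS ψ hψ), h, ← hθ, hX, add_comm]
  · refine ⟨φ, mS φ h, rfl, ?_⟩
    rw [t2 φ hφ', if_neg (fun h' => hχS (by rw [← h']; exact h)), sub_self, iso_zero zm_on hτ, add_zero]

end CfsgLib.Coh
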