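import Cfsg.Agent.EqBase
import Cfsg.Agent.LibCoh3
/-!
# Coherence: the extension criterion (helper16)
-/
set_option autoImplicit false
set_option linter.all false
open Cfsg CfsgLib.CharBasic CfsgLib.CharIndA CfsgLib.CharNorm CfsgLib.Sgn
open scoped ComplexConjugate
namespace CfsgLib.Coh

universe u v
variable {L : Type u} [Group L] [Fintype L] {G : Type v} [Group G] [Fintype G]
variable {S : Set (L → ℂ)} {τ : (L → ℂ) → (G → ℂ)} {R : (L → ℂ) → Finset (G → ℂ)}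

/-- images under a coherent extension lie in the span of `R φ` -/
theorem coh_proj (hS : IsCoherenceSystem S τ R) {S₁ : Set (L → ℂ)} (hS₁ : S₁ ⊆ S) {τ₁ : (L → ℂ) → (G → ℂ)}
    (hτ₁ : IsLinearIsometryOn (zspan S₁) τ₁) (hag : ∀ β ∈ zspanOn S₁ {1}ᶜ, τ₁ β = τ β) {φ : L → ℂ} (hφ : φ ∈ S₁) (hφc : conjFun φ ∈ S₁) :
    τ₁ φ = proj (R φ) (τ₁ φ) := by
  have hφS := hS₁ hφ
  have m1 : φ - conjFun φ ∈ zspanOn S₁ {1}ᶜ := by
    rw [mem_z1]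
    refine ⟨z_minus (z_sub hφ) (z_sub hφc), ?_⟩
    rw [Pi.sub_apply, conj_one (hS.isCharacter φ hφS), sub_self]
  have h1 : classInner (τ₁ φ) (τ (φ - conjFun φ)) = classInner φ φ := by
    rw [← hag _ m1, iso_inner hτ₁ (z_sub hφ) (mem_z1.mp m1).1, ci_sub_r, sys_conj_inner hS hφS, sub_zero]
  have h2 := (lem54 hS hφS (iso_gen hτ₁ (z_sub hφ)) h1).1
  apply bessel_eq (sys_ON hS hφS)
  rw [iso_inner hτ₁ (z_sub hφ) (z_sub hφ)]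
  exact h2

theorem coh_orth (hS : IsCoherenceSystem S τ R) {S₁ : Set (L → ℂ)} (hS₁ : S₁ ⊆ S) {τ₁ : (L → ℂ) → (G → ℂ)}
    (hτ₁ : IsLinearIsometryOn (zspan S₁) τ₁) (hag : ∀ β ∈ zspanOn S₁ {1}ᶜ, τ₁ β = τ β) {φ : L → ℂ} (hφ : φ ∈ S₁) (hφc : conjFun φ ∈ S₁)
    {χ : L → ℂ} (hχ : χ ∈ S) (h1 : φ ≠ χ) (h2 : φ ≠ conjFun χ) : ∀ α ∈ R χ, classInner (τ₁ φ) α = 0 := by
  intro α hα
  rw [coh_proj hS hS₁ hτ₁ hag hφ hφc]
  exact proj_orth _ fun β hβ => sys_R_orth hS hχ (hS₁ hφ) h1 h2 β hβ α hα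

/-- Theorem 5.6 -/
theorem extend (hS : IsCoherenceSystem S τ R) (d n : (L → ℂ) → ℕ) (hd : ∀ φ ∈ S, φ 1 = (d φ : ℂ)) (hn : ∀ φ ∈ S, classInner φ φ = (n φ : ℂ))
    (S₁ : Finset (L → ℂ)) (hS₁ : ↑S₁ ⊆ S) (hS₁c : ∀ φ ∈ S₁, conjFun φ ∈ S₁) (hcoh : IsCoherent (↑S₁ : Set (L → ℂ)) {1}ᶜ τ)
    (χ : L → ℂ) (hχ : χ ∈ S) (hχ₁ : χ ∉ S₁) (hχ₂ : conjFun χ ∉ S₁) (χ₁ : L → ℂ) (hχ₁S : χ₁ ∈ S₁) (hdvd : d χ₁ ∣ d χ)
    (hineq : (2 * d χ * d χ₁ : ℝ) < ∑ φ ∈ S₁, ((d φ : ℝ) ^ 2 / (n φ : ℝ))) :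
    IsCoherent (↑S₁ ∪ {χ, conjFun χ} : Set (L → ℂ)) {1}ᶜ τ := by
  classical
  set S' : Set (L → ℂ) := ↑S₁ ∪ {χ, conjFun χ} with hS'
  obtain ⟨⟨α₀, hα₀, hα₀'⟩, τ₁, hτ₁, hag⟩ := hcoh
  have hsub : (↑S₁ : Set (L → ℂ)) ⊆ S' := Set.subset_union_left
  have hχ' : χ ∈ S' := Or.inr (Or.inl rfl)
  have hχc' : conjFun χ ∈ S' := Or.inr (Or.inr rfl)
  have hS'S : S' ⊆ S := by
    rintro φ (h | h | h)
    · exact hS₁ h
    · rw [h]; exact hχ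
    · rw [h]; exact hS.conj_mem χ hχ
  have hτ := iso_mono hS.isometry (z1_mono hS'S)
  obtain ⟨a, ha⟩ := hdvd
  have hdpos : ∀ φ ∈ S, 0 < d φ := by
    intro φ hφ
    rcases Nat.eq_zero_or_pos (d φ) with h | h
    · exfalso
      apply sys_ne_one hS hφ
      rw [hd φ hφ, h, Nat.cast_zero]
    · exact h
  have hnpos : ∀ φ ∈ S, 0 < n φ := by
    intro φ hφ
    rcases Nat.eq_zero_or_pos (n φ) with h | h
    · exfalso
      apply sys_ne hS hφ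
      rw [hn φ hφ, h, Nat.cast_zero]
    · exact h
  have hχ₁S' := hS₁ (Finset.mem_coe.mpr hχ₁S)
  have hd1 := hdpos χ₁ hχ₁S'
  have hn1 := hnpos χ₁ hχ₁S'
  have ha0 : 0 < a := by
    rcases Nat.eq_zero_or_pos a with h | h
    · have := hdpos χ hχ
      rw [ha, h, mul_zero] at this; omega
    · exact h
  have mS : ∀ ξ ∈ S₁, ξ ∈ zspan (↑S₁ : Set (L → ℂ)) := fun ξ h => z_sub (Finset.mem_coe.mpr h)
  have mS' : ∀ ξ ∈ S₁, ξ ∈ zspan S' := fun ξ h => z_mono hsub (mS ξ h)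
  have hneχ : ∀ ξ ∈ S₁, ξ ≠ χ := fun ξ h h' => hχ₁ (h' ▸ h)
  have hneχc : ∀ ξ ∈ S₁, ξ ≠ conjFun χ := fun ξ h h' => hχ₂ (h' ▸ h)
  have c1 : ∀ ξ ∈ S₁, classInner ξ χ = 0 := fun ξ h => hS.orthogonal ξ (hS₁ h) χ hχ (hneχ ξ h)
  have c2 : ∀ ξ ∈ S₁, classInner ξ (conjFun χ) = 0 := fun ξ h => hS.orthogonal ξ (hS₁ h) _ (hS.conj_mem χ hχ) (hneχc ξ h)
  have c1' : ∀ ξ ∈ S₁, classInner χ ξ = 0 := fun ξ h => ci_zero_comm (c1 ξ h)
  have c2' : ∀ ξ ∈ S₁, classInner (conjFun χ) ξ = 0 := fun ξ h => ci_zero_comm (c2 ξ h)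
  have hχχc := sys_conj_inner hS hχ
  have hχcχ := ci_zero_comm hχχc
  have horthR : ∀ ξ ∈ S₁, ∀ α ∈ R χ, classInner (τ₁ ξ) α = 0 := fun ξ h =>
    coh_orth hS hS₁ hτ₁ hag h (Finset.mem_coe.mpr (hS₁c ξ h)) hχ (hneχ ξ h) (hneχc ξ h)
  have horthR' : ∀ ξ ∈ S₁, ∀ α ∈ R χ, classInner α (τ₁ ξ) = 0 := fun ξ h α hα => ci_zero_comm (horthR ξ h α hα)
  -- `θ`
  have mθ : χ - (a : ℤ) • χ₁ ∈ zspanOn S' {1}ᶜ := by
    rw [mem_z1]
    refine ⟨z_minus (z_sub hχ') (z_smul _ (mS' χ₁ hχ₁S)), ?_⟩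
    rw [Pi.sub_apply, Pi.smul_apply, hd χ hχ, hd χ₁ hχ₁S', ha]
    push_cast
    rw [zsmul_eq_mul]; push_cast; ring
  set θ := τ (χ - (a : ℤ) • χ₁) with hθ
  have hθg : IsGeneralizedCharacter G θ := iso_gen hτ mθ
  have mcc : χ - conjFun χ ∈ zspanOn S' {1}ᶜ := by
    rw [mem_z1]
    exact ⟨z_minus (z_sub hχ') (z_sub hχc'), (mem_z1.mp (sys_conj_mem hS hχ)).2⟩
  have hθn : classInner θ θ = n χ + (a : ℂ) ^ 2 * n χ₁ := by
    rw [hθ, iso_inner hτ mθ mθ, ci_sub_l, ci_sub_r, ci_sub_r, ci_zsmul_l, ci_zsmul_l, ci_zsmul_r, ci_zsmul_r,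
      hn χ hχ, hn χ₁ hχ₁S', c1 χ₁ hχ₁S, c1' χ₁ hχ₁S]
    push_cast; ring
  have hθcc : classInner θ (τ (χ - conjFun χ)) = classInner χ χ := by
    rw [hθ, iso_inner hτ mθ mcc, ci_sub_l, ci_sub_r, ci_sub_r, ci_zsmul_l, ci_zsmul_l, c1 χ₁ hχ₁S, c2 χ₁ hχ₁S, hχχc]
    ring
  obtain ⟨l1, l2, l3⟩ := lem54 hS hχ hθg hθcc
  set X := proj (R χ) θ with hX
  set Y := θ - X with hY
  have hON := sys_ON hS hχ
  have hXg : IsGeneralizedCharacter G X := proj_gen hθg (hS.virtual χ hχ)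
  have hYn : classInner Y Y = classInner θ θ - ((∑ α ∈ R χ, ‖classInner θ α‖ ^ 2 : ℝ) : ℂ) := proj_compl_norm hON θ
  have hXo : ∀ ξ ∈ S₁, classInner X (τ₁ ξ) = 0 := fun ξ h => proj_orth θ (horthR' ξ h)
  have hti : ∀ ξ, ∃ t : ℤ, ξ ∈ S₁ → classInner θ (τ₁ ξ) = t := by
    intro ξ
    by_cases h : ξ ∈ S₁
    · obtain ⟨n, hn⟩ := gen_inner_int hθg (iso_gen hτ₁ (mS ξ h))
      exact ⟨n, fun _ => hn⟩
    · exact ⟨0, fun h' => absurd h' h⟩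
  choose t ht using hti
  have hYt : ∀ ξ ∈ S₁, classInner Y (τ₁ ξ) = t ξ := by
    intro ξ h
    rw [hY, ci_sub_l, hXo ξ h, sub_zero, ht ξ h]
  have hYre : (classInner Y Y).re ≤ (a : ℝ) ^ 2 * n χ₁ := by
    rw [hYn, hθn, Complex.sub_re, Complex.ofReal_re]
    have e1 : ((n χ : ℂ) + (a : ℂ) ^ 2 * n χ₁).re = (n χ : ℝ) + (a : ℝ) ^ 2 * n χ₁ := by
      have : ((n χ : ℂ) + (a : ℂ) ^ 2 * n χ₁) = (((n χ : ℝ) + (a : ℝ) ^ 2 * n χ₁ : ℝ) : ℂ) := by push_cast; rfl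
      rw [this, Complex.ofReal_re]
    rw [hn χ hχ, Complex.natCast_re] at l1
    rw [e1]; linarith
  have hv : ∀ i ∈ S₁, classInner (τ₁ i) (τ₁ i) = ((n i : ℝ) : ℂ) := fun i hi => by
    rw [iso_inner hτ₁ (mS i hi) (mS i hi), hn i (hS₁ hi)]; push_cast; rfl
  have hvo : ∀ i ∈ S₁, ∀ j ∈ S₁, i ≠ j → classInner (τ₁ i) (τ₁ j) = 0 := fun i hi j hj hij => by
    rw [iso_inner hτ₁ (mS i hi) (mS j hj)]; exact hS.orthogonal i (hS₁ hi) j (hS₁ hj) hij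
  have hbes := bessel' S₁ τ₁ (fun ξ => (n ξ : ℝ)) (fun i hi => by exact_mod_cast hnpos i (hS₁ hi)) hv hvo Y
  have hbes2 : ∑ ξ ∈ S₁, (t ξ : ℝ) ^ 2 / n ξ ≤ (a : ℝ) ^ 2 * n χ₁ := by
    refine le_trans (le_of_eq ?_) (hbes.trans hYre)
    refine Finset.sum_congr rfl fun ξ hξ => ?_
    rw [hYt ξ hξ]; simp
  -- relation
  have hmem : ∀ ξ ∈ S₁, (d χ₁ : ℤ) • ξ - (d ξ : ℤ) • χ₁ ∈ zspanOn (↑S₁ : Set (L → ℂ)) {1}ᶜ := by
    intro ξ hξ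
    rw [mem_z1]
    refine ⟨z_minus (z_smul _ (mS ξ hξ)) (z_smul _ (mS χ₁ hχ₁S)), ?_⟩
    rw [Pi.sub_apply, Pi.smul_apply, Pi.smul_apply, hd ξ (hS₁ hξ), hd χ₁ hχ₁S', zsmul_eq_mul, zsmul_eq_mul]
    push_cast; ring
  set b : ℤ := t χ₁ + a * n χ₁ with hb
  have hrel : ∀ ξ ∈ S₁, (d χ₁ : ℤ) * t ξ = (d ξ : ℤ) * b - (if ξ = χ₁ then (a : ℤ) * d χ₁ * n χ₁ else 0) := by
    intro ξ hξ
    have h1 : classInner θ (τ₁ ((d χ₁ : ℤ) • ξ - (d ξ : ℤ) • χ₁)) = classInner (χ - (a : ℤ) • χ₁) ((d χ₁ : ℤ) • ξ - (d ξ : ℤ) • χ₁) := by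
      rw [hag _ (hmem ξ hξ), hθ, iso_inner hτ mθ (z1_mono hsub (hmem ξ hξ))]
    rw [iso_sub zm_span hτ₁ (z_smul _ (mS ξ hξ)) (z_smul _ (mS χ₁ hχ₁S)), iso_smul hτ₁ (mS ξ hξ), iso_smul hτ₁ (mS χ₁ hχ₁S),
      ci_sub_r, ci_zsmul_r, ci_zsmul_r, ht ξ hξ, ht χ₁ hχ₁S, ci_sub_l, ci_sub_r, ci_sub_r, ci_zsmul_r, ci_zsmul_r,
      ci_zsmul_l, ci_zsmul_l, ci_zsmul_r, ci_zsmul_r, c1' ξ hξ, c1' χ₁ hχ₁S, hn χ₁ hχ₁S'] at h1
    by_cases he : ξ = χ₁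
    · subst he
      rw [if_pos rfl, hb]; ring
    · rw [hS.orthogonal χ₁ hχ₁S' ξ (hS₁ hξ) (Ne.symm he)] at h1
      rw [if_neg he]
      have h2 : (((d χ₁ : ℤ) * t ξ : ℤ) : ℂ) = (((d ξ : ℤ) * b - 0 : ℤ) : ℂ) := by
        rw [hb]
        push_cast at h1 ⊢
        linear_combination h1
      exact_mod_cast h2
  have hd1R : (0 : ℝ) < d χ₁ := by exact_mod_cast hd1
  have hn1R : (0 : ℝ) < n χ₁ := by exact_mod_cast hn1
  have haR : (0 : ℝ) < a := by exact_mod_cast ha0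
  have hrelR : ∀ ξ ∈ S₁, (t ξ : ℝ) = (d ξ : ℝ) * b / d χ₁ - (if ξ = χ₁ then (a : ℝ) * n χ₁ else 0) := by
    intro ξ hξ
    have h1 : ((d χ₁ : ℝ)) * t ξ = (d ξ : ℝ) * b - (if ξ = χ₁ then (a : ℝ) * d χ₁ * n χ₁ else 0) := by
      have := hrel ξ hξ
      by_cases he : ξ = χ₁
      · rw [if_pos he] at this ⊢; exact_mod_cast this
      · rw [if_neg he] at this ⊢; exact_mod_cast this
    by_cases he : ξ = χ₁
    · rw [if_pos he] at h1 ⊢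
      field_simp
      linarith
    · rw [if_neg he] at h1 ⊢
      field_simp
      linarith
  have hT : ∑ ξ ∈ S₁, (t ξ : ℝ) ^ 2 / n ξ = (b : ℝ) ^ 2 / (d χ₁ : ℝ) ^ 2 * ∑ ξ ∈ S₁, (d ξ : ℝ) ^ 2 / n ξ + ((a : ℝ) ^ 2 * n χ₁ - 2 * a * b) := by
    have h1 : ∀ ξ ∈ S₁, (t ξ : ℝ) ^ 2 / n ξ = (b : ℝ) ^ 2 / (d χ₁ : ℝ) ^ 2 * ((d ξ : ℝ) ^ 2 / n ξ) + (if ξ = χ₁ then ((a : ℝ) ^ 2 * n χ₁ - 2 * a * b) else 0) := by
      intro ξ hξ
      have hnξ : (0 : ℝ) < n ξ := by exact_mod_cast hnpos ξ (hS₁ hξ)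
      rw [hrelR ξ hξ]
      by_cases he : ξ = χ₁
      · rw [if_pos he, if_pos he]
        rw [he] at hnξ ⊢
        field_simp
        ring
      · rw [if_neg he, if_neg he]
        field_simp
        ring
    rw [Finset.sum_congr rfl h1, Finset.sum_add_distrib, ← Finset.mul_sum, Finset.sum_ite_eq', if_pos hχ₁S]
  rw [hT] at hbes2
  have hb0 : b = 0 := by
    by_contra hbne
    have hbsq : (0 : ℝ) < (b : ℝ) ^ 2 := by positivity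
    have h1 : (b : ℝ) ^ 2 / (d χ₁ : ℝ) ^ 2 * (2 * d χ * d χ₁) < (b : ℝ) ^ 2 / (d χ₁ : ℝ) ^ 2 * ∑ ξ ∈ S₁, (d ξ : ℝ) ^ 2 / n ξ :=
      mul_lt_mul_of_pos_left hineq (by positivity)
    have h2 : (b : ℝ) ^ 2 / (d χ₁ : ℝ) ^ 2 * (2 * d χ * d χ₁) = 2 * a * (b : ℝ) ^ 2 := by
      rw [ha]; push_cast; field_simp
    rw [h2] at h1
    have h3 : 2 * (a : ℝ) * (b : ℝ) ^ 2 < 2 * a * b := by linarith
    have h4 : (b : ℝ) ^ 2 < b := by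
      by_contra hcon
      push Not at hcon
      have := mul_le_mul_of_nonneg_left hcon (by positivity : (0:ℝ) ≤ 2 * a)
      linarith
    have h5 : b ^ 2 < b := by exact_mod_cast h4
    have h6 := Int.le_self_sq b
    omega
  have ht1 : t χ₁ = -(a * n χ₁ : ℤ) := by
    have := hb0
    rw [hb] at this
    linarith
  -- `Y = - a τ₁ χ₁`
  have hY0 : Y = -((a : ℤ) • τ₁ χ₁) := by
    have h1 : classInner (Y + (a : ℤ) • τ₁ χ₁) (Y + (a : ℤ) • τ₁ χ₁) = classInner Y Y - (a : ℂ) ^ 2 * n χ₁ := by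
      have e1 : classInner (τ₁ χ₁) Y = t χ₁ := by
        rw [← ci_conj, hYt χ₁ hχ₁S]; simp
      rw [ci_add_l, ci_add_r, ci_add_r, ci_zsmul_l, ci_zsmul_l, ci_zsmul_r, ci_zsmul_r, hYt χ₁ hχ₁S, e1, hv χ₁ hχ₁S, ht1]
      push_cast; ring
    have h2 : (classInner (Y + (a : ℤ) • τ₁ χ₁) (Y + (a : ℤ) • τ₁ χ₁)).re ≤ 0 := by
      rw [h1, Complex.sub_re]
      have : ((a : ℂ) ^ 2 * n χ₁).re = (a : ℝ) ^ 2 * n χ₁ := by
        have : ((a : ℂ) ^ 2 * n χ₁) = (((a : ℝ) ^ 2 * n χ₁ : ℝ) : ℂ) := by push_cast; rfl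
        rw [this, Complex.ofReal_re]
      rw [this]; linarith
    have h3 := self_real (Y + (a : ℤ) • τ₁ χ₁)
    have h4 : classInner (Y + (a : ℤ) • τ₁ χ₁) (Y + (a : ℤ) • τ₁ χ₁) = 0 := by
      rw [h3.1, le_antisymm h2 h3.2, Complex.ofReal_zero]
    exact eq_neg_of_add_eq_zero_left (inner_self_eq_zero h4)
  have hXeq : X = θ + (a : ℤ) • τ₁ χ₁ := by
    have : θ = X + Y := by rw [hY]; abel
    rw [this, hY0]; abel
  have hXX : classInner X X = n χ := by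
    have h1 : classInner X Y = 0 := by
      rw [hY0, ci_neg_r, ci_zsmul_r, hXo χ₁ hχ₁S, mul_zero, neg_zero]
    have h2 : classInner θ θ = classInner X X + classInner Y Y := by
      have h3 : θ = X + Y := by rw [hY]; abel
      conv_lhs => rw [h3]
      rw [ci_add_l, ci_add_r, ci_add_r, h1, ci_zero_comm h1]; ring
    have h3 : classInner Y Y = (a : ℂ) ^ 2 * n χ₁ := by
      rw [hY0, ci_neg_l, ci_neg_r, ci_zsmul_l, ci_zsmul_r, hv χ₁ hχ₁S]; push_cast; ring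
    rw [hθn, h3] at h2
    linear_combination -h2
  have hTcc : classInner X (τ (χ - conjFun χ)) = n χ := by
    rw [hS.sum_eq χ hχ, ci_sum_r, Finset.sum_congr rfl fun α hα => proj_inner hON θ hα, l2, hn χ hχ]
  have hTcc' : classInner (τ (χ - conjFun χ)) X = n χ := by
    rw [← ci_conj, hTcc]; simp
  have hTT : classInner (τ (χ - conjFun χ)) (τ (χ - conjFun χ)) = 2 * n χ := by
    rw [iso_inner hτ mcc mcc, ci_sub_l, ci_sub_r, ci_sub_r, hχχc, hχcχ, sys_conj_norm (hS.isCharacter χ hχ), hn χ hχ]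
    ring
  have hTo : ∀ ξ ∈ S₁, classInner (τ₁ ξ) (τ (χ - conjFun χ)) = 0 := by
    intro ξ hξ
    rw [hS.sum_eq χ hχ, ci_sum_r]
    exact Finset.sum_eq_zero fun α hα => horthR ξ hξ α hα
  have hXo' : ∀ ξ ∈ S₁, classInner (τ₁ ξ) X = 0 := fun ξ h => ci_zero_comm (hXo ξ h)
  have hccne : conjFun χ ≠ χ := hS.conj_ne χ hχ
  obtain ⟨τ₂, t1, t2⟩ := build (S := S') (G := G) (fun χ hχ φ hφ hne => hS.orthogonal χ (hS'S hχ) φ (hS'S hφ) hne)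
    (fun χ hχ => sys_ne hS (hS'S hχ)) (fun ξ => if ξ = χ then X else if ξ = conjFun χ then X - τ (χ - conjFun χ) else τ₁ ξ)
    (by
      rintro ξ (h | h | h)
      · beta_reduce
        rw [if_neg (hneχ ξ h), if_neg (hneχc ξ h)]; exact iso_gen hτ₁ (mS ξ h)
      · beta_reduce
        rw [if_pos h]; exact hXg
      · beta_reduce
        rw [Set.mem_singleton_iff] at h
        rw [if_neg (by rw [h]; exact hccne), if_pos h]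
        exact gen_sub hXg (iso_gen hτ mcc))
    (by
      have hcc : classInner χ χ = n χ := hn χ hχ
      have e3 : classInner (conjFun χ) (conjFun χ) = n χ := by rw [sys_conj_norm (hS.isCharacter χ hχ), hcc]
      rintro ξ (h | h | h) ζ (h' | h' | h')
      · beta_reduce
        rw [if_neg (hneχ ξ h), if_neg (hneχc ξ h), if_neg (hneχ ζ h'), if_neg (hneχc ζ h')]
        exact iso_inner hτ₁ (mS ξ h) (mS ζ h')
      · beta_reduce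
        rw [if_neg (hneχ ξ h), if_neg (hneχc ξ h), if_pos h', h', hXo' ξ h, c1 ξ h]
      · beta_reduce
        rw [Set.mem_singleton_iff] at h'
        rw [if_neg (hneχ ξ h), if_neg (hneχc ξ h), if_neg (by rw [h']; exact hccne), if_pos h', h', ci_sub_r, hXo' ξ h, hTo ξ h, c2 ξ h, sub_zero]
      · beta_reduce
        rw [if_pos h, if_neg (hneχ ζ h'), if_neg (hneχc ζ h'), h, hXo ζ h', c1' ζ h']
      · beta_reduce
        rw [if_pos h, if_pos h', h, h', hXX, hcc]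
      · beta_reduce
        rw [Set.mem_singleton_iff] at h'
        rw [if_pos h, if_neg (by rw [h']; exact hccne), if_pos h', h, h', ci_sub_r, hXX, hTcc, hχχc, sub_self]
      · beta_reduce
        rw [Set.mem_singleton_iff] at h
        rw [if_neg (by rw [h]; exact hccne), if_pos h, if_neg (hneχ ζ h'), if_neg (hneχc ζ h'), h, ci_sub_l, hXo ζ h', ci_zero_comm (hTo ζ h'), c2' ζ h', sub_zero]
      · beta_reduce
        rw [Set.mem_singleton_iff] at h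
        rw [if_neg (by rw [h]; exact hccne), if_pos h, if_pos h', h, h', ci_sub_l, hXX, hTcc', hχcχ, sub_self]
      · beta_reduce
        rw [Set.mem_singleton_iff] at h h'
        rw [if_neg (by rw [h]; exact hccne), if_pos h, if_neg (by rw [h']; exact hccne), if_pos h', h, h', e3, ci_sub_l, ci_sub_r, ci_sub_r, hXX, hTcc, hTcc', hTT]
        ring)
  refine ⟨⟨α₀, z1_mono hsub hα₀, hα₀'⟩, τ₂, t1, agree hsub hτ hτ₁ hag t1 ?_⟩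
  rintro φ (h | h | h)
  · refine ⟨φ, mS φ h, rfl, ?_⟩
    rw [t2 φ (Or.inl h), if_neg (hneχ φ h), if_neg (hneχc φ h), sub_self, iso_zero zm_on hτ, add_zero]
  · refine ⟨(a : ℤ) • χ₁, z_smul _ (mS χ₁ hχ₁S), ?_, ?_⟩
    · have := (mem_z1.mp mθ).2
      rw [Pi.sub_apply] at this
      rw [h]; exact sub_eq_zero.mp this
    · rw [t2 φ (Or.inr (Or.inl h)), if_pos h, iso_smul hτ₁ (mS χ₁ hχ₁S), h, ← hθ, hXeq, add_comm]
  · rw [Set.mem_singleton_iff] at h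
    refine ⟨(a : ℤ) • χ₁, z_smul _ (mS χ₁ hχ₁S), ?_, ?_⟩
    · have := (mem_z1.mp mθ).2
      rw [Pi.sub_apply] at this
      rw [h, conj_one (hS.isCharacter χ hχ)]; exact sub_eq_zero.mp this
    · rw [t2 φ (Or.inr (Or.inr h)), if_neg (by rw [h]; exact hccne), if_pos h, iso_smul hτ₁ (mS χ₁ hχ₁S), h]
      have e1 : conjFun χ - (a : ℤ) • χ₁ = (χ - (a : ℤ) • χ₁) - (χ - conjFun χ) := by abel
      rw [e1, iso_sub zm_on hτ mθ mcc, ← hθ, hXeq]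
      abel

end CfsgLib.Coh
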