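import Cfsg.Agent.EqBase
import Cfsg.Agent.LibCoh4
import Cfsg.Agent.LibClifford
import Cfsg.Agent.LibInd2
import Cfsg.Agent.LibCharBasic3
/-!
# Coherence: induced characters (helper16)
-/
set_option autoImplicit false
set_option linter.all false
open Cfsg CfsgLib.CharBasic CfsgLib.CharIndA CfsgLib.CharNorm CfsgLib.Sgn
open scoped ComplexConjugate
namespace CfsgLib.Coh

universe u v
section Chain
variable {L : Type u} [Group L] [Fintype L] {G : Type v} [Group G] [Fintype G]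
variable {S : Set (L → ℂ)} {τ : (L → ℂ) → (G → ℂ)} {R : (L → ℂ) → Finset (G → ℂ)}

open Classical in
/-- iterated extension, in order of increasing degree -/
theorem chain (hS : IsCoherenceSystem S τ R) (d n : (L → ℂ) → ℕ) (hd : ∀ φ ∈ S, φ 1 = (d φ : ℂ)) (hn : ∀ φ ∈ S, classInner φ φ = (n φ : ℂ))
    (U S₀ : Finset (L → ℂ)) (hU : ↑U ⊆ S) (hUc : ∀ φ ∈ U, conjFun φ ∈ U) (hS₀ : S₀ ⊆ U) (hS₀c : ∀ φ ∈ S₀, conjFun φ ∈ S₀)
    (hcoh : IsCoherent (↑S₀ : Set (L → ℂ)) {1}ᶜ τ)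
    (hstep : ∀ χ ∈ U, χ ∉ S₀ → ∃ χ₁ ∈ S₀, d χ₁ ∣ d χ ∧
      (2 * d χ * d χ₁ : ℝ) < ∑ φ ∈ U.filter (fun φ => φ ∈ S₀ ∨ d φ < d χ), ((d φ : ℝ) ^ 2 / (n φ : ℝ))) :
    IsCoherent (↑U : Set (L → ℂ)) {1}ᶜ τ := by
  have hdc : ∀ φ ∈ S, d (conjFun φ) = d φ := by
    intro φ hφ
    have h1 := hd _ (hS.conj_mem φ hφ)
    rw [conj_one (hS.isCharacter φ hφ), hd φ hφ] at h1
    exact_mod_cast h1.symm
  have key : ∀ (k : ℕ) (S₁ : Finset (L → ℂ)), S₁.card = k → S₀ ⊆ S₁ → S₁ ⊆ U → (∀ φ ∈ S₁, conjFun φ ∈ S₁) →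
      (∀ φ ∈ S₁, φ ∉ S₀ → ∀ ψ ∈ U, d ψ < d φ → ψ ∈ S₁) → IsCoherent (↑S₁ : Set (L → ℂ)) {1}ᶜ τ := by
    intro k
    induction k using Nat.strong_induction_on with
    | _ k ih =>
      intro S₁ hcard h1 h2 h3 h4
      by_cases heq : S₁ ⊆ S₀
      · rw [Finset.Subset.antisymm heq h1]; exact hcoh
      · obtain ⟨χ₀, hχ₀⟩ : (S₁ \ S₀).Nonempty := by
          rw [Finset.sdiff_nonempty]; exact heq
        obtain ⟨χ, hχ, hmax⟩ := Finset.exists_max_image (S₁ \ S₀) d ⟨χ₀, hχ₀⟩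
        rw [Finset.mem_sdiff] at hχ
        have hχS := hU (Finset.mem_coe.mpr (h2 hχ.1))
        have hχc0 : conjFun χ ∉ S₀ := by
          intro h
          apply hχ.2
          have := hS₀c _ h
          rwa [conj_conj] at this
        set S₂ : Finset (L → ℂ) := (S₁.erase χ).erase (conjFun χ) with hS₂
        have m2 : ∀ φ, φ ∈ S₂ ↔ φ ≠ conjFun χ ∧ φ ≠ χ ∧ φ ∈ S₁ := by
          intro φ
          rw [hS₂, Finset.mem_erase, Finset.mem_erase]
        have hlt : S₂.card < k := by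
          rw [← hcard]
          apply Finset.card_lt_card
          refine ⟨fun φ h => ((m2 φ).mp h).2.2, fun h => ?_⟩
          exact ((m2 χ).mp (h hχ.1)).2.1 rfl
        have h5 : S₀ ⊆ S₂ := fun φ h => (m2 φ).mpr ⟨fun h' => hχc0 (h' ▸ h), fun h' => hχ.2 (h' ▸ h), h1 h⟩
        have h6 : S₂ ⊆ U := fun φ h => h2 ((m2 φ).mp h).2.2
        have h7 : ∀ φ ∈ S₂, conjFun φ ∈ S₂ := by
          intro φ h
          rw [m2] at h ⊢
          refine ⟨fun h' => h.2.1 ?_, fun h' => h.1 ?_, h3 φ h.2.2⟩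
          · rw [← conj_conj φ, h', conj_conj]
          · rw [← conj_conj φ, h']
        have h8 : ∀ φ ∈ S₂, φ ∉ S₀ → ∀ ψ ∈ U, d ψ < d φ → ψ ∈ S₂ := by
          intro φ h h' ψ hψ hlt'
          have h9 := ((m2 φ).mp h).2.2
          have h10 := hmax φ (Finset.mem_sdiff.mpr ⟨h9, h'⟩)
          rw [m2]
          refine ⟨fun he => ?_, fun he => ?_, h4 φ h9 h' ψ hψ hlt'⟩
          · rw [he, hdc χ hχS] at hlt'; omega
          · rw [he] at hlt'; omega
        have hcoh2 := ih _ hlt S₂ rfl h5 h6 h7 h8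
        obtain ⟨χ₁, hχ₁, hdvd, hineq⟩ := hstep χ (h2 hχ.1) hχ.2
        have hS2S : (↑S₂ : Set (L → ℂ)) ⊆ S := fun φ h => hU (h6 h)
        have hsum : ∑ φ ∈ U.filter (fun φ => φ ∈ S₀ ∨ d φ < d χ), ((d φ : ℝ) ^ 2 / (n φ : ℝ)) ≤ ∑ φ ∈ S₂, ((d φ : ℝ) ^ 2 / (n φ : ℝ)) := by
          apply Finset.sum_le_sum_of_subset_of_nonneg
          · intro φ hφ
            rw [Finset.mem_filter] at hφ
            rcases hφ.2 with h | h
            · exact h5 h
            · rw [m2]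
              refine ⟨fun he => ?_, fun he => ?_, h4 χ hχ.1 hχ.2 φ hφ.1 h⟩
              · rw [he, hdc χ hχS] at h; omega
              · rw [he] at h; omega
          · intro φ _ _; positivity
        have hext := extend hS d n hd hn S₂ hS2S h7 hcoh2 χ hχS (fun h => ((m2 χ).mp h).2.1 rfl) (fun h => ((m2 _).mp h).1 rfl)
          χ₁ (h5 hχ₁) hdvd (lt_of_lt_of_le hineq hsum)
        have hset : (↑S₁ : Set (L → ℂ)) = ↑S₂ ∪ {χ, conjFun χ} := by
          ext φ
          simp only [Finset.mem_coe, Set.mem_union, Set.mem_insert_iff, Set.mem_singleton_iff, m2]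
          constructor
          · intro h
            by_cases e1 : φ = χ
            · exact Or.inr (Or.inl e1)
            · by_cases e2 : φ = conjFun χ
              · exact Or.inr (Or.inr e2)
              · exact Or.inl ⟨e2, e1, h⟩
          · rintro (h | h | h)
            · exact h.2.2
            · rw [h]; exact hχ.1
            · rw [h]; exact h3 χ hχ.1
        rw [hset]; exact hext
  exact key U.card U rfl hS₀ (Finset.Subset.refl _) hUc (fun φ _ _ ψ hψ _ => hψ)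

/-- restriction of a coherence system -/
theorem sys_mono (hS : IsCoherenceSystem S τ R) {S' : Set (L → ℂ)} (hS' : S' ⊆ S) (hne : S'.Nonempty) (hc : ∀ χ ∈ S', conjFun χ ∈ S') :
    IsCoherenceSystem S' τ R where
  nonempty := hne
  isCharacter χ hχ := hS.isCharacter χ (hS' hχ)
  conj_mem := hc
  conj_ne χ hχ := hS.conj_ne χ (hS' hχ)
  isometry := iso_mono hS.isometry (z1_mono hS')
  map_one α hα := hS.map_one α (z1_mono hS' hα)
  orthogonal χ hχ φ hφ := hS.orthogonal χ (hS' hχ) φ (hS' hφ)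
  orthonormal χ hχ := hS.orthonormal χ (hS' hχ)
  virtual χ hχ := hS.virtual χ (hS' hχ)
  sum_eq χ hχ := hS.sum_eq χ (hS' hχ)
  disjoint χ hχ φ hφ := hS.disjoint χ (hS' hχ) φ (hS' hφ)

/-- coherence passes to subsets closed under conjugation -/
theorem coh_mono (hS : IsCoherenceSystem S τ R) {S₁ S₂ : Set (L → ℂ)} (h12 : S₂ ⊆ S₁) (h1 : S₁ ⊆ S) (hne : S₂.Nonempty) (hc : ∀ χ ∈ S₂, conjFun χ ∈ S₂)
    (hcoh : IsCoherent S₁ {1}ᶜ τ) : IsCoherent S₂ {1}ᶜ τ := by
  obtain ⟨-, τ₁, hτ₁, hag⟩ := hcoh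
  obtain ⟨χ, hχ⟩ := hne
  have hχS := h1 (h12 hχ)
  refine ⟨⟨χ - conjFun χ, ?_, fun h => hS.conj_ne χ hχS (sub_eq_zero.mp h).symm⟩, τ₁, iso_mono hτ₁ (z_mono h12), fun α hα => hag α (z1_mono h12 hα)⟩
  rw [mem_z1]
  exact ⟨z_minus (z_sub hχ) (z_sub (hc χ hχ)), (mem_z1.mp (sys_conj_mem hS hχS)).2⟩

theorem sys_finite (hS : IsCoherenceSystem S τ R) : S.Finite :=
  orth_finite hS.orthogonal (fun χ hχ => sys_ne hS hχ)

end Chain

section Ker
variable {G : Type u} [Group G] [Fintype G]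

open Classical in
/-- `∑ χ(1)²` over the irreducible characters with kernel containing `N` -/
theorem sum_sq_ker (N : Subgroup G) (hN : N.Normal) :
    ∑ χ : IrrCharacter G, (if ∀ x ∈ N, (χ : G → ℂ) x = (χ : G → ℂ) 1 then ((χ : G → ℂ) 1) ^ 2 else 0) = (N.index : ℂ) := by
  haveI : Fintype N := Fintype.ofFinite _
  have h1 : IsCharacter N (fun _ : N => (1 : ℂ)) := irr_isCharacter isIrrCharacter_one
  have h2 := classFun_expand (ind_classFun N (fun _ : N => (1 : ℂ)))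
  have h3 : indFun N (fun _ : N => (1 : ℂ)) 1 = N.index := by rw [CharIndA.ind_one, mul_one]
  rw [← h3]
  conv_rhs => rw [h2]
  rw [Finset.sum_apply]
  refine Finset.sum_congr rfl fun χ _ => ?_
  rw [Pi.smul_apply, smul_eq_mul, CharIndA.frobenius N _ (irr_classFun χ.2)]
  have hcd := char_one_nat (irr_isCharacter χ.2)
  by_cases h : ∀ x ∈ N, (χ : G → ℂ) x = (χ : G → ℂ) 1
  · rw [if_pos h]
    have h4 : (fun n : N => (χ : G → ℂ) n) = (χ : G → ℂ) 1 • (fun _ : N => (1 : ℂ)) := by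
      ext n; simp [h n n.2]
    rw [h4, ci_smul_r, irr_inner_self isIrrCharacter_one, mul_one]
    obtain ⟨m, hm⟩ := hcd
    rw [hm, Complex.conj_natCast]; ring
  · rw [if_neg h]
    have h4 : classInner (fun n : N => (χ : G → ℂ) n) (fun _ : N => (1 : ℂ)) = 0 := by
      by_contra hne
      apply h
      have h5 := CfsgLib.Clifford.restrict_of_invariant hN χ.2 isIrrCharacter_one (fun x => rfl) hne
      intro x hx
      have e1 := congrFun h5 ⟨x, hx⟩
      have e2 := congrFun h5 1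
      have e1' : (χ : G → ℂ) x = classInner (fun n : N => (χ : G → ℂ) n) (fun _ : N => (1 : ℂ)) * 1 := e1
      have e2' : (χ : G → ℂ) 1 = classInner (fun n : N => (χ : G → ℂ) n) (fun _ : N => (1 : ℂ)) * 1 := e2
      rw [e1', e2']
    rw [ci_zero_comm h4, zero_mul]

end Ker
end CfsgLib.Coh
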