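import Cfsg.Agent.EqBase
import Cfsg.Agent.LibCoh5
/-!
# Coherence: the sets `S(A)` (helper16)
-/
set_option autoImplicit false
set_option linter.all false
open Cfsg CfsgLib.CharBasic CfsgLib.CharIndA CfsgLib.CharNorm CfsgLib.Sgn CfsgLib.Clifford
open scoped ComplexConjugate
namespace CfsgLib.Coh

universe u v
variable {L : Type u} [Group L] [Fintype L] {K : Subgroup L} (hK : K.Normal)

theorem ia_char {A : Subgroup L} {φ : L → ℂ} (h : φ ∈ inducedIrrAbove K A) : IsCharacter L φ := by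
  obtain ⟨θ, h1, -, -, rfl⟩ := h
  exact isCharacter_ind K (irr_isCharacter h1)

theorem ia_mono {A B : Subgroup L} (hAB : A ≤ B) : inducedIrrAbove K B ⊆ inducedIrrAbove K A := by
  rintro φ ⟨θ, h1, h2, h3, rfl⟩
  exact ⟨θ, h1, h2, fun a ha => h3 a (hAB ha), rfl⟩

theorem ia_bot {A : Subgroup L} : inducedIrrAbove K A ⊆ inducedIrrAbove K ⊥ := ia_mono bot_le

theorem conj_ind (θ : K → ℂ) : conjFun (indFun K θ) = indFun K (conjFun θ) := by
  classical
  ext g
  rw [conjFun, ind_apply, ind_apply, map_mul, map_inv₀, Complex.conj_natCast, map_sum]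
  congr 1
  refine Finset.sum_congr rfl fun x _ => ?_
  by_cases h : x⁻¹ * g * x ∈ K
  · rw [ext_mem _ _ h, ext_mem _ _ h]; rfl
  · rw [ext_not_mem _ _ h, ext_not_mem _ _ h, map_zero]

theorem ia_conj {A : Subgroup L} {φ : L → ℂ} (h : φ ∈ inducedIrrAbove K A) : conjFun φ ∈ inducedIrrAbove K A := by
  classical
  haveI : Fintype K := Fintype.ofFinite _
  obtain ⟨θ, h1, h2, h3, rfl⟩ := h
  refine ⟨conjFun θ, isIrrCharacter_conj h1, fun h => h2 ?_, fun a ha => ?_, conj_ind θ⟩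
  · funext x
    have := congrFun h x
    have h4 : conj (θ x) = 1 := this
    rw [← Complex.conj_conj (θ x), h4, map_one]
  · show conj (θ a) = conj (θ 1)
    rw [h3 a ha]

include hK in
/-- distinct members are orthogonal -/
theorem ind_orth {θ ψ : K → ℂ} (hθ : IsIrrCharacter K θ) (hψ : IsIrrCharacter K ψ) (h : indFun K θ ≠ indFun K ψ) :
    classInner (indFun K θ) (indFun K ψ) = 0 := by
  haveI : Fintype K := Fintype.ofFinite _
  rw [ci_ind_ind hK hθ hψ]
  have : IsEmpty {x : L // cj hK x θ = ψ} := by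
    refine ⟨?_⟩
    rintro ⟨x, hx⟩
    apply h
    rw [← hx, ind_cj hK]
  rw [show Nat.card {x : L // cj hK x θ = ψ} = 0 from Nat.card_of_isEmpty]; simp

include hK in
theorem ia_orth {A : Subgroup L} {φ ψ : L → ℂ} (h : φ ∈ inducedIrrAbove K A) (h' : ψ ∈ inducedIrrAbove K A) (hne : φ ≠ ψ) : classInner φ ψ = 0 := by
  obtain ⟨θ, h1, -, -, rfl⟩ := h
  obtain ⟨θ', h1', -, -, rfl⟩ := h'
  exact ind_orth hK h1 h1' hne

theorem ind_self_ne {θ : K → ℂ} (hθ : IsIrrCharacter K θ) : classInner (indFun K θ) (indFun K θ) ≠ 0 := by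
  classical
  haveI : Fintype K := Fintype.ofFinite _
  intro h
  have h1 := inner_self_eq_zero h
  have h2 := congrFun h1 1
  rw [CharIndA.ind_one] at h2
  have h3 : (K.index : ℂ) ≠ 0 := by exact_mod_cast Subgroup.index_ne_zero_of_finite
  exact (mul_ne_zero h3 (irr_one_ne_zero hθ)) h2

include hK in
theorem ia_finite {A : Subgroup L} : (inducedIrrAbove K A).Finite :=
  orth_finite (fun χ hχ φ hφ hne => ia_orth hK hχ hφ hne) (fun χ hχ => by
    obtain ⟨θ, h1, -, -, rfl⟩ := hχ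
    exact ind_self_ne h1)

include hK in
open Classical in
/-- the sum of `φ(1)²/⟨φ,φ⟩` over `S(A)` -/
theorem sum_formula {A : Subgroup L} (hA : A.Normal) (hAK : A ≤ K) (F : Finset (L → ℂ)) (hF : ∀ φ, φ ∈ F ↔ φ ∈ inducedIrrAbove K A) :
    ∑ φ ∈ F, φ 1 ^ 2 / classInner φ φ = (K.index : ℂ) * ((A.relIndex K : ℂ) - 1) := by
  haveI : Fintype K := Fintype.ofFinite _
  -- the characters of `K`
  set T : Finset (IrrCharacter K) := Finset.univ.filter (fun θ => (θ : K → ℂ) ≠ (fun _ => 1) ∧ ∀ a : K, (a : L) ∈ A → (θ : K → ℂ) a = (θ : K → ℂ) 1) with hT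
  have hTmem : ∀ θ : IrrCharacter K, θ ∈ T ↔ (θ : K → ℂ) ≠ (fun _ => 1) ∧ ∀ a : K, (a : L) ∈ A → (θ : K → ℂ) a = (θ : K → ℂ) 1 := by
    intro θ; rw [hT, Finset.mem_filter]; simp
  have hFT : ∀ θ ∈ T, indFun K (θ : K → ℂ) ∈ F := by
    intro θ hθ
    rw [hTmem] at hθ
    exact (hF _).mpr ⟨θ, θ.2, hθ.1, hθ.2, rfl⟩
  have hsumT : ∑ θ ∈ T, (θ : K → ℂ) 1 ^ 2 = (A.relIndex K : ℂ) - 1 := by
    have h1 := sum_sq_ker (A.subgroupOf K) inferInstance
    have h2 : ((A.subgroupOf K).index : ℂ) = A.relIndex K := rfl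
    rw [h2] at h1
    rw [← h1, ← Finset.add_sum_erase Finset.univ _ (Finset.mem_univ (⟨fun _ => 1, isIrrCharacter_one⟩ : IrrCharacter K))]
    rw [if_pos (fun x _ => rfl)]
    have h3 : ∑ θ ∈ T, (θ : K → ℂ) 1 ^ 2 = ∑ χ ∈ Finset.univ.erase (⟨fun _ => 1, isIrrCharacter_one⟩ : IrrCharacter K),
        (if ∀ x ∈ A.subgroupOf K, (χ : K → ℂ) x = (χ : K → ℂ) 1 then ((χ : K → ℂ) 1) ^ 2 else 0) := by
      rw [← Finset.sum_filter]
      refine Finset.sum_congr ?_ fun _ _ => rfl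
      ext θ
      rw [hTmem, Finset.mem_filter, Finset.mem_erase]
      constructor
      · rintro ⟨h4, h5⟩
        exact ⟨⟨fun h => h4 (by rw [h]), Finset.mem_univ _⟩, fun x hx => h5 x hx⟩
      · rintro ⟨⟨h4, -⟩, h5⟩
        exact ⟨fun h => h4 (Subtype.ext h), fun x hx => h5 x hx⟩
    rw [h3]; ring
  -- the induced class function
  set ρ : L → ℂ := ∑ θ ∈ T, (θ : K → ℂ) 1 • indFun K (θ : K → ℂ) with hρ
  set c : (L → ℂ) → ℂ := fun φ => ∑ θ ∈ T.filter (fun θ : IrrCharacter K => indFun K (θ : K → ℂ) = φ), (θ : K → ℂ) 1 with hc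
  have hρF : ρ = ∑ φ ∈ F, c φ • φ := by
    rw [hρ, ← Finset.sum_fiberwise_of_maps_to hFT]
    refine Finset.sum_congr rfl fun φ _ => ?_
    rw [hc, Finset.sum_smul]
    exact Finset.sum_congr rfl fun θ hθ => by rw [(Finset.mem_filter.mp hθ).2]
  have hcφ : ∀ φ ∈ F, c φ * classInner φ φ = φ 1 := by
    intro φ hφ
    have hφ' := (hF φ).mp hφ
    have h1 : classInner ρ φ = c φ * classInner φ φ := by
      rw [hρF, ci_sum_l, Finset.sum_eq_single φ]
      · rw [ci_smul_l]
      · intro ψ hψ hne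
        rw [ci_smul_l, ia_orth hK ((hF ψ).mp hψ) hφ' hne, mul_zero]
      · intro h; exact absurd hφ h
    rw [← h1]
    obtain ⟨θ₀, hθ₀, hne₀, hker₀, hφθ⟩ := hφ'
    have hφc : IsClassFunction L φ := by rw [hφθ]; exact ind_classFun K θ₀
    have hφch : IsCharacter L φ := by rw [hφθ]; exact isCharacter_ind K (irr_isCharacter hθ₀)
    -- expansion of the restriction
    have h2 := classFun_expand_apply (classFun_restrict hφc K) 1
    have h3 : classInner ρ φ = ∑ θ ∈ T, (θ : K → ℂ) 1 * classInner (fun k : K => φ k) (θ : K → ℂ) := by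
      rw [hρ, ci_sum_l]
      refine Finset.sum_congr rfl fun θ _ => ?_
      rw [ci_smul_l, CharIndA.frobenius K _ hφc, ← ci_conj]
      obtain ⟨m, hm⟩ := char_mult (isCharacter_restrict hφch K) (irr_isCharacter θ.2)
      rw [hm, Complex.conj_natCast]
    rw [h3]
    have h4 : φ 1 = ∑ θ : IrrCharacter K, classInner (fun k : K => φ k) (θ : K → ℂ) * (θ : K → ℂ) 1 := h2
    rw [h4, ← Finset.sum_subset (Finset.subset_univ T)]
    · exact Finset.sum_congr rfl fun θ _ => mul_comm _ _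
    · intro θ _ hθ
      have h5 : classInner (fun k : K => φ k) (θ : K → ℂ) = 0 := by
        rw [hφθ, ci_ind_restrict hK hθ₀ θ.2]
        have : IsEmpty {x : L // cj hK x θ₀ = (θ : K → ℂ)} := by
          refine ⟨?_⟩
          rintro ⟨x, hx⟩
          apply hθ
          rw [hTmem, ← hx]
          constructor
          · intro h
            apply hne₀
            have h6 := congrArg (cj hK x⁻¹) h
            rw [cj_cj, mul_inv_cancel, cj_one] at h6
            rw [h6]; rfl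
          · intro a ha
            rw [cj_apply, cj_one_apply]
            exact hker₀ _ (hA.conj_mem a ha x)
        rw [show Nat.card {x : L // cj hK x θ₀ = (θ : K → ℂ)} = 0 from Nat.card_of_isEmpty]; simp
      rw [h5, zero_mul]
  have hne : ∀ φ ∈ F, classInner φ φ ≠ 0 := by
    intro φ hφ
    obtain ⟨θ, h1, -, -, rfl⟩ := (hF φ).mp hφ
    exact ind_self_ne h1
  have h1 : ∑ φ ∈ F, φ 1 ^ 2 / classInner φ φ = ρ 1 := by
    rw [hρF, Finset.sum_apply]
    refine Finset.sum_congr rfl fun φ hφ => ?_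
    rw [Pi.smul_apply, smul_eq_mul, ← hcφ φ hφ]
    have := hne φ hφ
    field_simp
  rw [h1, hρ, Finset.sum_apply, ← hsumT, Finset.mul_sum]
  refine Finset.sum_congr rfl fun θ _ => ?_
  rw [Pi.smul_apply, CharIndA.ind_one, smul_eq_mul]; ring

/-- bound for the degree: `[D, C] ≤ B ≤ ker θ`, `D ≤ C` -/
theorem degree_bound {θ : K → ℂ} (hθ : IsIrrCharacter K θ) {B C D : Subgroup L} (hC : C.Normal) (hBD : B ≤ D) (hDC : D ≤ C) (hCK : C ≤ K)
    (hcent : ∀ x ∈ D, ∀ y ∈ C, x * y * x⁻¹ * y⁻¹ ∈ B) (hker : ∀ a : K, (a : L) ∈ B → θ a = θ 1) {m : ℕ} (hm : θ 1 = m) :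
    m ^ 2 ≤ (C.relIndex K) ^ 2 * D.relIndex C := by
  classical
  haveI : Fintype K := Fintype.ofFinite _
  set C' := C.subgroupOf K with hC'
  haveI : Fintype C' := Fintype.ofFinite _
  obtain ⟨ψ, hψ, hne⟩ := exists_below C' hθ
  obtain ⟨r, hr, hr'⟩ := irr_one_nat hψ
  -- `m ≤ [K:C] r`
  have h1 : m ≤ C.relIndex K * r := by
    have h2 := char_mult (isCharacter_ind C' (irr_isCharacter hψ)) (irr_isCharacter hθ)
    obtain ⟨a, ha⟩ := h2
    have h3 : classInner (indFun C' ψ) θ ≠ 0 := by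
      rw [CharIndA.frobenius C' ψ (irr_classFun hθ)]
      intro h; exact hne (ci_zero_comm h)
    have ha1 : 1 ≤ a := by
      rcases Nat.eq_zero_or_pos a with h | h
      · exfalso; apply h3; rw [ha, h, Nat.cast_zero]
      · exact h
    obtain ⟨mm, hmm, hexp, -⟩ := char_expand (isCharacter_ind C' (irr_isCharacter hψ))
    have h4 : (indFun C' ψ) 1 = ∑ χ : IrrCharacter K, (mm χ : ℂ) * (χ : K → ℂ) 1 := by
      conv_lhs => rw [hexp]
      rw [Finset.sum_apply]
      exact Finset.sum_congr rfl fun χ _ => by rw [Pi.smul_apply, smul_eq_mul]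
    have hdeg : ∀ χ : IrrCharacter K, ∃ k : ℕ, (χ : K → ℂ) 1 = k := fun χ => char_one_nat (irr_isCharacter χ.2)
    choose dd hdd using hdeg
    have h5 : (C.relIndex K * r : ℕ) = ∑ χ : IrrCharacter K, mm χ * dd χ := by
      have : ((C.relIndex K * r : ℕ) : ℂ) = ((∑ χ : IrrCharacter K, mm χ * dd χ : ℕ) : ℂ) := by
        rw [CharIndA.ind_one, hr'] at h4
        push_cast
        rw [show ((C.relIndex K : ℕ) : ℂ) = (C'.index : ℂ) from rfl, h4]
        exact Finset.sum_congr rfl fun χ _ => by rw [hdd]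
      exact_mod_cast this
    rw [h5]
    have h6 : mm ⟨θ, hθ⟩ * dd ⟨θ, hθ⟩ ≤ ∑ χ : IrrCharacter K, mm χ * dd χ :=
      Finset.single_le_sum (f := fun χ => mm χ * dd χ) (fun _ _ => Nat.zero_le _) (Finset.mem_univ _)
    have h7 : dd ⟨θ, hθ⟩ = m := by
      have := hdd ⟨θ, hθ⟩
      have h8 : θ 1 = (dd ⟨θ, hθ⟩ : ℂ) := this
      rw [hm] at h8
      exact_mod_cast h8.symm
    have h8 : mm ⟨θ, hθ⟩ = a := by
      have := hmm ⟨θ, hθ⟩
      have h9 : classInner (indFun C' ψ) θ = (mm ⟨θ, hθ⟩ : ℂ) := this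
      rw [ha] at h9
      exact_mod_cast h9.symm
    rw [h7, h8] at h6
    nlinarith
  -- `r² ≤ [C:D]`
  have h2 : r ^ 2 ≤ D.relIndex C := by
    set D' := (D.subgroupOf K).subgroupOf C' with hD'
    have hkerψ : ∀ x : C', ((x : K) : L) ∈ B → ψ x = ψ 1 := by
      intro x hx
      apply CfsgLib.Ind2.ker_constituent (φ := fun c : C' => θ c) (isCharacter_restrict (irr_isCharacter hθ) C') hψ
      · exact hne
      · exact hker x hx
    have h3 : ∀ d ∈ D', ‖ψ d‖ = (ψ 1).re := by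
      intro d hd
      apply CfsgLib.Ind2.scalar_of_comm_mod_ker hψ
      intro c
      apply hkerψ
      exact hcent ((d : K) : L) hd ((c : K) : L) c.2
    have h4 := CfsgLib.Ind2.sq_degree_mul_le hψ D' h3
    have h5 : charDegree ψ = r := by
      have := CfsgLib.CharInt.irr_one_eq_charDegree hψ
      rw [hr'] at this
      exact_mod_cast this.symm
    rw [h5] at h4
    have h6 : Nat.card C' = D.relIndex C * Nat.card D' := by
      have h7 : Nat.card C' = Nat.card C := Nat.card_congr (Subgroup.subgroupOfEquivOfLe hCK).toEquiv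
      have h8 : Nat.card D' = Nat.card D := by
        have e1 : Nat.card D' = Nat.card (D.subgroupOf K) :=
          Nat.card_congr (Subgroup.subgroupOfEquivOfLe (H := D.subgroupOf K) (K := C') (fun x hx => hDC hx)).toEquiv
        rw [e1]
        exact Nat.card_congr (Subgroup.subgroupOfEquivOfLe (hDC.trans hCK)).toEquiv
      rw [h7, h8]
      have h9 := (D.subgroupOf C).index_mul_card
      rw [← h9]
      congr 1
      exact Nat.card_congr (Subgroup.subgroupOfEquivOfLe hDC).toEquiv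
    rw [h6] at h4
    exact Nat.le_of_mul_le_mul_right h4 Nat.card_pos
  calc m ^ 2 ≤ (C.relIndex K * r) ^ 2 := Nat.pow_le_pow_left h1 2
    _ = (C.relIndex K) ^ 2 * r ^ 2 := by ring
    _ ≤ (C.relIndex K) ^ 2 * D.relIndex C := Nat.mul_le_mul_left _ h2

end CfsgLib.Coh
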