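import Cfsg.Agent.EqBase
import Cfsg.Agent.LibCoh6
/-!
# Coherence: Peterfalvi (6.3), (6.4) (helper16)
-/
set_option autoImplicit false
set_option linter.all false
open Cfsg CfsgLib.CharBasic CfsgLib.CharIndA CfsgLib.CharNorm CfsgLib.Sgn CfsgLib.Clifford
open scoped ComplexConjugate
namespace CfsgLib.Coh

universe u v

/-- a non-trivial linear character with prescribed kernel of a solvable group -/
theorem exists_linear {K : Type u} [Group K] [Finite K] (hs : Group.IsSolvable K) (A : Subgroup K) [A.Normal] (hA : A ≠ ⊤) :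
    ∃ θ : K → ℂ, IsIrrCharacter K θ ∧ θ ≠ (fun _ => 1) ∧ (∀ a ∈ A, θ a = θ 1) ∧ θ 1 = 1 := by
  classical
  have hnt : Nontrivial (K ⧸ A) := by
    obtain ⟨x, -, hx⟩ := SetLike.exists_of_lt (lt_top_iff_ne_top.mpr hA)
    exact ⟨⟨(x : K ⧸ A), 1, fun h => hx ((QuotientGroup.eq_one_iff x).mp h)⟩⟩
  have h1 := Group.IsSolvable.commutator_lt_top_of_nontrivial (G := K ⧸ A)
  obtain ⟨q, -, hq⟩ := SetLike.exists_of_lt h1
  have hq1 : (Abelianization.of q : Abelianization (K ⧸ A)) ≠ 1 := by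
    intro h
    apply hq
    have : q ∈ (Abelianization.of : K ⧸ A →* _).ker := h
    rwa [Abelianization.ker_of] at this
  obtain ⟨φ, hφ⟩ := CommGroup.exists_apply_ne_one_of_hasEnoughRootsOfUnity (Abelianization (K ⧸ A)) ℂ hq1
  let f : K →* ℂˣ := φ.comp (Abelianization.of.comp (QuotientGroup.mk' A))
  refine ⟨fun g => (f g : ℂ), isIrrCharacter_hom f, ?_, ?_, by simp⟩
  · intro h
    obtain ⟨x, rfl⟩ := QuotientGroup.mk_surjective q
    apply hφ
    have := congrFun h x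
    exact Units.ext this
  · intro a ha
    have h2 : (QuotientGroup.mk' A) a = 1 := (QuotientGroup.eq_one_iff a).mpr ha
    show ((φ (Abelianization.of (QuotientGroup.mk' A a)) : ℂˣ) : ℂ) = (f 1 : ℂ)
    rw [h2, map_one, map_one, map_one]

variable {L : Type u} [Group L] [Fintype L] {G : Type v} [Group G] [Fintype G] {K : Subgroup L}
variable {τ : (L → ℂ) → (G → ℂ)} {R : (L → ℂ) → Finset (G → ℂ)}

theorem subgroupOf_ne_top {A : Subgroup L} (hAK : A < K) : A.subgroupOf K ≠ ⊤ := by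
  intro h
  rw [Subgroup.subgroupOf_eq_top] at h
  exact absurd h (not_le_of_gt hAK)

theorem ia_nonempty (hs : Group.IsSolvable K) {A : Subgroup L} (hA : A.Normal) (hAK : A < K) :
    ∃ θ : K → ℂ, IsIrrCharacter K θ ∧ θ ≠ (fun _ => 1) ∧ (∀ a : K, (a : L) ∈ A → θ a = θ 1) ∧ θ 1 = 1 ∧ indFun K θ ∈ inducedIrrAbove K A := by
  obtain ⟨θ, h1, h2, h3, h4⟩ := exists_linear hs (A.subgroupOf K) (subgroupOf_ne_top hAK)
  exact ⟨θ, h1, h2, fun a ha => h3 a ha, h4, ⟨θ, h1, h2, fun a ha => h3 a ha, rfl⟩⟩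

/-- degrees and norms as natural numbers -/
theorem exists_dn {S : Set (L → ℂ)} (hS : IsCoherenceSystem S τ R) : ∃ d n : (L → ℂ) → ℕ, (∀ φ ∈ S, φ 1 = (d φ : ℂ)) ∧
    (∀ φ ∈ S, classInner φ φ = (n φ : ℂ)) ∧ (∀ φ ∈ S, 0 < d φ) ∧ (∀ φ ∈ S, 0 < n φ) := by
  classical
  have h1 : ∀ φ, ∃ k : ℕ, φ ∈ S → φ 1 = (k : ℂ) := by
    intro φ
    by_cases h : φ ∈ S
    · obtain ⟨k, hk⟩ := char_one_nat (hS.isCharacter φ h)
      exact ⟨k, fun _ => hk⟩
    · exact ⟨0, fun h' => absurd h' h⟩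
  have h2 : ∀ φ, ∃ k : ℕ, φ ∈ S → classInner φ φ = (k : ℂ) ∧ 0 < k := by
    intro φ
    by_cases h : φ ∈ S
    · obtain ⟨k, hk, hk'⟩ := sys_nat hS h
      exact ⟨k, fun _ => ⟨hk', hk⟩⟩
    · exact ⟨0, fun h' => absurd h' h⟩
  choose d hd using h1
  choose n hn using h2
  refine ⟨d, n, hd, fun φ h => (hn φ h).1, fun φ h => ?_, fun φ h => (hn φ h).2⟩
  rcases Nat.eq_zero_or_pos (d φ) with h' | h'
  · exfalso
    apply sys_ne_one hS h
    rw [hd φ h, h', Nat.cast_zero]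
  · exact h'

/-- Peterfalvi (6.3) -/
theorem bound (hK : K.Normal) (hsolv : Group.IsSolvable K) (hS : IsCoherenceSystem (inducedIrrAbove K ⊥) τ R)
    {A B C D : Subgroup L} (hAn : A.Normal) (hBn : B.Normal) (hCn : C.Normal) (hAK : A < K) (hBK : B < K) (hBD : B ≤ D) (hDC : D ≤ C)
    (hCK : C ≤ K) (hcent : ∀ x ∈ D, ∀ y ∈ C, x * y * x⁻¹ * y⁻¹ ∈ B) (hA : IsCoherent (inducedIrrAbove K A) {1}ᶜ τ)
    (hlt : 4 * C.index ^ 2 * D.relIndex C < (A.relIndex K - 1) ^ 2) : IsCoherent (inducedIrrAbove K B) {1}ᶜ τ := by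
  classical
  obtain ⟨d, n, hd, hn, hdpos, hnpos⟩ := exists_dn hS
  have hfA : (inducedIrrAbove K A).Finite := ia_finite hK
  have hfB : (inducedIrrAbove K B).Finite := ia_finite hK
  set S₀ : Finset (L → ℂ) := hfA.toFinset with hS₀
  set U : Finset (L → ℂ) := S₀ ∪ hfB.toFinset with hU
  have m0 : ∀ φ, φ ∈ S₀ ↔ φ ∈ inducedIrrAbove K A := fun φ => hfA.mem_toFinset
  have mU : ∀ φ, φ ∈ U ↔ φ ∈ inducedIrrAbove K A ∨ φ ∈ inducedIrrAbove K B := by
    intro φ
    rw [hU, Finset.mem_union, m0, hfB.mem_toFinset]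
  have hUS : (↑U : Set (L → ℂ)) ⊆ inducedIrrAbove K ⊥ := by
    intro φ hφ
    rcases (mU φ).mp hφ with h | h
    · exact ia_bot h
    · exact ia_bot h
  obtain ⟨lam, hlam, hlam1, hlamA, hlamd, hlamS⟩ := ia_nonempty hsolv hAn hAK
  obtain ⟨lam', -, -, -, -, hlamS'⟩ := ia_nonempty hsolv hBn hBK
  have hdlam : d (indFun K lam) = K.index := by
    have h1 := hd _ (ia_bot hlamS)
    rw [CharIndA.ind_one, hlamd, mul_one] at h1
    exact_mod_cast h1.symm
  have hsum0 : ∑ φ ∈ S₀, ((d φ : ℝ) ^ 2 / (n φ : ℝ)) = (K.index : ℝ) * ((A.relIndex K : ℝ) - 1) := by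
    have h1 := sum_formula hK hAn hAK.le S₀ m0
    have h2 : ∑ φ ∈ S₀, φ 1 ^ 2 / classInner φ φ = ((∑ φ ∈ S₀, ((d φ : ℝ) ^ 2 / (n φ : ℝ)) : ℝ) : ℂ) := by
      push_cast
      refine Finset.sum_congr rfl fun φ hφ => ?_
      have h3 : φ ∈ inducedIrrAbove K ⊥ := ia_bot ((m0 φ).mp hφ)
      rw [hd φ h3, hn φ h3]
    rw [h2] at h1
    have h3 : (((K.index : ℝ) * ((A.relIndex K : ℝ) - 1) : ℝ) : ℂ) = (K.index : ℂ) * ((A.relIndex K : ℂ) - 1) := by push_cast; rfl
    rw [← h3] at h1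
    exact_mod_cast h1
  have hKi : 0 < K.index := Nat.pos_of_ne_zero Subgroup.index_ne_zero_of_finite
  have hcohU : IsCoherent (↑U : Set (L → ℂ)) {1}ᶜ τ := by
    apply chain hS d n hd hn U S₀ hUS
    · intro φ hφ
      rw [mU] at hφ ⊢
      exact hφ.imp ia_conj ia_conj
    · exact Finset.subset_union_left
    · intro φ hφ
      rw [m0] at hφ ⊢
      exact ia_conj hφ
    · rw [hS₀, Set.Finite.coe_toFinset]; exact hA
    · intro χ hχ hχ0
      refine ⟨indFun K lam, (m0 _).mpr hlamS, ?_, ?_⟩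
      · have hχS := hUS hχ
        obtain ⟨θ, hθ, -, -, hχθ⟩ := hχS
        obtain ⟨m, hm⟩ := char_one_nat (irr_isCharacter hθ)
        have h1 := hd χ (hUS hχ)
        rw [hχθ, CharIndA.ind_one, hm] at h1
        have h2 : K.index * m = d χ := by rw [hχθ]; exact_mod_cast h1
        rw [hdlam, ← h2]
        exact Dvd.intro _ rfl
      · have hχB : χ ∈ inducedIrrAbove K B := by
          rcases (mU χ).mp hχ with h | h
          · exact absurd ((m0 χ).mpr h) hχ0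
          · exact h
        obtain ⟨θ, hθ, -, hker, hχθ⟩ := hχB
        obtain ⟨m, hm⟩ := char_one_nat (irr_isCharacter hθ)
        have h1 := hd χ (hUS hχ)
        rw [hχθ, CharIndA.ind_one, hm] at h1
        have h2 : K.index * m = d χ := by rw [hχθ]; exact_mod_cast h1
        have h3 := degree_bound hθ hCn hBD hDC hCK hcent hker hm
        have h4 : ∑ φ ∈ S₀, ((d φ : ℝ) ^ 2 / (n φ : ℝ)) ≤ ∑ φ ∈ U.filter (fun φ => φ ∈ S₀ ∨ d φ < d χ), ((d φ : ℝ) ^ 2 / (n φ : ℝ)) := by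
          apply Finset.sum_le_sum_of_subset_of_nonneg
          · intro φ hφ
            exact Finset.mem_filter.mpr ⟨Finset.subset_union_left hφ, Or.inl hφ⟩
          · intro φ _ _; positivity
        refine lt_of_lt_of_le ?_ h4
        rw [hsum0, hdlam, ← h2]
        have hCi : C.index = K.index * C.relIndex K := by
          rw [mul_comm]; exact (Subgroup.relIndex_mul_index hCK).symm
        -- `2 K.index m < A.relIndex K - 1`
        have h5 : (2 * K.index * m) ^ 2 < (A.relIndex K - 1) ^ 2 := by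
          refine lt_of_le_of_lt ?_ hlt
          rw [hCi]
          calc (2 * K.index * m) ^ 2 = 4 * K.index ^ 2 * m ^ 2 := by ring
            _ ≤ 4 * K.index ^ 2 * ((C.relIndex K) ^ 2 * D.relIndex C) := Nat.mul_le_mul_left _ h3
            _ = _ := by ring
        have h6 : 2 * K.index * m < A.relIndex K - 1 := lt_of_pow_lt_pow_left₀ 2 (Nat.zero_le _) h5
        have h7 : (2 * K.index * m : ℝ) < (A.relIndex K : ℝ) - 1 := by
          have h8 : 2 * K.index * m + 1 < A.relIndex K := by omega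
          have h9 : (2 * K.index * m + 1 : ℝ) < A.relIndex K := by exact_mod_cast h8
          linarith
        have hKR : (0 : ℝ) < K.index := by exact_mod_cast hKi
        push_cast
        nlinarith
  have hBU : inducedIrrAbove K B ⊆ (↑U : Set (L → ℂ)) := fun φ h => (mU φ).mpr (Or.inr h)
  exact coh_mono hS hBU hUS ⟨_, hlamS'⟩ (fun χ hχ => ia_conj hχ) hcohU

/-- induction step inequality -/
theorem bound_arith {w u v : ℕ} (hw : 0 < w) (hu : 0 < u) (hv : 4 * w ^ 2 + 1 < v) : 4 * (w * u) ^ 2 * v < (u * v - 1) ^ 2 := by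
  obtain ⟨v', rfl⟩ : ∃ v', v = v' + 1 := ⟨v - 1, by omega⟩
  have h1 : u * v' ≤ u * (v' + 1) - 1 := by
    have : u * (v' + 1) = u * v' + u := by ring
    omega
  have h2 : (u * v') ^ 2 ≤ (u * (v' + 1) - 1) ^ 2 := Nat.pow_le_pow_left h1 2
  refine lt_of_lt_of_le ?_ h2
  have h3 : 4 * w ^ 2 + 1 ≤ v' := by omega
  have h4 : 4 * w ^ 2 * (v' + 1) < v' ^ 2 := by nlinarith
  have h5 : 0 < u ^ 2 := by positivity
  calc 4 * (w * u) ^ 2 * (v' + 1) = u ^ 2 * (4 * w ^ 2 * (v' + 1)) := by ring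
    _ < u ^ 2 * v' ^ 2 := Nat.mul_lt_mul_of_pos_left h4 h5
    _ = (u * v') ^ 2 := by ring

end CfsgLib.Coh
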