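import Cfsg.Agent.EqBase
import Cfsg.Agent.LibCoh7
import Cfsg.Agent.LibH2Gen2
/-!
# Coherence: Peterfalvi (6.4), (6.5) (helper16)
-/
set_option autoImplicit false
set_option linter.all false
open Cfsg CfsgLib.CharBasic CfsgLib.CharIndA CfsgLib.CharNorm CfsgLib.Sgn CfsgLib.Clifford
open scoped ComplexConjugate
namespace CfsgLib.Coh

universe u v

/-- in a nilpotent group no non-trivial normal subgroup equals its commutator with the whole group -/
theorem nil_comm {Q : Type u} [Group Q] (hQ : Group.IsNilpotent Q) (A : Subgroup Q) (h : A ≤ ⁅A, (⊤ : Subgroup Q)⁆) : A = ⊥ := by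
  have h1 : ∀ n : ℕ, A ≤ (⊤ : Subgroup Q).lowerCentralSeries n := by
    intro n
    induction n with
    | zero => exact le_top
    | succ n ih => exact h.trans (Subgroup.commutator_mono ih le_top)
  obtain ⟨n, hn⟩ := Subgroup.nilpotent_iff_lowerCentralSeries.mp hQ
  rw [eq_bot_iff]
  exact (h1 n).trans hn.le

theorem nil_step {L : Type u} [Group L] {M A H : Subgroup L} (hMA : M ≤ A) (hAH : A ≤ H) [(M.subgroupOf H).Normal]
    (hnil : Group.IsNilpotent (↥H ⧸ M.subgroupOf H)) (h : A ≤ ⁅A, H⁆ ⊔ M) : A ≤ M := by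
  set f := QuotientGroup.mk' (M.subgroupOf H) with hf
  set A' := A.subgroupOf H with hA'
  have h1 : A' ≤ ⁅A', (⊤ : Subgroup H)⁆ ⊔ M.subgroupOf H := by
    have h2 : (⁅A', (⊤ : Subgroup H)⁆ ⊔ M.subgroupOf H).map H.subtype = ⁅A, H⁆ ⊔ M := by
      rw [Subgroup.map_sup, Subgroup.map_commutator, hA', Subgroup.subgroupOf_map_subtype, Subgroup.subgroupOf_map_subtype,
        inf_eq_left.mpr hAH, inf_eq_left.mpr (hMA.trans hAH), ← MonoidHom.range_eq_map, Subgroup.range_subtype]
    intro x hx
    have h3 : (x : L) ∈ (⁅A', (⊤ : Subgroup H)⁆ ⊔ M.subgroupOf H).map H.subtype := by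
      rw [h2]; exact h hx
    obtain ⟨y, hy, hyx⟩ := h3
    have : y = x := Subtype.ext hyx
    rw [← this]; exact hy
  have h2 : A'.map f ≤ ⁅A'.map f, (⊤ : Subgroup (↥H ⧸ M.subgroupOf H))⁆ := by
    have h3 := Subgroup.map_mono (f := f) h1
    rw [Subgroup.map_sup, Subgroup.map_commutator] at h3
    have h4 : (M.subgroupOf H).map f = ⊥ := by
      rw [eq_bot_iff, Subgroup.map_le_iff_le_comap]
      intro x hx
      exact (QuotientGroup.eq_one_iff x).mpr hx
    have h5 : (⊤ : Subgroup H).map f = ⊤ := by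
      rw [← MonoidHom.range_eq_map]
      exact MonoidHom.range_eq_top.mpr (QuotientGroup.mk'_surjective _)
    rw [h4, h5, sup_bot_eq] at h3
    exact h3
  have h3 := nil_comm hnil _ h2
  intro x hx
  have h4 : f ⟨x, hAH hx⟩ ∈ A'.map f := ⟨⟨x, hAH hx⟩, hx, rfl⟩
  rw [h3, Subgroup.mem_bot] at h4
  exact (QuotientGroup.eq_one_iff (N := M.subgroupOf H) ⟨x, hAH hx⟩).mp h4

variable {L : Type u} [Group L] [Fintype L] {G : Type v} [Group G] [Fintype G] {K : Subgroup L}
variable {τ : (L → ℂ) → (G → ℂ)} {R : (L → ℂ) → Finset (G → ℂ)}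

/-- Peterfalvi (6.4) -/
theorem descend (hK : K.Normal) (hsolv : Group.IsSolvable K) (hS : IsCoherenceSystem (inducedIrrAbove K ⊥) τ R)
    (M H₁ H : Subgroup L) (hMn : M.Normal) (hH₁n : H₁.Normal) (hHn : H.Normal) (hMH₁ : M ≤ H₁) (hH₁H : H₁ ≤ H) (hHK : H ≤ K)
    [(M.subgroupOf H).Normal] (hnil : Group.IsNilpotent (↥H ⧸ M.subgroupOf H)) (hcoh : IsCoherent (inducedIrrAbove K H₁) {1}ᶜ τ)
    (hbig : 4 * K.index ^ 2 + 1 < H₁.relIndex H) : IsCoherent (inducedIrrAbove K M) {1}ᶜ τ := by
  classical
  have hH₁ltH : H₁ < H := by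
    refine lt_of_le_of_ne hH₁H fun h => ?_
    rw [h, Subgroup.relIndex_self] at hbig
    omega
  have hKi : 0 < K.index := Nat.pos_of_ne_zero Subgroup.index_ne_zero_of_finite
  -- strong induction on the order of `A`
  have key : ∀ (k : ℕ) (A : Subgroup L), Nat.card A = k → A.Normal → M ≤ A → A ≤ H₁ → IsCoherent (inducedIrrAbove K A) {1}ᶜ τ →
      IsCoherent (inducedIrrAbove K M) {1}ᶜ τ := by
    intro k
    induction k using Nat.strong_induction_on with
    | _ k ih =>
      intro A hcard hAn hMA hAH₁ hA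
      by_cases heq : A ≤ M
      · rw [le_antisymm hMA heq]; exact hA
      · have hAH : A ≤ H := hAH₁.trans hH₁H
        set B : Subgroup L := ⁅A, H⁆ ⊔ M with hB
        have hBn : B.Normal := by
          haveI := hAn; haveI := hHn; haveI := hMn
          infer_instance
        have hBA : B ≤ A := by
          haveI := hAn
          exact sup_le (Subgroup.commutator_le_left A H) hMA
        have hBltA : B < A := by
          refine lt_of_le_of_ne hBA fun h => heq ?_
          exact nil_step hMA hAH hnil (by rw [← hB, h])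
        have hltcard : Nat.card B < k := by
          rw [← hcard]
          exact Set.ncard_lt_ncard hBltA
        apply ih _ hltcard B rfl hBn le_sup_right (hBA.trans hAH₁)
        have hAK : A < K := lt_of_lt_of_le (lt_of_le_of_lt hAH₁ hH₁ltH) hHK
        refine bound hK hsolv hS (A := A) (B := B) (C := H) (D := A) hAn hBn hHn hAK (lt_of_lt_of_le hBltA hAK.le) hBA hAH hHK ?_ hA ?_
        · intro x hx y hy
          apply (le_sup_left : ⁅A, H⁆ ≤ B)
          exact Subgroup.commutator_mem_commutator hx hy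
        · have h1 : A.relIndex K = H.relIndex K * A.relIndex H := by
            rw [mul_comm]; exact (Subgroup.relIndex_mul_relIndex A H K hAH hHK).symm
          have h2 : H.index = K.index * H.relIndex K := by
            rw [mul_comm]; exact (Subgroup.relIndex_mul_index hHK).symm
          have h3 : H₁.relIndex H ≤ A.relIndex H := by
            have h4 := Subgroup.relIndex_mul_relIndex A H₁ H hAH₁ hH₁H
            rw [← h4]
            have h5 : 0 < A.relIndex H₁ := Nat.pos_of_ne_zero (by
              intro h0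
              have := Subgroup.index_ne_zero_of_finite (H := A.subgroupOf H₁)
              exact this h0)
            exact Nat.le_mul_of_pos_left _ h5
          have hu : 0 < H.relIndex K := Nat.pos_of_ne_zero (Subgroup.index_ne_zero_of_finite (H := H.subgroupOf K))
          rw [h1, h2]
          exact bound_arith hKi hu (lt_of_lt_of_le hbig h3)
  exact key _ H₁ rfl hH₁n hMH₁ le_rfl hcoh

/-- the characters above a subgroup containing the commutator subgroup are of the same degree -/
theorem uniform_above (hK : K.Normal) (hsolv : Group.IsSolvable K) (hS : IsCoherenceSystem (inducedIrrAbove K ⊥) τ R)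
    {H₁ : Subgroup L} (hn : H₁.Normal) (hlt : H₁ < K) (hcomm : ⁅K, K⁆ ≤ H₁) : IsCoherent (inducedIrrAbove K H₁) {1}ᶜ τ := by
  obtain ⟨lam, -, -, -, -, hlamS⟩ := ia_nonempty hsolv hn hlt
  have hsys := sys_mono hS ia_bot ⟨_, hlamS⟩ (fun χ hχ => ia_conj hχ)
  apply uniform hsys
  haveI : Fintype K := Fintype.ofFinite _
  have key : ∀ φ ∈ inducedIrrAbove K H₁, φ 1 = K.index := by
    rintro φ ⟨θ, hθ, -, hker, rfl⟩
    obtain ⟨m, hm, hm'⟩ := irr_one_nat hθ
    have h1 := degree_bound hθ (B := H₁) (C := K) (D := K) hK hlt.le le_rfl le_rfl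
      (fun x hx y hy => hcomm (Subgroup.commutator_mem_commutator hx hy)) hker hm'
    rw [Subgroup.relIndex_self, one_pow, one_mul] at h1
    have h2 : m = 1 := by nlinarith
    rw [CharIndA.ind_one, hm', h2]; simp
  intro φ hφ ψ hψ
  rw [key φ hφ, key ψ hψ]

end CfsgLib.Coh
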