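import Cfsg.Agent.EqBase
import Cfsg.Agent.LibCoh8
/-!
# Coherence: Peterfalvi (6.5) (helper16)
-/
set_option autoImplicit false
set_option linter.all false
open Cfsg CfsgLib.CharBasic CfsgLib.CharIndA CfsgLib.CharNorm CfsgLib.Sgn CfsgLib.Clifford
open scoped ComplexConjugate
namespace CfsgLib.Coh

universe u v

/-- all stabilizers have the same index -/
theorem card_dvd_of_stab {E X : Type*} [Group E] [MulAction E X] [Finite E] [Finite X] {m : ℕ}
    (h : ∀ x : X, (MulAction.stabilizer E x).index = m) : m ∣ Nat.card X := by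
  classical
  haveI := Fintype.ofFinite X
  haveI : Fintype (MulAction.orbitRel.Quotient E X) := Fintype.ofFinite _
  have h1 : ∀ ω : MulAction.orbitRel.Quotient E X, Nat.card (E ⧸ MulAction.stabilizer E ω.out) = m := fun ω => h _
  rw [Nat.card_congr (MulAction.selfEquivSigmaOrbitsQuotientStabilizer E X), Nat.card_sigma, Finset.sum_congr rfl fun ω _ => h1 ω,
    Finset.sum_const, smul_eq_mul]
  exact Dvd.intro_left _ rfl

section Frob
variable {L : Type u} [Group L] [Finite L] {K H₁ : Subgroup L}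

/-- fixed-point-free action on the sections of `K / H₁` -/
theorem frob_mod (hK : K.Normal) (hH₁ : H₁.Normal) (hH₁K : H₁ ≤ K) (hcomm : ⁅K, K⁆ ≤ H₁)
    (hfrob : ∀ k ∈ K, k ∉ H₁ → ∀ x : L, x * k * x⁻¹ * k⁻¹ ∈ H₁ → x ∈ K) {N : Subgroup L} (hN : N.Normal) (h1N : H₁ ≤ N) (hNK : N ≤ K) :
    K.index ∣ H₁.relIndex N - 1 := by
  classical
  set f := QuotientGroup.mk' H₁ with hf
  have hfs : Function.Surjective f := QuotientGroup.mk'_surjective _
  have hker : ∀ x : L, f x = 1 ↔ x ∈ H₁ := fun x => QuotientGroup.eq_one_iff x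
  set N' := N.map f with hN'
  have hN'n : N'.Normal := hN.map f hfs
  set K' := K.map f with hK'
  have hmemN : ∀ x : L, f x ∈ N' ↔ x ∈ N := by
    intro x
    constructor
    · rintro ⟨y, hy, hyx⟩
      have h2 : f (y⁻¹ * x) = 1 := by rw [map_mul, map_inv, hyx, inv_mul_cancel]
      have h3 := N.mul_mem hy (h1N ((hker _).mp h2))
      rwa [mul_inv_cancel_left] at h3
    · intro hx; exact ⟨x, hx, rfl⟩
  have hmemK : ∀ x : L, f x ∈ K' ↔ x ∈ K := by
    intro x
    constructor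
    · rintro ⟨y, hy, hyx⟩
      have h2 : f (y⁻¹ * x) = 1 := by rw [map_mul, map_inv, hyx, inv_mul_cancel]
      have h3 := K.mul_mem hy (hH₁K ((hker _).mp h2))
      rwa [mul_inv_cancel_left] at h3
    · intro hx; exact ⟨x, hx, rfl⟩
  let X : SubMulAction (ConjAct (L ⧸ H₁)) (L ⧸ H₁) :=
    { carrier := {q | q ∈ N' ∧ q ≠ 1}
      smul_mem' := by
        rintro g q ⟨h1, h2⟩
        rw [ConjAct.smul_def]
        refine ⟨hN'n.conj_mem q h1 _, fun h => h2 ?_⟩
        have : q = (ConjAct.ofConjAct g)⁻¹ * (ConjAct.ofConjAct g * q * (ConjAct.ofConjAct g)⁻¹) * (ConjAct.ofConjAct g) := by group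
        rw [this, h]; group }
  have hstab : ∀ x : X, (MulAction.stabilizer (ConjAct (L ⧸ H₁)) x).index = K.index := by
    rintro ⟨q, hq1, hq2⟩
    obtain ⟨k, rfl⟩ := hfs q
    have hkN : k ∈ N := (hmemN k).mp hq1
    have hkH : k ∉ H₁ := fun h => hq2 ((hker k).mpr h)
    have h1 : ∀ g : L, ConjAct.toConjAct (f g) ∈ MulAction.stabilizer (ConjAct (L ⧸ H₁)) (⟨f k, hq1, hq2⟩ : X) ↔ g ∈ K := by
      intro g
      rw [MulAction.mem_stabilizer_iff]
      have e1 : (ConjAct.toConjAct (f g) • (⟨f k, hq1, hq2⟩ : X) = ⟨f k, hq1, hq2⟩) ↔ f g * f k * (f g)⁻¹ = f k := by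
        constructor
        · intro h
          exact congrArg Subtype.val h
        · intro h
          exact Subtype.ext h
      rw [e1]
      have e2 : f g * f k * (f g)⁻¹ = f k ↔ g * k * g⁻¹ * k⁻¹ ∈ H₁ := by
        rw [← hker, map_mul, map_mul, map_mul, map_inv, map_inv, mul_inv_eq_one]
      rw [e2]
      constructor
      · exact hfrob k (hNK hkN) hkH g
      · intro hg
        exact hcomm (Subgroup.commutator_mem_commutator hg (hNK hkN))
    let φ : L →* ConjAct (L ⧸ H₁) := (ConjAct.toConjAct : (L ⧸ H₁) ≃* _).toMonoidHom.comp f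
    have hφs : Function.Surjective φ := (ConjAct.toConjAct : (L ⧸ H₁) ≃* _).surjective.comp hfs
    rw [← Subgroup.index_comap_of_surjective _ hφs]
    congr 1
    ext g
    exact h1 g
  haveI : Finite (ConjAct (L ⧸ H₁)) := inferInstanceAs (Finite (L ⧸ H₁))
  have h1 := card_dvd_of_stab hstab
  have h2 : Nat.card X = H₁.relIndex N - 1 := by
    have h3 : Nat.card N' = H₁.relIndex N := by
      have h4 : H₁.relIndex N = Nat.card (N.map f) := by
        have := Subgroup.relIndex_ker f (K := N)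
        rwa [QuotientGroup.ker_mk'] at this
      rw [h4]
    rw [← h3]
    have e : X ≃ {q : N' // q ≠ 1} :=
      { toFun := fun x => ⟨⟨x.1, x.2.1⟩, fun h => x.2.2 (congrArg Subtype.val h)⟩
        invFun := fun q => ⟨q.1.1, q.1.2, fun h => q.2 (Subtype.ext h)⟩
        left_inv := fun x => rfl
        right_inv := fun q => rfl }
    haveI : Fintype N' := Fintype.ofFinite _
    rw [Nat.card_congr e, Nat.card_eq_fintype_card, Fintype.card_subtype_compl, Fintype.card_subtype_eq, Nat.card_eq_fintype_card]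
  rwa [h2] at h1

theorem relIndex_pos' (A B : Subgroup L) : 0 < A.relIndex B := Nat.pos_of_ne_zero (Subgroup.index_ne_zero_of_finite (H := A.subgroupOf B))

theorem relIndex_odd (hodd : Odd (Nat.card L)) (A B : Subgroup L) : Odd (A.relIndex B) :=
  Odd.of_dvd_nat hodd ((Subgroup.relIndex_dvd_card A B).trans (Subgroup.card_subgroup_dvd_card B))

theorem one_lt_relIndex {A B : Subgroup L} (h : A < B) : 1 < A.relIndex B := by
  have h1 := relIndex_pos' A B
  have h2 : A.relIndex B ≠ 1 := fun h2 => absurd (Subgroup.relIndex_eq_one.mp h2) (not_le_of_gt h)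
  omega

theorem odd_dvd_bound {w a : ℕ} (hw : Odd w) (ha : Odd a) (ha1 : 1 < a) (h : w ∣ a - 1) : 2 * w + 1 ≤ a := by
  have h1 : 2 ∣ a - 1 := by
    obtain ⟨k, hk⟩ := ha
    exact ⟨k, by omega⟩
  have h2 : 2 * w ∣ a - 1 := Nat.Coprime.mul_dvd_of_dvd_of_dvd (Nat.coprime_two_left.mpr hw) h1 h
  have := Nat.le_of_dvd (by omega) h2
  omega

theorem mid_bound (hodd : Odd (Nat.card L)) (hK : K.Normal) (hH₁ : H₁.Normal) (hH₁K : H₁ ≤ K) (hcomm : ⁅K, K⁆ ≤ H₁)
    (hfrob : ∀ k ∈ K, k ∉ H₁ → ∀ x : L, x * k * x⁻¹ * k⁻¹ ∈ H₁ → x ∈ K) {N : Subgroup L} (hN : N.Normal) (h1N : H₁ < N) (hNK : N < K) :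
    4 * K.index ^ 2 + 1 < H₁.relIndex K := by
  have h1 := frob_mod hK hH₁ hH₁K hcomm hfrob hN h1N.le hNK.le
  have h2 := frob_mod hK hH₁ hH₁K hcomm hfrob hK hH₁K le_rfl
  have h3 := Subgroup.relIndex_mul_relIndex H₁ N K h1N.le hNK.le
  have hw : Odd K.index := Odd.of_dvd_nat hodd (Subgroup.index_dvd_card K)
  have ha := relIndex_odd hodd H₁ N
  have hb := relIndex_odd hodd N K
  have ha1 := one_lt_relIndex h1N
  have hb1 := one_lt_relIndex hNK
  set w := K.index
  set a := H₁.relIndex N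
  set b := N.relIndex K
  rw [← h3] at h2 ⊢
  have h4 : w ∣ b - 1 := by
    have h5 : w ∣ a * (b - 1) := by
      have h6 : a * b - 1 = a * (b - 1) + (a - 1) := by
        obtain ⟨b', hb'⟩ : ∃ b', b = b' + 1 := ⟨b - 1, by omega⟩
        have : a * (b' + 1) = a * b' + a := by ring
        rw [hb', this, Nat.add_sub_cancel]; omega
      rw [h6] at h2
      exact (Nat.dvd_add_left h1).mp h2
    have h6 : w.Coprime a := by
      have : Nat.Coprime (a - 1) a := by
        have h7 := Nat.coprime_self_add_right (m := a - 1) (n := 1)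
        rw [Nat.sub_add_cancel ha1.le] at h7
        exact h7.mpr (Nat.coprime_one_right _)
      exact Nat.Coprime.coprime_dvd_left h1 this
    exact h6.dvd_of_dvd_mul_left h5
  have h5 := odd_dvd_bound hw ha ha1 h1
  have h6 := odd_dvd_bound hw hb hb1 h4
  have h7 : (2 * w + 1) * (2 * w + 1) ≤ a * b := Nat.mul_le_mul h5 h6
  have h8 : 0 < w := Nat.pos_of_ne_zero Subgroup.index_ne_zero_of_finite
  nlinarith

/-- generalized: `H₁ = [K,K] M` in the quotient by `M` -/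
theorem map_H₁ {M : Subgroup L} (hMK : M ≤ K) [(M.subgroupOf K).Normal] (hH₁ : H₁ = ⁅K, K⁆ ⊔ M) (hH₁K : H₁ ≤ K) {k : K} (hk : (k : L) ∈ H₁) :
    QuotientGroup.mk' (M.subgroupOf K) k ∈ commutator (↥K ⧸ M.subgroupOf K) := by
  set f := QuotientGroup.mk' (M.subgroupOf K) with hf
  have h1 : k ∈ commutator K ⊔ M.subgroupOf K := by
    have h2 : (commutator K ⊔ M.subgroupOf K).map K.subtype = ⁅K, K⁆ ⊔ M := by
      rw [Subgroup.map_sup, commutator_def, Subgroup.map_commutator, Subgroup.subgroupOf_map_subtype, inf_eq_left.mpr hMK,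
        ← MonoidHom.range_eq_map, Subgroup.range_subtype]
    have h3 : (k : L) ∈ (commutator K ⊔ M.subgroupOf K).map K.subtype := by
      rw [h2, ← hH₁]; exact hk
    obtain ⟨y, hy, hyx⟩ := h3
    have : y = k := Subtype.ext hyx
    rw [← this]; exact hy
  have h2 : f k ∈ (commutator K ⊔ M.subgroupOf K).map f := ⟨k, h1, rfl⟩
  rw [Subgroup.map_sup] at h2
  have h4 : (M.subgroupOf K).map f = ⊥ := by
    rw [eq_bot_iff, Subgroup.map_le_iff_le_comap]
    intro x hx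
    exact (QuotientGroup.eq_one_iff x).mpr hx
  have h5 : (commutator K).map f ≤ commutator (↥K ⧸ M.subgroupOf K) := by
    rw [commutator_def, Subgroup.map_commutator, commutator_def]
    exact Subgroup.commutator_mono le_top le_top
  rw [h4, sup_bot_eq] at h2
  exact h5 h2

/-- if `K / M` is nilpotent and `[K : [K,K] M]` is a power of `p` then so is `[K : M]` -/
theorem prime_pow_of {M : Subgroup L} (hMK : M ≤ K) [(M.subgroupOf K).Normal] (hnil : Group.IsNilpotent (↥K ⧸ M.subgroupOf K))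
    (hH₁ : H₁ = ⁅K, K⁆ ⊔ M) (hH₁n : H₁.Normal) (hH₁K : H₁ ≤ K) {p m : ℕ} (hp : p.Prime) (h : H₁.relIndex K = p ^ m) :
    ∃ m' : ℕ, M.relIndex K = p ^ m' := by
  classical
  set Q := ↥K ⧸ M.subgroupOf K with hQ
  have hcard : Nat.card Q = M.relIndex K := rfl
  have hpos : Nat.card Q ≠ 0 := Nat.card_pos.ne'
  rw [← hcard]
  refine ⟨_, Nat.eq_prime_pow_of_unique_prime_dvd hpos ?_⟩
  intro q hq hqQ
  by_contra hqp
  haveI := Fact.mk hq
  obtain ⟨S⟩ : Nonempty (Sylow q Q) := inferInstance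
  haveI hSn : (S : Subgroup Q).Normal := by
    have := ((Group.isNilpotent_of_finite_tfae (G := Q)).out 0 3 rfl rfl).mp hnil
    exact this q inferInstance S
  have hSc : (S : Subgroup Q) ≤ commutator Q := by
    intro s hs
    obtain ⟨k, rfl⟩ := QuotientGroup.mk'_surjective (M.subgroupOf K) s
    apply map_H₁ hMK hH₁ hH₁K
    obtain ⟨n, hn⟩ := (S.isPGroup') ⟨_, hs⟩
    have h1 : (QuotientGroup.mk' (M.subgroupOf K) k) ^ q ^ n = 1 := congrArg Subtype.val hn
    rw [← map_pow] at h1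
    have h2 : k ^ q ^ n ∈ M.subgroupOf K := (QuotientGroup.eq_one_iff _).mp h1
    have h3 : k ^ q ^ n ∈ H₁.subgroupOf K := by
      show ((k ^ q ^ n : K) : L) ∈ H₁
      rw [hH₁]
      exact (le_sup_right : M ≤ ⁅K, K⁆ ⊔ M) h2
    have h4 : orderOf (QuotientGroup.mk' (H₁.subgroupOf K) k) ∣ q ^ n := by
      apply orderOf_dvd_of_pow_eq_one
      rw [← map_pow]
      exact (QuotientGroup.eq_one_iff _).mpr h3
    have h5 : orderOf (QuotientGroup.mk' (H₁.subgroupOf K) k) ∣ p ^ m := by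
      rw [← h]; exact orderOf_dvd_natCard _
    have h6 : Nat.Coprime (q ^ n) (p ^ m) := Nat.coprime_pow_primes _ _ hq hp hqp
    have h7 := Nat.eq_one_of_dvd_coprimes h6 h4 h5
    rw [orderOf_eq_one_iff] at h7
    exact (QuotientGroup.eq_one_iff k).mp h7
  have hSf := hSc.trans (CfsgLib.H2Gen2.commutator_le_frattini hnil)
  obtain ⟨C, hC⟩ := Subgroup.exists_right_complement'_of_coprime (N := (S : Subgroup Q)) (Sylow.card_coprime_index S)
  have h1 : C ⊔ frattini Q = ⊤ := by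
    rw [eq_top_iff, ← hC.sup_eq_top]
    exact sup_le (hSf.trans le_sup_right) le_sup_left
  have h2 := frattini_nongenerating h1
  have h3 : (S : Subgroup Q) = ⊥ := by
    have := hC.disjoint
    rw [h2, disjoint_top] at this
    exact this
  have h4 : Nat.card S = 1 := by
    have : Nat.card (S : Subgroup Q) = 1 := by rw [h3]; exact Subgroup.card_bot
    exact this
  have h5 := S.card_eq_multiplicity
  rw [h4] at h5
  have h6 := Nat.Prime.factorization_pos_of_dvd hq hpos hqQ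
  have h7 := Nat.one_lt_pow h6.ne' hq.one_lt
  omega

/-- if `K / M` is nilpotent and `[K : [K,K] M]` is a prime then `K / M` is abelian -/
theorem comm_of_prime {M : Subgroup L} (hMK : M ≤ K) [(M.subgroupOf K).Normal] (hnil : Group.IsNilpotent (↥K ⧸ M.subgroupOf K))
    (hH₁ : H₁ = ⁅K, K⁆ ⊔ M) (hH₁n : H₁.Normal) (hH₁K : H₁ ≤ K) {p : ℕ} (hp : p.Prime) (h : H₁.relIndex K = p) : ⁅K, K⁆ ≤ M := by
  classical
  haveI := Fact.mk hp
  set f := QuotientGroup.mk' (M.subgroupOf K) with hf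
  have hcard : Nat.card (↥K ⧸ H₁.subgroupOf K) = p := h
  haveI hcyc : IsCyclic (↥K ⧸ H₁.subgroupOf K) := isCyclic_of_prime_card hcard
  obtain ⟨g, hg⟩ := hcyc.exists_generator
  obtain ⟨x, rfl⟩ := QuotientGroup.mk'_surjective _ g
  have h1 : Subgroup.zpowers (f x) ⊔ frattini (↥K ⧸ M.subgroupOf K) = ⊤ := by
    rw [eq_top_iff]
    intro q _
    obtain ⟨k, rfl⟩ := QuotientGroup.mk'_surjective _ q
    obtain ⟨i, hi⟩ := Subgroup.mem_zpowers_iff.mp (hg (QuotientGroup.mk' (H₁.subgroupOf K) k))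
    have h2 : QuotientGroup.mk' (H₁.subgroupOf K) (x ^ (-i) * k) = 1 := by
      rw [map_mul, map_zpow, zpow_neg, hi, inv_mul_cancel]
    have h3 : ((x ^ (-i) * k : K) : L) ∈ H₁ := (QuotientGroup.eq_one_iff (N := H₁.subgroupOf K) (x ^ (-i) * k)).mp h2
    have h4 := CfsgLib.H2Gen2.commutator_le_frattini hnil (map_H₁ hMK hH₁ hH₁K h3)
    have h5 : f k = (f x) ^ i * f (x ^ (-i) * k) := by
      rw [map_mul, map_zpow, zpow_neg, mul_inv_cancel_left]
    show f k ∈ _
    rw [h5]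
    exact Subgroup.mul_mem_sup (Subgroup.mem_zpowers_iff.mpr ⟨i, rfl⟩) h4
  have h2 := frattini_nongenerating h1
  have h3 : ∀ a b : ↥K ⧸ M.subgroupOf K, a * b = b * a := by
    intro a b
    have ha : a ∈ Subgroup.zpowers (f x) := by rw [h2]; trivial
    have hb : b ∈ Subgroup.zpowers (f x) := by rw [h2]; trivial
    obtain ⟨i, rfl⟩ := Subgroup.mem_zpowers_iff.mp ha
    obtain ⟨j, rfl⟩ := Subgroup.mem_zpowers_iff.mp hb
    rw [← zpow_add, ← zpow_add, add_comm]
  rw [Subgroup.commutator_le]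
  intro a ha b hb
  have h4 : f ⟨a * b * a⁻¹ * b⁻¹, K.mul_mem (K.mul_mem (K.mul_mem ha hb) (K.inv_mem ha)) (K.inv_mem hb)⟩ = 1 := by
    have e : (⟨a * b * a⁻¹ * b⁻¹, K.mul_mem (K.mul_mem (K.mul_mem ha hb) (K.inv_mem ha)) (K.inv_mem hb)⟩ : K) =
        ⟨a, ha⟩ * ⟨b, hb⟩ * ⟨a, ha⟩⁻¹ * ⟨b, hb⟩⁻¹ := rfl
    rw [e, map_mul, map_mul, map_mul, map_inv, map_inv, h3 (f ⟨a, ha⟩) (f ⟨b, hb⟩)]
    group
  exact (QuotientGroup.eq_one_iff (N := M.subgroupOf K) _).mp h4

/-- if `[K : H₁]` is not a prime power there is a normal subgroup strictly between -/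
theorem exists_mid (hK : K.Normal) (hH₁n : H₁.Normal) (hH₁K : H₁ < K) (hcomm : ⁅K, K⁆ ≤ H₁) (h : ¬ ∃ p m : ℕ, p.Prime ∧ H₁.relIndex K = p ^ m) :
    ∃ N : Subgroup L, N.Normal ∧ H₁ < N ∧ N < K := by
  classical
  set v := H₁.relIndex K with hv
  have hv1 := one_lt_relIndex hH₁K
  rw [← hv] at hv1
  obtain ⟨p, hp, hpv⟩ := Nat.exists_prime_and_dvd hv1.ne'
  have h1 : ∃ q : ℕ, q.Prime ∧ q ∣ v ∧ q ≠ p := by
    by_contra hcon
    push Not at hcon
    exact h ⟨p, _, hp, Nat.eq_prime_pow_of_unique_prime_dvd (by omega) fun {d} hd hdv => hcon d hd hdv⟩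
  obtain ⟨q, hq, hqv, hqp⟩ := h1
  set m := p ^ v.factorization p with hm
  have hcomm' : ∀ x ∈ K, ∀ y ∈ K, (QuotientGroup.mk' H₁ x) * (QuotientGroup.mk' H₁ y) = (QuotientGroup.mk' H₁ y) * (QuotientGroup.mk' H₁ x) := by
    intro x hx y hy
    have h2 : QuotientGroup.mk' H₁ (x * y * x⁻¹ * y⁻¹) = 1 :=
      (QuotientGroup.eq_one_iff _).mpr (hcomm (Subgroup.commutator_mem_commutator hx hy))
    rw [map_mul, map_mul, map_mul, map_inv, map_inv, mul_inv_eq_one, mul_inv_eq_iff_eq_mul] at h2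
    exact h2
  have hmem : ∀ x : L, QuotientGroup.mk' H₁ x = 1 ↔ x ∈ H₁ := fun x => QuotientGroup.eq_one_iff x
  let N : Subgroup L :=
    { carrier := {k | k ∈ K ∧ k ^ m ∈ H₁}
      mul_mem' := by
        rintro a b ⟨h1, h2⟩ ⟨h3, h4⟩
        refine ⟨K.mul_mem h1 h3, ?_⟩
        rw [← hmem] at h2 h4 ⊢
        rw [map_pow] at h2 h4 ⊢
        rw [map_mul, (show Commute _ _ from hcomm' a h1 b h3).mul_pow, h2, h4, one_mul]
      one_mem' := ⟨K.one_mem, by rw [one_pow]; exact H₁.one_mem⟩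
      inv_mem' := by
        rintro a ⟨h1, h2⟩
        exact ⟨K.inv_mem h1, by rw [inv_pow]; exact H₁.inv_mem h2⟩ }
  have hNmem : ∀ k, k ∈ N ↔ k ∈ K ∧ k ^ m ∈ H₁ := fun k => Iff.rfl
  refine ⟨N, ⟨?_⟩, ?_, ?_⟩
  · intro n hn g
    rw [hNmem] at hn ⊢
    refine ⟨hK.conj_mem n hn.1 g, ?_⟩
    rw [conj_pow]
    exact hH₁n.conj_mem _ hn.2 g
  · refine lt_of_le_of_ne (fun x hx => (hNmem x).mpr ⟨hH₁K.le hx, H₁.pow_mem hx m⟩) fun heq => ?_
    haveI := Fact.mk hp
    obtain ⟨g, hg⟩ := exists_prime_orderOf_dvd_card' (G := ↥K ⧸ H₁.subgroupOf K) p hpv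
    obtain ⟨k, rfl⟩ := QuotientGroup.mk'_surjective _ g
    have h2 : (k : L) ∉ H₁ := by
      intro h3
      have h4 : QuotientGroup.mk' (H₁.subgroupOf K) k = 1 := (QuotientGroup.eq_one_iff k).mpr h3
      rw [h4, orderOf_one] at hg
      exact hp.one_lt.ne hg
    apply h2
    rw [heq, hNmem]
    refine ⟨k.2, ?_⟩
    have h3 : (QuotientGroup.mk' (H₁.subgroupOf K) k) ^ m = 1 := by
      rw [← orderOf_dvd_iff_pow_eq_one, hg, hm]
      exact dvd_pow_self p (Nat.Prime.factorization_pos_of_dvd hp (by omega) hpv).ne'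
    rw [← map_pow] at h3
    exact (QuotientGroup.eq_one_iff (N := H₁.subgroupOf K) (k ^ m)).mp h3
  · refine lt_of_le_of_ne (fun x hx => ((hNmem x).mp hx).1) fun heq => ?_
    haveI := Fact.mk hq
    obtain ⟨g, hg⟩ := exists_prime_orderOf_dvd_card' (G := ↥K ⧸ H₁.subgroupOf K) q hqv
    obtain ⟨k, rfl⟩ := QuotientGroup.mk'_surjective _ g
    have h2 : (k : L) ∈ N := by rw [heq]; exact k.2
    have h3 : (QuotientGroup.mk' (H₁.subgroupOf K) k) ^ m = 1 := by
      rw [← map_pow]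
      exact (QuotientGroup.eq_one_iff _).mpr ((hNmem _).mp h2).2
    have h4 := orderOf_dvd_of_pow_eq_one h3
    rw [hg, hm] at h4
    exact hqp ((Nat.prime_dvd_prime_iff_eq hq hp).mp (hq.dvd_of_dvd_pow h4))

end Frob

variable {L : Type u} [Group L] [Fintype L] {G : Type v} [Group G] [Fintype G] {K : Subgroup L}
variable {τ : (L → ℂ) → (G → ℂ)} {R : (L → ℂ) → Finset (G → ℂ)}

/-- Peterfalvi (6.5) -/
theorem coh_above (hK : K.Normal) (hsolv : Group.IsSolvable K) (hS : IsCoherenceSystem (inducedIrrAbove K ⊥) τ R) (hodd : Odd (Nat.card L))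
    (M : Subgroup L) (hMn : M.Normal) (hMK : M ≤ K) [(M.subgroupOf K).Normal] (hnil : Group.IsNilpotent (↥K ⧸ M.subgroupOf K)) (H₁ : Subgroup L)
    (hH₁ : H₁ = ⁅K, K⁆ ⊔ M) (hH₁K : H₁ < K) (hKL : K < ⊤)
    (hfrob : ∀ k ∈ K, k ∉ H₁ → ∀ x : L, x * k * x⁻¹ * k⁻¹ ∈ H₁ → x ∈ K)
    (hgood : (∃ N : Subgroup L, N.Normal ∧ H₁ < N ∧ N < K) ∨ 4 * K.index ^ 2 + 1 < H₁.relIndex K ∨
      (¬ ∃ p m : ℕ, p.Prime ∧ M.relIndex K = p ^ m) ∨ ⁅K, K⁆ ≤ M ∨ (∃ p m : ℕ, p.Prime ∧ M.relIndex K = p ^ m ∧ K.index ∣ p - 1)) :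
    IsCoherent (inducedIrrAbove K M) {1}ᶜ τ := by
  classical
  have hH₁n : H₁.Normal := by
    rw [hH₁]
    haveI := hK; haveI := hMn
    infer_instance
  have hcomm : ⁅K, K⁆ ≤ H₁ := hH₁ ▸ le_sup_left
  have hMH₁ : M ≤ H₁ := hH₁ ▸ le_sup_right
  have hu := uniform_above hK hsolv hS hH₁n hH₁K hcomm
  have hbig : 4 * K.index ^ 2 + 1 < H₁.relIndex K → IsCoherent (inducedIrrAbove K M) {1}ᶜ τ := fun h =>
    descend hK hsolv hS M H₁ K hMn hH₁n hK hMH₁ hH₁K.le le_rfl hnil hu h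
  have hmid : (∃ N : Subgroup L, N.Normal ∧ H₁ < N ∧ N < K) → IsCoherent (inducedIrrAbove K M) {1}ᶜ τ := by
    rintro ⟨N, hN, h1, h2⟩
    exact hbig (mid_bound hodd hK hH₁n hH₁K.le hcomm hfrob hN h1 h2)
  have habel : ⁅K, K⁆ ≤ M → IsCoherent (inducedIrrAbove K M) {1}ᶜ τ := by
    intro h
    have : H₁ = M := by rw [hH₁]; exact sup_eq_right.mpr h
    rw [← this]; exact hu
  rcases hgood with h | h | h | h | ⟨p, m, hp, hpm, hdvd⟩
  · exact hmid h
  · exact hbig h
  · apply hmid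
    apply exists_mid hK hH₁n hH₁K hcomm
    rintro ⟨p, m, hp, hpm⟩
    obtain ⟨m', hm'⟩ := prime_pow_of hMK hnil hH₁ hH₁n hH₁K.le hp hpm
    exact h ⟨p, m', hp, hm'⟩
  · exact habel h
  · have h1 : H₁.relIndex K ∣ p ^ m := by
      rw [← hpm]
      exact Dvd.intro_left _ (Subgroup.relIndex_mul_relIndex M H₁ K hMH₁ hH₁K.le)
    obtain ⟨k, hkm, hk⟩ := (Nat.dvd_prime_pow hp).mp h1
    have hlt := one_lt_relIndex hH₁K
    have hw : Odd K.index := Odd.of_dvd_nat hodd (Subgroup.index_dvd_card K)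
    rcases Nat.lt_or_ge k 2 with h2 | h2
    · have h3 : k = 1 := by
        rcases Nat.eq_zero_or_pos k with h4 | h4
        · rw [h4, pow_zero] at hk; omega
        · omega
      rw [h3, pow_one] at hk
      exact habel (comm_of_prime hMK hnil hH₁ hH₁n hH₁K.le hp hk)
    · apply hbig
      have hpodd : Odd p := by
        have h3 : p ∣ Nat.card L := by
          have h4 : p ∣ H₁.relIndex K := by rw [hk]; exact dvd_pow_self p (by omega)
          exact h4.trans ((Subgroup.relIndex_dvd_card _ _).trans (Subgroup.card_subgroup_dvd_card _))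
        exact Odd.of_dvd_nat hodd h3
      have h3 := odd_dvd_bound hw hpodd hp.one_lt hdvd
      have h4 : p ^ 2 ≤ H₁.relIndex K := by rw [hk]; exact Nat.pow_le_pow_right hp.pos h2
      have h5 : 0 < K.index := Nat.pos_of_ne_zero Subgroup.index_ne_zero_of_finite
      nlinarith

end CfsgLib.Coh
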