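import Cfsg.Agent.EqBase
import Cfsg.Agent.LibCoh9
import Cfsg.Agent.LibCharInt2
/-!
# Coherence: Peterfalvi (6.6) (helper16)
-/
set_option autoImplicit false
set_option linter.all false
open Cfsg CfsgLib.CharBasic CfsgLib.CharIndA CfsgLib.CharNorm CfsgLib.Sgn CfsgLib.Clifford
open scoped ComplexConjugate
namespace CfsgLib.Coh

universe u v
variable {L : Type u} [Group L] [Fintype L] {K : Subgroup L}

/-- for a normal subgroup `Z` the kernel of an induced character contains `Z` iff the kernel of the character does -/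
theorem ind_ker_normal (hK : K.Normal) {Z : Subgroup L} (hZ : Z.Normal) (hZK : Z ≤ K) {θ : K → ℂ} (hθ : IsIrrCharacter K θ) :
    (∀ z ∈ Z, indFun K θ z = indFun K θ 1) ↔ ∀ a : K, (a : L) ∈ Z → θ a = θ 1 := by
  haveI : Fintype K := Fintype.ofFinite _
  have hc := irr_isCharacter hθ
  have h0 := irr_one_ne_zero hθ
  constructor
  · intro h a ha
    obtain ⟨h1, h2⟩ := CfsgLib.Ind2.ind_ker hc h0 (h a ha) 1
    rw [← h2]
    congr 1
    apply Subtype.ext
    simp
  · intro h z hz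
    rw [CfsgLib.Ind2.ind_ker_iff hc h0]
    intro x
    have h1 : x⁻¹ * z * x ∈ Z := by
      have := hZ.conj_mem z hz x⁻¹
      rwa [inv_inv] at this
    exact ⟨hZK h1, h ⟨_, hZK h1⟩ h1⟩

/-- membership in `S(Z)` in terms of the kernel -/
theorem mem_ia_iff (hK : K.Normal) {Z : Subgroup L} (hZ : Z.Normal) (hZK : Z ≤ K) {φ : L → ℂ} (hφ : φ ∈ inducedIrrAbove K ⊥) :
    φ ∈ inducedIrrAbove K Z ↔ ∀ z ∈ Z, φ z = φ 1 := by
  constructor
  · rintro ⟨θ, h1, -, h3, rfl⟩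
    exact (ind_ker_normal hK hZ hZK h1).mpr h3
  · intro h
    obtain ⟨θ, h1, h2, -, rfl⟩ := hφ
    exact ⟨θ, h1, h2, (ind_ker_normal hK hZ hZK h1).mp h, rfl⟩

/-- an irreducible character whose kernel does not contain `Z` lies over a non-principal character of `K` -/
theorem below_ia (hK : K.Normal) {Z : Subgroup L} (hZ : Z.Normal) (hZK : Z ≤ K) {χ : L → ℂ} (hχ : IsIrrCharacter L χ) {z : L} (hz : z ∈ Z)
    (hne : χ z ≠ χ 1) : ∃ θ : K → ℂ, IsIrrCharacter K θ ∧ indFun K θ ∈ inducedIrrAbove K ⊥ ∧ indFun K θ ∉ inducedIrrAbove K Z ∧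
      classInner (indFun K θ) χ ≠ 0 := by
  classical
  haveI : Fintype K := Fintype.ofFinite _
  obtain ⟨θ, hθ, hθχ⟩ := exists_below K hχ
  have hin : classInner (indFun K θ) χ ≠ 0 := by
    rw [CharIndA.frobenius K θ (irr_classFun hχ)]
    intro h; exact hθχ (ci_zero_comm h)
  have hnot : ¬ ∀ z ∈ Z, indFun K θ z = indFun K θ 1 := by
    intro h
    apply hne
    exact CfsgLib.Ind2.ker_constituent (isCharacter_ind K (irr_isCharacter hθ)) hχ hin (h z hz)
  have hθ1 : θ ≠ fun _ => 1 := by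
    rintro rfl
    apply hnot
    rw [ind_ker_normal hK hZ hZK hθ]
    intro a _; rfl
  have hmem : indFun K θ ∈ inducedIrrAbove K ⊥ := ⟨θ, hθ, hθ1, fun a ha => by
    have : a = 1 := Subtype.ext (Subgroup.mem_bot.mp ha)
    rw [this], rfl⟩
  exact ⟨θ, hθ, hmem, fun h => hnot ((mem_ia_iff hK hZ hZK hmem).mp h), hin⟩

/-- an irreducible character non-trivial at a given element -/
theorem exists_irr_ne {z : L} (hz : z ≠ 1) : ∃ χ : L → ℂ, IsIrrCharacter L χ ∧ χ z ≠ χ 1 := by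
  by_contra hcon
  push Not at hcon
  apply hz
  have h1 : IsConj z 1 := by
    rw [isConj_iff_irr]
    intro χ
    exact hcon χ χ.2
  exact isConj_one_left.mp h1

variable {G : Type v} [Group G] [Fintype G]
variable {τ : (L → ℂ) → (G → ℂ)} {R : (L → ℂ) → Finset (G → ℂ)}

theorem diff_eq (hK : K.Normal) {Z : Subgroup L} (hZ : Z.Normal) (hZK : Z ≤ K)
    (hirr : ∀ χ ∈ inducedIrrAbove K ⊥ \ inducedIrrAbove K Z, IsIrrCharacter L χ) :
    inducedIrrAbove K ⊥ \ inducedIrrAbove K Z = {χ | IsIrrCharacter L χ ∧ ∃ z ∈ Z, χ z ≠ χ 1} := by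
  ext χ
  constructor
  · intro h
    refine ⟨hirr χ h, ?_⟩
    by_contra hcon
    push Not at hcon
    exact h.2 ((mem_ia_iff hK hZ hZK h.1).mpr hcon)
  · rintro ⟨hχ, z, hz, hne⟩
    obtain ⟨θ, hθ, h1, h2, h3⟩ := below_ia hK hZ hZK hχ hz hne
    have h4 := hirr _ ⟨h1, h2⟩
    have h5 : indFun K θ = χ := by
      by_contra h
      exact h3 (irr_inner_ne h4 hχ h)
    rw [← h5]
    exact ⟨h1, h2⟩

/-- Peterfalvi (6.6), coherence -/
theorem coh_diff (hK : K.Normal) (hsolv : Group.IsSolvable K) (hS : IsCoherenceSystem (inducedIrrAbove K ⊥) τ R) (hodd : Odd (Nat.card L))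
    (hnil : Group.IsNilpotent K) (hH₁K : ⁅K, K⁆ < K) (hKL : K < ⊤)
    (hfrob : ∀ k ∈ K, k ∉ ⁅K, K⁆ → ∀ x : L, x * k * x⁻¹ * k⁻¹ ∈ ⁅K, K⁆ → x ∈ K)
    {Z : Subgroup L} (hZn : Z.Normal) (hZ1 : Z ≠ ⊥) (hZK : Z ≤ K) (hZc : ∀ z ∈ Z, ∀ k ∈ K, z * k = k * z)
    (hirr : ∀ χ ∈ inducedIrrAbove K ⊥ \ inducedIrrAbove K Z, IsIrrCharacter L χ) :
    IsCoherent (inducedIrrAbove K ⊥ \ inducedIrrAbove K Z) {1}ᶜ τ := by
  classical
  haveI : Fintype K := Fintype.ofFinite _
  -- non-empty and closed under conjugation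
  obtain ⟨z, hz, hz1⟩ := (Subgroup.bot_or_exists_ne_one Z).resolve_left hZ1
  have hXne : (inducedIrrAbove K ⊥ \ inducedIrrAbove K Z).Nonempty := by
    obtain ⟨χ, hχ, hχz⟩ := exists_irr_ne hz1
    obtain ⟨θ, hθ, h1, h2, -⟩ := below_ia hK hZn hZK hχ hz hχz
    exact ⟨_, h1, h2⟩
  have hXc : ∀ χ ∈ inducedIrrAbove K ⊥ \ inducedIrrAbove K Z, conjFun χ ∈ inducedIrrAbove K ⊥ \ inducedIrrAbove K Z := by
    rintro χ ⟨h1, h2⟩
    refine ⟨ia_conj h1, fun h => h2 ?_⟩
    have := ia_conj h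
    rwa [conj_conj] at this
  have hXS : inducedIrrAbove K ⊥ \ inducedIrrAbove K Z ⊆ inducedIrrAbove K ⊥ := Set.diff_subset
  by_cases hpp : ∃ p m : ℕ, p.Prime ∧ (⊥ : Subgroup L).relIndex K = p ^ m
  · obtain ⟨p, m, hp, hpm⟩ := hpp
    haveI := Fact.mk hp
    rw [Subgroup.relIndex_bot_left] at hpm
    obtain ⟨d, n, hd, hn, hdpos, hnpos⟩ := exists_dn hS
    set w := K.index with hw
    have hwodd : Odd w := Odd.of_dvd_nat hodd (Subgroup.index_dvd_card K)
    have hwpos : 0 < w := Nat.pos_of_ne_zero Subgroup.index_ne_zero_of_finite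
    -- `p ∤ w`
    have hH₁n : (⁅K, K⁆ : Subgroup L).Normal := by haveI := hK; infer_instance
    have hv1 := one_lt_relIndex hH₁K
    have hvp : p ∣ (⁅K, K⁆ : Subgroup L).relIndex K := by
      have h1 : (⁅K, K⁆ : Subgroup L).relIndex K ∣ p ^ m := by rw [← hpm]; exact Subgroup.relIndex_dvd_card _ _
      obtain ⟨k, -, hk⟩ := (Nat.dvd_prime_pow hp).mp h1
      rw [hk]
      apply dvd_pow_self
      rintro rfl
      rw [hk, pow_zero] at hv1
      omega
    have hpw : Nat.Coprime w p := by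
      have h1 := frob_mod hK hH₁n hH₁K.le le_rfl hfrob hK hH₁K.le le_rfl
      have h2 : Nat.Coprime ((⁅K, K⁆ : Subgroup L).relIndex K - 1) ((⁅K, K⁆ : Subgroup L).relIndex K) := by
        have h7 := Nat.coprime_self_add_right (m := (⁅K, K⁆ : Subgroup L).relIndex K - 1) (n := 1)
        rw [Nat.sub_add_cancel hv1.le] at h7
        exact h7.mpr (Nat.coprime_one_right _)
      exact Nat.Coprime.coprime_dvd_left h1 (Nat.Coprime.coprime_dvd_right hvp h2)
    have hp3 : 3 ≤ p := by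
      have h1 : Odd p := Odd.of_dvd_nat hodd (hvp.trans ((Subgroup.relIndex_dvd_card _ _).trans (Subgroup.card_subgroup_dvd_card _)))
      have := hp.two_le
      obtain ⟨k, hk⟩ := h1
      omega
    -- degrees are `w p^a`
    have hdeg : ∀ φ ∈ inducedIrrAbove K ⊥, ∃ a : ℕ, d φ = w * p ^ a ∧ (p ^ a) ^ 2 ∣ Z.relIndex K := by
      intro φ hφ
      have hφ' := hφ
      obtain ⟨θ, hθ, -, -, rfl⟩ := hφ
      obtain ⟨r, hr, hr'⟩ := irr_one_nat hθ
      have h1 : charDegree θ = r := by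
        have := CfsgLib.CharInt.irr_one_eq_charDegree hθ
        rw [hr'] at this
        exact_mod_cast this.symm
      have h2 : r ∣ p ^ m := by
        rw [← h1, ← hpm]
        exact CfsgLib.CharInt2.charDegree_dvd_card hθ
      obtain ⟨a, -, ha⟩ := (Nat.dvd_prime_pow hp).mp h2
      refine ⟨a, ?_, ?_⟩
      · have h3 := hd _ hφ'
        rw [CharIndA.ind_one, hr', ha] at h3
        exact_mod_cast h3.symm
      · have h3 := degree_bound hθ (B := ⊥) (C := K) (D := Z) hK bot_le hZK le_rfl (fun x hx y hy => by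
            rw [Subgroup.mem_bot, hZc x hx y hy]; group) (fun a ha => by
              have : a = 1 := Subtype.ext (Subgroup.mem_bot.mp ha)
              rw [this]) hr'
        rw [Subgroup.relIndex_self, one_pow, one_mul, ha] at h3
        have h4 : Z.relIndex K ∣ p ^ m := by rw [← hpm]; exact Subgroup.relIndex_dvd_card _ _
        obtain ⟨b, -, hb⟩ := (Nat.dvd_prime_pow hp).mp h4
        rw [hb, ← pow_mul] at h3 ⊢
        exact pow_dvd_pow p ((Nat.pow_le_pow_iff_right hp.one_lt).mp h3)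
    -- the finite sets
    have hfS : (inducedIrrAbove K (⊥ : Subgroup L)).Finite := ia_finite hK
    have hfZ : (inducedIrrAbove K Z).Finite := ia_finite hK
    set FS : Finset (L → ℂ) := hfS.toFinset with hFS
    set FZ : Finset (L → ℂ) := hfZ.toFinset with hFZ
    have mFS : ∀ φ, φ ∈ FS ↔ φ ∈ inducedIrrAbove K ⊥ := fun φ => hfS.mem_toFinset
    have mFZ : ∀ φ, φ ∈ FZ ↔ φ ∈ inducedIrrAbove K Z := fun φ => hfZ.mem_toFinset
    set U : Finset (L → ℂ) := FS \ FZ with hU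
    have mU : ∀ φ, φ ∈ U ↔ φ ∈ inducedIrrAbove K ⊥ \ inducedIrrAbove K Z := by
      intro φ
      rw [hU, Finset.mem_sdiff, mFS, mFZ]; rfl
    have hUset : (↑U : Set (L → ℂ)) = inducedIrrAbove K ⊥ \ inducedIrrAbove K Z := by
      ext φ; exact mU φ
    have hnU : ∀ φ ∈ U, n φ = 1 := by
      intro φ hφ
      have h1 := hn φ (hXS ((mU φ).mp hφ))
      rw [irr_inner_self (hirr φ ((mU φ).mp hφ))] at h1
      exact_mod_cast h1.symm
    have hbotn : (⊥ : Subgroup L).Normal := inferInstance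
    have htot : ∑ φ ∈ U, d φ ^ 2 + w * Z.relIndex K = w * p ^ m := by
      have hre : ∀ (F : Finset (L → ℂ)), (∀ φ ∈ F, φ ∈ inducedIrrAbove K ⊥) →
          ∑ φ ∈ F, φ 1 ^ 2 / classInner φ φ = ∑ φ ∈ F, ((d φ : ℂ) ^ 2 / (n φ : ℂ)) := by
        intro F hF
        exact Finset.sum_congr rfl fun φ hφ => by rw [hd φ (hF φ hφ), hn φ (hF φ hφ)]
      have h1 := sum_formula hK hbotn bot_le FS mFS
      have h2 := sum_formula hK hZn hZK FZ mFZ
      rw [hre FS (fun φ h => (mFS φ).mp h)] at h1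
      rw [hre FZ (fun φ h => ia_bot ((mFZ φ).mp h))] at h2
      have hsub : FZ ⊆ FS := fun φ h => (mFS φ).mpr (ia_bot ((mFZ φ).mp h))
      rw [← Finset.sum_sdiff hsub, h2, Subgroup.relIndex_bot_left, hpm] at h1
      have h3 : ∑ φ ∈ FS \ FZ, ((d φ : ℂ) ^ 2 / (n φ : ℂ)) = ((∑ φ ∈ U, d φ ^ 2 : ℕ) : ℂ) := by
        push_cast
        refine Finset.sum_congr rfl fun φ hφ => ?_
        rw [hnU φ hφ, Nat.cast_one, div_one]
      rw [h3] at h1
      have h4 : ((∑ φ ∈ U, d φ ^ 2 + w * Z.relIndex K : ℕ) : ℂ) = ((w * p ^ m : ℕ) : ℂ) := by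
        push_cast at h1 ⊢
        linear_combination h1
      exact_mod_cast h4
    -- minimal degree
    have hUne : U.Nonempty := by
      obtain ⟨φ, hφ⟩ := hXne
      exact ⟨φ, (mU φ).mpr hφ⟩
    obtain ⟨φ₀, hφ₀, hmin⟩ := Finset.exists_min_image U d hUne
    set S₀ : Finset (L → ℂ) := U.filter (fun φ => d φ = d φ₀) with hS₀
    have hdc : ∀ φ ∈ inducedIrrAbove K ⊥, d (conjFun φ) = d φ := by
      intro φ hφ
      have h1 := hd _ (hS.conj_mem φ hφ)
      rw [conj_one (hS.isCharacter φ hφ), hd φ hφ] at h1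
      exact_mod_cast h1.symm
    have hUS : (↑U : Set (L → ℂ)) ⊆ inducedIrrAbove K ⊥ := by rw [hUset]; exact hXS
    have hUc : ∀ φ ∈ U, conjFun φ ∈ U := fun φ h => (mU _).mpr (hXc φ ((mU φ).mp h))
    have hS₀c : ∀ φ ∈ S₀, conjFun φ ∈ S₀ := by
      intro φ h
      rw [hS₀, Finset.mem_filter] at h ⊢
      exact ⟨hUc φ h.1, by rw [hdc φ (hUS h.1), h.2]⟩
    have hS₀U : S₀ ⊆ U := Finset.filter_subset _ _
    have hS₀S : (↑S₀ : Set (L → ℂ)) ⊆ inducedIrrAbove K ⊥ := fun φ h => hUS (hS₀U h)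
    have hcoh₀ : IsCoherent (↑S₀ : Set (L → ℂ)) {1}ᶜ τ := by
      apply uniform (sys_mono hS hS₀S ⟨φ₀, Finset.mem_filter.mpr ⟨hφ₀, rfl⟩⟩ (fun χ hχ => hS₀c χ hχ))
      intro φ hφ ψ hψ
      rw [hd φ (hS₀S hφ), hd ψ (hS₀S hψ), (Finset.mem_filter.mp hφ).2, (Finset.mem_filter.mp hψ).2]
    rw [← hUset]
    apply chain hS d n hd hn U S₀ hUS hUc hS₀U hS₀c hcoh₀
    intro χ hχ hχ0
    obtain ⟨a₀, ha₀, -⟩ := hdeg φ₀ (hUS hφ₀)
    obtain ⟨a, ha, haZ⟩ := hdeg χ (hUS hχ)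
    have hlt : d φ₀ < d χ := by
      refine lt_of_le_of_ne (hmin χ hχ) fun h => hχ0 ?_
      exact Finset.mem_filter.mpr ⟨hχ, h.symm⟩
    have halt : a₀ < a := by
      rw [ha₀, ha] at hlt
      exact (Nat.pow_lt_pow_iff_right hp.one_lt).mp (Nat.lt_of_mul_lt_mul_left hlt)
    refine ⟨φ₀, Finset.mem_filter.mpr ⟨hφ₀, rfl⟩, ?_, ?_⟩
    · rw [ha₀, ha]; exact Nat.mul_dvd_mul_left _ (pow_dvd_pow p halt.le)
    · -- the partial sum
      have hfil : U.filter (fun φ => φ ∈ S₀ ∨ d φ < d χ) = U.filter (fun φ => d φ < d χ) := by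
        ext φ
        simp only [Finset.mem_filter]
        constructor
        · rintro ⟨h1, h2 | h2⟩
          · exact ⟨h1, by rw [(Finset.mem_filter.mp h2).2]; exact hlt⟩
          · exact ⟨h1, h2⟩
        · rintro ⟨h1, h2⟩; exact ⟨h1, Or.inr h2⟩
      rw [hfil]
      set T : ℕ := ∑ φ ∈ U.filter (fun φ => d φ < d χ), d φ ^ 2 with hT
      have hTR : ∑ φ ∈ U.filter (fun φ => d φ < d χ), ((d φ : ℝ) ^ 2 / (n φ : ℝ)) = (T : ℝ) := by
        rw [hT]; push_cast
        refine Finset.sum_congr rfl fun φ hφ => ?_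
        rw [hnU φ (Finset.mem_filter.mp hφ).1, Nat.cast_one, div_one]
      rw [hTR]
      have hsplit : T + ∑ φ ∈ U.filter (fun φ => ¬ d φ < d χ), d φ ^ 2 = ∑ φ ∈ U, d φ ^ 2 := by
        rw [hT]; exact Finset.sum_filter_add_sum_filter_not U _ _
      have hTpos : 0 < T := by
        have h1 : d φ₀ ^ 2 ≤ T := by
          rw [hT]
          exact Finset.single_le_sum (f := fun φ => d φ ^ 2) (fun _ _ => Nat.zero_le _) (Finset.mem_filter.mpr ⟨hφ₀, hlt⟩)
        have h2 := hdpos φ₀ (hUS hφ₀)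
        have h3 : 0 < d φ₀ ^ 2 := by positivity
        omega
      have hdvd1 : (p ^ a) ^ 2 ∣ T := by
        have h1 : (p ^ a) ^ 2 ∣ ∑ φ ∈ U.filter (fun φ => ¬ d φ < d χ), d φ ^ 2 := by
          apply Finset.dvd_sum
          intro φ hφ
          rw [Finset.mem_filter] at hφ
          obtain ⟨b, hb, -⟩ := hdeg φ (hUS hφ.1)
          have h2 : a ≤ b := by
            have h3 : d χ ≤ d φ := not_lt.mp hφ.2
            rw [ha, hb] at h3
            exact (Nat.pow_le_pow_iff_right hp.one_lt).mp (Nat.le_of_mul_le_mul_left h3 hwpos)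
          rw [hb, mul_pow]
          exact Dvd.dvd.mul_left (pow_dvd_pow_of_dvd (pow_dvd_pow p h2) 2) _
        have h2 : (p ^ a) ^ 2 ∣ ∑ φ ∈ U, d φ ^ 2 := by
          have h3 : (p ^ a) ^ 2 ∣ w * Z.relIndex K := Dvd.dvd.mul_left haZ _
          have h4 : (p ^ a) ^ 2 ∣ w * p ^ m := by
            apply Dvd.dvd.mul_left
            rw [← hpm]
            exact haZ.trans (Subgroup.relIndex_dvd_card _ _)
          rw [← htot] at h4
          exact (Nat.dvd_add_left h3).mp h4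
        rw [← hsplit] at h2
        exact (Nat.dvd_add_left h1).mp h2
      have hdvd2 : w ^ 2 ∣ T := by
        rw [hT]
        apply Finset.dvd_sum
        intro φ hφ
        obtain ⟨b, hb, -⟩ := hdeg φ (hUS (Finset.mem_filter.mp hφ).1)
        rw [hb, mul_pow]
        exact Dvd.intro _ rfl
      have hdvd : d χ ^ 2 ∣ T := by
        rw [ha, mul_pow]
        apply Nat.Coprime.mul_dvd_of_dvd_of_dvd _ hdvd2 hdvd1
        exact Nat.Coprime.pow 2 2 (Nat.Coprime.pow_right a hpw)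
      have hle := Nat.le_of_dvd hTpos hdvd
      have h3 : 3 * d φ₀ ≤ d χ := by
        rw [ha₀, ha]
        have h4 : p ^ (a₀ + 1) ≤ p ^ a := Nat.pow_le_pow_right hp.pos halt
        rw [pow_succ] at h4
        calc 3 * (w * p ^ a₀) = w * (p ^ a₀ * 3) := by ring
          _ ≤ w * (p ^ a₀ * p) := Nat.mul_le_mul_left _ (Nat.mul_le_mul_left _ hp3)
          _ ≤ w * p ^ a := Nat.mul_le_mul_left _ h4
      have h0 := hdpos φ₀ (hUS hφ₀)
      have h4 : 2 * d χ * d φ₀ < T := by nlinarith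
      exact_mod_cast h4
  · -- not a prime power: everything is coherent
    haveI : ((⊥ : Subgroup L).subgroupOf K).Normal := by
      rw [Subgroup.bot_subgroupOf]; infer_instance
    have hnil' : Group.IsNilpotent (↥K ⧸ (⊥ : Subgroup L).subgroupOf K) := by
      haveI := hnil; infer_instance
    have h1 := coh_above hK hsolv hS hodd ⊥ inferInstance bot_le hnil' (⁅K, K⁆ : Subgroup L) (by rw [sup_bot_eq]) hH₁K hKL hfrob
      (Or.inr (Or.inr (Or.inl hpp)))
    exact coh_mono hS hXS (Set.Subset.refl _) hXne hXc h1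

end CfsgLib.Coh
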