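import Cfsg.Agent.EqBase
import Cfsg.Agent.LibZG1
/-!
# Zassenhaus groups: elementary facts (helper16)
-/
set_option autoImplicit false
set_option linter.all false
open Cfsg MulAction
namespace CfsgLib.Zas

universe u v
variable {G : Type u} {Ω : Type v} [Group G] [MulAction G Ω]

/-- the two-point stabilizer -/
abbrev EE (G : Type u) {Ω : Type v} [Group G] [MulAction G Ω] (a b : Ω) : Subgroup G := stabilizer G a ⊓ stabilizer G b

theorem mem_EE {a b : Ω} {g : G} : g ∈ EE G a b ↔ g • a = a ∧ g • b = b := Iff.rfl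

theorem smul_fix {g x : G} {c : Ω} : (g * x * g⁻¹) • c = c ↔ x • (g⁻¹ • c) = g⁻¹ • c := by
  rw [mul_smul, mul_smul, ← eq_inv_smul_iff]

theorem smul_fix' {g x : G} {c : Ω} : (g * x * g⁻¹) • (g • c) = g • c ↔ x • c = c := by
  rw [smul_fix, inv_smul_smul]

section Basic
variable (hZ : IsZassenhausGroup G Ω)
include hZ

theorem two_trans {a b c d : Ω} (hab : a ≠ b) (hcd : c ≠ d) : ∃ g : G, g • a = c ∧ g • b = d := by
  have h2 := hZ.2.1
  rw [is_two_pretransitive_iff] at h2
  exact h2 hab hcd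

theorem three {g : G} {a b c : Ω} (hab : a ≠ b) (hbc : b ≠ c) (hac : a ≠ c) (h1 : g • a = a) (h2 : g • b = b) (h3 : g • c = c) : g = 1 :=
  hZ.2.2.1 g a b c hab hbc hac h1 h2 h3

/-- a non-identity element of `E` fixes exactly `a` and `b` -/
theorem fix_EE {a b : Ω} (hab : a ≠ b) {x : G} (hx : x ∈ EE G a b) (hx1 : x ≠ 1) {c : Ω} (hc : x • c = c) : c = a ∨ c = b := by
  by_contra hcon
  push Not at hcon
  exact hx1 (three hZ hab (Ne.symm hcon.2) (Ne.symm hcon.1) hx.1 hx.2 hc)

theorem exists_EE {a b : Ω} (hab : a ≠ b) : ∃ x ∈ EE G a b, x ≠ 1 := by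
  obtain ⟨g, hg1, c, d, hcd, hc, hd⟩ := hZ.2.2.2.1
  obtain ⟨k, hk1, hk2⟩ := two_trans hZ hcd hab
  refine ⟨k * g * k⁻¹, ⟨?_, ?_⟩, ?_⟩
  · show (k * g * k⁻¹) • a = a
    rw [← hk1, smul_fix']; exact hc
  · show (k * g * k⁻¹) • b = b
    rw [← hk2, smul_fix']; exact hd
  · intro h
    apply hg1
    have : g = k⁻¹ * (k * g * k⁻¹) * k := by group
    rw [this, h]; group

/-- an element conjugating a non-identity element of `E` into `E` permutes `{a, b}` -/
theorem perm_ab {a b : Ω} (hab : a ≠ b) {g x : G} (hx : x ∈ EE G a b) (hgx : g * x * g⁻¹ ∈ EE G a b) (hx1 : x ≠ 1) :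
    (g • a = a ∧ g • b = b) ∨ (g • a = b ∧ g • b = a) := by
  have hgx1 : g * x * g⁻¹ ≠ 1 := by
    intro h
    apply hx1
    have : x = g⁻¹ * (g * x * g⁻¹) * g := by group
    rw [this, h]; group
  have h1 : g • a = a ∨ g • a = b := fix_EE hZ hab hgx hgx1 (smul_fix'.mpr hx.1)
  have h2 : g • b = a ∨ g • b = b := fix_EE hZ hab hgx hgx1 (smul_fix'.mpr hx.2)
  rcases h1 with h1 | h1 <;> rcases h2 with h2 | h2
  · exact absurd (MulAction.injective g (h1.trans h2.symm)) hab
  · exact Or.inl ⟨h1, h2⟩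
  · exact Or.inr ⟨h1, h2⟩
  · exact absurd (MulAction.injective g (h1.trans h2.symm)) hab

omit hZ in
theorem perm_norm {a b : Ω} {g : G} (h : (g • a = a ∧ g • b = b) ∨ (g • a = b ∧ g • b = a)) :
    g ∈ Subgroup.normalizer ((EE G a b : Subgroup G) : Set G) := by
  rw [Subgroup.mem_normalizer_iff]
  intro x
  have e1 : ∀ c : Ω, (g * x * g⁻¹) • c = c ↔ x • (g⁻¹ • c) = g⁻¹ • c := fun c => smul_fix
  have key : (g * x * g⁻¹) ∈ EE G a b ↔ (g * x * g⁻¹) • a = a ∧ (g * x * g⁻¹) • b = b := Iff.rfl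
  rw [key, e1, e1]
  rcases h with ⟨h1, h2⟩ | ⟨h1, h2⟩
  · rw [inv_smul_eq_iff.mpr h1.symm, inv_smul_eq_iff.mpr h2.symm]; rfl
  · rw [inv_smul_eq_iff.mpr h1.symm, inv_smul_eq_iff.mpr h2.symm]
    exact ⟨fun h => ⟨h.2, h.1⟩, fun h => ⟨h.2, h.1⟩⟩

theorem norm_iff {a b : Ω} (hab : a ≠ b) {g : G} :
    g ∈ Subgroup.normalizer ((EE G a b : Subgroup G) : Set G) ↔ (g • a = a ∧ g • b = b) ∨ (g • a = b ∧ g • b = a) := by
  constructor
  · intro hg
    obtain ⟨x, hx, hx1⟩ := exists_EE hZ hab
    exact perm_ab hZ hab hx ((Subgroup.mem_normalizer_iff.mp hg x).mp hx) hx1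
  · exact perm_norm

/-- S0879 -/
theorem EE_ti {a b : Ω} (hab : a ≠ b) : (∀ g : G, g ∉ Subgroup.normalizer ((EE G a b : Subgroup G) : Set G) → ∀ x ∈ EE G a b,
    g * x * g⁻¹ ∈ EE G a b → x = 1) ∧ ((EE G a b).subgroupOf (Subgroup.normalizer ((EE G a b : Subgroup G) : Set G))).index = 2 := by
  constructor
  · intro g hg x hx hgx
    by_contra hx1
    exact hg (perm_norm (perm_ab hZ hab hx hgx hx1))
  · obtain ⟨t, ht1, ht2⟩ := two_trans hZ hab hab.symm
    have htN : t ∈ Subgroup.normalizer ((EE G a b : Subgroup G) : Set G) := perm_norm (Or.inr ⟨ht1, ht2⟩)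
    rw [Subgroup.index_eq_two_iff]
    refine ⟨⟨t, htN⟩, fun g => ?_⟩
    have hg := (norm_iff hZ hab).mp g.2
    have e1 : (g * ⟨t, htN⟩ ∈ (EE G a b).subgroupOf (Subgroup.normalizer ((EE G a b : Subgroup G) : Set G))) ↔
        ((g : G) • b = a ∧ (g : G) • a = b) := by
      rw [Subgroup.mem_subgroupOf]
      show ((g : G) * t) • a = a ∧ ((g : G) * t) • b = b ↔ _
      rw [mul_smul, mul_smul, ht1, ht2]
    have e2 : (g ∈ (EE G a b).subgroupOf (Subgroup.normalizer ((EE G a b : Subgroup G) : Set G))) ↔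
        ((g : G) • a = a ∧ (g : G) • b = b) := Iff.rfl
    rw [e1, e2]
    rcases hg with ⟨h1, h2⟩ | ⟨h1, h2⟩
    · refine Or.inr ⟨⟨h1, h2⟩, fun h => hab ?_⟩
      rw [← h.1, h2]
    · refine Or.inl ⟨⟨h2, h1⟩, fun h => hab ?_⟩
      rw [← h1, h.1]

section Fin
variable [Finite G] [Fintype Ω]

theorem card_EE {a b c d : Ω} (hab : a ≠ b) (hcd : c ≠ d) : Nat.card (EE G a b) = Nat.card (EE G c d) := by
  obtain ⟨k, hk1, hk2⟩ := two_trans hZ hab hcd
  apply Nat.card_congr
  refine ⟨fun x => ⟨k * x * k⁻¹, ?_, ?_⟩, fun x => ⟨k⁻¹ * x * k, ?_, ?_⟩, fun x => ?_, fun x => ?_⟩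
  · show (k * (x : G) * k⁻¹) • c = c
    rw [← hk1, smul_fix']; exact x.2.1
  · show (k * (x : G) * k⁻¹) • d = d
    rw [← hk2, smul_fix']; exact x.2.2
  · have h : (x : G) • c = c := x.2.1
    show (k⁻¹ * (x : G) * k) • a = a
    rw [mul_smul, mul_smul, hk1, h, inv_smul_eq_iff]; exact hk1.symm
  · have h : (x : G) • d = d := x.2.2
    show (k⁻¹ * (x : G) * k) • b = b
    rw [mul_smul, mul_smul, hk2, h, inv_smul_eq_iff]; exact hk2.symm
  · apply Subtype.ext; show k⁻¹ * (k * (x : G) * k⁻¹) * k = x; group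
  · apply Subtype.ext; show k * (k⁻¹ * (x : G) * k) * k⁻¹ = x; group

omit [Finite G] in
theorem card_ne (a : Ω) : Nat.card {c : Ω // c ≠ a} = Fintype.card Ω - 1 := by
  classical
  rw [Nat.card_eq_fintype_card, Fintype.card_subtype_compl, Fintype.card_subtype_eq]

/-- the order of the point stabilizer -/
theorem card_stab {a b : Ω} (hab : a ≠ b) : Nat.card (stabilizer G a) = (Fintype.card Ω - 1) * Nat.card (EE G a b) := by
  classical
  have hch : ∀ c : {c : Ω // c ≠ a}, ∃ g : G, g • a = a ∧ g • b = c := fun c => two_trans hZ hab (Ne.symm c.2)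
  choose k hk1 hk2 using hch
  have e : stabilizer G a ≃ {c : Ω // c ≠ a} × EE G a b :=
    { toFun := fun g => (⟨(g : G) • b, fun h => hab (MulAction.injective (g : G) ((show (g : G) • a = a from g.2).trans h.symm))⟩,
        ⟨(k ⟨(g : G) • b, fun h => hab (MulAction.injective (g : G) ((show (g : G) • a = a from g.2).trans h.symm))⟩)⁻¹ * g, by
          constructor
          · show ((k _)⁻¹ * (g : G)) • a = a
            rw [mul_smul, inv_smul_eq_iff, hk1]; exact g.2
          · show ((k _)⁻¹ * (g : G)) • b = b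
            rw [mul_smul, inv_smul_eq_iff, hk2]⟩)
      invFun := fun p => ⟨k p.1 * p.2, by
          show (k p.1 * (p.2 : G)) • a = a
          have h1 : (p.2 : G) • a = a := p.2.2.1
          rw [mul_smul, h1, hk1]⟩
      left_inv := fun g => by apply Subtype.ext; simp
      right_inv := fun p => by
        obtain ⟨c, x⟩ := p
        have h1 : (x : G) • b = b := x.2.2
        have h2 : (⟨(k c * (x : G)) • b, by rw [mul_smul, h1, hk2]; exact c.2⟩ : {c : Ω // c ≠ a}) = c := by
          apply Subtype.ext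
          show (k c * (x : G)) • b = c
          rw [mul_smul, h1, hk2]
        apply Prod.ext
        · exact h2
        · apply Subtype.ext
          show (k _)⁻¹ * (k c * (x : G)) = x
          rw [h2, inv_mul_cancel_left] }
  rw [Nat.card_congr e, Nat.card_prod, card_ne hZ a]

/-- the elements of the stabilizer of `a` which are trivial or fix `a` only -/
def KerSet (G : Type u) {Ω : Type v} [Group G] [MulAction G Ω] (a : Ω) : Set G := {v | v • a = a ∧ (v = 1 ∨ ∀ c : Ω, v • c = c → c = a)}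

theorem card_kerSet {a b : Ω} (hab : a ≠ b) : Nat.card (KerSet G a) = Fintype.card Ω - 1 := by
  classical
  have hs := card_stab hZ hab
  -- pairs `(c, v)` with `c ≠ a` fixed by `v`
  have e1 : Nat.card (Σ c : {c : Ω // c ≠ a}, EE G a (c : Ω)) = (Fintype.card Ω - 1) * Nat.card (EE G a b) := by
    rw [Nat.card_sigma, Finset.sum_congr rfl fun c _ => card_EE hZ (Ne.symm c.2) hab, Finset.sum_const, smul_eq_mul, Finset.card_univ,
      ← Nat.card_eq_fintype_card, card_ne hZ a]
  have e2 : (Σ c : {c : Ω // c ≠ a}, EE G a (c : Ω)) ≃ {c : Ω // c ≠ a} ⊕ {v : stabilizer G a // ¬ (v : G) ∈ KerSet G a} :=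
    { toFun := fun p => if h : (p.2 : G) = 1 then Sum.inl p.1 else Sum.inr ⟨⟨(p.2 : G), p.2.2.1⟩, fun hk => by
          rcases hk.2 with h1 | h1
          · exact h h1
          · exact p.1.2 (h1 _ p.2.2.2)⟩
      invFun := fun s => match s with
        | Sum.inl c => ⟨c, 1⟩
        | Sum.inr v =>
          have hex : ∃ c : Ω, (v.1 : G) • c = c ∧ c ≠ a := by
            by_contra hcon
            push Not at hcon
            exact v.2 ⟨v.1.2, Or.inr hcon⟩
          ⟨⟨Classical.choose hex, (Classical.choose_spec hex).2⟩, ⟨(v.1 : G), v.1.2, (Classical.choose_spec hex).1⟩⟩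
      left_inv := fun p => by
        obtain ⟨c, x⟩ := p
        by_cases h : (x : G) = 1
        · have hx : x = 1 := Subtype.ext h
          simp only [dif_pos h]
          rw [hx]
        · simp only [dif_neg h]
          have hex : ∃ c : Ω, (x : G) • c = c ∧ c ≠ a := ⟨c, x.2.2, c.2⟩
          have hc : (⟨Classical.choose hex, (Classical.choose_spec hex).2⟩ : {c : Ω // c ≠ a}) = c := by
            apply Subtype.ext
            have := fix_EE hZ (Ne.symm c.2) x.2 h (Classical.choose_spec hex).1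
            exact this.resolve_left (Classical.choose_spec hex).2
          refine Sigma.ext hc ?_
          refine (Subtype.heq_iff_coe_eq ?_).mpr rfl
          intro y
          have hc' : Classical.choose hex = (c : Ω) := congrArg Subtype.val hc
          show y ∈ EE G a (Classical.choose hex) ↔ y ∈ EE G a (c : Ω)
          rw [hc']
      right_inv := fun s => by
        rcases s with c | v
        · simp
        · have h : ¬ ((v.1 : G) = 1) := fun h => v.2 ⟨v.1.2, Or.inl h⟩
          simp only [dif_neg h] }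
  rw [Nat.card_congr e2, Nat.card_sum, card_ne hZ a] at e1
  have e3 : stabilizer G a ≃ KerSet G a ⊕ {v : stabilizer G a // ¬ (v : G) ∈ KerSet G a} :=
    { toFun := fun v => if h : (v : G) ∈ KerSet G a then Sum.inl ⟨v, h⟩ else Sum.inr ⟨v, h⟩
      invFun := fun s => match s with
        | Sum.inl v => ⟨v, v.2.1⟩
        | Sum.inr v => v.1
      left_inv := fun v => by
        by_cases h : (v : G) ∈ KerSet G a
        · simp [dif_pos h]
        · simp [dif_neg h]
      right_inv := fun s => by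
        rcases s with v | v
        · simp
        · simp [dif_neg v.2] }
  have e4 := Nat.card_congr e3
  rw [Nat.card_sum, hs] at e4
  omega

/-- `H` is the set of elements fixing only `a` -/
theorem mem_H_iff {a b : Ω} (hab : a ≠ b) {H : Subgroup G} (hHa : H ≤ stabilizer G a) (hHcard : Nat.card H + 1 = Fintype.card Ω)
    (hHfix : ∀ u ∈ H, u ≠ 1 → ∀ c : Ω, u • c = c → c = a) {u : G} :
    u ∈ H ↔ u • a = a ∧ (u = 1 ∨ ∀ c : Ω, u • c = c → c = a) := by
  have hsub : (H : Set G) ⊆ KerSet G a := by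
    intro u hu
    refine ⟨hHa hu, ?_⟩
    by_cases h : u = 1
    · exact Or.inl h
    · exact Or.inr (hHfix u hu h)
  have hcard : Set.ncard (KerSet G a) ≤ Set.ncard (H : Set G) := by
    have h1 : Set.ncard (KerSet G a) = Fintype.card Ω - 1 := card_kerSet hZ hab
    have h2 : Set.ncard (H : Set G) = Nat.card H := rfl
    rw [h1, h2]; omega
  have heq := Set.eq_of_subset_of_ncard_le hsub hcard (Set.toFinite _)
  have : u ∈ (H : Set G) ↔ u ∈ KerSet G a := by rw [heq]
  exact this

theorem exists_ne (a : Ω) : ∃ b : Ω, a ≠ b := by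
  obtain ⟨g, -, c, d, hcd, -, -⟩ := hZ.2.2.2.1
  by_cases h : a = c
  · exact ⟨d, by rw [h]; exact hcd⟩
  · exact ⟨c, h⟩

theorem three_le : 3 ≤ Fintype.card Ω := by
  classical
  obtain ⟨g, hg1, c, d, hcd, hc, hd⟩ := hZ.2.2.2.1
  by_contra hcon
  apply hg1
  haveI := hZ.1
  apply FaithfulSMul.eq_of_smul_eq_smul (M := G) (α := Ω)
  intro x
  rw [one_smul]
  have h1 : ({c, d} : Finset Ω) = Finset.univ := by
    apply Finset.eq_univ_of_card
    have h2 := Finset.card_le_univ ({c, d} : Finset Ω)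
    rw [Finset.card_pair hcd] at h2 ⊢
    omega
  have h2 : x ∈ ({c, d} : Finset Ω) := by rw [h1]; exact Finset.mem_univ x
  rw [Finset.mem_insert, Finset.mem_singleton] at h2
  rcases h2 with rfl | rfl
  · exact hc
  · exact hd

/-- S0878 -/
theorem H_ti {a : Ω} {H : Subgroup G} (hHa : H ≤ stabilizer G a) (hHcard : Nat.card H + 1 = Fintype.card Ω)
    (hHfix : ∀ u ∈ H, u ≠ 1 → ∀ c : Ω, u • c = c → c = a) :
    (∀ g : G, g ∉ stabilizer G a → ∀ u ∈ H, g * u * g⁻¹ ∈ H → u = 1) ∧ Subgroup.normalizer (H : Set G) = stabilizer G a := by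
  obtain ⟨b, hab⟩ := exists_ne hZ a
  have h1 : ∀ g : G, g ∉ stabilizer G a → ∀ u ∈ H, g * u * g⁻¹ ∈ H → u = 1 := by
    intro g hg u hu hgu
    by_contra hu1
    apply hg
    have hgu1 : g * u * g⁻¹ ≠ 1 := by
      intro h
      apply hu1
      have : u = g⁻¹ * (g * u * g⁻¹) * g := by group
      rw [this, h]; group
    exact hHfix _ hgu hgu1 (g • a) (smul_fix'.mpr (hHa hu))
  refine ⟨h1, le_antisymm ?_ ?_⟩
  · intro g hg
    by_contra hgs
    have hne : H ≠ ⊥ := by
      intro h
      have := three_le hZ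
      rw [h, Subgroup.card_bot] at hHcard
      omega
    obtain ⟨u, hu, hu1⟩ := (Subgroup.bot_or_exists_ne_one H).resolve_left hne
    exact hu1 (h1 g hgs u hu ((Subgroup.mem_normalizer_iff.mp hg u).mp hu))
  · intro g hg
    have hga : g • a = a := hg
    rw [Subgroup.mem_normalizer_iff]
    have key : ∀ g : G, g • a = a → ∀ u ∈ H, g * u * g⁻¹ ∈ H := by
      intro g hga u hu
      rw [mem_H_iff hZ hab hHa hHcard hHfix] at hu ⊢
      have hga' : g⁻¹ • a = a := inv_smul_eq_iff.mpr hga.symm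
      refine ⟨by rw [smul_fix, hga']; exact hu.1, ?_⟩
      rcases hu.2 with h | h
      · left; rw [h]; group
      · right
        intro c hc
        rw [smul_fix] at hc
        have := h _ hc
        rw [inv_smul_eq_iff, hga] at this
        exact this
    intro u
    refine ⟨key g hga u, fun h => ?_⟩
    have := key g⁻¹ (inv_smul_eq_iff.mpr hga.symm) _ h
    simpa [mul_assoc] using this

end Fin
end Basic

end CfsgLib.Zas
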