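import Cfsg.Agent.EqBase
import Cfsg.Agent.LibZas
import Cfsg.Agent.LibFrob6
/-!
# Zassenhaus groups II: the kernel of a point stabilizer, normal subgroups (helper16)
-/
set_option autoImplicit false
set_option linter.all false
open Cfsg MulAction
open scoped Pointwise
namespace CfsgLib.Zas

universe u v
variable {G : Type u} {Ω : Type v} [Group G] [MulAction G Ω]

theorem conj_conj {g x : G} : g⁻¹ * (g * x * g⁻¹) * g = x := by group

theorem conj_ne_one {g x : G} (hx : x ≠ 1) : g * x * g⁻¹ ≠ 1 := by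
  intro h
  apply hx
  have : x = g⁻¹ * (g * x * g⁻¹) * g := by group
  rw [this, h]; group

theorem card_dvd_of_free {E X : Type*} [Group E] [MulAction E X] [Finite E] [Finite X]
    (h : ∀ g : E, ∀ x : X, g • x = x → g = 1) : Nat.card E ∣ Nat.card X := by
  classical
  haveI := Fintype.ofFinite X
  haveI : Fintype (orbitRel.Quotient E X) := Fintype.ofFinite _
  have h1 : ∀ ω : orbitRel.Quotient E X, Nat.card (E ⧸ stabilizer E ω.out) = Nat.card E := by
    intro ω
    have : stabilizer E ω.out = ⊥ := by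
      rw [eq_bot_iff]
      intro g hg
      exact h g _ hg
    rw [this]
    exact Nat.card_congr (QuotientGroup.quotientBot (G := E)).toEquiv
  rw [Nat.card_congr (MulAction.selfEquivSigmaOrbitsQuotientStabilizer E X), Nat.card_sigma, Finset.sum_congr rfl fun ω _ => h1 ω,
    Finset.sum_const, smul_eq_mul]
  exact Dvd.intro_left _ rfl

section Fin
variable [Finite G] [Fintype Ω] (hZ : IsZassenhausGroup G Ω)
include hZ

/-- the kernel of the point stabilizer -/
theorem exists_H {a : Ω} : ∃ H : Subgroup G, H ≤ stabilizer G a ∧ Nat.card H + 1 = Fintype.card Ω ∧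
    ∀ u ∈ H, u ≠ 1 → ∀ c : Ω, u • c = c → c = a := by
  classical
  obtain ⟨b, hab⟩ := exists_ne hZ a
  set Γ := stabilizer G a with hΓ
  set E' := (EE G a b).subgroupOf Γ with hE'
  have hEΓ : EE G a b ≤ Γ := inf_le_left
  have hmal : ∀ g : Γ, g ∉ E' → E' ⊓ (MulAut.conj g • E') = ⊥ := by
    intro g hg
    rw [eq_bot_iff]
    rintro x ⟨hx1, hx2⟩
    rw [Subgroup.mem_bot]
    by_contra hx0
    apply hg
    obtain ⟨y, hy, hyx⟩ := hx2
    have hyx' : (g : G) * y * (g : G)⁻¹ = x := by rw [← hyx]; rfl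
    have hyE : (y : G) ∈ EE G a b := hy
    have hxE : (x : G) ∈ EE G a b := hx1
    have hy1 : (y : G) ≠ 1 := by
      intro h
      apply hx0
      apply Subtype.ext
      rw [← hyx', h]; simp
    rcases perm_ab hZ hab hyE (by rw [hyx']; exact hxE) hy1 with h | h
    · exact h
    · exact absurd ((show (g : G) • a = a from g.2).symm.trans h.1) hab
  obtain ⟨N, hN1, hN2, hN3⟩ := CfsgLib.Frob6.frobenius_kernel E' hmal
  have hcE : Nat.card E' = Nat.card (EE G a b) := Nat.card_congr (Subgroup.subgroupOfEquivOfLe hEΓ).toEquiv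
  have hpos : 0 < Nat.card (EE G a b) := Nat.card_pos
  refine ⟨N.map Γ.subtype, Subgroup.map_subtype_le _, ?_, ?_⟩
  · have h1 := hN3.card_mul
    rw [hcE, show Nat.card Γ = (Fintype.card Ω - 1) * Nat.card (EE G a b) from card_stab hZ hab] at h1
    have h2 := Nat.eq_of_mul_eq_mul_right hpos h1
    have h3 : Nat.card (N.map Γ.subtype) = Nat.card N := (Nat.card_congr (N.equivMapOfInjective Γ.subtype Γ.subtype_injective).toEquiv).symm
    have h4 := three_le hZ
    rw [h3, h2]; omega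
  · rintro u ⟨v, hv, rfl⟩ hu1 c hc
    by_contra hca
    have hv1 : v ≠ 1 := fun h => hu1 (by rw [h]; rfl)
    obtain ⟨k, hk1, hk2⟩ := two_trans hZ hab (Ne.symm hca)
    -- `k⁻¹ v k ∈ E`
    have h1 : k⁻¹ * (v : G) * k ∈ EE G a b := by
      constructor
      · show (k⁻¹ * (v : G) * k) • a = a
        have hva : (v : G) • a = a := v.2
        rw [mul_smul, mul_smul, hk1, hva, inv_smul_eq_iff, hk1]
      · show (k⁻¹ * (v : G) * k) • b = b
        have hvc : (v : G) • c = c := hc
        rw [mul_smul, mul_smul, hk2, hvc, inv_smul_eq_iff, hk2]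
    have h2 : (⟨k, hk1⟩ : Γ)⁻¹ * v * ⟨k, hk1⟩ ∈ N := by
      have := hN2.conj_mem v hv (⟨k, hk1⟩ : Γ)⁻¹
      rwa [inv_inv] at this
    have h3 : (⟨k, hk1⟩ : Γ)⁻¹ * v * ⟨k, hk1⟩ ∈ E' := h1
    have h4 := Subgroup.disjoint_def.mp hN3.disjoint h2 h3
    apply hv1
    have : v = (⟨k, hk1⟩ : Γ) * ((⟨k, hk1⟩ : Γ)⁻¹ * v * ⟨k, hk1⟩) * (⟨k, hk1⟩ : Γ)⁻¹ := by group
    rw [this, h4]; group

end Fin

/-- a Zassenhaus group with two marked points and the kernel of the first point stabilizer -/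
structure Dat (G : Type u) (Ω : Type v) [Group G] [MulAction G Ω] [Fintype Ω] (a b : Ω) (H : Subgroup G) : Prop where
  hZ : IsZassenhausGroup G Ω
  hab : a ≠ b
  hHa : H ≤ stabilizer G a
  hcard : Nat.card H + 1 = Fintype.card Ω
  hfix : ∀ u ∈ H, u ≠ 1 → ∀ c : Ω, u • c = c → c = a

namespace Dat
variable [Finite G] [Fintype Ω] {a b : Ω} {H : Subgroup G} (D : Dat G Ω a b H)
include D

theorem ne : a ≠ b := D.hab

theorem mem_H {u : G} : u ∈ H ↔ u • a = a ∧ (u = 1 ∨ ∀ c : Ω, u • c = c → c = a) :=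
  mem_H_iff D.hZ D.hab D.hHa D.hcard D.hfix

theorem conj_H {g u : G} (hg : g • a = a) (hu : u ∈ H) : g * u * g⁻¹ ∈ H := by
  have h := (H_ti D.hZ D.hHa D.hcard D.hfix).2
  have hg' : g ∈ Subgroup.normalizer (H : Set G) := by rw [h]; exact hg
  exact (Subgroup.mem_normalizer_iff.mp hg' u).mp hu

theorem eq_a {g u : G} (hu : u ∈ H) (hu1 : u ≠ 1) (h : g * u * g⁻¹ ∈ H) : g • a = a := by
  by_contra hg
  exact hu1 ((H_ti D.hZ D.hHa D.hcard D.hfix).1 g hg u hu h)

/-- an element fixing `a` and not in `H` fixes another point -/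
theorem exists_fix {g : G} (hga : g • a = a) (hg : g ∉ H) : ∃ c, c ≠ a ∧ g • c = c := by
  by_contra hcon
  push Not at hcon
  apply hg
  rw [D.mem_H]
  refine ⟨hga, Or.inr fun c hc => ?_⟩
  by_contra hca
  exact hcon c hca hc

theorem inj {u : G} (hu : u ∈ H) {c : Ω} (hc : c ≠ a) (h : u • c = c) : u = 1 := by
  by_contra hu1
  exact hc (D.hfix u hu hu1 c h)

theorem H_inf_EE : H ⊓ EE G a b = ⊥ := by
  rw [eq_bot_iff]
  rintro x ⟨hx, hx'⟩
  exact D.inj hx (Ne.symm D.hab) hx'.2

/-- `H` acts regularly on the remaining points -/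
theorem regular {c d : Ω} (hc : c ≠ a) (hd : d ≠ a) : ∃ u ∈ H, u • c = d := by
  classical
  have hne : ∀ u ∈ H, u • c ≠ a := by
    intro u hu h
    apply hc
    have hua : u • a = a := D.hHa hu
    exact MulAction.injective u (h.trans hua.symm)
  let f : H → {x : Ω // x ≠ a} := fun u => ⟨(u : G) • c, hne u u.2⟩
  have hf : Function.Injective f := by
    intro u v huv
    have h1 : (u : G) • c = (v : G) • c := congrArg Subtype.val huv
    have h2 : ((v : G)⁻¹ * (u : G)) • c = c := by rw [mul_smul, h1, inv_smul_smul]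
    have h3 := D.inj (H.mul_mem (H.inv_mem v.2) u.2) hc h2
    apply Subtype.ext
    exact (inv_mul_eq_one.mp h3).symm
  have hcard : Nat.card H = Nat.card {x : Ω // x ≠ a} := by
    rw [card_ne D.hZ a, ← D.hcard]; omega
  have hsurj : Function.Surjective f := ((Nat.bijective_iff_injective_and_card f).mpr ⟨hf, hcard⟩).2
  obtain ⟨u, hu⟩ := hsurj ⟨d, hd⟩
  exact ⟨u, u.2, congrArg Subtype.val hu⟩

theorem smul_ne {g : G} (hga : g • a = a) {c : Ω} (hc : c ≠ a) : g • c ≠ a := by
  intro h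
  exact hc (MulAction.injective g (h.trans hga.symm))

/-- `Γ = H E` -/
theorem decomp {g : G} (hga : g • a = a) : ∃ u ∈ H, ∃ x ∈ EE G a b, g = u * x := by
  obtain ⟨u, hu, hub⟩ := D.regular (Ne.symm D.hab) (D.smul_ne hga (Ne.symm D.hab))
  refine ⟨u, hu, u⁻¹ * g, ⟨?_, ?_⟩, by group⟩
  · show (u⁻¹ * g) • a = a
    rw [mul_smul, hga, inv_smul_eq_iff]; exact (D.hHa hu).symm
  · show (u⁻¹ * g) • b = b
    rw [mul_smul, inv_smul_eq_iff]; exact hub.symm

theorem decomp' {g : G} (hga : g • a = a) : ∃ x ∈ EE G a b, ∃ u ∈ H, g = x * u := by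
  obtain ⟨u, hu, x, hx, h⟩ := D.decomp (b := b) (g := g⁻¹) (inv_smul_eq_iff.mpr hga.symm)
  refine ⟨x⁻¹, inv_mem hx, u⁻¹, inv_mem hu, ?_⟩
  rw [← mul_inv_rev, ← h, inv_inv]

/-- elements of `E` act fixed-point-freely on `H` -/
theorem fpf {x u : G} (hxa : x • a = a) (hx : x ∉ H) (hu : u ∈ H) (hcomm : x * u = u * x) : u = 1 := by
  obtain ⟨c, hca, hxc⟩ := D.exists_fix hxa hx
  have hx1 : x ≠ 1 := fun h => hx (h ▸ H.one_mem)
  have h1 : x • (u • c) = u • c := by rw [← mul_smul, hcomm, mul_smul, hxc]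
  have h2 := fix_EE D.hZ (Ne.symm hca) ⟨hxa, hxc⟩ hx1 h1
  rcases h2 with h2 | h2
  · exact absurd h2 (D.smul_ne (D.hHa hu) hca)
  · exact D.inj hu hca h2

theorem not_mem_H {x : G} (hx : x ∈ EE G a b) (hx1 : x ≠ 1) : x ∉ H := by
  intro h
  exact hx1 (D.inj h (Ne.symm D.hab) hx.2)

theorem pretrans : MulAction.IsPretransitive G Ω := by
  have := D.hZ.2.1
  exact MulAction.isPretransitive_of_is_two_pretransitive

theorem card_G : Nat.card G = Fintype.card Ω * (Nat.card H * Nat.card (EE G a b)) := by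
  haveI := D.pretrans
  have h1 := (stabilizer G a).index_mul_card
  rw [MulAction.index_stabilizer_of_transitive, card_stab D.hZ D.hab, Nat.card_eq_fintype_card] at h1
  rw [← h1]
  congr 2
  have := D.hcard
  omega

theorem card_EE_dvd : Nat.card (EE G a b) ∣ Nat.card H - 1 := by
  classical
  let S : SubMulAction (EE G a b) Ω :=
    { carrier := {c | c ≠ a ∧ c ≠ b}
      smul_mem' := by
        rintro g c ⟨h1, h2⟩
        have hga : (g : G) • a = a := g.2.1
        have hgb : (g : G) • b = b := g.2.2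
        exact ⟨fun h => h1 (MulAction.injective (g : G) (h.trans hga.symm)), fun h => h2 (MulAction.injective (g : G) (h.trans hgb.symm))⟩ }
  have h1 : Nat.card (EE G a b) ∣ Nat.card S := by
    apply card_dvd_of_free
    intro g x hgx
    by_contra hg1
    have hg1' : (g : G) ≠ 1 := fun h => hg1 (Subtype.ext h)
    have h2 : (g : G) • (x : Ω) = x := congrArg Subtype.val hgx
    rcases fix_EE D.hZ D.hab g.2 hg1' h2 with h | h
    · exact x.2.1 h
    · exact x.2.2 h
  have h2 : Nat.card S = Nat.card H - 1 := by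
    have h3 : Nat.card S = Nat.card {c : Ω // ¬ (c = a ∨ c = b)} := by
      apply Nat.card_congr
      exact Equiv.subtypeEquivRight fun c => by
        rw [not_or]; rfl
    rw [h3, Nat.card_eq_fintype_card, Fintype.card_subtype_compl]
    have h4 : Fintype.card {c : Ω // c = a ∨ c = b} = 2 := by
      rw [Fintype.card_subtype]
      have : (Finset.univ.filter fun c : Ω => c = a ∨ c = b) = {a, b} := by ext c; simp
      rw [this, Finset.card_pair D.hab]
    rw [h4]
    have := D.hcard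
    omega
  rwa [h2] at h1

theorem two_le_EE : 2 ≤ Nat.card (EE G a b) := by
  obtain ⟨x, hx, hx1⟩ := exists_EE D.hZ D.hab
  have : Nontrivial (EE G a b) := ⟨⟨x, hx⟩, 1, fun h => hx1 (congrArg Subtype.val h)⟩
  exact Finite.one_lt_card

theorem two_le_H : 2 ≤ Nat.card H := by
  have := three_le D.hZ
  have := D.hcard
  omega

theorem EE_lt : Nat.card (EE G a b) + 1 ≤ Nat.card H := by
  have h1 := Nat.le_of_dvd (by have := D.two_le_H; omega) D.card_EE_dvd
  have := D.two_le_H
  omega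

/-- a prime dividing `|E|` does not divide `|H|` -/
theorem not_dvd_H {q : ℕ} (hq : q.Prime) (hqe : q ∣ Nat.card (EE G a b)) : ¬ q ∣ Nat.card H := by
  intro h
  have h1 := hqe.trans D.card_EE_dvd
  have h2 : q ∣ 1 := by
    have h3 := Nat.dvd_sub h h1
    have h4 : Nat.card H - (Nat.card H - 1) = 1 := by have := D.two_le_H; omega
    rwa [h4] at h3
  exact hq.one_lt.ne' (Nat.dvd_one.mp h2)

theorem not_dvd_card {q : ℕ} (hq : q.Prime) (hq2 : q ≠ 2) (hqe : q ∣ Nat.card (EE G a b)) : ¬ q ∣ Fintype.card Ω := by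
  intro h
  rw [← D.hcard] at h
  have h1 := hqe.trans D.card_EE_dvd
  have h2 : q ∣ 2 := by
    have h3 := Nat.dvd_sub h h1
    have h4 : Nat.card H + 1 - (Nat.card H - 1) = 2 := by have := D.two_le_H; omega
    rwa [h4] at h3
  exact hq2 ((Nat.prime_dvd_prime_iff_eq hq Nat.prime_two).mp h2)

/-- surjectivity of `u ↦ u⁻¹ x u x⁻¹` on `H` -/
theorem comm_surj {x : G} (hxa : x • a = a) (hx : x ∉ H) {v : G} (hv : v ∈ H) : ∃ u ∈ H, u⁻¹ * (x * u * x⁻¹) = v := by
  let f : H → H := fun u => ⟨(u : G)⁻¹ * (x * u * x⁻¹), H.mul_mem (H.inv_mem u.2) (D.conj_H hxa u.2)⟩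
  have hf : Function.Injective f := by
    intro u w huw
    have h1 : (u : G)⁻¹ * (x * u * x⁻¹) = (w : G)⁻¹ * (x * w * x⁻¹) := congrArg Subtype.val huw
    have h2 : x * ((w : G) * (u : G)⁻¹) = ((w : G) * (u : G)⁻¹) * x := by
      have h3 : (w : G) * ((u : G)⁻¹ * (x * u * x⁻¹)) * (x * (u : G)⁻¹) = (w : G) * ((w : G)⁻¹ * (x * w * x⁻¹)) * (x * (u : G)⁻¹) := by rw [h1]
      have h4 : (w : G) * ((u : G)⁻¹ * (x * u * x⁻¹)) * (x * (u : G)⁻¹) = (w : G) * (u : G)⁻¹ * x := by group
      have h5 : (w : G) * ((w : G)⁻¹ * (x * w * x⁻¹)) * (x * (u : G)⁻¹) = x * ((w : G) * (u : G)⁻¹) := by group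
      rw [← h5, ← h3, h4]
    have h3 := D.fpf hxa hx (H.mul_mem w.2 (H.inv_mem u.2)) h2
    apply Subtype.ext
    exact (mul_inv_eq_one.mp h3).symm
  obtain ⟨u, hu⟩ := Finite.surjective_of_injective hf ⟨v, hv⟩
  exact ⟨u, u.2, congrArg Subtype.val hu⟩

/-- a normal subgroup of `G` meeting `E` non-trivially contains `H` -/
theorem H_le {N : Subgroup G} [hN : N.Normal] {x : G} (hx : x ∈ EE G a b) (hx1 : x ≠ 1) (hxN : x ∈ N) : H ≤ N := by
  intro v hv
  obtain ⟨u, hu, rfl⟩ := D.comm_surj hx.1 (D.not_mem_H hx hx1) hv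
  have h1 : (u : G)⁻¹ * x * u ∈ N := by
    have := hN.conj_mem x hxN u⁻¹
    rwa [inv_inv] at this
  have h2 : u⁻¹ * (x * u * x⁻¹) = (u⁻¹ * x * u) * x⁻¹ := by group
  rw [h2]
  exact N.mul_mem h1 (N.inv_mem hxN)

theorem normal_trans {N : Subgroup G} [hN : N.Normal] (hN1 : N ≠ ⊥) : MulAction.IsPretransitive N Ω := by
  haveI := D.hZ.1
  have h2 := D.hZ.2.1
  haveI : IsPreprimitive G Ω := MulAction.isPreprimitive_of_is_two_pretransitive h2
  apply IsQuasiPreprimitive.isPretransitive_of_normal (G := G) (N := N)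
  intro h
  apply hN1
  rw [eq_bot_iff]
  intro g hg
  rw [Subgroup.mem_bot]
  apply FaithfulSMul.eq_of_smul_eq_smul (M := G) (α := Ω)
  intro x
  rw [one_smul]
  have hx : x ∈ fixedPoints N Ω := by rw [h]; trivial
  exact hx ⟨g, hg⟩

/-- a non-trivial normal subgroup meets `E` non-trivially -/
theorem normal_inf_EE {N : Subgroup G} [hN : N.Normal] (hN1 : N ≠ ⊥) : ∃ x ∈ EE G a b, x ≠ 1 ∧ x ∈ N := by
  classical
  by_contra hcon
  push Not at hcon
  haveI := D.normal_trans hN1
  have hcon' : ∀ c d : Ω, c ≠ d → ∀ x : G, x ∈ N → x • c = c → x • d = d → x = 1 := by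
    intro c d hcd x hxN hc hd
    obtain ⟨k, hk1, hk2⟩ := two_trans D.hZ hcd D.hab
    have h1 : k * x * k⁻¹ = 1 := by
      by_contra hne
      exact hcon (k * x * k⁻¹) ⟨by show (k * x * k⁻¹) • a = a; rw [← hk1, smul_fix']; exact hc, by
        show (k * x * k⁻¹) • b = b; rw [← hk2, smul_fix']; exact hd⟩ hne (hN.conj_mem x hxN k)
    by_contra hx1
    exact conj_ne_one hx1 h1
  set L : Subgroup N := stabilizer N a with hL
  have hmal : ∀ g : N, g ∉ L → L ⊓ (MulAut.conj g • L) = ⊥ := by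
    intro g hg
    rw [eq_bot_iff]
    rintro x ⟨hx1, hx2⟩
    rw [Subgroup.mem_bot]
    obtain ⟨y, hy, hyx⟩ := hx2
    have hyx' : (g : G) * y * (g : G)⁻¹ = x := by rw [← hyx]; rfl
    have hxa : (x : G) • a = a := hx1
    have hya : (y : G) • a = a := hy
    have hxg : (x : G) • ((g : G) • a) = (g : G) • a := by
      rw [← hyx', smul_fix']; exact hya
    apply Subtype.ext
    exact hcon' a ((g : G) • a) (fun h => hg h.symm) x x.2 hxa hxg
  obtain ⟨M, hM1, hM2, hM3⟩ := CfsgLib.Frob6.frobenius_kernel L hmal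
  have hMmem : ∀ g : N, g ∈ M ↔ g = 1 ∨ ∀ c : Ω, (g : G) • c ≠ c := by
    intro g
    have h1 : g ∈ M ↔ g ∈ Cfsg.frobeniusKernel L := by rw [← hM1]; rfl
    rw [h1]
    show (g = 1 ∨ ∀ x : N, g ∉ MulAut.conj x • L) ↔ _
    apply or_congr Iff.rfl
    have h2 : ∀ x : N, g ∈ MulAut.conj x • L ↔ (g : G) • ((x : G) • a) = (x : G) • a := by
      intro x
      rw [Subgroup.mem_pointwise_smul_iff_inv_smul_mem]
      have h3 : (MulAut.conj x)⁻¹ • g = x⁻¹ * g * x := by
        rw [← map_inv, MulAut.smul_def, MulAut.conj_apply, inv_inv]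
      rw [h3]
      show ((x : G)⁻¹ * (g : G) * (x : G)) • a = a ↔ _
      rw [mul_smul, mul_smul, inv_smul_eq_iff]
    constructor
    · intro h c hc
      obtain ⟨x, hx⟩ := MulAction.exists_smul_eq N a c
      have hx' : (x : G) • a = c := hx
      exact h x ((h2 x).mpr (by rw [hx']; exact hc))
    · intro h x hx
      exact h _ ((h2 x).mp hx)
  set K : Subgroup G := M.map N.subtype with hK
  have hKmem : ∀ g : G, g ∈ K ↔ g ∈ N ∧ (g = 1 ∨ ∀ c : Ω, g • c ≠ c) := by
    intro g
    constructor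
    · rintro ⟨m, hm, rfl⟩
      refine ⟨m.2, ?_⟩
      rcases (hMmem m).mp hm with h | h
      · left; rw [h]; rfl
      · right; exact h
    · rintro ⟨hgN, h⟩
      refine ⟨⟨g, hgN⟩, (hMmem _).mpr ?_, rfl⟩
      rcases h with h | h
      · left; exact Subtype.ext h
      · right; exact h
  haveI hKn : K.Normal := by
    constructor
    intro k hk g
    rw [hKmem] at hk ⊢
    refine ⟨hN.conj_mem k hk.1 g, ?_⟩
    rcases hk.2 with h | h
    · left; rw [h]; group
    · right
      intro c hc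
      rw [smul_fix] at hc
      exact h _ hc
  have hKne : K ≠ ⊥ := by
    intro h
    have h1 := hM3.card_mul
    have h2 : Nat.card M = 1 := by
      have h3 : Nat.card K = Nat.card M := (Nat.card_congr (M.equivMapOfInjective N.subtype N.subtype_injective).toEquiv).symm
      rw [← h3, h, Subgroup.card_bot]
    rw [h2, one_mul] at h1
    have h3 : L.index = Nat.card Ω := MulAction.index_stabilizer_of_transitive N a
    have h4 := L.index_mul_card
    rw [h3, h1, Nat.card_eq_fintype_card] at h4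
    have h5 := three_le D.hZ
    have h6 : 0 < Nat.card N := Nat.card_pos
    nlinarith
  haveI := D.normal_trans hKne
  obtain ⟨c, hc⟩ := D.hZ.2.2.2.2 K hKn inferInstance
  apply hc
  rw [eq_bot_iff]
  intro k hk
  have hk1 : (k : G) • c = c := hk
  rcases ((hKmem k).mp k.2).2 with h | h
  · exact Subtype.ext h
  · exact absurd hk1 (h c)

/-- a non-trivial normal subgroup is 2-transitive -/
theorem H_le_normal {N : Subgroup G} [hN : N.Normal] (hN1 : N ≠ ⊥) : H ≤ N := by
  obtain ⟨x, hx, hx1, hxN⟩ := D.normal_inf_EE hN1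
  exact D.H_le hx hx1 hxN

theorem normal_two_trans {N : Subgroup G} [hN : N.Normal] (hN1 : N ≠ ⊥) : IsMultiplyPretransitive N Ω 2 := by
  have hHN := D.H_le_normal hN1
  haveI := D.normal_trans hN1
  rw [is_two_pretransitive_iff]
  intro c d c' d' hcd hcd'
  obtain ⟨x, hx⟩ := MulAction.exists_smul_eq N c a
  obtain ⟨y, hy⟩ := MulAction.exists_smul_eq N c' a
  have hx' : (x : G) • c = a := hx
  have hy' : (y : G) • c' = a := hy
  have h1 : (x : G) • d ≠ a := fun h => hcd (MulAction.injective (x : G) (hx'.trans h.symm))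
  have h2 : (y : G) • d' ≠ a := fun h => hcd' (MulAction.injective (y : G) (hy'.trans h.symm))
  obtain ⟨u, hu, hud⟩ := D.regular h1 h2
  refine ⟨y⁻¹ * (⟨u, hHN hu⟩ * x), ?_, ?_⟩
  · show ((y : G)⁻¹ * (u * (x : G))) • c = c'
    have hua : u • a = a := D.hHa hu
    rw [mul_smul, mul_smul, hx', hua, inv_smul_eq_iff, hy']
  · show ((y : G)⁻¹ * (u * (x : G))) • d = d'
    rw [mul_smul, mul_smul, hud, inv_smul_smul]

/-- no subgroup has order `n²` -/
theorem not_sq (h : Fintype.card Ω * Fintype.card Ω ∣ Nat.card G) : False := by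
  rw [D.card_G] at h
  have h3 := three_le D.hZ
  have h4 := Nat.dvd_of_mul_dvd_mul_left (by omega) h
  have h5 : (Fintype.card Ω).Coprime (Nat.card H) := by
    rw [← D.hcard]
    exact Nat.coprime_self_add_left.mpr (Nat.coprime_one_left _)
  have h6 := Nat.le_of_dvd (by have := D.two_le_EE; omega) (h5.dvd_of_dvd_mul_left h4)
  have h7 := D.EE_lt
  have h8 := D.hcard
  omega

/-- S0339 -/
theorem normal_zassenhaus {N : Subgroup G} [hN : N.Normal] (hN1 : N ≠ ⊥) : IsZassenhausGroup N Ω := by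
  classical
  have hHN := D.H_le_normal hN1
  haveI := D.hZ.1
  haveI hNt := D.normal_trans hN1
  refine ⟨⟨fun {x y} h => ?_⟩, D.normal_two_trans hN1, ?_, ?_, ?_⟩
  · apply Subtype.ext
    exact FaithfulSMul.eq_of_smul_eq_smul (M := G) (α := Ω) h
  · intro g c d e h1 h2 h3 h4 h5 h6
    exact Subtype.ext (D.hZ.2.2.1 g c d e h1 h2 h3 h4 h5 h6)
  · obtain ⟨x, hx, hx1, hxN⟩ := D.normal_inf_EE hN1
    exact ⟨⟨x, hxN⟩, fun h => hx1 (congrArg Subtype.val h), a, b, D.hab, hx.1, hx.2⟩
  · intro M hM hMt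
    by_contra hcon
    push Not at hcon
    have hreg : ∀ m ∈ M, ∀ c : Ω, (m : G) • c = c → m = 1 := by
      intro m hm c hc
      have : (⟨m, hm⟩ : M) ∈ stabilizer M c := hc
      rw [hcon c] at this
      exact congrArg Subtype.val this
    have hMcard : Nat.card M = Fintype.card Ω := by
      have h1 := (stabilizer M a).index_mul_card
      rw [MulAction.index_stabilizer_of_transitive, hcon a, Subgroup.card_bot, mul_one, Nat.card_eq_fintype_card] at h1
      exact h1.symm
    -- all conjugates of `M` in `G` coincide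
    set K : Subgroup G := M.map N.subtype with hK
    have hKreg : ∀ k ∈ K, ∀ c : Ω, k • c = c → k = 1 := by
      rintro k ⟨m, hm, rfl⟩ c hc
      have := hreg m hm c hc
      rw [this]; rfl
    have hKcard : Nat.card K = Fintype.card Ω := by
      rw [← hMcard]
      exact (Nat.card_congr (M.equivMapOfInjective N.subtype N.subtype_injective).toEquiv).symm
    have hKN : K ≤ N := Subgroup.map_subtype_le _
    have hKconj : ∀ n ∈ N, ∀ k ∈ K, n * k * n⁻¹ ∈ K := by
      rintro n hn k ⟨m, hm, rfl⟩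
      exact ⟨⟨n, hn⟩ * m * ⟨n, hn⟩⁻¹, hM.conj_mem m hm _, rfl⟩
    have hKtr : ∀ c d : Ω, ∃ k ∈ K, k • c = d := by
      intro c d
      obtain ⟨m, hm⟩ := MulAction.exists_smul_eq M c d
      exact ⟨(m : N), ⟨(m : N), m.2, rfl⟩, hm⟩
    have hKn : K.Normal := by
      constructor
      intro k hk g
      by_contra hgk
      -- `K' = g K g⁻¹`
      set K' : Subgroup G := K.map (MulAut.conj g).toMonoidHom with hK'
      have hK'mem : ∀ x : G, x ∈ K' ↔ g⁻¹ * x * g ∈ K := by
        intro x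
        constructor
        · rintro ⟨y, hy, rfl⟩
          show g⁻¹ * (g * y * g⁻¹) * g ∈ K
          rwa [conj_conj]
        · intro hx
          refine ⟨_, hx, ?_⟩
          show g * (g⁻¹ * x * g) * g⁻¹ = x
          group
      have hK'card : Nat.card K' = Fintype.card Ω := by
        rw [← hKcard]
        exact (Nat.card_congr (K.equivMapOfInjective (MulAut.conj g).toMonoidHom (MulAut.conj g).injective).toEquiv).symm
      have hK'N : K' ≤ N := by
        rintro x ⟨y, hy, rfl⟩
        exact hN.conj_mem y (hKN hy) g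
      have hK'conj : ∀ n ∈ N, ∀ k ∈ K', n * k * n⁻¹ ∈ K' := by
        intro n hn k hk
        rw [hK'mem] at hk ⊢
        have h1 : g⁻¹ * n * g ∈ N := by
          have := hN.conj_mem n hn g⁻¹
          rwa [inv_inv] at this
        have h2 := hKconj _ h1 _ hk
        have h3 : g⁻¹ * (n * k * n⁻¹) * g = g⁻¹ * n * g * (g⁻¹ * k * g) * (g⁻¹ * n * g)⁻¹ := by group
        rw [h3]; exact h2
      -- trivial intersection
      have hdisj : ∀ x, x ∈ K → x ∈ K' → x = 1 := by
        intro x hx hx'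
        by_contra hx1
        apply hgk
        -- all non-trivial elements of `K` are conjugate to `x` under `H`
        have key : ∀ y ∈ K, y ∈ K' := by
          intro y hy
          by_cases hy1 : y = 1
          · rw [hy1]; exact K'.one_mem
          have hxa : x • a ≠ a := fun h => hx1 (hKreg x hx a h)
          have hya : y • a ≠ a := fun h => hy1 (hKreg y hy a h)
          obtain ⟨u, hu, hud⟩ := D.regular hxa hya
          have hua : u • a = a := D.hHa hu
          have h1 : u * x * u⁻¹ ∈ K := hKconj u (hHN hu) x hx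
          have h2 : (u * x * u⁻¹) • a = y • a := by
            rw [mul_smul, mul_smul, inv_smul_eq_iff.mpr hua.symm, hud]
          have h3 : (y⁻¹ * (u * x * u⁻¹)) • a = a := by
            rw [mul_smul, h2, inv_smul_smul]
          have h4 := hKreg _ (K.mul_mem (K.inv_mem hy) h1) a h3
          have h5 : u * x * u⁻¹ = y := (inv_mul_eq_one.mp h4).symm
          rw [← h5]
          exact hK'conj u (hHN hu) x hx'
        have hle : K ≤ K' := key
        have heq : K = K' := Subgroup.eq_of_le_of_card_ge hle (by rw [hKcard, hK'card])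
        rw [heq]
        exact ⟨k, hk, rfl⟩
      have hcomm : ∀ x ∈ K, ∀ y ∈ K', x * y = y * x := by
        intro x hx y hy
        have h1 : x * y * x⁻¹ * y⁻¹ = 1 := by
          apply hdisj
          · have h2 : x * y * x⁻¹ * y⁻¹ = x * (y * x⁻¹ * y⁻¹) := by group
            rw [h2]
            exact K.mul_mem hx (hKconj y (hK'N hy) _ (K.inv_mem hx))
          · exact K'.mul_mem (hK'conj x (hKN hx) y hy) (K'.inv_mem hy)
        have h2 : x * y = (x * y * x⁻¹ * y⁻¹) * (y * x) := by group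
        rw [h2, h1, one_mul]
      let f : K × K' →* G := MonoidHom.noncommCoprod K.subtype K'.subtype (fun x y => hcomm x x.2 y y.2)
      have hf : Function.Injective f := by
        rw [injective_iff_map_eq_one]
        rintro ⟨x, y⟩ hxy
        have h1 : (x : G) * (y : G) = 1 := hxy
        have h2 : (x : G) = (y : G)⁻¹ := eq_inv_of_mul_eq_one_left h1
        have h3 : (x : G) = 1 := hdisj x x.2 (by rw [h2]; exact K'.inv_mem y.2)
        have h4 : (y : G) = 1 := by rwa [h3, one_mul] at h1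
        exact Prod.ext (Subtype.ext h3) (Subtype.ext h4)
      have h1 := Subgroup.card_dvd_of_injective f hf
      rw [Nat.card_prod, hKcard, hK'card] at h1
      exact D.not_sq h1
    obtain ⟨c, hc⟩ := D.hZ.2.2.2.2 K hKn ⟨fun c d => by
      obtain ⟨k, hk, hkc⟩ := hKtr c d
      exact ⟨⟨k, hk⟩, hkc⟩⟩
    apply hc
    rw [eq_bot_iff]
    intro k hk
    have hk1 : (k : G) • c = c := hk
    exact Subtype.ext (hKreg k k.2 c hk1)

/-- S0338 -/
theorem simple_of_odd (hodd : Odd (Fintype.card Ω)) : IsSimpleGroup G := by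
  classical
  have hHeven : Even (Nat.card H) := by
    rw [← D.hcard] at hodd
    rcases Nat.even_or_odd (Nat.card H) with h | h
    · exact h
    · exact absurd hodd (by rw [Nat.not_odd_iff_even]; exact h.add_one)
  obtain ⟨z, hz⟩ := exists_prime_orderOf_dvd_card' 2 hHeven.two_dvd
  have hz2 : orderOf (z : G) = 2 := by rw [Subgroup.orderOf_coe]; exact hz
  have hz1 : (z : G) ≠ 1 := fun h => by rw [h, orderOf_one] at hz2; omega
  haveI hnt : Nontrivial G := ⟨⟨(z : G), 1, hz1⟩⟩
  refine { exists_pair_ne := hnt.exists_pair_ne, eq_bot_or_eq_top_of_normal := fun N hN => ?_ }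
  by_cases hN1 : N = ⊥
  · exact Or.inl hN1
  right
  have hHN := D.H_le_normal hN1
  haveI := D.normal_trans hN1
  have hzb : (z : G) • b ≠ b := fun h => hz1 (D.inj z.2 (Ne.symm D.hab) h)
  have hzz : (z : G) * z = 1 := by rw [← pow_two, ← hz2, pow_orderOf_eq_one]
  obtain ⟨k, hk1, hk2⟩ := two_trans D.hZ (Ne.symm hzb) D.hab
  obtain ⟨t, ht⟩ : ∃ t, t = k * (z : G) * k⁻¹ := ⟨_, rfl⟩
  have htN : t ∈ N := by rw [ht]; exact hN.conj_mem _ (hHN z.2) k
  have htt : t * t = 1 := by
    have h1 : t * t = k * ((z : G) * z) * k⁻¹ := by rw [ht]; group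
    rw [h1, hzz]; group
  have hta : t • a = b := by
    rw [ht, ← hk1, mul_smul, mul_smul, inv_smul_smul, hk2]
  have htb : t • b = a := by
    rw [← hta, ← mul_smul, htt, one_smul]
  -- `t` fixes only one point
  have htfix : ∀ c d : Ω, t • c = c → t • d = d → c = d := by
    have h1 : ∀ c : Ω, t • c = c → k⁻¹ • c = a := by
      intro c hc
      rw [ht, smul_fix] at hc
      exact D.hfix _ z.2 hz1 _ hc
    intro c d hc hd
    have h2 := (h1 c hc).trans (h1 d hd).symm
    exact MulAction.injective k⁻¹ h2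
  have htc : t • (k • a) = k • a := by
    rw [ht, smul_fix']
    exact D.hHa z.2
  have htE : ∀ x ∈ EE G a b, t * x * t⁻¹ ∈ EE G a b := by
    intro x hx
    have h1 := perm_norm (G := G) (a := a) (b := b) (g := t) (Or.inr ⟨hta, htb⟩)
    exact (Subgroup.mem_normalizer_iff.mp h1 x).mp hx
  have hcE : ∀ x ∈ EE G a b, t * x = x * t → x = 1 := by
    intro x hx hcomm
    have h1 : t • (x • (k • a)) = x • (k • a) := by
      rw [← mul_smul, hcomm, mul_smul, htc]
    have h2 := htfix _ _ h1 htc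
    by_contra hx1
    rcases fix_EE D.hZ D.hab hx hx1 h2 with h | h
    · rw [h] at htc; exact D.hab (htc.symm.trans hta)
    · rw [h] at htc; exact D.hab (htb.symm.trans htc)
  have hEN : EE G a b ≤ N := by
    let f : EE G a b → EE G a b := fun x => ⟨(x : G)⁻¹ * (t * x * t⁻¹), mul_mem (inv_mem x.2) (htE x x.2)⟩
    have hf : Function.Injective f := by
      intro u w huw
      have h1 : (u : G)⁻¹ * (t * u * t⁻¹) = (w : G)⁻¹ * (t * w * t⁻¹) := congrArg Subtype.val huw
      have h2 : t * ((w : G) * (u : G)⁻¹) = ((w : G) * (u : G)⁻¹) * t := by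
        have h3 : (w : G) * ((u : G)⁻¹ * (t * u * t⁻¹)) * (t * (u : G)⁻¹) = (w : G) * ((w : G)⁻¹ * (t * w * t⁻¹)) * (t * (u : G)⁻¹) := by rw [h1]
        have h4 : (w : G) * ((u : G)⁻¹ * (t * u * t⁻¹)) * (t * (u : G)⁻¹) = (w : G) * (u : G)⁻¹ * t := by group
        have h5 : (w : G) * ((w : G)⁻¹ * (t * w * t⁻¹)) * (t * (u : G)⁻¹) = t * ((w : G) * (u : G)⁻¹) := by group
        rw [← h5, ← h3, h4]
      have h3 := hcE _ (mul_mem w.2 (inv_mem u.2)) h2
      apply Subtype.ext
      exact (mul_inv_eq_one.mp h3).symm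
    intro x hx
    obtain ⟨y, hy⟩ := Finite.surjective_of_injective hf ⟨x, hx⟩
    have h1 : (y : G)⁻¹ * (t * y * t⁻¹) = x := congrArg Subtype.val hy
    have h2 : (y : G)⁻¹ * (t * y * t⁻¹) = ((y : G)⁻¹ * t * y) * t⁻¹ := by group
    rw [← h1, h2]
    have h3 : (y : G)⁻¹ * t * y ∈ N := by
      have := hN.conj_mem t htN (y : G)⁻¹
      rwa [inv_inv] at this
    exact N.mul_mem h3 (N.inv_mem htN)
  rw [eq_top_iff]
  intro g _
  obtain ⟨n, hn⟩ := MulAction.exists_smul_eq N a (g • a)
  have hn' : (n : G) • a = g • a := hn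
  have h1 : ((n : G)⁻¹ * g) • a = a := by rw [mul_smul, ← hn', inv_smul_smul]
  obtain ⟨u, hu, x, hx, hux⟩ := D.decomp h1
  have h2 : g = (n : G) * (u * x) := by rw [← hux]; group
  rw [h2]
  exact N.mul_mem n.2 (N.mul_mem (hHN hu) (hEN hx))

end Dat
end CfsgLib.Zas
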