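import Cfsg.Agent.EqBase
import Cfsg.Agent.LibCoh10
import Cfsg.Agent.LibZas2
import Cfsg.Prelude.Def_OddOrderLocal
/-!
# Peterfalvi (6.7) (helper16)
-/
set_option autoImplicit false
set_option linter.all false
open Cfsg CfsgLib.CharBasic CfsgLib.CharIndA CfsgLib.CharNorm CfsgLib.Sgn CfsgLib.Clifford
open scoped ComplexConjugate
namespace CfsgLib.Coh

universe u v

theorem free_sum {E X : Type*} [Group E] [MulAction E X] [Finite E] [Fintype X] (hfree : ∀ (g : E) (x : X), g • x = x → g = 1) (F : X → ℂ)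
    (hF : ∀ (g : E) (x : X), F (g • x) = F x) (hint : ∀ x, IsIntegral ℤ (F x)) : ∃ A : ℂ, IsIntegral ℤ A ∧ ∑ x : X, F x = (Nat.card E : ℂ) * A := by
  classical
  haveI := Fintype.ofFinite E
  haveI : Fintype (MulAction.orbitRel.Quotient E X) := Fintype.ofFinite _
  let e := MulAction.selfEquivSigmaOrbits E X
  refine ⟨∑ ω : MulAction.orbitRel.Quotient E X, F ω.out, IsIntegral.sum _ fun ω _ => hint _, ?_⟩
  rw [Finset.mul_sum]
  haveI : ∀ ω : MulAction.orbitRel.Quotient E X, Fintype (MulAction.orbit E ω.out) := fun ω => Fintype.ofFinite _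
  rw [← Equiv.sum_comp e.symm, Fintype.sum_sigma]
  refine Finset.sum_congr rfl fun ω _ => ?_
  have h1 : ∀ y : MulAction.orbit E ω.out, F (e.symm ⟨ω, y⟩) = F ω.out := by
    rintro ⟨y, g, rfl⟩
    have : e.symm ⟨ω, ⟨g • ω.out, ⟨g, rfl⟩⟩⟩ = g • ω.out := rfl
    exact (congrArg F this).trans (hF g _)
  rw [Finset.sum_congr rfl fun y _ => h1 y, Finset.sum_const, nsmul_eq_mul]
  congr 1
  have h2 : Nat.card (MulAction.orbit E ω.out) = Nat.card E := by
    have h3 : MulAction.stabilizer E ω.out = ⊥ := by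
      rw [eq_bot_iff]
      intro g hg
      exact hfree g _ hg
    have h4 := Nat.card_congr (MulAction.orbitEquivQuotientStabilizer E ω.out)
    rw [h4, h3]
    exact Nat.card_congr (QuotientGroup.quotientBot (G := E)).toEquiv
  rw [Finset.card_univ, ← Nat.card_eq_fintype_card, h2]

variable {G : Type v} [Group G] [Fintype G]

open Classical in
/-- products of two classes -/
theorem class_prod {ψ : G → ℂ} (hψ : IsIrrCharacter G ψ) (z z' : G) :
    ∑ p ∈ (Finset.univ : Finset (G × G)).filter (fun p => IsConj z p.1 ∧ IsConj z' p.2), ψ (p.1 * p.2) =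
      (Nat.card {x : G // IsConj z x} : ℂ) * (Nat.card {x : G // IsConj z' x} : ℂ) * ψ z * ψ z' / ψ 1 := by
  have hcl : ∀ w : G, IsClassFunction G (fun x => if IsConj w x then (1 : ℂ) else 0) := by
    intro w g h
    have : IsConj w (h * g * h⁻¹) ↔ IsConj w g := by
      have h1 : IsConj g (h * g * h⁻¹) := isConj_iff.mpr ⟨h, rfl⟩
      exact ⟨fun h2 => h2.trans h1.symm, fun h2 => h2.trans h1⟩
    simp only [this]
  have hcount : ∀ w : G, ∑ x : G, (if IsConj w x then (1 : ℂ) else 0) * ψ x = (Nat.card {x : G // IsConj w x} : ℂ) * ψ w := by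
    intro w
    have h1 : ∀ x : G, (if IsConj w x then (1 : ℂ) else 0) * ψ x = if IsConj w x then ψ w else 0 := by
      intro x
      by_cases h : IsConj w x
      · rw [if_pos h, if_pos h, one_mul]
        obtain ⟨c, hc⟩ := isConj_iff.mp h
        rw [← hc]; exact irr_classFun hψ w c
      · rw [if_neg h, if_neg h, zero_mul]
    rw [Finset.sum_congr rfl fun x _ => h1 x, ← Finset.sum_filter, Finset.sum_const, nsmul_eq_mul, ← Fintype.card_subtype, ← Nat.card_eq_fintype_card]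
  rw [Finset.sum_filter, ← Finset.univ_product_univ, Finset.sum_product]
  have h1 : ∀ x y : G, (if IsConj z x ∧ IsConj z' y then ψ (x * y) else 0) =
      (if IsConj z' y then (1 : ℂ) else 0) * ((if IsConj z x then (1 : ℂ) else 0) * ψ (x * y)) := by
    intro x y
    by_cases h1 : IsConj z x
    · by_cases h2 : IsConj z' y
      · rw [if_pos ⟨h1, h2⟩, if_pos h1, if_pos h2, one_mul, one_mul]
      · rw [if_neg (fun h => h2 h.2), if_neg h2, zero_mul]
    · rw [if_neg (fun h => h1 h.1), if_neg h1, zero_mul, mul_zero]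
  simp only [h1]
  rw [Finset.sum_comm]
  have h2 : ∀ y : G, ∑ x : G, (if IsConj z' y then (1 : ℂ) else 0) * ((if IsConj z x then (1 : ℂ) else 0) * ψ (x * y)) =
      ((Nat.card {x : G // IsConj z x} : ℂ) * ψ z / ψ 1) * ((if IsConj z' y then (1 : ℂ) else 0) * ψ y) := by
    intro y
    rw [← Finset.mul_sum, CfsgLib.CharInt.irr_sum_mul hψ (hcl z) y, hcount]
    ring
  rw [Finset.sum_congr rfl fun y _ => h2 y, ← Finset.mul_sum, hcount]
  ring

variable {p : ℕ} [hp : Fact p.Prime]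

/-- data for (6.7) -/
structure TIData (P : Sylow p G) (Z : Subgroup G) : Prop where
  hTI : IsTISubset ((P : Subgroup G) : Set G)
  hodd : Odd (Nat.card (Subgroup.normalizer ((P : Subgroup G) : Set G)))
  hZP : Z ≤ P
  hZn : ∀ x ∈ Subgroup.normalizer ((P : Subgroup G) : Set G), ∀ z ∈ Z, x * z * x⁻¹ ∈ Z
  hZc : ∀ z ∈ Z, ∀ y ∈ (P : Subgroup G), z * y = y * z

namespace TIData
variable {P : Sylow p G} {Z : Subgroup G} (D : TIData P Z)
include D

theorem fus {x g : G} (hx : x ∈ (P : Subgroup G)) (hx1 : x ≠ 1) (h : g * x * g⁻¹ ∈ (P : Subgroup G)) :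
    g ∈ Subgroup.normalizer ((P : Subgroup G) : Set G) := by
  by_contra hg
  exact hx1 (D.hTI g hg x hx h)

/-- a conjugate of a non-trivial element of `Z` commuting with a non-trivial element of `P` lies in `Z` -/
theorem mem_Z {z x u : G} (hz : z ∈ Z) (hz1 : z ≠ 1) (hx : IsConj z x) (hu : u ∈ (P : Subgroup G)) (hu1 : u ≠ 1) (hcomm : u * x = x * u) : x ∈ Z := by
  have h1 : x * u * x⁻¹ = u := by rw [← hcomm]; group
  have hxN : x ∈ Subgroup.normalizer ((P : Subgroup G) : Set G) := D.fus hu hu1 (by rw [h1]; exact hu)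
  obtain ⟨g, hg⟩ := isConj_iff.mp hx
  -- `x` is a `p`-element of the normalizer so lies in `P`
  have hxP : x ∈ (P : Subgroup G) := by
    have h2 : IsPGroup p (Subgroup.zpowers x) := by
      have h3 : IsPGroup p (Subgroup.zpowers z) := P.isPGroup'.to_le (by
        rw [Subgroup.zpowers_le]; exact D.hZP hz)
      have h4 : Subgroup.zpowers x = (Subgroup.zpowers z).map (MulAut.conj g).toMonoidHom := by
        rw [MonoidHom.map_zpowers]
        show Subgroup.zpowers x = Subgroup.zpowers (g * z * g⁻¹)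
        rw [hg]
      rw [h4]; exact h3.map _
    have h3 : Subgroup.zpowers x ≤ Subgroup.normalizer ((P : Subgroup G) : Set G) := by
      rw [Subgroup.zpowers_le]; exact hxN
    have h4 : IsPGroup p (Subgroup.zpowers x ⊔ (P : Subgroup G) : Subgroup G) :=
      h2.to_sup_of_normal_right' P.isPGroup' h3
    have h5 := P.is_maximal' h4 le_sup_right
    rw [← h5]
    exact Subgroup.mem_sup_left (Subgroup.mem_zpowers x)
  have hgN := D.fus (D.hZP hz) hz1 (g := g) (by rw [hg]; exact hxP)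
  rw [← hg]
  exact D.hZn g hgN z hz

open Classical in
/-- the number of conjugates of `z` in `Z` is prime to `p` -/
theorem card_coprime {z : G} (hz : z ∈ Z) (hz1 : z ≠ 1) : ¬ p ∣ (Finset.univ.filter (fun x : G => x ∈ Z ∧ IsConj z x)).card := by
  set N := Subgroup.normalizer ((P : Subgroup G) : Set G) with hN
  have hPN : (P : Subgroup G) ≤ N := Subgroup.le_normalizer
  -- orbit map
  set C : Subgroup N := Subgroup.centralizer ({⟨z, hPN (D.hZP hz)⟩} : Set N) with hC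
  have h1 : (Finset.univ.filter (fun x : G => x ∈ Z ∧ IsConj z x)).card = C.index := by
    rw [← Fintype.card_subtype, ← Nat.card_eq_fintype_card]
    have h2 := card_class_eq_index (G := N) ⟨z, hPN (D.hZP hz)⟩
    rw [← hC] at h2
    rw [← h2]
    apply Nat.card_congr
    refine ⟨fun x => ⟨⟨(x : G), hPN (D.hZP x.2.1)⟩, ?_⟩, fun x => ⟨((x : N) : G), ?_⟩, fun x => rfl, fun x => rfl⟩
    · obtain ⟨g, hg⟩ := isConj_iff.mp x.2.2
      have hgN := D.fus (D.hZP hz) hz1 (g := g) (by rw [hg]; exact D.hZP x.2.1)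
      exact isConj_iff.mpr ⟨⟨g, hgN⟩, Subtype.ext hg⟩
    · obtain ⟨g, hg⟩ := isConj_iff.mp x.2
      have hg' : (g : G) * z * (g : G)⁻¹ = (x : N) := congrArg Subtype.val hg
      exact ⟨by rw [← hg']; exact D.hZn g g.2 z hz, isConj_iff.mpr ⟨g, hg'⟩⟩
  rw [h1]
  have hPC : (P : Subgroup G).subgroupOf N ≤ C := by
    intro y hy
    rw [hC, Subgroup.mem_centralizer_singleton_iff]
    exact Subtype.ext (D.hZc z hz y hy).symm
  have h2 : C.index ∣ ((P : Subgroup G).subgroupOf N).index := Subgroup.index_dvd_of_le hPC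
  have h3 : ((P : Subgroup G).subgroupOf N).index ∣ (P : Subgroup G).index := Subgroup.relIndex_dvd_index_of_le hPN
  intro h
  exact P.not_dvd_index (h.trans (h2.trans h3))

open Classical in
/-- the sum over the pairs outside `Z × Z` is divisible by `|P|` -/
theorem outer_sum {ψ : G → ℂ} (hψ : IsIrrCharacter G ψ) {z z' : G} (hz : z ∈ Z) (hz1 : z ≠ 1) (hz' : z' ∈ Z) (hz1' : z' ≠ 1) :
    ∃ A : ℂ, IsIntegral ℤ A ∧ ∑ q ∈ ((Finset.univ : Finset (G × G)).filter (fun q => IsConj z q.1 ∧ IsConj z' q.2)).filter (fun q => ¬ (q.1 ∈ Z ∧ q.2 ∈ Z)),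
      ψ (q.1 * q.2) = (Nat.card (P : Subgroup G) : ℂ) * A := by
  set X := {q : G × G // (IsConj z q.1 ∧ IsConj z' q.2) ∧ ¬ (q.1 ∈ Z ∧ q.2 ∈ Z)} with hX
  have hconj : ∀ (g w x : G), IsConj w x → IsConj w (g * x * g⁻¹) := fun g w x h => h.trans (isConj_iff.mpr ⟨g, rfl⟩)
  have hZP : ∀ (g : (P : Subgroup G)) (x : G), (g : G) * x * (g : G)⁻¹ ∈ Z ↔ x ∈ Z := by
    intro g x
    have hN : ∀ g : (P : Subgroup G), ∀ x : G, x ∈ Z → (g : G) * x * (g : G)⁻¹ ∈ Z := fun g x hx => D.hZn g (Subgroup.le_normalizer g.2) x hx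
    refine ⟨fun h => ?_, hN g x⟩
    have h1 := hN g⁻¹ _ h
    have h2 : ((g⁻¹ : (P : Subgroup G)) : G) * ((g : G) * x * (g : G)⁻¹) * ((g⁻¹ : (P : Subgroup G)) : G)⁻¹ = x := by
      rw [Subgroup.coe_inv]; group
    rwa [h2] at h1
  letI act : MulAction (P : Subgroup G) X :=
    { smul := fun g q => ⟨((g : G) * q.1.1 * (g : G)⁻¹, (g : G) * q.1.2 * (g : G)⁻¹), ⟨hconj _ _ _ q.2.1.1, hconj _ _ _ q.2.1.2⟩, by
        intro h
        exact q.2.2 ⟨(hZP g _).mp h.1, (hZP g _).mp h.2⟩⟩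
      one_smul := fun q => by
        apply Subtype.ext
        apply Prod.ext
        · show ((1 : (P : Subgroup G)) : G) * q.1.1 * ((1 : (P : Subgroup G)) : G)⁻¹ = q.1.1
          rw [Subgroup.coe_one]; group
        · show ((1 : (P : Subgroup G)) : G) * q.1.2 * ((1 : (P : Subgroup G)) : G)⁻¹ = q.1.2
          rw [Subgroup.coe_one]; group
      mul_smul := fun g h q => by
        apply Subtype.ext
        apply Prod.ext
        · show ((g * h : (P : Subgroup G)) : G) * q.1.1 * ((g * h : (P : Subgroup G)) : G)⁻¹ = (g : G) * ((h : G) * q.1.1 * (h : G)⁻¹) * (g : G)⁻¹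
          rw [Subgroup.coe_mul]; group
        · show ((g * h : (P : Subgroup G)) : G) * q.1.2 * ((g * h : (P : Subgroup G)) : G)⁻¹ = (g : G) * ((h : G) * q.1.2 * (h : G)⁻¹) * (g : G)⁻¹
          rw [Subgroup.coe_mul]; group }
  have hsm : ∀ (g : (P : Subgroup G)) (q : X), (g • q).1 = ((g : G) * q.1.1 * (g : G)⁻¹, (g : G) * q.1.2 * (g : G)⁻¹) := fun g q => rfl
  obtain ⟨A, hA, hsum⟩ := free_sum (E := (P : Subgroup G)) (X := X) (by
      intro g q hgq
      by_contra hg1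
      have hg1' : (g : G) ≠ 1 := fun h => hg1 (Subtype.ext h)
      have h1 : (g • q).1 = q.1 := congrArg Subtype.val hgq
      rw [hsm] at h1
      have h2 : (g : G) * q.1.1 * (g : G)⁻¹ = q.1.1 := congrArg Prod.fst h1
      have h3 : (g : G) * q.1.2 * (g : G)⁻¹ = q.1.2 := congrArg Prod.snd h1
      have c1 : (g : G) * q.1.1 = q.1.1 * g := mul_inv_eq_iff_eq_mul.mp h2
      have c2 : (g : G) * q.1.2 = q.1.2 * g := mul_inv_eq_iff_eq_mul.mp h3
      exact q.2.2 ⟨D.mem_Z hz hz1 q.2.1.1 g.2 hg1' c1, D.mem_Z hz' hz1' q.2.1.2 g.2 hg1' c2⟩)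
    (fun q => ψ (q.1.1 * q.1.2)) (by
      intro g q
      show ψ ((g • q).1.1 * (g • q).1.2) = _
      rw [hsm]
      show ψ ((g : G) * q.1.1 * (g : G)⁻¹ * ((g : G) * q.1.2 * (g : G)⁻¹)) = _
      have e : (g : G) * q.1.1 * (g : G)⁻¹ * ((g : G) * q.1.2 * (g : G)⁻¹) = (g : G) * (q.1.1 * q.1.2) * (g : G)⁻¹ := by group
      rw [e]
      exact irr_classFun hψ (q.1.1 * q.1.2) g)
    (fun q => char_isIntegral (irr_isCharacter hψ) _)
  refine ⟨A, hA, ?_⟩
  rw [← hsum, Finset.filter_filter]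
  exact (Finset.sum_subtype (p := fun q : G × G => (IsConj z q.1 ∧ IsConj z' q.2) ∧ ¬ (q.1 ∈ Z ∧ q.2 ∈ Z)) _ (fun q => by simp only [Finset.mem_filter, Finset.mem_univ, true_and]) _)

/-- a non-trivial element of `Z` is not conjugate to its inverse -/
theorem not_conj_inv {z : G} (hz : z ∈ Z) (hz1 : z ≠ 1) : ¬ IsConj z z⁻¹ := by
  intro h
  obtain ⟨g, hg⟩ := isConj_iff.mp h
  have hgN := D.fus (D.hZP hz) hz1 (g := g) (by rw [hg]; exact (P : Subgroup G).inv_mem (D.hZP hz))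
  -- `g` has odd order and inverts `z`
  have h1 : Odd (orderOf g) := by
    have h2 : orderOf g ∣ Nat.card (Subgroup.normalizer ((P : Subgroup G) : Set G)) := by
      have := orderOf_dvd_natCard (⟨g, hgN⟩ : Subgroup.normalizer ((P : Subgroup G) : Set G))
      rwa [Subgroup.orderOf_mk] at this
    exact Odd.of_dvd_nat D.hodd h2
  have h2 : ∀ n : ℕ, g ^ (2 * n) * z * (g ^ (2 * n))⁻¹ = z := by
    intro n
    induction n with
    | zero => simp
    | succ n ih =>
      have e : g ^ (2 * (n + 1)) = g * g * g ^ (2 * n) := by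
        rw [show 2 * (n + 1) = 1 + 1 + 2 * n by ring, pow_add, pow_add, pow_one]
      have e2 : g * g * g ^ (2 * n) * z * (g * g * g ^ (2 * n))⁻¹ = g * (g * (g ^ (2 * n) * z * (g ^ (2 * n))⁻¹) * g⁻¹) * g⁻¹ := by group
      rw [e, e2, ih, hg]
      have e3 : g * z⁻¹ * g⁻¹ = (g * z * g⁻¹)⁻¹ := by group
      rw [e3, hg, inv_inv]
  obtain ⟨n, hn⟩ := h1
  have h3 : z = z⁻¹ := by
    have e1 : g ^ (2 * n + 1) = 1 := by rw [← hn, pow_orderOf_eq_one]
    have e2 : g ^ (2 * n + 1) * z * (g ^ (2 * n + 1))⁻¹ = z⁻¹ := by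
      have : g ^ (2 * n + 1) = g * g ^ (2 * n) := by rw [pow_succ']
      rw [this]
      have e3 : g * g ^ (2 * n) * z * (g * g ^ (2 * n))⁻¹ = g * (g ^ (2 * n) * z * (g ^ (2 * n))⁻¹) * g⁻¹ := by group
      rw [e3, h2 n, hg]
    rw [e1] at e2
    simpa using e2
  have h4 : z * z = 1 := by
    nth_rewrite 1 [h3]; exact inv_mul_cancel z
  apply hz1
  have h5 : orderOf z ∣ 2 := orderOf_dvd_of_pow_eq_one (by rw [pow_two]; exact h4)
  have h6 : orderOf z ∣ Nat.card (Subgroup.normalizer ((P : Subgroup G) : Set G)) := by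
    have := orderOf_dvd_natCard (⟨z, Subgroup.le_normalizer (D.hZP hz)⟩ : Subgroup.normalizer ((P : Subgroup G) : Set G))
    rwa [Subgroup.orderOf_mk] at this
  rcases (Nat.dvd_prime Nat.prime_two).mp h5 with h | h
  · exact orderOf_eq_one_iff.mp h
  · rw [h] at h6
    exact absurd (even_iff_two_dvd.mpr h6) (Nat.not_even_iff_odd.mpr D.hodd)

/-- (6.7): the congruence -/
theorem congruence {ψ : G → ℂ} (hψ : IsIrrCharacter G ψ) (hconst : ∀ z ∈ Z, ∀ z' ∈ Z, z ≠ 1 → z' ≠ 1 → ψ z = ψ z') {z : G} (hz : z ∈ Z) (hz1 : z ≠ 1) :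
    ∃ n d : ℤ, ψ z = n ∧ ψ 1 = d ∧ (Nat.card (P : Subgroup G) : ℤ) ∣ d - n := by
  classical
  haveI : Fintype Z := Fintype.ofFinite _
  obtain ⟨d, hd0, hd⟩ := irr_one_nat hψ
  -- `ψ z` is rational
  have hchar := irr_isCharacter hψ
  obtain ⟨m, hm⟩ := char_mult (isCharacter_restrict hchar Z) (irr_isCharacter (isIrrCharacter_one (G := Z)))
  have hcardZ : 1 < Nat.card Z := by
    haveI : Nontrivial Z := ⟨⟨⟨z, hz⟩, 1, fun h => hz1 (congrArg Subtype.val h)⟩⟩
    exact Finite.one_lt_card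
  have hsumZ : (Nat.card Z : ℂ) * m = d + ((Nat.card Z : ℂ) - 1) * ψ z := by
    have h1 : classInner (fun x : Z => ψ x) (fun _ => 1) = (Nat.card Z : ℂ)⁻¹ * ∑ x : Z, ψ x := by
      rw [inner_one_right]
    rw [h1] at hm
    have hZ0 : (Nat.card Z : ℂ) ≠ 0 := by exact_mod_cast (by omega : Nat.card Z ≠ 0)
    have h2 : ∑ x : Z, ψ x = (Nat.card Z : ℂ) * m := by
      rw [← hm, mul_inv_cancel_left₀ hZ0]
    rw [← h2, ← Finset.add_sum_erase Finset.univ _ (Finset.mem_univ (1 : Z))]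
    have h3 : ∀ x ∈ Finset.univ.erase (1 : Z), ψ (x : G) = ψ z := by
      intro x hx
      rw [Finset.mem_erase] at hx
      exact hconst x x.2 z hz (fun h => hx.1 (Subtype.ext h)) hz1
    rw [Finset.sum_congr rfl h3, Finset.sum_const, Finset.card_erase_of_mem (Finset.mem_univ _), Finset.card_univ, ← Nat.card_eq_fintype_card, nsmul_eq_mul,
      Nat.cast_sub hcardZ.le, Nat.cast_one]
    show ψ 1 + _ = _
    rw [hd]
  have hrat : ∃ q : ℚ, ψ z = (q : ℂ) := by
    refine ⟨((Nat.card Z : ℚ) * m - d) / ((Nat.card Z : ℚ) - 1), ?_⟩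
    have h1 : ((Nat.card Z : ℂ) - 1) ≠ 0 := by
      rw [sub_ne_zero]
      exact_mod_cast hcardZ.ne'
    push_cast
    rw [eq_div_iff h1]
    linear_combination -hsumZ
  obtain ⟨q, hq⟩ := hrat
  obtain ⟨n, hn⟩ := CfsgLib.CharInt2.rat_isIntegral (by rw [← hq]; exact char_isIntegral hchar z)
  have hψz : ψ z = n := by rw [hq, ← hn]; simp
  refine ⟨n, d, hψz, by rw [hd]; simp, ?_⟩
  have hzi : z⁻¹ ∈ Z := Z.inv_mem hz
  have hzi1 : z⁻¹ ≠ 1 := inv_ne_one.mpr hz1
  have hψzi : ψ z⁻¹ = n := by rw [hconst z⁻¹ hzi z hz hzi1 hz1, hψz]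
  obtain ⟨A, hA, hAsum⟩ := D.outer_sum hψ hz hz1 hz hz1
  obtain ⟨B, hB, hBsum⟩ := D.outer_sum hψ hz hz1 hzi hzi1
  have e1 := class_prod hψ z z
  have e2 := class_prod hψ z z⁻¹
  have hcinv : Nat.card {x : G // IsConj z⁻¹ x} = Nat.card {x : G // IsConj z x} := by
    apply Nat.card_congr
    have key : ∀ x y : G, IsConj x y → IsConj x⁻¹ y⁻¹ := by
      intro x y h
      obtain ⟨g, hg⟩ := isConj_iff.mp h
      exact isConj_iff.mpr ⟨g, by rw [← hg]; group⟩
    refine ⟨fun x => ⟨(x : G)⁻¹, ?_⟩, fun x => ⟨(x : G)⁻¹, key _ _ x.2⟩, fun x => ?_, fun x => ?_⟩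
    · have := key _ _ x.2
      rwa [inv_inv] at this
    · apply Subtype.ext; simp
    · apply Subtype.ext; simp
  rw [hcinv, hψz, hψzi] at e2
  rw [hψz] at e1
  have e3 := e1.trans e2.symm
  rw [← Finset.sum_filter_add_sum_filter_not _ (fun q : G × G => q.1 ∈ Z ∧ q.2 ∈ Z), hAsum,
    ← Finset.sum_filter_add_sum_filter_not (Finset.univ.filter (fun q : G × G => IsConj z q.1 ∧ IsConj z⁻¹ q.2)) (fun q : G × G => q.1 ∈ Z ∧ q.2 ∈ Z), hBsum] at e3
  -- inner sums
  set T : Finset G := Finset.univ.filter (fun x : G => x ∈ Z ∧ IsConj z x) with hT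
  set c := T.card with hc
  have hTmem : ∀ x, x ∈ T ↔ x ∈ Z ∧ IsConj z x := by intro x; rw [hT, Finset.mem_filter]; simp only [Finset.mem_univ, true_and]
  have hTne : ∀ x ∈ T, x ≠ 1 := by
    intro x hx h
    have h1 := ((hTmem x).mp hx).2
    rw [h] at h1
    exact hz1 (isConj_one_left.mp h1)
  have key : ∀ x y : G, IsConj x y → IsConj x⁻¹ y⁻¹ := by
    intro x y h
    obtain ⟨g, hg⟩ := isConj_iff.mp h
    exact isConj_iff.mpr ⟨g, by rw [← hg]; group⟩
  have i1 : ∑ q ∈ (Finset.univ.filter (fun q : G × G => IsConj z q.1 ∧ IsConj z q.2)).filter (fun q : G × G => q.1 ∈ Z ∧ q.2 ∈ Z), ψ (q.1 * q.2) = (c : ℂ) * c * n := by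
    have hset : (Finset.univ.filter (fun q : G × G => IsConj z q.1 ∧ IsConj z q.2)).filter (fun q : G × G => q.1 ∈ Z ∧ q.2 ∈ Z) = T ×ˢ T := by
      ext q
      simp only [Finset.mem_filter, Finset.mem_univ, true_and, Finset.mem_product, hTmem]
      tauto
    rw [hset]
    have h1 : ∀ q ∈ T ×ˢ T, ψ (q.1 * q.2) = n := by
      intro q hq
      obtain ⟨h2, h3⟩ := Finset.mem_product.mp hq
      obtain ⟨h4, h5⟩ := (hTmem _).mp h2
      obtain ⟨h6, h7⟩ := (hTmem _).mp h3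
      have h8 : q.1 * q.2 ≠ 1 := by
        intro h
        have h9 : q.2 = q.1⁻¹ := eq_inv_of_mul_eq_one_right h
        have h10 : IsConj z q.1⁻¹ := h9 ▸ h7
        have h11 : IsConj z⁻¹ q.1⁻¹ := key _ _ h5
        exact D.not_conj_inv hz hz1 (h10.trans h11.symm)
      rw [hconst _ (Z.mul_mem h4 h6) z hz h8 hz1, hψz]
    rw [Finset.sum_congr rfl h1, Finset.sum_const, Finset.card_product, nsmul_eq_mul, Nat.cast_mul]
  have i2 : ∑ q ∈ (Finset.univ.filter (fun q : G × G => IsConj z q.1 ∧ IsConj z⁻¹ q.2)).filter (fun q : G × G => q.1 ∈ Z ∧ q.2 ∈ Z), ψ (q.1 * q.2) =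
      (c : ℂ) * (d + (c - 1) * n) := by
    have hset : (Finset.univ.filter (fun q : G × G => IsConj z q.1 ∧ IsConj z⁻¹ q.2)).filter (fun q : G × G => q.1 ∈ Z ∧ q.2 ∈ Z) =
        T ×ˢ (T.image (fun x => x⁻¹)) := by
      ext q
      simp only [Finset.mem_filter, Finset.mem_univ, true_and, Finset.mem_product, hTmem, Finset.mem_image]
      constructor
      · rintro ⟨⟨h1, h2⟩, h3, h4⟩
        refine ⟨⟨h3, h1⟩, q.2⁻¹, ⟨Z.inv_mem h4, ?_⟩, inv_inv _⟩
        have := key _ _ h2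
        rwa [inv_inv] at this
      · rintro ⟨⟨h1, h2⟩, y, ⟨h3, h4⟩, h5⟩
        refine ⟨⟨h2, ?_⟩, h1, ?_⟩
        · rw [← h5]; exact key _ _ h4
        · rw [← h5]; exact Z.inv_mem h3
    rw [hset, Finset.sum_product]
    have h1 : ∀ x ∈ T, ∑ y ∈ T.image (fun x => x⁻¹), ψ (x * y) = d + (c - 1) * n := by
      intro x hx
      have hxi : x⁻¹ ∈ T.image (fun x => x⁻¹) := Finset.mem_image_of_mem _ hx
      rw [← Finset.add_sum_erase _ _ hxi, mul_inv_cancel, hd]
      have h2 : ∀ y ∈ (T.image (fun x => x⁻¹)).erase x⁻¹, ψ (x * y) = n := by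
        intro y hy
        obtain ⟨h3, h4⟩ := Finset.mem_erase.mp hy
        obtain ⟨w, hw, hwy⟩ := Finset.mem_image.mp h4
        have h5 : y ∈ Z := by rw [← hwy]; exact Z.inv_mem ((hTmem w).mp hw).1
        have h6 : x * y ≠ 1 := fun h => h3 (eq_inv_of_mul_eq_one_right h)
        rw [hconst _ (Z.mul_mem ((hTmem x).mp hx).1 h5) z hz h6 hz1, hψz]
      have hcard : (T.image (fun x => x⁻¹)).card = c := Finset.card_image_of_injective _ inv_injective
      have hcpos : 1 ≤ c := Finset.card_pos.mpr ⟨x, hx⟩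
      rw [Finset.sum_congr rfl h2, Finset.sum_const, Finset.card_erase_of_mem hxi, hcard, nsmul_eq_mul, Nat.cast_sub hcpos, Nat.cast_one]
    rw [Finset.sum_congr rfl h1, Finset.sum_const, nsmul_eq_mul]
  rw [i1, i2] at e3
  -- `c (d - n) = |P| (A - B)`
  have e4 : ((c * (d - n) : ℤ) : ℂ) = (Nat.card (P : Subgroup G) : ℂ) * (A - B) := by
    push_cast
    linear_combination -e3
  have hP0 : (Nat.card (P : Subgroup G) : ℂ) ≠ 0 := by exact_mod_cast Nat.card_pos.ne'
  have e5 : IsIntegral ℤ ((((c * (d - n) : ℤ) : ℚ) / (Nat.card (P : Subgroup G) : ℚ) : ℚ) : ℂ) := by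
    have : ((((c * (d - n) : ℤ) : ℚ) / (Nat.card (P : Subgroup G) : ℚ) : ℚ) : ℂ) = A - B := by
      have h1 : ((((c * (d - n) : ℤ) : ℚ) / (Nat.card (P : Subgroup G) : ℚ) : ℚ) : ℂ) = ((c * (d - n) : ℤ) : ℂ) / (Nat.card (P : Subgroup G) : ℂ) := by
        push_cast; rfl
      rw [h1, e4]
      field_simp
    rw [this]
    exact hA.sub hB
  obtain ⟨k, hk⟩ := CfsgLib.CharInt2.rat_isIntegral e5
  have hP0' : (Nat.card (P : Subgroup G) : ℚ) ≠ 0 := by exact_mod_cast Nat.card_pos.ne'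
  have e6 : (k : ℤ) * Nat.card (P : Subgroup G) = c * (d - n) := by
    rw [eq_div_iff hP0'] at hk
    exact_mod_cast hk
  have hcop : IsCoprime (Nat.card (P : Subgroup G) : ℤ) (c : ℤ) := by
    rw [Nat.isCoprime_iff_coprime]
    obtain ⟨r, hr⟩ := (IsPGroup.iff_card (p := p) (G := P)).mp P.isPGroup'
    have hr' : Nat.card (P : Subgroup G) = p ^ r := hr
    rw [hr']
    exact Nat.Coprime.pow_left r ((Nat.Prime.coprime_iff_not_dvd hp.out).mpr (D.card_coprime hz hz1))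
  apply hcop.dvd_of_dvd_mul_left
  rw [← e6]
  exact Dvd.intro_left _ rfl

end TIData
end CfsgLib.Coh
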