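import Cfsg.Agent.LibCharIndA
import Cfsg.Agent.LibCharNorm
/-!
# Brauer's permutation lemma (helper16)
-/
set_option autoImplicit false
set_option linter.all false
open scoped ComplexConjugate
open Cfsg
namespace CfsgLib.PermLemma
open CfsgLib.CharBasic CfsgLib.CharNorm

universe u v

section
variable {G : Type u} [Group G] [Finite G]

/-- averaging over classes -/
theorem sum_centralizer_class [Fintype G] [Fintype (ConjClasses G)] (F : ConjClasses G → ℂ) :
    ∑ g : G, F (ConjClasses.mk g) * (Nat.card (Subgroup.centralizer ({g} : Set G)) : ℂ) =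
      (Nat.card G : ℂ) * ∑ C : ConjClasses G, F C := by
  classical
  rw [← Finset.sum_fiberwise (s := Finset.univ) (g := fun g : G => ConjClasses.mk g), Finset.mul_sum]
  refine Finset.sum_congr rfl fun C _ => ?_
  obtain ⟨g, rfl⟩ := ConjClasses.exists_rep C
  have h1 : ∀ x ∈ Finset.univ.filter (fun x : G => ConjClasses.mk x = ConjClasses.mk g),
      F (ConjClasses.mk x) * (Nat.card (Subgroup.centralizer ({x} : Set G)) : ℂ) =
      F (ConjClasses.mk g) * (Nat.card (Subgroup.centralizer ({g} : Set G)) : ℂ) := by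
    intro x hx
    rw [Finset.mem_filter] at hx
    have hc : IsConj x g := ConjClasses.mk_eq_mk_iff_isConj.mp hx.2
    rw [hx.2]
    congr 2
    have hA := card_class_mul_card_centralizer x
    have hB := card_class_mul_card_centralizer g
    have hcard : Nat.card {y : G // IsConj x y} = Nat.card {y : G // IsConj g y} := by
      apply Nat.card_congr
      exact Equiv.subtypeEquivRight fun y => ⟨fun h1 => hc.symm.trans h1, fun h1 => hc.trans h1⟩
    rw [hcard, ← hB] at hA
    have hpos : 0 < Nat.card {y : G // IsConj g y} := by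
      haveI : Nonempty {y : G // IsConj g y} := ⟨⟨g, IsConj.refl g⟩⟩
      exact Nat.card_pos
    exact Nat.eq_of_mul_eq_mul_left hpos hA
  rw [Finset.sum_congr rfl h1, Finset.sum_const, nsmul_eq_mul]
  have h2 : (Finset.univ.filter (fun x : G => ConjClasses.mk x = ConjClasses.mk g)).card = Nat.card {x : G // IsConj g x} := by
    rw [Nat.card_eq_fintype_card, Fintype.card_subtype]
    congr 1
    ext x
    simp only [Finset.mem_filter, Finset.mem_univ, true_and]
    rw [ConjClasses.mk_eq_mk_iff_isConj, isConj_comm]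
  rw [h2]
  have h3 : ((Nat.card {x : G // IsConj g x} : ℕ) : ℂ) * (Nat.card (Subgroup.centralizer ({g} : Set G)) : ℂ) = Nat.card G := by
    exact_mod_cast card_class_mul_card_centralizer g
  rw [← h3]; ring

/-- Brauer's permutation lemma, general form -/
theorem brauer_perm (σ : ConjClasses G → ConjClasses G) (π : IrrCharacter G → IrrCharacter G)
    (h : ∀ (χ : IrrCharacter G) (g g' : G), ConjClasses.mk g' = σ (ConjClasses.mk g) → (π χ : G → ℂ) g = (χ : G → ℂ) g') :
    Nat.card {χ : IrrCharacter G // π χ = χ} = Nat.card {C : ConjClasses G // σ C = C} := by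
  classical
  haveI := Fintype.ofFinite G
  haveI : Fintype (ConjClasses G) := Fintype.ofFinite _
  have h1 : (Nat.card {χ : IrrCharacter G // π χ = χ} : ℂ) = ∑ χ : IrrCharacter G, classInner (π χ : G → ℂ) χ := by
    rw [Nat.card_eq_fintype_card, Fintype.card_subtype, ← Finset.sum_boole]
    refine Finset.sum_congr rfl fun χ _ => ?_
    rw [irr_inner (π χ).2 χ.2]
    by_cases hc : π χ = χ
    · rw [if_pos hc, if_pos (congrArg Subtype.val hc)]
    · rw [if_neg hc, if_neg (fun h => hc (Subtype.ext h))]
  have h2 : ∑ χ : IrrCharacter G, classInner (π χ : G → ℂ) χ = ∑ C : ConjClasses G, if σ C = C then (1:ℂ) else 0 := by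
    simp only [classInner]
    rw [← Finset.mul_sum, Finset.sum_comm]
    have h3 : ∀ g : G, ∑ χ : IrrCharacter G, (π χ : G → ℂ) g * conj ((χ : G → ℂ) g) =
        (if σ (ConjClasses.mk g) = ConjClasses.mk g then (1:ℂ) else 0) * (Nat.card (Subgroup.centralizer ({g} : Set G)) : ℂ) := by
      intro g
      obtain ⟨g', hg'⟩ := ConjClasses.exists_rep (σ (ConjClasses.mk g))
      rw [Finset.sum_congr rfl fun χ _ => by rw [h χ g g' hg']]
      rw [column_orthogonality g' g, ← hg']
      by_cases hc : IsConj g' g
      · rw [if_pos hc, if_pos (ConjClasses.mk_eq_mk_iff_isConj.mpr hc), one_mul]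
        have hA := card_class_mul_card_centralizer g
        have hB := card_class_mul_card_centralizer g'
        have hcard : Nat.card {y : G // IsConj g' y} = Nat.card {y : G // IsConj g y} := by
          apply Nat.card_congr
          exact Equiv.subtypeEquivRight fun y => ⟨fun h1 => hc.symm.trans h1, fun h1 => hc.trans h1⟩
        rw [hcard, ← hA] at hB
        have hpos : 0 < Nat.card {y : G // IsConj g y} := by
          haveI : Nonempty {y : G // IsConj g y} := ⟨⟨g, IsConj.refl g⟩⟩
          exact Nat.card_pos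
        rw [Nat.eq_of_mul_eq_mul_left hpos hB]
      · rw [if_neg hc, if_neg (fun h => hc (ConjClasses.mk_eq_mk_iff_isConj.mp h)), zero_mul]
    rw [Finset.sum_congr rfl fun g _ => h3 g, sum_centralizer_class (fun C => if σ C = C then (1:ℂ) else 0), ← mul_assoc]
    have hG : (Nat.card G : ℂ) ≠ 0 := by exact_mod_cast Nat.card_pos.ne'
    rw [inv_mul_cancel₀ hG, one_mul]
  have h4 : (Nat.card {C : ConjClasses G // σ C = C} : ℂ) = ∑ C : ConjClasses G, if σ C = C then (1:ℂ) else 0 := by
    rw [Nat.card_eq_fintype_card, Fintype.card_subtype, ← Finset.sum_boole]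
  have h5 : (Nat.card {χ : IrrCharacter G // π χ = χ} : ℂ) = (Nat.card {C : ConjClasses G // σ C = C} : ℂ) := by
    rw [h1, h2, h4]
  exact_mod_cast h5

/-- a real-valued irreducible character of a group of odd order is trivial -/
theorem real_irr_odd (hodd : Odd (Nat.card G)) {χ : G → ℂ} (hχ : IsIrrCharacter G χ) (hreal : ∀ g, conj (χ g) = χ g) :
    χ = fun _ => 1 := by
  classical
  haveI := Fintype.ofFinite G
  by_contra hne
  have h1 := irr_inner_ne hχ isIrrCharacter_one hne
  rw [inner_one_right] at h1
  have hG : (Nat.card G : ℂ) ≠ 0 := by exact_mod_cast Nat.card_pos.ne'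
  have h2 : ∑ g : G, χ g = 0 := (mul_eq_zero.mp h1).resolve_left (inv_ne_zero hG)
  -- pair up g and g⁻¹
  have hinv : ∀ g : G, χ g⁻¹ = χ g := fun g => by rw [char_inv_eq_conj (irr_isCharacter hχ), hreal]
  have hno : ∀ g : G, g ≠ 1 → g⁻¹ ≠ g := by
    intro g hg h
    have h3 : g ^ 2 = 1 := by
      rw [sq]; nth_rw 1 [← h]; exact inv_mul_cancel g
    have h4 : orderOf g ∣ 2 := orderOf_dvd_of_pow_eq_one h3
    have h5 : orderOf g ∣ Nat.card G := orderOf_dvd_natCard g
    have h6 : orderOf g = 1 := by
      have := Nat.dvd_gcd h4 h5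
      rw [Nat.Coprime.gcd_eq_one] at this
      · exact Nat.dvd_one.mp this
      · exact Nat.coprime_two_left.mpr hodd
    exact hg (orderOf_eq_one_iff.mp h6)
  -- sum over nonidentity = 2 * alg int
  have h3 : ∃ ω : ℂ, IsIntegral ℤ ω ∧ ∑ g ∈ Finset.univ.erase (1 : G), χ g = 2 * ω := by
    -- partition by strong induction on inverse-closed sets
    have key : ∀ (n : ℕ) (s : Finset G), s.card = n → (1 : G) ∉ s → (∀ g ∈ s, g⁻¹ ∈ s) →
        ∃ ω : ℂ, IsIntegral ℤ ω ∧ ∑ g ∈ s, χ g = 2 * ω := by
      intro n
      induction n using Nat.strong_induction_on with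
      | _ n ih =>
        intro s hs h1s hinvs
        rcases s.eq_empty_or_nonempty with h | ⟨g, hg⟩
        · exact ⟨0, isIntegral_zero, by simp [h]⟩
        · have hg1 : g ≠ 1 := fun h => h1s (h ▸ hg)
          have hne' := hno g hg1
          have hg' := hinvs g hg
          let t := (s.erase g).erase g⁻¹
          have hmem : g⁻¹ ∈ s.erase g := Finset.mem_erase.mpr ⟨hne', hg'⟩
          have hcard : t.card < n := by
            have e1 := Finset.card_erase_of_mem hmem
            have e2 := Finset.card_erase_of_mem hg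
            have : 0 < s.card := Finset.card_pos.mpr ⟨g, hg⟩
            change ((s.erase g).erase g⁻¹).card < n
            omega
          obtain ⟨ω, hω, hsum⟩ := ih _ hcard t rfl (fun h => h1s (Finset.mem_of_mem_erase (Finset.mem_of_mem_erase h)))
            (by
              intro x hx
              have hx1 := Finset.ne_of_mem_erase hx
              have hx2 := Finset.ne_of_mem_erase (Finset.mem_of_mem_erase hx)
              have hx3 := Finset.mem_of_mem_erase (Finset.mem_of_mem_erase hx)
              refine Finset.mem_erase.mpr ⟨fun h => hx2 (inv_injective h), Finset.mem_erase.mpr ⟨fun h => hx1 ?_, hinvs x hx3⟩⟩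
              rw [← h, inv_inv])
          refine ⟨χ g + ω, (char_isIntegral (irr_isCharacter hχ) g).add hω, ?_⟩
          rw [← Finset.add_sum_erase s _ hg, ← Finset.add_sum_erase (s.erase g) _ hmem, hinv]
          change χ g + (χ g + ∑ x ∈ t, χ x) = _
          rw [hsum]; ring
    exact key _ _ rfl (by simp) (by
      intro g hg
      exact Finset.mem_erase.mpr ⟨fun h => Finset.ne_of_mem_erase hg (inv_eq_one.mp h), Finset.mem_univ _⟩)
  obtain ⟨ω, hω, hsum⟩ := h3
  rw [← Finset.add_sum_erase _ _ (Finset.mem_univ (1 : G)), hsum] at h2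
  obtain ⟨d, hd0, hd⟩ := irr_one_nat hχ
  rw [hd] at h2
  have h4 : ((d : ℕ) : ℂ) / ((2 : ℕ) : ℂ) = -ω := by
    push_cast
    linear_combination h2 / 2
  have h5 : 2 ∣ d := CfsgLib.CharInt2.div_isIntegral two_ne_zero (h4 ▸ hω.neg)
  have h6 := CfsgLib.CharInt2.charDegree_dvd_card hχ
  have h7 := CfsgLib.CharInt.irr_one_eq_charDegree hχ
  rw [hd] at h7
  have h8 : d = charDegree χ := by exact_mod_cast h7
  rw [← h8] at h6
  exact (Nat.not_even_iff_odd.mpr hodd) (even_iff_two_dvd.mpr (h5.trans h6))

end

end CfsgLib.PermLemma
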