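import Cfsg.Agent.EqBase
import Cfsg.Agent.LibTI
import Cfsg.Agent.LibClifford2
import Cfsg.Agent.LibCharMore
import Cfsg.Agent.LibPermLemma
import Cfsg.Agent.LibSolvNilp
import Cfsg.Agent.LibCoh3
/-!
# Frobenius groups through their kernel (helper16): `K` normal and `C(k) ≤ K` for `1 ≠ k ∈ K`
-/
set_option autoImplicit false
set_option linter.all false
open Cfsg CfsgLib.CharBasic CfsgLib.CharIndA CfsgLib.CharNorm CfsgLib.Clifford
open scoped ComplexConjugate Pointwise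
namespace CfsgLib.FrobK

universe u v
section General
variable {Γ : Type u} [Group Γ] [Fintype Γ] {K : Subgroup Γ}

theorem fpf (hC : ∀ k ∈ K, k ≠ 1 → Subgroup.centralizer ({k} : Set Γ) ≤ K) :
    ∀ x : Γ, x ∉ K → ∀ k ∈ K, x * k = k * x → k = 1 := by
  intro x hx k hk hxk
  by_contra hk1
  apply hx
  apply hC k hk hk1
  rw [Subgroup.mem_centralizer_iff]
  intro y hy
  rw [Set.mem_singleton_iff.mp hy]; exact hxk.symm

/-- if g ∉ K and the centralizer condition holds then only the trivial class is fixed -/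
theorem fixed_trivial (hN : K.Normal) (g : Γ) (hg : g ∉ K)
    (hfpf : ∀ x : Γ, x ∉ K → ∀ k ∈ K, x * k = k * x → k = 1) (τ : K → ℂ) (hτ : IsIrrCharacter K τ)
    (hinv : cj hN g τ = τ) : τ = fun _ => 1 := by
  classical
  haveI := Fintype.ofFinite K
  let α : K ≃* K := (MulAut.conjNormal g : MulAut K)
  let π : IrrCharacter K → IrrCharacter K := fun χ => ⟨_, isIrrCharacter_comp_equiv χ.2 α⟩
  have h := CfsgLib.PermLemma.brauer_perm (ConjClasses.map α.toMonoidHom) π (by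
    intro χ x x' hx
    exact (isClassFunction_iff_mem.mp (irr_classFun χ.2) x' (α x) (ConjClasses.mk_eq_mk_iff_isConj.mp hx)).symm)
  have h1 : Nat.card {C : ConjClasses K // ConjClasses.map α.toMonoidHom C = C} = 1 := by
    rw [Nat.card_eq_one_iff_exists]
    refine ⟨⟨ConjClasses.mk 1, by
      change ConjClasses.mk (α 1) = _
      rw [map_one]⟩, ?_⟩
    rintro ⟨C, hC⟩
    apply Subtype.ext
    obtain ⟨k, rfl⟩ := ConjClasses.exists_rep C
    change ConjClasses.mk (α k) = ConjClasses.mk k at hC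
    rw [ConjClasses.mk_eq_mk_iff_isConj, isConj_iff] at hC
    obtain ⟨c, hc⟩ := hC
    have hc' : (c : Γ) * (g * k * g⁻¹) * (c : Γ)⁻¹ = k := congrArg Subtype.val hc
    have h2 : ((c : Γ) * g) * k = k * ((c : Γ) * g) := by
      calc ((c : Γ) * g) * k = ((c : Γ) * (g * k * g⁻¹) * (c : Γ)⁻¹) * (c * g) := by group
        _ = k * ((c : Γ) * g) := by rw [hc']
    have h3 : (c : Γ) * g ∉ K := fun h => hg (by
      have := K.mul_mem (K.inv_mem c.2) h
      simpa using this)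
    have h4 := hfpf _ h3 k k.2 h2
    have h5 : k = 1 := Subtype.ext h4
    exact congrArg ConjClasses.mk h5
  rw [h1, Nat.card_eq_one_iff_exists] at h
  obtain ⟨χ0, hχ0⟩ := h
  have e1 : (⟨⟨τ, hτ⟩, Subtype.ext (by rw [cj_eq_comp] at hinv; exact hinv)⟩ : {χ : IrrCharacter K // π χ = χ}) = χ0 := hχ0 _
  have e2 : (⟨⟨_, isIrrCharacter_one⟩, Subtype.ext rfl⟩ : {χ : IrrCharacter K // π χ = χ}) = χ0 := hχ0 _
  exact congrArg (fun x => (x.1 : K → ℂ)) (e1.trans e2.symm)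

theorem inertia_eq (hN : K.Normal)
    (hfpf : ∀ x : Γ, x ∉ K → ∀ k ∈ K, x * k = k * x → k = 1) (τ : K → ℂ) (hτ : IsIrrCharacter K τ)
    (hτ1 : τ ≠ fun _ => 1) : inertia hN τ = K := by
  haveI := Fintype.ofFinite K
  apply le_antisymm
  · intro g hg
    by_contra hgK
    exact hτ1 (fixed_trivial hN g hgK hfpf τ hτ hg)
  · exact le_inertia hN (irr_classFun hτ)

/-- induced character from Frobenius kernel -/
theorem ind_irr (hN : K.Normal)
    (hfpf : ∀ x : Γ, x ∉ K → ∀ k ∈ K, x * k = k * x → k = 1) (τ : K → ℂ) (hτ : IsIrrCharacter K τ)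
    (hτ1 : τ ≠ fun _ => 1) : IsIrrCharacter Γ (indFun K τ) := by
  haveI := Fintype.ofFinite K
  have hin := inertia_eq hN hfpf τ hτ hτ1
  rw [irr_iff_norm_one]
  refine ⟨CfsgLib.CharIndA.isCharacter_ind K (irr_isCharacter hτ), ?_⟩
  rw [ci_ind_self hN hτ, hin]
  have hK : (Nat.card K : ℂ) ≠ 0 := by exact_mod_cast Nat.card_pos.ne'
  exact inv_mul_cancel₀ hK

/-- irreducible characters not containing `K` in the kernel -/
def Rel (K : Subgroup Γ) (χ : Γ → ℂ) : Prop := IsIrrCharacter Γ χ ∧ ∃ k ∈ K, χ k ≠ χ 1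

theorem rel_exists (hN : K.Normal) (hfpf : ∀ x : Γ, x ∉ K → ∀ k ∈ K, x * k = k * x → k = 1) {χ : Γ → ℂ} (h : Rel K χ) :
    ∃ θ : K → ℂ, IsIrrCharacter K θ ∧ (θ ≠ fun _ => 1) ∧ χ = indFun K θ := by
  classical
  haveI := Fintype.ofFinite K
  obtain ⟨hχ, k, hk, hne⟩ := h
  obtain ⟨θ, hθ, hc⟩ := exists_below K hχ
  have hθ1 : θ ≠ fun _ => 1 := by
    intro h1
    have h2 := restrict_of_invariant hN hχ hθ (fun g => by rw [h1]; rfl) hc
    have h3 : χ k = classInner (fun h : K => χ h) θ * 1 := by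
      have := congrFun h2 ⟨k, hk⟩
      rw [Pi.smul_apply, smul_eq_mul] at this
      rw [h1] at this ⊢
      exact this
    have h4 : χ 1 = classInner (fun h : K => χ h) θ * 1 := by
      have := congrFun h2 1
      rw [Pi.smul_apply, smul_eq_mul] at this
      rw [h1] at this ⊢
      exact this
    exact hne (h3.trans h4.symm)
  refine ⟨θ, hθ, hθ1, ?_⟩
  by_contra hne2
  have h5 := irr_inner_ne (ind_irr hN hfpf θ hθ hθ1) hχ (Ne.symm hne2)
  rw [CharIndA.frobenius K θ (irr_classFun hχ)] at h5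
  exact hc (ci_zero_comm h5)

theorem rel_ind (hN : K.Normal) (hfpf : ∀ x : Γ, x ∉ K → ∀ k ∈ K, x * k = k * x → k = 1) {θ : K → ℂ}
    (hθ : IsIrrCharacter K θ) (hθ1 : θ ≠ fun _ => 1) : Rel K (indFun K θ) := by
  classical
  haveI := Fintype.ofFinite K
  refine ⟨ind_irr hN hfpf θ hθ hθ1, ?_⟩
  by_contra hcon
  push Not at hcon
  have h1 : (fun k : K => indFun K θ k) = (indFun K θ 1) • (fun _ => 1) := by
    ext k
    rw [Pi.smul_apply, smul_eq_mul, mul_one]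
    exact hcon k k.2
  have h2 : classInner (fun k : K => indFun K θ k) θ ≠ 0 := by
    have h3 := CharIndA.frobenius K θ (irr_classFun (ind_irr hN hfpf θ hθ hθ1))
    rw [irr_inner_self (ind_irr hN hfpf θ hθ hθ1)] at h3
    intro h4
    rw [ci_zero_comm h4] at h3
    exact one_ne_zero h3
  apply h2
  rw [h1, ci_smul_l, irr_inner_ne isIrrCharacter_one hθ (Ne.symm hθ1), mul_zero]

theorem rel_off (hN : K.Normal) (hfpf : ∀ x : Γ, x ∉ K → ∀ k ∈ K, x * k = k * x → k = 1) {χ : Γ → ℂ} (h : Rel K χ)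
    {g : Γ} (hg : g ∉ K) : χ g = 0 := by
  obtain ⟨θ, -, -, rfl⟩ := rel_exists hN hfpf h
  exact ind_eq_zero_off hN θ hg

theorem not_rel {χ : Γ → ℂ} (hχ : IsIrrCharacter Γ χ) (h : ¬ Rel K χ) : ∀ k ∈ K, χ k = χ 1 := by
  intro k hk
  by_contra hne
  exact h ⟨hχ, k, hk, hne⟩

/-- the order of `K` is prime to its index -/
theorem coprime (hN : K.Normal) (hC : ∀ k ∈ K, k ≠ 1 → Subgroup.centralizer ({k} : Set Γ) ≤ K) :
    Nat.Coprime (Nat.card K) K.index := by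
  rw [Nat.coprime_iff_gcd_eq_one]
  by_contra hne
  obtain ⟨p, hp, hpd⟩ := Nat.exists_prime_and_dvd hne
  haveI := Fact.mk hp
  have h1 : p ∣ Nat.card K := hpd.trans (Nat.gcd_dvd_left _ _)
  have h2 : p ∣ K.index := hpd.trans (Nat.gcd_dvd_right _ _)
  obtain ⟨P⟩ : Nonempty (Sylow p Γ) := inferInstance
  -- `P ⊓ K ≠ ⊥`
  have hpPK : ¬ (P : Subgroup Γ) ⊓ K = ⊥ := by
    intro hbot
    obtain ⟨k, hk⟩ := exists_prime_orderOf_dvd_card' (G := K) p h1
    have hkp : IsPGroup p (Subgroup.zpowers (k : Γ)) := IsPGroup.of_card (n := 1) (by rw [Nat.card_zpowers, Subgroup.orderOf_coe, hk, pow_one])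
    obtain ⟨Q, hQ⟩ := hkp.exists_le_sylow
    obtain ⟨g, hg⟩ := MulAction.exists_smul_eq Γ Q P
    have h3 : g * k * g⁻¹ ∈ (P : Subgroup Γ) := by
      rw [← hg]
      exact Subgroup.smul_mem_pointwise_smul (k : Γ) (MulAut.conj g) (Q : Subgroup Γ) (hQ (Subgroup.mem_zpowers _))
    have h4 : g * k * g⁻¹ ∈ (P : Subgroup Γ) ⊓ K := ⟨h3, hN.conj_mem _ k.2 g⟩
    rw [hbot, Subgroup.mem_bot] at h4
    have h5 : (k : Γ) = 1 := by
      have : (k : Γ) = g⁻¹ * (g * k * g⁻¹) * g := by group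
      rw [this, h4]; group
    have h6 : k = 1 := Subtype.ext h5
    rw [h6, orderOf_one] at hk
    exact hp.one_lt.ne hk
  haveI hNP : (K.subgroupOf (P : Subgroup Γ)).Normal := inferInstance
  have hbot : K.subgroupOf (P : Subgroup Γ) ≠ ⊥ := by
    intro h3
    rw [Subgroup.subgroupOf_eq_bot, disjoint_iff, inf_comm] at h3
    exact hpPK h3
  -- a central element of `P` in `K`
  have hex : ∃ z : (P : Subgroup Γ), z ≠ 1 ∧ (z : Γ) ∈ K ∧ z ∈ Subgroup.center (P : Subgroup Γ) := by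
    haveI : Group.IsNilpotent (P : Subgroup Γ) := P.isPGroup'.isNilpotent
    have h3 := CfsgLib.SolvNilp.inf_center_ne_bot _ hbot
    obtain ⟨z, hz, hz1⟩ := (Subgroup.bot_or_exists_ne_one _).resolve_left h3
    exact ⟨z, hz1, Subgroup.mem_subgroupOf.mp hz.1, hz.2⟩
  obtain ⟨z, hz1, hzK, hzc⟩ := hex
  have hPK : (P : Subgroup Γ) ≤ K := by
    have hz1' : (z : Γ) ≠ 1 := fun h => hz1 (Subtype.ext h)
    refine le_trans ?_ (hC z hzK hz1')
    intro y hy
    rw [Subgroup.mem_centralizer_iff]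
    intro w hw
    rw [Set.mem_singleton_iff.mp hw]
    have := Subgroup.mem_center_iff.mp hzc ⟨y, hy⟩
    exact (congrArg Subtype.val this).symm
  exact P.not_dvd_index (h2.trans (Subgroup.index_dvd_of_le hPK))

/-- elements whose order is prime to the index lie in the normal subgroup -/
theorem mem_of_order (hN : K.Normal) {x : Γ} (h : Nat.Coprime (orderOf x) K.index) : x ∈ K := by
  rw [← QuotientGroup.eq_one_iff, ← orderOf_eq_one_iff]
  have h1 : orderOf (x : Γ ⧸ K) ∣ orderOf x := orderOf_map_dvd (QuotientGroup.mk' K) x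
  have h2 : orderOf (x : Γ ⧸ K) ∣ K.index := by
    rw [Subgroup.index_eq_card]; exact orderOf_dvd_natCard _
  exact Nat.eq_one_of_dvd_coprimes h h1 h2

/-- a class function whose inner products with the relevant characters are proportional to their degrees is constant
on `K \ {1}` -/
theorem const_of_prop {f : Γ → ℂ} (hf : IsClassFunction Γ f) (c : ℂ) (hc : ∀ η : Γ → ℂ, Rel K η → classInner f η = c * η 1)
    {k : Γ} (hk : k ∈ K) (hk1 : k ≠ 1) :
    f k = ∑ᶠ η ∈ {η : IrrCharacter Γ | ¬ Rel K (η : Γ → ℂ)}, (classInner f (η : Γ → ℂ) - c * (η : Γ → ℂ) 1) * (η : Γ → ℂ) 1 := by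
  classical
  rw [finsum_mem_def, finsum_eq_sum_of_fintype, classFun_expand_apply hf k]
  have h0 := sum_degree_mul k hk1
  have h1 : ∑ η : IrrCharacter Γ, classInner f (η : Γ → ℂ) * (η : Γ → ℂ) k =
      ∑ η : IrrCharacter Γ, (classInner f (η : Γ → ℂ) - c * (η : Γ → ℂ) 1) * (η : Γ → ℂ) k := by
    have : ∑ η : IrrCharacter Γ, (classInner f (η : Γ → ℂ) - c * (η : Γ → ℂ) 1) * (η : Γ → ℂ) k =
        ∑ η : IrrCharacter Γ, classInner f (η : Γ → ℂ) * (η : Γ → ℂ) k - c * ∑ η : IrrCharacter Γ, (η : Γ → ℂ) 1 * (η : Γ → ℂ) k := by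
      rw [Finset.mul_sum, ← Finset.sum_sub_distrib]
      exact Finset.sum_congr rfl fun η _ => by ring
    rw [this, h0, mul_zero, sub_zero]
  rw [h1]
  refine Finset.sum_congr rfl fun η _ => ?_
  rw [Set.indicator_apply]
  by_cases hr : Rel K (η : Γ → ℂ)
  · rw [if_neg (fun h => h hr), hc _ hr, sub_self, zero_mul]
  · rw [if_pos (show η ∈ {η : IrrCharacter Γ | ¬ Rel K (η : Γ → ℂ)} from hr), not_rel η.2 hr k hk]

end General

section Tifn
variable {G : Type u} [Group G] [Fintype G] {K : Subgroup G}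

local notation "NK" => Subgroup.normalizer (K : Set G)
local notation "K'" => Subgroup.subgroupOf K (Subgroup.normalizer (K : Set G))

theorem normal' : (K').Normal := inferInstance

theorem hC' (hC : ∀ k ∈ K, k ≠ 1 → Subgroup.centralizer ({k} : Set G) ≤ K) :
    ∀ k ∈ K', k ≠ 1 → Subgroup.centralizer ({k} : Set ↥(NK)) ≤ K' := by
  intro k hk hk1 x hx
  rw [Subgroup.mem_subgroupOf] at hk ⊢
  apply hC k hk (fun h => hk1 (Subtype.ext h))
  rw [Subgroup.mem_centralizer_iff] at hx ⊢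
  intro y hy
  rw [Set.mem_singleton_iff.mp hy]
  exact congrArg Subtype.val (hx k rfl)

theorem hTI' (hTI : ∀ g : G, g ∉ NK → ∀ k ∈ K, g * k * g⁻¹ ∈ K → k = 1) :
    ∀ g : G, g ∉ NK → ∀ s ∈ {x : G | x ∈ K ∧ x ≠ 1}, g * s * g⁻¹ ∉ {x : G | x ∈ K ∧ x ≠ 1} :=
  fun g hg s hs h => hs.2 (hTI g hg s hs.1 h.1)

/-- S0850, first part -/
theorem not_conj (hTI : ∀ g : G, g ∉ NK → ∀ k ∈ K, g * k * g⁻¹ ∈ K → k = 1)
    (hC : ∀ k ∈ K, k ≠ 1 → Subgroup.centralizer ({k} : Set G) ≤ K) {x : G} (hx : x ∈ NK) (hxK : x ∉ K) (g : G) :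
    g * x * g⁻¹ ∉ K := by
  haveI := Fintype.ofFinite ↥(NK)
  intro h
  apply hxK
  have h1 := coprime (Γ := ↥(NK)) (K := K') normal' (hC' hC)
  have h2 : (⟨x, hx⟩ : ↥(NK)) ∈ K' := by
    apply mem_of_order normal'
    apply Nat.Coprime.coprime_dvd_left _ h1
    rw [Subgroup.orderOf_mk]
    have h3 : orderOf (g * x * g⁻¹) = orderOf x := MulEquiv.orderOf_eq (MulAut.conj g) x
    rw [← h3]
    have h4 := orderOf_dvd_natCard (⟨g * x * g⁻¹, h⟩ : K)
    rw [Subgroup.orderOf_mk] at h4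
    have h5 : Nat.card K' = Nat.card K := Nat.card_congr (Subgroup.subgroupOfEquivOfLe (Subgroup.le_normalizer)).toEquiv
    rw [h5]; exact h4
  exact Subgroup.mem_subgroupOf.mp h2

/-- S0850, second part -/
theorem ind_eq (hTI : ∀ g : G, g ∉ NK → ∀ k ∈ K, g * k * g⁻¹ ∈ K → k = 1)
    (hC : ∀ k ∈ K, k ≠ 1 → Subgroup.centralizer ({k} : Set G) ≤ K) {ϑ : ↥(NK) → ℂ} (hϑ : IsClassFunction ↥(NK) ϑ)
    (hoff : ∀ x : ↥(NK), (x : G) ∉ K → ϑ x = 0) (h1 : ϑ 1 = 0) (x : ↥(NK)) : indFun (NK) ϑ x = ϑ x := by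
  classical
  by_cases hx1 : x = 1
  · rw [hx1, h1]
    have : indFun (NK) ϑ ((1 : ↥(NK)) : G) = indFun (NK) ϑ 1 := rfl
    rw [this, ind_one, h1, mul_zero]
  by_cases hxK : (x : G) ∈ K
  · apply CfsgLib.TI.ind_apply_ti (hTI' hTI) hϑ
    · intro y hy
      by_cases h2 : (y : G) ∈ K
      · have : y = 1 := by
          by_contra h3
          exact hy ⟨h2, fun h => h3 (Subtype.ext h)⟩
        rw [this, h1]
      · exact hoff y h2
    · exact ⟨hxK, fun h => hx1 (Subtype.ext h)⟩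
  · rw [hoff x hxK, ind_apply, Finset.sum_eq_zero, mul_zero]
    intro y _
    by_cases hm : y⁻¹ * x * y ∈ NK
    · rw [ext_mem _ _ hm]
      apply hoff
      have := not_conj hTI hC x.2 hxK y⁻¹
      simpa using this
    · exact ext_not_mem _ _ hm

/-- isometry -/
theorem ind_isom (hTI : ∀ g : G, g ∉ NK → ∀ k ∈ K, g * k * g⁻¹ ∈ K → k = 1) [Fintype ↥(NK)]
    {φ ψ : ↥(NK) → ℂ} (hψ : IsClassFunction ↥(NK) ψ) (hφ0 : ∀ x : ↥(NK), (x : G) ∉ K → φ x = 0) (hφ1 : φ 1 = 0)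
    (hψ0 : ∀ x : ↥(NK), (x : G) ∉ K → ψ x = 0) (hψ1 : ψ 1 = 0) :
    classInner (indFun (NK) φ) (indFun (NK) ψ) = classInner φ ψ := by
  have key : ∀ φ : ↥(NK) → ℂ, (∀ x : ↥(NK), (x : G) ∉ K → φ x = 0) → φ 1 = 0 → ∀ x : ↥(NK), (x : G) ∉ {x : G | x ∈ K ∧ x ≠ 1} → φ x = 0 := by
    intro φ h0 h1 x hx
    by_cases h2 : (x : G) ∈ K
    · have : x = 1 := by
        by_contra h3
        exact hx ⟨h2, fun h => h3 (Subtype.ext h)⟩
      rw [this, h1]
    · exact h0 x h2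
  exact CfsgLib.TI.ind_isom_ti (hTI' hTI) hψ (key φ hφ0 hφ1) (key ψ hψ0 hψ1)

open CfsgLib.Coh

section Star

theorem comb_mem [Fintype ↥(NK)] {S : Set (↥(NK) → ℂ)} {star : (↥(NK) → ℂ) → (G → ℂ)} (hstar : IsLinearIsometryOn (zspan S) star)
    {ξ η : ↥(NK) → ℂ} (hξ : ξ ∈ S) (hη : η ∈ S) {a b : ℕ} (ha : ξ 1 = a) (hb : η 1 = b) :
    (b : ℤ) • ξ - (a : ℤ) • η ∈ zspanOn S ({1}ᶜ : Set ↥(NK)) ∧ star ((b : ℤ) • ξ - (a : ℤ) • η) = (b : ℤ) • star ξ - (a : ℤ) • star η := by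
  refine ⟨mem_z1.mpr ⟨z_minus (z_smul _ (z_sub hξ)) (z_smul _ (z_sub hη)), ?_⟩, ?_⟩
  · rw [Pi.sub_apply, Pi.smul_apply, Pi.smul_apply, ha, hb, zsmul_eq_mul, zsmul_eq_mul]; push_cast; ring
  · rw [iso_sub zm_span hstar (z_smul _ (z_sub hξ)) (z_smul _ (z_sub hη)), iso_smul hstar (z_sub hξ), iso_smul hstar (z_sub hη)]

/-- proportionality of inner products -/
theorem prop_of [Fintype ↥(NK)] {S : Set (↥(NK) → ℂ)} (hS : ∀ χ, χ ∈ S ↔ Rel K' χ)
    {star : (↥(NK) → ℂ) → (G → ℂ)} (hstar : IsLinearIsometryOn (zspan S) star)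
    (hext : ∀ α ∈ zspanOn S ({1}ᶜ : Set ↥(NK)), star α = indFun (NK) α) {F : G → ℂ} (hF : IsClassFunction G F) {f : ↥(NK) → ℂ}
    (h : ∀ α ∈ zspanOn S ({1}ᶜ : Set ↥(NK)), classInner F (star α) = classInner f α)
    {ξ₀ : ↥(NK) → ℂ} (hξ₀ : ξ₀ ∈ S) : ∃ c : ℂ, (∀ η, Rel K' η → classInner ((fun x : ↥(NK) => F x) - f) η = c * η 1) ∧
      c = classInner ((fun x : ↥(NK) => F x) - f) ξ₀ / ξ₀ 1 := by
  refine ⟨_, fun η hη => ?_, rfl⟩
  have hηS : η ∈ S := (hS η).mpr hη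
  obtain ⟨a, ha0, ha⟩ := irr_one_nat ((hS ξ₀).mp hξ₀).1
  obtain ⟨b, hb0, hb⟩ := irr_one_nat hη.1
  obtain ⟨m1, -⟩ := comb_mem hstar hξ₀ hηS ha hb
  have h1 := h _ m1
  rw [hext _ m1, CharIndA.frobenius' (NK) _ hF] at h1
  have h2 : classInner ((fun x : ↥(NK) => F x) - f) ((b : ℤ) • ξ₀ - (a : ℤ) • η) = 0 := by
    rw [ci_sub_l, h1, sub_self]
  rw [ci_sub_r, ci_zsmul_r, ci_zsmul_r] at h2
  have ha' : (a : ℂ) ≠ 0 := by exact_mod_cast ha0.ne'
  rw [ha, hb]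
  field_simp
  push_cast at h2
  linear_combination -h2

end Star

end Tifn

end CfsgLib.FrobK
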