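import Cfsg.Statements.S1514
import Cfsg.Agent.LibCoh

set_option autoImplicit false
set_option linter.all false
open Cfsg

namespace Cfsg.Agent.S1514

open CfsgLib.CharBasic CfsgLib.CharIndA CfsgLib.CharNorm CfsgLib.Coh CfsgLib.Sgn

/-- Let S be a nonempty set of irreducible characters of the finite group L, closed under complex conjugation and containing no real-valued member, and τ a linear isometry on the integer combinations of S vanishing at 1, with values virtual characters of G vanishing at 1. Then there is a choice R making (S, τ, R) a coherence system. -/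
theorem result {L : Type*} [Group L] [Fintype L] {G : Type*} [Group G] [Fintype G] (S : Set (L → ℂ)) (hS : S.Nonempty) (hirr : ∀ χ ∈ S, Cfsg.IsIrrCharacter L χ) (hconj : ∀ χ ∈ S, Cfsg.conjFun χ ∈ S ∧ Cfsg.conjFun χ ≠ χ) (τ : (L → ℂ) → (G → ℂ)) (hτ : Cfsg.IsLinearIsometryOn (Cfsg.zspanOn S {1}ᶜ) τ) (hτ1 : ∀ α ∈ Cfsg.zspanOn S {1}ᶜ, τ α 1 = 0) : ∃ R : (L → ℂ) → Finset (G → ℂ), Cfsg.IsCoherenceSystem S τ R := by
  classical
  have hE := zm_on (X := L) (S := S)
  have hmem : ∀ χ ∈ S, χ - Cfsg.conjFun χ ∈ Cfsg.zspanOn S {1}ᶜ := by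
    intro χ hχ
    rw [mem_z1]
    refine ⟨z_minus (z_sub hχ) (z_sub (hconj χ hχ).1), ?_⟩
    obtain ⟨n, -, hn⟩ := irr_one_nat (hirr χ hχ)
    simp only [Pi.sub_apply, Cfsg.conjFun, hn]
    simp
  have hex : ∀ χ : L → ℂ, ∃ α β : G → ℂ, χ ∈ S → IsIrrCharacter G α ∧ IsIrrCharacter G β ∧ α ≠ β ∧ τ (χ - Cfsg.conjFun χ) = α - β := by
    intro χ
    by_cases hχ : χ ∈ S
    · have h1 := iso_gen hτ (hmem χ hχ)
      have h2 := iso_inner hτ (hmem χ hχ) (hmem χ hχ)
      have hne := (hconj χ hχ).2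
      have hi1 := hirr χ hχ
      have hi2 := hirr _ (hconj χ hχ).1
      rw [CfsgLib.Exc.diff_inner hi1 hi2 hi1 hi2, if_pos rfl, if_pos rfl, if_neg hne.symm, if_neg hne] at h2
      obtain ⟨α, β, hα, hβ, hαβ, he⟩ := CfsgLib.Exc.gen_norm_two_zero h1 (by rw [h2]; norm_num) (hτ1 _ (hmem χ hχ))
      exact ⟨α, β, fun _ => ⟨hα, hβ, hαβ, he⟩⟩
    · exact ⟨0, 0, fun h => absurd h hχ⟩
  choose a b hab using hex
  refine ⟨fun χ => {a χ, -(b χ)}, ?_⟩
  have hne' : ∀ χ ∈ S, a χ ≠ -(b χ) := by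
    intro χ hχ h
    obtain ⟨h1, h2, h3, h4⟩ := hab χ hχ
    obtain ⟨m, hm, hm'⟩ := irr_one_nat h1
    obtain ⟨n, hn, hn'⟩ := irr_one_nat h2
    have := congrFun h 1
    rw [Pi.neg_apply, hm', hn'] at this
    have h5 : ((m + n : ℕ) : ℂ) = 0 := by push_cast; rw [this]; ring
    have h6 : m + n = 0 := by exact_mod_cast h5
    omega
  have key : ∀ {α β γ δ : G → ℂ}, IsIrrCharacter G α → IsIrrCharacter G β → IsIrrCharacter G γ → IsIrrCharacter G δ → α ≠ β → γ ≠ δ →
      classInner (α - β) (γ - δ) = 0 → classInner α γ = 0 ∧ classInner α δ = 0 ∧ classInner β γ = 0 ∧ classInner β δ = 0 := by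
    intro α β γ δ hα hβ hγ hδ h1 h2 h3
    rw [CfsgLib.Exc.diff_inner hα hβ hγ hδ] at h3
    by_cases c1 : α = γ
    · subst c1
      rw [if_pos rfl, if_neg h2, if_neg h1.symm] at h3
      exfalso
      by_cases c2 : β = δ
      · rw [if_pos c2] at h3; norm_num at h3
      · rw [if_neg c2] at h3; norm_num at h3
    · by_cases c2 : β = δ
      · subst c2
        rw [if_neg c1, if_pos rfl, if_neg h1, if_neg h2.symm] at h3
        norm_num at h3
      · rw [if_neg c1, if_neg c2] at h3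
        by_cases c3 : α = δ
        · exfalso
          rw [if_pos c3] at h3
          by_cases c4 : β = γ
          · rw [if_pos c4] at h3; norm_num at h3
          · rw [if_neg c4] at h3; norm_num at h3
        · by_cases c4 : β = γ
          · exfalso
            rw [if_neg c3, if_pos c4] at h3; norm_num at h3
          · exact ⟨irr_inner_ne hα hγ c1, irr_inner_ne hα hδ c3, irr_inner_ne hβ hγ c4, irr_inner_ne hβ hδ c2⟩
  refine ⟨hS, fun χ hχ => CfsgLib.CharBasic.irr_isCharacter (hirr χ hχ), fun χ hχ => (hconj χ hχ).1, fun χ hχ => (hconj χ hχ).2, hτ, hτ1,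
    fun χ hχ φ hφ hne => irr_inner_ne (hirr χ hχ) (hirr φ hφ) hne, ?_, ?_, ?_, ?_⟩
  · intro χ hχ α hα β hβ
    obtain ⟨h1, h2, h3, h4⟩ := hab χ hχ
    rw [Finset.mem_insert, Finset.mem_singleton] at hα hβ
    rcases hα with rfl | rfl <;> rcases hβ with rfl | rfl
    · rw [if_pos rfl, irr_inner_self h1]
    · rw [if_neg (hne' χ hχ), ci_neg_r, irr_inner_ne h1 h2 h3, neg_zero]
    · rw [if_neg (hne' χ hχ).symm, ci_neg_l, irr_inner_ne h2 h1 h3.symm, neg_zero]
    · rw [if_pos rfl, ci_neg_l, ci_neg_r, irr_inner_self h2, neg_neg]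
  · intro χ hχ α hα
    obtain ⟨h1, h2, h3, h4⟩ := hab χ hχ
    rw [Finset.mem_insert, Finset.mem_singleton] at hα
    rcases hα with rfl | rfl
    · exact gen_of_irr h1
    · exact gen_neg (gen_of_irr h2)
  · intro χ hχ
    obtain ⟨h1, h2, h3, h4⟩ := hab χ hχ
    rw [Finset.sum_pair (hne' χ hχ), h4, sub_eq_add_neg]
  · intro χ hχ φ hφ h1 h2 α hα β hβ
    obtain ⟨a1, a2, a3, a4⟩ := hab χ hχ
    obtain ⟨b1, b2, b3, b4⟩ := hab φ hφ
    have h3 : classInner (a φ - b φ) (a χ - b χ) = 0 := by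
      have hφχ : φ ≠ χ := by
        rintro rfl
        rw [irr_inner_self (hirr φ hφ)] at h1
        exact one_ne_zero h1
      have hφχ' : φ ≠ Cfsg.conjFun χ := by
        intro he
        rw [← he, irr_inner_self (hirr φ hφ)] at h2
        exact one_ne_zero h2
      have cc : ∀ χ : L → ℂ, Cfsg.conjFun (Cfsg.conjFun χ) = χ := by
        intro χ; ext x; simp [Cfsg.conjFun]
      have h4 : Cfsg.conjFun φ ≠ χ := by
        intro he; apply hφχ'; rw [← he, cc]
      have h5 : Cfsg.conjFun φ ≠ Cfsg.conjFun χ := by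
        intro he; apply hφχ; rw [← cc φ, he, cc]
      rw [← a4, ← b4, iso_inner hτ (hmem φ hφ) (hmem χ hχ), CfsgLib.Exc.diff_inner (hirr φ hφ) (hirr _ (hconj φ hφ).1) (hirr χ hχ)
        (hirr _ (hconj χ hχ).1), if_neg hφχ, if_neg h5, if_neg hφχ', if_neg h4]
      ring
    obtain ⟨k1, k2, k3, k4⟩ := key b1 b2 a1 a2 b3 a3 h3
    rw [Finset.mem_insert, Finset.mem_singleton] at hα hβ
    rcases hα with rfl | rfl <;> rcases hβ with rfl | rfl
    · exact k1
    · rw [ci_neg_r, k2, neg_zero]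
    · rw [ci_neg_l, k3, neg_zero]
    · rw [ci_neg_l, ci_neg_r, k4, neg_neg]

end Cfsg.Agent.S1514
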