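import Cfsg.Agent.EqBase
import Cfsg.Agent.LibCoh11
import Cfsg.Agent.LibFrobK
import Cfsg.Agent.LibPermLemma
import Cfsg.Agent.S1514
/-!
# Coherence of odd Frobenius groups with TI kernel (helper16)
-/
set_option autoImplicit false
set_option linter.all false
open Cfsg CfsgLib.CharBasic CfsgLib.CharIndA CfsgLib.CharNorm CfsgLib.Sgn CfsgLib.Clifford
open scoped ComplexConjugate
namespace CfsgLib.Coh

universe u v

section Glue
variable {L : Type u} [Group L] [Fintype L] {G : Type v} [Group G] [Fintype G]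

/-- coherence from a single image -/
theorem glue {S' : Set (L → ℂ)} {τ : (L → ℂ) → (G → ℂ)} (hirr : ∀ φ ∈ S', IsIrrCharacter L φ) (hτ : IsLinearIsometryOn (zspanOn S' {1}ᶜ) τ)
    {lam : L → ℂ} (hlam : lam ∈ S') (b : (L → ℂ) → ℕ) (hb : ∀ φ ∈ S', φ 1 = b φ * lam 1) {ν : G → ℂ} (hν : IsGeneralizedCharacter G ν)
    (hνν : classInner ν ν = 1) (h : ∀ φ ∈ S', φ ≠ lam → classInner (τ (φ - (b φ : ℤ) • lam)) ν = -(b φ : ℂ)) (hne : ∃ φ ∈ S', φ ≠ lam) :
    IsCoherent S' {1}ᶜ τ := by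
  classical
  have hlam1 : lam 1 ≠ 0 := irr_one_ne_zero (hirr lam hlam)
  have hblam : b lam = 1 := by
    have h1 := hb lam hlam
    have h2 : (b lam : ℂ) = 1 := by
      have h3 : ((b lam : ℂ) - 1) * lam 1 = 0 := by linear_combination -h1
      have := (mul_eq_zero.mp h3).resolve_right hlam1
      linear_combination this
    exact_mod_cast h2
  have m : ∀ φ ∈ S', φ - (b φ : ℤ) • lam ∈ zspanOn S' {1}ᶜ := by
    intro φ hφ
    rw [mem_z1]
    refine ⟨z_minus (z_sub hφ) (z_smul _ (z_sub hlam)), ?_⟩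
    rw [Pi.sub_apply, Pi.smul_apply, hb φ hφ, zsmul_eq_mul]
    push_cast; ring
  have hself : ∀ φ ∈ S', classInner φ φ = 1 := fun φ hφ => irr_inner_self (hirr φ hφ)
  have horth : ∀ φ ∈ S', ∀ ψ ∈ S', φ ≠ ψ → classInner φ ψ = 0 := fun φ hφ ψ hψ hne => irr_inner_ne (hirr φ hφ) (hirr ψ hψ) hne
  -- inner products with `ν`
  have hν' : ∀ φ ∈ S', classInner (τ (φ - (b φ : ℤ) • lam)) ν = classInner (φ - (b φ : ℤ) • lam) lam := by
    intro φ hφ
    by_cases he : φ = lam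
    · rw [he, hblam]
      have : lam - ((1 : ℕ) : ℤ) • lam = 0 := by simp
      rw [this, iso_zero zm_on hτ, ci_zero_l, ci_zero_l]
    · rw [h φ hφ he, ci_sub_l, ci_zsmul_l, horth φ hφ lam hlam he, hself lam hlam]
      push_cast; ring
  obtain ⟨τ₂, t1, t2⟩ := build (S := S') (G := G) horth (fun φ hφ => by rw [hself φ hφ]; exact one_ne_zero)
    (fun φ => τ (φ - (b φ : ℤ) • lam) + (b φ : ℤ) • ν)
    (fun φ hφ => gen_add (iso_gen hτ (m φ hφ)) (gen_zsmul hν _))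
    (by
      intro φ hφ ψ hψ
      beta_reduce
      have e1 := hν' φ hφ
      have e2 : classInner ν (τ (ψ - (b ψ : ℤ) • lam)) = classInner lam (ψ - (b ψ : ℤ) • lam) := by
        rw [← ci_conj, hν' ψ hψ, ci_conj]
      rw [ci_add_l, ci_add_r, ci_add_r, ci_zsmul_l, ci_zsmul_l, ci_zsmul_r, ci_zsmul_r, iso_inner hτ (m φ hφ) (m ψ hψ), hνν, e1, e2]
      rw [ci_sub_l, ci_sub_r, ci_sub_r, ci_sub_l, ci_zsmul_l, ci_zsmul_l, ci_zsmul_r, ci_zsmul_r, ci_sub_r, ci_zsmul_r, ci_zsmul_l, hself lam hlam]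
      push_cast; ring)
  have hag : IsLinearIsometryOn (zspan ({lam} : Set (L → ℂ))) (fun α => classInner α lam • ν) := by
    refine ⟨fun α hα β hβ => ?_, fun α hα n => ?_, fun α hα β hβ => ?_, fun α hα => ?_⟩
    · beta_reduce; rw [ci_add_l, add_smul]
    · beta_reduce; rw [ci_zsmul_l, mul_smul, zsmul_eq]
    · beta_reduce
      obtain ⟨i, rfl⟩ := Submodule.mem_span_singleton.mp (show α ∈ Submodule.span ℤ {lam} from hα)
      obtain ⟨j, rfl⟩ := Submodule.mem_span_singleton.mp (show β ∈ Submodule.span ℤ {lam} from hβ)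
      rw [ci_smul_l, ci_smul_r, ci_zsmul_l, ci_zsmul_l, ci_zsmul_l, ci_zsmul_r, hself lam hlam, hνν]
      simp
    · beta_reduce
      obtain ⟨i, rfl⟩ := Submodule.mem_span_singleton.mp (show α ∈ Submodule.span ℤ {lam} from hα)
      rw [ci_zsmul_l, hself lam hlam, mul_one, ← zsmul_eq]
      exact gen_zsmul hν i
  refine ⟨?_, τ₂, t1, agree (S₁ := {lam}) (τ₁ := fun α => classInner α lam • ν) (Set.singleton_subset_iff.mpr hlam) hτ hag ?_ t1 ?_⟩
  · obtain ⟨φ, hφ, hne'⟩ := hne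
    refine ⟨_, m φ hφ, fun h0 => ?_⟩
    have h1 := congrArg (fun f => classInner f φ) h0
    beta_reduce at h1
    rw [ci_sub_l, ci_zsmul_l, hself φ hφ, horth lam hlam φ hφ (Ne.symm hne'), mul_zero, sub_zero, ci_zero_l] at h1
    exact one_ne_zero h1
  · intro β hβ
    obtain ⟨k1, k2⟩ := mem_z1.mp hβ
    obtain ⟨i, hi⟩ := Submodule.mem_span_singleton.mp (show β ∈ Submodule.span ℤ {lam} from k1)
    have : β = 0 := by
      rw [← hi, Pi.smul_apply, zsmul_eq_mul] at k2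
      have h3 := (mul_eq_zero.mp k2).resolve_right hlam1
      have h4 : i = 0 := by exact_mod_cast h3
      rw [← hi, h4, zero_smul]
    rw [this, iso_zero zm_on hτ]
    beta_reduce
    rw [ci_zero_l, zero_smul]
  · intro φ hφ
    refine ⟨(b φ : ℤ) • lam, z_smul _ (z_sub (Set.mem_singleton lam)), ?_, ?_⟩
    · rw [Pi.smul_apply, hb φ hφ, zsmul_eq_mul]; push_cast; rfl
    · rw [t2 φ hφ]
      beta_reduce
      rw [ci_zsmul_l, hself lam hlam, mul_one, ← zsmul_eq, add_comm]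

end Glue

section Setup
variable {G : Type v} [Group G] [Fintype G] {H L : Subgroup G} [Fintype L]

/-- an odd Frobenius group with TI kernel `H` and `L = N(H)` -/
structure Odd' (H L : Subgroup G) : Prop where
  hodd : Odd (Nat.card L)
  hHL : H < L
  hH1 : H ≠ ⊥
  hnil : Group.IsNilpotent H
  hHn : ∀ x ∈ L, ∀ h ∈ H, x * h * x⁻¹ ∈ H
  hC : ∀ h ∈ H, h ≠ 1 → ∀ x ∈ L, x * h = h * x → x ∈ H
  hTI : ∀ g : G, g ∉ L → ∀ h ∈ H, g * h * g⁻¹ ∈ H → h = 1

namespace Odd'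
variable (D : Odd' H L)
include D

theorem normal : (H.subgroupOf L).Normal := ⟨fun n hn g => D.hHn g g.2 n hn⟩

theorem cent : ∀ k ∈ H.subgroupOf L, k ≠ 1 → Subgroup.centralizer ({k} : Set L) ≤ H.subgroupOf L := by
  intro k hk hk1 x hx
  rw [Subgroup.mem_centralizer_singleton_iff] at hx
  exact D.hC k hk (fun h => hk1 (Subtype.ext h)) x x.2 (congrArg Subtype.val hx)

theorem fpf : ∀ x : L, x ∉ H.subgroupOf L → ∀ k ∈ H.subgroupOf L, x * k = k * x → k = 1 := CfsgLib.FrobK.fpf D.cent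

theorem lt_top : H.subgroupOf L < ⊤ := by
  rw [lt_top_iff_ne_top]
  intro h
  rw [Subgroup.subgroupOf_eq_top] at h
  exact absurd h (not_le_of_gt D.hHL)

theorem nil : Group.IsNilpotent (H.subgroupOf L) := by
  haveI := D.hnil
  exact Group.nilpotent_of_mulEquiv (Subgroup.subgroupOfEquivOfLe D.hHL.le).symm

theorem solv : Group.IsSolvable (H.subgroupOf L) := by
  haveI := D.nil
  infer_instance

theorem ne_bot : H.subgroupOf L ≠ ⊥ := by
  intro h
  apply D.hH1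
  rw [Subgroup.subgroupOf_eq_bot, disjoint_iff, inf_eq_left.mpr D.hHL.le] at h
  exact h

theorem irr : ∀ φ ∈ inducedIrrAbove (H.subgroupOf L) ⊥, IsIrrCharacter L φ := by
  rintro φ ⟨θ, h1, h2, -, rfl⟩
  exact CfsgLib.FrobK.ind_irr D.normal D.fpf θ h1 h2

theorem conj_ne : ∀ φ ∈ inducedIrrAbove (H.subgroupOf L) ⊥, conjFun φ ≠ φ := by
  rintro φ hφ h
  have h1 := CfsgLib.PermLemma.real_irr_odd D.hodd (D.irr φ hφ) (fun g => congrFun h g)
  obtain ⟨θ, h2, h3, -, rfl⟩ := hφ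
  -- the trivial character does not vanish off `K`
  obtain ⟨x, -, hx⟩ := SetLike.exists_of_lt D.lt_top
  have h4 := ind_eq_zero_off D.normal θ hx
  rw [h1] at h4
  exact one_ne_zero h4

theorem off {φ : L → ℂ} (hφ : φ ∈ zspan (inducedIrrAbove (H.subgroupOf L) ⊥)) {x : L} (hx : (x : G) ∉ H) : φ x = 0 := by
  refine z_ind (p := fun φ => φ x = 0) hφ ?_ rfl ?_ ?_
  · rintro φ ⟨θ, h2, h3, -, rfl⟩
    exact ind_eq_zero_off D.normal θ hx
  · intro a b _ _ h1 h2
    rw [Pi.add_apply, h1, h2, add_zero]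
  · intro n a _ h1
    rw [Pi.smul_apply, h1, smul_zero]

theorem cl {φ : L → ℂ} (hφ : φ ∈ zspan (inducedIrrAbove (H.subgroupOf L) ⊥)) : IsClassFunction L φ := by
  refine z_ind (p := fun φ => IsClassFunction L φ) hφ ?_ ?_ ?_ ?_
  · intro φ hφ; exact irr_classFun (D.irr φ hφ)
  · intro g h; rfl
  · intro a b _ _ h1 h2
    exact fun g h => by rw [Pi.add_apply, Pi.add_apply, h1, h2]
  · intro n a _ h1
    exact fun g h => by rw [Pi.smul_apply, Pi.smul_apply, h1]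

theorem gen {φ : L → ℂ} (hφ : φ ∈ zspan (inducedIrrAbove (H.subgroupOf L) ⊥)) : IsGeneralizedCharacter L φ := by
  refine z_ind (p := fun φ => IsGeneralizedCharacter L φ) hφ ?_ ?_ ?_ ?_
  · intro φ hφ; exact gen_of_char (irr_isCharacter (D.irr φ hφ))
  · exact gen_zero
  · intro a b _ _ h1 h2; exact gen_add h1 h2
  · intro n a _ h1; exact gen_zsmul h1 n

theorem isom : IsLinearIsometryOn (zspanOn (inducedIrrAbove (H.subgroupOf L) ⊥) {1}ᶜ) (fun α : L → ℂ => indFun L α) := by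
  have hs : ∀ α ∈ zspanOn (inducedIrrAbove (H.subgroupOf L) ⊥) {1}ᶜ, ∀ x : L, (x : G) ∉ {x : G | x ∈ H ∧ x ≠ 1} → α x = 0 := by
    intro α hα x hx
    obtain ⟨h1, h2⟩ := mem_z1.mp hα
    by_cases hxH : (x : G) ∈ H
    · have hx1 : (x : G) = 1 := by
        by_contra h; exact hx ⟨hxH, h⟩
      have : x = 1 := Subtype.ext hx1
      rw [this, h2]
    · exact D.off h1 hxH
  refine ⟨fun α _ β _ => ind_add L α β, fun α _ n => ?_, fun α hα β hβ => ?_, fun α hα => gen_ind L (D.gen (mem_z1.mp hα).1)⟩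
  · beta_reduce
    rw [zsmul_eq, ind_smul, zsmul_eq]
  · beta_reduce
    exact CfsgLib.TI.ind_isom_ti (S := {x : G | x ∈ H ∧ x ≠ 1}) (fun g hg s hs h => hs.2 (D.hTI g hg s hs.1 h.1)) (D.cl (mem_z1.mp hβ).1) (hs α hα) (hs β hβ)

theorem exists_R : ∃ R : (L → ℂ) → Finset (G → ℂ), IsCoherenceSystem (inducedIrrAbove (H.subgroupOf L) ⊥) (fun α : L → ℂ => indFun L α) R := by
  have hne : (inducedIrrAbove (H.subgroupOf L) (⊥ : Subgroup L)).Nonempty := by
    obtain ⟨θ, -, -, -, -, h⟩ := ia_nonempty D.solv (A := (⊥ : Subgroup L)) inferInstance (bot_lt_iff_ne_bot.mpr D.ne_bot)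
    exact ⟨_, h⟩
  exact Cfsg.Agent.S1514.result _ hne D.irr (fun χ hχ => ⟨ia_conj hχ, D.conj_ne χ hχ⟩) _ D.isom (fun α hα => by
    beta_reduce
    rw [CharIndA.ind_one, (mem_z1.mp hα).2, mul_zero])

/-- the quotient by the commutator subgroup is again Frobenius -/
theorem frob_quot {A : Subgroup L} (hA : A.Normal) (hAK : A ≤ H.subgroupOf L) :
    ∀ k ∈ H.subgroupOf L, k ∉ A → ∀ x : L, x * k * x⁻¹ * k⁻¹ ∈ A → x ∈ H.subgroupOf L := by
  intro k hk hkA x hx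
  by_contra hxK
  apply hkA
  let f : A → A := fun u => ⟨x * u * x⁻¹ * (u : L)⁻¹, A.mul_mem (hA.conj_mem u u.2 x) (A.inv_mem u.2)⟩
  have key : ∀ u w : L, u ∈ H.subgroupOf L → w ∈ H.subgroupOf L → x * u * x⁻¹ * u⁻¹ = x * w * x⁻¹ * w⁻¹ → u = w := by
    intro u w hu hw h
    have h2 : x * (w⁻¹ * u) = (w⁻¹ * u) * x := by
      have h3 : x * (w⁻¹ * u) = (x * w * x⁻¹)⁻¹ * (x * u * x⁻¹ * u⁻¹) * u * x := by group
      rw [h3, h]; group
    have h3 := D.fpf x hxK _ ((H.subgroupOf L).mul_mem ((H.subgroupOf L).inv_mem hw) hu) h2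
    exact (inv_mul_eq_one.mp h3).symm
  have hf : Function.Injective f := by
    intro u w huw
    exact Subtype.ext (key u w (hAK u.2) (hAK w.2) (congrArg Subtype.val huw))
  obtain ⟨u, hu⟩ := Finite.surjective_of_injective hf ⟨_, hx⟩
  have h1 : x * u * x⁻¹ * (u : L)⁻¹ = x * k * x⁻¹ * k⁻¹ := congrArg Subtype.val hu
  rw [← key u k (hAK u.2) hk h1]
  exact u.2

end Odd'
end Setup
end CfsgLib.Coh
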