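import Cfsg.Agent.EqBase
import Cfsg.Agent.LibCoh12
/-!
# Merging two coherent sets (helper16)
-/
set_option autoImplicit false
set_option linter.all false
open Cfsg CfsgLib.CharBasic CfsgLib.CharIndA CfsgLib.CharNorm CfsgLib.Sgn CfsgLib.Clifford
open scoped ComplexConjugate
namespace CfsgLib.Coh

universe u v

section Merge
variable {L : Type u} [Group L] [Fintype L] {G : Type v} [Group G] [Fintype G]

theorem gen_comb (c : IrrCharacter G → ℤ) : IsGeneralizedCharacter G (∑ ψ : IrrCharacter G, (c ψ : ℂ) • (ψ : G → ℂ)) :=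
  gen_sum _ _ (fun ψ _ => by
    have := gen_zsmul (gen_of_irr ψ.2) (c ψ)
    rw [zsmul_eq] at this
    exact this)

theorem gen_self_nat {θ : G → ℂ} (h : IsGeneralizedCharacter G θ) : ∃ n : ℕ, classInner θ θ = n := by
  obtain ⟨m, hm⟩ := gen_inner_int h h
  obtain ⟨h1, h2⟩ := self_real θ
  rw [hm] at h2
  have h3 : 0 ≤ m := by
    have : ((m : ℂ)).re = (m : ℝ) := by simp
    rw [this] at h2
    exact_mod_cast h2
  exact ⟨m.toNat, by rw [hm]; exact_mod_cast (congrArg (fun z : ℤ => (z : ℂ)) (Int.toNat_of_nonneg h3)).symm⟩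

/-- a generalized character all of whose multiplicities are divisible by `a` -/
theorem gen_div {θ : G → ℂ} (hθ : IsGeneralizedCharacter G θ) (a : ℕ) (h : ∀ ψ : G → ℂ, IsIrrCharacter G ψ → ∃ k : ℤ, classInner θ ψ = a * k) :
    ∃ Γ : G → ℂ, IsGeneralizedCharacter G Γ ∧ θ = (a : ℂ) • Γ := by
  classical
  choose k hk using fun ψ : IrrCharacter G => h ψ ψ.2
  refine ⟨_, gen_comb k, ?_⟩
  rw [Finset.smul_sum]
  conv_lhs => rw [classFun_expand (gen_classFun hθ)]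
  refine Finset.sum_congr rfl (fun ψ _ => ?_)
  rw [hk ψ, mul_smul]

theorem merge {X Y : Set (L → ℂ)} {τ : (L → ℂ) → (G → ℂ)} (hX : ∀ φ ∈ X, IsIrrCharacter L φ) (hY : ∀ φ ∈ Y, IsIrrCharacter L φ)
    (hdisj : ∀ φ ∈ X, φ ∉ Y) (hτ : IsLinearIsometryOn (zspanOn (X ∪ Y) {1}ᶜ) τ) {σ : (L → ℂ) → (G → ℂ)}
    (hσ : IsLinearIsometryOn (zspan X) σ) (hσα : ∀ α ∈ zspanOn X {1}ᶜ, σ α = τ α)
    {lam : L → ℂ} (hlam : lam ∈ Y) (hYd : ∀ η ∈ Y, η 1 = lam 1) (hY2 : ∃ η ∈ Y, η ≠ lam)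
    {χ : L → ℂ} (hχ : χ ∈ X) (b : (L → ℂ) → ℕ) (hb : ∀ φ ∈ X, φ 1 = b φ * χ 1) (hb0 : ∀ φ ∈ X, b φ ≠ 0) (hX2 : ∃ φ ∈ X, φ ≠ χ)
    (a : ℕ) (ha : 0 < a) (hχa : χ 1 = a * lam 1)
    (horth : ∀ φ ∈ X, ∀ η ∈ Y, classInner (σ φ) (τ (η - lam)) = 0)
    (hdiv : ∀ ψ : G → ℂ, IsIrrCharacter G ψ → (∀ φ ∈ X, classInner (σ φ) ψ = 0) → ∃ k : ℤ, classInner (τ (χ - (a : ℤ) • lam)) ψ = a * k) :
    IsCoherent (X ∪ Y) {1}ᶜ τ := by
  classical
  have hirr : ∀ φ ∈ X ∪ Y, IsIrrCharacter L φ := fun φ h => h.elim (hX φ) (hY φ)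
  have hXfin : X.Finite := orth_finite (fun χ hχ φ hφ hne => irr_inner_ne (hX χ hχ) (hX φ hφ) hne) (fun χ hχ => by
    rw [irr_inner_self (hX χ hχ)]; exact one_ne_zero)
  set E : Finset (G → ℂ) := hXfin.toFinset.image σ with hE
  have hmemE : ∀ α, α ∈ E ↔ ∃ φ ∈ X, σ φ = α := by
    intro α; rw [hE, Finset.mem_image]; simp [Set.Finite.mem_toFinset]
  have hσin : ∀ φ ∈ X, ∀ ψ ∈ X, classInner (σ φ) (σ ψ) = classInner φ ψ := fun φ hφ ψ hψ => iso_inner hσ (z_sub hφ) (z_sub hψ)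
  have hON : ON E := by
    refine ⟨fun α hα => ?_, fun α hα β hβ hne => ?_⟩
    · obtain ⟨φ, hφ, rfl⟩ := (hmemE α).mp hα
      rw [hσin φ hφ φ hφ, irr_inner_self (hX φ hφ)]
    · obtain ⟨φ, hφ, rfl⟩ := (hmemE α).mp hα
      obtain ⟨ψ, hψ, rfl⟩ := (hmemE β).mp hβ
      rw [hσin φ hφ ψ hψ, irr_inner_ne (hX φ hφ) (hX ψ hψ) (fun h => hne (by rw [h]))]
  have hEgen : ∀ α ∈ E, IsGeneralizedCharacter G α := by
    intro α hα
    obtain ⟨φ, hφ, rfl⟩ := (hmemE α).mp hα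
    exact iso_gen hσ (z_sub hφ)
  have hlam1 : lam 1 ≠ 0 := irr_one_ne_zero (hY lam hlam)
  -- membership facts
  have mY : ∀ η ∈ Y, η - lam ∈ zspanOn (X ∪ Y) {1}ᶜ := by
    intro η hη
    rw [mem_z1]
    exact ⟨z_minus (z_sub (Or.inr hη)) (z_sub (Or.inr hlam)), by rw [Pi.sub_apply, hYd η hη, sub_self]⟩
  have mX' : ∀ φ ∈ X, φ - (b φ : ℤ) • χ ∈ zspanOn X {1}ᶜ := by
    intro φ hφ
    rw [mem_z1]
    refine ⟨z_minus (z_sub hφ) (z_smul _ (z_sub hχ)), ?_⟩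
    rw [Pi.sub_apply, Pi.smul_apply, hb φ hφ, zsmul_eq_mul]; push_cast; ring
  have mX : ∀ φ ∈ X, φ - (b φ : ℤ) • χ ∈ zspanOn (X ∪ Y) {1}ᶜ := fun φ hφ => z1_mono Set.subset_union_left (mX' φ hφ)
  have mβ : χ - (a : ℤ) • lam ∈ zspanOn (X ∪ Y) {1}ᶜ := by
    rw [mem_z1]
    refine ⟨z_minus (z_sub (Or.inl hχ)) (z_smul _ (z_sub (Or.inr hlam))), ?_⟩
    rw [Pi.sub_apply, Pi.smul_apply, hχa, zsmul_eq_mul]; push_cast; ring
  have hself : ∀ φ ∈ X ∪ Y, classInner φ φ = 1 := fun φ hφ => irr_inner_self (hirr φ hφ)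
  have hor : ∀ φ ∈ X ∪ Y, ∀ ψ ∈ X ∪ Y, φ ≠ ψ → classInner φ ψ = 0 := fun φ hφ ψ hψ hne => irr_inner_ne (hirr φ hφ) (hirr ψ hψ) hne
  have hχY : χ ∉ Y := hdisj χ hχ
  have hχlam : χ ≠ lam := fun h => hχY (h ▸ hlam)
  set β : L → ℂ := χ - (a : ℤ) • lam with hβ
  have hββ : classInner (τ β) (τ β) = 1 + (a : ℂ) ^ 2 := by
    rw [iso_inner hτ mβ mβ, hβ, ci_sub_l, ci_sub_r, ci_sub_r, ci_zsmul_l, ci_zsmul_r, ci_zsmul_l, ci_zsmul_r, hself χ (Or.inl hχ), hself lam (Or.inr hlam),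
      hor χ (Or.inl hχ) lam (Or.inr hlam) hχlam, hor lam (Or.inr hlam) χ (Or.inl hχ) (Ne.symm hχlam)]
    push_cast; ring
  have hβη : ∀ η ∈ Y, η ≠ lam → classInner (τ β) (τ (η - lam)) = a := by
    intro η hη hne
    rw [iso_inner hτ mβ (mY η hη), hβ, ci_sub_l, ci_sub_r, ci_sub_r, ci_zsmul_l, ci_zsmul_l, hself lam (Or.inr hlam),
      hor χ (Or.inl hχ) lam (Or.inr hlam) hχlam, hor χ (Or.inl hχ) η (Or.inr hη) (fun h => hχY (h ▸ hη)),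
      hor lam (Or.inr hlam) η (Or.inr hη) (Ne.symm hne)]
    push_cast; ring
  have hβφ : ∀ φ ∈ X, φ ≠ χ → classInner (τ β) (τ (φ - (b φ : ℤ) • χ)) = -(b φ : ℂ) := by
    intro φ hφ hne
    have hφl : φ ≠ lam := fun h => hdisj φ hφ (h ▸ hlam)
    rw [iso_inner hτ mβ (mX φ hφ), hβ, ci_sub_l, ci_sub_r, ci_sub_r, ci_zsmul_l, ci_zsmul_l, ci_zsmul_r, ci_zsmul_r, hself χ (Or.inl hχ),
      hor χ (Or.inl hχ) φ (Or.inl hφ) (Ne.symm hne), hor lam (Or.inr hlam) φ (Or.inl hφ) (Ne.symm hφl),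
      hor lam (Or.inr hlam) χ (Or.inl hχ) (Ne.symm hχlam)]
    push_cast; ring
  -- the decomposition
  have hAgen := proj_gen (iso_gen hτ mβ) hEgen
  set A := proj E (τ β) with hA
  have hBgen : IsGeneralizedCharacter G (τ β - A) := gen_sub (iso_gen hτ mβ) hAgen
  have hBorth : ∀ φ ∈ X, classInner (τ β - A) (σ φ) = 0 := by
    intro φ hφ
    rw [ci_sub_l, hA, proj_inner hON _ ((hmemE _).mpr ⟨φ, hφ, rfl⟩), sub_self]
  have hBmul : ∀ ψ : G → ℂ, IsIrrCharacter G ψ → ∃ k : ℤ, classInner (τ β - A) ψ = a * k := by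
    intro ψ hψ
    by_cases hall : ∀ φ ∈ X, classInner (σ φ) ψ = 0
    · obtain ⟨k, hk⟩ := hdiv ψ hψ hall
      refine ⟨k, ?_⟩
      rw [ci_sub_l, hk, hA, proj_orth, sub_zero]
      intro α hα
      obtain ⟨φ, hφ, rfl⟩ := (hmemE α).mp hα
      exact hall φ hφ
    · push Not at hall
      obtain ⟨φ, hφ, hne⟩ := hall
      -- `σ φ` is plus or minus an irreducible character
      have h1 : SIrr (σ φ) := gen_norm_one (iso_gen hσ (z_sub hφ)) (by rw [hσin φ hφ φ hφ, irr_inner_self (hX φ hφ)])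
      have h2 := hBorth φ hφ
      rcases h1.inner (Or.inl hψ : SIrr ψ) with h3 | ⟨h3, -⟩ | ⟨h3, -⟩
      · exact absurd h3 hne
      · exact ⟨0, by rw [← h3, h2]; simp⟩
      · refine ⟨0, ?_⟩
        rw [h3, ci_neg_r] at h2
        rw [neg_eq_zero.mp h2]; simp
  obtain ⟨Γ, hΓgen, hΓ⟩ := gen_div hBgen a hBmul
  have hAB : classInner A (τ β - A) = 0 := by
    rw [hA]
    apply proj_orth
    intro α hα
    obtain ⟨φ, hφ, rfl⟩ := (hmemE α).mp hα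
    exact ci_zero_comm (hBorth φ hφ)
  obtain ⟨nA, hnA⟩ := gen_self_nat hAgen
  obtain ⟨nΓ, hnΓ⟩ := gen_self_nat hΓgen
  have hsum : (1 : ℂ) + (a : ℂ) ^ 2 = nA + (a : ℂ) ^ 2 * nΓ := by
    have h1 : τ β = A + (a : ℂ) • Γ := by rw [← hΓ]; abel
    have h2 : classInner A ((a : ℂ) • Γ) = 0 := by rw [← hΓ]; exact hAB
    have h3 := hββ
    rw [h1, ci_add_l, ci_add_r, ci_add_r, h2, ci_zero_comm h2, ci_smul_l, ci_smul_r, hnΓ, hnA] at h3
    rw [← h3]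
    simp; ring
  have hsum' : 1 + a ^ 2 = nA + a ^ 2 * nΓ := by exact_mod_cast hsum
  have hA0 : nA ≠ 0 := by
    intro h0
    have h1 : A = 0 := inner_self_eq_zero (by rw [hnA, h0]; simp)
    obtain ⟨φ, hφ, hne⟩ := hX2
    have h2 := hβφ φ hφ hne
    rw [← hσα _ (mX' φ hφ), iso_sub zm_span hσ (z_sub hφ) (z_smul _ (z_sub hχ)), iso_smul hσ (z_sub hχ)] at h2
    have h3 : τ β = τ β - A := by rw [h1, sub_zero]
    rw [h3, ci_sub_r, ci_zsmul_r, hBorth φ hφ, hBorth χ hχ, mul_zero, sub_zero] at h2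
    have h4 : (b φ : ℂ) = 0 := by rw [eq_comm, neg_eq_zero] at h2; exact h2
    exact hb0 φ hφ (by exact_mod_cast h4)
  have hAη : ∀ η ∈ Y, classInner A (τ (η - lam)) = 0 := by
    intro η hη
    rw [hA]
    apply proj_orth
    intro α hα
    obtain ⟨φ, hφ, rfl⟩ := (hmemE α).mp hα
    exact horth φ hφ η hη
  have hΓη : ∀ η ∈ Y, η ≠ lam → classInner Γ (τ (η - lam)) = 1 := by
    intro η hη hne
    have h1 := hβη η hη hne
    have h2 : τ β = A + (a : ℂ) • Γ := by rw [← hΓ]; abel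
    rw [h2, ci_add_l, hAη η hη, zero_add, ci_smul_l] at h1
    have ha' : (a : ℂ) ≠ 0 := Nat.cast_ne_zero.mpr ha.ne'
    have h3 : (a : ℂ) * (classInner Γ (τ (η - lam)) - 1) = 0 := by rw [mul_sub, h1]; ring
    have := (mul_eq_zero.mp h3).resolve_left ha'
    linear_combination this
  have hΓ1 : nΓ = 1 := by
    have h0 : nΓ ≠ 0 := by
      intro h0
      have h1 : Γ = 0 := inner_self_eq_zero (by rw [hnΓ, h0]; simp)
      obtain ⟨η, hη, hne⟩ := hY2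
      have h2 := hΓη η hη hne
      rw [h1, ci_zero_l] at h2
      exact zero_ne_one h2
    by_contra hne
    have h2 : 2 ≤ nΓ := by omega
    have h3 : a ^ 2 * 2 ≤ a ^ 2 * nΓ := Nat.mul_le_mul_left _ h2
    have h4 : 0 < a ^ 2 := by positivity
    omega
  have hΓσ : ∀ φ ∈ X, classInner Γ (σ φ) = 0 := by
    intro φ hφ
    have h1 := hBorth φ hφ
    rw [hΓ, ci_smul_l] at h1
    exact (mul_eq_zero.mp h1).resolve_left (Nat.cast_ne_zero.mpr ha.ne')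
  -- conclusion
  obtain ⟨bb, hbbX, hbbY⟩ : ∃ bb : (L → ℂ) → ℕ, (∀ φ ∈ X, bb φ = a * b φ) ∧ (∀ φ ∈ Y, bb φ = 1) := by
    refine ⟨fun φ => if φ ∈ X then a * b φ else 1, fun φ hφ => by simp [hφ], fun φ hφ => ?_⟩
    have : φ ∉ X := fun h => hdisj φ h hφ
    simp [this]
  refine glue hirr hτ (Or.inr hlam) bb ?_ (ν := -Γ) (gen_neg hΓgen) ?_ ?_ ⟨χ, Or.inl hχ, hχlam⟩
  · rintro φ (hφ | hφ)
    · rw [hbbX φ hφ, hb φ hφ, hχa]; push_cast; ring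
    · rw [hbbY φ hφ, hYd φ hφ]; simp
  · rw [ci_neg_l, ci_neg_r, neg_neg, hnΓ, hΓ1]; simp
  · rintro φ (hφ | hφ) hne
    · rw [hbbX φ hφ]
      have h1 : φ - ((a * b φ : ℕ) : ℤ) • lam = (φ - (b φ : ℤ) • χ) + (b φ : ℤ) • β := by
        rw [hβ, smul_sub, smul_smul]; push_cast; rw [mul_comm (b φ : ℤ) a]; abel
      rw [h1, iso_add hτ (mX φ hφ) (z1_smul _ mβ), iso_smul hτ mβ, ci_add_l, ci_zsmul_l, ← hσα _ (mX' φ hφ),
        iso_sub zm_span hσ (z_sub hφ) (z_smul _ (z_sub hχ)), iso_smul hσ (z_sub hχ), ci_sub_l, ci_zsmul_l, ci_neg_r, ci_neg_r,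
        ci_zero_comm (hΓσ φ hφ), ci_zero_comm (hΓσ χ hχ)]
      have h2 : τ β = A + (a : ℂ) • Γ := by rw [← hΓ]; abel
      have h3 : classInner A Γ = 0 := by
        have h4 := hAB
        rw [hΓ, ci_smul_r] at h4
        exact (mul_eq_zero.mp h4).resolve_left (by
          intro h; rw [map_natCast] at h; exact ha.ne' (by exact_mod_cast h))
      rw [h2, ci_neg_r, ci_add_l, h3, ci_smul_l, hnΓ, hΓ1]
      push_cast; ring
    · rw [hbbY φ hφ]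
      have h1 : φ - ((1 : ℕ) : ℤ) • lam = φ - lam := by simp
      rw [h1, ci_neg_r, ← ci_conj, hΓη φ hφ hne]
      simp

end Merge
end CfsgLib.Coh
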