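import Cfsg.Agent.EqBase
import Cfsg.Agent.LibCoh13
import Cfsg.Agent.LibSolvNilp
/-!
# Sibley's coherence theorem, odd case (helper16)
-/
set_option autoImplicit false
set_option linter.all false
open Cfsg CfsgLib.CharBasic CfsgLib.CharIndA CfsgLib.CharNorm CfsgLib.Sgn CfsgLib.Clifford
open scoped ComplexConjugate
namespace CfsgLib.Coh

universe u v

section Kappa
variable {L : Type u} [Group L] [Fintype L]

theorem kappa {Z : Subgroup L} {f : L → ℂ} (hf : IsClassFunction L f) {c : ℂ}
    (h : ∀ φ : L → ℂ, IsIrrCharacter L φ → (∃ z ∈ Z, φ z ≠ φ 1) → classInner f φ = c * φ 1) {z : L} (hz : z ∈ Z) (hz1 : z ≠ 1) :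
    f 1 - f z = c * Nat.card L := by
  classical
  rw [classFun_expand_apply hf 1, classFun_expand_apply hf z, ← Finset.sum_sub_distrib, ← sum_sq_degree]
  have h2 := sum_degree_mul z hz1
  have h3 : c * ∑ χ : IrrCharacter L, (χ : L → ℂ) 1 ^ 2 = ∑ χ : IrrCharacter L, (c * ((χ : L → ℂ) 1 * (χ : L → ℂ) 1) - c * ((χ : L → ℂ) 1 * (χ : L → ℂ) z)) := by
    rw [Finset.sum_sub_distrib, ← Finset.mul_sum, ← Finset.mul_sum, h2, mul_zero, sub_zero]
    congr 1
    exact Finset.sum_congr rfl fun χ _ => by ring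
  rw [h3]
  refine Finset.sum_congr rfl fun χ _ => ?_
  by_cases hk : ∃ z ∈ Z, (χ : L → ℂ) z ≠ (χ : L → ℂ) 1
  · rw [h χ χ.2 hk]; ring
  · push Not at hk
    rw [hk z hz]; ring

end Kappa

section Central
variable {L : Type u} [Group L] [Finite L] {K Z : Subgroup L}

/-- the index of a Frobenius kernel divides `|Z| - 1` for a central normal subgroup `Z` of the kernel -/
theorem index_dvd_central (hC : ∀ k ∈ K, k ≠ 1 → Subgroup.centralizer ({k} : Set L) ≤ K) (hZn : Z.Normal) (hZK : Z ≤ K)
    (hZc : ∀ z ∈ Z, ∀ k ∈ K, z * k = k * z) : K.index ∣ Nat.card Z - 1 := by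
  classical
  let X : SubMulAction (ConjAct L) L :=
    { carrier := {q | q ∈ Z ∧ q ≠ 1}
      smul_mem' := by
        rintro g q ⟨h1, h2⟩
        rw [ConjAct.smul_def]
        refine ⟨hZn.conj_mem q h1 _, fun h => h2 ?_⟩
        have : q = (ConjAct.ofConjAct g)⁻¹ * (ConjAct.ofConjAct g * q * (ConjAct.ofConjAct g)⁻¹) * (ConjAct.ofConjAct g) := by group
        rw [this, h]; group }
  have hstab : ∀ x : X, (MulAction.stabilizer (ConjAct L) x).index = K.index := by
    rintro ⟨q, hq1, hq2⟩
    have h1 : ∀ g : L, ConjAct.toConjAct g ∈ MulAction.stabilizer (ConjAct L) (⟨q, hq1, hq2⟩ : X) ↔ g ∈ K := by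
      intro g
      rw [MulAction.mem_stabilizer_iff]
      constructor
      · intro h
        have h2 : g * q * g⁻¹ = q := congrArg Subtype.val h
        apply hC q (hZK hq1) hq2
        rw [Subgroup.mem_centralizer_singleton_iff]
        calc g * q = (g * q * g⁻¹) * g := by group
          _ = q * g := by rw [h2]
      · intro h
        apply Subtype.ext
        show g * q * g⁻¹ = q
        rw [← hZc q hq1 g h]; group
    have h2 : K = (MulAction.stabilizer (ConjAct L) (⟨q, hq1, hq2⟩ : X)).comap (ConjAct.toConjAct : L ≃* ConjAct L).toMonoidHom := by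
      ext g
      rw [Subgroup.mem_comap]
      exact (h1 g).symm
    conv_rhs => rw [h2]
    rw [Subgroup.index_comap_of_surjective _ (ConjAct.toConjAct : L ≃* ConjAct L).surjective]
  haveI : Finite (ConjAct L) := Finite.of_equiv L ConjAct.toConjAct.toEquiv
  haveI : Finite X := Subtype.finite
  have h1 := card_dvd_of_stab hstab
  have h2 : Nat.card X = Nat.card Z - 1 := by
    haveI := Fintype.ofFinite L
    haveI : Fintype Z := Fintype.ofFinite _
    have e : X ≃ {z : Z // z ≠ 1} :=
      { toFun := fun x => ⟨⟨x.1, x.2.1⟩, fun h => x.2.2 (congrArg Subtype.val h)⟩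
        invFun := fun z => ⟨z.1.1, z.1.2, fun h => z.2 (Subtype.ext h)⟩
        left_inv := fun _ => rfl
        right_inv := fun _ => rfl }
    rw [Nat.card_congr e, Nat.card_eq_fintype_card, Fintype.card_subtype_compl, Fintype.card_subtype_eq, Nat.card_eq_fintype_card]
  rwa [h2] at h1

end Central

namespace Odd'
variable {G : Type v} [Group G] [Fintype G] {H L : Subgroup G} [Fintype L] (D : Odd' H L)
include D

theorem norm : Subgroup.normalizer (H : Set G) = L := by
  apply le_antisymm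
  · intro g hg
    by_contra hgL
    obtain ⟨h, hh, hh1⟩ := (Subgroup.bot_or_exists_ne_one H).resolve_left D.hH1
    rw [Subgroup.mem_normalizer_iff] at hg
    exact hh1 (D.hTI g hgL h hh ((hg h).mp hh))
  · intro g hg
    rw [Subgroup.mem_normalizer_iff]
    intro h
    refine ⟨D.hHn g hg h, fun hh => ?_⟩
    have h2 := D.hHn g⁻¹ (L.inv_mem hg) _ hh
    have h3 : g⁻¹ * (g * h * g⁻¹) * g⁻¹⁻¹ = h := by group
    rwa [h3] at h2

theorem coprime : Nat.Coprime (Nat.card (H.subgroupOf L)) (H.subgroupOf L).index :=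
  CfsgLib.FrobK.coprime D.normal D.cent

theorem card_eq : Nat.card (H.subgroupOf L) = Nat.card H := Nat.card_congr (Subgroup.subgroupOfEquivOfLe D.hHL.le).toEquiv

theorem sylow {p n : ℕ} [hp : Fact p.Prime] (hpn : Nat.card H = p ^ n) (hn : n ≠ 0) : ∃ P : Sylow p G, (P : Subgroup G) = H := by
  have h1 : ¬ p ^ (n + 1) ∣ Nat.card G := by
    intro h
    have h2 := Sylow.prime_dvd_card_quotient_normalizer h hpn
    rw [D.norm] at h2
    have h3 := D.coprime
    rw [D.card_eq, hpn] at h3
    have h4 : Nat.card (↥L ⧸ Subgroup.comap L.subtype H) = (H.subgroupOf L).index := rfl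
    rw [h4] at h2
    have h5 := Nat.Coprime.coprime_dvd_left (dvd_pow_self p hn) h3
    exact hp.out.one_lt.ne' (Nat.eq_one_of_dvd_coprimes h5 dvd_rfl h2)
  have h2 : n = (Nat.card G).factorization p := by
    have hG : Nat.card G ≠ 0 := Nat.card_pos.ne'
    apply le_antisymm
    · rw [← hp.out.pow_dvd_iff_le_factorization hG, ← hpn]
      exact Subgroup.card_subgroup_dvd_card H
    · by_contra hlt
      push Not at hlt
      exact h1 ((hp.out.pow_dvd_iff_le_factorization hG).mpr hlt)
  exact ⟨Sylow.ofCard H (by rw [hpn, h2]), rfl⟩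

theorem ti : IsTISubset (H : Set G) := by
  intro g hg x hx h
  rw [D.norm] at hg
  exact D.hTI g hg x hx h

theorem coherent_of_good (hgood : (¬ ∃ p m : ℕ, p.Prime ∧ Nat.card (H.subgroupOf L) = p ^ m) ∨ ⁅H.subgroupOf L, H.subgroupOf L⁆ ≤ ⊥) :
    IsCoherent (inducedIrrAbove (H.subgroupOf L) ⊥) {1}ᶜ (fun α : L → ℂ => indFun L α) := by
  obtain ⟨R, hS⟩ := D.exists_R
  haveI := D.nil
  haveI := D.normal
  haveI : ((⊥ : Subgroup L).subgroupOf (H.subgroupOf L)).Normal := Subgroup.Normal.subgroupOf inferInstance _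
  have hK' : (⁅H.subgroupOf L, H.subgroupOf L⁆ : Subgroup L).Normal := inferInstance
  have hle : ⁅H.subgroupOf L, H.subgroupOf L⁆ ≤ H.subgroupOf L := Subgroup.commutator_le_right _ _
  have hlt : ⁅H.subgroupOf L, H.subgroupOf L⁆ < H.subgroupOf L := by
    refine lt_of_le_of_ne hle fun h => ?_
    have h1 : (⊤ : Subgroup (H.subgroupOf L)) ≤ ⁅(⊤ : Subgroup (H.subgroupOf L)), ⊤⁆ := by
      rw [← Subgroup.map_le_map_iff_of_injective (H.subgroupOf L).subtype_injective, Subgroup.map_commutator, ← MonoidHom.range_eq_map, Subgroup.range_subtype, h]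
    have h2 := nil_comm D.nil ⊤ h1
    apply D.ne_bot
    rw [eq_bot_iff]
    intro x hx
    have h3 : (⟨x, hx⟩ : H.subgroupOf L) ∈ (⊤ : Subgroup (H.subgroupOf L)) := trivial
    rw [h2, Subgroup.mem_bot] at h3
    exact congrArg Subtype.val h3
  refine coh_above D.normal D.solv hS D.hodd ⊥ inferInstance bot_le inferInstance ⁅H.subgroupOf L, H.subgroupOf L⁆ (by rw [sup_bot_eq]) hlt D.lt_top
    (D.frob_quot hK' hle) ?_
  rw [Subgroup.relIndex_bot_left]
  rcases hgood with h | h
  · exact Or.inr (Or.inr (Or.inl h))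
  · exact Or.inr (Or.inr (Or.inr (Or.inl h)))

end Odd'
end CfsgLib.Coh
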