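import Cfsg.Agent.EqBase
import Cfsg.Agent.LibCoh14
/-!
# Sibley's coherence theorem, odd case II (helper16)
-/
set_option autoImplicit false
set_option linter.all false
open Cfsg CfsgLib.CharBasic CfsgLib.CharIndA CfsgLib.CharNorm CfsgLib.Sgn CfsgLib.Clifford
open scoped ComplexConjugate
namespace CfsgLib.Coh

universe u v

namespace Odd'
variable {G : Type v} [Group G] [Fintype G] {H L : Subgroup G} [Fintype L] (D : Odd' H L)
include D

theorem comm_lt : ⁅H.subgroupOf L, H.subgroupOf L⁆ < H.subgroupOf L := by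
  haveI := D.normal
  have hle : ⁅H.subgroupOf L, H.subgroupOf L⁆ ≤ H.subgroupOf L := Subgroup.commutator_le_right _ _
  refine lt_of_le_of_ne hle fun h => ?_
  have h1 : (⊤ : Subgroup (H.subgroupOf L)) ≤ ⁅(⊤ : Subgroup (H.subgroupOf L)), ⊤⁆ := by
    rw [← Subgroup.map_le_map_iff_of_injective (H.subgroupOf L).subtype_injective, Subgroup.map_commutator, ← MonoidHom.range_eq_map, Subgroup.range_subtype, h]
  have h2 := nil_comm D.nil ⊤ h1
  apply D.ne_bot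
  rw [eq_bot_iff]
  intro x hx
  have h3 : (⟨x, hx⟩ : H.subgroupOf L) ∈ (⊤ : Subgroup (H.subgroupOf L)) := trivial
  rw [h2, Subgroup.mem_bot] at h3
  exact congrArg Subtype.val h3

/-- the central subgroup `Z(K) ∩ K'` -/
theorem exists_Z (hnc : ¬ ⁅H.subgroupOf L, H.subgroupOf L⁆ ≤ ⊥) : ∃ Z : Subgroup L, Z.Normal ∧ Z ≠ ⊥ ∧ Z ≤ ⁅H.subgroupOf L, H.subgroupOf L⁆ ∧
    (∀ z ∈ Z, ∀ k ∈ H.subgroupOf L, z * k = k * z) := by
  haveI := D.normal
  haveI := D.nil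
  set K := H.subgroupOf L with hK
  refine ⟨⁅K, K⁆ ⊓ Subgroup.centralizer (K : Set L), inferInstance, ?_, inf_le_left, ?_⟩
  · -- from nilpotence
    have h1 : ((⁅K, K⁆ : Subgroup L).subgroupOf K) ≠ ⊥ := by
      intro h
      apply hnc
      rw [Subgroup.subgroupOf_eq_bot, disjoint_iff, inf_eq_left.mpr D.comm_lt.le] at h
      exact h.le
    haveI : ((⁅K, K⁆ : Subgroup L).subgroupOf K).Normal := Subgroup.Normal.subgroupOf inferInstance _
    have h2 := CfsgLib.SolvNilp.inf_center_ne_bot _ h1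
    intro h3
    apply h2
    rw [eq_bot_iff]
    rintro x ⟨hx1, hx2⟩
    have h4 : (x : L) ∈ (⁅K, K⁆ ⊓ Subgroup.centralizer (K : Set L) : Subgroup L) := by
      refine ⟨hx1, ?_⟩
      show (x : L) ∈ Subgroup.centralizer (K : Set L)
      rw [Subgroup.mem_centralizer_iff]
      intro k hk
      exact congrArg Subtype.val (Subgroup.mem_center_iff.mp hx2 ⟨k, hk⟩)
    rw [h3, Subgroup.mem_bot] at h4
    rw [Subgroup.mem_bot]
    exact Subtype.ext h4
  · intro z hz k hk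
    exact (Subgroup.mem_centralizer_iff.mp hz.2 k hk).symm

/-- degrees in the `p`-group case -/
theorem deg {p m : ℕ} (hp : p.Prime) (hpm : Nat.card (H.subgroupOf L) = p ^ m) {φ : L → ℂ} (hφ : φ ∈ inducedIrrAbove (H.subgroupOf L) ⊥) :
    ∃ k : ℕ, φ 1 = ((H.subgroupOf L).index : ℂ) * (p : ℂ) ^ k := by
  haveI : Fintype (H.subgroupOf L) := Fintype.ofFinite _
  obtain ⟨θ, hθ, -, -, rfl⟩ := hφ
  obtain ⟨r, hr, hr'⟩ := irr_one_nat hθ
  have h1 : charDegree θ = r := by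
    have := CfsgLib.CharInt.irr_one_eq_charDegree hθ
    rw [hr'] at this
    exact_mod_cast this.symm
  have h2 : r ∣ p ^ m := by
    rw [← h1, ← hpm]
    exact CfsgLib.CharInt2.charDegree_dvd_card hθ
  obtain ⟨a, -, ha⟩ := (Nat.dvd_prime_pow hp).mp h2
  exact ⟨a, by rw [CharIndA.ind_one, hr', ha]; push_cast; ring⟩

theorem deg_lin {φ : L → ℂ} (hφ : φ ∈ inducedIrrAbove (H.subgroupOf L) ⁅H.subgroupOf L, H.subgroupOf L⁆) : φ 1 = ((H.subgroupOf L).index : ℂ) := by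
  haveI : Fintype (H.subgroupOf L) := Fintype.ofFinite _
  obtain ⟨θ, hθ, -, hker, rfl⟩ := hφ
  obtain ⟨m, hm, hm'⟩ := irr_one_nat hθ
  have h1 := degree_bound hθ (B := ⁅H.subgroupOf L, H.subgroupOf L⁆) (C := H.subgroupOf L) (D := H.subgroupOf L) D.normal D.comm_lt.le le_rfl le_rfl
    (fun x hx y hy => (Subgroup.commutator_mem_commutator hx hy)) hker hm'
  rw [Subgroup.relIndex_self, one_pow, one_mul] at h1
  have h2 : m = 1 := by nlinarith
  rw [CharIndA.ind_one, hm', h2]; simp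

/-- the congruence argument -/
theorem hdiv {p m : ℕ} [hp : Fact p.Prime] (hpm : Nat.card (H.subgroupOf L) = p ^ m) {Z : Subgroup L} (hZn : Z.Normal) (hZ1 : Z ≠ ⊥)
    (hZK : Z ≤ H.subgroupOf L) (hZc : ∀ z ∈ Z, ∀ k ∈ H.subgroupOf L, z * k = k * z) {ψ : G → ℂ} (hψ : IsIrrCharacter G ψ) {c : ℂ}
    (h : ∀ φ : L → ℂ, IsIrrCharacter L φ → (∃ z ∈ Z, φ z ≠ φ 1) → classInner (fun l : L => ψ l) φ = c * φ 1) :
    ∃ k : ℤ, c * ((H.subgroupOf L).index : ℂ) = k := by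
  have hm0 : m ≠ 0 := by
    rintro rfl
    rw [pow_zero] at hpm
    exact D.ne_bot (Subgroup.card_eq_one.mp hpm)
  have hpm' : Nat.card H = p ^ m := by rw [← D.card_eq, hpm]
  obtain ⟨P, hP⟩ := D.sylow hpm' hm0
  have hT : TIData P (Z.map L.subtype) := by
    refine ⟨?_, ?_, ?_, ?_, ?_⟩
    · rw [hP]; exact D.ti
    · rw [hP, D.norm]; exact D.hodd
    · rw [hP]
      rintro _ ⟨z, hz, rfl⟩
      exact hZK hz
    · rw [hP, D.norm]
      rintro x hx _ ⟨z, hz, rfl⟩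
      exact ⟨_, hZn.conj_mem z hz ⟨x, hx⟩, rfl⟩
    · rw [hP]
      rintro _ ⟨z, hz, rfl⟩ y hy
      exact congrArg Subtype.val (hZc z hz ⟨y, D.hHL.le hy⟩ hy)
  have hcf : IsClassFunction L (fun l : L => ψ l) := classFun_restrict (irr_classFun hψ) L
  have key : ∀ z ∈ Z, z ≠ 1 → ψ 1 - ψ (z : G) = c * Nat.card L := fun z hz hz1 => kappa hcf h hz hz1
  obtain ⟨z, hz, hz1⟩ := (Subgroup.bot_or_exists_ne_one Z).resolve_left hZ1
  obtain ⟨n, d, h1, h2, h3⟩ := hT.congruence hψ (by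
    rintro _ ⟨z, hz, rfl⟩ _ ⟨z', hz', rfl⟩ h1 h1'
    have e1 := key z hz (fun h => h1 (by rw [h]; rfl))
    have e2 := key z' hz' (fun h => h1' (by rw [h]; rfl))
    show ψ (z : G) = ψ (z' : G)
    linear_combination e2 - e1) (z := (z : G)) ⟨z, hz, rfl⟩ (fun h => hz1 (Subtype.ext h))
  obtain ⟨k, hk⟩ := h3
  refine ⟨k, ?_⟩
  have h4 := key z hz hz1
  rw [h1, h2, ← Subgroup.card_mul_index (H.subgroupOf L), D.card_eq] at h4
  rw [hP] at hk
  have h5 : ((d : ℂ) - (n : ℂ)) = (Nat.card H : ℂ) * k := by exact_mod_cast hk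
  rw [h5] at h4
  have h6 : (Nat.card H : ℂ) ≠ 0 := by exact_mod_cast Nat.card_pos.ne'
  push_cast at h4
  have h7 : (Nat.card H : ℂ) * (c * ((H.subgroupOf L).index : ℂ) - k) = 0 := by linear_combination -h4
  have := (mul_eq_zero.mp h7).resolve_left h6
  linear_combination this

/-- the merged set is coherent -/
theorem merged {p m : ℕ} [hp : Fact p.Prime] (hpm : Nat.card (H.subgroupOf L) = p ^ m) {Z : Subgroup L} (hZn : Z.Normal) (hZ1 : Z ≠ ⊥)
    (hZK : Z ≤ ⁅H.subgroupOf L, H.subgroupOf L⁆) (hZc : ∀ z ∈ Z, ∀ k ∈ H.subgroupOf L, z * k = k * z) :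
    IsCoherent ((inducedIrrAbove (H.subgroupOf L) ⊥ \ inducedIrrAbove (H.subgroupOf L) Z) ∪ inducedIrrAbove (H.subgroupOf L) ⁅H.subgroupOf L, H.subgroupOf L⁆)
      {1}ᶜ (fun α : L → ℂ => indFun L α) := by
  classical
  obtain ⟨R, hS⟩ := D.exists_R
  haveI := D.nil
  haveI hKn := D.normal
  haveI : Fintype (H.subgroupOf L) := Fintype.ofFinite _
  have hK'n : (⁅H.subgroupOf L, H.subgroupOf L⁆ : Subgroup L).Normal := inferInstance
  set K := H.subgroupOf L with hK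
  set X := inducedIrrAbove K ⊥ \ inducedIrrAbove K Z with hX
  set Y := inducedIrrAbove K ⁅K, K⁆ with hY
  set τ : (L → ℂ) → (G → ℂ) := fun α => indFun L α with hτdef
  have hZK' : Z ≤ K := hZK.trans D.comm_lt.le
  have hXS : X ⊆ inducedIrrAbove K ⊥ := Set.diff_subset
  have hYS : Y ⊆ inducedIrrAbove K ⊥ := ia_bot
  have hXeq : X = {χ | IsIrrCharacter L χ ∧ ∃ z ∈ Z, χ z ≠ χ 1} := diff_eq D.normal hZn hZK' (fun χ hχ => D.irr χ (hXS hχ))
  obtain ⟨-, σ, hσ, hσα⟩ := coh_diff D.normal D.solv hS D.hodd D.nil D.comm_lt D.lt_top (D.frob_quot hK'n D.comm_lt.le) hZn hZ1 hZK' hZc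
    (fun χ hχ => D.irr χ (hXS hχ))
  obtain ⟨-, τ₂, hτ₂, hτ₂α⟩ := uniform_above D.normal D.solv hS hK'n D.comm_lt le_rfl
  obtain ⟨θ, -, -, -, -, hlam⟩ := ia_nonempty D.solv hK'n D.comm_lt
  set lam := indFun K θ with hlamdef
  have hXc : ∀ φ ∈ X, conjFun φ ∈ X := by
    rintro χ ⟨h1, h2⟩
    refine ⟨ia_conj h1, fun h => h2 ?_⟩
    have := ia_conj h
    rwa [conj_conj] at this
  have hYc : ∀ φ ∈ Y, conjFun φ ∈ Y := fun φ h => ia_conj h
  have hdisj : ∀ φ ∈ X, φ ∉ Y := fun φ h1 h2 => h1.2 (ia_mono hZK h2)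
  -- element of minimal degree
  have hXfin : X.Finite := (ia_finite D.normal).subset hXS
  have hXne : X.Nonempty := by
    obtain ⟨z, hz, hz1⟩ := (Subgroup.bot_or_exists_ne_one Z).resolve_left hZ1
    obtain ⟨χ, hχ, hχz⟩ := exists_irr_ne hz1
    exact ⟨χ, by rw [hXeq]; exact ⟨hχ, z, hz, hχz⟩⟩
  have hdeg : ∀ φ : L → ℂ, ∃ k : ℕ, φ ∈ X → φ 1 = (K.index : ℂ) * (p : ℂ) ^ k := by
    intro φ
    by_cases hφ : φ ∈ X
    · obtain ⟨k, hk⟩ := D.deg hp.out hpm (hXS hφ)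
      exact ⟨k, fun _ => hk⟩
    · exact ⟨0, fun h => absurd h hφ⟩
  choose k hk using hdeg
  obtain ⟨χ, hχ, hmin⟩ := hXfin.exists_minimalFor k X hXne
  have hmin' : ∀ φ ∈ X, k χ ≤ k φ := fun φ hφ => by
    rcases le_total (k χ) (k φ) with h | h
    · exact h
    · exact hmin hφ h
  have hw : (K.index : ℂ) ≠ 0 := by exact_mod_cast Subgroup.index_ne_zero_of_finite
  have hp0 : (p : ℂ) ≠ 0 := by exact_mod_cast hp.out.ne_zero
  have hlam1 : lam 1 = (K.index : ℂ) := D.deg_lin hlam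
  refine merge (fun φ h => D.irr φ (hXS h)) (fun φ h => D.irr φ (hYS h)) hdisj (iso_mono D.isom (z1_mono (Set.union_subset hXS hYS))) hσ hσα hlam
    (fun η hη => by rw [hlam1, D.deg_lin hη]) ⟨conjFun lam, hYc lam hlam, D.conj_ne lam (hYS hlam)⟩ hχ (fun φ => p ^ (k φ - k χ)) ?_ ?_
    ⟨conjFun χ, hXc χ hχ, D.conj_ne χ (hXS hχ)⟩ (p ^ k χ) (Nat.pos_of_ne_zero (pow_ne_zero _ hp.out.ne_zero)) ?_ ?_ ?_
  · intro φ hφ
    rw [hk φ hφ, hk χ hχ]
    have h1 : k φ = (k φ - k χ) + k χ := (Nat.sub_add_cancel (hmin' φ hφ)).symm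
    conv_lhs => rw [h1, pow_add]
    push_cast; ring
  · intro φ _
    exact pow_ne_zero _ hp.out.ne_zero
  · rw [hk χ hχ, hlam1]; push_cast; ring
  · intro φ hφ η hη
    have h1 : τ (η - lam) = τ₂ η - τ₂ lam := by
      rw [← hτ₂α, iso_sub zm_span hτ₂ (z_sub hη) (z_sub hlam)]
      rw [mem_z1]
      exact ⟨z_minus (z_sub hη) (z_sub hlam), by rw [Pi.sub_apply, D.deg_lin hη, hlam1, sub_self]⟩
    have h2 : ∀ η ∈ Y, ∀ α ∈ R φ, classInner (τ₂ η) α = 0 := by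
      intro η hη
      refine coh_orth hS hYS hτ₂ hτ₂α hη (hYc η hη) (hXS hφ) (fun h => hdisj φ hφ (h ▸ hη)) (fun h => ?_)
      apply hdisj φ hφ
      have := hYc η hη
      rwa [h, conj_conj] at this
    show classInner (σ φ) (τ (η - lam)) = 0
    rw [coh_proj hS hXS hσ hσα hφ (hXc φ hφ), h1]
    apply proj_orth
    intro α hα
    rw [ci_sub_r, ci_zero_comm (h2 η hη α hα), ci_zero_comm (h2 lam hlam α hα), sub_zero]
  · intro ψ hψ hall
    have hψc : IsClassFunction G ψ := irr_classFun hψ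
    -- multiplicities
    have hτψ : ∀ α : L → ℂ, classInner (τ α) ψ = classInner α (fun l : L => ψ l) := fun α => frobenius L α hψc
    obtain ⟨mm, hmm⟩ := gen_inner_int (gen_of_irr (D.irr χ (hXS hχ))) (gen_restrict (gen_of_irr hψ) L)
    obtain ⟨ml, hml⟩ := gen_inner_int (gen_of_irr (D.irr lam (hYS hlam))) (gen_restrict (gen_of_irr hψ) L)
    have hχ1 : χ 1 ≠ 0 := irr_one_ne_zero (D.irr χ (hXS hχ))
    have hφm : ∀ φ ∈ X, classInner (fun l : L => ψ l) φ = ((mm : ℂ) / χ 1) * φ 1 := by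
      intro φ hφ
      have hmem : φ - ((p ^ (k φ - k χ) : ℕ) : ℤ) • χ ∈ zspanOn X {1}ᶜ := by
        rw [mem_z1]
        refine ⟨z_minus (z_sub hφ) (z_smul _ (z_sub hχ)), ?_⟩
        rw [Pi.sub_apply, Pi.smul_apply, hk φ hφ, hk χ hχ, zsmul_eq_mul]
        have h1 : k φ = (k φ - k χ) + k χ := (Nat.sub_add_cancel (hmin' φ hφ)).symm
        conv_lhs => enter [1]; rw [h1, pow_add]
        push_cast; ring
      have h1 := hτψ (φ - ((p ^ (k φ - k χ) : ℕ) : ℤ) • χ)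
      rw [← hσα _ hmem, iso_sub zm_span hσ (z_sub hφ) (z_smul _ (z_sub hχ)), iso_smul hσ (z_sub hχ), ci_sub_l, ci_zsmul_l, hall φ hφ, hall χ hχ,
        mul_zero, sub_zero, ci_sub_l, ci_zsmul_l] at h1
      have h2 : classInner φ (fun l : L => ψ l) = (p : ℂ) ^ (k φ - k χ) * mm := by
        have h3 : classInner χ (fun l : L => ψ l) = mm := hmm
        rw [h3] at h1
        push_cast at h1
        linear_combination -h1
      have h4 : φ 1 = (p : ℂ) ^ (k φ - k χ) * χ 1 := by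
        have h1 : k φ = (k φ - k χ) + k χ := (Nat.sub_add_cancel (hmin' φ hφ)).symm
        rw [hk φ hφ, hk χ hχ]
        conv_lhs => rw [h1, pow_add]
        ring
      rw [← ci_conj, h2, h4]
      rw [map_mul, map_pow, map_natCast, map_intCast]
      field_simp
    obtain ⟨kk, hkk⟩ := D.hdiv hpm hZn hZ1 hZK' hZc hψ (c := (mm : ℂ) / χ 1) (fun φ h1 h2 => hφm φ (by rw [hXeq]; exact ⟨h1, h2⟩))
    refine ⟨kk - ml, ?_⟩
    show classInner (τ (χ - ((p ^ k χ : ℕ) : ℤ) • lam)) ψ = _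
    rw [hτψ, ci_sub_l, ci_zsmul_l]
    have h3 : classInner χ (fun l : L => ψ l) = mm := hmm
    have h4 : classInner lam (fun l : L => ψ l) = ml := hml
    rw [h3, h4]
    push_cast
    have h5 : (mm : ℂ) = (p : ℂ) ^ k χ * kk := by
      rw [← hkk, hk χ hχ, ← hK]
      have : (p : ℂ) ^ k χ ≠ 0 := pow_ne_zero _ hp0
      field_simp
    rw [h5]; ring

end Odd'
end CfsgLib.Coh
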