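import Cfsg.Agent.EqBase
import Cfsg.Agent.LibCoh15
/-!
# Sibley's coherence theorem, odd case III (helper16)
-/
set_option autoImplicit false
set_option linter.all false
open Cfsg CfsgLib.CharBasic CfsgLib.CharIndA CfsgLib.CharNorm CfsgLib.Sgn CfsgLib.Clifford
open scoped ComplexConjugate
namespace CfsgLib.Coh

universe u v

namespace Odd'
variable {G : Type v} [Group G] [Fintype G] {H L : Subgroup G} [Fintype L] (D : Odd' H L)
include D

theorem coherent_pgroup {p m : ℕ} (hp : p.Prime) (hpm : Nat.card (H.subgroupOf L) = p ^ m) (hnc : ¬ ⁅H.subgroupOf L, H.subgroupOf L⁆ ≤ ⊥) :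
    IsCoherent (inducedIrrAbove (H.subgroupOf L) ⊥) {1}ᶜ (fun α : L → ℂ => indFun L α) := by
  classical
  haveI := Fact.mk hp
  obtain ⟨R, hS⟩ := D.exists_R
  obtain ⟨Z, hZn, hZ1, hZK, hZc⟩ := D.exists_Z hnc
  have hmerged := D.merged hpm hZn hZ1 hZK hZc
  obtain ⟨d, n, hd, hn, hdpos, hnpos⟩ := exists_dn hS
  haveI hKn := D.normal
  haveI : Fintype (H.subgroupOf L) := Fintype.ofFinite _
  have hK'n : (⁅H.subgroupOf L, H.subgroupOf L⁆ : Subgroup L).Normal := inferInstance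
  have hZK' : Z ≤ H.subgroupOf L := hZK.trans D.comm_lt.le
  obtain ⟨lam, hlam⟩ : ∃ lam, lam ∈ inducedIrrAbove (H.subgroupOf L) ⁅H.subgroupOf L, H.subgroupOf L⁆ := by
    obtain ⟨θ₀, -, -, -, -, hlam⟩ := ia_nonempty D.solv hK'n D.comm_lt
    exact ⟨_, hlam⟩
  have hdlin : ∀ φ ∈ inducedIrrAbove (H.subgroupOf L) ⁅H.subgroupOf L, H.subgroupOf L⁆, d φ = (H.subgroupOf L).index := by
    intro φ hφ
    have h1 := hd φ (ia_bot hφ)
    rw [D.deg_lin hφ] at h1
    exact_mod_cast h1.symm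
  set K := H.subgroupOf L with hK
  set w := K.index with hw
  have hwodd : Odd w := Odd.of_dvd_nat D.hodd (Subgroup.index_dvd_card K)
  have hwpos : 0 < w := Nat.pos_of_ne_zero Subgroup.index_ne_zero_of_finite
  -- finite sets
  have hfS : (inducedIrrAbove K (⊥ : Subgroup L)).Finite := ia_finite hKn
  have hfZ : (inducedIrrAbove K Z).Finite := ia_finite hKn
  have hfY : (inducedIrrAbove K (⁅K, K⁆ : Subgroup L)).Finite := ia_finite hKn
  set FS : Finset (L → ℂ) := hfS.toFinset with hFS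
  set FZ : Finset (L → ℂ) := hfZ.toFinset with hFZ
  set FY : Finset (L → ℂ) := hfY.toFinset with hFY
  have mFS : ∀ φ, φ ∈ FS ↔ φ ∈ inducedIrrAbove K ⊥ := fun φ => hfS.mem_toFinset
  have mFZ : ∀ φ, φ ∈ FZ ↔ φ ∈ inducedIrrAbove K Z := fun φ => hfZ.mem_toFinset
  have mFY : ∀ φ, φ ∈ FY ↔ φ ∈ inducedIrrAbove K ⁅K, K⁆ := fun φ => hfY.mem_toFinset
  have hsub : FZ ⊆ FS := fun φ h => (mFS φ).mpr (ia_bot ((mFZ φ).mp h))
  set S₀ : Finset (L → ℂ) := (FS \ FZ) ∪ FY with hS₀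
  have mS₀ : ∀ φ, φ ∈ S₀ ↔ φ ∈ (inducedIrrAbove K ⊥ \ inducedIrrAbove K Z) ∪ inducedIrrAbove K ⁅K, K⁆ := by
    intro φ
    rw [hS₀, Finset.mem_union, Finset.mem_sdiff, mFS, mFZ, mFY]; rfl
  have hSset : (↑FS : Set (L → ℂ)) = inducedIrrAbove K ⊥ := by ext φ; exact mFS φ
  have hS₀set : (↑S₀ : Set (L → ℂ)) = (inducedIrrAbove K ⊥ \ inducedIrrAbove K Z) ∪ inducedIrrAbove K ⁅K, K⁆ := by ext φ; exact mS₀ φ
  have hn1 : ∀ φ ∈ FS, n φ = 1 := by
    intro φ hφ
    have h1 := hn φ ((mFS φ).mp hφ)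
    rw [irr_inner_self (D.irr φ ((mFS φ).mp hφ))] at h1
    exact_mod_cast h1.symm
  have hbotn : (⊥ : Subgroup L).Normal := inferInstance
  have htot : ∑ φ ∈ FS \ FZ, d φ ^ 2 + w * Z.relIndex K = w * Nat.card K := by
    have hre : ∀ (F : Finset (L → ℂ)), (∀ φ ∈ F, φ ∈ inducedIrrAbove K ⊥) →
        ∑ φ ∈ F, φ 1 ^ 2 / classInner φ φ = ((∑ φ ∈ F, d φ ^ 2 : ℕ) : ℂ) := by
      intro F hF
      push_cast
      exact Finset.sum_congr rfl fun φ hφ => by rw [hd φ (hF φ hφ), irr_inner_self (D.irr φ (hF φ hφ)), div_one]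
    have h1 := sum_formula hKn hbotn bot_le FS mFS
    have h2 := sum_formula hKn hZn hZK' FZ mFZ
    rw [hre FS (fun φ h => (mFS φ).mp h)] at h1
    rw [hre FZ (fun φ h => ia_bot ((mFZ φ).mp h))] at h2
    rw [← Finset.sum_sdiff hsub, Nat.cast_add, h2, Subgroup.relIndex_bot_left] at h1
    have h4 : ((∑ φ ∈ FS \ FZ, d φ ^ 2 + w * Z.relIndex K : ℕ) : ℂ) = ((w * Nat.card K : ℕ) : ℂ) := by
      push_cast at h1 ⊢
      linear_combination h1
    exact_mod_cast h4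
  -- arithmetic of `Z`
  have hZcard : 2 * w + 1 ≤ Nat.card Z := by
    apply odd_dvd_bound hwodd (Odd.of_dvd_nat D.hodd (Subgroup.card_subgroup_dvd_card Z))
    · obtain ⟨z, hz, hz1⟩ := (Subgroup.bot_or_exists_ne_one Z).resolve_left hZ1
      by_contra h
      push Not at h
      have h2 : Nat.card Z = 1 := le_antisymm h Nat.card_pos
      exact hZ1 (Subgroup.card_eq_one.mp h2)
    · exact index_dvd_central D.cent hZn hZK' hZc
  have hKZ : Nat.card K = Nat.card Z * Z.relIndex K := by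
    have h1 := Subgroup.relIndex_mul_relIndex ⊥ Z K bot_le hZK'
    rw [Subgroup.relIndex_bot_left, Subgroup.relIndex_bot_left] at h1
    exact h1.symm
  rw [← hSset]
  refine chain hS d n hd hn FS S₀ (by rw [hSset]) (fun φ h => (mFS _).mpr (ia_conj ((mFS φ).mp h))) ?_ ?_ (by rw [hS₀set]; exact hmerged) ?_
  · intro φ h
    rcases (mS₀ φ).mp h with h | h
    · exact (mFS φ).mpr h.1
    · exact (mFS φ).mpr (ia_bot h)
  · intro φ h
    apply (mS₀ _).mpr
    rcases (mS₀ φ).mp h with h | h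
    · left
      refine ⟨ia_conj h.1, fun h' => h.2 ?_⟩
      have := ia_conj h'
      rwa [conj_conj] at this
    · right; exact ia_conj h
  · intro χ hχ hχ0
    refine ⟨lam, (mS₀ _).mpr (Or.inr hlam), ?_, ?_⟩
    · rw [hdlin _ hlam]
      obtain ⟨a, ha⟩ := D.deg hp hpm ((mFS χ).mp hχ)
      rw [hd χ ((mFS χ).mp hχ)] at ha
      have : d χ = w * p ^ a := by exact_mod_cast ha
      rw [this]; exact Dvd.intro _ rfl
    · rw [hdlin _ hlam]
      have hχZ : χ ∈ inducedIrrAbove K Z := by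
        by_contra h
        exact hχ0 ((mS₀ χ).mpr (Or.inl ⟨(mFS χ).mp hχ, h⟩))
      obtain ⟨θ, hθ, hθ1, hker, hχeq⟩ := hχZ
      obtain ⟨r, hr, hr'⟩ := irr_one_nat hθ
      have hdχ : d χ = w * r := by
        have h1 := hd χ ((mFS χ).mp hχ)
        rw [hχeq, CharIndA.ind_one, hr'] at h1
        rw [hχeq]
        exact_mod_cast h1.symm
      have hr2 := degree_bound hθ (B := Z) (C := K) (D := Z) hKn le_rfl hZK' le_rfl (fun x hx y hy => by
        rw [hZc x hx y hy]; simp [Z.one_mem]) hker hr'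
      rw [Subgroup.relIndex_self, one_pow, one_mul] at hr2
      have hrel : 1 < Z.relIndex K := one_lt_relIndex (lt_of_le_of_lt hZK D.comm_lt)
      -- lower bound for the sum
      have hlow : (w : ℝ) * (Z.relIndex K * (2 * w)) ≤ ∑ φ ∈ FS.filter (fun φ => φ ∈ S₀ ∨ d φ < d χ), ((d φ : ℝ) ^ 2 / (n φ : ℝ)) := by
        have h1 : (FS \ FZ) ⊆ FS.filter (fun φ => φ ∈ S₀ ∨ d φ < d χ) := by
          intro φ hφ
          rw [Finset.mem_filter]
          exact ⟨(Finset.mem_sdiff.mp hφ).1, Or.inl (by rw [hS₀]; exact Finset.mem_union_left _ hφ)⟩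
        have h2 : ∑ φ ∈ FS \ FZ, ((d φ : ℝ) ^ 2 / (n φ : ℝ)) ≤ ∑ φ ∈ FS.filter (fun φ => φ ∈ S₀ ∨ d φ < d χ), ((d φ : ℝ) ^ 2 / (n φ : ℝ)) :=
          Finset.sum_le_sum_of_subset_of_nonneg h1 (fun φ _ _ => by positivity)
        refine le_trans ?_ h2
        have h3 : ∑ φ ∈ FS \ FZ, ((d φ : ℝ) ^ 2 / (n φ : ℝ)) = ((∑ φ ∈ FS \ FZ, d φ ^ 2 : ℕ) : ℝ) := by
          push_cast
          refine Finset.sum_congr rfl fun φ hφ => ?_
          rw [hn1 φ (Finset.mem_sdiff.mp hφ).1, Nat.cast_one, div_one]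
        rw [h3]
        have h4 : w * (Z.relIndex K * (2 * w)) ≤ ∑ φ ∈ FS \ FZ, d φ ^ 2 := by
          have h5 : w * ((2 * w + 1) * Z.relIndex K) ≤ w * Nat.card K := by
            rw [hKZ]
            exact Nat.mul_le_mul_left _ (Nat.mul_le_mul_right _ hZcard)
          nlinarith [htot, h5]
        exact_mod_cast h4
      refine lt_of_lt_of_le ?_ hlow
      rw [hdχ]
      have h6 : 2 * (w * r) * w < w * (Z.relIndex K * (2 * w)) := by
        have h7 : r < Z.relIndex K := by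
          by_contra h
          push Not at h
          nlinarith
        have h8 : 0 < 2 * w * w := by positivity
        nlinarith
      exact_mod_cast h6

/-- **Sibley's theorem**, odd case -/
theorem coherent : IsCoherent (inducedIrrAbove (H.subgroupOf L) ⊥) {1}ᶜ (fun α : L → ℂ => indFun L α) := by
  by_cases hpp : ∃ p m : ℕ, p.Prime ∧ Nat.card (H.subgroupOf L) = p ^ m
  · by_cases hc : ⁅H.subgroupOf L, H.subgroupOf L⁆ ≤ ⊥
    · exact D.coherent_of_good (Or.inr hc)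
    · obtain ⟨p, m, hp, hpm⟩ := hpp
      exact D.coherent_pgroup hp hpm hc
  · exact D.coherent_of_good (Or.inl hpp)

end Odd'
end CfsgLib.Coh
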