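import Cfsg.Agent.EqBase
import Cfsg.Agent.LibCoh12
import Cfsg.Agent.S0033
/-!
# Nilpotency of Frobenius kernels in centralizer form (helper16)
-/
set_option autoImplicit false
set_option linter.all false
open Cfsg
namespace CfsgLib.Coh

universe u v

/-- a proper normal subgroup containing the centralizers of its non-identity elements is nilpotent -/
theorem frob_nil {Γ : Type u} [Group Γ] [Finite Γ] {K : Subgroup Γ} (hN : K.Normal) (hC : ∀ k ∈ K, k ≠ 1 → Subgroup.centralizer ({k} : Set Γ) ≤ K)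
    (hK : K ≠ ⊤) : Group.IsNilpotent K := by
  haveI := Fintype.ofFinite Γ
  by_cases hK1 : K = ⊥
  · subst hK1
    infer_instance
  have hcop := CfsgLib.FrobK.coprime hN hC
  have hfpf := CfsgLib.FrobK.fpf hC
  have h1 : K.index ≠ 1 := fun h => hK (Subgroup.index_eq_one.mp h)
  obtain ⟨p, hp, hpd⟩ := Nat.exists_prime_and_dvd h1
  haveI := Fact.mk hp
  obtain ⟨x, hx⟩ := exists_prime_orderOf_dvd_card' (G := Γ) p (hpd.trans (Subgroup.index_dvd_card K))
  have hxK : x ∉ K := by
    intro h
    have h2 : p ∣ Nat.card K := by rw [← hx]; exact Subgroup.orderOf_dvd_natCard _ h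
    exact hp.one_lt.ne' (Nat.eq_one_of_dvd_coprimes hcop h2 hpd)
  have hord : orderOf (MulAut.conjNormal x : MulAut K) = p := by
    have h2 : (MulAut.conjNormal x : MulAut K) ^ p = 1 := by
      rw [← map_pow, ← hx, pow_orderOf_eq_one, map_one]
    refine orderOf_eq_prime h2 ?_
    intro h3
    obtain ⟨k, hk, hk1⟩ := (Subgroup.bot_or_exists_ne_one K).resolve_left hK1
    apply hk1
    apply hfpf x hxK k hk
    have h4 := congrArg Subtype.val (congrArg (fun f : MulAut K => f ⟨k, hk⟩) h3)
    have h5 : x * k * x⁻¹ = k := h4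
    calc x * k = (x * k * x⁻¹) * x := by group
      _ = k * x := by rw [h5]
  refine Cfsg.Agent.S0033.result (MulAut.conjNormal x : MulAut K) ?_ p hp hord
  intro k hk
  apply Subtype.ext
  apply hfpf x hxK k k.2
  have h5 : x * k * x⁻¹ = k := congrArg Subtype.val hk
  calc x * k = (x * k * x⁻¹) * x := by group
    _ = k * x := by rw [h5]

theorem odd'_of_ti {G : Type v} [Group G] [Fintype G] {H L : Subgroup G} (hodd : Odd (Nat.card L)) (hHL : H < L) (hH1 : H ≠ ⊥)
    (hHn : ∀ x ∈ L, ∀ h ∈ H, x * h * x⁻¹ ∈ H) (hC : ∀ h ∈ H, h ≠ 1 → ∀ x ∈ L, x * h = h * x → x ∈ H) (hTI : IsTISubset (H : Set G))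
    (hN : Subgroup.normalizer (H : Set G) = L) : Odd' H L where
  hodd := hodd
  hHL := hHL
  hH1 := hH1
  hnil := by
    have h1 : (H.subgroupOf L).Normal := ⟨fun n hn g => hHn g g.2 n hn⟩
    have h2 : Group.IsNilpotent (H.subgroupOf L) := by
      refine frob_nil h1 ?_ ?_
      · intro k hk hk1 x hx
        rw [Subgroup.mem_centralizer_singleton_iff] at hx
        exact hC k hk (fun h => hk1 (Subtype.ext h)) x x.2 (congrArg Subtype.val hx)
      · intro h
        rw [Subgroup.subgroupOf_eq_top] at h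
        exact absurd h (not_le_of_gt hHL)
    haveI := h2
    exact Group.nilpotent_of_mulEquiv (Subgroup.subgroupOfEquivOfLe hHL.le)
  hHn := hHn
  hC := hC
  hTI := by
    intro g hg h hh hgh
    exact hTI g (by rw [hN]; exact hg) h hh hgh

end CfsgLib.Coh
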