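import Cfsg.Agent.EqBase
import Cfsg.Agent.LibCoh14
import Cfsg.Agent.LibCoh3
import Cfsg.Agent.LibExc
import Cfsg.Agent.LibFrobNil16
/-!
# Feit's coherence theorem (helper16)
-/
set_option autoImplicit false
set_option linter.all false
open Cfsg CfsgLib.CharBasic CfsgLib.CharIndA CfsgLib.CharNorm CfsgLib.Sgn CfsgLib.Clifford
open scoped ComplexConjugate
namespace CfsgLib.Coh

universe u v

/-- `K` is the kernel of a Frobenius group `L` -/
structure Fro {L : Type u} [Group L] (K : Subgroup L) : Prop where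
  normal : K.Normal
  cent : ∀ k ∈ K, k ≠ 1 → Subgroup.centralizer ({k} : Set L) ≤ K
  ne_bot : K ≠ ⊥
  ne_top : K ≠ ⊤

namespace Fro
variable {L : Type u} [Group L] {K : Subgroup L} (D : Fro K)
include D

theorem fpf : ∀ x : L, x ∉ K → ∀ k ∈ K, x * k = k * x → k = 1 := by
  intro x hx k hk h
  by_contra hk1
  exact hx (D.cent k hk hk1 (Subgroup.mem_centralizer_singleton_iff.mpr h))

section Fin
variable [Finite L]

theorem nil : Group.IsNilpotent K := frob_nil D.normal D.cent D.ne_top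

theorem solv : Group.IsSolvable K := by
  haveI := D.nil
  infer_instance

theorem frob_quot {A : Subgroup L} (hA : A.Normal) (hAK : A ≤ K) :
    ∀ k ∈ K, k ∉ A → ∀ x : L, x * k * x⁻¹ * k⁻¹ ∈ A → x ∈ K := by
  intro k hk hkA x hx
  by_contra hxK
  apply hkA
  let f : A → A := fun u => ⟨x * u * x⁻¹ * (u : L)⁻¹, A.mul_mem (hA.conj_mem u u.2 x) (A.inv_mem u.2)⟩
  have key : ∀ u w : L, u ∈ K → w ∈ K → x * u * x⁻¹ * u⁻¹ = x * w * x⁻¹ * w⁻¹ → u = w := by
    intro u w hu hw h
    have h2 : x * (w⁻¹ * u) = (w⁻¹ * u) * x := by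
      have h3 : x * (w⁻¹ * u) = (x * w * x⁻¹)⁻¹ * (x * u * x⁻¹ * u⁻¹) * u * x := by group
      rw [h3, h]; group
    have h3 := D.fpf x hxK _ (K.mul_mem (K.inv_mem hw) hu) h2
    exact (inv_mul_eq_one.mp h3).symm
  have hf : Function.Injective f := by
    intro u w huw
    exact Subtype.ext (key u w (hAK u.2) (hAK w.2) (congrArg Subtype.val huw))
  obtain ⟨u, hu⟩ := Finite.surjective_of_injective hf ⟨_, hx⟩
  have h1 : x * u * x⁻¹ * (u : L)⁻¹ = x * k * x⁻¹ * k⁻¹ := congrArg Subtype.val hu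
  rw [← key u k (hAK u.2) hk h1]
  exact u.2

theorem quot {A : Subgroup L} [hA : A.Normal] (hAK : A < K) : Fro (K.map (QuotientGroup.mk' A)) := by
  have hmem : ∀ x : L, QuotientGroup.mk' A x ∈ K.map (QuotientGroup.mk' A) ↔ x ∈ K := by
    intro x
    constructor
    · rintro ⟨y, hy, hyx⟩
      have h2 : QuotientGroup.mk' A (y⁻¹ * x) = 1 := by rw [map_mul, map_inv, hyx, inv_mul_cancel]
      have h3 := K.mul_mem hy (hAK.le ((QuotientGroup.eq_one_iff _).mp h2))
      rwa [mul_inv_cancel_left] at h3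
    · intro hx; exact ⟨x, hx, rfl⟩
  refine ⟨D.normal.map _ (QuotientGroup.mk'_surjective A), ?_, ?_, ?_⟩
  · rintro _ ⟨k, hk, rfl⟩ hk1 y hy
    obtain ⟨x, rfl⟩ := QuotientGroup.mk'_surjective A y
    have hkA : k ∉ A := fun h => hk1 ((QuotientGroup.eq_one_iff _).mpr h)
    rw [hmem]
    apply D.frob_quot hA hAK.le k hk hkA x
    rw [← QuotientGroup.eq_one_iff]
    show QuotientGroup.mk' A (x * k * x⁻¹ * k⁻¹) = 1
    rw [map_mul, map_mul, map_mul, map_inv, map_inv, Subgroup.mem_centralizer_singleton_iff.mp hy]; group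
  · intro h
    rw [Subgroup.map_eq_bot_iff, QuotientGroup.ker_mk'] at h
    exact absurd h (not_le_of_gt hAK)
  · intro h
    apply D.ne_top
    rw [eq_top_iff]
    intro x _
    rw [← hmem, h]; trivial

theorem comm_lt : ⁅K, K⁆ < K := by
  haveI := D.normal
  have hle : ⁅K, K⁆ ≤ K := Subgroup.commutator_le_right _ _
  refine lt_of_le_of_ne hle fun h => ?_
  have h1 : (⊤ : Subgroup K) ≤ ⁅(⊤ : Subgroup K), ⊤⁆ := by
    rw [← Subgroup.map_le_map_iff_of_injective K.subtype_injective, Subgroup.map_commutator, ← MonoidHom.range_eq_map, Subgroup.range_subtype, h]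
  have h2 := nil_comm D.nil ⊤ h1
  apply D.ne_bot
  rw [eq_bot_iff]
  intro x hx
  have h3 : (⟨x, hx⟩ : K) ∈ (⊤ : Subgroup K) := trivial
  rw [h2, Subgroup.mem_bot] at h3
  exact congrArg Subtype.val h3

theorem index_map {A : Subgroup L} [hA : A.Normal] (hAK : A ≤ K) : (K.map (QuotientGroup.mk' A)).index = K.index := by
  rw [← Subgroup.index_comap_of_surjective _ (QuotientGroup.mk'_surjective A), Subgroup.comap_map_eq, QuotientGroup.ker_mk', sup_eq_left.mpr hAK]

/-- the index of the kernel divides `|E : A| - 1` when `E / A` is central in `K / A` -/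
theorem index_dvd_rel {A E : Subgroup L} [hA : A.Normal] (hE : E.Normal) (hAE : A ≤ E) (hEK : E ≤ K) (hAK : A < K)
    (hc : ∀ x ∈ E, ∀ y ∈ K, x * y * x⁻¹ * y⁻¹ ∈ A) : K.index ∣ A.relIndex E - 1 := by
  have D' := D.quot hAK
  have h1 := index_dvd_central D'.cent (hE.map _ (QuotientGroup.mk'_surjective A)) (Subgroup.map_mono hEK) (by
    rintro _ ⟨x, hx, rfl⟩ _ ⟨y, hy, rfl⟩
    have h2 : QuotientGroup.mk' A (x * y * x⁻¹ * y⁻¹) = 1 := (QuotientGroup.eq_one_iff _).mpr (hc x hx y hy)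
    rw [map_mul, map_mul, map_mul, map_inv, map_inv] at h2
    calc QuotientGroup.mk' A x * QuotientGroup.mk' A y = (QuotientGroup.mk' A x * QuotientGroup.mk' A y * (QuotientGroup.mk' A x)⁻¹ * (QuotientGroup.mk' A y)⁻¹) * QuotientGroup.mk' A y * QuotientGroup.mk' A x := by group
      _ = _ := by rw [h2, one_mul])
  rw [D.index_map hAK.le] at h1
  have h3 : Nat.card (E.map (QuotientGroup.mk' A)) = A.relIndex E := by
    rw [← Subgroup.relIndex_bot_left]
    have h4 := Subgroup.relIndex_comap (H := (⊥ : Subgroup (L ⧸ A))) (QuotientGroup.mk' A) E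
    rw [← h4, MonoidHom.comap_bot, QuotientGroup.ker_mk']
  rwa [h3] at h1


/-- a section `E / B` central in `K / B` with `E` strictly above `A` -/
theorem exists_chief (hnp : ¬ ∃ p m : ℕ, p.Prime ∧ Nat.card K = p ^ m) {A : Subgroup L} (hA : A.Normal) (hA1 : A ≠ ⊥) (hAK : A ≤ ⁅K, K⁆) :
    ∃ B E : Subgroup L, B.Normal ∧ E.Normal ∧ B < A ∧ A < E ∧ E ≤ K ∧ (∀ x ∈ E, ∀ y ∈ K, x * y * x⁻¹ * y⁻¹ ∈ B) := by
  classical
  haveI hKn := D.normal
  haveI := D.nil
  -- choose `B` maximal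
  obtain ⟨B, ⟨hBn, hBA⟩, hBmax⟩ : ∃ B : Subgroup L, (B.Normal ∧ B < A) ∧ ∀ B' : Subgroup L, B'.Normal → B' < A → B ≤ B' → B' = B := by
    have hfin : Set.Finite {B : Subgroup L | B.Normal ∧ B < A} := Set.toFinite _
    obtain ⟨B, hB⟩ := hfin.exists_maximal ⟨⊥, inferInstance, bot_lt_iff_ne_bot.mpr hA1⟩
    exact ⟨B, hB.1, fun B' h1 h2 h3 => le_antisymm (hB.2 ⟨h1, h2⟩ h3) h3⟩
  have hAK' : A ≤ K := hAK.trans D.comm_lt.le
  have hBK : B < K := lt_of_lt_of_le hBA hAK'
  have hstep : ∀ B' : Subgroup L, B'.Normal → B ≤ B' → B' ≤ A → B' = B ∨ B' = A := by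
    intro B' h1 h2 h3
    rcases eq_or_lt_of_le h3 with h | h
    · exact Or.inr h
    · exact Or.inl (hBmax B' h1 h h2)
  -- `[A, K] ≤ B`
  have hcentral : ⁅A, K⁆ ≤ B := by
    have h1 : (⁅A, K⁆ ⊔ B : Subgroup L).Normal := inferInstance
    rcases hstep _ h1 le_sup_right (sup_le (Subgroup.commutator_le_left A K) hBA.le) with h | h
    · rw [← h]; exact le_sup_left
    · exfalso
      haveI : (B.subgroupOf K).Normal := Subgroup.Normal.subgroupOf hBn _
      have h2 := nil_step (M := B) (A := A) (H := K) hBA.le hAK' inferInstance h.ge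
      exact absurd h2 (not_le_of_gt hBA)
  -- `A / B` is a minimal normal subgroup
  set f := QuotientGroup.mk' B with hf
  have hmin : CfsgLib.SolvMin.IsMinNormal (A.map f) := by
    refine ⟨hA.map f (QuotientGroup.mk'_surjective B), ?_, ?_⟩
    · intro h
      rw [Subgroup.map_eq_bot_iff, QuotientGroup.ker_mk'] at h
      exact absurd h (not_le_of_gt hBA)
    · intro M' hM' hM'A
      have h1 : (M'.comap f).Normal := hM'.comap f
      have h2 : B ≤ M'.comap f := by
        conv_lhs => rw [← QuotientGroup.ker_mk' B]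
        exact MonoidHom.ker_le_comap (f := QuotientGroup.mk' B) M'
      have h3 : M'.comap f ≤ A := by
        intro x hx
        obtain ⟨a, ha, hax⟩ := hM'A hx
        have h4 : f (a⁻¹ * x) = 1 := by rw [map_mul, map_inv, hax, inv_mul_cancel]
        have h5 := A.mul_mem ha (hBA.le ((QuotientGroup.eq_one_iff _).mp h4))
        rwa [mul_inv_cancel_left] at h5
      rcases hstep _ h1 h2 h3 with h | h
      · left
        rw [← Subgroup.map_comap_eq_self_of_surjective (QuotientGroup.mk'_surjective B) M', h, Subgroup.map_eq_bot_iff, QuotientGroup.ker_mk']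
      · right
        rw [← Subgroup.map_comap_eq_self_of_surjective (QuotientGroup.mk'_surjective B) M', h]
  haveI : IsMulCommutative (A.map f) := by
    refine ⟨⟨?_⟩⟩
    rintro ⟨_, a, ha, rfl⟩ ⟨_, b, hb, rfl⟩
    apply Subtype.ext
    show f a * f b = f b * f a
    have h1 : a * b * a⁻¹ * b⁻¹ ∈ B := hcentral (Subgroup.commutator_mem_commutator ha (hAK' hb))
    have h2 : f (a * b * a⁻¹ * b⁻¹) = 1 := (QuotientGroup.eq_one_iff _).mpr h1
    rw [map_mul, map_mul, map_mul, map_inv, map_inv] at h2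
    calc f a * f b = (f a * f b * (f a)⁻¹ * (f b)⁻¹) * f b * f a := by group
      _ = _ := by rw [h2, one_mul]
  obtain ⟨r, hr, hexp⟩ := hmin.exists_prime
  -- a prime `q ≠ r`
  have hK'n : (⁅K, K⁆ : Subgroup L).Normal := inferInstance
  haveI : ((⊥ : Subgroup L).subgroupOf K).Normal := Subgroup.Normal.subgroupOf inferInstance _
  obtain ⟨q, hq, hqd, hqr⟩ : ∃ q : ℕ, q.Prime ∧ q ∣ (⁅K, K⁆ : Subgroup L).relIndex K ∧ q ≠ r := by
    by_contra hcon
    push Not at hcon
    apply hnp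
    have h1 := Nat.eq_prime_pow_of_unique_prime_dvd (relIndex_pos' (⁅K, K⁆ : Subgroup L) K).ne' (fun {d} hd hdd => hcon d hd hdd)
    obtain ⟨m', hm'⟩ := prime_pow_of (M := ⊥) bot_le (K := K) (H₁ := ⁅K, K⁆) inferInstance (by rw [sup_bot_eq]) hK'n D.comm_lt.le hr h1
    rw [Subgroup.relIndex_bot_left] at hm'
    exact ⟨r, m', hr, hm'⟩
  haveI := Fact.mk hq
  -- `E`
  have hE : ∀ x y : L, f x * f y = f y * f x ↔ x * y * x⁻¹ * y⁻¹ ∈ B := by
    intro x y
    constructor
    · intro h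
      rw [← QuotientGroup.eq_one_iff]
      show f (x * y * x⁻¹ * y⁻¹) = 1
      rw [map_mul, map_mul, map_mul, map_inv, map_inv, h]; group
    · intro h
      have h2 : f (x * y * x⁻¹ * y⁻¹) = 1 := (QuotientGroup.eq_one_iff _).mpr h
      rw [map_mul, map_mul, map_mul, map_inv, map_inv] at h2
      calc f x * f y = (f x * f y * (f x)⁻¹ * (f y)⁻¹) * f y * f x := by group
        _ = _ := by rw [h2, one_mul]
  haveI hKm : (K.map f).Normal := hKn.map f (QuotientGroup.mk'_surjective B)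
  set E := K ⊓ (Subgroup.centralizer ((K.map f : Subgroup (L ⧸ B)) : Set (L ⧸ B))).comap f with hEdef
  have hEn : E.Normal := inferInstance
  have hEmem : ∀ x, x ∈ E ↔ x ∈ K ∧ ∀ y ∈ K, x * y * x⁻¹ * y⁻¹ ∈ B := by
    intro x
    rw [hEdef, Subgroup.mem_inf, Subgroup.mem_comap, Subgroup.mem_centralizer_iff]
    refine and_congr_right fun _ => ?_
    constructor
    · intro h y hy
      exact (hE x y).mp (h _ ⟨y, hy, rfl⟩).symm
    · rintro h _ ⟨y, hy, rfl⟩
      exact ((hE x y).mpr (h y hy)).symm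
  have hAE : A ≤ E := fun x hx => (hEmem x).mpr ⟨hAK' hx, fun y hy => hcentral (Subgroup.commutator_mem_commutator hx hy)⟩
  refine ⟨B, E, hBn, hEn, hBA, lt_of_le_of_ne hAE ?_, inf_le_left, fun x hx => ((hEmem x).mp hx).2⟩
  intro hAEeq
  -- the Sylow `q`-subgroup of `K / B`
  haveI hnilm : Group.IsNilpotent (K.map f) := Group.nilpotent_of_surjective (f.subgroupMap K) (f.subgroupMap_surjective K)
  obtain ⟨T⟩ : Nonempty (Sylow q (K.map f)) := inferInstance
  haveI hTn : (T : Subgroup (K.map f)).Normal := (Group.isNilpotent_of_finite_tfae.out 0 3 rfl rfl).mp hnilm q inferInstance T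
  have hT1 : (T : Subgroup (K.map f)) ≠ ⊥ := by
    intro h
    have h1 : Nat.card (K.map f) = B.relIndex K := by
      rw [← Subgroup.relIndex_bot_left]
      have h4 := Subgroup.relIndex_comap (H := (⊥ : Subgroup (L ⧸ B))) f K
      rw [← h4, MonoidHom.comap_bot, QuotientGroup.ker_mk']
    have h2 : q ∣ Nat.card (K.map f) := by
      rw [h1]
      refine hqd.trans ?_
      exact ⟨_, (by rw [mul_comm]; exact (Subgroup.relIndex_mul_relIndex B (⁅K, K⁆ : Subgroup L) K (hBA.le.trans hAK) D.comm_lt.le).symm)⟩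
    have h3 := T.card_eq_multiplicity
    rw [h, Subgroup.card_bot] at h3
    have h4 : (Nat.card (K.map f)).factorization q ≠ 0 := (hq.factorization_pos_of_dvd Nat.card_pos.ne' h2).ne'
    have h5 : 1 < q ^ (Nat.card (K.map f)).factorization q := Nat.one_lt_pow h4 hq.one_lt
    omega
  obtain ⟨x, ⟨hxT, hxc⟩, hx1⟩ := (Subgroup.bot_or_exists_ne_one _).resolve_left (CfsgLib.SolvNilp.inf_center_ne_bot _ hT1)
  obtain ⟨⟨_, k, hk, rfl⟩, hkx⟩ : ∃ y, y = x := ⟨x, rfl⟩
  have hkE : k ∈ E := by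
    rw [hEmem]
    refine ⟨hk, fun y hy => (hE k y).mp ?_⟩
    have h1 := Subgroup.mem_center_iff.mp hxc ⟨f y, y, hy, rfl⟩
    rw [← hkx] at h1
    exact (congrArg Subtype.val h1).symm
  rw [← hAEeq] at hkE
  have h1 : (f k) ^ r = 1 := hexp _ ⟨k, hkE, rfl⟩
  obtain ⟨n, hn⟩ := T.isPGroup' ⟨x, hxT⟩
  have h2 : (f k) ^ q ^ n = 1 := by
    have h3 : x ^ q ^ n = 1 := congrArg Subtype.val hn
    rw [← hkx] at h3
    exact congrArg Subtype.val h3
  have h3 : orderOf (f k) = 1 := Nat.eq_one_of_dvd_coprimes (Nat.Coprime.pow_left n ((Nat.coprime_primes hq hr).mpr hqr)) (orderOf_dvd_of_pow_eq_one h2)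
    (orderOf_dvd_of_pow_eq_one h1)
  rw [orderOf_eq_one_iff] at h3
  apply hx1
  rw [← hkx]
  exact Subtype.ext h3

end Fin
end Fro
end CfsgLib.Coh
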