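import Cfsg.Agent.EqBase
import Cfsg.Agent.LibCoh21
/-!
# Feit's coherence theorem, II (helper16)
-/
set_option autoImplicit false
set_option linter.all false
open Cfsg CfsgLib.CharBasic CfsgLib.CharIndA CfsgLib.CharNorm CfsgLib.Sgn CfsgLib.Clifford
open scoped ComplexConjugate
namespace CfsgLib.Coh

universe u v

namespace Fro
variable {L : Type u} [Group L] [Fintype L] {K : Subgroup L} (D : Fro K)
include D

theorem irr {A : Subgroup L} : ∀ φ ∈ inducedIrrAbove K A, IsIrrCharacter L φ := by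
  rintro φ ⟨θ, h1, h2, -, rfl⟩
  exact CfsgLib.FrobK.ind_irr D.normal D.fpf θ h1 h2

theorem mem_S {φ : L → ℂ} (h : IsIrrCharacter L φ) (h' : ∃ z ∈ K, φ z ≠ φ 1) : φ ∈ inducedIrrAbove K ⊥ := by
  obtain ⟨θ, h1, h2, h3⟩ := CfsgLib.FrobK.rel_exists D.normal D.fpf ⟨h, h'⟩
  exact ⟨θ, h1, h2, fun a ha => by rw [show a = 1 from Subtype.ext (Subgroup.mem_bot.mp ha)], h3⟩

theorem S_eq : {χ : L → ℂ | IsIrrCharacter L χ ∧ ∃ h ∈ K, χ h ≠ χ 1} = inducedIrrAbove K ⊥ := by
  ext χ
  constructor
  · rintro ⟨h1, h2⟩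
    exact D.mem_S h1 h2
  · rintro ⟨θ, h1, h2, -, rfl⟩
    exact CfsgLib.FrobK.rel_ind D.normal D.fpf h1 h2

theorem deg_lin {A : Subgroup L} (hA : ⁅K, K⁆ ≤ A) (hAK : A ≤ K) {φ : L → ℂ} (hφ : φ ∈ inducedIrrAbove K A) : φ 1 = (K.index : ℂ) := by
  haveI : Fintype K := Fintype.ofFinite _
  obtain ⟨θ, hθ, -, hker, rfl⟩ := hφ
  obtain ⟨m, hm, hm'⟩ := irr_one_nat hθ
  have h1 := degree_bound hθ (B := A) (C := K) (D := K) D.normal hAK le_rfl le_rfl
    (fun x hx y hy => hA (Subgroup.commutator_mem_commutator hx hy)) hker hm'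
  rw [Subgroup.relIndex_self, one_pow, one_mul] at h1
  have h2 : m = 1 := by nlinarith
  rw [CharIndA.ind_one, hm', h2]; simp

variable {G : Type v} [Group G] [Fintype G] {τ : (L → ℂ) → (G → ℂ)} (hτ : IsLinearIsometryOn (zspanOn (inducedIrrAbove K ⊥) {1}ᶜ) τ)
  (hτ1 : ∀ α ∈ zspanOn (inducedIrrAbove K ⊥) {1}ᶜ, τ α 1 = 0)
include hτ hτ1

/-- coherence of the induced linear characters -/
theorem uniform {A : Subgroup L} (hAn : A.Normal) (hA : ⁅K, K⁆ ≤ A) (hAK : A ≤ K) (hbig : K.index + 1 < A.relIndex K) :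
    IsCoherent (inducedIrrAbove K A) {1}ᶜ τ := by
  classical
  have hS : inducedIrrAbove K A ⊆ inducedIrrAbove K ⊥ := ia_bot
  have hfin : (inducedIrrAbove K A).Finite := ia_finite D.normal
  have hw : (K.index : ℂ) ≠ 0 := by exact_mod_cast Subgroup.index_ne_zero_of_finite
  -- at least two members
  have hcard : hfin.toFinset.card * K.index = A.relIndex K - 1 := by
    have h1 := sum_formula D.normal hAn hAK hfin.toFinset (fun φ => hfin.mem_toFinset)
    have h2 : ∑ φ ∈ hfin.toFinset, φ 1 ^ 2 / classInner φ φ = (hfin.toFinset.card : ℂ) * (K.index : ℂ) ^ 2 := by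
      rw [← nsmul_eq_mul, ← Finset.sum_const]
      refine Finset.sum_congr rfl fun φ hφ => ?_
      have hφ' := hfin.mem_toFinset.mp hφ
      rw [irr_inner_self (D.irr φ hφ'), D.deg_lin hA hAK hφ', div_one]
    rw [h2] at h1
    have h3 : (K.index : ℂ) * ((hfin.toFinset.card : ℂ) * K.index - ((A.relIndex K : ℂ) - 1)) = 0 := by linear_combination h1
    have h4 := (mul_eq_zero.mp h3).resolve_left hw
    have h5 : ((hfin.toFinset.card * K.index + 1 : ℕ) : ℂ) = (A.relIndex K : ℂ) := by push_cast; linear_combination h4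
    have h6 : hfin.toFinset.card * K.index + 1 = A.relIndex K := by exact_mod_cast h5
    omega
  have htwo : 1 < hfin.toFinset.card := by
    by_contra h
    push Not at h
    have : hfin.toFinset.card * K.index ≤ 1 * K.index := Nat.mul_le_mul_right _ h
    omega
  obtain ⟨lam, hlam, φ₀, hφ₀, hne₀⟩ := Finset.one_lt_card.mp htwo
  rw [hfin.mem_toFinset] at hlam hφ₀
  let ι := {φ : L → ℂ // φ ∈ inducedIrrAbove K A}
  have m : ∀ φ ∈ inducedIrrAbove K A, φ - lam ∈ zspanOn (inducedIrrAbove K ⊥) {1}ᶜ := by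
    intro φ hφ
    rw [mem_z1]
    exact ⟨z_minus (z_sub (hS hφ)) (z_sub (hS hlam)), by rw [Pi.sub_apply, D.deg_lin hA hAK hφ, D.deg_lin hA hAK hlam, sub_self]⟩
  obtain ⟨ε, hε, μ, hμ1, hμ2, hμ3⟩ := CfsgLib.Exc.exceptional (G := G) (ι := ι) ⟨lam, hlam⟩ (fun φ => τ (φ.1 - lam)) (by
      beta_reduce
      rw [sub_self]; exact iso_zero zm_on hτ) (fun φ => iso_gen hτ (m φ.1 φ.2)) (fun φ => hτ1 _ (m φ.1 φ.2)) (by
      intro φ hφ
      have hne : φ.1 ≠ lam := fun h => hφ (Subtype.ext h)
      beta_reduce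
      rw [iso_inner hτ (m φ.1 φ.2) (m φ.1 φ.2), ci_sub_l, ci_sub_r, ci_sub_r, irr_inner_self (D.irr _ φ.2), irr_inner_self (D.irr _ hlam),
        irr_inner_ne (D.irr _ φ.2) (D.irr _ hlam) hne, irr_inner_ne (D.irr _ hlam) (D.irr _ φ.2) (Ne.symm hne)]
      norm_num) (by
      intro φ ψ hφ hψ hφψ
      have hne : φ.1 ≠ lam := fun h => hφ (Subtype.ext h)
      have hne' : ψ.1 ≠ lam := fun h => hψ (Subtype.ext h)
      have hne'' : φ.1 ≠ ψ.1 := fun h => hφψ (Subtype.ext h)
      beta_reduce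
      rw [iso_inner hτ (m φ.1 φ.2) (m ψ.1 ψ.2), ci_sub_l, ci_sub_r, ci_sub_r, irr_inner_self (D.irr _ hlam),
        irr_inner_ne (D.irr _ φ.2) (D.irr _ hlam) hne, irr_inner_ne (D.irr _ hlam) (D.irr _ ψ.2) (Ne.symm hne'), irr_inner_ne (D.irr _ φ.2) (D.irr _ ψ.2) hne'']
      norm_num)
  have hεε : ε * conj ε = 1 := by rcases hε with h | h <;> rw [h] <;> simp
  have hmz : IsLinearIsometryOn (zspanOn (inducedIrrAbove K A) {1}ᶜ) τ := iso_mono hτ (z1_mono hS)
  refine glue (lam := lam) D.irr hmz hlam (fun _ => 1) (fun φ hφ => by rw [D.deg_lin hA hAK hφ, D.deg_lin hA hAK hlam]; simp) (ν := ε • μ ⟨lam, hlam⟩) ?_ ?_ ?_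
    ⟨φ₀, hφ₀, Ne.symm hne₀⟩
  · rcases hε with h | h
    · rw [h, one_smul]; exact gen_of_irr (hμ1 _)
    · rw [h, neg_one_smul]; exact gen_neg (gen_of_irr (hμ1 _))
  · rw [ci_smul_l, ci_smul_r, irr_inner_self (hμ1 _), mul_one, hεε]
  · intro φ hφ hne
    have h1 := hμ3 ⟨φ, hφ⟩
    beta_reduce at h1
    have h2 : φ - ((1 : ℕ) : ℤ) • lam = φ - lam := by simp
    rw [h2, h1, ci_smul_l, ci_smul_r, ci_sub_l, irr_inner_self (hμ1 _),
      irr_inner_ne (hμ1 _) (hμ1 _) (fun h => hne (congrArg Subtype.val (hμ2 h)))]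
    linear_combination -hεε

/-- one step of the descent -/
theorem step {A B : Subgroup L} (hAn : A.Normal) (hAK : A < K) (hBA : B ≤ A) (hcoh : IsCoherent (inducedIrrAbove K A) {1}ᶜ τ)
    (hb : ∀ θ : K → ℂ, IsIrrCharacter K θ → (∀ a : K, (a : L) ∈ B → θ a = θ 1) → ∀ m : ℕ, θ 1 = m → 2 * K.index * m < A.relIndex K - 1) :
    IsCoherent (inducedIrrAbove K B) {1}ᶜ τ := by
  classical
  haveI : Fintype K := Fintype.ofFinite _
  have hSA : inducedIrrAbove K A ⊆ inducedIrrAbove K ⊥ := ia_bot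
  have hSB : inducedIrrAbove K B ⊆ inducedIrrAbove K ⊥ := ia_bot
  have hAB : inducedIrrAbove K A ⊆ inducedIrrAbove K B := ia_mono hBA
  have hfA : (inducedIrrAbove K A).Finite := ia_finite D.normal
  have hfB : (inducedIrrAbove K B).Finite := ia_finite D.normal
  have hd : ∀ φ : L → ℂ, ∃ m : ℕ, φ ∈ inducedIrrAbove K ⊥ → φ 1 = (m : ℂ) := by
    intro φ
    by_cases h : φ ∈ inducedIrrAbove K ⊥
    · obtain ⟨m, -, hm⟩ := irr_one_nat (D.irr φ h)
      exact ⟨m, fun _ => hm⟩
    · exact ⟨0, fun h' => absurd h' h⟩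
  choose d hd using hd
  -- the linear member
  obtain ⟨θ₀, hθ₀, hθ₀1, hker, hθd, hlam⟩ := ia_nonempty D.solv hAn hAK
  have hdlam : d (indFun K θ₀) = K.index := by
    have h1 := hd _ (hSA hlam)
    rw [CharIndA.ind_one, hθd, mul_one] at h1
    exact_mod_cast h1.symm
  have hsumA : ∑ φ ∈ hfA.toFinset, d φ ^ 2 = K.index * (A.relIndex K - 1) := by
    have h1 := sum_formula D.normal hAn hAK.le hfA.toFinset (fun φ => hfA.mem_toFinset)
    have h2 : ∑ φ ∈ hfA.toFinset, φ 1 ^ 2 / classInner φ φ = ((∑ φ ∈ hfA.toFinset, d φ ^ 2 : ℕ) : ℂ) := by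
      push_cast
      refine Finset.sum_congr rfl fun φ hφ => ?_
      have hφ' := hfA.mem_toFinset.mp hφ
      rw [irr_inner_self (D.irr φ hφ'), div_one, hd φ (hSA hφ')]
    rw [h2] at h1
    have hpos : 1 ≤ A.relIndex K := relIndex_pos' A K
    have h3 : ((∑ φ ∈ hfA.toFinset, d φ ^ 2 : ℕ) : ℂ) = ((K.index * (A.relIndex K - 1) : ℕ) : ℂ) := by
      rw [h1]; push_cast [hpos]; ring
    exact_mod_cast h3
  have key : ∀ W : Finset (L → ℂ), W ⊆ hfB.toFinset → IsCoherent (↑(hfA.toFinset ∪ W) : Set (L → ℂ)) {1}ᶜ τ := by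
    intro W
    induction W using Finset.induction_on with
    | empty =>
      intro _
      rw [Finset.union_empty]
      have : (↑hfA.toFinset : Set (L → ℂ)) = inducedIrrAbove K A := by ext φ; exact hfA.mem_toFinset
      rw [this]; exact hcoh
    | insert χ W hχW ih =>
      intro hW
      have hχB : χ ∈ inducedIrrAbove K B := hfB.mem_toFinset.mp (hW (Finset.mem_insert_self _ _))
      have hWB : W ⊆ hfB.toFinset := fun φ h => hW (Finset.mem_insert_of_mem h)
      have ih' := ih hWB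
      have hsub : ∀ φ ∈ hfA.toFinset ∪ W, φ ∈ inducedIrrAbove K ⊥ := by
        intro φ hφ
        rcases Finset.mem_union.mp hφ with h | h
        · exact hSA (hfA.mem_toFinset.mp h)
        · exact hSB (hfB.mem_toFinset.mp (hWB h))
      rw [Finset.union_insert]
      by_cases hχ0 : χ ∈ hfA.toFinset ∪ W
      · rw [Finset.insert_eq_self.mpr hχ0]; exact ih'
      · have hS' : (↑(insert χ (hfA.toFinset ∪ W)) : Set (L → ℂ)) ⊆ inducedIrrAbove K ⊥ := by
          intro φ hφ
          rcases Finset.mem_insert.mp hφ with h | h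
          · rw [h]; exact hSB hχB
          · exact hsub φ h
        refine add_one (fun ξ hξ => D.irr ξ (hsub ξ hξ)) (D.irr χ (hSB hχB)) hχ0 d (fun ξ hξ => hd ξ (hsub ξ hξ)) (hd χ (hSB hχB))
          (by rw [Finset.coe_insert]) (iso_mono hτ (z1_mono hS')) (fun α hα => hτ1 α (z1_mono hS' hα)) ih' (ψ := indFun K θ₀)
          (Finset.mem_union_left _ (hfA.mem_toFinset.mpr hlam)) ?_ ?_
        · rw [hdlam]
          obtain ⟨θ, hθ, hθ1', hkerB, hχeq⟩ := hχB
          obtain ⟨m, -, hm⟩ := irr_one_nat hθ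
          have h1 := hd χ (hSB ⟨θ, hθ, hθ1', hkerB, hχeq⟩)
          rw [hχeq, CharIndA.ind_one, hm] at h1
          have h2 : d χ = K.index * m := by rw [hχeq]; exact_mod_cast h1.symm
          exact ⟨m, h2⟩
        · rw [hdlam]
          obtain ⟨θ, hθ, hθ1', hkerB, hχeq⟩ := hχB
          obtain ⟨m, -, hm⟩ := irr_one_nat hθ
          have h1 := hd χ (hSB ⟨θ, hθ, hθ1', hkerB, hχeq⟩)
          rw [hχeq, CharIndA.ind_one, hm] at h1
          have h2 : d χ = K.index * m := by rw [hχeq]; exact_mod_cast h1.symm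
          have h3 := hb θ hθ hkerB m hm
          have h4 : ∑ φ ∈ hfA.toFinset, d φ ^ 2 ≤ ∑ ξ ∈ hfA.toFinset ∪ W, d ξ ^ 2 :=
            Finset.sum_le_sum_of_subset Finset.subset_union_left
          rw [hsumA] at h4
          refine lt_of_lt_of_le ?_ h4
          rw [h2]
          have h5 : 0 < K.index := Nat.pos_of_ne_zero Subgroup.index_ne_zero_of_finite
          calc 2 * K.index * (K.index * m) = K.index * (2 * K.index * m) := by ring
            _ < K.index * (A.relIndex K - 1) := Nat.mul_lt_mul_of_pos_left h3 h5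
  have h1 := key hfB.toFinset (Finset.Subset.refl _)
  have h2 : (↑(hfA.toFinset ∪ hfB.toFinset) : Set (L → ℂ)) = inducedIrrAbove K B := by
    ext φ
    rw [Finset.mem_coe, Finset.mem_union, hfA.mem_toFinset, hfB.mem_toFinset]
    exact ⟨fun h => h.elim (fun h => hAB h) id, Or.inr⟩
  rw [← h2]; exact h1

/-- **Feit's theorem** -/
theorem feit (he : Nat.card K ≠ K.index + 1) (hcase : ⁅K, K⁆ ≤ ⊥ ∨ (¬ ∃ p m : ℕ, p.Prime ∧ Nat.card K = p ^ m) ∨ 4 * K.index ^ 2 + 1 < (⁅K, K⁆ : Subgroup L).relIndex K) :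
    IsCoherent (inducedIrrAbove K ⊥) {1}ᶜ τ := by
  classical
  haveI hKn := D.normal
  haveI hKnil := D.nil
  haveI : Fintype K := Fintype.ofFinite _
  have hK'n : (⁅K, K⁆ : Subgroup L).Normal := inferInstance
  have hwpos : 0 < K.index := Nat.pos_of_ne_zero Subgroup.index_ne_zero_of_finite
  have hKcard : 1 < Nat.card K := by
    by_contra h
    push Not at h
    exact D.ne_bot (Subgroup.card_eq_one.mp (le_antisymm h Nat.card_pos))
  have hdvd1 : ∀ {A E : Subgroup L}, A.Normal → E.Normal → A < E → E ≤ K → (∀ x ∈ E, ∀ y ∈ K, x * y * x⁻¹ * y⁻¹ ∈ A) → K.index + 1 ≤ A.relIndex E := by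
    intro A E hA hE hAE hEK hc
    haveI := hA
    have h1 := D.index_dvd_rel hE hAE.le hEK (lt_of_lt_of_le hAE hEK) hc
    have h2 := one_lt_relIndex hAE
    have h3 := Nat.le_of_dvd (by omega) h1
    omega
  by_cases hab : ⁅K, K⁆ ≤ ⊥
  · -- abelian
    have h1 : ⁅K, K⁆ = ⊥ := le_bot_iff.mp hab
    refine D.uniform hτ hτ1 (A := ⊥) inferInstance hab bot_le ?_
    rw [Subgroup.relIndex_bot_left]
    have h2 := hdvd1 (A := ⊥) (E := K) inferInstance hKn (bot_lt_iff_ne_bot.mpr D.ne_bot) le_rfl (fun x hx y hy => by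
      rw [← h1]; exact Subgroup.commutator_mem_commutator hx hy)
    rw [Subgroup.relIndex_bot_left] at h2
    omega
  · have hK'1 : ⁅K, K⁆ ≠ ⊥ := fun h => hab h.le
    have hcase' := hcase.resolve_left hab
    -- lower bound for the index of the derived subgroup
    have hbase : K.index + 1 < (⁅K, K⁆ : Subgroup L).relIndex K := by
      by_cases hnp : ∃ p m : ℕ, p.Prime ∧ Nat.card K = p ^ m
      · have h1 := hcase'.resolve_left (fun h => h hnp)
        nlinarith
      · obtain ⟨B, E, hB, hE, hBA, hAE, hEK, hc⟩ := D.exists_chief hnp hK'n hK'1 le_rfl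
        rcases eq_or_lt_of_le hEK with h | h
        · exfalso
          rw [h] at hc
          have : ⁅K, K⁆ ≤ B := by
            rw [Subgroup.commutator_le]
            intro x hx y hy
            exact hc x hx y hy
          exact absurd this (not_le_of_gt hBA)
        · have h1 := hdvd1 hK'n hE hAE hEK (fun x hx y hy => Subgroup.commutator_mem_commutator (hEK hx) hy)
          have h2 := one_lt_relIndex h
          have h3 := Subgroup.relIndex_mul_relIndex (⁅K, K⁆ : Subgroup L) E K hAE.le hEK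
          nlinarith
    have hstart : IsCoherent (inducedIrrAbove K ⁅K, K⁆) {1}ᶜ τ := D.uniform hτ hτ1 hK'n le_rfl D.comm_lt.le hbase
    -- descend
    have key : ∀ (n : ℕ) (A : Subgroup L), Nat.card A = n → A.Normal → A ≤ ⁅K, K⁆ → IsCoherent (inducedIrrAbove K A) {1}ᶜ τ → IsCoherent (inducedIrrAbove K ⊥) {1}ᶜ τ := by
      intro n
      induction n using Nat.strong_induction_on with
      | _ n ih =>
      intro A hAc hAn hAK' hcoh
      by_cases hA1 : A = ⊥
      · rw [hA1] at hcoh; exact hcoh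
      have hAK : A < K := lt_of_le_of_lt hAK' D.comm_lt
      have hXY : (⁅K, K⁆ : Subgroup L).relIndex K ≤ A.relIndex K := by
        have h3 := Subgroup.relIndex_mul_relIndex A (⁅K, K⁆ : Subgroup L) K hAK' D.comm_lt.le
        have h4 := relIndex_pos' A (⁅K, K⁆ : Subgroup L)
        nlinarith
      have hcardlt : ∀ B : Subgroup L, B < A → Nat.card B < n := by
        intro B hB
        rw [← hAc]
        exact Set.ncard_lt_ncard (s := (B : Set L)) (t := (A : Set L)) hB (Set.toFinite _)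
      by_cases hnp : ∃ p m : ℕ, p.Prime ∧ Nat.card K = p ^ m
      · have hbig := hcase'.resolve_left (fun h => h hnp)
        haveI := hAn
        have hBn : (⁅A, K⁆ : Subgroup L).Normal := inferInstance
        have hBA : ⁅A, K⁆ ≤ A := Subgroup.commutator_le_left A K
        have hBlt : ⁅A, K⁆ < A := by
          refine lt_of_le_of_ne hBA fun h => ?_
          haveI : ((⊥ : Subgroup L).subgroupOf K).Normal := Subgroup.Normal.subgroupOf inferInstance _
          have h2 := nil_step (M := ⊥) (A := A) (H := K) bot_le hAK.le inferInstance (by rw [h, sup_bot_eq])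
          exact hA1 (le_bot_iff.mp h2)
        refine ih _ (hcardlt _ hBlt) _ rfl hBn (hBA.trans hAK') (D.step hτ hτ1 hAn hAK hBA hcoh ?_)
        intro θ hθ hker m hm
        have h1 := degree_bound hθ (B := ⁅A, K⁆) (C := K) (D := A) hKn hBA hAK.le le_rfl
          (fun x hx y hy => Subgroup.commutator_mem_commutator hx hy) hker hm
        rw [Subgroup.relIndex_self, one_pow, one_mul] at h1
        set X := A.relIndex K with hX
        obtain ⟨Y, hY⟩ : ∃ Y, X = Y + 1 := ⟨X - 1, by omega⟩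
        rw [hY] at h1 ⊢
        have h2 : 4 * K.index ^ 2 + 1 ≤ Y := by omega
        rw [Nat.add_sub_cancel]
        by_contra hcon
        push Not at hcon
        have h3 : Y ^ 2 ≤ (2 * K.index * m) ^ 2 := Nat.pow_le_pow_left hcon 2
        have h4 : (2 * K.index * m) ^ 2 ≤ 4 * K.index ^ 2 * (Y + 1) := by
          calc (2 * K.index * m) ^ 2 = 4 * K.index ^ 2 * m ^ 2 := by ring
            _ ≤ _ := Nat.mul_le_mul_left _ h1
        nlinarith
      · obtain ⟨B, E, hB, hE, hBA, hAE, hEK, hc⟩ := D.exists_chief hnp hAn hA1 hAK'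
        refine ih _ (hcardlt _ hBA) _ rfl hB (hBA.le.trans hAK') (D.step hτ hτ1 hAn hAK hBA.le hcoh ?_)
        intro θ hθ hker m hm
        have h1 := degree_bound hθ (B := B) (C := K) (D := E) hKn (hBA.le.trans hAE.le) hEK le_rfl hc hker hm
        rw [Subgroup.relIndex_self, one_pow, one_mul] at h1
        have h2 : K.index + 1 ≤ A.relIndex E := hdvd1 hAn hE hAE hEK (fun x hx y hy => hBA.le (hc x hx y hy))
        -- `E < K`
        have hEK' : E < K := by
          refine lt_of_le_of_ne hEK fun h => ?_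
          rw [h] at hc
          have : ⁅K, K⁆ ≤ B := by
            rw [Subgroup.commutator_le]
            intro x hx y hy
            exact hc x hx y hy
          exact absurd (hAK'.trans this) (not_le_of_gt hBA)
        have h3 := Subgroup.relIndex_mul_relIndex A E K hAE.le hEK
        -- the upper section is also large
        have hsup : ∃ C : Subgroup L, C.Normal ∧ E ≤ C ∧ C < K ∧ ⁅K, K⁆ ≤ C := by
          refine ⟨E ⊔ ⁅K, K⁆, inferInstance, le_sup_left, ?_, le_sup_right⟩
          refine lt_of_le_of_ne (sup_le hEK D.comm_lt.le) fun h => ?_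
          -- `K = E K'` forces `K = E`
          apply hEK'.ne
          haveI := hE
          haveI : (E.subgroupOf K).Normal := Subgroup.Normal.subgroupOf hE _
          have h4 : K ≤ ⁅K, K⁆ ⊔ E := by rw [sup_comm, h]
          exact le_antisymm hEK (nil_step (M := E) (A := K) (H := K) hEK le_rfl inferInstance h4)
        obtain ⟨C, hC, hEC, hCK, hK'C⟩ := hsup
        have h5 : K.index + 1 ≤ C.relIndex K := hdvd1 hC hKn hCK le_rfl (fun x hx y hy => hK'C (Subgroup.commutator_mem_commutator hx hy))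
        have h6 := Subgroup.relIndex_mul_relIndex E C K hEC hCK.le
        have h7 := relIndex_pos' E C
        have h8 : K.index + 1 ≤ E.relIndex K := by nlinarith
        -- arithmetic : `m^2 ≤ Y`, `X = Z Y`, `Z ≥ e+1`, `Y ≥ e+1`
        set e := K.index with he'
        set Y := E.relIndex K with hY
        set Z := A.relIndex E with hZ
        rw [← h3]
        have h9 : 2 * e * m + 1 < Z * Y := by
          have h10 : (e + 1) * Y ≤ Z * Y := Nat.mul_le_mul_right _ h2
          refine lt_of_lt_of_le ?_ h10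
          -- `2 e m + 1 < (e+1) Y`
          have h11 : (2 * e * m + 1 : ℤ) < (e + 1) * Y := by
            have a1 : (m : ℤ) ^ 2 ≤ Y := by exact_mod_cast h1
            have a2 : (e : ℤ) + 1 ≤ Y := by exact_mod_cast h8
            have a3 : (1 : ℤ) ≤ e := by exact_mod_cast hwpos
            have a4 : (0 : ℤ) ≤ m := Int.natCast_nonneg m
            by_cases hm0 : (m : ℤ) ≤ 1
            · nlinarith
            · push Not at hm0
              -- `(e+1) Y ≥ e Y + Y ≥ e m^2 + e + 1`
              have a5 : (e : ℤ) * (m : ℤ) ^ 2 ≤ e * Y := mul_le_mul_of_nonneg_left a1 (by linarith)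
              have a6 : (0 : ℤ) < e * (m - 1) ^ 2 := by
                have : (0 : ℤ) < m - 1 := by linarith
                positivity
              nlinarith
          exact_mod_cast h11
        omega
    exact key _ _ rfl hK'n le_rfl hstart

end Fro
end CfsgLib.Coh
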