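import Cfsg.Agent.EqBase
import Cfsg.Agent.LibCoh22
import Cfsg.Agent.LibCoh16
/-!
# Coherence for TI Frobenius kernels (helper16)
-/
set_option autoImplicit false
set_option linter.all false
open Cfsg CfsgLib.CharBasic CfsgLib.CharIndA CfsgLib.CharNorm CfsgLib.Sgn CfsgLib.Clifford
open scoped ComplexConjugate
namespace CfsgLib.Coh

universe u v

namespace Fro
section Fin
variable {L : Type u} [Group L] [Finite L] {K : Subgroup L} (D : Fro K)
include D

theorem coprime : Nat.Coprime (Nat.card K) K.index := by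
  haveI := Fintype.ofFinite L
  exact CfsgLib.FrobK.coprime D.normal D.cent

/-- a kernel of even index is inverted by an involution and abelian -/
theorem comm_of_even (h2 : 2 ∣ K.index) : ∀ x ∈ K, ∀ y ∈ K, x * y = y * x := by
  haveI := Fact.mk Nat.prime_two
  haveI := D.normal
  obtain ⟨t, ht⟩ := exists_prime_orderOf_dvd_card' (G := L) 2 (h2.trans (Subgroup.index_dvd_card K))
  have htK : t ∉ K := by
    intro h
    have h3 : 2 ∣ Nat.card K := by rw [← ht]; exact Subgroup.orderOf_dvd_natCard _ h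
    exact absurd (Nat.eq_one_of_dvd_coprimes D.coprime h3 h2) (by norm_num)
  have htt : t * t = 1 := by rw [← pow_two, ← ht, pow_orderOf_eq_one]
  have ht' : t⁻¹ = t := inv_eq_of_mul_eq_one_left htt
  let f : K → K := fun u => ⟨(u : L)⁻¹ * (t * u * t⁻¹), K.mul_mem (K.inv_mem u.2) (D.normal.conj_mem _ u.2 t)⟩
  have hf : Function.Injective f := by
    intro u v huv
    have h5 : (u : L)⁻¹ * (t * u * t⁻¹) = (v : L)⁻¹ * (t * v * t⁻¹) := congrArg Subtype.val huv
    have h6 : t * ((u : L) * (v : L)⁻¹) = ((u : L) * (v : L)⁻¹) * t := by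
      calc t * ((u : L) * (v : L)⁻¹) = (u : L) * ((u : L)⁻¹ * (t * u * t⁻¹)) * t * (v : L)⁻¹ := by group
        _ = (u : L) * ((v : L)⁻¹ * (t * v * t⁻¹)) * t * (v : L)⁻¹ := by rw [h5]
        _ = _ := by group
    have h7 := D.fpf t htK _ (K.mul_mem u.2 (K.inv_mem v.2)) h6
    exact Subtype.ext (mul_inv_eq_one.mp h7)
  have hinv : ∀ k ∈ K, t * k * t = k⁻¹ := by
    intro k hk
    obtain ⟨u, hu⟩ := Finite.surjective_of_injective hf ⟨k, hk⟩
    have hu' : (u : L)⁻¹ * (t * u * t⁻¹) = k := congrArg Subtype.val hu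
    rw [← hu', ht']
    calc t * ((u : L)⁻¹ * (t * u * t)) * t = t * (u : L)⁻¹ * t * u * (t * t) := by group
      _ = t * (u : L)⁻¹ * t * u := by rw [htt, mul_one]
      _ = t⁻¹ * (u : L)⁻¹ * t⁻¹ * u := by rw [ht']
      _ = _ := by group
  intro x hx y hy
  have h3 := hinv _ (K.mul_mem hx hy)
  have h4 : t * (x * y) * t = (t * x * t) * (t * y * t) := by
    calc t * (x * y) * t = t * x * 1 * y * t := by group
      _ = t * x * (t * t) * y * t := by rw [htt]
      _ = _ := by group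
  rw [h4, hinv x hx, hinv y hy] at h3
  have h5 : (y * x)⁻¹ = (x * y)⁻¹ := by rw [mul_inv_rev]; exact h3
  exact (inv_injective h5).symm

/-- the index divides `|K| - 1` -/
theorem conj_all (hc : Nat.card K = K.index + 1) : ∀ k ∈ K, k ≠ 1 → ∀ y ∈ K, y ≠ 1 → ∃ g : L, g * k * g⁻¹ = y := by
  classical
  intro k hk hk1 y hy hy1
  haveI := D.normal
  let f : L ⧸ K → {z : K // z ≠ 1} := fun q => ⟨⟨q.out * k * q.out⁻¹, D.normal.conj_mem _ hk _⟩, fun h => hk1 (by
    have h1 : q.out * k * q.out⁻¹ = 1 := congrArg Subtype.val h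
    exact conj_eq_one_iff.mp h1)⟩
  have hf : Function.Injective f := by
    intro q r hqr
    have h1 : q.out * k * q.out⁻¹ = r.out * k * r.out⁻¹ := congrArg Subtype.val (congrArg Subtype.val hqr)
    have h2 : q.out⁻¹ * r.out ∈ K := by
      apply D.cent k hk hk1
      rw [Subgroup.mem_centralizer_singleton_iff]
      calc q.out⁻¹ * r.out * k = q.out⁻¹ * (r.out * k * r.out⁻¹) * r.out := by group
        _ = q.out⁻¹ * (q.out * k * q.out⁻¹) * r.out := by rw [h1]
        _ = _ := by group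
    have h3 : (QuotientGroup.mk q.out : L ⧸ K) = QuotientGroup.mk r.out := QuotientGroup.eq.mpr h2
    rwa [QuotientGroup.out_eq', QuotientGroup.out_eq'] at h3
  have hcard : Nat.card {z : K // z ≠ 1} ≤ Nat.card (L ⧸ K) := by
    haveI := Fintype.ofFinite L
    haveI : Fintype K := Fintype.ofFinite _
    rw [Nat.card_eq_fintype_card, Fintype.card_subtype_compl, Fintype.card_subtype_eq, ← Nat.card_eq_fintype_card, hc]
    exact le_of_eq (by rw [Nat.add_sub_cancel]; rfl)
  obtain ⟨q, hq⟩ := (hf.bijective_of_nat_card_le hcard).2 ⟨⟨y, hy⟩, fun h => hy1 (congrArg Subtype.val h)⟩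
  exact ⟨q.out, congrArg Subtype.val (congrArg Subtype.val hq)⟩

/-- if `|K| = e + 1` then `K` is elementary abelian -/
theorem elem (hc : Nat.card K = K.index + 1) : (∀ x ∈ K, ∀ y ∈ K, x * y = y * x) ∧ ∃ p : ℕ, p.Prime ∧ ∀ x ∈ K, x ^ p = 1 := by
  haveI := D.normal
  haveI := D.nil
  have hne : Nontrivial K := by
    rw [Subgroup.nontrivial_iff_ne_bot]
    exact D.ne_bot
  constructor
  · obtain ⟨⟨z, hz⟩, hzc, hz1⟩ := (Subgroup.bot_or_exists_ne_one _).resolve_left (Group.IsNilpotent.center_ne_bot (G := K))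
    have hz1' : z ≠ 1 := fun h => hz1 (Subtype.ext h)
    intro x hx y hy
    by_cases hx1 : x = 1
    · rw [hx1]; group
    obtain ⟨g, hg⟩ := D.conj_all hc z hz hz1' x hx hx1
    have h1 := Subgroup.mem_center_iff.mp hzc ⟨g⁻¹ * y * g⁻¹⁻¹, D.normal.conj_mem _ hy g⁻¹⟩
    have h2 : (g⁻¹ * y * g⁻¹⁻¹) * z = z * (g⁻¹ * y * g⁻¹⁻¹) := congrArg Subtype.val h1
    rw [← hg]
    calc g * z * g⁻¹ * y = g * (z * (g⁻¹ * y * g⁻¹⁻¹)) * g⁻¹ := by group
      _ = g * ((g⁻¹ * y * g⁻¹⁻¹) * z) * g⁻¹ := by rw [h2]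
      _ = _ := by group
  · obtain ⟨p, hp, hpd⟩ := Nat.exists_prime_and_dvd (n := Nat.card K) (by
      have := Finite.one_lt_card (α := K)
      omega)
    haveI := Fact.mk hp
    obtain ⟨⟨k, hk⟩, hko⟩ := exists_prime_orderOf_dvd_card' (G := K) p hpd
    rw [Subgroup.orderOf_mk] at hko
    have hk1 : k ≠ 1 := by
      intro h
      rw [h, orderOf_one] at hko
      exact hp.one_lt.ne hko
    refine ⟨p, hp, fun x hx => ?_⟩
    by_cases hx1 : x = 1
    · rw [hx1, one_pow]
    obtain ⟨g, hg⟩ := D.conj_all hc k hk hk1 x hx hx1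
    rw [← hg, conj_pow, ← hko, pow_orderOf_eq_one]; group

end Fin

section Chars
variable {L : Type u} [Group L] [Fintype L] {K : Subgroup L} (D : Fro K)
include D

theorem card_uniform {A : Subgroup L} (hAn : A.Normal) (hA : ⁅K, K⁆ ≤ A) (hAK : A ≤ K) : Nat.card (inducedIrrAbove K A) * K.index = A.relIndex K - 1 := by
  classical
  have hfin : (inducedIrrAbove K A).Finite := ia_finite D.normal
  have hw : (K.index : ℂ) ≠ 0 := by exact_mod_cast Subgroup.index_ne_zero_of_finite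
  rw [Nat.card_coe_set_eq, Set.ncard_eq_toFinset_card _ hfin]
  have h1 := sum_formula D.normal hAn hAK hfin.toFinset (fun φ => hfin.mem_toFinset)
  have h2 : ∑ φ ∈ hfin.toFinset, φ 1 ^ 2 / classInner φ φ = (hfin.toFinset.card : ℂ) * (K.index : ℂ) ^ 2 := by
    rw [← nsmul_eq_mul, ← Finset.sum_const]
    refine Finset.sum_congr rfl fun φ hφ => ?_
    have hφ' := hfin.mem_toFinset.mp hφ
    rw [irr_inner_self (D.irr φ hφ'), D.deg_lin hA hAK hφ', div_one]
  rw [h2] at h1
  have h3 : (K.index : ℂ) * ((hfin.toFinset.card : ℂ) * K.index - ((A.relIndex K : ℂ) - 1)) = 0 := by linear_combination h1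
  have h4 := (mul_eq_zero.mp h3).resolve_left hw
  have h5 : ((hfin.toFinset.card * K.index + 1 : ℕ) : ℂ) = (A.relIndex K : ℂ) := by push_cast; linear_combination h4
  have h6 : hfin.toFinset.card * K.index + 1 = A.relIndex K := by exact_mod_cast h5
  omega

theorem card_one (hc : Nat.card K = K.index + 1) : Nat.card (inducedIrrAbove K ⊥) = 1 := by
  have h1 : ⁅K, K⁆ ≤ ⊥ := by
    rw [Subgroup.commutator_le]
    intro x hx y hy
    rw [Subgroup.mem_bot, commutatorElement_eq_one_iff_mul_comm]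
    exact (D.elem hc).1 x hx y hy
  have h2 := D.card_uniform (A := ⊥) inferInstance h1 bot_le
  rw [Subgroup.relIndex_bot_left, hc, Nat.add_sub_cancel] at h2
  have hw : K.index ≠ 0 := Subgroup.index_ne_zero_of_finite
  have h3 : (Nat.card (inducedIrrAbove K ⊥) - 1) * K.index = 0 ∨ True := Or.inr trivial
  exact Nat.eq_of_mul_eq_mul_right (Nat.pos_of_ne_zero hw) (by rw [h2, one_mul])

theorem off {φ : L → ℂ} (hφ : φ ∈ zspan (inducedIrrAbove K ⊥)) {x : L} (hx : x ∉ K) : φ x = 0 := by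
  refine z_ind (p := fun φ => φ x = 0) hφ ?_ rfl ?_ ?_
  · rintro φ ⟨θ, h2, h3, -, rfl⟩
    exact ind_eq_zero_off D.normal θ hx
  · intro a b _ _ h1 h2
    rw [Pi.add_apply, h1, h2, add_zero]
  · intro n a _ h1
    rw [Pi.smul_apply, h1, smul_zero]

theorem cl {φ : L → ℂ} (hφ : φ ∈ zspan (inducedIrrAbove K ⊥)) : IsClassFunction L φ := by
  refine z_ind (p := fun φ => IsClassFunction L φ) hφ ?_ ?_ ?_ ?_
  · intro φ hφ; exact irr_classFun (D.irr φ hφ)
  · intro g h; rfl
  · intro a b _ _ h1 h2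
    exact fun g h => by rw [Pi.add_apply, Pi.add_apply, h1, h2]
  · intro n a _ h1
    exact fun g h => by rw [Pi.smul_apply, Pi.smul_apply, h1]

theorem gen {φ : L → ℂ} (hφ : φ ∈ zspan (inducedIrrAbove K ⊥)) : IsGeneralizedCharacter L φ := by
  refine z_ind (p := fun φ => IsGeneralizedCharacter L φ) hφ ?_ ?_ ?_ ?_
  · intro φ hφ; exact gen_of_char (irr_isCharacter (D.irr φ hφ))
  · exact gen_zero
  · intro a b _ _ h1 h2; exact gen_add h1 h2
  · intro n a _ h1; exact gen_zsmul h1 n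

end Chars
end Fro

/-- `H` is a TI-subgroup with normalizer `L`, a Frobenius group with kernel `H` -/
structure TIF {G : Type v} [Group G] (H L : Subgroup G) : Prop where
  hHL : H < L
  hH1 : H ≠ ⊥
  hHn : ∀ x ∈ L, ∀ h ∈ H, x * h * x⁻¹ ∈ H
  hC : ∀ h ∈ H, h ≠ 1 → ∀ x ∈ L, x * h = h * x → x ∈ H
  hTI : ∀ g : G, g ∉ L → ∀ h ∈ H, g * h * g⁻¹ ∈ H → h = 1

namespace TIF
section Basic
variable {G : Type v} [Group G] {H L : Subgroup G} (D : TIF H L)
include D

theorem fro : Fro (H.subgroupOf L) where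
  normal := ⟨fun n hn g => D.hHn g g.2 n hn⟩
  cent := by
    intro k hk hk1 x hx
    rw [Subgroup.mem_centralizer_singleton_iff] at hx
    exact D.hC k hk (fun h => hk1 (Subtype.ext h)) x x.2 (congrArg Subtype.val hx)
  ne_bot := by
    intro h
    apply D.hH1
    rw [Subgroup.subgroupOf_eq_bot, disjoint_iff, inf_eq_left.mpr D.hHL.le] at h
    exact h
  ne_top := by
    intro h
    rw [Subgroup.subgroupOf_eq_top] at h
    exact absurd h (not_le_of_gt D.hHL)

theorem norm : Subgroup.normalizer (H : Set G) = L := by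
  apply le_antisymm
  · intro g hg
    by_contra hgL
    obtain ⟨h, hh, hh1⟩ := (Subgroup.bot_or_exists_ne_one H).resolve_left D.hH1
    rw [Subgroup.mem_normalizer_iff] at hg
    exact hh1 (D.hTI g hgL h hh ((hg h).mp hh))
  · intro g hg
    rw [Subgroup.mem_normalizer_iff]
    intro h
    refine ⟨D.hHn g hg h, fun hh => ?_⟩
    have h2 := D.hHn g⁻¹ (L.inv_mem hg) _ hh
    have h3 : g⁻¹ * (g * h * g⁻¹) * g⁻¹⁻¹ = h := by group
    rwa [h3] at h2

theorem card_eq : Nat.card (H.subgroupOf L) = Nat.card H := Nat.card_congr (Subgroup.subgroupOfEquivOfLe D.hHL.le).toEquiv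

theorem sylow [Finite G] {p n : ℕ} [hp : Fact p.Prime] (hpn : Nat.card H = p ^ n) (hn : n ≠ 0) : ∃ P : Sylow p G, (P : Subgroup G) = H := by
  have h1 : ¬ p ^ (n + 1) ∣ Nat.card G := by
    intro h
    have h2 := Sylow.prime_dvd_card_quotient_normalizer h hpn
    rw [D.norm] at h2
    have h3 := D.fro.coprime
    rw [D.card_eq, hpn] at h3
    have h4 : Nat.card (↥L ⧸ Subgroup.comap L.subtype H) = (H.subgroupOf L).index := rfl
    rw [h4] at h2
    have h5 := Nat.Coprime.coprime_dvd_left (dvd_pow_self p hn) h3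
    exact hp.out.one_lt.ne' (Nat.eq_one_of_dvd_coprimes h5 dvd_rfl h2)
  have h2 : n = (Nat.card G).factorization p := by
    have hG : Nat.card G ≠ 0 := Nat.card_pos.ne'
    apply le_antisymm
    · rw [← hp.out.pow_dvd_iff_le_factorization hG, ← hpn]
      exact Subgroup.card_subgroup_dvd_card H
    · by_contra hlt
      push Not at hlt
      exact h1 ((hp.out.pow_dvd_iff_le_factorization hG).mpr hlt)
  exact ⟨Sylow.ofCard H (by rw [hpn, h2]), rfl⟩

theorem odd [Finite G] (hodd : Odd (Nat.card L)) : Odd' H L := by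
  refine ⟨hodd, D.hHL, D.hH1, ?_, D.hHn, D.hC, D.hTI⟩
  haveI := D.fro.nil
  exact Group.nilpotent_of_mulEquiv (Subgroup.subgroupOfEquivOfLe D.hHL.le)

end Basic

section Chars
variable {G : Type v} [Group G] [Fintype G] {H L : Subgroup G} [Fintype L] (D : TIF H L)
include D

theorem isom : IsLinearIsometryOn (zspanOn (inducedIrrAbove (H.subgroupOf L) ⊥) {1}ᶜ) (fun α : L → ℂ => indFun L α) := by
  have hs : ∀ α ∈ zspanOn (inducedIrrAbove (H.subgroupOf L) ⊥) {1}ᶜ, ∀ x : L, (x : G) ∉ {x : G | x ∈ H ∧ x ≠ 1} → α x = 0 := by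
    intro α hα x hx
    obtain ⟨h1, h2⟩ := mem_z1.mp hα
    by_cases hxH : (x : G) ∈ H
    · have hx1 : (x : G) = 1 := by
        by_contra h; exact hx ⟨hxH, h⟩
      have : x = 1 := Subtype.ext hx1
      rw [this, h2]
    · exact D.fro.off h1 hxH
  refine ⟨fun α _ β _ => ind_add L α β, fun α _ n => ?_, fun α hα β hβ => ?_, fun α hα => gen_ind L (D.fro.gen (mem_z1.mp hα).1)⟩
  · beta_reduce
    rw [zsmul_eq, ind_smul, zsmul_eq]
  · beta_reduce
    exact CfsgLib.TI.ind_isom_ti (S := {x : G | x ∈ H ∧ x ≠ 1}) (fun g hg s hs h => hs.2 (D.hTI g hg s hs.1 h.1)) (D.fro.cl (mem_z1.mp hβ).1) (hs α hα) (hs β hβ)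

theorem isom1 : ∀ α ∈ zspanOn (inducedIrrAbove (H.subgroupOf L) ⊥) {1}ᶜ, (fun α : L → ℂ => indFun L α) α 1 = 0 := by
  intro α hα
  beta_reduce
  rw [CharIndA.ind_one, (mem_z1.mp hα).2, mul_zero]

/-- the main coherence theorem for a TI Frobenius kernel -/
theorem main (he : Nat.card (H.subgroupOf L) ≠ (H.subgroupOf L).index + 1) :
    (Nat.card H = 2 ^ (Nat.card G).factorization 2 ∧ (⁅H.subgroupOf L, H.subgroupOf L⁆ : Subgroup L).relIndex (H.subgroupOf L) < 4 * (H.subgroupOf L).index ^ 2) ∨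
    IsCoherent (inducedIrrAbove (H.subgroupOf L) ⊥) {1}ᶜ (fun α : L → ℂ => indFun L α) := by
  classical
  have hiso := D.isom
  have hiso1 := D.isom1
  have F := D.fro
  by_cases hab : ⁅H.subgroupOf L, H.subgroupOf L⁆ ≤ ⊥
  · exact Or.inr (F.feit hiso hiso1 he (Or.inl hab))
  by_cases hnp : ∃ p m : ℕ, p.Prime ∧ Nat.card (H.subgroupOf L) = p ^ m
  swap
  · exact Or.inr (F.feit hiso hiso1 he (Or.inr (Or.inl hnp)))
  obtain ⟨p, m, hp, hpm⟩ := hnp
  have hm : m ≠ 0 := by
    rintro rfl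
    rw [pow_zero] at hpm
    exact F.ne_bot (Subgroup.card_eq_one.mp hpm)
  by_cases hodd : Odd (Nat.card L)
  · exact Or.inr (D.odd hodd).coherent
  rw [Nat.not_odd_iff_even, even_iff_two_dvd] at hodd
  have hcop := F.coprime
  have hmul := Subgroup.card_mul_index (H.subgroupOf L)
  -- `p = 2`
  have hp2 : p = 2 := by
    by_contra hp2
    apply hab
    have h2 : 2 ∣ (H.subgroupOf L).index := by
      rw [← hmul] at hodd
      rcases (Nat.Prime.dvd_mul Nat.prime_two).mp hodd with h | h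
      · exfalso
        rw [hpm] at h
        exact hp2 ((Nat.prime_dvd_prime_iff_eq Nat.prime_two hp).mp (Nat.prime_two.dvd_of_dvd_pow h)).symm
      · exact h
    have h3 := F.comm_of_even h2
    rw [Subgroup.commutator_le]
    intro x hx y hy
    rw [Subgroup.mem_bot, commutatorElement_eq_one_iff_mul_comm]
    exact h3 x hx y hy
  subst hp2
  have hpm' : Nat.card H = 2 ^ m := by rw [← D.card_eq]; exact hpm
  haveI := Fact.mk hp
  obtain ⟨P, hP⟩ := D.sylow hpm' hm
  have hcard : Nat.card H = 2 ^ (Nat.card G).factorization 2 := by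
    rw [← hP]; exact P.card_eq_multiplicity
  by_cases hlt : (⁅H.subgroupOf L, H.subgroupOf L⁆ : Subgroup L).relIndex (H.subgroupOf L) < 4 * (H.subgroupOf L).index ^ 2
  · exact Or.inl ⟨hcard, hlt⟩
  right
  refine F.feit hiso hiso1 he (Or.inr (Or.inr ?_))
  -- the index is a power of two
  push Not at hlt
  have hoe : Odd (H.subgroupOf L).index := by
    rw [hpm] at hcop
    have h5 := Nat.Coprime.coprime_dvd_left (dvd_pow_self 2 hm) hcop
    exact (Nat.coprime_two_left).mp h5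
  obtain ⟨j, -, hj⟩ : ∃ j ≤ m, (⁅H.subgroupOf L, H.subgroupOf L⁆ : Subgroup L).relIndex (H.subgroupOf L) = 2 ^ j := by
    rw [← Nat.dvd_prime_pow Nat.prime_two, ← hpm]
    exact Subgroup.relIndex_dvd_card _ _
  have he1 : 1 < (H.subgroupOf L).index := by
    have h6 : (H.subgroupOf L).index ≠ 0 := Subgroup.index_ne_zero_of_finite
    have h7 : (H.subgroupOf L).index ≠ 1 := fun h => F.ne_top (Subgroup.index_eq_one.mp h)
    omega
  rw [hj] at hlt ⊢
  obtain ⟨i, hi⟩ : ∃ i, j = i + 2 := by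
    have : 2 ≤ j := by
      by_contra h
      have h8 : j ≤ 1 := by omega
      have h9 : 2 ^ j ≤ 2 ^ 1 := Nat.pow_le_pow_right (by norm_num) h8
      nlinarith
    exact ⟨j - 2, by omega⟩
  rw [hi, pow_add] at hlt ⊢
  have h10 : (H.subgroupOf L).index ^ 2 ≤ 2 ^ i := by
    have : 4 * (H.subgroupOf L).index ^ 2 ≤ 4 * 2 ^ i := by linarith
    omega
  have h11 : (H.subgroupOf L).index ^ 2 ≠ 2 ^ i := by
    intro h
    have h12 : Odd (2 ^ i) := by rw [← h]; exact hoe.pow
    have h13 : i = 0 := by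
      by_contra hi0
      exact (Nat.not_odd_iff_even.mpr ((Nat.even_pow.mpr ⟨even_two, hi0⟩))) h12
    rw [h13, pow_zero] at h
    nlinarith
  have h14 : (H.subgroupOf L).index ^ 2 < 2 ^ i := lt_of_le_of_ne h10 h11
  omega

end Chars
end TIF
end CfsgLib.Coh
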