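import Cfsg.Statements.S0852
import Cfsg.Agent.LibFrobK

set_option autoImplicit false
set_option linter.all false
open Cfsg

namespace Cfsg.Agent.S0852

open CfsgLib.CharBasic CfsgLib.FrobK CfsgLib.CharIndA CfsgLib.CharNorm CfsgLib.Coh

/-- Let K be a subgroup of the finite group G that meets each conjugate by an element outside its normalizer N trivially, is properly contained in N, and contains the centralizer of each of its non-identity elements (a T.I. subgroup with Frobenius normalizer). Let S be the set of irreducible characters of N taking at some element of K a value different from their degree, suppose S has at least two members, and let star be a linear isometry on the integer span of S into the generalized characters of G that agrees with induction on the members vanishing at the identity (so S is coherent, with star as the extending isometry). Then an irreducible character ψ of G is of the form star χ or -star χ for some χ in S if and only if ψ is not constant on the non-identity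 elements of K. -/
theorem result {G : Type*} [Group G] [Fintype G] (K : Subgroup G) (hTI : ∀ g : G, g ∉ Subgroup.normalizer (K : Set G) → ∀ k ∈ K, g * k * g⁻¹ ∈ K → k = 1) (hlt : K < Subgroup.normalizer (K : Set G)) (hC : ∀ k ∈ K, k ≠ 1 → Subgroup.centralizer ({k} : Set G) ≤ K) [Fintype ↥(Subgroup.normalizer (K : Set G))] (S : Set (↥(Subgroup.normalizer (K : Set G)) → ℂ)) (hS : S = {χ : ↥(Subgroup.normalizer (K : Set G)) → ℂ | Cfsg.IsIrrCharacter ↥(Subgroup.normalizer (K : Set G)) χ ∧ ∃ k : ↥(Subgroup.normalizer (K : Set G)), (k : G) ∈ K ∧ χ k ≠ χ 1}) (htwo : ∃ χ ∈ S, ∃ ξ ∈ S, χ ≠ ξ) (star : (↥(Subgroup.normalizer (K : Set G)) → ℂ) → (G → ℂ)) (hstar : Cfsg.IsLinearIsometryOn (Cfsg.zspan S) star) (hext : ∀ α ∈ Cfsg.zspanOn S ({1}ᶜ : Set ↥(Subgroup.normalizer (K : Set G))), star α = Cfsg.indFun (Subgroup.normalizer (K : Set G)) α) (ψ : G → ℂ) (hψ : Cfsg.IsIrrCharacter G ψ) : (∃ χ ∈ S, ψ = star χ ∨ ψ = -star χ) ↔ ∃ a ∈ K, ∃ b ∈ K, a ≠ 1 ∧ b ≠ 1 ∧ ψ a ≠ ψ b := by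
  classical
  haveI := Fintype.ofFinite ↥(K.subgroupOf (Subgroup.normalizer (K : Set G)))
  have hfpf := fpf (hC' (K := K) hC)
  have hS' : ∀ χ, χ ∈ S ↔ Rel (K.subgroupOf (Subgroup.normalizer (K : Set G))) χ := by
    intro χ
    rw [hS]
    constructor
    · rintro ⟨h1, k, hk, hne⟩
      exact ⟨h1, k, Subgroup.mem_subgroupOf.mpr hk, hne⟩
    · rintro ⟨h1, k, hk, hne⟩
      exact ⟨h1, k, Subgroup.mem_subgroupOf.mp hk, hne⟩
  have hKN : K ≤ Subgroup.normalizer (K : Set G) := Subgroup.le_normalizer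
  -- constancy on `K` minus the identity
  have hconst : ∀ (F : G → ℂ) (f : ↥(Subgroup.normalizer (K : Set G)) → ℂ), IsClassFunction G F → IsClassFunction _ f →
      (∀ α ∈ Cfsg.zspanOn S ({1}ᶜ : Set ↥(Subgroup.normalizer (K : Set G))), classInner F (star α) = classInner f α) →
      ∀ a (ha : a ∈ K) b (hb : b ∈ K), a ≠ 1 → b ≠ 1 → F a - f ⟨a, hKN ha⟩ = F b - f ⟨b, hKN hb⟩ := by
    intro F f hF hf h a ha b hb ha1 hb1
    obtain ⟨χ₀, hχ₀, -⟩ := htwo
    obtain ⟨c, hc, -⟩ := prop_of hS' hstar hext hF h hχ₀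
    have hcf : IsClassFunction _ ((fun x : ↥(Subgroup.normalizer (K : Set G)) => F x) - f) := classFun_sub (classFun_restrict hF _) hf
    have e1 := const_of_prop hcf c hc (k := ⟨a, hKN ha⟩) (Subgroup.mem_subgroupOf.mpr ha) (fun h => ha1 (congrArg Subtype.val h))
    have e2 := const_of_prop hcf c hc (k := ⟨b, hKN hb⟩) (Subgroup.mem_subgroupOf.mpr hb) (fun h => hb1 (congrArg Subtype.val h))
    exact e1.trans e2.symm
  have hψc := irr_classFun hψ
  constructor
  · rintro ⟨χ, hχ, hor⟩
    by_contra hcon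
    push Not at hcon
    have hrχ := (hS' χ).mp hχ
    -- `star χ` is constant
    have hst : ∀ a ∈ K, ∀ b ∈ K, a ≠ 1 → b ≠ 1 → star χ a = star χ b := by
      intro a ha b hb ha1 hb1
      have := hcon a ha b hb ha1 hb1
      rcases hor with h | h
      · rw [← h]; exact this
      · rw [h, Pi.neg_apply, Pi.neg_apply] at this
        exact neg_injective this
    have hstc : IsClassFunction G (star χ) := gen_classFun (iso_gen hstar (z_sub hχ))
    have hχk : ∀ a (ha : a ∈ K) b (hb : b ∈ K), a ≠ 1 → b ≠ 1 → χ ⟨a, hKN ha⟩ = χ ⟨b, hKN hb⟩ := by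
      intro a ha b hb ha1 hb1
      have h1 := hconst (star χ) χ hstc (irr_classFun hrχ.1) (fun α hα => iso_inner hstar (z_sub hχ) (mem_z1.mp hα).1) a ha b hb ha1 hb1
      rw [hst a ha b hb ha1 hb1] at h1
      exact sub_right_injective h1
    -- another member
    obtain ⟨ξ, hξ, hne⟩ : ∃ ξ ∈ S, ξ ≠ χ := by
      obtain ⟨χ₁, h1, χ₂, h2, h3⟩ := htwo
      by_cases h4 : χ₁ = χ
      · exact ⟨χ₂, h2, fun h5 => h3 (h4.trans h5.symm)⟩
      · exact ⟨χ₁, h1, h4⟩
    have hrξ := (hS' ξ).mp hξ
    obtain ⟨h1, k, hk, hkne⟩ := hrχ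
    have hk1 : k ≠ 1 := fun h => hkne (by rw [h])
    have hkK := Subgroup.mem_subgroupOf.mp hk
    have hval : ∀ x : ↥(Subgroup.normalizer (K : Set G)), χ x * (starRingEnd ℂ) (ξ x) = χ k * (starRingEnd ℂ) (ξ x) +
        (if x = 1 then (χ 1 - χ k) * (starRingEnd ℂ) (ξ 1) else 0) := by
      intro x
      by_cases hx1 : x = 1
      · rw [if_pos hx1, hx1]; ring
      · rw [if_neg hx1, add_zero]
        by_cases hxK : (x : G) ∈ K
        · have : χ x = χ k := hχk x hxK k hkK (fun h => hx1 (Subtype.ext h)) (fun h => hk1 (Subtype.ext h))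
          rw [this]
        · rw [rel_off normal' hfpf hrξ (fun h => hxK (Subgroup.mem_subgroupOf.mp h)), map_zero, mul_zero, mul_zero]
    have h0 : classInner χ ξ = 0 := irr_inner_ne h1 hrξ.1 (Ne.symm hne)
    have h0' : classInner (fun _ => 1) ξ = 0 := by
      apply irr_inner_ne isIrrCharacter_one hrξ.1
      intro h2
      obtain ⟨-, y, -, hy⟩ := hrξ
      rw [← h2] at hy
      exact hy rfl
    have hcard : (Nat.card ↥(Subgroup.normalizer (K : Set G)) : ℂ)⁻¹ ≠ 0 := inv_ne_zero (by exact_mod_cast Nat.card_pos.ne')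
    unfold classInner at h0 h0'
    rw [mul_eq_zero] at h0 h0'
    have s1 := h0.resolve_left hcard
    have s2 := h0'.resolve_left hcard
    rw [Finset.sum_congr rfl fun x _ => hval x, Finset.sum_add_distrib, ← Finset.mul_sum, Finset.sum_ite_eq' Finset.univ,
      if_pos (Finset.mem_univ _)] at s1
    simp only [one_mul] at s2
    rw [s2, mul_zero, zero_add] at s1
    rcases mul_eq_zero.mp s1 with h2 | h2
    · exact hkne (sub_eq_zero.mp h2).symm
    · exact irr_one_ne_zero hrξ.1 (by simpa using h2)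
  · rintro ⟨a, ha, b, hb, ha1, hb1, hab⟩
    by_contra hcon
    push Not at hcon
    apply hab
    have horth : ∀ χ ∈ S, classInner ψ (star χ) = 0 := by
      intro χ hχ
      have h1 : classInner (star χ) (star χ) = 1 := by rw [iso_inner hstar (z_sub hχ) (z_sub hχ)]; exact irr_inner_self ((hS' χ).mp hχ).1
      obtain ⟨n1, n2⟩ := hcon χ hχ
      rcases gen_norm_one (iso_gen hstar (z_sub hχ)) h1 with h2 | h2
      · exact irr_inner_ne hψ h2 n1
      · have h3 : classInner ψ (-star χ) = 0 := irr_inner_ne hψ h2 n2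
        rw [ci_neg_r] at h3
        exact neg_eq_zero.mp h3
    have hspan : ∀ α ∈ zspan S, classInner ψ (star α) = 0 := by
      intro α hα
      refine z_ind (p := fun α => classInner ψ (star α) = 0) hα horth ?_ ?_ ?_
      · rw [iso_zero zm_span hstar, ci_zero_r]
      · intro α β hα hβ h1 h2
        rw [iso_add hstar hα hβ, ci_add_r, h1, h2, add_zero]
      · intro n α hα h1
        rw [iso_smul hstar hα, ci_zsmul_r, h1, mul_zero]
    have h1 := hconst ψ 0 hψc (gen_classFun gen_zero) (fun α hα => by rw [hspan α (mem_z1.mp hα).1, ci_zero_l]) a ha b hb ha1 hb1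
    simpa using h1

end Cfsg.Agent.S0852
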