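import Cfsg.Statements.S0853
import Cfsg.Agent.LibFrobK
import Cfsg.Agent.LibCharInt2

set_option autoImplicit false
set_option linter.all false
open Cfsg

namespace Cfsg.Agent.S0853

open CfsgLib.CharBasic CfsgLib.FrobK CfsgLib.CharIndA CfsgLib.CharNorm CfsgLib.Coh

/-- Let K be a subgroup of the finite group G that meets each conjugate by an element outside its normalizer N trivially, is properly contained in N, and contains the centralizer of each of its non-identity elements (a T.I. subgroup with Frobenius normalizer). Let S be the set of irreducible characters of N taking at some element of K a value different from their degree, suppose S has at least two members, and let star be a linear isometry on the integer span of S into the generalized characters of G that agrees with induction on the members vanishing at the identity (so S is coherent, with star as the extending isometry). Then there is a single integer m such that star χ k - χ k = m * χ 1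 / e for every χ in S and every non-identity element k of K, where e is the index of K in N. -/
theorem result {G : Type*} [Group G] [Fintype G] (K : Subgroup G) (hTI : ∀ g : G, g ∉ Subgroup.normalizer (K : Set G) → ∀ k ∈ K, g * k * g⁻¹ ∈ K → k = 1) (hlt : K < Subgroup.normalizer (K : Set G)) (hC : ∀ k ∈ K, k ≠ 1 → Subgroup.centralizer ({k} : Set G) ≤ K) [Fintype ↥(Subgroup.normalizer (K : Set G))] (S : Set (↥(Subgroup.normalizer (K : Set G)) → ℂ)) (hS : S = {χ : ↥(Subgroup.normalizer (K : Set G)) → ℂ | Cfsg.IsIrrCharacter ↥(Subgroup.normalizer (K : Set G)) χ ∧ ∃ k : ↥(Subgroup.normalizer (K : Set G)), (k : G) ∈ K ∧ χ k ≠ χ 1}) (htwo : ∃ χ ∈ S, ∃ ξ ∈ S, χ ≠ ξ) (star : (↥(Subgroup.normalizer (K : Set G)) → ℂ) → (G → ℂ)) (hstar : Cfsg.IsLinearIsometryOn (Cfsg.zspan S) star) (hext : ∀ α ∈ Cfsg.zspanOn S ({1}ᶜ : Set ↥(Subgroup.normalizer (K : Set G))), star α = Cfsg.indFun (Subgroup.normalizer (K : Set G)) α) : ∃ m : ℤ, ∀ χ ∈ S, ∀ k : ↥(Subgroup.normalizer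 (K : Set G)), (k : G) ∈ K → k ≠ 1 → star χ k - χ k = (m : ℂ) * χ 1 / ((K.subgroupOf (Subgroup.normalizer (K : Set G))).index : ℂ) := by
  classical
  haveI := Fintype.ofFinite ↥(K.subgroupOf (Subgroup.normalizer (K : Set G)))
  have hfpf := fpf (hC' (K := K) hC)
  have hS' : ∀ χ, χ ∈ S ↔ Rel (K.subgroupOf (Subgroup.normalizer (K : Set G))) χ := by
    intro χ
    rw [hS]
    constructor
    · rintro ⟨h1, k, hk, hne⟩
      exact ⟨h1, k, Subgroup.mem_subgroupOf.mpr hk, hne⟩
    · rintro ⟨h1, k, hk, hne⟩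
      exact ⟨h1, k, Subgroup.mem_subgroupOf.mp hk, hne⟩
  have hKN : K ≤ Subgroup.normalizer (K : Set G) := Subgroup.le_normalizer
  set e : ℕ := (K.subgroupOf (Subgroup.normalizer (K : Set G))).index with he
  have he0 : (e : ℂ) ≠ 0 := by exact_mod_cast Subgroup.index_ne_zero_of_finite
  obtain ⟨χ₀, hχ₀, -⟩ := htwo
  -- constant values, which are integers
  have hv : ∀ χ ∈ S, ∃ v : ℤ, ∀ k : ↥(Subgroup.normalizer (K : Set G)), (k : G) ∈ K → k ≠ 1 → star χ k - χ k = v := by
    intro χ hχ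
    have hstg := iso_gen hstar (z_sub hχ)
    have hstc : IsClassFunction G (star χ) := gen_classFun hstg
    have hrχ := (hS' χ).mp hχ
    have hgen : IsGeneralizedCharacter _ ((fun x : ↥(Subgroup.normalizer (K : Set G)) => star χ x) - χ) :=
      gen_sub (gen_restrict hstg _) (gen_of_irr hrχ.1)
    obtain ⟨c, hc, hcv⟩ := prop_of hS' hstar hext hstc (f := χ) (fun α hα => iso_inner hstar (z_sub hχ) (mem_z1.mp hα).1) hχ₀
    have e1 := fun k hk hk1 => const_of_prop (gen_classFun hgen) c hc (k := k) hk hk1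
    obtain ⟨m, hm⟩ := gen_inner_int hgen (gen_of_irr ((hS' χ₀).mp hχ₀).1)
    obtain ⟨d, hd0, hd⟩ := irr_one_nat ((hS' χ₀).mp hχ₀).1
    obtain ⟨q, hq⟩ : ∃ q : ℚ, (∑ᶠ η ∈ {η : IrrCharacter ↥(Subgroup.normalizer (K : Set G)) | ¬ Rel (K.subgroupOf (Subgroup.normalizer (K : Set G))) (η : ↥(Subgroup.normalizer (K : Set G)) → ℂ)},
        (classInner ((fun x : ↥(Subgroup.normalizer (K : Set G)) => star χ x) - χ) (η : ↥(Subgroup.normalizer (K : Set G)) → ℂ) - c * (η : ↥(Subgroup.normalizer (K : Set G)) → ℂ) 1) * (η : ↥(Subgroup.normalizer (K : Set G)) → ℂ) 1) = (q : ℂ) := by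
      have hin : ∀ η : IrrCharacter ↥(Subgroup.normalizer (K : Set G)), ∃ m : ℤ, classInner ((fun x : ↥(Subgroup.normalizer (K : Set G)) => star χ x) - χ) (η : ↥(Subgroup.normalizer (K : Set G)) → ℂ) = m :=
        fun η => gen_inner_int hgen (gen_of_irr η.2)
      have hdeg : ∀ η : IrrCharacter ↥(Subgroup.normalizer (K : Set G)), ∃ d : ℕ, (η : ↥(Subgroup.normalizer (K : Set G)) → ℂ) 1 = d := fun η => char_one_nat (irr_isCharacter η.2)
      choose mm hmm using hin
      choose dd hdd using hdeg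
      rw [finsum_mem_def, finsum_eq_sum_of_fintype]
      refine ⟨∑ η : IrrCharacter ↥(Subgroup.normalizer (K : Set G)), if ¬ Rel (K.subgroupOf (Subgroup.normalizer (K : Set G))) (η : ↥(Subgroup.normalizer (K : Set G)) → ℂ) then (mm η - (m / d : ℚ) * dd η) * dd η else 0, ?_⟩
      rw [Rat.cast_sum]
      refine Finset.sum_congr rfl fun η _ => ?_
      rw [Set.indicator_apply]
      by_cases hr : Rel (K.subgroupOf (Subgroup.normalizer (K : Set G))) (η : ↥(Subgroup.normalizer (K : Set G)) → ℂ)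
      · rw [if_neg (fun h => h hr), if_neg (fun h => h hr)]; simp
      · rw [if_pos hr, if_pos (show η ∈ {η : IrrCharacter ↥(Subgroup.normalizer (K : Set G)) | ¬ Rel (K.subgroupOf (Subgroup.normalizer (K : Set G))) (η : ↥(Subgroup.normalizer (K : Set G)) → ℂ)} from hr), hmm, hdd, hcv, hm, hd]
        push_cast; ring
    by_cases hK1 : ∃ k : ↥(Subgroup.normalizer (K : Set G)), (k : G) ∈ K ∧ k ≠ 1
    · obtain ⟨k, hk, hk1⟩ := hK1
      have e2 := e1 k (Subgroup.mem_subgroupOf.mpr hk) hk1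
      rw [hq] at e2
      have hint := gen_isIntegral hgen k
      rw [e2] at hint
      obtain ⟨n, hn⟩ := CfsgLib.CharInt2.rat_isIntegral hint
      refine ⟨n, fun k' hk' hk1' => ?_⟩
      have e3 := e1 k' (Subgroup.mem_subgroupOf.mpr hk') hk1'
      rw [hq, ← hn] at e3
      push_cast at e3
      exact e3
    · push Not at hK1
      exact ⟨0, fun k hk hk1 => absurd (hK1 k hk) hk1⟩
  choose! v hv using hv
  -- proportionality
  have hKne : ∃ k : ↥(Subgroup.normalizer (K : Set G)), (k : G) ∈ K ∧ k ≠ 1 := by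
    obtain ⟨-, k, hk, hne⟩ := (hS' χ₀).mp hχ₀
    exact ⟨k, Subgroup.mem_subgroupOf.mp hk, fun h => hne (by rw [h])⟩
  have hprop : ∀ χ ∈ S, ∀ ξ ∈ S, ξ 1 * v χ = χ 1 * v ξ := by
    intro χ hχ ξ hξ
    obtain ⟨k, hk, hk1⟩ := hKne
    obtain ⟨a, ha0, ha⟩ := irr_one_nat ((hS' χ).mp hχ).1
    obtain ⟨b, hb0, hb⟩ := irr_one_nat ((hS' ξ).mp hξ).1
    obtain ⟨m1, m2⟩ := comb_mem hstar hχ hξ ha hb
    rw [hext _ m1] at m2
    have h1 := congrFun m2 (k : G)
    rw [ind_eq hTI hC (classFun_sub ?_ ?_) ?_ (mem_z1.mp m1).2 k] at h1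
    · simp only [Pi.sub_apply, Pi.smul_apply] at h1
      simp only [zsmul_eq_mul] at h1
      rw [← hv χ hχ k hk hk1, ← hv ξ hξ k hk hk1, ha, hb]
      push_cast at h1
      linear_combination -h1
    · intro x y
      rw [Pi.smul_apply, Pi.smul_apply, irr_classFun ((hS' χ).mp hχ).1]
    · intro x y
      rw [Pi.smul_apply, Pi.smul_apply, irr_classFun ((hS' ξ).mp hξ).1]
    · intro x hx
      rw [Pi.sub_apply, Pi.smul_apply, Pi.smul_apply, rel_off normal' hfpf ((hS' χ).mp hχ) (fun h => hx (Subgroup.mem_subgroupOf.mp h)),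
        rel_off normal' hfpf ((hS' ξ).mp hξ) (fun h => hx (Subgroup.mem_subgroupOf.mp h)), smul_zero, smul_zero, sub_zero]
  -- the number `m`
  have hχ₀1 := irr_one_ne_zero ((hS' χ₀).mp hχ₀).1
  set m₀ : ℂ := e * v χ₀ / χ₀ 1 with hm₀
  have hm₀' : ∀ χ ∈ S, (v χ : ℂ) = m₀ * χ 1 / e := by
    intro χ hχ
    have := hprop χ hχ χ₀ hχ₀
    rw [hm₀]
    field_simp
    linear_combination this
  have hθ : ∀ θ : ↥(K.subgroupOf (Subgroup.normalizer (K : Set G))) → ℂ, IsIrrCharacter _ θ → (θ ≠ fun _ => 1) → ∃ n : ℤ, m₀ * θ 1 = n := by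
    intro θ hθ hθ1
    have h1 := rel_ind normal' hfpf hθ hθ1
    have h2 := hm₀' _ ((hS' _).mpr h1)
    rw [ind_one, ← he] at h2
    refine ⟨v (indFun (K.subgroupOf (Subgroup.normalizer (K : Set G))) θ), ?_⟩
    rw [h2]; field_simp
  have hint : ∃ m : ℤ, m₀ = m := by
    obtain ⟨θ₀, hθ₀, hθ₀1, -⟩ := rel_exists normal' hfpf ((hS' χ₀).mp hχ₀)
    obtain ⟨n₀, hn₀⟩ := hθ θ₀ hθ₀ hθ₀1
    have hA : ∃ n : ℤ, m₀ * (Nat.card ↥(K.subgroupOf (Subgroup.normalizer (K : Set G))) : ℂ) = n := by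
      have h1 := CfsgLib.CharInt2.charDegree_dvd_card hθ₀
      obtain ⟨t, ht⟩ := h1
      have h2 := CfsgLib.CharInt.irr_one_eq_charDegree hθ₀
      refine ⟨n₀ * t, ?_⟩
      rw [ht]; push_cast
      rw [← hn₀, h2]; ring
    have hB : ∃ n : ℤ, m₀ * ((Nat.card ↥(K.subgroupOf (Subgroup.normalizer (K : Set G))) : ℂ) - 1) = n := by
      have h1 := sum_sq_degree (G := ↥(K.subgroupOf (Subgroup.normalizer (K : Set G))))
      have h2 : ∀ θ : IrrCharacter ↥(K.subgroupOf (Subgroup.normalizer (K : Set G))), ∃ n : ℤ,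
          m₀ * (((θ : ↥(K.subgroupOf (Subgroup.normalizer (K : Set G))) → ℂ) 1) ^ 2 - (if (θ : ↥(K.subgroupOf (Subgroup.normalizer (K : Set G))) → ℂ) = (fun _ => 1) then 1 else 0)) = n := by
        intro θ
        by_cases h3 : (θ : ↥(K.subgroupOf (Subgroup.normalizer (K : Set G))) → ℂ) = (fun _ => 1)
        · refine ⟨0, ?_⟩
          rw [if_pos h3, h3]; simp
        · obtain ⟨n, hn⟩ := hθ _ θ.2 h3
          obtain ⟨d, hd⟩ := char_one_nat (irr_isCharacter θ.2)
          refine ⟨n * d, ?_⟩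
          rw [if_neg h3, sub_zero, pow_two, ← mul_assoc, hn, hd]; push_cast; ring
      choose nn hnn using h2
      refine ⟨∑ θ, nn θ, ?_⟩
      push_cast
      rw [← h1, ← Finset.sum_congr rfl fun θ _ => hnn θ, ← Finset.mul_sum, Finset.sum_sub_distrib]
      congr 2
      rw [Finset.sum_eq_single (⟨_, isIrrCharacter_one⟩ : IrrCharacter ↥(K.subgroupOf (Subgroup.normalizer (K : Set G))))]
      · rw [if_pos rfl]
      · intro θ _ hne
        rw [if_neg (fun h => hne (Subtype.ext h))]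
      · intro h; exact absurd (Finset.mem_univ _) h
    obtain ⟨n1, h1⟩ := hA
    obtain ⟨n2, h2⟩ := hB
    refine ⟨n1 - n2, ?_⟩
    push_cast
    rw [← h1, ← h2]; ring
  obtain ⟨m, hm⟩ := hint
  refine ⟨m, fun χ hχ k hk hk1 => ?_⟩
  rw [hv χ hχ k hk hk1, hm₀' χ hχ, hm]

end Cfsg.Agent.S0853
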