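import Cfsg.Agent.EqBase
import Cfsg.Agent.LibCoh23
import Cfsg.Agent.S0852
import Cfsg.Agent.S0853
/-!
# Characters of a group with a coherent TI Frobenius kernel (helper16)
-/
set_option autoImplicit false
set_option linter.all false
open Cfsg CfsgLib.CharBasic CfsgLib.CharIndA CfsgLib.CharNorm CfsgLib.Sgn CfsgLib.Clifford
open scoped ComplexConjugate
namespace CfsgLib.Coh

universe u v

section Fro
open Classical in
/-- the irreducible characters in `inducedIrrAbove K ⊥` -/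
noncomputable def relF {L : Type u} [Group L] [Fintype L] (K : Subgroup L) : Finset (IrrCharacter L) :=
  Finset.univ.filter fun η => (η : L → ℂ) ∈ inducedIrrAbove K ⊥

theorem mem_relF {L : Type u} [Group L] [Fintype L] {K : Subgroup L} {η : IrrCharacter L} : η ∈ relF K ↔ (η : L → ℂ) ∈ inducedIrrAbove K ⊥ := by
  classical
  rw [relF, Finset.mem_filter]
  exact ⟨fun h => h.2, fun h => ⟨Finset.mem_univ _, h⟩⟩

namespace Fro
variable {L : Type u} [Group L] [Fintype L] {K : Subgroup L} (D : Fro K)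
include D

theorem not_mem_ker {η : L → ℂ} (h : IsIrrCharacter L η) (h' : η ∉ inducedIrrAbove K ⊥) {k : L} (hk : k ∈ K) : η k = η 1 := by
  by_contra hne
  exact h' (D.mem_S h ⟨k, hk, hne⟩)

theorem inner_one {η : L → ℂ} (h : η ∈ inducedIrrAbove K ⊥) : classInner η (fun _ => 1) = 0 := by
  apply irr_inner_ne (D.irr η h) isIrrCharacter_one
  rintro rfl
  obtain ⟨x, hx⟩ : ∃ x : L, x ∉ K := by
    by_contra hcon
    push Not at hcon
    exact D.ne_top (Subgroup.eq_top_iff' K |>.mpr hcon)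
  have := D.off (z_sub h) hx
  exact one_ne_zero this

theorem sum_L {f : L → ℂ} (h : ∀ x, x ∉ K → f x = 0) [Fintype K] : ∑ x : L, f x = ∑ k : K, f k := by
  classical
  rw [← Finset.sum_subset (Finset.subset_univ (Finset.univ.filter fun x : L => x ∈ K)) (by
    intro x _ hx
    apply h
    intro hxK
    exact hx (Finset.mem_filter.mpr ⟨Finset.mem_univ _, hxK⟩))]
  exact (Finset.sum_subtype (Finset.univ.filter fun x : L => x ∈ K) (fun x => by simp) f)

theorem sum_K [Fintype K] {η : L → ℂ} (h : η ∈ inducedIrrAbove K ⊥) : ∑ k : K, η k = 0 := by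
  rw [← D.sum_L (fun x hx => D.off (z_sub h) hx)]
  have h1 := D.inner_one h
  rw [inner_one_right] at h1
  exact (mul_eq_zero.mp h1).resolve_left (inv_ne_zero (by exact_mod_cast Nat.card_pos.ne'))

theorem sum_not [DecidableEq (IrrCharacter L)] : ∑ η ∈ Finset.univ \ relF K, (η : L → ℂ) 1 ^ 2 = (K.index : ℂ) := by
  classical
  haveI : Fintype K := Fintype.ofFinite _
  have h1 : ∑ k : K, ∑ η : IrrCharacter L, (η : L → ℂ) 1 * (η : L → ℂ) k = (Nat.card L : ℂ) := by
    rw [Finset.sum_eq_single (1 : K)]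
    · have := sum_sq_degree (G := L)
      rw [← this]
      exact Finset.sum_congr rfl fun η _ => by rw [pow_two]; rfl
    · intro k _ hk
      exact sum_degree_mul (k : L) (fun h => hk (Subtype.ext h))
    · intro h; exact absurd (Finset.mem_univ _) h
  rw [Finset.sum_comm] at h1
  have h2 : ∀ η : IrrCharacter L, ∑ k : K, (η : L → ℂ) 1 * (η : L → ℂ) k = if η ∈ relF K then 0 else (Nat.card K : ℂ) * (η : L → ℂ) 1 ^ 2 := by
    intro η
    by_cases hη : η ∈ relF K
    · rw [if_pos hη, ← Finset.mul_sum, D.sum_K (mem_relF.mp hη), mul_zero]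
    · rw [if_neg hη, Finset.sum_congr rfl fun k _ => by rw [D.not_mem_ker η.2 (fun h => hη (mem_relF.mpr h)) k.2], Finset.sum_const, Finset.card_univ,
        ← Nat.card_eq_fintype_card, nsmul_eq_mul, pow_two]
  rw [Finset.sum_congr rfl fun η _ => h2 η, ← Finset.sum_filter_not_add_sum_filter Finset.univ (fun η => η ∈ relF K)] at h1
  rw [Finset.sum_congr rfl (fun η hη => if_neg (Finset.mem_filter.mp hη).2), Finset.sum_congr rfl (fun η hη => if_pos (Finset.mem_filter.mp hη).2),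
    Finset.sum_const_zero, add_zero, ← Finset.mul_sum] at h1
  have h3 : (Finset.univ.filter fun η : IrrCharacter L => ¬ η ∈ relF K) = Finset.univ \ relF K := by
    ext η; simp
  rw [h3] at h1
  have h4 := Subgroup.card_mul_index K
  have h5 : (Nat.card K : ℂ) ≠ 0 := by exact_mod_cast Nat.card_pos.ne'
  apply mul_left_cancel₀ h5
  rw [h1]
  exact_mod_cast h4.symm

theorem sum_one : ∑ η ∈ relF K, (η : L → ℂ) 1 ^ 2 = (K.index : ℂ) * ((Nat.card K : ℂ) - 1) := by
  classical
  have h1 := sum_sq_degree (G := L)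
  rw [← Finset.sum_sdiff (Finset.subset_univ (relF K)), D.sum_not] at h1
  have h4 : (Nat.card K : ℂ) * (K.index : ℂ) = (Nat.card L : ℂ) := by exact_mod_cast Subgroup.card_mul_index K
  linear_combination h1 - h4

theorem sum_deg {u : L} (hu : u ∈ K) (hu1 : u ≠ 1) : ∑ η ∈ relF K, (η : L → ℂ) 1 * (η : L → ℂ) u = -(K.index : ℂ) := by
  classical
  have h1 := sum_degree_mul u hu1
  rw [← Finset.sum_sdiff (Finset.subset_univ (relF K))] at h1
  have h2 : ∑ η ∈ Finset.univ \ relF K, (η : L → ℂ) 1 * (η : L → ℂ) u = (K.index : ℂ) := by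
    rw [← D.sum_not]
    refine Finset.sum_congr rfl fun η hη => ?_
    rw [Finset.mem_sdiff] at hη
    rw [D.not_mem_ker η.2 (fun h => hη.2 (mem_relF.mpr h)) hu, pow_two]
  rw [h2] at h1
  linear_combination h1

theorem sum_sq {u : L} (hu : u ∈ K) : ∑ η ∈ relF K, (η : L → ℂ) u * conj ((η : L → ℂ) u) = (Nat.card (Subgroup.centralizer ({u} : Set L)) : ℂ) - (K.index : ℂ) := by
  classical
  have h1 := column_orthogonality u u
  rw [if_pos (IsConj.refl u)] at h1
  rw [← Finset.sum_sdiff (Finset.subset_univ (relF K))] at h1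
  have h2 : ∑ η ∈ Finset.univ \ relF K, (η : L → ℂ) u * conj ((η : L → ℂ) u) = (K.index : ℂ) := by
    rw [← D.sum_not]
    refine Finset.sum_congr rfl fun η hη => ?_
    rw [Finset.mem_sdiff] at hη
    rw [D.not_mem_ker η.2 (fun h => hη.2 (mem_relF.mpr h)) hu]
    obtain ⟨n, -, hn⟩ := irr_one_nat η.2
    rw [hn, Complex.conj_natCast, pow_two]
  rw [h2] at h1
  linear_combination h1

end Fro
end Fro

namespace TIF
variable {G : Type v} [Group G] [Fintype G] {H L : Subgroup G} [Fintype L] (D : TIF H L)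
include D

theorem cent_le {u : G} (hu : u ∈ H) (hu1 : u ≠ 1) {g : G} (hg : g * u = u * g) : g ∈ L := by
  by_contra h
  have := D.hTI g h u hu (by
    have : g * u * g⁻¹ = u := by rw [hg]; group
    rw [this]; exact hu)
  exact hu1 this

theorem card_cent {u : L} (hu : (u : G) ∈ H) (hu1 : u ≠ 1) :
    Nat.card (Subgroup.centralizer ({(u : G)} : Set G)) = Nat.card (Subgroup.centralizer ({u} : Set L)) := by
  apply Nat.card_congr
  refine ⟨fun g => ⟨⟨g, D.cent_le hu (fun h => hu1 (Subtype.ext h)) (Subgroup.mem_centralizer_singleton_iff.mp g.2)⟩, ?_⟩,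
    fun g => ⟨(g : L), ?_⟩, fun g => rfl, fun g => rfl⟩
  · rw [Subgroup.mem_centralizer_singleton_iff]
    exact Subtype.ext (Subgroup.mem_centralizer_singleton_iff.mp g.2)
  · rw [Subgroup.mem_centralizer_singleton_iff]
    exact congrArg Subtype.val (Subgroup.mem_centralizer_singleton_iff.mp g.2)

/-- the number of conjugacy classes meeting `H` in non-identity elements -/
theorem card_classes_ge : (relF (H.subgroupOf L)).card ≤ Nat.card {C : ConjClasses G // ∃ g : G, g ∈ H ∧ g ≠ 1 ∧ ConjClasses.mk g = C} := by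
  classical
  have F := D.fro
  set Q := {C : ConjClasses G // ∃ g : G, g ∈ H ∧ g ≠ 1 ∧ ConjClasses.mk g = C} with hQ
  have hrep : ∀ C : Q, ∃ u : L, (u : G) ∈ H ∧ u ≠ 1 ∧ ConjClasses.mk (u : G) = C.1 := by
    rintro ⟨C, g, h1, h2, h3⟩
    exact ⟨⟨g, D.hHL.le h1⟩, h1, fun h => h2 (congrArg Subtype.val h), h3⟩
  choose r hr1 hr2 hr3 using hrep
  haveI : Finite Q := Subtype.finite
  haveI : Fintype Q := Fintype.ofFinite _
  let Φ : ((relF (H.subgroupOf L)) → ℂ) →ₗ[ℂ] (Q → ℂ) :=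
    { toFun := fun c C => ∑ ζ : relF (H.subgroupOf L), c ζ * (ζ.1 : L → ℂ) (r C)
      map_add' := by
        intro c c'
        funext C
        show ∑ ζ, (c ζ + c' ζ) * _ = ∑ ζ, c ζ * _ + ∑ ζ, c' ζ * _
        rw [← Finset.sum_add_distrib]
        exact Finset.sum_congr rfl fun ζ _ => by ring
      map_smul' := by
        intro a c
        funext C
        show ∑ ζ, (a * c ζ) * _ = a * ∑ ζ, c ζ * _
        rw [Finset.mul_sum]
        exact Finset.sum_congr rfl fun ζ _ => by ring }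
  have hinj : Function.Injective Φ := by
    rw [← LinearMap.ker_eq_bot, LinearMap.ker_eq_bot']
    intro c hc
    let f : L → ℂ := ∑ ζ : relF (H.subgroupOf L), c ζ • (ζ.1 : L → ℂ)
    have hf : ∀ x, f x = ∑ ζ : relF (H.subgroupOf L), c ζ * (ζ.1 : L → ℂ) x := by
      intro x
      show (∑ ζ : relF (H.subgroupOf L), c ζ • (ζ.1 : L → ℂ)) x = _
      rw [Finset.sum_apply]; rfl
    have hfc : IsClassFunction L f := classFun_sum _ fun ζ _ => classFun_smul _ (irr_classFun ζ.1.2)
    have hoff : ∀ x, x ∉ H.subgroupOf L → f x = 0 := by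
      intro x hx
      rw [hf]
      exact Finset.sum_eq_zero fun ζ _ => by rw [F.off (z_sub (mem_relF.mp ζ.2)) hx, mul_zero]
    have hon : ∀ x, x ≠ 1 → f x = 0 := by
      intro x hx1
      by_cases hx : x ∈ H.subgroupOf L
      · have hx' : (x : G) ∈ H := hx
        let C : Q := ⟨ConjClasses.mk (x : G), x, hx', fun h => hx1 (Subtype.ext h), rfl⟩
        have h1 := congrFun hc C
        have h2 : f (r C) = 0 := by rw [hf]; exact h1
        have h3 : IsConj (r C : G) (x : G) := ConjClasses.mk_eq_mk_iff_isConj.mp (hr3 C)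
        obtain ⟨g, hg⟩ := isConj_iff.mp h3
        have hgL : g ∈ L := by
          by_contra hgL
          have := D.hTI g hgL _ (hr1 C) (by rw [hg]; exact hx')
          exact hr2 C (Subtype.ext this)
        have h4 := hfc (r C) ⟨g, hgL⟩
        have h5 : (⟨g, hgL⟩ : L) * r C * (⟨g, hgL⟩ : L)⁻¹ = x := Subtype.ext hg
        rw [h5, h2] at h4
        exact h4
      · exact hoff x hx
    have hinner : classInner f (fun _ => 1) = 0 := by
      show classInner (∑ ζ : relF (H.subgroupOf L), c ζ • (ζ.1 : L → ℂ)) _ = 0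
      rw [ci_sum_l]
      exact Finset.sum_eq_zero fun ζ _ => by rw [ci_smul_l, F.inner_one (mem_relF.mp ζ.2), mul_zero]
    rw [inner_one_right, Finset.sum_eq_single (1 : L) (fun x _ hx => hon x hx) (fun h => absurd (Finset.mem_univ _) h)] at hinner
    have h1 : f 1 = 0 := (mul_eq_zero.mp hinner).resolve_left (inv_ne_zero (by exact_mod_cast Nat.card_pos.ne'))
    have hf0 : f = 0 := by
      funext x
      by_cases hx : x = 1
      · rw [hx]; exact h1
      · exact hon x hx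
    funext ζ
    have h2 : classInner f (ζ.1 : L → ℂ) = c ζ := by
      show classInner (∑ ζ : relF (H.subgroupOf L), c ζ • (ζ.1 : L → ℂ)) _ = c ζ
      rw [ci_sum_l, Finset.sum_eq_single ζ]
      · rw [ci_smul_l, irr_inner_self ζ.1.2, mul_one]
      · intro η _ hη
        rw [ci_smul_l, irr_inner_ne η.1.2 ζ.1.2 (fun h => hη (Subtype.ext (Subtype.ext h))), mul_zero]
      · intro h; exact absurd (Finset.mem_univ _) h
    rw [hf0, ci_zero_l] at h2
    exact h2.symm
  have h1 := LinearMap.finrank_le_finrank_of_injective hinj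
  rw [Module.finrank_fintype_fun_eq_card, Module.finrank_fintype_fun_eq_card, Fintype.card_coe] at h1
  rw [Nat.card_eq_fintype_card]
  exact h1

/-- non-constancy on the non-identity elements of `H` -/
def NC (H : Subgroup G) (ψ : G → ℂ) : Prop := ∃ a ∈ H, ∃ b ∈ H, a ≠ 1 ∧ b ≠ 1 ∧ ψ a ≠ ψ b

section Star
variable {star : (L → ℂ) → (G → ℂ)} (hstar : IsLinearIsometryOn (zspan (inducedIrrAbove (H.subgroupOf L) ⊥)) star)
  (hext : ∀ α ∈ zspanOn (inducedIrrAbove (H.subgroupOf L) ⊥) {1}ᶜ, star α = indFun L α)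
  (htwo : ∃ χ ∈ inducedIrrAbove (H.subgroupOf L) ⊥, ∃ ξ ∈ inducedIrrAbove (H.subgroupOf L) ⊥, χ ≠ ξ)
include hstar hext htwo

theorem nonconst {ψ : G → ℂ} (hψ : IsIrrCharacter G ψ) :
    (∃ χ ∈ inducedIrrAbove (H.subgroupOf L) ⊥, ψ = star χ ∨ ψ = -star χ) ↔ NC H ψ := by
  obtain rfl := D.norm
  exact Cfsg.Agent.S0852.result H (fun g hg k hk h => D.hTI g hg k hk h) D.hHL
    (fun k hk hk1 x hx => D.hC k hk hk1 x (D.cent_le hk hk1 (Subgroup.mem_centralizer_singleton_iff.mp hx)) (Subgroup.mem_centralizer_singleton_iff.mp hx))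
    _ D.fro.S_eq.symm htwo star hstar hext ψ hψ

theorem shift : ∃ m : ℤ, ∀ χ ∈ inducedIrrAbove (H.subgroupOf L) ⊥, ∀ k : L, (k : G) ∈ H → k ≠ 1 →
    star χ k - χ k = (m : ℂ) * χ 1 / ((H.subgroupOf L).index : ℂ) := by
  obtain rfl := D.norm
  exact Cfsg.Agent.S0853.result H (fun g hg k hk h => D.hTI g hg k hk h) D.hHL
    (fun k hk hk1 x hx => D.hC k hk hk1 x (D.cent_le hk hk1 (Subgroup.mem_centralizer_singleton_iff.mp hx)) (Subgroup.mem_centralizer_singleton_iff.mp hx))
    _ D.fro.S_eq.symm htwo star hstar hext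

theorem exists_X (ζ : IrrCharacter L) : ∃ χ : IrrCharacter G, ζ ∈ relF (H.subgroupOf L) → (star ζ = (χ : G → ℂ) ∨ star ζ = -(χ : G → ℂ)) := by
  by_cases hζ : ζ ∈ relF (H.subgroupOf L)
  · have hζ' := mem_relF.mp hζ
    have h1 : classInner (star ζ) (star ζ) = 1 := by rw [iso_inner hstar (z_sub hζ') (z_sub hζ')]; exact irr_inner_self ζ.2
    rcases gen_norm_one (iso_gen hstar (z_sub hζ')) h1 with h2 | h2
    · exact ⟨⟨_, h2⟩, fun _ => Or.inl rfl⟩
    · exact ⟨⟨_, h2⟩, fun _ => Or.inr (neg_neg _).symm⟩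
  · exact ⟨⟨_, isIrrCharacter_one⟩, fun h => absurd h hζ⟩

open Classical in
/-- sums over the non-constant characters -/
theorem sum_NC (f : (G → ℂ) → ℂ) (hf : ∀ φ, f (-φ) = f φ) :
    ∑ χ ∈ (Finset.univ.filter fun χ : IrrCharacter G => NC H (χ : G → ℂ)), f χ = ∑ ζ ∈ relF (H.subgroupOf L), f (star ζ) := by
  choose X hX using D.exists_X hstar hext htwo
  symm
  refine Finset.sum_bij (fun ζ _ => X ζ) ?_ ?_ ?_ ?_
  · intro ζ hζ
    rw [Finset.mem_filter]
    refine ⟨Finset.mem_univ _, ?_⟩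
    rw [← D.nonconst hstar hext htwo (X ζ).2]
    refine ⟨ζ, mem_relF.mp hζ, ?_⟩
    rcases hX ζ hζ with h | h
    · exact Or.inl h.symm
    · exact Or.inr (by rw [h, neg_neg])
  · intro ζ hζ ζ' hζ' h
    by_contra hne
    have h1 : classInner (star ζ) (star ζ') = 0 := by
      rw [iso_inner hstar (z_sub (mem_relF.mp hζ)) (z_sub (mem_relF.mp hζ'))]
      exact irr_inner_ne ζ.2 ζ'.2 (fun h => hne (Subtype.ext h))
    have h2 : classInner ((X ζ) : G → ℂ) (X ζ) = 1 := irr_inner_self (X ζ).2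
    beta_reduce at h
    rcases hX ζ hζ with h3 | h3 <;> rcases hX ζ' hζ' with h4 | h4 <;> rw [h3, h4, ← h] at h1
    · exact one_ne_zero (h2.symm.trans h1)
    · rw [ci_neg_r, h2] at h1; norm_num at h1
    · rw [ci_neg_l, h2] at h1; norm_num at h1
    · rw [ci_neg_r, ci_neg_l, h2] at h1; norm_num at h1
  · intro χ hχ
    obtain ⟨ζ, hζ, h⟩ := (D.nonconst hstar hext htwo χ.2).mpr (Finset.mem_filter.mp hχ).2
    have hζi := D.fro.irr ζ hζ
    refine ⟨⟨ζ, hζi⟩, mem_relF.mpr hζ, ?_⟩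
    have h5 := hX ⟨ζ, hζi⟩ (mem_relF.mpr hζ)
    have h5' : star ζ = (X ⟨ζ, hζi⟩ : G → ℂ) ∨ star ζ = -(X ⟨ζ, hζi⟩ : G → ℂ) := h5
    have key : ((X ⟨ζ, hζi⟩) : G → ℂ) = χ := by
      have h2 : classInner (χ : G → ℂ) χ = 1 := irr_inner_self χ.2
      by_contra hne
      have h6 : classInner (χ : G → ℂ) (X ⟨ζ, hζi⟩) = 0 := irr_inner_ne χ.2 (X ⟨ζ, hζi⟩).2 (fun h => hne h.symm)
      rcases h with h3 | h3 <;> rcases h5' with h4 | h4
      · rw [← h4, ← h3, h2] at h6; exact one_ne_zero h6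
      · rw [eq_neg_iff_add_eq_zero, ← h3] at h4
        have : ((X ⟨ζ, hζi⟩) : G → ℂ) = -(χ : G → ℂ) := by rw [eq_neg_iff_add_eq_zero, add_comm]; exact h4
        rw [this, ci_neg_r, h2] at h6; norm_num at h6
      · have : ((X ⟨ζ, hζi⟩) : G → ℂ) = -(χ : G → ℂ) := by rw [h3, neg_neg]; exact h4.symm
        rw [this, ci_neg_r, h2] at h6; norm_num at h6
      · have : ((X ⟨ζ, hζi⟩) : G → ℂ) = (χ : G → ℂ) := by rw [h3, h4, neg_neg]
        rw [this, h2] at h6; exact one_ne_zero h6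
    exact Subtype.ext key
  · intro ζ hζ
    rcases hX ζ hζ with h | h
    · rw [h]
    · rw [h, hf]

open Classical in
/-- the number of irreducible characters which are constant on `H` minus the identity -/
theorem card_const : 1 + Nat.card {C : ConjClasses G // ∀ g : G, ConjClasses.mk g = C → g ∉ H} ≤
    (Finset.univ.filter fun χ : IrrCharacter G => ¬ NC H (χ : G → ℂ)).card := by
  classical
  have h1 := D.sum_NC hstar hext htwo (fun _ => 1) (fun _ => rfl)
  simp only [Finset.sum_const, nsmul_eq_mul, mul_one] at h1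
  have h2 : (Finset.univ.filter fun χ : IrrCharacter G => NC H (χ : G → ℂ)).card = (relF (H.subgroupOf L)).card := by exact_mod_cast h1
  have h3 : (Finset.univ.filter fun χ : IrrCharacter G => NC H (χ : G → ℂ)).card + (Finset.univ.filter fun χ : IrrCharacter G => ¬ NC H (χ : G → ℂ)).card = Nat.card (ConjClasses G) := by
    rw [Finset.card_filter_add_card_filter_not, Finset.card_univ, ← Nat.card_eq_fintype_card, card_irr]
  have h4 : Nat.card (Unit ⊕ {C : ConjClasses G // ∀ g : G, ConjClasses.mk g = C → g ∉ H} ⊕ {C : ConjClasses G // ∃ g : G, g ∈ H ∧ g ≠ 1 ∧ ConjClasses.mk g = C}) ≤ Nat.card (ConjClasses G) := by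
    refine Nat.card_le_card_of_injective (fun x => match x with
      | Sum.inl _ => ConjClasses.mk 1
      | Sum.inr (Sum.inl C) => C.1
      | Sum.inr (Sum.inr C) => C.1) ?_
    have a1 : ∀ C : {C : ConjClasses G // ∀ g : G, ConjClasses.mk g = C → g ∉ H}, ConjClasses.mk 1 ≠ C.1 := fun C h => C.2 1 h H.one_mem
    have a2 : ∀ C : {C : ConjClasses G // ∃ g : G, g ∈ H ∧ g ≠ 1 ∧ ConjClasses.mk g = C}, ConjClasses.mk 1 ≠ C.1 := by
      rintro ⟨C, g, h1, h2, rfl⟩ h
      exact h2 (isConj_one_right.mp (ConjClasses.mk_eq_mk_iff_isConj.mp h))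
    have a3 : ∀ (C : {C : ConjClasses G // ∀ g : G, ConjClasses.mk g = C → g ∉ H}) (C' : {C : ConjClasses G // ∃ g : G, g ∈ H ∧ g ≠ 1 ∧ ConjClasses.mk g = C}), C.1 ≠ C'.1 := by
      rintro ⟨C, hC⟩ ⟨C', g, h1, h2, h3⟩ h
      exact hC g (h3.trans h.symm) h1
    rintro (_ | C | C) (_ | C' | C') h
    · rfl
    · exact absurd h (a1 C')
    · exact absurd h (a2 C')
    · exact absurd h.symm (a1 C)
    · exact congrArg _ (congrArg _ (Subtype.ext h))
    · exact absurd h (a3 C C')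
    · exact absurd h.symm (a2 C)
    · exact absurd h.symm (a3 C' C)
    · exact congrArg _ (congrArg _ (Subtype.ext h))
  rw [Nat.card_sum, Nat.card_sum, Nat.card_unique] at h4
  have h5 := D.card_classes_ge
  omega

open Classical in
/-- the sum of squares over the constant characters -/
theorem sum_const {m : ℤ} (hm : ∀ χ ∈ inducedIrrAbove (H.subgroupOf L) ⊥, ∀ k : L, (k : G) ∈ H → k ≠ 1 →
    star χ k - χ k = (m : ℂ) * χ 1 / ((H.subgroupOf L).index : ℂ)) {u : L} (hu : (u : G) ∈ H) (hu1 : u ≠ 1) :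
    (((H.subgroupOf L).index : ℕ) : ℂ) * ∑ χ ∈ (Finset.univ.filter fun χ : IrrCharacter G => ¬ NC H (χ : G → ℂ)), (χ : G → ℂ) u * conj ((χ : G → ℂ) u) =
      ((H.subgroupOf L).index : ℂ) ^ 2 + 2 * m * (H.subgroupOf L).index - m ^ 2 * ((Nat.card H : ℂ) - 1) := by
  have F := D.fro
  have hw : (((H.subgroupOf L).index : ℕ) : ℂ) ≠ 0 := by exact_mod_cast Subgroup.index_ne_zero_of_finite
  have h1 := column_orthogonality (u : G) u
  rw [if_pos (IsConj.refl _), ← Finset.sum_filter_add_sum_filter_not Finset.univ (fun χ : IrrCharacter G => NC H (χ : G → ℂ)),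
    D.sum_NC hstar hext htwo (fun φ => φ u * conj (φ u)) (fun φ => by simp), D.card_cent hu hu1] at h1
  have h2 : ∀ ζ ∈ relF (H.subgroupOf L), star (ζ : L → ℂ) u * conj (star (ζ : L → ℂ) u) = (ζ : L → ℂ) u * conj ((ζ : L → ℂ) u) +
      ((m : ℂ) / (H.subgroupOf L).index) * ((ζ : L → ℂ) 1 * (ζ : L → ℂ) u) + ((m : ℂ) / (H.subgroupOf L).index) * conj ((ζ : L → ℂ) 1 * (ζ : L → ℂ) u) +
      ((m : ℂ) / (H.subgroupOf L).index) ^ 2 * (ζ : L → ℂ) 1 ^ 2 := by
    intro ζ hζ
    have h3 := hm ζ (mem_relF.mp hζ) u hu hu1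
    obtain ⟨n, -, hn⟩ := irr_one_nat ζ.2
    have h4 : star (ζ : L → ℂ) u = (ζ : L → ℂ) u + (m : ℂ) / (H.subgroupOf L).index * (ζ : L → ℂ) 1 := by
      linear_combination h3
    rw [h4, hn]
    simp only [map_add, map_mul, map_div₀, Complex.conj_natCast, map_intCast]
    ring
  rw [Finset.sum_congr rfl h2, Finset.sum_add_distrib, Finset.sum_add_distrib, Finset.sum_add_distrib, ← Finset.mul_sum, ← Finset.mul_sum,
    ← Finset.mul_sum, F.sum_sq hu, F.sum_deg hu hu1, F.sum_one, ← map_sum, F.sum_deg hu hu1, D.card_eq] at h1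
  simp only [map_neg, Complex.conj_natCast] at h1
  field_simp at h1 ⊢
  linear_combination h1

end Star
end TIF
end CfsgLib.Coh
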