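import Mathlib
import Cfsg.Agent.EqBase
import Cfsg.Agent.LibPCyc2
import Cfsg.Agent.LibFrob6c
import Cfsg.Agent.S0144

/-! fixed point free actions: structure of complements -/

set_option autoImplicit false

namespace CfsgLib.FPF1

open CfsgLib.SolvBasic CfsgLib.SolvMin CfsgLib.SolvCoprime
  CfsgLib.SolvNilp CfsgLib.SolvHall CfsgLib.SolvProd CfsgLib.SolvCrit CfsgLib.PCyc CfsgLib.TransAb

universe u v
variable {G : Type u} [Group G]

/-- `A` acts fixed point freely on `V` -/
def FPF (A V : Subgroup G) : Prop := ∀ a ∈ A, a ≠ 1 → V ⊓ Subgroup.centralizer {a} = ⊥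

theorem FPF.mono {A B V : Subgroup G} (h : FPF A V) (hB : B ≤ A) : FPF B V :=
  fun a ha h1 => h a (hB ha) h1

theorem FPF.coprime [Finite G] {A V : Subgroup G} (h : FPF A V)
    (hAV : A ≤ Subgroup.normalizer (V : Set G)) : (Nat.card A).Coprime (Nat.card V) := by
  rw [Nat.coprime_iff_gcd_eq_one]
  by_contra hne
  obtain ⟨p, hp, hd⟩ := Nat.exists_prime_and_dvd hne
  have hpA : p ∣ Nat.card A := hd.trans (Nat.gcd_dvd_left _ _)
  have hpV : p ∣ Nat.card V := hd.trans (Nat.gcd_dvd_right _ _)
  have : Fact p.Prime := ⟨hp⟩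
  obtain ⟨a, ha⟩ := exists_prime_orderOf_dvd_card' p hpA
  have hao : orderOf (a : G) = p := by rw [Subgroup.orderOf_coe, ha]
  have ha1 : (a : G) ≠ 1 := by
    intro h1
    rw [h1, orderOf_one] at hao
    exact hp.one_lt.ne hao
  have h1 : IsPGroup p (Subgroup.zpowers (a : G)) := IsPGroup.of_card (n := 1) (by
    rw [Nat.card_zpowers, hao, pow_one])
  have h2 := card_modEq_centralizer (Subgroup.zpowers (a : G)) V h1
    (Subgroup.zpowers_le.mpr (hAV a.2))
  have h3 : V ⊓ Subgroup.centralizer ((Subgroup.zpowers (a : G) : Subgroup G) : Set G) = ⊥ := by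
    rw [eq_bot_iff, ← h a a.2 ha1]
    refine inf_le_inf_left _ (Subgroup.centralizer_le ?_)
    rw [Set.singleton_subset_iff]; exact Subgroup.mem_zpowers _
  rw [h3, Subgroup.card_bot] at h2
  have h4 : p ∣ 1 := (Nat.modEq_zero_iff_dvd.mp
    (h2.symm.trans (Nat.modEq_zero_iff_dvd.mpr hpV)))
  exact hp.not_dvd_one h4

/-- an elementary abelian group of order `r^2` cannot act fixed point freely -/
theorem FPF.not_sq [Finite G] {A V : Subgroup G} (h : FPF A V)
    (hAV : A ≤ Subgroup.normalizer (V : Set G)) (hV : V ≠ ⊥) {r : ℕ} (hr : r.Prime)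
    {B : Subgroup G} (hBA : B ≤ A) (hB : Nat.card B = r ^ 2) (hBe : ∀ b ∈ B, b ^ r = 1) : False := by
  apply hV
  rw [eq_bot_iff]
  have hco := (h.mono hBA).coprime (hBA.trans hAV)
  rw [hB] at hco
  exact le_of_centralizers_le hr B V ⊥ hB hBe (hBA.trans hAV)
    (Nat.Coprime.coprime_dvd_left (dvd_pow_self r (by norm_num)) hco)
    (fun a ha h1 => (h a (hBA ha) h1).le)

/-- abelian subgroups acting fixed point freely are cyclic -/
theorem FPF.isCyclic_of_comm [Finite G] {A V : Subgroup G} (h : FPF A V)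
    (hAV : A ≤ Subgroup.normalizer (V : Set G)) (hV : V ≠ ⊥) (hA : IsMulCommutative A) :
    IsCyclic A := by
  by_contra hnc
  obtain ⟨r, B, hr, hB, hBe⟩ := exists_sq_of_not_isCyclic (A := A) hA.is_comm.comm hnc
  refine h.not_sq hAV hV hr (B := B.map A.subtype) (Subgroup.map_subtype_le _) ?_ ?_
  · rw [Subgroup.card_map_of_injective A.subtype_injective, hB]
  · rintro _ ⟨b, hb, rfl⟩
    rw [← map_pow, hBe b hb, map_one]

/-- groups of order `p q` acting fixed point freely are cyclic -/
theorem FPF.isCyclic_of_card_eq_mul [Finite G] {A V : Subgroup G} (h : FPF A V)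
    (hAV : A ≤ Subgroup.normalizer (V : Set G)) (hV : V ≠ ⊥) {p q : ℕ} (hp : p.Prime)
    (hq : q.Prime) (hA : Nat.card A = p * q) : IsCyclic A := by
  have hpf : Fact p.Prime := ⟨hp⟩
  have hqf : Fact q.Prime := ⟨hq⟩
  wlog hpq : p ≤ q generalizing p q
  · exact this hq hp (by rw [hA, mul_comm]) hqf hpf (by omega)
  rcases eq_or_lt_of_le hpq with heq | hlt
  · subst heq
    apply h.isCyclic_of_comm hAV hV
    exact ⟨⟨fun a b => (IsPGroup.commGroupOfCardEqPrimeSq (p := p) (G := A)
      (by rw [hA, pow_two])).mul_comm a b⟩⟩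
  by_contra hnc
  have hAcomm : ¬ IsMulCommutative A := fun hc => hnc (h.isCyclic_of_comm hAV hV hc)
  -- Q of order p, S of order q normal
  obtain ⟨P⟩ := (inferInstance : Nonempty (Sylow p A))
  obtain ⟨S⟩ := (inferInstance : Nonempty (Sylow q A))
  have hqp : ¬ q ∣ p := fun hd => by
    have := (Nat.prime_dvd_prime_iff_eq hq hp).mp hd; omega
  have hpq' : ¬ p ∣ q := fun hd => by
    have := (Nat.prime_dvd_prime_iff_eq hp hq).mp hd; omega
  have hPc : Nat.card (P : Subgroup A) = p := by
    rw [P.card_eq_multiplicity, hA, Nat.factorization_mul hp.ne_zero hq.ne_zero, Finsupp.add_apply,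
      Nat.factorization_eq_zero_of_not_dvd hpq', hp.factorization_self, add_zero, pow_one]
  have hSc : Nat.card (S : Subgroup A) = q := by
    rw [S.card_eq_multiplicity, hA, Nat.factorization_mul hp.ne_zero hq.ne_zero, Finsupp.add_apply,
      Nat.factorization_eq_zero_of_not_dvd hqp, hq.factorization_self, zero_add, pow_one]
  have hSi : (S : Subgroup A).index = p := by
    have h1 := (S : Subgroup A).card_mul_index
    rw [hSc, hA, mul_comm p q] at h1
    exact Nat.eq_of_mul_eq_mul_left hq.pos h1
  have hPi : (P : Subgroup A).index = q := by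
    have h1 := (P : Subgroup A).card_mul_index
    rw [hPc, hA] at h1
    exact Nat.eq_of_mul_eq_mul_left hp.pos h1
  have hSn : (S : Subgroup A).Normal := by
    apply Subgroup.normal_of_index_eq_minFac_card
    rw [hSi, hA]
    have h1 : (p * q).minFac.Prime := Nat.minFac_prime (by
      have := hp.one_lt; have := hq.one_lt; nlinarith)
    have h2 : (p * q).minFac ≤ p := Nat.minFac_le_of_dvd hp.two_le (Dvd.intro _ rfl)
    rcases (Nat.Prime.dvd_mul h1).mp (Nat.minFac_dvd (p * q)) with h3 | h3
    · exact ((Nat.prime_dvd_prime_iff_eq h1 hp).mp h3).symm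
    · have := (Nat.prime_dvd_prime_iff_eq h1 hq).mp h3
      omega
  have hsol : Group.IsSolvable A := Cfsg.Agent.S0144.main p q hp hq _ A 1 1 rfl (by
    rw [pow_one, pow_one, hA])
  have hcompl : (S : Subgroup A).IsComplement' (P : Subgroup A) := by
    apply Subgroup.isComplement'_of_coprime
    · rw [hSc, hPc, hA, mul_comm]
    · rw [hSc, hPc]; exact (Nat.coprime_primes hq hp).mpr (by omega)
  have hPn : ¬ (P : Subgroup A).Normal := by
    intro hPn
    apply hAcomm
    have hdis := hcompl.disjoint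
    have hSP : ∀ s ∈ (S : Subgroup A), ∀ t ∈ (P : Subgroup A), s * t = t * s := fun s hs t ht =>
      Subgroup.commute_of_normal_of_disjoint _ _ hSn hPn hdis s t hs ht
    have hScyc : IsCyclic (S : Subgroup A) := isCyclic_of_prime_card hSc
    have hPcyc : IsCyclic (P : Subgroup A) := isCyclic_of_prime_card hPc
    have hSS : ∀ s ∈ (S : Subgroup A), ∀ t ∈ (S : Subgroup A), s * t = t * s := fun s hs t ht =>
      congrArg Subtype.val ((IsCyclic.commGroup (α := (S : Subgroup A))).mul_comm ⟨s, hs⟩ ⟨t, ht⟩)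
    have hPP : ∀ s ∈ (P : Subgroup A), ∀ t ∈ (P : Subgroup A), s * t = t * s := fun s hs t ht =>
      congrArg Subtype.val ((IsCyclic.commGroup (α := (P : Subgroup A))).mul_comm ⟨s, hs⟩ ⟨t, ht⟩)
    have hc : ∀ s : A, s ∈ (S : Subgroup A) ∨ s ∈ (P : Subgroup A) → s ∈ Subgroup.center A := by
      intro s hs
      rw [← Subgroup.centralizer_univ, ← Subgroup.coe_top, ← hcompl.sup_eq_top,
        Subgroup.mem_centralizer_iff]
      intro y hy
      have hy' : y ∈ (S : Subgroup A) ⊔ (P : Subgroup A) := hy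
      rw [Subgroup.mem_sup_of_normal_left] at hy'
      obtain ⟨a, ha, b, hb, rfl⟩ := hy'
      rcases hs with hs | hs
      · calc a * b * s = a * (b * s) := by group
          _ = a * (s * b) := by rw [← hSP s hs b hb]
          _ = (a * s) * b := by group
          _ = s * (a * b) := by rw [hSS a ha s hs]; group
      · calc a * b * s = a * (b * s) := by group
          _ = a * (s * b) := by rw [hPP b hb s hs]
          _ = (a * s) * b := by group
          _ = s * (a * b) := by rw [hSP a ha s hs]; group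
    refine ⟨⟨fun x y => ?_⟩⟩
    have hx : x ∈ (S : Subgroup A) ⊔ (P : Subgroup A) := by rw [hcompl.sup_eq_top]; trivial
    rw [Subgroup.mem_sup_of_normal_left] at hx
    obtain ⟨a, ha, b, hb, rfl⟩ := hx
    have h1 := Subgroup.mem_center_iff.mp (mul_mem (hc a (Or.inl ha)) (hc b (Or.inr hb))) y
    exact h1.symm
  have hNP : Subgroup.normalizer ((P : Subgroup A) : Set A) = P := by
    have h1 : (P : Subgroup A).relIndex (Subgroup.normalizer ((P : Subgroup A) : Set A)) *
        (Subgroup.normalizer ((P : Subgroup A) : Set A)).index = q := by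
      rw [Subgroup.relIndex_mul_index Subgroup.le_normalizer, hPi]
    rcases (Nat.dvd_prime hq).mp (Dvd.intro_left _ h1) with h2 | h2
    · exfalso
      rw [Subgroup.index_eq_one, Subgroup.normalizer_eq_top_iff] at h2
      exact hPn h2
    · rw [h2] at h1
      have h3 : (P : Subgroup A).relIndex (Subgroup.normalizer ((P : Subgroup A) : Set A)) = 1 := by
        have := hq.pos
        nlinarith
      exact le_antisymm (Subgroup.relIndex_eq_one.mp h3) Subgroup.le_normalizer
  apply hV
  refine CfsgLib.Frob6.no_fpf' (A := A) (K := V) (Q := (P : Subgroup A).map A.subtype) hAV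
    (h.coprime hAV) hsol ?_ (Subgroup.map_subtype_le _) ?_ ?_ ?_
  · intro a ha ha1 v hv hc
    have h1 : v ∈ V ⊓ Subgroup.centralizer {a} := Subgroup.mem_inf.mpr ⟨hv, by
      rw [Subgroup.mem_centralizer_singleton_iff]; exact hc.symm⟩
    rw [h a ha ha1, Subgroup.mem_bot] at h1
    exact h1
  · rintro g hg _ ⟨x, hx, rfl⟩ ⟨y, hy, hxy⟩ hx1
    have hxy' : (y : G) = g⁻¹ * x * g := hxy
    refine ⟨⟨g, hg⟩, ?_, rfl⟩
    have hx1' : x ≠ 1 := fun h => hx1 (by rw [h, map_one])
    have hy1 : y ≠ 1 := by
      rintro rfl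
      apply hx1
      have : (x : G) = g * ((1 : A) : G) * g⁻¹ := by rw [hxy']; group
      change (x : G) = 1
      rw [this]; simp
    have hz : ∀ w ∈ (P : Subgroup A), w ≠ 1 → Subgroup.zpowers w = P := by
      intro w hw hw1
      have h1 : Subgroup.zpowers w ≤ P := Subgroup.zpowers_le.mpr hw
      have h2 : Nat.card (Subgroup.zpowers w) ∣ p := by
        rw [← hPc]; exact Subgroup.card_dvd_of_le h1
      rcases (Nat.dvd_prime hp).mp h2 with h3 | h3
      · exfalso
        rw [Nat.card_zpowers, orderOf_eq_one_iff] at h3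
        exact hw1 h3
      · exact Subgroup.eq_of_le_of_card_ge h1 (by rw [h3, hPc])
    have hgN : (⟨g, hg⟩ : A)⁻¹ ∈ Subgroup.normalizer ((P : Subgroup A) : Set A) := by
      apply Subgroup.mem_normalizer_iff_map_conj_eq.mpr
      rw [← hz x hx hx1', MonoidHom.map_zpowers]
      have h1 : (MulAut.conj (⟨g, hg⟩ : A)⁻¹).toMonoidHom x = y := by
        apply Subtype.ext
        change g⁻¹ * x * g⁻¹⁻¹ = y
        rw [hxy', inv_inv]
      refine (congrArg Subgroup.zpowers h1).trans ?_
      rw [hz y hy hy1, hz x hx hx1']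
    rw [hNP] at hgN
    exact (inv_mem_iff).mp hgN
  · intro hb
    have h1 : Nat.card ((P : Subgroup A).map A.subtype) = p := by
      rw [Subgroup.card_map_of_injective A.subtype_injective, hPc]
    rw [hb, Subgroup.card_bot] at h1
    exact hp.one_lt.ne h1
  · intro hb
    have h1 : Nat.card ((P : Subgroup A).map A.subtype) = p := by
      rw [Subgroup.card_map_of_injective A.subtype_injective, hPc]
    rw [hb, hA] at h1
    have h2 : q = 1 := by
      have := hp.pos
      nlinarith
    exact hq.one_lt.ne' h2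

/-- Sylow subgroups of groups acting fixed point freely -/
theorem FPF.unique_sub [Finite G] {A V : Subgroup G} (h : FPF A V)
    (hAV : A ≤ Subgroup.normalizer (V : Set G)) (hV : V ≠ ⊥) {p : ℕ} (hp : p.Prime)
    (hA : IsPGroup p A) : ∀ H K : Subgroup A, Nat.card H = p → Nat.card K = p → H = K := by
  have hpf : Fact p.Prime := ⟨hp⟩
  have key : ∀ H K : Subgroup A, Nat.card H = p → Nat.card K = p → K ≤ Subgroup.center A →
      H = K := by
    intro H K hH hK hKZ
    by_contra hne
    have hKn : K.Normal := normal_of_le_center hKZ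
    have hinf : K ⊓ H = ⊥ := by
      have h1 : Nat.card (K ⊓ H : Subgroup A) ∣ p := by
        rw [← hK]; exact Subgroup.card_dvd_of_le inf_le_left
      rcases (Nat.dvd_prime hp).mp h1 with h2 | h2
      · exact Subgroup.card_eq_one.mp h2
      · exfalso
        apply hne
        have h3 : K ⊓ H = K := Subgroup.eq_of_le_of_card_ge inf_le_left (by rw [h2, hK])
        have h4 : K ⊓ H = H := Subgroup.eq_of_le_of_card_ge inf_le_right (by rw [h2, hH])
        rw [← h4, h3]
    have hcard : Nat.card (K ⊔ H : Subgroup A) = p ^ 2 := by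
      have h1 := card_sup_of_normal K H
      rw [hinf, Subgroup.card_bot, mul_one, hK, hH] at h1
      rw [h1, pow_two]
    have hexp : ∀ b ∈ (K ⊔ H : Subgroup A), b ^ p = 1 := by
      intro b hb
      rw [Subgroup.mem_sup_of_normal_left] at hb
      obtain ⟨k, hk, l, hl, rfl⟩ := hb
      have hc : Commute k l := (Subgroup.mem_center_iff.mp (hKZ hk) l).symm
      rw [hc.mul_pow]
      have h1 : k ^ p = 1 := by
        have := pow_card_eq_one' (G := K) (x := ⟨k, hk⟩)
        rw [hK] at this
        exact congrArg Subtype.val this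
      have h2 : l ^ p = 1 := by
        have := pow_card_eq_one' (G := H) (x := ⟨l, hl⟩)
        rw [hH] at this
        exact congrArg Subtype.val this
      rw [h1, h2, one_mul]
    refine h.not_sq hAV hV hp (B := (K ⊔ H : Subgroup A).map A.subtype) (Subgroup.map_subtype_le _)
      (by rw [Subgroup.card_map_of_injective A.subtype_injective, hcard]) ?_
    rintro _ ⟨b, hb, rfl⟩
    rw [← map_pow, hexp b hb, map_one]
  intro H K hH hK
  -- a central subgroup of order p
  have hnt : Nontrivial A := by
    rw [← Finite.one_lt_card_iff_nontrivial]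
    have h1 := Nat.le_of_dvd Nat.card_pos (Subgroup.card_subgroup_dvd_card H)
    rw [hH] at h1
    exact lt_of_lt_of_le hp.one_lt h1
  have hZ : Nontrivial (Subgroup.center A) := hA.center_nontrivial
  have hd : p ∣ Nat.card (Subgroup.center A) := by
    obtain ⟨k, hk⟩ := IsPGroup.iff_card.mp (hA.to_subgroup (Subgroup.center A))
    rw [hk]
    apply dvd_pow_self
    rintro rfl
    rw [pow_zero] at hk
    have := Finite.one_lt_card_iff_nontrivial.mpr hZ
    omega
  obtain ⟨z, hz⟩ := exists_prime_orderOf_dvd_card' p hd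
  have hz' : Nat.card (Subgroup.zpowers (z : A)) = p := by
    rw [Nat.card_zpowers, Subgroup.orderOf_coe, hz]
  have hzZ : Subgroup.zpowers (z : A) ≤ Subgroup.center A := Subgroup.zpowers_le.mpr z.2
  rw [key H _ hH hz' hzZ, key K _ hK hz' hzZ]

end CfsgLib.FPF1
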