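import Mathlib
import Cfsg.Agent.EqBase
import Cfsg.Agent.LibFPF1

/-! fixed point free actions: Sylow subgroups and centre of complements -/

set_option autoImplicit false
open Pointwise

namespace CfsgLib.FPF1

open CfsgLib.SolvBasic CfsgLib.SolvMin CfsgLib.SolvCoprime
  CfsgLib.SolvNilp CfsgLib.SolvHall CfsgLib.SolvProd CfsgLib.SolvCrit CfsgLib.PCyc CfsgLib.TransAb
  CfsgLib.TransPC CfsgLib.TransFus

universe u v
variable {G : Type u} [Group G]

theorem FPF.pgroup_cyclic [Finite G] {A V : Subgroup G} (h : FPF A V)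
    (hAV : A ≤ Subgroup.normalizer (V : Set G)) (hV : V ≠ ⊥) {p : ℕ} (hp : p.Prime) (hp2 : p ≠ 2)
    (hA : IsPGroup p A) : IsCyclic A :=
  isCyclic_of_unique_odd hp hp2 hA (h.unique_sub hAV hV hp hA)

theorem FPF.two_group [Finite G] {A V : Subgroup G} (h : FPF A V)
    (hAV : A ≤ Subgroup.normalizer (V : Set G)) (hV : V ≠ ⊥) (hA : IsPGroup 2 A) :
    IsCyclic A ∨ ∃ n : ℕ, Nonempty (A ≃* QuaternionGroup (2 ^ n)) :=
  cyclic_or_quaternion hA (h.unique_sub hAV hV Nat.prime_two hA)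

/-- `t` of prime order `p` normalizing a cyclic `r`-group `R`, everything fixed point free:
then `t` centralizes `R`. -/
theorem FPF.commute_of_normalizes [Finite G] {A V : Subgroup G} (h : FPF A V)
    (hAV : A ≤ Subgroup.normalizer (V : Set G)) (hV : V ≠ ⊥) {p r : ℕ} (hp : p.Prime)
    (hr : r.Prime) (hpr : p ≠ r) {t : G} (ht : t ∈ A) (hto : orderOf t = p) {R : Subgroup G}
    (hRA : R ≤ A) (hR : IsPGroup r R) (hRc : IsCyclic R)
    (htR : t ∈ Subgroup.normalizer (R : Set G)) : ∀ x ∈ R, x * t = t * x := by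
  have hpf : Fact p.Prime := ⟨hp⟩
  have hrf : Fact r.Prime := ⟨hr⟩
  -- elements of order r
  have h1 : ∀ x ∈ R, x ^ r = 1 → x * t = t * x := by
    intro x hx hxr
    by_cases hx1 : x = 1
    · rw [hx1, one_mul, mul_one]
    have hxo : orderOf x = r := orderOf_eq_prime hxr hx1
    have hy : t * x * t⁻¹ ∈ R := (Subgroup.mem_normalizer_iff.mp htR x).mp hx
    have hyo : orderOf (t * x * t⁻¹) = r := by rw [orderOf_conj, hxo]
    have hun := (h.mono hRA).unique_sub (hRA.trans hAV) hV hr hR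
      (Subgroup.zpowers ⟨x, hx⟩) (Subgroup.zpowers ⟨_, hy⟩)
      (by rw [Nat.card_zpowers, Subgroup.orderOf_mk, hxo])
      (by rw [Nat.card_zpowers, Subgroup.orderOf_mk, hyo])
    have hyx : t * x * t⁻¹ ∈ Subgroup.zpowers x := by
      have h2 : (⟨_, hy⟩ : R) ∈ Subgroup.zpowers (⟨x, hx⟩ : R) := by
        rw [hun]; exact Subgroup.mem_zpowers _
      obtain ⟨k, hk⟩ := h2
      exact ⟨k, congrArg Subtype.val hk⟩
    have htN : Subgroup.zpowers t ≤ Subgroup.normalizer ((Subgroup.zpowers x : Subgroup G) : Set G) := by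
      rw [Subgroup.zpowers_le]
      apply Subgroup.mem_normalizer_iff_map_conj_eq.mpr
      apply Subgroup.eq_of_le_of_card_ge
      · rw [Subgroup.map_le_iff_le_comap, Subgroup.zpowers_le]
        exact hyx
      · rw [Subgroup.card_map_of_injective (MulAut.conj t).injective]
    have hcard := card_sup_of_le_normalizer htN
    have hinf : Subgroup.zpowers x ⊓ Subgroup.zpowers t = ⊥ := by
      apply inf_bot_of_coprime
      rw [Nat.card_zpowers, Nat.card_zpowers, hxo, hto]
      exact (Nat.coprime_primes hr hp).mpr hpr.symm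
    rw [hinf, Subgroup.card_bot, mul_one, Nat.card_zpowers, Nat.card_zpowers, hxo, hto] at hcard
    have hle : Subgroup.zpowers x ⊔ Subgroup.zpowers t ≤ A :=
      sup_le (Subgroup.zpowers_le.mpr (hRA hx)) (Subgroup.zpowers_le.mpr ht)
    have hcyc := (h.mono hle).isCyclic_of_card_eq_mul (hle.trans hAV) hV hr hp hcard
    have hxm : x ∈ Subgroup.zpowers x ⊔ Subgroup.zpowers t :=
      (le_sup_left : Subgroup.zpowers x ≤ _) (Subgroup.mem_zpowers x)
    have htm : t ∈ Subgroup.zpowers x ⊔ Subgroup.zpowers t :=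
      (le_sup_right : Subgroup.zpowers t ≤ _) (Subgroup.mem_zpowers t)
    exact congrArg Subtype.val ((IsCyclic.commGroup
      (α := (Subgroup.zpowers x ⊔ Subgroup.zpowers t : Subgroup G))).mul_comm ⟨x, hxm⟩ ⟨t, htm⟩)
  -- the automorphism
  let a : MulAut R := R.normalizerMonoidHom ⟨t, htR⟩
  have ha : ∀ x : R, ((a x : R) : G) = t * x * t⁻¹ := fun x => rfl
  have hao : Nat.Coprime (orderOf a) r := by
    have h2 : orderOf a ∣ orderOf (⟨t, htR⟩ : Subgroup.normalizer (R : Set G)) := orderOf_map_dvd _ _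
    rw [Subgroup.orderOf_mk, hto] at h2
    exact Nat.Coprime.coprime_dvd_left h2 ((Nat.coprime_primes hp hr).mpr hpr)
  have hRcomm : IsMulCommutative (⊤ : Subgroup R) :=
    ⟨⟨fun x y => Subtype.ext ((IsCyclic.commGroup (α := R)).mul_comm x y)⟩⟩
  have h2 := aut_fix_of_abelian hR a hao ⊤ (fun x _ => Subgroup.mem_top _) (by
    intro x hx
    apply Subtype.ext
    rw [ha]
    have h3 : (x : G) ^ r = 1 := by
      have := congrArg Subtype.val hx
      simpa using this
    rw [← h1 x x.2 h3, mul_inv_cancel_right])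
  intro x hx
  have h3 := h2 ⟨x, hx⟩ (Subgroup.mem_top _)
  have h4 : t * x * t⁻¹ = x := by
    have := congrArg Subtype.val h3
    rwa [ha] at this
  exact (mul_inv_eq_iff_eq_mul.mp h4).symm

theorem FPF.exists_central_odd [Finite G] {A V : Subgroup G} (h : FPF A V)
    (hAV : A ≤ Subgroup.normalizer (V : Set G)) (hV : V ≠ ⊥) (hA1 : A ≠ ⊥)
    (hodd : ¬ 2 ∣ Nat.card A) : ∃ t ∈ A, t ≠ 1 ∧ ∀ y ∈ A, y * t = t * y := by
  have hA1' : Nat.card A ≠ 1 := fun h => hA1 (Subgroup.card_eq_one.mp h)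
  obtain ⟨p, hpdef⟩ : ∃ p, p = (Nat.card A).minFac := ⟨_, rfl⟩
  have hp : p.Prime := hpdef ▸ Nat.minFac_prime hA1'
  have hpd : p ∣ Nat.card A := hpdef ▸ Nat.minFac_dvd _
  have hp2 : p ≠ 2 := by rintro rfl; exact hodd hpd
  have hpf : Fact p.Prime := ⟨hp⟩
  obtain ⟨P⟩ := (inferInstance : Nonempty (Sylow p A))
  obtain ⟨P', hP'⟩ : ∃ P', P' = (P : Subgroup A).map A.subtype := ⟨_, rfl⟩
  have hP'A : P' ≤ A := hP' ▸ Subgroup.map_subtype_le _
  have hP'p : IsPGroup p P' := hP' ▸ P.isPGroup'.map _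
  have hP'c : IsCyclic P' := (h.mono hP'A).pgroup_cyclic (hP'A.trans hAV) hV hp hp2 hP'p
  have hPc : IsCyclic P := by
    have e := (P : Subgroup A).equivMapOfInjective A.subtype A.subtype_injective
    rw [← hP'] at e
    exact (MulEquiv.isCyclic e).mpr hP'c
  have hNPC := IsCyclic.isComplement' hpdef.symm hPc
  obtain ⟨M, hM⟩ : ∃ M, M = (MonoidHom.transferSylow P (IsCyclic.normalizer_le_centralizer hpdef.symm hPc)).ker :=
    ⟨_, rfl⟩
  rw [← hM] at hNPC
  have hMn : M.Normal := by rw [hM]; infer_instance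
  have hMpc : IsNPC p M := IsNPC.of_isComplement' P hMn hNPC
  -- element of order p in P
  have hPd : p ∣ Nat.card (P : Subgroup A) := P.dvd_card_of_dvd_card hpd
  obtain ⟨t, hto⟩ := exists_prime_orderOf_dvd_card' p hPd
  have hto' : orderOf ((t : A) : G) = p := by rw [Subgroup.orderOf_coe, Subgroup.orderOf_coe, hto]
  obtain ⟨M', hM'⟩ : ∃ M', M' = M.map A.subtype := ⟨_, rfl⟩
  have hM'A : M' ≤ A := hM' ▸ Subgroup.map_subtype_le _
  have hM'c : Nat.card M' = Nat.card M := by rw [hM', Subgroup.card_map_of_injective A.subtype_injective]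
  have hAM' : A ≤ Subgroup.normalizer (M' : Set G) := by
    rw [← Subgroup.normal_subgroupOf_iff_le_normalizer hM'A, hM', Subgroup.subgroupOf,
      Subgroup.comap_map_eq_self_of_injective A.subtype_injective]
    exact hMn
  obtain ⟨T, hT⟩ : ∃ T, T = Subgroup.zpowers ((t : A) : G) := ⟨_, rfl⟩
  have hTA : T ≤ A := hT ▸ Subgroup.zpowers_le.mpr (t : A).2
  have hTc : Nat.card T = p := by rw [hT, Nat.card_zpowers, hto']
  have hTs : Group.IsSolvable T := by
    have : IsCyclic T := isCyclic_of_prime_card hTc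
    let _ : CommGroup T := IsCyclic.commGroup
    infer_instance
  have hMt : M' ≤ Subgroup.centralizer (T : Set G) := by
    apply le_of_forall_sylow
    intro r hr
    have hrf : Fact r.Prime := ⟨hr⟩
    obtain ⟨R, hR, hTR⟩ := exists_invariant_sylow T M' (hTA.trans hAM') (by
      rw [hTc, hM'c]
      exact (Nat.Prime.coprime_iff_not_dvd hp).mpr hMpc.2.1) (Or.inl hTs) r
    refine ⟨R, hR, ?_⟩
    by_cases hR1 : R = ⊥
    · rw [hR1]; exact bot_le
    have hRA : R ≤ A := hR.le.trans hM'A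
    have hrd : r ∣ Nat.card M' := by
      obtain ⟨k, hk⟩ := IsPGroup.iff_card.mp hR.isPGroup
      have hk0 : k ≠ 0 := by
        rintro rfl
        rw [pow_zero] at hk
        exact hR1 (Subgroup.card_eq_one.mp hk)
      exact (dvd_pow_self r hk0).trans (hk ▸ Subgroup.card_dvd_of_le hR.le)
    have hr2 : r ≠ 2 := by
      rintro rfl
      exact hodd (hrd.trans (Subgroup.card_dvd_of_le hM'A))
    have hpr : p ≠ r := by
      rintro rfl
      rw [hM'c] at hrd
      exact hMpc.2.1 hrd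
    have hRc : IsCyclic R := (h.mono hRA).pgroup_cyclic (hRA.trans hAV) hV hr hr2 hR.isPGroup
    have hc := h.commute_of_normalizes hAV hV hp hr hpr (t : A).2 hto' hRA hR.isPGroup hRc
      (hTR (by rw [hT]; exact Subgroup.mem_zpowers _))
    intro x hx
    rw [hT, Subgroup.mem_centralizer_iff]
    rintro _ ⟨k, rfl⟩
    have h1 : Commute x ((t : A) : G) := hc x hx
    exact ((h1.zpow_right k).eq).symm
  refine ⟨((t : A) : G), (t : A).2, ?_, ?_⟩
  · intro h1
    rw [h1, orderOf_one] at hto'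
    exact hp.one_lt.ne hto'
  · intro y hy
    have h1 : (⟨y, hy⟩ : A) ∈ M ⊔ (P : Subgroup A) := by rw [hNPC.sup_eq_top]; trivial
    rw [Subgroup.mem_sup_of_normal_left] at h1
    obtain ⟨m, hm, q, hq, hmq⟩ := h1
    have h2 : (m : G) * ((t : A) : G) = ((t : A) : G) * m := by
      have h3 := hMt (by rw [hM']; exact ⟨m, hm, rfl⟩ : (m : G) ∈ M')
      exact (Subgroup.mem_centralizer_iff.mp h3 _ (by rw [hT]; exact Subgroup.mem_zpowers _)).symm
    have h3 : (q : G) * ((t : A) : G) = ((t : A) : G) * q := by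
      have h4 := (IsCyclic.commGroup (α := P)).mul_comm ⟨q, hq⟩ t
      exact congrArg (fun x : P => ((x : A) : G)) h4
    have h4 : y = (m : G) * q := (congrArg Subtype.val hmq).symm
    rw [h4, mul_assoc, h3, ← mul_assoc, h2, mul_assoc]

/-- even order complements -/
theorem FPF.even [Finite G] {A V : Subgroup G} (h : FPF A V)
    (hAV : A ≤ Subgroup.normalizer (V : Set G)) (hV : V ≠ ⊥) (heven : 2 ∣ Nat.card A) :
    (∃ s ∈ A, orderOf s = 2 ∧ (∀ t ∈ A, orderOf t = 2 → t = s) ∧ ∀ k ∈ V, s * k * s⁻¹ = k⁻¹) ∧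
      IsMulCommutative V := by
  have key : ∀ s ∈ A, orderOf s = 2 → ∀ k ∈ V, s * k * s⁻¹ = k⁻¹ := by
    intro s hs hso k hk
    have hs1 : s ≠ 1 := by rintro rfl; rw [orderOf_one] at hso; omega
    have hs2 : s * s = 1 := by rw [← pow_two, ← hso, pow_orderOf_eq_one]
    let φ : V →* V := (V.normalizerMonoidHom ⟨s, hAV hs⟩ : MulAut V).toMonoidHom
    have hφ : ∀ x : V, ((φ x : V) : G) = s * x * s⁻¹ := fun _ => rfl
    have hfp : MonoidHom.FixedPointFree φ := by
      intro x hx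
      have h1 : s * (x : G) * s⁻¹ = x := by rw [← hφ, hx]
      have h2 : (x : G) ∈ V ⊓ Subgroup.centralizer {s} := Subgroup.mem_inf.mpr ⟨x.2, by
        rw [Subgroup.mem_centralizer_singleton_iff]
        exact (mul_inv_eq_iff_eq_mul.mp h1).symm⟩
      rw [h s hs hs1, Subgroup.mem_bot] at h2
      exact Subtype.ext h2
    have hinv : Function.Involutive φ := by
      intro x
      apply Subtype.ext
      rw [hφ, hφ]
      have hs3 : s⁻¹ = s := inv_eq_of_mul_eq_one_left hs2
      rw [hs3]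
      calc s * (s * (x : G) * s) * s = (s * s) * x * (s * s) := by group
        _ = x := by rw [hs2]; group
    have h1 := hfp.coe_eq_inv_of_involutive hinv
    have h2 := congrFun h1 ⟨k, hk⟩
    have h3 := congrArg Subtype.val h2
    exact h3
  obtain ⟨s, hso⟩ := exists_prime_orderOf_dvd_card' 2 heven
  have hso' : orderOf (s : G) = 2 := by rw [Subgroup.orderOf_coe, hso]
  have hs := key s s.2 hso'
  refine ⟨⟨s, s.2, hso', ?_, hs⟩, ?_⟩
  · intro t ht hto
    by_contra hne
    have h1 := key t ht hto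
    have h2 : t⁻¹ * s ≠ 1 := fun h => hne (inv_mul_eq_one.mp h)
    have h3 := h (t⁻¹ * s) (mul_mem (inv_mem ht) s.2) h2
    apply hV
    rw [eq_bot_iff, ← h3]
    intro v hv
    refine Subgroup.mem_inf.mpr ⟨hv, ?_⟩
    rw [Subgroup.mem_centralizer_singleton_iff]
    have h4 : s * v * (s : G)⁻¹ = t * v * t⁻¹ := by rw [hs v hv, h1 v hv]
    calc v * (t⁻¹ * s) = t⁻¹ * (t * v * t⁻¹) * s := by group
      _ = t⁻¹ * (s * v * (s : G)⁻¹) * s := by rw [h4]
      _ = t⁻¹ * s * v := by group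
  · refine ⟨⟨fun a b => ?_⟩⟩
    apply Subtype.ext
    have h1 := hs (a * b) (mul_mem a.2 b.2)
    have h2 : (s : G) * (a * b) * (s : G)⁻¹ = (s * a * (s : G)⁻¹) * (s * b * (s : G)⁻¹) := by group
    rw [h2, hs a a.2, hs b b.2] at h1
    have h3 := congrArg (·⁻¹) h1
    simp only [mul_inv_rev, inv_inv] at h3
    exact h3.symm

end CfsgLib.FPF1
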