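import Cfsg.Agent.EqBase
import Cfsg.Agent.LibZas2
import Cfsg.Agent.LibFPF2
/-!
# Zassenhaus groups III: the two-point stabilizer of odd order (helper16)
-/
set_option autoImplicit false
set_option linter.all false
open Cfsg MulAction
open scoped Pointwise
namespace CfsgLib.Zas

universe u v

/-- an involutory power map on a cyclic group of odd prime power order is trivial or the inversion -/
theorem pow_sq {q m : ℕ} (hq : q.Prime) (hq2 : q ≠ 2) {k : ℤ} (h : ((q ^ m : ℕ) : ℤ) ∣ k * k - 1) :
    ((q ^ m : ℕ) : ℤ) ∣ k - 1 ∨ ((q ^ m : ℕ) : ℤ) ∣ k + 1 := by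
  have h1 : k * k - 1 = (k - 1) * (k + 1) := by ring
  rw [h1] at h
  have hqp : Prime (q : ℤ) := Nat.prime_iff_prime_int.mp hq
  by_cases h2 : (q : ℤ) ∣ k + 1
  · right
    have h3 : ¬ (q : ℤ) ∣ k - 1 := by
      intro h3
      have h4 : (q : ℤ) ∣ 2 := by
        have := dvd_sub h2 h3
        have h5 : k + 1 - (k - 1) = 2 := by ring
        rwa [h5] at this
      have h5 : q ∣ 2 := by exact_mod_cast h4
      exact hq2 ((Nat.prime_dvd_prime_iff_eq hq Nat.prime_two).mp h5)
    have h4 : IsCoprime ((q ^ m : ℕ) : ℤ) (k - 1) := by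
      rw [Nat.cast_pow]
      exact IsCoprime.pow_left ((Prime.coprime_iff_not_dvd hqp).mpr h3)
    exact h4.dvd_of_dvd_mul_left h
  · left
    have h4 : IsCoprime ((q ^ m : ℕ) : ℤ) (k + 1) := by
      rw [Nat.cast_pow]
      exact IsCoprime.pow_left ((Prime.coprime_iff_not_dvd hqp).mpr h2)
    exact h4.dvd_of_dvd_mul_right h

/-- an element acting on a cyclic `q`-subgroup, whose square centralizes it, centralizes or inverts it -/
theorem cent_or_inv {G : Type*} [Group G] [Finite G] {q : ℕ} (hq : q.Prime) (hq2 : q ≠ 2) {Q : Subgroup G} (hQ : IsPGroup q Q) (hc : IsCyclic Q)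
    {y : G} (hy : ∀ z ∈ Q, y * z * y⁻¹ ∈ Q) (hyy : ∀ z ∈ Q, (y * y) * z = z * (y * y)) :
    (∀ z ∈ Q, y * z * y⁻¹ = z) ∨ (∀ z ∈ Q, y * z * y⁻¹ = z⁻¹) := by
  haveI := Fact.mk hq
  obtain ⟨w, hw⟩ := hc.exists_generator
  obtain ⟨k, hk⟩ := Subgroup.mem_zpowers_iff.mp (hw ⟨y * w * y⁻¹, hy w w.2⟩)
  have hk' : (w : G) ^ k = y * w * y⁻¹ := by
    have := congrArg (Subtype.val : Q → G) hk
    simpa using this
  have hpow : ∀ i : ℤ, y * ((w : G) ^ i) * y⁻¹ = (y * w * y⁻¹) ^ i := fun i => (conj_zpow).symm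
  have h1 : (w : G) ^ (k * k) = w := by
    have h2 : y * (y * w * y⁻¹) * y⁻¹ = w := by
      have h3 : y * (y * w * y⁻¹) * y⁻¹ = (y * y) * w * (y * y)⁻¹ := by group
      rw [h3, hyy w w.2]; group
    rw [← hk', hpow, ← hk', ← zpow_mul] at h2
    exact h2
  obtain ⟨m, hm⟩ := (IsPGroup.iff_orderOf.mp hQ) w
  have hm' : orderOf (w : G) = q ^ m := by rw [Subgroup.orderOf_coe]; exact hm
  have h2 : ((q ^ m : ℕ) : ℤ) ∣ k * k - 1 := by
    rw [← hm', orderOf_dvd_iff_zpow_eq_one, zpow_sub, h1, zpow_one, mul_inv_cancel]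
  rcases pow_sq hq hq2 h2 with h3 | h3
  · left
    intro z hz
    obtain ⟨i, hi⟩ := Subgroup.mem_zpowers_iff.mp (hw ⟨z, hz⟩)
    have hi' : (w : G) ^ i = z := by
      have := congrArg (Subtype.val : Q → G) hi
      simpa using this
    rw [← hm', orderOf_dvd_iff_zpow_eq_one, zpow_sub, zpow_one, mul_inv_eq_one] at h3
    rw [← hi', hpow, ← hk', h3]
  · right
    intro z hz
    obtain ⟨i, hi⟩ := Subgroup.mem_zpowers_iff.mp (hw ⟨z, hz⟩)
    have hi' : (w : G) ^ i = z := by
      have := congrArg (Subtype.val : Q → G) hi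
      simpa using this
    rw [← hm', orderOf_dvd_iff_zpow_eq_one, zpow_add, zpow_one, mul_eq_one_iff_eq_inv] at h3
    rw [← hi', hpow, ← hk', h3, inv_zpow]

/-- odd order: square roots commute -/
theorem commute_of_sq {G : Type*} [Group G] [Finite G] {x w : G} (hx : Odd (orderOf x)) (h : (x * x) * w = w * (x * x)) : x * w = w * x := by
  obtain ⟨k, hk⟩ := hx
  have h1 : x = (x * x) ^ (k + 1) := by
    have h2 : (x * x) ^ (k + 1) = x ^ (2 * k + 1) * x := by
      rw [← pow_two, ← pow_mul, ← pow_succ]; congr 1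
    rw [h2, ← hk, pow_orderOf_eq_one, one_mul]
  have h2 : Commute (x * x) w := h
  have h3 : Commute ((x * x) ^ (k + 1)) w := h2.pow_left _
  rw [← h1] at h3
  exact h3

namespace Dat
variable {G : Type u} {Ω : Type v} [Group G] [MulAction G Ω]
variable [Finite G] [Fintype Ω] {a b : Ω} {H : Subgroup G} (D : Dat G Ω a b H)
include D

theorem EE_fpf : CfsgLib.FPF1.FPF (EE G a b) H := by
  intro x hx hx1
  rw [eq_bot_iff]
  rintro u ⟨hu, hu'⟩
  rw [Subgroup.mem_bot]
  exact D.fpf hx.1 (D.not_mem_H hx hx1) hu (Subgroup.mem_centralizer_singleton_iff.mp hu').symm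

theorem EE_norm : EE G a b ≤ Subgroup.normalizer (H : Set G) := by
  rw [(H_ti D.hZ D.hHa D.hcard D.hfix).2]
  exact inf_le_left

theorem H_ne_bot : H ≠ ⊥ := by
  intro h
  have := D.two_le_H
  rw [h, Subgroup.card_bot] at this
  omega

theorem zgroup (hodd : Odd (Nat.card (EE G a b))) : IsZGroup (EE G a b) := by
  constructor
  intro q hq P
  by_cases hq2 : q = 2
  · have : Subsingleton P := by
      haveI := Fact.mk hq
      have h1 : ¬ q ∣ Nat.card P := by
        intro h
        have h2 := h.trans (Subgroup.card_subgroup_dvd_card (P : Subgroup (EE G a b)))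
        rw [hq2] at h2
        exact (Nat.not_even_iff_odd.mpr hodd) (even_iff_two_dvd.mpr h2)
      obtain ⟨n, hn⟩ := (IsPGroup.iff_card (p := q) (G := P)).mp P.isPGroup'
      rcases Nat.eq_zero_or_pos n with h | h
      · rw [h, pow_zero] at hn
        exact (Nat.card_eq_one_iff_unique.mp hn).1
      · exact absurd (by rw [hn]; exact dvd_pow_self q h.ne') h1
    exact isCyclic_of_subsingleton
  · obtain ⟨P', hP'⟩ : ∃ P', P' = (P : Subgroup (EE G a b)).map (EE G a b).subtype := ⟨_, rfl⟩
    have hP'E : P' ≤ EE G a b := hP' ▸ Subgroup.map_subtype_le _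
    have hP'p : IsPGroup q P' := hP' ▸ P.isPGroup'.map _
    have e : (P : Subgroup (EE G a b)) ≃* P' := by
      rw [hP']
      exact (P : Subgroup (EE G a b)).equivMapOfInjective (EE G a b).subtype (EE G a b).subtype_injective
    exact (MulEquiv.isCyclic e).mpr ((D.EE_fpf.mono hP'E).pgroup_cyclic (hP'E.trans D.EE_norm) D.H_ne_bot hq hq2 hP'p)

/-- an element outside `E` normalizing a non-trivial subgroup of `E` swaps `a` and `b` -/
theorem swap_of_conj {g x : G} (hx : x ∈ EE G a b) (hx1 : x ≠ 1) (hg : g * x * g⁻¹ ∈ EE G a b) (hgE : g ∉ EE G a b) : g • a = b ∧ g • b = a :=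
  (perm_ab D.hZ D.hab hx hg hx1).resolve_left hgE

omit [Finite G] D in
theorem conj_EE {s x : G} (hs : s • a = b ∧ s • b = a) (hx : x ∈ EE G a b) : s * x * s⁻¹ ∈ EE G a b :=
  (Subgroup.mem_normalizer_iff.mp (perm_norm (Or.inr hs)) x).mp hx

omit [Finite G] D in
theorem swap_mul {s t : G} (hs : s • a = b ∧ s • b = a) (ht : t • a = b ∧ t • b = a) : s * t ∈ EE G a b := by
  constructor
  · show (s * t) • a = a
    rw [mul_smul, ht.1, hs.2]
  · show (s * t) • b = b
    rw [mul_smul, ht.2, hs.1]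

omit [Finite G] D in
theorem swap_inv {s : G} (hs : s • a = b ∧ s • b = a) : s⁻¹ • a = b ∧ s⁻¹ • b = a :=
  ⟨inv_smul_eq_iff.mpr hs.2.symm, inv_smul_eq_iff.mpr hs.1.symm⟩

/-- for a prime dividing `|E : E'|` some swapping element inverts a Sylow subgroup of `E` -/
theorem exists_inv (hodd : Odd (Nat.card (EE G a b)))
    (hnil : ∀ q : ℕ, q.Prime → q ∣ Nat.card (EE G a b) → ¬ ∃ N : Subgroup G, N.Normal ∧ N.index = q ^ (Nat.card G).factorization q)
    {q : ℕ} [hq : Fact q.Prime] (hqi : q ∣ (commutator (EE G a b)).index) (P : Sylow q (EE G a b)) :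
    ∃ y : G, (y • a = b ∧ y • b = a) ∧ ∀ z ∈ P, y * (z : G) * y⁻¹ = (z : G)⁻¹ := by
  classical
  haveI := D.zgroup hodd
  have hqE : q ∣ Nat.card (EE G a b) := hqi.trans (Subgroup.index_dvd_card _)
  have hq2 : q ≠ 2 := by
    rintro rfl
    exact (Nat.not_even_iff_odd.mpr hodd) (even_iff_two_dvd.mpr hqE)
  have hqH := D.not_dvd_H hq.out hqE
  have hqn := D.not_dvd_card hq.out hq2 hqE
  obtain ⟨Q, hQ⟩ : ∃ Q, Q = (P : Subgroup (EE G a b)).map (EE G a b).subtype := ⟨_, rfl⟩
  have hQE : Q ≤ EE G a b := hQ ▸ Subgroup.map_subtype_le _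
  have hQp : IsPGroup q Q := hQ ▸ P.isPGroup'.map _
  have e : (P : Subgroup (EE G a b)) ≃* Q := by
    rw [hQ]
    exact (P : Subgroup (EE G a b)).equivMapOfInjective (EE G a b).subtype (EE G a b).subtype_injective
  have hQc : IsCyclic Q := (MulEquiv.isCyclic e).mp inferInstance
  have hQmem : ∀ z : G, z ∈ Q ↔ ∃ h : z ∈ EE G a b, (⟨z, h⟩ : EE G a b) ∈ P := by
    intro z
    rw [hQ]
    constructor
    · rintro ⟨w, hw, rfl⟩
      exact ⟨w.2, hw⟩
    · rintro ⟨h, hz⟩
      exact ⟨⟨z, h⟩, hz, rfl⟩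
  have hQcard : Nat.card Q = Nat.card P := (Nat.card_congr e.toEquiv).symm
  -- `Q` is a Sylow subgroup of `G`
  have hQi : ¬ q ∣ Q.index := by
    have h1 : Nat.card G = Fintype.card Ω * Nat.card H * Nat.card (EE G a b) := by rw [D.card_G]; ring
    have h2 := Q.card_mul_index
    have h3 := P.card_mul_index
    rw [hQcard, h1, ← h3] at h2
    have h4 : Q.index = Fintype.card Ω * Nat.card H * (P : Subgroup (EE G a b)).index := by
      have h5 : 0 < Nat.card P := Nat.card_pos
      apply Nat.eq_of_mul_eq_mul_left h5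
      rw [h2]; ring
    rw [h4]
    intro h
    rcases (Nat.Prime.dvd_mul hq.out).mp h with h | h
    · rcases (Nat.Prime.dvd_mul hq.out).mp h with h | h
      · exact hqn h
      · exact hqH h
    · exact P.not_dvd_index h
  let S : Sylow q G := hQp.toSylow hQi
  have hS : (S : Subgroup G) = Q := rfl
  have hNC : ¬ Subgroup.normalizer ((S : Subgroup G) : Set G) ≤ Subgroup.centralizer ((S : Subgroup G) : Set G) := by
    intro hle
    apply hnil q hq.out hqE
    refine ⟨(MonoidHom.transferSylow S hle).ker, inferInstance, ?_⟩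
    have h1 := (MonoidHom.ker_transferSylow_isComplement' S hle).symm.index_eq_card
    have h1' := (MonoidHom.ker_transferSylow_isComplement' S hle).index_eq_card
    rw [← S.card_eq_multiplicity]
    first
      | exact h1
      | exact h1'
  rw [hS] at hNC
  obtain ⟨y, hyN, hyC⟩ := SetLike.not_le_iff_exists.mp hNC
  rw [Subgroup.mem_centralizer_iff] at hyC
  push Not at hyC
  obtain ⟨z, hz, hyz⟩ := hyC
  have hz' : z ∈ Q := hz
  have hyconj : ∀ z ∈ Q, y * z * y⁻¹ ∈ Q := fun z hz => (Subgroup.mem_normalizer_iff.mp hyN z).mp hz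
  -- normalizing elements in `E` centralize `Q`
  have hcentE : ∀ x ∈ EE G a b, (∀ z ∈ Q, x * z * x⁻¹ ∈ Q) → ∀ z ∈ Q, x * z = z * x := by
    intro x hx hxQ w hw
    obtain ⟨hwE, hwP⟩ := (hQmem w).mp hw
    obtain ⟨hxwE, hxwP⟩ := (hQmem _).mp (hxQ w hw)
    have h1 : (⟨x, hx⟩ : EE G a b) * ⟨w, hwE⟩ * ⟨x, hx⟩⁻¹ * ⟨w, hwE⟩⁻¹ ∈ commutator (EE G a b) := by
      rw [commutator_def]
      exact Subgroup.commutator_mem_commutator (Subgroup.mem_top _) (Subgroup.mem_top _)
    have h2 : (⟨x, hx⟩ : EE G a b) * ⟨w, hwE⟩ * ⟨x, hx⟩⁻¹ * ⟨w, hwE⟩⁻¹ ∈ (P : Subgroup (EE G a b)) :=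
      mul_mem hxwP (inv_mem hwP)
    have h3 : Disjoint (P : Subgroup (EE G a b)) (commutator (EE G a b)) := by
      rw [disjoint_iff]
      apply Subgroup.inf_eq_bot_of_coprime
      obtain ⟨n, hn⟩ := (IsPGroup.iff_card (p := q) (G := P)).mp P.isPGroup'
      have h4 := IsZGroup.coprime_commutator_index (G := EE G a b)
      have h5 : Nat.Coprime q (Nat.card (commutator (EE G a b))) := Nat.Coprime.coprime_dvd_left hqi h4.symm
      have h6 : Nat.card (P : Subgroup (EE G a b)) = q ^ n := hn
      rw [h6]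
      exact h5.pow_left n
    have h4 := Subgroup.disjoint_def.mp h3 h2 h1
    have h5 := congrArg (Subtype.val : EE G a b → G) h4
    have h6 : x * w * x⁻¹ * w⁻¹ = 1 := h5
    have h7 : x * w = (x * w * x⁻¹ * w⁻¹) * (w * x) := by group
    rw [h7, h6, one_mul]
  have hyE : y ∉ EE G a b := by
    intro hyE
    exact hyz (hcentE y hyE hyconj z hz').symm
  have hz1 : z ≠ 1 := by
    rintro rfl
    apply hyz; simp
  have hys := D.swap_of_conj (hQE hz') hz1 (hQE (hyconj z hz')) hyE
  have hyy : ∀ z ∈ Q, (y * y) * z = z * (y * y) := by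
    apply hcentE _ (swap_mul hys hys)
    intro z hz
    have h1 := hyconj _ (hyconj z hz)
    have h2 : y * y * z * (y * y)⁻¹ = y * (y * z * y⁻¹) * y⁻¹ := by group
    rw [h2]; exact h1
  refine ⟨y, hys, ?_⟩
  rcases cent_or_inv hq.out hq2 hQp hQc hyconj hyy with h | h
  · exfalso
    apply hyz
    have := h z hz'
    exact (mul_inv_eq_iff_eq_mul.mp this).symm
  · intro w hw
    exact h w ((hQmem w).mpr ⟨w.2, hw⟩)

/-- `E` is cyclic and inverted by every swapping element -/
theorem EE_cyclic (hodd : Odd (Nat.card (EE G a b)))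
    (hnil : ∀ q : ℕ, q.Prime → q ∣ Nat.card (EE G a b) → ¬ ∃ N : Subgroup G, N.Normal ∧ N.index = q ^ (Nat.card G).factorization q) :
    IsCyclic (EE G a b) ∧ ∀ s : G, (s • a = b ∧ s • b = a) → ∀ x ∈ EE G a b, s * x * s⁻¹ = x⁻¹ := by
  classical
  haveI hZG := D.zgroup hodd
  set E := EE G a b with hE
  have hconj : ∀ s : G, (s • a = b ∧ s • b = a) → ∀ x ∈ E, s * x * s⁻¹ ∈ E := fun s hs x hx => conj_EE hs hx
  have hodd' : ∀ x : G, x ∈ E → Odd (orderOf x) := by
    intro x hx
    have h1 : orderOf x ∣ Nat.card E := by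
      have := orderOf_dvd_natCard (⟨x, hx⟩ : E)
      rwa [Subgroup.orderOf_mk] at this
    exact Odd.of_dvd_nat hodd h1
  -- the action on the abelianization
  let φ : E →* Abelianization E := Abelianization.of
  have hφ : ∀ x y : E, φ (x * y * x⁻¹) = φ y := by
    intro x y
    rw [map_mul, map_mul, map_inv, mul_comm (φ x) (φ y), mul_assoc, mul_inv_cancel, mul_one]
  let c : (s : G) → (s • a = b ∧ s • b = a) → (E →* E) := fun s hs =>
    { toFun := fun x => ⟨s * x * s⁻¹, hconj s hs x x.2⟩
      map_one' := by apply Subtype.ext; show s * (1 : G) * s⁻¹ = 1; group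
      map_mul' := fun x y => by apply Subtype.ext; show s * ((x : G) * y) * s⁻¹ = s * x * s⁻¹ * (s * y * s⁻¹); group }
  have hc : ∀ s (hs : s • a = b ∧ s • b = a) (x : E), ((c s hs x : E) : G) = s * x * s⁻¹ := fun s hs x => rfl
  have hsame : ∀ s (hs : s • a = b ∧ s • b = a) t (ht : t • a = b ∧ t • b = a) (x : E), φ (c s hs x) = φ (c t ht x) := by
    intro s hs t ht x
    have h1 : c s hs x = (⟨s * t⁻¹, swap_mul hs (swap_inv ht)⟩ : E) * c t ht x * (⟨s * t⁻¹, swap_mul hs (swap_inv ht)⟩ : E)⁻¹ := by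
      apply Subtype.ext
      show s * (x : G) * s⁻¹ = (s * t⁻¹) * (t * x * t⁻¹) * (s * t⁻¹)⁻¹
      group
    rw [h1, hφ]
  have hker : ∀ s (hs : s • a = b ∧ s • b = a) (x : E), φ (c s hs x) * φ x = 1 := by
    intro s hs
    let ψ : E →* Abelianization E := (φ.comp (c s hs)) * φ
    have hψ : ∀ x, ψ x = φ (c s hs x) * φ x := fun x => rfl
    have hi : ψ.ker.index = 1 := by
      rw [Nat.eq_one_iff_not_exists_prime_dvd]
      intro q hq hqd
      haveI := Fact.mk hq
      obtain ⟨P⟩ : Nonempty (Sylow q E) := inferInstance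
      have hP : (P : Subgroup E) ≤ ψ.ker := by
        by_cases hqi : q ∣ (commutator E).index
        · obtain ⟨y, hy, hyP⟩ := D.exists_inv hodd hnil hqi P
          intro z hz
          rw [MonoidHom.mem_ker, hψ, hsame s hs y hy]
          have h1 : c y hy z = z⁻¹ := Subtype.ext (hyP z hz)
          rw [h1, map_inv, inv_mul_cancel]
        · -- `P ≤ E'`
          have h1 : (P : Subgroup E) ≤ commutator E := by
            have h2 : ∀ z : E, z ∈ P → z ∈ commutator E := by
              intro z hz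
              obtain ⟨n, hn⟩ := (IsPGroup.iff_orderOf.mp P.isPGroup') ⟨z, hz⟩
              have hn' : orderOf z = q ^ n := by rwa [Subgroup.orderOf_mk] at hn
              have h3 : orderOf (QuotientGroup.mk' (commutator E) z) ∣ q ^ n := by
                rw [← hn']; exact orderOf_map_dvd _ _
              have h4 : orderOf (QuotientGroup.mk' (commutator E) z) ∣ (commutator E).index := by
                rw [Subgroup.index_eq_card]; exact orderOf_dvd_natCard _
              have h5 : Nat.Coprime (q ^ n) (commutator E).index := Nat.Coprime.pow_left n ((Nat.Prime.coprime_iff_not_dvd hq).mpr hqi)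
              have h6 := Nat.eq_one_of_dvd_coprimes h5 h3 h4
              rw [orderOf_eq_one_iff] at h6
              exact (QuotientGroup.eq_one_iff z).mp h6
            exact h2
          have hkφ : ∀ z ∈ commutator E, φ z = 1 := by
            intro z hz
            have : z ∈ φ.ker := by rw [show φ.ker = commutator E from Abelianization.ker_of E]; exact hz
            exact this
          have hcc : ∀ z ∈ commutator E, c s hs z ∈ commutator E := by
            intro z hz
            have h2 : (commutator E).map (c s hs) ≤ commutator E := by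
              rw [commutator_def, Subgroup.map_commutator]
              exact Subgroup.commutator_mono le_top le_top
            exact h2 ⟨z, hz, rfl⟩
          intro z hz
          rw [MonoidHom.mem_ker, hψ, hkφ _ (hcc z (h1 hz)), hkφ z (h1 hz), one_mul]
      exact P.not_dvd_index (hqd.trans (Subgroup.index_dvd_of_le hP))
    intro x
    have h1 : ψ.ker = ⊤ := Subgroup.index_eq_one.mp hi
    have h2 : x ∈ ψ.ker := by rw [h1]; trivial
    exact h2
  -- `E'` is central
  obtain ⟨s, hs⟩ := two_trans D.hZ D.hab D.hab.symm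
  have hcent : commutator E ≤ Subgroup.center E := by
    haveI hcyc : IsCyclic (commutator E) := IsZGroup.isCyclic_commutator (G := E)
    obtain ⟨w, hw⟩ := hcyc.exists_generator
    have hw' : ∀ z ∈ commutator E, ∃ i : ℤ, (w : E) ^ i = z := by
      intro z hz
      obtain ⟨i, hi⟩ := Subgroup.mem_zpowers_iff.mp (hw ⟨z, hz⟩)
      refine ⟨i, ?_⟩
      have := congrArg (Subtype.val : commutator E → E) hi
      simpa using this
    have hcomm' : ∀ z ∈ commutator E, z * w = w * z := by
      intro z hz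
      obtain ⟨i, rfl⟩ := hw' z hz
      exact ((Commute.refl (w : E)).zpow_left i).eq
    have hN : (commutator E).Normal := inferInstance
    have hccm : ∀ (s : G) (hs : s • a = b ∧ s • b = a), ∀ z ∈ commutator E, c s hs z ∈ commutator E := by
      intro s hs z hz
      have h2 : (commutator E).map (c s hs) ≤ commutator E := by
        rw [commutator_def, Subgroup.map_commutator]
        exact Subgroup.commutator_mono le_top le_top
      exact h2 ⟨z, hz, rfl⟩
    have key : ∀ x : E, x * (w : E) = w * x := by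
      intro x
      obtain ⟨i, hi⟩ := hw' _ (hN.conj_mem w w.2 x)
      obtain ⟨j, hj⟩ := hw' _ (hccm s⁻¹ (swap_inv hs) w w.2)
      -- in `G`
      have hi' : (((w : E) : G)) ^ i = (x : G) * ((w : E) : G) * (x : G)⁻¹ := by
        have := congrArg (Subtype.val : E → G) hi
        simpa using this
      have hj' : (((w : E) : G)) ^ j = s⁻¹ * ((w : E) : G) * s := by
        have := congrArg (Subtype.val : E → G) hj
        simpa [hc] using this
      have h1 : (s * x * s⁻¹) * ((w : E) : G) * (s * x * s⁻¹)⁻¹ = (x : G) * ((w : E) : G) * (x : G)⁻¹ := by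
        have h2 : (s * x * s⁻¹) * ((w : E) : G) * (s * x * s⁻¹)⁻¹ = s * (x * (s⁻¹ * ((w : E) : G) * s) * (x : G)⁻¹) * s⁻¹ := by group
        have h3 : (x : G) * (s⁻¹ * ((w : E) : G) * s) * (x : G)⁻¹ = (s⁻¹ * ((w : E) : G) * s) ^ i := by
          rw [← hj', ← conj_zpow, ← hi', ← zpow_mul, ← zpow_mul, mul_comm]
        have h4 : s * ((s⁻¹ * ((w : E) : G) * s) ^ i) * s⁻¹ = ((w : E) : G) ^ i := by
          rw [← conj_zpow]; congr 1; group
        rw [h2, h3, h4, hi']
      -- `s x s⁻¹ = x⁻¹ z`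
      have h2 := hker s hs x
      have h3 : x * c s hs x ∈ commutator E := by
        have h4 : x * c s hs x ∈ φ.ker := by
          rw [MonoidHom.mem_ker, map_mul, mul_comm]; exact h2
        rwa [show φ.ker = commutator E from Abelianization.ker_of E] at h4
      have h4 := hcomm' _ h3
      have h5 : ((x : G) * (s * x * s⁻¹)) * ((w : E) : G) = ((w : E) : G) * ((x : G) * (s * x * s⁻¹)) :=
        congrArg (Subtype.val : E → G) h4
      have h6 : ((x : G) * x) * ((w : E) : G) = ((w : E) : G) * ((x : G) * x) := by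
        have h7 : (s * x * s⁻¹) * ((w : E) : G) = ((x : G) * ((w : E) : G) * (x : G)⁻¹) * (s * x * s⁻¹) := by
          rw [← h1]; group
        have h8 : ((x : G) * (s * x * s⁻¹)) * ((w : E) : G) = (x : G) * ((x : G) * ((w : E) : G) * (x : G)⁻¹) * (s * x * s⁻¹) := by
          rw [mul_assoc, h7]; group
        rw [h8] at h5
        have h9 : (x : G) * ((x : G) * ((w : E) : G) * (x : G)⁻¹) = ((w : E) : G) * (x : G) := by
          apply mul_right_cancel (b := s * (x : G) * s⁻¹)
          rw [h5]; group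
        have h10 : ((x : G) * x) * ((w : E) : G) = (x : G) * ((x : G) * ((w : E) : G) * (x : G)⁻¹) * x := by group
        rw [h10, h9]; group
      apply Subtype.ext
      exact commute_of_sq (hodd' x x.2) h6
    intro z hz
    rw [Subgroup.mem_center_iff]
    intro x
    obtain ⟨i, rfl⟩ := hw' z hz
    exact ((show Commute x (w : E) from key x).zpow_right i).eq
  have hcommE : ∀ x y : E, x * y = y * x := by
    haveI : IsCyclic (Abelianization E) := IsZGroup.isCyclic_abelianization (G := E)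
    intro x y
    exact commutative_of_cyclic_center_quotient φ (by rw [show φ.ker = commutator E from Abelianization.ker_of E]; exact hcent) x y
  have hcyc : IsCyclic E := by
    haveI : Group.IsNilpotent E := by
      letI : CommGroup E := { (inferInstance : Group E) with mul_comm := hcommE }
      infer_instance
    infer_instance
  refine ⟨hcyc, fun s hs x hx => ?_⟩
  have h1 := hker s hs ⟨x, hx⟩
  have h2 : c s hs ⟨x, hx⟩ * ⟨x, hx⟩ ∈ commutator E := by
    have h4 : c s hs ⟨x, hx⟩ * ⟨x, hx⟩ ∈ φ.ker := by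
      rw [MonoidHom.mem_ker, map_mul]; exact h1
    rwa [show φ.ker = commutator E from Abelianization.ker_of E] at h4
  have h3 : commutator E = ⊥ := by
    rw [commutator_def, Subgroup.commutator_eq_bot_iff_le_centralizer]
    intro x _
    rw [Subgroup.mem_centralizer_iff]
    intro y _
    exact hcommE y x
  rw [h3, Subgroup.mem_bot] at h2
  have h4 : (s * x * s⁻¹) * x = 1 := congrArg (Subtype.val : E → G) h2
  exact eq_inv_of_mul_eq_one_left h4

theorem cent_EE (hodd : Odd (Nat.card (EE G a b))) (hc : IsCyclic (EE G a b))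
    (hinv : ∀ s : G, (s • a = b ∧ s • b = a) → ∀ x ∈ EE G a b, s * x * s⁻¹ = x⁻¹) {x : G} (hx : x ∈ EE G a b) (hx1 : x ≠ 1) :
    Subgroup.centralizer ({x} : Set G) = EE G a b := by
  letI := hc.commGroup
  apply le_antisymm
  · intro g hg
    have h1 : g * x = x * g := Subgroup.mem_centralizer_singleton_iff.mp hg
    have h2 : g * x * g⁻¹ = x := by rw [h1]; group
    by_contra hgE
    have h3 := D.swap_of_conj hx hx1 (by rw [h2]; exact hx) hgE
    have h4 := hinv g h3 x hx
    rw [h2] at h4
    apply hx1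
    have h5 : x * x = 1 := by
      nth_rewrite 1 [h4]; exact inv_mul_cancel x
    have h6 : orderOf x ∣ 2 := orderOf_dvd_of_pow_eq_one (by rw [pow_two]; exact h5)
    have h7 : orderOf x ∣ Nat.card (EE G a b) := by
      have := orderOf_dvd_natCard (⟨x, hx⟩ : EE G a b)
      rwa [Subgroup.orderOf_mk] at this
    have h8 : Odd (orderOf x) := Odd.of_dvd_nat hodd h7
    rcases (Nat.dvd_prime Nat.prime_two).mp h6 with h | h
    · exact orderOf_eq_one_iff.mp h
    · rw [h] at h8; exact absurd h8 (by decide)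
  · intro g hg
    rw [Subgroup.mem_centralizer_singleton_iff]
    have h1 : (⟨g, hg⟩ : EE G a b) * ⟨x, hx⟩ = ⟨x, hx⟩ * ⟨g, hg⟩ := IsCyclic.commGroup.mul_comm _ _
    exact congrArg Subtype.val h1

/-- in a simple Zassenhaus group there are no normal `q`-complements, `q` dividing `|E|` -/
theorem no_compl (hs : IsSimpleGroup G) {q : ℕ} (hq : q.Prime) (hqE : q ∣ Nat.card (EE G a b)) (hodd : Odd (Nat.card (EE G a b))) :
    ¬ ∃ N : Subgroup G, N.Normal ∧ N.index = q ^ (Nat.card G).factorization q := by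
  rintro ⟨N, hN, hi⟩
  have hq2 : q ≠ 2 := by
    rintro rfl
    exact (Nat.not_even_iff_odd.mpr hodd) (even_iff_two_dvd.mpr hqE)
  have hqG : q ∣ Nat.card G := hqE.trans (Subgroup.card_subgroup_dvd_card _)
  have hne : Nat.card G ≠ 0 := Nat.card_pos.ne'
  rcases hN.eq_bot_or_eq_top with h | h
  · rw [h, Subgroup.index_bot] at hi
    have h1 : Fintype.card Ω ∣ q ^ (Nat.card G).factorization q := by rw [← hi, D.card_G]; exact Dvd.intro _ rfl
    have h2 : Nat.Coprime (Fintype.card Ω) (q ^ (Nat.card G).factorization q) :=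
      Nat.Coprime.pow_right _ ((Nat.Prime.coprime_iff_not_dvd hq).mpr (D.not_dvd_card hq hq2 hqE)).symm
    have h3 := Nat.Coprime.eq_one_of_dvd h2 h1
    have := three_le D.hZ
    omega
  · rw [h, Subgroup.index_top] at hi
    have h1 : q ∣ 1 := by
      rw [hi]
      exact dvd_pow_self q ((Nat.Prime.factorization_pos_of_dvd hq hne hqG).ne')
    exact hq.one_lt.ne' (Nat.dvd_one.mp h1)

end Dat
end CfsgLib.Zas
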