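import Cfsg.Agent.EqBase
import Cfsg.Agent.LibZas3
import Cfsg.Agent.LibCharMore
/-!
# Zassenhaus groups IV: counting (helper16)
-/
set_option autoImplicit false
set_option linter.all false
open Cfsg MulAction
open scoped Pointwise
namespace CfsgLib.Zas

universe u v

namespace Dat
variable {G : Type u} {Ω : Type v} [Group G] [MulAction G Ω]
variable [Finite G] [Fintype Ω] {a b : Ω} {H : Subgroup G} (D : Dat G Ω a b H)
include D

theorem sum_fix [Fintype G] : ∑ g : G, Nat.card (fixedBy Ω g) = Nat.card G := by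
  classical
  haveI := D.pretrans
  have h := MulAction.sum_card_fixedBy_eq_card_orbits_mul_card_group G Ω
  haveI : Subsingleton (orbitRel.Quotient G Ω) := (MulAction.pretransitive_iff_subsingleton_quotient G Ω).mp inferInstance
  have h1 : Fintype.card (orbitRel.Quotient G Ω) = 1 := by
    rw [Fintype.card_eq_one_iff]
    exact ⟨Quotient.mk _ a, fun y => Subsingleton.elim _ _⟩
  rw [h1, one_mul, ← Nat.card_eq_fintype_card] at h
  rw [← h]
  exact Finset.sum_congr rfl fun g _ => Nat.card_eq_fintype_card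

theorem sum_fix_pairs [Fintype G] : ∑ g : G, Nat.card (fixedBy Ω g) * (Nat.card (fixedBy Ω g) - 1) = Nat.card G := by
  classical
  have E : {q : G × (Ω × Ω) // q.2.1 ≠ q.2.2 ∧ (q.1 • q.2.1 = q.2.1 ∧ q.1 • q.2.2 = q.2.2)} ≃
      (Σ p : {p : Ω × Ω // p.1 ≠ p.2}, EE G p.1.1 p.1.2) :=
    { toFun := fun q => ⟨⟨q.1.2, q.2.1⟩, ⟨q.1.1, q.2.2⟩⟩
      invFun := fun s => ⟨(s.2.1, s.1.1), s.1.2, s.2.2⟩
      left_inv := fun q => rfl
      right_inv := fun s => rfl }
  have E' : {q : G × (Ω × Ω) // q.2.1 ≠ q.2.2 ∧ (q.1 • q.2.1 = q.2.1 ∧ q.1 • q.2.2 = q.2.2)} ≃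
      (Σ g : G, {p : Ω × Ω // p.1 ≠ p.2 ∧ (g • p.1 = p.1 ∧ g • p.2 = p.2)}) :=
    { toFun := fun q => ⟨q.1.1, ⟨q.1.2, q.2⟩⟩
      invFun := fun s => ⟨(s.1, s.2.1), s.2.2⟩
      left_inv := fun q => rfl
      right_inv := fun s => rfl }
  have h1 := Nat.card_congr (E'.symm.trans E)
  rw [Nat.card_sigma, Nat.card_sigma, Finset.sum_congr rfl fun g _ => Cfsg.Agent.LibZG1.card_fixed_pairs g,
    Finset.sum_congr rfl fun p _ => card_EE D.hZ (show (p : {p : Ω × Ω // p.1 ≠ p.2}).1.1 ≠ p.1.2 from p.2) D.hab] at h1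
  rw [h1, Finset.sum_const, smul_eq_mul, Finset.card_univ, D.card_G]
  have h2 : Fintype.card {p : Ω × Ω // p.1 ≠ p.2} = (Finset.univ : Finset Ω).offDiag.card := by
    rw [Fintype.card_subtype]
    congr 1
    ext p
    simp [Finset.mem_offDiag]
  rw [h2, Finset.offDiag_card, Finset.card_univ, ← Nat.mul_sub_one, ← D.hcard, Nat.add_sub_cancel, mul_assoc]

theorem fix_le_two {g : G} (hg : g ≠ 1) : Nat.card (fixedBy Ω g) ≤ 2 :=
  Cfsg.Agent.LibZG1.fixedBy_le_two D.hZ.2.2.1 g hg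

theorem fix_zero_iff {g : G} : Nat.card (fixedBy Ω g) = 0 ↔ ∀ c : Ω, g • c ≠ c := by
  rw [Nat.card_eq_zero]
  constructor
  · rintro (h | h) c hc
    · exact h.false ⟨c, hc⟩
    · exact h.false
  · intro h
    left
    exact ⟨fun x => h x x.2⟩

/-- twice the number of fixed-point-free elements -/
theorem count_fpf : 2 * (Nat.card {g : G // ∀ c : Ω, g • c ≠ c} : ℤ) + Nat.card H * (Nat.card H - 1) = Nat.card G := by
  classical
  haveI := Fintype.ofFinite G
  have h1 := D.sum_fix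
  have h2 := D.sum_fix_pairs
  have h1' : ∑ g : G, (Nat.card (fixedBy Ω g) : ℤ) = Nat.card G := by exact_mod_cast h1
  have h2' : ∑ g : G, (Nat.card (fixedBy Ω g) : ℤ) * (Nat.card (fixedBy Ω g) - 1) = Nat.card G := by
    have : ((∑ g : G, Nat.card (fixedBy Ω g) * (Nat.card (fixedBy Ω g) - 1) : ℕ) : ℤ) = Nat.card G := by exact_mod_cast h2
    rw [← this, Nat.cast_sum]
    refine Finset.sum_congr rfl fun g _ => ?_
    rcases Nat.eq_zero_or_pos (Nat.card (fixedBy Ω g)) with h | h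
    · rw [h]; simp
    · rw [Nat.cast_mul, Nat.cast_sub h, Nat.cast_one]
  have h3 : ∑ g : G, ((Nat.card (fixedBy Ω g) : ℤ) - 1) * (Nat.card (fixedBy Ω g) - 2) = Nat.card G := by
    have h4 : ∑ g : G, ((Nat.card (fixedBy Ω g) : ℤ) - 1) * (Nat.card (fixedBy Ω g) - 2) =
        ∑ g : G, (Nat.card (fixedBy Ω g) : ℤ) * (Nat.card (fixedBy Ω g) - 1) - 2 * ∑ g : G, (Nat.card (fixedBy Ω g) : ℤ) + ∑ g : G, (2 : ℤ) := by
      rw [Finset.mul_sum, ← Finset.sum_sub_distrib, ← Finset.sum_add_distrib]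
      refine Finset.sum_congr rfl fun g _ => ?_
      ring
    rw [h4, h1', h2', Finset.sum_const, Finset.card_univ, ← Nat.card_eq_fintype_card]
    ring
  have h5 : ∀ g : G, ((Nat.card (fixedBy Ω g) : ℤ) - 1) * (Nat.card (fixedBy Ω g) - 2) =
      (if g = 1 then (Nat.card H : ℤ) * (Nat.card H - 1) else 0) + (if ∀ c : Ω, g • c ≠ c then 2 else 0) := by
    intro g
    by_cases hg : g = 1
    · have h6 : Nat.card (fixedBy Ω g) = Nat.card H + 1 := by
        rw [D.hcard, ← Nat.card_eq_fintype_card]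
        apply Nat.card_congr
        refine Equiv.subtypeUnivEquiv fun x => ?_
        rw [hg]; exact one_smul G x
      have h7 : ¬ ∀ c : Ω, g • c ≠ c := fun h => h a (by rw [hg, one_smul])
      rw [if_pos hg, if_neg h7, h6]
      push_cast
      ring
    · rw [if_neg hg]
      have h6 := D.fix_le_two hg
      by_cases h7 : ∀ c : Ω, g • c ≠ c
      · rw [if_pos h7, D.fix_zero_iff.mpr h7]; norm_num
      · rw [if_neg h7]
        have h8 : Nat.card (fixedBy Ω g) ≠ 0 := fun h => h7 (D.fix_zero_iff.mp h)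
        have h9 : Nat.card (fixedBy Ω g) = 1 ∨ Nat.card (fixedBy Ω g) = 2 := by omega
        rcases h9 with h | h <;> rw [h] <;> norm_num
  rw [Finset.sum_congr rfl fun g _ => h5 g, Finset.sum_add_distrib, Finset.sum_ite_eq' Finset.univ (1:G), if_pos (Finset.mem_univ _),
    ← Finset.sum_filter, Finset.sum_const] at h3
  have h6 : (Finset.univ.filter fun g : G => ∀ c : Ω, g • c ≠ c).card = Nat.card {g : G // ∀ c : Ω, g • c ≠ c} := by
    rw [Nat.card_eq_fintype_card, Fintype.card_subtype]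
  rw [h6] at h3
  rw [← h3]
  simp only [nsmul_eq_mul]
  ring

/-- S0880 -/
theorem two_fpf_classes (hodd : Odd (Nat.card (EE G a b))) : ∃ x y : G, (∀ c : Ω, x • c ≠ c) ∧ (∀ c : Ω, y • c ≠ c) ∧ ¬ IsConj x y := by
  classical
  by_contra hcon
  push Not at hcon
  have h1 := D.count_fpf
  have h2 := D.card_G
  have h3 := D.two_le_EE
  have h4 := D.EE_lt
  have h5 := D.two_le_H
  have he3 : 3 ≤ Nat.card (EE G a b) := by
    rcases hodd with ⟨k, hk⟩
    omega
  rw [← D.hcard] at h2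
  set e := Nat.card (EE G a b) with he
  set h := Nat.card H with hh
  set f := Nat.card {g : G // ∀ c : Ω, g • c ≠ c} with hf
  have h2' : (Nat.card G : ℤ) = (h + 1) * (h * e) := by rw [h2]; push_cast; ring
  rw [h2'] at h1
  have h5' : (2 : ℤ) ≤ h := by exact_mod_cast h5
  have he3' : (3 : ℤ) ≤ e := by exact_mod_cast he3
  have hfpos : 0 < f := by
    have : 0 < (f : ℤ) := by nlinarith
    exact_mod_cast this
  obtain ⟨⟨x, hx⟩⟩ : Nonempty {g : G // ∀ c : Ω, g • c ≠ c} := (Nat.card_pos_iff.mp hfpos).1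
  have h6 : Nat.card {y : G // IsConj x y} = f := by
    apply Nat.card_congr
    refine Equiv.subtypeEquivRight fun y => ⟨fun hxy => ?_, fun hy => hcon x y hx hy⟩
    obtain ⟨k, hk⟩ := isConj_iff.mp hxy
    intro c hc
    rw [← hk, smul_fix] at hc
    exact hx _ hc
  have h7 := CfsgLib.CharBasic.card_class_mul_card_centralizer x
  rw [h6] at h7
  set c := Nat.card (Subgroup.centralizer ({x} : Set G)) with hc
  have h7' : (f : ℤ) * c = (h + 1) * (h * e) := by rw [← h2', ← h7]; push_cast; ring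
  have hf' : (0:ℤ) < f := by exact_mod_cast hfpos
  -- 2f = h ((h+1) e - (h-1)); f c = (h+1) h e
  have h8 : 2 * (f : ℤ) < f * c := by nlinarith
  have h9 : (f : ℤ) * c < f * 3 := by nlinarith
  have h10 : (2 : ℤ) < c := by nlinarith
  have h11 : (c : ℤ) < 3 := lt_of_mul_lt_mul_left h9 hf'.le
  omega

/-- fixed points of a non-identity element of a conjugate of `H`: an element with one fixed point is conjugate into `H` -/
theorem mem_of_fix {g : G} {c : Ω} (hc : g • c = c) (hu : ∀ d : Ω, g • d = d → d = c) : ∃ k : G, k • c = a ∧ k * g * k⁻¹ ∈ H := by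
  haveI := D.pretrans
  obtain ⟨k, hk⟩ := MulAction.exists_smul_eq G c a
  refine ⟨k, hk, ?_⟩
  rw [D.mem_H]
  refine ⟨by rw [← hk, smul_fix']; exact hc, Or.inr fun d hd => ?_⟩
  rw [smul_fix] at hd
  rw [← hk, ← hu _ hd, smul_inv_smul]

end Dat

/-- data with `E` odd, cyclic and inverted by the swapping elements -/
structure DatO (G : Type u) (Ω : Type v) [Group G] [MulAction G Ω] [Fintype Ω] (a b : Ω) (H : Subgroup G) : Prop extends Dat G Ω a b H where
  hodd : Odd (Nat.card (EE G a b))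
  hcyc : IsCyclic (EE G a b)
  hinv : ∀ s : G, (s • a = b ∧ s • b = a) → ∀ x ∈ EE G a b, s * x * s⁻¹ = x⁻¹

theorem Dat.toO {G : Type u} {Ω : Type v} [Group G] [MulAction G Ω]
    [Finite G] [Fintype Ω] {a b : Ω} {H : Subgroup G} (D : Dat G Ω a b H) (hs : IsSimpleGroup G) (hodd : Odd (Nat.card (EE G a b))) : DatO G Ω a b H :=
  { D with
    hodd := hodd
    hcyc := (D.EE_cyclic hodd fun q hq hqE => D.no_compl hs hq hqE hodd).1
    hinv := (D.EE_cyclic hodd fun q hq hqE => D.no_compl hs hq hqE hodd).2 }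

namespace DatO
variable {G : Type u} {Ω : Type v} [Group G] [MulAction G Ω]
variable [Finite G] [Fintype Ω] {a b : Ω} {H : Subgroup G} (D : DatO G Ω a b H)
include D

theorem odd_order {x : G} (hx : x ∈ EE G a b) : Odd (orderOf x) := by
  have h1 : orderOf x ∣ Nat.card (EE G a b) := by
    have := orderOf_dvd_natCard (⟨x, hx⟩ : EE G a b)
    rwa [Subgroup.orderOf_mk] at this
  exact Odd.of_dvd_nat D.hodd h1

omit [Finite G] [Fintype Ω] D in
theorem eq_one_of_sq {x : G} (hx : Odd (orderOf x)) (h : x * x = 1) : x = 1 := by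
  have h6 : orderOf x ∣ 2 := orderOf_dvd_of_pow_eq_one (by rw [pow_two]; exact h)
  rcases (Nat.dvd_prime Nat.prime_two).mp h6 with h | h
  · exact orderOf_eq_one_iff.mp h
  · rw [h] at hx; exact absurd hx (by decide)

/-- swapping elements are involutions -/
theorem swap_sq {s : G} (hs : s • a = b ∧ s • b = a) : s * s = 1 := by
  have h1 := Dat.swap_mul hs hs
  have h2 := D.hinv s hs _ h1
  have h3 : s * (s * s) * s⁻¹ = s * s := by group
  rw [h3] at h2
  apply eq_one_of_sq (D.odd_order h1)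
  nth_rewrite 1 [h2]
  exact inv_mul_cancel _

theorem swap_order {s : G} (hs : s • a = b ∧ s • b = a) : orderOf s = 2 := by
  apply orderOf_eq_prime
  · rw [pow_two]; exact D.swap_sq hs
  · rintro rfl
    exact D.hab ((one_smul G a).symm.trans hs.1)

/-- an involution does not fix two points -/
theorem inv_fix {s : G} (hs : orderOf s = 2) {c d : Ω} (hcd : c ≠ d) (hc : s • c = c) : s • d ≠ d := by
  intro hd
  obtain ⟨k, hk1, hk2⟩ := two_trans D.hZ hcd D.hab
  have h1 : k * s * k⁻¹ ∈ EE G a b := by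
    constructor
    · show (k * s * k⁻¹) • a = a
      rw [← hk1, smul_fix']; exact hc
    · show (k * s * k⁻¹) • b = b
      rw [← hk2, smul_fix']; exact hd
  have h2 := D.odd_order h1
  rw [Cfsg.Agent.LibZG1.orderOf_conj, hs] at h2
  exact absurd h2 (by decide)

theorem inv_moves {s : G} (hs : orderOf s = 2) : ∃ c : Ω, s • c ≠ c := by
  by_contra hcon
  push Not at hcon
  exact D.inv_fix hs D.hab (hcon a) (hcon b)

/-- any two involutions are conjugate -/
theorem inv_conj {x y : G} (hx : orderOf x = 2) (hy : orderOf y = 2) : IsConj x y := by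
  have key : ∀ x : G, orderOf x = 2 → ∃ g : G, (g * x * g⁻¹) • a = b ∧ (g * x * g⁻¹) • b = a := by
    intro x hx
    obtain ⟨c, hc⟩ := D.inv_moves hx
    obtain ⟨g, -, h1, h2⟩ := Cfsg.Agent.LibZG1.swap_of_ne D.hZ.2.1 D.hab x hx hc
    exact ⟨g, h1, h2⟩
  obtain ⟨g, hg1, hg2⟩ := key x hx
  obtain ⟨k, hk1, hk2⟩ := key y hy
  have h1 : IsConj x (g * x * g⁻¹) := isConj_iff.mpr ⟨g, rfl⟩
  have h2 : IsConj (k * y * k⁻¹) y := (isConj_iff.mpr ⟨k, rfl⟩ : IsConj y (k * y * k⁻¹)).symm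
  refine h1.trans (IsConj.trans ?_ h2)
  generalize g * x * g⁻¹ = s at *
  generalize k * y * k⁻¹ = t at *
  -- `s = t w` with `w ∈ E`
  have hs := D.swap_sq ⟨hg1, hg2⟩
  have ht := D.swap_sq ⟨hk1, hk2⟩
  have hw : s * t ∈ EE G a b := Dat.swap_mul ⟨hg1, hg2⟩ ⟨hk1, hk2⟩
  obtain ⟨m, hm⟩ := D.odd_order hw
  obtain ⟨v, hv⟩ : ∃ v, v = (s * t) ^ (m + 1) := ⟨_, rfl⟩
  have hvE : v ∈ EE G a b := hv ▸ pow_mem hw _
  have hvv : v * v = s * t := by
    rw [hv, ← pow_add]
    have : m + 1 + (m + 1) = (2 * m + 1) + 1 := by ring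
    rw [this, pow_succ, ← hm, pow_orderOf_eq_one, one_mul]
  have hvinv := D.hinv s ⟨hg1, hg2⟩ v hvE
  -- v⁻¹ s v = s v v = t
  rw [isConj_iff]
  refine ⟨v⁻¹, ?_⟩
  have h3 : s * v = v⁻¹ * s := by rw [← hvinv]; group
  have h4 : v⁻¹ * s * v⁻¹⁻¹ = s * (v * v) := by rw [inv_inv, ← h3, mul_assoc]
  rw [h4, hvv, ← mul_assoc, hs, one_mul]

/-- number of elements swapping `a` and `b` -/
theorem card_swap : Nat.card {t : G // t ∈ {x : G | orderOf x = 2} ∧ (t • a = b ∧ t • b = a)} = Nat.card (EE G a b) := by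
  obtain ⟨s, hs⟩ := two_trans D.hZ D.hab D.hab.symm
  apply Nat.card_congr
  refine ⟨fun t => ⟨s * t, Dat.swap_mul hs t.2.2⟩, fun x => ⟨s⁻¹ * x, ?_⟩, fun t => ?_, fun x => ?_⟩
  · have h1 : (s⁻¹ * (x : G)) • a = b ∧ (s⁻¹ * (x : G)) • b = a := by
      have hxa : (x : G) • a = a := x.2.1
      have hxb : (x : G) • b = b := x.2.2
      rw [mul_smul, mul_smul, hxa, hxb]
      exact Dat.swap_inv hs
    exact ⟨D.swap_order h1, h1⟩
  · apply Subtype.ext; show s⁻¹ * (s * (t : G)) = t; group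
  · apply Subtype.ext; show s * (s⁻¹ * (x : G)) = x; group

theorem inv_fix_le {s : G} (hs : orderOf s = 2) : Nat.card (fixedBy Ω s) ≤ 1 := by
  classical
  rw [Nat.card_eq_fintype_card, Fintype.card_le_one_iff]
  intro c d
  by_contra hcd
  exact D.inv_fix hs (fun h => hcd (Subtype.ext h)) c.2 d.2

theorem inv_fix_card {s : G} (hs : orderOf s = 2) : Nat.card (fixedBy Ω s) = if Even (Nat.card H) then 1 else 0 := by
  haveI : Fact (Nat.Prime 2) := ⟨Nat.prime_two⟩
  have h1 := Cfsg.Agent.LibZG1.fixedBy_mod (Ω := Ω) (p := 2) s (by rw [← hs, pow_orderOf_eq_one])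
  have h2 := D.inv_fix_le hs
  rw [← D.hcard] at h1
  unfold Nat.ModEq at h1
  split_ifs with h
  · obtain ⟨k, hk⟩ := h
    omega
  · rw [Nat.not_even_iff_odd] at h
    obtain ⟨k, hk⟩ := h
    omega

/-- the number of involutions -/
theorem card_inv : Nat.card {x : G // orderOf x = 2} = if Even (Nat.card H) then Nat.card (EE G a b) * (Nat.card H + 1) else Nat.card (EE G a b) * Nat.card H := by
  classical
  have hm : ∀ t ∈ {x : G | orderOf x = 2}, Nat.card {p : Ω × Ω // p.1 ≠ p.2 ∧ (t • p.1 = p.2 ∧ t • p.2 = p.1)} =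
      Fintype.card Ω - (if Even (Nat.card H) then 1 else 0) := by
    intro t ht
    rw [← D.inv_fix_card ht, ← Cfsg.Agent.LibZG1.card_moved]
    have htt : t * t = 1 := by rw [← pow_two, ← (show orderOf t = 2 from ht), pow_orderOf_eq_one]
    apply Nat.card_congr
    refine ⟨fun p => ⟨p.1.1, fun h => p.2.1 (h.symm.trans p.2.2.1)⟩, fun x => ⟨((x : Ω), t • (x : Ω)), fun h => x.2 h.symm, rfl, by
      show t • t • (x : Ω) = x
      rw [← mul_smul, htt, one_smul]⟩, fun p => ?_, fun x => ?_⟩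
    · apply Subtype.ext
      exact Prod.ext rfl p.2.2.1
    · rfl
  have h1 := Cfsg.Agent.LibZG1.count_pairs D.hZ.2.1 (fun t x y => t • x = y ∧ t • y = x)
    (fun g t x y h => by
      constructor
      · rw [mul_smul, mul_smul, inv_smul_smul, h.1]
      · rw [mul_smul, mul_smul, inv_smul_smul, h.2])
    {x : G | orderOf x = 2} (fun g t ht => (Cfsg.Agent.LibZG1.orderOf_conj g t).trans ht) _ hm D.hab
  rw [D.card_swap] at h1
  have h2 : Nat.card ({x : G | orderOf x = 2} : Set G) = Nat.card {x : G // orderOf x = 2} := rfl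
  rw [h2, ← D.hcard] at h1
  have h3 := D.two_le_H
  split_ifs at h1 ⊢ with h
  · have h4 : 0 < Nat.card H := by omega
    apply Nat.eq_of_mul_eq_mul_right h4
    have h5 : Nat.card H + 1 - 1 = Nat.card H := by omega
    rw [h5] at h1
    rw [h1]; ring
  · have h4 : 0 < Nat.card H + 1 := by omega
    apply Nat.eq_of_mul_eq_mul_right h4
    have h5 : Nat.card H + 1 - 1 = Nat.card H := by omega
    rw [h5, Nat.sub_zero] at h1
    rw [h1]; ring

end DatO
end CfsgLib.Zas
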