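import Cfsg.Agent.EqBase
import Cfsg.Agent.LibZas4
/-!
# Zassenhaus groups V: products of two involutions (helper16)
-/
set_option autoImplicit false
set_option linter.all false
open Cfsg MulAction
open scoped Pointwise
namespace CfsgLib.Zas

universe u v

theorem inv_mul_self_of_order_two {G : Type*} [Group G] {x : G} (hx : orderOf x = 2) : x * x = 1 := by
  rw [← pow_two, ← hx, pow_orderOf_eq_one]

theorem inv_eq_of_order_two {G : Type*} [Group G] {x : G} (hx : orderOf x = 2) : x⁻¹ = x :=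
  inv_eq_of_mul_eq_one_left (inv_mul_self_of_order_two hx)

theorem conj_fix {G Ω : Type*} [Group G] [MulAction G Ω] {g x : G} {a : Ω} (hg : g • a = a) (hx : x • a = a) : (g * x * g⁻¹) • a = a := by
  rw [smul_fix, inv_smul_eq_iff.mpr hg.symm]; exact hx

namespace DatO
variable {G : Type u} {Ω : Type v} [Group G] [MulAction G Ω]
variable [Finite G] [Fintype Ω] {a b : Ω} {H : Subgroup G} (D : DatO G Ω a b H)
include D

/-- an involution fixing `a` lies in `H` -/
theorem inv_mem_H {x : G} (hx : orderOf x = 2) (hxa : x • a = a) : x ∈ H := by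
  by_contra h
  obtain ⟨c, hca, hc⟩ := D.exists_fix hxa h
  exact D.inv_fix hx (Ne.symm hca) hxa hc

/-- the number of involutions of `H` (for `|H|` even) -/
theorem card_inv_H (hev : Even (Nat.card H)) : Nat.card {x : G // orderOf x = 2 ∧ x • a = a} = Nat.card (EE G a b) := by
  classical
  haveI := D.pretrans
  have h1 := D.card_inv
  rw [if_pos hev] at h1
  -- pairs `(x, c)` with `x` an involution fixing `c`
  have E1 : (Σ c : Ω, {x : G // orderOf x = 2 ∧ x • c = c}) ≃ {x : G // orderOf x = 2} :=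
    { toFun := fun p => ⟨p.2.1, p.2.2.1⟩
      invFun := fun x =>
        have hex : ∃ c : Ω, (x : G) • c = c := by
          have h2 := D.inv_fix_card x.2
          rw [if_pos hev] at h2
          have h3 : 0 < Nat.card (fixedBy Ω (x : G)) := by omega
          obtain ⟨⟨c, hc⟩⟩ := (Nat.card_pos_iff.mp h3).1
          exact ⟨c, hc⟩
        ⟨Classical.choose hex, ⟨(x : G), x.2, Classical.choose_spec hex⟩⟩
      left_inv := fun p => by
        obtain ⟨c, x, hx, hxc⟩ := p
        have hex : ∃ c : Ω, x • c = c := ⟨c, hxc⟩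
        have hc : Classical.choose hex = c := by
          by_contra hne
          exact D.inv_fix hx (Ne.symm hne) hxc (Classical.choose_spec hex)
        refine Sigma.ext hc ?_
        refine (Subtype.heq_iff_coe_eq ?_).mpr rfl
        intro y
        show orderOf y = 2 ∧ y • (Classical.choose hex) = Classical.choose hex ↔ orderOf y = 2 ∧ y • c = c
        rw [hc]
      right_inv := fun x => rfl }
  have h2 := Nat.card_congr E1
  rw [Nat.card_sigma] at h2
  have h3 : ∀ c : Ω, Nat.card {x : G // orderOf x = 2 ∧ x • c = c} = Nat.card {x : G // orderOf x = 2 ∧ x • a = a} := by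
    intro c
    obtain ⟨k, hk⟩ := MulAction.exists_smul_eq G c a
    apply Nat.card_congr
    refine ⟨fun x => ⟨k * x * k⁻¹, (Cfsg.Agent.LibZG1.orderOf_conj k x).trans x.2.1, by rw [← hk, smul_fix']; exact x.2.2⟩,
      fun x => ⟨k⁻¹ * x * k⁻¹⁻¹, (Cfsg.Agent.LibZG1.orderOf_conj k⁻¹ x).trans x.2.1, by
        have hk' : k⁻¹ • a = c := by rw [← hk, inv_smul_smul]
        rw [← hk', smul_fix']; exact x.2.2⟩, fun x => ?_, fun x => ?_⟩
    · apply Subtype.ext; show k⁻¹ * (k * (x : G) * k⁻¹) * k⁻¹⁻¹ = x; group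
    · apply Subtype.ext; show k * (k⁻¹ * (x : G) * k⁻¹⁻¹) * k⁻¹ = x; group
  rw [Finset.sum_congr rfl fun c _ => h3 c, Finset.sum_const, smul_eq_mul, Finset.card_univ, h1, ← D.hcard] at h2
  have h4 : 0 < Nat.card H + 1 := by omega
  apply Nat.eq_of_mul_eq_mul_left h4
  rw [h2]; ring

/-- involutions of `H` are central in `H` -/
theorem inv_central {z : G} (hz : orderOf z = 2) (hza : z • a = a) {u : G} (hu : u ∈ H) : z * u = u * z := by
  classical
  have hzH := D.inv_mem_H hz hza
  have hz1 : z ≠ 1 := by rintro rfl; rw [orderOf_one] at hz; omega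
  have hev : Even (Nat.card H) := by
    have h1 : orderOf z ∣ Nat.card H := by
      have := orderOf_dvd_natCard (⟨z, hzH⟩ : H)
      rwa [Subgroup.orderOf_mk] at this
    rw [hz] at h1
    exact even_iff_two_dvd.mpr h1
  -- `E` is transitive on the involutions of `H`
  let f : EE G a b → {x : G // orderOf x = 2 ∧ x • a = a} := fun x =>
    ⟨x * z * (x : G)⁻¹, (Cfsg.Agent.LibZG1.orderOf_conj _ _).trans hz, conj_fix x.2.1 hza⟩
  have hf : Function.Injective f := by
    intro x y hxy
    have h1 : (x : G) * z * (x : G)⁻¹ = y * z * (y : G)⁻¹ := congrArg Subtype.val hxy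
    have h2 : ((y : G)⁻¹ * x) * z = z * ((y : G)⁻¹ * x) := by
      have h3 : ((y : G)⁻¹ * x) * z = (y : G)⁻¹ * ((x : G) * z * (x : G)⁻¹) * x := by group
      rw [h3, h1]; group
    by_contra hne
    have h3 : ((y : G)⁻¹ * x) ∈ EE G a b := mul_mem (inv_mem y.2) x.2
    have h4 : ((y : G)⁻¹ * x) ≠ 1 := by
      intro h
      apply hne
      exact Subtype.ext (inv_mul_eq_one.mp h).symm
    exact hz1 (D.fpf h3.1 (D.not_mem_H h3 h4) hzH h2)
  have hsurj : Function.Surjective f := ((Nat.bijective_iff_injective_and_card f).mpr ⟨hf, (D.card_inv_H hev).symm⟩).2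
  have hua : u • a = a := D.hHa hu
  obtain ⟨x, hx⟩ := hsurj ⟨u * z * u⁻¹, (Cfsg.Agent.LibZG1.orderOf_conj _ _).trans hz, conj_fix hua hza⟩
  have h1 : (x : G) * z * (x : G)⁻¹ = u * z * u⁻¹ := congrArg Subtype.val hx
  have h2 : (u⁻¹ * x) * z = z * (u⁻¹ * x) := by
    have h3 : (u⁻¹ * x) * z = u⁻¹ * ((x : G) * z * (x : G)⁻¹) * x := by group
    rw [h3, h1]; group
  have hxa : (x : G) • a = a := x.2.1
  have h3 : (u⁻¹ * x) • a = a := by rw [mul_smul, hxa, inv_smul_eq_iff, hua]
  by_cases h4 : u⁻¹ * (x : G) ∈ H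
  · have h5 : (x : G) ∈ H := by
      have := H.mul_mem hu h4
      rwa [mul_inv_cancel_left] at this
    have h6 : (x : G) = 1 := by
      by_contra hx1
      exact D.not_mem_H x.2 hx1 h5
    rw [h6] at h1
    have h7 : z = u * z * u⁻¹ := by rw [← h1]; group
    nth_rewrite 1 [h7]
    group
  · exact absurd (D.fpf h3 h4 hzH h2) hz1

/-- if `x u x⁻¹ = u⁻¹` for `u ∈ H` non-trivial, then `x` fixes `a` -/
theorem fix_of_inv {x u : G} (hu : u ∈ H) (hu1 : u ≠ 1) (h : x * u * x⁻¹ = u⁻¹) : x • a = a :=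
  D.eq_a hu hu1 (by rw [h]; exact H.inv_mem hu)

omit [Finite G] [Fintype Ω] D in
theorem inverts_left {x y : G} (hx : orderOf x = 2) (hy : orderOf y = 2) : x * (x * y) * x⁻¹ = (x * y)⁻¹ := by
  rw [mul_inv_rev, inv_eq_of_order_two hx, inv_eq_of_order_two hy, ← mul_assoc, inv_mul_self_of_order_two hx, one_mul]

/-- S0883 -/
theorem strongly_real {u x y : G} (hu : u ∈ H) (hu1 : u ≠ 1) (hx : orderOf x = 2) (hy : orderOf y = 2) (hxy : x * y = u) :
    orderOf u = 2 ∧ x • a = a ∧ y • a = a := by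
  have hxa : x • a = a := by
    apply D.fix_of_inv hu hu1
    rw [← hxy]; exact inverts_left hx hy
  have hya : y • a = a := by
    have h1 : y = x⁻¹ * u := by rw [← hxy]; group
    have hua : u • a = a := D.hHa hu
    rw [h1, mul_smul, hua, inv_smul_eq_iff, hxa]
  refine ⟨?_, hxa, hya⟩
  have hyH := D.inv_mem_H hy hya
  have hc := D.inv_central hx hxa hyH
  apply orderOf_eq_prime _ hu1
  rw [← hxy, pow_two]
  have h1 : x * y * (x * y) = (x * x) * (y * y) := by
    rw [mul_assoc, ← mul_assoc y x y, ← hc]; group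
  rw [h1, inv_mul_self_of_order_two hx, inv_mul_self_of_order_two hy, one_mul]

end DatO
end CfsgLib.Zas
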