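import Cfsg.Agent.EqBase
import Cfsg.Agent.LibZas5
/-!
# Zassenhaus groups VI: classes avoiding the kernel (helper16)
-/
set_option autoImplicit false
set_option linter.all false
open Cfsg MulAction
open scoped Pointwise
namespace CfsgLib.Zas

universe u v

/-- the number of ways to write `g` as a product of two involutions -/
theorem prod_inv_le {G : Type*} [Group G] [Finite G] (g : G) :
    Nat.card {p : G × G // orderOf p.1 = 2 ∧ orderOf p.2 = 2 ∧ p.1 * p.2 = g} ≤ Nat.card (Subgroup.centralizer ({g} : Set G)) := by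
  classical
  by_cases h : Nonempty {p : G × G // orderOf p.1 = 2 ∧ orderOf p.2 = 2 ∧ p.1 * p.2 = g}
  · obtain ⟨⟨⟨x₀, y₀⟩, hx₀, hy₀, h₀⟩⟩ := h
    have key : ∀ x y : G, orderOf x = 2 → orderOf y = 2 → x * y = g → x * g * x⁻¹ = g⁻¹ := by
      intro x y hx hy hxy
      rw [← hxy]; exact DatO.inverts_left hx hy
    have hk0 := key x₀ y₀ hx₀ hy₀ h₀
    refine Nat.card_le_card_of_injective (fun p => (⟨x₀⁻¹ * p.1.1, ?_⟩ : Subgroup.centralizer ({g} : Set G))) ?_
    · rw [Subgroup.mem_centralizer_singleton_iff]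
      have h1 := key p.1.1 p.1.2 p.2.1 p.2.2.1 p.2.2.2
      have h2 : x₀⁻¹ * p.1.1 * g = x₀⁻¹ * (p.1.1 * g * p.1.1⁻¹) * p.1.1 := by group
      have h3 : g * (x₀⁻¹ * p.1.1) = x₀⁻¹ * (x₀ * g * x₀⁻¹) * p.1.1 := by group
      rw [h2, h3, h1, hk0]
    · rintro ⟨⟨x, y⟩, hx, hy, hxy⟩ ⟨⟨x', y'⟩, hx', hy', hxy'⟩ heq
      have h1 : x₀⁻¹ * x = x₀⁻¹ * x' := congrArg Subtype.val heq
      have h2 : x = x' := mul_left_cancel h1
      subst h2
      have h3 : y = y' := mul_left_cancel (hxy.trans hxy'.symm)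
      subst h3
      rfl
  · have : IsEmpty {p : G × G // orderOf p.1 = 2 ∧ orderOf p.2 = 2 ∧ p.1 * p.2 = g} := not_nonempty_iff.mp h
    rw [Nat.card_of_isEmpty]
    exact Nat.zero_le _

theorem prod_inv_class_le {G : Type*} [Group G] [Finite G] (C : ConjClasses G) :
    Nat.card {p : G × G // orderOf p.1 = 2 ∧ orderOf p.2 = 2 ∧ ConjClasses.mk (p.1 * p.2) = C} ≤ Nat.card G := by
  classical
  haveI := Fintype.ofFinite G
  obtain ⟨g, rfl⟩ := ConjClasses.mk_surjective C
  have E : {p : G × G // orderOf p.1 = 2 ∧ orderOf p.2 = 2 ∧ ConjClasses.mk (p.1 * p.2) = ConjClasses.mk g} ≃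
      (Σ y : {y : G // IsConj g y}, {p : G × G // orderOf p.1 = 2 ∧ orderOf p.2 = 2 ∧ p.1 * p.2 = y}) :=
    { toFun := fun p => ⟨⟨p.1.1 * p.1.2, (ConjClasses.mk_eq_mk_iff_isConj.mp p.2.2.2).symm⟩, ⟨p.1, p.2.1, p.2.2.1, rfl⟩⟩
      invFun := fun s => ⟨s.2.1, s.2.2.1, s.2.2.2.1, by
        rw [s.2.2.2.2]; exact ConjClasses.mk_eq_mk_iff_isConj.mpr s.1.2.symm⟩
      left_inv := fun p => rfl
      right_inv := fun s => by
        obtain ⟨⟨y, hy⟩, ⟨p, h1, h2, h3⟩⟩ := s
        simp only at h3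
        subst h3
        rfl }
  rw [Nat.card_congr E, Nat.card_sigma]
  have h1 : ∀ y : {y : G // IsConj g y}, Nat.card {p : G × G // orderOf p.1 = 2 ∧ orderOf p.2 = 2 ∧ p.1 * p.2 = y} ≤
      Nat.card (Subgroup.centralizer ({g} : Set G)) := by
    intro y
    refine (prod_inv_le (y : G)).trans ?_
    obtain ⟨k, hk⟩ := isConj_iff.mp y.2
    have h2 := CfsgLib.CharBasic.card_class_mul_card_centralizer g
    have h3 := CfsgLib.CharBasic.card_class_mul_card_centralizer (y : G)
    have h4 : Nat.card {x : G // IsConj g x} = Nat.card {x : G // IsConj (y : G) x} := by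
      apply Nat.card_congr
      exact Equiv.subtypeEquivRight fun x => ⟨fun h => y.2.symm.trans h, fun h => y.2.trans h⟩
    rw [← h4, ← h2] at h3
    have h5 : 0 < Nat.card {x : G // IsConj g x} := by
      haveI : Nonempty {x : G // IsConj g x} := ⟨⟨g, IsConj.refl g⟩⟩
      exact Nat.card_pos
    exact (Nat.eq_of_mul_eq_mul_left h5 h3).le
  refine (Finset.sum_le_sum fun y _ => h1 y).trans ?_
  rw [Finset.sum_const, smul_eq_mul, Finset.card_univ, ← Nat.card_eq_fintype_card, CfsgLib.CharBasic.card_class_mul_card_centralizer]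

namespace DatO
variable {G : Type u} {Ω : Type v} [Group G] [MulAction G Ω]
variable [Finite G] [Fintype Ω] {a b : Ω} {H : Subgroup G} (D : DatO G Ω a b H)
include D

/-- if the product of two involutions is conjugate into `H`, they are equal or fix a common point -/
theorem prod_conj {x y g : G} (hx : orderOf x = 2) (hy : orderOf y = 2) (hg : g * (x * y) * g⁻¹ ∈ H) :
    x = y ∨ ∃ c : Ω, x • c = c ∧ y • c = c := by
  by_cases h1 : g * (x * y) * g⁻¹ = 1
  · left
    have h2 : x * y = 1 := by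
      have : x * y = g⁻¹ * (g * (x * y) * g⁻¹) * g := by group
      rw [this, h1]; group
    rw [eq_inv_of_mul_eq_one_left h2, inv_eq_of_order_two hy]
  · right
    have h2 := D.strongly_real hg h1 ((Cfsg.Agent.LibZG1.orderOf_conj g x).trans hx) ((Cfsg.Agent.LibZG1.orderOf_conj g y).trans hy) (by group)
    refine ⟨g⁻¹ • a, ?_, ?_⟩
    · exact smul_fix.mp h2.2.1
    · exact smul_fix.mp h2.2.2

theorem card_partner {x : G} (hx : orderOf x = 2) :
    Nat.card {y : G // orderOf y = 2 ∧ (x = y ∨ ∃ c : Ω, x • c = c ∧ y • c = c)} ≤ if Even (Nat.card H) then Nat.card (EE G a b) else 1 := by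
  classical
  haveI := D.pretrans
  have hf := D.inv_fix_card hx
  split_ifs at hf ⊢ with h
  · -- `x` fixes a point
    have h3 : 0 < Nat.card (fixedBy Ω x) := by omega
    obtain ⟨⟨c, hc⟩⟩ := (Nat.card_pos_iff.mp h3).1
    have hc' : x • c = c := hc
    obtain ⟨k, hk⟩ := MulAction.exists_smul_eq G c a
    rw [← D.card_inv_H h]
    have hyc : ∀ y : {y : G // orderOf y = 2 ∧ (x = y ∨ ∃ c : Ω, x • c = c ∧ y • c = c)}, (y : G) • c = c := by
      rintro ⟨y, hy, h4 | ⟨d, hd1, hd2⟩⟩
      · show y • c = c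
        rw [← h4]; exact hc'
      · have h5 : d = c := by
          by_contra hne
          exact D.inv_fix hx hne hd1 hc'
        rw [← h5]; exact hd2
    refine Nat.card_le_card_of_injective (fun y => (⟨k * y * k⁻¹, (Cfsg.Agent.LibZG1.orderOf_conj _ _).trans y.2.1, by
      rw [← hk, smul_fix']; exact hyc y⟩ : {x : G // orderOf x = 2 ∧ x • a = a})) ?_
    intro y z hyz
    have h1 : k * (y : G) * k⁻¹ = k * z * k⁻¹ := congrArg Subtype.val hyz
    apply Subtype.ext
    exact mul_left_cancel (mul_right_cancel h1)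
  · have h3 : ∀ c : Ω, x • c ≠ c := D.fix_zero_iff.mp hf
    have hu : Nat.card Unit = 1 := Nat.card_unique
    rw [← hu]
    refine Nat.card_le_card_of_injective (fun _ => ()) ?_
    rintro ⟨y, hy, h4⟩ ⟨z, hz, h5⟩ -
    have e1 : ∀ y, (x = y ∨ ∃ c : Ω, x • c = c ∧ y • c = c) → x = y := by
      rintro y (h | ⟨c, hc, -⟩)
      · exact h
      · exact absurd hc (h3 c)
    apply Subtype.ext
    show y = z
    rw [← e1 y h4, ← e1 z h5]

/-- S0884 -/
theorem classes_avoiding : Nat.card (EE G a b) ≤ Nat.card {C : ConjClasses G // ∀ g : G, ConjClasses.mk g = C → g ∉ H} := by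
  classical
  haveI := Fintype.ofFinite G
  set N := Nat.card {x : G // orderOf x = 2} with hN
  set r := Nat.card {C : ConjClasses G // ∀ g : G, ConjClasses.mk g = C → g ∉ H} with hr
  set e := Nat.card (EE G a b) with he
  set h := Nat.card H with hh
  -- pairs of involutions
  let P := {p : G × G // orderOf p.1 = 2 ∧ orderOf p.2 = 2 ∧ ∀ g : G, ConjClasses.mk g = ConjClasses.mk (p.1 * p.2) → g ∉ H}
  let P' := {p : G × G // orderOf p.1 = 2 ∧ orderOf p.2 = 2 ∧ ¬ ∀ g : G, ConjClasses.mk g = ConjClasses.mk (p.1 * p.2) → g ∉ H}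
  have hsum : Nat.card P + Nat.card P' = N * N := by
    rw [hN, ← Nat.card_prod, ← Nat.card_sum]
    apply Nat.card_congr
    exact
      { toFun := fun s => match s with
          | Sum.inl p => (⟨p.1.1, p.2.1⟩, ⟨p.1.2, p.2.2.1⟩)
          | Sum.inr p => (⟨p.1.1, p.2.1⟩, ⟨p.1.2, p.2.2.1⟩)
        invFun := fun q => if hq : ∀ g : G, ConjClasses.mk g = ConjClasses.mk ((q.1 : G) * q.2) → g ∉ H then
            Sum.inl ⟨((q.1 : G), (q.2 : G)), q.1.2, q.2.2, hq⟩ else Sum.inr ⟨((q.1 : G), (q.2 : G)), q.1.2, q.2.2, hq⟩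
        left_inv := fun s => by
          rcases s with p | p
          · simp only; rw [dif_pos p.2.2.2]
          · simp only; rw [dif_neg p.2.2.2]
        right_inv := fun q => by
          by_cases hq : ∀ g : G, ConjClasses.mk g = ConjClasses.mk ((q.1 : G) * q.2) → g ∉ H
          · simp only [dif_pos hq]
          · simp only [dif_neg hq] }
  have hP : Nat.card P ≤ r * Nat.card G := by
    have E : P ≃ (Σ C : {C : ConjClasses G // ∀ g : G, ConjClasses.mk g = C → g ∉ H},
        {p : G × G // orderOf p.1 = 2 ∧ orderOf p.2 = 2 ∧ ConjClasses.mk (p.1 * p.2) = C}) :=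
      { toFun := fun p => ⟨⟨ConjClasses.mk (p.1.1 * p.1.2), p.2.2.2⟩, ⟨p.1, p.2.1, p.2.2.1, rfl⟩⟩
        invFun := fun s => ⟨s.2.1, s.2.2.1, s.2.2.2.1, by rw [s.2.2.2.2]; exact s.1.2⟩
        left_inv := fun p => rfl
        right_inv := fun s => by
          obtain ⟨⟨C, hC⟩, ⟨p, h1, h2, h3⟩⟩ := s
          simp only at h3
          subst h3
          rfl }
    haveI : Fintype {C : ConjClasses G // ∀ g : G, ConjClasses.mk g = C → g ∉ H} := Fintype.ofFinite _
    rw [Nat.card_congr E, Nat.card_sigma]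
    have h1 : ∀ C ∈ (Finset.univ : Finset {C : ConjClasses G // ∀ g : G, ConjClasses.mk g = C → g ∉ H}),
        Nat.card {p : G × G // orderOf p.1 = 2 ∧ orderOf p.2 = 2 ∧ ConjClasses.mk (p.1 * p.2) = C.1} ≤ Nat.card G :=
      fun C _ => prod_inv_class_le C.1
    refine (Finset.sum_le_sum h1).trans ?_
    rw [Finset.sum_const, smul_eq_mul, Finset.card_univ, ← Nat.card_eq_fintype_card]
  have hP' : Nat.card P' ≤ N * (if Even h then e else 1) := by
    have h1 : Nat.card P' ≤ Nat.card (Σ x : {x : G // orderOf x = 2}, {y : G // orderOf y = 2 ∧ ((x : G) = y ∨ ∃ c : Ω, (x : G) • c = c ∧ y • c = c)}) := by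
      refine Nat.card_le_card_of_injective (fun p => ⟨⟨p.1.1, p.2.1⟩, ⟨p.1.2, p.2.2.1, ?_⟩⟩) ?_
      · have h2 := p.2.2.2
        push Not at h2
        obtain ⟨g, hg1, hg2⟩ := h2
        obtain ⟨k, hk⟩ := isConj_iff.mp (ConjClasses.mk_eq_mk_iff_isConj.mp hg1).symm
        exact D.prod_conj p.2.1 p.2.2.1 (by rw [hk]; exact hg2)
      · intro p q hpq
        have h2 : (⟨p.1.1, p.2.1⟩ : {x : G // orderOf x = 2}) = ⟨q.1.1, q.2.1⟩ := (Sigma.mk.inj hpq).1
        have h3 : p.1.1 = q.1.1 := congrArg Subtype.val h2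
        have h4 : p.1.2 = q.1.2 := by
          have := congrArg (fun s : (Σ x : {x : G // orderOf x = 2}, {y : G // orderOf y = 2 ∧ ((x : G) = y ∨ ∃ c : Ω, (x : G) • c = c ∧ y • c = c)}) => (s.2.1 : G)) hpq
          exact this
        exact Subtype.ext (Prod.ext h3 h4)
    refine h1.trans ?_
    rw [Nat.card_sigma]
    refine (Finset.sum_le_sum fun x _ => D.card_partner x.2).trans ?_
    rw [Finset.sum_const, smul_eq_mul, Finset.card_univ, ← Nat.card_eq_fintype_card]
  have hNc := D.card_inv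
  have hG := D.card_G
  rw [← D.hcard] at hG
  have h2H := D.two_le_H
  have h2e := D.two_le_EE
  have hlt := D.EE_lt
  rw [← hN, ← he, ← hh] at hNc
  rw [← he, ← hh] at hG hlt
  rw [← hh] at h2H
  rw [← he] at h2e
  have hpos : 0 < Nat.card G := Nat.card_pos
  by_cases hev : Even h
  · rw [if_pos hev] at hNc hP'
    by_contra hcon
    push Not at hcon
    have h3 : N * N ≤ r * Nat.card G + N * e := by omega
    have h4 : N * N = e * Nat.card G + N * e := by
      rw [hG, hNc]; ring
    have h5 : e * Nat.card G ≤ r * Nat.card G := by omega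
    have h6 := Nat.le_of_mul_le_mul_right h5 hpos
    omega
  · rw [if_neg hev] at hNc hP'
    by_contra hcon
    push Not at hcon
    have h3 : N * N ≤ r * Nat.card G + N := by omega
    have h4 : r + 1 ≤ e := hcon
    have h5 : (r + 1) * Nat.card G ≤ e * Nat.card G := Nat.mul_le_mul_right _ h4
    -- N = e h; N² = e² h²; r (h+1) h e + e h ≥ e² h²
    have hNpos : 0 < e * h := by positivity
    have h6 : N * N ≤ (e * h) * (r * (h + 1) + 1) := by
      calc N * N ≤ r * Nat.card G + N := h3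
        _ = (e * h) * (r * (h + 1) + 1) := by rw [hG, hNc]; ring
    rw [hNc] at h6
    have h7 := Nat.le_of_mul_le_mul_left (show (e * h) * (e * h) ≤ (e * h) * (r * (h + 1) + 1) from h6) hNpos
    have h8 : r * (h + 1) + (h + 1) ≤ e * (h + 1) := by
      have := Nat.mul_le_mul_right (h + 1) h4
      rw [add_mul, one_mul] at this
      exact this
    have h9 : e * (h + 1) = e * h + e := by ring
    omega

end DatO
end CfsgLib.Zas
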