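import Cfsg.Agent.EqBase
import Cfsg.Agent.LibZas6
import Cfsg.Agent.LibCharIndA
import Cfsg.Agent.LibCharNorm
/-!
# Zassenhaus groups VII: characters induced from the point stabilizer (helper16)
-/
set_option autoImplicit false
set_option linter.all false
open Cfsg MulAction CfsgLib.CharBasic CfsgLib.CharIndA
open scoped Pointwise ComplexConjugate
namespace CfsgLib.Zas

universe u v

/-- induction from a point stabilizer of a transitive action, as a sum over points -/
theorem ind_stab {G : Type u} {Ω : Type v} [Group G] [Fintype G] [MulAction G Ω] [Fintype Ω] (a : Ω) {μ : stabilizer G a → ℂ}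
    (hμ : IsClassFunction (stabilizer G a) μ) (k : Ω → G) (hk : ∀ c, k c • a = c) (g : G) :
    indFun (stabilizer G a) μ g = ∑ c : Ω, extendByZero (stabilizer G a) μ ((k c)⁻¹ * g * k c) := by
  classical
  have hG : (Nat.card (stabilizer G a) : ℂ) ≠ 0 := by exact_mod_cast Nat.card_pos.ne'
  rw [ind_apply]
  have h1 : ∀ x : G, extendByZero (stabilizer G a) μ (x⁻¹ * g * x) = extendByZero (stabilizer G a) μ ((k (x • a))⁻¹ * g * k (x • a)) := by
    intro x
    have hγ : (k (x • a))⁻¹ * x ∈ stabilizer G a := by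
      show ((k (x • a))⁻¹ * x) • a = a
      rw [mul_smul, inv_smul_eq_iff, hk]
    set γ : stabilizer G a := ⟨(k (x • a))⁻¹ * x, hγ⟩ with hγd
    have h2 : x⁻¹ * g * x = (γ : G)⁻¹ * ((k (x • a))⁻¹ * g * k (x • a)) * γ := by
      show x⁻¹ * g * x = ((k (x • a))⁻¹ * x)⁻¹ * ((k (x • a))⁻¹ * g * k (x • a)) * ((k (x • a))⁻¹ * x)
      group
    rw [h2]
    generalize (k (x • a))⁻¹ * g * k (x • a) = y
    by_cases hy : y ∈ stabilizer G a
    · have h3 : (γ : G)⁻¹ * y * γ ∈ stabilizer G a := mul_mem (mul_mem (inv_mem γ.2) hy) γ.2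
      rw [ext_mem _ _ hy, ext_mem _ _ h3]
      have := hμ ⟨y, hy⟩ γ⁻¹
      rw [inv_inv] at this
      exact this
    · have h3 : (γ : G)⁻¹ * y * γ ∉ stabilizer G a := by
        intro h3
        apply hy
        have h4 := mul_mem (mul_mem γ.2 h3) (inv_mem γ.2)
        have h5 : (γ : G) * ((γ : G)⁻¹ * y * γ) * (γ : G)⁻¹ = y := by group
        rwa [h5] at h4
      rw [ext_not_mem _ _ hy, ext_not_mem _ _ h3]
  rw [Finset.sum_congr rfl fun x _ => h1 x]
  have h2 : ∀ f : Ω → ℂ, ∑ x : G, f (x • a) = ∑ c : Ω, (Nat.card (stabilizer G a) : ℂ) * f c := by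
    intro f
    rw [← Finset.sum_fiberwise Finset.univ (fun x : G => x • a)]
    refine Finset.sum_congr rfl fun c _ => ?_
    have h3 : ∑ x ∈ Finset.univ.filter (fun x : G => x • a = c), f (x • a) = ∑ x ∈ Finset.univ.filter (fun x : G => x • a = c), f c :=
      Finset.sum_congr rfl fun x hx => by rw [(Finset.mem_filter.mp hx).2]
    rw [h3, Finset.sum_const, nsmul_eq_mul]
    congr 2
    have h4 : (Finset.univ.filter (fun x : G => x • a = c)).card = Nat.card {x : G // x • a = c} := by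
      rw [Nat.card_eq_fintype_card, Fintype.card_subtype]
    rw [h4]
    apply Nat.card_congr
    refine ⟨fun x => ⟨(k c)⁻¹ * x, ?_⟩, fun x => ⟨k c * x, ?_⟩, fun x => ?_, fun x => ?_⟩
    · show ((k c)⁻¹ * (x : G)) • a = a
      rw [mul_smul, x.2, inv_smul_eq_iff, hk]
    · have hx : (x : G) • a = a := x.2
      show (k c * (x : G)) • a = c
      rw [mul_smul, hx, hk]
    · apply Subtype.ext; show k c * ((k c)⁻¹ * (x : G)) = x; group
    · apply Subtype.ext; show (k c)⁻¹ * (k c * (x : G)) = x; group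
  rw [h2 (fun c => extendByZero (stabilizer G a) μ ((k c)⁻¹ * g * k c)), ← Finset.mul_sum, ← mul_assoc, inv_mul_cancel₀ hG, one_mul]

namespace DatO
variable {G : Type u} {Ω : Type v} [Group G] [MulAction G Ω]
variable [Fintype G] [Fintype Ω] {a b : Ω} {H : Subgroup G} (D : DatO G Ω a b H)
include D

section
variable {μ : stabilizer G a → ℂ} (hμ : IsCharacter (stabilizer G a) μ) (hμ1 : μ 1 = 1)
  (hμH : ∀ u : stabilizer G a, (u : G) ∈ H → μ u = 1)
include hμ hμ1 hμH

omit D in
theorem ind_term_zero {k : G} {g : G} (h : g • (k • a) ≠ k • a) : extendByZero (stabilizer G a) μ (k⁻¹ * g * k) = 0 := by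
  apply ext_not_mem
  intro h1
  apply h
  have h2 : (k⁻¹ * g * k) • a = a := h1
  rw [mul_smul, mul_smul, inv_smul_eq_iff] at h2
  exact h2

theorem ind_on_H {g : stabilizer G a} (hg : (g : G) ∈ H) (hg1 : (g : G) ≠ 1) : indFun (stabilizer G a) μ g = 1 := by
  classical
  haveI := D.pretrans
  have hex : ∀ c : Ω, ∃ k : G, k • a = c := fun c => MulAction.exists_smul_eq G a c
  choose k hk using hex
  rw [ind_stab a (char_classFun hμ) k hk, Finset.sum_eq_single a]
  · have h1 : k a ∈ stabilizer G a := hk a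
    have h2 : (k a)⁻¹ * (g : G) * k a ∈ H := by
      have := D.conj_H (g := (k a)⁻¹) (inv_smul_eq_iff.mpr h1.symm) hg
      rwa [inv_inv] at this
    rw [ext_mem _ _ (D.hHa h2)]
    exact hμH _ h2
  · intro c _ hca
    apply ind_term_zero hμ hμ1 hμH
    rw [hk]
    intro h
    exact hca (D.hfix _ hg hg1 c h)
  · intro h; exact absurd (Finset.mem_univ _) h

theorem ind_off_H {g : stabilizer G a} (hg : (g : G) ∉ H) : indFun (stabilizer G a) μ g = μ g + conj (μ g) := by
  classical
  haveI := D.pretrans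
  have hex : ∀ c : Ω, ∃ k : G, k • a = c := fun c => MulAction.exists_smul_eq G a c
  choose k hk using hex
  obtain ⟨c, hca, hgc⟩ := D.exists_fix g.2 hg
  have hg1 : (g : G) ≠ 1 := fun h => hg (by rw [h]; exact H.one_mem)
  have hcl := char_classFun hμ
  rw [ind_stab a hcl k hk, ← Finset.sum_subset (Finset.subset_univ {a, c}), Finset.sum_pair (Ne.symm hca)]
  · congr 1
    · have h1 : k a ∈ stabilizer G a := hk a
      have h2 : (k a)⁻¹ * (g : G) * k a ∈ stabilizer G a := mul_mem (mul_mem (inv_mem h1) g.2) h1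
      rw [ext_mem _ _ h2]
      have := hcl g (⟨k a, h1⟩ : stabilizer G a)⁻¹
      rw [inv_inv] at this
      exact this
    · -- move `c` to `b`
      obtain ⟨v, hv, hvb⟩ := D.regular (Ne.symm D.hab) hca
      have hva : v • a = a := D.hHa hv
      obtain ⟨s, hs⟩ := two_trans D.hZ D.hab D.hab.symm
      have hx : v⁻¹ * (g : G) * v ∈ EE G a b := by
        constructor
        · exact (stabilizer G a).mul_mem ((stabilizer G a).mul_mem ((stabilizer G a).inv_mem (D.hHa hv)) g.2) (D.hHa hv)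
        · show (v⁻¹ * (g : G) * v) • b = b
          rw [mul_smul, mul_smul, hvb, hgc, inv_smul_eq_iff, hvb]
      have hγ : (v * s)⁻¹ * k c ∈ stabilizer G a := by
        show ((v * s)⁻¹ * k c) • a = a
        rw [mul_smul, hk, inv_smul_eq_iff, mul_smul, hs.1, hvb]
      have h1 : (k c)⁻¹ * (g : G) * k c = ((v * s)⁻¹ * k c)⁻¹ * (s⁻¹ * (v⁻¹ * (g : G) * v) * s) * ((v * s)⁻¹ * k c) := by group
      have h2 : s⁻¹ * (v⁻¹ * (g : G) * v) * s = (v⁻¹ * (g : G) * v)⁻¹ := by
        have := D.hinv s⁻¹ (Dat.swap_inv hs) _ hx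
        rwa [inv_inv] at this
      rw [h1, h2]
      have h3 : (v⁻¹ * (g : G) * v)⁻¹ ∈ stabilizer G a := (stabilizer G a).inv_mem hx.1
      have h4 : ((v * s)⁻¹ * k c)⁻¹ * (v⁻¹ * (g : G) * v)⁻¹ * ((v * s)⁻¹ * k c) ∈ stabilizer G a :=
        mul_mem (mul_mem (inv_mem hγ) h3) hγ
      rw [ext_mem _ _ h4]
      have h5 : μ ⟨_, h4⟩ = μ ⟨_, h3⟩ := by
        have := hcl ⟨_, h3⟩ (⟨_, hγ⟩ : stabilizer G a)⁻¹
        rw [inv_inv] at this
        exact this
      have h6 : μ ⟨_, h3⟩ = μ g⁻¹ := by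
        have := hcl g⁻¹ (⟨v, D.hHa hv⟩ : stabilizer G a)⁻¹
        rw [inv_inv] at this
        rw [← this]
        congr 1
        apply Subtype.ext
        show (v⁻¹ * (g : G) * v)⁻¹ = v⁻¹ * (g : G)⁻¹ * v
        group
      rw [h5, h6, char_inv_eq_conj hμ]
  · intro d _ hd
    simp only [Finset.mem_insert, Finset.mem_singleton, not_or] at hd
    apply ind_term_zero hμ hμ1 hμH
    rw [hk]
    intro h
    exact hg1 (three D.hZ (Ne.symm hca) (Ne.symm hd.2) (Ne.symm hd.1) g.2 hgc h)

theorem sum_sq [Fintype (stabilizer G a)] (hne : μ ≠ fun _ => 1) : ∑ g : stabilizer G a, μ g * μ g = 0 := by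
  classical
  have h1 := irr_of_degree_one hμ hμ1
  have h2 := isIrrCharacter_conj h1
  have hne2 : μ ≠ fun g => conj (μ g) := by
    intro h
    apply hne
    funext g
    have hsq : ∀ g, μ g * μ g = 1 := by
      intro g
      have h3 : μ g⁻¹ = μ g := by rw [char_inv_eq_conj hμ]; exact (congrFun h g).symm
      have h4 := linear_mul hμ hμ1 g g⁻¹
      rw [mul_inv_cancel, hμ1, h3] at h4
      exact h4.symm
    obtain ⟨u, hu, x, hx, hux⟩ := D.decomp (b := b) (show (g : G) • a = a from g.2)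
    have h3 : g = ⟨u, D.hHa hu⟩ * ⟨x, hx.1⟩ := Subtype.ext hux
    rw [h3, linear_mul hμ hμ1, hμH ⟨u, D.hHa hu⟩ hu, one_mul]
    obtain ⟨m, hm⟩ := D.odd_order hx
    obtain ⟨f, hf⟩ := exists_hom_of_linear hμ hμ1
    have h4 : (⟨x, hx.1⟩ : stabilizer G a) ^ (2 * m + 1) = 1 := by
      apply Subtype.ext
      show x ^ (2 * m + 1) = 1
      rw [← hm, pow_orderOf_eq_one]
    have h5 := congrArg μ h4
    rw [hf, map_pow, Units.val_pow_eq_pow_val, ← hf, hμ1, pow_succ, pow_mul, pow_two, hsq, one_pow, one_mul] at h5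
    exact h5
  have h3 := irr_inner_ne h1 h2 hne2
  rw [classInner] at h3
  have hG : (Nat.card (stabilizer G a) : ℂ) ≠ 0 := by exact_mod_cast Nat.card_pos.ne'
  have h4 := (mul_eq_zero.mp h3).resolve_left (inv_ne_zero hG)
  rw [← h4]
  refine Finset.sum_congr rfl fun g _ => ?_
  rw [Complex.conj_conj]

/-- S0881 -/
theorem ind_irr (hne : μ ≠ fun _ => 1) : IsIrrCharacter G (indFun (stabilizer G a) μ) := by
  classical
  haveI : Fintype (stabilizer G a) := Fintype.ofFinite _
  rw [irr_iff_norm_one]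
  have hchar := isCharacter_ind (stabilizer G a) hμ
  refine ⟨hchar, ?_⟩
  have hG : (Nat.card (stabilizer G a) : ℂ) ≠ 0 := by exact_mod_cast Nat.card_pos.ne'
  rw [CharIndA.frobenius _ _ (char_classFun hchar), classInner]
  have h1 : ∀ g : stabilizer G a, μ g * conj (indFun (stabilizer G a) μ g) =
      (if g = 1 then (Nat.card H : ℂ) else 0) + (1 + μ g * μ g) - (if (g : G) ∈ H then 1 else 0) := by
    intro g
    by_cases hg : (g : G) ∈ H
    · by_cases hg1 : g = 1
      · have h2 : indFun (stabilizer G a) μ ((1 : stabilizer G a) : G) = Nat.card H + 1 := by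
          haveI := D.pretrans
          rw [show ((1 : stabilizer G a) : G) = 1 from rfl, CharIndA.ind_one, hμ1, MulAction.index_stabilizer_of_transitive, mul_one, Nat.card_eq_fintype_card, ← D.hcard]
          push_cast; ring
        rw [if_pos hg1, if_pos hg, hg1, h2, hμ1]
        simp only [map_add, Complex.conj_natCast, map_one]
        ring
      · rw [if_neg hg1, if_pos hg, D.ind_on_H hμ hμ1 hμH hg (fun h => hg1 (Subtype.ext h)), hμH g hg, map_one]
        ring
    · have hg1 : g ≠ 1 := fun h => hg (by rw [h]; exact H.one_mem)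
      rw [if_neg hg1, if_neg hg, D.ind_off_H hμ hμ1 hμH hg, map_add, Complex.conj_conj]
      have h3 : μ g * conj (μ g) = 1 := by
        rw [← char_inv_eq_conj hμ, ← linear_mul hμ hμ1, mul_inv_cancel, hμ1]
      rw [mul_add, h3]; ring
  rw [Finset.sum_congr rfl fun g _ => h1 g, Finset.sum_sub_distrib, Finset.sum_add_distrib, Finset.sum_add_distrib,
    D.sum_sq hμ hμ1 hμH hne, Finset.sum_ite_eq' Finset.univ (1 : stabilizer G a), if_pos (Finset.mem_univ _), Finset.sum_const,
    ← Finset.sum_filter, Finset.sum_const]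
  have h2 : (Finset.univ.filter fun g : stabilizer G a => (g : G) ∈ H).card = Nat.card H := by
    rw [← Fintype.card_subtype, ← Nat.card_eq_fintype_card]
    apply Nat.card_congr
    exact ⟨fun x => ⟨x.1, x.2⟩, fun x => ⟨⟨x, D.hHa x.2⟩, x.2⟩, fun x => rfl, fun x => rfl⟩
  rw [h2, Finset.card_univ, ← Nat.card_eq_fintype_card]
  simp only [nsmul_eq_mul, mul_one, add_zero]
  field_simp
  ring

end
end DatO
end CfsgLib.Zas
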