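import Cfsg.Agent.EqBase
import Cfsg.Agent.LibZas7
import Cfsg.Agent.LibCoh24
import Cfsg.Agent.LibCharInt2
/-!
# Zassenhaus groups VIII: Feit's theorem (helper16)
-/
set_option autoImplicit false
set_option linter.all false
open Cfsg MulAction CfsgLib.CharBasic CfsgLib.CharIndA CfsgLib.CharNorm CfsgLib.Coh
open scoped Pointwise ComplexConjugate
namespace CfsgLib.Zas

universe u v

namespace Dat
variable {G : Type u} {Ω : Type v} [Group G] [MulAction G Ω] [Finite G] [Fintype Ω] {a b : Ω} {H : Subgroup G} (D : Dat G Ω a b H)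
include D

theorem tif : TIF H (stabilizer G a) where
  hHL := by
    refine lt_of_le_of_ne D.hHa fun h => ?_
    obtain ⟨x, hx, hx1⟩ := exists_EE D.hZ D.hab
    exact D.not_mem_H hx hx1 (by rw [h]; exact hx.1)
  hH1 := D.H_ne_bot
  hHn := fun x hx h hh => D.conj_H hx hh
  hC := by
    intro h hh hh1 x hx hxh
    by_contra hxH
    exact hh1 (D.fpf hx hxH hh hxh)
  hTI := by
    intro g hg h hh hgh
    by_contra hh1
    exact hg (D.eq_a hh hh1 hgh)

theorem index_eq : (H.subgroupOf (stabilizer G a)).index = Nat.card (EE G a b) := by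
  have h1 := Subgroup.card_mul_index (H.subgroupOf (stabilizer G a))
  rw [D.tif.card_eq, card_stab D.hZ D.hab, ← D.hcard, Nat.add_sub_cancel] at h1
  exact Nat.eq_of_mul_eq_mul_left Nat.card_pos h1

theorem index_stab : (stabilizer G a).index = Nat.card H + 1 := by
  haveI := D.pretrans
  rw [MulAction.index_stabilizer_of_transitive, Nat.card_eq_fintype_card, D.hcard]

end Dat

namespace DatO
variable {G : Type u} {Ω : Type v} [Group G] [MulAction G Ω]
variable [Fintype G] [Fintype Ω] {a b : Ω} {H : Subgroup G} (D : DatO G Ω a b H)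
include D

/-- a character of the stabilizer containing `H` in the kernel is linear -/
theorem deg_one {η : stabilizer G a → ℂ} (hη : IsIrrCharacter (stabilizer G a) η) (hk : ∀ u : stabilizer G a, (u : G) ∈ H → η u = η 1) : η 1 = 1 := by
  classical
  have F := D.toDat.tif.fro
  haveI := F.normal
  obtain ⟨χ', h1, h2⟩ := CfsgLib.CharMore.deflate_irr (QuotientGroup.mk' (H.subgroupOf (stabilizer G a))) (QuotientGroup.mk'_surjective _) hη (by
    intro g hg
    rw [QuotientGroup.ker_mk'] at hg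
    exact hk g hg)
  have h3 : χ' 1 = 1 := by
    apply irr_degree_one_of_comm _ h1
    intro x y
    obtain ⟨x, rfl⟩ := QuotientGroup.mk'_surjective _ x
    obtain ⟨y, rfl⟩ := QuotientGroup.mk'_surjective _ y
    obtain ⟨u, hu, s, hs, hxs⟩ := D.decomp (b := b) (show (x : G) • a = a from x.2)
    obtain ⟨w, hw, t, ht, hyt⟩ := D.decomp (b := b) (show (y : G) • a = a from y.2)
    haveI := D.hcyc
    have hst : s * t = t * s := congrArg Subtype.val (IsCyclic.commGroup.mul_comm (⟨s, hs⟩ : EE G a b) ⟨t, ht⟩)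
    have hx' : QuotientGroup.mk' (H.subgroupOf (stabilizer G a)) x = QuotientGroup.mk' (H.subgroupOf (stabilizer G a)) ⟨s, hs.1⟩ := by
      have : x = ⟨u, D.hHa hu⟩ * ⟨s, hs.1⟩ := Subtype.ext hxs
      rw [this, map_mul]
      have h5 : QuotientGroup.mk' (H.subgroupOf (stabilizer G a)) ⟨u, D.hHa hu⟩ = 1 := (QuotientGroup.eq_one_iff _).mpr hu
      rw [h5, one_mul]
    have hy' : QuotientGroup.mk' (H.subgroupOf (stabilizer G a)) y = QuotientGroup.mk' (H.subgroupOf (stabilizer G a)) ⟨t, ht.1⟩ := by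
      have : y = ⟨w, D.hHa hw⟩ * ⟨t, ht.1⟩ := Subtype.ext hyt
      rw [this, map_mul]
      have h5 : QuotientGroup.mk' (H.subgroupOf (stabilizer G a)) ⟨w, D.hHa hw⟩ = 1 := (QuotientGroup.eq_one_iff _).mpr hw
      rw [h5, one_mul]
    rw [hx', hy', ← map_mul, ← map_mul]
    congr 1
    exact Subtype.ext hst
  rw [h2]
  show χ' (QuotientGroup.mk' _ 1) = 1
  rw [map_one, h3]

section
variable [Fintype (stabilizer G a)]

theorem not_rel {η : stabilizer G a → ℂ} (hη : IsIrrCharacter (stabilizer G a) η) (h : η ∉ inducedIrrAbove (H.subgroupOf (stabilizer G a)) ⊥) :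
    η 1 = 1 ∧ ∀ u : stabilizer G a, (u : G) ∈ H → η u = 1 := by
  have h1 : ∀ u : stabilizer G a, (u : G) ∈ H → η u = η 1 := fun u hu => D.toDat.tif.fro.not_mem_ker hη h hu
  have h2 := D.deg_one hη h1
  exact ⟨h2, fun u hu => by rw [h1 u hu, h2]⟩

theorem one_not_rel : (fun _ => 1 : stabilizer G a → ℂ) ∉ inducedIrrAbove (H.subgroupOf (stabilizer G a)) ⊥ := by
  intro h
  have h1 := D.toDat.tif.fro.inner_one h
  rw [irr_inner_self isIrrCharacter_one] at h1
  exact one_ne_zero h1

theorem stab_card : (Nat.card (stabilizer G a) : ℂ) = Nat.card H * Nat.card (EE G a b) := by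
  rw [card_stab D.hZ D.hab, ← D.hcard, Nat.add_sub_cancel]
  push_cast; ring

/-- the Steinberg character -/
theorem st_irr : IsIrrCharacter G (indFun (stabilizer G a) (fun _ => 1) - fun _ => 1) := by
  classical
  have hc : IsCharacter (stabilizer G a) (fun _ => 1 : stabilizer G a → ℂ) := isCharacter_one
  have hchar := isCharacter_ind (stabilizer G a) hc
  have hG : (Nat.card (stabilizer G a) : ℂ) ≠ 0 := by exact_mod_cast Nat.card_pos.ne'
  have hπ1 : indFun (stabilizer G a) (fun _ => 1) (1 : G) = (Nat.card H : ℂ) + 1 := by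
    rw [CharIndA.ind_one, D.toDat.index_stab]; push_cast; ring
  have h1 : classInner (indFun (stabilizer G a) (fun _ => 1)) (fun _ => 1 : G → ℂ) = 1 := by
    rw [CharIndA.frobenius _ _ (irr_classFun isIrrCharacter_one)]
    exact irr_inner_self isIrrCharacter_one
  have h1' : classInner (fun _ => 1 : G → ℂ) (indFun (stabilizer G a) (fun _ => 1)) = 1 := by
    rw [← ci_conj, h1, map_one]
  have h2 : classInner (indFun (stabilizer G a) (fun _ => 1)) (indFun (stabilizer G a) (fun _ => 1)) = 2 := by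
    rw [CharIndA.frobenius _ _ (char_classFun hchar), classInner]
    have h3 : ∀ g : stabilizer G a, (1 : ℂ) * conj (indFun (stabilizer G a) (fun _ => 1) g) =
        (if g = 1 then (Nat.card H : ℂ) else 0) + 2 - (if (g : G) ∈ H then 1 else 0) := by
      intro g
      by_cases hg : (g : G) ∈ H
      · by_cases hg1 : g = 1
        · rw [if_pos hg1, if_pos hg, hg1, show ((1 : stabilizer G a) : G) = 1 from rfl, hπ1]
          simp only [map_add, Complex.conj_natCast, map_one]
          ring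
        · rw [if_neg hg1, if_pos hg, D.ind_on_H hc rfl (fun _ _ => rfl) hg (fun h => hg1 (Subtype.ext h)), map_one]
          ring
      · have hg1 : g ≠ 1 := fun h => hg (by rw [h]; exact H.one_mem)
        rw [if_neg hg1, if_neg hg, D.ind_off_H hc rfl (fun _ _ => rfl) hg]
        simp only [map_add, map_one]
        ring
    rw [Finset.sum_congr rfl fun g _ => h3 g, Finset.sum_sub_distrib, Finset.sum_add_distrib,
      Finset.sum_ite_eq' Finset.univ (1 : stabilizer G a), if_pos (Finset.mem_univ _), Finset.sum_const,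
      ← Finset.sum_filter, Finset.sum_const]
    have h2 : (Finset.univ.filter fun g : stabilizer G a => (g : G) ∈ H).card = Nat.card H := by
      rw [← Fintype.card_subtype, ← Nat.card_eq_fintype_card]
      apply Nat.card_congr
      exact ⟨fun x => ⟨x.1, x.2⟩, fun x => ⟨⟨x, D.hHa x.2⟩, x.2⟩, fun x => rfl, fun x => rfl⟩
    rw [h2, Finset.card_univ, ← Nat.card_eq_fintype_card]
    simp only [nsmul_eq_mul, mul_one]
    field_simp
    ring
  apply irr_of_gen_norm_one_pos (gen_sub (gen_of_char hchar) (gen_of_irr isIrrCharacter_one))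
  · rw [ci_sub_l, ci_sub_r, ci_sub_r, h1, h1', h2, irr_inner_self isIrrCharacter_one]; norm_num
  · rw [Pi.sub_apply, hπ1]
    have : ((Nat.card H : ℂ) + 1 - 1).re = (Nat.card H : ℝ) := by simp
    rw [this]
    exact_mod_cast Nat.card_pos

/-- trichotomy for the irreducible characters of `G` -/
theorem tri {ψ : G → ℂ} (hψ : IsIrrCharacter G ψ) :
    (∀ η : stabilizer G a → ℂ, IsIrrCharacter (stabilizer G a) η → η ∉ inducedIrrAbove (H.subgroupOf (stabilizer G a)) ⊥ →
      classInner (fun x : stabilizer G a => ψ x) η = 0) ∨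
    (∀ u ∈ H, u ≠ 1 → ψ u = 1) ∨ ψ = indFun (stabilizer G a) (fun _ => 1) - fun _ => 1 := by
  by_cases hcon : ∃ η : stabilizer G a → ℂ, IsIrrCharacter (stabilizer G a) η ∧ η ∉ inducedIrrAbove (H.subgroupOf (stabilizer G a)) ⊥ ∧
      classInner (fun x : stabilizer G a => ψ x) η ≠ 0
  swap
  · left
    intro η h1 h2
    by_contra h3
    exact hcon ⟨η, h1, h2, h3⟩
  right
  obtain ⟨η, hη, hS, hne⟩ := hcon
  obtain ⟨h1, h2⟩ := D.not_rel hη hS
  have hchar := irr_isCharacter hη
  have hne' : classInner ψ (indFun (stabilizer G a) η) ≠ 0 := by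
    rw [CharIndA.frobenius' _ _ (irr_classFun hψ)]; exact hne
  by_cases hη1 : η = fun _ => 1
  · subst hη1
    by_cases hψ1 : ψ = fun _ => 1
    · left; intro u _ _; rw [hψ1]
    · right
      by_contra h3
      apply hne'
      have h4 : indFun (stabilizer G a) (fun _ => 1) = (indFun (stabilizer G a) (fun _ => 1) - fun _ => 1) + (fun _ => 1 : G → ℂ) := by abel
      rw [h4, ci_add_r, irr_inner_ne hψ D.st_irr h3, irr_inner_ne hψ isIrrCharacter_one hψ1, add_zero]
  · left
    have h3 := D.ind_irr hchar h1 (fun u hu => h2 u hu) hη1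
    have h4 : ψ = indFun (stabilizer G a) η := by
      by_contra h5
      exact hne' (irr_inner_ne hψ h3 h5)
    intro u hu hu1
    rw [h4]
    exact D.ind_on_H hchar h1 (fun u hu => h2 u hu) (g := ⟨u, D.hHa hu⟩) hu hu1

/-- the sum over `H` -/
theorem sum_H [Fintype H] {ψ : G → ℂ} (hψ : IsClassFunction G ψ) (h : ∀ η : stabilizer G a → ℂ, IsIrrCharacter (stabilizer G a) η →
    η ∉ inducedIrrAbove (H.subgroupOf (stabilizer G a)) ⊥ → classInner (fun x : stabilizer G a => ψ x) η = 0) : ∑ u : H, ψ u = 0 := by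
  classical
  haveI : Fintype (H.subgroupOf (stabilizer G a)) := Fintype.ofFinite _
  have h1 : ∀ x : stabilizer G a, ψ x = ∑ η : IrrCharacter (stabilizer G a), classInner (fun x : stabilizer G a => ψ x) η * (η : stabilizer G a → ℂ) x :=
    fun x => classFun_expand_apply (classFun_restrict hψ (stabilizer G a)) x
  have h2 : ∑ u : H, ψ u = ∑ k : H.subgroupOf (stabilizer G a), ψ ((k : stabilizer G a) : G) := by
    apply Fintype.sum_equiv (Subgroup.subgroupOfEquivOfLe D.hHa).symm.toEquiv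
    intro u; rfl
  rw [h2, Finset.sum_congr rfl fun (k : H.subgroupOf (stabilizer G a)) _ => h1 (k : stabilizer G a), Finset.sum_comm]
  apply Finset.sum_eq_zero
  intro η _
  rw [← Finset.mul_sum]
  by_cases hη : (η : stabilizer G a → ℂ) ∈ inducedIrrAbove (H.subgroupOf (stabilizer G a)) ⊥
  · rw [D.toDat.tif.fro.sum_K hη, mul_zero]
  · rw [h η η.2 hη, zero_mul]

/-- constant characters are non-zero on `H`, except the Steinberg character -/
theorem const_ge {ψ : G → ℂ} (hψ : IsIrrCharacter G ψ) (hc : ¬ TIF.NC H ψ) (hst : ψ ≠ indFun (stabilizer G a) (fun _ => 1) - fun _ => 1)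
    {u : G} (hu : u ∈ H) (hu1 : u ≠ 1) : ∃ r : ℝ, 1 ≤ r ∧ ψ u * conj (ψ u) = r := by
  classical
  haveI : Fintype H := Fintype.ofFinite _
  have hconst : ∀ x ∈ H, x ≠ 1 → ψ x = ψ u := by
    intro x hx hx1
    by_contra h
    exact hc ⟨x, hx, u, hu, hx1, hu1, h⟩
  rcases D.tri hψ with h | h | h
  · have h1 := D.sum_H (irr_classFun hψ) h
    obtain ⟨n, hn, hn1⟩ := irr_one_nat hψ
    have h2 : ψ 1 + ((Nat.card H : ℂ) - 1) * ψ u = 0 := by
      rw [← h1, ← Finset.add_sum_erase _ _ (Finset.mem_univ (1 : H))]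
      have h3 : ∑ x ∈ Finset.univ.erase (1 : H), ψ x = ∑ x ∈ Finset.univ.erase (1 : H), ψ u :=
        Finset.sum_congr rfl fun x hx => hconst x x.2 (fun h => (Finset.ne_of_mem_erase hx) (Subtype.ext h))
      rw [h3, Finset.sum_const, Finset.card_erase_of_mem (Finset.mem_univ _), Finset.card_univ, ← Nat.card_eq_fintype_card, nsmul_eq_mul,
        Nat.cast_sub Nat.card_pos]
      push_cast; rfl
    have h4 : (Nat.card H : ℂ) - 1 ≠ 0 := by
      have := D.two_le_H
      intro h
      have h5 : (Nat.card H : ℂ) = 1 := by linear_combination h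
      have h6 : Nat.card H = 1 := by exact_mod_cast h5
      omega
    have h5 : ψ u = (((-(n : ℚ)) / ((Nat.card H : ℚ) - 1) : ℚ) : ℂ) := by
      push_cast
      rw [eq_div_iff h4]
      rw [hn1] at h2
      linear_combination h2
    have h6 : IsIntegral ℤ (ψ u) := char_isIntegral (irr_isCharacter hψ) u
    rw [h5] at h6
    obtain ⟨z, hz⟩ := CfsgLib.CharInt2.rat_isIntegral h6
    have h7 : ψ u = (z : ℂ) := by rw [h5, ← hz]; push_cast; rfl
    have hz0 : z ≠ 0 := by
      rintro rfl
      rw [h7] at h2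
      simp only [Int.cast_zero, mul_zero, add_zero] at h2
      exact irr_one_ne_zero hψ h2
    refine ⟨(z : ℝ) ^ 2, ?_, by rw [h7]; simp [pow_two]⟩
    have : (1 : ℤ) ≤ z ^ 2 := by
      have := Int.one_le_abs hz0
      nlinarith [sq_abs z]
    exact_mod_cast this
  · refine ⟨1, le_refl _, ?_⟩
    rw [h u hu hu1]; simp
  · exact absurd h hst

/-- the parameter `m` of the coherent extension vanishes -/
theorem shift_zero {star : (stabilizer G a → ℂ) → (G → ℂ)} (hstar : IsLinearIsometryOn (zspan (inducedIrrAbove (H.subgroupOf (stabilizer G a)) ⊥)) star)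
    (hext : ∀ α ∈ zspanOn (inducedIrrAbove (H.subgroupOf (stabilizer G a)) ⊥) {1}ᶜ, star α = indFun (stabilizer G a) α)
    (htwo : ∃ χ ∈ inducedIrrAbove (H.subgroupOf (stabilizer G a)) ⊥, ∃ ξ ∈ inducedIrrAbove (H.subgroupOf (stabilizer G a)) ⊥, χ ≠ ξ)
    (hlt : 2 * Nat.card (EE G a b) < Nat.card H - 1) :
    ∀ χ ∈ inducedIrrAbove (H.subgroupOf (stabilizer G a)) ⊥, ∀ k : stabilizer G a, (k : G) ∈ H → k ≠ 1 → star χ k = χ k := by
  classical
  have T := D.toDat.tif
  obtain ⟨m, hm⟩ := T.shift hstar hext htwo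
  obtain ⟨v, hv, hv1⟩ := (Subgroup.bot_or_exists_ne_one H).resolve_left T.hH1
  have h1 := T.sum_const hstar hext htwo hm (u := ⟨v, D.hHa hv⟩) hv (fun h => hv1 (congrArg Subtype.val h))
  have h2 := T.card_const hstar hext htwo
  have h3 := D.classes_avoiding
  rw [D.toDat.index_eq] at h1
  set e := Nat.card (EE G a b) with he
  set h := Nat.card H with hh
  -- lower bound
  set C := Finset.univ.filter (fun χ : IrrCharacter G => ¬ TIF.NC H (χ : G → ℂ)) with hC
  have h4 : ∃ R : ℝ, (e : ℝ) ≤ R ∧ ∑ χ ∈ C, (χ : G → ℂ) v * conj ((χ : G → ℂ) v) = (R : ℂ) := by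
    let st : IrrCharacter G := ⟨_, D.st_irr⟩
    have hr : ∀ χ : IrrCharacter G, ∃ r : ℝ, 0 ≤ r ∧ (χ : G → ℂ) v * conj ((χ : G → ℂ) v) = (r : ℂ) ∧ (χ ∈ C.erase st → 1 ≤ r) := by
      intro χ
      by_cases hχ : χ ∈ C.erase st
      · rw [Finset.mem_erase] at hχ
        obtain ⟨r, hr1, hr2⟩ := D.const_ge χ.2 (Finset.mem_filter.mp hχ.2).2 (fun h => hχ.1 (Subtype.ext h)) hv hv1
        exact ⟨r, by linarith, hr2, fun _ => hr1⟩
      · refine ⟨Complex.normSq ((χ : G → ℂ) v), Complex.normSq_nonneg _, Complex.mul_conj _, fun h => absurd h hχ⟩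
    choose r hr1 hr2 hr3 using hr
    refine ⟨∑ χ ∈ C, r χ, ?_, ?_⟩
    · have h5 : ∑ χ ∈ C.erase st, r χ ≤ ∑ χ ∈ C, r χ := Finset.sum_le_sum_of_subset_of_nonneg (Finset.erase_subset _ _) (fun χ _ _ => hr1 χ)
      have h6 : ((C.erase st).card : ℝ) ≤ ∑ χ ∈ C.erase st, r χ := by
        rw [← nsmul_one, ← Finset.sum_const]
        exact Finset.sum_le_sum fun χ hχ => hr3 χ hχ
      have h7 : e ≤ (C.erase st).card := by
        have := Finset.pred_card_le_card_erase (s := C) (a := st)
        omega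
      have h8 : (e : ℝ) ≤ ((C.erase st).card : ℝ) := by exact_mod_cast h7
      linarith
    · push_cast
      exact Finset.sum_congr rfl fun χ _ => hr2 χ
  obtain ⟨R, hR1, hR2⟩ := h4
  have h1' : ((e : ℕ) : ℂ) * ∑ χ ∈ C, (χ : G → ℂ) v * conj ((χ : G → ℂ) v) = (e : ℂ) ^ 2 + 2 * m * e - m ^ 2 * ((h : ℂ) - 1) := h1
  rw [hR2] at h1'
  have h5 : (e : ℝ) * R = (e : ℝ) ^ 2 + 2 * m * e - m ^ 2 * ((h : ℝ) - 1) := by exact_mod_cast h1'
  have hepos : (0 : ℝ) < e := by
    have : 0 < e := Nat.card_pos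
    exact_mod_cast this
  have h6 : (m : ℝ) ^ 2 * ((h : ℝ) - 1) ≤ 2 * m * e := by nlinarith
  have hlt' : 2 * (e : ℝ) + 1 < h := by
    have : 2 * e + 1 < h := by omega
    exact_mod_cast this
  have hm0 : m = 0 := by
    by_contra hm0
    have h7 : (1 : ℤ) ≤ m ^ 2 := by
      have := Int.one_le_abs hm0
      nlinarith [sq_abs m]
    have h8 : m ≤ m ^ 2 := by nlinarith
    have h8' : (m : ℝ) ≤ (m : ℝ) ^ 2 := by exact_mod_cast h8
    have h7' : (1 : ℝ) ≤ (m : ℝ) ^ 2 := by exact_mod_cast h7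
    nlinarith
  intro χ hχ k hk hk1
  have := hm χ hχ k hk hk1
  rw [hm0] at this
  simp only [Int.cast_zero, zero_mul, zero_div] at this
  linear_combination this

end
end DatO
end CfsgLib.Zas
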