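import Cfsg.Agent.EqBase
import Cfsg.Agent.LibZas8
/-!
# Zassenhaus groups IX: Feit's theorem, conclusion (helper16)
-/
set_option autoImplicit false
set_option linter.all false
open Cfsg MulAction CfsgLib.CharBasic CfsgLib.CharIndA CfsgLib.CharNorm CfsgLib.Coh
open scoped Pointwise ComplexConjugate
namespace CfsgLib.Zas

universe u v

/-- two members from coherence -/
theorem two_of_coherent {L : Type u} [Group L] [Fintype L] {S : Set (L → ℂ)} (hS : ∀ χ ∈ S, χ 1 ≠ 0) (h : ∃ α ∈ zspanOn S {1}ᶜ, α ≠ 0) :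
    ∃ χ ∈ S, ∃ ξ ∈ S, χ ≠ ξ := by
  by_contra hcon
  push Not at hcon
  obtain ⟨α, hα, hα0⟩ := h
  obtain ⟨h1, h2⟩ := mem_z1.mp hα
  by_cases hne : S.Nonempty
  · obtain ⟨χ₀, hχ₀⟩ := hne
    have h3 : ∃ n : ℤ, α = n • χ₀ := by
      refine z_ind (p := fun α => ∃ n : ℤ, α = n • χ₀) h1 ?_ ⟨0, by simp⟩ ?_ ?_
      · intro χ hχ; exact ⟨1, by rw [one_smul]; exact hcon χ hχ χ₀ hχ₀⟩
      · rintro _ _ _ _ ⟨n, rfl⟩ ⟨m, rfl⟩
        exact ⟨n + m, by rw [add_smul]⟩
      · rintro n _ _ ⟨m, rfl⟩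
        exact ⟨n * m, by rw [mul_smul]⟩
    obtain ⟨n, rfl⟩ := h3
    rw [Pi.smul_apply, zsmul_eq_mul] at h2
    have h4 : (n : ℂ) = 0 := (mul_eq_zero.mp h2).resolve_right (hS χ₀ hχ₀)
    have h5 : n = 0 := by exact_mod_cast h4
    rw [h5, zero_smul] at hα0
    exact hα0 rfl
  · apply hα0
    refine z_ind (p := fun α => α = 0) h1 ?_ rfl ?_ ?_
    · intro χ hχ; exact absurd ⟨χ, hχ⟩ hne
    · rintro _ _ _ _ rfl rfl; simp
    · rintro n _ _ rfl; simp

/-- a character of degree zero vanishes -/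
theorem char_zero_of_deg {L : Type u} [Group L] [Fintype L] {χ : L → ℂ} (h : IsCharacter L χ) (h1 : χ 1 = 0) : χ = 0 := by
  funext g
  have h2 := char_norm_le h g
  rw [h1] at h2
  simp only [Complex.zero_re] at h2
  exact norm_le_zero_iff.mp h2

namespace DatO
variable {G : Type u} {Ω : Type v} [Group G] [MulAction G Ω]
variable [Fintype G] [Fintype Ω] {a b : Ω} {H : Subgroup G} (D : DatO G Ω a b H) [Fintype (stabilizer G a)]
include D

open Classical in
theorem card_not_rel : (Finset.univ \ relF (H.subgroupOf (stabilizer G a))).card = Nat.card (EE G a b) := by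
  have h1 := D.toDat.tif.fro.sum_not
  rw [Finset.sum_congr rfl (g := fun _ => (1 : ℂ)) (fun η hη => by
    rw [Finset.mem_sdiff] at hη
    rw [(D.not_rel η.2 (fun h => hη.2 (mem_relF.mpr h))).1, one_pow]), Finset.sum_const, nsmul_eq_mul, mul_one, D.toDat.index_eq] at h1
  exact_mod_cast h1

/-- a small irreducible character restricting to a member of `S` -/
theorem exists_small (hcoh : IsCoherent (inducedIrrAbove (H.subgroupOf (stabilizer G a)) ⊥) {1}ᶜ (fun α => indFun (stabilizer G a) α))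
    (hlt : 2 * Nat.card (EE G a b) < Nat.card H - 1) : ∃ X : G → ℂ, IsIrrCharacter G X ∧ X 1 = (Nat.card (EE G a b) : ℂ) ∧
      (fun x : stabilizer G a => X x) ∈ inducedIrrAbove (H.subgroupOf (stabilizer G a)) ⊥ := by
  classical
  haveI : Fintype H := Fintype.ofFinite _
  haveI : Fintype (H.subgroupOf (stabilizer G a)) := Fintype.ofFinite _
  have T := D.toDat.tif
  have F := T.fro
  obtain ⟨hα, star, hstar, hext⟩ := hcoh
  have htwo := two_of_coherent (fun χ hχ => irr_one_ne_zero (F.irr χ hχ)) hα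
  have hz := D.shift_zero hstar hext htwo hlt
  obtain ⟨θ₀, hθ₀, hθ₀1, hker, hθd, hlam⟩ := ia_nonempty (K := H.subgroupOf (stabilizer G a)) F.solv (A := ⊥) inferInstance (bot_lt_iff_ne_bot.mpr F.ne_bot)
  set ζ := indFun (H.subgroupOf (stabilizer G a)) θ₀ with hζ
  have hζ1 : ζ 1 = (Nat.card (EE G a b) : ℂ) := by
    rw [hζ, CharIndA.ind_one, hθd, D.toDat.index_eq, mul_one]
  have hζirr := F.irr ζ hlam
  obtain ⟨X, hX⟩ := T.exists_X hstar hext htwo ⟨ζ, hζirr⟩
  have hX' : star ζ = (X : G → ℂ) ∨ star ζ = -(X : G → ℂ) := hX (mem_relF.mpr hlam)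
  have hNC : TIF.NC H (X : G → ℂ) := by
    rw [← T.nonconst hstar hext htwo X.2]
    refine ⟨ζ, hlam, ?_⟩
    rcases hX' with h | h
    · exact Or.inl h.symm
    · exact Or.inr (by rw [h, neg_neg])
  have htri : ∀ η : stabilizer G a → ℂ, IsIrrCharacter (stabilizer G a) η → η ∉ inducedIrrAbove (H.subgroupOf (stabilizer G a)) ⊥ →
      classInner (fun x : stabilizer G a => (X : G → ℂ) x) η = 0 := by
    obtain ⟨x, hx, y, hy, hx1, hy1, hxy⟩ := hNC
    rcases D.tri X.2 with h | h | h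
    · exact h
    · exact absurd ((h x hx hx1).trans (h y hy hy1).symm) hxy
    · exfalso
      apply hxy
      have hc : IsCharacter (stabilizer G a) (fun _ => 1 : stabilizer G a → ℂ) := isCharacter_one
      rw [h, Pi.sub_apply, Pi.sub_apply, D.ind_on_H hc rfl (fun _ _ => rfl) (g := ⟨x, D.hHa hx⟩) hx hx1, D.ind_on_H hc rfl (fun _ _ => rfl) (g := ⟨y, D.hHa hy⟩) hy hy1]
  -- the degree
  have hsX := D.sum_H (irr_classFun X.2) htri
  have hsζ : ∑ k : H.subgroupOf (stabilizer G a), ζ k = 0 := F.sum_K hlam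
  have hsζ' : ∑ u : H, ζ ⟨u, D.hHa u.2⟩ = 0 := by
    rw [← hsζ]
    apply Fintype.sum_equiv (Subgroup.subgroupOfEquivOfLe D.hHa).symm.toEquiv
    intro u; rfl
  obtain ⟨n, hn0, hn⟩ := irr_one_nat X.2
  have hval : ∀ ε : ℂ, star ζ = ε • (X : G → ℂ) → ε * (X : G → ℂ) 1 = ζ 1 := by
    intro ε hε
    have h1 : ∑ u : H, (ε * (X : G → ℂ) u - ζ ⟨u, D.hHa u.2⟩) = 0 := by
      rw [Finset.sum_sub_distrib, ← Finset.mul_sum, hsX, hsζ', mul_zero, sub_zero]
    rw [Finset.sum_eq_single (1 : H)] at h1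
    · linear_combination h1
    · intro u _ hu
      have h2 := hz ζ hlam ⟨u, D.hHa u.2⟩ u.2 (fun h => hu (Subtype.ext (show (u : G) = 1 from congrArg Subtype.val h)))
      rw [hε] at h2
      have h3 : ε * (X : G → ℂ) u = ζ ⟨u, D.hHa u.2⟩ := h2
      rw [h3, sub_self]
    · intro h; exact absurd (Finset.mem_univ _) h
  have hX1 : (X : G → ℂ) 1 = (Nat.card (EE G a b) : ℂ) := by
    rcases hX' with h | h
    · have := hval 1 (by rw [one_smul]; exact h)
      rw [one_mul] at this
      rw [this, hζ1]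
    · exfalso
      have := hval (-1) (by rw [neg_one_smul]; exact h)
      rw [hζ1, hn] at this
      have h2 : ((n + Nat.card (EE G a b) : ℕ) : ℂ) = 0 := by push_cast; linear_combination -this
      have h3 : n + Nat.card (EE G a b) = 0 := by exact_mod_cast h2
      omega
  refine ⟨X, X.2, hX1, ?_⟩
  -- the restriction is irreducible
  have hres : IsCharacter (stabilizer G a) (fun x : stabilizer G a => (X : G → ℂ) x) := isCharacter_restrict (irr_isCharacter X.2) _
  have hres0 : (fun x : stabilizer G a => (X : G → ℂ) x) ≠ 0 := by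
    intro h
    exact irr_one_ne_zero X.2 (congrFun h 1)
  obtain ⟨η, hη, hne⟩ := CfsgLib.CharMore.exists_constituent hres hres0
  have hηS : η ∈ inducedIrrAbove (H.subgroupOf (stabilizer G a)) ⊥ := by
    by_contra h
    exact hne (htri η hη h)
  obtain ⟨ψ', hψ', heq⟩ := CfsgLib.CharMore.split_off hres hη hne
  obtain ⟨k, hk⟩ := char_one_nat hψ'
  obtain ⟨θ, hθ, -, -, hηeq⟩ := hηS
  obtain ⟨t, ht0, ht⟩ := irr_one_nat hθ
  have h1 := congrFun heq 1
  have h2 : (X : G → ℂ) 1 = η 1 + ψ' 1 := h1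
  rw [hX1, hηeq, CharIndA.ind_one, D.toDat.index_eq, ht, hk] at h2
  have h3 : Nat.card (EE G a b) = Nat.card (EE G a b) * t + k := by exact_mod_cast h2
  have h4 : k = 0 := by nlinarith
  have h5 : ψ' = 0 := char_zero_of_deg hψ' (by rw [hk, h4, Nat.cast_zero])
  rw [heq, h5, add_zero]
  by_contra h
  exact hne (htri η hη h)

/-- Feit's theorem, coherent case -/
theorem le_of_coherent (hcoh : IsCoherent (inducedIrrAbove (H.subgroupOf (stabilizer G a)) ⊥) {1}ᶜ (fun α => indFun (stabilizer G a) α)) :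
    Nat.card H - 1 ≤ 2 * Nat.card (EE G a b) := by
  classical
  by_contra hlt
  push Not at hlt
  haveI : Fintype H := Fintype.ofFinite _
  haveI : Fintype (H.subgroupOf (stabilizer G a)) := Fintype.ofFinite _
  have T := D.toDat.tif
  have F := T.fro
  obtain ⟨X, hX, hX1, hXS⟩ := D.exists_small hcoh hlt
  set R := Finset.univ \ relF (H.subgroupOf (stabilizer G a)) with hR
  let one' : IrrCharacter (stabilizer G a) := ⟨_, isIrrCharacter_one⟩
  have hone : one' ∈ R := by
    rw [hR, Finset.mem_sdiff]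
    exact ⟨Finset.mem_univ _, fun h => D.one_not_rel (mem_relF.mp h)⟩
  have hRn : ∀ η ∈ R, (η : stabilizer G a → ℂ) ∉ inducedIrrAbove (H.subgroupOf (stabilizer G a)) ⊥ := by
    intro η hη h
    rw [hR, Finset.mem_sdiff] at hη
    exact hη.2 (mem_relF.mpr h)
  have hM : ∀ μ : IrrCharacter (stabilizer G a), ∃ ψ : IrrCharacter G, μ ∈ R.erase one' → (ψ : G → ℂ) = indFun (stabilizer G a) μ := by
    intro μ
    by_cases hμ : μ ∈ R.erase one'
    · rw [Finset.mem_erase] at hμ
      obtain ⟨h1, h2⟩ := D.not_rel μ.2 (hRn μ hμ.2)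
      exact ⟨⟨_, D.ind_irr (irr_isCharacter μ.2) h1 (fun u hu => h2 u hu) (fun h => hμ.1 (Subtype.ext h))⟩, fun _ => rfl⟩
    · exact ⟨⟨_, isIrrCharacter_one⟩, fun h => absurd h hμ⟩
  choose φ hφ using hM
  have hval : ∀ μ ∈ R.erase one', (φ μ : G → ℂ) 1 = (Nat.card H : ℂ) + 1 ∧ ∀ u : H, u ≠ 1 → (φ μ : G → ℂ) u = 1 := by
    intro μ hμ
    have hμ' := Finset.mem_erase.mp hμ
    obtain ⟨h1, h2⟩ := D.not_rel μ.2 (hRn μ hμ'.2)
    rw [hφ μ hμ]
    constructor
    · rw [CharIndA.ind_one, D.toDat.index_stab, h1]; push_cast; ring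
    · intro u hu
      exact D.ind_on_H (irr_isCharacter μ.2) h1 (fun u hu => h2 u hu) (g := ⟨u, D.hHa u.2⟩) u.2 (fun h => hu (Subtype.ext h))
  -- the fibres
  have hfib : ∀ ψ ∈ (R.erase one').image φ, ((R.erase one').filter fun μ => φ μ = ψ).card ≤ 2 := by
    intro ψ hψ
    obtain ⟨μ₀, hμ₀, rfl⟩ := Finset.mem_image.mp hψ
    obtain ⟨v1, v2⟩ := hval μ₀ hμ₀
    have hsum : ∑ u : H, (φ μ₀ : G → ℂ) u = 2 * Nat.card H := by
      rw [← Finset.add_sum_erase _ _ (Finset.mem_univ (1 : H)), Finset.sum_congr rfl (fun u hu => v2 u (Finset.ne_of_mem_erase hu)), Finset.sum_const,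
        Finset.card_erase_of_mem (Finset.mem_univ _), Finset.card_univ, ← Nat.card_eq_fintype_card, nsmul_eq_mul, Nat.cast_sub Nat.card_pos]
      have : (φ μ₀ : G → ℂ) ((1 : H) : G) = (Nat.card H : ℂ) + 1 := v1
      rw [this]; push_cast; ring
    have hmult : ∀ η : IrrCharacter (stabilizer G a), ∃ n : ℕ, classInner (fun x : stabilizer G a => (φ μ₀ : G → ℂ) x) η = n := fun η =>
      char_mult (isCharacter_restrict (irr_isCharacter (φ μ₀).2) _) (irr_isCharacter η.2)
    choose c hc using hmult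
    have h1 : ∀ x : stabilizer G a, (φ μ₀ : G → ℂ) x = ∑ η : IrrCharacter (stabilizer G a), (c η : ℂ) * (η : stabilizer G a → ℂ) x := by
      intro x
      have := classFun_expand_apply (classFun_restrict (irr_classFun (φ μ₀).2) (stabilizer G a)) x
      rw [this]
      exact Finset.sum_congr rfl fun η _ => by rw [hc η]
    have h2 : ∑ u : H, (φ μ₀ : G → ℂ) u = ∑ k : H.subgroupOf (stabilizer G a), (φ μ₀ : G → ℂ) ((k : stabilizer G a) : G) := by
      apply Fintype.sum_equiv (Subgroup.subgroupOfEquivOfLe D.hHa).symm.toEquiv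
      intro u; rfl
    rw [h2, Finset.sum_congr rfl fun (k : H.subgroupOf (stabilizer G a)) _ => h1 (k : stabilizer G a), Finset.sum_comm] at hsum
    have h3 : ∀ η : IrrCharacter (stabilizer G a), ∑ k : H.subgroupOf (stabilizer G a), (c η : ℂ) * (η : stabilizer G a → ℂ) k = if η ∈ R then (c η : ℂ) * Nat.card H else 0 := by
      intro η
      rw [← Finset.mul_sum]
      by_cases hη : η ∈ R
      · rw [if_pos hη]
        obtain ⟨h4, h5⟩ := D.not_rel η.2 (hRn η hη)
        rw [Finset.sum_congr rfl fun (k : H.subgroupOf (stabilizer G a)) _ => h5 k k.2, Finset.sum_const, Finset.card_univ, ← Nat.card_eq_fintype_card, T.card_eq, nsmul_eq_mul, mul_one]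
      · rw [if_neg hη]
        have hη' : (η : stabilizer G a → ℂ) ∈ inducedIrrAbove (H.subgroupOf (stabilizer G a)) ⊥ := by
          by_contra h
          apply hη
          rw [hR, Finset.mem_sdiff]
          exact ⟨Finset.mem_univ _, fun h' => h (mem_relF.mp h')⟩
        rw [F.sum_K hη', mul_zero]
    rw [Finset.sum_congr rfl fun η _ => h3 η, ← Finset.sum_filter, ← Finset.sum_mul] at hsum
    have hH0 : (Nat.card H : ℂ) ≠ 0 := by exact_mod_cast Nat.card_pos.ne'
    have h6 : ((∑ η ∈ Finset.univ.filter (fun η => η ∈ R), c η : ℕ) : ℂ) = 2 := by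
      push_cast
      exact mul_right_cancel₀ hH0 hsum
    have h7 : ∑ η ∈ Finset.univ.filter (fun η => η ∈ R), c η = 2 := by exact_mod_cast h6
    rw [← h7, Finset.card_eq_sum_ones]
    refine (Finset.sum_le_sum (g := fun η => c η) fun μ hμ => ?_).trans (Finset.sum_le_sum_of_subset ?_)
    · rw [Finset.mem_filter] at hμ
      have h8 : classInner (fun x : stabilizer G a => (φ μ₀ : G → ℂ) x) μ = 1 := by
        rw [← CharIndA.frobenius' _ _ (irr_classFun (φ μ₀).2), ← hφ μ hμ.1, hμ.2]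
        exact irr_inner_self (φ μ₀).2
      rw [hc μ] at h8
      have h9 : c μ = 1 := by exact_mod_cast h8
      exact h9.ge
    · intro μ hμ
      rw [Finset.mem_filter, Finset.mem_erase] at hμ
      rw [Finset.mem_filter]
      exact ⟨Finset.mem_univ _, hμ.1.2⟩
  have hcount := Finset.card_le_mul_card_image (R.erase one') 2 hfib
  rw [Finset.card_erase_of_mem hone, D.card_not_rel] at hcount
  -- the product
  have hΘ : IsCharacter G (X * fun g => conj (X g)) := isCharacter_mul (irr_isCharacter hX) (isCharacter_conj (irr_isCharacter hX))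
  set Θ : G → ℂ := X * fun g => conj (X g) with hΘdef
  have hmult : ∀ χ : IrrCharacter G, ∃ n : ℕ, classInner Θ χ = n := fun χ => char_mult hΘ (irr_isCharacter χ.2)
  choose c hc using hmult
  have hdeg : ∀ χ : IrrCharacter G, ∃ n : ℕ, (χ : G → ℂ) 1 = n := fun χ => char_one_nat (irr_isCharacter χ.2)
  choose d hd using hdeg
  have h1 : ∑ χ : IrrCharacter G, c χ * d χ = Nat.card (EE G a b) ^ 2 := by
    have h2 := classFun_expand_apply (char_classFun hΘ) 1
    have h3 : Θ 1 = (Nat.card (EE G a b) : ℂ) ^ 2 := by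
      show X 1 * conj (X 1) = _
      rw [hX1, Complex.conj_natCast, pow_two]
    rw [h3, Finset.sum_congr rfl fun χ _ => by rw [hc χ, hd χ]] at h2
    exact_mod_cast h2.symm
  let oneG : IrrCharacter G := ⟨_, isIrrCharacter_one⟩
  have hcone : c oneG = 1 := by
    have h2 := hc oneG
    have h3 : classInner Θ (fun _ => 1) = 1 := by
      rw [inner_one_right]
      exact irr_inner_self hX
    have h4 : (c oneG : ℂ) = 1 := h2.symm.trans h3
    exact_mod_cast h4
  have hcφ : ∀ μ ∈ R.erase one', c (φ μ) = 1 ∧ d (φ μ) = Nat.card H + 1 := by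
    intro μ hμ
    have hμ' := Finset.mem_erase.mp hμ
    obtain ⟨g1, g2⟩ := D.not_rel μ.2 (hRn μ hμ'.2)
    constructor
    · have h2 := hc (φ μ)
      rw [hφ μ hμ, CharIndA.frobenius' _ _ (char_classFun hΘ)] at h2
      have h3 : classInner (fun x : stabilizer G a => Θ x) (μ : stabilizer G a → ℂ) = 1 := by
        rw [← irr_inner_self (F.irr _ hXS)]
        unfold classInner
        congr 1
        refine Finset.sum_congr rfl fun x _ => ?_
        by_cases hx : (x : G) ∈ H
        · rw [g2 x hx, map_one, mul_one]; rfl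
        · have h4 : X (x : G) = 0 := F.off (z_sub hXS) (x := x) hx
          show X (x : G) * conj (X x) * conj (μ.1 x) = X x * conj (X x)
          rw [h4]; simp
      rw [h3] at h2
      exact_mod_cast h2.symm
    · have h2 := hd (φ μ)
      rw [(hval μ hμ).1] at h2
      exact_mod_cast h2.symm
  have honenot : oneG ∉ (R.erase one').image φ := by
    intro h
    obtain ⟨μ, hμ, hμ1⟩ := Finset.mem_image.mp h
    have h2 := (hcφ μ hμ).2
    rw [hμ1] at h2
    have h3 := hd oneG
    rw [h2] at h3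
    have h4 : (1 : ℂ) = ((Nat.card H + 1 : ℕ) : ℂ) := h3
    have h5 : 1 = Nat.card H + 1 := by exact_mod_cast h4
    have := D.two_le_H
    omega
  have h2 : ∑ χ ∈ insert oneG ((R.erase one').image φ), c χ * d χ ≤ Nat.card (EE G a b) ^ 2 := by
    rw [← h1]
    exact Finset.sum_le_sum_of_subset (Finset.subset_univ _)
  rw [Finset.sum_insert honenot, Finset.sum_congr rfl (g := fun _ => Nat.card H + 1) (fun χ hχ => by
    obtain ⟨μ, hμ, rfl⟩ := Finset.mem_image.mp hχ
    rw [(hcφ μ hμ).1, (hcφ μ hμ).2, one_mul]), Finset.sum_const, hcone, one_mul, smul_eq_mul] at h2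
  have h3 : d oneG = 1 := by
    have h4 : (1 : ℂ) = (d oneG : ℂ) := hd oneG
    exact_mod_cast h4.symm
  rw [h3] at h2
  have h4 := D.two_le_EE
  set e := Nat.card (EE G a b) with he
  set h := Nat.card H with hh
  set f := ((R.erase one').image φ).card with hf
  obtain ⟨e', he'⟩ : ∃ e', e = e' + 2 := ⟨e - 2, by omega⟩
  obtain ⟨h', hh'⟩ : ∃ h', h = 2 * e + 2 + h' := ⟨h - (2 * e + 2), by omega⟩
  have h5 : e' + 1 ≤ 2 * f := by omega
  rw [hh', he'] at h2
  nlinarith

end DatO
end CfsgLib.Zas
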