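import Cfsg.Agent.EqBase
import Cfsg.Agent.LibZas9
/-!
# Zassenhaus groups X: Feit's theorem in general (helper16)
-/
set_option autoImplicit false
set_option linter.all false
open Cfsg MulAction CfsgLib.CharBasic CfsgLib.CharIndA CfsgLib.CharNorm CfsgLib.Coh
open scoped Pointwise ComplexConjugate
namespace CfsgLib.Zas

universe u v

theorem relIndex_comm_eq {G : Type u} [Group G] {K N : Subgroup G} (h : K ≤ N) :
    (⁅K.subgroupOf N, K.subgroupOf N⁆ : Subgroup N).relIndex (K.subgroupOf N) = (commutator K).index := by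
  rw [← Subgroup.relIndex_map_map_of_injective _ _ N.subtype_injective, Subgroup.map_commutator, Subgroup.map_subgroupOf_eq_of_le h]
  have h1 : (⁅K, K⁆ : Subgroup G).subgroupOf K = commutator K := by
    rw [Subgroup.subgroupOf, ← Subgroup.map_subtype_commutator, Subgroup.comap_map_eq_self_of_injective K.subtype_injective]
  rw [Subgroup.relIndex, h1]

namespace Dat
variable {G : Type u} {Ω : Type v} [Group G] [MulAction G Ω] [Finite G] [Fintype Ω] {a b : Ω} {H : Subgroup G} (D : Dat G Ω a b H)
include D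

theorem feit_simple (hs : IsSimpleGroup G) (hodd : Odd (Nat.card (EE G a b))) : Nat.card H - 1 ≤ 2 * Nat.card (EE G a b) ∨
    (IsPGroup 2 H ∧ (∃ u v : H, u * v ≠ v * u) ∧ (commutator H).index ≤ 4 * (Nat.card (EE G a b)) ^ 2 + 1) := by
  classical
  haveI := Fintype.ofFinite G
  haveI : Fintype (stabilizer G a) := Fintype.ofFinite _
  have D' := D.toO hs hodd
  have T := D.tif
  by_cases hle : Nat.card H - 1 ≤ 2 * Nat.card (EE G a b)
  · exact Or.inl hle
  right
  have h2 := D.two_le_EE
  have he : Nat.card (H.subgroupOf (stabilizer G a)) ≠ (H.subgroupOf (stabilizer G a)).index + 1 := by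
    rw [T.card_eq, D.index_eq]
    omega
  have hncoh : ¬ IsCoherent (inducedIrrAbove (H.subgroupOf (stabilizer G a)) ⊥) {1}ᶜ (fun α => indFun (stabilizer G a) α) :=
    fun h => hle (D'.le_of_coherent h)
  have hnc : ∃ u v : H, u * v ≠ v * u := by
    by_contra hcon
    push Not at hcon
    apply hncoh
    refine T.fro.feit T.isom T.isom1 he (Or.inl ?_)
    rw [Subgroup.commutator_le]
    intro x hx y hy
    rw [Subgroup.mem_bot, commutatorElement_eq_one_iff_mul_comm]
    have h5 := congrArg (fun z : H => (z : G)) (hcon ⟨x, hx⟩ ⟨y, hy⟩)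
    exact Subtype.ext h5
  rcases T.main he with ⟨h3, h4⟩ | h
  · refine ⟨IsPGroup.of_card h3, hnc, ?_⟩
    rw [relIndex_comm_eq D.hHa, D.index_eq] at h4
    omega
  · exact absurd h hncoh

end Dat

/-- a Zassenhaus structure restricts to non-trivial normal subgroups -/
theorem Dat.restrict {G : Type u} {Ω : Type v} [Group G] [MulAction G Ω] [Finite G] [Fintype Ω] {a b : Ω} {H : Subgroup G} (D : Dat G Ω a b H)
    {N : Subgroup G} (hN : N.Normal) (hN1 : N ≠ ⊥) : Dat N Ω a b (H.subgroupOf N) where
  hZ := D.normal_zassenhaus hN1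
  hab := D.hab
  hHa := fun x hx => D.hHa hx
  hcard := by
    rw [← D.hcard]
    congr 1
    exact Nat.card_congr (Subgroup.subgroupOfEquivOfLe (D.H_le_normal hN1)).toEquiv
  hfix := fun u hu hu1 c hc => D.hfix u hu (fun h => hu1 (Subtype.ext h)) c hc

theorem card_EE_restrict {G : Type u} {Ω : Type v} [Group G] [MulAction G Ω] [Finite G] (N : Subgroup G) (a b : Ω) :
    Nat.card (EE N a b) ∣ Nat.card (EE G a b) := by
  rw [← Subgroup.card_map_of_injective N.subtype_injective]
  apply Subgroup.card_dvd_of_le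
  rintro _ ⟨x, hx, rfl⟩
  exact hx

theorem feit_general (n : ℕ) : ∀ {G : Type u} {Ω : Type v} [Group G] [MulAction G Ω] [Finite G] [Fintype Ω] {a b : Ω} {H : Subgroup G} (D : Dat G Ω a b H)
    (hodd : Odd (Nat.card (EE G a b))) (hn : Nat.card G = n), Nat.card H - 1 ≤ 2 * Nat.card (EE G a b) ∨
    (IsPGroup 2 H ∧ (∃ u v : H, u * v ≠ v * u) ∧ (commutator H).index ≤ 4 * (Nat.card (EE G a b)) ^ 2 + 1) := by
  induction n using Nat.strong_induction_on with
  | _ n ih =>
  intro G Ω _ _ _ _ a b H D hodd hn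
  by_cases hs : IsSimpleGroup G
  · exact D.feit_simple hs hodd
  have hnt : Nontrivial G := by
    obtain ⟨x, -, hx⟩ := exists_EE D.hZ D.hab
    exact ⟨x, 1, hx⟩
  obtain ⟨N, hN, hN1, hN2⟩ : ∃ N : Subgroup G, N.Normal ∧ N ≠ ⊥ ∧ N ≠ ⊤ := by
    by_contra hcon
    push Not at hcon
    apply hs
    exact { toNontrivial := hnt, eq_bot_or_eq_top_of_normal := fun N hN => by
              by_cases h : N = ⊥
              · exact Or.inl h
              · exact Or.inr (hcon N hN h) }
  have DN := D.restrict hN hN1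
  have hdvd := card_EE_restrict (G := G) N a b
  have hle := Nat.le_of_dvd Nat.card_pos hdvd
  have hcard : Nat.card N < n := by
    have h1 := Subgroup.card_mul_index N
    have h2 : N.index ≠ 1 := fun h => hN2 (Subgroup.index_eq_one.mp h)
    have h3 : N.index ≠ 0 := Subgroup.index_ne_zero_of_finite
    have h4 : 0 < Nat.card N := Nat.card_pos
    rw [← hn, ← h1]
    nlinarith [Nat.pos_of_ne_zero h3, (by omega : 2 ≤ N.index)]
  have e := Subgroup.subgroupOfEquivOfLe (D.H_le_normal hN1)
  have hcH : Nat.card (H.subgroupOf N) = Nat.card H := Nat.card_congr e.toEquiv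
  rcases ih _ hcard DN (Odd.of_dvd_nat hodd hdvd) rfl with h | ⟨h1, ⟨x, y, hxy⟩, h3⟩
  · left
    rw [hcH] at h
    omega
  · right
    refine ⟨h1.of_equiv e, ⟨e x, e y, fun h => hxy (e.injective (by rw [map_mul, map_mul, h]))⟩, ?_⟩
    have h4 : (commutator H).index = (commutator (H.subgroupOf N)).index := by
      have h5 : (commutator (H.subgroupOf N)).map e.toMonoidHom = commutator H := by
        rw [commutator_def, commutator_def, Subgroup.map_commutator, ← MonoidHom.range_eq_map, MonoidHom.range_eq_top.mpr e.surjective]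
      rw [← h5]
      exact Subgroup.index_map_equiv _ e
    rw [h4]
    have : 4 * (Nat.card (EE N a b)) ^ 2 ≤ 4 * (Nat.card (EE G a b)) ^ 2 := Nat.mul_le_mul_left _ (Nat.pow_le_pow_left hle 2)
    omega

end CfsgLib.Zas
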