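import Cfsg.Statements.S0738
import Mathlib

-- import your own Cfsg.Agent.* helpers here

set_option autoImplicit false
open Cfsg

namespace Cfsg.Agent.S0738

open MulAction

section
variable {G : Type*} [Group G] [Finite G]

/-- abstract Frobenius situation: `H` normalises `F` and acts semiregularly. -/
theorem le_of_inv (H F : Subgroup G) (hsr : ∀ h ∈ H, ∀ f ∈ F, f ≠ 1 → h * f * h⁻¹ = f → h = 1)
    (K : Subgroup G) (hKF : K ≤ F) (hK : K ≠ ⊥) (hinv : ∀ h ∈ H, ∀ k ∈ K, h * k * h⁻¹ ∈ K) :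
    Nat.card H + 1 ≤ Nat.card K := by
  obtain ⟨⟨x, hx⟩, hx0⟩ := Subgroup.ne_bot_iff_exists_ne_one.mp hK
  have hx1 : x ≠ 1 := fun h => hx0 (Subtype.ext h)
  have hinj : Function.Injective (fun h : Option H => (match h with
    | none => (1 : K)
    | some h => ⟨h * x * h⁻¹, hinv h h.2 x hx⟩)) := by
    intro u v huv
    rcases u with _ | u <;> rcases v with _ | v
    · rfl
    · exfalso
      have h1 : (1 : G) = v * x * (v : G)⁻¹ := congrArg Subtype.val huv
      apply hx1
      rw [eq_mul_inv_iff_mul_eq, one_mul, left_eq_mul] at h1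
      exact h1
    · exfalso
      have h1 : u * x * (u : G)⁻¹ = (1 : G) := congrArg Subtype.val huv
      apply hx1
      rw [mul_inv_eq_one, mul_eq_left] at h1
      exact h1
    · have h1 : (u : G) * x * (u : G)⁻¹ = v * x * (v : G)⁻¹ := congrArg Subtype.val huv
      have h2 : ((v : G)⁻¹ * (u : G)) = 1 := by
        apply hsr _ (H.mul_mem (H.inv_mem v.2) u.2) x (hKF hx) hx1
        calc ((v : G)⁻¹ * (u : G)) * x * ((v : G)⁻¹ * (u : G))⁻¹ = (v : G)⁻¹ * (u * x * (u : G)⁻¹) * v := by group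
          _ = x := by rw [h1]; group
      rw [inv_mul_eq_one] at h2
      rw [Subtype.ext h2]
  have h9 := Nat.card_le_card_of_injective _ hinj
  rwa [Finite.card_option] at h9

theorem orbit_card (H F : Subgroup G) (hsr : ∀ h ∈ H, ∀ f ∈ F, f ≠ 1 → h * f * h⁻¹ = f → h = 1)
    (hinv : ∀ h ∈ H, ∀ f ∈ F, h * f * h⁻¹ ∈ F) {p : ℕ} (hp : p.Prime) (hpF : p ∣ Nat.card F) :
    Nat.card H ≤ {f : G | f ∈ F ∧ orderOf f = p}.ncard := by
  have hpf : Fact p.Prime := ⟨hp⟩
  obtain ⟨x, hx⟩ := exists_prime_orderOf_dvd_card' (G := F) p hpF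
  have hx' : orderOf (x : G) = p := by rw [← hx]; exact Subgroup.orderOf_coe x
  have hx1 : (x : G) ≠ 1 := by
    intro h
    rw [h, orderOf_one] at hx'
    exact hp.one_lt.ne hx'
  rw [← Nat.card_coe_set_eq]
  refine Nat.card_le_card_of_injective (fun h : H => (⟨h * x * (h : G)⁻¹, hinv h h.2 x x.2, ?_⟩ :
    {f : G | f ∈ F ∧ orderOf f = p})) ?_
  · rw [← MulAut.conj_apply, MulEquiv.orderOf_eq]
    exact hx'
  · intro u v huv
    have h1 : (u : G) * x * (u : G)⁻¹ = v * x * (v : G)⁻¹ := congrArg Subtype.val huv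
    have h2 : ((v : G)⁻¹ * (u : G)) = 1 := by
      apply hsr _ (H.mul_mem (H.inv_mem v.2) u.2) x x.2 hx1
      calc ((v : G)⁻¹ * (u : G)) * x * ((v : G)⁻¹ * (u : G))⁻¹ = (v : G)⁻¹ * (u * x * (u : G)⁻¹) * v := by group
        _ = x := by rw [h1]; group
    rw [inv_mul_eq_one] at h2
    exact (Subtype.ext h2).symm

theorem unique_prime (H F : Subgroup G) (hsr : ∀ h ∈ H, ∀ f ∈ F, f ≠ 1 → h * f * h⁻¹ = f → h = 1)
    (hinv : ∀ h ∈ H, ∀ f ∈ F, h * f * h⁻¹ ∈ F) (hd : Nat.card F ≤ 2 * Nat.card H + 1)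
    {p q : ℕ} (hp : p.Prime) (hq : q.Prime) (hpF : p ∣ Nat.card F) (hqF : q ∣ Nat.card F) : p = q := by
  by_contra hpq
  have hpf : Fact p.Prime := ⟨hp⟩
  have hqf : Fact q.Prime := ⟨hq⟩
  have h1 := orbit_card H F hsr hinv hp hpF
  have h2 := orbit_card H F hsr hinv hq hqF
  set Sp : Set G := {f : G | f ∈ F ∧ orderOf f = p} with hSp
  set Sq : Set G := {f : G | f ∈ F ∧ orderOf f = q} with hSq
  have hdisj : Disjoint Sp Sq := by
    rw [Set.disjoint_left]
    rintro f hf hf'
    exact hpq (hf.2.symm.trans hf'.2)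
  have h1m : (1 : G) ∉ Sp ∪ Sq := by
    rintro (h | h)
    · exact hp.one_lt.ne (orderOf_one.symm.trans h.2)
    · exact hq.one_lt.ne (orderOf_one.symm.trans h.2)
  have hsub : insert (1 : G) (Sp ∪ Sq) ⊆ (F : Set G) := by
    rintro f (rfl | h | h)
    · exact F.one_mem
    · exact h.1
    · exact h.1
  have hcF : (F : Set G).ncard = Nat.card F := (Nat.card_coe_set_eq _).symm
  have hle := Set.ncard_le_ncard hsub (Set.toFinite _)
  rw [Set.ncard_insert_of_notMem h1m (Set.toFinite _), Set.ncard_union_eq hdisj (Set.toFinite _) (Set.toFinite _),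
    hcF] at hle
  have e1 : Sp.ncard = Nat.card H := by omega
  have e3 : Nat.card F = 2 * Nat.card H + 1 := by omega
  have hall : insert (1 : G) (Sp ∪ Sq) = (F : Set G) := by
    apply Set.eq_of_subset_of_ncard_le hsub _ (Set.toFinite _)
    rw [Set.ncard_insert_of_notMem h1m (Set.toFinite _),
      Set.ncard_union_eq hdisj (Set.toFinite _) (Set.toFinite _), hcF]
    omega
  -- the Sylow `q`-subgroup acts on `Sp`
  obtain ⟨y, hy⟩ := exists_prime_orderOf_dvd_card' (G := F) q hqF
  have hy' : orderOf (y : G) = q := by rw [← hy]; exact Subgroup.orderOf_coe y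
  have hQ : IsPGroup q (Subgroup.zpowers (y : G)) := by
    apply IsPGroup.of_card (n := 1)
    rw [Nat.card_zpowers, hy', pow_one]
  have hmem : ∀ (u : Subgroup.zpowers (y : G)) (f : G), f ∈ Sp → (u : G) * f * (u : G)⁻¹ ∈ Sp := by
    rintro ⟨_, n, rfl⟩ f ⟨hf1, hf2⟩
    have hyn : (y : G) ^ n ∈ F := F.zpow_mem y.2 n
    refine ⟨F.mul_mem (F.mul_mem hyn hf1) (F.inv_mem hyn), ?_⟩
    change orderOf ((y : G) ^ n * f * ((y : G) ^ n)⁻¹) = p
    rw [← MulAut.conj_apply, MulEquiv.orderOf_eq]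
    exact hf2
  let act : MulAction (Subgroup.zpowers (y : G)) Sp :=
    { smul := fun u f => ⟨(u : G) * f * (u : G)⁻¹, hmem u f f.2⟩
      one_smul := fun f => by
        apply Subtype.ext
        change ((1 : Subgroup.zpowers (y : G)) : G) * (f : G) * ((1 : Subgroup.zpowers (y : G)) : G)⁻¹ = f
        rw [OneMemClass.coe_one]; group
      mul_smul := fun u v f => by
        apply Subtype.ext
        change ((u * v : Subgroup.zpowers (y : G)) : G) * (f : G) * ((u * v : Subgroup.zpowers (y : G)) : G)⁻¹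
          = (u : G) * ((v : G) * f * (v : G)⁻¹) * (u : G)⁻¹
        rw [Subgroup.coe_mul]; group }
  have hmod := hQ.card_modEq_card_fixedPoints Sp
  have hempty : IsEmpty (fixedPoints (Subgroup.zpowers (y : G)) Sp) := by
    constructor
    rintro ⟨⟨f, hf⟩, hfix⟩
    have hc : (y : G) * f * (y : G)⁻¹ = f := congrArg Subtype.val (hfix ⟨y, Subgroup.mem_zpowers _⟩)
    have hcom : Commute (y : G) f := by
      rw [mul_inv_eq_iff_eq_mul] at hc
      exact hc
    have hord : orderOf ((y : G) * f) = q * p := by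
      rw [hcom.orderOf_mul_eq_mul_orderOf_of_coprime, hy', hf.2]
      rw [hy', hf.2]
      exact (Nat.coprime_primes hq hp).mpr (Ne.symm hpq)
    have hmF : (y : G) * f ∈ insert (1 : G) (Sp ∪ Sq) := by
      rw [hall]
      exact F.mul_mem y.2 hf.1
    rcases hmF with h | h | h
    · rw [h, orderOf_one] at hord
      have := hp.two_le
      have := hq.two_le
      nlinarith
    · rw [h.2] at hord
      have := hp.two_le
      have := hq.two_le
      nlinarith
    · rw [h.2] at hord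
      have := hp.two_le
      have := hq.two_le
      nlinarith
  rw [Nat.card_of_isEmpty (α := fixedPoints (Subgroup.zpowers (y : G)) Sp), Nat.card_coe_set_eq, e1] at hmod
  have hqd : q ∣ Nat.card H := (Nat.modEq_zero_iff_dvd).mp hmod
  rw [e3] at hqF
  have : q ∣ 1 := (Nat.dvd_add_right (hqd.mul_left 2)).mp hqF
  exact hq.one_lt.ne' (Nat.dvd_one.mp this)

theorem main (H F : Subgroup G) (hsr : ∀ h ∈ H, ∀ f ∈ F, f ≠ 1 → h * f * h⁻¹ = f → h = 1)
    (hinv : ∀ h ∈ H, ∀ f ∈ F, h * f * h⁻¹ ∈ F) (hd : Nat.card F ≤ 2 * Nat.card H + 1) (hF : F ≠ ⊥) :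
    IsMulCommutative F ∧ ∃ p f : ℕ, p.Prime ∧ (∀ u ∈ F, u ^ p = 1) ∧ Nat.card F = p ^ f := by
  have hcard1 : Nat.card F ≠ 1 := fun h => hF (Subgroup.card_eq_one.mp h)
  obtain ⟨p, hp, hpF⟩ := Nat.exists_prime_and_dvd hcard1
  have hpf : Fact p.Prime := ⟨hp⟩
  have hpow : Nat.card F = p ^ (Nat.card F).primeFactorsList.length :=
    Nat.eq_prime_pow_of_unique_prime_dvd Nat.card_pos.ne' (fun {q} hq hqF =>
      (unique_prime H F hsr hinv hd hp hq hpF hqF).symm)
  have hall : ∀ K : Subgroup G, K ≤ F → K ≠ ⊥ → (∀ h ∈ H, ∀ k ∈ K, h * k * h⁻¹ ∈ K) → K = F := by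
    intro K hKF hK hKinv
    have h1 := le_of_inv H F hsr K hKF hK hKinv
    apply Subgroup.eq_of_le_of_card_ge hKF
    by_contra hlt
    push Not at hlt
    have h2 : 2 * Nat.card K ≤ Nat.card F := by
      obtain ⟨m, hm⟩ := Subgroup.card_dvd_of_le hKF
      rw [hm] at hlt ⊢
      have hKpos : 0 < Nat.card K := Nat.card_pos
      have : 1 < m := by
        by_contra hm1
        push Not at hm1
        have : Nat.card K * m ≤ Nat.card K * 1 := Nat.mul_le_mul_left _ hm1
        omega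
      rw [mul_comm]
      exact Nat.mul_le_mul_left _ this
    omega
  have hpg : IsPGroup p F := IsPGroup.of_card hpow
  have hFnt : Nontrivial F := (Subgroup.nontrivial_iff_ne_bot F).mpr hF
  have hZ : (Subgroup.center F).map F.subtype = F := by
    apply hall
    · exact Subgroup.map_subtype_le _
    · intro h
      rw [Subgroup.map_eq_bot_iff_of_injective _ F.subtype_injective] at h
      have := hpg.center_nontrivial
      rw [h] at this
      exact not_nontrivial _ this
    · rintro h hh _ ⟨k, hk, rfl⟩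
      refine ⟨⟨h * k * h⁻¹, hinv h hh k k.2⟩, ?_, rfl⟩
      change _ ∈ Subgroup.center F
      rw [Subgroup.mem_center_iff]
      rintro ⟨g, hg⟩
      apply Subtype.ext
      change g * (h * k * h⁻¹) = (h * k * h⁻¹) * g
      have hg' : h⁻¹ * g * h ∈ F := by
        have := hinv h⁻¹ (H.inv_mem hh) g hg
        rwa [inv_inv] at this
      have h3 : (h⁻¹ * g * h) * k = k * (h⁻¹ * g * h) :=
        congrArg Subtype.val ((Subgroup.mem_center_iff.mp hk) ⟨_, hg'⟩)
      calc g * (h * k * h⁻¹) = h * ((h⁻¹ * g * h) * k) * h⁻¹ := by group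
        _ = h * (k * (h⁻¹ * g * h)) * h⁻¹ := by rw [h3]
        _ = (h * k * h⁻¹) * g := by group
  have hcomm : ∀ x ∈ F, ∀ y ∈ F, x * y = y * x := by
    intro x hx y hy
    rw [← hZ] at hx
    obtain ⟨x', hx', rfl⟩ := hx
    exact congrArg Subtype.val ((Subgroup.mem_center_iff.mp hx') ⟨y, hy⟩).symm
  let E : Subgroup G :=
    { carrier := {x | x ∈ F ∧ x ^ p = 1}
      mul_mem' := by
        rintro x y ⟨hx, hx'⟩ ⟨hy, hy'⟩
        refine ⟨F.mul_mem hx hy, ?_⟩
        have hc : Commute x y := hcomm x hx y hy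
        rw [hc.mul_pow, hx', hy', one_mul]
      one_mem' := ⟨F.one_mem, one_pow _⟩
      inv_mem' := by
        rintro x ⟨hx, hx'⟩
        exact ⟨F.inv_mem hx, by rw [inv_pow, hx', inv_one]⟩ }
  have hE : E = F := by
    apply hall
    · rintro x hx
      exact hx.1
    · intro h
      obtain ⟨x, hx⟩ := exists_prime_orderOf_dvd_card' (G := F) p hpF
      have hxE : (x : G) ∈ E := ⟨x.2, by
        have := pow_orderOf_eq_one x
        rw [hx] at this
        exact congrArg Subtype.val this⟩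
      rw [h, Subgroup.mem_bot] at hxE
      have : x = 1 := Subtype.ext hxE
      rw [this, orderOf_one] at hx
      exact hp.one_lt.ne hx
    · rintro h hh k ⟨hk, hk'⟩
      refine ⟨hinv h hh k hk, ?_⟩
      rw [conj_pow, hk']
      group
  refine ⟨⟨⟨fun x y => Subtype.ext (hcomm x x.2 y y.2)⟩⟩, p, _, hp, fun u hu => ?_, hpow⟩
  rw [← hE] at hu
  exact hu.2

end

/-- Let a finite Zassenhaus group of degree `n + 1` have two-point stabilisers of order `d` with `2d ≥ n - 1`. Then a normal subgroup of a point stabiliser acting regularly on the remaining points is elementary abelian, and the degree is a prime power plus one. -/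
theorem result {G Ω : Type*} [Group G] [Finite G] [MulAction G Ω] [Fintype Ω] (hZ : Cfsg.IsZassenhausGroup G Ω) {a b : Ω} (hab : a ≠ b) (hd : Fintype.card Ω - 2 ≤ 2 * Nat.card ↥(MulAction.stabilizer G a ⊓ MulAction.stabilizer G b)) (F : Subgroup G) (hFle : F ≤ MulAction.stabilizer G a) (hFn : (F.subgroupOf (MulAction.stabilizer G a)).Normal) (hreg : ∀ y z : Ω, y ≠ a → z ≠ a → ∃! u : F, (u : G) • y = z) : IsMulCommutative F ∧ ∃ p f : ℕ, p.Prime ∧ (∀ u ∈ F, u ^ p = 1) ∧ Fintype.card Ω = p ^ f + 1 := by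
  classical
  obtain ⟨hf, h2, h3, ⟨g0, hg01, a0, b0, hab0, hga0, hgb0⟩, -⟩ := hZ
  have hstab : ∀ u ∈ F, u • a = a := fun u hu => hFle hu
  have hcardF : Nat.card F = Fintype.card Ω - 1 := by
    have h1 : Nat.card F = Nat.card {x : Ω // x ≠ a} := by
      apply Nat.card_congr
      refine Equiv.ofBijective (fun u => ⟨(u : G) • b, fun h => hab ?_⟩) ⟨?_, ?_⟩
      · have := hstab u u.2
        exact MulAction.injective (u : G) (this.trans h.symm)
      · intro u v huv
        have h4 : (u : G) • b = (v : G) • b := congrArg Subtype.val huv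
        obtain ⟨w, hw, hu⟩ := hreg b ((v : G) • b) hab.symm (fun h => hab (by
          exact MulAction.injective (v : G) ((hstab v v.2).trans h.symm)))
        rw [hu u h4, hu v rfl]
      · rintro ⟨x, hx⟩
        obtain ⟨w, hw, hu⟩ := hreg b x hab.symm hx
        exact ⟨w, Subtype.ext hw⟩
    rw [h1, Nat.card_eq_fintype_card, Fintype.card_subtype_compl]
    simp
  have hn : 2 ≤ Fintype.card Ω := by
    have : 1 < Fintype.card Ω := Fintype.one_lt_card_iff.mpr ⟨a, b, hab⟩
    omega
  have hnorm : ∀ h ∈ MulAction.stabilizer G a ⊓ MulAction.stabilizer G b, ∀ f ∈ F, h * f * h⁻¹ ∈ F := by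
    intro h hh f hf'
    have := hFn.conj_mem ⟨f, hFle hf'⟩ hf' ⟨h, hh.1⟩
    exact this
  have hsr : ∀ h ∈ MulAction.stabilizer G a ⊓ MulAction.stabilizer G b, ∀ f ∈ F, f ≠ 1 →
      h * f * h⁻¹ = f → h = 1 := by
    intro h hh f hf' hf1 hc
    have e1 : f • b ≠ b := by
      intro h4
      obtain ⟨w, hw, hu⟩ := hreg b b hab.symm hab.symm
      have h5 := hu ⟨f, hf'⟩ h4
      have h6 := hu 1 (one_smul _ b)
      exact hf1 (congrArg Subtype.val (h5.trans h6.symm))
    have e2 : f • b ≠ a := by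
      intro h4
      exact hab (MulAction.injective f ((hstab f hf').trans h4.symm))
    apply h3 h a b (f • b) hab (Ne.symm e1) (Ne.symm e2) hh.1 hh.2
    rw [mul_inv_eq_iff_eq_mul] at hc
    rw [← mul_smul, hc, mul_smul]
    congr 1
    exact hh.2
  rcases Nat.eq_or_lt_of_le hn with hn2 | hn2
  · -- degree 2
    exfalso
    apply hg01
    apply hf.eq_of_smul_eq_smul
    intro x
    rw [one_smul]
    by_cases hxa : x = a0
    · rw [hxa, hga0]
    · by_cases hxb : x = b0
      · rw [hxb, hgb0]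
      · exfalso
        have : 2 < Fintype.card Ω := Fintype.two_lt_card_iff.mpr ⟨x, a0, b0, hxa, hxb, hab0⟩
        omega
  have hF : F ≠ ⊥ := by
    rintro rfl
    rw [Subgroup.card_bot] at hcardF
    omega
  obtain ⟨hc, p, f, hp, hexp, hcp⟩ := main (MulAction.stabilizer G a ⊓ MulAction.stabilizer G b) F hsr hnorm
    (by omega) hF
  refine ⟨hc, p, f, hp, hexp, ?_⟩
  rw [← hcp, hcardF]
  omega

end Cfsg.Agent.S0738
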