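import Cfsg.Statements.S0741
import Mathlib
import Cfsg.Agent.LibZG1
-- import your own Cfsg.Agent.* helpers here

set_option autoImplicit false
open Cfsg

namespace Cfsg.Agent.S0741

open MulAction Cfsg.Agent.LibZG1

theorem card_moved_pairs {G Ω : Type*} [Group G] [MulAction G Ω] [Fintype Ω] (t : G) :
    Nat.card {p : Ω × Ω // p.1 ≠ p.2 ∧ t • p.1 = p.2}
      = Fintype.card Ω - Nat.card (fixedBy Ω t) := by
  rw [← card_moved]
  apply Nat.card_congr
  exact
    { toFun := fun p => ⟨p.1.1, fun h => p.2.1 (h.symm.trans p.2.2)⟩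
      invFun := fun x => ⟨(x.1, t • x.1), fun h => x.2 h.symm, rfl⟩
      left_inv := fun p => by
        apply Subtype.ext
        exact Prod.ext rfl p.2.2
      right_inv := fun x => rfl }

/-- If the two-point stabilisers of a finite Zassenhaus group of degree `n + 1` have even order `d`, then `2d ≥ n - 1`. -/
theorem result {G Ω : Type*} [Group G] [Finite G] [MulAction G Ω] [Fintype Ω] (hZ : Cfsg.IsZassenhausGroup G Ω) {a b : Ω} (hab : a ≠ b) (heven : Even (Nat.card ↥(MulAction.stabilizer G a ⊓ MulAction.stabilizer G b))) : Fintype.card Ω - 2 ≤ 2 * Nat.card ↥(MulAction.stabilizer G a ⊓ MulAction.stabilizer G b) := by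
  classical
  obtain ⟨hf, h2, h3, -, -⟩ := hZ
  have hp2 : Fact (Nat.Prime 2) := ⟨Nat.prime_two⟩
  obtain ⟨t0, ht0⟩ := exists_prime_orderOf_dvd_card'
      (G := ↥(MulAction.stabilizer G a ⊓ MulAction.stabilizer G b)) 2 heven.two_dvd
  have ht0' : orderOf (t0 : G) = 2 := by rw [← ht0]; exact Subgroup.orderOf_coe t0
  have ht1 : (t0 : G) ≠ 1 := by
    intro h
    rw [h, orderOf_one] at ht0'
    omega
  have hfix : Nat.card (MulAction.fixedBy Ω (t0 : G)) = 2 := by
    have hle := fixedBy_le_two h3 (t0 : G) ht1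
    have hge : 2 ≤ Nat.card (MulAction.fixedBy Ω (t0 : G)) := by
      rw [Nat.card_eq_fintype_card]
      have : 1 < Fintype.card (MulAction.fixedBy Ω (t0 : G)) :=
        Fintype.one_lt_card_iff.mpr ⟨⟨a, t0.2.1⟩, ⟨b, t0.2.2⟩, fun h => hab (congrArg Subtype.val h)⟩
      omega
    omega
  let T : Set G := {t | orderOf t = 2 ∧ Nat.card (MulAction.fixedBy Ω t) = 2}
  have hT : ∀ g : G, ∀ t ∈ T, g * t * g⁻¹ ∈ T := by
    rintro g t ⟨h4, h5⟩
    exact ⟨by rw [orderOf_conj, h4], by rw [card_fixedBy_conj, h5]⟩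
  have c1 := count_pairs h2 (fun t x y => t • x = x ∧ t • y = y) (by
    rintro g t x y ⟨h4, h5⟩
    simp only [mul_smul, inv_smul_smul, h4, h5, and_self]) T hT 2 (by
    rintro t ⟨_, h5⟩
    rw [card_fixed_pairs, h5]) hab
  have c2 := count_pairs h2 (fun t x y => t • x = y) (by
    intro g t x y h4
    simp only [mul_smul, inv_smul_smul, h4]) T hT (Fintype.card Ω - 2) (by
    rintro t ⟨_, h5⟩
    rw [card_moved_pairs, h5]) hab
  have hN1 : 1 ≤ Nat.card {t : G // t ∈ T ∧ (t • a = a ∧ t • b = b)} := by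
    have : Nonempty {t : G // t ∈ T ∧ (t • a = a ∧ t • b = b)} := ⟨⟨t0, ⟨ht0', hfix⟩, t0.2.1, t0.2.2⟩⟩
    exact Nat.card_pos
  have hN2 : Nat.card {t : G // t ∈ T ∧ t • a = b}
      ≤ Nat.card ↥(MulAction.stabilizer G a ⊓ MulAction.stabilizer G b) := by
    have hinv : ∀ t : G, t ∈ T → t • a = b → t • b = a := by
      rintro t ⟨h4, _⟩ h5
      have : t * t = 1 := by rw [← pow_two, ← h4, pow_orderOf_eq_one]
      rw [← h5, ← mul_smul, this, one_smul]
    rcases isEmpty_or_nonempty {t : G // t ∈ T ∧ t • a = b} with he | ⟨⟨s, hs1, hs2⟩⟩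
    · rw [Nat.card_of_isEmpty]
      exact Nat.zero_le _
    · refine Nat.card_le_card_of_injective
        (fun t : {t : G // t ∈ T ∧ t • a = b} => (⟨(t : G) * s, ?_, ?_⟩ :
          ↥(MulAction.stabilizer G a ⊓ MulAction.stabilizer G b))) ?_
      · change ((t : G) * s) • a = a
        rw [mul_smul, hs2, hinv t t.2.1 t.2.2]
      · change ((t : G) * s) • b = b
        rw [mul_smul, hinv s hs1 hs2, t.2.2]
      · intro t t' h
        have : (t : G) * s = t' * s := congrArg Subtype.val h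
        exact Subtype.ext (mul_right_cancel this)
  have hn : 2 ≤ Fintype.card Ω := by
    have : 1 < Fintype.card Ω := Fintype.one_lt_card_iff.mpr ⟨a, b, hab⟩
    omega
  refine le_trans ?_ (Nat.mul_le_mul_left 2 hN2)
  have hpos : 0 < Fintype.card Ω * (Fintype.card Ω - 1) := Nat.mul_pos (by omega) (by omega)
  apply Nat.le_of_mul_le_mul_left _ hpos
  calc Fintype.card Ω * (Fintype.card Ω - 1) * (Fintype.card Ω - 2)
      ≤ Fintype.card Ω * (Fintype.card Ω - 1) * (Fintype.card Ω - 2)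
        * Nat.card {t : G // t ∈ T ∧ (t • a = a ∧ t • b = b)} := Nat.le_mul_of_pos_right _ hN1
    _ = (Fintype.card Ω * (Fintype.card Ω - 1) * Nat.card {t : G // t ∈ T ∧ (t • a = a ∧ t • b = b)})
        * (Fintype.card Ω - 2) := by ring
    _ = 2 * (Nat.card T * (Fintype.card Ω - 2)) := by rw [← c1]; ring
    _ = Fintype.card Ω * (Fintype.card Ω - 1) * (2 * Nat.card {t : G // t ∈ T ∧ t • a = b}) := by
        rw [c2]; ring

end Cfsg.Agent.S0741
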