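import Cfsg.Agent.EqBase
import Cfsg.Agent.LibZas10
import Cfsg.Agent.S0738
import Cfsg.Agent.S0741
/-!
# Zassenhaus groups XI: the degree (helper16)
-/
set_option autoImplicit false
set_option linter.all false
open Cfsg MulAction
open scoped Pointwise
namespace CfsgLib.Zas

universe u v

namespace Dat
variable {G : Type u} {Ω : Type v} [Group G] [MulAction G Ω] [Finite G] [Fintype Ω] {a b : Ω} {H : Subgroup G} (D : Dat G Ω a b H)
include D

theorem reg_unique : ∀ y z : Ω, y ≠ a → z ≠ a → ∃! u : H, (u : G) • y = z := by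
  intro y z hy hz
  obtain ⟨u, hu, huy⟩ := D.regular hy hz
  refine ⟨⟨u, hu⟩, huy, ?_⟩
  rintro ⟨w, hw⟩ hwy
  have h1 : (w⁻¹ * u) • y = y := by
    rw [mul_smul, inv_smul_eq_iff]
    exact huy.trans (Eq.symm hwy)
  have h2 := D.inj (H.mul_mem (H.inv_mem hw) hu) hy h1
  exact Subtype.ext (inv_mul_eq_one.mp h2)

theorem big_elem (h : Nat.card H - 1 ≤ 2 * Nat.card (EE G a b)) : (∀ x ∈ H, ∀ y ∈ H, x * y = y * x) ∧
    ∃ p f : ℕ, p.Prime ∧ (∀ u ∈ H, u ^ p = 1) ∧ Nat.card H = p ^ f := by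
  have h1 := Cfsg.Agent.S0738.result D.hZ D.hab (by
    rw [← D.hcard]
    show Nat.card H + 1 - 2 ≤ 2 * Nat.card (EE G a b)
    omega) H D.hHa D.tif.fro.normal D.reg_unique
  obtain ⟨h2, p, f, hp, h3, h4⟩ := h1
  refine ⟨fun x hx y hy => congrArg Subtype.val (h2.is_comm.comm (⟨x, hx⟩ : H) ⟨y, hy⟩), p, f, hp, h3, ?_⟩
  rw [← D.hcard] at h4
  omega

/-- dichotomy -/
theorem dich : Nat.card H - 1 ≤ 2 * Nat.card (EE G a b) ∨ (Odd (Nat.card (EE G a b)) ∧ IsPGroup 2 H ∧ (∃ u v : H, u * v ≠ v * u) ∧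
    (commutator H).index ≤ 4 * (Nat.card (EE G a b)) ^ 2 + 1) := by
  rcases Nat.even_or_odd (Nat.card (EE G a b)) with h | h
  · left
    have h1 := Cfsg.Agent.S0741.result D.hZ D.hab h
    rw [← D.hcard] at h1
    have h2 : Nat.card H + 1 - 2 ≤ 2 * Nat.card (EE G a b) := h1
    omega
  · rcases feit_general _ D h rfl with h1 | h1
    · exact Or.inl h1
    · exact Or.inr ⟨h, h1⟩

theorem isPrimePow : IsPrimePow (Nat.card H) := by
  have h2 := D.two_le_H
  rcases D.dich with h | ⟨-, h, -⟩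
  · obtain ⟨-, p, f, hp, -, hf⟩ := D.big_elem h
    rw [hf] at h2 ⊢
    refine hp.isPrimePow.pow ?_
    rintro rfl
    rw [pow_zero] at h2
    omega
  · haveI := Fact.mk Nat.prime_two
    obtain ⟨f, hf⟩ := IsPGroup.iff_card.mp h
    rw [hf] at h2 ⊢
    refine Nat.prime_two.isPrimePow.pow ?_
    rintro rfl
    rw [pow_zero] at h2
    omega

end Dat
end CfsgLib.Zas
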