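import Cfsg.Agent.EqBase
import Cfsg.Agent.LibZas11
/-!
# Zassenhaus groups XII: characters induced from the point stabilizer, general two-point stabilizer (helper16)
-/
set_option autoImplicit false
set_option linter.all false
open Cfsg MulAction CfsgLib.CharBasic CfsgLib.CharIndA CfsgLib.CharNorm CfsgLib.Coh
open scoped Pointwise ComplexConjugate
namespace CfsgLib.Zas

universe u v

namespace Dat
variable {G : Type u} {Ω : Type v} [Group G] [MulAction G Ω] [Finite G] [Fintype Ω] {a b : Ω} {H : Subgroup G} (D : Dat G Ω a b H)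
include D

theorem proj_exists (x : stabilizer G a) : ∃ y : EE G a b, (x : G) * (y : G)⁻¹ ∈ H := by
  obtain ⟨u, hu, y, hy, hxy⟩ := D.decomp (b := b) (show (x : G) • a = a from x.2)
  refine ⟨⟨y, hy⟩, ?_⟩
  rw [hxy]
  show u * y * y⁻¹ ∈ H
  rw [mul_inv_cancel_right]; exact hu

theorem proj_unique {x : G} {y y' : G} (hy : y ∈ EE G a b) (hy' : y' ∈ EE G a b) (h : x * y⁻¹ ∈ H) (h' : x * y'⁻¹ ∈ H) : y = y' := by
  have h1 : y * y'⁻¹ ∈ H ⊓ EE G a b := by
    refine ⟨?_, (EE G a b).mul_mem hy ((EE G a b).inv_mem hy')⟩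
    have : y * y'⁻¹ = (x * y⁻¹)⁻¹ * (x * y'⁻¹) := by group
    rw [this]
    exact H.mul_mem (H.inv_mem h) h'
  rw [D.H_inf_EE, Subgroup.mem_bot] at h1
  exact mul_inv_eq_one.mp h1

/-- the projection of the point stabilizer onto the two-point stabilizer -/
noncomputable def proj : stabilizer G a →* EE G a b where
  toFun x := (D.proj_exists x).choose
  map_one' := by
    apply Subtype.ext
    refine D.proj_unique (x := 1) (D.proj_exists 1).choose.2 (EE G a b).one_mem (D.proj_exists 1).choose_spec ?_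
    simp
  map_mul' := by
    intro x x'
    apply Subtype.ext
    have h1 := (D.proj_exists x).choose_spec
    have h2 := (D.proj_exists x').choose_spec
    refine D.proj_unique (x := x * x') (D.proj_exists (x * x')).choose.2 (mul_mem (D.proj_exists x).choose.2 (D.proj_exists x').choose.2) (D.proj_exists (x * x')).choose_spec ?_
    set y := (D.proj_exists x).choose with hy
    set y' := (D.proj_exists x').choose with hy'
    have h3 : (x : G) * x' * ((y : G) * y')⁻¹ = (x * (y : G)⁻¹) * (y * (x' * (y' : G)⁻¹) * (y : G)⁻¹) := by group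
    show (x : G) * x' * ((y : G) * y')⁻¹ ∈ H
    rw [h3]
    exact H.mul_mem h1 (D.conj_H y.2.1 h2)

theorem proj_spec (x : stabilizer G a) : (x : G) * ((D.proj x : EE G a b) : G)⁻¹ ∈ H := (D.proj_exists x).choose_spec

theorem proj_eq {x : stabilizer G a} {y : EE G a b} (h : (x : G) * (y : G)⁻¹ ∈ H) : D.proj x = y :=
  Subtype.ext (D.proj_unique (x := x) (D.proj x).2 y.2 (D.proj_spec x) h)

theorem proj_coe (y : EE G a b) : D.proj ⟨y, y.2.1⟩ = y := D.proj_eq (by
  show (y : G) * (y : G)⁻¹ ∈ H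
  rw [mul_inv_cancel]; exact H.one_mem)

theorem proj_surj : Function.Surjective D.proj := fun y => ⟨⟨y, y.2.1⟩, D.proj_coe y⟩

theorem proj_H {x : stabilizer G a} (hx : (x : G) ∈ H) : D.proj x = 1 := D.proj_eq (by simpa using hx)

theorem proj_ker {x : stabilizer G a} (hx : D.proj x = 1) : (x : G) ∈ H := by
  have := D.proj_spec x
  rw [hx] at this
  simpa using this

end Dat

/-- conjugation by a swapping element -/
def conjE {G : Type u} {Ω : Type v} [Group G] [MulAction G Ω] [Fintype Ω] {a b : Ω} (s : G) (hs : s • a = b ∧ s • b = a) : EE G a b ≃* EE G a b where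
  toFun y := ⟨s * y * s⁻¹, Dat.conj_EE hs y.2⟩
  invFun y := ⟨s⁻¹ * y * s, by
    have := Dat.conj_EE (Dat.swap_inv hs) y.2
    rwa [inv_inv] at this⟩
  left_inv y := Subtype.ext (by show s⁻¹ * (s * (y : G) * s⁻¹) * s = y; group)
  right_inv y := Subtype.ext (by show s * (s⁻¹ * (y : G) * s) * s⁻¹ = y; group)
  map_mul' y z := Subtype.ext (by show s * ((y : G) * z) * s⁻¹ = (s * y * s⁻¹) * (s * z * s⁻¹); group)

namespace Dat
variable {G : Type u} {Ω : Type v} [Group G] [MulAction G Ω] [Fintype G] [Fintype Ω] {a b : Ω} {H : Subgroup G} (D : Dat G Ω a b H)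
include D

/-- the induced function -/
noncomputable def Ind (lam : EE G a b → ℂ) : G → ℂ := indFun (stabilizer G a) (lam ∘ D.proj)

theorem infl_cl {lam : EE G a b → ℂ} (hl : IsClassFunction (EE G a b) lam) : IsClassFunction (stabilizer G a) (lam ∘ D.proj) := by
  intro g h
  show lam (D.proj (h * g * h⁻¹)) = lam (D.proj g)
  rw [map_mul, map_mul, map_inv]
  exact hl _ _

theorem Ind_one (lam : EE G a b → ℂ) : D.Ind lam 1 = ((Nat.card H : ℂ) + 1) * lam 1 := by
  rw [Ind, CharIndA.ind_one, D.index_stab]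
  show ((Nat.card H + 1 : ℕ) : ℂ) * lam (D.proj 1) = _
  rw [map_one]; push_cast; ring

theorem term_zero {μ : stabilizer G a → ℂ} {k : G} {g : G} (h : g • (k • a) ≠ k • a) : extendByZero (stabilizer G a) μ (k⁻¹ * g * k) = 0 := by
  apply ext_not_mem
  intro h1
  apply h
  have h2 : (k⁻¹ * g * k) • a = a := h1
  rw [mul_smul, mul_smul, inv_smul_eq_iff] at h2
  exact h2

theorem Ind_H {lam : EE G a b → ℂ} (hl : IsClassFunction (EE G a b) lam) {u : G} (hu : u ∈ H) (hu1 : u ≠ 1) : D.Ind lam u = lam 1 := by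
  classical
  haveI := D.pretrans
  have hex : ∀ c : Ω, ∃ k : G, k • a = c := fun c => MulAction.exists_smul_eq G a c
  choose k hk using hex
  rw [Ind, ind_stab a (D.infl_cl hl) k hk, Finset.sum_eq_single a]
  · have h1 : k a ∈ stabilizer G a := hk a
    have h2 : (k a)⁻¹ * (u : G) * k a ∈ H := by
      have := D.conj_H (g := (k a)⁻¹) (inv_smul_eq_iff.mpr h1.symm) hu
      rwa [inv_inv] at this
    rw [ext_mem _ _ (D.hHa h2)]
    show lam (D.proj _) = lam 1
    rw [D.proj_H (by exact h2)]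
  · intro c _ hca
    apply D.term_zero
    rw [hk]
    intro h
    exact hca (D.hfix _ hu hu1 c h)
  · intro h; exact absurd (Finset.mem_univ _) h

theorem Ind_off {lam : EE G a b → ℂ} (hl : IsClassFunction (EE G a b) lam) {s : G} (hs : s • a = b ∧ s • b = a) {g : stabilizer G a} (hg : (g : G) ∉ H) :
    D.Ind lam g = lam (D.proj g) + lam ((conjE s hs).symm (D.proj g)) := by
  classical
  haveI := D.pretrans
  have hex : ∀ c : Ω, ∃ k : G, k • a = c := fun c => MulAction.exists_smul_eq G a c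
  choose k hk using hex
  obtain ⟨c, hca, hgc⟩ := D.exists_fix g.2 hg
  have hg1 : (g : G) ≠ 1 := fun h => hg (by rw [h]; exact H.one_mem)
  have hcl := D.infl_cl hl
  rw [Ind, ind_stab a hcl k hk, ← Finset.sum_subset (Finset.subset_univ {a, c}), Finset.sum_pair (Ne.symm hca)]
  · congr 1
    · have h1 : k a ∈ stabilizer G a := hk a
      have h2 : (k a)⁻¹ * (g : G) * k a ∈ stabilizer G a := mul_mem (mul_mem (inv_mem h1) g.2) h1
      rw [ext_mem _ _ h2]
      have := hcl g (⟨k a, h1⟩ : stabilizer G a)⁻¹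
      rw [inv_inv] at this
      exact this
    · -- move `c` to `b`
      obtain ⟨v, hv, hvb⟩ := D.regular (Ne.symm D.hab) hca
      have hva : v • a = a := D.hHa hv
      have hx : v⁻¹ * (g : G) * v ∈ EE G a b := by
        constructor
        · exact (stabilizer G a).mul_mem ((stabilizer G a).mul_mem ((stabilizer G a).inv_mem (D.hHa hv)) g.2) (D.hHa hv)
        · show (v⁻¹ * (g : G) * v) • b = b
          rw [mul_smul, mul_smul, hvb, hgc, inv_smul_eq_iff, hvb]
      have hpx : D.proj g = ⟨v⁻¹ * (g : G) * v, hx⟩ := by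
        apply D.proj_eq
        show (g : G) * (v⁻¹ * (g : G) * v)⁻¹ ∈ H
        have : (g : G) * (v⁻¹ * (g : G) * v)⁻¹ = ((g : G) * v⁻¹ * (g : G)⁻¹) * v := by group
        rw [this]
        exact H.mul_mem (D.conj_H g.2 (H.inv_mem hv)) hv
      have hγ : (v * s)⁻¹ * k c ∈ stabilizer G a := by
        show ((v * s)⁻¹ * k c) • a = a
        rw [mul_smul, hk, inv_smul_eq_iff, mul_smul, hs.1, hvb]
      have h1 : (k c)⁻¹ * (g : G) * k c = ((v * s)⁻¹ * k c)⁻¹ * (s⁻¹ * (v⁻¹ * (g : G) * v) * s) * ((v * s)⁻¹ * k c) := by group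
      have h2 : s⁻¹ * (v⁻¹ * (g : G) * v) * s ∈ EE G a b := by
        have := Dat.conj_EE (Dat.swap_inv hs) hx
        rwa [inv_inv] at this
      rw [h1]
      have h4 : ((v * s)⁻¹ * k c)⁻¹ * (s⁻¹ * (v⁻¹ * (g : G) * v) * s) * ((v * s)⁻¹ * k c) ∈ stabilizer G a :=
        mul_mem (mul_mem (inv_mem hγ) h2.1) hγ
      rw [ext_mem _ _ h4]
      have h5 := hcl ⟨_, h2.1⟩ (⟨_, hγ⟩ : stabilizer G a)⁻¹
      rw [inv_inv] at h5
      have h6 : (lam ∘ D.proj) ⟨_, h4⟩ = (lam ∘ D.proj) ⟨_, h2.1⟩ := h5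
      rw [h6]
      show lam (D.proj _) = _
      rw [hpx]
      congr 1
      apply D.proj_eq
      show (s⁻¹ * (v⁻¹ * (g : G) * v) * s) * (s⁻¹ * (v⁻¹ * (g : G) * v) * s)⁻¹ ∈ H
      rw [mul_inv_cancel]; exact H.one_mem
  · intro d _ hd
    simp only [Finset.mem_insert, Finset.mem_singleton, not_or] at hd
    apply D.term_zero
    rw [hk]
    intro h
    exact hg1 (three D.hZ (Ne.symm hca) (Ne.symm hd.2) (Ne.symm hd.1) g.2 hgc h)

theorem Ind_char {lam : EE G a b → ℂ} (hl : IsCharacter (EE G a b) lam) : IsCharacter G (D.Ind lam) :=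
  isCharacter_ind _ (isCharacter_comp hl D.proj)

/-- the Mackey formula -/
theorem Ind_inner {lam mu : EE G a b → ℂ} (hl : IsIrrCharacter (EE G a b) lam) (hm : IsIrrCharacter (EE G a b) mu) {s : G} (hs : s • a = b ∧ s • b = a) [Fintype (EE G a b)] :
    classInner (D.Ind lam) (D.Ind mu) = classInner lam mu + classInner lam (mu ∘ (conjE s hs).symm) := by
  classical
  haveI : Fintype (stabilizer G a) := Fintype.ofFinite _
  haveI : Fintype H := Fintype.ofFinite _
  have hmc := irr_classFun hm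
  conv_lhs => rw [Ind]
  rw [CharIndA.frobenius _ _ (char_classFun (D.Ind_char (irr_isCharacter hm)))]
  rw [← CfsgLib.CharMore.ci_comp_surj D.proj D.proj_surj lam mu, ← CfsgLib.CharMore.ci_comp_surj D.proj D.proj_surj lam (mu ∘ (conjE s hs).symm), ← ci_add_r]
  rw [← sub_eq_zero, ← ci_sub_r, classInner]
  obtain ⟨n, -, hn⟩ := irr_one_nat hm
  have h1 : ∀ x : stabilizer G a, (lam ∘ D.proj) x * conj (((fun x : stabilizer G a => D.Ind mu x) - (mu ∘ D.proj + (mu ∘ (conjE s hs).symm) ∘ D.proj)) x) =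
      (if x = 1 then (Nat.card H : ℂ) * lam 1 * n else 0) - (if (x : G) ∈ H then lam 1 * n else 0) := by
    intro x
    rw [Pi.sub_apply, Pi.add_apply]
    simp only [Function.comp_apply]
    by_cases hx : (x : G) ∈ H
    · rw [if_pos hx, D.proj_H hx, map_one, hn]
      by_cases hx1 : x = 1
      · rw [if_pos hx1, hx1]
        have : D.Ind mu ((1 : stabilizer G a) : G) = ((Nat.card H : ℂ) + 1) * n := by
          rw [show ((1 : stabilizer G a) : G) = 1 from rfl, D.Ind_one, hn]
        rw [this]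
        simp only [map_sub, map_add, map_mul, Complex.conj_natCast, map_one]
        ring
      · rw [if_neg hx1, D.Ind_H hmc hx (fun h => hx1 (Subtype.ext h)), hn]
        simp only [map_sub, map_add, Complex.conj_natCast]
        ring
    · have hx1 : x ≠ 1 := fun h => hx (by rw [h]; exact H.one_mem)
      rw [if_neg hx, if_neg hx1, D.Ind_off hmc hs hx]
      simp
  rw [Finset.sum_congr rfl fun x _ => h1 x, Finset.sum_sub_distrib, Finset.sum_ite_eq' Finset.univ (1 : stabilizer G a), if_pos (Finset.mem_univ _),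
    ← Finset.sum_filter, Finset.sum_const]
  have h2 : (Finset.univ.filter fun g : stabilizer G a => (g : G) ∈ H).card = Nat.card H := by
    rw [← Fintype.card_subtype, ← Nat.card_eq_fintype_card]
    apply Nat.card_congr
    exact ⟨fun x => ⟨x.1, x.2⟩, fun x => ⟨⟨x, D.hHa x.2⟩, x.2⟩, fun x => rfl, fun x => rfl⟩
  rw [h2, nsmul_eq_mul]
  ring

end Dat
end CfsgLib.Zas
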