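import Cfsg.Agent.EqBase
import Cfsg.Agent.LibZas12
/-!
# Zassenhaus groups XIII: sharply triply transitive groups of even degree are not simple (helper16)
-/
set_option autoImplicit false
set_option linter.all false
open Cfsg MulAction CfsgLib.CharBasic CfsgLib.CharIndA CfsgLib.CharNorm CfsgLib.Coh
open scoped Pointwise ComplexConjugate
namespace CfsgLib.Zas

universe u v

theorem arith_key {d c x y : ℕ} (hxy : x < y) (hx : 0 < x) (hd : x + y = d) (hdc : d ≤ c) (h : 1 + y * c ∣ (d * c + 2) * (d * c + 1) * c) : False := by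
  have hcop : Nat.Coprime (1 + y * c) c := by
    rw [Nat.coprime_iff_gcd_eq_one]
    have h1 : Nat.gcd (1 + y * c) c ∣ 1 := by
      have h2 : Nat.gcd (1 + y * c) c ∣ 1 + y * c := Nat.gcd_dvd_left _ _
      have h3 : Nat.gcd (1 + y * c) c ∣ y * c := (Nat.gcd_dvd_right _ _).mul_left y
      exact (Nat.dvd_add_left h3).mp h2
    exact Nat.dvd_one.mp h1
  have h1 : 1 + y * c ∣ (d * c + 2) * (d * c + 1) := hcop.dvd_of_dvd_mul_right h
  -- `dc + 2 = D + D'`, `dc + 1 = D' + x c`
  have h2 : (d * c + 2) * (d * c + 1) = (1 + y * c) * ((1 + x * c) + (1 + y * c) + x * c) + (1 + x * c) * x * c := by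
    rw [← hd]; ring
  rw [h2] at h1
  have h3 : 1 + y * c ∣ (1 + x * c) * x * c := (Nat.dvd_add_right (Dvd.intro _ rfl)).mp h1
  have h4 : 1 + y * c ∣ (1 + x * c) * x := hcop.dvd_of_dvd_mul_right h3
  obtain ⟨k, hk⟩ := h4
  have hk0 : 0 < k := by
    rcases Nat.eq_zero_or_pos k with h | h
    · exfalso
      rw [h, mul_zero] at hk
      have : 0 < (1 + x * c) * x := by positivity
      omega
    · exact h
  have hkx : k < x := by
    by_contra hcon
    push Not at hcon
    have h5 : (1 + y * c) * x ≤ (1 + y * c) * k := Nat.mul_le_mul_left _ hcon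
    have h6 : (1 + x * c) * x < (1 + y * c) * x := by
      have hc : 0 < c := by omega
      have : x * c < y * c := Nat.mul_lt_mul_of_pos_right hxy hc
      exact Nat.mul_lt_mul_of_pos_right (by omega) hx
    omega
  -- `x - k` is divisible by `c`
  have h7 : (c : ℤ) ∣ (x : ℤ) - k := by
    refine ⟨(y : ℤ) * k - x * x, ?_⟩
    have h8 : ((1 : ℤ) + x * c) * x = (1 + y * c) * k := by exact_mod_cast hk
    linear_combination h8
  have h9 : (c : ℤ) ≤ (x : ℤ) - k := Int.le_of_dvd (by omega) h7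
  omega

namespace Dat
variable {G : Type u} {Ω : Type v} [Group G] [MulAction G Ω] [Fintype G] [Fintype Ω] {a b : Ω} {H : Subgroup G} (D : Dat G Ω a b H)
include D

/-- the sum over `H` as a sum of multiplicities -/
theorem sum_H_eq [Fintype H] [Fintype (EE G a b)] {χ : G → ℂ} (hχ : IsClassFunction G χ) :
    ∑ u : H, χ u = (Nat.card H : ℂ) * ∑ μ : IrrCharacter (EE G a b), (μ : EE G a b → ℂ) 1 * classInner χ (D.Ind μ) := by
  classical
  haveI : Fintype (stabilizer G a) := Fintype.ofFinite _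
  have h1 : ∀ μ : IrrCharacter (EE G a b), classInner χ (D.Ind μ) = classInner (fun x : stabilizer G a => χ x) ((μ : EE G a b → ℂ) ∘ D.proj) := fun μ => by
    rw [Ind, CharIndA.frobenius' _ _ hχ]
  have h2 : ∑ μ : IrrCharacter (EE G a b), (μ : EE G a b → ℂ) 1 * classInner χ (D.Ind μ) =
      classInner (fun x : stabilizer G a => χ x) (fun x => if (x : G) ∈ H then (Nat.card (EE G a b) : ℂ) else 0) := by
    have h3 : (fun x : stabilizer G a => if (x : G) ∈ H then (Nat.card (EE G a b) : ℂ) else 0) =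
        ∑ μ : IrrCharacter (EE G a b), (μ : EE G a b → ℂ) 1 • ((μ : EE G a b → ℂ) ∘ D.proj) := by
      funext x
      rw [Finset.sum_apply]
      simp only [Pi.smul_apply, Function.comp_apply, smul_eq_mul]
      by_cases hx : (x : G) ∈ H
      · rw [if_pos hx, D.proj_H hx, ← sum_sq_degree]
        exact Finset.sum_congr rfl fun μ _ => by rw [pow_two]
      · rw [if_neg hx, sum_degree_mul _ (fun h => hx (D.proj_ker h))]
    rw [h3, ci_sum_r]
    refine Finset.sum_congr rfl fun μ _ => ?_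
    obtain ⟨n, -, hn⟩ := irr_one_nat μ.2
    rw [ci_smul_r, h1, hn, Complex.conj_natCast]
  rw [h2, classInner]
  have h4 : ∑ x : stabilizer G a, χ x * conj (if (x : G) ∈ H then (Nat.card (EE G a b) : ℂ) else 0) = Nat.card (EE G a b) * ∑ u : H, χ u := by
    have h5 : ∀ x : stabilizer G a, χ x * conj (if (x : G) ∈ H then (Nat.card (EE G a b) : ℂ) else 0) = if (x : G) ∈ H then Nat.card (EE G a b) * χ x else 0 := by
      intro x
      by_cases hx : (x : G) ∈ H
      · rw [if_pos hx, if_pos hx, Complex.conj_natCast]; ring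
      · rw [if_neg hx, if_neg hx]; simp
    rw [Finset.sum_congr rfl fun x _ => h5 x, ← Finset.sum_filter, Finset.mul_sum]
    symm
    refine Finset.sum_bij (fun (u : H) _ => (⟨u, D.hHa u.2⟩ : stabilizer G a)) ?_ ?_ ?_ ?_
    · intro u _; exact Finset.mem_filter.mpr ⟨Finset.mem_univ _, u.2⟩
    · intro u _ w _ h; exact Subtype.ext (congrArg (fun x : stabilizer G a => (x : G)) h)
    · intro x hx; exact ⟨⟨x, (Finset.mem_filter.mp hx).2⟩, Finset.mem_univ _, rfl⟩
    · intro u _; rfl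
  rw [h4]
  have h6 : (Nat.card (stabilizer G a) : ℂ) = Nat.card H * Nat.card (EE G a b) := by
    rw [card_stab D.hZ D.hab, ← D.hcard, Nat.add_sub_cancel]
    push_cast; ring
  rw [h6]
  have h7 : (Nat.card H : ℂ) ≠ 0 := by exact_mod_cast Nat.card_pos.ne'
  have h8 : (Nat.card (EE G a b) : ℂ) ≠ 0 := by exact_mod_cast Nat.card_pos.ne'
  field_simp

omit D in
theorem two_split {Λ : G → ℂ} (hΛ : IsCharacter G Λ) (h2 : classInner Λ Λ = 2) :
    ∃ χ₁ χ₂ : G → ℂ, IsIrrCharacter G χ₁ ∧ IsIrrCharacter G χ₂ ∧ Λ = χ₁ + χ₂ ∧ classInner χ₁ χ₂ = 0 := by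
  have h0 : Λ ≠ 0 := by
    rintro rfl
    rw [ci_zero_l] at h2
    norm_num at h2
  obtain ⟨χ₁, hχ₁, hne⟩ := CfsgLib.CharMore.exists_constituent hΛ h0
  obtain ⟨χ₂, hχ₂, heq⟩ := CfsgLib.CharMore.split_off hΛ hχ₁ hne
  obtain ⟨k, hk⟩ := char_mult hχ₂ (irr_isCharacter hχ₁)
  have hk' : classInner χ₁ χ₂ = k := by rw [← ci_conj, hk, Complex.conj_natCast]
  have h3 : classInner χ₂ χ₂ = 1 - 2 * k := by
    rw [heq, ci_add_l, ci_add_r, ci_add_r, irr_inner_self hχ₁, hk, hk'] at h2
    linear_combination h2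
  have h4 := (CfsgLib.Coh.self_real χ₂).2
  rw [h3] at h4
  have h5 : ((1 : ℂ) - 2 * k).re = 1 - 2 * (k : ℝ) := by simp
  rw [h5] at h4
  have hk0 : k = 0 := by
    by_contra h
    have : (1 : ℝ) ≤ k := by exact_mod_cast Nat.pos_of_ne_zero h
    linarith
  rw [hk0, Nat.cast_zero] at h3 hk'
  exact ⟨χ₁, χ₂, hχ₁, irr_iff_norm_one.mpr ⟨hχ₂, by rw [h3]; ring⟩, heq, hk'⟩

/-- data on the constituents of an induced character -/
theorem constituent [Fintype (EE G a b)] (he : Nat.card (EE G a b) + 1 = Nat.card H) {s : G} (hs : s • a = b ∧ s • b = a) {lam : EE G a b → ℂ} (hl : IsIrrCharacter (EE G a b) lam)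
    (hinv : lam ∘ (conjE s hs).symm = lam) {χ ψ : G → ℂ} (hχ : IsIrrCharacter G χ) (hψ : IsIrrCharacter G ψ) (hsum : D.Ind lam = χ + ψ) (h0 : classInner χ ψ = 0)
    {d : ℕ} (hd : lam 1 = d) : ∃ β : ℕ, χ 1 = d + Nat.card (EE G a b) * β ∧ (β = 0 → ∀ u ∈ H, χ u = χ 1) ∧ classInner χ (D.Ind lam) = 1 := by
  classical
  haveI : Fintype H := Fintype.ofFinite _
  haveI : Fintype (stabilizer G a) := Fintype.ofFinite _
  have hcl := irr_classFun hχ
  have h1 : classInner χ (D.Ind lam) = 1 := by rw [hsum, ci_add_r, irr_inner_self hχ, h0, add_zero]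
  -- other multiplicities vanish
  have h2 : ∀ μ : IrrCharacter (EE G a b), (μ : EE G a b → ℂ) ≠ lam → classInner χ (D.Ind μ) = 0 := by
    intro μ hμ
    have h3 : classInner (D.Ind lam) (D.Ind μ) = 0 := by
      rw [D.Ind_inner hl μ.2 hs, irr_inner_ne hl μ.2 (Ne.symm hμ), zero_add]
      apply irr_inner_ne hl ((CfsgLib.Clifford.isIrr_comp_equiv _).mpr μ.2)
      intro h
      apply hμ
      funext y
      have h4 := congrFun h ((conjE s hs) y)
      have h5 := congrFun hinv ((conjE s hs) y)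
      simp only [Function.comp_apply, MulEquiv.symm_apply_apply] at h4 h5
      rw [← h4, ← h5]
    have hM := D.Ind_char (irr_isCharacter μ.2)
    obtain ⟨m, hm⟩ := char_mult hM (irr_isCharacter hχ)
    obtain ⟨k, hk⟩ := char_mult hM (irr_isCharacter hψ)
    have h6 : classInner χ (D.Ind μ) = m := by rw [← ci_conj, hm, Complex.conj_natCast]
    have h7 : classInner ψ (D.Ind μ) = k := by rw [← ci_conj, hk, Complex.conj_natCast]
    rw [hsum, ci_add_l, h6, h7] at h3
    have h8 : m + k = 0 := by exact_mod_cast h3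
    have h9 : m = 0 := by omega
    rw [h6, h9, Nat.cast_zero]
  have hsumH := D.sum_H_eq hcl
  rw [Finset.sum_eq_single (⟨lam, hl⟩ : IrrCharacter (EE G a b)) (fun μ _ hμ => by
    rw [h2 μ (fun h => hμ (Subtype.ext h)), mul_zero]) (fun h => absurd (Finset.mem_univ _) h)] at hsumH
  have h3 : ∑ u : H, χ u = (Nat.card H : ℂ) * d := by
    rw [hsumH]
    show (Nat.card H : ℂ) * (lam 1 * classInner χ (D.Ind lam)) = _
    rw [h1, hd, mul_one]
  -- constancy
  obtain ⟨v, hv, hv1⟩ := (Subgroup.bot_or_exists_ne_one H).resolve_left D.H_ne_bot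
  have hconst : ∀ x ∈ H, x ≠ 1 → χ x = χ v := by
    intro x hx hx1
    obtain ⟨g, hg⟩ := D.tif.fro.conj_all (by rw [D.tif.card_eq, D.index_eq, he]) ⟨v, D.hHa hv⟩ hv (fun h => hv1 (congrArg Subtype.val h))
      ⟨x, D.hHa hx⟩ hx (fun h => hx1 (congrArg Subtype.val h))
    have h4 : (g : G) * v * (g : G)⁻¹ = x := congrArg Subtype.val hg
    rw [← h4]
    exact hcl v g
  have h4 : χ 1 + (Nat.card (EE G a b) : ℂ) * χ v = (Nat.card H : ℂ) * d := by
    rw [← h3, ← Finset.add_sum_erase _ _ (Finset.mem_univ (1 : H)), Finset.sum_congr rfl (fun (x : H) hx => hconst x x.2 (fun h => (Finset.ne_of_mem_erase hx) (Subtype.ext h))),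
      Finset.sum_const, Finset.card_erase_of_mem (Finset.mem_univ _), Finset.card_univ, ← Nat.card_eq_fintype_card, nsmul_eq_mul, ← he, Nat.add_sub_cancel]
    rfl
  obtain ⟨n, hn0, hn⟩ := irr_one_nat hχ
  have hdn : d ≤ n := by
    have h5 : classInner (fun x : stabilizer G a => χ x) (lam ∘ D.proj) ≠ 0 := by
      rw [← CharIndA.frobenius' _ _ hcl]
      have : classInner χ (indFun (stabilizer G a) (lam ∘ D.proj)) = 1 := h1
      rw [this]; exact one_ne_zero
    refine CfsgLib.CharMore.degree_le_of_mult (isCharacter_restrict (irr_isCharacter hχ) _) (isIrrCharacter_comp_surj hl D.proj D.proj_surj) h5 ?_ hn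
    show lam (D.proj 1) = d
    rw [map_one, hd]
  have he0 : (Nat.card (EE G a b) : ℂ) ≠ 0 := by exact_mod_cast Nat.card_pos.ne'
  have hheq : (Nat.card H : ℂ) = Nat.card (EE G a b) + 1 := by rw [← he]; push_cast; ring
  have h5 : (d : ℂ) - χ v = ((((n : ℚ) - d) / (Nat.card (EE G a b) : ℚ) : ℚ) : ℂ) := by
    push_cast
    rw [eq_div_iff he0]
    rw [hn, hheq] at h4
    linear_combination -h4
  have h6 : IsIntegral ℤ ((d : ℂ) - χ v) := IsIntegral.sub (by
    have : (d : ℂ) = algebraMap ℤ ℂ d := by simp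
    rw [this]; exact isIntegral_algebraMap) (char_isIntegral (irr_isCharacter hχ) v)
  rw [h5] at h6
  obtain ⟨z, hz⟩ := CfsgLib.CharInt2.rat_isIntegral h6
  have hz0 : 0 ≤ z := by
    have : (0 : ℚ) ≤ (z : ℚ) := by
      rw [hz]
      apply div_nonneg
      · have : (d : ℚ) ≤ n := by exact_mod_cast hdn
        linarith
      · positivity
    exact_mod_cast this
  obtain ⟨β, hβ⟩ := Int.eq_ofNat_of_zero_le hz0
  have h7 : (d : ℂ) - χ v = β := by rw [h5, ← hz, hβ]; push_cast; rfl
  refine ⟨β, ?_, ?_, h1⟩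
  · rw [hheq] at h4
    linear_combination h4 + (Nat.card (EE G a b) : ℂ) * h7
  · rintro rfl u hu
    have h8 : χ v = d := by rw [Nat.cast_zero] at h7; linear_combination -h7
    have h9 : χ 1 = d := by rw [hheq, h8] at h4; linear_combination h4
    by_cases hu1 : u = 1
    · rw [hu1]
    · rw [hconst u hu hu1, h8, h9]

/-- a Zassenhaus group with `e = h - 1` even is not simple -/
theorem not_simple_of_sharp (he : Nat.card (EE G a b) + 1 = Nat.card H) (hev : Even (Nat.card (EE G a b))) (hS : IsSimpleGroup G) : False := by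
  classical
  haveI : Fintype (EE G a b) := Fintype.ofFinite _
  haveI : Fintype (stabilizer G a) := Fintype.ofFinite _
  obtain ⟨s, hs⟩ := two_trans D.hZ D.hab D.hab.symm
  have hdeg : ∀ μ : IrrCharacter (EE G a b), ∃ n : ℕ, 0 < n ∧ (μ : EE G a b → ℂ) 1 = n := fun μ => irr_one_nat μ.2
  choose n hn0 hn using hdeg
  have hsq : ∑ μ : IrrCharacter (EE G a b), n μ ^ 2 = Nat.card (EE G a b) := by
    have h1 := sum_sq_degree (G := EE G a b)
    rw [Finset.sum_congr rfl fun μ _ => by rw [hn μ]] at h1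
    exact_mod_cast h1
  -- the action
  let τ : IrrCharacter (EE G a b) → IrrCharacter (EE G a b) := fun μ => ⟨(μ : EE G a b → ℂ) ∘ (conjE s hs).symm, (CfsgLib.Clifford.isIrr_comp_equiv _).mpr μ.2⟩
  have hττ : ∀ μ, τ (τ μ) = μ := by
    intro μ
    apply Subtype.ext
    funext y
    show (μ : EE G a b → ℂ) ((conjE s hs).symm ((conjE s hs).symm y)) = (μ : EE G a b → ℂ) y
    have h1 : s⁻¹ * s⁻¹ ∈ EE G a b := swap_mul (swap_inv hs) (swap_inv hs)
    have h2 : (conjE s hs).symm ((conjE s hs).symm y) = ⟨s⁻¹ * s⁻¹, h1⟩ * y * ⟨s⁻¹ * s⁻¹, h1⟩⁻¹ := by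
      apply Subtype.ext
      show s⁻¹ * (s⁻¹ * (y : G) * s) * s = (s⁻¹ * s⁻¹) * y * (s⁻¹ * s⁻¹)⁻¹
      rw [mul_inv_rev, inv_inv]
      simp only [mul_assoc]
    rw [h2]
    exact irr_classFun μ.2 _ _
  have hτn : ∀ μ, n (τ μ) = n μ := by
    intro μ
    have h1 := hn (τ μ)
    have h2 : ((τ μ : IrrCharacter (EE G a b)) : EE G a b → ℂ) 1 = (μ : EE G a b → ℂ) 1 := by
      show (μ : EE G a b → ℂ) ((conjE s hs).symm 1) = _
      rw [map_one]
    rw [h2, hn μ] at h1
    exact_mod_cast h1.symm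
  let α := {μ : IrrCharacter (EE G a b) // Odd (n μ)}
  have hα : 2 ∣ Fintype.card α := by
    have h1 : Fintype.card α = ∑ μ : IrrCharacter (EE G a b), (if Odd (n μ) then 1 else 0) := by
      rw [Fintype.card_subtype, Finset.card_filter]
    rw [h1]
    have h2 : (∑ μ : IrrCharacter (EE G a b), (if Odd (n μ) then 1 else 0)) ≡ ∑ μ : IrrCharacter (EE G a b), n μ ^ 2 [MOD 2] := by
      rw [← ZMod.natCast_eq_natCast_iff]
      push_cast
      refine Finset.sum_congr rfl fun μ _ => ?_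
      by_cases h : Odd (n μ)
      · rw [if_pos h]
        have : ((n μ : ℕ) : ZMod 2) = 1 := by
          obtain ⟨k, hk⟩ := h
          rw [hk]; push_cast
          have h2 : (2 : ZMod 2) = 0 := by decide
          rw [h2]; ring
        rw [this]; norm_num
      · rw [if_neg h]
        rw [Nat.not_odd_iff_even] at h
        have : ((n μ : ℕ) : ZMod 2) = 0 := by
          obtain ⟨k, hk⟩ := h
          rw [hk]; push_cast
          have h2 : (2 : ZMod 2) = 0 := by decide
          linear_combination (k : ZMod 2) * h2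
        rw [this]; norm_num
    rw [hsq] at h2
    exact (Nat.ModEq.dvd_iff h2 dvd_rfl).mpr hev.two_dvd
  have hone : n ⟨_, isIrrCharacter_one⟩ = 1 := by
    have h1 := hn (⟨_, isIrrCharacter_one⟩ : IrrCharacter (EE G a b))
    have h2 : (1 : ℂ) = n ⟨_, isIrrCharacter_one⟩ := h1
    exact_mod_cast h2.symm
  let σ : Equiv.Perm α :=
    { toFun := fun μ => ⟨τ μ.1, by rw [hτn]; exact μ.2⟩
      invFun := fun μ => ⟨τ μ.1, by rw [hτn]; exact μ.2⟩
      left_inv := fun μ => Subtype.ext (hττ μ.1)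
      right_inv := fun μ => Subtype.ext (hττ μ.1) }
  have hσ : σ ^ 2 ^ 1 = 1 := by
    ext1 μ
    rw [pow_one, pow_two]
    exact Subtype.ext (hττ μ.1)
  let oneα : α := ⟨⟨_, isIrrCharacter_one⟩, by rw [hone]; exact odd_one⟩
  haveI := Fact.mk Nat.prime_two
  obtain ⟨⟨lam, hodd⟩, hfix, hne⟩ := Equiv.Perm.exists_fixed_point_of_prime' hα hσ (a := oneα) (by
    apply Subtype.ext; apply Subtype.ext; rfl)
  have hinv : (lam : EE G a b → ℂ) ∘ (conjE s hs).symm = lam := congrArg Subtype.val (congrArg Subtype.val hfix)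
  have hlne : (lam : EE G a b → ℂ) ≠ fun _ => 1 := fun h => hne (Subtype.ext (Subtype.ext h))
  set d := n lam with hd
  have hdl := hn lam
  have h2 : classInner (D.Ind lam) (D.Ind lam) = 2 := by
    rw [D.Ind_inner lam.2 lam.2 hs, hinv, irr_inner_self lam.2]; norm_num
  obtain ⟨χ₁, χ₂, h3, h4, h5, h6⟩ := two_split (D.Ind_char (irr_isCharacter lam.2)) h2
  obtain ⟨β₁, b1, b2, b3⟩ := D.constituent he hs lam.2 hinv h3 h4 h5 h6 hdl
  obtain ⟨β₂, b1', b2', b3'⟩ := D.constituent he hs lam.2 hinv h4 h3 (by rw [h5, add_comm]) (ci_zero_comm h6) hdl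
  have he0 : (Nat.card (EE G a b) : ℂ) ≠ 0 := by exact_mod_cast Nat.card_pos.ne'
  have hsum : β₁ + β₂ = d := by
    have h7 := D.Ind_one lam
    rw [h5, Pi.add_apply, b1, b1', hdl, ← he] at h7
    push_cast at h7
    have h8 : (Nat.card (EE G a b) : ℂ) * ((β₁ : ℂ) + β₂ - d) = 0 := by linear_combination h7
    have h9 := (mul_eq_zero.mp h8).resolve_left he0
    have h10 : ((β₁ + β₂ : ℕ) : ℂ) = d := by push_cast; linear_combination h9
    exact_mod_cast h10
  -- a character with `β = 0` is trivial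
  have hzero : ∀ χ : G → ℂ, IsIrrCharacter G χ → (∀ u ∈ H, χ u = χ 1) → classInner χ (D.Ind lam) = 1 → False := by
    intro χ hχ hH h1
    obtain ⟨K, hK, hKm⟩ := exists_kernel (irr_isCharacter hχ)
    have h7 : K = ⊤ := by
      rcases hS.eq_bot_or_eq_top_of_normal K hK with h | h
      · exfalso
        apply D.H_ne_bot
        rw [eq_bot_iff, ← h]
        intro u hu
        rw [hKm]; exact hH u hu
      · exact h
    have h8 : ∀ g, χ g = χ 1 := fun g => (hKm g).mp (by rw [h7]; trivial)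
    have h9 : χ = fun _ => 1 := by
      by_contra hne1
      have h10 := irr_inner_ne hχ isIrrCharacter_one hne1
      rw [inner_one_right, Finset.sum_congr rfl fun g _ => h8 g, Finset.sum_const, Finset.card_univ, ← Nat.card_eq_fintype_card, nsmul_eq_mul,
        inv_mul_cancel_left₀ (by exact_mod_cast Nat.card_pos.ne')] at h10
      exact irr_one_ne_zero hχ h10
    apply hlne
    by_contra hne2
    have h10 : classInner (fun _ => 1 : stabilizer G a → ℂ) ((lam : EE G a b → ℂ) ∘ D.proj) = 1 := by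
      have h11 := h1
      rw [Ind, CharIndA.frobenius' _ _ (irr_classFun hχ), h9] at h11
      exact h11
    rw [irr_inner_ne isIrrCharacter_one (isIrrCharacter_comp_surj lam.2 D.proj D.proj_surj) (fun h => hne2 (by
      funext y
      obtain ⟨x, hx⟩ := D.proj_surj y
      rw [← hx]
      exact (congrFun h x).symm))] at h10
    exact zero_ne_one h10
  have hβ1 : β₁ ≠ 0 := fun h => hzero χ₁ h3 (b2 h) b3
  have hβ2 : β₂ ≠ 0 := fun h => hzero χ₂ h4 (b2' h) b3'
  -- divisibility
  have hde : d ∣ Nat.card (EE G a b) := by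
    have h7 := CfsgLib.CharInt2.charDegree_dvd_card lam.2
    have h8 := CfsgLib.CharInt.irr_one_eq_charDegree lam.2
    rw [hdl] at h8
    have h9 : d = charDegree (lam : EE G a b → ℂ) := by exact_mod_cast h8
    rw [h9]; exact h7
  obtain ⟨c, hc⟩ := hde
  have hdpos : 0 < d := hn0 lam
  have hdc : d ≤ c := by
    have h7 : d ^ 2 ≤ Nat.card (EE G a b) := by
      rw [← hsq]
      exact Finset.single_le_sum (f := fun μ => n μ ^ 2) (fun μ _ => Nat.zero_le _) (Finset.mem_univ lam)
    rw [hc, pow_two] at h7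
    exact Nat.le_of_mul_le_mul_left h7 hdpos
  have hcardG : Nat.card G = (d * c + 2) * ((d * c + 1) * (d * c)) := by
    rw [D.card_G, ← D.hcard, ← he, hc]
  have hdiv : ∀ (χ : G → ℂ) (β : ℕ), IsIrrCharacter G χ → χ 1 = d + Nat.card (EE G a b) * β → 1 + β * c ∣ (d * c + 2) * (d * c + 1) * c := by
    intro χ β hχ h1
    have h7 := CfsgLib.CharInt2.charDegree_dvd_card hχ
    have h8 := CfsgLib.CharInt.irr_one_eq_charDegree hχ
    have h9 : charDegree χ = d * (1 + β * c) := by
      have h10 : (charDegree χ : ℂ) = ((d * (1 + β * c) : ℕ) : ℂ) := by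
        rw [← h8, h1, hc]; push_cast; ring
      exact_mod_cast h10
    rw [h9, hcardG] at h7
    have h11 : d * (1 + β * c) ∣ d * ((d * c + 2) * (d * c + 1) * c) := by
      have : (d * c + 2) * ((d * c + 1) * (d * c)) = d * ((d * c + 2) * (d * c + 1) * c) := by ring
      rwa [this] at h7
    exact Nat.dvd_of_mul_dvd_mul_left hdpos h11
  rcases lt_trichotomy β₁ β₂ with h | h | h
  · exact arith_key h (Nat.pos_of_ne_zero hβ1) hsum hdc (hdiv χ₂ β₂ h4 b1')
  · rw [← h] at hsum
    obtain ⟨k, hk⟩ := hodd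
    omega
  · exact arith_key h (Nat.pos_of_ne_zero hβ2) (by rw [add_comm]; exact hsum) hdc (hdiv χ₁ β₁ h3 b1)

end Dat
end CfsgLib.Zas
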