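import Cfsg.Agent.EqBase
import Cfsg.Agent.LibZas13
import Cfsg.Agent.LibZG1
/-!
# Zassenhaus groups XIV: the two-point stabilizer is cyclic (helper16)
-/
set_option autoImplicit false
set_option linter.all false
open Cfsg MulAction
open scoped Pointwise
namespace CfsgLib.Zas

universe u v

namespace Dat
variable {G : Type u} {Ω : Type v} [Group G] [MulAction G Ω] [Finite G] [Fintype Ω] {a b : Ω} {H : Subgroup G} (D : Dat G Ω a b H)
include D

theorem card_swapping : Nat.card {x : G // x • a = b ∧ x • b = a} = Nat.card (EE G a b) := by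
  obtain ⟨s, hs⟩ := two_trans D.hZ D.hab D.hab.symm
  apply Nat.card_congr
  refine ⟨fun x => ⟨(x : G) * s, swap_mul x.2 hs⟩, fun y => ⟨(y : G) * s⁻¹, ?_, ?_⟩, fun x => ?_, fun y => ?_⟩
  · rw [mul_smul, (swap_inv hs).1]; exact y.2.2
  · rw [mul_smul, (swap_inv hs).2]; exact y.2.1
  · apply Subtype.ext; show (x : G) * s * s⁻¹ = x; group
  · apply Subtype.ext; show (y : G) * s⁻¹ * s = y; group

/-- when `2 e = h - 1` is even, all swapping elements are involutions with two fixed points -/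
theorem half (hev : Even (Nat.card (EE G a b))) (h2 : 2 * Nat.card (EE G a b) + 1 = Nat.card H) :
    ∀ s : G, (s • a = b ∧ s • b = a) → orderOf s = 2 ∧ Nat.card (fixedBy Ω s) = 2 := by
  classical
  have hZ := D.hZ
  have hab := D.hab
  have hΩ := D.hcard
  obtain ⟨hf, h2t, h3, -, -⟩ := hZ
  have hp2 : Fact (Nat.Prime 2) := ⟨Nat.prime_two⟩
  obtain ⟨t0, ht0⟩ := exists_prime_orderOf_dvd_card' (G := EE G a b) 2 hev.two_dvd
  have ht0' : orderOf (t0 : G) = 2 := by rw [← ht0]; exact Subgroup.orderOf_coe t0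
  have ht1 : (t0 : G) ≠ 1 := by
    intro h
    rw [h, orderOf_one] at ht0'
    omega
  have hfix : Nat.card (MulAction.fixedBy Ω (t0 : G)) = 2 := by
    have hle := Cfsg.Agent.LibZG1.fixedBy_le_two h3 (t0 : G) ht1
    have hge : 2 ≤ Nat.card (MulAction.fixedBy Ω (t0 : G)) := by
      rw [Nat.card_eq_fintype_card]
      have : 1 < Fintype.card (MulAction.fixedBy Ω (t0 : G)) :=
        Fintype.one_lt_card_iff.mpr ⟨⟨a, t0.2.1⟩, ⟨b, t0.2.2⟩, fun h => hab (congrArg Subtype.val h)⟩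
      omega
    omega
  let T : Set G := {t | orderOf t = 2 ∧ Nat.card (MulAction.fixedBy Ω t) = 2}
  have hT : ∀ g : G, ∀ t ∈ T, g * t * g⁻¹ ∈ T := by
    rintro g t ⟨h4, h5⟩
    exact ⟨by rw [Cfsg.Agent.LibZG1.orderOf_conj, h4], by rw [Cfsg.Agent.LibZG1.card_fixedBy_conj, h5]⟩
  have c1 := Cfsg.Agent.LibZG1.count_pairs h2t (fun t x y => t • x = x ∧ t • y = y) (by
    rintro g t x y ⟨h4, h5⟩
    simp only [mul_smul, inv_smul_smul, h4, h5, and_self]) T hT 2 (by
    rintro t ⟨_, h5⟩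
    rw [Cfsg.Agent.LibZG1.card_fixed_pairs, h5]) hab
  have c2 := Cfsg.Agent.LibZG1.count_pairs h2t (fun t x y => t • x = y) (by
    intro g t x y h4
    simp only [mul_smul, inv_smul_smul, h4]) T hT (Fintype.card Ω - 2) (by
    rintro t ⟨_, h5⟩
    rw [Cfsg.Agent.S0741.card_moved_pairs, h5]) hab
  set k := Nat.card {t : G // t ∈ T ∧ (t • a = a ∧ t • b = b)} with hk
  set m := Nat.card {t : G // t ∈ T ∧ t • a = b} with hm
  have hk1 : 1 ≤ k := by
    have : Nonempty {t : G // t ∈ T ∧ (t • a = a ∧ t • b = b)} := ⟨⟨t0, ⟨ht0', hfix⟩, t0.2.1, t0.2.2⟩⟩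
    exact Nat.card_pos
  have hinv : ∀ t : G, t ∈ T → t • a = b → t • b = a := by
    rintro t ⟨h4, _⟩ h5
    have : t * t = 1 := by rw [← pow_two, ← h4, pow_orderOf_eq_one]
    rw [← h5, ← mul_smul, this, one_smul]
  let f : {t : G // t ∈ T ∧ t • a = b} → {x : G // x • a = b ∧ x • b = a} := fun t => ⟨t.1, t.2.2, hinv t t.2.1 t.2.2⟩
  have hfi : Function.Injective f := fun t t' h => Subtype.ext (congrArg (fun x : {x : G // x • a = b ∧ x • b = a} => (x : G)) h)
  have hme : m ≤ Nat.card (EE G a b) := by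
    rw [← D.card_swapping]
    exact Nat.card_le_card_of_injective f hfi
  have hE0 : 0 < Nat.card (EE G a b) := Nat.card_pos
  have hcΩ : Fintype.card Ω = 2 * Nat.card (EE G a b) + 2 := by omega
  rw [hcΩ] at c1 c2
  set e := Nat.card (EE G a b) with he
  have h5 : 2 * m = 2 * e * k := by
    have hpos : 0 < (2 * e + 2) * (2 * e + 2 - 1) := Nat.mul_pos (by omega) (by omega)
    apply Nat.eq_of_mul_eq_mul_left hpos
    calc (2 * e + 2) * (2 * e + 2 - 1) * (2 * m) = 2 * ((2 * e + 2) * (2 * e + 2 - 1) * m) := by ring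
      _ = 2 * (Nat.card T * (2 * e + 2 - 2)) := by rw [← c2]
      _ = (Nat.card T * 2) * (2 * e) := by rw [show 2 * e + 2 - 2 = 2 * e by omega]; ring
      _ = ((2 * e + 2) * (2 * e + 2 - 1) * k) * (2 * e) := by rw [c1]
      _ = _ := by ring
  have h6 : m = e := by
    have : m = e * k := by nlinarith
    nlinarith
  have hbij : Function.Bijective f := (Nat.bijective_iff_injective_and_card f).mpr ⟨hfi, by rw [D.card_swapping]; exact h6⟩
  intro s hs
  obtain ⟨⟨t, ht, ht'⟩, hts⟩ := hbij.2 ⟨s, hs⟩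
  have h7 : t = s := congrArg (fun x : {x : G // x • a = b ∧ x • b = a} => (x : G)) hts
  rw [← h7]
  exact ht

omit [Finite G] D in
theorem inv_of_all (h : ∀ s : G, (s • a = b ∧ s • b = a) → s * s = 1) {s : G} (hs : s • a = b ∧ s • b = a) : ∀ x ∈ EE G a b, s * x * s⁻¹ = x⁻¹ := by
  intro x hx
  have h1 : (s * x) • a = b ∧ (s * x) • b = a := by
    constructor
    · rw [mul_smul]
      have : x • a = a := hx.1
      rw [this, hs.1]
    · rw [mul_smul]
      have : x • b = b := hx.2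
      rw [this, hs.2]
  have h2 := h _ h1
  have h3 := h s hs
  have h4 : s⁻¹ = s := inv_eq_of_mul_eq_one_left h3
  rw [h4]
  apply eq_inv_of_mul_eq_one_left
  calc s * x * s * x = (s * x) * (s * x) := by group
    _ = 1 := h2

omit [Finite G] D in
theorem comm_of_inv {s : G} (h : ∀ x ∈ EE G a b, s * x * s⁻¹ = x⁻¹) : ∀ x ∈ EE G a b, ∀ y ∈ EE G a b, x * y = y * x := by
  intro x hx y hy
  have h1 := h _ ((EE G a b).mul_mem hx hy)
  have h2 : s * (x * y) * s⁻¹ = (s * x * s⁻¹) * (s * y * s⁻¹) := by group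
  rw [h2, h x hx, h y hy] at h1
  have h3 : (y * x)⁻¹ = (x * y)⁻¹ := by rw [mul_inv_rev]; exact h1
  exact (inv_injective h3).symm

theorem cyclic_of_inv {s : G} (h : ∀ x ∈ EE G a b, s * x * s⁻¹ = x⁻¹) : IsCyclic (EE G a b) :=
  D.EE_fpf.isCyclic_of_comm D.EE_norm D.H_ne_bot ⟨⟨fun x y => Subtype.ext (comm_of_inv h x x.2 y y.2)⟩⟩

/-- S0345 -/
theorem cyclic_of_simple (hS : IsSimpleGroup G) : IsCyclic (EE G a b) ∧ ∃ s : G, orderOf s = 2 ∧ (s • a = b ∧ s • b = a) ∧ ∀ x ∈ EE G a b, s * x * s⁻¹ = x⁻¹ := by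
  classical
  haveI := Fintype.ofFinite G
  rcases Nat.even_or_odd (Nat.card (EE G a b)) with hev | hodd
  · -- even order
    have h1 := Cfsg.Agent.S0741.result D.hZ D.hab hev
    rw [← D.hcard] at h1
    have h2 : Nat.card H + 1 - 2 ≤ 2 * Nat.card (EE G a b) := h1
    obtain ⟨k, hk⟩ := D.card_EE_dvd
    have h3 := D.EE_lt
    have h4 := D.two_le_EE
    have hk' : k = 1 ∨ k = 2 := by
      have h5 : Nat.card (EE G a b) * k ≤ 2 * Nat.card (EE G a b) := by omega
      have h6 : k ≤ 2 := by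
        by_contra h
        push Not at h
        have : Nat.card (EE G a b) * 3 ≤ Nat.card (EE G a b) * k := Nat.mul_le_mul_left _ h
        omega
      have h7 : k ≠ 0 := by
        rintro rfl
        omega
      omega
    rcases hk' with rfl | rfl
    · exact absurd hS (fun hS => D.not_simple_of_sharp (by omega) hev hS)
    · have h5 := D.half hev (by omega)
      have h6 : ∀ s : G, (s • a = b ∧ s • b = a) → s * s = 1 := fun s hs => by rw [← pow_two, ← (h5 s hs).1, pow_orderOf_eq_one]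
      obtain ⟨s, hs⟩ := two_trans D.hZ D.hab D.hab.symm
      exact ⟨D.cyclic_of_inv (inv_of_all h6 hs), s, (h5 s hs).1, hs, inv_of_all h6 hs⟩
  · have D' := D.toO hS hodd
    obtain ⟨s, hs⟩ := two_trans D.hZ D.hab D.hab.symm
    exact ⟨D'.hcyc, s, D'.swap_order hs, hs, D'.hinv s hs⟩

end Dat
end CfsgLib.Zas
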