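import Cfsg.Statements.S0740
import Mathlib
import Cfsg.Agent.LibZG1
-- import your own Cfsg.Agent.* helpers here

set_option autoImplicit false
open Cfsg

namespace Cfsg.Agent.S0740

open MulAction Cfsg.Agent.LibZG1

theorem exists_moved {G Ω : Type*} [Group G] [MulAction G Ω] (hf : FaithfulSMul G Ω) (t : G)
    (ht : t ≠ 1) : ∃ x : Ω, t • x ≠ x := by
  by_contra hcon
  push Not at hcon
  exact ht (hf.eq_of_smul_eq_smul (fun x => by rw [hcon x, one_smul]))

/-- In a finite Zassenhaus group any two points `a ≠ b` are swapped by an involution; every such involution has exactly one fixed point when the degree is odd and 0 or 2 fixed points when the degree is even; and if the two-point stabiliser has even order, some such involution has exactly 2 fixed points. -/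
theorem result {G Ω : Type*} [Group G] [Finite G] [MulAction G Ω] [Fintype Ω] (hZ : Cfsg.IsZassenhausGroup G Ω) {a b : Ω} (hab : a ≠ b) : (∃ s : G, orderOf s = 2 ∧ s • a = b ∧ s • b = a) ∧ (∀ s : G, orderOf s = 2 → s • a = b → s • b = a → (Odd (Fintype.card Ω) → Nat.card (MulAction.fixedBy Ω s) = 1) ∧ (Even (Fintype.card Ω) → Nat.card (MulAction.fixedBy Ω s) = 0 ∨ Nat.card (MulAction.fixedBy Ω s) = 2)) ∧ (Even (Fintype.card Ω) → Even (Nat.card ↥(MulAction.stabilizer G a ⊓ MulAction.stabilizer G b)) → ∃ s : G, orderOf s = 2 ∧ s • a = b ∧ s • b = a ∧ Nat.card (MulAction.fixedBy Ω s) = 2) := by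
  classical
  obtain ⟨hf, h2, h3, -, -⟩ := hZ
  have hmove : ∀ t : G, orderOf t = 2 → ∃ x : Ω, t • x ≠ x := by
    intro t ht
    apply exists_moved hf
    rintro rfl
    rw [orderOf_one] at ht
    omega
  have h2G : 2 ∣ Nat.card G := by
    -- `G` contains an element swapping `a` and `b`
    have h2' := h2
    rw [MulAction.is_two_pretransitive_iff] at h2'
    obtain ⟨g, hg1, hg2⟩ := h2' hab hab.symm
    have hodd : ¬ Odd (orderOf g) := by
      intro hodd
      obtain ⟨m, hm⟩ := hodd
      have h1 : g ^ (2 * m) • a = a := by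
        have : (g ^ 2) • a = a := by rw [pow_two, mul_smul, hg1, hg2]
        rw [pow_mul]
        have hst : g ^ 2 ∈ MulAction.stabilizer G a := this
        exact (MulAction.stabilizer G a).pow_mem hst m
      have h4 : g ^ (2 * m + 1) • a = b := by
        rw [pow_succ', mul_smul, h1, hg1]
      rw [← hm, pow_orderOf_eq_one, one_smul] at h4
      exact hab h4
    rw [Nat.not_odd_iff_even] at hodd
    exact hodd.two_dvd.trans (orderOf_dvd_natCard g)
  have hp2 : Fact (Nat.Prime 2) := ⟨Nat.prime_two⟩
  refine ⟨?_, ?_, ?_⟩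
  · obtain ⟨t, ht⟩ := exists_prime_orderOf_dvd_card' (G := G) 2 h2G
    obtain ⟨x, hx⟩ := hmove t ht
    obtain ⟨g, hg⟩ := swap_of_ne h2 hab t ht hx
    exact ⟨_, hg⟩
  · intro s hs _ _
    have hs1 : s ≠ 1 := by
      rintro rfl
      rw [orderOf_one] at hs
      omega
    have hle := fixedBy_le_two h3 s hs1
    have hmod := fixedBy_mod (Ω := Ω) (p := 2) s (by rw [← hs, pow_orderOf_eq_one])
    unfold Nat.ModEq at hmod
    constructor
    · intro hodd
      rw [Nat.odd_iff] at hodd
      omega
    · intro heven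
      rw [Nat.even_iff] at heven
      omega
  · intro heven hHeven
    obtain ⟨t, ht⟩ := exists_prime_orderOf_dvd_card'
      (G := ↥(MulAction.stabilizer G a ⊓ MulAction.stabilizer G b)) 2 hHeven.two_dvd
    have ht' : orderOf (t : G) = 2 := by rw [← ht]; exact Subgroup.orderOf_coe t
    obtain ⟨x, hx⟩ := hmove t ht'
    obtain ⟨g, hg1, hg2, hg3⟩ := swap_of_ne h2 hab (t : G) ht' hx
    refine ⟨_, hg1, hg2, hg3, ?_⟩
    rw [card_fixedBy_conj]
    have ht1 : (t : G) ≠ 1 := by
      intro h
      rw [h, orderOf_one] at ht'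
      omega
    have hle := fixedBy_le_two h3 (t : G) ht1
    have hge : 2 ≤ Nat.card (MulAction.fixedBy Ω (t : G)) := by
      rw [Nat.card_eq_fintype_card]
      have : 1 < Fintype.card (MulAction.fixedBy Ω (t : G)) :=
        Fintype.one_lt_card_iff.mpr ⟨⟨a, t.2.1⟩, ⟨b, t.2.2⟩, fun h => hab (congrArg Subtype.val h)⟩
      omega
    omega

end Cfsg.Agent.S0740
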