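import Cfsg.Agent.EqBase
import Cfsg.Agent.LibZas14
import Cfsg.Agent.S0740
/-!
# Zassenhaus groups XV: data from regular normal subgroups of point stabilizers (helper16)
-/
set_option autoImplicit false
set_option linter.all false
open Cfsg MulAction
open scoped Pointwise
namespace CfsgLib.Zas

universe u v

theorem Dat.of_reg {G : Type u} {Ω : Type v} [Group G] [MulAction G Ω] [Finite G] [Fintype Ω] (hZ : IsZassenhausGroup G Ω) {a b : Ω} (hab : a ≠ b)
    {U : Subgroup G} (hU : U ≤ stabilizer G a) (hreg : ∀ y z : Ω, y ≠ a → z ≠ a → ∃! u : U, (u : G) • y = z) : Dat G Ω a b U where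
  hZ := hZ
  hab := hab
  hHa := hU
  hcard := by
    classical
    have hne : ∀ u : U, (u : G) • b ≠ a := by
      intro u h
      have h1 : (u : G) • a = a := hU u.2
      exact hab (MulAction.injective (u : G) (h1.trans h.symm))
    have e : U ≃ {x : Ω // x ≠ a} := Equiv.ofBijective (fun u => ⟨(u : G) • b, hne u⟩) (by
      constructor
      · intro u w h
        have h1 : (u : G) • b = (w : G) • b := congrArg Subtype.val h
        obtain ⟨z, -, hz⟩ := hreg b ((u : G) • b) (Ne.symm hab) (hne u)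
        exact (hz u rfl).trans (hz w h1.symm).symm
      · rintro ⟨x, hx⟩
        obtain ⟨u, hu, -⟩ := hreg b x (Ne.symm hab) hx
        exact ⟨u, Subtype.ext hu⟩)
    rw [Nat.card_congr e, Nat.card_eq_fintype_card, Fintype.card_subtype_compl, Fintype.card_subtype_eq]
    have : 0 < Fintype.card Ω := Fintype.card_pos_iff.mpr ⟨a⟩
    omega
  hfix := by
    intro u hu hu1 c hc
    by_contra hca
    obtain ⟨z, -, hz⟩ := hreg c c hca hca
    have h1 := hz ⟨u, hu⟩ hc
    have h2 := hz 1 (one_smul G c)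
    exact hu1 (congrArg Subtype.val (h1.trans h2.symm))

namespace Dat
variable {G : Type u} {Ω : Type v} [Group G] [MulAction G Ω] [Finite G] [Fintype Ω] {a b : Ω} {H : Subgroup G} (D : Dat G Ω a b H)
include D

theorem big_of_comm (hc : ∀ x ∈ H, ∀ y ∈ H, x * y = y * x) : Nat.card H - 1 ≤ 2 * Nat.card (EE G a b) := by
  rcases D.dich with h | ⟨-, -, ⟨u, w, huw⟩, -⟩
  · exact h
  · exact absurd (Subtype.ext (hc u u.2 w w.2)) huw

theorem exp_two (hc : ∀ x ∈ H, ∀ y ∈ H, x * y = y * x) (h2 : IsPGroup 2 H) : ∀ x ∈ H, x * x = 1 := by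
  haveI := Fact.mk Nat.prime_two
  obtain ⟨-, p, f, hp, hexp, hcard⟩ := D.big_elem (D.big_of_comm hc)
  obtain ⟨k, hk⟩ := IsPGroup.iff_card.mp h2
  have h3 := D.two_le_H
  have hf : f ≠ 0 := by
    rintro rfl
    rw [hcard, pow_zero] at h3
    omega
  have hp2 : p = 2 := by
    have h4 : p ∣ 2 ^ k := by rw [← hk, hcard]; exact dvd_pow_self p hf
    exact (Nat.prime_dvd_prime_iff_eq hp Nat.prime_two).mp (hp.dvd_of_dvd_pow h4)
  intro x hx
  rw [← pow_two, ← hp2]
  exact hexp x hx

end Dat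
end CfsgLib.Zas
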