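import Mathlib
import Cfsg.Agent.EqBase
import Cfsg.Agent.LibZas11d
import Cfsg.Agent.LibZas15

/-! Zassenhaus groups of half size are `PSL(2, q)` (seat helper11). -/

set_option autoImplicit false
set_option linter.all false

namespace CfsgLib.Zas11

open CfsgLib.PL11 Subgroup MulAction CfsgLib.Zas

universe u v w

section
variable {G : Type u} {Ω : Type v} [Group G] [MulAction G Ω] [Finite G] [Fintype Ω] {a b : Ω} {H : Subgroup G}

theorem simple_of_half (D : Dat G Ω a b H) (h2 : 2 * Nat.card (EE G a b) + 1 = Nat.card H) : IsSimpleGroup G := by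
  have hab := (D.big_elem (by omega)).1
  haveI hnt : Nontrivial G := by
    obtain ⟨x, -, hx⟩ := exists_EE D.hZ D.hab
    exact ⟨x, 1, hx⟩
  refine { exists_pair_ne := hnt.exists_pair_ne, eq_bot_or_eq_top_of_normal := fun N hN => ?_ }
  by_cases hN1 : N = ⊥
  · exact Or.inl hN1
  right
  have DN := D.restrict hN hN1
  have hcH : Nat.card (H.subgroupOf N) = Nat.card H :=
    Nat.card_congr (Subgroup.subgroupOfEquivOfLe (D.H_le_normal hN1)).toEquiv
  have h3 := DN.big_of_comm (fun x hx y hy => Subtype.ext (hab x hx y hy))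
  rw [hcH] at h3
  have hdvd := card_EE_restrict (G := G) N a b
  have hle := Nat.le_of_dvd Nat.card_pos hdvd
  have heq : Nat.card (EE N a b) = Nat.card (EE G a b) := by omega
  have h4 := DN.card_G
  rw [hcH, heq, ← D.card_G] at h4
  exact Subgroup.eq_top_of_card_eq N h4

theorem setup (D : Dat G Ω a b H) (hH : ∀ x ∈ H, ∀ y ∈ H, x * y = y * x) (hE : ∀ x ∈ EE G a b, ∀ y ∈ EE G a b, x * y = y * x) :
    Setup H (EE G a b) a b where
  faithful := by
    intro g hg
    haveI := D.hZ.1
    apply FaithfulSMul.eq_of_smul_eq_smul (M := G) (α := Ω)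
    intro ω
    rw [hg, one_smul]
  hQi := fun u hu => D.hHa hu
  hDi := fun d hd => hd.1
  hDo := fun d hd => hd.2
  hfix := fun g h1 h2 => ⟨h1, h2⟩
  hne := D.hab.symm
  hreg := fun ω hω => D.regular D.hab.symm hω
  hinj := fun u hu h => D.inj hu D.hab.symm h
  hQab := hH
  hDab := hE
  hnorm := fun d hd u hu => D.conj_H hd.1 hu
  hsemi := by
    intro d hd hd1 u hu h
    apply D.fpf hd.1 (D.not_mem_H hd hd1) hu
    rw [mul_inv_eq_iff_eq_mul] at h
    exact h

theorem psl_half (D : Dat G Ω a b H) (h2 : 2 * Nat.card (EE G a b) + 1 = Nat.card H) :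
    ∃ (F : Type) (_ : Field F) (_ : Fintype F), Fintype.card F = Nat.card H ∧
      Nonempty (G ≃* Matrix.ProjectiveSpecialLinearGroup (Fin 2) F) := by
  have hS := simple_of_half D h2
  obtain ⟨-, s, hs2, hs, hinv⟩ := D.cyclic_of_simple hS
  have hE := Dat.comm_of_inv hinv
  have hH := (D.big_elem (by omega)).1
  exact (setup D hH hE).psl h2 hs.1 hs.2 hinv

end
end CfsgLib.Zas11
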