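import Cfsg.Statements.S0731
import Mathlib
import Cfsg.Agent.LibZas11e

set_option autoImplicit false
set_option linter.all false
open Cfsg

namespace Cfsg.Agent.S0731

open MulAction CfsgLib.Zas in
theorem trans3 {G Ω : Type*} [Group G] [Finite G] [MulAction G Ω] [Fintype Ω] {a b : Ω} {H : Subgroup G} (D : Dat G Ω a b H)
    (he : Nat.card (EE G a b) + 1 = Nat.card H) {e e' : Ω} (h1 : e ≠ a) (h2 : e ≠ b) (h1' : e' ≠ a) (h2' : e' ≠ b) :
    ∃ x ∈ EE G a b, x • e = e' := by
  classical
  have hmem : ∀ x : EE G a b, (x : G) • e ≠ a ∧ (x : G) • e ≠ b := by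
    intro x
    have hxa : (x : G) • a = a := x.2.1
    have hxb : (x : G) • b = b := x.2.2
    exact ⟨fun h => h1 (MulAction.injective (x : G) (h.trans hxa.symm)), fun h => h2 (MulAction.injective (x : G) (h.trans hxb.symm))⟩
  have hinj : Function.Injective (fun x : EE G a b => (⟨(x : G) • e, hmem x⟩ : {c : Ω // c ≠ a ∧ c ≠ b})) := by
    intro x y hxy
    have h3 : (x : G) • e = (y : G) • e := congrArg Subtype.val hxy
    apply Subtype.ext
    by_contra hne
    have h4 : (y : G)⁻¹ * x ≠ 1 := fun h => hne (inv_mul_eq_one.1 h).symm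
    have h5 : ((y : G)⁻¹ * x) • e = e := by rw [mul_smul, h3, inv_smul_smul]
    rcases fix_EE D.hZ D.hab ((EE G a b).mul_mem ((EE G a b).inv_mem y.2) x.2) h4 h5 with h | h
    · exact h1 h
    · exact h2 h
  have hcard : Nat.card {c : Ω // c ≠ a ∧ c ≠ b} = Nat.card (EE G a b) := by
    have h3 : Nat.card {c : Ω // c ≠ a ∧ c ≠ b} = Nat.card {c : Ω // ¬ (c = a ∨ c = b)} := by
      apply Nat.card_congr
      exact Equiv.subtypeEquivRight fun c => by
        rw [not_or]
    rw [h3, Nat.card_eq_fintype_card, Fintype.card_subtype_compl]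
    have h4 : Fintype.card {c : Ω // c = a ∨ c = b} = 2 := by
      rw [Fintype.card_subtype]
      have : (Finset.univ.filter fun c : Ω => c = a ∨ c = b) = {a, b} := by ext c; simp
      rw [this, Finset.card_pair D.hab]
    rw [h4]
    have := D.hcard
    omega
  have hsurj := (hinj.bijective_of_nat_card_le hcard.le).2
  obtain ⟨x, hx⟩ := hsurj ⟨e', h1', h2'⟩
  exact ⟨x, x.2, congrArg Subtype.val hx⟩

/-- A finite Zassenhaus group whose point stabiliser has an abelian regular normal subgroup on the remaining points is sharply triply transitive or isomorphic to `PSL(2, F)` for a finite field `F` of odd characteristic. -/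
theorem result {G Ω : Type*} [Group G] [Finite G] [MulAction G Ω] [Finite Ω] (hZ : Cfsg.IsZassenhausGroup G Ω) (x : Ω) (F : Subgroup G) (hFle : F ≤ MulAction.stabilizer G x) (hFn : (F.subgroupOf (MulAction.stabilizer G x)).Normal) (hFab : IsMulCommutative F) (hreg : ∀ y z : Ω, y ≠ x → z ≠ x → ∃! u : F, (u : G) • y = z) : (MulAction.IsMultiplyPretransitive G Ω 3 ∧ ∀ t : Fin 3 ↪ Ω, MulAction.stabilizer G t = ⊥) ∨ ∃ (K : Type) (_ : Field K) (_ : Fintype K), ringChar K ≠ 2 ∧ Nonempty (G ≃* Matrix.ProjectiveSpecialLinearGroup (Fin 2) K) := by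
  classical
  haveI := Fintype.ofFinite Ω
  obtain ⟨b, hab⟩ := CfsgLib.Zas.exists_ne hZ x
  have D : CfsgLib.Zas.Dat G Ω x b F := CfsgLib.Zas.Dat.of_reg hZ hab hFle hreg
  have h4 := D.big_of_comm (fun u hu v hv => congrArg Subtype.val (hFab.is_comm.comm (⟨u, hu⟩ : F) ⟨v, hv⟩))
  have h6 := D.two_le_EE
  have h8 := D.two_le_H
  have h9 := D.EE_lt
  obtain ⟨k, hk⟩ := D.card_EE_dvd
  have hk0 : k ≠ 0 := by rintro rfl; omega
  by_cases hk1 : k = 1
  · left
    have he : Nat.card (CfsgLib.Zas.EE G x b) + 1 = Nat.card F := by rw [hk1, mul_one] at hk; omega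
    refine ⟨⟨fun y z => ?_⟩, fun t => ?_⟩
    · have hy01 : y 0 ≠ y 1 := fun h => by simpa using y.injective h
      have hy02 : y 0 ≠ y 2 := fun h => by simpa using y.injective h
      have hy12 : y 1 ≠ y 2 := fun h => by simpa using y.injective h
      have hz01 : z 0 ≠ z 1 := fun h => by simpa using z.injective h
      have hz02 : z 0 ≠ z 2 := fun h => by simpa using z.injective h
      have hz12 : z 1 ≠ z 2 := fun h => by simpa using z.injective h
      obtain ⟨g, hg0, hg1⟩ := CfsgLib.Zas.two_trans hZ hy01 hab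
      obtain ⟨g', hg0', hg1'⟩ := CfsgLib.Zas.two_trans hZ hz01 hab
      obtain ⟨w, hw, hw2⟩ := trans3 D he (e := g • y 2) (e' := g' • z 2)
        (fun h => hy02 (MulAction.injective g (hg0.trans h.symm))) (fun h => hy12 (MulAction.injective g (hg1.trans h.symm)))
        (fun h => hz02 (MulAction.injective g' (hg0'.trans h.symm))) (fun h => hz12 (MulAction.injective g' (hg1'.trans h.symm)))
      have hwx : w • x = x := hw.1
      have hwb : w • b = b := hw.2
      refine ⟨g'⁻¹ * (w * g), ?_⟩
      apply DFunLike.ext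
      intro i
      show (g'⁻¹ * (w * g)) • y i = z i
      rw [mul_smul, mul_smul, inv_smul_eq_iff]
      fin_cases i
      · show w • g • y 0 = g' • z 0
        rw [hg0, hwx, hg0']
      · show w • g • y 1 = g' • z 1
        rw [hg1, hwb, hg1']
      · exact hw2
    · rw [eq_bot_iff]
      intro g hg
      rw [Subgroup.mem_bot]
      have h1 : ∀ i, g • t i = t i := fun i => by
        have := MulAction.mem_stabilizer_iff.1 hg
        exact congrArg (fun s : Fin 3 ↪ Ω => s i) this
      exact hZ.2.2.1 g (t 0) (t 1) (t 2) (fun h => by simpa using t.injective h) (fun h => by simpa using t.injective h)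
        (fun h => by simpa using t.injective h) (h1 0) (h1 1) (h1 2)
  · right
    have h7 : 2 * Nat.card (CfsgLib.Zas.EE G x b) + 1 = Nat.card F := by
      have h10 : Nat.card (CfsgLib.Zas.EE G x b) * 2 ≤ Nat.card (CfsgLib.Zas.EE G x b) * k := Nat.mul_le_mul_left _ (by omega)
      omega
    obtain ⟨K, i1, i2, hK, e⟩ := CfsgLib.Zas11.psl_half D h7
    refine ⟨K, i1, i2, ?_, e⟩
    intro h
    have := FiniteField.even_card_iff_char_two.1 h
    omega

end Cfsg.Agent.S0731
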