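import Mathlib
import Cfsg.Agent.EqBase
import Cfsg.Agent.LibBR11m
import Cfsg.Agent.LibPL11d
import Cfsg.Agent.S0731

/-! Groups with a Sylow subgroup of order `p`: simplicity and the Zassenhaus case (seat helper11). -/

set_option autoImplicit false
set_option linter.all false

namespace CfsgLib.BR11

open Subgroup Cfsg CfsgLib.CharBasic
open scoped ComplexConjugate commutatorElement

universe u

section
variable {G : Type u} [Group G] [Fintype G] {p : ℕ} [hp : Fact p.Prime]
variable {n e t a b d : ℕ} {P E : Subgroup G} {A B Y : Finset (IrrCharacter G)}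

theorem Cfg.simple (h : Cfg p n e t a b d P E A B Y) (hcore : pPrimeCore p G = ⊥) (P' : Sylow p G) (hPP : (P' : Subgroup G) = P) : IsSimpleGroup G := by
  have hpp := hp.out
  haveI : Nontrivial G := by
    rw [← Finite.one_lt_card_iff_nontrivial]
    have h1 : Nat.card P ≤ Nat.card G := Subgroup.card_le_card_group P
    rw [h.cP] at h1
    exact lt_of_lt_of_le hpp.one_lt h1
  refine ⟨fun M hM => ?_⟩
  by_cases hpM : p ∣ Nat.card M
  · right
    obtain ⟨k, hk⟩ := exists_prime_orderOf_dvd_card' p hpM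
    have hk' : orderOf (k : G) = p := by rw [Subgroup.orderOf_coe]; exact hk
    have hIs : IsPGroup p (zpowers (k : G)) := by
      apply IsPGroup.of_card (n := 1)
      rw [Nat.card_zpowers, hk', pow_one]
    obtain ⟨Q, hQ⟩ := hIs.exists_le_sylow
    obtain ⟨g', hg'⟩ := MulAction.exists_smul_eq G Q P'
    have hkQ : (k : G) ∈ (Q : Subgroup G) := hQ (mem_zpowers _)
    have hkP : g' * k * g'⁻¹ ∈ P := by
      rw [← hPP, ← hg', Sylow.coe_subgroup_smul]
      exact Subgroup.smul_mem_pointwise_smul _ (MulAut.conj g') _ hkQ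
    have hne : g' * k * g'⁻¹ ≠ 1 := by
      intro h
      rw [conj_eq_one_iff] at h
      rw [h, orderOf_one] at hk'
      exact hpp.one_lt.ne hk'
    have hPM : P ≤ M := by
      rw [← zpowers_eq h.cP hkP hne, zpowers_le]; exact hM.conj_mem k k.2 g'
    have hfr := Sylow.normalizer_sup_eq_top' (N := M) P' (by rw [hPP]; exact hPM)
    have hEM : E ⊔ M = ⊤ := by
      rw [eq_top_iff, ← hfr]
      apply sup_le _ le_sup_right
      intro g hg
      obtain ⟨x, hx, s, hs, rfl⟩ := h.mem g (by rw [← hPP]; exact hg)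
      exact mul_mem (mem_sup_right (hPM hx)) (mem_sup_left hs)
    rw [eq_top_iff, ← h.perf]
    rw [commutator_eq_closure, closure_le]
    rintro _ ⟨g, g', rfl⟩
    have hrep : ∀ g : G, ∃ s ∈ E, (QuotientGroup.mk' M) g = (QuotientGroup.mk' M) s := by
      intro g
      have h1 : g ∈ E ⊔ M := by rw [hEM]; exact mem_top g
      rw [mem_sup_of_normal_right] at h1
      obtain ⟨s, hs, m, hm, rfl⟩ := h1
      refine ⟨s, hs, ?_⟩
      rw [map_mul, (QuotientGroup.eq_one_iff (N := M) m).2 hm |> fun h => (show (QuotientGroup.mk' M) m = 1 from h), mul_one]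
    obtain ⟨s, hs, h1⟩ := hrep g
    obtain ⟨s', hs', h2⟩ := hrep g'
    have h3 : (QuotientGroup.mk' M) ⁅g, g'⁆ = 1 := by
      rw [map_commutatorElement, h1, h2, ← map_commutatorElement, commutatorElement_eq_one_iff_mul_comm.2 (h.comm_E hs hs'), map_one]
    exact (QuotientGroup.eq_one_iff (N := M) _).1 h3
  · left
    have hle : M ≤ pPrimeCore p G := CfsgLib.Cores.le_pPrimeCore hM ((Nat.Prime.coprime_iff_not_dvd hpp).2 hpM).symm
    rwa [hcore, le_bot_iff] at hle

theorem fix_P {R Q : Sylow p G} (hR : Nat.card R = p) {x : G} (hx : x ∈ (R : Subgroup G)) (hx1 : x ≠ 1) (hxQ : x • Q = Q) : Q = R := by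
  have h1 : x ∈ (R : Subgroup G) ⊓ normalizer (Q : Set G) := ⟨hx, Sylow.smul_eq_iff_mem_normalizer.1 hxQ⟩
  rw [R.isPGroup'.inf_normalizer_sylow Q] at h1
  have h2 : zpowers x = (R : Subgroup G) := zpowers_eq hR hx hx1
  have h3 : (R : Subgroup G) ≤ Q := by
    rw [← h2, zpowers_le]; exact h1.2
  exact (Sylow.ext (R.is_maximal' Q.isPGroup' h3)).trans (by rfl) |>.symm ▸ rfl

/-- regular action on the remaining points -/
theorem reg_P (hcS : Nat.card (Sylow p G) = 1 + p) (R : Sylow p G) (hR : Nat.card R = p) (y z : Sylow p G) (hy : y ≠ R) (hz : z ≠ R) :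
    ∃! u : (R : Subgroup G), (u : G) • y = z := by
  classical
  have hfixR : ∀ u ∈ (R : Subgroup G), u • R = R := fun u hu => Sylow.smul_eq_iff_mem_normalizer.2 (le_normalizer hu)
  have hinj : Function.Injective (fun u : (R : Subgroup G) => (⟨(u : G) • y, fun h0 => hy
      (smul_left_cancel _ (h0.trans (hfixR _ u.2).symm))⟩ : {w : Sylow p G // w ≠ R})) := by
    intro u v huv
    have h1 : (u : G) • y = (v : G) • y := congrArg Subtype.val huv
    by_contra hne
    have h2 : ((v : G)⁻¹ * u) • y = y := by rw [mul_smul, h1, inv_smul_smul]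
    apply hy
    refine fix_P hR (mul_mem (inv_mem v.2) u.2) ?_ h2
    intro h3
    exact hne (Subtype.ext (inv_mul_eq_one.1 h3).symm)
  have hcard : Nat.card {w : Sylow p G // w ≠ R} = Nat.card (R : Subgroup G) := by
    haveI := Fintype.ofFinite (Sylow p G)
    have h1 : Nat.card {w : Sylow p G // w ≠ R} = p := by
      rw [Nat.card_eq_fintype_card, Fintype.card_subtype_compl, ← Nat.card_eq_fintype_card, hcS]
      simp
    rw [h1]; exact hR.symm
  have hbij := (Nat.bijective_iff_injective_and_card _).2 ⟨hinj, hcard.symm⟩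
  obtain ⟨u, hu⟩ := hbij.2 ⟨z, hz⟩
  refine ⟨u, congrArg Subtype.val hu, fun v hv => ?_⟩
  exact hbij.1 (Subtype.ext (hv.trans (congrArg Subtype.val hu).symm))

/-- points fixed by elements of `E` -/
theorem Cfg.fix_E (h : Cfg p n e t a b d P E A B Y) (P' : Sylow p G) (hPP : (P' : Subgroup G) = P) {s : G} (hs : s ∈ E) (hs1 : s ≠ 1)
    {Q : Sylow p G} (hQ : s • Q = Q) : ∃ v ∈ normalizer (E : Set G), v • P' = Q := by
  obtain ⟨w, rfl⟩ := MulAction.exists_smul_eq G P' Q
  have hEN : ∀ y ∈ P, y • P' = P' := fun y hy => Sylow.smul_eq_iff_mem_normalizer.2 (le_normalizer (show y ∈ (P' : Subgroup G) by rw [hPP]; exact hy))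
  have h1 : (w⁻¹ * s * w) • P' = P' := by
    rw [mul_smul, mul_smul, hQ, inv_smul_smul]
  have h2 : w⁻¹ * s * w ∈ normalizer (P : Set G) := by
    have := Sylow.smul_eq_iff_mem_normalizer.1 h1
    rw [← hPP]; exact this
  obtain ⟨z, hz, s1, hs1', he⟩ := h.mem _ h2
  have hord : orderOf (w⁻¹ * s * w) = orderOf s := by
    have := MulEquiv.orderOf_eq (MulAut.conj w⁻¹) s
    rw [MulAut.conj_apply, inv_inv] at this
    exact this
  have hs1ne : s1 ≠ 1 := by
    rintro rfl
    rw [mul_one] at he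
    by_cases hz1 : z = 1
    · rw [he, hz1, orderOf_one] at hord
      exact hs1 (orderOf_eq_one_iff.1 hord.symm)
    · apply h.reg s hs
      rw [← hord, he, ord_of_mem h.cP hz hz1]
  obtain ⟨y1, hy1, hy2⟩ := h.cnj s1 hs1' hs1ne z hz
  refine ⟨w * y1, ?_, ?_⟩
  · rw [← inv_inv (w * y1)]
    apply inv_mem
    apply (h.mem_norm hs hs1 _).1
    have h3 : (w * y1)⁻¹ * s * (w * y1)⁻¹⁻¹ = s1 := by
      calc (w * y1)⁻¹ * s * (w * y1)⁻¹⁻¹ = y1⁻¹ * (w⁻¹ * s * w) * y1 := by group
        _ = y1⁻¹ * (y1 * s1 * y1⁻¹) * y1 := by rw [he, hy2]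
        _ = s1 := by group
    rw [h3]; exact hs1'
  · rw [mul_smul, hEN y1 hy1]

/-- no non-trivial element fixes three points -/
theorem Cfg.fix_three (h : Cfg p n e t a b d P E A B Y) (hn : n = 1) (P' : Sylow p G) (hPP : (P' : Subgroup G) = P)
    {g : G} {Q1 Q2 Q3 : Sylow p G} (h12 : Q1 ≠ Q2) (h23 : Q2 ≠ Q3) (h13 : Q1 ≠ Q3) (hg1 : g • Q1 = Q1) (hg2 : g • Q2 = Q2) (hg3 : g • Q3 = Q3) : g = 1 := by
  classical
  have hP'c : Nat.card P' = p := by have := h.cP; rw [← hPP] at this; exact this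
  by_contra hne
  obtain ⟨w, hw⟩ := MulAction.exists_smul_eq G P' Q1
  have hEN : ∀ y ∈ P, y • P' = P' := fun y hy => Sylow.smul_eq_iff_mem_normalizer.2 (le_normalizer (show y ∈ (P' : Subgroup G) by rw [hPP]; exact hy))
  have hEN' : ∀ y ∈ E, y • P' = P' := fun y hy => Sylow.smul_eq_iff_mem_normalizer.2 (by
    have := h.le hy
    rw [← hPP] at this
    exact this)
  have htr : ∀ Q : Sylow p G, g • Q = Q → (w⁻¹ * g * w) • (w⁻¹ • Q) = w⁻¹ • Q := by
    intro Q hQ
    rw [mul_smul, mul_smul, smul_inv_smul, hQ]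
  have h2 : w⁻¹ * g * w ∈ normalizer (P : Set G) := by
    have h3 := htr Q1 hg1
    rw [← hw, inv_smul_smul] at h3
    have := Sylow.smul_eq_iff_mem_normalizer.1 h3
    rw [← hPP]; exact this
  obtain ⟨x, hx, s, hs, he⟩ := h.mem _ h2
  have hQ2 : w⁻¹ • Q2 ≠ P' := fun h0 => h12 (by rw [← hw, ← h0, smul_inv_smul])
  have hQ3 : w⁻¹ • Q3 ≠ P' := fun h0 => h13 (by rw [← hw, ← h0, smul_inv_smul])
  have hQ23 : w⁻¹ • Q2 ≠ w⁻¹ • Q3 := fun h0 => h23 (smul_left_cancel _ h0)
  by_cases hs1 : s = 1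
  · rw [hs1, mul_one] at he
    have hx1 : x ≠ 1 := by
      intro h0
      apply hne
      rw [h0] at he
      have : g = w * (w⁻¹ * g * w) * w⁻¹ := by group
      rw [this, he]; group
    apply hQ2
    refine fix_P hP'c (x := x) (by rw [hPP]; exact hx) hx1 ?_
    rw [← he]; exact htr Q2 hg2
  · obtain ⟨y, hy, hys⟩ := h.cnj s hs hs1 x hx
    have hfix : ∀ Q : Sylow p G, g • Q = Q → s • (y⁻¹ • (w⁻¹ • Q)) = y⁻¹ • (w⁻¹ • Q) := by
      intro Q hQ
      have h3 := htr Q hQ
      rw [he, ← hys] at h3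
      rw [← mul_smul]
      have e1 : s * y⁻¹ = y⁻¹ * (y * s * y⁻¹) := by group
      rw [e1, mul_smul, h3]
    obtain ⟨v, hv, hv2⟩ := h.fix_E P' hPP hs hs1 (hfix Q2 hg2)
    obtain ⟨v', hv', hv3⟩ := h.fix_E P' hPP hs hs1 (hfix Q3 hg3)
    have hyP : ∀ Q : Sylow p G, Q ≠ P' → y⁻¹ • Q ≠ P' := by
      intro Q hQ h0
      apply hQ
      have := congrArg (fun z => y • z) h0
      simp only [smul_inv_smul] at this
      rw [this, hEN y hy]
    have hvE : v ∉ E := fun h0 => hyP _ hQ2 (by rw [← hv2]; exact hEN' v h0)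
    have hv'E : v' ∉ E := fun h0 => hyP _ hQ3 (by rw [← hv3]; exact hEN' v' h0)
    have hidx : (E.subgroupOf (normalizer (E : Set G))).index = 2 := by
      have h3 := (E.subgroupOf (normalizer (E : Set G))).card_mul_index
      rw [Nat.card_congr (Subgroup.subgroupOfEquivOfLe (le_normalizer : E ≤ normalizer (E : Set G))).toEquiv, h.cE, h.card_norm, hn] at h3
      exact Nat.eq_of_mul_eq_mul_left h.e0 h3
    have h4 : (⟨v, hv⟩ : normalizer (E : Set G))⁻¹ * ⟨v', hv'⟩ ∈ E.subgroupOf (normalizer (E : Set G)) := by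
      rw [Subgroup.mul_mem_iff_of_index_two hidx]
      have h5 : ¬ (⟨v, hv⟩ : normalizer (E : Set G))⁻¹ ∈ E.subgroupOf (normalizer (E : Set G)) := by
        rw [inv_mem_iff, mem_subgroupOf]; exact hvE
      have h6 : ¬ (⟨v', hv'⟩ : normalizer (E : Set G)) ∈ E.subgroupOf (normalizer (E : Set G)) := by
        rw [mem_subgroupOf]; exact hv'E
      exact ⟨fun h0 => absurd h0 h5, fun h0 => absurd h0 h6⟩
    rw [mem_subgroupOf] at h4
    have h5 : v⁻¹ * v' ∈ E := h4
    have h6 := hEN' _ h5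
    apply hQ23
    apply smul_left_cancel y⁻¹
    rw [← hv2, ← hv3]
    calc v • P' = v • ((v⁻¹ * v') • P') := by rw [h6]
      _ = v' • P' := by rw [← mul_smul, mul_inv_cancel_left]

theorem Cfg.zas (h : Cfg p n e t a b d P E A B Y) (hn : n = 1) (hcore : pPrimeCore p G = ⊥) (P' : Sylow p G) (hPP : (P' : Subgroup G) = P)
    (hcS : Nat.card (Sylow p G) = 1 + p) : IsZassenhausGroup G (Sylow p G) := by
  classical
  have hpp := hp.out
  have hp3 := h.p3
  have hP'c : Nat.card P' = p := by have := h.cP; rw [← hPP] at this; exact this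
  haveI := h.simple hcore P' hPP
  letI : Fintype (Sylow p G) := Fintype.ofFinite _
  have hcF : Fintype.card (Sylow p G) = 1 + p := by rw [← Nat.card_eq_fintype_card]; exact hcS
  have hEN' : ∀ y ∈ E, y • P' = P' := fun y hy => Sylow.smul_eq_iff_mem_normalizer.2 (by
    have := h.le hy
    rw [← hPP] at this
    exact this)
  refine ⟨⟨?_⟩, ?_, ?_, ?_, ?_⟩
  · intro g g' hgg
    obtain ⟨Q1, Q2, Q3, h12, h13, h23⟩ := Fintype.two_lt_card_iff.1 (show 2 < Fintype.card (Sylow p G) by omega)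
    have h1 : ∀ Q : Sylow p G, (g'⁻¹ * g) • Q = Q := fun Q => by rw [mul_smul, hgg Q, inv_smul_smul]
    exact (inv_mul_eq_one.1 (h.fix_three hn P' hPP h12 h23 h13 (h1 _) (h1 _) (h1 _))).symm
  · rw [MulAction.is_two_pretransitive_iff]
    intro Q1 Q2 Q3 Q4 h12 h34
    obtain ⟨g, hg⟩ := MulAction.exists_smul_eq G Q1 Q3
    have h1 : g • Q2 ≠ Q3 := by rw [← hg]; exact fun h => h12 (smul_left_cancel g h).symm
    obtain ⟨x, hx, -⟩ := reg_P hcS Q3 (sylow_card P' Q3 hP'c) (g • Q2) Q4 h1 h34.symm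
    refine ⟨x.1 * g, ?_, ?_⟩
    · rw [mul_smul, hg]; exact Sylow.smul_eq_iff_mem_normalizer.2 (le_normalizer x.2)
    · rw [mul_smul]; exact hx
  · intro g Q1 Q2 Q3 h12 h23 h13 h1 h2 h3
    exact h.fix_three hn P' hPP h12 h23 h13 h1 h2 h3
  · obtain ⟨s, hs, hs1, -, -⟩ := h.exists_gen
    obtain ⟨v, hv, hvE⟩ : ∃ v ∈ normalizer (E : Set G), v ∉ E := by
      by_contra hne
      push Not at hne
      have h1 : normalizer (E : Set G) = E := le_antisymm hne le_normalizer
      have h2 := h.card_norm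
      rw [h1, h.cE, hn] at h2
      have := h.e0
      omega
    refine ⟨s, hs1, P', v • P', ?_, hEN' s hs, ?_⟩
    · intro h0
      have h1 : v ∈ normalizer (P : Set G) := by
        have := Sylow.smul_eq_iff_mem_normalizer.1 h0.symm
        rw [← hPP]; exact this
      obtain ⟨x, hx, s', hs', he⟩ := h.mem v h1
      have hxN : x ∈ normalizer (E : Set G) := by
        have : x = v * s'⁻¹ := by rw [he]; group
        rw [this]; exact mul_mem hv (inv_mem (le_normalizer hs'))
      have h2 : x * s * x⁻¹ ∈ E := (mem_normalizer_iff.1 hxN s).1 hs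
      have h3 : x * s * x⁻¹ * s⁻¹ ∈ P := by
        have h4 : s * x⁻¹ * s⁻¹ ∈ P := (mem_normalizer_iff.1 (h.le hs) _).1 (inv_mem hx)
        have e1 : x * s * x⁻¹ * s⁻¹ = x * (s * x⁻¹ * s⁻¹) := by group
        rw [e1]; exact mul_mem hx h4
      have h4 := h.disj _ (mul_mem h2 (inv_mem hs)) h3
      by_cases hx1 : x = 1
      · rw [hx1, one_mul] at he
        exact hvE (he ▸ hs')
      · have h5 : s ∈ centralizer ({x} : Set G) := by
          rw [mem_centralizer_singleton_iff]
          calc s * x = x * s * x⁻¹ * s⁻¹ * (s * x) := by rw [h4, one_mul]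
            _ = x * s := by group
        rw [h.centP x hx hx1] at h5
        exact hs1 (h.disj s hs h5)
    · have h1 : v⁻¹ * s * v ∈ E := by
        have := (mem_normalizer_iff.1 (inv_mem hv) s).1 hs
        rwa [inv_inv] at this
      have h2 := hEN' _ h1
      calc s • v • P' = v • ((v⁻¹ * s * v) • P') := by rw [← mul_smul, ← mul_smul]; congr 1; group
        _ = v • P' := by rw [h2]
  · intro N hN hNt
    rcases hN.eq_bot_or_eq_top with h1 | h1
    · exfalso
      obtain ⟨Q1, Q2, Q3, h12, h13, h23⟩ := Fintype.two_lt_card_iff.1 (show 2 < Fintype.card (Sylow p G) by omega)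
      obtain ⟨⟨g, hg⟩, hgQ⟩ := hNt.exists_smul_eq Q1 Q2
      rw [h1, mem_bot] at hg
      apply h12
      have h2 : g • Q1 = Q2 := hgQ
      rw [← h2, hg, one_smul]
    · refine ⟨P', ?_⟩
      intro h2
      have h3 : (P' : Subgroup G) = ⊥ := by
        rw [eq_bot_iff]
        intro x hx
        have h4 : (⟨x, by rw [h1]; exact mem_top x⟩ : N) ∈ MulAction.stabilizer N P' := by
          rw [MulAction.mem_stabilizer_iff]
          exact Sylow.smul_eq_iff_mem_normalizer.2 (le_normalizer hx)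
        rw [h2, mem_bot] at h4
        exact congrArg Subtype.val h4
      have h4 : Nat.card (P' : Subgroup G) = p := hP'c
      rw [h3, card_bot] at h4
      omega

/-- the Zassenhaus case -/
theorem Cfg.ident1 (h : Cfg p n e t a b d P E A B Y) (hn : n = 1) (ht : t = 2) (hcore : pPrimeCore p G = ⊥) (P' : Sylow p G) (hPP : (P' : Subgroup G) = P)
    (hcS' : Nat.card (Sylow p G) = 1 + n * p) :
    ∃ (F : Type) (_ : Field F) (_ : Fintype F), Fintype.card F = p ∧ 3 < p ∧ Nonempty (G ≃* Matrix.ProjectiveSpecialLinearGroup (Fin 2) F) := by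
  classical
  have hcS : Nat.card (Sylow p G) = 1 + p := by rw [hcS', hn, one_mul]
  have hpp := hp.out
  have hP'c : Nat.card P' = p := by have := h.cP; rw [← hPP] at this; exact this
  have het := h.et
  have he2 := h.e2
  have hcG := h.cG
  rw [hn, one_mul] at hcG
  rw [ht] at het
  have hZ := h.zas hn hcore P' hPP hcS
  rcases Cfsg.Agent.S0731.result hZ P' (P' : Subgroup G) (fun g hg => Sylow.smul_eq_iff_mem_normalizer.2 (le_normalizer hg)) (by
      refine ⟨fun x hx g => ?_⟩
      have hg : (g : G) • P' = P' := g.2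
      rw [mem_subgroupOf] at hx ⊢
      have h1 := Sylow.smul_eq_iff_mem_normalizer.1 hg
      exact (mem_normalizer_iff.1 h1 x).1 hx) (by
      haveI : IsCyclic (P' : Subgroup G) := isCyclic_of_prime_card (p := p) hP'c
      letI := IsCyclic.commGroup (α := (P' : Subgroup G))
      exact ⟨⟨fun x y => mul_comm x y⟩⟩) (fun y z hy hz => reg_P hcS P' hP'c y z hy hz) with ⟨h3, -⟩ | ⟨K, iF, iFF, hchar, ⟨φ⟩⟩
  · exfalso
    letI : Fintype (Sylow p G) := Fintype.ofFinite _
    have hcF : Fintype.card (Sylow p G) = 1 + p := by rw [← Nat.card_eq_fintype_card]; exact hcS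
    haveI : MulAction.IsPretransitive G (Fin 3 ↪ Sylow p G) := h3
    have h1 : Nat.card (Fin 3 ↪ Sylow p G) = (1 + p) * (p * (p - 1)) := by
      rw [Nat.card_eq_fintype_card, Fintype.card_embedding_eq, hcF, Fintype.card_fin]
      obtain ⟨q, rfl⟩ : ∃ q, p = q + 1 := ⟨p - 1, by omega⟩
      rw [show 1 + (q + 1) = q + 2 by ring]
      simp [Nat.descFactorial]
      ring
    have h2 : 0 < Nat.card (Fin 3 ↪ Sylow p G) := by
      rw [h1]
      have : 0 < p - 1 := by omega
      have := hpp.pos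
      positivity
    obtain ⟨x⟩ : Nonempty (Fin 3 ↪ Sylow p G) := (Nat.card_pos_iff.1 h2).1
    have h4 := MulAction.index_stabilizer_of_transitive G x
    have h5 := (MulAction.stabilizer G x).index_dvd_card
    rw [h4, h1, hcG] at h5
    have h6 := Nat.le_of_dvd (by
      have := h.e0
      have := hpp.pos
      positivity) h5
    have h7 : p - 1 = e * 2 := by omega
    rw [h7] at h6
    have h8 : 0 < p * e * (1 + p) := by
      have := h.e0
      have := hpp.pos
      positivity
    nlinarith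
  · refine ⟨K, iF, iFF, ?_, by omega, ⟨φ⟩⟩
    have hodd := FiniteField.odd_card_of_char_ne_two hchar
    have hq1 : 1 < Fintype.card K := Fintype.one_lt_card
    generalize hq : Fintype.card K = q at hodd hq1
    have h1 : Nat.card G = Nat.card (Matrix.ProjectiveSpecialLinearGroup (Fin 2) K) := Nat.card_congr φ.toEquiv
    obtain ⟨k, hk⟩ : ∃ k, q - 1 = 2 * k := ⟨(q - 1) / 2, by omega⟩
    have hgcd : Nat.gcd 2 (q - 1) = 2 := by rw [hk]; simp
    have h2 := CfsgLib.PL11.card_psl2 (m := q * (k * (q + 1))) hq hgcd (by rw [hk]; ring)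
    rw [← h1, hcG] at h2
    have h3 : q = 2 * k + 1 := by omega
    have h4 : p = 2 * e + 1 := by omega
    rw [h3, h4] at h2
    have h5 : k = e := by
      rcases lt_trichotomy k e with hlt | heq | hgt
      · exfalso
        have a1 : (2 * k + 1) < (2 * e + 1) := by omega
        have a2 : k * (2 * k + 1 + 1) ≤ e * (2 * e + 1 + 1) := Nat.mul_le_mul hlt.le (by omega)
        have a3 : 0 < e * (2 * e + 1 + 1) := by have := h.e0; positivity
        have a4 : (2 * k + 1) * (k * (2 * k + 1 + 1)) ≤ (2 * k + 1) * (e * (2 * e + 1 + 1)) := Nat.mul_le_mul_left _ a2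
        have a5 : (2 * k + 1) * (e * (2 * e + 1 + 1)) < (2 * e + 1) * (e * (2 * e + 1 + 1)) := Nat.mul_lt_mul_of_pos_right a1 a3
        have a6 : (2 * e + 1) * e * (1 + (2 * e + 1)) = (2 * e + 1) * (e * (2 * e + 1 + 1)) := by ring
        omega
      · exact heq
      · exfalso
        have a1 : (2 * e + 1) < (2 * k + 1) := by omega
        have a2 : e * (2 * e + 1 + 1) ≤ k * (2 * k + 1 + 1) := Nat.mul_le_mul hgt.le (by omega)
        have a3 : 0 < e * (2 * e + 1 + 1) := by have := h.e0; positivity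
        have a4 : (2 * k + 1) * (e * (2 * e + 1 + 1)) ≤ (2 * k + 1) * (k * (2 * k + 1 + 1)) := Nat.mul_le_mul_left _ a2
        have a5 : (2 * e + 1) * (e * (2 * e + 1 + 1)) < (2 * k + 1) * (e * (2 * e + 1 + 1)) := Nat.mul_lt_mul_of_pos_right a1 a3
        have a6 : (2 * e + 1) * e * (1 + (2 * e + 1)) = (2 * e + 1) * (e * (2 * e + 1 + 1)) := by ring
        omega
    omega

end
end CfsgLib.BR11
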