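import Cfsg.Statements.S0680
import Mathlib

-- import your own Cfsg.Agent.* helpers here

set_option autoImplicit false
open Cfsg

namespace Cfsg.Agent.S0680

open MulAction in
/-- The structure of finite sharply 2-transitive groups. -/
theorem main {α : Type*} [Fintype α] [DecidableEq α] (G : Subgroup (Equiv.Perm α)) [MulAction.IsMultiplyPretransitive G α 2] (hsharp : ∀ x : Fin 2 ↪ α, MulAction.stabilizer G x = ⊥) (h2 : 2 ≤ Fintype.card α) :
    Nat.card G = Fintype.card α * (Fintype.card α - 1) ∧
    ∃ N : Subgroup G, N.Normal ∧ (∀ x ∈ N, ∀ y ∈ N, x * y = y * x) ∧ (∀ g : G, g ∈ N ↔ g = 1 ∨ ∀ a : α, g • a ≠ a) ∧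
      (∀ a b : α, ∃ g ∈ N, g • a = b) ∧ Nat.card N = Fintype.card α ∧
      ∀ x ∈ N, ∀ y ∈ N, x ≠ 1 → y ≠ 1 → ∃ g : G, g * x * g⁻¹ = y := by
  classical
  haveI : Fintype G := Fintype.ofFinite G
  set n := Fintype.card α with hn
  -- elements fixing two points are trivial
  have htwo : ∀ (g : G) (a b : α), a ≠ b → g • a = a → g • b = b → g = 1 := by
    intro g a b hab ha hb
    let x : Fin 2 ↪ α := ⟨![a, b], by
        intro i j hij
        fin_cases i <;> fin_cases j <;> simp_all⟩
    have : g ∈ stabilizer G x := by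
      show g • x = x
      ext i
      fin_cases i
      · exact ha
      · exact hb
    rw [hsharp, Subgroup.mem_bot] at this
    exact this
  have htr : IsPretransitive G α := isPretransitive_of_is_two_pretransitive
  have hcardG : Fintype.card G = n * (n - 1) := by
    obtain ⟨a1, b1, hab1⟩ := Fintype.exists_pair_of_one_lt_card (α := α) (by omega)
    have h3 : Fintype.card G = (Finset.univ : Finset α).offDiag.card := by
      rw [← Finset.card_univ]
      apply Finset.card_bij (fun g _ => (g • a1, g • b1))
      · intro g _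
        simp only [Finset.mem_offDiag, Finset.mem_univ, true_and]
        exact fun h => hab1 (MulAction.injective g h)
      · intro g _ k _ h
        simp only [Prod.mk.injEq] at h
        have h5 : k⁻¹ * g = 1 := by
          apply htwo _ a1 b1 hab1
          · rw [mul_smul, h.1, inv_smul_smul]
          · rw [mul_smul, h.2, inv_smul_smul]
        exact (inv_mul_eq_one.mp h5).symm
      · rintro ⟨c, d⟩ hcd
        simp only [Finset.mem_offDiag, Finset.mem_univ, true_and] at hcd
        obtain ⟨g, hg1, hg2⟩ := (is_two_pretransitive_iff (G := G) (α := α)).mp inferInstance hab1 hcd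
        exact ⟨g, Finset.mem_univ _, by rw [hg1, hg2]⟩
    rw [h3, Finset.offDiag_card, Finset.card_univ, Nat.mul_sub, mul_one]
  have hn2 : 2 ≤ n := h2
  obtain ⟨a0⟩ : Nonempty α := Fintype.card_pos_iff.mp (by omega)
  -- the fixed-point-free elements
  let A : Finset G := Finset.univ.filter (fun g => ∀ a : α, g • a ≠ a)
  have hAmem : ∀ g, g ∈ A ↔ ∀ a : α, g • a ≠ a := by intro g; simp [A]
  have h1A : (1 : G) ∉ A := by
    rw [hAmem]; intro h; exact h a0 (one_smul _ _)
  have hfix : ∀ g : G, Fintype.card (fixedBy α g) = (if g = 1 then n - 1 else 0) + (if g ∈ A then 0 else 1) := by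
    intro g
    by_cases hg : g = 1
    · subst hg
      rw [if_pos rfl, if_neg h1A]
      have : Fintype.card (fixedBy α (1 : G)) = n := by
        rw [hn]; apply Fintype.card_congr
        exact ⟨fun x => x.1, fun x => ⟨x, one_smul _ _⟩, fun x => rfl, fun x => rfl⟩
      omega
    · rw [if_neg hg, zero_add]
      by_cases hgA : g ∈ A
      · rw [if_pos hgA, Fintype.card_eq_zero_iff]
        exact ⟨fun x => (hAmem g).mp hgA x.1 x.2⟩
      · rw [if_neg hgA, Fintype.card_eq_one_iff]
        rw [hAmem] at hgA
        push Not at hgA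
        obtain ⟨a, ha⟩ := hgA
        refine ⟨⟨a, ha⟩, ?_⟩
        rintro ⟨b, hb⟩
        apply Subtype.ext
        by_contra hne
        exact hg (htwo g b a hne hb ha)
  have hA : A.card = n - 1 := by
    have hb := sum_card_fixedBy_eq_card_orbits_mul_card_group G α
    have h1 : Fintype.card (Quotient (orbitRel G α)) = 1 := by
      rw [Fintype.card_eq_one_iff]
      refine ⟨Quotient.mk'' a0, ?_⟩
      intro y
      induction y using Quotient.inductionOn' with | h y => ?_
      apply Quotient.sound'
      exact exists_smul_eq G a0 y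
    rw [h1, one_mul, Finset.sum_congr rfl (fun g _ => hfix g), Finset.sum_add_distrib, Finset.sum_ite_eq' Finset.univ (1 : G)] at hb
    simp only [Finset.mem_univ, if_true] at hb
    have h3 : (∑ g : G, if g ∈ A then 0 else 1) = Fintype.card G - A.card := by
      rw [Finset.sum_ite, Finset.sum_const_zero, zero_add, Finset.sum_const, smul_eq_mul, mul_one]
      rw [← Finset.card_compl]
      congr 1
      ext g; simp
    rw [h3] at hb
    have h4 : A.card ≤ Fintype.card G := Finset.card_le_univ A
    have h5 : n - 1 ≤ Fintype.card G := by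
      rw [hcardG]; exact Nat.le_mul_of_pos_left _ (by omega)
    omega
  -- centralisers
  have hcentA : ∀ x ∈ A, ∀ g : G, g * x = x * g → g = 1 ∨ g ∈ A := by
    intro x hx g hg
    by_cases hgA : g ∈ A
    · exact Or.inr hgA
    left
    rw [hAmem] at hgA
    push Not at hgA
    obtain ⟨a, ha⟩ := hgA
    refine htwo g (x • a) a ((hAmem x).mp hx a) ?_ ha
    rw [← mul_smul, hg, mul_smul, ha]
  -- the centraliser of x ∈ A as a finset
  let C : G → Finset G := fun x => Finset.univ.filter (fun g => g * x = x * g)
  have hCsub : ∀ x ∈ A, C x ⊆ insert 1 A := by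
    intro x hx g hg
    simp only [C, Finset.mem_filter, Finset.mem_univ, true_and] at hg
    simpa using hcentA x hx g hg
  have hAconj : ∀ x ∈ A, ∀ g : G, g * x * g⁻¹ ∈ A := by
    intro x hx g
    rw [hAmem] at hx ⊢
    intro a ha
    apply hx (g⁻¹ • a)
    rw [mul_smul, mul_smul, smul_eq_iff_eq_inv_smul] at ha
    exact ha
  let cl : G → Finset G := fun x => Finset.univ.image (fun g : G => g * x * g⁻¹)
  have hcl : ∀ x, (cl x).card * (C x).card = Fintype.card G := by
    intro x
    have h1 : ∀ y ∈ cl x, (Finset.univ.filter (fun g : G => g * x * g⁻¹ = y)).card = (C x).card := by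
      intro y hy
      simp only [cl, Finset.mem_image, Finset.mem_univ, true_and] at hy
      obtain ⟨k, rfl⟩ := hy
      apply Finset.card_bij (fun g _ => k⁻¹ * g)
      · intro g hg
        simp only [Finset.mem_filter, Finset.mem_univ, true_and, C] at hg ⊢
        have : g * x = k * x * k⁻¹ * g := by rw [← hg]; group
        calc k⁻¹ * g * x = k⁻¹ * (g * x) := by group
          _ = x * (k⁻¹ * g) := by rw [this]; group
      · intro g _ g' _ h
        exact mul_left_cancel h
      · intro g hg
        simp only [Finset.mem_filter, Finset.mem_univ, true_and, C] at hg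
        refine ⟨k * g, ?_, by group⟩
        simp only [Finset.mem_filter, Finset.mem_univ, true_and]
        calc k * g * x * (k * g)⁻¹ = k * (g * x) * g⁻¹ * k⁻¹ := by group
          _ = k * x * k⁻¹ := by rw [hg]; group
    have h2 := Finset.card_eq_sum_card_fiberwise (f := fun g : G => g * x * g⁻¹) (s := Finset.univ) (t := cl x) (by
      intro g _
      simp [cl])
    rw [Finset.card_univ, Finset.sum_congr rfl h1, Finset.sum_const, smul_eq_mul] at h2
    exact h2.symm
  have hkey : ∀ x ∈ A, C x = insert 1 A ∧ cl x = A := by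
    intro x hx
    have c1 : (C x).card ≤ n := by
      refine (Finset.card_le_card (hCsub x hx)).trans ?_
      rw [Finset.card_insert_of_notMem h1A, hA]; omega
    have hclsub : cl x ⊆ A := by
      intro y hy
      simp only [cl, Finset.mem_image, Finset.mem_univ, true_and] at hy
      obtain ⟨g, rfl⟩ := hy
      exact hAconj x hx g
    have c2 : (cl x).card ≤ n - 1 := by
      rw [← hA]; exact Finset.card_le_card hclsub
    have c3 := hcl x
    rw [hcardG] at c3
    have c4 : (C x).card = n := by
      by_contra hne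
      have hlt : (C x).card < n := lt_of_le_of_ne c1 hne
      have : (cl x).card * (C x).card < n * (n - 1) := by
        calc (cl x).card * (C x).card ≤ (n - 1) * (C x).card := Nat.mul_le_mul_right _ c2
          _ < (n - 1) * n := Nat.mul_lt_mul_of_pos_left hlt (by omega)
          _ = n * (n - 1) := mul_comm _ _
      omega
    have c5 : (cl x).card = n - 1 := by
      rw [c4, mul_comm n (n - 1)] at c3
      exact Nat.eq_of_mul_eq_mul_right (by omega) c3
    constructor
    · apply Finset.eq_of_subset_of_card_le (hCsub x hx)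
      rw [Finset.card_insert_of_notMem h1A, hA, c4]; omega
    · apply Finset.eq_of_subset_of_card_le hclsub
      rw [hA, c5]
  obtain ⟨x0, hx0⟩ : A.Nonempty := by
    rw [← Finset.card_pos, hA]; omega
  have hcomm : ∀ x ∈ insert 1 A, ∀ y ∈ insert (1 : G) A, x * y = y * x := by
    intro x hx y hy
    rcases Finset.mem_insert.mp hx with rfl | hx
    · simp
    · rw [← (hkey x hx).1] at hy
      simp only [C, Finset.mem_filter, Finset.mem_univ, true_and] at hy
      exact hy.symm
  let N : Subgroup G :=
    { carrier := {g | g * x0 = x0 * g}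
      one_mem' := by simp
      mul_mem' := by
        intro g k hg hk
        show g * k * x0 = x0 * (g * k)
        have hg' : g * x0 = x0 * g := hg
        have hk' : k * x0 = x0 * k := hk
        rw [mul_assoc, hk', ← mul_assoc, hg', mul_assoc]
      inv_mem' := by
        intro g hg
        show g⁻¹ * x0 = x0 * g⁻¹
        have hg' : g * x0 = x0 * g := hg
        rw [inv_mul_eq_iff_eq_mul, ← mul_assoc, hg', mul_assoc, mul_inv_cancel, mul_one] }
  have hNmem : ∀ g, g ∈ N ↔ g ∈ insert 1 A := by
    intro g
    rw [← (hkey x0 hx0).1]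
    simp only [C, Finset.mem_filter, Finset.mem_univ, true_and]
    rfl
  have hNcard : Nat.card N = n := by
    have h1 : Nat.card N = (insert 1 A).card := by
      have h0 : Nat.card N = Nat.card ↥(insert 1 A : Finset G) := Nat.card_congr (Equiv.subtypeEquivRight hNmem)
      rw [h0, Nat.card_eq_fintype_card, Fintype.card_coe]
    rw [h1, Finset.card_insert_of_notMem h1A, hA]; omega
  have hNfree : ∀ g ∈ N, ∀ a : α, g • a = a → g = 1 := by
    intro g hg a ha
    rcases Finset.mem_insert.mp ((hNmem g).mp hg) with rfl | hg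
    · rfl
    · exact absurd ha ((hAmem g).mp hg a)
  refine ⟨by rw [Nat.card_eq_fintype_card, hcardG], N, ?_, ?_, ?_, ?_, hNcard, ?_⟩
  · constructor
    intro x hx g
    rw [hNmem] at hx ⊢
    rcases Finset.mem_insert.mp hx with rfl | hx
    · simp
    · exact Finset.mem_insert_of_mem (hAconj x hx g)
  · intro x hx y hy
    exact hcomm x ((hNmem x).mp hx) y ((hNmem y).mp hy)
  · intro g
    rw [hNmem, Finset.mem_insert, hAmem]
  · intro a b
    have hinj : Function.Injective (fun g : N => (g : G) • a) := by
      intro g k h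
      have h' : (g : G) • a = (k : G) • a := h
      have h1 : ((k : G)⁻¹ * (g : G)) = 1 := by
        apply hNfree _ (N.mul_mem (N.inv_mem k.2) g.2) a
        rw [mul_smul, h', inv_smul_smul]
      exact Subtype.ext (inv_mul_eq_one.mp h1).symm
    have hbij : Function.Bijective (fun g : N => (g : G) • a) := by
      rw [Nat.bijective_iff_injective_and_card]
      exact ⟨hinj, by rw [hNcard, Nat.card_eq_fintype_card]⟩
    obtain ⟨g, hg⟩ := hbij.2 b
    exact ⟨g, g.2, hg⟩
  · intro x hx y hy hx1 hy1
    have hxA : x ∈ A := (Finset.mem_insert.mp ((hNmem x).mp hx)).resolve_left hx1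
    have hyA : y ∈ A := (Finset.mem_insert.mp ((hNmem y).mp hy)).resolve_left hy1
    rw [← (hkey x hxA).2] at hyA
    simpa [cl] using hyA

/-- A finite sharply doubly transitive permutation group has degree a prime power `p ^ j`; a Sylow `p`-subgroup is normal, elementary abelian and regular, and consists of the identity together with the elements without fixed points. (Frobenius' Theorem is not needed.) -/
theorem result {α : Type*} [Fintype α] [DecidableEq α] (G : Subgroup (Equiv.Perm α)) [MulAction.IsMultiplyPretransitive G α 2] (hsharp : ∀ x : Fin 2 ↪ α, MulAction.stabilizer G x = ⊥) (h2 : 2 ≤ Fintype.card α) : ∃ p j : ℕ, p.Prime ∧ 1 ≤ j ∧ Fintype.card α = p ^ j ∧ ∀ (hp : Fact p.Prime) (P : Sylow p G), (P : Subgroup G).Normal ∧ IsMulCommutative (P : Subgroup G) ∧ (∀ x ∈ (P : Subgroup G), x ^ p = 1) ∧ MulAction.IsPretransitive (P : Subgroup G) α ∧ (∀ a : α, MulAction.stabilizer (P : Subgroup G) a = ⊥) ∧ ∀ g : G, g ∈ (P : Subgroup G) ↔ g = 1 ∨ ∀ a : α, g • a ≠ a := by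
  classical
  obtain ⟨hG, N, hN, hcomm, hmem, htr, hcard, hconj⟩ := main G hsharp h2
  have hNc1 : Nat.card N ≠ 1 := by omega
  obtain ⟨p, hp, hpd⟩ := Nat.exists_prime_and_dvd hNc1
  haveI hpf : Fact p.Prime := ⟨hp⟩
  obtain ⟨x, hx⟩ := exists_prime_orderOf_dvd_card' (G := N) p hpd
  have hx1 : (x : G) ≠ 1 := by
    intro h
    have : x = 1 := Subtype.ext h
    rw [this, orderOf_one] at hx
    exact hp.one_lt.ne hx
  have hxp : (x : G) ^ p = 1 := by
    have : x ^ p = 1 := by rw [← hx, pow_orderOf_eq_one]
    exact congrArg Subtype.val this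
  have hpow : ∀ y ∈ N, y ^ p = 1 := by
    intro y hy
    by_cases hy1 : y = 1
    · rw [hy1, one_pow]
    obtain ⟨g, rfl⟩ := hconj x x.2 y hy hx1 hy1
    rw [conj_pow, hxp]; group
  have hpg : IsPGroup p N := fun y => ⟨1, by rw [pow_one]; exact Subtype.ext (hpow y y.2)⟩
  obtain ⟨j, hj⟩ := IsPGroup.iff_card.mp hpg
  have hj1 : 1 ≤ j := by
    by_contra h
    have : j = 0 := by omega
    rw [this, pow_zero] at hj
    omega
  refine ⟨p, j, hp, hj1, by rw [← hcard, hj], ?_⟩
  intro _ P
  have hPN : (P : Subgroup G) = N := by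
    have hidx : ¬ p ∣ N.index := by
      intro hdiv
      have h1 := N.index_mul_card
      rw [hG, hcard] at h1
      have h3 : N.index = Fintype.card α - 1 := by
        have : N.index * Fintype.card α = (Fintype.card α - 1) * Fintype.card α := by rw [h1, mul_comm]
        exact Nat.eq_of_mul_eq_mul_right (by omega) this
      rw [h3] at hdiv
      have h4 : p ∣ Fintype.card α := by rw [← hcard]; exact hpd
      have h5 : p ∣ 1 := by
        have h6 := Nat.dvd_sub h4 hdiv
        have h7 : Fintype.card α - (Fintype.card α - 1) = 1 := by omega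
        rwa [h7] at h6
      exact hp.one_lt.ne' (Nat.dvd_one.mp h5)
    let Q : Sylow p G := IsPGroup.toSylow hpg hidx
    have hQ : (Q : Subgroup G) = N := rfl
    have hQn : (Q : Subgroup G).Normal := by rw [hQ]; exact hN
    obtain ⟨g, hg⟩ := MulAction.exists_smul_eq G Q P
    rw [Sylow.smul_eq_of_normal] at hg
    rw [← hg, hQ]
  rw [hPN]
  refine ⟨hN, ⟨⟨fun x y => Subtype.ext (hcomm x x.2 y y.2)⟩⟩, hpow, ⟨fun a b => ?_⟩, ?_, hmem⟩
  · obtain ⟨g, hg, hgab⟩ := htr a b
    exact ⟨⟨g, hg⟩, hgab⟩
  · intro a
    rw [eq_bot_iff]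
    intro g hg
    rw [Subgroup.mem_bot]
    apply Subtype.ext
    rcases (hmem g).mp g.2 with h | h
    · exact h
    · exact absurd hg (h a)

end Cfsg.Agent.S0680
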