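import Cfsg.Statements.S0683
import Mathlib
import Cfsg.Agent.S0680
-- import your own Cfsg.Agent.* helpers here

set_option autoImplicit false
open Cfsg

namespace Cfsg.Agent.S0683



/-- A finite sharply doubly transitive permutation group is the affine group of a near-field: the permuted set carries a near-field structure for which the group consists exactly of the maps `x ↦ x * a + b` with `a ≠ 0`. -/
theorem result {α : Type*} [Fintype α] [DecidableEq α] (H : Subgroup (Equiv.Perm α)) [MulAction.IsMultiplyPretransitive H α 2] (hsharp : ∀ x : Fin 2 ↪ α, MulAction.stabilizer H x = ⊥) (h2 : 2 ≤ Fintype.card α) : ∃ _ : Cfsg.NearField α, ∀ σ : Equiv.Perm α, σ ∈ H ↔ ∃ a b : α, a ≠ 0 ∧ ∀ x : α, σ x = x * a + b := by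
  classical
  obtain ⟨hG, N, hN, hcomm, hmem, htr, hcard, hconj⟩ := Cfsg.Agent.S0680.main H hsharp h2
  -- base points
  obtain ⟨o, e, hoe⟩ := Fintype.exists_pair_of_one_lt_card (α := α) (by omega)
  have htwo : ∀ (g : H) (a b : α), a ≠ b → g • a = a → g • b = b → g = 1 := by
    intro g a b hab ha hb
    let x : Fin 2 ↪ α := ⟨![a, b], by
        intro i j hij
        fin_cases i <;> fin_cases j <;> simp_all⟩
    have : g ∈ MulAction.stabilizer H x := by
      show g • x = x
      ext i
      fin_cases i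
      · exact ha
      · exact hb
    rw [hsharp, Subgroup.mem_bot] at this
    exact this
  have hNfree : ∀ g ∈ N, ∀ k ∈ N, ∀ a : α, g • a = k • a → g = k := by
    intro g hg k hk a h
    have h1 : k⁻¹ * g ∈ N := N.mul_mem (N.inv_mem hk) hg
    rcases (hmem _).mp h1 with h | h'
    · exact (inv_mul_eq_one.mp h).symm
    · exact absurd (by rw [mul_smul, h, inv_smul_smul]) (h' a)
  -- translations
  have hτ : ∀ x : α, ∃ g ∈ N, g • o = x := fun x => htr o x
  choose τ hτN hτo using hτ
  -- multiplications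
  have hσ : ∀ a : α, ∃ g : H, a ≠ o → (g • o = o ∧ g • e = a) := by
    intro a
    by_cases ha : a = o
    · exact ⟨1, fun h => absurd ha h⟩
    · obtain ⟨g, hg⟩ := (MulAction.is_two_pretransitive_iff (G := H) (α := α)).mp inferInstance hoe (Ne.symm ha)
      exact ⟨g, fun _ => hg⟩
  choose σ hσ using hσ
  have hσu : ∀ (a : α) (g : H), a ≠ o → g • o = o → g • e = a → g = σ a := by
    intro a g ha h1 h2'
    have h3 : (σ a)⁻¹ * g = 1 := by
      apply htwo _ o e hoe
      · rw [mul_smul, h1, inv_smul_eq_iff, (hσ a ha).1]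
      · rw [mul_smul, h2', inv_smul_eq_iff, (hσ a ha).2]
    exact (inv_mul_eq_one.mp h3).symm
  have hτu : ∀ (x : α) (g : H), g ∈ N → g • o = x → g = τ x := by
    intro x g hg h
    exact hNfree g hg _ (hτN x) o (by rw [h, hτo])
  have hτadd : ∀ x y : α, τ (τ y • x) = τ y * τ x := by
    intro x y
    exact (hτu _ _ (N.mul_mem (hτN y) (hτN x)) (by rw [mul_smul, hτo])).symm
  have hτcomm : ∀ x y : α, τ x * τ y = τ y * τ x := fun x y => hcomm _ (hτN x) _ (hτN y)
  have hτ0 : τ o = 1 := (hτu o 1 N.one_mem (one_smul _ _)).symm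
  have hστ : ∀ a x : α, a ≠ o → σ a * τ x * (σ a)⁻¹ = τ (σ a • x) := by
    intro a x ha
    apply hτu _ _ (hN.conj_mem _ (hτN x) _)
    rw [mul_smul, mul_smul, show (σ a)⁻¹ • o = o from by rw [inv_smul_eq_iff, (hσ a ha).1], hτo]
  let ad : α → α → α := fun x y => τ y • x
  let mu : α → α → α := fun x a => if a = o then o else σ a • x
  have hmu0 : ∀ x, mu x o = o := fun x => if_pos rfl
  have hmu1 : ∀ x a, a ≠ o → mu x a = σ a • x := fun x a h => if_neg h
  have h0mu : ∀ a, mu o a = o := by
    intro a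
    by_cases h : a = o
    · rw [h, hmu0]
    · rw [hmu1 _ _ h, (hσ a h).1]
  have hσne : ∀ a x, a ≠ o → x ≠ o → σ a • x ≠ o := by
    intro a x ha hx h
    rw [← (hσ a ha).1] at h
    exact hx (MulAction.injective _ h)
  have hσmul : ∀ a b, a ≠ o → b ≠ o → σ (σ b • a) = σ b * σ a := by
    intro a b ha hb
    symm
    apply hσu _ _ (hσne b a hb ha)
    · rw [mul_smul, (hσ a ha).1, (hσ b hb).1]
    · rw [mul_smul, (hσ a ha).2]
  have hσe : σ e = 1 := (hσu e 1 (Ne.symm hoe) (one_smul _ _) (one_smul _ _)).symm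
  have hadeq : ∀ x y, ad x y = (τ y * τ x) • o := by
    intro x y
    show τ y • x = _
    rw [mul_smul, hτo]
  have had_comm : ∀ x y, ad x y = ad y x := by
    intro x y
    rw [hadeq, hadeq, hτcomm]
  have had_assoc : ∀ x y z, ad (ad x y) z = ad x (ad y z) := by
    intro x y z
    show τ z • τ y • x = τ (τ z • y) • x
    rw [hτadd, mul_smul]
  have hneg : ∀ x, ad (((τ x)⁻¹ : H) • o) x = o := by
    intro x
    show τ x • (τ x)⁻¹ • o = o
    rw [smul_inv_smul]
  have hmu_assoc : ∀ x a b, mu (mu x a) b = mu x (mu a b) := by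
    intro x a b
    by_cases hb : b = o
    · rw [hb, hmu0, hmu0, hmu0]
    by_cases ha : a = o
    · rw [ha, hmu0, h0mu, hmu0]
    rw [hmu1 _ _ ha, hmu1 _ _ hb, hmu1 _ _ hb, hmu1 _ _ (hσne b a hb ha), hσmul a b ha hb, mul_smul]
  have hdistrib : ∀ x y a, mu (ad x y) a = ad (mu x a) (mu y a) := by
    intro x y a
    by_cases ha : a = o
    · rw [ha, hmu0, hmu0, hmu0]
      show o = τ o • o
      rw [hτ0, one_smul]
    rw [hmu1 _ _ ha, hmu1 _ _ ha, hmu1 _ _ ha]
    show σ a • (τ y • x) = τ (σ a • y) • (σ a • x)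
    rw [← hστ a y ha, mul_smul, mul_smul, inv_smul_smul]
  let addG : AddGroup α :=
    { add := ad
      zero := o
      neg := fun x => ((τ x)⁻¹ : H) • o
      add_assoc := had_assoc
      zero_add := fun x => by
        show τ x • o = x
        exact hτo x
      add_zero := fun x => by
        show τ o • x = x
        rw [hτ0, one_smul]
      nsmul := @nsmulRec α ⟨o⟩ ⟨ad⟩
      zsmul := @zsmulRec α ⟨o⟩ ⟨ad⟩ ⟨fun x => ((τ x)⁻¹ : H) • o⟩ (@nsmulRec α ⟨o⟩ ⟨ad⟩)
      neg_add_cancel := fun x => hneg x }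
  let mulM : Monoid α :=
    { mul := mu
      one := e
      mul_assoc := hmu_assoc
      one_mul := fun a => by
        show mu e a = a
        by_cases ha : a = o
        · rw [ha, hmu0]
        · rw [hmu1 _ _ ha, (hσ a ha).2]
      mul_one := fun x => by
        show mu x e = x
        rw [hmu1 _ _ (Ne.symm hoe), hσe, one_smul] }
  let NF : Cfsg.NearField α :=
    { addG, mulM with
      right_distrib := hdistrib
      mul_zero := hmu0
      zero_ne_one := hoe
      exists_inv := fun a ha => by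
        have ha' : a ≠ o := ha
        have h1 : (σ a)⁻¹ • o = o := by rw [inv_smul_eq_iff, (hσ a ha').1]
        have hb : (σ a)⁻¹ • e ≠ o := by
          intro h
          rw [← h1] at h
          exact hoe (MulAction.injective _ h).symm
        have hσb : σ ((σ a)⁻¹ • e) = (σ a)⁻¹ := (hσu _ _ hb h1 rfl).symm
        refine ⟨(σ a)⁻¹ • e, ?_, ?_⟩
        · show mu a _ = e
          rw [hmu1 _ _ hb, hσb, inv_smul_eq_iff, (hσ a ha').2]
        · show mu _ a = e
          rw [hmu1 _ _ ha', smul_inv_smul] }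
  refine ⟨NF, ?_⟩
  intro s
  constructor
  · intro hs
    let g : H := ⟨s, hs⟩
    let b : α := g • o
    let k : H := (τ b)⁻¹ * g
    have hk0 : k • o = o := by
      show ((τ b)⁻¹ * g) • o = o
      rw [mul_smul, inv_smul_eq_iff, hτo]
    have hke : k • e ≠ o := by
      intro h
      rw [← hk0] at h
      exact hoe (MulAction.injective _ h).symm
    have hkσ : k = σ (k • e) := hσu _ _ hke hk0 rfl
    refine ⟨k • e, b, hke, ?_⟩
    intro x
    show s x = ad (mu x (k • e)) b
    rw [hmu1 _ _ hke, ← hkσ]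
    show s x = τ b • k • x
    rw [← mul_smul]
    show s x = (τ b * ((τ b)⁻¹ * g)) • x
    rw [mul_inv_cancel_left]
    rfl
  · rintro ⟨a, b, ha, h⟩
    have ha' : a ≠ o := ha
    have : s = ((τ b * σ a : H) : Equiv.Perm α) := by
      ext x
      rw [h x]
      show ad (mu x a) b = _
      rw [hmu1 _ _ ha']
      rfl
    rw [this]
    exact (τ b * σ a).2

end Cfsg.Agent.S0683
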