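import Cfsg.Agent.EqBase
import Cfsg.Agent.S0683
import Cfsg.Agent.LibDkH29

set_option autoImplicit false

/-! Sharply 3-transitive groups of degree 2^f + 1 (seat helper8). -/

namespace CfsgLib.S3T8

open MulAction Matrix OnePoint Cfsg
open scoped MatrixGroups

universe u v

/-- a commutative near-field is a field -/
theorem exists_field {β : Type v} [Fintype β] (nf : NearField β)
    (hcomm : ∀ a b : β, a * b = b * a) {f : ℕ} (hf : 1 ≤ f) (hc : Fintype.card β = 2 ^ f) :
    ∃ (F : Type) (_ : Field F) (_ : Fintype F), Fintype.card F = 2 ^ f ∧ ∃ θ : β ≃ F,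
      θ 0 = 0 ∧ θ 1 = 1 ∧ (∀ x y : β, θ (x + y) = θ x + θ y) ∧ (∀ x y : β, θ (x * y) = θ x * θ y) := by
  classical
  have hrd : ∀ a b c : β, (a + b) * c = a * c + b * c := nf.right_distrib
  have hld : ∀ a b c : β, a * (b + c) = a * b + a * c := by
    intro a b c; rw [hcomm, hrd, hcomm b, hcomm c]
  have hac : ∀ a b : β, a + b = b + a := by
    intro a b
    have h1 : (1 + 1) * (a + b) = (a + b) + (a + b) := by rw [hrd, one_mul]
    have h2 : (1 + 1) * (a + b) = (a + a) + (b + b) := by rw [hld, hrd, hrd, one_mul, one_mul]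
    rw [h1] at h2
    have h3 : a + (b + a) + b = a + (a + b) + b := by
      rw [← add_assoc, ← add_assoc, add_assoc (a + b), add_assoc (a + a)]; exact h2
    exact (add_left_cancel (add_right_cancel h3)).symm
  have hzm : ∀ a : β, 0 * a = 0 := fun a => by rw [hcomm]; exact nf.mul_zero a
  letI cr : CommRing β :=
    { add := fun a b => a + b
      add_assoc := add_assoc
      zero := 0
      zero_add := zero_add
      add_zero := add_zero
      add_comm := hac
      neg := fun a => -a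
      neg_add_cancel := fun a => neg_add_cancel a
      sub := fun a b => a - b
      sub_eq_add_neg := fun a b => sub_eq_add_neg a b
      npow := fun n a => a ^ n
      npow_zero := fun a => pow_zero a
      npow_succ := fun n a => pow_succ a n
      nsmul := nsmulRec
      zsmul := zsmulRec
      mul := fun a b => a * b
      mul_assoc := mul_assoc
      one := 1
      one_mul := one_mul
      mul_one := mul_one
      left_distrib := hld
      right_distrib := hrd
      zero_mul := hzm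
      mul_zero := nf.mul_zero
      mul_comm := hcomm }
  have hfield : @IsField β cr.toSemiring := by
    refine ⟨⟨0, 1, nf.zero_ne_one⟩, hcomm, ?_⟩
    intro a ha
    obtain ⟨b, hb, -⟩ := nf.exists_inv a ha
    exact ⟨b, hb⟩
  letI fl : Field β := hfield.toField
  haveI : Fact (Nat.Prime 2) := ⟨Nat.prime_two⟩
  letI : Fintype (GaloisField 2 f) := Fintype.ofFinite _
  have hcg : Fintype.card (GaloisField 2 f) = 2 ^ f := by
    rw [← Nat.card_eq_fintype_card]
    exact GaloisField.card 2 f (by omega)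
  let θ : β ≃+* GaloisField 2 f := FiniteField.ringEquivOfCardEq (hc.trans hcg.symm)
  exact ⟨GaloisField 2 f, inferInstance, inferInstance, hcg, θ.toEquiv, map_zero θ, map_one θ,
    fun x y => map_add θ x y, fun x y => map_mul θ x y⟩

section rec
variable {G : Type u} [Group G] {Ω : Type v} [MulAction G Ω] {F : Type} [Field F] [DecidableEq F]

/-- realized by a projectivity -/
def Good (e : Ω ≃ OnePoint F) (g : G) : Prop := ∃ h : PGL(2, F), ∀ x : Ω, e (g • x) = h • e x

theorem Good.mul {e : Ω ≃ OnePoint F} {g k : G} (hg : Good e g) (hk : Good e k) : Good e (g * k) := by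
  obtain ⟨a, ha⟩ := hg
  obtain ⟨b, hb⟩ := hk
  exact ⟨a * b, fun x => by rw [mul_smul, ha, hb, mul_smul]⟩

theorem Good.inv {e : Ω ≃ OnePoint F} {g : G} (hg : Good e g) : Good e g⁻¹ := by
  obtain ⟨a, ha⟩ := hg
  refine ⟨a⁻¹, fun x => ?_⟩
  rw [eq_inv_smul_iff, ← ha, smul_inv_smul]

theorem equiv_of_good {e : Ω ≃ OnePoint F} (hgood : ∀ g : G, Good e g)
    (h3 : ∀ a b c a' b' c' : Ω, a ≠ b → a ≠ c → b ≠ c → a' ≠ b' → a' ≠ c' → b' ≠ c' →
      ∃ g : G, g • a = a' ∧ g • b = b' ∧ g • c = c')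
    (hs : ∀ (g : G) (a b c : Ω), a ≠ b → a ≠ c → b ≠ c → g • a = a → g • b = b → g • c = c → g = 1) :
    Nonempty (G ≃* PGL(2, F)) := by
  choose φ hφ using hgood
  have h01 : ((0 : F) : OnePoint F) ≠ ((1 : F) : OnePoint F) := fun h => zero_ne_one (OnePoint.coe_injective h)
  have hi0 : (∞ : OnePoint F) ≠ ((0 : F) : OnePoint F) := OnePoint.infty_ne_coe _
  have hi1 : (∞ : OnePoint F) ≠ ((1 : F) : OnePoint F) := OnePoint.infty_ne_coe _
  have hext : ∀ h k : PGL(2, F), (∀ x : OnePoint F, h • x = k • x) → h = k := fun h k hk =>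
    CfsgLib.Dk29.pgl_ext h k (hk _) (hk _) (hk _)
  let Φ : G →* PGL(2, F) := MonoidHom.mk' φ (by
    intro g k
    apply hext
    intro x
    obtain ⟨y, rfl⟩ := e.surjective x
    rw [← hφ, mul_smul, hφ, hφ, mul_smul])
  have hΦ : ∀ g x, e (g • x) = Φ g • e x := hφ
  refine ⟨MulEquiv.ofBijective Φ ⟨?_, ?_⟩⟩
  · rw [injective_iff_map_eq_one]
    intro g hg
    have h1 : ∀ x : Ω, g • x = x := by
      intro x
      apply e.injective
      rw [hΦ, hg, one_smul]
    exact hs g (e.symm ∞) (e.symm ((0 : F) : OnePoint F)) (e.symm ((1 : F) : OnePoint F))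
      (fun h => hi0 (e.symm.injective h)) (fun h => hi1 (e.symm.injective h))
      (fun h => h01 (e.symm.injective h)) (h1 _) (h1 _) (h1 _)
  · intro h
    have hinj : ∀ {x y : OnePoint F}, x ≠ y → e.symm (h • x) ≠ e.symm (h • y) := fun hxy h' =>
      hxy (MulAction.injective h (e.symm.injective h'))
    obtain ⟨g, g1, g2, g3⟩ := h3 (e.symm ∞) (e.symm ((0 : F) : OnePoint F)) (e.symm ((1 : F) : OnePoint F))
      (e.symm (h • ∞)) (e.symm (h • ((0 : F) : OnePoint F))) (e.symm (h • ((1 : F) : OnePoint F)))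
      (fun h => hi0 (e.symm.injective h)) (fun h => hi1 (e.symm.injective h))
      (fun h => h01 (e.symm.injective h)) (hinj hi0) (hinj hi1) (hinj h01)
    refine ⟨g, ?_⟩
    have key : ∀ x : OnePoint F, g • e.symm x = e.symm (h • x) → Φ g • x = h • x := by
      intro x hx
      have h1 := hΦ g (e.symm x)
      rw [hx, Equiv.apply_symm_apply, Equiv.apply_symm_apply] at h1
      exact h1.symm
    exact CfsgLib.Dk29.pgl_ext _ _ (key _ g1) (key _ g2) (key _ g3)

end rec

/-- explicit projectivities -/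
theorem exists_affine {F : Type} [Field F] [DecidableEq F] (a b : F) (ha : a ≠ 0) :
    ∃ h : PGL(2, F), h • (∞ : OnePoint F) = ∞ ∧ ∀ x : F, h • (x : OnePoint F) = ((x * a + b : F) : OnePoint F) := by
  let M : Matrix (Fin 2) (Fin 2) F := !![a, b; 0, 1]
  have hM : M.det ≠ 0 := by simp [M, Matrix.det_fin_two, ha]
  let g : GL (Fin 2) F := Matrix.GeneralLinearGroup.mkOfDetNeZero M hM
  have h00 : g 0 0 = a := rfl
  have h01 : g 0 1 = b := rfl
  have h10 : g 1 0 = 0 := rfl
  have h11 : g 1 1 = 1 := rfl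
  refine ⟨ProjGenLinGroup.mk g, ?_, ?_⟩
  · rw [CfsgLib.Dk29.mk_smul', OnePoint.smul_infty_eq_ite, h10, if_pos rfl]
  · intro x
    rw [CfsgLib.Dk29.mk_smul', OnePoint.smul_some_eq_ite, h00, h01, h10, h11]
    rw [if_neg (by simp)]
    congr 1
    rw [zero_mul, zero_add, div_one, mul_comm]

theorem exists_inversion (F : Type) [Field F] [DecidableEq F] :
    ∃ h : PGL(2, F), h • (∞ : OnePoint F) = ((0 : F) : OnePoint F) ∧ h • ((0 : F) : OnePoint F) = ∞ ∧
      ∀ x : F, x ≠ 0 → h • (x : OnePoint F) = ((x⁻¹ : F) : OnePoint F) := by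
  let M : Matrix (Fin 2) (Fin 2) F := !![0, 1; 1, 0]
  have hM : M.det ≠ 0 := by simp [M, Matrix.det_fin_two]
  let g : GL (Fin 2) F := Matrix.GeneralLinearGroup.mkOfDetNeZero M hM
  have h00 : g 0 0 = 0 := rfl
  have h01 : g 0 1 = 1 := rfl
  have h10 : g 1 0 = 1 := rfl
  have h11 : g 1 1 = 0 := rfl
  refine ⟨ProjGenLinGroup.mk g, ?_, ?_, ?_⟩
  · rw [CfsgLib.Dk29.mk_smul', OnePoint.smul_infty_eq_ite, h10, if_neg one_ne_zero, h00, zero_div]
  · rw [CfsgLib.Dk29.mk_smul', OnePoint.smul_some_eq_ite, h10, h11, if_pos (by simp)]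
  · intro x hx
    rw [CfsgLib.Dk29.mk_smul', OnePoint.smul_some_eq_ite, h00, h01, h10, h11]
    rw [if_neg (by simpa using hx)]
    congr 1
    rw [one_mul, add_zero, zero_mul, zero_add, one_div]

/-- **main theorem** -/
theorem main {G : Type u} [Group G] {Ω : Type v} [Fintype Ω] [MulAction G Ω] {f : ℕ} (hf : 1 ≤ f)
    (hΩ : Fintype.card Ω = 2 ^ f + 1)
    (h3 : ∀ a b c a' b' c' : Ω, a ≠ b → a ≠ c → b ≠ c → a' ≠ b' → a' ≠ c' → b' ≠ c' →
      ∃ g : G, g • a = a' ∧ g • b = b' ∧ g • c = c')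
    (hs : ∀ (g : G) (a b c : Ω), a ≠ b → a ≠ c → b ≠ c → g • a = a → g • b = b → g • c = c → g = 1) :
    ∃ (F : Type) (_ : Field F) (_ : Fintype F), Fintype.card F = 2 ^ f ∧ Nonempty (G ≃* PGL(2, F)) := by
  classical
  have hf2 : 2 ≤ 2 ^ f := by
    calc 2 = 2 ^ 1 := by norm_num
      _ ≤ 2 ^ f := Nat.pow_le_pow_right (by norm_num) hf
  haveI : Nonempty Ω := Fintype.card_pos_iff.1 (by omega)
  obtain ⟨p⟩ := (inferInstance : Nonempty Ω)
  let β := {x : Ω // x ≠ p}
  have hβ : Fintype.card β = 2 ^ f := by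
    rw [Fintype.card_subtype_compl, Fintype.card_subtype_eq, hΩ]; simp
  let N := stabilizer G p
  have hN : ∀ (g : N) (x : β), (g : G) • x.1 ≠ p := by
    intro g x h
    apply x.2
    have h1 : (g : G) • p = p := g.2
    exact MulAction.injective (g : G) (h.trans h1.symm)
  let ψ : N →* Equiv.Perm β :=
    { toFun := fun g =>
        { toFun := fun x => ⟨(g : G) • x.1, hN g x⟩
          invFun := fun x => ⟨((g⁻¹ : N) : G) • x.1, hN g⁻¹ x⟩
          left_inv := fun x => Subtype.ext (inv_smul_smul (g : G) x.1)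
          right_inv := fun x => Subtype.ext (smul_inv_smul (g : G) x.1) }
      map_one' := Equiv.ext fun x => Subtype.ext (one_smul G x.1)
      map_mul' := fun g h => Equiv.ext fun x => Subtype.ext (mul_smul (g : G) (h : G) x.1) }
  have hψ : ∀ (g : N) (x : β), ((ψ g x : β) : Ω) = (g : G) • x.1 := fun g x => rfl
  -- apply the near-field theorem
  haveI h2t : IsMultiplyPretransitive ψ.range β 2 := by
    rw [is_two_pretransitive_iff]
    intro a b c d hab hcd
    obtain ⟨g, g1, g2, g3⟩ := h3 p a b p c d a.2.symm b.2.symm (fun h => hab (Subtype.ext h))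
      c.2.symm d.2.symm (fun h => hcd (Subtype.ext h))
    exact ⟨⟨ψ ⟨g, g1⟩, ⟨_, rfl⟩⟩, Subtype.ext g2, Subtype.ext g3⟩
  have hsharp : ∀ x : Fin 2 ↪ β, stabilizer ψ.range x = ⊥ := by
    intro x
    rw [Subgroup.eq_bot_iff_forall]
    rintro ⟨_, g, rfl⟩ hg
    have h1 : ∀ i, ψ g (x i) = x i := fun i => congrArg (fun y : Fin 2 ↪ β => y i) hg
    have hne : x 0 ≠ x 1 := fun h => absurd (x.injective h) (by decide)
    have h2 : (g : G) = 1 := hs g p (x 0) (x 1) (x 0).2.symm (x 1).2.symm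
      (fun h => hne (Subtype.ext h)) g.2 (congrArg Subtype.val (h1 0)) (congrArg Subtype.val (h1 1))
    have h3 : g = 1 := Subtype.ext h2
    apply Subtype.ext
    change ψ g = 1
    rw [h3, map_one]
  obtain ⟨nf, hnf⟩ := Cfsg.Agent.S0683.result ψ.range hsharp (by rw [hβ]; exact hf2)
  have hzm : ∀ a : β, 0 * a = 0 := by
    intro a
    have h1 := nf.right_distrib 0 0 a
    rw [add_zero] at h1
    exact (add_eq_left.1 h1.symm)
  -- the stabilizer consists of the affine maps
  have haff : ∀ g : G, g • p = p → ∃ a b : β, a ≠ 0 ∧ ∀ x : β, g • x.1 = ((x * a + b : β) : Ω) := by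
    intro g hg
    obtain ⟨a, b, ha, h⟩ := (hnf (ψ ⟨g, hg⟩)).1 ⟨_, rfl⟩
    exact ⟨a, b, ha, fun x => congrArg Subtype.val (h x)⟩
  have haff' : ∀ a b : β, a ≠ 0 → ∃ g : G, g • p = p ∧ ∀ x : β, g • x.1 = ((x * a + b : β) : Ω) := by
    intro a b ha
    obtain ⟨a', ha1, ha2⟩ := nf.exists_inv a ha
    let σ : Equiv.Perm β :=
      { toFun := fun x => x * a + b
        invFun := fun x => (x - b) * a'
        left_inv := fun x => by
          change (x * a + b - b) * a' = x
          rw [add_sub_cancel_right, mul_assoc, ha1, mul_one]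
        right_inv := fun x => by
          change (x - b) * a' * a + b = x
          rw [mul_assoc, ha2, mul_one, sub_add_cancel] }
    obtain ⟨g, hg⟩ := (hnf σ).2 ⟨a, b, ha, fun x => rfl⟩
    refine ⟨g, g.2, fun x => ?_⟩
    have h1 : ψ g x = σ x := by rw [hg]
    exact congrArg Subtype.val h1
  -- the inversion
  have h01 : (0 : β) ≠ 1 := nf.zero_ne_one
  obtain ⟨u, u1, u2, u3⟩ := h3 ((0 : β) : Ω) p ((1 : β) : Ω) p ((0 : β) : Ω) ((1 : β) : Ω)
    (0 : β).2 (fun h => h01 (Subtype.ext h)) (1 : β).2.symm (0 : β).2.symm (1 : β).2.symm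
    (fun h => h01 (Subtype.ext h))
  have huu : u * u = 1 := by
    apply hs _ p ((0 : β) : Ω) ((1 : β) : Ω) (0 : β).2.symm (1 : β).2.symm (fun h => h01 (Subtype.ext h))
    · rw [mul_smul, u2, u1]
    · rw [mul_smul, u1, u2]
    · rw [mul_smul, u3, u3]
  have huu' : ∀ x : Ω, u • u • x = x := fun x => by rw [← mul_smul, huu, one_smul]
  have hνp : ∀ x : β, x ≠ 0 → u • x.1 ≠ p := by
    intro x hx h
    apply hx
    exact Subtype.ext (MulAction.injective u (h.trans u1.symm))
  have hν0 : ∀ x : β, (hx : x ≠ 0) → (⟨u • x.1, hνp x hx⟩ : β) ≠ 0 := by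
    intro x hx h
    have h1 : u • x.1 = ((0 : β) : Ω) := congrArg Subtype.val h
    exact x.2 (MulAction.injective u (h1.trans u2.symm))
  -- multiplicativity
  have hmul : ∀ x a : β, (hx : x ≠ 0) → (ha : a ≠ 0) → (hxa : x * a ≠ 0) →
      (⟨u • (x * a).1, hνp _ hxa⟩ : β) = ⟨u • x.1, hνp x hx⟩ * ⟨u • a.1, hνp a ha⟩ := by
    intro x a hx ha hxa
    obtain ⟨g, g1, g2⟩ := haff' a 0 ha
    have g2' : ∀ x : β, g • x.1 = ((x * a : β) : Ω) := fun x => by rw [g2, add_zero]
    obtain ⟨c, d, hc, hcd⟩ := haff (u * g * u) (by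
      rw [mul_smul, mul_smul, u2, g2', hzm, u1])
    have hd : d = 0 := by
      have h1 := hcd 0
      rw [mul_smul, mul_smul, u1, g1, u2, hzm, zero_add] at h1
      exact (Subtype.ext h1).symm
    have hc' : c = ⟨u • a.1, hνp a ha⟩ := by
      have h1 := hcd 1
      rw [mul_smul, mul_smul, u3, g2', one_mul, one_mul, hd, add_zero] at h1
      exact (Subtype.ext h1).symm
    apply Subtype.ext
    have h1 := hcd ⟨u • x.1, hνp x hx⟩
    rw [mul_smul, mul_smul, huu', g2', hd, add_zero, hc'] at h1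
    exact h1
  -- the units
  have hu0 : ∀ x : βˣ, (x : β) ≠ 0 := by
    intro x hx
    apply h01
    rw [← x.mul_inv, hx, hzm]
  have h0u : ∀ x : β, x ≠ 0 → ∃ y : βˣ, (y : β) = x := by
    intro x hx
    obtain ⟨y, hy1, hy2⟩ := nf.exists_inv x hx
    exact ⟨⟨x, y, hy1, hy2⟩, rfl⟩
  have hex : ∀ x : βˣ, ∃ y : βˣ, (y : β) = ⟨u • (x : β).1, hνp x (hu0 x)⟩ := fun x =>
    h0u _ (hν0 x (hu0 x))
  choose ν hν using hex
  have hνv : ∀ x : βˣ, ((ν x : β) : Ω) = u • (x : β).1 := fun x => congrArg Subtype.val (hν x)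
  let νh : βˣ →* βˣ := MonoidHom.mk' ν (by
    intro x y
    apply Units.ext
    have h1 := hmul x y (hu0 x) (hu0 y) (hu0 (x * y))
    have h2 : ((ν x * ν y : βˣ) : β) = ⟨u • (x : β).1, hνp x (hu0 x)⟩ * ⟨u • (y : β).1, hνp y (hu0 y)⟩ := by
      rw [Units.val_mul, hν, hν]
    exact (hν (x * y)).trans (h1.trans h2.symm))
  have hinvol : Function.Involutive νh := by
    intro x
    apply Units.ext
    apply Subtype.ext
    change (((ν (ν x) : βˣ) : β) : Ω) = _
    rw [hνv, hνv, huu']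
  haveI : Finite βˣ := Finite.of_injective (fun x : βˣ => (x : β)) Units.val_injective
  have hodd : Odd (Nat.card βˣ) := by
    have h1 : Nat.card βˣ = 2 ^ f - 1 := by
      have e : βˣ ≃ {x : β // x ≠ 0} :=
        Equiv.ofBijective (fun x => ⟨(x : β), hu0 x⟩) ⟨fun x y h => Units.ext (congrArg Subtype.val h),
          fun x => by
            obtain ⟨y, hy⟩ := h0u x.1 x.2
            exact ⟨y, Subtype.ext hy⟩⟩
      rw [Nat.card_congr e, Nat.card_eq_fintype_card, Fintype.card_subtype_compl,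
        Fintype.card_subtype_eq, hβ]
    rw [h1]
    obtain ⟨j, rfl⟩ : ∃ j, f = j + 1 := ⟨f - 1, by omega⟩
    rw [pow_succ]
    exact ⟨2 ^ j - 1, by omega⟩
  have hfpf : MonoidHom.FixedPointFree νh := by
    intro x hx
    by_contra hx1
    have hx' : u • (x : β).1 = (x : β).1 := by
      rw [← hνv]
      exact congrArg (fun y : βˣ => ((y : β) : Ω)) hx
    have hxx : u • ((x * x : βˣ) : β).1 = ((x * x : βˣ) : β).1 := by
      rw [← hνv]
      have : νh (x * x) = x * x := by rw [map_mul, hx]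
      exact congrArg (fun y : βˣ => ((y : β) : Ω)) this
    have hxx1 : x * x ≠ 1 := by
      intro h
      have h1 : orderOf x ∣ 2 := orderOf_dvd_of_pow_eq_one (by rw [pow_two]; exact h)
      rcases (Nat.dvd_prime Nat.prime_two).1 h1 with h2 | h2
      · exact hx1 (orderOf_eq_one_iff.1 h2)
      · have h3 := orderOf_dvd_natCard x
        rw [h2] at h3
        exact (Nat.not_even_iff_odd.2 hodd) (even_iff_two_dvd.2 h3)
    have hu : u = 1 := by
      apply hs u ((1 : β) : Ω) (x : β).1 ((x * x : βˣ) : β).1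
      · intro h; apply hx1; exact (Units.ext (Subtype.ext h)).symm
      · intro h; apply hxx1; exact (Units.ext (Subtype.ext h)).symm
      · intro h
        have h1 : x = x * x := Units.ext (Subtype.ext h)
        exact hx1 (mul_eq_left.1 h1.symm)
      · exact u3
      · exact hx'
      · exact hxx
    rw [hu, one_smul] at u1
    exact (0 : β).2 u1
  have hcommU : ∀ x y : βˣ, x * y = y * x := fun x y => (hfpf.commute_all_of_involutive hinvol x y).eq
  have hcomm : ∀ a b : β, a * b = b * a := by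
    intro a b
    by_cases ha : a = 0
    · rw [ha, hzm]; exact (nf.mul_zero b).symm
    by_cases hb : b = 0
    · rw [hb, hzm]; exact nf.mul_zero a
    obtain ⟨x, rfl⟩ := h0u a ha
    obtain ⟨y, rfl⟩ := h0u b hb
    rw [← Units.val_mul, hcommU, Units.val_mul]
  obtain ⟨F, iF, iFt, hFc, θ, θ0, θ1, θa, θm⟩ := exists_field nf hcomm hf hβ
  refine ⟨F, iF, iFt, hFc, ?_⟩
  let e : Ω ≃ OnePoint F := (Equiv.optionSubtypeNe p).symm.trans (Equiv.optionCongr θ)
  have hep : e p = ∞ := by
    change (Equiv.optionCongr θ) ((Equiv.optionSubtypeNe p).symm p) = _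
    rw [Equiv.optionSubtypeNe_symm_self]
    rfl
  have heβ : ∀ x : β, e x.1 = ((θ x : F) : OnePoint F) := by
    intro x
    change (Equiv.optionCongr θ) ((Equiv.optionSubtypeNe p).symm x.1) = _
    rw [Equiv.optionSubtypeNe_symm_of_ne x.2]
    rfl
  have hcases : ∀ x : Ω, x = p ∨ ∃ y : β, x = y.1 := by
    intro x
    by_cases h : x = p
    · exact Or.inl h
    · exact Or.inr ⟨⟨x, h⟩, rfl⟩
  have hθne : ∀ x : β, x ≠ 0 → θ x ≠ 0 := by
    intro x hx h
    rw [← θ0] at h
    exact hx (θ.injective h)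
  have hgaff : ∀ g : G, g • p = p → Good e g := by
    intro g hg
    obtain ⟨a, b, ha, hab⟩ := haff g hg
    obtain ⟨h, h1, h2⟩ := exists_affine (θ a) (θ b) (hθne a ha)
    refine ⟨h, fun x => ?_⟩
    rcases hcases x with rfl | ⟨y, rfl⟩
    · rw [hg, hep, h1]
    · rw [hab, heβ, heβ, h2, θa, θm]
  have hgu : Good e u := by
    obtain ⟨h, h1, h2, h4⟩ := exists_inversion F
    refine ⟨h, fun x => ?_⟩
    rcases hcases x with rfl | ⟨y, rfl⟩
    · rw [u2, hep, h1, heβ, θ0]
    · by_cases hy : y = 0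
      · rw [hy, u1, hep, heβ, θ0, h2]
      · obtain ⟨z, hz⟩ := h0u y hy
        have h5 : νh z = z⁻¹ := congrFun (hfpf.coe_eq_inv_of_involutive hinvol) z
        have h6 : u • y.1 = ((z⁻¹ : βˣ) : β).1 := by
          rw [← h5, ← hz]
          exact (hνv z).symm
        rw [h6, heβ, heβ, h4 _ (hθne y hy)]
        congr 1
        rw [eq_comm, inv_eq_iff_eq_inv, eq_comm, inv_eq_iff_eq_inv]
        apply eq_inv_of_mul_eq_one_left
        rw [← hz, ← θm, ← Units.val_mul, inv_mul_cancel, Units.val_one, θ1]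
  apply equiv_of_good (e := e) _ h3 hs
  intro g
  by_cases hg : g • p = p
  · exact hgaff g hg
  · obtain ⟨t, t1, t2⟩ := haff' 1 (-(⟨g • p, hg⟩ : β)) h01.symm
    have ht : t • g • p = ((0 : β) : Ω) := by
      have h1 := t2 ⟨g • p, hg⟩
      rw [mul_one, add_neg_cancel] at h1
      exact h1
    have h1 : Good e (u * t * g) := hgaff _ (by rw [mul_smul, mul_smul, ht, u1])
    have h2 : g = t⁻¹ * (u⁻¹ * (u * t * g)) := by group
    rw [h2]
    exact (hgaff t t1).inv.mul (hgu.inv.mul h1)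

end CfsgLib.S3T8
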