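import Mathlib
import Cfsg.Agent.LibStrongH12

/-! Counting involutions with a strongly embedded subgroup. -/

set_option autoImplicit false

namespace CfsgLib.StrongH12

open Cfsg Subgroup CfsgLib.Invol CfsgLib.FusionH12
open scoped Pointwise

section Count

variable {G : Type*} [Group G] [Finite G] {H : Subgroup G}

theorem smul_mk_mem {i g : G} : i • (QuotientGroup.mk 1 : G ⧸ H) = QuotientGroup.mk g ↔ i⁻¹ * g ∈ H := by
  rw [MulAction.Quotient.smul_mk, QuotientGroup.eq]
  simp

theorem orderOf_conj' (g x : G) : orderOf (g⁻¹ * x * g) = orderOf x := by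
  have := orderOf_conj g⁻¹ x
  rwa [inv_inv] at this

/-- transport of the count along a conjugation -/
noncomputable def transport (a b : G) :
    {i : G // orderOf i = 2 ∧ i • (QuotientGroup.mk a : G ⧸ H) = QuotientGroup.mk b} ≃
    {i : G // orderOf i = 2 ∧ i • (QuotientGroup.mk 1 : G ⧸ H) = QuotientGroup.mk (a⁻¹ * b)} where
  toFun i := ⟨a⁻¹ * i.1 * a, by rw [orderOf_conj']; exact i.2.1, by
    have h := i.2.2
    rw [MulAction.Quotient.smul_mk, QuotientGroup.eq] at h ⊢
    simpa [mul_assoc] using h⟩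
  invFun i := ⟨a * i.1 * a⁻¹, by rw [orderOf_conj]; exact i.2.1, by
    have h := i.2.2
    rw [MulAction.Quotient.smul_mk, QuotientGroup.eq] at h ⊢
    simpa [mul_assoc] using h⟩
  left_inv i := by ext; simp [mul_assoc]
  right_inv i := by ext; simp [mul_assoc]

theorem card_fix (a : G) :
    Nat.card {i : G // orderOf i = 2 ∧ i • (QuotientGroup.mk a : G ⧸ H) = QuotientGroup.mk a} =
      Nat.card {t : G // orderOf t = 2 ∧ t ∈ H} := by
  rw [Nat.card_congr (transport a a)]
  refine Nat.card_congr (Equiv.subtypeEquivRight fun i => ?_)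
  rw [smul_mk_mem, inv_mul_cancel, mul_one, inv_mem_iff]

/-- the map `i ↦ g⁻¹ i s i⁻¹ g` -/
theorem conj_inj (hH : IsStronglyEmbedded H) {g s : G} (hg : g ∉ H) (hs : s ∈ H)
    (hs2 : orderOf s = 2) {i j : G} (hi2 : orderOf i = 2) (hj2 : orderOf j = 2)
    (hi : i⁻¹ * g ∈ H)
    (hij : i * s * i⁻¹ = j * s * j⁻¹) : i = j := by
  have hiH : i ∉ H := by
    intro h
    exact hg (by have := mul_mem h hi; rwa [mul_inv_cancel_left] at this)
  have hc : Commute (i⁻¹ * j) s := by
    change i⁻¹ * j * s = s * (i⁻¹ * j)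
    calc i⁻¹ * j * s = i⁻¹ * (j * s * j⁻¹) * j := by group
      _ = s * (i⁻¹ * j) := by rw [← hij]; group
  have hinv : i * (i⁻¹ * j) * i⁻¹ = (i⁻¹ * j)⁻¹ := by
    rw [mul_inv_cancel_left, mul_inv_rev, inv_inv, inv_eq hi2, inv_eq hj2]
  have := no_invert hH hs hs2 hiH hi2 hc hinv
  exact (inv_mul_eq_one.1 this)

theorem count_le (hH : IsStronglyEmbedded H) {g : G} (hg : g ∉ H) :
    Nat.card {i : G // orderOf i = 2 ∧ i • (QuotientGroup.mk 1 : G ⧸ H) = QuotientGroup.mk g} ≤
      Nat.card {t : G // orderOf t = 2 ∧ t ∈ H} := by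
  obtain ⟨s, hs, hs2⟩ := exists_involution_mem hH.2.1
  refine Nat.card_le_card_of_injective (fun i => (⟨g⁻¹ * (i.1 * s * i.1⁻¹) * g, ?_, ?_⟩ :
    {t : G // orderOf t = 2 ∧ t ∈ H})) ?_
  · rw [orderOf_conj', orderOf_conj, hs2]
  · have h := smul_mk_mem.1 i.2.2
    have := mul_mem (mul_mem (inv_mem h) hs) h
    simpa [mul_assoc] using this
  · intro i j hij
    have h := congrArg (fun z : {t : G // orderOf t = 2 ∧ t ∈ H} => z.1) hij
    simp only at h
    have h' : i.1 * s * i.1⁻¹ = j.1 * s * j.1⁻¹ := by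
      have := mul_right_cancel h
      exact mul_left_cancel this
    exact Subtype.ext (conj_inj hH hg hs hs2 i.2.1 j.2.1 (smul_mk_mem.1 i.2.2) h')

theorem count_le' (hH : IsStronglyEmbedded H) {x y : G ⧸ H} (hxy : x ≠ y) :
    Nat.card {i : G // orderOf i = 2 ∧ i • x = y} ≤
      Nat.card {t : G // orderOf t = 2 ∧ t ∈ H} := by
  induction x using QuotientGroup.induction_on with
  | H a =>
  induction y using QuotientGroup.induction_on with
  | H b =>
    rw [Nat.card_congr (transport a b)]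
    exact count_le hH (fun h => hxy (QuotientGroup.eq.2 h))

theorem unique_fix (hH : IsStronglyEmbedded H) {i : G} (hi : orderOf i = 2) :
    ∃! x : G ⧸ H, i • x = x := by
  obtain ⟨g, hg⟩ := exists_conj_mem hH hi
  refine ⟨QuotientGroup.mk g, ?_, ?_⟩
  · change i • (QuotientGroup.mk g : G ⧸ H) = QuotientGroup.mk g
    rw [MulAction.Quotient.smul_mk, QuotientGroup.eq]
    have := inv_mem hg
    simpa [mul_assoc] using this
  · intro y
    induction y using QuotientGroup.induction_on with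
    | H b =>
      intro hb
      change i • (QuotientGroup.mk b : G ⧸ H) = QuotientGroup.mk b at hb
      rw [MulAction.Quotient.smul_mk, QuotientGroup.eq] at hb
      have hb' : b⁻¹ * i * b ∈ H := by
        have := inv_mem hb
        simpa [mul_assoc] using this
      rw [QuotientGroup.eq]
      have h2 : orderOf (g⁻¹ * i * g) = 2 := by rw [orderOf_conj', hi]
      apply key' hH hg h2
      simpa [mul_assoc] using hb'

theorem sum_row (x : G ⧸ H) [Fintype (G ⧸ H)] :
    ∑ y : G ⧸ H, Nat.card {i : G // orderOf i = 2 ∧ i • x = y} = Nat.card {i : G // orderOf i = 2} := by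
  rw [← Nat.card_sigma]
  refine Nat.card_congr
    { toFun := fun p => ⟨p.2.1, p.2.2.1⟩
      invFun := fun i => ⟨i.1 • x, ⟨i.1, i.2, rfl⟩⟩
      left_inv := ?_
      right_inv := fun i => rfl }
  rintro ⟨y, i, hi, rfl⟩
  rfl

theorem sum_diag (hH : IsStronglyEmbedded H) [Fintype (G ⧸ H)] :
    ∑ y : G ⧸ H, Nat.card {i : G // orderOf i = 2 ∧ i • y = y} = Nat.card {i : G // orderOf i = 2} := by
  classical
  rw [← Nat.card_sigma]
  refine Nat.card_eq_of_bijective (fun p : (y : G ⧸ H) × {i : G // orderOf i = 2 ∧ i • y = y} =>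
    (⟨p.2.1, p.2.2.1⟩ : {i : G // orderOf i = 2})) ⟨?_, ?_⟩
  · rintro ⟨y, i, hi, hy⟩ ⟨z, j, hj, hz⟩ h
    have h' : i = j := congrArg (fun z : {i : G // orderOf i = 2} => z.1) h
    subst h'
    have : y = z := (unique_fix hH hi).unique hy hz
    subst this
    rfl
  · rintro ⟨i, hi⟩
    obtain ⟨y, hy, -⟩ := unique_fix hH hi
    exact ⟨⟨y, i, hi, hy⟩, rfl⟩

theorem count_eq (hH : IsStronglyEmbedded H) {x y : G ⧸ H} (hxy : x ≠ y) :
    Nat.card {i : G // orderOf i = 2 ∧ i • x = y} =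
      Nat.card {t : G // orderOf t = 2 ∧ t ∈ H} := by
  classical
  haveI := Fintype.ofFinite (G ⧸ H)
  set m := Nat.card {t : G // orderOf t = 2 ∧ t ∈ H} with hm
  have h1 := sum_row (H := H) x
  have h2 := sum_diag hH
  have h3 : ∀ y : G ⧸ H, Nat.card {i : G // orderOf i = 2 ∧ i • y = y} = m := by
    intro y
    induction y using QuotientGroup.induction_on with
    | H b => exact card_fix b
  rw [Finset.sum_congr rfl (fun y _ => h3 y)] at h2
  by_contra hne
  have hlt : Nat.card {i : G // orderOf i = 2 ∧ i • x = y} < m :=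
    lt_of_le_of_ne (count_le' hH hxy) hne
  have h4 : ∑ y : G ⧸ H, Nat.card {i : G // orderOf i = 2 ∧ i • x = y} < ∑ y : G ⧸ H, m := by
    apply Finset.sum_lt_sum
    · intro z _
      by_cases hz : x = z
      · subst hz; exact (h3 _).le
      · exact count_le' hH hz
    · exact ⟨y, Finset.mem_univ _, hlt⟩
  rw [h1, h2] at h4
  exact lt_irrefl _ h4

theorem exists_swap (hH : IsStronglyEmbedded H) {x y : G ⧸ H} (hxy : x ≠ y) :
    ∃ i : G, orderOf i = 2 ∧ i • x = y := by
  have h := count_eq hH hxy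
  obtain ⟨s, hs, hs2⟩ := exists_involution_mem hH.2.1
  have hpos : 0 < Nat.card {t : G // orderOf t = 2 ∧ t ∈ H} := by
    haveI : Nonempty {t : G // orderOf t = 2 ∧ t ∈ H} := ⟨⟨s, hs2, hs⟩⟩
    exact Nat.card_pos
  rw [← h] at hpos
  obtain ⟨⟨i, hi⟩⟩ := (Nat.card_pos_iff.1 hpos).1
  exact ⟨i, hi⟩

theorem conj_transitive (hH : IsStronglyEmbedded H) {u : G} (hu : orderOf u = 2) (huH : u ∉ H)
    {s t : G} (hs : orderOf s = 2) (hsH : s ∈ H) (ht : orderOf t = 2) (htH : t ∈ H) :
    ∃ d ∈ (H ⊓ H.map (MulAut.conj u).toMonoidHom), d * s * d⁻¹ = t := by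
  have hne : (QuotientGroup.mk 1 : G ⧸ H) ≠ QuotientGroup.mk u := by
    intro h
    rw [QuotientGroup.eq] at h
    simp at h; exact huH h
  have hcard := count_eq hH hne
  let f : {i : G // orderOf i = 2 ∧ i • (QuotientGroup.mk 1 : G ⧸ H) = QuotientGroup.mk u} →
    {t : G // orderOf t = 2 ∧ t ∈ H} := fun i => ⟨u⁻¹ * (i.1 * s * i.1⁻¹) * u, by
      rw [orderOf_conj', orderOf_conj, hs], by
      have h := smul_mk_mem.1 i.2.2
      have := mul_mem (mul_mem (inv_mem h) hsH) h
      simpa [mul_assoc] using this⟩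
  have hinj : Function.Injective f := by
    intro i j hij
    have h := congrArg (fun z : {t : G // orderOf t = 2 ∧ t ∈ H} => z.1) hij
    simp only [f] at h
    have h' : i.1 * s * i.1⁻¹ = j.1 * s * j.1⁻¹ := by
      have := mul_right_cancel h
      exact mul_left_cancel this
    exact Subtype.ext (conj_inj hH huH hsH hs i.2.1 j.2.1 (smul_mk_mem.1 i.2.2) h')
  have hbij : Function.Bijective f := by
    rw [Nat.bijective_iff_injective_and_card]
    exact ⟨hinj, hcard⟩
  obtain ⟨i, hi⟩ := hbij.2 ⟨t, ht, htH⟩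
  have hi' := congrArg (fun z : {t : G // orderOf t = 2 ∧ t ∈ H} => z.1) hi
  simp only [f] at hi'
  have h1 := smul_mk_mem.1 i.2.2
  have hiu : i.1⁻¹ = i.1 := inv_eq i.2.1
  have huu : u⁻¹ = u := inv_eq hu
  refine ⟨u⁻¹ * i.1, ?_, ?_⟩
  · rw [Subgroup.mem_inf]
    constructor
    · have := inv_mem h1
      simpa using this
    · change _ ∈ cj u H
      rw [mem_cj]
      have h2 : u⁻¹ * (u⁻¹ * i.1) * u = i.1⁻¹ * u := by
        rw [hiu, ← mul_assoc]
        rw [huu, mul_self hu, one_mul]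
      rw [h2]; exact h1
  · rw [← hi']; group

end Count

end CfsgLib.StrongH12
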