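import Mathlib
import Cfsg.Agent.LibStrongH12b

/-! Groups in which the centralizers of involutions are elementary abelian 2-groups. -/

set_option autoImplicit false

namespace CfsgLib.StrongH12

open Cfsg Subgroup CfsgLib.Invol CfsgLib.FusionH12
open scoped Pointwise

section ElAb

variable {G : Type*} [Group G] [Finite G]

/-- the standing hypothesis on centralizers -/
def CEl (G : Type*) [Group G] : Prop := ∀ t : G, orderOf t = 2 →
  IsMulCommutative (centralizer ({t} : Set G)) ∧ ∀ c ∈ centralizer ({t} : Set G), c ^ 2 = 1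

theorem isPGroup_of_sq {K : Subgroup G} (h : ∀ c ∈ K, c ^ 2 = 1) : IsPGroup 2 K := by
  intro c
  exact ⟨1, Subtype.ext (by simpa using h c c.2)⟩

theorem T_ne_bot {T : Sylow 2 G} (hnc : ¬ IsCyclic (T : Subgroup G)) : (T : Subgroup G) ≠ ⊥ := by
  intro h
  apply hnc
  rw [h]
  infer_instance

theorem exists_central_involution {P : Subgroup G} (hP : IsPGroup 2 P) (hne : P ≠ ⊥) :
    ∃ z ∈ P, orderOf z = 2 ∧ ∀ s ∈ P, Commute s z := by
  haveI : Fact (Nat.Prime 2) := ⟨Nat.prime_two⟩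
  haveI : Nontrivial P := (Subgroup.nontrivial_iff_ne_bot P).2 hne
  have hc := hP.center_nontrivial
  have h2 : 2 ∣ Nat.card (center P) := by
    obtain ⟨n, hn, hn'⟩ := (hP.to_subgroup (center P)).nontrivial_iff_card.1 hc
    rw [hn']; exact dvd_pow_self _ hn.ne'
  obtain ⟨z, hz⟩ := exists_prime_orderOf_dvd_card' (G := center P) 2 h2
  refine ⟨((z : P) : G), z.1.2, ?_, ?_⟩
  · rw [orderOf_submonoid, orderOf_submonoid, hz]
  · intro s hs
    have := (mem_center_iff.1 z.2) ⟨s, hs⟩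
    exact congrArg Subtype.val this

theorem cent_central {T : Sylow 2 G} (hnc : ¬ IsCyclic (T : Subgroup G)) (hC : CEl G) :
    ∃ z ∈ T, orderOf z = 2 ∧ centralizer ({z} : Set G) = T := by
  haveI : Fact (Nat.Prime 2) := ⟨Nat.prime_two⟩
  obtain ⟨z, hz, hz2, hzc⟩ := exists_central_involution T.2 (T_ne_bot hnc)
  refine ⟨z, hz, hz2, ?_⟩
  apply T.3 (isPGroup_of_sq (hC z hz2).2)
  intro s hs
  rw [mem_centralizer_singleton_iff]
  exact hzc s hs

theorem T_comm {T : Sylow 2 G} (hnc : ¬ IsCyclic (T : Subgroup G)) (hC : CEl G) {a b : G}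
    (ha : a ∈ T) (hb : b ∈ T) : Commute a b := by
  obtain ⟨z, hz, hz2, hzc⟩ := cent_central hnc hC
  have h := (hC z hz2).1
  have ha' : a ∈ centralizer ({z} : Set G) := by rw [hzc]; exact ha
  have hb' : b ∈ centralizer ({z} : Set G) := by rw [hzc]; exact hb
  exact congrArg Subtype.val (h.is_comm.comm ⟨a, ha'⟩ ⟨b, hb'⟩)

theorem T_sq {T : Sylow 2 G} (hnc : ¬ IsCyclic (T : Subgroup G)) (hC : CEl G) {a : G}
    (ha : a ∈ T) : a ^ 2 = 1 := by
  obtain ⟨z, hz, hz2, hzc⟩ := cent_central hnc hC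
  apply (hC z hz2).2
  rw [hzc]; exact ha

theorem T_order {T : Sylow 2 G} (hnc : ¬ IsCyclic (T : Subgroup G)) (hC : CEl G) {a : G}
    (ha : a ∈ T) (ha1 : a ≠ 1) : orderOf a = 2 :=
  orderOf_eq_two ha1 (by rw [← pow_two]; exact T_sq hnc hC ha)

theorem cent_eq {T : Sylow 2 G} (hnc : ¬ IsCyclic (T : Subgroup G)) (hC : CEl G) {t : G}
    (ht : t ∈ T) (ht2 : orderOf t = 2) : centralizer ({t} : Set G) = T := by
  haveI : Fact (Nat.Prime 2) := ⟨Nat.prime_two⟩
  apply T.3 (isPGroup_of_sq (hC t ht2).2)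
  intro s hs
  rw [mem_centralizer_singleton_iff]
  exact T_comm hnc hC hs ht

theorem card_T {T : Sylow 2 G} (hnc : ¬ IsCyclic (T : Subgroup G)) :
    4 ≤ Nat.card T ∧ Even (Nat.card T) := by
  haveI : Fact (Nat.Prime 2) := ⟨Nat.prime_two⟩
  obtain ⟨n, hn⟩ := T.2.exists_card_eq
  have hn' : Nat.card T = 2 ^ n := hn
  rcases n with _ | _ | n
  · exfalso
    apply T_ne_bot hnc
    rw [← Subgroup.card_eq_one]; simpa using hn'
  · exfalso
    apply hnc
    exact isCyclic_of_prime_card (p := 2) (by simpa using hn')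
  · rw [hn']
    refine ⟨?_, ?_⟩
    · rw [pow_succ, pow_succ]
      have := Nat.one_le_two_pow (n := n)
      omega
    · rw [even_iff_two_dvd]; exact dvd_pow_self _ (by omega)

theorem mem_T_of_mem_normalizer {T : Sylow 2 G} {t : G} (ht : t ∈ normalizer ((T : Subgroup G) : Set G))
    (ht2 : orderOf t = 2) : t ∈ T := by
  haveI : Fact (Nat.Prime 2) := ⟨Nat.prime_two⟩
  have htp : IsPGroup 2 (zpowers t) := by
    apply IsPGroup.of_card (n := 1)
    rw [Nat.card_zpowers, ht2, pow_one]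
  have h := htp.to_sup_of_normal_right' T.2 (by rw [zpowers_le]; exact ht)
  have h2 := T.3 h le_sup_right
  have : t ∈ zpowers t ⊔ (T : Subgroup G) := (le_sup_left : zpowers t ≤ _) (mem_zpowers t)
  rw [h2] at this; exact this

theorem mem_normalizer_of {T : Sylow 2 G} (hnc : ¬ IsCyclic (T : Subgroup G)) (hC : CEl G) {t g : G}
    (ht : t ∈ T) (ht2 : orderOf t = 2) (hg : g⁻¹ * t * g ∈ T) :
    g ∈ normalizer ((T : Subgroup G) : Set G) := by
  rw [mem_nrm]
  have h1 := cent_eq hnc hC ht ht2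
  have h2 := cent_eq hnc hC hg (by rw [orderOf_conj', ht2])
  ext x
  rw [mem_cj]
  change _ ∈ (T : Subgroup G) ↔ x ∈ (T : Subgroup G)
  have h3 : ∀ y, y ∈ (T : Subgroup G) ↔ y * t = t * y := by
    intro y; rw [← h1, mem_centralizer_singleton_iff]
  have h4 : ∀ y, y ∈ (T : Subgroup G) ↔ y * (g⁻¹ * t * g) = g⁻¹ * t * g * y := by
    intro y; rw [← h2, mem_centralizer_singleton_iff]
  rw [h4, h3]
  constructor
  · intro h
    calc x * t = g * (g⁻¹ * x * g * (g⁻¹ * t * g)) * g⁻¹ := by group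
      _ = t * x := by rw [h]; group
  · intro h
    calc g⁻¹ * x * g * (g⁻¹ * t * g) = g⁻¹ * (x * t) * g := by group
      _ = _ := by rw [h]; group

theorem strongly {T : Sylow 2 G} (hnc : ¬ IsCyclic (T : Subgroup G))
    (hnn : ¬ (T : Subgroup G).Normal) (hC : CEl G) :
    IsStronglyEmbedded (normalizer ((T : Subgroup G) : Set G)) := by
  haveI : Fact (Nat.Prime 2) := ⟨Nat.prime_two⟩
  refine ⟨?_, ?_, ?_⟩
  · intro h
    exact hnn (normalizer_eq_top_iff.1 h)
  · obtain ⟨z, hz, hz2, -⟩ := exists_central_involution T.2 (T_ne_bot hnc)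
    rw [even_iff_two_dvd]
    exact two_dvd_card_of_mem (le_normalizer hz) hz2
  · intro g hg
    apply odd_card_of_forall
    intro t ht ht2
    obtain ⟨h1, h2⟩ := mem_inf.1 ht
    change t ∈ cj g _ at h2
    rw [mem_cj] at h2
    exact hg (mem_normalizer_of hnc hC (mem_T_of_mem_normalizer h1 ht2) ht2
      (mem_T_of_mem_normalizer h2 (by rw [orderOf_conj', ht2])))

end ElAb

section Two

variable {G : Type*} [Group G] [Finite G] {T : Sylow 2 G}

local notation "HH" => normalizer ((T : Subgroup G) : Set G)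

theorem inv_H_equiv (hnc : ¬ IsCyclic (T : Subgroup G)) (hC : CEl G) :
    Nat.card {t : G // orderOf t = 2 ∧ t ∈ HH} = Nat.card T - 1 := by
  classical
  have h1 : Nat.card {t : G // orderOf t = 2 ∧ t ∈ HH} = Nat.card {t : T // t ≠ 1} := by
    refine Nat.card_congr
      { toFun := fun t => ⟨⟨t.1, mem_T_of_mem_normalizer t.2.2 t.2.1⟩, fun h =>
          ne_one t.2.1 (congrArg Subtype.val h)⟩
        invFun := fun t => ⟨t.1.1, T_order hnc hC t.1.2 (fun h => t.2 (Subtype.ext h)),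
          le_normalizer t.1.2⟩
        left_inv := fun t => rfl
        right_inv := fun t => rfl }
  rw [h1]
  haveI := Fintype.ofFinite T
  rw [Nat.card_eq_fintype_card, Nat.card_eq_fintype_card, Fintype.card_subtype_compl,
    Fintype.card_subtype_eq]
  exact congrArg (· - 1) (Fintype.card_congr (Equiv.refl _))

variable {u : G}

/-- the two point stabilizer -/
abbrev DD (T : Sylow 2 G) (u : G) : Subgroup G :=
  normalizer ((T : Subgroup G) : Set G) ⊓ (normalizer ((T : Subgroup G) : Set G)).map (MulAut.conj u).toMonoidHom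

theorem odd_D (hnc : ¬ IsCyclic (T : Subgroup G)) (hnn : ¬ (T : Subgroup G).Normal) (hC : CEl G)
    (huH : u ∉ HH) : Odd (Nat.card (DD T u)) := (strongly hnc hnn hC).2.2 u huH

theorem cent_odd (hnc : ¬ IsCyclic (T : Subgroup G)) (hC : CEl G) {K : Subgroup G}
    (hK : Odd (Nat.card K)) {t k : G} (ht : t ∈ T) (ht2 : orderOf t = 2) (hk : k ∈ K)
    (hkt : Commute k t) : k = 1 := by
  have h1 : k ∈ (T : Subgroup G) := by
    rw [← cent_eq hnc hC ht ht2, mem_centralizer_singleton_iff]; exact hkt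
  by_contra hne
  exact not_odd_card_of_mem hk (T_order hnc hC h1 hne) hK

theorem card_D (hnc : ¬ IsCyclic (T : Subgroup G)) (hnn : ¬ (T : Subgroup G).Normal) (hC : CEl G)
    (hu : orderOf u = 2) (huH : u ∉ HH) : Nat.card (DD T u) = Nat.card T - 1 := by
  haveI : Fact (Nat.Prime 2) := ⟨Nat.prime_two⟩
  have hS := strongly hnc hnn hC
  obtain ⟨s, hs, hs2, -⟩ := exists_central_involution T.2 (T_ne_bot hnc)
  rw [← inv_H_equiv hnc hC]
  refine Nat.card_eq_of_bijective (fun d : DD T u => (⟨d.1 * s * d.1⁻¹, ?_, ?_⟩ :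
    {t : G // orderOf t = 2 ∧ t ∈ HH})) ⟨?_, ?_⟩
  · rw [orderOf_conj, hs2]
  · exact mul_mem (mul_mem d.2.1 (le_normalizer hs)) (inv_mem d.2.1)
  · intro d e hde
    have h := congrArg (fun z : {t : G // orderOf t = 2 ∧ t ∈ HH} => z.1) hde
    simp only at h
    have hc : Commute (d.1⁻¹ * e.1) s := by
      change d.1⁻¹ * e.1 * s = s * (d.1⁻¹ * e.1)
      calc d.1⁻¹ * e.1 * s = d.1⁻¹ * (e.1 * s * e.1⁻¹) * e.1 := by group
        _ = s * (d.1⁻¹ * e.1) := by rw [← h]; group
    have := cent_odd hnc hC (odd_D hnc hnn hC huH) hs hs2 (mul_mem (inv_mem d.2) e.2) hc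
    exact Subtype.ext (inv_mul_eq_one.1 this)
  · rintro ⟨t, ht2, htH⟩
    obtain ⟨d, hd, hdt⟩ := conj_transitive hS hu huH hs2 (le_normalizer hs) ht2 htH
    exact ⟨⟨d, hd⟩, Subtype.ext hdt⟩

omit [Finite G] in
theorem mk_ne (huH : u ∉ HH) : (QuotientGroup.mk 1 : G ⧸ HH) ≠ QuotientGroup.mk u := by
  intro h
  rw [QuotientGroup.eq] at h
  simp only [inv_one, one_mul] at h
  exact huH h

theorem inverts_D (hnc : ¬ IsCyclic (T : Subgroup G)) (hnn : ¬ (T : Subgroup G).Normal) (hC : CEl G)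
    (hu : orderOf u = 2) (huH : u ∉ HH) : ∀ d ∈ DD T u, u * d * u⁻¹ = d⁻¹ := by
  have hS := strongly hnc hnn hC
  have hcard : Nat.card {i : G // orderOf i = 2 ∧ i • (QuotientGroup.mk 1 : G ⧸ HH) = QuotientGroup.mk u}
      = Nat.card (DD T u) := by
    rw [card_D hnc hnn hC hu huH, ← inv_H_equiv hnc hC]
    exact count_eq hS (mk_ne huH)
  have huu : u⁻¹ = u := inv_eq hu
  let f : {i : G // orderOf i = 2 ∧ i • (QuotientGroup.mk 1 : G ⧸ HH) = QuotientGroup.mk u} →
    DD T u := fun i => ⟨u⁻¹ * i.1, by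
      have h1 := smul_mk_mem.1 i.2.2
      have hiu : i.1⁻¹ = i.1 := inv_eq i.2.1
      rw [mem_inf]
      constructor
      · have := inv_mem h1
        simpa using this
      · change _ ∈ cj u _
        rw [mem_cj]
        have h2 : u⁻¹ * (u⁻¹ * i.1) * u = i.1⁻¹ * u := by
          rw [hiu, ← mul_assoc]
          rw [huu, mul_self hu, one_mul]
        rw [h2]; exact h1⟩
  have hinj : Function.Injective f := by
    intro i j hij
    have h := congrArg Subtype.val hij
    exact Subtype.ext (mul_left_cancel h)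
  have hbij : Function.Bijective f := (Nat.bijective_iff_injective_and_card _).2 ⟨hinj, hcard⟩
  intro d hd
  obtain ⟨i, hi⟩ := hbij.2 ⟨d, hd⟩
  have hi' : u⁻¹ * i.1 = d := congrArg Subtype.val hi
  rw [← hi', mul_inv_cancel_left, mul_inv_rev, inv_inv, inv_eq i.2.1, huu]

theorem complement (hnc : ¬ IsCyclic (T : Subgroup G)) (hnn : ¬ (T : Subgroup G).Normal) (hC : CEl G)
    (hu : orderOf u = 2) (huH : u ∉ HH) :
    IsComplement' ((DD T u).subgroupOf HH) ((T : Subgroup G).subgroupOf HH) := by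
  haveI : Fact (Nat.Prime 2) := ⟨Nat.prime_two⟩
  have hS := strongly hnc hnn hC
  obtain ⟨s, hs, hs2, -⟩ := exists_central_involution T.2 (T_ne_bot hnc)
  apply isComplement'_of_disjoint_and_mul_eq_univ
  · rw [disjoint_iff, eq_bot_iff]
    rintro ⟨x, hx⟩ ⟨h1, h2⟩
    have h1' : x ∈ DD T u := h1
    have h2' : x ∈ (T : Subgroup G) := h2
    have := cent_odd hnc hC (odd_D hnc hnn hC huH) hs hs2 h1' (T_comm hnc hC h2' hs)
    exact Subtype.ext this
  · rw [Set.eq_univ_iff_forall]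
    rintro ⟨h, hh⟩
    have h3 : h * s * h⁻¹ ∈ HH := mul_mem (mul_mem hh (le_normalizer hs)) (inv_mem hh)
    obtain ⟨d, hd, hdt⟩ := conj_transitive hS hu huH hs2 (le_normalizer hs)
      (by rw [orderOf_conj, hs2] : orderOf (h * s * h⁻¹) = 2) h3
    have hc : d⁻¹ * h ∈ (T : Subgroup G) := by
      rw [← cent_eq hnc hC hs hs2, mem_centralizer_singleton_iff]
      calc d⁻¹ * h * s = d⁻¹ * (h * s * h⁻¹) * h := by group
        _ = s * (d⁻¹ * h) := by rw [← hdt]; group
    refine Set.mem_mul.2 ⟨⟨d, hd.1⟩, hd, ⟨d⁻¹ * h, mul_mem (inv_mem hd.1) hh⟩, hc, ?_⟩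
    exact Subtype.ext (by simp)

theorem card_H (hnc : ¬ IsCyclic (T : Subgroup G)) (hnn : ¬ (T : Subgroup G).Normal) (hC : CEl G)
    (hu : orderOf u = 2) (huH : u ∉ HH) : Nat.card HH = Nat.card T * (Nat.card T - 1) := by
  have h := (complement hnc hnn hC hu huH).card_mul
  rw [← h, Nat.card_congr (subgroupOfEquivOfLe (inf_le_left : DD T u ≤ HH)).toEquiv,
    Nat.card_congr (subgroupOfEquivOfLe (le_normalizer : (T : Subgroup G) ≤ HH)).toEquiv,
    card_D hnc hnn hC hu huH, mul_comm]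

end Two

end CfsgLib.StrongH12
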