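import Mathlib
import Cfsg.Agent.LibStrongH12c

/-! Groups in which the centralizers of involutions are elementary abelian 2-groups, part 2. -/

set_option autoImplicit false

namespace CfsgLib.StrongH12

open Cfsg Subgroup CfsgLib.Invol CfsgLib.FusionH12
open scoped Pointwise

section Three

variable {G : Type*} [Group G] [Finite G] {T : Sylow 2 G}

local notation "HH" => normalizer ((T : Subgroup G) : Set G)
local notation "Ω" => G ⧸ (normalizer ((T : Subgroup G) : Set G))

omit [Finite G] in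
theorem fix_mk {H : Subgroup G} {d a : G} : d • (QuotientGroup.mk a : G ⧸ H) = QuotientGroup.mk a ↔ a⁻¹ * d * a ∈ H := by
  rw [MulAction.Quotient.smul_mk, QuotientGroup.eq]
  constructor
  · intro h
    have := inv_mem h
    simpa [mul_assoc] using this
  · intro h
    have := inv_mem h
    simpa [mul_assoc] using this

omit [Finite G] in
theorem swap_back {X : Type*} [MulAction G X] {i : G} (hi : orderOf i = 2) {x y : X} (h : i • x = y) :
    i • y = x := by
  rw [← h, smul_smul, mul_self hi, one_smul]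

theorem inverts_pt (hnc : ¬ IsCyclic (T : Subgroup G)) (hnn : ¬ (T : Subgroup G).Normal)
    (hC : CEl G) {i d : G} (hi : orderOf i = 2) {x y : Ω} (hxy : x ≠ y) (hixy : i • x = y)
    (hdx : d • x = x) (hdy : d • y = y) : i * d * i⁻¹ = d⁻¹ := by
  induction x using QuotientGroup.induction_on with
  | H a =>
  have hi' : orderOf (a⁻¹ * i * a) = 2 := by rw [orderOf_conj', hi]
  have hiH : a⁻¹ * i * a ∉ HH := by
    intro h
    rw [← fix_mk] at h
    exact hxy (h.symm.trans hixy)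
  have hd : a⁻¹ * d * a ∈ DD T (a⁻¹ * i * a) := by
    rw [mem_inf]
    refine ⟨fix_mk.1 hdx, ?_⟩
    change _ ∈ cj _ _
    rw [mem_cj]
    rw [← hixy, MulAction.Quotient.smul_mk, fix_mk] at hdy
    rw [smul_eq_mul] at hdy
    convert hdy using 1
    group
  have h := inverts_D hnc hnn hC hi' hiH _ hd
  calc i * d * i⁻¹ = a * (a⁻¹ * i * a * (a⁻¹ * d * a) * (a⁻¹ * i * a)⁻¹) * a⁻¹ := by group
    _ = d⁻¹ := by rw [h]; group

/-- two-point stabilizers -/
def st2 {G X : Type*} [Group G] [MulAction G X] (x y : X) : Subgroup G :=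
  MulAction.stabilizer G x ⊓ MulAction.stabilizer G y

omit [Finite G] in
theorem mem_st2 {X : Type*} [MulAction G X] {x y : X} {d : G} :
    d ∈ (st2 x y : Subgroup G) ↔ d • x = x ∧ d • y = y := by
  unfold st2
  rw [mem_inf, MulAction.mem_stabilizer_iff, MulAction.mem_stabilizer_iff]

theorem card_st2 (hnc : ¬ IsCyclic (T : Subgroup G)) (hnn : ¬ (T : Subgroup G).Normal)
    (hC : CEl G) {x y : Ω} (hxy : x ≠ y) : Nat.card (st2 x y : Subgroup G) = Nat.card T - 1 := by
  obtain ⟨i, hi, hixy⟩ := exists_swap (strongly hnc hnn hC) hxy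
  induction x using QuotientGroup.induction_on with
  | H a =>
  have hi' : orderOf (a⁻¹ * i * a) = 2 := by rw [orderOf_conj', hi]
  have hiH : a⁻¹ * i * a ∉ HH := by
    intro h
    rw [← fix_mk] at h
    exact hxy (h.symm.trans hixy)
  rw [← card_D hnc hnn hC hi' hiH]
  have : (st2 (QuotientGroup.mk a) y : Subgroup G) = cj a (DD T (a⁻¹ * i * a)) := by
    ext d
    rw [mem_st2, mem_cj, mem_inf, fix_mk, ← hixy, MulAction.Quotient.smul_mk, fix_mk]
    refine and_congr Iff.rfl ?_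
    change _ ↔ _ ∈ cj _ _
    rw [mem_cj, smul_eq_mul]
    have : (a⁻¹ * i * a)⁻¹ * (a⁻¹ * d * a) * (a⁻¹ * i * a) = (i * a)⁻¹ * d * (i * a) := by group
    rw [this]
  rw [this, card_cj]

theorem odd_st2 (hnc : ¬ IsCyclic (T : Subgroup G)) (hnn : ¬ (T : Subgroup G).Normal)
    (hC : CEl G) {x y : Ω} (hxy : x ≠ y) : Odd (Nat.card (st2 x y : Subgroup G)) := by
  rw [card_st2 hnc hnn hC hxy]
  obtain ⟨h1, h2⟩ := card_T hnc
  obtain ⟨k, hk⟩ := h2
  exact ⟨k - 1, by omega⟩

omit [Finite G] in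
theorem orderOf_dvd' {K : Subgroup G} {d : G} (hd : d ∈ K) : orderOf d ∣ Nat.card K :=
  orderOf_dvd_card_of_mem hd

omit [Finite G] in
theorem odd_order {K : Subgroup G} (hK : Odd (Nat.card K)) {d : G} (hd : d ∈ K) :
    Odd (orderOf d) := hK.of_dvd_nat (orderOf_dvd' hd)

omit [Finite G] in
theorem eq_one_of_sq {d : G} (hd : Odd (orderOf d)) (h : d ^ 2 = 1) : d = 1 := by
  have h1 := orderOf_dvd_of_pow_eq_one h
  have h2 : Nat.Coprime (orderOf d) 2 := Nat.coprime_two_right.2 hd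
  rw [← orderOf_eq_one_iff]
  exact Nat.eq_one_of_dvd_coprimes h2 dvd_rfl h1

theorem invC (hC : CEl G) {d k : G} (hd1 : d ≠ 1) (hdo : Odd (orderOf d)) (hk : orderOf k = 2)
    (hkd : k * d * k⁻¹ = d⁻¹) {c : G} (hc : Commute c d) : k * c * k⁻¹ = c⁻¹ := by
  have hodd : Odd (Nat.card (centralizer ({d} : Set G))) := by
    apply odd_card_of_forall
    intro t ht ht2
    apply hd1
    apply eq_one_of_sq hdo
    apply (hC t ht2).2
    rw [mem_centralizer_singleton_iff] at ht ⊢
    exact ht.symm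
  have hkc : ∀ c ∈ centralizer ({d} : Set G), k * c * k⁻¹ ∈ centralizer ({d} : Set G) := by
    intro c hc
    rw [mem_centralizer_singleton_iff] at hc ⊢
    have h1 : d = k * d⁻¹ * k⁻¹ := by
      calc d = (d⁻¹)⁻¹ := (inv_inv d).symm
        _ = (k * d * k⁻¹)⁻¹ := by rw [hkd]
        _ = k * d⁻¹ * k⁻¹ := by group
    have h2 : Commute c d⁻¹ := Commute.inv_right hc
    calc k * c * k⁻¹ * d = k * c * k⁻¹ * (k * d⁻¹ * k⁻¹) := by rw [← h1]
      _ = k * (c * d⁻¹) * k⁻¹ := by group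
      _ = k * (d⁻¹ * c) * k⁻¹ := by rw [h2.eq]
      _ = (k * d⁻¹ * k⁻¹) * (k * c * k⁻¹) := by group
      _ = d * (k * c * k⁻¹) := by rw [← h1]
  let φ : centralizer ({d} : Set G) →* centralizer ({d} : Set G) :=
    { toFun := fun c => ⟨k * c * k⁻¹, hkc c c.2⟩
      map_one' := by ext; simp
      map_mul' := fun a b => by ext; simp [mul_assoc] }
  have hfix : MonoidHom.FixedPointFree φ := by
    intro c hc
    have h1 : k * c * k⁻¹ = (c : G) := congrArg Subtype.val hc
    have h2 : (c : G) ∈ centralizer ({k} : Set G) := by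
      rw [mem_centralizer_singleton_iff]
      exact (mul_inv_eq_iff_eq_mul.1 h1).symm
    exact Subtype.ext (eq_one_of_sq (odd_order hodd c.2) ((hC k hk).2 _ h2))
  have hinv : Function.Involutive φ := by
    intro c
    ext
    change k * (k * c * k⁻¹) * k⁻¹ = c
    calc k * (k * (c : G) * k⁻¹) * k⁻¹ = (k * k) * c * (k * k)⁻¹ := by group
      _ = c := by rw [mul_self hk]; simp
  have h := hfix.coe_eq_inv_of_involutive hinv
  have h2 := congrFun h ⟨c, mem_centralizer_singleton_iff.2 hc⟩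
  exact congrArg Subtype.val h2

theorem fix_two (hnc : ¬ IsCyclic (T : Subgroup G)) (hnn : ¬ (T : Subgroup G).Normal)
    (hC : CEl G) {x y z : Ω} (hxy : x ≠ y) (hz : ∀ d ∈ (st2 x y : Subgroup G), d • z = z) :
    z = x ∨ z = y := by
  by_contra hne
  push Not at hne
  obtain ⟨hzx, hzy⟩ := hne
  have hS := strongly hnc hnn hC
  obtain ⟨i, hi, hixy⟩ := exists_swap hS hxy
  obtain ⟨j, hj, hjxz⟩ := exists_swap hS hzx.symm
  obtain ⟨k, hk, hkzy⟩ := exists_swap hS hzy
  obtain ⟨h4, -⟩ := card_T hnc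
  have hcard := card_st2 hnc hnn hC hxy
  obtain ⟨d, hd, hd1⟩ : ∃ d ∈ (st2 x y : Subgroup G), d ≠ 1 := by
    haveI : Nontrivial (st2 x y : Subgroup G) := by
      rw [← Finite.one_lt_card_iff_nontrivial, hcard]
      omega
    exact (Subgroup.nontrivial_iff_exists_ne_one _).1 this
  have hdo := odd_order (odd_st2 hnc hnn hC hxy) hd
  have hdz := hz d hd
  obtain ⟨hdx, hdy⟩ := mem_st2.1 hd
  have hid := inverts_pt hnc hnn hC hi hxy hixy hdx hdy
  have hjd := inverts_pt hnc hnn hC hj hzx.symm hjxz hdx hdz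
  have hkd := inverts_pt hnc hnn hC hk hzy hkzy hdz hdy
  have hac : Commute (i * j) d := by
    have : i * j * d * (i * j)⁻¹ = d := by
      calc i * j * d * (i * j)⁻¹ = i * (j * d * j⁻¹) * i⁻¹ := by group
        _ = (i * d * i⁻¹)⁻¹ := by rw [hjd]; group
        _ = d := by rw [hid, inv_inv]
    exact mul_inv_eq_iff_eq_mul.1 this
  have hka := invC hC hd1 hdo hk hkd hac
  have hww : (k * (i * j)) * (k * (i * j)) = 1 := by
    calc (k * (i * j)) * (k * (i * j)) = (k * (i * j) * k⁻¹) * (k * k) * (i * j) := by group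
      _ = 1 := by rw [hka, mul_self hk, mul_one, inv_mul_cancel]
  have hwd : (k * (i * j)) * d * (k * (i * j))⁻¹ = d⁻¹ := by
    calc (k * (i * j)) * d * (k * (i * j))⁻¹ = k * ((i * j) * d * (i * j)⁻¹) * k⁻¹ := by group
      _ = k * d * k⁻¹ := by rw [hac.eq, mul_inv_cancel_right]
      _ = _ := hkd
  have hw1 : k * (i * j) ≠ 1 := by
    intro h
    rw [h] at hwd
    simp only [one_mul, inv_one, mul_one] at hwd
    apply hd1
    apply eq_one_of_sq hdo
    rw [pow_two]; nth_rw 1 [hwd]; rw [inv_mul_cancel]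
  have hw2 : orderOf (k * (i * j)) = 2 := orderOf_eq_two hw1 hww
  have hwz : (k * (i * j)) • z = z := by
    rw [mul_smul, mul_smul, swap_back hj hjxz, hixy, swap_back hk hkzy]
  generalize hwdef : k * (i * j) = w at *
  clear hid hjd hac hka hww hw1 hkd
  induction z using QuotientGroup.induction_on with
  | H c =>
  rw [fix_mk] at hwz hdz
  have hwT : c⁻¹ * w * c ∈ T := mem_T_of_mem_normalizer hwz (by rw [orderOf_conj', hw2])
  have h1 : (c⁻¹ * d * c) * (c⁻¹ * w * c)⁻¹ * (c⁻¹ * d * c)⁻¹ ∈ T :=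
    (mem_normalizer_iff.1 hdz _).1 (inv_mem hwT)
  have h2 := mul_mem hwT h1
  have h3 : (c⁻¹ * w * c) * ((c⁻¹ * d * c) * (c⁻¹ * w * c)⁻¹ * (c⁻¹ * d * c)⁻¹) =
      c⁻¹ * (d⁻¹ * d⁻¹) * c := by
    calc _ = c⁻¹ * ((w * d * w⁻¹) * d⁻¹) * c := by group
      _ = _ := by rw [hwd]
  rw [h3] at h2
  have h4 := T_sq hnc hC h2
  have h5 : (d⁻¹ * d⁻¹) ^ 2 = 1 := by
    have h6 : (c⁻¹ * (d⁻¹ * d⁻¹) * c) ^ 2 = c⁻¹ * (d⁻¹ * d⁻¹) ^ 2 * c := by
      rw [pow_two, pow_two]; group
    rw [h6] at h4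
    have h7 : (d⁻¹ * d⁻¹) ^ 2 = c * (c⁻¹ * (d⁻¹ * d⁻¹) ^ 2 * c) * c⁻¹ := by group
    rw [h7, h4]; group
  have h6 : d ^ 2 = 1 := by
    apply eq_one_of_sq
    · rw [orderOf_pow' _ (by norm_num : (2:ℕ) ≠ 0)]
      exact hdo.of_dvd_nat (Nat.div_dvd_of_dvd (Nat.gcd_dvd_left _ _))
    · have : (d ^ 2) ^ 2 = ((d⁻¹ * d⁻¹) ^ 2)⁻¹ := by
        rw [← pow_two d⁻¹, inv_pow, inv_pow, inv_inv]
      rw [this, h5, inv_one]
  exact hd1 (eq_one_of_sq hdo h6)

theorem fix_three (hnc : ¬ IsCyclic (T : Subgroup G)) (hnn : ¬ (T : Subgroup G).Normal)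
    (hC : CEl G) {x y z : Ω} (hxy : x ≠ y) (hxz : x ≠ z) (hyz : y ≠ z) {j : G}
    (hjx : j • x = x) (hjy : j • y = y) (hjz : j • z = z) : j = 1 := by
  by_contra hj1
  have hS := strongly hnc hnn hC
  obtain ⟨i, hi, hixy⟩ := exists_swap hS hxy
  obtain ⟨k, hk, hkxz⟩ := exists_swap hS hxz
  have hjo := odd_order (odd_st2 hnc hnn hC hxy) (mem_st2.2 ⟨hjx, hjy⟩)
  have hij := inverts_pt hnc hnn hC hi hxy hixy hjx hjy
  have hinv : ∀ c : G, Commute c j → i * c * i⁻¹ = c⁻¹ := fun c hc => invC hC hj1 hjo hi hij hc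
  -- the centralizer of j is abelian
  have hcomm : ∀ a b : G, Commute a j → Commute b j → Commute a b := by
    intro a b ha hb
    have h1 := hinv (a * b) (ha.mul_left hb)
    have h2 : (a * b)⁻¹ = a⁻¹ * b⁻¹ := by
      rw [← h1, ← hinv a ha, ← hinv b hb]; group
    have h3 : a * b = b * a := by
      have := congrArg Inv.inv h2
      rw [inv_inv, mul_inv_rev, inv_inv, inv_inv] at this
      exact this
    exact h3
  have hst : ∀ (x y : Ω) (i : G), orderOf i = 2 → x ≠ y → i • x = y → j • x = x → j • y = y →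
      ∀ d ∈ (st2 x y : Subgroup G), Commute d j := by
    intro x y i hi hxy hixy hjx hjy d hd
    obtain ⟨hdx, hdy⟩ := mem_st2.1 hd
    have h1 := inverts_pt hnc hnn hC hi hxy hixy hdx hdy
    have h2 := inverts_pt hnc hnn hC hi hxy hixy hjx hjy
    have h3 : i * (d * j) * i⁻¹ = (d * j)⁻¹ :=
      inverts_pt hnc hnn hC hi hxy hixy (by rw [mul_smul, hjx, hdx]) (by rw [mul_smul, hjy, hdy])
    have h4 : (d * j)⁻¹ = d⁻¹ * j⁻¹ := by
      rw [← h3, ← h1, ← h2]; group
    have := congrArg Inv.inv h4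
    rw [inv_inv, mul_inv_rev, inv_inv, inv_inv] at this
    exact this
  have hsub : ∀ c : G, Commute c j → Odd (orderOf c) → c ∈ (st2 x y : Subgroup G) := by
    intro c hc hco
    have hcd : ∀ d ∈ (st2 x y : Subgroup G), Commute c d := fun d hd =>
      hcomm c d hc (hst x y i hi hxy hixy hjx hjy d hd)
    have h1 : c • x = x ∨ c • x = y := fix_two hnc hnn hC hxy fun d hd => by
      rw [smul_smul, ← (hcd d hd).eq, mul_smul, (mem_st2.1 hd).1]
    have h2 : c • y = x ∨ c • y = y := fix_two hnc hnn hC hxy fun d hd => by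
      rw [smul_smul, ← (hcd d hd).eq, mul_smul, (mem_st2.1 hd).2]
    rcases h1 with h1 | h1
    · rcases h2 with h2 | h2
      · exfalso
        rw [← h1] at h2
        exact hxy (smul_left_cancel c h2).symm
      · exact mem_st2.2 ⟨h1, h2⟩
    · exfalso
      rcases h2 with h2 | h2
      · obtain ⟨m, hm⟩ := hco
        have h3 : ∀ n : ℕ, (c ^ 2) ^ n • x = x := by
          intro n
          induction n with
          | zero => simp
          | succ n ih =>
            rw [pow_succ, mul_smul, pow_two, mul_smul, h1, h2, ← pow_two, ih]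
        have h4 : c ^ (2 * m + 1) • x = x := by rw [← hm, pow_orderOf_eq_one, one_smul]
        rw [pow_succ', pow_mul, mul_smul, h3, h1] at h4
        exact hxy h4.symm
      · have := smul_left_cancel c (h2.trans h1.symm)
        exact hxy this.symm
  have hle : (st2 x z : Subgroup G) ≤ st2 x y := by
    intro d hd
    exact hsub d (hst x z k hk hxz hkxz hjx hjz d hd) (odd_order (odd_st2 hnc hnn hC hxz) hd)
  have heq : (st2 x z : Subgroup G) = st2 x y := by
    apply eq_of_le_of_card_ge hle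
    rw [card_st2 hnc hnn hC hxy, card_st2 hnc hnn hC hxz]
  have := fix_two hnc hnn hC hxy (z := z) (fun d hd => by
    rw [← heq] at hd; exact (mem_st2.1 hd).2)
  rcases this with h | h
  · exact hxz h.symm
  · exact hyz h.symm

end Three

end CfsgLib.StrongH12
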