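import Mathlib
import Cfsg.Agent.LibStrongH12d

/-! Groups in which the centralizers of involutions are elementary abelian 2-groups, part 3:
sharp triple transitivity. -/

set_option autoImplicit false

namespace CfsgLib.StrongH12

open Cfsg Subgroup CfsgLib.Invol CfsgLib.FusionH12
open scoped Pointwise

section Four

variable {G : Type*} [Group G] [Finite G] {T : Sylow 2 G}

local notation "HH" => normalizer ((T : Subgroup G) : Set G)
local notation "Ω" => G ⧸ (normalizer ((T : Subgroup G) : Set G))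

omit [Finite G] in
theorem DD_eq_st2 (u : G) : DD T u = (st2 (QuotientGroup.mk 1 : Ω) (QuotientGroup.mk u) : Subgroup G) := by
  ext d
  rw [mem_st2, fix_mk, fix_mk, mem_inf]
  refine and_congr (by simp) ?_
  change d ∈ cj _ _ ↔ _
  rw [mem_cj]

theorem normalizer_D (hnc : ¬ IsCyclic (T : Subgroup G)) (hnn : ¬ (T : Subgroup G).Normal)
    (hC : CEl G) {u : G} (hu : orderOf u = 2) (huH : u ∉ HH) :
    normalizer ((DD T u : Subgroup G) : Set G) = DD T u ⊔ zpowers u := by
  have hinv := inverts_D hnc hnn hC hu huH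
  have hmk := mk_ne huH
  have hu1 : u • (QuotientGroup.mk 1 : Ω) = QuotientGroup.mk u := by
    rw [MulAction.Quotient.smul_mk, smul_eq_mul, mul_one]
  apply le_antisymm
  · intro g hg
    have hfix : ∀ x : Ω, (∀ d ∈ (st2 (QuotientGroup.mk 1 : Ω) (QuotientGroup.mk u) : Subgroup G),
        d • x = x) → g • x = QuotientGroup.mk 1 ∨ g • x = QuotientGroup.mk u := by
      intro x hx
      apply fix_two hnc hnn hC hmk
      intro d hd
      rw [← DD_eq_st2] at hd
      have h1 : g⁻¹ * d * g ∈ DD T u := by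
        have := (mem_normalizer_iff.1 (inv_mem hg) d).1 hd
        rwa [inv_inv] at this
      rw [DD_eq_st2] at h1
      have h2 := hx _ h1
      have h3 : g • ((g⁻¹ * d * g) • x) = g • x := by rw [h2]
      rw [smul_smul] at h3
      rw [smul_smul]
      convert h3 using 2
      group
    have h1 := hfix (QuotientGroup.mk 1) (fun d hd => (mem_st2.1 hd).1)
    have h2 := hfix (QuotientGroup.mk u) (fun d hd => (mem_st2.1 hd).2)
    rcases h1 with h1 | h1
    · rcases h2 with h2 | h2
      · exfalso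
        exact hmk (smul_left_cancel g (h1.trans h2.symm))
      · apply (le_sup_left : DD T u ≤ _)
        rw [DD_eq_st2]
        exact mem_st2.2 ⟨h1, h2⟩
    · rcases h2 with h2 | h2
      · have h3 : u⁻¹ * g ∈ DD T u := by
          rw [DD_eq_st2, mem_st2, mul_smul, mul_smul, h1, h2, inv_smul_eq_iff, inv_smul_eq_iff]
          refine ⟨hu1.symm, ?_⟩
          exact (swap_back hu hu1).symm
        have h4 := mul_mem ((le_sup_right : zpowers u ≤ DD T u ⊔ _) (mem_zpowers u))
          ((le_sup_left : DD T u ≤ DD T u ⊔ zpowers u) h3)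
        rwa [mul_inv_cancel_left] at h4
      · exfalso
        exact hmk (smul_left_cancel g (h1.trans h2.symm))
  · apply sup_le le_normalizer
    rw [zpowers_le, mem_nrm]
    apply Subgroup.eq_of_le_of_card_ge
    · rw [cj_le']
      intro d hd
      rw [hinv d hd]
      exact inv_mem hd
    · rw [card_cj]

theorem fixed_D (hnc : ¬ IsCyclic (T : Subgroup G)) (hnn : ¬ (T : Subgroup G).Normal)
    (hC : CEl G) {u : G} (huH : u ∉ HH) (g : G) :
    (∀ d ∈ DD T u, d • (QuotientGroup.mk g : Ω) = QuotientGroup.mk g) ↔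
      (QuotientGroup.mk g : Ω) = QuotientGroup.mk 1 ∨ (QuotientGroup.mk g : Ω) = QuotientGroup.mk u := by
  rw [DD_eq_st2]
  constructor
  · exact fix_two hnc hnn hC (mk_ne huH)
  · rintro (h | h) d hd
    · rw [h]; exact (mem_st2.1 hd).1
    · rw [h]; exact (mem_st2.1 hd).2

theorem card_Omega (hnc : ¬ IsCyclic (T : Subgroup G)) (hnn : ¬ (T : Subgroup G).Normal)
    (hC : CEl G) : Nat.card Ω = Nat.card T + 1 := by
  classical
  have hS := strongly hnc hnn hC
  obtain ⟨u, hu, huH⟩ := exists_involution_not_mem hS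
  obtain ⟨h4, he⟩ := card_T hnc
  set q := Nat.card T with hq
  have hH := card_H hnc hnn hC hu huH
  haveI := Fintype.ofFinite Ω
  let x0 : Ω := QuotientGroup.mk 1
  have hΩ : Nat.card {y : Ω // y ≠ x0} = Nat.card Ω - 1 := by
    rw [Nat.card_eq_fintype_card, Nat.card_eq_fintype_card, Fintype.card_subtype_compl,
      Fintype.card_subtype_eq]
  have hmkH : ∀ t : G, t • x0 = x0 ↔ t ∈ HH := by
    intro t
    change t • (QuotientGroup.mk 1 : Ω) = QuotientGroup.mk 1 ↔ _
    rw [fix_mk]; simp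
  -- lower bound
  have hlow : q ≤ Nat.card Ω - 1 := by
    rw [← hΩ, hq]
    refine Nat.card_le_card_of_injective (fun t : T => (⟨t.1 • (QuotientGroup.mk u : Ω), ?_⟩ :
      {y : Ω // y ≠ x0})) ?_
    · intro h
      have h1 : t.1⁻¹ • x0 = x0 := by
        rw [hmkH]; exact inv_mem (le_normalizer t.2)
      have h2 : (QuotientGroup.mk u : Ω) = x0 := by
        rw [← h1, ← h, inv_smul_smul]
      exact mk_ne huH h2.symm
    · intro s t hst
      have h1 : s.1 • (QuotientGroup.mk u : Ω) = t.1 • QuotientGroup.mk u :=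
        congrArg Subtype.val hst
      have h2 : (s.1⁻¹ * t.1) ∈ (st2 x0 (QuotientGroup.mk u : Ω) : Subgroup G) := by
        rw [mem_st2, hmkH]
        refine ⟨le_normalizer (mul_mem (inv_mem s.2) t.2), ?_⟩
        rw [mul_smul, ← h1, inv_smul_smul]
      have h3 := odd_order (odd_st2 hnc hnn hC (mk_ne huH)) h2
      have h4 := eq_one_of_sq h3 (T_sq hnc hC (mul_mem (inv_mem s.2) t.2))
      exact Subtype.ext (inv_mul_eq_one.1 h4)
  -- upper bound
  have hup : (Nat.card Ω - 1) * (q - 2) ≤ q * (q - 1) - q := by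
    have h1 : Nat.card (Σ y : {y : Ω // y ≠ x0}, {d : (st2 x0 y.1 : Subgroup G) // d ≠ 1}) =
        (Nat.card Ω - 1) * (q - 2) := by
      rw [Nat.card_sigma]
      have : ∀ y : {y : Ω // y ≠ x0}, Nat.card {d : (st2 x0 y.1 : Subgroup G) // d ≠ 1} = q - 2 := by
        intro y
        haveI := Fintype.ofFinite (st2 x0 y.1 : Subgroup G)
        rw [Nat.card_eq_fintype_card, Fintype.card_subtype_compl, Fintype.card_subtype_eq,
          ← Nat.card_eq_fintype_card, card_st2 hnc hnn hC y.2.symm]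
        omega
      rw [Finset.sum_congr rfl (fun y _ => this y), Finset.sum_const, Finset.card_univ,
        ← Nat.card_eq_fintype_card, hΩ, smul_eq_mul]
    have h2 : Nat.card {h : HH // h.1 ∉ T} = q * (q - 1) - q := by
      haveI := Fintype.ofFinite HH
      have h3 : Nat.card {h : HH // h.1 ∈ T} = q := by
        rw [hq]
        exact Nat.card_congr
          { toFun := fun h => ⟨h.1.1, h.2⟩
            invFun := fun t => ⟨⟨t.1, le_normalizer t.2⟩, t.2⟩
            left_inv := fun h => rfl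
            right_inv := fun h => rfl }
      rw [Nat.card_eq_fintype_card, Fintype.card_subtype_compl, ← Nat.card_eq_fintype_card,
        ← Nat.card_eq_fintype_card, h3, hH]
    rw [← h1, ← h2]
    refine Nat.card_le_card_of_injective (fun p => (⟨⟨p.2.1.1, ?_⟩, ?_⟩ : {h : HH // h.1 ∉ T})) ?_
    · exact (hmkH _).1 (mem_st2.1 p.2.1.2).1
    · intro h
      apply p.2.2
      have h3 := odd_order (odd_st2 hnc hnn hC p.1.2.symm) p.2.1.2
      exact Subtype.ext (eq_one_of_sq h3 (T_sq hnc hC h))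
    · rintro ⟨⟨y, hy⟩, ⟨d, hd⟩, hd1⟩ ⟨⟨z, hz⟩, ⟨e, he⟩, he1⟩ h
      have h5 : d = e := congrArg (fun p : {h : HH // h.1 ∉ T} => (p.1 : G)) h
      subst h5
      have hyz : y = z := by
        by_contra hyz
        apply hd1
        exact Subtype.ext (fix_three hnc hnn hC hy.symm hz.symm hyz (mem_st2.1 hd).1
          (mem_st2.1 hd).2 (mem_st2.1 he).2)
      subst hyz
      rfl
  have h5 : q * (q - 1) - q = q * (q - 2) := by
    obtain ⟨k, hk⟩ : ∃ k, q = k + 2 := ⟨q - 2, by omega⟩
    rw [hk]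
    have : (k + 2) * (k + 2 - 1) = (k + 2) * k + (k + 2) := by
      rw [show k + 2 - 1 = k + 1 by omega]; ring
    rw [this]
    simp
  rw [h5] at hup
  have h6 : Nat.card Ω - 1 ≤ q := Nat.le_of_mul_le_mul_right hup (by omega)
  omega

theorem card_G (hnc : ¬ IsCyclic (T : Subgroup G)) (hnn : ¬ (T : Subgroup G).Normal)
    (hC : CEl G) : Nat.card G = (Nat.card T + 1) * (Nat.card T * (Nat.card T - 1)) := by
  have hS := strongly hnc hnn hC
  obtain ⟨u, hu, huH⟩ := exists_involution_not_mem hS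
  rw [Subgroup.card_eq_card_quotient_mul_card_subgroup HH, card_Omega hnc hnn hC,
    card_H hnc hnn hC hu huH]

theorem triple_trans (hnc : ¬ IsCyclic (T : Subgroup G)) (hnn : ¬ (T : Subgroup G).Normal)
    (hC : CEl G) (e e' : Fin 3 ↪ Ω) : ∃ g : G, ∀ i, g • e i = e' i := by
  classical
  haveI := Fintype.ofFinite Ω
  let f : G → (Fin 3 ↪ Ω) := fun g => e.trans (MulAction.toPerm g).toEmbedding
  have hinj : Function.Injective f := by
    intro g h hgh
    have h1 : ∀ i, g • e i = h • e i := fun i => congrArg (fun k : Fin 3 ↪ Ω => k i) hgh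
    have h2 : ∀ i, (g⁻¹ * h) • e i = e i := fun i => by rw [mul_smul, ← h1, inv_smul_smul]
    have hne : ∀ i j, i ≠ j → e i ≠ e j := fun i j hij h => hij (e.injective h)
    have := fix_three hnc hnn hC (hne 0 1 (by decide)) (hne 0 2 (by decide)) (hne 1 2 (by decide))
      (h2 0) (h2 1) (h2 2)
    exact inv_mul_eq_one.1 this
  have hcard : Nat.card G = Nat.card (Fin 3 ↪ Ω) := by
    have h0 : Nat.card (Fin 3 ↪ Ω) = (Nat.card Ω).descFactorial 3 := by
      rw [Nat.card_eq_fintype_card, Fintype.card_embedding_eq, Fintype.card_fin,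
        ← Nat.card_eq_fintype_card]
    rw [card_G hnc hnn hC, h0, card_Omega hnc hnn hC]
    simp only [Nat.descFactorial]
    rw [show Nat.card T + 1 - 2 = Nat.card T - 1 by omega, show Nat.card T + 1 - 1 = Nat.card T by omega]
    simp only [Nat.sub_zero]
    ring
  obtain ⟨g, hg⟩ := ((Nat.bijective_iff_injective_and_card f).2 ⟨hinj, hcard⟩).2 e'
  exact ⟨g, fun i => congrArg (fun k : Fin 3 ↪ Ω => k i) hg⟩

theorem T_regular (hnc : ¬ IsCyclic (T : Subgroup G)) (hnn : ¬ (T : Subgroup G).Normal)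
    (hC : CEl G) (x y : Ω) (hx : x ≠ QuotientGroup.mk 1) (hy : y ≠ QuotientGroup.mk 1) :
    ∃! t : G, t ∈ T ∧ t • x = y := by
  classical
  haveI := Fintype.ofFinite Ω
  let x0 : Ω := QuotientGroup.mk 1
  have hΩ : Nat.card {y : Ω // y ≠ x0} = Nat.card T := by
    rw [Nat.card_eq_fintype_card, Fintype.card_subtype_compl,
      Fintype.card_subtype_eq, ← Nat.card_eq_fintype_card, card_Omega hnc hnn hC]
    simp
  have hmkH : ∀ t : G, t • x0 = x0 ↔ t ∈ HH := by
    intro t
    change t • (QuotientGroup.mk 1 : Ω) = QuotientGroup.mk 1 ↔ _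
    rw [fix_mk]; simp
  have huniq : ∀ s ∈ T, ∀ t ∈ T, s • x = t • x → s = t := by
    intro s hs t ht h1
    have h2 : (s⁻¹ * t) ∈ (st2 x0 x : Subgroup G) := by
      rw [mem_st2, hmkH]
      refine ⟨le_normalizer (mul_mem (inv_mem hs) ht), ?_⟩
      rw [mul_smul, ← h1, inv_smul_smul]
    have h3 := odd_order (odd_st2 hnc hnn hC hx.symm) h2
    have h4 := eq_one_of_sq h3 (T_sq hnc hC (mul_mem (inv_mem hs) ht))
    exact inv_mul_eq_one.1 h4
  let f : T → {y : Ω // y ≠ x0} := fun t => ⟨t.1 • x, fun h => by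
      have h1 : t.1⁻¹ • x0 = x0 := by
        rw [hmkH]; exact inv_mem (le_normalizer t.2)
      have h2 : x = x0 := by
        rw [← h1, ← h, inv_smul_smul]
      exact hx h2⟩
  have hinj : Function.Injective f := by
    intro s t hst
    exact Subtype.ext (huniq s.1 s.2 t.1 t.2 (congrArg Subtype.val hst))
  obtain ⟨t, ht⟩ := ((Nat.bijective_iff_injective_and_card f).2 ⟨hinj, hΩ.symm⟩).2 ⟨y, hy⟩
  refine ⟨t.1, ⟨t.2, congrArg Subtype.val ht⟩, ?_⟩
  rintro s ⟨hs, hsy⟩
  exact huniq s hs t.1 t.2 (hsy.trans (congrArg Subtype.val ht).symm)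

end Four

end CfsgLib.StrongH12
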