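import Cfsg.Statements.S1230
import Cfsg.Agent.EqBase
import Cfsg.Agent.LibS3T8
import Cfsg.Agent.S1229

set_option autoImplicit false
open Cfsg

namespace Cfsg.Agent.S1230


/-- Let G be a finite group with a Sylow 2-subgroup T that is neither cyclic nor normal, such that the centralizer of every involution is an elementary abelian 2-group. Then G ≅ PSL(2,F) for a finite field F with |F| = |T|. -/
theorem result {G : Type*} [Group G] [Finite G] (T : Sylow 2 G) (hnc : ¬ IsCyclic (T : Subgroup G)) (hnn : ¬ (T : Subgroup G).Normal) (hC : ∀ t : G, orderOf t = 2 → IsMulCommutative (Subgroup.centralizer ({t} : Set G)) ∧ ∀ c ∈ Subgroup.centralizer ({t} : Set G), c ^ 2 = 1) : ∃ (F : Type) (_ : Field F) (_ : Fintype F), Fintype.card F = Nat.card T ∧ Nonempty (G ≃* Matrix.ProjectiveSpecialLinearGroup (Fin 2) F) := by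
  classical
  haveI : Fact (Nat.Prime 2) := ⟨Nat.prime_two⟩
  obtain ⟨h3, hf, -⟩ := Cfsg.Agent.S1229.result T hnc hnn hC
  obtain ⟨n, hn⟩ := T.2.exists_card_eq
  have hn' : Nat.card T = 2 ^ n := hn
  obtain ⟨h4, -⟩ := CfsgLib.StrongH12.card_T hnc
  have hn1 : 1 ≤ n := by
    rcases n with _ | n
    · rw [hn', pow_zero] at h4; omega
    · omega
  haveI := Fintype.ofFinite (G ⧸ Subgroup.normalizer ((T : Subgroup G) : Set G))
  have hΩ : Fintype.card (G ⧸ Subgroup.normalizer ((T : Subgroup G) : Set G)) = 2 ^ n + 1 := by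
    rw [← Nat.card_eq_fintype_card, CfsgLib.StrongH12.card_Omega hnc hnn hC, hn']
  obtain ⟨F, iF, iFt, hFc, ⟨e⟩⟩ := CfsgLib.S3T8.main (G := G) hn1 hΩ
    (fun a b c a' b' c' => h3 a b c a' b' c') (fun g a b c => hf g a b c)
  refine ⟨F, iF, iFt, hFc.trans hn'.symm, ?_⟩
  have hidx : (CfsgLib.Dk29.LL F).index = 1 := by
    rw [CfsgLib.Dk29.index_LL, hFc]
    obtain ⟨j, rfl⟩ : ∃ j, n = j + 1 := ⟨n - 1, by omega⟩
    have h5 : 1 ≤ 2 ^ j := Nat.one_le_two_pow
    have h6 : 2 ^ (j + 1) - 1 = 2 * (2 ^ j - 1) + 1 := by rw [pow_succ]; omega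
    rw [h6]
    have : Nat.Coprime 2 (2 * (2 ^ j - 1) + 1) := by
      rw [Nat.coprime_two_left]
      exact ⟨_, rfl⟩
    exact this
  have htop := Subgroup.index_eq_one.1 hidx
  exact ⟨e.trans (((CfsgLib.Dk29.pslEquivLL (F := F)).trans (MulEquiv.subgroupCongr htop)).trans Subgroup.topEquiv).symm⟩
end Cfsg.Agent.S1230
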