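import Mathlib
import Cfsg.Agent.EqBase
import Cfsg.Agent.LibBR11n
import Cfsg.Agent.S1230

/-! Groups with a Sylow subgroup of order `p`: the theorem (seat helper11). -/

set_option autoImplicit false
set_option linter.all false

namespace CfsgLib.BR11

open Subgroup Cfsg CfsgLib.CharBasic
open scoped ComplexConjugate commutatorElement

universe u

theorem psl_sl {F : Type*} [Field F] [Fintype F] {m : ℕ} (hF : Fintype.card F = 2 ^ m) (hm : 1 ≤ m) :
    Nonempty (Matrix.ProjectiveSpecialLinearGroup (Fin 2) F ≃* Matrix.SpecialLinearGroup (Fin 2) F) := by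
  haveI : CharP F 2 := by
    obtain ⟨q, hq⟩ := CharP.exists F
    haveI := hq
    haveI : Fact q.Prime := ⟨CharP.char_is_prime F q⟩
    obtain ⟨n, hn, hcard⟩ := FiniteField.card F q
    rw [hF] at hcard
    have h1 : q ∣ 2 ^ m := by rw [hcard]; exact dvd_pow_self _ n.pos.ne'
    have h2 : q = 2 := (Nat.prime_dvd_prime_iff_eq hn Nat.prime_two).1 (hn.dvd_of_dvd_pow h1)
    rw [← h2]; exact hq
  have h1 : Subgroup.center (Matrix.SpecialLinearGroup (Fin 2) F) = ⊥ := by
    rw [eq_bot_iff]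
    intro A hA
    rw [Matrix.SpecialLinearGroup.mem_center_iff] at hA
    obtain ⟨r, hr, hrA⟩ := hA
    rw [Fintype.card_fin] at hr
    have h2 : r = 1 := by
      have h3 : (r - 1) ^ 2 = 0 := by
        have h4 : (2 : F) = 0 := CharTwo.two_eq_zero
        linear_combination hr - (r - 1) * h4
      have h5 := pow_eq_zero_iff (two_ne_zero) |>.1 h3
      linear_combination h5
    rw [mem_bot]
    apply Subtype.ext
    rw [← hrA, h2]
    simp
  exact ⟨(QuotientGroup.quotientMulEquivOfEq h1).trans QuotientGroup.quotientBot⟩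

theorem perf_hom {H A : Type*} [Group H] [Group A] (hA : ∀ a b : A, a * b = b * a) (hp : commutator H = ⊤) (f : H →* A) (h : H) : f h = 1 := by
  have h1 : commutator H ≤ f.ker := by
    rw [commutator_eq_closure, closure_le]
    rintro _ ⟨g, g', rfl⟩
    show ⁅g, g'⁆ ∈ f.ker
    rw [MonoidHom.mem_ker, map_commutatorElement, commutatorElement_eq_one_iff_mul_comm]
    exact hA _ _
  rw [hp] at h1
  exact MonoidHom.mem_ker.1 (h1 (mem_top h))

theorem card_cent_conj {G : Type u} [Group G] (g x : G) : Nat.card (centralizer ({g * x * g⁻¹} : Set G)) = Nat.card (centralizer ({x} : Set G)) := by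
  refine Nat.card_congr ⟨fun c => ⟨g⁻¹ * c * g, ?_⟩, fun c => ⟨g * c * g⁻¹, ?_⟩, fun c => ?_, fun c => ?_⟩
  · have h1 := mem_centralizer_singleton_iff.1 c.2
    rw [mem_centralizer_singleton_iff]
    calc g⁻¹ * c * g * x = g⁻¹ * (c * (g * x * g⁻¹)) * g := by group
      _ = g⁻¹ * (g * x * g⁻¹ * c) * g := by rw [h1]
      _ = x * (g⁻¹ * c * g) := by group
  · have h1 := mem_centralizer_singleton_iff.1 c.2
    rw [mem_centralizer_singleton_iff]
    calc g * c * g⁻¹ * (g * x * g⁻¹) = g * (c * x) * g⁻¹ := by group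
      _ = g * (x * c) * g⁻¹ := by rw [h1]
      _ = _ := by group
  · apply Subtype.ext
    show g * (g⁻¹ * c * g) * g⁻¹ = c
    group
  · apply Subtype.ext
    show g⁻¹ * (g * c * g⁻¹) * g = c
    group

section
variable {G : Type u} [Group G] [Fintype G] {p : ℕ} [hp : Fact p.Prime]

theorem ident2 [IsSimpleGroup G] (hp5 : 5 ≤ p) (hpG : p ∣ Nat.card G) {j : G} (hj1 : j ≠ 1) (hjj : j * j = 1) (hjc : Nat.card (centralizer ({j} : Set G)) = p - 1)
    (hall : ∀ s ∈ centralizer ({j} : Set G), s ≠ 1 → IsConj j s) :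
    ∃ (m : ℕ) (F : Type) (_ : Field F) (_ : Fintype F), Fintype.card F = 2 ^ m ∧ p = 2 ^ m + 1 ∧ 3 < p ∧
      Nonempty (G ≃* Matrix.SpecialLinearGroup (Fin 2) F) := by
  classical
  haveI : Fact (Nat.Prime 2) := ⟨Nat.prime_two⟩
  set C := centralizer ({j} : Set G) with hC
  have hsqc : ∀ s : G, IsConj j s → s * s = 1 := by
    intro s hs
    obtain ⟨g, hg⟩ := isConj_iff.1 hs
    rw [← hg]
    calc g * j * g⁻¹ * (g * j * g⁻¹) = g * (j * j) * g⁻¹ := by group
      _ = 1 := by rw [hjj]; group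
  have hsq : ∀ s ∈ C, s * s = 1 := by
    intro s hs
    by_cases h1 : s = 1
    · rw [h1, one_mul]
    · exact hsqc s (hall s hs h1)
  have hcomm : ∀ x ∈ C, ∀ y ∈ C, x * y = y * x := by
    intro x hx y hy
    have h1 := hsq _ (mul_mem hx hy)
    have h2 : x * y = (x * y)⁻¹ := (inv_eq_of_mul_eq_one_left h1).symm
    rw [mul_inv_rev, inv_eq_of_mul_eq_one_left (hsq x hx), inv_eq_of_mul_eq_one_left (hsq y hy)] at h2
    exact h2
  have hC2 : IsPGroup 2 C := by
    intro x
    refine ⟨1, ?_⟩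
    apply Subtype.ext
    rw [pow_one, Subgroup.coe_pow, sq]
    exact hsq x x.2
  obtain ⟨T0, hT0⟩ := hC2.exists_le_sylow
  have hjC : j ∈ C := mem_centralizer_singleton_iff.2 rfl
  have hT0C : (T0 : Subgroup G) = C := by
    have hnt : Nontrivial (T0 : Subgroup G) := ⟨⟨⟨j, hT0 hjC⟩, 1, fun h0 => hj1 (congrArg Subtype.val h0)⟩⟩
    have hct := T0.2.center_nontrivial
    obtain ⟨z, hz, hz1⟩ := (Subgroup.nontrivial_iff_exists_ne_one _).1 hct
    have hzj : (z : G) ∈ C := by
      rw [hC, mem_centralizer_singleton_iff]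
      exact congrArg Subtype.val ((mem_center_iff.1 hz ⟨j, hT0 hjC⟩).symm)
    have hz1' : (z : G) ≠ 1 := fun h0 => hz1 (Subtype.ext h0)
    have hcj := hall _ hzj hz1'
    have hcard : Nat.card (centralizer ({(z : G)} : Set G)) = p - 1 := by
      obtain ⟨g, hg⟩ := isConj_iff.1 hcj
      rw [← hjc, ← hg, card_cent_conj]
    have hTle : (T0 : Subgroup G) ≤ centralizer ({(z : G)} : Set G) := by
      intro x hx
      rw [mem_centralizer_singleton_iff]
      exact congrArg Subtype.val (mem_center_iff.1 hz ⟨x, hx⟩)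
    symm
    apply Subgroup.eq_of_le_of_card_ge hT0
    rw [hjc, ← hcard]
    exact Subgroup.card_le_of_le hTle
  have hT0card : Nat.card T0 = p - 1 := by
    have : Nat.card (T0 : Subgroup G) = p - 1 := by rw [hT0C]; exact hjc
    exact this
  have hnc : ¬ IsCyclic (T0 : Subgroup G) := by
    intro hcyc
    obtain ⟨g, hg⟩ := IsCyclic.exists_ofOrder_eq_natCard (α := (T0 : Subgroup G))
    have h1 : g ^ 2 = 1 := by
      apply Subtype.ext
      rw [Subgroup.coe_pow, sq]
      exact hsq _ (by rw [← hT0C]; exact g.2)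
    have h2 := orderOf_dvd_of_pow_eq_one h1
    rw [hg] at h2
    have h3 := Nat.le_of_dvd (by norm_num) h2
    have h4 : Nat.card (T0 : Subgroup G) = p - 1 := hT0card
    omega
  have hnn : ¬ (T0 : Subgroup G).Normal := by
    intro hN
    rcases hN.eq_bot_or_eq_top with h1 | h1
    · have h4 : Nat.card (T0 : Subgroup G) = p - 1 := hT0card
      rw [h1, card_bot] at h4; omega
    · have h4 : Nat.card (T0 : Subgroup G) = p - 1 := hT0card
      rw [h1, card_top] at h4
      rw [h4] at hpG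
      exact absurd (Nat.le_of_dvd (by omega) hpG) (by omega)
  have hinv : ∀ t : G, orderOf t = 2 → IsMulCommutative (centralizer ({t} : Set G)) ∧ ∀ c ∈ centralizer ({t} : Set G), c ^ 2 = 1 := by
    intro t ht
    have hIs : IsPGroup 2 (zpowers t) := by
      apply IsPGroup.of_card (n := 1)
      rw [Nat.card_zpowers, ht, pow_one]
    obtain ⟨Q, hQ⟩ := hIs.exists_le_sylow
    obtain ⟨g, hg⟩ := MulAction.exists_smul_eq G Q T0
    have htQ : t ∈ (Q : Subgroup G) := hQ (mem_zpowers _)
    have htP : g * t * g⁻¹ ∈ C := by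
      rw [← hT0C, ← hg, Sylow.coe_subgroup_smul]
      exact Subgroup.smul_mem_pointwise_smul _ (MulAut.conj g) _ htQ
    have hne : g * t * g⁻¹ ≠ 1 := by
      intro h
      rw [conj_eq_one_iff] at h
      rw [h, orderOf_one] at ht
      norm_num at ht
    obtain ⟨k, hk⟩ := isConj_iff.1 (hall _ htP hne)
    have hcc : ∀ c ∈ centralizer ({t} : Set G), (k⁻¹ * g) * c * (k⁻¹ * g)⁻¹ ∈ C := by
      intro c hc
      rw [mem_centralizer_singleton_iff] at hc
      rw [hC, mem_centralizer_singleton_iff]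
      have h1 : j = (k⁻¹ * g) * t * (k⁻¹ * g)⁻¹ := by
        calc j = k⁻¹ * (k * j * k⁻¹) * k := by group
          _ = k⁻¹ * (g * t * g⁻¹) * k := by rw [hk]
          _ = _ := by group
      rw [h1]
      calc k⁻¹ * g * c * (k⁻¹ * g)⁻¹ * (k⁻¹ * g * t * (k⁻¹ * g)⁻¹) = (k⁻¹ * g) * (c * t) * (k⁻¹ * g)⁻¹ := by group
        _ = (k⁻¹ * g) * (t * c) * (k⁻¹ * g)⁻¹ := by rw [hc]
        _ = _ := by group
    refine ⟨⟨⟨fun x y => ?_⟩⟩, ?_⟩
    · apply Subtype.ext
      have h1 := hcomm _ (hcc x x.2) _ (hcc y y.2)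
      have h2 : (k⁻¹ * g) * ((x : G) * y) * (k⁻¹ * g)⁻¹ = (k⁻¹ * g) * ((y : G) * x) * (k⁻¹ * g)⁻¹ := by
        calc (k⁻¹ * g) * ((x : G) * y) * (k⁻¹ * g)⁻¹ = k⁻¹ * g * x * (k⁻¹ * g)⁻¹ * (k⁻¹ * g * y * (k⁻¹ * g)⁻¹) := by group
          _ = k⁻¹ * g * y * (k⁻¹ * g)⁻¹ * (k⁻¹ * g * x * (k⁻¹ * g)⁻¹) := h1
          _ = _ := by group
      exact mul_left_cancel (mul_right_cancel h2)
    · intro c hc
      have h1 := hsq _ (hcc c hc)
      have h2 : (k⁻¹ * g) * (c ^ 2) * (k⁻¹ * g)⁻¹ = 1 := by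
        rw [← h1, sq]; group
      rwa [conj_eq_one_iff] at h2
  obtain ⟨F, iF, iFt, hFc, ⟨φ⟩⟩ := Cfsg.Agent.S1230.result T0 hnc hnn hinv
  obtain ⟨m, hm⟩ := T0.2.exists_card_eq
  have hm' : Nat.card T0 = 2 ^ m := hm
  have hm1 : 1 ≤ m := by
    rcases m with _ | m
    · rw [hm', pow_zero] at hT0card; omega
    · omega
  obtain ⟨ψ⟩ := psl_sl (F := F) (m := m) (by rw [hFc, hm']) hm1
  exact ⟨m, F, iF, iFt, by rw [hFc, hm'], by omega, by omega, ⟨φ.trans ψ⟩⟩

theorem index_two_le (hperf : commutator G = ⊤) (P : Sylow p G) (hP : Nat.card P = p) {e : ℕ}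
    (he : (centralizer ((P : Subgroup G) : Set G)).relIndex (normalizer ((P : Subgroup G) : Set G)) = e) : 2 ≤ e := by
  have hpp := hp.out
  have he0 : e ≠ 0 := by
    rw [← he, Subgroup.relIndex]
    exact Subgroup.index_ne_zero_of_finite
  by_contra hlt
  have he1 : e = 1 := by omega
  rw [he1, relIndex_eq_one] at he
  have hcomm : ∀ a b : (P : Subgroup G), a * b = b * a := by
    haveI : IsCyclic (P : Subgroup G) := isCyclic_of_prime_card (p := p) hP
    letI := IsCyclic.commGroup (α := (P : Subgroup G))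
    exact fun a b => mul_comm a b
  have h1 := MonoidHom.ker_transferSylow_isComplement' P he
  have h2 : (MonoidHom.transferSylow P he).ker = ⊤ := by
    rw [eq_top_iff]
    intro g _
    rw [MonoidHom.mem_ker]
    exact perf_hom hcomm hperf _ g
  rw [h2] at h1
  have h3 := h1.card_mul
  have h4 : Nat.card (P : Subgroup G) = p := hP
  rw [card_top, h4] at h3
  have h5 : 0 < Nat.card G := Nat.card_pos
  have := hpp.two_le
  nlinarith

theorem n_pos (hperf : commutator G = ⊤) (P : Sylow p G) (hP : Nat.card P = p) {n : ℕ} (hn : Nat.card (Sylow p G) = 1 + n * p) : 1 ≤ n := by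
  by_contra hlt
  have hn0 : n = 0 := by omega
  rw [hn0, zero_mul, add_zero] at hn
  have hN : normalizer ((P : Subgroup G) : Set G) = ⊤ := by
    rw [P.card_eq_index_normalizer] at hn
    exact Subgroup.index_eq_one.1 hn
  have hPcyc : IsCyclic (P : Subgroup G) := isCyclic_of_prime_card (p := p) hP
  have h1 : IsCyclic (MulAut (P : Subgroup G)) := by
    have e := IsCyclic.mulAutMulEquiv (P : Subgroup G)
    have hP' : Nat.card (P : Subgroup G) = p := hP
    rw [hP'] at e
    exact isCyclic_of_surjective e.symm e.symm.surjective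
  have hcomm : ∀ a b : MulAut (P : Subgroup G), a * b = b * a := by
    letI := IsCyclic.commGroup (α := MulAut (P : Subgroup G))
    exact fun a b => mul_comm a b
  have hker : centralizer ((P : Subgroup G) : Set G) = ⊤ := by
    rw [eq_top_iff]
    intro g _
    let φ : G →* normalizer ((P : Subgroup G) : Set G) := (MonoidHom.id G).codRestrict _ (fun g => by rw [hN]; exact mem_top g)
    have h2 := perf_hom hcomm hperf ((P : Subgroup G).normalizerMonoidHom.comp φ) g
    have h3 : φ g ∈ (P : Subgroup G).normalizerMonoidHom.ker := by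
      rw [MonoidHom.mem_ker]; exact h2
    rw [Subgroup.normalizerMonoidHom_ker, mem_subgroupOf] at h3
    exact h3
  have h4 := index_two_le hperf P hP rfl
  rw [hker, hN] at h4
  rw [relIndex_self] at h4
  omega

/-- the theorem when `O_{p'}(G) = 1` -/
theorem main_core (hperf : commutator G = ⊤) (hcore : pPrimeCore p G = ⊥) (P : Sylow p G) (hP : Nat.card P = p) {n : ℕ}
    (hn : Nat.card (Sylow p G) = 1 + n * p) (hF : NoF p n) :
    (∃ (F : Type) (_ : Field F) (_ : Fintype F), Fintype.card F = p ∧ 3 < p ∧ Nonempty (G ≃* Matrix.ProjectiveSpecialLinearGroup (Fin 2) F)) ∨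
    (∃ (m : ℕ) (F : Type) (_ : Field F) (_ : Fintype F), Fintype.card F = 2 ^ m ∧ p = 2 ^ m + 1 ∧ 3 < p ∧ Nonempty (G ≃* Matrix.SpecialLinearGroup (Fin 2) F)) := by
  classical
  have hpp := hp.out
  obtain ⟨e, he⟩ : ∃ e, (centralizer ((P : Subgroup G) : Set G)).relIndex (normalizer ((P : Subgroup G) : Set G)) = e := ⟨_, rfl⟩
  have he2 := index_two_le hperf P hP he
  have hn1 := n_pos hperf P hP hn
  have hp2 := hpp.two_le
  have hep := Nat.le_of_dvd (by omega) (e_dvd (P := (P : Subgroup G)) hP he)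
  have hp3 : 3 ≤ p := by omega
  obtain ⟨t, X, Y0, εX, ε, hB⟩ := exists_blk (by omega) P hP he (by omega)
  rw [hn] at hB
  obtain ⟨a, b, d, A, B, Y, hD⟩ := exists_dat hperf P hP hp3 hn1 hF he2 hB
  have hbpos : 0 < b := by
    rcases hD.alt with ⟨-, -, ha, hb⟩ | ⟨ht2, htd, -, ha, hb⟩
    · have ha1 : 0 < a := by
        rw [Nat.pos_iff_ne_zero]; rintro rfl; omega
      rw [hb]; exact Nat.mul_pos ha1 (by omega)
    · by_contra hb0
      have hb0' : b = 0 := by omega
      rw [hb0'] at hb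
      rw [← hb] at ha
      nlinarith [Nat.zero_le (a * t * n)]
  obtain ⟨χ, hχ⟩ : B.Nonempty := by rw [← Finset.card_pos, hD.cB]; exact hbpos
  have hC := cent_P hcore P hP (irr_isCharacter χ.2) (hD.degB χ hχ) (hD.valB χ hχ) (hD.const χ hχ)
  obtain ⟨E, hFr⟩ := exists_frob P hP hC he
  have hcG : Nat.card G = p * e * (1 + n * p) := by
    have h1 := (normalizer ((P : Subgroup G) : Set G)).card_mul_index
    have h0 : Nat.card (Sylow p G) = (normalizer ((P : Subgroup G) : Set G)).index := P.card_eq_index_normalizer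
    rw [← h0, hn] at h1
    rw [← h1]
    congr 1
    rw [hC] at he
    have h2 := ((P : Subgroup G).subgroupOf (normalizer ((P : Subgroup G) : Set G))).card_mul_index
    rw [Nat.card_congr (Subgroup.subgroupOfEquivOfLe (le_normalizer : (P : Subgroup G) ≤ normalizer ((P : Subgroup G) : Set G))).toEquiv] at h2
    have h3 : ((P : Subgroup G).subgroupOf (normalizer ((P : Subgroup G) : Set G))).index = e := he
    have h4 : Nat.card (P : Subgroup G) = p := hP
    rw [h3, h4] at h2
    exact h2.symm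
  have h : Cfg p n e t a b d (P : Subgroup G) E A B Y := { hD, hFr with n1 := hn1, p3 := hp3, cG := hcG, perf := hperf }
  haveI := h.simple hcore P rfl
  rcases h.alt with ⟨hd, hS, ha, hb⟩ | ⟨ht2, htd, hS, ha, hb⟩
  · obtain ⟨h1, h2⟩ := h.case2 hcore P rfl hn hd hS ha
    exact Or.inl (h.ident1 h1 h2 hcore P rfl hn)
  · have hnum := h.nums2 ha htd
    rcases Nat.eq_zero_or_pos a with ha0 | ha0
    · right
      obtain ⟨j, hj1, hjj, hjc, hall⟩ := h.case1b ht2 htd hnum hS ha0
      have hp5 : 5 ≤ p := by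
        have := h.et
        have h3 : e = 2 := by rw [hnum.2.1, ha0, zero_mul]
        rw [h3] at this
        omega
      exact ident2 hp5 (by rw [hcG, mul_assoc]; exact dvd_mul_right _ _) hj1 hjj hjc hall
    · obtain ⟨h1, h2⟩ := h.case1a ht2 htd hnum hS ha0
      exact Or.inl (h.ident1 h1 h2 hcore P rfl hn)

end
end CfsgLib.BR11
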