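import Mathlib
import Cfsg.Agent.EqBase
import Cfsg.Agent.LibBR11o

/-! Groups with a Sylow subgroup of order `p`: reduction modulo the `p'`-core (seat helper11). -/

set_option autoImplicit false
set_option linter.all false

namespace CfsgLib.BR11

open Subgroup Cfsg CfsgLib.CharBasic
open scoped ComplexConjugate commutatorElement

universe u

theorem sylow_form {G : Type u} [Group G] [Finite G] {p : ℕ} [hp : Fact p.Prime] : ∃ n, Nat.card (Sylow p G) = 1 + n * p := by
  have h1 := card_sylow_modEq_one p G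
  have h2 : 0 < Nat.card (Sylow p G) := Nat.card_pos
  have h3 := (Nat.modEq_iff_dvd' h2).1 h1.symm
  obtain ⟨n, hn⟩ := h3
  exact ⟨n, by rw [mul_comm n, ← hn]; omega⟩

theorem perfect_quot {G : Type u} [Group G] (hperf : commutator G = ⊤) (N : Subgroup G) [N.Normal] : commutator (G ⧸ N) = ⊤ := by
  have h1 := Subgroup.map_commutator (⊤ : Subgroup G) ⊤ (QuotientGroup.mk' N)
  have h2 : Subgroup.map (QuotientGroup.mk' N) ⊤ = ⊤ := Subgroup.map_top_of_surjective _ (QuotientGroup.mk'_surjective N)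
  have h3 : ⁅(⊤ : Subgroup G), (⊤ : Subgroup G)⁆ = ⊤ := hperf
  rw [h2, h3, h2] at h1
  exact h1.symm

theorem quot_data {G : Type u} [Group G] [Finite G] {p : ℕ} [hp : Fact p.Prime] (N : Subgroup G) [hNn : N.Normal] (hN : ¬ p ∣ Nat.card N)
    (P : Sylow p G) (hP : Nat.card P = p) {n : ℕ} (hn : Nat.card (Sylow p G) = 1 + n * p) :
    ∃ (P' : Sylow p (G ⧸ N)) (n' m : ℕ), Nat.card P' = p ∧ Nat.card (Sylow p (G ⧸ N)) = 1 + n' * p ∧ n = n' + m + n' * m * p := by
  have hpp := hp.out
  letI : Fintype G := Fintype.ofFinite _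
  have hs := QuotientGroup.mk'_surjective N
  have hPc : Nat.card (P.mapSurjective hs : Sylow p (G ⧸ N)) = p := by
    have hinj : Function.Injective ((QuotientGroup.mk' N).comp (P : Subgroup G).subtype) := by
      rw [injective_iff_map_eq_one]
      intro x hx
      have h1 : (x : G) ∈ N := (QuotientGroup.eq_one_iff (N := N) (x : G)).1 hx
      by_contra hx1
      apply hN
      have h2 : orderOf (x : G) = p := ord_of_mem (P := (P : Subgroup G)) hP x.2 (fun h0 => hx1 (Subtype.ext h0))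
      rw [← h2]
      have := orderOf_dvd_natCard (⟨x, h1⟩ : N)
      rwa [← Subgroup.orderOf_coe] at this
    have h1 : ((P.mapSurjective hs : Sylow p (G ⧸ N)) : Subgroup (G ⧸ N)) = ((QuotientGroup.mk' N).comp (P : Subgroup G).subtype).range := by
      rw [Sylow.coe_mapSurjective]
      ext y
      simp [Subgroup.mem_map, MonoidHom.mem_range]
    have h2 : Nat.card ((P.mapSurjective hs : Sylow p (G ⧸ N)) : Subgroup (G ⧸ N)) = p := by
      rw [h1, ← Nat.card_congr (MonoidHom.ofInjective hinj).toEquiv]; exact hP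
    exact h2
  obtain ⟨n', hn'⟩ := sylow_form (G := G ⧸ N) (p := p)
  have hdvd : 1 + n' * p ∣ 1 + n * p := by
    have h0 : Nat.card (Sylow p G) = (normalizer ((P : Subgroup G) : Set G)).index := P.card_eq_index_normalizer
    have h0' : Nat.card (Sylow p (G ⧸ N)) = (normalizer (((P.mapSurjective hs : Sylow p (G ⧸ N)) : Subgroup (G ⧸ N)) : Set (G ⧸ N))).index :=
      (P.mapSurjective hs : Sylow p (G ⧸ N)).card_eq_index_normalizer
    rw [← hn, ← hn', h0, h0', ← Subgroup.index_comap_of_surjective _ hs]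
    apply Subgroup.index_dvd_of_le
    rw [Sylow.coe_mapSurjective]
    exact Subgroup.map_le_iff_le_comap.1 (Subgroup.le_normalizer_map _)
  obtain ⟨k, hk⟩ := hdvd
  have hk1 : ∃ m, k = 1 + m * p := by
    have h1 : (k : ℤ) ≡ 1 [ZMOD p] := by
      have h2 : ((1 + n' * p) * k : ℤ) = 1 + n * p := by exact_mod_cast hk.symm
      have h3 : (1 + n * p : ℤ) ≡ 1 [ZMOD p] := by
        rw [Int.modEq_iff_dvd]; exact ⟨-n, by ring⟩
      have h4 : ((1 + n' * p) * k : ℤ) ≡ k [ZMOD p] := by
        rw [Int.modEq_iff_dvd]; exact ⟨-(n' * k), by ring⟩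
      rw [h2] at h4
      exact h4.symm.trans h3
    have hk0 : 1 ≤ k := by
      rw [Nat.one_le_iff_ne_zero]; rintro rfl; omega
    have h2 : 1 ≡ k [MOD p] := by
      have := (Int.natCast_modEq_iff (a := k) (b := 1) (n := p)).1 (by push_cast; exact h1)
      exact this.symm
    obtain ⟨m, hm⟩ := (Nat.modEq_iff_dvd' hk0).1 h2
    exact ⟨m, by rw [mul_comm m, ← hm]; omega⟩
  obtain ⟨m, rfl⟩ := hk1
  refine ⟨P.mapSurjective hs, n', m, hPc, hn', ?_⟩
  apply Nat.eq_of_mul_eq_mul_right hpp.pos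
  have h1 : (1 + n' * p) * (1 + m * p) = 1 + (n' + m + n' * m * p) * p := by ring
  rw [h1] at hk
  omega

theorem nof_quot {p n n' m : ℕ} (h : n = n' + m + n' * m * p) (hF : NoF p n) : NoF p n' := by
  intro k u hk hu he
  apply hF (k + m * (u + 1) + k * m * p) u (by omega) hu
  rw [h]
  have h1 : (n' + m + n' * m * p) * (u + 1) = n' * (u + 1) * (1 + m * p) + m * (u + 1) := by ring
  rw [h1, he]; ring

theorem core_not_dvd {G : Type u} [Group G] [Finite G] {p : ℕ} [hp : Fact p.Prime] : ¬ p ∣ Nat.card (pPrimeCore p G) :=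
  (Nat.Prime.coprime_iff_not_dvd hp.out).1 (CfsgLib.Cores.pPrimeCore_coprime p).symm

/-- the theorem -/
theorem main {G : Type u} [Group G] [Finite G] (hperf : commutator G = ⊤) {p : ℕ} [hp : Fact p.Prime] (P : Sylow p G) (hP : Nat.card P = p) {n : ℕ}
    (hn : Nat.card (Sylow p G) = 1 + n * p) (hF : NoF p n) :
    (∃ (F : Type) (_ : Field F) (_ : Fintype F), Fintype.card F = p ∧ 3 < p ∧ Nonempty (G ⧸ pPrimeCore p G ≃* Matrix.ProjectiveSpecialLinearGroup (Fin 2) F)) ∨
    (∃ (m : ℕ) (F : Type) (_ : Field F) (_ : Fintype F), Fintype.card F = 2 ^ m ∧ p = 2 ^ m + 1 ∧ 3 < p ∧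
      Nonempty (G ⧸ pPrimeCore p G ≃* Matrix.SpecialLinearGroup (Fin 2) F)) := by
  obtain ⟨P', n', m, hP', hn', he⟩ := quot_data (pPrimeCore p G) core_not_dvd P hP hn
  letI : Fintype (G ⧸ pPrimeCore p G) := Fintype.ofFinite _
  exact main_core (perfect_quot hperf _) (CfsgLib.Cores.pPrimeCore_quotient_pPrimeCore p) P' hP' hn' (nof_quot he hF)

end CfsgLib.BR11
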