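import Mathlib
import Cfsg.Agent.EqBase
import Cfsg.Agent.LibBR11p
import Cfsg.Agent.LibDkH29

/-! Groups with a Sylow subgroup of order `p`: small order (seat helper11). -/

set_option autoImplicit false
set_option linter.all false

namespace CfsgLib.BR11

open Subgroup Cfsg CfsgLib.CharBasic
open scoped ComplexConjugate commutatorElement

universe u

theorem nof_of_small {p n : ℕ} (h : 2 * n < p + 3) : NoF p n := by
  intro k u hk hu he
  obtain ⟨k, rfl⟩ : ∃ j, k = j + 1 := ⟨k - 1, by omega⟩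
  obtain ⟨u, rfl⟩ : ∃ j, u = j + 1 := ⟨u - 1, by omega⟩
  have h1 : (2 * n + 1) * (u + 1 + 1) ≤ (p + 3) * (u + 1 + 1) := Nat.mul_le_mul_right _ h
  nlinarith [Nat.zero_le (k * u * p), Nat.zero_le (k * p), Nat.zero_le (u * p), Nat.zero_le (u * u), Nat.zero_le (u * n)]

theorem card_psl_odd {F : Type*} [Field F] [Fintype F] {p : ℕ} (hF : Fintype.card F = p) (hp : p.Prime) (hp3 : 3 ≤ p) :
    2 * Nat.card (Matrix.ProjectiveSpecialLinearGroup (Fin 2) F) = p * ((p - 1) * (p + 1)) := by
  have h1 := Cfsg.Agent.H22.card_PSL2 (F := F)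
  rw [hF] at h1
  have h2 : Nat.gcd 2 (p - 1) = 2 := by
    apply Nat.gcd_eq_left
    have := (hp.odd_of_ne_two (by omega))
    obtain ⟨k, hk⟩ := this
    exact ⟨k, by omega⟩
  rwa [h2] at h1

theorem card_sl_two {F : Type*} [Field F] [Fintype F] {m : ℕ} (hF : Fintype.card F = 2 ^ m) (hm : 1 ≤ m) :
    Nat.card (Matrix.SpecialLinearGroup (Fin 2) F) = 2 ^ m * ((2 ^ m - 1) * (2 ^ m + 1)) := by
  obtain ⟨φ⟩ := psl_sl hF hm
  rw [← Nat.card_congr φ.toEquiv]
  have h1 := Cfsg.Agent.H22.card_PSL2 (F := F)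
  rw [hF] at h1
  have h2 : Nat.gcd 2 (2 ^ m - 1) = 1 := by
    have h3 : ¬ 2 ∣ 2 ^ m - 1 := by
      have h4 : 2 ∣ 2 ^ m := dvd_pow_self 2 (by omega)
      have h5 : 0 < 2 ^ m := by positivity
      omega
    exact (Nat.Prime.coprime_iff_not_dvd Nat.prime_two).2 h3
  rwa [h2, one_mul] at h1

theorem small_nof {G : Type u} [Group G] [Finite G] (hperf : commutator G = ⊤) {p : ℕ} [hp : Fact p.Prime] (hdvd : p ∣ Nat.card G)
    (hbig : Nat.card G < p ^ 3) (P : Sylow p G) (hPn : ¬ (P : Subgroup G).Normal) :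
    Nat.card P = p ∧ ∃ n, Nat.card (Sylow p G) = 1 + n * p ∧ NoF p n := by
  have hpp := hp.out
  letI : Fintype G := Fintype.ofFinite _
  obtain ⟨n, hn⟩ := sylow_form (G := G) (p := p)
  have hn1 : 1 ≤ n := by
    by_contra hlt
    have hn0 : n = 0 := by omega
    rw [hn0, zero_mul, add_zero] at hn
    apply hPn
    have h0 : Nat.card (Sylow p G) = (normalizer ((P : Subgroup G) : Set G)).index := P.card_eq_index_normalizer
    rw [hn] at h0
    have h1 := Subgroup.index_eq_one.1 h0.symm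
    exact Subgroup.normalizer_eq_top_iff.1 h1
  have h0 : Nat.card (Sylow p G) = (normalizer ((P : Subgroup G) : Set G)).index := P.card_eq_index_normalizer
  have hNi := (normalizer ((P : Subgroup G) : Set G)).card_mul_index
  rw [← h0, hn] at hNi
  have hPN : Nat.card (P : Subgroup G) ≤ Nat.card (normalizer ((P : Subgroup G) : Set G)) := Subgroup.card_le_of_le le_normalizer
  obtain ⟨k, hk⟩ := P.2.exists_card_eq
  have hk' : Nat.card (P : Subgroup G) = p ^ k := hk
  have hk0 : k ≠ 0 := by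
    rintro rfl
    have h1 := P.card_eq_multiplicity
    rw [pow_zero] at hk
    rw [hk] at h1
    have h2 : 0 < (Nat.card G).factorization p := hpp.factorization_pos_of_dvd Nat.card_pos.ne' hdvd
    have h3 := Nat.one_lt_pow h2.ne' hpp.one_lt
    omega
  have hk2 : k < 2 := by
    by_contra hge
    have h1 : p ^ 2 ≤ p ^ k := Nat.pow_le_pow_right hpp.pos (by omega)
    rw [← hk'] at h1
    have h2 : p ^ 2 * (1 + n * p) ≤ Nat.card G := by rw [← hNi]; exact Nat.mul_le_mul_right _ (h1.trans hPN)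
    have h3 : p ^ 3 ≤ p ^ 2 * (1 + n * p) := by
      rw [pow_succ p 2]; apply Nat.mul_le_mul_left
      nlinarith
    omega
  have hk1 : k = 1 := by omega
  rw [hk1, pow_one] at hk'
  refine ⟨hk', n, hn, ?_⟩
  intro h u hh hu hF
  have hnp : p + 3 ≤ 2 * n := by
    by_contra hlt
    exact nof_of_small (by omega) h u hh hu hF
  obtain ⟨e, he⟩ : ∃ e, (centralizer ((P : Subgroup G) : Set G)).relIndex (normalizer ((P : Subgroup G) : Set G)) = e := ⟨_, rfl⟩
  have he2 := index_two_le hperf P hk' he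
  have hC := ((centralizer ((P : Subgroup G) : Set G)).subgroupOf (normalizer ((P : Subgroup G) : Set G))).card_mul_index
  have he' : ((centralizer ((P : Subgroup G) : Set G)).subgroupOf (normalizer ((P : Subgroup G) : Set G))).index = e := he
  rw [Nat.card_congr (Subgroup.subgroupOfEquivOfLe (Subgroup.centralizer_le_normalizer _)).toEquiv, he'] at hC
  have hPC : Nat.card (P : Subgroup G) ≤ Nat.card (centralizer ((P : Subgroup G) : Set G)) := Subgroup.card_le_of_le (P_le_C hk')
  rw [hk'] at hPC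
  have h1 : p * 2 ≤ Nat.card (normalizer ((P : Subgroup G) : Set G)) := by rw [← hC]; exact Nat.mul_le_mul hPC he2
  have h2 : p * 2 * (1 + n * p) ≤ Nat.card G := by rw [← hNi]; exact Nat.mul_le_mul_right _ h1
  have h3 : p * (p * (p + 3)) ≤ p * (p * (2 * n)) := Nat.mul_le_mul_left _ (Nat.mul_le_mul_left _ hnp)
  have h4 : p ^ 3 = p * (p * p) := by ring
  nlinarith [Nat.zero_le (p * p)]

/-- perfect groups of order less than `p ^ 3` -/
theorem s4701 {G : Type u} [Group G] [Finite G] (hperf : commutator G = ⊤) {p : ℕ} [hp : Fact p.Prime] (hdvd : p ∣ Nat.card G)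
    (hbig : Nat.card G < p ^ 3) (P : Sylow p G) (hPn : ¬ (P : Subgroup G).Normal) (h2 : ∀ N : Subgroup G, N.Normal → Nat.card N ≠ 2) :
    (∃ (F : Type) (_ : Field F) (_ : Fintype F), Fintype.card F = p ∧ 3 < p ∧ Nonempty (G ≃* Matrix.ProjectiveSpecialLinearGroup (Fin 2) F)) ∨
    (∃ (m : ℕ) (F : Type) (_ : Field F) (_ : Fintype F), Fintype.card F = 2 ^ m ∧ p = 2 ^ m + 1 ∧ 3 < p ∧
      Nonempty (G ≃* Matrix.SpecialLinearGroup (Fin 2) F)) := by
  have hpp := hp.out
  obtain ⟨hP, n, hn, hF⟩ := small_nof hperf hdvd hbig P hPn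
  have hH := (pPrimeCore p G).card_mul_index
  rw [Subgroup.index_eq_card] at hH
  have hH0 : 0 < Nat.card (pPrimeCore p G) := Nat.card_pos
  have hH2 : Nat.card (pPrimeCore p G) ≠ 2 := h2 _ inferInstance
  have hbot : Nat.card (pPrimeCore p G) = 1 → pPrimeCore p G = ⊥ := fun h => Subgroup.card_eq_one.1 h
  rcases main hperf P hP hn hF with ⟨F, iF, iFt, hFc, hp3, ⟨φ⟩⟩ | ⟨m, F, iF, iFt, hFc, hpm, hp3, ⟨φ⟩⟩
  · left
    refine ⟨F, iF, iFt, hFc, hp3, ?_⟩
    have hc := card_psl_odd hFc hpp (by omega)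
    rw [← Nat.card_congr φ.toEquiv] at hc
    have h1 : pPrimeCore p G = ⊥ := by
      apply hbot
      by_contra hne
      have h3 : 3 ≤ Nat.card (pPrimeCore p G) := by omega
      have h4 : 3 * Nat.card (G ⧸ pPrimeCore p G) ≤ Nat.card G := by rw [← hH]; exact Nat.mul_le_mul_right _ h3
      obtain ⟨q, rfl⟩ : ∃ q, p = q + 1 := ⟨p - 1, by omega⟩
      rw [Nat.add_sub_cancel] at hc
      have h5 : (q + 1) ^ 3 = (q + 1) * ((q + 1) * (q + 1)) := by ring
      have h6 : 3 * (q * (q + 1 + 1)) ≥ 2 * ((q + 1) * (q + 1)) := by nlinarith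
      have h7 : (q + 1) * (3 * (q * (q + 1 + 1))) ≥ (q + 1) * (2 * ((q + 1) * (q + 1))) := Nat.mul_le_mul_left _ h6
      nlinarith
    exact ⟨((QuotientGroup.quotientMulEquivOfEq h1).trans QuotientGroup.quotientBot).symm.trans φ⟩
  · right
    refine ⟨m, F, iF, iFt, hFc, hpm, hp3, ?_⟩
    have hm1 : 1 ≤ m := by
      rcases m with _ | m
      · rw [pow_zero] at hpm; omega
      · omega
    have hc := card_sl_two hFc hm1
    rw [← Nat.card_congr φ.toEquiv] at hc
    have h1 : pPrimeCore p G = ⊥ := by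
      apply hbot
      by_contra hne
      have h3 : 3 ≤ Nat.card (pPrimeCore p G) := by omega
      have h4 : 3 * Nat.card (G ⧸ pPrimeCore p G) ≤ Nat.card G := by rw [← hH]; exact Nat.mul_le_mul_right _ h3
      have hpos : 0 < 2 ^ m := by positivity
      obtain ⟨q, hq⟩ : ∃ q, 2 ^ m = q + 1 := ⟨2 ^ m - 1, by omega⟩
      rw [hq] at hc hpm
      rw [Nat.add_sub_cancel] at hc
      subst hpm
      have h5 : (q + 1 + 1) ^ 3 = (q + 1 + 1) * ((q + 1 + 1) * (q + 1 + 1)) := by ring
      have h6 : 3 * ((q + 1) * q) ≥ (q + 1 + 1) * (q + 1 + 1) := by nlinarith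
      have h7 : (q + 1 + 1) * (3 * ((q + 1) * q)) ≥ (q + 1 + 1) * ((q + 1 + 1) * (q + 1 + 1)) := Nat.mul_le_mul_left _ h6
      nlinarith
    exact ⟨((QuotientGroup.quotientMulEquivOfEq h1).trans QuotientGroup.quotientBot).symm.trans φ⟩

theorem simple_perfect {G : Type u} [Group G] [Finite G] [IsSimpleGroup G] (hG : ¬ IsCyclic G) : commutator G = ⊤ := by
  rcases (inferInstance : (commutator G).Normal).eq_bot_or_eq_top with h | h
  · exfalso
    apply hG
    have hcomm : ∀ a b : G, a * b = b * a := by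
      intro a b
      have h1 : ⁅a, b⁆ ∈ commutator G := commutator_mem_commutator (mem_top a) (mem_top b)
      rw [h, mem_bot, commutatorElement_eq_one_iff_mul_comm] at h1
      exact h1
    letI : CommGroup G := { (inferInstance : Group G) with mul_comm := hcomm }
    exact IsSimpleGroup.isCyclic
  · exact h

/-- simple groups of order less than `p ^ 3` -/
theorem s0999 {G : Type u} [Group G] [Finite G] [IsSimpleGroup G] (hG : ¬ IsCyclic G) {p : ℕ} (hp : p.Prime) (hdvd : p ∣ Nat.card G)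
    (hbig : Nat.card G < p ^ 3) :
    (∃ (F : Type) (_ : Field F) (_ : Fintype F), Fintype.card F = p ∧ 3 < p ∧ Nonempty (G ≃* Matrix.ProjectiveSpecialLinearGroup (Fin 2) F)) ∨
    (∃ (m : ℕ) (F : Type) (_ : Field F) (_ : Fintype F), Fintype.card F = 2 ^ m ∧ p = 2 ^ m + 1 ∧ 3 < p ∧
      Nonempty (G ≃* Matrix.ProjectiveSpecialLinearGroup (Fin 2) F)) := by
  haveI : Fact p.Prime := ⟨hp⟩
  have hperf := simple_perfect hG
  obtain ⟨P⟩ := (inferInstance : Nonempty (Sylow p G))
  have hnt : ∀ H : Subgroup G, H.Normal → H ≠ ⊥ → H = ⊤ := fun H hH hne => hH.eq_bot_or_eq_top.resolve_left hne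
  have hPn : ¬ (P : Subgroup G).Normal := by
    intro hN
    have hne : (P : Subgroup G) ≠ ⊥ := by
      intro h0
      have h1 := P.card_eq_multiplicity
      have h3 : Nat.card (P : Subgroup G) = 1 := by rw [h0, card_bot]
      have h2 : 0 < (Nat.card G).factorization p := hp.factorization_pos_of_dvd Nat.card_pos.ne' hdvd
      have h4 := Nat.one_lt_pow h2.ne' hp.one_lt
      have h5 : Nat.card (P : Subgroup G) = p ^ (Nat.card G).factorization p := h1
      omega
    have h1 := hnt _ hN hne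
    have hpg : IsPGroup p G := by
      have := P.2
      rw [h1] at this
      exact IsPGroup.of_equiv this Subgroup.topEquiv
    haveI : Nontrivial G := IsSimpleGroup.toNontrivial
    have hct := hpg.center_nontrivial
    have hctop : center G = ⊤ := hnt _ inferInstance (fun h0 => by
      rw [h0] at hct
      exact not_nontrivial _ hct)
    have hcomm : ∀ a b : G, a * b = b * a := fun a b => (mem_center_iff.1 (by rw [hctop]; exact mem_top b : b ∈ center G) a)
    letI : CommGroup G := { (inferInstance : Group G) with mul_comm := hcomm }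
    exact hG IsSimpleGroup.isCyclic
  have h2 : ∀ N : Subgroup G, N.Normal → Nat.card N ≠ 2 := by
    intro N hN hc
    have h1 := hnt N hN (by intro h0; rw [h0, card_bot] at hc; omega)
    rw [h1, card_top] at hc
    haveI : Fact (Nat.Prime 2) := ⟨Nat.prime_two⟩
    exact hG (isCyclic_of_prime_card (p := 2) hc)
  rcases s4701 hperf hdvd hbig P hPn h2 with h | ⟨m, F, iF, iFt, hFc, hpm, hp3, ⟨φ⟩⟩
  · exact Or.inl h
  · right
    have hm1 : 1 ≤ m := by
      rcases m with _ | m
      · rw [pow_zero] at hpm; omega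
      · omega
    obtain ⟨ψ⟩ := psl_sl (F := F) hFc hm1
    exact ⟨m, F, iF, iFt, hFc, hpm, hp3, ⟨φ.trans ψ.symm⟩⟩

theorem le_norm_of_card {G : Type u} [Group G] [Finite G] {p : ℕ} [hp : Fact p.Prime] (N : Subgroup G) [hNn : N.Normal] (P : Sylow p G)
    (hc : Nat.card (Sylow p G) = Nat.card (Sylow p (G ⧸ N))) : N ≤ normalizer ((P : Subgroup G) : Set G) := by
  have hs := QuotientGroup.mk'_surjective N
  have h0 : Nat.card (Sylow p G) = (normalizer ((P : Subgroup G) : Set G)).index := P.card_eq_index_normalizer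
  have h0' : Nat.card (Sylow p (G ⧸ N)) = (normalizer (((P.mapSurjective hs : Sylow p (G ⧸ N)) : Subgroup (G ⧸ N)) : Set (G ⧸ N))).index :=
    (P.mapSurjective hs : Sylow p (G ⧸ N)).card_eq_index_normalizer
  rw [h0, h0', ← Subgroup.index_comap_of_surjective _ hs] at hc
  have hle : normalizer ((P : Subgroup G) : Set G) ≤
      (normalizer (((P.mapSurjective hs : Sylow p (G ⧸ N)) : Subgroup (G ⧸ N)) : Set (G ⧸ N))).comap (QuotientGroup.mk' N) := by
    rw [Sylow.coe_mapSurjective]
    exact Subgroup.map_le_iff_le_comap.1 (Subgroup.le_normalizer_map _)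
  have heq : normalizer ((P : Subgroup G) : Set G) =
      (normalizer (((P.mapSurjective hs : Sylow p (G ⧸ N)) : Subgroup (G ⧸ N)) : Set (G ⧸ N))).comap (QuotientGroup.mk' N) := by
    apply Subgroup.eq_of_le_of_card_ge hle
    have h1 := (normalizer ((P : Subgroup G) : Set G)).card_mul_index
    have h2 := ((normalizer (((P.mapSurjective hs : Sylow p (G ⧸ N)) : Subgroup (G ⧸ N)) : Set (G ⧸ N))).comap (QuotientGroup.mk' N)).card_mul_index
    rw [← hc, ← h1] at h2
    exact (Nat.eq_of_mul_eq_mul_right (Nat.pos_of_ne_zero Subgroup.index_ne_zero_of_finite) h2).le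
  rw [heq]
  intro x hx
  rw [mem_comap]
  have : (QuotientGroup.mk' N) x = 1 := (QuotientGroup.eq_one_iff (N := N) x).2 hx
  rw [this]; exact one_mem _

/-- self-centralising elements of prime order -/
theorem s0996 {G : Type u} [Group G] [Finite G] (hperf : commutator G = ⊤) {p : ℕ} [hp : Fact p.Prime] (z : G) (hz : orderOf z = p)
    (hC : centralizer ({z} : Set G) = zpowers z) (hn : 2 * Nat.card (Sylow p G) < (p + 1) * (p + 2)) :
    (∃ (F : Type) (_ : Field F) (_ : Fintype F), Fintype.card F = p ∧ 3 < p ∧ Nonempty (G ≃* Matrix.ProjectiveSpecialLinearGroup (Fin 2) F)) ∨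
    (∃ (m : ℕ) (F : Type) (_ : Field F) (_ : Fintype F), Fintype.card F = 2 ^ m ∧ p = 2 ^ m + 1 ∧ 3 < p ∧
      Nonempty (G ≃* Matrix.ProjectiveSpecialLinearGroup (Fin 2) F)) := by
  have hpp := hp.out
  letI : Fintype G := Fintype.ofFinite _
  have hzp : Nat.card (zpowers z) = p := by rw [Nat.card_zpowers, hz]
  have hIs : IsPGroup p (zpowers z) := IsPGroup.of_card (n := 1) (by rw [hzp, pow_one])
  obtain ⟨P, hP⟩ := hIs.exists_le_sylow
  have hz1 : z ≠ 1 := by
    rintro rfl
    rw [orderOf_one] at hz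
    exact hpp.one_lt.ne hz
  have hPz : (P : Subgroup G) = zpowers z := by
    have hzP : z ∈ (P : Subgroup G) := hP (mem_zpowers z)
    have hnt : Nontrivial (P : Subgroup G) := ⟨⟨⟨z, hzP⟩, 1, fun h0 => hz1 (congrArg Subtype.val h0)⟩⟩
    have hct := P.2.center_nontrivial
    obtain ⟨w, hw, hw1⟩ := (Subgroup.nontrivial_iff_exists_ne_one _).1 hct
    have hwz : (w : G) ∈ zpowers z := by
      rw [← hC, mem_centralizer_singleton_iff]
      exact congrArg Subtype.val ((mem_center_iff.1 hw ⟨z, hzP⟩).symm)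
    have hw1' : (w : G) ≠ 1 := fun h0 => hw1 (Subtype.ext h0)
    have hwz' : zpowers (w : G) = zpowers z := zpowers_eq hzp hwz hw1'
    apply le_antisymm _ hP
    intro x hx
    rw [← hC, mem_centralizer_singleton_iff]
    have h1 : x * (w : G) = w * x := congrArg Subtype.val (mem_center_iff.1 hw ⟨x, hx⟩)
    have h2 : z ∈ zpowers (w : G) := by rw [hwz']; exact mem_zpowers z
    obtain ⟨k, hk⟩ := mem_zpowers_iff.1 h2
    rw [← hk]
    exact ((show Commute x (w : G) from h1).zpow_right k).eq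
  have hPc : Nat.card P = p := by
    have : Nat.card (P : Subgroup G) = p := by rw [hPz]; exact hzp
    exact this
  obtain ⟨n, hn'⟩ := sylow_form (G := G) (p := p)
  have h2n : 2 * n < p + 3 := by
    rw [hn'] at hn
    by_contra hge
    have : (p + 3) * p ≤ 2 * n * p := Nat.mul_le_mul_right _ (by omega)
    nlinarith
  obtain ⟨P', n', m, hP', hn'', he⟩ := quot_data (pPrimeCore p G) core_not_dvd P hPc hn'
  have hn1' : 1 ≤ n' := by
    letI : Fintype (G ⧸ pPrimeCore p G) := Fintype.ofFinite _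
    exact n_pos (perfect_quot hperf _) P' hP' hn''
  have hm0 : m = 0 := by
    by_contra hne
    have hm1 : 1 ≤ m := by omega
    have h1 : p ≤ n' * m * p := Nat.le_mul_of_pos_left _ (Nat.mul_pos hn1' hm1)
    have := hpp.two_le
    omega
  rw [hm0, add_zero, mul_zero, zero_mul, add_zero] at he
  have hle := le_norm_of_card (pPrimeCore p G) P (by rw [hn', hn'', he])
  have hcore : pPrimeCore p G = ⊥ := by
    rw [eq_bot_iff]
    intro x hx
    have hxN := hle hx
    have hzP : z ∈ (P : Subgroup G) := by rw [hPz]; exact mem_zpowers z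
    have h1 : x * z * x⁻¹ * z⁻¹ ∈ (P : Subgroup G) := mul_mem ((mem_normalizer_iff.1 hxN z).1 hzP) (inv_mem hzP)
    have h2 : x * z * x⁻¹ * z⁻¹ ∈ pPrimeCore p G := by
      have h3 : z * x⁻¹ * z⁻¹ ∈ pPrimeCore p G := (inferInstance : (pPrimeCore p G).Normal).conj_mem _ (inv_mem hx) z
      have e1 : x * z * x⁻¹ * z⁻¹ = x * (z * x⁻¹ * z⁻¹) := by group
      rw [e1]; exact mul_mem hx h3
    have h3 : x * z * x⁻¹ * z⁻¹ = 1 := by
      by_contra hne
      have h4 := ord_of_mem (P := (P : Subgroup G)) hPc h1 hne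
      apply core_not_dvd (G := G) (p := p)
      have := orderOf_dvd_natCard (⟨_, h2⟩ : pPrimeCore p G)
      rw [← Subgroup.orderOf_coe] at this
      rwa [h4] at this
    have h4 : x ∈ centralizer ({z} : Set G) := by
      rw [mem_centralizer_singleton_iff]
      calc x * z = (x * z * x⁻¹ * z⁻¹) * (z * x) := by group
        _ = z * x := by rw [h3, one_mul]
    rw [hC, ← hPz] at h4
    rw [mem_bot]
    by_contra hne
    have h5 := ord_of_mem (P := (P : Subgroup G)) hPc h4 hne
    apply core_not_dvd (G := G) (p := p)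
    have := orderOf_dvd_natCard (⟨_, hx⟩ : pPrimeCore p G)
    rw [← Subgroup.orderOf_coe] at this
    rwa [h5] at this
  rcases main_core hperf hcore P hPc hn' (nof_of_small h2n) with h | ⟨m, F, iF, iFt, hFc, hpm, hp3, ⟨φ⟩⟩
  · exact Or.inl h
  · right
    have hm1 : 1 ≤ m := by
      rcases m with _ | m
      · rw [pow_zero] at hpm; omega
      · omega
    obtain ⟨ψ⟩ := psl_sl (F := F) hFc hm1
    exact ⟨m, F, iF, iFt, hFc, hpm, hp3, ⟨φ.trans ψ.symm⟩⟩

end CfsgLib.BR11
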