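import Mathlib
import Cfsg.Agent.EqBase

/-! Brauer-Suzuki-Wall: combinatorics of short vectors (seat helper11). -/

set_option autoImplicit false
set_option linter.all false

namespace CfsgLib.BW11

section
variable {ι : Type*} [Fintype ι] [DecidableEq ι]

theorem sum3 {M : Type*} [AddCommMonoid M] (f : ι → M) {a b c : ι} (hab : b ≠ a) (hac : c ≠ a) (hbc : b ≠ c)
    (h : ∀ l, l ≠ a → l ≠ b → l ≠ c → f l = 0) : ∑ l, f l = f a + f b + f c := by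
  have h1 : ∑ l ∈ ({a, b, c} : Finset ι), f l = ∑ l, f l := by
    apply Finset.sum_subset (Finset.subset_univ _)
    intro l _ hl
    simp only [Finset.mem_insert, Finset.mem_singleton, not_or] at hl
    exact h l hl.1 hl.2.1 hl.2.2
  rw [← h1, Finset.sum_insert (by simp [hab.symm, hac.symm]), Finset.sum_insert (by simp [hbc]), Finset.sum_singleton, add_assoc]

theorem sum4 {M : Type*} [AddCommMonoid M] (f : ι → M) {a b c d : ι} (hab : b ≠ a) (hac : c ≠ a) (had : d ≠ a) (hbc : b ≠ c)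
    (hbd : b ≠ d) (hcd : c ≠ d) (h : ∀ l, l ≠ a → l ≠ b → l ≠ c → l ≠ d → f l = 0) : ∑ l, f l = f a + f b + f c + f d := by
  have h1 : ∑ l ∈ ({a, b, c, d} : Finset ι), f l = ∑ l, f l := by
    apply Finset.sum_subset (Finset.subset_univ _)
    intro l _ hl
    simp only [Finset.mem_insert, Finset.mem_singleton, not_or] at hl
    exact h l hl.1 hl.2.1 hl.2.2.1 hl.2.2.2
  rw [← h1, Finset.sum_insert (by simp [hab.symm, hac.symm, had.symm]), Finset.sum_insert (by simp [hbc, hbd]),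
    Finset.sum_insert (by simp [hcd]), Finset.sum_singleton, add_assoc, add_assoc]

theorem supp {u : ι → ℤ} {i₀ : ι} (h0 : u i₀ = 1) {N : ℤ} (hN : ∑ i, u i ^ 2 = N) (hN4 : N ≤ 4) :
    (∀ l, l ≠ i₀ → u l = 0 ∨ u l = 1 ∨ u l = -1) ∧ (((Finset.univ.erase i₀).filter (fun l => u l ≠ 0)).card : ℤ) = N - 1 := by
  have hsplit : ∑ i, u i ^ 2 = u i₀ ^ 2 + ∑ i ∈ Finset.univ.erase i₀, u i ^ 2 :=
    (Finset.add_sum_erase _ (fun i => u i ^ 2) (Finset.mem_univ i₀)).symm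
  rw [hsplit, h0] at hN
  have h1 : ∀ l, l ≠ i₀ → u l = 0 ∨ u l = 1 ∨ u l = -1 := by
    intro l hl
    have h2 : u l ^ 2 ≤ 3 := by
      have := Finset.single_le_sum (f := fun i => u i ^ 2) (fun j _ => sq_nonneg (u j)) (Finset.mem_erase.2 ⟨hl, Finset.mem_univ l⟩)
      linarith
    have h4 : u l < 2 := by nlinarith
    have h5 : -2 < u l := by nlinarith
    omega
  refine ⟨h1, ?_⟩
  have h2 : ∑ i ∈ Finset.univ.erase i₀, u i ^ 2 = ∑ i ∈ (Finset.univ.erase i₀).filter (fun l => u l ≠ 0), (1 : ℤ) := by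
    rw [Finset.sum_filter]
    apply Finset.sum_congr rfl
    intro l hl
    rcases h1 l (Finset.ne_of_mem_erase hl) with h | h | h <;> rw [h] <;> simp
  rw [h2, Finset.sum_const, nsmul_eq_mul, mul_one] at hN
  linarith

theorem supp3 {u : ι → ℤ} {i₀ : ι} (h0 : u i₀ = 1) (hN : ∑ i, u i ^ 2 = 3) :
    ∃ i j, i ≠ i₀ ∧ j ≠ i₀ ∧ i ≠ j ∧ (u i = 1 ∨ u i = -1) ∧ (u j = 1 ∨ u j = -1) ∧ ∀ l, l ≠ i₀ → l ≠ i → l ≠ j → u l = 0 := by
  obtain ⟨h1, h2⟩ := supp h0 hN (by norm_num)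
  have h3 : ((Finset.univ.erase i₀).filter (fun l => u l ≠ 0)).card = 2 := by
    have : (((Finset.univ.erase i₀).filter (fun l => u l ≠ 0)).card : ℤ) = 2 := by rw [h2]; norm_num
    exact_mod_cast this
  obtain ⟨i, j, hij, hS⟩ := Finset.card_eq_two.1 h3
  have hi : i ∈ (Finset.univ.erase i₀).filter (fun l => u l ≠ 0) := by rw [hS]; simp
  have hj : j ∈ (Finset.univ.erase i₀).filter (fun l => u l ≠ 0) := by rw [hS]; simp
  rw [Finset.mem_filter, Finset.mem_erase] at hi hj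
  refine ⟨i, j, hi.1.1, hj.1.1, hij, (h1 i hi.1.1).resolve_left hi.2, (h1 j hj.1.1).resolve_left hj.2, fun l hl hli hlj => ?_⟩
  by_contra hne
  have : l ∈ (Finset.univ.erase i₀).filter (fun l => u l ≠ 0) :=
    Finset.mem_filter.2 ⟨Finset.mem_erase.2 ⟨hl, Finset.mem_univ l⟩, hne⟩
  rw [hS] at this
  simp only [Finset.mem_insert, Finset.mem_singleton] at this
  tauto

theorem supp4 {u : ι → ℤ} {i₀ : ι} (h0 : u i₀ = 1) (hN : ∑ i, u i ^ 2 = 4) :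
    ∃ i j k, i ≠ i₀ ∧ j ≠ i₀ ∧ k ≠ i₀ ∧ i ≠ j ∧ i ≠ k ∧ j ≠ k ∧ (u i = 1 ∨ u i = -1) ∧ (u j = 1 ∨ u j = -1) ∧ (u k = 1 ∨ u k = -1) ∧
      ∀ l, l ≠ i₀ → l ≠ i → l ≠ j → l ≠ k → u l = 0 := by
  obtain ⟨h1, h2⟩ := supp h0 hN (by norm_num)
  have h3 : ((Finset.univ.erase i₀).filter (fun l => u l ≠ 0)).card = 3 := by
    have : (((Finset.univ.erase i₀).filter (fun l => u l ≠ 0)).card : ℤ) = 3 := by rw [h2]; norm_num
    exact_mod_cast this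
  obtain ⟨i, j, k, hij, hik, hjk, hS⟩ := Finset.card_eq_three.1 h3
  have hi : i ∈ (Finset.univ.erase i₀).filter (fun l => u l ≠ 0) := by rw [hS]; simp
  have hj : j ∈ (Finset.univ.erase i₀).filter (fun l => u l ≠ 0) := by rw [hS]; simp
  have hk : k ∈ (Finset.univ.erase i₀).filter (fun l => u l ≠ 0) := by rw [hS]; simp
  rw [Finset.mem_filter, Finset.mem_erase] at hi hj hk
  refine ⟨i, j, k, hi.1.1, hj.1.1, hk.1.1, hij, hik, hjk, (h1 i hi.1.1).resolve_left hi.2, (h1 j hj.1.1).resolve_left hj.2,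
    (h1 k hk.1.1).resolve_left hk.2, fun l hl hli hlj hlk => ?_⟩
  by_contra hne
  have : l ∈ (Finset.univ.erase i₀).filter (fun l => u l ≠ 0) :=
    Finset.mem_filter.2 ⟨Finset.mem_erase.2 ⟨hl, Finset.mem_univ l⟩, hne⟩
  rw [hS] at this
  simp only [Finset.mem_insert, Finset.mem_singleton] at this
  tauto

/-- if one nonzero coordinate of a vector of norm 4 is known, the others -/
theorem supp4' {u : ι → ℤ} {i₀ i : ι} (h0 : u i₀ = 1) (hN : ∑ i, u i ^ 2 = 4) (hi : i ≠ i₀) (hui : u i ≠ 0) :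
    ∃ p r, p ≠ i₀ ∧ r ≠ i₀ ∧ p ≠ i ∧ r ≠ i ∧ p ≠ r ∧ (u p = 1 ∨ u p = -1) ∧ (u r = 1 ∨ u r = -1) ∧
      ∀ l, l ≠ i₀ → l ≠ i → l ≠ p → l ≠ r → u l = 0 := by
  obtain ⟨a, b, c, ha, hb, hc, hab, hac, hbc, ua, ub, uc, hz⟩ := supp4 h0 hN
  by_cases h1 : i = a
  · subst h1
    exact ⟨b, c, hb, hc, hab.symm, hac.symm, hbc, ub, uc, hz⟩
  by_cases h2 : i = b
  · subst h2
    exact ⟨a, c, ha, hc, hab, hbc.symm, hac, ua, uc, fun l l0 l1 l2 l3 => hz l l0 l2 l1 l3⟩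
  by_cases h3 : i = c
  · subst h3
    exact ⟨a, b, ha, hb, hac, hbc, hab, ua, ub, fun l l0 l1 l2 l3 => hz l l0 l2 l3 l1⟩
  exact absurd (hz i hi h1 h2 h3) hui

/-- one other coordinate of a vector of norm 3 -/
theorem supp3' {u : ι → ℤ} {i₀ i : ι} (h0 : u i₀ = 1) (hN : ∑ i, u i ^ 2 = 3) (hi : i ≠ i₀) (hui : u i ≠ 0) :
    ∃ p, p ≠ i₀ ∧ p ≠ i ∧ (u p = 1 ∨ u p = -1) ∧ ∀ l, l ≠ i₀ → l ≠ i → l ≠ p → u l = 0 := by
  obtain ⟨a, b, ha, hb, hab, ua, ub, hz⟩ := supp3 h0 hN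
  by_cases h1 : i = a
  · subst h1
    exact ⟨b, hb, hab.symm, ub, hz⟩
  by_cases h2 : i = b
  · subst h2
    exact ⟨a, ha, hab, ua, fun l l0 l1 l2 => hz l l0 l2 l1⟩
  exact absurd (hz i hi h1 h2) hui

theorem tri {u : ι → ℤ} {i₀ : ι} (h0 : u i₀ = 1) {N : ℤ} (hN : ∑ i, u i ^ 2 = N) (hN4 : N ≤ 4) {l : ι} (hl : l ≠ i₀) :
    u l = 0 ∨ u l = 1 ∨ u l = -1 := (supp h0 hN hN4).1 l hl

/-- an inner product 2 of two such vectors, the first of norm 3 -/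
theorem inner {u v : ι → ℤ} {i₀ i j : ι} (hu0 : u i₀ = 1) (hi : i ≠ i₀) (hj : j ≠ i₀) (hij : i ≠ j)
    (hui : u i = 1 ∨ u i = -1) (huj : u j = 1 ∨ u j = -1) (hz : ∀ l, l ≠ i₀ → l ≠ i → l ≠ j → u l = 0)
    (hv0 : v i₀ = 1) (hvi : v i = 0 ∨ v i = 1 ∨ v i = -1) (hvj : v j = 0 ∨ v j = 1 ∨ v j = -1) (h : ∑ l, u l * v l = 2) :
    (v i = u i ∧ v j = 0) ∨ (v i = 0 ∧ v j = u j) := by
  rw [sum3 _ hi hj hij (fun l l0 l1 l2 => by rw [hz l l0 l1 l2, zero_mul]), hu0, hv0] at h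
  rcases hui with h1 | h1 <;> rcases huj with h2 | h2 <;> rw [h1, h2] at h ⊢ <;> omega

/-- **the dichotomy** -/
theorem dichotomy {L : Type*} (A : L → ι → ℤ) (i₀ : ι) (bar : L → L) (l0 l1 l2 : L) (hA0 : ∀ a, A a i₀ = 1)
    (hbar : ∀ a, A (bar a) = A a)
    (h3 : ∀ a, a ≠ l0 → ∑ i, A a i ^ 2 = 3) (h4 : ∑ i, A l0 i ^ 2 = 4)
    (hin : ∀ a b, b ≠ a → b ≠ bar a → ∑ i, A a i * A b i = 2) (h10 : l1 ≠ l0) (h20 : l2 ≠ l0) (h21 : l2 ≠ l1) (h21' : l2 ≠ bar l1)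
    (h1r : bar l1 ≠ l0) (h2r : bar l2 ≠ l0) :
    (∃ i, i ≠ i₀ ∧ ∃ δ : ℤ, (δ = 1 ∨ δ = -1) ∧ ∀ a, A a i = δ) ∨
    (∃ i j l, ∃ δ : ℤ, (δ = 1 ∨ δ = -1) ∧ i ≠ i₀ ∧ j ≠ i₀ ∧ l ≠ i₀ ∧ i ≠ j ∧ i ≠ l ∧ (∀ a, a ≠ l0 → A a i = δ) ∧ A l0 i = 0 ∧
      (A l1 j = 1 ∨ A l1 j = -1) ∧ A l0 j = A l1 j ∧ (∀ a, a ≠ l0 → a ≠ l1 → a ≠ bar l1 → A a j = 0) ∧
      (∀ x, x ≠ i₀ → x ≠ i → x ≠ j → A l1 x = 0) ∧
      (A l2 l = 1 ∨ A l2 l = -1) ∧ A l0 l = A l2 l ∧ (∀ a, a ≠ l0 → a ≠ l2 → a ≠ bar l2 → A a l = 0) ∧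
      (∀ x, x ≠ i₀ → x ≠ i → x ≠ l → A l2 x = 0)) := by
  obtain ⟨i, j, hi, hj, hij, u1, u2, hz, v1, v2⟩ : ∃ i j, i ≠ i₀ ∧ j ≠ i₀ ∧ i ≠ j ∧ (A l1 i = 1 ∨ A l1 i = -1) ∧ (A l1 j = 1 ∨ A l1 j = -1) ∧
      (∀ l, l ≠ i₀ → l ≠ i → l ≠ j → A l1 l = 0) ∧ A l2 i = A l1 i ∧ A l2 j = 0 := by
    obtain ⟨i, j, hi, hj, hij, u1, u2, hz⟩ := supp3 (hA0 l1) (h3 l1 h10)
    rcases inner (hA0 l1) hi hj hij u1 u2 hz (hA0 l2) (tri (hA0 l2) (h3 l2 h20) (by norm_num) hi) (tri (hA0 l2) (h3 l2 h20) (by norm_num) hj)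
      (hin l1 l2 h21 h21') with ⟨v1, v2⟩ | ⟨v1, v2⟩
    · exact ⟨i, j, hi, hj, hij, u1, u2, hz, v1, v2⟩
    · exact ⟨j, i, hj, hi, hij.symm, u2, u1, fun l x0 x1 x2 => hz l x0 x2 x1, v2, v1⟩
  have hne : A l2 i ≠ 0 := by rw [v1]; rcases u1 with h | h <;> rw [h] <;> norm_num
  obtain ⟨l, hl, hli, u3, hz2⟩ := supp3' (hA0 l2) (h3 l2 h20) hi hne
  have hlj : j ≠ l := by
    rintro rfl
    rw [v2] at u3
    omega
  have hlz : A l1 l = 0 := hz l hl hli hlj.symm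
  have u1' : A l2 i = 1 ∨ A l2 i = -1 := by rw [v1]; exact u1
  have T4 : ∀ x, x ≠ i₀ → (A l0 x = 0 ∨ A l0 x = 1 ∨ A l0 x = -1) := fun x hx => tri (hA0 l0) h4 (by norm_num) hx
  have I1 := inner (hA0 l1) hi hj hij u1 u2 hz (hA0 l0) (T4 i hi) (T4 j hj) (hin l1 l0 h10.symm h1r.symm)
  have h20' : l0 ≠ bar l2 := h2r.symm
  have I2 := inner (hA0 l2) hi hl hli.symm u1' u3 hz2 (hA0 l0) (T4 i hi) (T4 l hl) (hin l2 l0 h20.symm h20')
  have hδ : A l1 i ≠ 0 := by rcases u1 with h | h <;> rw [h] <;> norm_num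
  have hc2 : A l2 l ≠ 0 := by rcases u3 with h | h <;> rw [h] <;> norm_num
  have hc1 : A l1 j ≠ 0 := by rcases u2 with h | h <;> rw [h] <;> norm_num
  -- other vectors
  have hgen : ∀ a, a ≠ l0 → a ≠ l1 → a ≠ bar l1 → a ≠ l2 → a ≠ bar l2 → A a i = A l1 i ∧ A a j = 0 ∧ A a l = 0 := by
    intro a ha0 ha1 ha1' ha2 ha2'
    have Ta : ∀ x, x ≠ i₀ → (A a x = 0 ∨ A a x = 1 ∨ A a x = -1) := fun x hx => tri (hA0 a) (h3 a ha0) (by norm_num) hx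
    have J1 := inner (hA0 l1) hi hj hij u1 u2 hz (hA0 a) (Ta i hi) (Ta j hj) (hin l1 a ha1 ha1')
    have J2 := inner (hA0 l2) hi hl hli.symm u1' u3 hz2 (hA0 a) (Ta i hi) (Ta l hl) (hin l2 a ha2 ha2')
    rcases J1 with ⟨j1, j2⟩ | ⟨j1, j2⟩
    · rcases J2 with ⟨j3, j4⟩ | ⟨j3, j4⟩
      · exact ⟨j1, j2, j4⟩
      · exfalso; rw [j1] at j3; exact hδ j3
    · rcases J2 with ⟨j3, j4⟩ | ⟨j3, j4⟩
      · exfalso; rw [j1] at j3; exact hne j3.symm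
      · exfalso
        -- `A a = e + ± e_j ± e_l`
        have hja : A a j ≠ 0 := by rw [j2]; exact hc1
        obtain ⟨p, hp, hpj, up, hzp⟩ := supp3' (hA0 a) (h3 a ha0) hj hja
        have hpl : p = l := by
          by_contra hpl
          have := hzp l hl hlj.symm (Ne.symm hpl)
          rw [j4] at this
          exact hc2 this
        subst hpl
        have hin0 : ∑ x, A a x * A l0 x = 2 := by
          by_cases hba : l0 = bar a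
          · exfalso
            -- then `A l0 = A a` has norm 3 and 4
            have h5 := h4
            rw [hba, hbar, h3 a ha0] at h5
            omega
          · exact hin a l0 ha0.symm hba
        rw [sum3 _ hj hl hlj (fun x x0 x1 x2 => by rw [hzp x x0 x1 x2, zero_mul]), hA0, hA0, j2, j4] at hin0
        rcases I1 with ⟨k1, k2⟩ | ⟨k1, k2⟩
        · rcases I2 with ⟨k3, k4⟩ | ⟨k3, k4⟩
          · rw [k2, k4] at hin0; omega
          · rw [k1] at k3; exact hδ k3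
        · rcases I2 with ⟨k3, k4⟩ | ⟨k3, k4⟩
          · rw [k1] at k3; exact hne k3.symm
          · rw [k2, k4] at hin0
            rcases u2 with h | h <;> rcases u3 with h' | h' <;> rw [h, h'] at hin0 <;> omega
  rcases I1 with ⟨k1, k2⟩ | ⟨k1, k2⟩
  · left
    refine ⟨i, hi, A l1 i, u1, fun a => ?_⟩
    by_cases e0 : a = l0
    · rw [e0, k1]
    by_cases e1 : a = l1
    · rw [e1]
    by_cases e2 : a = bar l1
    · rw [e2, hbar]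
    by_cases e3 : a = l2
    · rw [e3, v1]
    by_cases e4 : a = bar l2
    · rw [e4, hbar, v1]
    exact (hgen a e0 e1 e2 e3 e4).1
  · rcases I2 with ⟨k3, k4⟩ | ⟨k3, k4⟩
    · exfalso; rw [k1] at k3; exact hne k3.symm
    right
    refine ⟨i, j, l, A l1 i, u1, hi, hj, hl, hij, hli.symm, fun a e0 => ?_, k1, u2, k2, fun a e0 e1 e2 => ?_, hz, u3, k4, fun a e0 e1 e2 => ?_, hz2⟩
    · by_cases e1 : a = l1
      · rw [e1]
      by_cases e2 : a = bar l1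
      · rw [e2, hbar]
      by_cases e3 : a = l2
      · rw [e3, v1]
      by_cases e4 : a = bar l2
      · rw [e4, hbar, v1]
      exact (hgen a e0 e1 e2 e3 e4).1
    · by_cases e3 : a = l2
      · rw [e3, v2]
      by_cases e4 : a = bar l2
      · rw [e4, hbar, v2]
      exact (hgen a e0 e1 e2 e3 e4).2.1
    · by_cases e3 : a = l1
      · rw [e3, hlz]
      by_cases e4 : a = bar l1
      · rw [e4, hbar, hlz]
      exact (hgen a e0 e3 e4 e1 e2).2.2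

end
end CfsgLib.BW11
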