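import Mathlib
import Cfsg.Agent.EqBase
import Cfsg.Agent.LibBW11a
import Cfsg.Agent.LibDi11b

/-! Brauer-Suzuki-Wall: the group theoretic setup (seat helper11). -/

set_option autoImplicit false
set_option linter.all false

namespace CfsgLib.BW11

open Subgroup Cfsg CfsgLib.CharBasic
open scoped ComplexConjugate

universe u

/-- the hypotheses of the Brauer-Suzuki-Wall theorem -/
structure BW {G : Type u} [Group G] (K : Subgroup G) (t s : G) : Prop where
  t2 : t * t = 1
  t1 : t ≠ 1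
  tK : t ∈ K
  comm : ∀ x ∈ K, ∀ y ∈ K, x * y = y * x
  s2 : s * s = 1
  sK : s ∉ K
  inv : ∀ x ∈ K, s * x * s⁻¹ = x⁻¹
  cent : ∀ g, g * t = t * g ↔ (g ∈ K ∨ s * g ∈ K)
  uniq : ∀ x ∈ K, x * x = 1 → x = 1 ∨ x = t
  ti : ∀ g x, x ∈ K → x ≠ 1 → g * x * g⁻¹ ∈ K → (g ∈ K ∨ s * g ∈ K)
  cj : ∀ x, x * x = 1 → x ≠ 1 → IsConj t x

/-- elements not conjugate to a nontrivial element of `K` -/
def Off {G : Type u} [Group G] (K : Subgroup G) (y : G) : Prop := ∀ x ∈ K, x ≠ 1 → ¬ IsConj x y

variable {G : Type u} [Group G] {K : Subgroup G} {t s : G}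

namespace BW
variable (h : BW K t s)
include h

theorem si : s⁻¹ = s := inv_eq_of_mul_eq_one_left h.s2

theorem sxs {x : G} (hx : x ∈ K) : s * x = x⁻¹ * s := by
  have := h.inv x hx
  rw [← this]; group

theorem invol {x : G} (hx : s * x ∈ K) : x * x = 1 := by
  have h1 : x = s * (s * x) := by rw [← mul_assoc, h.s2, one_mul]
  rw [h1]
  have h2 := h.sxs hx
  calc s * (s * x) * (s * (s * x)) = (s * (s * x)) * (s * (s * x)) := rfl
    _ = ((s * x)⁻¹ * s) * (s * (s * x)) := by rw [h2]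
    _ = (s * x)⁻¹ * (s * s) * (s * x) := by group
    _ = 1 := by rw [h.s2]; group

theorem ne_one {x : G} (hx : s * x ∈ K) : x ≠ 1 := by
  rintro rfl
  rw [mul_one] at hx
  exact h.sK hx

/-- conjugates of elements of `K` by elements of `H` -/
theorem conj_cases {g x : G} (hx : x ∈ K) (hg : g ∈ K ∨ s * g ∈ K) : g * x * g⁻¹ = x ∨ g * x * g⁻¹ = x⁻¹ := by
  rcases hg with hg | hg
  · left
    rw [h.comm g hg x hx]; group
  · right
    have h1 : g = s * (s * g) := by rw [← mul_assoc, h.s2, one_mul]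
    rw [h1]
    calc s * (s * g) * x * (s * (s * g))⁻¹ = s * ((s * g) * x * (s * g)⁻¹) * s⁻¹ := by group
      _ = s * (x * (s * g) * (s * g)⁻¹) * s⁻¹ := by rw [h.comm _ hg x hx]
      _ = s * x * s⁻¹ := by group
      _ = x⁻¹ := h.inv x hx

theorem inv_of {g x : G} (hx : x ∈ K) (hg : s * g ∈ K) : g * x * g⁻¹ = x⁻¹ := by
  have h1 : g = s * (s * g) := by rw [← mul_assoc, h.s2, one_mul]
  rw [h1]
  calc s * (s * g) * x * (s * (s * g))⁻¹ = s * ((s * g) * x * (s * g)⁻¹) * s⁻¹ := by group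
    _ = s * (x * (s * g) * (s * g)⁻¹) * s⁻¹ := by rw [h.comm _ hg x hx]
    _ = s * x * s⁻¹ := by group
    _ = x⁻¹ := h.inv x hx

theorem isConj_inv {x : G} (hx : x ∈ K) : IsConj x x⁻¹ := isConj_iff.2 ⟨s, h.inv x hx⟩

theorem isConj_iff' {x y : G} (hx : x ∈ K) (hx1 : x ≠ 1) (hy : y ∈ K) : IsConj x y ↔ (y = x ∨ y = x⁻¹) := by
  constructor
  · intro hc
    obtain ⟨g, hg⟩ := isConj_iff.1 hc
    have h1 := h.ti g x hx hx1 (by rw [hg]; exact hy)
    rw [← hg]
    exact h.conj_cases hx h1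
  · rintro (rfl | rfl)
    · exact IsConj.refl _
    · exact h.isConj_inv hx

theorem cent_iff {x : G} (hx : x ∈ K) (hx1 : x ≠ 1) (hx2 : x * x ≠ 1) {g : G} : g * x = x * g ↔ g ∈ K := by
  constructor
  · intro hc
    have h1 : g * x * g⁻¹ = x := by rw [hc]; group
    rcases h.ti g x hx hx1 (by rw [h1]; exact hx) with h2 | h2
    · exact h2
    · exfalso
      have h3 := h.inv_of hx h2
      rw [h1] at h3
      apply hx2
      nth_rewrite 1 [h3]
      exact inv_mul_cancel x
  · intro hg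
    exact h.comm g hg x hx

theorem card_cent [Finite G] {x : G} (hx : x ∈ K) (hx1 : x ≠ 1) (hx2 : x * x ≠ 1) :
    Nat.card (centralizer ({x} : Set G)) = Nat.card K := by
  have : centralizer ({x} : Set G) = K := by
    ext g
    rw [mem_centralizer_singleton_iff]
    exact h.cent_iff hx hx1 hx2
  rw [this]

theorem card_sK [Finite G] : Nat.card {x : G // s * x ∈ K} = Nat.card K :=
  Nat.card_congr ⟨fun x => ⟨s * x.1, x.2⟩, fun y => ⟨s * y.1, by rw [← mul_assoc, h.s2, one_mul]; exact y.2⟩,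
    fun x => Subtype.ext (by show s * (s * x.1) = x.1; rw [← mul_assoc, h.s2, one_mul]),
    fun x => Subtype.ext (by show s * (s * x.1) = x.1; rw [← mul_assoc, h.s2, one_mul])⟩

theorem card_t [Finite G] : Nat.card (centralizer ({t} : Set G)) = 2 * Nat.card K := by
  classical
  have h1 : Nat.card (centralizer ({t} : Set G)) = Nat.card {x : G // x ∈ K ∨ s * x ∈ K} := by
    apply Nat.card_congr
    exact Equiv.subtypeEquivRight fun g => by
      rw [mem_centralizer_singleton_iff]; exact h.cent g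
  have h2 : Nat.card {x : G // x ∈ K ∨ s * x ∈ K} = Nat.card K + Nat.card {x : G // s * x ∈ K} := by
    have hd : Disjoint (fun x : G => x ∈ K) (fun x : G => s * x ∈ K) := by
      rw [Pi.disjoint_iff]
      intro x
      rw [Prop.disjoint_iff]
      rintro ⟨h3, h4⟩
      apply h.sK
      have := K.mul_mem h4 (K.inv_mem h3)
      rwa [mul_inv_cancel_right] at this
    letI : Fintype G := Fintype.ofFinite G
    rw [Nat.card_eq_fintype_card, Nat.card_eq_fintype_card (α := K), Nat.card_eq_fintype_card (α := {x : G // s * x ∈ K})]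
    exact Fintype.card_subtype_or_disjoint _ _ hd
  rw [h1, h2, h.card_sK, two_mul]

/-- the involutions inverting an element of `K` -/
theorem refl_iff {x : G} (hx : x ∈ K) (hx1 : x ≠ 1) (a : G) : (IsConj t a ∧ IsConj t (a * x)) ↔ s * a ∈ K := by
  constructor
  · rintro ⟨h1, h2⟩
    obtain ⟨g, hg⟩ := isConj_iff.1 h1
    obtain ⟨g', hg'⟩ := isConj_iff.1 h2
    have e1 : a * a = 1 := by
      rw [← hg]
      have : g * t * g⁻¹ * (g * t * g⁻¹) = g * (t * t) * g⁻¹ := by group
      rw [this, h.t2]; group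
    have e2 : (a * x) * (a * x) = 1 := by
      rw [← hg']
      have : g' * t * g'⁻¹ * (g' * t * g'⁻¹) = g' * (t * t) * g'⁻¹ := by group
      rw [this, h.t2]; group
    have e3 : a * x * a⁻¹ = x⁻¹ := by
      have e4 : a⁻¹ = a := inv_eq_of_mul_eq_one_left e1
      rw [e4, eq_inv_iff_mul_eq_one, ← e2]; group
    have ax1 : a * x ≠ 1 := by
      intro h0
      rw [← hg', mul_inv_eq_one, mul_eq_left] at h0
      exact h.t1 h0
    rcases h.ti a x hx hx1 (by rw [e3]; exact K.inv_mem hx) with h3 | h3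
    · exfalso
      rcases h.uniq a h3 e1 with h4 | h4
      · rw [h4, mul_inv_eq_one, mul_eq_left] at hg
        exact h.t1 hg
      · rcases h.uniq (a * x) (K.mul_mem h3 hx) e2 with h5 | h5
        · exact ax1 h5
        · rw [h4, mul_eq_left] at h5
          exact hx1 h5
    · exact h3
  · intro ha
    have hax : s * (a * x) ∈ K := by rw [← mul_assoc]; exact K.mul_mem ha hx
    exact ⟨h.cj a (h.invol ha) (h.ne_one ha), h.cj _ (h.invol hax) (h.ne_one hax)⟩

theorem card_refl [Finite G] {x : G} (hx : x ∈ K) (hx1 : x ≠ 1) : Nat.card {a : G // IsConj t a ∧ IsConj t (a * x)} = Nat.card K := by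
  rw [← h.card_sK]
  exact Nat.card_congr (Equiv.subtypeEquivRight fun a => h.refl_iff hx hx1 a)

open Classical in
/-- columns -/
theorem column [Fintype G] {x y : G} (hx : x ∈ K) (hx1 : x ≠ 1) (hy : y ∈ K) :
    ∑ χ : IrrCharacter G, (χ : G → ℂ) x * conj ((χ : G → ℂ) y) = (Nat.card K : ℂ) * ((if y = x then 1 else 0) + (if y = x⁻¹ then 1 else 0)) := by
  classical
  rw [column_orthogonality]
  by_cases hx2 : x * x = 1
  · have hxt : x = t := (h.uniq x hx hx2).resolve_left hx1
    have hxi : x⁻¹ = x := inv_eq_of_mul_eq_one_left hx2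
    rw [hxi]
    by_cases hyx : y = x
    · rw [if_pos hyx, if_pos (by rw [hyx]), hxt, h.card_t]
      push_cast; ring
    · rw [if_neg hyx, if_neg (fun hc => by
        rcases (h.isConj_iff' hx hx1 hy).1 hc with h1 | h1
        · exact hyx h1
        · rw [hxi] at h1; exact hyx h1)]
      ring
  · have hxi : x ≠ x⁻¹ := fun h1 => hx2 (by nth_rewrite 1 [h1]; exact inv_mul_cancel x)
    by_cases hc : IsConj x y
    · rw [if_pos hc, h.card_cent hx hx1 hx2]
      rcases (h.isConj_iff' hx hx1 hy).1 hc with h1 | h1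
      · rw [if_pos h1, if_neg (fun h2 => hxi (h1.symm.trans h2))]; ring
      · rw [if_pos h1, if_neg (fun h2 => hxi (h2.symm.trans h1))]; ring
    · rw [if_neg hc, if_neg (fun h1 => hc ((h.isConj_iff' hx hx1 hy).2 (Or.inl h1))),
        if_neg (fun h1 => hc ((h.isConj_iff' hx hx1 hy).2 (Or.inr h1)))]
      ring

theorem even_card [Finite G] : 2 ∣ Nat.card K := by
  have h1 : orderOf (⟨t, h.tK⟩ : K) = 2 := by
    apply orderOf_eq_prime
    · rw [pow_two]; exact Subtype.ext h.t2
    · intro h0; exact h.t1 (congrArg Subtype.val h0)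
  rw [← h1]
  exact orderOf_dvd_natCard _

end BW
end CfsgLib.BW11
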