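import Mathlib
import Cfsg.Agent.EqBase
import Cfsg.Agent.LibBW11b

/-! Brauer-Suzuki-Wall: the matrix of exceptional multiplicities (seat helper11). -/

set_option autoImplicit false
set_option linter.all false

namespace CfsgLib.BW11

open Subgroup Cfsg CfsgLib.CharBasic
open scoped ComplexConjugate

universe u

/-! ### linear characters of an abelian group -/
section Lin
variable {K : Type u} [Group K] [Fintype K] (hab : ∀ a b : K, a * b = b * a)
include hab

theorem lin_one (l : IrrCharacter K) : (l : K → ℂ) 1 = 1 := CfsgLib.CharBasic.irr_degree_one_of_comm hab l.2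

theorem lin_mul (l : IrrCharacter K) (x y : K) : (l : K → ℂ) (x * y) = (l : K → ℂ) x * (l : K → ℂ) y :=
  linear_mul (irr_isCharacter l.2) (lin_one hab l) x y

omit hab in
theorem lin_inv (l : IrrCharacter K) (x : K) : (l : K → ℂ) x⁻¹ = conj ((l : K → ℂ) x) := char_inv_eq_conj (irr_isCharacter l.2) x

open Classical in
theorem lin_col (x y : K) : ∑ l : IrrCharacter K, (l : K → ℂ) x * conj ((l : K → ℂ) y) = if x = y then (Nat.card K : ℂ) else 0 := by
  rw [column_orthogonality]
  have h1 : centralizer ({x} : Set K) = ⊤ := by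
    rw [eq_top_iff]
    intro g _
    rw [mem_centralizer_singleton_iff]
    exact hab g x
  by_cases h : x = y
  · rw [if_pos h, if_pos (by rw [h]), h1, Subgroup.card_top]
  · rw [if_neg h, if_neg]
    intro hc
    obtain ⟨g, hg⟩ := isConj_iff.1 hc
    apply h
    rw [← hg, hab g x]; group

theorem lin_sq {t : K} (ht : t * t = 1) (l : IrrCharacter K) : (l : K → ℂ) t = 1 ∨ (l : K → ℂ) t = -1 := by
  have h1 := lin_mul hab l t t
  rw [ht, lin_one hab] at h1
  have h2 : ((l : K → ℂ) t - 1) * ((l : K → ℂ) t + 1) = 0 := by linear_combination -h1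
  rcases mul_eq_zero.1 h2 with h3 | h3
  · left; linear_combination h3
  · right; linear_combination h3

open Classical in
theorem lin_row (l m : IrrCharacter K) : ∑ x : K, (l : K → ℂ) x * conj ((m : K → ℂ) x) = if l = m then (Nat.card K : ℂ) else 0 := by
  have h1 := irr_inner l.2 m.2
  have hK : (Nat.card K : ℂ) ≠ 0 := by exact_mod_cast Nat.card_pos.ne'
  unfold classInner at h1
  by_cases h : l = m
  · rw [if_pos h]
    rw [if_pos (congrArg Subtype.val h), inv_mul_eq_iff_eq_mul₀ hK, mul_one] at h1
    exact h1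
  · rw [if_neg h]
    rw [if_neg (fun h0 => h (Subtype.ext h0)), inv_mul_eq_iff_eq_mul₀ hK, mul_zero] at h1
    exact h1

omit hab in
/-- the complex conjugate -/
noncomputable def bar (l : IrrCharacter K) : IrrCharacter K := ⟨fun x => conj ((l : K → ℂ) x), isIrrCharacter_conj l.2⟩

omit hab in
theorem bar_apply (l : IrrCharacter K) (x : K) : (bar l : K → ℂ) x = conj ((l : K → ℂ) x) := rfl

omit hab in
theorem bar_bar (l : IrrCharacter K) : bar (bar l) = l := by
  apply Subtype.ext
  funext x
  rw [bar_apply, bar_apply, Complex.conj_conj]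

omit hab in
/-- the trivial character -/
noncomputable def one (K : Type u) [Group K] [Fintype K] : IrrCharacter K := ⟨_, isIrrCharacter_one⟩

omit hab in
theorem one_apply (x : K) : (one K : K → ℂ) x = 1 := rfl

omit hab in
theorem bar_one : bar (one K) = one K := by
  apply Subtype.ext; funext x; rw [bar_apply, one_apply, map_one]

open Classical in
theorem lin_sum (l : IrrCharacter K) (hl : l ≠ one K) : ∑ x : K, (l : K → ℂ) x = 0 := by
  have := lin_row hab l (one K)
  rw [if_neg hl] at this
  rw [← this]
  exact Finset.sum_congr rfl fun x _ => by rw [one_apply, map_one, mul_one]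

open Classical in
/-- the number of real characters -/
theorem card_real : ((Finset.univ.filter fun l : IrrCharacter K => bar l = l).card : ℂ) =
    ((Finset.univ.filter fun x : K => x * x = 1).card : ℂ) := by
  have hK : (Nat.card K : ℂ) ≠ 0 := by exact_mod_cast Nat.card_pos.ne'
  have h1 : ∑ l : IrrCharacter K, ∑ x : K, (l : K → ℂ) x * (l : K → ℂ) x = (Nat.card K : ℂ) * ((Finset.univ.filter fun l : IrrCharacter K => bar l = l).card : ℂ) := by
    rw [Finset.card_filter]
    push_cast
    rw [Finset.mul_sum]
    apply Finset.sum_congr rfl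
    intro l _
    have h2 := lin_row hab l (bar l)
    rw [mul_ite, mul_one, mul_zero]
    rw [show (∑ x : K, (l : K → ℂ) x * (l : K → ℂ) x) = ∑ x : K, (l : K → ℂ) x * conj ((bar l : K → ℂ) x) from
      Finset.sum_congr rfl fun x _ => by rw [bar_apply, Complex.conj_conj], h2]
    by_cases h3 : bar l = l
    · rw [if_pos h3, if_pos h3.symm]
    · rw [if_neg h3, if_neg (fun h4 => h3 h4.symm)]
  have h2 : ∑ l : IrrCharacter K, ∑ x : K, (l : K → ℂ) x * (l : K → ℂ) x = (Nat.card K : ℂ) * ((Finset.univ.filter fun x : K => x * x = 1).card : ℂ) := by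
    rw [Finset.sum_comm, Finset.card_filter]
    push_cast
    rw [Finset.mul_sum]
    apply Finset.sum_congr rfl
    intro x _
    have h2 := lin_col hab x x⁻¹
    rw [mul_ite, mul_one, mul_zero]
    rw [show (∑ l : IrrCharacter K, (l : K → ℂ) x * (l : K → ℂ) x) = ∑ l : IrrCharacter K, (l : K → ℂ) x * conj ((l : K → ℂ) x⁻¹) from
      Finset.sum_congr rfl fun l _ => by rw [lin_inv, Complex.conj_conj], h2]
    by_cases h3 : x * x = 1
    · rw [if_pos h3, if_pos (eq_inv_of_mul_eq_one_left h3)]
    · rw [if_neg h3, if_neg (fun h4 => h3 (by nth_rewrite 2 [h4]; exact mul_inv_cancel x))]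
  rw [h1] at h2
  exact mul_left_cancel₀ hK h2

omit hab in
theorem card_lin (hab : ∀ a b : K, a * b = b * a) : Fintype.card (IrrCharacter K) = Nat.card K := by
  classical
  have h1 := lin_col hab (1 : K) 1
  rw [if_pos rfl] at h1
  have h2 : ∑ l : IrrCharacter K, (l : K → ℂ) 1 * conj ((l : K → ℂ) 1) = ∑ l : IrrCharacter K, (1 : ℂ) :=
    Finset.sum_congr rfl fun l _ => by rw [lin_one hab, map_one, mul_one]
  rw [h2, Finset.sum_const, nsmul_eq_mul, mul_one, Finset.card_univ] at h1
  exact_mod_cast h1

open Classical in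
/-- characters positive and negative on an involution -/
theorem card_pm {t : K} (ht : t * t = 1) (ht1 : t ≠ 1) :
    2 * (Finset.univ.filter fun l : IrrCharacter K => (l : K → ℂ) t = 1).card = Nat.card K ∧
    2 * (Finset.univ.filter fun l : IrrCharacter K => ¬ (l : K → ℂ) t = 1).card = Nat.card K := by
  have h1 := lin_col hab t 1
  rw [if_neg ht1] at h1
  have h2 : ∑ l : IrrCharacter K, (l : K → ℂ) t * conj ((l : K → ℂ) 1) =
      ((Finset.univ.filter fun l : IrrCharacter K => (l : K → ℂ) t = 1).card : ℂ) -
      ((Finset.univ.filter fun l : IrrCharacter K => ¬ (l : K → ℂ) t = 1).card : ℂ) := by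
    rw [← Finset.sum_filter_add_sum_filter_not Finset.univ (fun l : IrrCharacter K => (l : K → ℂ) t = 1)]
    rw [Finset.sum_congr rfl (g := fun _ => (1 : ℂ)) (fun l hl => by rw [(Finset.mem_filter.1 hl).2, lin_one hab, map_one, mul_one]),
      Finset.sum_congr rfl (s₁ := Finset.univ.filter fun l : IrrCharacter K => ¬ (l : K → ℂ) t = 1) (g := fun _ => (-1 : ℂ)) (fun l hl => by
        rw [(lin_sq hab ht l).resolve_left (Finset.mem_filter.1 hl).2, lin_one hab, map_one, mul_one]),
      Finset.sum_const, Finset.sum_const, nsmul_eq_mul, nsmul_eq_mul]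
    ring
  rw [h2, sub_eq_zero] at h1
  have h3 : (Finset.univ.filter fun l : IrrCharacter K => (l : K → ℂ) t = 1).card =
      (Finset.univ.filter fun l : IrrCharacter K => ¬ (l : K → ℂ) t = 1).card := by exact_mod_cast h1
  have h4 := Finset.card_filter_add_card_filter_not (s := (Finset.univ : Finset (IrrCharacter K))) (fun l : IrrCharacter K => (l : K → ℂ) t = 1)
  rw [Finset.card_univ, card_lin hab] at h4
  constructor <;> omega

end Lin
end CfsgLib.BW11
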