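import Mathlib
import Cfsg.Agent.EqBase
import Cfsg.Agent.LibBW11c
import Cfsg.Agent.LibCharIndA

/-! Brauer-Suzuki-Wall: identities for the matrix of exceptional multiplicities (seat helper11). -/

set_option autoImplicit false
set_option linter.all false

namespace CfsgLib.BW11

open Subgroup Cfsg CfsgLib.CharBasic
open scoped ComplexConjugate

universe u

section
variable {G : Type u} [Group G] [Fintype G] {K : Subgroup G} [Fintype K] {t s : G}

/-- the multiplicity of `1 - l` -/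
noncomputable def al (l : IrrCharacter K) (χ : IrrCharacter G) : ℂ :=
  (Nat.card K : ℂ)⁻¹ * ∑ x : K, (χ : G → ℂ) x * (1 - conj ((l : K → ℂ) x))

theorem al_eq (l : IrrCharacter K) (χ : IrrCharacter G) :
    al l χ = classInner (fun x : K => (χ : G → ℂ) x) (one K : K → ℂ) - classInner (fun x : K => (χ : G → ℂ) x) (l : K → ℂ) := by
  unfold al classInner
  rw [← mul_sub, ← Finset.sum_sub_distrib]
  congr 1
  exact Finset.sum_congr rfl fun x _ => by rw [one_apply, map_one]; ring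

theorem al_int (l : IrrCharacter K) (χ : IrrCharacter G) : ∃ n : ℤ, al l χ = n := by
  have h1 : IsGeneralizedCharacter K (fun x : K => (χ : G → ℂ) x) := gen_of_char (isCharacter_restrict (irr_isCharacter χ.2) K)
  obtain ⟨a, ha⟩ := gen_inner_int h1 (gen_of_irr (one K).2)
  obtain ⟨b, hb⟩ := gen_inner_int h1 (gen_of_irr l.2)
  refine ⟨a - b, ?_⟩
  rw [al_eq, ha, hb]; push_cast; ring

theorem al_conj (l : IrrCharacter K) (χ : IrrCharacter G) : conj (al l χ) = al l χ := by
  obtain ⟨n, hn⟩ := al_int l χ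
  rw [hn, map_intCast]

theorem al_one (χ : IrrCharacter G) : al (one K) χ = 0 := by
  rw [al_eq, sub_self]

theorem al_bar (h : BW K t s) (l : IrrCharacter K) (χ : IrrCharacter G) : al (bar l) χ = al l χ := by
  unfold al
  congr 1
  apply Fintype.sum_equiv (Equiv.inv K)
  intro x
  have h1 : (χ : G → ℂ) ((x⁻¹ : K) : G) = (χ : G → ℂ) x := by
    have h2 := h.inv x x.2
    have h3 : ((x⁻¹ : K) : G) = s * x * s⁻¹ := by rw [h2]; rfl
    rw [h3]
    exact irr_classFun χ.2 _ _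
  show (χ : G → ℂ) x * (1 - conj ((bar l : K → ℂ) x)) = (χ : G → ℂ) ((x⁻¹ : K) : G) * (1 - conj ((l : K → ℂ) x⁻¹))
  rw [h1, bar_apply, lin_inv]

theorem conj_al_sum (l : IrrCharacter K) (χ : IrrCharacter G) :
    al l χ = (Nat.card K : ℂ)⁻¹ * ∑ x : K, conj ((χ : G → ℂ) x) * (1 - (l : K → ℂ) x) := by
  rw [← al_conj]
  unfold al
  rw [map_mul, map_inv₀, Complex.conj_natCast, map_sum]
  congr 1
  exact Finset.sum_congr rfl fun x _ => by rw [map_mul, map_sub, map_one, Complex.conj_conj]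

theorem hab (h : BW K t s) : ∀ a b : K, a * b = b * a := fun a b => Subtype.ext (h.comm a a.2 b b.2)

theorem sum_off (h : BW K t s) (l : IrrCharacter K) {y : G} (hy : Off K y) :
    ∑ χ : IrrCharacter G, al l χ * conj ((χ : G → ℂ) y) = 0 := by
  classical
  have h1 : ∀ χ : IrrCharacter G, al l χ * conj ((χ : G → ℂ) y) =
      (Nat.card K : ℂ)⁻¹ * ∑ x : K, (1 - conj ((l : K → ℂ) x)) * ((χ : G → ℂ) x * conj ((χ : G → ℂ) y)) := by
    intro χ
    unfold al
    rw [mul_assoc, Finset.sum_mul]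
    congr 1
    exact Finset.sum_congr rfl fun x _ => by ring
  rw [Finset.sum_congr rfl fun χ _ => h1 χ, ← Finset.mul_sum, Finset.sum_comm]
  have h2 : ∀ x : K, ∑ χ : IrrCharacter G, (1 - conj ((l : K → ℂ) x)) * ((χ : G → ℂ) x * conj ((χ : G → ℂ) y)) = 0 := by
    intro x
    rw [← Finset.mul_sum]
    by_cases hx : x = 1
    · rw [hx, lin_one (hab h), map_one, sub_self, zero_mul]
    · rw [column_orthogonality, if_neg (hy x x.2 (fun h0 => hx (Subtype.ext h0))), mul_zero]
  rw [Finset.sum_congr rfl fun x _ => h2 x, Finset.sum_const_zero, mul_zero]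

theorem sum_K (h : BW K t s) (l : IrrCharacter K) {y : K} (hy : y ≠ 1) :
    ∑ χ : IrrCharacter G, al l χ * conj ((χ : G → ℂ) y) = 2 - (l : K → ℂ) y - conj ((l : K → ℂ) y) := by
  classical
  have hK : (Nat.card K : ℂ) ≠ 0 := by exact_mod_cast Nat.card_pos.ne'
  have h1 : ∀ χ : IrrCharacter G, al l χ * conj ((χ : G → ℂ) y) =
      (Nat.card K : ℂ)⁻¹ * ∑ x : K, (1 - conj ((l : K → ℂ) x)) * ((χ : G → ℂ) x * conj ((χ : G → ℂ) y)) := by
    intro χ
    unfold al
    rw [mul_assoc, Finset.sum_mul]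
    congr 1
    exact Finset.sum_congr rfl fun x _ => by ring
  rw [Finset.sum_congr rfl fun χ _ => h1 χ, ← Finset.mul_sum, Finset.sum_comm]
  have h2 : ∀ x : K, ∑ χ : IrrCharacter G, (1 - conj ((l : K → ℂ) x)) * ((χ : G → ℂ) x * conj ((χ : G → ℂ) y)) =
      (Nat.card K : ℂ) * ((if x = y then (1 - conj ((l : K → ℂ) y)) else 0) + (if x = y⁻¹ then (1 - (l : K → ℂ) y) else 0)) := by
    intro x
    rw [← Finset.mul_sum]
    by_cases hx : x = 1
    · rw [hx, lin_one (hab h), map_one, sub_self, zero_mul, if_neg hy.symm, if_neg (fun h0 => hy (inv_eq_one.1 h0.symm)), add_zero, mul_zero]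
    · have h3 := h.column x.2 (fun h0 => hx (Subtype.ext h0)) y.2
      rw [h3]
      have e1 : ((y : G) = x) ↔ x = y := ⟨fun h0 => Subtype.ext h0.symm, fun h0 => by rw [h0]⟩
      have e2 : ((y : G) = (x : G)⁻¹) ↔ x = y⁻¹ := ⟨fun h0 => Subtype.ext (by rw [Subgroup.coe_inv, h0, inv_inv]), fun h0 => by rw [h0, Subgroup.coe_inv, inv_inv]⟩
      rw [mul_left_comm]
      congr 1
      rw [mul_add]
      congr 1
      · by_cases h4 : x = y
        · rw [if_pos h4, if_pos (e1.2 h4), h4, mul_one]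
        · rw [if_neg h4, if_neg (fun h5 => h4 (e1.1 h5)), mul_zero]
      · by_cases h4 : x = y⁻¹
        · rw [if_pos h4, if_pos (e2.2 h4), h4, mul_one, lin_inv, Complex.conj_conj]
        · rw [if_neg h4, if_neg (fun h5 => h4 (e2.1 h5)), mul_zero]
  rw [Finset.sum_congr rfl fun x _ => h2 x, ← Finset.mul_sum, inv_mul_cancel_left₀ hK, Finset.sum_add_distrib,
    Finset.sum_ite_eq' Finset.univ y, Finset.sum_ite_eq' Finset.univ y⁻¹, if_pos (Finset.mem_univ _), if_pos (Finset.mem_univ _)]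
  ring

open Classical in
theorem al_inner (h : BW K t s) {l m : IrrCharacter K} (hl : l ≠ one K) (hm : m ≠ one K) :
    ∑ χ : IrrCharacter G, al l χ * al m χ = 2 + (if m = l then 1 else 0) + (if m = bar l then 1 else 0) := by
  have hK : (Nat.card K : ℂ) ≠ 0 := by exact_mod_cast Nat.card_pos.ne'
  have hba : bar l ≠ one K := fun h0 => hl (by rw [← bar_bar l, h0, bar_one])
  have h1 : ∀ χ : IrrCharacter G, al l χ * al m χ = (Nat.card K : ℂ)⁻¹ * ∑ y : K, (1 - (m : K → ℂ) y) * (al l χ * conj ((χ : G → ℂ) y)) := by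
    intro χ
    conv_lhs => rw [conj_al_sum m χ]
    rw [mul_left_comm, Finset.mul_sum]
    congr 1
    exact Finset.sum_congr rfl fun x _ => by ring
  rw [Finset.sum_congr rfl fun χ _ => h1 χ, ← Finset.mul_sum, Finset.sum_comm]
  have h2 : ∀ y : K, ∑ χ : IrrCharacter G, (1 - (m : K → ℂ) y) * (al l χ * conj ((χ : G → ℂ) y)) =
      (1 - (m : K → ℂ) y) * (2 - (l : K → ℂ) y - conj ((l : K → ℂ) y)) := by
    intro y
    rw [← Finset.mul_sum]
    by_cases hy : y = 1
    · rw [hy, lin_one (hab h) m, sub_self, zero_mul, zero_mul]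
    · rw [sum_K h l hy]
  rw [Finset.sum_congr rfl fun y _ => h2 y]
  have h3 : ∀ y : K, (1 - (m : K → ℂ) y) * (2 - (l : K → ℂ) y - conj ((l : K → ℂ) y)) =
      2 - (l : K → ℂ) y - (bar l : K → ℂ) y - 2 * (m : K → ℂ) y + (m : K → ℂ) y * conj ((bar l : K → ℂ) y) + (m : K → ℂ) y * conj ((l : K → ℂ) y) := by
    intro y
    rw [bar_apply, Complex.conj_conj]; ring
  rw [Finset.sum_congr rfl fun y _ => h3 y]
  simp only [Finset.sum_add_distrib, Finset.sum_sub_distrib, ← Finset.mul_sum]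
  rw [lin_sum (hab h) l hl, lin_sum (hab h) m hm, lin_sum (hab h) _ hba, lin_row (hab h), lin_row (hab h), Finset.sum_const, nsmul_eq_mul,
    Finset.card_univ, ← Nat.card_eq_fintype_card]
  by_cases h4 : m = l <;> by_cases h5 : m = bar l
  · rw [if_pos h4, if_pos h5, if_pos h4, if_pos h5]; field_simp; ring
  · rw [if_neg h5, if_pos h4, if_pos h4, if_neg h5]; field_simp; ring
  · rw [if_pos h5, if_neg h4, if_neg h4, if_pos h5]; field_simp; ring
  · rw [if_neg h5, if_neg h4, if_neg h4, if_neg h5]; field_simp; ring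

theorem value_K (h : BW K t s) (χ : IrrCharacter G) {x : K} (hx : x ≠ 1) :
    (χ : G → ℂ) x = - ∑ l : IrrCharacter K, al l χ * (l : K → ℂ) x := by
  classical
  have hK : (Nat.card K : ℂ) ≠ 0 := by exact_mod_cast Nat.card_pos.ne'
  have h1 : ∀ l : IrrCharacter K, al l χ * (l : K → ℂ) x = (Nat.card K : ℂ)⁻¹ * ∑ y : K, (χ : G → ℂ) y * ((l : K → ℂ) x - (l : K → ℂ) x * conj ((l : K → ℂ) y)) := by
    intro l
    unfold al
    rw [mul_assoc, Finset.sum_mul]
    congr 1
    exact Finset.sum_congr rfl fun y _ => by ring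
  rw [Finset.sum_congr rfl fun l _ => h1 l, ← Finset.mul_sum, Finset.sum_comm]
  have h0 : ∑ l : IrrCharacter K, (l : K → ℂ) x = 0 := by
    have := lin_col (hab h) x 1
    rw [if_neg hx] at this
    rw [← this]
    exact Finset.sum_congr rfl fun l _ => by rw [lin_one (hab h), map_one, mul_one]
  have h2 : ∀ y : K, ∑ l : IrrCharacter K, (χ : G → ℂ) y * ((l : K → ℂ) x - (l : K → ℂ) x * conj ((l : K → ℂ) y)) =
      if x = y then -(Nat.card K : ℂ) * (χ : G → ℂ) x else 0 := by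
    intro y
    rw [← Finset.mul_sum, Finset.sum_sub_distrib, h0, lin_col (hab h) x y]
    by_cases h4 : x = y
    · rw [if_pos h4, if_pos h4, h4]; ring
    · rw [if_neg h4, if_neg h4]; ring
  rw [Finset.sum_congr rfl fun y _ => h2 y, Finset.sum_ite_eq Finset.univ x, if_pos (Finset.mem_univ _)]
  field_simp

theorem al_triv (h : BW K t s) {l : IrrCharacter K} (hl : l ≠ one K) : al l (one G) = 1 := by
  have hK : (Nat.card K : ℂ) ≠ 0 := by exact_mod_cast Nat.card_pos.ne'
  unfold al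
  have h1 : ∑ x : K, ((one G : IrrCharacter G) : G → ℂ) x * (1 - conj ((l : K → ℂ) x)) = Nat.card K := by
    have h2 : ∀ x : K, ((one G : IrrCharacter G) : G → ℂ) x * (1 - conj ((l : K → ℂ) x)) = 1 - conj ((l : K → ℂ) x) := fun x => by
      rw [one_apply, one_mul]
    rw [Finset.sum_congr rfl fun x _ => h2 x, Finset.sum_sub_distrib, ← map_sum, lin_sum (hab h) l hl, map_zero, sub_zero, Finset.sum_const,
      nsmul_eq_mul, mul_one, Finset.card_univ, ← Nat.card_eq_fintype_card]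
  rw [h1, inv_mul_cancel₀ hK]

theorem real_t (h : BW K t s) (χ : IrrCharacter G) : conj ((χ : G → ℂ) t) = (χ : G → ℂ) t := by
  rw [← char_inv_eq_conj (irr_isCharacter χ.2), inv_eq_of_mul_eq_one_left h.t2]

/-- the number of ways -/
noncomputable def FF (t y : G) : ℕ := Nat.card {a : G // IsConj t a ∧ IsConj t (a * y)}

theorem mult (h : BW K t s) (y : G) : ∑ χ : IrrCharacter G, (χ : G → ℂ) t ^ 2 * conj ((χ : G → ℂ) y) / (χ : G → ℂ) 1 =
    4 * (Nat.card K : ℂ) ^ 2 * FF t y / Nat.card G := by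
  have h1 := CfsgLib.Di11.class_mul t y
  rw [h.card_t] at h1
  unfold FF
  have e : (4 : ℂ) * (Nat.card K : ℂ) ^ 2 = ((2 * Nat.card K : ℕ) : ℂ) ^ 2 := by push_cast; ring
  rw [e, ← h1]
  refine Finset.sum_congr rfl fun χ _ => ?_
  obtain ⟨n, -, hn⟩ := irr_one_nat χ.2
  rw [map_div₀, map_mul, real_t h, hn, Complex.conj_natCast]
  ring

theorem mult_al (h : BW K t s) {l : IrrCharacter K} (hl : l ≠ one K) :
    ∑ χ : IrrCharacter G, (χ : G → ℂ) t ^ 2 / (χ : G → ℂ) 1 * al l χ = 4 * (Nat.card K : ℂ) ^ 3 / Nat.card G := by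
  classical
  have hK : (Nat.card K : ℂ) ≠ 0 := by exact_mod_cast Nat.card_pos.ne'
  have h1 : ∀ χ : IrrCharacter G, (χ : G → ℂ) t ^ 2 / (χ : G → ℂ) 1 * al l χ =
      (Nat.card K : ℂ)⁻¹ * ∑ x : K, (1 - (l : K → ℂ) x) * ((χ : G → ℂ) t ^ 2 * conj ((χ : G → ℂ) x) / (χ : G → ℂ) 1) := by
    intro χ
    conv_lhs => rw [conj_al_sum l χ]
    rw [mul_left_comm, Finset.mul_sum]
    congr 1
    exact Finset.sum_congr rfl fun x _ => by ring
  rw [Finset.sum_congr rfl fun χ _ => h1 χ, ← Finset.mul_sum, Finset.sum_comm]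
  have h2 : ∀ x : K, ∑ χ : IrrCharacter G, (1 - (l : K → ℂ) x) * ((χ : G → ℂ) t ^ 2 * conj ((χ : G → ℂ) x) / (χ : G → ℂ) 1) =
      (1 - (l : K → ℂ) x) * (4 * (Nat.card K : ℂ) ^ 3 / Nat.card G) := by
    intro x
    rw [← Finset.mul_sum]
    by_cases hx : x = 1
    · rw [hx, lin_one (hab h), sub_self, zero_mul, zero_mul]
    · rw [mult h]
      unfold FF
      rw [h.card_refl x.2 (fun h0 => hx (Subtype.ext h0))]
      ring
  rw [Finset.sum_congr rfl fun x _ => h2 x, ← Finset.sum_mul, Finset.sum_sub_distrib, lin_sum (hab h) l hl, sub_zero, Finset.sum_const,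
    nsmul_eq_mul, mul_one, Finset.card_univ, ← Nat.card_eq_fintype_card]
  field_simp

end
end CfsgLib.BW11
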