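import Mathlib
import Cfsg.Agent.EqBase
import Cfsg.Agent.LibBW11d

/-! Brauer-Suzuki-Wall: the exceptional configuration (seat helper11). -/

set_option autoImplicit false
set_option linter.all false

namespace CfsgLib.BW11

open Subgroup Cfsg CfsgLib.CharBasic
open scoped ComplexConjugate

universe u

section Lin2
variable {K : Type u} [Group K] [Fintype K] (hab : ∀ a b : K, a * b = b * a) {t : K} (ht : t * t = 1) (ht1 : t ≠ 1)
  (huniq : ∀ x : K, x * x = 1 → x = 1 ∨ x = t)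
include hab ht ht1 huniq

open Classical in
theorem card_real_two : (Finset.univ.filter fun l : IrrCharacter K => bar l = l).card = 2 := by
  have h1 := card_real hab
  have h2 : (Finset.univ.filter fun x : K => x * x = 1) = {1, t} := by
    ext x
    simp only [Finset.mem_filter, Finset.mem_univ, true_and, Finset.mem_insert, Finset.mem_singleton]
    constructor
    · exact huniq x
    · rintro (rfl | rfl)
      · exact mul_one 1
      · exact ht
  rw [h2, Finset.card_pair ht1.symm] at h1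
  exact_mod_cast h1

theorem exists_l0 : ∃ l0 : IrrCharacter K, l0 ≠ one K ∧ bar l0 = l0 ∧ ∀ l, bar l = l → l = one K ∨ l = l0 := by
  classical
  have h1 := card_real_two hab ht ht1 huniq
  obtain ⟨a, b, hne, hS⟩ := Finset.card_eq_two.1 h1
  have h2 : ∀ l : IrrCharacter K, bar l = l ↔ (l = a ∨ l = b) := by
    intro l
    have : l ∈ (Finset.univ.filter fun l : IrrCharacter K => bar l = l) ↔ l ∈ ({a, b} : Finset (IrrCharacter K)) := by rw [hS]
    simpa using this
  rcases (h2 (one K)).1 bar_one with h3 | h3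
  · exact ⟨b, by rw [h3]; exact hne.symm, (h2 b).2 (Or.inr rfl), fun l hl => by rw [h3]; exact (h2 l).1 hl⟩
  · exact ⟨a, by rw [h3]; exact hne, (h2 a).2 (Or.inl rfl), fun l hl => by rw [h3]; exact ((h2 l).1 hl).symm⟩

theorem exists_nonreal (hk : 4 ≤ Nat.card K) : ∃ l : IrrCharacter K, bar l ≠ l := by
  classical
  by_contra hcon
  push Not at hcon
  have h1 := card_real_two hab ht ht1 huniq
  rw [Finset.filter_true_of_mem (fun l _ => hcon l), Finset.card_univ, card_lin hab] at h1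
  omega

theorem exists_two (hk : 6 ≤ Nat.card K) : ∃ l1 l2 : IrrCharacter K, bar l1 ≠ l1 ∧ bar l2 ≠ l2 ∧ (l1 : K → ℂ) t = 1 ∧ (l2 : K → ℂ) t = -1 := by
  classical
  have h1 := card_real_two hab ht ht1 huniq
  obtain ⟨h2, h3⟩ := card_pm hab ht ht1
  have key : ∀ (P : IrrCharacter K → Prop) [DecidablePred P], 2 < (Finset.univ.filter P).card → ∃ l, P l ∧ bar l ≠ l := by
    intro P _ hP
    by_contra hcon
    push Not at hcon
    have : (Finset.univ.filter P).card ≤ (Finset.univ.filter fun l : IrrCharacter K => bar l = l).card := by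
      apply Finset.card_le_card
      intro l hl
      rw [Finset.mem_filter] at hl ⊢
      exact ⟨hl.1, hcon l hl.2⟩
    omega
  obtain ⟨l1, h4, h5⟩ := key (fun l => (l : K → ℂ) t = 1) (by omega)
  obtain ⟨l2, h6, h7⟩ := key (fun l => ¬ (l : K → ℂ) t = 1) (by omega)
  exact ⟨l1, l2, h5, h7, h4, (lin_sq hab ht l2).resolve_left h6⟩

end Lin2

section
variable {G : Type u} [Group G] [Fintype G] {K : Subgroup G} [Fintype K] {t s : G}

/-- integer matrix -/
noncomputable def A (l : IrrCharacter K) (χ : IrrCharacter G) : ℤ := (al_int l χ).choose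

theorem A_spec (l : IrrCharacter K) (χ : IrrCharacter G) : (A l χ : ℂ) = al l χ := (al_int l χ).choose_spec.symm

theorem A_triv (h : BW K t s) {l : IrrCharacter K} (hl : l ≠ one K) : A l (one G) = 1 := by
  have := al_triv h hl
  rw [← A_spec] at this
  exact_mod_cast this

theorem A_one (χ : IrrCharacter G) : A (one K) χ = 0 := by
  have := al_one (K := K) χ
  rw [← A_spec] at this
  exact_mod_cast this

theorem A_bar (h : BW K t s) (l : IrrCharacter K) : A (G := G) (bar l) = A l := by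
  funext χ
  have := al_bar h l χ
  rw [← A_spec, ← A_spec] at this
  exact_mod_cast this

open Classical in
theorem A_inner (h : BW K t s) {l m : IrrCharacter K} (hl : l ≠ one K) (hm : m ≠ one K) :
    ∑ χ : IrrCharacter G, A l χ * A m χ = 2 + (if m = l then 1 else 0) + (if m = bar l then 1 else 0) := by
  have := al_inner h hl hm
  have e : ((∑ χ : IrrCharacter G, A l χ * A m χ : ℤ) : ℂ) = ((2 + (if m = l then 1 else 0) + (if m = bar l then 1 else 0) : ℤ) : ℂ) := by
    push_cast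
    rw [← this]
    exact Finset.sum_congr rfl fun χ _ => by rw [A_spec, A_spec]
  exact_mod_cast e

theorem A_norm3 (h : BW K t s) {l : IrrCharacter K} (hl : bar l ≠ l) : ∑ χ : IrrCharacter G, A l χ ^ 2 = 3 := by
  classical
  have hl1 : l ≠ one K := fun h0 => hl (by rw [h0, bar_one])
  have := A_inner h hl1 hl1
  rw [if_pos rfl, if_neg (fun h0 => hl h0.symm)] at this
  rw [Finset.sum_congr rfl fun χ _ => pow_two (A l χ), this]; norm_num

theorem A_norm4 (h : BW K t s) {l : IrrCharacter K} (hl1 : l ≠ one K) (hl : bar l = l) : ∑ χ : IrrCharacter G, A l χ ^ 2 = 4 := by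
  classical
  have := A_inner h hl1 hl1
  rw [if_pos rfl, if_pos hl.symm] at this
  rw [Finset.sum_congr rfl fun χ _ => pow_two (A l χ), this]; norm_num

theorem A_two (h : BW K t s) {l m : IrrCharacter K} (hl : l ≠ one K) (hm : m ≠ one K) (h1 : m ≠ l) (h2 : m ≠ bar l) :
    ∑ χ : IrrCharacter G, A l χ * A m χ = 2 := by
  classical
  rw [A_inner h hl hm, if_neg h1, if_neg h2]; norm_num

/-- the value at `t` -/
theorem value_t (h : BW K t s) (χ : IrrCharacter G) : (χ : G → ℂ) t = - ∑ l : IrrCharacter K, (A l χ : ℂ) * (l : K → ℂ) ⟨t, h.tK⟩ := by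
  have := value_K h χ (x := ⟨t, h.tK⟩) (fun h0 => h.t1 (congrArg Subtype.val h0))
  simp only [A_spec]
  exact this

theorem value_K' (h : BW K t s) (χ : IrrCharacter G) {x : K} (hx : x ≠ 1) :
    (χ : G → ℂ) x = - ∑ l : IrrCharacter K, (A l χ : ℂ) * (l : K → ℂ) x := by
  have := value_K h χ hx
  simp only [A_spec]
  exact this

theorem lin_sum_K (h : BW K t s) {x : K} (hx : x ≠ 1) : ∑ l : IrrCharacter K, (l : K → ℂ) x = 0 := by
  classical
  have := lin_col (hab h) x 1
  rw [if_neg hx] at this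
  rw [← this]
  exact Finset.sum_congr rfl fun l _ => by rw [lin_one (hab h), map_one, mul_one]

/-- a character with constant column -/
theorem value_const (h : BW K t s) {χ : IrrCharacter G} {δ : ℤ} (hδ : ∀ l : IrrCharacter K, l ≠ one K → A l χ = δ) {x : K} (hx : x ≠ 1) :
    (χ : G → ℂ) x = δ := by
  classical
  rw [value_K' h χ hx]
  have h1 : ∀ l : IrrCharacter K, (A l χ : ℂ) * (l : K → ℂ) x = (δ : ℂ) * (l : K → ℂ) x - if l = one K then (δ : ℂ) else 0 := by
    intro l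
    by_cases hl : l = one K
    · rw [if_pos hl, hl, A_one, one_apply]; push_cast; ring
    · rw [if_neg hl, hδ l hl, sub_zero]
  rw [Finset.sum_congr rfl fun l _ => h1 l, Finset.sum_sub_distrib, ← Finset.mul_sum, lin_sum_K h hx, Finset.sum_ite_eq' Finset.univ,
    if_pos (Finset.mem_univ _)]
  ring

/-- a character with column supported at `l`, `bar l`, `l0` -/
theorem value_l (h : BW K t s) {χ : IrrCharacter G} {l l0 : IrrCharacter K} (hl : bar l ≠ l) (hl0 : l ≠ l0) (hl0' : bar l ≠ l0) (h01 : l0 ≠ one K)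
    (hz : ∀ m : IrrCharacter K, m ≠ one K → m ≠ l0 → m ≠ l → m ≠ bar l → A m χ = 0) :
    (χ : G → ℂ) t = - (2 * (A l χ : ℂ) * (l : K → ℂ) ⟨t, h.tK⟩ + (A l0 χ : ℂ) * (l0 : K → ℂ) ⟨t, h.tK⟩) := by
  classical
  rw [value_t h χ]
  rw [sum3 (fun m : IrrCharacter K => (A m χ : ℂ) * (m : K → ℂ) ⟨t, h.tK⟩) (a := l0) (b := l) (c := bar l) hl0 hl0' hl.symm
    (fun m m0 m1 m2 => by
      by_cases hm : m = one K
      · rw [hm, A_one]; push_cast; ring
      · rw [hz m hm m0 m1 m2]; push_cast; ring)]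
  rw [A_bar h, bar_apply]
  have h1 : (⟨t, h.tK⟩ : K) * ⟨t, h.tK⟩ = 1 := Subtype.ext h.t2
  rcases lin_sq (hab h) h1 l with h2 | h2
  · rw [h2, map_one]; ring
  · rw [h2, map_neg, map_one]; ring

theorem value_l0 (h : BW K t s) {χ : IrrCharacter G} {l0 : IrrCharacter K}
    (hz : ∀ m : IrrCharacter K, m ≠ l0 → A m χ = 0) :
    (χ : G → ℂ) t = - ((A l0 χ : ℂ) * (l0 : K → ℂ) ⟨t, h.tK⟩) := by
  classical
  rw [value_t h χ, Finset.sum_eq_single l0 (fun m _ hm => by rw [hz m hm]; push_cast; ring) (fun h0 => absurd (Finset.mem_univ _) h0)]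

theorem sum_off' (h : BW K t s) (l : IrrCharacter K) {y : G} (hy : Off K y) :
    ∑ χ : IrrCharacter G, (A l χ : ℂ) * conj ((χ : G → ℂ) y) = 0 := by
  have := sum_off h l hy
  simp only [A_spec]
  exact this

theorem mult_A (h : BW K t s) {l : IrrCharacter K} (hl : l ≠ one K) :
    ∑ χ : IrrCharacter G, (χ : G → ℂ) t ^ 2 / (χ : G → ℂ) 1 * (A l χ : ℂ) = 4 * (Nat.card K : ℂ) ^ 3 / Nat.card G := by
  have := mult_al h hl
  simp only [A_spec]
  exact this

theorem off_one (K : Subgroup G) : Off K (1 : G) := fun x _ hx1 hc => hx1 (isConj_one_left.1 hc)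

/-- **the exceptional configuration**, `k ≥ 4` -/
theorem good (h : BW K t s) (hk : 4 ≤ Nat.card K) :
    ∃ i : IrrCharacter G, i ≠ one G ∧ ∃ δ : ℤ, (δ = 1 ∨ δ = -1) ∧ ∀ l : IrrCharacter K, l ≠ one K → A l i = δ := by
  classical
  have ht : (⟨t, h.tK⟩ : K) * ⟨t, h.tK⟩ = 1 := Subtype.ext h.t2
  have ht1 : (⟨t, h.tK⟩ : K) ≠ 1 := fun h0 => h.t1 (congrArg Subtype.val h0)
  have hun : ∀ x : K, x * x = 1 → x = 1 ∨ x = ⟨t, h.tK⟩ := by
    intro x hx
    rcases h.uniq x x.2 (congrArg Subtype.val hx) with h1 | h1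
    · left; exact Subtype.ext h1
    · right; exact Subtype.ext h1
  obtain ⟨l0, hl01, hl0r, hl0u⟩ := exists_l0 (hab h) ht ht1 hun
  have hnr : ∀ l : IrrCharacter K, l ≠ one K → l ≠ l0 → bar l ≠ l := by
    intro l h1 h2 h3
    rcases hl0u l h3 with h4 | h4
    · exact h1 h4
    · exact h2 h4
  have hnr1 : ∀ l : IrrCharacter K, bar l ≠ l → l ≠ one K ∧ l ≠ l0 ∧ bar l ≠ l0 ∧ bar l ≠ one K := by
    intro l hl
    refine ⟨?_, ?_, ?_, ?_⟩
    · rintro rfl; exact hl bar_one
    · rintro rfl; exact hl hl0r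
    · intro h0; apply hl; rw [← h0, bar_bar] at hl0r; exact hl0r.symm
    · intro h0; apply hl; rw [h0]; rw [← bar_bar l, h0, bar_one]
  by_cases hk6 : 6 ≤ Nat.card K
  · obtain ⟨l1, l2, hr1, hr2, hv1, hv2⟩ := exists_two (hab h) ht ht1 hun hk6
    obtain ⟨a1, a2, a3, a4⟩ := hnr1 l1 hr1
    obtain ⟨b1, b2, b3, b4⟩ := hnr1 l2 hr2
    have hne : l2 ≠ l1 := by
      rintro rfl
      rw [hv1] at hv2; norm_num at hv2
    have hne' : l2 ≠ bar l1 := by
      rintro rfl
      rw [bar_apply, hv1, map_one] at hv2; norm_num at hv2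
    have D := dichotomy (L := {l : IrrCharacter K // l ≠ one K}) (fun l χ => A l.1 χ) (one G)
      (fun l => ⟨bar l.1, fun h0 => l.2 (by rw [← bar_bar l.1, h0, bar_one])⟩) ⟨l0, hl01⟩ ⟨l1, a1⟩ ⟨l2, b1⟩ (fun l => A_triv h l.2)
      (fun l => A_bar h l.1) (fun l hl => A_norm3 h (hnr l.1 l.2 (fun h0 => hl (Subtype.ext h0)))) (A_norm4 h hl01 hl0r)
      (fun l m h1 h2 => A_two h l.2 m.2 (fun h0 => h1 (Subtype.ext h0)) (fun h0 => h2 (Subtype.ext h0)))
      (fun h0 => a2 (congrArg Subtype.val h0)) (fun h0 => b2 (congrArg Subtype.val h0)) (fun h0 => hne (congrArg Subtype.val h0))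
      (fun h0 => hne' (congrArg Subtype.val h0)) (fun h0 => a3 (congrArg Subtype.val h0)) (fun h0 => b3 (congrArg Subtype.val h0))
    rcases D with ⟨i, hi, δ, hδ, hA⟩ | ⟨i, j, l, δ, hδ, hi, hj, hl, hij, hil, hAi, hAi0, hAj, hAj0, hAjz, hz1, hAl, hAl0, hAlz, hz2⟩
    · exact ⟨i, hi, δ, hδ, fun l hl => hA ⟨l, hl⟩⟩
    · exfalso
      simp only at hAi hAi0 hAj hAj0 hAjz hz1 hAl hAl0 hAlz hz2
      have vj := value_l h (χ := j) hr1 a2 a3 hl01 (fun m m1 m2 m3 m4 => hAjz ⟨m, m1⟩ (fun h0 => m2 (congrArg Subtype.val h0))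
        (fun h0 => m3 (congrArg Subtype.val h0)) (fun h0 => m4 (congrArg Subtype.val h0)))
      have vl := value_l h (χ := l) hr2 b2 b3 hl01 (fun m m1 m2 m3 m4 => hAlz ⟨m, m1⟩ (fun h0 => m2 (congrArg Subtype.val h0))
        (fun h0 => m3 (congrArg Subtype.val h0)) (fun h0 => m4 (congrArg Subtype.val h0)))
      rw [hAj0, hv1] at vj
      rw [hAl0, hv2] at vl
      have hi1 : A l1 i = δ := hAi ⟨l1, a1⟩ (fun h0 => a2 (congrArg Subtype.val h0))
      have hi2 : A l2 i = δ := hAi ⟨l2, b1⟩ (fun h0 => b2 (congrArg Subtype.val h0))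
      have o1 := sum_off' h l1 (off_one K)
      have o2 := sum_off' h l2 (off_one K)
      have m1 := mult_A h a1
      have m2 := mult_A h b1
      rw [sum3 _ hi hj hij (fun x x0 x1 x2 => by rw [hz1 x x0 x1 x2]; push_cast; ring)] at o1 m1
      rw [sum3 _ hi hl hil (fun x x0 x1 x2 => by rw [hz2 x x0 x1 x2]; push_cast; ring)] at o2 m2
      obtain ⟨nj, hnj, hnj'⟩ := irr_one_nat j.2
      obtain ⟨nl, hnl, hnl'⟩ := irr_one_nat l.2
      rw [A_triv h a1, hi1, hnj', Complex.conj_natCast] at o1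
      rw [A_triv h b1, hi2, hnl', Complex.conj_natCast] at o2
      rw [A_triv h a1, hi1, vj, hnj'] at m1
      rw [A_triv h b1, hi2, vl, hnl'] at m2
      have hnj0 : (nj : ℂ) ≠ 0 := by exact_mod_cast hnj.ne'
      have hnl0 : (nl : ℂ) ≠ 0 := by exact_mod_cast hnl.ne'
      have e1 : (A l1 j : ℂ) * nj = (A l2 l : ℂ) * nl := by linear_combination o1 - o2
      have ej : ((A l1 j : ℤ) : ℂ) ^ 2 = 1 := by rcases hAj with h1 | h1 <;> rw [h1] <;> norm_num
      have el : ((A l2 l : ℤ) : ℂ) ^ 2 = 1 := by rcases hAl with h1 | h1 <;> rw [h1] <;> norm_num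
      have e0 : ((l0 : K → ℂ) ⟨t, h.tK⟩) ^ 2 = 1 := by rcases lin_sq (hab h) ht l0 with h1 | h1 <;> rw [h1] <;> norm_num
      have e00 : ((l0 : K → ℂ) ⟨t, h.tK⟩) ≠ 0 := by rcases lin_sq (hab h) ht l0 with h1 | h1 <;> rw [h1] <;> norm_num
      have ej0 : ((A l1 j : ℤ) : ℂ) ≠ 0 := by rcases hAj with h1 | h1 <;> rw [h1] <;> norm_num
      have el0 : ((A l2 l : ℤ) : ℂ) ≠ 0 := by rcases hAl with h1 | h1 <;> rw [h1] <;> norm_num
      generalize hX : ((A l1 j : ℤ) : ℂ) = X at *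
      generalize hY : ((A l2 l : ℤ) : ℂ) = Y at *
      generalize hZ : ((l0 : K → ℂ) ⟨t, h.tK⟩) = Z at *
      have m3 : (-(2 * X * 1 + X * Z)) ^ 2 / (nj : ℂ) * X = (-(2 * Y * (-1) + Y * Z)) ^ 2 / (nl : ℂ) * Y := by
        linear_combination m1 - m2
      have m4 : (2 + Z) ^ 2 / (X * nj) = (2 - Z) ^ 2 / (Y * nl) := by
        have q1 : (-(2 * X * 1 + X * Z)) ^ 2 / (nj : ℂ) * X = (2 + Z) ^ 2 / (X * nj) := by
          rw [div_mul_eq_mul_div, div_eq_div_iff hnj0 (mul_ne_zero ej0 hnj0)]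
          linear_combination ((2 + Z) ^ 2 * nj * (X ^ 2 + 1)) * ej
        have q2 : (-(2 * Y * (-1) + Y * Z)) ^ 2 / (nl : ℂ) * Y = (2 - Z) ^ 2 / (Y * nl) := by
          rw [div_mul_eq_mul_div, div_eq_div_iff hnl0 (mul_ne_zero el0 hnl0)]
          linear_combination ((2 - Z) ^ 2 * nl * (Y ^ 2 + 1)) * el
        rw [← q1, ← q2, m3]
      rw [← e1, div_left_inj' (mul_ne_zero ej0 hnj0)] at m4
      apply e00
      linear_combination (1 / 8 : ℂ) * m4
  · -- `k = 4`
    have hk4 : Nat.card K = 4 ∨ Nat.card K = 5 := by omega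
    have hk4 : Nat.card K = 4 := by
      rcases hk4 with h1 | h1
      · exact h1
      · have := h.even_card; omega
    obtain ⟨l1, hr1⟩ := exists_nonreal (hab h) ht ht1 hun hk
    obtain ⟨a1, a2, a3, a4⟩ := hnr1 l1 hr1
    obtain ⟨i, j, hi, hj, hij, u1, u2, hz⟩ := supp3 (A_triv h a1) (A_norm3 h hr1)
    have I := inner (A_triv h a1) hi hj hij u1 u2 hz (A_triv h hl01) (tri (A_triv h hl01) (A_norm4 h hl01 hl0r) (by norm_num) hi)
      (tri (A_triv h hl01) (A_norm4 h hl01 hl0r) (by norm_num) hj) (A_two h a1 hl01 a2.symm a3.symm)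
    have hall : ∀ l : IrrCharacter K, l = one K ∨ l = l0 ∨ l = l1 ∨ l = bar l1 := by
      have h1 : ({one K, l0, l1, bar l1} : Finset (IrrCharacter K)).card = 4 := by
        rw [Finset.card_insert_of_notMem (by simp [hl01.symm, a1.symm, a4.symm]), Finset.card_insert_of_notMem (by simp [a2.symm, a3.symm]),
          Finset.card_pair hr1.symm]
      have h2 : ({one K, l0, l1, bar l1} : Finset (IrrCharacter K)) = Finset.univ := by
        apply Finset.eq_univ_of_card
        rw [h1, card_lin (hab h), hk4]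
      intro l
      have : l ∈ ({one K, l0, l1, bar l1} : Finset (IrrCharacter K)) := by rw [h2]; exact Finset.mem_univ l
      simpa using this
    rcases I with ⟨k1, -⟩ | ⟨-, k1⟩
    · refine ⟨i, hi, A l1 i, u1, fun l hl => ?_⟩
      rcases hall l with h1 | h1 | h1 | h1
      · exact absurd h1 hl
      · rw [h1, k1]
      · rw [h1]
      · rw [h1, A_bar h]
    · refine ⟨j, hj, A l1 j, u2, fun l hl => ?_⟩
      rcases hall l with h1 | h1 | h1 | h1
      · exact absurd h1 hl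
      · rw [h1, k1]
      · rw [h1]
      · rw [h1, A_bar h]

end
end CfsgLib.BW11
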