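import Mathlib
import Cfsg.Agent.EqBase
import Cfsg.Agent.LibBW11e

/-! Brauer-Suzuki-Wall: the four characters (seat helper11). -/

set_option autoImplicit false
set_option linter.all false

namespace CfsgLib.BW11

open Subgroup Cfsg CfsgLib.CharBasic
open scoped ComplexConjugate

universe u

/-- the configuration of characters -/
structure Cf {G : Type u} [Group G] [Fintype G] (K : Subgroup G) (t : G) (i p r : IrrCharacter G) (δ ε₁ ε₂ : ℤ) : Prop where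
  i1 : i ≠ one G
  p1 : p ≠ one G
  r1 : r ≠ one G
  ip : i ≠ p
  ir : i ≠ r
  pr : p ≠ r
  hδ : δ = 1 ∨ δ = -1
  hε₁ : ε₁ = 1 ∨ ε₁ = -1
  hε₂ : ε₂ = 1 ∨ ε₂ = -1
  hi : ∀ x ∈ K, x ≠ 1 → (i : G → ℂ) x = δ
  hp : (p : G → ℂ) t ^ 2 = 1
  hr : (r : G → ℂ) t ^ 2 = 1
  off : ∀ y, Off K y → 1 + δ * conj ((i : G → ℂ) y) + ε₁ * conj ((p : G → ℂ) y) + ε₂ * conj ((r : G → ℂ) y) = 0
  other : ∀ χ : IrrCharacter G, χ ≠ one G → χ ≠ i → χ ≠ p → χ ≠ r → (χ : G → ℂ) t = 0 ∨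
    ((χ : G → ℂ) t ^ 2 = 4 ∧ ∃ ε : ℤ, (ε = 1 ∨ ε = -1) ∧ ∀ y, Off K y → 1 + δ * conj ((i : G → ℂ) y) + ε * conj ((χ : G → ℂ) y) = 0)
  sum : 1 + δ / (i : G → ℂ) 1 + ε₁ / (p : G → ℂ) 1 + ε₂ / (r : G → ℂ) 1 = 4 * (Nat.card K : ℂ) ^ 3 / Nat.card G
  half : (ε₁ : ℂ) * (p : G → ℂ) 1 = ε₂ * (r : G → ℂ) 1

section
variable {G : Type u} [Group G] [Fintype G] {K : Subgroup G} [Fintype K] {t s : G}

theorem sq_int {δ : ℤ} (h : δ = 1 ∨ δ = -1) : (δ : ℂ) ^ 2 = 1 := by rcases h with h | h <;> rw [h] <;> norm_num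
theorem ne_int {δ : ℤ} (h : δ = 1 ∨ δ = -1) : (δ : ℂ) ≠ 0 := by rcases h with h | h <;> rw [h] <;> norm_num
theorem ne_int' {δ : ℤ} (h : δ = 1 ∨ δ = -1) : δ ≠ 0 := by rcases h with h | h <;> rw [h] <;> norm_num

theorem exists_cf_large (h : BW K t s) (hk : 4 ≤ Nat.card K) : ∃ i p r : IrrCharacter G, ∃ δ ε₁ ε₂ : ℤ, Cf K t i p r δ ε₁ ε₂ := by
  classical
  have ht : (⟨t, h.tK⟩ : K) * ⟨t, h.tK⟩ = 1 := Subtype.ext h.t2
  have ht1 : (⟨t, h.tK⟩ : K) ≠ 1 := fun h0 => h.t1 (congrArg Subtype.val h0)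
  have hun : ∀ x : K, x * x = 1 → x = 1 ∨ x = ⟨t, h.tK⟩ := by
    intro x hx
    rcases h.uniq x x.2 (congrArg Subtype.val hx) with h1 | h1
    · left; exact Subtype.ext h1
    · right; exact Subtype.ext h1
  obtain ⟨l0, hl01, hl0r, hl0u⟩ := exists_l0 (hab h) ht ht1 hun
  obtain ⟨i, hi, δ, hδ, hA⟩ := good h hk
  have hδ0 := ne_int' hδ
  have hδδ : δ * δ = 1 := by rcases hδ with h1 | h1 <;> rw [h1] <;> norm_num
  obtain ⟨p, r, hp1, hr1, hpi, hri, hpr, up, ur, hz0⟩ := supp4' (A_triv h hl01) (A_norm4 h hl01 hl0r) hi (by rw [hA l0 hl01]; exact hδ0)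
  -- non-real characters
  have hnr : ∀ l : IrrCharacter K, l ≠ one K → l ≠ l0 → bar l ≠ l := by
    intro l h1 h2 h3
    rcases hl0u l h3 with h4 | h4
    · exact h1 h4
    · exact h2 h4
  have hnr2 : ∀ l : IrrCharacter K, bar l ≠ l → bar l ≠ l0 := by
    intro l hl h0; apply hl; rw [← h0, bar_bar] at hl0r; exact hl0r.symm
  have hlj : ∀ l : IrrCharacter K, l ≠ one K → l ≠ l0 → ∃ j, j ≠ one G ∧ j ≠ i ∧ j ≠ p ∧ j ≠ r ∧ (A l j = 1 ∨ A l j = -1) ∧
      (∀ x, x ≠ one G → x ≠ i → x ≠ j → A l x = 0) := by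
    intro l hl1 hl0
    have hreal := hnr l hl1 hl0
    obtain ⟨j, hj1, hji, uj, hz⟩ := supp3' (A_triv h hl1) (A_norm3 h hreal) hi (by rw [hA l hl1]; exact hδ0)
    have h2 := A_two h hl1 hl01 (Ne.symm hl0) (hnr2 l hreal).symm
    rw [sum3 _ hi hj1 hji.symm (fun x x0 x1 x2 => by rw [hz x x0 x1 x2, zero_mul]), A_triv h hl1, A_triv h hl01, hA l hl1, hA l0 hl01, hδδ] at h2
    have h3 : A l j * A l0 j = 0 := by linarith
    have h4 : A l0 j = 0 := (mul_eq_zero.1 h3).resolve_left (ne_int' uj)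
    refine ⟨j, hj1, hji, ?_, ?_, uj, hz⟩
    · rintro rfl; exact ne_int' up h4
    · rintro rfl; exact ne_int' ur h4
  have hp0 : ∀ m : IrrCharacter K, m ≠ l0 → A m p = 0 := by
    intro m hm
    by_cases hm1 : m = one K
    · rw [hm1, A_one]
    obtain ⟨j, hj1, hji, hjp, hjr, uj, hz⟩ := hlj m hm1 hm
    exact hz p hp1 hpi hjp.symm
  have hr0 : ∀ m : IrrCharacter K, m ≠ l0 → A m r = 0 := by
    intro m hm
    by_cases hm1 : m = one K
    · rw [hm1, A_one]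
    obtain ⟨j, hj1, hji, hjp, hjr, uj, hz⟩ := hlj m hm1 hm
    exact hz r hr1 hri hjr.symm
  have e0 : ((l0 : K → ℂ) ⟨t, h.tK⟩) ^ 2 = 1 := by rcases lin_sq (hab h) ht l0 with h1 | h1 <;> rw [h1] <;> norm_num
  have hpt : (p : G → ℂ) t ^ 2 = 1 := by
    rw [value_l0 h hp0, neg_sq, mul_pow, e0, sq_int up]; norm_num
  have hrt : (r : G → ℂ) t ^ 2 = 1 := by
    rw [value_l0 h hr0, neg_sq, mul_pow, e0, sq_int ur]; norm_num
  have hiK : ∀ x ∈ K, x ≠ 1 → (i : G → ℂ) x = δ := fun x hx hx1 =>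
    value_const (K := K) (x := (⟨x, hx⟩ : K)) h hA (fun h0 => hx1 (congrArg Subtype.val h0))
  have hoff : ∀ y, Off K y → 1 + δ * conj ((i : G → ℂ) y) + (A l0 p : ℂ) * conj ((p : G → ℂ) y) + (A l0 r : ℂ) * conj ((r : G → ℂ) y) = 0 := by
    intro y hy
    have h1 := sum_off' h l0 hy
    rw [sum4 _ hi hp1 hr1 hpi.symm hri.symm hpr (fun x x0 x1 x2 x3 => by rw [hz0 x x0 x1 x2 x3]; push_cast; ring), A_triv h hl01, hA l0 hl01,
      one_apply, map_one] at h1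
    rw [← h1]; push_cast; ring
  have hsum : 1 + δ / (i : G → ℂ) 1 + (A l0 p : ℂ) / (p : G → ℂ) 1 + (A l0 r : ℂ) / (r : G → ℂ) 1 = 4 * (Nat.card K : ℂ) ^ 3 / Nat.card G := by
    have h1 := mult_A h hl01
    rw [sum4 _ hi hp1 hr1 hpi.symm hri.symm hpr (fun x x0 x1 x2 x3 => by rw [hz0 x x0 x1 x2 x3]; push_cast; ring), A_triv h hl01, hA l0 hl01,
      one_apply, one_apply, hpt, hrt, hiK t h.tK h.t1, sq_int hδ] at h1
    rw [← h1]; push_cast; ring
  refine ⟨i, p, r, δ, A l0 p, A l0 r, hi, hp1, hr1, hpi.symm, hri.symm, hpr, hδ, up, ur, hiK, hpt, hrt, hoff, ?_, hsum, ?_⟩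
  · intro χ c1 ci cp cr
    have hχ0 : A l0 χ = 0 := hz0 χ c1 ci cp cr
    by_cases hall : ∀ m : IrrCharacter K, A m χ = 0
    · left
      rw [value_t h χ]
      rw [Finset.sum_congr rfl (g := fun _ => (0 : ℂ)) (fun m _ => by rw [hall m]; push_cast; ring)]
      simp
    · right
      push Not at hall
      obtain ⟨m, hm⟩ := hall
      have hm1 : m ≠ one K := by rintro rfl; exact hm (A_one χ)
      have hm0 : m ≠ l0 := by rintro rfl; exact hm hχ0
      obtain ⟨j, hj1, hji, hjp, hjr, uj, hz⟩ := hlj m hm1 hm0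
      have hjχ : χ = j := by
        by_contra hne
        exact hm (hz χ c1 ci hne)
      subst hjχ
      have hreal := hnr m hm1 hm0
      have hothers : ∀ m' : IrrCharacter K, m' ≠ one K → m' ≠ l0 → m' ≠ m → m' ≠ bar m → A m' χ = 0 := by
        intro m' q1 q0 q2 q3
        have h2 := A_two h hm1 q1 q2 q3
        rw [sum3 _ hi c1 (Ne.symm ci) (fun x x0 x1 x2 => by rw [hz x x0 x1 x2, zero_mul]), A_triv h hm1, A_triv h q1, hA m hm1, hA m' q1, hδδ] at h2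
        have h3 : A m χ * A m' χ = 0 := by linarith
        exact (mul_eq_zero.1 h3).resolve_left (ne_int' uj)
      have hval := value_l h (χ := χ) hreal hm0 (hnr2 m hreal) hl01 hothers
      have em : ((m : K → ℂ) ⟨t, h.tK⟩) ^ 2 = 1 := by rcases lin_sq (hab h) ht m with h1 | h1 <;> rw [h1] <;> norm_num
      refine ⟨?_, A m χ, uj, fun y hy => ?_⟩
      · rw [hval, hχ0]
        have := sq_int uj
        push_cast
        linear_combination (4 * ((m : K → ℂ) ⟨t, h.tK⟩) ^ 2) * this + 4 * em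
      · have h1 := sum_off' h m hy
        rw [sum3 _ hi c1 (Ne.symm ci) (fun x x0 x1 x2 => by rw [hz x x0 x1 x2]; push_cast; ring), A_triv h hm1, hA m hm1, one_apply, map_one] at h1
        rw [← h1]; push_cast; ring
  · -- equality of degrees
    obtain ⟨l1, hreal⟩ := exists_nonreal (hab h) ht ht1 hun hk
    have hl1 : l1 ≠ one K := by rintro rfl; exact hreal bar_one
    have hl10 : l1 ≠ l0 := by rintro rfl; exact hreal hl0r
    obtain ⟨j, hj1, hji, hjp, hjr, uj, hz⟩ := hlj l1 hl1 hl10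
    have hj0 : A l0 j = 0 := hz0 j hj1 hji hjp hjr
    have hothers : ∀ m' : IrrCharacter K, m' ≠ one K → m' ≠ l0 → m' ≠ l1 → m' ≠ bar l1 → A m' j = 0 := by
      intro m' q1 q0 q2 q3
      have h2 := A_two h hl1 q1 q2 q3
      rw [sum3 _ hi hj1 hji.symm (fun x x0 x1 x2 => by rw [hz x x0 x1 x2, zero_mul]), A_triv h hl1, A_triv h q1, hA l1 hl1, hA m' q1, hδδ] at h2
      have h3 : A l1 j * A m' j = 0 := by linarith
      exact (mul_eq_zero.1 h3).resolve_left (ne_int' uj)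
    have hval := value_l h (χ := j) hreal hl10 (hnr2 l1 hreal) hl01 hothers
    have em : ((l1 : K → ℂ) ⟨t, h.tK⟩) ^ 2 = 1 := by rcases lin_sq (hab h) ht l1 with h1 | h1 <;> rw [h1] <;> norm_num
    have hj2 : (j : G → ℂ) t ^ 2 = 4 := by
      rw [hval, hj0]
      have := sq_int uj
      push_cast
      linear_combination (4 * ((l1 : K → ℂ) ⟨t, h.tK⟩) ^ 2) * this + 4 * em
    have h1 := sum_off' h l1 (off_one K)
    rw [sum3 _ hi hj1 hji.symm (fun x x0 x1 x2 => by rw [hz x x0 x1 x2]; push_cast; ring), A_triv h hl1, hA l1 hl1, one_apply, map_one] at h1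
    have h2 := mult_A h hl1
    rw [sum3 _ hi hj1 hji.symm (fun x x0 x1 x2 => by rw [hz x x0 x1 x2]; push_cast; ring), A_triv h hl1, hA l1 hl1, one_apply, one_apply,
      hiK t h.tK h.t1, sq_int hδ, hj2] at h2
    have h3 := hoff 1 (off_one K)
    obtain ⟨ni, hni, hni'⟩ := irr_one_nat i.2
    obtain ⟨np, hnp, hnp'⟩ := irr_one_nat p.2
    obtain ⟨nr, hnr', hnr''⟩ := irr_one_nat r.2
    obtain ⟨nj, hnj, hnj'⟩ := irr_one_nat j.2
    rw [hni', hnj', Complex.conj_natCast, Complex.conj_natCast] at h1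
    rw [hni', hnj'] at h2
    rw [hni', hnp', hnr'', Complex.conj_natCast, Complex.conj_natCast, Complex.conj_natCast] at h3
    rw [hni', hnp', hnr''] at hsum
    rw [hnp', hnr'']
    have z1 : (np : ℂ) ≠ 0 := by exact_mod_cast hnp.ne'
    have z2 : (nr : ℂ) ≠ 0 := by exact_mod_cast hnr'.ne'
    have z3 : (nj : ℂ) ≠ 0 := by exact_mod_cast hnj.ne'
    have y1 := ne_int up
    have y2 := ne_int ur
    have y3 := ne_int uj
    have s1 := sq_int up
    have s2 := sq_int ur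
    have s3 := sq_int uj
    generalize ((A l0 p : ℤ) : ℂ) = E1 at *
    generalize ((A l0 r : ℤ) : ℂ) = E2 at *
    generalize ((A l1 j : ℤ) : ℂ) = E3 at *
    have q1 : E1 / np = 1 / (E1 * np) := by rw [div_eq_div_iff z1 (mul_ne_zero y1 z1)]; linear_combination (np : ℂ) * s1
    have q2 : E2 / nr = 1 / (E2 * nr) := by rw [div_eq_div_iff z2 (mul_ne_zero y2 z2)]; linear_combination (nr : ℂ) * s2
    have q3 : 4 / (nj : ℂ) * E3 = 4 / (E3 * nj) := by
      rw [div_mul_eq_mul_div, div_eq_div_iff z3 (mul_ne_zero y3 z3)]; linear_combination (4 * nj : ℂ) * s3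
    have r1 : 4 / (E3 * nj) = 1 / (E1 * np) + 1 / (E2 * nr) := by
      rw [← q1, ← q2, ← q3]
      linear_combination h2 - hsum
    have r2 : E3 * nj = E1 * np + E2 * nr := by
      push_cast at h1
      linear_combination h1 - h3
    have w1 : E1 * (np : ℂ) ≠ 0 := mul_ne_zero y1 z1
    have w2 : E2 * (nr : ℂ) ≠ 0 := mul_ne_zero y2 z2
    have w3 : E3 * (nj : ℂ) ≠ 0 := mul_ne_zero y3 z3
    have r3 : 4 * ((E1 * np) * (E2 * nr)) = (E3 * nj) * (E1 * np + E2 * nr) := by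
      rw [div_add_div _ _ w1 w2, div_eq_div_iff w3 (mul_ne_zero w1 w2)] at r1
      linear_combination r1
    rw [r2] at r3
    have r4 : (E1 * np - E2 * nr) ^ 2 = 0 := by linear_combination -r3
    have r5 := pow_eq_zero_iff (two_ne_zero) |>.1 r4
    linear_combination r5

end
end CfsgLib.BW11
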