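import Mathlib
import Cfsg.Agent.EqBase
import Cfsg.Agent.LibBW11f

/-! Brauer-Suzuki-Wall: the case `|K| = 2` (seat helper11). -/

set_option autoImplicit false
set_option linter.all false

namespace CfsgLib.BW11

open Subgroup Cfsg CfsgLib.CharBasic
open scoped ComplexConjugate

universe u

theorem q1 {a : ℤ} (ha : a % 4 = 1) : (-(1 : ℚ) / 3 ≤ 1 / a) ∧ (a ≠ -3 → -(1 : ℚ) / 7 ≤ 1 / a) := by
  rcases lt_or_ge 0 a with h | h
  · have h1 : (0 : ℚ) < a := by exact_mod_cast h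
    have h2 : (0 : ℚ) < 1 / a := by positivity
    constructor
    · linarith
    · intro _; linarith
  · have h1 : a ≤ -3 := by omega
    have h2 : (a : ℚ) ≤ -3 := by exact_mod_cast h1
    have h0 : (0 : ℚ) < -a := by linarith
    have e : (1 : ℚ) / a = -(1 / (-a)) := by rw [one_div, one_div, inv_neg, neg_neg]
    constructor
    · have : (1 : ℚ) / (-a) ≤ 1 / 3 := one_div_le_one_div_of_le (by norm_num) (by linarith)
      rw [e]; linarith
    · intro h3
      have h4 : a ≤ -7 := by omega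
      have h5 : (a : ℚ) ≤ -7 := by exact_mod_cast h4
      have : (1 : ℚ) / (-a) ≤ 1 / 7 := one_div_le_one_div_of_le (by norm_num) (by linarith)
      rw [e]; linarith

theorem arith2 {a b c : ℤ} {g : ℕ} (ha : a % 4 = 1) (hb : b % 4 = 1) (hc : c % 4 = 1) (hsum : a + b + c = -1)
    (hg : (1 : ℚ) + 1 / a + 1 / b + 1 / c = 32 / g) (hg0 : 0 < g) (hle : 1 + a ^ 2 + b ^ 2 + c ^ 2 ≤ g) : a = b ∨ a = c ∨ b = c := by
  by_contra hcon
  push Not at hcon
  obtain ⟨hab, hac, hbc⟩ := hcon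
  obtain ⟨a1, a2⟩ := q1 ha
  obtain ⟨b1, b2⟩ := q1 hb
  obtain ⟨c1, c2⟩ := q1 hc
  have hgq : (0 : ℚ) < g := by exact_mod_cast hg0
  have hS : (8 : ℚ) / 21 ≤ 32 / g := by
    rw [← hg]
    by_cases h1 : a = -3
    · have h2 := b2 (by omega)
      have h3 := c2 (by omega)
      linarith
    · have h2 := a2 h1
      by_cases h3 : b = -3
      · have h4 := c2 (by omega)
        linarith
      · have h4 := b2 h3
        linarith
  have hg84 : (g : ℚ) ≤ 84 := by
    rw [div_le_div_iff₀ (by norm_num) hgq] at hS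
    linarith
  have hg84' : (g : ℤ) ≤ 84 := by exact_mod_cast hg84
  have a3 : a ≤ 9 := by nlinarith [sq_nonneg b, sq_nonneg c]
  have a4 : -9 ≤ a := by nlinarith [sq_nonneg b, sq_nonneg c]
  have b3 : b ≤ 9 := by nlinarith [sq_nonneg a, sq_nonneg c]
  have b4 : -9 ≤ b := by nlinarith [sq_nonneg a, sq_nonneg c]
  have c3 : c ≤ 9 := by nlinarith [sq_nonneg b, sq_nonneg a]
  have c4 : -9 ≤ c := by nlinarith [sq_nonneg b, sq_nonneg a]
  have a5 : a = -7 ∨ a = -3 ∨ a = 1 ∨ a = 5 ∨ a = 9 := by omega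
  have b5 : b = -7 ∨ b = -3 ∨ b = 1 ∨ b = 5 ∨ b = 9 := by omega
  have hgz : (g : ℚ) * ((1 : ℚ) + 1 / a + 1 / b + 1 / c) = 32 := by rw [hg]; field_simp
  have hleq : (1 : ℚ) + a ^ 2 + b ^ 2 + c ^ 2 ≤ g := by exact_mod_cast hle
  rcases a5 with h1 | h1 | h1 | h1 | h1 <;> rcases b5 with h2 | h2 | h2 | h2 | h2 <;> subst h1 <;> subst h2 <;>
    first
      | exact absurd rfl hab
      | (exfalso; omega)
      | (obtain ⟨c', hc'⟩ : ∃ c' : ℤ, c' = c := ⟨c, rfl⟩
         have hcv : c = 1 ∨ c = 5 ∨ c = -7 ∨ c = -3 ∨ c = 9 := by omega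
         rcases hcv with h3 | h3 | h3 | h3 | h3 <;> subst h3 <;> first
           | (exfalso; omega)
           | (exfalso; norm_num at hgz; simp only [Int.cast_neg, Int.cast_ofNat, Int.cast_one] at hleq; linarith)
           | (exfalso; norm_num at hgz; norm_num at hle; omega))

section
variable {G : Type u} [Group G] [Fintype G] {K : Subgroup G} [Fintype K] {t s : G}

/-- congruence from restriction to `C(t)` -/
theorem congr_H (h : BW K t s) (χ : IrrCharacter G) {δ : ℤ} (hK : ∀ x ∈ K, x ≠ 1 → (χ : G → ℂ) x = δ) :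
    ∃ m : ℤ, (χ : G → ℂ) 1 = δ + 2 * (Nat.card K : ℂ) * m := by
  classical
  letI : Fintype (centralizer ({t} : Set G)) := Fintype.ofFinite _
  have hcard : (Nat.card (centralizer ({t} : Set G)) : ℂ) ≠ 0 := by exact_mod_cast Nat.card_pos.ne'
  obtain ⟨M, hM⟩ := gen_inner_int (gen_of_char (isCharacter_restrict (irr_isCharacter χ.2) (centralizer ({t} : Set G))))
    (gen_of_irr (one (centralizer ({t} : Set G))).2)
  have h1 : classInner (fun x : centralizer ({t} : Set G) => (χ : G → ℂ) x) (one (centralizer ({t} : Set G)) : centralizer ({t} : Set G) → ℂ) =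
      (Nat.card (centralizer ({t} : Set G)) : ℂ)⁻¹ * ∑ x : centralizer ({t} : Set G), (χ : G → ℂ) x := by
    unfold classInner
    congr 1
    exact Finset.sum_congr rfl fun x _ => by rw [one_apply, map_one, mul_one]
  have hval : ∀ x : centralizer ({t} : Set G), x ≠ 1 → (χ : G → ℂ) x = δ := by
    intro x hx
    have hx1 : (x : G) ≠ 1 := fun h0 => hx (Subtype.ext h0)
    rcases (h.cent x).1 (mem_centralizer_singleton_iff.1 x.2) with h2 | h2
    · exact hK x h2 hx1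
    · obtain ⟨c, hc⟩ := isConj_iff.1 (h.cj x (h.invol h2) hx1)
      rw [← hc, irr_classFun χ.2 t c, hK t h.tK h.t1]
  have h2 : ∑ x : centralizer ({t} : Set G), (χ : G → ℂ) x = (χ : G → ℂ) 1 + (2 * (Nat.card K : ℂ) - 1) * δ := by
    rw [← Finset.add_sum_erase _ _ (Finset.mem_univ (1 : centralizer ({t} : Set G))),
      Finset.sum_congr rfl (g := fun _ => (δ : ℂ)) (fun x hx => hval x (Finset.ne_of_mem_erase hx)), Finset.sum_const,
      Finset.card_erase_of_mem (Finset.mem_univ _), Finset.card_univ, ← Nat.card_eq_fintype_card, h.card_t, nsmul_eq_mul]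
    have hpos : 0 < Nat.card K := Nat.card_pos
    rw [Nat.cast_sub (by omega)]
    push_cast
    rfl
  rw [h1, h2, h.card_t] at hM
  rw [h.card_t] at hcard
  refine ⟨M - δ, ?_⟩
  rw [inv_mul_eq_iff_eq_mul₀ hcard] at hM
  push_cast at hM ⊢
  linear_combination hM

theorem exists_cf_two (h : BW K t s) (hk : Nat.card K = 2) : ∃ i p r : IrrCharacter G, ∃ δ ε₁ ε₂ : ℤ, Cf K t i p r δ ε₁ ε₂ := by
  classical
  have ht : (⟨t, h.tK⟩ : K) * ⟨t, h.tK⟩ = 1 := Subtype.ext h.t2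
  have ht1 : (⟨t, h.tK⟩ : K) ≠ 1 := fun h0 => h.t1 (congrArg Subtype.val h0)
  have hun : ∀ x : K, x * x = 1 → x = 1 ∨ x = ⟨t, h.tK⟩ := by
    intro x hx
    rcases h.uniq x x.2 (congrArg Subtype.val hx) with h1 | h1
    · left; exact Subtype.ext h1
    · right; exact Subtype.ext h1
  obtain ⟨l0, hl01, hl0r, hl0u⟩ := exists_l0 (hab h) ht ht1 hun
  have hall : ∀ l : IrrCharacter K, l = one K ∨ l = l0 := by
    have h2 : ({one K, l0} : Finset (IrrCharacter K)) = Finset.univ := by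
      apply Finset.eq_univ_of_card
      rw [Finset.card_pair hl01.symm, card_lin (hab h), hk]
    intro l
    have : l ∈ ({one K, l0} : Finset (IrrCharacter K)) := by rw [h2]; exact Finset.mem_univ l
    simpa using this
  have hKall : ∀ x ∈ K, x ≠ 1 → x = t := by
    have h2 : ({1, ⟨t, h.tK⟩} : Finset K) = Finset.univ := by
      apply Finset.eq_univ_of_card
      rw [Finset.card_pair ht1.symm, ← Nat.card_eq_fintype_card, hk]
    intro x hx hx1
    have : (⟨x, hx⟩ : K) ∈ ({1, ⟨t, h.tK⟩} : Finset K) := by rw [h2]; exact Finset.mem_univ _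
    rw [Finset.mem_insert, Finset.mem_singleton] at this
    rcases this with h3 | h3
    · exact absurd (congrArg Subtype.val h3) hx1
    · exact congrArg Subtype.val h3
  have hl0t : (l0 : K → ℂ) ⟨t, h.tK⟩ = -1 := by
    have h1 := lin_sum_K h ht1
    have h2 : ∑ l : IrrCharacter K, (l : K → ℂ) ⟨t, h.tK⟩ = (one K : K → ℂ) ⟨t, h.tK⟩ + (l0 : K → ℂ) ⟨t, h.tK⟩ := by
      rw [← Finset.sum_pair (f := fun l : IrrCharacter K => (l : K → ℂ) ⟨t, h.tK⟩) hl01.symm]
      apply (Finset.sum_subset (Finset.subset_univ _) _).symm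
      intro l _ hl
      exfalso; apply hl
      rcases hall l with h3 | h3 <;> rw [h3] <;> simp
    rw [h2, one_apply] at h1
    linear_combination h1
  have hval : ∀ χ : IrrCharacter G, (χ : G → ℂ) t = (A l0 χ : ℂ) := by
    intro χ
    rw [value_l0 h (l0 := l0) (fun m hm => by
      rcases hall m with h3 | h3
      · rw [h3, A_one]
      · exact absurd h3 hm), hl0t]
    ring
  obtain ⟨a, b, c, ha, hb, hc, hab', hac, hbc, ua, ub, uc, hz⟩ := supp4 (A_triv h hl01) (A_norm4 h hl01 hl0r)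
  choose n hn0 hn using fun χ : IrrCharacter G => irr_one_nat χ.2
  have hoff : ∀ y, Off K y → 1 + (A l0 a : ℂ) * conj ((a : G → ℂ) y) + (A l0 b : ℂ) * conj ((b : G → ℂ) y) + (A l0 c : ℂ) * conj ((c : G → ℂ) y) = 0 := by
    intro y hy
    have h1 := sum_off' h l0 hy
    rw [sum4 _ ha hb hc hab' hac hbc (fun x x0 x1 x2 x3 => by rw [hz x x0 x1 x2 x3]; push_cast; ring),
      A_triv h hl01, one_apply, map_one] at h1
    rw [← h1]; push_cast; ring
  have hsum : 1 + (A l0 a : ℂ) / (a : G → ℂ) 1 + (A l0 b : ℂ) / (b : G → ℂ) 1 + (A l0 c : ℂ) / (c : G → ℂ) 1 = 4 * (Nat.card K : ℂ) ^ 3 / Nat.card G := by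
    have h1 := mult_A h hl01
    rw [sum4 _ ha hb hc hab' hac hbc (fun x x0 x1 x2 x3 => by rw [hz x x0 x1 x2 x3]; push_cast; ring), A_triv h hl01,
      one_apply, one_apply, hval a, hval b, hval c, sq_int ua, sq_int ub, sq_int uc] at h1
    rw [← h1]; push_cast; ring
  -- arithmetic
  have hF : ∀ χ : IrrCharacter G, (A l0 χ = 1 ∨ A l0 χ = -1) → (A l0 χ * n χ) % 4 = 1 := by
    intro χ hu
    obtain ⟨m, hm⟩ := congr_H h χ (δ := A l0 χ) (fun x hx hx1 => by rw [hKall x hx hx1, hval])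
    rw [hn, hk] at hm
    have h2 : (n χ : ℤ) = A l0 χ + 4 * m := by
      have : ((n χ : ℤ) : ℂ) = ((A l0 χ + 4 * m : ℤ) : ℂ) := by push_cast; push_cast at hm; linear_combination hm
      exact_mod_cast this
    rcases hu with h3 | h3 <;> rw [h3] at h2 ⊢ <;> omega
  have hdeg : A l0 a * n a + A l0 b * n b + A l0 c * n c = -1 := by
    have h1 := hoff 1 (off_one K)
    rw [hn, hn, hn, Complex.conj_natCast, Complex.conj_natCast, Complex.conj_natCast] at h1
    have : ((A l0 a * n a + A l0 b * n b + A l0 c * n c : ℤ) : ℂ) = ((-1 : ℤ) : ℂ) := by push_cast; linear_combination h1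
    exact_mod_cast this
  have key : ∀ {e m : ℤ}, (e = 1 ∨ e = -1) → 0 < m → (e : ℂ) / m = 1 / ((e * m : ℤ) : ℂ) := by
    intro e m he hm
    have hm' : (m : ℂ) ≠ 0 := by exact_mod_cast hm.ne'
    rcases he with rfl | rfl
    · push_cast; rw [one_mul]
    · push_cast; field_simp
  have hg0 : 0 < Nat.card G := Nat.card_pos
  have hrat : (1 : ℚ) + 1 / ((A l0 a * n a : ℤ) : ℚ) + 1 / ((A l0 b * n b : ℤ) : ℚ) + 1 / ((A l0 c * n c : ℤ) : ℚ) = 32 / (Nat.card G : ℕ) := by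
    have h1 := hsum
    rw [hn, hn, hn, hk] at h1
    have ka := key (m := (n a : ℤ)) ua (by exact_mod_cast hn0 a)
    have kb := key (m := (n b : ℤ)) ub (by exact_mod_cast hn0 b)
    have kc := key (m := (n c : ℤ)) uc (by exact_mod_cast hn0 c)
    rw [Int.cast_natCast] at ka kb kc
    rw [ka, kb, kc] at h1
    have e : (((1 : ℚ) + 1 / ((A l0 a * n a : ℤ) : ℚ) + 1 / ((A l0 b * n b : ℤ) : ℚ) + 1 / ((A l0 c * n c : ℤ) : ℚ) : ℚ) : ℂ) = ((32 / (Nat.card G : ℕ) : ℚ) : ℂ) := by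
      push_cast
      push_cast at h1
      rw [h1]; norm_num
    exact_mod_cast e
  have hle : 1 + (A l0 a * n a) ^ 2 + (A l0 b * n b) ^ 2 + (A l0 c * n c) ^ 2 ≤ (Nat.card G : ℤ) := by
    have h1 := sum_sq_degree (G := G)
    have h2 : ((∑ χ : IrrCharacter G, (n χ : ℤ) ^ 2 : ℤ) : ℂ) = ((Nat.card G : ℤ) : ℂ) := by
      push_cast
      rw [← h1]
      exact Finset.sum_congr rfl fun χ _ => by rw [hn]
    have h3 : ∑ χ : IrrCharacter G, (n χ : ℤ) ^ 2 = (Nat.card G : ℤ) := by exact_mod_cast h2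
    rw [← h3]
    have h4 : ∑ χ ∈ ({one G, a, b, c} : Finset (IrrCharacter G)), (n χ : ℤ) ^ 2 ≤ ∑ χ : IrrCharacter G, (n χ : ℤ) ^ 2 :=
      Finset.sum_le_sum_of_subset_of_nonneg (Finset.subset_univ _) (fun χ _ _ => sq_nonneg _)
    rw [Finset.sum_insert (by simp [ha.symm, hb.symm, hc.symm]), Finset.sum_insert (by simp [hab', hac]), Finset.sum_insert (by simp [hbc]),
      Finset.sum_singleton] at h4
    have h5 : n (one G) = 1 := by have := hn (one G); rw [one_apply] at this; exact_mod_cast this.symm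
    rw [h5] at h4
    have s : ∀ {e : ℤ}, (e = 1 ∨ e = -1) → ∀ m : ℤ, (e * m) ^ 2 = m ^ 2 := by
      intro e he m; rcases he with rfl | rfl <;> ring
    rw [s ua, s ub, s uc]
    push_cast at h4
    linarith
  have hfin := arith2 (hF a ua) (hF b ub) (hF c uc) hdeg hrat hg0 hle
  have mk : ∀ i p r : IrrCharacter G, i ≠ one G → p ≠ one G → r ≠ one G → i ≠ p → i ≠ r → p ≠ r → (A l0 i = 1 ∨ A l0 i = -1) →
      (A l0 p = 1 ∨ A l0 p = -1) → (A l0 r = 1 ∨ A l0 r = -1) → (∀ l, l ≠ one G → l ≠ i → l ≠ p → l ≠ r → A l0 l = 0) →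
      (∀ y, Off K y → 1 + (A l0 i : ℂ) * conj ((i : G → ℂ) y) + (A l0 p : ℂ) * conj ((p : G → ℂ) y) + (A l0 r : ℂ) * conj ((r : G → ℂ) y) = 0) →
      (1 + (A l0 i : ℂ) / (i : G → ℂ) 1 + (A l0 p : ℂ) / (p : G → ℂ) 1 + (A l0 r : ℂ) / (r : G → ℂ) 1 = 4 * (Nat.card K : ℂ) ^ 3 / Nat.card G) →
      A l0 p * n p = A l0 r * n r → Cf K t i p r (A l0 i) (A l0 p) (A l0 r) := by
    intro i p r i1 p1 r1 ip ir pr ui up ur hz ho hs hh
    refine ⟨i1, p1, r1, ip, ir, pr, ui, up, ur, fun x hx hx1 => by rw [hKall x hx hx1, hval], by rw [hval, sq_int up], by rw [hval, sq_int ur], ho,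
      fun χ c1 ci cp cr => Or.inl (by rw [hval, hz χ c1 ci cp cr]; push_cast; rfl), hs, ?_⟩
    rw [hn, hn]
    exact_mod_cast congrArg (fun z : ℤ => (z : ℂ)) hh
  rcases hfin with h1 | h1 | h1
  · exact ⟨c, a, b, _, _, _, mk c a b hc ha hb hac.symm hbc.symm hab' uc ua ub (fun l x0 x1 x2 x3 => hz l x0 x2 x3 x1)
      (fun y hy => by rw [← hoff y hy]; ring) (by rw [← hsum]; ring) h1⟩
  · exact ⟨b, a, c, _, _, _, mk b a c hb ha hc hab'.symm hbc hac ub ua uc (fun l x0 x1 x2 x3 => hz l x0 x2 x1 x3)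
      (fun y hy => by rw [← hoff y hy]; ring) (by rw [← hsum]; ring) h1⟩
  · exact ⟨a, b, c, _, _, _, mk a b c ha hb hc hab' hac hbc ua ub uc hz hoff hsum h1⟩

theorem exists_cf (h : BW K t s) : ∃ i p r : IrrCharacter G, ∃ δ ε₁ ε₂ : ℤ, Cf K t i p r δ ε₁ ε₂ := by
  have h1 := h.even_card
  have h2 : 0 < Nat.card K := Nat.card_pos
  by_cases h4 : 4 ≤ Nat.card K
  · exact exists_cf_large h h4
  · exact exists_cf_two h (by omega)

end
end CfsgLib.BW11
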