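import Mathlib
import Cfsg.Agent.EqBase
import Cfsg.Agent.LibBW11g

/-! Brauer-Suzuki-Wall: the order formula (seat helper11). -/

set_option autoImplicit false
set_option linter.all false

namespace CfsgLib.BW11

open Subgroup Cfsg CfsgLib.CharBasic
open scoped ComplexConjugate

universe u

section
variable {G : Type u} [Group G] [Fintype G] {K : Subgroup G} [Fintype K] {t s : G}

theorem mem_cases {G : Type u} [Group G] [Fintype G] [DecidableEq (IrrCharacter G)] {i p r χ : IrrCharacter G} :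
    χ ∈ (Finset.univ \ ({one G, i, p, r} : Finset (IrrCharacter G))) ↔ (χ ≠ one G ∧ χ ≠ i ∧ χ ≠ p ∧ χ ≠ r) := by
  simp only [Finset.mem_sdiff, Finset.mem_univ, true_and, Finset.mem_insert, Finset.mem_singleton, not_or]

open Classical in
theorem split_sum {G : Type u} [Group G] [Fintype G] {M : Type*} [AddCommGroup M] (f : IrrCharacter G → M) {i p r : IrrCharacter G}
    (i1 : i ≠ one G) (p1 : p ≠ one G) (r1 : r ≠ one G) (ip : i ≠ p) (ir : i ≠ r) (pr : p ≠ r) :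
    ∑ χ, f χ = f (one G) + f i + f p + f r + ∑ χ ∈ Finset.univ \ ({one G, i, p, r} : Finset (IrrCharacter G)), f χ := by
  rw [← Finset.sum_sdiff (Finset.subset_univ ({one G, i, p, r} : Finset (IrrCharacter G))),
    Finset.sum_insert (by simp [i1.symm, p1.symm, r1.symm]), Finset.sum_insert (by simp [ip, ir]), Finset.sum_insert (by simp [pr]),
    Finset.sum_singleton]
  abel

/-- the order of `G` and the basic class function -/
theorem order (h : BW K t s) {i p r : IrrCharacter G} {δ ε₁ ε₂ : ℤ} (C : Cf K t i p r δ ε₁ ε₂) :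
    ∃ c : ℤ, (c = 1 ∨ c = -1) ∧ (δ : ℂ) * (i : G → ℂ) 1 = 1 + 2 * (Nat.card K : ℂ) * c ∧
      (Nat.card G : ℤ) = Nat.card K * (1 + 2 * Nat.card K * c) * (2 + 2 * Nat.card K * c) ∧
      (∀ y, Off K y → 1 + δ * conj ((i : G → ℂ) y) / (δ * (i : G → ℂ) 1) +
        (2 * (Nat.card K : ℂ) - 2) * ((1 + δ * conj ((i : G → ℂ) y)) / (1 + δ * (i : G → ℂ) 1)) = 4 * (Nat.card K : ℂ) ^ 2 * FF t y / Nat.card G) := by
  classical
  obtain ⟨k, hk⟩ : ∃ k : ℕ, k = Nat.card K := ⟨_, rfl⟩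
  have hk2 : 2 ≤ k := by
    have h1 := h.even_card
    have h2 : 0 < Nat.card K := Nat.card_pos
    rw [hk]; omega
  rw [← hk]
  choose n hn0 hn using fun χ : IrrCharacter G => irr_one_nat χ.2
  obtain ⟨g, hg⟩ : ∃ g : ℕ, g = Nat.card G := ⟨_, rfl⟩
  have hg0 : 0 < g := by rw [hg]; exact Nat.card_pos
  rw [← hg]
  have hgC : (g : ℂ) ≠ 0 := by exact_mod_cast hg0.ne'
  have hkC : (k : ℂ) ≠ 0 := by
    have : k ≠ 0 := by omega
    exact_mod_cast this
  obtain ⟨φ, hφ⟩ : ∃ φ : ℤ, φ = δ * n i := ⟨_, rfl⟩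
  obtain ⟨P, hP⟩ : ∃ P : ℤ, P = ε₁ * n p := ⟨_, rfl⟩
  have hPr : P = ε₂ * n r := by
    have h1 := C.half
    rw [hn, hn] at h1
    have h2 : ((ε₁ * n p : ℤ) : ℂ) = ((ε₂ * n r : ℤ) : ℂ) := by push_cast; exact h1
    rw [hP]; exact_mod_cast h2
  have hφ0 : φ ≠ 0 := by
    rw [hφ]; exact mul_ne_zero (ne_int' C.hδ) (by exact_mod_cast (hn0 i).ne')
  have hP0 : P ≠ 0 := by
    rw [hP]; exact mul_ne_zero (ne_int' C.hε₁) (by exact_mod_cast (hn0 p).ne')
  have hφC : (φ : ℂ) = δ * (i : G → ℂ) 1 := by rw [hφ, hn]; push_cast; rfl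
  have hdeg : 1 + φ + 2 * P = 0 := by
    have h1 := C.off 1 (off_one K)
    rw [hn, hn, hn, Complex.conj_natCast, Complex.conj_natCast, Complex.conj_natCast] at h1
    have h2 : ((1 + δ * n i + ε₁ * n p + ε₂ * n r : ℤ) : ℂ) = ((0 : ℤ) : ℂ) := by push_cast; linear_combination h1
    have h3 : (1 + δ * n i + ε₁ * n p + ε₂ * n r : ℤ) = 0 := by exact_mod_cast h2
    rw [← hφ, ← hP, ← hPr] at h3
    linarith
  have hφ1 : 1 + φ ≠ 0 := by omega
  have key : ∀ {e : ℤ} {m : ℕ}, (e = 1 ∨ e = -1) → 0 < m → (e : ℂ) / m = 1 / ((e * m : ℤ) : ℂ) := by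
    intro e m he hm
    have hm' : (m : ℂ) ≠ 0 := by exact_mod_cast hm.ne'
    rcases he with rfl | rfl
    · push_cast; rw [one_mul]
    · push_cast; field_simp
  have key2 : ∀ {e : ℤ} {m : ℕ}, (e = 1 ∨ e = -1) → 0 < m → (1 : ℂ) / m = e / ((e * m : ℤ) : ℂ) := by
    intro e m he hm
    have hm' : (m : ℂ) ≠ 0 := by exact_mod_cast hm.ne'
    rcases he with rfl | rfl
    · push_cast; rw [one_mul]
    · push_cast; field_simp
  -- the main equation
  have hmain : (φ - 1) ^ 2 * (g : ℤ) = 4 * (k : ℤ) ^ 3 * (φ * (φ + 1)) := by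
    have h1 := C.sum
    rw [hn, hn, hn, key C.hδ (hn0 i), key C.hε₁ (hn0 p), key C.hε₂ (hn0 r), ← hφ, ← hP, ← hPr, ← hk, ← hg] at h1
    have e1 : (φ : ℂ) ≠ 0 := by exact_mod_cast hφ0
    have e2 : (P : ℂ) ≠ 0 := by exact_mod_cast hP0
    have e3 : (φ : ℂ) = -1 - 2 * P := by
      have : ((1 + φ + 2 * P : ℤ) : ℂ) = 0 := by rw [hdeg]; norm_num
      push_cast at this
      linear_combination this
    have h2 : (((φ - 1) ^ 2 * (g : ℤ) : ℤ) : ℂ) = ((4 * (k : ℤ) ^ 3 * (φ * (φ + 1)) : ℤ) : ℂ) := by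
      push_cast
      have h3 : (1 + 1 / (φ : ℂ) + 1 / P + 1 / P) * (φ * P * g) = 4 * (k : ℂ) ^ 3 * (φ * P) := by
        rw [h1]; field_simp
      have h4 : (1 + 1 / (φ : ℂ) + 1 / P + 1 / P) * (φ * P * g) = (φ * P + P + 2 * φ) * g := by
        field_simp; ring
      rw [h4] at h3
      have h5 : (φ * P + P + 2 * φ : ℂ) * (-2) = (φ - 1) ^ 2 := by
        rw [e3]; ring
      have h6 : ((φ : ℂ) * P) * (-2) = φ * (φ + 1) := by rw [e3]; ring
      linear_combination (-2 : ℂ) * h3 - (g : ℂ) * h5 + (4 * (k : ℂ) ^ 3) * h6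
    exact_mod_cast h2
  -- the congruence
  obtain ⟨m, hm⟩ := congr_H h i C.hi
  obtain ⟨c, hc⟩ : ∃ c : ℤ, c = δ * m := ⟨_, rfl⟩
  have hδδ : δ * δ = 1 := by rcases C.hδ with h1 | h1 <;> rw [h1] <;> norm_num
  have hφc : φ = 1 + 2 * k * c := by
    rw [hn, ← hk] at hm
    have h2 : ((n i : ℤ) : ℂ) = ((δ + 2 * k * m : ℤ) : ℂ) := by push_cast; linear_combination hm
    have h3 : (n i : ℤ) = δ + 2 * k * m := by exact_mod_cast h2
    rw [hφ, h3, hc]
    linear_combination hδδ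
  have hgk : c ^ 2 * (g : ℤ) = k * (φ * (φ + 1)) := by
    have h1 : (4 * (k : ℤ) ^ 2) * (c ^ 2 * (g : ℤ)) = (4 * (k : ℤ) ^ 2) * (k * (φ * (φ + 1))) := by
      have : φ - 1 = 2 * k * c := by rw [hφc]; ring
      rw [this] at hmain
      linear_combination hmain
    have h2 : (4 * (k : ℤ) ^ 2) ≠ 0 := by positivity
    exact mul_left_cancel₀ h2 h1
  have hc0 : c ≠ 0 := by
    rintro rfl
    rw [mul_zero, add_zero] at hφc
    rw [hφc] at hgk
    norm_num at hgk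
    omega
  -- squares of degrees
  have hsplit := fun (M : Type) [AddCommGroup M] (f : IrrCharacter G → M) => split_sum f C.i1 C.p1 C.r1 C.ip C.ir C.pr
  obtain ⟨w, hw⟩ : ∃ w : IrrCharacter G → ℤ, ∀ χ, χ ∈ (Finset.univ \ ({one G, i, p, r} : Finset (IrrCharacter G))) →
      ((w χ : ℂ) = (χ : G → ℂ) t ^ 2 ∧ w χ * (1 + φ) ^ 2 ≤ 4 * (n χ : ℤ) ^ 2) := by
    refine ⟨fun χ => if (χ : G → ℂ) t = 0 then 0 else 4, fun χ hχ => ?_⟩
    beta_reduce
    obtain ⟨c1, c2, c3, c4⟩ := mem_cases.1 hχ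
    rcases C.other χ c1 c2 c3 c4 with h1 | ⟨h1, ε, hε, hoff⟩
    · rw [if_pos h1, h1]
      constructor
      · norm_num
      · rw [zero_mul]; positivity
    · have h2 : (χ : G → ℂ) t ≠ 0 := by
        intro h0; rw [h0] at h1; norm_num at h1
      rw [if_neg h2, h1]
      constructor
      · norm_num
      · have h3 := hoff 1 (off_one K)
        rw [hn, hn, Complex.conj_natCast, Complex.conj_natCast] at h3
        have h4 : ((1 + δ * n i + ε * n χ : ℤ) : ℂ) = ((0 : ℤ) : ℂ) := by push_cast; linear_combination h3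
        have h5 : (1 + δ * n i + ε * n χ : ℤ) = 0 := by exact_mod_cast h4
        rw [← hφ] at h5
        have h6 : (1 + φ) ^ 2 = (n χ : ℤ) ^ 2 := by
          have : 1 + φ = -(ε * n χ) := by linarith
          rw [this]
          rcases hε with h7 | h7 <;> rw [h7] <;> ring
        rw [h6]
  have hcol : ∑ χ : IrrCharacter G, (χ : G → ℂ) t ^ 2 = 2 * (k : ℂ) := by
    have h1 := column_orthogonality (G := G) t t
    rw [if_pos (IsConj.refl t), h.card_t] at h1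
    rw [hk]
    push_cast at h1
    rw [← h1]
    exact Finset.sum_congr rfl fun χ _ => by rw [real_t h, pow_two]
  have hoth : ∑ χ ∈ Finset.univ \ ({one G, i, p, r} : Finset (IrrCharacter G)), (χ : G → ℂ) t ^ 2 = 2 * (k : ℂ) - 4 := by
    rw [split_sum _ C.i1 C.p1 C.r1 C.ip C.ir C.pr, one_apply, C.hi t h.tK h.t1, C.hp, C.hr, sq_int C.hδ] at hcol
    linear_combination hcol
  have hwsum : ∑ χ ∈ Finset.univ \ ({one G, i, p, r} : Finset (IrrCharacter G)), w χ = 2 * (k : ℤ) - 4 := by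
    have : ((∑ χ ∈ Finset.univ \ ({one G, i, p, r} : Finset (IrrCharacter G)), w χ : ℤ) : ℂ) = ((2 * (k : ℤ) - 4 : ℤ) : ℂ) := by
      push_cast
      rw [← hoth]
      exact Finset.sum_congr rfl fun χ hχ => (hw χ hχ).1
    exact_mod_cast this
  have hsq : ∑ χ : IrrCharacter G, (n χ : ℤ) ^ 2 = (g : ℤ) := by
    have h1 := sum_sq_degree (G := G)
    have h2 : ((∑ χ : IrrCharacter G, (n χ : ℤ) ^ 2 : ℤ) : ℂ) = ((g : ℤ) : ℂ) := by
      push_cast
      rw [hg, ← h1]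
      exact Finset.sum_congr rfl fun χ _ => by rw [hn]
    exact_mod_cast h2
  have hine : 4 + 4 * φ ^ 2 + (2 * (k : ℤ) - 2) * (1 + φ) ^ 2 ≤ 4 * (g : ℤ) := by
    rw [split_sum _ C.i1 C.p1 C.r1 C.ip C.ir C.pr] at hsq
    have h1 : (2 * (k : ℤ) - 4) * (1 + φ) ^ 2 ≤ 4 * ∑ χ ∈ Finset.univ \ ({one G, i, p, r} : Finset (IrrCharacter G)), (n χ : ℤ) ^ 2 := by
      rw [← hwsum, Finset.sum_mul, Finset.mul_sum]
      exact Finset.sum_le_sum fun χ hχ => (hw χ hχ).2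
    have h5 : n (one G) = 1 := by have := hn (one G); rw [one_apply] at this; exact_mod_cast this.symm
    have h6 : (n i : ℤ) ^ 2 = φ ^ 2 := by rw [hφ]; rcases C.hδ with h7 | h7 <;> rw [h7] <;> ring
    have h7 : (n p : ℤ) ^ 2 = P ^ 2 := by rw [hP]; rcases C.hε₁ with h7 | h7 <;> rw [h7] <;> ring
    have h8 : (n r : ℤ) ^ 2 = P ^ 2 := by rw [hPr]; rcases C.hε₂ with h7 | h7 <;> rw [h7] <;> ring
    rw [h5, h6, h7, h8] at hsq
    have h9 : 4 * P ^ 2 = (1 + φ) ^ 2 := by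
      have : 1 + φ = -2 * P := by linarith
      rw [this]; ring
    push_cast at hsq
    nlinarith
  have hc2 : c ^ 2 < 4 := by
    by_contra hcon
    push Not at hcon
    have h1 : 4 + 4 * φ ^ 2 + (2 * (k : ℤ) - 2) * (1 + φ) ^ 2 ≤ k * (φ * (φ + 1)) := by
      have hR : 0 ≤ 4 + 4 * φ ^ 2 + (2 * (k : ℤ) - 2) * (1 + φ) ^ 2 := by
        have : (0 : ℤ) ≤ 2 * (k : ℤ) - 2 := by omega
        positivity
      have h2 : 4 * (4 + 4 * φ ^ 2 + (2 * (k : ℤ) - 2) * (1 + φ) ^ 2) ≤ c ^ 2 * (4 * (g : ℤ)) := by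
        calc 4 * (4 + 4 * φ ^ 2 + (2 * (k : ℤ) - 2) * (1 + φ) ^ 2) ≤ c ^ 2 * (4 + 4 * φ ^ 2 + (2 * (k : ℤ) - 2) * (1 + φ) ^ 2) :=
              mul_le_mul_of_nonneg_right hcon hR
          _ ≤ c ^ 2 * (4 * (g : ℤ)) := mul_le_mul_of_nonneg_left hine (sq_nonneg c)
      have h3 : c ^ 2 * (4 * (g : ℤ)) = 4 * (k * (φ * (φ + 1))) := by rw [← hgk]; ring
      rw [h3] at h2
      linarith
    have h4 : (0 : ℤ) ≤ (φ + 1) * (φ + 2) := by
      rcases le_or_gt (-1) φ with h5 | h5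
      · exact mul_nonneg (by omega) (by omega)
      · exact mul_nonneg_of_nonpos_of_nonpos (by omega) (by omega)
    have h5 : (0 : ℤ) ≤ ((k : ℤ) - 2) * ((φ + 1) * (φ + 2)) := mul_nonneg (by omega) h4
    have h6 : (4 + 4 * φ ^ 2 + (2 * (k : ℤ) - 2) * (1 + φ) ^ 2) - k * (φ * (φ + 1)) = (6 + 2 * φ + 4 * φ ^ 2) + ((k : ℤ) - 2) * ((φ + 1) * (φ + 2)) := by ring
    nlinarith [sq_nonneg (2 * φ + 1)]
  have hc1 : c = 1 ∨ c = -1 := by
    have h1 : c < 2 := by nlinarith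
    have h2 : -2 < c := by nlinarith
    omega
  have hcc : c ^ 2 = 1 := by rcases hc1 with h1 | h1 <;> rw [h1] <;> norm_num
  refine ⟨c, hc1, ?_, ?_, fun y hy => ?_⟩
  · rw [← hφC, hφc]; push_cast; ring
  · rw [hcc, one_mul] at hgk
    rw [hgk, hφc]; ring
  · -- the formula
    have h1 := mult h y
    rw [← hk, ← hg] at h1
    rw [← h1, split_sum _ C.i1 C.p1 C.r1 C.ip C.ir C.pr, one_apply, one_apply, one_apply, C.hi t h.tK h.t1, C.hp, C.hr, sq_int C.hδ, map_one]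
    have hφ1C : (1 : ℂ) + φ ≠ 0 := by exact_mod_cast hφ1
    rw [← hφC]
    have h2 : ∑ χ ∈ Finset.univ \ ({one G, i, p, r} : Finset (IrrCharacter G)), (χ : G → ℂ) t ^ 2 * conj ((χ : G → ℂ) y) / (χ : G → ℂ) 1 =
        (2 * (k : ℂ) - 4) * ((1 + δ * conj ((i : G → ℂ) y)) / (1 + φ)) := by
      rw [← hoth, Finset.sum_mul]
      refine Finset.sum_congr rfl fun χ hχ => ?_
      obtain ⟨c1, c2, c3, c4⟩ := mem_cases.1 hχ
      rcases C.other χ c1 c2 c3 c4 with h1 | ⟨h1, ε, hε, hoff⟩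
      · rw [h1]; ring
      · have h3 := hoff 1 (off_one K)
        have h4 := hoff y hy
        rw [hn, hn, Complex.conj_natCast, Complex.conj_natCast] at h3
        have h5 : (φ : ℂ) = δ * n i := by rw [hφ]; push_cast; rfl
        rw [← h5] at h3
        rw [mul_div_assoc, hn]
        congr 1
        have h6 : (n χ : ℂ) ≠ 0 := by exact_mod_cast (hn0 χ).ne'
        rw [div_eq_div_iff h6 hφ1C]
        have h7 := sq_int hε
        linear_combination (-(n χ : ℂ)) * h4 + (conj ((χ : G → ℂ) y)) * h3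
    rw [h2, hn i, hn p, hn r]
    have e2 : (P : ℂ) ≠ 0 := by exact_mod_cast hP0
    have e3 : (1 : ℂ) + φ = -2 * P := by
      have : ((1 + φ + 2 * P : ℤ) : ℂ) = 0 := by rw [hdeg]; norm_num
      push_cast at this
      linear_combination this
    have q1 : (1 : ℂ) * conj ((i : G → ℂ) y) / (n i : ℂ) = δ * conj ((i : G → ℂ) y) / φ := by
      have := key2 C.hδ (hn0 i)
      rw [← hφ] at this
      rw [one_mul, mul_comm (δ : ℂ), mul_div_assoc, ← this]; ring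
    have q2 : (1 : ℂ) * conj ((p : G → ℂ) y) / (n p : ℂ) = ε₁ * conj ((p : G → ℂ) y) / P := by
      have := key2 C.hε₁ (hn0 p)
      rw [← hP] at this
      rw [one_mul, mul_comm (ε₁ : ℂ), mul_div_assoc, ← this]; ring
    have q3 : (1 : ℂ) * conj ((r : G → ℂ) y) / (n r : ℂ) = ε₂ * conj ((r : G → ℂ) y) / P := by
      have := key2 C.hε₂ (hn0 r)
      rw [← hPr] at this
      rw [one_mul, mul_comm (ε₂ : ℂ), mul_div_assoc, ← this]; ring
    rw [q1, q2, q3]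
    have h8 := C.off y hy
    have h9 : ε₁ * conj ((p : G → ℂ) y) / P + ε₂ * conj ((r : G → ℂ) y) / P = 2 * ((1 + δ * conj ((i : G → ℂ) y)) / (1 + φ)) := by
      rw [e3, ← add_div]
      field_simp
      linear_combination h8
    have h10 : (1 : ℂ) ^ 2 * 1 / 1 = 1 := by norm_num
    rw [h10]
    linear_combination -h9

end
end CfsgLib.BW11
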