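import Mathlib
import Cfsg.Agent.EqBase
import Cfsg.Agent.LibBW11h

/-! Brauer-Suzuki-Wall: values of the Steinberg character (seat helper11). -/

set_option autoImplicit false
set_option linter.all false

namespace CfsgLib.BW11

open Subgroup Cfsg CfsgLib.CharBasic
open scoped ComplexConjugate

universe u

section
variable {G : Type u} [Group G]

theorem card_ne_one [Finite G] (Q : Subgroup G) : Nat.card {x : G // x ∈ Q ∧ x ≠ 1} = Nat.card Q - 1 := by
  classical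
  letI : Fintype G := Fintype.ofFinite G
  have h1 : Nat.card {x : G // x ∈ Q ∧ x ≠ 1} = Nat.card {x : Q // x ≠ 1} :=
    Nat.card_congr ⟨fun x => ⟨⟨x.1, x.2.1⟩, fun h => x.2.2 (congrArg Subtype.val h)⟩, fun x => ⟨x.1.1, x.1.2, fun h => x.2 (Subtype.ext h)⟩,
      fun x => rfl, fun x => rfl⟩
  rw [h1, Nat.card_eq_fintype_card, Fintype.card_subtype_compl, Fintype.card_subtype_eq, ← Nat.card_eq_fintype_card]

/-- counting the conjugates of a trivial intersection subgroup -/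
theorem ti_count [Finite G] (Q N : Subgroup G) (hN : ∀ g x, x ∈ Q → x ≠ 1 → g * x * g⁻¹ ∈ Q → g ∈ N)
    (hN2 : ∀ g ∈ N, ∀ x ∈ Q, g * x * g⁻¹ ∈ Q) :
    Nat.card {y : G // ∃ g x, x ∈ Q ∧ x ≠ 1 ∧ g * x * g⁻¹ = y} * Nat.card N = Nat.card G * (Nat.card Q - 1) := by
  classical
  obtain ⟨f, hf⟩ : ∃ f : G × {x : G // x ∈ Q ∧ x ≠ 1} → {y : G // ∃ g x, x ∈ Q ∧ x ≠ 1 ∧ g * x * g⁻¹ = y},
      ∀ p, (f p : G) = p.1 * p.2 * p.1⁻¹ := ⟨fun p => ⟨p.1 * p.2 * p.1⁻¹, p.1, p.2, p.2.2.1, p.2.2.2, rfl⟩, fun _ => rfl⟩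
  have h1 : Nat.card (G × {x : G // x ∈ Q ∧ x ≠ 1}) = Nat.card G * (Nat.card Q - 1) := by rw [Nat.card_prod, card_ne_one]
  letI : Fintype {y : G // ∃ g x, x ∈ Q ∧ x ≠ 1 ∧ g * x * g⁻¹ = y} := Fintype.ofFinite _
  rw [← h1, ← Nat.card_congr (Equiv.sigmaFiberEquiv f), Nat.card_sigma]
  have h2 : ∀ y : {y : G // ∃ g x, x ∈ Q ∧ x ≠ 1 ∧ g * x * g⁻¹ = y}, Nat.card {p // f p = y} = Nat.card N := by
    rintro ⟨y, g₀, x₀, hx₀, hx₁, hy⟩
    have hmem : ∀ p : {p // f p = ⟨y, g₀, x₀, hx₀, hx₁, hy⟩}, g₀⁻¹ * p.1.1 ∈ N := by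
      intro p
      have h3 : p.1.1 * p.1.2 * p.1.1⁻¹ = y := by rw [← hf, p.2]
      apply hN _ p.1.2 p.1.2.2.1 p.1.2.2.2
      have : g₀⁻¹ * p.1.1 * p.1.2 * (g₀⁻¹ * p.1.1)⁻¹ = x₀ := by
        calc g₀⁻¹ * p.1.1 * p.1.2 * (g₀⁻¹ * p.1.1)⁻¹ = g₀⁻¹ * (p.1.1 * p.1.2 * p.1.1⁻¹) * g₀ := by group
          _ = g₀⁻¹ * (g₀ * x₀ * g₀⁻¹) * g₀ := by rw [h3, hy]
          _ = x₀ := by group
      rw [this]; exact hx₀
    have hx2 : ∀ n : N, (n : G)⁻¹ * x₀ * n ∈ Q ∧ (n : G)⁻¹ * x₀ * n ≠ 1 := by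
      intro n
      constructor
      · have := hN2 (n : G)⁻¹ (N.inv_mem n.2) x₀ hx₀
        rwa [inv_inv] at this
      · intro h0
        apply hx₁
        have : x₀ = n * ((n : G)⁻¹ * x₀ * n) * (n : G)⁻¹ := by group
        rw [this, h0]; group
    refine Nat.card_congr ⟨fun p => ⟨g₀⁻¹ * p.1.1, hmem p⟩, fun n => ⟨(g₀ * n, ⟨(n : G)⁻¹ * x₀ * n, hx2 n⟩), Subtype.ext ?_⟩, fun p => ?_, fun n => ?_⟩
    · rw [hf]
      show g₀ * n * ((n : G)⁻¹ * x₀ * n) * (g₀ * n)⁻¹ = y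
      rw [← hy]; group
    · apply Subtype.ext
      have h3 : p.1.1 * p.1.2 * p.1.1⁻¹ = y := by rw [← hf, p.2]
      apply Prod.ext
      · show g₀ * (g₀⁻¹ * p.1.1) = p.1.1
        group
      · apply Subtype.ext
        show (g₀⁻¹ * p.1.1)⁻¹ * x₀ * (g₀⁻¹ * p.1.1) = p.1.2
        have e : g₀ * x₀ * g₀⁻¹ = p.1.1 * p.1.2 * p.1.1⁻¹ := hy.trans h3.symm
        have e1 : (g₀⁻¹ * p.1.1)⁻¹ * x₀ * (g₀⁻¹ * p.1.1) = p.1.1⁻¹ * (g₀ * x₀ * g₀⁻¹) * p.1.1 := by group
        have e2 : p.1.1⁻¹ * (p.1.1 * (p.1.2 : G) * p.1.1⁻¹) * p.1.1 = p.1.2 := by group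
        exact e1.trans ((congrArg (fun z => p.1.1⁻¹ * z * p.1.1) e).trans e2)
    · apply Subtype.ext
      show g₀⁻¹ * (g₀ * n) = n
      group
  rw [Finset.sum_congr rfl fun y _ => h2 y, Finset.sum_const, smul_eq_mul, Finset.card_univ, Nat.card_eq_fintype_card (α := {y : G // ∃ g x, x ∈ Q ∧ x ≠ 1 ∧ g * x * g⁻¹ = y})]

theorem int_of_rat {z : ℂ} (hz : IsIntegral ℤ z) {q : ℚ} (hq : z = q) : ∃ m : ℤ, z = m := by
  subst hq
  have h1 : IsIntegral ℤ (q : ℚ) := by
    have h2 : IsIntegral ℤ (algebraMap ℚ ℂ q) := by simpa using hz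
    exact (isIntegral_algebraMap_iff (algebraMap ℚ ℂ).injective).1 h2
  obtain ⟨m, hm⟩ := IsIntegrallyClosed.isIntegral_iff.1 h1
  refine ⟨m, ?_⟩
  rw [← hm]; simp

end

section
variable {G : Type u} [Group G] [Fintype G] {K : Subgroup G} [Fintype K] {t s : G}

theorem card_T (h : BW K t s) : Nat.card {y : G // ¬ Off K y} * (2 * Nat.card K) = Nat.card G * (Nat.card K - 1) := by
  have h1 := ti_count K (centralizer ({t} : Set G)) (fun g x hx hx1 hg => by
    rw [mem_centralizer_singleton_iff]; exact (h.cent g).2 (h.ti g x hx hx1 hg)) (fun g hg x hx => by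
    rw [mem_centralizer_singleton_iff] at hg
    rcases h.conj_cases hx ((h.cent g).1 hg) with h2 | h2
    · rw [h2]; exact hx
    · rw [h2]; exact K.inv_mem hx)
  rw [h.card_t] at h1
  rw [← h1]
  congr 1
  apply Nat.card_congr
  apply Equiv.subtypeEquivRight
  intro y
  unfold Off
  push Not
  constructor
  · rintro ⟨x, hx, hx1, hc⟩
    obtain ⟨g, hg⟩ := isConj_iff.1 hc
    exact ⟨g, x, hx, hx1, hg⟩
  · rintro ⟨g, x, hx, hx1, hg⟩
    exact ⟨x, hx, hx1, isConj_iff.2 ⟨g, hg⟩⟩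

/-- the values of the Steinberg character -/
theorem values (h : BW K t s) : ∃ c : ℤ, ∃ u : G → ℤ, (c = 1 ∨ c = -1) ∧
    (Nat.card G : ℤ) = Nat.card K * (1 + 2 * Nat.card K * c) * (2 + 2 * Nat.card K * c) ∧
    (∀ g y, u (g * y * g⁻¹) = u y) ∧ (∀ y, u y⁻¹ = u y) ∧
    (∀ y, Off K y → y ≠ 1 → u y = 0 ∨ u y = -1) ∧
    (∀ y, Off K y → (c = 1 → (FF t y : ℤ) = (2 * Nat.card K + 1) + Nat.card K * u y) ∧ (c = -1 → (FF t y : ℤ) = -((Nat.card K - 1) * u y))) ∧
    (Nat.card {y : G // Off K y ∧ y ≠ 1 ∧ u y = 0} : ℤ) = (1 + 2 * Nat.card K * c) ^ 2 - 1 ∧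
    (Nat.card {y : G // Off K y ∧ y ≠ 1 ∧ u y = -1} : ℤ) = (1 + 2 * Nat.card K * c) + Nat.card {y : G // ¬ Off K y} := by
  classical
  obtain ⟨i, p, r, δ, ε₁, ε₂, C⟩ := exists_cf h
  obtain ⟨c, hc, hdeg, hcard, hform⟩ := order h C
  have hT := card_T h
  obtain ⟨k, hk⟩ : ∃ k : ℕ, k = Nat.card K := ⟨_, rfl⟩
  have hk2 : 2 ≤ k := by
    have h1 := h.even_card
    have h2 : 0 < Nat.card K := Nat.card_pos
    rw [hk]; omega
  rw [← hk] at hdeg hcard hform hT ⊢
  obtain ⟨g, hg⟩ : ∃ g : ℕ, g = Nat.card G := ⟨_, rfl⟩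
  have hg0 : 0 < g := by rw [hg]; exact Nat.card_pos
  rw [← hg] at hcard hform hT ⊢
  obtain ⟨φ, hφ⟩ : ∃ φ : ℤ, φ = 1 + 2 * k * c := ⟨_, rfl⟩
  have hφC : (φ : ℂ) = δ * (i : G → ℂ) 1 := by rw [hdeg, hφ]; push_cast; ring
  rw [← hφC] at hform
  have hkC : (k : ℂ) ≠ 0 := by
    have : k ≠ 0 := by omega
    exact_mod_cast this
  have hkC1 : (k : ℂ) - 1 ≠ 0 := by
    have h1 : (k : ℤ) - 1 ≠ 0 := by omega
    have h2 : (((k : ℤ) - 1 : ℤ) : ℂ) ≠ 0 := by exact_mod_cast h1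
    push_cast at h2; exact h2
  have hgC : (g : ℂ) ≠ 0 := by exact_mod_cast hg0.ne'
  have hgC' : (g : ℂ) = k * φ * (1 + φ) := by
    have : ((g : ℤ) : ℂ) = ((k * (1 + 2 * k * c) * (2 + 2 * k * c) : ℤ) : ℂ) := by rw [hcard]
    push_cast at this
    rw [this, hφ]; push_cast; ring
  have hφ0 : (φ : ℂ) ≠ 0 := by
    intro h0; rw [h0] at hgC'; apply hgC; rw [hgC']; ring
  have hφ1 : (1 : ℂ) + φ ≠ 0 := by
    intro h0; rw [h0] at hgC'; apply hgC; rw [hgC']; ring
  have hδδ : (δ : ℂ) ^ 2 = 1 := sq_int C.hδ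
  have hδ0 := ne_int C.hδ
  -- equation for `a = δ conj (i y)`
  have hsol : ∀ y, Off K y → (c = 1 → (FF t y : ℂ) = (2 * k + 1) + k * (δ * conj ((i : G → ℂ) y))) ∧
      (c = -1 → (FF t y : ℂ) = -((k - 1) * (δ * conj ((i : G → ℂ) y)))) := by
    intro y hy
    have h1 := hform y hy
    obtain ⟨a, ha⟩ : ∃ a, a = (δ : ℂ) * conj ((i : G → ℂ) y) := ⟨_, rfl⟩
    obtain ⟨F, hF⟩ : ∃ F : ℂ, F = FF t y := ⟨_, rfl⟩
    rw [← ha, ← hF] at h1 ⊢
    rw [hgC'] at h1
    have h2 : (1 + a / φ + (2 * (k : ℂ) - 2) * ((1 + a) / (1 + φ))) * (φ * (1 + φ)) = 4 * k ^ 2 * F / (k * φ * (1 + φ)) * (φ * (1 + φ)) := by rw [h1]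
    have h3 : (1 + a / φ + (2 * (k : ℂ) - 2) * ((1 + a) / (1 + φ))) * (φ * (1 + φ)) = φ * (1 + φ) + a * (1 + φ) + (2 * k - 2) * (1 + a) * φ := by
      field_simp
    have h4 : 4 * (k : ℂ) ^ 2 * F / (k * φ * (1 + φ)) * (φ * (1 + φ)) = 4 * k * F := by
      field_simp
    rw [h3, h4] at h2
    constructor
    · intro hc1
      have h5 : (φ : ℂ) = 1 + 2 * k := by rw [hφ, hc1]; push_cast; ring
      rw [h5] at h2
      have h6 : (4 * (k : ℂ)) * F = (4 * k) * ((2 * k + 1) + k * a) := by linear_combination -h2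
      exact mul_left_cancel₀ (mul_ne_zero (by norm_num) hkC) h6
    · intro hc1
      have h5 : (φ : ℂ) = 1 - 2 * k := by rw [hφ, hc1]; push_cast; ring
      rw [h5] at h2
      have h6 : (4 * (k : ℂ)) * F = (4 * k) * (-((k - 1) * a)) := by linear_combination -h2
      exact mul_left_cancel₀ (mul_ne_zero (by norm_num) hkC) h6
  -- integrality
  have hint : ∀ y, ∃ z : ℤ, (δ : ℂ) * (i : G → ℂ) y = z := by
    intro y
    by_cases hy : Off K y
    · obtain ⟨s1, s2⟩ := hsol y hy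
      have hai : IsIntegral ℤ ((δ : ℂ) * (i : G → ℂ) y) := by
        apply IsIntegral.mul
        · exact isIntegral_algebraMap (R := ℤ) (A := ℂ) (x := δ)
        · exact char_isIntegral (irr_isCharacter i.2) y
      rcases hc with hc1 | hc1
      · have h1 := s1 hc1
        have h2 : (δ : ℂ) * conj ((i : G → ℂ) y) = ((((FF t y : ℤ) - (2 * k + 1) : ℤ) : ℚ) / k : ℚ) := by
          push_cast
          rw [eq_div_iff hkC]; push_cast at h1; linear_combination -h1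
        have h3 : (δ : ℂ) * (i : G → ℂ) y = ((((FF t y : ℤ) - (2 * k + 1) : ℤ) : ℚ) / k : ℚ) := by
          have := congrArg conj h2
          rw [map_mul, Complex.conj_conj, map_intCast, map_ratCast] at this
          exact this
        exact int_of_rat hai h3
      · have h1 := s2 hc1
        have h2 : (δ : ℂ) * conj ((i : G → ℂ) y) = ((-((FF t y : ℤ) : ℚ)) / ((k : ℤ) - 1 : ℤ) : ℚ) := by
          push_cast
          rw [eq_div_iff hkC1]; push_cast at h1; linear_combination h1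
        have h3 : (δ : ℂ) * (i : G → ℂ) y = ((-((FF t y : ℤ) : ℚ)) / ((k : ℤ) - 1 : ℤ) : ℚ) := by
          have := congrArg conj h2
          rw [map_mul, Complex.conj_conj, map_intCast, map_ratCast] at this
          exact this
        exact int_of_rat hai h3
    · unfold Off at hy
      push Not at hy
      obtain ⟨x, hx, hx1, hcj⟩ := hy
      obtain ⟨a, ha⟩ := isConj_iff.1 hcj
      refine ⟨1, ?_⟩
      rw [← ha, irr_classFun i.2 x a, C.hi x hx hx1, ← pow_two, hδδ]; norm_num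
  choose u hu using hint
  have huT : ∀ y, ¬ Off K y → u y = 1 := by
    intro y hy
    unfold Off at hy
    push Not at hy
    obtain ⟨x, hx, hx1, hcj⟩ := hy
    obtain ⟨a, ha⟩ := isConj_iff.1 hcj
    have h1 := hu y
    rw [← ha, irr_classFun i.2 x a, C.hi x hx hx1, ← pow_two, hδδ, ha] at h1
    exact_mod_cast h1.symm
  have hu1 : u 1 = φ := by
    have h1 := hu 1
    rw [← hφC] at h1
    exact_mod_cast h1.symm
  have hreal : ∀ y, (δ : ℂ) * conj ((i : G → ℂ) y) = u y := by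
    intro y
    have := congrArg conj (hu y)
    rw [map_mul, map_intCast, map_intCast] at this
    exact this
  have hconj : ∀ a y, u (a * y * a⁻¹) = u y := by
    intro a y
    have h1 := hu (a * y * a⁻¹)
    rw [irr_classFun i.2 y a, hu y] at h1
    exact_mod_cast h1.symm
  have hinv : ∀ y, u y⁻¹ = u y := by
    intro y
    have h1 := hu y⁻¹
    rw [char_inv_eq_conj (irr_isCharacter i.2), hreal y] at h1
    exact_mod_cast h1.symm
  -- sums
  have hS1 : ∑ y : G, u y = 0 := by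
    have h1 := irr_inner_ne i.2 (one G).2 (fun h0 => C.i1 (Subtype.ext h0))
    unfold classInner at h1
    have h2 : (Nat.card G : ℂ)⁻¹ ≠ 0 := inv_ne_zero (by rw [← hg]; exact hgC)
    have h3 := (mul_eq_zero.1 h1).resolve_left h2
    have h4 : ((∑ y : G, u y : ℤ) : ℂ) = 0 := by
      push_cast
      rw [← mul_zero (δ : ℂ), ← h3, Finset.mul_sum]
      exact Finset.sum_congr rfl fun y _ => by rw [one_apply, map_one, mul_one, hu]
    exact_mod_cast h4
  have hS2 : ∑ y : G, u y ^ 2 = (g : ℤ) := by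
    have h1 := irr_inner_self i.2
    unfold classInner at h1
    rw [inv_mul_eq_iff_eq_mul₀ (by rw [← hg]; exact hgC), mul_one, ← hg] at h1
    have h4 : ((∑ y : G, u y ^ 2 : ℤ) : ℂ) = ((g : ℤ) : ℂ) := by
      push_cast
      rw [← h1]
      refine Finset.sum_congr rfl fun y _ => ?_
      rw [pow_two]
      nth_rewrite 1 [← hu y]
      rw [← hreal y]
      linear_combination ((i : G → ℂ) y * conj ((i : G → ℂ) y)) * hδδ
    exact_mod_cast h4
  -- partition
  obtain ⟨T, hTd⟩ : ∃ T : Finset G, T = Finset.univ.filter (fun y => ¬ Off K y) := ⟨_, rfl⟩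
  obtain ⟨W, hWd⟩ : ∃ W : Finset G, W = Finset.univ.filter (fun y => Off K y ∧ y ≠ 1) := ⟨_, rfl⟩
  have hpart : ∀ f : G → ℤ, ∑ y : G, f y = f 1 + ∑ y ∈ T, f y + ∑ y ∈ W, f y := by
    intro f
    rw [← Finset.sum_filter_add_sum_filter_not Finset.univ (fun y => Off K y) f, ← hTd]
    have h1 : Finset.univ.filter (fun y : G => Off K y) = insert 1 W := by
      rw [hWd]
      ext y
      simp only [Finset.mem_filter, Finset.mem_univ, true_and, Finset.mem_insert]
      constructor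
      · intro hy
        by_cases hy1 : y = 1
        · exact Or.inl hy1
        · exact Or.inr ⟨hy, hy1⟩
      · rintro (hy | hy)
        · rw [hy]; exact off_one K
        · exact hy.1
    rw [h1, Finset.sum_insert (by rw [hWd]; simp)]
    ring
  have hTc : (T.card : ℤ) = Nat.card {y : G // ¬ Off K y} := by
    rw [hTd, Nat.card_eq_fintype_card, Fintype.card_subtype]
  have hsT : ∀ f : ℤ → ℤ, ∑ y ∈ T, f (u y) = T.card * f 1 := by
    intro f
    rw [Finset.sum_congr rfl (g := fun _ => f 1) (fun y hy => by rw [huT y (by rw [hTd] at hy; exact (Finset.mem_filter.1 hy).2)]),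
      Finset.sum_const, nsmul_eq_mul]
  have hTk : 2 * (T.card : ℤ) = (k - 1) * (φ * (1 + φ)) := by
    have h1 : (Nat.card {y : G // ¬ Off K y} : ℤ) * (2 * k) = g * (k - 1) := by
      have := congrArg (fun z : ℕ => (z : ℤ)) hT
      push_cast [Nat.cast_sub (show 1 ≤ k by omega)] at this
      exact this
    rw [← hTc] at h1
    have h2 : (k : ℤ) * (2 * T.card) = k * ((k - 1) * (φ * (1 + φ))) := by
      have h3 : (g : ℤ) = k * φ * (1 + φ) := by rw [hcard, hφ]; ring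
      rw [h3] at h1
      linear_combination h1
    have h3 : (k : ℤ) ≠ 0 := by omega
    exact mul_left_cancel₀ h3 h2
  have hg3 : (g : ℤ) = k * φ * (1 + φ) := by rw [hcard, hφ]; ring
  have hW : ∑ y ∈ W, (u y ^ 2 + u y) = 0 := by
    have h1 := hpart (fun y => u y ^ 2 + u y)
    rw [Finset.sum_add_distrib, hS1, hS2, hu1, hsT (fun z => z ^ 2 + z)] at h1
    have : (∑ y ∈ W, (u y ^ 2 + u y)) = g - (φ ^ 2 + φ) - 2 * T.card := by linarith
    rw [this, hTk, hg3]; ring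
  have hWv : ∀ y ∈ W, u y = 0 ∨ u y = -1 := by
    have h1 := (Finset.sum_eq_zero_iff_of_nonneg (fun y _ => by
      rcases le_or_gt 0 (u y) with h2 | h2
      · positivity
      · have : u y ≤ -1 := by omega
        nlinarith)).1 hW
    intro y hy
    have h2 := h1 y hy
    have h3 : u y * (u y + 1) = 0 := by linear_combination h2
    rcases mul_eq_zero.1 h3 with h4 | h4
    · left; exact h4
    · right; omega
  have hval : ∀ y, Off K y → y ≠ 1 → u y = 0 ∨ u y = -1 := fun y hy hy1 => hWv y (by rw [hWd]; exact Finset.mem_filter.2 ⟨Finset.mem_univ _, hy, hy1⟩)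
  have hZ1 : (Nat.card {y : G // Off K y ∧ y ≠ 1 ∧ u y = -1} : ℤ) = - ∑ y ∈ W, u y := by
    have h1 : ∑ y ∈ W, u y = - ((W.filter (fun y => u y = -1)).card : ℤ) := by
      rw [Finset.card_filter]
      push_cast
      rw [← Finset.sum_neg_distrib]
      refine Finset.sum_congr rfl fun y hy => ?_
      rcases hWv y hy with h2 | h2 <;> rw [h2] <;> simp
    rw [h1, neg_neg, hWd, Finset.filter_filter, Nat.card_eq_fintype_card, Fintype.card_subtype]
    congr 2
    ext y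
    simp only [Finset.mem_filter, Finset.mem_univ, true_and, and_assoc]
  have hZ0 : (Nat.card {y : G // Off K y ∧ y ≠ 1 ∧ u y = 0} : ℤ) = W.card + ∑ y ∈ W, u y := by
    have h1 : (W.card : ℤ) + ∑ y ∈ W, u y = ((W.filter (fun y => u y = 0)).card : ℤ) := by
      rw [Finset.card_filter, Finset.card_eq_sum_ones]
      push_cast
      rw [← Finset.sum_add_distrib]
      refine Finset.sum_congr rfl fun y hy => ?_
      rcases hWv y hy with h2 | h2 <;> rw [h2] <;> simp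
    rw [h1, hWd, Finset.filter_filter, Nat.card_eq_fintype_card, Fintype.card_subtype]
    congr 2
    ext y
    simp only [Finset.mem_filter, Finset.mem_univ, true_and, and_assoc]
  have hsum1 : 0 = φ + T.card + ∑ y ∈ W, u y := by
    have h1 := hpart u
    rw [hS1, hu1, hsT (fun z => z)] at h1
    linarith
  have hcount : (g : ℤ) = 1 + T.card + W.card := by
    have h1 := hpart (fun _ => 1)
    simp only [Finset.sum_const, Finset.card_univ, ← Nat.card_eq_fintype_card, ← hg] at h1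
    simpa using h1
  refine ⟨c, u, hc, hcard, hconj, hinv, hval, fun y hy => ⟨fun hc1 => ?_, fun hc1 => ?_⟩, ?_, ?_⟩
  · have h1 := (hsol y hy).1 hc1
    rw [hreal y] at h1
    exact_mod_cast h1
  · have h1 := (hsol y hy).2 hc1
    rw [hreal y] at h1
    have h2 : ((FF t y : ℤ) : ℂ) = ((-(((k : ℤ) - 1) * u y) : ℤ) : ℂ) := by push_cast; linear_combination h1
    exact_mod_cast h2
  · rw [hZ0, ← hφ]
    have h1 : (W.card : ℤ) = g - 1 - T.card := by linarith
    rw [h1, hg3]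
    linear_combination -hsum1 - hTk
  · rw [hZ1, ← hφ, ← hTc]; linarith

end
end CfsgLib.BW11
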