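import Mathlib
import Cfsg.Agent.EqBase
import Cfsg.Agent.LibBW11i

/-! Brauer-Suzuki-Wall: centralisers of the remaining elements (seat helper11). -/

set_option autoImplicit false
set_option linter.all false

namespace CfsgLib.BW11

open Subgroup Cfsg CfsgLib.CharBasic

universe u

section
variable {G : Type u} [Group G] [Finite G] {K : Subgroup G} {t s : G}

theorem off_conj {y : G} (hy : Off K y) (g : G) : Off K (g * y * g⁻¹) := by
  intro x hx hx1 hc
  apply hy x hx hx1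
  exact hc.trans (isConj_iff.2 ⟨g⁻¹, by group⟩)

theorem off_conj_iff {y : G} (g : G) : Off K (g * y * g⁻¹) ↔ Off K y := by
  constructor
  · intro h
    have := off_conj h g⁻¹
    have e : g⁻¹ * (g * y * g⁻¹) * g⁻¹⁻¹ = y := by group
    rwa [e] at this
  · intro h; exact off_conj h g

theorem off_inv {y : G} (hy : Off K y) : Off K y⁻¹ := by
  intro x hx hx1 hc
  apply hy x⁻¹ (K.inv_mem hx) (inv_ne_one.2 hx1)
  obtain ⟨g, hg⟩ := isConj_iff.1 hc
  refine isConj_iff.2 ⟨g, ?_⟩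
  rw [← inv_inv y, ← hg]; group

namespace BW
variable (h : BW K t s)
include h

theorem no_comm {w : G} (hw : Off K w) (hw1 : w ≠ 1) : ¬ (w ∈ K ∨ s * w ∈ K) := by
  rintro (h1 | h1)
  · exact hw w h1 hw1 (IsConj.refl w)
  · exact hw t h.tK h.t1 (h.cj w (h.invol h1) hw1)

theorem no_invol {y : G} (hy : Off K y) (hy1 : y ≠ 1) {x : G} (hx : x * x = 1) (hx1 : x ≠ 1) : x * y ≠ y * x := by
  intro hc
  obtain ⟨g, hg⟩ := isConj_iff.1 (h.cj x hx hx1)
  apply h.no_comm (off_conj hy g⁻¹) (fun h0 => hy1 (by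
    have : y = g * (g⁻¹ * y * g⁻¹⁻¹) * g⁻¹ := by group
    rw [this, h0]; group))
  rw [← h.cent]
  have e : x = g * t * g⁻¹ := hg.symm
  calc g⁻¹ * y * g⁻¹⁻¹ * t = g⁻¹ * (y * (g * t * g⁻¹)) * g := by group
    _ = g⁻¹ * ((g * t * g⁻¹) * y) * g := by rw [← e, hc]
    _ = t * (g⁻¹ * y * g⁻¹⁻¹) := by group

theorem cent_off {y : G} (hy : Off K y) (hy1 : y ≠ 1) {z : G} (hz : z * y = y * z) (hz1 : z ≠ 1) : Off K z := by
  intro x hx hx1 hc
  obtain ⟨g, hg⟩ := isConj_iff.1 hc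
  apply h.no_comm (off_conj hy g⁻¹) (fun h0 => hy1 (by
    have : y = g * (g⁻¹ * y * g⁻¹⁻¹) * g⁻¹ := by group
    rw [this, h0]; group))
  apply h.ti _ x hx hx1
  have e : g⁻¹ * y * g⁻¹⁻¹ * x * (g⁻¹ * y * g⁻¹⁻¹)⁻¹ = x := by
    calc g⁻¹ * y * g⁻¹⁻¹ * x * (g⁻¹ * y * g⁻¹⁻¹)⁻¹ = g⁻¹ * (y * (g * x * g⁻¹)) * y⁻¹ * g := by group
      _ = g⁻¹ * ((g * x * g⁻¹) * y) * y⁻¹ * g := by rw [hg, hz]
      _ = x := by group
  rw [e]; exact hx

theorem odd_cent {y : G} (hy : Off K y) (hy1 : y ≠ 1) : ¬ 2 ∣ Nat.card (centralizer ({y} : Set G)) := by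
  intro h2
  haveI : Fact (Nat.Prime 2) := ⟨Nat.prime_two⟩
  obtain ⟨x, hx⟩ := exists_prime_orderOf_dvd_card' 2 h2
  have hx2 : (x : G) * x = 1 := by
    have := pow_orderOf_eq_one x
    rw [hx, pow_two] at this
    exact congrArg Subtype.val this
  have hx1 : (x : G) ≠ 1 := by
    intro h0
    have : x = 1 := Subtype.ext h0
    rw [this, orderOf_one] at hx
    omega
  exact h.no_invol hy hy1 hx2 hx1 (mem_centralizer_singleton_iff.1 x.2)

/-- an involution inverting `y` inverts `C(y)` -/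
theorem inverts {y : G} (hy : Off K y) (hy1 : y ≠ 1) {a : G} (ha : a * a = 1) (ha1 : a ≠ 1) (hay : a * y * a⁻¹ = y⁻¹) {z : G}
    (hz : z * y = y * z) : a * z * a⁻¹ = z⁻¹ := by
  have hai : a⁻¹ = a := inv_eq_of_mul_eq_one_left ha
  have hmem : ∀ w : centralizer ({y} : Set G), (w : G)⁻¹ * (a * w * a⁻¹) ∈ centralizer ({y} : Set G) := by
    intro w
    have hw := mem_centralizer_singleton_iff.1 w.2
    apply mul_mem (inv_mem w.2)
    rw [mem_centralizer_singleton_iff]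
    have e1 : y = a * y⁻¹ * a⁻¹ := by
      have : y⁻¹ = a * y * a⁻¹ := hay.symm
      rw [this]
      have : a * (a * y * a⁻¹) * a⁻¹ = (a * a) * y * (a * a)⁻¹ := by group
      rw [this, ha]; group
    have e2 : (w : G) * y⁻¹ = y⁻¹ * w := by
      rw [eq_inv_mul_iff_mul_eq, ← mul_assoc, ← hw, mul_inv_cancel_right]
    calc a * w * a⁻¹ * y = a * w * a⁻¹ * (a * y⁻¹ * a⁻¹) := by rw [← e1]
      _ = a * (w * y⁻¹) * a⁻¹ := by group
      _ = a * (y⁻¹ * w) * a⁻¹ := by rw [e2]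
      _ = (a * y⁻¹ * a⁻¹) * (a * w * a⁻¹) := by group
      _ = y * (a * w * a⁻¹) := by rw [← e1]
  obtain ⟨f, hf⟩ : ∃ f : centralizer ({y} : Set G) → centralizer ({y} : Set G), ∀ w, (f w : G) = (w : G)⁻¹ * (a * w * a⁻¹) :=
    ⟨fun w => ⟨_, hmem w⟩, fun _ => rfl⟩
  have hinj : Function.Injective f := by
    intro w v hwv
    have h1 : (w : G)⁻¹ * (a * w * a⁻¹) = (v : G)⁻¹ * (a * v * a⁻¹) := by rw [← hf, ← hf, hwv]
    by_contra hne
    have hvw : (v : G) * (w : G)⁻¹ ≠ 1 := fun h0 => hne (Subtype.ext (mul_inv_eq_one.1 h0).symm)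
    have hcm : ((v : G) * (w : G)⁻¹) * y = y * ((v : G) * (w : G)⁻¹) :=
      mem_centralizer_singleton_iff.1 (mul_mem v.2 (inv_mem w.2))
    apply h.no_invol (h.cent_off hy hy1 hcm hvw) hvw ha ha1
    calc a * ((v : G) * (w : G)⁻¹) = v * ((v : G)⁻¹ * (a * v * a⁻¹)) * (a * (w : G)⁻¹ * a⁻¹) * a := by group
      _ = v * ((w : G)⁻¹ * (a * w * a⁻¹)) * (a * (w : G)⁻¹ * a⁻¹) * a := by rw [h1]
      _ = (v : G) * (w : G)⁻¹ * a := by group
  obtain ⟨w, hw⟩ := Finite.surjective_of_injective hinj ⟨z, mem_centralizer_singleton_iff.2 hz⟩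
  have hw' : (w : G)⁻¹ * (a * w * a⁻¹) = z := by rw [← hf, hw]
  rw [← hw']
  calc a * ((w : G)⁻¹ * (a * w * a⁻¹)) * a⁻¹ = (a * (w : G)⁻¹ * a⁻¹) * ((a * a) * w * (a * a)⁻¹) := by group
    _ = ((w : G)⁻¹ * (a * w * a⁻¹))⁻¹ := by rw [ha]; group

theorem comm_of_inverts {y : G} (hy : Off K y) (hy1 : y ≠ 1) {a : G} (ha : a * a = 1) (ha1 : a ≠ 1) (hay : a * y * a⁻¹ = y⁻¹) {z w : G}
    (hz : z * y = y * z) (hw : w * y = y * w) : z * w = w * z := by
  have hzw : (z * w) * y = y * (z * w) := by rw [mul_assoc, hw, ← mul_assoc, hz, mul_assoc]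
  have h1 := h.inverts hy hy1 ha ha1 hay hz
  have h2 := h.inverts hy hy1 ha ha1 hay hw
  have h3 := h.inverts hy hy1 ha ha1 hay hzw
  have h4 : a * (z * w) * a⁻¹ = (a * z * a⁻¹) * (a * w * a⁻¹) := by group
  rw [h4, h1, h2] at h3
  have h5 : (w * z)⁻¹ = (z * w)⁻¹ := by rw [mul_inv_rev, h3]
  exact (inv_injective h5).symm

theorem of_conj_t {b : G} (hb : IsConj t b) : b * b = 1 ∧ b ≠ 1 := by
  obtain ⟨g, hg⟩ := isConj_iff.1 hb
  constructor
  · rw [← hg]
    have : g * t * g⁻¹ * (g * t * g⁻¹) = g * (t * t) * g⁻¹ := by group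
    rw [this, h.t2]; group
  · intro h0
    rw [h0, mul_inv_eq_one, mul_eq_left] at hg
    exact h.t1 hg

theorem inv_of_two {b y : G} (h1 : b * b = 1) (h2 : (b * y) * (b * y) = 1) : b * y * b⁻¹ = y⁻¹ := by
  have e4 : b⁻¹ = b := inv_eq_of_mul_eq_one_left h1
  rw [e4, eq_inv_iff_mul_eq_one, ← h2]; group

theorem exists_of_FF {y : G} (hF : FF t y ≠ 0) : ∃ a, a * a = 1 ∧ a ≠ 1 ∧ a * y * a⁻¹ = y⁻¹ := by
  unfold FF at hF
  obtain ⟨⟨b, hb1, hb2⟩⟩ := (Nat.card_ne_zero.1 hF).1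
  obtain ⟨h1, h2⟩ := h.of_conj_t hb1
  obtain ⟨h3, h4⟩ := h.of_conj_t hb2
  exact ⟨b, h1, h2, h.inv_of_two h1 h3⟩

theorem FF_eq {y : G} (hy : Off K y) (hy1 : y ≠ 1) {a : G} (ha : a * a = 1) (ha1 : a ≠ 1) (hay : a * y * a⁻¹ = y⁻¹) :
    FF t y = Nat.card (centralizer ({y} : Set G)) := by
  have hai : a⁻¹ = a := inv_eq_of_mul_eq_one_left ha
  have hinvol : ∀ z, z * y = y * z → (a * z) * (a * z) = 1 ∧ a * z ≠ 1 := by
    intro z hz
    have h1 := h.inverts hy hy1 ha ha1 hay hz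
    constructor
    · rw [hai] at h1
      have : a * z * (a * z) = (a * z * a) * z := by group
      rw [this, h1, inv_mul_cancel]
    · intro h0
      have h2 : a = z⁻¹ := eq_inv_of_mul_eq_one_left h0
      apply h.no_invol hy hy1 ha ha1
      rw [h2, inv_mul_eq_iff_eq_mul, ← mul_assoc, hz, mul_inv_cancel_right]
  unfold FF
  refine Nat.card_congr ⟨fun b => ⟨a * b.1, ?_⟩, fun z => ⟨a * z.1, ?_⟩, fun b => ?_, fun z => ?_⟩
  · rw [mem_centralizer_singleton_iff]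
    obtain ⟨h1, h2⟩ := h.of_conj_t b.2.1
    obtain ⟨h3, h4⟩ := h.of_conj_t b.2.2
    have h5 := h.inv_of_two h1 h3
    have e1 : (b : G) * y = y⁻¹ * b := by rw [← h5]; group
    have e2 : a * y⁻¹ = y * a := by
      have h6 : a * y⁻¹ * a⁻¹ = (a * y * a⁻¹)⁻¹ := by group
      rw [hay, inv_inv, mul_inv_eq_iff_eq_mul] at h6
      exact h6
    rw [mul_assoc, e1, ← mul_assoc, e2, mul_assoc]
  · have hz := mem_centralizer_singleton_iff.1 z.2
    obtain ⟨h1, h2⟩ := hinvol z.1 hz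
    have hzy : (z.1 * y) * y = y * (z.1 * y) := by rw [hz, mul_assoc, hz]
    obtain ⟨h3, h4⟩ := hinvol (z.1 * y) hzy
    refine ⟨h.cj _ h1 h2, ?_⟩
    rw [mul_assoc]
    exact h.cj _ h3 h4
  · apply Subtype.ext
    show a * (a * b.1) = b.1
    rw [← mul_assoc, ha, one_mul]
  · apply Subtype.ext
    show a * (a * z.1) = z.1
    rw [← mul_assoc, ha, one_mul]

end BW
end
end CfsgLib.BW11

namespace CfsgLib.BW11

open Subgroup Cfsg CfsgLib.CharBasic

universe u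

section
variable {G : Type u} [Group G] [Finite G] {K : Subgroup G} {t s : G}

/-- an involution normalising a subgroup of remaining elements inverts it -/
theorem BW.inv_of_norm (h : BW K t s) {R : Subgroup G} (hR : ∀ x ∈ R, x ≠ 1 → Off K x) {d : G} (hd : d * d = 1) (hd1 : d ≠ 1)
    (hn : ∀ x ∈ R, d * x * d⁻¹ ∈ R) {z : G} (hz : z ∈ R) : d * z * d⁻¹ = z⁻¹ := by
  obtain ⟨f, hf⟩ : ∃ f : R → R, ∀ w, (f w : G) = (w : G)⁻¹ * (d * w * d⁻¹) :=
    ⟨fun w => ⟨_, R.mul_mem (R.inv_mem w.2) (hn w w.2)⟩, fun _ => rfl⟩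
  have hinj : Function.Injective f := by
    intro w v hwv
    have h1 : (w : G)⁻¹ * (d * w * d⁻¹) = (v : G)⁻¹ * (d * v * d⁻¹) := by rw [← hf, ← hf, hwv]
    by_contra hne
    have hvw : (v : G) * (w : G)⁻¹ ≠ 1 := fun h0 => hne (Subtype.ext (mul_inv_eq_one.1 h0).symm)
    apply h.no_invol (hR _ (R.mul_mem v.2 (R.inv_mem w.2)) hvw) hvw hd hd1
    calc d * ((v : G) * (w : G)⁻¹) = v * ((v : G)⁻¹ * (d * v * d⁻¹)) * (d * (w : G)⁻¹ * d⁻¹) * d := by group
      _ = v * ((w : G)⁻¹ * (d * w * d⁻¹)) * (d * (w : G)⁻¹ * d⁻¹) * d := by rw [h1]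
      _ = (v : G) * (w : G)⁻¹ * d := by group
  obtain ⟨w, hw⟩ := Finite.surjective_of_injective hinj ⟨z, hz⟩
  have hw' : (w : G)⁻¹ * (d * w * d⁻¹) = z := by rw [← hf, hw]
  rw [← hw']
  calc d * ((w : G)⁻¹ * (d * w * d⁻¹)) * d⁻¹ = (d * (w : G)⁻¹ * d⁻¹) * ((d * d) * w * (d * d)⁻¹) := by group
    _ = ((w : G)⁻¹ * (d * w * d⁻¹))⁻¹ := by rw [hd]; group

/-- the centraliser of a conjugate -/
theorem cent_conj (g x : G) {y : G} : y ∈ centralizer ({g * x * g⁻¹} : Set G) ↔ g⁻¹ * y * g ∈ centralizer ({x} : Set G) := by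
  rw [mem_centralizer_singleton_iff, mem_centralizer_singleton_iff]
  constructor
  · intro h
    calc g⁻¹ * y * g * x = g⁻¹ * (y * (g * x * g⁻¹)) * g := by group
      _ = g⁻¹ * ((g * x * g⁻¹) * y) * g := by rw [h]
      _ = x * (g⁻¹ * y * g) := by group
  · intro h
    calc y * (g * x * g⁻¹) = g * ((g⁻¹ * y * g) * x) * g⁻¹ := by group
      _ = g * (x * (g⁻¹ * y * g)) * g⁻¹ := by rw [h]
      _ = g * x * g⁻¹ * y := by group

theorem mem_norm_of_cent {Q : Subgroup G} {g x : G} (h1 : centralizer ({x} : Set G) = Q) (h2 : centralizer ({g * x * g⁻¹} : Set G) = Q) :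
    g ∈ normalizer (Q : Set G) := by
  rw [mem_normalizer_iff]
  intro y
  have h3 := cent_conj g x (y := g * y * g⁻¹)
  rw [h2, h1] at h3
  have e : g⁻¹ * (g * y * g⁻¹) * g = y := by group
  rw [e] at h3
  exact h3.symm

/-- normalisers of subgroups of `K` -/
theorem BW.norm_eq (h : BW K t s) {X : Subgroup G} (hX : X ≤ K) (hX1 : X ≠ ⊥) : normalizer (X : Set G) = centralizer ({t} : Set G) := by
  obtain ⟨x, hx, hx1⟩ : ∃ x ∈ X, x ≠ 1 := by
    by_contra hcon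
    push Not at hcon
    exact hX1 ((Subgroup.eq_bot_iff_forall X).2 hcon)
  ext g
  rw [mem_centralizer_singleton_iff, h.cent]
  constructor
  · intro hg
    exact h.ti g x (hX hx) hx1 (hX ((mem_normalizer_iff.1 hg x).1 hx))
  · intro hg
    rw [mem_normalizer_iff]
    intro y
    constructor
    · intro hy
      rcases h.conj_cases (hX hy) hg with h1 | h1
      · rw [h1]; exact hy
      · rw [h1]; exact X.inv_mem hy
    · intro hy
      have hg' : g⁻¹ ∈ K ∨ s * g⁻¹ ∈ K := by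
        rw [← h.cent]
        have := (h.cent g).2 hg
        rw [inv_mul_eq_iff_eq_mul, ← mul_assoc, this, mul_inv_cancel_right]
      have e : g⁻¹ * (g * y * g⁻¹) * g⁻¹⁻¹ = y := by group
      rcases h.conj_cases (hX hy) hg' with h1 | h1
      · rw [e] at h1; rw [h1]; exact hy
      · rw [e] at h1; rw [h1]; exact X.inv_mem hy

theorem BW.cent_eq (h : BW K t s) : centralizer ({t} : Set G) = K ⊔ zpowers s := by
  apply le_antisymm
  · intro g hg
    rw [mem_centralizer_singleton_iff, h.cent] at hg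
    rcases hg with h1 | h1
    · exact Subgroup.mem_sup_left h1
    · have : g = s * (s * g) := by rw [← mul_assoc, h.s2, one_mul]
      rw [this]
      exact mul_mem (Subgroup.mem_sup_right (mem_zpowers s)) (Subgroup.mem_sup_left h1)
  · rw [sup_le_iff]
    constructor
    · intro x hx
      rw [mem_centralizer_singleton_iff, h.cent]
      exact Or.inl hx
    · rw [zpowers_le, mem_centralizer_singleton_iff, h.cent]
      right; rw [h.s2]; exact K.one_mem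

/-- the conclusion of the Brauer-Suzuki-Wall theorem -/
def Conc (G : Type u) [Group G] (Q D : Subgroup G) : Prop :=
  2 * Nat.card G = Nat.card Q * (Nat.card Q + 1) * (Nat.card Q - 1) ∧
      (∀ x ∈ Q, x ≠ 1 → Subgroup.centralizer ({x} : Set G) = Q) ∧
      (∀ x ∈ D, ∀ y ∈ D, x * y = y * x) ∧ 2 * Nat.card D + 1 = Nat.card Q ∧ Q ⊓ D = ⊥ ∧
      Subgroup.normalizer (Q : Set G) = Q ⊔ D ∧
      ∀ X : Subgroup G, X ≤ D → X ≠ ⊥ →
        Subgroup.normalizer (X : Set G) = Subgroup.normalizer (D : Set G) ∧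
        ∃ u : G, orderOf u = 2 ∧ u ∉ D ∧ (∀ d ∈ D, u * d * u⁻¹ = d⁻¹) ∧
          Subgroup.normalizer (D : Set G) = D ⊔ Subgroup.zpowers u

end

section
variable {G : Type u} [Group G] [Fintype G] {K : Subgroup G} [Fintype K] {t s : G}

/-- the case `q = 2k + 1` -/
theorem case_one (h : BW K t s) {c : ℤ} {u : G → ℤ} (hc : c = 1)
    (hcard : (Nat.card G : ℤ) = Nat.card K * (1 + 2 * Nat.card K * c) * (2 + 2 * Nat.card K * c))
    (hconj : ∀ g y, u (g * y * g⁻¹) = u y) (hval : ∀ y, Off K y → y ≠ 1 → u y = 0 ∨ u y = -1)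
    (hF : ∀ y, Off K y → (FF t y : ℤ) = (2 * Nat.card K + 1) + Nat.card K * u y)
    (hZ0 : (Nat.card {y : G // Off K y ∧ y ≠ 1 ∧ u y = 0} : ℤ) = (1 + 2 * Nat.card K * c) ^ 2 - 1) :
    ∃ Q D : Subgroup G, Conc G Q D := by
  classical
  subst hc
  obtain ⟨k, hk⟩ : ∃ k : ℕ, k = Nat.card K := ⟨_, rfl⟩
  have hk2 : 2 ≤ k := by
    have h1 := h.even_card
    have h2 : 0 < Nat.card K := Nat.card_pos
    rw [hk]; omega
  rw [← hk] at hcard hF hZ0
  have hcardN : Nat.card G = k * (2 * k + 1) * (2 * k + 2) := by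
    have : (Nat.card G : ℤ) = ((k * (2 * k + 1) * (2 * k + 2) : ℕ) : ℤ) := by rw [hcard]; push_cast; ring
    exact_mod_cast this
  have hZ0N : Nat.card {y : G // Off K y ∧ y ≠ 1 ∧ u y = 0} = 4 * k * (k + 1) := by
    have : (Nat.card {y : G // Off K y ∧ y ≠ 1 ∧ u y = 0} : ℤ) = ((4 * k * (k + 1) : ℕ) : ℤ) := by rw [hZ0]; push_cast; ring
    exact_mod_cast this
  -- an element inverted by `t`
  obtain ⟨y, hy, hy1, huy, hty⟩ : ∃ y, Off K y ∧ y ≠ 1 ∧ u y = 0 ∧ t * y * t⁻¹ = y⁻¹ := by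
    have hne : Nat.card {y : G // Off K y ∧ y ≠ 1 ∧ u y = 0} ≠ 0 := by rw [hZ0N]; positivity
    obtain ⟨⟨y, hy, hy1, huy⟩⟩ := (Nat.card_ne_zero.1 hne).1
    have h1 := hF y hy
    rw [huy, mul_zero, add_zero] at h1
    obtain ⟨a, ha, ha1, hay⟩ := h.exists_of_FF (y := y) (by
      intro h0; rw [h0] at h1; push_cast at h1; omega)
    obtain ⟨g, hg⟩ := isConj_iff.1 (h.cj a ha ha1)
    refine ⟨g⁻¹ * y * g⁻¹⁻¹, off_conj hy _, ?_, by rw [hconj, huy], ?_⟩
    · intro h0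
      apply hy1
      have : y = g * (g⁻¹ * y * g⁻¹⁻¹) * g⁻¹ := by group
      rw [this, h0]; group
    · calc t * (g⁻¹ * y * g⁻¹⁻¹) * t⁻¹ = g⁻¹ * ((g * t * g⁻¹) * y * (g * t * g⁻¹)⁻¹) * g := by group
        _ = g⁻¹ * y⁻¹ * g := by rw [hg, hay]
        _ = (g⁻¹ * y * g⁻¹⁻¹)⁻¹ := by group
  obtain ⟨Q, hQ⟩ : ∃ Q, Q = centralizer ({y} : Set G) := ⟨_, rfl⟩
  have hmemQ : ∀ z, z ∈ Q ↔ z * y = y * z := fun z => by rw [hQ, mem_centralizer_singleton_iff]
  have hQc : Nat.card Q = 2 * k + 1 := by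
    have h1 := h.FF_eq hy hy1 h.t2 h.t1 hty
    have h2 := hF y hy
    rw [huy, h1, ← hQ] at h2
    push_cast at h2; omega
  have hQoff : ∀ z ∈ Q, z ≠ 1 → Off K z := fun z hz hz1 => h.cent_off hy hy1 ((hmemQ z).1 hz) hz1
  have hQinv : ∀ z ∈ Q, t * z * t⁻¹ = z⁻¹ := fun z hz => h.inverts hy hy1 h.t2 h.t1 hty ((hmemQ z).1 hz)
  have hQab : ∀ z ∈ Q, ∀ w ∈ Q, z * w = w * z := fun z hz w hw => h.comm_of_inverts hy hy1 h.t2 h.t1 hty ((hmemQ z).1 hz) ((hmemQ w).1 hw)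
  have hQcent : ∀ z ∈ Q, z ≠ 1 → centralizer ({z} : Set G) = Q ∧ u z = 0 := by
    intro z hz hz1
    have h1 := h.FF_eq (hQoff z hz hz1) hz1 h.t2 h.t1 (hQinv z hz)
    have h2 := hF z (hQoff z hz hz1)
    have hle : Q ≤ centralizer ({z} : Set G) := fun w hw => by
      rw [mem_centralizer_singleton_iff]; exact hQab w hw z hz
    have h3 := Subgroup.card_le_of_le hle
    rw [hQc] at h3
    rw [h1] at h2
    rcases hval z (hQoff z hz hz1) hz1 with h4 | h4
    · rw [h4] at h2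
      refine ⟨?_, h4⟩
      symm
      apply Subgroup.eq_of_le_of_card_ge hle
      rw [hQc]; push_cast at h2; omega
    · exfalso
      rw [h4] at h2; push_cast at h2; omega
  have hTI : ∀ g x, x ∈ Q → x ≠ 1 → g * x * g⁻¹ ∈ Q → g ∈ normalizer (Q : Set G) := by
    intro g x hx hx1 hg
    apply mem_norm_of_cent (hQcent x hx hx1).1 (hQcent _ hg _).1
    intro h0; exact hx1 (by rwa [mul_inv_eq_one, mul_eq_left] at h0)
  have hcount := ti_count Q (normalizer (Q : Set G)) hTI (fun g hg x hx => (mem_normalizer_iff.1 hg x).1 hx)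
  have hle : Nat.card {y : G // ∃ g x, x ∈ Q ∧ x ≠ 1 ∧ g * x * g⁻¹ = y} ≤ 4 * k * (k + 1) := by
    rw [← hZ0N]
    apply Nat.card_le_card_of_injective (fun z : {y : G // ∃ g x, x ∈ Q ∧ x ≠ 1 ∧ g * x * g⁻¹ = y} =>
      (⟨z.1, by
        obtain ⟨g, x, hx, hx1, hz⟩ := z.2
        rw [← hz]
        refine ⟨off_conj (hQoff x hx hx1) g, ?_, by rw [hconj]; exact (hQcent x hx hx1).2⟩
        intro h0; exact hx1 (by rwa [mul_inv_eq_one, mul_eq_left] at h0)⟩ : {y : G // Off K y ∧ y ≠ 1 ∧ u y = 0}))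
    intro a b hab
    have hab' : (a : G) = b := by simpa using hab
    exact Subtype.ext hab'
  have hNge : (2 * k + 1) * k ≤ Nat.card (normalizer (Q : Set G)) := by
    rw [hQc, hcardN] at hcount
    have h1 : k * (2 * k + 1) * (2 * k + 2) * (2 * k + 1 - 1) ≤ 4 * k * (k + 1) * Nat.card (normalizer (Q : Set G)) := by
      rw [← hcount]; exact Nat.mul_le_mul_right _ hle
    have h2 : k * (2 * k + 1) * (2 * k + 2) * (2 * k + 1 - 1) = 4 * k * (k + 1) * ((2 * k + 1) * k) := by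
      rw [Nat.add_sub_cancel]; ring
    rw [h2] at h1
    exact Nat.le_of_mul_le_mul_left h1 (by positivity)
  -- decomposition of the normaliser
  have hdec : ∀ n ∈ normalizer (Q : Set G), ∃ v ∈ Q, v⁻¹ * n ∈ K := by
    intro n hn
    have hn' : ∀ z ∈ Q, n⁻¹ * z * n ∈ Q := by
      intro z hz
      have := (mem_normalizer_iff.1 (inv_mem hn) z).1 hz
      rwa [inv_inv] at this
    have hinvn : ∀ z ∈ Q, (n * t * n⁻¹) * z * (n * t * n⁻¹)⁻¹ = z⁻¹ := by
      intro z hz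
      calc (n * t * n⁻¹) * z * (n * t * n⁻¹)⁻¹ = n * (t * (n⁻¹ * z * n) * t⁻¹) * n⁻¹ := by group
        _ = n * (n⁻¹ * z * n)⁻¹ * n⁻¹ := by rw [hQinv _ (hn' z hz)]
        _ = z⁻¹ := by group
    have hyQ : y ∈ Q := (hmemQ y).2 rfl
    obtain ⟨z, hz⟩ : ∃ z, z = t * (n * t * n⁻¹) := ⟨_, rfl⟩
    have hzQ : z ∈ Q := by
      rw [hmemQ]
      have h1 : z * y * z⁻¹ = y := by
        rw [hz]
        calc t * (n * t * n⁻¹) * y * (t * (n * t * n⁻¹))⁻¹ = t * ((n * t * n⁻¹) * y * (n * t * n⁻¹)⁻¹) * t⁻¹ := by group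
          _ = t * y⁻¹ * t⁻¹ := by rw [hinvn y hyQ]
          _ = (t * y * t⁻¹)⁻¹ := by group
          _ = y := by rw [hty, inv_inv]
      rw [mul_inv_eq_iff_eq_mul] at h1; exact h1
    have hzpow : z ^ (2 * k + 1) = 1 := by
      have := pow_card_eq_one' (x := (⟨z, hzQ⟩ : Q))
      rw [hQc] at this
      exact congrArg Subtype.val this
    have hvQ : z ^ k ∈ Q := Q.pow_mem hzQ k
    have hti : t⁻¹ = t := inv_eq_of_mul_eq_one_left h.t2
    have hvt : z ^ k * t * (z ^ k)⁻¹ = n * t * n⁻¹ := by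
      have h1 := hQinv _ hvQ
      have h2 : z ^ k * t = t * (z ^ k)⁻¹ := by
        rw [← h1, ← mul_assoc, ← mul_assoc, h.t2, one_mul, hti]
      have h3 : (z ^ k)⁻¹ * (z ^ k)⁻¹ = z := by
        rw [← mul_inv_rev, ← pow_add, inv_eq_iff_mul_eq_one, ← pow_succ, ← hzpow]
        congr 1; omega
      rw [h2, mul_assoc, h3, hz, ← mul_assoc, h.t2, one_mul]
    refine ⟨z ^ k, hvQ, ?_⟩
    obtain ⟨d, hd⟩ : ∃ d, d = (z ^ k)⁻¹ * n := ⟨_, rfl⟩
    rw [← hd]
    have hdt : d * t = t * d := by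
      rw [hd]
      calc (z ^ k)⁻¹ * n * t = (z ^ k)⁻¹ * (n * t * n⁻¹) * n := by group
        _ = (z ^ k)⁻¹ * (z ^ k * t * (z ^ k)⁻¹) * n := by rw [hvt]
        _ = t * ((z ^ k)⁻¹ * n) := by group
    rcases (h.cent d).1 hdt with h1 | h1
    · exact h1
    · exfalso
      have hdN : ∀ x ∈ Q, d * x * d⁻¹ ∈ Q := by
        intro x hx
        rw [hd]
        have h2 : n * x * n⁻¹ ∈ Q := (mem_normalizer_iff.1 hn x).1 hx
        have : (z ^ k)⁻¹ * n * x * ((z ^ k)⁻¹ * n)⁻¹ = (z ^ k)⁻¹ * (n * x * n⁻¹) * z ^ k := by group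
        rw [this]
        exact Q.mul_mem (Q.mul_mem (Q.inv_mem hvQ) h2) hvQ
      have hdy := h.inv_of_norm hQoff (h.invol h1) (h.ne_one h1) hdN hyQ
      have hdtQ : (d * t) * y = y * (d * t) := by
        have h2 : (d * t) * y * (d * t)⁻¹ = y := by
          calc (d * t) * y * (d * t)⁻¹ = d * (t * y * t⁻¹) * d⁻¹ := by group
            _ = (d * y * d⁻¹)⁻¹ := by rw [hty]; group
            _ = y := by rw [hdy, inv_inv]
        rw [mul_inv_eq_iff_eq_mul] at h2; exact h2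
      have hdt2 : (d * t) * (d * t) = 1 := by
        calc (d * t) * (d * t) = d * (t * d) * t := by group
          _ = d * (d * t) * t := by rw [← hdt]
          _ = (d * d) * (t * t) := by group
          _ = 1 := by rw [h.invol h1, h.t2, one_mul]
      have hdt1 : d * t ≠ 1 := by
        intro h0
        have h3 : d = t := by rw [← hti]; exact eq_inv_of_mul_eq_one_left h0
        apply h.sK
        rw [h3] at h1
        have := K.mul_mem h1 h.tK
        rwa [mul_assoc, h.t2, mul_one] at this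
      exact h.no_invol hy hy1 hdt2 hdt1 hdtQ
  have hKN : K ≤ normalizer (Q : Set G) := by
    have h1 : Nat.card (normalizer (Q : Set G)) ≤ Nat.card Q * Nat.card (K ⊓ normalizer (Q : Set G) : Subgroup G) := by
      rw [← Nat.card_prod]
      apply Nat.card_le_card_of_surjective (fun p : Q × (K ⊓ normalizer (Q : Set G) : Subgroup G) =>
        (⟨p.1 * p.2, mul_mem (le_normalizer p.1.2) p.2.2.2⟩ : normalizer (Q : Set G)))
      rintro ⟨n, hn⟩
      obtain ⟨v, hv, hvn⟩ := hdec n hn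
      refine ⟨(⟨v, hv⟩, ⟨v⁻¹ * n, hvn, (normalizer (Q : Set G)).mul_mem ((normalizer (Q : Set G)).inv_mem (le_normalizer hv)) hn⟩), ?_⟩
      apply Subtype.ext
      show v * (v⁻¹ * n) = n
      group
    rw [hQc] at h1
    have h2 : k ≤ Nat.card (K ⊓ normalizer (Q : Set G) : Subgroup G) :=
      Nat.le_of_mul_le_mul_left (hNge.trans h1) (by omega)
    have h3 : K ⊓ normalizer (Q : Set G) = K := Subgroup.eq_of_le_of_card_ge inf_le_left (by rw [← hk]; exact h2)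
    exact inf_eq_left.1 h3
  have hs1 : s ≠ 1 := by rintro rfl; exact h.sK K.one_mem
  refine ⟨Q, K, ?_, fun x hx hx1 => (hQcent x hx hx1).1, h.comm, by rw [hQc, hk], ?_, ?_, ?_⟩
  · rw [hcardN, hQc, Nat.add_sub_cancel]; ring
  · rw [eq_bot_iff]
    intro x hx
    rw [Subgroup.mem_bot]
    by_contra hx1
    exact hQoff x hx.1 hx1 x hx.2 hx1 (IsConj.refl x)
  · apply le_antisymm
    · intro n hn
      obtain ⟨v, hv, hvn⟩ := hdec n hn
      have : n = v * (v⁻¹ * n) := by group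
      rw [this]
      exact mul_mem (Subgroup.mem_sup_left hv) (Subgroup.mem_sup_right hvn)
    · exact sup_le le_normalizer hKN
  · intro X hX hX1
    have hK1 : K ≠ ⊥ := by
      intro h0
      apply h.t1
      have := h.tK
      rw [h0] at this
      exact this
    refine ⟨by rw [h.norm_eq hX hX1, h.norm_eq le_rfl hK1], s, orderOf_eq_prime (by rw [pow_two]; exact h.s2) hs1, h.sK, h.inv, ?_⟩
    rw [h.norm_eq le_rfl hK1, h.cent_eq]

end
end CfsgLib.BW11
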