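import Mathlib
import Cfsg.Agent.EqBase
import Cfsg.Agent.LibBW11j

/-! Brauer-Suzuki-Wall: the case `q = 2k - 1`, elements (seat helper11). -/

set_option autoImplicit false
set_option linter.all false

namespace CfsgLib.BW11

open Subgroup Cfsg CfsgLib.CharBasic

universe u

section
variable {G : Type u} [Group G] [Finite G]

theorem conj_ne_one {g x : G} (hx : x ≠ 1) : g * x * g⁻¹ ≠ 1 := by
  intro h0; exact hx (by rwa [mul_inv_eq_one, mul_eq_left] at h0)

/-- an element of prime order `r` is conjugate into a subgroup of index prime to `r` -/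
theorem conj_into {r : ℕ} (hr : r.Prime) (M : Subgroup G) (hM : ¬ r ∣ M.index) {z : G} (hz : orderOf z = r) : ∃ g : G, g * z * g⁻¹ ∈ M := by
  haveI : Fact r.Prime := ⟨hr⟩
  have hp : IsPGroup r (zpowers z) := by
    rw [IsPGroup.iff_card]
    exact ⟨1, by rw [Nat.card_zpowers, hz, pow_one]⟩
  obtain ⟨x, hx⟩ := hp.nonempty_fixed_point_of_prime_not_dvd_card (G ⧸ M) (by rwa [← Subgroup.index_eq_card])
  obtain ⟨g, rfl⟩ := QuotientGroup.mk_surjective x
  have h1 : (⟨z, mem_zpowers z⟩ : zpowers z) • (QuotientGroup.mk g : G ⧸ M) = QuotientGroup.mk g := hx ⟨z, mem_zpowers z⟩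
  have h2 : (QuotientGroup.mk (z * g) : G ⧸ M) = QuotientGroup.mk g := h1
  rw [QuotientGroup.eq] at h2
  refine ⟨g⁻¹, ?_⟩
  have h3 := M.inv_mem h2
  have e : ((z * g)⁻¹ * g)⁻¹ = g⁻¹ * z * g⁻¹⁻¹ := by group
  rwa [e] at h3

theorem card_conj_class (y : G) : Nat.card {z : G // IsConj y z} * Nat.card (centralizer ({y} : Set G)) = Nat.card G := by
  have h1 := CfsgLib.Di11.card_fib y (fun _ => True)
  have h2 : Nat.card {x : G // (fun _ => True) (x * y * x⁻¹)} = Nat.card G := Nat.card_congr ⟨fun x => x.1, fun x => ⟨x, trivial⟩, fun _ => rfl, fun _ => rfl⟩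
  have h3 : Nat.card {s : G // IsConj y s ∧ (fun _ => True) s} = Nat.card {z : G // IsConj y z} :=
    Nat.card_congr (Equiv.subtypeEquivRight fun x => by simp)
  rw [h2, h3] at h1
  rw [h1, mul_comm]

end

/-- the data in the case `q = 2k - 1`, `k = m + 1` -/
structure Neg {G : Type u} [Group G] (K : Subgroup G) (t s : G) (m : ℕ) (u : G → ℤ) : Prop where
  h : BW K t s
  kK : Nat.card K = m + 1
  m1 : 1 ≤ m
  cardG : Nat.card G = 2 * (m + 1) * m * (2 * m + 1)
  odd : ¬ 2 ∣ m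
  uconj : ∀ g y, u (g * y * g⁻¹) = u y
  uinv : ∀ y, u y⁻¹ = u y
  uval : ∀ y, Off K y → y ≠ 1 → u y = 0 ∨ u y = -1
  F0 : ∀ y, Off K y → u y = 0 → FF t y = 0
  F1 : ∀ y, Off K y → u y = -1 → FF t y = m
  Z0 : Nat.card {y : G // Off K y ∧ y ≠ 1 ∧ u y = 0} = 4 * (m + 1) * m
  Z1 : Nat.card {y : G // Off K y ∧ y ≠ 1 ∧ u y = -1} = (2 * m + 1) * (m + 1) * (m - 1)

namespace Neg
variable {G : Type u} [Group G] [Finite G] {K : Subgroup G} {t s : G} {m : ℕ} {u : G → ℤ} (N : Neg K t s m u)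
include N

theorem a1 {y : G} (hy : Off K y) (hy1 : y ≠ 1) (hu : u y = -1) :
    Nat.card (centralizer ({y} : Set G)) = m ∧ (∀ z, z * y = y * z → ∀ w, w * y = y * w → z * w = w * z) ∧
    (∃ a : G, a * a = 1 ∧ a ≠ 1 ∧ ∀ z, z * y = y * z → a * z * a⁻¹ = z⁻¹) ∧
    (∀ z, z * y = y * z → z ≠ 1 → Off K z ∧ u z = -1 ∧ centralizer ({z} : Set G) = centralizer ({y} : Set G)) := by
  have hF := N.F1 y hy hu
  have hm := N.m1
  obtain ⟨a, ha, ha1, hay⟩ := N.h.exists_of_FF (y := y) (by omega)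
  have hcy : Nat.card (centralizer ({y} : Set G)) = m := by rw [← N.h.FF_eq hy hy1 ha ha1 hay, hF]
  have hcomm := fun z (hz : z * y = y * z) w (hw : w * y = y * w) => N.h.comm_of_inverts hy hy1 ha ha1 hay hz hw
  refine ⟨hcy, hcomm, ⟨a, ha, ha1, fun z hz => N.h.inverts hy hy1 ha ha1 hay hz⟩, fun z hz hz1 => ?_⟩
  have hzo := N.h.cent_off hy hy1 hz hz1
  have hF2 := N.h.FF_eq hzo hz1 ha ha1 (N.h.inverts hy hy1 ha ha1 hay hz)
  have huz : u z = -1 := by
    rcases N.uval z hzo hz1 with h1 | h1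
    · exfalso
      have h2 := N.F0 z hzo h1
      rw [hF2] at h2
      exact Nat.card_pos.ne' h2
    · exact h1
  refine ⟨hzo, huz, ?_⟩
  have h3 := N.F1 z hzo huz
  rw [hF2] at h3
  symm
  apply Subgroup.eq_of_le_of_card_ge
  · intro w hw
    rw [mem_centralizer_singleton_iff] at hw ⊢
    exact hcomm w hw z hz
  · rw [h3, hcy]

theorem b1 {y : G} (hy : Off K y) (hy1 : y ≠ 1) (hu : u y = 0) {a : G} (ha : a * a = 1) (ha1 : a ≠ 1) : a * y * a⁻¹ ≠ y⁻¹ := by
  intro hay
  have h1 := N.h.FF_eq hy hy1 ha ha1 hay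
  rw [N.F0 y hy hu] at h1
  exact Nat.card_pos.ne h1

theorem c1 {y : G} (hy : Off K y) (hy1 : y ≠ 1) (hu : u y = 0) {z : G} (hz : z * y = y * z) (hz1 : z ≠ 1) : Off K z ∧ u z = 0 := by
  have hzo := N.h.cent_off hy hy1 hz hz1
  refine ⟨hzo, ?_⟩
  rcases N.uval z hzo hz1 with h1 | h1
  · exact h1
  · exfalso
    have h2 := ((N.a1 hzo hz1 h1).2.2.2 y hz.symm hy1).2.1
    rw [hu] at h2
    norm_num at h2

theorem c2 {y : G} (hy : Off K y) (hy1 : y ≠ 1) (hu : u y = 0) {r : ℕ} (hr : r.Prime) (hd : r ∣ Nat.card (centralizer ({y} : Set G))) :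
    r ∣ 2 * m + 1 := by
  haveI : Fact r.Prime := ⟨hr⟩
  obtain ⟨z, hz⟩ := exists_prime_orderOf_dvd_card' r hd
  have hzo : orderOf (z : G) = r := by rw [Subgroup.orderOf_coe, hz]
  have hz1 : (z : G) ≠ 1 := by
    intro h0; rw [h0, orderOf_one] at hzo; exact hr.one_lt.ne hzo
  have hzc := mem_centralizer_singleton_iff.1 z.2
  obtain ⟨hzoff, huz⟩ := N.c1 hy hy1 hu hzc hz1
  have hr2 : r ≠ 2 := by
    rintro rfl
    exact N.h.odd_cent hy hy1 hd
  have hG : r ∣ 2 * (m + 1) * m * (2 * m + 1) := by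
    rw [← N.cardG]; exact hd.trans (Subgroup.card_subgroup_dvd_card _)
  have hm := N.m1
  by_contra hcon
  have h1 : r ∣ (m + 1) * m := by
    have h2 := (hr.dvd_mul.1 hG).resolve_right hcon
    have h3 : r ∣ 2 * ((m + 1) * m) := by rw [← mul_assoc]; exact h2
    exact ((Nat.Prime.dvd_mul hr).1 h3).resolve_left (fun h4 => hr2 ((Nat.prime_dvd_prime_iff_eq hr Nat.prime_two).1 h4))
  rcases (Nat.Prime.dvd_mul hr).1 h1 with h2 | h2
  · -- in `K`
    have hidx : ¬ r ∣ K.index := by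
      intro h3
      have h4 := K.card_mul_index
      rw [N.kK, N.cardG] at h4
      have h5 : K.index = 2 * (m * (2 * m + 1)) := by
        apply Nat.eq_of_mul_eq_mul_left (show 0 < m + 1 by omega)
        rw [h4]; ring
      rw [h5] at h3
      have h6 := ((Nat.Prime.dvd_mul hr).1 h3).resolve_left (fun h4 => hr2 ((Nat.prime_dvd_prime_iff_eq hr Nat.prime_two).1 h4))
      have h7 := ((Nat.Prime.dvd_mul hr).1 h6).resolve_right hcon
      have h8 : r ∣ 1 := by
        have := Nat.dvd_sub h2 h7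
        rwa [Nat.add_sub_cancel_left] at this
      exact hr.one_lt.ne' (Nat.dvd_one.1 h8)
    obtain ⟨g, hg⟩ := conj_into hr K hidx hzo
    exact off_conj hzoff g _ hg (conj_ne_one hz1) (IsConj.refl _)
  · -- in a centraliser of an element of the other kind
    have hm2 : 2 ≤ m := hr.two_le.trans (Nat.le_of_dvd (by omega) h2)
    have hne : Nat.card {y : G // Off K y ∧ y ≠ 1 ∧ u y = -1} ≠ 0 := by
      rw [N.Z1]
      have : 0 < m - 1 := by omega
      positivity
    obtain ⟨⟨w, hw, hw1, huw⟩⟩ := (Nat.card_ne_zero.1 hne).1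
    obtain ⟨e1, -, -, e4⟩ := N.a1 hw hw1 huw
    have hidx : ¬ r ∣ (centralizer ({w} : Set G)).index := by
      intro h3
      have h4 := (centralizer ({w} : Set G)).card_mul_index
      rw [e1, N.cardG] at h4
      have h5 : (centralizer ({w} : Set G)).index = 2 * ((m + 1) * (2 * m + 1)) := by
        apply Nat.eq_of_mul_eq_mul_left (show 0 < m by omega)
        rw [h4]; ring
      rw [h5] at h3
      have h6 := ((Nat.Prime.dvd_mul hr).1 h3).resolve_left (fun h4 => hr2 ((Nat.prime_dvd_prime_iff_eq hr Nat.prime_two).1 h4))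
      have h7 := ((Nat.Prime.dvd_mul hr).1 h6).resolve_right hcon
      have h8 : r ∣ 1 := by
        have := Nat.dvd_sub h7 h2
        rwa [Nat.add_sub_cancel_left] at this
      exact hr.one_lt.ne' (Nat.dvd_one.1 h8)
    obtain ⟨g, hg⟩ := conj_into hr _ hidx hzo
    have h9 := (e4 _ (mem_centralizer_singleton_iff.1 hg) (conj_ne_one hz1)).2.1
    rw [N.uconj, huz] at h9
    norm_num at h9

theorem c3 {y : G} (hy : Off K y) (hy1 : y ≠ 1) (hu : u y = 0) : Nat.card (centralizer ({y} : Set G)) ∣ 2 * m + 1 := by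
  have h1 : Nat.Coprime (Nat.card (centralizer ({y} : Set G))) (2 * (m + 1) * m) := by
    apply Nat.Coprime.symm
    rw [Nat.coprime_iff_gcd_eq_one]
    by_contra hne
    obtain ⟨r, hr, hr2⟩ := Nat.exists_prime_and_dvd hne
    have h2 : r ∣ 2 * (m + 1) * m := hr2.trans (Nat.gcd_dvd_left _ _)
    have h3 := N.c2 hy hy1 hu hr (hr2.trans (Nat.gcd_dvd_right _ _))
    have hrodd : ¬ r ∣ 2 := by
      intro h4
      have h5 : r = 2 := (Nat.prime_dvd_prime_iff_eq hr Nat.prime_two).1 h4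
      subst h5
      omega
    rcases (Nat.Prime.dvd_mul hr).1 h2 with h4 | h4
    · have h5 := ((Nat.Prime.dvd_mul hr).1 h4).resolve_left hrodd
      have h6 : r ∣ 2 * (m + 1) - (2 * m + 1) := Nat.dvd_sub (h5.mul_left 2) h3
      have h7 : 2 * (m + 1) - (2 * m + 1) = 1 := by omega
      rw [h7] at h6
      exact hr.one_lt.ne' (Nat.dvd_one.1 h6)
    · have h6 : r ∣ (2 * m + 1) - 2 * m := Nat.dvd_sub h3 (h4.mul_left 2)
      have h7 : (2 * m + 1) - 2 * m = 1 := by omega
      rw [h7] at h6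
      exact hr.one_lt.ne' (Nat.dvd_one.1 h6)
  have h2 : Nat.card (centralizer ({y} : Set G)) ∣ 2 * (m + 1) * m * (2 * m + 1) := by
    rw [← N.cardG]; exact Subgroup.card_subgroup_dvd_card _
  exact h1.dvd_of_dvd_mul_left h2

theorem not_real {y : G} (hy : Off K y) (hy1 : y ≠ 1) (hu : u y = 0) : ¬ IsConj y y⁻¹ := by
  intro hc
  obtain ⟨g, hg⟩ := isConj_iff.1 hc
  have hg2 : (g * g) * y = y * (g * g) := by
    have : (g * g) * y * (g * g)⁻¹ = y := by
      calc (g * g) * y * (g * g)⁻¹ = g * (g * y * g⁻¹) * g⁻¹ := by group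
        _ = g * y⁻¹ * g⁻¹ := by rw [hg]
        _ = (g * y * g⁻¹)⁻¹ := by group
        _ = y := by rw [hg, inv_inv]
    rw [mul_inv_eq_iff_eq_mul] at this; exact this
  have hyy : y ≠ y⁻¹ := by
    intro h0
    have h1 : y * y = 1 := by nth_rewrite 1 [h0]; exact inv_mul_cancel y
    exact N.h.no_invol hy hy1 h1 hy1 rfl
  have hpow : ∀ j : ℕ, (g ^ (2 * j)) * y = y * g ^ (2 * j) := by
    intro j
    have h1 : Commute (g * g) y := hg2
    have h2 := h1.pow_left j
    rw [← pow_two, ← pow_mul] at h2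
    exact h2
  rcases Nat.even_or_odd' (orderOf g) with ⟨j, hj | hj⟩
  · have hpos := orderOf_pos g
    have hj0 : 0 < j := by omega
    have hw1 : g ^ j ≠ 1 := by
      intro h0
      have := Nat.le_of_dvd hj0 (orderOf_dvd_of_pow_eq_one h0)
      omega
    have hw2 : g ^ j * g ^ j = 1 := by
      rw [← pow_add, ← two_mul, ← hj, pow_orderOf_eq_one]
    rcases Nat.even_or_odd' j with ⟨i, hi | hi⟩
    · have h1 := hpow i
      rw [← hi] at h1
      exact N.h.no_invol hy hy1 hw2 hw1 h1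
    · apply N.b1 hy hy1 hu hw2 hw1
      have h1 := hpow i
      rw [hi, pow_succ']
      calc g * g ^ (2 * i) * y * (g * g ^ (2 * i))⁻¹ = g * (g ^ (2 * i) * y) * (g ^ (2 * i))⁻¹ * g⁻¹ := by group
        _ = g * (y * g ^ (2 * i)) * (g ^ (2 * i))⁻¹ * g⁻¹ := by rw [h1]
        _ = g * y * g⁻¹ := by group
        _ = y⁻¹ := hg
  · -- odd order
    have h1 : g = g ^ (2 * (j + 1)) := by
      have h2 : g ^ (2 * (j + 1)) = g ^ (orderOf g) * g := by
        rw [← pow_succ]; congr 1; omega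
      rw [h2, pow_orderOf_eq_one, one_mul]
    have h2 := hpow (j + 1)
    rw [← h1] at h2
    apply hyy
    rw [← hg, h2]; group

theorem d1 {y : G} (hy : Off K y) (hy1 : y ≠ 1) (hu : u y = 0) : Nat.card (centralizer ({y} : Set G)) = 2 * m + 1 ∧
    ∀ z, Off K z → z ≠ 1 → u z = 0 → IsConj y z ∨ IsConj y⁻¹ z := by
  classical
  letI : Fintype G := Fintype.ofFinite G
  have hle := Nat.le_of_dvd (by omega) (N.c3 hy hy1 hu)
  have hyi := off_inv hy
  have hyi1 : y⁻¹ ≠ 1 := inv_ne_one.2 hy1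
  have hui : u y⁻¹ = 0 := by rw [N.uinv, hu]
  have hc1 := card_conj_class y
  have hc2 := card_conj_class y⁻¹
  have hcc : Nat.card (centralizer ({y⁻¹} : Set G)) = Nat.card (centralizer ({y} : Set G)) := by
    have : centralizer ({y⁻¹} : Set G) = centralizer ({y} : Set G) := by
      ext g
      rw [mem_centralizer_singleton_iff, mem_centralizer_singleton_iff]
      constructor
      · intro h1
        have h2 : Commute g y⁻¹ := h1
        exact (h2.inv_right).eq.trans (by rw [inv_inv]) |> fun h3 => by rw [inv_inv] at h3; exact h3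
      · intro h1
        have h2 : Commute g y := h1
        exact h2.inv_right.eq
    rw [this]
  rw [hcc] at hc2
  have hsame : Nat.card {z : G // IsConj y z} = Nat.card {z : G // IsConj y⁻¹ z} :=
    Nat.eq_of_mul_eq_mul_right Nat.card_pos (hc1.trans hc2.symm)
  -- the union of the two classes
  have hsub : ∀ z, (IsConj y z ∨ IsConj y⁻¹ z) → Off K z ∧ z ≠ 1 ∧ u z = 0 := by
    rintro z (h1 | h1)
    · obtain ⟨g, rfl⟩ := isConj_iff.1 h1
      exact ⟨off_conj hy g, conj_ne_one hy1, by rw [N.uconj, hu]⟩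
    · obtain ⟨g, rfl⟩ := isConj_iff.1 h1
      exact ⟨off_conj hyi g, conj_ne_one hyi1, by rw [N.uconj, hui]⟩
  have hdisj : Disjoint (fun z : G => IsConj y z) (fun z : G => IsConj y⁻¹ z) := by
    rw [Pi.disjoint_iff]
    intro z
    rw [Prop.disjoint_iff]
    rintro ⟨h1, h2⟩
    exact N.not_real hy hy1 hu (h1.trans h2.symm)
  have hunion : Nat.card {z : G // IsConj y z ∨ IsConj y⁻¹ z} = 2 * Nat.card {z : G // IsConj y z} := by
    have : Nat.card {z : G // IsConj y z ∨ IsConj y⁻¹ z} = Nat.card {z : G // IsConj y z} + Nat.card {z : G // IsConj y⁻¹ z} := by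
      simp only [Nat.card_eq_fintype_card]
      exact Fintype.card_subtype_or_disjoint _ _ hdisj
    rw [this, ← hsame, two_mul]
  have hle2 : 2 * Nat.card {z : G // IsConj y z} ≤ 4 * (m + 1) * m := by
    rw [← hunion, ← N.Z0]
    simp only [Nat.card_eq_fintype_card]
    exact Fintype.card_subtype_mono _ _ (fun z hz => hsub z hz)
  have hm := N.m1
  have hge : 2 * m + 1 ≤ Nat.card (centralizer ({y} : Set G)) := by
    have h1 : 2 * (2 * (m + 1) * m * (2 * m + 1)) ≤ 4 * (m + 1) * m * Nat.card (centralizer ({y} : Set G)) := by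
      rw [← N.cardG, ← hc1, ← mul_assoc]
      exact Nat.mul_le_mul_right _ hle2
    have h2 : 2 * (2 * (m + 1) * m * (2 * m + 1)) = 4 * (m + 1) * m * (2 * m + 1) := by ring
    rw [h2] at h1
    exact Nat.le_of_mul_le_mul_left h1 (by positivity)
  have hcard : Nat.card (centralizer ({y} : Set G)) = 2 * m + 1 := le_antisymm hle hge
  refine ⟨hcard, fun z hz hz1 huz => ?_⟩
  by_contra hcon
  have hcl : 2 * Nat.card {z : G // IsConj y z} = 4 * (m + 1) * m := by
    rw [hcard, N.cardG] at hc1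
    have h2 : 2 * Nat.card {z : G // IsConj y z} * (2 * m + 1) = 4 * (m + 1) * m * (2 * m + 1) := by
      rw [mul_assoc, hc1]; ring
    exact Nat.eq_of_mul_eq_mul_right (by omega) h2
  have hlt : Nat.card {z : G // IsConj y z ∨ IsConj y⁻¹ z} < Nat.card {y : G // Off K y ∧ y ≠ 1 ∧ u y = 0} := by
    rw [Nat.card_eq_fintype_card, Nat.card_eq_fintype_card, Fintype.card_subtype, Fintype.card_subtype]
    apply Finset.card_lt_card
    rw [Finset.ssubset_iff_of_subset]
    · refine ⟨z, ?_, ?_⟩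
      · rw [Finset.mem_filter]; exact ⟨Finset.mem_univ _, hz, hz1, huz⟩
      · rw [Finset.mem_filter]; exact fun h0 => hcon h0.2
    · intro w hw
      rw [Finset.mem_filter] at hw ⊢
      exact ⟨Finset.mem_univ _, hsub w hw.2⟩
  rw [hunion, hcl, N.Z0] at hlt
  exact lt_irrefl _ hlt

end Neg
end CfsgLib.BW11
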