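import Mathlib
import Cfsg.Agent.EqBase
import Cfsg.Agent.LibBW11k

/-! Brauer-Suzuki-Wall: the case `q = 2k - 1`, local structure (seat helper11). -/

set_option autoImplicit false
set_option linter.all false

namespace CfsgLib.BW11

open Subgroup Cfsg CfsgLib.CharBasic

universe u

section
variable {G : Type u} [Group G] [Finite G]

/-- an odd-order subgroup of a group containing `M` as a subgroup of index two is in `M` -/
theorem le_of_index_two {M N' L : Subgroup G} (hMN : M ≤ N') (hc : Nat.card N' = 2 * Nat.card M) (hL : L ≤ N') (hodd : ¬ 2 ∣ Nat.card L) :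
    L ≤ M := by
  intro x hx
  have hidx : (M.subgroupOf N').index = 2 := by
    have h1 := (M.subgroupOf N').card_mul_index
    rw [Nat.card_congr (Subgroup.subgroupOfEquivOfLe hMN).toEquiv, hc, mul_comm 2] at h1
    exact Nat.eq_of_mul_eq_mul_left Nat.card_pos h1
  have h2 : (⟨x, hL hx⟩ : N') * ⟨x, hL hx⟩ ∈ M.subgroupOf N' := Subgroup.mul_self_mem_of_index_two hidx _
  rw [mem_subgroupOf] at h2
  have h3 : x * x ∈ M := h2
  have h4 : orderOf x ∣ Nat.card L := by
    have := orderOf_dvd_natCard (⟨x, hx⟩ : L)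
    rwa [← Subgroup.orderOf_coe] at this
  have h5 : ¬ 2 ∣ orderOf x := fun h => hodd (h.trans h4)
  obtain ⟨j, hj⟩ : ∃ j, orderOf x + 1 = 2 * j := ⟨(orderOf x + 1) / 2, by omega⟩
  have h6 : x = (x * x) ^ j := by
    rw [← pow_two, ← pow_mul, ← hj, pow_succ, pow_orderOf_eq_one, one_mul]
  rw [h6]
  exact M.pow_mem h3 j

theorem order_prime_of_invol {L : Subgroup G} (hodd : ¬ 2 ∣ Nat.card L) {x : G} (hx : x ∈ L) (h2 : x * x = 1) : x = 1 := by
  by_contra h1
  have h3 : orderOf x = 2 := orderOf_eq_prime (by rw [pow_two]; exact h2) h1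
  have h4 : orderOf x ∣ Nat.card L := by
    have := orderOf_dvd_natCard (⟨x, hx⟩ : L)
    rwa [← Subgroup.orderOf_coe] at this
  rw [h3] at h4
  exact hodd h4

/-- a nontrivial finite `r`-subgroup has a nontrivial central element -/
theorem exists_central {r : ℕ} (hr : r.Prime) {X : Subgroup G} (hX : IsPGroup r X) (hX1 : X ≠ ⊥) :
    ∃ x ∈ X, x ≠ 1 ∧ ∀ y ∈ X, y * x = x * y := by
  haveI : Fact r.Prime := ⟨hr⟩
  haveI : Nontrivial X := (Subgroup.nontrivial_iff_ne_bot X).2 hX1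
  haveI := hX.center_nontrivial
  obtain ⟨z, hz⟩ := exists_ne (1 : Subgroup.center X)
  refine ⟨z.1.1, z.1.2, ?_, fun y hy => ?_⟩
  · intro h0; exact hz (Subtype.ext (Subtype.ext h0))
  · have := Subgroup.mem_center_iff.1 z.2 ⟨y, hy⟩
    exact congrArg Subtype.val this

end

namespace Neg
variable {G : Type u} [Group G] [Finite G] {K : Subgroup G} {t s : G} {m : ℕ} {u : G → ℤ} (N : Neg K t s m u)
include N

theorem e0 {r : ℕ} (hr : r.Prime) {z : G} (hz1 : z ≠ 1) (hz : ∃ j, z ^ (r ^ j) = 1) :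
    (¬ Off K z ∧ r ∣ m + 1) ∨ (Off K z ∧ u z = -1 ∧ r ∣ m) ∨ (Off K z ∧ u z = 0 ∧ r ∣ 2 * m + 1) := by
  have key : ∀ H : Subgroup G, z ∈ H → r ∣ Nat.card H := by
    intro H hH
    obtain ⟨j, hj⟩ := hz
    obtain ⟨i, hi, hi2⟩ := (Nat.dvd_prime_pow hr).1 (orderOf_dvd_of_pow_eq_one hj)
    have h4 : orderOf z ∣ Nat.card H := by
      have := orderOf_dvd_natCard (⟨z, hH⟩ : H)
      rwa [← Subgroup.orderOf_coe] at this
    have hi0 : i ≠ 0 := by
      rintro rfl
      rw [pow_zero, orderOf_eq_one_iff] at hi2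
      exact hz1 hi2
    rw [hi2] at h4
    exact (dvd_pow_self r hi0).trans h4
  have hself : z ∈ centralizer ({z} : Set G) := by rw [mem_centralizer_singleton_iff]
  by_cases ho : Off K z
  · rcases N.uval z ho hz1 with h1 | h1
    · exact Or.inr (Or.inr ⟨ho, h1, by rw [← (N.d1 ho hz1 h1).1]; exact key _ hself⟩)
    · exact Or.inr (Or.inl ⟨ho, h1, by rw [← (N.a1 ho hz1 h1).1]; exact key _ hself⟩)
  · left
    refine ⟨ho, ?_⟩
    unfold Off at ho
    push Not at ho
    obtain ⟨x, hx, hx1, hc⟩ := ho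
    obtain ⟨g, hg⟩ := isConj_iff.1 hc.symm
    rw [← N.kK]
    obtain ⟨j, hj⟩ := hz
    have h2 : x ^ (r ^ j) = 1 := by
      rw [← hg, conj_pow, hj]; group
    obtain ⟨i, hi, hi2⟩ := (Nat.dvd_prime_pow hr).1 (orderOf_dvd_of_pow_eq_one h2)
    have h4 : orderOf x ∣ Nat.card K := by
      have := orderOf_dvd_natCard (⟨x, hx⟩ : K)
      rwa [← Subgroup.orderOf_coe] at this
    have hi0 : i ≠ 0 := by
      rintro rfl
      rw [pow_zero, orderOf_eq_one_iff] at hi2
      exact hx1 hi2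
    rw [hi2] at h4
    exact (dvd_pow_self r hi0).trans h4

theorem e1 : ∃ p f : ℕ, p.Prime ∧ 2 * m + 1 = p ^ f ∧ f ≠ 0 ∧ (∃ y, Off K y ∧ y ≠ 1 ∧ u y = 0) ∧
    (∀ y, Off K y → y ≠ 1 → u y = 0 → y ^ p = 1) ∧ ¬ p ∣ m ∧ ¬ p ∣ m + 1 ∧ p ≠ 2 := by
  have hm := N.m1
  obtain ⟨p, hp, hpd⟩ := Nat.exists_prime_and_dvd (show 2 * m + 1 ≠ 1 by omega)
  have hpm : ¬ p ∣ m := by
    intro h4
    have h6 : p ∣ (2 * m + 1) - 2 * m := Nat.dvd_sub hpd (h4.mul_left 2)
    have h7 : (2 * m + 1) - 2 * m = 1 := by omega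
    rw [h7] at h6
    exact hp.one_lt.ne' (Nat.dvd_one.1 h6)
  have hpm1 : ¬ p ∣ m + 1 := by
    intro h4
    have h6 : p ∣ 2 * (m + 1) - (2 * m + 1) := Nat.dvd_sub (h4.mul_left 2) hpd
    have h7 : 2 * (m + 1) - (2 * m + 1) = 1 := by omega
    rw [h7] at h6
    exact hp.one_lt.ne' (Nat.dvd_one.1 h6)
  have hp2 : p ≠ 2 := by rintro rfl; omega
  haveI : Fact p.Prime := ⟨hp⟩
  obtain ⟨y, hy⟩ := exists_prime_orderOf_dvd_card' (G := G) p (by rw [N.cardG]; exact hpd.mul_left _)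
  have hy1 : y ≠ 1 := by
    intro h0; rw [h0, orderOf_one] at hy; exact hp.one_lt.ne hy
  have hyp : y ^ p = 1 := by rw [← hy]; exact pow_orderOf_eq_one y
  obtain ⟨hyo, hyu⟩ : Off K y ∧ u y = 0 := by
    rcases N.e0 hp hy1 ⟨1, by rw [pow_one]; exact hyp⟩ with h | h | h
    · exact absurd h.2 hpm1
    · exact absurd h.2.2 hpm
    · exact ⟨h.1, h.2.1⟩
  have hall : ∀ y, Off K y → y ≠ 1 → u y = 0 → y ^ p = 1 := by
    intro z hz hz1 hzu
    rcases (N.d1 hyo hy1 hyu).2 z hz hz1 hzu with h | h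
    · obtain ⟨g, rfl⟩ := isConj_iff.1 h
      rw [conj_pow, hyp]; group
    · obtain ⟨g, rfl⟩ := isConj_iff.1 h
      rw [conj_pow, inv_pow, hyp]; group
  have hPG : IsPGroup p (centralizer ({y} : Set G)) := by
    rintro ⟨z, hz⟩
    refine ⟨1, Subtype.ext ?_⟩
    show z ^ p ^ 1 = 1
    rw [pow_one]
    by_cases hz1 : z = 1
    · rw [hz1, one_pow]
    · obtain ⟨h1, h2⟩ := N.c1 hyo hy1 hyu (mem_centralizer_singleton_iff.1 hz) hz1
      exact hall z h1 hz1 h2
  obtain ⟨f, hf⟩ := IsPGroup.iff_card.1 hPG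
  rw [(N.d1 hyo hy1 hyu).1] at hf
  refine ⟨p, f, hp, hf, ?_, ⟨y, hyo, hy1, hyu⟩, hall, hpm, hpm1, hp2⟩
  rintro rfl
  rw [pow_zero] at hf
  omega

theorem f1 {y : G} (hy : Off K y) (hy1 : y ≠ 1) (hu : u y = -1) :
    Nat.card (normalizer (centralizer ({y} : Set G) : Set G)) = 2 * m ∧ 2 ≤ m := by
  obtain ⟨e1, e2, e3, e4⟩ := N.a1 hy hy1 hu
  have hm := N.m1
  have hm2 : 2 ≤ m := by
    by_contra hcon
    have h1 : Nat.card (centralizer ({y} : Set G)) = 1 := by omega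
    rw [Subgroup.card_eq_one] at h1
    have h2 : y ∈ centralizer ({y} : Set G) := by rw [mem_centralizer_singleton_iff]
    rw [h1] at h2
    exact hy1 (Subgroup.mem_bot.1 h2)
  refine ⟨?_, hm2⟩
  have hc := ti_count (centralizer ({y} : Set G)) (normalizer (centralizer ({y} : Set G) : Set G)) (by
    intro g x hx hx1 hg
    apply mem_norm_of_cent (e4 x (mem_centralizer_singleton_iff.1 hx) hx1).2.2
    exact (e4 _ (mem_centralizer_singleton_iff.1 hg) (conj_ne_one hx1)).2.2) (fun g hg x hx => (mem_normalizer_iff.1 hg x).1 hx)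
  have h1 : Nat.card {w : G // ∃ g x, x ∈ centralizer ({y} : Set G) ∧ x ≠ 1 ∧ g * x * g⁻¹ = w} = (2 * m + 1) * (m + 1) * (m - 1) := by
    rw [← N.Z1]
    apply Nat.card_congr
    apply Equiv.subtypeEquivRight
    intro w
    constructor
    · rintro ⟨g, x, hx, hx1, rfl⟩
      obtain ⟨h2, h3, -⟩ := e4 x (mem_centralizer_singleton_iff.1 hx) hx1
      exact ⟨off_conj h2 g, conj_ne_one hx1, by rw [N.uconj, h3]⟩
    · rintro ⟨hw, hw1, huw⟩
      obtain ⟨w1, w2, w3, w4⟩ := N.a1 hw hw1 huw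
      obtain ⟨r, hr, hrd⟩ := Nat.exists_prime_and_dvd (show m ≠ 1 by omega)
      haveI : Fact r.Prime := ⟨hr⟩
      obtain ⟨z, hz⟩ := exists_prime_orderOf_dvd_card' (G := centralizer ({w} : Set G)) r (by rw [w1]; exact hrd)
      have hzo : orderOf (z : G) = r := by rw [Subgroup.orderOf_coe, hz]
      have hz1 : (z : G) ≠ 1 := by
        intro h0; rw [h0, orderOf_one] at hzo; exact hr.one_lt.ne hzo
      have hr2 : r ≠ 2 := by rintro rfl; exact N.odd hrd
      have hidx : ¬ r ∣ (centralizer ({y} : Set G)).index := by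
        intro h3
        have h4 := (centralizer ({y} : Set G)).card_mul_index
        rw [e1, N.cardG] at h4
        have h5 : (centralizer ({y} : Set G)).index = 2 * ((m + 1) * (2 * m + 1)) := by
          apply Nat.eq_of_mul_eq_mul_left (show 0 < m by omega)
          rw [h4]; ring
        rw [h5] at h3
        have h6 := ((Nat.Prime.dvd_mul hr).1 h3).resolve_left (fun h4 => hr2 ((Nat.prime_dvd_prime_iff_eq hr Nat.prime_two).1 h4))
        rcases (Nat.Prime.dvd_mul hr).1 h6 with h7 | h7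
        · have := Nat.dvd_sub h7 hrd
          rw [Nat.add_sub_cancel_left] at this
          exact hr.one_lt.ne' (Nat.dvd_one.1 this)
        · have := Nat.dvd_sub h7 (hrd.mul_left 2)
          rw [Nat.add_sub_cancel_left] at this
          exact hr.one_lt.ne' (Nat.dvd_one.1 this)
      obtain ⟨g, hg⟩ := conj_into hr _ hidx hzo
      have h6 := (e4 _ (mem_centralizer_singleton_iff.1 hg) (conj_ne_one hz1)).2.2
      have h7 := (w4 z (mem_centralizer_singleton_iff.1 z.2) hz1).2.2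
      have h8 : g * w * g⁻¹ ∈ centralizer ({g * (z : G) * g⁻¹} : Set G) := by
        rw [cent_conj]
        have e : g⁻¹ * (g * w * g⁻¹) * g = w := by group
        rw [e, h7, mem_centralizer_singleton_iff]
      rw [h6] at h8
      exact ⟨g⁻¹, g * w * g⁻¹, h8, conj_ne_one hw1, by group⟩
  rw [h1, e1, N.cardG] at hc
  have h2 : (2 * m + 1) * (m + 1) * (m - 1) * Nat.card (normalizer (centralizer ({y} : Set G) : Set G)) =
      (2 * m + 1) * (m + 1) * (m - 1) * (2 * m) := by rw [hc]; ring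
  have h3 : 0 < m - 1 := by omega
  exact Nat.eq_of_mul_eq_mul_left (by positivity) h2

theorem f2 {y : G} (hy : Off K y) (hy1 : y ≠ 1) (hu : u y = -1) {L : Subgroup G} (hodd : ¬ 2 ∣ Nat.card L)
    (hL : L ≤ normalizer (centralizer ({y} : Set G) : Set G)) : L ≤ centralizer ({y} : Set G) := by
  apply le_of_index_two le_normalizer _ hL hodd
  rw [(N.f1 hy hy1 hu).1, (N.a1 hy hy1 hu).1]

/-- odd-order subgroups normalising a nontrivial `r`-subgroup are abelian -/
theorem star {r : ℕ} (hr : r.Prime) (hr2 : r ≠ 2) (hrq : ¬ r ∣ 2 * m + 1) {X : Subgroup G} (hX : IsPGroup r X) (hX1 : X ≠ ⊥)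
    {L : Subgroup G} (hodd : ¬ 2 ∣ Nat.card L) (hLX : ∀ g ∈ L, ∀ x ∈ X, g * x * g⁻¹ ∈ X) : ∀ a ∈ L, ∀ b ∈ L, a * b = b * a := by
  obtain ⟨x, hx, hx1, hxc⟩ := exists_central hr hX hX1
  have hxr : ∃ j, x ^ (r ^ j) = 1 := by
    obtain ⟨j, hj⟩ := hX ⟨x, hx⟩
    exact ⟨j, congrArg Subtype.val hj⟩
  rcases N.e0 hr hx1 hxr with ⟨ho, -⟩ | ⟨ho, hu, -⟩ | ⟨-, -, h⟩
  · unfold Off at ho
    push Not at ho
    obtain ⟨k, hk, hk1, hc⟩ := ho
    obtain ⟨g, hg⟩ := isConj_iff.1 hc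
    have hkk : k * k ≠ 1 := by
      intro h0
      obtain ⟨j, hj⟩ := hxr
      have h1 : x * x = 1 := by
        rw [← hg]
        calc g * k * g⁻¹ * (g * k * g⁻¹) = g * (k * k) * g⁻¹ := by group
          _ = 1 := by rw [h0]; group
      have h2 : orderOf x = 2 := orderOf_eq_prime (by rw [pow_two]; exact h1) hx1
      have h3 : 2 ∣ r ^ j := by rw [← h2]; exact orderOf_dvd_of_pow_eq_one hj
      exact hr2 ((Nat.prime_dvd_prime_iff_eq Nat.prime_two hr).1 (Nat.prime_two.dvd_of_dvd_pow h3)).symm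
    -- the conjugate of `X`
    obtain ⟨Y, hY⟩ : ∃ Y : Subgroup G, ∀ w, w ∈ Y ↔ g * w * g⁻¹ ∈ X := ⟨X.comap (MulAut.conj g).toMonoidHom, fun w => Iff.rfl⟩
    have hYK : Y ≤ K := by
      intro w hw
      rw [hY] at hw
      rw [← N.h.cent_iff hk hk1 hkk]
      have h1 := hxc _ hw
      rw [← hg] at h1
      calc w * k = g⁻¹ * (g * w * g⁻¹ * (g * k * g⁻¹)) * g := by group
        _ = g⁻¹ * ((g * k * g⁻¹) * (g * w * g⁻¹)) * g := by rw [h1]
        _ = k * w := by group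
    have hY1 : Y ≠ ⊥ := by
      intro h0
      have h1 : k ∈ Y := by rw [hY, hg]; exact hx
      rw [h0] at h1
      exact hk1 (Subgroup.mem_bot.1 h1)
    have hLK : ∀ l ∈ L, g⁻¹ * l * g ∈ K := by
      intro l hl
      obtain ⟨w, hw, hw1⟩ : ∃ w ∈ Y, w ≠ 1 := by
        by_contra hcon
        push Not at hcon
        exact hY1 ((Subgroup.eq_bot_iff_forall Y).2 hcon)
      have h1 : (g⁻¹ * l * g) * w * (g⁻¹ * l * g)⁻¹ ∈ Y := by
        rw [hY]
        have := hLX l hl _ ((hY w).1 hw)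
        have e : g * ((g⁻¹ * l * g) * w * (g⁻¹ * l * g)⁻¹) * g⁻¹ = l * (g * w * g⁻¹) * l⁻¹ := by group
        rw [e]; exact this
      rcases N.h.ti _ w (hYK hw) hw1 (hYK h1) with h2 | h2
      · exact h2
      · exfalso
        have h3 := N.h.invol h2
        have h4 := N.h.ne_one h2
        apply h4
        have h5 : l * l = 1 := by
          calc l * l = g * ((g⁻¹ * l * g) * (g⁻¹ * l * g)) * g⁻¹ := by group
            _ = 1 := by rw [h3]; group
        rw [order_prime_of_invol hodd hl h5]; group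
    intro a ha b hb
    have h1 := N.h.comm _ (hLK a ha) _ (hLK b hb)
    calc a * b = g * ((g⁻¹ * a * g) * (g⁻¹ * b * g)) * g⁻¹ := by group
      _ = g * ((g⁻¹ * b * g) * (g⁻¹ * a * g)) * g⁻¹ := by rw [h1]
      _ = b * a := by group
  · have hL : L ≤ normalizer (centralizer ({x} : Set G) : Set G) := by
      intro l hl
      have h1 : l * x * l⁻¹ ∈ X := hLX l hl x hx
      have h2 : (l * x * l⁻¹) ∈ centralizer ({x} : Set G) := by
        rw [mem_centralizer_singleton_iff]; exact hxc _ h1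
      exact mem_norm_of_cent rfl ((N.a1 ho hx1 hu).2.2.2 _ (mem_centralizer_singleton_iff.1 h2) (conj_ne_one hx1)).2.2
    have h3 := N.f2 ho hx1 hu hodd hL
    intro a ha b hb
    exact (N.a1 ho hx1 hu).2.1 a (mem_centralizer_singleton_iff.1 (h3 ha)) b (mem_centralizer_singleton_iff.1 (h3 hb))
  · exact absurd h hrq

end Neg
end CfsgLib.BW11
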