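import Mathlib
import Cfsg.Agent.EqBase
import Cfsg.Agent.LibBW11l

/-! Brauer-Suzuki-Wall: the case `q = 2k - 1`, conclusion (seat helper11). -/

set_option autoImplicit false
set_option linter.all false

namespace CfsgLib.BW11

open Subgroup Cfsg CfsgLib.CharBasic

universe u

section
variable {G : Type u} [Group G] [Finite G]

/-- Burnside's transfer theorem for subgroups of a group -/
theorem burn {L : Subgroup G} {r : ℕ} (hr : r.Prime) (hrd : r ∣ Nat.card L)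
    (hN : ∀ R : Subgroup G, R ≤ L → IsPGroup r R → R ≠ ⊥ → ∀ a ∈ L, ∀ b ∈ L, (∀ x ∈ R, a * x * a⁻¹ ∈ R) →
      (∀ x ∈ R, b * x * b⁻¹ ∈ R) → a * b = b * a) :
    ∃ C : Subgroup G, C ≤ L ∧ (∀ g ∈ L, ∀ x ∈ C, g * x * g⁻¹ ∈ C) ∧ Nat.card C < Nat.card L ∧ (∀ x ∈ L, ∃ j, x ^ (r ^ j) ∈ C) := by
  classical
  haveI : Fact r.Prime := ⟨hr⟩
  have key : ∀ R₀ : Subgroup L, IsPGroup r R₀ → R₀ ≠ ⊥ → ∀ a b : L, (∀ x ∈ R₀, a * x * a⁻¹ ∈ R₀) → (∀ x ∈ R₀, b * x * b⁻¹ ∈ R₀) → a * b = b * a := by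
    intro R₀ hR hRne a b ha hb
    have hR1 : R₀.map L.subtype ≠ ⊥ := by
      intro h0
      exact hRne ((Subgroup.map_eq_bot_iff_of_injective _ L.subtype_injective).1 h0)
    have h1 := hN (R₀.map L.subtype) (Subgroup.map_subtype_le _) (hR.map _) hR1 a a.2 b b.2 (by
      rintro _ ⟨y, hy, rfl⟩
      exact ⟨a * y * a⁻¹, ha y hy, rfl⟩) (by
      rintro _ ⟨y, hy, rfl⟩
      exact ⟨b * y * b⁻¹, hb y hy, rfl⟩)
    exact Subtype.ext h1
  obtain ⟨R⟩ : Nonempty (Sylow r L) := inferInstance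
  have hRne : (R : Subgroup L) ≠ ⊥ := R.ne_bot_of_dvd_card hrd
  have hP : normalizer ((R : Subgroup L) : Set L) ≤ centralizer ((R : Subgroup L) : Set L) := by
    intro a ha
    rw [mem_centralizer_iff]
    intro x hx
    exact key (R : Subgroup L) R.2 hRne x a
      (fun y hy => (R : Subgroup L).mul_mem ((R : Subgroup L).mul_mem hx hy) ((R : Subgroup L).inv_mem hx))
      (fun y hy => (mem_normalizer_iff.1 ha y).1 hy)
  have hcomp := MonoidHom.ker_transferSylow_isComplement' R hP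
  have hcard := hcomp.card_mul
  obtain ⟨φ, hφ⟩ : ∃ φ : L →* (R : Subgroup L), φ = MonoidHom.transferSylow R hP := ⟨_, rfl⟩
  rw [← hφ] at hcard
  refine ⟨φ.ker.map L.subtype, Subgroup.map_subtype_le _, ?_, ?_, ?_⟩
  · rintro g hg _ ⟨y, hy, rfl⟩
    refine ⟨⟨g, hg⟩ * y * ⟨g, hg⟩⁻¹, ?_, rfl⟩
    rw [SetLike.mem_coe, MonoidHom.mem_ker] at hy ⊢
    rw [map_mul, map_mul, hy, mul_one, map_inv, mul_inv_cancel]
  · rw [Nat.card_congr (φ.ker.equivMapOfInjective L.subtype L.subtype_injective).symm.toEquiv, ← hcard]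
    have h1 : 1 < Nat.card (R : Subgroup L) := by
      rw [Subgroup.one_lt_card_iff_ne_bot]; exact hRne
    have h2 : 0 < Nat.card φ.ker := Nat.card_pos
    exact lt_mul_of_one_lt_right h2 h1
  · intro x hx
    obtain ⟨j, hj⟩ := R.2 (φ ⟨x, hx⟩)
    refine ⟨j, ⟨⟨x, hx⟩ ^ (r ^ j), ?_, rfl⟩⟩
    rw [SetLike.mem_coe, MonoidHom.mem_ker, map_pow]
    exact hj

theorem mem_of_coprime {C : Subgroup G} {x : G} {a b : ℕ} (hab : Nat.Coprime a b) (ha : x ^ a ∈ C) (hb : x ^ b ∈ C) : x ∈ C := by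
  have h1 : x = (x ^ a) ^ (Nat.gcdA a b) * (x ^ b) ^ (Nat.gcdB a b) := by
    have h2 := Nat.gcd_eq_gcd_ab a b
    rw [hab.gcd_eq_one] at h2
    rw [← zpow_natCast, ← zpow_natCast, ← zpow_mul, ← zpow_mul, ← zpow_add, ← h2]
    simp
  rw [h1]
  exact C.mul_mem (C.zpow_mem ha _) (C.zpow_mem hb _)

theorem odd_of_le {A L : Subgroup G} (h : A ≤ L) (hodd : ¬ 2 ∣ Nat.card L) : ¬ 2 ∣ Nat.card A :=
  fun h1 => hodd (h1.trans (Subgroup.card_dvd_of_le h))

end

namespace Neg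
variable {G : Type u} [Group G] [Finite G] {K : Subgroup G} {t s : G} {m : ℕ} {u : G → ℤ} (N : Neg K t s m u)
include N

theorem burn' {p f : ℕ} (hp : p.Prime) (hpf : 2 * m + 1 = p ^ f) {L : Subgroup G} (hodd : ¬ 2 ∣ Nat.card L) {r : ℕ} (hr : r.Prime)
    (hrp : r ≠ p) (hrd : r ∣ Nat.card L) :
    ∃ C : Subgroup G, C ≤ L ∧ (∀ g ∈ L, ∀ x ∈ C, g * x * g⁻¹ ∈ C) ∧ Nat.card C < Nat.card L ∧ (∀ x ∈ L, ∃ j, x ^ (r ^ j) ∈ C) := by
  have hr2 : r ≠ 2 := by rintro rfl; exact hodd hrd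
  have hrq : ¬ r ∣ 2 * m + 1 := by
    rw [hpf]
    intro h1
    exact hrp ((Nat.prime_dvd_prime_iff_eq hr hp).1 (hr.dvd_of_dvd_pow h1))
  apply burn hr hrd
  intro R hR hRp hR1 a ha b hb hna hnb
  let L' : Subgroup G := L ⊓ normalizer (R : Set G)
  have hmem : ∀ c ∈ L, (∀ x ∈ R, c * x * c⁻¹ ∈ R) → c ∈ L' := by
    intro c hc hn
    refine ⟨hc, ?_⟩
    apply mem_normalizer_iff.2
    intro x
    refine ⟨hn x, fun hx => ?_⟩
    -- finiteness
    obtain ⟨g, hg⟩ : ∃ g : R → R, ∀ w, (g w : G) = c * w * c⁻¹ := ⟨fun w => ⟨_, hn w w.2⟩, fun _ => rfl⟩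
    have hinj : Function.Injective g := by
      intro w v hwv
      have h1 : c * (w : G) * c⁻¹ = c * v * c⁻¹ := by rw [← hg, ← hg, hwv]
      exact Subtype.ext (by simpa using h1)
    obtain ⟨w, hw⟩ := Finite.surjective_of_injective hinj ⟨_, hx⟩
    have h2 : c * (w : G) * c⁻¹ = c * x * c⁻¹ := by rw [← hg, hw]
    have h3 : (w : G) = x := by simpa using h2
    rw [← h3]; exact w.2
  exact N.star hr hr2 hrq hRp hR1 (L := L') (odd_of_le inf_le_left hodd) (fun g hg x hx => (mem_normalizer_iff.1 hg.2 x).1 hx)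
    a (hmem a ha hna) b (hmem b hb hnb)

/-- odd-order subgroups are `p`-closed -/
theorem pc {p f : ℕ} (hp : p.Prime) (hpf : 2 * m + 1 = p ^ f) : ∀ n : ℕ, ∀ L : Subgroup G, Nat.card L ≤ n → ¬ 2 ∣ Nat.card L →
    ∃ P : Subgroup G, ∀ x, x ∈ P ↔ (x ∈ L ∧ ∃ j, x ^ (p ^ j) = 1) := by
  intro n
  induction n with
  | zero => intro L hL; exact absurd hL (by have := Nat.card_pos (α := L); omega)
  | succ n ih =>
    intro L hL hodd
    by_cases hall : ∀ r : ℕ, r.Prime → r ∣ Nat.card L → r = p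
    · refine ⟨L, fun x => ⟨fun hx => ⟨hx, ?_⟩, fun hx => hx.1⟩⟩
      have h1 := Nat.eq_prime_pow_of_unique_prime_dvd (Nat.card_pos (α := L)).ne' (fun {d} hd hd2 => hall d hd hd2)
      have h2 : (⟨x, hx⟩ : L) ^ Nat.card L = 1 := pow_card_eq_one'
      rw [h1] at h2
      exact ⟨_, congrArg Subtype.val h2⟩
    · push Not at hall
      obtain ⟨r, hr, hrd, hrp⟩ := hall
      obtain ⟨C, hCL, -, hCc, hCr⟩ := N.burn' hp hpf hodd hr hrp hrd
      obtain ⟨P, hP⟩ := ih C (by omega) (odd_of_le hCL hodd)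
      refine ⟨P, fun x => ?_⟩
      rw [hP]
      constructor
      · rintro ⟨h1, h2⟩; exact ⟨hCL h1, h2⟩
      · rintro ⟨h1, j, hj⟩
        refine ⟨?_, j, hj⟩
        obtain ⟨i, hi⟩ := hCr x h1
        apply mem_of_coprime (a := r ^ i) (b := p ^ j) _ hi (by rw [hj]; exact C.one_mem)
        exact Nat.Coprime.pow _ _ ((Nat.coprime_primes hr hp).2 hrp)

/-- odd-order `p'`-subgroups are abelian -/
theorem ab {p f : ℕ} (hp : p.Prime) (hpf : 2 * m + 1 = p ^ f) : ∀ n : ℕ, ∀ L : Subgroup G, Nat.card L ≤ n → ¬ 2 ∣ Nat.card L →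
    ¬ p ∣ Nat.card L → ∀ a ∈ L, ∀ b ∈ L, a * b = b * a := by
  intro n
  induction n with
  | zero => intro L hL; exact absurd hL (by have := Nat.card_pos (α := L); omega)
  | succ n ih =>
    intro L hL hodd hpL
    by_cases hL1 : Nat.card L = 1
    · rw [Subgroup.card_eq_one] at hL1
      subst hL1
      intro a ha b hb
      rw [Subgroup.mem_bot.1 ha, Subgroup.mem_bot.1 hb]
    · obtain ⟨r, hr, hrd⟩ := Nat.exists_prime_and_dvd hL1
      have hrp : r ≠ p := by rintro rfl; exact hpL hrd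
      obtain ⟨C, hCL, hCn, hCc, hCr⟩ := N.burn' hp hpf hodd hr hrp hrd
      -- a nontrivial normal `r'`-subgroup
      obtain ⟨r', hr', hrd', X, hX, hX1, hLX⟩ : ∃ r' : ℕ, r'.Prime ∧ r' ∣ Nat.card L ∧ ∃ X : Subgroup G, IsPGroup r' X ∧ X ≠ ⊥ ∧
          ∀ g ∈ L, ∀ x ∈ X, g * x * g⁻¹ ∈ X := by
        by_cases hC1 : C = ⊥
        · refine ⟨r, hr, hrd, L, ?_, ?_, fun g hg x hx => L.mul_mem (L.mul_mem hg hx) (L.inv_mem hg)⟩
          · rintro ⟨x, hx⟩
            obtain ⟨j, hj⟩ := hCr x hx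
            rw [hC1] at hj
            exact ⟨j, Subtype.ext (Subgroup.mem_bot.1 hj)⟩
          · rintro rfl; exact hL1 (by simp)
        · have hCab := ih C (by omega) (odd_of_le hCL hodd) (fun h1 => hpL (h1.trans (Subgroup.card_dvd_of_le hCL)))
          have hCne : Nat.card C ≠ 1 := by rwa [Ne, Subgroup.card_eq_one]
          obtain ⟨r', hr', hrd'⟩ := Nat.exists_prime_and_dvd hCne
          haveI : Fact r'.Prime := ⟨hr'⟩
          obtain ⟨z, hz⟩ := exists_prime_orderOf_dvd_card' (G := C) r' hrd'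
          refine ⟨r', hr', hrd'.trans (Subgroup.card_dvd_of_le hCL),
            { carrier := {x | x ∈ C ∧ x ^ r' = 1}
              one_mem' := ⟨C.one_mem, one_pow _⟩
              mul_mem' := ?_
              inv_mem' := ?_ }, ?_, ?_, ?_⟩
          · rintro a b ⟨ha, ha2⟩ ⟨hb, hb2⟩
            refine ⟨C.mul_mem ha hb, ?_⟩
            have h1 : Commute a b := hCab a ha b hb
            rw [h1.mul_pow, ha2, hb2, one_mul]
          · rintro a ⟨ha, ha2⟩
            exact ⟨C.inv_mem ha, by rw [inv_pow, ha2, inv_one]⟩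
          · rintro ⟨x, hx⟩
            exact ⟨1, Subtype.ext (by rw [pow_one]; exact hx.2)⟩
          · intro h0
            have h1 : (z : G) ∈ (⊥ : Subgroup G) := by
              rw [← h0]
              refine ⟨z.2, ?_⟩
              have h2 : z ^ r' = 1 := by rw [← hz]; exact pow_orderOf_eq_one z
              exact congrArg Subtype.val h2
            have h3 : z = 1 := Subtype.ext (Subgroup.mem_bot.1 h1)
            rw [h3, orderOf_one] at hz
            exact hr'.one_lt.ne hz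
          · rintro g hg x ⟨hx, hx2⟩
            exact ⟨hCn g hg x hx, by rw [conj_pow, hx2]; group⟩
      have hr2 : r' ≠ 2 := by rintro rfl; exact hodd hrd'
      have hrq : ¬ r' ∣ 2 * m + 1 := by
        rw [hpf]
        intro h1
        have := (Nat.prime_dvd_prime_iff_eq hr' hp).1 (hr'.dvd_of_dvd_pow h1)
        rw [this] at hrd'
        exact hpL hrd'
      exact N.star hr' hr2 hrq hX hX1 hodd hLX

end Neg
end CfsgLib.BW11
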