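import Mathlib
import Cfsg.Agent.EqBase
import Cfsg.Agent.LibBW11m

/-! Brauer-Suzuki-Wall: conclusion (seat helper11). -/

set_option autoImplicit false
set_option linter.all false

namespace CfsgLib.BW11

open Subgroup Cfsg CfsgLib.CharBasic

universe u

section
variable {G : Type u} [Group G] [Finite G]

theorem grow {p : ℕ} (hp : p.Prime) {P D : Subgroup G} (hP : IsPGroup p P) (hDP : D ≤ P) (hne : D ≠ P) :
    ∃ g ∈ P, g ∉ D ∧ g ∈ normalizer (D : Set G) := by
  haveI : Fact p.Prime := ⟨hp⟩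
  haveI := hP.isNilpotent
  have hnc := Group.normalizerCondition_of_isNilpotent (G := P) (D.subgroupOf P) (by
    rw [lt_top_iff_ne_top]
    intro h0
    rw [Subgroup.subgroupOf_eq_top] at h0
    exact hne (le_antisymm hDP h0))
  obtain ⟨g, hg, hg2⟩ := SetLike.exists_of_lt hnc
  refine ⟨g, g.2, fun h0 => hg2 (by rw [mem_subgroupOf]; exact h0), ?_⟩
  rw [mem_normalizer_iff] at hg ⊢
  intro x
  constructor
  · intro hx
    have := (hg ⟨x, hDP hx⟩).1 hx
    exact this
  · intro hx
    have hx2 : x ∈ P := by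
      have h1 : x = (g : G)⁻¹ * (g * x * (g : G)⁻¹) * g := by group
      rw [h1]
      exact P.mul_mem (P.mul_mem (P.inv_mem g.2) (hDP hx)) g.2
    exact (hg ⟨x, hx2⟩).2 hx

end

namespace Neg
variable {G : Type u} [Group G] [Finite G] {K : Subgroup G} {t s : G} {m : ℕ} {u : G → ℤ} (N : Neg K t s m u)
include N

theorem g0 {p f : ℕ} (hp : p.Prime) (hpf : 2 * m + 1 = p ^ f) (hall : ∀ y, Off K y → y ≠ 1 → u y = 0 → y ^ p = 1)
    {y : G} (hy : Off K y) (hy1 : y ≠ 1) (hu : u y = 0) {x : G} (hx : x * y = y * x) (hx1 : x ≠ 1)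
    (hne : centralizer ({x} : Set G) ≠ centralizer ({y} : Set G)) :
    ∃ z : G, z * y = y * z ∧ z ≠ 1 ∧ centralizer ({z} : Set G) ≠ centralizer ({y} : Set G) ∧
      Nat.card (centralizer ({y} : Set G) ⊓ centralizer ({x} : Set G) : Subgroup G) <
      Nat.card (centralizer ({y} : Set G) ⊓ centralizer ({z} : Set G) : Subgroup G) := by
  obtain ⟨hxo, hxu⟩ := N.c1 hy hy1 hu hx hx1
  have hPG : ∀ w, Off K w → w ≠ 1 → u w = 0 → IsPGroup p (centralizer ({w} : Set G)) := by
    intro w hw hw1 hwu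
    rintro ⟨z, hz⟩
    refine ⟨1, Subtype.ext ?_⟩
    show z ^ p ^ 1 = 1
    rw [pow_one]
    by_cases hz1 : z = 1
    · rw [hz1, one_pow]
    · obtain ⟨h1, h2⟩ := N.c1 hw hw1 hwu (mem_centralizer_singleton_iff.1 hz) hz1
      exact hall z h1 hz1 h2
  obtain ⟨D, hD⟩ : ∃ D : Subgroup G, D = centralizer ({y} : Set G) ⊓ centralizer ({x} : Set G) := ⟨_, rfl⟩
  have hyD : y ∈ D := by
    rw [hD, Subgroup.mem_inf, mem_centralizer_singleton_iff, mem_centralizer_singleton_iff]; exact ⟨rfl, hx.symm⟩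
  have hxD : x ∈ D := by
    rw [hD, Subgroup.mem_inf, mem_centralizer_singleton_iff, mem_centralizer_singleton_iff]; exact ⟨hx, rfl⟩
  have hDoff : ∀ w ∈ D, w ≠ 1 → Off K w := by
    intro w hw hw1
    rw [hD, Subgroup.mem_inf, mem_centralizer_singleton_iff] at hw
    exact (N.c1 hy hy1 hu hw.1 hw1).1
  have hcards : Nat.card (centralizer ({y} : Set G)) = Nat.card (centralizer ({x} : Set G)) := by
    rw [(N.d1 hy hy1 hu).1, (N.d1 hxo hx1 hxu).1]
  have hDy : D ≠ centralizer ({y} : Set G) := by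
    intro h0
    have h1 : centralizer ({y} : Set G) ≤ centralizer ({x} : Set G) := by rw [← h0, hD]; exact inf_le_right
    exact hne (Subgroup.eq_of_le_of_card_ge h1 hcards.ge).symm
  have hDx : D ≠ centralizer ({x} : Set G) := by
    intro h0
    have h1 : centralizer ({x} : Set G) ≤ centralizer ({y} : Set G) := by rw [← h0, hD]; exact inf_le_left
    exact hne (Subgroup.eq_of_le_of_card_ge h1 hcards.le)
  obtain ⟨g, hg, hgD, hgN⟩ := grow hp (hPG y hy hy1 hu) (by rw [hD]; exact inf_le_left) hDy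
  obtain ⟨g', hg', hgD', hgN'⟩ := grow hp (hPG x hxo hx1 hxu) (by rw [hD]; exact inf_le_right) hDx
  have hodd : ¬ 2 ∣ Nat.card (normalizer (D : Set G)) := by
    intro h2
    haveI : Fact (Nat.Prime 2) := ⟨Nat.prime_two⟩
    obtain ⟨a, ha⟩ := exists_prime_orderOf_dvd_card' (G := normalizer (D : Set G)) 2 h2
    have ha1 : (a : G) ≠ 1 := by
      intro h0
      have : a = 1 := Subtype.ext h0
      rw [this, orderOf_one] at ha
      norm_num at ha
    have ha2 : (a : G) * a = 1 := by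
      have h3 : a ^ 2 = 1 := by rw [← ha]; exact pow_orderOf_eq_one a
      have := congrArg Subtype.val h3
      rwa [pow_two] at this
    exact N.b1 hy hy1 hu ha2 ha1 (N.h.inv_of_norm hDoff ha2 ha1 (fun w hw => (mem_normalizer_iff.1 a.2 w).1 hw) hyD)
  obtain ⟨S, hS⟩ := N.pc hp hpf _ (normalizer (D : Set G)) le_rfl hodd
  have hSp : IsPGroup p S := by
    rintro ⟨w, hw⟩
    obtain ⟨-, j, hj⟩ := (hS w).1 hw
    exact ⟨j, Subtype.ext hj⟩
  have hmemS : ∀ w, w ∈ normalizer (D : Set G) → ∀ v, Off K v → v ≠ 1 → u v = 0 → w ∈ centralizer ({v} : Set G) → w ∈ S := by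
    intro w hw v hv hv1 hvu hwv
    rw [hS]
    refine ⟨hw, ?_⟩
    obtain ⟨j, hj⟩ := hPG v hv hv1 hvu ⟨w, hwv⟩
    exact ⟨j, congrArg Subtype.val hj⟩
  have hDS : D ≤ S := by
    intro w hw
    have hw2 := hw
    rw [hD, Subgroup.mem_inf] at hw2
    exact hmemS w (le_normalizer hw) y hy hy1 hu hw2.1
  have hS1 : S ≠ ⊥ := by
    intro h0
    have := hDS hyD
    rw [h0] at this
    exact hy1 (Subgroup.mem_bot.1 this)
  obtain ⟨z, hz, hz1, hzc⟩ := exists_central hp hSp hS1
  have hSz : S ≤ centralizer ({z} : Set G) := by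
    intro w hw
    rw [mem_centralizer_singleton_iff]; exact hzc w hw
  have hzy : z * y = y * z := (hzc y (hDS hyD)).symm
  refine ⟨z, hzy, hz1, ?_, ?_⟩
  · intro h0
    apply hgD'
    rw [hD, Subgroup.mem_inf]
    refine ⟨?_, hg'⟩
    rw [← h0]
    exact hSz (hmemS g' hgN' x hxo hx1 hxu hg')
  · rw [← hD]
    have hle : D ≤ centralizer ({y} : Set G) ⊓ centralizer ({z} : Set G) :=
      le_inf (by rw [hD]; exact inf_le_left) (hDS.trans hSz)
    by_contra hcon
    have h1 := Subgroup.eq_of_le_of_card_ge hle (not_lt.1 hcon)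
    apply hgD
    rw [h1, Subgroup.mem_inf]
    exact ⟨hg, hSz (hmemS g hgN y hy hy1 hu hg)⟩

theorem g1 {p f : ℕ} (hp : p.Prime) (hpf : 2 * m + 1 = p ^ f) (hall : ∀ y, Off K y → y ≠ 1 → u y = 0 → y ^ p = 1)
    {y : G} (hy : Off K y) (hy1 : y ≠ 1) (hu : u y = 0) : ∀ x : G, x * y = y * x → x ≠ 1 →
    centralizer ({x} : Set G) = centralizer ({y} : Set G) := by
  have aux : ∀ n : ℕ, ∀ x : G, x * y = y * x → x ≠ 1 →
      Nat.card G ≤ n + Nat.card (centralizer ({y} : Set G) ⊓ centralizer ({x} : Set G) : Subgroup G) →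
      centralizer ({x} : Set G) = centralizer ({y} : Set G) := by
    intro n
    induction n with
    | zero =>
      intro x hx hx1 hc
      by_contra hne
      obtain ⟨z, hz, hz1, hzc, hzl⟩ := N.g0 hp hpf hall hy hy1 hu hx hx1 hne
      have := Subgroup.card_le_card_group (centralizer ({y} : Set G) ⊓ centralizer ({z} : Set G))
      omega
    | succ n ih =>
      intro x hx hx1 hc
      by_contra hne
      obtain ⟨z, hz, hz1, hzc, hzl⟩ := N.g0 hp hpf hall hy hy1 hu hx hx1 hne
      exact hzc (ih z hz hz1 (by omega))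
  intro x hx hx1
  exact aux (Nat.card G) x hx hx1 (by omega)

theorem conc : ∃ Q D : Subgroup G, Conc G Q D := by
  classical
  obtain ⟨p, f, hp, hpf, hf, ⟨y, hy, hy1, hu⟩, hall, hpm, hpm1, hp2⟩ := N.e1
  have hm := N.m1
  obtain ⟨Q, hQ⟩ : ∃ Q : Subgroup G, Q = centralizer ({y} : Set G) := ⟨_, rfl⟩
  have hQc : Nat.card Q = 2 * m + 1 := by rw [hQ]; exact (N.d1 hy hy1 hu).1
  have hyQ : y ∈ Q := by rw [hQ, mem_centralizer_singleton_iff]
  have hQcent : ∀ x ∈ Q, x ≠ 1 → centralizer ({x} : Set G) = Q := by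
    intro x hx hx1
    rw [hQ] at hx ⊢
    exact N.g1 hp hpf hall hy hy1 hu x (mem_centralizer_singleton_iff.1 hx) hx1
  have hQt : ∀ x ∈ Q, x ≠ 1 → Off K x ∧ u x = 0 := by
    intro x hx hx1
    rw [hQ] at hx
    exact N.c1 hy hy1 hu (mem_centralizer_singleton_iff.1 hx) hx1
  have hc := ti_count Q (normalizer (Q : Set G)) (by
    intro g x hx hx1 hg
    exact mem_norm_of_cent (hQcent x hx hx1) (hQcent _ hg (conj_ne_one hx1))) (fun g hg x hx => (mem_normalizer_iff.1 hg x).1 hx)
  have hcount : Nat.card {w : G // ∃ g x, x ∈ Q ∧ x ≠ 1 ∧ g * x * g⁻¹ = w} = 4 * (m + 1) * m := by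
    rw [← N.Z0]
    apply Nat.card_congr
    apply Equiv.subtypeEquivRight
    intro w
    constructor
    · rintro ⟨g, x, hx, hx1, rfl⟩
      obtain ⟨h1, h2⟩ := hQt x hx hx1
      exact ⟨off_conj h1 g, conj_ne_one hx1, by rw [N.uconj, h2]⟩
    · rintro ⟨hw, hw1, hwu⟩
      rcases (N.d1 hy hy1 hu).2 w hw hw1 hwu with h1 | h1
      · obtain ⟨g, hg⟩ := isConj_iff.1 h1
        exact ⟨g, y, hyQ, hy1, hg⟩
      · obtain ⟨g, hg⟩ := isConj_iff.1 h1
        exact ⟨g, y⁻¹, Q.inv_mem hyQ, inv_ne_one.2 hy1, hg⟩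
  have hNc : Nat.card (normalizer (Q : Set G)) = (2 * m + 1) * m := by
    rw [hcount, hQc, N.cardG] at hc
    have h2 : 4 * (m + 1) * m * Nat.card (normalizer (Q : Set G)) = 4 * (m + 1) * m * ((2 * m + 1) * m) := by
      rw [hc, Nat.add_sub_cancel]; ring
    exact Nat.eq_of_mul_eq_mul_left (by positivity) h2
  -- the complement
  obtain ⟨Q', hQ'⟩ : ∃ Q' : Subgroup (normalizer (Q : Set G)), Q' = Q.subgroupOf (normalizer (Q : Set G)) := ⟨_, rfl⟩
  haveI hQn : Q'.Normal := by rw [hQ']; exact Subgroup.normal_in_normalizer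
  have hQ'c : Nat.card Q' = 2 * m + 1 := by
    rw [hQ', Nat.card_congr (Subgroup.subgroupOfEquivOfLe le_normalizer).toEquiv, hQc]
  have hidx : Q'.index = m := by
    have h1 := Q'.card_mul_index
    rw [hQ'c, hNc] at h1
    exact Nat.eq_of_mul_eq_mul_left (by omega) h1
  have hcop : Nat.Coprime (2 * m + 1) m := by
    have : Nat.Coprime (1 + 2 * m) m := by simp
    rwa [add_comm] at this
  obtain ⟨H, hH⟩ := Subgroup.exists_right_complement'_of_coprime (N := Q') (by rw [hQ'c, hidx]; exact hcop)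
  obtain ⟨D, hD⟩ : ∃ D : Subgroup G, D = H.map (normalizer (Q : Set G)).subtype := ⟨_, rfl⟩
  have hDc : Nat.card D = m := by
    have h1 : Nat.card D = Nat.card H := by
      rw [hD]
      exact Nat.card_congr (H.equivMapOfInjective _ (Subgroup.subtype_injective _)).symm.toEquiv
    have h2 := hH.card_mul
    rw [hQ'c, hNc] at h2
    rw [h1]
    exact Nat.eq_of_mul_eq_mul_left (by omega) h2
  have hQD : Q ⊓ D = ⊥ := by
    rw [eq_bot_iff]
    rintro x ⟨hxQ, hxD⟩
    rw [hD] at hxD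
    obtain ⟨w, hw, rfl⟩ := hxD
    have h1 : w ∈ Q' ⊓ H := ⟨by rw [hQ']; exact mem_subgroupOf.2 hxQ, hw⟩
    rw [hH.disjoint.eq_bot, Subgroup.mem_bot] at h1
    rw [h1]; simp
  have hsup : normalizer (Q : Set G) = Q ⊔ D := by
    apply le_antisymm
    · intro n hn
      have h1 : (⟨n, hn⟩ : normalizer (Q : Set G)) ∈ Q' ⊔ H := by rw [hH.sup_eq_top]; trivial
      rw [Subgroup.mem_sup_of_normal_left] at h1
      obtain ⟨a, ha, b, hb, hab⟩ := h1
      have h2 : (a : G) * b = n := congrArg Subtype.val hab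
      rw [← h2]
      apply mul_mem
      · apply Subgroup.mem_sup_left
        rw [hQ', mem_subgroupOf] at ha
        exact ha
      · apply Subgroup.mem_sup_right
        rw [hD]
        exact ⟨b, hb, rfl⟩
    · apply sup_le le_normalizer
      rw [hD]
      exact Subgroup.map_subtype_le _
  have hDodd : ¬ 2 ∣ Nat.card D := by rw [hDc]; exact N.odd
  have hDp : ¬ p ∣ Nat.card D := by rw [hDc]; exact hpm
  have hDab := N.ab hp hpf _ D le_rfl hDodd hDp
  have hDt : ∀ x ∈ D, x ≠ 1 → Off K x ∧ u x = -1 := by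
    intro x hx hx1
    have h1 : ∀ {H : Subgroup G} {y : G}, y ∈ H → orderOf y ∣ Nat.card H := by
      intro H y hy
      have := orderOf_dvd_natCard (⟨y, hy⟩ : H)
      rwa [← Subgroup.orderOf_coe] at this
    have h2 : orderOf x ∣ m := by rw [← hDc]; exact h1 hx
    have hself : x ∈ centralizer ({x} : Set G) := by rw [mem_centralizer_singleton_iff]
    by_cases ho : Off K x
    · rcases N.uval x ho hx1 with h3 | h3
      · exfalso
        have h4 : orderOf x ∣ 2 * m + 1 := by rw [← (N.d1 ho hx1 h3).1]; exact h1 hself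
        have h5 := Nat.dvd_gcd h4 h2
        rw [hcop.gcd_eq_one] at h5
        exact hx1 (orderOf_eq_one_iff.1 (Nat.dvd_one.1 h5))
      · exact ⟨ho, h3⟩
    · exfalso
      unfold Off at ho
      push Not at ho
      obtain ⟨k, hk, hk1, hkc⟩ := ho
      have h3 : orderOf x = orderOf k := by
        obtain ⟨g, rfl⟩ := isConj_iff.1 hkc
        exact orderOf_injective (MulAut.conj g).toMonoidHom (MulAut.conj g).injective k
      have h4 : orderOf x ∣ m + 1 := by rw [h3, ← N.kK]; exact h1 hk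
      have h5 := Nat.dvd_sub h4 h2
      rw [Nat.add_sub_cancel_left] at h5
      exact hx1 (orderOf_eq_one_iff.1 (Nat.dvd_one.1 h5))
  have hDcent : ∀ x ∈ D, x ≠ 1 → centralizer ({x} : Set G) = D := by
    intro x hx hx1
    obtain ⟨h1, h2⟩ := hDt x hx hx1
    symm
    apply Subgroup.eq_of_le_of_card_ge
    · intro w hw
      rw [mem_centralizer_singleton_iff]; exact hDab w hw x hx
    · rw [(N.a1 h1 hx1 h2).1, hDc]
  refine ⟨Q, D, ?_, hQcent, hDab, by rw [hDc, hQc], hQD, hsup, ?_⟩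
  · rw [N.cardG, hQc, Nat.add_sub_cancel]; ring
  · intro X hX hX1
    obtain ⟨x, hx, hx1⟩ : ∃ x ∈ X, x ≠ 1 := by
      by_contra hcon
      push Not at hcon
      exact hX1 ((Subgroup.eq_bot_iff_forall X).2 hcon)
    obtain ⟨hxo, hxu⟩ := hDt x (hX hx) hx1
    obtain ⟨-, -, ⟨a, ha, ha1, hinv⟩, -⟩ := N.a1 hxo hx1 hxu
    have hND : Nat.card (normalizer (D : Set G)) = 2 * m := by
      rw [← hDcent x (hX hx) hx1]; exact (N.f1 hxo hx1 hxu).1
    have hinvD : ∀ d ∈ D, a * d * a⁻¹ = d⁻¹ := fun d hd => hinv d (hDab d hd x (hX hx))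
    have haD : a ∉ D := fun h0 => ha1 (order_prime_of_invol hDodd h0 ha)
    have hai : a⁻¹ = a := inv_eq_of_mul_eq_one_left ha
    have haN : ∀ Y : Subgroup G, Y ≤ D → a ∈ normalizer (Y : Set G) := by
      intro Y hY
      rw [mem_normalizer_iff]
      intro w
      constructor
      · intro hw
        rw [hinvD w (hY hw)]; exact Y.inv_mem hw
      · intro hw
        have h1 := hinvD _ (hY hw)
        have h2 : a * (a * w * a⁻¹) * a⁻¹ = w := by
          calc a * (a * w * a⁻¹) * a⁻¹ = (a * a) * w * (a * a)⁻¹ := by group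
            _ = w := by rw [ha]; group
        rw [← h2, h1]; exact Y.inv_mem hw
    have hDN : D ⊔ zpowers a ≤ normalizer (D : Set G) := by
      apply sup_le le_normalizer
      rw [zpowers_le]; exact haN D le_rfl
    have hDa : normalizer (D : Set G) = D ⊔ zpowers a := by
      symm
      apply Subgroup.eq_of_le_of_card_ge hDN
      rw [hND]
      have h1 : Nat.card D ∣ Nat.card (D ⊔ zpowers a : Subgroup G) := Subgroup.card_dvd_of_le le_sup_left
      obtain ⟨c, hc⟩ := h1
      rw [hDc] at hc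
      have h2 : Nat.card (D ⊔ zpowers a : Subgroup G) ≠ Nat.card D := by
        intro h0
        have h3 := Subgroup.eq_of_le_of_card_ge (le_sup_left : D ≤ D ⊔ zpowers a) h0.le
        apply haD
        rw [h3]
        exact Subgroup.mem_sup_right (mem_zpowers a)
      have h4 : 0 < Nat.card (D ⊔ zpowers a : Subgroup G) := Nat.card_pos
      have hc2 : 2 ≤ c := by
        rcases Nat.lt_or_ge c 2 with h5 | h5
        · interval_cases c
          · omega
          · omega
        · exact h5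
      rw [hc, mul_comm 2]
      exact Nat.mul_le_mul_left _ hc2
    refine ⟨?_, a, orderOf_eq_prime (by rw [pow_two]; exact ha) ha1, haD, hinvD, hDa⟩
    apply le_antisymm
    · intro g hg
      have h1 := (mem_normalizer_iff.1 hg x).1 hx
      exact mem_norm_of_cent (hDcent x (hX hx) hx1) (hDcent _ (hX h1) (conj_ne_one hx1))
    · rw [hDa]
      apply sup_le
      · intro d hd
        rw [mem_normalizer_iff]
        intro w
        constructor
        · intro hw
          rw [hDab d hd w (hX hw), mul_inv_cancel_right]; exact hw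
        · intro hw
          have h1 := hDab d⁻¹ (D.inv_mem hd) _ (hX hw)
          have h2 : w = d⁻¹ * (d * w * d⁻¹) * d := by group
          rw [h2, h1, inv_mul_cancel_right]; exact hw
      · rw [zpowers_le]; exact haN X hX

end Neg

/-- **the Brauer-Suzuki-Wall theorem**, abstract form -/
theorem BW.conc {G : Type u} [Group G] [Finite G] {K : Subgroup G} {t s : G} (h : BW K t s) : ∃ Q D : Subgroup G, Conc G Q D := by
  classical
  letI : Fintype G := Fintype.ofFinite G
  letI : Fintype K := Fintype.ofFinite K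
  obtain ⟨c, u, hc, hcard, huc, hui, hval, hF, hZ0, hZ1⟩ := values h
  rcases hc with hc | hc
  · exact case_one h hc hcard huc hval (fun y hy => (hF y hy).1 hc) hZ0
  · have hT := card_T h
    obtain ⟨k, hk⟩ : ∃ k : ℕ, k = Nat.card K := ⟨_, rfl⟩
    have hke := h.even_card
    have hkp : 0 < Nat.card K := Nat.card_pos
    rw [← hk] at hke hkp hcard hT hZ0 hZ1
    obtain ⟨m, rfl⟩ : ∃ m, k = m + 1 := ⟨k - 1, by omega⟩
    have hm1 : 1 ≤ m := by omega
    subst hc
    have hG : Nat.card G = 2 * (m + 1) * m * (2 * m + 1) := by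
      have h1 : (Nat.card G : ℤ) = ((2 * (m + 1) * m * (2 * m + 1) : ℕ) : ℤ) := by
        rw [hcard]; push_cast; ring
      exact_mod_cast h1
    have hTc : Nat.card {y : G // ¬ Off K y} = (2 * m + 1) * m * m := by
      rw [hG, Nat.add_sub_cancel] at hT
      have h1 : Nat.card {y : G // ¬ Off K y} * (2 * (m + 1)) = (2 * m + 1) * m * m * (2 * (m + 1)) := by rw [hT]; ring
      exact Nat.eq_of_mul_eq_mul_right (by omega) h1
    refine Neg.conc (K := K) (t := t) (s := s) (m := m) (u := u) ⟨h, hk.symm, hm1, hG, by omega, huc, hui, hval, ?_, ?_, ?_, ?_⟩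
    · intro y hy hu
      have h1 := (hF y hy).2 rfl
      rw [hu, mul_zero, neg_zero] at h1
      exact_mod_cast h1
    · intro y hy hu
      have h1 := (hF y hy).2 rfl
      rw [hu, ← hk] at h1
      push_cast at h1
      have h2 : (FF t y : ℤ) = (m : ℤ) := by rw [h1]; ring
      exact_mod_cast h2
    · have h1 : (Nat.card {y : G // Off K y ∧ y ≠ 1 ∧ u y = 0} : ℤ) = ((4 * (m + 1) * m : ℕ) : ℤ) := by
        rw [hZ0]; push_cast; ring
      exact_mod_cast h1
    · obtain ⟨n, hn⟩ : ∃ n, m = n + 1 := ⟨m - 1, by omega⟩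
      have h1 : (Nat.card {y : G // Off K y ∧ y ≠ 1 ∧ u y = -1} : ℤ) = (((2 * m + 1) * (m + 1) * (m - 1) : ℕ) : ℤ) := by
        rw [hZ1, hTc, hn, Nat.add_sub_cancel]; push_cast; ring
      exact_mod_cast h1

end CfsgLib.BW11
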