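import Mathlib
import Cfsg.Agent.EqBase
import Cfsg.Agent.LibBW11n
import Cfsg.Agent.LibZas11d

/-! From the conclusion of the Brauer-Suzuki-Wall theorem to `PSL(2, q)` (seat helper11). -/

set_option autoImplicit false
set_option linter.all false

namespace CfsgLib.BW11

open Subgroup Cfsg

universe u

/-- a simple group of the Brauer-Suzuki-Wall structure is `PSL(2, q)` -/
theorem Conc.psl {G : Type u} [Group G] [Finite G] [IsSimpleGroup G] {Q D : Subgroup G} (h : Conc G Q D) :
    ∃ (F : Type) (_ : Field F) (_ : Fintype F), Fintype.card F = Nat.card Q ∧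
      Nonempty (G ≃* Matrix.ProjectiveSpecialLinearGroup (Fin 2) F) := by
  classical
  obtain ⟨hcard, hcent, hDab, hQD, hdisj, hN, hX⟩ := h
  obtain ⟨M, hM⟩ : ∃ M : Subgroup G, M = normalizer (Q : Set G) := ⟨_, rfl⟩
  have hQM : Q ≤ M := by rw [hM]; exact le_normalizer
  have hDM : D ≤ M := by rw [hM, hN]; exact le_sup_right
  have hDN : D ≤ normalizer (Q : Set G) := hM ▸ hDM
  have hQab : ∀ x ∈ Q, ∀ y ∈ Q, x * y = y * x := by
    intro x hx y hy
    by_cases hy1 : y = 1
    · rw [hy1, mul_one, one_mul]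
    · have := hcent y hy hy1
      rw [← this] at hx
      exact mem_centralizer_singleton_iff.1 hx
  have hprod : ∀ g ∈ M, ∃ v ∈ Q, ∃ d ∈ D, v * d = g := by
    intro g hg
    have h1 : (g : G) ∈ ((Q ⊔ D : Subgroup G) : Set G) := by rw [← hN, ← hM]; exact hg
    rw [Subgroup.coe_mul_of_right_le_normalizer_left Q D hDN] at h1
    obtain ⟨v, hv, d, hd, rfl⟩ := h1
    exact ⟨v, hv, d, hd, rfl⟩
  have hdis : ∀ x ∈ Q, x ∈ D → x = 1 := by
    intro x h1 h2
    have : x ∈ Q ⊓ D := ⟨h1, h2⟩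
    rw [hdisj] at this
    exact Subgroup.mem_bot.1 this
  have hDpos : 0 < Nat.card D := Nat.card_pos
  have hMc : Nat.card M = Nat.card Q * Nat.card D := by
    rw [← Nat.card_prod]
    symm
    apply Nat.card_congr
    refine Equiv.ofBijective (fun p : Q × D => (⟨p.1 * p.2, M.mul_mem (hQM p.1.2) (hDM p.2.2)⟩ : M)) ⟨?_, ?_⟩
    · rintro ⟨⟨v, hv⟩, ⟨d, hd⟩⟩ ⟨⟨v', hv'⟩, ⟨d', hd'⟩⟩ he
      have h1 : v * d = v' * d' := congrArg Subtype.val he
      have h2 : v'⁻¹ * v = d' * d⁻¹ := by
        rw [eq_mul_inv_iff_mul_eq, mul_assoc, h1]; group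
      have h3 := hdis _ (Q.mul_mem (Q.inv_mem hv') hv) (by rw [h2]; exact D.mul_mem hd' (D.inv_mem hd))
      have h4 : v = v' := by rw [inv_mul_eq_one] at h3; exact h3.symm
      subst h4
      have h5 : d = d' := mul_left_cancel h1
      subst h5
      rfl
    · rintro ⟨g, hg⟩
      obtain ⟨v, hv, d, hd, rfl⟩ := hprod g hg
      exact ⟨⟨⟨v, hv⟩, ⟨d, hd⟩⟩, rfl⟩
  have hidxM : M.index = Nat.card Q + 1 := by
    have h1 := M.card_mul_index
    rw [hMc] at h1
    have h2 : Nat.card Q - 1 = 2 * Nat.card D := by omega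
    rw [h2, ← h1] at hcard
    have h3 : (2 * Nat.card Q * Nat.card D) * M.index = (2 * Nat.card Q * Nat.card D) * (Nat.card Q + 1) := by
      calc (2 * Nat.card Q * Nat.card D) * M.index = 2 * (Nat.card Q * Nat.card D * M.index) := by ring
        _ = _ := by rw [hcard]; ring
    exact Nat.eq_of_mul_eq_mul_left (Nat.mul_pos (Nat.mul_pos two_pos Nat.card_pos) hDpos) h3
  have hQn : (Q.subgroupOf M).Normal := by rw [hM]; exact Subgroup.normal_in_normalizer
  have hQidx : (Q.subgroupOf M).index = Nat.card D := by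
    have h1 := (Q.subgroupOf M).card_mul_index
    rw [Nat.card_congr (Subgroup.subgroupOfEquivOfLe hQM).toEquiv, hMc] at h1
    exact Nat.eq_of_mul_eq_mul_left Nat.card_pos h1
  have hcop : Nat.Coprime (Nat.card D) (Nat.card Q) := by
    rw [← hQD]; simp
  -- elements of `Q` have only one fixed point
  have hfixQ : ∀ x ∈ Q, x ≠ 1 → ∀ g : G, g⁻¹ * x * g ∈ M → g ∈ M := by
    intro x hx hx1 g hg
    have hw1 : g⁻¹ * x * g ≠ 1 := by
      intro h0
      apply hx1
      calc x = g * (g⁻¹ * x * g) * g⁻¹ := by group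
        _ = 1 := by rw [h0]; group
    have hwQ : g⁻¹ * x * g ∈ Q := by
      have h1 : (⟨g⁻¹ * x * g, hg⟩ : M) ∈ Q.subgroupOf M := by
        apply mem_of_coprime hcop
        · rw [← hQidx]; exact Subgroup.pow_index_mem _ _
        · have h2 : x ^ Nat.card Q = 1 := congrArg Subtype.val (pow_card_eq_one' (x := (⟨x, hx⟩ : Q)))
          have h3 : (⟨g⁻¹ * x * g, hg⟩ : M) ^ Nat.card Q = 1 := by
            apply Subtype.ext
            show (g⁻¹ * x * g) ^ Nat.card Q = 1
            have h4 := conj_pow (a := g⁻¹) (b := x) (i := Nat.card Q)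
            rw [inv_inv, h2] at h4
            rw [h4]; group
          rw [h3]; exact Subgroup.one_mem _
      exact h1
    rw [hM]
    apply mem_norm_of_cent (hcent _ hwQ hw1)
    have e : g * (g⁻¹ * x * g) * g⁻¹ = x := by group
    rw [e]; exact hcent x hx hx1
  -- `D` is nontrivial
  have hD1 : D ≠ ⊥ := by
    intro hD
    have hDc : Nat.card D = 1 := by rw [hD]; simp
    have hQ3 : Nat.card Q = 3 := by omega
    have hG12 : Nat.card G = 12 := by rw [hQ3] at hcard; omega
    have hMQ : M = Q := by rw [hM, hN, hD, sup_bot_eq]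
    have h3 : Nat.Prime 3 := Nat.prime_three
    obtain ⟨C, hC1, hC2, hC3, hC4⟩ := burn (L := (⊤ : Subgroup G)) h3 (by rw [Subgroup.card_top, hG12]; norm_num) (by
      intro R hR hRp hR1 a ha b hb hna hnb
      haveI : Fact (Nat.Prime 3) := ⟨h3⟩
      haveI : Nontrivial R := (Subgroup.nontrivial_iff_ne_bot R).2 hR1
      obtain ⟨z, hz⟩ := exists_prime_orderOf_dvd_card' (G := R) 3 (by
        obtain ⟨n, hn⟩ := IsPGroup.iff_card.1 hRp
        have hn0 : n ≠ 0 := by
          rintro rfl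
          rw [pow_zero, Subgroup.card_eq_one] at hn
          exact hR1 hn
        rw [hn]; exact dvd_pow_self 3 hn0)
      have hzo : orderOf (z : G) = 3 := by rw [Subgroup.orderOf_coe, hz]
      have hRc : Nat.card R = 3 := by
        obtain ⟨n, hn⟩ := IsPGroup.iff_card.1 hRp
        have h5 : Nat.card R ∣ 12 := by rw [← hG12]; exact Subgroup.card_subgroup_dvd_card R
        rw [hn] at h5 ⊢
        rcases n with _ | _ | n
        · exfalso
          rw [pow_zero, Subgroup.card_eq_one] at hn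
          exact hR1 hn
        · norm_num
        · exfalso
          have h6 : 3 ^ 2 ∣ 12 := (pow_dvd_pow 3 (by omega)).trans h5
          revert h6; norm_num
      have hRz : R = zpowers (z : G) := by
        symm
        apply Subgroup.eq_of_le_of_card_ge
        · rw [zpowers_le]; exact z.2
        · rw [hRc, Nat.card_zpowers, hzo]
      have hidxQ : Q.index = 4 := by rw [← hMQ, hidxM, hQ3]
      obtain ⟨g, hg⟩ := conj_into h3 Q (by rw [hidxQ]; norm_num) hzo
      have hz1 : (z : G) ≠ 1 := by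
        intro h0; rw [h0, orderOf_one] at hzo; norm_num at hzo
      have hgR : ∀ x ∈ R, g * x * g⁻¹ ∈ Q := by
        intro x hx
        rw [hRz, mem_zpowers_iff] at hx
        obtain ⟨j, rfl⟩ := hx
        have h6 : g * (z : G) ^ j * g⁻¹ = (g * z * g⁻¹) ^ j := by rw [conj_zpow]
        rw [h6]; exact Q.zpow_mem hg j
      have key : ∀ c : G, (∀ x ∈ R, c * x * c⁻¹ ∈ R) → g * c * g⁻¹ ∈ Q := by
        intro c hc
        have h6 : g * c⁻¹ * g⁻¹ ∈ M := by
          apply hfixQ _ hg (conj_ne_one hz1)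
          have e : (g * c⁻¹ * g⁻¹)⁻¹ * (g * z * g⁻¹) * (g * c⁻¹ * g⁻¹) = g * (c * z * c⁻¹) * g⁻¹ := by group
          rw [e]
          exact hQM (hgR _ (hc z z.2))
        rw [hMQ] at h6
        have e : g * c * g⁻¹ = (g * c⁻¹ * g⁻¹)⁻¹ := by group
        rw [e]; exact Q.inv_mem h6
      have h7 := hQab _ (key a hna) _ (key b hnb)
      calc a * b = g⁻¹ * ((g * a * g⁻¹) * (g * b * g⁻¹)) * g := by group
        _ = g⁻¹ * ((g * b * g⁻¹) * (g * a * g⁻¹)) * g := by rw [h7]
        _ = b * a := by group)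
    have hCn : C.Normal := ⟨fun n hn g => hC2 g trivial n hn⟩
    rcases hCn.eq_bot_or_eq_top with h5 | h5
    · haveI : Fact (Nat.Prime 2) := ⟨Nat.prime_two⟩
      obtain ⟨z, hz⟩ := exists_prime_orderOf_dvd_card' (G := G) 2 (by rw [hG12]; norm_num)
      obtain ⟨j, hj⟩ := hC4 z trivial
      rw [h5, Subgroup.mem_bot] at hj
      have h6 := orderOf_dvd_of_pow_eq_one hj
      rw [hz] at h6
      have h7 := Nat.prime_two.dvd_of_dvd_pow h6
      revert h7; norm_num
    · rw [h5, Subgroup.card_top] at hC3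
      exact lt_irrefl _ hC3
  obtain ⟨-, u, hu, huD, hinv, hND⟩ := hX D le_rfl hD1
  obtain ⟨d₀, hd₀, hd₁⟩ : ∃ x ∈ D, x ≠ 1 := by
    by_contra hcon
    push Not at hcon
    exact hD1 ((Subgroup.eq_bot_iff_forall D).2 hcon)
  have hu2 : u * u = 1 := by rw [← pow_two, ← hu]; exact pow_orderOf_eq_one u
  have hui : u⁻¹ = u := inv_eq_of_mul_eq_one_left hu2
  have huM : u ∉ M := by
    intro hcon
    obtain ⟨v, hv, d, hd, hvd⟩ := hprod u hcon
    by_cases hv1 : v = 1
    · rw [hv1, one_mul] at hvd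
      exact huD (hvd ▸ hd)
    · have h1 := hinv d₀ hd₀
      rw [← hvd] at h1
      have h2 : v * d₀ * v⁻¹ = d₀⁻¹ := by
        rw [← h1]
        have h3 := hDab d hd d₀ hd₀
        calc v * d₀ * v⁻¹ = v * (d₀ * d) * d⁻¹ * v⁻¹ := by group
          _ = v * (d * d₀) * d⁻¹ * v⁻¹ := by rw [h3]
          _ = v * d * d₀ * (v * d)⁻¹ := by group
      have h3 : v * (d₀ * v⁻¹ * d₀⁻¹) ∈ Q := Q.mul_mem hv (by
        have := (mem_normalizer_iff.1 (hDN hd₀) v⁻¹).1 (Q.inv_mem hv)
        exact this)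
      have h4 : v * (d₀ * v⁻¹ * d₀⁻¹) = (d₀⁻¹ * d₀⁻¹) := by
        calc v * (d₀ * v⁻¹ * d₀⁻¹) = (v * d₀ * v⁻¹) * d₀⁻¹ := by group
          _ = _ := by rw [h2]
      have h5 := hdis _ h3 (by rw [h4]; exact D.mul_mem (D.inv_mem hd₀) (D.inv_mem hd₀))
      have h6 : d₀ * v = v * d₀ := by
        have h7 : v * d₀ * v⁻¹ * d₀⁻¹ = 1 := by rw [← h5]; group
        rw [mul_inv_eq_one, mul_inv_eq_iff_eq_mul] at h7
        exact h7.symm
      have h7 : d₀ ∈ centralizer ({v} : Set G) := mem_centralizer_singleton_iff.2 h6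
      rw [hcent v hv hv1] at h7
      exact hd₁ (hdis _ h7 hd₀)
  -- the action
  have hmk : ∀ g x : G, g • (QuotientGroup.mk x : G ⧸ M) = QuotientGroup.mk (g * x) := fun g x => rfl
  have hfixi : ∀ g x : G, g • (QuotientGroup.mk x : G ⧸ M) = QuotientGroup.mk x ↔ x⁻¹ * g * x ∈ M := by
    intro g x
    rw [hmk, eq_comm, QuotientGroup.eq, mul_assoc]
  have hS : CfsgLib.Zas11.Setup (Ω := G ⧸ M) Q D (QuotientGroup.mk 1) (QuotientGroup.mk u) := by
    have hne : (QuotientGroup.mk u : G ⧸ M) ≠ QuotientGroup.mk 1 := by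
      intro h0
      rw [eq_comm, QuotientGroup.eq, inv_one, one_mul] at h0
      exact huM h0
    have hQi : ∀ v ∈ Q, v • (QuotientGroup.mk 1 : G ⧸ M) = QuotientGroup.mk 1 := by
      intro v hv
      rw [hfixi, inv_one, one_mul, mul_one]; exact hQM hv
    have hDi : ∀ v ∈ D, v • (QuotientGroup.mk 1 : G ⧸ M) = QuotientGroup.mk 1 := by
      intro v hv
      rw [hfixi, inv_one, one_mul, mul_one]; exact hDM hv
    have hDo : ∀ d ∈ D, d • (QuotientGroup.mk u : G ⧸ M) = QuotientGroup.mk u := by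
      intro d hd
      rw [hfixi, hui]
      have := hinv d hd
      rw [hui] at this
      rw [this]; exact hDM (D.inv_mem hd)
    have hinj : ∀ v ∈ Q, v • (QuotientGroup.mk u : G ⧸ M) = QuotientGroup.mk u → v = 1 := by
      intro v hv hvo
      by_contra hv1
      rw [hfixi] at hvo
      exact huM (hfixQ v hv hv1 u hvo)
    refine ⟨?_, hQi, hDi, hDo, ?_, hne, ?_, hinj, hQab, hDab, ?_, ?_⟩
    · intro g hg
      have h1 : (MulAction.toPermHom G (G ⧸ M)).ker.Normal := inferInstance
      rcases h1.eq_bot_or_eq_top with h2 | h2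
      · have h3 : g ∈ (MulAction.toPermHom G (G ⧸ M)).ker := by
          rw [MonoidHom.mem_ker]
          ext ω
          exact hg ω
        rw [h2] at h3
        exact Subgroup.mem_bot.1 h3
      · exfalso
        have h3 : u ∈ (MulAction.toPermHom G (G ⧸ M)).ker := by rw [h2]; trivial
        rw [MonoidHom.mem_ker] at h3
        have h4 : u • (QuotientGroup.mk 1 : G ⧸ M) = QuotientGroup.mk 1 :=
          congrArg (fun f : Equiv.Perm (G ⧸ M) => f (QuotientGroup.mk 1)) h3
        rw [hfixi, inv_one, one_mul, mul_one] at h4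
        exact huM h4
    · intro g h1 h2
      rw [hfixi, inv_one, one_mul, mul_one] at h1
      obtain ⟨v, hv, d, hd, rfl⟩ := hprod g h1
      rw [mul_smul, hDo d hd] at h2
      rw [hinj v hv h2, one_mul]; exact hd
    · intro ω hω
      letI : Fintype (G ⧸ M) := Fintype.ofFinite _
      obtain ⟨f, hf⟩ : ∃ f : Q → {ω : G ⧸ M // ω ≠ QuotientGroup.mk 1}, ∀ v, (f v : G ⧸ M) = (v : G) • (QuotientGroup.mk u : G ⧸ M) := by
        refine ⟨fun v => ⟨(v : G) • (QuotientGroup.mk u : G ⧸ M), ?_⟩, fun _ => rfl⟩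
        intro h0
        apply hne
        have h1 := hQi _ (Q.inv_mem v.2)
        rw [← h0, smul_smul, inv_mul_cancel, one_smul] at h1
        rw [h1]; exact h0
      have hfi : Function.Injective f := by
        intro v v' he
        have h1 : (v : G) • (QuotientGroup.mk u : G ⧸ M) = (v' : G) • (QuotientGroup.mk u : G ⧸ M) := by rw [← hf, ← hf, he]
        have h2 := hinj ((v' : G)⁻¹ * v) (Q.mul_mem (Q.inv_mem v'.2) v.2) (by
          rw [mul_smul, h1, smul_smul, inv_mul_cancel, one_smul])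
        rw [inv_mul_eq_one] at h2
        exact Subtype.ext h2.symm
      have hcard' : Nat.card {ω : G ⧸ M // ω ≠ QuotientGroup.mk 1} = Nat.card Q := by
        have h1 : Nat.card (G ⧸ M) = Nat.card Q + 1 := by rw [← hidxM]; rfl
        rw [Nat.card_eq_fintype_card, Fintype.card_subtype_compl, Fintype.card_subtype_eq, ← Nat.card_eq_fintype_card, h1, Nat.add_sub_cancel]
      have hfs : Function.Surjective f := by
        letI : Fintype Q := Fintype.ofFinite _
        refine ((Fintype.bijective_iff_injective_and_card f).2 ⟨hfi, ?_⟩).2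
        rw [← Nat.card_eq_fintype_card, ← Nat.card_eq_fintype_card, hcard']
      obtain ⟨v, hv⟩ := hfs ⟨ω, hω⟩
      exact ⟨v, v.2, by rw [← hf, hv]⟩
    · intro d hd v hv
      exact (mem_normalizer_iff.1 (hDN hd) v).1 hv
    · intro d hd hd1 v hv he
      by_contra hv1
      have h7 : d ∈ centralizer ({v} : Set G) := by
        rw [mem_centralizer_singleton_iff]
        rw [mul_inv_eq_iff_eq_mul] at he; exact he
      rw [hcent v hv hv1] at h7
      exact hd1 (hdis _ h7 hd)
  exact hS.psl hQD (t := u) (by rw [hmk, mul_one]) (by rw [hmk, hu2]) hinv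

end CfsgLib.BW11
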