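import Mathlib
import Cfsg.Agent.EqBase
import Cfsg.Agent.LibBW11o
import Cfsg.Agent.LibThompTr
import Cfsg.Agent.LibZStar

/-! The Brauer-Suzuki-Wall hypotheses from a dihedral Sylow subgroup (seat helper11). -/

set_option autoImplicit false
set_option linter.all false

namespace CfsgLib.BW11

open Subgroup Cfsg

universe u

theorem eq_one_of_pow_coprime {G : Type u} [Group G] {x : G} {a b : ℕ} (hab : Nat.Coprime a b) (ha : x ^ a = 1) (hb : x ^ b = 1) : x = 1 := by
  have h1 := Nat.dvd_gcd (orderOf_dvd_of_pow_eq_one ha) (orderOf_dvd_of_pow_eq_one hb)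
  rw [hab.gcd_eq_one] at h1
  exact orderOf_eq_one_iff.1 (Nat.dvd_one.1 h1)

theorem pow_card_mem {G : Type u} [Group G] {H : Subgroup G} {x : G} (hx : x ∈ H) : x ^ Nat.card H = 1 :=
  congrArg Subtype.val (pow_card_eq_one' (x := (⟨x, hx⟩ : H)))

/-- the Brauer-Suzuki-Wall hypotheses from local hypotheses -/
theorem bw_of_local {G : Type u} [Group G] [Finite G] (S : Subgroup G) (hS2 : IsPGroup 2 S) (A O : Subgroup G) (t : G)
    (hAS : A ≤ S) (hA : IsCyclic A) (hAi : A.relIndex S = 2) (ht : orderOf t = 2) (htA : t ∈ A)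
    (hout : ∀ s ∈ S, s ∉ A → s * s = 1 ∧ ∀ a ∈ A, s * a * s⁻¹ = a⁻¹)
    (hAO : ∀ a ∈ A, ∀ y ∈ O, a * y = y * a)
    (hOinv : ∀ s ∈ S, s ∉ A → ∀ y ∈ O, s * y * s⁻¹ = y⁻¹)
    (hOodd : ¬ 2 ∣ Nat.card O)
    (hC : ∀ g, g * t = t * g ↔ ∃ y ∈ O, ∃ w ∈ S, y * w = g)
    (hc : ∀ Y : Subgroup G, Y ≤ O → Y ≠ ⊥ → normalizer (Y : Set G) ≤ centralizer ({t} : Set G))
    (hcj : ∀ x, x * x = 1 → x ≠ 1 → IsConj t x) :
    ∃ (K : Subgroup G) (s : G), BW K t s := by
  classical
  haveI : Fact (Nat.Prime 2) := ⟨Nat.prime_two⟩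
  have ht2 : t * t = 1 := by rw [← pow_two, ← ht]; exact pow_orderOf_eq_one t
  have ht1 : t ≠ 1 := by rintro rfl; rw [orderOf_one] at ht; norm_num at ht
  obtain ⟨s, hsS, hsA⟩ : ∃ s ∈ S, s ∉ A := by
    by_contra hcon
    push Not at hcon
    have h1 : A = S := le_antisymm hAS hcon
    rw [h1, Subgroup.relIndex_self] at hAi
    norm_num at hAi
  obtain ⟨hs2, hsinv⟩ := hout s hsS hsA
  have hsO := hOinv s hsS hsA
  have hsi : s⁻¹ = s := inv_eq_of_mul_eq_one_left hs2
  have hAab : ∀ a ∈ A, ∀ b ∈ A, a * b = b * a := by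
    intro a ha b hb
    haveI := hA.commutative
    exact congrArg Subtype.val (Std.Commutative.comm (op := (· * · : A → A → A)) ⟨a, ha⟩ ⟨b, hb⟩)
  have hOab : ∀ a ∈ O, ∀ b ∈ O, a * b = b * a := by
    intro a ha b hb
    have h1 := hsO (a * b) (O.mul_mem ha hb)
    have h2 : s * (a * b) * s⁻¹ = (s * a * s⁻¹) * (s * b * s⁻¹) := by group
    rw [h2, hsO a ha, hsO b hb, ← mul_inv_rev] at h1
    exact (inv_injective h1).symm
  have hcopSO : Nat.Coprime (Nat.card S) (Nat.card O) := by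
    obtain ⟨n, hn⟩ := IsPGroup.iff_card.1 hS2
    rw [hn]
    exact Nat.Coprime.pow_left n ((Nat.Prime.coprime_iff_not_dvd Nat.prime_two).2 hOodd)
  have hSO : ∀ x ∈ S, x ∈ O → x = 1 := fun x h1 h2 => eq_one_of_pow_coprime hcopSO (pow_card_mem h1) (pow_card_mem h2)
  -- the subgroup `K`
  obtain ⟨K, hK⟩ : ∃ K : Subgroup G, ∀ g, g ∈ K ↔ ∃ y ∈ O, ∃ a ∈ A, y * a = g :=
    ⟨{ carrier := {g | ∃ y ∈ O, ∃ a ∈ A, y * a = g}
       one_mem' := ⟨1, O.one_mem, 1, A.one_mem, one_mul 1⟩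
       mul_mem' := by
         rintro _ _ ⟨y, hy, a, ha, rfl⟩ ⟨y', hy', a', ha', rfl⟩
         refine ⟨y * y', O.mul_mem hy hy', a * a', A.mul_mem ha ha', ?_⟩
         have := hAO a ha y' hy'
         calc y * y' * (a * a') = y * (y' * a) * a' := by group
           _ = y * (a * y') * a' := by rw [this]
           _ = y * a * (y' * a') := by group
       inv_mem' := by
         rintro _ ⟨y, hy, a, ha, rfl⟩
         refine ⟨y⁻¹, O.inv_mem hy, a⁻¹, A.inv_mem ha, ?_⟩
         have := hAO a⁻¹ (A.inv_mem ha) y⁻¹ (O.inv_mem hy)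
         rw [mul_inv_rev, this] }, fun g => Iff.rfl⟩
  have hAK : ∀ a ∈ A, a ∈ K := fun a ha => (hK a).2 ⟨1, O.one_mem, a, ha, one_mul a⟩
  have hOK : ∀ y ∈ O, y ∈ K := fun y hy => (hK y).2 ⟨y, hy, 1, A.one_mem, mul_one y⟩
  have hKab : ∀ x ∈ K, ∀ y ∈ K, x * y = y * x := by
    intro x hx x' hx'
    obtain ⟨y, hy, a, ha, rfl⟩ := (hK x).1 hx
    obtain ⟨y', hy', a', ha', rfl⟩ := (hK x').1 hx'
    calc y * a * (y' * a') = y * (a * y') * a' := by group
      _ = y * (y' * a) * a' := by rw [hAO a ha y' hy']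
      _ = (y * y') * (a * a') := by group
      _ = (y' * y) * (a' * a) := by rw [hOab y hy y' hy', hAab a ha a' ha']
      _ = y' * (y * a') * a := by group
      _ = y' * (a' * y) * a := by rw [hAO a' ha' y hy]
      _ = y' * a' * (y * a) := by group
  have hinv : ∀ x ∈ K, s * x * s⁻¹ = x⁻¹ := by
    intro x hx
    obtain ⟨y, hy, a, ha, rfl⟩ := (hK x).1 hx
    have h1 : s * (y * a) * s⁻¹ = (s * y * s⁻¹) * (s * a * s⁻¹) := by group
    rw [h1, hsO y hy, hsinv a ha, mul_inv_rev]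
    exact (hAO a⁻¹ (A.inv_mem ha) y⁻¹ (O.inv_mem hy)).symm
  have hsK : s ∉ K := by
    intro h0
    obtain ⟨y, hy, a, ha, hya⟩ := (hK s).1 h0
    have h1 : y = s * a⁻¹ := by rw [← hya]; group
    have h2 := hSO y (by rw [h1]; exact S.mul_mem hsS (S.inv_mem (hAS ha))) hy
    rw [h2, one_mul] at hya
    exact hsA (hya ▸ ha)
  have hsA2 : ∀ w ∈ S, w ∉ A → s * w ∈ A := by
    intro w hw hwA
    have h1 := Subgroup.mul_mem_iff_of_index_two (H := A.subgroupOf S) hAi (a := ⟨s, hsS⟩) (b := ⟨w, hw⟩)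
    have h2 : ¬ ((⟨s, hsS⟩ : S) ∈ A.subgroupOf S) := hsA
    have h3 : ¬ ((⟨w, hw⟩ : S) ∈ A.subgroupOf S) := hwA
    exact h1.2 (by tauto)
  have hcent : ∀ g, g * t = t * g ↔ (g ∈ K ∨ s * g ∈ K) := by
    intro g
    rw [hC]
    constructor
    · rintro ⟨y, hy, w, hw, rfl⟩
      by_cases hwA : w ∈ A
      · exact Or.inl ((hK _).2 ⟨y, hy, w, hwA, rfl⟩)
      · right
        refine (hK _).2 ⟨y⁻¹, O.inv_mem hy, s * w, hsA2 w hw hwA, ?_⟩
        rw [← hsO y hy]; group
    · rintro (h1 | h1)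
      · obtain ⟨y, hy, a, ha, rfl⟩ := (hK _).1 h1
        exact ⟨y, hy, a, hAS ha, rfl⟩
      · obtain ⟨y, hy, a, ha, he⟩ := (hK _).1 h1
        refine ⟨y⁻¹, O.inv_mem hy, s * a, S.mul_mem hsS (hAS ha), ?_⟩
        have h2 : g = s * (y * a) := by rw [he, ← mul_assoc, hs2, one_mul]
        rw [h2, ← hsO y hy]; group
  have huniq : ∀ x ∈ K, x * x = 1 → x = 1 ∨ x = t := by
    intro x hx hxx
    obtain ⟨y, hy, a, ha, rfl⟩ := (hK x).1 hx
    have h1 : (y * y) * (a * a) = 1 := by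
      calc (y * y) * (a * a) = y * (y * a) * a := by group
        _ = y * (a * y) * a := by rw [hAO a ha y hy]
        _ = y * a * (y * a) := by group
        _ = 1 := hxx
    have h2 : y * y = (a * a)⁻¹ := eq_inv_of_mul_eq_one_left h1
    have h3 : y * y = 1 := hSO _ (by rw [h2]; exact S.inv_mem (S.mul_mem (hAS ha) (hAS ha))) (O.mul_mem hy hy)
    have h4 : y = 1 := order_prime_of_invol hOodd hy h3
    rw [h3, one_mul] at h1
    rw [h4, one_mul]
    by_cases ha1 : a = 1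
    · exact Or.inl ha1
    · right
      have h5 := CfsgLib.ThompTr.unique_involution (⟨a, ha⟩ : A) ⟨t, htA⟩
        (by rw [Subgroup.orderOf_mk]; exact orderOf_eq_prime (by rw [pow_two]; exact h1) ha1)
        (by rw [Subgroup.orderOf_mk]; exact ht)
      exact congrArg Subtype.val h5
  have hcentz : ∀ z ∈ O, z ≠ 1 → ∀ c, c * z = z * c ↔ c ∈ K := by
    intro z hz hz1 c
    constructor
    · intro hcz
      have h1 : c ∈ normalizer ((zpowers z : Subgroup G) : Set G) := by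
        rw [mem_normalizer_iff]
        have e : ∀ j : ℤ, c * z ^ j * c⁻¹ = z ^ j := by
          intro j
          have : Commute c z := hcz
          rw [(this.zpow_right j).eq, mul_inv_cancel_right]
        intro w
        constructor
        · intro hw
          obtain ⟨j, rfl⟩ := mem_zpowers_iff.1 hw
          rw [e]; exact hw
        · intro hw
          obtain ⟨j, hj⟩ := mem_zpowers_iff.1 hw
          have : w = z ^ j := by
            have h2 := e j
            have h3 : w = c⁻¹ * (c * w * c⁻¹) * c := by group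
            rw [h3, ← hj]
            nth_rewrite 1 [← h2]; group
          rw [this]; exact zpow_mem (mem_zpowers z) j
      have h2 := hc (zpowers z) (by rw [zpowers_le]; exact hz) (by rwa [Ne, zpowers_eq_bot]) h1
      rw [mem_centralizer_singleton_iff, hcent] at h2
      rcases h2 with h2 | h2
      · exact h2
      · exfalso
        have h3 : c = s * (s * c) := by rw [← mul_assoc, hs2, one_mul]
        have h4 : c * z * c⁻¹ = z⁻¹ := by
          have h5 := hKab _ h2 z (hOK z hz)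
          calc c * z * c⁻¹ = s * ((s * c) * z * (s * c)⁻¹) * s⁻¹ := by rw [show (s * c) * z * (s * c)⁻¹ = s * (c * z * c⁻¹) * s⁻¹ by group, hsi]; rw [← mul_assoc, ← mul_assoc, ← mul_assoc, ← mul_assoc, hs2, one_mul, mul_assoc _ s s, hs2, mul_one]
            _ = s * z * s⁻¹ := by rw [h5, mul_inv_cancel_right]
            _ = z⁻¹ := hsO z hz
        rw [hcz, mul_inv_cancel_right] at h4
        have h5 : z * z = 1 := by nth_rewrite 1 [h4]; exact inv_mul_cancel z
        exact hz1 (order_prime_of_invol hOodd hz h5)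
    · intro h1
      exact hKab c h1 z (hOK z hz)
  refine ⟨K, s, ht2, ht1, hAK t htA, hKab, hs2, hsK, hinv, hcent, huniq, ?_, hcj⟩
  intro g x hx hx1 hg
  rw [← hcent]
  suffices h : g * t * g⁻¹ ∈ K by
    rcases huniq _ h (by
      calc g * t * g⁻¹ * (g * t * g⁻¹) = g * (t * t) * g⁻¹ := by group
        _ = 1 := by rw [ht2]; group) with h1 | h1
    · exact absurd h1 (conj_ne_one ht1)
    · rw [mul_inv_eq_iff_eq_mul] at h1; exact h1
  obtain ⟨y, hy, a, ha, rfl⟩ := (hK x).1 hx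
  by_cases hy1 : y = 1
  · rw [hy1, one_mul] at hg hx1
    obtain ⟨n, hn⟩ : ∃ n, orderOf a = 2 ^ n := by
      obtain ⟨n, hn⟩ := hS2 ⟨a, hAS ha⟩
      obtain ⟨j, -, hj⟩ := (Nat.dvd_prime_pow Nat.prime_two).1 (orderOf_dvd_of_pow_eq_one (congrArg Subtype.val hn : a ^ 2 ^ n = 1))
      exact ⟨j, hj⟩
    obtain ⟨j, rfl⟩ : ∃ j, n = j + 1 := by
      rcases n with _ | j
      · rw [pow_zero, orderOf_eq_one_iff] at hn
        exact absurd hn hx1
      · exact ⟨j, rfl⟩
    have h1 : a ^ 2 ^ j ≠ 1 := by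
      intro h0
      have h2 := Nat.le_of_dvd (by positivity) (orderOf_dvd_of_pow_eq_one h0)
      rw [hn] at h2
      exact absurd h2 (by rw [not_le]; exact Nat.pow_lt_pow_right (by norm_num) (Nat.lt_succ_self j))
    have h2 : a ^ 2 ^ j * a ^ 2 ^ j = 1 := by
      rw [← pow_two, ← pow_mul, ← pow_succ, ← hn, pow_orderOf_eq_one]
    rcases huniq _ (K.pow_mem (hAK a ha) (2 ^ j)) h2 with h3 | h3
    · exact absurd h3 h1
    · rw [← h3]
      have h4 : g * a ^ 2 ^ j * g⁻¹ = (g * a * g⁻¹) ^ 2 ^ j := by rw [conj_pow]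
      rw [h4]; exact K.pow_mem hg _
  · obtain ⟨N, hN⟩ : ∃ N, N = Nat.card S := ⟨_, rfl⟩
    have haN : a ^ N = 1 := by rw [hN]; exact pow_card_mem (hAS ha)
    have hxN : (y * a) ^ N = y ^ N := by
      have : Commute y a := (hAO a ha y hy).symm
      rw [this.mul_pow, haN, mul_one]
    have hz1 : y ^ N ≠ 1 := by
      intro h0
      exact hy1 (eq_one_of_pow_coprime hcopSO (by rw [← hN]; exact h0) (pow_card_mem hy))
    have hzO : y ^ N ∈ O := O.pow_mem hy N
    have hz'K : g * y ^ N * g⁻¹ ∈ K := by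
      rw [← hxN, ← conj_pow]; exact K.pow_mem hg N
    have hz'1 : g * y ^ N * g⁻¹ ≠ 1 := conj_ne_one hz1
    have hz'O : g * y ^ N * g⁻¹ ∈ O := by
      obtain ⟨y', hy', a', ha', he⟩ := (hK _).1 hz'K
      have h1 : (g * y ^ N * g⁻¹) ^ Nat.card O = 1 := by
        rw [conj_pow, pow_card_mem hzO]; group
      have h2 : a' ^ Nat.card O = 1 := by
        rw [← he] at h1
        have : Commute y' a' := (hAO a' ha' y' hy').symm
        rw [this.mul_pow, pow_card_mem hy', one_mul] at h1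
        exact h1
      have h3 := eq_one_of_pow_coprime hcopSO (pow_card_mem (hAS ha')) h2
      rw [← he, h3, mul_one]; exact hy'
    rw [← hcentz _ hz'O hz'1]
    have h4 := (hcentz _ hzO hz1 t).2 (hAK t htA)
    calc g * t * g⁻¹ * (g * y ^ N * g⁻¹) = g * (t * y ^ N) * g⁻¹ := by group
      _ = g * (y ^ N * t) * g⁻¹ := by rw [h4]
      _ = g * y ^ N * g⁻¹ * (g * t * g⁻¹) := by group

end CfsgLib.BW11
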