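import Cfsg.Agent.LibBad9C
/-! Failure of `p`-stability produces a central extension of `Qd(p)` (`p > 3`). Seat helper9. -/
set_option autoImplicit false
set_option maxHeartbeats 400000

namespace CfsgLib.Bad9

open Subgroup Cfsg CfsgLib.Dick9 CfsgLib.QuadSL9 CfsgLib.SecH12 CfsgLib.Stab9 CfsgLib.BGPi CfsgLib.Qd9 CfsgLib.Chief9 CfsgLib.Weak9
open scoped commutatorElement CfsgLib.BGPi Pointwise

variable {p : ℕ} [hp : Fact p.Prime]

section std

variable {N : Type*} [Group N] [Finite N]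

/-- from a standard pair on `U / V` centralised below by `p'`-elements -/
theorem bad_of_std (h3 : 3 < p) {U V : Subgroup N} [hUn : U.Normal] [hVn : V.Normal] (hUp : IsPGroup p U)
    [hU' : (U.map (QuotientGroup.mk' V)).Normal] {h : Elem p (U.map (QuotientGroup.mk' V))} {g₁ g₂ : N ⧸ V} {v w : Ad h}
    (S : Std h g₁ g₂ v w) {D : Subgroup N} (hg₁ : g₁ ∈ D.map (QuotientGroup.mk' V))
    (hg₂ : g₂ ∈ D.map (QuotientGroup.mk' V)) (hD : ∀ x ∈ D, (orderOf x).Coprime p → x ∈ centralizer (V : Set N)) :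
    ∃ (R L : Subgroup N) (φ : N → Matrix.SpecialLinearGroup (Fin 2) (ZMod p)) (ψ : N → ZMod p × ZMod p),
      Bad p R L φ ψ := by
  classical
  set f := QuotientGroup.mk' V with hf
  set P := (T h v w ⊤).map (MonoidHom.fst _ _) with hP
  have hPm : ∀ x, x ∈ P ↔ ∃ m, Rel v w (conjRep h x) m := by
    intro x
    constructor
    · rintro ⟨⟨y, m⟩, hy, rfl⟩
      exact ⟨m, (mem_T.1 hy).1⟩
    · rintro ⟨m, hm⟩
      exact ⟨(x, m), ⟨hm, mem_top _⟩, rfl⟩
  set L := P.comap f ⊓ D with hL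
  obtain ⟨φ, hφ⟩ : ∃ φ : N → Matrix.SpecialLinearGroup (Fin 2) (ZMod p), ∀ l ∈ L, Rel v w (conjRep h (f l)) (φ l) := by
    have : ∀ l : N, ∃ m : Matrix.SpecialLinearGroup (Fin 2) (ZMod p), l ∈ L → Rel v w (conjRep h (f l)) m := by
      intro l
      by_cases hl : l ∈ L
      · obtain ⟨m, hm⟩ := (hPm _).1 hl.1
        exact ⟨m, fun _ => hm⟩
      · exact ⟨1, fun h => absurd h hl⟩
    choose φ hφ using this
    exact ⟨φ, hφ⟩
  have fm : ∀ l ∈ L, ∀ l' ∈ L, φ (l * l') = φ l * φ l' := by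
    intro l hl l' hl'
    refine S.rel_unique (hφ _ (mul_mem hl hl')) ?_
    rw [map_mul, map_mul]
    exact (hφ l hl).mul (hφ l' hl')
  have fs : ∀ m, ∃ l ∈ L, φ l = m := by
    intro m
    obtain ⟨e, he, hem⟩ := S.surj hg₁ hg₂ m
    obtain ⟨l, hl, rfl⟩ := he
    have hlL : l ∈ L := ⟨(hPm _).2 ⟨m, hem⟩, hl⟩
    exact ⟨l, hlL, S.rel_unique (hφ l hlL) hem⟩
  set L₀ := L ⊓ centralizer (V : Set N) with hL₀
  have fs0 : ∀ m, ∃ l ∈ L₀, φ l = m := by
    refine fs_sub h3 inf_le_left fm fs ?_ ?_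
    · intro l hl x hx
      refine ⟨L.mul_mem (L.mul_mem hl hx.1) (L.inv_mem hl), ?_⟩
      exact (inferInstance : (centralizer (V : Set N)).Normal).conj_mem x hx.2 l
    · intro l hl
      obtain ⟨a, m', hm', hkm'⟩ := Nat.exists_eq_pow_mul_and_not_dvd (orderOf_pos l).ne' p hp.out.ne_one
      have hwo : orderOf (l ^ p ^ a) = m' := by
        rw [orderOf_pow, hkm', Nat.gcd_mul_right_left, Nat.mul_div_cancel_left _ (pow_pos hp.out.pos a)]
      refine ⟨a, L.pow_mem hl _, hD _ (pow_mem hl.2 _) ?_⟩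
      rw [hwo]; exact ((Nat.Prime.coprime_iff_not_dvd hp.out).2 hm').symm
  have hout : ∀ i j : ZMod p, out h (i • v + j • w) = 1 → i = 0 ∧ j = 0 := by
    intro i j he
    exact S.lin (out_inj h (he.trans (out_zero h).symm))
  -- the group `W`
  let W : Subgroup N :=
    { carrier := {u | u ∈ U ∧ ∃ i j : ZMod p, f u = out h (i • v + j • w)}
      mul_mem' := by
        rintro a b ⟨ha, i, j, hij⟩ ⟨hb, i', j', hij'⟩
        refine ⟨mul_mem ha hb, i + i', j + j', ?_⟩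
        rw [map_mul, hij, hij', ← out_add]
        congr 1
        module
      one_mem' := ⟨one_mem _, 0, 0, by
        rw [map_one, zero_smul, zero_smul, add_zero, out_zero]⟩
      inv_mem' := by
        rintro a ⟨ha, i, j, hij⟩
        refine ⟨inv_mem ha, -i, -j, ?_⟩
        rw [map_inv, hij, inv_eq_iff_mul_eq_one, ← out_add]
        rw [show (i • v + j • w) + (-i • v + -j • w) = (0 : Ad h) by module, out_zero] }
  have hWU : W ≤ U := fun u hu => hu.1
  obtain ⟨ψ, hψ⟩ : ∃ ψ : N → ZMod p × ZMod p, ∀ u ∈ W, f u = out h ((ψ u).1 • v + (ψ u).2 • w) := by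
    have : ∀ u : N, ∃ q : ZMod p × ZMod p, u ∈ W → f u = out h (q.1 • v + q.2 • w) := by
      intro u
      by_cases hu : u ∈ W
      · obtain ⟨i, j, hij⟩ := hu.2
        exact ⟨(i, j), fun _ => hij⟩
      · exact ⟨0, fun h => absurd h hu⟩
    choose ψ hψ using this
    exact ⟨ψ, hψ⟩
  have huniq : ∀ u ∈ W, ∀ i j : ZMod p, f u = out h (i • v + j • w) → ψ u = (i, j) := by
    intro u hu i j hij
    obtain ⟨e1, e2⟩ := S.lin' (out_inj h ((hψ u hu).symm.trans hij))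
    exact Prod.ext e1 e2
  have hWn : ∀ l ∈ L, ∀ u ∈ W, l * u * l⁻¹ ∈ W ∧ ψ (l * u * l⁻¹) = act (φ l) (ψ u) := by
    intro l hl u hu
    have h1 : f (l * u * l⁻¹) = out h ((act (φ l) (ψ u)).1 • v + (act (φ l) (ψ u)).2 • w) := by
      rw [map_mul, map_mul, map_inv, hψ u hu]
      exact out_rel (hφ l hl) _ _
    have h2 : l * u * l⁻¹ ∈ W := ⟨hUn.conj_mem u hu.1 l, _, _, h1⟩
    exact ⟨h2, huniq _ h2 _ _ h1⟩
  refine ⟨W, L₀, φ, ψ, ⟨hUp.to_le hWU, fun l hl r hr => (hWn l hl.1 r hr).1, fun l hl l' hl' => fm l hl.1 l' hl'.1, fs0,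
    ?_, ?_, fun l hl r hr => (hWn l hl.1 r hr).2, ?_⟩⟩
  · intro r hr s hs
    rw [huniq (r * s) (mul_mem hr hs) ((ψ r).1 + (ψ s).1) ((ψ r).2 + (ψ s).2)]
    · rfl
    · rw [map_mul, hψ r hr, hψ s hs, ← out_add]
      congr 1
      module
  · rintro ⟨i, j⟩
    have h1 := out_mem h (i • v + j • w)
    obtain ⟨u, hu, hue⟩ := h1
    have huW : u ∈ W := ⟨hu, i, j, hue⟩
    exact ⟨u, huW, huniq u huW i j hue⟩
  · intro r hr hr0 l hl
    have h1 := hψ r hr
    rw [hr0] at h1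
    have h2 : f r = 1 := by
      rw [h1]
      simp only [Prod.fst_zero, Prod.snd_zero, zero_smul, add_zero]
      exact out_zero h
    have h3 : r ∈ V := (QuotientGroup.eq_one_iff r).1 h2
    have h4 : l ∈ centralizer (V : Set N) := hl.2
    rw [mem_centralizer_iff] at h4
    exact (h4 r h3).symm

end std

variable {G : Type*} [Group G] [Finite G]

theorem exists_bad (h3 : 3 < p) (hst : ¬ Stab p G) :
    ∃ (R L : Subgroup G) (φ : G → Matrix.SpecialLinearGroup (Fin 2) (ZMod p)) (ψ : G → ZMod p × ZMod p),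
      Bad p R L φ ψ := by
  by_contra hno
  apply hst
  have main : ∀ (n : ℕ) (P : Subgroup G), Nat.card P = n → IsPGroup p P → ∀ g ∈ 𝓝(P),
      ⁅⁅P, Subgroup.zpowers g⁆, Subgroup.zpowers g⁆ = ⊥ →
      ∃ K ≤ 𝓝(P), g ∈ K ∧ 𝓝(P) ≤ 𝓝(K) ∧ ∀ x ∈ K, (orderOf x).Coprime p → x ∈ 𝓒(P) := by
    intro n
    induction n using Nat.strong_induction_on with
    | _ n ih =>
    intro P hPn hP g hg hq
    set P' := P.subgroupOf (𝓝(P)) with hP'
    have hP'm : P'.map (𝓝(P)).subtype = P :=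
      Subgroup.map_subgroupOf_eq_of_le Subgroup.le_normalizer
    haveI hP'n : P'.Normal := by rw [hP']; infer_instance
    have hP'p : IsPGroup p P' := hP.comap_subtype
    let D : Subgroup ↥(𝓝(P)) :=
      ⨅ UV : {UV : Subgroup ↥(𝓝(P)) × Subgroup ↥(𝓝(P)) // IsChiefFactor UV.1 UV.2 ∧ UV.1 ≤ P'},
        haveI := UV.2.1.2.2.1; kerCF UV.1.1 UV.1.2
    have hDmem : ∀ x, x ∈ D ↔ ∀ U V : Subgroup ↥(𝓝(P)), IsChiefFactor U V → U ≤ P' →
        ⁅U, Subgroup.zpowers x⁆ ≤ V := by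
      intro x
      constructor
      · intro h U V hUV hU
        haveI := hUV.2.2.1
        have h1 := (Subgroup.mem_iInf.1 h) ⟨(U, V), hUV, hU⟩
        exact zpowers_kerCF.1 h1
      · intro h
        refine Subgroup.mem_iInf.2 fun UV => ?_
        haveI := UV.2.1.2.2.1
        exact zpowers_kerCF.2 (h _ _ UV.2.1 UV.2.2)
    have hDn : D.Normal := by
      refine Subgroup.normal_iInf_normal fun UV => ?_
      haveI := UV.2.1.2.1
      haveI := UV.2.1.2.2.1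
      exact kerCF_normal _ _
    have hgD : (⟨g, hg⟩ : ↥(𝓝(P))) ∈ D := by
      rw [hDmem]
      intro U V hUV hU
      by_contra hne
      have hUp : IsPGroup p U := hP'p.to_le hU
      have hUq : ⁅⁅U, zpowers (⟨g, hg⟩ : ↥(𝓝(P)))⁆, zpowers (⟨g, hg⟩ : ↥(𝓝(P)))⁆ ≤ V := by
        have h1 : ⁅⁅U, zpowers (⟨g, hg⟩ : ↥(𝓝(P)))⁆, zpowers (⟨g, hg⟩ : ↥(𝓝(P)))⁆ ≤ ⊥ := by
          rw [← CfsgLib.Weak9.map_le, map_commutator, map_commutator, Subgroup.map_bot, ← hq, MonoidHom.map_zpowers]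
          refine Subgroup.commutator_mono (Subgroup.commutator_mono ?_ le_rfl) le_rfl
          exact (Subgroup.map_mono hU).trans hP'm.le
        exact h1.trans bot_le
      haveI := hUV.2.1
      haveI := hUV.2.2.1
      let f := QuotientGroup.mk' V
      have hch := CfsgLib.HH9.chief_quot hUV
      haveI : (U.map f).Normal := hch.2.1
      have hUfp : IsPGroup p (U.map f) := hUp.map f
      have hq' : ⁅⁅U.map f, zpowers (f ⟨g, hg⟩)⁆, zpowers (f ⟨g, hg⟩)⁆ = ⊥ := by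
        rw [← MonoidHom.map_zpowers, ← map_commutator, ← map_commutator, CfsgLib.HomAct9.map_mk_le_bot]
        exact hUq
      have hne' : ¬ ⁅U.map f, zpowers (f ⟨g, hg⟩)⁆ ≤ ⊥ := by
        rw [← MonoidHom.map_zpowers, ← map_commutator, le_bot_iff, CfsgLib.HomAct9.map_mk_le_bot]
        exact hne
      obtain ⟨h, x', g₁, hg₁, g₂, hg₂, v, w, S⟩ := exists_std (hp2_of h3) hch hUfp hq' hne'
      obtain ⟨x, rfl⟩ := QuotientGroup.mk'_surjective V x'
      -- the group `V₀`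
      set V₀ := V.map (𝓝(P)).subtype with hV₀
      have hVP : V < P' := lt_of_lt_of_le hUV.1 hU
      have hV₀P : V₀ < P := by
        rw [← hP'm]
        exact (map_lt_map_iff_of_injective (𝓝(P)).subtype_injective).2 hVP
      have hV₀p : IsPGroup p V₀ := hP.to_le hV₀P.le
      have hNV₀ : 𝓝(P) ≤ 𝓝(V₀) := by
        rw [le_nz]
        rintro k hk _ ⟨y, hy, rfl⟩
        exact ⟨⟨k, hk⟩ * y * ⟨k, hk⟩⁻¹, (hUV.2.2.1).conj_mem _ hy _, rfl⟩
      have hcard : Nat.card V₀ < n := by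
        rw [← hPn]
        exact Set.ncard_lt_ncard (SetLike.coe_ssubset_coe.2 hV₀P) (Set.toFinite _)
      have hqV : ⁅⁅V₀, Subgroup.zpowers g⁆, Subgroup.zpowers g⁆ = ⊥ := by
        rw [eq_bot_iff, ← hq]
        exact commutator_mono (commutator_mono hV₀P.le le_rfl) le_rfl
      obtain ⟨K, hK1, hK2, hK3, hK4⟩ := ih _ hcard V₀ rfl hV₀p g (hNV₀ hg) hqV
      have hDK : (closure {(⟨g, hg⟩ : ↥(𝓝(P))), x * ⟨g, hg⟩ * x⁻¹}).map (𝓝(P)).subtype ≤ K := by
        rw [map_le_iff_le_comap, closure_le]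
        rintro y (rfl | hy)
        · exact hK2
        · rw [Set.mem_singleton_iff] at hy
          rw [hy]
          exact le_nz.1 (hNV₀.trans hK3) x x.2 g hK2
      have hmap : (closure {(⟨g, hg⟩ : ↥(𝓝(P))), x * ⟨g, hg⟩ * x⁻¹}).map f = closure {f ⟨g, hg⟩, f x * f ⟨g, hg⟩ * (f x)⁻¹} := by
        rw [MonoidHom.map_closure, Set.image_pair, map_mul, map_mul, map_inv]
      have hbad := bad_of_std h3 hUp S (D := closure {(⟨g, hg⟩ : ↥(𝓝(P))), x * ⟨g, hg⟩ * x⁻¹})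
        (by rw [hmap]; exact hg₁) (by rw [hmap]; exact hg₂) (by
          intro y hy hyc
          have h1 := hK4 y (hDK ⟨y, hy, rfl⟩) (by rw [Subgroup.orderOf_coe]; exact hyc)
          rw [mem_centralizer_iff] at h1 ⊢
          intro z hz
          exact Subtype.ext (h1 z ⟨z, hz, rfl⟩))
      obtain ⟨R, L, φ, ψ, hb⟩ := hbad
      exact hno hb.map
    refine ⟨D.map (𝓝(P)).subtype, Subgroup.map_subtype_le _, ⟨_, hgD, rfl⟩, ?_, ?_⟩
    · rw [le_nz]
      rintro k hk _ ⟨x, hx, rfl⟩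
      exact ⟨⟨k, hk⟩ * x * ⟨k, hk⟩⁻¹, hDn.conj_mem _ hx _, rfl⟩
    · rintro _ ⟨x, hx, rfl⟩ hxc
      rw [Subgroup.subtype_apply, Subgroup.orderOf_coe] at hxc
      have h1 : ⁅P', Subgroup.zpowers x⁆ = ⊥ := by
        refine coprime_chief hxc (Z := ⊥) inferInstance (by simp) _ P' rfl hP'n bot_le hP'p ?_
        intro U V hUV _ hU
        exact (hDmem x).1 hx U V hUV hU
      rw [Subgroup.commutator_comm, Subgroup.commutator_eq_bot_iff_le_centralizer,
        Subgroup.zpowers_le, centralizer_sub, hP'm] at h1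
      exact h1
  intro P hP g hg hq
  exact main _ P rfl hP g hg hq

/-- `p`-stability passes to `G / Q` if `Q` is a normal `p`-subgroup and `G / C_G(Q)` is a `p`-group, `p > 3` -/
theorem stab_quot (h3 : 3 < p) {Q : Subgroup G} [hQn : Q.Normal] (hQ : IsPGroup p Q)
    (hC : ∀ x : G, ∃ k : ℕ, x ^ p ^ k ∈ centralizer (Q : Set G)) (hst : Stab p G) : Stab p (G ⧸ Q) := by
  by_contra hno
  obtain ⟨R, L, φ, ψ, hb⟩ := exists_bad h3 hno
  obtain ⟨R', L', φ', ψ', hb'⟩ := hb.up h3 hQ hC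
  exact hb'.not_stab (hp2_of h3) hst

end CfsgLib.Bad9
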