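import Mathlib
import Cfsg.Agent.EqBase
import Cfsg.Prelude.Def_BlockRank
import Cfsg.Agent.LibBlockOrth2

/-!
# The `p`-regular rank of a block (helper18)
-/

set_option autoImplicit false
set_option linter.unusedSectionVars false
set_option linter.style.haveILetI false
set_option linter.unusedSimpArgs false
set_option linter.unusedVariables false

namespace CfsgLib.BlkRk

open Cfsg

variable {G : Type*} [Group G] {p : ℕ}

theorem reg_of {g : G} (hg : ¬ p ∣ orderOf g) (χ : G → ℂ) : pRegularPart p χ g = χ g := by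
  unfold pRegularPart
  exact if_pos hg

theorem reg_not {g : G} (hg : p ∣ orderOf g) (χ : G → ℂ) : pRegularPart p χ g = 0 := by
  unfold pRegularPart
  exact if_neg (fun h => h hg)

theorem one_reg [hp : Fact p.Prime] : ¬ p ∣ orderOf (1 : G) := by
  rw [orderOf_one]
  exact fun h => hp.out.one_lt.ne' (Nat.dvd_one.1 h)

theorem reg_ne_zero [Finite G] [hp : Fact p.Prime] (χ : IrrCharacter G) :
    pRegularPart p (χ : G → ℂ) ≠ 0 := by
  haveI := Fintype.ofFinite G
  intro h
  have h1 := congrFun h 1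
  rw [reg_of one_reg] at h1
  exact CfsgLib.CharInt.irr_one_ne_zero χ.2 h1

theorem rank_one_of [Finite G] [hp : Fact p.Prime] {B : Set (IrrCharacter G)} {χ₀ : IrrCharacter G}
    (h0 : χ₀ ∈ B)
    (h : ∀ χ ∈ B, ∃ c : ℂ, ∀ g : G, ¬ p ∣ orderOf g → (χ : G → ℂ) g = c * (χ₀ : G → ℂ) g) :
    blockRank p B = 1 := by
  unfold blockRank
  have hspan : Submodule.span ℂ ((fun χ : IrrCharacter G => pRegularPart p (χ : G → ℂ)) '' B) =
      Submodule.span ℂ {pRegularPart p (χ₀ : G → ℂ)} := by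
    apply le_antisymm
    · rw [Submodule.span_le]
      rintro _ ⟨χ, hχ, rfl⟩
      rw [SetLike.mem_coe, Submodule.mem_span_singleton]
      obtain ⟨c, hc⟩ := h χ hχ
      refine ⟨c, ?_⟩
      funext g
      show c * pRegularPart p (χ₀ : G → ℂ) g = pRegularPart p (χ : G → ℂ) g
      by_cases hg : p ∣ orderOf g
      · rw [reg_not hg, reg_not hg, mul_zero]
      · rw [reg_of hg, reg_of hg, hc g hg]
    · rw [Submodule.span_le, Set.singleton_subset_iff]
      exact Submodule.subset_span ⟨χ₀, h0, rfl⟩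
  rw [hspan]
  exact finrank_span_singleton (reg_ne_zero χ₀)

theorem of_rank_one [Finite G] [hp : Fact p.Prime] {B : Set (IrrCharacter G)}
    (h : blockRank p B = 1) {χ₀ χ : IrrCharacter G} (h0 : χ₀ ∈ B) (hχ : χ ∈ B) :
    ∃ c : ℂ, ∀ g : G, ¬ p ∣ orderOf g → (χ : G → ℂ) g = c * (χ₀ : G → ℂ) g := by
  have h1 : pRegularPart p (χ₀ : G → ℂ) ∈ Submodule.span ℂ
      ((fun χ : IrrCharacter G => pRegularPart p (χ : G → ℂ)) '' B) :=
    Submodule.subset_span ⟨χ₀, h0, rfl⟩
  have h2 : pRegularPart p (χ : G → ℂ) ∈ Submodule.span ℂ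
      ((fun χ : IrrCharacter G => pRegularPart p (χ : G → ℂ)) '' B) :=
    Submodule.subset_span ⟨χ, hχ, rfl⟩
  obtain ⟨c, hc⟩ := exists_smul_eq_of_finrank_eq_one h (x := ⟨_, h1⟩)
    (fun h => reg_ne_zero χ₀ (congrArg Subtype.val h)) ⟨_, h2⟩
  refine ⟨c, fun g hg => ?_⟩
  have h3 : c * pRegularPart p (χ₀ : G → ℂ) g = pRegularPart p (χ : G → ℂ) g :=
    congrFun (congrArg Subtype.val hc) g
  rw [reg_of hg, reg_of hg] at h3
  exact h3.symm

end CfsgLib.BlkRk
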