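import Mathlib
import Cfsg.Agent.EqBase
import Cfsg.Prelude.Def_Blocks
import Cfsg.Agent.LibBlockSq
import Cfsg.Agent.LibCharNorm

/-!
# Small applications of blocks: S0910, S0904, S4498 (helper17)
-/

set_option autoImplicit false
set_option linter.unusedSectionVars false
set_option linter.style.haveILetI false
set_option linter.unusedSimpArgs false

namespace CfsgLib.BlkSmall

open CfsgLib.CharInt hiding irr_isCharacter irr_classFun irr_one_ne_zero schur_scalar
open Cfsg CfsgLib.CharInt2 CfsgLib.CharBasic CfsgLib.BlockR CfsgLib.BlockCore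
  CfsgLib.BlockIdem CfsgLib.BlockIdeal CfsgLib.BlockConj CfsgLib.BlockBrauer CfsgLib.BlockInd
  CfsgLib.BlockFMT CfsgLib.BlockFMT2 CfsgLib.PLocalInd CfsgLib.BlockOrth CfsgLib.BlockDefect
  CfsgLib.BlockReg CfsgLib.BlockReg2 CfsgLib.BlockCount CfsgLib.BlockCount2 CfsgLib.BlockQP
  CfsgLib.BlockCov CfsgLib.BlockCov2 CfsgLib.BlockCov3 CfsgLib.BlockCov4 CfsgLib.BlockLoc
  CfsgLib.BlockM CfsgLib.CharNorm CfsgLib.Clifford CfsgLib.BlockFR
  CfsgLib.BlockK1 CfsgLib.BlockSec3 CfsgLib.BlockFong CfsgLib.BlockSq
open scoped ComplexConjugate Pointwise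

universe u v

variable {M : Ideal AlgInt} {p : ℕ} {G : Type u} [Group G] [Fintype G]

/-- linear characters of a nonabelian simple group are trivial -/
theorem linear_trivial [IsSimpleGroup G] (hna : ∃ a b : G, a * b ≠ b * a) (χ : IrrCharacter G)
    (h1 : (χ : G → ℂ) 1 = 1) : (χ : G → ℂ) = fun _ => 1 := by
  obtain ⟨f, hf⟩ := exists_hom_of_linear (irr_isCharacter χ.2) h1
  obtain ⟨a, b, hab⟩ := hna
  have hker : f.ker = ⊤ := by
    rcases f.normal_ker.eq_bot_or_eq_top with h | h
    · exfalso
      apply hab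
      have h2 : a * b * (b * a)⁻¹ ∈ f.ker := by
        rw [MonoidHom.mem_ker, map_mul, map_inv, map_mul, map_mul, mul_comm (f b), mul_inv_cancel]
      rw [h, Subgroup.mem_bot, mul_inv_eq_one] at h2
      exact h2
    · exact h
  funext g
  have h3 : f g = 1 := by
    have : g ∈ f.ker := by rw [hker]; trivial
    exact this
  rw [hf]
  simp [h3]

/-- S0910 -/
theorem s0910 [Fact p.Prime] (hM : IsPModular p M) [IsSimpleGroup G] (hna : ∃ a b : G, a * b ≠ b * a)
    (χ : IrrCharacter G) (hχ : χ ∈ principalBlock M G) (k : ℕ)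
    (hdeg : (χ : G → ℂ) 1 = (p : ℂ) ^ k) : (χ : G → ℂ) = fun _ => 1 := by
  classical
  have hp := isPrime_of_modular hM
  have hpp : p.Prime := Fact.out
  have hdeg' : charDegree (χ : G → ℂ) = p ^ k := by
    rw [irr_one_eq_charDegree χ.2] at hdeg
    exact_mod_cast hdeg
  apply linear_trivial hna
  by_cases hk : k = 0
  · rw [hdeg, hk, pow_zero]
  have hpG : p ∣ Nat.card G := (dvd_pow_self p hk).trans (hdeg' ▸ charDegree_dvd_card χ.2)
  -- a nontrivial element in the centre of a Sylow subgroup
  let P : Sylow p G := default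
  have hPne : Nontrivial P := by
    rw [← Finite.one_lt_card_iff_nontrivial]
    have h1 : Nat.card P = p ^ (Nat.card G).factorization p := P.card_eq_multiplicity
    rw [h1]
    apply Nat.one_lt_pow _ hpp.one_lt
    exact (hpp.factorization_pos_of_dvd Nat.card_pos.ne' hpG).ne'
  have hZ : Nontrivial (Subgroup.center P) := P.2.center_nontrivial
  obtain ⟨z, hz1⟩ := exists_ne (1 : Subgroup.center P)
  have hzG : ((z : P) : G) ≠ 1 := by
    intro h
    apply hz1
    apply Subtype.ext; apply Subtype.ext
    exact h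
  set y : G := ((z : P) : G) with hy
  have hidx : ¬ p ∣ (Subgroup.centralizer ({y} : Set G)).index := by
    have h1 : (P : Subgroup G) ≤ Subgroup.centralizer ({y} : Set G) := by
      intro w hw
      rw [Subgroup.mem_centralizer_singleton_iff]
      have h2 := Subgroup.mem_center_iff.mp z.2 ⟨w, hw⟩
      exact congrArg Subtype.val h2
    intro h
    exact P.not_dvd_index (h.trans (Subgroup.index_dvd_of_le h1))
  have hcop : Nat.Coprime (p ^ k) (Subgroup.centralizer ({y} : Set G)).index :=
    Nat.Coprime.pow_left _ ((Nat.Prime.coprime_iff_not_dvd hpp).mpr hidx)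
  rcases char_zero_or_norm_of_coprime χ.2 y (p ^ k) (by rw [hdeg]; push_cast; rfl) hcop with h | h
  · exfalso
    have h1 := hχ y
    have h2 : centralChar (fun _ : G => (1 : ℂ)) y =
        ((Subgroup.centralizer ({y} : Set G)).index : ℂ) := by
      unfold centralChar; simp
    have h3 : centralChar (χ : G → ℂ) y = 0 := by
      unfold centralChar; rw [h]; simp
    rw [h2, h3] at h1
    have h4 : MemLocalIdeal M ((Subgroup.centralizer ({y} : Set G)).index : ℂ) := by
      first
        | simpa using h1
        | simpa using ideal_neg h1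
    exact hidx ((ideal_nat_iff hM).mp h4)
  · obtain ⟨Z, hZn, hZm⟩ := exists_center (irr_isCharacter χ.2)
    have hZtop : Z = ⊤ := by
      rcases hZn.eq_bot_or_eq_top with h1 | h1
      · exfalso
        have h2 : y ∈ Z := (hZm y).mpr h
        rw [h1, Subgroup.mem_bot] at h2
        exact hzG h2
      · exact h1
    have h2 : ∀ g : G, (χ : G → ℂ) g * conj ((χ : G → ℂ) g) = ((χ : G → ℂ) 1) ^ 2 := by
      intro g
      have h3 := (hZm g).mp (by rw [hZtop]; trivial)
      rw [Complex.mul_conj, Complex.normSq_eq_norm_sq, h3, irr_one_eq_charDegree χ.2]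
      simp
    have h3 : classInner (χ : G → ℂ) (χ : G → ℂ) = 1 := (irr_iff_norm_one.mp χ.2).2
    have h4 : classInner (χ : G → ℂ) (χ : G → ℂ) = ((χ : G → ℂ) 1) ^ 2 := by
      unfold classInner
      rw [Finset.sum_congr rfl (fun g _ => h2 g), Finset.sum_const, Finset.card_univ,
        nsmul_eq_mul, Nat.card_eq_fintype_card, ← mul_assoc, inv_mul_cancel₀, one_mul]
      exact_mod_cast Fintype.card_ne_zero
    rw [h3] at h4
    rw [irr_one_eq_charDegree χ.2] at h4 ⊢
    have h5 : (charDegree (χ : G → ℂ)) ^ 2 = 1 := by exact_mod_cast h4.symm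
    have h6 : charDegree (χ : G → ℂ) = 1 := by
      rcases Nat.pow_eq_one.mp h5 with h7 | h7
      · exact h7
      · omega
    rw [h6, Nat.cast_one]

/-- inner products with a block part -/
theorem inner_blockPart (B : Set (IrrCharacter G)) (ϑ : G → ℂ) (ψ : IrrCharacter G) :
    classInner (blockPart B ϑ) (ψ : G → ℂ) = ind B ψ * classInner ϑ (ψ : G → ℂ) := by
  classical
  have h2 : blockPart B ϑ =
      ∑ χ : IrrCharacter G, (ind B χ * classInner ϑ (χ : G → ℂ)) • (χ : G → ℂ) := by
    funext u
    rw [blockPart_expand, Finset.sum_apply]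
    apply Finset.sum_congr rfl
    intro χ _
    simp only [Pi.smul_apply, smul_eq_mul]
    ring
  rw [h2, ci_sum_l, Finset.sum_eq_single ψ]
  · rw [ci_smul_l, irr_inner_self ψ.2, mul_one]
  · intro χ _ hne
    rw [ci_smul_l, irr_inner_ne χ.2 ψ.2 (fun h => hne (Subtype.ext h)), mul_zero]
  · intro h; exact absurd (Finset.mem_univ _) h

theorem orderOf_zpow_dvd' {H : Type*} [Group H] [Finite H] (x : H) (k : ℤ) :
    orderOf (x ^ k) ∣ orderOf x := by
  rw [orderOf_dvd_iff_pow_eq_one, ← zpow_natCast, ← zpow_mul, mul_comm, zpow_mul, zpow_natCast,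
    pow_orderOf_eq_one, one_zpow]

/-- S4498 -/
theorem s4498 {q : ℕ} {M' : Ideal AlgInt} [Fact p.Prime] [Fact q.Prime] (hpq : p ≠ q)
    (hp : p ∣ Nat.card G) (hq : q ∣ Nat.card G) (hno : ∀ g : G, orderOf g ≠ p * q)
    (hM : IsPModular p M) (hM' : IsPModular q M') :
    ∃ χ : IrrCharacter G, (χ : G → ℂ) ≠ (fun _ => 1) ∧ χ ∈ principalBlock M G ∧
      χ ∈ principalBlock M' G := by
  classical
  by_contra hcon
  push Not at hcon
  have hpp : p.Prime := Fact.out
  have hqp : q.Prime := Fact.out
  obtain ⟨x, hx⟩ := exists_prime_orderOf_dvd_card' p hp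
  obtain ⟨y, hy⟩ := exists_prime_orderOf_dvd_card' q hq
  set δ : G → ℂ := fun g => if IsConj x g then 1 else 0 with hδ
  set β := blockPart (principalBlock M G) δ with hβ
  have hxp : IsPPart p x x := isPPart_self ⟨1, by rw [hx, pow_one]⟩
  have hyq : IsPPart q y y := isPPart_self ⟨1, by rw [hy, pow_one]⟩
  have hBM : IsPBlock M (principalBlock M G) := ⟨⟨_, isIrrCharacter_one⟩, rfl⟩
  have hBM' : IsPBlock M' (principalBlock M' G) := ⟨⟨_, isIrrCharacter_one⟩, rfl⟩
  -- no element of order divisible by pq
  have hnod : ∀ g : G, p ∣ orderOf g → ¬ q ∣ orderOf g := by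
    intro g h1 h2
    have h3 : p * q ∣ orderOf g := Nat.Coprime.mul_dvd_of_dvd_of_dvd
      ((Nat.coprime_primes hpp hqp).mpr hpq) h1 h2
    obtain ⟨k, hk⟩ := h3
    have hk0 : k ≠ 0 := by
      rintro rfl
      rw [mul_zero] at hk
      exact (orderOf_pos g).ne' hk
    apply hno (g ^ k)
    rw [orderOf_pow_of_dvd hk0 (Dvd.intro_left _ hk.symm), hk, Nat.mul_div_cancel _ (Nat.pos_of_ne_zero hk0)]
  have hsupp : ∀ u : G, q ∣ orderOf u → β u = 0 := by
    intro u hu
    obtain ⟨z, hz⟩ := isPPart_exists p u
    apply blockPart_eq_zero hM hBM hz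
    intro w t hw hzt
    rw [hδ]
    simp only
    rw [if_neg]
    intro hxw
    obtain ⟨c, hc⟩ := isConj_iff.mp hxw
    have h1 : IsPPart p w (c * x * c⁻¹) := by
      have := isPPart_conj hxp c
      rwa [hc] at this ⊢
    have h2 : t = c * x * c⁻¹ := isPPart_unique hw h1
    have h3 : IsConj x z := by
      apply IsConj.symm
      refine hzt.trans ?_
      rw [h2]
      exact (isConj_iff.mpr ⟨c, rfl⟩ : IsConj x (c * x * c⁻¹)).symm
    have h4 : orderOf z = p := by
      obtain ⟨d, hd⟩ := isConj_iff.mp h3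
      rw [← hd, ← hx]
      exact orderOf_conj x d
    have h5 : p ∣ orderOf u := by
      obtain ⟨k, hk⟩ := ppart_eq_zpow hz
      have : orderOf z ∣ orderOf u := by rw [hk]; exact orderOf_zpow_dvd' _ k
      rwa [h4] at this
    exact hnod u h5 hu
  have hval : blockPart (principalBlock M' G) β y = 0 := by
    apply blockPart_eq_zero hM' hBM' hyq
    intro w t hw hyt
    apply hsupp
    have h4 : orderOf t = q := by
      obtain ⟨d, hd⟩ := isConj_iff.mp hyt
      rw [← hd, ← hy]
      exact orderOf_conj y d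
    obtain ⟨k, hk⟩ := ppart_eq_zpow hw
    have : orderOf t ∣ orderOf w := by rw [hk]; exact orderOf_zpow_dvd' _ k
    rwa [h4] at this
  -- compute
  rw [blockPart_expand, Finset.sum_eq_single (⟨_, isIrrCharacter_one⟩ : IrrCharacter G)] at hval
  · rw [hβ, inner_blockPart] at hval
    have h1 : (⟨_, isIrrCharacter_one⟩ : IrrCharacter G) ∈ principalBlock M G :=
      sameBlock_refl (isPrime_of_modular hM) _
    have h2 : (⟨_, isIrrCharacter_one⟩ : IrrCharacter G) ∈ principalBlock M' G :=
      sameBlock_refl (isPrime_of_modular hM') _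
    rw [ind_of h1, ind_of h2, one_mul, one_mul] at hval
    have h3 : classInner δ ((⟨_, isIrrCharacter_one⟩ : IrrCharacter G) : G → ℂ) =
        (Nat.card G : ℂ)⁻¹ * ((Finset.univ.filter (fun g : G => IsConj x g)).card : ℂ) := by
      unfold classInner
      congr 1
      rw [Finset.card_filter, Nat.cast_sum]
      apply Finset.sum_congr rfl
      intro g _
      rw [hδ]
      by_cases hg : IsConj x g
      · simp [hg]
      · simp [hg]
    rw [h3] at hval
    have h4 : ((Finset.univ.filter (fun g : G => IsConj x g)).card : ℂ) ≠ 0 := by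
      have : 0 < (Finset.univ.filter (fun g : G => IsConj x g)).card :=
        Finset.card_pos.mpr ⟨x, by rw [Finset.mem_filter]; exact ⟨Finset.mem_univ _, IsConj.refl x⟩⟩
      exact_mod_cast this.ne'
    have h5 : (Nat.card G : ℂ)⁻¹ ≠ 0 := inv_ne_zero (by exact_mod_cast Nat.card_pos.ne')
    have h6 : (((⟨_, isIrrCharacter_one⟩ : IrrCharacter G) : G → ℂ) y) = 1 := rfl
    rw [h6, mul_one] at hval
    exact mul_ne_zero h5 h4 hval
  · intro χ _ hne
    rw [hβ, inner_blockPart]
    by_cases h1 : χ ∈ principalBlock M G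
    · have h2 : χ ∉ principalBlock M' G := by
        apply hcon χ _ h1
        intro h
        exact hne (Subtype.ext h)
      rw [ind_not h2, zero_mul]
    · rw [ind_not h1, zero_mul, zero_mul, mul_zero]
  · intro h; exact absurd (Finset.mem_univ _) h

/-- main step of S0904 -/
theorem s0904_aux [Fact p.Prime] {q r : ℕ} [Fact r.Prime] [IsSimpleGroup G]
    (hna : ∃ a b : G, a * b ≠ b * a)
    (a b : ℕ) (hq : q.Prime) (hpq : p ≠ q) (hpr : p ≠ r) (hqr : q ≠ r)
    (hcard : Nat.card G = p ^ a * q ^ b * r) {x y : G} (hx : orderOf x = p) (hy : orderOf y = r)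
    (hxy : Commute x y) : False := by
  classical
  have hpp : p.Prime := Fact.out
  have hrp : r.Prime := Fact.out
  obtain ⟨M, hM⟩ := exists_modular p hpp
  obtain ⟨M', hM'⟩ := exists_modular q hq
  obtain ⟨N, hN⟩ := exists_modular r hrp
  have hord : orderOf (x * y) = p * r := by
    rw [hxy.orderOf_mul_eq_mul_orderOf_of_coprime, hx, hy]
    rw [hx, hy]; exact (Nat.coprime_primes hpp hrp).mpr hpr
  have hB : IsPBlock M (principalBlock M G) := ⟨⟨_, isIrrCharacter_one⟩, rfl⟩
  have h1 := weak_block_orth hM hB (x := (1 : G)) (y := x * y)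
    (by rw [orderOf_one]; exact hpp.one_lt.ne' ∘ Nat.dvd_one.mp) (by rw [hord]; exact dvd_mul_right _ _)
  rw [← sum_ind, ← Finset.add_sum_erase _ _ (Finset.mem_univ (⟨_, isIrrCharacter_one⟩ : IrrCharacter G))] at h1
  have hone : (⟨_, isIrrCharacter_one⟩ : IrrCharacter G) ∈ principalBlock M G :=
      sameBlock_refl (isPrime_of_modular hM) _
  have hr2 : (Nat.card G).factorization r = 1 := by
    rw [hcard, Nat.factorization_mul (mul_ne_zero (pow_ne_zero _ hpp.ne_zero) (pow_ne_zero _ hq.ne_zero)) hrp.ne_zero, Nat.factorization_mul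
      (pow_ne_zero _ hpp.ne_zero) (pow_ne_zero _ hq.ne_zero), hpp.factorization_pow, hq.factorization_pow,
      hrp.factorization]
    simp [hpr, hqr]
  have hall : ∀ χ : IrrCharacter G, χ ≠ ⟨_, isIrrCharacter_one⟩ →
      MemLocalIdeal M' (ind (principalBlock M G) χ * ((χ : G → ℂ) 1 * conj ((χ : G → ℂ) (x * y)))) := by
    intro χ hχ
    by_cases hmem : χ ∈ principalBlock M G
    · rw [ind_of hmem, one_mul]
      by_cases hqd : q ∣ charDegree (χ : G → ℂ)
      · have h2 : MemLocalIdeal M' ((χ : G → ℂ) 1) := by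
          rw [irr_one_eq_charDegree χ.2]
          exact (ideal_nat_iff hM').mpr hqd
        apply ideal_mul_right (isPrime_of_modular hM') h2
        have h3 : IsIntegral ℤ (conj ((χ : G → ℂ) (x * y))) := by
          rw [← irr_inv χ.2]
          exact irr_isIntegral χ.2 _
        exact ringOfInt (isPrime_of_modular hM') h3
      · by_cases hrd : r ∣ charDegree (χ : G → ℂ)
        · have h2 : (charDegree (χ : G → ℂ)).factorization r = (Nat.card G).factorization r := by
            rw [hr2]
            apply le_antisymm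
            · rw [← hr2]
              exact (Nat.factorization_le_iff_dvd (irr_charDegree_pos χ.2).ne' Nat.card_pos.ne').mpr
                (charDegree_dvd_card χ.2) r
            · exact hrp.factorization_pos_of_dvd (irr_charDegree_pos χ.2).ne' hrd
          have h3 := vanish_of_defect_zero hN h2 (x := x * y) (by rw [hord]; exact dvd_mul_left _ _)
          rw [h3, map_zero, mul_zero]
          exact ideal_zero (isPrime_of_modular hM')
        · exfalso
          -- degree is a power of p
          have h2 : charDegree (χ : G → ℂ) ∣ p ^ a := by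
            have h3 := charDegree_dvd_card χ.2
            rw [hcard, mul_assoc] at h3
            refine (Nat.Coprime.dvd_of_dvd_mul_right ?_ h3)
            apply Nat.Coprime.mul_right
            · apply Nat.Coprime.pow_right
              exact ((Nat.Prime.coprime_iff_not_dvd hq).mpr hqd).symm
            · exact ((Nat.Prime.coprime_iff_not_dvd hrp).mpr hrd).symm
          obtain ⟨k, _, hk⟩ := (Nat.dvd_prime_pow hpp).mp h2
          have h3 := s0910 hM hna χ hmem k (by rw [irr_one_eq_charDegree χ.2, hk]; push_cast; rfl)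
          exact hχ (Subtype.ext h3)
    · rw [ind_not hmem, zero_mul]
      exact ideal_zero (isPrime_of_modular hM')
  have h4 : MemLocalIdeal M' (∑ χ ∈ Finset.univ.erase (⟨_, isIrrCharacter_one⟩ : IrrCharacter G),
      ind (principalBlock M G) χ * ((χ : G → ℂ) 1 * conj ((χ : G → ℂ) (x * y)))) := by
    apply ideal_sum (isPrime_of_modular hM')
    intro χ hχ
    exact hall χ (Finset.ne_of_mem_erase hχ)
  have h5 := eq_neg_of_add_eq_zero_left h1
  rw [ind_of hone] at h5
  have h6 : MemLocalIdeal M' 1 := by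
    have h7 := ideal_neg h4
    rw [← h5] at h7
    simpa using h7
  exact not_ideal_one (isPrime_of_modular hM') h6

/-- S0904 -/
theorem s0904 {q r : ℕ} [IsSimpleGroup G] (a b : ℕ) (hp : p.Prime) (hq : q.Prime)
    [Fact r.Prime] (hpq : p ≠ q) (hpr : p ≠ r) (hqr : q ≠ r)
    (hcard : Nat.card G = p ^ a * q ^ b * r) (S : Sylow r G) :
    Subgroup.centralizer (S : Set G) = (S : Subgroup G) := by
  classical
  haveI : Fact p.Prime := ⟨hp⟩
  haveI : Fact q.Prime := ⟨hq⟩
  have hr : r.Prime := Fact.out
  have hr2 : (Nat.card G).factorization r = 1 := by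
    rw [hcard, Nat.factorization_mul (mul_ne_zero (pow_ne_zero _ hp.ne_zero) (pow_ne_zero _ hq.ne_zero)) hr.ne_zero, Nat.factorization_mul
      (pow_ne_zero _ hp.ne_zero) (pow_ne_zero _ hq.ne_zero), hp.factorization_pow, hq.factorization_pow,
      hr.factorization]
    simp [hpr, hqr]
  have hScard : Nat.card (S : Subgroup G) = r := by
    have := S.card_eq_multiplicity
    rw [hr2, pow_one] at this
    exact this
  by_cases hab : ∀ a b : G, a * b = b * a
  · -- abelian case
    have hSn : (S : Subgroup G).Normal := ⟨fun n hn g => by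
      rw [hab g n, mul_inv_cancel_right]; exact hn⟩
    have hStop : (S : Subgroup G) = ⊤ := by
      rcases hSn.eq_bot_or_eq_top with h | h
      · exfalso
        rw [h, Subgroup.card_bot] at hScard
        exact hr.one_lt.ne hScard
      · exact h
    rw [hStop]
    rw [eq_top_iff]
    intro g _
    rw [Subgroup.mem_centralizer_iff]
    intro h _
    exact hab h g
  · push Not at hab
    -- S is abelian
    have hSle : (S : Subgroup G) ≤ Subgroup.centralizer (S : Set G) := by
      haveI : IsCyclic (S : Subgroup G) := isCyclic_of_prime_card hScard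
      intro s hs
      rw [Subgroup.mem_centralizer_iff]
      intro t ht
      exact congrArg Subtype.val (IsCyclic.commGroup.mul_comm (⟨t, ht⟩ : (S : Subgroup G)) ⟨s, hs⟩)
    obtain ⟨y, hy⟩ := exists_prime_orderOf_dvd_card' (G := (S : Subgroup G)) r (by rw [hScard])
    have hyo : orderOf (y : G) = r := by rw [Subgroup.orderOf_coe]; exact hy
    -- no elements of order p or q in the centralizer
    have key : ∀ s : ℕ, s.Prime → (s = p ∨ s = q) → ¬ s ∣ Nat.card (Subgroup.centralizer (S : Set G)) := by
      intro s hs hsp hdvd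
      haveI : Fact s.Prime := ⟨hs⟩
      obtain ⟨x, hx⟩ := exists_prime_orderOf_dvd_card' (G := Subgroup.centralizer (S : Set G)) s hdvd
      have hxo : orderOf (x : G) = s := by rw [Subgroup.orderOf_coe]; exact hx
      have hcomm : Commute (x : G) (y : G) :=
        ((Subgroup.mem_centralizer_iff.mp x.2) (y : G) y.2).symm
      rcases hsp with h | h
      · subst h
        exact s0904_aux hab a b hq hpq hpr hqr hcard hxo hyo hcomm
      · subst h
        exact s0904_aux hab b a hp (Ne.symm hpq) hqr hpr (by rw [hcard, mul_comm (p ^ a)]) hxo hyo hcomm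
    apply le_antisymm _ hSle
    have hcardC : Nat.card (Subgroup.centralizer (S : Set G)) ∣ r := by
      have h1 : Nat.card (Subgroup.centralizer (S : Set G)) ∣ p ^ a * q ^ b * r :=
        hcard ▸ Subgroup.card_subgroup_dvd_card _
      refine Nat.Coprime.dvd_of_dvd_mul_left ?_ h1
      apply Nat.Coprime.mul_right
      · apply Nat.Coprime.pow_right
        exact ((Nat.Prime.coprime_iff_not_dvd hp).mpr (key p hp (Or.inl rfl))).symm
      · apply Nat.Coprime.pow_right
        exact ((Nat.Prime.coprime_iff_not_dvd hq).mpr (key q hq (Or.inr rfl))).symm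
    have h2 : Nat.card (Subgroup.centralizer (S : Set G)) ≤ Nat.card (S : Subgroup G) := by
      rw [hScard]; exact Nat.le_of_dvd hr.pos hcardC
    exact (Subgroup.eq_of_le_of_card_ge hSle h2).ge

end CfsgLib.BlkSmall
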