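import Mathlib
import Cfsg.Agent.EqBase
import Cfsg.Prelude.Def_Blocks
import Cfsg.Agent.LibBlockM

/-!
# Real 2-blocks of full defect; S4490, S4517, S4483 (helper17)
-/

set_option autoImplicit false
set_option linter.unusedSectionVars false
set_option linter.style.haveILetI false
set_option linter.unusedSimpArgs false

namespace CfsgLib.BlockReal

open CfsgLib.CharInt hiding irr_isCharacter irr_classFun irr_one_ne_zero schur_scalar
open Cfsg CfsgLib.CharInt2 CfsgLib.CharBasic CfsgLib.BlockR CfsgLib.BlockCore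
  CfsgLib.BlockIdem CfsgLib.BlockIdeal CfsgLib.BlockConj CfsgLib.BlockBrauer CfsgLib.BlockInd
  CfsgLib.BlockFMT CfsgLib.BlockFMT2 CfsgLib.PLocalInd CfsgLib.BlockOrth CfsgLib.BlockDefect
  CfsgLib.BlockReg CfsgLib.BlockReg2 CfsgLib.BlockCount CfsgLib.BlockCount2 CfsgLib.BlockQP
  CfsgLib.BlockCov3 CfsgLib.BlockCov4 CfsgLib.BlockLoc CfsgLib.BlockM
  CfsgLib.CharNorm
open scoped ComplexConjugate Pointwise

universe u

variable {M : Ideal AlgInt} {G : Type u} [Group G] [Fintype G]

/-- sums over a set with an involution, modulo a maximal ideal over `2` -/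
theorem sum_inv_congr (hM : IsPModular 2 M) {X : Type*} [DecidableEq X] (τ : X → X)
    (hτ : ∀ x, τ (τ x) = x) (f : X → ℂ) (hR : ∀ x, MemLocalRing M (f x))
    (hf : ∀ x, MemLocalIdeal M (f (τ x) - f x)) (s : Finset X)
    (hs : ∀ x ∈ s, τ x ∈ s) : MemLocalIdeal M (∑ x ∈ s, f x - ∑ x ∈ s.filter (fun x => τ x = x), f x) := by
  have hp := isPrime_of_modular hM
  induction s using Finset.strongInduction with
  | H s ih =>
    by_cases hne : ∃ x ∈ s, τ x ≠ x
    · obtain ⟨x, hx, hxτ⟩ := hne
      set t := (s.erase x).erase (τ x) with ht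
      have hτx : τ x ∈ s.erase x := Finset.mem_erase.mpr ⟨hxτ, hs x hx⟩
      have hts : t ⊂ s := (Finset.erase_ssubset hτx).trans (Finset.erase_ssubset hx)
      have h1 : ∀ y ∈ t, τ y ∈ t := by
        intro y hy
        rw [ht, Finset.mem_erase, Finset.mem_erase] at hy ⊢
        refine ⟨?_, ?_, hs y hy.2.2⟩
        · intro h
          apply hy.2.1
          rw [← hτ y, h, hτ]
        · intro h
          apply hy.1
          rw [← h, hτ]
      have h2 := ih t hts h1
      have h3 : ∑ z ∈ s, f z = ∑ z ∈ t, f z + f (τ x) + f x := by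
        rw [ht, Finset.sum_erase_add _ _ hτx, Finset.sum_erase_add _ _ hx]
      have h4 : s.filter (fun x => τ x = x) = t.filter (fun x => τ x = x) := by
        ext y
        rw [Finset.mem_filter, Finset.mem_filter, ht, Finset.mem_erase, Finset.mem_erase]
        constructor
        · rintro ⟨hy, hy'⟩
          refine ⟨⟨?_, ?_, hy⟩, hy'⟩
          · intro h
            apply hxτ
            rw [h, hτ] at hy'
            exact hy'.symm
          · intro h
            rw [h] at hy'
            exact hxτ hy'
        · rintro ⟨⟨-, -, hy⟩, hy'⟩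
          exact ⟨hy, hy'⟩
      rw [h3, h4]
      have h5 : ∑ z ∈ t, f z + f (τ x) + f x - ∑ x ∈ t.filter (fun x => τ x = x), f x =
          (∑ z ∈ t, f z - ∑ x ∈ t.filter (fun x => τ x = x), f x) + (f (τ x) - f x) +
            ((2 : ℕ) : ℂ) * f x := by push_cast; ring
      rw [h5]
      exact ideal_add hp (ideal_add hp h2 (hf x)) (ideal_mul_right hp (ideal_p hM) (hR x))
    · push Not at hne
      have h1 : s.filter (fun x => τ x = x) = s := Finset.filter_true_of_mem hne
      rw [h1, sub_self]
      exact ideal_zero hp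

/-- a real class of nontrivial elements of odd order has even size -/
theorem even_index_of_real {g : G} (hg : ¬ 2 ∣ orderOf g) (hg1 : g ≠ 1) (hreal : IsConj g g⁻¹) :
    2 ∣ (Subgroup.centralizer ({g} : Set G)).index := by
  classical
  rw [← card_conj]
  -- inversion acts without fixed points on the class
  have h1 : (Finset.univ.filter (fun x : G => IsConj g x)).card % 2 = 0 := by
    have h2 : ∑ x ∈ Finset.univ.filter (fun x : G => IsConj g x), (1 : ZMod 2) = 0 := by
      apply Finset.sum_involution (fun x _ => x⁻¹)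
      · intro x _; decide
      · intro x hx _ h
        rw [Finset.mem_filter] at hx
        have h3 : x * x = 1 := by
          calc x * x = x⁻¹ * x := by rw [h]
            _ = 1 := inv_mul_cancel x
        have h4 : orderOf x ∣ 2 := by
          rw [orderOf_dvd_iff_pow_eq_one, pow_two, h3]
        have h5 : orderOf x = orderOf g := by
          obtain ⟨c, hc⟩ := isConj_iff.mp hx.2
          rw [← hc]; exact orderOf_conj g c
        rw [h5] at h4
        rcases (Nat.dvd_prime Nat.prime_two).mp h4 with h6 | h6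
        · exact hg1 (orderOf_eq_one_iff.mp h6)
        · exact hg (by rw [h6])
      · intro x _; exact inv_inv x
      · intro x hx
        rw [Finset.mem_filter] at hx ⊢
        refine ⟨Finset.mem_univ _, ?_⟩
        obtain ⟨c, hc⟩ := isConj_iff.mp hx.2
        refine hreal.trans (isConj_iff.mpr ⟨c, ?_⟩)
        rw [← hc]; group
    rw [Finset.sum_const, nsmul_eq_mul, mul_one] at h2
    have h3 := (ZMod.natCast_eq_zero_iff _ 2).mp h2
    omega
  omega

variable [Fact (Nat.Prime 2)]

theorem sum_real_congr (hM : IsPModular 2 M) (f : G → ℂ) (hR : ∀ x, MemLocalRing M (f x))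
    (hinv : ∀ x, f x⁻¹ = f x) (hsing : ∀ x : G, 2 ∣ orderOf x → f x = 0) :
    MemLocalIdeal M (∑ x : G, f x - f 1) := by
  classical
  have hp := isPrime_of_modular hM
  have hinvf : ∀ x : G, MemLocalIdeal M (f x⁻¹ - f x) := by
    intro x
    rw [hinv x, sub_self]
    exact ideal_zero hp
  have h7 := sum_inv_congr hM (fun x : G => x⁻¹) inv_inv f hR hinvf Finset.univ
    (fun x _ => Finset.mem_univ _)
  have h8 : ∑ x ∈ Finset.univ.filter (fun x : G => x⁻¹ = x), f x = f 1 := by
    rw [Finset.sum_eq_single (1 : G)]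
    · intro x hx hx1
      rw [Finset.mem_filter] at hx
      apply hsing
      have h9 : x * x = 1 := by
        calc x * x = x⁻¹ * x := by rw [hx.2]
          _ = 1 := inv_mul_cancel x
      have h10 : orderOf x = 2 := orderOf_eq_prime (by rw [pow_two, h9]) hx1
      rw [h10]
    · intro h
      exfalso
      apply h
      rw [Finset.mem_filter]
      exact ⟨Finset.mem_univ _, inv_one⟩
  rwa [h8] at h7

/-- blocks of full defect which are "real" on elements of odd order are principal -/
theorem principal_of_real (hM : IsPModular 2 M) {B : Set (IrrCharacter G)} (hB : IsPBlock M B)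
    (hdef : blockDefect 2 B = (Nat.card G).factorization 2)
    (hcoef : ∀ g : G, ¬ 2 ∣ orderOf g → blockCoeff B g⁻¹ = blockCoeff B g)
    (hom : ∀ χ ∈ B, ∀ g : G, ¬ 2 ∣ orderOf g →
      MemLocalIdeal M (centralChar (χ : G → ℂ) g⁻¹ - centralChar (χ : G → ℂ) g)) :
    B = principalBlock M G := by
  classical
  have hp := isPrime_of_modular hM
  obtain ⟨χ, hχ, h0⟩ := exists_height_zero hM hB
  have hodd : (charDegree (χ : G → ℂ)).factorization 2 = 0 := by omega
  have hdeg : ¬ 2 ∣ charDegree (χ : G → ℂ) := by
    intro h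
    have := (Nat.Prime.dvd_iff_one_le_factorization Nat.prime_two
      (irr_charDegree_pos χ.2).ne').mp h
    omega
  have hcoef' : ∀ g : G, blockCoeff B g⁻¹ = blockCoeff B g := by
    intro g
    by_cases hg : 2 ∣ orderOf g
    · rw [blockCoeff_eq_zero hM hB hg, blockCoeff_eq_zero hM hB (by rwa [orderOf_inv])]
    · exact hcoef g hg
  -- first evaluation
  letI : Fintype (ConjClasses G) := Fintype.ofFinite _
  have h1 := omg_blockCoeff B χ
  rw [ind_of hχ, omg_eq_sum_classes (blockCoeff_classFun _)] at h1
  -- the inversion on classes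
  let τ : ConjClasses G → ConjClasses G := fun C => ConjClasses.mk (Quotient.out C)⁻¹
  have hmk : ∀ g : G, τ (ConjClasses.mk g) = ConjClasses.mk g⁻¹ := by
    intro g
    change ConjClasses.mk (Quotient.out (ConjClasses.mk g))⁻¹ = _
    rw [ConjClasses.mk_eq_mk_iff_isConj]
    have h2 : IsConj (Quotient.out (ConjClasses.mk g)) g :=
      ConjClasses.mk_eq_mk_iff_isConj.mp (mk_out _)
    obtain ⟨c, hc⟩ := isConj_iff.mp h2
    rw [isConj_iff]
    refine ⟨c, ?_⟩
    have h3 := congrArg (fun z : G => z⁻¹) hc
    simpa [mul_assoc] using h3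
  have hτ : ∀ C, τ (τ C) = C := by
    intro C
    have h2 : τ C = ConjClasses.mk (Quotient.out C)⁻¹ := rfl
    rw [h2, hmk, inv_inv, mk_out]
  have hout : ∀ C : ConjClasses G, IsConj (Quotient.out (τ C) : G) (Quotient.out C : G)⁻¹ := by
    intro C
    rw [← ConjClasses.mk_eq_mk_iff_isConj, mk_out]
  set f : ConjClasses G → ℂ := fun C => blockCoeff B (Quotient.out C) *
    centralChar (χ : G → ℂ) (Quotient.out C) with hf
  have hfR : ∀ C, MemLocalRing M (f C) := fun C =>
    ring_mul hp (blockCoeff_ring hp hB _) (centralChar_ring hp χ _)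
  have hfτ : ∀ C, MemLocalIdeal M (f (τ C) - f C) := by
    intro C
    simp only [hf]
    rw [blockCoeff_isConj B (hout C), centralChar_isConj χ (hout C), hcoef', ← mul_sub]
    by_cases hC : 2 ∣ orderOf (Quotient.out C : G)
    · rw [blockCoeff_eq_zero hM hB hC, zero_mul]; exact ideal_zero hp
    · exact ideal_mul_left hp (blockCoeff_ring hp hB _) (hom χ hχ _ hC)
  have h2 := sum_inv_congr hM τ hτ f hfR hfτ Finset.univ (fun C _ => Finset.mem_univ _)
  rw [show ∑ x ∈ (Finset.univ : Finset (ConjClasses G)), f x = 1 from h1] at h2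
  have h3 : MemLocalIdeal M (∑ C ∈ Finset.univ.filter (fun C => τ C = C), f C -
      blockCoeff B 1) := by
    have h4 : (ConjClasses.mk (1 : G)) ∈ Finset.univ.filter (fun C => τ C = C) := by
      rw [Finset.mem_filter]
      refine ⟨Finset.mem_univ _, ?_⟩
      rw [hmk, inv_one]
    rw [← Finset.add_sum_erase _ _ h4]
    have h5 : f (ConjClasses.mk (1 : G)) = blockCoeff B 1 := by
      simp only [hf]
      have h6 : IsConj (Quotient.out (ConjClasses.mk (1 : G)) : G) 1 :=
        ConjClasses.mk_eq_mk_iff_isConj.mp (mk_out _)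
      rw [blockCoeff_isConj B h6, centralChar_isConj χ h6, centralChar_one, mul_one]
    rw [h5, add_sub_cancel_left]
    apply ideal_sum hp
    intro C hC
    rw [Finset.mem_erase, Finset.mem_filter] at hC
    simp only [hf]
    by_cases hC2 : 2 ∣ orderOf (Quotient.out C : G)
    · rw [blockCoeff_eq_zero hM hB hC2, zero_mul]; exact ideal_zero hp
    · apply ideal_mul_left hp (blockCoeff_ring hp hB _)
      have hne : (Quotient.out C : G) ≠ 1 := by
        intro h
        apply hC.1
        rw [← mk_out C, h]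
      have hreal : IsConj (Quotient.out C : G) (Quotient.out C : G)⁻¹ := by
        have := hout C
        rwa [hC.2.2] at this
      have hev := even_index_of_real hC2 hne hreal
      unfold centralChar
      rw [irr_one_eq_charDegree χ.2]
      apply ideal_div hp
      · exact ideal_mul_right hp ((ideal_nat_iff hM).mpr hev) (irr_ring hp χ _)
      · exact ring_nat hp _
      · rw [ideal_nat_iff hM]; exact hdeg
  have h4 : ¬ MemLocalIdeal M (blockCoeff B 1) := by
    intro h
    have h5 := ideal_add hp (ideal_add hp h2 h3) h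
    rw [sub_add_sub_cancel, sub_add_cancel] at h5
    exact not_ideal_one hp h5
  -- second evaluation
  by_contra hne
  have h5 : (⟨_, isIrrCharacter_one⟩ : IrrCharacter G) ∉ B := by
    intro h
    apply hne
    rw [block_eq_blockOf hp hB h]
    rfl
  have h6 := omg_blockCoeff B (⟨_, isIrrCharacter_one⟩ : IrrCharacter G)
  rw [ind_not h5] at h6
  have h6' : ∑ x : G, blockCoeff B x = 0 := by
    unfold omg at h6
    simpa using h6
  have h7 := sum_real_congr hM (fun x => blockCoeff B x) (blockCoeff_ring hp hB) hcoef'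
    (fun x hx => blockCoeff_eq_zero hM hB hx)
  rw [show ∑ x : G, (fun x => blockCoeff B x) x = 0 from h6', zero_sub] at h7
  apply h4
  have := ideal_neg h7
  rwa [neg_neg] at this

theorem centralizer_inv (g : G) :
    Subgroup.centralizer ({g⁻¹} : Set G) = Subgroup.centralizer ({g} : Set G) := by
  ext x
  rw [Subgroup.mem_centralizer_singleton_iff, Subgroup.mem_centralizer_singleton_iff]
  constructor
  · intro h
    have h6 : Commute x g⁻¹ := h
    exact (Commute.inv_right_iff.mp h6).eq
  · intro h
    have h6 : Commute x g := h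
    exact h6.inv_right.eq

theorem centralChar_conj (χ : IrrCharacter G) (g : G) :
    centralChar (fun g => conj ((χ : G → ℂ) g)) g = centralChar (χ : G → ℂ) g⁻¹ := by
  unfold centralChar
  have h3 : conj ((χ : G → ℂ) 1) = (χ : G → ℂ) 1 := by
    rw [irr_one_eq_charDegree χ.2, map_natCast]
  rw [h3, ← char_inv_eq_conj (irr_isCharacter χ.2), centralizer_inv]

theorem sameBlock_conj {χ ψ : IrrCharacter G} (h : SameBlock M (χ : G → ℂ) (ψ : G → ℂ)) :
    SameBlock M (fun g => conj ((χ : G → ℂ) g)) (fun g => conj ((ψ : G → ℂ) g)) := by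
  intro g
  rw [centralChar_conj, centralChar_conj]
  exact h g⁻¹

/-- S4490 -/
theorem principal_of_conj (hM : IsPModular 2 M) {B : Set (IrrCharacter G)} (hB : IsPBlock M B)
    (hdef : blockDefect 2 B = (Nat.card G).factorization 2)
    (hconj : ∀ χ ∈ B, ∃ ψ ∈ B, (ψ : G → ℂ) = fun g => conj ((χ : G → ℂ) g)) :
    B = principalBlock M G := by
  classical
  have hp := isPrime_of_modular hM
  -- the conjugation map
  let c : IrrCharacter G → IrrCharacter G := fun χ => ⟨_, isIrrCharacter_conj χ.2⟩
  have hc : ∀ χ, c (c χ) = χ := by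
    intro χ
    apply Subtype.ext
    funext g
    exact Complex.conj_conj _
  have hcB : ∀ χ, c χ ∈ B ↔ χ ∈ B := by
    have h1 : ∀ χ ∈ B, c χ ∈ B := by
      intro χ hχ
      obtain ⟨ψ, hψ, h2⟩ := hconj χ hχ
      have : c χ = ψ := Subtype.ext h2.symm
      rw [this]; exact hψ
    intro χ
    refine ⟨fun h => ?_, h1 χ⟩
    have := h1 _ h
    rwa [hc] at this
  apply principal_of_real hM hB hdef
  · intro g _
    rw [blockCoeff_eq_fou, blockCoeff_eq_fou]
    unfold fou
    congr 1
    rw [← Function.Bijective.sum_comp (Function.Involutive.bijective hc)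
      (fun χ : IrrCharacter G => ind B χ * ((χ : G → ℂ) 1 * conj ((χ : G → ℂ) g)))]
    apply Finset.sum_congr rfl
    intro χ _
    have h1 : ind B (c χ) = ind B χ := by
      by_cases h : χ ∈ B
      · rw [ind_of h, ind_of ((hcB χ).mpr h)]
      · rw [ind_not h, ind_not (fun h2 => h ((hcB χ).mp h2))]
    rw [h1, char_inv_eq_conj (irr_isCharacter χ.2)]
    have h2 : (c χ : G → ℂ) 1 = (χ : G → ℂ) 1 := by
      change conj ((χ : G → ℂ) 1) = _
      rw [irr_one_eq_charDegree χ.2, map_natCast]
    rw [h2]
  · intro χ hχ g _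
    have h1 := sameBlock_of_mem hp hB ((hcB χ).mpr hχ) hχ g
    have h2 : centralChar (c χ : G → ℂ) g = centralChar (χ : G → ℂ) g⁻¹ := by
      unfold centralChar
      have h3 : (c χ : G → ℂ) 1 = (χ : G → ℂ) 1 := by
        change conj ((χ : G → ℂ) 1) = _
        rw [irr_one_eq_charDegree χ.2, map_natCast]
      have h4 : (c χ : G → ℂ) g = (χ : G → ℂ) g⁻¹ := by
        rw [char_inv_eq_conj (irr_isCharacter χ.2)]
      have h5 : Subgroup.centralizer ({g⁻¹} : Set G) = Subgroup.centralizer ({g} : Set G) := by
        ext x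
        rw [Subgroup.mem_centralizer_singleton_iff, Subgroup.mem_centralizer_singleton_iff]
        constructor
        · intro h
          have h6 : Commute x g⁻¹ := h
          exact (Commute.inv_right_iff.mp h6).eq
        · intro h
          have h6 : Commute x g := h
          exact h6.inv_right.eq
      rw [h3, h4, h5]
    rw [h2] at h1
    exact h1

/-- S4517 -/
theorem principal_of_pow (hM : IsPModular 2 M) (k : ℕ) (hk : Nat.Coprime k (Nat.card G))
    (hk₂ : ∀ g : G, ¬ 2 ∣ orderOf g → g ^ k = g⁻¹)
    {B : Set (IrrCharacter G)} (hB : IsPBlock M B)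
    (hdef : blockDefect 2 B = (Nat.card G).factorization 2)
    (hstab : ∀ χ ∈ B, ∃ ψ ∈ B, ∀ g : G, (ψ : G → ℂ) g = (χ : G → ℂ) (g ^ k)) :
    B = principalBlock M G := by
  classical
  have hp := isPrime_of_modular hM
  have hbij : Function.Bijective (fun g : G => g ^ k) := by
    have := (powCoprime (G := G) (Nat.Coprime.symm hk)).bijective
    exact this
  choose! c hcB hc using hstab
  -- the map is injective on `B`, hence bijective
  have hinj : Set.InjOn c B := by
    intro χ hχ ψ hψ h
    apply Subtype.ext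
    funext g
    obtain ⟨x, rfl⟩ := hbij.2 g
    rw [← hc χ hχ, ← hc ψ hψ, h]
  have h3 : c '' B = B := by
    apply Set.eq_of_subset_of_ncard_le
    · rintro _ ⟨χ, hχ, rfl⟩; exact hcB χ hχ
    · rw [Set.ncard_image_of_injOn hinj]
    · exact Set.toFinite B
  apply principal_of_real hM hB hdef
  · intro g hg
    have h0 : blockCoeff B g⁻¹ = blockCoeff B (g ^ k) := by rw [hk₂ g hg]
    rw [h0]
    unfold blockCoeff
    congr 1
    have h1 : ∑ᶠ χ ∈ B, (χ : G → ℂ) 1 * conj ((χ : G → ℂ) (g ^ k)) =
        ∑ᶠ χ ∈ B, ((c χ : IrrCharacter G) : G → ℂ) 1 * conj (((c χ : IrrCharacter G) : G → ℂ) g) := by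
      apply finsum_mem_congr rfl
      intro χ hχ
      rw [hc χ hχ, hc χ hχ, one_pow]
    rw [h1]
    have h2 := finsum_mem_image (f := fun χ : IrrCharacter G => (χ : G → ℂ) 1 *
      conj ((χ : G → ℂ) g)) hinj
    rw [h3] at h2
    exact h2.symm
  · intro χ hχ g hg
    have h1 := sameBlock_of_mem hp hB (hcB χ hχ) hχ g
    have h2 : centralChar (c χ : G → ℂ) g = centralChar (χ : G → ℂ) g⁻¹ := by
      unfold centralChar
      have h5 : Subgroup.centralizer ({g⁻¹} : Set G) = Subgroup.centralizer ({g} : Set G) := by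
        ext x
        rw [Subgroup.mem_centralizer_singleton_iff, Subgroup.mem_centralizer_singleton_iff]
        constructor
        · intro h
          have h6 : Commute x g⁻¹ := h
          exact (Commute.inv_right_iff.mp h6).eq
        · intro h
          have h6 : Commute x g := h
          exact h6.inv_right.eq
      rw [h5, hc χ hχ, hc χ hχ, hk₂ g hg, one_pow]
    rw [h2] at h1
    exact h1

/-- S4483 (i) -/
theorem real_odd_principal (hM : IsPModular 2 M) (χ : IrrCharacter G)
    (hreal : ∀ g : G, ((χ : G → ℂ) g).im = 0) (hodd : Odd (charDegree (χ : G → ℂ))) :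
    χ ∈ principalBlock M G := by
  have hp := isPrime_of_modular hM
  have hB : IsPBlock M (blockOf M (χ : G → ℂ)) := ⟨χ, rfl⟩
  have hχ := mem_blockOf_self hp χ
  have hdeg := degree_eq hM hB hχ
  have h1 : (charDegree (χ : G → ℂ)).factorization 2 = 0 := by
    apply Nat.factorization_eq_zero_of_not_dvd
    intro h
    exact (Nat.not_even_iff_odd.mpr hodd) (even_iff_two_dvd.mpr h)
  have hda := defect_le 2 (blockOf M (χ : G → ℂ))
  have h2 : blockOf M (χ : G → ℂ) = principalBlock M G := by
    apply principal_of_conj hM hB (by omega)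
    intro ψ hψ
    refine ⟨⟨_, isIrrCharacter_conj ψ.2⟩, ?_, rfl⟩
    have h3 := sameBlock_conj (χ := χ) (ψ := ψ) hψ
    have h4 : (fun g => conj ((χ : G → ℂ) g)) = (χ : G → ℂ) := by
      funext g
      exact Complex.conj_eq_iff_im.mpr (hreal g)
    rw [h4] at h3
    exact h3
  rw [← h2]
  exact hχ

theorem defect_le' (B : Set (IrrCharacter G)) :
    blockDefect 2 B ≤ (Nat.card G).factorization 2 := defect_le 2 B

/-- S4483 (ii) -/
theorem card_real_odd (hM : IsPModular 2 M) :
    Nat.card {χ : IrrCharacter G // (∀ g : G, ((χ : G → ℂ) g).im = 0) ∧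
      Odd (charDegree (χ : G → ℂ))} ≤ 2 ^ (2 * (Nat.card G).factorization 2) := by
  classical
  have hB : IsPBlock M (principalBlock M G) := ⟨⟨_, isIrrCharacter_one⟩, rfl⟩
  have h1 : Nat.card {χ : IrrCharacter G // (∀ g : G, ((χ : G → ℂ) g).im = 0) ∧
      Odd (charDegree (χ : G → ℂ))} ≤ Nat.card (principalBlock M G) := by
    have himp : ∀ χ : IrrCharacter G, ((∀ g : G, ((χ : G → ℂ) g).im = 0) ∧
      Odd (charDegree (χ : G → ℂ))) → χ ∈ principalBlock M G :=
      fun χ h => real_odd_principal hM χ h.1 h.2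
    exact Nat.card_le_card_of_injective (Subtype.map id himp)
      (Subtype.map_injective _ Function.injective_id)
  have h2 := brauer_feit hM hB
  have hd := defect_le' (principalBlock M G)
  have h3 : 2 ^ (2 * blockDefect 2 (principalBlock M G)) ≤
      2 ^ (2 * (Nat.card G).factorization 2) :=
    pow_le_pow_right₀ one_le_two (Nat.mul_le_mul_left 2 hd)
  rcases Nat.eq_zero_or_pos ((Nat.card G).factorization 2) with h4 | h4
  · rw [h4] at h3 ⊢
    simp only [mul_zero, pow_zero] at h3 ⊢
    omega
  · have h5 : 4 ≤ 2 ^ (2 * (Nat.card G).factorization 2) := by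
      calc 4 = 2 ^ 2 := by norm_num
        _ ≤ _ := pow_le_pow_right₀ one_le_two (by omega)
    omega

end CfsgLib.BlockReal
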