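import Cfsg.Agent.LibGlaub2
import Cfsg.Agent.LibBrauerInd
/-!
# Invariant constituents above and below (helper20)
-/
set_option autoImplicit false
set_option linter.all false
open scoped ComplexConjugate commutatorElement
open Cfsg
namespace CfsgLib.Glaub4
open CfsgLib CfsgLib.CharBasic CfsgLib.CharIndA CfsgLib.Clifford CfsgLib.Glaub CfsgLib.Glaub2

universe u v w

section Lemma
variable {A : Type u} {B : Type v} [Group A] [Group B] (φ : A →* MulAut B) {Ω : Type w}
  (fA : A → Ω → Ω) (fB : B → Ω → Ω) (hA1 : ∀ ω, fA 1 ω = ω) (hAm : ∀ a a' ω, fA (a * a') ω = fA a (fA a' ω))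
  (hB1 : ∀ ω, fB 1 ω = ω) (hBm : ∀ b b' ω, fB (b * b') ω = fB b (fB b' ω))
  (hcomp : ∀ a b ω, fA a (fB b ω) = fB (φ a b) (fA a ω))

include hA1 hAm hB1 hBm hcomp in
/-- Glauberman's lemma with a normal subgroup of operators acting trivially -/
theorem glaub_fixed_quot [Finite A] [Finite B] (A₀ : Subgroup A) [A₀.Normal] (hcop : A₀.index.Coprime (Nat.card B))
    (hsolv : Group.IsSolvable (A ⧸ A₀) ∨ Group.IsSolvable B) (h0 : ∀ a ∈ A₀, φ a = 1) (h0' : ∀ a ∈ A₀, ∀ ω, fA a ω = ω)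
    (S : Set Ω) (hne : S.Nonempty) (hSA : ∀ a, ∀ s ∈ S, fA a s ∈ S) (hSB : ∀ b, ∀ s ∈ S, fB b s ∈ S)
    (htr : ∀ s ∈ S, ∀ t ∈ S, ∃ b, fB b s = t) : ∃ s ∈ S, ∀ a, fA a s = s := by
  have hlift : ∀ (a : A) ω, fA ((a : A ⧸ A₀).out) ω = fA a ω := by
    intro a ω
    obtain ⟨n, hn⟩ := QuotientGroup.mk_out_eq_mul A₀ a
    rw [hn, hAm, h0' n n.2]
  obtain ⟨s, hs, hs'⟩ := glaub_fixed (QuotientGroup.lift A₀ φ h0) (fun q ω => fA q.out ω) fB
    (fun ω => by
      have := hlift 1 ω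
      rw [hA1] at this
      exact this)
    (fun q q' ω => by
      obtain ⟨a, rfl⟩ := QuotientGroup.mk_surjective q
      obtain ⟨a', rfl⟩ := QuotientGroup.mk_surjective q'
      have e : ((a : A ⧸ A₀) * (a' : A ⧸ A₀)) = ((a * a' : A) : A ⧸ A₀) := rfl
      simp only [e, hlift, hAm])
    hB1 hBm
    (fun q b ω => by
      obtain ⟨a, rfl⟩ := QuotientGroup.mk_surjective q
      simp only [hlift]
      rw [hcomp]; rfl)
    hcop hsolv S hne (fun q s hs => hSA _ s hs) hSB htr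
  refine ⟨s, hs, fun a => ?_⟩
  have := hs' (a : A ⧸ A₀)
  simp only [hlift] at this
  exact this

end Lemma

section Quot
variable {A : Type v} {G : Type u} [Group A] [Group G] (φ : A →* MulAut G) (N : Subgroup G) [hN : N.Normal]
  (hNA : ∀ a, ∀ n ∈ N, φ a n ∈ N)

include hNA in
theorem map_eq_of_inv (a : A) : N.map ((φ a) : G →* G) = N := by
  apply le_antisymm
  · rintro _ ⟨n, hn, rfl⟩
    exact hNA a n hn
  · intro n hn
    exact ⟨φ a⁻¹ n, hNA _ n hn, apply_inv_apply φ a n⟩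

/-- induced operators on the quotient -/
def quotAct : A →* MulAut (G ⧸ N) where
  toFun a := QuotientGroup.congr N N (φ a) (map_eq_of_inv φ N hNA a)
  map_one' := by
    ext q
    obtain ⟨g, rfl⟩ := QuotientGroup.mk_surjective q
    change ((φ 1 g : G) : G ⧸ N) = g
    rw [map_one]; rfl
  map_mul' a b := by
    ext q
    obtain ⟨g, rfl⟩ := QuotientGroup.mk_surjective q
    change ((φ (a * b) g : G) : G ⧸ N) = ((φ a (φ b g) : G) : G ⧸ N)
    rw [map_mul]; rfl

theorem quotAct_mk (a : A) (g : G) : quotAct φ N hNA a (g : G ⧸ N) = ((φ a g : G) : G ⧸ N) := rfl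

/-- action of the quotient on class functions of the normal subgroup -/
noncomputable def quotCj (q : G ⧸ N) (θ : N → ℂ) : N → ℂ := cj hN (q.out)⁻¹ θ

theorem quotCj_mk (g : G) {θ : N → ℂ} (hθ : IsClassFunction N θ) : quotCj N (g : G ⧸ N) θ = cj hN g⁻¹ θ := by
  obtain ⟨n, hn⟩ := QuotientGroup.mk_out_eq_mul N g
  rw [quotCj, hn, mul_inv_rev, ← cj_cj, cj_of_mem hN (N.inv_mem n.2) hθ]

end Quot

section Below
variable {A : Type v} {G : Type u} [Group A] [Finite A] [Group G] [Fintype G] (φ : A →* MulAut G) (N : Subgroup G) [hN : N.Normal]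
  (hNA : ∀ a, ∀ n ∈ N, φ a n ∈ N) [Fintype N]

/-- invariant constituents of restrictions to invariant normal subgroups -/
theorem exists_inv_below (hcop : (Nat.card A).Coprime N.index)
    (hsolv : Group.IsSolvable A ∨ Group.IsSolvable (G ⧸ N)) {χ : G → ℂ} (hχ : IsIrrCharacter G χ) (hi : Inv φ χ) :
    ∃ θ : N → ℂ, IsIrrCharacter N θ ∧ classInner (fun n : N => χ n) θ ≠ 0 ∧ Inv (resHom φ N hNA) θ := by
  obtain ⟨θ0, hθ0, h0⟩ := exists_below N hχ
  obtain ⟨θ, h2, h3⟩ := glaub_fixed (quotAct φ N hNA) (Ω := IrrCharacter N)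
    (fun a θ => ⟨(θ : N → ℂ) ∘ (resHom φ N hNA a⁻¹), isIrrCharacter_comp_equiv θ.2 (resHom φ N hNA a⁻¹)⟩)
    (fun q θ => ⟨quotCj N q θ, cj_irr hN _ θ.2⟩)
    (fun θ => by
      apply Subtype.ext; ext n
      change (θ : N → ℂ) (resHom φ N hNA 1⁻¹ n) = (θ : N → ℂ) n
      rw [inv_one, map_one]; rfl)
    (fun a b θ => by
      apply Subtype.ext; ext n
      change (θ : N → ℂ) (resHom φ N hNA (a * b)⁻¹ n) = (θ : N → ℂ) (resHom φ N hNA b⁻¹ (resHom φ N hNA a⁻¹ n))
      rw [mul_inv_rev, map_mul]; rfl)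
    (fun θ => by
      apply Subtype.ext
      change quotCj N ((1 : G) : G ⧸ N) (θ : N → ℂ) = _
      rw [quotCj_mk N _ (irr_classFun θ.2), inv_one, cj_one])
    (fun q q' θ => by
      apply Subtype.ext
      obtain ⟨g, rfl⟩ := QuotientGroup.mk_surjective q
      obtain ⟨g', rfl⟩ := QuotientGroup.mk_surjective q'
      change quotCj N ((g * g' : G) : G ⧸ N) (θ : N → ℂ) = quotCj N (g : G ⧸ N) (quotCj N (g' : G ⧸ N) (θ : N → ℂ))
      rw [quotCj_mk N _ (irr_classFun θ.2), quotCj_mk N g' (irr_classFun θ.2),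
        quotCj_mk N g (cj_classFun hN _ (irr_classFun θ.2)), cj_cj, mul_inv_rev])
    (fun a q θ => by
      apply Subtype.ext
      obtain ⟨g, rfl⟩ := QuotientGroup.mk_surjective q
      have h1 : IsClassFunction N ((θ : N → ℂ) ∘ (resHom φ N hNA a⁻¹)) :=
        irr_classFun (isIrrCharacter_comp_equiv θ.2 (resHom φ N hNA a⁻¹))
      change (quotCj N (g : G ⧸ N) (θ : N → ℂ)) ∘ (resHom φ N hNA a⁻¹) =
        quotCj N ((φ a g : G) : G ⧸ N) ((θ : N → ℂ) ∘ (resHom φ N hNA a⁻¹))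
      rw [quotCj_mk N _ (irr_classFun θ.2), quotCj_mk N _ h1]
      ext n
      refine congrArg (θ : N → ℂ) (Subtype.ext ?_)
      change g⁻¹ * φ a⁻¹ n * g⁻¹⁻¹ = φ a⁻¹ ((φ a g)⁻¹ * n * (φ a g)⁻¹⁻¹)
      have e1 : φ a⁻¹ ((φ a g)⁻¹) = g⁻¹ := by rw [map_inv (φ a⁻¹), inv_apply_apply]
      rw [map_mul, map_mul, inv_inv, inv_inv, e1, inv_apply_apply])
    hcop hsolv {θ | classInner (fun n : N => χ n) (θ : N → ℂ) ≠ 0} ⟨⟨θ0, hθ0⟩, h0⟩
    (fun a θ hθ => by
      change classInner (fun n : N => χ n) ((θ : N → ℂ) ∘ (resHom φ N hNA a⁻¹)) ≠ 0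
      have e : (fun n : N => χ n) = (fun n : N => χ n) ∘ (resHom φ N hNA a⁻¹) := by
        ext n
        exact (hi a⁻¹ n).symm
      rw [e, ci_equiv]
      exact hθ)
    (fun q θ hθ => by
      change classInner (fun n : N => χ n) (cj hN _ (θ : N → ℂ)) ≠ 0
      rw [mult_cj hN (irr_classFun hχ)]
      exact hθ)
    (fun θ hθ θ' hθ' => by
      obtain ⟨x, hx⟩ := constituents_conj hN hχ θ.2 θ'.2 hθ hθ'
      refine ⟨((x⁻¹ : G) : G ⧸ N), ?_⟩
      apply Subtype.ext
      change quotCj N ((x⁻¹ : G) : G ⧸ N) (θ : N → ℂ) = _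
      rw [quotCj_mk N _ (irr_classFun θ.2), inv_inv, hx])
  refine ⟨θ, θ.2, h2, fun a n => ?_⟩
  have h4 := congrArg (fun θ : IrrCharacter N => (θ : N → ℂ) n) (h3 a⁻¹)
  change (θ : N → ℂ) (resHom φ N hNA (a⁻¹)⁻¹ n) = (θ : N → ℂ) n at h4
  rwa [inv_inv] at h4

end Below

section Above
variable {A : Type v} {G : Type u} [Group A] [Finite A] [Group G] [Fintype G] (φ : A →* MulAut G)

theorem irr_mul_linear {χ : G → ℂ} (hχ : IsIrrCharacter G χ) (l : G →* ℂˣ) : IsIrrCharacter G (fun g => χ g * l g) := by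
  rw [irr_iff_norm_one]
  refine ⟨isCharacter_mul (irr_isCharacter hχ) (isCharacter_hom l), ?_⟩
  rw [← irr_inner_self hχ]
  unfold classInner
  congr 1
  refine Finset.sum_congr rfl fun g _ => ?_
  have h1 : (l g : ℂ) * conj (l g : ℂ) = 1 := by
    have h2 : (l g : ℂ) ^ Nat.card G = 1 := by
      rw [← Units.val_pow_eq_pow_val, ← map_pow, pow_card_eq_one']; simp
    rw [Complex.mul_conj, Complex.normSq_eq_norm_sq, norm_one_of_pow Nat.card_pos.ne' h2]; simp
  rw [map_mul]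
  linear_combination (χ g * conj (χ g)) * h1

variable (M : Subgroup G) [hM : M.Normal] [Fintype M]

omit [Fintype M] in
theorem sum_infl_mul [Fintype (G ⧸ M)] (hab : ∀ a b : G ⧸ M, a * b = b * a) (g : G) [Decidable (g ∈ M)] :
    ∑ μ : IrrCharacter (G ⧸ M), (μ : G ⧸ M → ℂ) (g : G ⧸ M) = if g ∈ M then (M.index : ℂ) else 0 := by
  classical
  have h1 := BrauerInd.sum_irr_comm hab (g : G ⧸ M) 1
  have h2 : ∀ μ : IrrCharacter (G ⧸ M), (μ : G ⧸ M → ℂ) 1 = 1 := fun μ => irr_degree_one_of_comm hab μ.2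
  simp only [h2, map_one, mul_one] at h1
  rw [h1]
  by_cases h : g ∈ M
  · rw [if_pos h, if_pos ((QuotientGroup.eq_one_iff g).mpr h)]; rfl
  · rw [if_neg h, if_neg (fun h' => h ((QuotientGroup.eq_one_iff g).mp h'))]

/-- for abelian quotients, characters with overlapping restrictions differ by a linear character -/
theorem exists_linear_mul (hab : ∀ a b : G ⧸ M, a * b = b * a) {χ ψ : G → ℂ} (hχ : IsIrrCharacter G χ)
    (hψ : IsIrrCharacter G ψ) (h : classInner (fun m : M => χ m) (fun m : M => ψ m) ≠ 0) :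
    ∃ l : (G ⧸ M) →* ℂˣ, (fun g => χ g * l (g : G ⧸ M)) = ψ := by
  classical
  haveI := Fintype.ofFinite (G ⧸ M)
  have h1 : ∑ μ : IrrCharacter (G ⧸ M), classInner (fun g => χ g * (μ : G ⧸ M → ℂ) (g : G ⧸ M)) ψ =
      classInner (fun m : M => χ m) (fun m : M => ψ m) := by
    rw [← CharBasic.inner_sum_left]
    unfold classInner
    have h2 : ∀ g : G, (∑ μ : IrrCharacter (G ⧸ M), fun g => χ g * (μ : G ⧸ M → ℂ) (g : G ⧸ M)) g * conj (ψ g) =
        if g ∈ M then (M.index : ℂ) * (χ g * conj (ψ g)) else 0 := by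
      intro g
      rw [Finset.sum_apply, ← Finset.mul_sum, sum_infl_mul M hab g]
      split_ifs
      · ring
      · ring
    rw [Finset.sum_congr rfl fun g _ => h2 g, ← Finset.sum_filter, ← Finset.mul_sum]
    have h3 : ∑ g ∈ Finset.univ.filter (fun g : G => g ∈ M), χ g * conj (ψ g) = ∑ m : M, χ m * conj (ψ m) :=
      Finset.sum_subtype _ (fun x => by simp) _
    rw [h3, ← mul_assoc, ← Subgroup.card_mul_index M]
    congr 1
    have h4 : (Nat.card M : ℂ) ≠ 0 := by exact_mod_cast Nat.card_pos.ne'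
    have h5 : (M.index : ℂ) ≠ 0 := by exact_mod_cast Subgroup.index_ne_zero_of_finite
    push_cast
    field_simp
  rw [← h1] at h
  obtain ⟨μ, -, hμ⟩ := Finset.exists_ne_zero_of_sum_ne_zero h
  obtain ⟨l, hl⟩ := irr_hom_of_comm hab μ.2
  refine ⟨l, ?_⟩
  have h6 : (fun g => χ g * (μ : G ⧸ M → ℂ) (g : G ⧸ M)) = fun g => χ g * l (g : G ⧸ M) := by
    ext g; rw [hl]
  rw [h6] at hμ
  by_contra hne
  exact hμ (irr_inner_ne (irr_mul_linear hχ (l.comp (QuotientGroup.mk' M))) hψ hne)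

end Above

section Above2
variable {G : Type u} [Group G] [Fintype G]

theorem inner_ne_zero_of_common {χ ψ θ : G → ℂ} (hχ : IsCharacter G χ) (hψ : IsCharacter G ψ) (hθ : IsIrrCharacter G θ)
    (h1 : classInner χ θ ≠ 0) (h2 : classInner ψ θ ≠ 0) : classInner χ ψ ≠ 0 := by
  classical
  intro h3
  obtain ⟨m, hm, -, -⟩ := char_expand hχ
  obtain ⟨m', hm', -, -⟩ := char_expand hψ
  rw [parseval (char_classFun hχ) (char_classFun hψ)] at h3
  have h4 : ∑ χ : IrrCharacter G, m χ * m' χ = 0 := by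
    have : ∑ χ : IrrCharacter G, ((m χ : ℂ) * (m' χ : ℂ)) = 0 := by
      rw [← h3]; exact Finset.sum_congr rfl fun χ _ => by rw [hm, hm', Complex.conj_natCast]
    exact_mod_cast this
  have h5 := (Finset.sum_eq_zero_iff.mp h4) ⟨θ, hθ⟩ (Finset.mem_univ _)
  rcases Nat.mul_eq_zero.mp h5 with h6 | h6
  · apply h1
    have := hm ⟨θ, hθ⟩
    rw [h6] at this
    simpa using this
  · apply h2
    have := hm' ⟨θ, hθ⟩
    rw [h6] at this
    simpa using this

theorem mult_trans {N M : Subgroup G} [Fintype N] [Fintype M] (hNM : N ≤ M) {χ : G → ℂ} (hχ : IsCharacter G χ)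
    {ψ : M → ℂ} (hψ : IsIrrCharacter M ψ) {θ : N → ℂ} (hθ : IsIrrCharacter N θ)
    (h1 : classInner (fun m : M => χ m) ψ ≠ 0) (h2 : classInner (resT hNM ψ) θ ≠ 0) :
    classInner (fun n : N => χ n) θ ≠ 0 := by
  classical
  obtain ⟨m, hm, hexp, -⟩ := char_expand (isCharacter_restrict hχ M)
  have h3 : (fun n : N => χ n) = ∑ ψ' : IrrCharacter M, (m ψ' : ℂ) • resT hNM (ψ' : M → ℂ) := by
    ext n
    have := congrFun hexp ⟨n, hNM n.2⟩
    rw [Finset.sum_apply] at this ⊢
    exact this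
  have h4 : ∀ ψ' : IrrCharacter M, ∃ k : ℕ, classInner (resT hNM (ψ' : M → ℂ)) θ = k := fun ψ' =>
    char_mult (resT_char hNM (irr_isCharacter ψ'.2)) (irr_isCharacter hθ)
  choose k hk using h4
  rw [h3, CharBasic.inner_sum_left, Finset.sum_congr rfl fun ψ' _ => by rw [CharBasic.inner_smul_left, hk]]
  intro h5
  have h6 : ∑ ψ' : IrrCharacter M, m ψ' * k ψ' = 0 := by exact_mod_cast h5
  have h7 := (Finset.sum_eq_zero_iff.mp h6) ⟨ψ, hψ⟩ (Finset.mem_univ _)
  rcases Nat.mul_eq_zero.mp h7 with h8 | h8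
  · apply h1
    have := hm ⟨ψ, hψ⟩
    rw [h8] at this
    simpa using this
  · apply h2
    have := hk ⟨ψ, hψ⟩
    rw [h8] at this
    simpa using this

variable {A : Type v} [Group A] [Finite A] (φ : A →* MulAut G)

/-- operators on the linear characters of a quotient -/
def linAct (M : Subgroup G) [hM : M.Normal] (hMA : ∀ a, ∀ n ∈ M, φ a n ∈ M) : A →* MulAut ((G ⧸ M) →* ℂˣ) where
  toFun a :=
    { toFun := fun l => l.comp (quotAct φ M hMA a⁻¹ : MulAut (G ⧸ M)).toMonoidHom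
      invFun := fun l => l.comp (quotAct φ M hMA a : MulAut (G ⧸ M)).toMonoidHom
      left_inv := fun l => by
        ext g
        change ((l (quotAct φ M hMA a⁻¹ (quotAct φ M hMA a (g : G ⧸ M))) : ℂˣ) : ℂ) = l (g : G ⧸ M)
        rw [inv_apply_apply]
      right_inv := fun l => by
        ext g
        change ((l (quotAct φ M hMA a (quotAct φ M hMA a⁻¹ (g : G ⧸ M))) : ℂˣ) : ℂ) = l (g : G ⧸ M)
        rw [apply_inv_apply]
      map_mul' := fun l l' => rfl }
  map_one' := by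
    ext l g
    change ((l (quotAct φ M hMA 1⁻¹ (g : G ⧸ M)) : ℂˣ) : ℂ) = l (g : G ⧸ M)
    rw [inv_one, map_one]; rfl
  map_mul' a b := by
    ext l g
    change ((l (quotAct φ M hMA (a * b)⁻¹ (g : G ⧸ M)) : ℂˣ) : ℂ) = l (quotAct φ M hMA b⁻¹ (quotAct φ M hMA a⁻¹ (g : G ⧸ M)))
    rw [mul_inv_rev, map_mul]; rfl

theorem linAct_apply (M : Subgroup G) [hM : M.Normal] (hMA : ∀ a, ∀ n ∈ M, φ a n ∈ M) (a : A) (l : (G ⧸ M) →* ℂˣ) (g : G) :
    linAct φ M hMA a l (g : G ⧸ M) = l ((φ a⁻¹ g : G) : G ⧸ M) := rfl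

variable (M : Subgroup G) [hM : M.Normal] [Fintype M] (hMA : ∀ a, ∀ n ∈ M, φ a n ∈ M) (A₀ : Subgroup A) [A₀.Normal]

theorem exists_inv_above_abelian (hcop : A₀.index.Coprime M.index) (hab : ∀ a b : G ⧸ M, a * b = b * a)
    (hin : ∀ a ∈ A₀, ∃ m ∈ M, ∀ g, φ a g = m * g * m⁻¹) {θ : M → ℂ} (hθ : IsIrrCharacter M θ)
    (hi : Inv (resHom φ M hMA) θ) :
    ∃ χ : G → ℂ, IsIrrCharacter G χ ∧ classInner (fun m : M => χ m) θ ≠ 0 ∧ Inv φ χ := by
  classical
  haveI : Finite ((G ⧸ M) →* ℂˣ) := by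
    have h1 := card_hom (G := G ⧸ M)
    apply Nat.finite_of_card_ne_zero
    rw [h1]
    exact Subgroup.index_ne_zero_of_finite
  have hB : Group.IsSolvable ((G ⧸ M) →* ℂˣ) := inferInstance
  have hcopB : A₀.index.Coprime (Nat.card ((G ⧸ M) →* ℂˣ)) := by
    rw [card_hom]
    refine Nat.Coprime.coprime_dvd_right ?_ hcop
    exact Subgroup.index_dvd_card _
  obtain ⟨χ0, hχ0, h0⟩ := exists_above M hθ
  have hquot : ∀ a ∈ A₀, quotAct φ M hMA a = 1 := by
    intro a ha
    obtain ⟨m, hm, hφ⟩ := hin a ha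
    ext q
    obtain ⟨g, rfl⟩ := QuotientGroup.mk_surjective q
    rw [quotAct_mk, hφ]
    change ((m * g * m⁻¹ : G) : G ⧸ M) = (g : G ⧸ M)
    have h1 : ((m : G) : G ⧸ M) = 1 := (QuotientGroup.eq_one_iff m).mpr hm
    rw [QuotientGroup.mk_mul, QuotientGroup.mk_mul, QuotientGroup.mk_inv, h1]
    simp
  obtain ⟨χ, h2, h3⟩ := glaub_fixed_quot (linAct φ M hMA) (Ω := IrrCharacter G)
    (fun a χ => ⟨(χ : G → ℂ) ∘ (φ a⁻¹), isIrrCharacter_comp_equiv χ.2 (φ a⁻¹)⟩)
    (fun l χ => ⟨fun g => (χ : G → ℂ) g * l (g : G ⧸ M), irr_mul_linear χ.2 (l.comp (QuotientGroup.mk' M))⟩)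
    (fun χ => by
      apply Subtype.ext; ext g
      change (χ : G → ℂ) (φ 1⁻¹ g) = (χ : G → ℂ) g
      rw [inv_one, map_one]; rfl)
    (fun a b χ => by
      apply Subtype.ext; ext g
      change (χ : G → ℂ) (φ (a * b)⁻¹ g) = (χ : G → ℂ) (φ b⁻¹ (φ a⁻¹ g))
      rw [mul_inv_rev, map_mul]; rfl)
    (fun χ => by
      apply Subtype.ext; ext g
      change (χ : G → ℂ) g * ((1 : (G ⧸ M) →* ℂˣ) (g : G ⧸ M) : ℂ) = _
      simp)
    (fun l l' χ => by
      apply Subtype.ext; ext g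
      change (χ : G → ℂ) g * ((l * l') (g : G ⧸ M) : ℂ) = (χ : G → ℂ) g * (l' (g : G ⧸ M)) * (l (g : G ⧸ M))
      rw [MonoidHom.mul_apply, Units.val_mul]; ring)
    (fun a l χ => by
      apply Subtype.ext; ext g
      change (χ : G → ℂ) (φ a⁻¹ g) * l ((φ a⁻¹ g : G) : G ⧸ M) = (χ : G → ℂ) (φ a⁻¹ g) * (linAct φ M hMA a l (g : G ⧸ M))
      rw [linAct_apply])
    A₀ hcopB (Or.inr hB)
    (fun a ha => by
      ext l g
      have h1 : quotAct φ M hMA a⁻¹ = 1 := hquot _ (A₀.inv_mem ha)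
      change ((l (quotAct φ M hMA a⁻¹ (g : G ⧸ M)) : ℂˣ) : ℂ) = l (g : G ⧸ M)
      rw [h1]; rfl)
    (fun a ha χ => by
      apply Subtype.ext; ext g
      obtain ⟨m, hm, hφ⟩ := hin a⁻¹ (A₀.inv_mem ha)
      change (χ : G → ℂ) (φ a⁻¹ g) = (χ : G → ℂ) g
      rw [hφ]
      exact irr_classFun χ.2 g m)
    {χ | classInner (fun m : M => (χ : G → ℂ) m) θ ≠ 0} ⟨⟨χ0, hχ0⟩, h0⟩
    (fun a χ hχ => by
      change classInner (fun m : M => (χ : G → ℂ) (φ a⁻¹ m)) θ ≠ 0
      have e1 : (fun m : M => (χ : G → ℂ) (φ a⁻¹ m)) = (fun m : M => (χ : G → ℂ) m) ∘ (resHom φ M hMA a⁻¹) := rfl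
      have e2 : θ = θ ∘ (resHom φ M hMA a⁻¹) := by ext m; exact (hi a⁻¹ m).symm
      rw [e1, e2, ci_equiv]
      exact hχ)
    (fun l χ hχ => by
      change classInner (fun m : M => (χ : G → ℂ) m * l ((m : G) : G ⧸ M)) θ ≠ 0
      have e1 : (fun m : M => (χ : G → ℂ) m * l ((m : G) : G ⧸ M)) = (fun m : M => (χ : G → ℂ) m) := by
        ext m
        rw [(QuotientGroup.eq_one_iff (m : G)).mpr m.2]; simp
      rw [e1]
      exact hχ)
    (fun χ hχ ψ hψ => by
      obtain ⟨l, hl⟩ := exists_linear_mul M hab χ.2 ψ.2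
        (inner_ne_zero_of_common (isCharacter_restrict (irr_isCharacter χ.2) M)
          (isCharacter_restrict (irr_isCharacter ψ.2) M) hθ hχ hψ)
      exact ⟨l, Subtype.ext hl⟩)
  refine ⟨χ, χ.2, h2, fun a g => ?_⟩
  have h4 := congrArg (fun χ : IrrCharacter G => (χ : G → ℂ) g) (h3 a⁻¹)
  change (χ : G → ℂ) (φ (a⁻¹)⁻¹ g) = (χ : G → ℂ) g at h4
  rwa [inv_inv] at h4

end Above2

section Above3

theorem exists_inv_above_aux (n : ℕ) : ∀ {G : Type u} [Group G] [Fintype G] {A : Type v} [Group A] [Finite A]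
    (φ : A →* MulAut G) (N : Subgroup G) [N.Normal] [Fintype N] (hNA : ∀ a, ∀ n ∈ N, φ a n ∈ N)
    (A₀ : Subgroup A) [A₀.Normal] (hn : N.index = n) (hcop : A₀.index.Coprime N.index)
    (hsolv : Group.IsSolvable (G ⧸ N)) (hin : ∀ a ∈ A₀, ∃ m ∈ N, ∀ g, φ a g = m * g * m⁻¹)
    {θ : N → ℂ} (hθ : IsIrrCharacter N θ) (hi : Inv (resHom φ N hNA) θ),
    ∃ χ : G → ℂ, IsIrrCharacter G χ ∧ classInner (fun m : N => χ m) θ ≠ 0 ∧ Inv φ χ := by
  induction n using Nat.strong_induction_on with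
  | _ n ih =>
    intro G _ _ A _ _ φ N _ _ hNA A₀ _ hn hcop hsolv hin θ hθ hi
    by_cases hcomm : commutator G ≤ N
    · refine exists_inv_above_abelian φ N hNA A₀ hcop ?_ hin hθ hi
      intro a b
      obtain ⟨a, rfl⟩ := QuotientGroup.mk_surjective a
      obtain ⟨b, rfl⟩ := QuotientGroup.mk_surjective b
      rw [← QuotientGroup.mk_mul, ← QuotientGroup.mk_mul, QuotientGroup.eq]
      apply hcomm
      have e : (a * b)⁻¹ * (b * a) = ⁅b⁻¹, a⁻¹⁆ := by
        rw [commutatorElement_def]; group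
      rw [e]
      exact Subgroup.commutator_mem_commutator (Subgroup.mem_top _) (Subgroup.mem_top _)
    · set M := N ⊔ commutator G with hMdef
      haveI hMn : M.Normal := Subgroup.sup_normal _ _
      have hNM : N ≤ M := le_sup_left
      haveI := Fintype.ofFinite M
      haveI := Fintype.ofFinite (N.subgroupOf M)
      have hMA : ∀ a, ∀ m ∈ M, φ a m ∈ M := by
        intro a
        have h1 : M ≤ M.comap (φ a).toMonoidHom := by
          rw [hMdef, sup_le_iff]
          constructor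
          · intro x hx
            exact Subgroup.mem_sup_left (hNA a x hx)
          · intro x hx
            refine Subgroup.mem_sup_right ?_
            have h2 : (commutator G).map (φ a).toMonoidHom ≤ commutator G := by
              rw [commutator_def, Subgroup.map_commutator]
              exact Subgroup.commutator_mono le_top le_top
            exact h2 ⟨x, hx, rfl⟩
        exact fun m hm => h1 hm
      have hMlt : M ≠ ⊤ := by
        intro htop
        -- then the derived subgroup of G/N is everything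
        have h1 : commutator (G ⧸ N) = ⊤ := by
          have h2 : (commutator G).map (QuotientGroup.mk' N) = commutator (G ⧸ N) := by
            rw [commutator_def, commutator_def, Subgroup.map_commutator, ← MonoidHom.range_eq_map,
              MonoidHom.range_eq_top.mpr (QuotientGroup.mk'_surjective N)]
          rw [← h2, eq_top_iff]
          intro q _
          obtain ⟨g, rfl⟩ := QuotientGroup.mk'_surjective N q
          have hg : g ∈ M := by rw [htop]; trivial
          rw [hMdef] at hg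
          obtain ⟨x, hx, y, hy, rfl⟩ := Subgroup.mem_sup_of_normal_left.mp hg
          refine ⟨y, hy, ?_⟩
          rw [map_mul]
          have : QuotientGroup.mk' N x = 1 := (QuotientGroup.eq_one_iff x).mpr hx
          rw [this, one_mul]
        by_cases hnt : Nontrivial (G ⧸ N)
        · exact absurd h1 (Group.IsSolvable.commutator_lt_top_of_nontrivial (G ⧸ N)).ne
        · apply hcomm
          rw [not_nontrivial_iff_subsingleton] at hnt
          intro x _
          rw [← QuotientGroup.eq_one_iff]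
          exact Subsingleton.elim _ _
      have hidx : N.relIndex M < n := by
        have h1 := Subgroup.relIndex_mul_index hNM
        have h2 : 1 < M.index := by
          rcases Nat.lt_or_ge 1 M.index with h | h
          · exact h
          · exfalso
            apply hMlt
            rw [← Subgroup.index_eq_one]
            have : M.index ≠ 0 := Subgroup.index_ne_zero_of_finite
            omega
        have h3 : N.relIndex M ≠ 0 := by
          intro h0
          rw [h0, zero_mul] at h1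
          exact Subgroup.index_ne_zero_of_finite h1.symm
        rw [← hn, ← h1]
        have : 0 < N.relIndex M := Nat.pos_of_ne_zero h3
        nlinarith
      obtain ⟨ψ, hψ, hψ1, hψi⟩ := ih (N.relIndex M) hidx (resHom φ M hMA) (N.subgroupOf M)
        (fun a x hx => by
          rw [Subgroup.mem_subgroupOf] at hx ⊢
          exact hNA a x hx) A₀ rfl
        (Nat.Coprime.coprime_dvd_right (Subgroup.relIndex_dvd_index_of_normal N M) hcop)
        (by
          have hle : N.subgroupOf M ≤ N.comap M.subtype := le_refl _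
          have hinj : Function.Injective (QuotientGroup.map (N.subgroupOf M) N M.subtype hle) := by
            rw [injective_iff_map_eq_one]
            intro q hq
            obtain ⟨g, rfl⟩ := QuotientGroup.mk_surjective q
            rw [QuotientGroup.map_mk, QuotientGroup.eq_one_iff] at hq
            rw [QuotientGroup.eq_one_iff]
            exact hq
          exact Group.isSolvable_of_isSolvable_injective hinj)
        (fun a ha => by
          obtain ⟨m, hm, h⟩ := hin a ha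
          exact ⟨⟨m, hNM hm⟩, Subgroup.mem_subgroupOf.mpr hm, fun g => Subtype.ext (h g)⟩)
        (θ := toSub M θ) ((toSub_irr hNM).mpr hθ) (fun a x => hi a ⟨((x : M) : G), Subgroup.mem_subgroupOf.mp x.2⟩)
      obtain ⟨χ, hχ, hχ1, hχi⟩ := exists_inv_above_abelian φ M hMA A₀
        (Nat.Coprime.coprime_dvd_right (Subgroup.index_dvd_of_le hNM) hcop)
        (by
          intro a b
          obtain ⟨a, rfl⟩ := QuotientGroup.mk_surjective a
          obtain ⟨b, rfl⟩ := QuotientGroup.mk_surjective b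
          rw [← QuotientGroup.mk_mul, ← QuotientGroup.mk_mul, QuotientGroup.eq]
          apply Subgroup.mem_sup_right
          have e : (a * b)⁻¹ * (b * a) = ⁅b⁻¹, a⁻¹⁆ := by
            rw [commutatorElement_def]; group
          rw [e]
          exact Subgroup.commutator_mem_commutator (Subgroup.mem_top _) (Subgroup.mem_top _))
        (fun a ha => by
          obtain ⟨m, hm, h⟩ := hin a ha
          exact ⟨m, hNM hm, h⟩) hψ hψi
      refine ⟨χ, hχ, mult_trans hNM (irr_isCharacter hχ) hψ hθ hχ1 ?_, hχi⟩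
      rw [← ci_toSub hNM]
      exact hψ1

/-- invariant characters over an invariant character, solvable quotient; `A₀` acts through inner automorphisms by `N` -/
theorem exists_inv_above {G : Type u} [Group G] [Fintype G] {A : Type v} [Group A] [Finite A]
    (φ : A →* MulAut G) (N : Subgroup G) [N.Normal] [Fintype N] (hNA : ∀ a, ∀ n ∈ N, φ a n ∈ N)
    (A₀ : Subgroup A) [A₀.Normal] (hcop : A₀.index.Coprime N.index)
    (hsolv : Group.IsSolvable (G ⧸ N)) (hin : ∀ a ∈ A₀, ∃ m ∈ N, ∀ g, φ a g = m * g * m⁻¹)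
    {θ : N → ℂ} (hθ : IsIrrCharacter N θ) (hi : Inv (resHom φ N hNA) θ) :
    ∃ χ : G → ℂ, IsIrrCharacter G χ ∧ classInner (fun m : N => χ m) θ ≠ 0 ∧ Inv φ χ :=
  exists_inv_above_aux _ φ N hNA A₀ rfl hcop hsolv hin hθ hi

end Above3

section Conv
variable {Γ : Type u} [Group Γ] (G S N : Subgroup Γ) (hnorm : ∀ s ∈ S, ∀ g ∈ G, s * g * s⁻¹ ∈ G)
  (hNS : ∀ s ∈ S, ∀ n ∈ N, s * n * s⁻¹ ∈ N)

include hNS in
theorem conj_mem_subgroupOf : ∀ a, ∀ n ∈ N.subgroupOf G, GlaubG.conjHom G S hnorm a n ∈ N.subgroupOf G := by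
  intro a n hn
  rw [Subgroup.mem_subgroupOf] at hn ⊢
  exact hNS a a.2 n hn

theorem inv_toSub_iff (hNG : N ≤ G) (θ : N → ℂ) :
    Inv (resHom (GlaubG.conjHom G S hnorm) (N.subgroupOf G) (conj_mem_subgroupOf G S N hnorm hNS)) (toSub G θ) ↔
      ∀ s ∈ S, ∀ g g' : N, (g' : Γ) = s * g * s⁻¹ → θ g' = θ g := by
  constructor
  · intro h s hs g g' hg
    have h1 := h ⟨s, hs⟩ ⟨⟨g, hNG g.2⟩, Subgroup.mem_subgroupOf.mpr g.2⟩
    have e1 : toSub G θ (resHom (GlaubG.conjHom G S hnorm) (N.subgroupOf G) (conj_mem_subgroupOf G S N hnorm hNS) ⟨s, hs⟩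
        ⟨⟨g, hNG g.2⟩, Subgroup.mem_subgroupOf.mpr g.2⟩) = θ g' := by
      change θ ⟨_, _⟩ = θ g'
      congr 1
      exact Subtype.ext hg.symm
    rw [e1] at h1
    exact h1
  · intro h s x
    exact h s s.2 ⟨((x : G) : Γ), Subgroup.mem_subgroupOf.mp x.2⟩ _ rfl

end Conv
end CfsgLib.Glaub4
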