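import Mathlib
import Cfsg.Agent.LibExc
import Cfsg.Agent.LibCharBasic3
import Cfsg.Agent.LibGlaub4

/-! Characters of small degree and Sylow subgroups with uniform centralizers (Brauer-Leonard), part 1 (seat helper20). -/

set_option autoImplicit false
set_option linter.all false

namespace CfsgLib.BrLeon

open Cfsg CfsgLib.CharBasic CfsgLib.CharIndA CfsgLib.Clifford CfsgLib.CharNorm CfsgLib.CharMore CfsgLib.Exc Subgroup
open scoped ComplexConjugate

universe u v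

theorem central_hom {C : Type u} [Group C] [Fintype C] {Z : Type v} [Group Z] (ι : Z →* C)
    (hι : ∀ z c, ι z * c = c * ι z) {χ : C → ℂ} (hχ : IsIrrCharacter C χ) :
    ∃ l : Z →* ℂˣ, ∀ z c, χ (ι z * c) = (l z : ℂ) * χ c := by
  have h1 : χ 1 ≠ 0 := irr_one_ne_zero hχ
  have h2 : ∀ z, ∃ ω : ℂ, ∀ c, χ (ι z * c) = ω * χ c := by
    intro z
    obtain ⟨n, ρ, hρ, rfl⟩ := hχ
    obtain ⟨ω, hω⟩ := schur_scalar ρ (ρ (ι z)) (by
      intro g v
      rw [← Module.End.mul_apply, ← Module.End.mul_apply, ← map_mul, ← map_mul, hι])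
    refine ⟨ω, fun c => ?_⟩
    rw [Representation.character, map_mul, hω, Representation.character, smul_mul_assoc, map_smul, smul_eq_mul]
    rfl
  choose ω hω using h2
  let f : Z →* ℂ :=
    { toFun := ω
      map_one' := by
        have h3 := hω 1 1
        rw [map_one, one_mul] at h3
        exact mul_right_cancel₀ h1 (by rw [one_mul]; exact h3.symm)
      map_mul' := fun a b => by
        have h3 := hω (a * b) 1
        have h4 : χ (ι (a * b) * 1) = ω a * (ω b * χ 1) := by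
          rw [map_mul, mul_assoc, hω a, hω b]
        rw [h4, ← mul_assoc] at h3
        exact (mul_right_cancel₀ h1 h3).symm }
  refine ⟨f.toHomUnits, fun z c => ?_⟩
  rw [MonoidHom.coe_toHomUnits]
  exact hω z c

variable {G : Type u} [Group G] [Fintype G]

/-- the configuration -/
structure Cfg (P C N : Subgroup G) (π : C →* P) : Prop where
  hPC : P ≤ C
  hCN : C ≤ N
  cen : ∀ y ∈ P, ∀ c ∈ C, y * c = c * y
  ret : ∀ c : C, (c : G) ∈ P → (π c : G) = c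
  conjC : ∀ x ∈ N, ∀ c ∈ C, x * c * x⁻¹ ∈ C
  conjP : ∀ x ∈ N, ∀ c ∈ P, x * c * x⁻¹ ∈ P
  conjπ : ∀ x ∈ N, ∀ c c' : C, (c' : G) = x * c * x⁻¹ → (π c' : G) = x * π c * x⁻¹
  free : ∀ x ∈ N, ∀ y ∈ P, y ≠ 1 → x * y = y * x → x ∈ C
  ti : ∀ x : G, ∀ c c' : C, (c' : G) = x * c * x⁻¹ → π c ≠ 1 → π c' ≠ 1 → x ∈ N

variable {P C N : Subgroup G} {π : C →* P} [Fintype C]

namespace Cfg

/-- conjugation on `C` -/
def sg (h : Cfg P C N π) (x : N) : C ≃* C where
  toFun c := ⟨x * c * (x : G)⁻¹, h.conjC x x.2 c c.2⟩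
  invFun c := ⟨(x : G)⁻¹ * c * x, by
    have := h.conjC (x : G)⁻¹ (inv_mem x.2) c c.2
    rwa [inv_inv] at this⟩
  left_inv c := Subtype.ext (by show (x : G)⁻¹ * (x * c * (x : G)⁻¹) * x = c; group)
  right_inv c := Subtype.ext (by show (x : G) * ((x : G)⁻¹ * c * x) * (x : G)⁻¹ = c; group)
  map_mul' a b := Subtype.ext (by show (x : G) * (a * b) * (x : G)⁻¹ = (x * a * (x : G)⁻¹) * (x * b * (x : G)⁻¹); group)

theorem sg_coe (h : Cfg P C N π) (x : N) (c : C) : (h.sg x c : G) = x * c * (x : G)⁻¹ := rfl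

theorem sg_mul (h : Cfg P C N π) (x y : N) (c : C) : h.sg (x * y) c = h.sg x (h.sg y c) :=
  Subtype.ext (by rw [sg_coe, sg_coe, sg_coe, Subgroup.coe_mul]; group)

theorem sg_one (h : Cfg P C N π) (c : C) : h.sg 1 c = c :=
  Subtype.ext (by rw [sg_coe, Subgroup.coe_one]; group)

/-- the action of `N` on the irreducible characters of `C` -/
def ac (h : Cfg P C N π) (x : N) (ψ : IrrCharacter C) : IrrCharacter C :=
  ⟨(ψ : C → ℂ) ∘ h.sg x⁻¹, isIrrCharacter_comp_equiv ψ.2 _⟩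

theorem ac_apply (h : Cfg P C N π) (x : N) (ψ : IrrCharacter C) (c : C) :
    ((h.ac x ψ : IrrCharacter C) : C → ℂ) c = (ψ : C → ℂ) (h.sg x⁻¹ c) := rfl

theorem ac_mul (h : Cfg P C N π) (x y : N) (ψ : IrrCharacter C) : h.ac (x * y) ψ = h.ac x (h.ac y ψ) := by
  apply Subtype.ext
  funext c
  rw [ac_apply, ac_apply, ac_apply, mul_inv_rev, sg_mul]

theorem ac_one (h : Cfg P C N π) (ψ : IrrCharacter C) : h.ac 1 ψ = ψ := by
  apply Subtype.ext
  funext c
  rw [ac_apply, inv_one, sg_one]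

/-- the action -/
@[reducible] def act (h : Cfg P C N π) : MulAction N (IrrCharacter C) where
  smul x ψ := h.ac x ψ
  one_smul ψ := h.ac_one ψ
  mul_smul x y ψ := h.ac_mul x y ψ

theorem cl_trivial (h : Cfg P C N π) {x : N} (hx : (x : G) ∈ C) (ψ : IrrCharacter C) : h.ac x ψ = ψ := by
  apply Subtype.ext
  funext c
  rw [ac_apply]
  have h1 : h.sg x⁻¹ c = (⟨x, hx⟩ : C)⁻¹ * c * ((⟨x, hx⟩ : C)⁻¹)⁻¹ := Subtype.ext (by
    rw [sg_coe, Subgroup.coe_inv, Subgroup.coe_mul, Subgroup.coe_mul, Subgroup.coe_inv, Subgroup.coe_inv, Subgroup.coe_inv])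
  rw [h1]
  exact irr_classFun ψ.2 _ _

/-- inclusion -/
def inc (h : Cfg P C N π) : P →* C := Subgroup.inclusion h.hPC

theorem inc_coe (h : Cfg P C N π) (y : P) : (h.inc y : G) = y := rfl

theorem exists_lam (h : Cfg P C N π) (ψ : IrrCharacter C) :
    ∃ l : P →* ℂˣ, ∀ y c, (ψ : C → ℂ) (h.inc y * c) = (l y : ℂ) * (ψ : C → ℂ) c :=
  central_hom h.inc (fun y c => Subtype.ext (h.cen y y.2 c c.2)) ψ.2

/-- the central character -/
noncomputable def lam (h : Cfg P C N π) (ψ : IrrCharacter C) : P →* ℂˣ := (h.exists_lam ψ).choose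

theorem lam_spec (h : Cfg P C N π) (ψ : IrrCharacter C) (y : P) (c : C) :
    (ψ : C → ℂ) (h.inc y * c) = (h.lam ψ y : ℂ) * (ψ : C → ℂ) c := (h.exists_lam ψ).choose_spec y c

theorem lam_unique (h : Cfg P C N π) (ψ : IrrCharacter C) (l : P →* ℂˣ)
    (hl : ∀ y, (ψ : C → ℂ) (h.inc y) = (l y : ℂ) * (ψ : C → ℂ) 1) : h.lam ψ = l := by
  apply MonoidHom.ext
  intro y
  apply Units.ext
  have h1 := h.lam_spec ψ y 1
  rw [mul_one, hl y] at h1
  exact (mul_right_cancel₀ (irr_one_ne_zero ψ.2) h1).symm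

/-- twist -/
noncomputable def tw (h : Cfg P C N π) (μ : P →* ℂˣ) (ψ : IrrCharacter C) : IrrCharacter C :=
  ⟨fun c => (ψ : C → ℂ) c * ((μ.comp π) c : ℂ), CfsgLib.Glaub4.irr_mul_linear ψ.2 (μ.comp π)⟩

theorem tw_apply (h : Cfg P C N π) (μ : P →* ℂˣ) (ψ : IrrCharacter C) (c : C) :
    ((h.tw μ ψ : IrrCharacter C) : C → ℂ) c = (ψ : C → ℂ) c * (μ (π c) : ℂ) := rfl

theorem pi_inc (h : Cfg P C N π) (y : P) : π (h.inc y) = y := Subtype.ext (h.ret _ y.2)

theorem tw_ker (h : Cfg P C N π) (μ : P →* ℂˣ) (ψ : IrrCharacter C) (c : C) (hc : π c = 1) :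
    ((h.tw μ ψ : IrrCharacter C) : C → ℂ) c = (ψ : C → ℂ) c := by
  rw [tw_apply, hc, map_one, Units.val_one, mul_one]

theorem tw_one (h : Cfg P C N π) (μ : P →* ℂˣ) (ψ : IrrCharacter C) :
    ((h.tw μ ψ : IrrCharacter C) : C → ℂ) 1 = (ψ : C → ℂ) 1 := h.tw_ker μ ψ 1 (map_one π)

theorem tw_tw (h : Cfg P C N π) (μ ν : P →* ℂˣ) (ψ : IrrCharacter C) : h.tw μ (h.tw ν ψ) = h.tw (ν * μ) ψ := by
  apply Subtype.ext; funext c
  rw [tw_apply, tw_apply, tw_apply, MonoidHom.mul_apply, Units.val_mul, mul_assoc]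

theorem tw_id (h : Cfg P C N π) (ψ : IrrCharacter C) : h.tw 1 ψ = ψ := by
  apply Subtype.ext; funext c
  rw [tw_apply, MonoidHom.one_apply, Units.val_one, mul_one]

theorem lam_tw (h : Cfg P C N π) (μ : P →* ℂˣ) (ψ : IrrCharacter C) : h.lam (h.tw μ ψ) = h.lam ψ * μ := by
  apply lam_unique
  intro y
  have h1 := h.lam_spec ψ y 1
  rw [mul_one] at h1
  rw [tw_apply, tw_one, pi_inc, h1, MonoidHom.mul_apply, Units.val_mul]
  ring

/-- conjugation on `P` -/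
def cp (h : Cfg P C N π) (x : N) (y : P) : P := ⟨(x : G)⁻¹ * y * x, by
    have := h.conjP (x : G)⁻¹ (inv_mem x.2) y y.2
    rwa [inv_inv] at this⟩

theorem cp_coe (h : Cfg P C N π) (x : N) (y : P) : (h.cp x y : G) = (x : G)⁻¹ * y * x := rfl

theorem lam_ac (h : Cfg P C N π) (x : N) (ψ : IrrCharacter C) (y : P) : h.lam (h.ac x ψ) y = h.lam ψ (h.cp x y) := by
  apply Units.ext
  have h1 := h.lam_spec (h.ac x ψ) y 1
  rw [mul_one] at h1
  have h2 := h.lam_spec ψ (h.cp x y) 1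
  rw [mul_one] at h2
  have h3 : h.sg x⁻¹ (h.inc y) = h.inc (h.cp x y) := Subtype.ext (by
    rw [sg_coe, inc_coe, inc_coe, cp_coe, Subgroup.coe_inv, inv_inv])
  rw [ac_apply, ac_apply, h3, h2, map_one] at h1
  exact (mul_right_cancel₀ (irr_one_ne_zero ψ.2) h1).symm

theorem comm (h : Cfg P C N π) (y z : P) : y * z = z * y := Subtype.ext (h.cen y y.2 z (h.hPC z.2))

theorem mem_of_fix (h : Cfg P C N π) {x : N} {l : P →* ℂˣ} (hl : l ≠ 1) (hfix : ∀ y, l (h.cp x y) = l y) : (x : G) ∈ C := by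
  by_contra hx
  apply hl
  let f : P →* P :=
    { toFun := fun y => y⁻¹ * h.cp x y
      map_one' := Subtype.ext (by simp [cp_coe])
      map_mul' := fun y z => by
        have h1 : h.cp x (y * z) = h.cp x y * h.cp x z := Subtype.ext (by
          rw [cp_coe, Subgroup.coe_mul, Subgroup.coe_mul, cp_coe, cp_coe]; group)
        rw [h1, mul_inv_rev]
        calc z⁻¹ * y⁻¹ * (h.cp x y * h.cp x z) = z⁻¹ * (y⁻¹ * h.cp x y) * h.cp x z := by group
          _ = (y⁻¹ * h.cp x y) * z⁻¹ * h.cp x z := by rw [h.comm z⁻¹]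
          _ = _ := by group }
  have hf : ∀ y, f y = y⁻¹ * h.cp x y := fun y => rfl
  have hinj : Function.Injective f := by
    rw [injective_iff_map_eq_one]
    intro y hy
    by_contra hne
    apply hx
    apply h.free x x.2 y y.2 (fun h2 => hne (Subtype.ext h2))
    rw [hf, inv_mul_eq_one] at hy
    have h3 := congrArg Subtype.val hy
    rw [cp_coe] at h3
    calc (x : G) * y = x * ((x : G)⁻¹ * y * x) := by rw [← h3]
      _ = y * x := by group
  haveI : Finite P := inferInstance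
  have hsurj : Function.Surjective f := Finite.injective_iff_surjective.mp hinj
  apply MonoidHom.ext
  intro z
  obtain ⟨y, rfl⟩ := hsurj z
  rw [hf, map_mul, map_inv, hfix, inv_mul_cancel, MonoidHom.one_apply]

theorem mem_of_ac (h : Cfg P C N π) {x : N} {ψ : IrrCharacter C} (hl : h.lam ψ ≠ 1) (hfix : h.ac x ψ = ψ) : (x : G) ∈ C :=
  h.mem_of_fix hl (fun y => by rw [← lam_ac, hfix])

theorem lam_ac_eq_one (h : Cfg P C N π) (x : N) {ψ : IrrCharacter C} (hl : h.lam ψ = 1) : h.lam (h.ac x ψ) = 1 := by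
  apply MonoidHom.ext
  intro y
  rw [lam_ac, hl, MonoidHom.one_apply, MonoidHom.one_apply]

theorem ac_inv (h : Cfg P C N π) {x : N} {ψ ψ' : IrrCharacter C} (hh : h.ac x ψ = ψ') : h.ac x⁻¹ ψ' = ψ := by
  rw [← hh, ← ac_mul, inv_mul_cancel, ac_one]

theorem lam_ac_ne_one (h : Cfg P C N π) (x : N) {ψ : IrrCharacter C} (hl : h.lam ψ ≠ 1) : h.lam (h.ac x ψ) ≠ 1 := by
  intro h1
  apply hl
  have h2 := h.lam_ac_eq_one x⁻¹ h1
  rwa [← ac_mul, inv_mul_cancel, ac_one] at h2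

/-- number of elements moving `ψ` to `ψ'` -/
noncomputable def Kn (h : Cfg P C N π) (ψ ψ' : IrrCharacter C) : ℕ := Nat.card {x : N // h.ac x ψ = ψ'}

theorem kn_conj (h : Cfg P C N π) {ψ ψ' : IrrCharacter C} (hl : h.lam ψ ≠ 1) {x₀ : N} (hx : h.ac x₀ ψ = ψ') :
    h.Kn ψ ψ' = Nat.card C := by
  unfold Kn
  apply Nat.card_congr
  refine ⟨fun x => ⟨(x₀ : G)⁻¹ * (x.1 : G), ?_⟩, fun c => ⟨⟨x₀ * c, mul_mem x₀.2 (h.hCN c.2)⟩, ?_⟩, fun x => ?_, fun c => ?_⟩
  · have h1 : h.ac (x₀⁻¹ * x.1) ψ = ψ := by rw [ac_mul, x.2]; exact h.ac_inv hx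
    exact h.mem_of_ac hl h1
  · have h1 : (⟨x₀ * c, mul_mem x₀.2 (h.hCN c.2)⟩ : N) = x₀ * ⟨c, h.hCN c.2⟩ := rfl
    rw [h1, ac_mul, h.cl_trivial (x := ⟨c, h.hCN c.2⟩) c.2 ψ, hx]
  · apply Subtype.ext; apply Subtype.ext
    show (x₀ : G) * ((x₀ : G)⁻¹ * (x.1 : G)) = x.1
    rw [mul_inv_cancel_left]
  · apply Subtype.ext
    show (x₀ : G)⁻¹ * ((x₀ : G) * (c : G)) = c
    rw [inv_mul_cancel_left]

theorem kn_zero (h : Cfg P C N π) {ψ ψ' : IrrCharacter C} (hno : ∀ x, h.ac x ψ ≠ ψ') : h.Kn ψ ψ' = 0 := by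
  unfold Kn
  rw [Nat.card_eq_zero]
  exact Or.inl ⟨fun x => hno x.1 x.2⟩

theorem kn_zero' (h : Cfg P C N π) {ψ ψ' : IrrCharacter C} (hno : ∀ x, h.ac x ψ' ≠ ψ) : h.Kn ψ ψ' = 0 :=
  h.kn_zero fun x hx => hno x⁻¹ (h.ac_inv hx)

theorem kn_self (h : Cfg P C N π) {ψ : IrrCharacter C} (hl : h.lam ψ ≠ 1) : h.Kn ψ ψ = Nat.card C :=
  h.kn_conj hl (h.ac_one ψ)

/-- the principal character of `C` -/
noncomputable def on (h : Cfg P C N π) : IrrCharacter C := ⟨fun _ => 1, isIrrCharacter_one⟩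

theorem ac_on (h : Cfg P C N π) (x : N) : h.ac x h.on = h.on := rfl

theorem kn_on (h : Cfg P C N π) : h.Kn h.on h.on = Nat.card N := by
  unfold Kn
  apply Nat.card_congr
  exact ⟨fun x => x.1, fun x => ⟨x, h.ac_on x⟩, fun x => rfl, fun x => rfl⟩

theorem lam_on (h : Cfg P C N π) : h.lam h.on = 1 := by
  apply lam_unique
  intro y
  rw [MonoidHom.one_apply, Units.val_one, one_mul]; rfl

theorem ind_inner (h : Cfg P C N π) [Fintype N] {f k : C → ℂ} (hf : ∀ c, π c = 1 → f c = 0) (hk : ∀ c, π c = 1 → k c = 0) :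
    (Nat.card C : ℂ) * classInner (indFun C f) (indFun C k) = ∑ x : N, classInner f (fun c => k (h.sg x⁻¹ c)) := by
  classical
  have hC : (Nat.card C : ℂ) ≠ 0 := by exact_mod_cast Nat.card_pos.ne'
  rw [frobenius C f (ind_classFun C k)]
  have h1 : ∀ c : C, π c ≠ 1 → indFun C k c = (Nat.card C : ℂ)⁻¹ * ∑ x : N, k (h.sg x⁻¹ c) := by
    intro c hc
    rw [ind_apply]
    congr 1
    have h2 : ∀ x : G, extendByZero C k (x⁻¹ * c * x) = if x ∈ N then extendByZero C k (x⁻¹ * c * x) else 0 := by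
      intro x
      split_ifs with hx
      · rfl
      · by_cases hm : x⁻¹ * c * x ∈ C
        · rw [ext_mem C k hm]
          apply hk
          by_contra hne
          apply hx
          have h3 := h.ti x⁻¹ c ⟨_, hm⟩ (by rw [inv_inv]) hc hne
          rwa [inv_mem_iff] at h3
        · exact ext_not_mem C k hm
    rw [Finset.sum_congr rfl fun x _ => h2 x, ← Finset.sum_filter]
    rw [Finset.sum_subtype (p := fun x => x ∈ N) _ (fun x => by simp)]
    refine Finset.sum_congr rfl fun x _ => ?_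
    have hm : (x : G)⁻¹ * c * x ∈ C := by
      have := h.conjC (x : G)⁻¹ (inv_mem x.2) c c.2
      rwa [inv_inv] at this
    rw [ext_mem C k hm]
    congr 1
    exact Subtype.ext (by rw [sg_coe, Subgroup.coe_inv, inv_inv])
  have h2 : classInner f (fun c : C => indFun C k c) = (Nat.card C : ℂ)⁻¹ * ∑ c : C, f c * conj ((Nat.card C : ℂ)⁻¹ * ∑ x : N, k (h.sg x⁻¹ c)) := by
    unfold classInner
    congr 1
    refine Finset.sum_congr rfl fun c _ => ?_
    by_cases hc : π c = 1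
    · rw [hf c hc, zero_mul, zero_mul]
    · rw [h1 c hc]
  rw [h2, ← mul_assoc, mul_inv_cancel₀ hC, one_mul]
  unfold classInner
  simp only [map_mul, map_inv₀, Complex.conj_natCast, map_sum, Finset.mul_sum]
  rw [Finset.sum_comm]
  refine Finset.sum_congr rfl fun x _ => Finset.sum_congr rfl fun c _ => ?_
  ring

open Classical in
theorem inner_ite (ψ ψ' : IrrCharacter C) : classInner (ψ : C → ℂ) (ψ' : C → ℂ) = if ψ = ψ' then 1 else 0 := by
  rw [irr_inner_ite ψ.2 ψ'.2]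
  simp only [Subtype.ext_iff]

theorem sum_kn (h : Cfg P C N π) [Fintype N] (ψ ψ' : IrrCharacter C) :
    ∑ x : N, classInner (ψ : C → ℂ) ((h.ac x ψ' : IrrCharacter C) : C → ℂ) = h.Kn ψ' ψ := by
  classical
  rw [Finset.sum_congr rfl fun x _ => inner_ite ψ (h.ac x ψ'), Finset.sum_boole]
  unfold Kn
  rw [Nat.card_eq_fintype_card, Fintype.card_subtype]
  congr 2
  ext x
  simp only [Finset.mem_filter, Finset.mem_univ, true_and, eq_comm]

theorem rel (h : Cfg P C N π) [Fintype N] (ψ₁ ψ₁' ψ₂ ψ₂' : IrrCharacter C)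
    (h₁ : ∀ c, π c = 1 → (ψ₁' : C → ℂ) c = (ψ₁ : C → ℂ) c) (h₂ : ∀ c, π c = 1 → (ψ₂' : C → ℂ) c = (ψ₂ : C → ℂ) c) :
    (Nat.card C : ℂ) * classInner (indFun C ((ψ₁ : C → ℂ) - ψ₁')) (indFun C ((ψ₂ : C → ℂ) - ψ₂')) =
      h.Kn ψ₂ ψ₁ - h.Kn ψ₂' ψ₁ - h.Kn ψ₂ ψ₁' + h.Kn ψ₂' ψ₁' := by
  rw [h.ind_inner (fun c hc => by rw [Pi.sub_apply, h₁ c hc, sub_self]) (fun c hc => by rw [Pi.sub_apply, h₂ c hc, sub_self])]
  have h3 : ∀ x : N, classInner ((ψ₁ : C → ℂ) - (ψ₁' : C → ℂ)) (fun c => ((ψ₂ : C → ℂ) - (ψ₂' : C → ℂ)) (h.sg x⁻¹ c)) =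
      classInner (ψ₁ : C → ℂ) ((h.ac x ψ₂ : IrrCharacter C) : C → ℂ) - classInner (ψ₁ : C → ℂ) ((h.ac x ψ₂' : IrrCharacter C) : C → ℂ)
      - classInner (ψ₁' : C → ℂ) ((h.ac x ψ₂ : IrrCharacter C) : C → ℂ) + classInner (ψ₁' : C → ℂ) ((h.ac x ψ₂' : IrrCharacter C) : C → ℂ) := by
    intro x
    have h4 : (fun c => ((ψ₂ : C → ℂ) - (ψ₂' : C → ℂ)) (h.sg x⁻¹ c)) = ((h.ac x ψ₂ : IrrCharacter C) : C → ℂ) - ((h.ac x ψ₂' : IrrCharacter C) : C → ℂ) := rfl
    rw [h4, ci_sub_l, ci_sub_r, ci_sub_r]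
    ring
  rw [Finset.sum_congr rfl fun x _ => h3 x, Finset.sum_add_distrib, Finset.sum_sub_distrib, Finset.sum_sub_distrib,
    h.sum_kn, h.sum_kn, h.sum_kn, h.sum_kn]

/-! ### multiplicities -/

theorem exists_A (χ : {f : G → ℂ // IsCharacter G f}) (ψ : IrrCharacter C) :
    ∃ n : ℕ, classInner (fun c : C => χ.1 c) (ψ : C → ℂ) = n :=
  (isCharacter_iff.mp (isCharacter_restrict χ.2 C)).2 _ ψ.2

/-- multiplicity of `ψ` in the restriction of the character `χ` -/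
noncomputable def A (χ : {f : G → ℂ // IsCharacter G f}) (ψ : IrrCharacter C) : ℕ := (exists_A χ ψ).choose

theorem A_spec (χ : {f : G → ℂ // IsCharacter G f}) (ψ : IrrCharacter C) :
    classInner (fun c : C => χ.1 c) (ψ : C → ℂ) = A χ ψ := (exists_A χ ψ).choose_spec

/-- irreducible characters are characters -/
def ic (φ : IrrCharacter G) : {f : G → ℂ // IsCharacter G f} := ⟨φ, CfsgLib.CharBasic.irr_isCharacter φ.2⟩

theorem A_ac (h : Cfg P C N π) (χ : {f : G → ℂ // IsCharacter G f}) (x : N) (ψ : IrrCharacter C) : A χ (h.ac x ψ) = A χ ψ := by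
  have h1 := A_spec χ (h.ac x ψ)
  have h2 := A_spec χ ψ
  have h3 : classInner (fun c : C => χ.1 c) ((h.ac x ψ : IrrCharacter C) : C → ℂ) = classInner (fun c : C => χ.1 c) (ψ : C → ℂ) := by
    unfold classInner
    congr 1
    refine Fintype.sum_equiv (h.sg x⁻¹).toEquiv _ _ fun c => ?_
    have h4 : χ.1 (h.sg x⁻¹ c : G) = χ.1 c := by
      rw [sg_coe]
      exact char_classFun χ.2 _ _
    show χ.1 (c : G) * conj ((ψ : C → ℂ) (h.sg x⁻¹ c)) = χ.1 (h.sg x⁻¹ c : G) * conj ((ψ : C → ℂ) (h.sg x⁻¹ c))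
    rw [h4]
  rw [h1, h2] at h3
  exact_mod_cast h3

theorem restrict_eq (χ : {f : G → ℂ // IsCharacter G f}) :
    (fun c : C => χ.1 c) = ∑ ψ : IrrCharacter C, (A χ ψ : ℂ) • (ψ : C → ℂ) := by
  have h1 := classFun_expand (char_classFun (isCharacter_restrict χ.2 C))
  rw [h1]
  refine Finset.sum_congr rfl fun ψ _ => ?_
  rw [A_spec]

/-- the multiplicity of `φ` in an induced difference -/
theorem ind_coef (φ : IrrCharacter G) (ψ ψ' : IrrCharacter C) :
    classInner (indFun C ((ψ : C → ℂ) - ψ')) (φ : G → ℂ) = (A (ic φ) ψ : ℂ) - A (ic φ) ψ' := by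
  rw [frobenius C _ (irr_classFun φ.2), ci_sub_l]
  have h1 : ∀ ψ : IrrCharacter C, classInner (ψ : C → ℂ) (fun c : C => (φ : G → ℂ) c) = A (ic φ) ψ := by
    intro ψ
    rw [← ci_conj]
    have h2 := A_spec (ic φ) ψ
    rw [show (fun c : C => (φ : G → ℂ) c) = (fun c : C => (ic φ).1 c) from rfl, h2]
    simp
  rw [h1, h1]

end Cfg
end CfsgLib.BrLeon
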