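import Mathlib
import Cfsg.Agent.EqBase
import Cfsg.Agent.LibBrP10
import Cfsg.Agent.LibBlockOrth

/-!
# Brauer pairs, XII: exact identities of block idempotents over ℂ (helper18)
-/

set_option autoImplicit false
set_option linter.unusedSectionVars false
set_option linter.style.haveILetI false
set_option linter.unusedSimpArgs false
set_option linter.unusedVariables false

namespace CfsgLib.BrP

open Cfsg CfsgLib.LocR CfsgLib.BlockCore CfsgLib.BlockIdem CfsgLib.BlockR
open CfsgLib.BlockOrth (ext0 ext0_coe ext0_mem ext0_not subgroupBlockCoeff_eq conv_ext0)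
open scoped ComplexConjugate

section Exact

variable {M : Ideal AlgInt} [hP : M.IsPrime]
variable {K : Type*} [Group K] [Finite K]

/-- an idempotent class function with local integral coefficients which is congruent to a block
idempotent is equal to it -/
theorem exact_of_idem [Fintype K] {A : K → ℂ} (hcl : IsClassFunction K A)
    (hR : ∀ x, MemLocalRing M (A x)) (hidem : conv A A = A) {F : Set (IrrCharacter K)}
    (hF : IsPBlock M F) (hc : ∀ x, MemLocalIdeal M (A x - blockCoeff F x)) (x : K) :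
    blockCoeff F x = A x := by
  have h1 : ∀ χ : IrrCharacter K, omg (χ : K → ℂ) A = 0 ∨ omg (χ : K → ℂ) A = 1 := by
    intro χ
    have h := omg_conv χ (a := A) (b := A) hcl
    rw [hidem] at h
    have h2 : omg (χ : K → ℂ) A * (omg (χ : K → ℂ) A - 1) = 0 := by
      rw [mul_sub, mul_one, ← h, sub_self]
    rcases mul_eq_zero.1 h2 with h3 | h3
    · left; exact h3
    · right; exact sub_eq_zero.1 h3
  have hAM : AM M ((fun χ : IrrCharacter K => omg (χ : K → ℂ) A) - ind F) := by
    intro y
    rw [fou_sub, fou_omg hcl, ← blockCoeff_eq_fou]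
    exact hc y
  have h2 : (fun χ : IrrCharacter K => omg (χ : K → ℂ) A) = ind F := by
    funext χ
    have h3 := AM_val hP hAM χ
    rw [Pi.sub_apply] at h3
    by_cases hχ : χ ∈ F
    · rw [ind_of hχ] at *
      rcases h1 χ with h4 | h4
      · rw [h4, zero_sub] at h3
        exact absurd (LocR.memI_neg h3) (by rw [neg_neg]; exact LocR.not_memI_one)
      · exact h4
    · rw [ind_not hχ] at *
      rcases h1 χ with h4 | h4
      · exact h4
      · rw [h4, sub_zero] at h3
        exact absurd h3 LocR.not_memI_one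
  rw [blockCoeff_eq_fou, ← h2, fou_omg hcl]

end Exact

section Sub

variable {M : Ideal AlgInt} [hP : M.IsPrime]
variable {G : Type*} [Group G] [Fintype G]

theorem sum_subgroup {T : Subgroup G} [Fintype T] (F : G → ℂ) (hF : ∀ g, g ∉ T → F g = 0) :
    ∑ x : T, F x = ∑ g : G, F g := by
  classical
  have h1 := CfsgLib.BlockOrth.sum_ext0_mul (H := T) (fun _ => (1 : ℂ)) F
  simp only [one_mul] at h1
  rw [← h1]
  refine Finset.sum_congr rfl fun g _ => ?_
  by_cases hg : g ∈ T
  · rw [ext0_mem _ hg, one_mul]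
  · rw [hF g hg, mul_zero]

theorem conv_ext0_restrict {T C : Subgroup G} [Fintype T] [Fintype C] (hCT : C ≤ T)
    (a b : C → ℂ) : conv (fun t : T => ext0 C a (t : G)) (fun t : T => ext0 C b (t : G)) =
      fun t : T => ext0 C (conv a b) (t : G) := by
  funext t
  show ∑ x : T, ext0 C a (x : G) * ext0 C b ((x⁻¹ * t : T) : G) = _
  rw [← conv_ext0]
  unfold conv
  rw [← sum_subgroup (T := T) (fun g => ext0 C a g * ext0 C b (g⁻¹ * (t : G)))]
  · rfl
  · intro g hg
    rw [ext0_not a fun h => hg (hCT h), zero_mul]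

theorem pb_eq_of_stab {C : Subgroup G} {f : Set (IrrCharacter C)} (hf : IsPBlock M f) {x : G}
    (h : StabilizesBlock C f x) (hC : C = cS x C) : pb (cI x hC) f = f := by
  have h2 : pb (cI x hC) f ⊆ f := by
    intro ξ hξ
    obtain ⟨χ, hχ, hχξ⟩ := hξ
    obtain ⟨χ', hχ', hc⟩ := h.2 χ hχ
    have : ξ = χ' := by
      apply Subtype.ext
      funext y
      obtain ⟨k, rfl⟩ := (cI x hC).surjective y
      rw [hχξ, hc k (cI x hC k) (cI_coe x hC k)]
    rw [this]; exact hχ'
  obtain ⟨ξ, hξ⟩ := block_nonempty hP (isPBlock_pb (cI x hC) hf)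
  exact block_eq_of_mem hP (isPBlock_pb (cI x hC) hf) hf hξ (h2 hξ)

/-- the coefficients of a stable block are invariant -/
theorem sbc_stab {C : Subgroup G} {f : Set (IrrCharacter C)} (hf : IsPBlock M f) {x : G}
    (h : StabilizesBlock C f x) (g : G) :
    subgroupBlockCoeff C f (x * g * x⁻¹) = subgroupBlockCoeff C f g := by
  have hC : C = cS x C := (cS_of_normalizer h.1).symm
  have h1 : g ∈ C ↔ x * g * x⁻¹ ∈ C := by
    have := Subgroup.mem_normalizer_iff.1 h.1 g
    exact this
  rw [subgroupBlockCoeff_eq]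
  by_cases hg : g ∈ C
  · rw [ext0_mem _ hg, ext0_mem _ (h1.1 hg)]
    have h2 := blockCoeff_pb (cI x hC) f ⟨g, hg⟩
    rw [pb_eq_of_stab hf h hC] at h2
    exact h2
  · rw [ext0_not _ hg, ext0_not _ fun h' => hg (h1.2 h')]

theorem conv_blockCoeff_self {K : Type*} [Group K] [Fintype K] (b : Set (IrrCharacter K)) :
    conv (fun x => blockCoeff b x) (fun x => blockCoeff b x) = fun x => blockCoeff b x := by
  have h : (fun x => blockCoeff b x) = fou (ind b) := by
    funext x; exact blockCoeff_eq_fou b x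
  rw [h, ← fou_mul, ind_mul_self]

theorem conv_blockCoeff_ne {K : Type*} [Group K] [Fintype K] {b b' : Set (IrrCharacter K)}
    (hb : IsPBlock M b) (hb' : IsPBlock M b') (hne : b ≠ b') :
    conv (fun x => blockCoeff b x) (fun x => blockCoeff b' x) = 0 := by
  have h : ∀ b : Set (IrrCharacter K), (fun x => blockCoeff b x) = fou (ind b) := by
    intro b; funext x; exact blockCoeff_eq_fou b x
  rw [h, h, ← fou_mul]
  have h1 : ind b * ind b' = 0 := by
    funext χ
    rw [Pi.mul_apply, Pi.zero_apply]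
    by_cases hχ : χ ∈ b
    · by_cases hχ' : χ ∈ b'
      · exact absurd (block_eq_of_mem hP hb hb' hχ hχ') hne
      · rw [ind_not hχ', mul_zero]
    · rw [ind_not hχ, zero_mul]
  rw [h1]
  funext x
  rw [fou_zero]; rfl

/-- a block of `C` whose idempotent mod `M` is a block idempotent of `T ≥ C`, `T` stabilizing the
block: equality over ℂ -/
theorem sbc_exact {T C : Subgroup G} (hCT : C ≤ T) {f : Set (IrrCharacter C)}
    (hf : IsPBlock M f) (hst : ∀ x ∈ T, StabilizesBlock C f x) {F : Set (IrrCharacter T)}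
    (hF : IsPBlock M F) (h : bk M T.subtype F = bk M C.subtype f) (t : T) :
    blockCoeff F t = subgroupBlockCoeff C f (t : G) := by
  classical
  haveI := Fintype.ofFinite T
  haveI := Fintype.ofFinite C
  refine exact_of_idem (M := M) (A := fun t : T => subgroupBlockCoeff C f (t : G)) ?_ ?_ ?_ hF ?_ t
  · intro g x
    exact sbc_stab hf (hst x x.2) (g : G)
  · intro x
    rw [subgroupBlockCoeff_eq]
    by_cases hx : (x : G) ∈ C
    · rw [ext0_mem _ hx]; exact blockCoeff_ring hP hf _
    · rw [ext0_not _ hx]; exact LocR.memR_zero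
  · rw [subgroupBlockCoeff_eq, conv_ext0_restrict hCT, conv_blockCoeff_self]
  · intro x
    have h1 := bk_coeff (M := M) (ι := T.subtype) (Subgroup.subtype_injective T) F x
    rw [h] at h1
    by_cases hx : (x : G) ∈ C
    · have h2 := bk_coeff (M := M) (ι := C.subtype) (Subgroup.subtype_injective C) f ⟨x, hx⟩
      have e1 : C.subtype ⟨(x : G), hx⟩ = T.subtype x := rfl
      rw [e1, h1] at h2
      rw [subgroupBlockCoeff_eq, ext0_mem _ hx]
      exact (rd_eq_iff (blockCoeff_ring hP hf _) (blockCoeff_ring hP hF _)).1 h2.symm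
    · rw [subgroupBlockCoeff_eq, ext0_not _ hx, zero_sub]
      have h2 : (bk M C.subtype f).coeff (x : G) = 0 := by
        refine Ph_off _ ?_
        rw [Subgroup.range_subtype]; exact hx
      have e1 : T.subtype x = (x : G) := rfl
      rw [e1, h2] at h1
      exact LocR.memI_neg ((rd_eq_zero (blockCoeff_ring hP hF _)).1 h1.symm)

/-- the block of the stabilizer -/
theorem stab_block {p : ℕ} [Fact p.Prime] (hM : Cfsg.IsPModular p M) {Q : Subgroup G}
    {f : Set (Cfsg.IrrCharacter (Subgroup.centralizer (Q : Set G)))} (hf : Cfsg.IsPBlock M f)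
    (hbp : BP p ⊤ Q (J M Q f)) {T : Subgroup G}
    (hT : ∀ y : G, y ∈ T ↔ y ∈ Subgroup.normalizer (Q : Set G) ∧
      Cfsg.StabilizesBlock (Subgroup.centralizer (Q : Set G)) f y) :
    T = TS ⊤ Q (J M Q f) ∧ ∃ F : Set (Cfsg.IrrCharacter T), Cfsg.IsPBlock M F ∧
      (∀ t : T, Cfsg.blockCoeff F t =
        Cfsg.subgroupBlockCoeff (Subgroup.centralizer (Q : Set G)) f (t : G)) ∧
      bk M T.subtype F = J M Q f := by
  have := charP_kM hM
  have hTS : T = TS ⊤ Q (J M Q f) := by
    ext y; rw [hT, g_stab hf]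
  have hb : IsBlk T (J M Q f) := by
    have := isBlk_TS hbp
    rwa [← hTS] at this
  obtain ⟨F, hF, hFe⟩ := h_surj hb
  refine ⟨hTS, F, hF, fun t => ?_, hFe⟩
  refine sbc_exact ?_ hf (fun x hx => ((hT x).1 hx).2) hF hFe t
  rw [hTS]
  have := CH_le_TS hbp
  rwa [CH_top] at this

theorem sbc_bk {C : Subgroup G} {f : Set (IrrCharacter C)} (g : G) :
    (bk M C.subtype f).coeff g = rd M (subgroupBlockCoeff C f g) := by
  rw [subgroupBlockCoeff_eq]
  by_cases hx : g ∈ C
  · rw [ext0_mem _ hx]
    exact bk_coeff (M := M) (ι := C.subtype) (Subgroup.subtype_injective C) f ⟨g, hx⟩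
  · rw [ext0_not _ hx, rd_zero]
    refine Ph_off _ ?_
    rw [Subgroup.range_subtype]; exact hx

theorem sbc_ring {C : Subgroup G} {f : Set (IrrCharacter C)} (hf : IsPBlock M f) (g : G) :
    MemLocalRing M (subgroupBlockCoeff C f g) := by
  rw [subgroupBlockCoeff_eq]
  by_cases hx : g ∈ C
  · rw [ext0_mem _ hx]; exact blockCoeff_ring hP hf _
  · rw [ext0_not _ hx]; exact LocR.memR_zero

theorem conv_sum {ι : Type*} (s : Finset ι) (a b : ι → G → ℂ) :
    conv (fun g => ∑ i ∈ s, a i g) (fun g => ∑ i ∈ s, b i g) =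
      fun g => ∑ i ∈ s, ∑ j ∈ s, conv (a i) (b j) g := by
  funext g
  unfold conv
  calc ∑ x : G, (∑ i ∈ s, a i x) * (∑ j ∈ s, b j (x⁻¹ * g)) =
      ∑ x : G, ∑ i ∈ s, ∑ j ∈ s, a i x * b j (x⁻¹ * g) :=
        Finset.sum_congr rfl fun x _ => Finset.sum_mul_sum _ _ _ _
    _ = ∑ i ∈ s, ∑ x : G, ∑ j ∈ s, a i x * b j (x⁻¹ * g) := Finset.sum_comm
    _ = _ := Finset.sum_congr rfl fun i _ => Finset.sum_comm

end Sub

section FieldSum

variable {k : Type*} [Field k] {G : Type*} [Group G] [Fintype G]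

theorem sum_conj_blocks {H C : Subgroup G} (hCH : C ≤ H)
    (hN : H ≤ Subgroup.normalizer (C : Set G)) {b e : MonoidAlgebra k G} (hb : IsBlk H b)
    (hs : Supp C b) (he : IsBlk C e) (hbe : b * e ≠ 0) (S : Finset (MonoidAlgebra k G))
    (hS : ∀ u, u ∈ S ↔ ∃ x ∈ H, u = cj x e) : ∑ u ∈ S, u = b := by
  classical
  obtain ⟨s, hs1, hsum⟩ := exists_blocks (k := k) C
  have hbC : ZH C b := ⟨hs, fx_mono hCH hb.zh.2⟩
  have h1 : b = ∑ u ∈ s, b * u := by rw [← Finset.mul_sum, hsum, mul_one]
  have h2 : ∑ u ∈ s, b * u = ∑ u ∈ s.filter (fun u => b * u ≠ 0), u := by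
    rw [Finset.sum_filter]
    refine Finset.sum_congr rfl fun u hu => ?_
    by_cases h : b * u = 0
    · rw [if_neg (by simpa using h), h]
    · rw [if_pos h]
      exact ((hs1 u hu).prim b hbC hb.idem).resolve_right h
  rw [h1, h2]
  refine Finset.sum_congr ?_ fun _ _ => rfl
  ext u
  rw [hS, Finset.mem_filter]
  constructor
  · rintro ⟨x, hx, rfl⟩
    refine ⟨IsBlk.mem_of_sum_one hs1 hsum ?_, ?_⟩
    · have h3 := he.cj x
      have h4 : C.map (MulAut.conj x).toMonoidHom = C := cS_of_normalizer (hN hx)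
      rw [h4] at h3
      exact h3
    · intro h0
      apply hbe
      have h3 : cj x (b * e) = 0 := by
        rw [cj_mul, fx_iff.1 hb.zh.2 x hx, h0]
      exact cj_eq_zero.1 h3
  · rintro ⟨hu, h0⟩
    exact blocks_conj hCH hN hb he (hs1 u hu) hbe h0

end FieldSum

section Conj

variable {M : Ideal AlgInt} [hP : M.IsPrime]
variable {G : Type*} [Group G] [Fintype G]

theorem cS_normal (N : Subgroup G) [hN : N.Normal] (x : G) : N = cS x N := by
  symm
  apply cS_of_normalizer
  rw [Subgroup.normalizer_eq_top]; exact Subgroup.mem_top x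

theorem sbc_pb (N : Subgroup G) [hN : N.Normal] (e : Set (IrrCharacter N)) (x g : G) :
    subgroupBlockCoeff N (pb (cI x (cS_normal N x)) e) g =
      subgroupBlockCoeff N e (x⁻¹ * g * x) := by
  have h1 : g ∈ N ↔ x⁻¹ * g * x ∈ N := by
    constructor
    · intro h
      have := hN.conj_mem g h x⁻¹
      rwa [inv_inv] at this
    · intro h
      have := hN.conj_mem _ h x
      have e1 : x * (x⁻¹ * g * x) * x⁻¹ = g := by group
      rwa [e1] at this
  rw [subgroupBlockCoeff_eq, subgroupBlockCoeff_eq]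
  by_cases hg : g ∈ N
  · rw [ext0_mem _ hg, ext0_mem _ (h1.1 hg)]
    have h2 := blockCoeff_pb (cI x (cS_normal N x)) e ⟨x⁻¹ * g * x, h1.1 hg⟩
    rw [← h2]
    congr 1
    apply Subtype.ext
    rw [cI_coe]
    show g = x * (x⁻¹ * g * x) * x⁻¹
    group
  · rw [ext0_not _ hg, ext0_not _ fun h => hg (h1.2 h)]

theorem stab_normal_iff {N : Subgroup G} [hN : N.Normal] {e : Set (IrrCharacter N)}
    (he : IsPBlock M e) {x : G} :
    StabilizesBlock N e x ↔ cj x (bk M N.subtype e) = bk M N.subtype e := by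
  have h := stab_iff (M := M) (ι := MonoidHom.id G) id_inj he (x := x)
  rw [MonoidHom.id_comp] at h
  rw [h]
  refine and_iff_right ?_
  rw [Subgroup.normalizer_eq_top]; exact Subgroup.mem_top x

theorem bk_pb' (N : Subgroup G) [hN : N.Normal] (e : Set (IrrCharacter N)) (x : G) :
    bk M N.subtype (pb (cI x (cS_normal N x)) e) = cj x (bk M N.subtype e) := by
  have h := bk_pb (M := M) (ι := MonoidHom.id G) id_inj x (cS_normal N x) e
  rw [MonoidHom.id_comp] at h
  exact h

/-- a block of `G` whose idempotent is supported (mod `M`) on the normal subgroup `N` is the sum of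
the conjugates of a covered block, exactly -/
theorem sum_conj_exact {N : Subgroup G} [hN : N.Normal] {e : Set (IrrCharacter N)}
    (he : IsPBlock M e) {B : Set (IrrCharacter G)} (hB : IsPBlock M B) (hs : Supp N (JB M B))
    (hbe : JB M B * bk M N.subtype e ≠ 0) {T : Subgroup G}
    (hT : ∀ x, x ∈ T ↔ StabilizesBlock N e x) (g : G) :
    blockCoeff B g = (Nat.card T : ℂ)⁻¹ * ∑ x : G, subgroupBlockCoeff N e (x⁻¹ * g * x) := by
  classical
  haveI := Fintype.ofFinite N
  set c : G → Set (IrrCharacter N) := fun x => pb (cI x (cS_normal N x)) e with hc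
  have hcb : ∀ x, IsPBlock M (c x) := fun x => isPBlock_pb _ he
  have hcc : ∀ x, bk M N.subtype (c x) = cj x (bk M N.subtype e) := fun x => bk_pb' N e x
  set S : Finset (Set (IrrCharacter N)) := Finset.univ.image c with hS
  have hSb : ∀ f ∈ S, IsPBlock M f := by
    intro f hf
    obtain ⟨x, _, rfl⟩ := Finset.mem_image.1 hf
    exact hcb x
  have hceq : ∀ x y, c x = c y ↔ y⁻¹ * x ∈ T := by
    intro x y
    rw [hT, stab_normal_iff he]
    constructor
    · intro h
      have h1 : cj x (bk M N.subtype e) = cj y (bk M N.subtype e) := by rw [← hcc, ← hcc, h]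
      rw [← cj_cj, h1, cj_inv_cj]
    · intro h
      refine h_inj (hcb x) (hcb y) ?_
      rw [hcc, hcc]
      have h1 : cj y (cj (y⁻¹ * x) (bk M N.subtype e)) = cj y (bk M N.subtype e) := by rw [h]
      rw [cj_cj, mul_inv_cancel_left] at h1
      exact h1
  have hTc : (Nat.card T : ℂ) ≠ 0 := by exact_mod_cast Nat.card_pos.ne'
  -- fibres
  have hfib : ∀ f ∈ S, (Finset.univ.filter (fun x => c x = f)).card = Nat.card T := by
    intro f hf
    obtain ⟨y, _, rfl⟩ := Finset.mem_image.1 hf
    haveI := Fintype.ofFinite T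
    rw [Nat.card_eq_fintype_card, ← Finset.card_univ]
    symm
    refine Finset.card_bij (fun (t : T) _ => y * (t : G)) ?_ ?_ ?_
    · intro t _
      rw [Finset.mem_filter]
      refine ⟨Finset.mem_univ _, (hceq _ _).2 ?_⟩
      rw [inv_mul_cancel_left]; exact t.2
    · intro a _ b _ h
      exact Subtype.ext (mul_left_cancel h)
    · intro x hx
      rw [Finset.mem_filter] at hx
      exact ⟨⟨y⁻¹ * x, (hceq _ _).1 hx.2⟩, Finset.mem_univ _, mul_inv_cancel_left _ _⟩
  set A : G → ℂ := fun g => ∑ f ∈ S, subgroupBlockCoeff N f g with hA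
  have hAe : ∀ g, A g = (Nat.card T : ℂ)⁻¹ * ∑ x : G, subgroupBlockCoeff N e (x⁻¹ * g * x) := by
    intro g
    have h1 : ∑ x : G, subgroupBlockCoeff N e (x⁻¹ * g * x) =
        ∑ x : G, subgroupBlockCoeff N (c x) g :=
      Finset.sum_congr rfl fun x _ => (sbc_pb N e x g).symm
    have h2 : ∑ x : G, subgroupBlockCoeff N (c x) g =
        ∑ f ∈ S, ∑ x ∈ Finset.univ.filter (fun x => c x = f), subgroupBlockCoeff N (c x) g :=
      (Finset.sum_fiberwise_of_maps_to (fun x _ => Finset.mem_image_of_mem c (Finset.mem_univ x))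
        _).symm
    have h3 : ∀ f ∈ S, ∑ x ∈ Finset.univ.filter (fun x => c x = f), subgroupBlockCoeff N (c x) g =
        (Nat.card T : ℂ) * subgroupBlockCoeff N f g := by
      intro f hf
      rw [Finset.sum_congr rfl (fun x hx => by rw [(Finset.mem_filter.1 hx).2]),
        Finset.sum_const, hfib f hf, nsmul_eq_mul]
    rw [h1, h2, Finset.sum_congr rfl h3, ← Finset.mul_sum, inv_mul_cancel_left₀ hTc]
  rw [← hAe]
  refine exact_of_idem (M := M) (A := A) ?_ ?_ ?_ hB ?_ g
  · intro g h
    rw [hAe, hAe]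
    congr 1
    rw [← Equiv.sum_comp (Equiv.mulLeft h)]
    refine Finset.sum_congr rfl fun x _ => ?_
    congr 1
    show (h * x)⁻¹ * (h * g * h⁻¹) * (h * x) = x⁻¹ * g * x
    group
  · intro x
    exact LocR.memR_sum fun f hf => sbc_ring (hSb f hf) x
  · rw [hA, conv_sum]
    funext g
    refine Finset.sum_congr rfl fun f hf => ?_
    rw [Finset.sum_eq_single f]
    · rw [subgroupBlockCoeff_eq]
      rw [conv_ext0, conv_blockCoeff_self]
    · intro f' hf' hne
      rw [subgroupBlockCoeff_eq, subgroupBlockCoeff_eq, conv_ext0,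
        conv_blockCoeff_ne (hSb f hf) (hSb f' hf') hne.symm]
      by_cases hg : g ∈ N
      · rw [ext0_mem _ hg]; rfl
      · rw [ext0_not _ hg]
    · intro h; exact absurd hf h
  · intro x
    refine (rd_eq_iff (LocR.memR_sum fun f hf => sbc_ring (hSb f hf) x)
      (blockCoeff_ring hP hB x)).1 ?_
    rw [rd_sum _ _ fun f hf => sbc_ring (hSb f hf) x]
    have h1 := bk_coeff (M := M) (ι := MonoidHom.id G) id_inj B x
    rw [← h1]
    have h2 : ∑ u ∈ S.image (fun f => bk M N.subtype f), u = JB M B := by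
      refine sum_conj_blocks (H := ⊤) (C := N) le_top ?_ (g_blk hB) hs (h_blk he) hbe _ ?_
      · rw [Subgroup.normalizer_eq_top]
      · intro u
        rw [Finset.mem_image]
        constructor
        · rintro ⟨f, hf, rfl⟩
          obtain ⟨y, _, rfl⟩ := Finset.mem_image.1 hf
          exact ⟨y, Subgroup.mem_top y, hcc y⟩
        · rintro ⟨y, _, rfl⟩
          exact ⟨c y, Finset.mem_image_of_mem c (Finset.mem_univ y), hcc y⟩
    have h3 : (JB M B).coeff x = ∑ f ∈ S, (bk M N.subtype f).coeff x := by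
      rw [← h2, sum_coeff, Finset.sum_image]
      intro f hf f' hf' hff
      exact h_inj (hSb f hf) (hSb f' hf') hff
    show _ = (JB M B).coeff x
    rw [h3]
    exact Finset.sum_congr rfl fun f _ => (sbc_bk x).symm

end Conj

end CfsgLib.BrP
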