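import Mathlib
import Cfsg.Agent.EqBase
import Cfsg.Agent.LibBrP12

/-!
# Brauer pairs, XIII: central characters over algebraically closed fields; the residue field is
algebraically closed; defect groups of stable blocks of normal subgroups (helper18)
-/

set_option autoImplicit false
set_option linter.unusedSectionVars false
set_option linter.style.haveILetI false
set_option linter.unusedSimpArgs false
set_option linter.unusedVariables false

namespace CfsgLib.BrP

open Cfsg CfsgLib.LocR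

section AlgClosed

variable (M : Ideal AlgInt) [hMx : M.IsMaximal]

/-- reduction `AlgInt → kM M` -/
noncomputable def redA [hP : M.IsPrime] : AlgInt →+* kM M :=
  (IsLocalRing.residue (LocR.subring M)).comp
    { toFun := fun a => ⟨(a : ℂ), LocR.memR_algInt a⟩
      map_one' := rfl
      map_mul' := fun _ _ => rfl
      map_zero' := rfl
      map_add' := fun _ _ => rfl }

theorem redA_apply [hP : M.IsPrime] (a : AlgInt) : redA M a = rd M (a : ℂ) := by
  rw [rd_of (LocR.memR_algInt a)]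
  rfl

theorem redA_surjective [hP : M.IsPrime] : Function.Surjective (redA M) := by
  intro c
  obtain ⟨z, hz, rfl⟩ := rd_surj c
  obtain ⟨a, b, hb, rfl⟩ := hz
  -- b invertible mod M
  obtain ⟨d, hd⟩ := hMx.exists_inv hb
  obtain ⟨m, hm, hdm⟩ := hd
  refine ⟨a * d, ?_⟩
  rw [redA_apply]
  have hbR : MemLocalRing M ((a : ℂ) / (b : ℂ)) := ⟨a, b, hb, rfl⟩
  rw [rd_eq_iff (LocR.memR_algInt _) hbR]
  have hb0 := LocR.ne_zero_of_not_mem hb
  have h1 : ((a * d : AlgInt) : ℂ) - (a : ℂ) / (b : ℂ) =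
      ((a * d : AlgInt) : ℂ) - (a : ℂ) / (b : ℂ) := rfl
  -- d * b = 1 - m
  have h2 : (d : ℂ) * (b : ℂ) + (m : ℂ) = 1 := by
    have := congrArg (fun t : AlgInt => (t : ℂ)) hdm
    simpa using this
  refine ⟨-(a * m), b, M.neg_mem (M.mul_mem_left a hm), hb, ?_⟩
  push_cast
  field_simp
  linear_combination (-(a : ℂ)) * h2

instance instIsAlgClosed [hP : M.IsPrime] : IsAlgClosed (kM M) := by
  apply IsAlgClosed.of_exists_root
  intro q hq hirr
  obtain ⟨Q, hQ1, hQ2, hQ3⟩ := Polynomial.lifts_and_natDegree_eq_and_monic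
    (f := redA M) ((Polynomial.lifts_iff_coeff_lifts (f := redA M) q).2
      fun n => redA_surjective M (q.coeff n)) hq
  have hdeg : Q.natDegree ≠ 0 := by
    rw [hQ2]
    exact hirr.natDegree_pos.ne'
  -- a complex root
  have hmdeg : (Q.map (algebraMap AlgInt ℂ)).degree ≠ 0 := by
    rw [Polynomial.degree_map_eq_of_injective Subtype.coe_injective]
    intro h
    exact hdeg (Polynomial.natDegree_eq_of_degree_eq_some h)
  obtain ⟨r, hr⟩ := IsAlgClosed.exists_root _ hmdeg
  have hri : IsIntegral AlgInt r := ⟨Q, hQ3, by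
    rw [Polynomial.IsRoot.def, Polynomial.eval_map] at hr
    exact hr⟩
  have hrz : IsIntegral ℤ r := isIntegral_trans (R := ℤ) (A := AlgInt) r hri
  refine ⟨redA M ⟨r, hrz⟩, ?_⟩
  rw [← hQ1, Polynomial.eval_map, Polynomial.eval₂_at_apply]
  have h0 : Polynomial.eval (⟨r, hrz⟩ : AlgInt) Q = 0 := by
    apply Subtype.ext
    rw [Polynomial.IsRoot.def, Polynomial.eval_map] at hr
    have := Polynomial.eval₂_at_apply (algebraMap AlgInt ℂ) (p := Q) (⟨r, hrz⟩ : AlgInt)
    have h2 : (algebraMap AlgInt ℂ) ⟨r, hrz⟩ = r := rfl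
    rw [h2, hr] at this
    exact this.symm
  rw [h0, map_zero]

end AlgClosed

section Lam

variable {k : Type*} [Field k] {G : Type*} [Group G] [Fintype G]

theorem zh_commute {H : Subgroup G} {a b : MonoidAlgebra k G} (ha : ZH H a) (hb : ZH H b) :
    Commute a b := zh_comm ha hb

theorem exists_lam [IsAlgClosed k] {H : Subgroup G} {e z : MonoidAlgebra k G} (he : IsBlk H e)
    (hz : ZH H z) : ∃ c : k, IsNilpotent ((z - c • 1) * e) := by
  classical
  let V : Submodule k (MonoidAlgebra k G) := LinearMap.range (LinearMap.mulLeft k e)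
  have hVmem : ∀ x, x ∈ V ↔ e * x = x := by
    intro x
    constructor
    · rintro ⟨y, rfl⟩
      show e * (e * y) = e * y
      rw [← mul_assoc, he.idem]
    · intro h
      exact ⟨x, h⟩
  have hzV : ∀ x ∈ V, (LinearMap.mulLeft k z) x ∈ V := by
    intro x hx
    rw [hVmem] at *
    show e * (z * x) = z * x
    rw [← mul_assoc, ← he.comm hz, mul_assoc, hx]
  haveI : Nontrivial V := by
    refine ⟨⟨0, ⟨e, (hVmem e).2 he.idem⟩, ?_⟩⟩
    intro h
    exact he.ne (congrArg Subtype.val h).symm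
  obtain ⟨c, hc⟩ := Module.End.exists_eigenvalue ((LinearMap.mulLeft k z).restrict hzV)
  obtain ⟨v, hv⟩ := hc.exists_hasEigenvector
  have hv1 : (z * (v : MonoidAlgebra k G)) = c • (v : MonoidAlgebra k G) :=
    congrArg Subtype.val hv.apply_eq_smul
  have hv0 : (v : MonoidAlgebra k G) ≠ 0 := fun h => hv.2 (Subtype.ext h)
  have hev : e * (v : MonoidAlgebra k G) = v := (hVmem _).1 v.2
  refine ⟨c, ?_⟩
  have hzc : ZH H (z - c • (1 : MonoidAlgebra k G)) := zh_sub hz (zh_smul c zh_one)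
  rcases he.unit_or_nilpotent hzc with h | ⟨w, hw, h⟩
  · exact h
  · exfalso
    apply hv0
    calc (v : MonoidAlgebra k G) = e * v := hev.symm
      _ = (z - c • (1 : MonoidAlgebra k G)) * w * v := by rw [h]
      _ = w * ((z - c • (1 : MonoidAlgebra k G)) * v) := by rw [zh_comm hzc hw, mul_assoc]
      _ = 0 := by
        rw [sub_mul, hv1, smul_mul_assoc, one_mul, sub_self, mul_zero]

open Classical in
/-- the central character of the block idempotent `e` -/
noncomputable def lam (e z : MonoidAlgebra k G) : k :=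
  if h : ∃ c : k, IsNilpotent ((z - c • 1) * e) then h.choose else 0

theorem lam_unique {H : Subgroup G} {e z : MonoidAlgebra k G} (he : IsBlk H e)
    (hz : ZH H z) {c d : k} (hc : IsNilpotent ((z - c • 1) * e))
    (hd : IsNilpotent ((z - d • 1) * e)) : c = d := by
  by_contra hne
  have h1 : ZH H ((z - c • (1 : MonoidAlgebra k G)) * e) :=
    zh_mul (zh_sub hz (zh_smul c zh_one)) he.zh
  have h2 : ZH H ((z - d • (1 : MonoidAlgebra k G)) * e) :=
    zh_mul (zh_sub hz (zh_smul d zh_one)) he.zh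
  have h3 := (zh_commute h1 h2).isNilpotent_sub hc hd
  have h4 : (z - c • (1 : MonoidAlgebra k G)) * e - (z - d • (1 : MonoidAlgebra k G)) * e =
      (d - c) • e := by
    rw [← sub_mul, sub_sub_sub_cancel_left, ← sub_smul, smul_mul_assoc, one_mul]
  rw [h4] at h3
  have h5 : IsNilpotent e := by
    have h6 : IsNilpotent ((d - c)⁻¹ • ((d - c) • e)) := h3.smul _
    rwa [smul_smul, inv_mul_cancel₀ (sub_ne_zero.2 (Ne.symm hne)), one_smul] at h6
  exact he.not_nilpotent h5

variable [IsAlgClosed k]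

theorem lam_spec {H : Subgroup G} {e z : MonoidAlgebra k G} (he : IsBlk H e)
    (hz : ZH H z) : IsNilpotent ((z - lam e z • 1) * e) := by
  unfold lam
  rw [dif_pos (exists_lam he hz)]
  exact (exists_lam he hz).choose_spec

theorem lam_eq {H : Subgroup G} {e z : MonoidAlgebra k G} (he : IsBlk H e)
    (hz : ZH H z) {c : k} (h : IsNilpotent ((z - c • 1) * e)) : lam e z = c :=
  lam_unique he hz (lam_spec he hz) h

theorem lam_add {H : Subgroup G} {e z w : MonoidAlgebra k G} (he : IsBlk H e)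
    (hz : ZH H z) (hw : ZH H w) : lam e (z + w) = lam e z + lam e w := by
  apply lam_eq he (zh_add hz hw)
  have h1 : ZH H ((z - lam e z • (1 : MonoidAlgebra k G)) * e) :=
    zh_mul (zh_sub hz (zh_smul _ zh_one)) he.zh
  have h2 : ZH H ((w - lam e w • (1 : MonoidAlgebra k G)) * e) :=
    zh_mul (zh_sub hw (zh_smul _ zh_one)) he.zh
  have h3 := (zh_commute h1 h2).isNilpotent_add (lam_spec he hz) (lam_spec he hw)
  have h4 : (z + w - (lam e z + lam e w) • (1 : MonoidAlgebra k G)) * e =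
      (z - lam e z • (1 : MonoidAlgebra k G)) * e + (w - lam e w • (1 : MonoidAlgebra k G)) * e := by
    rw [add_smul]; noncomm_ring
  rw [h4]; exact h3

theorem lam_zero {H : Subgroup G} {e : MonoidAlgebra k G} (he : IsBlk H e) : lam e 0 = 0 := by
  apply lam_eq he zh_zero
  rw [zero_smul, sub_zero, zero_mul]
  exact IsNilpotent.zero

theorem lam_one {H : Subgroup G} {e : MonoidAlgebra k G} (he : IsBlk H e) : lam e 1 = 1 := by
  apply lam_eq he zh_one
  rw [one_smul, sub_self, zero_mul]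
  exact IsNilpotent.zero

theorem lam_self {H : Subgroup G} {e : MonoidAlgebra k G} (he : IsBlk H e) : lam e e = 1 := by
  apply lam_eq he he.zh
  rw [one_smul, sub_mul, he.idem, one_mul, sub_self]
  exact IsNilpotent.zero

theorem lam_of_mul_eq_zero {H : Subgroup G} {e z : MonoidAlgebra k G} (he : IsBlk H e)
    (hz : ZH H z) (h : z * e = 0) : lam e z = 0 := by
  apply lam_eq he hz
  rw [zero_smul, sub_zero, h]
  exact IsNilpotent.zero

theorem lam_mul {H : Subgroup G} {e z w : MonoidAlgebra k G} (he : IsBlk H e)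
    (hz : ZH H z) (hw : ZH H w) : lam e (z * w) = lam e z * lam e w := by
  apply lam_eq he (zh_mul hz hw)
  set a := (z - lam e z • (1 : MonoidAlgebra k G)) * e with ha
  set b := (w - lam e w • (1 : MonoidAlgebra k G)) * e with hb
  have haz : ZH H a := zh_mul (zh_sub hz (zh_smul _ zh_one)) he.zh
  have hbz : ZH H b := zh_mul (zh_sub hw (zh_smul _ zh_one)) he.zh
  -- z w e - λ μ e = a w + λ b
  have h4 : (z * w - (lam e z * lam e w) • (1 : MonoidAlgebra k G)) * e =
      a * w + (lam e z) • b := by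
    have hcw : w * e = e * w := zh_comm hw he.zh
    rw [ha, hb, sub_mul, sub_mul, sub_mul, sub_mul, smul_sub]
    simp only [smul_mul_assoc, one_mul, mul_assoc, smul_smul]
    rw [hcw]
    abel
  rw [h4]
  have h1 : IsNilpotent (a * w) := (zh_commute haz hw).isNilpotent_mul_right (lam_spec he hz)
  have h2 : IsNilpotent ((lam e z) • b) := (lam_spec he hw).smul _
  exact (zh_commute (zh_mul haz hw) (zh_smul _ hbz)).isNilpotent_add h1 h2

theorem lam_smul {H : Subgroup G} {e z : MonoidAlgebra k G} (he : IsBlk H e)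
    (hz : ZH H z) (c : k) : lam e (c • z) = c * lam e z := by
  apply lam_eq he (zh_smul c hz)
  have : (c • z - (c * lam e z) • (1 : MonoidAlgebra k G)) * e =
      c • ((z - lam e z • (1 : MonoidAlgebra k G)) * e) := by
    rw [sub_mul, sub_mul, smul_sub]
    simp only [smul_mul_assoc, one_mul, smul_smul]
  rw [this]
  exact (lam_spec he hz).smul _

theorem lam_sum {ι : Type*} {H : Subgroup G} {e : MonoidAlgebra k G} (he : IsBlk H e)
    (s : Finset ι) (f : ι → MonoidAlgebra k G) (hf : ∀ i ∈ s, ZH H (f i)) :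
    lam e (∑ i ∈ s, f i) = ∑ i ∈ s, lam e (f i) := by
  classical
  induction s using Finset.induction with
  | empty => rw [Finset.sum_empty, Finset.sum_empty]; exact lam_zero he
  | insert a s ha ih =>
    rw [Finset.sum_insert ha, Finset.sum_insert ha,
      lam_add he (hf a (Finset.mem_insert_self a s))
        (zh_sum s f fun i hi => hf i (Finset.mem_insert_of_mem hi)),
      ih fun i hi => hf i (Finset.mem_insert_of_mem hi)]

theorem cj_pow (x : G) (a : MonoidAlgebra k G) (n : ℕ) : cj x (a ^ n) = (cj x a) ^ n := by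
  induction n with
  | zero => rw [pow_zero, pow_zero, cj_one]
  | succ n ih => rw [pow_succ, pow_succ, cj_mul, ih]

theorem cj_smul (x : G) (c : k) (a : MonoidAlgebra k G) : cj x (c • a) = c • cj x a :=
  ext' fun g => rfl

theorem cj_nilpotent {x : G} {a : MonoidAlgebra k G} (h : IsNilpotent a) :
    IsNilpotent (cj x a) := by
  obtain ⟨n, hn⟩ := h
  exact ⟨n, by rw [← cj_pow, hn, cj_zero]⟩

theorem lam_cj {H : Subgroup G} {e z : MonoidAlgebra k G} (he : IsBlk H e)
    (hz : ZH H z) (x : G) : lam (cj x e) (cj x z) = lam e z := by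
  have he' := he.cj x
  have hz' : ZH (H.map (MulAut.conj x).toMonoidHom) (cj x z) := ⟨supp_cj hz.1 x, fx_cj hz.2 x⟩
  apply lam_eq he' hz'
  have h1 := cj_nilpotent (x := x) (lam_spec he hz)
  rwa [cj_mul, cj_sub, cj_smul, cj_one] at h1

end Lam

section Cover

variable {G : Type*} [Group G] [Finite G] {p : ℕ} [hp : Fact p.Prime]

/-- if `R ≤ N(C)` is a `p`-group and `R ⊆ C W` then a `p`-subgroup `S` of `W` satisfies
`R C = S C` -/
theorem exists_sylow_cover {C R W : Subgroup G} (hR : IsPGroup p R)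
    (hRN : R ≤ Subgroup.normalizer (C : Set G)) (hW : ∀ x ∈ R, ∃ c ∈ C, c * x ∈ W) :
    ∃ S : Subgroup G, IsPGroup p S ∧ S ≤ W ∧ S ≤ R ⊔ C ∧ R ≤ S ⊔ C := by
  classical
  let Γ : Subgroup G := Subgroup.normalizer (C : Set G)
  have hCΓ : C ≤ Γ := Subgroup.le_normalizer
  let N : Subgroup Γ := C.subgroupOf Γ
  haveI hN : N.Normal := Subgroup.normal_in_normalizer
  let π : Γ →* Γ ⧸ N := QuotientGroup.mk' N
  have hπ : ∀ a b : Γ, π a = π b ↔ (a : G)⁻¹ * (b : G) ∈ C := by
    intro a b
    show ((a : Γ ⧸ N) = (b : Γ ⧸ N)) ↔ _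
    rw [QuotientGroup.eq]
    rfl
  let Rt : Subgroup (Γ ⧸ N) := (R.subgroupOf Γ).map π
  have hRt : IsPGroup p Rt := by
    have h1 : IsPGroup p (R.subgroupOf Γ) := hR.comap_subtype
    exact h1.map _
  let U : Subgroup Γ := (Rt.comap π) ⊓ W.subgroupOf Γ
  let f : U →* Rt := (π.comp U.subtype).codRestrict Rt (fun u => u.2.1)
  have hf : Function.Surjective f := by
    rintro ⟨_, ⟨y, hy, rfl⟩⟩
    obtain ⟨c, hc, hcy⟩ := hW (y : G) hy
    let u : Γ := ⟨c, hCΓ hc⟩ * y
    have hu : π u = π y := by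
      rw [hπ]
      show (c * (y : G))⁻¹ * (y : G) ∈ C
      have e1 : (c * (y : G))⁻¹ * (y : G) = (y : G)⁻¹ * c⁻¹ * (y : G)⁻¹⁻¹ := by group
      rw [e1]
      exact (Subgroup.mem_normalizer_iff.1 (Γ.inv_mem y.2) _).1 (C.inv_mem hc)
    refine ⟨⟨u, ⟨?_, hcy⟩⟩, Subtype.ext hu⟩
    show π u ∈ Rt
    rw [hu]
    exact ⟨y, hy, rfl⟩
  let S0 : Sylow p U := default
  let S1 : Sylow p Rt := S0.mapSurjective hf
  have hS1 : (S1 : Subgroup Rt) = ⊤ := by
    have h1 : IsPGroup p (⊤ : Subgroup Rt) := hRt.to_subgroup ⊤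
    exact (S1.is_maximal' h1 le_top).symm
  have hcov : ∀ t : Rt, ∃ s ∈ (S0 : Subgroup U), f s = t := by
    intro t
    have h1 : t ∈ (S1 : Subgroup Rt) := by rw [hS1]; exact Subgroup.mem_top t
    rw [Sylow.coe_mapSurjective] at h1
    exact h1
  refine ⟨((S0 : Subgroup U).map U.subtype).map Γ.subtype, (S0.isPGroup'.map _).map _, ?_, ?_, ?_⟩
  · rintro _ ⟨_, ⟨u, _, rfl⟩, rfl⟩
    exact u.2.2
  · rintro _ ⟨_, ⟨u, _, rfl⟩, rfl⟩
    obtain ⟨y, hy, hyu⟩ := u.2.1
    have h1 : ((y : Γ) : G)⁻¹ * ((u : Γ) : G) ∈ C := (hπ y u).1 hyu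
    have h2 : ((u : Γ) : G) = (y : G) * ((y : G)⁻¹ * ((u : Γ) : G)) := by group
    show ((u : Γ) : G) ∈ R ⊔ C
    rw [h2]
    exact Subgroup.mul_mem_sup hy h1
  · intro x hx
    obtain ⟨s, hs, hsx⟩ := hcov ⟨π ⟨x, hRN hx⟩, ⟨⟨x, hRN hx⟩, hx, rfl⟩⟩
    have h1 : π (s : Γ) = π ⟨x, hRN hx⟩ := congrArg Subtype.val hsx
    have h2 := (hπ _ _).1 h1
    have h3 : x = ((s : Γ) : G) * (((s : Γ) : G)⁻¹ * x) := by group
    rw [h3]
    exact Subgroup.mul_mem_sup ⟨_, ⟨s, hs, rfl⟩, rfl⟩ h2

end Cover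

section Stable

variable {k : Type*} [Field k] [IsAlgClosed k] {G : Type*} [Group G] [Fintype G] {p : ℕ}
variable [hp : Fact p.Prime] [CharP k p]

/-- key lemma: for a block `f` of `C` stable under the `p`-group `R` there is a `p`-group `S` with
`S C = R C` and `Br_S f ≠ 0` -/
theorem exists_cover_br {C R : Subgroup G} (hR : IsPGroup p R)
    (hRN : R ≤ Subgroup.normalizer (C : Set G)) {f : MonoidAlgebra k G} (hf : IsBlk C f)
    (hfx : Fx R f) : ∃ S : Subgroup G, IsPGroup p S ∧ S ≤ R ⊔ C ∧ R ≤ S ⊔ C ∧ Br S f ≠ 0 := by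
  classical
  let r : Setoid G :=
    { r := fun a b => ∃ x ∈ C, x * a * x⁻¹ = b
      iseqv := ⟨fun a => ⟨1, C.one_mem, by group⟩,
        fun {a b} h => by
          obtain ⟨x, hx, rfl⟩ := h
          exact ⟨x⁻¹, C.inv_mem hx, by group⟩,
        fun {a b c} h h' => by
          obtain ⟨x, hx, rfl⟩ := h
          obtain ⟨y, hy, rfl⟩ := h'
          exact ⟨y * x, C.mul_mem hy hx, by group⟩⟩ }
  haveI : Fintype (Quotient r) := Fintype.ofFinite _
  let fq : Quotient r → MonoidAlgebra k G := fun q =>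
    mk fun y => if (Quotient.mk r y) = q then f.coeff y else 0
  have hconj : ∀ x ∈ C, ∀ y, Quotient.mk r (x * y * x⁻¹) = Quotient.mk r y := fun x hx y =>
    (Quotient.sound (⟨x, hx, rfl⟩ : r.r y (x * y * x⁻¹))).symm
  have hfz : ∀ q, ZH C (fq q) := by
    intro q
    refine ⟨fun g hg => ?_, fun x hx g => ?_⟩
    · show (if (Quotient.mk r g) = q then f.coeff g else 0) = 0
      rw [hf.zh.1 g hg, ite_self]
    · show (if (Quotient.mk r (x * g * x⁻¹)) = q then f.coeff (x * g * x⁻¹) else 0) =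
        (if (Quotient.mk r g) = q then f.coeff g else 0)
      rw [hconj x hx, hf.zh.2 x hx]
  have hsum : ∑ q : Quotient r, fq q = f := by
    apply ext'
    intro g
    rw [sum_coeff, Finset.sum_eq_single (Quotient.mk r g)]
    · show (if (Quotient.mk r g) = (Quotient.mk r g) then f.coeff g else 0) = _
      rw [if_pos rfl]
    · intro q _ hq
      show (if (Quotient.mk r g) = q then f.coeff g else 0) = 0
      rw [if_neg (Ne.symm hq)]
    · intro h; exact absurd (Finset.mem_univ _) h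
  -- the action of `R`
  have hact : ∀ x ∈ R, ∀ a b : G, r.r a b → r.r (x * a * x⁻¹) (x * b * x⁻¹) := by
    rintro x hx a b ⟨c, hc, rfl⟩
    refine ⟨x * c * x⁻¹, (Subgroup.mem_normalizer_iff.1 (hRN hx) c).1 hc, ?_⟩
    group
  letI act : MulAction R (Quotient r) :=
    { smul := fun x q => Quotient.map' (s₁ := r) (s₂ := r) (fun a => (x : G) * a * (x : G)⁻¹)
        (fun a b h => hact x x.2 a b h) q
      one_smul := by
        intro q
        refine Quotient.inductionOn q fun a => ?_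
        show Quotient.mk r (((1 : R) : G) * a * ((1 : R) : G)⁻¹) = Quotient.mk r a
        congr 1
        simp
      mul_smul := by
        intro x y q
        refine Quotient.inductionOn q fun a => ?_
        show Quotient.mk r (((x * y : R) : G) * a * ((x * y : R) : G)⁻¹) =
          Quotient.mk r ((x : G) * ((y : G) * a * (y : G)⁻¹) * (x : G)⁻¹)
        congr 1
        simp [mul_assoc] }
  have hsm : ∀ (x : R) (a : G), x • (Quotient.mk r a) = Quotient.mk r ((x : G) * a * (x : G)⁻¹) :=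
    fun x a => rfl
  have hfqx : ∀ (x : R) (q : Quotient r), fq (x • q) = cj (x : G) (fq q) := by
    intro x q
    apply ext'
    intro y
    rw [cj_coeff]
    show (if (Quotient.mk r y) = x • q then f.coeff y else 0) =
      (if (Quotient.mk r ((x : G)⁻¹ * y * x)) = q then f.coeff ((x : G)⁻¹ * y * x) else 0)
    have e1 : f.coeff ((x : G)⁻¹ * y * x) = f.coeff y := by
      have := hfx (x : G)⁻¹ (R.inv_mem x.2) y
      rwa [inv_inv] at this
    have e2 : (Quotient.mk r y = x • q) ↔ Quotient.mk r ((x : G)⁻¹ * y * x) = q := by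
      have e3 : Quotient.mk r ((x : G)⁻¹ * y * x) = x⁻¹ • Quotient.mk r y := by
        rw [hsm]
        congr 1
        simp
      rw [e3, inv_smul_eq_iff]
    rw [e1]
    simp only [e2]
  have hF : ∀ (x : R) (q : Quotient r), lam f (fq (x • q)) = lam f (fq q) := by
    intro x q
    rw [hfqx]
    have h1 : cj (x : G) f = f := fx_iff.1 hfx x x.2
    have h2 := lam_cj hf (hfz q) (x : G)
    rwa [h1] at h2
  have hs := sum_fixed (k := k) hR (fun q => lam f (fq q)) hF
  rw [← lam_sum hf _ _ (fun q _ => hfz q), hsum, lam_self hf] at hs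
  obtain ⟨q, hq1, hq2⟩ := Finset.exists_ne_zero_of_sum_ne_zero (hs ▸ one_ne_zero)
  rw [Finset.mem_filter] at hq1
  have hfq : fq q ≠ 0 := by
    intro h0
    apply hq2
    rw [h0, lam_zero hf]
  obtain ⟨g, hg⟩ : ∃ g, (fq q).coeff g ≠ 0 := by
    by_contra hcon
    push Not at hcon
    exact hfq (ext' fun g => by rw [hcon g, zero_coeff])
  have hg1 : Quotient.mk r g = q ∧ f.coeff g ≠ 0 := by
    have hg' : (if (Quotient.mk r g) = q then f.coeff g else 0) ≠ 0 := hg
    by_cases h : Quotient.mk r g = q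
    · rw [if_pos h] at hg'; exact ⟨h, hg'⟩
    · rw [if_neg h] at hg'; exact absurd rfl hg'
  obtain ⟨hgq, hgne⟩ := hg1
  have hW : ∀ x ∈ R, ∃ c ∈ C, c * x ∈ Subgroup.centralizer ({g} : Set G) := by
    intro x hx
    have h1 := MulAction.mem_fixedPoints.1 hq1.2 ⟨x, hx⟩
    rw [← hgq, hsm] at h1
    obtain ⟨c, hc, h2⟩ := Quotient.exact h1
    refine ⟨c, hc, ?_⟩
    rw [Subgroup.mem_centralizer_singleton_iff]
    have h3 : c * (x * g * x⁻¹) * c⁻¹ = g := h2
    have h4 : (c * x) * g = g * (c * x) := by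
      calc (c * x) * g = (c * (x * g * x⁻¹) * c⁻¹) * (c * x) := by group
        _ = g * (c * x) := by rw [h3]
    exact h4
  obtain ⟨S, hS, hSW, hSR, hRS⟩ := exists_sylow_cover hR hRN hW
  refine ⟨S, hS, hSR, hRS, ?_⟩
  rw [br_ne_zero_iff]
  refine ⟨g, ?_, hgne⟩
  rw [Subgroup.mem_centralizer_iff]
  intro u hu
  have := hSW hu
  rw [Subgroup.mem_centralizer_singleton_iff] at this
  exact this

end Stable

end CfsgLib.BrP
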