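import Mathlib
import Cfsg.Agent.EqBase
import Cfsg.Agent.LibBrP13
import Cfsg.Prelude.Def_BlockFusion

/-!
# Brauer pairs, XIV: fusion of Brauer pairs (helper18)
-/

set_option autoImplicit false
set_option linter.unusedSectionVars false
set_option linter.style.haveILetI false
set_option linter.unusedSimpArgs false
set_option linter.unusedVariables false

namespace CfsgLib.BrP

open Cfsg CfsgLib.LocR CfsgLib.BlockCore CfsgLib.BlockIdem

section Rel

variable {k : Type*} [Field k] {G : Type*} [Group G] [Fintype G] {p : ℕ}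

/-! ### change of the ambient subgroup -/

theorem CH_sub {H K Q R : Subgroup G} (hK : K ≤ H) (hC : CH H Q ≤ K) (hQR : Q ≤ R) :
    CH K R = CH H R := by
  apply le_antisymm
  · exact inf_le_inf_right _ hK
  · exact le_inf ((CH_anti hQR).trans hC) inf_le_right

theorem bp_sub {H K Q R : Subgroup G} (hK : K ≤ H) (hC : CH H Q ≤ K) (hQR : Q ≤ R)
    {u : MonoidAlgebra k G} : BP p K R u ↔ R ≤ K ∧ BP p H R u := by
  constructor
  · intro h
    exact ⟨h.le, h.le.trans hK, h.pg, by rw [← CH_sub hK hC hQR]; exact h.blk⟩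
  · rintro ⟨h1, h⟩
    exact ⟨h1, h.pg, by rw [CH_sub hK hC hQR]; exact h.blk⟩

theorem nrm_sub {H K Q R S : Subgroup G} (hK : K ≤ H) (hC : CH H Q ≤ K) (hQR : Q ≤ R)
    {u v : MonoidAlgebra k G} : Nrm p K R u S v ↔ S ≤ K ∧ Nrm p H R u S v := by
  constructor
  · intro h
    exact ⟨h.bpP.le, ((bp_sub hK hC hQR).1 h.bpQ).2, ((bp_sub hK hC (hQR.trans h.le)).1 h.bpP).2,
      h.le, h.norm, h.fx, h.br⟩
  · rintro ⟨h1, h⟩
    exact ⟨(bp_sub hK hC hQR).2 ⟨h.le.trans h1, h.bpQ⟩,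
      (bp_sub hK hC (hQR.trans h.le)).2 ⟨h1, h.bpP⟩, h.le, h.norm, h.fx, h.br⟩

theorem lep_sub {H K Q : Subgroup G} (hK : K ≤ H) (hC : CH H Q ≤ K)
    {a b : Subgroup G × MonoidAlgebra k G} (h : LEp p K a b) (hQ : Q ≤ a.1) :
    LEp p H a b := by
  have key : LEp p H a b ∧ Q ≤ b.1 := by
    induction h with
    | refl => exact ⟨Relation.ReflTransGen.refl, hQ⟩
    | tail _ h ih =>
      exact ⟨ih.1.tail ((nrm_sub hK hC ih.2).1 h).2, ih.2.trans h.le⟩
  exact key.1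

theorem lep_sub' {H K Q : Subgroup G} (hK : K ≤ H) (hC : CH H Q ≤ K)
    {a b : Subgroup G × MonoidAlgebra k G} (h : LEp p H a b) (hQ : Q ≤ a.1) (hb : b.1 ≤ K) :
    LEp p K a b := by
  have key : ∀ a, LEp p H a b → Q ≤ a.1 → LEp p K a b := by
    intro a h
    induction h using Relation.ReflTransGen.head_induction_on with
    | refl => intro _; exact Relation.ReflTransGen.refl
    | @head a c hac hcb ih =>
      intro hQa
      refine Relation.ReflTransGen.head ((nrm_sub hK hC hQa).2 ⟨?_, hac⟩) (ih (hQa.trans hac.le))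
      exact (LEp.le hcb).trans hb
  exact key a h hQ

variable [hp : Fact p.Prime] [CharP k p]

/-- Frattini argument for Brauer pairs with abelian-like position: `(P, e)` and `(P', e')` maximal
pairs of `H`, both above `(Q, f)` and inside `K`, where `K` is between `CH H Q` and `TS H Q f` and
`f` is a block of `K` -/
theorem of_sub {H K Q R : Subgroup G} {f u : MonoidAlgebra k G} (hK : K ≤ H) (hC : CH H Q ≤ K)
    (h : Nrm p H Q f R u) (hRK : R ≤ K) : Of p K f R u :=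
  ⟨(bp_sub hK hC h.le).2 ⟨hRK, h.bpP⟩, h.br⟩

theorem Of.nrm_of_sub {H K Q R : Subgroup G} {f u : MonoidAlgebra k G} (hQ : BP p H Q f)
    (hK : K ≤ TS H Q f) (hC : CH H Q ≤ K) (hQR : Q ≤ R) (h : Of p K f R u) :
    Nrm p H Q f R u := by
  have hKH : K ≤ H := hK.trans TS_le
  refine ⟨hQ, ((bp_sub hKH hC hQR).1 h.1).2, hQR, (h.1.le.trans hK).trans TS_le_normalizer, ?_, h.2⟩
  rw [fx_iff]
  intro x hx
  exact (hK (h.1.le hx)).2.2

/-- a maximal pair of `H` containing `(Q, f)` normally is a maximal pair of `K` -/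
theorem isMx_sub {H K Q P : Subgroup G} {B f e : MonoidAlgebra k G} (hB : IsBlk H B)
    (hmx : IsMx p H B P e) (hn : Nrm p H Q f P e) (hK : K ≤ TS H Q f) (hC : CH H Q ≤ K)
    (hPK : P ≤ K) : IsMx p K f P e := by
  have hKH : K ≤ H := hK.trans TS_le
  refine ⟨of_sub hKH hC hn hPK, fun R g hR hle => ?_⟩
  have h1 : LEp p H (P, e) (R, g) := lep_sub hKH hC hle hn.le
  refine hmx.2 R g ?_ h1
  exact hmx.1.of_ge hB (h1.bp_right hmx.1.1) h1

/-- abelian maximal pairs: `N_H(Q, f) = N_H(P, e) C_H(Q)`, elementwise -/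
theorem abelian_factor {H P Q : Subgroup G} {B e f : MonoidAlgebra k G} (hB : IsBlk H B)
    (hmx : IsMx p H B P e) (hab : ∀ x ∈ P, ∀ y ∈ P, x * y = y * x)
    (hle : LEp p H (Q, f) (P, e)) {x : G} (hx : x ∈ TS H Q f) :
    ∃ y ∈ TS H P e, ∃ c ∈ CH H Q, x = y * c := by
  have hQP : Q ≤ P := hle.le
  have hPC : P ≤ Subgroup.centralizer (Q : Set G) := by
    intro u hu
    rw [Subgroup.mem_centralizer_iff]
    intro v hv
    exact hab v (hQP hv) u hu
  have hPH := hmx.1.1.le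
  have hPK : P ≤ CH H Q := le_inf hPH hPC
  have hn : Nrm p H Q f P e := hle.nrm hmx.1.1 (hPC.trans (centralizer_le_normalizer Q))
  have hbQ := hn.bpQ
  have hQC : Q ≤ CH H Q := hQP.trans hPK
  have hfb : IsBlk (CH H Q) f := hbQ.blk
  have h1 := isMx_sub hB hmx hn (CH_le_TS hbQ) le_rfl hPK
  -- the conjugate
  have hmx' := hmx.cj hB hx.1
  have hn' := hn.cj' hx.1
  rw [cS_of_normalizer hx.2.1, hx.2.2] at hn'
  have hPK' : cS x P ≤ CH H Q := by
    have h2 : cS x (CH H Q) = CH H Q := by rw [← CH_cS' hx.1, cS_of_normalizer hx.2.1]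
    rw [← h2]
    exact cS_mono hPK
  have h2 := isMx_sub hB hmx' hn' (CH_le_TS hbQ) le_rfl hPK'
  obtain ⟨c, hc, h3, h4⟩ := h1.conj hfb h2
  -- x P = c P, x e = c e
  have hcH : c ∈ H := hc.1
  refine ⟨c⁻¹ * x, ⟨H.mul_mem (H.inv_mem hcH) hx.1, ?_, ?_⟩, (c⁻¹ * x)⁻¹ * c * (c⁻¹ * x), ?_, ?_⟩
  · rw [mem_normalizer_iff_cS, ← cS_cS, h3, cS_inv_cS]
  · rw [← cj_cj, h4, cj_inv_cj]
  · have hy : c⁻¹ * x ∈ H := H.mul_mem (H.inv_mem hcH) hx.1
    refine ⟨H.mul_mem (H.mul_mem (H.inv_mem hy) hcH) hy, ?_⟩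
    have hyN : (c⁻¹ * x)⁻¹ ∈ Subgroup.normalizer (Q : Set G) :=
      Subgroup.inv_mem _ (Subgroup.mul_mem _
        (Subgroup.inv_mem _ (centralizer_le_normalizer Q hc.2)) hx.2.1)
    have := (mem_centralizer_conj hyN (c := c)).2 hc.2
    rwa [inv_inv] at this
  · group

/-- if `D` is a defect group of `f` in `TS H Q f` and `D ≤ K ≤ TS H Q f` then also in `K` -/
theorem isDef_between {T K D : Subgroup G} {f : MonoidAlgebra k G} (hD : IsDef p T f D)
    (hKT : K ≤ T) (hfK : IsBlk K f) (hDK : D ≤ K) : IsDef p K f D := by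
  obtain ⟨E, hE⟩ := exists_isDef (p := p) hfK
  obtain ⟨t, _, h1⟩ := hD.ge (hE.le.trans hKT) hE.pg hE.br
  refine hE.of_card hDK hD.pg hD.br ?_
  have := card_le_of_le h1
  rwa [card_cS] at this

omit [Fintype G] hp [CharP k p] in
theorem mem_sup_of_normalizer {D C : Subgroup G} (h : D ≤ Subgroup.normalizer (C : Set G)) {z : G}
    (hz : z ∈ D ⊔ C) : ∃ d ∈ D, ∃ c ∈ C, z = d * c := by
  let S : Subgroup G :=
    { carrier := {z | ∃ d ∈ D, ∃ c ∈ C, z = d * c}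
      mul_mem' := by
        rintro _ _ ⟨d, hd, c, hc, rfl⟩ ⟨d', hd', c', hc', rfl⟩
        refine ⟨d * d', D.mul_mem hd hd', (d'⁻¹ * c * d') * c', C.mul_mem ?_ hc', by group⟩
        have := (Subgroup.mem_normalizer_iff.1 (h (D.inv_mem hd')) c).1 hc
        rwa [inv_inv] at this
      one_mem' := ⟨1, D.one_mem, 1, C.one_mem, (mul_one 1).symm⟩
      inv_mem' := by
        rintro _ ⟨d, hd, c, hc, rfl⟩
        refine ⟨d⁻¹, D.inv_mem hd, d * c⁻¹ * d⁻¹, ?_, by group⟩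
        exact (Subgroup.mem_normalizer_iff.1 (h hd) _).1 (C.inv_mem hc) }
  have h1 : D ⊔ C ≤ S := sup_le (fun d hd => ⟨d, hd, 1, C.one_mem, (mul_one d).symm⟩)
    (fun c hc => ⟨1, D.one_mem, c, hc, (one_mul c).symm⟩)
  exact h1 hz

/-- the extension lemma -/
theorem receptive_aux {H P Q N Q₀ : Subgroup G} {B e f f₀ u : MonoidAlgebra k G}
    (hB : IsBlk H B) (hmx : IsMx p H B P e) (hle : LEp p H (Q, f) (P, e))
    (hD : IsDef p (TS H Q f) f (P ⊓ Subgroup.normalizer (Q : Set G))) {g : G} (hg : g ∈ H)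
    (hQ₀ : cS g Q₀ = Q) (hf₀ : cj g f₀ = f) (hle₀ : LEp p H (Q₀, f₀) (P, e)) (hQN : Q₀ ≤ N)
    (hNP : N ≤ P) (hNN : N ≤ Subgroup.normalizer (Q₀ : Set G))
    (hNK : cS g N ≤ (P ⊓ Subgroup.normalizer (Q : Set G)) ⊔ CH H Q)
    (hu : LEp p H (N, u) (P, e)) :
    ∃ c ∈ CH H Q, LEp p H (cS (c * g) N, cj (c * g) u) (P, e) := by
  have hPe := hmx.1.1
  have hbpQ : BP p H Q f := hle.bp_left hPe
  have hCT := CH_le_TS hbpQ
  have hKT : (P ⊓ Subgroup.normalizer (Q : Set G)) ⊔ CH H Q ≤ TS H Q f := sup_le hD.le hCT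
  have hKH : (P ⊓ Subgroup.normalizer (Q : Set G)) ⊔ CH H Q ≤ H := hKT.trans TS_le
  have hCK : CH H Q ≤ (P ⊓ Subgroup.normalizer (Q : Set G)) ⊔ CH H Q := le_sup_right
  have hQD : Q ≤ P ⊓ Subgroup.normalizer (Q : Set G) := le_inf hle.le Subgroup.le_normalizer
  obtain ⟨w, hw, hwP⟩ := hle.mid hPe hQD inf_le_left inf_le_right
  have hbK : IsBlk ((P ⊓ Subgroup.normalizer (Q : Set G)) ⊔ CH H Q) f :=
    isBlk_of_stab hbpQ (hQD.trans le_sup_left) hCK hKT
  have hDK := isDef_between hD hKT hbK le_sup_left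
  have hofD := of_sub hKH hCK hw le_sup_left
  have hmxK := isMx_of_isDef hbK hDK hofD
  obtain ⟨u', hu1, hu2⟩ := hle₀.mid hPe hQN hNP hNN
  have huu : u' = u := LEp.unique hPe hu2 hu
  subst huu
  have hng := hu1.cj' hg
  rw [hQ₀, hf₀] at hng
  have hofN := of_sub hKH hCK hng hNK
  obtain ⟨z, hz, h1⟩ := hmxK.ge hbK hofN
  have hDC : P ⊓ Subgroup.normalizer (Q : Set G) ≤
      Subgroup.normalizer ((CH H Q : Subgroup G) : Set G) :=
    (le_inf (inf_le_left.trans hPe.le) inf_le_right).trans NH_normalizes_CH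
  obtain ⟨d, hd, c, hc, rfl⟩ := mem_sup_of_normalizer hDC hz
  refine ⟨c, hc, ?_⟩
  have hdK : d⁻¹ ∈ (P ⊓ Subgroup.normalizer (Q : Set G)) ⊔ CH H Q :=
    (le_sup_left : P ⊓ Subgroup.normalizer (Q : Set G) ≤ _) (Subgroup.inv_mem _ hd)
  have h2 := h1.cj' hdK
  have e1 : cS d⁻¹ (cS (d * c) (cS g N)) = cS (c * g) N := by
    rw [cS_cS, cS_cS]; congr 2; group
  have e2 : cj d⁻¹ (cj (d * c) (cj g u')) = cj (c * g) u' := by
    rw [cj_cj, cj_cj]; congr 1; group
  have e3 : cS d⁻¹ (P ⊓ Subgroup.normalizer (Q : Set G)) = P ⊓ Subgroup.normalizer (Q : Set G) :=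
    cS_of_mem (Subgroup.inv_mem _ hd)
  have e4 : cj d⁻¹ w = w := (le_TS hw.bpP (Subgroup.inv_mem _ hd)).2.2
  dsimp only at h2
  rw [e1, e2, e3, e4] at h2
  have hQc : Q ≤ cS (c * g) N := by
    rw [← cS_cS]
    have h3 : cS c Q = Q := cS_of_normalizer (centralizer_le_normalizer Q hc.2)
    rw [← h3]
    apply cS_mono
    rw [← hQ₀]
    exact cS_mono hQN
  exact (lep_sub hKH hCK h2 hQc).trans hwP

/-! ### the fusion system of Brauer pairs -/

/-- `g` carries the subpair on `Q` to a subpair -/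
def Tn (p : ℕ) (H P : Subgroup G) (e : MonoidAlgebra k G) (g : G) (Q : Subgroup G) : Prop :=
  ∃ x, LEp p H (Q, x) (P, e) ∧ LEp p H (cS g Q, cj g x) (P, e)

theorem Tn.mul {H P Q R : Subgroup G} {e : MonoidAlgebra k G} {g h : G} (hP : BP p H P e)
    (h1 : Tn p H P e g Q) (h2 : Tn p H P e h R) (hh : h ∈ H) (hQR : cS g Q ≤ R) :
    Tn p H P e (h * g) Q := by
  obtain ⟨x, hx, hx'⟩ := h1
  obtain ⟨y, hy, hy'⟩ := h2
  refine ⟨x, hx, ?_⟩
  obtain ⟨u, hu⟩ := exists_le_pair (hy.bp_left hP) hQR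
  have h3 : u = cj g x := LEp.unique hP (hu.trans hy) hx'
  subst h3
  have h4 := hu.cj' hh
  rw [← cS_cS, ← cj_cj]
  exact h4.trans hy'

theorem Tn.le {H P Q : Subgroup G} {e : MonoidAlgebra k G} {g : G} (h : Tn p H P e g Q) :
    cS g Q ≤ P := by
  obtain ⟨x, _, h2⟩ := h
  exact h2.le

theorem Tn.inv {H P Q : Subgroup G} {e : MonoidAlgebra k G} {g : G} (h : Tn p H P e g Q) :
    Tn p H P e g⁻¹ (cS g Q) := by
  obtain ⟨x, hx, hx'⟩ := h
  refine ⟨cj g x, hx', ?_⟩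
  rw [cS_inv_cS, cj_inv_cj]
  exact hx

theorem Tn.of_mem {H P Q : Subgroup G} {e : MonoidAlgebra k G} {g : G} (hP : BP p H P e)
    (hQ : Q ≤ P) (hg : g ∈ P) : Tn p H P e g Q := by
  obtain ⟨x, hx⟩ := exists_le_pair hP hQ
  refine ⟨x, hx, ?_⟩
  have h1 := hx.cj' (hP.le hg)
  dsimp only at h1
  rw [cS_of_mem hg, (le_TS hP hg).2.2] at h1
  exact h1

/-- the fusion system -/
def fusBP {H P : Subgroup G} {e : MonoidAlgebra k G} (hP : BP p H P e) : FusionSystem P where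
  Hom Q := {φ | Q ≤ P ∧ ∃ g ∈ H, (∀ u : Q, φ u = g * (u : G) * g⁻¹) ∧ Tn p H P e g Q}
  le_of_mem := by
    rintro Q φ ⟨hQ, g, hg, hφ, hT⟩
    refine ⟨hQ, fun x => ?_⟩
    rw [hφ]
    exact hT.le ⟨x, x.2, rfl⟩
  injective_of_mem := by
    rintro Q φ ⟨-, g, -, hg, -⟩ a b hab
    have h : g * (a : G) * g⁻¹ = g * (b : G) * g⁻¹ := ((hg a).symm.trans hab).trans (hg b)
    exact Subtype.ext (mul_left_cancel (mul_right_cancel h))
  conj_mem := by
    intro Q g hQ hg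
    exact ⟨hQ, g, hP.le hg, fun u => rfl, Tn.of_mem hP hQ hg⟩
  comp_mem := by
    rintro Q R φ ψ ⟨hQ, g, hgH, hg, hTg⟩ ⟨hR, h, hhH, hh, hTh⟩ hval
    have hQR : cS g Q ≤ R := by
      rintro _ ⟨x, hx, rfl⟩
      have := hval ⟨x, hx⟩
      rw [hg] at this
      exact this
    refine ⟨hQ, h * g, H.mul_mem hhH hgH, fun u => ?_, hTg.mul hP hTh hhH hQR⟩
    show ψ (φ.codRestrict R hval u) = h * g * (u : G) * (h * g)⁻¹
    rw [hh]
    show h * φ u * h⁻¹ = _
    rw [hg, mul_inv_rev]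
    simp only [mul_assoc]
  inv_mem := by
    rintro Q φ ⟨hQ, g, hgH, hg, hT⟩
    have hr : φ.range = cS g Q := by
      ext y
      constructor
      · rintro ⟨x, rfl⟩
        rw [hg]
        exact ⟨x, x.2, rfl⟩
      · rintro ⟨x, hx, rfl⟩
        exact ⟨⟨x, hx⟩, hg ⟨x, hx⟩⟩
    refine ⟨conjHom φ.range g⁻¹, ⟨?_, g⁻¹, H.inv_mem hgH, fun y => rfl, ?_⟩, ?_⟩
    · rw [hr]; exact hT.le
    · rw [hr]; exact hT.inv
    · intro x
      show g⁻¹ * φ x * g⁻¹⁻¹ = x
      rw [hg, inv_inv]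
      simp only [mul_assoc, inv_mul_cancel, mul_one, inv_mul_cancel_left]

theorem fusBP_hom {H P : Subgroup G} {e : MonoidAlgebra k G} (hP : BP p H P e) (Q : Subgroup G)
    (φ : Q →* G) : φ ∈ (fusBP hP).Hom Q ↔
      Q ≤ P ∧ ∃ g ∈ H, (∀ u : Q, φ u = g * (u : G) * g⁻¹) ∧ Tn p H P e g Q := Iff.rfl

theorem range_of_conj {Q : Subgroup G} {φ : Q →* G} {g : G}
    (hφ : ∀ u : Q, φ u = g * (u : G) * g⁻¹) : φ.range = cS g Q := by
  ext y
  constructor
  · rintro ⟨x, rfl⟩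
    rw [hφ]
    exact ⟨x, x.2, rfl⟩
  · rintro ⟨x, hx, rfl⟩
    exact ⟨⟨x, hx⟩, hφ ⟨x, hx⟩⟩

theorem fusBP_isConj {H P Q R : Subgroup G} {e f : MonoidAlgebra k G} (hP : BP p H P e)
    (hle : LEp p H (Q, f) (P, e)) : (fusBP hP).IsConj Q R ↔
      ∃ g ∈ H, R = cS g Q ∧ LEp p H (cS g Q, cj g f) (P, e) := by
  constructor
  · rintro ⟨φ, ⟨hQ, g, hg, hφ, x, hx, hx'⟩, rfl⟩
    have : x = f := LEp.unique hP hx hle
    subst this
    exact ⟨g, hg, range_of_conj hφ, hx'⟩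
  · rintro ⟨g, hg, rfl, h⟩
    exact ⟨conjHom Q g, ⟨hle.le, g, hg, fun u => rfl, f, hle, h⟩, range_of_conj fun u => rfl⟩

theorem fusBP_receptive {H P Q : Subgroup G} {B e f : MonoidAlgebra k G} (hB : IsBlk H B)
    (hmx : IsMx p H B P e) (hle : LEp p H (Q, f) (P, e))
    (hD : IsDef p (TS H Q f) f (P ⊓ Subgroup.normalizer (Q : Set G))) :
    (fusBP hmx.1.1).IsReceptive Q := by
  have hPe := hmx.1.1
  refine ⟨hle.le, ?_⟩
  rintro P₁ φ ⟨hP₁, g, hg, hφ, x₁, hx₁, hx₁'⟩ hr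
  have hgQ : cS g P₁ = Q := by rw [← range_of_conj hφ, hr]
  have hfx : cj g x₁ = f := by
    have h1 := hx₁'
    rw [hgQ] at h1
    exact LEp.unique hPe h1 hle
  set N := FusionSystem.extender P P₁ φ with hN
  have hNP : N ≤ P := by
    rw [hN]; unfold FusionSystem.extender
    rw [Subgroup.closure_le]
    rintro n ⟨h1, _⟩
    exact h1
  have hNN : N ≤ Subgroup.normalizer (P₁ : Set G) := by
    rw [hN]; unfold FusionSystem.extender
    rw [Subgroup.closure_le]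
    rintro n ⟨_, h1, _⟩
    exact h1
  have hP₁N : P₁ ≤ N := by
    intro y hy
    rw [hN]; unfold FusionSystem.extender
    refine Subgroup.subset_closure ⟨hP₁ hy, Subgroup.le_normalizer hy, φ ⟨y, hy⟩, ?_, ?_⟩
    · have h1 : φ ⟨y, hy⟩ ∈ cS g P₁ := by
        rw [← range_of_conj hφ]; exact ⟨_, rfl⟩
      rw [hgQ] at h1
      exact hle.le h1
    · intro z hz
      have : (⟨y * (z : G) * y⁻¹, hz⟩ : P₁) = ⟨y, hy⟩ * z * (⟨y, hy⟩)⁻¹ := rfl
      rw [this, map_mul, map_mul, map_inv]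
  have hNK : cS g N ≤ (P ⊓ Subgroup.normalizer (Q : Set G)) ⊔ CH H Q := by
    have h1 : N ≤ cS g⁻¹ ((P ⊓ Subgroup.normalizer (Q : Set G)) ⊔ CH H Q) := by
      rw [hN]; unfold FusionSystem.extender
      rw [Subgroup.closure_le]
      rintro n ⟨hnP, hnN, h, hh, hconj⟩
      show n ∈ cS g⁻¹ ((P ⊓ Subgroup.normalizer (Q : Set G)) ⊔ CH H Q)
      rw [mem_cS, inv_inv]
      -- `g n g⁻¹ = h c`
      have hn1 : g * n * g⁻¹ ∈ Subgroup.normalizer (Q : Set G) := by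
        have h2 : g * n * g⁻¹ ∈ cS g (Subgroup.normalizer (P₁ : Set G)) := by
          rw [mem_cS]
          have : g⁻¹ * (g * n * g⁻¹) * g = n := by group
          rw [this]; exact hnN
        rw [← normalizer_cS, hgQ] at h2
        exact h2
      have hcC : h⁻¹ * (g * n * g⁻¹) ∈ Subgroup.centralizer (Q : Set G) := by
        rw [Subgroup.mem_centralizer_iff]
        intro y hy
        have hy' : y ∈ cS g P₁ := by rw [hgQ]; exact hy
        rw [mem_cS] at hy'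
        have hny : n * (g⁻¹ * y * g) * n⁻¹ ∈ P₁ := (Subgroup.mem_normalizer_iff.1 hnN _).1 hy'
        have h3 := hconj ⟨g⁻¹ * y * g, hy'⟩ hny
        rw [hφ, hφ] at h3
        have h4 : g * (n * (g⁻¹ * y * g) * n⁻¹) * g⁻¹ = h * (g * (g⁻¹ * y * g) * g⁻¹) * h⁻¹ := h3
        have h5 : h * (g * (g⁻¹ * y * g) * g⁻¹) * h⁻¹ = h * y * h⁻¹ := by group
        rw [h5] at h4
        calc y * (h⁻¹ * (g * n * g⁻¹)) = h⁻¹ * (h * y * h⁻¹) * (g * n * g⁻¹) := by group
          _ = h⁻¹ * (g * (n * (g⁻¹ * y * g) * n⁻¹) * g⁻¹) * (g * n * g⁻¹) := by rw [h4]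
          _ = (h⁻¹ * (g * n * g⁻¹)) * y := by group
      have hcH : h⁻¹ * (g * n * g⁻¹) ∈ H :=
        H.mul_mem (H.inv_mem (hPe.le hh)) (H.mul_mem (H.mul_mem hg (hPe.le hnP)) (H.inv_mem hg))
      have hhN : h ∈ Subgroup.normalizer (Q : Set G) := by
        have h6 := Subgroup.mul_mem _ hn1
          (Subgroup.inv_mem _ (centralizer_le_normalizer Q hcC))
        have h7 : (g * n * g⁻¹) * (h⁻¹ * (g * n * g⁻¹))⁻¹ = h := by group
        rwa [h7] at h6
      have h8 : g * n * g⁻¹ = h * (h⁻¹ * (g * n * g⁻¹)) := by group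
      rw [h8]
      exact Subgroup.mul_mem_sup ⟨hh, hhN⟩ ⟨hcH, hcC⟩
    have h2 := cS_mono (x := g) h1
    rwa [cS_cS_inv] at h2
  obtain ⟨u, hu⟩ := exists_le_pair hPe hNP
  obtain ⟨c, hc, hcN⟩ := receptive_aux hB hmx hle hD hg hgQ hfx hx₁ hP₁N hNP hNN hNK hu
  refine ⟨conjHom N (c * g), ⟨hNP, c * g, H.mul_mem hc.1 hg, fun u => rfl, u, hu, hcN⟩, ?_⟩
  intro x hxP hxN
  rw [hφ]
  show (c * g) * x * (c * g)⁻¹ = g * x * g⁻¹
  have h1 : g * x * g⁻¹ ∈ Q := by
    rw [← hgQ, mem_cS]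
    have : g⁻¹ * (g * x * g⁻¹) * g = x := by group
    rw [this]; exact hxP
  have h2 := Subgroup.mem_centralizer_iff.1 hc.2 _ h1
  calc (c * g) * x * (c * g)⁻¹ = c * (g * x * g⁻¹) * c⁻¹ := by group
    _ = (g * x * g⁻¹) * c * c⁻¹ := by rw [h2]
    _ = g * x * g⁻¹ := by group

end Rel

section Idx

theorem relIndex_eq_of_factor {G : Type*} [Group G] {T A C : Subgroup G} (hA : A ≤ T)
    (hC : C ≤ T) (hN : T ≤ Subgroup.normalizer (C : Set G))
    (hf : ∀ x ∈ T, ∃ a ∈ A, ∃ c ∈ C, x = a * c) : C.relIndex T = C.relIndex A := by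
  haveI : (C.subgroupOf T).Normal := by
    refine ⟨fun c hc t => ?_⟩
    exact (Subgroup.mem_normalizer_iff.1 (hN t.2) _).1 hc
  have h1 : A.subgroupOf T ⊔ C.subgroupOf T = ⊤ := by
    rw [eq_top_iff]
    intro x _
    obtain ⟨a, ha, c, hc, hx⟩ := hf x x.2
    have h2 : x = (⟨a, hA ha⟩ : T) * ⟨c, hC hc⟩ := Subtype.ext hx
    rw [h2]
    exact Subgroup.mul_mem_sup ha hc
  have h2 := Subgroup.relIndex_sup_right (A.subgroupOf T) (C.subgroupOf T)
  rw [h1, Subgroup.relIndex_top_right, Subgroup.relIndex_subgroupOf hA] at h2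
  exact h2

end Idx

section Auto

variable {k : Type*} [Field k] [IsAlgClosed k] {G : Type*} [Group G] [Fintype G] {p : ℕ}
variable [hp : Fact p.Prime] [CharP k p]

/-- covering of `p`-subgroups of the stabilizer -/
theorem cover_stab {H Q D : Subgroup G} {f : MonoidAlgebra k G} (hQ : BP p H Q f)
    (hD : IsDef p (TS H Q f) f D) {R : Subgroup G} (hR : R ≤ TS H Q f) (hRp : IsPGroup p R) :
    ∃ t ∈ TS H Q f, R ≤ cS t D ⊔ CH H Q := by
  have hRN : R ≤ Subgroup.normalizer ((CH H Q : Subgroup G) : Set G) :=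
    (hR.trans TS_le_NH).trans NH_normalizes_CH
  have hfx : Fx R f := by
    rw [fx_iff]; intro x hx; exact (hR hx).2.2
  obtain ⟨S, hS, hSR, hRS, hbr⟩ := exists_cover_br hRp hRN hQ.blk hfx
  have hST : S ≤ TS H Q f := hSR.trans (sup_le hR (CH_le_TS hQ))
  obtain ⟨t, ht, h1⟩ := hD.ge hST hS hbr
  exact ⟨t, ht, hRS.trans (sup_le_sup_right h1 _)⟩

theorem fusBP_automized {H P Q : Subgroup G} {e f : MonoidAlgebra k G}
    (hPe : BP p H P e) (hle : LEp p H (Q, f) (P, e))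
    (hD : IsDef p (TS H Q f) f (P ⊓ Subgroup.normalizer (Q : Set G))) :
    (fusBP hPe).IsFullyAutomized p Q := by
  classical
  have hQ : BP p H Q f := hle.bp_left hPe
  refine ⟨hle.le, ?_⟩
  set T := TS H Q f with hT
  have hTN : T ≤ Subgroup.normalizer (Q : Set G) := TS_le_normalizer
  set D := P ⊓ Subgroup.normalizer (Q : Set G) with hDdef
  let κ : T →* MulAut Q := Q.normalizerMonoidHom.comp (Subgroup.inclusion hTN)
  have hκ : ∀ (t : T) (x : Q), ((κ t x : Q) : G) = (t : G) * x * (t : G)⁻¹ := fun t x => rfl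
  have hA : (fusBP hPe).autGroup Q = κ.range := by
    have hset : {α : MulAut Q | Q.subtype.comp α.toMonoidHom ∈ (fusBP hPe).Hom Q} =
        (κ.range : Set (MulAut Q)) := by
      ext α
      constructor
      · rintro ⟨_, g, hg, hα, x, hx, hx'⟩
        have hgQ : cS g Q = Q := by
          ext y
          constructor
          · rintro ⟨u, hu, rfl⟩
            have h1 : ((α ⟨u, hu⟩ : Q) : G) = g * u * g⁻¹ := hα ⟨u, hu⟩
            have h2 : (MulAut.conj g).toMonoidHom u = g * u * g⁻¹ := by simp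
            rw [h2, ← h1]
            exact (α ⟨u, hu⟩).2
          · intro hy
            obtain ⟨u, hu⟩ := α.surjective ⟨y, hy⟩
            have h1 : ((α u : Q) : G) = g * (u : G) * g⁻¹ := hα u
            rw [hu] at h1
            refine ⟨u, u.2, ?_⟩
            have h2 : (MulAut.conj g).toMonoidHom (u : G) = g * (u : G) * g⁻¹ := by simp
            rw [h2, ← h1]
        rw [hgQ] at hx'
        have h3 : x = f := LEp.unique hPe hx hle
        subst h3
        have h4 : cj g x = x := LEp.unique hPe hx' hle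
        refine ⟨⟨g, hg, mem_normalizer_of_cS hgQ, h4⟩, ?_⟩
        ext u
        rw [hκ]
        exact (hα u).symm
      · rintro ⟨t, rfl⟩
        refine ⟨hle.le, (t : G), t.2.1, fun u => hκ t u, f, hle, ?_⟩
        rw [cS_of_normalizer (hTN t.2), t.2.2.2]
        exact hle
    show Subgroup.closure {α : MulAut Q | Q.subtype.comp α.toMonoidHom ∈ (fusBP hPe).Hom Q} = _
    rw [hset, Subgroup.closure_eq]
  have hI : autInducedBy P Q = (D.subgroupOf T).map κ := by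
    have hset : {α : MulAut Q | ∃ g ∈ P, ∀ x : Q, ((α x : Q) : G) = g * (x : G) * g⁻¹} =
        (((D.subgroupOf T).map κ : Subgroup (MulAut Q)) : Set (MulAut Q)) := by
      ext α
      constructor
      · rintro ⟨g, hg, hα⟩
        have hgQ : g ∈ Subgroup.normalizer (Q : Set G) := by
          apply mem_normalizer_of_cS
          ext y
          constructor
          · rintro ⟨u, hu, rfl⟩
            have h1 : ((α ⟨u, hu⟩ : Q) : G) = g * u * g⁻¹ := hα ⟨u, hu⟩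
            have h2 : (MulAut.conj g).toMonoidHom u = g * u * g⁻¹ := by simp
            rw [h2, ← h1]
            exact (α ⟨u, hu⟩).2
          · intro hy
            obtain ⟨u, hu⟩ := α.surjective ⟨y, hy⟩
            have h1 : ((α u : Q) : G) = g * (u : G) * g⁻¹ := hα u
            rw [hu] at h1
            refine ⟨u, u.2, ?_⟩
            have h2 : (MulAut.conj g).toMonoidHom (u : G) = g * (u : G) * g⁻¹ := by simp
            rw [h2, ← h1]
        have hgT : g ∈ T := hD.le ⟨hg, hgQ⟩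
        refine ⟨⟨g, hgT⟩, ⟨hg, hgQ⟩, ?_⟩
        ext u
        rw [hκ]
        exact (hα u).symm
      · rintro ⟨t, ht, rfl⟩
        exact ⟨(t : G), ht.1, fun x => hκ t x⟩
    show Subgroup.closure {α : MulAut Q | ∃ g ∈ P, ∀ x : Q, ((α x : Q) : G) = g * (x : G) * g⁻¹} = _
    rw [hset, Subgroup.closure_eq]
  rw [hA, hI]
  -- a Sylow subgroup of `T`
  let S0 : Sylow p T := default
  obtain ⟨t, ht, hcov⟩ := cover_stab hQ hD (R := (S0 : Subgroup T).map T.subtype)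
    (by rintro _ ⟨y, _, rfl⟩; exact y.2) (S0.isPGroup'.map _)
  let tT : T := ⟨t, ht⟩
  let S1 : Sylow p T := tT⁻¹ • S0
  let S2 : Sylow p κ.range := S1.mapSurjective (f := κ.rangeRestrict) κ.rangeRestrict_surjective
  have hDC : cS t D ≤ Subgroup.normalizer ((CH H Q : Subgroup G) : Set G) := by
    have h1 : cS t D ≤ T := (cS_mono hD.le).trans (cS_of_mem ht).le
    exact (h1.trans TS_le_NH).trans NH_normalizes_CH
  have hle2 : (S2 : Subgroup κ.range) ≤ ((D.subgroupOf T).map κ).subgroupOf κ.range := by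
    rw [Sylow.coe_mapSurjective]
    rintro _ ⟨s', hs', rfl⟩
    show κ s' ∈ (D.subgroupOf T).map κ
    have hs1 : tT * s' * tT⁻¹ ∈ (S0 : Subgroup T) := by
      have h1 : s' ∈ ((tT⁻¹ • S0 : Sylow p T) : Subgroup T) := hs'
      rw [Sylow.coe_subgroup_smul, Subgroup.mem_pointwise_smul_iff_inv_smul_mem] at h1
      have h2 : (MulAut.conj tT⁻¹)⁻¹ • s' = tT * s' * tT⁻¹ := by
        rw [← map_inv, inv_inv]; rfl
      rwa [h2] at h1
    have h2 : t * (s' : G) * t⁻¹ ∈ cS t D ⊔ CH H Q := hcov ⟨_, hs1, rfl⟩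
    obtain ⟨d, hd, c, hc, hdc⟩ := mem_sup_of_normalizer hDC h2
    rw [mem_cS] at hd
    -- s' = (t⁻¹ d t) (t⁻¹ c t)
    have h3 : (s' : G) = (t⁻¹ * d * t) * (t⁻¹ * c * t) := by
      calc (s' : G) = t⁻¹ * (t * (s' : G) * t⁻¹) * t := by group
        _ = t⁻¹ * (d * c) * t := by rw [hdc]
        _ = _ := by group
    have hc' : t⁻¹ * c * t ∈ CH H Q := by
      have h4 := (Subgroup.mem_normalizer_iff.1
        ((TS_le_NH.trans NH_normalizes_CH) (T.inv_mem ht)) c).1 hc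
      rwa [inv_inv] at h4
    have hdT : t⁻¹ * d * t ∈ T := hD.le hd
    refine ⟨⟨t⁻¹ * d * t, hdT⟩, hd, ?_⟩
    ext u
    rw [hκ, hκ, h3]
    show (t⁻¹ * d * t) * (u : G) * (t⁻¹ * d * t)⁻¹ = _
    have h5 := Subgroup.mem_centralizer_iff.1 hc'.2 (u : G) u.2
    calc (t⁻¹ * d * t) * (u : G) * (t⁻¹ * d * t)⁻¹ =
        (t⁻¹ * d * t) * ((u : G) * (t⁻¹ * c * t)) * (t⁻¹ * c * t)⁻¹ * (t⁻¹ * d * t)⁻¹ := by group
      _ = (t⁻¹ * d * t) * ((t⁻¹ * c * t) * (u : G)) * (t⁻¹ * c * t)⁻¹ * (t⁻¹ * d * t)⁻¹ := by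
        rw [h5]
      _ = _ := by group
  have hIp : IsPGroup p (((D.subgroupOf T).map κ).subgroupOf κ.range) := by
    have h1 : IsPGroup p (D.subgroupOf T) := hD.pg.comap_subtype
    exact (h1.map κ).comap_subtype
  exact ⟨S2, (S2.is_maximal' hIp hle2).symm⟩

theorem fusBP_saturated {H P : Subgroup G} {B e : MonoidAlgebra k G} (hB : IsBlk H B)
    (hmx : IsMx p H B P e) : (fusBP hmx.1.1).IsSaturated p := by
  intro Q₀ hQ₀
  obtain ⟨f₀, hf₀⟩ := exists_le_pair hmx.1.1 hQ₀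
  have hof := hmx.1.of_le hB hf₀
  obtain ⟨D, hD⟩ := exists_isDef (p := p) (isBlk_TS hof.1)
  obtain ⟨x, hx, h1, _, h3⟩ := exists_norm hB hmx hof hD
  refine ⟨cS x Q₀, (fusBP_isConj hmx.1.1 hf₀).2 ⟨x, hx, rfl, h1⟩,
    fusBP_automized hmx.1.1 h1 h3, fusBP_receptive hB hmx h1 h3⟩

end Auto

section Glob

variable {M : Ideal AlgInt} [hP : M.IsPrime] {p : ℕ} [hp : Fact p.Prime]
variable {G : Type*} [Group G] [Fintype G]

omit [Fintype G] in
theorem subpair_left {Q P : Subgroup G}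
    {f : Set (IrrCharacter (Subgroup.centralizer (Q : Set G)))}
    {e : Set (IrrCharacter (Subgroup.centralizer (P : Set G)))} (he : IsPBlock M e)
    (h : SubpairLE p M Q f P e) : IsPBlock M f := by
  have key : ∀ a b : BrauerPairIdx G, Relation.ReflTransGen (NormalSubpairRel p M) a b →
      IsPBlock M b.2 → IsPBlock M a.2 := by
    intro a b hab hb
    rcases Relation.ReflTransGen.cases_head hab with h | ⟨c, h, _⟩
    · rw [h]; exact hb
    · exact h.1.2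
  exact key _ _ h he

theorem g_Tn (hM : IsPModular p M) {P Q : Subgroup G}
    {e : Set (IrrCharacter (Subgroup.centralizer (P : Set G)))} (he : IsPBlock M e)
    (hPe : BP p ⊤ P (J M P e)) {g : G} :
    (∃ f : Set (IrrCharacter (Subgroup.centralizer (Q : Set G))),
      SubpairLE p M Q f P e ∧
        SubpairLE p M (Q.map (MulAut.conj g).toMonoidHom) (conjBlock Q g f) P e) ↔
      Tn p ⊤ P (J M P e) g Q := by
  constructor
  · rintro ⟨f, h1, h2⟩
    refine ⟨J M Q f, g_le' hM h1, ?_⟩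
    rw [← g_conj]
    exact g_le' hM h2
  · rintro ⟨x, h1, h2⟩
    obtain ⟨f, hf, hfx⟩ := g_surj (P := Q) (h1.bp_left hPe).blk
    subst hfx
    refine ⟨f, (g_le hM hf he).2 h1, (g_le hM (isPBlock_conjBlock Q g hf) he).2 ?_⟩
    rw [g_conj]
    exact h2

variable [hch : CharP (kM M) p]

/-- the maps of the block fusion system -/
theorem g_hom (hM : IsPModular p M) {B : Set (IrrCharacter G)} {P : Subgroup G}
    {e : Set (IrrCharacter (Subgroup.centralizer (P : Set G)))} (he : IsPBlock M e)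
    (hPe : BP p ⊤ P (J M P e)) {F : FusionSystem P} (hF : IsBlockFusionSystemOn p M B P e F)
    (Q : Subgroup G) : F.Hom Q = (fusBP hPe).Hom Q := by
  ext φ
  rw [hF.2, fusBP_hom]
  refine and_congr_right fun _ => ?_
  constructor
  · rintro ⟨g, h1, _, h3⟩
    exact ⟨g, Subgroup.mem_top g, h1, (g_Tn hM he hPe).1 h3⟩
  · rintro ⟨g, _, h1, h2⟩
    exact ⟨g, h1, h2.le, (g_Tn hM he hPe).2 h2⟩

theorem g_fusion (hM : IsPModular p M) {B : Set (IrrCharacter G)} {P : Subgroup G}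
    {e : Set (IrrCharacter (Subgroup.centralizer (P : Set G)))} (he : IsPBlock M e)
    (hPe : BP p ⊤ P (J M P e)) (hmx : IsMaximalBrauerPair p M B P e) :
    IsBlockFusionSystemOn p M B P e (fusBP hPe) := by
  refine ⟨hmx, fun Q φ => ?_⟩
  rw [fusBP_hom]
  refine and_congr_right fun _ => ?_
  constructor
  · rintro ⟨g, _, h1, h2⟩
    exact ⟨g, h1, h2.le, (g_Tn hM he hPe).2 h2⟩
  · rintro ⟨g, h1, _, h3⟩
    exact ⟨g, Subgroup.mem_top g, h1, (g_Tn hM he hPe).1 h3⟩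

theorem g_isConj (hM : IsPModular p M) {B : Set (IrrCharacter G)} {P : Subgroup G}
    {e : Set (IrrCharacter (Subgroup.centralizer (P : Set G)))} (he : IsPBlock M e)
    (hPe : BP p ⊤ P (J M P e)) {F : FusionSystem P} (hF : IsBlockFusionSystemOn p M B P e F)
    {Q R : Subgroup G} {x : MonoidAlgebra (kM M) G} (hle : LEp p ⊤ (Q, x) (P, J M P e)) :
    F.IsConj Q R ↔
      ∃ g : G, R = cS g Q ∧ LEp p ⊤ (cS g Q, cj g x) (P, J M P e) := by
  have h1 : F.IsConj Q R ↔ (fusBP hPe).IsConj Q R := by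
    unfold FusionSystem.IsConj
    rw [g_hom hM he hPe hF]
  rw [h1, fusBP_isConj hPe hle]
  constructor
  · rintro ⟨g, _, h⟩; exact ⟨g, h⟩
  · rintro ⟨g, h⟩; exact ⟨g, Subgroup.mem_top g, h⟩

end Glob

end CfsgLib.BrP
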