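import Mathlib
import Cfsg.Agent.EqBase
import Cfsg.Agent.LibBrP14

/-!
# Brauer pairs, XV: the Brauer correspondence (helper18)
-/

set_option autoImplicit false
set_option linter.unusedSectionVars false
set_option linter.style.haveILetI false
set_option linter.unusedSimpArgs false
set_option linter.unusedVariables false

namespace CfsgLib.BrP

open Cfsg CfsgLib.LocR CfsgLib.BlockCore CfsgLib.BlockIdem
open CfsgLib.BlockFMT (SylIn)
open CfsgLib.BlockOrth (ext0 ext0_coe ext0_mem ext0_not subgroupBlockCoeff_eq conv_ext0)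

section Corr

variable {k : Type*} [Field k] {G : Type*} [Group G] [Fintype G] {p : ℕ}
variable [hp : Fact p.Prime] [CharP k p]

theorem br_zh_NH {H P : Subgroup G} {B : MonoidAlgebra k G} (hB : ZH H B) :
    ZH (NH H P) (Br P B) := ⟨supp_mono
      (inf_le_inf_left H (centralizer_le_normalizer P)) (supp_br P hB.1),
      fx_br inf_le_right (fx_mono inf_le_left hB.2)⟩

theorem br_idem {H P : Subgroup G} {B : MonoidAlgebra k G} (hPH : P ≤ H) (hP : IsPGroup p P)
    (hB : ZH H B) (hBB : B * B = B) : Br P B * Br P B = Br P B := by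
  have hfxB : Fx P B := fx_mono hPH hB.2
  rw [← br_mul hP hfxB hfxB, hBB]

/-- an idempotent of `Z(kH)` lying above exactly one block is that block -/
theorem eq_of_unique {H : Subgroup G} {z b : MonoidAlgebra k G} (hz : ZH H z) (hzz : z * z = z)
    (hb : IsBlk H b) (hzb : z * b = b) (hu : ∀ b', IsBlk H b' → z * b' = b' → b' = b) : z = b := by
  classical
  obtain ⟨s, hs, hsum⟩ := exists_blocks (k := k) H
  calc z = z * ∑ e ∈ s, e := by rw [hsum, mul_one]
    _ = ∑ e ∈ s, z * e := Finset.mul_sum _ _ _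
    _ = z * b := by
      refine Finset.sum_eq_single b ?_ ?_
      · intro e he hne
        rcases (hs e he).prim z hz hzz with h | h
        · exact absurd (hu e (hs e he) h) hne
        · exact h
      · intro h
        exact absurd (IsBlk.mem_of_sum_one hs hsum hb) h
    _ = b := hzb

/-- `Br_P(B)` is a block of `N_H(P)` when `P` is a defect group of `B` -/
theorem corr_blk {H P : Subgroup G} {B : MonoidAlgebra k G} (hB : IsBlk H B)
    (hD : IsDef p H B P) : IsBlk (NH H P) (Br P B) ∧ IsDef p (NH H P) (Br P B) P := by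
  obtain ⟨e, he⟩ := exists_of_br_ne hB hD.le hD.pg hD.br
  obtain ⟨_, b, hb, hbD, hBb, _⟩ := (isMx_of_isDef hB hD he).data hB
  have hu := (fmt hD.le hb hbD hB hBb).2
  have h1 : Br P B = b := eq_of_unique (br_zh_NH hB.zh) (br_idem hD.le hD.pg hB.zh hB.idem) hb hBb hu
  rw [h1]
  exact ⟨hb, hbD⟩

theorem exists_corr {H P : Subgroup G} {b : MonoidAlgebra k G} (hPH : P ≤ H)
    (hb : IsBlk (NH H P) b) (hD : IsDef p (NH H P) b P) :
    ∃ B, IsBlk H B ∧ IsDef p H B P ∧ Br P B = b := by
  classical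
  obtain ⟨s, hs, hsum⟩ := exists_blocks (k := k) H
  have h1 : b = ∑ B ∈ s, Br P B * b := by
    rw [← Finset.sum_mul, ← br_sum, hsum, br_one, one_mul]
  obtain ⟨B, hBs, hne⟩ : ∃ B ∈ s, Br P B * b ≠ 0 := by
    by_contra hcon
    push Not at hcon
    exact hb.ne (by rw [h1]; exact Finset.sum_eq_zero hcon)
  have hB := hs B hBs
  have hBb : Br P B * b = b :=
    (hb.prim _ (br_zh_NH hB.zh) (br_idem hPH hD.pg hB.zh hB.idem)).resolve_right hne
  obtain ⟨h2, h3⟩ := fmt hPH hb hD hB hBb
  exact ⟨B, hB, h2, eq_of_unique (br_zh_NH hB.zh) (br_idem hPH hD.pg hB.zh hB.idem) hb hBb h3⟩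

theorem corr_inj {H P : Subgroup G} {B B' : MonoidAlgebra k G} (hPH : P ≤ H) (hP : IsPGroup p P)
    (hB : IsBlk H B) (hB' : IsBlk H B') (h : Br P B = Br P B') (hne : Br P B ≠ 0) : B = B' := by
  refine hB.eq_of_mul_ne hB' ?_
  intro h0
  have hfx : Fx P B := fx_mono hPH hB.zh.2
  have hfx' : Fx P B' := fx_mono hPH hB'.zh.2
  have h1 : Br P B * Br P B' = 0 := by rw [← br_mul hP hfx hfx', h0, br_zero]
  rw [← h, br_idem hPH hP hB.zh hB.idem] at h1
  exact hne h1

/-- Brauer correspondence over `H ≤ L`, `N_L(P) ≤ H` -/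
theorem corr_down {L H P : Subgroup G} {B : MonoidAlgebra k G} (hHL : H ≤ L)
    (hN : NH L P ≤ H) (hB : IsBlk L B) (hD : IsDef p L B P) :
    ∃ c, IsBlk H c ∧ IsDef p H c P ∧ Br P B = Br P c := by
  have hNN : NH H P = NH L P := le_antisymm (inf_le_inf_right _ hHL) (le_inf hN inf_le_right)
  obtain ⟨h1, h2⟩ := corr_blk hB hD
  have hPH : P ≤ H := h2.le.trans hN
  rw [← hNN] at h1 h2
  obtain ⟨c, hc, hcD, hcb⟩ := exists_corr hPH h1 h2
  exact ⟨c, hc, hcD, hcb.symm⟩

theorem corr_up {L H P : Subgroup G} {c : MonoidAlgebra k G} (hHL : H ≤ L)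
    (hN : NH L P ≤ H) (hc : IsBlk H c) (hD : IsDef p H c P) :
    ∃ B, IsBlk L B ∧ IsDef p L B P ∧ Br P B = Br P c := by
  have hNN : NH H P = NH L P := le_antisymm (inf_le_inf_right _ hHL) (le_inf hN inf_le_right)
  obtain ⟨h1, h2⟩ := corr_blk hc hD
  rw [hNN] at h1 h2
  obtain ⟨B, hB, hBD, hBb⟩ := exists_corr (hD.le.trans hHL) h1 h2
  exact ⟨B, hB, hBD, hBb⟩

end Corr

section Bridge

variable {M : Ideal AlgInt} [hP : M.IsPrime]
variable {G : Type*} [Group G] [Fintype G]

theorem br_eq_iff {H P : Subgroup G} {B : Set (IrrCharacter G)} {c : Set (IrrCharacter H)}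
    (hB : IsPBlock M B) (hc : IsPBlock M c) :
    (∀ x : G, x ∈ Subgroup.centralizer (P : Set G) →
      MemLocalIdeal M (blockCoeff B x - subgroupBlockCoeff H c x)) ↔
      Br P (JB M B) = Br P (bk M H.subtype c) := by
  have key : ∀ x, ((JB M B).coeff x = (bk M H.subtype c).coeff x) ↔
      MemLocalIdeal M (blockCoeff B x - subgroupBlockCoeff H c x) := by
    intro x
    have h1 : (JB M B).coeff x = rd M (blockCoeff B x) :=
      bk_coeff (M := M) (ι := MonoidHom.id G) id_inj B x
    rw [h1, sbc_bk, rd_eq_iff (blockCoeff_ring hP hB x) (sbc_ring hc x)]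
  constructor
  · intro h
    apply ext'
    intro x
    by_cases hx : x ∈ Subgroup.centralizer (P : Set G)
    · rw [br_coeff_of _ hx, br_coeff_of _ hx]; exact (key x).2 (h x hx)
    · rw [br_coeff_not _ hx, br_coeff_not _ hx]
  · intro h x hx
    rw [← key]
    have h1 : (Br P (JB M B)).coeff x = (Br P (bk M H.subtype c)).coeff x := by rw [h]
    rwa [br_coeff_of _ hx, br_coeff_of _ hx] at h1

end Bridge

end CfsgLib.BrP
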