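import Mathlib
import Cfsg.Agent.EqBase
import Cfsg.Agent.LibBrP15

/-!
# Brauer pairs, XVI: covering of blocks, the unit lemma (helper18)
-/

set_option autoImplicit false
set_option linter.unusedSectionVars false
set_option linter.style.haveILetI false
set_option linter.unusedSimpArgs false
set_option linter.unusedVariables false

namespace CfsgLib.BrP

section Restrict

variable {k : Type*} [Field k] {G : Type*} [Group G] [Fintype G]

open Classical in
/-- truncation to a subset -/
noncomputable def Rc (S : Set G) (a : MonoidAlgebra k G) : MonoidAlgebra k G :=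
  mk fun g => if g ∈ S then a.coeff g else 0

theorem rc_of {S : Set G} (a : MonoidAlgebra k G) {g : G} (h : g ∈ S) :
    (Rc S a).coeff g = a.coeff g := by unfold Rc; rw [mk_coeff, if_pos h]

theorem rc_not {S : Set G} (a : MonoidAlgebra k G) {g : G} (h : g ∉ S) :
    (Rc S a).coeff g = 0 := by unfold Rc; rw [mk_coeff, if_neg h]

theorem rc_add (S : Set G) (a b : MonoidAlgebra k G) : Rc S (a + b) = Rc S a + Rc S b := by
  apply ext'
  intro g
  by_cases h : g ∈ S
  · rw [add_coeff, rc_of _ h, rc_of _ h, rc_of _ h, add_coeff]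
  · rw [add_coeff, rc_not _ h, rc_not _ h, rc_not _ h, add_zero]

theorem rc_zero (S : Set G) : Rc S (0 : MonoidAlgebra k G) = 0 := by
  apply ext'
  intro g
  by_cases h : g ∈ S
  · rw [rc_of _ h]
  · rw [rc_not _ h, zero_coeff]

theorem rc_self {N : Subgroup G} {a : MonoidAlgebra k G} (h : Supp N a) :
    Rc (N : Set G) a = a := by
  apply ext'
  intro g
  by_cases hg : g ∈ (N : Set G)
  · rw [rc_of _ hg]
  · rw [rc_not _ hg, h g hg]

theorem supp_rc (N : Subgroup G) (a : MonoidAlgebra k G) : Supp N (Rc (N : Set G) a) :=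
  fun g hg => rc_not a hg

theorem supp_rc' {T : Subgroup G} {S : Set G} {a : MonoidAlgebra k G} (h : Supp T a) :
    Supp T (Rc S a) := by
  intro g hg
  by_cases h1 : g ∈ S
  · rw [rc_of _ h1, h g hg]
  · rw [rc_not _ h1]

theorem rc_mul_right {N : Subgroup G} (a : MonoidAlgebra k G) {u : MonoidAlgebra k G}
    (hu : Supp N u) : Rc (N : Set G) (a * u) = Rc (N : Set G) a * u := by
  apply ext'
  intro g
  by_cases hg : g ∈ (N : Set G)
  · rw [rc_of _ hg, mul_coeff, mul_coeff]
    refine Finset.sum_congr rfl fun x _ => ?_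
    by_cases hx : x ∈ (N : Set G)
    · rw [rc_of _ hx]
    · rw [rc_not _ hx, zero_mul, hu, mul_zero]
      intro h
      apply hx
      have := N.mul_mem hg (N.inv_mem h)
      have e1 : g * (x⁻¹ * g)⁻¹ = x := by group
      rwa [e1] at this
  · rw [rc_not _ hg]
    symm
    rw [mul_coeff]
    refine Finset.sum_eq_zero fun x _ => ?_
    by_cases hx : x ∈ (N : Set G)
    · rw [hu, mul_zero]
      intro h
      apply hg
      have := N.mul_mem hx h
      rwa [mul_inv_cancel_left] at this
    · rw [rc_not _ hx, zero_mul]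

theorem fx_rc {N : Subgroup G} {S : Set G} {a : MonoidAlgebra k G} (h : Fx N a)
    (hS : ∀ x ∈ N, ∀ g, x * g * x⁻¹ ∈ S ↔ g ∈ S) : Fx N (Rc S a) := by
  intro x hx g
  by_cases hg : g ∈ S
  · rw [rc_of _ hg, rc_of _ ((hS x hx g).2 hg), h x hx]
  · rw [rc_not _ hg, rc_not _ fun h' => hg ((hS x hx g).1 h')]

/-- elements of `(kT)^N` -/
def AA (T N : Subgroup G) (x : MonoidAlgebra k G) : Prop := Supp T x ∧ Fx N x

theorem aa_mul {T N : Subgroup G} {x y : MonoidAlgebra k G} (hx : AA T N x) (hy : AA T N y) :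
    AA T N (x * y) := ⟨supp_mul hx.1 hy.1, fx_mul hx.2 hy.2⟩

theorem aa_add {T N : Subgroup G} {x y : MonoidAlgebra k G} (hx : AA T N x) (hy : AA T N y) :
    AA T N (x + y) := ⟨supp_add hx.1 hy.1, fx_add hx.2 hy.2⟩

theorem aa_one {T N : Subgroup G} : AA T N (1 : MonoidAlgebra k G) := ⟨supp_one, fx_one⟩

theorem aa_pow {T N : Subgroup G} {x : MonoidAlgebra k G} (hx : AA T N x) (n : ℕ) :
    AA T N (x ^ n) := by
  induction n with
  | zero => rw [pow_zero]; exact aa_one
  | succ n ih => rw [pow_succ]; exact aa_mul ih hx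

theorem aa_sum {ι : Type*} {T N : Subgroup G} (s : Finset ι) (f : ι → MonoidAlgebra k G)
    (h : ∀ i ∈ s, AA T N (f i)) : AA T N (∑ i ∈ s, f i) :=
  ⟨supp_sum s f fun i hi => (h i hi).1, fx_sum s f fun i hi => (h i hi).2⟩

theorem zh_rc {T N : Subgroup G} {x : MonoidAlgebra k G} (hx : AA T N x) :
    ZH N (Rc (N : Set G) x) := by
  refine ⟨supp_rc N x, fx_rc hx.2 fun y hy g => ?_⟩
  constructor
  · intro h
    have := N.mul_mem (N.mul_mem (N.inv_mem hy) h) hy
    have e1 : y⁻¹ * (y * g * y⁻¹) * y = g := by group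
    rwa [e1] at this
  · intro h
    exact N.mul_mem (N.mul_mem hy h) (N.inv_mem hy)

/-- the ideal -/
def II (T N : Subgroup G) (c : MonoidAlgebra k G) (x : MonoidAlgebra k G) : Prop :=
  AA T N x ∧ ∀ w, AA T N w → IsNilpotent (Rc (N : Set G) (x * w))

theorem ii_add {T N : Subgroup G} {c x y : MonoidAlgebra k G} (hx : II T N c x)
    (hy : II T N c y) : II T N c (x + y) := by
  refine ⟨aa_add hx.1 hy.1, fun w hw => ?_⟩
  rw [add_mul, rc_add]
  exact (zh_commute (zh_rc (aa_mul hx.1 hw)) (zh_rc (aa_mul hy.1 hw))).isNilpotent_add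
    (hx.2 w hw) (hy.2 w hw)

theorem ii_mul {T N : Subgroup G} {c x y : MonoidAlgebra k G} (hx : II T N c x)
    (hy : AA T N y) : II T N c (x * y) := by
  refine ⟨aa_mul hx.1 hy, fun w hw => ?_⟩
  rw [mul_assoc]
  exact hx.2 _ (aa_mul hy hw)

/-- the double coset piece `a N b⁻¹` -/
def pc (N : Subgroup G) (a b : G) : Set G := {g | a⁻¹ * g * b ∈ N}

theorem pc_conj {T N : Subgroup G} (hTN : T ≤ Subgroup.normalizer (N : Set G)) {a b : G}
    (ha : a ∈ T) (hb : b ∈ T) {x : G} (hx : x ∈ N) (g : G) :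
    x * g * x⁻¹ ∈ pc N a b ↔ g ∈ pc N a b := by
  have key : ∀ x ∈ N, ∀ g, g ∈ pc N a b → x * g * x⁻¹ ∈ pc N a b := by
    intro x hx g hg
    show a⁻¹ * (x * g * x⁻¹) * b ∈ N
    have h1 : a⁻¹ * x * a ∈ N := by
      have := (Subgroup.mem_normalizer_iff.1 (hTN (T.inv_mem ha)) x).1 hx
      rwa [inv_inv] at this
    have h2 : b⁻¹ * x⁻¹ * b ∈ N := by
      have := (Subgroup.mem_normalizer_iff.1 (hTN (T.inv_mem hb)) x⁻¹).1 (N.inv_mem hx)
      rwa [inv_inv] at this
    have h3 : a⁻¹ * (x * g * x⁻¹) * b = (a⁻¹ * x * a) * (a⁻¹ * g * b) * (b⁻¹ * x⁻¹ * b) := by group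
    rw [h3]
    exact N.mul_mem (N.mul_mem h1 hg) h2
  refine ⟨fun h => ?_, key x hx g⟩
  have := key x⁻¹ (N.inv_mem hx) _ h
  have e1 : x⁻¹ * (x * g * x⁻¹) * x⁻¹⁻¹ = g := by group
  rwa [e1] at this

theorem aa_rc {T N : Subgroup G} (hTN : T ≤ Subgroup.normalizer (N : Set G)) {a b : G}
    (ha : a ∈ T) (hb : b ∈ T) {x : MonoidAlgebra k G} (hx : AA T N x) :
    AA T N (Rc (pc N a b) x) :=
  ⟨supp_rc' hx.1, fx_rc hx.2 fun _ hy g => pc_conj hTN ha hb hy g⟩

/-- homogeneous components of elements of the ideal are in the ideal -/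
theorem ii_rc {T N : Subgroup G} (hNT : N ≤ T) (hTN : T ≤ Subgroup.normalizer (N : Set G))
    {a b : G} (ha : a ∈ T) (hb : b ∈ T) {c x : MonoidAlgebra k G} (hx : II T N c x) :
    II T N c (Rc (pc N a b) x) := by
  refine ⟨aa_rc hTN ha hb hx.1, fun w hw => ?_⟩
  have h1 : Rc (N : Set G) (Rc (pc N a b) x * w) = Rc (N : Set G) (x * Rc (pc N b a) w) := by
    apply ext'
    intro n
    by_cases hn : n ∈ (N : Set G)
    · rw [rc_of _ hn, rc_of _ hn, mul_coeff, mul_coeff]
      refine Finset.sum_congr rfl fun y _ => ?_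
      have h2 : y ∈ pc N a b ↔ y⁻¹ * n ∈ pc N b a := by
        show a⁻¹ * y * b ∈ N ↔ b⁻¹ * (y⁻¹ * n) * a ∈ N
        have h3 : b⁻¹ * (y⁻¹ * n) * a = (a⁻¹ * y * b)⁻¹ * (a⁻¹ * n * a) := by group
        have h4 : a⁻¹ * n * a ∈ N := by
          have := (Subgroup.mem_normalizer_iff.1 (hTN (T.inv_mem ha)) n).1 hn
          rwa [inv_inv] at this
        rw [h3]
        constructor
        · intro h; exact N.mul_mem (N.inv_mem h) h4
        · intro h
          have := N.mul_mem h (N.inv_mem h4)
          rw [mul_inv_cancel_right] at this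
          exact (N.inv_mem_iff).1 this
      by_cases hy : y ∈ pc N a b
      · rw [rc_of _ hy, rc_of _ (h2.1 hy)]
      · rw [rc_not _ hy, rc_not _ fun h => hy (h2.2 h), zero_mul, mul_zero]
    · rw [rc_not _ hn, rc_not _ hn]
  rw [h1]
  exact hx.2 _ (aa_rc hTN hb ha hw)

/-- an idempotent in the ideal is zero -/
theorem ii_idem {T N : Subgroup G} (hNT : N ≤ T) (hTN : T ≤ Subgroup.normalizer (N : Set G))
    {c β : MonoidAlgebra k G} (hβ : II T N c β) (hββ : β * β = β) : β = 0 := by
  classical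
  haveI : Fintype (G ⧸ N) := Fintype.ofFinite _
  let rep : G ⧸ N → G := Quotient.out
  have hrep : ∀ q : G ⧸ N, ((rep q : G) : G ⧸ N) = q := fun q => Quotient.out_eq q
  have hco : ∀ (g : G) (q : G ⧸ N), (g : G ⧸ N) = q ↔ (rep q)⁻¹ * g ∈ N := by
    intro g q
    rw [← QuotientGroup.eq, hrep]
    exact eq_comm
  let QT : Finset (G ⧸ N) := Finset.univ.filter (fun q => rep q ∈ T)
  have hQT : ∀ q, q ∈ QT ↔ rep q ∈ T := fun q => by
    simp only [QT, Finset.mem_filter, Finset.mem_univ, true_and]
  have hgT : ∀ g ∈ T, ((g : G) : G ⧸ N) ∈ QT := by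
    intro g hg
    rw [hQT]
    have h1 := (hco g (g : G ⧸ N)).1 rfl
    have h2 := T.mul_mem hg (T.inv_mem (hNT h1))
    have e1 : g * ((rep (g : G ⧸ N))⁻¹ * g)⁻¹ = rep (g : G ⧸ N) := by group
    rwa [e1] at h2
  -- components
  let cp : G ⧸ N → MonoidAlgebra k G := fun q => Rc (pc N (rep q) 1) β
  have hcp : ∀ q g, g ∈ pc N (rep q) 1 ↔ (g : G ⧸ N) = q := by
    intro q g
    show (rep q)⁻¹ * g * 1 ∈ N ↔ _
    rw [mul_one, hco]
  have hsum : ∑ q ∈ QT, cp q = β := by
    apply ext'
    intro g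
    rw [sum_coeff]
    by_cases hg : g ∈ T
    · rw [Finset.sum_eq_single (g : G ⧸ N)]
      · exact rc_of _ ((hcp _ _).2 rfl)
      · intro q _ hq
        exact rc_not _ fun h => hq ((hcp _ _).1 h).symm
      · intro h; exact absurd (hgT g hg) h
    · rw [hβ.1.1 g hg]
      refine Finset.sum_eq_zero fun q _ => ?_
      exact supp_rc' hβ.1.1 g hg
  -- the basic relation
  have hrel : ∀ q ∈ QT, cp q = ∑ r ∈ QT, Rc (pc N (rep q) (rep r)) β * cp r := by
    intro q hq
    apply ext'
    intro g
    rw [sum_coeff]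
    by_cases hg : (g : G ⧸ N) = q
    · have h1 : (cp q).coeff g = β.coeff g := rc_of _ ((hcp _ _).2 hg)
      rw [h1]
      conv_lhs => rw [← hββ, mul_coeff]
      have h2 : ∀ r ∈ QT, (Rc (pc N (rep q) (rep r)) β * cp r).coeff g =
          ∑ x : G, if ((x⁻¹ * g : G) : G ⧸ N) = r then β.coeff x * β.coeff (x⁻¹ * g) else 0 := by
        intro r _
        rw [mul_coeff]
        refine Finset.sum_congr rfl fun x _ => ?_
        by_cases hx : ((x⁻¹ * g : G) : G ⧸ N) = r
        · rw [if_pos hx]
          have h3 : x ∈ pc N (rep q) (rep r) := by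
            show (rep q)⁻¹ * x * rep r ∈ N
            have h4 := (hco _ _).1 hg
            have h5 := (hco _ _).1 hx
            have h6 : (rep q)⁻¹ * x * rep r = ((rep q)⁻¹ * g) * ((rep r)⁻¹ * (x⁻¹ * g))⁻¹ := by
              group
            rw [h6]
            exact N.mul_mem h4 (N.inv_mem h5)
          rw [rc_of _ h3]
          congr 1
          exact rc_of _ ((hcp _ _).2 hx)
        · rw [if_neg hx]
          have h3 : (cp r).coeff (x⁻¹ * g) = 0 := rc_not _ fun h => hx ((hcp _ _).1 h)
          rw [h3, mul_zero]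
      rw [Finset.sum_congr rfl h2, Finset.sum_comm]
      refine Finset.sum_congr rfl fun x _ => ?_
      by_cases hxT : x⁻¹ * g ∈ T
      · rw [Finset.sum_ite_eq QT _ (fun _ => β.coeff x * β.coeff (x⁻¹ * g)),
          if_pos (hgT _ hxT)]
      · rw [hβ.1.1 _ hxT, mul_zero]
        refine (Finset.sum_eq_zero fun r _ => ?_).symm
        split_ifs <;> rfl
    · have h1 : (cp q).coeff g = 0 := rc_not _ fun h => hg ((hcp _ _).1 h)
      rw [h1]
      symm
      refine Finset.sum_eq_zero fun r _ => ?_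
      rw [mul_coeff]
      refine Finset.sum_eq_zero fun x _ => ?_
      by_cases hx : x ∈ pc N (rep q) (rep r)
      · have h2 : (cp r).coeff (x⁻¹ * g) = 0 := by
          refine rc_not _ fun h => hg ?_
          have h3 := (hco _ _).1 ((hcp _ _).1 h)
          rw [hco]
          have h4 : (rep q)⁻¹ * g = ((rep q)⁻¹ * x * rep r) * ((rep r)⁻¹ * (x⁻¹ * g)) := by group
          rw [h4]
          exact N.mul_mem hx h3
        rw [h2, mul_zero]
      · rw [rc_not _ hx, zero_mul]
  -- elimination
  have key : ∀ S : Finset (G ⧸ N), ∃ d : G ⧸ N → G ⧸ N → MonoidAlgebra k G,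
      (∀ q ∈ QT, ∀ r ∈ QT, II T N c (d q r) ∧
        ∀ g, (d q r).coeff g ≠ 0 → g ∈ pc N (rep q) (rep r)) ∧
      ∀ q ∈ QT, cp q = ∑ r ∈ QT \ S, d q r * cp r := by
    intro S
    induction S using Finset.induction with
    | empty =>
      refine ⟨fun q r => Rc (pc N (rep q) (rep r)) β, ?_, ?_⟩
      · intro q hq r hr
        refine ⟨ii_rc hNT hTN ((hQT q).1 hq) ((hQT r).1 hr) hβ, fun g hg => ?_⟩
        by_contra h
        exact hg (rc_not _ h)
      · intro q hq
        rw [Finset.sdiff_empty]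
        exact hrel q hq
    | insert q₀ S hq₀ ih =>
      obtain ⟨d, hd, hdr⟩ := ih
      by_cases hq0T : q₀ ∈ QT
      · -- invert `1 - d q₀ q₀`
        have hd0 := hd q₀ hq0T q₀ hq0T
        have hsupp : Supp N (d q₀ q₀) := by
          intro g hg
          by_contra hne
          apply hg
          have h1 : (rep q₀)⁻¹ * g * rep q₀ ∈ N := hd0.2 g hne
          have h2 := (Subgroup.mem_normalizer_iff.1 (hTN ((hQT _).1 hq0T)) _).1 h1
          have e1 : rep q₀ * ((rep q₀)⁻¹ * g * rep q₀) * (rep q₀)⁻¹ = g := by group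
          rwa [e1] at h2
        have hnil : IsNilpotent (d q₀ q₀) := by
          have h1 := hd0.1.2 1 aa_one
          rwa [mul_one, rc_self hsupp] at h1
        obtain ⟨n, hn⟩ := hnil
        let u : MonoidAlgebra k G := ∑ i ∈ Finset.range n, (d q₀ q₀) ^ i
        have hu : u * (1 - d q₀ q₀) = 1 := by
          have h1 := Commute.geom_sum₂_mul (Commute.one_right (d q₀ q₀)) n
          have h2 : (∑ i ∈ Finset.range n, (d q₀ q₀) ^ i * 1 ^ (n - 1 - i)) = u := by
            refine Finset.sum_congr rfl fun i _ => ?_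
            rw [one_pow, mul_one]
          rw [h2, hn, one_pow, zero_sub] at h1
          have h3 : u * (1 - d q₀ q₀) = - (u * (d q₀ q₀ - 1)) := by noncomm_ring
          rw [h3, h1, neg_neg]
        have huA : AA T N u := aa_sum _ _ fun i _ => aa_pow hd0.1.1 i
        have hpS : ∀ i : ℕ, Supp N ((d q₀ q₀) ^ i) := by
          intro i
          induction i with
          | zero => rw [pow_zero]; exact supp_one
          | succ i ih => rw [pow_succ]; exact supp_mul ih hsupp
        have huS : Supp N u := supp_sum _ _ fun i _ => hpS i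
        have hq0 : cp q₀ = u * ∑ r ∈ QT \ insert q₀ S, d q₀ r * cp r := by
          have h1 := hdr q₀ hq0T
          have h2 : QT \ S = insert q₀ (QT \ insert q₀ S) := by
            ext q
            simp only [Finset.mem_sdiff, Finset.mem_insert]
            constructor
            · rintro ⟨h3, h4⟩
              by_cases h5 : q = q₀
              · exact Or.inl h5
              · right
                exact ⟨h3, fun h6 => h6.elim h5 h4⟩
            · rintro (h3 | ⟨h3, h4⟩)
              · rw [h3]; exact ⟨hq0T, hq₀⟩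
              · exact ⟨h3, fun h5 => h4 (Or.inr h5)⟩
          rw [h2, Finset.sum_insert (by simp)] at h1
          calc cp q₀ = u * (1 - d q₀ q₀) * cp q₀ := by rw [hu, one_mul]
            _ = u * (cp q₀ - d q₀ q₀ * cp q₀) := by rw [mul_assoc, sub_mul, one_mul]
            _ = u * ∑ r ∈ QT \ insert q₀ S, d q₀ r * cp r := by
              congr 1
              rw [sub_eq_iff_eq_add, add_comm]
              exact h1
        refine ⟨fun q r => d q r + d q q₀ * (u * d q₀ r), ?_, ?_⟩
        · intro q hq r hr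
          refine ⟨ii_add (hd q hq r hr).1 (ii_mul (hd q hq q₀ hq0T).1
            (aa_mul huA (hd q₀ hq0T r hr).1.1)), fun g hg => ?_⟩
          by_contra hcon
          apply hg
          rw [add_coeff]
          have h1 : (d q r).coeff g = 0 := by
            by_contra h; exact hcon ((hd q hq r hr).2 g h)
          rw [h1, zero_add, mul_coeff]
          refine Finset.sum_eq_zero fun x _ => ?_
          by_cases hx : (d q q₀).coeff x = 0
          · rw [hx, zero_mul]
          · have h2 : (rep q)⁻¹ * x * rep q₀ ∈ N := (hd q hq q₀ hq0T).2 x hx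
            rw [mul_coeff]
            have h3 : ∑ y : G, u.coeff y * (d q₀ r).coeff (y⁻¹ * (x⁻¹ * g)) = 0 := by
              refine Finset.sum_eq_zero fun y _ => ?_
              by_cases hy : y ∈ N
              · by_cases hz : (d q₀ r).coeff (y⁻¹ * (x⁻¹ * g)) = 0
                · rw [hz, mul_zero]
                · exfalso
                  apply hcon
                  have h4 : (rep q₀)⁻¹ * (y⁻¹ * (x⁻¹ * g)) * rep r ∈ N :=
                    (hd q₀ hq0T r hr).2 _ hz
                  have h5 : (rep q₀)⁻¹ * y * rep q₀ ∈ N := by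
                    have := (Subgroup.mem_normalizer_iff.1
                      (hTN (T.inv_mem ((hQT _).1 hq0T))) y).1 hy
                    rwa [inv_inv] at this
                  show (rep q)⁻¹ * g * rep r ∈ N
                  have h6 : (rep q)⁻¹ * g * rep r = ((rep q)⁻¹ * x * rep q₀) *
                      ((rep q₀)⁻¹ * y * rep q₀) *
                      ((rep q₀)⁻¹ * (y⁻¹ * (x⁻¹ * g)) * rep r) := by group
                  rw [h6]
                  exact N.mul_mem (N.mul_mem h2 h5) h4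
              · rw [huS y hy, zero_mul]
            rw [h3, mul_zero]
        · intro q hq
          have h1 := hdr q hq
          have h2 : QT \ S = insert q₀ (QT \ insert q₀ S) := by
            ext q
            simp only [Finset.mem_sdiff, Finset.mem_insert]
            constructor
            · rintro ⟨h3, h4⟩
              by_cases h5 : q = q₀
              · exact Or.inl h5
              · right
                exact ⟨h3, fun h6 => h6.elim h5 h4⟩
            · rintro (h3 | ⟨h3, h4⟩)
              · rw [h3]; exact ⟨hq0T, hq₀⟩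
              · exact ⟨h3, fun h5 => h4 (Or.inr h5)⟩
          rw [h2, Finset.sum_insert (by simp)] at h1
          rw [h1, hq0, Finset.mul_sum, Finset.mul_sum, ← Finset.sum_add_distrib]
          refine Finset.sum_congr rfl fun r _ => ?_
          rw [add_mul, add_comm]
          congr 1
          simp only [mul_assoc]
      · refine ⟨d, hd, fun q hq => ?_⟩
        rw [hdr q hq]
        refine Finset.sum_congr ?_ fun _ _ => rfl
        ext r
        simp only [Finset.mem_sdiff, Finset.mem_insert]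
        constructor
        · rintro ⟨h3, h4⟩
          refine ⟨h3, fun h5 => h5.elim (fun h6 => hq0T (h6 ▸ h3)) h4⟩
        · rintro ⟨h3, h4⟩
          exact ⟨h3, fun h5 => h4 (Or.inr h5)⟩
  obtain ⟨d, _, hd⟩ := key Finset.univ
  rw [← hsum]
  refine Finset.sum_eq_zero fun q hq => ?_
  rw [hd q hq]
  refine Finset.sum_eq_zero fun r hr => ?_
  rw [Finset.mem_sdiff] at hr
  exact absurd (Finset.mem_univ r) hr.2

/-- **unit lemma** -/
theorem exists_unit {T N : Subgroup G} (hNT : N ≤ T) (hTN : T ≤ Subgroup.normalizer (N : Set G))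
    {c β : MonoidAlgebra k G} (hc : IsBlk N c) (hβ : AA T N β) (hββ : β * β = β)
    (hβc : β * c = β) (h0 : β ≠ 0) : ∃ w, AA T N w ∧ Rc (N : Set G) (β * w) = c := by
  by_contra hcon
  push Not at hcon
  apply h0
  refine ii_idem (c := c) hNT hTN ⟨hβ, fun w hw => ?_⟩ hββ
  have hz : ZH N (Rc (N : Set G) (β * w)) := zh_rc (aa_mul hβ hw)
  rcases hc.unit_or_nilpotent hz with h | ⟨u, hu, h⟩
  · have h1 : Rc (N : Set G) (β * w) * c = Rc (N : Set G) (β * w) := by
      rw [← rc_mul_right _ hc.zh.1, mul_assoc, comm_of_fx_supp hw.2 hc.zh.1, ← mul_assoc, hβc]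
    rwa [h1] at h
  · exfalso
    refine hcon (w * u) (aa_mul hw ⟨supp_mono hNT hu.1, hu.2⟩) ?_
    rw [← mul_assoc, rc_mul_right _ hu.1]
    exact h

variable {p : ℕ} [hp : Fact p.Prime] [CharP k p]

/-- defect groups of covered blocks are seen by covering idempotents -/
theorem br_ne_of_cover {T N D : Subgroup G} (hNT : N ≤ T)
    (hTN : T ≤ Subgroup.normalizer (N : Set G)) {c β : MonoidAlgebra k G} (hc : IsBlk N c)
    (hβ : AA T N β) (hββ : β * β = β) (hβc : β * c = β) (h0 : β ≠ 0) (hD : D ≤ N)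
    (hDp : IsPGroup p D) (hbr : Br D c ≠ 0) : Br D β ≠ 0 := by
  intro hz
  apply hbr
  obtain ⟨w, hw, h⟩ := exists_unit hNT hTN hc hβ hββ hβc h0
  rw [← h]
  have h1 : Br D (β * w) = 0 := by
    rw [br_mul hDp (fx_mono hD hβ.2) (fx_mono hD hw.2), hz, zero_mul]
  apply ext'
  intro g
  by_cases hg : g ∈ Subgroup.centralizer (D : Set G)
  · rw [br_coeff_of _ hg]
    by_cases hgN : g ∈ (N : Set G)
    · rw [rc_of _ hgN, ← br_coeff_of _ hg, h1]
    · rw [rc_not _ hgN, zero_coeff]
  · rw [br_coeff_not _ hg, zero_coeff]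

end Restrict

end CfsgLib.BrP
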