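import Mathlib
import Cfsg.Agent.EqBase
import Cfsg.Agent.LibBrP16
import Cfsg.Agent.LibCharBasic2

/-!
# Brauer pairs, XVII: covering of blocks in terms of characters (helper18)
-/

set_option autoImplicit false
set_option linter.unusedSectionVars false
set_option linter.style.haveILetI false
set_option linter.unusedSimpArgs false
set_option linter.unusedVariables false

namespace CfsgLib.BrP

open Cfsg CfsgLib.LocR CfsgLib.BlockCore CfsgLib.BlockIdem
open CfsgLib.BlockOrth (ext0 ext0_coe ext0_mem ext0_not subgroupBlockCoeff_eq conv_ext0)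
open scoped ComplexConjugate

section Cov

variable {M : Ideal AlgInt} [hP : M.IsPrime]
variable {K : Type*} [Group K] [Finite K] {G : Type*} [Group G] [Fintype G]

theorem sum_L_eq [Fintype K] {ι : K →* G} (hι : Function.Injective ι) {L : Subgroup G}
    [Fintype L] {j : L →* K} (hj : ∀ l : L, ι (j l) = l) (F : K → ℂ)
    (hF : ∀ x, ι x ∉ L → F x = 0) : ∑ x : K, F x = ∑ l : L, F (j l) := by
  classical
  have hji : Function.Injective j := by
    intro a b h
    apply Subtype.ext
    rw [← hj a, ← hj b, h]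
  rw [← Finset.sum_image (s := Finset.univ) (g := j) (f := F) (fun x _ y _ h => hji h)]
  symm
  refine Finset.sum_subset (Finset.subset_univ _) fun g _ hg => ?_
  apply hF
  intro hL
  apply hg
  have : j ⟨ι g, hL⟩ = g := hι (hj _)
  rw [← this]
  exact Finset.mem_image_of_mem j (Finset.mem_univ _)

/-- the data of the sum of conjugates -/
theorem conj_sum_data [Fintype K] {ι : K →* G} (hι : Function.Injective ι) {L : Subgroup G}
    [Fintype L] {j : L →* K} (hj : ∀ l : L, ι (j l) = l)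
    (hN : ι.range ≤ Subgroup.normalizer (L : Set G)) {c : Set (IrrCharacter L)}
    (hc : IsPBlock M c) :
    ∃ (S : Finset (Set (IrrCharacter L))) (A : K → ℂ), c ∈ S ∧
      (∀ f ∈ S, IsPBlock M f ∧ ∃ y : K, bk M L.subtype f = cj (ι y) (bk M L.subtype c)) ∧
      IsClassFunction K A ∧ (∀ x, MemLocalRing M (A x)) ∧ conv A A = A ∧
      el M ι A = ∑ f ∈ S, bk M L.subtype f ∧
      (∀ x, A x = ∑ f ∈ S, subgroupBlockCoeff L f (ι x)) ∧
      ∀ χ : K → ℂ, IsClassFunction K χ →
        ∑ x : K, A x * χ x = (S.card : ℂ) * ∑ l : L, blockCoeff c l * χ (j l) := by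
  classical
  have hS0 : ∀ y : K, L = cS (ι y) L := fun y => (cS_of_normalizer (hN ⟨y, rfl⟩)).symm
  set cc : K → Set (IrrCharacter L) := fun y => pb (cI (ι y) (hS0 y)) c with hcc
  have hcb : ∀ y, IsPBlock M (cc y) := fun y => isPBlock_pb _ hc
  have hbk : ∀ y, bk M L.subtype (cc y) = cj (ι y) (bk M L.subtype c) := by
    intro y
    have h := bk_pb (M := M) (ι := MonoidHom.id G) id_inj (ι y) (hS0 y) c
    rw [MonoidHom.id_comp] at h
    exact h
  set S : Finset (Set (IrrCharacter L)) := Finset.univ.image cc with hS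
  have hSb : ∀ f ∈ S, IsPBlock M f ∧ ∃ y : K, bk M L.subtype f = cj (ι y) (bk M L.subtype c) := by
    intro f hf
    obtain ⟨y, _, rfl⟩ := Finset.mem_image.1 hf
    exact ⟨hcb y, y, hbk y⟩
  have hmem1 : ∀ y : K, ∀ g : G, g ∈ L ↔ ι y * g * (ι y)⁻¹ ∈ L := fun y g =>
    Subgroup.mem_normalizer_iff.1 (hN ⟨y, rfl⟩) g
  -- conjugation of coefficients
  have hconj : ∀ (y : K) (f : Set (IrrCharacter L)) (g : G),
      subgroupBlockCoeff L (pb (cI (ι y) (hS0 y)) f) (ι y * g * (ι y)⁻¹) =
        subgroupBlockCoeff L f g := by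
    intro y f g
    rw [subgroupBlockCoeff_eq, subgroupBlockCoeff_eq]
    by_cases hg : g ∈ L
    · rw [ext0_mem _ hg, ext0_mem _ ((hmem1 y g).1 hg)]
      have h2 := blockCoeff_pb (cI (ι y) (hS0 y)) f ⟨g, hg⟩
      rw [← h2]
      congr 1
    · rw [ext0_not _ hg, ext0_not _ fun h => hg ((hmem1 y g).2 h)]
  -- conjugation permutes `S`
  have hSperm : ∀ y : K, ∀ f ∈ S, pb (cI (ι y) (hS0 y)) f ∈ S := by
    intro y f hf
    obtain ⟨z, _, rfl⟩ := Finset.mem_image.1 hf
    refine Finset.mem_image.2 ⟨y * z, Finset.mem_univ _, ?_⟩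
    refine h_inj (hcb (y * z)) (isPBlock_pb _ (hcb z)) ?_
    rw [hbk]
    have h := bk_pb (M := M) (ι := MonoidHom.id G) id_inj (ι y) (hS0 y) (cc z)
    rw [MonoidHom.id_comp] at h
    have h' : bk M L.subtype (pb (cI (ι y) (hS0 y)) (cc z)) =
      cj (ι y) (bk M L.subtype (cc z)) := h
    rw [h', hbk, cj_cj, map_mul]
  have hSinj : ∀ y : K, ∀ f ∈ S, ∀ f' ∈ S, pb (cI (ι y) (hS0 y)) f = pb (cI (ι y) (hS0 y)) f' →
      f = f' := by
    intro y f hf f' hf' h
    rw [pb_eq_image, pb_eq_image] at h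
    exact Set.image_injective.2 (trI_injective _) h
  set A : K → ℂ := fun x => ∑ f ∈ S, subgroupBlockCoeff L f (ι x) with hA
  have hAcl : IsClassFunction K A := by
    intro g y
    show ∑ f ∈ S, subgroupBlockCoeff L f (ι (y * g * y⁻¹)) = ∑ f ∈ S, subgroupBlockCoeff L f (ι g)
    symm
    refine Finset.sum_bij (fun f _ => pb (cI (ι y) (hS0 y)) f) (fun f hf => hSperm y f hf)
      (fun f hf f' hf' h => hSinj y f hf f' hf' h) ?_ ?_
    · intro f hf
      have hcard : (S.image (fun f => pb (cI (ι y) (hS0 y)) f)) = S := by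
        apply Finset.eq_of_subset_of_card_le
        · intro u hu
          obtain ⟨v, hv, rfl⟩ := Finset.mem_image.1 hu
          exact hSperm y v hv
        · have hc2 : (S.image (fun f => pb (cI (ι y) (hS0 y)) f)).card = S.card :=
            Finset.card_image_of_injOn (fun a ha b hb h => hSinj y a ha b hb h)
          exact hc2.ge
      rw [← hcard] at hf
      obtain ⟨v, hv, hvf⟩ := Finset.mem_image.1 hf
      exact ⟨v, hv, hvf⟩
    · intro f hf
      rw [map_mul, map_mul, map_inv, hconj]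
  refine ⟨S, A, ?_, hSb, hAcl, ?_, ?_, ?_, fun x => rfl, ?_⟩
  · refine Finset.mem_image.2 ⟨1, Finset.mem_univ _, ?_⟩
    refine h_inj (hcb 1) hc ?_
    rw [hbk, map_one, cj_one_left]
  · intro x
    exact LocR.memR_sum fun f hf => sbc_ring (hSb f hf).1 _
  · -- idempotent
    funext g
    show ∑ x : K, A x * A (x⁻¹ * g) = A g
    have h1 : ∑ x : K, A x * A (x⁻¹ * g) = ∑ f ∈ S, ∑ f' ∈ S, ∑ x : K,
        subgroupBlockCoeff L f (ι x) * subgroupBlockCoeff L f' (ι (x⁻¹ * g)) := by
      calc ∑ x : K, A x * A (x⁻¹ * g) = ∑ x : K, ∑ f ∈ S, ∑ f' ∈ S,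
            subgroupBlockCoeff L f (ι x) * subgroupBlockCoeff L f' (ι (x⁻¹ * g)) :=
              Finset.sum_congr rfl fun x _ => Finset.sum_mul_sum _ _ _ _
        _ = ∑ f ∈ S, ∑ x : K, ∑ f' ∈ S,
            subgroupBlockCoeff L f (ι x) * subgroupBlockCoeff L f' (ι (x⁻¹ * g)) :=
              Finset.sum_comm
        _ = _ := Finset.sum_congr rfl fun f _ => Finset.sum_comm
    have h2 : ∀ f ∈ S, ∀ f' ∈ S, ∑ x : K,
        subgroupBlockCoeff L f (ι x) * subgroupBlockCoeff L f' (ι (x⁻¹ * g)) =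
        if f' = f then subgroupBlockCoeff L f (ι g) else 0 := by
      intro f hf f' hf'
      have h3 : ∑ x : K, subgroupBlockCoeff L f (ι x) * subgroupBlockCoeff L f' (ι (x⁻¹ * g)) =
          conv (subgroupBlockCoeff L f) (subgroupBlockCoeff L f') (ι g) := by
        rw [sum_L_eq hι hj]
        · unfold conv
          have h4 := CfsgLib.BlockOrth.sum_ext0_mul (H := L) (fun l => blockCoeff f l)
            (fun x => subgroupBlockCoeff L f' (x⁻¹ * ι g))
          rw [subgroupBlockCoeff_eq L f, h4]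
          refine Finset.sum_congr rfl fun l _ => ?_
          rw [hj, ext0_coe, map_mul, map_inv, hj]
        · intro x hx
          rw [subgroupBlockCoeff_eq L f, ext0_not _ hx, zero_mul]
      rw [h3, subgroupBlockCoeff_eq, subgroupBlockCoeff_eq, conv_ext0]
      by_cases hff : f' = f
      · subst hff
        rw [if_pos rfl, conv_blockCoeff_self]
      · rw [if_neg hff, conv_blockCoeff_ne (hSb f hf).1 (hSb f' hf').1 (Ne.symm hff)]
        by_cases hgL : ι g ∈ L
        · rw [ext0_mem _ hgL]; rfl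
        · rw [ext0_not _ hgL]
    rw [h1]
    refine Finset.sum_congr rfl fun f hf => ?_
    rw [Finset.sum_congr rfl fun f' hf' => h2 f hf f' hf', Finset.sum_ite_eq' S f, if_pos hf]
  · -- reduction
    refine ext_on hι (fun g hg => el_off _ hg) ?_ ?_
    · refine supp_sum _ _ fun f _ => ?_
      refine supp_mono ?_ (supp_Ph _)
      rintro _ ⟨l, rfl⟩
      exact ⟨j l, hj l⟩
    · intro x
      rw [el_coeff hι, rd_sum _ _ fun f hf => sbc_ring (hSb f hf).1 _, sum_coeff]
      exact Finset.sum_congr rfl fun f _ => (sbc_bk _).symm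
  · intro χ hχ
    have h1 : ∀ f ∈ S, ∑ x : K, subgroupBlockCoeff L f (ι x) * χ x =
        ∑ l : L, blockCoeff c l * χ (j l) := by
      intro f hf
      obtain ⟨y, _, rfl⟩ := Finset.mem_image.1 hf
      rw [← Equiv.sum_comp (MulAut.conj y).toEquiv]
      have h2 : ∀ x : K, subgroupBlockCoeff L (cc y) (ι ((MulAut.conj y).toEquiv x)) *
          χ ((MulAut.conj y).toEquiv x) = subgroupBlockCoeff L c (ι x) * χ x := by
        intro x
        have e1 : (MulAut.conj y).toEquiv x = y * x * y⁻¹ := rfl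
        rw [e1, hχ x y, map_mul, map_mul, map_inv]
        congr 1
        exact hconj y c (ι x)
      rw [Finset.sum_congr rfl fun x _ => h2 x, sum_L_eq hι hj]
      · refine Finset.sum_congr rfl fun l _ => ?_
        rw [hj, subgroupBlockCoeff_eq, ext0_coe]
      · intro x hx
        rw [subgroupBlockCoeff_eq, ext0_not _ hx, zero_mul]
    calc ∑ x : K, A x * χ x = ∑ x : K, ∑ f ∈ S, subgroupBlockCoeff L f (ι x) * χ x :=
          Finset.sum_congr rfl fun x _ => Finset.sum_mul _ _ _
      _ = ∑ f ∈ S, ∑ x : K, subgroupBlockCoeff L f (ι x) * χ x := Finset.sum_comm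
      _ = ∑ f ∈ S, ∑ l : L, blockCoeff c l * χ (j l) := Finset.sum_congr rfl h1
      _ = _ := by rw [Finset.sum_const, nsmul_eq_mul]

theorem sum_blockCoeff_mul {L : Type*} [Group L] [Fintype L] (c : Set (IrrCharacter L))
    (ψ : L → ℂ) : ∑ l : L, blockCoeff c l * ψ l =
      ∑ θ : IrrCharacter L, ind c θ * ((θ : L → ℂ) 1 * classInner ψ (θ : L → ℂ)) := by
  have h1 : ∀ l : L, blockCoeff c l * ψ l = ∑ θ : IrrCharacter L,
      ind c θ * ((θ : L → ℂ) 1 * ((Nat.card L : ℂ)⁻¹ * (ψ l * conj ((θ : L → ℂ) l)))) := by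
    intro l
    rw [blockCoeff_eq_fou]
    unfold fou
    rw [Finset.mul_sum, Finset.sum_mul]
    refine Finset.sum_congr rfl fun θ _ => ?_
    ring
  rw [Finset.sum_congr rfl fun l _ => h1 l, Finset.sum_comm]
  refine Finset.sum_congr rfl fun θ _ => ?_
  unfold classInner
  rw [← Finset.mul_sum, ← Finset.mul_sum, ← Finset.mul_sum]

/-- covering of blocks -/
theorem covers_iff {ι : K →* G} (hι : Function.Injective ι) {L : Subgroup G}
    [Fintype L] {j : L →* K} (hj : ∀ l : L, ι (j l) = l)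
    (hN : ι.range ≤ Subgroup.normalizer (L : Set G)) {c : Set (IrrCharacter L)}
    (hc : IsPBlock M c) {B : Set (IrrCharacter K)} (hB : IsPBlock M B) :
    (∃ χ ∈ B, ∃ θ ∈ c, classInner (fun l : L => (χ : K → ℂ) (j l)) (θ : L → ℂ) ≠ 0) ↔
      bk M ι B * bk M L.subtype c ≠ 0 := by
  classical
  haveI := Fintype.ofFinite K
  obtain ⟨S, A, hcS, hS, hAcl, hAR, hAidem, hAel, hAx, hAsum⟩ := conj_sum_data hι hj hN hc
  set v : IrrCharacter K → ℂ := fun χ => omg (χ : K → ℂ) A with hv
  have hvR : AR M v := by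
    intro x; rw [hv, fou_omg hAcl]; exact hAR x
  have hv01 : ∀ χ, v χ = 0 ∨ v χ = 1 := by
    intro χ
    have h := omg_conv χ (a := A) (b := A) hAcl
    rw [hAidem] at h
    have h2 : v χ * (v χ - 1) = 0 := by
      rw [mul_sub, mul_one]
      show v χ * v χ - v χ = 0
      rw [sub_eq_zero]
      exact h.symm
    rcases mul_eq_zero.1 h2 with h3 | h3
    · left; exact h3
    · right; exact sub_eq_zero.1 h3
  -- step 1
  have hstep1 : ∀ χ : IrrCharacter K, v χ ≠ 0 ↔
      ∃ θ ∈ c, classInner (fun l : L => (χ : K → ℂ) (j l)) (θ : L → ℂ) ≠ 0 := by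
    intro χ
    have hχc : IsCharacter L (fun l : L => (χ : K → ℂ) (j l)) :=
      CfsgLib.CharBasic.isCharacter_comp (CfsgLib.CharBasic.irr_isCharacter χ.2) j
    have hn : ∀ θ : IrrCharacter L, ∃ n : ℕ,
        classInner (fun l : L => (χ : K → ℂ) (j l)) (θ : L → ℂ) = n := fun θ =>
      CfsgLib.CharBasic.char_mult hχc (CfsgLib.CharBasic.irr_isCharacter θ.2)
    choose n hn using hn
    have hd : ∀ θ : IrrCharacter L, ∃ d : ℕ, 0 < d ∧ (θ : L → ℂ) 1 = d := fun θ =>
      CfsgLib.CharBasic.irr_one_nat θ.2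
    choose d hd0 hd using hd
    have h1 : v χ = (S.card : ℂ) * (∑ θ : IrrCharacter L,
        ind c θ * ((θ : L → ℂ) 1 * classInner (fun l : L => (χ : K → ℂ) (j l)) (θ : L → ℂ))) /
          (χ : K → ℂ) 1 := by
      show (∑ x : K, A x * (χ : K → ℂ) x) / (χ : K → ℂ) 1 = _
      rw [hAsum _ (CfsgLib.CharInt.irr_classFun χ.2), sum_blockCoeff_mul]
    have hχ1 := CfsgLib.CharInt.irr_one_ne_zero χ.2
    have hSc : (S.card : ℂ) ≠ 0 := by
      have : S.card ≠ 0 := Finset.card_ne_zero_of_mem hcS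
      exact_mod_cast this
    have h2 : v χ ≠ 0 ↔ (∑ θ : IrrCharacter L,
        ind c θ * ((θ : L → ℂ) 1 * classInner (fun l : L => (χ : K → ℂ) (j l)) (θ : L → ℂ))) ≠ 0 := by
      rw [h1]
      constructor
      · intro h h0; apply h; rw [h0, mul_zero, zero_div]
      · intro h h0
        rw [div_eq_zero_iff, mul_eq_zero] at h0
        rcases h0 with (h0 | h0) | h0
        · exact hSc h0
        · exact h h0
        · exact hχ1 h0
    rw [h2]
    have h3 : (∑ θ : IrrCharacter L,
        ind c θ * ((θ : L → ℂ) 1 * classInner (fun l : L => (χ : K → ℂ) (j l)) (θ : L → ℂ))) =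
        ((∑ θ : IrrCharacter L, if θ ∈ c then d θ * n θ else 0 : ℕ) : ℂ) := by
      push_cast
      refine Finset.sum_congr rfl fun θ _ => ?_
      rw [hn, hd]
      by_cases hθ : θ ∈ c
      · rw [ind_of hθ, if_pos hθ, one_mul]
      · rw [ind_not hθ, if_neg hθ, zero_mul]
    rw [h3]
    constructor
    · intro h
      have h4 : (∑ θ : IrrCharacter L, if θ ∈ c then d θ * n θ else 0 : ℕ) ≠ 0 := by
        intro h0; apply h; rw [h0]; simp
      obtain ⟨θ, _, hθ⟩ := Finset.exists_ne_zero_of_sum_ne_zero h4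
      by_cases hθc : θ ∈ c
      · refine ⟨θ, hθc, ?_⟩
        rw [if_pos hθc] at hθ
        rw [hn]
        have := right_ne_zero_of_mul hθ
        exact_mod_cast this
      · rw [if_neg hθc] at hθ; exact absurd rfl hθ
    · rintro ⟨θ, hθ, hne⟩ h0
      have h4 : (∑ θ : IrrCharacter L, if θ ∈ c then d θ * n θ else 0 : ℕ) = 0 := by
        exact_mod_cast h0
      rw [Finset.sum_eq_zero_iff] at h4
      have h5 := h4 θ (Finset.mem_univ _)
      rw [if_pos hθ] at h5
      rcases Nat.mul_eq_zero.1 h5 with h6 | h6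
      · exact (hd0 θ).ne' h6
      · rw [hn, h6] at hne
        exact hne (by simp)
  -- step 2
  have hBR := AR_ind_block hP hB
  have hprod : bk M ι B * ∑ f ∈ S, bk M L.subtype f = Ph M ι (ind B * v) := by
    rw [← hAel, el_eq_Ph hAcl, Ph_mul hι hBR hvR]
    rfl
  have hstep2 : bk M ι B * ∑ f ∈ S, bk M L.subtype f ≠ 0 ↔ ∃ χ ∈ B, v χ ≠ 0 := by
    rw [hprod]
    constructor
    · intro h
      by_contra hcon
      push Not at hcon
      apply h
      have : ind B * v = 0 := by
        funext χ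
        rw [Pi.mul_apply, Pi.zero_apply]
        by_cases hχ : χ ∈ B
        · rw [hcon χ hχ, mul_zero]
        · rw [ind_not hχ, zero_mul]
      rw [this, Ph_zero hι]
    · rintro ⟨χ, hχ, hne⟩ h0
      have h1 := AM_val hP ((Ph_eq_zero hι (AR_mul hP hBR hvR)).1 h0) χ
      rw [Pi.mul_apply, ind_of hχ, one_mul, (hv01 χ).resolve_left hne] at h1
      exact LocR.not_memI_one h1
  -- step 3
  have hstep3 : bk M ι B * bk M L.subtype c ≠ 0 ↔
      bk M ι B * ∑ f ∈ S, bk M L.subtype f ≠ 0 := by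
    constructor
    · intro h h0
      apply h
      have h1 : (∑ f ∈ S, bk M L.subtype f) * bk M L.subtype c = bk M L.subtype c := by
        rw [Finset.sum_mul, Finset.sum_eq_single c]
        · exact (h_blk hc).idem
        · intro f hf hne
          refine (h_blk (hS f hf).1).orth (h_blk hc) fun h => hne ?_
          exact h_inj (hS f hf).1 hc h
        · intro h; exact absurd hcS h
      rw [← h1, ← mul_assoc, h0, zero_mul]
    · intro h h0
      apply h
      rw [Finset.mul_sum]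
      refine Finset.sum_eq_zero fun f hf => ?_
      obtain ⟨y, hy⟩ := (hS f hf).2
      have h1 : cj (ι y) (bk M ι B) = bk M ι B := fx_iff.1 (isBlk_bk hι hB).zh.2 (ι y) ⟨y, rfl⟩
      rw [hy]
      conv_lhs => rw [← h1]
      rw [← cj_mul, h0, cj_zero]
  rw [hstep3, hstep2]
  constructor
  · rintro ⟨χ, hχ, h⟩; exact ⟨χ, hχ, (hstep1 χ).2 h⟩
  · rintro ⟨χ, hχ, h⟩; exact ⟨χ, hχ, (hstep1 χ).1 h⟩

end Cov

end CfsgLib.BrP
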