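import Mathlib
import Cfsg.Agent.EqBase
import Cfsg.Agent.LibBrP17

/-!
# Brauer pairs, XVIII: stable blocks, Knörr's theorem, Fong-Reynolds support (helper18)
-/

set_option autoImplicit false
set_option linter.unusedSectionVars false
set_option linter.style.haveILetI false
set_option linter.unusedSimpArgs false
set_option linter.unusedVariables false

namespace CfsgLib.BrP

open Cfsg CfsgLib.LocR CfsgLib.BlockCore CfsgLib.BlockIdem
open CfsgLib.BlockOrth (ext0 ext0_coe ext0_mem ext0_not subgroupBlockCoeff_eq conv_ext0)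

section Gen

variable {k : Type*} [Field k] {G : Type*} [Group G] [Fintype G] {p : ℕ}
variable [hp : Fact p.Prime] [CharP k p]

theorem br_ne_mono {P Q : Subgroup G} (h : P ≤ Q) {a : MonoidAlgebra k G} (ha : Br Q a ≠ 0) :
    Br P a ≠ 0 := by
  intro h0
  apply ha
  rw [← br_br h, h0, br_zero]

/-- a block of `T` supported on the normal subgroup `N` -/
theorem stable_def {T N D : Subgroup G} (hNT : N ≤ T) {c : MonoidAlgebra k G} (hc : IsBlk N c)
    (hTN : T ≤ Subgroup.normalizer (N : Set G)) (hD : IsDef p T c D) :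
    IsDef p N c (D ⊓ N) := by
  obtain ⟨E, hE⟩ := exists_isDef (p := p) hc
  obtain ⟨t, ht, h1⟩ := hD.ge (hE.le.trans hNT) hE.pg hE.br
  refine hE.of_card inf_le_right (hD.pg.to_le inf_le_left) (br_ne_mono inf_le_left hD.br) ?_
  have h2 : cS t⁻¹ E ≤ D ⊓ N := by
    refine le_inf ?_ ?_
    · have := cS_mono (x := t⁻¹) h1
      rwa [cS_inv_cS] at this
    · have h3 : cS t⁻¹ N = N := cS_of_normalizer (hTN (T.inv_mem ht))
      rw [← h3]; exact cS_mono hE.le
  have := card_le_of_le h2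
  rwa [card_cS] at this

theorem stable_cover [IsAlgClosed k] {T N D : Subgroup G} (hNT : N ≤ T) {c : MonoidAlgebra k G}
    (hc : IsBlk N c) (hTN : T ≤ Subgroup.normalizer (N : Set G)) (hD : IsDef p T c D)
    {R : Subgroup G} (hR : R ≤ T) (hRp : IsPGroup p R) : ∃ t ∈ T, R ≤ cS t D ⊔ N := by
  have hfx : Fx R c := fx_mono hR hD.di.1.2
  obtain ⟨S, hS, hSR, hRS, hbr⟩ := exists_cover_br hRp (hR.trans hTN) hc hfx
  obtain ⟨t, ht, h1⟩ := hD.ge (hSR.trans (sup_le hR hNT)) hS hbr
  exact ⟨t, ht, hRS.trans (sup_le_sup_right h1 _)⟩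

/-- `c b c` is supported on the stabilizer of `c` -/
theorem supp_cbc {H N : Subgroup G} (hN : H ≤ Subgroup.normalizer (N : Set G))
    {b c : MonoidAlgebra k G} (hc : IsBlk N c) (hb : Supp H b) {T : Subgroup G} (hNT : N ≤ T)
    (hT : ∀ x ∈ H, cj x c = c → x ∈ T) : Supp T (c * b * c) := by
  classical
  -- b as a sum of singles
  have hbs : b = ∑ g : G, b.coeff g • MonoidAlgebra.single g (1 : k) := by
    apply ext'
    intro x
    rw [sum_coeff, Finset.sum_eq_single x]
    · rw [smul_coeff, MonoidAlgebra.coeff_single, Finsupp.single_eq_same, mul_one]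
    · intro y _ hy
      rw [smul_coeff, MonoidAlgebra.coeff_single, Finsupp.single_eq_of_ne (Ne.symm hy), mul_zero]
    · intro h; exact absurd (Finset.mem_univ _) h
  have hgc : ∀ g : G, MonoidAlgebra.single g (1 : k) * c =
      cj g c * MonoidAlgebra.single g (1 : k) := by
    intro g
    apply ext'
    intro x
    rw [single_mul_coeff, mul_coeff', Finset.sum_eq_single g]
    · rw [MonoidAlgebra.coeff_single, Finsupp.single_eq_same, mul_one, cj_coeff]
      congr 1; group
    · intro y _ hy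
      rw [MonoidAlgebra.coeff_single, Finsupp.single_eq_of_ne hy, mul_zero]
    · intro h; exact absurd (Finset.mem_univ _) h
  have h1 : c * b * c = ∑ g : G, b.coeff g • (c * cj g c * MonoidAlgebra.single g (1 : k)) := by
    conv_lhs => rw [hbs]
    rw [Finset.mul_sum, Finset.sum_mul]
    refine Finset.sum_congr rfl fun g _ => ?_
    rw [mul_smul_comm, smul_mul_assoc, mul_assoc, hgc, mul_assoc]
  rw [h1]
  refine supp_sum _ _ fun g _ => ?_
  by_cases hgH : g ∈ H
  · by_cases hgc' : cj g c = c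
    · refine supp_smul _ ?_
      rw [hgc', hc.idem]
      exact supp_mul (supp_mono hNT hc.zh.1) (supp_single (hT g hgH hgc'))
    · have h2 := hc.cj g
      have h3 : N.map (MulAut.conj g).toMonoidHom = N := cS_of_normalizer (hN hgH)
      rw [h3] at h2
      rw [hc.orth h2 (Ne.symm hgc'), zero_mul, smul_zero]
      exact supp_zero
  · rw [hb g hgH, zero_smul]
    exact supp_zero

/-- the stabilizer in `H` of an element -/
def Sb (H : Subgroup G) (c : MonoidAlgebra k G) : Subgroup G where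
  carrier := {x | x ∈ H ∧ cj x c = c}
  mul_mem' := fun {x y} hx hy => ⟨H.mul_mem hx.1 hy.1, by rw [← cj_cj, hy.2, hx.2]⟩
  one_mem' := ⟨H.one_mem, cj_one_left c⟩
  inv_mem' := fun {x} hx => ⟨H.inv_mem hx.1, by
    conv_lhs => rw [← hx.2]
    exact cj_inv_cj x c⟩

theorem mem_Sb {H : Subgroup G} {c : MonoidAlgebra k G} {x : G} :
    x ∈ Sb H c ↔ x ∈ H ∧ cj x c = c := Iff.rfl

theorem le_Sb {H N : Subgroup G} {c : MonoidAlgebra k G} (hNH : N ≤ H) (hc : IsBlk N c) :
    N ≤ Sb H c := fun x hx => ⟨hNH hx, fx_iff.1 hc.zh.2 x hx⟩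

/-- `b c` for a block `b` of `H` and a block `c` of the normal subgroup `N` -/
theorem bc_AA {H N : Subgroup G} (hNH : N ≤ H) (hN : H ≤ Subgroup.normalizer (N : Set G))
    {b c : MonoidAlgebra k G} (hb : IsBlk H b) (hc : IsBlk N c) :
    Supp (Sb H c) (b * c) ∧ Fx (Sb H c) (b * c) ∧ (b * c) * (b * c) = b * c ∧
      (b * c) * c = b * c := by
  have hcomm : b * c = c * b := comm_of_fx_supp (fx_mono hNH hb.zh.2) hc.zh.1
  have hbcc : b * c = c * b * c := by
    rw [← hcomm, mul_assoc, hc.idem]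
  refine ⟨?_, ?_, ?_, ?_⟩
  · rw [hbcc]
    exact supp_cbc hN hc hb.zh.1 (le_Sb hNH hc) fun x hx h => ⟨hx, h⟩
  · rw [fx_iff]
    intro x hx
    rw [cj_mul, hx.2, fx_iff.1 hb.zh.2 x hx.1]
  · calc b * c * (b * c) = b * (c * b) * c := by noncomm_ring
      _ = b * (b * c) * c := by rw [← hcomm]
      _ = (b * b) * (c * c) := by noncomm_ring
      _ = b * c := by rw [hb.idem, hc.idem]
  · rw [mul_assoc, hc.idem]

/-- `p`-subgroups `D ≤ N` with `Br_D(c) ≠ 0` satisfy `Br_D(b) ≠ 0` for `b` covering `c` -/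
theorem br_ne_of_covers {H N D : Subgroup G} (hNH : N ≤ H)
    (hN : H ≤ Subgroup.normalizer (N : Set G)) {b c : MonoidAlgebra k G} (hb : IsBlk H b)
    (hc : IsBlk N c) (hbc : b * c ≠ 0) (hD : D ≤ N) (hDp : IsPGroup p D) (hbr : Br D c ≠ 0) :
    Br D b ≠ 0 := by
  obtain ⟨h1, h2, h3, h4⟩ := bc_AA hNH hN hb hc
  have hNS : N ≤ Sb H c := le_Sb hNH hc
  have hSN : Sb H c ≤ Subgroup.normalizer (N : Set G) := fun x hx => hN hx.1
  have h5 := br_ne_of_cover hNS hSN hc ⟨h1, fx_mono hNS h2⟩ h3 h4 hbc hD hDp hbr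
  intro h0
  apply h5
  rw [br_mul hDp (fx_mono (hD.trans hNH) hb.zh.2) (fx_mono hD hc.zh.2), h0, zero_mul]

/-- defect groups of covered blocks have smaller order -/
theorem covered_le {H N D E : Subgroup G} (hNH : N ≤ H)
    (hN : H ≤ Subgroup.normalizer (N : Set G)) {b c : MonoidAlgebra k G} (hb : IsBlk H b)
    (hc : IsBlk N c) (hbc : b * c ≠ 0) (hD : IsDef p H b D) (hE : IsDef p N c E) :
    ∃ x ∈ H, E ≤ cS x D :=
  hD.ge (hE.le.trans hNH) hE.pg (br_ne_of_covers hNH hN hb hc hbc hE.le hE.pg hE.br)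

/-- a `P`-stable covered block with `Br_P(b c) ≠ 0` -/
theorem exists_stable_cover {H N P : Subgroup G} (hNH : N ≤ H)
    (hN : H ≤ Subgroup.normalizer (N : Set G)) {b : MonoidAlgebra k G} (hb : IsBlk H b)
    (hPH : P ≤ H) (hP : IsPGroup p P) (hbr : Br P b ≠ 0) :
    ∃ c, IsBlk N c ∧ Fx P c ∧ Br P b * Br P c ≠ 0 := by
  classical
  obtain ⟨s, hs, hsum⟩ := exists_blocks (k := k) N
  obtain ⟨g, hg, hgne⟩ := br_ne_zero_iff.1 hbr
  have hconj : ∀ (u : P) (c : s), cj (u : G) (c : MonoidAlgebra k G) ∈ s := by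
    intro u c
    refine IsBlk.mem_of_sum_one hs hsum ?_
    have h1 := (hs c c.2).cj (u : G)
    have h2 : N.map (MulAut.conj (u : G)).toMonoidHom = N := cS_of_normalizer (hN (hPH u.2))
    rwa [h2] at h1
  letI : MulAction P s :=
    { smul := fun u c => ⟨cj (u : G) (c : MonoidAlgebra k G), hconj u c⟩
      one_smul := fun c => Subtype.ext (cj_one_left _)
      mul_smul := fun u v c => Subtype.ext (cj_cj _ _ _).symm }
  have hsm : ∀ (u : P) (c : s), ((u • c : s) : MonoidAlgebra k G) = cj (u : G) c := fun _ _ => rfl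
  have hF : ∀ (u : P) (c : s), (b * ((u • c : s) : MonoidAlgebra k G)).coeff g =
      (b * (c : MonoidAlgebra k G)).coeff g := by
    intro u c
    rw [hsm]
    have h1 : cj (u : G) b = b := fx_iff.1 hb.zh.2 u (hPH u.2)
    conv_lhs => rw [← h1]
    rw [← cj_mul, cj_coeff]
    congr 1
    have h2 := Subgroup.mem_centralizer_iff.1 hg u u.2
    calc (u : G)⁻¹ * g * u = (u : G)⁻¹ * (g * u) := by group
      _ = (u : G)⁻¹ * (u * g) := by rw [h2]
      _ = g := by group
  have h1 := sum_fixed (k := k) hP (fun c : s => (b * (c : MonoidAlgebra k G)).coeff g) hF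
  have h2 : ∑ c : s, (b * (c : MonoidAlgebra k G)).coeff g = b.coeff g := by
    rw [← sum_coeff, ← Finset.mul_sum]
    have : ∑ c : s, (c : MonoidAlgebra k G) = 1 := by rw [← hsum]; exact Finset.sum_coe_sort s id
    rw [this, mul_one]
  rw [h2] at h1
  obtain ⟨c, hc1, hc2⟩ := Finset.exists_ne_zero_of_sum_ne_zero (h1 ▸ hgne)
  rw [Finset.mem_filter] at hc1
  have hcfx : Fx P (c : MonoidAlgebra k G) := by
    rw [fx_iff]
    intro u hu
    exact congrArg Subtype.val (MulAction.mem_fixedPoints.1 hc1.2 ⟨u, hu⟩)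
  refine ⟨c, hs c c.2, hcfx, ?_⟩
  rw [← br_mul hP (fx_mono hPH hb.zh.2) hcfx]
  intro h0
  apply hc2
  show (b * (c : MonoidAlgebra k G)).coeff g = 0
  rw [← br_coeff_of _ hg, h0, zero_coeff]

end Gen

section KM

variable {M : Ideal AlgInt} [hP : M.IsPrime] {p : ℕ} [hp : Fact p.Prime]
variable {G : Type*} [Group G] [Fintype G]

/-- Osima for block idempotents of subgroups -/
theorem osima_supp (hM : IsPModular p M) {H : Subgroup G} {e : MonoidAlgebra (kM M) G}
    (he : IsBlk H e) {g : G} (hg : e.coeff g ≠ 0) : ¬ p ∣ orderOf g := by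
  intro hpg
  apply hg
  obtain ⟨b, hb, rfl⟩ := h_surj he
  rw [sbc_bk, subgroupBlockCoeff_eq]
  by_cases hgH : g ∈ H
  · rw [ext0_mem _ hgH, CfsgLib.BlockOrth.blockCoeff_eq_zero hM hb, rd_zero]
    rw [Subgroup.orderOf_mk]
    exact hpg
  · rw [ext0_not _ hgH, rd_zero]

omit [Fintype G] in
/-- `p`-regular elements lie in normal subgroups of `p`-power index -/
theorem mem_of_regular [Finite G] {T N : Subgroup G} (hNT : N ≤ T)
    (hTN : T ≤ Subgroup.normalizer (N : Set G)) (hidx : ∃ n : ℕ, N.relIndex T = p ^ n) {g : G}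
    (hgT : g ∈ T) (hg : ¬ p ∣ orderOf g) : g ∈ N := by
  haveI : (N.subgroupOf T).Normal := by
    refine ⟨fun c hc t => ?_⟩
    exact (Subgroup.mem_normalizer_iff.1 (hTN t.2) _).1 hc
  obtain ⟨n, hn⟩ := hidx
  let x : T := ⟨g, hgT⟩
  have h1 : x ^ (p ^ n) ∈ N.subgroupOf T := by
    have h2 : Nat.card (T ⧸ N.subgroupOf T) = p ^ n := hn
    rw [← h2]
    exact Subgroup.pow_index_mem _ x
  have h3 : g ^ (p ^ n) ∈ N := h1
  have hcop : (p ^ n).Coprime (orderOf g) :=
    Nat.Coprime.pow_left n ((Nat.Prime.coprime_iff_not_dvd hp.out).2 hg)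
  have h4 : g ∈ Subgroup.zpowers (g ^ (p ^ n)) := by
    have h5 : Subgroup.zpowers (g ^ (p ^ n)) = Subgroup.zpowers g := by
      apply le_antisymm
      · rw [Subgroup.zpowers_le]; exact Subgroup.npow_mem_zpowers g _
      · obtain ⟨m, hm⟩ : ∃ m : ℕ, (g ^ (p ^ n)) ^ m = g := exists_pow_eq_self_of_coprime hcop
        rw [Subgroup.zpowers_le]
        have h6 : (g ^ (p ^ n)) ^ m ∈ Subgroup.zpowers (g ^ (p ^ n)) :=
          Subgroup.npow_mem_zpowers _ _
        rwa [hm] at h6
    rw [h5]; exact Subgroup.mem_zpowers g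
  exact (Subgroup.zpowers_le.2 h3) h4

/-- a stable block of a normal subgroup of `p`-power index is a block -/
theorem isBlk_of_stable (hM : IsPModular p M) {T N : Subgroup G} (hNT : N ≤ T)
    (hTN : T ≤ Subgroup.normalizer (N : Set G)) (hidx : ∃ n : ℕ, N.relIndex T = p ^ n)
    {c : MonoidAlgebra (kM M) G} (hc : IsBlk N c) (hfx : Fx T c) : IsBlk T c := by
  classical
  have hcT : ZH T c := ⟨supp_mono hNT hc.zh.1, hfx⟩
  refine ⟨hcT, hc.idem, hc.ne, fun z hz hzz => ?_⟩
  obtain ⟨s, hs, hsum⟩ := exists_blocks (k := kM M) T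
  have hzc : ZH T (z * c) := zh_mul hz hcT
  have hzcc : (z * c) * (z * c) = z * c := by
    calc z * c * (z * c) = z * (c * z) * c := by noncomm_ring
      _ = z * (z * c) * c := by rw [← zh_comm hz hcT]
      _ = (z * z) * (c * c) := by noncomm_ring
      _ = z * c := by rw [hzz, hc.idem]
  have hsupp : Supp N (z * c) := by
    have h1 : z * c = ∑ e ∈ s, (z * c) * e := by rw [← Finset.mul_sum, hsum, mul_one]
    rw [h1]
    refine supp_sum _ _ fun e he => ?_
    rcases (hs e he).prim _ hzc hzcc with h | h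
    · rw [h]
      intro g hg
      by_contra hne
      apply hg
      refine mem_of_regular hNT hTN hidx ?_ (osima_supp hM (hs e he) hne)
      by_contra hgT
      exact hne ((hs e he).zh.1 g hgT)
    · rw [h]; exact supp_zero
  have h2 := hc.prim (z * c) ⟨hsupp, fx_mono hNT hzc.2⟩ hzcc
  rwa [mul_assoc, hc.idem] at h2

omit [Fintype G] in
theorem relIndex_sup_pgroup [Finite G] {N P : Subgroup G} (hP : IsPGroup p P)
    (hN : P ≤ Subgroup.normalizer (N : Set G)) : ∃ n : ℕ, N.relIndex (N ⊔ P) = p ^ n := by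
  have h1 : N.relIndex (P ⊔ N) = N.relIndex P := by
    refine relIndex_eq_of_factor (A := P) le_sup_left le_sup_right
      (sup_le hN Subgroup.le_normalizer) ?_
    intro x hx
    exact mem_sup_of_normalizer hN hx
  rw [sup_comm, h1]
  have h2 := Subgroup.relIndex_dvd_card N P
  obtain ⟨m, hm⟩ := IsPGroup.iff_card.1 hP
  rw [hm] at h2
  obtain ⟨n, _, hn⟩ := (Nat.dvd_prime_pow hp.out).1 h2
  exact ⟨n, hn⟩

variable [hMx : M.IsMaximal]

/-- **Knörr's theorem** -/
theorem knorr (hM : IsPModular p M) {H N P : Subgroup G} (hNH : N ≤ H)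
    (hN : H ≤ Subgroup.normalizer (N : Set G)) {b c : MonoidAlgebra (kM M) G} (hb : IsBlk H b)
    (hP : IsDef p H b P) (hc : IsBlk N c) (hfx : Fx P c) (hbc : Br P b * Br P c ≠ 0) :
    IsBlk (N ⊔ P) c ∧ IsDef p (N ⊔ P) c P ∧ IsDef p N c (P ⊓ N) := by
  haveI := charP_kM hM
  have hPN : P ≤ Subgroup.normalizer (N : Set G) := hP.le.trans hN
  set T := N ⊔ P with hT
  have hNT : N ≤ T := le_sup_left
  have hPT : P ≤ T := le_sup_right
  have hTH : T ≤ H := sup_le hNH hP.le
  have hTN : T ≤ Subgroup.normalizer (N : Set G) := sup_le Subgroup.le_normalizer hPN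
  have hfxT : Fx T c := by
    have h1 : T ≤ Sb ⊤ c := sup_le (fun x hx => ⟨Subgroup.mem_top x, fx_iff.1 hc.zh.2 x hx⟩)
      (fun x hx => ⟨Subgroup.mem_top x, fx_iff.1 hfx x hx⟩)
    rw [fx_iff]; intro x hx; exact (h1 hx).2
  have hcT : IsBlk T c := isBlk_of_stable hM hNT hTN (relIndex_sup_pgroup hP.pg hPN) hc hfxT
  have hcZ := hcT.zh
  -- local situation
  obtain ⟨hbP, hbPD⟩ := corr_blk hb hP
  set K := NH H P with hK
  set L := NH T P with hL
  have hLK : L ≤ K := inf_le_inf_right _ hTH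
  have hKL : K ≤ Subgroup.normalizer (L : Set G) := by
    intro x hx
    apply mem_normalizer_of_cS
    have h1 : cS x T = T := by
      have h2 : cS x N = N := cS_of_normalizer (hN hx.1)
      have h3 : cS x P = P := cS_of_normalizer hx.2
      show (N ⊔ P).map (MulAut.conj x).toMonoidHom = N ⊔ P
      rw [Subgroup.map_sup]
      have h2' : N.map (MulAut.conj x).toMonoidHom = N := h2
      have h3' : P.map (MulAut.conj x).toMonoidHom = P := h3
      rw [h2', h3']
    have h4 : cS x (Subgroup.normalizer (P : Set G)) = Subgroup.normalizer (P : Set G) := by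
      rw [← normalizer_cS, cS_of_normalizer hx.2]
    show cS x (T ⊓ Subgroup.normalizer (P : Set G)) = _
    rw [cS_inf, h1, h4]
  have hcL : ZH L (Br P c) := br_zh_NH hcZ
  have hcLi : Br P c * Br P c = Br P c := br_idem hPT hP.pg hcZ hcT.idem
  obtain ⟨β, hβ, hβne⟩ := exists_block_of_mul_ne (H := L) hbc
  have hcβ : Br P c * β = β := by
    refine (hβ.prim _ hcL hcLi).resolve_right fun h0 => hβne ?_
    rw [mul_assoc, h0, mul_zero]
  have hbβ : Br P b * β ≠ 0 := by
    rw [mul_assoc, hcβ] at hβne; exact hβne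
  obtain ⟨E, hE⟩ := exists_isDef (p := p) hβ
  have hPL : P ≤ L := le_inf hPT Subgroup.le_normalizer
  have hPE := hE.normal_le hβ hPL hP.pg inf_le_right
  obtain ⟨x, hx, hEx⟩ := covered_le hLK hKL hbP hβ hbβ hbPD hE
  have hxP : cS x P = P := cS_of_normalizer hx.2
  rw [hxP] at hEx
  have hEP : E = P := le_antisymm hEx hPE
  rw [hEP] at hE
  have hPc := (fmt hPT hβ hE hcT hcβ).1
  exact ⟨hcT, hPc, stable_def hNT hc hTN hPc⟩

end KM

section Grp

variable {G : Type*} [Group G] [Finite G] {p : ℕ} [hp : Fact p.Prime]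

theorem le_of_sylow_le {N T : Subgroup G} (hidx : ∃ n : ℕ, N.relIndex T = p ^ n)
    (h : ∃ R : Subgroup G, CfsgLib.BlockFMT.SylIn p T R ∧ R ≤ N) : T ≤ N := by
  obtain ⟨R, ⟨S, hS⟩, hR⟩ := h
  obtain ⟨n, hn⟩ := hidx
  have h1 : N.relIndex T ∣ R.relIndex T := Subgroup.relIndex_dvd_of_le_left T hR
  have h2 : R.relIndex T = (S : Subgroup T).index := by
    rw [← hS]
    unfold Subgroup.relIndex
    congr 1
    ext x
    constructor
    · rintro ⟨y, hy, hxy⟩
      have : y = x := Subtype.ext hxy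
      rw [← this]; exact hy
    · intro hx
      exact ⟨x, hx, rfl⟩
  have h3 : ¬ p ∣ (S : Subgroup T).index := by
    exact Sylow.not_dvd_index S
  rcases Nat.eq_zero_or_pos n with h0 | h0
  · rw [h0, pow_zero] at hn
    exact Subgroup.relIndex_eq_one.1 hn
  · exfalso
    apply h3
    rw [← h2]
    refine dvd_trans ?_ h1
    rw [hn]
    exact dvd_pow_self p h0.ne'

end Grp

end CfsgLib.BrP
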