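import Mathlib
import Cfsg.Agent.EqBase
import Cfsg.Agent.LibBrP18
import Cfsg.Agent.LibBlockInd
import Cfsg.Prelude.Def_BlockLocal

/-!
# Brauer pairs, XIX: block induction in terms of the Brauer morphism, the Harris–Knörr
correspondence (helper18)
-/

set_option autoImplicit false
set_option linter.unusedSectionVars false
set_option linter.style.haveILetI false
set_option linter.unusedSimpArgs false
set_option linter.unusedVariables false

namespace CfsgLib.BrP

open Cfsg CfsgLib.LocR CfsgLib.BlockCore CfsgLib.BlockIdem CfsgLib.BlockR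

section IndBr

variable {M : Ideal AlgInt} [hP : M.IsPrime] {p : ℕ} [hp : Fact p.Prime]
variable {K : Type*} [Group K] [Finite K] {L : Type*} [Group L] [Fintype L]
variable {G : Type*} [Group G] [Fintype G] {ι : K →* G} {j : L →* K}

theorem omg_br_iff (hM : IsPModular p M) (hι : Function.Injective ι) (hj : Function.Injective j)
    {P : Subgroup G} (hPp : IsPGroup p P) (hPL : P ≤ (ι.comp j).range)
    (hLN : (ι.comp j).range ≤ Subgroup.normalizer (P : Set G))
    (hCL : ι.range ⊓ Subgroup.centralizer (P : Set G) ≤ (ι.comp j).range)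
    {d : Set (IrrCharacter K)} (hd : IsPBlock M d) {e : Set (IrrCharacter L)}
    (he : IsPBlock M e) :
    (∀ ξ ∈ e, MemLocalIdeal M (omg (ξ : L → ℂ) (fun l => blockCoeff d (j l)) - 1)) ↔
      Br P (bk M ι d) * bk M (ι.comp j) e = bk M (ι.comp j) e := by
  classical
  haveI := charP_kM hM
  have hιj : Function.Injective (ι.comp j) := hι.comp hj
  set P' : Subgroup L := P.comap (ι.comp j) with hP'
  haveI hn : P'.Normal := by
    refine ⟨fun n hn g => ?_⟩
    rw [hP', Subgroup.mem_comap] at hn ⊢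
    have h1 := (Subgroup.mem_normalizer_iff.1 (hLN ⟨g, rfl⟩) ((ι.comp j) n)).1 hn
    rw [map_mul, map_mul, map_inv]
    exact h1
  have hP'g : IsPGroup p P' := hPp.comap_of_injective _ hιj
  have hcen : ∀ l : L, l ∈ Subgroup.centralizer (P' : Set L) ↔
      (ι.comp j) l ∈ Subgroup.centralizer (P : Set G) := by
    intro l
    have h1 : P'.map (ι.comp j) = P := by
      rw [hP', Subgroup.map_comap_eq, inf_eq_right]; exact hPL
    rw [← map_mem_centralizer hιj, h1]
  set b : L → ℂ := fun l => blockCoeff d (j l) with hb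
  set a : L → ℂ := fun l => if l ∈ Subgroup.centralizer (P' : Set L) then b l else 0 with ha
  have hclK := CfsgLib.BlockOrth.blockCoeff_classFun d
  have hbcl : IsClassFunction L b := by
    intro g h
    show blockCoeff d (j (h * g * h⁻¹)) = blockCoeff d (j g)
    rw [map_mul, map_mul, map_inv]
    exact hclK _ _
  have hcn : ∀ g h : L, h * g * h⁻¹ ∈ Subgroup.centralizer (P' : Set L) ↔
      g ∈ Subgroup.centralizer (P' : Set L) := by
    intro g h
    have hN : (Subgroup.centralizer (P' : Set L)).Normal := inferInstance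
    constructor
    · intro h1
      have := hN.conj_mem _ h1 h⁻¹
      have e1 : h⁻¹ * (h * g * h⁻¹) * h⁻¹⁻¹ = g := by group
      rwa [e1] at this
    · intro h1; exact hN.conj_mem _ h1 h
  have hacl : IsClassFunction L a := by
    intro g h
    show (if h * g * h⁻¹ ∈ Subgroup.centralizer (P' : Set L) then b (h * g * h⁻¹) else 0) =
      if g ∈ Subgroup.centralizer (P' : Set L) then b g else 0
    simp only [hcn, hbcl g h]
  have hbR : ∀ x, MemLocalRing M (b x) := fun x => blockCoeff_ring hP hd _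
  have haR : ∀ x, MemLocalRing M (a x) := by
    intro x
    show MemLocalRing M (if x ∈ Subgroup.centralizer (P' : Set L) then b x else 0)
    split_ifs
    · exact hbR x
    · exact LocR.memR_zero
  have hdiff : ∀ ξ : IrrCharacter L, MemLocalIdeal M (omg (ξ : L → ℂ) b - omg (ξ : L → ℂ) a) := by
    intro ξ
    rw [← CfsgLib.BlockBrauer.omg_sub]
    apply CfsgLib.BlockBrauer.omg_off_centralizer hM P' hP'g
    · intro g h
      rw [Pi.sub_apply, Pi.sub_apply, hbcl g h, hacl g h]
    · intro x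
      rw [Pi.sub_apply]
      exact LocR.memR_sub (hbR x) (haR x)
    · intro x hx
      rw [Pi.sub_apply]
      show b x - (if x ∈ Subgroup.centralizer (P' : Set L) then b x else 0) = 0
      rw [if_pos hx, sub_self]
  have hel : Br P (bk M ι d) = el M (ι.comp j) a := by
    apply ext'
    intro g
    by_cases hg : g ∈ Subgroup.centralizer (P : Set G)
    · rw [br_coeff_of _ hg]
      by_cases hr : g ∈ (ι.comp j).range
      · obtain ⟨l, rfl⟩ := hr
        rw [el_coeff hιj]
        have e1 : (ι.comp j) l = ι (j l) := rfl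
        rw [e1, bk_coeff hι]
        show _ = rd M (if l ∈ Subgroup.centralizer (P' : Set L) then b l else 0)
        rw [if_pos ((hcen l).2 hg)]
      · rw [el_off _ hr]
        have h1 : g ∉ ι.range := fun h => hr (hCL ⟨h, hg⟩)
        exact supp_Ph _ g h1
    · rw [br_coeff_not _ hg]
      by_cases hr : g ∈ (ι.comp j).range
      · obtain ⟨l, rfl⟩ := hr
        rw [el_coeff hιj]
        show _ = rd M (if l ∈ Subgroup.centralizer (P' : Set L) then b l else 0)
        rw [if_neg (fun h => hg ((hcen l).1 h)), rd_zero]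
      · rw [el_off _ hr]
  have hPι : P ≤ ι.range := by
    intro x hx
    obtain ⟨l, hl⟩ := hPL hx
    exact ⟨j l, hl⟩
  have hidem : Br P (bk M ι d) * Br P (bk M ι d) = Br P (bk M ι d) :=
    br_idem hPι hPp (isBlk_bk hι hd).zh (isBlk_bk hι hd).idem
  rw [hel, el_eq_Ph hacl] at hidem ⊢
  have hv : AR M (fun χ : IrrCharacter L => omg (χ : L → ℂ) a) := by
    intro x
    rw [fou_omg hacl]
    exact haR _
  rw [← mul_bk_iff hιj hv hidem he]
  refine forall₂_congr fun ξ hξ => ?_
  have h1 : omg (ξ : L → ℂ) b - 1 - (omg (ξ : L → ℂ) a - 1) =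
      omg (ξ : L → ℂ) b - omg (ξ : L → ℂ) a := by ring
  exact LocR.memI_iff_of_sub (by rw [h1]; exact hdiff ξ)

end IndBr

section IndBr2

variable {M : Ideal AlgInt} [hP : M.IsPrime] {p : ℕ} [hp : Fact p.Prime]
variable {G : Type*} [Group G] [Fintype G]

/-- induced blocks: the Brauer criterion -/
theorem ind_br (hM : IsPModular p M) {P H : Subgroup G} (hPp : IsPGroup p P) (hPH : P ≤ H)
    (hHN : H ≤ Subgroup.normalizer (P : Set G)) (hCH : Subgroup.centralizer (P : Set G) ≤ H)
    {c : Set (IrrCharacter H)} {B : Set (IrrCharacter G)} (h : IsInducedBlock M H c B) :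
    Br P (JB M B) * bk M H.subtype c = bk M H.subtype c := by
  classical
  haveI := Fintype.ofFinite H
  have hc := h.1
  have hB := h.2.1
  obtain ⟨χ, hχ⟩ := block_nonempty hP hB
  have hr : ((MonoidHom.id G).comp H.subtype).range = H := by
    rw [MonoidHom.id_comp, Subgroup.range_subtype]
  have key := omg_br_iff (M := M) (ι := MonoidHom.id G) (j := H.subtype) hM id_inj
    (Subgroup.subtype_injective H) hPp (by rw [hr]; exact hPH) (by rw [hr]; exact hHN)
    (by rw [hr]; exact inf_le_right.trans hCH) hB hc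
  refine key.1 fun ξ hξ => ?_
  have h1 := CfsgLib.BlockInd.induced_val hP h hξ hχ (AR_ind_block hP hB)
  rw [ind_of hχ] at h1
  have h2 : (fun l : H => blockCoeff B (H.subtype l)) = fun h : H => fou (ind B) (h : G) := by
    funext l
    rw [blockCoeff_eq_fou]; rfl
  rw [h2]; exact h1

theorem exists_ind (hM : IsPModular p M) {P H : Subgroup G} (hPp : IsPGroup p P) (hPH : P ≤ H)
    (hHN : H ≤ Subgroup.normalizer (P : Set G)) (hCH : Subgroup.centralizer (P : Set G) ≤ H)
    {c : Set (IrrCharacter H)} (hc : IsPBlock M c) :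
    ∃ B : Set (IrrCharacter G), IsInducedBlock M H c B ∧
      Br P (JB M B) * bk M H.subtype c = bk M H.subtype c := by
  obtain ⟨B, hB⟩ := CfsgLib.BlockInd.exists_induced hM hPp hPH hCH hHN hc
  exact ⟨B, hB, ind_br hM hPp hPH hHN hCH hB⟩

theorem br_ind (hM : IsPModular p M) {P H : Subgroup G} (hPp : IsPGroup p P) (hPH : P ≤ H)
    (hHN : H ≤ Subgroup.normalizer (P : Set G)) (hCH : Subgroup.centralizer (P : Set G) ≤ H)
    {c : Set (IrrCharacter H)} (hc : IsPBlock M c) {B : Set (IrrCharacter G)} (hB : IsPBlock M B)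
    (h : Br P (JB M B) * bk M H.subtype c = bk M H.subtype c) : IsInducedBlock M H c B := by
  haveI := charP_kM hM
  obtain ⟨B', hB', h'⟩ := exists_ind hM hPp hPH hHN hCH hc
  have h1 : JB M B = JB M B' := by
    refine (g_blk hB).eq_of_mul_ne (g_blk hB'.2.1) ?_
    intro h0
    apply (h_blk (M := M) hc).ne
    have h2 : Br P (JB M B) * Br P (JB M B') = 0 := by
      rw [← br_mul hPp (fx_mono le_top (g_blk hB).zh.2) (fx_mono le_top (g_blk hB'.2.1).zh.2), h0,
        br_zero]
    calc bk M H.subtype c = Br P (JB M B) * (Br P (JB M B') * bk M H.subtype c) := by rw [h', h]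
      _ = 0 := by rw [← mul_assoc, h2, zero_mul]
  rw [g_blk_inj hB hB'.2.1 h1]
  exact hB'

/-- induction inside a subgroup: the Brauer criterion -/
theorem indIn_br (hM : IsPModular p M) {P H K : Subgroup G} (hKH : K ≤ H) (hPp : IsPGroup p P)
    (hPK : P ≤ K) (hKN : K ≤ Subgroup.normalizer (P : Set G))
    (hCK : H ⊓ Subgroup.centralizer (P : Set G) ≤ K)
    {e : Set (IrrCharacter K)} {d : Set (IrrCharacter H)} (h : IsInducedBlockIn M H K e d) :
    Br P (bk M H.subtype d) * bk M K.subtype e = bk M K.subtype e := by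
  classical
  haveI := Fintype.ofFinite H
  haveI := Fintype.ofFinite K
  haveI := Fintype.ofFinite (ConjClasses H)
  have he := h.1
  have hd := h.2.1
  obtain ⟨χ, hχ⟩ := block_nonempty hP hd
  have hcomp : H.subtype.comp (Subgroup.inclusion hKH) = K.subtype := rfl
  have hr : (H.subtype.comp (Subgroup.inclusion hKH)).range = K := by
    rw [hcomp, Subgroup.range_subtype]
  have key := omg_br_iff (M := M) (ι := H.subtype) (j := Subgroup.inclusion hKH) hM
    (Subgroup.subtype_injective H) (Subgroup.inclusion_injective hKH) hPp (by rw [hr]; exact hPK)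
    (by rw [hr]; exact hKN) (by rw [hr, Subgroup.range_subtype]; exact hCK) hd he
  rw [hcomp] at key
  refine key.1 fun ξ hξ => ?_
  -- the analogue of induced_val
  have hind : ∀ x : H, inducedCentralCharIn H K (ξ : K → ℂ) (x : G) =
      omg (ξ : K → ℂ) (fun l : K => CfsgLib.CharInt.cInd x (Subgroup.inclusion hKH l)) := by
    intro x
    have hset : ∀ l : K, (∃ y : H, (y : G) * (l : G) * (y : G)⁻¹ = x) ↔
        IsConj x (Subgroup.inclusion hKH l) := by
      intro l
      rw [isConj_comm, isConj_iff]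
      constructor
      · rintro ⟨y, hy⟩; exact ⟨y, Subtype.ext hy⟩
      · rintro ⟨y, hy⟩; exact ⟨y, congrArg Subtype.val hy⟩
    unfold inducedCentralCharIn omg
    rw [Finset.sum_div, finsum_mem_eq_finite_toFinset_sum _ (Set.toFinite _)]
    rw [← Finset.sum_subset (Finset.subset_univ (Set.toFinite
      {l : K | ∃ y : H, (y : G) * (l : G) * (y : G)⁻¹ = x}).toFinset)]
    · apply Finset.sum_congr rfl
      intro l hl
      rw [Set.Finite.mem_toFinset] at hl
      have h3 := CfsgLib.CharInt.cInd_of ((hset l).1 hl)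
      simp only [h3, one_mul]
    · intro l _ hl
      rw [Set.Finite.mem_toFinset] at hl
      have h3 := CfsgLib.CharInt.cInd_not (fun h => hl ((hset l).2 h))
      simp only [h3, zero_mul, zero_div]
  have hval : omg (ξ : K → ℂ) (fun l : K => fou (ind d) (Subgroup.inclusion hKH l)) =
      ∑ C : ConjClasses H, fou (ind d) (Quotient.out C) *
        inducedCentralCharIn H K (ξ : K → ℂ) ((Quotient.out C : H) : G) := by
    simp only [hind]
    unfold omg
    have h2 : ∀ l : K, fou (ind d) (Subgroup.inclusion hKH l) * (ξ : K → ℂ) l =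
        ∑ C : ConjClasses H, fou (ind d) (Quotient.out C) *
          (CfsgLib.CharInt.cInd (Quotient.out C) (Subgroup.inclusion hKH l) * (ξ : K → ℂ) l) := by
      intro l
      rw [CfsgLib.BlockInd.classFun_eq_sum (fou_classFun (ind d)) (Subgroup.inclusion hKH l),
        Finset.sum_mul]
      apply Finset.sum_congr rfl
      intro C _
      ring
    simp only [h2]
    rw [Finset.sum_comm, Finset.sum_div]
    apply Finset.sum_congr rfl
    intro C _
    rw [← Finset.mul_sum, mul_div_assoc]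
  have h1 : MemLocalIdeal M (omg (ξ : K → ℂ)
      (fun l : K => fou (ind d) (Subgroup.inclusion hKH l)) - ind d χ) := by
    rw [hval, eq_sum_fou (ind d) χ, ← Finset.sum_sub_distrib]
    apply LocR.memI_sum
    intro C _
    rw [← mul_sub]
    exact LocR.memI_mul_left (AR_ind_block hP hd _) (h.2.2 ξ hξ χ hχ _)
  rw [ind_of hχ] at h1
  have h2 : (fun l : K => blockCoeff d (Subgroup.inclusion hKH l)) =
      fun l : K => fou (ind d) (Subgroup.inclusion hKH l) := by
    funext l
    rw [blockCoeff_eq_fou]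
  rw [h2]; exact h1

end IndBr2

section HK

variable {M : Ideal AlgInt} [hP : M.IsPrime] [hMx : M.IsMaximal] {p : ℕ} [hp : Fact p.Prime]
variable {G : Type*} [Group G] [Fintype G]

/-- covered blocks have defect group `D ⊓ N` up to conjugation -/
theorem exists_cover_inter (hM : IsPModular p M) {H N D : Subgroup G} (hNH : N ≤ H)
    (hN : H ≤ Subgroup.normalizer (N : Set G)) {b : MonoidAlgebra (kM M) G} (hb : IsBlk H b)
    (hD : IsDef p H b D) : ∃ c, IsBlk N c ∧ b * c ≠ 0 ∧ IsDef p N c (D ⊓ N) := by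
  haveI := charP_kM hM
  obtain ⟨c, hc, hfx, hbc⟩ := exists_stable_cover hNH hN hb hD.le hD.pg hD.br
  refine ⟨c, hc, ?_, (knorr hM hNH hN hb hD hc hfx hbc).2.2⟩
  intro h0
  apply hbc
  rw [← br_mul hD.pg (fx_mono hD.le hb.zh.2) hfx, h0, br_zero]

/-- the key computation: `Br_Q(b d) c = e c` -/
theorem cover_up (hM : IsPModular p M) {H N Q : Subgroup G} (hQp : IsPGroup p Q) (hQN : Q ≤ N)
    {b c d : MonoidAlgebra (kM M) G} (hb : ZH ⊤ b) (hd : ZH N d) (hbc : Br Q b * c = c)
    (hcov : c * Br Q d ≠ 0) (hcH : ZH H c) (hdH : Supp H (Br Q d)) : b * d ≠ 0 := by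
  haveI := charP_kM hM
  intro h0
  apply hcov
  have h1 : Br Q b * Br Q d = 0 := by
    rw [← br_mul hQp (fx_mono le_top hb.2) (fx_mono hQN hd.2), h0, br_zero]
  calc c * Br Q d = Br Q b * (c * Br Q d) := by rw [← mul_assoc, hbc]
    _ = Br Q b * (Br Q d * c) := by rw [comm_of_fx_supp hcH.2 hdH]
    _ = 0 := by rw [← mul_assoc, h1, zero_mul]

theorem hk_defect (hM : IsPModular p M) {N Q D : Subgroup G}
    (hN : (⊤ : Subgroup G) ≤ Subgroup.normalizer (N : Set G)) (hQp : IsPGroup p Q) (hQN : Q ≤ N)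
    {c e : MonoidAlgebra (kM M) G} (hc : IsBlk (Subgroup.normalizer (Q : Set G)) c)
    (hD : IsDef p (Subgroup.normalizer (Q : Set G)) c D)
    (he : IsBlk (NH N Q) e) (heQ : IsDef p (NH N Q) e Q) (hce : c * e ≠ 0) :
    Q ≤ D ∧ D ⊓ N = Q := by
  haveI := charP_kM hM
  have hQH : Q ≤ Subgroup.normalizer (Q : Set G) := Subgroup.le_normalizer
  have hQD : Q ≤ D := hD.normal_le hc hQH hQp le_rfl
  have hLH : NH N Q ≤ Subgroup.normalizer (Q : Set G) := inf_le_right
  have hHL : Subgroup.normalizer (Q : Set G) ≤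
      Subgroup.normalizer ((NH N Q : Subgroup G) : Set G) := by
    intro x hx
    apply mem_normalizer_of_cS
    show cS x (N ⊓ Subgroup.normalizer (Q : Set G)) = N ⊓ Subgroup.normalizer (Q : Set G)
    rw [cS_inf, cS_of_mem hx, cS_of_normalizer (hN (Subgroup.mem_top x))]
  refine ⟨hQD, ?_⟩
  obtain ⟨e', he', hce', hD'⟩ := exists_cover_inter hM hLH hHL hc hD
  obtain ⟨x, hx, rfl⟩ := blocks_conj hLH hHL hc he he' hce hce'
  have h1 : IsDef p (NH N Q) (cj x e) Q := by
    have h2 := heQ.cj x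
    rwa [cS_of_normalizer (hHL hx), cS_of_normalizer hx] at h2
  obtain ⟨y, hy, h2⟩ := h1.isConj hD'
  rw [cS_of_normalizer (hLH hy)] at h2
  rw [← h2]
  apply le_antisymm
  · exact le_inf inf_le_left (le_inf inf_le_right (inf_le_left.trans hD.le))
  · exact le_inf inf_le_left (inf_le_right.trans inf_le_left)

theorem hk_norm {N D Q : Subgroup G} (hN : (⊤ : Subgroup G) ≤ Subgroup.normalizer (N : Set G))
    (h : D ⊓ N = Q) : NH ⊤ D ≤ Subgroup.normalizer (Q : Set G) := by
  intro x hx
  apply mem_normalizer_of_cS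
  rw [← h, cS_inf, cS_of_normalizer (hN (Subgroup.mem_top x)), cS_of_normalizer hx.2]

/-- the induced block has the same defect group and the same Brauer correspondent -/
theorem hk_up (hM : IsPModular p M) {N Q D : Subgroup G}
    (hN : (⊤ : Subgroup G) ≤ Subgroup.normalizer (N : Set G)) (hQD : Q ≤ D) (hDN : D ⊓ N = Q)
    {c B : MonoidAlgebra (kM M) G} (hc : IsBlk (Subgroup.normalizer (Q : Set G)) c)
    (hD : IsDef p (Subgroup.normalizer (Q : Set G)) c D) (hB : IsBlk ⊤ B)
    (hBc : Br Q B * c = c) : IsDef p ⊤ B D ∧ Br D B = Br D c := by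
  haveI := charP_kM hM
  obtain ⟨B', hB', hD', hbr⟩ := corr_up le_top (hk_norm hN hDN) hc hD
  have h1 : Br D c = Br D B * Br D c := by
    have hfx : Fx D (Br Q B) := by
      refine fx_mono hD.le ?_
      exact fx_br le_rfl (fx_mono le_top hB.zh.2)
    calc Br D c = Br D (Br Q B * c) := by rw [hBc]
      _ = Br D (Br Q B) * Br D c := br_mul hD.pg hfx (fx_mono hD.le hc.zh.2)
      _ = Br D B * Br D c := by rw [br_br hQD]
  have h2 : B = B' := by
    refine hB.eq_of_mul_ne hB' ?_
    intro h0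
    apply hD.br
    rw [h1, ← hbr, ← br_mul hD.pg (fx_mono le_top hB.zh.2) (fx_mono le_top hB'.zh.2), h0, br_zero]
  rw [h2]
  exact ⟨hD', hbr⟩

/-- conversely the block with the same Brauer correspondent induces -/
theorem hk_eq {Q D : Subgroup G} (hM : IsPModular p M) (hQD : Q ≤ D)
    {c B B' : MonoidAlgebra (kM M) G} (hc : IsBlk (Subgroup.normalizer (Q : Set G)) c)
    (hD : IsDef p (Subgroup.normalizer (Q : Set G)) c D) (hB : IsBlk ⊤ B) (hB' : IsBlk ⊤ B')
    (hBc : Br Q B * c = c) (hbr : Br D B' = Br D c) : B = B' := by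
  haveI := charP_kM hM
  have h1 : Br D c = Br D B * Br D c := by
    have hfx : Fx D (Br Q B) := by
      refine fx_mono hD.le ?_
      exact fx_br le_rfl (fx_mono le_top hB.zh.2)
    calc Br D c = Br D (Br Q B * c) := by rw [hBc]
      _ = Br D (Br Q B) * Br D c := br_mul hD.pg hfx (fx_mono hD.le hc.zh.2)
      _ = Br D B * Br D c := by rw [br_br hQD]
  refine hB.eq_of_mul_ne hB' ?_
  intro h0
  apply hD.br
  rw [h1, ← hbr, ← br_mul hD.pg (fx_mono le_top hB.zh.2) (fx_mono le_top hB'.zh.2), h0, br_zero]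

/-- uniqueness -/
theorem hk_inj (hM : IsPModular p M) {N Q : Subgroup G}
    (hN : (⊤ : Subgroup G) ≤ Subgroup.normalizer (N : Set G)) (hQp : IsPGroup p Q) (hQN : Q ≤ N)
    {c c' e B : MonoidAlgebra (kM M) G} (hc : IsBlk (Subgroup.normalizer (Q : Set G)) c)
    (hc' : IsBlk (Subgroup.normalizer (Q : Set G)) c')
    (he : IsBlk (NH N Q) e) (heQ : IsDef p (NH N Q) e Q) (hce : c * e ≠ 0) (hce' : c' * e ≠ 0)
    (hB : IsBlk ⊤ B) (hBc : Br Q B * c = c) (hBc' : Br Q B * c' = c') : c = c' := by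
  haveI := charP_kM hM
  obtain ⟨D, hD⟩ := exists_isDef (p := p) hc
  obtain ⟨D', hD'⟩ := exists_isDef (p := p) hc'
  obtain ⟨h1, h2⟩ := hk_defect hM hN hQp hQN hc hD he heQ hce
  obtain ⟨h1', h2'⟩ := hk_defect hM hN hQp hQN hc' hD' he heQ hce'
  obtain ⟨h3, h4⟩ := hk_up hM hN h1 h2 hc hD hB hBc
  obtain ⟨h3', h4'⟩ := hk_up hM hN h1' h2' hc' hD' hB hBc'
  obtain ⟨g, _, hg⟩ := h3'.isConj h3
  -- g normalizes Q
  have hgQ : g ∈ Subgroup.normalizer (Q : Set G) := by
    apply mem_normalizer_of_cS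
    calc cS g Q = cS g (D' ⊓ N) := by rw [h2']
      _ = cS g D' ⊓ N := by rw [cS_inf, cS_of_normalizer (hN (Subgroup.mem_top g))]
      _ = Q := by rw [← hg, h2]
  have hD'' : IsDef p (Subgroup.normalizer (Q : Set G)) c' D := by
    rw [hg]; exact hD'.conj hgQ
  obtain ⟨_, h5⟩ := hk_up hM hN h1 h2 hc' hD'' hB hBc'
  exact corr_inj hD.le hD.pg hc hc' (h4.symm.trans h5) hD.br

/-- existence -/
theorem hk_down (hM : IsPModular p M) {N Q : Subgroup G}
    (hN : (⊤ : Subgroup G) ≤ Subgroup.normalizer (N : Set G)) (hQp : IsPGroup p Q) (hQN : Q ≤ N)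
    {d B : MonoidAlgebra (kM M) G} (hB : IsBlk ⊤ B) (hd : IsBlk N d) (hdQ : IsDef p N d Q)
    (hBd : B * d ≠ 0) : ∃ c D, IsBlk (Subgroup.normalizer (Q : Set G)) c ∧
      IsDef p (Subgroup.normalizer (Q : Set G)) c D ∧ Q ≤ D ∧ D ⊓ N = Q ∧ Br D B = Br D c := by
  haveI := charP_kM hM
  obtain ⟨D, hD⟩ := exists_isDef (p := p) hB
  obtain ⟨d', hd', hBd', hD'⟩ := exists_cover_inter hM (N := N) le_top hN hB hD
  obtain ⟨x, _, rfl⟩ := blocks_conj le_top hN hB hd hd' hBd hBd'
  have h1 : IsDef p N (cj x d) (cS x Q) := by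
    have h2 := hdQ.cj x
    rwa [cS_of_normalizer (hN (Subgroup.mem_top x))] at h2
  obtain ⟨y, hy, h2⟩ := h1.isConj hD'
  -- D1 := (y x)⁻¹ D
  rw [cS_cS] at h2
  set g := y * x with hg
  have h3 : cS g⁻¹ D ⊓ N = Q := by
    have h4 : cS g⁻¹ (D ⊓ N) = Q := by rw [h2, cS_inv_cS]
    rwa [cS_inf, cS_of_normalizer (hN (Subgroup.mem_top g⁻¹))] at h4
  have h5 : IsDef p ⊤ B (cS g⁻¹ D) := hD.conj (Subgroup.mem_top _)
  obtain ⟨c, hc, hcD, hbr⟩ := corr_down le_top (hk_norm hN h3) hB h5
  exact ⟨c, _, hc, hcD, by rw [← h3]; exact inf_le_left, h3, hbr⟩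

/-- the block of `N_G(Q)` obtained covers `e = Br_Q(d)` -/
theorem hk_cover (hM : IsPModular p M) {N Q D : Subgroup G}
    (hN : (⊤ : Subgroup G) ≤ Subgroup.normalizer (N : Set G)) (hQp : IsPGroup p Q) (hQN : Q ≤ N)
    {c d B : MonoidAlgebra (kM M) G} (hB : IsBlk ⊤ B) (hd : IsBlk N d) (hdQ : IsDef p N d Q)
    (hBd : B * d ≠ 0) (hc : IsBlk (Subgroup.normalizer (Q : Set G)) c)
    (hD : IsDef p (Subgroup.normalizer (Q : Set G)) c D) (hDN : D ⊓ N = Q)
    (hBc : Br Q B * c = c) : c * Br Q d ≠ 0 := by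
  haveI := charP_kM hM
  have hLH : NH N Q ≤ Subgroup.normalizer (Q : Set G) := inf_le_right
  have hHL : Subgroup.normalizer (Q : Set G) ≤
      Subgroup.normalizer ((NH N Q : Subgroup G) : Set G) := by
    intro x hx
    apply mem_normalizer_of_cS
    show cS x (N ⊓ Subgroup.normalizer (Q : Set G)) = N ⊓ Subgroup.normalizer (Q : Set G)
    rw [cS_inf, cS_of_mem hx, cS_of_normalizer (hN (Subgroup.mem_top x))]
  obtain ⟨e', he', hce', hD'⟩ := exists_cover_inter hM hLH hHL hc hD
  have hDL : D ⊓ NH N Q = Q := by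
    apply le_antisymm
    · rw [← hDN]; exact le_inf inf_le_left (inf_le_right.trans inf_le_left)
    · have h1 : Q ≤ D := by rw [← hDN]; exact inf_le_left
      exact le_inf h1 (le_inf hQN (h1.trans hD.le))
  rw [hDL] at hD'
  obtain ⟨d', hd', hdD', rfl⟩ := exists_corr hQN he' hD'
  have hdH : Supp (Subgroup.normalizer (Q : Set G)) (Br Q d') := supp_mono hLH he'.zh.1
  have hBd' : B * d' ≠ 0 := cover_up hM hQp hQN hB.zh hd'.zh hBc hce' hc.zh hdH
  obtain ⟨g, _, rfl⟩ := blocks_conj le_top hN hB hd hd' hBd hBd'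
  have h1 : IsDef p N (cj g d) (cS g Q) := by
    have h2 := hdQ.cj g
    rwa [cS_of_normalizer (hN (Subgroup.mem_top g))] at h2
  obtain ⟨n, hn, h2⟩ := hdD'.isConj h1
  set h := n⁻¹ * g with hh
  have hhQ : h ∈ Subgroup.normalizer (Q : Set G) := by
    apply mem_normalizer_of_cS
    rw [hh, ← cS_cS, h2, cS_inv_cS]
  have h3 : cj h d = cj g d := by
    rw [hh, ← cj_cj]
    exact fx_iff.1 hd'.zh.2 _ (N.inv_mem hn)
  intro h0
  apply hce'
  have h4 : Br Q (cj g d) = cj h (Br Q d) := by
    rw [← h3, cj_br]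
    have h5 : Q.map (MulAut.conj h).toMonoidHom = Q := cS_of_normalizer hhQ
    rw [h5]
  rw [h4]
  have h5 : c = cj h c := (fx_iff.1 hc.zh.2 h hhQ).symm
  rw [h5, ← cj_mul, h0, cj_zero]

end HK

end CfsgLib.BrP
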