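import Mathlib
import Cfsg.Agent.EqBase
import Cfsg.Agent.LibBrP19
import Cfsg.Agent.S5083
import Cfsg.Agent.LibFus21Alp2

/-!
# Brauer pairs, XX: nilpotent blocks (helper18)
-/

set_option autoImplicit false
set_option linter.unusedSectionVars false
set_option linter.style.haveILetI false
set_option linter.unusedSimpArgs false
set_option linter.unusedVariables false

namespace CfsgLib.BrP

open Cfsg CfsgLib.LocR CfsgLib.BlockCore CfsgLib.BlockIdem

section Elem

variable {G : Type*} [Group G] {p : ℕ} [hp : Fact p.Prime]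

theorem pow_regular [Finite G] (x : G) : ∃ k : ℕ, ¬ p ∣ orderOf (x ^ p ^ k) := by
  have hpos : orderOf x ≠ 0 := (orderOf_pos x).ne'
  obtain ⟨k, m, hm, h⟩ := Nat.exists_eq_pow_mul_and_not_dvd hpos p hp.out.ne_one
  refine ⟨k, ?_⟩
  have h1 : orderOf (x ^ p ^ k) = m := by
    rw [orderOf_pow, h, Nat.gcd_eq_right (dvd_mul_right _ _),
      Nat.mul_div_cancel_left _ (pow_pos hp.out.pos k)]
  rw [h1]; exact hm

/-- a `p`-regular element is a power of its `p^k`-th power -/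
theorem mem_of_pow_mem [Finite G] {x : G} (hx : ¬ p ∣ orderOf x) {k : ℕ} {C : Subgroup G}
    (h : x ^ p ^ k ∈ C) : x ∈ C := by
  have hc : Nat.Coprime (orderOf x) (p ^ k) :=
    Nat.Coprime.pow_right k ((Nat.Prime.coprime_iff_not_dvd hp.out).2 hx).symm
  obtain ⟨m, hm⟩ := exists_pow_eq_self_of_coprime hc.symm
  rw [← hm]
  exact C.pow_mem h m

/-- stabilizing `Q₀ ≤ Q` -/
theorem coprime_stab [Finite G] {x : G} {Q Q₀ : Subgroup G} (hx : ¬ p ∣ orderOf x)
    (hQp : IsPGroup p Q) (h0 : x ∈ Subgroup.centralizer (Q₀ : Set G)) (hle : Q₀ ≤ Q)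
    (h : ∀ q ∈ Q, q⁻¹ * (x * q * x⁻¹) ∈ Q₀) : x ∈ Subgroup.centralizer (Q : Set G) := by
  rw [Subgroup.mem_centralizer_iff]
  intro q hq
  set z := q⁻¹ * (x * q * x⁻¹) with hz
  have hzQ := h q hq
  have hxz : x * z * x⁻¹ = z := by
    have := Subgroup.mem_centralizer_iff.1 h0 z hzQ
    rw [← this, mul_inv_cancel_right]
  have h1 : ∀ n : ℕ, x ^ n * q * (x ^ n)⁻¹ = q * z ^ n := by
    intro n
    induction n with
    | zero => simp
    | succ n ih =>
      have e1 : x ^ (n + 1) * q * (x ^ (n + 1))⁻¹ = x * (x ^ n * q * (x ^ n)⁻¹) * x⁻¹ := by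
        rw [pow_succ' x n]; group
      have e2 : x * (z ^ n) * x⁻¹ = z ^ n := by
        rw [← conj_pow, hxz]
      rw [e1, ih]
      calc x * (q * z ^ n) * x⁻¹ = (x * q * x⁻¹) * (x * z ^ n * x⁻¹) := by group
        _ = (q * z) * z ^ n := by rw [e2, hz]; group
        _ = q * z ^ (n + 1) := by rw [pow_succ' z n, mul_assoc]
  have h2 := h1 (orderOf x)
  rw [pow_orderOf_eq_one] at h2
  have h3 : z ^ orderOf x = 1 := by
    have : q = q * z ^ orderOf x := by simpa using h2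
    exact (mul_eq_left.1 this.symm)
  obtain ⟨k, hk⟩ := hQp ⟨z, hle hzQ⟩
  have hk' : z ^ p ^ k = 1 := congrArg Subtype.val hk
  have h4 : z = 1 := by
    have hc : Nat.Coprime (orderOf x) (p ^ k) :=
      Nat.Coprime.pow_right k ((Nat.Prime.coprime_iff_not_dvd hp.out).2 hx).symm
    have h5 : orderOf z ∣ 1 := by
      rw [← Nat.Coprime.gcd_eq_one hc]
      exact Nat.dvd_gcd (orderOf_dvd_of_pow_eq_one h3) (orderOf_dvd_of_pow_eq_one hk')
    exact orderOf_eq_one_iff.1 (Nat.dvd_one.1 h5)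
  have h5 : x * q * x⁻¹ = q := by
    have : q⁻¹ * (x * q * x⁻¹) = 1 := by rw [← hz]; exact h4
    exact (inv_mul_eq_one.1 this).symm
  calc q * x = x * q * x⁻¹ * x := by rw [h5]
    _ = x * q := by group

end Elem

section Nil

variable {k : Type*} [Field k] {G : Type*} [Group G] [Fintype G] {p : ℕ}
variable [hp : Fact p.Prime] [CharP k p]

/-- nilpotent blocks at the level of Brauer pairs -/
def Nilp (p : ℕ) (H : Subgroup G) (B : MonoidAlgebra k G) : Prop :=
  ∀ (Q : Subgroup G) (f : MonoidAlgebra k G), Of p H B Q f → ∀ x ∈ TS H Q f, ¬ p ∣ orderOf x →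
    x ∈ Subgroup.centralizer (Q : Set G)

/-- inner fusion -/
def Inn' (p : ℕ) (H P : Subgroup G) (e : MonoidAlgebra k G) : Prop :=
  ∀ Q ≤ P, ∀ g ∈ H, Tn p H P e g Q → ∃ u ∈ P, ∀ x ∈ Q, g * x * g⁻¹ = u * x * u⁻¹

/-- the stabilizer of a larger pair -/
theorem mem_TS_of_le {H P Q : Subgroup G} {e f : MonoidAlgebra k G} (hP : BP p H P e)
    (hle : LEp p H (Q, f) (P, e)) {x : G} (hx : x ∈ TS H P e)
    (hxQ : x ∈ Subgroup.normalizer (Q : Set G)) : x ∈ TS H Q f := by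
  refine ⟨hx.1, hxQ, ?_⟩
  have h1 := hle.cj' hx.1
  dsimp only at h1
  rw [cS_of_normalizer hx.2.1, hx.2.2, cS_of_normalizer hxQ] at h1
  exact LEp.unique hP h1 hle

theorem tn_of_TS {H P Q : Subgroup G} {e f : MonoidAlgebra k G}
    (hle : LEp p H (Q, f) (P, e)) {x : G} (hx : x ∈ TS H Q f) : Tn p H P e x Q := by
  refine ⟨f, hle, ?_⟩
  rw [cS_of_normalizer hx.2.1, hx.2.2]; exact hle

theorem nilp_of_inn {H P : Subgroup G} {B e : MonoidAlgebra k G} (hB : IsBlk H B)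
    (hmx : IsMx p H B P e) (h : Inn' p H P e) : Nilp p H B := by
  intro Q f hQ x hx hxp
  obtain ⟨g, hg, hle⟩ := hmx.ge hB hQ
  set y := g * x * g⁻¹ with hy
  have hyT : y ∈ TS H (cS g Q) (cj g f) := by
    refine ⟨H.mul_mem (H.mul_mem hg hx.1) (H.inv_mem hg), ?_, ?_⟩
    · rw [mem_normalizer_iff_cS, cS_cS]
      have e1 : y * g = g * x := by rw [hy]; group
      rw [e1, ← cS_cS, cS_of_normalizer hx.2.1]
    · rw [cj_cj]
      have e1 : y * g = g * x := by rw [hy]; group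
      rw [e1, ← cj_cj, hx.2.2]
  obtain ⟨u, hu, h1⟩ := h _ hle.le y hyT.1 (tn_of_TS hle hyT)
  -- y and u act in the same way on Q' = cS g Q
  have hyp : ¬ p ∣ orderOf y := by
    have : orderOf y = orderOf x := by
      have : y = MulAut.conj g x := rfl
      rw [this]; exact MulEquiv.orderOf_eq (MulAut.conj g) x
    rw [this]; exact hxp
  have h2 : ∀ n : ℕ, ∀ q ∈ cS g Q, y ^ n * q * (y ^ n)⁻¹ = u ^ n * q * (u ^ n)⁻¹ := by
    intro n
    induction n with
    | zero => intro q _; simp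
    | succ n ih =>
      intro q hq
      have h3 : y * q * y⁻¹ ∈ cS g Q := (Subgroup.mem_normalizer_iff.1 hyT.2.1 q).1 hq
      calc y ^ (n + 1) * q * (y ^ (n + 1))⁻¹ = y ^ n * (y * q * y⁻¹) * (y ^ n)⁻¹ := by
            rw [pow_succ]; group
        _ = u ^ n * (y * q * y⁻¹) * (u ^ n)⁻¹ := ih _ h3
        _ = u ^ n * (u * q * u⁻¹) * (u ^ n)⁻¹ := by rw [h1 q hq]
        _ = u ^ (n + 1) * q * (u ^ (n + 1))⁻¹ := by rw [pow_succ u n]; group
  obtain ⟨n, hn⟩ := hmx.1.1.pg ⟨u, hu⟩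
  have hn' : u ^ p ^ n = 1 := congrArg Subtype.val hn
  have h4 : y ^ p ^ n ∈ Subgroup.centralizer ((cS g Q : Subgroup G) : Set G) := by
    rw [Subgroup.mem_centralizer_iff]
    intro q hq
    have h5 := h2 (p ^ n) q hq
    rw [hn'] at h5
    have h6 : y ^ p ^ n * q * (y ^ p ^ n)⁻¹ = q := by simpa using h5
    calc q * y ^ p ^ n = y ^ p ^ n * q * (y ^ p ^ n)⁻¹ * y ^ p ^ n := by rw [h6]
      _ = y ^ p ^ n * q := by group
  have h5 := mem_of_pow_mem hyp h4
  rw [centralizer_cS, mem_cS] at h5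
  have e1 : g⁻¹ * y * g = x := by rw [hy]; group
  rwa [e1] at h5

/-- for a nilpotent block the automorphism groups are `p`-groups -/
theorem autGroup_pgroup {H P : Subgroup G} {B e : MonoidAlgebra k G} (hB : IsBlk H B)
    (hmx : IsMx p H B P e) (h : Nilp p H B) {Q : Subgroup G} (hQ : Q ≤ P) :
    IsPGroup p ((fusBP hmx.1.1).autGroup Q) := by
  rintro ⟨α, hα⟩
  obtain ⟨f, hf⟩ := exists_le_pair hmx.1.1 hQ
  have hof := hmx.1.of_le hB hf
  have hα' := (CfsgLib.Fus21.mem_autGroup hQ).1 hα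
  obtain ⟨_, g, hg, hφ, hT⟩ := hα'
  have hval : ∀ u : Q, ((α u : Q) : G) = g * (u : G) * g⁻¹ := hφ
  have hgN : g ∈ Subgroup.normalizer (Q : Set G) := by
    apply mem_normalizer_of_cS
    refine Subgroup.eq_of_le_of_card_ge ?_ (by rw [card_cS])
    rintro _ ⟨x, hx, rfl⟩
    have := hval ⟨x, hx⟩
    show g * x * g⁻¹ ∈ Q
    rw [← this]; exact (α ⟨x, hx⟩).2
  have hgT : g ∈ TS H Q f := by
    obtain ⟨x, hx, hx'⟩ := hT
    have : x = f := LEp.unique hmx.1.1 hx hf
    subst this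
    rw [cS_of_normalizer hgN] at hx'
    exact ⟨hg, hgN, LEp.unique hmx.1.1 hx' hf⟩
  obtain ⟨n, hn⟩ := pow_regular (p := p) g
  have h1 := h Q f hof _ ((TS H Q f).pow_mem hgT _) hn
  refine ⟨n, Subtype.ext ?_⟩
  have h2 : ∀ m : ℕ, ∀ u : Q, (((α ^ m) u : Q) : G) = g ^ m * (u : G) * (g ^ m)⁻¹ := by
    intro m
    induction m with
    | zero => intro u; simp
    | succ m ih =>
      intro u
      rw [pow_succ, MulAut.mul_apply, ih, hval, pow_succ]
      group
  apply MulEquiv.ext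
  intro u
  apply Subtype.ext
  show (((α ^ p ^ n) u : Q) : G) = u
  rw [h2, ← Subgroup.mem_centralizer_iff.1 h1 u u.2]
  group

theorem inn_of_nilp [IsAlgClosed k] {H P : Subgroup G} {B e : MonoidAlgebra k G} (hB : IsBlk H B)
    (hmx : IsMx p H B P e) (h : Nilp p H B) : Inn' p H P e := by
  intro Q hQ g hg hT
  have hinn : fusBP hmx.1.1 = innerFusionSystem P :=
    Cfsg.Agent.S5083.result p hmx.1.1.pg _ (fusBP_saturated hB hmx)
      (fun R hR => autGroup_pgroup hB hmx h hR)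
  have h1 : conjHom Q g ∈ (fusBP hmx.1.1).Hom Q := ⟨hQ, g, hg, fun u => rfl, hT⟩
  rw [hinn] at h1
  obtain ⟨_, u, hu, h2⟩ := h1
  exact ⟨u, hu, fun x hx => h2 ⟨x, hx⟩⟩

theorem nilp_iff_inn [IsAlgClosed k] {H P : Subgroup G} {B e : MonoidAlgebra k G} (hB : IsBlk H B)
    (hmx : IsMx p H B P e) : Nilp p H B ↔ Inn' p H P e :=
  ⟨inn_of_nilp hB hmx, nilp_of_inn hB hmx⟩

/-! ### local blocks -/

theorem CH_sup (H Q R : Subgroup G) : CH H (Q ⊔ R) = CH (CH H Q) R := by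
  ext g
  constructor
  · rintro ⟨h1, h2⟩
    have h3 := mem_centralizer_sup.1 h2
    exact ⟨⟨h1, h3.1⟩, h3.2⟩
  · rintro ⟨⟨h1, h2⟩, h3⟩
    exact ⟨h1, mem_centralizer_sup.2 ⟨h2, h3⟩⟩

/-- a Brauer pair of the local block gives a Brauer pair above -/
theorem nrm_of_local {H Q R : Subgroup G} {f g : MonoidAlgebra k G} (hQ : BP p H Q f)
    (hR : Of p (CH H Q) f R g) : Nrm p H Q f (Q ⊔ R) g := by
  have hRC : R ≤ Subgroup.centralizer (Q : Set G) := hR.1.le.trans inf_le_right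
  have hRN : R ≤ Subgroup.normalizer (Q : Set G) := hRC.trans (centralizer_le_normalizer Q)
  have hp1 : IsPGroup p (Q ⊔ R : Subgroup G) := isPGroup_sup hQ.pg hR.1.pg hRN
  refine ⟨hQ, ⟨sup_le hQ.le (hR.1.le.trans inf_le_left), hp1, ?_⟩, le_sup_left,
    sup_le Subgroup.le_normalizer hRN, ?_, ?_⟩
  · rw [CH_sup]; exact hR.1.blk
  · have h1 : Q ⊔ R ≤ TS H Q f := sup_le (le_TS hQ) (hR.1.le.trans (CH_le_TS hQ))
    rw [fx_iff]; intro x hx; exact (h1 hx).2.2
  · rw [br_sup hQ.supp]; exact hR.2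

theorem TS_local {H Q R : Subgroup G} {f g : MonoidAlgebra k G} :
    TS (CH H Q) R g ≤ TS H (Q ⊔ R) g := by
  intro x hx
  refine ⟨hx.1.1, ?_, hx.2.2⟩
  rw [mem_normalizer_iff_cS]
  have h1 : cS x (Q ⊔ R) = cS x Q ⊔ cS x R := Subgroup.map_sup _ _ _
  rw [h1, cS_of_normalizer (centralizer_le_normalizer Q hx.1.2), cS_of_normalizer hx.2.1]

theorem nilp_local {H Q : Subgroup G} {B f : MonoidAlgebra k G} (hB : IsBlk H B)
    (h : Nilp p H B) (hQ : Of p H B Q f) : Nilp p (CH H Q) f := by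
  intro R g hR x hx hxp
  have h1 := nrm_of_local hQ.1 hR
  have h2 : Of p H B (Q ⊔ R) g :=
    hQ.of_ge hB h1.bpP (Relation.ReflTransGen.single h1)
  have h3 := h _ _ h2 x (TS_local (f := f) hx) hxp
  exact (mem_centralizer_sup.1 h3).2

/-- `C_P(Q)` is a defect group of the local block -/
theorem inn_def {H P Q : Subgroup G} {B e f : MonoidAlgebra k G} (hB : IsBlk H B)
    (hmx : IsMx p H B P e) (h : Inn' p H P e) (hle : LEp p H (Q, f) (P, e)) :
    IsDef p (CH H Q) f (P ⊓ Subgroup.centralizer (Q : Set G)) := by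
  have hof := hmx.1.of_le hB hle
  obtain ⟨D, hD⟩ := exists_isDef (p := p) hof.1.blk
  obtain ⟨y, hy, h4⟩ := cent_le_defect hmx.1.1 hle hD
  obtain ⟨x, hxH, h1, h2, _⟩ := exists_cent hB hmx hof hD
  obtain ⟨u, hu, hux⟩ := h Q hle.le x hxH ⟨f, hle, h1⟩
  have h5 : cS x Q = cS u Q := by
    ext z
    constructor
    · rintro ⟨q, hq, rfl⟩
      exact ⟨q, hq, (hux q hq).symm⟩
    · rintro ⟨q, hq, rfl⟩
      exact ⟨q, hq, hux q hq⟩
  have h6 : Nat.card D ≤ Nat.card (P ⊓ Subgroup.centralizer (Q : Set G) : Subgroup G) := by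
    have h7 : P ⊓ Subgroup.centralizer ((cS x Q : Subgroup G) : Set G) =
        cS u (P ⊓ Subgroup.centralizer (Q : Set G)) := by
      rw [h5, centralizer_cS, cS_inf, cS_of_mem hu]
    rw [← card_cS u (P ⊓ Subgroup.centralizer (Q : Set G)), ← h7, ← h2, card_cS]
  rw [cS_eq_of_le_card h4 h6]
  exact hD.conj hy

/-- abelian defect group -/
theorem nilp_abelian [IsAlgClosed k] {H P : Subgroup G} {B e : MonoidAlgebra k G} (hB : IsBlk H B)
    (hmx : IsMx p H B P e) (hab : ∀ x ∈ P, ∀ y ∈ P, x * y = y * x) :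
    Nilp p H B ↔ TS H P e ≤ Subgroup.centralizer (P : Set G) := by
  constructor
  · intro h x hx
    obtain ⟨u, hu, h1⟩ := inn_of_nilp hB hmx h P le_rfl x hx.1
      (tn_of_TS Relation.ReflTransGen.refl hx)
    rw [Subgroup.mem_centralizer_iff]
    intro y hy
    have h2 := h1 y hy
    rw [hab u hu y hy, mul_inv_cancel_right] at h2
    calc y * x = (x * y * x⁻¹) * x := by rw [h2]
      _ = x * y := by group
  · intro h Q f hQ x hx hxp
    obtain ⟨g, hg, hle⟩ := hmx.ge hB hQ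
    have hyT : g * x * g⁻¹ ∈ TS H (cS g Q) (cj g f) := by
      refine ⟨H.mul_mem (H.mul_mem hg hx.1) (H.inv_mem hg), ?_, ?_⟩
      · rw [mem_normalizer_iff_cS, cS_cS]
        have e1 : g * x * g⁻¹ * g = g * x := by group
        rw [e1, ← cS_cS, cS_of_normalizer hx.2.1]
      · rw [cj_cj]
        have e1 : g * x * g⁻¹ * g = g * x := by group
        rw [e1, ← cj_cj, hx.2.2]
    obtain ⟨y, hy, c, hc, h1⟩ := abelian_factor hB hmx hab hle hyT
    have h2 : y ∈ Subgroup.centralizer ((cS g Q : Subgroup G) : Set G) :=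
      centralizer_anti hle.le (h hy)
    have h3 : g * x * g⁻¹ ∈ Subgroup.centralizer ((cS g Q : Subgroup G) : Set G) := by
      rw [h1]; exact Subgroup.mul_mem _ h2 hc.2
    rw [centralizer_cS, mem_cS] at h3
    have e1 : g⁻¹ * (g * x * g⁻¹) * g = x := by group
    rwa [e1] at h3

/-- central defect groups give nilpotent blocks -/
theorem nilp_of_central {H D : Subgroup G} {B : MonoidAlgebra k G} (hB : IsBlk H B)
    (hD : IsDef p H B D) (hZ : ∀ x ∈ D, ∀ y ∈ H, x * y = y * x) : Nilp p H B := by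
  intro Q f hQ x hx hxp
  have hbr : Br Q B ≠ 0 := by
    intro h0
    apply hQ.1.blk.ne
    rw [← hQ.2, h0, zero_mul]
  obtain ⟨y, hy, h1⟩ := hD.ge hQ.1.le hQ.1.pg hbr
  rw [Subgroup.mem_centralizer_iff]
  intro q hq
  have h2 := h1 hq
  rw [mem_cS] at h2
  have h3 : q = y⁻¹ * q * y := by
    calc q = y * (y⁻¹ * q * y) * y⁻¹ := by group
      _ = (y⁻¹ * q * y) * y * y⁻¹ := by rw [← hZ _ h2 y hy]
      _ = y⁻¹ * q * y := by group
  rw [← h3] at h2
  exact hZ q h2 x hx.1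

end Nil

section Bridge

variable {M : Ideal AlgInt} [hP : M.IsPrime] {p : ℕ} [hp : Fact p.Prime]
variable {K : Type*} [Group K] [Finite K] {G : Type*} [Group G] [Fintype G]
variable {ι : K →* G}

theorem nilp_iff (hι : Function.Injective ι) (hM : IsPModular p M) {B : Set (IrrCharacter K)}
    (hB : IsPBlock M B) : IsNilpotentBlock p M B ↔ Nilp p ι.range (bk M ι B) := by
  unfold IsNilpotentBlock
  have key : ∀ (Q : Subgroup K) (e : Set (IrrCharacter (Subgroup.centralizer (Q : Set K)))),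
      IsPBlock M e → ∀ x : K, (x ∈ Subgroup.normalizer (Q : Set K) ∧
        StabilizesBlock (Subgroup.centralizer (Q : Set K)) e x) ↔
        ι x ∈ TS ι.range (Q.map ι) (bk M (iC ι Q) e) := by
    intro Q e he x
    rw [mem_TS, map_mem_normalizer hι, stab_iff hι he]
    constructor
    · rintro ⟨h1, h2, h3⟩; exact ⟨⟨x, rfl⟩, h1, h3⟩
    · rintro ⟨_, h1, h2⟩
      refine ⟨h1, ?_, h2⟩
      rw [mem_normalizer_iff_cS, ← centralizer_cS, cS_of_normalizer h1]
  have hord : ∀ x : K, orderOf (ι x) = orderOf x := fun x => orderOf_injective ι hι x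
  constructor
  · rintro ⟨_, h⟩ Q' f hQ x' hx' hxp
    have hQr : Q' ≤ ι.range := hQ.1.le
    obtain ⟨Q, rfl⟩ : ∃ Q : Subgroup K, Q.map ι = Q' :=
      ⟨Q'.comap ι, by rw [Subgroup.map_comap_eq, inf_eq_right]; exact hQr⟩
    obtain ⟨x, rfl⟩ := hx'.1
    obtain ⟨e, he, rfl⟩ := iC_surj hι hQ.1.blk
    have h1 : IsBrauerPairOf p M B Q e := (of_iff hι hM hB).2 ⟨he, hQ⟩
    have h2 := (key Q e he x).2 hx'
    rw [map_mem_centralizer hι]
    refine h Q e h1 x h2.1 h2.2 ?_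
    unfold IsPRegular
    rw [← hord]; exact hxp
  · intro h
    refine ⟨hB, fun Q e hQ x hx1 hx2 hxp => ?_⟩
    obtain ⟨he, h1⟩ := (of_iff hι hM hB).1 hQ
    rw [← map_mem_centralizer hι]
    refine h _ _ h1 _ ((key Q e he x).1 ⟨hx1, hx2⟩) ?_
    rw [hord]; exact hxp

theorem nilp_iff_g (hM : IsPModular p M) {B : Set (IrrCharacter G)}
    (hB : IsPBlock M B) : IsNilpotentBlock p M B ↔ Nilp p ⊤ (JB M B) := by
  rw [nilp_iff id_inj hM hB, range_id]

theorem nilp_iff_h (hM : IsPModular p M) {H : Subgroup G} {B : Set (IrrCharacter H)}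
    (hB : IsPBlock M B) : IsNilpotentBlock p M B ↔ Nilp p H (bk M H.subtype B) := by
  rw [nilp_iff (Subgroup.subtype_injective H) hM hB, Subgroup.range_subtype]

end Bridge

section Ext

variable {M : Ideal AlgInt} [hP : M.IsPrime] {p : ℕ} [hp : Fact p.Prime]
variable {G : Type*} [Group G] [Fintype G]

theorem br_zh' {k : Type*} [Field k] {H Q : Subgroup G} {c : MonoidAlgebra k G} (hc : ZH H c) :
    ZH (CH H Q) (Br Q c) :=
  ⟨supp_br Q hc.1, fx_br (inf_le_right.trans (centralizer_le_normalizer Q))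
    (fx_mono inf_le_left hc.2)⟩

theorem cj_pow_of {x : G} {a : MonoidAlgebra (kM M) G} (h : cj x a = a) (n : ℕ) :
    cj (x ^ n) a = a := by
  induction n with
  | zero => rw [pow_zero, cj_one_left]
  | succ n ih => rw [pow_succ, ← cj_cj, h, ih]

/-- the block `F` of `C_H(Q)` lies in the centre of `k C_N(Q)` when `N` has `p`-power index -/
theorem zh_of_index (hM : IsPModular p M) {H N Q : Subgroup G} (hNH : N ≤ H)
    (hN : H ≤ Subgroup.normalizer (N : Set G)) (hidx : ∃ n : ℕ, N.relIndex H = p ^ n)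
    {F : MonoidAlgebra (kM M) G} (hF : IsBlk (CH H Q) F) : ZH (CH N Q) F := by
  refine ⟨?_, fx_mono (inf_le_inf_right _ hNH) hF.zh.2⟩
  intro g hg
  by_contra hne
  apply hg
  have h1 : g ∈ CH H Q := by
    by_contra h; exact hne (hF.zh.1 g h)
  have h2 : ¬ p ∣ orderOf g := osima_supp hM hF hne
  exact ⟨mem_of_regular hNH hN hidx h1.1 h2, h1.2⟩

theorem nilp_ext (hM : IsPModular p M) {H N : Subgroup G} (hNH : N ≤ H)
    (hN : H ≤ Subgroup.normalizer (N : Set G)) (hidx : ∃ n : ℕ, N.relIndex H = p ^ n)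
    {c : MonoidAlgebra (kM M) G} (hc : IsBlk N c) (hfx : Fx H c) :
    Nilp p N c ↔ Nilp p H c := by
  haveI := charP_kM hM
  have hcH : IsBlk H c := isBlk_of_stable hM hNH hN hidx hc hfx
  constructor
  · intro h Q F hQ x hx hxp
    have hxN : x ∈ N := mem_of_regular hNH hN hidx hx.1 hxp
    set Q₀ := Q ⊓ N with hQ₀
    obtain ⟨F₀, hF₀⟩ := exists_le_pair hQ.1 (inf_le_left : Q₀ ≤ Q)
    have hxQ₀ : x ∈ Subgroup.normalizer (Q₀ : Set G) := by
      apply mem_normalizer_of_cS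
      rw [hQ₀, cS_inf, cS_of_normalizer hx.2.1, cS_of_mem hxN]
    have hx0 : x ∈ TS H Q₀ F₀ := mem_TS_of_le hQ.1 hF₀ hx hxQ₀
    have hof0 : Of p H c Q₀ F₀ := hQ.of_le hcH hF₀
    have hQ₀N : Q₀ ≤ N := inf_le_right
    have hQ₀p : IsPGroup p Q₀ := hof0.1.pg
    have hK : CH N Q₀ ≤ CH H Q₀ := inf_le_inf_right _ hNH
    have hKn : CH H Q₀ ≤ Subgroup.normalizer ((CH N Q₀ : Subgroup G) : Set G) := by
      intro y hy
      apply mem_normalizer_of_cS
      show cS y (N ⊓ Subgroup.centralizer (Q₀ : Set G)) = N ⊓ Subgroup.centralizer (Q₀ : Set G)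
      rw [cS_inf, cS_of_normalizer (hN hy.1), cS_of_mem hy.2]
    -- a block of C_N(Q₀) below F₀
    obtain ⟨s, hs, hsum⟩ := exists_blocks (k := kM M) (CH N Q₀)
    obtain ⟨f₀, hf₀s, hFf⟩ : ∃ f ∈ s, F₀ * f ≠ 0 := by
      by_contra hcon
      push Not at hcon
      apply hof0.1.blk.ne
      calc F₀ = F₀ * ∑ f ∈ s, f := by rw [hsum, mul_one]
        _ = ∑ f ∈ s, F₀ * f := Finset.mul_sum _ _ _
        _ = 0 := Finset.sum_eq_zero hcon
    have hf₀ := hs f₀ hf₀s
    have hbrz : ZH (CH N Q₀) (Br Q₀ c) := br_zh' hc.zh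
    have hbri : Br Q₀ c * Br Q₀ c = Br Q₀ c := br_idem hQ₀N hQ₀p hc.zh hc.idem
    have hbrf : Br Q₀ c * f₀ = f₀ := by
      rcases hf₀.prim _ hbrz hbri with h1 | h1
      · exact h1
      · exfalso
        apply hFf
        have hcomm : F₀ * Br Q₀ c = Br Q₀ c * F₀ :=
          zh_comm hof0.1.blk.zh (br_zh' hcH.zh)
        calc F₀ * f₀ = (Br Q₀ c * F₀) * f₀ := by rw [hof0.2]
          _ = (F₀ * Br Q₀ c) * f₀ := by rw [hcomm]
          _ = 0 := by rw [mul_assoc, h1, mul_zero]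
    have hofN : Of p N c Q₀ f₀ := ⟨⟨hQ₀N, hQ₀p, hf₀⟩, hbrf⟩
    -- x moves f₀ as an element of C_H(Q₀)
    have hxf : IsBlk (CH N Q₀) (cj x f₀) := by
      have h1 := hf₀.cj x
      have h2 : (CH N Q₀).map (MulAut.conj x).toMonoidHom = CH N Q₀ := by
        show cS x (N ⊓ Subgroup.centralizer (Q₀ : Set G)) = N ⊓ Subgroup.centralizer (Q₀ : Set G)
        rw [cS_inf, cS_of_mem hxN, ← centralizer_cS, cS_of_normalizer hxQ₀]
      rwa [h2] at h1
    have hFxf : F₀ * cj x f₀ ≠ 0 := by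
      have h1 : F₀ * cj x f₀ = cj x (F₀ * f₀) := by rw [cj_mul, hx0.2.2]
      rw [h1]
      intro h2
      exact hFf (cj_eq_zero.1 h2)
    obtain ⟨y, hy, hyx⟩ := blocks_conj hK hKn hof0.1.blk hf₀ hxf hFf hFxf
    set z := y⁻¹ * x with hz
    have hzf : cj z f₀ = f₀ := by
      rw [hz, ← cj_cj, hyx, cj_inv_cj]
    have hzH : z ∈ H := H.mul_mem (H.inv_mem hy.1) (hNH hxN)
    have hzQ : z ∈ Subgroup.normalizer (Q₀ : Set G) :=
      Subgroup.mul_mem _ (Subgroup.inv_mem _ (centralizer_le_normalizer Q₀ hy.2)) hxQ₀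
    obtain ⟨n, hn⟩ := pow_regular (p := p) z
    have hznN : z ^ p ^ n ∈ N := mem_of_regular hNH hN hidx (H.pow_mem hzH _) hn
    have hzT : z ^ p ^ n ∈ TS N Q₀ f₀ :=
      ⟨hznN, Subgroup.pow_mem _ hzQ _, cj_pow_of hzf _⟩
    have hzC := h Q₀ f₀ hofN _ hzT hn
    -- conjugation by z and x agree on Q₀
    have hconj : ∀ m : ℕ, ∀ q ∈ Q₀, x ^ m * q * (x ^ m)⁻¹ = z ^ m * q * (z ^ m)⁻¹ := by
      intro m
      induction m with
      | zero => intro q _; simp
      | succ m ih =>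
        intro q hq
        have h3 : z * q * z⁻¹ ∈ Q₀ := (Subgroup.mem_normalizer_iff.1 hzQ q).1 hq
        have h4 : x * q * x⁻¹ = z * q * z⁻¹ := by
          have h5 := Subgroup.mem_centralizer_iff.1 hy.2 _ h3
          calc x * q * x⁻¹ = y * (z * q * z⁻¹) * y⁻¹ := by rw [hz]; group
            _ = (z * q * z⁻¹) * y * y⁻¹ := by rw [← h5]
            _ = z * q * z⁻¹ := by group
        calc x ^ (m + 1) * q * (x ^ (m + 1))⁻¹ = x ^ m * (x * q * x⁻¹) * (x ^ m)⁻¹ := by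
              rw [pow_succ]; group
          _ = x ^ m * (z * q * z⁻¹) * (x ^ m)⁻¹ := by rw [h4]
          _ = z ^ m * (z * q * z⁻¹) * (z ^ m)⁻¹ := ih _ h3
          _ = z ^ (m + 1) * q * (z ^ (m + 1))⁻¹ := by rw [pow_succ z m]; group
    have hxC0 : x ∈ Subgroup.centralizer (Q₀ : Set G) := by
      refine mem_of_pow_mem hxp (k := n) ?_
      rw [Subgroup.mem_centralizer_iff]
      intro q hq
      have h1 := hconj (p ^ n) q hq
      have h2 := Subgroup.mem_centralizer_iff.1 hzC q hq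
      have h3 : x ^ p ^ n * q * (x ^ p ^ n)⁻¹ = q := by rw [h1, ← h2]; group
      calc q * x ^ p ^ n = x ^ p ^ n * q * (x ^ p ^ n)⁻¹ * x ^ p ^ n := by rw [h3]
        _ = x ^ p ^ n * q := by group
    refine coprime_stab hxp hQ.1.pg hxC0 inf_le_left fun q hq => ?_
    refine ⟨Q.mul_mem (Q.inv_mem hq) ((Subgroup.mem_normalizer_iff.1 hx.2.1 q).1 hq), ?_⟩
    have h1 : q⁻¹ * x * q ∈ N := by
      have h2 := (Subgroup.mem_normalizer_iff.1 (hN (H.inv_mem (hQ.1.le hq))) x).1 hxN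
      rwa [inv_inv] at h2
    have h3 : q⁻¹ * (x * q * x⁻¹) = (q⁻¹ * x * q) * x⁻¹ := by group
    rw [h3]
    exact N.mul_mem h1 (N.inv_mem hxN)
  · intro h Q f hQ x hx hxp
    have hQH : Q ≤ H := hQ.1.le.trans hNH
    -- a block of C_H(Q) above f
    obtain ⟨s, hs, hsum⟩ := exists_blocks (k := kM M) (CH H Q)
    obtain ⟨F, hFs, hFf⟩ : ∃ F ∈ s, F * f ≠ 0 := by
      by_contra hcon
      push Not at hcon
      apply hQ.1.blk.ne
      calc f = (∑ F ∈ s, F) * f := by rw [hsum, one_mul]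
        _ = ∑ F ∈ s, F * f := Finset.sum_mul _ _ _
        _ = 0 := Finset.sum_eq_zero hcon
    have hF := hs F hFs
    have hbrz : ZH (CH H Q) (Br Q c) := br_zh' hcH.zh
    have hbri : Br Q c * Br Q c = Br Q c := br_idem hQH hQ.1.pg hcH.zh hcH.idem
    have hbrF : Br Q c * F = F := by
      rcases hF.prim _ hbrz hbri with h1 | h1
      · exact h1
      · exfalso
        apply hFf
        calc F * f = F * (Br Q c * f) := by rw [hQ.2]
          _ = (Br Q c * F) * f := by rw [← mul_assoc, zh_comm hF.zh hbrz]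
          _ = 0 := by rw [h1, zero_mul]
    have hofH : Of p H c Q F := ⟨⟨hQH, hQ.1.pg, hF⟩, hbrF⟩
    -- uniqueness of F
    have hmul : ∀ F', IsBlk (CH H Q) F' → F' * f ≠ 0 → F' * f = f := by
      intro F' hF' hne
      exact (hQ.1.blk.prim F' (zh_of_index hM hNH hN hidx hF') hF'.idem).resolve_right hne
    have huniq : ∀ F', IsBlk (CH H Q) F' → F' * f ≠ 0 → F' = F := by
      intro F' hF' hne
      refine hF'.eq_of_mul_ne hF ?_
      intro h0
      apply hQ.1.blk.ne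
      calc f = F' * (F * f) := by rw [hmul F hF hFf, hmul F' hF' hne]
        _ = 0 := by rw [← mul_assoc, h0, zero_mul]
    have hxH : x ∈ H := hNH hx.1
    have hxF : cj x F = F := by
      refine huniq _ ?_ ?_
      · have h1 := hF.cj x
        have h2 : (CH H Q).map (MulAut.conj x).toMonoidHom = CH H Q := by
          show cS x (H ⊓ Subgroup.centralizer (Q : Set G)) = H ⊓ Subgroup.centralizer (Q : Set G)
          rw [cS_inf, cS_of_mem hxH, ← centralizer_cS, cS_of_normalizer hx.2.1]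
        rwa [h2] at h1
      · have h1 : cj x F * f = cj x (F * f) := by rw [cj_mul, hx.2.2]
        rw [h1]
        intro h2
        exact hFf (cj_eq_zero.1 h2)
    exact h Q F hofH x ⟨hxH, hx.2.1, hxF⟩ hxp

end Ext

end CfsgLib.BrP
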