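import Mathlib
import Cfsg.Agent.EqBase
import Cfsg.Agent.LibBrP20

/-!
# Brauer pairs, XXI: block induction inside a subgroup, the inertial quotient (helper18)
-/

set_option autoImplicit false
set_option linter.unusedSectionVars false
set_option linter.style.haveILetI false
set_option linter.unusedSimpArgs false
set_option linter.unusedVariables false

namespace CfsgLib.BrP

open Cfsg CfsgLib.LocR CfsgLib.BlockCore CfsgLib.BlockIdem CfsgLib.BlockR

section Trunc

variable {M : Ideal AlgInt} [hP : M.IsPrime] {p : ℕ} [hp : Fact p.Prime]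
variable {K : Type*} [Group K] [Finite K] {L : Type*} [Group L] [Fintype L]
variable {G : Type*} [Group G] [Fintype G] {ι : K →* G} {j : L →* K}

/-- the Brauer map on class functions, with the central character values -/
theorem br_el_trunc (hM : IsPModular p M) (hι : Function.Injective ι) (hj : Function.Injective j)
    {P : Subgroup G} (hPp : IsPGroup p P) (hPL : P ≤ (ι.comp j).range)
    (hLN : (ι.comp j).range ≤ Subgroup.normalizer (P : Set G))
    (hCL : ι.range ⊓ Subgroup.centralizer (P : Set G) ≤ (ι.comp j).range)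
    {A : K → ℂ} (hA : IsClassFunction K A) (hAR : ∀ x, MemLocalRing M (A x)) :
    ∃ v : IrrCharacter L → ℂ, AR M v ∧ Br P (el M ι A) = Ph M (ι.comp j) v ∧
      ∀ ξ : IrrCharacter L,
        MemLocalIdeal M (omg (ξ : L → ℂ) (fun l => A (j l)) - v ξ) := by
  classical
  haveI := charP_kM hM
  have hιj : Function.Injective (ι.comp j) := hι.comp hj
  set P' : Subgroup L := P.comap (ι.comp j) with hP'
  haveI hn : P'.Normal := by
    refine ⟨fun n hn g => ?_⟩
    rw [hP', Subgroup.mem_comap] at hn ⊢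
    have h1 := (Subgroup.mem_normalizer_iff.1 (hLN ⟨g, rfl⟩) ((ι.comp j) n)).1 hn
    rw [map_mul, map_mul, map_inv]
    exact h1
  have hP'g : IsPGroup p P' := hPp.comap_of_injective _ hιj
  have hcen : ∀ l : L, l ∈ Subgroup.centralizer (P' : Set L) ↔
      (ι.comp j) l ∈ Subgroup.centralizer (P : Set G) := by
    intro l
    have h1 : P'.map (ι.comp j) = P := by
      rw [hP', Subgroup.map_comap_eq, inf_eq_right]; exact hPL
    rw [← map_mem_centralizer hιj, h1]
  set b : L → ℂ := fun l => A (j l) with hb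
  set a : L → ℂ := fun l => if l ∈ Subgroup.centralizer (P' : Set L) then b l else 0 with ha
  have hbcl : IsClassFunction L b := by
    intro g h
    show A (j (h * g * h⁻¹)) = A (j g)
    rw [map_mul, map_mul, map_inv]
    exact hA _ _
  have hcn : ∀ g h : L, h * g * h⁻¹ ∈ Subgroup.centralizer (P' : Set L) ↔
      g ∈ Subgroup.centralizer (P' : Set L) := by
    intro g h
    have hN : (Subgroup.centralizer (P' : Set L)).Normal := inferInstance
    constructor
    · intro h1
      have := hN.conj_mem _ h1 h⁻¹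
      have e1 : h⁻¹ * (h * g * h⁻¹) * h⁻¹⁻¹ = g := by group
      rwa [e1] at this
    · intro h1; exact hN.conj_mem _ h1 h
  have hacl : IsClassFunction L a := by
    intro g h
    show (if h * g * h⁻¹ ∈ Subgroup.centralizer (P' : Set L) then b (h * g * h⁻¹) else 0) =
      if g ∈ Subgroup.centralizer (P' : Set L) then b g else 0
    simp only [hcn, hbcl g h]
  have hbR : ∀ x, MemLocalRing M (b x) := fun x => hAR _
  have haR : ∀ x, MemLocalRing M (a x) := by
    intro x
    show MemLocalRing M (if x ∈ Subgroup.centralizer (P' : Set L) then b x else 0)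
    split_ifs
    · exact hbR x
    · exact LocR.memR_zero
  refine ⟨fun ξ => omg (ξ : L → ℂ) a, ?_, ?_, ?_⟩
  · intro x
    rw [fou_omg hacl]
    exact haR _
  · rw [← el_eq_Ph hacl]
    apply ext'
    intro g
    by_cases hg : g ∈ Subgroup.centralizer (P : Set G)
    · rw [br_coeff_of _ hg]
      by_cases hr : g ∈ (ι.comp j).range
      · obtain ⟨l, rfl⟩ := hr
        rw [el_coeff hιj]
        have e1 : (ι.comp j) l = ι (j l) := rfl
        rw [e1, el_coeff hι]
        show _ = rd M (if l ∈ Subgroup.centralizer (P' : Set L) then b l else 0)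
        rw [if_pos ((hcen l).2 hg)]
      · rw [el_off _ hr]
        have h1 : g ∉ ι.range := fun h => hr (hCL ⟨h, hg⟩)
        exact el_off _ h1
    · rw [br_coeff_not _ hg]
      by_cases hr : g ∈ (ι.comp j).range
      · obtain ⟨l, rfl⟩ := hr
        rw [el_coeff hιj]
        show _ = rd M (if l ∈ Subgroup.centralizer (P' : Set L) then b l else 0)
        rw [if_neg (fun h => hg ((hcen l).1 h)), rd_zero]
      · rw [el_off _ hr]
  · intro ξ
    rw [← CfsgLib.BlockBrauer.omg_sub]
    apply CfsgLib.BlockBrauer.omg_off_centralizer hM P' hP'g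
    · intro g h
      rw [Pi.sub_apply, Pi.sub_apply, hbcl g h, hacl g h]
    · intro x
      rw [Pi.sub_apply]
      exact LocR.memR_sub (hbR x) (haR x)
    · intro x hx
      rw [Pi.sub_apply]
      show b x - (if x ∈ Subgroup.centralizer (P' : Set L) then b x else 0) = 0
      rw [if_pos hx, sub_self]

/-- central character values of block idempotents -/
theorem lam_Ph [hMx : M.IsMaximal] (hι : Function.Injective ι) {b : Set (IrrCharacter K)}
    (hb : IsPBlock M b) {χ : IrrCharacter K} (hχ : χ ∈ b) {v : IrrCharacter K → ℂ} (hv : AR M v) :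
    lam (bk M ι b) (Ph M ι v) = rd M (v χ) := by
  have hbR := AR_ind_block hP hb
  have h1R : AR M (1 : IrrCharacter K → ℂ) := AR_one hP
  refine lam_eq (isBlk_bk hι hb) (zh_Ph hι v) ?_
  have hvχ : MemLocalRing M (v χ) := AR_val hP hv χ
  have hcR : AR M (v χ • (1 : IrrCharacter K → ℂ)) := by
    intro x
    rw [fou_smul]
    exact LocR.memR_mul hvχ (h1R x)
  have hc1 : Ph M ι (v χ • (1 : IrrCharacter K → ℂ)) = rd M (v χ) • (1 : MonoidAlgebra (kM M) G) := by
    refine ext_on hι (supp_Ph _) (supp_smul _ supp_one) fun x => ?_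
    rw [Ph_coeff hι, fou_smul, rd_mul hvχ (h1R x), smul_coeff, ← Ph_one hι, Ph_coeff hι]
  have hu : AR M ((v - v χ • (1 : IrrCharacter K → ℂ)) * ind b) :=
    AR_mul hP (AR_sub hP hv hcR) hbR
  have e1 : (Ph M ι v - rd M (v χ) • 1) * bk M ι b =
      Ph M ι ((v - v χ • (1 : IrrCharacter K → ℂ)) * ind b) := by
    rw [Ph_mul hι (AR_sub hP hv hcR) hbR, Ph_sub hι hv hcR, hc1]
    rfl
  rw [e1]
  refine Ph_nilpotent hι hu fun ξ => ?_
  rw [Pi.mul_apply, Pi.sub_apply, Pi.smul_apply, Pi.one_apply, smul_eq_mul, mul_one]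
  by_cases hξ : ξ ∈ b
  · rw [ind_of hξ, mul_one]
    exact LocR.memI_sub_comm.1 (sameBlock_val hP hv (sameBlock_of_mem hP hb hχ hξ))
  · rw [ind_not hξ, mul_zero]; exact LocR.memI_zero

end Trunc

section LamBr

variable {k : Type*} [Field k] {G : Type*} [Group G] [Fintype G] {p : ℕ}
variable [hp : Fact p.Prime] [CharP k p] [IsAlgClosed k]

theorem br_smul' (P : Subgroup G) (c : k) (a : MonoidAlgebra k G) : Br P (c • a) = c • Br P a := by
  apply ext'
  intro g
  by_cases hg : g ∈ Subgroup.centralizer (P : Set G)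
  · rw [br_coeff_of _ hg, smul_coeff, smul_coeff, br_coeff_of _ hg]
  · rw [br_coeff_not _ hg, smul_coeff, br_coeff_not _ hg, mul_zero]

theorem br_pow_of {P : Subgroup G} (hP : IsPGroup p P) {a : MonoidAlgebra k G} (ha : Fx P a)
    (n : ℕ) : Br P (a ^ n) = Br P a ^ n ∧ Fx P (a ^ n) := by
  induction n with
  | zero => rw [pow_zero, pow_zero, br_one]; exact ⟨rfl, fx_one⟩
  | succ n ih =>
    rw [pow_succ, pow_succ, br_mul hP ih.2 ha, ih.1]
    exact ⟨rfl, fx_mul ih.2 ha⟩

/-- if `Br_P(d) e = e` then `λ_d = λ_e ∘ Br_P` -/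
theorem lam_br {P H K : Subgroup G} (hP : IsPGroup p P) (hPH : P ≤ H) (hPK : P ≤ K)
    {d e z : MonoidAlgebra k G} (hd : IsBlk H d) (he : IsBlk K e)
    (hbr : ∀ w : MonoidAlgebra k G, ZH H w → ZH K (Br P w)) (h : Br P d * e = e) (hz : ZH H z) :
    lam e (Br P z) = lam d z := by
  refine lam_eq he (hbr z hz) ?_
  have h1 := lam_spec hd hz
  have hzc : ZH H (z - lam d z • (1 : MonoidAlgebra k G)) := zh_sub hz (zh_smul _ zh_one)
  have hfx : Fx P ((z - lam d z • (1 : MonoidAlgebra k G)) * d) :=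
    fx_mono hPH (zh_mul hzc hd.zh).2
  have h2 : IsNilpotent (Br P ((z - lam d z • (1 : MonoidAlgebra k G)) * d)) := by
    obtain ⟨n, hn⟩ := h1
    exact ⟨n, by rw [← (br_pow_of hP hfx n).1, hn, br_zero]⟩
  have h3 : Br P ((z - lam d z • (1 : MonoidAlgebra k G)) * d) =
      (Br P z - lam d z • (1 : MonoidAlgebra k G)) * Br P d := by
    rw [br_mul hP (fx_mono hPH hzc.2) (fx_mono hPH hd.zh.2), br_sub, br_smul', br_one]
  rw [h3] at h2
  have h4 : (Br P z - lam d z • (1 : MonoidAlgebra k G)) * e =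
      (Br P z - lam d z • (1 : MonoidAlgebra k G)) * Br P d * e := by rw [mul_assoc, h]
  rw [h4]
  have h5 : ZH K ((Br P z - lam d z • (1 : MonoidAlgebra k G)) * Br P d) :=
    zh_mul (zh_sub (hbr z hz) (zh_smul _ zh_one)) (hbr d hd.zh)
  exact (zh_commute h5 he.zh).isNilpotent_mul_right h2

end LamBr

section IndIn

variable {M : Ideal AlgInt} [hP : M.IsPrime] [hMx : M.IsMaximal] {p : ℕ} [hp : Fact p.Prime]
variable {G : Type*} [Group G] [Fintype G]

/-- block induction inside a subgroup in terms of the Brauer morphism -/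
theorem br_indIn (hM : IsPModular p M) {P H K : Subgroup G} (hKH : K ≤ H) (hPp : IsPGroup p P)
    (hPK : P ≤ K) (hKN : K ≤ Subgroup.normalizer (P : Set G))
    (hCK : H ⊓ Subgroup.centralizer (P : Set G) ≤ K)
    {e : Set (IrrCharacter K)} (he : IsPBlock M e) {d : Set (IrrCharacter H)} (hd : IsPBlock M d)
    (h : Br P (bk M H.subtype d) * bk M K.subtype e = bk M K.subtype e) :
    IsInducedBlockIn M H K e d := by
  classical
  haveI := charP_kM hM
  haveI := Fintype.ofFinite H
  haveI := Fintype.ofFinite K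
  refine ⟨he, hd, fun ξ hξ χ hχ x => ?_⟩
  have hcomp : H.subtype.comp (Subgroup.inclusion hKH) = K.subtype := rfl
  have hr : (H.subtype.comp (Subgroup.inclusion hKH)).range = K := by
    rw [hcomp, Subgroup.range_subtype]
  obtain ⟨v, hvR, hvel, hvξ⟩ := br_el_trunc (M := M) (ι := H.subtype)
    (j := Subgroup.inclusion hKH) hM
    (Subgroup.subtype_injective H) (Subgroup.inclusion_injective hKH) hPp (by rw [hr]; exact hPK)
    (by rw [hr]; exact hKN) (by rw [hr, Subgroup.range_subtype]; exact hCK)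
    (CfsgLib.CharInt.isClassFunction_cInd x) (CfsgLib.BlockIdem.cInd_ring hP x)
  rw [hcomp] at hvel
  have hind : inducedCentralCharIn H K (ξ : K → ℂ) (x : G) =
      omg (ξ : K → ℂ) (fun l : K => CfsgLib.CharInt.cInd x (Subgroup.inclusion hKH l)) := by
    have hset : ∀ l : K, (∃ y : H, (y : G) * (l : G) * (y : G)⁻¹ = x) ↔
        IsConj x (Subgroup.inclusion hKH l) := by
      intro l
      rw [isConj_comm, isConj_iff]
      constructor
      · rintro ⟨y, hy⟩; exact ⟨y, Subtype.ext hy⟩
      · rintro ⟨y, hy⟩; exact ⟨y, congrArg Subtype.val hy⟩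
    unfold inducedCentralCharIn omg
    rw [Finset.sum_div, finsum_mem_eq_finite_toFinset_sum _ (Set.toFinite _)]
    rw [← Finset.sum_subset (Finset.subset_univ (Set.toFinite
      {l : K | ∃ y : H, (y : G) * (l : G) * (y : G)⁻¹ = x}).toFinset)]
    · apply Finset.sum_congr rfl
      intro l hl
      rw [Set.Finite.mem_toFinset] at hl
      have h3 := CfsgLib.CharInt.cInd_of ((hset l).1 hl)
      simp only [h3, one_mul]
    · intro l _ hl
      rw [Set.Finite.mem_toFinset] at hl
      have h3 := CfsgLib.CharInt.cInd_not (fun h => hl ((hset l).2 h))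
      simp only [h3, zero_mul, zero_div]
  rw [hind]
  have h1 := hvξ ξ
  -- compare v ξ with the central character of χ
  set w : IrrCharacter H → ℂ := fun χ => centralChar (χ : H → ℂ) x with hw
  have hwR : AR M w := AR_cent hP x
  have hwel : el M H.subtype (CfsgLib.CharInt.cInd x) = Ph M H.subtype w := by
    rw [el_eq_Ph (CfsgLib.CharInt.isClassFunction_cInd x)]
    congr 1
    funext χ
    exact (centralChar_eq_omg _ _).symm
  have h2 : lam (bk M H.subtype d) (Ph M H.subtype w) = rd M (w χ) :=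
    lam_Ph (Subgroup.subtype_injective H) hd hχ hwR
  have h3 : lam (bk M K.subtype e) (Ph M K.subtype v) = rd M (v ξ) :=
    lam_Ph (Subgroup.subtype_injective K) he hξ hvR
  have h4 : lam (bk M K.subtype e) (Br P (Ph M H.subtype w)) =
      lam (bk M H.subtype d) (Ph M H.subtype w) := by
    refine lam_br hPp (hPK.trans hKH) hPK (h_blk hd) (h_blk he) ?_ h ?_
    · intro z hz
      refine ⟨supp_mono hCK (supp_br P hz.1), fx_br hKN (fx_mono hKH hz.2)⟩
    · have := zh_Ph (M := M) (Subgroup.subtype_injective H) w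
      rwa [Subgroup.range_subtype] at this
  rw [← hwel, hvel, h3, hwel, h2] at h4
  have hvξR : MemLocalRing M (v ξ) := AR_val hP hvR ξ
  have hwχR : MemLocalRing M (w χ) := AR_val hP hwR χ
  have h5 := (rd_eq_iff hvξR hwχR).1 h4
  have h6 := LocR.memI_add h1 h5
  have e1 : omg (ξ : K → ℂ) (fun l : K => CfsgLib.CharInt.cInd x (Subgroup.inclusion hKH l)) -
      v ξ + (v ξ - w χ) =
      omg (ξ : K → ℂ) (fun l : K => CfsgLib.CharInt.cInd x (Subgroup.inclusion hKH l)) -
      centralChar (χ : H → ℂ) x := by rw [hw]; ring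
  rw [e1] at h6
  exact h6

theorem indIn_iff (hM : IsPModular p M) {P H K : Subgroup G} (hKH : K ≤ H) (hPp : IsPGroup p P)
    (hPK : P ≤ K) (hKN : K ≤ Subgroup.normalizer (P : Set G))
    (hCK : H ⊓ Subgroup.centralizer (P : Set G) ≤ K)
    {e : Set (IrrCharacter K)} (he : IsPBlock M e) {d : Set (IrrCharacter H)}
    (hd : IsPBlock M d) : IsInducedBlockIn M H K e d ↔
      Br P (bk M H.subtype d) * bk M K.subtype e = bk M K.subtype e :=
  ⟨indIn_br hM hKH hPp hPK hKN hCK, br_indIn hM hKH hPp hPK hKN hCK he hd⟩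

end IndIn

section Abel

variable {k : Type*} [Field k] {G : Type*} [Group G] [Fintype G] {p : ℕ}
variable [hp : Fact p.Prime] [CharP k p]

/-- the defect group of a local block for an abelian defect group -/
theorem isMx_local {H P Q : Subgroup G} {B c f : MonoidAlgebra k G} (hB : IsBlk H B)
    (hmx : IsMx p H B P c) (hab : ∀ x ∈ P, ∀ y ∈ P, x * y = y * x)
    (hle : LEp p H (Q, f) (P, c)) : IsMx p (CH H Q) f P c := by
  have hof := hmx.1.of_le hB hle
  have hQP : Q ≤ P := hle.le
  have hPC : P ≤ Subgroup.centralizer (Q : Set G) := by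
    intro u hu
    rw [Subgroup.mem_centralizer_iff]
    intro v hv
    exact hab v (hQP hv) u hu
  have hnrm : Nrm p H Q f P c := hle.nrm hmx.1.1 (hPC.trans (centralizer_le_normalizer Q))
  have hCH : CH (CH H Q) P = CH H P := by
    rw [← CH_sup, sup_eq_right.2 hQP]
  have hof' : Of p (CH H Q) f P c := by
    refine ⟨⟨le_inf hmx.1.1.le hPC, hmx.1.1.pg, ?_⟩, hnrm.br⟩
    rw [hCH]; exact hmx.1.1.blk
  have hbf := hof.1.blk
  obtain ⟨D, hD⟩ := exists_isDef (p := p) hbf
  obtain ⟨y, hy, h1⟩ := cent_le_defect hmx.1.1 hle hD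
  rw [inf_eq_left.2 hPC] at h1
  -- the order of D
  obtain ⟨g, hg⟩ := exists_of_br_ne hbf hD.le hD.pg hD.br
  have h2 := nrm_of_local hof.1 hg
  have h3 : Of p H B (Q ⊔ D) g := hof.of_ge hB h2.bpP (Relation.ReflTransGen.single h2)
  obtain ⟨x, hx, h4⟩ := hmx.ge hB h3
  have h5 : Nat.card D ≤ Nat.card P := by
    have h6 := card_le_of_le h4.le
    rw [card_cS] at h6
    exact (card_le_of_le (le_sup_right : D ≤ Q ⊔ D)).trans h6
  have h7 : P = cS y D := cS_eq_of_le_card h1 h5
  have h8 : IsDef p (CH H Q) f P := by rw [h7]; exact hD.conj hy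
  exact isMx_of_isDef hbf h8 hof'

/-- `p`-elements of the stabilizer -/
theorem mx_pelem {H P : Subgroup G} {B c : MonoidAlgebra k G} [IsAlgClosed k] (hB : IsBlk H B)
    (hmx : IsMx p H B P c) {R : Subgroup G} (hR : R ≤ TS H P c) (hRp : IsPGroup p R) :
    R ≤ P ⊔ CH H P := by
  have hP := hmx.1.1
  have hbT := isBlk_TS hP
  obtain ⟨D, hD⟩ := exists_isDef (p := p) hbT
  have hTN : TS H P c ≤ Subgroup.normalizer (P : Set G) := fun x hx => hx.2.1
  have hPD : P ≤ D := hD.normal_le hbT (le_TS hP) hP.pg hTN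
  obtain ⟨e', he'⟩ := exists_above hP hPD hD.le hD.pg hD.br
  have h1 : Of p H B D e' := hmx.1.of_ge hB he'.bpP (Relation.ReflTransGen.single he')
  have h2 : D = P := hmx.2 D e' h1 (Relation.ReflTransGen.single he')
  subst h2
  have hCn : TS H D c ≤ Subgroup.normalizer ((CH H D : Subgroup G) : Set G) := by
    intro x hx
    apply mem_normalizer_of_cS
    show cS x (H ⊓ Subgroup.centralizer (D : Set G)) = H ⊓ Subgroup.centralizer (D : Set G)
    rw [cS_inf, cS_of_mem hx.1, ← centralizer_cS, cS_of_normalizer hx.2.1]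
  obtain ⟨t, ht, h3⟩ := stable_cover (CH_le_TS hP) hP.blk hCn hD hR hRp
  rwa [cS_of_normalizer ht.2.1] at h3

end Abel

section AbelG

variable {M : Ideal AlgInt} [hP : M.IsPrime] [hMx : M.IsMaximal] {p : ℕ} [hp : Fact p.Prime]
variable {G : Type*} [Group G] [Fintype G]

/-- abelian defect group: induced local blocks and Brauer pairs -/
theorem abel_pair (hM : IsPModular p M) {P Q : Subgroup G} (hPp : IsPGroup p P)
    (hab : ∀ x ∈ P, ∀ y ∈ P, x * y = y * x) (hQP : Q ≤ P)
    {c : Set (IrrCharacter (Subgroup.centralizer (P : Set G)))} (hc : IsPBlock M c)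
    {f : Set (IrrCharacter (Subgroup.centralizer (Q : Set G)))} (hf : IsPBlock M f) :
    IsInducedBlockIn M (Subgroup.centralizer (Q : Set G)) (Subgroup.centralizer (P : Set G)) c f ↔
      LEp p ⊤ (Q, J M Q f) (P, J M P c) := by
  haveI := charP_kM hM
  have hPC : P ≤ Subgroup.centralizer (P : Set G) := by
    intro x hx
    rw [Subgroup.mem_centralizer_iff]
    intro y hy
    exact hab y hy x hx
  have hKH : Subgroup.centralizer (P : Set G) ≤ Subgroup.centralizer (Q : Set G) :=
    centralizer_anti hQP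
  have hQp : IsPGroup p Q := hPp.to_le hQP
  have hPN : P ≤ Subgroup.normalizer (Q : Set G) :=
    (hPC.trans hKH).trans (centralizer_le_normalizer Q)
  rw [indIn_iff hM hKH hPp hPC (Subgroup.centralizer_le_normalizer _) inf_le_right hc hf]
  constructor
  · intro h
    refine Relation.ReflTransGen.single ⟨(g_bp hf).2 hQp, (g_bp hc).2 hPp, hQP, hPN, ?_, h⟩
    refine fx_mono ?_ (g_C hf).zh.2
    rw [CH_top]; exact hPC.trans hKH
  · intro h
    exact (h.nrm ((g_bp hc).2 hPp) hPN).br

end AbelG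

section Cyc

variable {G : Type*} [Group G] [Finite G] {p : ℕ} [hp : Fact p.Prime]

/-- `p'`-automorphisms of cyclic `p`-groups -/
theorem cyclic_aut (P : Subgroup G) (hP : IsPGroup p P) (hcyc : IsCyclic P) (hP1 : P ≠ ⊥)
    (A : Subgroup (MulAut P)) (hA : ¬ p ∣ Nat.card A) :
    IsCyclic A ∧ Nat.card A ∣ p - 1 ∧
      ∀ α ∈ A, ∀ x : P, x ≠ 1 → α x = x → α = 1 := by
  classical
  obtain ⟨n, hn⟩ := IsPGroup.iff_card.1 hP
  have hn0 : n ≠ 0 := by
    rintro rfl
    rw [pow_zero] at hn
    exact hP1 (Subgroup.card_eq_one.1 hn)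
  obtain ⟨m, rfl⟩ := Nat.exists_eq_succ_of_ne_zero hn0
  have hpn : p ∣ Nat.card P := by rw [hn]; exact dvd_pow_self p hn0
  have hcardpos : 0 < Nat.card P := Nat.card_pos
  haveI : NeZero (Nat.card P) := ⟨hcardpos.ne'⟩
  let e := IsCyclic.mulAutMulEquiv P
  let f : A →* (ZMod p)ˣ := ((ZMod.unitsMap hpn).comp e.toMonoidHom).comp A.subtype
  have hker : Nat.card (ZMod.unitsMap hpn).ker = p ^ m := by
    have h1 := (ZMod.unitsMap hpn).ker.card_mul_index
    rw [Subgroup.index_ker, MonoidHom.range_eq_top.2 (ZMod.unitsMap_surjective hpn)] at h1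
    rw [Subgroup.card_top, Nat.card_eq_fintype_card (α := (ZMod p)ˣ),
      Nat.card_eq_fintype_card (α := (ZMod (Nat.card P))ˣ), ZMod.card_units_eq_totient,
      ZMod.card_units_eq_totient] at h1
    have h2 : 0 < p - 1 := Nat.sub_pos_of_lt hp.out.one_lt
    have h3 : (Nat.card P).totient = p ^ m * (p - 1) := by
      rw [hn, Nat.totient_prime_pow hp.out (Nat.succ_pos m)]
      simp
    rw [h3, Nat.totient_prime hp.out] at h1
    exact Nat.eq_of_mul_eq_mul_right h2 h1
  have hinj : Function.Injective f := by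
    rw [← MonoidHom.ker_eq_bot_iff, ← Subgroup.card_eq_one]
    have h1 : Nat.card f.ker ∣ Nat.card A := Subgroup.card_subgroup_dvd_card _
    have h2 : Nat.card f.ker ∣ p ^ m := by
      rw [← hker]
      let g : f.ker →* (ZMod.unitsMap hpn).ker :=
        ((e.toMonoidHom.comp A.subtype).comp f.ker.subtype).codRestrict _ (fun x => x.2)
      refine Subgroup.card_dvd_of_injective g ?_
      intro x y hxy
      have h3 : e ((x : A) : MulAut P) = e ((y : A) : MulAut P) := congrArg Subtype.val hxy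
      exact Subtype.ext (Subtype.ext (e.injective h3))
    have hc : Nat.Coprime (Nat.card A) (p ^ m) :=
      Nat.Coprime.pow_right m ((Nat.Prime.coprime_iff_not_dvd hp.out).2 hA).symm
    exact Nat.dvd_one.1 (by rw [← Nat.Coprime.gcd_eq_one hc]; exact Nat.dvd_gcd h1 h2)
  refine ⟨isCyclic_of_injective f hinj, ?_, ?_⟩
  · have h1 := Subgroup.card_dvd_of_injective f hinj
    rwa [Nat.card_eq_fintype_card (α := (ZMod p)ˣ), ZMod.card_units_eq_totient,
      Nat.totient_prime hp.out] at h1
  · intro α hα x hx hfix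
    obtain ⟨u, hu⟩ := IsCyclic.exists_generator (α := P)
    obtain ⟨a, ha⟩ := hu (α u)
    have ha' : α u = u ^ a := ha.symm
    have hpow : ∀ y : P, α y = y ^ a := by
      intro y
      obtain ⟨k, rfl⟩ := hu y
      show α (u ^ k) = (u ^ k) ^ a
      rw [map_zpow, ha', ← zpow_mul, ← zpow_mul, mul_comm]
    -- p ∣ a - 1
    have h1 : x ^ (a - 1) = 1 := by
      rw [zpow_sub_one, ← hpow, hfix, mul_inv_cancel]
    have h2 : (p : ℤ) ∣ a - 1 := by
      have h3 : ((orderOf x : ℕ) : ℤ) ∣ a - 1 := orderOf_dvd_iff_zpow_eq_one.2 h1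
      have h4 : p ∣ orderOf x := by
        obtain ⟨k, hk⟩ := IsPGroup.iff_orderOf.1 hP x
        rw [hk]
        refine dvd_pow_self p ?_
        rintro rfl
        rw [pow_zero, orderOf_eq_one_iff] at hk
        exact hx hk
      exact (Int.natCast_dvd_natCast.2 h4).trans h3
    have h3 := dvd_sub_pow_of_dvd_sub (R := ℤ) (p := p) (a := a) (b := 1) h2 m
    rw [one_pow] at h3
    have h4 : ∀ (k : ℕ) (y : P), (α ^ k) y = y ^ (a ^ k) := by
      intro k
      induction k with
      | zero => intro y; simp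
      | succ k ih =>
        intro y
        rw [pow_succ', MulAut.mul_apply, ih, hpow, ← zpow_mul, pow_succ]
    have h5 : α ^ (p ^ m) = 1 := by
      apply MulEquiv.ext
      intro y
      rw [h4, MulAut.one_apply]
      have h6 : y ^ (a ^ p ^ m - 1) = 1 := by
        apply orderOf_dvd_iff_zpow_eq_one.1
        have h7 : (orderOf y : ℤ) ∣ ((Nat.card P : ℕ) : ℤ) :=
          Int.natCast_dvd_natCast.2 (orderOf_dvd_natCard y)
        rw [hn] at h7
        refine h7.trans ?_
        push_cast
        exact h3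
      rw [zpow_sub_one] at h6
      exact mul_inv_eq_one.1 h6
    have h6 : orderOf α ∣ p ^ m := orderOf_dvd_of_pow_eq_one h5
    have h7 : orderOf α ∣ Nat.card A := by
      have := orderOf_dvd_natCard (⟨α, hα⟩ : A)
      rwa [Subgroup.orderOf_mk] at this
    have hc : Nat.Coprime (Nat.card A) (p ^ m) :=
      Nat.Coprime.pow_right m ((Nat.Prime.coprime_iff_not_dvd hp.out).2 hA).symm
    exact orderOf_eq_one_iff.1 (Nat.dvd_one.1 (by
      rw [← Nat.Coprime.gcd_eq_one hc]; exact Nat.dvd_gcd h7 h6))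

/-- the action of `T ≤ N(P)` on `P` -/
def actHom (P T : Subgroup G) (hT : T ≤ Subgroup.normalizer (P : Set G)) : T →* MulAut P :=
  P.normalizerMonoidHom.comp (Subgroup.inclusion hT)

theorem actHom_apply (P T : Subgroup G) (hT : T ≤ Subgroup.normalizer (P : Set G)) (t : T)
    (x : P) : ((actHom P T hT t x : P) : G) = t * x * (t : G)⁻¹ := rfl

theorem actHom_eq_one {P T : Subgroup G} (hT : T ≤ Subgroup.normalizer (P : Set G)) {t : T} :
    actHom P T hT t = 1 ↔ (t : G) ∈ Subgroup.centralizer (P : Set G) := by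
  rw [Subgroup.mem_centralizer_iff]
  constructor
  · intro h x hx
    have h1 : ((actHom P T hT t ⟨x, hx⟩ : P) : G) = x := by rw [h]; rfl
    rw [actHom_apply] at h1
    calc x * t = (t * x * (t : G)⁻¹) * t := by rw [h1]
      _ = t * x := by group
  · intro h
    apply MulEquiv.ext
    intro x
    apply Subtype.ext
    rw [actHom_apply, ← h x x.2, mul_inv_cancel_right]
    rfl

/-- if all `p`-subgroups of `T` centralize `P` then `T/C_T(P)` is a `p'`-group -/
theorem act_card {P T : Subgroup G} (hT : T ≤ Subgroup.normalizer (P : Set G))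
    (h : ∀ R : Subgroup G, R ≤ T → IsPGroup p R → R ≤ Subgroup.centralizer (P : Set G)) :
    ¬ p ∣ Nat.card (actHom P T hT).range := by
  intro hp1
  obtain ⟨α, hα⟩ := exists_prime_orderOf_dvd_card' (G := (actHom P T hT).range) p hp1
  obtain ⟨t, ht⟩ := α.2
  rw [← Subgroup.orderOf_coe, ← ht] at hα
  have hpos : orderOf (t : G) ≠ 0 := (orderOf_pos _).ne'
  obtain ⟨k, m, hm, h1⟩ := Nat.exists_eq_pow_mul_and_not_dvd hpos p hp.out.ne_one
  have h2 : (t : G) ^ m ∈ Subgroup.centralizer (P : Set G) := by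
    have h3 : IsPGroup p (Subgroup.zpowers ((t : G) ^ m)) := by
      refine IsPGroup.of_card (n := k) ?_
      rw [Nat.card_zpowers, orderOf_pow, h1, Nat.gcd_eq_right (dvd_mul_left _ _),
        Nat.mul_div_cancel _ (Nat.pos_of_ne_zero ?_)]
      rintro rfl
      exact hm (dvd_zero p)
    refine h _ ?_ h3 (Subgroup.mem_zpowers _)
    rw [Subgroup.zpowers_le]
    exact T.pow_mem t.2 m
  have h4 : actHom P T hT (t ^ m) = 1 := (actHom_eq_one hT).2 (by
    rw [Subgroup.coe_pow]; exact h2)
  rw [map_pow] at h4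
  have h5 := orderOf_dvd_of_pow_eq_one h4
  rw [hα] at h5
  exact hm h5

end Cyc

end CfsgLib.BrP
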