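import Cfsg.Agent.EqBase
import Cfsg.Agent.LibSolvCoprime2
import Cfsg.Agent.LibTransNil
import Cfsg.Agent.LibSolvNilp
import Cfsg.Agent.LibFPF2
/-!
# CN-groups of odd order: reduction to simple groups (helper16)
-/
set_option autoImplicit false
set_option linter.all false
open Cfsg
namespace CfsgLib.CNOdd

universe u
variable {G : Type u} [Group G]

theorem cn_comm (hCN : IsCNGroup G) {x a b : G} (hx : x ≠ 1) (ha : a * x = x * a) (hb : b * x = x * b)
    (hcop : (orderOf a).Coprime (orderOf b)) : a * b = b * a :=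
  CfsgLib.TransNil.commute_of_coprime_mem (hCN x hx) (Subgroup.mem_centralizer_singleton_iff.mpr ha)
    (Subgroup.mem_centralizer_singleton_iff.mpr hb) hcop

theorem nil_mono {A B : Subgroup G} (h : A ≤ B) (hB : Group.IsNilpotent B) : Group.IsNilpotent A := by
  haveI := hB
  haveI : Group.IsNilpotent (A.subgroupOf B) := Subgroup.isNilpotent _
  exact Group.nilpotent_of_mulEquiv (Subgroup.subgroupOfEquivOfLe h)

theorem cn_sub (hCN : IsCNGroup G) (K : Subgroup G) : IsCNGroup K := by
  intro g hg
  haveI := hCN g (fun h => hg (Subtype.ext h))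
  let f : Subgroup.centralizer ({g} : Set K) →* Subgroup.centralizer ({(g : G)} : Set G) :=
    { toFun := fun x => ⟨((x : K) : G), by
        have := Subgroup.mem_centralizer_singleton_iff.mp x.2
        exact Subgroup.mem_centralizer_singleton_iff.mpr (congrArg Subtype.val this)⟩
      map_one' := rfl
      map_mul' := fun _ _ => rfl }
  have hf : Function.Injective f := by
    intro x y hxy
    apply Subtype.ext
    apply Subtype.ext
    exact congrArg (fun z : Subgroup.centralizer ({(g : G)} : Set G) => (z : G)) hxy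
  haveI : Group.IsNilpotent f.range := Subgroup.isNilpotent _
  exact Group.nilpotent_of_mulEquiv (MonoidHom.ofInjective hf).symm

variable [Finite G]

/-- an element of prime order in the preimage -/
theorem lift_prime {C : Subgroup G} [C.Normal] {p : ℕ} (hC : IsPGroup p C) {r : ℕ} (hr : r.Prime) (hrp : r ≠ p) (hp : p.Prime) {t : G ⧸ C}
    (ht : orderOf t = r) : ∃ s : G, orderOf s = r ∧ Subgroup.zpowers (QuotientGroup.mk' C s) = Subgroup.zpowers t := by
  obtain ⟨s, rfl⟩ := QuotientGroup.mk'_surjective C t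
  have h1 : s ^ r ∈ C := by
    rw [← QuotientGroup.eq_one_iff]
    have : (QuotientGroup.mk' C s) ^ r = 1 := by rw [← ht]; exact pow_orderOf_eq_one _
    rw [← map_pow] at this
    exact this
  obtain ⟨k, hk⟩ := hC ⟨_, h1⟩
  have hk' : (s ^ r) ^ p ^ k = 1 := congrArg Subtype.val hk
  have h2 : (s ^ p ^ k) ^ r = 1 := by rw [← pow_mul, mul_comm, pow_mul]; exact hk'
  have hcop : Nat.Coprime (p ^ k) r := Nat.Coprime.pow_left k ((Nat.coprime_primes hp hr).mpr (Ne.symm hrp))
  have h3 : Subgroup.zpowers (QuotientGroup.mk' C (s ^ p ^ k)) = Subgroup.zpowers (QuotientGroup.mk' C s) := by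
    rw [map_pow]
    have h4 : Nat.Coprime (p ^ k) (orderOf (QuotientGroup.mk' C s)) := by rw [ht]; exact hcop
    apply le_antisymm
    · rw [Subgroup.zpowers_le]; exact Subgroup.npow_mem_zpowers _ _
    · rw [Subgroup.zpowers_le]
      obtain ⟨m, hm⟩ := exists_pow_eq_self_of_coprime h4
      exact ⟨m, by
        show ((QuotientGroup.mk' C) s ^ p ^ k) ^ (m : ℤ) = _
        rw [zpow_natCast]; exact hm⟩
  refine ⟨s ^ p ^ k, ?_, h3⟩
  haveI := Fact.mk hr
  apply orderOf_eq_prime h2
  intro h
  rw [h, map_one, Subgroup.zpowers_one_eq_bot, eq_comm, Subgroup.zpowers_eq_bot] at h3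
  rw [h3, orderOf_one] at ht
  exact hr.one_lt.ne ht

/-- a non-identity element has a power of prime order -/
theorem exists_pow_prime {Q : Type*} [Group Q] [Finite Q] {x : Q} (hx : x ≠ 1) : ∃ (r k : ℕ), r.Prime ∧ orderOf (x ^ k) = r := by
  have h1 : orderOf x ≠ 1 := fun h => hx (orderOf_eq_one_iff.mp h)
  obtain ⟨r, hr, hrd⟩ := Nat.exists_prime_and_dvd h1
  obtain ⟨k, hk⟩ := hrd
  have hk0 : k ≠ 0 := by
    rintro rfl
    rw [mul_zero] at hk
    exact (orderOf_pos x).ne' hk
  refine ⟨r, k, hr, ?_⟩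
  rw [orderOf_pow' x hk0, hk, Nat.gcd_eq_right (Dvd.intro_left r rfl), Nat.mul_div_cancel _ (Nat.pos_of_ne_zero hk0)]

theorem orderOf_mem_pgroup {G : Type*} [Group G] [Finite G] {p : ℕ} (hp : p.Prime) {V : Subgroup G} (hVp : IsPGroup p V) {w : G} (hw : w ∈ V) : ∃ k, orderOf w = p ^ k := by
  obtain ⟨k, hk⟩ := hVp ⟨w, hw⟩
  obtain ⟨i, -, hi⟩ := (Nat.dvd_prime_pow hp).mp (orderOf_dvd_of_pow_eq_one (show w ^ p ^ k = 1 from congrArg Subtype.val hk))
  exact ⟨i, hi⟩

theorem cent_pow {Q : Type*} [Group Q] (x : Q) (k : ℕ) : Subgroup.centralizer ({x} : Set Q) ≤ Subgroup.centralizer ({x ^ k} : Set Q) := by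
  intro y hy
  rw [Subgroup.mem_centralizer_singleton_iff] at hy ⊢
  exact (Commute.pow_right hy k).eq

/-- `p'`-elements act without fixed points on a normal abelian `p`-subgroup whose centralizer is a `p`-group -/
theorem cn_fpf (hCN : IsCNGroup G) {V : Subgroup G} (hVc : ∀ a ∈ V, ∀ b ∈ V, a * b = b * a) {p : ℕ} (hp : p.Prime) (hVp : IsPGroup p V)
    (hCp : IsPGroup p (Subgroup.centralizer (V : Set G))) {t : G} (ht : Nat.Coprime (orderOf t) p) (ht1 : t ≠ 1) {v : G} (hv : v ∈ V)
    (hv1 : v ≠ 1) : t * v ≠ v * t := by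
  intro h
  have h1 : t ∈ Subgroup.centralizer (V : Set G) := by
    rw [Subgroup.mem_centralizer_iff]
    intro w hw
    obtain ⟨k, hw'⟩ := orderOf_mem_pgroup hp hVp hw
    exact (cn_comm hCN hv1 h (hVc w hw v hv) (by rw [hw']; exact Nat.Coprime.pow_right k ht)).symm
  obtain ⟨k, hk'⟩ := orderOf_mem_pgroup hp hCp h1
  rw [hk'] at ht
  apply ht1
  rw [← orderOf_eq_one_iff, hk']
  rcases Nat.eq_zero_or_pos k with h0 | h0
  · rw [h0, pow_zero]
  · exfalso
    have := Nat.Coprime.coprime_dvd_left (dvd_pow_self p h0.ne') ht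
    rw [Nat.coprime_self] at this
    exact hp.one_lt.ne' this

/-- the quotient by the centralizer of a normal abelian `p`-subgroup is a CN-group -/
theorem cn_quot (hCN : IsCNGroup G) {V : Subgroup G} (hVn : V.Normal) (hV1 : V ≠ ⊥) (hVc : ∀ a ∈ V, ∀ b ∈ V, a * b = b * a) {p : ℕ} (hp : p.Prime)
    (hVp : IsPGroup p V) (hCp : IsPGroup p (Subgroup.centralizer (V : Set G))) : IsCNGroup (G ⧸ Subgroup.centralizer (V : Set G)) := by
  haveI := Fact.mk hp
  set C := Subgroup.centralizer (V : Set G) with hC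
  have hCn : C.Normal := inferInstance
  have hCcard : ∃ n, Nat.card C = p ^ n := IsPGroup.iff_card.mp hCp
  obtain ⟨n, hn⟩ := hCcard
  haveI hCs : Group.IsSolvable C := by
    haveI := hCp.isNilpotent
    infer_instance
  have hnorm : ∀ K : Subgroup G, K ≤ Subgroup.normalizer (C : Set G) := fun K => by
    rw [Subgroup.normalizer_eq_top]; exact le_top
  intro x hx
  obtain ⟨r, k, hr, hrk⟩ := exists_pow_prime hx
  refine nil_mono (cent_pow x k) ?_
  generalize x ^ k = y at hrk ⊢
  by_cases hrp : r = p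
  · -- the centralizer is a `p`-group
    have hpg : IsPGroup p (Subgroup.centralizer ({y} : Set (G ⧸ C))) := by
      rw [IsPGroup.iff_card]
      by_contra hno
      have hcard0 : Nat.card (Subgroup.centralizer ({y} : Set (G ⧸ C))) ≠ 0 := Nat.card_pos.ne'
      have h1 : ∃ s : ℕ, s.Prime ∧ s ∣ Nat.card (Subgroup.centralizer ({y} : Set (G ⧸ C))) ∧ s ≠ p := by
        by_contra hcon
        push Not at hcon
        apply hno
        exact ⟨_, Nat.eq_prime_pow_of_unique_prime_dvd hcard0 (fun {d} hd hdd => hcon d hd hdd)⟩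
      obtain ⟨s, hs, hsd, hsp⟩ := h1
      haveI := Fact.mk hs
      obtain ⟨⟨t, ht⟩, hto⟩ := exists_prime_orderOf_dvd_card' s hsd
      rw [Subgroup.orderOf_mk] at hto
      obtain ⟨t', ht', htz⟩ := lift_prime hCp hs hsp hp hto
      obtain ⟨x', hx'⟩ := QuotientGroup.mk'_surjective C y
      -- `t'` commutes with `x'` modulo `C`
      have hcomm : (QuotientGroup.mk' C t') * y = y * (QuotientGroup.mk' C t') := by
        have h2 : QuotientGroup.mk' C t' ∈ Subgroup.zpowers t := by rw [← htz]; exact Subgroup.mem_zpowers _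
        have h3 : Subgroup.zpowers t ≤ Subgroup.centralizer ({y} : Set (G ⧸ C)) := by rw [Subgroup.zpowers_le]; exact ht
        exact Subgroup.mem_centralizer_singleton_iff.mp (h3 h2)
      have hfix : ∀ a ∈ Subgroup.zpowers t', a * x' * a⁻¹ * x'⁻¹ ∈ C := by
        intro a ha
        rw [← QuotientGroup.eq_one_iff]
        obtain ⟨j, rfl⟩ := ha
        have h4 : (QuotientGroup.mk' C (t' ^ j)) * y = y * (QuotientGroup.mk' C (t' ^ j)) := by
          rw [map_zpow]
          exact (Commute.zpow_left (show Commute _ _ from hcomm) j).eq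
        show QuotientGroup.mk' C (t' ^ j * x' * (t' ^ j)⁻¹ * x'⁻¹) = 1
        rw [map_mul, map_mul, map_mul, map_inv, map_inv, hx', h4]; group
      have hcop : (Nat.card (Subgroup.zpowers t')).Coprime (Nat.card C) := by
        rw [Nat.card_zpowers, ht', hn]
        exact Nat.Coprime.pow_right n ((Nat.coprime_primes hs hp).mpr hsp)
      obtain ⟨c, hc, hxc⟩ := CfsgLib.SolvCoprime.exists_fixed_in_coset (Subgroup.zpowers t') C (hnorm _) hcop (Or.inr hCs) x' (by
        rw [Subgroup.normalizer_eq_top]; trivial) hfix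
      -- `c` is a nontrivial `p`-element commuting with `t'`
      have hcy : QuotientGroup.mk' C c = y := by
        rw [← hx']
        have : QuotientGroup.mk' C (x'⁻¹ * c) = 1 := (QuotientGroup.eq_one_iff _).mpr hxc
        rw [map_mul, map_inv, inv_mul_eq_one] at this
        exact this.symm
      have hcp : c ^ p ∈ C := by
        rw [← QuotientGroup.eq_one_iff]
        show QuotientGroup.mk' C (c ^ p) = 1
        rw [map_pow, hcy, ← hrp, ← hrk, pow_orderOf_eq_one]
      obtain ⟨j, hj⟩ := hCp ⟨_, hcp⟩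
      have hj' : (c ^ p) ^ p ^ j = 1 := congrArg Subtype.val hj
      rw [← pow_mul, ← pow_succ'] at hj'
      have hcpg : IsPGroup p (Subgroup.zpowers c) := by
        rw [IsPGroup.iff_card, Nat.card_zpowers]
        obtain ⟨i, -, hi⟩ := (Nat.dvd_prime_pow hp).mp (orderOf_dvd_of_pow_eq_one hj')
        exact ⟨i, hi⟩
      have hc1 : c ≠ 1 := by
        rintro rfl
        rw [map_one] at hcy
        rw [← hcy, orderOf_one] at hrk
        exact hr.one_lt.ne hrk
      have hct : t' * c = c * t' := by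
        have := Subgroup.mem_centralizer_iff.mp hc t' (Subgroup.mem_zpowers t')
        exact this
      -- a fixed point of `c` on `V`
      have hfixV : V ⊓ Subgroup.centralizer ((Subgroup.zpowers c : Subgroup G) : Set G) ≠ ⊥ := by
        intro hbot
        have h5 := CfsgLib.TransAb.card_modEq_centralizer (Subgroup.zpowers c) V hcpg (by
          rw [Subgroup.normalizer_eq_top]; exact le_top)
        rw [hbot, Subgroup.card_bot] at h5
        obtain ⟨m, hm⟩ := IsPGroup.iff_card.mp hVp
        have hm0 : m ≠ 0 := by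
          rintro rfl
          rw [pow_zero] at hm
          exact hV1 (Subgroup.card_eq_one.mp hm)
        rw [hm] at h5
        have h6 : p ∣ 1 := (Nat.modEq_zero_iff_dvd.mp (h5.symm.trans (Nat.modEq_zero_iff_dvd.mpr (dvd_pow_self p hm0))))
        exact hp.not_dvd_one h6
      obtain ⟨v, ⟨hv, hvc⟩, hv1⟩ := (Subgroup.bot_or_exists_ne_one _).resolve_left hfixV
      have hvc' : v * c = c * v := (Subgroup.mem_centralizer_iff.mp hvc c (Subgroup.mem_zpowers c)).symm
      have ht'1 : t' ≠ 1 := by
        rintro rfl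
        rw [orderOf_one] at ht'
        exact hs.one_lt.ne ht'
      obtain ⟨i, hi'⟩ := orderOf_mem_pgroup hp hVp hv
      have hsp' : Nat.Coprime s p := (Nat.coprime_primes hs hp).mpr hsp
      exact cn_fpf hCN hVc hp hVp hCp (by rw [ht']; exact hsp') ht'1 hv hv1
        (cn_comm hCN hc1 hct hvc' (by rw [ht', hi']; exact Nat.Coprime.pow_right i hsp'))
    exact hpg.isNilpotent
  · obtain ⟨x', hx'o, hx'z⟩ := lift_prime hCp hr hrp hp hrk
    have hx'1 : x' ≠ 1 := by
      rintro rfl
      rw [orderOf_one] at hx'o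
      exact hr.one_lt.ne hx'o
    haveI := hCN x' hx'1
    have hle : Subgroup.centralizer ({y} : Set (G ⧸ C)) ≤ (Subgroup.centralizer ({x'} : Set G)).map (QuotientGroup.mk' C) := by
      intro z hz
      obtain ⟨w, rfl⟩ := QuotientGroup.mk'_surjective C z
      have hcomm : QuotientGroup.mk' C x' * QuotientGroup.mk' C w = QuotientGroup.mk' C w * QuotientGroup.mk' C x' := by
        have h2 : QuotientGroup.mk' C x' ∈ Subgroup.zpowers y := by rw [← hx'z]; exact Subgroup.mem_zpowers _
        obtain ⟨j, hj⟩ := h2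
        rw [← hj]
        have h3 : Commute y (QuotientGroup.mk' C w) := (Subgroup.mem_centralizer_singleton_iff.mp hz).symm
        exact (Commute.zpow_left h3 j).eq
      have hfix : ∀ a ∈ Subgroup.zpowers x', a * w * a⁻¹ * w⁻¹ ∈ C := by
        intro a ha
        rw [← QuotientGroup.eq_one_iff]
        obtain ⟨j, rfl⟩ := ha
        have h4 : (QuotientGroup.mk' C (x' ^ j)) * QuotientGroup.mk' C w = QuotientGroup.mk' C w * (QuotientGroup.mk' C (x' ^ j)) := by
          rw [map_zpow]
          exact (Commute.zpow_left (show Commute _ _ from hcomm) j).eq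
        show QuotientGroup.mk' C (x' ^ j * w * (x' ^ j)⁻¹ * w⁻¹) = 1
        rw [map_mul, map_mul, map_mul, map_inv, map_inv, h4]; group
      have hcop : (Nat.card (Subgroup.zpowers x')).Coprime (Nat.card C) := by
        rw [Nat.card_zpowers, hx'o, hn]
        exact Nat.Coprime.pow_right n ((Nat.coprime_primes hr hp).mpr hrp)
      obtain ⟨c, hc, hxc⟩ := CfsgLib.SolvCoprime.exists_fixed_in_coset (Subgroup.zpowers x') C (hnorm _) hcop (Or.inr hCs) w (by
        rw [Subgroup.normalizer_eq_top]; trivial) hfix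
      refine ⟨c, ?_, ?_⟩
      · exact Subgroup.mem_centralizer_singleton_iff.mpr (Subgroup.mem_centralizer_iff.mp hc x' (Subgroup.mem_zpowers x')).symm
      · have : QuotientGroup.mk' C (w⁻¹ * c) = 1 := (QuotientGroup.eq_one_iff _).mpr hxc
        rw [map_mul, map_inv, inv_mul_eq_one] at this
        exact this.symm
    refine nil_mono hle ?_
    exact Group.nilpotent_of_surjective ((QuotientGroup.mk' C).subgroupMap (Subgroup.centralizer ({x'} : Set G))) ((QuotientGroup.mk' C).subgroupMap_surjective _)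

end CfsgLib.CNOdd
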