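import Cfsg.Agent.EqBase
import Cfsg.Agent.LibCNOdd
import Cfsg.Agent.LibCores
import Cfsg.Agent.LibLE2
/-!
# CN-groups of odd order: structure of local subgroups (helper16)
-/
set_option autoImplicit false
set_option linter.all false
open Cfsg
open scoped commutatorElement Pointwise
namespace CfsgLib.CNOdd

universe u
variable {G : Type u} [Group G] [Finite G]

/-- the Sylow subgroup contained in a nilpotent subgroup contains its `p`-elements -/
theorem mem_sylow_of_nil {p : ℕ} [Fact p.Prime] {N : Subgroup G} (hN : Group.IsNilpotent N) (S : Sylow p G) (hS : (S : Subgroup G) ≤ N) {x : G}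
    (hx : x ∈ N) {k : ℕ} (hxp : x ^ p ^ k = 1) : x ∈ (S : Subgroup G) := by
  have hnorm : ((S.subtype hS : Sylow p N) : Subgroup N).Normal := (Group.isNilpotent_of_finite_tfae.out 0 3 rfl rfl).mp hN p inferInstance _
  have h1 : IsPGroup p (Subgroup.zpowers (⟨x, hx⟩ : N)) := by
    rw [IsPGroup.iff_card, Nat.card_zpowers]
    have : (⟨x, hx⟩ : N) ^ p ^ k = 1 := Subtype.ext hxp
    obtain ⟨i, -, hi⟩ := (Nat.dvd_prime_pow (Fact.out : p.Prime)).mp (orderOf_dvd_of_pow_eq_one this)
    exact ⟨i, hi⟩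
  obtain ⟨Q, hQ⟩ := h1.exists_le_sylow
  haveI := Sylow.unique_of_normal _ hnorm
  have h2 : Q = S.subtype hS := Subsingleton.elim _ _
  have h3 := hQ (Subgroup.mem_zpowers _)
  rw [h2] at h3
  exact h3

theorem exists_other_prime {p : ℕ} {C : Subgroup G} (hCp : ¬ IsPGroup p C) (hp : p.Prime) : ∃ r ∈ C, (orderOf r).Prime ∧ orderOf r ≠ p := by
  have h1 : ∃ s : ℕ, s.Prime ∧ s ∣ Nat.card C ∧ s ≠ p := by
    by_contra hcon
    push Not at hcon
    apply hCp
    haveI := Fact.mk hp
    rw [IsPGroup.iff_card]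
    exact ⟨_, Nat.eq_prime_pow_of_unique_prime_dvd Nat.card_pos.ne' (fun {d} hd hdd => hcon d hd hdd)⟩
  obtain ⟨s, hs, hsd, hsp⟩ := h1
  haveI := Fact.mk hs
  obtain ⟨⟨t, ht⟩, hto⟩ := exists_prime_orderOf_dvd_card' s hsd
  rw [Subgroup.orderOf_mk] at hto
  exact ⟨t, ht, by rw [hto]; exact hs, by rw [hto]; exact hsp⟩

/-- a nontrivial normal subgroup contained in a Sylow subgroup meets its center -/
theorem exists_central {p : ℕ} [Fact p.Prime] (P : Sylow p G) {V : Subgroup G} (hVn : V.Normal) (hV1 : V ≠ ⊥) (hVP : V ≤ P) :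
    ∃ z ∈ V, z ≠ 1 ∧ ∀ y ∈ (P : Subgroup G), y * z = z * y := by
  haveI : Group.IsNilpotent P := P.isPGroup'.isNilpotent
  haveI : (V.subgroupOf (P : Subgroup G)).Normal := Subgroup.Normal.subgroupOf hVn _
  have h1 : V.subgroupOf (P : Subgroup G) ≠ ⊥ := by
    intro h
    rw [Subgroup.subgroupOf_eq_bot, disjoint_iff, inf_eq_left.mpr hVP] at h
    exact hV1 h
  have h2 := CfsgLib.SolvNilp.inf_center_ne_bot _ h1
  obtain ⟨z, ⟨hz1, hz2⟩, hz3⟩ := (Subgroup.bot_or_exists_ne_one _).resolve_left h2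
  refine ⟨z, hz1, fun h => hz3 (Subtype.ext h), fun y hy => ?_⟩
  exact congrArg Subtype.val (Subgroup.mem_center_iff.mp hz2 ⟨y, hy⟩)

/-- if the centralizer of a normal abelian `p`-subgroup is not a `p`-group then Sylow `p`-subgroups are normal -/
theorem sylow_normal (hCN : IsCNGroup G) {V : Subgroup G} (hVn : V.Normal) (hV1 : V ≠ ⊥) {p : ℕ} [hp : Fact p.Prime]
    (hVp : IsPGroup p V) (hCp : ¬ IsPGroup p (Subgroup.centralizer (V : Set G))) (P : Sylow p G) : (P : Subgroup G).Normal := by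
  obtain ⟨r, hr, hrp, hrne⟩ := exists_other_prime hCp hp.out
  have hr1 : r ≠ 1 := by
    rintro rfl
    rw [orderOf_one] at hrp
    exact Nat.not_prime_one hrp
  have key : ∀ S : Sylow p G, (S : Subgroup G) ≤ Subgroup.centralizer ({r} : Set G) := by
    intro S x hx
    obtain ⟨z, hz, hz1, hzc⟩ := exists_central S hVn hV1 (CfsgLib.Cores.normal_le_sylow hVn hVp S)
    obtain ⟨k, hk⟩ := orderOf_mem_pgroup hp.out S.isPGroup' hx
    refine Subgroup.mem_centralizer_singleton_iff.mpr (cn_comm hCN hz1 (hzc x hx) ?_ ?_)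
    · exact (Subgroup.mem_centralizer_iff.mp hr z hz).symm
    · rw [hk]
      exact Nat.Coprime.pow_left k ((Nat.coprime_primes hp.out hrp).mpr (Ne.symm hrne))
  have h2 : ∀ S : Sylow p G, (S : Subgroup G) ≤ P := by
    intro S x hx
    obtain ⟨k, hk⟩ := orderOf_mem_pgroup hp.out S.isPGroup' hx
    exact mem_sylow_of_nil (hCN r hr1) P (key P) (key S hx) (k := k) (by rw [← hk]; exact pow_orderOf_eq_one x)
  constructor
  intro n hn g
  have h3 : g * n * g⁻¹ ∈ ((MulAut.conj g • P : Sylow p G) : Subgroup G) := by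
    exact ⟨n, hn, rfl⟩
  exact h2 _ h3

/-- in a solvable CN-group of odd order without `p`-quotients having a normal abelian `p`-subgroup, the Sylow `p`-subgroup is normal -/
theorem sylow_normal_of_solvable (hCN : IsCNGroup G) (hodd : Odd (Nat.card G)) (hs : Group.IsSolvable G) {V : Subgroup G} (hVn : V.Normal) (hV1 : V ≠ ⊥)
    (hVc : ∀ a ∈ V, ∀ b ∈ V, a * b = b * a) {p : ℕ} [hp : Fact p.Prime] (hVp : IsPGroup p V) (P : Sylow p G) (hP : (P : Subgroup G) ≤ commutator G) :
    (P : Subgroup G).Normal := by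
  by_cases hCp : IsPGroup p (Subgroup.centralizer (V : Set G))
  swap
  · exact sylow_normal hCN hVn hV1 hVp hCp P
  set N := pCore p G with hN
  haveI hNn : N.Normal := inferInstance
  have hNp : IsPGroup p N := CfsgLib.Cores.pCore_isPGroup p
  set F := fittingSubgroup (G ⧸ N) with hF
  haveI hFn : F.Normal := inferInstance
  haveI hFnil : Group.IsNilpotent F := CfsgLib.Cores.fittingSubgroup_isNilpotent
  haveI hsq : Group.IsSolvable (G ⧸ N) := inferInstance
  have hFp : ¬ p ∣ Nat.card F := by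
    have h1 := CfsgLib.Cores.not_dvd_relIndex_pCore_of_normal_nilpotent hp.out F hFnil
    rwa [CfsgLib.Cores.pCore_quotient_pCore, Subgroup.relIndex_bot_left] at h1
  -- `F` is a Z-group
  haveI hZ : IsZGroup F := by
    constructor
    intro r hr R
    haveI := Fact.mk hr
    by_cases hrp : r = p
    · have h1 : Nat.card R = 1 := by
        obtain ⟨n, hn⟩ := IsPGroup.iff_card.mp R.isPGroup'
        rcases Nat.eq_zero_or_pos n with h | h
        · rw [hn, h, pow_zero]
        · exfalso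
          apply hFp
          refine dvd_trans ?_ (Subgroup.card_subgroup_dvd_card (R : Subgroup F))
          rw [hn, ← hrp]
          exact dvd_pow_self r h.ne'
      haveI : Subsingleton R := (Nat.card_eq_one_iff_unique.mp h1).1
      exact isCyclic_of_subsingleton
    · -- lift to an `r`-subgroup of `G`
      obtain ⟨T⟩ : Nonempty (Sylow r G) := inferInstance
      have hTfpf : CfsgLib.FPF1.FPF (T : Subgroup G) V := by
        intro a ha ha1
        rw [eq_bot_iff]
        rintro v ⟨hv, hvc⟩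
        rw [Subgroup.mem_bot]
        by_contra hv1
        obtain ⟨k, hk⟩ := orderOf_mem_pgroup hr T.isPGroup' ha
        exact cn_fpf hCN hVc hp.out hVp hCp (by rw [hk]; exact Nat.Coprime.pow_left k ((Nat.coprime_primes hr hp.out).mpr hrp)) ha1 hv hv1
          (Subgroup.mem_centralizer_singleton_iff.mp hvc).symm
      have hr2 : r ≠ 2 ∨ (T : Subgroup G) = ⊥ := by
        by_cases h2 : r = 2
        · right
          rw [← Subgroup.card_eq_one]
          obtain ⟨n, hn⟩ := IsPGroup.iff_card.mp T.isPGroup'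
          rcases Nat.eq_zero_or_pos n with h | h
          · rw [hn, h, pow_zero]
          · exfalso
            have h3 : 2 ∣ Nat.card G := by
              refine dvd_trans ?_ (Subgroup.card_subgroup_dvd_card (T : Subgroup G))
              rw [hn, h2]; exact dvd_pow_self 2 h.ne'
            exact (Nat.not_even_iff_odd.mpr hodd) (even_iff_two_dvd.mpr h3)
        · left; exact h2
      haveI hTc : IsCyclic (T : Subgroup G) := by
        rcases hr2 with h2 | h2
        · exact hTfpf.pgroup_cyclic (by rw [Subgroup.normalizer_eq_top]; exact le_top) hV1 hr h2 T.isPGroup'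
        · rw [h2]; exact isCyclic_of_subsingleton
      -- the image of `T` is a Sylow subgroup of the quotient
      have h4 : IsPGroup r ((R : Subgroup F).map F.subtype) := R.isPGroup'.map _
      obtain ⟨Q, hQ⟩ := h4.exists_le_sylow
      have hTQ : ∃ T' : Sylow r (G ⧸ N), (T' : Subgroup (G ⧸ N)) = (T : Subgroup G).map (QuotientGroup.mk' N) :=
        ⟨T.mapSurjective (QuotientGroup.mk'_surjective N), rfl⟩
      obtain ⟨T', hT'⟩ := hTQ
      haveI : IsCyclic (T' : Subgroup (G ⧸ N)) := by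
        rw [hT']
        exact isCyclic_of_surjective ((QuotientGroup.mk' N).subgroupMap (T : Subgroup G)) ((QuotientGroup.mk' N).subgroupMap_surjective _)
      haveI : IsCyclic (Q : Subgroup (G ⧸ N)) := by
        obtain ⟨e⟩ : Nonempty ((Q : Subgroup (G ⧸ N)) ≃* (T' : Subgroup (G ⧸ N))) := ⟨Q.equiv T'⟩
        exact (MulEquiv.isCyclic e).mpr inferInstance
      haveI : IsCyclic ((R : Subgroup F).map F.subtype) := by
        have : IsCyclic (((R : Subgroup F).map F.subtype).subgroupOf (Q : Subgroup (G ⧸ N))) := inferInstance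
        exact (MulEquiv.isCyclic (Subgroup.subgroupOfEquivOfLe hQ)).mp this
      exact (MulEquiv.isCyclic ((R : Subgroup F).equivMapOfInjective F.subtype F.subtype_injective)).mpr inferInstance
  haveI hFc : IsCyclic F := inferInstance
  -- the derived subgroup centralizes `F`
  have h5 : commutator (G ⧸ N) ≤ F := by
    refine le_trans ?_ CfsgLib.Cores.centralizer_fittingSubgroup_le
    rw [commutator_def, Subgroup.commutator_le]
    intro a _ b _
    rw [Subgroup.mem_centralizer_iff]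
    obtain ⟨f, hf⟩ := hFc.exists_zpow_surjective
    have hgen : ∀ x ∈ F, ∃ n : ℤ, x = (f : G ⧸ N) ^ n := by
      intro x hx
      obtain ⟨n, hn⟩ := hf ⟨x, hx⟩
      exact ⟨n, (congrArg Subtype.val hn).symm⟩
    obtain ⟨i, hi⟩ := hgen _ (hFn.conj_mem f f.2 a)
    obtain ⟨j, hj⟩ := hgen _ (hFn.conj_mem f f.2 b)
    have h6 : (a * b) * (f : G ⧸ N) * (a * b)⁻¹ = (b * a) * (f : G ⧸ N) * (b * a)⁻¹ := by
      have e1 : (a * b) * (f : G ⧸ N) * (a * b)⁻¹ = (a * f * a⁻¹) ^ j := by
        rw [conj_zpow, ← hj]; group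
      have e2 : (b * a) * (f : G ⧸ N) * (b * a)⁻¹ = (b * f * b⁻¹) ^ i := by
        rw [conj_zpow, ← hi]; group
      rw [e1, e2, hi, hj, ← zpow_mul, ← zpow_mul, mul_comm]
    have h7 : Commute (f : G ⧸ N) ⁅a, b⁆ := by
      show (f : G ⧸ N) * ⁅a, b⁆ = ⁅a, b⁆ * f
      rw [commutatorElement_def]
      have h8 : (b * a)⁻¹ * (a * b) * (f : G ⧸ N) = (f : G ⧸ N) * ((b * a)⁻¹ * (a * b)) := by
        calc (b * a)⁻¹ * (a * b) * (f : G ⧸ N) = (b * a)⁻¹ * ((a * b) * f * (a * b)⁻¹) * (a * b) := by group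
          _ = (b * a)⁻¹ * ((b * a) * f * (b * a)⁻¹) * (a * b) := by rw [h6]
          _ = _ := by group
      -- conjugate the identity
      have h9 : ∀ y : F, (b * a)⁻¹ * (a * b) * (y : G ⧸ N) = (y : G ⧸ N) * ((b * a)⁻¹ * (a * b)) := by
        intro y
        obtain ⟨n, hn⟩ := hgen y y.2
        rw [hn]
        exact (Commute.zpow_right (show Commute _ _ from h8) n).eq
      have h10 := h9 ⟨(b * a)⁻¹ * f * ((b * a)⁻¹)⁻¹, hFn.conj_mem f f.2 _⟩
      have h11 : (b * a)⁻¹ * (a * b) * ((b * a)⁻¹ * f * ((b * a)⁻¹)⁻¹) = ((b * a)⁻¹ * f * ((b * a)⁻¹)⁻¹) * ((b * a)⁻¹ * (a * b)) := h10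
      calc (f : G ⧸ N) * (a * b * a⁻¹ * b⁻¹) = (b * a) * (((b * a)⁻¹ * f * ((b * a)⁻¹)⁻¹) * ((b * a)⁻¹ * (a * b))) * (b * a)⁻¹ := by group
        _ = (b * a) * ((b * a)⁻¹ * (a * b) * ((b * a)⁻¹ * f * ((b * a)⁻¹)⁻¹)) * (b * a)⁻¹ := by rw [h11]
        _ = _ := by group
    intro x hx
    obtain ⟨n, hn⟩ := hgen x hx
    rw [hn]
    exact (Commute.zpow_left h7 n).eq
  -- conclusion
  have h6 : (P : Subgroup G) ≤ N := by
    intro x hx
    have h7 : QuotientGroup.mk' N x ∈ F := by
      apply h5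
      have h8 : QuotientGroup.mk' N x ∈ (commutator G).map (QuotientGroup.mk' N) := ⟨x, hP hx, rfl⟩
      rw [commutator_def, Subgroup.map_commutator] at h8
      rw [commutator_def]
      exact Subgroup.commutator_mono le_top le_top h8
    obtain ⟨k, hk⟩ := orderOf_mem_pgroup hp.out P.isPGroup' hx
    have h8 : orderOf (QuotientGroup.mk' N x) ∣ p ^ k := by rw [← hk]; exact orderOf_map_dvd _ x
    have h9 : orderOf (QuotientGroup.mk' N x) ∣ Nat.card F := Subgroup.orderOf_dvd_natCard F h7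
    have h10 : Nat.Coprime (p ^ k) (Nat.card F) := Nat.Coprime.pow_left k ((Nat.Prime.coprime_iff_not_dvd hp.out).mpr hFp)
    have h11 := Nat.eq_one_of_dvd_coprimes h10 h8 h9
    rw [orderOf_eq_one_iff] at h11
    exact (QuotientGroup.eq_one_iff x).mp h11
  have h7 : (P : Subgroup G) = N := le_antisymm h6 (CfsgLib.Cores.pCore_le_sylow P)
  rw [h7]; exact hNn

end CfsgLib.CNOdd
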