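import Cfsg.Statements.S0118
import Cfsg.Agent.LibQd9C
import Cfsg.Agent.LibFusionH12g
import Cfsg.Agent.LibH2Npc

set_option autoImplicit false
open Cfsg

namespace Cfsg.Agent.S0118

open Subgroup CfsgLib.SecH12 CfsgLib.FusionH12 CfsgLib.FusionH12c CfsgLib.FusionH12f CfsgLib.H2Npc CfsgLib.H2PSt2 CfsgLib.H2ZJe

theorem strong {G : Type*} [Group G] [Finite G] {p : ℕ} [Fact p.Prime] (hp : p ≠ 2)
    (hfree : ¬ IsSec (Matrix.SpecialLinearGroup (Fin 2) (ZMod p)) G) (P : Sylow p G) (A : Set G)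
    (hA : A ⊆ (P : Set G)) (g : G) (hAg : (fun a => g * a * g⁻¹) '' A ⊆ (P : Set G)) :
    ∃ n ∈ Subgroup.normalizer (Cfsg.centerThompsonOf p (P : Subgroup G) : Set G),
      ∀ a ∈ A, n * a * n⁻¹ = g * a * g⁻¹ := by
  have h𝓦 : ∀ W' ∈ ({WE p} : Set (∀ (Q : Type _) [Group Q], Subgroup Q)), IsCharPFunctor p W' := by
    rintro W' rfl; exact charp_WE p
  have h1 : FamilyControlsStrongFusionIn p (indSet {WE p} G) ⊤ := by
    refine main_fusion h𝓦 _ G le_rfl ?_
    intro H _ hH hc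
    haveI : Finite H := hH.finite
    obtain ⟨T⟩ : Nonempty (Sylow p H) := inferInstance
    have hT := SylIn.ofSylow T
    rw [famFusion_iff' (indSet_isConj h𝓦 _) hT]
    intro D g hD _ hgD
    refine Reach.single ⟨hD, hgD, Or.inl ⟨_, ⟨_, ⟨WE p, rfl, rfl⟩, rfl⟩, Subgroup.mem_top _, ?_⟩⟩
    have h2 : (inducedFunctor (WE p) (T : Subgroup H)).Normal := by
      rw [induced_WE, centerThompsonOf_eq]
      exact center_Je_normal hp (fun K => CfsgLib.Qd9.noQuad_sub_of_SL2_free hp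
        (fun h => hfree (h.trans hH)) K) hc T
    rw [Subgroup.normalizer_eq_top]
    exact Subgroup.mem_top _
  have hT := SylIn.ofSylow P
  rw [famFusion_iff' (indSet_isConj h𝓦 _) hT] at h1
  obtain ⟨n, c, c1, c2, c3, c4⟩ := fusIn_iff.1 h1 A g (Subgroup.mem_top g) hA hAg
  refine ⟨c (Fin.last n), ?_, fun a ha => c4 a ha⟩
  have : ∀ i : Fin (n + 1), c i ∈ Subgroup.normalizer ((inducedFunctor (G := G) (WE p)
      (P : Subgroup G) : Subgroup G) : Set G) := by
    intro i
    induction i using Fin.induction with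
    | zero => rw [c1]; exact one_mem _
    | succ i ih =>
      obtain ⟨N, ⟨W', ⟨W'', hW'', rfl⟩, rfl⟩, hc⟩ := c2 i
      rw [Set.mem_singleton_iff] at hW''
      subst hW''
      have := mul_mem hc.2 ih
      rwa [inv_mul_cancel_right] at this
  have h3 := this (Fin.last n)
  rw [induced_WE] at h3
  exact h3


/-- Glauberman's ZJ-Theorem, in the case of groups with no section isomorphic to SL(2,p), p odd: conjugation of subsets of a Sylow p-subgroup P inside P is always induced from the normalizer of Z(J(P)). -/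
theorem result {G : Type*} [Group G] [Finite G] {p : ℕ} [Fact p.Prime] (hp : p ≠ 2) (hfree : ¬ ∃ (H K : Subgroup G) (hK : (K.subgroupOf H).Normal), Nonempty ((H ⧸ K.subgroupOf H) ≃* Matrix.SpecialLinearGroup (Fin 2) (ZMod p))) (P : Sylow p G) (A : Set G) (hA : A ⊆ (P : Set G)) (g : G) (hAg : (fun a => g⁻¹ * a * g) '' A ⊆ (P : Set G)) : ∃ n ∈ Subgroup.normalizer (Cfsg.centerThompsonOf p (P : Subgroup G) : Set G), ∀ a ∈ A, n⁻¹ * a * n = g⁻¹ * a * g := by
  have hfree' : ¬ IsSec (Matrix.SpecialLinearGroup (Fin 2) (ZMod p)) G := by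
    intro h
    obtain ⟨K, R, hR, e⟩ := h.exists_quot
    exact hfree ⟨K, R, hR, e⟩
  obtain ⟨m, hm, hm'⟩ := strong hp hfree' P A hA g⁻¹ (by simpa using hAg)
  refine ⟨m⁻¹, inv_mem hm, fun a ha => ?_⟩
  have := hm' a ha
  simpa using this

end Cfsg.Agent.S0118
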