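import Cfsg.Agent.EqBase
import Cfsg.Agent.LibCNOdd2
import Cfsg.Agent.LibH2Npc
import Cfsg.Agent.LibTransFus
import Cfsg.Agent.S0118
/-!
# CN-groups of odd order: the simple case (helper16)
-/
set_option autoImplicit false
set_option linter.all false
open Cfsg
open scoped commutatorElement Pointwise
namespace CfsgLib.CNOdd

universe u
variable {G : Type u} [Group G] [Finite G]

structure Hyp (G : Type u) [Group G] [Finite G] : Prop where
  hodd : Odd (Nat.card G)
  hCN : IsCNGroup G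
  hprop : ∀ K : Subgroup G, K ≠ ⊤ → Group.IsSolvable K
  hsimp : IsSimpleGroup G
  hns : ¬ Group.IsSolvable G

theorem even_card_SL {p : ℕ} [hp : Fact p.Prime] (hp2 : p ≠ 2) : 2 ∣ Nat.card (Matrix.SpecialLinearGroup (Fin 2) (ZMod p)) := by
  have h1 : (-1 : Matrix.SpecialLinearGroup (Fin 2) (ZMod p)) ≠ 1 := by
    intro h
    have h2 := congrArg (fun A : Matrix.SpecialLinearGroup (Fin 2) (ZMod p) => (A : Matrix (Fin 2) (Fin 2) (ZMod p)) 0 0) h
    simp at h2
    have h3 : (2 : ZMod p) = 0 := by linear_combination -h2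
    have h4 : ((2 : ℕ) : ZMod p) = 0 := by exact_mod_cast h3
    rw [ZMod.natCast_eq_zero_iff] at h4
    exact hp2 ((Nat.prime_dvd_prime_iff_eq hp.out Nat.prime_two).mp h4)
  have h2 : (-1 : Matrix.SpecialLinearGroup (Fin 2) (ZMod p)) ^ 2 = 1 := by simp
  have h3 : orderOf (-1 : Matrix.SpecialLinearGroup (Fin 2) (ZMod p)) = 2 := by
    haveI : Fact (Nat.Prime 2) := ⟨Nat.prime_two⟩
    exact orderOf_eq_prime h2 h1
  have h4 := orderOf_dvd_natCard (-1 : Matrix.SpecialLinearGroup (Fin 2) (ZMod p))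
  rwa [h3] at h4

theorem no_SL (hodd : Odd (Nat.card G)) {p : ℕ} [hp : Fact p.Prime] (hp2 : p ≠ 2) :
    ¬ ∃ (H K : Subgroup G) (hK : (K.subgroupOf H).Normal), Nonempty ((H ⧸ K.subgroupOf H) ≃* Matrix.SpecialLinearGroup (Fin 2) (ZMod p)) := by
  rintro ⟨H, K, hK, ⟨e⟩⟩
  have h1 := even_card_SL (p := p) hp2
  rw [← Nat.card_congr e.toEquiv] at h1
  have h2 : Nat.card (H ⧸ K.subgroupOf H) ∣ Nat.card G := (Subgroup.card_quotient_dvd_card _).trans (Subgroup.card_subgroup_dvd_card H)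
  exact (Nat.not_even_iff_odd.mpr hodd) (even_iff_two_dvd.mpr (h1.trans h2))

namespace Hyp
variable (D : Hyp G)
include D

theorem comm_top : commutator G = ⊤ := by
  haveI := D.hsimp
  rcases (inferInstance : (commutator G).Normal).eq_bot_or_eq_top with h | h
  · exfalso
    apply D.hns
    apply Group.isSolvable_of_comm
    intro a b
    have h1 : ⁅a, b⁆ ∈ commutator G := Subgroup.commutator_mem_commutator (Subgroup.mem_top a) (Subgroup.mem_top b)
    rw [h, Subgroup.mem_bot, commutatorElement_eq_one_iff_mul_comm] at h1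
    exact h1
  · exact h

theorem p_odd {p : ℕ} [hp : Fact p.Prime] (P : Sylow p G) (hP : (P : Subgroup G) ≠ ⊥) : p ≠ 2 := by
  rintro rfl
  obtain ⟨n, hn⟩ := IsPGroup.iff_card.mp P.isPGroup'
  rcases Nat.eq_zero_or_pos n with h | h
  · rw [h, pow_zero] at hn
    exact hP (Subgroup.card_eq_one.mp hn)
  · have h3 : 2 ∣ Nat.card G := by
      refine dvd_trans ?_ (Subgroup.card_subgroup_dvd_card (P : Subgroup G))
      rw [hn]; exact dvd_pow_self 2 h.ne'
    exact (Nat.not_even_iff_odd.mpr D.hodd) (even_iff_two_dvd.mpr h3)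

/-- the normalizer of a Sylow subgroup controls fusion in it -/
theorem control {p : ℕ} [hp : Fact p.Prime] (P : Sylow p G) (hP : (P : Subgroup G) ≠ ⊥) :
    ∀ x g : G, x ∈ P → g * x * g⁻¹ ∈ P → ∃ n ∈ Subgroup.normalizer ((P : Subgroup G) : Set G), n * x * n⁻¹ = g * x * g⁻¹ := by
  haveI := D.hsimp
  have hp2 := D.p_odd P hP
  set V := centerThompsonOf p (P : Subgroup G) with hV
  have hVP : V ≤ P := CfsgLib.H2Npc.centerThompsonOf_le p _
  have hV1 : V ≠ ⊥ := CfsgLib.H2Npc.centerThompsonOf_ne_bot P.isPGroup' hP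
  have hVp : IsPGroup p V := P.isPGroup'.to_le hVP
  have hVc : ∀ a ∈ V, ∀ b ∈ V, a * b = b * a := by
    intro a ha b hb
    exact (Subgroup.mem_centralizer_iff.mp hb.2 a ha.1)
  set M := Subgroup.normalizer (V : Set G) with hM
  have hMt : M ≠ ⊤ := by
    intro h
    have hVn : V.Normal := Subgroup.normalizer_eq_top_iff.mp h
    rcases hVn.eq_bot_or_eq_top with h1 | h1
    · exact hV1 h1
    · apply D.hns
      have h2 : IsPGroup p (⊤ : Subgroup G) := h1 ▸ hVp
      haveI := h2.isNilpotent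
      have h3 : Group.IsSolvable (⊤ : Subgroup G) := inferInstance
      exact Group.isSolvable_of_isSolvable_injective (f := (Subgroup.topEquiv (G := G)).symm.toMonoidHom) (Subgroup.topEquiv (G := G)).symm.injective
  have hMs : Group.IsSolvable M := D.hprop M hMt
  have hPM : (P : Subgroup G) ≤ M := by
    intro g hg
    rw [hM, Subgroup.mem_normalizer_iff]
    have h1 : (P : Subgroup G).map (MulAut.conj g).toMonoidHom = P := by
      have := Subgroup.le_normalizer (H := (P : Subgroup G)) hg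
      ext x
      constructor
      · rintro ⟨y, hy, rfl⟩
        exact (Subgroup.mem_normalizer_iff.mp this y).mp hy
      · intro hx
        refine ⟨g⁻¹ * x * g, ?_, by show g * (g⁻¹ * x * g) * g⁻¹ = x; group⟩
        have := (Subgroup.mem_normalizer_iff.mp this (g⁻¹ * x * g)).mpr (by
          have : g * (g⁻¹ * x * g) * g⁻¹ = x := by group
          rw [this]; exact hx)
        exact this
    have h2 := CfsgLib.H2Npc.centerThompsonOf_map p (MulAut.conj g).toMonoidHom (P := (P : Subgroup G)) ((MulAut.conj g).injective.injOn)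
    rw [h1] at h2
    intro x
    constructor
    · intro hx
      have : g * x * g⁻¹ ∈ (centerThompsonOf p (P : Subgroup G)).map (MulAut.conj g).toMonoidHom := ⟨x, hx, rfl⟩
      rwa [← h2] at this
    · intro hx
      have h3 : g * x * g⁻¹ ∈ (centerThompsonOf p (P : Subgroup G)).map (MulAut.conj g).toMonoidHom := by rw [← h2]; exact hx
      obtain ⟨y, hy, hyx⟩ := h3
      have h4 : g * y * g⁻¹ = g * x * g⁻¹ := hyx
      have h5 : y = x := by
        have := mul_right_cancel h4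
        exact mul_left_cancel this
      rw [← h5]; exact hy
  have hctl : ∀ x g : G, x ∈ (P : Subgroup G) → g * x * g⁻¹ ∈ (P : Subgroup G) → ∃ n ∈ M, n * x * n⁻¹ = g * x * g⁻¹ := by
    intro x g hx hgx
    obtain ⟨n, hn, hnx⟩ := Cfsg.Agent.S0118.result hp2 (no_SL D.hodd hp2) P {x} (Set.singleton_subset_iff.mpr hx) g⁻¹ (by
      rintro _ ⟨a, rfl, rfl⟩
      show g⁻¹⁻¹ * a * g⁻¹ ∈ (P : Subgroup G)
      rw [inv_inv]; exact hgx)
    refine ⟨n⁻¹, M.inv_mem hn, ?_⟩
    have := hnx x rfl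
    rw [inv_inv] at this ⊢
    exact this
  have hPc : (P : Subgroup G) ≤ ⁅M, M⁆ := by
    have h1 := CfsgLib.TransFus.commutator_inf_eq_of_controls P M hPM hctl
    rw [D.comm_top, top_inf_eq] at h1
    rw [h1]; exact inf_le_left
  have hnorm : ((P.subtype hPM : Sylow p M) : Subgroup M).Normal := by
    refine sylow_normal_of_solvable (cn_sub D.hCN M) (Odd.of_dvd_nat D.hodd (Subgroup.card_subgroup_dvd_card M)) hMs (V := V.subgroupOf M) ?_ ?_ ?_ ?_ _ ?_
    · exact ⟨fun n hn g => (Subgroup.mem_normalizer_iff.mp g.2 n).mp hn⟩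
    · intro h
      rw [Subgroup.subgroupOf_eq_bot, disjoint_iff, inf_eq_left.mpr (hVP.trans hPM)] at h
      exact hV1 h
    · intro a ha b hb
      exact Subtype.ext (hVc a ha b hb)
    · exact hVp.comap_subtype
    · intro x hx
      have h1 : (x : G) ∈ ⁅M, M⁆ := hPc hx
      have h2 : ⁅M, M⁆ = (commutator M).map M.subtype := by
        rw [commutator_def, Subgroup.map_commutator, ← MonoidHom.range_eq_map, Subgroup.range_subtype]
      rw [h2] at h1
      obtain ⟨y, hy, hyx⟩ := h1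
      have : y = x := Subtype.ext hyx
      rw [← this]; exact hy
  have hMN : M ≤ Subgroup.normalizer ((P : Subgroup G) : Set G) := by
    intro m hm
    rw [Subgroup.mem_normalizer_iff]
    intro x
    constructor
    · intro hx
      exact hnorm.conj_mem ⟨x, hPM hx⟩ hx ⟨m, hm⟩
    · intro hx
      have h1 := hnorm.conj_mem ⟨m * x * m⁻¹, hPM hx⟩ hx ⟨m⁻¹, M.inv_mem hm⟩
      have h2 : m⁻¹ * (m * x * m⁻¹) * m⁻¹⁻¹ ∈ (P : Subgroup G) := h1
      have h3 : m⁻¹ * (m * x * m⁻¹) * m⁻¹⁻¹ = x := by group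
      rwa [h3] at h2
  intro x g hx hgx
  obtain ⟨n, hn, h⟩ := hctl x g hx hgx
  exact ⟨n, hMN hn, h⟩

/-- `p'`-elements centralizing a nontrivial element of `P` centralize `P` -/
theorem cent_P {p : ℕ} [hp : Fact p.Prime] (P : Sylow p G) {x t : G} (hx : x ∈ (P : Subgroup G)) (hx1 : x ≠ 1) (htx : t * x = x * t)
    (ht : (orderOf t).Coprime p) : ∀ y ∈ (P : Subgroup G), t * y = y * t := by
  have hP : (P : Subgroup G) ≠ ⊥ := by
    intro h; rw [h, Subgroup.mem_bot] at hx; exact hx1 hx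
  haveI : Group.IsNilpotent P := P.isPGroup'.isNilpotent
  haveI : Nontrivial (P : Subgroup G) := (Subgroup.nontrivial_iff_ne_bot _).mpr hP
  obtain ⟨z, hz⟩ := (Subgroup.nontrivial_iff_exists_ne_one _).mp (P.isPGroup'.center_nontrivial)
  have hzc : ∀ y ∈ (P : Subgroup G), y * (z : G) = z * y := fun y hy => congrArg Subtype.val (Subgroup.mem_center_iff.mp hz.1 ⟨y, hy⟩)
  have hz1 : (z : G) ≠ 1 := fun h => hz.2 (Subtype.ext h)
  have hord : ∀ y ∈ (P : Subgroup G), (orderOf t).Coprime (orderOf y) := by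
    intro y hy
    obtain ⟨k, hk⟩ := orderOf_mem_pgroup hp.out P.isPGroup' hy
    rw [hk]; exact Nat.Coprime.pow_right k ht
  have h1 : t * (z : G) = z * t := cn_comm D.hCN hx1 htx (hzc x hx).symm (hord z z.2)
  intro y hy
  exact cn_comm D.hCN hz1 h1 (hzc y hy) (hord y hy)

/-- `p`-elements centralizing a nontrivial element of `P` lie in `P` -/
theorem cent_mem {p : ℕ} [hp : Fact p.Prime] (P : Sylow p G) {x a : G} (hx : x ∈ (P : Subgroup G)) (hx1 : x ≠ 1) (hax : a * x = x * a)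
    {k : ℕ} (ha : a ^ p ^ k = 1) : a ∈ (P : Subgroup G) := by
  have hP : (P : Subgroup G) ≠ ⊥ := by
    intro h; rw [h, Subgroup.mem_bot] at hx; exact hx1 hx
  set C := Subgroup.centralizer ({x} : Set G) with hC
  have hCn : Group.IsNilpotent C := D.hCN x hx1
  obtain ⟨S⟩ : Nonempty (Sylow p C) := inferInstance
  have hSn : (S : Subgroup C).Normal := (Group.isNilpotent_of_finite_tfae.out 0 3 rfl rfl).mp hCn p inferInstance _
  haveI := Sylow.unique_of_normal _ hSn
  have hmem : ∀ (b : C) (j : ℕ), b ^ p ^ j = 1 → b ∈ (S : Subgroup C) := by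
    intro b j hb
    have h1 : IsPGroup p (Subgroup.zpowers b) := by
      rw [IsPGroup.iff_card, Nat.card_zpowers]
      obtain ⟨i, -, hi⟩ := (Nat.dvd_prime_pow hp.out).mp (orderOf_dvd_of_pow_eq_one hb)
      exact ⟨i, hi⟩
    obtain ⟨Q, hQ⟩ := h1.exists_le_sylow
    have h2 : Q = S := Subsingleton.elim _ _
    rw [← h2]; exact hQ (Subgroup.mem_zpowers _)
  have hxC : x ∈ C := Subgroup.mem_centralizer_singleton_iff.mpr rfl
  have haC : a ∈ C := Subgroup.mem_centralizer_singleton_iff.mpr hax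
  obtain ⟨i, hi⟩ := orderOf_mem_pgroup hp.out P.isPGroup' hx
  have hxS : (⟨x, hxC⟩ : C) ∈ (S : Subgroup C) := hmem _ i (Subtype.ext (by rw [← hi]; exact pow_orderOf_eq_one x))
  have haS : (⟨a, haC⟩ : C) ∈ (S : Subgroup C) := hmem _ k (Subtype.ext ha)
  have h1 : IsPGroup p ((S : Subgroup C).map C.subtype) := S.isPGroup'.map _
  obtain ⟨Q, hQ⟩ := h1.exists_le_sylow
  obtain ⟨h, hh⟩ := MulAction.exists_smul_eq G P Q
  have hQmem : ∀ y, y ∈ (Q : Subgroup G) → h⁻¹ * y * h ∈ (P : Subgroup G) := by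
    intro y hy
    rw [← hh] at hy
    obtain ⟨w, hw, hwy⟩ := hy
    have : h * w * h⁻¹ = y := hwy
    rw [← this]
    have e : h⁻¹ * (h * w * h⁻¹) * h = w := by group
    rw [e]; exact hw
  have hx2 : h⁻¹ * x * h⁻¹⁻¹ ∈ (P : Subgroup G) := by rw [inv_inv]; exact hQmem x (hQ ⟨_, hxS, rfl⟩)
  obtain ⟨n, hn, hnx⟩ := D.control P hP x h⁻¹ hx hx2
  rw [inv_inv] at hnx
  -- `d = h n` centralizes `x`
  have hd : (h * n) ∈ C := by
    rw [hC, Subgroup.mem_centralizer_singleton_iff]
    calc h * n * x = h * (n * x * n⁻¹) * n := by group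
      _ = h * (h⁻¹ * x * h) * n := by rw [hnx]
      _ = x * (h * n) := by group
  -- conjugate `a` by `d`
  have h2 : (⟨h * n, hd⟩ : C) * ⟨a, haC⟩ * (⟨h * n, hd⟩ : C)⁻¹ ∈ (S : Subgroup C) := hSn.conj_mem _ haS _
  have h3 : (h * n) * a * (h * n)⁻¹ ∈ (Q : Subgroup G) := hQ ⟨_, h2, rfl⟩
  have h4 := hQmem _ h3
  have h5 : h⁻¹ * ((h * n) * a * (h * n)⁻¹) * h = n * a * n⁻¹ := by group
  rw [h5] at h4
  exact (Subgroup.mem_normalizer_iff.mp hn a).mpr h4

/-- elements centralizing a nontrivial element of `P` -/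
theorem cent_decomp {p : ℕ} [hp : Fact p.Prime] (P : Sylow p G) {x y : G} (hx : x ∈ (P : Subgroup G)) (hx1 : x ≠ 1) (hyx : y * x = x * y) :
    ∃ a ∈ (P : Subgroup G), ∃ b, y = a * b ∧ (∀ w ∈ (P : Subgroup G), b * w = w * b) ∧ (orderOf b).Coprime p := by
  obtain ⟨i, j, h1, ⟨k, hk⟩, h2⟩ := CfsgLib.LE.exists_pPart_mul (p := p) y
  have hpow : ∀ i : ℕ, y ^ i * x = x * y ^ i := fun i => (Commute.pow_left (show Commute y x from hyx) i).eq
  exact ⟨y ^ i, D.cent_mem P hx hx1 (hpow i) (k := k) (by rw [← hk]; exact pow_orderOf_eq_one _), y ^ j, h1, D.cent_P P hx hx1 (hpow j) h2, h2⟩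

/-- Sylow subgroups are TI -/
theorem ti {p : ℕ} [hp : Fact p.Prime] (P : Sylow p G) {x g : G} (hx : x ∈ (P : Subgroup G)) (hx1 : x ≠ 1) (hg : g * x * g⁻¹ ∈ (P : Subgroup G)) :
    g ∈ Subgroup.normalizer ((P : Subgroup G) : Set G) := by
  have hP : (P : Subgroup G) ≠ ⊥ := by
    intro h; rw [h, Subgroup.mem_bot] at hx; exact hx1 hx
  obtain ⟨n, hn, hnx⟩ := D.control P hP x g hx hg
  have h1 : (n⁻¹ * g) * x = x * (n⁻¹ * g) := by
    calc (n⁻¹ * g) * x = n⁻¹ * (g * x * g⁻¹) * g := by group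
      _ = n⁻¹ * (n * x * n⁻¹) * g := by rw [hnx]
      _ = x * (n⁻¹ * g) := by group
  obtain ⟨a, ha, b, hab, hb, -⟩ := D.cent_decomp P hx hx1 h1
  have hbN : b ∈ Subgroup.normalizer ((P : Subgroup G) : Set G) := by
    rw [Subgroup.mem_normalizer_iff]
    intro w
    constructor
    · intro hw
      have : b * w * b⁻¹ = w := by rw [hb w hw]; group
      rw [this]; exact hw
    · intro hw
      have h2 := hb _ hw
      have h3 : b * w * b⁻¹ = w := by
        have : b * (b * w * b⁻¹) = (b * w * b⁻¹) * b := h2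
        have h4 : b * w * b⁻¹ * b = b * w := by group
        rw [h4] at this
        exact mul_left_cancel this
      rw [h3] at hw; exact hw
  have h2 : g = n * (a * b) := by rw [← hab]; group
  rw [h2]
  exact Subgroup.mul_mem _ hn (Subgroup.mul_mem _ (Subgroup.le_normalizer ha) hbN)

end Hyp
end CfsgLib.CNOdd
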