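import Cfsg.Agent.EqBase
import Cfsg.Agent.LibCNOdd3
import Cfsg.Agent.LibCoh8
/-!
# CN-groups of odd order: the TI Hall subgroups (helper16)
-/
set_option autoImplicit false
set_option linter.all false
open Cfsg
open scoped commutatorElement Pointwise
namespace CfsgLib.CNOdd

universe u
variable {G : Type u} [Group G] [Finite G]

/-- the subgroup `P C(P)` -/
def HH (P : Subgroup G) : Subgroup G := P ⊔ Subgroup.centralizer (P : Set G)

theorem HH_conj (P : Subgroup G) (g : G) : HH (MulAut.conj g • P) = MulAut.conj g • HH P := by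
  unfold HH
  rw [Subgroup.smul_sup]
  congr 1
  ext x
  rw [Subgroup.mem_centralizer_iff]
  constructor
  · intro h
    refine ⟨g⁻¹ * x * g, ?_, by show g * (g⁻¹ * x * g) * g⁻¹ = x; group⟩
    rw [SetLike.mem_coe, Subgroup.mem_centralizer_iff]
    intro y hy
    have h1 := h (g * y * g⁻¹) ⟨y, hy, rfl⟩
    calc y * (g⁻¹ * x * g) = g⁻¹ * ((g * y * g⁻¹) * x) * g := by group
      _ = g⁻¹ * (x * (g * y * g⁻¹)) * g := by rw [h1]
      _ = _ := by group
  · rintro ⟨y, hy, rfl⟩ w ⟨v, hv, rfl⟩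
    have h1 : v * y = y * v := Subgroup.mem_centralizer_iff.mp hy v hv
    show g * v * g⁻¹ * (g * y * g⁻¹) = g * y * g⁻¹ * (g * v * g⁻¹)
    calc g * v * g⁻¹ * (g * y * g⁻¹) = g * (v * y) * g⁻¹ := by group
      _ = g * (y * v) * g⁻¹ := by rw [h1]
      _ = _ := by group

theorem normalizer_le_HH (P : Subgroup G) : Subgroup.normalizer (P : Set G) ≤ Subgroup.normalizer (HH P : Set G) := by
  intro g hg
  have h1 : MulAut.conj g • P = P := by
    ext x
    constructor
    · rintro ⟨y, hy, rfl⟩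
      exact (Subgroup.mem_normalizer_iff.mp hg y).mp hy
    · intro hx
      refine ⟨g⁻¹ * x * g, ?_, by show g * (g⁻¹ * x * g) * g⁻¹ = x; group⟩
      apply (Subgroup.mem_normalizer_iff.mp hg (g⁻¹ * x * g)).mpr
      have : g * (g⁻¹ * x * g) * g⁻¹ = x := by group
      rw [this]; exact hx
  have h2 := HH_conj P g
  rw [h1] at h2
  rw [Subgroup.mem_normalizer_iff]
  intro x
  constructor
  · intro hx
    rw [h2]
    exact ⟨x, hx, rfl⟩
  · intro hx
    rw [h2] at hx
    obtain ⟨y, hy, hyx⟩ := hx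
    have h4 : g * y * g⁻¹ = g * x * g⁻¹ := hyx
    have h5 : y = x := mul_left_cancel (mul_right_cancel h4)
    rw [← h5]; exact hy

namespace Hyp
variable (D : Hyp G)
include D

/-- `HH P` is the centralizer of any nontrivial central element of `P` -/
theorem HH_eq {p : ℕ} [hp : Fact p.Prime] (P : Sylow p G) {z : G} (hz : z ∈ (P : Subgroup G)) (hz1 : z ≠ 1)
    (hzc : ∀ y ∈ (P : Subgroup G), y * z = z * y) : HH (P : Subgroup G) = Subgroup.centralizer ({z} : Set G) := by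
  apply le_antisymm
  · refine sup_le ?_ ?_
    · intro y hy
      exact Subgroup.mem_centralizer_singleton_iff.mpr (hzc y hy)
    · intro y hy
      exact Subgroup.mem_centralizer_singleton_iff.mpr (Subgroup.mem_centralizer_iff.mp hy z hz).symm
  · intro y hy
    obtain ⟨a, ha, b, rfl, hb, -⟩ := D.cent_decomp P hz hz1 (Subgroup.mem_centralizer_singleton_iff.mp hy)
    exact Subgroup.mul_mem _ (Subgroup.mem_sup_left ha) (Subgroup.mem_sup_right (Subgroup.mem_centralizer_iff.mpr fun w hw => (hb w hw).symm))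

theorem exists_z {p : ℕ} [hp : Fact p.Prime] (P : Sylow p G) (hP : (P : Subgroup G) ≠ ⊥) : ∃ z ∈ (P : Subgroup G), z ≠ 1 ∧ ∀ y ∈ (P : Subgroup G), y * z = z * y := by
  haveI : Group.IsNilpotent P := P.isPGroup'.isNilpotent
  haveI : Nontrivial (P : Subgroup G) := (Subgroup.nontrivial_iff_ne_bot _).mpr hP
  obtain ⟨z, hz⟩ := (Subgroup.nontrivial_iff_exists_ne_one _).mp (P.isPGroup'.center_nontrivial)
  exact ⟨z, z.2, fun h => hz.2 (Subtype.ext h), fun y hy => congrArg Subtype.val (Subgroup.mem_center_iff.mp hz.1 ⟨y, hy⟩)⟩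

theorem HH_nil {p : ℕ} [hp : Fact p.Prime] (P : Sylow p G) (hP : (P : Subgroup G) ≠ ⊥) : Group.IsNilpotent (HH (P : Subgroup G)) := by
  obtain ⟨z, hz, hz1, hzc⟩ := D.exists_z P hP
  rw [D.HH_eq P hz hz1 hzc]
  exact D.hCN z hz1

theorem cent_le_HH {p : ℕ} [hp : Fact p.Prime] (P : Sylow p G) {x : G} (hx : x ∈ (P : Subgroup G)) (hx1 : x ≠ 1) :
    Subgroup.centralizer ({x} : Set G) ≤ HH (P : Subgroup G) := by
  intro y hy
  obtain ⟨a, ha, b, rfl, hb, -⟩ := D.cent_decomp P hx hx1 (Subgroup.mem_centralizer_singleton_iff.mp hy)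
  exact Subgroup.mul_mem _ (Subgroup.mem_sup_left ha) (Subgroup.mem_sup_right (Subgroup.mem_centralizer_iff.mpr fun w hw => (hb w hw).symm))

/-- elements of other prime order in `HH P` -/
theorem other {p q : ℕ} [hp : Fact p.Prime] [hq : Fact q.Prime] (hpq : q ≠ p) (P : Sylow p G) (hP : (P : Subgroup G) ≠ ⊥) (Q : Sylow q G) {t : G}
    (ht : t ∈ HH (P : Subgroup G)) (ht1 : t ≠ 1) (htQ : t ∈ (Q : Subgroup G)) :
    (Q : Subgroup G) ≤ Subgroup.centralizer ((P : Subgroup G) : Set G) ∧ HH (Q : Subgroup G) ≤ HH (P : Subgroup G) := by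
  obtain ⟨z, hz, hz1, hzc⟩ := D.exists_z P hP
  obtain ⟨k, hk⟩ := orderOf_mem_pgroup hq.out Q.isPGroup' htQ
  have hqp : Nat.Coprime q p := (Nat.coprime_primes hq.out hp.out).mpr hpq
  have htz : t * z = z * t := by
    rw [D.HH_eq P hz hz1 hzc] at ht
    exact Subgroup.mem_centralizer_singleton_iff.mp ht
  have htP : ∀ y ∈ (P : Subgroup G), t * y = y * t := D.cent_P P hz hz1 htz (by rw [hk]; exact Nat.Coprime.pow_left k hqp)
  have hPQ : ∀ y ∈ (P : Subgroup G), ∀ w ∈ (Q : Subgroup G), y * w = w * y := by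
    intro y hy
    obtain ⟨j, hj⟩ := orderOf_mem_pgroup hp.out P.isPGroup' hy
    exact D.cent_P Q htQ ht1 (htP y hy).symm (by rw [hj]; exact Nat.Coprime.pow_left j hqp.symm)
  have hQC : (Q : Subgroup G) ≤ Subgroup.centralizer ((P : Subgroup G) : Set G) := by
    intro w hw
    rw [Subgroup.mem_centralizer_iff]
    exact fun y hy => hPQ y hy w hw
  refine ⟨hQC, sup_le (hQC.trans le_sup_right) ?_⟩
  intro y hy
  have hyt : y * t = t * y := (Subgroup.mem_centralizer_iff.mp hy t htQ).symm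
  obtain ⟨i, j, h1, ⟨l, hl⟩, h2⟩ := CfsgLib.LE.exists_pPart_mul (p := p) y
  have hpow : ∀ i : ℕ, y ^ i * t = t * y ^ i := fun i => (Commute.pow_left (show Commute y t from hyt) i).eq
  have ha : y ^ i ∈ (P : Subgroup G) := by
    refine mem_sylow_of_nil (D.hCN t ht1) P ?_ (Subgroup.mem_centralizer_singleton_iff.mpr (hpow i)) (k := l) (by rw [← hl]; exact pow_orderOf_eq_one _)
    intro w hw
    exact Subgroup.mem_centralizer_singleton_iff.mpr (htP w hw).symm
  have hb : y ^ j ∈ Subgroup.centralizer ((P : Subgroup G) : Set G) := by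
    rw [Subgroup.mem_centralizer_iff]
    intro w hw
    obtain ⟨m, hm⟩ := orderOf_mem_pgroup hp.out P.isPGroup' hw
    exact (cn_comm D.hCN ht1 (hpow j) (htP w hw).symm (by rw [hm]; exact Nat.Coprime.pow_right m h2)).symm
  rw [h1]
  exact Subgroup.mul_mem _ (Subgroup.mem_sup_left ha) (Subgroup.mem_sup_right hb)

/-- `HH` of another Sylow subgroup meeting `HH P` nontrivially -/
theorem other_eq {p q : ℕ} [hp : Fact p.Prime] [hq : Fact q.Prime] (P : Sylow p G) (hP : (P : Subgroup G) ≠ ⊥) (Q : Sylow q G) {t : G}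
    (ht : t ∈ HH (P : Subgroup G)) (ht1 : t ≠ 1) (htQ : t ∈ (Q : Subgroup G)) : HH (Q : Subgroup G) = HH (P : Subgroup G) := by
  by_cases hpq : q = p
  · subst hpq
    -- `t ∈ P`
    obtain ⟨k, hk⟩ := orderOf_mem_pgroup hq.out Q.isPGroup' htQ
    have htP : t ∈ (P : Subgroup G) := mem_sylow_of_nil (D.HH_nil P hP) P le_sup_left ht (k := k) (by rw [← hk]; exact pow_orderOf_eq_one _)
    obtain ⟨g, hg⟩ := MulAction.exists_smul_eq G P Q
    have h1 : g⁻¹ * t * g ∈ (P : Subgroup G) := by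
      rw [← hg] at htQ
      obtain ⟨w, hw, hwt⟩ := htQ
      have h2 : g * w * g⁻¹ = t := hwt
      rw [← h2]
      have e : g⁻¹ * (g * w * g⁻¹) * g = w := by group
      rw [e]; exact hw
    have h2 := D.ti P h1 (by
      intro h
      apply ht1
      have : t = g * (g⁻¹ * t * g) * g⁻¹ := by group
      rw [this, h]; group) (g := g) (by
        have : g * (g⁻¹ * t * g) * g⁻¹ = t := by group
        rw [this]; exact htP)
    have h3 : (Q : Subgroup G) = P := by
      rw [← hg]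
      ext x
      constructor
      · rintro ⟨y, hy, rfl⟩
        exact (Subgroup.mem_normalizer_iff.mp h2 y).mp hy
      · intro hx
        refine ⟨g⁻¹ * x * g, ?_, by show g * (g⁻¹ * x * g) * g⁻¹ = x; group⟩
        apply (Subgroup.mem_normalizer_iff.mp h2 (g⁻¹ * x * g)).mpr
        have : g * (g⁻¹ * x * g) * g⁻¹ = x := by group
        rw [this]; exact hx
    rw [h3]
  · obtain ⟨h1, h2⟩ := D.other hpq P hP Q ht ht1 htQ
    have hQ : (Q : Subgroup G) ≠ ⊥ := by
      intro h; rw [h, Subgroup.mem_bot] at htQ; exact ht1 htQ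
    obtain ⟨z, hz, hz1, hzc⟩ := D.exists_z P hP
    have hzQ : z ∈ HH (Q : Subgroup G) := by
      apply Subgroup.mem_sup_right
      rw [Subgroup.mem_centralizer_iff]
      intro w hw
      exact (Subgroup.mem_centralizer_iff.mp (h1 hw) z hz).symm
    exact le_antisymm h2 (D.other (Ne.symm hpq) Q hQ P hzQ hz1 hz).2

/-- an element of prime order of `HH P` lies in a Sylow subgroup `Q` with `HH Q = HH P` -/
theorem exists_Q {p : ℕ} [hp : Fact p.Prime] (P : Sylow p G) (hP : (P : Subgroup G) ≠ ⊥) {q : ℕ} [hq : Fact q.Prime] {t : G}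
    (ht : t ∈ HH (P : Subgroup G)) (hto : orderOf t = q) : ∃ Q : Sylow q G, t ∈ (Q : Subgroup G) ∧ HH (Q : Subgroup G) = HH (P : Subgroup G) := by
  have h1 : IsPGroup q (Subgroup.zpowers t) := by
    rw [IsPGroup.iff_card, Nat.card_zpowers, hto]
    exact ⟨1, (pow_one q).symm⟩
  obtain ⟨Q, hQ⟩ := h1.exists_le_sylow
  have htQ := hQ (Subgroup.mem_zpowers t)
  have ht1 : t ≠ 1 := by
    rintro rfl
    rw [orderOf_one] at hto
    exact hq.out.one_lt.ne hto
  exact ⟨Q, htQ, D.other_eq P hP Q ht ht1 htQ⟩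

/-- TI property of `HH P` -/
theorem HH_ti {p : ℕ} [hp : Fact p.Prime] (P : Sylow p G) (hP : (P : Subgroup G) ≠ ⊥) {x g : G} (hx : x ∈ HH (P : Subgroup G)) (hx1 : x ≠ 1)
    (hg : g * x * g⁻¹ ∈ HH (P : Subgroup G)) : g ∈ Subgroup.normalizer (HH (P : Subgroup G) : Set G) := by
  obtain ⟨r, k, hr, hrk⟩ := exists_pow_prime hx1
  haveI := Fact.mk hr
  have h1 : x ^ k ∈ HH (P : Subgroup G) := Subgroup.pow_mem _ hx k
  obtain ⟨Q, hQ, hQP⟩ := D.exists_Q P hP h1 hrk
  have h2 : g * x ^ k * g⁻¹ ∈ HH (P : Subgroup G) := by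
    have := Subgroup.pow_mem _ hg k
    rwa [conj_pow] at this
  have hxk1 : x ^ k ≠ 1 := by
    intro h
    rw [h, orderOf_one] at hrk
    exact hr.one_lt.ne hrk
  have hQne : (Q : Subgroup G) ≠ ⊥ := by
    intro h; rw [h, Subgroup.mem_bot] at hQ; exact hxk1 hQ
  have h3 : g * x ^ k * g⁻¹ ∈ (Q : Subgroup G) := by
    refine mem_sylow_of_nil (D.HH_nil Q hQne) Q le_sup_left (by rw [hQP]; exact h2) (k := 1) ?_
    rw [conj_pow, pow_one, ← hrk, pow_orderOf_eq_one]; group
  have h4 := normalizer_le_HH _ (D.ti Q hQ hxk1 h3)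
  rwa [hQP] at h4

theorem HH_cent {p : ℕ} [hp : Fact p.Prime] (P : Sylow p G) (hP : (P : Subgroup G) ≠ ⊥) {x : G} (hx : x ∈ HH (P : Subgroup G)) (hx1 : x ≠ 1) :
    Subgroup.centralizer ({x} : Set G) ≤ HH (P : Subgroup G) := by
  obtain ⟨r, k, hr, hrk⟩ := exists_pow_prime hx1
  haveI := Fact.mk hr
  obtain ⟨Q, hQ, hQP⟩ := D.exists_Q P hP (Subgroup.pow_mem _ hx k) hrk
  have hxk1 : x ^ k ≠ 1 := by
    intro h
    rw [h, orderOf_one] at hrk
    exact hr.one_lt.ne hrk
  exact (cent_pow x k).trans (hQP ▸ D.cent_le_HH Q hQ hxk1)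

/-- `HH P` is properly contained in its normalizer -/
theorem HH_lt {p : ℕ} [hp : Fact p.Prime] (P : Sylow p G) (hP : (P : Subgroup G) ≠ ⊥) :
    HH (P : Subgroup G) < Subgroup.normalizer (HH (P : Subgroup G) : Set G) := by
  refine lt_of_le_of_ne Subgroup.le_normalizer fun h => ?_
  have h1 : Subgroup.normalizer ((P : Subgroup G) : Set G) ≤ HH (P : Subgroup G) := by
    rw [h]; exact normalizer_le_HH _
  have hctl : ∀ x g : G, x ∈ (P : Subgroup G) → g * x * g⁻¹ ∈ (P : Subgroup G) → ∃ n ∈ (P : Subgroup G), n * x * n⁻¹ = g * x * g⁻¹ := by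
    intro x g hx hg
    by_cases hx1 : x = 1
    · exact ⟨1, Subgroup.one_mem _, by rw [hx1]; group⟩
    obtain ⟨n, hn, hnx⟩ := D.control P hP x g hx hg
    -- `n = a b` with `a ∈ P`, `b` centralizing `P`
    obtain ⟨z, hz, hz1, hzc⟩ := D.exists_z P hP
    have h2 := h1 hn
    rw [D.HH_eq P hz hz1 hzc] at h2
    obtain ⟨a, ha, b, hab, hb, -⟩ := D.cent_decomp P hz hz1 (Subgroup.mem_centralizer_singleton_iff.mp h2)
    refine ⟨a, ha, ?_⟩
    rw [← hnx, hab]
    calc a * x * a⁻¹ = a * (x * b) * b⁻¹ * a⁻¹ := by group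
      _ = a * (b * x) * b⁻¹ * a⁻¹ := by rw [hb x hx]
      _ = _ := by group
  have h2 := CfsgLib.TransFus.commutator_inf_eq_of_controls P (P : Subgroup G) le_rfl hctl
  rw [D.comm_top, top_inf_eq] at h2
  haveI : Group.IsNilpotent P := P.isPGroup'.isNilpotent
  have h3 : (P : Subgroup G) ≤ ⁅(P : Subgroup G), (P : Subgroup G)⁆ := by
    conv_lhs => rw [h2]
    exact inf_le_left
  have h4 : (⊤ : Subgroup (P : Subgroup G)) ≤ ⁅(⊤ : Subgroup (P : Subgroup G)), ⊤⁆ := by
    rw [← Subgroup.map_le_map_iff_of_injective (P : Subgroup G).subtype_injective, Subgroup.map_commutator, ← MonoidHom.range_eq_map, Subgroup.range_subtype]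
    exact h3
  have h5 := CfsgLib.Coh.nil_comm (inferInstance : Group.IsNilpotent P) ⊤ h4
  apply hP
  rw [eq_bot_iff]
  intro x hx
  have h6 : (⟨x, hx⟩ : (P : Subgroup G)) ∈ (⊤ : Subgroup (P : Subgroup G)) := trivial
  rw [h5, Subgroup.mem_bot] at h6
  exact congrArg Subtype.val h6

end Hyp
end CfsgLib.CNOdd
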