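import Cfsg.Agent.EqBase
import Cfsg.Agent.LibCoh16
import Cfsg.Agent.LibExc
/-!
# Values of the coherent extension (helper16)
-/
set_option autoImplicit false
set_option linter.all false
open Cfsg CfsgLib.CharBasic CfsgLib.CharIndA CfsgLib.CharNorm CfsgLib.Sgn CfsgLib.Clifford
open scoped ComplexConjugate
namespace CfsgLib.Coh

universe u v

section Parity
variable {G : Type v} [Group G] [Fintype G]

theorem conjFun_inner (φ ψ : G → ℂ) : classInner (conjFun φ) (conjFun ψ) = conj (classInner φ ψ) := inner_conj_conj φ ψ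

/-- real generalized characters of a group of odd order -/
theorem even_inner (hodd : Odd (Nat.card G)) {Γ Γ' : G → ℂ} (h : IsGeneralizedCharacter G Γ) (h' : IsGeneralizedCharacter G Γ')
    (hr : conjFun Γ = Γ) (hr' : conjFun Γ' = Γ') (h1 : classInner Γ (fun _ => 1) = 0) {n : ℤ} (hn : classInner Γ Γ' = n) : Even n := by
  classical
  choose m hm using fun ψ : IrrCharacter G => gen_inner_int h (gen_of_irr ψ.2)
  choose m' hm' using fun ψ : IrrCharacter G => gen_inner_int h' (gen_of_irr ψ.2)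
  have h2 : (n : ℂ) = ∑ ψ : IrrCharacter G, (m ψ : ℂ) * (m' ψ : ℂ) := by
    rw [← hn, parseval (gen_classFun h) (gen_classFun h')]
    refine Finset.sum_congr rfl fun ψ _ => ?_
    rw [hm ψ, hm' ψ]; simp
  have h3 : n = ∑ ψ : IrrCharacter G, m ψ * m' ψ := by exact_mod_cast h2
  let bar : IrrCharacter G → IrrCharacter G := fun ψ => ⟨fun g => conj ((ψ : G → ℂ) g), isIrrCharacter_conj ψ.2⟩
  have hbar : ∀ ψ, bar (bar ψ) = ψ := by
    intro ψ; apply Subtype.ext; funext g; exact Complex.conj_conj _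
  have key : ∀ (F : G → ℂ) (k : IrrCharacter G → ℤ), conjFun F = F → (∀ ψ : IrrCharacter G, classInner F (ψ : G → ℂ) = k ψ) → ∀ ψ, k (bar ψ) = k ψ := by
    intro F k hF hk ψ
    have e1 := hk (bar ψ)
    have e2 : classInner F (bar ψ : G → ℂ) = conj (classInner F (ψ : G → ℂ)) := by
      rw [← conjFun_inner, hF]; rfl
    rw [e2, hk ψ] at e1
    have e3 : (k ψ : ℂ) = (k (bar ψ) : ℂ) := by rw [← e1]; simp
    exact_mod_cast e3.symm
  have kb := key Γ m hr hm
  have kb' := key Γ' m' hr' hm'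
  have h4 : ((n : ZMod 2)) = 0 := by
    rw [h3]
    push_cast
    refine Finset.sum_involution (fun ψ _ => bar ψ) ?_ ?_ ?_ ?_
    · intro ψ _
      rw [kb, kb', ← two_mul]
      have : (2 : ZMod 2) = 0 := rfl
      rw [this, zero_mul]
    · intro ψ _ hne he
      apply hne
      have hψ1 : (ψ : G → ℂ) = fun _ => 1 := CfsgLib.PermLemma.real_irr_odd hodd ψ.2 (fun g => congrFun (congrArg Subtype.val he) g)
      have e1 := hm ψ
      rw [hψ1, h1] at e1
      have e2 : m ψ = 0 := by exact_mod_cast e1.symm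
      rw [e2]; simp
    · intro ψ _; exact Finset.mem_univ _
    · intro ψ _; exact hbar ψ
  rw [ZMod.intCast_zmod_eq_zero_iff_dvd] at h4
  exact (even_iff_two_dvd.mpr (by exact_mod_cast h4))

end Parity

namespace Odd'
variable {G : Type v} [Group G] [Fintype G] {H L : Subgroup G} [Fintype L] (D : Odd' H L)
include D

theorem mem_S {φ : L → ℂ} (h : IsIrrCharacter L φ) (h' : ∃ z ∈ H.subgroupOf L, φ z ≠ φ 1) : φ ∈ inducedIrrAbove (H.subgroupOf L) ⊥ := by
  obtain ⟨θ, h1, h2, h3⟩ := CfsgLib.FrobK.rel_exists D.normal D.fpf ⟨h, h'⟩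
  exact ⟨θ, h1, h2, fun a ha => by rw [show a = 1 from Subtype.ext (Subgroup.mem_bot.mp ha)], h3⟩

theorem exists_zeta : ∃ ζ ∈ inducedIrrAbove (H.subgroupOf L) ⊥, ζ 1 = ((H.subgroupOf L).index : ℂ) := by
  haveI := D.normal
  have hK'n : (⁅H.subgroupOf L, H.subgroupOf L⁆ : Subgroup L).Normal := inferInstance
  obtain ⟨θ₀, -, -, -, -, hlam⟩ := ia_nonempty D.solv hK'n D.comm_lt
  exact ⟨_, ia_bot hlam, D.deg_lin hlam⟩

theorem exists_b {φ : L → ℂ} (hφ : φ ∈ inducedIrrAbove (H.subgroupOf L) ⊥) : ∃ b : ℕ, 0 < b ∧ φ 1 = (b : ℂ) * ((H.subgroupOf L).index : ℂ) := by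
  haveI : Fintype (H.subgroupOf L) := Fintype.ofFinite _
  obtain ⟨θ, hθ, -, -, rfl⟩ := hφ
  obtain ⟨r, hr, hr'⟩ := irr_one_nat hθ
  exact ⟨r, hr, by rw [CharIndA.ind_one, hr']; ring⟩

theorem inner_one {φ : L → ℂ} (hφ : φ ∈ inducedIrrAbove (H.subgroupOf L) ⊥) : classInner φ (fun _ => 1) = 0 := by
  refine irr_inner_ne (D.irr φ hφ) isIrrCharacter_one fun h => D.conj_ne φ hφ ?_
  rw [h]; funext g; exact map_one _

variable {T : (L → ℂ) → (G → ℂ)} (hT : IsLinearIsometryOn (zspan (inducedIrrAbove (H.subgroupOf L) ⊥)) T)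
  (hTα : ∀ α ∈ zspanOn (inducedIrrAbove (H.subgroupOf L) ⊥) {1}ᶜ, T α = indFun L α)
include hT hTα

theorem T_sirr {φ : L → ℂ} (hφ : φ ∈ inducedIrrAbove (H.subgroupOf L) ⊥) : SIrr (T φ) :=
  gen_norm_one (iso_gen hT (z_sub hφ)) (by rw [iso_inner hT (z_sub hφ) (z_sub hφ), irr_inner_self (D.irr φ hφ)])

theorem T_diff {φ ψ : L → ℂ} (hφ : φ ∈ inducedIrrAbove (H.subgroupOf L) ⊥) (hψ : ψ ∈ inducedIrrAbove (H.subgroupOf L) ⊥) (n : ℤ)
    (h : φ 1 = n * ψ 1) : T φ - n • T ψ = indFun L (φ - n • ψ) := by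
  rw [← hTα, iso_sub zm_span hT (z_sub hφ) (z_smul _ (z_sub hψ)), iso_smul hT (z_sub hψ)]
  rw [mem_z1]
  refine ⟨z_minus (z_sub hφ) (z_smul _ (z_sub hψ)), ?_⟩
  rw [Pi.sub_apply, Pi.smul_apply, h, zsmul_eq_mul, sub_self]

theorem T_conj_sub {φ : L → ℂ} (hφ : φ ∈ inducedIrrAbove (H.subgroupOf L) ⊥) : T φ - T (conjFun φ) = indFun L (φ - conjFun φ) := by
  have := D.T_diff hT hTα hφ (ia_conj hφ) 1 (by rw [conj_one (ia_char hφ)]; simp)
  rwa [one_smul, one_smul] at this

theorem T_inner {φ ψ : L → ℂ} (hφ : φ ∈ inducedIrrAbove (H.subgroupOf L) ⊥) (hψ : ψ ∈ inducedIrrAbove (H.subgroupOf L) ⊥) (hne : φ ≠ ψ) :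
    classInner (T φ) (T ψ) = 0 := by
  rw [iso_inner hT (z_sub hφ) (z_sub hψ), irr_inner_ne (D.irr φ hφ) (D.irr ψ hψ) hne]

theorem T_conj {φ : L → ℂ} (hφ : φ ∈ inducedIrrAbove (H.subgroupOf L) ⊥) : T (conjFun φ) = conjFun (T φ) := by
  have hx := D.T_sirr hT hTα hφ
  have hy := D.T_sirr hT hTα (ia_conj hφ)
  have hxy := D.T_inner hT hTα hφ (ia_conj hφ) (Ne.symm (D.conj_ne φ hφ))
  have h1 := D.T_conj_sub hT hTα hφ
  have h2 : conjFun (T φ - T (conjFun φ)) = -(T φ - T (conjFun φ)) := by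
    rw [h1, conj_ind, ← CharIndA.ind_neg]
    congr 1
    funext x
    simp [conjFun]
  have h3 : conjFun (T φ) - conjFun (T (conjFun φ)) = conjFun (T φ - T (conjFun φ)) := by
    funext x; simp [conjFun]
  have h4 : T φ + conjFun (T φ) = T (conjFun φ) + conjFun (T (conjFun φ)) := by
    rw [h2] at h3
    linear_combination h3
  have h5 := congrArg (fun f => classInner f (T φ)) h4
  simp only [ci_add_l] at h5
  rw [hx.self, ci_zero_comm hxy, zero_add] at h5
  have hcx : SIrr (conjFun (T φ)) := hx.imp (fun h => isIrrCharacter_conj h) (fun h => by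
    have : -conjFun (T φ) = conjFun (-T φ) := by funext x; simp [conjFun]
    rw [this]; exact isIrrCharacter_conj h)
  have hcy : SIrr (conjFun (T (conjFun φ))) := hy.imp (fun h => isIrrCharacter_conj h) (fun h => by
    have : -conjFun (T (conjFun φ)) = conjFun (-T (conjFun φ)) := by funext x; simp [conjFun]
    rw [this]; exact isIrrCharacter_conj h)
  have hone : conj (T φ 1) = T φ 1 := by
    rcases hx with h | h
    · exact conj_one (irr_isCharacter h)
    · have h6 := conj_one (irr_isCharacter h)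
      have h7 : conjFun (-T φ) 1 = - conj (T φ 1) := by simp [conjFun]
      rw [h7, Pi.neg_apply, neg_inj] at h6
      exact h6
  -- the inner product with the conjugate
  have h8 : classInner (conjFun (T φ)) (T φ) ≠ -1 := by
    intro h
    rcases hcx.inner hx with h9 | ⟨h9, h10⟩ | ⟨h9, h10⟩
    · rw [h] at h9; norm_num at h9
    · rw [h] at h10; norm_num at h10
    · have h11 := congrFun h9 1
      have h12 : conjFun (T φ) 1 = T φ 1 := hone
      rw [h12, Pi.neg_apply] at h11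
      apply hx.one_ne
      linear_combination h11 / 2
  rcases hcy.inner hx with h9 | ⟨h9, h10⟩ | ⟨h9, h10⟩
  · rw [h9] at h5
    exact absurd (by linear_combination h5) h8
  · have h11 : conjFun (conjFun (T (conjFun φ))) = conjFun (T φ) := by rw [h9]
    rwa [conj_conj] at h11
  · rw [h10] at h5
    exfalso
    rcases hcx.inner_int hx with h11 | h11 | h11
    · rw [h11] at h5; norm_num at h5
    · rw [h11] at h5; norm_num at h5
    · exact h8 h11

theorem T_one {φ : L → ℂ} (hφ : φ ∈ inducedIrrAbove (H.subgroupOf L) ⊥) : classInner (T φ) (fun _ => 1) = 0 := by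
  have h1 : classInner (T φ) (fun _ => 1) = classInner (T (conjFun φ)) (fun _ => 1) := by
    have h2 := congrArg (fun f => classInner f (fun _ => 1 : G → ℂ)) (D.T_conj_sub hT hTα hφ)
    simp only [ci_sub_l] at h2
    rw [frobenius L _ (irr_classFun isIrrCharacter_one)] at h2
    have h3 : classInner (φ - conjFun φ) (fun h : L => (1 : ℂ)) = 0 := by
      rw [ci_sub_l, D.inner_one hφ, D.inner_one (ia_conj hφ), sub_zero]
    rw [h3] at h2
    linear_combination h2
  have hx := D.T_sirr hT hTα hφ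
  have hy := D.T_sirr hT hTα (ia_conj hφ)
  have hxy := D.T_inner hT hTα hφ (ia_conj hφ) (Ne.symm (D.conj_ne φ hφ))
  rcases hx.inner (Or.inl isIrrCharacter_one : SIrr (fun _ => 1 : G → ℂ)) with h | ⟨h, h'⟩ | ⟨h, h'⟩
  · exact h
  · exfalso
    rw [h1, ← h, ci_zero_comm hxy] at h'
    exact zero_ne_one h'
  · exfalso
    have h2 : (fun _ => 1 : G → ℂ) = - T φ := by rw [h, neg_neg]
    rw [h1, h2, ci_neg_r, ci_zero_comm hxy] at h'
    norm_num at h'

/-- values of a class function with known inner products with the coherent extension -/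
theorem value {ζ : L → ℂ} (hζ : ζ ∈ inducedIrrAbove (H.subgroupOf L) ⊥) (hζ1 : ζ 1 = ((H.subgroupOf L).index : ℂ)) {f : G → ℂ} (hf : IsClassFunction G f)
    (t : ℂ) (h : ∀ φ ∈ inducedIrrAbove (H.subgroupOf L) ⊥, φ ≠ ζ → classInner f (T φ) = 0) (ht : classInner f (T ζ) = t) {k : L}
    (hk : k ∈ H.subgroupOf L) (hk1 : k ≠ 1) :
    (f 1 - t * ζ 1) - (f (k : G) - t * ζ k) = (classInner (fun l : L => f l) ζ - t) * (Nat.card H : ℂ) := by
  have hw : ((H.subgroupOf L).index : ℂ) ≠ 0 := by exact_mod_cast Subgroup.index_ne_zero_of_finite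
  have hcf : IsClassFunction L (fun l : L => f l) := classFun_restrict hf L
  have hcl : IsClassFunction L ((fun l : L => f l) - t • ζ) := classFun_sub hcf (classFun_smul t (irr_classFun (D.irr ζ hζ)))
  set c : ℂ := (classInner (fun l : L => f l) ζ - t) / ((H.subgroupOf L).index : ℂ) with hc
  have key : ∀ φ : L → ℂ, IsIrrCharacter L φ → (∃ z ∈ H.subgroupOf L, φ z ≠ φ 1) → classInner ((fun l : L => f l) - t • ζ) φ = c * φ 1 := by
    intro φ hφ hφ'
    have hφS := D.mem_S hφ hφ'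
    obtain ⟨b, hb, hb'⟩ := D.exists_b hφS
    have h1 := D.T_diff hT hTα hφS hζ b (by rw [hb', hζ1]; push_cast; ring)
    have h2 : classInner f (T φ - (b : ℤ) • T ζ) = classInner (fun l : L => f l) (φ - (b : ℤ) • ζ) := by
      rw [h1, frobenius' L _ hf]
    rw [ci_sub_r, ci_sub_r, ci_zsmul_r, ci_zsmul_r, ht] at h2
    rw [ci_sub_l, ci_smul_l]
    by_cases he : φ = ζ
    · rw [he, irr_inner_self (D.irr ζ hζ), hζ1, hc]
      field_simp
    · rw [h φ hφS he] at h2
      rw [irr_inner_ne (D.irr ζ hζ) hφ (Ne.symm he), hb', hc]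
      field_simp
      push_cast at h2
      linear_combination -h2
  have h3 := kappa hcl key hk hk1
  have h4 : (Nat.card L : ℂ) = (Nat.card H : ℂ) * ((H.subgroupOf L).index : ℂ) := by
    rw [← D.card_eq, ← Subgroup.card_mul_index (H.subgroupOf L)]; push_cast; rfl
  have h5 : ((fun l : L => f l) - t • ζ) 1 = f 1 - t * ζ 1 := by simp
  have h6 : ((fun l : L => f l) - t • ζ) k = f (k : G) - t * ζ k := by simp
  rw [h5, h6, h4, hc] at h3
  rw [h3]
  field_simp

end Odd'
end CfsgLib.Coh
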