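import Cfsg.Agent.EqBase
import Cfsg.Agent.LibCoh17
/-!
# Norm computations for a group covered by TI Frobenius kernels (helper16)
-/
set_option autoImplicit false
set_option linter.all false
open Cfsg CfsgLib.CharBasic CfsgLib.CharIndA CfsgLib.CharNorm CfsgLib.Sgn CfsgLib.Clifford
open scoped ComplexConjugate
namespace CfsgLib.Coh

universe u v

namespace Odd'
variable {G : Type v} [Group G] [Fintype G] {H L : Subgroup G} [Fintype L] (D : Odd' H L)
include D

/-- the function `1_K^L - ζ` -/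
noncomputable def bet (H L : Subgroup G) [Fintype L] (ζ : L → ℂ) : L → ℂ := indFun (H.subgroupOf L) (fun _ => 1) - ζ

omit D in
theorem ind_one_one : indFun (H.subgroupOf L) (fun _ => 1) 1 = ((H.subgroupOf L).index : ℂ) := by
  rw [CharIndA.ind_one]; simp

theorem ind_one_inner : classInner (indFun (H.subgroupOf L) (fun _ => 1)) (fun _ => 1 : L → ℂ) = 1 := by
  haveI : Fintype (H.subgroupOf L) := Fintype.ofFinite _
  rw [CharIndA.frobenius _ _ (irr_classFun isIrrCharacter_one)]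
  exact irr_inner_self isIrrCharacter_one

theorem ind_one_self : classInner (indFun (H.subgroupOf L) (fun _ => 1)) (indFun (H.subgroupOf L) (fun _ => 1)) = ((H.subgroupOf L).index : ℂ) := by
  haveI : Fintype (H.subgroupOf L) := Fintype.ofFinite _
  have h1 := ci_ind_self D.normal (isIrrCharacter_one (G := H.subgroupOf L))
  rw [h1]
  have h2 : inertia D.normal (fun _ : H.subgroupOf L => (1 : ℂ)) = ⊤ := by
    rw [eq_top_iff]
    intro g _
    rw [mem_inertia]
    funext x; rfl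
  rw [h2, Subgroup.card_top, ← Subgroup.card_mul_index (H.subgroupOf L)]
  have : (Nat.card (H.subgroupOf L) : ℂ) ≠ 0 := by exact_mod_cast Nat.card_pos.ne'
  push_cast
  field_simp

theorem ind_one_orth {φ : L → ℂ} (hφ : φ ∈ inducedIrrAbove (H.subgroupOf L) ⊥) : classInner (indFun (H.subgroupOf L) (fun _ => 1)) φ = 0 := by
  haveI : Fintype (H.subgroupOf L) := Fintype.ofFinite _
  obtain ⟨θ, h1, h2, h3, h4⟩ := id hφ
  rw [h4]
  refine ind_orth D.normal isIrrCharacter_one h1 fun h => ?_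
  have h5 := D.ind_one_inner
  rw [h, ← h4, D.inner_one hφ] at h5
  exact zero_ne_one h5

variable {ζ : L → ℂ} (hζ : ζ ∈ inducedIrrAbove (H.subgroupOf L) ⊥) (hζ1 : ζ 1 = ((H.subgroupOf L).index : ℂ))
include hζ hζ1

theorem bet_one : bet H L ζ 1 = 0 := by
  unfold bet
  rw [Pi.sub_apply, ind_one_one, hζ1, sub_self]

theorem bet_off {x : L} (hx : (x : G) ∉ H) : bet H L ζ x = 0 := by
  unfold bet
  rw [Pi.sub_apply, D.off (z_sub hζ) hx, ind_eq_zero_off D.normal _ hx, sub_zero]

theorem bet_gen : IsGeneralizedCharacter L (bet H L ζ) := by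
  haveI : Fintype (H.subgroupOf L) := Fintype.ofFinite _
  exact gen_sub (gen_ind _ (gen_of_irr isIrrCharacter_one)) (gen_of_irr (D.irr ζ hζ))

theorem bet_inner_one : classInner (bet H L ζ) (fun _ => 1) = 1 := by
  unfold bet
  rw [ci_sub_l, D.ind_one_inner, D.inner_one hζ, sub_zero]

theorem bet_self : classInner (bet H L ζ) (bet H L ζ) = ((H.subgroupOf L).index : ℂ) + 1 := by
  unfold bet
  rw [ci_sub_l, ci_sub_r, ci_sub_r, D.ind_one_self, D.ind_one_orth hζ, ci_zero_comm (D.ind_one_orth hζ), irr_inner_self (D.irr ζ hζ)]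
  ring

omit hζ hζ1 in
/-- functions supported on the non-identity elements of `K` are zero on elements not conjugate into `H` -/
theorem supp {α : L → ℂ} (h1 : α 1 = 0) (hoff : ∀ x : L, (x : G) ∉ H → α x = 0) {g : G} (hg : indFun L α g ≠ 0) :
    g ≠ 1 ∧ ∃ x : G, x⁻¹ * g * x ∈ H := by
  constructor
  · rintro rfl
    apply hg
    rw [CharIndA.ind_one, h1, mul_zero]
  · by_contra h
    push Not at h
    apply hg
    rw [CharIndA.ind_apply]
    have : ∀ x : G, extendByZero L α (x⁻¹ * g * x) = 0 := by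
      intro x
      by_cases hx : x⁻¹ * g * x ∈ L
      · rw [ext_mem _ _ hx]; exact hoff _ (h x)
      · rw [ext_not_mem _ _ hx]
    rw [Finset.sum_congr rfl fun x _ => this x]; simp

omit hζ hζ1 in
theorem tiS : ∀ g : G, g ∉ L → ∀ s ∈ {x : G | x ∈ H ∧ x ≠ 1}, g * s * g⁻¹ ∉ {x : G | x ∈ H ∧ x ≠ 1} :=
  fun g hg s hs h => hs.2 (D.hTI g hg s hs.1 h.1)

omit hζ hζ1 in
theorem offS {α : L → ℂ} (h1 : α 1 = 0) (hoff : ∀ x : L, (x : G) ∉ H → α x = 0) : ∀ x : L, (x : G) ∉ {x : G | x ∈ H ∧ x ≠ 1} → α x = 0 := by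
  intro x hx
  by_cases h : (x : G) ∈ H
  · have h2 : (x : G) = 1 := by by_contra h3; exact hx ⟨h, h3⟩
    rw [show x = 1 from Subtype.ext h2, h1]
  · exact hoff x h

theorem B_self : classInner (indFun L (bet H L ζ)) (indFun L (bet H L ζ)) = ((H.subgroupOf L).index : ℂ) + 1 := by
  rw [CfsgLib.TI.ind_isom_ti D.tiS (gen_classFun (D.bet_gen hζ hζ1)) (D.offS (D.bet_one hζ hζ1) (fun x => D.bet_off hζ hζ1))
    (D.offS (D.bet_one hζ hζ1) (fun x => D.bet_off hζ hζ1)), D.bet_self hζ hζ1]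

theorem B_one : classInner (indFun L (bet H L ζ)) (fun _ => 1) = 1 := by
  rw [CharIndA.frobenius L _ (irr_classFun isIrrCharacter_one)]
  exact D.bet_inner_one hζ hζ1

/-- inner product with a function constant on the non-identity elements of `H` -/
theorem B_const {f : G → ℂ} (hf : IsClassFunction G f) {C : ℂ} (hC : ∀ k : L, k ∈ H.subgroupOf L → k ≠ 1 → f k = C) :
    classInner (indFun L (bet H L ζ)) f = conj C := by
  rw [CharIndA.frobenius L _ hf]
  have h1 : classInner (bet H L ζ) (fun l : L => f l) = conj C * classInner (bet H L ζ) (fun _ => 1) := by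
    rw [← ci_smul_r]
    unfold classInner
    congr 1
    refine Finset.sum_congr rfl fun x _ => ?_
    by_cases hx : (x : G) ∈ H
    · by_cases hx1 : x = 1
      · rw [hx1, D.bet_one hζ hζ1, zero_mul, zero_mul]
      · rw [hC x hx hx1]; simp
    · rw [D.bet_off hζ hζ1 hx, zero_mul, zero_mul]
  rw [h1, D.bet_inner_one hζ hζ1, mul_one]

omit hζ hζ1 in
/-- the local square sum -/
noncomputable def loc (H L : Subgroup G) [Fintype L] (F : L → ℂ) : ℂ := by
  classical
  exact (Nat.card L : ℂ)⁻¹ * ∑ l : L, if (l : G) ∈ H ∧ l ≠ 1 then F l else 0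

omit hζ hζ1 in
theorem loc_eq (F : L → ℂ) [DecidablePred (fun l : L => (l : G) ∈ H)] : loc H L F = (Nat.card L : ℂ)⁻¹ * ((∑ l : L, if (l : G) ∈ H then F l else 0) - F 1) := by
  classical
  unfold loc
  congr 1
  have h1 : (∑ l : L, if (l : G) ∈ H then F l else 0) = (∑ l : L, if (l : G) ∈ H ∧ l ≠ 1 then F l else 0) + ∑ l : L, if l = 1 then F l else 0 := by
    rw [← Finset.sum_add_distrib]
    refine Finset.sum_congr rfl fun l _ => ?_
    by_cases h1 : l = 1
    · subst h1; simp [H.one_mem]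
    · by_cases h2 : (l : G) ∈ H <;> simp [h1, h2]
  rw [h1, Finset.sum_ite_eq' Finset.univ (1 : L) F, if_pos (Finset.mem_univ _), add_sub_cancel_right]
  exact Finset.sum_congr rfl fun l _ => by congr

omit hζ hζ1 in
theorem card_L : (Nat.card L : ℂ) = ((H.subgroupOf L).index : ℂ) * (Nat.card H : ℂ) := by
  rw [← D.card_eq, ← Subgroup.card_mul_index (H.subgroupOf L)]; push_cast; ring

omit hζ hζ1 in
theorem sum_H [DecidablePred (fun l : L => (l : G) ∈ H)] (c : ℂ) : (∑ l : L, if (l : G) ∈ H then c else 0) = (Nat.card H : ℂ) * c := by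
  classical
  rw [← Finset.sum_filter, Finset.sum_const, nsmul_eq_mul, ← D.card_eq]
  congr 2
  rw [Nat.card_eq_fintype_card, Fintype.card_subtype]
  congr 1
  ext a
  simp [Subgroup.mem_subgroupOf]

omit hζ hζ1 in
theorem loc_const (c : ℂ) : loc H L (fun _ => c) = c * ((Nat.card H : ℂ) - 1) / (((H.subgroupOf L).index : ℂ) * (Nat.card H : ℂ)) := by
  classical
  rw [D.loc_eq, D.sum_H, D.card_L]
  have h1 : (Nat.card H : ℂ) ≠ 0 := by exact_mod_cast Nat.card_pos.ne'
  have h2 : ((H.subgroupOf L).index : ℂ) ≠ 0 := by exact_mod_cast Subgroup.index_ne_zero_of_finite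
  field_simp

theorem loc_zeta (C : ℤ) : loc H L (fun l => (ζ l + C) * conj (ζ l + C)) =
    1 + (C : ℂ) ^ 2 / ((H.subgroupOf L).index : ℂ) - (((H.subgroupOf L).index : ℂ) + C) ^ 2 / (((H.subgroupOf L).index : ℂ) * (Nat.card H : ℂ)) := by
  classical
  rw [D.loc_eq, hζ1]
  have hL : (Nat.card L : ℂ) ≠ 0 := by exact_mod_cast Nat.card_pos.ne'
  have h1 : (∑ l : L, if (l : G) ∈ H then (ζ l + C) * conj (ζ l + C) else 0) =
      ∑ l : L, (ζ l * conj (ζ l) + C * ζ l + C * conj (ζ l) + if (l : G) ∈ H then (C : ℂ) ^ 2 else 0) := by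
    refine Finset.sum_congr rfl fun l _ => ?_
    by_cases h : (l : G) ∈ H
    · rw [if_pos h, if_pos h, map_add, map_intCast]; ring
    · rw [if_neg h, if_neg h, D.off (z_sub hζ) h]; simp
  have h2 : ∑ l : L, ζ l = 0 := by
    have := D.inner_one hζ
    rw [inner_one_right] at this
    exact (mul_eq_zero.mp this).resolve_left (inv_ne_zero hL)
  have h3 : ∑ l : L, conj (ζ l) = 0 := by rw [← map_sum, h2, map_zero]
  have h4 : ∑ l : L, ζ l * conj (ζ l) = (Nat.card L : ℂ) := by
    have := irr_inner_self (D.irr ζ hζ)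
    unfold classInner at this
    field_simp at this
    exact this
  rw [h1, Finset.sum_add_distrib, Finset.sum_add_distrib, Finset.sum_add_distrib, ← Finset.mul_sum, ← Finset.mul_sum, h2, h3, h4, D.sum_H, D.card_L]
  have h1 : (Nat.card H : ℂ) ≠ 0 := by exact_mod_cast Nat.card_pos.ne'
  have h2 : ((H.subgroupOf L).index : ℂ) ≠ 0 := by exact_mod_cast Subgroup.index_ne_zero_of_finite
  rw [map_add, map_natCast, map_intCast]
  field_simp
  ring

omit hζ hζ1 in
/-- the function on `G` with local square sums -/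
theorem W_one (f : G → ℂ) [DecidablePred (fun l : L => (l : G) ∈ H ∧ l ≠ 1)] :
    classInner (indFun L (fun l : L => if (l : G) ∈ H ∧ l ≠ 1 then f l * conj (f l) else 0)) (fun _ => 1) = loc H L (fun l => f l * conj (f l)) := by
  rw [CharIndA.frobenius L _ (irr_classFun isIrrCharacter_one)]
  have h := inner_one_right (G := L) (fun l : L => if (l : G) ∈ H ∧ l ≠ 1 then f l * conj (f l) else 0)
  unfold loc
  rw [show (fun h : L => (1 : ℂ)) = fun _ => 1 from rfl, h]
  congr 1
  refine Finset.sum_congr rfl fun l _ => ?_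
  by_cases hl : (l : G) ∈ H ∧ l ≠ 1 <;> simp [hl]

omit hζ hζ1 in
theorem W_apply {f : G → ℂ} (hf : IsClassFunction G f) [DecidablePred (fun l : L => (l : G) ∈ H ∧ l ≠ 1)] {g x : G} (hg : g ≠ 1) (hx : x * g * x⁻¹ ∈ H) :
    indFun L (fun l : L => if (l : G) ∈ H ∧ l ≠ 1 then f l * conj (f l) else 0) g = f g * conj (f g) := by
  have hcl : IsClassFunction L (fun l : L => if (l : G) ∈ H ∧ l ≠ 1 then f l * conj (f l) else 0) := by
    intro l y
    beta_reduce
    have e1 : (((y * l * y⁻¹ : L) : G) ∈ H ∧ y * l * y⁻¹ ≠ 1) ↔ ((l : G) ∈ H ∧ l ≠ 1) := by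
      constructor
      · rintro ⟨h1, h2⟩
        have h3 := D.hHn (y : G)⁻¹ (L.inv_mem y.2) _ h1
        have h4 : (y : G)⁻¹ * ((y * l * y⁻¹ : L) : G) * (y : G)⁻¹⁻¹ = l := by push_cast; group
        rw [h4] at h3
        exact ⟨h3, fun h => h2 (by rw [h]; group)⟩
      · rintro ⟨h1, h2⟩
        refine ⟨D.hHn y y.2 _ h1, fun h => h2 ?_⟩
        have : l = y⁻¹ * (y * l * y⁻¹) * y := by group
        rw [this, h]; group
    have e2 : f ((y * l * y⁻¹ : L) : G) = f l := by
      push_cast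
      exact hf l y
    by_cases h : (l : G) ∈ H ∧ l ≠ 1
    · rw [if_pos h, if_pos (e1.mpr h), e2]
    · rw [if_neg h, if_neg (fun h' => h (e1.mp h'))]
  have h1 : indFun L (fun l : L => if (l : G) ∈ H ∧ l ≠ 1 then f l * conj (f l) else 0) g =
      indFun L (fun l : L => if (l : G) ∈ H ∧ l ≠ 1 then f l * conj (f l) else 0) ((⟨x * g * x⁻¹, D.hHL.le hx⟩ : L) : G) :=
    (ind_classFun L _ g x).symm
  have hne : (⟨x * g * x⁻¹, D.hHL.le hx⟩ : L) ≠ 1 := by
    intro h
    have h2 : x * g * x⁻¹ = 1 := congrArg Subtype.val h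
    apply hg
    have : g = x⁻¹ * (x * g * x⁻¹) * x := by group
    rw [this, h2]; group
  rw [h1, CfsgLib.TI.ind_apply_ti D.tiS hcl (fun y hy => by
    beta_reduce
    rw [if_neg]
    rintro ⟨h2, h3⟩
    exact hy ⟨h2, fun h => h3 (Subtype.ext h)⟩) (s := ⟨x * g * x⁻¹, D.hHL.le hx⟩) ⟨hx, fun h => hne (Subtype.ext h)⟩]
  rw [if_pos ⟨hx, hne⟩]
  show f (x * g * x⁻¹) * conj (f (x * g * x⁻¹)) = _
  rw [hf g x]

omit hζ hζ1 in
theorem W_off {f : G → ℂ} [DecidablePred (fun l : L => (l : G) ∈ H ∧ l ≠ 1)] {g : G} (hg : g = 1 ∨ ∀ x : G, x * g * x⁻¹ ∉ H) :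
    indFun L (fun l : L => if (l : G) ∈ H ∧ l ≠ 1 then f l * conj (f l) else 0) g = 0 := by
  by_contra h
  obtain ⟨h1, x, hx⟩ := D.supp (α := fun l : L => if (l : G) ∈ H ∧ l ≠ 1 then f l * conj (f l) else 0) (by simp)
    (fun x hx => by beta_reduce; rw [if_neg]; exact fun h => hx h.1) h
  rcases hg with hg | hg
  · exact h1 hg
  · exact hg x⁻¹ (by rwa [inv_inv])

end Odd'

section Family
variable {G : Type v} [Group G] [Fintype G] {ι : Type*} [Fintype ι] {H L : ι → Subgroup G} [∀ i, Fintype (L i)] (D : ∀ i, Odd' (H i) (L i))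
  (hcop : ∀ i j, i ≠ j → Nat.Coprime (Nat.card (H i)) (Nat.card (H j)))
include D hcop

omit [Fintype ι] D in
theorem conj_unique {i j : ι} {g x y : G} (hg : g ≠ 1) (hx : x * g * x⁻¹ ∈ H i) (hy : y * g * y⁻¹ ∈ H j) : i = j := by
  by_contra hne
  have h1 : orderOf g ∣ Nat.card (H i) := by
    rw [← (MulAut.conj x).orderOf_eq g]
    exact Subgroup.orderOf_dvd_natCard _ hx
  have h2 : orderOf g ∣ Nat.card (H j) := by
    rw [← (MulAut.conj y).orderOf_eq g]
    exact Subgroup.orderOf_dvd_natCard _ hy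
  exact hg (orderOf_eq_one_iff.mp (Nat.eq_one_of_dvd_coprimes (hcop i j hne) h1 h2))

theorem disj_inner {i j : ι} (hne : i ≠ j) {α : L i → ℂ} {β : L j → ℂ} (hα : α 1 = 0) (hα' : ∀ x : L i, (x : G) ∉ H i → α x = 0)
    (hβ : β 1 = 0) (hβ' : ∀ x : L j, (x : G) ∉ H j → β x = 0) : classInner (indFun (L i) α) (indFun (L j) β) = 0 := by
  unfold classInner
  rw [Finset.sum_eq_zero, mul_zero]
  intro g _
  by_cases h1 : indFun (L i) α g = 0
  · rw [h1, zero_mul]
  · by_cases h2 : indFun (L j) β g = 0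
    · rw [h2, map_zero, mul_zero]
    · exfalso
      obtain ⟨hg, x, hx⟩ := (D i).supp hα hα' h1
      obtain ⟨-, y, hy⟩ := (D j).supp hβ hβ' h2
      exact hne (conj_unique hcop hg (x := x⁻¹) (y := y⁻¹) (by rwa [inv_inv]) (by rwa [inv_inv]))

/-- the norm of a class function splits along the covering -/
theorem norm_formula (hcover : ∀ g : G, g ≠ 1 → ∃ i, ∃ x : G, x * g * x⁻¹ ∈ H i) {f : G → ℂ} (hf : IsClassFunction G f) :
    classInner f f = (Nat.card G : ℂ)⁻¹ * (f 1 * conj (f 1)) + ∑ i, Odd'.loc (H i) (L i) (fun l => f l * conj (f l)) := by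
  classical
  have h1 : ∀ g : G, f g * conj (f g) = (if g = 1 then f g * conj (f g) else 0) +
      ∑ i, indFun (L i) (fun l : L i => if (l : G) ∈ H i ∧ l ≠ 1 then f l * conj (f l) else 0) g := by
    intro g
    by_cases hg : g = 1
    · rw [if_pos hg, Finset.sum_eq_zero, add_zero]
      intro i _
      exact (D i).W_off (Or.inl hg)
    · rw [if_neg hg, zero_add]
      obtain ⟨i, x, hx⟩ := hcover g hg
      rw [Finset.sum_eq_single i]
      · exact ((D i).W_apply hf hg hx).symm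
      · intro j _ hj
        refine (D j).W_off (Or.inr fun y hy => hj ?_)
        exact conj_unique hcop hg hy hx
      · intro h; exact absurd (Finset.mem_univ _) h
  have h2 : ∀ i, Odd'.loc (H i) (L i) (fun l => f l * conj (f l)) = (Nat.card G : ℂ)⁻¹ *
      ∑ g : G, indFun (L i) (fun l : L i => if (l : G) ∈ H i ∧ l ≠ 1 then f l * conj (f l) else 0) g := by
    intro i
    rw [← (D i).W_one f, inner_one_right]
  rw [Finset.sum_congr rfl fun i _ => h2 i, ← Finset.mul_sum, Finset.sum_comm, ← mul_add]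
  unfold classInner
  congr 1
  rw [Finset.sum_congr rfl fun g _ => h1 g, Finset.sum_add_distrib, Finset.sum_ite_eq' Finset.univ (1 : G) (fun g => f g * conj (f g))]
  simp

end Family
end CfsgLib.Coh
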