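import Cfsg.Agent.EqBase
import Cfsg.Agent.LibCoh18
/-!
# Non-existence of groups of odd order covered by TI Frobenius kernels (helper16)
-/
set_option autoImplicit false
set_option linter.all false
open Cfsg CfsgLib.CharBasic CfsgLib.CharIndA CfsgLib.CharNorm CfsgLib.Sgn CfsgLib.Clifford
open scoped ComplexConjugate
namespace CfsgLib.Coh

universe u v

section Arith

theorem arith_two {e : ℝ} (he : 3 ≤ e) : (2 + e) / (1 + 2 * e) + (e - 1) / (2 * e + 5) < 1 := by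
  have h1 : 0 < 1 + 2 * e := by linarith
  have h2 : 0 < 2 * e + 5 := by linarith
  rw [div_add_div _ _ h1.ne' h2.ne', div_lt_one (mul_pos h1 h2)]
  nlinarith

theorem arith_four {e u : ℝ} (he : 3 ≤ e) (hu : 4 ≤ u) : (u + e) / (1 + u * e) + (e - 1) / (2 * e + 1) < 1 := by
  have h1 : 0 < 1 + u * e := by positivity
  have h2 : 0 < 2 * e + 1 := by linarith
  rw [div_add_div _ _ h1.ne' h2.ne', div_lt_one (mul_pos h1 h2)]
  have h3 : 0 ≤ (u - 4) * (e - 3) := mul_nonneg (by linarith) (by linarith)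
  have h4 : 0 ≤ (u - 4) * (e - 3) * e := mul_nonneg h3 (by linarith)
  nlinarith [mul_nonneg h3 (show (0:ℝ) ≤ e by linarith), sq_nonneg (e - 3), mul_nonneg (show (0:ℝ) ≤ u - 4 by linarith) (sq_nonneg (e - 3))]

theorem arith {ι : Type*} [Fintype ι] [DecidableEq ι] [Nonempty ι] (e u : ι → ℕ) (C : ι → ι → ℤ) (g : ℝ) (he : ∀ i, Odd (e i)) (he1 : ∀ i, 1 < e i)
    (hu : ∀ i, Even (u i)) (hu0 : ∀ i, 0 < u i) (hdist : ∀ i j, i ≠ j → 1 + u i * e i ≠ 1 + u j * e j)
    (hC : ∀ i j, i ≠ j → C i j ≠ 0 ∨ C j i ≠ 0)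
    (hA : ∀ i, 1 / g + ∑ j ∈ Finset.univ.erase i, (C i j : ℝ) ^ 2 * ((u j : ℝ) / (1 + u j * e j)) ≤ (e i : ℝ) / (1 + u i * e i))
    (hB : ∀ i, ∑ j ∈ Finset.univ.erase i, (C j i) ^ 2 * (u j : ℤ) ≤ (e i : ℤ))
    (hsum : 1 = 1 / g + ∑ j, (u j : ℝ) / (1 + u j * e j)) : False := by
  classical
  obtain ⟨i, -, hmin⟩ := Finset.exists_min_image Finset.univ e Finset.univ_nonempty
  have hmin' : ∀ j, e i ≤ e j := fun j => hmin j (Finset.mem_univ j)
  set M := (Finset.univ.erase i).filter (fun j => C i j = 0) with hM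
  set N := (Finset.univ.erase i).filter (fun j => ¬ C i j = 0) with hN
  have h1 : ∑ j ∈ Finset.univ.erase i, (u j : ℝ) / (1 + u j * e j) = ∑ j ∈ M, (u j : ℝ) / (1 + u j * e j) + ∑ j ∈ N, (u j : ℝ) / (1 + u j * e j) :=
    (Finset.sum_filter_add_sum_filter_not _ _ _).symm
  have h2 : ∑ j, (u j : ℝ) / (1 + u j * e j) = (u i : ℝ) / (1 + u i * e i) + ∑ j ∈ Finset.univ.erase i, (u j : ℝ) / (1 + u j * e j) :=
    (Finset.add_sum_erase _ _ (Finset.mem_univ i)).symm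
  have hpos : ∀ j, (0 : ℝ) < 1 + u j * e j := fun j => by positivity
  have hN' : ∑ j ∈ N, (u j : ℝ) / (1 + u j * e j) ≤ ∑ j ∈ Finset.univ.erase i, (C i j : ℝ) ^ 2 * ((u j : ℝ) / (1 + u j * e j)) := by
    refine le_trans (Finset.sum_le_sum (f := fun j => (u j : ℝ) / (1 + u j * e j)) (g := fun j => (C i j : ℝ) ^ 2 * ((u j : ℝ) / (1 + u j * e j))) fun j hj => ?_) (Finset.sum_le_sum_of_subset_of_nonneg (Finset.filter_subset _ _) fun j _ _ => ?_)
    · have h3 : C i j ≠ 0 := (Finset.mem_filter.mp hj).2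
      have h4 : (1 : ℤ) ≤ (C i j) ^ 2 := by
        have := sq_pos_of_ne_zero h3
        omega
      have h5 : (1 : ℝ) ≤ (C i j : ℝ) ^ 2 := by exact_mod_cast h4
      have h6 : (0 : ℝ) ≤ (u j : ℝ) / (1 + u j * e j) := div_nonneg (Nat.cast_nonneg _) (hpos j).le
      nlinarith
    · exact mul_nonneg (sq_nonneg _) (div_nonneg (Nat.cast_nonneg _) (hpos j).le)
  -- bound for `M`
  have hMu : ∑ j ∈ M, (u j : ℤ) ≤ (e i : ℤ) - 1 := by
    have h3 : ∑ j ∈ M, (u j : ℤ) ≤ ∑ j ∈ Finset.univ.erase i, (C j i) ^ 2 * (u j : ℤ) := by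
      refine le_trans (Finset.sum_le_sum (g := fun j => (C j i) ^ 2 * (u j : ℤ)) fun j hj => ?_) (Finset.sum_le_sum_of_subset_of_nonneg (Finset.filter_subset _ _) fun j _ _ => ?_)
      · obtain ⟨h3, h4⟩ := Finset.mem_filter.mp hj
        have h5 : C j i ≠ 0 := (hC i j (Ne.symm (Finset.ne_of_mem_erase h3))).resolve_left (fun h => h h4)
        have h6 : (1 : ℤ) ≤ (C j i) ^ 2 := by
          have := sq_pos_of_ne_zero h5
          omega
        nlinarith [Int.natCast_nonneg (u j)]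
      · positivity
    have h4 : Even (∑ j ∈ M, (u j : ℤ)) := by
      refine Finset.even_sum _ fun j _ => ?_
      exact_mod_cast hu j
    have h5 : ∑ j ∈ M, (u j : ℤ) ≤ (e i : ℤ) := le_trans h3 (hB i)
    obtain ⟨a, ha⟩ := h4
    obtain ⟨b, hb⟩ := he i
    omega
  have hMu' : ∑ j ∈ M, (u j : ℝ) ≤ (e i : ℝ) - 1 := by exact_mod_cast hMu
  have he3 : 3 ≤ e i := by
    have := he1 i
    obtain ⟨b, hb⟩ := he i
    omega
  have he3' : (3 : ℝ) ≤ (e i : ℝ) := by exact_mod_cast he3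
  have hbound : ∀ m : ℝ, 0 < m → (∀ j, j ≠ i → m ≤ 1 + u j * e j) → ∑ j ∈ M, (u j : ℝ) / (1 + u j * e j) ≤ ((e i : ℝ) - 1) / m := by
    intro m hm hmj
    have h3 : ∑ j ∈ M, (u j : ℝ) / (1 + u j * e j) ≤ ∑ j ∈ M, (u j : ℝ) / m := by
      refine Finset.sum_le_sum fun j hj => ?_
      exact div_le_div_of_nonneg_left (Nat.cast_nonneg _) hm (hmj j (Finset.ne_of_mem_erase (Finset.mem_filter.mp hj).1))
    refine le_trans h3 ?_
    rw [← Finset.sum_div]
    exact div_le_div_of_nonneg_right hMu' hm.le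
  have hA' := hA i
  have hfin : ∀ m : ℝ, 0 < m → (∀ j, j ≠ i → m ≤ 1 + u j * e j) → 1 ≤ ((u i : ℝ) + e i) / (1 + u i * e i) + ((e i : ℝ) - 1) / m := by
    intro m hm hmj
    have := hbound m hm hmj
    rw [add_div]
    linarith
  have hu2 : ∀ j, u j = 2 ∨ 4 ≤ u j := by
    intro j
    have := hu0 j
    obtain ⟨a, ha⟩ := hu j
    omega
  rcases hu2 i with h | h
  · have h3 := hfin (2 * e i + 5) (by positivity) (by
      intro j hj
      have h4 : 2 * e i + 5 ≤ 1 + u j * e j := by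
        rcases hu2 j with h5 | h5
        · have h6 := hdist i j (Ne.symm hj)
          rw [h, h5] at h6
          have h7 := hmin' j
          have h8 : e i ≠ e j := fun h => h6 (by rw [h])
          obtain ⟨a, ha⟩ := he i
          obtain ⟨b, hb⟩ := he j
          rw [h5]; omega
        · have h7 := hmin' j
          have h8 : 4 * e i ≤ u j * e j := Nat.mul_le_mul h5 h7
          omega
      exact_mod_cast h4)
    have h4 := arith_two he3'
    rw [h] at h3
    push_cast at h3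
    linarith
  · have h3 := hfin (2 * e i + 1) (by positivity) (by
      intro j hj
      have h4 : 2 * e i + 1 ≤ 1 + u j * e j := by
        have h5 : 2 ≤ u j := by rcases hu2 j with h6 | h6 <;> omega
        have h8 : 2 * e i ≤ u j * e j := Nat.mul_le_mul h5 (hmin' j)
        omega
      exact_mod_cast h4)
    have h4 := arith_four he3' (show (4 : ℝ) ≤ (u i : ℝ) by exact_mod_cast h)
    linarith

end Arith

theorem exists_u {G : Type v} [Group G] [Fintype G] {H L : Subgroup G} [Fintype L] (D : Odd' H L) :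
    ∃ (b : (L → ℂ) → ℕ) (F : Finset (L → ℂ)), (∀ φ, φ ∈ F ↔ φ ∈ inducedIrrAbove (H.subgroupOf L) ⊥) ∧
      (∀ φ ∈ F, φ 1 = (b φ : ℂ) * ((H.subgroupOf L).index : ℂ)) ∧ Nat.card H = 1 + (∑ φ ∈ F, b φ ^ 2) * (H.subgroupOf L).index := by
  classical
  have hfS : (inducedIrrAbove (H.subgroupOf L) (⊥ : Subgroup L)).Finite := ia_finite D.normal
  have hb : ∀ φ : L → ℂ, ∃ b : ℕ, φ ∈ inducedIrrAbove (H.subgroupOf L) ⊥ → φ 1 = (b : ℂ) * ((H.subgroupOf L).index : ℂ) := by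
    intro φ
    by_cases h : φ ∈ inducedIrrAbove (H.subgroupOf L) ⊥
    · obtain ⟨b, -, hb⟩ := D.exists_b h
      exact ⟨b, fun _ => hb⟩
    · exact ⟨0, fun h' => absurd h' h⟩
  choose b hb using hb
  have mF : ∀ φ, φ ∈ hfS.toFinset ↔ φ ∈ inducedIrrAbove (H.subgroupOf L) ⊥ := fun φ => hfS.mem_toFinset
  refine ⟨b, hfS.toFinset, mF, fun φ hφ => hb φ ((mF φ).mp hφ), ?_⟩
  have h1 := sum_formula D.normal (inferInstance : (⊥ : Subgroup L).Normal) bot_le hfS.toFinset mF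
  rw [Subgroup.relIndex_bot_left, D.card_eq] at h1
  have hw : ((H.subgroupOf L).index : ℂ) ≠ 0 := by exact_mod_cast Subgroup.index_ne_zero_of_finite
  have h2 : ∑ φ ∈ hfS.toFinset, φ 1 ^ 2 / classInner φ φ = ((H.subgroupOf L).index : ℂ) ^ 2 * ((∑ φ ∈ hfS.toFinset, b φ ^ 2 : ℕ) : ℂ) := by
    push_cast
    rw [Finset.mul_sum]
    refine Finset.sum_congr rfl fun φ hφ => ?_
    rw [irr_inner_self (D.irr φ ((mF φ).mp hφ)), div_one, hb φ ((mF φ).mp hφ)]; ring
  rw [h2] at h1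
  have h3 : ((H.subgroupOf L).index : ℂ) * (((H.subgroupOf L).index : ℂ) * ((∑ φ ∈ hfS.toFinset, b φ ^ 2 : ℕ) : ℂ) - ((Nat.card H : ℂ) - 1)) = 0 := by
    linear_combination h1
  have h4 := (mul_eq_zero.mp h3).resolve_left hw
  have h5 : (Nat.card H : ℂ) = ((1 + (∑ φ ∈ hfS.toFinset, b φ ^ 2) * (H.subgroupOf L).index : ℕ) : ℂ) := by
    rw [Nat.cast_add, Nat.cast_mul]
    linear_combination -h4
  exact_mod_cast h5

section Family
variable {G : Type v} [Group G] [Fintype G] {ι : Type*} [Fintype ι] {H L : ι → Subgroup G} [∀ i, Fintype (L i)] (D : ∀ i, Odd' (H i) (L i))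
  (hcop : ∀ i j, i ≠ j → Nat.Coprime (Nat.card (H i)) (Nat.card (H j)))
  {T : ∀ i, (L i → ℂ) → (G → ℂ)} (hT : ∀ i, IsLinearIsometryOn (zspan (inducedIrrAbove ((H i).subgroupOf (L i)) ⊥)) (T i))
  (hTα : ∀ i, ∀ α ∈ zspanOn (inducedIrrAbove ((H i).subgroupOf (L i)) ⊥) {1}ᶜ, T i α = indFun (L i) α)
include D hcop hT hTα

/-- the images of the coherent extensions are orthogonal -/
theorem cross_orth {i j : ι} (hne : i ≠ j) {φ : L i → ℂ} (hφ : φ ∈ inducedIrrAbove ((H i).subgroupOf (L i)) ⊥) {ψ : L j → ℂ}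
    (hψ : ψ ∈ inducedIrrAbove ((H j).subgroupOf (L j)) ⊥) : classInner (T i φ) (T j ψ) = 0 := by
  have hx := (D i).T_sirr (hT i) (hTα i) hφ
  have hx' := (D i).T_sirr (hT i) (hTα i) (ia_conj hφ)
  have hy := (D j).T_sirr (hT j) (hTα j) hψ
  have hy' := (D j).T_sirr (hT j) (hTα j) (ia_conj hψ)
  have hxx := (D i).T_inner (hT i) (hTα i) hφ (ia_conj hφ) (Ne.symm ((D i).conj_ne φ hφ))
  have hyy := (D j).T_inner (hT j) (hTα j) hψ (ia_conj hψ) (Ne.symm ((D j).conj_ne ψ hψ))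
  have d1 := (D i).T_conj_sub (hT i) (hTα i) hφ
  have d2 := (D j).T_conj_sub (hT j) (hTα j) hψ
  have off : ∀ (i : ι) (φ : L i → ℂ), φ ∈ inducedIrrAbove ((H i).subgroupOf (L i)) ⊥ → (φ - conjFun φ) 1 = 0 ∧ ∀ x : L i, (x : G) ∉ H i → (φ - conjFun φ) x = 0 := by
    intro i φ hφ
    refine ⟨by rw [Pi.sub_apply, conj_one (ia_char hφ), sub_self], fun x hx => ?_⟩
    rw [Pi.sub_apply, (D i).off (z_sub hφ) hx, (D i).off (z_sub (ia_conj hφ)) hx, sub_zero]
  have h0 : classInner (T i φ - T i (conjFun φ)) (T j ψ - T j (conjFun ψ)) = 0 := by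
    rw [d1, d2]
    exact disj_inner D hcop hne (off i φ hφ).1 (off i φ hφ).2 (off j ψ hψ).1 (off j ψ hψ).2
  have o1 : T i φ 1 = T i (conjFun φ) 1 := by
    have := congrFun d1 1
    rw [Pi.sub_apply, CharIndA.ind_one, (off i φ hφ).1, mul_zero] at this
    linear_combination this
  have o2 : T j ψ 1 = T j (conjFun ψ) 1 := by
    have := congrFun d2 1
    rw [Pi.sub_apply, CharIndA.ind_one, (off j ψ hψ).1, mul_zero] at this
    linear_combination this
  rw [ci_sub_l, ci_sub_r, ci_sub_r] at h0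
  rcases hx.inner hy with h | ⟨h, h'⟩ | ⟨h, h'⟩
  · exact h
  · exfalso
    rw [h', h, hyy, ← h, ci_zero_comm hxx] at h0
    have h3 : classInner (T i (conjFun φ)) (T j (conjFun ψ)) = -1 := by linear_combination h0
    rcases hx'.inner hy' with h4 | ⟨h4, h5⟩ | ⟨h4, h5⟩
    · rw [h3] at h4; norm_num at h4
    · rw [h3] at h5; norm_num at h5
    · have h6 := congrFun h4 1
      rw [Pi.neg_apply, ← o1, ← o2, h] at h6
      apply hy.one_ne
      linear_combination h6 / 2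
  · exfalso
    have e1 : classInner (T i φ) (T j (conjFun ψ)) = 0 := by rw [h, ci_neg_l, hyy, neg_zero]
    have e2 : classInner (T i (conjFun φ)) (T j ψ) = 0 := by
      have : T j ψ = -T i φ := by rw [h, neg_neg]
      rw [this, ci_neg_r, ci_zero_comm hxx, neg_zero]
    rw [h', e1, e2] at h0
    have h3 : classInner (T i (conjFun φ)) (T j (conjFun ψ)) = 1 := by linear_combination h0
    rcases hx'.inner hy' with h4 | ⟨h4, h5⟩ | ⟨h4, h5⟩
    · rw [h3] at h4; norm_num at h4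
    · have h6 := congrFun h4 1
      rw [← o1, ← o2, h, Pi.neg_apply] at h6
      apply hy.one_ne
      linear_combination -h6 / 2
    · rw [h3] at h5; norm_num at h5

/-- values of the image of a character from another member -/
theorem cross_value {i j : ι} (hne : i ≠ j) {φ : L i → ℂ} (hφ : φ ∈ inducedIrrAbove ((H i).subgroupOf (L i)) ⊥) :
    ∃ C : ℤ, ∀ k : L j, k ∈ (H j).subgroupOf (L j) → k ≠ 1 → T i φ (k : G) = C := by
  obtain ⟨ζ, hζ, hζ1⟩ := (D j).exists_zeta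
  have hg : IsGeneralizedCharacter G (T i φ) := iso_gen (hT i) (z_sub hφ)
  obtain ⟨m, hm⟩ := gen_inner_int (gen_restrict hg (L j)) (gen_of_irr ((D j).irr ζ hζ))
  obtain ⟨n, hn⟩ : ∃ n : ℤ, T i φ 1 = n := by
    rcases (D i).T_sirr (hT i) (hTα i) hφ with h | h
    · obtain ⟨n, -, hn⟩ := irr_one_nat h
      exact ⟨n, by rw [hn]; simp⟩
    · obtain ⟨n, -, hn⟩ := irr_one_nat h
      refine ⟨-n, ?_⟩
      rw [Pi.neg_apply] at hn
      push_cast; linear_combination -hn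
  refine ⟨n - m * Nat.card (H j), fun k hk hk1 => ?_⟩
  have h1 := (D j).value (hT j) (hTα j) hζ hζ1 (gen_classFun hg) 0 (fun ψ hψ _ => cross_orth D hcop hT hTα hne hφ hψ)
    (cross_orth D hcop hT hTα hne hφ hζ) hk hk1
  have hm' : classInner (fun l : L j => T i φ l) ζ = m := hm
  rw [hm', hn] at h1
  push_cast
  linear_combination -h1

omit [Fintype ι] hcop in
theorem self_value {i : ι} {ζ : L i → ℂ} (hζ : ζ ∈ inducedIrrAbove ((H i).subgroupOf (L i)) ⊥) (hζ1 : ζ 1 = (((H i).subgroupOf (L i)).index : ℂ)) :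
    ∃ C : ℤ, ∀ k : L i, k ∈ (H i).subgroupOf (L i) → k ≠ 1 → T i ζ (k : G) = ζ k + C := by
  have hg : IsGeneralizedCharacter G (T i ζ) := iso_gen (hT i) (z_sub hζ)
  obtain ⟨m, hm⟩ := gen_inner_int (gen_restrict hg (L i)) (gen_of_irr ((D i).irr ζ hζ))
  obtain ⟨n, hn⟩ : ∃ n : ℤ, T i ζ 1 = n := by
    rcases (D i).T_sirr (hT i) (hTα i) hζ with h | h
    · obtain ⟨n, -, hn⟩ := irr_one_nat h
      exact ⟨n, by rw [hn]; simp⟩
    · obtain ⟨n, -, hn⟩ := irr_one_nat h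
      refine ⟨-n, ?_⟩
      rw [Pi.neg_apply] at hn
      push_cast; linear_combination -hn
  refine ⟨n - ((H i).subgroupOf (L i)).index - (m - 1) * Nat.card (H i), fun k hk hk1 => ?_⟩
  have h1 := (D i).value (hT i) (hTα i) hζ hζ1 (gen_classFun hg) 1 (fun ψ hψ hne => (D i).T_inner (hT i) (hTα i) hζ hψ (Ne.symm hne))
    ((D i).T_sirr (hT i) (hTα i) hζ).self hk hk1
  have hm' : classInner (fun l : L i => T i ζ l) ζ = m := hm
  rw [hm', hn, hζ1] at h1
  push_cast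
  linear_combination -h1

/-- the parity argument -/
theorem parity (hodd : Odd (Nat.card G)) {i j : ι} (hne : i ≠ j) {ζ : L i → ℂ} (hζ : ζ ∈ inducedIrrAbove ((H i).subgroupOf (L i)) ⊥)
    (hζ1 : ζ 1 = (((H i).subgroupOf (L i)).index : ℂ)) {η : L j → ℂ} (hη : η ∈ inducedIrrAbove ((H j).subgroupOf (L j)) ⊥)
    (hη1 : η 1 = (((H j).subgroupOf (L j)).index : ℂ)) {C C' : ℤ} (hC : ∀ k : L j, k ∈ (H j).subgroupOf (L j) → k ≠ 1 → T i ζ (k : G) = C)
    (hC' : ∀ k : L i, k ∈ (H i).subgroupOf (L i) → k ≠ 1 → T j η (k : G) = C') : C ≠ 0 ∨ C' ≠ 0 := by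
  by_contra hcon
  push Not at hcon
  obtain ⟨rfl, rfl⟩ := hcon
  have hx := (D i).T_sirr (hT i) (hTα i) hζ
  have hy := (D j).T_sirr (hT j) (hTα j) hη
  have g1 : ∀ (i : ι) (ζ : L i → ℂ), ζ ∈ inducedIrrAbove ((H i).subgroupOf (L i)) ⊥ → ζ 1 = (((H i).subgroupOf (L i)).index : ℂ) →
      IsGeneralizedCharacter G (indFun (L i) (Odd'.bet (H i) (L i) ζ) - (fun _ => 1) + T i ζ) := by
    intro i ζ hζ hζ1
    exact gen_add (gen_sub (gen_ind _ ((D i).bet_gen hζ hζ1)) (gen_of_irr isIrrCharacter_one)) (iso_gen (hT i) (z_sub hζ))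
  have g2 : ∀ (i : ι) (ζ : L i → ℂ), ζ ∈ inducedIrrAbove ((H i).subgroupOf (L i)) ⊥ → ζ 1 = (((H i).subgroupOf (L i)).index : ℂ) →
      conjFun (indFun (L i) (Odd'.bet (H i) (L i) ζ) - (fun _ => 1) + T i ζ) = indFun (L i) (Odd'.bet (H i) (L i) ζ) - (fun _ => 1) + T i ζ := by
    intro i ζ hζ hζ1
    have e1 := (D i).T_conj (hT i) (hTα i) hζ
    have e2 := (D i).T_conj_sub (hT i) (hTα i) hζ
    have e3 : conjFun (indFun (L i) (Odd'.bet (H i) (L i) ζ)) = indFun (L i) (Odd'.bet (H i) (L i) ζ) + indFun (L i) (ζ - conjFun ζ) := by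
      rw [conj_ind, ← CharIndA.ind_add]
      congr 1
      have e4 : conjFun (Odd'.bet (H i) (L i) ζ) = conjFun (indFun ((H i).subgroupOf (L i)) (fun _ => 1)) - conjFun ζ := by
        funext x; simp [conjFun, Odd'.bet]
      have e5 : conjFun (indFun ((H i).subgroupOf (L i)) (fun _ => 1)) = indFun ((H i).subgroupOf (L i)) (fun _ => 1) := by
        rw [conj_ind]
        congr 1
        funext x; simp [conjFun]
      rw [e4, e5]
      unfold Odd'.bet
      abel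
    have e6 : conjFun (indFun (L i) (Odd'.bet (H i) (L i) ζ) - (fun _ => 1) + T i ζ) =
        conjFun (indFun (L i) (Odd'.bet (H i) (L i) ζ)) - (fun _ => 1) + conjFun (T i ζ) := by
      funext x; simp [conjFun]
    rw [e6, e3, ← e1, ← e2]
    abel
  have b1 : classInner (indFun (L i) (Odd'.bet (H i) (L i) ζ)) (indFun (L j) (Odd'.bet (H j) (L j) η)) = 0 :=
    disj_inner D hcop hne ((D i).bet_one hζ hζ1) (fun x => (D i).bet_off hζ hζ1) ((D j).bet_one hη hη1) (fun x => (D j).bet_off hη hη1)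
  have b2 : classInner (indFun (L i) (Odd'.bet (H i) (L i) ζ)) (T j η) = 0 := by
    rw [(D i).B_const hζ hζ1 hy.classFun hC']; simp
  have b3 : classInner (T i ζ) (indFun (L j) (Odd'.bet (H j) (L j) η)) = 0 := by
    apply ci_zero_comm
    rw [(D j).B_const hη hη1 hx.classFun hC]; simp
  have b4 : classInner (fun _ => 1 : G → ℂ) (indFun (L j) (Odd'.bet (H j) (L j) η)) = 1 := by
    rw [← ci_conj, (D j).B_one hη hη1]; simp
  have key : classInner (indFun (L i) (Odd'.bet (H i) (L i) ζ) - (fun _ => 1) + T i ζ) (indFun (L j) (Odd'.bet (H j) (L j) η) - (fun _ => 1) + T j η) = ((-1 : ℤ) : ℂ) := by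
    rw [ci_add_l, ci_add_r, ci_add_r, ci_sub_l, ci_sub_r, ci_sub_r, ci_sub_l, ci_sub_r, b1, b2, b3, b4, (D i).B_one hζ hζ1,
      irr_inner_self isIrrCharacter_one, (D i).T_one (hT i) (hTα i) hζ, ci_zero_comm ((D j).T_one (hT j) (hTα j) hη), cross_orth D hcop hT hTα hne hζ hη]
    norm_num
  have k1 : classInner (indFun (L i) (Odd'.bet (H i) (L i) ζ) - (fun _ => 1) + T i ζ) (fun _ => 1) = 0 := by
    rw [ci_add_l, ci_sub_l, (D i).B_one hζ hζ1, irr_inner_self isIrrCharacter_one, (D i).T_one (hT i) (hTα i) hζ]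
    norm_num
  have := even_inner hodd (g1 i ζ hζ hζ1) (g1 j η hη hη1) (g2 i ζ hζ hζ1) (g2 j η hη hη1) k1 key
  exact absurd this (by decide)

end Family
end CfsgLib.Coh
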