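import Cfsg.Agent.EqBase
import Cfsg.Agent.LibCoh19
/-!
# Non-existence of groups of odd order covered by TI Frobenius kernels, II (helper16)
-/
set_option autoImplicit false
set_option linter.all false
open Cfsg CfsgLib.CharBasic CfsgLib.CharIndA CfsgLib.CharNorm CfsgLib.Sgn CfsgLib.Clifford
open scoped ComplexConjugate
namespace CfsgLib.Coh

universe u v

section Family
variable {G : Type v} [Group G] [Fintype G] {ι : Type*} [Fintype ι] {H L : ι → Subgroup G} [∀ i, Fintype (L i)] (D : ∀ i, Odd' (H i) (L i))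
  (hcop : ∀ i j, i ≠ j → Nat.Coprime (Nat.card (H i)) (Nat.card (H j)))
  {T : ∀ i, (L i → ℂ) → (G → ℂ)} (hT : ∀ i, IsLinearIsometryOn (zspan (inducedIrrAbove ((H i).subgroupOf (L i)) ⊥)) (T i))
  (hTα : ∀ i, ∀ α ∈ zspanOn (inducedIrrAbove ((H i).subgroupOf (L i)) ⊥) {1}ᶜ, T i α = indFun (L i) α)
include D hcop hT hTα

/-- Bessel's inequality for the function `1_K^L - ζ` -/
theorem bessel_family [DecidableEq ι] {i : ι} {ζ : ∀ i, L i → ℂ} (hζ : ∀ i, ζ i ∈ inducedIrrAbove ((H i).subgroupOf (L i)) ⊥)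
    (hζ1 : ∀ i, ζ i 1 = (((H i).subgroupOf (L i)).index : ℂ)) (b : ∀ i, (L i → ℂ) → ℕ) (F : ∀ i, Finset (L i → ℂ))
    (hF : ∀ i φ, φ ∈ F i ↔ φ ∈ inducedIrrAbove ((H i).subgroupOf (L i)) ⊥)
    (hb : ∀ i, ∀ φ ∈ F i, φ 1 = (b i φ : ℂ) * (((H i).subgroupOf (L i)).index : ℂ)) (hu0 : ∀ i, 0 < ∑ φ ∈ F i, b i φ ^ 2)
    {C : ι → ι → ℤ} (hC : ∀ i j, i ≠ j → ∀ k : L j, k ∈ (H j).subgroupOf (L j) → k ≠ 1 → T i (ζ i) (k : G) = C i j) :
    ∑ j ∈ Finset.univ.erase i, (C j i) ^ 2 * ((∑ φ ∈ F j, b j φ ^ 2 : ℕ) : ℤ) ≤ (((H i).subgroupOf (L i)).index : ℤ) := by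
  classical
  set B : G → ℂ := indFun (L i) (Odd'.bet (H i) (L i) (ζ i)) with hB
  let V : ι → G → ℂ := fun j => ∑ φ ∈ F j, (b j φ : ℂ) • T j φ
  -- inner products of `B` with the vectors
  have h1 : ∀ j, j ≠ i → classInner B (V j) = (C j i : ℂ) * ((∑ φ ∈ F j, b j φ ^ 2 : ℕ) : ℂ) := by
    intro j hj
    have e1 : classInner B (T j (ζ j)) = C j i := by
      rw [hB, (D i).B_const (hζ i) (hζ1 i) ((D j).T_sirr (hT j) (hTα j) (hζ j)).classFun (hC j i hj)]
      simp
    have e2 : ∀ φ ∈ F j, classInner B (T j φ) = (b j φ : ℂ) * C j i := by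
      intro φ hφ
      have hφ' := (hF j φ).mp hφ
      have e3 := (D j).T_diff (hT j) (hTα j) hφ' (hζ j) (b j φ) (by rw [hb j φ hφ, hζ1 j]; push_cast; ring)
      have e4 : classInner B (indFun (L j) (φ - (b j φ : ℤ) • ζ j)) = 0 := by
        refine disj_inner D hcop (Ne.symm hj) ((D i).bet_one (hζ i) (hζ1 i)) (fun x => (D i).bet_off (hζ i) (hζ1 i)) ?_ (fun x hx => ?_)
        · rw [Pi.sub_apply, Pi.smul_apply, hb j φ hφ, hζ1 j, zsmul_eq_mul]; push_cast; ring
        · rw [Pi.sub_apply, Pi.smul_apply, (D j).off (z_sub hφ') hx, (D j).off (z_sub (hζ j)) hx]; simp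
      rw [← e3, ci_sub_r, ci_zsmul_r, e1] at e4
      push_cast at e4
      linear_combination e4
    show classInner B (∑ φ ∈ F j, (b j φ : ℂ) • T j φ) = _
    rw [ci_sum_r]
    push_cast
    rw [Finset.mul_sum]
    refine Finset.sum_congr rfl fun φ hφ => ?_
    rw [ci_smul_r, e2 φ hφ, map_natCast]; ring
  have h2 : ∀ j, classInner (V j) (V j) = ((∑ φ ∈ F j, b j φ ^ 2 : ℕ) : ℂ) := by
    intro j
    show classInner (∑ φ ∈ F j, (b j φ : ℂ) • T j φ) (∑ φ ∈ F j, (b j φ : ℂ) • T j φ) = _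
    rw [ci_sum_l]
    push_cast
    refine Finset.sum_congr rfl fun φ hφ => ?_
    rw [ci_sum_r, Finset.sum_eq_single φ]
    · rw [ci_smul_l, ci_smul_r, ((D j).T_sirr (hT j) (hTα j) ((hF j φ).mp hφ)).self, map_natCast]; ring
    · intro ψ hψ hne
      rw [ci_smul_l, ci_smul_r, (D j).T_inner (hT j) (hTα j) ((hF j φ).mp hφ) ((hF j ψ).mp hψ) (Ne.symm hne)]; ring
    · intro h; exact absurd hφ h
  have h3 : ∀ j k, j ≠ k → classInner (V j) (V k) = 0 := by
    intro j k hjk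
    show classInner (∑ φ ∈ F j, (b j φ : ℂ) • T j φ) (∑ φ ∈ F k, (b k φ : ℂ) • T k φ) = _
    rw [ci_sum_l]
    refine Finset.sum_eq_zero fun φ hφ => ?_
    rw [ci_sum_r]
    refine Finset.sum_eq_zero fun ψ hψ => ?_
    rw [ci_smul_l, ci_smul_r, cross_orth D hcop hT hTα hjk ((hF j φ).mp hφ) ((hF k ψ).mp hψ)]; ring
  have h4 : ∀ j, classInner (V j) (fun _ => 1) = 0 := by
    intro j
    show classInner (∑ φ ∈ F j, (b j φ : ℂ) • T j φ) (fun _ => 1) = _
    rw [ci_sum_l]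
    refine Finset.sum_eq_zero fun φ hφ => ?_
    rw [ci_smul_l, (D j).T_one (hT j) (hTα j) ((hF j φ).mp hφ), mul_zero]
  let v : Option ι → G → ℂ := fun o => o.elim (fun _ => 1) V
  let n : Option ι → ℝ := fun o => o.elim 1 (fun j => ((∑ φ ∈ F j, b j φ ^ 2 : ℕ) : ℝ))
  have h5 := bessel' (insert none ((Finset.univ.erase i).image some)) v n ?_ ?_ ?_ B
  · have hni : (none : Option ι) ∉ (Finset.univ.erase i).image some := by simp
    rw [Finset.sum_insert hni, Finset.sum_image (fun a _ b _ h => Option.some_injective _ h)] at h5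
    have e1 : ‖classInner B (v none)‖ ^ 2 / n none = 1 := by
      show ‖classInner B (fun _ => 1)‖ ^ 2 / 1 = 1
      rw [hB, (D i).B_one (hζ i) (hζ1 i)]; norm_num
    have e2 : ∀ j ∈ Finset.univ.erase i, ‖classInner B (v (some j))‖ ^ 2 / n (some j) = (((C j i) ^ 2 * ((∑ φ ∈ F j, b j φ ^ 2 : ℕ) : ℤ) : ℤ) : ℝ) := by
      intro j hj
      show ‖classInner B (V j)‖ ^ 2 / ((∑ φ ∈ F j, b j φ ^ 2 : ℕ) : ℝ) = _
      have hpos : (0 : ℝ) < ((∑ φ ∈ F j, b j φ ^ 2 : ℕ) : ℝ) := by exact_mod_cast hu0 j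
      rw [h1 j (Finset.ne_of_mem_erase hj), norm_mul, Complex.norm_intCast, Complex.norm_natCast, mul_pow, sq_abs]
      rw [Int.cast_mul, Int.cast_pow, Int.cast_natCast]
      field_simp
    have e3 : (classInner B B).re = (((H i).subgroupOf (L i)).index : ℝ) + 1 := by
      rw [hB, (D i).B_self (hζ i) (hζ1 i)]; simp
    rw [e1, Finset.sum_congr rfl e2, e3] at h5
    have h6 : ((∑ j ∈ Finset.univ.erase i, (C j i) ^ 2 * ((∑ φ ∈ F j, b j φ ^ 2 : ℕ) : ℤ) : ℤ) : ℝ) ≤ ((((H i).subgroupOf (L i)).index : ℤ) : ℝ) := by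
      rw [Int.cast_sum, Int.cast_natCast]
      linarith
    exact_mod_cast h6
  · intro o _
    cases o with
    | none => show (0 : ℝ) < 1; norm_num
    | some j => show (0 : ℝ) < ((∑ φ ∈ F j, b j φ ^ 2 : ℕ) : ℝ); exact_mod_cast hu0 j
  · intro o _
    cases o with
    | none =>
      show classInner (fun _ => 1 : G → ℂ) (fun _ => 1) = ((1 : ℝ) : ℂ)
      rw [irr_inner_self isIrrCharacter_one]; simp
    | some j =>
      show classInner (V j) (V j) = (((∑ φ ∈ F j, b j φ ^ 2 : ℕ) : ℝ) : ℂ)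
      rw [h2 j]; simp
  · intro o _ o' _ hne
    cases o with
    | none => cases o' with
      | none => exact absurd rfl hne
      | some j => exact ci_zero_comm (h4 j)
    | some j => cases o' with
      | none => exact h4 j
      | some k => exact h3 j k (fun h => hne (by rw [h]))

/-- the norm inequality -/
theorem norm_family [DecidableEq ι] (hcover : ∀ g : G, g ≠ 1 → ∃ i, ∃ x : G, x * g * x⁻¹ ∈ H i) {i : ι} {ζ : L i → ℂ}
    (hζ : ζ ∈ inducedIrrAbove ((H i).subgroupOf (L i)) ⊥) (hζ1 : ζ 1 = (((H i).subgroupOf (L i)).index : ℂ)) (u : ι → ℕ)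
    (hu : ∀ i, Nat.card (H i) = 1 + u i * ((H i).subgroupOf (L i)).index) (hu2 : ∀ i, 2 ≤ u i)
    {C : ι → ℤ} (hC : ∀ j, i ≠ j → ∀ k : L j, k ∈ (H j).subgroupOf (L j) → k ≠ 1 → T i ζ (k : G) = C j) :
    1 / (Nat.card G : ℝ) + ∑ j ∈ Finset.univ.erase i, (C j : ℝ) ^ 2 * ((u j : ℝ) / (1 + u j * ((H j).subgroupOf (L j)).index)) ≤
      (((H i).subgroupOf (L i)).index : ℝ) / (1 + u i * ((H i).subgroupOf (L i)).index) := by
  classical
  have hx := (D i).T_sirr (hT i) (hTα i) hζ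
  obtain ⟨c, hc⟩ := self_value D hT hTα hζ hζ1
  have h1 := norm_formula D hcop hcover hx.classFun
  rw [hx.self, ← Finset.add_sum_erase _ _ (Finset.mem_univ i)] at h1
  have hindex : ∀ j, (((H j).subgroupOf (L j)).index : ℝ) ≠ 0 := fun j => by exact_mod_cast Subgroup.index_ne_zero_of_finite
  have hcardR : ∀ j, (Nat.card (H j) : ℝ) = 1 + u j * ((H j).subgroupOf (L j)).index := fun j => by rw [hu j]; push_cast; ring
  have hcard0 : ∀ j, (Nat.card (H j) : ℝ) ≠ 0 := fun j => by exact_mod_cast Nat.card_pos.ne'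
  have e0 : ∀ j, i ≠ j → Odd'.loc (H j) (L j) (fun l => T i ζ l * conj (T i ζ l)) = (((C j : ℝ) ^ 2 * ((u j : ℝ) / (1 + u j * ((H j).subgroupOf (L j)).index)) : ℝ) : ℂ) := by
    intro j hj
    have e1 : Odd'.loc (H j) (L j) (fun l => T i ζ l * conj (T i ζ l)) = Odd'.loc (H j) (L j) (fun _ => (C j : ℂ) ^ 2) := by
      unfold Odd'.loc
      congr 1
      refine Finset.sum_congr rfl fun l _ => ?_
      by_cases hl : (l : G) ∈ H j ∧ l ≠ 1
      · rw [if_pos hl, if_pos hl]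
        beta_reduce
        rw [hC j hj l hl.1 hl.2]; simp; ring
      · rw [if_neg hl, if_neg hl]
    rw [e1, (D j).loc_const]
    have h2 : ((((H j).subgroupOf (L j)).index : ℂ)) ≠ 0 := by exact_mod_cast Subgroup.index_ne_zero_of_finite
    have h3 : (Nat.card (H j) : ℂ) = 1 + u j * ((H j).subgroupOf (L j)).index := by rw [hu j]; push_cast; ring
    have h4 : (1 + (u j : ℂ) * ((H j).subgroupOf (L j)).index) ≠ 0 := by rw [← h3]; exact_mod_cast Nat.card_pos.ne'
    rw [h3]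
    push_cast
    field_simp
    ring
  have e1 : Odd'.loc (H i) (L i) (fun l => T i ζ l * conj (T i ζ l)) = ((1 + (c : ℝ) ^ 2 / ((H i).subgroupOf (L i)).index -
      ((((H i).subgroupOf (L i)).index : ℝ) + c) ^ 2 / ((((H i).subgroupOf (L i)).index : ℝ) * (Nat.card (H i) : ℝ)) : ℝ) : ℂ) := by
    have e2 : Odd'.loc (H i) (L i) (fun l => T i ζ l * conj (T i ζ l)) = Odd'.loc (H i) (L i) (fun l => (ζ l + c) * conj (ζ l + c)) := by
      unfold Odd'.loc
      congr 1
      refine Finset.sum_congr rfl fun l _ => ?_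
      by_cases hl : (l : G) ∈ H i ∧ l ≠ 1
      · rw [if_pos hl, if_pos hl]
        beta_reduce
        rw [hc l hl.1 hl.2]
      · rw [if_neg hl, if_neg hl]
    rw [e2, (D i).loc_zeta hζ hζ1]
    push_cast
    ring
  obtain ⟨n, hn0, hn⟩ : ∃ n : ℤ, n ≠ 0 ∧ T i ζ 1 = n := by
    rcases hx with h | h
    · obtain ⟨n, hn0, hn⟩ := irr_one_nat h
      exact ⟨n, by exact_mod_cast hn0.ne', by rw [hn]; simp⟩
    · obtain ⟨n, hn0, hn⟩ := irr_one_nat h
      refine ⟨-n, by simpa using hn0.ne', ?_⟩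
      rw [Pi.neg_apply] at hn
      push_cast; linear_combination -hn
  rw [e1, Finset.sum_congr rfl (fun j hj => e0 j (Ne.symm (Finset.ne_of_mem_erase hj))), hn] at h1
  have h2 : (1 : ℝ) = (Nat.card G : ℝ)⁻¹ * (n : ℝ) ^ 2 + ((1 + (c : ℝ) ^ 2 / ((H i).subgroupOf (L i)).index -
      ((((H i).subgroupOf (L i)).index : ℝ) + c) ^ 2 / ((((H i).subgroupOf (L i)).index : ℝ) * (Nat.card (H i) : ℝ))) +
      ∑ j ∈ Finset.univ.erase i, (C j : ℝ) ^ 2 * ((u j : ℝ) / (1 + u j * ((H j).subgroupOf (L j)).index))) := by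
    have h3 : ((1 : ℝ) : ℂ) = (((Nat.card G : ℝ)⁻¹ * (n : ℝ) ^ 2 + ((1 + (c : ℝ) ^ 2 / ((H i).subgroupOf (L i)).index -
      ((((H i).subgroupOf (L i)).index : ℝ) + c) ^ 2 / ((((H i).subgroupOf (L i)).index : ℝ) * (Nat.card (H i) : ℝ))) +
      ∑ j ∈ Finset.univ.erase i, (C j : ℝ) ^ 2 * ((u j : ℝ) / (1 + u j * ((H j).subgroupOf (L j)).index))) : ℝ) : ℂ) := by
      rw [Complex.ofReal_add, Complex.ofReal_add, Complex.ofReal_sum]
      rw [Complex.ofReal_one]
      refine h1.trans ?_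
      congr 1
      simp
      ring
    exact_mod_cast h3
  -- estimate
  have hGpos : (0 : ℝ) < Nat.card G := by exact_mod_cast Nat.card_pos
  have h4 : 1 / (Nat.card G : ℝ) ≤ (Nat.card G : ℝ)⁻¹ * (n : ℝ) ^ 2 := by
    rw [one_div]
    have h5 : (1 : ℝ) ≤ (n : ℝ) ^ 2 := by
      have : (1 : ℤ) ≤ n ^ 2 := by
        have := sq_pos_of_ne_zero hn0
        omega
      exact_mod_cast this
    have h6 : (0 : ℝ) < (Nat.card G : ℝ)⁻¹ := inv_pos.mpr hGpos
    nlinarith
  have h5 : 0 ≤ (c : ℝ) ^ 2 / ((H i).subgroupOf (L i)).index -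
      ((((H i).subgroupOf (L i)).index : ℝ) + c) ^ 2 / ((((H i).subgroupOf (L i)).index : ℝ) * (Nat.card (H i) : ℝ)) +
      (((H i).subgroupOf (L i)).index : ℝ) / (1 + u i * ((H i).subgroupOf (L i)).index) := by
    rw [← hcardR i]
    have h6 : (c : ℝ) ^ 2 / ((H i).subgroupOf (L i)).index -
      ((((H i).subgroupOf (L i)).index : ℝ) + c) ^ 2 / ((((H i).subgroupOf (L i)).index : ℝ) * (Nat.card (H i) : ℝ)) +
      (((H i).subgroupOf (L i)).index : ℝ) / (Nat.card (H i) : ℝ) = (c : ℝ) * (c * u i - 2) / (Nat.card (H i) : ℝ) := by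
      have h7 := hindex i
      have h8 := hcard0 i
      field_simp
      rw [hcardR i]
      ring
    rw [h6]
    apply div_nonneg _ (Nat.cast_nonneg _)
    have h9 : (0 : ℤ) ≤ c * (c * u i - 2) := by
      have h10 : (2 : ℤ) ≤ u i := by exact_mod_cast hu2 i
      rcases le_or_gt c 0 with h | h
      · have : c * (u i : ℤ) - 2 ≤ 0 := by nlinarith
        nlinarith
      · have : 0 ≤ c * (u i : ℤ) - 2 := by nlinarith
        positivity
    exact_mod_cast h9
  linarith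

end Family

/-- **the covering theorem** -/
theorem no_cover {G : Type v} [Group G] [Fintype G] (hodd : Odd (Nat.card G)) {ι : Type*} [Fintype ι] [Nonempty ι] {H L : ι → Subgroup G}
    (D : ∀ i, Odd' (H i) (L i)) (hcop : ∀ i j, i ≠ j → Nat.Coprime (Nat.card (H i)) (Nat.card (H j)))
    (hcover : ∀ g : G, g ≠ 1 → ∃ i, ∃ x : G, x * g * x⁻¹ ∈ H i) : False := by
  classical
  haveI : ∀ i, Fintype (L i) := fun i => Fintype.ofFinite _
  have hcoh := fun i => (D i).coherent.2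
  choose T hT hTα using hcoh
  have hz := fun i => (D i).exists_zeta
  choose ζ hζ hζ1 using hz
  have huu := fun i => exists_u (D i)
  choose b F hF hb hcard using huu
  have hC : ∀ i j, ∃ C : ℤ, i ≠ j → ∀ k : L j, k ∈ (H j).subgroupOf (L j) → k ≠ 1 → T i (ζ i) (k : G) = C := by
    intro i j
    by_cases h : i = j
    · exact ⟨0, fun h' => absurd h h'⟩
    · obtain ⟨C, hC⟩ := cross_value D hcop hT hTα h (hζ i)
      exact ⟨C, fun _ => hC⟩
  choose C hC using hC
  set u : ι → ℕ := fun i => ∑ φ ∈ F i, b i φ ^ 2 with hu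
  set e : ι → ℕ := fun i => ((H i).subgroupOf (L i)).index with he
  have hcard' : ∀ i, Nat.card (H i) = 1 + u i * e i := hcard
  have heodd : ∀ i, Odd (e i) := fun i => Odd.of_dvd_nat (D i).hodd (Subgroup.index_dvd_card _)
  have hH1 : ∀ i, 1 < Nat.card (H i) := fun i => by
    by_contra h
    push Not at h
    exact (D i).hH1 (Subgroup.card_eq_one.mp (le_antisymm h Nat.card_pos))
  have hHodd : ∀ i, Odd (Nat.card (H i)) := fun i => Odd.of_dvd_nat hodd (Subgroup.card_subgroup_dvd_card _)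
  have he1 : ∀ i, 1 < e i := by
    intro i
    have h1 : e i ≠ 1 := fun h => (D i).lt_top.ne (Subgroup.index_eq_one.mp h)
    have h2 : e i ≠ 0 := Subgroup.index_ne_zero_of_finite
    omega
  have hu0 : ∀ i, 0 < u i := by
    intro i
    by_contra h
    have h1 : u i = 0 := by omega
    have h2 := hcard' i
    have h3 := hH1 i
    rw [h1] at h2
    omega
  have hueven : ∀ i, Even (u i) := by
    intro i
    by_contra h
    rw [Nat.not_even_iff_odd] at h
    have h1 := h.mul (heodd i)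
    have h2 := hHodd i
    rw [hcard' i] at h2
    obtain ⟨a, ha⟩ := h1
    obtain ⟨c, hc⟩ := h2
    omega
  have hu2 : ∀ i, 2 ≤ u i := by
    intro i
    have := hu0 i
    obtain ⟨a, ha⟩ := hueven i
    omega
  refine arith e u C (Nat.card G : ℝ) heodd he1 hueven hu0 ?_ ?_ ?_ ?_ ?_
  · intro i j hij h
    have h1 := hcop i j hij
    rw [hcard' i, hcard' j, ← h, Nat.coprime_self] at h1
    have h2 := hH1 i
    rw [hcard' i, h1] at h2
    exact absurd h2 (lt_irrefl _)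
  · intro i j hij
    exact parity D hcop hT hTα hodd hij (hζ i) (hζ1 i) (hζ j) (hζ1 j) (hC i j hij) (hC j i (Ne.symm hij))
  · intro i
    exact norm_family D hcop hT hTα hcover (hζ i) (hζ1 i) u hcard' hu2 (C := C i) (fun j hij => hC i j hij)
  · intro i
    exact bessel_family D hcop hT hTα hζ hζ1 b F hF hb hu0 (C := C) (fun i j hij => hC i j hij)
  · have h1 := norm_formula D hcop hcover (f := fun _ => 1) (irr_classFun isIrrCharacter_one)
    rw [irr_inner_self isIrrCharacter_one] at h1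
    have h2 : ∀ i, Odd'.loc (H i) (L i) (fun l => (1 : ℂ) * conj 1) = (((u i : ℝ) / (1 + u i * e i) : ℝ) : ℂ) := by
      intro i
      rw [(D i).loc_const]
      have h2 : ((((H i).subgroupOf (L i)).index : ℂ)) ≠ 0 := by exact_mod_cast Subgroup.index_ne_zero_of_finite
      have h3 : (Nat.card (H i) : ℂ) = 1 + u i * ((H i).subgroupOf (L i)).index := by rw [hcard' i]; push_cast; ring
      have h4 : (1 + (u i : ℂ) * ((H i).subgroupOf (L i)).index) ≠ 0 := by rw [← h3]; exact_mod_cast Nat.card_pos.ne'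
      rw [h3, he]
      push_cast
      rw [map_one]
      field_simp
      ring
    rw [Finset.sum_congr rfl fun i _ => h2 i] at h1
    have h3 : ((1 : ℝ) : ℂ) = ((1 / (Nat.card G : ℝ) + ∑ j, (u j : ℝ) / (1 + u j * e j) : ℝ) : ℂ) := by
      rw [Complex.ofReal_add, Complex.ofReal_sum, Complex.ofReal_one, h1]
      congr 1
      simp
    exact_mod_cast h3

end CfsgLib.Coh
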