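import Cfsg.Agent.EqBase
import Cfsg.Agent.LibCNOdd4
import Cfsg.Agent.LibCoh20
import Cfsg.Agent.LibFrobNil16
/-!
# The CN theorem for odd order (helper16)
-/
set_option autoImplicit false
set_option linter.all false
open Cfsg
open scoped commutatorElement Pointwise
namespace CfsgLib.CNOdd

universe u
variable {G : Type u} [Group G] [Finite G]

theorem card_smul' (g : G) (H : Subgroup G) : Nat.card (MulAut.conj g • H : Subgroup G) = Nat.card H :=
  Nat.card_congr (Subgroup.equivSMul (MulAut.conj g) H).symm.toEquiv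

theorem Hyp.false (D : Hyp G) : False := by
  classical
  haveI := Fintype.ofFinite G
  haveI := D.hsimp
  have hS : ∀ p : ℕ, ∃ P : Subgroup G, p.Prime → ∃ Q : Sylow p G, (Q : Subgroup G) = P := by
    intro p
    by_cases hp : p.Prime
    · haveI := Fact.mk hp
      obtain ⟨Q⟩ : Nonempty (Sylow p G) := inferInstance
      exact ⟨Q, fun _ => ⟨Q, rfl⟩⟩
    · exact ⟨⊥, fun h => absurd h hp⟩
  choose P hPS using hS
  let ι := {p : ℕ // p ∈ (Nat.card G).primeFactors ∧ ∀ q ∈ (Nat.card (HH (P p))).primeFactors, p ≤ q}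
  haveI : Finite ι := by
    apply Finite.of_injective (f := fun i : ι => (⟨i.1, i.2.1⟩ : (Nat.card G).primeFactors))
    intro i j h
    exact Subtype.ext (congrArg (fun z : (Nat.card G).primeFactors => (z : ℕ)) h)
  haveI : Fintype ι := Fintype.ofFinite _
  have hprime : ∀ i : ι, (i : ℕ).Prime := fun i => Nat.prime_of_mem_primeFactors i.2.1
  have hPne : ∀ p : ℕ, p.Prime → p ∣ Nat.card G → P p ≠ ⊥ := by
    intro p hp hpd h
    haveI := Fact.mk hp
    obtain ⟨Q, hQ⟩ := hPS p hp
    have h1 := Q.card_eq_multiplicity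
    rw [hQ, h, Subgroup.card_bot] at h1
    have h2 : (Nat.card G).factorization p ≠ 0 := (hp.factorization_pos_of_dvd Nat.card_pos.ne' hpd).ne'
    have h3 : 1 < p ^ (Nat.card G).factorization p := Nat.one_lt_pow h2 hp.one_lt
    omega
  have hdvd : ∀ i : ι, (i : ℕ) ∣ Nat.card G := fun i => Nat.dvd_of_mem_primeFactors i.2.1
  have hpdH : ∀ p : ℕ, p.Prime → p ∣ Nat.card G → p ∈ (Nat.card (HH (P p))).primeFactors := by
    intro p hp hpd
    haveI := Fact.mk hp
    rw [Nat.mem_primeFactors]
    refine ⟨hp, ?_, Nat.card_pos.ne'⟩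
    obtain ⟨Q, hQ⟩ := hPS p hp
    have h1 : p ∣ Nat.card (P p) := by
      rw [← hQ, Q.card_eq_multiplicity]
      exact dvd_pow_self p (hp.factorization_pos_of_dvd Nat.card_pos.ne' hpd).ne'
    exact h1.trans (Subgroup.card_dvd_of_le le_sup_left)
  -- conjugacy of the `HH` subgroups
  have hconj : ∀ p q : ℕ, p.Prime → q.Prime → p ∣ Nat.card G → q ∣ Nat.card (HH (P p)) → ∃ g : G, HH (P q) = MulAut.conj g • HH (P p) := by
    intro p q hp hq hpd hqd
    haveI := Fact.mk hp
    haveI := Fact.mk hq
    obtain ⟨Q, hQ⟩ := hPS p hp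
    obtain ⟨R, hR⟩ := hPS q hq
    obtain ⟨⟨t, ht⟩, hto⟩ := exists_prime_orderOf_dvd_card' q hqd
    rw [Subgroup.orderOf_mk] at hto
    have hQne : (Q : Subgroup G) ≠ ⊥ := by rw [hQ]; exact hPne p hp hpd
    obtain ⟨R', hR't, hR'⟩ := D.exists_Q Q hQne (by rw [hQ]; exact ht) hto
    obtain ⟨g, hg⟩ := MulAction.exists_smul_eq G R' R
    refine ⟨g, ?_⟩
    rw [← hR, ← hg, ← hQ, ← hR', ← HH_conj]
    rfl
  have hcardeq : ∀ p q : ℕ, p.Prime → q.Prime → p ∣ Nat.card G → q ∣ Nat.card (HH (P p)) → Nat.card (HH (P q)) = Nat.card (HH (P p)) := by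
    intro p q hp hq hpd hqd
    obtain ⟨g, hg⟩ := hconj p q hp hq hpd hqd
    rw [hg, card_smul']
  let H : ι → Subgroup G := fun i => HH (P i)
  let L : ι → Subgroup G := fun i => Subgroup.normalizer (HH (P i) : Set G)
  have hcop : ∀ i j : ι, i ≠ j → Nat.Coprime (Nat.card (H i)) (Nat.card (H j)) := by
    intro i j hij
    rw [Nat.coprime_iff_gcd_eq_one]
    by_contra hne
    obtain ⟨q, hq, hqd⟩ := Nat.exists_prime_and_dvd hne
    have h1 := hcardeq i q (hprime i) hq (hdvd i) (hqd.trans (Nat.gcd_dvd_left _ _))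
    have h2 := hcardeq j q (hprime j) hq (hdvd j) (hqd.trans (Nat.gcd_dvd_right _ _))
    have h3 : Nat.card (HH (P i)) = Nat.card (HH (P j)) := h1.symm.trans h2
    apply hij
    apply Subtype.ext
    apply le_antisymm
    · apply i.2.2
      rw [h3]; exact hpdH j (hprime j) (hdvd j)
    · apply j.2.2
      rw [← h3]; exact hpdH i (hprime i) (hdvd i)
  have hcover : ∀ g : G, g ≠ 1 → ∃ i, ∃ x : G, x * g * x⁻¹ ∈ H i := by
    intro g hg
    obtain ⟨r, k, hr, hrk⟩ := exists_pow_prime hg
    haveI := Fact.mk hr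
    have hrd : r ∣ Nat.card G := by rw [← hrk]; exact orderOf_dvd_natCard _
    have hgk1 : g ^ k ≠ 1 := by
      intro h
      rw [h, orderOf_one] at hrk
      exact hr.one_lt.ne hrk
    -- the Sylow subgroup containing `g ^ k`
    have h1 : IsPGroup r (Subgroup.zpowers (g ^ k)) := by
      rw [IsPGroup.iff_card, Nat.card_zpowers, hrk]
      exact ⟨1, (pow_one r).symm⟩
    obtain ⟨Q, hQ⟩ := h1.exists_le_sylow
    have hgQ := hQ (Subgroup.mem_zpowers _)
    have hgH : g ∈ HH (Q : Subgroup G) := by
      apply D.cent_le_HH Q hgQ hgk1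
      exact Subgroup.mem_centralizer_singleton_iff.mpr (Commute.pow_right (Commute.refl g) k).eq
    obtain ⟨Q', hQ'⟩ := hPS r hr
    obtain ⟨x, hx⟩ := MulAction.exists_smul_eq G Q Q'
    have h2 : HH (P r) = MulAut.conj x • HH (Q : Subgroup G) := by
      rw [← hQ', ← hx, ← HH_conj]; rfl
    -- the smallest prime
    obtain ⟨p, hpm, hpmin⟩ := Finset.exists_min_image (Nat.card (HH (P r))).primeFactors id ⟨r, hpdH r hr hrd⟩
    have hp := Nat.prime_of_mem_primeFactors hpm
    obtain ⟨y, hy⟩ := hconj r p hr hp hrd (Nat.dvd_of_mem_primeFactors hpm)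
    have hpc := hcardeq r p hr hp hrd (Nat.dvd_of_mem_primeFactors hpm)
    refine ⟨⟨p, ?_, ?_⟩, y * x, ?_⟩
    · rw [Nat.mem_primeFactors]
      exact ⟨hp, (Nat.dvd_of_mem_primeFactors hpm).trans (Subgroup.card_subgroup_dvd_card _), Nat.card_pos.ne'⟩
    · intro q hq
      rw [hpc] at hq
      exact hpmin q hq
    · show y * x * g * (y * x)⁻¹ ∈ HH (P p)
      rw [hy, h2]
      refine ⟨x * g * x⁻¹, ⟨g, hgH, rfl⟩, ?_⟩
      show y * (x * g * x⁻¹) * y⁻¹ = _
      group
  haveI : Nonempty ι := by
    haveI := D.hsimp.toNontrivial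
    obtain ⟨g, hg⟩ := exists_ne (1 : G)
    obtain ⟨i, -⟩ := hcover g hg
    exact ⟨i⟩
  refine CfsgLib.Coh.no_cover (ι := ι) (H := H) (L := L) D.hodd (fun i => ?_) hcop hcover
  haveI := Fact.mk (hprime i)
  obtain ⟨Q, hQ⟩ := hPS i (hprime i)
  have hQne : (Q : Subgroup G) ≠ ⊥ := by rw [hQ]; exact hPne i (hprime i) (hdvd i)
  have hHi : H i = HH (Q : Subgroup G) := by show HH (P i) = _; rw [hQ]
  have hLi : L i = Subgroup.normalizer (HH (Q : Subgroup G) : Set G) := by show Subgroup.normalizer (HH (P i) : Set G) = _; rw [hQ]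
  rw [hHi, hLi]
  refine CfsgLib.Coh.odd'_of_ti (Odd.of_dvd_nat D.hodd (Subgroup.card_subgroup_dvd_card _)) (D.HH_lt Q hQne) ?_ ?_ ?_ ?_ rfl
  · intro h
    apply hQne
    rw [eq_bot_iff, ← h]; exact le_sup_left
  · intro x hx h hh
    exact (Subgroup.mem_normalizer_iff.mp hx h).mp hh
  · intro h hh hh1 x hx hxh
    exact D.HH_cent Q hQne hh hh1 (Subgroup.mem_centralizer_singleton_iff.mpr hxh)
  · intro g hg x hx h
    by_contra hx1
    exact hg (D.HH_ti Q hQne hx hx1 h)

/-- **the CN theorem** for groups of odd order -/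
theorem main (n : ℕ) : ∀ (G : Type u) [Group G] [Finite G], Nat.card G = n → Odd (Nat.card G) → IsCNGroup G → Group.IsSolvable G := by
  induction n using Nat.strong_induction_on with
  | _ n ih =>
  intro G _ _ hcard hodd hCN
  by_contra hns
  have hprop : ∀ K : Subgroup G, K ≠ ⊤ → Group.IsSolvable K := by
    intro K hK
    have h1 : Nat.card K < n := by
      rw [← hcard]
      exact lt_of_le_of_ne (Nat.le_of_dvd Nat.card_pos (Subgroup.card_subgroup_dvd_card K)) (fun h => hK (Subgroup.eq_top_of_card_eq K h))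
    exact ih _ h1 K rfl (Odd.of_dvd_nat hodd (Subgroup.card_subgroup_dvd_card K)) (cn_sub hCN K)
  -- no nontrivial solvable normal subgroups
  have hnosolv : ∀ N : Subgroup G, N.Normal → Group.IsSolvable N → N = ⊥ := by
    intro N hN hNs
    by_contra hN1
    haveI := hN
    haveI := hNs
    obtain ⟨V, p, hp, hmin, hVN, hVcomm, hVexp, hVp⟩ := CfsgLib.SolvMin.exists_minNormal_pgroup_of_solvable' N hN1
    haveI := Fact.mk hp
    have hVn : V.Normal := hmin.1
    have hV1 : V ≠ ⊥ := hmin.2.1
    have hVc : ∀ a ∈ V, ∀ b ∈ V, a * b = b * a := by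
      intro a ha b hb
      exact congrArg Subtype.val (hVcomm.is_comm.comm ⟨a, ha⟩ ⟨b, hb⟩)
    apply hns
    by_cases hCp : IsPGroup p (Subgroup.centralizer (V : Set G))
    · set C := Subgroup.centralizer (V : Set G) with hC
      have hCn : C.Normal := inferInstance
      have hVC : V ≤ C := by
        intro a ha
        rw [hC, Subgroup.mem_centralizer_iff]
        intro b hb
        exact hVc b hb a ha
      have h1 : Nat.card (G ⧸ C) < n := by
        rw [← hcard, ← Subgroup.index_eq_card, ← Subgroup.card_mul_index C]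
        have h2 : 1 < Nat.card C := by
          by_contra h
          push Not at h
          have h3 : C = ⊥ := Subgroup.card_eq_one.mp (le_antisymm h Nat.card_pos)
          rw [h3, le_bot_iff] at hVC
          exact hV1 hVC
        have h3 : 0 < C.index := Nat.pos_of_ne_zero Subgroup.index_ne_zero_of_finite
        nlinarith
      have h2 : Group.IsSolvable (G ⧸ C) := ih _ h1 (G ⧸ C) rfl (by
        rw [← Subgroup.index_eq_card]
        exact Odd.of_dvd_nat hodd (Subgroup.index_dvd_card C)) (cn_quot hCN hVn hV1 hVc hp hVp hCp)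
      haveI := h2
      haveI : Group.IsSolvable C := by
        haveI := hCp.isNilpotent
        infer_instance
      exact Group.isSolvable_of_ker_le_range C.subtype (QuotientGroup.mk' C) (by rw [QuotientGroup.ker_mk', Subgroup.range_subtype])
    · obtain ⟨P⟩ : Nonempty (Sylow p G) := inferInstance
      have hPn := sylow_normal hCN hVn hV1 hVp hCp P
      haveI := hPn
      have hPne : (P : Subgroup G) ≠ ⊥ := by
        intro h
        apply hV1
        rw [eq_bot_iff, ← h]
        exact CfsgLib.Cores.normal_le_sylow hVn hVp P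
      obtain ⟨K, hK⟩ := Subgroup.exists_right_complement'_of_coprime (N := (P : Subgroup G)) P.card_coprime_index
      have hKt : K ≠ ⊤ := by
        rintro rfl
        apply hPne
        have h1 := hK.disjoint
        rwa [disjoint_iff, inf_top_eq] at h1
      haveI : Group.IsSolvable K := hprop K hKt
      haveI : Group.IsSolvable (G ⧸ (P : Subgroup G)) := by
        have e := hK.symm.QuotientMulEquiv
        exact Group.isSolvable_of_isSolvable_injective (f := e.toMonoidHom) e.injective
      haveI : Group.IsSolvable (P : Subgroup G) := by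
        haveI : Group.IsNilpotent P := P.isPGroup'.isNilpotent
        infer_instance
      exact Group.isSolvable_of_ker_le_range (P : Subgroup G).subtype (QuotientGroup.mk' (P : Subgroup G)) (by rw [QuotientGroup.ker_mk', Subgroup.range_subtype])
  haveI : Nontrivial G := by
    by_contra h
    rw [not_nontrivial_iff_subsingleton] at h
    apply hns
    exact Group.isSolvable_of_comm (fun a b => Subsingleton.elim _ _)
  have hsimp : IsSimpleGroup G := by
    constructor
    intro N hN
    by_cases h : N = ⊤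
    · right; exact h
    · left; exact hnosolv N hN (hprop N h)
  exact (Hyp.mk hodd hCN hprop hsimp hns).false

end CfsgLib.CNOdd
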