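import Cfsg.Agent.LibSolvHall
import Cfsg.Agent.LibSolvMin
import Cfsg.Agent.LibFgClass

/-! Counting Hall subgroups of solvable groups (P. Hall). -/

open Subgroup Pointwise

namespace CfsgLib.FgHallCnt

universe u
variable {G : Type u} [Group G]

theorem exists_normal_prime_index {H : Type*} [Group H] [Finite H] [Group.IsSolvable H] [Nontrivial H] :
    ∃ (A : Subgroup H) (r : ℕ), A.Normal ∧ r.Prime ∧ A.index = r := by
  have h1 : commutator H < ⊤ := Group.IsSolvable.commutator_lt_top_of_nontrivial (G := H)
  obtain ⟨M, hM, hle⟩ := (eq_top_or_exists_le_coatom (commutator H)).resolve_left h1.ne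
  have hn : M.Normal := by
    constructor
    intro n hn g
    have h2 : g * n * g⁻¹ = (g * n * g⁻¹ * n⁻¹) * n := by group
    rw [h2]
    exact M.mul_mem (hle (commutator_mem_commutator (mem_top g) (mem_top n))) hn
  have hcard : Nat.card (H ⧸ M) ≠ 1 := by
    intro h
    exact hM.1 (index_eq_one.1 h)
  obtain ⟨r, hr, hdvd⟩ := Nat.exists_prime_and_dvd hcard
  haveI : Fact r.Prime := ⟨hr⟩
  obtain ⟨x, hx⟩ := exists_prime_orderOf_dvd_card' r hdvd
  refine ⟨M, r, hn, hr, ?_⟩
  have h2 : (zpowers x).comap (QuotientGroup.mk' M) = ⊤ := by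
    apply hM.2
    refine lt_of_le_of_ne ?_ ?_
    · intro m hm
      rw [mem_comap]
      have : QuotientGroup.mk' M m = 1 := (QuotientGroup.eq_one_iff m).2 hm
      rw [this]
      exact one_mem _
    · intro h
      obtain ⟨y, rfl⟩ := QuotientGroup.mk'_surjective M x
      have h3 : y ∈ M := by
        rw [h, mem_comap]
        exact mem_zpowers _
      have h4 : QuotientGroup.mk' M y = 1 := (QuotientGroup.eq_one_iff y).2 h3
      rw [h4, orderOf_one] at hx
      exact hr.one_lt.ne hx
  have h3 : zpowers x = ⊤ := by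
    have := congrArg (Subgroup.map (QuotientGroup.mk' M)) h2
    rw [map_comap_eq_self_of_surjective (QuotientGroup.mk'_surjective M)] at this
    rw [this, ← MonoidHom.range_eq_map, MonoidHom.range_eq_top.2 (QuotientGroup.mk'_surjective M)]
  rw [index, ← hx, ← Nat.card_zpowers, h3, Subgroup.card_top]

/-- one step: the index of a centralizer of an `r`-element -/
theorem step [Finite G] {r : ℕ} [Fact r.Prime] {M : Subgroup G} (hM : IsMulCommutative M) {h : G}
    (hr : IsPGroup r (zpowers h)) (hn : h ∈ normalizer (M : Set G))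
    (hco : (Nat.card M).Coprime r) (hc : h ^ r ∈ centralizer (M : Set G)) :
    (M ⊓ centralizer ({h} : Set G)).relIndex M ≡ 1 [MOD r] := by
  have hcm : ∀ x ∈ M, ∀ y ∈ M, x * y = y * x := fun x hx y hy =>
    congrArg Subtype.val (hM.is_comm.comm (⟨x, hx⟩ : M) ⟨y, hy⟩)
  have hconj : ∀ x ∈ M, h * x * h⁻¹ ∈ M := fun x hx => (mem_normalizer_iff.1 hn x).1 hx
  let φ : M →* G :=
    { toFun := fun x => (x : G)⁻¹ * (h * x * h⁻¹)
      map_one' := by simp
      map_mul' := by
        intro x y
        have h1 : (h * (x : G) * h⁻¹) * (y : G)⁻¹ = (y : G)⁻¹ * (h * x * h⁻¹) :=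
          hcm _ (hconj _ x.2) _ (M.inv_mem y.2)
        have h2 : (x : G)⁻¹ * (y : G)⁻¹ = (y : G)⁻¹ * (x : G)⁻¹ := hcm _ (M.inv_mem x.2) _ (M.inv_mem y.2)
        change ((x : G) * y)⁻¹ * (h * (x * y) * h⁻¹) = ((x : G)⁻¹ * (h * x * h⁻¹)) * ((y : G)⁻¹ * (h * y * h⁻¹))
        calc ((x : G) * y)⁻¹ * (h * (x * y) * h⁻¹)
            = ((y : G)⁻¹ * (x : G)⁻¹) * (h * x * h⁻¹) * (h * y * h⁻¹) := by group
          _ = (x : G)⁻¹ * ((y : G)⁻¹ * (h * x * h⁻¹)) * (h * y * h⁻¹) := by rw [← h2]; group
          _ = (x : G)⁻¹ * ((h * x * h⁻¹) * (y : G)⁻¹) * (h * y * h⁻¹) := by rw [h1]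
          _ = _ := by group }
  have hφ : ∀ x : M, φ x = (x : G)⁻¹ * (h * x * h⁻¹) := fun _ => rfl
  have hker : φ.ker = (M ⊓ centralizer ({h} : Set G)).subgroupOf M := by
    ext x
    rw [MonoidHom.mem_ker, hφ, mem_subgroupOf, mem_inf, mem_centralizer_iff, inv_mul_eq_one]
    constructor
    · intro h1
      refine ⟨x.2, ?_⟩
      rintro _ rfl
      exact (eq_mul_inv_iff_mul_eq.1 h1).symm
    · rintro ⟨-, h1⟩
      have := h1 h rfl
      rw [eq_mul_inv_iff_mul_eq]; exact this.symm
  have hDM : φ.range ≤ M := by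
    rintro _ ⟨x, rfl⟩
    exact M.mul_mem (M.inv_mem x.2) (hconj _ x.2)
  have hDn : h ∈ normalizer (φ.range : Set G) := by
    rw [mem_normalizer_iff]
    have hle : ∀ y, y ∈ φ.range → h * y * h⁻¹ ∈ φ.range := by
      rintro _ ⟨x, rfl⟩
      refine ⟨⟨h * x * h⁻¹, hconj _ x.2⟩, ?_⟩
      rw [hφ, hφ]
      group
    have hmap : φ.range.map (MulAut.conj h).toMonoidHom = φ.range := by
      apply eq_of_le_of_card_ge
      · rintro _ ⟨y, hy, rfl⟩
        exact hle y hy
      · rw [card_map_of_injective (MulAut.conj h).injective]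
    intro y
    refine ⟨hle y, ?_⟩
    intro hy
    rw [← hmap] at hy
    obtain ⟨z, hz, hzy⟩ := hy
    have : y = z := by
      change h * z * h⁻¹ = h * y * h⁻¹ at hzy
      simpa using hzy.symm
    rw [this]; exact hz
  have hZ : zpowers h ≤ normalizer (φ.range : Set G) := by
    rw [zpowers_le]; exact hDn
  let f : zpowers h →* MulAut φ.range := (normalizerMonoidHom φ.range).comp (inclusion hZ)
  letI : MulAction (zpowers h) φ.range := MulAction.compHom φ.range f
  have hsm : ∀ (z : zpowers h) (y : φ.range), ((z • y : φ.range) : G) = (z : G) * y * (z : G)⁻¹ := fun _ _ => rfl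
  have hcount := hr.card_modEq_card_fixedPoints (φ.range)
  have hfix : Nat.card (MulAction.fixedPoints (zpowers h) φ.range) = 1 := by
    rw [Nat.card_eq_one_iff_unique]
    refine ⟨⟨?_⟩, ⟨⟨1, ?_⟩⟩⟩
    · have key : ∀ y : MulAction.fixedPoints (zpowers h) φ.range, ((y : φ.range) : G) = 1 := by
        rintro ⟨⟨_, ⟨x, rfl⟩⟩, hy⟩
        have h1 := congrArg Subtype.val (hy ⟨h, mem_zpowers h⟩)
        rw [hsm] at h1
        change h * (φ x) * h⁻¹ = φ x at h1
        change φ x = 1
        have hyM : φ x ∈ M := hDM ⟨x, rfl⟩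
        have hb : h * x * h⁻¹ = x * φ x := by rw [hφ]; group
        have h2 : ∀ i : ℕ, h ^ i * x * (h ^ i)⁻¹ = x * (φ x) ^ i := by
          intro i
          induction i with
          | zero => simp
          | succ i ih =>
            calc h ^ (i + 1) * x * (h ^ (i + 1))⁻¹ = h * (h ^ i * x * (h ^ i)⁻¹) * h⁻¹ := by
                  rw [pow_succ']; group
              _ = (h * x * h⁻¹) * (h * φ x * h⁻¹) ^ i := by
                  rw [ih, conj_pow]; group
              _ = x * (φ x) ^ (i + 1) := by rw [h1, hb, pow_succ']; group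
        have h3 := h2 r
        have h4 : h ^ r * x * (h ^ r)⁻¹ = x := by
          rw [mul_inv_eq_iff_eq_mul]
          exact (mem_centralizer_iff.1 hc x x.2).symm
        rw [h4, left_eq_mul] at h3
        have h5 : orderOf (φ x) ∣ r := orderOf_dvd_of_pow_eq_one h3
        have h6 : orderOf (φ x) ∣ Nat.card M := Subgroup.orderOf_dvd_natCard M hyM
        have h7 := Nat.dvd_gcd h6 h5
        rw [hco] at h7
        exact orderOf_eq_one_iff.1 (Nat.dvd_one.1 h7)
      intro a b
      apply Subtype.ext
      apply Subtype.ext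
      rw [key a, key b]
    · intro z
      apply Subtype.ext
      rw [hsm]
      simp
  rw [hfix] at hcount
  rw [relIndex, ← hker, index_ker]
  exact hcount

/-- the index of the centralizer of a coprime solvable group of automorphisms. -/
theorem cent_index [Finite G] {p : ℕ} (hp : p.Prime) {N : Subgroup G} (hN : IsMulCommutative N)
    (hNp : IsPGroup p N) (k : ℕ) : ∀ H : Subgroup G, Nat.card H = k → H ≤ normalizer (N : Set G) →
    Group.IsSolvable H → ¬ p ∣ Nat.card H →
    ∃ L : List ℕ, (N ⊓ centralizer (H : Set G)).relIndex N = L.prod ∧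
      ∀ x ∈ L, (∃ e, x = p ^ e) ∧ x ∣ Nat.card N ∧ ∃ r, r.Prime ∧ r ∣ Nat.card H ∧ x ≡ 1 [MOD r] := by
  induction k using Nat.strong_induction_on with
  | _ k ih =>
  intro H hk hHN hHs hpH
  rcases subsingleton_or_nontrivial H with hH | hH
  · refine ⟨[], ?_, by simp⟩
    have h1 : H = ⊥ := eq_bot_of_subsingleton H
    have h2 : N ⊓ centralizer (H : Set G) = N := by
      rw [h1]
      apply inf_eq_left.2
      intro x _
      rw [mem_centralizer_iff]
      intro y hy
      rw [mem_bot.1 (SetLike.mem_coe.1 hy)]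
      simp
    rw [h2, relIndex_self]
    rfl
  · obtain ⟨A', r, hA'n, hr, hA'i⟩ := exists_normal_prime_index (H := H)
    haveI : Fact r.Prime := ⟨hr⟩
    set A := A'.map H.subtype with hA
    have hAH : A ≤ H := map_subtype_le A'
    have hAs : A.subgroupOf H = A' := by
      rw [hA]; exact comap_map_eq_self_of_injective H.subtype_injective A'
    have hAi : A.relIndex H = r := by rw [relIndex, hAs, hA'i]
    have hcardA : Nat.card A * r = Nat.card H := by
      rw [← hAi]; exact CfsgLib.SolvHall.card_eq_card_mul_relIndex hAH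
    have hAlt : Nat.card A < k := by
      rw [← hk, ← hcardA]
      have := hr.one_lt
      have h0 : 0 < Nat.card A := Nat.card_pos
      nlinarith
    have hAsol : Group.IsSolvable A := by
      haveI := hHs
      exact Group.isSolvable_of_isSolvable_injective (Subgroup.inclusion_injective hAH)
    obtain ⟨L, hL, hL2⟩ := ih _ hAlt A rfl (hAH.trans hHN) hAsol
      (fun h => hpH (h.trans (Dvd.intro _ hcardA)))
    -- an `r`-element outside `A'`
    have hex : ∃ h ∈ H, h ∉ A ∧ IsPGroup r (zpowers h) := by
      obtain ⟨P⟩ : Nonempty (Sylow r H) := inferInstance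
      have h1 : ¬ (P : Subgroup H) ≤ A' := by
        intro h
        have h2 := index_dvd_of_le h
        rw [hA'i] at h2
        exact P.not_dvd_index h2
      obtain ⟨x, hxP, hxA⟩ := SetLike.not_le_iff_exists.1 h1
      refine ⟨x, x.2, ?_, ?_⟩
      · rintro ⟨y, hy, hyx⟩
        apply hxA
        rwa [show x = y from (Subtype.ext hyx).symm]
      · have h2 : IsPGroup r (zpowers x) := P.isPGroup'.to_le (by rw [zpowers_le]; exact hxP)
        have h3 : zpowers (x : G) = (zpowers x).map H.subtype := by
          rw [MonoidHom.map_zpowers]; rfl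
        rw [h3]
        exact h2.map _
    obtain ⟨h, hhH, hhA, hhr⟩ := hex
    set M := N ⊓ centralizer (A : Set G) with hM
    have hMN : M ≤ N := inf_le_left
    have hAnorm : h ∈ normalizer (A : Set G) := by
      have : H ≤ normalizer (A : Set G) := by
        rw [← normal_subgroupOf_iff_le_normalizer hAH, hAs]; exact hA'n
      exact this hhH
    have hMcomm : IsMulCommutative M := ⟨⟨fun a b => by
      have h0 := congrArg Subtype.val (hN.is_comm.comm (⟨a, hMN a.2⟩ : N) ⟨b, hMN b.2⟩)
      apply Subtype.ext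
      exact h0⟩⟩
    have hMnorm : h ∈ normalizer (M : Set G) := by
      have hN' := hHN hhH
      have hcent : ∀ g ∈ normalizer (A : Set G), ∀ y ∈ centralizer (A : Set G), g * y * g⁻¹ ∈ centralizer (A : Set G) := by
        intro g hg y hy
        rw [mem_centralizer_iff] at hy ⊢
        intro a ha
        have h1 : g⁻¹ * a * g ∈ A := (mem_normalizer_iff'.1 hg (g⁻¹ * a)).2 (by simpa [mul_assoc] using ha)
        have h2 := hy _ h1
        calc a * (g * y * g⁻¹) = g * ((g⁻¹ * a * g) * y) * g⁻¹ := by group
          _ = g * (y * (g⁻¹ * a * g)) * g⁻¹ := by rw [h2]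
          _ = g * y * g⁻¹ * a := by group
      rw [mem_normalizer_iff]
      intro y
      constructor
      · intro hy
        exact mem_inf.2 ⟨(mem_normalizer_iff.1 hN' y).1 (mem_inf.1 hy).1, hcent h hAnorm y (mem_inf.1 hy).2⟩
      · intro hy
        refine mem_inf.2 ⟨(mem_normalizer_iff.1 hN' y).2 (mem_inf.1 hy).1, ?_⟩
        have := hcent h⁻¹ (inv_mem hAnorm) _ (mem_inf.1 hy).2
        simpa [mul_assoc] using this
    have hMr : (Nat.card M).Coprime r := by
      have h1 : IsPGroup p M := hNp.to_le hMN
      haveI : Fact p.Prime := ⟨hp⟩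
      obtain ⟨a, ha⟩ := IsPGroup.iff_card.1 h1
      rw [ha]
      apply Nat.Coprime.pow_left
      rw [Nat.coprime_primes hp hr]
      rintro rfl
      exact hpH (Dvd.intro_left _ hcardA)
    have hpow : h ^ r ∈ centralizer (M : Set G) := by
      have h1 : h ^ r ∈ A := by
        have h2 : (⟨h, hhH⟩ : H) ^ r ∈ A' := by
          rw [← hA'i]
          exact A'.pow_index_mem _
        exact ⟨_, h2, rfl⟩
      rw [mem_centralizer_iff]
      intro m hm
      exact (mem_centralizer_iff.1 (mem_inf.1 hm).2 _ h1).symm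
    have hstep := step hMcomm hhr hMnorm hMr hpow
    -- `H` is generated by `A` and `h`
    have hgen : M ⊓ centralizer ({h} : Set G) = N ⊓ centralizer (H : Set G) := by
      apply le_antisymm
      · intro x hx
        obtain ⟨hx1, hx2⟩ := mem_inf.1 hx
        refine mem_inf.2 ⟨hMN hx1, ?_⟩
        have h1 : A ⊔ zpowers h = H := by
          apply le_antisymm (sup_le hAH (by rw [zpowers_le]; exact hhH))
          have h2 : (A ⊔ zpowers h).relIndex H ∣ r := by
            rw [← hAi]; exact relIndex_dvd_of_le_left H le_sup_left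
          rcases (Nat.dvd_prime hr).1 h2 with h3 | h3
          · exact relIndex_eq_one.1 h3
          · exfalso
            apply hhA
            have h4 := relIndex_mul_relIndex A (A ⊔ zpowers h) H le_sup_left
              (sup_le hAH (by rw [zpowers_le]; exact hhH))
            rw [h3, hAi] at h4
            have h5 : A.relIndex (A ⊔ zpowers h) = 1 :=
              Nat.eq_of_mul_eq_mul_right hr.pos (by rw [h4, one_mul])
            exact relIndex_eq_one.1 h5 (mem_sup_right (mem_zpowers h))
        have h2 : H ≤ centralizer ({x} : Set G) := by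
          rw [← h1]
          refine sup_le ?_ ?_
          · intro a ha
            rw [mem_centralizer_iff]
            rintro _ rfl
            exact (mem_centralizer_iff.1 (mem_inf.1 hx1).2 a ha).symm
          · rw [zpowers_le, mem_centralizer_iff]
            rintro _ rfl
            exact (mem_centralizer_iff.1 hx2 h rfl).symm
        rw [mem_centralizer_iff]
        intro y hy
        exact (mem_centralizer_iff.1 (h2 hy) x rfl).symm
      · intro x hx
        obtain ⟨hx1, hx2⟩ := mem_inf.1 hx
        refine mem_inf.2 ⟨mem_inf.2 ⟨hx1, ?_⟩, ?_⟩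
        · rw [mem_centralizer_iff]
          intro a ha
          exact mem_centralizer_iff.1 hx2 a (hAH ha)
        · rw [mem_centralizer_iff]
          rintro _ rfl
          exact mem_centralizer_iff.1 hx2 _ hhH
    refine ⟨(M ⊓ centralizer ({h} : Set G)).relIndex M :: L, ?_, ?_⟩
    · rw [List.prod_cons, ← hL, ← hgen]
      exact (relIndex_mul_relIndex _ _ _ inf_le_left hMN).symm
    · intro x hx
      rcases List.mem_cons.1 hx with rfl | hx
      · have hd : (M ⊓ centralizer ({h} : Set G)).relIndex M ∣ Nat.card N :=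
          (relIndex_dvd_card _ _).trans (card_dvd_of_le hMN)
        refine ⟨?_, hd, r, hr, Dvd.intro_left _ hcardA, hstep⟩
        haveI : Fact p.Prime := ⟨hp⟩
        obtain ⟨a, ha⟩ := IsPGroup.iff_card.1 hNp
        rw [ha] at hd
        obtain ⟨b, -, hb⟩ := (Nat.dvd_prime_pow hp).1 hd
        exact ⟨b, hb⟩
      · obtain ⟨h1, h2, s, hs, hs2, hs3⟩ := hL2 x hx
        exact ⟨h1, h2, s, hs, hs2.trans (Dvd.intro _ hcardA), hs3⟩

/-- the numbers occurring in Hall's theorem -/
def Good (G : Type u) [Group G] (m x : ℕ) : Prop :=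
  (∃ q e : ℕ, q.Prime ∧ x = q ^ e) ∧
    (∃ K L : Subgroup G, K.Normal ∧ L.Normal ∧ K < L ∧
      (∀ M : Subgroup G, M.Normal → K ≤ M → M ≤ L → M = K ∨ M = L) ∧ x ∣ K.relIndex L) ∧
    (∃ q : ℕ, q.Prime ∧ q ∣ m ∧ x ≡ 1 [MOD q])

theorem Good.lift {N : Subgroup G} [N.Normal] {m' m x : ℕ} (h : Good (G ⧸ N) m' x) (hm : m' ∣ m) :
    Good G m x := by
  obtain ⟨h1, ⟨K, L, hK, hL, hKL, hmin, hd⟩, q, hq, hqm, hx⟩ := h
  have hsurj := QuotientGroup.mk'_surjective N
  refine ⟨h1, ⟨K.comap (QuotientGroup.mk' N), L.comap (QuotientGroup.mk' N), hK.comap _, hL.comap _,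
    (comap_lt_comap_of_surjective hsurj).2 hKL, ?_, ?_⟩, q, hq, hqm.trans hm, hx⟩
  · intro M hM hKM hML
    have h2 : (M.map (QuotientGroup.mk' N)).comap (QuotientGroup.mk' N) = M := by
      rw [comap_map_eq, QuotientGroup.ker_mk']
      apply sup_eq_left.2
      refine le_trans ?_ hKM
      intro n hn
      rw [mem_comap]
      have : QuotientGroup.mk' N n = 1 := (QuotientGroup.eq_one_iff n).2 hn
      rw [this]
      exact one_mem _
    have hk1 : K ≤ M.map (QuotientGroup.mk' N) := by
      have := map_mono (f := QuotientGroup.mk' N) hKM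
      rwa [map_comap_eq_self_of_surjective hsurj] at this
    have hk2 : M.map (QuotientGroup.mk' N) ≤ L := by
      have := map_mono (f := QuotientGroup.mk' N) hML
      rwa [map_comap_eq_self_of_surjective hsurj] at this
    rcases hmin (M.map (QuotientGroup.mk' N)) (hM.map _ hsurj) hk1 hk2 with h3 | h3
    · left; rw [← h2, h3]
    · right; rw [← h2, h3]
  · rw [relIndex_comap, map_comap_eq_self_of_surjective hsurj]
    exact hd

theorem main (k : ℕ) : ∀ (G : Type u) [Group G] [Finite G] [Group.IsSolvable G], Nat.card G = k →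
    ∀ H : Subgroup G, (Nat.card H).Coprime H.index →
    ∃ L : List ℕ, (normalizer (H : Set G)).index = L.prod ∧ ∀ x ∈ L, Good G (Nat.card H) x := by
  induction k using Nat.strong_induction_on with
  | _ k ih =>
  intro G _ _ _ hk H hco
  rcases subsingleton_or_nontrivial G with hG | hG
  · refine ⟨[], ?_, by simp⟩
    have : normalizer (H : Set G) = ⊤ := Subsingleton.elim _ _
    rw [this, index_top]; rfl
  obtain ⟨N, p, hp, hNmin, -, hNcomm, hNexp, hNp⟩ :=
    CfsgLib.SolvMin.exists_minNormal_pgroup_of_solvable (⊤ : Subgroup G) (by exact top_ne_bot)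
  obtain ⟨hNn, hNbot, hNm⟩ := hNmin
  haveI : Fact p.Prime := ⟨hp⟩
  have hsurj := QuotientGroup.mk'_surjective N
  have hcardq : Nat.card (G ⧸ N) < k := by
    have h1 := card_eq_card_quotient_mul_card_subgroup N
    rw [← hk, h1]
    have h2 : 1 < Nat.card N := one_lt_card_iff_ne_bot N |>.2 hNbot
    have h3 : 0 < Nat.card (G ⧸ N) := Nat.card_pos
    nlinarith
  obtain ⟨a, ha⟩ := IsPGroup.iff_card.1 hNp
  have hcm : ((H.map (QuotientGroup.mk' N)).comap (QuotientGroup.mk' N)) = H ⊔ N := by
    rw [comap_map_eq, QuotientGroup.ker_mk']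
  have hix : (H.map (QuotientGroup.mk' N)).index = (H ⊔ N).index := by
    rw [← hcm, index_comap_of_surjective _ hsurj]
  have hnorm : (normalizer ((H.map (QuotientGroup.mk' N) : Subgroup (G ⧸ N)) : Set (G ⧸ N))).index
      = (normalizer ((H ⊔ N : Subgroup G) : Set G)).index := by
    rw [← hcm, ← comap_normalizer_eq_of_surjective _ hsurj, index_comap_of_surjective _ hsurj]
  have hcdvd : Nat.card (H.map (QuotientGroup.mk' N)) ∣ Nat.card H := card_map_dvd _ _
  obtain ⟨L, hL, hL2⟩ := ih _ hcardq (G ⧸ N) rfl (H.map (QuotientGroup.mk' N)) (by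
    rw [hix]
    exact Nat.Coprime.coprime_dvd_left hcdvd
      (Nat.Coprime.coprime_dvd_right (index_dvd_of_le le_sup_left) hco))
  rw [hnorm] at hL
  by_cases hNH : N ≤ H
  · rw [sup_eq_left.2 hNH] at hL
    exact ⟨L, hL, fun x hx => (hL2 x hx).lift hcdvd⟩
  · have hpH : ¬ p ∣ Nat.card H := by
      intro h
      apply hNH
      apply CfsgLib.FgClass.normal_le_of_coprime_index
      rw [ha]
      apply Nat.Coprime.pow_left
      rw [hp.coprime_iff_not_dvd]
      intro h2
      have := Nat.dvd_gcd h h2
      rw [hco] at this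
      exact hp.one_lt.ne' (Nat.dvd_one.1 this)
    have hcopN : (Nat.card N).Coprime (Nat.card H) := by
      rw [ha]
      apply Nat.Coprime.pow_left
      rwa [hp.coprime_iff_not_dvd]
    have hinf : N ⊓ H = ⊥ := inf_eq_bot_of_coprime hcopN
    have hHs : Group.IsSolvable H := Group.isSolvable_of_isSolvable_injective H.subtype_injective
    obtain ⟨L', hL', hL'2⟩ := cent_index hp hNcomm hNp _ H rfl
      (by rw [normalizer_eq_top]; exact le_top) hHs hpH
    -- Frattini
    have hfrat : normalizer ((H ⊔ N : Subgroup G) : Set G) = normalizer (H : Set G) ⊔ N := by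
      apply le_antisymm
      · intro g hg
        have h1 : MulAut.conj g • H ≤ H ⊔ N := by
          rintro _ ⟨y, hy, rfl⟩
          exact (mem_normalizer_iff.1 hg y).1 (mem_sup_left hy)
        have hcs : Nat.card (N ⊔ H : Subgroup G) = Nat.card N * Nat.card H := by
          have := CfsgLib.SolvBasic.card_sup_of_normal N H
          rwa [hinf, Subgroup.card_bot, mul_one] at this
        have h2 : Nat.card H = N.relIndex (H ⊔ N) := by
          symm
          apply CfsgLib.SolvHall.relIndex_eq_of_card_mul le_sup_right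
          rw [sup_comm, hcs]
        obtain ⟨l, hl, hlH⟩ := CfsgLib.SolvHall.sz_conj_in_subgroup N (H ⊔ N) le_sup_right
          (by rw [normalizer_eq_top]; exact le_top) (by rw [← h2]; exact hcopN)
          (Group.isSolvable_of_isSolvable_injective N.subtype_injective)
          (MulAut.conj g • H) H h1 le_sup_left (by rw [← h2]; exact CfsgLib.SolvBasic.card_conj_smul g H) h2
        have h3 : l * g ∈ normalizer (H : Set G) := by
          rw [mem_normalizer_iff]
          intro y
          have h4 : MulAut.conj (l * g) • H = H := by rw [map_mul, mul_smul, hlH]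
          constructor
          · intro hy
            rw [← h4]
            exact ⟨y, hy, rfl⟩
          · intro hy
            rw [← h4] at hy
            obtain ⟨z, hz, hzy⟩ := hy
            change l * g * z * (l * g)⁻¹ = l * g * y * (l * g)⁻¹ at hzy
            have : z = y := by simpa using hzy
            rw [← this]; exact hz
        have h5 : H ⊔ N ≤ normalizer (H : Set G) ⊔ N := sup_le_sup_right le_normalizer N
        have h6 : g = l⁻¹ * (l * g) := by group
        rw [h6]
        exact mul_mem (inv_mem (h5 hl)) (mem_sup_left h3)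
      · refine sup_le ?_ (le_sup_right.trans le_normalizer)
        intro g hg
        rw [mem_normalizer_iff]
        have key : ∀ g ∈ normalizer (H : Set G), ∀ y ∈ H ⊔ N, g * y * g⁻¹ ∈ H ⊔ N := by
          intro g hg y hy
          rw [mem_sup_of_normal_right] at hy
          obtain ⟨u, hu, v, hv, rfl⟩ := hy
          have : g * (u * v) * g⁻¹ = (g * u * g⁻¹) * (g * v * g⁻¹) := by group
          rw [this]
          exact mul_mem (mem_sup_left ((mem_normalizer_iff.1 hg u).1 hu)) (mem_sup_right (hNn.conj_mem v hv g))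
        intro y
        refine ⟨key g hg y, ?_⟩
        intro hy
        have := key g⁻¹ (inv_mem hg) _ hy
        simpa [mul_assoc] using this
    have hNC : N ⊓ normalizer (H : Set G) = N ⊓ centralizer (H : Set G) := by
      apply le_antisymm
      · intro n hn
        obtain ⟨hn1, hn2⟩ := mem_inf.1 hn
        refine mem_inf.2 ⟨hn1, ?_⟩
        rw [mem_centralizer_iff]
        intro h hh
        have h1 : n * h * n⁻¹ * h⁻¹ ∈ H := H.mul_mem ((mem_normalizer_iff.1 hn2 h).1 hh) (H.inv_mem hh)
        have h2 : n * h * n⁻¹ * h⁻¹ ∈ N := by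
          have : n * h * n⁻¹ * h⁻¹ = n * (h * n⁻¹ * h⁻¹) := by group
          rw [this]
          exact N.mul_mem hn1 (hNn.conj_mem _ (N.inv_mem hn1) h)
        have h3 : n * h * n⁻¹ * h⁻¹ = 1 := by
          have : n * h * n⁻¹ * h⁻¹ ∈ N ⊓ H := mem_inf.2 ⟨h2, h1⟩
          rwa [hinf, mem_bot] at this
        rw [mul_inv_eq_one, mul_inv_eq_iff_eq_mul] at h3
        exact h3.symm
      · exact inf_le_inf_left N (centralizer_le_normalizer _)
    have hrel : (normalizer (H : Set G)).relIndex (normalizer (H : Set G) ⊔ N) =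
        (N ⊓ normalizer (H : Set G)).relIndex N := by
      have e1 := CfsgLib.SolvBasic.card_sup_of_normal N (normalizer (H : Set G))
      have e2 := CfsgLib.SolvHall.card_eq_card_mul_relIndex
        (le_sup_left : normalizer (H : Set G) ≤ normalizer (H : Set G) ⊔ N)
      have e3 := CfsgLib.SolvHall.card_eq_card_mul_relIndex
        (inf_le_left : N ⊓ normalizer (H : Set G) ≤ N)
      have e4 : (N ⊔ normalizer (H : Set G) : Subgroup G) = normalizer (H : Set G) ⊔ N := sup_comm _ _
      rw [e4, ← e2, ← e3] at e1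
      have p1 : 0 < Nat.card (normalizer (H : Set G)) := Nat.card_pos
      have p2 : 0 < Nat.card (N ⊓ normalizer (H : Set G) : Subgroup G) := Nat.card_pos
      apply Nat.eq_of_mul_eq_mul_left (Nat.mul_pos p1 p2)
      linarith
    refine ⟨L' ++ L, ?_, ?_⟩
    · rw [List.prod_append, ← hL', ← hL, hfrat, ← hNC, ← hrel]
      exact (relIndex_mul_index le_sup_left).symm
    · intro x hx
      rcases List.mem_append.1 hx with hx | hx
      · obtain ⟨⟨e, he⟩, h2, h3⟩ := hL'2 x hx
        refine ⟨⟨p, e, hp, he⟩, ⟨⊥, N, inferInstance, hNn, bot_lt_iff_ne_bot.2 hNbot, ?_, ?_⟩, h3⟩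
        · intro M hM _ hMN
          exact hNm M hM hMN
        · rw [relIndex_bot_left]; exact h2
      · exact (hL2 x hx).lift hcdvd

/-- the number of conjugates -/
theorem card_conjugates [Finite G] (m : ℕ) (H : Subgroup G) (hH : Nat.card H = m)
    (hc : ∀ K : Subgroup G, Nat.card K = m → ∃ g : G, MulAut.conj g • H = K) :
    Nat.card {K : Subgroup G // Nat.card K = m} = (normalizer (H : Set G)).index := by
  let f : G ⧸ (normalizer (H : Set G)) → {K : Subgroup G // Nat.card K = m} :=
    Quotient.lift (s := QuotientGroup.leftRel _) (fun g => ⟨MulAut.conj g • H, by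
      rw [CfsgLib.SolvBasic.card_conj_smul, hH]⟩) (by
      intro a b hab
      have hab' : a⁻¹ * b ∈ normalizer (H : Set G) := QuotientGroup.leftRel_apply.1 hab
      apply Subtype.ext
      change MulAut.conj a • H = MulAut.conj b • H
      have h1 : MulAut.conj (a⁻¹ * b) • H = H := by
        apply eq_of_le_of_card_ge
        · rintro _ ⟨y, hy, rfl⟩
          exact (mem_normalizer_iff.1 hab' y).1 hy
        · rw [CfsgLib.SolvBasic.card_conj_smul]
      have h2 : MulAut.conj b • H = MulAut.conj a • (MulAut.conj (a⁻¹ * b) • H) := by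
        rw [← mul_smul, ← map_mul]
        congr 2
        group
      rw [h2, h1])
  have hf : Function.Bijective f := by
    constructor
    · intro a b
      induction a using QuotientGroup.induction_on with
      | H a =>
      induction b using QuotientGroup.induction_on with
      | H b =>
      intro hab
      have h1 : MulAut.conj a • H = MulAut.conj b • H := congrArg Subtype.val hab
      rw [QuotientGroup.eq]
      have h2 : MulAut.conj (a⁻¹ * b) • H = H := by
        rw [map_mul, mul_smul, ← h1, ← mul_smul, ← map_mul, inv_mul_cancel, map_one, one_smul]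
      rw [mem_normalizer_iff]
      intro y
      constructor
      · intro hy
        rw [← h2]
        exact ⟨y, hy, rfl⟩
      · intro hy
        rw [← h2] at hy
        obtain ⟨z, hz, hzy⟩ := hy
        change (a⁻¹ * b) * z * (a⁻¹ * b)⁻¹ = (a⁻¹ * b) * y * (a⁻¹ * b)⁻¹ at hzy
        have : z = y := by simpa using hzy
        rw [← this]; exact hz
    · rintro ⟨K, hK⟩
      obtain ⟨g, hg⟩ := hc K hK
      exact ⟨QuotientGroup.mk g, Subtype.ext hg⟩
  rw [index, Nat.card_congr (Equiv.ofBijective f hf)]

end CfsgLib.FgHallCnt
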