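import Mathlib
import Cfsg.Prelude.Def_Solvable
import Cfsg.Agent.LibH13

set_option autoImplicit false

/-!
Elementary facts on Frobenius complements and kernels (helper13).
`Cfsg.IsFrobeniusComplement H`: centralizers, self-normalizing, `|H| ∣ |G:H| - 1`, Hall, kernel order.
-/

namespace CfsgLib.FrobH13

open Pointwise Subgroup CfsgLib.H13

variable {L : Type*} [Group L] [Finite L]

/-- centralizers of nontrivial elements of a Frobenius complement lie in the complement -/
theorem mem_of_commute {L : Type*} [Group L] {H : Subgroup L} (hH : Cfsg.IsFrobeniusComplement H) {x g : L}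
    (hx : x ∈ H) (hx1 : x ≠ 1) (hc : g * x = x * g) : g ∈ H := by
  by_contra hg
  have h1 := hH.2.2 g hg
  have : x ∈ H ⊓ (MulAut.conj g • H) := by
    refine mem_inf.mpr ⟨hx, ?_⟩
    rw [mem_conj_smul]
    have : g⁻¹ * x * g = x := by rw [mul_assoc, ← hc, inv_mul_cancel_left]
    rw [this]; exact hx
  rw [h1, mem_bot] at this
  exact hx1 this

theorem normalizer_eq {L : Type*} [Group L] {H : Subgroup L} (hH : Cfsg.IsFrobeniusComplement H) :
    normalizer (H : Set L) = H := by
  apply le_antisymm _ le_normalizer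
  intro g hg
  by_contra hgH
  have h1 := hH.2.2 g hgH
  have h2 : MulAut.conj g • H = H := by
    ext x
    rw [mem_conj_smul]
    rw [mem_normalizer_iff''] at hg
    exact (hg x).symm
  rw [h2, inf_idem] at h1
  exact hH.1 h1

/-- the action of `H` on `L ⧸ H`: only the base point is fixed by a nontrivial element. -/
theorem smul_mk_eq {L : Type*} [Group L] {H : Subgroup L} (hH : Cfsg.IsFrobeniusComplement H) {h : L} (hh : h ∈ H) (h1 : h ≠ 1)
    (g : L) (hg : (h • (g : L ⧸ H)) = (g : L ⧸ H)) : g ∈ H := by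
  have h2 : g⁻¹ * h * g ∈ H := by
    have h3 : ((h * g : L) : L ⧸ H) = (g : L ⧸ H) := hg
    rw [eq_comm, QuotientGroup.eq] at h3
    rwa [← mul_assoc] at h3
  by_contra hgH
  have h4 := hH.2.2 g hgH
  have : h ∈ H ⊓ (MulAut.conj g • H) := mem_inf.mpr ⟨hh, mem_conj_smul.mpr h2⟩
  rw [h4, mem_bot] at this
  exact h1 this

theorem card_dvd_index_sub_one {H : Subgroup L} (hH : Cfsg.IsFrobeniusComplement H) :
    Nat.card H ∣ H.index - 1 := by
  classical
  -- H acts freely on the complement of the base point
  let X : Set (L ⧸ H) := {x | x ≠ ((1 : L) : L ⧸ H)}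
  let S : SubMulAction H (L ⧸ H) :=
    { carrier := X
      smul_mem' := by
        rintro ⟨h, hh⟩ x hx
        intro hc
        apply hx
        have : x = h⁻¹ • ((1 : L) : L ⧸ H) := by
          rw [← hc]
          change x = h⁻¹ • (h • x)
          rw [inv_smul_smul]
        rw [this]
        change ((h⁻¹ * 1 : L) : L ⧸ H) = _
        rw [mul_one, QuotientGroup.eq]
        simpa using hh }
  have hfree : ∀ x : S, MulAction.stabilizer H x = ⊥ := by
    rintro ⟨x, hx⟩
    rw [eq_bot_iff]
    rintro ⟨h, hh⟩ hfix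
    rw [mem_bot]
    by_contra hne
    have hne' : h ≠ 1 := fun hc => hne (Subtype.ext hc)
    obtain ⟨g, rfl⟩ := QuotientGroup.mk_surjective x
    have h1 : (h • (g : L ⧸ H)) = (g : L ⧸ H) := congrArg Subtype.val (MulAction.mem_stabilizer_iff.mp hfix)
    have h2 := smul_mk_eq hH hh hne' g h1
    apply hx
    change (g : L ⧸ H) = _
    rw [eq_comm, QuotientGroup.eq]
    simpa using h2
  have hcard : Nat.card S = H.index - 1 := by
    have : Nat.card S + 1 = Nat.card (L ⧸ H) := by
      have h1 := Set.ncard_add_ncard_compl X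
      have h2 : (Xᶜ).ncard = 1 := by
        have : Xᶜ = {((1 : L) : L ⧸ H)} := by ext x; simp [X]
        rw [this, Set.ncard_singleton]
      rw [h2] at h1
      exact h1
    rw [Subgroup.index_eq_card, ← this]; rfl
  rw [← hcard]
  have e := MulAction.selfEquivSigmaOrbitsQuotientStabilizer H S
  rw [Nat.card_congr e]
  have : Fintype (Quotient (MulAction.orbitRel H S)) := Fintype.ofFinite _
  rw [Nat.card_sigma]
  apply Finset.dvd_sum
  intro i _
  rw [hfree]
  have : Nat.card (H ⧸ (⊥ : Subgroup H)) = Nat.card H := by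
    rw [← Subgroup.index_eq_card, Subgroup.index_bot]
  rw [this]

theorem coprime_card_index {H : Subgroup L} (hH : Cfsg.IsFrobeniusComplement H) :
    (Nat.card H).Coprime H.index := by
  have h1 := card_dvd_index_sub_one hH
  have h0 : 0 < H.index := Nat.pos_of_ne_zero H.index_ne_zero_of_finite
  have : (Nat.card H).Coprime (H.index - 1 + 1) := by
    obtain ⟨c, hc⟩ := h1
    rw [hc]
    rw [Nat.coprime_comm]
    simp
  rwa [Nat.sub_add_cancel h0] at this

/-- number of elements in the union of the conjugates minus identity -/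
theorem card_kernel {H : Subgroup L} (hH : Cfsg.IsFrobeniusComplement H) (K : Subgroup L)
    (hK : (K : Set L) = Cfsg.frobeniusKernel H) : Nat.card K = H.index := by
  classical
  -- elements outside K are pairs (gH, h≠1)
  have hmemK : ∀ x : L, x ∈ K ↔ (x = 1 ∨ ∀ g : L, x ∉ MulAut.conj g • H) := by
    intro x
    rw [← SetLike.mem_coe, hK]; rfl
  let f : (L ⧸ H) × {h : H // h ≠ 1} → {x : L // x ∉ K} := fun p =>
    ⟨p.1.out * (p.2.1 : L) * p.1.out⁻¹, by
      rw [hmemK]
      push Not
      refine ⟨?_, p.1.out, ?_⟩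
      · intro hc
        apply p.2.2
        apply Subtype.ext
        have : (p.2.1 : L) = 1 := by
          have h2 := congrArg (fun y => p.1.out⁻¹ * y * p.1.out) hc
          simpa [mul_assoc] using h2
        simpa using this
      · rw [mem_conj_smul]
        simp [mul_assoc]⟩
  have hf : Function.Bijective f := by
    constructor
    · rintro ⟨a, ⟨h, hh⟩⟩ ⟨b, ⟨k, hk⟩⟩ hab
      have h1 : a.out * (h : L) * a.out⁻¹ = b.out * (k : L) * b.out⁻¹ := congrArg Subtype.val hab
      have h2 : b.out⁻¹ * a.out ∈ H := by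
        by_contra hc
        have h3 := hH.2.2 _ hc
        have h4 : (k : L) ∈ H ⊓ (MulAut.conj (b.out⁻¹ * a.out) • H) := by
          refine mem_inf.mpr ⟨k.2, ?_⟩
          rw [mem_conj_smul]
          have : (b.out⁻¹ * a.out)⁻¹ * (k : L) * (b.out⁻¹ * a.out) = (h : L) := by
            have h5 : (k : L) = b.out⁻¹ * (a.out * (h : L) * a.out⁻¹) * b.out := by rw [h1]; group
            rw [h5]; group
          rw [this]; exact h.2
        rw [h3, mem_bot] at h4
        exact hk (Subtype.ext h4)
      have hab' : a = b := by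
        have : (b.out : L ⧸ H) = (a.out : L ⧸ H) := QuotientGroup.eq.mpr h2
        rw [QuotientGroup.out_eq', QuotientGroup.out_eq'] at this
        exact this.symm
      subst hab'
      have h3 : (h : L) = k := by
        have h2 := congrArg (fun y => a.out⁻¹ * y * a.out) h1
        simpa [mul_assoc] using h2
      have : h = k := Subtype.ext h3
      subst this
      rfl
    · rintro ⟨x, hx⟩
      rw [hmemK] at hx
      push Not at hx
      obtain ⟨hx1, g, hg⟩ := hx
      rw [mem_conj_smul] at hg
      obtain ⟨h, hh⟩ := QuotientGroup.mk_out_eq_mul H g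
      -- (g : L ⧸ H).out = g * h
      have h1 : (g * (h : L))⁻¹ * x * (g * h) ∈ H := by
        have : (g * (h : L))⁻¹ * x * (g * h) = (h : L)⁻¹ * (g⁻¹ * x * g) * h := by group
        rw [this]
        exact H.mul_mem (H.mul_mem (H.inv_mem h.2) hg) h.2
      refine ⟨((g : L ⧸ H), ⟨⟨(g * (h : L))⁻¹ * x * (g * h), h1⟩, ?_⟩), ?_⟩
      · intro hc
        have h2 := congrArg Subtype.val hc
        apply hx1
        have h3 := congrArg (fun y => (g * (h : L)) * y * (g * h)⁻¹) h2
        simpa [mul_assoc] using h3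
      · apply Subtype.ext
        simp only [f]
        rw [hh]
        group
  have hcard := Nat.card_congr (Equiv.ofBijective f hf)
  rw [Nat.card_prod] at hcard
  have h1 : Nat.card {h : H // h ≠ 1} + 1 = Nat.card H := by
    have h1 := Set.ncard_add_ncard_compl {h : H | h ≠ 1}
    have h2 : ({h : H | h ≠ 1}ᶜ).ncard = 1 := by
      have : {h : H | h ≠ 1}ᶜ = {1} := by ext x; simp
      rw [this, Set.ncard_singleton]
    rw [h2] at h1
    exact h1
  have h2 : Nat.card {x : L // x ∉ K} + Nat.card K = Nat.card L := by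
    have h1 := Set.ncard_add_ncard_compl (K : Set L)
    rw [add_comm] at h1
    exact h1
  have h3 : Nat.card H * H.index = Nat.card L := H.card_mul_index
  have h4 : Nat.card (L ⧸ H) = H.index := rfl
  rw [h4] at hcard
  have h5 : H.index * (Nat.card {h : H // h ≠ 1} + 1) = Nat.card L := by rw [h1, mul_comm]; exact h3
  rw [mul_add, hcard, mul_one] at h5
  omega

omit [Finite L] in
theorem kernel_normal {H : Subgroup L} (K : Subgroup L)
    (hK : (K : Set L) = Cfsg.frobeniusKernel H) : K.Normal := by
  have hmemK : ∀ x : L, x ∈ K ↔ (x = 1 ∨ ∀ g : L, x ∉ MulAut.conj g • H) := by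
    intro x
    rw [← SetLike.mem_coe, hK]; rfl
  refine ⟨fun x hx y => ?_⟩
  rw [hmemK] at hx ⊢
  rcases hx with rfl | hx
  · left; simp
  · right
    intro g hg
    apply hx (y⁻¹ * g)
    rw [mem_conj_smul] at hg ⊢
    have : (y⁻¹ * g)⁻¹ * x * (y⁻¹ * g) = g⁻¹ * (y * x * y⁻¹) * g := by group
    rw [this]; exact hg

omit [Finite L] in
theorem kernel_inf {H : Subgroup L} (K : Subgroup L)
    (hK : (K : Set L) = Cfsg.frobeniusKernel H) {x : L} (hx : x ∈ K) (hxH : x ∈ H) : x = 1 := by
  have hmemK : ∀ x : L, x ∈ K ↔ (x = 1 ∨ ∀ g : L, x ∉ MulAut.conj g • H) := by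
    intro x
    rw [← SetLike.mem_coe, hK]; rfl
  rw [hmemK] at hx
  rcases hx with h | h
  · exact h
  · exfalso
    apply h 1
    rw [mem_conj_smul]; simpa using hxH

end CfsgLib.FrobH13
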