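import Cfsg.Agent.LibH6ZasI
import Cfsg.Agent.LibFrobH13
import Cfsg.Agent.S0035

/-! Frobenius complements are fixed-point-free groups; the conjugation action on a normal
subgroup `2.A₄` or `2.A₅`. -/

set_option autoImplicit false
set_option synthInstance.maxSize 2000

namespace CfsgLib.H6Zas

open Subgroup

theorem IsFpf.of_injective {G G' : Type*} [Group G] [Group G'] (h : IsFpf G) (f : G' →* G)
    (hf : Function.Injective f) : IsFpf G' := by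
  obtain ⟨q, hq, n, ρ, hρ⟩ := h
  refine ⟨q, hq, n, ρ.comp f, fun g hg v hv => hρ (f g) ?_ v hv⟩
  intro h1
  exact hg (hf (by rw [h1, map_one]))

theorem IsFpf.sub {G : Type*} [Group G] (h : IsFpf G) (H : Subgroup G) : IsFpf H :=
  h.of_injective H.subtype H.subtype_injective

theorem isFpf_of_complement {L : Type*} [Group L] [Finite L] (H : Subgroup L) (hH : Cfsg.IsFrobeniusComplement H) :
    IsFpf H := by
  obtain ⟨N, hNk, hN, hc⟩ := Cfsg.Agent.S0035.result H hH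
  haveI := hN
  have hNbot : N ≠ ⊥ := by
    intro h0
    apply hH.2.1
    rw [eq_top_iff]
    have := hc.sup_eq_top
    rw [h0, bot_sup_eq] at this
    exact this.ge
  haveI : Nontrivial N := (Subgroup.nontrivial_iff_ne_bot N).mpr hNbot
  refine isFpf_of_action ((MulAut.conjNormal : L →* MulAut N).comp H.subtype) ?_
  intro g hg v hv
  by_contra hv1
  have h1 : (g : L) * v * (g : L)⁻¹ = v := by
    have := congrArg Subtype.val hv
    simpa [MulAut.conjNormal_apply] using this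
  have hg1 : (g : L) ≠ 1 := fun h => hg (Subtype.ext h)
  have h2 : (v : L) * g = g * v := by
    have h3 : (g : L) * v = v * g := by
      calc (g : L) * v = (g : L) * v * (g : L)⁻¹ * g := by group
        _ = v * g := by rw [h1]
    exact h3.symm
  have h3 := CfsgLib.FrobH13.mem_of_commute hH g.2 hg1 h2
  have h4 := CfsgLib.FrobH13.kernel_inf N hNk v.2 h3
  exact hv1 (Subtype.ext h4)

theorem isFpf_of_FC {G : Type*} [Group G]
    (hFC : ∃ (L : Type) (_ : Group L) (_ : Finite L) (H : Subgroup L), Cfsg.IsFrobeniusComplement H ∧ Nonempty (G ≃* H)) :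
    IsFpf G := by
  obtain ⟨L, _, _, H, hH, ⟨e⟩⟩ := hFC
  exact (isFpf_of_complement H hH).of_injective e.toMonoidHom e.injective

section wrap
variable {G : Type*} [Group G] [Finite G]

theorem IsFpf.zc (h : IsFpf G) {z : G} (hz : z * z = 1) (hz1 : z ≠ 1) : ZC z := by
  obtain ⟨q, hq, n, ρ, hρ⟩ := h
  exact zc_of_fpf hρ hz hz1

theorem IsFpf.comm_prime (h : IsFpf G) {p : ℕ} (hp : p.Prime)
    {c x : G} (hc : c ^ p = 1) (hc1 : c ≠ 1) (hx : x ^ p = 1) (hcx : c * x = x * c) : x ∈ zpowers c := by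
  obtain ⟨q, hq, n, ρ, hρ⟩ := h
  exact hρ.comm_prime hp hc hc1 hx hcx

theorem IsFpf.comm4 (h : IsFpf G) {x y z : G} (hz : z * z = 1) (hz1 : z ≠ 1) (hx : x * x = z)
    (hy : y * y = z) (hxy : x * y = y * x) : y = x ∨ y = x * z := by
  obtain ⟨q, hq, n, ρ, hρ⟩ := h
  exact hρ.comm4 hz hz1 hx hy hxy

theorem IsFpf.cyclic_odd (h : IsFpf G) {p : ℕ} (hp : p.Prime)
    (hp2 : p ≠ 2) (P : Subgroup G) (hP : IsPGroup p P) : IsCyclic P := by
  obtain ⟨q, hq, n, ρ, hρ⟩ := h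
  exact hρ.cyclic_odd hp hp2 P hP

theorem IsFpf.two_sub (h : IsFpf G)
    (P : Subgroup G) (hP : IsPGroup 2 P) : IsCyclic P ∨ ∃ n : ℕ, Nonempty (P ≃* QuaternionGroup (2 ^ n)) := by
  obtain ⟨q, hq, n, ρ, hρ⟩ := h
  exact hρ.two_sub P hP

theorem IsFpf.zgroup_of_two (h : IsFpf G) (h2 : ∀ P : Sylow 2 G, IsCyclic P) : IsZGroup G := by
  obtain ⟨q, hq, n, ρ, hρ⟩ := h
  exact hρ.zgroup_of_two h2

/-- an fpf group without elements of order four is a Z-group -/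
theorem IsFpf.zgroup_of_no4 (h : IsFpf G) (h4 : ∀ g : G, (g * g) * (g * g) = 1 → g * g = 1) : IsZGroup G := by
  apply h.zgroup_of_two
  intro P
  -- every element of P has square one
  have hsq : ∀ g ∈ (P : Subgroup G), g * g = 1 := by
    intro g hg
    obtain ⟨k, hk⟩ := P.isPGroup' ⟨g, hg⟩
    have hk' : g ^ 2 ^ k = 1 := congrArg Subtype.val hk
    clear hk
    induction k generalizing g with
    | zero => rw [pow_zero, pow_one] at hk'; rw [hk', one_mul]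
    | succ k ih =>
      have h1 : (g * g) * (g * g) = 1 := by
        apply ih (g * g) (mul_mem hg hg)
        rw [← pow_two, ← pow_mul, mul_comm, ← pow_succ]
        exact hk'
      exact h4 g h1
  by_cases hz : ∃ z ∈ (P : Subgroup G), z ≠ 1
  · obtain ⟨z, hzP, hz1⟩ := hz
    have Z := h.zc (hsq z hzP) hz1
    refine ⟨⟨⟨z, hzP⟩, ?_⟩⟩
    rintro ⟨g, hg⟩
    by_cases hg1 : g = 1
    · refine ⟨0, ?_⟩
      apply Subtype.ext
      simp [hg1]
    · refine ⟨1, ?_⟩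
      apply Subtype.ext
      simp [Z.uniq g (hsq g hg) hg1]
  · push Not at hz
    haveI : Subsingleton P := ⟨fun a b => Subtype.ext (by rw [hz a a.2, hz b b.2])⟩
    infer_instance

end wrap

/-! ### standard generators -/

def Ya {n : ℕ} (k : ℕ) (a b : Equiv.Perm (Fin n)) : Prop :=
  (T3 a ∧ T3 b) ∧ (a * b) ^ k = 1 ∧ a * b ≠ 1

instance {n : ℕ} (k : ℕ) (a b : Equiv.Perm (Fin n)) : Decidable (Ya k a b) := by
  unfold Ya T3; infer_instance

def a4 : Equiv.Perm (Fin 4) := Equiv.swap 0 1 * Equiv.swap 1 2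
def b4 : Equiv.Perm (Fin 4) := Equiv.swap 0 1 * Equiv.swap 1 3
def b5 : Equiv.Perm (Fin 5) := Equiv.swap 2 3 * Equiv.swap 3 4

structure SD {n : ℕ} (k : ℕ) (a0 b0 : Equiv.Perm (Fin n)) : Prop where
  ya : Ya k a0 b0
  ex : ∀ x y : Equiv.Perm (Fin n), Ya k x y → ∃ σ : Equiv.Perm (Fin n), σ * a0 * σ⁻¹ = x ∧ σ * b0 * σ⁻¹ = y
  un : ∀ σ : Equiv.Perm (Fin n), σ * a0 = a0 * σ → σ * b0 = b0 * σ → σ = 1
  gen : ∀ c : Equiv.Perm (Fin n), T3 c → c ∈ closure {a0, b0}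

theorem gen_of_words {n : ℕ} {a0 b0 : Equiv.Perm (Fin n)}
    (h : ∀ c : Equiv.Perm (Fin n), T3 c → ∃ i j k l m : Fin 3,
      c = a0 ^ (i : ℕ) * b0 ^ (j : ℕ) * a0 ^ (k : ℕ) * b0 ^ (l : ℕ) * a0 ^ (m : ℕ)) :
    ∀ c : Equiv.Perm (Fin n), T3 c → c ∈ closure {a0, b0} := by
  intro c hc
  obtain ⟨i, j, k, l, m, rfl⟩ := h c hc
  have ha : a0 ∈ closure {a0, b0} := subset_closure (by simp)
  have hb : b0 ∈ closure {a0, b0} := subset_closure (by simp)
  exact mul_mem (mul_mem (mul_mem (mul_mem (pow_mem ha _) (pow_mem hb _)) (pow_mem ha _)) (pow_mem hb _))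
    (pow_mem ha _)

theorem sd4_ya : Ya 2 a4 b4 := by decide +kernel
theorem sd4_ex : ∀ x : Equiv.Perm (Fin 4), T3 x → ∀ y : Equiv.Perm (Fin 4), Ya 2 x y →
    ∃ σ : Equiv.Perm (Fin 4), σ * a4 * σ⁻¹ = x ∧ σ * b4 * σ⁻¹ = y := by decide +kernel
theorem sd4_un : ∀ σ : Equiv.Perm (Fin 4), σ * a4 = a4 * σ → σ * b4 = b4 * σ → σ = 1 := by decide +kernel
theorem sd4_w : ∀ c : Equiv.Perm (Fin 4), T3 c → ∃ i j k l m : Fin 3,
      c = a4 ^ (i : ℕ) * b4 ^ (j : ℕ) * a4 ^ (k : ℕ) * b4 ^ (l : ℕ) * a4 ^ (m : ℕ) := by decide +kernel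

theorem sd4 : SD 2 a4 b4 := ⟨sd4_ya, fun x y h => sd4_ex x h.1.1 y h, sd4_un, gen_of_words sd4_w⟩

theorem sd5_ya : Ya 5 x0 b5 := by decide +kernel
theorem sd5_ex : ∀ y : Equiv.Perm (Fin 5), Ya 5 x0 y →
    ∃ σ : Equiv.Perm (Fin 5), σ * x0 * σ⁻¹ = x0 ∧ σ * b5 * σ⁻¹ = y := by decide +kernel
theorem sd5_un : ∀ σ : Equiv.Perm (Fin 5), σ * x0 = x0 * σ → σ * b5 = b5 * σ → σ = 1 := by decide +kernel
theorem sd5_w : ∀ c : Equiv.Perm (Fin 5), T3 c → ∃ i j k l m : Fin 3,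
      c = x0 ^ (i : ℕ) * b5 ^ (j : ℕ) * x0 ^ (k : ℕ) * b5 ^ (l : ℕ) * x0 ^ (m : ℕ) := by decide +kernel

theorem Ya.conj {n k : ℕ} {a b : Equiv.Perm (Fin n)} (h : Ya k a b) (g : Equiv.Perm (Fin n)) :
    Ya k (g * a * g⁻¹) (g * b * g⁻¹) := by
  refine ⟨⟨h.1.1.conj g, h.1.2.conj g⟩, ?_, ?_⟩
  · have : g * a * g⁻¹ * (g * b * g⁻¹) = g * (a * b) * g⁻¹ := by group
    rw [this, conj_pow, h.2.1, mul_one, mul_inv_cancel]
  · intro h1
    have : g * a * g⁻¹ * (g * b * g⁻¹) = g * (a * b) * g⁻¹ := by group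
    rw [this] at h1
    exact h.2.2 (conj_eq_one_iff.mp h1)

theorem sd5 : SD 5 x0 b5 := by
  refine ⟨sd5_ya, ?_, sd5_un, gen_of_words sd5_w⟩
  intro x y h
  obtain ⟨g, hg⟩ := conj_x0 x h.1.1
  have h1 := h.conj g
  rw [hg] at h1
  obtain ⟨σ, h2, h3⟩ := sd5_ex _ h1
  refine ⟨g⁻¹ * σ, ?_, ?_⟩
  · have : g⁻¹ * σ * x0 * (g⁻¹ * σ)⁻¹ = g⁻¹ * (σ * x0 * σ⁻¹) * g := by group
    rw [this, h2, ← hg]; group
  · have : g⁻¹ * σ * b5 * (g⁻¹ * σ)⁻¹ = g⁻¹ * (σ * b5 * σ⁻¹) * g := by group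
    rw [this, h3]; group

theorem SD.alt_le {n k : ℕ} {a0 b0 : Equiv.Perm (Fin n)} (D : SD k a0 b0) :
    alternatingGroup (Fin n) ≤ closure {a0, b0} := by
  rw [← Equiv.Perm.closure_three_cycles_eq_alternating, closure_le]
  intro c hc
  exact D.gen c (T3_of_order hc.orderOf)

end CfsgLib.H6Zas
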