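import Cfsg.Agent.LibH6ZasP

/-! Fixed-point-free Z-groups: presentation. -/

set_option autoImplicit false
set_option synthInstance.maxSize 2000

namespace CfsgLib.H6Zas

open Subgroup

section pq
variable {K : Type*} [Field K] {V : Type*} [AddCommGroup V] [Module K V] {G : Type*} [Group G]
  {ρ : G →* Module.End K V}

theorem Fpf.pq [IsAlgClosed K] [FiniteDimensional K V] [Nontrivial V] (h : Fpf ρ) {p q : ℕ} (hp : p.Prime)
    (hq : q.Prime) {u v : G} (hu : u ^ p = 1) (hv : v ^ q = 1) {k : ℕ} (hk : u⁻¹ * v * u = v ^ k) :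
    u * v = v * u := by
  classical
  by_contra hne
  have hv1 : v ≠ 1 := by rintro rfl; exact hne (by simp)
  obtain ⟨μ, hμ⟩ := Module.End.exists_eigenvalue (ρ v)
  obtain ⟨w, hw⟩ := hμ.exists_hasEigenvector
  have hw0 : w ≠ 0 := hw.2
  have hwe : ρ v w = μ • w := hw.apply_eq_smul
  have hpow : ∀ n : ℕ, ρ (v ^ n) w = μ ^ n • w := by
    intro n
    induction n with
    | zero => rw [pow_zero, pow_zero, map_one, one_smul]; rfl
    | succ n ih => rw [pow_succ, map_mul, Module.End.mul_apply, hwe, map_smul, ih, smul_smul, pow_succ, mul_comm]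
  have hμ1 : μ ≠ 1 := by
    intro h1
    rw [h1, one_smul] at hwe
    exact hw0 (h v hv1 w hwe)
  have hμq : μ ^ q = 1 := by
    have h1 := hpow q
    rw [hv, map_one] at h1
    have h2 : w = μ ^ q • w := h1
    have h3 : (μ ^ q - 1) • w = 0 := by rw [sub_smul, one_smul, ← h2, sub_self]
    rcases smul_eq_zero.mp h3 with h4 | h4
    · exact sub_eq_zero.mp h4
    · exact absurd h4 hw0
  have hoμ : orderOf μ = q := by
    haveI : Fact q.Prime := ⟨hq⟩
    exact orderOf_eq_prime hμq hμ1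
  have hμ0 : μ ≠ 0 := by
    rintro rfl
    rw [zero_pow hq.ne_zero] at hμq
    exact zero_ne_one hμq
  have hmod : ∀ a b : ℕ, a ≤ b → μ ^ a = μ ^ b → v ^ a = v ^ b := by
    intro a b hab he
    obtain ⟨c, rfl⟩ := Nat.exists_eq_add_of_le hab
    have h1 : μ ^ c = 1 := by
      rw [pow_add] at he
      have h2 : μ ^ a ≠ 0 := pow_ne_zero _ hμ0
      exact (mul_left_cancel₀ h2 (by rw [mul_one]; exact he)).symm
    have h2 : q ∣ c := by rw [← hoμ]; exact orderOf_dvd_of_pow_eq_one h1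
    obtain ⟨d, rfl⟩ := h2
    rw [pow_add, pow_mul, hv, one_pow, mul_one]
  have hconj : ∀ i : ℕ, v * u ^ i = u ^ i * v ^ (k ^ i) := by
    intro i
    induction i with
    | zero => simp
    | succ i ih =>
      have h1 : ∀ n : ℕ, v ^ n * u = u * v ^ (k * n) := by
        intro n
        have h2 : (u⁻¹ * v * u) ^ n = v ^ (k * n) := by rw [hk, ← pow_mul]
        have h3 : (u⁻¹ * v * u) ^ n = u⁻¹ * v ^ n * u := by
          have := conj_pow (a := u⁻¹) (b := v) (i := n)
          rw [inv_inv] at this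
          exact this
        rw [h3] at h2
        rw [← h2]; group
      rw [pow_succ, ← mul_assoc, ih, mul_assoc, h1, ← mul_assoc, ← pow_succ, mul_comm k, ← pow_succ]
  have heig : ∀ i : ℕ, ρ v (ρ (u ^ i) w) = μ ^ (k ^ i) • ρ (u ^ i) w := by
    intro i
    rw [← Module.End.mul_apply, ← map_mul, hconj, map_mul, Module.End.mul_apply, hpow, map_smul]
  have hinj : Function.Injective (fun i : Fin p => μ ^ (k ^ (i : ℕ))) := by
    have key : ∀ i j : ℕ, i < j → j < p → μ ^ (k ^ i) = μ ^ (k ^ j) → False := by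
      intro i j hij hj he
      have he : v ^ (k ^ i) = v ^ (k ^ j) := by
        rcases le_total (k ^ i) (k ^ j) with hle | hle
        · exact hmod _ _ hle he
        · exact (hmod _ _ hle he.symm).symm
      apply hne
      have h1 := hconj i
      have h2 := hconj j
      rw [he] at h1
      -- `u^(j-i)` commutes with `v`
      have h3 : (u ^ i)⁻¹ * v * u ^ i = (u ^ j)⁻¹ * v * u ^ j := by
        rw [mul_assoc, mul_assoc, h1, h2]; group
      have h4 : Commute (u ^ (j - i)) v := by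
        have h5 : u ^ j = u ^ i * u ^ (j - i) := by rw [← pow_add]; congr 1; omega
        have h6 : u ^ j = u ^ (j - i) * u ^ i := by rw [← pow_add]; congr 1; omega
        show u ^ (j - i) * v = v * u ^ (j - i)
        calc u ^ (j - i) * v = u ^ (j - i) * u ^ i * ((u ^ i)⁻¹ * v * u ^ i) * (u ^ i)⁻¹ := by group
          _ = u ^ j * ((u ^ j)⁻¹ * v * u ^ j) * (u ^ i)⁻¹ := by rw [h3, ← h6]
          _ = v * u ^ j * (u ^ i)⁻¹ := by group
          _ = v * u ^ (j - i) := by rw [h6]; group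
      have h7 : Nat.Coprime (j - i) p := by
        rw [Nat.coprime_comm]
        exact (Nat.Prime.coprime_iff_not_dvd hp).mpr (fun hd => by
          have := Nat.le_of_dvd (by omega) hd; omega)
      have h8 : ∃ n : ℕ, (u ^ (j - i)) ^ n = u := by
        obtain ⟨n, hn⟩ := exists_pow_eq_self_of_coprime (x := u) (n := j - i) (by
          exact Nat.Coprime.coprime_dvd_right (orderOf_dvd_of_pow_eq_one hu) h7)
        exact ⟨n, hn⟩
      obtain ⟨n, hn⟩ := h8
      have h9 := h4.pow_left n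
      rw [hn] at h9
      exact h9
    intro i j hij
    rcases lt_trichotomy (i : ℕ) (j : ℕ) with hlt | heq | hlt
    · exact (key i j hlt j.2 hij).elim
    · exact Fin.ext heq
    · exact (key j i hlt i.2 hij.symm).elim
  have hnz : ∀ i : ℕ, ρ (u ^ i) w ≠ 0 := by
    intro i h0
    apply hw0
    have : ρ (u ^ i)⁻¹ (ρ (u ^ i) w) = 0 := by rw [h0, map_zero]
    rwa [← Module.End.mul_apply, ← map_mul, inv_mul_cancel, map_one] at this
  have hli := Module.End.eigenvectors_linearIndependent' (ρ v) (fun i : Fin p => μ ^ (k ^ (i : ℕ))) hinj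
    (fun i : Fin p => ρ (u ^ (i : ℕ)) w) (fun i => ⟨Module.End.mem_eigenspace_iff.mpr (heig i), hnz i⟩)
  have hsum : ∑ i ∈ Finset.range p, ρ (u ^ i) w = 0 := by
    have hu1 : u ≠ 1 := by rintro rfl; exact hne (by simp)
    apply h u hu1
    rw [map_sum]
    have h1 : ∀ i ∈ Finset.range p, ρ u (ρ (u ^ i) w) = ρ (u ^ (i + 1)) w := by
      intro i _
      rw [← Module.End.mul_apply, ← map_mul, ← pow_succ']
    rw [Finset.sum_congr rfl h1]
    have h2 := Finset.sum_range_succ (fun i => ρ (u ^ i) w) p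
    have h3 := Finset.sum_range_succ' (fun i => ρ (u ^ i) w) p
    rw [h3] at h2
    rw [hu, pow_zero] at h2
    exact add_right_cancel h2
  rw [Fintype.linearIndependent_iff] at hli
  have h1 := hli (fun _ => 1) (by
    simp only [one_smul]
    rw [← hsum, Finset.sum_range]) ⟨0, hp.pos⟩
  exact one_ne_zero h1

end pq

theorem IsFpf.pq {G : Type*} [Group G] (hF : IsFpf G) {p q : ℕ} (hp : p.Prime)
    (hq : q.Prime) {u v : G} (hu : u ^ p = 1) (hv : v ^ q = 1) {k : ℕ} (hk : u⁻¹ * v * u = v ^ k) :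
    u * v = v * u := by
  obtain ⟨r, hr, n, ρ, hρ⟩ := hF
  exact hρ.pq hp hq hu hv hk

/-- number theory -/
theorem dvd_sub_one {m s p : ℕ} (hp : p.Prime) (hpm : p.Coprime m) (h1 : (m : ℤ) ∣ (s : ℤ) ^ p - 1)
    (h2 : ∀ q : ℕ, q.Prime → q ∣ m → (q : ℤ) ∣ (s : ℤ) - 1) : (m : ℤ) ∣ (s : ℤ) - 1 := by
  rw [← mul_geom_sum] at h1
  refine IsCoprime.dvd_of_dvd_mul_right ?_ h1
  rw [Int.isCoprime_iff_gcd_eq_one]
  by_contra hne
  obtain ⟨q, hq, hqd⟩ := Nat.exists_prime_and_dvd hne
  have hqm : q ∣ m := by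
    have := hqd.trans (Int.gcd_dvd_natAbs_left _ _)
    rwa [Int.natAbs_natCast] at this
  have hqs : (q : ℤ) ∣ ∑ i ∈ Finset.range p, (s : ℤ) ^ i := by
    have := hqd.trans (Int.gcd_dvd_natAbs_right _ _)
    exact Int.natCast_dvd.mpr this
  haveI : Fact q.Prime := ⟨hq⟩
  have h3 : ((s : ℤ) : ZMod q) = 1 := by
    have := (ZMod.intCast_zmod_eq_zero_iff_dvd ((s : ℤ) - 1) q).mpr (h2 q hq hqm)
    rw [Int.cast_sub, Int.cast_one] at this
    exact sub_eq_zero.mp this
  have h4 := (ZMod.intCast_zmod_eq_zero_iff_dvd _ q).mpr hqs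
  rw [Int.cast_sum] at h4
  have h5 : ∀ i ∈ Finset.range p, (((s : ℤ) ^ i : ℤ) : ZMod q) = 1 := by
    intro i _
    rw [Int.cast_pow, h3, one_pow]
  rw [Finset.sum_congr rfl h5, Finset.sum_const, Finset.card_range, nsmul_eq_mul, mul_one] at h4
  have h6 : q ∣ p := (ZMod.natCast_eq_zero_iff p q).mp h4
  have h7 := (Nat.prime_dvd_prime_iff_eq hq hp).mp h6
  rw [h7] at hqm
  have h8 := Nat.Coprime.eq_one_of_dvd hpm hqm
  exact hp.one_lt.ne' h8

theorem card_le_pres {P : Type*} [Group P] (X Y : P) {n m r : ℕ} (hn : 0 < n) (hm : 0 < m) (hX : X ^ n = 1)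
    (hY : Y ^ m = 1) (hXY : X⁻¹ * Y * X = Y ^ r) (hgen : closure {X, Y} = ⊤) : Finite P ∧ Nat.card P ≤ n * m := by
  classical
  have h1 : ∀ (a : ℤ), Y ^ a * X = X * Y ^ (r * a) := by
    intro a
    have h2 : (X⁻¹ * Y * X) ^ a = Y ^ ((r : ℤ) * a) := by rw [hXY, zpow_mul, zpow_natCast]
    have h3 : (X⁻¹ * Y * X) ^ a = X⁻¹ * Y ^ a * X := by
      have := conj_zpow (a := X⁻¹) (b := Y) (i := a)
      rw [inv_inv] at this
      exact this
    rw [h3] at h2
    rw [← h2]; group
  have h2 : ∀ (i : ℕ) (a : ℤ), ∃ b : ℤ, Y ^ a * X ^ i = X ^ i * Y ^ b := by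
    intro i
    induction i with
    | zero => intro a; exact ⟨a, by simp⟩
    | succ i ih =>
      intro a
      obtain ⟨b, hb⟩ := ih a
      refine ⟨r * b, ?_⟩
      rw [pow_succ, ← mul_assoc, hb, mul_assoc, h1, ← mul_assoc]
  have hall : ∀ g : P, ∃ (i : ℕ) (a : ℤ), g = X ^ i * Y ^ a := by
    intro g
    have hg : g ∈ closure {X, Y} := by rw [hgen]; exact mem_top g
    have hleft : ∀ g : P, (∀ (i : ℕ) (a : ℤ), ∃ (j : ℕ) (b : ℤ), g * (X ^ i * Y ^ a) = X ^ j * Y ^ b) →
        ∃ (i : ℕ) (a : ℤ), g = X ^ i * Y ^ a := by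
      intro g h
      obtain ⟨j, b, hj⟩ := h 0 0
      exact ⟨j, b, by simpa using hj⟩
    apply hleft
    induction hg using closure_induction'' with
    | mem g hg =>
      intro i a
      rcases hg with rfl | hg
      · exact ⟨i + 1, a, by rw [← mul_assoc, ← pow_succ']⟩
      · rw [Set.mem_singleton_iff] at hg
        subst hg
        obtain ⟨b, hb⟩ := h2 i 1
        exact ⟨i, b + a, by rw [← mul_assoc, ← zpow_one g, zpow_one g, show g * X ^ i = g ^ (1 : ℤ) * X ^ i by rw [zpow_one], hb, mul_assoc, ← zpow_add]⟩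
    | inv_mem g hg =>
      intro i a
      rcases hg with rfl | hg
      · refine ⟨(n - 1) + i, a, ?_⟩
        have : g⁻¹ = g ^ (n - 1) := by
          rw [inv_eq_iff_mul_eq_one, ← pow_succ', Nat.sub_add_cancel hn, hX]
        rw [this, ← mul_assoc, ← pow_add]
      · rw [Set.mem_singleton_iff] at hg
        subst hg
        obtain ⟨b, hb⟩ := h2 i (-1)
        refine ⟨i, b + a, ?_⟩
        rw [← mul_assoc, show g⁻¹ * X ^ i = g ^ (-1 : ℤ) * X ^ i by rw [zpow_neg_one], hb, mul_assoc, ← zpow_add]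
    | one => intro i a; exact ⟨i, a, one_mul _⟩
    | mul g h _ _ ihg ihh =>
      intro i a
      obtain ⟨j, b, hj⟩ := ihh i a
      obtain ⟨k, c, hk⟩ := ihg j b
      exact ⟨k, c, by rw [mul_assoc, hj, hk]⟩
  let F : Fin n × Fin m → P := fun p => X ^ (p.1 : ℕ) * Y ^ (p.2 : ℕ)
  have hF : Function.Surjective F := by
    intro g
    obtain ⟨i, a, rfl⟩ := hall g
    refine ⟨(⟨i % n, Nat.mod_lt _ hn⟩, ⟨(a % m).toNat, ?_⟩), ?_⟩
    · have := Int.emod_lt_of_pos a (by exact_mod_cast hm : (0 : ℤ) < m)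
      have h3 := Int.emod_nonneg a (by exact_mod_cast hm.ne' : (m : ℤ) ≠ 0)
      omega
    · show X ^ (i % n) * Y ^ (a % m).toNat = X ^ i * Y ^ a
      have e1 : X ^ (i % n) = X ^ i := by
        conv_rhs => rw [← Nat.mod_add_div i n]
        rw [pow_add, pow_mul, hX, one_pow, mul_one]
      have e2 : Y ^ (a % m).toNat = Y ^ a := by
        rw [← zpow_natCast, Int.toNat_of_nonneg (Int.emod_nonneg a (by exact_mod_cast hm.ne' : (m : ℤ) ≠ 0))]
        conv_rhs => rw [← Int.emod_add_mul_ediv a m]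
        rw [zpow_add, zpow_mul, zpow_natCast, hY, one_zpow, mul_one]
      rw [e1, e2]
  haveI : Finite P := Finite.of_surjective F hF
  refine ⟨inferInstance, ?_⟩
  have := Nat.card_le_card_of_surjective F hF
  rwa [Nat.card_prod, Nat.card_fin, Nat.card_fin] at this

theorem pow_rad {A : Type*} [Group A] {n : ℕ} (hn : 0 < n) (α : A)
    (h : ∀ p : ℕ, p.Prime → p ∣ n → α ^ (n / p) = 1) (hαn : α ^ n = 1) : α ^ (n / ∏ p ∈ n.primeFactors, p) = 1 := by
  classical
  set R := ∏ p ∈ n.primeFactors, p with hR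
  have hRn : R ∣ n := Nat.prod_primeFactors_dvd n
  obtain ⟨k, hk⟩ := hRn
  have hRpos : 0 < R := Nat.pos_of_ne_zero (by rintro h0; rw [h0, zero_mul] at hk; omega)
  have hnk : n / R = k := by rw [hk]; exact Nat.mul_div_cancel_left k hRpos
  rw [hnk]
  set β := α ^ k with hβ
  have h1 : β ^ R = 1 := by rw [hβ, ← pow_mul, mul_comm, ← hk, hαn]
  have hd : orderOf β ∣ R := orderOf_dvd_of_pow_eq_one h1
  rw [← orderOf_eq_one_iff]
  by_contra hne
  obtain ⟨q, hq, hqd⟩ := Nat.exists_prime_and_dvd hne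
  have hqR : q ∣ R := hqd.trans hd
  have hqn : q ∈ n.primeFactors := by
    rw [hR] at hqR
    obtain ⟨p, hp, hqp⟩ := (hq.prime.dvd_finset_prod_iff _).mp hqR
    have : q = p := (Nat.prime_dvd_prime_iff_eq hq (Nat.prime_of_mem_primeFactors hp)).mp hqp
    rw [this]; exact hp
  have hRq : R = q * ∏ p ∈ n.primeFactors.erase q, p := (Finset.mul_prod_erase _ _ hqn).symm
  set S := ∏ p ∈ n.primeFactors.erase q, p with hS
  have h2 : β ^ S = 1 := by
    rw [hβ, ← pow_mul]
    have h3 : k * S = n / q := by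
      rw [hk, hRq]
      rw [show q * S * k = q * (k * S) by ring, Nat.mul_div_cancel_left _ hq.pos]
    rw [h3]
    exact h q hq (Nat.dvd_of_mem_primeFactors hqn)
  have h4 : q ∣ S := hqd.trans (orderOf_dvd_of_pow_eq_one h2)
  rw [hS] at h4
  obtain ⟨p, hp, hqp⟩ := (hq.prime.dvd_finset_prod_iff _).mp h4
  rw [Finset.mem_erase] at hp
  exact hp.1 ((Nat.prime_dvd_prime_iff_eq hq (Nat.prime_of_mem_primeFactors hp.2)).mp hqp).symm

end CfsgLib.H6Zas
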