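import Cfsg.Agent.EqBase
import Cfsg.Agent.LibCNS2
import Cfsg.Agent.LibCNOdd5
import Cfsg.Agent.LibH6ZasJ
import Cfsg.Agent.LibH6ZasX
import Cfsg.Agent.LibFgHallCnt
import Cfsg.Agent.LibFPF1
/-!
# CN-groups (helper16): fixed point free CN-groups are nilpotent; Frobenius CN-groups
-/
set_option autoImplicit false
set_option linter.all false
open Cfsg
open scoped commutatorElement Pointwise
namespace CfsgLib.CNS

open CfsgLib.CNOdd CfsgLib.H6Zas

universe u

theorem cyclic_of_nil_odd {E : Type u} [Group E] [Finite E] [hn : Group.IsNilpotent E] (hF : IsFpf E) (hodd : Odd (Nat.card E)) : IsCyclic E := by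
  haveI := Fact.mk Nat.prime_two
  have hKodd : ¬ 2 ∣ Nat.card E := by
    rw [← even_iff_two_dvd, Nat.not_even_iff_odd]; exact hodd
  haveI hKz : IsZGroup E := hF.zgroup_of_two (fun P => by
    obtain ⟨j, hj⟩ := IsPGroup.iff_card.mp P.isPGroup'
    have h1 : Nat.card (P : Subgroup E) ∣ Nat.card E := Subgroup.card_subgroup_dvd_card _
    have hj0 : j = 0 := by
      by_contra hj0
      apply hKodd
      rw [hj] at h1
      exact (dvd_pow_self 2 hj0).trans h1
    rw [hj0, pow_zero] at hj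
    have h2 : (P : Subgroup E) = ⊥ := Subgroup.card_eq_one.mp hj
    rw [h2]
    infer_instance)
  infer_instance

theorem comm_of_cyclic {G : Type u} [Group G] {K : Subgroup G} (h : IsCyclic K) : ∀ a ∈ K, ∀ b ∈ K, a * b = b * a := by
  letI := h.commGroup
  intro a ha b hb
  exact congrArg Subtype.val (mul_comm (⟨a, ha⟩ : K) ⟨b, hb⟩)

/-- solvable fixed point free CN-groups are nilpotent -/
theorem nil_of_fpf_odd (n : ℕ) : ∀ (E : Type u) [Group E] [Finite E], Nat.card E = n → Odd (Nat.card E) → Group.IsSolvable E → IsCNGroup E → IsFpf E → Group.IsNilpotent E := by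
  induction n using Nat.strong_induction_on with
  | _ n ih =>
  intro E _ _ hcard hodd hs hCN hF
  classical
  by_cases hnt : Nontrivial E
  swap
  · rw [not_nontrivial_iff_subsingleton] at hnt
    infer_instance
  haveI := Fintype.ofFinite E
  obtain ⟨N, r, hNn, hr, hNi⟩ := CfsgLib.FgHallCnt.exists_normal_prime_index (H := E)
  haveI := Fact.mk hr
  have hrE : r ∣ Nat.card E := hNi ▸ N.index_dvd_card
  have hr2 : r ≠ 2 := by
    rintro rfl
    rw [← Nat.not_even_iff_odd, even_iff_two_dvd] at hodd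
    exact hodd hrE
  have hNlt : Nat.card N < n := by
    have h1 := N.card_mul_index
    rw [hNi, hcard] at h1
    have h2 : 0 < Nat.card N := Nat.card_pos
    have h3 := hr.two_le
    nlinarith
  haveI hNnil : Group.IsNilpotent N := ih _ hNlt N rfl (Odd.of_dvd_nat hodd (Subgroup.card_subgroup_dvd_card N)) inferInstance (cn_sub hCN N) (hF.sub N)
  have hNcyc : IsCyclic N := cyclic_of_nil_odd (hF.sub N) (Odd.of_dvd_nat hodd (Subgroup.card_subgroup_dvd_card N))
  have hNc := comm_of_cyclic hNcyc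
  obtain ⟨R⟩ : Nonempty (Sylow r E) := inferInstance
  have hRcyc : IsCyclic (R : Subgroup E) := hF.cyclic_odd hr hr2 R R.isPGroup'
  have hRc := comm_of_cyclic hRcyc
  have hSN : ∀ (s : ℕ) (hs : Fact s.Prime) (S : Sylow s E), s ≠ r → (S : Subgroup E) ≤ N := by
    intro s hs S hsr x hx
    apply CfsgLib.FrobK.mem_of_order hNn
    obtain ⟨k, hk⟩ := orderOf_mem_pgroup hs.out S.isPGroup' hx
    rw [hNi, hk]
    exact Nat.Coprime.pow_left k ((Nat.coprime_primes hs.out hr).mpr hsr)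
  -- it is enough to find an element commuting with `N` and `R`
  have key : ∀ u : E, u ≠ 1 → (∀ w ∈ N, w * u = u * w) → (∀ w ∈ (R : Subgroup E), w * u = u * w) → Group.IsNilpotent E := by
    intro u hu1 huN huR
    refine nil_of_top (hCN u hu1) ?_
    apply CfsgLib.SolvFitting.eq_top_of_forall_sylow_le
    intro s hs
    by_cases hsr : s = r
    · subst hsr
      exact ⟨R, fun y hy => Subgroup.mem_centralizer_singleton_iff.mpr (huR y hy)⟩
    · obtain ⟨S⟩ : Nonempty (Sylow s E) := inferInstance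
      exact ⟨S, fun y hy => Subgroup.mem_centralizer_singleton_iff.mpr (huN y (hSN s hs S hsr hy))⟩
  by_cases hRN : ∃ y ∈ (R : Subgroup E), y ∈ N ∧ y ≠ 1
  · obtain ⟨y, hyR, hyN, hy1⟩ := hRN
    exact key y hy1 (fun w hw => hNc w hw y hyN) (fun w hw => hRc w hw y hyR)
  push Not at hRN
  have hRr : ∀ w ∈ (R : Subgroup E), w ^ r = 1 := by
    intro w hw
    apply hRN _ ((R : Subgroup E).pow_mem hw r)
    rw [← hNi]
    exact Subgroup.pow_index_mem N w
  by_cases hN1 : N = ⊥
  · obtain ⟨y, hy⟩ := exists_prime_orderOf_dvd_card' r (R.dvd_card_of_dvd_card hrE)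
    have hy1 : (y : E) ≠ 1 := by
      intro h
      have h2 : y = 1 := Subtype.ext h
      rw [h2, orderOf_one] at hy
      exact hr.one_lt.ne hy
    refine key y hy1 ?_ (fun w hw => hRc w hw y y.2)
    intro w hw
    rw [hN1, Subgroup.mem_bot] at hw
    rw [hw, one_mul, mul_one]
  · have hNnt : Nontrivial N := (Subgroup.nontrivial_iff_ne_bot N).mpr hN1
    obtain ⟨s, hs, hsN⟩ := Nat.exists_prime_and_dvd (Finite.one_lt_card_iff_nontrivial.mpr hNnt).ne'
    haveI := Fact.mk hs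
    obtain ⟨⟨u, huN⟩, hu⟩ := exists_prime_orderOf_dvd_card' s hsN
    rw [Subgroup.orderOf_mk] at hu
    have hu1 : u ≠ 1 := by
      rintro rfl
      rw [orderOf_one] at hu
      exact hs.one_lt.ne hu
    have hus : u ^ s = 1 := by rw [← hu]; exact pow_orderOf_eq_one u
    refine key u hu1 (fun w hw => hNc w hw u huN) ?_
    intro w hw
    have hvN : w⁻¹ * u * w ∈ N := by
      have := hNn.conj_mem u huN w⁻¹
      rwa [inv_inv] at this
    have hvs : (w⁻¹ * u * w) ^ s = 1 := by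
      have := conj_pow (a := w⁻¹) (b := u) (i := s)
      rw [inv_inv] at this
      rw [this, hus]; group
    have h1 := hF.comm_prime hs hus hu1 hvs (hNc u huN _ hvN)
    rw [mem_zpowers_iff_mem_range_orderOf] at h1
    obtain ⟨k, -, hk⟩ := Finset.mem_image.mp h1
    exact hF.pq hr hs (hRr w hw) hus hk.symm

/-- fixed point free CN-groups are nilpotent -/
theorem nil_of_fpf {E : Type u} [Group E] [Finite E] (hCN : IsCNGroup E) (hF : IsFpf E) : Group.IsNilpotent E := by
  by_cases hev : Even (Nat.card E)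
  · haveI := Fact.mk Nat.prime_two
    obtain ⟨t, ht⟩ := exists_prime_orderOf_dvd_card' (G := E) 2 (even_iff_two_dvd.mp hev)
    have ht2 : t * t = 1 := by rw [← pow_two, ← ht]; exact pow_orderOf_eq_one t
    have ht1 : t ≠ 1 := by
      rintro rfl
      rw [orderOf_one] at ht
      exact absurd ht (by norm_num)
    have hZ := hF.zc ht2 ht1
    refine nil_of_top (hCN t ht1) ?_
    rw [eq_top_iff]
    intro y _
    exact Subgroup.mem_centralizer_singleton_iff.mpr (hZ.cen y)
  · rw [Nat.not_even_iff_odd] at hev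
    exact nil_of_fpf_odd _ E rfl hev (CfsgLib.CNOdd.main _ E rfl hev hCN) hCN hF

theorem frob_of_cent {G : Type u} [Group G] {K E : Subgroup G} (hK : K.Normal) (hC : ∀ x ∈ K, x ≠ 1 → ∀ y : G, y * x = x * y → y ∈ K)
    (hKE : Subgroup.IsComplement' K E) (hK1 : K ≠ ⊥) (hKt : K ≠ ⊤) : IsFrobeniusComplement E := by
  have hinf : ∀ x, x ∈ K → x ∈ E → x = 1 := by
    intro x h1 h2
    have h3 : x ∈ K ⊓ E := ⟨h1, h2⟩
    rw [hKE.disjoint.eq_bot, Subgroup.mem_bot] at h3
    exact h3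
  refine ⟨?_, ?_, ?_⟩
  · rintro rfl
    apply hKt
    have := hKE.sup_eq_top
    rwa [sup_bot_eq] at this
  · rintro rfl
    apply hK1
    have := hKE.disjoint.eq_bot
    rwa [inf_top_eq] at this
  · intro g hg
    rw [eq_bot_iff]
    rintro e ⟨he, he2⟩
    rw [Subgroup.mem_bot]
    by_contra he1
    have he2' : e ∈ MulAut.conj g • E := he2
    rw [Subgroup.mem_pointwise_smul_iff_inv_smul_mem] at he2'
    have h5 : g⁻¹ * e * g ∈ E := by
      rw [← MulAut.conj_inv_apply]; exact he2'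
    obtain ⟨⟨⟨k, hk⟩, ⟨f, hf⟩⟩, hkf⟩ := hKE.2 g
    have hkf' : k * f = g := hkf
    -- `k⁻¹ e k ∈ E`
    have h6 : k⁻¹ * e * k ∈ E := by
      have h7 := E.mul_mem (E.mul_mem hf h5) (E.inv_mem hf)
      have h8 : f * (g⁻¹ * e * g) * f⁻¹ = k⁻¹ * e * k := by rw [← hkf']; group
      rwa [h8] at h7
    have h7 : e⁻¹ * (k⁻¹ * e * k) = 1 := by
      apply hinf
      · have h8 : e⁻¹ * (k⁻¹ * e * k) = (e⁻¹ * k⁻¹ * e⁻¹⁻¹) * k := by group
        rw [h8]
        exact K.mul_mem (hK.conj_mem _ (K.inv_mem hk) e⁻¹) hk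
      · exact E.mul_mem (E.inv_mem he) h6
    have h8 : e * k = k * e := by
      have h9 : k⁻¹ * e * k = e := by
        rw [inv_mul_eq_one] at h7; exact h7.symm
      calc e * k = k * (k⁻¹ * e * k) := by group
        _ = k * e := by rw [h9]
    by_cases hk1 : k = 1
    · apply hg
      rw [← hkf', hk1, one_mul]; exact hf
    · exact he1 (hinf e (hC k hk hk1 e h8) he)

/-- CN-groups that are Frobenius groups: `C(x) ≤ K` for `x ∈ K` -/
theorem frob_out {G : Type u} [Group G] [Finite G] (hCN : IsCNGroup G) {K : Subgroup G} (hK : K.Normal)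
    (hC : ∀ x ∈ K, x ≠ 1 → ∀ y : G, y * x = x * y → y ∈ K) (hK1 : K ≠ ⊥) (hKt : K ≠ ⊤) :
    ∃ E : Subgroup G, Subgroup.IsComplement' K E ∧ IsFrobeniusComplement E ∧ (∀ e ∈ E, e ≠ 1 → K ⊓ Subgroup.centralizer ({e} : Set G) = ⊥) ∧
      IsFpf E ∧ Group.IsNilpotent E ∧ Group.IsNilpotent (G ⧸ K) := by
  haveI := Fintype.ofFinite G
  have hco := CfsgLib.FrobK.coprime hK (fun k hk hk1 y hy => hC k hk hk1 y (Subgroup.mem_centralizer_singleton_iff.mp hy))
  obtain ⟨E, hKE⟩ := Subgroup.exists_right_complement'_of_coprime hco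
  have hfr := frob_of_cent hK hC hKE hK1 hKt
  have hF := isFpf_of_complement E hfr
  have hnil : Group.IsNilpotent E := nil_of_fpf (cn_sub hCN E) hF
  refine ⟨E, hKE, hfr, ?_, hF, hnil, ?_⟩
  · intro e he he1
    rw [eq_bot_iff]
    rintro x ⟨hx, hxe⟩
    rw [Subgroup.mem_bot]
    by_contra hx1
    have h1 : e ∈ K := hC x hx hx1 e (Subgroup.mem_centralizer_singleton_iff.mp hxe).symm
    have h3 : e ∈ K ⊓ E := ⟨h1, he⟩
    rw [hKE.disjoint.eq_bot, Subgroup.mem_bot] at h3
    exact he1 h3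
  · exact Group.nilpotent_of_mulEquiv (hKE.symm.QuotientMulEquiv).symm

/-- normal Sylow subgroup -/
theorem sylow_case {G : Type u} [Group G] [Finite G] (hCN : IsCNGroup G) (hnn : ¬ Group.IsNilpotent G) {p : ℕ} [hp : Fact p.Prime] (P : Sylow p G)
    (hP1 : (P : Subgroup G) ≠ ⊥) (hPn : (P : Subgroup G).Normal) :
    ∃ K : Subgroup G, K.Normal ∧ Group.IsNilpotent K ∧ (∀ x ∈ K, x ≠ 1 → ∀ y : G, y * x = x * y → y ∈ K) ∧ K ≠ ⊥ ∧ K ≠ ⊤ ∧
      ∀ N : Subgroup G, N.Normal → Group.IsNilpotent N → N ≤ K := by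
  have hpP : ∀ a : G, (∃ i, orderOf a = p ^ i) → a ∈ (P : Subgroup G) := by
    rintro a ⟨i, hi⟩
    have h1 : IsPGroup p (Subgroup.zpowers a) := IsPGroup.of_card (n := i) (by rw [Nat.card_zpowers, hi])
    obtain ⟨Q, hQ⟩ := h1.exists_le_sylow
    haveI := Sylow.unique_of_normal P hPn
    have h2 : Q = P := Subsingleton.elim _ _
    rw [← h2]
    exact hQ (Subgroup.mem_zpowers a)
  haveI : (P : Subgroup G).Normal := hPn
  obtain ⟨z, hzP, hz1, hzc⟩ := exists_central P hPn hP1 le_rfl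
  have hpo : ∀ x ∈ (P : Subgroup G), ∃ i, orderOf x = p ^ i := fun x hx => orderOf_mem_pgroup hp.out P.isPGroup' hx
  -- all centralizers of central elements of `P` are equal
  have hCeq : ∀ z z' : G, z ∈ (P : Subgroup G) → z' ∈ (P : Subgroup G) → z ≠ 1 → (∀ y ∈ (P : Subgroup G), y * z = z * y) → (∀ y ∈ (P : Subgroup G), y * z' = z' * y) →
      ∀ y : G, y * z = z * y → y * z' = z' * y := by
    intro z z' hz hz' hz1 hzc hzc' y hy
    obtain ⟨a, b, ha, hb, hab, -, hap, hbp⟩ := CfsgLib.FgElt.exists_p_decomp hp.out y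
    have hbz : b * z = z * b := CfsgLib.FgElt.commute_of_mem_zpowers hb hy
    have h1 : a * z' = z' * a := hzc' a (hpP a hap)
    obtain ⟨i, hi⟩ := hpo z' hz'
    have h2 : b * z' = z' * b := cn_comm hCN hz1 hbz (hzc z' hz') (by rw [hi]; exact Nat.Coprime.pow_right i hbp)
    rw [← hab, mul_assoc, h2, ← mul_assoc, h1, mul_assoc]
  refine ⟨Subgroup.centralizer ({z} : Set G), ?_, hCN z hz1, ?_, ?_, ?_, ?_⟩
  · constructor
    intro y hy g
    rw [Subgroup.mem_centralizer_singleton_iff] at hy ⊢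
    -- `y` commutes with `g⁻¹ z g`
    have hz' : g⁻¹ * z * g ∈ (P : Subgroup G) := by
      have := hPn.conj_mem z hzP g⁻¹
      rwa [inv_inv] at this
    have h1 := hCeq z (g⁻¹ * z * g) hzP hz' hz1 hzc (by
      intro w hw
      have h2 := hzc (g * w * g⁻¹) (hPn.conj_mem w hw g)
      calc w * (g⁻¹ * z * g) = g⁻¹ * (g * w * g⁻¹ * z) * g := by group
        _ = g⁻¹ * (z * (g * w * g⁻¹)) * g := by rw [h2]
        _ = g⁻¹ * z * g * w := by group) y hy
    calc g * y * g⁻¹ * z = g * (y * (g⁻¹ * z * g)) * g⁻¹ := by group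
      _ = g * (g⁻¹ * z * g * y) * g⁻¹ := by rw [h1]
      _ = z * (g * y * g⁻¹) := by group
  · intro x hx hx1 y hy
    rw [Subgroup.mem_centralizer_singleton_iff] at hx ⊢
    obtain ⟨a, b, ha, hb, hab, -, hap, hbp⟩ := CfsgLib.FgElt.exists_p_decomp hp.out y
    have hbx : b * x = x * b := CfsgLib.FgElt.commute_of_mem_zpowers hb hy
    have h1 : a * z = z * a := hzc a (hpP a hap)
    obtain ⟨i, hi⟩ := hpo z hzP
    have h2 : b * z = z * b := cn_comm hCN hx1 hbx hx.symm (by rw [hi]; exact Nat.Coprime.pow_right i hbp)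
    rw [← hab, mul_assoc, h2, ← mul_assoc, h1, mul_assoc]
  · intro h
    have : z ∈ Subgroup.centralizer ({z} : Set G) := Subgroup.mem_centralizer_singleton_iff.mpr rfl
    rw [h, Subgroup.mem_bot] at this
    exact hz1 this
  · intro h
    exact hnn (nil_of_top (hCN z hz1) h)
  · intro N hN hNn x hx
    rw [Subgroup.mem_centralizer_singleton_iff]
    obtain ⟨a, b, ha, hb, hab, -, hap, hbp⟩ := CfsgLib.FgElt.exists_p_decomp hp.out x
    have hbN : b ∈ N := (Subgroup.zpowers_le.mpr hx) hb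
    have h1 : a * z = z * a := hzc a (hpP a hap)
    have h2 : b * z = z * b := by
      by_cases hNP : N ⊓ (P : Subgroup G) = ⊥
      · have h3 : b * z * b⁻¹ * z⁻¹ ∈ N ⊓ (P : Subgroup G) := by
          refine ⟨?_, (P : Subgroup G).mul_mem (hPn.conj_mem z hzP b) ((P : Subgroup G).inv_mem hzP)⟩
          have h4 : b * z * b⁻¹ * z⁻¹ = b * (z * b⁻¹ * z⁻¹) := by group
          rw [h4]
          exact N.mul_mem hbN (hN.conj_mem _ (N.inv_mem hbN) z)
        rw [hNP, Subgroup.mem_bot, mul_inv_eq_one, mul_inv_eq_iff_eq_mul] at h3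
        exact h3
      · haveI : (N ⊓ (P : Subgroup G)).Normal := inferInstance
        obtain ⟨w, ⟨hwN, hwP⟩, hw1, hwc⟩ := exists_central P (V := N ⊓ (P : Subgroup G)) inferInstance hNP inf_le_right
        obtain ⟨i, hi⟩ := hpo w hwP
        have h3 : b * w = w * b := CfsgLib.TransNil.commute_of_coprime_mem hNn hbN hwN (by rw [hi]; exact Nat.Coprime.pow_right i hbp)
        exact hCeq w z hwP hzP hw1 hwc hzc b h3
    rw [← hab, mul_assoc, h2, ← mul_assoc, h1, mul_assoc]

end CfsgLib.CNS
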