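import Cfsg.Agent.EqBase
import Cfsg.Agent.LibCNS3
import Cfsg.Agent.LibSolvHall
/-!
# Solvable CN-groups (helper16)
-/
set_option autoImplicit false
set_option linter.all false
open Cfsg
open scoped commutatorElement Pointwise
namespace CfsgLib.CNS

open CfsgLib.CNOdd CfsgLib.H6Zas

universe u

/-- structure of nilpotent fixed point free groups -/
theorem nil_struct' {G : Type u} [Group G] [Finite G] {E : Subgroup G} (hn : Group.IsNilpotent E) (hF : IsFpf E) :
    IsCyclic E ∨ ∃ C Q : Subgroup G, C ⊔ Q = E ∧ (∀ a ∈ C, ∀ b ∈ Q, a * b = b * a) ∧ IsCyclic C ∧ Odd (Nat.card C) ∧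
          ∃ n : ℕ, Nonempty (↥Q ≃* QuaternionGroup (2 ^ n)) := by
  classical
  haveI := Fact.mk Nat.prime_two
  obtain ⟨S⟩ : Nonempty (Sylow 2 E) := inferInstance
  have hSn : (S : Subgroup E).Normal := (CfsgLib.SolvFitting.isNilpotent_of_sylow_normal E).mp hn 2 inferInstance S
  rcases hF.two_sub S S.isPGroup' with hS | ⟨n, ⟨e⟩⟩
  · left
    haveI : IsZGroup E := hF.zgroup_of_two (fun P => by
      obtain ⟨g, hg⟩ := MulAction.exists_smul_eq E S P
      have h1 : g • S = S := Sylow.smul_eq_of_normal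
      rw [h1] at hg
      rw [← hg]; exact hS)
    infer_instance
  · right
    obtain ⟨K, hK⟩ := Subgroup.exists_left_complement'_of_coprime (N := (S : Subgroup E)) S.card_coprime_index
    have hKc : (S : Subgroup E).index = Nat.card K := hK.index_eq_card
    have hKodd : ¬ 2 ∣ Nat.card K := by rw [← hKc]; exact S.not_dvd_index
    have hKodd' : Odd (Nat.card K) := by rw [← Nat.not_even_iff_odd, even_iff_two_dvd]; exact hKodd
    obtain ⟨k, hk⟩ := IsPGroup.iff_card.mp S.isPGroup'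
    have hKcyc : IsCyclic K := cyclic_of_nil_odd (hF.sub K) hKodd'
    refine ⟨K.map E.subtype, (S : Subgroup E).map E.subtype, ?_, ?_, ?_, ?_, n, ?_⟩
    · rw [← Subgroup.map_sup, hK.sup_eq_top, ← MonoidHom.range_eq_map, Subgroup.range_subtype]
    · rintro _ ⟨a, ha, rfl⟩ _ ⟨b, hb, rfl⟩
      rw [← map_mul, ← map_mul]
      congr 1
      apply CfsgLib.TransNil.commute_of_coprime
      have h1 : orderOf a ∣ Nat.card K := by
        have := orderOf_dvd_natCard (⟨a, ha⟩ : K)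
        rwa [Subgroup.orderOf_mk] at this
      obtain ⟨i, hi⟩ := orderOf_mem_pgroup Nat.prime_two S.isPGroup' hb
      apply Nat.Coprime.coprime_dvd_left h1
      rw [hi]
      exact Nat.Coprime.pow_right i ((Nat.Prime.coprime_iff_not_dvd Nat.prime_two).mpr hKodd).symm
    · exact isCyclic_of_surjective (K.equivMapOfInjective _ E.subtype_injective).toMonoidHom (K.equivMapOfInjective _ E.subtype_injective).surjective
    · rw [Subgroup.card_map_of_injective E.subtype_injective]; exact hKodd'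
    · exact ⟨((S : Subgroup E).equivMapOfInjective _ E.subtype_injective).symm.trans e⟩

theorem cent_normal {G : Type u} [Group G] {S : Set G} (hS : ∀ g : G, ∀ x ∈ S, g * x * g⁻¹ ∈ S) : (Subgroup.centralizer S).Normal := by
  constructor
  intro y hy g
  rw [Subgroup.mem_centralizer_iff] at hy ⊢
  intro x hx
  have h1 := hy (g⁻¹ * x * g) (by
    have := hS g⁻¹ x hx
    rwa [inv_inv] at this)
  calc x * (g * y * g⁻¹) = g * (g⁻¹ * x * g * y) * g⁻¹ := by group
    _ = g * (y * (g⁻¹ * x * g)) * g⁻¹ := by rw [h1]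
    _ = g * y * g⁻¹ * x := by group

/-- the Fitting subgroup is not a `p`-group -/
theorem fit_two {G : Type u} [Group G] [Finite G] (hCN : IsCNGroup G) {F : Subgroup G} (hFn : F.Normal) (hFnil : Group.IsNilpotent F)
    (hmax : ∀ N : Subgroup G, N.Normal → Group.IsNilpotent N → N ≤ F) (h2 : ∀ p : ℕ, p.Prime → p ∣ Nat.card F → ∃ q : ℕ, q.Prime ∧ q ∣ Nat.card F ∧ q ≠ p) :
    ∀ x ∈ F, x ≠ 1 → ∀ y : G, y * x = x * y → y ∈ F := by
  intro x₀ hx₀ hx₀1 y hy₀
  obtain ⟨p, k, hp, hxo⟩ := exists_pow_prime hx₀1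
  obtain ⟨x, hxdef⟩ : ∃ x, x = x₀ ^ k := ⟨_, rfl⟩
  have hy : y * x = x * y := by
    rw [hxdef]; exact (Commute.pow_right (show Commute y x₀ from hy₀) k).eq
  rw [← hxdef] at hxo
  have hx : x ∈ F := by rw [hxdef]; exact F.pow_mem hx₀ k
  have ne1 : ∀ {w : G} {r : ℕ}, r.Prime → orderOf w = r → w ≠ 1 := by
    rintro w r hr hw rfl
    rw [orderOf_one] at hw
    exact hr.one_lt.ne hw
  have hx1 : x ≠ 1 := ne1 hp hxo
  have hpF : p ∣ Nat.card F := by
    have := orderOf_dvd_natCard (⟨x, hx⟩ : F)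
    rwa [Subgroup.orderOf_mk, hxo] at this
  obtain ⟨q, hq, hqF, hqp⟩ := h2 p hp hpF
  have hz : ∀ r : ℕ, r.Prime → r ∣ Nat.card F → ∃ z ∈ F, orderOf z = r ∧ ∀ y ∈ F, y * z = z * y := by
    intro r hr hd
    obtain ⟨z, hz, hzc⟩ := exists_central_prime hFnil hr hd
    exact ⟨z, z.2, by rw [Subgroup.orderOf_coe, hz], fun y hy => congrArg Subtype.val (hzc ⟨y, hy⟩)⟩
  obtain ⟨z, hzF, hzo, hzc⟩ := hz p hp hpF
  obtain ⟨w, hwF, hwo, hwc⟩ := hz q hq hqF
  obtain ⟨a, b, ha, hb, hab, -, ⟨i, hap⟩, hbp⟩ := CfsgLib.FgElt.exists_p_decomp hp y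
  have hax : a * x = x * a := CfsgLib.FgElt.commute_of_mem_zpowers ha hy
  have hbx : b * x = x * b := CfsgLib.FgElt.commute_of_mem_zpowers hb hy
  have hqp' : Nat.Coprime p q := (Nat.coprime_primes hp hq).mpr (Ne.symm hqp)
  -- `b` commutes with `z`, `a` commutes with `w`
  have hbz : b * z = z * b := cn_comm hCN hx1 hbx (hzc x hx).symm (by rw [hzo]; exact hbp)
  have haw : a * w = w * a := cn_comm hCN hx1 hax (hwc x hx).symm (by rw [hap, hwo]; exact Nat.Coprime.pow_left i hqp')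
  have hmem : ∀ (S : Set G) (v : G), (∀ g : G, ∀ x ∈ S, g * x * g⁻¹ ∈ S) → v ∈ S → v ≠ 1 → ∀ c : G, (∀ s ∈ S, c * s = s * c) → c ∈ F := by
    intro S v hS hv hv1 c hc
    refine hmax (Subgroup.centralizer S) (cent_normal hS) (nil_mono ?_ (hCN v hv1)) ?_
    · exact Subgroup.centralizer_le (Set.singleton_subset_iff.mpr hv)
    · rw [Subgroup.mem_centralizer_iff]
      intro s hs
      exact (hc s hs).symm
  have hco : ∀ g h : G, orderOf (g * h * g⁻¹) = orderOf h := fun g h => by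
    have : g * h * g⁻¹ = MulAut.conj g h := rfl
    rw [this]; exact MulEquiv.orderOf_eq _ h
  rw [← hab]
  apply F.mul_mem
  · apply hmem {s | s ∈ F ∧ (orderOf s).Coprime p} w
    · rintro g s ⟨hs1, hs2⟩
      exact ⟨hFn.conj_mem s hs1 g, by rw [hco]; exact hs2⟩
    · exact ⟨hwF, by rw [hwo]; exact hqp'.symm⟩
    · exact ne1 hq hwo
    · rintro s ⟨hs1, hs2⟩
      exact cn_comm hCN (ne1 hq hwo) haw (hwc s hs1) (by rw [hap]; exact Nat.Coprime.pow_left i hs2.symm)
  · apply hmem {s | s ∈ F ∧ ∃ i, orderOf s = p ^ i} z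
    · rintro g s ⟨hs1, hs2⟩
      exact ⟨hFn.conj_mem s hs1 g, by rw [hco]; exact hs2⟩
    · exact ⟨hzF, 1, by rw [hzo, pow_one]⟩
    · exact ne1 hp hzo
    · rintro s ⟨hs1, i, hs2⟩
      exact cn_comm hCN (ne1 hp hzo) hbz (hzc s hs1) (by rw [hs2]; exact Nat.Coprime.pow_right i hbp)

/-- fixed point freeness on a `p`-group containing its centralizer -/
theorem fpf_pcore {G : Type u} [Group G] [Finite G] (hCN : IsCNGroup G) {F : Subgroup G} {p : ℕ} [hp : Fact p.Prime] (hFn : F.Normal) (hFp : IsPGroup p F) (hF1 : F ≠ ⊥)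
    (hCF : Subgroup.centralizer (F : Set G) ≤ F) {t v : G} (ht : Nat.Coprime (orderOf t) p) (ht1 : t ≠ 1) (hv : v ∈ F) (hv1 : v ≠ 1) : t * v ≠ v * t := by
  intro h
  obtain ⟨P, hP⟩ := hFp.exists_le_sylow
  obtain ⟨m, hm⟩ := IsPGroup.iff_card.mp hFp
  have hpF : p ∣ Nat.card F := by
    rw [hm]
    apply dvd_pow_self
    rintro rfl
    rw [pow_zero] at hm
    exact hF1 (Subgroup.card_eq_one.mp hm)
  obtain ⟨⟨z, hzF⟩, hz, hzc⟩ := exists_central_prime hFp.isNilpotent hp.out hpF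
  rw [Subgroup.orderOf_mk] at hz
  have hz1 : z ≠ 1 := by
    rintro rfl
    rw [orderOf_one] at hz
    exact hp.out.one_lt.ne hz
  have hzc' : ∀ y ∈ F, y * z = z * y := fun y hy => congrArg Subtype.val (hzc ⟨y, hy⟩)
  have h1 : t * z = z * t := cn_comm hCN hv1 h (hzc' v hv).symm (by rw [hz]; exact ht)
  have h2 : t ∈ Subgroup.centralizer (F : Set G) := by
    rw [Subgroup.mem_centralizer_iff]
    intro w hw
    obtain ⟨k, hw'⟩ := orderOf_mem_pgroup hp.out hFp hw
    exact (cn_comm hCN hz1 h1 (hzc' w hw) (by rw [hw']; exact Nat.Coprime.pow_right k ht)).symm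
  obtain ⟨k, hk'⟩ := orderOf_mem_pgroup hp.out hFp (hCF h2)
  rw [hk'] at ht
  apply ht1
  rw [← orderOf_eq_one_iff, hk']
  rcases Nat.eq_zero_or_pos k with h0 | h0
  · rw [h0, pow_zero]
  · exfalso
    have := Nat.Coprime.coprime_dvd_left (dvd_pow_self p h0.ne') ht
    rw [Nat.coprime_self] at this
    exact hp.out.one_lt.ne' this

end CfsgLib.CNS
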