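import Cfsg.Agent.EqBase
import Cfsg.Agent.LibCNS4
/-!
# Solvable CN-groups (helper16): structure theorem
-/
set_option autoImplicit false
set_option linter.all false
open Cfsg
open scoped commutatorElement Pointwise
namespace CfsgLib.CNS

open CfsgLib.CNOdd CfsgLib.H6Zas

universe u

theorem ordPrime {G : Type u} [Group G] [Finite G] {T : Subgroup G} {p : ℕ} (hT : (Nat.card T).Coprime p) {t : G} (ht : t ∈ T) : (orderOf t).Coprime p := by
  have h1 : orderOf t ∣ Nat.card T := by
    have := orderOf_dvd_natCard (⟨t, ht⟩ : T)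
    rwa [Subgroup.orderOf_mk] at this
  exact Nat.Coprime.coprime_dvd_left h1 hT

theorem exists_invol_of_even {G : Type u} [Group G] [Finite G] {K : Subgroup G} (h : ¬ Odd (Nat.card K)) : ∃ t ∈ K, t * t = 1 ∧ t ≠ 1 ∧ orderOf t = 2 := by
  haveI := Fact.mk Nat.prime_two
  rw [Nat.not_odd_iff_even, even_iff_two_dvd] at h
  obtain ⟨⟨t, htK⟩, ht⟩ := exists_prime_orderOf_dvd_card' (G := K) 2 h
  rw [Subgroup.orderOf_mk] at ht
  refine ⟨t, htK, by rw [← pow_two, ← ht]; exact pow_orderOf_eq_one t, ?_, ht⟩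
  rintro rfl
  rw [orderOf_one] at ht
  exact absurd ht (by norm_num)

theorem fpf_conj {G : Type u} [Group G] [Finite G] {F T : Subgroup G} (hFn : F.Normal) (hF1 : F ≠ ⊥) (h : ∀ t ∈ T, t ≠ 1 → ∀ v ∈ F, v ≠ 1 → t * v ≠ v * t) : IsFpf T := by
  haveI := hFn
  haveI : Nontrivial F := (Subgroup.nontrivial_iff_ne_bot F).mpr hF1
  refine isFpf_of_action ((MulAut.conjNormal : G →* MulAut F).comp T.subtype) ?_
  intro g hg v hv
  by_contra hv1
  have h1 : (g : G) * v * (g : G)⁻¹ = v := by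
    have := congrArg Subtype.val hv
    simpa [MulAut.conjNormal_apply] using this
  have hg1 : (g : G) ≠ 1 := fun h => hg (Subtype.ext h)
  refine h g g.2 hg1 v v.2 (fun h => hv1 (Subtype.ext h)) ?_
  calc (g : G) * v = (g : G) * v * (g : G)⁻¹ * g := by group
    _ = v * g := by rw [h1]

/-- three-step groups -/
theorem three_step {G : Type u} [Group G] [Finite G] [Group.IsSolvable G] (hCN : IsCNGroup G) {p : ℕ} [hp : Fact p.Prime]
    (hF1 : pCore p G ≠ ⊥) (hCF : Subgroup.centralizer (pCore p G : Set G) ≤ pCore p G) {T : Subgroup G} {j : ℕ}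
    (hTp : (Nat.card T).Coprime p) (hTi : T.index = p ^ j) (hTF : pCore p G ⊔ T ≠ ⊤) : IsThreeStepGroup p G := by
  classical
  haveI := Fintype.ofFinite G
  have hFn : (pCore p G).Normal := inferInstance
  have hFp : IsPGroup p (pCore p G) := CfsgLib.Cores.pCore_isPGroup p
  have hfpf : ∀ t : G, Nat.Coprime (orderOf t) p → t ≠ 1 → ∀ v ∈ pCore p G, v ≠ 1 → t * v ≠ v * t := fun t ht ht1 v hv hv1 =>
    fpf_pcore hCN hFn hFp hF1 hCF ht ht1 hv hv1
  have hFpfT : IsFpf T := fpf_conj hFn hF1 (fun t ht ht1 => hfpf t (ordPrime hTp ht) ht1)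
  have hTnil : Group.IsNilpotent T := nil_of_fpf (cn_sub hCN T) hFpfT
  have hinf : ∀ x ∈ T, x ∈ pCore p G → x = 1 := by
    intro x hx hxF
    obtain ⟨k, hk⟩ := orderOf_mem_pgroup hp.out hFp hxF
    have h1 := ordPrime hTp hx
    rw [hk] at h1
    rw [← orderOf_eq_one_iff, hk]
    rcases Nat.eq_zero_or_pos k with h0 | h0
    · rw [h0, pow_zero]
    · exfalso
      have := Nat.Coprime.coprime_dvd_left (dvd_pow_self p h0.ne') h1
      rw [Nat.coprime_self] at this
      exact hp.out.one_lt.ne' this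
  set F := pCore p G with hFdef
  haveI := Fintype.ofFinite (G ⧸ F)
  set π := QuotientGroup.mk' F with hπ
  have hπs : Function.Surjective π := QuotientGroup.mk'_surjective F
  have hFs : Group.IsSolvable F := inferInstance
  have hCNQ : IsCNGroup (G ⧸ F) := cn_quot_solv _ G rfl F hFs hCN
  haveI hQs : Group.IsSolvable (G ⧸ F) := inferInstance
  have hKn : (fittingSubgroup (G ⧸ F)).Normal := inferInstance
  have hKnil : Group.IsNilpotent (fittingSubgroup (G ⧸ F)) := CfsgLib.Cores.fittingSubgroup_isNilpotent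
  have hCK : Subgroup.centralizer ((fittingSubgroup (G ⧸ F) : Subgroup (G ⧸ F)) : Set (G ⧸ F)) ≤ fittingSubgroup (G ⧸ F) := CfsgLib.Cores.centralizer_fittingSubgroup_le
  have hKp : ¬ p ∣ Nat.card (fittingSubgroup (G ⧸ F)) := by
    have h1 := CfsgLib.Cores.not_dvd_relIndex_pCore_of_normal_nilpotent hp.out (fittingSubgroup (G ⧸ F)) hKnil
    have h0 : pCore p (G ⧸ F) = ⊥ := CfsgLib.Cores.pCore_quotient_pCore p
    rwa [h0, Subgroup.relIndex_bot_left] at h1
  obtain ⟨K, hKdef⟩ : ∃ K, K = fittingSubgroup (G ⧸ F) := ⟨_, rfl⟩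
  rw [← hKdef] at hKn hKnil hCK hKp
  have hKc : (Nat.card K).Coprime p := ((Nat.Prime.coprime_iff_not_dvd hp.out).mpr hKp).symm
  obtain ⟨T', hT'⟩ : ∃ T', T' = T.map π := ⟨_, rfl⟩
  have hinj : Function.Injective (π.subgroupMap T) := by
    rw [injective_iff_map_eq_one]
    intro a ha
    have h1 : π (a : G) = 1 := congrArg Subtype.val ha
    exact Subtype.ext (hinf a a.2 ((QuotientGroup.eq_one_iff _).mp h1))
  let e : T ≃* T.map π := MulEquiv.ofBijective (π.subgroupMap T) ⟨hinj, π.subgroupMap_surjective T⟩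
  have hcardT' : Nat.card T' = Nat.card T := by rw [hT']; exact (Nat.card_congr e.toEquiv).symm
  have hFpfT' : IsFpf T' := by rw [hT']; exact hFpfT.of_injective e.symm.toMonoidHom e.symm.injective
  have hT'nil : Group.IsNilpotent T' := by rw [hT']; exact Group.nilpotent_of_mulEquiv e
  have hT'i : T'.index ∣ p ^ j := by
    rw [← hTi, hT']
    exact Subgroup.index_map_dvd T hπs
  have hT'p : (Nat.card T').Coprime p := by rw [hcardT']; exact hTp
  -- `K ≤ T'`
  have hKT : K ≤ T' := by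
    have h1 : Nat.card (T' ⊔ K : Subgroup (G ⧸ F)) ∣ Nat.card T' * Nat.card K := by
      haveI := hKn
      exact CfsgLib.Cores.card_sup_dvd_of_normal T' K
    have h2 : T'.relIndex (T' ⊔ K) ∣ T'.index := Subgroup.relIndex_dvd_index_of_le le_sup_left
    have h3 : T'.relIndex (T' ⊔ K) ∣ Nat.card (T' ⊔ K : Subgroup (G ⧸ F)) := Subgroup.relIndex_dvd_card _ _
    have h4 : T'.relIndex (T' ⊔ K) = 1 := by
      apply Nat.eq_one_of_dvd_coprimes (a := Nat.card T' * Nat.card K) (b := p ^ j) _ (h3.trans h1) (h2.trans hT'i)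
      exact Nat.Coprime.pow_right j (Nat.Coprime.mul_left hT'p hKc)
    rw [Subgroup.relIndex_eq_one] at h4
    exact le_sup_right.trans h4
  -- the preimage of `T'`
  have hcomap : T'.comap π = F ⊔ T := by
    rw [hT', Subgroup.comap_map_eq, hπ, QuotientGroup.ker_mk', sup_comm]
  have hT't : T' ≠ ⊤ := by
    intro h
    apply hTF
    rw [← hcomap, h, Subgroup.comap_top]
  have hQnn : ¬ Group.IsNilpotent (G ⧸ F) := by
    intro h
    apply hT't
    rw [eq_top_iff]
    refine le_trans ?_ hKT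
    rw [hKdef]
    apply CfsgLib.Cores.le_fittingSubgroup inferInstance
    haveI := h
    exact Group.nilpotent_of_mulEquiv Subgroup.topEquiv.symm
  haveI hQnt : Nontrivial (G ⧸ F) := by
    rw [← not_subsingleton_iff_nontrivial]
    intro h
    exact hQnn inferInstance
  have hK1 : K ≠ ⊥ := by
    intro h
    rw [h] at hCK
    have h1 : (⊤ : Subgroup (G ⧸ F)) ≤ ⊥ := by
      refine le_trans ?_ hCK
      intro x _
      rw [Subgroup.mem_centralizer_iff]
      rintro y hy
      rw [SetLike.mem_coe, Subgroup.mem_bot] at hy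
      rw [hy, one_mul, mul_one]
    exact top_ne_bot (le_bot_iff.mp h1)
  have hKodd : Odd (Nat.card K) := by
    by_contra hev
    obtain ⟨t, htK, htt, ht1, -⟩ := exists_invol_of_even hev
    apply hQnn
    refine nil_of_top (hCNQ t ht1) ?_
    rw [eq_top_iff]
    intro g _
    rw [Subgroup.mem_centralizer_singleton_iff]
    have hZ := hFpfT'.zc (z := ⟨t, hKT htK⟩) (Subtype.ext htt) (fun h => ht1 (congrArg Subtype.val h))
    have h1 : g * t * g⁻¹ ∈ K := hKn.conj_mem t htK g
    have h2 := hZ.uniq ⟨g * t * g⁻¹, hKT h1⟩ (Subtype.ext (by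
      show g * t * g⁻¹ * (g * t * g⁻¹) = 1
      calc g * t * g⁻¹ * (g * t * g⁻¹) = g * (t * t) * g⁻¹ := by group
        _ = 1 := by rw [htt]; group)) (by
      intro h
      have h3 : g * t * g⁻¹ = 1 := congrArg Subtype.val h
      apply ht1
      have : t = g⁻¹ * (g * t * g⁻¹) * g := by group
      rw [this, h3]; group)
    have h3 : g * t * g⁻¹ = t := congrArg Subtype.val h2
    calc g * t = g * t * g⁻¹ * g := by group
      _ = t * g := by rw [h3]
  have hFpfK : IsFpf K := hFpfT'.of_injective (Subgroup.inclusion hKT) (Subgroup.inclusion_injective hKT)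
  have hKcyc : IsCyclic K := cyclic_of_nil_odd hFpfK hKodd
  have hKcomm := comm_of_cyclic hKcyc
  have hT'odd : Odd (Nat.card T') := by
    by_contra hev
    obtain ⟨t, htT, htt, ht1, hto⟩ := exists_invol_of_even hev
    have h1 : t ∈ K := by
      apply hCK
      rw [Subgroup.mem_centralizer_iff]
      intro k hk
      apply CfsgLib.TransNil.commute_of_coprime_mem hT'nil (hKT hk) htT
      rw [hto]
      exact ordPrime (Nat.coprime_two_right.mpr hKodd) hk
    have h2 := ordPrime (Nat.coprime_two_right.mpr hKodd) h1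
    rw [hto] at h2
    norm_num at h2
  have hT'cyc : IsCyclic T' := cyclic_of_nil_odd hFpfT' hT'odd
  have hT'comm := comm_of_cyclic hT'cyc
  have hT'K : T' = K := by
    apply le_antisymm _ hKT
    intro x hx
    apply hCK
    rw [Subgroup.mem_centralizer_iff]
    intro k hk
    exact hT'comm k (hKT hk) x hx
  have hFT : F ⊔ T = K.comap π := by rw [← hcomap, hT'K]
  refine ⟨hF1, T, ?_, ?_, ?_, hTp, ?_, hTF, ?_, ?_, ?_⟩
  · rintro rfl
    apply hK1
    rw [← hT'K, hT', Subgroup.map_bot]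
  · apply cyclic_of_nil_odd hFpfT
    rw [← hcardT']; exact hT'odd
  · rw [← hcardT']; exact hT'odd
  · show (F ⊔ T).Normal
    rw [hFT]
    exact hKn.comap π
  · obtain ⟨n, -, hn⟩ := (Nat.dvd_prime_pow hp.out).mp (show (F ⊔ T).index ∣ p ^ j by
      rw [← hTi]; exact Subgroup.index_dvd_of_le le_sup_right)
    exact ⟨n, hn⟩
  · intro a ha ha1
    rw [eq_bot_iff]
    rintro v ⟨hv, hva⟩
    rw [Subgroup.mem_bot]
    by_contra hv1
    exact hfpf a (ordPrime hTp ha) ha1 v hv hv1 (Subgroup.mem_centralizer_singleton_iff.mp hva).symm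
  · intro x hx a ha ha1 hmem
    apply hx
    show x ∈ F ⊔ T
    rw [hFT, Subgroup.mem_comap]
    have haK : π a ∈ K := by
      rw [← hT'K, hT']
      exact ⟨a, ha, rfl⟩
    have hπa : π a ≠ 1 := by
      intro h
      exact ha1 (hinf a ha ((QuotientGroup.eq_one_iff _).mp h))
    have hcomm : π x * π a = π a * π x := by
      have h1 : π (x * a * x⁻¹ * a⁻¹) = 1 := (QuotientGroup.eq_one_iff _).mpr hmem
      rw [map_mul, map_mul, map_mul, map_inv, map_inv, mul_inv_eq_one, mul_inv_eq_iff_eq_mul] at h1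
      exact h1
    obtain ⟨u, v, hu, hv, huv, -, ⟨i, hup⟩, hvp⟩ := CfsgLib.FgElt.exists_p_decomp hp.out (π x)
    rw [← huv]
    apply K.mul_mem
    · apply hCK
      rw [Subgroup.mem_centralizer_iff]
      intro k hk
      have h1 : u * π a = π a * u := CfsgLib.FgElt.commute_of_mem_zpowers hu hcomm
      exact (cn_comm hCNQ hπa h1 (hKcomm k hk _ haK) (by
        rw [hup]; exact Nat.Coprime.pow_left i (ordPrime hKc hk).symm)).symm
    · apply CfsgLib.FrobK.mem_of_order hKn
      have h1 : K.index ∣ p ^ j := by rw [← hT'K]; exact hT'i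
      exact Nat.Coprime.coprime_dvd_right h1 (Nat.Coprime.pow_right j hvp)

theorem main_solv {G : Type u} [Group G] [Finite G] [hs : Group.IsSolvable G] (hCN : IsCNGroup G) :
    Group.IsNilpotent G ∨
      (∃ K E : Subgroup G, K.Normal ∧ Subgroup.IsComplement' K E ∧ Cfsg.IsFrobeniusComplement E ∧
        (IsCyclic E ∨ ∃ C Q : Subgroup G, C ⊔ Q = E ∧ (∀ a ∈ C, ∀ b ∈ Q, a * b = b * a) ∧ IsCyclic C ∧ Odd (Nat.card C) ∧
          ∃ n : ℕ, Nonempty (↥Q ≃* QuaternionGroup (2 ^ n)))) ∨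
      ∃ p : ℕ, p.Prime ∧ Cfsg.IsThreeStepGroup p G := by
  classical
  haveI := Fintype.ofFinite G
  by_cases hnil : Group.IsNilpotent G
  · exact Or.inl hnil
  right
  haveI hnt : Nontrivial G := by
    rw [← not_subsingleton_iff_nontrivial]
    intro h
    exact hnil inferInstance
  have hFn : (fittingSubgroup G).Normal := inferInstance
  have hFnil : Group.IsNilpotent (fittingSubgroup G) := CfsgLib.Cores.fittingSubgroup_isNilpotent
  have hmax : ∀ N : Subgroup G, N.Normal → Group.IsNilpotent N → N ≤ fittingSubgroup G := fun N h1 h2 => CfsgLib.Cores.le_fittingSubgroup h1 h2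
  have hCF : Subgroup.centralizer ((fittingSubgroup G : Subgroup G) : Set G) ≤ fittingSubgroup G := CfsgLib.Cores.centralizer_fittingSubgroup_le
  have hF1 : fittingSubgroup G ≠ ⊥ := by
    intro h
    rw [h] at hCF
    have h1 : (⊤ : Subgroup G) ≤ ⊥ := by
      refine le_trans ?_ hCF
      intro x _
      rw [Subgroup.mem_centralizer_iff]
      rintro y hy
      rw [SetLike.mem_coe, Subgroup.mem_bot] at hy
      rw [hy, one_mul, mul_one]
    exact top_ne_bot (le_bot_iff.mp h1)
  have hFt : fittingSubgroup G ≠ ⊤ := fun h => hnil (nil_of_top hFnil h)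
  have fr : (∀ x ∈ fittingSubgroup G, x ≠ 1 → ∀ y : G, y * x = x * y → y ∈ fittingSubgroup G) → (∃ K E : Subgroup G, K.Normal ∧ Subgroup.IsComplement' K E ∧ Cfsg.IsFrobeniusComplement E ∧
        (IsCyclic E ∨ ∃ C Q : Subgroup G, C ⊔ Q = E ∧ (∀ a ∈ C, ∀ b ∈ Q, a * b = b * a) ∧ IsCyclic C ∧ Odd (Nat.card C) ∧
          ∃ n : ℕ, Nonempty (↥Q ≃* QuaternionGroup (2 ^ n)))) := by
    intro hC
    obtain ⟨E, hKE, hfr, hE, hEF, hEn, hq⟩ := frob_out hCN hFn hC hF1 hFt
    exact ⟨_, E, hFn, hKE, hfr, nil_struct' hEn hEF⟩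
  by_cases h2 : ∀ p : ℕ, p.Prime → p ∣ Nat.card (fittingSubgroup G) → ∃ q : ℕ, q.Prime ∧ q ∣ Nat.card (fittingSubgroup G) ∧ q ≠ p
  · exact Or.inl (fr (fit_two hCN hFn hFnil hmax h2))
  push Not at h2
  obtain ⟨p, hp, hpF, hpu⟩ := h2
  haveI := Fact.mk hp
  have hFp : IsPGroup p (fittingSubgroup G) := by
    rw [IsPGroup.iff_card]
    exact ⟨_, Nat.eq_prime_pow_of_unique_prime_dvd Nat.card_pos.ne' (fun {d} hd hdd => hpu d hd hdd)⟩
  have hpc : fittingSubgroup G = pCore p G := le_antisymm (CfsgLib.Cores.le_pCore hFn hFp) (CfsgLib.Cores.pCore_le_fittingSubgroup p)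
  have hsplit := Nat.ordProj_mul_ordCompl_eq_self (Nat.card G) p
  have hcop := Nat.coprime_ordCompl hp (Nat.card_pos (α := G)).ne'
  obtain ⟨m, hm⟩ : ∃ m, m = ordCompl[p] (Nat.card G) := ⟨_, rfl⟩
  obtain ⟨j, hj⟩ : ∃ j, j = (Nat.card G).factorization p := ⟨_, rfl⟩
  rw [← hm, ← hj] at hsplit
  rw [← hm] at hcop
  obtain ⟨T, hT⟩ := CfsgLib.SolvHall.hall_exists _ G rfl m (p ^ j) (by rw [mul_comm]; exact hsplit.symm) (Nat.Coprime.pow_right j hcop.symm)
  have hTp : (Nat.card T).Coprime p := by rw [hT]; exact hcop.symm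
  have hTi : T.index = p ^ j := by
    have h1 := T.card_mul_index
    rw [hT, ← hsplit, mul_comm (p ^ j)] at h1
    exact Nat.eq_of_mul_eq_mul_left (by rw [← hT]; exact Nat.card_pos) h1
  by_cases hTF : fittingSubgroup G ⊔ T = ⊤
  · left
    apply fr
    intro x hx hx1 y hy
    obtain ⟨a, b, ha, hb, hab, -, ⟨i, hap⟩, hbp⟩ := CfsgLib.FgElt.exists_p_decomp hp y
    have hbx : b * x = x * b := CfsgLib.FgElt.commute_of_mem_zpowers hb hy
    have hb1 : b = 1 := by
      by_contra hb1
      exact fpf_pcore hCN hFn hFp hF1 hCF hbp hb1 hx hx1 hbx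
    rw [← hab, hb1, mul_one]
    apply CfsgLib.FrobK.mem_of_order hFn
    rw [hap]
    apply Nat.Coprime.pow_left
    have h1 : Function.Surjective ((QuotientGroup.mk' (fittingSubgroup G)).comp T.subtype) := by
      rw [← MonoidHom.range_eq_top, MonoidHom.range_comp, Subgroup.range_subtype, eq_top_iff]
      intro y _
      obtain ⟨g, rfl⟩ := QuotientGroup.mk'_surjective _ y
      have hg : g ∈ fittingSubgroup G ⊔ T := by rw [hTF]; trivial
      have h2 : (fittingSubgroup G ⊔ T).map (QuotientGroup.mk' (fittingSubgroup G)) = T.map (QuotientGroup.mk' (fittingSubgroup G)) := by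
        rw [Subgroup.map_sup, (Subgroup.map_eq_bot_iff _).mpr (by rw [QuotientGroup.ker_mk']), bot_sup_eq]
      rw [← h2]
      exact ⟨g, hg, rfl⟩
    have h2 := Subgroup.card_dvd_of_surjective _ h1
    rw [← Subgroup.index_eq_card] at h2
    exact (Nat.Coprime.coprime_dvd_left h2 hTp).symm
  · right
    refine ⟨p, hp, ?_⟩
    rw [hpc] at hF1 hCF hTF
    exact three_step hCN hF1 hCF hTp hTi hTF

end CfsgLib.CNS
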