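import Mathlib

set_option autoImplicit false

/-! lifting along a central quotient -/

namespace CfsgLib.CQ

variable {G : Type*} [Group G] {e : ℕ}

theorem exists_lift (he : ∀ z ∈ Subgroup.center G, z ^ e = 1) {m : ℕ} (hm : 1 < m) (hcop : Nat.Coprime e m) (a : G ⧸ Subgroup.center G) (ha : a ^ m = 1) :
    ∃ A : G, QuotientGroup.mk A = a ∧ A ^ m = 1 := by
  obtain ⟨A, rfl⟩ := QuotientGroup.mk_surjective a
  have h1 : (A ^ m) ∈ Subgroup.center G := by
    rw [← QuotientGroup.eq_one_iff]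
    exact ha
  have h2 := he _ h1
  obtain ⟨k, -, hk⟩ := Nat.exists_mul_mod_eq_one_of_coprime hcop hm
  refine ⟨A ^ (e * k), ?_, ?_⟩
  · rw [QuotientGroup.mk_pow, ← Nat.div_add_mod (e * k) m, hk, pow_add, pow_mul, ha, one_pow, one_mul, pow_one]
  · rw [← pow_mul, mul_comm, pow_mul, pow_mul, h2, one_pow]

theorem commute_lift (he : ∀ z ∈ Subgroup.center G, z ^ e = 1) {m : ℕ} (hcop : Nat.Coprime e m) (A B : G)
    (hAB : Commute (QuotientGroup.mk A : G ⧸ Subgroup.center G) (QuotientGroup.mk B)) (hA : A ^ m = 1) : Commute A B := by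
  have h1 : (A * B)⁻¹ * (B * A) ∈ Subgroup.center G := by
    rw [← QuotientGroup.eq]
    exact hAB
  set C := (A * B)⁻¹ * (B * A) with hC
  have hCc := h1
  rw [Subgroup.mem_center_iff] at hCc
  have h2 : B * A = A * B * C := by rw [hC, mul_inv_cancel_left]
  have h3 : B * A * B⁻¹ = A * C := by
    rw [h2, mul_assoc A B C, hCc B, ← mul_assoc, mul_inv_cancel_right]
  have h4 : C ^ m = 1 := by
    have h5 : (B * A * B⁻¹) ^ m = 1 := by rw [conj_pow, hA, mul_one, mul_inv_cancel]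
    rw [h3, Commute.mul_pow (hCc A), hA, one_mul] at h5
    exact h5
  have h5 : orderOf C ∣ 1 := by
    rw [← hcop]
    exact Nat.dvd_gcd (orderOf_dvd_of_pow_eq_one (he _ h1)) (orderOf_dvd_of_pow_eq_one h4)
  have h7 : C = 1 := orderOf_eq_one_iff.mp (Nat.dvd_one.mp h5)
  rw [h7, mul_one] at h2
  exact h2.symm

theorem order_mk (he : ∀ z ∈ Subgroup.center G, z ^ e = 1) (A : G) (hcop : Nat.Coprime (orderOf A) e) :
    orderOf (QuotientGroup.mk A : G ⧸ Subgroup.center G) = orderOf A := by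
  apply Nat.dvd_antisymm
  · apply orderOf_dvd_of_pow_eq_one
    rw [← QuotientGroup.mk_pow, pow_orderOf_eq_one]
    rfl
  · set m := orderOf (QuotientGroup.mk A : G ⧸ Subgroup.center G) with hm
    have h0 : (QuotientGroup.mk A : G ⧸ Subgroup.center G) ^ m = 1 := pow_orderOf_eq_one _
    have h1 : (A ^ m) ∈ Subgroup.center G := by
      rw [← QuotientGroup.eq_one_iff]
      exact h0
    have h2 : A ^ (m * e) = 1 := by rw [pow_mul, he _ h1]
    exact hcop.dvd_of_dvd_mul_right (orderOf_dvd_of_pow_eq_one h2)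

/-- commuting lifts of the two parts of an element of order `r * p` -/
theorem exists_pair (he : ∀ z ∈ Subgroup.center G, z ^ e = 1) {r p : ℕ} (hr : r.Prime) (hp : p.Prime) (her : Nat.Coprime e r) (hep : Nat.Coprime e p)
    (a b : G ⧸ Subgroup.center G) (ha : a ^ p = 1) (hb : b ^ r = 1) (ha1 : a ≠ 1) (hb1 : b ≠ 1) (hab : Commute a b) :
    ∃ A B : G, A ^ p = 1 ∧ B ^ r = 1 ∧ A ≠ 1 ∧ B ≠ 1 ∧ Commute A B := by
  obtain ⟨A, rfl, hA⟩ := exists_lift he hp.one_lt hep a ha
  obtain ⟨B, rfl, hB⟩ := exists_lift he hr.one_lt her b hb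
  refine ⟨A, B, hA, hB, ?_, ?_, commute_lift he hep A B hab hA⟩
  · rintro rfl; exact ha1 rfl
  · rintro rfl; exact hb1 rfl

end CfsgLib.CQ
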