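import Cfsg.Agent.LibChevCardH
import Cfsg.Agent.LibChevAll

set_option autoImplicit false
set_option maxRecDepth 100000

namespace CfsgLib.Chev

open Cfsg.Lie

theorem smith_G2 : tG2.SmithChk [[0, 1], [1, 2]] [[-2, 1], [1, 0]] [[1, 2], [0, 1]] [[1, -2], [0, 1]] [-1, 1] where
  h1 := by decide +kernel
  h2 := by decide +kernel
  h3 := by decide +kernel
  h4 := by decide +kernel

theorem smith_B2 : tB2.SmithChk [[0, 1], [1, 2]] [[-2, 1], [1, 0]] [[1, 2], [0, 1]] [[1, -2], [0, 1]] [-1, 2] where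
  h1 := by decide +kernel
  h2 := by decide +kernel
  h3 := by decide +kernel
  h4 := by decide +kernel

theorem smith_D4 : tD4.SmithChk [[1, 0, 0, 0], [2, 1, 0, 0], [3, 2, 1, 0], [2, 2, 1, 1]] [[1, 0, 0, 0], [-2, 1, 0, 0], [1, -2, 1, 0], [1, 0, -1, 1]] [[0, 0, 0, 1], [1, 0, 0, 2], [0, 1, -1, 1], [0, 0, 1, 2]] [[-2, 1, 0, 0], [-3, 0, 1, 1], [-2, 0, 0, 1], [1, 0, 0, 0]] [-1, -1, -2, 2] where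
  h1 := by decide +kernel
  h2 := by decide +kernel
  h3 := by decide +kernel
  h4 := by decide +kernel

theorem smith_F4 : tF4.SmithChk [[1, 0, 0, 0], [-1, 0, 1, 0], [2, 1, 0, 0], [2, 2, 2, 1]] [[1, 0, 0, 0], [-2, 0, 1, 0], [1, 1, 0, 0], [0, -2, -2, 1]] [[0, 0, 1, -2], [1, 0, 2, -4], [0, 0, 2, -3], [0, 1, 2, -2]] [[-2, 1, 0, 0], [2, 0, -2, 1], [-3, 0, 2, 0], [-2, 0, 1, 0]] [-1, -1, -1, -1] where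
  h1 := by decide +kernel
  h2 := by decide +kernel
  h3 := by decide +kernel
  h4 := by decide +kernel

theorem smith_E6 : tE6.SmithChk [[1, 0, 0, 0, 0, 0], [0, 1, 0, 0, 0, 0], [-1, 2, 0, 1, 0, 0], [-2, 3, 0, 2, 1, 0], [2, -1, 1, 0, 0, 0], [5, 0, 4, 3, 2, 1]] [[1, 0, 0, 0, 0, 0], [0, 1, 0, 0, 0, 0], [-2, 1, 0, 0, 1, 0], [1, -2, 1, 0, 0, 0], [0, 1, -2, 1, 0, 0], [0, 0, 1, -2, -4, 1]] [[0, 0, 0, 0, 1, -2], [0, 0, 0, 0, 2, -3], [1, 0, 0, 0, 2, -4], [0, 1, 0, 0, 4, -6], [0, 0, 1, 0, 4, -5], [0, 0, 0, 1, 4, -4]] [[-2, 0, 1, 0, 0, 0], [0, -2, 0, 1, 0, 0], [2, -3, 0, 0, 1, 0], [4, -4, 0, 0, 0, 1], [-3, 2, 0, 0, 0, 0], [-2, 1, 0, 0, 0, 0]] [-1, -1, -1, -1, -1, -3] where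
  h1 := by decide +kernel
  h2 := by decide +kernel
  h3 := by decide +kernel
  h4 := by decide +kernel

theorem smith_E7 : tE7.SmithChk [[1, 0, 0, 0, 0, 0, 0], [0, 1, 0, 0, 0, 0, 0], [-1, 2, 0, 1, 0, 0, 0], [-2, 3, 0, 2, 1, 0, 0], [-3, 4, 0, 3, 2, 1, 0], [2, -1, 1, 0, 0, 0, 0], [4, 1, 4, 4, 3, 2, 1]] [[1, 0, 0, 0, 0, 0, 0], [0, 1, 0, 0, 0, 0, 0], [-2, 1, 0, 0, 0, 1, 0], [1, -2, 1, 0, 0, 0, 0], [0, 1, -2, 1, 0, 0, 0], [0, 0, 1, -2, 1, 0, 0], [0, 0, 0, 1, -2, -4, 1]] [[0, 0, 0, 0, 0, 1, -2], [0, 0, 0, 0, 0, 2, -3], [1, 0, 0, 0, 0, 2, -4], [0, 1, 0, 0, 0, 4, -6], [0, 0, 1, 0, 0, 4, -5], [0, 0, 0, 1, 0, 4, -4], [0, 0, 0, 0, 1, 4, -3]] [[-2, 0, 1, 0, 0, 0, 0], [0, -2, 0, 1, 0, 0, 0], [2, -3, 0, 0, 1, 0, 0], [4, -4, 0, 0, 0, 1, 0], [6, -5, 0, 0, 0, 0, 1], [-3, 2, 0, 0, 0,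 0, 0], [-2, 1, 0, 0, 0, 0, 0]] [-1, -1, -1, -1, -1, -1, -2] where
  h1 := by decide +kernel
  h2 := by decide +kernel
  h3 := by decide +kernel
  h4 := by decide +kernel

theorem smith_E8 : tE8.SmithChk [[1, 0, 0, 0, 0, 0, 0, 0], [0, 1, 0, 0, 0, 0, 0, 0], [-1, 2, 0, 1, 0, 0, 0, 0], [-2, 3, 0, 2, 1, 0, 0, 0], [-3, 4, 0, 3, 2, 1, 0, 0], [-4, 5, 0, 4, 3, 2, 1, 0], [2, -1, 1, 0, 0, 0, 0, 0], [3, 2, 4, 5, 4, 3, 2, 1]] [[1, 0, 0, 0, 0, 0, 0, 0], [0, 1, 0, 0, 0, 0, 0, 0], [-2, 1, 0, 0, 0, 0, 1, 0], [1, -2, 1, 0, 0, 0, 0, 0], [0, 1, -2, 1, 0, 0, 0, 0], [0, 0, 1, -2, 1, 0, 0, 0], [0, 0, 0, 1, -2, 1, 0, 0], [0, 0, 0, 0, 1, -2, -4, 1]] [[0, 0, 0, 0, 0, 0, 1, -2], [0, 0, 0, 0, 0, 0, 2, -3], [1, 0, 0, 0, 0, 0, 2, -4], [0, 1, 0, 0, 0, 0, 4, -6], [0, 0, 1, 0, 0, 0, 4, -5], [0, 0,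 0, 1, 0, 0, 4, -4], [0, 0, 0, 0, 1, 0, 4, -3], [0, 0, 0, 0, 0, 1, 4, -2]] [[-2, 0, 1, 0, 0, 0, 0, 0], [0, -2, 0, 1, 0, 0, 0, 0], [2, -3, 0, 0, 1, 0, 0, 0], [4, -4, 0, 0, 0, 1, 0, 0], [6, -5, 0, 0, 0, 0, 1, 0], [8, -6, 0, 0, 0, 0, 0, 1], [-3, 2, 0, 0, 0, 0, 0, 0], [-2, 1, 0, 0, 0, 0, 0, 0]] [-1, -1, -1, -1, -1, -1, -1, -1] where
  h1 := by decide +kernel
  h2 := by decide +kernel
  h3 := by decide +kernel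
  h4 := by decide +kernel

end CfsgLib.Chev
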