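import Mathlib

set_option autoImplicit false

/-! If every 2-element of a finite group centralizes a Sylow 2-subgroup, the Sylow 2-subgroups are abelian (helper1). -/

namespace CfsgLib.CamHer

open Subgroup

universe u

variable {G : Type u} [Group G]

/-- `z` is central in `S`. -/
def Zc (S : Subgroup G) (z : G) : Prop := z ∈ S ∧ ∀ y ∈ S, y * z = z * y

theorem Zc.mul {S : Subgroup G} {a b : G} (ha : Zc S a) (hb : Zc S b) : Zc S (a * b) := by
  refine ⟨S.mul_mem ha.1 hb.1, fun y hy => ?_⟩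
  rw [← mul_assoc, ha.2 y hy, mul_assoc, hb.2 y hy, mul_assoc]

theorem Zc.inv {S : Subgroup G} {a : G} (ha : Zc S a) : Zc S a⁻¹ := by
  refine ⟨S.inv_mem ha.1, fun y hy => ?_⟩
  have := ha.2 y hy
  calc y * a⁻¹ = a⁻¹ * (a * y) * a⁻¹ := by group
    _ = a⁻¹ * (y * a) * a⁻¹ := by rw [this]
    _ = a⁻¹ * y := by group

theorem Zc.conj {S : Subgroup G} {a n : G} (ha : Zc S a) (hn : n ∈ normalizer (S : Set G)) : Zc S (n * a * n⁻¹) := by
  have h1 := mem_normalizer_iff.1 hn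
  refine ⟨(h1 a).1 ha.1, fun y hy => ?_⟩
  have h2 : n⁻¹ * y * n ∈ S := by
    rw [h1]
    rwa [show n * (n⁻¹ * y * n) * n⁻¹ = y by group]
  have h3 := ha.2 _ h2
  calc y * (n * a * n⁻¹) = n * ((n⁻¹ * y * n) * a) * n⁻¹ := by group
    _ = n * (a * (n⁻¹ * y * n)) * n⁻¹ := by rw [h3]
    _ = n * a * n⁻¹ * y := by group

variable [Finite G] (S : Sylow 2 G)

theorem burnside {z z' g : G} (hz : Zc (S : Subgroup G) z) (hz' : Zc (S : Subgroup G) z') (h : g * z * g⁻¹ = z') :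
    ∃ n ∈ normalizer ((S : Subgroup G) : Set G), n * z * n⁻¹ = z' := by
  have h1 : z ∈ centralizer ((S : Subgroup G) : Set G) := by
    rw [mem_centralizer_iff]; intro y hy; exact hz.2 y hy
  have h2 : (g⁻¹)⁻¹ * z * g⁻¹ ∈ centralizer ((S : Subgroup G) : Set G) := by
    rw [inv_inv, h, mem_centralizer_iff]; intro y hy; exact hz'.2 y hy
  obtain ⟨n, hn, e⟩ := Sylow.conj_eq_normalizer_conj_of_mem_centralizer S z g⁻¹ h1 h2
  refine ⟨n⁻¹, inv_mem hn, ?_⟩
  rw [inv_inv, ← e, inv_inv, h]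

theorem not_real {v g : G} (hv : Zc (S : Subgroup G) v) (h : g * v * g⁻¹ = v⁻¹) : v ^ 2 = 1 := by
  obtain ⟨n, hn, e⟩ := burnside S hv hv.inv h
  obtain ⟨a, m, hm, hom⟩ := Nat.exists_eq_two_pow_mul_odd (n := orderOf n) (orderOf_pos n).ne'
  have hk : ∀ k : ℕ, Odd k → n ^ k * v * (n ^ k)⁻¹ = v⁻¹ := by
    intro k hk
    obtain ⟨j, rfl⟩ := hk
    induction j with
    | zero => simpa using e
    | succ j ih =>
      have e2 : n * v⁻¹ * n⁻¹ = v := by
        have := congrArg (·⁻¹) e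
        simp only [mul_inv_rev, inv_inv] at this
        rw [mul_assoc]; exact this
      rw [show 2 * (j + 1) + 1 = 1 + 1 + (2 * j + 1) by ring, pow_add, pow_add, pow_one]
      calc n * n * n ^ (2 * j + 1) * v * (n * n * n ^ (2 * j + 1))⁻¹
          = n * (n * (n ^ (2 * j + 1) * v * (n ^ (2 * j + 1))⁻¹) * n⁻¹) * n⁻¹ := by group
        _ = v⁻¹ := by rw [ih, e2, e]
  have h2 : orderOf (n ^ m) = 2 ^ a := by
    rw [orderOf_pow, hom, Nat.gcd_eq_right (Dvd.intro_left _ rfl), Nat.mul_div_cancel _ (Odd.pos hm)]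
  have h3 : IsPGroup 2 ↥(zpowers (n ^ m)) := by
    apply IsPGroup.of_card (n := a)
    rw [Nat.card_zpowers, h2]
  have h4 := h3.inf_normalizer_sylow S
  have h5 : n ^ m ∈ (S : Subgroup G) := (h4.le ⟨mem_zpowers _, pow_mem hn m⟩).2
  have h6 := hk m hm
  rw [hv.2 _ h5, mul_inv_cancel_right] at h6
  rw [pow_two]
  nth_rewrite 2 [h6]
  exact mul_inv_cancel v

theorem main (h : ∀ x ∈ (S : Subgroup G), ∃ g : G, Zc (S : Subgroup G) (g * x * g⁻¹)) :
    ∀ x ∈ (S : Subgroup G), ∀ y ∈ (S : Subgroup G), x * y = y * x := by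
  by_contra hcon
  -- central squares
  have csq : ∀ q ∈ (S : Subgroup G), ∀ z, Zc (S : Subgroup G) z → (∃ g : G, g * (q ^ 2) * g⁻¹ = z) → ∃ c, Zc (S : Subgroup G) c ∧ c ^ 2 = z := by
    rintro q hq z hz ⟨g, hg⟩
    obtain ⟨g2, hv⟩ := h q hq
    set v := g2 * q * g2⁻¹ with hvd
    have e1 : v ^ 2 = g2 * q ^ 2 * g2⁻¹ := by rw [hvd, conj_pow]
    have hv2 : Zc (S : Subgroup G) (v ^ 2) := by rw [pow_two]; exact hv.mul hv
    obtain ⟨n, hn, e⟩ := burnside S (g := g * g2⁻¹) hv2 hz (by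
      rw [e1, ← hg]; group)
    refine ⟨n * v * n⁻¹, hv.conj hn, ?_⟩
    rw [conj_pow, e]
  -- choose x
  have hx : ∃ x ∈ (S : Subgroup G), ¬ Zc (S : Subgroup G) x ∧ Zc (S : Subgroup G) (x ^ 2) ∧
      ∀ s ∈ (S : Subgroup G), Zc (S : Subgroup G) (x⁻¹ * s * x * s⁻¹) := by
    have hne : center ↥(S : Subgroup G) ≠ ⊤ := by
      intro htop
      apply hcon
      intro x hx y hy
      have : (⟨x, hx⟩ : ↥(S : Subgroup G)) ∈ center ↥(S : Subgroup G) := by rw [htop]; trivial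
      exact (congrArg Subtype.val (mem_center_iff.1 this ⟨y, hy⟩)).symm
    have hnt : Nontrivial (↥(S : Subgroup G) ⧸ center ↥(S : Subgroup G)) := by
      rw [QuotientGroup.nontrivial_iff]
      exact hne
    have hp : IsPGroup 2 (↥(S : Subgroup G) ⧸ center ↥(S : Subgroup G)) := S.isPGroup'.to_quotient _
    have hc := hp.center_nontrivial
    have hp2 : IsPGroup 2 ↥(center (↥(S : Subgroup G) ⧸ center ↥(S : Subgroup G))) := hp.to_subgroup _
    have hdvd : 2 ∣ Nat.card ↥(center (↥(S : Subgroup G) ⧸ center ↥(S : Subgroup G))) := by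
      obtain ⟨k, hk⟩ := IsPGroup.iff_card.1 hp2
      rcases k with _ | k
      · rw [pow_zero] at hk
        exact absurd hk (Finite.one_lt_card).ne'
      · rw [hk, pow_succ]; exact Dvd.intro_left _ rfl
    obtain ⟨xb, hxb⟩ := exists_prime_orderOf_dvd_card' 2 hdvd
    obtain ⟨x, hx⟩ := QuotientGroup.mk_surjective (xb : ↥(S : Subgroup G) ⧸ center ↥(S : Subgroup G))
    have cen : ∀ u : ↥(S : Subgroup G), u ∈ center ↥(S : Subgroup G) → Zc (S : Subgroup G) (u : G) := by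
      intro u hu
      exact ⟨u.2, fun y hy => congrArg Subtype.val (mem_center_iff.1 hu ⟨y, hy⟩)⟩
    refine ⟨(x : G), x.2, ?_, ?_, ?_⟩
    · intro hz
      have h1 : x ∈ center ↥(S : Subgroup G) := by
        rw [mem_center_iff]; intro y; exact Subtype.ext (hz.2 y y.2)
      have h2 := (QuotientGroup.eq_one_iff x).2 h1
      rw [hx] at h2
      have h3 : xb = 1 := Subtype.ext h2
      rw [h3, orderOf_one] at hxb
      omega
    · have h1 : xb ^ 2 = 1 := by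
        have h0 := pow_orderOf_eq_one xb
        rwa [hxb] at h0
      have h2 : ((x ^ 2 : ↥(S : Subgroup G)) : ↥(S : Subgroup G) ⧸ center ↥(S : Subgroup G)) = 1 := by
        rw [QuotientGroup.mk_pow, hx]
        exact congrArg Subtype.val h1
      exact cen _ ((QuotientGroup.eq_one_iff _).1 h2)
    · intro s hs
      have h1 := mem_center_iff.1 xb.2 ((⟨s, hs⟩ : ↥(S : Subgroup G)) : ↥(S : Subgroup G) ⧸ center ↥(S : Subgroup G))
      have h2 : ((x⁻¹ * ⟨s, hs⟩ * x * (⟨s, hs⟩ : ↥(S : Subgroup G))⁻¹ : ↥(S : Subgroup G)) : ↥(S : Subgroup G) ⧸ center ↥(S : Subgroup G)) = 1 := by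
        rw [QuotientGroup.mk_mul, QuotientGroup.mk_mul, QuotientGroup.mk_mul, QuotientGroup.mk_inv, QuotientGroup.mk_inv, hx,
          mul_assoc _ _ (xb : ↥(S : Subgroup G) ⧸ center ↥(S : Subgroup G)), h1]
        group
      exact cen _ ((QuotientGroup.eq_one_iff _).1 h2)
  obtain ⟨x0, hx0, hx0n, hx0sq, hx0c⟩ := hx
  obtain ⟨b, hb, hb2⟩ := csq x0 hx0 (x0 ^ 2) hx0sq ⟨1, by group⟩
  set x := x0 * b⁻¹ with hxd
  have hxS : x ∈ (S : Subgroup G) := mul_mem hx0 (inv_mem hb.1)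
  have hx2 : x ^ 2 = 1 := by
    have h1 : x0 * b⁻¹ = b⁻¹ * x0 := hb.inv.2 x0 hx0
    rw [hxd, pow_two, mul_assoc, ← mul_assoc b⁻¹ x0, ← h1, mul_assoc, ← mul_assoc x0, ← pow_two, ← hb2]
    group
  have hxn : ¬ Zc (S : Subgroup G) x := by
    intro hz
    apply hx0n
    have := hz.mul hb
    rwa [hxd, inv_mul_cancel_right] at this
  obtain ⟨s, hs, hne⟩ : ∃ s ∈ (S : Subgroup G), s * x ≠ x * s := by
    by_contra hc
    push Not at hc
    exact hxn ⟨hxS, hc⟩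
  obtain ⟨z, hzZ, hsx⟩ : ∃ z, Zc (S : Subgroup G) z ∧ s * x * s⁻¹ = x * z := by
    refine ⟨x⁻¹ * s * x * s⁻¹, ?_, by group⟩
    have h1 := hx0c s hs
    have h2 : x⁻¹ * s * x * s⁻¹ = x0⁻¹ * s * x0 * s⁻¹ := by
      have h3 : b * s = s * b := (hb.2 s hs).symm
      have h4 : b⁻¹ * s⁻¹ = s⁻¹ * b⁻¹ := by
        rw [← mul_inv_rev, ← mul_inv_rev, h3]
      have h5 : x0 * b = b * x0 := hb.2 x0 hx0
      rw [hxd, mul_inv_rev, inv_inv]
      calc b * x0⁻¹ * s * (x0 * b⁻¹) * s⁻¹ = b * (x0⁻¹ * s * x0) * (b⁻¹ * s⁻¹) := by group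
        _ = b * (x0⁻¹ * s * x0) * (s⁻¹ * b⁻¹) := by rw [h4]
        _ = b * (x0⁻¹ * s * x0 * s⁻¹) * b⁻¹ := by group
        _ = (x0⁻¹ * s * x0 * s⁻¹) * b * b⁻¹ := by rw [h1.2 b hb.1]
        _ = x0⁻¹ * s * x0 * s⁻¹ := by group
    rw [h2]; exact h1
  have hxz : x * z = z * x := hzZ.2 x hxS
  have hz2 : z ^ 2 = 1 := by
    have h1 : (s * x * s⁻¹) ^ 2 = 1 := by rw [conj_pow, hx2]; group
    rw [hsx, (show Commute x z from hxz).mul_pow, hx2, one_mul] at h1
    exact h1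
  have hz1 : z ≠ 1 := by
    rintro rfl
    apply hne
    rw [mul_one] at hsx
    calc s * x = s * x * s⁻¹ * s := by group
      _ = x * s := by rw [hsx]
  have hsz : s * z = z * s := hzZ.2 s hs
  have hsx' : s * x = x * z * s := by rw [← hsx]; group
  -- key square
  have hkey : (x * s) ^ 2 = z * s ^ 2 := by
    rw [pow_two, pow_two]
    calc x * s * (x * s) = x * (s * x) * s := by group
      _ = x * (x * z * s) * s := by rw [hsx']
      _ = x ^ 2 * (z * (s * s)) := by rw [pow_two]; group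
      _ = z * (s * s) := by rw [hx2, one_mul]
  have hs2x : x * s ^ 2 = s ^ 2 * x := by
    rw [pow_two]
    calc x * (s * s) = x * z ^ 2 * s * s := by rw [hz2]; group
      _ = (x * z) * (z * s) * s := by rw [pow_two]; group
      _ = (x * z) * (s * z) * s := by rw [hsz]
      _ = (x * z * s) * z * s := by group
      _ = (s * x) * z * s := by rw [hsx']
      _ = s * (x * z * s) := by group
      _ = s * (s * x) := by rw [hsx']
      _ = s * s * x := by group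
  obtain ⟨g, hw⟩ := h s hs
  set w := g * s * g⁻¹ with hwd
  have hw2 : Zc (S : Subgroup G) (w ^ 2) := by rw [pow_two]; exact hw.mul hw
  have hgs2 : g * s ^ 2 * g⁻¹ = w ^ 2 := by rw [hwd, conj_pow]
  -- extension
  obtain ⟨k, hk, hkC⟩ : ∃ k : G, k * s ^ 2 * k⁻¹ = w ^ 2 ∧ ∀ y ∈ (S : Subgroup G), y * s ^ 2 = s ^ 2 * y → k * y * k⁻¹ ∈ (S : Subgroup G) := by
    set K : Subgroup G := centralizer ({w ^ 2} : Set G) with hK
    have hSK : (S : Subgroup G) ≤ K := by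
      intro y hy
      rw [hK, mem_centralizer_singleton_iff]
      exact hw2.2 y hy
    set C : Subgroup G := (S : Subgroup G) ⊓ centralizer ({s ^ 2} : Set G) with hC
    set D : Subgroup G := C.map (MulAut.conj g).toMonoidHom with hD
    have hDK : D ≤ K := by
      rintro _ ⟨y, hy, rfl⟩
      have hy2 := mem_centralizer_singleton_iff.1 hy.2
      rw [hK, mem_centralizer_singleton_iff, ← hgs2]
      change g * y * g⁻¹ * (g * s ^ 2 * g⁻¹) = g * s ^ 2 * g⁻¹ * (g * y * g⁻¹)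
      calc g * y * g⁻¹ * (g * s ^ 2 * g⁻¹) = g * (y * s ^ 2) * g⁻¹ := by group
        _ = g * (s ^ 2 * y) * g⁻¹ := by rw [hy2]
        _ = g * s ^ 2 * g⁻¹ * (g * y * g⁻¹) := by group
    have hDp : IsPGroup 2 ↥D := (S.isPGroup'.to_le inf_le_left).map _
    have hDp' : IsPGroup 2 ↥(D.subgroupOf K) :=
      hDp.of_injective ((subgroupOfEquivOfLe hDK).toMonoidHom) (MulEquiv.injective _)
    obtain ⟨T, hT⟩ := hDp'.exists_le_sylow
    obtain ⟨h', hh'⟩ := MulAction.exists_smul_eq ↥K T (S.subtype hSK)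
    refine ⟨(h' : G) * g, ?_, ?_⟩
    · have h1 := mem_centralizer_singleton_iff.1 h'.2
      rw [mul_inv_rev]
      calc (h' : G) * g * s ^ 2 * (g⁻¹ * (h' : G)⁻¹) = (h' : G) * (g * s ^ 2 * g⁻¹) * (h' : G)⁻¹ := by group
        _ = w ^ 2 := by rw [hgs2, h1]; group
    · intro y hy hys
      have h1 : g * y * g⁻¹ ∈ D := ⟨y, ⟨hy, mem_centralizer_singleton_iff.2 hys⟩, rfl⟩
      have h2 : (⟨g * y * g⁻¹, hDK h1⟩ : ↥K) ∈ (T : Subgroup ↥K) := hT h1
      have h3 : h' * (⟨g * y * g⁻¹, hDK h1⟩ : ↥K) * h'⁻¹ ∈ ((h' • T : Sylow 2 ↥K) : Subgroup ↥K) :=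
        Subgroup.smul_mem_pointwise_smul _ (MulAut.conj h') _ h2
      rw [hh'] at h3
      have h4 : (h' : G) * (g * y * g⁻¹) * (h' : G)⁻¹ ∈ (S : Subgroup G) := h3
      rw [mul_inv_rev]
      rwa [show (h' : G) * g * y * (g⁻¹ * (h' : G)⁻¹) = (h' : G) * (g * y * g⁻¹) * (h' : G)⁻¹ by group]
  have hS2 : k * s * k⁻¹ ∈ (S : Subgroup G) := hkC s hs (by rw [pow_two]; group)
  have hS1 : k * x * k⁻¹ ∈ (S : Subgroup G) := hkC x hxS hs2x
  set q : G := k * x * k⁻¹ * (k * s * k⁻¹) * w⁻¹ with hq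
  have hqS : q ∈ (S : Subgroup G) := mul_mem (mul_mem hS1 hS2) (inv_mem hw.1)
  have hq2 : q ^ 2 = k * z * k⁻¹ := by
    have h1 : (k * x * k⁻¹ * (k * s * k⁻¹)) * w⁻¹ = w⁻¹ * (k * x * k⁻¹ * (k * s * k⁻¹)) := hw.inv.2 _ (mul_mem hS1 hS2)
    rw [hq, (show Commute _ _ from h1).mul_pow, inv_pow, ← hk, show k * x * k⁻¹ * (k * s * k⁻¹) = k * (x * s) * k⁻¹ by group, conj_pow,
      hkey]
    group
  obtain ⟨c, hc, hc2⟩ := csq q hqS z hzZ ⟨k⁻¹, by rw [hq2]; group⟩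
  have hxc : x * c = c * x := hc.2 x hxS
  set r := x * c with hr
  have hr2 : r ^ 2 = z := by rw [hr, (show Commute x c from hxc).mul_pow, hx2, hc2, one_mul]
  have hrS : r ∈ (S : Subgroup G) := mul_mem hxS hc.1
  have hrr : s * r * s⁻¹ = r⁻¹ := by
    have h1 : s * c = c * s := hc.2 s hs
    have h2 : s * r * s⁻¹ = r * z := by
      calc s * r * s⁻¹ = s * x * (c * s⁻¹) := by rw [hr]; group
        _ = s * x * (s⁻¹ * c) := by
            rw [show c * s⁻¹ = s⁻¹ * (s * c) * s⁻¹ by group, h1]; group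
        _ = (s * x * s⁻¹) * c := by group
        _ = x * z * c := by rw [hsx]
        _ = x * (z * c) := by group
        _ = x * (c * z) := by rw [hzZ.2 c hc.1]
        _ = r * z := by rw [hr]; group
    rw [h2]
    have h3 : r * z * r = 1 := by
      have h4 : z * r = r * z := (hzZ.2 r hrS).symm
      rw [mul_assoc, h4, ← mul_assoc, ← pow_two, hr2, ← pow_two, hz2]
    exact eq_inv_of_mul_eq_one_left h3
  obtain ⟨g3, hv'⟩ := h r hrS
  have h9 := not_real S (g := g3 * s * g3⁻¹) hv' (by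
    calc g3 * s * g3⁻¹ * (g3 * r * g3⁻¹) * (g3 * s * g3⁻¹)⁻¹ = g3 * (s * r * s⁻¹) * g3⁻¹ := by group
      _ = (g3 * r * g3⁻¹)⁻¹ := by rw [hrr]; group)
  rw [conj_pow, hr2] at h9
  apply hz1
  have : z = g3⁻¹ * (g3 * z * g3⁻¹) * g3 := by group
  rw [this, h9]; group

theorem zc_of_sylow {x : G} (hx : x ∈ (S : Subgroup G)) (Q : Sylow 2 G) (hQ : (Q : Subgroup G) ≤ centralizer ({x} : Set G)) :
    ∃ g : G, Zc (S : Subgroup G) (g * x * g⁻¹) := by
  have hxp : IsPGroup 2 ↥(zpowers x) := S.isPGroup'.to_le (by rwa [zpowers_le])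
  have hxN : x ∈ normalizer ((Q : Subgroup G) : Set G) := by
    rw [mem_normalizer_iff]
    intro y
    have h1 : ∀ u ∈ (Q : Subgroup G), x * u * x⁻¹ = u := by
      intro u hu
      have := mem_centralizer_singleton_iff.1 (hQ hu)
      rw [← this]; group
    constructor
    · intro hy; rw [h1 y hy]; exact hy
    · intro hy
      have h2 := h1 _ hy
      have h3 : x * y * x⁻¹ = y := by
        have h4 : x⁻¹ * (x * (x * y * x⁻¹) * x⁻¹) * x = x⁻¹ * (x * y * x⁻¹) * x := by rw [h2]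
        have h5 : x⁻¹ * (x * (x * y * x⁻¹) * x⁻¹) * x = x * y * x⁻¹ := by group
        have h6 : x⁻¹ * (x * y * x⁻¹) * x = y := by group
        rw [h5, h6] at h4; exact h4
      rwa [h3] at hy
  have hxQ : x ∈ (Q : Subgroup G) := ((hxp.inf_normalizer_sylow Q).le ⟨mem_zpowers x, hxN⟩).2
  obtain ⟨g, rfl⟩ := MulAction.exists_smul_eq G S Q
  refine ⟨g⁻¹, ?_, ?_⟩
  · obtain ⟨y, hy, e⟩ := hxQ
    have e' : g * y * g⁻¹ = x := e
    rw [← e', inv_inv]
    rwa [show g⁻¹ * (g * y * g⁻¹) * g = y by group]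
  · intro y hy
    have h1 : g * y * g⁻¹ ∈ ((g • S : Sylow 2 G) : Subgroup G) := ⟨y, hy, rfl⟩
    have h2 := mem_centralizer_singleton_iff.1 (hQ h1)
    rw [inv_inv]
    calc y * (g⁻¹ * x * g) = g⁻¹ * ((g * y * g⁻¹) * x) * g := by group
      _ = g⁻¹ * (x * (g * y * g⁻¹)) * g := by rw [h2]
      _ = g⁻¹ * x * g * y := by group

end CfsgLib.CamHer
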