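import Mathlib
import Cfsg.Agent.EqBase
import Cfsg.Agent.LibBlockM
import Cfsg.Agent.LibBlockSec3
import Cfsg.Agent.LibCharIndA

/-!
# Contributions of a block (helper18)
-/

set_option autoImplicit false
set_option linter.unusedSectionVars false
set_option linter.style.haveILetI false
set_option linter.unusedSimpArgs false
set_option linter.unusedVariables false

namespace CfsgLib.Car

open CfsgLib.CharInt hiding irr_isCharacter irr_classFun irr_one_ne_zero schur_scalar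
open Cfsg CfsgLib.CharInt2 CfsgLib.CharBasic CfsgLib.BlockR CfsgLib.BlockCore
  CfsgLib.BlockIdem CfsgLib.BlockIdeal CfsgLib.BlockConj CfsgLib.BlockBrauer CfsgLib.BlockInd
  CfsgLib.BlockFMT CfsgLib.BlockFMT2 CfsgLib.PLocalInd CfsgLib.BlockOrth CfsgLib.BlockDefect
  CfsgLib.BlockReg CfsgLib.BlockReg2 CfsgLib.BlockCount CfsgLib.BlockCount2 CfsgLib.BlockQP
  CfsgLib.BlockCov3 CfsgLib.BlockCov4 CfsgLib.BlockLoc CfsgLib.BlockM CfsgLib.BlockSec3
  CfsgLib.CharNorm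
open scoped ComplexConjugate

universe u

variable {M : Ideal AlgInt} {p : ℕ} [Fact p.Prime] {G : Type u} [Group G] [Fintype G]

/-- the integer `p^d [χ⁰, ψ]` (for `χ ∈ B`) -/
noncomputable def mm (p : ℕ) [Fact p.Prime] (B : Set (IrrCharacter G)) (χ ψ : IrrCharacter G) : ℤ :=
  cc p χ ψ / (p ^ ((Nat.card G).factorization p - blockDefect p B) : ℕ)

theorem cc_eq (hM : IsPModular p M) {B : Set (IrrCharacter G)} (hB : IsPBlock M B)
    {χ : IrrCharacter G} (hχ : χ ∈ B) (ψ : IrrCharacter G) :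
    cc p χ ψ = (p ^ ((Nat.card G).factorization p - blockDefect p B) : ℕ) * mm p B χ ψ := by
  obtain ⟨m, hm, -⟩ := exists_m hM hB hχ
  unfold mm
  rw [hm ψ, Int.mul_ediv_cancel_left]
  exact_mod_cast (pow_pos (Fact.out : p.Prime).pos _).ne'

theorem mm_spec (hM : IsPModular p M) {B : Set (IrrCharacter G)} (hB : IsPBlock M B)
    {χ : IrrCharacter G} (hχ : χ ∈ B) (ψ : IrrCharacter G) :
    ((p ^ blockDefect p B : ℕ) : ℂ) * classInner (reg p (χ : G → ℂ)) (ψ : G → ℂ) = mm p B χ ψ := by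
  have h1 := cc_spec (p := p) χ ψ
  rw [cc_eq hM hB hχ ψ] at h1
  have h2 : (p ^ (Nat.card G).factorization p : ℕ) =
      p ^ ((Nat.card G).factorization p - blockDefect p B) * p ^ blockDefect p B := by
    rw [← pow_add]; congr 1
    have := defect_le p B
    omega
  rw [h2] at h1
  push_cast at h1 ⊢
  have h3 : ((p : ℂ) ^ ((Nat.card G).factorization p - blockDefect p B)) ≠ 0 := by
    apply pow_ne_zero
    exact_mod_cast (Fact.out : p.Prime).ne_zero
  rw [mul_assoc] at h1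
  exact mul_left_cancel₀ h3 h1

theorem mm_symm {B : Set (IrrCharacter G)} (χ ψ : IrrCharacter G) : mm p B χ ψ = mm p B ψ χ := by
  unfold mm; rw [cc_symm]

theorem mm_out (hM : IsPModular p M) {B : Set (IrrCharacter G)} (hB : IsPBlock M B)
    {χ : IrrCharacter G} (hχ : χ ∈ B) {ψ : IrrCharacter G} (hψ : ψ ∉ B) : mm p B χ ψ = 0 := by
  unfold mm
  rw [cc_eq_zero hM hB hχ hψ]
  simp

theorem sum_mm_sq (hM : IsPModular p M) {B : Set (IrrCharacter G)} (hB : IsPBlock M B)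
    {χ : IrrCharacter G} (hχ : χ ∈ B) : ∑ ψ : IrrCharacter G, (mm p B χ ψ) ^ 2 =
      (p ^ blockDefect p B : ℕ) * mm p B χ χ := by
  obtain ⟨m, hm, hs⟩ := exists_m hM hB hχ
  have h1 : ∀ ψ, mm p B χ ψ = m ψ := by
    intro ψ
    unfold mm
    rw [hm ψ, Int.mul_ediv_cancel_left]
    exact_mod_cast (pow_pos (Fact.out : p.Prime).pos _).ne'
  simp only [h1]
  exact hs

theorem mm_dvd (hM : IsPModular p M) {B : Set (IrrCharacter G)} (hB : IsPBlock M B)
    {χ ψ : IrrCharacter G} (hχ : χ ∈ B) (hψ : ψ ∈ B) :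
    ((p ^ blockHeight p B (ψ : G → ℂ) : ℕ) : ℤ) ∣ mm p B χ ψ := by
  have hda := defect_le p B
  have hdeg := degree_eq hM hB hψ
  have h1 : p ^ ((Nat.card G).factorization p - blockDefect p B + blockHeight p B (ψ : G → ℂ)) ∣
      charDegree (ψ : G → ℂ) := by
    rw [Nat.Prime.pow_dvd_iff_le_factorization (Fact.out : p.Prime) (irr_charDegree_pos ψ.2).ne']
    omega
  have h2 := cc_dvd hM χ ψ h1
  rw [cc_eq hM hB hχ ψ, pow_add, Nat.cast_mul] at h2
  exact Int.dvd_of_mul_dvd_mul_left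
    (by exact_mod_cast (pow_pos (Fact.out : p.Prime).pos _).ne') h2

theorem mm_not_dvd (hM : IsPModular p M) {B : Set (IrrCharacter G)} (hB : IsPBlock M B)
    {χ ψ : IrrCharacter G} (hχ : χ ∈ B) (h0 : blockHeight p B (χ : G → ℂ) = 0) (hψ : ψ ∈ B) :
    ¬ ((p ^ (blockHeight p B (ψ : G → ℂ) + 1) : ℕ) : ℤ) ∣ mm p B χ ψ := by
  have hda := defect_le p B
  have hdeg := degree_eq hM hB hψ
  intro h
  have h1 := (cc_unit_iff hM hB hχ hψ).mpr h0
  apply h1
  obtain ⟨c, hc⟩ := h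
  have hp := isPrime_of_modular hM
  rw [cc_eq hM hB hχ ψ, hc]
  have h2 : (((p ^ ((Nat.card G).factorization p - blockDefect p B) : ℕ) : ℤ) *
      (((p ^ (blockHeight p B (ψ : G → ℂ) + 1) : ℕ) : ℤ) * c) : ℤ) =
      ((p ^ ((charDegree (ψ : G → ℂ)).factorization p + 1) : ℕ) : ℤ) * c := by
    rw [← mul_assoc, ← Nat.cast_mul, ← pow_add]
    congr 3
    omega
  rw [h2]
  push_cast
  rw [mul_comm, mul_div_assoc]
  apply ideal_mul_left hp (ring_int hp c)
  have h3 := ideal_div_nat hM (m := p ^ ((charDegree (ψ : G → ℂ)).factorization p + 1))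
    (n := charDegree (ψ : G → ℂ)) (irr_charDegree_pos ψ.2).ne' (by
      rw [(Fact.out : p.Prime).factorization_pow]; simp)
  push_cast at h3
  exact h3

theorem mm_ne_zero (hM : IsPModular p M) {B : Set (IrrCharacter G)} (hB : IsPBlock M B)
    {χ ψ : IrrCharacter G} (hχ : χ ∈ B) (h0 : blockHeight p B (χ : G → ℂ) = 0) (hψ : ψ ∈ B) :
    mm p B χ ψ ≠ 0 := by
  intro h
  apply mm_not_dvd hM hB hχ h0 hψ
  rw [h]; exact dvd_zero _

/-- `p^d χ⁰ = Σ m(χ,ψ) ψ` -/
theorem pow_mul_reg (hM : IsPModular p M) {B : Set (IrrCharacter G)} (hB : IsPBlock M B)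
    {χ : IrrCharacter G} (hχ : χ ∈ B) (g : G) :
    ((p ^ blockDefect p B : ℕ) : ℂ) * reg p (χ : G → ℂ) g =
      ∑ ψ : IrrCharacter G, (mm p B χ ψ : ℂ) * (ψ : G → ℂ) g := by
  have h1 := classFun_expand (reg_classFun (p := p) (irr_classFun χ.2))
  have h2 := congrFun h1 g
  rw [h2, Finset.sum_apply, Finset.mul_sum]
  refine Finset.sum_congr rfl fun ψ _ => ?_
  rw [← mm_spec hM hB hχ ψ]
  show _ * (classInner _ _ * _) = _
  ring

theorem sum_ite_ind (B : Set (IrrCharacter G)) (F : IrrCharacter G → ℂ) :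
    ∑ᶠ χ ∈ B, F χ = ∑ χ : IrrCharacter G, ind B χ * F χ := (sum_ind B F).symm

theorem reg_sum {ι : Type*} (s : Finset ι) (F : ι → G → ℂ) (g : G) :
    reg p (fun x => ∑ i ∈ s, F i x) g = ∑ i ∈ s, reg p (F i) g := by
  by_cases hg : p ∣ orderOf g
  · rw [reg_not hg]
    symm
    exact Finset.sum_eq_zero fun i _ => reg_not hg
  · rw [reg_of hg]
    exact Finset.sum_congr rfl fun i _ => (reg_of hg).symm

theorem reg_smul' (c : ℂ) (F : G → ℂ) (g : G) :
    reg p (fun x => c * F x) g = c * reg p F g := by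
  by_cases hg : p ∣ orderOf g
  · rw [reg_not hg, reg_not hg, mul_zero]
  · rw [reg_of hg, reg_of hg]

/-- S4666 -/
theorem reg_comb (hM : IsPModular p M) {B : Set (IrrCharacter G)} (hB : IsPBlock M B)
    {χ : G → ℂ} {n : IrrCharacter G → ℤ} (hn : ∀ g, χ g = ∑ᶠ ψ ∈ B, (n ψ : ℂ) * (ψ : G → ℂ) g) :
    ∃ n' : IrrCharacter G → ℤ, ∀ g : G, ((p ^ blockDefect p B : ℕ) : ℂ) * reg p χ g =
      ∑ᶠ ψ ∈ B, (n' ψ : ℂ) * (ψ : G → ℂ) g := by
  classical
  refine ⟨fun θ => ∑ ψ : IrrCharacter G, if ψ ∈ B then n ψ * mm p B ψ θ else 0, fun g => ?_⟩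
  have e1 : χ = fun g => ∑ ψ : IrrCharacter G, (ind B ψ * (n ψ : ℂ)) * (ψ : G → ℂ) g := by
    funext g
    rw [hn g, sum_ite_ind]
    refine Finset.sum_congr rfl fun ψ _ => by ring
  rw [e1, reg_sum]
  simp only [reg_smul']
  rw [Finset.mul_sum, sum_ite_ind]
  have e2 : ∀ ψ : IrrCharacter G, ((p ^ blockDefect p B : ℕ) : ℂ) *
      ((ind B ψ * (n ψ : ℂ)) * reg p (ψ : G → ℂ) g) =
      ∑ θ : IrrCharacter G, (if ψ ∈ B then (n ψ : ℂ) * (mm p B ψ θ : ℂ) else 0) *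
        (ind B θ * (θ : G → ℂ) g) := by
    intro ψ
    by_cases hψ : ψ ∈ B
    · rw [ind_of hψ, one_mul]
      have := pow_mul_reg hM hB hψ g
      rw [mul_left_comm, this, Finset.mul_sum]
      refine Finset.sum_congr rfl fun θ _ => ?_
      rw [if_pos hψ]
      by_cases hθ : θ ∈ B
      · rw [ind_of hθ]; ring
      · rw [mm_out hM hB hψ hθ]; simp
    · rw [ind_not hψ]
      simp [hψ]
  rw [Finset.sum_congr rfl fun ψ _ => e2 ψ, Finset.sum_comm]
  refine Finset.sum_congr rfl fun θ _ => ?_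
  rw [← Finset.sum_mul]
  push_cast
  ring

/-- S4676 -/
theorem brauer_feit_weighted (hM : IsPModular p M) {B : Set (IrrCharacter G)} (hB : IsPBlock M B) :
    ∑ᶠ χ ∈ B, p ^ (2 * blockHeight p B (χ : G → ℂ)) ≤ (p ^ blockDefect p B) ^ 2 / 4 + 1 := by
  classical
  obtain ⟨χ, hχ, h0⟩ := exists_height_zero hM hB
  have h0' : blockHeight p B (χ : G → ℂ) = 0 := (height_zero_iff hM hB hχ).mpr h0
  have hs := sum_mm_sq hM hB hχ
  rw [finsum_mem_eq_finite_toFinset_sum _ (Set.toFinite B)]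
  have h1 : ∀ ψ ∈ B, ((p ^ (2 * blockHeight p B (ψ : G → ℂ)) : ℕ) : ℤ) ≤ (mm p B χ ψ) ^ 2 := by
    intro ψ hψ
    obtain ⟨c, hc⟩ := mm_dvd hM hB hχ hψ
    have hne := mm_ne_zero hM hB hχ h0' hψ
    have hc0 : c ≠ 0 := by rintro rfl; exact hne (by rw [hc, mul_zero])
    rw [hc, mul_pow]
    have h2 : (1 : ℤ) ≤ c ^ 2 := by
      have : 0 < c ^ 2 := by positivity
      omega
    have h3 : ((p ^ (2 * blockHeight p B (ψ : G → ℂ)) : ℕ) : ℤ) =
        ((p ^ blockHeight p B (ψ : G → ℂ) : ℕ) : ℤ) ^ 2 := by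
      push_cast; rw [← pow_mul]; ring_nf
    rw [h3]
    nlinarith [sq_nonneg ((p ^ blockHeight p B (ψ : G → ℂ) : ℕ) : ℤ)]
  have hmem : χ ∈ (Set.toFinite B).toFinset := by simpa using hχ
  rw [← Finset.sum_erase_add _ _ hmem, h0', mul_zero, pow_zero]
  have h4 : ((∑ ψ ∈ (Set.toFinite B).toFinset.erase χ,
      p ^ (2 * blockHeight p B (ψ : G → ℂ)) : ℕ) : ℤ) + (mm p B χ χ) ^ 2 ≤
      (p ^ blockDefect p B : ℕ) * mm p B χ χ := by
    rw [← hs, Nat.cast_sum]
    have h5 : ∑ ψ ∈ (Set.toFinite B).toFinset.erase χ, (mm p B χ ψ) ^ 2 + (mm p B χ χ) ^ 2 ≤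
        ∑ ψ : IrrCharacter G, (mm p B χ ψ) ^ 2 := by
      rw [Finset.sum_erase_add _ _ hmem]
      exact Finset.sum_le_sum_of_subset_of_nonneg (Finset.subset_univ _) fun ψ _ _ => sq_nonneg _
    refine le_trans (add_le_add (Finset.sum_le_sum fun ψ hψ => ?_) le_rfl) h5
    apply h1
    have := Finset.mem_of_mem_erase hψ
    simpa using this
  have h6 : 4 * ((∑ ψ ∈ (Set.toFinite B).toFinset.erase χ,
      p ^ (2 * blockHeight p B (ψ : G → ℂ)) : ℕ) : ℤ) ≤ ((p ^ blockDefect p B : ℕ) : ℤ) ^ 2 := by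
    nlinarith [sq_nonneg (((p ^ blockDefect p B : ℕ) : ℤ) - 2 * mm p B χ χ)]
  have h7 : 4 * (∑ ψ ∈ (Set.toFinite B).toFinset.erase χ,
      p ^ (2 * blockHeight p B (ψ : G → ℂ))) ≤ (p ^ blockDefect p B) ^ 2 := by
    exact_mod_cast h6
  have h8 : (∑ ψ ∈ (Set.toFinite B).toFinset.erase χ,
      p ^ (2 * blockHeight p B (ψ : G → ℂ))) ≤ (p ^ blockDefect p B) ^ 2 / 4 := by
    rw [Nat.le_div_iff_mul_le (by norm_num)]
    linarith
  exact Nat.add_le_add_right h8 1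

/-- S4665 -/
theorem pow_dvd_of_reg_comb (hM : IsPModular p M) {B : Set (IrrCharacter G)}
    {χ : G → ℂ} {n : IrrCharacter G → ℤ}
    (hn : ∀ g, reg p χ g = ∑ᶠ ψ ∈ B, (n ψ : ℂ) * (ψ : G → ℂ) g) :
    ∃ k : ℤ, χ 1 = ((p ^ (Nat.card G).factorization p : ℕ) : ℂ) * k := by
  classical
  have hpp : p.Prime := Fact.out
  obtain ⟨P⟩ : Nonempty (Sylow p G) := inferInstance
  letI : Fintype (P : Subgroup G) := Fintype.ofFinite _
  have hcard : Nat.card (P : Subgroup G) = p ^ (Nat.card G).factorization p := P.card_eq_multiplicity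
  have h1 : ∀ ψ : IrrCharacter G, ∃ k : ℤ, ∑ x : (P : Subgroup G), (ψ : G → ℂ) x =
      ((p ^ (Nat.card G).factorization p : ℕ) : ℂ) * k := by
    intro ψ
    have h2 := gen_inner_int (CfsgLib.CharIndA.gen_restrict (gen_of_irr ψ.2) (P : Subgroup G))
      (gen_of_char (isCharacter_one (G := (P : Subgroup G))))
    obtain ⟨k, hk⟩ := h2
    refine ⟨k, ?_⟩
    rw [← hk]
    unfold classInner
    rw [hcard, ← mul_assoc, mul_inv_cancel₀, one_mul]
    · refine Finset.sum_congr rfl fun x _ => by simp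
    · exact_mod_cast (pow_pos hpp.pos _).ne'
  choose k hk using h1
  have h3 : ∑ x : (P : Subgroup G), reg p χ (x : G) = χ 1 := by
    rw [Finset.sum_eq_single (1 : (P : Subgroup G))]
    · have : ¬ p ∣ orderOf (1 : G) := by rw [orderOf_one]; exact hpp.not_dvd_one
      show reg p χ (1 : G) = χ 1
      rw [reg_of this]
    · intro x _ hx
      apply reg_not
      obtain ⟨j, hj⟩ := IsPGroup.iff_orderOf.mp P.isPGroup' x
      rw [← Subgroup.orderOf_coe] at hj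
      rw [hj]
      apply dvd_pow_self
      rintro rfl
      rw [pow_zero, orderOf_eq_one_iff] at hj
      exact hx (Subtype.ext hj)
    · intro h; exact absurd (Finset.mem_univ _) h
  refine ⟨∑ ψ : IrrCharacter G, if ψ ∈ B then n ψ * k ψ else 0, ?_⟩
  rw [← h3]
  simp only [hn, sum_ite_ind]
  rw [Finset.sum_comm]
  push_cast
  rw [Finset.mul_sum]
  refine Finset.sum_congr rfl fun ψ _ => ?_
  simp only [← mul_assoc]
  rw [← Finset.mul_sum, hk ψ]
  split_ifs with h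
  · rw [ind_of h]; push_cast; ring
  · rw [ind_not h]; push_cast; ring

end CfsgLib.Car
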