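import Mathlib
import Cfsg.Agent.EqBase
import Cfsg.Agent.LibCar1
import Cfsg.Agent.LibBlkRk

/-!
# Blocks with one Brauer character (helper18)
-/

set_option autoImplicit false
set_option linter.unusedSectionVars false
set_option linter.style.haveILetI false
set_option linter.unusedSimpArgs false
set_option linter.unusedVariables false

namespace CfsgLib.Car

open CfsgLib.CharInt hiding irr_isCharacter irr_classFun irr_one_ne_zero schur_scalar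
open Cfsg CfsgLib.CharInt2 CfsgLib.CharBasic CfsgLib.BlockR CfsgLib.BlockCore
  CfsgLib.BlockIdem CfsgLib.BlockIdeal CfsgLib.BlockConj CfsgLib.BlockBrauer CfsgLib.BlockInd
  CfsgLib.BlockFMT CfsgLib.BlockFMT2 CfsgLib.PLocalInd CfsgLib.BlockOrth CfsgLib.BlockDefect
  CfsgLib.BlockReg CfsgLib.BlockReg2 CfsgLib.BlockCount CfsgLib.BlockCount2 CfsgLib.BlockQP
  CfsgLib.BlockCov3 CfsgLib.BlockCov4 CfsgLib.BlockLoc CfsgLib.BlockM CfsgLib.BlockSec3
  CfsgLib.CharNorm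
open scoped ComplexConjugate

universe u

variable {M : Ideal AlgInt} {p : ℕ} [Fact p.Prime] {G : Type u} [Group G] [Fintype G]

/-- the gcd of the degrees and a Bezout combination -/
theorem exists_gcd_comb {B : Set (IrrCharacter G)} {χ₀ : IrrCharacter G} (h0 : χ₀ ∈ B) :
    ∃ (g : ℕ) (n : IrrCharacter G → ℤ) (d : IrrCharacter G → ℕ), 0 < g ∧
      (∀ χ ∈ B, charDegree (χ : G → ℂ) = g * d χ) ∧ (∀ χ ∉ B, n χ = 0) ∧
      ∑ χ : IrrCharacter G, n χ * d χ = 1 := by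
  classical
  let v : IrrCharacter G → ℤ := fun χ => if χ ∈ B then (charDegree (χ : G → ℂ) : ℤ) else 0
  obtain ⟨g, hg⟩ := (IsPrincipalIdealRing.principal (Ideal.span (Set.range v))).principal
  have hg' : Ideal.span (Set.range v) = Ideal.span {g} := hg
  have hdvd : ∀ χ, g ∣ v χ := by
    intro χ
    rw [← Ideal.mem_span_singleton, ← hg']
    exact Ideal.subset_span ⟨χ, rfl⟩
  have hgm : g ∈ Ideal.span (Set.range v) := by rw [hg']; exact Ideal.mem_span_singleton_self g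
  obtain ⟨c, hc⟩ := (Submodule.mem_span_range_iff_exists_fun ℤ).1 hgm
  have hv0 : v χ₀ ≠ 0 := by
    simp only [v, if_pos h0]
    exact_mod_cast (irr_charDegree_pos χ₀.2).ne'
  have hg0 : g ≠ 0 := by
    rintro rfl
    exact hv0 (zero_dvd_iff.1 (hdvd χ₀))
  have hgn : 0 < g.natAbs := Int.natAbs_pos.2 hg0
  have hd : ∀ χ ∈ B, g.natAbs ∣ charDegree (χ : G → ℂ) := by
    intro χ hχ
    have := hdvd χ
    simp only [v, if_pos hχ] at this
    rw [← Int.natCast_dvd_natCast]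
    exact (Int.natAbs_dvd.2 this)
  refine ⟨g.natAbs, fun χ => if χ ∈ B then g.sign * c χ else 0,
    fun χ => charDegree (χ : G → ℂ) / g.natAbs, hgn, ?_, ?_, ?_⟩
  · intro χ hχ
    exact (Nat.mul_div_cancel' (hd χ hχ)).symm
  · intro χ hχ
    simp [hχ]
  · have e1 : ∀ χ : IrrCharacter G, (if χ ∈ B then g.sign * c χ else 0) *
        ((charDegree (χ : G → ℂ) / g.natAbs : ℕ) : ℤ) * g.natAbs = g.sign * (c χ • v χ) := by
      intro χ
      by_cases hχ : χ ∈ B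
      · simp only [v, if_pos hχ]
        rw [mul_assoc, ← Nat.cast_mul, Nat.div_mul_cancel (hd χ hχ)]
        simp only [smul_eq_mul]; ring
      · simp only [v, if_neg hχ]; simp
    have e2 : (∑ χ : IrrCharacter G, (if χ ∈ B then g.sign * c χ else 0) *
        ((charDegree (χ : G → ℂ) / g.natAbs : ℕ) : ℤ)) * g.natAbs = 1 * g.natAbs := by
      rw [Finset.sum_mul, Finset.sum_congr rfl fun χ _ => e1 χ, ← Finset.mul_sum, hc, one_mul]
      exact Int.sign_mul_self_eq_natAbs g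
    exact mul_right_cancel₀ (by exact_mod_cast hgn.ne') e2

theorem inner_reg_reg' (χ ψ : IrrCharacter G) : classInner (reg p (χ : G → ℂ)) (ψ : G → ℂ) =
    classInner (reg p (χ : G → ℂ)) (reg p (ψ : G → ℂ)) := by
  unfold classInner
  congr 1
  refine Finset.sum_congr rfl fun x _ => ?_
  by_cases hx : p ∣ orderOf x
  · rw [reg_not hx, zero_mul, zero_mul]
  · rw [reg_of (f := (ψ : G → ℂ)) hx]

/-- S4675 -/
theorem rank_one_data (hM : IsPModular p M) {B : Set (IrrCharacter G)} (hB : IsPBlock M B)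
    (hl : blockRank p B = 1) : ∃ (φ : G → ℂ) (n : IrrCharacter G → ℤ) (d : IrrCharacter G → ℕ)
      (g : ℕ), 0 < g ∧
      (∀ χ ∈ B, charDegree (χ : G → ℂ) = g * d χ) ∧
      (∀ x, φ x = ∑ᶠ ψ ∈ B, (n ψ : ℂ) * (ψ : G → ℂ) x) ∧
      (∀ χ ∈ B, ∀ x : G, ¬ p ∣ orderOf x → (χ : G → ℂ) x = (d χ : ℂ) * φ x) ∧
      (∀ χ ∈ B, ∀ ψ ∈ B, mm p B χ ψ = d χ * d ψ) ∧
      ∑ᶠ χ ∈ B, d χ ^ 2 = p ^ blockDefect p B := by
  classical
  have hpp : p.Prime := Fact.out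
  have hp := isPrime_of_modular hM
  obtain ⟨χ₀, hχ₀, hh0⟩ := exists_height_zero hM hB
  have h0' : blockHeight p B (χ₀ : G → ℂ) = 0 := (height_zero_iff hM hB hχ₀).mpr hh0
  obtain ⟨g, n, d, hg, hd, hn0, hnd⟩ := exists_gcd_comb hχ₀
  set φ : G → ℂ := fun x => ∑ᶠ ψ ∈ B, (n ψ : ℂ) * (ψ : G → ℂ) x with hφ
  have hr1 : ¬ p ∣ orderOf (1 : G) := by rw [orderOf_one]; exact hpp.not_dvd_one
  have h1 : ∀ χ ∈ B, ∀ x : G, ¬ p ∣ orderOf x →
      (χ : G → ℂ) x = (χ : G → ℂ) 1 / (χ₀ : G → ℂ) 1 * (χ₀ : G → ℂ) x := by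
    intro χ hχ x hx
    obtain ⟨c, hc⟩ := CfsgLib.BlkRk.of_rank_one hl hχ₀ hχ
    have h2 := hc 1 hr1
    rw [hc x hx, h2, mul_div_assoc, div_self (irr_one_ne_zero χ₀.2), mul_one]
  have hg0 : (g : ℂ) ≠ 0 := by exact_mod_cast hg.ne'
  have hdeg : ∀ χ ∈ B, (χ : G → ℂ) 1 = (g : ℂ) * d χ := by
    intro χ hχ
    rw [irr_one_eq_charDegree χ.2, hd χ hχ]
    push_cast; rfl
  have hφ1 : ∀ x : G, ¬ p ∣ orderOf x → φ x = (g : ℂ) / (χ₀ : G → ℂ) 1 * (χ₀ : G → ℂ) x := by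
    intro x hx
    simp only [hφ]
    rw [sum_ite_ind]
    have e1 : ∀ ψ : IrrCharacter G, ind B ψ * ((n ψ : ℂ) * (ψ : G → ℂ) x) =
        ((n ψ * d ψ : ℤ) : ℂ) * ((g : ℂ) / (χ₀ : G → ℂ) 1 * (χ₀ : G → ℂ) x) := by
      intro ψ
      by_cases hψ : ψ ∈ B
      · rw [ind_of hψ, h1 ψ hψ x hx, hdeg ψ hψ]
        push_cast; ring
      · rw [ind_not hψ, hn0 ψ hψ]; simp
    rw [Finset.sum_congr rfl fun ψ _ => e1 ψ, ← Finset.sum_mul]
    have e2 : ∑ ψ : IrrCharacter G, ((n ψ * d ψ : ℤ) : ℂ) = 1 := by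
      rw [← Int.cast_sum, hnd, Int.cast_one]
    rw [e2, one_mul]
  have hval : ∀ χ ∈ B, ∀ x : G, ¬ p ∣ orderOf x → (χ : G → ℂ) x = (d χ : ℂ) * φ x := by
    intro χ hχ x hx
    rw [h1 χ hχ x hx, hφ1 x hx, hdeg χ hχ]
    ring
  -- the contributions
  set r : ℂ := ((p ^ blockDefect p B : ℕ) : ℂ) * classInner (reg p φ) (reg p φ) with hr
  have hmr : ∀ χ ∈ B, ∀ ψ ∈ B, (mm p B χ ψ : ℂ) = (d χ : ℂ) * (d ψ : ℂ) * r := by
    intro χ hχ ψ hψ
    rw [← mm_spec hM hB hχ ψ, inner_reg_reg']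
    have e1 : ∀ χ ∈ B, reg p (χ : G → ℂ) = (d χ : ℂ) • reg p φ := by
      intro χ hχ
      funext x
      rw [Pi.smul_apply]
      by_cases hx : p ∣ orderOf x
      · rw [reg_not hx, reg_not hx, smul_zero]
      · rw [reg_of hx, reg_of hx, hval χ hχ x hx]; rfl
    rw [e1 χ hχ, e1 ψ hψ, ci_smul_l, ci_smul_r, hr, Complex.conj_natCast]
    ring
  have hrint : r = ((∑ χ : IrrCharacter G, ∑ ψ : IrrCharacter G, n χ * n ψ * mm p B χ ψ : ℤ) : ℂ) := by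
    push_cast
    have e1 : ∀ χ ψ : IrrCharacter G, (n χ : ℂ) * (n ψ : ℂ) * (mm p B χ ψ : ℂ) =
        ((n χ * d χ : ℤ) : ℂ) * (((n ψ * d ψ : ℤ) : ℂ) * r) := by
      intro χ ψ
      by_cases hχ : χ ∈ B
      · by_cases hψ : ψ ∈ B
        · rw [hmr χ hχ ψ hψ]; push_cast; ring
        · rw [hn0 ψ hψ]; push_cast; ring
      · rw [hn0 χ hχ]; push_cast; ring
    simp only [e1]
    simp only [← Finset.mul_sum, ← Finset.sum_mul]
    have e2 : ∑ ψ : IrrCharacter G, ((n ψ * d ψ : ℤ) : ℂ) = 1 := by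
      rw [← Int.cast_sum, hnd, Int.cast_one]
    rw [e2, one_mul, one_mul]
  obtain ⟨N, hN⟩ : ∃ N : ℤ, r = N := ⟨_, hrint⟩
  have hmN : ∀ χ ∈ B, ∀ ψ ∈ B, mm p B χ ψ = d χ * d ψ * N := by
    intro χ hχ ψ hψ
    have := hmr χ hχ ψ hψ
    rw [hN] at this
    exact_mod_cast this
  have hd0 : (d χ₀ : ℤ) ≠ 0 := by
    have := irr_charDegree_pos χ₀.2
    rw [hd χ₀ hχ₀] at this
    have h3 : d χ₀ ≠ 0 := by
      rintro h; rw [h, mul_zero] at this; exact lt_irrefl _ this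
    exact_mod_cast h3
  have hmne := mm_ne_zero hM hB hχ₀ h0' hχ₀
  have hN0 : N ≠ 0 := by
    rintro rfl; rw [hmN χ₀ hχ₀ χ₀ hχ₀, mul_zero] at hmne; exact hmne rfl
  have hsum : (∑ χ ∈ (Set.toFinite B).toFinset, (d χ : ℤ) ^ 2) * N = (p ^ blockDefect p B : ℕ) := by
    have h3 := sum_mm_sq hM hB hχ₀
    rw [hmN χ₀ hχ₀ χ₀ hχ₀] at h3
    have h4 : ∑ ψ : IrrCharacter G, (mm p B χ₀ ψ) ^ 2 =
        ∑ ψ ∈ (Set.toFinite B).toFinset, ((d χ₀ : ℤ) * d ψ * N) ^ 2 := by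
      symm
      rw [Finset.sum_congr rfl (g := fun ψ => (mm p B χ₀ ψ) ^ 2)]
      · apply Finset.sum_subset (Finset.subset_univ _)
        intro ψ _ hψ
        have : ψ ∉ B := by simpa using hψ
        rw [mm_out hM hB hχ₀ this]; ring
      · intro ψ hψ
        have : ψ ∈ B := by simpa using hψ
        rw [hmN χ₀ hχ₀ ψ this]
    rw [h4] at h3
    have h5 : ∑ ψ ∈ (Set.toFinite B).toFinset, ((d χ₀ : ℤ) * d ψ * N) ^ 2 =
        ((d χ₀ : ℤ) * d χ₀ * N) * ((∑ ψ ∈ (Set.toFinite B).toFinset, (d ψ : ℤ) ^ 2) * N) := by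
      rw [Finset.sum_mul, Finset.mul_sum]
      exact Finset.sum_congr rfl fun ψ _ => by ring
    rw [h5, mul_comm ((p ^ blockDefect p B : ℕ) : ℤ)] at h3
    exact mul_left_cancel₀ (mul_ne_zero (mul_ne_zero hd0 hd0) hN0) h3
  have hNp : ¬ (p : ℤ) ∣ N := by
    intro h
    apply mm_not_dvd hM hB hχ₀ h0' hχ₀
    rw [h0', zero_add, pow_one, hmN χ₀ hχ₀ χ₀ hχ₀]
    exact Dvd.dvd.mul_left h _
  have hNpos : 0 < N := by
    have h3 : (0 : ℤ) ≤ ∑ χ ∈ (Set.toFinite B).toFinset, (d χ : ℤ) ^ 2 :=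
      Finset.sum_nonneg fun _ _ => sq_nonneg _
    have h4 : (0 : ℤ) < (p ^ blockDefect p B : ℕ) := by exact_mod_cast pow_pos hpp.pos _
    by_contra hcon
    push Not at hcon
    have := mul_nonpos_of_nonneg_of_nonpos h3 hcon
    rw [hsum] at this
    linarith
  have hN1 : N = 1 := by
    have h3 : N.natAbs ∣ p ^ blockDefect p B := by
      rw [← Int.natCast_dvd_natCast, Int.natAbs_dvd, ← hsum]
      exact dvd_mul_left _ _
    obtain ⟨j, -, hj⟩ := (Nat.dvd_prime_pow hpp).1 h3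
    rcases Nat.eq_zero_or_pos j with hj0 | hj0
    · rw [hj0, pow_zero] at hj
      omega
    · exfalso
      apply hNp
      rw [← Int.dvd_natAbs, hj]
      exact_mod_cast dvd_pow_self p hj0.ne'
  refine ⟨φ, n, d, g, hg, hd, fun x => rfl, hval, ?_, ?_⟩
  · intro χ hχ ψ hψ
    rw [hmN χ hχ ψ hψ, hN1, mul_one]
  · rw [finsum_mem_eq_finite_toFinset_sum _ (Set.toFinite B)]
    rw [hN1, mul_one] at hsum
    exact_mod_cast hsum

end CfsgLib.Car
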