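import Mathlib
import Cfsg.Agent.EqBase
import Cfsg.Agent.LibCar2
import Cfsg.Agent.LibBlockSec2

/-!
# Subsections: norms of the local parts (helper18)
-/

set_option autoImplicit false
set_option linter.unusedSectionVars false
set_option linter.style.haveILetI false
set_option linter.unusedSimpArgs false
set_option linter.unusedVariables false

namespace CfsgLib.Car

open CfsgLib.CharInt hiding irr_isCharacter irr_classFun irr_one_ne_zero schur_scalar
open Cfsg CfsgLib.CharInt2 CfsgLib.CharBasic CfsgLib.BlockR CfsgLib.BlockCore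
  CfsgLib.BlockIdem CfsgLib.BlockIdeal CfsgLib.BlockConj CfsgLib.BlockBrauer CfsgLib.BlockInd
  CfsgLib.BlockFMT CfsgLib.BlockFMT2 CfsgLib.PLocalInd CfsgLib.BlockOrth CfsgLib.BlockDefect
  CfsgLib.BlockReg CfsgLib.BlockReg2 CfsgLib.BlockCount CfsgLib.BlockCount2 CfsgLib.BlockQP
  CfsgLib.BlockCov3 CfsgLib.BlockCov4 CfsgLib.BlockLoc CfsgLib.BlockM CfsgLib.BlockSec3
  CfsgLib.BlockSec CfsgLib.CharNorm
open scoped ComplexConjugate

universe u

variable {M : Ideal AlgInt} {p : ℕ} [Fact p.Prime]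

section Kernel

variable {H : Type u} [Group H] [Fintype H]

/-- the kernel of a set of irreducible characters -/
noncomputable def KK (U : Set (IrrCharacter H)) (s g : H) : ℂ :=
  ∑ ψ : IrrCharacter H, ind U ψ * ((ψ : H → ℂ) s * conj ((ψ : H → ℂ) g))

theorem KK_eq (U : Set (IrrCharacter H)) (s g : H) :
    ∑ᶠ ψ ∈ U, (ψ : H → ℂ) s * conj ((ψ : H → ℂ) g) = KK U s g := (sum_ind U _).symm

theorem conj_ind' (U : Set (IrrCharacter H)) (ψ : IrrCharacter H) : conj (ind U ψ) = ind U ψ := by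
  by_cases h : ψ ∈ U
  · rw [ind_of h, map_one]
  · rw [ind_not h, map_zero]

theorem KK_conj (U : Set (IrrCharacter H)) (s g : H) : conj (KK U s g) = KK U g s := by
  unfold KK
  rw [map_sum]
  refine Finset.sum_congr rfl fun ψ _ => ?_
  rw [map_mul, map_mul, Complex.conj_conj, conj_ind']
  ring

theorem sum_conj_mul' (φ θ : IrrCharacter H) : ∑ x : H, conj ((φ : H → ℂ) x) * (θ : H → ℂ) x =
    if φ = θ then (Nat.card H : ℂ) else 0 := by
  have hG : (Nat.card H : ℂ) ≠ 0 := by exact_mod_cast Nat.card_pos.ne'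
  have h1 := CfsgLib.CharBasic.irr_inner θ.2 φ.2
  unfold classInner at h1
  have h2 : ((θ : H → ℂ) = (φ : H → ℂ)) ↔ φ = θ := by
    rw [← Subtype.ext_iff]; exact eq_comm
  simp only [h2] at h1
  have h3 : ∑ x : H, conj ((φ : H → ℂ) x) * (θ : H → ℂ) x =
      (Nat.card H : ℂ) * ((Nat.card H : ℂ)⁻¹ * ∑ x : H, (θ : H → ℂ) x * conj ((φ : H → ℂ) x)) := by
    rw [← mul_assoc, mul_inv_cancel₀ hG, one_mul]
    exact Finset.sum_congr rfl fun x _ => mul_comm _ _
  rw [h3, h1]; split_ifs <;> simp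

theorem KK_mul {e U : Set (IrrCharacter H)} (heU : e ⊆ U) (s h : H) :
    ∑ g : H, KK e s g * KK U g h = (Nat.card H : ℂ) * KK e s h := by
  classical
  unfold KK
  have e1 : ∀ g : H, (∑ ψ : IrrCharacter H, ind e ψ * ((ψ : H → ℂ) s * conj ((ψ : H → ℂ) g))) *
      (∑ φ : IrrCharacter H, ind U φ * ((φ : H → ℂ) g * conj ((φ : H → ℂ) h))) =
      ∑ ψ : IrrCharacter H, ∑ φ : IrrCharacter H, (ind e ψ * ind U φ * (ψ : H → ℂ) s *
        conj ((φ : H → ℂ) h)) * (conj ((ψ : H → ℂ) g) * (φ : H → ℂ) g) := by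
    intro g
    rw [Finset.sum_mul_sum]
    refine Finset.sum_congr rfl fun ψ _ => Finset.sum_congr rfl fun φ _ => by ring
  simp only [e1]
  rw [Finset.sum_comm, Finset.mul_sum]
  refine Finset.sum_congr rfl fun ψ _ => ?_
  rw [Finset.sum_comm]
  simp only [← Finset.mul_sum, sum_conj_mul']
  rw [Finset.sum_eq_single ψ]
  · rw [if_pos rfl]
    by_cases hψ : ψ ∈ e
    · rw [ind_of hψ, ind_of (heU hψ)]; ring
    · rw [ind_not hψ]; ring
  · intro φ _ hφ
    rw [if_neg (Ne.symm hφ), mul_zero]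
  · intro h; exact absurd (Finset.mem_univ _) h

theorem KK_zero (hM : IsPModular p M) {e : Set (IrrCharacter H)} (he : IsPBlock M e) {s g : H}
    (hs : ¬ p ∣ orderOf s) (hg : p ∣ orderOf g) : KK e s g = 0 := by
  rw [← KK_eq]
  exact weak_block_orth hM he hs hg

theorem blockPart_KK (e : Set (IrrCharacter H)) (ϑ : H → ℂ) (s : H) :
    blockPart e ϑ s = (Nat.card H : ℂ)⁻¹ * ∑ g : H, ϑ g * KK e s g := by
  rw [blockPart_eq_sum]
  simp only [KK_eq]

theorem rank_KK (hM : IsPModular p M) {e : Set (IrrCharacter H)} (he : IsPBlock M e)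
    [DecidablePred fun s : H => ¬ p ∣ orderOf s] :
    ∑ s ∈ Finset.univ.filter (fun s : H => ¬ p ∣ orderOf s), KK e s s =
      (Nat.card H : ℂ) * blockRank p e := by
  classical
  have hG : (Nat.card H : ℂ) ≠ 0 := by exact_mod_cast Nat.card_pos.ne'
  rw [blockRank_eq hM he, Finset.sum_filter, Finset.mul_sum]
  have e1 : ∀ s : H, (if ¬ p ∣ orderOf s then KK e s s else 0) =
      ∑ ψ : IrrCharacter H, ind e ψ * (reg p (ψ : H → ℂ) s * conj ((ψ : H → ℂ) s)) := by
    intro s
    split_ifs with h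
    · simp only [reg_not h, zero_mul, mul_zero, Finset.sum_const_zero]
    · unfold KK
      simp only [reg_of h]
  simp only [e1]
  rw [Finset.sum_comm]
  refine Finset.sum_congr rfl fun ψ _ => ?_
  rw [← Finset.mul_sum]
  unfold classInner
  rw [← mul_assoc, mul_comm (Nat.card H : ℂ), mul_assoc, ← mul_assoc (Nat.card H : ℂ),
    mul_inv_cancel₀ hG, one_mul]

theorem KK_inv (e : Set (IrrCharacter H)) (s g : H) : KK e s⁻¹ g⁻¹ = conj (KK e s g) := by
  unfold KK
  rw [map_sum]
  refine Finset.sum_congr rfl fun ψ _ => ?_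
  rw [map_mul, map_mul, conj_ind', irr_inv ψ.2, irr_inv ψ.2]

end Kernel

variable {G : Type u} [Group G] [Fintype G]

theorem part_inv_conj (u : G) [Fintype (Subgroup.centralizer ({u} : Set G))]
    (e : Set (IrrCharacter (Subgroup.centralizer ({u} : Set G)))) (χ : IrrCharacter G)
    (s : Subgroup.centralizer ({u} : Set G)) :
    blockPart e (fun c : Subgroup.centralizer ({u} : Set G) => (χ : G → ℂ) (u⁻¹ * c)) s⁻¹ =
      conj (blockPart e (fun c : Subgroup.centralizer ({u} : Set G) => (χ : G → ℂ) (u * c)) s) := by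
  rw [blockPart_KK, blockPart_KK, map_mul, map_inv₀, Complex.conj_natCast, map_sum]
  congr 1
  rw [← Equiv.sum_comp (Equiv.inv _)]
  refine Finset.sum_congr rfl fun g _ => ?_
  rw [Equiv.inv_apply, KK_inv, map_mul]
  congr 1
  have hc := Subgroup.mem_centralizer_singleton_iff.1 g.2
  show (χ : G → ℂ) (u⁻¹ * ((g⁻¹ : Subgroup.centralizer ({u} : Set G)) : G)) = _
  rw [← irr_inv χ.2]
  rw [Subgroup.coe_inv, ← mul_inv_rev, hc]

theorem norms_sum (hM : IsPModular p M) {u : G} (hu : ∃ k : ℕ, orderOf u = p ^ k)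
    [Fintype (Subgroup.centralizer ({u} : Set G))]
    {B : Set (IrrCharacter G)}
    {e : Set (IrrCharacter (Subgroup.centralizer ({u} : Set G)))}
    (he : IsInducedBlock M (Subgroup.centralizer ({u} : Set G)) e B)
    {s : Subgroup.centralizer ({u} : Set G)} (hs : ¬ p ∣ orderOf s) :
    ∑ χ : IrrCharacter G, ind B χ *
      (blockPart e (fun c : Subgroup.centralizer ({u} : Set G) => (χ : G → ℂ) (u * c)) s *
        conj (blockPart e (fun c : Subgroup.centralizer ({u} : Set G) => (χ : G → ℂ) (u * c)) s)) =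
      KK e s s := by
  classical
  have hp := isPrime_of_modular hM
  have heb := he.1
  have hB := he.2.1
  have heU : e ⊆ US u M B := (block_sub_US u hp heb).2 he
  have hG : (Nat.card (Subgroup.centralizer ({u} : Set G)) : ℂ) ≠ 0 := by
    exact_mod_cast Nat.card_pos.ne'
  set N : ℂ := (Nat.card (Subgroup.centralizer ({u} : Set G)) : ℂ) with hN
  have hNc : conj N⁻¹ = N⁻¹ := by rw [map_inv₀, hN, Complex.conj_natCast]
  have e1 : ∀ χ : IrrCharacter G, ind B χ *
      (blockPart e (fun c : Subgroup.centralizer ({u} : Set G) => (χ : G → ℂ) (u * c)) s *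
        conj (blockPart e (fun c : Subgroup.centralizer ({u} : Set G) => (χ : G → ℂ) (u * c)) s)) =
      ∑ g : Subgroup.centralizer ({u} : Set G), ∑ h : Subgroup.centralizer ({u} : Set G),
        N⁻¹ * N⁻¹ * (KK e s g * KK e h s) * (ind B χ *
          ((χ : G → ℂ) (u * g) * conj ((χ : G → ℂ) (u * h)))) := by
    intro χ
    rw [blockPart_KK, map_mul, map_sum, hNc]
    have : (N⁻¹ * ∑ g : Subgroup.centralizer ({u} : Set G), (χ : G → ℂ) (u * g) * KK e s g) *
        (N⁻¹ * ∑ h : Subgroup.centralizer ({u} : Set G), conj ((χ : G → ℂ) (u * h) * KK e s h)) =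
        N⁻¹ * N⁻¹ * ((∑ g : Subgroup.centralizer ({u} : Set G), (χ : G → ℂ) (u * g) * KK e s g) *
          (∑ h : Subgroup.centralizer ({u} : Set G),
            conj ((χ : G → ℂ) (u * h) * KK e s h))) := by ring
    rw [this, Finset.sum_mul_sum, Finset.mul_sum, Finset.mul_sum]
    refine Finset.sum_congr rfl fun g _ => ?_
    rw [Finset.mul_sum, Finset.mul_sum]
    refine Finset.sum_congr rfl fun h _ => ?_
    rw [map_mul, KK_conj]
    ring
  simp only [e1]
  rw [Finset.sum_comm]
  have e2 : ∀ g : Subgroup.centralizer ({u} : Set G),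
      ∑ χ : IrrCharacter G, ∑ h : Subgroup.centralizer ({u} : Set G),
        N⁻¹ * N⁻¹ * (KK e s g * KK e h s) * (ind B χ *
          ((χ : G → ℂ) (u * g) * conj ((χ : G → ℂ) (u * h)))) =
      ∑ h : Subgroup.centralizer ({u} : Set G),
        N⁻¹ * N⁻¹ * (KK e s g * KK e h s) * KK (US u M B) g h := by
    intro g
    rw [Finset.sum_comm]
    refine Finset.sum_congr rfl fun h _ => ?_
    rw [← Finset.mul_sum]
    by_cases hg : p ∣ orderOf g
    · rw [KK_zero hM heb hs hg]; ring
    · by_cases hh : p ∣ orderOf h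
      · have := KK_zero hM heb hs hh
        have h2 : KK e h s = 0 := by rw [← KK_conj, this, map_zero]
        rw [h2]; ring
      · rw [subsection u hM hu hB hg hh]
        rfl
  simp only [e2]
  rw [Finset.sum_comm]
  have e3 : ∀ h : Subgroup.centralizer ({u} : Set G),
      ∑ g : Subgroup.centralizer ({u} : Set G),
        N⁻¹ * N⁻¹ * (KK e s g * KK e h s) * KK (US u M B) g h =
      N⁻¹ * (KK e s h * KK e h s) := by
    intro h
    have : ∀ g : Subgroup.centralizer ({u} : Set G),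
        N⁻¹ * N⁻¹ * (KK e s g * KK e h s) * KK (US u M B) g h =
        N⁻¹ * N⁻¹ * KK e h s * (KK e s g * KK (US u M B) g h) := fun g => by ring
    simp only [this]
    rw [← Finset.mul_sum, KK_mul heU]
    calc N⁻¹ * N⁻¹ * KK e h s * (N * KK e s h) = (N⁻¹ * N) * (N⁻¹ * (KK e s h * KK e h s)) := by
          ring
      _ = _ := by rw [inv_mul_cancel₀ hG, one_mul]
  simp only [e3]
  rw [← Finset.mul_sum, KK_mul le_rfl, ← mul_assoc, inv_mul_cancel₀ hG, one_mul]

theorem s4683 (hM : IsPModular p M) {u : G} (hu : ∃ k : ℕ, orderOf u = p ^ k)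
    {B : Set (IrrCharacter G)} {H : Subgroup G} (hH : H = Subgroup.centralizer ({u} : Set G))
    {e : Set (IrrCharacter H)} (he : IsInducedBlock M H e B) :
    ∑ᶠ χ ∈ B, ∑ᶠ s : H, pRegularPart p (blockPart e (fun c : H => (χ : G → ℂ) (u * c))) s *
      blockPart e (fun c : H => (χ : G → ℂ) (u⁻¹ * c)) s⁻¹ =
      (Nat.card H : ℂ) * (blockRank p e : ℂ) := by
  classical
  subst hH
  haveI := Fintype.ofFinite (Subgroup.centralizer ({u} : Set G))
  rw [sum_ite_ind]
  simp only [finsum_eq_sum_of_fintype, part_inv_conj, pRegularPart_eq]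
  have e1 : ∀ χ : IrrCharacter G, ind B χ * ∑ s : Subgroup.centralizer ({u} : Set G),
      reg p (blockPart e fun c : Subgroup.centralizer ({u} : Set G) => (χ : G → ℂ) (u * c)) s *
        conj (blockPart e (fun c : Subgroup.centralizer ({u} : Set G) => (χ : G → ℂ) (u * c)) s) =
      ∑ s ∈ Finset.univ.filter (fun s : Subgroup.centralizer ({u} : Set G) => ¬ p ∣ orderOf s),
        ind B χ *
        (blockPart e (fun c : Subgroup.centralizer ({u} : Set G) => (χ : G → ℂ) (u * c)) s *
        conj (blockPart e (fun c : Subgroup.centralizer ({u} : Set G) => (χ : G → ℂ) (u * c)) s))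
      := by
    intro χ
    rw [Finset.sum_filter, Finset.mul_sum]
    refine Finset.sum_congr rfl fun s _ => ?_
    split_ifs with h
    · rw [reg_not h, zero_mul, mul_zero]
    · rw [reg_of h]
  simp only [e1]
  rw [Finset.sum_comm]
  rw [← rank_KK hM he.1]
  refine Finset.sum_congr rfl fun s hs => ?_
  rw [Finset.mem_filter] at hs
  exact norms_sum hM hu he hs.2

end CfsgLib.Car
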