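import Cfsg.Agent.LibCentUJ15
import Cfsg.Agent.LibChevAll

set_option autoImplicit false
set_option maxRecDepth 1000000

/-! Adjacency data (seat helper15). -/

namespace CfsgLib.Chev

open Cfsg.Lie

theorem adj_G2 : Adj tG2 := adj_of_chk (L := [(0, 1, 7, 8), (1, 0, 6, 8)]) (by decide +kernel)

theorem adj_B2 : Adj tB2 := adj_of_chk (L := [(0, 1, 5, 6), (1, 0, 4, 6)]) (by decide +kernel)

theorem adj_D4 : Adj tD4 := adj_of_chk (L := [(0, 1, 18, 19), (0, 2, 19, 21), (0, 3, 19, 20), (1, 0, 14, 19), (1, 2, 14, 16), (1, 3, 14, 15), (2, 0, 16, 21), 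
  (2, 1, 13, 16), (2, 3, 16, 17), (3, 0, 15, 20), (3, 1, 12, 15), (3, 2, 15, 17)]) (by decide +kernel)

theorem adj_F4 : Adj tF4 := adj_of_chk (L := [(0, 1, 33, 34), (0, 2, 34, 35), (0, 3, 35, 36), (1, 0, 27, 34), (1, 2, 27, 28), (1, 3, 28, 29), (2, 0, 28, 35), 
  (2, 1, 25, 28), (2, 3, 25, 26), (3, 0, 29, 36), (3, 1, 26, 29), (3, 2, 24, 26)]) (by decide +kernel)

theorem adj_E6 : Adj tE6 := adj_of_chk (L := [(0, 1, 58, 61), (0, 2, 56, 57), (0, 3, 57, 58), (0, 4, 58, 59), (0, 5, 59, 60), (1, 0, 50, 61), (1, 2, 47, 50), 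
  (1, 3, 46, 47), (1, 4, 47, 48), (1, 5, 48, 49), (2, 0, 42, 57), (2, 1, 43, 50), (2, 3, 42, 43), (2, 4, 43, 44), 
  (2, 5, 44, 45), (3, 0, 43, 58), (3, 1, 39, 47), (3, 2, 39, 43), (3, 4, 39, 40), (3, 5, 40, 41), (4, 0, 44, 59), 
  (4, 1, 40, 48), (4, 2, 40, 44), (4, 3, 37, 40), (4, 5, 37, 38), (5, 0, 45, 60), (5, 1, 41, 49), (5, 2, 41, 45), 
  (5, 3, 38, 41), (5, 4, 36, 38)]) (by decide +kernel)

theorem adj_E7 : Adj tE7 := adj_of_chk (L := [(0, 1, 95, 99), (0, 2, 93, 94), (0, 3, 94, 95), (0, 4, 95, 96), (0, 5, 96, 97), (0, 6, 97, 98), (1, 0, 83, 99), 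
  (1, 2, 79, 83), (1, 3, 78, 79), (1, 4, 79, 80), (1, 5, 80, 81), (1, 6, 81, 82), (2, 0, 73, 94), (2, 1, 74, 83), 
  (2, 3, 73, 74), (2, 4, 74, 75), (2, 5, 75, 76), (2, 6, 76, 77), (3, 0, 74, 95), (3, 1, 69, 79), (3, 2, 69, 74), 
  (3, 4, 69, 70), (3, 5, 70, 71), (3, 6, 71, 72), (4, 0, 75, 96), (4, 1, 70, 80), (4, 2, 70, 75), (4, 3, 66, 70), 
  (4, 5, 66, 67), (4, 6, 67, 68), (5, 0, 76, 97), (5, 1, 71, 81), (5, 2, 71, 76), (5, 3, 67, 71), (5, 4, 64, 67), 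
  (5, 6, 64, 65), (6, 0, 77, 98), (6, 1, 72, 82), (6, 2, 72, 77), (6, 3, 68, 72), (6, 4, 65, 68), (6, 5, 63, 65)]) (by decide +kernel)

theorem adj_E8 : Adj tE8 := adj_of_chk (L := [(0, 1, 164, 169), (0, 2, 162, 163), (0, 3, 163, 164), (0, 4, 164, 165), (0, 5, 165, 166), (0, 6, 166, 167), 
  (0, 7, 167, 168), (1, 0, 147, 169), (1, 2, 142, 147), (1, 3, 141, 142), (1, 4, 142, 143), (1, 5, 143, 144), 
  (1, 6, 144, 145), (1, 7, 145, 146), (2, 0, 135, 163), (2, 1, 136, 147), (2, 3, 135, 136), (2, 4, 136, 137), 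
  (2, 5, 137, 138), (2, 6, 138, 139), (2, 7, 139, 140), (3, 0, 136, 164), (3, 1, 130, 142), (3, 2, 130, 136), 
  (3, 4, 130, 131), (3, 5, 131, 132), (3, 6, 132, 133), (3, 7, 133, 134), (4, 0, 137, 165), (4, 1, 131, 143), 
  (4, 2, 131, 137), (4, 3, 126, 131), (4, 5, 126, 127), (4, 6, 127, 128), (4, 7, 128, 129), (5, 0, 138, 166), 
  (5, 1, 132, 144), (5, 2, 132, 138), (5, 3, 127, 132), (5, 4, 123, 127), (5, 6, 123, 124), (5, 7, 124, 125), 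
  (6, 0, 139, 167), (6, 1, 133, 145), (6, 2, 133, 139), (6, 3, 128, 133), (6, 4, 124, 128), (6, 5, 121, 124), 
  (6, 7, 121, 122), (7, 0, 140, 168), (7, 1, 134, 146), (7, 2, 134, 140), (7, 3, 129, 134), (7, 4, 125, 129), 
  (7, 5, 122, 125), (7, 6, 120, 122)]) (by decide +kernel)

theorem good_adj_of_mem {D : ChevalleyDatum}
    (hD : D ∈ [chevG2, chevB2, chevD4, chevF4, chevE6, chevE7, chevE8]) : ∃ T : Tb, Good3 D T ∧ Adj T ∧ 0 < T.l := by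
  simp only [List.mem_cons, List.not_mem_nil, or_false] at hD
  rcases hD with h | h | h | h | h | h | h <;> subst h
  · exact ⟨_, good3_G2, adj_G2, by decide +kernel⟩
  · exact ⟨_, good3_B2, adj_B2, by decide +kernel⟩
  · exact ⟨_, good3_D4, adj_D4, by decide +kernel⟩
  · exact ⟨_, good3_F4, adj_F4, by decide +kernel⟩
  · exact ⟨_, good3_E6, adj_E6, by decide +kernel⟩
  · exact ⟨_, good3_E7, adj_E7, by decide +kernel⟩
  · exact ⟨_, good3_E8, adj_E8, by decide +kernel⟩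

end CfsgLib.Chev
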