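import Cfsg.Agent.LibChevNorm

set_option autoImplicit false
set_option linter.unusedSectionVars false

/-! Real levels on the Lie algebra and the optimal one-parameter direction of a p-subgroup (seat helper15). -/

namespace CfsgLib.Chev

open Cfsg.Lie Matrix

/-- entries only where the level `L₁` of the row is at least the level `L₂` of the column plus `m` -/
def Ge {I : Type*} {F : Type*} [Field F] (L₁ L₂ : I → ℝ) (m : ℝ) (M : Matrix I I F) : Prop :=
  ∀ row col, M row col ≠ 0 → L₂ col + m ≤ L₁ row

theorem Ge.mul {I : Type*} [Fintype I] {F : Type*} [Field F] {L₁ L₂ L₃ : I → ℝ} {m m' : ℝ} {M N : Matrix I I F}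
    (h1 : Ge L₁ L₂ m M) (h2 : Ge L₂ L₃ m' N) : Ge L₁ L₃ (m + m') (M * N) := by
  intro row col h
  rw [Matrix.mul_apply] at h
  obtain ⟨i, _, hi⟩ := Finset.exists_ne_zero_of_sum_ne_zero h
  have h3 := h1 row i (left_ne_zero_of_mul hi)
  have h4 := h2 i col (right_ne_zero_of_mul hi)
  linarith

theorem Ge.add {I : Type*} {F : Type*} [Field F] {L₁ L₂ : I → ℝ} {m : ℝ} {M N : Matrix I I F}
    (h1 : Ge L₁ L₂ m M) (h2 : Ge L₁ L₂ m N) : Ge L₁ L₂ m (M + N) := by
  intro row col h
  by_cases h3 : M row col = 0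
  · by_cases h4 : N row col = 0
    · rw [Matrix.add_apply, h3, h4, add_zero] at h; exact absurd rfl h
    · exact h2 _ _ h4
  · exact h1 _ _ h3

theorem Ge.mono {I : Type*} {F : Type*} [Field F] {L₁ L₂ : I → ℝ} {m m' : ℝ} {M : Matrix I I F}
    (h1 : Ge L₁ L₂ m M) (h : m' ≤ m) : Ge L₁ L₂ m' M := fun row col h2 => by
  have := h1 row col h2; linarith

theorem Ge.one {I : Type*} [DecidableEq I] {F : Type*} [Field F] (L : I → ℝ) : Ge L L 0 (1 : Matrix I I F) := by
  intro row col h
  by_cases hrc : row = col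
  · subst hrc; simp
  · rw [Matrix.one_apply_ne hrc] at h; exact absurd rfl h

theorem Ge.comb {I : Type*} {F : Type*} [Field F] {L L' : I → ℝ} {m m' : ℝ} {M : Matrix I I F}
    (h1 : Ge L L m M) (h2 : Ge L' L' m' M) : Ge (L + L') (L + L') (m + m') M := fun row col h => by
  have h3 := h1 row col h
  have h4 := h2 row col h
  simp only [Pi.add_apply]; linarith

theorem Ge.smul {I : Type*} {F : Type*} [Field F] {L : I → ℝ} {m c : ℝ} (hc : 0 ≤ c) {M : Matrix I I F}
    (h1 : Ge L L m M) : Ge (c • L) (c • L) (c * m) M := fun row col h => by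
  have h3 := h1 row col h
  simp only [Pi.smul_apply, smul_eq_mul]
  have := mul_le_mul_of_nonneg_left h3 hc
  linarith

namespace Good3

variable {D : ChevalleyDatum} {T : Tb} (g : Good3 D T)
include g

omit g in
def _root_.CfsgLib.Chev.lfr (T : Tb) (a : ℕ → ℝ) (r : ℕ) : ℝ := ∑ j ∈ Finset.range T.l, a j * (T.v r j : ℝ)

theorem lfr_neg (a : ℕ → ℝ) {r : ℕ} (hr : r < T.n) : lfr T a (T.n - 1 - r) = -lfr T a r := by
  unfold lfr
  rw [← Finset.sum_neg_distrib]
  apply Finset.sum_congr rfl
  intro j hj
  rw [g.v_neg hr (Finset.mem_range.1 hj)]; push_cast; ring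

theorem lfr_ent (a : ℕ → ℝ) {r s : ℕ} (hr : r < T.n) (hs : s < T.n) (h1 : s ≠ r) (h2 : s ≠ T.n - 1 - r) :
    ∀ q ∈ (T.ent r s).zipIdx, lfr T a q.1.1 = lfr T a s + ((q.2 : ℝ) + 1) * lfr T a r := by
  intro q hq
  unfold lfr
  rw [Finset.mul_sum, ← Finset.sum_add_distrib]
  apply Finset.sum_congr rfl
  intro j hj
  rw [g.ent_v hr hs h1 h2 q hq j (Finset.mem_range.1 hj)]
  push_cast
  ring

theorem lfr_sim (a : ℕ → ℝ) {i : ℕ} (hi : i < T.l) : lfr T a (T.sim i) = a i := by
  unfold lfr
  rw [Finset.sum_eq_single i]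
  · rw [g.v_sim hi hi]; simp
  · intro j hj hji
    rw [g.v_sim hi (Finset.mem_range.1 hj), if_neg (Ne.symm hji)]; simp
  · intro h; exact absurd (Finset.mem_range.2 hi) h

omit g in
theorem _root_.CfsgLib.Chev.lfr_add (a b : ℕ → ℝ) (r : ℕ) : lfr T (a + b) r = lfr T a r + lfr T b r := by
  unfold lfr
  rw [← Finset.sum_add_distrib]
  apply Finset.sum_congr rfl
  intro j _
  simp only [Pi.add_apply]; ring

omit g in
theorem _root_.CfsgLib.Chev.lfr_smul (c : ℝ) (a : ℕ → ℝ) (r : ℕ) : lfr T (c • a) r = c * lfr T a r := by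
  unfold lfr
  rw [Finset.mul_sum]
  apply Finset.sum_congr rfl
  intro j _
  simp only [Pi.smul_apply, smul_eq_mul]; ring

/-- the level function of an additive function -/
def _root_.CfsgLib.Chev.lvr (D : ChevalleyDatum) (T : Tb) (a : ℕ → ℝ) : D.Idx → ℝ :=
  Sum.elim (fun _ => 0) (fun s => lfr T a s)

omit g in
theorem _root_.CfsgLib.Chev.lvr_add (a b : ℕ → ℝ) : lvr D T (a + b) = lvr D T a + lvr D T b := by
  funext i
  cases i with
  | inl i => simp [lvr]
  | inr i => simp only [lvr, Sum.elim_inr, Pi.add_apply]; exact lfr_add _ _ _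

omit g in
theorem _root_.CfsgLib.Chev.lvr_smul (c : ℝ) (a : ℕ → ℝ) : lvr D T (c • a) = c • lvr D T a := by
  funext i
  cases i with
  | inl i => simp [lvr]
  | inr i => simp only [lvr, Sum.elim_inr, Pi.smul_apply, smul_eq_mul]; exact lfr_smul _ _ _

section Mat
variable {F : Type*} [Field F]

omit g in
theorem lvr_inr (a : ℕ → ℝ) (s : Fin D.nroots) : lvr D T a (Sum.inr s) = lfr T a s := rfl
omit g in
theorem lvr_inl (a : ℕ → ℝ) (s : Fin D.rank) : lvr D T a (Sum.inl s) = 0 := rfl

/-- an entry of `x_r(t) - 1` raises the level by a positive multiple of the level of `r` -/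
theorem xr_entry {r : ℕ} (hr : r < T.n) (a : ℕ → ℝ) (t : F) (row col : D.Idx)
    (h : D.x F r t row col ≠ (1 : Matrix D.Idx D.Idx F) row col) :
    ∃ k : ℕ, 1 ≤ k ∧ lvr D T a row = lvr D T a col + k * lfr T a r := by
  have hev := g.even
  by_contra hcon
  push Not at hcon
  apply h
  cases col with
  | inl i =>
    have hiD := i.isLt
    have hi : i.val < T.l := by rw [← g.hl]; exact hiD
    have e1 : D.x F r t row (Sum.inl i) = (D.x F r t *ᵥ hV D F i.val) row := by
      rw [mulVec_hV _ hiD]
    have e2 : (1 : Matrix D.Idx D.Idx F) row (Sum.inl i) = ((1 : Matrix D.Idx D.Idx F) *ᵥ hV D F i.val) row := by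
      rw [mulVec_hV _ hiD]
    rw [e1, e2, Matrix.one_mulVec, g.x_h' hr hi]
    cases row with
    | inl j => rw [Pi.add_apply, Pi.smul_apply, eV_inl, smul_zero, add_zero]
    | inr u =>
      rw [Pi.add_apply, Pi.smul_apply, eV_inr]
      have : u.val ≠ r := by
        intro hur
        apply hcon 1 le_rfl
        rw [lvr_inr, lvr_inl, hur]; simp
      rw [if_neg this, smul_zero, add_zero]
  | inr s =>
    have hsD := s.isLt
    have hs : s.val < T.n := by rw [← g.hn]; exact hsD
    have e1 : D.x F r t row (Sum.inr s) = (D.x F r t *ᵥ eV D F s.val) row := by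
      rw [mulVec_eV _ hsD]
    have e2 : (1 : Matrix D.Idx D.Idx F) row (Sum.inr s) = ((1 : Matrix D.Idx D.Idx F) *ᵥ eV D F s.val) row := by
      rw [mulVec_eV _ hsD]
    rw [e1, e2, Matrix.one_mulVec]
    by_cases h1 : s.val = r
    · rw [h1, g.x_self' hr]
    · by_cases h2 : s.val = T.n - 1 - r
      · rw [h2, g.x_neg' hr]
        cases row with
        | inl j =>
          exfalso
          apply hcon 1 le_rfl
          rw [lvr_inr, lvr_inl, h2, g.lfr_neg a hr]; simp
        | inr u =>
          have hur : u.val ≠ r := by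
            intro hur
            apply hcon 2 (by norm_num)
            rw [lvr_inr, lvr_inr, h2, g.lfr_neg a hr, hur]; push_cast; ring
          rw [Pi.add_apply, Pi.add_apply, Pi.smul_apply, eV_inr (s := r), if_neg hur]
          simp [hV_inr]
      · rw [g.x_e' hr hs h1 h2, Pi.add_apply]
        have : ((List.map (fun q => (((q.1.2 : ℤ) : F) * t ^ (q.2 + 1)) • eV D F q.1.1) (T.ent r s).zipIdx).sum) row = 0 := by
          have hq : ∀ q ∈ (T.ent r s).zipIdx, eV D F q.1.1 row = 0 := by
            intro q hq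
            cases row with
            | inl j => exact eV_inl _
            | inr u =>
              rw [eV_inr, if_neg]
              intro hu
              have h3 := g.lfr_ent a hr hs h1 h2 q hq
              apply hcon (q.2 + 1) (by omega)
              rw [lvr_inr, lvr_inr, hu, h3]; push_cast; ring
          revert hq
          generalize (T.ent r s).zipIdx = L
          intro hq
          induction L with
          | nil => simp
          | cons a L ih =>
            rw [List.map_cons, List.sum_cons, Pi.add_apply, Pi.smul_apply, hq a List.mem_cons_self, ih (fun q hq' => hq q (List.mem_cons_of_mem _ hq'))]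
            simp
        rw [this, add_zero]

/-- `x_r(t) - 1` raises levels by at least `lfr a r` if that is nonnegative -/
theorem X_sub {r : ℕ} (a : ℕ → ℝ) (h0 : 0 ≤ lfr T a r) (t : F) :
    Ge (lvr D T a) (lvr D T a) (lfr T a r) ((g.X r t : Matrix D.Idx D.Idx F) - 1) := by
  intro row col h
  by_cases hr : r < T.n
  · rw [Matrix.sub_apply] at h
    obtain ⟨k, hk, e⟩ := g.xr_entry hr a t row col (fun h2 => h (by
      change D.x F r t row col - _ = 0
      rw [h2, sub_self]))
    have hk' : (1 : ℝ) ≤ k := by exact_mod_cast hk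
    nlinarith
  · rw [g.X_out hr] at h
    simp at h

/-- `x_r(t)` with `lfr a r = 0` preserves levels -/
theorem X_lev {r : ℕ} (a : ℕ → ℝ) (h0 : lfr T a r = 0) (t : F) :
    ∀ row col, (g.X r t : Matrix D.Idx D.Idx F) row col ≠ 0 → lvr D T a row = lvr D T a col := by
  intro row col h
  by_cases hr : r < T.n
  · by_cases hrc : row = col
    · rw [hrc]
    · obtain ⟨k, hk, e⟩ := g.xr_entry hr a t row col (by rw [Matrix.one_apply_ne hrc]; exact h)
      rw [e, h0]; ring
  · rw [g.X_out hr] at h
    by_cases hrc : row = col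
    · rw [hrc]
    · rw [Units.val_one, Matrix.one_apply_ne hrc] at h; exact absurd rfl h

theorem H_lev (a : ℕ → ℝ) {x : GL D.Idx F} (hx : x ∈ D.diagonalSubgroup F) :
    ∀ row col, (x : Matrix D.Idx D.Idx F) row col ≠ 0 → lvr D T a row = lvr D T a col := by
  intro row col h
  obtain ⟨χ, _, rfl, _⟩ := g.H_X hx
  by_cases hrc : row = col
  · rw [hrc]
  · rw [dg_val] at h
    unfold ChevalleyDatum.charDiag at h
    rw [Matrix.diagonal_apply_ne _ hrc] at h
    exact absurd rfl h

/-- the submonoid of elements respecting a level function -/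
def _root_.CfsgLib.Chev.GeM {I : Type*} [Fintype I] [DecidableEq I] (F : Type*) [Field F] (L : I → ℝ) : Submonoid (GL I F) where
  carrier := {x | Ge L L 0 (x : Matrix I I F)}
  mul_mem' := by
    intro x y hx hy
    have := hx.mul hy
    rw [add_zero] at this
    exact this
  one_mem' := Ge.one L

omit g in
theorem _root_.CfsgLib.Chev.mem_of_monoid {G : Type*} [Group G] [Finite G] (M : Submonoid G) {S : Set G} (h : S ⊆ M) {x : G}
    (hx : x ∈ Subgroup.closure S) : x ∈ M := by
  induction hx using Subgroup.closure_induction with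
  | mem y hy => exact h hy
  | one => exact M.one_mem
  | mul y z _ _ hy hz => exact M.mul_mem hy hz
  | inv y _ hy =>
    have h1 : y⁻¹ = y ^ (orderOf y - 1) := by
      rw [inv_eq_iff_mul_eq_one, ← pow_succ', Nat.sub_add_cancel (orderOf_pos y), pow_orderOf_eq_one]
    rw [h1]
    exact M.pow_mem hy _

end Mat

end Good3

end CfsgLib.Chev
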