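import Cfsg.Agent.LibChevBT

set_option autoImplicit false
set_option linter.unusedSectionVars false

/-! Weyl group action on real functionals (seat helper15). -/

namespace CfsgLib.Chev

open Cfsg.Lie Matrix

/-- entries only between equal levels -/
def EqL {I : Type*} {F : Type*} [Field F] (L₁ L₂ : I → ℝ) (M : Matrix I I F) : Prop :=
  ∀ row col, M row col ≠ 0 → L₁ row = L₂ col

theorem EqL.mul {I : Type*} [Fintype I] {F : Type*} [Field F] {L₁ L₂ L₃ : I → ℝ} {M N : Matrix I I F}
    (h1 : EqL L₁ L₂ M) (h2 : EqL L₂ L₃ N) : EqL L₁ L₃ (M * N) := by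
  intro row col h
  rw [Matrix.mul_apply] at h
  obtain ⟨i, _, hi⟩ := Finset.exists_ne_zero_of_sum_ne_zero h
  exact (h1 row i (left_ne_zero_of_mul hi)).trans (h2 i col (right_ne_zero_of_mul hi))

theorem EqL.ge {I : Type*} {F : Type*} [Field F] {L₁ L₂ : I → ℝ} {M : Matrix I I F} (h : EqL L₁ L₂ M) : Ge L₁ L₂ 0 M := by
  intro row col h2
  rw [h row col h2, add_zero]

theorem EqL.one {I : Type*} [DecidableEq I] {F : Type*} [Field F] (L : I → ℝ) : EqL L L (1 : Matrix I I F) := by
  intro row col h
  by_cases hrc : row = col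
  · rw [hrc]
  · rw [Matrix.one_apply_ne hrc] at h; exact absurd rfl h

/-- `a' = w a` as functionals on roots -/
def Tr (T : Tb) (w : List ℕ) (a a' : ℕ → ℝ) : Prop := ∀ r < T.n, lfr T a' (wact T w r) = lfr T a r

namespace Good3

variable {D : ChevalleyDatum} {T : Tb} (g : Good3 D T)
include g

theorem lfr_wact (a : ℕ → ℝ) {w : List ℕ} (hw : VW T w) {s : ℕ} (hs : s < T.n) :
    lfr T (fun j => lfr T a (wact T w (T.sim j))) s = lfr T a (wact T w s) := by
  unfold lfr
  have : ∀ j ∈ Finset.range T.l, a j * (T.v (wact T w s) j : ℝ) =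
      ∑ k ∈ Finset.range T.l, a j * ((T.v s k : ℝ) * (T.v (wact T w (T.sim k)) j : ℝ)) := by
    intro j hj
    rw [g.v_wact hw hs (Finset.mem_range.1 hj)]
    push_cast
    rw [Finset.mul_sum]
  rw [Finset.sum_congr rfl this, Finset.sum_comm]
  apply Finset.sum_congr rfl
  intro k _
  rw [Finset.sum_mul]
  apply Finset.sum_congr rfl
  intro j _
  ring

theorem refl_Tr (a : ℕ → ℝ) {i : ℕ} (hi : i < T.l) : Tr T [i] a (fun j => lfr T a (T.w i (T.sim j))) := by
  intro r hr
  have := g.lfr_wact a (g.VW_single hi) (s := T.w i r) (g.w_lt hi hr)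
  simp only [wact_cons, wact_nil] at this ⊢
  rw [this, g.w_w hi hr]

theorem ex_Tr {w : List ℕ} (hw : VW T w) (a : ℕ → ℝ) : ∃ a', Tr T w a a' := by
  induction w with
  | nil => exact ⟨a, fun r _ => rfl⟩
  | cons i w ih =>
    have hw' : VW T w := fun j hj => hw j (List.mem_cons_of_mem _ hj)
    have hi : i < T.l := hw i List.mem_cons_self
    obtain ⟨a0, h0⟩ := ih hw'
    refine ⟨fun j => lfr T a0 (T.w i (T.sim j)), fun r hr => ?_⟩
    have := g.refl_Tr a0 hi _ (g.wact_lt hw' hr)
    rw [wact_cons, wact_nil] at this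
    rw [wact_cons, this, h0 r hr]

theorem Tr_congr {w : List ℕ} (hw : VW T w) {a a' b : ℕ → ℝ} (h : Tr T w a a') (h' : Tr T w a b) :
    ∀ j < T.l, a' j = b j := by
  intro j hj
  obtain ⟨r, hr, e⟩ := g.wact_surj hw (g.sim_lt hj)
  have h1 := h r hr
  have h2 := h' r hr
  rw [e, g.lfr_sim _ hj] at h1 h2
  rw [h1, h2]

omit g in
/-- squared norm -/
def _root_.CfsgLib.Chev.Qn (T : Tb) (a : ℕ → ℝ) : ℝ := ∑ r : Fin T.n, (lfr T a r) ^ 2

theorem Qn_Tr {w : List ℕ} (hw : VW T w) {a a' : ℕ → ℝ} (h : Tr T w a a') : Qn T a' = Qn T a := by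
  unfold Qn
  rw [← Equiv.sum_comp (g.pw w)]
  apply Finset.sum_congr rfl
  intro r _
  rw [g.pw_val hw, h r r.2]

section Mat
variable {F : Type*} [Field F]

theorem nn_lev {i : ℕ} (hi : i < T.l) {a a' : ℕ → ℝ} (h : Tr T [i] a a') :
    EqL (lvr D T a') (lvr D T a) (g.nn (F := F) i : Matrix D.Idx D.Idx F) := by
  intro row col hne
  rw [g.nn_val hi] at hne
  cases col with
  | inl j =>
    have hjD := j.isLt
    have hj : j.val < T.l := by rw [← g.hl]; exact hjD
    have e1 : nM D F i row (Sum.inl j) = (nM D F i *ᵥ hV D F j.val) row := by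
      rw [mulVec_hV _ hjD]
    cases row with
    | inl u => rfl
    | inr u =>
      exfalso
      apply hne
      rw [e1, g.nM_h hi hj]
      simp [hV_inr]
  | inr s =>
    have hsD := s.isLt
    have hs : s.val < T.n := by rw [← g.hn]; exact hsD
    have e1 : nM D F i row (Sum.inr s) = (nM D F i *ᵥ eV D F s.val) row := by
      rw [mulVec_eV _ hsD]
    rw [e1, g.nM_e hi hs, Pi.smul_apply] at hne
    cases row with
    | inl u => rw [eV_inl] at hne; simp at hne
    | inr u =>
      rw [eV_inr] at hne
      have hu : u.val = T.w i s := by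
        by_contra h2
        rw [if_neg h2] at hne
        simp at hne
      rw [lvr_inr, lvr_inr, hu]
      have := h s hs
      rw [wact_cons, wact_nil] at this
      exact this

theorem nn_inv_lev {i : ℕ} (hi : i < T.l) {a a' : ℕ → ℝ} (h : Tr T [i] a a') :
    EqL (lvr D T a) (lvr D T a') (((g.nn (F := F) i)⁻¹ : GL D.Idx F) : Matrix D.Idx D.Idx F) := by
  have h1 : Tr T [i] a' a := by
    intro r hr
    have := h (T.w i r) (g.w_lt hi hr)
    rw [wact_cons, wact_nil] at this ⊢
    rw [g.w_w hi hr] at this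
    exact this.symm
  have h2 : (g.nn (F := F) i)⁻¹ = g.nn i * (g.nn i * g.nn i)⁻¹ := by group
  rw [h2, Units.val_mul]
  exact (g.nn_lev hi h1).mul (g.H_lev _ (Subgroup.inv_mem _ (g.nn_sq_mem hi)))

theorem nw_lev {w : List ℕ} (hw : VW T w) {a a' : ℕ → ℝ} (h : Tr T w a a') :
    EqL (lvr D T a') (lvr D T a) (g.nw (F := F) w : Matrix D.Idx D.Idx F) ∧
    EqL (lvr D T a) (lvr D T a') (((g.nw (F := F) w)⁻¹ : GL D.Idx F) : Matrix D.Idx D.Idx F) := by
  induction w generalizing a' with
  | nil =>
    have h1 : lvr D T a' = lvr D T a := by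
      funext i
      cases i with
      | inl i => rfl
      | inr s =>
        rw [lvr_inr, lvr_inr]
        exact h s (s.2.trans_eq g.hn)
    rw [nw_nil, inv_one, Units.val_one, h1]
    exact ⟨EqL.one _, EqL.one _⟩
  | cons i w ih =>
    have hw' : VW T w := fun j hj => hw j (List.mem_cons_of_mem _ hj)
    have hi : i < T.l := hw i List.mem_cons_self
    obtain ⟨a0, h0⟩ := g.ex_Tr hw' a
    have h1 : Tr T [i] a0 a' := by
      intro s hs
      obtain ⟨r, hr, e⟩ := g.wact_surj hw' hs
      have h2 := h r hr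
      have h3 := h0 r hr
      rw [e] at h3
      rw [wact_cons, e] at h2
      rw [wact_cons, wact_nil, h2, h3]
    obtain ⟨h2, h3⟩ := ih hw' h0
    rw [nw_cons, _root_.mul_inv_rev, Units.val_mul, Units.val_mul]
    exact ⟨(g.nn_lev hi h1).mul h2, h3.mul (g.nn_inv_lev hi h1)⟩

end Mat

/-- every functional is conjugate to a dominant one -/
theorem ex_dom : ∀ (k : ℕ) (a : ℕ → ℝ), ((Finset.univ : Finset (Fin T.n)).filter fun r : Fin T.n => T.n / 2 ≤ (r : ℕ) ∧ lfr T a r < 0).card = k →
    ∃ w a', VW T w ∧ Tr T w a a' ∧ ∀ j < T.l, 0 ≤ a' j := by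
  classical
  intro k
  induction k using Nat.strong_induction_on with
  | _ k ih =>
    intro a hk
    by_cases hall : ∀ j < T.l, 0 ≤ a j
    · exact ⟨[], a, by intro i hi; simp at hi, fun r _ => rfl, hall⟩
    · push Not at hall
      obtain ⟨i, hi, hneg⟩ := hall
      set a1 : ℕ → ℝ := fun j => lfr T a (T.w i (T.sim j)) with ha1
      have h1 := g.refl_Tr a hi
      have h1' : ∀ r < T.n, lfr T a1 (T.w i r) = lfr T a r := by
        intro r hr
        have := h1 r hr
        rw [wact_cons, wact_nil] at this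
        exact this
      have hlt : ((Finset.univ : Finset (Fin T.n)).filter fun r : Fin T.n => T.n / 2 ≤ (r : ℕ) ∧ lfr T a1 r < 0).card < k := by
        rw [← hk]
        have h2 : ((Finset.univ : Finset (Fin T.n)).filter fun r : Fin T.n => T.n / 2 ≤ (r : ℕ) ∧ lfr T a1 r < 0).image (g.ps i) ⊆
            ((Finset.univ : Finset (Fin T.n)).filter fun r : Fin T.n => T.n / 2 ≤ (r : ℕ) ∧ lfr T a r < 0).erase (g.fs hi) := by
          intro s hs
          rw [Finset.mem_image] at hs
          obtain ⟨r, hr, rfl⟩ := hs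
          rw [Finset.mem_filter] at hr
          obtain ⟨-, hrp, hr2⟩ := hr
          have hne : (r : ℕ) ≠ T.sim i := by
            intro h
            rw [h] at hr2
            have h3 := h1' (T.n - 1 - T.sim i) (by have := g.sim_lt hi; omega)
            rw [g.w_neg hi (g.sim_lt hi), g.w_sim hi, g.lfr_neg _ (g.sim_lt hi), g.lfr_sim _ hi] at h3
            have h4 : T.n - 1 - (T.n - 1 - T.sim i) = T.sim i := by have := g.sim_lt hi; omega
            rw [h4] at h3
            linarith
          have h3 := h1' (T.w i r) (g.w_lt hi r.2)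
          rw [g.w_w hi r.2] at h3
          rw [Finset.mem_erase, Finset.mem_filter]
          refine ⟨?_, Finset.mem_univ _, ?_, ?_⟩
          · intro h
            have h4 := congrArg Fin.val h
            rw [g.ps_val hi] at h4
            exact g.w_ne_sim r.2 hrp hi h4
          · rw [g.ps_val hi]; exact g.w_pos hi r.2 hrp hne
          · rw [g.ps_val hi, ← h3]; exact hr2
        have h3 := Finset.card_le_card h2
        rw [Finset.card_image_of_injective _ (g.ps i).injective, Finset.card_erase_of_mem] at h3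
        · have h4 : 0 < ((Finset.univ : Finset (Fin T.n)).filter fun r : Fin T.n => T.n / 2 ≤ (r : ℕ) ∧ lfr T a r < 0).card := by
            apply Finset.card_pos.2
            refine ⟨g.fs hi, ?_⟩
            rw [Finset.mem_filter]
            refine ⟨Finset.mem_univ _, g.sim_pos hi, ?_⟩
            change lfr T a (T.sim i) < 0
            rw [g.lfr_sim _ hi]; exact hneg
          omega
        · rw [Finset.mem_filter]
          refine ⟨Finset.mem_univ _, g.sim_pos hi, ?_⟩
          change lfr T a (T.sim i) < 0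
          rw [g.lfr_sim _ hi]; exact hneg
      obtain ⟨w, a', hw, hT, hd⟩ := ih _ hlt a1 rfl
      refine ⟨w ++ [i], a', g.VW_append hw (g.VW_single hi), fun r hr => ?_, hd⟩
      rw [wact_append, wact_cons, wact_nil, hT _ (g.w_lt hi hr), h1' r hr]

section Mat
variable {F : Type*} [Field F]

/-- the stabilizer of a dominant functional lies in the standard parabolic subgroup -/
theorem stab_real {a : ℕ → ℝ} (ha : ∀ j < T.l, 0 ≤ a j) : ∀ (k : ℕ) (w : List ℕ), w.length = k → VW T w → Tr T w a a →
    g.nw (F := F) w ∈ D.parabolicSubgroup F {j | a j = 0} := by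
  have hev := g.even
  intro k
  induction k using Nat.strong_induction_on with
  | _ k ih =>
    intro w hk hw hwr
    by_cases hall : ∀ i < T.l, T.n / 2 ≤ wact T w (T.sim i)
    · exact B_le_par _ (H_le_B (g.mem_H_of_pos hw hall))
    · push Not at hall
      obtain ⟨i, hi, hlt⟩ := hall
      obtain ⟨w', hw', hl', x, hx, e⟩ := g.exch' (F := F) hw hi hlt
      have hsl := g.sim_lt hi
      have hAi : a i = 0 := by
        have h1 := hwr (T.sim i) hsl
        rw [g.lfr_sim _ hi] at h1
        have h2 : lfr T a (wact T w (T.sim i)) ≤ 0 := by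
          have h3 := g.lfr_neg a (r := T.n - 1 - wact T w (T.sim i)) (by omega)
          have h4 : T.n - 1 - (T.n - 1 - wact T w (T.sim i)) = wact T w (T.sim i) := by omega
          rw [h4] at h3
          rw [h3, neg_nonpos]
          unfold lfr
          apply Finset.sum_nonneg
          intro j hj
          rw [Finset.mem_range] at hj
          apply mul_nonneg (ha j hj)
          have := g.v_nonneg (s := T.n - 1 - wact T w (T.sim i)) (j := j) (by omega) hj (by omega)
          exact_mod_cast this
        have h3 := ha i hi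
        linarith
      have hwi : ∀ r < T.n, lfr T a (T.w i r) = lfr T a r := by
        intro r hr
        unfold lfr
        apply Finset.sum_congr rfl
        intro j hj
        rw [g.v_w hi hr (Finset.mem_range.1 hj)]
        by_cases hji : j = i
        · rw [hji, hAi]; ring
        · rw [if_neg hji]; push_cast; ring
      have hwr' : Tr T w' a a := by
        intro r hr
        have h1 := g.wact_congr (g.VW_append hw (g.VW_single hi)) hw' hx e r hr
        rw [← h1, wact_append, wact_cons, wact_nil, hwr _ (g.w_lt hi hr), hwi r hr]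
      have h2 := ih w'.length (by omega) w' rfl hw' hwr'
      have e3 : g.nw w = g.nw (w ++ [i]) * (g.nn (F := F) i)⁻¹ := by
        rw [nw_append, nw_cons, nw_nil]; group
      rw [e3, e]
      exact Subgroup.mul_mem _ (Subgroup.mul_mem _ h2 (B_le_par _ (H_le_B hx)))
        (Subgroup.inv_mem _ (g.nn_mem_par hi hAi))

end Mat

end Good3

end CfsgLib.Chev
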