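import Cfsg.Agent.LibChevBT2

set_option autoImplicit false
set_option linter.unusedSectionVars false

/-! The Borel-Tits property (seat helper15). -/

namespace CfsgLib.Chev

open Cfsg.Lie Matrix

noncomputable def ext0 {l : ℕ} (b : Fin l → ℝ) : ℕ → ℝ := fun i => if h : i < l then b ⟨i, h⟩ else 0

theorem ext0_cont {l : ℕ} (j : ℕ) : Continuous (fun b : Fin l → ℝ => ext0 b j) := by
  unfold ext0
  by_cases h : j < l
  · simp only [dif_pos h]; exact continuous_apply _
  · simp only [dif_neg h]; exact continuous_const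

theorem lfr_congr (T : Tb) {a b : ℕ → ℝ} (h : ∀ j < T.l, a j = b j) (r : ℕ) : lfr T a r = lfr T b r := by
  unfold lfr
  apply Finset.sum_congr rfl
  intro j hj
  rw [h j (Finset.mem_range.1 hj)]

theorem lvr_congr (D : ChevalleyDatum) (T : Tb) {a b : ℕ → ℝ} (h : ∀ j < T.l, a j = b j) : lvr D T a = lvr D T b := by
  funext i
  cases i with
  | inl i => rfl
  | inr s => exact lfr_congr T h s

theorem Qn_congr (T : Tb) {a b : ℕ → ℝ} (h : ∀ j < T.l, a j = b j) : Qn T a = Qn T b := by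
  unfold Qn
  apply Finset.sum_congr rfl
  intro r _
  rw [lfr_congr T h]

theorem Qn_smul (T : Tb) (c : ℝ) (a : ℕ → ℝ) : Qn T (c • a) = c ^ 2 * Qn T a := by
  unfold Qn
  rw [Finset.mul_sum]
  apply Finset.sum_congr rfl
  intro r _
  rw [lfr_smul]; ring

theorem Qn_nonneg (T : Tb) (a : ℕ → ℝ) : 0 ≤ Qn T a := Finset.sum_nonneg (fun _ _ => sq_nonneg _)

theorem lfr_cont (T : Tb) (r : ℕ) : Continuous (fun b : Fin T.l → ℝ => lfr T (ext0 b) r) := by
  unfold lfr
  apply continuous_finsetSum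
  intro j _
  exact (ext0_cont j).mul continuous_const

theorem lvr_cont (D : ChevalleyDatum) (T : Tb) (i : D.Idx) : Continuous (fun b : Fin T.l → ℝ => lvr D T (ext0 b) i) := by
  cases i with
  | inl i => exact continuous_const
  | inr s => exact lfr_cont T s

theorem Qn_cont (T : Tb) : Continuous (fun b : Fin T.l → ℝ => Qn T (ext0 b)) := by
  unfold Qn
  apply continuous_finsetSum
  intro j _
  exact (lfr_cont T j).pow 2

namespace Good3

variable {D : ChevalleyDatum} {T : Tb} (g : Good3 D T)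
include g

theorem sq_le_Qn (a : ℕ → ℝ) {j : ℕ} (hj : j < T.l) : (a j) ^ 2 ≤ Qn T a := by
  unfold Qn
  have h1 : (lfr T a (g.fs hj : Fin T.n)) ^ 2 = (a j) ^ 2 := by
    have : lfr T a (g.fs hj : Fin T.n) = a j := g.lfr_sim a hj
    rw [this]
  rw [← h1]
  exact Finset.single_le_sum (f := fun r : Fin T.n => (lfr T a r) ^ 2) (fun _ _ => sq_nonneg _) (Finset.mem_univ _)

theorem compact_S : IsCompact {b : Fin T.l → ℝ | Qn T (ext0 b) = 1} := by
  apply Metric.isCompact_of_isClosed_isBounded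
  · exact isClosed_eq (Qn_cont T) continuous_const
  · rw [Metric.isBounded_iff_subset_closedBall 0]
    refine ⟨1, fun b hb => ?_⟩
    rw [mem_closedBall_zero_iff, pi_norm_le_iff_of_nonneg zero_le_one]
    intro j
    have h1 := g.sq_le_Qn (ext0 b) j.2
    have h2 : Qn T (ext0 b) = 1 := hb
    have h3 : ext0 b (j : ℕ) = b j := by unfold ext0; rw [dif_pos j.2]
    rw [h2, h3] at h1
    rw [Real.norm_eq_abs]
    exact abs_le_one_iff_mul_self_le_one.2 (by nlinarith)

section Mat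
variable {F : Type*} [Field F]

omit g in
/-- quality of a direction -/
def _root_.CfsgLib.Chev.Gd (D : ChevalleyDatum) (T : Tb) {F : Type*} [Field F] (R : Subgroup (GL D.Idx F)) (x : GL D.Idx F) (a : ℕ → ℝ) (m : ℝ) : Prop :=
  ∀ y ∈ R, Ge (lvr D T a) (lvr D T a) m (((x⁻¹ * y * x : GL D.Idx F) : Matrix D.Idx D.Idx F) - 1)

theorem exists_opt [Finite F] (hl : 0 < T.l) (R : Subgroup (GL D.Idx F)) (hR : R ≠ ⊥) :
    ∃ x ∈ D.group F, ∃ a : ℕ → ℝ, ∃ M : ℝ, Qn T a = 1 ∧ Gd D T R x a M ∧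
      ∀ x' ∈ D.group F, ∀ a' : ℕ → ℝ, Qn T a' = 1 → ∀ m, Gd D T R x' a' m → m ≤ M := by
  classical
  obtain ⟨⟨y0, hy0⟩, hne0'⟩ := Subgroup.ne_bot_iff_exists_ne_one.1 hR
  have hne0 : y0 ≠ 1 := fun h => hne0' (Subtype.ext h)
  let E : D.group F → Finset (D.Idx × D.Idx) := fun x => Finset.univ.filter
    (fun p => ∃ y ∈ R, (((x : GL D.Idx F)⁻¹ * y * x : GL D.Idx F) : Matrix D.Idx D.Idx F) p.1 p.2 - (1 : Matrix D.Idx D.Idx F) p.1 p.2 ≠ 0)
  have hE : ∀ x, (E x).Nonempty := by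
    intro x
    by_contra hcon
    rw [Finset.not_nonempty_iff_eq_empty, Finset.filter_eq_empty_iff] at hcon
    have h1 : (x : GL D.Idx F)⁻¹ * y0 * x = 1 := by
      apply Units.ext
      ext i j
      have := hcon (Finset.mem_univ (i, j))
      push Not at this
      have h2 := this y0 hy0
      rw [sub_eq_zero] at h2
      rw [h2, Units.val_one]
    apply hne0
    have : (y0 : GL D.Idx F) = x * ((x : GL D.Idx F)⁻¹ * y0 * x) * (x : GL D.Idx F)⁻¹ := by group
    rw [this, h1]; group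
  let f : D.group F → (Fin T.l → ℝ) → ℝ := fun x b => (E x).inf' (hE x) (fun p => lvr D T (ext0 b) p.1 - lvr D T (ext0 b) p.2)
  have hGd : ∀ (x : D.group F) b m, Gd D T R x (ext0 b) m ↔ m ≤ f x b := by
    intro x b m
    rw [Finset.le_inf'_iff]
    constructor
    · rintro h ⟨i, j⟩ hp
      rw [Finset.mem_filter] at hp
      obtain ⟨-, y, hy, h2⟩ := hp
      have := h y hy i j h2
      simp only
      linarith
    · intro h y hy i j h2
      have := h (i, j) (Finset.mem_filter.2 ⟨Finset.mem_univ _, y, hy, h2⟩)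
      simp only at this
      linarith
  have hcont : ∀ x, Continuous (f x) := by
    intro x
    apply Continuous.finset_inf'_apply
    intro p _
    exact (lvr_cont D T p.1).sub (lvr_cont D T p.2)
  have hSne : {b : Fin T.l → ℝ | Qn T (ext0 b) = 1}.Nonempty := by
    have h1 := g.sq_le_Qn (fun _ => (1 : ℝ)) hl
    have h2 : 0 < Qn T (fun _ => (1 : ℝ)) := by linarith [h1, (one_pow 2 : (1 : ℝ) ^ 2 = 1)]
    refine ⟨fun _ => (Real.sqrt (Qn T (fun _ => (1 : ℝ))))⁻¹, ?_⟩
    have h3 : Qn T (ext0 fun _ : Fin T.l => (Real.sqrt (Qn T (fun _ => (1 : ℝ))))⁻¹) =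
        Qn T ((Real.sqrt (Qn T (fun _ => (1 : ℝ))))⁻¹ • (fun _ => (1 : ℝ))) := by
      apply Qn_congr
      intro j hj
      unfold ext0
      rw [dif_pos hj]; simp
    rw [Set.mem_setOf_eq, h3, Qn_smul, inv_pow, Real.sq_sqrt h2.le, inv_mul_cancel₀ h2.ne']
  have hmax : ∀ x, ∃ b ∈ {b : Fin T.l → ℝ | Qn T (ext0 b) = 1}, ∀ b' ∈ {b : Fin T.l → ℝ | Qn T (ext0 b) = 1}, f x b' ≤ f x b := by
    intro x
    obtain ⟨b, hb, hb'⟩ := g.compact_S.exists_isMaxOn hSne (hcont x).continuousOn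
    exact ⟨b, hb, fun b' h' => hb' h'⟩
  choose B hB hB' using hmax
  obtain ⟨x, hx⟩ := Finite.exists_max (fun x : D.group F => f x (B x))
  refine ⟨x, x.2, ext0 (B x), f x (B x), hB x, (hGd _ _ _).2 le_rfl, ?_⟩
  intro x' hx' a' ha' m hm
  let b' : Fin T.l → ℝ := fun j => a' j
  have hc : ∀ j < T.l, ext0 b' j = a' j := by
    intro j hj; unfold ext0; rw [dif_pos hj]
  have h1 : Gd D T R x' (ext0 b') m := by
    intro y hy
    rw [lvr_congr D T hc]
    exact hm y hy
  have h2 := (hGd ⟨x', hx'⟩ b' m).1 h1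
  have h3 := hB' ⟨x', hx'⟩ b' (by rw [Set.mem_setOf_eq, Qn_congr T hc]; exact ha')
  exact h2.trans (h3.trans (hx ⟨x', hx'⟩))

end Mat

end Good3

end CfsgLib.Chev
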