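import Cfsg.Agent.LibChevBT3

set_option autoImplicit false
set_option linter.unusedSectionVars false

/-! The Borel-Tits property, main theorem (seat helper15). -/

namespace CfsgLib.Chev

open Cfsg.Lie Matrix
open scoped Pointwise

theorem mem_sup_norm {G : Type*} [Group G] {A B : Subgroup G} (h : ∀ b ∈ B, ∀ a ∈ A, b * a * b⁻¹ ∈ A) {x : G}
    (hx : x ∈ A ⊔ B) : ∃ a ∈ A, ∃ b ∈ B, x = a * b := by
  let K : Subgroup G :=
    { carrier := {x | ∃ a ∈ A, ∃ b ∈ B, x = a * b}
      mul_mem' := by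
        rintro _ _ ⟨a, ha, b, hb, rfl⟩ ⟨a', ha', b', hb', rfl⟩
        exact ⟨a * (b * a' * b⁻¹), A.mul_mem ha (h b hb a' ha'), b * b', B.mul_mem hb hb', by group⟩
      one_mem' := ⟨1, A.one_mem, 1, B.one_mem, by group⟩
      inv_mem' := by
        rintro _ ⟨a, ha, b, hb, rfl⟩
        exact ⟨b⁻¹ * a⁻¹ * (b⁻¹)⁻¹, h _ (B.inv_mem hb) _ (A.inv_mem ha), b⁻¹, B.inv_mem hb, by group⟩ }
  have : A ⊔ B ≤ K := sup_le (fun a ha => ⟨a, ha, 1, B.one_mem, by group⟩) (fun b hb => ⟨1, A.one_mem, b, hb, by group⟩)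
  exact this hx

/-- strict positivity -/
def StM {I : Type*} [Fintype I] [DecidableEq I] (F : Type*) [Field F] (L : I → ℝ) : Submonoid (GL I F) where
  carrier := {x | ∀ row col, ((x : Matrix I I F) - 1) row col ≠ 0 → L col < L row}
  mul_mem' := by
    intro x y hx hy row col h
    have e : ((x * y : GL I F) : Matrix I I F) - 1 = ((x : Matrix I I F) - 1) * ((y : Matrix I I F) - 1) +
        (((x : Matrix I I F) - 1) + ((y : Matrix I I F) - 1)) := by
      rw [Units.val_mul]; noncomm_ring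
    rw [e, Matrix.add_apply, Matrix.add_apply] at h
    by_cases h1 : ((x : Matrix I I F) - 1) row col = 0
    · by_cases h2 : ((y : Matrix I I F) - 1) row col = 0
      · rw [h1, h2, add_zero, add_zero, Matrix.mul_apply] at h
        obtain ⟨i, _, hi⟩ := Finset.exists_ne_zero_of_sum_ne_zero h
        exact (hy i col (right_ne_zero_of_mul hi)).trans (hx row i (left_ne_zero_of_mul hi))
      · exact hy _ _ h2
    · exact hx _ _ h1
  one_mem' := by
    intro row col h
    simp at h

/-- level preserving elements -/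
def EqM {I : Type*} [Fintype I] [DecidableEq I] (F : Type*) [Field F] (L : I → ℝ) : Submonoid (GL I F) where
  carrier := {x | EqL L L (x : Matrix I I F)}
  mul_mem' := fun hx hy => hx.mul hy
  one_mem' := EqL.one L

theorem sq_lfr_le' (T : Tb) (a : ℕ → ℝ) (r : Fin T.n) : (lfr T a (r : ℕ)) ^ 2 ≤ Qn T a := by
  unfold Qn
  exact Finset.single_le_sum (f := fun r : Fin T.n => (lfr T a (r : ℕ)) ^ 2) (fun _ _ => sq_nonneg _) (Finset.mem_univ r)

theorem sq_lfr_le (T : Tb) (a : ℕ → ℝ) {s : ℕ} (hs : s < T.n) : (lfr T a s) ^ 2 ≤ Qn T a :=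
  sq_lfr_le' T a ⟨s, hs⟩

namespace Good3

variable {D : ChevalleyDatum} {T : Tb} (g : Good3 D T)
include g

theorem lfr_nonneg {a : ℕ → ℝ} (ha : ∀ j < T.l, 0 ≤ a j) {r : ℕ} (hr : r < T.n) (hp : T.n / 2 ≤ r) : 0 ≤ lfr T a r := by
  unfold lfr
  apply Finset.sum_nonneg
  intro j hj
  rw [Finset.mem_range] at hj
  exact mul_nonneg (ha j hj) (by exact_mod_cast g.v_nonneg hr hj hp)

section Mat
variable {F : Type*} [Field F]

theorem B_GeM [Finite F] {a : ℕ → ℝ} (ha : ∀ j < T.l, 0 ≤ a j) {x : GL D.Idx F} (hx : x ∈ D.borelSubgroup F) :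
    Ge (lvr D T a) (lvr D T a) 0 (x : Matrix D.Idx D.Idx F) := by
  obtain ⟨u, hu, h, hh, rfl⟩ := g.mem_B.1 hx
  have h1 : Ge (lvr D T a) (lvr D T a) 0 (h : Matrix D.Idx D.Idx F) := EqL.ge (g.H_lev a hh)
  have h2 : u ∈ GeM F (lvr D T a) := by
    rw [g.U_eq] at hu
    unfold Uge at hu
    apply mem_of_monoid (GeM F (lvr D T a)) _ hu
    rintro _ ⟨r, t, h3, h4, rfl⟩
    have h5 := g.X_sub a (g.lfr_nonneg ha h4 h3) t
    have h6 := (h5.mono (g.lfr_nonneg ha h4 h3)).add (Ge.one (F := F) (lvr D T a))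
    rw [sub_add_cancel] at h6
    exact h6
  have := (h2 : Ge _ _ _ _).mul h1
  rw [add_zero] at this
  exact this

/-- change of base point by an element -/
theorem Gd_conj {R : Subgroup (GL D.Idx F)} {x b : GL D.Idx F} {a a' : ℕ → ℝ} {m : ℝ}
    (h1 : Ge (lvr D T a') (lvr D T a) 0 (((b⁻¹ : GL D.Idx F)) : Matrix D.Idx D.Idx F))
    (h2 : Ge (lvr D T a) (lvr D T a') 0 (b : Matrix D.Idx D.Idx F)) (h : Gd D T R x a m) : Gd D T R (x * b) a' m := by
  intro y hy
  have e : ((((x * b)⁻¹ * y * (x * b) : GL D.Idx F)) : Matrix D.Idx D.Idx F) - 1 =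
      ((b⁻¹ : GL D.Idx F) : Matrix D.Idx D.Idx F) * (((x⁻¹ * y * x : GL D.Idx F) : Matrix D.Idx D.Idx F) - 1) * (b : Matrix D.Idx D.Idx F) := by
    have e1 : (x * b)⁻¹ * y * (x * b) = b⁻¹ * (x⁻¹ * y * x) * b := by group
    rw [e1, Matrix.mul_sub, Matrix.sub_mul, Matrix.mul_one, Units.val_mul, Units.val_mul, ← Units.val_mul b⁻¹ b, inv_mul_cancel, Units.val_one]
  rw [e]
  have := (h1.mul (h y hy)).mul h2
  rw [zero_add, add_zero] at this
  exact this

theorem conj_into_U [Fintype F] {p : ℕ} [Fact p.Prime] [CharP F p] {R : Subgroup (GL D.Idx F)} (hRG : R ≤ D.group F)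
    (hR : IsPGroup p R) : ∃ x ∈ D.group F, ∀ y ∈ R, x⁻¹ * y * x ∈ D.posUnipotent F := by
  obtain ⟨P, hP⟩ := g.exists_sylow (F := F) (p := p)
  have h1 : IsPGroup p (R.subgroupOf (D.group F)) := hR.of_equiv (Subgroup.subgroupOfEquivOfLe hRG).symm
  obtain ⟨Q, hQ⟩ := h1.exists_le_sylow
  obtain ⟨x, hx⟩ := MulAction.exists_smul_eq (D.group F) P Q
  refine ⟨x, x.2, ?_⟩
  intro y hy
  have h2 : (⟨y, hRG hy⟩ : D.group F) ∈ Q := hQ hy
  rw [← hx] at h2
  have h3 : (⟨y, hRG hy⟩ : D.group F) ∈ (MulAut.conj x • (P : Subgroup (D.group F))) := h2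
  rw [Subgroup.mem_pointwise_smul_iff_inv_smul_mem, hP] at h3
  have h4 : ((MulAut.conj x)⁻¹ • (⟨y, hRG hy⟩ : D.group F) : D.group F) = x⁻¹ * ⟨y, hRG hy⟩ * x := by
    rw [← map_inv]
    change x⁻¹ * ⟨y, hRG hy⟩ * (x⁻¹)⁻¹ = _
    rw [inv_inv]
  rw [h4] at h3
  exact h3

theorem Gd_norm {R : Subgroup (GL D.Idx F)} {x : GL D.Idx F} {b : ℕ → ℝ} {m M : ℝ} (hq : 0 < Qn T b) (h : Gd D T R x b m)
    (hx : x ∈ D.group F) (hmax : ∀ x' ∈ D.group F, ∀ a' : ℕ → ℝ, Qn T a' = 1 → ∀ m, Gd D T R x' a' m → m ≤ M) :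
    m ≤ M * Real.sqrt (Qn T b) := by
  obtain ⟨c, hc⟩ : ∃ c : ℝ, c = (Real.sqrt (Qn T b))⁻¹ := ⟨_, rfl⟩
  have h6 := Real.sqrt_pos.2 hq
  have hc0 : 0 ≤ c := by rw [hc]; positivity
  have h1 : Qn T (c • b) = 1 := by
    rw [Qn_smul, hc, inv_pow, Real.sq_sqrt hq.le, inv_mul_cancel₀ hq.ne']
  have h2 : Gd D T R x (c • b) (c * m) := by
    intro y hy
    rw [lvr_smul]
    exact (h y hy).smul hc0
  have h3 := hmax x hx _ h1 _ h2
  rw [hc, inv_mul_le_iff₀ h6] at h3
  linarith

set_option maxHeartbeats 1000000 in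
theorem borel_tits [Fintype F] {p : ℕ} [Fact p.Prime] [CharP F p] (hl : 0 < T.l) (R : Subgroup (GL D.Idx F))
    (hRG : R ≤ D.group F) (hR : IsPGroup p R) (hne : R ≠ ⊥) :
    ∃ x ∈ D.group F, ∃ J : Set ℕ, (∃ i, i < T.l ∧ i ∉ J) ∧
      Subgroup.normalizer (R : Set (GL D.Idx F)) ⊓ D.group F ≤ (D.parabolicSubgroup F J).map (MulAut.conj x).toMonoidHom ∧
      R ≤ (D.unipotentRadical F J).map (MulAut.conj x).toMonoidHom := by
  have hev := g.even
  obtain ⟨x0, hx0, a0, M, hQ0, hG0, hmax⟩ := g.exists_opt hl R hne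
  -- M > 0
  have hM : 0 < M := by
    obtain ⟨x', hx', hU⟩ := g.conj_into_U hRG hR
    have h1 := g.sq_le_Qn (fun _ => (1 : ℝ)) hl
    have h2 : 0 < Qn T (fun _ => (1 : ℝ)) := by linarith [h1, (one_pow 2 : (1 : ℝ) ^ 2 = 1)]
    have hG : Gd D T R x' (fun _ => (1 : ℝ)) 1 := by
      intro y hy row col hne
      have h3 := hU y hy
      have h4 : D.posUnipotent F ≤ UGL (F := F) (lvf D T (fun _ => 1)) 1 one_pos := by
        rw [g.U_eq]
        unfold Uge
        rw [Subgroup.closure_le]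
        rintro _ ⟨r, t, h5, h6, rfl⟩
        apply g.X_UGL h6
        have := g.ht_pos h6 h5
        unfold ht at this
        unfold lf
        simpa using this
      have h5 := (h4 h3).1 row col
      have h6 : ∀ i : D.Idx, lvr D T (fun _ => (1 : ℝ)) i = (lvf D T (fun _ => 1) i : ℝ) := by
        intro i
        cases i with
        | inl i => simp [lvr, lvf]
        | inr s =>
          simp only [lvr, lvf, Sum.elim_inr]
          unfold lfr lf
          push_cast
          rfl
      rw [h6, h6]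
      by_contra hcon
      apply hne
      rw [Matrix.sub_apply, h5, sub_self]
      push Not at hcon
      exact_mod_cast hcon
    have h4 := g.Gd_norm h2 hG hx' hmax
    have h5 := Real.sqrt_pos.2 h2
    by_contra hcon
    push Not at hcon
    nlinarith
  -- dominance
  obtain ⟨w, a, hw, hT, hdom⟩ := g.ex_dom _ a0 rfl
  have hQ : Qn T a = 1 := by rw [g.Qn_Tr hw hT, hQ0]
  set x1 := x0 * (g.nw w)⁻¹ with hx1
  have hx1G : x1 ∈ D.group F := Subgroup.mul_mem _ hx0 (Subgroup.inv_mem _ (g.nw_mem_G w))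
  obtain ⟨hn1, hn2⟩ := g.nw_lev (F := F) hw hT
  have hG1 : Gd D T R x1 a M := g.Gd_conj (by rw [inv_inv]; exact hn1.ge) hn2.ge hG0
  have hJ : ∃ i, i < T.l ∧ i ∉ {j : ℕ | a j = 0} := by
    by_contra hcon
    push Not at hcon
    have h1 : Qn T a = Qn T (fun _ => 0) := Qn_congr T (fun j hj => hcon j hj)
    rw [hQ] at h1
    unfold Qn lfr at h1
    simp at h1
  -- normalizer
  have hN : ∀ n ∈ Subgroup.normalizer (R : Set (GL D.Idx F)) ⊓ D.group F, x1⁻¹ * n * x1 ∈ D.parabolicSubgroup F {j | a j = 0} := by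
    rintro n ⟨hn, hnG⟩
    obtain ⟨w1, hw1, u, hu, h, hh, c, hc, e⟩ := CfsgLib.ChevFix.nf_exists g
      (Subgroup.mul_mem _ (Subgroup.mul_mem _ (Subgroup.inv_mem _ hx1G) hnG) hx1G)
    have hB2 : h * c ∈ D.borelSubgroup F := Subgroup.mul_mem _ (H_le_B hh) (U_le_B (g.Um_le_U _ hc))
    have hGu : Gd D T R (x1 * u) a M :=
      g.Gd_conj (g.B_GeM hdom (Subgroup.inv_mem _ (U_le_B hu))) (g.B_GeM hdom (U_le_B hu)) hG1
    have hGn : Gd D T R (n * x1) a M := by
      intro y hy
      have h2 : n⁻¹ * y * n ∈ R := by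
        have := (Subgroup.mem_normalizer_iff.1 (Subgroup.inv_mem _ hn) y).1 hy
        rwa [inv_inv] at this
      have e2 : (n * x1)⁻¹ * y * (n * x1) = x1⁻¹ * (n⁻¹ * y * n) * x1 := by group
      rw [e2]
      exact hG1 _ h2
    have hGn2 : Gd D T R ((n * x1) * (h * c)⁻¹) a M :=
      g.Gd_conj (by rw [inv_inv]; exact g.B_GeM hdom hB2) (g.B_GeM hdom (Subgroup.inv_mem _ hB2)) hGn
    have e3 : (n * x1) * (h * c)⁻¹ = x1 * u * g.nw w1 := by
      have : n * x1 = x1 * (x1⁻¹ * n * x1) := by group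
      rw [this, e]; group
    rw [e3] at hGn2
    obtain ⟨a', hT1⟩ := g.ex_Tr hw1 a
    obtain ⟨hm1, hm2⟩ := g.nw_lev (F := F) hw1 hT1
    have hGn3 : Gd D T R (x1 * u * g.nw w1 * (g.nw w1)⁻¹) a' M :=
      g.Gd_conj (by rw [inv_inv]; exact hm1.ge) hm2.ge hGn2
    rw [mul_inv_cancel_right] at hGn3
    have hsum : Gd D T R (x1 * u) (a + a') (M + M) := by
      intro y hy
      rw [lvr_add]
      exact (hGu y hy).comb (hGn3 y hy)
    have hQ' : Qn T a' = 1 := by rw [g.Qn_Tr hw1 hT1, hQ]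
    have hpar : Qn T (a + a') + Qn T (a - a') = 4 := by
      have h1 : Qn T (a + a') + Qn T (a - a') = 2 * Qn T a + 2 * Qn T a' := by
        unfold Qn
        rw [Finset.mul_sum, Finset.mul_sum, ← Finset.sum_add_distrib, ← Finset.sum_add_distrib]
        apply Finset.sum_congr rfl
        intro r _
        have h2 : lfr T (a - a') r = lfr T a r - lfr T a' r := by
          have : a - a' = a + (-1 : ℝ) • a' := by ext; simp; ring
          rw [this, lfr_add, lfr_smul]; ring
        rw [lfr_add, h2]; ring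
      rw [h1, hQ, hQ']; norm_num
    have hqpos : 0 < Qn T (a + a') := by
      rcases (Qn_nonneg T (a + a')).lt_or_eq with h1 | h1
      · exact h1
      · exfalso
        have h2 : ∀ i, lvr D T (a + a') i = 0 := by
          intro i
          cases i with
          | inl i => rfl
          | inr s =>
            have hs : (s : ℕ) < T.n := s.2.trans_eq g.hn
            have h3 : (lfr T (a + a') s) ^ 2 ≤ 0 := (sq_lfr_le T (a + a') hs).trans_eq h1.symm
            have h5 := le_antisymm h3 (sq_nonneg _)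
            have h4 : lfr T (a + a') s = 0 := pow_eq_zero_iff (two_ne_zero) |>.1 h5
            exact h4
        apply hne
        rw [eq_bot_iff]
        intro y hy
        rw [Subgroup.mem_bot]
        have h3 := hsum y hy
        have h4 : (x1 * u)⁻¹ * y * (x1 * u) = 1 := by
          apply Units.ext
          ext row col
          by_contra h5
          have h6 := h3 row col (by rw [Matrix.sub_apply, sub_ne_zero]; exact h5)
          rw [h2, h2] at h6
          linarith
        have : y = (x1 * u) * ((x1 * u)⁻¹ * y * (x1 * u)) * (x1 * u)⁻¹ := by group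
        rw [this, h4]; group
    have haa : ∀ j < T.l, a' j = a j := by
      by_contra hcon
      push Not at hcon
      obtain ⟨j, hj, hjne⟩ := hcon
      have h1 : 0 < Qn T (a - a') := by
        have h2 := g.sq_le_Qn (a - a') hj
        have h3 : 0 < (a j - a' j) ^ 2 := by
          have : a j - a' j ≠ 0 := sub_ne_zero.2 (Ne.symm hjne)
          positivity
        have h4 : ((a - a') j) = a j - a' j := rfl
        rw [h4] at h2
        linarith
      have h2 : Qn T (a + a') < 4 := by linarith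
      have h7 := g.Gd_norm hqpos hsum (Subgroup.mul_mem _ hx1G (g.U_le_G hu)) hmax
      have h5 : Real.sqrt (Qn T (a + a')) < 2 := by
        rw [Real.sqrt_lt' two_pos]; linarith
      nlinarith
    have hTa : Tr T w1 a a := by
      intro r hr
      have := hT1 r hr
      rw [lfr_congr T haa] at this
      exact this
    have hP := g.stab_real (F := F) hdom _ w1 rfl hw1 hTa
    rw [e]
    exact Subgroup.mul_mem _ (Subgroup.mul_mem _ (Subgroup.mul_mem _ (B_le_par _ (U_le_B hu)) hP) (B_le_par _ (H_le_B hh)))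
      (B_le_par _ (U_le_B (g.Um_le_U _ hc)))
  refine ⟨x1, hx1G, {j | a j = 0}, hJ, ?_, ?_⟩
  · intro n hn
    refine ⟨x1⁻¹ * n * x1, hN n hn, ?_⟩
    change x1 * (x1⁻¹ * n * x1) * x1⁻¹ = n
    group
  · intro y hy
    have hz := hN y ⟨Subgroup.le_normalizer hy, hRG hy⟩
    set z := x1⁻¹ * y * x1 with hzdef
    rw [← g.levi_sup] at hz
    obtain ⟨u, hu, l, hl', e⟩ := mem_sup_norm (A := D.unipotentRadical F {j | a j = 0}) (B := D.leviSubgroup F {j | a j = 0}) (by
      intro b hb c hc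
      have h2 : b ∈ D.parabolicSubgroup F {j | a j = 0} := by
        rw [← g.levi_sup]; exact Subgroup.mem_sup_right hb
      exact (Subgroup.mem_normalizer_iff.1 (g.par_norm_UJ _ h2) c).1 hc) hz
    have hSt : ∀ u ∈ D.unipotentRadical F {j | a j = 0}, u ∈ StM F (lvr D T a) := by
      intro u hu
      unfold ChevalleyDatum.unipotentRadical at hu
      apply mem_of_monoid _ _ hu
      rintro x ⟨r, t, hp, hJr, hx⟩
      rw [g.isPos_iff] at hp
      rw [g.X_iff] at hx
      rw [hx]
      have h1 : 0 < lfr T a r := by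
        obtain ⟨j, hj, hjJ, hv⟩ := g.not_inSub hp.2 hJr
        have h2 : 0 < a j := lt_of_le_of_ne (hdom j hj) (Ne.symm hjJ)
        have h3 := g.v_nonneg hp.2 hj hp.1
        have h4 : (1 : ℝ) ≤ T.v r j := by
          have : 1 ≤ T.v r j := by omega
          exact_mod_cast this
        unfold lfr
        calc 0 < a j * (T.v r j : ℝ) := by positivity
          _ ≤ _ := Finset.single_le_sum (f := fun j => a j * (T.v r j : ℝ)) (fun k hk => mul_nonneg (hdom k (Finset.mem_range.1 hk))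
            (by exact_mod_cast g.v_nonneg hp.2 (Finset.mem_range.1 hk) hp.1)) (Finset.mem_range.2 hj)
      intro row col hne
      have := g.X_sub a h1.le t row col hne
      linarith
    have hlE : l ∈ EqM F (lvr D T a) := by
      have h1 : D.leviSubgroup F {j | a j = 0} = Subgroup.closure ((D.diagonalSubgroup F : Set (GL D.Idx F)) ∪
        {g : GL D.Idx F | ∃ (r : ℕ) (t : F), D.InRootSub {j | a j = 0} r ∧ (g : Matrix D.Idx D.Idx F) = D.x F r t}) := by
        unfold ChevalleyDatum.leviSubgroup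
        rw [Subgroup.closure_union, Subgroup.closure_eq]
      rw [h1] at hl'
      apply mem_of_monoid _ _ hl'
      rintro x (hx | ⟨r, t, hr, hx⟩)
      · exact g.H_lev a hx
      · rw [g.X_iff] at hx
        rw [hx]
        apply g.X_lev
        unfold lfr
        apply Finset.sum_eq_zero
        intro j hj
        rw [Finset.mem_range] at hj
        by_cases hj0 : a j = 0
        · rw [hj0, zero_mul]
        · have := (g.inSub_iff.1 hr).2 j hj hj0
          rw [this]; simp
    have hl1 : l ∈ StM F (lvr D T a) := by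
      have h1 : l = u⁻¹ * z := by rw [e]; group
      rw [h1]
      apply (StM F (lvr D T a)).mul_mem (hSt _ (Subgroup.inv_mem _ hu))
      intro row col hne
      have := hG1 y hy row col hne
      linarith
    have hl2 : l = 1 := by
      apply Units.ext
      ext row col
      by_contra hcon
      have h1 := hl1 row col (by rw [Matrix.sub_apply, sub_ne_zero]; exact hcon)
      have hrc : row ≠ col := by rintro rfl; exact lt_irrefl _ h1
      have h2 := hlE row col (by rw [Units.val_one, Matrix.one_apply_ne hrc] at hcon; exact hcon)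
      rw [h2] at h1
      exact lt_irrefl _ h1
    refine ⟨u, hu, ?_⟩
    change x1 * u * x1⁻¹ = y
    have : u = z := by rw [e, hl2, mul_one]
    rw [this, hzdef]; group

end Mat

end Good3

end CfsgLib.Chev
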