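import Cfsg.Agent.LibChevCox

set_option autoImplicit false

/-! `N/H` is the Coxeter group; orders of elements of the Weyl group -/

namespace CfsgLib.Chev

open Cfsg.Lie Matrix CfsgLib.Cox

/-- iterate of a word on roots -/
noncomputable def itw (T : Tb) (w : List ℕ) (m r : ℕ) : ℕ := Nat.rec r (fun _ ih => wact T w ih) m

noncomputable def chkOrd (T : Tb) (w : List ℕ) (k : ℕ) : Bool :=
  (w.all fun i => Nat.ble (i + 1) T.l) && (Nat.ble 1 k && (allB T.n (fun r => Nat.beq (itw T w k r) r) &&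
    allB (k - 1) (fun m => !(allB T.n fun r => Nat.beq (itw T w (m + 1) r) r))))

namespace Good3

variable {D : ChevalleyDatum} {T : Tb} (g : Good3 D T)
include g

theorem pw_pow_val {w : List ℕ} (hw : VW T w) (m : ℕ) (r : Fin T.n) : (((g.pw w ^ m) r : Fin T.n) : ℕ) = itw T w m r := by
  induction m with
  | zero => rfl
  | succ m ih =>
    rw [_root_.pow_succ', Equiv.Perm.mul_apply, g.pw_val hw, ih]
    rfl

theorem orderOf_pw {w : List ℕ} {k : ℕ} (h : chkOrd T w k = true) : orderOf (g.pw w) = k := by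
  unfold chkOrd at h
  rw [Bool.and_eq_true, Bool.and_eq_true, Bool.and_eq_true, List.all_eq_true, Nat.ble_eq, allB_iff, allB_iff] at h
  obtain ⟨h1, h2, h3, h4⟩ := h
  have hw : VW T w := by
    intro i hi
    have := h1 i hi
    rw [Nat.ble_eq] at this
    omega
  rw [orderOf_eq_iff (by omega)]
  constructor
  · ext r
    rw [g.pw_pow_val hw]
    have := h3 r r.2
    rw [Nat.beq_eq] at this
    rw [this]
    rfl
  · intro m hm hm0 hcon
    have := h4 (m - 1) (by omega)
    rw [Bool.not_eq_true', Bool.eq_false_iff] at this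
    apply this
    rw [allB_iff]
    intro r hr
    rw [Nat.beq_eq]
    have e : m - 1 + 1 = m := by omega
    rw [e, ← g.pw_pow_val hw m ⟨r, hr⟩, hcon]
    rfl

section Mat
variable {F : Type*} [Field F]

theorem exists_thN : ∃ θ : ↥(D.monomialSubgroup F) →* Equiv.Perm (Fin T.n),
    (∀ (x : ↥(D.monomialSubgroup F)) (w : List ℕ), VW T w → ∀ h ∈ D.diagonalSubgroup F, (x : GL D.Idx F) = g.nw w * h →
      θ x = g.pw w) ∧ θ.ker = (D.diagonalSubgroup F).subgroupOf (D.monomialSubgroup F) ∧ θ.range = g.WJ Set.univ := by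
  have hch : ∀ x : ↥(D.monomialSubgroup F), ∃ w, VW T w ∧ ∃ h ∈ D.diagonalSubgroup F, (x : GL D.Idx F) = g.nw w * h :=
    fun x => g.mem_N.1 x.2
  choose wd hwd hh hhH he using hch
  have key : ∀ (x : ↥(D.monomialSubgroup F)) (w : List ℕ), VW T w → ∀ h ∈ D.diagonalSubgroup F,
      (x : GL D.Idx F) = g.nw w * h → g.pw (wd x) = g.pw w := by
    intro x w hw h hhm e
    rw [g.pw_eq_iff (hwd x) hw]
    have e2 : g.nw (F := F) (wd x) = g.nw w * (h * (hh x)⁻¹) := by
      have := he x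
      rw [e] at this
      calc g.nw (F := F) (wd x) = (g.nw (wd x) * hh x) * (hh x)⁻¹ := by group
        _ = _ := by rw [← this]; group
    exact g.wact_congr (F := F) (hwd x) hw (Subgroup.mul_mem _ hhm (Subgroup.inv_mem _ (hhH x))) e2
  let θ : ↥(D.monomialSubgroup F) →* Equiv.Perm (Fin T.n) := MonoidHom.mk' (fun x => g.pw (wd x)) (by
    intro x y
    rw [← pw_append]
    refine key (x * y) (wd x ++ wd y) (g.VW_append (hwd x) (hwd y))
      (((g.nw (wd y))⁻¹ * hh x * g.nw (wd y)) * hh y) ?_ ?_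
    · apply Subgroup.mul_mem _ _ (hhH y)
      have h1 : ((g.nw (wd y))⁻¹ : GL D.Idx F) ∈ D.monomialSubgroup F := Subgroup.inv_mem _ (g.nw_mem_N (hwd y))
      have h2 := g.N_H h1 (hhH x)
      rwa [inv_inv] at h2
    · rw [nw_append]
      show (x : GL D.Idx F) * (y : GL D.Idx F) = _
      rw [he x, he y]
      group)
  refine ⟨θ, fun x w hw h hhm e => key x w hw h hhm e, ?_, ?_⟩
  · ext x
    rw [MonoidHom.mem_ker, Subgroup.mem_subgroupOf]
    constructor
    · intro h
      have h1 : g.pw (wd x) = g.pw [] := h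
      rw [he x]
      apply Subgroup.mul_mem _ _ (hhH x)
      apply g.nw_mem_H (hwd x)
      exact (g.pw_eq_iff (hwd x) (by intro i hi; simp at hi)).1 h1
    · intro h
      exact key x [] (by intro i hi; simp at hi) x h (by rw [nw_nil, one_mul])
  · ext σ
    rw [g.mem_WJ]
    constructor
    · rintro ⟨x, rfl⟩
      exact ⟨wd x, hwd x, fun _ _ => Set.mem_univ _, rfl⟩
    · rintro ⟨w, hw, _, rfl⟩
      exact ⟨⟨g.nw w, g.nw_mem_N hw⟩, key _ w hw 1 (Subgroup.one_mem _) (by simp)⟩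

theorem exists_NW {M : CoxeterMatrix (Fin T.l)} (hM : ∀ i j : Fin T.l, chkOrd T [(i : ℕ), (j : ℕ)] (M i j) = true) :
    ∃ φ : ↥(D.monomialSubgroup F) →* M.Group, Function.Surjective φ ∧
      φ.ker = (D.diagonalSubgroup F).subgroupOf (D.monomialSubgroup F) ∧
      ∀ (i : Fin T.l) (x : ↥(D.monomialSubgroup F)),
        ((x : GL D.Idx F) : Matrix D.Idx D.Idx F) = D.nMat F (D.simple i) 1 → φ x = M.simple i := by
  obtain ⟨θ, h1, h2, h3⟩ := g.exists_thN (F := F)
  have hM' : ∀ i j : Fin T.l, M i j = orderOf (g.psF i * g.psF j) := by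
    intro i j
    have := g.orderOf_pw (hM i j)
    rw [← this, pw_cons, pw_single]
    rfl
  obtain ⟨ψ, hψ, hr, hs⟩ := g.exists_cox hM'
  have hmem : ∀ x, θ x ∈ ψ.range := by
    intro x
    rw [hr, ← h3]
    exact ⟨x, rfl⟩
  let e := MonoidHom.ofInjective hψ
  let φ : ↥(D.monomialSubgroup F) →* M.Group := e.symm.toMonoidHom.comp (θ.codRestrict ψ.range hmem)
  have hφ : ∀ x, ψ (φ x) = θ x := by
    intro x
    show ((e (e.symm (θ.codRestrict ψ.range hmem x)) : ψ.range) : Equiv.Perm (Fin T.n)) = θ x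
    rw [e.apply_symm_apply]
    rfl
  refine ⟨φ, ?_, ?_, ?_⟩
  · intro c
    have : ψ c ∈ θ.range := by rw [h3, ← hr]; exact ⟨c, rfl⟩
    obtain ⟨x, hx⟩ := this
    exact ⟨x, hψ (by rw [hφ, hx])⟩
  · rw [← h2]
    ext x
    rw [MonoidHom.mem_ker, MonoidHom.mem_ker, ← hφ]
    constructor
    · intro h; rw [h, map_one]
    · intro h; exact hψ (by rw [h, map_one])
  · intro i x hx
    apply hψ
    rw [hφ, hs]
    have hi : (i : ℕ) < T.l := i.2
    rw [g.simple i hi, g.nMat_iff (g.sim_lt hi)] at hx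
    have := h1 x [(i : ℕ)] (g.VW_single hi) 1 (Subgroup.one_mem _) (by rw [hx]; simp [nw]; rfl)
    rw [this, pw_single]
    rfl

end Mat

theorem card_cox {M : CoxeterMatrix (Fin T.l)} (hM : ∀ i j : Fin T.l, chkOrd T [(i : ℕ), (j : ℕ)] (M i j) = true) :
    Nat.card M.Group = Nat.card (g.WJ Set.univ) := by
  have hM' : ∀ i j : Fin T.l, M i j = orderOf (g.psF i * g.psF j) := by
    intro i j
    have := g.orderOf_pw (hM i j)
    rw [← this, pw_cons, pw_single]
    rfl
  obtain ⟨ψ, hψ, hr, _⟩ := g.exists_cox hM'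
  rw [← hr]
  exact Nat.card_congr (MonoidHom.ofInjective hψ).toEquiv

theorem orderOf_cox {M : CoxeterMatrix (Fin T.l)} (hM : ∀ i j : Fin T.l, chkOrd T [(i : ℕ), (j : ℕ)] (M i j) = true)
    (ω : List (Fin T.l)) {k : ℕ} (hk : chkOrd T (ω.map Fin.val) k = true) : orderOf (ω.map M.simple).prod = k := by
  have hM' : ∀ i j : Fin T.l, M i j = orderOf (g.psF i * g.psF j) := by
    intro i j
    have := g.orderOf_pw (hM i j)
    rw [← this, pw_cons, pw_single]
    rfl
  obtain ⟨ψ, hψ, _, hs⟩ := g.exists_cox hM'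
  rw [← orderOf_injective ψ hψ]
  have : ψ (ω.map M.simple).prod = g.pw (ω.map Fin.val) := by
    clear hk
    induction ω with
    | nil => simp [pw_nil]
    | cons i ω ih => rw [List.map_cons, List.prod_cons, map_mul, ih, hs, List.map_cons, pw_cons]; rfl
  rw [this]
  exact g.orderOf_pw hk

end Good3
end CfsgLib.Chev
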