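import Cfsg.Agent.LibChevFix2
import Cfsg.Agent.LibChevSyl

set_option autoImplicit false
set_option linter.unusedSectionVars false

/-! Centralizer and normalizer of a subfield subgroup (seat helper15). -/

namespace CfsgLib.Chev

open Cfsg.Lie Matrix

namespace Good3

variable {D : ChevalleyDatum} {T : Tb} (g : Good3 D T)
include g

/-- height -/
def ht (_g : Good3 D T) (r : ℕ) : ℤ := ∑ j ∈ Finset.range T.l, T.v r j

theorem ht_wact {w : List ℕ} (hw : VW T w) {r : ℕ} (hr : r < T.n) :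
    lf T (fun k => g.ht (wact T w (T.sim k))) r = g.ht (wact T w r) := by
  unfold lf ht
  have : ∀ j ∈ Finset.range T.l, T.v (wact T w r) j = ∑ k ∈ Finset.range T.l, T.v r k * T.v (wact T w (T.sim k)) j :=
    fun j hj => g.v_wact hw hr (Finset.mem_range.1 hj)
  rw [Finset.sum_congr rfl this, Finset.sum_comm]
  apply Finset.sum_congr rfl
  intro k _
  rw [← Finset.mul_sum, mul_comm]

theorem ht_pos {r : ℕ} (hr : r < T.n) (hp : T.n / 2 ≤ r) : 1 ≤ g.ht r := by
  obtain ⟨j, hj, hne⟩ := g.v_ne_zero hr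
  have h1 := g.v_nonneg hr hj hp
  have h2 : 1 ≤ T.v r j := by omega
  unfold ht
  calc (1 : ℤ) ≤ T.v r j := h2
    _ ≤ _ := Finset.single_le_sum (fun k hk => g.v_nonneg hr (Finset.mem_range.1 hk) hp) (Finset.mem_range.2 hj)

theorem ht_neg {r : ℕ} (hr : r < T.n) : g.ht (T.n - 1 - r) = - g.ht r := by
  unfold ht
  rw [← Finset.sum_neg_distrib]
  apply Finset.sum_congr rfl
  intro j hj
  exact g.v_neg hr (Finset.mem_range.1 hj)

section
variable {F : Type*} [Field F]

/-- the coefficient of a fundamental root -/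
theorem coef_sim {i : ℕ} (hi : i < T.l) {y : GL D.Idx F} (hy : y ∈ g.Up i) (t : F) :
    ((y * g.X (T.sim i) t : GL D.Idx F) : Matrix D.Idx D.Idx F) (Sum.inl ⟨i, by rw [g.hl]; exact hi⟩)
      (Sum.inr ⟨T.n - 1 - T.sim i, by rw [g.hn]; have := g.sim_lt hi; omega⟩) = t := by
  have hsl := g.sim_lt hi
  have hsp := g.sim_pos hi
  let a : ℕ → ℤ := fun j => if j = i then 0 else 1
  have hlfi : lf T a (T.sim i) = 0 := by
    unfold lf
    apply Finset.sum_eq_zero
    intro j hj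
    rw [g.v_sim hi (Finset.mem_range.1 hj)]
    by_cases hji : j = i
    · simp [a, hji]
    · rw [if_neg (fun h => hji h.symm), mul_zero]
  have hy' : y ∈ UGL (F := F) (lvf D T a) 1 one_pos := by
    have : g.Up (F := F) i ≤ UGL (lvf D T a) 1 one_pos := by
      conv_lhs => unfold Up
      rw [Subgroup.closure_le]
      rintro _ ⟨r, c, h1, h2, h3, rfl⟩
      apply g.X_UGL h2
      obtain ⟨j, hj, hji, hv⟩ := g.v_ex h2 h1 hi h3
      unfold lf
      have h4 : ∀ k ∈ Finset.range T.l, 0 ≤ a k * T.v r k := by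
        intro k hk
        apply mul_nonneg
        · simp only [a]; split_ifs <;> norm_num
        · exact g.v_nonneg h2 (Finset.mem_range.1 hk) h1
      calc (1 : ℤ) ≤ a j * T.v r j := by simp only [a, if_neg hji]; omega
        _ ≤ _ := Finset.single_le_sum h4 (Finset.mem_range.2 hj)
    exact this hy
  have hx := g.x_coef hsl hi t
  rw [g.c_sim hi hi, if_pos rfl, Int.cast_one, one_mul] at hx
  rw [Units.val_mul, Matrix.mul_apply]
  rw [Finset.sum_eq_single (Sum.inl ⟨i, by rw [g.hl]; exact hi⟩ : D.Idx)]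
  · rw [hy'.1 _ _ (by simp [lvf_inl]), Matrix.one_apply_eq, one_mul]
    exact hx
  · intro k _ hk
    by_cases h0 : (g.X (T.sim i) t : Matrix D.Idx D.Idx F) k (Sum.inr ⟨T.n - 1 - T.sim i, by rw [g.hn]; omega⟩) = 0
    · rw [h0, mul_zero]
    · have hlk : lvf D T a k = 0 := by
        by_cases hk1 : k = Sum.inr ⟨T.n - 1 - T.sim i, by rw [g.hn]; omega⟩
        · rw [hk1, lvf_inr]
          change lf T a (T.n - 1 - T.sim i) = 0
          rw [g.lf_neg a hsl, hlfi]; norm_num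
        · have h1 : D.x F (T.sim i) t k (Sum.inr ⟨T.n - 1 - T.sim i, by rw [g.hn]; omega⟩) ≠
            (1 : Matrix D.Idx D.Idx F) k (Sum.inr ⟨T.n - 1 - T.sim i, by rw [g.hn]; omega⟩) := by
            rw [Matrix.one_apply_ne hk1]; exact h0
          obtain ⟨m, _, e⟩ := g.x_entry hsl a t _ _ h1
          rw [e, hlfi, lvf_inr]
          change lf T a (T.n - 1 - T.sim i) + _ = 0
          rw [g.lf_neg a hsl, hlfi]; norm_num
      rw [hy'.1 _ _ (by rw [lvf_inl]; omega), Matrix.one_apply_ne (Ne.symm hk), zero_mul]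
  · intro h; exact absurd (Finset.mem_univ _) h

/-- conjugates of `U` by Weyl elements have no component at a fundamental root made negative -/
theorem coef_conj {w : List ℕ} (hw : VW T w) {i : ℕ} (hi : i < T.l) (hneg : wact T w (T.sim i) < T.n / 2) {v : GL D.Idx F}
    (hv : g.nw w * v * (g.nw w)⁻¹ ∈ D.posUnipotent F) :
    (v : Matrix D.Idx D.Idx F) (Sum.inl ⟨i, by rw [g.hl]; exact hi⟩)
      (Sum.inr ⟨T.n - 1 - T.sim i, by rw [g.hn]; have := g.sim_lt hi; omega⟩) = 0 := by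
  have hev := g.even
  have hsl := g.sim_lt hi
  let a : ℕ → ℤ := fun k => g.ht (wact T w (T.sim k))
  have key : D.posUnipotent F ≤ (UGL (F := F) (lvf D T a) 1 one_pos).comap (MulAut.conj (g.nw w)⁻¹).toMonoidHom := by
    rw [g.U_eq]
    unfold Uge
    rw [Subgroup.closure_le]
    rintro _ ⟨s, t, h1, h2, rfl⟩
    rw [SetLike.mem_coe, Subgroup.mem_comap]
    obtain ⟨r, hr, e⟩ := g.wact_surj hw h2
    have h3 : ∃ t' : F, g.X s t = g.nw w * g.X r t' * (g.nw w)⁻¹ := by
      refine ⟨((sgn T w r : ℤ) : F) * t, ?_⟩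
      rw [g.nw_X hw hr, e]
      congr 1
      rcases sgn_cases (T := T) w r with h | h <;> rw [h] <;> simp
    obtain ⟨t', ht'⟩ := h3
    rw [ht']
    change (g.nw w)⁻¹ * (g.nw w * g.X r t' * (g.nw w)⁻¹) * ((g.nw w)⁻¹)⁻¹ ∈ _
    have : (g.nw w)⁻¹ * (g.nw w * g.X r t' * (g.nw w)⁻¹) * ((g.nw w)⁻¹)⁻¹ = g.X r t' := by group
    rw [this]
    apply g.X_UGL hr
    rw [g.ht_wact hw hr, e]
    exact g.ht_pos h2 h1
  have h1 := key hv
  rw [Subgroup.mem_comap] at h1
  change (g.nw w)⁻¹ * (g.nw w * v * (g.nw w)⁻¹) * ((g.nw w)⁻¹)⁻¹ ∈ _ at h1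
  have h2 : (g.nw w)⁻¹ * (g.nw w * v * (g.nw w)⁻¹) * ((g.nw w)⁻¹)⁻¹ = v := by group
  rw [h2] at h1
  rw [h1.1, Matrix.one_apply_ne]
  · intro h; cases h
  · rw [lvf_inl, lvf_inr]
    change (0 : ℤ) < lf T a (T.n - 1 - T.sim i) + 1
    rw [g.lf_neg a hsl, g.ht_wact hw hsl]
    have h3 := g.wact_lt hw hsl
    have h4 := g.ht_pos (r := T.n - 1 - wact T w (T.sim i)) (by omega) (by omega)
    rw [g.ht_neg h3] at h4
    omega

/-- elements of `G` commuting with all `x_p(1)`, `p` fundamental, lie in `B` -/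
theorem cent_B {x : GL D.Idx F} (hx : x ∈ D.group F) (h : ∀ i < T.l, x * g.X (T.sim i) 1 = g.X (T.sim i) 1 * x) :
    x ∈ D.borelSubgroup F := by
  obtain ⟨w, hw, u, hu, h0, hh0, c, hc, rfl⟩ := CfsgLib.ChevFix.nf_exists g hx
  have hcU := g.Um_le_U _ hc
  have hall : ∀ i < T.l, T.n / 2 ≤ wact T w (T.sim i) := by
    intro i hi
    by_contra hneg
    have hsl := g.sim_lt hi
    have hsp := g.sim_pos hi
    have e := h i hi
    obtain ⟨y1, hy1, t, e1⟩ := (g.U_decomp hi).1 hcU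
    -- v = c X c⁻¹
    have hv : ∃ y2 ∈ g.Up (F := F) i, c * g.X (T.sim i) 1 * c⁻¹ = y2 * g.X (T.sim i) 1 := by
      refine ⟨y1 * (g.X (T.sim i) 1 * y1⁻¹ * (g.X (T.sim i) 1)⁻¹), Subgroup.mul_mem _ hy1
        (g.Up_norm hi (Or.inl rfl) 1 (Subgroup.inv_mem _ hy1)), ?_⟩
      have e2 : g.X (T.sim i) t * g.X (T.sim i) 1 = g.X (T.sim i) 1 * g.X (T.sim i) t := by
        rw [← g.X_add, ← g.X_add, add_comm]
      rw [e1]
      calc y1 * g.X (T.sim i) t * g.X (T.sim i) 1 * (y1 * g.X (T.sim i) t)⁻¹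
          = y1 * (g.X (T.sim i) t * g.X (T.sim i) 1) * (g.X (T.sim i) t)⁻¹ * y1⁻¹ := by group
        _ = y1 * (g.X (T.sim i) 1 * g.X (T.sim i) t) * (g.X (T.sim i) t)⁻¹ * y1⁻¹ := by rw [e2]
        _ = _ := by group
    obtain ⟨y2, hy2, e2⟩ := hv
    have e3 : g.nw w * (h0 * (c * g.X (T.sim i) 1 * c⁻¹) * h0⁻¹) * (g.nw w)⁻¹ = u⁻¹ * g.X (T.sim i) 1 * u := by
      have e4 : u * g.nw w * h0 * c * g.X (T.sim i) 1 = g.X (T.sim i) 1 * (u * g.nw w * h0 * c) := e
      calc g.nw w * (h0 * (c * g.X (T.sim i) 1 * c⁻¹) * h0⁻¹) * (g.nw w)⁻¹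
          = u⁻¹ * (u * g.nw w * h0 * c * g.X (T.sim i) 1) * c⁻¹ * h0⁻¹ * (g.nw w)⁻¹ := by group
        _ = u⁻¹ * (g.X (T.sim i) 1 * (u * g.nw w * h0 * c)) * c⁻¹ * h0⁻¹ * (g.nw w)⁻¹ := by rw [e4]
        _ = _ := by group
    have e5 : u⁻¹ * g.X (T.sim i) 1 * u ∈ D.posUnipotent F :=
      Subgroup.mul_mem _ (Subgroup.mul_mem _ (Subgroup.inv_mem _ hu) (g.X_mem_U hsp hsl _)) hu
    rw [← e3] at e5
    have e6 := g.coef_conj hw hi (by omega) e5
    obtain ⟨χ, _, _, hX⟩ := g.H_X hh0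
    have e7 : h0 * (c * g.X (T.sim i) 1 * c⁻¹) * h0⁻¹ = (h0 * y2 * h0⁻¹) * g.X (T.sim i) ((χ (T.sim i) : F) * 1) := by
      rw [e2, ← hX _ hsl]; group
    rw [e7, g.coef_sim hi (g.Up_H hh0 hy2)] at e6
    rw [mul_one] at e6
    exact (χ (T.sim i)).ne_zero e6
  have h1 := g.mem_H_of_pos (F := F) hw hall
  exact Subgroup.mul_mem _ (Subgroup.mul_mem _ (Subgroup.mul_mem _ (U_le_B hu) (H_le_B h1)) (H_le_B hh0)) (U_le_B hcU)

/-- an element of `G` commuting with all `x_r(1)` is trivial -/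
theorem cent_trivial {x : GL D.Idx F} (hx : x ∈ D.group F) (h : ∀ r, x * g.X r 1 = g.X r 1 * x) : x = 1 := by
  have hev := g.even
  have h1 := g.cent_B hx (fun i _ => h _)
  obtain ⟨w, hw, hneg⟩ := g.exists_longest
  -- nw w commutes with x
  have h2 : x * g.nw w = g.nw w * x := by
    have hnn : ∀ i, x * g.nn i = g.nn i * x := by
      intro i
      have h3 : ∀ r, x * g.X r (-(1 : F)⁻¹) = g.X r (-(1 : F)⁻¹) * x := by
        intro r
        rw [inv_one, g.X_neg, mul_inv_eq_iff_eq_mul, mul_assoc, h r, ← mul_assoc, inv_mul_cancel, one_mul]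
      unfold nn Ng
      rw [← mul_assoc, ← mul_assoc, h, mul_assoc (g.X (T.sim i) 1) x, h3, mul_assoc, mul_assoc, mul_assoc, h]
      simp only [mul_assoc]
    clear hneg
    induction w with
    | nil => simp [nw_nil]
    | cons i w ih =>
      have hw' : VW T w := fun j hj => hw j (List.mem_cons_of_mem _ hj)
      rw [nw_cons, ← mul_assoc, hnn, mul_assoc, ih hw', mul_assoc]
  have h3 : x ∈ D.negUnipotent F ⊔ D.diagonalSubgroup F := by
    obtain ⟨u, hu, h0, hh0, e⟩ := g.mem_B.1 h1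
    have h4 : x = g.nw w * u * (g.nw w)⁻¹ * (g.nw w * h0 * (g.nw w)⁻¹) := by
      have : x = g.nw w * x * (g.nw w)⁻¹ := by rw [← h2]; group
      rw [this, e]; group
    rw [h4]
    apply Subgroup.mul_mem _ (Subgroup.mem_sup_left ?_) (Subgroup.mem_sup_right (g.nw_H hw hh0))
    have : D.posUnipotent F ≤ (D.negUnipotent F).comap (MulAut.conj (g.nw w)).toMonoidHom := by
      rw [g.U_eq]
      unfold Uge
      rw [Subgroup.closure_le]
      rintro _ ⟨r, t, h5, h6, rfl⟩
      rw [SetLike.mem_coe, Subgroup.mem_comap]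
      change g.nw w * g.X r t * (g.nw w)⁻¹ ∈ _
      rw [g.nw_X hw h6]
      exact g.X_mem_V (hneg r h5 h6) _
    exact this hu
  have h4 : x ∈ D.borelSubgroup F ⊓ (D.negUnipotent F ⊔ D.diagonalSubgroup F) := ⟨h1, h3⟩
  rw [g.B_inf_VH] at h4
  obtain ⟨χ, _, e, hX⟩ := g.H_X h4
  rw [e, ← dg_one (D := D)]
  apply dg_congr
  intro r hr
  rw [g.hn] at hr
  have h5 := hX r hr 1
  rw [h r, mul_inv_cancel_right, mul_one] at h5
  exact Units.ext (g.X_inj hr h5).symm

end

end Good3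

end CfsgLib.Chev


namespace CfsgLib.ChevFix

open Cfsg.Lie Matrix CfsgLib.Chev

section
variable {D : ChevalleyDatum} {T : Tb} (g : Good3 D T) {k : Type*} [Field k]
include g

theorem cent_norm (p : ℕ) [Fact p.Prime] [CharP k p] (a : ℕ) (K : Subgroup (GL D.Idx k)) (hKG : K ≤ D.group k)
    (hLK : Subgroup.closure {g : GL D.Idx k | ∃ (s : ℕ) (t : k), t ^ (p ^ a) = t ∧ (g : Matrix D.Idx D.Idx k) = D.x k s t} ≤ K)
    (hKfix : ∀ g ∈ K, ∀ i j : D.Idx, ((g : Matrix D.Idx D.Idx k) i j) ^ (p ^ a) = (g : Matrix D.Idx D.Idx k) i j) :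
    D.group k ⊓ Subgroup.centralizer (K : Set (GL D.Idx k)) = ⊥ ∧
    ∀ g : GL D.Idx k, g ∈ D.group k → (g ∈ Subgroup.normalizer (K : Set (GL D.Idx k)) ↔ ∀ i j : D.Idx, ((g : Matrix D.Idx D.Idx k) i j) ^ (p ^ a) = (g : Matrix D.Idx D.Idx k) i j) := by
  let σ : k →+* k := iterateFrobenius k p a
  have hσ : ∀ t, σ t = t ^ p ^ a := fun t => rfl
  have hfix : ∀ x : GL D.Idx k, (∀ i j : D.Idx, ((x : Matrix D.Idx D.Idx k) i j) ^ (p ^ a) = (x : Matrix D.Idx D.Idx k) i j) ↔
      gm D σ x = x := by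
    intro x
    constructor
    · intro h
      apply Units.ext
      ext i j
      exact h i j
    · intro h i j
      exact congrArg (fun z : GL D.Idx k => (z : Matrix D.Idx D.Idx k) i j) h
  have hX : ∀ (s : ℕ) (t : k), t ^ p ^ a = t → g.X s t ∈ K := fun s t ht =>
    hLK (Subgroup.subset_closure ⟨s, t, ht, rfl⟩)
  have hcent : ∀ x ∈ D.group k, (∀ y ∈ K, x * y = y * x) → x = 1 := by
    intro x hx h
    exact g.cent_trivial hx (fun r => h _ (hX r 1 (one_pow _)))
  refine ⟨?_, ?_⟩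
  · rw [eq_bot_iff]
    rintro x ⟨hxG, hxC⟩
    rw [Subgroup.mem_bot]
    apply hcent x hxG
    intro y hy
    have hxC : ∀ h ∈ (K : Set (GL D.Idx k)), h * x = x * h := Subgroup.mem_centralizer_iff.1 hxC
    exact (hxC y hy).symm
  · intro x hx
    constructor
    · intro hn
      rw [hfix]
      have h1 : x⁻¹ * gm D σ x = 1 := by
        apply hcent _ (Subgroup.mul_mem _ (Subgroup.inv_mem _ hx) (gm_group g σ hx))
        intro y hy
        have h2 : x * y * x⁻¹ ∈ K := (Subgroup.mem_normalizer_iff.1 hn y).1 hy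
        have h3 := (hfix _).1 (hKfix _ h2)
        have h4 := (hfix _).1 (hKfix _ hy)
        rw [map_mul, map_mul, map_inv, h4] at h3
        calc x⁻¹ * gm D σ x * y = x⁻¹ * (gm D σ x * y * (gm D σ x)⁻¹) * gm D σ x := by group
          _ = x⁻¹ * (x * y * x⁻¹) * gm D σ x := by rw [h3]
          _ = y * (x⁻¹ * gm D σ x) := by group
      rw [inv_mul_eq_one] at h1
      exact h1.symm
    · intro h
      rw [hfix] at h
      let k0 : Subfield k := σ.eqLocusField (RingHom.id k)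
      let f : k0 →+* k := k0.subtype
      have hf' : ∀ t, σ t = t → ∃ s, f s = t := fun t ht => ⟨⟨t, ht⟩, rfl⟩
      have hgm : ∀ y ∈ D.group k0, gm D f y ∈ K := by
        intro y hy
        have : D.group k0 ≤ K.comap (gm D f) := by
          conv_lhs => rw [g.G_eq]
          rw [Subgroup.closure_le]
          rintro _ ⟨r, t, hr, rfl⟩
          rw [SetLike.mem_coe, Subgroup.mem_comap, gm_X g]
          exact hX r _ t.2
        exact this hy
      -- fixed elements of H normalize K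
      have hHK : ∀ h0 ∈ D.diagonalSubgroup k, gm D σ h0 = h0 → ∀ κ ∈ K, h0 * κ * h0⁻¹ ∈ K := by
        intro h0 hh0 hfh κ hκ
        obtain ⟨χ, _, e, hχ⟩ := g.H_X hh0
        have hχf : ∀ r < T.n, ((χ r : kˣ) : k) ^ p ^ a = χ r := by
          intro r hr
          have h5 := congrArg (gm D σ) (hχ r hr 1)
          rw [map_mul, map_mul, map_inv, hfh, gm_X g, gm_X g, map_one, hχ r hr, mul_one] at h5
          exact (g.X_inj hr h5).symm
        -- h0 normalizes the image of D.group k0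
        have hL : ∀ y ∈ D.group k0, ∃ y' ∈ D.group k0, h0 * gm D f y * h0⁻¹ = gm D f y' := by
          intro y hy
          have : D.group k0 ≤ (((D.group k0).map (gm D f)).comap (MulAut.conj h0).toMonoidHom).comap (gm D f) := by
            conv_lhs => rw [g.G_eq]
            rw [Subgroup.closure_le]
            rintro _ ⟨r, t, hr, rfl⟩
            rw [SetLike.mem_coe, Subgroup.mem_comap, Subgroup.mem_comap, gm_X g]
            change h0 * g.X r (t : k) * h0⁻¹ ∈ _
            rw [hχ r hr]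
            have h6 : σ ((χ r : k) * t) = (χ r : k) * t := by
              rw [map_mul]
              have h7 : σ (t : k) = t := t.2
              rw [h7]
              congr 1
              exact hχf r hr
            refine ⟨g.X r (⟨(χ r : k) * t, h6⟩ : k0), g.X_mem_G _ _, ?_⟩
            rw [gm_X g]; rfl
          obtain ⟨y', hy', e'⟩ := this hy
          exact ⟨y', hy', e'.symm⟩
        obtain ⟨y, hy, z, hz, h', hh', hfh', rfl⟩ := fixed_nf g σ f hf' (hKG hκ) ((hfix _).1 (hKfix _ hκ))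
        obtain ⟨y', hy', ey⟩ := hL y hy
        obtain ⟨z', hz', ez⟩ := hL z hz
        have hh'K : h' ∈ K := by
          have : h' = (gm D f y)⁻¹ * (gm D f y * h' * gm D f z) * (gm D f z)⁻¹ := by group
          rw [this]
          exact Subgroup.mul_mem _ (Subgroup.mul_mem _ (Subgroup.inv_mem _ (hgm y hy)) hκ) (Subgroup.inv_mem _ (hgm z hz))
        have hcomm : h0 * h' * h0⁻¹ = h' := by
          obtain ⟨χ', _, e2, _⟩ := g.H_X hh'
          rw [e, e2, Good3.dg_mul, Good3.dg_inv, Good3.dg_mul]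
          congr 1
          ext r
          simp [mul_comm]
        have : h0 * (gm D f y * h' * gm D f z) * h0⁻¹ = (h0 * gm D f y * h0⁻¹) * (h0 * h' * h0⁻¹) * (h0 * gm D f z * h0⁻¹) := by group
        rw [this, ey, ez, hcomm]
        exact Subgroup.mul_mem _ (Subgroup.mul_mem _ (hgm _ hy') hh'K) (hgm _ hz')
      obtain ⟨y, hy, z, hz, h', hh', hfh', rfl⟩ := fixed_nf g σ f hf' hx h
      have hN : ∀ h0 ∈ D.diagonalSubgroup k, gm D σ h0 = h0 → h0 ∈ Subgroup.normalizer (K : Set (GL D.Idx k)) := by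
        intro h0 hh0 hfh
        rw [Subgroup.mem_normalizer_iff]
        intro κ
        constructor
        · exact hHK h0 hh0 hfh κ
        · intro hκ
          have := hHK h0⁻¹ (Subgroup.inv_mem _ hh0) (by rw [map_inv, hfh]) _ hκ
          have e : h0⁻¹ * (h0 * κ * h0⁻¹) * h0⁻¹⁻¹ = κ := by group
          rwa [e] at this
      exact Subgroup.mul_mem _ (Subgroup.mul_mem _ (Subgroup.le_normalizer (hgm y hy)) (hN h' hh' hfh'))
        (Subgroup.le_normalizer (hgm z hz))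

end

end CfsgLib.ChevFix
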