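import Cfsg.Agent.LibChevS
import Cfsg.Agent.LibChevCent
import Cfsg.Agent.LibSL2Pres

set_option autoImplicit false
set_option linter.unusedSectionVars false
set_option linter.unusedSimpArgs false

/-! The homomorphisms SL₂(F) → ⟨X_r, X_{-r}⟩ (copy compatible with LibChevCent, seat helper15) -/

namespace CfsgLib.Chev

open Cfsg.Lie Matrix

namespace Good3

variable {D : ChevalleyDatum} {T : Tb} (g : Good3 D T)
include g

theorem pair_neg_right_15 {r s : ℕ} (hs : s < T.n) : T.pair r (T.n - 1 - s) = -T.pair r s := by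
  rw [pair_eq, pair_eq, ← Finset.sum_neg_distrib]
  apply Finset.sum_congr rfl
  intro j hj
  rw [g.A_neg hs (Finset.mem_range.1 hj)]; ring

section Mat
variable {F : Type*} [Field F]

theorem hd_X_15 (r : ℕ) {s : ℕ} (hs : s < T.n) (c : Fˣ) (t : F) :
    hd D T r c * g.X s t * (hd D T r c)⁻¹ = g.X s (((c ^ T.pair r s : Fˣ) : F) * t) := by
  rw [g.hd_eq_tor, g.tor_X _ hs]
  have h5 := CfsgLib.Chev.Good3.dg_inj (g.hd_eq_tor (D := D) (F := F) r c) s (by rw [g.hn]; exact hs)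
  have h6 : chi T (fun j => c ^ T.pair r (T.sim j)) s = c ^ T.pair r s := h5.symm
  rw [h6]; group

theorem hd_neg_15 {r : ℕ} (hr : r < T.n) (c : Fˣ) : hd D T (T.n - 1 - r) c = (hd D T r c)⁻¹ := by
  rw [← hd_inv]
  unfold hd
  apply dg_congr
  intro s _
  rw [g.pair_neg_left hr]
  simp

/-- conjugation by `n_r(1)` of its own root groups -/
theorem Ng_self_15 {r : ℕ} (hr : r < T.n) : (∀ t : F, g.Ng r 1 * g.X r t * (g.Ng r 1)⁻¹ = g.X (T.n - 1 - r) (-t)) ∧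
    (∀ t : F, g.Ng r 1 * g.X (T.n - 1 - r) t * (g.Ng r 1)⁻¹ = g.X r (-t)) ∧
    (∀ c : Fˣ, g.Ng r (1 : F) * hd D T r c * (g.Ng r 1)⁻¹ = (hd D T r c)⁻¹) := by
  have hev := g.even
  have key : ∀ r < T.n, (∀ t : F, g.Ng r 1 * g.X r t * (g.Ng r 1)⁻¹ = g.X (T.n - 1 - r) (-t)) ∧
    (∀ t : F, g.Ng r 1 * g.X (T.n - 1 - r) t * (g.Ng r 1)⁻¹ = g.X r (-t)) ∧
    (∀ c : Fˣ, g.Ng r (1 : F) * hd D T r c * (g.Ng r 1)⁻¹ = (hd D T r c)⁻¹) := by
    apply g.root_ind
    · intro i hi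
      have hsl := g.sim_lt hi
      refine ⟨fun t => ?_, fun t => ?_, fun c => ?_⟩
      · have := g.nn_X_conj (F := F) hi hsl t
        rw [g.w_sim hi, g.eta_sim hi] at this
        have e : ((-1 : ℤ) : F) * t = -t := by push_cast; ring
        rw [e] at this
        exact this
      · have := g.nn_X_conj (F := F) hi (r := T.n - 1 - T.sim i) (by omega) t
        rw [g.w_neg hi hsl, g.w_sim hi, g.eta_neg hi hsl, g.eta_sim hi] at this
        have e : ((-1 : ℤ) : F) * t = -t := by push_cast; ring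
        have e2 : T.n - 1 - (T.n - 1 - T.sim i) = T.sim i := by omega
        rw [e, e2] at this
        exact this
      · have := g.nn_hd (F := F) hi hsl c
        rw [g.w_sim hi, g.hd_neg_15 hsl] at this
        exact this
    · intro i hi r hr ih
      obtain ⟨ih1, ih2, ih3⟩ := ih
      have hw := g.w_lt hi hr
      -- Ng (w r) η acts as Ng (w r) 1 up to signs
      have hη : ∃ e : Fˣ, (e : F) = ((T.eta i r : ℤ) : F) ∧ e * e = 1 := by
        rcases T.eta_cases i r with h | h <;> rw [h]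
        · exact ⟨1, by simp, by simp⟩
        · exact ⟨-1, by simp, by simp⟩
      obtain ⟨e, he, hee⟩ := hη
      have hN : g.nn i * g.Ng r 1 * (g.nn i)⁻¹ = hd D T (T.w i r) e * g.Ng (T.w i r) 1 := by
        rw [g.nn_Ng hi hr, mul_one, ← he, g.Ng_eq hw]
      have hp1 : T.pair (T.w i r) (T.w i r) = 2 := g.pair_self hw
      have he2 : e ^ (2 : ℤ) = 1 := by rw [zpow_two]; exact hee
      have he3 : e ^ (-2 : ℤ) = 1 := by rw [_root_.zpow_neg, he2, inv_one]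
      have heF : (e : F) * (e : F) = 1 := by rw [← Units.val_mul, hee, Units.val_one]
      have conj : ∀ a b : GL D.Idx F, g.nn i * a * (g.nn i)⁻¹ = g.nn i * b * (g.nn i)⁻¹ → a = b := by
        intro a b h; exact mul_left_cancel (mul_right_cancel h)
      refine ⟨fun t => ?_, fun t => ?_, fun c => ?_⟩
      · apply conj
        have e1 : g.nn i * (g.Ng r 1 * g.X r t * (g.Ng r 1)⁻¹) * (g.nn i)⁻¹ =
            (g.nn i * g.Ng r 1 * (g.nn i)⁻¹) * (g.nn i * g.X r t * (g.nn i)⁻¹) * (g.nn i * g.Ng r 1 * (g.nn i)⁻¹)⁻¹ := by group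
        rw [e1, hN, g.nn_X_conj hi hr, g.nn_X_conj hi (by omega), g.w_neg hi hr, g.eta_neg hi hr, ← he]
        have e2 : hd D T (T.w i r) e * g.Ng (T.w i r) 1 * g.X (T.w i r) ((e : F) * t) * (hd D T (T.w i r) e * g.Ng (T.w i r) 1)⁻¹ =
            hd D T (T.w i r) e * (g.Ng (T.w i r) 1 * g.X (T.w i r) ((e : F) * t) * (g.Ng (T.w i r) 1)⁻¹) * (hd D T (T.w i r) e)⁻¹ := by group
        rw [e2, ih1, g.hd_X_15 _ (by omega), g.pair_neg_right_15 hw, hp1, he3]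
        congr 1
        rw [Units.val_one]; ring
      · apply conj
        have e1 : g.nn i * (g.Ng r 1 * g.X (T.n - 1 - r) t * (g.Ng r 1)⁻¹) * (g.nn i)⁻¹ =
            (g.nn i * g.Ng r 1 * (g.nn i)⁻¹) * (g.nn i * g.X (T.n - 1 - r) t * (g.nn i)⁻¹) * (g.nn i * g.Ng r 1 * (g.nn i)⁻¹)⁻¹ := by group
        rw [e1, hN, g.nn_X_conj hi (by omega), g.nn_X_conj hi hr, g.w_neg hi hr, g.eta_neg hi hr, ← he]
        have e2 : hd D T (T.w i r) e * g.Ng (T.w i r) 1 * g.X (T.n - 1 - T.w i r) ((e : F) * t) * (hd D T (T.w i r) e * g.Ng (T.w i r) 1)⁻¹ =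
            hd D T (T.w i r) e * (g.Ng (T.w i r) 1 * g.X (T.n - 1 - T.w i r) ((e : F) * t) * (g.Ng (T.w i r) 1)⁻¹) * (hd D T (T.w i r) e)⁻¹ := by group
        rw [e2, ih2, g.hd_X_15 _ hw, hp1, he2]
        congr 1
        rw [Units.val_one]; ring
      · apply conj
        have e1 : g.nn i * (g.Ng r (1 : F) * hd D T r c * (g.Ng r 1)⁻¹) * (g.nn i)⁻¹ =
            (g.nn i * g.Ng r 1 * (g.nn i)⁻¹) * (g.nn i * hd D T r c * (g.nn i)⁻¹) * (g.nn i * g.Ng r 1 * (g.nn i)⁻¹)⁻¹ := by group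
        have e3 : g.nn i * (hd D T r c)⁻¹ * (g.nn i)⁻¹ = (g.nn i * hd D T r c * (g.nn i)⁻¹)⁻¹ := by group
        rw [e1, hN, e3, g.nn_hd hi hr]
        have e2 : hd D T (T.w i r) e * g.Ng (T.w i r) 1 * hd D T (T.w i r) c * (hd D T (T.w i r) e * g.Ng (T.w i r) 1)⁻¹ =
            hd D T (T.w i r) e * (g.Ng (T.w i r) 1 * hd D T (T.w i r) c * (g.Ng (T.w i r) 1)⁻¹) * (hd D T (T.w i r) e)⁻¹ := by group
        rw [e2, ih3, ← hd_inv, ← hd_inv, ← hd_mul, ← hd_mul]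
        rw [mul_comm e, mul_assoc, mul_inv_cancel, mul_one]
  exact key r hr

theorem Ng_sq_15 {r : ℕ} (hr : r < T.n) : g.Ng r (1 : F) * g.Ng r 1 = hd D T r (-1 : Fˣ) := by
  have h := g.Hg_eq (F := F) hr (-1)
  have e : ((-1 : Fˣ) : F) = -1 := by simp
  unfold Hg at h
  rw [e, g.Ng_neg] at h
  have e2 : g.Ng r (1 : F) * g.Ng r 1 = ((g.Ng r (1 : F))⁻¹ * (g.Ng r (1 : F))⁻¹)⁻¹ := by
    rw [_root_.mul_inv_rev, inv_inv]
  rw [e2, h, ← hd_inv]
  congr 1

/-- the homomorphism from SL₂ -/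
theorem exists_sl2_15 {r : ℕ} (hr : r < T.n) : ∃ φ : Matrix.SpecialLinearGroup (Fin 2) F →* GL D.Idx F,
    (∀ t, φ (CfsgLib.SL2P.xx t) = g.X r t) ∧ (∀ t, φ (CfsgLib.SL2P.yy t) = g.X (T.n - 1 - r) t) ∧
    φ CfsgLib.SL2P.ww = g.Ng r 1 := by
  obtain ⟨h1, h2, h3⟩ := g.Ng_self_15 (F := F) hr
  apply CfsgLib.SL2P.exists_hom (X := g.X r) (Y := g.X (T.n - 1 - r)) (h := fun c => hd D T r c) (n := g.Ng r 1)
  · exact g.X_add r
  · intro c t
    rw [g.hd_X_15 r hr, g.pair_self hr]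
    congr 1
  · intro c d; exact hd_mul r c d
  · exact h3
  · exact g.Ng_sq_15 hr
  · exact h1
  · intro c
    rw [← g.Ng_eq hr c]
    unfold Ng
    rw [Units.val_inv_eq_inv_val]

end Mat
end Good3
end CfsgLib.Chev
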