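import Cfsg.Agent.LibChevBT4
import Cfsg.Agent.LibAltSum2

set_option autoImplicit false
set_option linter.unusedSectionVars false

/-! Parabolic double cosets and the Steinberg character (seat helper15). -/

namespace CfsgLib.Chev

open Cfsg.Lie Matrix

namespace Good3

variable {D : ChevalleyDatum} {T : Tb} (g : Good3 D T)
include g

/-! ### words in J -/

theorem v_wact_out {J : Set ℕ} {v : List ℕ} (hv : VW T v) (hJ : JW J v) {r : ℕ} (hr : r < T.n) {j : ℕ} (hj : j < T.l)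
    (hjJ : j ∉ J) : T.v (wact T v r) j = T.v r j := by
  induction v with
  | nil => rfl
  | cons i v ih =>
    have hv' : VW T v := fun k hk => hv k (List.mem_cons_of_mem _ hk)
    have hJ' : JW J v := fun k hk => hJ k (List.mem_cons_of_mem _ hk)
    have hi : i < T.l := hv i List.mem_cons_self
    have hiJ : i ∈ J := hJ i List.mem_cons_self
    rw [wact_cons, g.v_w hi (g.wact_lt hv' hr) hj, if_neg, ih hv' hJ', sub_zero]
    rintro rfl; exact hjJ hiJ

theorem out_pos {J : Set ℕ} {v : List ℕ} (hv : VW T v) (hJ : JW J v) {r : ℕ} (hr : r < T.n) (hp : T.n / 2 ≤ r)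
    (h : ¬ D.InRootSub J r) : T.n / 2 ≤ wact T v r ∧ ¬ D.InRootSub J (wact T v r) := by
  obtain ⟨j, hj, hjJ, hne⟩ := g.not_inSub hr h
  have h1 := g.v_wact_out hv hJ hr hj hjJ
  have h2 := g.v_nonneg hr hj hp
  constructor
  · exact g.pos_of_v (g.wact_lt hv hr) hj (by rw [h1]; omega)
  · intro h3
    rw [g.inSub_iff] at h3
    have := h3.2 j hj hjJ
    rw [h1] at this
    exact hne this

theorem inSub_wact {J : Set ℕ} {v : List ℕ} (hv : VW T v) (hJ : JW J v) {r : ℕ} (hr : r < T.n) :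
    D.InRootSub J (wact T v r) ↔ D.InRootSub J r := by
  rw [g.inSub_iff, g.inSub_iff]
  constructor
  · rintro ⟨_, h⟩
    exact ⟨hr, fun i hi hiJ => by rw [← g.v_wact_out hv hJ hr hi hiJ]; exact h i hi hiJ⟩
  · rintro ⟨_, h⟩
    exact ⟨g.wact_lt hv hr, fun i hi hiJ => by rw [g.v_wact_out hv hJ hr hi hiJ]; exact h i hi hiJ⟩

theorem pos_J {J : Set ℕ} {w : List ℕ} (hw : VW T w) (h : ∀ i < T.l, i ∈ J → T.n / 2 ≤ wact T w (T.sim i)) {r : ℕ}
    (hp : T.n / 2 ≤ r) (hr : r < T.n) (hrJ : D.InRootSub J r) : T.n / 2 ≤ wact T w r := by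
  have hev := g.even
  rw [g.inSub_iff] at hrJ
  by_contra hcon
  have hlt := g.wact_lt hw hr
  obtain ⟨j, hj, hne⟩ := g.v_ne_zero hlt
  have h1 := g.v_nonneg (s := T.n - 1 - wact T w r) (j := j) (by omega) hj (by omega)
  rw [g.v_neg hlt hj] at h1
  have h2 : 0 ≤ T.v (wact T w r) j := by
    rw [g.v_wact hw hr hj]
    apply Finset.sum_nonneg
    intro k hk
    rw [Finset.mem_range] at hk
    by_cases hkJ : k ∈ J
    · exact mul_nonneg (g.v_nonneg hr hk hp) (g.v_nonneg (g.wact_lt hw (g.sim_lt hk)) hj (h k hk hkJ))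
    · rw [hrJ.2 k hk hkJ, zero_mul]
  omega

theorem neg_J {J : Set ℕ} {w : List ℕ} (hw : VW T w) (h : ∀ i < T.l, i ∈ J → wact T w (T.sim i) < T.n / 2) {r : ℕ}
    (hp : T.n / 2 ≤ r) (hr : r < T.n) (hrJ : D.InRootSub J r) : wact T w r < T.n / 2 := by
  have hev := g.even
  rw [g.inSub_iff] at hrJ
  by_contra hcon
  have hlt := g.wact_lt hw hr
  obtain ⟨j, hj, hne⟩ := g.v_ne_zero hlt
  have h1 := g.v_nonneg hlt hj (by omega)
  have h2 : T.v (wact T w r) j ≤ 0 := by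
    rw [g.v_wact hw hr hj]
    apply Finset.sum_nonpos
    intro k hk
    rw [Finset.mem_range] at hk
    by_cases hkJ : k ∈ J
    · have h3 := g.wact_lt hw (g.sim_lt hk)
      have h4 := h k hk hkJ
      have h5 := g.v_nonneg (s := T.n - 1 - wact T w (T.sim k)) (j := j) (by omega) hj (by omega)
      rw [g.v_neg h3 hj] at h5
      have h6 := g.v_nonneg hr hk hp
      nlinarith
    · rw [hrJ.2 k hk hkJ, zero_mul]
  omega

theorem sim_notIn {J : Set ℕ} {i : ℕ} (hi : i < T.l) (hJ : i ∉ J) : ¬ D.InRootSub J (T.sim i) := by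
  intro h
  rw [g.inSub_iff] at h
  have := h.2 i hi hJ
  rw [g.v_sim hi hi, if_pos rfl] at this
  omega

theorem exists_longest_J (J : Set ℕ) : ∃ w, VW T w ∧ JW J w ∧ ∀ i < T.l, i ∈ J → wact T w (T.sim i) < T.n / 2 := by
  have key : ∀ (k : ℕ) (w : List ℕ), T.n - ninv T w = k → VW T w → JW J w →
      ∃ w, VW T w ∧ JW J w ∧ ∀ i < T.l, i ∈ J → wact T w (T.sim i) < T.n / 2 := by
    intro k
    induction k using Nat.strong_induction_on with
    | _ k ih =>
      intro w hk hw hJ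
      by_cases h : ∀ i < T.l, i ∈ J → wact T w (T.sim i) < T.n / 2
      · exact ⟨w, hw, hJ, h⟩
      · push Not at h
        obtain ⟨i, hi, hiJ, h⟩ := h
        have h1 := g.ninv_append hw hi h
        have h2 := g.ninv_le (w ++ [i])
        refine ih (T.n - ninv T (w ++ [i])) (by omega) (w ++ [i]) rfl (g.VW_append hw (g.VW_single hi)) ?_
        intro j hj
        rw [List.mem_append, List.mem_singleton] at hj
        rcases hj with hj | rfl
        · exact hJ j hj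
        · exact hiJ
  exact key _ [] rfl (by intro i hi; simp at hi) (by intro i hi; simp at hi)

theorem wact_rev {w : List ℕ} (hw : VW T w) {r : ℕ} (hr : r < T.n) : wact T w.reverse (wact T w r) = r := by
  rw [← g.pw_val hw ⟨r, hr⟩, ← g.pw_val (VW_reverse hw), g.pw_reverse hw, perm_inv_self]

section Mat
variable {F : Type*} [Field F]

theorem J_pos {J : Set ℕ} {v : List ℕ} (hv : VW T v) (hJ : JW J v)
    (h : ∀ i < T.l, i ∈ J → T.n / 2 ≤ wact T v (T.sim i)) : g.nw (F := F) v ∈ D.diagonalSubgroup F := by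
  apply g.mem_H_of_pos hv
  intro i hi
  by_cases hiJ : i ∈ J
  · exact h i hi hiJ
  · exact (g.out_pos hv hJ (g.sim_lt hi) (g.sim_pos hi) (g.sim_notIn hi hiJ)).1

theorem nw_par {J : Set ℕ} {v : List ℕ} (hv : VW T v) (hJ : JW J v) : g.nw v ∈ D.parabolicSubgroup F J := by
  apply Subgroup.list_prod_mem
  intro x hx
  rw [List.mem_map] at hx
  obtain ⟨i, hi, rfl⟩ := hx
  exact g.nn_mem_par (hv i hi) (hJ i hi)

theorem par_mem {J : Set ℕ} {x : GL D.Idx F} (hx : x ∈ D.parabolicSubgroup F J) :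
    ∃ b ∈ D.borelSubgroup F, ∃ v, VW T v ∧ JW J v ∧ ∃ b' ∈ D.borelSubgroup F, x = b * g.nw v * b' := by
  let C : Set (GL D.Idx F) := {x | ∃ b ∈ D.borelSubgroup F, ∃ v, VW T v ∧ JW J v ∧ ∃ b' ∈ D.borelSubgroup F, x = b * g.nw v * b'}
  have hstep : ∀ i < T.l, i ∈ J → ∀ y ∈ C, g.nn i * y ∈ C := by
    rintro i hi hiJ y ⟨b, hb, v, hv, hvJ, b', hb', rfl⟩
    rcases g.BN_axiom (F := F) hi (g.nw_mem_N hv) hb with ⟨a, ha, c, hc, e⟩ | ⟨a, ha, c, hc, e⟩
    · refine ⟨a, ha, i :: v, ?_, ?_, c * b', Subgroup.mul_mem _ hc hb', ?_⟩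
      · intro k hk
        rcases List.mem_cons.1 hk with rfl | hk
        · exact hi
        · exact hv k hk
      · intro k hk
        rcases List.mem_cons.1 hk with rfl | hk
        · exact hiJ
        · exact hvJ k hk
      · rw [nw_cons]
        calc g.nn i * (b * g.nw v * b') = (g.nn i * b * g.nw v) * b' := by group
          _ = a * (g.nn i * g.nw v) * c * b' := by rw [e]
          _ = _ := by group
    · refine ⟨a, ha, v, hv, hvJ, c * b', Subgroup.mul_mem _ hc hb', ?_⟩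
      calc g.nn i * (b * g.nw v * b') = (g.nn i * b * g.nw v) * b' := by group
          _ = a * g.nw v * c * b' := by rw [e]
          _ = _ := by group
  have hB : ∀ b ∈ D.borelSubgroup F, ∀ y ∈ C, b * y ∈ C := by
    rintro b hb y ⟨b1, hb1, v, hv, hvJ, b', hb', rfl⟩
    exact ⟨b * b1, Subgroup.mul_mem _ hb hb1, v, hv, hvJ, b', hb', by group⟩
  have hinv : ∀ i < T.l, i ∈ J → ∀ y ∈ C, (g.nn i)⁻¹ * y ∈ C := by
    intro i hi hiJ y hy
    have h1 : (g.nn i)⁻¹ * y = (g.nn i * g.nn i)⁻¹ * (g.nn i * y) := by group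
    rw [h1]
    exact hB _ (Subgroup.inv_mem _ (H_le_B (g.nn_sq_mem hi))) _ (hstep i hi hiJ y hy)
  let K : Subgroup (GL D.Idx F) :=
    { carrier := {x | ∀ y, y ∈ C ↔ x * y ∈ C}
      mul_mem' := by
        intro a b ha hb y
        rw [hb y, ha (b * y), mul_assoc]
      one_mem' := by intro y; rw [one_mul]
      inv_mem' := by
        intro a ha y
        rw [ha (a⁻¹ * y), mul_inv_cancel_left] }
  have hK : D.parabolicSubgroup F J ≤ K := by
    unfold ChevalleyDatum.parabolicSubgroup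
    rw [sup_le_iff, Subgroup.closure_le]
    constructor
    · intro b hb y
      refine ⟨hB b hb y, fun h => ?_⟩
      have := hB b⁻¹ (Subgroup.inv_mem _ hb) _ h
      rwa [inv_mul_cancel_left] at this
    · rintro n ⟨i, hiJ, hi, e⟩
      rw [g.hl] at hi
      rw [g.simple i hi, g.nMat_iff (g.sim_lt hi)] at e
      subst e
      intro y
      refine ⟨hstep i hi hiJ y, fun h => ?_⟩
      have h9 : (g.nn i)⁻¹ * (g.nn i * y) ∈ C := hinv i hi hiJ _ h
      rwa [inv_mul_cancel_left] at h9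
  have h1 : (1 : GL D.Idx F) ∈ C := ⟨1, Subgroup.one_mem _, [], by intro i hi; simp at hi, by intro i hi; simp at hi,
    1, Subgroup.one_mem _, by rw [nw_nil]; group⟩
  have := (hK hx 1).1 h1
  rwa [mul_one] at this

/-- the group generated by the positive root subgroups of `Φ_J` -/
def _root_.CfsgLib.Chev.UPJ {D : ChevalleyDatum} {T : Tb} (g : Good3 D T) (F : Type*) [Field F] (J : Set ℕ) : Subgroup (GL D.Idx F) :=
  Subgroup.closure {x | ∃ (r : ℕ) (t : F), T.n / 2 ≤ r ∧ r < T.n ∧ D.InRootSub J r ∧ x = g.X r t}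

theorem UPJ_le_U (J : Set ℕ) : UPJ g F J ≤ D.posUnipotent F := by
  unfold UPJ
  rw [Subgroup.closure_le]
  rintro x ⟨r, t, h1, h2, _, rfl⟩
  exact g.X_mem_U h1 h2 t

theorem UPJ_le_levi (J : Set ℕ) : UPJ g F J ≤ D.leviSubgroup F J := by
  unfold UPJ
  rw [Subgroup.closure_le]
  rintro x ⟨r, t, h1, h2, h3, rfl⟩
  apply Subgroup.mem_sup_right
  exact Subgroup.subset_closure ⟨r, t, h3, rfl⟩

theorem UPJ_le_par (J : Set ℕ) : UPJ g F J ≤ D.parabolicSubgroup F J := by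
  unfold UPJ
  rw [Subgroup.closure_le]
  rintro x ⟨r, t, h1, h2, h3, rfl⟩
  exact g.X_mem_par h3 t

theorem conj_UJ {J : Set ℕ} {x y : GL D.Idx F} (hx : x ∈ D.parabolicSubgroup F J) (hy : y ∈ D.unipotentRadical F J) :
    x * y * x⁻¹ ∈ D.unipotentRadical F J := (Subgroup.mem_normalizer_iff.1 (g.par_norm_UJ J hx) y).1 hy

theorem conj_UJ' {J : Set ℕ} {x y : GL D.Idx F} (hx : x ∈ D.parabolicSubgroup F J) (hy : y ∈ D.unipotentRadical F J) :
    x⁻¹ * y * x ∈ D.unipotentRadical F J := by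
  have := g.conj_UJ (Subgroup.inv_mem _ hx) hy
  rwa [inv_inv] at this

theorem U_split {J : Set ℕ} {u : GL D.Idx F} (hu : u ∈ D.posUnipotent F) :
    ∃ c ∈ D.unipotentRadical F J, ∃ a ∈ UPJ g F J, u = c * a := by
  have h1 : D.posUnipotent F ≤ D.unipotentRadical F J ⊔ UPJ g F J := by
    unfold ChevalleyDatum.posUnipotent
    rw [Subgroup.closure_le]
    rintro x ⟨r, t, h1, h2⟩
    have h3 := g.isPos_iff.1 h1
    rw [g.X_iff] at h2
    by_cases h : D.InRootSub J r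
    · apply Subgroup.mem_sup_right
      exact Subgroup.subset_closure ⟨r, t, h3.1, h3.2, h, h2⟩
    · apply Subgroup.mem_sup_left
      rw [h2]
      exact g.X_mem_UJ h3.1 h3.2 h t
  apply mem_sup_norm _ (h1 hu)
  intro b hb a ha
  exact g.conj_UJ (g.UPJ_le_par J hb) ha

theorem UPJ_inf (J : Set ℕ) {x : GL D.Idx F} (h1 : x ∈ D.unipotentRadical F J) (h2 : x ∈ UPJ g F J) : x = 1 := by
  have : x ∈ D.unipotentRadical F J ⊓ D.leviSubgroup F J := ⟨h1, g.UPJ_le_levi J h2⟩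
  rw [g.levi_inf, Subgroup.mem_bot] at this
  exact this

/-- if `w` keeps `Φ_J⁺` positive then it conjugates `UPJ` into `U` -/
theorem UPJ_conj {J : Set ℕ} {w : List ℕ} (hw : VW T w) (h : ∀ i < T.l, i ∈ J → T.n / 2 ≤ wact T w (T.sim i))
    {a : GL D.Idx F} (ha : a ∈ UPJ g F J) : g.nw w * a * (g.nw w)⁻¹ ∈ D.posUnipotent F := by
  have : UPJ g F J ≤ (D.posUnipotent F).comap (MulAut.conj (g.nw w)).toMonoidHom := by
    unfold UPJ
    rw [Subgroup.closure_le]
    rintro x ⟨r, t, h1, h2, h3, rfl⟩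
    show g.nw w * g.X r t * (g.nw w)⁻¹ ∈ D.posUnipotent F
    rw [g.nw_X hw h2]
    exact g.X_mem_U (g.pos_J hw h h1 h2 h3) (g.wact_lt hw h2) _
  exact this ha

theorem UPJ_conj_neg {J : Set ℕ} {w : List ℕ} (hw : VW T w) (h : ∀ r, T.n / 2 ≤ r → r < T.n → D.InRootSub J r → wact T w r < T.n / 2)
    {a : GL D.Idx F} (ha : a ∈ UPJ g F J) : g.nw w * a * (g.nw w)⁻¹ ∈ D.negUnipotent F := by
  have : UPJ g F J ≤ (D.negUnipotent F).comap (MulAut.conj (g.nw w)).toMonoidHom := by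
    unfold UPJ
    rw [Subgroup.closure_le]
    rintro x ⟨r, t, h1, h2, h3, rfl⟩
    show g.nw w * g.X r t * (g.nw w)⁻¹ ∈ D.negUnipotent F
    rw [g.nw_X hw h2]
    exact g.X_mem_V (h r h1 h2 h3) _
  exact this ha

/-- the product of double cosets -/
theorem prod_dc {J : Set ℕ} {w : List ℕ} (hw : VW T w) (h : ∀ i < T.l, i ∈ J → T.n / 2 ≤ wact T w (T.sim i))
    {b : GL D.Idx F} (hb : b ∈ D.borelSubgroup F) {v : List ℕ} (hv : VW T v) (hJ : JW J v) :
    ∃ b1 ∈ D.borelSubgroup F, ∃ b2 ∈ D.borelSubgroup F, g.nw w * b * g.nw v = b1 * g.nw (w ++ v) * b2 := by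
  obtain ⟨u, hu, x, hx, rfl⟩ := g.mem_B.1 hb
  obtain ⟨c, hc, a, ha, rfl⟩ := g.U_split (J := J) hu
  -- c * a = a * (a⁻¹ c a)
  have h1 : a⁻¹ * c * a ∈ D.unipotentRadical F J := g.conj_UJ' (g.UPJ_le_par J ha) hc
  have h2 : (g.nw v)⁻¹ * (a⁻¹ * c * a) * g.nw v ∈ D.unipotentRadical F J := g.conj_UJ' (g.nw_par hv hJ) h1
  have h3 := g.UPJ_conj hw h ha
  have h4 : (g.nw v)⁻¹ * x * g.nw v ∈ D.diagonalSubgroup F := by
    have := g.N_H (Subgroup.inv_mem _ (g.nw_mem_N hv)) hx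
    rwa [inv_inv] at this
  refine ⟨_, U_le_B h3, _, Subgroup.mul_mem _ (U_le_B (g.UJ_le_U J h2)) (H_le_B h4), ?_⟩
  rw [nw_append]; group

/-- the double coset determines the permutation -/
theorem dc_wact {w w' : List ℕ} (hw : VW T w) (hw' : VW T w') {b b' c c' : GL D.Idx F} (hb : b ∈ D.borelSubgroup F)
    (hb' : b' ∈ D.borelSubgroup F) (hc : c ∈ D.borelSubgroup F) (hc' : c' ∈ D.borelSubgroup F)
    (e : b * g.nw w * b' = c * g.nw w' * c') : ∀ r < T.n, wact T w r = wact T w' r := by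
  have h1 : g.nw w = (b⁻¹ * c) * g.nw w' * (c' * b'⁻¹) := by
    calc g.nw w = b⁻¹ * (b * g.nw w * b') * b'⁻¹ := by group
      _ = b⁻¹ * (c * g.nw w' * c') * b'⁻¹ := by rw [e]
      _ = _ := by group
  have h2 := g.bruhat_uniq (g.nw_mem_N hw') (g.nw_mem_N hw) (Subgroup.mul_mem _ (Subgroup.inv_mem _ hb) hc)
    (Subgroup.mul_mem _ hc' (Subgroup.inv_mem _ hb')) h1
  exact g.wact_congr hw hw' h2 (by group)

/-- positivity of a group element at a simple root -/
def _root_.CfsgLib.Chev.PosG {D : ChevalleyDatum} {T : Tb} (g : Good3 D T) {F : Type*} [Field F] (x : GL D.Idx F) (i : ℕ) : Prop :=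
  i < T.l → ∃ w, VW T w ∧ (∃ b ∈ D.borelSubgroup F, ∃ b' ∈ D.borelSubgroup F, x = b * g.nw w * b') ∧
    T.n / 2 ≤ wact T w (T.sim i)

theorem PosG_iff {w : List ℕ} (hw : VW T w) {b b' : GL D.Idx F} (hb : b ∈ D.borelSubgroup F) (hb' : b' ∈ D.borelSubgroup F)
    {i : ℕ} (hi : i < T.l) : PosG g (b * g.nw w * b') i ↔ T.n / 2 ≤ wact T w (T.sim i) := by
  constructor
  · intro h
    obtain ⟨w', hw', ⟨c, hc, c', hc', e⟩, h1⟩ := h hi
    rw [g.dc_wact hw hw' hb hb' hc hc' e _ (g.sim_lt hi)]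
    exact h1
  · intro h _
    exact ⟨w, hw, ⟨b, hb, b', hb', rfl⟩, h⟩

theorem PosG_dc {b b' : GL D.Idx F} (hb : b ∈ D.borelSubgroup F) (hb' : b' ∈ D.borelSubgroup F) (x : GL D.Idx F) (i : ℕ) :
    PosG g (b * x * b') i ↔ PosG g x i := by
  constructor
  · intro h hi
    obtain ⟨w, hw, ⟨c, hc, c', hc', e⟩, h1⟩ := h hi
    refine ⟨w, hw, ⟨b⁻¹ * c, Subgroup.mul_mem _ (Subgroup.inv_mem _ hb) hc, c' * b'⁻¹,
      Subgroup.mul_mem _ hc' (Subgroup.inv_mem _ hb'), ?_⟩, h1⟩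
    calc x = b⁻¹ * (b * x * b') * b'⁻¹ := by group
      _ = b⁻¹ * (c * g.nw w * c') * b'⁻¹ := by rw [e]
      _ = _ := by group
  · intro h hi
    obtain ⟨w, hw, ⟨c, hc, c', hc', e⟩, h1⟩ := h hi
    refine ⟨w, hw, ⟨b * c, Subgroup.mul_mem _ hb hc, c' * b', Subgroup.mul_mem _ hc' hb', ?_⟩, h1⟩
    rw [e]; group

/-- Bruhat with words -/
theorem bruhat_nw {x : GL D.Idx F} (hx : x ∈ D.group F) : ∃ b ∈ D.borelSubgroup F, ∃ w, VW T w ∧
    ∃ b' ∈ D.borelSubgroup F, x = b * g.nw w * b' := by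
  obtain ⟨b, hb, n, hn, u, hu, rfl⟩ := g.bruhat hx
  obtain ⟨w, hw, h, hh, rfl⟩ := g.mem_N.1 hn
  exact ⟨b, hb, w, hw, h * u, Subgroup.mul_mem _ (H_le_B hh) (U_le_B hu), by group⟩

/-- every coset of `P_J` contains a positive element -/
theorem PosG_ex {J : Set ℕ} {x : GL D.Idx F} (hx : x ∈ D.group F) :
    ∃ p ∈ D.parabolicSubgroup F J, ∀ i ∈ J, PosG g (x * p) i := by
  classical
  have hne : ∃ k, ∃ w, w.length = k ∧ VW T w ∧ ∃ p ∈ D.parabolicSubgroup F J, ∃ b ∈ D.borelSubgroup F, ∃ b' ∈ D.borelSubgroup F,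
      x * p = b * g.nw w * b' := by
    obtain ⟨b, hb, w, hw, b', hb', e⟩ := g.bruhat_nw hx
    exact ⟨w.length, w, rfl, hw, 1, Subgroup.one_mem _, b, hb, b', hb', by rw [mul_one]; exact e⟩
  obtain ⟨w, hlen, hw, p, hp, b, hb, b', hb', e⟩ := Nat.find_spec hne
  refine ⟨p, hp, fun i hiJ hi => ?_⟩
  by_cases h : T.n / 2 ≤ wact T w (T.sim i)
  · exact ⟨w, hw, ⟨b, hb, b', hb', e⟩, h⟩
  · exfalso
    obtain ⟨w', hw', hl', h', hh', e'⟩ := g.exch' (F := F) hw hi (by omega)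
    have := Nat.find_min hne (m := w'.length) (by omega)
    apply this
    refine ⟨w', rfl, hw', p * (b'⁻¹ * g.nn i), Subgroup.mul_mem _ hp (Subgroup.mul_mem _
      (Subgroup.inv_mem _ (B_le_par J hb')) (g.nn_mem_par hi hiJ)), b, hb, h', H_le_B hh', ?_⟩
    rw [mul_assoc, ← e', ← mul_assoc, e, nw_append]
    have : g.nw [i] = g.nn (F := F) i := by simp [nw]
    rw [this]; group

/-- and it is unique modulo `B` -/
theorem PosG_un {J : Set ℕ} {x p : GL D.Idx F} (hx : x ∈ D.group F) (hp : p ∈ D.parabolicSubgroup F J)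
    (h1 : ∀ i ∈ J, PosG g x i) (h2 : ∀ i ∈ J, PosG g (x * p) i) : p ∈ D.borelSubgroup F := by
  have hev := g.even
  obtain ⟨b, hb, w, hw, b', hb', rfl⟩ := g.bruhat_nw hx
  obtain ⟨c, hc, v, hv, hvJ, c', hc', rfl⟩ := g.par_mem hp
  have h3 : ∀ i < T.l, i ∈ J → T.n / 2 ≤ wact T w (T.sim i) := fun i hi hiJ => (g.PosG_iff hw hb hb' hi).1 (h1 i hiJ)
  obtain ⟨b1, hb1, b2, hb2, e⟩ := g.prod_dc hw h3 (Subgroup.mul_mem _ hb' hc) hv hvJ
  have e2 : b * g.nw w * b' * (c * g.nw v * c') = (b * b1) * g.nw (w ++ v) * (b2 * c') := by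
    calc _ = b * (g.nw w * (b' * c) * g.nw v) * c' := by group
      _ = b * (b1 * g.nw (w ++ v) * b2) * c' := by rw [e]
      _ = _ := by group
  have h4 : ∀ i < T.l, i ∈ J → T.n / 2 ≤ wact T (w ++ v) (T.sim i) := by
    intro i hi hiJ
    have := h2 i hiJ
    rw [e2] at this
    exact (g.PosG_iff (g.VW_append hw hv) (Subgroup.mul_mem _ hb hb1) (Subgroup.mul_mem _ hb2 hc') hi).1 this
  have h5 : g.nw (F := F) v ∈ D.diagonalSubgroup F := by
    apply g.J_pos hv hvJ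
    intro i hi hiJ
    by_contra hcon
    have hvl := g.wact_lt hv (g.sim_lt hi)
    have h6 := h4 i hi hiJ
    rw [wact_append] at h6
    -- wact v (sim i) negative in Φ_J
    have h7 : D.InRootSub J (T.n - 1 - wact T v (T.sim i)) := by
      rw [g.neg_inSub hvl, g.inSub_wact hv hvJ (g.sim_lt hi)]
      exact g.sim_inSub hi hiJ
    have h8 := g.pos_J hw h3 (r := T.n - 1 - wact T v (T.sim i)) (by omega) (by omega) h7
    rw [g.wact_neg hw hvl] at h8
    omega
  exact Subgroup.mul_mem _ (Subgroup.mul_mem _ hc (H_le_B h5)) hc'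

/-- negative elements of `P_I` -/
theorem neg_par {I : Set ℕ} {w0 : List ℕ} (hw0 : VW T w0) (hI0 : JW I w0)
    (h0 : ∀ i < T.l, i ∈ I → wact T w0 (T.sim i) < T.n / 2) {x : GL D.Idx F} (hx : x ∈ D.parabolicSubgroup F I)
    (hn : ∀ i < T.l, i ∈ I → ¬ PosG g x i) : ∃ a ∈ UPJ g F I, ∃ b ∈ D.borelSubgroup F, x = a * g.nw w0 * b := by
  have hev := g.even
  obtain ⟨c, hc, v, hv, hvI, c', hc', rfl⟩ := g.par_mem hx
  have h1 : ∀ i < T.l, i ∈ I → wact T v (T.sim i) < T.n / 2 := by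
    intro i hi hiI
    by_contra hcon
    exact hn i hi hiI ((g.PosG_iff hv hc hc' hi).2 (by omega))
  -- nw v ∈ nw w0 H
  have hr := VW_reverse hw0
  have hrI : JW I w0.reverse := fun i hi => hI0 i (List.mem_reverse.1 hi)
  have h2 : g.nw (F := F) (w0.reverse ++ v) ∈ D.diagonalSubgroup F := by
    apply g.J_pos (J := I) (g.VW_append hr hv)
    · intro i hi
      rw [List.mem_append] at hi
      rcases hi with hi | hi
      · exact hrI i hi
      · exact hvI i hi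
    · intro i hi hiI
      rw [wact_append]
      have hvl := g.wact_lt hv (g.sim_lt hi)
      have h3 := h1 i hi hiI
      set s := wact T w0.reverse (wact T v (T.sim i)) with hs
      have hsl : s < T.n := g.wact_lt hr hvl
      by_contra hcon
      have h4 : D.InRootSub I (T.n - 1 - s) := by
        rw [g.neg_inSub hsl, hs, g.inSub_wact hr hrI hvl, g.inSub_wact hv hvI (g.sim_lt hi)]
        exact g.sim_inSub hi hiI
      have h5 := g.neg_J hw0 h0 (r := T.n - 1 - s) (by omega) (by omega) h4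
      rw [g.wact_neg hw0 hsl] at h5
      have h6 : wact T w0 s = wact T v (T.sim i) := by
        have := g.wact_rev hr hvl
        rw [List.reverse_reverse] at this
        exact this
      rw [h6] at h5
      omega
  have h3 : g.nw (F := F) (w0 ++ w0.reverse) ∈ D.diagonalSubgroup F := by
    apply g.nw_mem_H (g.VW_append hw0 hr)
    intro r hr'
    rw [wact_append]
    have := g.wact_rev hr hr'
    rw [List.reverse_reverse] at this
    exact this
  rw [nw_append] at h2 h3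
  -- nw v = (w0 w0rev)⁻¹ ... 
  obtain ⟨u, hu, k, hk, rfl⟩ := g.mem_B.1 hc
  obtain ⟨d, hd, a, ha, rfl⟩ := g.U_split (J := I) hu
  have h4 : a⁻¹ * d * a ∈ D.unipotentRadical F I := g.conj_UJ' (g.UPJ_le_par I ha) hd
  have h5 : (g.nw w0)⁻¹ * (a⁻¹ * d * a) * g.nw w0 ∈ D.unipotentRadical F I := g.conj_UJ' (g.nw_par hw0 hI0) h4
  have h6 : (g.nw w0)⁻¹ * (k * (g.nw w0 * g.nw w0.reverse)⁻¹) * g.nw w0 ∈ D.diagonalSubgroup F := by
    have := g.N_H (Subgroup.inv_mem _ (g.nw_mem_N hw0)) (Subgroup.mul_mem _ hk (Subgroup.inv_mem _ h3))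
    rwa [inv_inv] at this
  refine ⟨a, ha, _, Subgroup.mul_mem _ (Subgroup.mul_mem _ (Subgroup.mul_mem _ (U_le_B (g.UJ_le_U I h5)) (H_le_B h6))
    (H_le_B h2)) hc', ?_⟩
  have e : g.nw (F := F) v = (g.nw w0 * g.nw w0.reverse)⁻¹ * g.nw w0 * (g.nw w0.reverse * g.nw v) := by group
  conv_lhs => rw [e]
  group

/-- cosets `a w0 B` are distinct -/
theorem neg_inj {I : Set ℕ} {w0 : List ℕ} (hw0 : VW T w0) (hI0 : JW I w0)
    (h0 : ∀ i < T.l, i ∈ I → wact T w0 (T.sim i) < T.n / 2) {a : GL D.Idx F} (ha : a ∈ UPJ g F I)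
    (h : (g.nw w0)⁻¹ * a * g.nw w0 ∈ D.borelSubgroup F) : a = 1 := by
  have hev := g.even
  have hr := VW_reverse hw0
  have hrI : JW I w0.reverse := fun i hi => hI0 i (List.mem_reverse.1 hi)
  have h3 : g.nw (F := F) (w0 ++ w0.reverse) ∈ D.diagonalSubgroup F := by
    apply g.nw_mem_H (g.VW_append hw0 hr)
    intro r hr'
    rw [wact_append]
    have := g.wact_rev hr hr'
    rw [List.reverse_reverse] at this
    exact this
  rw [nw_append] at h3
  have h1 : g.nw w0.reverse * a * (g.nw w0.reverse)⁻¹ ∈ D.negUnipotent F := by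
    apply g.UPJ_conj_neg (J := I) hr _ ha
    intro r hp hrn hrJ
    by_contra hcon
    have hsl := g.wact_lt hr hrn
    have h4 : D.InRootSub I (wact T w0.reverse r) := by
      rw [g.inSub_wact hr hrI hrn]; exact hrJ
    have h5 := g.neg_J hw0 h0 (r := wact T w0.reverse r) (by omega) hsl h4
    have h6 : wact T w0 (wact T w0.reverse r) = r := by
      have := g.wact_rev hr hrn
      rw [List.reverse_reverse] at this
      exact this
    rw [h6] at h5
    omega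
  -- (nw w0)⁻¹ = nw w0.reverse * (h3)⁻¹
  have h4 : (g.nw w0)⁻¹ * (g.nw w0 * g.nw w0.reverse) * g.nw w0 ∈ D.diagonalSubgroup F := by
    have := g.N_H (Subgroup.inv_mem _ (g.nw_mem_N hw0)) h3
    rwa [inv_inv] at this
  have h5 : (g.nw w0)⁻¹ * a * g.nw w0 ∈ D.negUnipotent F ⊔ D.diagonalSubgroup F := by
    have e : (g.nw w0)⁻¹ * a * g.nw w0 = ((g.nw w0)⁻¹ * (g.nw w0 * g.nw w0.reverse) * g.nw w0)⁻¹ *
        (g.nw w0.reverse * g.nw w0 * ((g.nw w0)⁻¹ * a * g.nw w0) * (g.nw w0.reverse * g.nw w0)⁻¹) *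
        ((g.nw w0)⁻¹ * (g.nw w0 * g.nw w0.reverse) * g.nw w0) := by group
    rw [e]
    have e2 : g.nw w0.reverse * g.nw w0 * ((g.nw w0)⁻¹ * a * g.nw w0) * (g.nw w0.reverse * g.nw w0)⁻¹ =
        g.nw w0.reverse * a * (g.nw w0.reverse)⁻¹ := by group
    rw [e2]
    exact Subgroup.mul_mem _ (Subgroup.mul_mem _ (Subgroup.mem_sup_right (Subgroup.inv_mem _ h4)) (Subgroup.mem_sup_left h1))
      (Subgroup.mem_sup_right h4)
  have h6 : (g.nw w0)⁻¹ * a * g.nw w0 ∈ D.diagonalSubgroup F := by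
    rw [← g.B_inf_VH]; exact ⟨h, h5⟩
  have h7 : a ∈ D.diagonalSubgroup F := by
    have := g.N_H (g.nw_mem_N hw0) h6
    have e : g.nw w0 * ((g.nw w0)⁻¹ * a * g.nw w0) * (g.nw w0)⁻¹ = a := by group
    rwa [e] at this
  have : a ∈ D.posUnipotent F ⊓ D.diagonalSubgroup F := ⟨g.UPJ_le_U I ha, h7⟩
  rw [g.U_inf_H, Subgroup.mem_bot] at this
  exact this

end Mat

end Good3

end CfsgLib.Chev
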