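import Mathlib
import Cfsg.Agent.EqBase
import Cfsg.Agent.LibOrbF28
import Cfsg.Agent.LibEltE28

set_option autoImplicit false

/-! Counting fixed octads, dodecads, sextets and trios of a coded element (helper28). -/

namespace CfsgLib.Cnt28

open Cfsg CfsgLib.Golay CfsgLib.M24 CfsgLib.Syn28 CfsgLib.OrbAbs28 CfsgLib.OrbM28 CfsgLib.OrbG28
  CfsgLib.OrbD28 CfsgLib.Trio28 CfsgLib.TrioKey28 CfsgLib.OrbF28
open scoped Pointwise

/-- number of `lo ≤ k < lo + 2 ^ l` satisfying `f` -/
def cntB (f : ℕ → Bool) : ℕ → ℕ → ℕ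
  | 0, lo => cond (f lo) 1 0
  | l + 1, lo => Nat.add (cntB f l lo) (cntB f l (Nat.add lo (Nat.pow 2 l)))

theorem cntB_eq (f : ℕ → Bool) (l lo : ℕ) :
    cntB f l lo = ((Finset.Ico lo (lo + 2 ^ l)).filter fun k => f k = true).card := by
  induction l generalizing lo with
  | zero =>
    have : Finset.Ico lo (lo + 2 ^ 0) = {lo} := by
      ext x; simp only [Finset.mem_Ico, pow_zero, Finset.mem_singleton]; omega
    rw [this, Finset.filter_singleton, cntB]
    cases h : f lo <;> simp
  | succ l ih =>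
    have h1 : Finset.Ico lo (lo + 2 ^ (l + 1)) = Finset.Ico lo (lo + 2 ^ l) ∪
        Finset.Ico (lo + 2 ^ l) (lo + 2 ^ l + 2 ^ l) := by
      rw [pow_succ]
      ext x; simp only [Finset.mem_Ico, Finset.mem_union]; omega
    have h2 : Disjoint (Finset.Ico lo (lo + 2 ^ l)) (Finset.Ico (lo + 2 ^ l) (lo + 2 ^ l + 2 ^ l)) := by
      rw [Finset.disjoint_left]; intro x; simp only [Finset.mem_Ico]; omega
    rw [h1, Finset.filter_union, Finset.card_union_of_disjoint (Finset.disjoint_filter_filter h2), ← ih, ← ih]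
    rfl

/-- counting a set by keys -/
theorem ncard_of_keys {β : Type*} {B : Set β} (obj : ℕ → β) (l : ℕ) (good : ℕ → Bool)
    (h1 : ∀ k < 2 ^ l, good k = true → obj k ∈ B) (h2 : ∀ x ∈ B, ∃ k < 2 ^ l, good k = true ∧ obj k = x)
    (hinj : ∀ k < 2 ^ l, ∀ k' < 2 ^ l, good k = true → good k' = true → obj k = obj k' → k = k') :
    B.ncard = cntB good l 0 := by
  classical
  rw [cntB_eq, zero_add]
  have h3 : B = obj '' (((Finset.Ico 0 (2 ^ l)).filter fun k => good k = true : Finset ℕ) : Set ℕ) := by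
    ext x
    rw [Set.mem_image]
    constructor
    · intro hx
      obtain ⟨k, hk, hg, rfl⟩ := h2 x hx
      refine ⟨k, ?_, rfl⟩
      rw [Finset.mem_coe, Finset.mem_filter, Finset.mem_Ico]
      exact ⟨⟨Nat.zero_le _, hk⟩, hg⟩
    · rintro ⟨k, hk, rfl⟩
      rw [Finset.mem_coe, Finset.mem_filter, Finset.mem_Ico] at hk
      exact h1 k hk.1.2 hk.2
  rw [h3, Set.ncard_image_of_injOn, Set.ncard_coe_finset]
  intro k hk k' hk' hkk
  rw [Finset.mem_coe, Finset.mem_filter, Finset.mem_Ico] at hk hk'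
  exact hinj k hk.1.2 k' hk'.1.2 hk.2 hk'.2 hkk

/-! ### octads and dodecads -/

theorem act_cw {P A : List ℕ} (h : okA P A = true) {k : ℕ} (hk : k < 4096) :
    mkPerm P • fset (cw k) = fset (cw (xs A k)) := by
  rw [← el_smul (okA_mem h)]; exact el_cw h k hk

/-- codewords of weight `n` fixed by a coded element -/
theorem cw_fixed {P A : List ℕ} (h : okA P A = true) (hA : ∀ b ∈ A, b < 2 ^ 12) (n : ℕ) :
    {o : Finset GolayPt | (o ∈ supports (golayCode : Set (GolayPt → ZMod 2)) ∧ o.card = n) ∧ mkPerm P • o = o}.ncard =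
      cntB (fun k => and (Nat.beq (xs A k) k) (Nat.beq (pop (cw k)) n)) 12 0 := by
  apply ncard_of_keys (fun k => fset (cw k))
  · intro k hk hg
    rw [Bool.and_eq_true, beq_iff, beq_iff] at hg
    refine ⟨⟨cw_mem_supports k, by rw [card_fset]; exact hg.2⟩, ?_⟩
    show mkPerm P • fset (cw k) = fset (cw k)
    rw [act_cw h hk, hg.1]
  · rintro x ⟨hx, hx2⟩
    obtain ⟨k, hk, rfl⟩ := mem_supports.1 hx.1
    refine ⟨k, hk, ?_, rfl⟩
    rw [Bool.and_eq_true, beq_iff, beq_iff]
    have h8 := hx.2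
    rw [card_fset] at h8
    refine ⟨?_, h8⟩
    rw [act_cw h hk] at hx2
    exact cw_injective (xs_lt A 12 hA k) hk (fset_injective (cw_lt _) (cw_lt _) hx2)
  · intro k hk k' hk' _ _ hkk
    exact cw_injective hk hk' (fset_injective (cw_lt k) (cw_lt k') hkk)

theorem oct_fixed {P A : List ℕ} (h : okA P A = true) (hA : ∀ b ∈ A, b < 2 ^ 12) :
    {o : Finset GolayPt | o ∈ octads ∧ mkPerm P • o = o}.ncard =
      cntB (fun k => and (Nat.beq (xs A k) k) (Nat.beq (pop (cw k)) 8)) 12 0 := cw_fixed h hA 8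

theorem dod_fixed {P A : List ℕ} (h : okA P A = true) (hA : ∀ b ∈ A, b < 2 ^ 12) :
    {o : Finset GolayPt | o ∈ dodecads ∧ mkPerm P • o = o}.ncard =
      cntB (fun k => and (Nat.beq (xs A k) k) (Nat.beq (pop (cw k)) 12)) 12 0 := cw_fixed h hA 12

/-! ### sextets -/

/-- bits at the syndromes of the points -/
def MM : ℕ := 0x100000000000000000000000000000000000040000000000000000000000000000000000000000000000000000000000080000000000000000000000000000000000000000000000000000200000000000000000000000000000000000000000000000000000000000000000004000000000000000002000000000000000000000000000000000000000000000000000000000000000000000000000000000000000000800000000000000000000000000000000000000000000000000000000000000000000000000000000000000000000000000000000000100000000000000000010000000000000000000000000000000000000000000000000000800000000000000000000000000000000000000000000000000000000000000000000000000000000000000000000000000000000000000000000000000000000000000000000000080000000000000000000000000000000000000010000000004000000000000000000000000000000000000000000000000000000000000000000000000000000000000000000000000000000000000000000000100002000000000000000000000000000000000000000000000000000000000010000000000000000000000000000000100000000000000010000000100010116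

/-- bit test -/
def tb (M x : ℕ) : Bool := Nat.beq (Nat.land (Nat.shiftRight M x) 1) 1

/-- syndromes of tetrads -/
def isSx (s : ℕ) : Bool :=
  and (Nat.beq (Nat.land (pop (Nat.shiftLeft s 12)) 1) 0) (not (SYN.any fun a => tb MM (Nat.xor s a)))

theorem tb_MM : ∀ x < 4096, tb MM x = true → x ∈ SYN := by
  intro x hx h
  have h1 := allB_spec (fun x => or (not (tb MM x)) (SYN.any fun b => Nat.beq x b)) 12 0 (by decide +kernel) x
    (Nat.zero_le _) (by omega)
  rw [h, Bool.not_true, Bool.false_or, List.any_eq_true] at h1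
  obtain ⟨b, hb, h2⟩ := h1
  rw [beq_iff.1 h2]; exact hb

theorem mem_SYN {a : ℕ} (ha : a ∈ SYN) : ∃ p : GolayPt, sy {p} = a := by
  have key : ∀ a ∈ SYN, ∃ i < 24, sy {pt i} = a := by decide +kernel
  obtain ⟨i, _, h⟩ := key a ha
  exact ⟨_, h⟩

theorem SYN_lt : ∀ a ∈ SYN, a < 4096 := by decide

theorem inter_single (t : Finset GolayPt) (p : GolayPt) : (t ∩ {p}).card ≤ 1 := by
  have := Finset.card_le_card (Finset.inter_subset_right (s₁ := t) (s₂ := {p}))
  rwa [Finset.card_singleton] at this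

theorem isSx_of_mem {s : ℕ} (hs : s < 4096) (h : sextetOf s ∈ sextets) : isSx s = true := by
  obtain ⟨t, ht⟩ := sextet_nonempty h
  rw [mem_sextetOf] at ht
  rw [isSx, Bool.and_eq_true]
  have hm : s <<< 12 < 2 ^ 24 := by rw [Nat.shiftLeft_eq]; omega
  constructor
  · rw [beq_iff]
    have h1 : sy (fset (s <<< 12)) = s := by rw [sy_fset hm, syn_rep s hs]
    have h2 := sy_eq_iff.1 (ht.2.trans h1.symm)
    have h3 := CfsgLib.M24.card_symmDiff t (fset (s <<< 12))
    have h4 := card_of_mem_supports h2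
    rw [card_fset, ht.1] at h3
    show (pop (s <<< 12)) &&& 1 = 0
    rw [Nat.and_one_is_mod]
    rcases h4 with h4 | h4 | h4 | h4 | h4
    · rw [h4, Finset.card_empty] at h3; omega
    · omega
    · omega
    · omega
    · omega
  · rw [Bool.not_eq_true', List.any_eq_false]
    intro a ha hb
    have ha2 : a < 4096 := SYN_lt a ha
    have hb2 := tb_MM (s ^^^ a) (Nat.xor_lt_two_pow (n := 12) hs ha2) hb
    obtain ⟨p, hp⟩ := mem_SYN ha
    obtain ⟨q, hq⟩ := mem_SYN hb2
    have h1 : sy (symmDiff (symmDiff t {p}) {q}) = 0 := by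
      rw [sy_symmDiff, sy_symmDiff, ht.2, hp, hq, Nat.xor_self]
    have h2 := card_of_mem_supports (sy_eq_zero_iff.1 h1)
    have h3 := CfsgLib.M24.card_symmDiff t {p}
    have h4 := CfsgLib.M24.card_symmDiff (symmDiff t {p}) {q}
    have h5 := inter_single t p
    have h6 := inter_single (symmDiff t {p}) q
    rw [ht.1, Finset.card_singleton] at h3
    rw [Finset.card_singleton] at h4
    rcases h2 with h2 | h2 | h2 | h2 | h2
    · rw [h2, Finset.card_empty] at h4; omega
    · omega
    · omega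
    · omega
    · omega

theorem cnt_isSx : cntB isSx 12 0 = 1771 := by decide +kernel

theorem mem_of_isSx {s : ℕ} (hs : s < 4096) (h : isSx s = true) : sextetOf s ∈ sextets := by
  classical
  have h1 : sextets.ncard = cntB (fun s => decide (sextetOf s ∈ sextets)) 12 0 := by
    apply ncard_of_keys sextetOf
    · intro k _ hk
      exact of_decide_eq_true hk
    · intro x hx
      obtain ⟨t, ht, rfl⟩ := mem_sextets_iff.1 hx
      exact ⟨sy t, sy_lt t, decide_eq_true hx, rfl⟩
    · intro k hk k' hk' hg _ hkk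
      exact sextets_obj k (by omega) k' (by omega) (of_decide_eq_true hg) hkk
  rw [sextets_ncard, cntB_eq, zero_add] at h1
  have h2 := cnt_isSx
  rw [cntB_eq, zero_add] at h2
  have h3 : ((Finset.Ico 0 (2 ^ 12)).filter fun s => decide (sextetOf s ∈ sextets) = true) ⊆
      ((Finset.Ico 0 (2 ^ 12)).filter fun k => isSx k = true) := by
    intro k hk
    rw [Finset.mem_filter, Finset.mem_Ico] at hk ⊢
    exact ⟨hk.1, isSx_of_mem (by omega) (of_decide_eq_true hk.2)⟩
  have h4 := Finset.eq_of_subset_of_card_le h3 (by rw [h2, ← h1])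
  have h5 : s ∈ ((Finset.Ico 0 (2 ^ 12)).filter fun k => isSx k = true) := by
    rw [Finset.mem_filter, Finset.mem_Ico]
    exact ⟨⟨Nat.zero_le _, by omega⟩, h⟩
  rw [← h4, Finset.mem_filter] at h5
  exact of_decide_eq_true h5.2

theorem act_sextet {P A C : List ℕ} (h : okAC P A C = true) {s : ℕ} (hs : s < 4096) :
    mkPerm P • sextetOf s = sextetOf (xs C s) := by
  rw [← el_smul' (okA_mem (okAC_okA h))]; exact el_sextet h s hs

theorem sex_fixed {P A C : List ℕ} (h : okAC P A C = true) (hC : ∀ b ∈ C, b < 2 ^ 12) :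
    {S : Finset (Finset GolayPt) | S ∈ sextets ∧ mkPerm P • S = S}.ncard =
      cntB (fun k => and (Nat.beq (xs C k) k) (isSx k)) 12 0 := by
  apply ncard_of_keys sextetOf
  · intro k hk hg
    rw [Bool.and_eq_true, beq_iff] at hg
    refine ⟨mem_of_isSx hk hg.2, ?_⟩
    show mkPerm P • sextetOf k = sextetOf k
    rw [act_sextet h hk, hg.1]
  · rintro x ⟨hx, hx2⟩
    obtain ⟨t, ht, rfl⟩ := mem_sextets_iff.1 hx
    refine ⟨sy t, sy_lt t, ?_, rfl⟩
    rw [Bool.and_eq_true, beq_iff]
    refine ⟨?_, isSx_of_mem (sy_lt t) hx⟩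
    rw [act_sextet h (sy_lt t)] at hx2
    exact (sextets_obj _ (sy_lt t) _ (xs_lt C 12 hC _) hx hx2.symm).symm
  · intro k hk k' hk' hg _ hkk
    rw [Bool.and_eq_true] at hg
    exact sextets_obj k (by omega) k' (by omega) (mem_of_isSx hk hg.2) hkk

/-! ### trios -/

theorem inj_tt : ∀ i < 3795, ∀ j < 3795, gt 24 16777215 E_tt i = gt 24 16777215 E_tt j → i = j :=
  inj_of_srt (l := 12) (by norm_num) (by norm_num) srt_tt

/-- trio with a given index -/
noncomputable def tri (i : ℕ) : Finset (Finset GolayPt) := tobj (gt 24 16777215 E_tt i)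

theorem tri_mem {i : ℕ} (hi : i < 3795) : tri i ∈ trios := (tgood_spec (goodE_tt i hi)).2.2.2

theorem tri_inj {i j : ℕ} (hi : i < 3795) (hj : j < 3795) (h : tri i = tri j) : i = j :=
  inj_tt i hi j hj (tobj_inj (goodE_tt i hi) (goodE_tt j hj) h)

theorem tri_surj {T : Finset (Finset GolayPt)} (hT : T ∈ trios) : ∃ i < 3795, tri i = T := by
  classical
  have h1 : (tri '' ((Finset.range 3795 : Finset ℕ) : Set ℕ)) = trios := by
    apply Set.eq_of_subset_of_ncard_le
    · rintro _ ⟨i, hi, rfl⟩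
      rw [Finset.mem_coe, Finset.mem_range] at hi
      exact tri_mem hi
    · rw [trios_ncard, Set.ncard_image_of_injOn, Set.ncard_coe_finset, Finset.card_range]
      intro i hi j hj hij
      rw [Finset.mem_coe, Finset.mem_range] at hi hj
      exact tri_inj hi hj hij
    · exact trios_finite
  rw [← h1] at hT
  obtain ⟨i, hi, rfl⟩ := hT
  rw [Finset.mem_coe, Finset.mem_range] at hi
  exact ⟨i, hi, rfl⟩

/-- is `x` one of the three codes of the trio? -/
def in3 (a b x : ℕ) : Bool := or (Nat.beq x a) (or (Nat.beq x b) (Nat.beq x (tmid a b)))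

/-- the trio with key `k` is fixed -/
def kfix (A : List ℕ) (k : ℕ) : Bool :=
  (fun a b => and (in3 a b (xs A a)) (in3 a b (xs A b))) (Nat.mod k 4096) (Nat.div k 4096)

theorem kfix_iff {P A : List ℕ} (h : okA P A = true) (hA : ∀ b ∈ A, b < 2 ^ 12) {k : ℕ} (hk : tgood k = true) :
    mkPerm P • tobj k = tobj k ↔ kfix A k = true := by
  obtain ⟨h1, h2, h3, h4⟩ := tgood_spec hk
  have ha : k % 4096 < 4096 := Nat.mod_lt _ (by norm_num)
  have hkv : k % 4096 ≠ k / 4096 := by omega
  have hoct : fset (cw (k % 4096)) ≠ fset (cw (k / 4096)) := fun h => hkv (cw_inj ha h3 h)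
  have hd : Disjoint (fset (cw (k % 4096))) (fset (cw (k / 4096))) :=
    h4.2.2 _ (Finset.mem_insert_self _ _) _ (Finset.mem_insert_of_mem (Finset.mem_insert_self _ _)) hoct
  have e1 : mkPerm P • tobj k = trioOf (fset (cw (xs A (k % 4096)))) (fset (cw (xs A (k / 4096)))) := by
    rw [← el_smul' (okA_mem h)]
    show el P • trioOf (fset (cw (k % 4096))) (fset (cw (k / 4096))) = _
    rw [smul_trioOf, el_cw h _ ha, el_cw h _ h3]
  have hlt : ∀ c, xs A c < 4096 := fun c => xs_lt A 12 hA c
  have hm := tmid_lt ha h3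
  have hin : ∀ x < 4096, (in3 (k % 4096) (k / 4096) x = true ↔ fset (cw x) ∈ tobj k) := by
    intro x hx
    rw [show (fset (cw x) ∈ tobj k) ↔ _ from mem_tri hd, in3, Bool.or_eq_true, Bool.or_eq_true, beq_iff, beq_iff, beq_iff]
    constructor
    · rintro (h | h | h)
      · exact Or.inl (by rw [h])
      · exact Or.inr (Or.inl (by rw [h]))
      · exact Or.inr (Or.inr (by rw [h]))
    · rintro (h | h | h)
      · exact Or.inl (cw_inj hx ha h)
      · exact Or.inr (Or.inl (cw_inj hx h3 h))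
      · exact Or.inr (Or.inr (cw_inj hx hm h))
  have hk2 : kfix A k = and (in3 (k % 4096) (k / 4096) (xs A (k % 4096))) (in3 (k % 4096) (k / 4096) (xs A (k / 4096))) := rfl
  rw [hk2, Bool.and_eq_true, hin _ (hlt _), hin _ (hlt _), e1]
  constructor
  · intro h5
    rw [← h5]
    exact ⟨Finset.mem_insert_self _ _, Finset.mem_insert_of_mem (Finset.mem_insert_self _ _)⟩
  · rintro ⟨h5, h6⟩
    symm
    apply eq_trioOf h4 h5 h6
    intro h7
    apply hoct
    rw [← el_cw h _ ha, ← el_cw h _ h3] at h7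
    exact MulAction.injective (el P) h7

theorem tri_fixed {P A : List ℕ} (h : okA P A = true) (hA : ∀ b ∈ A, b < 2 ^ 12) :
    {T : Finset (Finset GolayPt) | T ∈ trios ∧ mkPerm P • T = T}.ncard =
      cntB (fun i => and (Nat.blt i 3795) (kfix A (gt 24 16777215 E_tt i))) 12 0 := by
  apply ncard_of_keys tri
  · intro i _ hg
    rw [Bool.and_eq_true, Nat.blt_eq] at hg
    exact ⟨tri_mem hg.1, (kfix_iff h hA (goodE_tt i hg.1)).2 hg.2⟩
  · rintro x ⟨hx, hx2⟩
    obtain ⟨i, hi, rfl⟩ := tri_surj hx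
    refine ⟨i, by omega, ?_, rfl⟩
    rw [Bool.and_eq_true, Nat.blt_eq]
    exact ⟨hi, (kfix_iff h hA (goodE_tt i hi)).1 hx2⟩
  · intro i _ j _ hg hg' hij
    rw [Bool.and_eq_true, Nat.blt_eq] at hg hg'
    exact tri_inj hg.1 hg'.1 hij

/-! ### transport along conjugation -/

theorem count_conj {β : Type*} [MulAction (Equiv.Perm GolayPt) β] (B : Set β) {g h : Equiv.Perm GolayPt}
    (hB : ∀ x, h • x ∈ B ↔ x ∈ B) : {x | x ∈ B ∧ g • x = x}.ncard = {x | x ∈ B ∧ (h * g * h⁻¹) • x = x}.ncard := by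
  have : {x | x ∈ B ∧ (h * g * h⁻¹) • x = x} = (fun x => h • x) '' {x | x ∈ B ∧ g • x = x} := by
    ext x
    rw [Set.mem_image]
    constructor
    · rintro ⟨h1, h2⟩
      refine ⟨h⁻¹ • x, ⟨?_, ?_⟩, smul_inv_smul h x⟩
      · rw [← hB, smul_inv_smul]; exact h1
      · rw [eq_inv_smul_iff, smul_smul, smul_smul]; exact h2
    · rintro ⟨y, ⟨h1, h2⟩, rfl⟩
      refine ⟨(hB y).2 h1, ?_⟩
      rw [smul_smul, mul_assoc, inv_mul_cancel, mul_one, mul_smul, h2]
  rw [this, Set.ncard_image_of_injective _ (MulAction.injective h)]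

theorem inv_iff {β : Type*} [MulAction (Equiv.Perm GolayPt) β] [MulAction ↥M24 β] {B : Set β}
    (hcomp : ∀ (g : ↥M24) (x : β), g • x = (g : Equiv.Perm GolayPt) • x)
    (hB : ∀ g : ↥M24, ∀ b ∈ B, g • b ∈ B) {h : Equiv.Perm GolayPt} (hh : h ∈ M24) (x : β) : h • x ∈ B ↔ x ∈ B := by
  constructor
  · intro hx
    have := hB ⟨h⁻¹, inv_mem hh⟩ _ hx
    rw [hcomp] at this
    have h2 : h⁻¹ • h • x ∈ B := this
    rwa [inv_smul_smul] at h2
  · intro hx
    have := hB ⟨h, hh⟩ _ hx
    rwa [hcomp] at this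

theorem oct_conj' {g h : Equiv.Perm GolayPt} (hh : h ∈ M24) :
    {x | x ∈ octads ∧ g • x = x}.ncard = {x | x ∈ octads ∧ (h * g * h⁻¹) • x = x}.ncard :=
  count_conj octads fun x => inv_iff (fun _ _ => rfl) octads_inv hh x

theorem dod_conj' {g h : Equiv.Perm GolayPt} (hh : h ∈ M24) :
    {x | x ∈ dodecads ∧ g • x = x}.ncard = {x | x ∈ dodecads ∧ (h * g * h⁻¹) • x = x}.ncard :=
  count_conj dodecads fun x => inv_iff (fun _ _ => rfl) dodecads_inv hh x

theorem sex_conj' {g h : Equiv.Perm GolayPt} (hh : h ∈ M24) :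
    {x | x ∈ sextets ∧ g • x = x}.ncard = {x | x ∈ sextets ∧ (h * g * h⁻¹) • x = x}.ncard :=
  count_conj sextets fun x => inv_iff (fun _ _ => rfl) sextets_inv hh x

theorem tri_conj' {g h : Equiv.Perm GolayPt} (hh : h ∈ M24) :
    {x | x ∈ trios ∧ g • x = x}.ncard = {x | x ∈ trios ∧ (h * g * h⁻¹) • x = x}.ncard :=
  count_conj trios fun x => inv_iff (fun _ _ => rfl) trios_inv hh x

end CfsgLib.Cnt28
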