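import Cfsg.Statements.S0358
import Mathlib
import Cfsg.Agent.LibGolay

set_option autoImplicit false
open Cfsg

namespace Cfsg.Agent.S0358

/-- The length-24 code built from the squares modulo 23 has dimension 12 over the field with two elements. -/
theorem result : Module.finrank (ZMod 2) Cfsg.golayCode = 12 := by
  have h1 : Nat.card Cfsg.golayCode = 4096 := by
    have hbij : Function.Bijective (fun k : Fin 4096 =>
        (⟨CfsgLib.Golay.word (CfsgLib.Golay.cw k), CfsgLib.Golay.word_cw_mem k⟩ : Cfsg.golayCode)) := by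
      constructor
      · intro k l h
        apply Fin.ext
        exact CfsgLib.Golay.cw_injective k.2 l.2
          (CfsgLib.Golay.word_injective (CfsgLib.Golay.cw_lt _) (CfsgLib.Golay.cw_lt _)
            (congrArg Subtype.val h))
      · rintro ⟨w, hw⟩
        obtain ⟨k, hk, rfl⟩ := CfsgLib.Golay.mem_golayCode.1 hw
        exact ⟨⟨k, hk⟩, rfl⟩
    rw [← Nat.card_congr (Equiv.ofBijective _ hbij), Nat.card_eq_fintype_card, Fintype.card_fin]
  have h2 := Module.natCard_eq_pow_finrank (K := ZMod 2) (V := Cfsg.golayCode)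
  rw [h1, Nat.card_zmod] at h2
  have h3 : (2 : ℕ) ^ 12 = 2 ^ Module.finrank (ZMod 2) Cfsg.golayCode := by rw [← h2]; norm_num
  exact (Nat.pow_right_injective (le_refl 2) h3).symm

end Cfsg.Agent.S0358
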