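import Cfsg.Statements.S0362
import Mathlib
import Cfsg.Agent.LibGolay

set_option autoImplicit false
open Cfsg

namespace Cfsg.Agent.S0362

/-- The length-24 code is self-orthogonal: the dot product over ZMod 2 of any two of its words vanishes (with dimension 12 this makes it self-dual). -/
theorem result (v w : Cfsg.GolayPt → ZMod 2) (hv : v ∈ Cfsg.golayCode) (hw : w ∈ Cfsg.golayCode) : ∑ i, v i * w i = 0 := by
  obtain ⟨k, hk, rfl⟩ := CfsgLib.Golay.mem_golayCode.1 hv
  obtain ⟨l, hl, rfl⟩ := CfsgLib.Golay.mem_golayCode.1 hw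
  have h1 : ∀ i, CfsgLib.Golay.word (CfsgLib.Golay.cw k) i * CfsgLib.Golay.word (CfsgLib.Golay.cw l) i =
      if i ∈ CfsgLib.Golay.fset (CfsgLib.Golay.cw k) ∩ CfsgLib.Golay.fset (CfsgLib.Golay.cw l) then 1 else 0 := by
    intro i
    simp only [CfsgLib.Golay.word, Finset.mem_inter, CfsgLib.Golay.mem_fset]
    cases (CfsgLib.Golay.cw k).testBit (CfsgLib.Golay.idx i) <;>
      cases (CfsgLib.Golay.cw l).testBit (CfsgLib.Golay.idx i) <;> simp
  rw [Finset.sum_congr rfl fun i _ => h1 i, Finset.sum_ite_mem, Finset.univ_inter, Finset.sum_const,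
    nsmul_eq_mul, mul_one]
  have hs := CfsgLib.Golay.mem_supports.2 ⟨k, hk, rfl⟩
  have ht := CfsgLib.Golay.mem_supports.2 ⟨l, hl, rfl⟩
  have hst := CfsgLib.Golay.symmDiff_mem_supports hs ht
  generalize CfsgLib.Golay.fset (CfsgLib.Golay.cw k) = s at *
  generalize CfsgLib.Golay.fset (CfsgLib.Golay.cw l) = t at *
  have key : ∀ u ∈ Cfsg.supports (Cfsg.golayCode : Set (Cfsg.GolayPt → ZMod 2)), 4 ∣ u.card := by
    intro u hu
    rcases CfsgLib.Golay.card_of_mem_supports hu with h | h | h | h | h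
    · rw [h]; simp
    all_goals rw [h]; norm_num
  have c1 := key _ hs
  have c2 := key _ ht
  have c3 := key _ hst
  have h2 : (symmDiff s t).card + 2 * (s ∩ t).card = s.card + t.card := by
    have e1 : symmDiff s t = (s ∪ t) \ (s ∩ t) := symmDiff_eq_sup_sdiff_inf s t
    have e2 := Finset.card_sdiff_add_card_eq_card (s := s ∩ t) (t := s ∪ t)
      (Finset.inter_subset_left.trans Finset.subset_union_left)
    have e3 := Finset.card_union_add_card_inter s t
    rw [e1]; omega
  have h3 : 2 ∣ (s ∩ t).card := by omega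
  rw [ZMod.natCast_eq_zero_iff]
  exact h3

end Cfsg.Agent.S0362
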