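import Cfsg.Agent.EqBase
import Mathlib
import Cfsg.Agent.LibGolay
import Cfsg.Agent.LibM24
import Cfsg.Agent.S0358
import Cfsg.Agent.S0362

/-!
The lattice `leechLattice`: parametrisation, evenness, minimal norm, index.
-/

set_option autoImplicit false

namespace CfsgLib.Leech

open Cfsg CfsgLib.Golay CfsgLib.M24
open scoped Pointwise

/-- ambient group -/
abbrev E : Type := GolayPt → ℤ

/-- the integer lift of a bit -/
def lf (a : ZMod 2) : ℤ := (a.val : ℤ)

theorem lf_zero : lf 0 = 0 := rfl
theorem lf_one : lf 1 = 1 := rfl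
theorem lf_cases (a : ZMod 2) : lf a = 0 ∨ lf a = 1 := by revert a; decide
theorem lf_sq (a : ZMod 2) : lf a * lf a = lf a := by revert a; decide
theorem lf_add (a b : ZMod 2) : lf a + lf b = lf (a + b) + 2 * (lf a * lf b) := by revert a b; decide
theorem lf_add_one (a : ZMod 2) : lf (a + 1) = 1 - lf a := by revert a; decide
theorem lf_eq_zero {a : ZMod 2} : lf a = 0 ↔ a = 0 := by revert a; decide
theorem lf_eq_one {a : ZMod 2} : lf a = 1 ↔ a ≠ 0 := by revert a; decide

/-- weight as a sum -/
theorem sum_lf (w : GolayPt → ZMod 2) : ∑ i, lf (w i) = ((support₂ w).card : ℤ) := by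
  rw [support₂, Finset.card_filter, Nat.cast_sum]
  apply Finset.sum_congr rfl
  intro i _
  have : ∀ a : ZMod 2, lf a = ((if a ≠ 0 then 1 else 0 : ℕ) : ℤ) := by decide
  exact this _

theorem four_dvd_sum {w : GolayPt → ZMod 2} (hw : w ∈ golayCode) : (4 : ℤ) ∣ ∑ i, lf (w i) := by
  rw [sum_lf]
  have h : (4 : ℕ) ∣ (support₂ w).card := by
    rcases card_of_mem_supports (s := support₂ w) ⟨w, hw, rfl⟩ with h | h | h | h | h
    · rw [h]; simp
    all_goals rw [h]; norm_num
  exact_mod_cast h

theorem one_mem : (1 : GolayPt → ZMod 2) ∈ golayCode := by rw [one_eq]; exact word_cw_mem _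

theorem two_dvd_dot {v w : GolayPt → ZMod 2} (hv : v ∈ golayCode) (hw : w ∈ golayCode) :
    (2 : ℤ) ∣ ∑ i, lf (v i) * lf (w i) := by
  have h := Cfsg.Agent.S0362.result v w hv hw
  have h2 : ((∑ i, lf (v i) * lf (w i) : ℤ) : ZMod 2) = 0 := by
    rw [← h]
    push_cast
    apply Finset.sum_congr rfl
    intro i _
    have : ∀ a b : ZMod 2, ((lf a : ℤ) : ZMod 2) * ((lf b : ℤ) : ZMod 2) = a * b := by decide
    exact this _ _
  exact (ZMod.intCast_zmod_eq_zero_iff_dvd _ 2).1 h2

/-- the parametrised form of the lattice vectors -/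
def Par (x : E) (m : ℤ) (w : GolayPt → ZMod 2) (y : E) : Prop :=
  w ∈ golayCode ∧ (∀ i, x i = m + 2 * lf (w i) + 4 * y i) ∧ (2 : ℤ) ∣ (∑ i, y i) - m

theorem par_add {x x' : E} {m m' : ℤ} {w w' : GolayPt → ZMod 2} {y y' : E} (h : Par x m w y) (h' : Par x' m' w' y') :
    Par (x + x') (m + m') (w + w') (fun i => y i + y' i + lf (w i) * lf (w' i)) := by
  refine ⟨Submodule.add_mem _ h.1 h'.1, fun i => ?_, ?_⟩
  · rw [Pi.add_apply, h.2.1, h'.2.1, Pi.add_apply]
    have := lf_add (w i) (w' i)
    linarith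
  · rw [Finset.sum_add_distrib, Finset.sum_add_distrib]
    have h1 := two_dvd_dot h.1 h'.1
    have h2 := h.2.2
    have h3 := h'.2.2
    omega

theorem par_neg {x : E} {m : ℤ} {w : GolayPt → ZMod 2} {y : E} (h : Par x m w y) :
    Par (-x) (-m) w (fun i => -y i - lf (w i)) := by
  refine ⟨h.1, fun i => ?_, ?_⟩
  · rw [Pi.neg_apply, h.2.1]; ring
  · rw [Finset.sum_sub_distrib, Finset.sum_neg_distrib]
    have h1 := four_dvd_sum h.1
    have h2 := h.2.2
    omega

/-- the lattice in parametrised form -/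
def Lam : AddSubgroup E where
  carrier := {x | ∃ m w y, Par x m w y}
  zero_mem' := ⟨0, 0, 0, Submodule.zero_mem _, fun i => by simp [lf_zero], by simp⟩
  add_mem' := by
    rintro a b ⟨m, w, y, h⟩ ⟨m', w', y', h'⟩
    exact ⟨_, _, _, par_add h h'⟩
  neg_mem' := by
    rintro a ⟨m, w, y, h⟩
    exact ⟨_, _, _, par_neg h⟩

theorem mem_Lam {x : E} : x ∈ Lam ↔ ∃ m w y, Par x m w y := Iff.rfl

/-- shifting `m` by two -/
theorem par_shift {x : E} {m : ℤ} {w : GolayPt → ZMod 2} {y : E} (h : Par x m w y) :
    Par x (m + 2) (w + 1) (fun i => y i - (1 - lf (w i))) := by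
  refine ⟨Submodule.add_mem _ h.1 one_mem, fun i => ?_, ?_⟩
  · rw [h.2.1, Pi.add_apply, Pi.one_apply, lf_add_one]; ring
  · rw [Finset.sum_sub_distrib, Finset.sum_sub_distrib]
    have h1 := four_dvd_sum h.1
    have h2 := h.2.2
    have h3 : ∑ _i : GolayPt, (1 : ℤ) = 24 := by
      rw [Finset.sum_const, Finset.card_univ, card_pt]; rfl
    rw [h3]
    omega

theorem par_shift' {x : E} {m : ℤ} {w : GolayPt → ZMod 2} {y : E} (h : Par x m w y) :
    Par x (m - 2) (w + 1) (fun i => y i + lf (w i)) := by
  refine ⟨Submodule.add_mem _ h.1 one_mem, fun i => ?_, ?_⟩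
  · rw [h.2.1, Pi.add_apply, Pi.one_apply, lf_add_one]; ring
  · rw [Finset.sum_add_distrib]
    have h1 := four_dvd_sum h.1
    have h2 := h.2.2
    omega

/-- canonical parametrisation -/
theorem exists_par {x : E} (hx : x ∈ Lam) : ∃ m w y, (m = 0 ∨ m = 1) ∧ Par x m w y := by
  obtain ⟨m, w, y, h⟩ := hx
  have key : ∀ (n : ℕ) (m : ℤ) (w : GolayPt → ZMod 2) (y : E), m.natAbs ≤ n → Par x m w y →
      ∃ m w y, (m = 0 ∨ m = 1) ∧ Par x m w y := by
    intro n
    induction n with
    | zero =>
      intro m w y hn h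
      exact ⟨m, w, y, Or.inl (by omega), h⟩
    | succ n ih =>
      intro m w y hn h
      by_cases h0 : m = 0 ∨ m = 1
      · exact ⟨m, w, y, h0, h⟩
      · rcases lt_or_ge m 0 with hm | hm
        · by_cases h1 : m = -1
          · exact ⟨m + 2, _, _, Or.inr (by omega), par_shift h⟩
          · exact ih _ _ _ (by omega) (par_shift h)
        · exact ih _ _ _ (by omega) (par_shift' h)
  exact key _ m w y le_rfl h

theorem zero_mem_supports : (∅ : Finset GolayPt) ∈ supports (golayCode : Set (GolayPt → ZMod 2)) :=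
  ⟨0, Submodule.zero_mem _, by ext i; simp [support₂]⟩

theorem leechSet_eq : leechSet = (Lam : Set E) := by
  ext x
  constructor
  · rintro ⟨m, h1, h2, h3⟩
    obtain ⟨w, hw, hws⟩ := h3 (m + 2)
    have hwi : ∀ i, w i ≠ 0 ↔ x i ≡ m + 2 [ZMOD 4] := by
      intro i
      have : i ∈ support₂ w ↔ i ∈ Finset.univ.filter fun i => x i ≡ m + 2 [ZMOD 4] := by rw [hws]
      simpa [support₂] using this
    have hdvd : ∀ i, (4 : ℤ) ∣ x i - m - 2 * lf (w i) := by
      intro i
      have h4 := h1 i
      rcases lf_cases (w i) with h | h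
      · rw [h]
        have h5 : ¬ x i ≡ m + 2 [ZMOD 4] := by
          rw [← hwi]; rw [lf_eq_zero] at h; simp [h]
        rw [Int.modEq_iff_dvd] at h4 h5
        omega
      · rw [h]
        have h5 : x i ≡ m + 2 [ZMOD 4] := by rw [← hwi]; exact lf_eq_one.1 h
        rw [Int.modEq_iff_dvd] at h5
        omega
    choose y hy using hdvd
    refine ⟨m, w, y, hw, fun i => by linarith [hy i], ?_⟩
    have h5 : ∑ i, x i = 24 * m + 2 * ∑ i, lf (w i) + 4 * ∑ i, y i := by
      have : ∀ i, x i = m + 2 * lf (w i) + 4 * y i := fun i => by linarith [hy i]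
      rw [Finset.sum_congr rfl fun i _ => this i, Finset.sum_add_distrib, Finset.sum_add_distrib,
        ← Finset.mul_sum, ← Finset.mul_sum, Finset.sum_const, Finset.card_univ, card_pt]
      simp
    rw [Int.modEq_iff_dvd] at h2
    have h6 := four_dvd_sum hw
    omega
  · rintro ⟨m, w, y, hw, hx, hy⟩
    refine ⟨m, fun i => ?_, ?_, fun k => ?_⟩
    · rw [Int.modEq_iff_dvd, hx]; omega
    · have h5 : ∑ i, x i = 24 * m + 2 * ∑ i, lf (w i) + 4 * ∑ i, y i := by
        rw [Finset.sum_congr rfl fun i _ => hx i, Finset.sum_add_distrib, Finset.sum_add_distrib,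
          ← Finset.mul_sum, ← Finset.mul_sum, Finset.sum_const, Finset.card_univ, card_pt]
        simp
      rw [Int.modEq_iff_dvd]
      have h6 := four_dvd_sum hw
      omega
    · by_cases h1 : (2 : ℤ) ∣ k - m
      · by_cases h2 : (4 : ℤ) ∣ k - m
        · -- complement of w
          have : (Finset.univ.filter fun i => x i ≡ k [ZMOD 4]) = support₂ (w + 1) := by
            ext i
            simp only [support₂, Finset.mem_filter, Finset.mem_univ, true_and, Pi.add_apply, Pi.one_apply]
            rw [← lf_eq_one, lf_add_one, Int.modEq_iff_dvd, hx]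
            rcases lf_cases (w i) with h | h <;> rw [h] <;> omega
          rw [this]
          exact ⟨_, Submodule.add_mem _ hw one_mem, rfl⟩
        · have : (Finset.univ.filter fun i => x i ≡ k [ZMOD 4]) = support₂ w := by
            ext i
            simp only [support₂, Finset.mem_filter, Finset.mem_univ, true_and]
            rw [← lf_eq_one, Int.modEq_iff_dvd, hx]
            rcases lf_cases (w i) with h | h <;> rw [h] <;> omega
          rw [this]
          exact ⟨_, hw, rfl⟩
      · have : (Finset.univ.filter fun i => x i ≡ k [ZMOD 4]) = ∅ := by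
          rw [Finset.filter_eq_empty_iff]
          intro i _
          rw [Int.modEq_iff_dvd, hx]
          omega
        rw [this]
        exact zero_mem_supports

theorem leechLattice_eq : leechLattice = Lam := by
  rw [leechLattice, leechSet_eq, AddSubgroup.closure_eq]

/-- the sum of squares -/
theorem sqNorm_par {x : E} {m : ℤ} {w : GolayPt → ZMod 2} {y : E} (h : Par x m w y) :
    sqNorm x = 24 * m ^ 2 + 4 * (1 + m) * (∑ i, lf (w i)) + 8 * m * (∑ i, y i) +
      16 * ∑ i, (y i ^ 2 + lf (w i) * y i) := by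
  have h1 : ∀ i, x i ^ 2 = m ^ 2 + 4 * (1 + m) * lf (w i) + 8 * m * y i + 16 * (y i ^ 2 + lf (w i) * y i) := by
    intro i
    rw [h.2.1]
    have := lf_sq (w i)
    linear_combination 4 * this
  rw [sqNorm, Finset.sum_congr rfl fun i _ => h1 i, Finset.sum_add_distrib, Finset.sum_add_distrib,
    Finset.sum_add_distrib, ← Finset.mul_sum, ← Finset.mul_sum, ← Finset.mul_sum, Finset.sum_const,
    Finset.card_univ, card_pt]
  simp

theorem dvd_sqNorm {x : E} (hx : x ∈ Lam) : (16 : ℤ) ∣ sqNorm x := by
  obtain ⟨m, w, y, h⟩ := hx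
  rw [sqNorm_par h]
  obtain ⟨a, ha⟩ := four_dvd_sum h.1
  obtain ⟨b, hb⟩ := h.2.2
  have hb' : ∑ i, y i = m + 2 * b := by linarith
  rw [ha, hb']
  refine ⟨2 * m ^ 2 + (1 + m) * a + m * b + ∑ i, (y i ^ 2 + lf (w i) * y i), ?_⟩
  ring

theorem sqNorm_nonneg (x : E) : 0 ≤ sqNorm x := Finset.sum_nonneg fun i _ => sq_nonneg _

/-- no vectors with sum of squares 16 -/
theorem min_norm {x : E} (hx : x ∈ Lam) (h0 : x ≠ 0) : 32 ≤ sqNorm x := by
  have hnn := sqNorm_nonneg x
  have hpos : sqNorm x ≠ 0 := by
    intro h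
    apply h0
    funext i
    rw [sqNorm, Finset.sum_eq_zero_iff_of_nonneg (fun i _ => sq_nonneg _)] at h
    have := h i (Finset.mem_univ _)
    exact pow_eq_zero_iff (two_ne_zero) |>.1 this
  have h16 := dvd_sqNorm hx
  have hx' := hx
  obtain ⟨m, w, y, hm, h⟩ := exists_par hx
  rcases hm with rfl | rfl
  · -- even
    by_cases hw : w = 0
    · subst hw
      have h1 := sqNorm_par h
      have h2 := h.2.2
      have h3 : ∀ z : ℤ, (2 : ℤ) ∣ z ^ 2 - z := by
        intro z
        have : z ^ 2 - z = z * (z - 1) := by ring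
        rw [this]
        rcases Int.emod_two_eq_zero_or_one z with h | h
        · exact Dvd.dvd.mul_right (by omega) _
        · exact Dvd.dvd.mul_left (by omega) _
      have h4 : (2 : ℤ) ∣ (∑ i, y i ^ 2) - ∑ i, y i := by
        rw [← Finset.sum_sub_distrib]
        exact Finset.dvd_sum fun i _ => h3 _
      have h5 : ∑ i, (y i ^ 2 + lf ((0 : GolayPt → ZMod 2) i) * y i) = ∑ i, y i ^ 2 := by
        apply Finset.sum_congr rfl; intro i _; simp [lf_zero]
      have h6 : ∑ i, lf ((0 : GolayPt → ZMod 2) i) = 0 := by simp [lf_zero]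
      rw [h5, h6] at h1
      omega
    · -- at least eight coordinates congruent to 2 modulo 4
      have h8 : 8 ≤ (support₂ w).card := by
        rcases card_of_mem_supports (s := support₂ w) ⟨w, h.1, rfl⟩ with h' | h' | h' | h' | h'
        · exfalso
          apply hw
          apply support₂_injective
          rw [h']; ext i; simp [support₂]
        all_goals omega
      have h1 : ∑ i, 4 * lf (w i) ≤ sqNorm x := by
        apply Finset.sum_le_sum
        intro i _
        rw [h.2.1]
        rcases lf_cases (w i) with h' | h'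
        · rw [h']; positivity
        · rw [h']
          have : (2 * (1 + 2 * y i)) ^ 2 = 4 * (1 + 2 * y i) ^ 2 := by ring
          have h2 : (0 : ℤ) + 2 * 1 + 4 * y i = 2 * (1 + 2 * y i) := by ring
          rw [h2, this]
          have h3 : 1 ≤ (1 + 2 * y i) ^ 2 := by
            have : (1 + 2 * y i) ≠ 0 := by omega
            have := sq_pos_of_ne_zero this
            omega
          linarith
      rw [← Finset.mul_sum, sum_lf] at h1
      have : (8 : ℤ) ≤ ((support₂ w).card : ℤ) := by exact_mod_cast h8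
      linarith
  · -- odd
    have hodd : ∀ i, 1 ≤ x i ^ 2 := by
      intro i
      have : x i ≠ 0 := by rw [h.2.1]; omega
      have := sq_pos_of_ne_zero this
      omega
    have h1 : (24 : ℤ) ≤ sqNorm x := by
      have : ∑ _i : GolayPt, (1 : ℤ) ≤ sqNorm x := Finset.sum_le_sum fun i _ => hodd i
      rw [Finset.sum_const, Finset.card_univ, card_pt] at this
      exact this
    omega

theorem index_step (H : AddSubgroup E) {Q : Type*} [AddCommGroup Q] (f : E →+ Q) (hf : Function.Surjective f) :
    H.index = (H.map f).index * H.relIndex f.ker := by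
  have h1 : H.relIndex (H ⊔ f.ker) * (H ⊔ f.ker).index = H.index := AddSubgroup.relIndex_mul_index le_sup_left
  have h2 : (H ⊔ f.ker).index = (H.map f).index := by
    rw [← AddSubgroup.comap_map_eq, AddSubgroup.index_comap_of_surjective _ hf]
  have h3 : H.relIndex (H ⊔ f.ker) = H.relIndex f.ker := by
    exact AddSubgroup.relIndex_sup_left f.ker H
  rw [← h1, h2, h3, mul_comm]

/-- reduction modulo two -/
def f1 : E →+ (GolayPt → ZMod 2) where
  toFun x := fun i => (x i : ZMod 2)
  map_zero' := by funext i; simp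
  map_add' x y := by funext i; simp

theorem f1_apply (x : E) (i : GolayPt) : f1 x i = (x i : ZMod 2) := rfl

theorem cast_lf (a : ZMod 2) : ((lf a : ℤ) : ZMod 2) = a := by revert a; decide

theorem f1_surjective : Function.Surjective f1 := by
  intro w
  refine ⟨fun i => lf (w i), ?_⟩
  funext i
  rw [f1_apply, cast_lf]

/-- doubling -/
def dbl : E →+ E where
  toFun x := fun i => 2 * x i
  map_zero' := by funext i; simp
  map_add' x y := by funext i; simp; ring

theorem dbl_apply (x : E) (i : GolayPt) : dbl x i = 2 * x i := rfl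

theorem range_dbl : dbl.range = f1.ker := by
  ext x
  rw [AddMonoidHom.mem_range, AddMonoidHom.mem_ker]
  constructor
  · rintro ⟨y, rfl⟩
    funext i
    rw [f1_apply, dbl_apply, Pi.zero_apply, ZMod.intCast_zmod_eq_zero_iff_dvd]
    exact Dvd.intro _ rfl
  · intro h
    have h1 : ∀ i, (2 : ℤ) ∣ x i := by
      intro i
      rw [← Nat.cast_ofNat (R := ℤ), ← ZMod.intCast_zmod_eq_zero_iff_dvd]
      exact congrFun h i
    choose y hy using h1
    refine ⟨y, ?_⟩
    funext i
    rw [dbl_apply, hy]

theorem card_words : Nat.card (GolayPt → ZMod 2) = 2 ^ 24 := by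
  rw [Nat.card_fun, Nat.card_zmod, Nat.card_eq_fintype_card, card_pt]

theorem single_sum (a : ℤ) : ∑ i, (Pi.single none a : E) i = a := by
  rw [Finset.sum_pi_single']; simp

theorem map_Lam : Lam.map f1 = AddSubgroup.zmultiples (1 : GolayPt → ZMod 2) := by
  ext v
  rw [AddSubgroup.mem_map, AddSubgroup.mem_zmultiples_iff]
  constructor
  · rintro ⟨x, ⟨m, w, y, h⟩, rfl⟩
    refine ⟨m, ?_⟩
    funext i
    rw [f1_apply, h.2.1]
    push_cast
    have h2 : (2 : ZMod 2) = 0 := by decide
    have h4 : (4 : ZMod 2) = 0 := by decide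
    rw [h2, h4]
    simp
  · rintro ⟨m, rfl⟩
    refine ⟨fun i => m + 4 * (Pi.single none m : E) i, ⟨m, 0, Pi.single none m, Submodule.zero_mem _, fun i => ?_, ?_⟩, ?_⟩
    · simp [lf_zero]
    · rw [single_sum]; simp
    · funext i
      rw [f1_apply]
      push_cast
      have h4 : (4 : ZMod 2) = 0 := by decide
      rw [h4]
      simp

theorem index_map_Lam : (Lam.map f1).index = 2 ^ 23 := by
  rw [map_Lam]
  have h1 := (AddSubgroup.zmultiples (1 : GolayPt → ZMod 2)).card_mul_index
  have h2 : Nat.card (AddSubgroup.zmultiples (1 : GolayPt → ZMod 2)) = 2 := by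
    rw [Nat.card_zmultiples]
    apply addOrderOf_eq_prime
    · funext i
      rw [Pi.smul_apply, Pi.one_apply, Pi.zero_apply]
      exact (by decide : (2 : ℕ) • (1 : ZMod 2) = 0)
    · intro h
      have := congrFun h none
      rw [Pi.one_apply, Pi.zero_apply] at this
      exact absurd this (by decide)
  rw [h2, card_words] at h1
  omega

/-- `{x | 2 x ∈ Λ}` -/
def Lam2 : AddSubgroup E := Lam.comap dbl

theorem map_Lam2 : Lam2.map f1 = golayCode.toAddSubgroup := by
  ext v
  rw [AddSubgroup.mem_map, Submodule.mem_toAddSubgroup]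
  constructor
  · rintro ⟨x, ⟨m, w, y, h⟩, rfl⟩
    have h1 : (2 : ℤ) ∣ m := by
      have := h.2.1 none
      rw [dbl_apply] at this
      omega
    obtain ⟨m', rfl⟩ := h1
    have h2 : f1 x = (m' : ZMod 2) • (1 : GolayPt → ZMod 2) + w := by
      funext i
      have h3 := h.2.1 i
      rw [dbl_apply] at h3
      have h4 : x i = m' + lf (w i) + 2 * y i := by linarith
      rw [f1_apply, h4]
      push_cast
      have h5 : (2 : ZMod 2) = 0 := by decide
      rw [h5, cast_lf]
      simp
    rw [h2]
    exact Submodule.add_mem _ (Submodule.smul_mem _ _ one_mem) h.1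
  · intro hv
    refine ⟨fun i => lf (v i), ⟨0, v, 0, hv, fun i => ?_, by simp⟩, ?_⟩
    · rw [dbl_apply]; simp
    · funext i
      rw [f1_apply, cast_lf]

theorem index_map_Lam2 : (Lam2.map f1).index = 2 ^ 12 := by
  rw [map_Lam2]
  have h1 := golayCode.toAddSubgroup.card_mul_index
  have h2 : Nat.card golayCode.toAddSubgroup = 2 ^ 12 := by
    have h3 := Module.natCard_eq_pow_finrank (K := ZMod 2) (V := golayCode)
    rw [Cfsg.Agent.S0358.result, Nat.card_zmod] at h3
    exact h3
  rw [h2, card_words] at h1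
  omega

/-- parity of the sum -/
def sumPar : E →+ ZMod 2 where
  toFun x := ((∑ i, x i : ℤ) : ZMod 2)
  map_zero' := by simp
  map_add' x y := by
    simp only [Pi.add_apply, Finset.sum_add_distrib]
    push_cast; rfl

theorem sumPar_surjective : Function.Surjective sumPar := by
  intro a
  refine ⟨Pi.single none (lf a), ?_⟩
  change ((∑ i, (Pi.single none (lf a) : E) i : ℤ) : ZMod 2) = a
  rw [single_sum, cast_lf]

theorem Lam3_eq : Lam2.comap dbl = sumPar.ker := by
  ext y
  rw [AddMonoidHom.mem_ker]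
  have hs : sumPar y = 0 ↔ (2 : ℤ) ∣ ∑ i, y i := ZMod.intCast_zmod_eq_zero_iff_dvd _ 2
  rw [hs]
  constructor
  · rintro ⟨m, w, y', h⟩
    have h0 : ∀ i, 4 * y i = m + 2 * lf (w i) + 4 * y' i := by
      intro i
      rw [← h.2.1 i, dbl_apply, dbl_apply]; ring
    have h1 : (2 : ℤ) ∣ m := by
      have := h0 none
      omega
    obtain ⟨m', rfl⟩ := h1
    have h2 : 4 * ∑ i, y i = 24 * (2 * m') + 2 * ∑ i, lf (w i) + 4 * ∑ i, y' i := by
      have e1 : 4 * ∑ i, y i = ∑ i, 4 * y i := Finset.mul_sum _ _ _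
      have e2 : ∑ _i : GolayPt, (2 * m') = 24 * (2 * m') := by
        rw [Finset.sum_const, Finset.card_univ, card_pt, nsmul_eq_mul]; rfl
      rw [e1, Finset.sum_congr rfl fun i _ => h0 i, Finset.sum_add_distrib, Finset.sum_add_distrib,
        ← Finset.mul_sum Finset.univ (fun i => lf (w i)) 2, ← Finset.mul_sum Finset.univ y' 4, e2]
    have h3 := h.2.2
    rcases lf_cases (w none) with h4 | h4
    · -- w = 0
      have h5 : ∀ i, lf (w i) = 0 := by
        intro i
        have e1 := h0 none
        have e2 := h0 i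
        rw [h4] at e1
        rcases lf_cases (w i) with h6 | h6
        · exact h6
        · rw [h6] at e2; omega
      rw [Finset.sum_eq_zero fun i _ => h5 i] at h2
      omega
    · have h5 : ∀ i, lf (w i) = 1 := by
        intro i
        have e1 := h0 none
        have e2 := h0 i
        rw [h4] at e1
        rcases lf_cases (w i) with h6 | h6
        · rw [h6] at e2; omega
        · exact h6
      have e2 : ∑ _i : GolayPt, (1 : ℤ) = 24 := by
        rw [Finset.sum_const, Finset.card_univ, card_pt, nsmul_eq_mul]; rfl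
      rw [Finset.sum_congr rfl fun i _ => h5 i, e2] at h2
      have h6 := h0 none
      rw [h4] at h6
      omega
  · intro h
    refine ⟨0, 0, y, Submodule.zero_mem _, fun i => ?_, by simpa using h⟩
    rw [dbl_apply, dbl_apply]
    simp [lf_zero]; ring

theorem index_Lam : Lam.index = 2 ^ 36 := by
  rw [index_step Lam f1 f1_surjective, index_map_Lam, ← range_dbl, ← AddSubgroup.index_comap]
  have h : (Lam.comap dbl).index = 2 ^ 13 := by
    change Lam2.index = 2 ^ 13
    rw [index_step Lam2 f1 f1_surjective, index_map_Lam2, ← range_dbl, ← AddSubgroup.index_comap, Lam3_eq,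
      AddSubgroup.index_ker, AddMonoidHom.range_eq_top.2 sumPar_surjective, AddSubgroup.card_top, Nat.card_zmod]
    norm_num
  rw [h]
  norm_num

/-! ### symmetries -/

/-- `M24` permutes the coordinates -/
theorem perm_mem {σ : Equiv.Perm GolayPt} (hσ : σ ∈ M24) {x : E} (hx : x ∈ Lam) : (fun i => x (σ i)) ∈ Lam := by
  obtain ⟨m, w, y, h⟩ := hx
  have hσ' := (mem_M24_iff' σ⁻¹).1 (inv_mem hσ) w h.1
  rw [inv_inv] at hσ'
  refine ⟨m, fun i => w (σ i), fun i => y (σ i), hσ', fun i => h.2.1 _, ?_⟩
  rw [Equiv.sum_comp σ y]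
  exact h.2.2

/-- sign changes on the support of a codeword -/
theorem sign_mem {c : GolayPt → ZMod 2} (hc : c ∈ golayCode) {x : E} (hx : x ∈ Lam) :
    (fun i => if c i ≠ 0 then -x i else x i) ∈ Lam := by
  obtain ⟨m, w, y, h⟩ := hx
  -- x' = m + 2 (w + m c) + 4 y'
  refine ⟨m, w + (m : ZMod 2) • c, fun i => if c i = 0 then y i else
    (-(m + lf (w i) * 2 + 4 * y i) - m - 2 * lf (w i + (m : ZMod 2))) / 4,
    Submodule.add_mem _ h.1 (Submodule.smul_mem _ _ hc), fun i => ?_, ?_⟩
  · change (if c i ≠ 0 then -x i else x i) = _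
    rw [h.2.1]
    by_cases hi : c i = 0
    · simp [hi]
    · have hc1 : c i = 1 := by
        have : ∀ a : ZMod 2, a ≠ 0 → a = 1 := by decide
        exact this _ hi
      simp only [hc1, ne_eq, one_ne_zero, not_false_eq_true, if_true, if_false, Pi.add_apply, Pi.smul_apply,
        smul_eq_mul, mul_one]
      have h1 : (4 : ℤ) ∣ (-(m + lf (w i) * 2 + 4 * y i) - m - 2 * lf (w i + (m : ZMod 2))) := by
        rcases Int.even_or_odd' m with ⟨k, rfl | rfl⟩
        · have h2 : ((2 * k : ℤ) : ZMod 2) = 0 := by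
            push_cast
            have : (2 : ZMod 2) = 0 := by decide
            rw [this, zero_mul]
          rw [h2, add_zero]
          rcases lf_cases (w i) with h | h <;> rw [h] <;> omega
        · have h2 : ((2 * k + 1 : ℤ) : ZMod 2) = 1 := by
            push_cast
            have : (2 : ZMod 2) = 0 := by decide
            rw [this, zero_mul, zero_add]
          rw [h2, lf_add_one]
          rcases lf_cases (w i) with h | h <;> rw [h] <;> omega
      have h2 := Int.mul_ediv_cancel' h1
      linarith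
  · -- parity of the sum
    have h1 : ∀ i, (4 : ℤ) * (if c i = 0 then y i else
        (-(m + lf (w i) * 2 + 4 * y i) - m - 2 * lf (w i + (m : ZMod 2))) / 4) =
        4 * y i - lf (c i) * (2 * m + 2 * lf (w i) + 2 * lf (w i + (m : ZMod 2)) + 8 * y i) := by
      intro i
      by_cases hi : c i = 0
      · simp [hi, lf_zero]
      · have hc1 : c i = 1 := by
          have : ∀ a : ZMod 2, a ≠ 0 → a = 1 := by decide
          exact this _ hi
        rw [if_neg hi, hc1, lf_one]
        have h1 : (4 : ℤ) ∣ (-(m + lf (w i) * 2 + 4 * y i) - m - 2 * lf (w i + (m : ZMod 2))) := by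
          rcases Int.even_or_odd' m with ⟨k, rfl | rfl⟩
          · have h2 : ((2 * k : ℤ) : ZMod 2) = 0 := by
              push_cast
              have : (2 : ZMod 2) = 0 := by decide
              rw [this, zero_mul]
            rw [h2, add_zero]
            rcases lf_cases (w i) with h | h <;> rw [h] <;> omega
          · have h2 : ((2 * k + 1 : ℤ) : ZMod 2) = 1 := by
              push_cast
              have : (2 : ZMod 2) = 0 := by decide
              rw [this, zero_mul, zero_add]
            rw [h2, lf_add_one]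
            rcases lf_cases (w i) with h | h <;> rw [h] <;> omega
        have h2 := Int.mul_ediv_cancel' h1
        linarith
    have h2 : (4 : ℤ) * ∑ i, (if c i = 0 then y i else
        (-(m + lf (w i) * 2 + 4 * y i) - m - 2 * lf (w i + (m : ZMod 2))) / 4) =
        4 * ∑ i, y i - ∑ i, lf (c i) * (2 * m + 2 * lf (w i) + 2 * lf (w i + (m : ZMod 2)) + 8 * y i) := by
      rw [Finset.mul_sum, Finset.sum_congr rfl fun i _ => h1 i, Finset.sum_sub_distrib, Finset.mul_sum]
    have h3 : (8 : ℤ) ∣ ∑ i, lf (c i) * (2 * m + 2 * lf (w i) + 2 * lf (w i + (m : ZMod 2)) + 8 * y i) := by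
      obtain ⟨a, ha⟩ := four_dvd_sum hc
      obtain ⟨b, hb⟩ := two_dvd_dot hc h.1
      rcases Int.even_or_odd' m with ⟨k, rfl | rfl⟩
      · have h4 : ((2 * k : ℤ) : ZMod 2) = 0 := by
          push_cast
          have : (2 : ZMod 2) = 0 := by decide
          rw [this, zero_mul]
        have h5 : ∀ i, lf (c i) * (2 * (2 * k) + 2 * lf (w i) + 2 * lf (w i + ((2 * k : ℤ) : ZMod 2)) + 8 * y i) =
            4 * k * lf (c i) + 4 * (lf (c i) * lf (w i)) + 8 * (lf (c i) * y i) := by
          intro i; rw [h4, add_zero]; ring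
        rw [Finset.sum_congr rfl fun i _ => h5 i, Finset.sum_add_distrib, Finset.sum_add_distrib,
          ← Finset.mul_sum, ← Finset.mul_sum, ← Finset.mul_sum, ha, hb]
        exact ⟨2 * k * a + b + ∑ i, lf (c i) * y i, by ring⟩
      · have h4 : ((2 * k + 1 : ℤ) : ZMod 2) = 1 := by
          push_cast
          have : (2 : ZMod 2) = 0 := by decide
          rw [this, zero_mul, zero_add]
        have h5 : ∀ i, lf (c i) * (2 * (2 * k + 1) + 2 * lf (w i) + 2 * lf (w i + ((2 * k + 1 : ℤ) : ZMod 2)) + 8 * y i) =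
            4 * (k + 1) * lf (c i) + 8 * (lf (c i) * y i) := by
          intro i; rw [h4, lf_add_one]; ring
        rw [Finset.sum_congr rfl fun i _ => h5 i, Finset.sum_add_distrib,
          ← Finset.mul_sum, ← Finset.mul_sum, ha]
        exact ⟨2 * (k + 1) * a + ∑ i, lf (c i) * y i, by ring⟩
    have h4 := h.2.2
    change (2 : ℤ) ∣ (∑ i, (if c i = 0 then y i else
        (-(m + lf (w i) * 2 + 4 * y i) - m - 2 * lf (w i + (m : ZMod 2))) / 4)) - m
    generalize (∑ i, (if c i = 0 then y i else
        (-(m + lf (w i) * 2 + 4 * y i) - m - 2 * lf (w i + (m : ZMod 2))) / 4)) = S at *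
    generalize (∑ i, lf (c i) * (2 * m + 2 * lf (w i) + 2 * lf (w i + (m : ZMod 2)) + 8 * y i)) = T at *
    omega

end CfsgLib.Leech
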