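import Cfsg.Agent.EqBase
import Mathlib
import Cfsg.Agent.LibLeech

/-!
Even lattices of rank 24 without roots: norm 8 vectors modulo twice the lattice.
-/

set_option autoImplicit false

namespace CfsgLib.Frame

open Cfsg CfsgLib.Golay CfsgLib.M24 CfsgLib.Leech

variable {L : Type*} [AddCommGroup L]

theorem map_neg_neg (B : L →+ L →+ ℤ) (y : L) : B (-y) (-y) = B y y := by simp

theorem map_zero_zero (B : L →+ L →+ ℤ) : B 0 0 = 0 := by simp

/-- even, positive definite, no roots -/
structure Ev (B : L →+ L →+ ℤ) : Prop where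
  symm : ∀ x y, B x y = B y x
  pos : ∀ x, x ≠ 0 → 0 < B x x
  even : ∀ x, (2 : ℤ) ∣ B x x
  no2 : ∀ x, B x x ≠ 2

namespace Ev

variable {B : L →+ L →+ ℤ} (F : Ev B)
include F

theorem nonneg (x : L) : 0 ≤ B x x := by
  by_cases h : x = 0
  · rw [h, map_zero_zero]
  · exact (F.pos x h).le

theorem eq_zero {x : L} (h : B x x = 0) : x = 0 := by
  by_contra h0
  have := F.pos x h0
  omega

theorem four_le {x : L} (h : x ≠ 0) : 4 ≤ B x x := by
  have h1 := F.pos x h
  have h2 := F.even x
  have h3 := F.no2 x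
  omega

/-- short vectors congruent modulo twice the lattice -/
theorem cong {x y z : L} (hx : B x x ≤ 8) (hy : B y y ≤ 8) (h : x - y = z + z) :
    x = y ∨ x = -y ∨ (B x x = 8 ∧ B y y = 8 ∧ B x y = 0) := by
  have h1 : B (x - y) (x - y) = B x x + B y y - 2 * B x y := by
    simp only [map_sub, AddMonoidHom.sub_apply]
    rw [F.symm y x]; ring
  have h2 : B (z + z) (z + z) = 4 * B z z := by
    simp only [map_add, AddMonoidHom.add_apply]; ring
  have h3 : x + y = (z + y) + (z + y) := by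
    have : x = z + z + y := by rw [← h]; abel
    rw [this]; abel
  have h4 : B (x + y) (x + y) = B x x + B y y + 2 * B x y := by
    simp only [map_add, AddMonoidHom.add_apply]
    rw [F.symm y x]; ring
  have h5 : B ((z + y) + (z + y)) ((z + y) + (z + y)) = 4 * B (z + y) (z + y) := by
    generalize z + y = u
    simp only [map_add, AddMonoidHom.add_apply]; ring
  rw [h, h2] at h1
  rw [h3, h5] at h4
  by_cases hz : z = 0
  · left
    rw [hz, add_zero, sub_eq_zero] at h
    exact h
  by_cases hz' : z + y = 0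
  · right; left
    rw [hz', add_zero] at h3
    exact eq_neg_of_add_eq_zero_left h3
  have h6 := F.four_le hz
  have h7 := F.four_le hz'
  right; right
  omega

/-- an orthogonal set of nonzero vectors has at most 24 elements -/
theorem card_orth (ι : L →+ E) (hι : Function.Injective ι) (S : Finset L) (h0 : ∀ x ∈ S, x ≠ 0)
    (hS : ∀ x ∈ S, ∀ y ∈ S, x ≠ y → B x y = 0) : S.card ≤ 24 := by
  have h1 : LinearIndependent ℤ (fun s : S => ι (s : L)) := by
    rw [Fintype.linearIndependent_iff]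
    intro g hg t
    have h2 : ι (∑ s : S, g s • (s : L)) = 0 := by
      rw [map_sum, ← hg]
      exact Finset.sum_congr rfl fun s _ => map_zsmul ι _ _
    have h3 : ∑ s : S, g s • (s : L) = 0 := hι (h2.trans (map_zero ι).symm)
    have h4 : B (∑ s : S, g s • (s : L)) (t : L) = g t * B (t : L) (t : L) := by
      rw [map_sum, AddMonoidHom.finsetSum_apply, Finset.sum_eq_single t]
      · rw [map_zsmul, AddMonoidHom.zsmul_apply, smul_eq_mul]
      · intro s _ hst
        rw [map_zsmul, AddMonoidHom.zsmul_apply, hS s s.2 t t.2 (fun h => hst (Subtype.ext h)), smul_zero]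
      · intro h; exact absurd (Finset.mem_univ t) h
    rw [h3, map_zero, AddMonoidHom.zero_apply] at h4
    have h5 := F.pos t (h0 t t.2)
    rcases mul_eq_zero.1 h4.symm with h | h
    · exact h
    · omega
  have h2 := h1.fintype_card_le_finrank
  rw [Module.finrank_fintype_fun_eq_card, card_pt, Fintype.card_coe] at h2
  exact h2

end Ev

/-- twice the group -/
def dblSub (L : Type*) [AddCommGroup L] : AddSubgroup L := (AddMonoidHom.mk' (fun x : L => x + x) (by intro a b; abel)).range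

theorem mem_dblSub {x : L} : x ∈ dblSub L ↔ ∃ z, x = z + z := by
  rw [dblSub, AddMonoidHom.mem_range]
  constructor
  · rintro ⟨z, hz⟩; exact ⟨z, hz.symm⟩
  · rintro ⟨z, hz⟩; exact ⟨z, hz.symm⟩

/-- the class of `x` among the norm 8 vectors -/
def cls (B : L →+ L →+ ℤ) (x : L) : Set L := {y | B y y = 8 ∧ ∃ z, x - y = z + z}

theorem neg_mem_cls {B : L →+ L →+ ℤ} {x y : L} (h : y ∈ cls B x) : -y ∈ cls B x := by
  obtain ⟨h1, z, h2⟩ := h
  refine ⟨?_, z + y, ?_⟩
  · rw [map_neg_neg, h1]
  · have : x = z + z + y := by rw [← h2]; abel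
    rw [this]; abel

theorem cls_sub {B : L →+ L →+ ℤ} {x y y' : L} (h : y ∈ cls B x) (h' : y' ∈ cls B x) : ∃ z, y - y' = z + z := by
  obtain ⟨_, z, h2⟩ := h
  obtain ⟨_, z', h2'⟩ := h'
  refine ⟨z' - z, ?_⟩
  have : y - y' = (x - y') - (x - y) := by abel
  rw [this, h2, h2']; abel

/-- a maximal orthogonal subset -/
theorem exists_orth {B : L →+ L →+ ℤ} (F : Ev B) (ι : L →+ E) (hι : Function.Injective ι) (x : L) :
    ∃ S : Finset L, (∀ y ∈ S, y ∈ cls B x) ∧ (∀ y ∈ S, ∀ y' ∈ S, y ≠ y' → B y y' = 0) ∧ S.card ≤ 24 ∧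
      ∀ y ∈ cls B x, y ∈ S ∨ -y ∈ S := by
  classical
  have h0 : ∀ y ∈ cls B x, y ≠ 0 := by
    rintro y ⟨h, _⟩ rfl
    rw [map_zero_zero] at h
    omega
  let P : ℕ → Prop := fun n => ∃ S : Finset L, S.card = n ∧ (∀ y ∈ S, y ∈ cls B x) ∧
    (∀ y ∈ S, ∀ y' ∈ S, y ≠ y' → B y y' = 0)
  have hP0 : P 0 := ⟨∅, rfl, by simp, by simp⟩
  have hPb : ∀ n, P n → n ≤ 24 := by
    rintro n ⟨S, rfl, h1, h2⟩
    exact F.card_orth ι hι S (fun y hy => h0 y (h1 y hy)) h2
  have hmax : P (Nat.findGreatest P 24) := Nat.findGreatest_spec (Nat.zero_le _) hP0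
  obtain ⟨S, hS, h1, h2⟩ := hmax
  refine ⟨S, h1, h2, hPb _ ⟨S, rfl, h1, h2⟩, fun y hy => ?_⟩
  by_contra hcon
  rw [not_or] at hcon
  have horth : ∀ s ∈ S, B y s = 0 := by
    intro s hs
    obtain ⟨z, hz⟩ := cls_sub hy (h1 s hs)
    rcases F.cong hy.1.le (h1 s hs).1.le hz with h | h | h
    · exact absurd (h ▸ hs) hcon.1
    · exfalso
      apply hcon.2
      rw [h, neg_neg]; exact hs
    · exact h.2.2
  have hP1 : P (S.card + 1) := by
    refine ⟨insert y S, Finset.card_insert_of_notMem hcon.1, ?_, ?_⟩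
    · intro u hu
      rcases Finset.mem_insert.1 hu with rfl | hu
      · exact hy
      · exact h1 u hu
    · intro u hu u' hu' huu
      rcases Finset.mem_insert.1 hu with h | hu1 <;> rcases Finset.mem_insert.1 hu' with h' | hu1'
      · exact absurd (h.trans h'.symm) huu
      · rw [h]; exact horth u' hu1'
      · rw [h', F.symm]; exact horth u hu1
      · exact h2 u hu1 u' hu1' huu
  have h3 := Nat.le_findGreatest (hPb _ hP1) hP1
  omega

theorem cls_finite {B : L →+ L →+ ℤ} (F : Ev B) (ι : L →+ E) (hι : Function.Injective ι) (x : L) :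
    (cls B x).Finite ∧ (cls B x).ncard ≤ 48 := by
  classical
  obtain ⟨S, _, _, h3, h4⟩ := exists_orth F ι hι x
  have hsub : cls B x ⊆ ((S ∪ S.image fun y => -y : Finset L) : Set L) := by
    intro y hy
    rw [Finset.mem_coe, Finset.mem_union, Finset.mem_image]
    rcases h4 y hy with h | h
    · exact Or.inl h
    · exact Or.inr ⟨-y, h, neg_neg y⟩
  refine ⟨Set.Finite.subset (Finset.finite_toSet _) hsub, ?_⟩
  refine (Set.ncard_le_ncard hsub (Finset.finite_toSet _)).trans ?_
  rw [Set.ncard_coe_finset]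
  refine (Finset.card_union_le _ _).trans ?_
  have := Finset.card_image_le (s := S) (f := fun y => -y)
  omega

/-- all the hypotheses -/
structure Hyp (B : L →+ L →+ ℤ) : Prop extends Ev B where
  emb : ∃ ι : L →+ E, Function.Injective ι
  idx : (dblSub L).index = 2 ^ 24
  c4 : {x : L | B x x = 4}.ncard = 196560
  c6 : {x : L | B x x = 6}.ncard = 16773120
  c8 : {x : L | B x x = 8}.ncard = 398034000

section

variable {B : L →+ L →+ ℤ} (H : Hyp B)
include H

theorem counting : (∀ x, B x x = 8 → (cls B x).ncard = 48) ∧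
    (∀ x : L, ∃ y, B y y ≤ 8 ∧ ∃ z, x - y = z + z) := by
  classical
  have F := H.toEv
  obtain ⟨ι, hι⟩ := H.emb
  haveI : Finite (L ⧸ dblSub L) := by
    apply Nat.finite_of_card_ne_zero
    change (dblSub L).index ≠ 0
    rw [H.idx]; norm_num
  haveI : Fintype (L ⧸ dblSub L) := Fintype.ofFinite _
  have hQ : Fintype.card (L ⧸ dblSub L) = 16777216 := by
    rw [← Nat.card_eq_fintype_card]
    change (dblSub L).index = _
    rw [H.idx]; norm_num
  let π : L → L ⧸ dblSub L := fun x => (x : L ⧸ dblSub L)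
  have hπ : ∀ x y, π x = π y ↔ ∃ z, x - y = z + z := by
    intro x y
    change (x : L ⧸ dblSub L) = (y : L ⧸ dblSub L) ↔ _
    rw [QuotientAddGroup.eq, mem_dblSub]
    constructor
    · rintro ⟨z, hz⟩
      refine ⟨-z, ?_⟩
      have : x - y = -(-x + y) := by abel
      rw [this, hz]; abel
    · rintro ⟨z, hz⟩
      refine ⟨-z, ?_⟩
      have : -x + y = -(x - y) := by abel
      rw [this, hz]; abel
  -- the finite sets
  have f4 : {x : L | B x x = 4}.Finite := Set.finite_of_ncard_ne_zero (by rw [H.c4]; norm_num)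
  have f6 : {x : L | B x x = 6}.Finite := Set.finite_of_ncard_ne_zero (by rw [H.c6]; norm_num)
  have f8 : {x : L | B x x = 8}.Finite := Set.finite_of_ncard_ne_zero (by rw [H.c8]; norm_num)
  obtain ⟨S4, hS4⟩ := f4.exists_finset_coe
  obtain ⟨S6, hS6⟩ := f6.exists_finset_coe
  obtain ⟨S8, hS8⟩ := f8.exists_finset_coe
  have m4 : ∀ x, x ∈ S4 ↔ B x x = 4 := fun x => by rw [← Finset.mem_coe, hS4]; rfl
  have m6 : ∀ x, x ∈ S6 ↔ B x x = 6 := fun x => by rw [← Finset.mem_coe, hS6]; rfl
  have m8 : ∀ x, x ∈ S8 ↔ B x x = 8 := fun x => by rw [← Finset.mem_coe, hS8]; rfl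
  have c4 : S4.card = 196560 := by rw [← H.c4, ← hS4, Set.ncard_coe_finset]
  have c6 : S6.card = 16773120 := by rw [← H.c6, ← hS6, Set.ncard_coe_finset]
  have c8 : S8.card = 398034000 := by rw [← H.c8, ← hS8, Set.ncard_coe_finset]
  -- fibres
  have fib : ∀ (S : Finset L) (n : ℤ), n < 8 → (∀ x ∈ S, B x x = n) → S.card ≤ 2 * (S.image π).card := by
    intro S n hn hS
    apply Finset.card_le_mul_card_image
    intro q hq
    obtain ⟨x, hx, rfl⟩ := Finset.mem_image.1 hq
    have hsub : S.filter (fun y => π y = π x) ⊆ {x, -x} := by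
      intro y hy
      rw [Finset.mem_filter, hπ] at hy
      obtain ⟨hy, z, hz⟩ := hy
      rw [Finset.mem_insert, Finset.mem_singleton]
      rcases F.cong (by rw [hS y hy]; omega) (by rw [hS x hx]; omega) hz with h | h | h
      · exact Or.inl h
      · exact Or.inr h
      · have := hS y hy; omega
    exact (Finset.card_le_card hsub).trans Finset.card_le_two
  have i4 := fib S4 4 (by norm_num) (fun x hx => (m4 x).1 hx)
  have i6 := fib S6 6 (by norm_num) (fun x hx => (m6 x).1 hx)
  have fib8 : ∀ x ∈ S8, (S8.filter (fun y => π y = π x) : Set L) = cls B x := by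
    intro x hx
    ext y
    simp only [Finset.coe_filter, Set.mem_setOf_eq, cls]
    rw [m8, ← hπ, eq_comm (a := π y)]
  have hb8 : ∀ q ∈ S8.image π, (S8.filter (fun y => π y = q)).card ≤ 48 := by
    intro q hq
    obtain ⟨x, hx, rfl⟩ := Finset.mem_image.1 hq
    rw [← Set.ncard_coe_finset, fib8 x hx]
    exact (cls_finite F ι hι x).2
  have i8 := Finset.card_le_mul_card_image S8 48 hb8
  -- disjointness
  have dis : ∀ x y, B x x ≤ 8 → B y y ≤ 8 → B x x ≠ B y y → π x ≠ π y := by
    intro x y hx hy hne h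
    rw [hπ] at h
    obtain ⟨z, hz⟩ := h
    rcases F.cong hx hy hz with h | h | h
    · exact hne (by rw [h])
    · apply hne
      rw [h, map_neg_neg]
    · exact hne (by rw [h.1, h.2.1])
  have dj : ∀ (S S' : Finset L), (∀ x ∈ S, ∀ y ∈ S', B x x ≤ 8 ∧ B y y ≤ 8 ∧ B x x ≠ B y y) →
      Disjoint (S.image π) (S'.image π) := by
    intro S S' h
    rw [Finset.disjoint_left]
    intro q hq hq'
    obtain ⟨x, hx, rfl⟩ := Finset.mem_image.1 hq
    obtain ⟨y, hy, h2⟩ := Finset.mem_image.1 hq'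
    obtain ⟨e1, e2, e3⟩ := h x hx y hy
    exact dis x y e1 e2 e3 h2.symm
  have z0 : ∀ x ∈ ({0} : Finset L), B x x = 0 := by
    intro x hx
    rw [Finset.mem_singleton] at hx
    rw [hx, map_zero_zero]
  have d1 : Disjoint (({0} : Finset L).image π) (S4.image π) := dj _ _ fun x hx y hy => by
    rw [z0 x hx, (m4 y).1 hy]; norm_num
  have d2 : Disjoint ((({0} : Finset L).image π) ∪ (S4.image π)) (S6.image π) := by
    rw [Finset.disjoint_union_left]
    exact ⟨dj _ _ fun x hx y hy => by rw [z0 x hx, (m6 y).1 hy]; norm_num,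
      dj _ _ fun x hx y hy => by rw [(m4 x).1 hx, (m6 y).1 hy]; norm_num⟩
  have d3 : Disjoint (((({0} : Finset L).image π) ∪ (S4.image π)) ∪ (S6.image π)) (S8.image π) := by
    rw [Finset.disjoint_union_left, Finset.disjoint_union_left]
    exact ⟨⟨dj _ _ fun x hx y hy => by rw [z0 x hx, (m8 y).1 hy]; norm_num,
      dj _ _ fun x hx y hy => by rw [(m4 x).1 hx, (m8 y).1 hy]; norm_num⟩,
      dj _ _ fun x hx y hy => by rw [(m6 x).1 hx, (m8 y).1 hy]; norm_num⟩
  have hu : ((((({0} : Finset L).image π) ∪ (S4.image π)) ∪ (S6.image π)) ∪ (S8.image π)).card =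
      1 + (S4.image π).card + (S6.image π).card + (S8.image π).card := by
    rw [Finset.card_union_of_disjoint d3, Finset.card_union_of_disjoint d2, Finset.card_union_of_disjoint d1,
      Finset.image_singleton, Finset.card_singleton]
  have hle := Finset.card_le_univ ((((({0} : Finset L).image π) ∪ (S4.image π)) ∪ (S6.image π)) ∪ (S8.image π))
  rw [hu, hQ] at hle
  have e8 : (S8.image π).card = 8292375 := by omega
  have huniv : ((((({0} : Finset L).image π) ∪ (S4.image π)) ∪ (S6.image π)) ∪ (S8.image π)) = Finset.univ := by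
    apply Finset.eq_univ_of_card
    rw [hu, hQ]; omega
  constructor
  · intro x hx
    by_contra hne
    have hxS := (m8 x).2 hx
    have hlt : (S8.filter (fun y => π y = π x)).card < 48 := by
      rw [← Set.ncard_coe_finset, fib8 x hxS]
      exact lt_of_le_of_ne (cls_finite F ι hι x).2 hne
    have h1 := Finset.card_eq_sum_card_image π S8
    have h2 : ∑ q ∈ S8.image π, (S8.filter (fun y => π y = q)).card < ∑ _q ∈ S8.image π, 48 :=
      Finset.sum_lt_sum hb8 ⟨π x, Finset.mem_image_of_mem π hxS, hlt⟩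
    rw [← h1, Finset.sum_const, e8, c8, smul_eq_mul] at h2
    omega
  · intro x
    have hx : π x ∈ ((((({0} : Finset L).image π) ∪ (S4.image π)) ∪ (S6.image π)) ∪ (S8.image π)) := by
      rw [huniv]; exact Finset.mem_univ _
    rw [Finset.mem_union, Finset.mem_union, Finset.mem_union] at hx
    rcases hx with ((hx | hx) | hx) | hx
    · obtain ⟨y, hy, h⟩ := Finset.mem_image.1 hx
      exact ⟨y, by rw [z0 y hy]; norm_num, (hπ _ _).1 h.symm⟩
    · obtain ⟨y, hy, h⟩ := Finset.mem_image.1 hx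
      exact ⟨y, by rw [(m4 y).1 hy]; norm_num, (hπ _ _).1 h.symm⟩
    · obtain ⟨y, hy, h⟩ := Finset.mem_image.1 hx
      exact ⟨y, by rw [(m6 y).1 hy]; norm_num, (hπ _ _).1 h.symm⟩
    · obtain ⟨y, hy, h⟩ := Finset.mem_image.1 hx
      exact ⟨y, by rw [(m8 y).1 hy], (hπ _ _).1 h.symm⟩

/-- the frame of a norm 8 vector -/
theorem exists_frame {x : L} (hx : B x x = 8) : ∃ v : GolayPt → L, (∀ i, B (v i) (v i) = 8) ∧
    (∀ i j, i ≠ j → B (v i) (v j) = 0) ∧ (∀ i j, ∃ z, v i - v j = z + z) ∧ ∃ i, x = v i ∨ x = -v i := by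
  classical
  have F := H.toEv
  obtain ⟨ι, hι⟩ := H.emb
  obtain ⟨S, h1, h2, h3, h4⟩ := exists_orth F ι hι x
  have hsub : cls B x ⊆ ((S ∪ S.image fun y => -y : Finset L) : Set L) := by
    intro y hy
    rw [Finset.mem_coe, Finset.mem_union, Finset.mem_image]
    rcases h4 y hy with h | h
    · exact Or.inl h
    · exact Or.inr ⟨-y, h, neg_neg y⟩
  have h5 := Set.ncard_le_ncard hsub (Finset.finite_toSet _)
  rw [(counting H).1 x hx, Set.ncard_coe_finset] at h5
  have h6 := Finset.card_union_le S (S.image fun y => -y)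
  have h7 := Finset.card_image_le (s := S) (f := fun y => -y)
  have h8 : S.card = 24 := by omega
  have h9 : Fintype.card GolayPt = Fintype.card S := by rw [Fintype.card_coe, h8, card_pt]
  let e : GolayPt ≃ S := Fintype.equivOfCardEq h9
  refine ⟨fun i => (e i : L), fun i => (h1 _ (e i).2).1, fun i j hij => ?_, fun i j => ?_, ?_⟩
  · apply h2 _ (e i).2 _ (e j).2
    intro h
    exact hij (e.injective (Subtype.ext h))
  · exact cls_sub (h1 _ (e i).2) (h1 _ (e j).2)
  · rcases h4 x ⟨hx, 0, by simp⟩ with h | h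
    · exact ⟨e.symm ⟨x, h⟩, Or.inl (by simp)⟩
    · exact ⟨e.symm ⟨-x, h⟩, Or.inr (by simp)⟩

end

end CfsgLib.Frame
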