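import Cfsg.Agent.EqBase
import Mathlib
import Cfsg.Agent.LibGolay
import Cfsg.Agent.LibSteiner

/-!
Uniqueness of small Steiner systems by forced labelling: subsets of `Fin v` are coded by masks
(natural numbers); a kernel computation produces, step by step, a labelling of the points for which
prescribed masks are blocks.
-/

set_option autoImplicit false

namespace CfsgLib.Uniq

open Cfsg CfsgLib.Golay

/-- subset of `Fin v` coded by a mask -/
def fs (v m : ℕ) : Finset (Fin v) := Finset.univ.filter fun i => m.testBit i = true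

@[simp] theorem mem_fs {v m : ℕ} {i : Fin v} : i ∈ fs v m ↔ m.testBit i = true := by simp [fs]

theorem fs_and (v a b : ℕ) : fs v (a &&& b) = fs v a ∩ fs v b := by
  ext p; simp

theorem fs_or (v a b : ℕ) : fs v (a ||| b) = fs v a ∪ fs v b := by
  ext p; simp

theorem fs_xor (v a b : ℕ) : fs v (a ^^^ b) = symmDiff (fs v a) (fs v b) := by
  ext p
  simp only [mem_fs, Finset.mem_symmDiff, Nat.testBit_xor]
  cases a.testBit p <;> cases b.testBit p <;> simp

/-- number of bits below `n` -/
def bc (n m : ℕ) : ℕ := ∑ i ∈ Finset.range n, (m.testBit i).toNat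

theorem card_fs (v m : ℕ) : (fs v m).card = bc v m := by
  rw [fs, Finset.card_filter, bc, Finset.sum_range]
  apply Finset.sum_congr rfl
  intro i _
  cases m.testBit i <;> rfl

theorem bc_succ (n m : ℕ) : bc (n + 1) m = bc n m + (m.testBit n).toNat := by
  rw [bc, Finset.sum_range_succ]; rfl

theorem bc_eq_pop {v m : ℕ} (hv : v ≤ 24) (hm : m < 2 ^ v) : bc v m = pop m := by
  rw [pop_eq, bc]
  apply Finset.sum_subset
  · intro i; simp only [Finset.mem_range]; omega
  · intro i _ hi
    rw [Finset.mem_range, not_lt] at hi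
    rw [Nat.testBit_lt_two_pow (lt_of_lt_of_le hm (Nat.pow_le_pow_right (by norm_num) hi))]
    rfl

/-- the mask of a finite set -/
def mk {v : ℕ} (s : Finset (Fin v)) : ℕ := Nat.ofBits fun i : Fin v => decide (i ∈ s)

theorem mk_lt {v : ℕ} (s : Finset (Fin v)) : mk s < 2 ^ v := Nat.ofBits_lt_two_pow _

@[simp] theorem fs_mk {v : ℕ} (s : Finset (Fin v)) : fs v (mk s) = s := by
  ext p
  rw [mem_fs, mk, Nat.testBit_ofBits_lt _ _ p.2]
  simp

theorem fs_injective {v a b : ℕ} (ha : a < 2 ^ v) (hb : b < 2 ^ v) (h : fs v a = fs v b) : a = b := by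
  apply Nat.eq_of_testBit_eq
  intro i
  by_cases hi : i < v
  · have : (⟨i, hi⟩ : Fin v) ∈ fs v a ↔ (⟨i, hi⟩ : Fin v) ∈ fs v b := by rw [h]
    rw [mem_fs, mem_fs] at this
    rw [Bool.eq_iff_iff]; exact this
  · rw [Nat.testBit_lt_two_pow (lt_of_lt_of_le ha (Nat.pow_le_pow_right (by norm_num) (by omega))),
      Nat.testBit_lt_two_pow (lt_of_lt_of_le hb (Nat.pow_le_pow_right (by norm_num) (by omega)))]

/-- the subset of `α` coded by a mask, relative to a labelling -/
def im {α : Type*} [DecidableEq α] {v : ℕ} (e : Fin v ≃ α) (m : ℕ) : Finset α := (fs v m).image e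

section im
variable {α : Type*} [DecidableEq α] {v : ℕ}

theorem im_and (e : Fin v ≃ α) (a b : ℕ) : im e (a &&& b) = im e a ∩ im e b := by
  rw [im, fs_and, Finset.image_inter _ _ e.injective]; rfl

theorem im_xor (e : Fin v ≃ α) (a b : ℕ) : im e (a ^^^ b) = symmDiff (im e a) (im e b) := by
  rw [im, fs_xor, Finset.image_symmDiff _ _ e.injective]; rfl

theorem card_im (e : Fin v ≃ α) (m : ℕ) : (im e m).card = bc v m := by
  rw [im, Finset.card_image_of_injective _ e.injective, card_fs]

theorem im_injective (e : Fin v ≃ α) {a b : ℕ} (ha : a < 2 ^ v) (hb : b < 2 ^ v) (h : im e a = im e b) :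
    a = b := fs_injective ha hb (Finset.image_injective e.injective h)

theorem exists_mask (e : Fin v ≃ α) (s : Finset α) : ∃ m < 2 ^ v, im e m = s := by
  refine ⟨mk (s.image e.symm), mk_lt _, ?_⟩
  rw [im, fs_mk, Finset.image_image]
  simp

theorem mem_im (e : Fin v ≃ α) {m : ℕ} {i : Fin v} : e i ∈ im e m ↔ m.testBit i = true := by
  rw [im, e.injective.mem_finset_image, mem_fs]

theorem im_subset (e : Fin v ≃ α) {a b : ℕ} (h : im e a ⊆ im e b) (ha : a < 2 ^ v) : a &&& b = a := by
  apply im_injective e (lt_of_le_of_lt Nat.and_le_left ha) ha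
  rw [im_and]
  exact Finset.inter_eq_left.2 h

end im

/-! ### enumeration of masks -/

/-- evaluate the number before applying the function -/
def force (n : ℕ) (f : ℕ → Bool) : Bool := Nat.rec (f 0) (fun m _ => f (Nat.succ m)) n

theorem force_eq (n : ℕ) (f : ℕ → Bool) : force n f = f n := by
  cases n <;> rfl

/-- `P` holds for the masks obtained from `acc` by adding `r` new bits below `n` outside `F` -/
def allC (P : ℕ → Bool) (F : ℕ) : ℕ → ℕ → ℕ → Bool
  | _, 0, acc => P acc
  | 0, _ + 1, _ => true
  | n + 1, r + 1, acc => and (allC P F n (r + 1) acc)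
      (or (Nat.beq (Nat.land (Nat.shiftRight F n) 1) 1) (allC P F n r (Nat.lor acc (Nat.shiftLeft 1 n))))

theorem testBit_eq (a n : ℕ) : Nat.beq (Nat.land (Nat.shiftRight a n) 1) 1 = a.testBit n := by
  rw [Bool.eq_iff_iff, beq_iff]
  have h1 : Nat.land (Nat.shiftRight a n) 1 = (a >>> n) % 2 := Nat.and_one_is_mod _
  rw [h1, Nat.testBit_eq_decide_div_mod_eq, Nat.shiftRight_eq_div_pow]
  simp

theorem allC_spec (P : ℕ → Bool) (F : ℕ) : ∀ (n r acc y : ℕ), allC P F n r acc = true → y < 2 ^ n →
    acc &&& y = 0 → F &&& y = 0 → bc n y = r → P (acc ||| y) = true := by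
  have h0 : ∀ n y, y < 2 ^ n → bc n y = 0 → y = 0 := by
    intro n y hy hb
    apply Nat.eq_of_testBit_eq
    intro i
    rw [Nat.zero_testBit]
    by_cases hi : i < n
    · rw [bc, Finset.sum_eq_zero_iff] at hb
      have := hb i (Finset.mem_range.2 hi)
      cases h : y.testBit i
      · rfl
      · rw [h] at this; exact absurd this (by decide)
    · exact Nat.testBit_lt_two_pow (lt_of_lt_of_le hy (Nat.pow_le_pow_right (by norm_num) (by omega)))
  intro n
  induction n with
  | zero =>
    intro r acc y h hy _ _ hr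
    have hy0 : y = 0 := by omega
    subst hy0
    cases r with
    | zero => rw [Nat.or_zero]; simpa [allC] using h
    | succ r => exfalso; simp [bc] at hr
  | succ n ih =>
    intro r acc y h hy hacc hF hr
    cases r with
    | zero =>
      rw [h0 _ _ hy hr, Nat.or_zero]; simpa [allC] using h
    | succ r =>
      rw [allC, Bool.and_eq_true, Bool.or_eq_true, testBit_eq] at h
      rw [bc_succ] at hr
      cases hb : y.testBit n
      · rw [hb] at hr
        apply ih (r + 1) acc y h.1 _ hacc hF (by simpa using hr)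
        by_contra hlt
        rw [not_lt] at hlt
        have : y.testBit n = true := by
          rw [Nat.testBit_eq_decide_div_mod_eq, decide_eq_true_iff]
          have h1 : y / 2 ^ n = 1 := by
            apply Nat.div_eq_of_lt_le
            · rw [one_mul]; exact hlt
            · rw [pow_succ] at hy; omega
          rw [h1]
        rw [hb] at this; exact absurd this (by decide)
      · rw [hb] at hr
        have hacc' : F.testBit n = false := by
          have := congrArg (fun m => Nat.testBit m n) hF
          simp only [Nat.testBit_and, hb, Nat.zero_testBit, Bool.and_true] at this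
          exact this
        have h2 := h.2
        rw [hacc'] at h2
        have h3 : allC P F n r (acc ||| 2 ^ n) = true := by
          rcases h2 with h2 | h2
          · exact absurd h2 (by decide)
          · rw [← Nat.one_shiftLeft]; exact h2
        have hy' : y = 2 ^ n ||| (y ^^^ 2 ^ n) := by
          apply Nat.eq_of_testBit_eq
          intro i
          rw [Nat.testBit_or, Nat.testBit_xor, Nat.testBit_two_pow]
          by_cases hi : n = i
          · subst hi; simp [hb]
          · simp [hi]
        have hbit : ∀ i, (y ^^^ 2 ^ n).testBit i = (y.testBit i && !decide (n = i)) := by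
          intro i
          rw [Nat.testBit_xor, Nat.testBit_two_pow]
          by_cases hi : n = i
          · subst hi; simp [hb]
          · simp [hi]
        have h4 := ih r (acc ||| 2 ^ n) (y ^^^ 2 ^ n) h3 ?_ ?_ ?_ ?_
        · rw [hy', ← Nat.or_assoc]; exact h4
        · apply Nat.lt_pow_two_of_testBit
          intro i hi
          rw [hbit]
          by_cases hi' : n = i
          · simp [hi']
          · rw [Nat.testBit_lt_two_pow (lt_of_lt_of_le hy (Nat.pow_le_pow_right (by norm_num) (by omega)))]
            rfl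
        · apply Nat.eq_of_testBit_eq
          intro i
          rw [Nat.testBit_and, hbit, Nat.testBit_or, Nat.testBit_two_pow, Nat.zero_testBit]
          have := congrArg (fun m => Nat.testBit m i) hacc
          simp only [Nat.testBit_and, Nat.zero_testBit] at this
          by_cases hi' : n = i
          · simp [hi']
          · simp only [hi', decide_false, Bool.or_false, Bool.not_false, Bool.and_true]
            exact this
        · apply Nat.eq_of_testBit_eq
          intro i
          rw [Nat.testBit_and, hbit, Nat.zero_testBit]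
          have := congrArg (fun m => Nat.testBit m i) hF
          simp only [Nat.testBit_and, Nat.zero_testBit] at this
          rw [← Bool.and_assoc, this, Bool.false_and]
        · have : bc n (y ^^^ 2 ^ n) = bc n y := by
            apply Finset.sum_congr rfl
            intro i hi
            rw [Finset.mem_range] at hi
            rw [hbit, decide_eq_false (by omega)]
            simp
          rw [this]
          simpa using hr

/-! ### permutations coded by lists of pairs -/

/-- image of a mask under the relation coded by a list of pairs -/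
def push : List (ℕ × ℕ) → ℕ → ℕ
  | [], _ => 0
  | (a, b) :: l, m => Nat.xor (Nat.mul (Nat.land (Nat.shiftRight m a) 1) (Nat.shiftLeft 1 b)) (push l m)

/-- xor of the `2 ^ a` for the first components -/
def bits1 : List (ℕ × ℕ) → ℕ
  | [] => 0
  | (a, _) :: l => Nat.lor (Nat.shiftLeft 1 a) (bits1 l)

/-- or of the `2 ^ b` for the second components -/
def bits2 : List (ℕ × ℕ) → ℕ
  | [] => 0
  | (_, b) :: l => Nat.lor (Nat.shiftLeft 1 b) (bits2 l)

/-- the list of pairs codes a permutation of `Fin v` -/
def isPerm (v : ℕ) (l : List (ℕ × ℕ)) : Bool :=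
  and (Nat.beq l.length v) (and (Nat.beq (bits1 l) (2 ^ v - 1)) (Nat.beq (bits2 l) (2 ^ v - 1)))

theorem testBit_bits1 (l : List (ℕ × ℕ)) (j : ℕ) :
    (bits1 l).testBit j = true ↔ j ∈ l.map Prod.fst := by
  induction l with
  | nil => simp [bits1]
  | cons p l ih =>
    obtain ⟨a, b⟩ := p
    have : bits1 ((a, b) :: l) = 2 ^ a ||| bits1 l := by
      rw [← Nat.one_shiftLeft]; rfl
    rw [this, Nat.testBit_or, Bool.or_eq_true, ih, Nat.testBit_two_pow]
    simp [eq_comm]

theorem testBit_bits2 (l : List (ℕ × ℕ)) (j : ℕ) :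
    (bits2 l).testBit j = true ↔ j ∈ l.map Prod.snd := by
  induction l with
  | nil => simp [bits2]
  | cons p l ih =>
    obtain ⟨a, b⟩ := p
    have : bits2 ((a, b) :: l) = 2 ^ b ||| bits2 l := by
      rw [← Nat.one_shiftLeft]; rfl
    rw [this, Nat.testBit_or, Bool.or_eq_true, ih, Nat.testBit_two_pow]
    simp [eq_comm]

theorem nodup_of_cover {v : ℕ} {l : List ℕ} (hl : l.length = v) (h : ∀ j < v, j ∈ l) :
    l.Nodup ∧ ∀ j ∈ l, j < v := by
  have h1 : Finset.range v ⊆ l.toFinset := by
    intro j hj
    rw [List.mem_toFinset]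
    exact h j (Finset.mem_range.1 hj)
  have h2 : l.toFinset.card ≤ v := hl ▸ List.toFinset_card_le l
  have h3 : Finset.range v = l.toFinset := Finset.eq_of_subset_of_card_le h1 (by rw [Finset.card_range]; exact h2)
  constructor
  · rw [← Multiset.coe_nodup, ← Multiset.toFinset_card_eq_card_iff_nodup]
    have : (Multiset.toFinset (l : Multiset ℕ)) = l.toFinset := rfl
    rw [this, ← h3, Finset.card_range, Multiset.coe_card, hl]
  · intro j hj
    rw [← List.mem_toFinset, ← h3, Finset.mem_range] at hj
    exact hj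

theorem testBit_push {l : List (ℕ × ℕ)} (hl : (l.map Prod.snd).Nodup) (m j : ℕ) :
    (push l m).testBit j = true ↔ ∃ a, (a, j) ∈ l ∧ m.testBit a = true := by
  induction l with
  | nil => simp [push]
  | cons p l ih =>
    obtain ⟨a, b⟩ := p
    rw [List.map_cons, List.nodup_cons] at hl
    have h1 : push ((a, b) :: l) m = (((m >>> a) % 2) * 2 ^ b) ^^^ push l m := by
      rw [← Nat.one_shiftLeft, ← Nat.and_one_is_mod]; rfl
    have h2 : ((m >>> a) % 2) = (m.testBit a).toNat := by
      rw [Nat.testBit_eq_decide_div_mod_eq, Nat.shiftRight_eq_div_pow]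
      rcases Nat.mod_two_eq_zero_or_one (m / 2 ^ a) with h | h <;> rw [h] <;> rfl
    have h3 : (((m.testBit a).toNat * 2 ^ b).testBit j = true) ↔ (b = j ∧ m.testBit a = true) := by
      cases hb : m.testBit a
      · simp
      · simp [Nat.testBit_two_pow]
    rw [h1, h2, Nat.testBit_xor]
    by_cases hbj : b = j
    · subst hbj
      have h4 : (push l m).testBit b = false := by
        rw [Bool.eq_false_iff]
        intro h
        obtain ⟨a', ha', _⟩ := (ih hl.2).1 h
        exact hl.1 (List.mem_map.2 ⟨_, ha', rfl⟩)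
      rw [h4, Bool.xor_false, h3]
      constructor
      · rintro ⟨_, h⟩; exact ⟨a, List.mem_cons_self, h⟩
      · rintro ⟨a', ha', h⟩
        rw [List.mem_cons] at ha'
        rcases ha' with ha' | ha'
        · rw [Prod.mk.injEq] at ha'
          rw [← ha'.1]; exact ⟨rfl, h⟩
        · exact absurd (List.mem_map.2 ⟨_, ha', rfl⟩) hl.1
    · have h4 : ((m.testBit a).toNat * 2 ^ b).testBit j = false := by
        rw [Bool.eq_false_iff]
        intro h; exact hbj (h3.1 h).1
      rw [h4, Bool.false_xor, ih hl.2]
      constructor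
      · rintro ⟨a', ha', h⟩; exact ⟨a', List.mem_cons_of_mem _ ha', h⟩
      · rintro ⟨a', ha', h⟩
        rw [List.mem_cons] at ha'
        rcases ha' with ha' | ha'
        · rw [Prod.mk.injEq] at ha'
          exact absurd ha'.2.symm hbj
        · exact ⟨a', ha', h⟩

theorem exists_perm {v : ℕ} {l : List (ℕ × ℕ)} (h : isPerm v l = true) :
    ∃ σ : Equiv.Perm (Fin v), ∀ m, fs v (push l m) = (fs v m).image σ := by
  simp only [isPerm, Bool.and_eq_true, beq_iff] at h
  obtain ⟨hlen, h1, h2⟩ := h
  have ht : ∀ j < v, (2 ^ v - 1).testBit j = true := by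
    intro j hj
    rw [Nat.testBit_two_pow_sub_one]; simpa using hj
  obtain ⟨hn1, hlt1⟩ := nodup_of_cover (v := v) (l := l.map Prod.fst) (by rw [List.length_map, hlen])
    (fun j hj => (testBit_bits1 l j).1 (by rw [h1]; exact ht j hj))
  obtain ⟨hn2, hlt2⟩ := nodup_of_cover (v := v) (l := l.map Prod.snd) (by rw [List.length_map, hlen])
    (fun j hj => (testBit_bits2 l j).1 (by rw [h2]; exact ht j hj))
  have hex : ∀ i : Fin v, ∃ j : Fin v, ((i : ℕ), (j : ℕ)) ∈ l := by
    intro i
    have := (testBit_bits1 l i).1 (by rw [h1]; exact ht i i.2)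
    rw [List.mem_map] at this
    obtain ⟨⟨a, b⟩, hab, hai⟩ := this
    have hai' : a = i := hai
    subst hai'
    exact ⟨⟨b, hlt2 b (List.mem_map.2 ⟨_, hab, rfl⟩)⟩, hab⟩
  choose f hf using hex
  have hinj : Function.Injective f := by
    intro i i' hii
    have e1 := hf i
    have e2 := hf i'
    rw [hii] at e1
    have := List.inj_on_of_nodup_map hn2 e1 e2 rfl
    rw [Prod.mk.injEq] at this
    exact Fin.ext this.1
  have hbij : Function.Bijective f := Finite.injective_iff_bijective.1 hinj
  refine ⟨Equiv.ofBijective f hbij, fun m => ?_⟩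
  ext j
  rw [mem_fs, testBit_push hn2, Finset.mem_image]
  constructor
  · rintro ⟨a, ha, hm⟩
    have ha' : a < v := hlt1 a (List.mem_map.2 ⟨_, ha, rfl⟩)
    refine ⟨⟨a, ha'⟩, mem_fs.2 hm, ?_⟩
    have := List.inj_on_of_nodup_map hn1 ha (hf ⟨a, ha'⟩) rfl
    rw [Prod.mk.injEq] at this
    exact Fin.ext this.2.symm
  · rintro ⟨i, hi, rfl⟩
    exact ⟨i, hf i, mem_fs.1 hi⟩

/-! ### steps -/

/-- membership in a list of numbers -/
def memb (a : ℕ) : List ℕ → Bool
  | [] => false
  | b :: l => or (Nat.beq a b) (memb a l)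

theorem memb_iff {a : ℕ} {l : List ℕ} : memb a l = true ↔ a ∈ l := by
  induction l with
  | nil => simp [memb]
  | cons b l ih => rw [memb, Bool.or_eq_true, beq_iff, ih, List.mem_cons]

/-- `x` is neither in `L` nor compatible with it -/
def failC (al x : ℕ) : List ℕ → Bool
  | [] => false
  | m :: l => or (not (or (Nat.beq (Nat.land (Nat.shiftRight al (pop (Nat.land m x))) 1) 1) (Nat.beq m x)))
      (failC al x l)

/-- the bits of `x` first, within a list -/
def sortCell (x : ℕ) (c : List ℕ) : List ℕ :=
  c.filter (fun i => Nat.beq (Nat.land (Nat.shiftRight x i) 1) 1) ++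
    c.filter (fun i => Nat.beq (Nat.land (Nat.shiftRight x i) 1) 0)

/-- sorting within cells -/
def sortP (x : ℕ) : List (List ℕ) → List (ℕ × ℕ)
  | [] => []
  | c :: l => (c.zip (sortCell x c)) ++ sortP x l

/-- do all members of the first list have images in the second one? -/
def allPush (ps : List (ℕ × ℕ)) (L : List ℕ) : List ℕ → Bool
  | [] => true
  | m :: l => and (memb (push ps m) L) (allPush ps L l)

/-- the list of pairs is a permutation preserving `L` and carrying `o` to `x` -/
def okP (v : ℕ) (L : List ℕ) (o x : ℕ) (ps : List (ℕ × ℕ)) : Bool :=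
  and (Nat.beq (push ps o) x) (and (isPerm v ps) (allPush ps L L))

/-- one of the special relabellings is fine -/
def okSp (v : ℕ) (L : List ℕ) (o x : ℕ) : List (ℕ × List ℕ) → Bool
  | [] => false
  | (y, p) :: l => or (and (Nat.beq x y) (okP v L o x ((List.range v).zip p))) (okSp v L o x l)

/-- the data of a step: the `t`-set, the block, the cells, the special relabellings -/
structure Step where
  /-- the `t`-set -/
  s : ℕ
  /-- the block -/
  o : ℕ
  /-- the cells -/
  cells : List (List ℕ)
  /-- special relabellings -/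
  sp : List (ℕ × List ℕ)

/-- the check for a candidate -/
def candOK (v al : ℕ) (st : Step) (L : List ℕ) (x : ℕ) : Bool :=
  force x fun x => or (Nat.beq x st.o) (or (failC al x L)
    (or (okP v L st.o x (sortP x st.cells)) (okSp v L st.o x st.sp)))

/-- union of `s` with the members of the list meeting it in exactly `t - 1` points -/
def forb (t s : ℕ) : List ℕ → ℕ
  | [] => s
  | m :: l => cond (Nat.beq (Nat.add (pop (Nat.land m s)) 1) t) (Nat.lor m (forb t s l)) (forb t s l)

/-- the check for a step -/
def stepOK (v t r al : ℕ) (st : Step) (L : List ℕ) : Bool :=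
  and (Nat.beq (pop st.s) t) (and (Nat.blt st.s (2 ^ v)) (and (Nat.blt st.o (2 ^ v))
    (force (forb t st.s L) fun F => allC (candOK v al st L) F v r st.s)))

/-- the check for a list of steps -/
def stepsOK (v t r al : ℕ) : List Step → List ℕ → Bool
  | [], _ => true
  | st :: l, L => and (stepOK v t r al st L) (stepsOK v t r al l (st.o :: L))

/-- the final list of masks -/
def final : List Step → List ℕ → List ℕ
  | [], L => L
  | st :: l, L => final l (st.o :: L)

theorem Steiner.eq_of_card_inter' {α : Type*} {t k : ℕ} {B : Set (Finset α)} [DecidableEq α]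
    (hB : IsSteinerSystem t k B) {b c : Finset α} (hb : b ∈ B) (hc : c ∈ B)
    (h : t ≤ (b ∩ c).card) : b = c := by
  obtain ⟨s, hs, hst⟩ := Finset.exists_subset_card_eq h
  obtain ⟨d, _, hd⟩ := hB.2 s hst
  rw [hd b ⟨hb, hs.trans Finset.inter_subset_left⟩, hd c ⟨hc, hs.trans Finset.inter_subset_right⟩]

section main

variable {α : Type*} [DecidableEq α] {v t k al : ℕ} {B : Set (Finset α)}

theorem failC_eq_false {e : Fin v ≃ α} {x : ℕ} (hv : v ≤ 24) (hx : x < 2 ^ v)
    (hal : ∀ b ∈ B, ∀ c ∈ B, b ≠ c → al.testBit (b ∩ c).card = true) (hxB : im e x ∈ B) :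
    ∀ L : List ℕ, (∀ m ∈ L, m < 2 ^ v ∧ im e m ∈ B) → failC al x L = false := by
  intro L
  induction L with
  | nil => intro _; rfl
  | cons m l ih =>
    intro h
    rw [failC, ih (fun m hm => h m (List.mem_cons_of_mem _ hm)), Bool.or_false, testBit_eq, Bool.not_eq_false']
    obtain ⟨h1, h2⟩ := h m List.mem_cons_self
    by_cases hmx : m = x
    · subst hmx
      rw [Nat.beq_refl, Bool.or_true]
    · rw [Bool.or_eq_true]
      left
      have := hal _ h2 _ hxB (fun he => hmx (im_injective e h1 hx he))
      rw [← im_and, card_im, bc_eq_pop hv (lt_of_le_of_lt Nat.and_le_left h1)] at this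
      exact this

theorem allPush_spec {ps : List (ℕ × ℕ)} {L : List ℕ} : ∀ {l : List ℕ}, allPush ps L l = true →
    ∀ m ∈ l, push ps m ∈ L := by
  intro l
  induction l with
  | nil => intro _ m hm; exact absurd hm List.not_mem_nil
  | cons a l ih =>
    intro h m hm
    rw [allPush, Bool.and_eq_true, memb_iff] at h
    rw [List.mem_cons] at hm
    rcases hm with rfl | hm
    · exact h.1
    · exact ih h.2 m hm

theorem okP_spec {L : List ℕ} {o x : ℕ} {ps : List (ℕ × ℕ)} (h : okP v L o x ps = true) (e : Fin v ≃ α)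
    (hL : ∀ m ∈ L, im e m ∈ B) (hxB : im e x ∈ B) :
    ∃ e' : Fin v ≃ α, (∀ m ∈ L, im e' m ∈ B) ∧ im e' o ∈ B := by
  simp only [okP, Bool.and_eq_true, beq_iff] at h
  obtain ⟨h1, h2, h3⟩ := h
  obtain ⟨σ, hσ⟩ := exists_perm h2
  have key : ∀ m, im (σ.trans e) m = im e (push ps m) := by
    intro m
    rw [im, im, hσ, Finset.image_image]
    rfl
  refine ⟨σ.trans e, fun m hm => ?_, ?_⟩
  · rw [key]; exact hL _ (allPush_spec h3 m hm)
  · rw [key, h1]; exact hxB

theorem okSp_spec {L : List ℕ} {o x : ℕ} (e : Fin v ≃ α)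
    (hL : ∀ m ∈ L, im e m ∈ B) (hxB : im e x ∈ B) : ∀ {sp : List (ℕ × List ℕ)}, okSp v L o x sp = true →
    ∃ e' : Fin v ≃ α, (∀ m ∈ L, im e' m ∈ B) ∧ im e' o ∈ B := by
  intro sp
  induction sp with
  | nil => intro h; exact absurd h Bool.false_ne_true
  | cons p l ih =>
    obtain ⟨y, p⟩ := p
    intro h
    rw [okSp, Bool.or_eq_true, Bool.and_eq_true] at h
    rcases h with h | h
    · exact okP_spec h.2 e hL hxB
    · exact ih h

theorem forb_spec {s : ℕ} {e : Fin v ≃ α} {x : ℕ} (hv : v ≤ 24) (hx : x < 2 ^ v) (hs : s &&& x = s)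
    (hst : bc v s = t) (hB : IsSteinerSystem t k B) (hxB : im e x ∈ B) :
    ∀ L : List ℕ, (∀ m ∈ L, m < 2 ^ v ∧ im e m ∈ B) → forb t s L &&& (x ^^^ s) = 0 := by
  have hs1 : ∀ i, s.testBit i = true → x.testBit i = true := by
    intro i hi
    have := congrArg (fun m => Nat.testBit m i) hs
    simp only [Nat.testBit_and, hi, Bool.true_and] at this
    exact this
  have hs2 : s < 2 ^ v := by rw [← hs]; exact lt_of_le_of_lt Nat.and_le_right hx
  have h0 : s &&& (x ^^^ s) = 0 := by
    apply Nat.eq_of_testBit_eq
    intro i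
    rw [Nat.testBit_and, Nat.testBit_xor, Nat.zero_testBit]
    have := hs1 i
    cases h5 : x.testBit i <;> cases h6 : s.testBit i <;> simp [h5, h6] at this ⊢
  intro L
  induction L with
  | nil => intro _; exact h0
  | cons m l ih =>
    intro h
    have ih' := ih (fun m hm => h m (List.mem_cons_of_mem _ hm))
    obtain ⟨h1, h2⟩ := h m List.mem_cons_self
    rw [forb]
    cases hc : Nat.beq (Nat.add (pop (Nat.land m s)) 1) t
    · exact ih'
    · rw [beq_iff] at hc
      have hms : bc v (m &&& s) + 1 = t := by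
        rw [bc_eq_pop hv (lt_of_le_of_lt Nat.and_le_left h1)]; exact hc
      have h3 : m &&& (x ^^^ s) = 0 := by
        by_contra hne
        obtain ⟨i, hi⟩ := Nat.exists_testBit_of_ne_zero hne
        rw [Nat.testBit_and, Nat.testBit_xor, Bool.and_eq_true] at hi
        have hiv : i < v := by
          by_contra hiv
          rw [Nat.testBit_lt_two_pow (lt_of_lt_of_le h1 (Nat.pow_le_pow_right (by norm_num) (by omega)))] at hi
          exact absurd hi.1 (by decide)
        have hxi : x.testBit i = true ∧ s.testBit i = false := by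
          have := hs1 i
          cases h5 : x.testBit i <;> cases h6 : s.testBit i <;> simp [h5, h6] at this hi ⊢
        -- the blocks `m` and `x` share `t` points
        have h4 : t ≤ (im e m ∩ im e x).card := by
          rw [← im_and, card_im, ← hms, ← card_fs, ← card_fs]
          have : insert (⟨i, hiv⟩ : Fin v) (fs v (m &&& s)) ⊆ fs v (m &&& x) := by
            intro j hj
            rw [Finset.mem_insert] at hj
            rw [mem_fs, Nat.testBit_and, Bool.and_eq_true]
            rcases hj with rfl | hj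
            · exact ⟨hi.1, hxi.1⟩
            · rw [mem_fs, Nat.testBit_and, Bool.and_eq_true] at hj
              exact ⟨hj.1, hs1 _ hj.2⟩
          have h5 := Finset.card_le_card this
          rw [Finset.card_insert_of_notMem] at h5
          · exact h5
          · rw [mem_fs, Nat.testBit_and, hxi.2, Bool.and_false]
            exact Bool.false_ne_true
        have h5 := Steiner.eq_of_card_inter' hB h2 hxB h4
        have h6 := im_injective e h1 hx h5
        subst h6
        have h7 : m &&& s = s := by rw [Nat.and_comm]; exact hs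
        rw [h7, hst] at hms
        omega
      have h4 : Nat.lor m (forb t s l) &&& (x ^^^ s) = (m &&& (x ^^^ s)) ||| (forb t s l &&& (x ^^^ s)) :=
        Nat.and_or_distrib_right _ _ _
      rw [cond_true, h4, h3, ih', Nat.or_zero]

theorem step_spec {st : Step} {L : List ℕ} (hv : v ≤ 24) (htk : t ≤ k) (hB : IsSteinerSystem t k B)
    (hal : ∀ b ∈ B, ∀ c ∈ B, b ≠ c → al.testBit (b ∩ c).card = true)
    (hst : stepOK v t (k - t) al st L = true) {e : Fin v ≃ α}
    (hL : ∀ m ∈ L, m < 2 ^ v ∧ im e m ∈ B) :
    ∃ e' : Fin v ≃ α, ∀ m ∈ st.o :: L, m < 2 ^ v ∧ im e' m ∈ B := by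
  simp only [stepOK, Bool.and_eq_true, beq_iff, Nat.blt_eq] at hst
  obtain ⟨h1, h2, h3, h4⟩ := hst
  rw [force_eq] at h4
  obtain ⟨b, ⟨hb, hsb⟩, -⟩ := hB.2 (im e st.s) (by rw [card_im, bc_eq_pop hv h2, h1])
  obtain ⟨x, hx, rfl⟩ := exists_mask e b
  have hsx := im_subset e hsb h2
  have hxk : bc v x = k := by rw [← card_im e]; exact hB.1 _ hb
  have hsv : bc v st.s = t := by rw [bc_eq_pop hv h2, h1]
  -- the new bits
  have hor : st.s ||| (x ^^^ st.s) = x := by
    apply Nat.eq_of_testBit_eq
    intro i
    have := congrArg (fun m => Nat.testBit m i) hsx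
    simp only [Nat.testBit_and] at this
    rw [Nat.testBit_or, Nat.testBit_xor]
    cases h5 : x.testBit i <;> cases h6 : st.s.testBit i <;> simp [h5, h6] at this ⊢
  have hand : st.s &&& (x ^^^ st.s) = 0 := by
    apply Nat.eq_of_testBit_eq
    intro i
    have := congrArg (fun m => Nat.testBit m i) hsx
    simp only [Nat.testBit_and] at this
    rw [Nat.testBit_and, Nat.testBit_xor, Nat.zero_testBit]
    cases h5 : x.testBit i <;> cases h6 : st.s.testBit i <;> simp [h5, h6] at this ⊢
  have hbc : bc v (x ^^^ st.s) = k - t := by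
    have h7 : bc v x = bc v st.s + bc v (x ^^^ st.s) := by
      rw [bc, bc, bc, ← Finset.sum_add_distrib]
      apply Finset.sum_congr rfl
      intro i _
      have := congrArg (fun m => Nat.testBit m i) hsx
      simp only [Nat.testBit_and] at this
      rw [Nat.testBit_xor]
      cases h5 : x.testBit i <;> cases h6 : st.s.testBit i <;> simp [h5, h6] at this ⊢
    omega
  have hP := allC_spec _ _ v (k - t) st.s (x ^^^ st.s) h4 (Nat.xor_lt_two_pow hx h2) hand
    (forb_spec hv hx hsx hsv hB hb L hL) hbc
  rw [hor] at hP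
  have hfail := failC_eq_false (al := al) hv hx hal hb L hL
  rw [candOK, force_eq, hfail, Bool.false_or, Bool.or_eq_true, Bool.or_eq_true, beq_iff] at hP
  have hfin : ∃ e' : Fin v ≃ α, (∀ m ∈ L, im e' m ∈ B) ∧ im e' st.o ∈ B := by
    rcases hP with hP | hP | hP
    · subst hP
      exact ⟨e, fun m hm => (hL m hm).2, hb⟩
    · exact okP_spec hP e (fun m hm => (hL m hm).2) hb
    · exact okSp_spec e (fun m hm => (hL m hm).2) hb hP
  obtain ⟨e', h5, h6⟩ := hfin
  refine ⟨e', fun m hm => ?_⟩
  rw [List.mem_cons] at hm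
  rcases hm with rfl | hm
  · exact ⟨h3, h6⟩
  · exact ⟨(hL m hm).1, h5 m hm⟩

theorem steps_spec (hv : v ≤ 24) (htk : t ≤ k) (hB : IsSteinerSystem t k B)
    (hal : ∀ b ∈ B, ∀ c ∈ B, b ≠ c → al.testBit (b ∩ c).card = true) :
    ∀ (sts : List Step) (L : List ℕ), stepsOK v t (k - t) al sts L = true → ∀ e : Fin v ≃ α,
    (∀ m ∈ L, m < 2 ^ v ∧ im e m ∈ B) →
    ∃ e' : Fin v ≃ α, ∀ m ∈ final sts L, m < 2 ^ v ∧ im e' m ∈ B := by
  intro sts
  induction sts with
  | nil => intro L _ e hL; exact ⟨e, hL⟩
  | cons st l ih =>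
    intro L h e hL
    rw [stepsOK, Bool.and_eq_true] at h
    obtain ⟨e', he'⟩ := step_spec hv htk hB hal h.1 hL
    exact ih _ h.2 e' he'

end main

/-! ### closure under symmetric differences -/

/-- no repetition -/
def nodupB : List ℕ → Bool
  | [] => true
  | a :: l => and (not (memb a l)) (nodupB l)

theorem nodupB_spec {l : List ℕ} (h : nodupB l = true) : l.Nodup := by
  induction l with
  | nil => exact List.nodup_nil
  | cons a l ih =>
    rw [nodupB, Bool.and_eq_true, Bool.not_eq_true'] at h
    rw [List.nodup_cons]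
    exact ⟨fun ha => by rw [memb_iff.2 ha] at h; exact absurd h.1 (by decide), ih h.2⟩

/-- check of a list of triples `(a, b, a ^^^ b)` with `a`, `b` blocks meeting in four points -/
def closeOK : List (ℕ × ℕ × ℕ) → List ℕ → Bool
  | [], _ => true
  | (a, b, c) :: l, G => and (memb a G) (and (memb b G) (and (Nat.beq (pop (Nat.land a b)) 4)
      (and (Nat.beq (Nat.xor a b) c) (closeOK l (c :: G)))))

/-- the list after adding the triples -/
def closeFin : List (ℕ × ℕ × ℕ) → List ℕ → List ℕ
  | [], G => G
  | (_, _, c) :: l, G => closeFin l (c :: G)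

/-- walk: `(0, _)` steps back, `(g, m)` with `g ≠ 0` adds the member `g` of `G` to the current mask -/
def walkOK (G : List ℕ) : List (ℕ × ℕ) → List ℕ → Bool
  | [], _ => true
  | (0, _) :: l, st => walkOK G l st.tail
  | (g + 1, m) :: l, st => and (memb (g + 1) G) (and (Nat.beq (pop (Nat.land (st.headD 0) (g + 1))) 4)
      (and (Nat.beq (Nat.xor (st.headD 0) (g + 1)) m) (walkOK G l (m :: st))))

/-- the masks met on the walk -/
def walkMasks : List (ℕ × ℕ) → List ℕ
  | [] => []
  | (0, _) :: l => walkMasks l
  | (_ + 1, m) :: l => m :: walkMasks l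

section close

variable {α : Type*} [DecidableEq α] {v : ℕ} {B : Set (Finset α)} {e : Fin v ≃ α}

theorem closeOK_spec (hv : v ≤ 24) (hB : ∀ b ∈ B, ∀ c ∈ B, (b ∩ c).card = 4 → symmDiff b c ∈ B) :
    ∀ (l : List (ℕ × ℕ × ℕ)) (G : List ℕ), closeOK l G = true → (∀ m ∈ G, m < 2 ^ v ∧ im e m ∈ B) →
    ∀ m ∈ closeFin l G, m < 2 ^ v ∧ im e m ∈ B := by
  intro l
  induction l with
  | nil => intro G _ hG; exact hG
  | cons p l ih =>
    obtain ⟨a, b, c⟩ := p
    intro G h hG
    simp only [closeOK, Bool.and_eq_true, beq_iff, memb_iff] at h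
    obtain ⟨h1, h2, h3, h4, h5⟩ := h
    apply ih _ h5
    intro m hm
    rw [List.mem_cons] at hm
    rcases hm with rfl | hm
    · rw [← h4]
      refine ⟨Nat.xor_lt_two_pow (hG a h1).1 (hG b h2).1, ?_⟩
      have : im e (Nat.xor a b) = symmDiff (im e a) (im e b) := im_xor e a b
      rw [this]
      apply hB _ (hG a h1).2 _ (hG b h2).2
      rw [← im_and, card_im, bc_eq_pop hv (lt_of_le_of_lt Nat.and_le_left (hG a h1).1)]
      exact h3
    · exact hG m hm

theorem walkOK_spec (hv : v ≤ 24) (hB : ∀ b ∈ B, ∀ c ∈ B, (b ∩ c).card = 4 → symmDiff b c ∈ B)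
    {G : List ℕ} (hG : ∀ m ∈ G, m < 2 ^ v ∧ im e m ∈ B) :
    ∀ (l : List (ℕ × ℕ)) (st : List ℕ), walkOK G l st = true →
    (∀ m ∈ st, m < 2 ^ v ∧ im e m ∈ B) → ∀ m ∈ walkMasks l, m < 2 ^ v ∧ im e m ∈ B := by
  intro l
  induction l with
  | nil => intro st _ _ m hm; exact absurd hm List.not_mem_nil
  | cons p l ih =>
    obtain ⟨g, c⟩ := p
    intro st h hst
    cases g with
    | zero =>
      rw [walkOK] at h
      exact ih _ h (fun m hm => hst m (List.mem_of_mem_tail hm))
    | succ g =>
      rw [walkOK, Bool.and_eq_true, Bool.and_eq_true, Bool.and_eq_true, beq_iff, beq_iff, memb_iff] at h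
      obtain ⟨h1, h2, h3, h4⟩ := h
      cases st with
      | nil =>
        exfalso
        have : pop (Nat.land (([] : List ℕ).headD 0) (g + 1)) = 0 := by
          have : Nat.land (([] : List ℕ).headD 0) (g + 1) = 0 := Nat.zero_and _
          rw [this]; decide
        omega
      | cons a st =>
        have ha := hst a List.mem_cons_self
        have h5 : c < 2 ^ v ∧ im e c ∈ B := by
          rw [← h3]
          refine ⟨Nat.xor_lt_two_pow ha.1 (hG _ h1).1, ?_⟩
          have : im e (Nat.xor a (g + 1)) = symmDiff (im e a) (im e (g + 1)) := im_xor e a (g + 1)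
          change im e (Nat.xor a (g + 1)) ∈ B
          rw [this]
          apply hB _ ha.2 _ (hG _ h1).2
          rw [← im_and, card_im, bc_eq_pop hv (lt_of_le_of_lt Nat.and_le_left ha.1)]
          exact h2
        intro m hm
        rw [walkMasks, List.mem_cons] at hm
        rcases hm with rfl | hm
        · exact h5
        · refine ih _ h4 ?_ m hm
          intro m' hm'
          rw [List.mem_cons] at hm'
          rcases hm' with rfl | hm'
          · exact h5
          · exact hst m' hm'

end close

/-! ### conclusion -/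

theorem image_eq_of_final {α : Type*} [Fintype α] [DecidableEq α] {v : ℕ} {B : Set (Finset α)}
    {e : Fin v ≃ α} {L : List ℕ} (hL : ∀ m ∈ L, m < 2 ^ v ∧ im e m ∈ B) (hnd : L.Nodup)
    (hcard : B.ncard ≤ L.length) : B = (fun m => im e m) '' {m | m ∈ L} := by
  symm
  apply Set.eq_of_subset_of_ncard_le
  · rintro _ ⟨m, hm, rfl⟩
    exact (hL m hm).2
  · rw [Set.InjOn.ncard_image]
    · have : {m | m ∈ L} = (L.toFinset : Set ℕ) := by ext; simp
      rw [this, Set.ncard_coe_finset, List.toFinset_card_of_nodup hnd]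
      exact hcard
    · intro a ha b hb h
      exact im_injective e (hL a ha).1 (hL b hb).1 h
  · exact Set.toFinite _

theorem iso_of_images {α β : Type*} [DecidableEq α] [DecidableEq β] {v : ℕ} {B : Set (Finset α)}
    {B' : Set (Finset β)} {S : Set ℕ} {e : Fin v ≃ α} {e' : Fin v ≃ β} (h : B = (fun m => im e m) '' S)
    (h' : B' = (fun m => im e' m) '' S) : SetSystemIso B B' := by
  refine ⟨e.symm.trans e', ?_⟩
  rw [h, h', Set.image_image]
  apply Set.image_congr
  intro m _
  rw [im, im, Finset.image_image]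
  congr 1
  funext i
  simp

theorem SetSystemIso.symm' {α β : Type*} [DecidableEq α] [DecidableEq β] {B : Set (Finset α)}
    {B' : Set (Finset β)} (h : SetSystemIso B B') : SetSystemIso B' B := by
  obtain ⟨e, he⟩ := h
  refine ⟨e.symm, ?_⟩
  rw [← he, Set.image_image]
  simp [Finset.image_image]

theorem SetSystemIso.trans' {α β γ : Type*} [DecidableEq β] [DecidableEq γ] {B : Set (Finset α)}
    {B' : Set (Finset β)} {B'' : Set (Finset γ)} (h : SetSystemIso B B') (h' : SetSystemIso B' B'') :
    SetSystemIso B B'' := by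
  obtain ⟨e, he⟩ := h
  obtain ⟨e', he'⟩ := h'
  refine ⟨e.trans e', ?_⟩
  rw [← he', ← he, Set.image_image]
  apply Set.image_congr
  intro m _
  rw [Finset.image_image]
  rfl

end CfsgLib.Uniq
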