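import Cfsg.Agent.EqBase
import Mathlib
import Cfsg.Agent.LibUniq

/-!
Data for the uniqueness of the Steiner system S(4, 5, 11).
-/

set_option autoImplicit false
set_option maxRecDepth 100000

namespace CfsgLib.Uniq

open Cfsg CfsgLib.Golay

/-- steps -/
def steps11_0 : List Step := [
  ⟨519, 527, [[9, 0, 1, 2, 3, 10, 4, 6, 7, 5, 8]], []⟩,
  ⟨1545, 1555, [[9, 0, 1, 2, 3], [10, 4, 6, 7, 5, 8]], []⟩,
  ⟨643, 707, [[9, 0, 1], [2, 3], [10, 4], [6, 7, 5, 8]], []⟩,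
  ⟨547, 803, [], []⟩,
  ⟨582, 613, [[9, 0, 1], [2, 3], [10, 4], [6, 7], [5, 8]], [(1606, [1, 0, 2, 3, 8, 6, 10, 4, 7, 9, 5]), (598, [1, 0, 2, 3, 8, 6, 4, 10, 7, 9, 5])]⟩,
  ⟨561, 1697, [[9, 0], [1], [2], [3], [10, 4], [6], [7], [5], [8]], [(569, [0, 1, 6, 7, 10, 5, 2, 3, 8, 9, 4])]⟩,
  ⟨553, 569, [], []⟩,
  ⟨649, 905, [], []⟩,
  ⟨1545, 1609, [], []⟩,
  ⟨645, 661, [], []⟩,
  ⟨1541, 1797, [], []⟩,
  ⟨593, 849, [], []⟩,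
  ⟨197, 964, [[9, 0], [1], [2], [3], [10], [4], [6], [7], [5], [8]], [(205, [9, 10, 2, 8, 1, 5, 6, 3, 7, 0, 4]), (1221, [9, 1, 2, 3, 5, 4, 7, 6, 10, 0, 8])]⟩,
  ⟨588, 604, [], []⟩,
  ⟨780, 812, [], []⟩,
  ⟨840, 842, [], []⟩,
  ⟨712, 744, [], []⟩,
  ⟨1856, 1888, [], []⟩,
  ⟨554, 1578, [], []⟩,
  ⟨594, 626, [], []⟩,
  ⟨582, 1606, [], []⟩,
  ⟨1548, 1676, [], []⟩,
  ⟨1556, 1588, [], []⟩,
  ⟨1616, 1744, [], []⟩,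
  ⟨646, 678, [], []⟩,
  ⟨688, 944, [], []⟩,
  ⟨538, 666, [], []⟩,
  ⟨1666, 1922, [], []⟩,
  ⟨1560, 1816, [], []⟩,
  ⟨534, 790, [], []⟩,
  ⟨1031, 1159, [], [(1063, [0, 2, 1, 3, 8, 7, 6, 5, 4, 9, 10])]⟩,
  ⟨1062, 1318, [], []⟩,
  ⟨263, 327, [], []⟩,
  ⟨270, 398, [], []⟩,
  ⟨1035, 1291, [], []⟩,
  ⟨1292, 1356, [], []⟩,
  ⟨1038, 1054, [], []⟩,
  ⟨1106, 1362, [], []⟩,
  ⟨1098, 1226, [], []⟩,
  ⟨1217, 1473, [], []⟩,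
  ⟨1091, 1123, [], []⟩,
  ⟨78, 110, [], []⟩,
  ⟨226, 482, [], []⟩,
  ⟨1220, 1252, [], []⟩,
  ⟨86, 214, [], []⟩,
  ⟨1170, 1202, [], []⟩,
  ⟨1172, 1428, [], []⟩,
  ⟨147, 403, [], []⟩,
  ⟨1192, 1448, [], []⟩,
  ⟨216, 472, [], []⟩]

/-- steps -/
def steps11_1 : List Step := [
  ⟨58, 314, [], []⟩,
  ⟨116, 372, [], []⟩,
  ⟨1112, 1144, [], []⟩,
  ⟨156, 188, [], []⟩,
  ⟨139, 171, [], []⟩,
  ⟨27, 91, [], []⟩,
  ⟨1049, 1177, [], []⟩,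
  ⟨105, 361, [], []⟩,
  ⟨77, 205, [], []⟩,
  ⟨209, 241, [], []⟩,
  ⟨165, 421, [], []⟩,
  ⟨23, 55, [], []⟩,
  ⟨29, 285, [], []⟩,
  ⟨1037, 1069, [], []⟩,
  ⟨1073, 1329, [], []⟩,
  ⟨1045, 1109, [], []⟩]

/-- all the steps -/
def steps11 : List Step := steps11_0 ++ (steps11_1)

theorem steps11_ok : stepsOK 11 4 1 14 steps11 [] = true := by decide +kernel

/-- the blocks -/
def V11 : List ℕ := [1109, 1329, 1069, 285, 55, 421, 241, 205, 361, 1177, 91, 171, 188, 1144, 372, 314, 472, 1448, 403, 1428, 1202, 214, 1252, 482, 110, 1123, 1473, 1226, 1362, 1054, 1356, 1291, 398, 327, 1318, 1159, 790, 1816, 1922, 666, 944, 678, 1744, 1588, 1676, 1606, 626, 1578, 1888, 744, 842, 812, 604, 964, 849, 1797, 661, 1609, 905, 569, 1697, 613, 803, 707, 1555, 527]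

theorem V11_eq : final steps11 [] = V11 := by decide +kernel

theorem V11_nodup : V11.Nodup := nodupB_spec (by decide +kernel)

theorem V11_length : V11.length = 66 := by decide +kernel

end CfsgLib.Uniq
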