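import Cfsg.Agent.EqBase
import Mathlib
import Cfsg.Agent.LibUniq

/-!
Data for the uniqueness of the Steiner system S(5, 6, 12).
-/

set_option autoImplicit false
set_option maxRecDepth 100000

namespace CfsgLib.Uniq

open Cfsg CfsgLib.Golay

/-- steps -/
def steps12_0 : List Step := [
  ⟨155, 159, [[0, 7, 1, 3, 4, 2, 9, 10, 5, 11, 6, 8]], []⟩,
  ⟨2189, 1675, [[0, 7, 1, 3, 4, 2], [9, 10, 5, 11, 6, 8]], []⟩,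
  ⟨171, 2219, [[0, 7, 1, 3], [4, 2], [9, 10], [5, 11, 6, 8]], []⟩,
  ⟨203, 459, [], []⟩,
  ⟨653, 691, [[0, 7, 1, 3], [4, 2], [9, 10], [5, 11], [6, 8]], [(717, [0, 3, 4, 1, 2, 6, 5, 7, 11, 9, 10, 8]), (909, [0, 3, 4, 1, 2, 8, 5, 7, 11, 9, 10, 6])]⟩,
  ⟨227, 231, [], [(1251, [0, 1, 10, 3, 9, 5, 6, 7, 8, 4, 2, 11])]⟩,
  ⟨707, 2755, [], []⟩,
  ⟨211, 1235, [], []⟩,
  ⟨2195, 2451, [], []⟩,
  ⟨1187, 1443, [], []⟩,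
  ⟨647, 903, [], []⟩,
  ⟨1159, 3207, [], []⟩,
  ⟨3139, 3521, [[0, 7, 1], [3], [4], [2], [9], [10], [5], [11], [6], [8]], [(3147, [0, 7, 8, 2, 9, 5, 10, 1, 11, 4, 3, 6]), (3171, [0, 7, 4, 3, 2, 8, 11, 1, 5, 9, 10, 6])]⟩,
  ⟨2273, 2289, [], []⟩,
  ⟨3209, 3225, [], []⟩,
  ⟨2249, 2253, [], []⟩,
  ⟨1225, 1257, [], []⟩,
  ⟨217, 729, [], []⟩,
  ⟨1165, 1421, [], []⟩,
  ⟨2697, 2953, [], []⟩,
  ⟨185, 441, [], []⟩,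
  ⟨421, 2469, [], []⟩,
  ⟨737, 993, [], []⟩,
  ⟨213, 469, [], []⟩,
  ⟨913, 1937, [], []⟩,
  ⟨1173, 1205, [], []⟩,
  ⟨653, 685, [], []⟩,
  ⟨1697, 3745, [], []⟩,
  ⟨1669, 1733, [], []⟩,
  ⟨661, 2709, [], []⟩,
  ⟨1577, 1833, [], [(1593, [0, 1, 8, 4, 11, 3, 6, 7, 10, 5, 9, 2])]⟩,
  ⟨1609, 3657, [], []⟩,
  ⟨3589, 3845, [], []⟩,
  ⟨3083, 3339, [], []⟩,
  ⟨3085, 3117, [], []⟩,
  ⟨1561, 1565, [], []⟩,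
  ⟨2063, 2575, [], []⟩,
  ⟨1543, 1575, [], []⟩,
  ⟨1555, 3603, [], []⟩,
  ⟨1039, 1103, [], []⟩,
  ⟨1603, 1859, [], []⟩,
  ⟨2595, 2851, [], []⟩,
  ⟨3107, 3171, [], []⟩,
  ⟨1051, 1083, [], []⟩,
  ⟨555, 619, [], []⟩,
  ⟨569, 2617, [], []⟩,
  ⟨1585, 1649, [], []⟩,
  ⟨2597, 2661, [], []⟩,
  ⟨3121, 3377, [], []⟩,
  ⟨3093, 3157, [], []⟩]

/-- steps -/
def steps12_1 : List Step := [
  ⟨55, 2103, [], []⟩,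
  ⟨1125, 1381, [], []⟩,
  ⟨1047, 1303, [], []⟩,
  ⟨565, 821, [], []⟩,
  ⟨535, 599, [], []⟩,
  ⟨539, 795, [], []⟩,
  ⟨47, 303, [], []⟩,
  ⟨115, 371, [], []⟩,
  ⟨61, 125, [], []⟩,
  ⟨589, 845, [], []⟩,
  ⟨2119, 2375, [], []⟩,
  ⟨2153, 2409, [], []⟩,
  ⟨2077, 2333, [], []⟩,
  ⟨1113, 1369, [], []⟩,
  ⟨2075, 2139, [], []⟩,
  ⟨2641, 2897, [], []⟩,
  ⟨668, 924, [], []⟩,
  ⟨662, 1686, [], []⟩,
  ⟨1180, 1244, [], []⟩,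
  ⟨3220, 3476, [], []⟩,
  ⟨1178, 1434, [], []⟩,
  ⟨182, 438, [], []⟩,
  ⟨1084, 1340, [], []⟩,
  ⟨1620, 1876, [], []⟩,
  ⟨1222, 1478, [], []⟩,
  ⟨1264, 1520, [], []⟩,
  ⟨1700, 1956, [], []⟩,
  ⟨1586, 1842, [], []⟩,
  ⟨722, 978, [], []⟩,
  ⟨1736, 1992, [], []⟩,
  ⟨1688, 1720, [], []⟩,
  ⟨1550, 1806, [], []⟩,
  ⟨682, 938, [], []⟩,
  ⟨3714, 3970, [], []⟩,
  ⟨1698, 1762, [], []⟩,
  ⟨1166, 1198, [], []⟩,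
  ⟨1078, 1142, [], []⟩,
  ⟨1202, 3250, [], []⟩,
  ⟨3728, 3792, [], []⟩,
  ⟨692, 756, [], []⟩,
  ⟨2736, 2992, [], []⟩,
  ⟨1588, 3636, [], []⟩,
  ⟨3608, 3864, [], []⟩,
  ⟨3240, 3496, [], []⟩,
  ⟨1676, 3724, [], []⟩,
  ⟨3236, 3300, [], []⟩,
  ⟨3110, 3366, [], []⟩,
  ⟨1580, 1644, [], []⟩,
  ⟨3680, 3936, [], []⟩,
  ⟨1130, 1386, [], []⟩]

/-- steps -/
def steps12_2 : List Step := [
  ⟨1578, 3626, [], []⟩,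
  ⟨1562, 1626, [], []⟩,
  ⟨632, 888, [], []⟩,
  ⟨3128, 3192, [], []⟩,
  ⟨3154, 3410, [], []⟩,
  ⟨3148, 3404, [], []⟩,
  ⟨3590, 3654, [], []⟩,
  ⟨1054, 3102, [], []⟩,
  ⟨3210, 3274, [], []⟩,
  ⟨186, 250, [], []⟩,
  ⟨236, 492, [], []⟩,
  ⟨2264, 2520, [], []⟩,
  ⟨2728, 2792, [], []⟩,
  ⟨188, 2236, [], []⟩,
  ⟨666, 2714, [], []⟩,
  ⟨542, 574, [], []⟩,
  ⟨2106, 2362, [], []⟩,
  ⟨2274, 2530, [], []⟩,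
  ⟨2610, 2674, [], []⟩,
  ⟨2164, 2420, [], []⟩,
  ⟨2588, 2652, [], []⟩,
  ⟨2198, 2262, [], []⟩,
  ⟨94, 350, [], []⟩,
  ⟨2582, 2838, [], []⟩,
  ⟨614, 870, [], []⟩,
  ⟨678, 2726, [], []⟩,
  ⟨2604, 2860, [], []⟩,
  ⟨2756, 3012, [], []⟩,
  ⟨2634, 2890, [], []⟩,
  ⟨654, 718, [], []⟩,
  ⟨2190, 2446, [], []⟩,
  ⟨2094, 2158, [], []⟩]

/-- all the steps -/
def steps12 : List Step := steps12_0 ++ (steps12_1 ++ (steps12_2))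

theorem steps12_ok : stepsOK 12 5 1 29 steps12 [] = true := by decide +kernel

/-- the blocks -/
def V12 : List ℕ := [2158, 2446, 718, 2890, 3012, 2860, 2726, 870, 2838, 350, 2262, 2652, 2420, 2674, 2530, 2362, 574, 2714, 2236, 2792, 2520, 492, 250, 3274, 3102, 3654, 3404, 3410, 3192, 888, 1626, 3626, 1386, 3936, 1644, 3366, 3300, 3724, 3496, 3864, 3636, 2992, 756, 3792, 3250, 1142, 1198, 1762, 3970, 938, 1806, 1720, 1992, 978, 1842, 1956, 1520, 1478, 1876, 1340, 438, 1434, 3476, 1244, 1686, 924, 2897, 2139, 1369, 2333, 2409, 2375, 845, 125, 371, 303, 795, 599, 821, 1303, 1381, 2103, 3157, 3377, 2661, 1649, 2617, 619, 1083, 3171, 2851, 1859, 1103, 3603, 1575, 2575, 1565, 3117, 3339, 3845, 3657, 1833, 2709, 1733, 3745, 685, 1205, 1937, 469, 993, 2469, 441, 2953, 1421, 729, 1257, 2253,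 3225, 2289, 3521, 3207, 903, 1443, 2451, 1235, 2755, 231, 691, 459, 2219, 1675, 159]

theorem V12_eq : final steps12 [] = V12 := by decide +kernel

theorem V12_nodup : V12.Nodup := nodupB_spec (by decide +kernel)

theorem V12_length : V12.length = 132 := by decide +kernel

end CfsgLib.Uniq
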