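import Cfsg.Agent.EqBase
import Mathlib
import Cfsg.Agent.LibUniq

/-!
Data for the uniqueness of the Steiner system S(3, 6, 22).
-/

set_option autoImplicit false
set_option maxRecDepth 100000

namespace CfsgLib.Uniq

open Cfsg CfsgLib.Golay

/-- steps -/
def steps22_0 : List Step := [
  ⟨65539, 73751, [[0, 1, 16, 13, 2, 4, 19, 9, 14, 8, 20, 6, 18, 5, 15, 7, 10, 21, 11, 12, 3, 17]], []⟩,
  ⟨1048579, 541443, [[0, 1, 16, 13, 2, 4], [19, 9, 14, 8, 20, 6, 18, 5, 15, 7, 10, 21, 11, 12, 3, 17]], []⟩,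
  ⟨67, 1310819, [[0, 1], [16, 13, 2, 4], [19, 9, 14, 8], [20, 6, 18, 5, 15, 7, 10, 21, 11, 12, 3, 17]], []⟩,
  ⟨273, 1671297, [[0, 1], [16, 13, 2, 4], [19, 9, 14, 8], [20, 6, 18, 5], [15, 7, 10, 21, 11, 12, 3, 17]], []⟩,
  ⟨81921, 2164289, [[0], [1], [16], [13, 2, 4], [19], [9, 14, 8], [20], [6, 18, 5], [15, 7], [10, 21, 11, 12, 3, 17]], []⟩,
  ⟨524353, 538689, [[0], [1], [16], [13, 2, 4], [19], [9], [14, 8], [20], [6], [18, 5], [15, 7], [10, 21], [11, 12, 3, 17]], []⟩,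
  ⟨524293, 787469, [[0], [1], [16], [13], [2, 4], [19], [9], [14, 8], [20], [6], [18, 5], [15, 7], [10, 21], [11, 12], [3, 17]], []⟩,
  ⟨524305, 2752561, [], []⟩,
  ⟨131081, 1188361, [], []⟩,
  ⟨529, 297489, [[0], [1], [16], [13], [2], [4], [19], [9], [14, 8], [20], [6], [18], [5], [15, 7], [10], [21], [11, 12], [3], [17]], []⟩,
  ⟨517, 4773, [], []⟩,
  ⟨2129921, 2134027, [], []⟩,
  ⟨131, 134275, [], []⟩,
  ⟨65793, 479233, [[0], [1], [16], [13], [2], [4], [19], [9], [14, 8], [20], [6], [18], [5], [15], [7], [10], [21], [11], [12], [3], [17]], [(67881, [0, 1, 4, 17, 2, 18, 6, 15, 14, 9, 21, 12, 11, 13, 8, 7, 16, 3, 5, 19, 20, 10])]⟩,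
  ⟨16401, 16601, [], []⟩,
  ⟨8449, 2367873, [], []⟩,
  ⟨24577, 58401, [], []⟩,
  ⟨261, 164165, [], []⟩,
  ⟨273, 1053969, [], []⟩,
  ⟨16389, 3164165, [], []⟩,
  ⟨65793, 67881, [], []⟩,
  ⟨24578, 288778, [], [(1077378, [0, 1, 16, 7, 4, 5, 6, 3, 9, 8, 15, 12, 11, 13, 14, 10, 2, 21, 20, 19, 18, 17]), (2252866, [0, 1, 16, 21, 2, 5, 20, 11, 19, 8, 10, 17, 3, 13, 14, 15, 4, 7, 6, 9, 18, 12])]⟩,
  ⟨90112, 1139008, [], []⟩,
  ⟨16402, 1228818, [], []⟩,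
  ⟨589840, 609296, [], []⟩,
  ⟨66050, 1120770, [], []⟩,
  ⟨589826, 720970, [], []⟩,
  ⟨16960, 150112, [], []⟩,
  ⟨1081408, 1084488, [], []⟩,
  ⟨16390, 21574, [], []⟩,
  ⟨274, 2099538, [], []⟩,
  ⟨524308, 1573460, [], []⟩,
  ⟨65616, 102512, [], []⟩,
  ⟨524294, 559142, [], []⟩,
  ⟨2068, 137244, [], []⟩,
  ⟨1589248, 1593384, [], []⟩,
  ⟨66052, 115212, [], []⟩,
  ⟨530, 1594, [], []⟩,
  ⟨1114116, 1246244, [], []⟩,
  ⟨1114128, 3473432, [], []⟩,
  ⟨65604, 329924, [], []⟩,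
  ⟨81922, 2179234, [], []⟩,
  ⟨1056784, 1058992, [], []⟩,
  ⟨262, 1048974, [], []⟩,
  ⟨16404, 278836, [], []⟩,
  ⟨8260, 2105452, [], []⟩,
  ⟨1056772, 1355780, [], []⟩,
  ⟨73856, 78984, [], []⟩,
  ⟨8450, 143650, [], []⟩,
  ⟨65794, 361730, [], []⟩]

/-- steps -/
def steps22_1 : List Step := [
  ⟨598016, 860704, [], []⟩,
  ⟨106496, 2336768, [], []⟩,
  ⟨294944, 426152, [], []⟩,
  ⟨8706, 41666, [], []⟩,
  ⟨8272, 402512, [], []⟩,
  ⟨532496, 565528, [], []⟩,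
  ⟨832, 267080, [], []⟩,
  ⟨66064, 197520, [], []⟩,
  ⟨524306, 790674, [], []⟩,
  ⟨8720, 2126352, [], []⟩,
  ⟨8708, 12036, [], []⟩,
  ⟨49408, 55680, [], []⟩,
  ⟨532484, 680068, [], []⟩,
  ⟨1573120, 1968384, [], []⟩,
  ⟨524608, 525792, [], []⟩,
  ⟨1065472, 1328768, [], []⟩,
  ⟨1049344, 3179296, [], []⟩,
  ⟨557568, 693760, [], []⟩,
  ⟨263200, 2366496, [], []⟩,
  ⟨524928, 2624136, [], []⟩,
  ⟨17664, 2245896, [], []⟩,
  ⟨532482, 3679234, [], []⟩,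
  ⟨32788, 2131092, [], []⟩,
  ⟨1048768, 3281088, [], []⟩,
  ⟨518, 2490886, [], []⟩,
  ⟨589828, 2691332, [], []⟩,
  ⟨540736, 2932800, [], []⟩]

/-- all the steps -/
def steps22 : List Step := steps22_0 ++ (steps22_1)

theorem steps22_ok : stepsOK 22 3 3 5 steps22 [] = true := by decide +kernel

/-- the blocks -/
def V22 : List ℕ := [2932800, 2691332, 2490886, 3281088, 2131092, 3679234, 2245896, 2624136, 2366496, 693760, 3179296, 1328768, 525792, 1968384, 680068, 55680, 12036, 2126352, 790674, 197520, 267080, 565528, 402512, 41666, 426152, 2336768, 860704, 361730, 143650, 78984, 1355780, 2105452, 278836, 1048974, 1058992, 2179234, 329924, 3473432, 1246244, 1594, 115212, 1593384, 137244, 559142, 102512, 1573460, 2099538, 21574, 1084488, 150112, 720970, 1120770, 609296, 1228818, 1139008, 288778, 67881, 3164165, 1053969, 164165, 58401, 2367873, 16601, 479233, 134275, 2134027, 4773, 297489,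 1188361, 2752561, 787469, 538689, 2164289, 1671297, 1310819, 541443, 73751]

theorem V22_eq : final steps22 [] = V22 := by decide +kernel

theorem V22_nodup : V22.Nodup := nodupB_spec (by decide +kernel)

theorem V22_length : V22.length = 77 := by decide +kernel

end CfsgLib.Uniq
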