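import Cfsg.Statements.S0353
import Mathlib
import Cfsg.Agent.LibSteiner
import Cfsg.Agent.S0352

set_option autoImplicit false
open Cfsg

namespace Cfsg.Agent.S0353

/-- In an S(5, 8, 24), the symmetric difference of two blocks meeting in four points is a block. -/
theorem result {α : Type*} [Fintype α] [DecidableEq α] (hα : Fintype.card α = 24) {B : Set (Finset α)} (hB : Cfsg.IsSteinerSystem 5 8 B) {b c : Finset α} (hb : b ∈ B) (hc : c ∈ B) (h4 : (b ∩ c).card = 4) : symmDiff b c ∈ B := by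
  have ev : ∀ {b c : Finset α}, b ∈ B → c ∈ B → b ≠ c → (b ∩ c).card = 0 ∨ (b ∩ c).card = 2 ∨ (b ∩ c).card = 4 :=
    fun hb hc hbc => Cfsg.Agent.S0352.result hα hB hb hc hbc
  have eq5 : ∀ {b c : Finset α}, b ∈ B → c ∈ B → 5 ≤ (b ∩ c).card → b = c :=
    fun hb hc h => CfsgLib.Steiner.eq_of_card_inter hB hb hc h
  have hb8 := hB.1 b hb
  have hc8 := hB.1 c hc
  -- pieces
  have hT1 : (b \ c).card = 4 := by
    have := Finset.card_sdiff_add_card_inter b c
    omega
  have hT2 : (c \ b).card = 4 := by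
    have := Finset.card_sdiff_add_card_inter c b
    rw [Finset.inter_comm] at this
    omega
  have hdisj : Disjoint (b \ c) (c \ b) := disjoint_sdiff_sdiff
  have hsd : symmDiff b c = (b \ c) ∪ (c \ b) := rfl
  have hcard8 : ((b \ c) ∪ (c \ b)).card = 8 := by rw [Finset.card_union_of_disjoint hdisj, hT1, hT2]
  -- block through `b \ c` and a point of `c \ b`
  have hblock : ∀ x ∈ c \ b, ∃ d ∈ B, (b \ c) ⊆ d ∧ x ∈ d ∧ d ∩ b = b \ c ∧ (d ∩ c) ⊆ (c \ b) ∧
      ((d ∩ c).card = 2 ∨ d = symmDiff b c) := by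
    intro x hx
    rw [Finset.mem_sdiff] at hx
    obtain ⟨d, ⟨hd, hsd'⟩, -⟩ := hB.2 (insert x (b \ c)) (by
      rw [Finset.card_insert_of_notMem (fun h => hx.2 (Finset.mem_sdiff.1 h).1), hT1])
    have h1 : (b \ c) ⊆ d := (Finset.subset_insert _ _).trans hsd'
    have h2 : x ∈ d := hsd' (Finset.mem_insert_self _ _)
    have hdb : d ≠ b := by rintro rfl; exact hx.2 h2
    have h3 : (b \ c) ⊆ d ∩ b := Finset.subset_inter h1 Finset.sdiff_subset
    have h4 : (d ∩ b).card = 4 := by
      have := Finset.card_le_card h3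
      rcases ev hd hb hdb with h | h | h <;> omega
    have h5 : d ∩ b = b \ c := (Finset.eq_of_subset_of_card_le h3 (by omega)).symm
    have h6 : (d ∩ c) ⊆ (c \ b) := by
      intro y hy
      rw [Finset.mem_inter] at hy
      rw [Finset.mem_sdiff]
      refine ⟨hy.2, fun hyb => ?_⟩
      have : y ∈ d ∩ b := Finset.mem_inter.2 ⟨hy.1, hyb⟩
      rw [h5, Finset.mem_sdiff] at this
      exact this.2 hy.2
    refine ⟨d, hd, h1, h2, h5, h6, ?_⟩
    have hdc : d ≠ c := by
      rintro rfl
      have : (b \ d) = ∅ := by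
        rw [Finset.eq_empty_iff_forall_notMem]
        intro y hy
        exact (Finset.mem_sdiff.1 hy).2 (h1 hy)
      rw [this, Finset.card_empty] at hT1; omega
    have hpos : 0 < (d ∩ c).card := Finset.card_pos.2 ⟨x, Finset.mem_inter.2 ⟨h2, hx.1⟩⟩
    rcases ev hd hc hdc with h | h | h
    · omega
    · exact Or.inl h
    · right
      have h7 : d ∩ c = c \ b := Finset.eq_of_subset_of_card_le h6 (by omega)
      rw [hsd]
      symm
      apply Finset.eq_of_subset_of_card_le
      · apply Finset.union_subset h1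
        rw [← h7]; exact Finset.inter_subset_left
      · rw [hcard8, hB.1 d hd]
  by_contra hnot
  -- choose `x`
  obtain ⟨x, hx⟩ : (c \ b).Nonempty := by rw [← Finset.card_pos, hT2]; norm_num
  obtain ⟨C, hC, hC1, hxC, hCb, hCc, hC2⟩ := hblock x hx
  have hC2' : (C ∩ c).card = 2 := by
    rcases hC2 with h | h
    · exact h
    · exact absurd (h ▸ hC) hnot
  -- `k ∈ T2 \ C`
  obtain ⟨k, hk, hkC⟩ : ∃ k ∈ c \ b, k ∉ C := by
    by_contra hcon
    push Not at hcon
    have : (c \ b) ⊆ C ∩ c := fun y hy => Finset.mem_inter.2 ⟨hcon y hy, (Finset.mem_sdiff.1 hy).1⟩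
    have := Finset.card_le_card this
    omega
  obtain ⟨D, hD, hD1, hkD, hDb, hDc, hD2⟩ := hblock k hk
  have hD2' : (D ∩ c).card = 2 := by
    rcases hD2 with h | h
    · exact h
    · exact absurd (h ▸ hD) hnot
  have hCD : C ≠ D := by rintro rfl; exact hkC hkD
  -- `C ∩ D = T1`
  have hCDi : C ∩ D = b \ c := by
    symm
    apply Finset.eq_of_subset_of_card_le (Finset.subset_inter hC1 hD1)
    rcases ev hC hD hCD with h | h | h
    · rw [h]; omega
    · rw [h]; omega
    · rw [h]; omega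
  -- `T2` is the disjoint union of `C ∩ c` and `D ∩ c`
  have hdisjCD : Disjoint (C ∩ c) (D ∩ c) := by
    rw [Finset.disjoint_left]
    intro y hy hy'
    rw [Finset.mem_inter] at hy hy'
    have : y ∈ C ∩ D := Finset.mem_inter.2 ⟨hy.1, hy'.1⟩
    rw [hCDi, Finset.mem_sdiff] at this
    exact this.2 hy.2
  have hunion : (C ∩ c) ∪ (D ∩ c) = c \ b := by
    apply Finset.eq_of_subset_of_card_le (Finset.union_subset hCc hDc)
    rw [Finset.card_union_of_disjoint hdisjCD, hT2, hC2', hD2']
  have hxD : x ∉ D := by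
    intro hxD
    rw [Finset.disjoint_left] at hdisjCD
    exact hdisjCD (Finset.mem_inter.2 ⟨hxC, (Finset.mem_sdiff.1 hx).1⟩)
      (Finset.mem_inter.2 ⟨hxD, (Finset.mem_sdiff.1 hx).1⟩)
  -- `E` through three points of `T1`, `x`, `k`
  obtain ⟨S, hS, hS3⟩ := Finset.exists_subset_card_eq (show 3 ≤ (b \ c).card by omega)
  have hxS : x ∉ S := fun h => (Finset.mem_sdiff.1 hx).2 (Finset.mem_sdiff.1 (hS h)).1
  have hkS : k ∉ S := fun h => (Finset.mem_sdiff.1 hk).2 (Finset.mem_sdiff.1 (hS h)).1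
  have hxk : x ≠ k := by rintro rfl; exact hkC hxC
  obtain ⟨E, ⟨hE, hE1⟩, -⟩ := hB.2 (insert x (insert k S)) (by
    rw [Finset.card_insert_of_notMem (by
      rw [Finset.mem_insert, not_or]; exact ⟨hxk, hxS⟩), Finset.card_insert_of_notMem hkS, hS3])
  have hxE : x ∈ E := hE1 (Finset.mem_insert_self _ _)
  have hkE : k ∈ E := hE1 (Finset.mem_insert_of_mem (Finset.mem_insert_self _ _))
  have hSE : S ⊆ E := fun y hy => hE1 (Finset.mem_insert_of_mem (Finset.mem_insert_of_mem hy))
  have hEb : E ≠ b := by rintro rfl; exact (Finset.mem_sdiff.1 hx).2 hxE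
  have hEC : E ≠ C := by rintro rfl; exact hkC hkE
  have hED : E ≠ D := by rintro rfl; exact hxD hxE
  have hEc : E ≠ c := by
    rintro rfl
    obtain ⟨y, hy⟩ : S.Nonempty := by rw [← Finset.card_pos, hS3]; norm_num
    exact (Finset.mem_sdiff.1 (hS hy)).2 (hSE hy)
  have hSb : S ⊆ E ∩ b := Finset.subset_inter hSE (hS.trans Finset.sdiff_subset)
  have hEb4 : (E ∩ b).card = 4 := by
    have := Finset.card_le_card hSb
    rcases ev hE hb hEb with h | h | h <;> omega
  -- `E ∩ T1 = S`
  have hET1 : E ∩ (b \ c) = S := by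
    symm
    apply Finset.eq_of_subset_of_card_le (Finset.subset_inter hSE hS)
    by_contra hcon
    have h4 : (E ∩ (b \ c)).card = 4 := by
      have := Finset.card_le_card (Finset.inter_subset_right : E ∩ (b \ c) ⊆ b \ c)
      omega
    have h5 : E ∩ (b \ c) = b \ c := Finset.eq_of_subset_of_card_le Finset.inter_subset_right (by omega)
    apply hEC
    apply eq5 hE hC
    have h6 : insert x (b \ c) ⊆ E ∩ C := by
      intro y hy
      rw [Finset.mem_insert] at hy
      rcases hy with rfl | hy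
      · exact Finset.mem_inter.2 ⟨hxE, hxC⟩
      · exact Finset.mem_inter.2 ⟨(Finset.mem_inter.1 (h5 ▸ hy)).1, hC1 hy⟩
    have := Finset.card_le_card h6
    rwa [Finset.card_insert_of_notMem (fun h => (Finset.mem_sdiff.1 hx).2 (Finset.mem_sdiff.1 h).1), hT1] at this
  -- `|E ∩ T| = 1`
  have hET : (E ∩ (b ∩ c)).card = 1 := by
    have h1 : E ∩ b = (E ∩ (b \ c)) ∪ (E ∩ (b ∩ c)) := by
      rw [← Finset.inter_union_distrib_left, Finset.sdiff_union_inter]
    have h2 : Disjoint (E ∩ (b \ c)) (E ∩ (b ∩ c)) :=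
      Finset.disjoint_of_subset_left Finset.inter_subset_right
        (Finset.disjoint_of_subset_right Finset.inter_subset_right (Finset.disjoint_sdiff_inter b c))
    rw [h1, Finset.card_union_of_disjoint h2, hET1, hS3] at hEb4
    omega
  have h1 : E ∩ c = (E ∩ (c \ b)) ∪ (E ∩ (b ∩ c)) := by
    rw [← Finset.inter_union_distrib_left, Finset.inter_comm b c, Finset.sdiff_union_inter]
  have h2 : Disjoint (E ∩ (c \ b)) (E ∩ (b ∩ c)) := by
    rw [Finset.disjoint_left]
    intro y hy hy'
    simp only [Finset.mem_inter, Finset.mem_sdiff] at hy hy'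
    exact hy.2.2 hy'.2.1
  have h3 : (E ∩ c).card = (E ∩ (c \ b)).card + 1 := by
    rw [h1, Finset.card_union_of_disjoint h2, hET]
  have h4 : 2 ≤ (E ∩ (c \ b)).card := by
    have h5 : ({x, k} : Finset α) ⊆ E ∩ (c \ b) := by
      intro y hy
      rw [Finset.mem_insert, Finset.mem_singleton] at hy
      rcases hy with rfl | rfl
      · exact Finset.mem_inter.2 ⟨hxE, hx⟩
      · exact Finset.mem_inter.2 ⟨hkE, hk⟩
    have := Finset.card_le_card h5
    rwa [Finset.card_pair hxk] at this
  have h5 : (E ∩ (c \ b)).card = 3 := by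
    rcases ev hE hc hEc with h | h | h <;> omega
  obtain ⟨y, hy, hyn⟩ : ∃ y ∈ E ∩ (c \ b), y ∉ ({x, k} : Finset α) := by
    by_contra hcon
    push Not at hcon
    have := Finset.card_le_card (show E ∩ (c \ b) ⊆ {x, k} from hcon)
    rw [Finset.card_pair hxk] at this
    omega
  rw [Finset.mem_insert, Finset.mem_singleton, not_or] at hyn
  rw [Finset.mem_inter] at hy
  have hyS : y ∉ S := fun h => (Finset.mem_sdiff.1 hy.2).2 (Finset.mem_sdiff.1 (hS h)).1
  have hy2 := hy.2
  rw [← hunion, Finset.mem_union] at hy2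
  rcases hy2 with hyC | hyD
  · apply hEC
    apply eq5 hE hC
    have h6 : insert y (insert x S) ⊆ E ∩ C := by
      intro w hw
      rw [Finset.mem_insert, Finset.mem_insert] at hw
      rcases hw with rfl | rfl | hw
      · exact Finset.mem_inter.2 ⟨hy.1, (Finset.mem_inter.1 hyC).1⟩
      · exact Finset.mem_inter.2 ⟨hxE, hxC⟩
      · exact Finset.mem_inter.2 ⟨hSE hw, hC1 (hS hw)⟩
    have := Finset.card_le_card h6
    rwa [Finset.card_insert_of_notMem (by rw [Finset.mem_insert, not_or]; exact ⟨hyn.1, hyS⟩),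
      Finset.card_insert_of_notMem hxS, hS3] at this
  · apply hED
    apply eq5 hE hD
    have h6 : insert y (insert k S) ⊆ E ∩ D := by
      intro w hw
      rw [Finset.mem_insert, Finset.mem_insert] at hw
      rcases hw with rfl | rfl | hw
      · exact Finset.mem_inter.2 ⟨hy.1, (Finset.mem_inter.1 hyD).1⟩
      · exact Finset.mem_inter.2 ⟨hkE, hkD⟩
      · exact Finset.mem_inter.2 ⟨hSE hw, hD1 (hS hw)⟩
    have := Finset.card_le_card h6
    rwa [Finset.card_insert_of_notMem (by rw [Finset.mem_insert, not_or]; exact ⟨hyn.2, hyS⟩),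
      Finset.card_insert_of_notMem hkS, hS3] at this

end Cfsg.Agent.S0353
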