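import Cfsg.Statements.S0355
import Mathlib
import Cfsg.Agent.LibSteiner

set_option autoImplicit false
open Cfsg

namespace Cfsg.Agent.S0355

/-- In a Steiner system S(4, 7, 23), two distinct blocks intersect in 1 or 3 points. -/
theorem result {α : Type*} [Fintype α] [DecidableEq α] (hα : Fintype.card α = 23) {B : Set (Finset α)} (hB : Cfsg.IsSteinerSystem 4 7 B) {b c : Finset α} (hb : b ∈ B) (hc : c ∈ B) (hbc : b ≠ c) : (b ∩ c).card = 1 ∨ (b ∩ c).card = 3 := by
  have h3 := CfsgLib.Steiner.choose_mul_of_steiner hB b hb 3 5 (by norm_num) (by rw [hα]; decide) (by decide)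
  have h2 := CfsgLib.Steiner.choose_mul_of_steiner hB b hb 2 21 (by norm_num) (by rw [hα]; decide) (by decide)
  have h1 := CfsgLib.Steiner.choose_mul_of_steiner hB b hb 1 77 (by norm_num) (by rw [hα]; decide) (by decide)
  have h0 := CfsgLib.Steiner.choose_mul_of_steiner hB b hb 0 253 (by norm_num) (by rw [hα]; decide) (by decide)
  have e4 := CfsgLib.Steiner.meet_eq_zero_of_le hB hb (i := 4) (by norm_num) (by norm_num)
  have e5 := CfsgLib.Steiner.meet_eq_zero_of_le hB hb (i := 5) (by norm_num) (by norm_num)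
  have e6 := CfsgLib.Steiner.meet_eq_zero_of_le hB hb (i := 6) (by norm_num) (by norm_num)
  have e7 := CfsgLib.Steiner.meet_self hB hb (by norm_num)
  simp only [Finset.sum_range_succ, Finset.sum_range_zero, e4, e5, e6, e7, Nat.choose] at h0 h1 h2 h3
  have hpos := CfsgLib.Steiner.meet_pos (b := b) hc
  have hlt : (b ∩ c).card < 4 := by
    by_contra h
    exact hbc (CfsgLib.Steiner.eq_of_card_inter hB hb hc (by omega))
  generalize (b ∩ c).card = i at *
  interval_cases i <;> omega

end Cfsg.Agent.S0355
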