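import Cfsg.Statements.S0356
import Mathlib
import Cfsg.Agent.LibSteiner

set_option autoImplicit false
open Cfsg

namespace Cfsg.Agent.S0356

/-- In a Steiner system S(3, 6, 22), two distinct blocks intersect in 0 or 2 points. -/
theorem result {α : Type*} [Fintype α] [DecidableEq α] (hα : Fintype.card α = 22) {B : Set (Finset α)} (hB : Cfsg.IsSteinerSystem 3 6 B) {b c : Finset α} (hb : b ∈ B) (hc : c ∈ B) (hbc : b ≠ c) : (b ∩ c).card = 0 ∨ (b ∩ c).card = 2 := by
  have h2 := CfsgLib.Steiner.choose_mul_of_steiner hB b hb 2 5 (by norm_num) (by rw [hα]; decide) (by decide)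
  have h1 := CfsgLib.Steiner.choose_mul_of_steiner hB b hb 1 21 (by norm_num) (by rw [hα]; decide) (by decide)
  have h0 := CfsgLib.Steiner.choose_mul_of_steiner hB b hb 0 77 (by norm_num) (by rw [hα]; decide) (by decide)
  have e3 := CfsgLib.Steiner.meet_eq_zero_of_le hB hb (i := 3) (by norm_num) (by norm_num)
  have e4 := CfsgLib.Steiner.meet_eq_zero_of_le hB hb (i := 4) (by norm_num) (by norm_num)
  have e5 := CfsgLib.Steiner.meet_eq_zero_of_le hB hb (i := 5) (by norm_num) (by norm_num)
  have e6 := CfsgLib.Steiner.meet_self hB hb (by norm_num)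
  simp only [Finset.sum_range_succ, Finset.sum_range_zero, e3, e4, e5, e6, Nat.choose] at h0 h1 h2
  have hpos := CfsgLib.Steiner.meet_pos (b := b) hc
  have hlt : (b ∩ c).card < 3 := by
    by_contra h
    exact hbc (CfsgLib.Steiner.eq_of_card_inter hB hb hc (by omega))
  generalize (b ∩ c).card = i at *
  interval_cases i <;> omega

end Cfsg.Agent.S0356
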