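import Cfsg.Agent.EqBase
import Mathlib
import Cfsg.Agent.LibUniq
import Cfsg.Agent.LibUniq24
import Cfsg.Agent.LibUniq23
import Cfsg.Agent.LibUniq22
import Cfsg.Agent.LibUniq12
import Cfsg.Agent.LibUniq11
import Cfsg.Agent.S0352
import Cfsg.Agent.S0353
import Cfsg.Agent.S0355
import Cfsg.Agent.S0356

/-!
Every Steiner system with the parameters of the Mathieu systems has a standard labelling.
-/

set_option autoImplicit false

namespace CfsgLib.Uniq

open Cfsg CfsgLib.Golay

variable {α : Type*} [Fintype α] [DecidableEq α] {B : Set (Finset α)}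

theorem ncard_of {t k n v : ℕ} (hα : Fintype.card α = v) (hB : IsSteinerSystem t k B)
    (h : n * Nat.choose k t = Nat.choose v t) (hpos : 0 < Nat.choose k t) : B.ncard = n := by
  have := CfsgLib.Steiner.ncard_mul hB
  rw [hα, ← h] at this
  exact Nat.eq_of_mul_eq_mul_right hpos this

theorem exists24 (hα : Fintype.card α = 24) (hB : IsSteinerSystem 5 8 B) :
    ∃ e : Fin 24 ≃ α, B = (fun m => im e m) '' {m | m ∈ V24} := by
  have hal : ∀ b ∈ B, ∀ c ∈ B, b ≠ c → (21 : ℕ).testBit (b ∩ c).card = true := by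
    intro b hb c hc hbc
    rcases Cfsg.Agent.S0352.result hα hB hb hc hbc with h | h | h <;> rw [h] <;> decide
  have hsd : ∀ b ∈ B, ∀ c ∈ B, (b ∩ c).card = 4 → symmDiff b c ∈ B :=
    fun b hb c hc h => Cfsg.Agent.S0353.result hα hB hb hc h
  obtain ⟨e, he⟩ := steps_spec (by norm_num) (by norm_num) hB hal steps24 [] steps24_ok
    (Fintype.equivFinOfCardEq hα).symm (by simp)
  have h1 := closeOK_spec (by norm_num) hsd ext24 _ ext24_ok he
  have h2 := walkOK_spec (by norm_num) hsd h1 walk24 _ walk24_ok (by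
    intro m hm
    rw [List.mem_singleton] at hm
    subst hm
    exact h1 _ (memb_iff.1 (by decide +kernel)))
  refine ⟨e, image_eq_of_final (L := V24) ?_ V24_nodup ?_⟩
  · intro m hm
    rw [V24, List.mem_cons] at hm
    rcases hm with rfl | hm
    · exact h1 _ (memb_iff.1 (by decide +kernel))
    · exact h2 m hm
  · rw [V24_length, ncard_of (n := 759) hα hB (by decide) (by decide)]

theorem exists23 (hα : Fintype.card α = 23) (hB : IsSteinerSystem 4 7 B) :
    ∃ e : Fin 23 ≃ α, B = (fun m => im e m) '' {m | m ∈ V23} := by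
  have hal : ∀ b ∈ B, ∀ c ∈ B, b ≠ c → (10 : ℕ).testBit (b ∩ c).card = true := by
    intro b hb c hc hbc
    rcases Cfsg.Agent.S0355.result hα hB hb hc hbc with h | h <;> rw [h] <;> decide
  obtain ⟨e, he⟩ := steps_spec (by norm_num) (by norm_num) hB hal steps23 [] steps23_ok
    (Fintype.equivFinOfCardEq hα).symm (by simp)
  rw [V23_eq] at he
  refine ⟨e, image_eq_of_final (L := V23) he V23_nodup ?_⟩
  rw [V23_length, ncard_of (n := 253) hα hB (by decide) (by decide)]

theorem exists22 (hα : Fintype.card α = 22) (hB : IsSteinerSystem 3 6 B) :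
    ∃ e : Fin 22 ≃ α, B = (fun m => im e m) '' {m | m ∈ V22} := by
  have hal : ∀ b ∈ B, ∀ c ∈ B, b ≠ c → (5 : ℕ).testBit (b ∩ c).card = true := by
    intro b hb c hc hbc
    rcases Cfsg.Agent.S0356.result hα hB hb hc hbc with h | h <;> rw [h] <;> decide
  obtain ⟨e, he⟩ := steps_spec (by norm_num) (by norm_num) hB hal steps22 [] steps22_ok
    (Fintype.equivFinOfCardEq hα).symm (by simp)
  rw [V22_eq] at he
  refine ⟨e, image_eq_of_final (L := V22) he V22_nodup ?_⟩
  rw [V22_length, ncard_of (n := 77) hα hB (by decide) (by decide)]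

/-- block intersections in an `S(5, 6, 12)` -/
theorem inter12 (hα : Fintype.card α = 12) (hB : IsSteinerSystem 5 6 B) {b c : Finset α} (hb : b ∈ B)
    (hc : c ∈ B) (hbc : b ≠ c) :
    (b ∩ c).card = 0 ∨ (b ∩ c).card = 2 ∨ (b ∩ c).card = 3 ∨ (b ∩ c).card = 4 := by
  have h4 := CfsgLib.Steiner.choose_mul_of_steiner hB b hb 4 4 (by norm_num) (by rw [hα]; decide) (by decide)
  have h3 := CfsgLib.Steiner.choose_mul_of_steiner hB b hb 3 12 (by norm_num) (by rw [hα]; decide) (by decide)
  have h1 := CfsgLib.Steiner.choose_mul_of_steiner hB b hb 1 66 (by norm_num) (by rw [hα]; decide) (by decide)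
  have h2 := CfsgLib.Steiner.choose_mul_of_steiner hB b hb 2 30 (by norm_num) (by rw [hα]; decide) (by decide)
  have e5 := CfsgLib.Steiner.meet_eq_zero_of_le hB hb (i := 5) (by norm_num) (by norm_num)
  have e6 := CfsgLib.Steiner.meet_self hB hb (by norm_num)
  simp only [Finset.sum_range_succ, Finset.sum_range_zero, e5, e6, Nat.choose] at h1 h2 h3 h4
  have hpos := CfsgLib.Steiner.meet_pos (b := b) hc
  have hlt : (b ∩ c).card < 5 := by
    by_contra h
    exact hbc (CfsgLib.Steiner.eq_of_card_inter hB hb hc (by omega))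
  generalize (b ∩ c).card = i at *
  interval_cases i <;> omega

/-- block intersections in an `S(4, 5, 11)` -/
theorem inter11 (hα : Fintype.card α = 11) (hB : IsSteinerSystem 4 5 B) {b c : Finset α} (hb : b ∈ B)
    (hc : c ∈ B) (hbc : b ≠ c) :
    (b ∩ c).card = 1 ∨ (b ∩ c).card = 2 ∨ (b ∩ c).card = 3 := by
  have h3 := CfsgLib.Steiner.choose_mul_of_steiner hB b hb 3 4 (by norm_num) (by rw [hα]; decide) (by decide)
  have h1 := CfsgLib.Steiner.choose_mul_of_steiner hB b hb 1 30 (by norm_num) (by rw [hα]; decide) (by decide)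
  have h2 := CfsgLib.Steiner.choose_mul_of_steiner hB b hb 2 12 (by norm_num) (by rw [hα]; decide) (by decide)
  have h0 := CfsgLib.Steiner.choose_mul_of_steiner hB b hb 0 66 (by norm_num) (by rw [hα]; decide) (by decide)
  have e4 := CfsgLib.Steiner.meet_eq_zero_of_le hB hb (i := 4) (by norm_num) (by norm_num)
  have e5 := CfsgLib.Steiner.meet_self hB hb (by norm_num)
  simp only [Finset.sum_range_succ, Finset.sum_range_zero, e4, e5, Nat.choose] at h0 h1 h2 h3
  have hpos := CfsgLib.Steiner.meet_pos (b := b) hc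
  have hlt : (b ∩ c).card < 4 := by
    by_contra h
    exact hbc (CfsgLib.Steiner.eq_of_card_inter hB hb hc (by omega))
  generalize (b ∩ c).card = i at *
  interval_cases i <;> omega

theorem exists12 (hα : Fintype.card α = 12) (hB : IsSteinerSystem 5 6 B) :
    ∃ e : Fin 12 ≃ α, B = (fun m => im e m) '' {m | m ∈ V12} := by
  have hal : ∀ b ∈ B, ∀ c ∈ B, b ≠ c → (29 : ℕ).testBit (b ∩ c).card = true := by
    intro b hb c hc hbc
    rcases inter12 hα hB hb hc hbc with h | h | h | h <;> rw [h] <;> decide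
  obtain ⟨e, he⟩ := steps_spec (by norm_num) (by norm_num) hB hal steps12 [] steps12_ok
    (Fintype.equivFinOfCardEq hα).symm (by simp)
  rw [V12_eq] at he
  refine ⟨e, image_eq_of_final (L := V12) he V12_nodup ?_⟩
  rw [V12_length, ncard_of (n := 132) hα hB (by decide) (by decide)]

theorem exists11 (hα : Fintype.card α = 11) (hB : IsSteinerSystem 4 5 B) :
    ∃ e : Fin 11 ≃ α, B = (fun m => im e m) '' {m | m ∈ V11} := by
  have hal : ∀ b ∈ B, ∀ c ∈ B, b ≠ c → (14 : ℕ).testBit (b ∩ c).card = true := by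
    intro b hb c hc hbc
    rcases inter11 hα hB hb hc hbc with h | h | h <;> rw [h] <;> decide
  obtain ⟨e, he⟩ := steps_spec (by norm_num) (by norm_num) hB hal steps11 [] steps11_ok
    (Fintype.equivFinOfCardEq hα).symm (by simp)
  rw [V11_eq] at he
  refine ⟨e, image_eq_of_final (L := V11) he V11_nodup ?_⟩
  rw [V11_length, ncard_of (n := 66) hα hB (by decide) (by decide)]

end CfsgLib.Uniq
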