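import Cfsg.Agent.EqBase
import Mathlib
import Cfsg.Agent.LibM24f
import Cfsg.Agent.S0407
import Cfsg.Agent.S0358

/-!
Uniqueness of the binary code of length 24.
-/

set_option autoImplicit false

namespace CfsgLib.CodeUniq

open Cfsg CfsgLib.Golay CfsgLib.M24

variable {α : Type*} [Fintype α] [DecidableEq α]

/-- the word with a given support -/
def ind (s : Finset α) : α → ZMod 2 := fun p => if p ∈ s then 1 else 0

theorem ind_support (w : α → ZMod 2) : ind (support₂ w) = w := by
  funext p
  simp only [ind, support₂, Finset.mem_filter, Finset.mem_univ, true_and]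
  have : ∀ a : ZMod 2, (if a ≠ 0 then (1 : ZMod 2) else 0) = a := by decide
  exact this _

theorem support_ind (s : Finset α) : support₂ (ind s) = s := by
  ext p
  simp only [ind, support₂, Finset.mem_filter, Finset.mem_univ, true_and]
  by_cases h : p ∈ s <;> simp [h]

theorem ind_symmDiff (s t : Finset α) : ind (symmDiff s t) = ind s + ind t := by
  funext p
  simp only [ind, Finset.mem_symmDiff, Pi.add_apply]
  by_cases h : p ∈ s <;> by_cases h' : p ∈ t <;> simp [h, h'] <;> decide

theorem hammingNorm_ind (s : Finset α) : hammingNorm (ind s) = s.card := by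
  have : hammingNorm (ind s) = (support₂ (ind s)).card := by simp [hammingNorm, support₂]
  rw [this, support_ind]

/-- the pairwise disjoint subsets of a small set -/
theorem card_le_of_disjoint {n k : ℕ} (hα : Fintype.card α = n) (S : Finset (Finset α)) (hS : ∀ s ∈ S, s.card = k)
    (hd : ∀ s ∈ S, ∀ t ∈ S, s ≠ t → Disjoint s t) : S.card * k ≤ n := by
  have h1 : (S.biUnion id).card = ∑ s ∈ S, s.card :=
    Finset.card_biUnion (fun s hs t ht hst => hd s hs t ht hst)
  rw [Finset.sum_congr rfl hS, Finset.sum_const, smul_eq_mul] at h1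
  rw [← h1, ← hα]
  exact Finset.card_le_univ _

variable (hα : Fintype.card α = 24) (C : Submodule (ZMod 2) (α → ZMod 2))
  (hdim : Module.finrank (ZMod 2) C = 12)
  (h4 : ∀ w ∈ C, 4 ∣ hammingNorm w) (hno4 : ∀ w ∈ C, hammingNorm w ≠ 4)

include h4 hno4 in
theorem card_of_mem {s : Finset α} (hs : ind s ∈ C) : s = ∅ ∨ 8 ≤ s.card := by
  have h1 := h4 _ hs
  have h2 := hno4 _ hs
  rw [hammingNorm_ind] at h1 h2
  by_cases h : s.card = 0
  · left; exact Finset.card_eq_zero.1 h
  · right; omega

omit [Fintype α] in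
theorem card_symmDiff (s t : Finset α) : (symmDiff s t).card + 2 * (s ∩ t).card = s.card + t.card := by
  have e1 : symmDiff s t = (s ∪ t) \ (s ∩ t) := symmDiff_eq_sup_sdiff_inf s t
  have e2 := Finset.card_sdiff_add_card_eq_card (s := s ∩ t) (t := s ∪ t)
    (Finset.inter_subset_left.trans Finset.subset_union_left)
  have e3 := Finset.card_union_add_card_inter s t
  rw [e1]; omega

include h4 hno4 in
theorem eq_of_mem {s t : Finset α} (hst : ind s + ind t ∈ C) (h : s.card + t.card < 8 + 2 * (s ∩ t).card) : s = t := by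
  rw [← ind_symmDiff] at hst
  have h1 := card_symmDiff s t
  rcases card_of_mem C h4 hno4 hst with h2 | h2
  · exact symmDiff_eq_bot.1 h2
  · omega

include hα hdim in
theorem card_quot : Nat.card ((α → ZMod 2) ⧸ C) = 4096 := by
  have h1 : Nat.card C = 2 ^ 12 := by
    rw [Module.natCard_eq_pow_finrank (K := ZMod 2), hdim, Nat.card_zmod]
  have h2 := Submodule.card_eq_card_quotient_mul_card C
  rw [h1, Nat.card_fun, Nat.card_zmod, Nat.card_eq_fintype_card, hα] at h2
  have h3 : (2 : ℕ) ^ 24 = 2 ^ 12 * 4096 := by norm_num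
  omega

include hα hdim h4 hno4 in
/-- every coset has a representative of weight at most four -/
theorem exists_small (s : Finset α) : ∃ t : Finset α, t.card ≤ 4 ∧ ind s + ind t ∈ C := by
  classical
  haveI : Finite ((α → ZMod 2) ⧸ C) := Nat.finite_of_card_ne_zero (by rw [card_quot hα C hdim]; norm_num)
  haveI : Fintype ((α → ZMod 2) ⧸ C) := Fintype.ofFinite _
  let f : Finset α → (α → ZMod 2) ⧸ C := fun s => Submodule.Quotient.mk (ind s)
  have hf : ∀ s t, f s = f t ↔ ind s + ind t ∈ C := by
    intro s t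
    have h1 : f s = f t ↔ ind s - ind t ∈ C := Submodule.Quotient.eq C
    rw [h1]
    have h2 : ind s - ind t = ind s + ind t := by
      funext p
      simp only [Pi.sub_apply, Pi.add_apply]
      have : ∀ a b : ZMod 2, a - b = a + b := by decide
      exact this _ _
    rw [h2]
  let S : Finset (Finset α) := (Finset.range 4).biUnion fun j => Finset.powersetCard j Finset.univ
  have hS : ∀ s, s ∈ S ↔ s.card < 4 := by
    intro s
    simp only [S, Finset.mem_biUnion, Finset.mem_range, Finset.mem_powersetCard, Finset.subset_univ, true_and]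
    constructor
    · rintro ⟨j, hj, hs⟩; omega
    · intro h; exact ⟨_, h, rfl⟩
  have hScard : S.card = 2325 := by
    rw [Finset.card_biUnion]
    · simp only [Finset.card_powersetCard, Finset.card_univ, hα]
      decide
    · intro i _ j _ hij
      change Disjoint _ _
      rw [Finset.disjoint_left]
      intro s hs hs'
      rw [Finset.mem_powersetCard] at hs hs'
      exact hij (hs.2.symm.trans hs'.2)
  let T : Finset (Finset α) := Finset.powersetCard 4 Finset.univ
  have hT : ∀ s, s ∈ T ↔ s.card = 4 := by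
    intro s; simp [T, Finset.mem_powersetCard]
  have hTcard : T.card = 10626 := by
    rw [Finset.card_powersetCard, Finset.card_univ, hα]; decide
  have h1 : (S.image f).card = 2325 := by
    rw [Finset.card_image_of_injOn, hScard]
    intro s hs t ht hst
    rw [Finset.mem_coe, hS] at hs ht
    exact eq_of_mem C h4 hno4 ((hf s t).1 hst) (by omega)
  have h2 : T.card ≤ 6 * (T.image f).card := by
    apply Finset.card_le_mul_card_image
    intro q _
    have h3 := card_le_of_disjoint (k := 4) hα (T.filter fun s => f s = q) (fun s hs => by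
      rw [Finset.mem_filter, hT] at hs; exact hs.1) (fun s hs t ht hst => by
      rw [Finset.mem_filter, hT] at hs ht
      rw [Finset.disjoint_iff_inter_eq_empty, ← Finset.card_eq_zero]
      by_contra h0
      apply hst
      exact eq_of_mem C h4 hno4 ((hf s t).1 (hs.2.trans ht.2.symm)) (by omega))
    omega
  have h3 : Disjoint (S.image f) (T.image f) := by
    rw [Finset.disjoint_left]
    intro q hq hq'
    rw [Finset.mem_image] at hq hq'
    obtain ⟨s, hs, rfl⟩ := hq
    obtain ⟨t, ht, hts⟩ := hq'
    rw [hS] at hs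
    rw [hT] at ht
    have := eq_of_mem C h4 hno4 ((hf t s).1 hts) (by omega)
    subst this
    omega
  have h4' : (S.image f ∪ T.image f) = Finset.univ := by
    rw [← Finset.card_eq_iff_eq_univ, Finset.card_union_of_disjoint h3]
    have h5 : Fintype.card ((α → ZMod 2) ⧸ C) = 4096 := by
      rw [← Nat.card_eq_fintype_card, card_quot hα C hdim]
    have h6 : (S.image f ∪ T.image f).card ≤ Fintype.card ((α → ZMod 2) ⧸ C) := Finset.card_le_univ _
    rw [Finset.card_union_of_disjoint h3] at h6
    omega
  have h5 : f s ∈ S.image f ∪ T.image f := by rw [h4']; exact Finset.mem_univ _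
  rw [Finset.mem_union, Finset.mem_image, Finset.mem_image] at h5
  rcases h5 with ⟨t, ht, hts⟩ | ⟨t, ht, hts⟩
  · exact ⟨t, by rw [hS] at ht; omega, (hf s t).1 hts.symm⟩
  · exact ⟨t, by rw [hT] at ht; omega, (hf s t).1 hts.symm⟩

/-- the supports of weight eight -/
def oct : Set (Finset α) := {s | s.card = 8 ∧ ind s ∈ C}

include hα hdim h4 hno4 in
theorem oct_steiner : IsSteinerSystem 5 8 (oct C) := by
  refine ⟨fun s hs => hs.1, fun s hs => ?_⟩
  obtain ⟨t, ht, hst⟩ := exists_small hα C hdim h4 hno4 s
  have h1 := card_symmDiff s t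
  have h2 : (s ∩ t).card ≤ t.card := Finset.card_le_card Finset.inter_subset_right
  have h3 := h4 _ (by rw [← ind_symmDiff] at hst; exact hst)
  have h5 := hno4 _ (by rw [← ind_symmDiff] at hst; exact hst)
  rw [hammingNorm_ind] at h3 h5
  have h6 : (symmDiff s t).card ≠ 0 := by
    rw [Finset.card_ne_zero]
    by_contra h0
    rw [Finset.not_nonempty_iff_eq_empty] at h0
    have := symmDiff_eq_bot.1 h0
    subst this
    omega
  have h7 : (symmDiff s t).card = 8 ∧ (s ∩ t).card = 0 := by omega
  have hsub : s ⊆ symmDiff s t := by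
    intro p hp
    rw [Finset.mem_symmDiff]
    left
    refine ⟨hp, fun hpt => ?_⟩
    have := Finset.card_eq_zero.1 h7.2
    have h8 : p ∈ s ∩ t := Finset.mem_inter.2 ⟨hp, hpt⟩
    rw [this] at h8
    exact absurd h8 (Finset.notMem_empty _)
  refine ⟨symmDiff s t, ⟨⟨h7.1, by rw [ind_symmDiff]; exact hst⟩, hsub⟩, ?_⟩
  rintro c ⟨⟨hc8, hcC⟩, hsc⟩
  apply eq_of_mem C h4 hno4
  · rw [ind_symmDiff]
    exact Submodule.add_mem _ hcC hst
  · have h9 : s.card ≤ (c ∩ symmDiff s t).card := Finset.card_le_card (Finset.subset_inter hsc hsub)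
    omega

end CfsgLib.CodeUniq

namespace CfsgLib.CodeUniq

open Cfsg CfsgLib.Golay CfsgLib.M24

/-- uniqueness of the code -/
theorem main {α : Type*} [Fintype α] [DecidableEq α] (hα : Fintype.card α = 24)
    (C : Submodule (ZMod 2) (α → ZMod 2)) (hdim : Module.finrank (ZMod 2) C = 12)
    (h4 : ∀ w ∈ C, 4 ∣ hammingNorm w) (hno4 : ∀ w ∈ C, hammingNorm w ≠ 4) :
    ∃ e : α ≃ GolayPt, ∀ w : GolayPt → ZMod 2, w ∈ golayCode ↔ (fun i => w (e i)) ∈ C := by
  obtain ⟨e, he⟩ := Cfsg.Agent.S0407.result card_pt hα octads_steiner (oct_steiner hα C hdim h4 hno4)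
  refine ⟨e.symm, ?_⟩
  have h1 : golayCode ≤ C.comap (LinearMap.funLeft (ZMod 2) (ZMod 2) e.symm) := by
    apply golayCode_le_of_octads
    intro m hm
    have h2 : (fset m).image e ∈ oct C := by rw [← he]; exact ⟨_, hm, rfl⟩
    have h3 : (LinearMap.funLeft (ZMod 2) (ZMod 2) e.symm) (word m) = ind ((fset m).image e) := by
      funext i
      rw [LinearMap.funLeft_apply, ind, word]
      have h4 : i ∈ (fset m).image e ↔ m.testBit (idx (e.symm i)) = true := by
        rw [Finset.mem_image]
        constructor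
        · rintro ⟨p, hp, rfl⟩
          rw [Equiv.symm_apply_apply]
          exact mem_fset.1 hp
        · intro h
          exact ⟨e.symm i, mem_fset.2 h, by rw [Equiv.apply_symm_apply]⟩
      simp only [h4]
    rw [Submodule.mem_comap, h3]
    exact h2.2
  have h2 : Module.finrank (ZMod 2) (C.comap (LinearMap.funLeft (ZMod 2) (ZMod 2) e.symm)) = 12 := by
    rw [← hdim]
    have h3 : (LinearMap.funLeft (ZMod 2) (ZMod 2) e.symm) =
        ((LinearEquiv.funCongrLeft (ZMod 2) (ZMod 2) e.symm : (GolayPt → ZMod 2) ≃ₗ[ZMod 2] (α → ZMod 2)) :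
          (GolayPt → ZMod 2) →ₗ[ZMod 2] (α → ZMod 2)) := rfl
    rw [h3]
    exact LinearEquiv.finrank_eq ((LinearEquiv.funCongrLeft (ZMod 2) (ZMod 2) e.symm).submoduleMap _ ≪≫ₗ
      LinearEquiv.ofEq _ _ (Submodule.map_comap_eq_of_surjective (LinearEquiv.surjective _) C))
  have h3 : golayCode = C.comap (LinearMap.funLeft (ZMod 2) (ZMod 2) e.symm) :=
    Submodule.eq_of_le_of_finrank_eq h1 (by rw [h2]; exact Cfsg.Agent.S0358.result)
  intro w
  constructor
  · intro hw
    exact h1 hw
  · intro hw
    rw [h3]; exact hw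

end CfsgLib.CodeUniq
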