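import Cfsg.Agent.EqBase
import Mathlib
import Cfsg.Agent.LibLeech

/-!
Counting lattice vectors of given sum of squares.
-/

set_option autoImplicit false

namespace CfsgLib.Leech

open Cfsg CfsgLib.Golay CfsgLib.M24

/-! ### digits -/

theorem digit (Q : ℕ) (c : ℕ → ℕ) (hc : ∀ n, c n < Q) (M n : ℕ) (hn : n < M) :
    (∑ j ∈ Finset.range M, c j * Q ^ j) / Q ^ n % Q = c n := by
  have hQ : 0 < Q := lt_of_le_of_lt (Nat.zero_le _) (hc 0)
  have hlt : ∀ m, ∑ j ∈ Finset.range m, c j * Q ^ j < Q ^ m := by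
    intro m
    induction m with
    | zero => simp
    | succ m ih =>
      rw [Finset.sum_range_succ, pow_succ]
      have h1 : (c m + 1) * Q ^ m ≤ Q * Q ^ m := Nat.mul_le_mul_right _ (hc m)
      have h2 : (c m + 1) * Q ^ m = c m * Q ^ m + Q ^ m := by ring
      rw [mul_comm (Q ^ m) Q]
      omega
  obtain ⟨d, rfl⟩ : ∃ d, M = n + 1 + d := ⟨M - (n + 1), by omega⟩
  rw [Finset.sum_range_add, Finset.sum_range_succ]
  have h1 : ∑ j ∈ Finset.range d, c (n + 1 + j) * Q ^ (n + 1 + j) =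
      Q ^ n * (Q * ∑ j ∈ Finset.range d, c (n + 1 + j) * Q ^ j) := by
    rw [Finset.mul_sum, Finset.mul_sum]
    apply Finset.sum_congr rfl
    intro j _
    rw [pow_add, pow_add]; ring
  rw [h1]
  have h2 : ∑ j ∈ Finset.range n, c j * Q ^ j + c n * Q ^ n +
      Q ^ n * (Q * ∑ j ∈ Finset.range d, c (n + 1 + j) * Q ^ j) =
      ∑ j ∈ Finset.range n, c j * Q ^ j + Q ^ n * (c n + Q * ∑ j ∈ Finset.range d, c (n + 1 + j) * Q ^ j) := by
    ring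
  rw [h2, Nat.add_mul_div_left _ _ (Nat.pow_pos hQ), Nat.div_eq_of_lt (hlt n), zero_add,
    Nat.add_mul_mod_self_left, Nat.mod_eq_of_lt (hc n)]

/-! ### the generating function -/

/-- the range of `y` -/
def Y : Finset ℤ := {-2, -1, 0, 1, 2}

/-- the box -/
def T : Finset E := Fintype.piFinset fun _ => Y

theorem mem_Y {a : ℤ} : a ∈ Y ↔ -2 ≤ a ∧ a ≤ 2 := by
  simp only [Y, Finset.mem_insert, Finset.mem_singleton]
  omega

theorem mem_T {y : E} : y ∈ T ↔ ∀ i, -2 ≤ y i ∧ y i ≤ 2 := by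
  rw [T, Fintype.mem_piFinset]
  exact forall_congr' fun i => mem_Y

theorem card_T : T.card = 5 ^ 24 := by
  rw [T, Fintype.card_piFinset, Finset.prod_const, Finset.card_univ, card_pt]
  rfl

/-- the norm of the vector with parameters -/
def nrm (m : ℤ) (w : GolayPt → ZMod 2) (y : E) : ℕ := ∑ i, ((m + 2 * lf (w i) + 4 * y i) ^ 2).toNat

/-- one coordinate -/
def g (q : ℕ) (m : ℤ) (s : ℤ) (a : ZMod 2) : ℤ := ∑ y ∈ Y, s ^ (y + 2).toNat * (q : ℤ) ^ ((m + 2 * lf a + 4 * y) ^ 2).toNat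

theorem prod_g (q : ℕ) (m s : ℤ) (w : GolayPt → ZMod 2) :
    ∏ i, g q m s (w i) = ∑ y ∈ T, s ^ (∑ i, (y i + 2).toNat) * (q : ℤ) ^ nrm m w y := by
  simp only [g]
  rw [Finset.prod_univ_sum]
  apply Finset.sum_congr rfl
  intro y _
  rw [Finset.prod_mul_distrib, Finset.prod_pow_eq_pow_sum, Finset.prod_pow_eq_pow_sum]
  rfl

theorem prod_g' (q : ℕ) (m s : ℤ) (w : GolayPt → ZMod 2) :
    ∏ i, g q m s (w i) = g q m s 1 ^ (support₂ w).card * g q m s 0 ^ (24 - (support₂ w).card) := by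
  have h : ∀ i, g q m s (w i) = if w i ≠ 0 then g q m s 1 else g q m s 0 := by
    intro i
    split_ifs with h
    · have : ∀ a : ZMod 2, a ≠ 0 → a = 1 := by decide
      rw [this _ h]
    · rw [not_not.1 h]
  rw [Finset.prod_congr rfl fun i _ => h i, Finset.prod_ite, Finset.prod_const, Finset.prod_const]
  have h1 : (Finset.univ.filter fun i => ¬ w i ≠ 0) = (support₂ w)ᶜ := by
    ext i; simp [support₂]
  rw [h1, Finset.card_compl, card_pt]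
  rfl

theorem parity_sum {y : E} (hy : y ∈ T) : (-1 : ℤ) ^ (∑ i, (y i + 2).toNat) = if (2 : ℤ) ∣ ∑ i, y i then 1 else -1 := by
  rw [mem_T] at hy
  have h1 : ((∑ i, (y i + 2).toNat : ℕ) : ℤ) = ∑ i, y i + 48 := by
    rw [Nat.cast_sum]
    have : ∀ i, (((y i + 2).toNat : ℕ) : ℤ) = y i + 2 := fun i => Int.toNat_of_nonneg (by have := hy i; omega)
    rw [Finset.sum_congr rfl fun i _ => this i, Finset.sum_add_distrib]
    have e2 : ∑ _i : GolayPt, (2 : ℤ) = 48 := by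
      rw [Finset.sum_const, Finset.card_univ, card_pt, nsmul_eq_mul]; rfl
    rw [e2]
  generalize (∑ i, (y i + 2).toNat) = N at *
  generalize (∑ i, y i) = S at *
  split_ifs with h
  · apply Even.neg_one_pow
    rw [Nat.even_iff]; omega
  · apply Odd.neg_one_pow
    rw [Nat.odd_iff]; omega

/-- number of parameter vectors with given norm -/
def cnt (m : ℤ) (w : GolayPt → ZMod 2) (N : ℕ) : ℕ :=
  (T.filter fun y => ((2 : ℤ) ∣ (∑ i, y i) - m) ∧ nrm m w y = N).card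

/-- twice the sum of the `q ^ norm` over the admissible parameters -/
theorem two_sum (q : ℕ) (m : ℤ) (hm : m = 0 ∨ m = 1) (w : GolayPt → ZMod 2) :
    2 * ∑ y ∈ T.filter (fun y => (2 : ℤ) ∣ (∑ i, y i) - m), (q : ℤ) ^ nrm m w y =
      ∏ i, g q m 1 (w i) + (1 - 2 * m) * ∏ i, g q m (-1) (w i) := by
  rw [prod_g, prod_g, Finset.mul_sum, Finset.mul_sum, ← Finset.sum_add_distrib, Finset.sum_filter]
  apply Finset.sum_congr rfl
  intro y hy
  rw [one_pow, parity_sum hy]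
  rcases hm with rfl | rfl
  · by_cases h : (2 : ℤ) ∣ ∑ i, y i
    · rw [if_pos (by omega), if_pos h]; ring
    · rw [if_neg (by omega), if_neg h]; ring
  · by_cases h : (2 : ℤ) ∣ ∑ i, y i
    · rw [if_neg (by omega), if_pos h]; ring
    · rw [if_pos (by omega), if_neg h]; ring

theorem nrm_lt {m : ℤ} (hm : m = 0 ∨ m = 1) (w : GolayPt → ZMod 2) {y : E} (hy : y ∈ T) : nrm m w y < 3000 := by
  rw [mem_T] at hy
  have h1 : nrm m w y ≤ ∑ _i : GolayPt, 121 := by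
    apply Finset.sum_le_sum
    intro i _
    have h2 : (m + 2 * lf (w i) + 4 * y i) ^ 2 ≤ 121 := by
      have h3 := hy i
      have h4 : -11 ≤ m + 2 * lf (w i) + 4 * y i := by rcases lf_cases (w i) with h | h <;> rw [h] <;> omega
      have h5 : m + 2 * lf (w i) + 4 * y i ≤ 11 := by rcases lf_cases (w i) with h | h <;> rw [h] <;> omega
      nlinarith
    omega
  rw [Finset.sum_const, Finset.card_univ, card_pt, smul_eq_mul] at h1
  omega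

theorem sum_eq_digits (q : ℕ) (m : ℤ) (hm : m = 0 ∨ m = 1) (w : GolayPt → ZMod 2) :
    ∑ y ∈ T.filter (fun y => (2 : ℤ) ∣ (∑ i, y i) - m), q ^ nrm m w y =
      ∑ N ∈ Finset.range 3000, cnt m w N * q ^ N := by
  rw [← Finset.sum_fiberwise_of_maps_to (g := fun y => nrm m w y) (t := Finset.range 3000)]
  · apply Finset.sum_congr rfl
    intro N _
    have h1 : ∀ y ∈ (T.filter fun y => (2 : ℤ) ∣ (∑ i, y i) - m).filter (fun y => nrm m w y = N),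
        q ^ nrm m w y = q ^ N := by
      intro y hy
      rw [(Finset.mem_filter.1 hy).2]
    rw [Finset.sum_congr rfl h1, Finset.sum_const, smul_eq_mul, Finset.filter_filter, cnt]
  · intro y hy
    rw [Finset.mem_range]
    exact nrm_lt hm w (Finset.mem_filter.1 hy).1

theorem cnt_lt (m : ℤ) (w : GolayPt → ZMod 2) (N : ℕ) : cnt m w N < 5 ^ 24 + 1 := by
  have h1 : cnt m w N ≤ T.card := Finset.card_filter_le _ _
  rw [card_T] at h1
  exact Nat.lt_succ_of_le h1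

/-- one coordinate, as natural numbers (the values of `g`) -/
def gN (q : ℕ) : ℕ → ℕ → ℕ
  | 0, 0 => 1 + 2 * q ^ 16 + 2 * q ^ 64
  | 0, 1 => q ^ 1 + q ^ 9 + q ^ 25 + q ^ 49 + q ^ 81
  | 0, 2 => 2 * q ^ 4 + 2 * q ^ 36 + q ^ 100
  | 0, _ => q ^ 1 + q ^ 9 + q ^ 25 + q ^ 49 + q ^ 121
  | _ + 1, 0 => 1 + 2 * q ^ 64 - 2 * q ^ 16
  | _ + 1, 1 => q ^ 1 + q ^ 49 + q ^ 81 - (q ^ 9 + q ^ 25)
  | _ + 1, 2 => q ^ 100
  | _ + 1, _ => q ^ 9 + q ^ 25 + q ^ 121 - (q ^ 1 + q ^ 49)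

theorem g_eq (q : ℕ) (m s : ℤ) (a : ZMod 2) : g q m s a =
    s ^ 0 * (q : ℤ) ^ ((m + 2 * lf a + 4 * (-2)) ^ 2).toNat + (s ^ 1 * (q : ℤ) ^ ((m + 2 * lf a + 4 * (-1)) ^ 2).toNat +
    (s ^ 2 * (q : ℤ) ^ ((m + 2 * lf a + 4 * 0) ^ 2).toNat + (s ^ 3 * (q : ℤ) ^ ((m + 2 * lf a + 4 * 1) ^ 2).toNat +
    s ^ 4 * (q : ℤ) ^ ((m + 2 * lf a + 4 * 2) ^ 2).toNat))) := by
  rw [g, Y, Finset.sum_insert (by decide), Finset.sum_insert (by decide), Finset.sum_insert (by decide),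
    Finset.sum_insert (by decide), Finset.sum_singleton]
  rfl

theorem g00 (q : ℕ) : g q 0 1 0 = gN q 0 0 := by
  rw [g_eq, lf_zero, gN]
  have e1 : ((0 + 2 * 0 + 4 * (-2) : ℤ) ^ 2).toNat = 64 := by decide
  have e2 : ((0 + 2 * 0 + 4 * (-1) : ℤ) ^ 2).toNat = 16 := by decide
  have e3 : ((0 + 2 * 0 + 4 * 0 : ℤ) ^ 2).toNat = 0 := by decide
  have e4 : ((0 + 2 * 0 + 4 * 1 : ℤ) ^ 2).toNat = 16 := by decide
  have e5 : ((0 + 2 * 0 + 4 * 2 : ℤ) ^ 2).toNat = 64 := by decide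
  rw [e1, e2, e3, e4, e5]
  push_cast
  ring
theorem g01 (q : ℕ) : g q 1 1 0 = gN q 0 1 := by
  rw [g_eq, lf_zero, gN]
  have e1 : ((1 + 2 * 0 + 4 * (-2) : ℤ) ^ 2).toNat = 49 := by decide
  have e2 : ((1 + 2 * 0 + 4 * (-1) : ℤ) ^ 2).toNat = 9 := by decide
  have e3 : ((1 + 2 * 0 + 4 * 0 : ℤ) ^ 2).toNat = 1 := by decide
  have e4 : ((1 + 2 * 0 + 4 * 1 : ℤ) ^ 2).toNat = 25 := by decide
  have e5 : ((1 + 2 * 0 + 4 * 2 : ℤ) ^ 2).toNat = 81 := by decide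
  rw [e1, e2, e3, e4, e5]
  push_cast
  ring
theorem g02 (q : ℕ) : g q 0 1 1 = gN q 0 2 := by
  rw [g_eq, lf_one, gN]
  have e1 : ((0 + 2 * 1 + 4 * (-2) : ℤ) ^ 2).toNat = 36 := by decide
  have e2 : ((0 + 2 * 1 + 4 * (-1) : ℤ) ^ 2).toNat = 4 := by decide
  have e3 : ((0 + 2 * 1 + 4 * 0 : ℤ) ^ 2).toNat = 4 := by decide
  have e4 : ((0 + 2 * 1 + 4 * 1 : ℤ) ^ 2).toNat = 36 := by decide
  have e5 : ((0 + 2 * 1 + 4 * 2 : ℤ) ^ 2).toNat = 100 := by decide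
  rw [e1, e2, e3, e4, e5]
  push_cast
  ring
theorem g03 (q : ℕ) : g q 1 1 1 = gN q 0 3 := by
  rw [g_eq, lf_one, gN]
  have e1 : ((1 + 2 * 1 + 4 * (-2) : ℤ) ^ 2).toNat = 25 := by decide
  have e2 : ((1 + 2 * 1 + 4 * (-1) : ℤ) ^ 2).toNat = 1 := by decide
  have e3 : ((1 + 2 * 1 + 4 * 0 : ℤ) ^ 2).toNat = 9 := by decide
  have e4 : ((1 + 2 * 1 + 4 * 1 : ℤ) ^ 2).toNat = 49 := by decide
  have e5 : ((1 + 2 * 1 + 4 * 2 : ℤ) ^ 2).toNat = 121 := by decide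
  rw [e1, e2, e3, e4, e5]
  · push_cast
    ring
  all_goals (intro h; cases h)
theorem g10 (q : ℕ) (hq : 1 ≤ q) : g q 0 (-1) 0 = gN q 1 0 := by
  have h : 2 * q ^ 16 ≤ 1 + 2 * q ^ 64 := by
    have := Nat.pow_le_pow_right hq (show 16 ≤ 64 by norm_num)
    linarith
  rw [g_eq, lf_zero, gN, Nat.cast_sub h]
  have e1 : ((0 + 2 * 0 + 4 * (-2) : ℤ) ^ 2).toNat = 64 := by decide
  have e2 : ((0 + 2 * 0 + 4 * (-1) : ℤ) ^ 2).toNat = 16 := by decide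
  have e3 : ((0 + 2 * 0 + 4 * 0 : ℤ) ^ 2).toNat = 0 := by decide
  have e4 : ((0 + 2 * 0 + 4 * 1 : ℤ) ^ 2).toNat = 16 := by decide
  have e5 : ((0 + 2 * 0 + 4 * 2 : ℤ) ^ 2).toNat = 64 := by decide
  rw [e1, e2, e3, e4, e5]
  push_cast
  ring
theorem g11 (q : ℕ) (hq : 1 ≤ q) : g q 1 (-1) 0 = gN q 1 1 := by
  have h1 : q ^ 9 + q ^ 25 ≤ q ^ 1 + q ^ 49 + q ^ 81 := by
    have := Nat.pow_le_pow_right hq (show 9 ≤ 49 by norm_num)
    have := Nat.pow_le_pow_right hq (show 25 ≤ 81 by norm_num)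
    linarith [Nat.zero_le (q ^ 1)]
  rw [g_eq, lf_zero, gN, Nat.cast_sub h1]
  have e1 : ((1 + 2 * 0 + 4 * (-2) : ℤ) ^ 2).toNat = 49 := by decide
  have e2 : ((1 + 2 * 0 + 4 * (-1) : ℤ) ^ 2).toNat = 9 := by decide
  have e3 : ((1 + 2 * 0 + 4 * 0 : ℤ) ^ 2).toNat = 1 := by decide
  have e4 : ((1 + 2 * 0 + 4 * 1 : ℤ) ^ 2).toNat = 25 := by decide
  have e5 : ((1 + 2 * 0 + 4 * 2 : ℤ) ^ 2).toNat = 81 := by decide
  rw [e1, e2, e3, e4, e5]
  push_cast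
  ring
theorem g12 (q : ℕ) : g q 0 (-1) 1 = gN q 1 2 := by
  rw [g_eq, lf_one, gN]
  have e1 : ((0 + 2 * 1 + 4 * (-2) : ℤ) ^ 2).toNat = 36 := by decide
  have e2 : ((0 + 2 * 1 + 4 * (-1) : ℤ) ^ 2).toNat = 4 := by decide
  have e3 : ((0 + 2 * 1 + 4 * 0 : ℤ) ^ 2).toNat = 4 := by decide
  have e4 : ((0 + 2 * 1 + 4 * 1 : ℤ) ^ 2).toNat = 36 := by decide
  have e5 : ((0 + 2 * 1 + 4 * 2 : ℤ) ^ 2).toNat = 100 := by decide
  rw [e1, e2, e3, e4, e5]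
  push_cast
  ring
theorem g13 (q : ℕ) (hq : 1 ≤ q) : g q 1 (-1) 1 = gN q 1 3 := by
  have h1 : q ^ 1 + q ^ 49 ≤ q ^ 9 + q ^ 25 + q ^ 121 := by
    have := Nat.pow_le_pow_right hq (show 1 ≤ 9 by norm_num)
    have := Nat.pow_le_pow_right hq (show 49 ≤ 121 by norm_num)
    linarith [Nat.zero_le (q ^ 25)]
  rw [g_eq, lf_one, gN, Nat.cast_sub h1]
  have e1 : ((1 + 2 * 1 + 4 * (-2) : ℤ) ^ 2).toNat = 25 := by decide
  have e2 : ((1 + 2 * 1 + 4 * (-1) : ℤ) ^ 2).toNat = 1 := by decide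
  have e3 : ((1 + 2 * 1 + 4 * 0 : ℤ) ^ 2).toNat = 9 := by decide
  have e4 : ((1 + 2 * 1 + 4 * 1 : ℤ) ^ 2).toNat = 49 := by decide
  have e5 : ((1 + 2 * 1 + 4 * 2 : ℤ) ^ 2).toNat = 121 := by decide
  rw [e1, e2, e3, e4, e5]
  · push_cast
    ring
  all_goals (intro h; cases h)

/-- digit extraction for `m = 0` -/
theorem cnt_even (q : ℕ) (hq : 5 ^ 24 + 1 ≤ q) (w : GolayPt → ZMod 2) (N : ℕ) (hN : N < 3000) :
    cnt 0 w N = (gN q 0 2 ^ (support₂ w).card * gN q 0 0 ^ (24 - (support₂ w).card) +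
      gN q 1 2 ^ (support₂ w).card * gN q 1 0 ^ (24 - (support₂ w).card)) / 2 / q ^ N % q := by
  have hq1 : 1 ≤ q := le_trans (Nat.le_add_left _ _) hq
  have h1 := two_sum q 0 (Or.inl rfl) w
  rw [prod_g', prod_g', g00, g02, g10 q hq1, g12] at h1
  have h2 : 2 * ∑ y ∈ T.filter (fun y => (2 : ℤ) ∣ (∑ i, y i) - 0), q ^ nrm 0 w y =
      (gN q 0 2 ^ (support₂ w).card * gN q 0 0 ^ (24 - (support₂ w).card) +
      gN q 1 2 ^ (support₂ w).card * gN q 1 0 ^ (24 - (support₂ w).card)) := by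
    have h3 : ((2 * ∑ y ∈ T.filter (fun y => (2 : ℤ) ∣ (∑ i, y i) - 0), q ^ nrm 0 w y : ℕ) : ℤ) =
        ((gN q 0 2 ^ (support₂ w).card * gN q 0 0 ^ (24 - (support₂ w).card) +
        gN q 1 2 ^ (support₂ w).card * gN q 1 0 ^ (24 - (support₂ w).card) : ℕ) : ℤ) := by
      push_cast
      rw [h1]
      ring
    exact Int.ofNat.inj h3
  rw [← h2, Nat.mul_div_cancel_left _ (by norm_num), sum_eq_digits q 0 (Or.inl rfl) w,
    digit q _ (fun n => lt_of_lt_of_le (cnt_lt 0 w n) hq) _ _ hN]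

/-- digit extraction for `m = 1` -/
theorem cnt_odd (q : ℕ) (hq : 5 ^ 24 + 1 ≤ q) (w : GolayPt → ZMod 2) (N : ℕ) (hN : N < 3000) :
    cnt 1 w N = (gN q 0 3 ^ (support₂ w).card * gN q 0 1 ^ (24 - (support₂ w).card) -
      gN q 1 3 ^ (support₂ w).card * gN q 1 1 ^ (24 - (support₂ w).card)) / 2 / q ^ N % q := by
  have hq1 : 1 ≤ q := le_trans (Nat.le_add_left _ _) hq
  have h1 := two_sum q 1 (Or.inr rfl) w
  rw [prod_g', prod_g', g01, g03, g11 q hq1, g13 q hq1] at h1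
  have h2 : 2 * ∑ y ∈ T.filter (fun y => (2 : ℤ) ∣ (∑ i, y i) - 1), q ^ nrm 1 w y =
      (gN q 0 3 ^ (support₂ w).card * gN q 0 1 ^ (24 - (support₂ w).card) -
      gN q 1 3 ^ (support₂ w).card * gN q 1 1 ^ (24 - (support₂ w).card)) := by
    have h3 : ((2 * ∑ y ∈ T.filter (fun y => (2 : ℤ) ∣ (∑ i, y i) - 1), q ^ nrm 1 w y : ℕ) : ℤ) =
        ((gN q 0 3 ^ (support₂ w).card * gN q 0 1 ^ (24 - (support₂ w).card) : ℕ) : ℤ) -
        ((gN q 1 3 ^ (support₂ w).card * gN q 1 1 ^ (24 - (support₂ w).card) : ℕ) : ℤ) := by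
      push_cast
      rw [h1]
      ring
    generalize (∑ y ∈ T.filter (fun y => (2 : ℤ) ∣ (∑ i, y i) - 1), q ^ nrm 1 w y) = A at *
    generalize (gN q 0 3 ^ (support₂ w).card * gN q 0 1 ^ (24 - (support₂ w).card)) = B at *
    generalize (gN q 1 3 ^ (support₂ w).card * gN q 1 1 ^ (24 - (support₂ w).card)) = C at *
    omega
  rw [← h2, Nat.mul_div_cancel_left _ (by norm_num), sum_eq_digits q 1 (Or.inr rfl) w,
    digit q _ (fun n => lt_of_lt_of_le (cnt_lt 1 w n) hq) _ _ hN]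

end CfsgLib.Leech
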