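import Cfsg.Agent.EqBase
import Mathlib
import Cfsg.Agent.LibLeechCount

/-!
The numbers of vectors of small norm in the Leech lattice.
-/

set_option autoImplicit false
set_option linter.constructorNameAsVariable false

namespace CfsgLib.Leech

open Cfsg CfsgLib.Golay CfsgLib.M24

/-! ### sums over the code -/

/-- the number of codewords of a given weight -/
def wt (j : ℕ) : ℕ := ((Finset.range 4096).filter fun k => pop (cw k) = j).card

theorem pow_len : 2 ^ basis.length = 4096 := by decide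

theorem wt_eq (j : ℕ) : wt j = treeCount (fun m => Nat.beq (pop m) j) basis 0 := by
  rw [treeCount_eq_card, wt, pow_len]
  apply congrArg
  apply Finset.filter_congr
  intro k _
  rw [Nat.zero_xor, beq_iff]
  rfl

theorem wt8 : wt 8 = 759 := by rw [wt_eq]; decide +kernel
theorem wt12 : wt 12 = 2576 := by rw [wt_eq]; decide +kernel
theorem wt16 : wt 16 = 759 := by rw [wt_eq]; decide +kernel
theorem wt24 : wt 24 = 1 := by rw [wt_eq]; decide +kernel
theorem wt0 : wt 0 = 1 := by rw [wt_eq]; decide +kernel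

theorem pop_zero : pop 0 = 0 := by decide

/-- sums of functions of the weight -/
theorem sum_code (f : ℕ → ℕ) : ∑ k ∈ Finset.range 4096, f (pop (cw k)) =
    f 0 + 759 * f 8 + 2576 * f 12 + 759 * f 16 + f 24 := by
  have hmem : ∀ k ∈ Finset.range 4096, pop (cw k) ∈ ({0, 8, 12, 16, 24} : Finset ℕ) := by
    intro k hk
    rw [Finset.mem_range] at hk
    simp only [Finset.mem_insert, Finset.mem_singleton]
    rcases pop_cw hk with h | h | h | h | h
    · tauto
    · tauto
    · tauto
    · left; rw [h]; exact pop_zero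
    · tauto
  rw [← Finset.sum_fiberwise_of_maps_to hmem]
  have h1 : ∀ j, ∑ k ∈ (Finset.range 4096).filter (fun k => pop (cw k) = j), f (pop (cw k)) = wt j * f j := by
    intro j
    have h2 : ∀ k ∈ (Finset.range 4096).filter (fun k => pop (cw k) = j), f (pop (cw k)) = f j := by
      intro k hk
      rw [(Finset.mem_filter.1 hk).2]
    rw [Finset.sum_congr rfl h2, Finset.sum_const, smul_eq_mul]
    rfl
  rw [Finset.sum_congr rfl fun j _ => h1 j, Finset.sum_insert (by decide), Finset.sum_insert (by decide),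
    Finset.sum_insert (by decide), Finset.sum_insert (by decide), Finset.sum_singleton, wt0, wt8, wt12, wt16, wt24]
  ring

/-! ### vectors of small norm -/

theorem sqNorm_eq_nrm {x : E} {m : ℤ} {w : GolayPt → ZMod 2} {y : E} (h : ∀ i, x i = m + 2 * lf (w i) + 4 * y i) :
    sqNorm x = (nrm m w y : ℤ) := by
  rw [sqNorm, nrm, Nat.cast_sum]
  apply Finset.sum_congr rfl
  intro i _
  rw [h, Int.toNat_of_nonneg (sq_nonneg _)]

theorem mem_T_of_norm {x : E} {m : ℤ} (hm : m = 0 ∨ m = 1) {w : GolayPt → ZMod 2} {y : E}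
    (h : ∀ i, x i = m + 2 * lf (w i) + 4 * y i) (hx : sqNorm x ≤ 64) : y ∈ T := by
  rw [mem_T]
  intro i
  have h1 : x i ^ 2 ≤ 64 := by
    refine le_trans ?_ hx
    exact Finset.single_le_sum (f := fun i => x i ^ 2) (fun i _ => sq_nonneg _) (Finset.mem_univ i)
  have h2 : -8 ≤ x i ∧ x i ≤ 8 := by
    constructor <;> nlinarith
  have h3 := h i
  rcases lf_cases (w i) with h4 | h4 <;> rw [h4] at h3 <;> rcases hm with rfl | rfl <;> omega

/-- the vector with given parameters -/
def vec (m : ℤ) (w : GolayPt → ZMod 2) (y : E) : E := fun i => m + 2 * lf (w i) + 4 * y i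

theorem vec_inj {m m' : ℤ} (hm : m = 0 ∨ m = 1) (hm' : m' = 0 ∨ m' = 1) {w w' : GolayPt → ZMod 2} {y y' : E}
    (h : vec m w y = vec m' w' y') : m = m' ∧ w = w' ∧ y = y' := by
  have h0 : ∀ i, m + 2 * lf (w i) + 4 * y i = m' + 2 * lf (w' i) + 4 * y' i := fun i => congrFun h i
  have h1 : m = m' := by
    have := h0 none
    omega
  subst h1
  have h2 : w = w' := by
    funext i
    have := h0 i
    have h3 : lf (w i) = lf (w' i) := by
      rcases lf_cases (w i) with h | h <;> rcases lf_cases (w' i) with h' | h' <;> rw [h, h'] at this ⊢ <;>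
        omega
    have h4 : ∀ a b : ZMod 2, lf a = lf b → a = b := by decide
    exact h4 _ _ h3
  subst h2
  refine ⟨rfl, rfl, ?_⟩
  funext i
  have := h0 i
  linarith

/-- the vectors of given norm -/
def shell (N : ℕ) : Set E := {x | x ∈ Lam ∧ sqNorm x = N}

theorem shell_ncard (N : ℕ) (hN : N ≤ 64) :
    (shell N).ncard = ∑ k ∈ Finset.range 4096, (cnt 0 (word (cw k)) N + cnt 1 (word (cw k)) N) := by
  classical
  let S : Finset ((ℤ × ℕ) × E) := (({0, 1} : Finset ℤ) ×ˢ Finset.range 4096).biUnion fun p =>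
    (T.filter fun y => ((2 : ℤ) ∣ (∑ i, y i) - p.1) ∧ nrm p.1 (word (cw p.2)) y = N).image fun y => (p, y)
  have hS : ∀ q, q ∈ S ↔ (q.1.1 = 0 ∨ q.1.1 = 1) ∧ q.1.2 < 4096 ∧ q.2 ∈ T ∧ ((2 : ℤ) ∣ (∑ i, q.2 i) - q.1.1) ∧
      nrm q.1.1 (word (cw q.1.2)) q.2 = N := by
    rintro ⟨⟨m, k⟩, y⟩
    simp only [S, Finset.mem_biUnion, Finset.mem_product, Finset.mem_insert, Finset.mem_singleton, Finset.mem_range,
      Finset.mem_image, Finset.mem_filter]
    constructor
    · rintro ⟨p, ⟨h1, h2⟩, y', ⟨h3, h4, h5⟩, h6⟩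
      rw [Prod.mk.injEq] at h6
      obtain ⟨rfl, rfl⟩ := h6
      exact ⟨h1, h2, h3, h4, h5⟩
    · rintro ⟨h1, h2, h3, h4, h5⟩
      exact ⟨(m, k), ⟨h1, h2⟩, y, ⟨h3, h4, h5⟩, rfl⟩
  have h1 : shell N = (fun q : (ℤ × ℕ) × E => vec q.1.1 (word (cw q.1.2)) q.2) '' (S : Set ((ℤ × ℕ) × E)) := by
    ext x
    rw [Set.mem_image]
    constructor
    · rintro ⟨hx, hxN⟩
      obtain ⟨m, w, y, hm, h⟩ := exists_par hx
      obtain ⟨k, hk, rfl⟩ := mem_golayCode.1 h.1
      refine ⟨((m, k), y), ?_, ?_⟩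
      · rw [Finset.mem_coe, hS]
        refine ⟨hm, hk, mem_T_of_norm hm h.2.1 (by rw [hxN]; exact_mod_cast hN), h.2.2, ?_⟩
        have := sqNorm_eq_nrm h.2.1
        rw [hxN] at this
        exact_mod_cast this.symm
      · funext i
        exact (h.2.1 i).symm
    · rintro ⟨⟨⟨m, k⟩, y⟩, hq, rfl⟩
      rw [Finset.mem_coe, hS] at hq
      obtain ⟨hm, hk, hy, hd, hn⟩ := hq
      refine ⟨⟨m, word (cw k), y, word_cw_mem k, fun i => rfl, hd⟩, ?_⟩
      refine (sqNorm_eq_nrm (x := vec m (word (cw k)) y) (m := m) (w := word (cw k)) (y := y) (fun i => rfl)).trans ?_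
      exact congrArg _ hn
  rw [h1, Set.InjOn.ncard_image, Set.ncard_coe_finset]
  · rw [Finset.card_biUnion]
    · rw [Finset.sum_product, Finset.sum_insert (by decide), Finset.sum_singleton, ← Finset.sum_add_distrib]
      apply Finset.sum_congr rfl
      intro k _
      rw [Finset.card_image_of_injective, Finset.card_image_of_injective]
      · rfl
      · intro a b h; exact (Prod.mk.inj h).2
      · intro a b h; exact (Prod.mk.inj h).2
    · intro p _ q _ hpq
      change Disjoint _ _
      rw [Finset.disjoint_left]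
      intro z hz hz'
      rw [Finset.mem_image] at hz hz'
      obtain ⟨y, _, rfl⟩ := hz
      obtain ⟨y', _, h⟩ := hz'
      exact hpq (Prod.mk.inj h).1.symm
  · rintro ⟨⟨m, k⟩, y⟩ hq ⟨⟨m', k'⟩, y'⟩ hq' h
    rw [Finset.mem_coe, hS] at hq hq'
    obtain ⟨h2, h3, h4⟩ := vec_inj hq.1 hq'.1 h
    have h5 := cw_injective hq.2.1 hq'.2.1 (word_injective (cw_lt _) (cw_lt _) h3)
    have h2' : m = m' := h2
    have h5' : k = k' := h5
    have h4' : y = y' := h4
    rw [h2', h5', h4']

theorem support_cw (k : ℕ) : (support₂ (word (cw k))).card = pop (cw k) := by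
  rw [support_word, card_fset]

/-- the digit for the even part -/
def dE (q N k : ℕ) : ℕ := (gN q 0 2 ^ k * gN q 0 0 ^ (24 - k) + gN q 1 2 ^ k * gN q 1 0 ^ (24 - k)) / 2 / q ^ N % q
/-- the digit for the odd part -/
def dO (q N k : ℕ) : ℕ := (gN q 0 3 ^ k * gN q 0 1 ^ (24 - k) - gN q 1 3 ^ k * gN q 1 1 ^ (24 - k)) / 2 / q ^ N % q

theorem shell_eq (q : ℕ) (hq : 5 ^ 24 + 1 ≤ q) (N : ℕ) (hN : N ≤ 64) : (shell N).ncard =
    (dE q N 0 + dO q N 0) + 759 * (dE q N 8 + dO q N 8) + 2576 * (dE q N 12 + dO q N 12) +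
      759 * (dE q N 16 + dO q N 16) + (dE q N 24 + dO q N 24) := by
  rw [shell_ncard N hN, ← sum_code (fun k => dE q N k + dO q N k)]
  apply Finset.sum_congr rfl
  intro k _
  rw [cnt_even q hq _ N (by omega), cnt_odd q hq _ N (by omega), support_cw]
  rfl

theorem five_le : 5 ^ 24 + 1 ≤ 72057594037927936 := by norm_num

/-- the count as a raw boolean computation -/
def chk (N r : ℕ) : Bool :=
  Nat.beq ((dE 72057594037927936 N 0 + dO 72057594037927936 N 0) +
    759 * (dE 72057594037927936 N 8 + dO 72057594037927936 N 8) +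
    2576 * (dE 72057594037927936 N 12 + dO 72057594037927936 N 12) +
      759 * (dE 72057594037927936 N 16 + dO 72057594037927936 N 16) +
      (dE 72057594037927936 N 24 + dO 72057594037927936 N 24)) r

theorem shell_of_chk {N r : ℕ} (hN : N ≤ 64) (h : chk N r = true) : (shell N).ncard = r := by
  rw [shell_eq 72057594037927936 five_le N hN]
  exact Nat.eq_of_beq_eq_true h

theorem chk32 : chk 32 196560 = true := by decide +kernel
theorem chk48 : chk 48 16773120 = true := by decide +kernel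
theorem chk64 : chk 64 398034000 = true := by decide +kernel

theorem shell32 : (shell 32).ncard = 196560 := shell_of_chk (by norm_num) chk32

theorem shell48 : (shell 48).ncard = 16773120 := shell_of_chk (by norm_num) chk48

theorem shell64 : (shell 64).ncard = 398034000 := shell_of_chk (by norm_num) chk64

end CfsgLib.Leech
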