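import Cfsg.Agent.EqBase
import Mathlib
import Cfsg.Agent.LibLeechShell
import Cfsg.Agent.LibCodeUniq

/-!
Lattices in standard coordinates with respect to a frame.
-/

set_option autoImplicit false
set_option linter.constructorNameAsVariable false

namespace CfsgLib.Frame

open Cfsg CfsgLib.Golay CfsgLib.M24 CfsgLib.Leech

/-- lattices in coordinates -/
structure Good (M : AddSubgroup E) : Prop where
  par : ∀ x ∈ M, ∀ i j, (2 : ℤ) ∣ x i - x j
  dot : ∀ x ∈ M, ∀ y ∈ M, (8 : ℤ) ∣ ∑ i, x i * y i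
  n16 : ∀ x ∈ M, (16 : ℤ) ∣ ∑ i, x i ^ 2
  ne16 : ∀ x ∈ M, ∑ i, x i ^ 2 ≠ 16
  d24 : ∀ d : E, (2 : ℤ) ∣ ∑ i, d i → (fun i => 4 * d i) ∈ M
  c4 : {x | x ∈ M ∧ sqNorm x = 32}.ncard = 196560
  c6 : {x | x ∈ M ∧ sqNorm x = 48}.ncard = 16773120

/-- sign changes -/
def sg (τ : GolayPt → ZMod 2) : E →+ E :=
  AddMonoidHom.mk' (fun x i => (1 - 2 * lf (τ i)) * x i) (by
    intro a b; funext i; simp only [Pi.add_apply]; ring)

theorem sg_apply (τ : GolayPt → ZMod 2) (x : E) (i : GolayPt) : sg τ x i = (1 - 2 * lf (τ i)) * x i := rfl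

theorem sgn_sq (a : ZMod 2) : (1 - 2 * lf a) * (1 - 2 * lf a) = 1 := by revert a; decide

theorem sg_sg (τ : GolayPt → ZMod 2) (x : E) : sg τ (sg τ x) = x := by
  funext i
  rw [sg_apply, sg_apply, ← mul_assoc, sgn_sq, one_mul]

theorem sg_dot (τ : GolayPt → ZMod 2) (x y : E) : ∑ i, sg τ x i * sg τ y i = ∑ i, x i * y i := by
  apply Finset.sum_congr rfl
  intro i _
  rw [sg_apply, sg_apply]
  have := sgn_sq (τ i)
  linear_combination (x i * y i) * this

theorem sg_sq (τ : GolayPt → ZMod 2) (x : E) : ∑ i, sg τ x i ^ 2 = ∑ i, x i ^ 2 := by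
  have := sg_dot τ x x
  simp only [← pow_two] at this
  exact this

theorem sg_inj (τ : GolayPt → ZMod 2) : Function.Injective (sg τ) := fun a b h => by
  rw [← sg_sg τ a, h, sg_sg]

theorem shell_sg (M : AddSubgroup E) (τ : GolayPt → ZMod 2) (N : ℤ) :
    {x | x ∈ M.comap (sg τ) ∧ sqNorm x = N}.ncard = {x | x ∈ M ∧ sqNorm x = N}.ncard := by
  have h : {x | x ∈ M ∧ sqNorm x = N} = sg τ '' {x | x ∈ M.comap (sg τ) ∧ sqNorm x = N} := by
    ext x
    constructor
    · rintro ⟨h1, h2⟩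
      refine ⟨sg τ x, ⟨?_, ?_⟩, sg_sg τ x⟩
      · rw [AddSubgroup.mem_comap, sg_sg]; exact h1
      · rw [sqNorm, sg_sq]; exact h2
    · rintro ⟨y, ⟨h1, h2⟩, rfl⟩
      refine ⟨h1, ?_⟩
      rw [sqNorm, sg_sq]; exact h2
  rw [h, Set.ncard_image_of_injective _ (sg_inj τ)]

theorem Good.sg {M : AddSubgroup E} (G : Good M) (τ : GolayPt → ZMod 2) : Good (M.comap (sg τ)) where
  par := by
    intro x hx i j
    have h := G.par _ hx i j
    rw [sg_apply, sg_apply] at h
    rcases lf_cases (τ i) with h1 | h1 <;> rcases lf_cases (τ j) with h2 | h2 <;> rw [h1, h2] at h <;> omega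
  dot := by
    intro x hx y hy
    have h := G.dot _ hx _ hy
    rwa [sg_dot] at h
  n16 := by
    intro x hx
    have h := G.n16 _ hx
    rwa [sg_sq] at h
  ne16 := by
    intro x hx
    have h := G.ne16 _ hx
    rwa [sg_sq] at h
  d24 := by
    intro d hd
    rw [AddSubgroup.mem_comap]
    have h := G.d24 (Frame.sg τ d) (by
      have h1 : ∑ i, Frame.sg τ d i = ∑ i, d i - 2 * ∑ i, lf (τ i) * d i := by
        rw [Finset.mul_sum, ← Finset.sum_sub_distrib]
        apply Finset.sum_congr rfl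
        intro i _
        rw [sg_apply]; ring
      omega)
    have e : (Frame.sg τ fun i => 4 * d i) = fun i => 4 * Frame.sg τ d i := by
      funext i
      rw [sg_apply, sg_apply]; ring
    rw [e]; exact h
  c4 := by rw [shell_sg]; exact G.c4
  c6 := by rw [shell_sg]; exact G.c6

/-- the code of the even vectors -/
def code (M : AddSubgroup E) (_G : Good M) : Submodule (ZMod 2) (GolayPt → ZMod 2) where
  carrier := {w | ∃ y : E, (fun i => 2 * lf (w i) + 4 * y i) ∈ M}
  zero_mem' := ⟨0, by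
    have : (fun i : GolayPt => 2 * lf ((0 : GolayPt → ZMod 2) i) + 4 * (0 : E) i) = 0 := by
      funext i; simp [lf_zero]
    rw [this]; exact M.zero_mem⟩
  add_mem' := by
    rintro w w' ⟨y, hy⟩ ⟨y', hy'⟩
    refine ⟨fun i => y i + y' i + lf (w i) * lf (w' i), ?_⟩
    have := M.add_mem hy hy'
    have e : ((fun i => 2 * lf (w i) + 4 * y i) + fun i => 2 * lf (w' i) + 4 * y' i) =
        fun i => 2 * lf ((w + w') i) + 4 * (y i + y' i + lf (w i) * lf (w' i)) := by
      funext i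
      rw [Pi.add_apply, Pi.add_apply]
      have := lf_add (w i) (w' i)
      linarith
    rw [← e]; exact this
  smul_mem' := by
    rintro c w ⟨y, hy⟩
    have hc : c = 0 ∨ c = 1 := by revert c; decide
    rcases hc with rfl | rfl
    · refine ⟨0, ?_⟩
      have : (fun i : GolayPt => 2 * lf (((0 : ZMod 2) • w) i) + 4 * (0 : E) i) = 0 := by
        funext i; simp [lf_zero]
      rw [this]; exact M.zero_mem
    · exact ⟨y, by rw [one_smul]; exact hy⟩

theorem mem_code {M : AddSubgroup E} {G : Good M} {w : GolayPt → ZMod 2} :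
    w ∈ code M G ↔ ∃ y : E, (fun i => 2 * lf (w i) + 4 * y i) ∈ M := Iff.rfl

section

variable {M : AddSubgroup E} (G : Good M)
include G

theorem four_dvd_wt {w : GolayPt → ZMod 2} (hw : w ∈ code M G) : (4 : ℤ) ∣ ∑ i, lf (w i) := by
  obtain ⟨y, hy⟩ := hw
  have h := G.n16 _ hy
  have e : ∑ i, (2 * lf (w i) + 4 * y i) ^ 2 = 4 * ∑ i, lf (w i) + 16 * ∑ i, (lf (w i) * y i + y i ^ 2) := by
    rw [Finset.mul_sum, Finset.mul_sum, ← Finset.sum_add_distrib]
    apply Finset.sum_congr rfl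
    intro i _
    have := lf_sq (w i)
    linear_combination 4 * this
  rw [e] at h
  omega

theorem adjust {w : GolayPt → ZMod 2} {y y' : E} (h : (fun i => 2 * lf (w i) + 4 * y i) ∈ M)
    (hp : (2 : ℤ) ∣ ∑ i, y' i - ∑ i, y i) : (fun i => 2 * lf (w i) + 4 * y' i) ∈ M := by
  have h1 := M.add_mem h (G.d24 (fun i => y' i - y i) (by rw [Finset.sum_sub_distrib]; exact hp))
  have e : ((fun i => 2 * lf (w i) + 4 * y i) + fun i => 4 * (y' i - y i)) = fun i => 2 * lf (w i) + 4 * y' i := by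
    funext i
    rw [Pi.add_apply]; ring
  rw [← e]; exact h1

theorem zero_par {y : E} (h : (fun i => 4 * y i) ∈ M) : (2 : ℤ) ∣ ∑ i, y i := by
  by_contra hcon
  have h0 : (fun i => 2 * lf ((0 : GolayPt → ZMod 2) i) + 4 * y i) ∈ M := by
    have : (fun i => 2 * lf ((0 : GolayPt → ZMod 2) i) + 4 * y i) = fun i => 4 * y i := by
      funext i; simp [lf_zero]
    rw [this]; exact h
  have h1 := adjust G h0 (y' := Pi.single none 1) (by rw [single_sum]; omega)
  apply G.ne16 _ h1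
  rw [Finset.sum_eq_single none]
  · simp [lf_zero]
  · intro i _ hi
    simp [lf_zero, Pi.single_eq_of_ne hi]
  · intro h; exact absurd (Finset.mem_univ _) h

theorem ne_four {w : GolayPt → ZMod 2} (hw : w ∈ code M G) : ∑ i, lf (w i) ≠ 4 := by
  intro h4
  obtain ⟨y, hy⟩ := hw
  obtain ⟨j, hj⟩ : ∃ j, lf (w j) = 1 := by
    by_contra hcon
    push Not at hcon
    have : ∑ i, lf (w i) = 0 := Finset.sum_eq_zero fun i _ => by
      rcases lf_cases (w i) with h | h
      · exact h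
      · exact absurd h (hcon i)
    omega
  by_cases hp : (2 : ℤ) ∣ ∑ i, y i
  · have h1 := adjust G hy (y' := 0) (by
      have : ∑ i, (0 : E) i = 0 := Finset.sum_eq_zero fun i _ => rfl
      rw [this]; omega)
    apply G.ne16 _ h1
    have : ∀ i, (2 * lf (w i) + 4 * (0 : E) i) ^ 2 = 4 * lf (w i) := by
      intro i
      have := lf_sq (w i)
      simp only [Pi.zero_apply]
      linear_combination 4 * this
    rw [Finset.sum_congr rfl fun i _ => this i, ← Finset.mul_sum, h4]; rfl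
  · have h1 := adjust G hy (y' := Pi.single j (-1)) (by
      rw [Finset.sum_pi_single']
      simp only [Finset.mem_univ, if_true]
      omega)
    apply G.ne16 _ h1
    have : ∀ i, (2 * lf (w i) + 4 * (Pi.single j (-1) : E) i) ^ 2 = 4 * lf (w i) := by
      intro i
      by_cases hij : i = j
      · subst hij
        rw [hj, Pi.single_eq_same]; norm_num
      · rw [Pi.single_eq_of_ne hij]
        have := lf_sq (w i)
        linear_combination 4 * this
    rw [Finset.sum_congr rfl fun i _ => this i, ← Finset.mul_sum, h4]; rfl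

theorem even_dot {w w' : GolayPt → ZMod 2} (hw : w ∈ code M G) (hw' : w' ∈ code M G) :
    (2 : ℤ) ∣ ∑ i, lf (w i) * lf (w' i) := by
  obtain ⟨y, hy⟩ := hw
  obtain ⟨y', hy'⟩ := hw'
  have h := G.dot _ hy _ hy'
  have e : ∑ i, (2 * lf (w i) + 4 * y i) * (2 * lf (w' i) + 4 * y' i) =
      4 * ∑ i, lf (w i) * lf (w' i) + 8 * ∑ i, (lf (w i) * y' i + y i * lf (w' i) + 2 * (y i * y' i)) := by
    rw [Finset.mul_sum, Finset.mul_sum, ← Finset.sum_add_distrib]
    apply Finset.sum_congr rfl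
    intro i _
    ring
  rw [e] at h
  omega

/-- the code is self-orthogonal, so it has dimension at most 12 -/
theorem dim_le : Module.finrank (ZMod 2) (code M G) ≤ 12 := by
  set C := code M G
  let φ : (GolayPt → ZMod 2) →ₗ[ZMod 2] Module.Dual (ZMod 2) C :=
    C.dualRestrict.comp (dotProductEquiv (ZMod 2) GolayPt).toLinearMap
  have hφ : Function.Surjective φ := by
    rw [LinearMap.coe_comp]
    exact Subspace.dualRestrict_surjective.comp (LinearEquiv.surjective _)
  have h1 := LinearMap.finrank_range_add_finrank_ker φ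
  rw [LinearMap.range_eq_top.2 hφ, finrank_top, Subspace.dual_finrank_eq, Module.finrank_fintype_fun_eq_card,
    card_pt] at h1
  have h2 : C ≤ LinearMap.ker φ := by
    intro w hw
    rw [LinearMap.mem_ker]
    ext ⟨w', hw'⟩
    have h3 := even_dot G hw hw'
    have h4 : ((∑ i, lf (w i) * lf (w' i) : ℤ) : ZMod 2) = 0 := (ZMod.intCast_zmod_eq_zero_iff_dvd _ 2).2 h3
    change w ⬝ᵥ w' = 0
    rw [← h4, dotProduct]
    push_cast
    apply Finset.sum_congr rfl
    intro i _
    rw [cast_lf, cast_lf]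
  have h3 := Submodule.finrank_mono h2
  omega

end

/-! ### counting -/

/-- lattices with an explicit parametrisation -/
theorem count_gen (S : Set E) (C : Finset (GolayPt → ZMod 2)) (D : Finset ℤ) (hD : ∀ m ∈ D, m = 0 ∨ m = 1)
    (hS : ∀ x, x ∈ S ↔ ∃ m ∈ D, ∃ w ∈ C, ∃ y : E, (∀ i, x i = m + 2 * lf (w i) + 4 * y i) ∧ (2 : ℤ) ∣ (∑ i, y i) - m)
    (N : ℕ) (hN : N ≤ 64) :
    {x | x ∈ S ∧ sqNorm x = N}.ncard = ∑ m ∈ D, ∑ w ∈ C, cnt m w N := by
  classical
  let Z : Finset ((ℤ × (GolayPt → ZMod 2)) × E) := (D ×ˢ C).biUnion fun p =>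
    (T.filter fun y => ((2 : ℤ) ∣ (∑ i, y i) - p.1) ∧ nrm p.1 p.2 y = N).image fun y => (p, y)
  have hZ : ∀ q, q ∈ Z ↔ q.1.1 ∈ D ∧ q.1.2 ∈ C ∧ q.2 ∈ T ∧ ((2 : ℤ) ∣ (∑ i, q.2 i) - q.1.1) ∧
      nrm q.1.1 q.1.2 q.2 = N := by
    rintro ⟨⟨m, k⟩, y⟩
    simp only [Z, Finset.mem_biUnion, Finset.mem_product, Finset.mem_image, Finset.mem_filter]
    constructor
    · rintro ⟨p, ⟨h1, h2⟩, y', ⟨h3, h4, h5⟩, h6⟩
      rw [Prod.mk.injEq] at h6
      obtain ⟨rfl, rfl⟩ := h6
      exact ⟨h1, h2, h3, h4, h5⟩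
    · rintro ⟨h1, h2, h3, h4, h5⟩
      exact ⟨(m, k), ⟨h1, h2⟩, y, ⟨h3, h4, h5⟩, rfl⟩
  have h1 : {x | x ∈ S ∧ sqNorm x = N} = (fun q : (ℤ × (GolayPt → ZMod 2)) × E => vec q.1.1 q.1.2 q.2) ''
      (Z : Set ((ℤ × (GolayPt → ZMod 2)) × E)) := by
    ext x
    rw [Set.mem_image]
    constructor
    · rintro ⟨hx, hxN⟩
      obtain ⟨m, hm, w, hw, y, h, hd⟩ := (hS x).1 hx
      refine ⟨((m, w), y), ?_, ?_⟩
      · rw [Finset.mem_coe, hZ]
        refine ⟨hm, hw, mem_T_of_norm (hD m hm) h (by rw [hxN]; exact_mod_cast hN), hd, ?_⟩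
        have := sqNorm_eq_nrm h
        rw [hxN] at this
        exact_mod_cast this.symm
      · funext i
        exact (h i).symm
    · rintro ⟨⟨⟨m, w⟩, y⟩, hq, rfl⟩
      rw [Finset.mem_coe, hZ] at hq
      obtain ⟨hm, hk, hy, hd, hn⟩ := hq
      refine ⟨(hS _).2 ⟨m, hm, w, hk, y, fun i => rfl, hd⟩, ?_⟩
      refine (sqNorm_eq_nrm (x := vec m w y) (m := m) (w := w) (y := y) (fun i => rfl)).trans ?_
      exact congrArg _ hn
  rw [h1, Set.InjOn.ncard_image, Set.ncard_coe_finset]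
  · rw [Finset.card_biUnion]
    · rw [Finset.sum_product]
      apply Finset.sum_congr rfl
      intro m _
      apply Finset.sum_congr rfl
      intro w _
      rw [Finset.card_image_of_injective]
      · rfl
      · intro a b h; exact (Prod.mk.inj h).2
    · intro p _ q _ hpq
      change Disjoint _ _
      rw [Finset.disjoint_left]
      intro z hz hz'
      rw [Finset.mem_image] at hz hz'
      obtain ⟨y, _, rfl⟩ := hz
      obtain ⟨y', _, h⟩ := hz'
      exact hpq (Prod.mk.inj h).1.symm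
  · rintro ⟨⟨m, k⟩, y⟩ hq ⟨⟨m', k'⟩, y'⟩ hq' h
    rw [Finset.mem_coe, hZ] at hq hq'
    obtain ⟨h2, h3, h4⟩ := vec_inj (hD _ hq.1) (hD _ hq'.1) h
    have h2' : m = m' := h2
    have h5' : k = k' := h3
    have h4' : y = y' := h4
    rw [h2', h5', h4']

/-- values of the digits -/
def chkE (N k r : ℕ) : Bool := Nat.beq (dE 72057594037927936 N k) r
/-- values of the digits -/
def chkO (N k r : ℕ) : Bool := Nat.beq (dO 72057594037927936 N k) r

theorem all_chk : and (and (and (and (and (chkE 32 0 1104) (chkE 32 8 128)) (chkE 32 12 0)) (chkE 32 16 0)) (and (chkE 32 20 0) (chkE 32 24 0)))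
    (and (and (and (and (chkE 48 0 0) (chkE 48 8 4096)) (chkE 48 12 2048)) (chkE 48 16 0)) (and (chkE 48 20 0) (chkE 48 24 0))) = true := by
  decide +kernel

theorem all_chk' : and (and (and (and (and (chkO 32 0 24) (chkO 32 8 24)) (chkO 32 12 24)) (chkO 32 16 24)) (and (chkO 32 20 24) (chkO 32 24 24)))
    (and (and (and (and (chkO 48 0 2048) (chkO 48 8 2048)) (chkO 48 12 2048)) (chkO 48 16 2048)) (and (chkO 48 20 2048) (chkO 48 24 2048))) = true := by
  decide +kernel

theorem cnt0 (w : GolayPt → ZMod 2) (N : ℕ) (hN : N ≤ 64) : cnt 0 w N = dE 72057594037927936 N (support₂ w).card :=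
  cnt_even _ five_le w N (by omega)

theorem cnt1 (w : GolayPt → ZMod 2) (N : ℕ) (hN : N ≤ 64) : cnt 1 w N = dO 72057594037927936 N (support₂ w).card :=
  cnt_odd _ five_le w N (by omega)

theorem chkE_eq {N k r : ℕ} (h : chkE N k r = true) : dE 72057594037927936 N k = r := Nat.eq_of_beq_eq_true h
theorem chkO_eq {N k r : ℕ} (h : chkO N k r = true) : dO 72057594037927936 N k = r := Nat.eq_of_beq_eq_true h

/-- the counts for a word of admissible weight -/
theorem cnt_values (w : GolayPt → ZMod 2) (h4 : (4 : ℤ) ∣ ∑ i, lf (w i)) (h : ∑ i, lf (w i) ≠ 4) :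
    cnt 0 w 32 = 1104 * (if (support₂ w).card = 0 then 1 else 0) + 128 * (if (support₂ w).card = 8 then 1 else 0) ∧
    cnt 0 w 48 = 4096 * (if (support₂ w).card = 8 then 1 else 0) + 2048 * (if (support₂ w).card = 12 then 1 else 0) ∧
    cnt 1 w 32 = 24 ∧ cnt 1 w 48 = 2048 := by
  rw [cnt0 w 32 (by norm_num), cnt0 w 48 (by norm_num), cnt1 w 32 (by norm_num), cnt1 w 48 (by norm_num)]
  rw [sum_lf] at h4 h
  have hle : (support₂ w).card ≤ 24 := by
    rw [← card_pt]; exact Finset.card_le_univ _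
  have h1 := all_chk
  have h2 := all_chk'
  simp only [Bool.and_eq_true] at h1 h2
  obtain ⟨⟨⟨⟨⟨a1, a2⟩, a3⟩, a4⟩, a5, a6⟩, ⟨⟨⟨b1, b2⟩, b3⟩, b4⟩, b5, b6⟩ := h1
  obtain ⟨⟨⟨⟨⟨c1, c2⟩, c3⟩, c4⟩, c5, c6⟩, ⟨⟨⟨d1, d2⟩, d3⟩, d4⟩, d5, d6⟩ := h2
  have hk : (support₂ w).card = 0 ∨ (support₂ w).card = 8 ∨ (support₂ w).card = 12 ∨ (support₂ w).card = 16 ∨
      (support₂ w).card = 20 ∨ (support₂ w).card = 24 := by omega
  rcases hk with hk | hk | hk | hk | hk | hk <;> rw [hk]
  · rw [chkE_eq a1, chkE_eq b1, chkO_eq c1, chkO_eq d1]; decide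
  · rw [chkE_eq a2, chkE_eq b2, chkO_eq c2, chkO_eq d2]; decide
  · rw [chkE_eq a3, chkE_eq b3, chkO_eq c3, chkO_eq d3]; decide
  · rw [chkE_eq a4, chkE_eq b4, chkO_eq c4, chkO_eq d4]; decide
  · rw [chkE_eq a5, chkE_eq b5, chkO_eq c5, chkO_eq d5]; decide
  · rw [chkE_eq a6, chkE_eq b6, chkO_eq c6, chkO_eq d6]; decide

section

variable {M : AddSubgroup E} (G : Good M)
include G

/-- sums of the counts over the code -/
theorem sums [Fintype (code M G)] (C : Finset (GolayPt → ZMod 2)) (hC : ∀ w, w ∈ C ↔ w ∈ code M G) :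
    ∃ a8 a12 : ℕ, 1 + a8 + a12 ≤ C.card ∧ (∑ w ∈ C, cnt 0 w 32 = 1104 + 128 * a8) ∧
      (∑ w ∈ C, cnt 0 w 48 = 4096 * a8 + 2048 * a12) ∧ (∑ w ∈ C, cnt 1 w 32 = 24 * C.card) ∧
      (∑ w ∈ C, cnt 1 w 48 = 2048 * C.card) := by
  classical
  have hv : ∀ w ∈ C, _ := fun w hw => cnt_values w (four_dvd_wt G ((hC w).1 hw)) (ne_four G ((hC w).1 hw))
  have h0 : (C.filter fun w => (support₂ w).card = 0).card = 1 := by
    rw [Finset.card_eq_one]
    refine ⟨0, ?_⟩
    ext w
    rw [Finset.mem_filter, Finset.mem_singleton, hC, Finset.card_eq_zero]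
    constructor
    · rintro ⟨_, h⟩
      apply support₂_injective
      rw [h]; ext i; simp [support₂]
    · rintro rfl
      exact ⟨Submodule.zero_mem _, by ext i; simp [support₂]⟩
  refine ⟨(C.filter fun w => (support₂ w).card = 8).card, (C.filter fun w => (support₂ w).card = 12).card, ?_, ?_, ?_, ?_, ?_⟩
  · rw [← h0]
    have e1 : Disjoint (C.filter fun w => (support₂ w).card = 0) (C.filter fun w => (support₂ w).card = 8) := by
      rw [Finset.disjoint_filter]; intro w _ h; omega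
    have e2 : Disjoint ((C.filter fun w => (support₂ w).card = 0) ∪ (C.filter fun w => (support₂ w).card = 8))
        (C.filter fun w => (support₂ w).card = 12) := by
      rw [Finset.disjoint_union_left, Finset.disjoint_filter, Finset.disjoint_filter]
      exact ⟨fun w _ h => by omega, fun w _ h => by omega⟩
    rw [← Finset.card_union_of_disjoint e1, ← Finset.card_union_of_disjoint e2]
    apply Finset.card_le_card
    intro w hw
    simp only [Finset.mem_union, Finset.mem_filter] at hw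
    tauto
  · rw [Finset.sum_congr rfl fun w hw => (hv w hw).1, Finset.sum_add_distrib, ← Finset.mul_sum, ← Finset.mul_sum,
      ← Finset.card_filter, ← Finset.card_filter, h0, mul_one]
  · rw [Finset.sum_congr rfl fun w hw => (hv w hw).2.1, Finset.sum_add_distrib, ← Finset.mul_sum, ← Finset.mul_sum,
      ← Finset.card_filter, ← Finset.card_filter]
  · rw [Finset.sum_congr rfl fun w hw => (hv w hw).2.2.1, Finset.sum_const, smul_eq_mul, mul_comm]
  · rw [Finset.sum_congr rfl fun w hw => (hv w hw).2.2.2, Finset.sum_const, smul_eq_mul, mul_comm]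

theorem split_even {x : E} (h : ∀ i, (2 : ℤ) ∣ x i) : ∃ (w : GolayPt → ZMod 2) (y : E), ∀ i, x i = 2 * lf (w i) + 4 * y i := by
  have h1 : ∀ i, ∃ (w : ZMod 2) (y : ℤ), x i = 2 * lf w + 4 * y := by
    intro i
    obtain ⟨c, hc⟩ := h i
    rcases Int.even_or_odd' c with ⟨k, hk | hk⟩
    · exact ⟨0, k, by rw [hc, hk, lf_zero]; ring⟩
    · exact ⟨1, k, by rw [hc, hk, lf_one]; ring⟩
  choose w y h2 using h1
  exact ⟨w, y, h2⟩

theorem param_even (hev : ∀ (w : GolayPt → ZMod 2) (y : E), (fun i => 2 * lf (w i) + 4 * y i) ∈ M → (2 : ℤ) ∣ ∑ i, y i)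
    {x : E} (hx : ∀ i, (2 : ℤ) ∣ x i) :
    x ∈ M ↔ ∃ w ∈ code M G, ∃ y : E, (∀ i, x i = 0 + 2 * lf (w i) + 4 * y i) ∧ (2 : ℤ) ∣ (∑ i, y i) - 0 := by
  constructor
  · intro h
    obtain ⟨w, y, h1⟩ := split_even G hx
    have h2 : (fun i => 2 * lf (w i) + 4 * y i) ∈ M := by
      have : (fun i => 2 * lf (w i) + 4 * y i) = x := by funext i; exact (h1 i).symm
      rw [this]; exact h
    exact ⟨w, ⟨y, h2⟩, y, fun i => by rw [h1]; ring, by rw [sub_zero]; exact hev w y h2⟩
  · rintro ⟨w, ⟨y0, hy0⟩, y, h1, h2⟩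
    have h3 := hev w y0 hy0
    have h4 := adjust G hy0 (y' := y) (by omega)
    have : x = fun i => 2 * lf (w i) + 4 * y i := by
      funext i; rw [h1 i]; ring
    rw [this]; exact h4

theorem param_odd {x0 u : E} (hx0 : x0 ∈ M) (hu : ∀ i, x0 i = 1 + 4 * u i) (x : E) :
    x ∈ M ↔ ∃ m ∈ ({0, 1} : Finset ℤ), ∃ w ∈ code M G, ∃ y : E, (∀ i, x i = m + 2 * lf (w i) + 4 * y i) ∧
      (2 : ℤ) ∣ (∑ i, y i) - m := by
  have hu1 : ¬ (2 : ℤ) ∣ ∑ i, u i := by
    have h := G.n16 _ hx0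
    have e : ∑ i, x0 i ^ 2 = 24 + 8 * ∑ i, u i + 16 * ∑ i, u i ^ 2 := by
      have e1 : ∑ _i : GolayPt, (1 : ℤ) = 24 := by
        rw [Finset.sum_const, Finset.card_univ, card_pt, nsmul_eq_mul]; rfl
      rw [← e1, Finset.mul_sum, Finset.mul_sum, ← Finset.sum_add_distrib, ← Finset.sum_add_distrib]
      apply Finset.sum_congr rfl
      intro i _
      rw [hu]; ring
    rw [e] at h
    omega
  have hev : ∀ (w : GolayPt → ZMod 2) (y : E), (fun i => 2 * lf (w i) + 4 * y i) ∈ M → (2 : ℤ) ∣ ∑ i, y i := by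
    intro w y h
    have h1 := G.dot _ hx0 _ h
    have h2 := four_dvd_wt G (w := w) ⟨y, h⟩
    have e : ∑ i, x0 i * (2 * lf (w i) + 4 * y i) = 2 * ∑ i, lf (w i) + 4 * ∑ i, y i +
        8 * ∑ i, (u i * lf (w i) + 2 * (u i * y i)) := by
      rw [Finset.mul_sum, Finset.mul_sum, Finset.mul_sum, ← Finset.sum_add_distrib, ← Finset.sum_add_distrib]
      apply Finset.sum_congr rfl
      intro i _
      rw [hu]; ring
    rw [e] at h1
    omega
  constructor
  · intro hx
    by_cases hpar : (2 : ℤ) ∣ x none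
    · have hx2 : ∀ i, (2 : ℤ) ∣ x i := by
        intro i
        have := G.par x hx i none
        omega
      obtain ⟨w, hw, y, h1, h2⟩ := (param_even G hev hx2).1 hx
      exact ⟨0, by simp, w, hw, y, h1, h2⟩
    · have hx2 : ∀ i, (2 : ℤ) ∣ (x - x0) i := by
        intro i
        have := G.par x hx i none
        rw [Pi.sub_apply, hu]
        omega
      obtain ⟨w, hw, y, h1, h2⟩ := (param_even G hev hx2).1 (M.sub_mem hx hx0)
      refine ⟨1, by simp, w, hw, fun i => y i + u i, fun i => ?_, ?_⟩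
      · have := h1 i
        rw [Pi.sub_apply, hu] at this
        linarith
      · rw [Finset.sum_add_distrib]; omega
  · rintro ⟨m, hm, w, hw, y, h1, h2⟩
    rw [Finset.mem_insert, Finset.mem_singleton] at hm
    rcases hm with rfl | rfl
    · have hx2 : ∀ i, (2 : ℤ) ∣ x i := fun i => by rw [h1]; omega
      exact (param_even G hev hx2).2 ⟨w, hw, y, h1, h2⟩
    · have hx2 : ∀ i, (2 : ℤ) ∣ (x - x0) i := fun i => by rw [Pi.sub_apply, h1, hu]; omega
      have h3 : x - x0 ∈ M := (param_even G hev hx2).2 ⟨w, hw, fun i => y i - u i, fun i => by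
        rw [Pi.sub_apply, h1, hu]; ring, by rw [Finset.sum_sub_distrib]; omega⟩
      have := M.add_mem h3 hx0
      rwa [sub_add_cancel] at this

/-- the parity functional of the even vectors -/
theorem exists_tau : ∃ τ : GolayPt → ZMod 2, ∀ (w : GolayPt → ZMod 2) (y : E),
    (fun i => 2 * lf (w i) + 4 * y i) ∈ M → ((∑ i, y i : ℤ) : ZMod 2) = ∑ i, w i * τ i := by
  classical
  have hind : ∀ (w : GolayPt → ZMod 2) (y y' : E), (fun i => 2 * lf (w i) + 4 * y i) ∈ M →
      (fun i => 2 * lf (w i) + 4 * y' i) ∈ M → ((∑ i, y i : ℤ) : ZMod 2) = ((∑ i, y' i : ℤ) : ZMod 2) := by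
    intro w y y' h h'
    have h1 := M.sub_mem h h'
    have e : ((fun i => 2 * lf (w i) + 4 * y i) - fun i => 2 * lf (w i) + 4 * y' i) = fun i => 4 * (y i - y' i) := by
      funext i; rw [Pi.sub_apply]; ring
    rw [e] at h1
    have h2 := zero_par G h1
    rw [Finset.sum_sub_distrib] at h2
    rw [← sub_eq_zero, ← Int.cast_sub]
    exact (ZMod.intCast_zmod_eq_zero_iff_dvd _ 2).2 h2
  have hch : ∀ w : code M G, ∃ y : E, (fun i => 2 * lf ((w : GolayPt → ZMod 2) i) + 4 * y i) ∈ M := fun w => w.2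
  choose Y hY using hch
  let s0 : code M G →+ ZMod 2 := AddMonoidHom.mk' (fun w => ((∑ i, Y w i : ℤ) : ZMod 2)) (by
    intro w w'
    have h1 := M.add_mem (hY w) (hY w')
    have e : ((fun i => 2 * lf ((w : GolayPt → ZMod 2) i) + 4 * Y w i) + fun i => 2 * lf ((w' : GolayPt → ZMod 2) i) + 4 * Y w' i) =
        fun i => 2 * lf (((w + w' : code M G) : GolayPt → ZMod 2) i) +
          4 * (Y w i + Y w' i + lf ((w : GolayPt → ZMod 2) i) * lf ((w' : GolayPt → ZMod 2) i)) := by
      funext i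
      rw [Pi.add_apply, Submodule.coe_add, Pi.add_apply]
      have := lf_add ((w : GolayPt → ZMod 2) i) ((w' : GolayPt → ZMod 2) i)
      linarith
    rw [e] at h1
    rw [hind _ _ _ (hY (w + w')) h1]
    have h2 := even_dot G w.2 w'.2
    rw [Finset.sum_add_distrib, Finset.sum_add_distrib, Int.cast_add, Int.cast_add,
      (ZMod.intCast_zmod_eq_zero_iff_dvd _ 2).2 h2, add_zero])
  obtain ⟨g, hg⟩ := LinearMap.exists_extend (AddMonoidHom.toZModLinearMap 2 s0)
  refine ⟨fun i => g (fun j => if i = j then 1 else 0), fun w y h => ?_⟩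
  have h1 : g w = s0 ⟨w, y, h⟩ := by
    have := congrArg (fun f => f ⟨w, y, h⟩) hg
    exact this
  rw [LinearMap.pi_apply_eq_sum_univ g w] at h1
  have h2 : s0 ⟨w, y, h⟩ = ((∑ i, y i : ℤ) : ZMod 2) := hind w _ y (hY ⟨w, y, h⟩) h
  rw [← h2, ← h1]
  rfl

theorem exists_odd : ∃ x ∈ M, ∀ i, ¬ (2 : ℤ) ∣ x i := by
  classical
  by_contra hcon
  push Not at hcon
  have hall : ∀ x ∈ M, ∀ i, (2 : ℤ) ∣ x i := by
    intro x hx i
    obtain ⟨j, hj⟩ := hcon x hx
    have := G.par x hx i j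
    omega
  obtain ⟨τ, hτ⟩ := exists_tau G
  have G' := G.sg τ
  have hall' : ∀ x ∈ M.comap (sg τ), ∀ i, (2 : ℤ) ∣ x i := by
    intro x hx i
    have := hall _ hx i
    rw [sg_apply] at this
    rcases lf_cases (τ i) with h | h <;> rw [h] at this <;> omega
  have hev : ∀ (w : GolayPt → ZMod 2) (y : E), (fun i => 2 * lf (w i) + 4 * y i) ∈ M.comap (sg τ) →
      (2 : ℤ) ∣ ∑ i, y i := by
    intro w y h
    rw [AddSubgroup.mem_comap] at h
    have e : (sg τ fun i => 2 * lf (w i) + 4 * y i) =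
        fun i => 2 * lf (w i) + 4 * (y i - lf (τ i) * lf (w i) - 2 * (lf (τ i) * y i)) := by
      funext i
      rw [sg_apply]; ring
    rw [e] at h
    have h1 := hτ _ _ h
    have e2 : ((∑ i, lf (τ i) * lf (w i) : ℤ) : ZMod 2) = ∑ i, w i * τ i := by
      push_cast
      apply Finset.sum_congr rfl
      intro i _
      rw [cast_lf, cast_lf, mul_comm]
    rw [Finset.sum_sub_distrib, Finset.sum_sub_distrib, Int.cast_sub, Int.cast_sub, e2, ← Finset.mul_sum, Int.cast_mul] at h1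
    have h2 : ((2 : ℤ) : ZMod 2) = 0 := by decide
    rw [h2, zero_mul, sub_zero, sub_eq_iff_eq_add] at h1
    have h3 : ∀ a : ZMod 2, a + a = 0 := by decide
    rw [h3] at h1
    exact (ZMod.intCast_zmod_eq_zero_iff_dvd _ 2).1 h1
  haveI : Fintype (code _ G') := Fintype.ofFinite _
  let C : Finset (GolayPt → ZMod 2) := (code _ G' : Set (GolayPt → ZMod 2)).toFinite.toFinset
  have hC : ∀ w, w ∈ C ↔ w ∈ code _ G' := fun w => by
    rw [Set.Finite.mem_toFinset]; rfl
  have hcount := count_gen (M.comap (sg τ) : Set E) C {0} (by simp) (fun x => by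
    constructor
    · intro hx
      obtain ⟨w, hw, y, h1, h2⟩ := (param_even G' hev (hall' x hx)).1 hx
      exact ⟨0, by simp, w, (hC w).2 hw, y, h1, h2⟩
    · rintro ⟨m, hm, w, hw, y, h1, h2⟩
      rw [Finset.mem_singleton] at hm
      subst hm
      exact (param_even G' hev (fun i => by rw [h1]; omega)).2 ⟨w, (hC w).1 hw, y, h1, h2⟩)
  have c32 := hcount 32 (by norm_num)
  have c48 := hcount 48 (by norm_num)
  obtain ⟨a8, a12, h1, h2, h3, _, _⟩ := sums G' C hC
  rw [Finset.sum_singleton, h2] at c32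
  rw [Finset.sum_singleton, h3] at c48
  have h4 : C.card ≤ 4096 := by
    have e1 : C.card = Nat.card (code _ G') := by
      rw [← Set.ncard_eq_toFinset_card _ _, ← Nat.card_coe_set_eq]; rfl
    rw [e1, Module.natCard_eq_pow_finrank (K := ZMod 2), Nat.card_zmod]
    calc 2 ^ Module.finrank (ZMod 2) (code _ G') ≤ 2 ^ 12 := Nat.pow_le_pow_right (by norm_num) (dim_le G')
      _ = 4096 := by norm_num
  have e4 : {x | x ∈ (M.comap (sg τ) : Set E) ∧ sqNorm x = ((32 : ℕ) : ℤ)}.ncard = 196560 := G'.c4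
  have e6 : {x | x ∈ (M.comap (sg τ) : Set E) ∧ sqNorm x = ((48 : ℕ) : ℤ)}.ncard = 16773120 := G'.c6
  rw [e4] at c32
  rw [e6] at c48
  omega

/-- the normal form -/
theorem normal_form : ∃ (τ : GolayPt → ZMod 2) (e : GolayPt ≃ GolayPt), ∀ x : E,
    x ∈ Lam ↔ (fun i => (1 - 2 * lf (τ i)) * x (e i)) ∈ M := by
  classical
  obtain ⟨x1, hx1, hodd⟩ := exists_odd G
  let τ : GolayPt → ZMod 2 := fun i => if x1 i % 4 = 1 then 0 else 1
  have G' := G.sg τ
  have hx0 : sg τ x1 ∈ M.comap (sg τ) := by rw [AddSubgroup.mem_comap, sg_sg]; exact hx1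
  have hu : ∀ i, ∃ u, sg τ x1 i = 1 + 4 * u := by
    intro i
    have := hodd i
    by_cases h : x1 i % 4 = 1
    · refine ⟨x1 i / 4, ?_⟩
      have e : lf (τ i) = 0 := by rw [show τ i = 0 from if_pos h]; rfl
      rw [sg_apply, e]; omega
    · refine ⟨-(x1 i / 4) - 1, ?_⟩
      have e : lf (τ i) = 1 := by rw [show τ i = 1 from if_neg h]; rfl
      rw [sg_apply, e]; omega
  choose u hu using hu
  have hpar := param_odd G' hx0 hu
  haveI : Fintype (code _ G') := Fintype.ofFinite _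
  let C : Finset (GolayPt → ZMod 2) := (code _ G' : Set (GolayPt → ZMod 2)).toFinite.toFinset
  have hC : ∀ w, w ∈ C ↔ w ∈ code _ G' := fun w => by
    rw [Set.Finite.mem_toFinset]; rfl
  have hcount := count_gen (M.comap (sg τ) : Set E) C {0, 1} (by simp) (fun x => by
    rw [SetLike.mem_coe, hpar]
    constructor
    · rintro ⟨m, hm, w, hw, h⟩; exact ⟨m, hm, w, (hC w).2 hw, h⟩
    · rintro ⟨m, hm, w, hw, h⟩; exact ⟨m, hm, w, (hC w).1 hw, h⟩)
  have c32 := hcount 32 (by norm_num)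
  have c48 := hcount 48 (by norm_num)
  obtain ⟨a8, a12, h1, h2, h3, h4, h5⟩ := sums G' C hC
  rw [Finset.sum_insert (by decide), Finset.sum_singleton, h2, h4] at c32
  rw [Finset.sum_insert (by decide), Finset.sum_singleton, h3, h5] at c48
  have e4 : {x | x ∈ (M.comap (sg τ) : Set E) ∧ sqNorm x = ((32 : ℕ) : ℤ)}.ncard = 196560 := G'.c4
  have e6 : {x | x ∈ (M.comap (sg τ) : Set E) ∧ sqNorm x = ((48 : ℕ) : ℤ)}.ncard = 16773120 := G'.c6
  rw [e4] at c32
  rw [e6] at c48
  have e1 : C.card = 2 ^ Module.finrank (ZMod 2) (code _ G') := by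
    have : C.card = Nat.card (code _ G') := by
      rw [← Set.ncard_eq_toFinset_card _ _, ← Nat.card_coe_set_eq]; rfl
    rw [this, Module.natCard_eq_pow_finrank (K := ZMod 2), Nat.card_zmod]
  have hdim : Module.finrank (ZMod 2) (code _ G') = 12 := by
    have hle := dim_le G'
    by_contra hne
    have hlt : Module.finrank (ZMod 2) (code _ G') ≤ 11 := by omega
    generalize Module.finrank (ZMod 2) (code _ G') = k at *
    interval_cases k <;> omega
  obtain ⟨e, he⟩ := CfsgLib.CodeUniq.main card_pt (code _ G') hdim (fun w hw => by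
      have h := four_dvd_wt G' hw
      rw [sum_lf] at h
      have e : hammingNorm w = (support₂ w).card := rfl
      rw [e]
      exact_mod_cast h) (fun w hw => by
      have h := ne_four G' hw
      rw [sum_lf] at h
      have e : hammingNorm w = (support₂ w).card := rfl
      rw [e]
      exact_mod_cast h)
  refine ⟨τ, e, fun x => ?_⟩
  have h6 : (fun i => (1 - 2 * lf (τ i)) * x (e i)) ∈ M ↔ (fun i => x (e i)) ∈ M.comap (sg τ) := by
    rw [AddSubgroup.mem_comap]; rfl
  rw [h6, hpar]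
  constructor
  · intro hx
    obtain ⟨m, w, y, hm, h⟩ := exists_par hx
    refine ⟨m, ?_, fun i => w (e i), (he w).1 h.1, fun i => y (e i), fun i => h.2.1 (e i), ?_⟩
    · rw [Finset.mem_insert, Finset.mem_singleton]; exact hm
    · rw [Equiv.sum_comp e y]; exact h.2.2
  · rintro ⟨m, _, w, hw, y, h7, h8⟩
    refine ⟨m, fun i => w (e.symm i), fun i => y (e.symm i), ?_, fun i => ?_, ?_⟩
    · rw [he]
      have : (fun i => (fun i => w (e.symm i)) (e i)) = w := by funext i; simp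
      rw [this]; exact hw
    · have := h7 (e.symm i)
      simpa using this
    · rw [Equiv.sum_comp e.symm y]; exact h8

end

end CfsgLib.Frame
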