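import Cfsg.Agent.EqBase
import Mathlib
import Cfsg.Agent.LibFrameA
import Cfsg.Agent.LibFrameB

/-!
The frame theorem.
-/

set_option autoImplicit false
set_option linter.constructorNameAsVariable false

namespace CfsgLib.Frame

open Cfsg CfsgLib.Golay CfsgLib.M24 CfsgLib.Leech

section

variable {L : Type*} [AddCommGroup L] {B : L →+ L →+ ℤ}

/-- coordinates with respect to a frame -/
def coord (B : L →+ L →+ ℤ) (v : GolayPt → L) : L →+ E :=
  AddMonoidHom.mk' (fun x i => B x (v i)) (by intro a b; funext i; simp)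

theorem coord_apply (v : GolayPt → L) (x : L) (i : GolayPt) : coord B v x i = B x (v i) := rfl

/-- a frame -/
structure Fram (B : L →+ L →+ ℤ) (v : GolayPt → L) : Prop where
  nrm : ∀ i, B (v i) (v i) = 8
  orth : ∀ i j, i ≠ j → B (v i) (v j) = 0
  cong : ∀ i j, ∃ z, v i - v j = z + z

theorem pair_sum (y : L) (c : GolayPt → ℤ) (v : GolayPt → L) : B (∑ i, c i • v i) y = ∑ i, c i * B (v i) y := by
  rw [map_sum, AddMonoidHom.finsetSum_apply]
  apply Finset.sum_congr rfl
  intro i _
  rw [map_zsmul, AddMonoidHom.zsmul_apply, smul_eq_mul]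

theorem eight (H : Hyp B) {v : GolayPt → L} (hv : Fram B v) (x : L) : (8 : ℤ) • x = ∑ i, B x (v i) • v i := by
  classical
  have F := H.toEv
  obtain ⟨ι, hι⟩ := H.emb
  by_contra hne
  set y := (8 : ℤ) • x - ∑ i, B x (v i) • v i with hy
  have hy0 : y ≠ 0 := fun h => hne (sub_eq_zero.1 h)
  have hyv : ∀ j, B y (v j) = 0 := by
    intro j
    rw [hy, map_sub, AddMonoidHom.sub_apply, pair_sum, Finset.sum_eq_single j, map_zsmul,
      AddMonoidHom.zsmul_apply, smul_eq_mul, hv.nrm]
    · ring
    · intro i _ hij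
      rw [hv.orth i j hij, mul_zero]
    · intro h; exact absurd (Finset.mem_univ j) h
  have hinj : Function.Injective v := by
    intro i j hij
    by_contra h
    have h1 := hv.orth i j h
    rw [hij, hv.nrm] at h1
    omega
  have hnot : y ∉ Finset.univ.image v := by
    intro h
    obtain ⟨j, _, hj⟩ := Finset.mem_image.1 h
    have h1 := hyv j
    rw [← hj, hv.nrm] at h1
    omega
  have hv0 : ∀ i, v i ≠ 0 := by
    intro i h
    have h1 := hv.nrm i
    rw [h, map_zero_zero] at h1
    omega
  have h := F.card_orth ι hι (insert y (Finset.univ.image v)) (by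
    intro u hu
    rcases Finset.mem_insert.1 hu with h | h
    · rw [h]; exact hy0
    · obtain ⟨i, _, rfl⟩ := Finset.mem_image.1 h
      exact hv0 i) (by
    intro u hu u' hu' hne'
    rcases Finset.mem_insert.1 hu with h | h <;> rcases Finset.mem_insert.1 hu' with h' | h'
    · exact absurd (h.trans h'.symm) hne'
    · obtain ⟨j, _, rfl⟩ := Finset.mem_image.1 h'
      rw [h]; exact hyv j
    · obtain ⟨i, _, rfl⟩ := Finset.mem_image.1 h
      rw [h', F.symm]; exact hyv i
    · obtain ⟨i, _, rfl⟩ := Finset.mem_image.1 h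
      obtain ⟨j, _, rfl⟩ := Finset.mem_image.1 h'
      exact hv.orth i j fun e => hne' (by rw [e]))
  rw [Finset.card_insert_of_notMem hnot, Finset.card_image_of_injective _ hinj, Finset.card_univ, card_pt] at h
  omega

theorem parseval (H : Hyp B) {v : GolayPt → L} (hv : Fram B v) (x y : L) :
    ∑ i, coord B v x i * coord B v y i = 8 * B x y := by
  have h : B ((8 : ℤ) • x) y = B (∑ i, B x (v i) • v i) y := congrArg (fun z => B z y) (eight H hv x)
  rw [map_zsmul, AddMonoidHom.zsmul_apply, smul_eq_mul, pair_sum] at h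
  rw [h]
  apply Finset.sum_congr rfl
  intro i _
  rw [coord_apply, coord_apply, H.symm y]

theorem coord_inj (H : Hyp B) {v : GolayPt → L} (hv : Fram B v) : Function.Injective (coord B v) := by
  rw [injective_iff_map_eq_zero]
  intro x hx
  have h := parseval H hv x x
  rw [hx] at h
  apply H.toEv.eq_zero
  have : ∑ i, (0 : E) i * (0 : E) i = 0 := Finset.sum_eq_zero fun i _ => by simp
  rw [this] at h
  omega

theorem good (H : Hyp B) {v : GolayPt → L} (hv : Fram B v) : Good (coord B v).range where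
  par := by
    rintro _ ⟨x, rfl⟩ i j
    obtain ⟨z, hz⟩ := hv.cong i j
    rw [coord_apply, coord_apply, ← map_sub, hz, map_add]
    exact ⟨B x z, by ring⟩
  dot := by
    rintro _ ⟨x, rfl⟩ _ ⟨y, rfl⟩
    rw [parseval H hv]; exact ⟨_, rfl⟩
  n16 := by
    rintro _ ⟨x, rfl⟩
    have h := parseval H hv x x
    simp only [← pow_two] at h
    rw [h]
    obtain ⟨k, hk⟩ := H.even x
    exact ⟨k, by rw [hk]; ring⟩
  ne16 := by
    rintro _ ⟨x, rfl⟩ h0
    have h := parseval H hv x x
    simp only [← pow_two] at h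
    rw [h] at h0
    apply H.no2 x
    omega
  d24 := by
    intro d hd
    obtain ⟨k, hk⟩ := hd
    choose z hz using fun i => hv.cong i none
    refine ⟨∑ i, d i • z i + k • v none, ?_⟩
    funext j
    rw [coord_apply, map_add, AddMonoidHom.add_apply, pair_sum, map_zsmul, AddMonoidHom.zsmul_apply, smul_eq_mul]
    have h1 : ∀ i, 2 * B (z i) (v j) = B (v i) (v j) - B (v none) (v j) := by
      intro i
      have := congrArg (fun u => B u (v j)) (hz i)
      simp only [map_sub, map_add, AddMonoidHom.sub_apply, AddMonoidHom.add_apply] at this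
      linarith
    have h2 : 2 * ∑ i, d i * B (z i) (v j) = 8 * d j - (2 * k) * B (v none) (v j) := by
      rw [← hk, Finset.mul_sum, Finset.sum_mul]
      have : ∀ i, 2 * (d i * B (z i) (v j)) = d i * B (v i) (v j) - d i * B (v none) (v j) := by
        intro i
        rw [← mul_sub, ← h1]; ring
      rw [Finset.sum_congr rfl fun i _ => this i, Finset.sum_sub_distrib, Finset.sum_eq_single j]
      · rw [hv.nrm]; ring
      · intro i _ hij
        rw [hv.orth i j hij, mul_zero]
      · intro h; exact absurd (Finset.mem_univ j) h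
    linarith
  c4 := by
    have : {x | x ∈ (coord B v).range ∧ sqNorm x = 32} = coord B v '' {x | B x x = 4} := by
      ext y
      constructor
      · rintro ⟨⟨x, rfl⟩, h⟩
        refine ⟨x, ?_, rfl⟩
        have h1 := parseval H hv x x
        simp only [← pow_two] at h1
        rw [sqNorm, h1] at h
        change B x x = 4
        omega
      · rintro ⟨x, hx, rfl⟩
        refine ⟨⟨x, rfl⟩, ?_⟩
        have h1 := parseval H hv x x
        simp only [← pow_two] at h1
        have hx' : B x x = 4 := hx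
        rw [sqNorm, h1, hx']; rfl
    rw [this, Set.ncard_image_of_injective _ (coord_inj H hv), H.c4]
  c6 := by
    have : {x | x ∈ (coord B v).range ∧ sqNorm x = 48} = coord B v '' {x | B x x = 6} := by
      ext y
      constructor
      · rintro ⟨⟨x, rfl⟩, h⟩
        refine ⟨x, ?_, rfl⟩
        have h1 := parseval H hv x x
        simp only [← pow_two] at h1
        rw [sqNorm, h1] at h
        change B x x = 6
        omega
      · rintro ⟨x, hx, rfl⟩
        refine ⟨⟨x, rfl⟩, ?_⟩
        have h1 := parseval H hv x x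
        simp only [← pow_two] at h1
        have hx' : B x x = 6 := hx
        rw [sqNorm, h1, hx']; rfl
    rw [this, Set.ncard_image_of_injective _ (coord_inj H hv), H.c6]

/-- The frame theorem: an isometry onto the standard lattice taking a given vector of norm 8 to a coordinate vector. -/
theorem frame_iso (H : Hyp B) {x : L} (hx : B x x = 8) : ∃ f : L ≃+ Lam,
    (∀ a b, ∑ i, (f a : E) i * (f b : E) i = 8 * B a b) ∧
    ∃ (i : GolayPt) (s : ℤ), (s = 8 ∨ s = -8) ∧ (f x : E) = Pi.single i s := by
  classical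
  obtain ⟨v, h1, h2, h3, i0, hi0⟩ := exists_frame H hx
  have hv : Fram B v := ⟨h1, h2, h3⟩
  obtain ⟨τ, e, he⟩ := normal_form (good H hv)
  let φ : L →+ E := AddMonoidHom.mk' (fun a j => (1 - 2 * lf (τ (e.symm j))) * coord B v a (e.symm j)) (by
    intro a b; funext j; simp only [map_add, Pi.add_apply]; ring)
  have hφ : ∀ a j, φ a j = (1 - 2 * lf (τ (e.symm j))) * coord B v a (e.symm j) := fun _ _ => rfl
  have hφ2 : ∀ a i, (1 - 2 * lf (τ i)) * φ a (e i) = coord B v a i := by
    intro a i
    rw [hφ, e.symm_apply_apply, ← mul_assoc, sgn_sq, one_mul]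
  have hmem : ∀ a, φ a ∈ Lam := by
    intro a
    rw [he]
    have : (fun i => (1 - 2 * lf (τ i)) * φ a (e i)) = coord B v a := by funext i; exact hφ2 a i
    rw [this]
    exact ⟨a, rfl⟩
  have hsum : ∀ a b, ∑ i, φ a i * φ b i = 8 * B a b := by
    intro a b
    rw [← parseval H hv a b, ← Equiv.sum_comp e]
    apply Finset.sum_congr rfl
    intro i _
    rw [← hφ2 a i, ← hφ2 b i]
    have := sgn_sq (τ i)
    linear_combination -(φ a (e i) * φ b (e i)) * this
  let ψ : L →+ Lam := φ.codRestrict Lam hmem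
  have hψ : ∀ a, (ψ a : E) = φ a := fun _ => rfl
  have hbij : Function.Bijective ψ := by
    constructor
    · rw [injective_iff_map_eq_zero]
      intro a ha
      have ha' : φ a = 0 := by rw [← hψ, ha]; rfl
      have h := hsum a a
      rw [ha'] at h
      apply H.toEv.eq_zero
      have : ∑ i, (0 : E) i * (0 : E) i = 0 := Finset.sum_eq_zero fun i _ => by simp
      rw [this] at h
      omega
    · rintro ⟨y, hy⟩
      rw [he] at hy
      obtain ⟨a, ha⟩ := hy
      refine ⟨a, Subtype.ext ?_⟩
      rw [hψ]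
      funext j
      rw [hφ, ha]
      simp only
      rw [e.apply_symm_apply, ← mul_assoc, sgn_sq, one_mul]
  refine ⟨AddEquiv.ofBijective ψ hbij, fun a b => hsum a b, ?_⟩
  have hvi : ∀ (i : GolayPt), φ (v i) = Pi.single (e i) ((1 - 2 * lf (τ i)) * 8) := by
    intro i
    funext j
    rw [hφ, coord_apply]
    by_cases hj : j = e i
    · subst hj
      rw [e.symm_apply_apply, hv.nrm, Pi.single_eq_same]
    · rw [Pi.single_eq_of_ne hj, hv.orth, mul_zero]
      intro h
      apply hj
      rw [h, e.apply_symm_apply]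
  change ∃ (i : GolayPt) (s : ℤ), (s = 8 ∨ s = -8) ∧ φ x = Pi.single i s
  rcases hi0 with rfl | rfl
  · refine ⟨e i0, _, ?_, hvi i0⟩
    rcases lf_cases (τ i0) with h | h <;> rw [h] <;> omega
  · refine ⟨e i0, -((1 - 2 * lf (τ i0)) * 8), ?_, ?_⟩
    · rcases lf_cases (τ i0) with h | h <;> rw [h] <;> omega
    · rw [map_neg, hvi i0, ← Pi.single_neg]

end

/-! ### the standard lattice -/

theorem dvd_dot {x y : E} (hx : x ∈ Lam) (hy : y ∈ Lam) : (8 : ℤ) ∣ ∑ i, x i * y i := by
  have h1 := dvd_sqNorm hx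
  have h2 := dvd_sqNorm hy
  have h3 := dvd_sqNorm (Lam.add_mem hx hy)
  have e : sqNorm (x + y) = sqNorm x + sqNorm y + 2 * ∑ i, x i * y i := by
    rw [sqNorm, sqNorm, sqNorm, Finset.mul_sum, ← Finset.sum_add_distrib, ← Finset.sum_add_distrib]
    apply Finset.sum_congr rfl
    intro i _
    rw [Pi.add_apply]; ring
  omega

/-- the form on the standard lattice -/
def BL : Lam →+ Lam →+ ℤ :=
  AddMonoidHom.mk' (fun x => AddMonoidHom.mk' (fun y => (∑ i, (x : E) i * (y : E) i) / 8) (by
    intro a b
    obtain ⟨p, hp⟩ := dvd_dot x.2 a.2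
    obtain ⟨q, hq⟩ := dvd_dot x.2 b.2
    have : ∑ i, (x : E) i * ((a + b : Lam) : E) i = ∑ i, (x : E) i * (a : E) i + ∑ i, (x : E) i * (b : E) i := by
      rw [← Finset.sum_add_distrib]
      apply Finset.sum_congr rfl
      intro i _
      rw [AddSubgroup.coe_add, Pi.add_apply]; ring
    rw [this, hp, hq]; omega)) (by
    intro a b
    ext x
    change (∑ i, ((a + b : Lam) : E) i * (x : E) i) / 8 = (∑ i, (a : E) i * (x : E) i) / 8 + (∑ i, (b : E) i * (x : E) i) / 8
    obtain ⟨p, hp⟩ := dvd_dot a.2 x.2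
    obtain ⟨q, hq⟩ := dvd_dot b.2 x.2
    have : ∑ i, ((a + b : Lam) : E) i * (x : E) i = ∑ i, (a : E) i * (x : E) i + ∑ i, (b : E) i * (x : E) i := by
      rw [← Finset.sum_add_distrib]
      apply Finset.sum_congr rfl
      intro i _
      rw [AddSubgroup.coe_add, Pi.add_apply]; ring
    rw [this, hp, hq]; omega)

theorem BL_mul (x y : Lam) : 8 * BL x y = ∑ i, (x : E) i * (y : E) i := by
  obtain ⟨p, hp⟩ := dvd_dot x.2 y.2
  change 8 * ((∑ i, (x : E) i * (y : E) i) / 8) = _
  rw [hp]; omega

theorem BL_self (x : Lam) : 8 * BL x x = sqNorm (x : E) := by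
  rw [BL_mul, sqNorm]
  apply Finset.sum_congr rfl
  intro i _
  ring

theorem ncard_BL (n N : ℤ) (h : 8 * n = N) : {x : Lam | BL x x = n}.ncard = {x : E | x ∈ Lam ∧ sqNorm x = N}.ncard := by
  have : {x : E | x ∈ Lam ∧ sqNorm x = N} = Subtype.val '' {x : Lam | BL x x = n} := by
    ext x
    constructor
    · rintro ⟨h1, h2⟩
      refine ⟨⟨x, h1⟩, ?_, rfl⟩
      have := BL_self ⟨x, h1⟩
      have h2' : sqNorm ((⟨x, h1⟩ : Lam) : E) = N := h2
      rw [h2'] at this
      change BL _ _ = n
      omega
    · rintro ⟨⟨x, h1⟩, h2, rfl⟩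
      refine ⟨h1, ?_⟩
      have := BL_self ⟨x, h1⟩
      have h2' : BL ⟨x, h1⟩ ⟨x, h1⟩ = n := h2
      rw [h2'] at this
      rw [← this]; exact h
  rw [this, Set.ncard_image_of_injective _ Subtype.val_injective]

theorem dbl_inj : Function.Injective dbl := by
  intro a b h
  funext i
  have := congrFun h i
  rw [dbl_apply, dbl_apply] at this
  omega

theorem index_dbl : (dbl.range).index = 2 ^ 24 := by
  rw [range_dbl, AddSubgroup.index_ker]
  rw [AddMonoidHom.range_eq_top.2 f1_surjective]
  rw [← card_words]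
  exact AddSubgroup.card_top

theorem dblSub_Lam : (dblSub Lam).index = 2 ^ 24 := by
  have h0 : dblSub Lam = (Lam.map dbl).addSubgroupOf Lam := by
    ext x
    rw [mem_dblSub, AddSubgroup.mem_addSubgroupOf, AddSubgroup.mem_map]
    constructor
    · rintro ⟨z, hz⟩
      refine ⟨z, z.2, ?_⟩
      funext i
      rw [dbl_apply, hz, AddSubgroup.coe_add, Pi.add_apply]; ring
    · rintro ⟨z, hz, h⟩
      refine ⟨⟨z, hz⟩, Subtype.ext ?_⟩
      rw [← h, AddSubgroup.coe_add]
      funext i
      rw [dbl_apply, Pi.add_apply]; ring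
  have hle : Lam.map dbl ≤ Lam := by
    rintro _ ⟨z, hz, rfl⟩
    have : dbl z = z + z := by funext i; rw [dbl_apply, Pi.add_apply]; ring
    rw [this]; exact Lam.add_mem hz hz
  have h1 : (Lam.map dbl).relIndex Lam * Lam.index = (Lam.map dbl).index := AddSubgroup.relIndex_mul_index hle
  have h2 : (Lam.map dbl).relIndex ((⊤ : AddSubgroup E).map dbl) * ((⊤ : AddSubgroup E).map dbl).index = (Lam.map dbl).index :=
    AddSubgroup.relIndex_mul_index (AddSubgroup.map_mono le_top)
  rw [AddSubgroup.relIndex_map_map_of_injective _ _ dbl_inj, ← AddMonoidHom.range_eq_map, index_dbl,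
    AddSubgroup.relIndex_top_right] at h2
  rw [h0]
  change (Lam.map dbl).relIndex Lam = _
  rw [← h2, index_Lam] at h1
  have h3 : (0 : ℕ) < 2 ^ 36 := by norm_num
  rw [mul_comm (2 ^ 36) (2 ^ 24)] at h1
  exact Nat.eq_of_mul_eq_mul_right h3 h1

theorem hyp_Lam : Hyp BL where
  symm x y := by
    have h1 := BL_mul x y
    have h2 := BL_mul y x
    have : ∑ i, (x : E) i * (y : E) i = ∑ i, (y : E) i * (x : E) i := Finset.sum_congr rfl fun i _ => mul_comm _ _
    omega
  pos x hx := by
    have h1 := BL_self x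
    have h2 := min_norm x.2 (fun h => hx (Subtype.ext h))
    omega
  even x := by
    have h1 := BL_self x
    have h2 := dvd_sqNorm x.2
    omega
  no2 x := by
    intro h
    have h1 := BL_self x
    rw [h] at h1
    have hx : (x : E) ≠ 0 := by
      intro h0
      have : sqNorm (x : E) = 0 := by rw [h0, sqNorm]; exact Finset.sum_eq_zero fun i _ => by simp
      omega
    have h2 := min_norm x.2 hx
    omega
  emb := ⟨Lam.subtype, Subtype.val_injective⟩
  idx := dblSub_Lam
  c4 := by rw [ncard_BL 4 32 (by norm_num)]; exact shell32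
  c6 := by rw [ncard_BL 6 48 (by norm_num)]; exact shell48
  c8 := by rw [ncard_BL 8 64 (by norm_num)]; exact shell64

end CfsgLib.Frame
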