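import Cfsg.Agent.EqBase
import Mathlib
import Cfsg.Agent.LibFrameC
import Cfsg.Agent.S0366
import Cfsg.Agent.S0364

/-!
The automorphism group of the rank 24 lattice: basic facts.
-/

set_option autoImplicit false
set_option linter.constructorNameAsVariable false

namespace CfsgLib.Co

open Cfsg CfsgLib.Golay CfsgLib.M24 CfsgLib.Leech CfsgLib.Frame

/-- the lattice as a type -/
abbrev LL : Type := ↥leechLattice

theorem mem_LL {x : E} : x ∈ leechLattice ↔ x ∈ Lam := by rw [leechLattice_eq]

/-! ### dot products -/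

theorem dot_add_left (x y z : E) : dotInt (x + y) z = dotInt x z + dotInt y z := by
  simp only [dotInt, Pi.add_apply, add_mul, Finset.sum_add_distrib]

theorem dot_comm (x y : E) : dotInt x y = dotInt y x := by
  simp only [dotInt, mul_comm]

theorem dot_add_right (x y z : E) : dotInt x (y + z) = dotInt x y + dotInt x z := by
  rw [dot_comm, dot_add_left, dot_comm y, dot_comm z]

theorem dot_neg_left (x y : E) : dotInt (-x) y = -dotInt x y := by
  simp only [dotInt, Pi.neg_apply, neg_mul, Finset.sum_neg_distrib]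

theorem dot_neg_right (x y : E) : dotInt x (-y) = -dotInt x y := by
  rw [dot_comm, dot_neg_left, dot_comm y]

theorem dot_sub_left (x y z : E) : dotInt (x - y) z = dotInt x z - dotInt y z := by
  rw [sub_eq_add_neg, dot_add_left, dot_neg_left]; ring

theorem dot_sub_right (x y z : E) : dotInt x (y - z) = dotInt x y - dotInt x z := by
  rw [dot_comm, dot_sub_left, dot_comm y, dot_comm z]

theorem sqNorm_dot (x : E) : sqNorm x = dotInt x x := by
  simp only [sqNorm, dotInt, pow_two]

theorem dot_single_left (i : GolayPt) (a : ℤ) (y : E) : dotInt (Pi.single i a) y = a * y i := by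
  rw [dotInt, Finset.sum_eq_single i]
  · rw [Pi.single_eq_same]
  · intro j _ hj
    rw [Pi.single_eq_of_ne hj, zero_mul]
  · intro h; exact absurd (Finset.mem_univ i) h

theorem dot_single_right (i : GolayPt) (a : ℤ) (y : E) : dotInt y (Pi.single i a) = a * y i := by
  rw [dot_comm, dot_single_left]

theorem sqNorm_add (x y : E) : sqNorm (x + y) = sqNorm x + sqNorm y + 2 * dotInt x y := by
  rw [sqNorm_dot, sqNorm_dot, sqNorm_dot, dot_add_left, dot_add_right, dot_add_right, dot_comm y x]; ring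

theorem sqNorm_sub (x y : E) : sqNorm (x - y) = sqNorm x + sqNorm y - 2 * dotInt x y := by
  rw [sqNorm_dot, sqNorm_dot, sqNorm_dot, dot_sub_left, dot_sub_right, dot_sub_right, dot_comm y x]; ring

theorem sqNorm_neg (x : E) : sqNorm (-x) = sqNorm x := by
  rw [sqNorm_dot, sqNorm_dot, dot_neg_left, dot_neg_right, neg_neg]

/-! ### the group -/

theorem act_add (g : Co0) (v w : LL) : g • (v + w) = g • v + g • w := g.2.1 v w

theorem act_norm (g : Co0) (v : LL) : sqNorm ((g • v : LL) : E) = sqNorm (v : E) := g.2.2 v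

/-- the action as a homomorphism -/
def actHom (g : Co0) : LL →+ LL := AddMonoidHom.mk' (fun v => g • v) (act_add g)

theorem act_neg (g : Co0) (v : LL) : g • (-v) = -(g • v) := map_neg (actHom g) v

theorem act_sub (g : Co0) (v w : LL) : g • (v - w) = g • v - g • w := map_sub (actHom g) v w

theorem act_zsmul (g : Co0) (n : ℤ) (v : LL) : g • (n • v) = n • (g • v) := map_zsmul (actHom g) n v

theorem act_sum {ι : Type*} (s : Finset ι) (g : Co0) (f : ι → LL) : g • (∑ i ∈ s, f i) = ∑ i ∈ s, g • f i :=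
  map_sum (actHom g) f s

theorem act_dot (g : Co0) (v w : LL) : dotInt ((g • v : LL) : E) ((g • w : LL) : E) = dotInt (v : E) (w : E) := by
  have h1 := act_norm g (v + w)
  rw [act_add, AddSubgroup.coe_add, AddSubgroup.coe_add, sqNorm_add, sqNorm_add, act_norm, act_norm] at h1
  omega

/-- building elements -/
def mkCo (f : LL ≃+ LL) (h : ∀ v, sqNorm ((f v : LL) : E) = sqNorm (v : E)) : Co0 :=
  ⟨f.toEquiv, f.map_add, h⟩

theorem mkCo_apply (f : LL ≃+ LL) (h : ∀ v, sqNorm ((f v : LL) : E) = sqNorm (v : E)) (v : LL) :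
    mkCo f h • v = f v := rfl

theorem co_ext {g h : Co0} (H : ∀ v : LL, g • v = h • v) : g = h := by
  apply Subtype.ext
  apply Equiv.ext
  exact H

/-- identification with the parametrised lattice -/
def toLam : LL ≃+ Lam := AddEquiv.addSubgroupCongr leechLattice_eq

theorem toLam_coe (v : LL) : (toLam v : E) = (v : E) := rfl

theorem toLam_symm_coe (v : Lam) : (toLam.symm v : E) = (v : E) := rfl

/-! ### monomial elements -/

/-- the monomial map -/
def monoFun (σ : Equiv.Perm GolayPt) (c : GolayPt → ZMod 2) (x : E) : E := fun i => (1 - 2 * lf (c i)) * x (σ i)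

theorem monoFun_add (σ : Equiv.Perm GolayPt) (c : GolayPt → ZMod 2) (x y : E) :
    monoFun σ c (x + y) = monoFun σ c x + monoFun σ c y := by
  funext i
  simp only [monoFun, Pi.add_apply]; ring

theorem monoFun_mem {σ : Equiv.Perm GolayPt} (hσ : σ ∈ M24) {c : GolayPt → ZMod 2} (hc : c ∈ golayCode) {x : E}
    (hx : x ∈ Lam) : monoFun σ c x ∈ Lam := by
  have h := sign_mem hc (perm_mem hσ hx)
  have e : monoFun σ c x = fun i => if c i ≠ 0 then -x (σ i) else x (σ i) := by
    funext i
    rw [monoFun]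
    by_cases hi : c i = 0
    · simp [hi, lf_zero]
    · have hc1 : c i = 1 := by
        have : ∀ a : ZMod 2, a ≠ 0 → a = 1 := by decide
        exact this _ hi
      simp [hc1, lf_one]
  rw [e]; exact h

theorem monoFun_norm (σ : Equiv.Perm GolayPt) (c : GolayPt → ZMod 2) (x : E) : sqNorm (monoFun σ c x) = sqNorm x := by
  rw [sqNorm, sqNorm, ← Equiv.sum_comp σ (fun i => x i ^ 2)]
  apply Finset.sum_congr rfl
  intro i _
  rw [monoFun]
  have := sgn_sq (c i)
  linear_combination (x (σ i)) ^ 2 * this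

theorem monoFun_comp (σ τ : Equiv.Perm GolayPt) (c d : GolayPt → ZMod 2) (x : E) :
    monoFun σ c (monoFun τ d x) = monoFun (τ * σ) (fun i => c i + d (σ i)) x := by
  funext i
  rw [monoFun, monoFun, monoFun, ← mul_assoc, Equiv.Perm.mul_apply]
  congr 1
  have : ∀ a b : ZMod 2, (1 - 2 * lf a) * (1 - 2 * lf b) = 1 - 2 * lf (a + b) := by decide
  exact this _ _

theorem monoFun_one (x : E) : monoFun 1 (fun _ => 0) x = x := by
  funext i
  rw [monoFun, lf_zero]; simp

theorem comp_mem {σ : Equiv.Perm GolayPt} (hσ : σ ∈ M24) {c : GolayPt → ZMod 2} (hc : c ∈ golayCode) :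
    (fun i => c (σ i)) ∈ golayCode := by
  have h := (mem_M24_iff' σ⁻¹).1 (inv_mem hσ) c hc
  rwa [inv_inv] at h

/-- monomial elements of the group -/
def mono (σ : Equiv.Perm GolayPt) (hσ : σ ∈ M24) (c : GolayPt → ZMod 2) (hc : c ∈ golayCode) : Co0 :=
  mkCo
    { toFun := fun v => ⟨monoFun σ c v, mem_LL.2 (monoFun_mem hσ hc (mem_LL.1 v.2))⟩
      invFun := fun v => ⟨monoFun σ⁻¹ (fun i => c (σ⁻¹ i)) v,
        mem_LL.2 (monoFun_mem (inv_mem hσ) (comp_mem (inv_mem hσ) hc) (mem_LL.1 v.2))⟩
      left_inv := fun v => by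
        apply Subtype.ext
        change monoFun σ⁻¹ (fun i => c (σ⁻¹ i)) (monoFun σ c v) = v
        rw [monoFun_comp, mul_inv_cancel]
        have : (fun i => c (σ⁻¹ i) + c (σ⁻¹ i)) = fun _ => 0 := by
          funext i
          have : ∀ a : ZMod 2, a + a = 0 := by decide
          exact this _
        rw [this, monoFun_one]
      right_inv := fun v => by
        apply Subtype.ext
        change monoFun σ c (monoFun σ⁻¹ (fun i => c (σ⁻¹ i)) v) = v
        rw [monoFun_comp, inv_mul_cancel]
        have : (fun i => c i + c (σ⁻¹ (σ i))) = fun _ => 0 := by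
          funext i
          have : ∀ a : ZMod 2, a + a = 0 := by decide
          rw [← Equiv.Perm.mul_apply, inv_mul_cancel, Equiv.Perm.one_apply]
          exact this _
        rw [this, monoFun_one]
      map_add' := fun v w => Subtype.ext (monoFun_add σ c v w) }
    (fun v => monoFun_norm σ c v)

theorem mono_apply {σ : Equiv.Perm GolayPt} (hσ : σ ∈ M24) {c : GolayPt → ZMod 2} (hc : c ∈ golayCode) (v : LL)
    (i : GolayPt) : ((mono σ hσ c hc • v : LL) : E) i = (1 - 2 * lf (c i)) * (v : E) (σ i) := rfl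

/-- negation -/
def negCo : Co0 := mkCo (AddEquiv.neg LL) (fun v => sqNorm_neg v)

theorem negCo_apply (v : LL) : negCo • v = -v := rfl

/-! ### transitivity properties of the monomial group -/

/-- `M24` is transitive on ordered tuples of five points -/
theorem m24_trans (x y : Fin 5 ↪ GolayPt) : ∃ σ ∈ M24, ∀ i, σ (x i) = y i := by
  haveI := Cfsg.Agent.S0366.result
  obtain ⟨g, hg⟩ := MulAction.exists_smul_eq M24 x y
  exact ⟨g, g.2, fun i => congrArg (fun f => f i) hg⟩

/-- extending partial injections -/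
theorem exists_emb {s : Finset (Fin 5)} (f : Fin 5 → GolayPt) (hf : ∀ i ∈ s, ∀ j ∈ s, f i = f j → i = j) :
    ∃ x : Fin 5 ↪ GolayPt, ∀ i ∈ s, x i = f i := by
  classical
  have hcard : (Finset.univ \ s).card ≤ (Finset.univ \ s.image f).card := by
    rw [Finset.card_sdiff_of_subset (Finset.subset_univ _), Finset.card_sdiff_of_subset (Finset.subset_univ _),
      Finset.card_univ, Finset.card_univ, card_pt, Fintype.card_fin]
    have := Finset.card_image_le (s := s) (f := f)
    have h2 : s.card ≤ 5 := by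
      have := Finset.card_le_univ s
      rwa [Fintype.card_fin] at this
    omega
  obtain ⟨t, ht, htc⟩ := Finset.exists_subset_card_eq hcard
  have hc : Fintype.card ↥(Finset.univ \ s) = Fintype.card ↥t := by
    rw [Fintype.card_coe, Fintype.card_coe, htc]
  let e : ↥(Finset.univ \ s) ≃ ↥t := Fintype.equivOfCardEq hc
  have hmem : ∀ i, i ∉ s → i ∈ Finset.univ \ s := fun i hi => Finset.mem_sdiff.2 ⟨Finset.mem_univ i, hi⟩
  have hte : ∀ (i : Fin 5) (hi : i ∉ s), (e ⟨i, hmem i hi⟩ : GolayPt) ∉ s.image f := fun i hi =>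
    (Finset.mem_sdiff.1 (ht (e ⟨i, hmem i hi⟩).2)).2
  refine ⟨⟨fun i => if hi : i ∈ s then f i else e ⟨i, hmem i hi⟩, ?_⟩, fun i hi => ?_⟩
  · intro i j hij
    simp only at hij
    by_cases hi : i ∈ s <;> by_cases hj : j ∈ s
    · rw [dif_pos hi, dif_pos hj] at hij
      exact hf i hi j hj hij
    · rw [dif_pos hi, dif_neg hj] at hij
      exact absurd (Finset.mem_image.2 ⟨i, hi, hij⟩) (hte j hj)
    · rw [dif_neg hi, dif_pos hj] at hij
      exact absurd (Finset.mem_image.2 ⟨j, hj, hij.symm⟩) (hte i hi)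
    · rw [dif_neg hi, dif_neg hj] at hij
      have := congrArg Subtype.val (e.injective (Subtype.ext hij))
      exact this
  · exact dif_pos hi

/-- `M24` on triples -/
theorem m24_three {a b c a' b' c' : GolayPt} (hab : a ≠ b) (hac : a ≠ c) (hbc : b ≠ c) (hab' : a' ≠ b')
    (hac' : a' ≠ c') (hbc' : b' ≠ c') : ∃ σ ∈ M24, σ a = a' ∧ σ b = b' ∧ σ c = c' := by
  classical
  obtain ⟨x, hx⟩ := exists_emb (s := {0, 1, 2}) ![a, b, c, a, a] (by
    intro i hi j hj h
    fin_cases i <;> fin_cases j <;> simp_all)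
  obtain ⟨y, hy⟩ := exists_emb (s := {0, 1, 2}) ![a', b', c', a', a'] (by
    intro i hi j hj h
    fin_cases i <;> fin_cases j <;> simp_all)
  obtain ⟨σ, hσ, h⟩ := m24_trans x y
  refine ⟨σ, hσ, ?_, ?_, ?_⟩
  · have := h 0
    rw [hx 0 (by decide), hy 0 (by decide)] at this
    exact this
  · have := h 1
    rw [hx 1 (by decide), hy 1 (by decide)] at this
    exact this
  · have := h 2
    rw [hx 2 (by decide), hy 2 (by decide)] at this
    exact this

theorem exists_third (a b : GolayPt) : ∃ c, a ≠ c ∧ b ≠ c := by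
  have h : ({a, b} : Finset GolayPt).card < (Finset.univ : Finset GolayPt).card := by
    rw [Finset.card_univ, card_pt]
    have := Finset.card_le_two (a := a) (b := b)
    omega
  obtain ⟨c, _, hc⟩ := Finset.exists_mem_notMem_of_card_lt_card h
  rw [Finset.mem_insert, Finset.mem_singleton, not_or] at hc
  exact ⟨c, Ne.symm hc.1, Ne.symm hc.2⟩

/-- `M24` on pairs -/
theorem m24_two {a b a' b' : GolayPt} (hab : a ≠ b) (hab' : a' ≠ b') : ∃ σ ∈ M24, σ a = a' ∧ σ b = b' := by
  obtain ⟨c, h1, h2⟩ := exists_third a b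
  obtain ⟨c', h1', h2'⟩ := exists_third a' b'
  obtain ⟨σ, hσ, e1, e2, _⟩ := m24_three hab h1 h2 hab' h1' h2'
  exact ⟨σ, hσ, e1, e2⟩

/-- `M24` on points -/
theorem m24_one (a a' : GolayPt) : ∃ σ ∈ M24, σ a = a' := by
  obtain ⟨b, h1, _⟩ := exists_third a a
  obtain ⟨b', h1', _⟩ := exists_third a' a'
  obtain ⟨σ, hσ, e1, _⟩ := m24_two h1 h1'
  exact ⟨σ, hσ, e1⟩

end CfsgLib.Co
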