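import Cfsg.Agent.EqBase
import Mathlib
import Cfsg.Agent.LibCoA

/-!
Shapes of short lattice vectors.
-/

set_option autoImplicit false
set_option linter.constructorNameAsVariable false

namespace CfsgLib.Co

open Cfsg CfsgLib.Golay CfsgLib.M24 CfsgLib.Leech CfsgLib.Frame

/-! ### codewords with prescribed values at three points -/

/-- kernel check of the values at three points -/
def chk3 : Bool := [true, false].all fun a => [true, false].all fun b => [true, false].all fun c =>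
  (List.range 4096).any fun k => and (and (Nat.testBit (cw k) 23 == a) (Nat.testBit (cw k) 0 == b)) (Nat.testBit (cw k) 1 == c)

theorem chk3_true : chk3 = true := by decide +kernel

theorem base3 (t1 t2 t3 : ZMod 2) : ∃ w ∈ golayCode, w none = t1 ∧ w (some 0) = t2 ∧ w (some 1) = t3 := by
  have key := chk3_true
  simp only [chk3, List.all_eq_true, List.any_eq_true, Bool.and_eq_true, beq_iff_eq] at key
  obtain ⟨k, _, ⟨h1, h2⟩, h3⟩ := key (decide (t1 = 1)) (by cases decide (t1 = 1) <;> simp) (decide (t2 = 1))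
    (by cases decide (t2 = 1) <;> simp) (decide (t3 = 1)) (by cases decide (t3 = 1) <;> simp)
  have i1 : idx none = 23 := by decide
  have i2 : idx (some 0) = 0 := by decide
  have i3 : idx (some 1) = 1 := by decide
  have hd : ∀ t : ZMod 2, (if decide (t = 1) = true then (1 : ZMod 2) else 0) = t := by decide
  refine ⟨word (cw k), word_cw_mem k, ?_, ?_, ?_⟩
  · rw [word, i1, h1, hd]
  · rw [word, i2, h2, hd]
  · rw [word, i3, h3, hd]

theorem code3 {a b c : GolayPt} (hab : a ≠ b) (hac : a ≠ c) (hbc : b ≠ c) (t1 t2 t3 : ZMod 2) :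
    ∃ w ∈ golayCode, w a = t1 ∧ w b = t2 ∧ w c = t3 := by
  obtain ⟨σ, hσ, h1, h2, h3⟩ := m24_three hab hac hbc (show (none : GolayPt) ≠ some 0 by decide)
    (show (none : GolayPt) ≠ some 1 by decide) (show (some 0 : GolayPt) ≠ some 1 by decide)
  obtain ⟨w, hw, e1, e2, e3⟩ := base3 t1 t2 t3
  refine ⟨fun i => w (σ i), comp_mem hσ hw, ?_, ?_, ?_⟩
  · simp only [h1]; exact e1
  · simp only [h2]; exact e2
  · simp only [h3]; exact e3

theorem code2 {a b : GolayPt} (hab : a ≠ b) (t1 t2 : ZMod 2) : ∃ w ∈ golayCode, w a = t1 ∧ w b = t2 := by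
  obtain ⟨c, h1, h2⟩ := exists_third a b
  obtain ⟨w, hw, e1, e2, _⟩ := code3 hab h1 h2 t1 t2 0
  exact ⟨w, hw, e1, e2⟩

/-! ### membership -/

theorem even_mem {w : GolayPt → ZMod 2} (hw : w ∈ golayCode) {y : E} (hy : (2 : ℤ) ∣ ∑ i, y i) {x : E}
    (hx : ∀ i, x i = 2 * lf (w i) + 4 * y i) : x ∈ Lam :=
  ⟨0, w, y, hw, fun i => by rw [hx]; ring, by rw [sub_zero]; exact hy⟩

theorem sum_single_pt (i : GolayPt) (a : ℤ) : ∑ k, (Pi.single i a : E) k = a := by
  rw [Finset.sum_pi_single']; simp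

/-- two coordinates -/
def P (i j : GolayPt) (s t : ℤ) : E := Pi.single i s + Pi.single j t

theorem P_apply (i j : GolayPt) (s t : ℤ) (k : GolayPt) : P i j s t k = (if k = i then s else 0) + (if k = j then t else 0) := by
  rw [P, Pi.add_apply, Pi.single_apply, Pi.single_apply]

theorem P_left {i j : GolayPt} (h : i ≠ j) (s t : ℤ) : P i j s t i = s := by
  rw [P_apply, if_pos rfl, if_neg h, add_zero]

theorem P_right {i j : GolayPt} (h : i ≠ j) (s t : ℤ) : P i j s t j = t := by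
  rw [P_apply, if_pos rfl, if_neg (Ne.symm h), zero_add]

theorem P_other {i j k : GolayPt} (hi : k ≠ i) (hj : k ≠ j) (s t : ℤ) : P i j s t k = 0 := by
  rw [P_apply, if_neg hi, if_neg hj, add_zero]

theorem P_mem {i j : GolayPt} {s t : ℤ} (hs : s = 4 ∨ s = -4) (ht : t = 4 ∨ t = -4) : P i j s t ∈ Lam := by
  refine even_mem (w := 0) (Submodule.zero_mem _) (y := fun k => (if k = i then s / 4 else 0) + (if k = j then t / 4 else 0)) ?_ ?_
  · rw [Finset.sum_add_distrib, Finset.sum_ite_eq' Finset.univ i, Finset.sum_ite_eq' Finset.univ j,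
      if_pos (Finset.mem_univ _), if_pos (Finset.mem_univ _)]
    omega
  · intro k
    rw [P_apply, Pi.zero_apply, lf_zero]
    split_ifs <;> omega

theorem dot_P_left (i j : GolayPt) (s t : ℤ) (y : E) : dotInt (P i j s t) y = s * y i + t * y j := by
  rw [P, dot_add_left, dot_single_left, dot_single_left]

theorem dot_P_right (i j : GolayPt) (s t : ℤ) (y : E) : dotInt y (P i j s t) = s * y i + t * y j := by
  rw [dot_comm, dot_P_left]

theorem norm_P {i j : GolayPt} (h : i ≠ j) (s t : ℤ) : sqNorm (P i j s t) = s ^ 2 + t ^ 2 := by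
  rw [sqNorm_dot, dot_P_left, P_left h, P_right h]; ring

theorem single8_mem (i : GolayPt) : (Pi.single i 8 : E) ∈ Lam := by
  have h := P_mem (i := i) (j := i) (s := 4) (t := 4) (Or.inl rfl) (Or.inl rfl)
  have e : (Pi.single i 8 : E) = P i i 4 4 := by
    rw [P, ← Pi.single_add]; rfl
  rw [e]; exact h

/-! ### the monomial action on special vectors -/

theorem mono_single {σ : Equiv.Perm GolayPt} (c : GolayPt → ZMod 2) {a a' : GolayPt} (h : σ a' = a) (s : ℤ) :
    monoFun σ c (Pi.single a s) = Pi.single a' ((1 - 2 * lf (c a')) * s) := by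
  funext i
  rw [monoFun]
  by_cases hi : i = a'
  · subst hi
    rw [h, Pi.single_eq_same, Pi.single_eq_same]
  · rw [Pi.single_eq_of_ne hi, Pi.single_eq_of_ne, mul_zero]
    intro h'
    exact hi (σ.injective (h'.trans h.symm))

theorem mono_P {σ : Equiv.Perm GolayPt} (c : GolayPt → ZMod 2) {a a' b b' : GolayPt} (ha : σ a' = a) (hb : σ b' = b)
    (s t : ℤ) : monoFun σ c (P a b s t) = P a' b' ((1 - 2 * lf (c a')) * s) ((1 - 2 * lf (c b')) * t) := by
  rw [P, monoFun_add, mono_single c ha, mono_single c hb, P]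

/-! ### integer sequences with small sums -/

theorem exists_pos (s : Finset GolayPt) (z : GolayPt → ℤ) (hz : ∀ k ∈ s, 0 ≤ z k) (n : ℤ) (hn : 1 ≤ n)
    (h : ∑ k ∈ s, z k = n) : ∃ i ∈ s, 1 ≤ z i ∧ z i ≤ n ∧ ∑ k ∈ s.erase i, z k = n - z i := by
  by_contra hcon
  push Not at hcon
  have h0 : ∀ i ∈ s, z i = 0 := by
    intro i hi
    by_contra h0
    have h1 := hz i hi
    have h2 := Finset.add_sum_erase s z hi
    have h3 : 0 ≤ ∑ k ∈ s.erase i, z k := Finset.sum_nonneg fun k hk => hz k (Finset.mem_of_mem_erase hk)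
    exact hcon i hi (by omega) (by omega) (by omega)
  rw [Finset.sum_eq_zero h0] at h
  omega

theorem all_zero (s : Finset GolayPt) (z : GolayPt → ℤ) (hz : ∀ k ∈ s, 0 ≤ z k) (h : ∑ k ∈ s, z k = 0) :
    ∀ k ∈ s, z k = 0 := (Finset.sum_eq_zero_iff_of_nonneg hz).1 h

theorem sum_one (z : GolayPt → ℤ) (hz : ∀ k, 0 ≤ z k) (h : ∑ k, z k = 1) :
    ∃ i, z i = 1 ∧ ∀ k, k ≠ i → z k = 0 := by
  obtain ⟨i, _, h1, h2, h3⟩ := exists_pos Finset.univ z (fun k _ => hz k) 1 le_rfl h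
  refine ⟨i, by omega, fun k hk => ?_⟩
  exact all_zero _ z (fun k _ => hz k) (by rw [h3]; omega) k (Finset.mem_erase.2 ⟨hk, Finset.mem_univ k⟩)

theorem sum_two (z : GolayPt → ℤ) (hz : ∀ k, 0 ≤ z k) (h2 : ∀ k, z k ≠ 2) (h : ∑ k, z k = 2) :
    ∃ i j, i ≠ j ∧ z i = 1 ∧ z j = 1 ∧ ∀ k, k ≠ i → k ≠ j → z k = 0 := by
  obtain ⟨i, _, h1, h3, h4⟩ := exists_pos Finset.univ z (fun k _ => hz k) 2 (by norm_num) h
  have h5 := h2 i
  obtain ⟨j, hj, h6, h7, h8⟩ := exists_pos (Finset.univ.erase i) z (fun k _ => hz k) 1 le_rfl (by rw [h4]; omega)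
  have hji := Finset.ne_of_mem_erase hj
  refine ⟨i, j, Ne.symm hji, by omega, by omega, fun k hk hk' => ?_⟩
  exact all_zero _ z (fun k _ => hz k) (by rw [h8]; omega) k
    (Finset.mem_erase.2 ⟨hk', Finset.mem_erase.2 ⟨hk, Finset.mem_univ k⟩⟩)

theorem sum_three (z : GolayPt → ℤ) (hz : ∀ k, 0 ≤ z k) (h2 : ∀ k, z k ≠ 2) (h : ∑ k, z k = 3) :
    (∃ i, z i = 3 ∧ ∀ k, k ≠ i → z k = 0) ∨
    ∃ i j l, i ≠ j ∧ i ≠ l ∧ j ≠ l ∧ z i = 1 ∧ z j = 1 ∧ z l = 1 ∧ ∀ k, k ≠ i → k ≠ j → k ≠ l → z k = 0 := by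
  obtain ⟨i, _, h1, h3, h4⟩ := exists_pos Finset.univ z (fun k _ => hz k) 3 (by norm_num) h
  have h5 := h2 i
  by_cases hi : z i = 3
  · left
    exact ⟨i, hi, fun k hk => all_zero _ z (fun k _ => hz k) (by rw [h4]; omega) k
      (Finset.mem_erase.2 ⟨hk, Finset.mem_univ k⟩)⟩
  · right
    obtain ⟨j, hj, h6, h7, h8⟩ := exists_pos (Finset.univ.erase i) z (fun k _ => hz k) 2 (by norm_num) (by rw [h4]; omega)
    have h9 := h2 j
    have hji := Finset.ne_of_mem_erase hj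
    obtain ⟨l, hl, h10, h11, h12⟩ := exists_pos ((Finset.univ.erase i).erase j) z (fun k _ => hz k) 1 le_rfl
      (by rw [h8]; omega)
    have hlj := Finset.ne_of_mem_erase hl
    have hli := Finset.ne_of_mem_erase (Finset.mem_of_mem_erase hl)
    refine ⟨i, j, l, Ne.symm hji, Ne.symm hli, Ne.symm hlj, by omega, by omega, by omega, fun k hk hk' hk'' => ?_⟩
    exact all_zero _ z (fun k _ => hz k) (by rw [h12]; omega) k
      (Finset.mem_erase.2 ⟨hk'', Finset.mem_erase.2 ⟨hk', Finset.mem_erase.2 ⟨hk, Finset.mem_univ k⟩⟩⟩)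

/-! ### shapes -/

theorem sum_lf_cases {c : GolayPt → ZMod 2} (hc : c ∈ golayCode) :
    ∑ i, lf (c i) = 0 ∨ ∑ i, lf (c i) = 8 ∨ ∑ i, lf (c i) = 12 ∨ ∑ i, lf (c i) = 16 ∨ ∑ i, lf (c i) = 24 := by
  rw [sum_lf]
  rcases card_of_mem_supports (s := support₂ c) ⟨c, hc, rfl⟩ with h | h | h | h | h
  · left; rw [h]; rfl
  · right; left; rw [h]; rfl
  · right; right; left; rw [h]; rfl
  · right; right; right; left; rw [h]; rfl
  · right; right; right; right; rw [h]; rfl

theorem lf_nonneg (a : ZMod 2) : 0 ≤ lf a := by rcases lf_cases a with h | h <;> rw [h] <;> norm_num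

theorem sq_ge (a : ZMod 2) (y : ℤ) : 4 * lf a ≤ (2 * lf a + 4 * y) ^ 2 := by
  rcases lf_cases a with h | h
  · rw [h]; positivity
  · rw [h]
    have h1 : (1 + 2 * y) ≠ 0 := by omega
    have h2 := sq_pos_of_ne_zero h1
    nlinarith

/-- an even vector -/
structure EvenVec (x : E) (c : GolayPt → ZMod 2) (y : E) : Prop where
  hc : c ∈ golayCode
  hx : ∀ k, x k = 2 * lf (c k) + 4 * y k
  hy : (2 : ℤ) ∣ ∑ k, y k

/-- an odd vector -/
structure OddVec (x : E) (c : GolayPt → ZMod 2) (y : E) : Prop where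
  hc : c ∈ golayCode
  hx : ∀ k, x k = 1 + 2 * lf (c k) + 4 * y k
  hy : (2 : ℤ) ∣ (∑ k, y k) - 1

theorem cases_mem {x : E} (hx : x ∈ Lam) : (∃ c y, EvenVec x c y) ∨ ∃ c y, OddVec x c y := by
  obtain ⟨m, w, y, hm, h⟩ := exists_par hx
  rcases hm with rfl | rfl
  · exact Or.inl ⟨w, y, h.1, fun k => by rw [h.2.1]; ring, by have := h.2.2; rwa [sub_zero] at this⟩
  · exact Or.inr ⟨w, y, h.1, h.2.1, h.2.2⟩

theorem EvenVec.le {x : E} {c : GolayPt → ZMod 2} {y : E} (h : EvenVec x c y) : 4 * ∑ k, lf (c k) ≤ sqNorm x := by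
  rw [Finset.mul_sum, sqNorm]
  apply Finset.sum_le_sum
  intro k _
  rw [h.hx]; exact sq_ge _ _

/-- when the norm is four times the weight -/
theorem EvenVec.tight {x : E} {c : GolayPt → ZMod 2} {y : E} (h : EvenVec x c y) (hn : sqNorm x = 4 * ∑ k, lf (c k)) :
    ∀ k, x k ^ 2 = 4 * lf (c k) := by
  have h1 : ∑ k, (x k ^ 2 - 4 * lf (c k)) = 0 := by
    rw [Finset.sum_sub_distrib, ← Finset.mul_sum, ← hn, sqNorm]; ring
  intro k
  have := all_zero Finset.univ (fun k => x k ^ 2 - 4 * lf (c k)) (fun k _ => by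
    have := sq_ge (c k) (y k)
    rw [← h.hx] at this
    linarith) h1 k (Finset.mem_univ k)
  linarith

theorem EvenVec.zero {x : E} {c : GolayPt → ZMod 2} {y : E} (h : EvenVec x c y) (hn : ∑ k, lf (c k) = 0) :
    (∀ k, x k = 4 * y k) ∧ sqNorm x = 16 * ∑ k, y k ^ 2 := by
  have h1 := all_zero Finset.univ (fun k => lf (c k)) (fun k _ => lf_nonneg _) hn
  have h2 : ∀ k, x k = 4 * y k := by
    intro k
    have : lf (c k) = 0 := h1 k (Finset.mem_univ k)
    rw [h.hx, this]; ring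
  refine ⟨h2, ?_⟩
  rw [sqNorm, Finset.mul_sum]
  apply Finset.sum_congr rfl
  intro k _
  rw [h2]; ring

theorem EvenVec.sum_sq_even {x : E} {c : GolayPt → ZMod 2} {y : E} (h : EvenVec x c y) : (2 : ℤ) ∣ ∑ k, y k ^ 2 := by
  have h1 : (2 : ℤ) ∣ ∑ k, (y k ^ 2 - y k) := by
    apply Finset.dvd_sum
    intro k _
    have : y k ^ 2 - y k = y k * (y k - 1) := by ring
    rw [this]
    rcases Int.emod_two_eq_zero_or_one (y k) with h | h
    · exact Dvd.dvd.mul_right (by omega) _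
    · exact Dvd.dvd.mul_left (by omega) _
  rw [Finset.sum_sub_distrib] at h1
  have := h.hy
  omega

theorem sq_one {a : ℤ} (h : a ^ 2 = 1) : a = 1 ∨ a = -1 := by
  have : (a - 1) * (a + 1) = 0 := by ring_nf; linarith
  rcases mul_eq_zero.1 this with h | h
  · left; omega
  · right; omega


theorem OddVec.odd {x : E} {c : GolayPt → ZMod 2} {y : E} (h : OddVec x c y) (k : GolayPt) :
    ∃ t : ℤ, x k = 2 * t + 1 := ⟨lf (c k) + 2 * y k, by rw [h.hx]; ring⟩

/-- squares of odd numbers -/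
theorem odd_sq (t : ℤ) : ∃ z : ℤ, 0 ≤ z ∧ z ≠ 2 ∧ (2 * t + 1) ^ 2 = 8 * z + 1 ∧ (z = 0 → 2 * t + 1 = 1 ∨ 2 * t + 1 = -1) ∧
    (z = 1 → 2 * t + 1 = 3 ∨ 2 * t + 1 = -3) ∧ (z = 3 → 2 * t + 1 = 5 ∨ 2 * t + 1 = -5) := by
  have h2 : (2 : ℤ) ∣ t * (t + 1) := by
    rcases Int.emod_two_eq_zero_or_one t with h | h
    · exact Dvd.dvd.mul_right (by omega) _
    · exact Dvd.dvd.mul_left (by omega) _
  obtain ⟨z, hz⟩ := h2
  refine ⟨z, ?_, ?_, by linear_combination 4 * hz, ?_, ?_, ?_⟩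
  · have : 0 ≤ t * (t + 1) := by
      rcases le_or_gt 0 t with h | h
      · positivity
      · have h1 : t + 1 ≤ 0 := by omega
        exact mul_nonneg_of_nonpos_of_nonpos h.le h1
    omega
  · rintro rfl
    have h1 : -3 < t := by nlinarith
    have h3 : t < 2 := by nlinarith
    interval_cases t <;> omega
  · rintro rfl
    have h1 : -2 < t := by nlinarith
    have h3 : t < 1 := by nlinarith
    interval_cases t <;> omega
  · rintro rfl
    have h1 : -3 < t := by nlinarith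
    have h3 : t < 2 := by nlinarith
    interval_cases t <;> omega
  · rintro rfl
    have h1 : -4 < t := by nlinarith
    have h3 : t < 3 := by nlinarith
    interval_cases t <;> omega

/-- odd vectors: the excess -/
theorem OddVec.excess {x : E} {c : GolayPt → ZMod 2} {y : E} (h : OddVec x c y) :
    ∃ z : GolayPt → ℤ, (∀ k, 0 ≤ z k) ∧ (∀ k, z k ≠ 2) ∧ sqNorm x = 24 + 8 * ∑ k, z k ∧
      (∀ k, z k = 0 → x k = 1 - 2 * lf (c k)) ∧ (∀ k, z k = 1 → x k = (1 - 2 * lf (c k)) * (-3)) ∧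
      (∀ k, z k = 3 → x k = (1 - 2 * lf (c k)) * 5) ∧ ∀ k, x k ^ 2 = 8 * z k + 1 := by
  choose t ht using h.odd
  choose z hz using fun k => odd_sq (t k)
  refine ⟨z, fun k => (hz k).1, fun k => (hz k).2.1, ?_, fun k hk => ?_, fun k hk => ?_, fun k hk => ?_, fun k => ?_⟩
  · have e1 : ∑ _i : GolayPt, (1 : ℤ) = 24 := by
      rw [Finset.sum_const, Finset.card_univ, card_pt, nsmul_eq_mul]; rfl
    rw [sqNorm, ← e1, Finset.mul_sum, ← Finset.sum_add_distrib]
    apply Finset.sum_congr rfl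
    intro k _
    rw [ht, (hz k).2.2.1]; ring
  · have h1 := (hz k).2.2.2.1 hk
    rw [← ht] at h1
    have h2 := h.hx k
    rcases lf_cases (c k) with h3 | h3 <;> rw [h3] at h2 ⊢ <;> omega
  · have h1 := (hz k).2.2.2.2.1 hk
    rw [← ht] at h1
    have h2 := h.hx k
    rcases lf_cases (c k) with h3 | h3 <;> rw [h3] at h2 ⊢ <;> omega
  · have h1 := (hz k).2.2.2.2.2 hk
    rw [← ht] at h1
    have h2 := h.hx k
    rcases lf_cases (c k) with h3 | h3 <;> rw [h3] at h2 ⊢ <;> omega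
  · rw [ht]; exact (hz k).2.2.1

/-- shapes of the minimal vectors -/
theorem shape32 {x : E} (hx : x ∈ Lam) (hn : sqNorm x = 32) :
    (∃ i j s t, i ≠ j ∧ (s = 4 ∨ s = -4) ∧ (t = 4 ∨ t = -4) ∧ x = P i j s t) ∨
    (∃ c y, EvenVec x c y ∧ ∑ k, lf (c k) = 8 ∧ ∀ k, x k ^ 2 = 4 * lf (c k)) ∨
    ∃ c y i, OddVec x c y ∧ x i = (1 - 2 * lf (c i)) * (-3) ∧ ∀ k, k ≠ i → x k = 1 - 2 * lf (c k) := by
  rcases cases_mem hx with ⟨c, y, h⟩ | ⟨c, y, h⟩
  · have hle := h.le
    have hcs := sum_lf_cases h.hc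
    by_cases h8 : ∑ k, lf (c k) = 8
    · right; left
      exact ⟨c, y, h, h8, h.tight (by rw [hn, h8]; norm_num)⟩
    · left
      have h0 : ∑ k, lf (c k) = 0 := by omega
      obtain ⟨h1, h2⟩ := h.zero h0
      obtain ⟨i, j, hij, hi, hj, hk⟩ := sum_two (fun k => y k ^ 2) (fun k => sq_nonneg _) (fun k h => by
        have h1 : -2 < y k := by nlinarith
        have h3 : y k < 2 := by nlinarith
        interval_cases (y k) <;> omega) (by omega)
      have ei := sq_one hi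
      have ej := sq_one hj
      refine ⟨i, j, x i, x j, hij, ?_, ?_, ?_⟩
      · rw [h1]; omega
      · rw [h1]; omega
      · funext k
        by_cases h3 : k = i
        · subst h3; rw [P_left hij]
        · by_cases h4 : k = j
          · subst h4; rw [P_right hij]
          · rw [P_other h3 h4, h1]
            have := hk k h3 h4
            rw [pow_eq_zero_iff (two_ne_zero)] at this
            rw [this]; ring
  · right; right
    obtain ⟨z, z1, z2, z3, z4, z5, _, _⟩ := h.excess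
    obtain ⟨i, hi, hk⟩ := sum_one z z1 (by omega)
    exact ⟨c, y, i, h, z5 i hi, fun k hk' => z4 k (hk k hk')⟩

/-- shapes of the vectors of norm 48 -/
theorem shape48 {x : E} (hx : x ∈ Lam) (hn : sqNorm x = 48) :
    (∃ c y, EvenVec x c y ∧ ∑ k, lf (c k) = 12 ∧ ∀ k, x k ^ 2 = 4 * lf (c k)) ∨
    (∃ c y i, EvenVec x c y ∧ ∑ k, lf (c k) = 8 ∧ c i = 0 ∧ x i ^ 2 = 16 ∧ ∀ k, k ≠ i → x k ^ 2 = 4 * lf (c k)) ∨
    (∃ c y i, OddVec x c y ∧ x i = (1 - 2 * lf (c i)) * 5 ∧ ∀ k, k ≠ i → x k = 1 - 2 * lf (c k)) ∨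
    ∃ c y i j l, OddVec x c y ∧ i ≠ j ∧ i ≠ l ∧ j ≠ l ∧ x i = (1 - 2 * lf (c i)) * (-3) ∧
      x j = (1 - 2 * lf (c j)) * (-3) ∧ x l = (1 - 2 * lf (c l)) * (-3) ∧
      ∀ k, k ≠ i → k ≠ j → k ≠ l → x k = 1 - 2 * lf (c k) := by
  rcases cases_mem hx with ⟨c, y, h⟩ | ⟨c, y, h⟩
  · have hle := h.le
    have hcs := sum_lf_cases h.hc
    by_cases h12 : ∑ k, lf (c k) = 12
    · left
      exact ⟨c, y, h, h12, h.tight (by rw [hn, h12]; norm_num)⟩
    by_cases h0 : ∑ k, lf (c k) = 0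
    · exfalso
      obtain ⟨h1, h2⟩ := h.zero h0
      have := h.sum_sq_even
      omega
    have h8 : ∑ k, lf (c k) = 8 := by omega
    right; left
    have h3 : ∀ k, ∃ u : ℤ, 0 ≤ u ∧ x k ^ 2 - 4 * lf (c k) = 16 * u ∧ (u = 1 → c k = 0) := by
      intro k
      rw [h.hx]
      have hcase : c k = 0 ∨ c k = 1 := by
        have : ∀ a : ZMod 2, a = 0 ∨ a = 1 := by decide
        exact this _
      rcases hcase with hc | hc
      · refine ⟨y k ^ 2, sq_nonneg _, ?_, fun _ => hc⟩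
        rw [hc, lf_zero]; ring
      · refine ⟨y k * (y k + 1), ?_, ?_, ?_⟩
        · rcases le_or_gt 0 (y k) with h | h
          · positivity
          · have h1 : y k + 1 ≤ 0 := by omega
            exact mul_nonneg_of_nonpos_of_nonpos h.le h1
        · rw [hc, lf_one]; ring
        · intro hu
          exfalso
          have h1 : -2 < y k := by nlinarith
          have h3 : y k < 2 := by nlinarith
          interval_cases (y k) <;> omega
    choose u u1 u2 u3 using h3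
    have hsum : ∑ k, u k = 1 := by
      have e : ∑ k, (x k ^ 2 - 4 * lf (c k)) = 16 * ∑ k, u k := by
        rw [Finset.mul_sum]; exact Finset.sum_congr rfl fun k _ => u2 k
      rw [Finset.sum_sub_distrib, ← Finset.mul_sum, h8] at e
      rw [sqNorm] at hn
      omega
    obtain ⟨i, hi, hk⟩ := sum_one u u1 hsum
    refine ⟨c, y, i, h, h8, u3 i hi, ?_, fun k hk' => ?_⟩
    · have := u2 i
      rw [hi, u3 i hi, lf_zero] at this
      omega
    · have := u2 k
      rw [hk k hk'] at this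
      omega
  · obtain ⟨z, z1, z2, z3, z4, z5, z6, _⟩ := h.excess
    rcases sum_three z z1 z2 (by omega) with ⟨i, hi, hk⟩ | ⟨i, j, l, hij, hil, hjl, hi, hj, hl, hk⟩
    · right; right; left
      exact ⟨c, y, i, h, z6 i hi, fun k hk' => z4 k (hk k hk')⟩
    · right; right; right
      exact ⟨c, y, i, j, l, h, hij, hil, hjl, z5 i hi, z5 j hj, z5 l hl,
        fun k h1 h2 h3 => z4 k (hk k h1 h2 h3)⟩

end CfsgLib.Co
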