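import Cfsg.Agent.EqBase
import Mathlib
import Cfsg.Agent.LibCoB

/-!
Transitivity of the lattice automorphism group.
-/

set_option autoImplicit false
set_option linter.constructorNameAsVariable false

namespace CfsgLib.Co

open Cfsg CfsgLib.Golay CfsgLib.M24 CfsgLib.Leech CfsgLib.Frame

/-- the point `0` -/
abbrev pz : GolayPt := some 0
/-- the point `1` -/
abbrev po : GolayPt := some 1

theorem nz : (none : GolayPt) ≠ pz := by decide
theorem no : (none : GolayPt) ≠ po := by decide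
theorem zo : (pz : GolayPt) ≠ po := by decide

/-- transitivity on the vectors of norm 64 -/
theorem exists_std (f : LL) (hf : sqNorm (f : E) = 64) : ∃ g : Co0, ((g • f : LL) : E) = Pi.single none 8 ∧
    ∀ v : LL, 8 * ((g • v : LL) : E) none = dotInt (v : E) (f : E) := by
  have hB : BL (toLam f) (toLam f) = 8 := by
    have := BL_self (toLam f)
    rw [toLam_coe, hf] at this
    omega
  obtain ⟨F, hF, i, s, hs, hFi⟩ := frame_iso hyp_Lam hB
  let g1 : Co0 := mkCo ((toLam.trans F).trans toLam.symm) (fun v => by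
    have h1 := hF (toLam v) (toLam v)
    rw [BL_mul] at h1
    rw [sqNorm_dot, sqNorm_dot]
    exact h1)
  have hg1 : ((g1 • f : LL) : E) = Pi.single i s := hFi
  obtain ⟨σ, hσ, hσi⟩ := m24_one none i
  obtain ⟨c, hc, hcn, _⟩ := code2 nz (if s = 8 then 0 else 1) 0
  have hg : (((mono σ hσ c hc * g1) • f : LL) : E) = Pi.single none 8 := by
    rw [mul_smul]
    change monoFun σ c ((g1 • f : LL) : E) = _
    rw [hg1, mono_single c hσi, hcn]
    rcases hs with rfl | rfl
    · rw [if_pos rfl, lf_zero]; rfl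
    · rw [if_neg (by norm_num), lf_one]; rfl
  refine ⟨mono σ hσ c hc * g1, hg, fun v => ?_⟩
  rw [← act_dot (mono σ hσ c hc * g1) v f, hg, dot_single_right]

/-- points outside a small set -/
theorem exists_notMem (S : Finset GolayPt) (h : S.card < 24) : ∃ k, k ∉ S := by
  have h' : S.card < (Finset.univ : Finset GolayPt).card := by rw [Finset.card_univ, card_pt]; exact h
  obtain ⟨c, _, hc⟩ := Finset.exists_mem_notMem_of_card_lt_card h'
  exact ⟨c, hc⟩

theorem exists_one (c : GolayPt → ZMod 2) (S : Finset GolayPt) (h : (S.card : ℤ) < ∑ k, lf (c k)) :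
    ∃ k, k ∉ S ∧ lf (c k) = 1 := by
  rw [sum_lf] at h
  have h' : S.card < (support₂ c).card := by exact_mod_cast h
  obtain ⟨k, hk, hk'⟩ := Finset.exists_mem_notMem_of_card_lt_card h'
  refine ⟨k, hk', lf_eq_one.2 ?_⟩
  simpa [support₂] using hk

/-- vectors of norm 32 with a coordinate `±4` -/
theorem shape4 {x : E} (hx : x ∈ Lam) (hn : sqNorm x = 32) {i : GolayPt} {s : ℤ} (hs : s = 4 ∨ s = -4) (hi : x i = s) :
    ∃ j t, i ≠ j ∧ (t = 4 ∨ t = -4) ∧ x = P i j s t := by
  rcases shape32 hx hn with ⟨a, b, s', t', hab, hs', ht', rfl⟩ | ⟨c, y, h, h8, hk⟩ | ⟨c, y, a, h, ha, hk⟩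
  · by_cases h1 : i = a
    · subst h1
      rw [P_left hab] at hi
      subst hi
      exact ⟨b, t', hab, ht', rfl⟩
    · by_cases h2 : i = b
      · subst h2
        rw [P_right hab] at hi
        subst hi
        refine ⟨a, s', h1, hs', ?_⟩
        rw [P, P, add_comm]
      · rw [P_other h1 h2] at hi
        omega
  · exfalso
    have h1 := hk i
    rw [hi] at h1
    rcases lf_cases (c i) with h2 | h2 <;> rw [h2] at h1 <;> rcases hs with rfl | rfl <;> norm_num at h1
  · exfalso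
    obtain ⟨t, ht⟩ := h.odd i
    omega

theorem coe_P_mem {i j : GolayPt} {s t : ℤ} (hs : s = 4 ∨ s = -4) (ht : t = 4 ∨ t = -4) : P i j s t ∈ leechLattice :=
  mem_LL.2 (P_mem hs ht)

/-- the vector as a lattice element -/
def PL (i j : GolayPt) {s t : ℤ} (hs : s = 4 ∨ s = -4) (ht : t = 4 ∨ t = -4) : LL := ⟨P i j s t, coe_P_mem hs ht⟩

theorem PL_coe (i j : GolayPt) {s t : ℤ} (hs : s = 4 ∨ s = -4) (ht : t = 4 ∨ t = -4) : (PL i j hs ht : E) = P i j s t := rfl

theorem norm_PL {i j : GolayPt} (h : i ≠ j) {s t : ℤ} (hs : s = 4 ∨ s = -4) (ht : t = 4 ∨ t = -4) :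
    sqNorm (PL i j hs ht : E) = 32 := by
  rw [PL_coe, norm_P h]
  rcases hs with rfl | rfl <;> rcases ht with rfl | rfl <;> norm_num

/-- transitivity on orthogonal pairs of minimal vectors -/
theorem tr_orth (v x : LL) (hv : sqNorm (v : E) = 32) (hx : sqNorm (x : E) = 32) (h : dotInt (v : E) (x : E) = 0) :
    ∃ g : Co0, ((g • v : LL) : E) = P none pz 4 4 ∧ ((g • x : LL) : E) = P none pz 4 (-4) := by
  have hf : sqNorm ((v + x : LL) : E) = 64 := by
    rw [AddSubgroup.coe_add, sqNorm_add, hv, hx, h]; norm_num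
  obtain ⟨g, hg, hgd⟩ := exists_std (v + x) hf
  have hv4 : ((g • v : LL) : E) none = 4 := by
    have := hgd v
    rw [AddSubgroup.coe_add, dot_add_right, ← sqNorm_dot, hv, h] at this
    omega
  obtain ⟨j, t, hj, ht, hP⟩ := shape4 (mem_LL.1 (g • v).2) (by rw [act_norm, hv]) (Or.inl rfl) hv4
  obtain ⟨σ, hσ, h1, h2⟩ := m24_two nz hj
  obtain ⟨c, hc, c1, c2⟩ := code2 nz 0 (if t = 4 then 0 else 1)
  have hgx : ((g • x : LL) : E) = P none j 4 (-t) := by
    rw [act_add, AddSubgroup.coe_add, hP] at hg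
    have : ((g • x : LL) : E) = Pi.single none 8 - P none j 4 t := by rw [← hg]; abel
    rw [this]
    funext k
    rw [Pi.sub_apply, P_apply, P_apply, Pi.single_apply]
    split_ifs <;> omega
  refine ⟨mono σ hσ c hc * g, ?_, ?_⟩
  · rw [mul_smul]
    change monoFun σ c ((g • v : LL) : E) = _
    rw [hP, mono_P c h1 h2, c1, c2, lf_zero]
    rcases ht with rfl | rfl
    · rw [if_pos rfl, lf_zero]; rfl
    · rw [if_neg (by norm_num), lf_one]; rfl
  · rw [mul_smul]
    change monoFun σ c ((g • x : LL) : E) = _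
    rw [hgx, mono_P c h1 h2, c1, c2, lf_zero]
    rcases ht with rfl | rfl
    · rw [if_pos rfl, lf_zero]; rfl
    · rw [if_neg (by norm_num), lf_one]; rfl

theorem exists_eq_abs (v : E) (h : sqNorm v ≤ 48) : ∃ j k, j ≠ k ∧ (v j = v k ∨ v j = -v k) := by
  have hb : ∀ i, (v i).natAbs < 7 := by
    intro i
    have h1 : v i ^ 2 ≤ sqNorm v := Finset.single_le_sum (f := fun i => v i ^ 2) (fun i _ => sq_nonneg _) (Finset.mem_univ i)
    have h2 : -7 < v i := by nlinarith
    have h3 : v i < 7 := by nlinarith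
    omega
  have hc : Fintype.card (Fin 7) < Fintype.card GolayPt := by rw [card_pt, Fintype.card_fin]; norm_num
  obtain ⟨j, k, hjk, h⟩ := Fintype.exists_ne_map_eq_of_card_lt (fun i => (⟨(v i).natAbs, hb i⟩ : Fin 7)) hc
  have h1 : (v j).natAbs = (v k).natAbs := congrArg Fin.val h
  exact ⟨j, k, hjk, by omega⟩

/-- transitivity on minimal vectors -/
theorem tr32 (v : LL) (hv : sqNorm (v : E) = 32) : ∃ g : Co0, ((g • v : LL) : E) = P none pz 4 4 := by
  obtain ⟨j, k, hjk, h⟩ := exists_eq_abs (v : E) (by rw [hv]; norm_num)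
  rcases h with h | h
  · obtain ⟨g, hg, _⟩ := tr_orth v (PL j k (Or.inl rfl) (Or.inr rfl)) hv (norm_PL hjk _ _) (by
      rw [PL_coe, dot_P_right, h]; ring)
    exact ⟨g, hg⟩
  · obtain ⟨g, hg, _⟩ := tr_orth v (PL j k (Or.inl rfl) (Or.inl rfl)) hv (norm_PL hjk _ _) (by
      rw [PL_coe, dot_P_right, h]; ring)
    exact ⟨g, hg⟩

/-! ### inner product `-16` -/

theorem sq4 {a : ℤ} {l : ℤ} (hl : l = 0 ∨ l = 1) (h : a ^ 2 = 4 * l) : (l = 0 ∧ a = 0) ∨ (l = 1 ∧ (a = 2 ∨ a = -2)) := by
  rcases hl with rfl | rfl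
  · left; refine ⟨rfl, ?_⟩
    rw [mul_zero, pow_eq_zero_iff two_ne_zero] at h; exact h
  · right; refine ⟨rfl, ?_⟩
    have : (a - 2) * (a + 2) = 0 := by ring_nf; linarith
    rcases mul_eq_zero.1 this with h | h
    · left; omega
    · right; omega

/-- the last step for inner product `-16` -/
theorem step_m16 (v w x : LL) (hv : sqNorm (v : E) = 32) (hw : sqNorm (w : E) = 32) (hvw : dotInt (v : E) (w : E) = -16)
    (hx : sqNorm (x : E) = 32) (hvx : dotInt (v : E) (x : E) = 0) (hwx : dotInt (w : E) (x : E) = -16) :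
    ∃ g : Co0, ((g • v : LL) : E) = P none pz 4 4 ∧ ((g • w : LL) : E) = P none po (-4) 4 := by
  have hf : sqNorm ((v + x : LL) : E) = 64 := by
    rw [AddSubgroup.coe_add, sqNorm_add, hv, hx, hvx]; norm_num
  obtain ⟨g, hg, hgd⟩ := exists_std (v + x) hf
  have hv4 : ((g • v : LL) : E) none = 4 := by
    have := hgd v
    rw [AddSubgroup.coe_add, dot_add_right, ← sqNorm_dot, hv, hvx] at this
    omega
  have hw4 : ((g • w : LL) : E) none = -4 := by
    have := hgd w
    rw [AddSubgroup.coe_add, dot_add_right, dot_comm, hvw, hwx] at this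
    omega
  obtain ⟨j, t, hj, ht, hP⟩ := shape4 (mem_LL.1 (g • v).2) (by rw [act_norm, hv]) (Or.inl rfl) hv4
  obtain ⟨k, u, hk, hu, hQ⟩ := shape4 (mem_LL.1 (g • w).2) (by rw [act_norm, hw]) (Or.inr rfl) hw4
  have hjk : j ≠ k := by
    rintro rfl
    have h1 := act_dot g v w
    rw [hvw, hP, hQ, dot_P_left, P_left hk, P_right hk] at h1
    rcases ht with rfl | rfl <;> rcases hu with rfl | rfl <;> norm_num at h1
  obtain ⟨σ, hσ, h1, h2, h3⟩ := m24_three nz no zo hj hk hjk
  obtain ⟨c, hc, c1, c2, c3⟩ := code3 nz no zo 0 (if t = 4 then 0 else 1) (if u = 4 then 0 else 1)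
  refine ⟨mono σ hσ c hc * g, ?_, ?_⟩
  · rw [mul_smul]
    change monoFun σ c ((g • v : LL) : E) = _
    rw [hP, mono_P c h1 h2, c1, c2, lf_zero]
    rcases ht with rfl | rfl
    · rw [if_pos rfl, lf_zero]; rfl
    · rw [if_neg (by norm_num), lf_one]; rfl
  · rw [mul_smul]
    change monoFun σ c ((g • w : LL) : E) = _
    rw [hQ, mono_P c h1 h3, c1, c3, lf_zero]
    rcases hu with rfl | rfl
    · rw [if_pos rfl, lf_zero]; rfl
    · rw [if_neg (by norm_num), lf_one]; rfl

/-- the case where `w` is even -/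
theorem even_m16 (v w : LL) (hv : (v : E) = P none pz 4 4) (hw : sqNorm (w : E) = 32)
    (hvw : dotInt (v : E) (w : E) = -16) (hev : (2 : ℤ) ∣ (w : E) none) :
    ∃ g : Co0, ((g • v : LL) : E) = P none pz 4 4 ∧ ((g • w : LL) : E) = P none po (-4) 4 := by
  have hvn : sqNorm (v : E) = 32 := by rw [hv, norm_P nz]; norm_num
  have hsum := hvw
  rw [hv, dot_P_left] at hsum
  rcases shape32 (mem_LL.1 w.2) hw with ⟨a, b, s, t, hab, hs, ht, hP⟩ | ⟨c, y, h, h8, hk⟩ | ⟨c, y, a, h, ha, hk⟩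
  · have hval : ∀ k, (w : E) k = 0 ∨ (w : E) k = 4 ∨ (w : E) k = -4 := by
      intro k
      rw [hP]
      by_cases h1 : k = a
      · subst h1; rw [P_left hab]; tauto
      · by_cases h2 : k = b
        · subst h2; rw [P_right hab]; tauto
        · rw [P_other h1 h2]; tauto
    have h1 := hval none
    have h2 := hval pz
    by_cases h3 : (w : E) none = -4
    · apply step_m16 v w (PL none pz (Or.inl rfl) (Or.inr rfl)) hvn hw hvw (norm_PL nz _ _)
      · rw [hv, PL_coe, dot_P_right, P_left nz, P_right nz]; norm_num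
      · rw [PL_coe, dot_P_right]; omega
    · apply step_m16 v w (PL none pz (Or.inr rfl) (Or.inl rfl)) hvn hw hvw (norm_PL nz _ _)
      · rw [hv, PL_coe, dot_P_right, P_left nz, P_right nz]; norm_num
      · rw [PL_coe, dot_P_right]; omega
  · obtain ⟨j, hj, hj1⟩ := exists_one c {none, pz} (by
      rw [h8]
      have := Finset.card_le_two (a := (none : GolayPt)) (b := pz)
      omega)
    obtain ⟨k, hk0, hk1⟩ := exists_one c {none, pz, j} (by
      rw [h8]
      have := Finset.card_le_three (a := (none : GolayPt)) (b := pz) (c := j)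
      omega)
    simp only [Finset.mem_insert, Finset.mem_singleton, not_or] at hj hk0
    have ej := hk j
    have ek := hk k
    rw [hj1] at ej
    rw [hk1] at ek
    have ej' := sq4 (Or.inr rfl) ej
    have ek' := sq4 (Or.inr rfl) ek
    apply step_m16 v w (PL j k (s := -2 * (w : E) j) (t := -2 * (w : E) k) (by omega) (by omega)) hvn hw hvw
      (norm_PL (Ne.symm hk0.2.2) _ _)
    · rw [hv, PL_coe, dot_P_right, P_other hj.1 hj.2, P_other hk0.1 hk0.2.1]; ring
    · rw [PL_coe, dot_P_right]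
      linarith
  · exfalso
    obtain ⟨t, ht⟩ := h.odd none
    omega

/-- transitivity on pairs of minimal vectors with inner product `-16` -/
theorem tr_m16 (v w : LL) (hv : sqNorm (v : E) = 32) (hw : sqNorm (w : E) = 32) (hvw : dotInt (v : E) (w : E) = -16) :
    ∃ g : Co0, ((g • v : LL) : E) = P none pz 4 4 ∧ ((g • w : LL) : E) = P none po (-4) 4 := by
  obtain ⟨g, hg⟩ := tr32 v hv
  have hw1 : sqNorm ((g • w : LL) : E) = 32 := by rw [act_norm, hw]
  have hvw1 : dotInt ((g • v : LL) : E) ((g • w : LL) : E) = -16 := by rw [act_dot, hvw]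
  by_cases hev : (2 : ℤ) ∣ ((g • w : LL) : E) none
  · obtain ⟨g', h1, h2⟩ := even_m16 (g • v) (g • w) hg hw1 hvw1 hev
    exact ⟨g' * g, by rw [mul_smul]; exact h1, by rw [mul_smul]; exact h2⟩
  · -- odd: change the frame
    have hv1 : sqNorm ((g • v : LL) : E) = 32 := by rw [act_norm, hv]
    obtain ⟨c, y, a, h, ha, hk⟩ : ∃ c y a, OddVec ((g • w : LL) : E) c y ∧
        ((g • w : LL) : E) a = (1 - 2 * lf (c a)) * (-3) ∧ ∀ k, k ≠ a → ((g • w : LL) : E) k = 1 - 2 * lf (c k) := by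
      rcases shape32 (mem_LL.1 (g • w).2) hw1 with ⟨a, b, s, t, hab, hs, ht, hP⟩ | ⟨c, y, h, h8, hk⟩ | h
      · exfalso
        apply hev
        rw [hP, P_apply]
        split_ifs <;> omega
      · exfalso
        apply hev
        rw [h.hx]; omega
      · exact h
    obtain ⟨j, hj⟩ := exists_notMem {none, pz, a} (by
      have := Finset.card_le_three (a := (none : GolayPt)) (b := pz) (c := a)
      omega)
    obtain ⟨k, hk0⟩ := exists_notMem {none, pz, a, j} (by
      have := Finset.card_le_four (a := (none : GolayPt)) (b := pz) (c := a) (d := j)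
      omega)
    simp only [Finset.mem_insert, Finset.mem_singleton, not_or] at hj hk0
    have ej := hk j hj.2.2
    have ek := hk k hk0.2.2.1
    obtain ⟨t, ht, hdot⟩ : ∃ t : ℤ, (t = 4 ∨ t = -4) ∧ 4 * ((g • w : LL) : E) j + t * ((g • w : LL) : E) k = 0 := by
      rcases lf_cases (c j) with h1 | h1 <;> rcases lf_cases (c k) with h2 | h2 <;> rw [ej, ek, h1, h2]
      · exact ⟨-4, Or.inr rfl, by norm_num⟩
      · exact ⟨4, Or.inl rfl, by norm_num⟩
      · exact ⟨4, Or.inl rfl, by norm_num⟩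
      · exact ⟨-4, Or.inr rfl, by norm_num⟩
    have hxn := norm_PL (Ne.symm hk0.2.2.2) (Or.inl rfl : (4 : ℤ) = 4 ∨ (4 : ℤ) = -4) ht
    have hvx : dotInt ((g • v : LL) : E) (PL j k (Or.inl rfl : (4 : ℤ) = 4 ∨ (4 : ℤ) = -4) ht : E) = 0 := by
      rw [hg, PL_coe, dot_P_right, P_other hj.1 hj.2.1, P_other hk0.1 hk0.2.1]; ring
    have hwx : dotInt ((g • w : LL) : E) (PL j k (Or.inl rfl : (4 : ℤ) = 4 ∨ (4 : ℤ) = -4) ht : E) = 0 := by
      rw [PL_coe, dot_P_right]; exact hdot
    obtain ⟨g', h1, h2⟩ := tr_orth (g • v) (PL j k (Or.inl rfl) ht) hv1 hxn hvx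
    -- the new `w` has even coordinates
    have hev' : (2 : ℤ) ∣ ((g' • g • w : LL) : E) none := by
      have e1 := act_dot g' (g • w) (g • v)
      have e2 := act_dot g' (g • w) (PL j k (Or.inl rfl) ht)
      rw [dot_comm ((g • w : LL) : E), hvw1, h1, dot_P_right] at e1
      rw [hwx, h2, dot_P_right] at e2
      omega
    obtain ⟨g'', h3, h4⟩ := even_m16 (g' • g • v) (g' • g • w) h1 (by rw [act_norm, hw1]) (by rw [act_dot, hvw1]) hev'
    exact ⟨g'' * (g' * g), by rw [mul_smul, mul_smul]; exact h3, by rw [mul_smul, mul_smul]; exact h4⟩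

/-! ### inner product `-8` -/

/-- the vector `(5, 1, ..., 1)` -/
def W5 : E := fun k => if k = none then 5 else 1

/-- vectors of norm 48 with a coordinate 5 -/
theorem shape5 {x : E} (hx : x ∈ Lam) (hn : sqNorm x = 48) {i : GolayPt} (hi : x i = 5) :
    ∃ c ∈ golayCode, c i = 0 ∧ ∀ k, x k = (1 - 2 * lf (c k)) * (if k = i then 5 else 1) := by
  rcases shape48 hx hn with ⟨c, y, h, _, hk⟩ | ⟨c, y, a, h, _, _, ha, hk⟩ | ⟨c, y, a, h, ha, hk⟩ |
    ⟨c, y, a, b, l, h, _, _, _, ha, hb, hl, hk⟩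
  · exfalso
    have h1 := hk i
    rw [hi] at h1
    omega
  · exfalso
    by_cases h1 : i = a
    · rw [← h1, hi] at ha; omega
    · have h2 := hk i h1
      rw [hi] at h2
      omega
  · by_cases h1 : i = a
    · subst h1
      have h2 : c i = 0 := by
        rw [← lf_eq_zero]
        rcases lf_cases (c i) with h2 | h2
        · exact h2
        · rw [h2, hi] at ha; omega
      refine ⟨c, h.hc, h2, fun k => ?_⟩
      by_cases h3 : k = i
      · rw [if_pos h3, h3, ha]
      · rw [if_neg h3, hk k h3, mul_one]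
    · exfalso
      have h2 := hk i h1
      rcases lf_cases (c i) with h3 | h3 <;> rw [h3, hi] at h2 <;> omega
  · exfalso
    by_cases h1 : i = a
    · rw [← h1, hi] at ha
      rcases lf_cases (c i) with h3 | h3 <;> rw [h3] at ha <;> omega
    by_cases h1' : i = b
    · rw [← h1', hi] at hb
      rcases lf_cases (c i) with h3 | h3 <;> rw [h3] at hb <;> omega
    by_cases h1'' : i = l
    · rw [← h1'', hi] at hl
      rcases lf_cases (c i) with h3 | h3 <;> rw [h3] at hl <;> omega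
    have h2 := hk i h1 h1' h1''
    rcases lf_cases (c i) with h3 | h3 <;> rw [h3, hi] at h2 <;> omega

/-- the last step for inner product `-8` -/
theorem step_m8 (v w x : LL) (hv : sqNorm (v : E) = 32) (hw : sqNorm (w : E) = 32) (hvw : dotInt (v : E) (w : E) = -8)
    (hx : sqNorm (x : E) = 32) (hvx : dotInt (v : E) (x : E) = 0) (hwx : dotInt (w : E) (x : E) = 16) :
    ∃ g : Co0, ((g • v : LL) : E) = P none pz 4 4 ∧ ((g • (v + w) : LL) : E) = W5 := by
  have hf : sqNorm ((v + x : LL) : E) = 64 := by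
    rw [AddSubgroup.coe_add, sqNorm_add, hv, hx, hvx]; norm_num
  obtain ⟨g, hg, hgd⟩ := exists_std (v + x) hf
  have hv4 : ((g • v : LL) : E) none = 4 := by
    have := hgd v
    rw [AddSubgroup.coe_add, dot_add_right, ← sqNorm_dot, hv, hvx] at this
    omega
  have hu : sqNorm ((v + w : LL) : E) = 48 := by
    rw [AddSubgroup.coe_add, sqNorm_add, hv, hw, hvw]; norm_num
  have hu5 : ((g • (v + w) : LL) : E) none = 5 := by
    have := hgd (v + w)
    rw [AddSubgroup.coe_add, AddSubgroup.coe_add, dot_add_right, dot_add_left, dot_add_left, ← sqNorm_dot, hv, hvx, hwx,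
      dot_comm (w : E), hvw] at this
    omega
  obtain ⟨j, t, hj, ht, hP⟩ := shape4 (mem_LL.1 (g • v).2) (by rw [act_norm, hv]) (Or.inl rfl) hv4
  obtain ⟨c, hc, hc0, hck⟩ := shape5 (mem_LL.1 (g • (v + w)).2) (by rw [act_norm, hu]) hu5
  have htj : t = 4 * (1 - 2 * lf (c j)) := by
    have h1 := act_dot g v (v + w)
    rw [AddSubgroup.coe_add, dot_add_right, ← sqNorm_dot, hv, hvw, hP, dot_P_left, hu5, hck j, if_neg (Ne.symm hj)] at h1
    rcases lf_cases (c j) with h2 | h2 <;> rw [h2] at h1 ⊢ <;> omega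
  obtain ⟨σ, hσ, h1, h2⟩ := m24_two nz hj
  have hc' := comp_mem hσ hc
  refine ⟨mono σ hσ _ hc' * g, ?_, ?_⟩
  · rw [mul_smul]
    change monoFun σ (fun i => c (σ i)) ((g • v : LL) : E) = _
    rw [hP, mono_P _ h1 h2, h1, h2, hc0, lf_zero, htj]
    have := sgn_sq (c j)
    have e : (1 - 2 * lf (c j)) * (4 * (1 - 2 * lf (c j))) = 4 := by linear_combination 4 * this
    rw [e]; rfl
  · rw [mul_smul]
    change monoFun σ (fun i => c (σ i)) ((g • (v + w) : LL) : E) = _
    funext k
    rw [monoFun, hck, ← mul_assoc, sgn_sq, one_mul, W5]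
    by_cases hk : k = none
    · rw [hk, h1]
    · rw [if_neg hk, if_neg]
      intro h3
      exact hk (σ.injective (h3.trans h1.symm))

/-- transitivity on pairs of minimal vectors with inner product `-8` -/
theorem tr_m8 (v w : LL) (hv : sqNorm (v : E) = 32) (hw : sqNorm (w : E) = 32) (hvw : dotInt (v : E) (w : E) = -8) :
    ∃ g : Co0, ((g • v : LL) : E) = P none pz 4 4 ∧ ((g • (v + w) : LL) : E) = W5 := by
  obtain ⟨g, hg⟩ := tr32 v hv
  suffices h : ∃ x : LL, sqNorm (x : E) = 32 ∧ dotInt ((g • v : LL) : E) (x : E) = 0 ∧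
      dotInt ((g • w : LL) : E) (x : E) = 16 by
    obtain ⟨x, hx, h1, h2⟩ := h
    obtain ⟨g', h3, h4⟩ := step_m8 (g • v) (g • w) x (by rw [act_norm, hv]) (by rw [act_norm, hw])
      (by rw [act_dot, hvw]) hx h1 h2
    refine ⟨g' * g, by rw [mul_smul]; exact h3, ?_⟩
    rw [mul_smul, act_add]; exact h4
  have hw1 : sqNorm ((g • w : LL) : E) = 32 := by rw [act_norm, hw]
  have hsum : dotInt ((g • v : LL) : E) ((g • w : LL) : E) = -8 := by rw [act_dot, hvw]
  rw [hg, dot_P_left] at hsum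
  rcases shape32 (mem_LL.1 (g • w).2) hw1 with ⟨a, b, s, t, hab, hs, ht, hP⟩ | ⟨c, y, h, h8, hk⟩ | ⟨c, y, a, h, ha, hk⟩
  · exfalso
    have hval : ∀ k, (4 : ℤ) ∣ ((g • w : LL) : E) k := by
      intro k
      rw [hP, P_apply]
      split_ifs <;> omega
    have h1 := hval none
    have h2 := hval pz
    omega
  · obtain ⟨j, hj, hj1⟩ := exists_one c {none, pz} (by
      rw [h8]
      have := Finset.card_le_two (a := (none : GolayPt)) (b := pz)
      omega)
    obtain ⟨k, hk0, hk1⟩ := exists_one c {none, pz, j} (by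
      rw [h8]
      have := Finset.card_le_three (a := (none : GolayPt)) (b := pz) (c := j)
      omega)
    simp only [Finset.mem_insert, Finset.mem_singleton, not_or] at hj hk0
    have ej := hk j
    have ek := hk k
    rw [hj1] at ej
    rw [hk1] at ek
    have ej' := sq4 (Or.inr rfl) ej
    have ek' := sq4 (Or.inr rfl) ek
    refine ⟨PL j k (s := 2 * ((g • w : LL) : E) j) (t := 2 * ((g • w : LL) : E) k) (by omega) (by omega),
      norm_PL (Ne.symm hk0.2.2) _ _, ?_, ?_⟩
    · rw [hg, PL_coe, dot_P_right, P_other hj.1 hj.2, P_other hk0.1 hk0.2.1]; ring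
    · rw [PL_coe, dot_P_right]; linarith
  · by_cases h1 : none = a
    · subst h1
      have h2 := hk pz (Ne.symm nz)
      refine ⟨PL none pz (Or.inr rfl) (Or.inl rfl), norm_PL nz _ _, ?_, ?_⟩
      · rw [hg, PL_coe, dot_P_right, P_left nz, P_right nz]; norm_num
      · rw [PL_coe, dot_P_right]
        rcases lf_cases (c none) with h3 | h3 <;> rcases lf_cases (c pz) with h4 | h4 <;> rw [h3] at ha <;>
          rw [h4] at h2 <;> omega
    by_cases h1' : pz = a
    · subst h1'
      have h2 := hk none nz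
      refine ⟨PL none pz (Or.inl rfl) (Or.inr rfl), norm_PL nz _ _, ?_, ?_⟩
      · rw [hg, PL_coe, dot_P_right, P_left nz, P_right nz]; norm_num
      · rw [PL_coe, dot_P_right]
        rcases lf_cases (c none) with h3 | h3 <;> rcases lf_cases (c pz) with h4 | h4 <;> rw [h3] at h2 <;>
          rw [h4] at ha <;> omega
    · obtain ⟨k, hk0⟩ := exists_notMem {none, pz, a} (by
        have := Finset.card_le_three (a := (none : GolayPt)) (b := pz) (c := a)
        omega)
      simp only [Finset.mem_insert, Finset.mem_singleton, not_or] at hk0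
      have ek := hk k hk0.2.2
      obtain ⟨s, t, hs, ht, hst⟩ : ∃ s t : ℤ, (s = 4 ∨ s = -4) ∧ (t = 4 ∨ t = -4) ∧
          s * ((g • w : LL) : E) a + t * ((g • w : LL) : E) k = 16 := by
        rcases lf_cases (c a) with h2 | h2 <;> rcases lf_cases (c k) with h3 | h3 <;> rw [ha, ek, h2, h3]
        · exact ⟨-4, 4, Or.inr rfl, Or.inl rfl, by norm_num⟩
        · exact ⟨-4, -4, Or.inr rfl, Or.inr rfl, by norm_num⟩
        · exact ⟨4, 4, Or.inl rfl, Or.inl rfl, by norm_num⟩
        · exact ⟨4, -4, Or.inl rfl, Or.inr rfl, by norm_num⟩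
      refine ⟨PL a k hs ht, norm_PL (Ne.symm hk0.2.2) _ _, ?_, ?_⟩
      · rw [hg, PL_coe, dot_P_right, P_other (Ne.symm h1) (Ne.symm h1'), P_other hk0.1 hk0.2.1]; ring
      · rw [PL_coe, dot_P_right]; exact hst

/-! ### norm 48 -/

theorem exists_24 (u : LL) (hu : sqNorm (u : E) = 48) (hne : ¬ ∃ c y, EvenVec (u : E) c y ∧ ∑ k, lf (c k) = 12) :
    ∃ v : LL, sqNorm (v : E) = 32 ∧ dotInt (v : E) (u : E) = 24 := by
  rcases shape48 (mem_LL.1 u.2) hu with ⟨c, y, h, h12, hk⟩ | ⟨c, y, a, h, h8, hca, ha, hk⟩ | ⟨c, y, a, h, ha, hk⟩ |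
    ⟨c, y, a, b, l, h, hab, _, _, ha, hb, hl, hk⟩
  · exact absurd ⟨c, y, h, h12⟩ hne
  · obtain ⟨j, hj, hj1⟩ := exists_one c {a} (by rw [h8, Finset.card_singleton]; norm_num)
    rw [Finset.mem_singleton] at hj
    have ej := hk j hj
    rw [hj1] at ej
    have ej' := sq4 (Or.inr rfl) ej
    have ha' : (u : E) a = 4 ∨ (u : E) a = -4 := by
      have : ((u : E) a - 4) * ((u : E) a + 4) = 0 := by ring_nf; linarith
      rcases mul_eq_zero.1 this with h | h
      · left; omega
      · right; omega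
    refine ⟨PL a j (s := (u : E) a) (t := 2 * (u : E) j) ha' (by omega), norm_PL (Ne.symm hj) _ _, ?_⟩
    rw [PL_coe, dot_P_left]; linarith
  · obtain ⟨k, hk0⟩ := exists_notMem {a} (by rw [Finset.card_singleton]; norm_num)
    rw [Finset.mem_singleton] at hk0
    have ek := hk k hk0
    obtain ⟨s, t, hs, ht, hst⟩ : ∃ s t : ℤ, (s = 4 ∨ s = -4) ∧ (t = 4 ∨ t = -4) ∧ s * (u : E) a + t * (u : E) k = 24 := by
      rcases lf_cases (c a) with h2 | h2 <;> rcases lf_cases (c k) with h3 | h3 <;> rw [ha, ek, h2, h3]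
      · exact ⟨4, 4, Or.inl rfl, Or.inl rfl, by norm_num⟩
      · exact ⟨4, -4, Or.inl rfl, Or.inr rfl, by norm_num⟩
      · exact ⟨-4, 4, Or.inr rfl, Or.inl rfl, by norm_num⟩
      · exact ⟨-4, -4, Or.inr rfl, Or.inr rfl, by norm_num⟩
    exact ⟨PL a k hs ht, norm_PL (Ne.symm hk0) _ _, by rw [PL_coe, dot_P_left]; exact hst⟩
  · obtain ⟨s, t, hs, ht, hst⟩ : ∃ s t : ℤ, (s = 4 ∨ s = -4) ∧ (t = 4 ∨ t = -4) ∧ s * (u : E) a + t * (u : E) b = 24 := by
      rcases lf_cases (c a) with h2 | h2 <;> rcases lf_cases (c b) with h3 | h3 <;> rw [ha, hb, h2, h3]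
      · exact ⟨-4, -4, Or.inr rfl, Or.inr rfl, by norm_num⟩
      · exact ⟨-4, 4, Or.inr rfl, Or.inl rfl, by norm_num⟩
      · exact ⟨4, -4, Or.inl rfl, Or.inr rfl, by norm_num⟩
      · exact ⟨4, 4, Or.inl rfl, Or.inl rfl, by norm_num⟩
    exact ⟨PL a b hs ht, norm_PL hab _ _, by rw [PL_coe, dot_P_left]; exact hst⟩

theorem exists_24' (u : LL) (hu : sqNorm (u : E) = 48) : ∃ v : LL, sqNorm (v : E) = 32 ∧ dotInt (v : E) (u : E) = 24 := by
  by_cases hne : ∃ c y, EvenVec (u : E) c y ∧ ∑ k, lf (c k) = 12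
  · obtain ⟨c, y, h, h12⟩ := hne
    have hk := h.tight (by rw [hu, h12]; norm_num)
    obtain ⟨a1, ha1, e1⟩ := exists_one c ∅ (by rw [h12, Finset.card_empty]; norm_num)
    obtain ⟨a2, ha2, e2⟩ := exists_one c {a1} (by rw [h12, Finset.card_singleton]; norm_num)
    obtain ⟨a3, ha3, e3⟩ := exists_one c {a1, a2} (by
      rw [h12]
      have := Finset.card_le_two (a := a1) (b := a2)
      omega)
    obtain ⟨a4, ha4, e4⟩ := exists_one c {a1, a2, a3} (by
      rw [h12]
      have := Finset.card_le_three (a := a1) (b := a2) (c := a3)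
      omega)
    simp only [Finset.mem_insert, Finset.mem_singleton, not_or] at ha2 ha3 ha4
    have f1 := hk a1
    have f2 := hk a2
    have f3 := hk a3
    have f4 := hk a4
    rw [e1] at f1
    rw [e2] at f2
    rw [e3] at f3
    rw [e4] at f4
    have g1 := sq4 (Or.inr rfl) f1
    have g2 := sq4 (Or.inr rfl) f2
    have g3 := sq4 (Or.inr rfl) f3
    have g4 := sq4 (Or.inr rfl) f4
    let x1 : LL := PL a1 a2 (s := 2 * (u : E) a1) (t := 2 * (u : E) a2) (by omega) (by omega)
    let x2 : LL := PL a3 a4 (s := 2 * (u : E) a3) (t := 2 * (u : E) a4) (by omega) (by omega)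
    have n1 : sqNorm (x1 : E) = 32 := norm_PL (Ne.symm ha2) _ _
    have n2 : sqNorm (x2 : E) = 32 := norm_PL (Ne.symm ha4.2.2) _ _
    have n3 : dotInt (x1 : E) (x2 : E) = 0 := by
      change dotInt (P a1 a2 _ _) (P a3 a4 _ _) = 0
      rw [dot_P_left, P_other (Ne.symm ha3.1) (Ne.symm ha4.1), P_other (Ne.symm ha3.2) (Ne.symm ha4.2.1)]; ring
    have hf : sqNorm ((x1 + x2 : LL) : E) = 64 := by
      rw [AddSubgroup.coe_add, sqNorm_add, n1, n2, n3]; norm_num
    obtain ⟨g, hg, hgd⟩ := exists_std (x1 + x2) hf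
    have hu4 : ((g • u : LL) : E) none = 4 := by
      have := hgd u
      rw [AddSubgroup.coe_add, dot_add_right] at this
      have e1 : dotInt (u : E) (x1 : E) = 16 := by
        change dotInt (u : E) (P a1 a2 _ _) = 16
        rw [dot_P_right]; linarith
      have e2 : dotInt (u : E) (x2 : E) = 16 := by
        change dotInt (u : E) (P a3 a4 _ _) = 16
        rw [dot_P_right]; linarith
      rw [e1, e2] at this
      omega
    have hne' : ¬ ∃ c y, EvenVec ((g • u : LL) : E) c y ∧ ∑ k, lf (c k) = 12 := by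
      rintro ⟨c', y', h', h12'⟩
      have := h'.tight (by rw [act_norm, hu, h12']; norm_num) none
      rw [hu4] at this
      rcases lf_cases (c' none) with h3 | h3 <;> rw [h3] at this <;> omega
    obtain ⟨v, hv, hvu⟩ := exists_24 (g • u) (by rw [act_norm, hu]) hne'
    refine ⟨g⁻¹ • v, by rw [act_norm, hv], ?_⟩
    rw [← act_dot g, smul_inv_smul]; exact hvu
  · exact exists_24 u hu hne

/-- transitivity on the vectors of norm 48 together with a summand -/
theorem tr48' (u v : LL) (hu : sqNorm (u : E) = 48) (hv : sqNorm (v : E) = 32) (huv : dotInt (v : E) (u : E) = 24) :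
    ∃ g : Co0, ((g • v : LL) : E) = P none pz 4 4 ∧ ((g • u : LL) : E) = W5 := by
  have e : v + (u - v) = u := by abel
  obtain ⟨g, h1, h2⟩ := tr_m8 v (u - v) hv (by
    rw [AddSubgroup.coe_sub, sqNorm_sub, hu, hv, dot_comm, huv]; norm_num) (by
    rw [AddSubgroup.coe_sub, dot_sub_right, huv, ← sqNorm_dot, hv]; norm_num)
  rw [e] at h2
  exact ⟨g, h1, h2⟩

theorem tr48 (u : LL) (hu : sqNorm (u : E) = 48) : ∃ g : Co0, ((g • u : LL) : E) = W5 := by
  obtain ⟨v, hv, huv⟩ := exists_24' u hu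
  obtain ⟨g, _, h⟩ := tr48' u v hu hv huv
  exact ⟨g, h⟩

end CfsgLib.Co
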