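import Cfsg.Agent.EqBase
import Cfsg.Agent.LibCoCo3AuA
set_option autoImplicit false
set_option linter.all false
set_option maxRecDepth 1000000
set_option maxHeartbeats 0
namespace CfsgLib.CoCo3Au
open Cfsg CfsgLib.Golay CfsgLib.M24 CfsgLib.Leech CfsgLib.Co MulAction CfsgLib.CoM
open CfsgLib.TC hiding eq_of_base
open CfsgLib.OrbM28 (gt gt_le)
def wx : List Col := [.c, .a, .b]
def wy : List Col := [.a, .b, .a, .b, .a, .b, .a, .b, .c, .a, .c, .b, .c, .a, .b, .a, .b, .a, .b, .a, .c, .b, .a, .c, .b, .a, .b, .a, .c, .a, .c, .b, .a, .c, .a, .b, .a, .b, .a, .b, .c, .b, .a, .b, .a, .b, .a, .c, .a, .c, .b, .a, .b, .c, .b, .c, .a, .b, .c, .a, .b, .a, .c, .a, .b]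
def ws : List Col := [.c, .a, .b, .c, .a, .b, .a, .c, .b, .a, .b, .c, .b, .c, .b, .a, .b, .a, .b, .c, .b, .c, .a, .b, .a, .c, .a, .b, .a, .c, .b, .c, .a, .b, .c, .a, .b, .a, .b, .c, .a, .b, .a, .c, .a, .b, .a, .c, .a, .b, .a, .b, .c, .b, .c, .b, .a]
noncomputable def TXt : ℕ := (nat_lit 0x152002a002800ce016e00cc0129009e019c003e00510040006c01dd0050001e0115006e01720220009f011b002201b10104010501ce00570034003501b30162017d01a6004400df000a019800130183016f017b00fd004300a800540138014d00250116007101da020d005d005f018b009301c201a700910073000501cf01c300290012003f00140087012c013a00bd011d00ae0069012b01370023006f00b1004100560121005e01bd01ec0082018a01320140012d015101260127009a014c013b011a00c10067013e0000014701dc01a301ad004f01ef0169003c018c010e00f80066018700e500a301e1011c0211021f008a0019009600bb006b01d401e5014e0092007d00ab0217021201cd011f00470136015e015600ba01300086003a01a401ab01d901ee0174004c017e00e3020101b700f9021b00ad021601b201280045008d00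a500af0068001d01100078018600b7013c01f800a201180218021a008900610143014b00900145015701b501ae01c4000b01f4018f01900134020301cb01de0149015802000120013f000201640161000e00d200d30173016700d400e600d700dd000101ac0017019b003601750048000300210004002000f200cd0095001c007701a201c700370165001b005b011e0114000900180094003000cb019f01a900ca00d800f6002d0052016b010300320171003d002c018e0139010200c70031016800c800e100ea002e0181019901c5001f002b01770133006d0180016301d2000601a8007f0221005500c400a701ba00f400b001fc02080062008e00a601f9013d0146015f00bf01f60160012500ee009901fb01ea00b601f5012400bc01d501fa0131014f015d007e0088015c01f70193020f021e0113010901cc020c00c201f00060008501b0020b0192015a0135020702230206022401df00b201f1008c0210007b0226014a01500141015300c000b401540155021900c600c3022500e80107002700cf00de0049005c002400f3009700980033021c00630079007200d000e2019700dc00e401c6019e000d000f010f0185002f00eb017000a101af0117020a01bf01780182019a01e200ff00750011017a000c01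2e00700026014400a901db00b30039004e007c008301ed01a100f7016d00d100c900f101e00108005a00150010017c01aa019500d90042005301bc016c0191020e019d00080016010b00460184014200a001c1012f0119009b01eb00be003801d8007a0084004b00e0022700e901c00166010d00ec00db018d0100010100d600fa00e700f5009d01a5003b006a01c9010601d101e6017601b8020400f000fc01be0179010a016a00ed00fb01a0021301e8021501fe00640058022201b40196008000650194009c01c801ca001a004d01b60111020200da00ef01d3017f01e4012a00ac00b800a40214008f021d014801e3008100aa00c5007401f201f301d000590122012300760205010c0188000700b501b90112020901d7004a01bb01e701d601e9008b018900fe015b00b9015901ff01fd00d5)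
noncomputable def TX (q : ℕ) : ℕ := Nat.land (Nat.shiftRight TXt (Nat.mul (nat_lit 16) q)) (nat_lit 65535)
noncomputable def TYt : ℕ := (nat_lit 0x2a00dc004401bf00e8002601c30161021f005101e200ca01670095018a01a2010500cd0175007900d300f6001b015f0116019e002f005500df00d000b000a301fc00a7001101170170000d00020049008e00e200630187016f01b1000a010701b3020800dd0048019700de010e005f0096012c013d01a3017a0130007d0144004101690047003d000c01dc017b002000c10137019f003500f4016200210024018c00050014004f004300270001007c009300ce01ce00870198000e011a00730003006b00320040011b00cc01cf01850178009700ff00cf01f600e50083004e016b00eb00b301af01a9021c00d4020d010f00e60212019a00300103002d01db01e5019c018e01a7006901c6001c00f300cb017d00f200d7017100ba001801ad0025022100360072012700b100980132005d00a10052014d01a601da015100fd016e005b011f009a001e01cd01140037015e0220009f011d0022006f00bd007100d20056017300280129013b006e01e1012d019b016501ed0182000901ec01ac0139014701c70004011e01dd01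7201b0019301d700e7003801890010011201c001bb00db006500ed01fb01b701a10195020400e90163009c019d0210012300a401d301f400e1006a017c00d1014f0101001600f100f9016801cb001d017901a5010601e901f3016c00d50227010b01fe021400ef01d0017f00c700fc01c5012f021500d900c301b2019600530102020e014301c90218017e002e01ee006d01eb01e8018101a801c10066007f00a6003f003c01ba003901f900a9000f005e00e40019012501d4009100750164014e001200f80062012b016000a80057013800130029011c0000015200bb0034003e0121008200ae020a005c00bf012e01360211012600d8015600ab01bd014600330054018301040017008a018b00c4013e0023009200860070002c013a01c2014c006c006701150217009e01ef014000500094007700b5004a01090223006000e000ee007b003b021e00a5003a00c2008c00fa004601b900ec00fe01ff00b401d1015501b6016a01b80205010a0188000700c901f00113005a0209018d010801cc00b9012a00d6004d008100da01d5018601ca00f5018f0176010001b501f100060202007a020f016d00b60150013500aa015c0134020b006101be00800099008b0042004c01fa012401f7008d001501410118001a01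53000b007e00780174013c00bc01d901a40142003101580128019000af00a20058015b010c01e701f501bc022401b4010d0219008f01a000590159019401ab0226020001e401d802130222009b0203020600c5013301f2008800f00166020700ac004b021b01ea01e000be01e600e301aa00f700ad008400ea00fb019101c801190149009001df014a001f00740120021d007600b800a001c40145019901de0225021a00b7011002160180002b018401770157014801d201f80089011100c8020c0131015401ae00b2015a01220085009d019200c0015d004501d6000800c600640201013f006801e3014b01fd)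
noncomputable def TY (q : ℕ) : ℕ := Nat.land (Nat.shiftRight TYt (Nat.mul (nat_lit 16) q)) (nat_lit 65535)
noncomputable def TSt : ℕ := (nat_lit 0x10c00a6011201df00b8007000a000c60008015900b900bf00bc011100c4009801d6000c0205008b00f30007007e00ac01f80103000b015301af01cc01c801a0010000d200260150000501ff01cd01f7018800d001e200b400b1022602070101019d0099010500ed011301fc00ff020b00da01be020c010400b0009a00eb00d1022101f9006201f600f401b900ee021001bb01fa01090042000f00a800a400bd009701db00a100c0020a00fa008e000d00aa010a0108001600b501d70063020900e2004a001100de00b600a70107004d0054021d009201ef012e0023014a008600ab0146001a01c2009000af013501aa00d601f1013100290056019a019200e400b201bd005500940064009d003700270039015d00b30013001200330160008f019401e001e800fc005301c101c901f200fb00f000ef01fd0110010d01eb01e901f500c3008801ed020600cf00fd018901e7010b00d900c50009015b00d500f7010f00720010020e01d8001500fe01e3014b00c80147000400850182004b01e40059018401ea00760084009b0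05c013e015a003b00ba015e0073017901c601ca00bb00f8006f013d020200a201d9014f009c007b0041014101cf0024008c017a001401d502080081000e014401420003007c00c2004900c100a90082007f013f002c006800180121006b0091013b0154014c012500340000014000750046006d00b70071007401c70083022501d000f1019100f5015c007a008000be00790148011900890067007701b001c0019e010e00df01ae016901a701ad00cb0132009601360057000201a4006001b301b6017001ba01e101b200e7022701f3010200db00d300ec019601bc0106020f01bf01fb00e801a801a5017e016601de016501ab022400e500e3021901a6001f0052021300ad019b0203005800e601e601ac018b00d8004e0185002500ea01b8012f016c005d006100ae01b400c9016d01ec00cd00e901cb018c01a301b1003d00a301ce004301dc00a501a2022300e0015f00dc004401290212004f0019021701b501180130015200cc021e0162014e011c0040009e012a01580021003a019f01640032003e003c011a0117002a01380137012c0035005e006601d4012b003f00470093019800c701f402150214017400ca01ee020001f0018a01c3019301d2006a017501430095008d01d101fe00f600360151007d0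0f2017801970065020d00e1017c01a100dd020400f900380195000a01d301da0120018001710149021601dd0145001e01c4005001720211011f011d017d021a0199012d001d01670186004c0190016a0183017f021801e5011e002d006c00170139006e0133003101c5002e00060156013c018d01770123001b0069014d001c0128002b0114013a0122018e008a0126002000010176017300450157009f0030005a0028022200d70201015501270087005f005b007800d4021c0124002f017b01a902200134019c0022021b0051018f01630116016b0168016e00ce021f0161018701b7016f004801150181011b)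
noncomputable def TS (q : ℕ) : ℕ := Nat.land (Nat.shiftRight TSt (Nat.mul (nat_lit 16) q)) (nat_lit 65535)
theorem tX : Tr.all (fun q => Nat.beq (walkC stp wx q) (TX q)) L = true := by decide +kernel
theorem tY : Tr.all (fun q => Nat.beq (walkC stp wy q) (TY q)) L = true := by decide +kernel
theorem tS : Tr.all (fun q => Nat.beq (walkC stp ws q) (TS q)) L = true := by decide +kernel
theorem hg : ∀ c, Acts φ (P c) (stp c) := fun c q => by rw [φ_P]; rfl
noncomputable def x : GG := gw P wx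
noncomputable def y : GG := gw P wy
noncomputable def s : GG := gw P ws
theorem hx : Acts φ x TX := Acts.of_tabC (Acts.gwC hg wx) tX
theorem hy : Acts φ y TY := Acts.of_tabC (Acts.gwC hg wy) tY
theorem hs : Acts φ s TS := Acts.of_tabC (Acts.gwC hg ws) tS
def Wx : List Col := [.a, .c, .a, .b, .a, .b, .c, .b, .a, .b, .a, .c, .b, .a, .b, .c, .a, .b, .a, .b, .c, .b, .a, .b, .a, .c, .a, .c, .b, .c, .a, .b, .a, .b, .c, .a, .b, .c, .a, .b, .c, .b, .a, .c, .b, .a, .c, .b, .a, .b, .a, .c, .b, .a, .b, .a, .c, .b, .c, .b, .c, .a, .b, .a, .c, .a, .c, .a, .b, .c, .b, .a, .b, .a, .b, .a, .b, .a, .c, .a, .b, .a, .b, .a, .b, .a, .b, .c, .b, .a, .c, .a, .b, .a, .c, .b, .c, .b, .c, .a, .b, .a, .c, .a, .c, .a, .b, .c, .b, .a, .b, .a, .b, .a, .b, .a, .c, .a, .b, .a, .b, .a, .b, .a, .b, .c, .b, .a, .c, .b, .c, .b, .c, .a, .c, .a, .b, .a, .c, .a, .b, .a, .c, .a, .c, .b, .c, .b, .c, .b, .c, .a, .b, .a, .c, .b, .c, .a, .b, .c, .b, .a, .c, .b, .c, .a,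 .b, .a, .c, .b, .a, .c, .a, .b, .a, .b, .c, .b, .c, .b, .c, .b, .a, .b, .a, .c, .a, .b, .c, .a, .b, .a, .c, .b, .c, .a, .b, .c, .b, .a, .c, .b, .c, .a, .b, .a, .c, .b, .c, .b, .c, .b, .c, .a, .c, .a, .b, .a, .c, .a, .b, .a, .c, .a, .c, .b, .c, .b, .c, .b, .c, .a, .b, .a, .c, .b, .c, .a, .b, .c, .b, .a, .c, .b, .c, .a, .b, .a, .c, .b, .a, .c, .a, .b, .a, .b, .c, .a, .c, .b, .a, .b, .a, .c, .a, .b, .a, .b, .c, .a, .b, .c, .a, .c, .b, .a, .c, .b, .a, .b, .a, .c, .a, .b, .a, .b, .c, .a, .c, .b, .a, .b, .a, .c, .a, .c, .b, .a, .c, .a, .b, .c, .b, .a, .b, .c, .a, .b, .c, .a, .c, .b, .a, .c, .b, .a, .b, .a, .c, .a, .b, .a, .b, .c, .a, .c, .b, .a, .b, .a, .c, .a, .c, .b, .a, .c, .a, .b, .c, .b, .a, .b, .c, .a, .b, .c, .a, .c, .b, .a, .c, .b, .a, .b, .c, .b, .a, .b, .a, .b, .c, .b, .a, .b, .a, .b, .c, .a, .b, .a, .b, .a, .c, .b, .a, .b, .c, .a, .b, .a, .b, .a, .c, .a, .b, .c, .b, .a, .b, .a, .b, .a, .b, .c, .b, .a, .c, .a, .b, .a, .b,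 .a, .c, .a, .b, .c, .b, .a, .c, .b, .a, .b, .a, .b, .a, .b, .c, .b, .a, .b, .a]
def Wy : List Col := [.a, .b, .a, .c, .a, .c, .a, .c, .b, .c, .a, .c, .b, .a, .c, .a, .b, .c, .a, .c, .b, .a, .c, .b, .a, .c, .b, .c, .a, .b, .a, .b, .c, .a, .b, .c, .a, .b, .c, .b, .a, .c, .b, .a, .c, .b, .a, .b, .a, .c, .b, .c, .a, .b, .c, .b, .a, .b, .a, .b, .a, .b, .c, .b, .c, .a, .c, .b, .a, .c, .b, .a, .b, .c, .b, .c, .b, .c, .b, .a, .b, .a, .c, .a, .b, .a, .b, .c, .b, .c, .a, .b, .a, .c, .b, .c, .b, .c, .a, .b, .a, .c, .a, .c, .a, .b, .c, .b, .a, .b, .a, .b, .a, .b, .a, .c, .a, .b, .a, .b, .a, .b, .a, .b, .c, .b, .a, .c, .b, .c, .a, .b, .a, .b, .c, .b, .a, .c, .a, .b, .a, .b, .a, .c, .b, .c, .a, .c, .b, .a, .b, .c, .b, .a, .b, .c, .a, .b, .c, .a, .c, .a, .b, .a, .b, .c, .b, .c, .b, .c, .b, .a, .b, .a, .c, .a, .c, .b, .c, .b, .c, .a, .c, .a, .b, .a, .c, .a, .b, .a, .c, .a, .c, .b, .c, .b, .c, .a, .c, .a, .b, .a, .b, .c, .b, .c, .b, .c, .b, .a,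 .b, .a, .c, .a, .b, .c, .a, .b, .a, .c, .b, .c, .a, .b, .c, .b, .a, .c, .b, .c, .a, .b, .a, .c, .b, .c, .b, .c, .b, .c, .a, .c, .a, .b, .a, .c, .a, .b, .a, .c, .a, .c, .b, .c, .b, .c, .a, .c, .a, .b, .a, .b, .c, .b, .c, .b, .c, .b, .a, .b, .a, .c, .a, .c, .b, .c, .b, .c, .a, .c, .a, .b, .a, .c, .a, .b, .a, .c, .a, .c, .b, .c, .b, .c, .a, .c, .a, .b, .a, .b, .c, .a, .c, .b, .a, .b, .a, .c, .a, .c, .b, .a, .c, .b, .c, .a, .b, .a, .b, .a, .c, .b, .a, .b, .a, .b, .c, .b, .a, .b, .a, .b, .a, .b, .c, .b, .a, .b, .a, .b, .c, .a, .b, .a, .b, .a, .c, .b, .a, .b, .c, .b, .a, .b, .a, .b, .a, .b, .c, .b, .a, .b, .a]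
theorem dx : CData φ P closed lvs x TX 322 Wx [486, 388] [0, 1, 2, 3, 5, 14, 4, 6, 7] := CData.mk' hx (by decide +kernel) (by decide +kernel) (by decide +kernel) (by decide +kernel)
theorem dy : CData φ P closed lvs y TY 322 Wy [507, 339] [0, 1, 2, 4, 5, 7, 3, 6, 8] := CData.mk' hy (by decide +kernel) (by decide +kernel) (by decide +kernel) (by decide +kernel)
def QX : List ℕ := [8, 33, 54, 55, 109, 111, 115, 120, 129, 139, 156, 209, 280, 281, 322, 332, 336, 378, 384, 405, 456, 473, 491]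
def QY : List ℕ := [322, 296, 335, 405, 121, 279, 532, 488, 321, 109, 324, 54, 516, 156, 129, 106, 209, 336, 281, 139, 303, 332]
theorem cX : Tr.all (cenB stp 80 [486, 388] lvs TX [0, 1, 2, 3, 5, 14, 4, 6, 7] QX) L = true := by decide +kernel
theorem cY : Tr.all (cenB stp 80 [507, 339] lvs TY [0, 1, 2, 4, 5, 7, 3, 6, 8] QY) L = true := by decide +kernel
noncomputable def Z : List (List Col) := [[],
  [.a, .b, .a, .c, .b, .c, .a, .c, .a, .c, .a, .b, .c, .a, .c, .b, .a, .c, .a, .b, .a, .b, .a, .c, .b, .c, .b, .c, .a, .c, .a, .b, .a, .c, .a, .b, .a, .c, .a, .c, .b, .c, .b, .c, .b, .c, .a, .b, .a, .c, .b, .c, .a, .b, .a, .c, .a, .b, .a, .c, .b, .c, .a, .b, .a, .c, .b, .c, .a, .b, .a, .c, .a, .b, .c, .b, .c, .b],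
  [.a, .b, .a, .c, .a, .b, .c, .b, .c, .b, .a, .b, .c, .a, .b, .a, .c, .b, .c, .b, .c, .a, .c, .b, .a, .b, .c, .a, .c, .b, .c, .b, .c, .b, .a, .c, .b, .c, .b, .c, .b, .a, .b, .c, .a, .b, .c, .b, .c, .b, .a, .b, .c, .b, .a, .c, .b, .a, .c, .a, .b, .a, .c, .a, .c, .b, .a],
  [.a, .c, .b, .c, .a, .c, .b, .a, .c, .a, .b, .c, .a, .c, .b, .c, .b, .c, .a, .b, .a, .c, .a, .c, .a, .b, .a, .c, .a, .b, .c, .b, .c, .a, .c, .b, .c, .b, .a, .c, .b, .a, .b, .a, .c, .b, .a, .b, .c, .b, .a, .b, .c, .a, .b, .a, .b, .a, .b, .c, .b, .a, .c, .b, .c, .b],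
  [.b, .a, .c, .a, .b, .a, .b, .a, .b, .a, .c, .b, .c, .a, .b, .a, .b, .a, .c, .a, .b, .c, .a, .b, .a, .b, .c, .b, .a, .b, .a, .b, .c, .a, .c, .b, .a, .c, .a, .c, .a, .c, .b, .c, .b, .a, .b, .a, .c, .a, .c, .b, .c, .a, .b, .a, .c, .b, .c, .a, .c, .a, .c, .b, .c, .a, .b, .a, .b, .a],
  [.c, .b, .a, .b, .a, .c, .a, .b, .a, .c, .a, .c, .b, .c, .a, .c, .b, .a, .c, .b, .a, .c, .a, .b, .a, .c, .a, .b, .a, .c, .b, .c, .b, .a, .b, .a, .c, .a, .b, .a, .c, .b, .a, .b, .c, .b, .a, .b, .c, .a, .b, .c, .b, .c, .b, .a, .c, .a, .b, .a, .c, .b, .a],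
  [.b, .a, .b, .a, .b, .a, .c, .a, .c, .b, .a, .b, .a, .c, .b, .a, .b, .a, .b, .a, .b, .c, .b, .c, .a, .c, .b, .a, .c, .b, .a, .b, .c, .b, .c, .b, .c, .b, .a, .b, .a, .c, .a, .b, .a, .c, .b, .c, .b, .c, .a, .b],
  [.b, .c, .b, .c, .b, .a, .b, .c, .b, .c, .a, .b, .a, .c, .b, .a, .b, .c, .b, .c, .b, .c, .b, .a, .b, .c, .a, .b, .a, .b, .c, .b, .a, .c, .b, .c, .b, .c, .b, .c, .a, .b, .a, .b, .a, .b, .a, .b, .c, .a, .b, .c, .b, .c, .b, .c, .b, .c, .b, .c, .b, .c, .b, .a, .c, .b, .c, .b, .a],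
  [.b, .c, .b, .c, .b, .a, .c, .b, .c, .a, .b, .c, .b, .c, .a, .c, .b, .a, .b, .c, .a, .b, .c, .b, .a, .c, .b, .a, .b, .c, .b, .c, .b, .c, .a, .b, .a, .c, .b, .c, .a, .c, .b, .a, .b, .c, .a, .c, .b, .c, .a, .b, .a, .c, .b, .c, .a, .b, .a, .c, .a, .b, .a, .b, .c],
  [.b, .a, .c, .b, .a, .b, .a, .b, .c, .a, .c, .b, .a, .b, .a, .b, .c, .a, .b, .c, .b, .c, .b, .c, .a, .c, .b, .a, .b, .a, .c, .b, .a, .c, .a, .c, .a, .b, .a, .c, .b],
  [.b, .c, .b, .a, .b, .c, .a, .b, .a, .c, .b, .a, .b, .a, .b, .a, .c, .b, .a, .b, .c, .a, .b, .a, .c, .b, .a, .b, .c, .a, .b, .a, .c, .a, .c, .a, .b, .a, .b, .c, .a, .b, .a, .c, .a, .b, .a, .c, .b, .a, .b, .a, .c, .a, .b, .c, .a, .b, .c, .b, .c, .a, .c, .a, .b],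
  [.b, .c, .a, .b, .c, .a, .c, .a, .c, .b, .a, .b, .c, .a, .c, .a, .b, .c, .a, .c, .b, .a, .c, .b, .a, .b, .a, .c, .a, .b, .a, .b, .c, .b, .c, .b, .c, .b, .a, .b, .a, .b, .a, .b, .c, .a, .c, .b],
  [.b, .a, .c, .b, .a, .b, .a, .c, .b, .a, .b, .c, .a, .b, .a, .c, .b, .a, .c, .a, .b, .a, .b, .a, .c, .b, .a, .b, .a, .b, .a, .c, .b, .c, .b, .a, .b, .c, .a, .b, .a, .c, .b, .a, .b, .c, .a, .c, .b, .c, .a, .b, .c, .a, .c, .b, .c, .a, .b, .a, .c],
  [.c, .a, .b, .a, .c, .b, .a, .b, .a, .c, .b, .c, .b, .a, .b, .c, .b, .a, .c, .a, .b, .a, .c, .b, .a, .b, .c, .b, .c, .b, .c, .b, .a, .b, .c, .a, .c, .a, .b, .a, .c, .b, .c, .a, .b, .a, .c, .a, .b, .a, .c, .b, .c, .a, .b, .a, .c, .b, .a, .c, .a, .c, .b, .a, .c, .a, .b, .a, .c],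
  [.c, .b, .c, .a, .c, .b, .c, .b, .c, .a, .c, .a, .b, .c, .b, .a, .c, .b, .a, .c, .a, .b, .c, .b, .a, .c, .b, .c, .a, .c, .b, .c, .a, .b, .a, .b, .a, .c, .b, .c, .a, .b, .a, .b, .c, .a, .b, .a, .b, .c, .a, .b, .a, .c, .a, .b, .a, .c, .b, .a, .b, .a, .c, .b, .a, .c, .b, .a, .c, .a, .b, .a, .b, .c],
  [.b, .c, .b, .c, .a, .c, .b, .c, .a, .b, .a, .c, .b, .a, .c, .a, .c, .b, .a, .c, .b, .c, .b, .c, .b, .a, .b, .a, .b, .a, .c, .b, .c, .a, .b, .a, .b, .a, .c, .a, .b, .c, .a, .b, .a, .b, .c, .a, .c, .a, .b, .a, .b, .c, .a, .b, .a, .c, .a, .b, .a, .c, .b, .a, .b, .a, .c, .a, .b, .a, .c, .b, .a, .c, .a, .c, .b, .c],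
  [.a, .b, .a, .b, .a, .b, .a, .b, .c, .a, .c, .b, .c, .a, .b, .a, .b, .a, .b, .a, .c, .b, .a, .c, .b, .a, .b, .a, .c, .a, .c, .b, .a, .c, .a, .b, .a, .b, .a, .b, .c, .b, .a, .b, .a, .b, .a, .c, .a, .c, .b, .a, .b, .c, .b, .c, .a, .b, .c, .a, .b, .a, .c, .a, .b],
  [.c, .b, .a, .b, .c, .a, .b, .c, .a, .b, .a, .c, .b, .c, .b, .c, .a, .b, .a, .b, .a, .c, .b, .a, .c, .a, .c, .b, .c, .a, .b, .a, .b, .a, .b, .a, .c, .b, .a, .b, .c, .b, .a, .c, .a, .b, .c, .b, .a, .b, .a, .c, .a, .b, .a, .c, .b, .a, .c, .a, .c, .b, .c, .a, .c, .b, .a, .c, .b, .a, .c],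
  [.a, .c, .a, .b, .a, .b, .c, .a, .b, .a, .c, .a, .b, .a, .c, .a, .c, .a, .b, .a, .b, .a, .b, .a, .b, .c, .b, .c, .b, .a, .b, .c, .a, .c, .b, .c, .a, .b, .a, .c, .a, .b, .a, .b, .a, .b, .a, .c, .a, .b, .c, .b, .a, .c, .b, .c, .a, .b, .c, .a, .b, .c, .b, .c, .b, .c],
  [.a, .b, .c, .b, .c, .b, .c, .b, .c, .b, .c, .b, .a, .b, .a, .b, .c, .a, .b, .c, .a, .c, .b, .a, .c, .b, .a, .b, .a, .c, .a, .b, .a, .b, .c, .b, .c, .b, .c, .b, .a, .b, .a, .c, .b, .c, .b, .c, .b, .c, .b, .a, .b, .c],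
  [.a, .b, .c, .b, .a, .c, .b, .c, .b, .c, .b, .c, .a, .c, .b, .a, .b, .c, .b, .a, .c, .a, .b, .a, .b, .a, .c, .b, .a, .c, .a, .c, .b, .c, .a, .c, .b, .c, .a, .b, .a, .b, .a, .c, .b, .c, .a, .b, .a, .b, .c, .a, .b, .c, .a, .c, .b, .c, .a, .c],
  [.a, .b, .c, .a, .c, .a, .c, .a, .b, .c, .b, .a, .b, .a, .b, .c, .b, .a, .c, .a, .b, .c, .b, .c, .b, .c, .a, .c, .b, .c, .b, .c, .a, .b, .a, .c, .b, .c, .a, .c, .b, .c, .a, .b, .a, .b, .c, .a, .b, .a, .c, .a, .b, .a, .c, .b, .c, .b, .c, .a, .b, .a, .c, .a, .b, .c, .a, .c, .a, .c, .a, .b, .c, .a, .b, .a, .c]]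
theorem zB : lall (fun w => agB (fun q => walk stp w (TY q)) (fun q => TY (walk stp w q)) (lvs.map Lv.b)) Z = true := by decide +kernel
theorem zQ : lall (fun a => lany2 (fun w => Nat.beq a (walk stp w 322)) Z) QY = true := by decide +kernel
theorem cy (c : GG) (h : c * y = y * c) : ∃ w ∈ Z, c = gw P w := dy.lst φ_P good cY Z zB zQ c h
theorem xQ : lall (fun a => lany2 (fun i => Nat.beq a (itN TX i 322)) (List.range 23)) QX = true := by decide +kernel
theorem cx (c : GG) (h : c * x = x * c) : ∃ i : ℕ, c = x ^ i := dx.cyc φ_P good cX x TX hx rfl 23 xQ c h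
theorem xp : x ^ 23 = 1 := eq_of_agB good (hx.pow 23) (Acts.one φ) (by decide +kernel)
theorem x1 : x ≠ 1 := ne_of_moved hx (Acts.one φ) (b := 322) (mem_sound (by decide +kernel)) (by decide +kernel)
theorem ox : orderOf x = 23 := by
  have : Fact (Nat.Prime 23) := ⟨by norm_num⟩
  exact orderOf_eq_prime xp x1
theorem yx : y * x = x ^ 3 * y := eq_of_agB good (hy.mul hx) ((hx.pow 3).mul hy) (by decide +kernel)
theorem sy : s * y = y ^ 3 * s := eq_of_agB good (hs.mul hy) ((hy.pow 3).mul hs) (by decide +kernel)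
def R : List (List ℕ) := [[0, 1, 0, 2, 2, 0, 1, 0, 2, 2, 0, 1, 0, 2, 2, 0, 1, 0, 2, 2, 0, 1, 0, 2, 2], [2, 0, 1, 0, 2, 0, 1, 0, 2, 0, 1, 0, 2, 0, 1, 0, 2, 0, 1, 0, 2, 0, 1, 0, 2, 0, 1, 0]]
theorem rB : relB TX TY TS R (lvs.map Lv.b) = true := by decide +kernel
theorem srv : srvB stp TX TY TS [1, 5] Z R [(1, 322)] 322 22 = true := by decide +kernel
noncomputable def E' : Col → List ℕ := fun c => Col.rec (motive := fun _ => List ℕ) [1, 2, 1, 1, 2, 0, 2, 1, 1, 2, 0, 0, 1, 0, 2, 0, 0, 1, 0, 2, 2, 1, 0, 1, 1, 1, 0, 2, 2, 2, 1, 2, 2, 0, 2, 1, 2, 1] [0, 2, 0, 2, 1, 1, 2, 2, 0, 2, 0, 1, 2, 0, 2, 1, 0, 1, 2, 1, 0, 1, 0, 0, 2, 0, 2, 2, 1, 1, 0, 2, 2, 1, 1, 2, 0, 2, 1, 2, 0, 2, 2, 1, 1, 1, 2] [2, 1, 1, 0, 0, 1, 0, 2, 2, 0, 2, 0, 0, 2, 2, 1, 0, 2, 2, 1, 0, 2, 0, 1, 0, 1, 2] c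
theorem eB : lall (fun c => agB (stp c) (walkC (st3 TX TY TS) (E' c)) (lvs.map Lv.b)) cols = true := by decide +kernel
theorem norm (α : MulAut GG) : ∃ h : GG, ∃ k ∈ [1, 5], ∃ z : GG, z * y = y * z ∧ h * α x * h⁻¹ = x ^ k ∧ h * α y * h⁻¹ = y ∧ h * α s * h⁻¹ = s * z := by
  have : Fact (Nat.Prime 23) := ⟨by norm_num⟩
  refine aut_norm2 (p := 23) (M := 23) (q := 1) ox (by norm_num) rfl (by rw [order]; norm_num) (fun c h => cx c (by simpa using h)) yx ?_ sy [1, 5] ?_ α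
  · have h : ∀ i < 23, ∃ a < 23, (a + 3 * i) % 23 = (3 * a) % 23 := by decide +kernel
    exact fun i hi => Or.inl (h i hi)
  · decide +kernel
theorem aut : AutD φ P stp lvs x y s TX TY TS [1, 5] Z 322 [(1, 322)] E' where
  hG := good
  hg := hg
  hgen := P_top
  hx := hx
  hy := hy
  hs := hs
  norm := norm
  cy := cy
  zy := fun w hw w' hw' h => dy.z_eq φ_P good zB hw hw' h
  srv := fun δ k hk w hw h1 h2 h3 => srv_sound good hg hx hy hs (mem_sound (by decide +kernel)) rB srv δ hk hw h1 h2 h3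
  hE := hE_of good hg hx hy hs hcols eB
theorem out_card : Nat.card (Cfsg.Out GG) = 1 := aut.out_one List.mem_cons_self rfl
end CfsgLib.CoCo3Au
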