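import Cfsg.Agent.EqBase
import Mathlib
import Cfsg.Agent.LibCoC
import Cfsg.Prelude.Def_SporadicCombinatorics

/-!
The stabiliser of the standard frame and the order of the lattice automorphism group.
-/

set_option autoImplicit false
set_option linter.constructorNameAsVariable false

namespace CfsgLib.Co

open Cfsg CfsgLib.Golay CfsgLib.M24 CfsgLib.Leech CfsgLib.Frame

/-- the coordinate vectors -/
def e8 (i : GolayPt) : LL := ⟨Pi.single i 8, mem_LL.2 (single8_mem i)⟩

theorem e8_coe (i : GolayPt) : (e8 i : E) = Pi.single i 8 := rfl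

theorem dot_e8 (v : LL) (i : GolayPt) : dotInt (v : E) (e8 i : E) = 8 * (v : E) i := by
  rw [e8_coe, dot_single_right]

theorem e8_norm (i : GolayPt) : sqNorm (e8 i : E) = 64 := by
  rw [sqNorm_dot, dot_e8, e8_coe, Pi.single_eq_same]; norm_num

/-- elements fixing all coordinate vectors up to sign -/
theorem ext_e8 {g h : Co0} (H : ∀ i, g • e8 i = h • e8 i) : g = h := by
  apply co_ext
  intro v
  have h1 : (h⁻¹ * g) • v = v := by
    apply Subtype.ext
    funext i
    have h2 := act_dot (h⁻¹ * g) v (e8 i)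
    have h3 : (h⁻¹ * g) • e8 i = e8 i := by rw [mul_smul, H, inv_smul_smul]
    rw [h3, dot_e8, dot_e8] at h2
    omega
  rw [mul_smul, inv_smul_eq_iff] at h1
  exact h1

theorem single_eq_iff {i j : GolayPt} {s t : ℤ} (hs : s ≠ 0) (h : (Pi.single i s : E) = Pi.single j t) : i = j ∧ s = t := by
  have h1 := congrFun h i
  rw [Pi.single_eq_same] at h1
  by_cases hij : i = j
  · subst hij
    rw [Pi.single_eq_same] at h1
    exact ⟨rfl, h1⟩
  · rw [Pi.single_eq_of_ne hij] at h1
    exact absurd h1 hs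

/-- the vector `(-3, 1, ..., 1)` -/
def W3 : E := fun k => if k = none then -3 else 1

theorem W3_mem : W3 ∈ Lam := by
  refine ⟨1, 0, Pi.single none (-1), Submodule.zero_mem _, fun i => ?_, ?_⟩
  · rw [W3, Pi.zero_apply, lf_zero, Pi.single_apply]
    split_ifs <;> norm_num
  · rw [sum_single_pt]; norm_num

theorem monoFun_lattice {σ : Equiv.Perm GolayPt} {c : GolayPt → ZMod 2}
    (h : ∀ x ∈ Lam, monoFun σ c x ∈ Lam) : σ ∈ M24 ∧ c ∈ golayCode := by
  constructor
  · have h1 : σ⁻¹ ∈ M24 := by
      rw [mem_M24_iff']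
      intro w hw
      rw [inv_inv]
      have h2 : (fun k => 2 * lf (w k)) ∈ Lam := even_mem hw (y := 0) (by simp) (fun i => by simp)
      have h3 := h _ h2
      rcases cases_mem h3 with ⟨c', y, h4⟩ | ⟨c', y, h4⟩
      · have : (fun p => w (σ p)) = c' := by
          funext k
          have h5 := h4.hx k
          rw [monoFun] at h5
          have h6 : lf (w (σ k)) = lf (c' k) := by
            rcases lf_cases (c k) with a | a <;> rcases lf_cases (w (σ k)) with b | b <;>
              rcases lf_cases (c' k) with d | d <;> rw [a, b, d] at h5 <;> rw [b, d] <;> omega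
          have h7 : ∀ a b : ZMod 2, lf a = lf b → a = b := by decide
          exact h7 _ _ h6
        rw [this]; exact h4.hc
      · exfalso
        have h5 := h4.hx none
        rw [monoFun] at h5
        rcases lf_cases (c none) with a | a <;> rw [a] at h5 <;> omega
    have := inv_mem h1
    rwa [inv_inv] at this
  · have h3 := h _ W3_mem
    rcases cases_mem h3 with ⟨c', y, h4⟩ | ⟨c', y, h4⟩
    · exfalso
      have h5 := h4.hx none
      have h6 : W3 (σ none) = -3 ∨ W3 (σ none) = 1 := by
        rw [W3]; split_ifs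
        · left; rfl
        · right; rfl
      rw [monoFun] at h5
      rcases h6 with h6 | h6 <;> rw [h6] at h5 <;> omega
    · have : c = c' := by
        funext k
        have h5 := h4.hx k
        have h6 : W3 (σ k) = -3 ∨ W3 (σ k) = 1 := by
          rw [W3]; split_ifs
          · left; rfl
          · right; rfl
        rw [monoFun] at h5
        have h8 : lf (c k) = lf (c' k) := by
          rcases h6 with h6 | h6 <;> rw [h6] at h5 <;> rcases lf_cases (c k) with a | a <;>
            rcases lf_cases (c' k) with d | d <;> rw [a, d] at h5 ⊢ <;> omega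
        have h7 : ∀ a b : ZMod 2, lf a = lf b → a = b := by decide
        exact h7 _ _ h8
      rw [this]; exact h4.hc

/-- elements permuting the coordinate axes are monomial -/
theorem exists_mono_of {g : Co0} (h : ∀ i, ∃ j s, (s = 8 ∨ s = -8) ∧ ((g • e8 i : LL) : E) = Pi.single j s) :
    ∃ (σ : Equiv.Perm GolayPt) (hσ : σ ∈ M24) (c : GolayPt → ZMod 2) (hc : c ∈ golayCode), g = mono σ hσ c hc := by
  classical
  choose τ s hs hg using h
  have hinj : Function.Injective τ := by
    intro i j hij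
    by_contra hne
    have h1 := act_dot g (e8 i) (e8 j)
    rw [hg, hg, hij, dot_single_left, Pi.single_eq_same, dot_e8, e8_coe, Pi.single_eq_of_ne (Ne.symm hne)] at h1
    rcases hs i with h2 | h2 <;> rcases hs j with h3 | h3 <;> rw [h2, h3] at h1 <;> omega
  let T : Equiv.Perm GolayPt := Equiv.ofBijective τ (Finite.injective_iff_bijective.1 hinj)
  have hT : ∀ i, T i = τ i := fun i => rfl
  let c : GolayPt → ZMod 2 := fun k => if s (T.symm k) = 8 then 0 else 1
  have hfun : ∀ v : LL, ((g • v : LL) : E) = monoFun T.symm c (v : E) := by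
    intro v
    funext k
    have h1 := act_dot g v (e8 (T.symm k))
    rw [hg, dot_single_right, dot_e8, ← hT, T.apply_symm_apply] at h1
    have hc : c k = if s (T.symm k) = 8 then 0 else 1 := rfl
    rw [monoFun]
    rcases hs (T.symm k) with h2 | h2
    · rw [h2] at h1
      rw [hc, if_pos h2, lf_zero]; omega
    · rw [h2] at h1
      rw [hc, if_neg (by rw [h2]; norm_num), lf_one]; omega
  obtain ⟨hσ, hc⟩ := monoFun_lattice (σ := T.symm) (c := c) (fun x hx => by
    rw [← hfun ⟨x, mem_LL.2 hx⟩]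
    exact mem_LL.1 (g • (⟨x, mem_LL.2 hx⟩ : LL)).2)
  refine ⟨T.symm, hσ, c, hc, ?_⟩
  apply co_ext
  intro v
  apply Subtype.ext
  exact hfun v

/-- vectors congruent to a coordinate vector -/
theorem frame_cong {y z : E} (hz : z ∈ Lam) (hn : sqNorm y = 64) (h : y - Pi.single none 8 = z + z) :
    ∃ j s, (s = 8 ∨ s = -8) ∧ y = Pi.single j s := by
  have hy : ∀ k, y k = 2 * (z k + (Pi.single none 4 : E) k) := by
    intro k
    have h1 := congrFun h k
    rw [Pi.sub_apply, Pi.add_apply] at h1
    by_cases hk : k = none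
    · rw [hk, Pi.single_eq_same] at h1 ⊢; omega
    · rw [Pi.single_eq_of_ne hk] at h1 ⊢; omega
  have hsum : ∑ k, (z k + (Pi.single none 4 : E) k) ^ 2 = 16 := by
    have : sqNorm y = 4 * ∑ k, (z k + (Pi.single none 4 : E) k) ^ 2 := by
      rw [sqNorm, Finset.mul_sum]
      apply Finset.sum_congr rfl
      intro k _
      rw [hy]; ring
    omega
  rcases cases_mem hz with ⟨c, t, ht⟩ | ⟨c, t, ht⟩
  · have h4 : ∀ k, z k + (Pi.single none 4 : E) k = 2 * lf (c k) + 4 * (t k + (Pi.single none 1 : E) k) := by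
      intro k
      rw [ht.hx, Pi.single_apply, Pi.single_apply]
      split_ifs <;> ring
    have hle : 4 * ∑ k, lf (c k) ≤ 16 := by
      rw [← hsum, Finset.mul_sum]
      apply Finset.sum_le_sum
      intro k _
      rw [h4]; exact sq_ge _ _
    have hcs := sum_lf_cases ht.hc
    have h0 : ∑ k, lf (c k) = 0 := by omega
    have h1 := all_zero Finset.univ (fun k => lf (c k)) (fun k _ => lf_nonneg _) h0
    have h5 : ∑ k, (t k + (Pi.single none 1 : E) k) ^ 2 = 1 := by
      have : ∑ k, (z k + (Pi.single none 4 : E) k) ^ 2 = 16 * ∑ k, (t k + (Pi.single none 1 : E) k) ^ 2 := by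
        rw [Finset.mul_sum]
        apply Finset.sum_congr rfl
        intro k _
        have h6 : lf (c k) = 0 := h1 k (Finset.mem_univ k)
        rw [h4, h6]; ring
      omega
    obtain ⟨i, hi, hk⟩ := sum_one _ (fun k => sq_nonneg _) h5
    have hyk : ∀ k, y k = 8 * (t k + (Pi.single none 1 : E) k) := by
      intro k
      have h6 : lf (c k) = 0 := h1 k (Finset.mem_univ k)
      rw [hy, h4, h6]; ring
    refine ⟨i, y i, ?_, ?_⟩
    · rcases sq_one hi with h | h <;> rw [hyk, h] <;> norm_num
    · funext k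
      by_cases hki : k = i
      · rw [hki, Pi.single_eq_same]
      · rw [Pi.single_eq_of_ne hki, hyk]
        have := hk k hki
        rw [pow_eq_zero_iff two_ne_zero] at this
        rw [this]; rfl
  · exfalso
    have h1 : ∑ _k : GolayPt, (1 : ℤ) ≤ ∑ k, (z k + (Pi.single none 4 : E) k) ^ 2 := by
      apply Finset.sum_le_sum
      intro k _
      have h2 : z k + (Pi.single none 4 : E) k ≠ 0 := by
        obtain ⟨u, hu⟩ := ht.odd k
        rw [Pi.single_apply]
        split_ifs <;> omega
      have := sq_pos_of_ne_zero h2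
      omega
    rw [hsum, Finset.sum_const, Finset.card_univ, card_pt, nsmul_eq_mul] at h1
    norm_num at h1

/-- elements fixing a coordinate vector are monomial -/
theorem mono_of_fix {g : Co0} (h : g • e8 none = e8 none) :
    ∃ (σ : Equiv.Perm GolayPt) (hσ : σ ∈ M24) (c : GolayPt → ZMod 2) (hc : c ∈ golayCode), g = mono σ hσ c hc ∧
      σ none = none ∧ c none = 0 := by
  obtain ⟨σ, hσ, c, hc, hg⟩ := exists_mono_of (g := g) (fun i => by
    obtain ⟨z, hz⟩ : ∃ z : LL, e8 i - e8 none = z + z := by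
      refine ⟨PL i none (Or.inl rfl) (Or.inr rfl), Subtype.ext ?_⟩
      change (Pi.single i 8 : E) - Pi.single none 8 = P i none 4 (-4) + P i none 4 (-4)
      funext k
      rw [Pi.sub_apply, Pi.add_apply, P_apply, Pi.single_apply, Pi.single_apply]
      split_ifs <;> omega
    have h1 : g • e8 i - e8 none = g • z + g • z := by
      rw [← act_add, ← hz, act_sub, h]
    exact frame_cong (mem_LL.1 (g • z).2) (by rw [act_norm, e8_norm]) (congrArg Subtype.val h1))
  refine ⟨σ, hσ, c, hc, hg, ?_⟩
  have h1 : monoFun σ c (Pi.single none 8) = Pi.single none 8 := by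
    have : ((g • e8 none : LL) : E) = (e8 none : E) := by rw [h]
    rw [hg] at this
    exact this
  rw [mono_single c (a := none) (a' := σ⁻¹ none) (by simp)] at h1
  obtain ⟨h2, h3⟩ := single_eq_iff (by rcases lf_cases (c (σ⁻¹ none)) with a | a <;> rw [a] <;> norm_num) h1
  have h4 : σ none = none := by
    have h5 : σ (σ⁻¹ none) = none := by simp
    rwa [h2] at h5
  refine ⟨h4, ?_⟩
  rw [h2] at h3
  rw [← lf_eq_zero]
  omega

/-- parameters of monomial elements are unique -/
theorem mono_inj {σ τ : Equiv.Perm GolayPt} {hσ : σ ∈ M24} {hτ : τ ∈ M24} {c d : GolayPt → ZMod 2} {hc : c ∈ golayCode}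
    {hd : d ∈ golayCode} (h : mono σ hσ c hc = mono τ hτ d hd) : σ = τ ∧ c = d := by
  have h1 : ∀ i, monoFun σ c (Pi.single i 8) = monoFun τ d (Pi.single i 8) := by
    intro i
    have : ((mono σ hσ c hc • e8 i : LL) : E) = ((mono τ hτ d hd • e8 i : LL) : E) := by rw [h]
    exact this
  have h2 : ∀ i, σ⁻¹ i = τ⁻¹ i ∧ (1 - 2 * lf (c (σ⁻¹ i))) * 8 = (1 - 2 * lf (d (τ⁻¹ i))) * 8 := by
    intro i
    have h3 := h1 i
    rw [mono_single c (a := i) (a' := σ⁻¹ i) (by simp), mono_single d (a := i) (a' := τ⁻¹ i) (by simp)] at h3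
    exact single_eq_iff (by rcases lf_cases (c (σ⁻¹ i)) with a | a <;> rw [a] <;> norm_num) h3
  have h3 : σ = τ := by
    have : σ⁻¹ = τ⁻¹ := Equiv.ext fun i => (h2 i).1
    exact inv_injective this
  subst h3
  refine ⟨rfl, ?_⟩
  funext k
  have h4 := (h2 (σ k)).2
  have h6 : σ⁻¹ (σ k) = k := by simp
  rw [h6] at h4
  have h5 : lf (c k) = lf (d k) := by omega
  have h7 : ∀ a b : ZMod 2, lf a = lf b → a = b := by decide
  exact h7 _ _ h5

/-! ### the order -/

/-- the stabiliser of the standard frame -/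
def NN : Subgroup Co0 where
  carrier := {g | ∀ v : LL, (v : E) ∈ stdCross → ((g • v : LL) : E) ∈ stdCross}
  one_mem' := fun v hv => by rw [one_smul]; exact hv
  mul_mem' := fun {a b} ha hb v hv => by rw [mul_smul]; exact ha _ (hb _ hv)
  inv_mem' := by
    intro a ha v hv
    obtain ⟨σ, hσ, c, hc, rfl⟩ := exists_mono_of (g := a) (fun i => by
      obtain ⟨j, s, hs, h⟩ := ha (e8 i) ⟨i, 8, Or.inl rfl, rfl⟩
      exact ⟨j, s, hs, h⟩)
    obtain ⟨j, s, hs, hv⟩ := hv
    have h1 : (mono σ hσ c hc)⁻¹ • v = (mono σ⁻¹ (inv_mem hσ) (fun i => c (σ⁻¹ i)) (comp_mem (inv_mem hσ) hc)) • v := rfl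
    rw [h1]
    refine ⟨σ j, (1 - 2 * lf (c j)) * s, ?_, ?_⟩
    · rcases lf_cases (c j) with h | h <;> rw [h] <;> omega
    · change monoFun σ⁻¹ (fun i => c (σ⁻¹ i)) (v : E) = _
      rw [hv, mono_single _ (a := j) (a' := σ j) (by simp)]
      simp

theorem mono_mem_NN {σ : Equiv.Perm GolayPt} (hσ : σ ∈ M24) {c : GolayPt → ZMod 2} (hc : c ∈ golayCode) :
    mono σ hσ c hc ∈ NN := by
  intro v hv
  obtain ⟨j, s, hs, hv⟩ := hv
  refine ⟨σ⁻¹ j, (1 - 2 * lf (c (σ⁻¹ j))) * s, ?_, ?_⟩
  · rcases lf_cases (c (σ⁻¹ j)) with h | h <;> rw [h] <;> omega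
  · change monoFun σ c (v : E) = _
    rw [hv, mono_single c (a := j) (a' := σ⁻¹ j) (by simp)]

theorem exists_of_NN {g : Co0} (hg : g ∈ NN) :
    ∃ (σ : Equiv.Perm GolayPt) (hσ : σ ∈ M24) (c : GolayPt → ZMod 2) (hc : c ∈ golayCode), g = mono σ hσ c hc :=
  exists_mono_of (fun i => by
    obtain ⟨j, s, hs, h⟩ := hg (e8 i) ⟨i, 8, Or.inl rfl, rfl⟩
    exact ⟨j, s, hs, h⟩)

/-- elements of the frame stabiliser as pairs -/
def toNN (p : M24 × golayCode) : NN := ⟨mono p.1 p.1.2 p.2 p.2.2, mono_mem_NN _ _⟩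

theorem toNN_bij : Function.Bijective toNN := by
  constructor
  · rintro ⟨⟨σ, hσ⟩, ⟨c, hc⟩⟩ ⟨⟨τ, hτ⟩, ⟨d, hd⟩⟩ h
    obtain ⟨h1, h2⟩ := mono_inj (hσ := hσ) (hτ := hτ) (hc := hc) (hd := hd) (congrArg Subtype.val h)
    have h1' : σ = τ := h1
    have h2' : c = d := h2
    subst h1'
    subst h2'
    rfl
  · rintro ⟨g, hg⟩
    obtain ⟨σ, hσ, c, hc, h⟩ := exists_of_NN hg
    exact ⟨(⟨σ, hσ⟩, ⟨c, hc⟩), Subtype.ext h.symm⟩

theorem card_code : Nat.card golayCode = 4096 := by
  have h3 := Module.natCard_eq_pow_finrank (K := ZMod 2) (V := golayCode)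
  rw [Cfsg.Agent.S0358.result, Nat.card_zmod] at h3
  rw [h3]; norm_num

theorem card_NN : Nat.card NN = 4096 * 244823040 := by
  rw [← Nat.card_eq_of_bijective toNN toNN_bij, Nat.card_prod, Cfsg.Agent.S0364.result, card_code, mul_comm]

theorem stdCross_card : {v : LL | (v : E) ∈ stdCross}.ncard = 48 := by
  classical
  let f : GolayPt × Bool → LL := fun p => if p.2 then e8 p.1 else -e8 p.1
  have hf : Function.Injective f := by
    rintro ⟨i, a⟩ ⟨j, b⟩ h
    have h1 : ∀ (k : GolayPt) (d : Bool), ((f (k, d) : LL) : E) = Pi.single k (if d then 8 else -8) := by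
      intro k d
      cases d
      · change -(Pi.single k 8 : E) = Pi.single k (-8)
        rw [← Pi.single_neg]
      · rfl
    have h2 : (Pi.single i (if a then 8 else -8) : E) = Pi.single j (if b then 8 else -8) := by
      rw [← h1, ← h1, h]
    obtain ⟨h3, h4⟩ := single_eq_iff (by split_ifs <;> norm_num) h2
    subst h3
    cases a <;> cases b <;> simp at h4 ⊢
  have h1 : {v : LL | (v : E) ∈ stdCross} = Set.range f := by
    ext v
    constructor
    · rintro ⟨i, s, hs, h⟩
      rcases hs with rfl | rfl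
      · exact ⟨(i, true), Subtype.ext h.symm⟩
      · refine ⟨(i, false), Subtype.ext ?_⟩
        change -(Pi.single i 8 : E) = (v : E)
        rw [h, ← Pi.single_neg]
    · rintro ⟨⟨i, b⟩, rfl⟩
      cases b
      · refine ⟨i, -8, Or.inr rfl, ?_⟩
        change -(Pi.single i 8 : E) = _
        rw [← Pi.single_neg]
      · exact ⟨i, 8, Or.inl rfl, rfl⟩
  rw [h1, ← Set.image_univ, Set.ncard_image_of_injective _ hf, Set.ncard_univ, Nat.card_prod,
    Nat.card_eq_fintype_card, card_pt, Nat.card_eq_fintype_card, Fintype.card_bool]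

theorem card_stab_e8 : Nat.card (MulAction.stabilizer Co0 (e8 none)) * 48 = 4096 * 244823040 := by
  have h1 := (MulAction.stabilizer NN (e8 none)).card_mul_index
  rw [MulAction.index_stabilizer, card_NN] at h1
  have h2 : MulAction.orbit NN (e8 none) = {v : LL | (v : E) ∈ stdCross} := by
    ext v
    constructor
    · rintro ⟨⟨g, hg⟩, rfl⟩
      exact hg _ ⟨none, 8, Or.inl rfl, rfl⟩
    · rintro ⟨i, s, hs, h⟩
      obtain ⟨σ, hσ, hi⟩ := m24_one i none
      obtain ⟨c, hc, hci, _⟩ := code2 (a := i) (b := (exists_third i i).choose) (exists_third i i).choose_spec.1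
        (if s = 8 then 0 else 1) 0
      refine ⟨⟨mono σ hσ c hc, mono_mem_NN hσ hc⟩, Subtype.ext ?_⟩
      change monoFun σ c (Pi.single none 8) = (v : E)
      rw [mono_single c hi, hci, h]
      rcases hs with rfl | rfl
      · rw [if_pos rfl, lf_zero]; rfl
      · rw [if_neg (by norm_num), lf_one]; rfl
  rw [h2, stdCross_card] at h1
  rw [← h1]
  congr 1
  refine Nat.card_congr ⟨fun g => ⟨⟨g.1, ?_⟩, ?_⟩, fun g => ⟨g.1.1, ?_⟩, fun g => ?_, fun g => ?_⟩
  · obtain ⟨σ, hσ, c, hc, h, _⟩ := mono_of_fix g.2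
    rw [h]; exact mono_mem_NN hσ hc
  · exact g.2
  · exact g.2
  · rfl
  · rfl

theorem orbit_e8 : MulAction.orbit Co0 (e8 none) = {v : LL | sqNorm (v : E) = 64} := by
  ext v
  constructor
  · rintro ⟨g, rfl⟩
    change sqNorm ((g • e8 none : LL) : E) = 64
    rw [act_norm, e8_norm]
  · intro hv
    obtain ⟨g, hg, _⟩ := exists_std v hv
    refine ⟨g⁻¹, ?_⟩
    change g⁻¹ • e8 none = v
    rw [inv_smul_eq_iff]
    exact Subtype.ext hg.symm

theorem ncard_LL (N : ℤ) : {v : LL | sqNorm (v : E) = N}.ncard = {x : E | x ∈ Lam ∧ sqNorm x = N}.ncard := by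
  have : {x : E | x ∈ Lam ∧ sqNorm x = N} = Subtype.val '' {v : LL | sqNorm (v : E) = N} := by
    ext x
    constructor
    · rintro ⟨h1, h2⟩; exact ⟨⟨x, mem_LL.2 h1⟩, h2, rfl⟩
    · rintro ⟨v, hv, rfl⟩; exact ⟨mem_LL.1 v.2, hv⟩
  rw [this, Set.ncard_image_of_injective _ Subtype.val_injective]

theorem card_Co0 : Nat.card Co0 = 8315553613086720000 := by
  have h1 := (MulAction.stabilizer Co0 (e8 none)).card_mul_index
  rw [MulAction.index_stabilizer, orbit_e8, ncard_LL] at h1
  have h2 : {x : E | x ∈ Lam ∧ sqNorm x = 64}.ncard = 398034000 := shell64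
  rw [h2] at h1
  have h3 := card_stab_e8
  have h4 : Nat.card (MulAction.stabilizer Co0 (e8 none)) = 20891566080 :=
    Nat.eq_of_mul_eq_mul_right (by norm_num : 0 < 48) (h3.trans (by norm_num))
  rw [← h1, h4]

/-! ### the centre -/

theorem center_cases {z : Co0} (hz : z ∈ Subgroup.center Co0) : z = 1 ∨ z = negCo := by
  rw [Subgroup.mem_center_iff] at hz
  have h0 : ∀ k, k ≠ none → ((z • e8 none : LL) : E) k = 0 := by
    intro k hk
    obtain ⟨c, hc, c1, c2⟩ := code2 hk 1 0
    have h1 := hz (mono 1 M24.one_mem c hc)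
    have h2 : mono 1 M24.one_mem c hc • e8 none = e8 none := by
      apply Subtype.ext
      change monoFun 1 c (Pi.single none 8) = Pi.single none 8
      rw [mono_single c (a := none) (a' := none) rfl, c2, lf_zero]; rfl
    have h3 : (mono 1 M24.one_mem c hc) • (z • e8 none) = z • e8 none := by
      rw [← mul_smul, h1, mul_smul, h2]
    have h4 : (((mono 1 M24.one_mem c hc) • (z • e8 none) : LL) : E) k = ((z • e8 none : LL) : E) k := by rw [h3]
    rw [mono_apply, c1, lf_one, Equiv.Perm.one_apply] at h4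
    omega
  have h1 : ((z • e8 none : LL) : E) = Pi.single none (((z • e8 none : LL) : E) none) := by
    funext k
    by_cases hk : k = none
    · rw [hk, Pi.single_eq_same]
    · rw [Pi.single_eq_of_ne hk, h0 k hk]
  have h2 : ((z • e8 none : LL) : E) none = 8 ∨ ((z • e8 none : LL) : E) none = -8 := by
    have h3 := act_norm z (e8 none)
    rw [h1, e8_norm, sqNorm_dot, dot_single_left, Pi.single_eq_same] at h3
    have : (((z • e8 none : LL) : E) none - 8) * (((z • e8 none : LL) : E) none + 8) = 0 := by linarith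
    rcases mul_eq_zero.1 this with h | h
    · left; omega
    · right; omega
  have hall : ∀ i, ∃ g : Co0, g • e8 none = e8 i := by
    intro i
    obtain ⟨σ, hσ, hi⟩ := m24_one i none
    refine ⟨mono σ hσ 0 (Submodule.zero_mem _), Subtype.ext ?_⟩
    change monoFun σ 0 (Pi.single none 8) = Pi.single i 8
    rw [mono_single 0 hi, Pi.zero_apply, lf_zero]; rfl
  rcases h2 with h2 | h2
  · left
    have h3 : z • e8 none = e8 none := Subtype.ext (by rw [h1, h2]; rfl)
    apply ext_e8
    intro i
    obtain ⟨g, hg⟩ := hall i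
    rw [one_smul, ← hg, ← mul_smul, ← hz g, mul_smul, h3]
  · right
    have h3 : z • e8 none = -e8 none := Subtype.ext (by
      rw [h1, h2]
      change Pi.single none (-8) = -(Pi.single none 8 : E)
      rw [← Pi.single_neg])
    apply ext_e8
    intro i
    obtain ⟨g, hg⟩ := hall i
    rw [negCo_apply, ← hg, ← mul_smul, ← hz g, mul_smul, h3, act_neg]

theorem negCo_mem : negCo ∈ Subgroup.center Co0 := by
  rw [Subgroup.mem_center_iff]
  intro g
  apply co_ext
  intro v
  rw [mul_smul, mul_smul, negCo_apply, negCo_apply, act_neg]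

theorem negCo_ne : negCo ≠ 1 := by
  intro h
  have h1 : negCo • e8 none = (1 : Co0) • e8 none := by rw [h]
  rw [negCo_apply, one_smul] at h1
  have h2 := congrFun (congrArg Subtype.val h1) none
  change -(Pi.single none 8 : E) none = (Pi.single none 8 : E) none at h2
  rw [Pi.single_eq_same] at h2
  omega

theorem card_center : Nat.card (Subgroup.center Co0) = 2 := by
  have : (Subgroup.center Co0 : Set Co0) = {1, negCo} := by
    ext z
    constructor
    · intro hz
      rcases center_cases hz with h | h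
      · exact Or.inl h
      · exact Or.inr h
    · rintro (rfl | rfl)
      · exact (Subgroup.center Co0).one_mem
      · exact negCo_mem
  rw [← SetLike.coe_sort_coe, Nat.card_coe_set_eq, this, Set.ncard_pair (Ne.symm negCo_ne)]

end CfsgLib.Co
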