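import Cfsg.Agent.EqBase
import Mathlib
import Cfsg.Agent.LibCoD

/-!
Counting short vectors by inner products.
-/

set_option autoImplicit false
set_option linter.constructorNameAsVariable false

namespace CfsgLib.Co

open Cfsg CfsgLib.Golay CfsgLib.M24 CfsgLib.Leech CfsgLib.Frame

/-- the number of vectors of norm `b` with inner product `r` with `v` -/
noncomputable def cntD (v : LL) (b r : ℤ) : ℕ := {w : LL | sqNorm (w : E) = b ∧ dotInt (v : E) (w : E) = r}.ncard

theorem cntD_act (g : Co0) (v : LL) (b r : ℤ) : cntD (g • v) b r = cntD v b r := by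
  have h : {w : LL | sqNorm (w : E) = b ∧ dotInt ((g • v : LL) : E) (w : E) = r} =
      (fun w : LL => g • w) '' {w : LL | sqNorm (w : E) = b ∧ dotInt (v : E) (w : E) = r} := by
    ext w
    constructor
    · rintro ⟨h1, h2⟩
      refine ⟨g⁻¹ • w, ⟨by rw [act_norm]; exact h1, ?_⟩, smul_inv_smul g w⟩
      rw [← act_dot g, smul_inv_smul]; exact h2
    · rintro ⟨w', ⟨h1, h2⟩, rfl⟩
      exact ⟨by rw [act_norm]; exact h1, by rw [act_dot]; exact h2⟩
  rw [cntD, h, Set.ncard_image_of_injective _ (MulAction.injective g)]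
  rfl

theorem cntD_sub (v : LL) (a b r : ℤ) (ha : sqNorm (v : E) = a) : cntD v b r = cntD v (a - 2 * r + b) (a - r) := by
  have h : {w : LL | sqNorm (w : E) = a - 2 * r + b ∧ dotInt (v : E) (w : E) = a - r} =
      (fun w : LL => v - w) '' {w : LL | sqNorm (w : E) = b ∧ dotInt (v : E) (w : E) = r} := by
    ext w
    constructor
    · rintro ⟨h1, h2⟩
      refine ⟨v - w, ⟨?_, ?_⟩, by simp⟩
      · rw [AddSubgroup.coe_sub, sqNorm_sub, ha, h1, h2]; ring
      · rw [AddSubgroup.coe_sub, dot_sub_right, ← sqNorm_dot, ha, h2]; ring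
    · rintro ⟨w', ⟨h1, h2⟩, rfl⟩
      refine ⟨?_, ?_⟩
      · rw [AddSubgroup.coe_sub, sqNorm_sub, ha, h1, h2]; ring
      · rw [AddSubgroup.coe_sub, dot_sub_right, ← sqNorm_dot, ha, h2]
  rw [cntD, cntD, h, Set.ncard_image_of_injective _ sub_right_injective]

theorem cntD_neg (v : LL) (b r : ℤ) : cntD v b (-r) = cntD v b r := by
  have h : {w : LL | sqNorm (w : E) = b ∧ dotInt (v : E) (w : E) = -r} =
      (fun w : LL => -w) '' {w : LL | sqNorm (w : E) = b ∧ dotInt (v : E) (w : E) = r} := by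
    ext w
    constructor
    · rintro ⟨h1, h2⟩
      refine ⟨-w, ⟨?_, ?_⟩, neg_neg w⟩
      · rw [AddSubgroup.coe_neg, sqNorm_neg]; exact h1
      · rw [AddSubgroup.coe_neg, dot_neg_right, h2]; ring
    · rintro ⟨w', ⟨h1, h2⟩, rfl⟩
      refine ⟨?_, ?_⟩
      · rw [AddSubgroup.coe_neg, sqNorm_neg]; exact h1
      · rw [AddSubgroup.coe_neg, dot_neg_right, h2]
  rw [cntD, h, Set.ncard_image_of_injective _ neg_injective]
  rfl

/-! ### finite shells -/

theorem n32 : {v : LL | sqNorm (v : E) = 32}.ncard = 196560 := by rw [ncard_LL]; exact shell32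
theorem n48 : {v : LL | sqNorm (v : E) = 48}.ncard = 16773120 := by rw [ncard_LL]; exact shell48
theorem n64 : {v : LL | sqNorm (v : E) = 64}.ncard = 398034000 := by rw [ncard_LL]; exact shell64

theorem fin32 : {v : LL | sqNorm (v : E) = 32}.Finite := Set.finite_of_ncard_ne_zero (by rw [n32]; norm_num)
theorem fin48 : {v : LL | sqNorm (v : E) = 48}.Finite := Set.finite_of_ncard_ne_zero (by rw [n48]; norm_num)
theorem fin64 : {v : LL | sqNorm (v : E) = 64}.Finite := Set.finite_of_ncard_ne_zero (by rw [n64]; norm_num)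

/-- double counting -/
theorem double {a b r : ℤ} (ha : {v : LL | sqNorm (v : E) = a}.Finite) (hb : {v : LL | sqNorm (v : E) = b}.Finite)
    {p q : ℕ} (hp : ∀ v : LL, sqNorm (v : E) = a → cntD v b r = p) (hq : ∀ w : LL, sqNorm (w : E) = b → cntD w a r = q) :
    {v : LL | sqNorm (v : E) = a}.ncard * p = {v : LL | sqNorm (v : E) = b}.ncard * q := by
  classical
  have h := Finset.sum_card_bipartiteAbove_eq_sum_card_bipartiteBelow (s := ha.toFinset) (t := hb.toFinset)
    (fun v w : LL => dotInt (v : E) (w : E) = r)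
  have h1 : ∀ v ∈ ha.toFinset, (Finset.bipartiteAbove (fun v w : LL => dotInt (v : E) (w : E) = r) hb.toFinset v).card = p := by
    intro v hv
    rw [Set.Finite.mem_toFinset] at hv
    rw [← hp v hv, cntD, ← Set.ncard_coe_finset]
    congr 1
    ext w
    simp [Finset.bipartiteAbove]
  have h2 : ∀ w ∈ hb.toFinset, (Finset.bipartiteBelow (fun v w : LL => dotInt (v : E) (w : E) = r) ha.toFinset w).card = q := by
    intro w hw
    rw [Set.Finite.mem_toFinset] at hw
    rw [← hq w hw, cntD, ← Set.ncard_coe_finset]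
    congr 1
    ext v
    simp [Finset.bipartiteBelow, dot_comm (v : E)]
  rw [Finset.sum_congr rfl h1, Finset.sum_congr rfl h2, Finset.sum_const, Finset.sum_const, smul_eq_mul, smul_eq_mul,
    ← Set.ncard_eq_toFinset_card _ ha, ← Set.ncard_eq_toFinset_card _ hb] at h
  exact h

/-! ### minimal vectors with given first coordinate -/

theorem cnt_e8 (b r : ℤ) : cntD (e8 none) b (8 * r) = {w : LL | sqNorm (w : E) = b ∧ (w : E) none = r}.ncard := by
  rw [cntD]
  congr 1
  ext w
  simp only [Set.mem_setOf_eq]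
  rw [dot_comm, dot_e8]
  constructor
  · rintro ⟨h1, h2⟩; exact ⟨h1, by omega⟩
  · rintro ⟨h1, h2⟩; exact ⟨h1, by omega⟩

theorem k4 : {w : LL | sqNorm (w : E) = 32 ∧ (w : E) none = 4}.ncard = 46 := by
  classical
  let f : {j : GolayPt // j ≠ none} × Bool → LL := fun p => PL none p.1 (s := 4) (t := if p.2 then 4 else -4)
    (Or.inl rfl) (by split_ifs <;> simp)
  have hf : Function.Injective f := by
    rintro ⟨⟨i, hi⟩, a⟩ ⟨⟨j, hj⟩, b⟩ h
    have h1 : P none i 4 (if a then 4 else -4) = P none j 4 (if b then 4 else -4) := congrArg Subtype.val h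
    have h2 := congrFun h1 i
    rw [P_right (Ne.symm hi)] at h2
    by_cases hij : i = j
    · subst hij
      rw [P_right (Ne.symm hi)] at h2
      cases a <;> cases b <;> simp at h2 ⊢
    · exfalso
      rw [P_other hi hij] at h2
      cases a <;> simp at h2
  have h1 : {w : LL | sqNorm (w : E) = 32 ∧ (w : E) none = 4} = Set.range f := by
    ext w
    constructor
    · rintro ⟨h1, h2⟩
      obtain ⟨j, t, hj, ht, hP⟩ := shape4 (mem_LL.1 w.2) h1 (Or.inl rfl) h2
      rcases ht with rfl | rfl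
      · exact ⟨(⟨j, Ne.symm hj⟩, true), Subtype.ext hP.symm⟩
      · exact ⟨(⟨j, Ne.symm hj⟩, false), Subtype.ext hP.symm⟩
    · rintro ⟨⟨⟨j, hj⟩, b⟩, rfl⟩
      refine ⟨norm_PL (Ne.symm hj) _ _, ?_⟩
      exact P_left (Ne.symm hj) _ _
  have h2 : Nat.card {j : GolayPt // j ≠ none} = 23 := by
    rw [Nat.card_eq_fintype_card, Fintype.card_subtype_compl, card_pt, Fintype.card_subtype_eq]
  rw [h1, ← Set.image_univ, Set.ncard_image_of_injective _ hf, Set.ncard_univ, Nat.card_prod, h2,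
    Nat.card_eq_fintype_card, Fintype.card_bool]

/-- vectors of norm 32 with a coordinate `-3` -/
theorem shape3 {x : E} (hx : x ∈ Lam) (hn : sqNorm x = 32) {i : GolayPt} (hi : x i = -3) :
    ∃ c ∈ golayCode, c i = 0 ∧ ∀ k, x k = (1 - 2 * lf (c k)) * (if k = i then -3 else 1) := by
  rcases shape32 hx hn with ⟨a, b, s, t, hab, hs, ht, rfl⟩ | ⟨c, y, h, _, hk⟩ | ⟨c, y, a, h, ha, hk⟩
  · exfalso
    rw [P_apply] at hi
    split_ifs at hi <;> omega
  · exfalso
    have h1 := h.hx i
    omega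
  · by_cases h1 : i = a
    · subst h1
      have h2 : c i = 0 := by
        rw [← lf_eq_zero]
        rcases lf_cases (c i) with h2 | h2
        · exact h2
        · rw [h2, hi] at ha; omega
      refine ⟨c, h.hc, h2, fun k => ?_⟩
      by_cases h3 : k = i
      · rw [if_pos h3, h3, ha]
      · rw [if_neg h3, hk k h3, mul_one]
    · exfalso
      have h2 := hk i h1
      rcases lf_cases (c i) with h3 | h3 <;> rw [h3, hi] at h2 <;> omega

theorem W3_norm : sqNorm W3 = 32 := by decide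

theorem card_code0 : Nat.card {c : golayCode // (c : GolayPt → ZMod 2) none = 0} = 2048 := by
  let φ : golayCode →ₗ[ZMod 2] ZMod 2 := (LinearMap.proj (R := ZMod 2) (none : GolayPt)).comp golayCode.subtype
  have hφ : Function.Surjective φ := by
    intro t
    obtain ⟨c, hc, h1, _⟩ := code2 nz t 0
    exact ⟨⟨c, hc⟩, h1⟩
  have h1 := (φ.toAddMonoidHom.ker).card_mul_index
  rw [AddSubgroup.index_ker, AddMonoidHom.range_eq_top.2 hφ, AddSubgroup.card_top, Nat.card_zmod, card_code] at h1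
  have h2 : Nat.card {c : golayCode // (c : GolayPt → ZMod 2) none = 0} = Nat.card φ.toAddMonoidHom.ker := rfl
  omega

theorem k3 : {w : LL | sqNorm (w : E) = 32 ∧ (w : E) none = -3}.ncard = 2048 := by
  classical
  let w0 : LL := ⟨W3, mem_LL.2 W3_mem⟩
  let f : {c : golayCode // (c : GolayPt → ZMod 2) none = 0} → LL := fun c => mono 1 M24.one_mem c.1 c.1.2 • w0
  have hfv : ∀ c k, ((f c : LL) : E) k = (1 - 2 * lf ((c.1 : GolayPt → ZMod 2) k)) * (if k = none then -3 else 1) :=
    fun c k => rfl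
  have hf : Function.Injective f := by
    rintro ⟨⟨c, hc⟩, hc0⟩ ⟨⟨d, hd⟩, hd0⟩ h
    have : c = d := by
      funext k
      have h1 : ((f ⟨⟨c, hc⟩, hc0⟩ : LL) : E) k = ((f ⟨⟨d, hd⟩, hd0⟩ : LL) : E) k := by rw [h]
      rw [hfv, hfv] at h1
      have h2 : lf (c k) = lf (d k) := by
        simp only at h1
        split_ifs at h1 <;> omega
      have h7 : ∀ a b : ZMod 2, lf a = lf b → a = b := by decide
      exact h7 _ _ h2
    subst this
    rfl
  have h1 : {w : LL | sqNorm (w : E) = 32 ∧ (w : E) none = -3} = Set.range f := by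
    ext w
    constructor
    · rintro ⟨h1, h2⟩
      obtain ⟨c, hc, hc0, hk⟩ := shape3 (mem_LL.1 w.2) h1 h2
      refine ⟨⟨⟨c, hc⟩, hc0⟩, Subtype.ext ?_⟩
      funext k
      rw [hfv, hk]
    · rintro ⟨c, rfl⟩
      refine ⟨?_, ?_⟩
      · change sqNorm ((mono 1 M24.one_mem c.1 c.1.2 • w0 : LL) : E) = 32
        rw [act_norm]; exact W3_norm
      · rw [hfv, if_pos rfl, c.2, lf_zero]; norm_num
  rw [h1, ← Set.image_univ, Set.ncard_image_of_injective _ hf, Set.ncard_univ, card_code0]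

/-- number of orthogonal minimal vectors -/
theorem cnt_32_0 (v : LL) (hv : sqNorm (v : E) = 32) : cntD v 32 0 = 93150 := by
  have hconst : ∀ w : LL, sqNorm (w : E) = 32 → cntD w 64 32 = cntD v 32 0 := by
    intro w hw
    obtain ⟨g, hg⟩ := tr32 v hv
    obtain ⟨g', hg'⟩ := tr32 w hw
    have e : g • v = g' • w := Subtype.ext (hg.trans hg'.symm)
    rw [cntD_sub w 32 64 32 hw, ← cntD_act g' w, ← e, cntD_act]
    norm_num
  have h64 : ∀ f : LL, sqNorm (f : E) = 64 → cntD f 32 32 = 46 := by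
    intro f hf
    obtain ⟨g, hg, _⟩ := exists_std f hf
    have e : g • f = e8 none := Subtype.ext hg
    rw [← cntD_act g f, e, ← k4, ← cnt_e8]; norm_num
  have h := double fin32 fin64 hconst h64
  rw [n32, n64] at h
  omega

/-- number of minimal vectors with inner product 8 with a vector of norm 48 -/
theorem cnt_48_8 (u : LL) (hu : sqNorm (u : E) = 48) : cntD u 32 8 = 48600 := by
  have hconst : ∀ w : LL, sqNorm (w : E) = 48 → cntD w 64 40 = cntD u 32 8 := by
    intro w hw
    obtain ⟨g, hg⟩ := tr48 u hu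
    obtain ⟨g', hg'⟩ := tr48 w hw
    have e : g • u = g' • w := Subtype.ext (hg.trans hg'.symm)
    rw [cntD_sub w 48 64 40 hw, ← cntD_act g' w, ← e, cntD_act]
    norm_num
  have h64 : ∀ f : LL, sqNorm (f : E) = 64 → cntD f 48 40 = 2048 := by
    intro f hf
    obtain ⟨g, hg, _⟩ := exists_std f hf
    have e : g • f = e8 none := Subtype.ext hg
    rw [cntD_sub f 64 48 40 hf, ← cntD_neg, ← cntD_act g f, e, ← k3, ← cnt_e8]; norm_num
  have h := double fin48 fin64 hconst h64
  rw [n48, n64] at h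
  omega

/-! ### the second moment -/

/-- the minimal vectors -/
noncomputable def Mn : Finset LL := fin32.toFinset

theorem mem_Mn {w : LL} : w ∈ Mn ↔ sqNorm (w : E) = 32 := by
  rw [Mn, Set.Finite.mem_toFinset]; rfl

theorem card_Mn : Mn.card = 196560 := by
  rw [Mn, ← Set.ncard_eq_toFinset_card _ fin32, n32]

theorem sum_act (g : Co0) (f : LL → ℤ) : ∑ w ∈ Mn, f (g • w) = ∑ w ∈ Mn, f w := by
  refine Finset.sum_bij (fun w _ => g • w) ?_ ?_ ?_ ?_
  · intro w hw; rw [mem_Mn] at hw ⊢; rw [act_norm, hw]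
  · intro a _ b _ h; exact MulAction.injective g h
  · intro w hw
    rw [mem_Mn] at hw
    exact ⟨g⁻¹ • w, by rw [mem_Mn, act_norm, hw], smul_inv_smul g w⟩
  · intro w _; rfl

theorem mom_offdiag {i j : GolayPt} (hij : i ≠ j) : ∑ w ∈ Mn, (w : E) i * (w : E) j = 0 := by
  obtain ⟨c, hc, c1, c2⟩ := code2 hij 1 0
  have h := sum_act (mono 1 M24.one_mem c hc) (fun w => (w : E) i * (w : E) j)
  simp only [mono_apply, c1, c2, lf_zero, lf_one, Equiv.Perm.one_apply] at h
  have : ∑ w ∈ Mn, (1 - 2 * 1) * (w : E) i * ((1 - 2 * 0) * (w : E) j) = -∑ w ∈ Mn, (w : E) i * (w : E) j := by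
    rw [← Finset.sum_neg_distrib]
    exact Finset.sum_congr rfl fun w _ => by ring
  rw [this] at h
  omega

theorem mom_diag_eq (i j : GolayPt) : ∑ w ∈ Mn, (w : E) i ^ 2 = ∑ w ∈ Mn, (w : E) j ^ 2 := by
  obtain ⟨σ, hσ, hi⟩ := m24_one j i
  have h := sum_act (mono σ hσ 0 (Submodule.zero_mem _)) (fun w => (w : E) j ^ 2)
  simp only [mono_apply, Pi.zero_apply, lf_zero, hi] at h
  rw [← h]
  exact Finset.sum_congr rfl fun w _ => by ring

theorem mom_diag (i : GolayPt) : ∑ w ∈ Mn, (w : E) i ^ 2 = 262080 := by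
  have h1 : ∑ j, ∑ w ∈ Mn, (w : E) j ^ 2 = 24 * ∑ w ∈ Mn, (w : E) i ^ 2 := by
    rw [Finset.sum_congr rfl fun j _ => mom_diag_eq j i, Finset.sum_const, Finset.card_univ, card_pt, nsmul_eq_mul]
    rfl
  rw [Finset.sum_comm] at h1
  have h2 : ∀ w ∈ Mn, ∑ j, (w : E) j ^ 2 = 32 := fun w hw => mem_Mn.1 hw
  rw [Finset.sum_congr rfl h2, Finset.sum_const, card_Mn, nsmul_eq_mul] at h1
  push_cast at h1
  omega

theorem moment (x : E) : ∑ w ∈ Mn, dotInt x (w : E) ^ 2 = 262080 * sqNorm x := by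
  have h1 : ∀ w : LL, dotInt x (w : E) ^ 2 = ∑ i, ∑ j, x i * x j * ((w : E) i * (w : E) j) := by
    intro w
    rw [pow_two, dotInt, Finset.sum_mul_sum]
    apply Finset.sum_congr rfl
    intro i _
    apply Finset.sum_congr rfl
    intro j _
    ring
  rw [Finset.sum_congr rfl fun w _ => h1 w, Finset.sum_comm, sqNorm, Finset.mul_sum]
  apply Finset.sum_congr rfl
  intro i _
  rw [Finset.sum_comm, Finset.sum_eq_single i]
  · rw [← Finset.mul_sum]
    have : ∑ w ∈ Mn, (w : E) i * (w : E) i = 262080 := by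
      rw [← mom_diag i]; exact Finset.sum_congr rfl fun w _ => by ring
    rw [this]; ring
  · intro j _ hj
    rw [← Finset.mul_sum, mom_offdiag (Ne.symm hj), mul_zero]
  · intro h; exact absurd (Finset.mem_univ i) h

theorem cntD_Mn (v : LL) (r : ℤ) : (Mn.filter fun w : LL => dotInt (v : E) (w : E) = r).card = cntD v 32 r := by
  rw [cntD, ← Set.ncard_coe_finset]
  congr 1
  ext w
  simp only [Finset.coe_filter, Set.mem_setOf_eq, mem_Mn]

/-- distribution over the inner products -/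
theorem distr (v : LL) (R : Finset ℤ) (hR : ∀ w : LL, sqNorm (w : E) = 32 → dotInt (v : E) (w : E) ∈ R) (f : ℤ → ℤ) :
    ∑ w ∈ Mn, f (dotInt (v : E) (w : E)) = ∑ r ∈ R, (cntD v 32 r : ℤ) * f r := by
  rw [← Finset.sum_fiberwise_of_maps_to (g := fun w : LL => dotInt (v : E) (w : E)) (t := R)
    (fun w hw => hR w (mem_Mn.1 hw))]
  apply Finset.sum_congr rfl
  intro r _
  rw [Finset.sum_congr rfl (g := fun _ => f r) (fun w hw => by rw [(Finset.mem_filter.1 hw).2]), Finset.sum_const,
    cntD_Mn, nsmul_eq_mul]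

theorem dvd8 (v w : LL) : (8 : ℤ) ∣ dotInt (v : E) (w : E) := dvd_dot (mem_LL.1 v.2) (mem_LL.1 w.2)

theorem norm_cases (v : LL) : sqNorm (v : E) = 0 ∧ v = 0 ∨ 32 ≤ sqNorm (v : E) := by
  by_cases h : v = 0
  · left
    refine ⟨?_, h⟩
    rw [h]
    exact Finset.sum_eq_zero fun i _ => by simp
  · right
    exact min_norm (mem_LL.1 v.2) (fun h' => h (Subtype.ext h'))

theorem dots32 (v w : LL) (hv : sqNorm (v : E) = 32) (hw : sqNorm (w : E) = 32) :
    dotInt (v : E) (w : E) ∈ ({0, 8, -8, 16, -16, 32, -32} : Finset ℤ) := by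
  have h1 := norm_cases (v - w)
  have h2 := norm_cases (v + w)
  have h3 := dvd8 v w
  rw [AddSubgroup.coe_sub, sqNorm_sub, hv, hw] at h1
  rw [AddSubgroup.coe_add, sqNorm_add, hv, hw] at h2
  simp only [Finset.mem_insert, Finset.mem_singleton]
  omega

theorem cnt_32_32 (v : LL) (hv : sqNorm (v : E) = 32) : cntD v 32 32 = 1 := by
  have : {w : LL | sqNorm (w : E) = 32 ∧ dotInt (v : E) (w : E) = 32} = {v} := by
    ext w
    rw [Set.mem_singleton_iff]
    constructor
    · rintro ⟨h1, h2⟩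
      have h3 := norm_cases (v - w)
      rw [AddSubgroup.coe_sub, sqNorm_sub, hv, h1, h2] at h3
      rcases h3 with h3 | h3
      · exact (sub_eq_zero.1 h3.2).symm
      · omega
    · rintro rfl
      exact ⟨hv, by rw [← sqNorm_dot, hv]⟩
  rw [cntD, this, Set.ncard_singleton]

/-- the census of inner products of minimal vectors -/
theorem census32 (v : LL) (hv : sqNorm (v : E) = 32) :
    cntD v 32 (-16) = 4600 ∧ cntD v 32 (-8) = 47104 ∧ cntD v 32 0 = 93150 := by
  have h0 := cnt_32_0 v hv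
  have h32 := cnt_32_32 v hv
  have e1 := distr v _ (fun w hw => dots32 v w hv hw) (fun _ => 1)
  have e2 := distr v _ (fun w hw => dots32 v w hv hw) (fun r => r ^ 2)
  rw [moment, hv] at e2
  rw [Finset.sum_const, card_Mn, nsmul_eq_mul] at e1
  have s1 : ∀ f : ℤ → ℤ, ∑ r ∈ ({0, 8, -8, 16, -16, 32, -32} : Finset ℤ), f r =
      f 0 + (f 8 + (f (-8) + (f 16 + (f (-16) + (f 32 + f (-32)))))) := by
    intro f
    rw [Finset.sum_insert (by decide), Finset.sum_insert (by decide), Finset.sum_insert (by decide),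
      Finset.sum_insert (by decide), Finset.sum_insert (by decide), Finset.sum_insert (by decide), Finset.sum_singleton]
  rw [s1] at e1 e2
  simp only [cntD_neg, h0, h32] at e1 e2
  rw [cntD_neg, cntD_neg]
  refine ⟨?_, ?_, h0⟩
  · push_cast at e1 e2
    omega
  · push_cast at e1 e2
    omega

theorem dots48 (u w : LL) (hu : sqNorm (u : E) = 48) (hw : sqNorm (w : E) = 32) :
    dotInt (u : E) (w : E) ∈ ({0, 8, -8, 16, -16, 24, -24} : Finset ℤ) := by
  have h1 := norm_cases (u - w)
  have h2 := norm_cases (u + w)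
  have h3 := dvd8 u w
  rw [AddSubgroup.coe_sub, sqNorm_sub, hu, hw] at h1
  rw [AddSubgroup.coe_add, sqNorm_add, hu, hw] at h2
  simp only [Finset.mem_insert, Finset.mem_singleton]
  rcases h1 with ⟨_, h1⟩ | h1
  · exfalso
    rw [sub_eq_zero.1 h1, hw] at hu
    omega
  rcases h2 with ⟨_, h2⟩ | h2
  · exfalso
    rw [eq_neg_of_add_eq_zero_left h2, AddSubgroup.coe_neg, sqNorm_neg, hw] at hu
    omega
  omega

theorem cnt_48_24 (u : LL) (hu : sqNorm (u : E) = 48) : cntD u 32 24 = 552 := by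
  have hconst : ∀ w : LL, sqNorm (w : E) = 48 → cntD w 32 24 = cntD u 32 24 := by
    intro w hw
    obtain ⟨g, hg⟩ := tr48 u hu
    obtain ⟨g', hg'⟩ := tr48 w hw
    have e : g • u = g' • w := Subtype.ext (hg.trans hg'.symm)
    rw [← cntD_act g' w, ← e, cntD_act]
  have h32 : ∀ v : LL, sqNorm (v : E) = 32 → cntD v 48 24 = 47104 := by
    intro v hv
    have e := cntD_sub v 32 48 24 hv
    norm_num at e
    rw [e, ← cntD_neg]
    exact (census32 v hv).2.1
  have h := double fin48 fin32 hconst h32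
  rw [n48, n32] at h
  omega

/-- the census for vectors of norm 48 -/
theorem census48 (u : LL) (hu : sqNorm (u : E) = 48) :
    cntD u 32 24 = 552 ∧ cntD u 32 16 = 11178 ∧ cntD u 32 8 = 48600 ∧ cntD u 32 0 = 75900 := by
  have h24 := cnt_48_24 u hu
  have h8 := cnt_48_8 u hu
  have e1 := distr u _ (fun w hw => dots48 u w hu hw) (fun _ => 1)
  have e2 := distr u _ (fun w hw => dots48 u w hu hw) (fun r => r ^ 2)
  rw [moment, hu] at e2
  rw [Finset.sum_const, card_Mn, nsmul_eq_mul] at e1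
  have s1 : ∀ f : ℤ → ℤ, ∑ r ∈ ({0, 8, -8, 16, -16, 24, -24} : Finset ℤ), f r =
      f 0 + (f 8 + (f (-8) + (f 16 + (f (-16) + (f 24 + f (-24)))))) := by
    intro f
    rw [Finset.sum_insert (by decide), Finset.sum_insert (by decide), Finset.sum_insert (by decide),
      Finset.sum_insert (by decide), Finset.sum_insert (by decide), Finset.sum_insert (by decide), Finset.sum_singleton]
  rw [s1] at e1 e2
  simp only [cntD_neg, h8, h24] at e1 e2
  push_cast at e1 e2
  refine ⟨h24, ?_, h8, ?_⟩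
  · omega
  · omega

end CfsgLib.Co
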