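import Cfsg.Agent.EqBase
import Mathlib
import Cfsg.Agent.LibCoE

/-!
Transitivity on pairs involving a vector of norm 48.
-/

set_option autoImplicit false
set_option linter.constructorNameAsVariable false

namespace CfsgLib.Co

open Cfsg CfsgLib.Golay CfsgLib.M24 CfsgLib.Leech CfsgLib.Frame

theorem W5_mem : W5 ∈ Lam := by
  refine ⟨1, 0, Pi.single none 1, Submodule.zero_mem _, fun i => ?_, ?_⟩
  · rw [W5, Pi.zero_apply, lf_zero, Pi.single_apply]
    split_ifs <;> norm_num
  · rw [sum_single_pt]; norm_num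

/-- `(5, 1, ..., 1)` as a lattice element -/
def w5 : LL := ⟨W5, mem_LL.2 W5_mem⟩

theorem w5_coe : (w5 : E) = W5 := rfl

theorem W5_norm : sqNorm W5 = 48 := by decide

theorem W5_none : W5 none = 5 := rfl

theorem W5_other {k : GolayPt} (h : k ≠ none) : W5 k = 1 := if_neg h

theorem monoFun_W5 {σ : Equiv.Perm GolayPt} (h : σ none = none) : monoFun σ 0 W5 = W5 := by
  funext k
  change (1 - 2 * lf ((0 : GolayPt → ZMod 2) k)) * (if σ k = none then 5 else 1) = if k = none then 5 else 1
  rw [Pi.zero_apply, lf_zero]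
  by_cases hk : k = none
  · rw [hk, h]; norm_num
  · rw [if_neg hk, if_neg]
    · norm_num
    · intro h3
      exact hk (σ.injective (h3.trans h.symm))

theorem dot_W5 (x : E) : dotInt W5 x = 4 * x none + ∑ k, x k := by
  have h1 : ∀ k, W5 k * x k = 4 * ((Pi.single none 1 : E) k * x k) + x k := by
    intro k
    rw [W5, Pi.single_apply]
    split_ifs <;> ring
  rw [dotInt, Finset.sum_congr rfl fun k _ => h1 k, Finset.sum_add_distrib, ← Finset.mul_sum]
  have h2 : ∑ k, (Pi.single none 1 : E) k * x k = x none := by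
    have := dot_single_left none 1 x
    rw [dotInt, one_mul] at this
    exact this
  rw [h2]

theorem sum_erase (x : E) (i : GolayPt) : ∑ k, x k = x i + ∑ k ∈ Finset.univ.erase i, x k :=
  (Finset.add_sum_erase _ _ (Finset.mem_univ i)).symm

theorem card_erase (i : GolayPt) : (Finset.univ.erase i : Finset GolayPt).card = 23 := by
  rw [Finset.card_erase_of_mem (Finset.mem_univ i), Finset.card_univ, card_pt]

/-- simultaneous normalisation -/
theorem std_uf (u f : LL) (hu : sqNorm (u : E) = 48) (hf : sqNorm (f : E) = 64) (h : dotInt (u : E) (f : E) = 40) :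
    ∃ g : Co0, g • f = e8 none ∧ g • u = w5 := by
  obtain ⟨g, hg, hgd⟩ := exists_std f hf
  have hu5 : ((g • u : LL) : E) none = 5 := by
    have := hgd u
    rw [h] at this
    omega
  obtain ⟨c, hc, hc0, hck⟩ := shape5 (mem_LL.1 (g • u).2) (by rw [act_norm, hu]) hu5
  refine ⟨mono 1 M24.one_mem c hc * g, ?_, ?_⟩
  · rw [mul_smul]
    apply Subtype.ext
    change monoFun 1 c ((g • f : LL) : E) = _
    rw [hg, mono_single c (a := none) (a' := none) rfl, hc0, lf_zero]; rfl
  · rw [mul_smul]
    apply Subtype.ext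
    funext k
    change (1 - 2 * lf (c k)) * ((g • u : LL) : E) k = W5 k
    rw [hck, ← mul_assoc, sgn_sq, one_mul, W5]

/-- monomial elements fixing the two standard vectors -/
theorem perm_fix {σ : Equiv.Perm GolayPt} (hσ : σ ∈ M24) (h : σ none = none) :
    mono σ hσ 0 (Submodule.zero_mem _) • e8 none = e8 none ∧ mono σ hσ 0 (Submodule.zero_mem _) • w5 = w5 := by
  constructor
  · apply Subtype.ext
    change monoFun σ 0 (Pi.single none 8) = _
    rw [mono_single 0 h, Pi.zero_apply, lf_zero]; rfl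
  · exact Subtype.ext (monoFun_W5 h)

/-- `(1, -3_j, 1, ..., 1)` -/
theorem W5_sub_mem (j : GolayPt) : W5 - P none j 4 4 ∈ Lam := Lam.sub_mem W5_mem (P_mem (Or.inl rfl) (Or.inl rfl))

/-- the last step for inner product 16 -/
theorem step_p16 (u x y : LL) (hu : sqNorm (u : E) = 48) (hx : sqNorm (x : E) = 32) (hux : dotInt (u : E) (x : E) = 16)
    (hy : sqNorm (y : E) = 32) (hxy : dotInt (x : E) (y : E) = 0) (huy : dotInt (u : E) (y : E) = 24) :
    ∃ g : Co0, g • u = w5 ∧ ((g • x : LL) : E) = P none pz 4 (-4) := by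
  have hf : sqNorm ((x + y : LL) : E) = 64 := by
    rw [AddSubgroup.coe_add, sqNorm_add, hx, hy, hxy]; norm_num
  obtain ⟨g, hg, hgu⟩ := std_uf u (x + y) hu hf (by rw [AddSubgroup.coe_add, dot_add_right, hux, huy]; norm_num)
  have hx4 : ((g • x : LL) : E) none = 4 := by
    have h1 := act_dot g x (x + y)
    rw [hg, dot_e8, AddSubgroup.coe_add, dot_add_right, ← sqNorm_dot, hx, hxy] at h1
    omega
  obtain ⟨j, t, hj, ht, hP⟩ := shape4 (mem_LL.1 (g • x).2) (by rw [act_norm, hx]) (Or.inl rfl) hx4
  have ht4 : t = -4 := by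
    have h1 := act_dot g u x
    rw [hgu, hP, dot_P_right, w5_coe, W5_none, W5_other (Ne.symm hj), hux] at h1
    omega
  subst ht4
  obtain ⟨σ, hσ, h1, h2⟩ := m24_two nz hj
  refine ⟨mono σ hσ 0 (Submodule.zero_mem _) * g, ?_, ?_⟩
  · rw [mul_smul, hgu, (perm_fix hσ h1).2]
  · rw [mul_smul]
    change monoFun σ 0 ((g • x : LL) : E) = _
    rw [hP, mono_P 0 h1 h2]
    simp [lf_zero]

theorem exists_lt (s : Finset GolayPt) (x : E) (n : ℤ) (h : ∑ k ∈ s, x k < n * s.card) : ∃ k ∈ s, x k < n := by
  by_contra hcon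
  push Not at hcon
  have := Finset.sum_le_sum hcon
  rw [Finset.sum_const, nsmul_eq_mul] at this
  linarith [mul_comm (s.card : ℤ) n]

theorem exists_gt (s : Finset GolayPt) (x : E) (n : ℤ) (h : n * s.card < ∑ k ∈ s, x k) : ∃ k ∈ s, n < x k := by
  by_contra hcon
  push Not at hcon
  have := Finset.sum_le_sum hcon
  rw [Finset.sum_const, nsmul_eq_mul] at this
  linarith [mul_comm (s.card : ℤ) n]

/-- transitivity on pairs (norm 48, norm 32) with inner product 16 -/
theorem tr_p16 (u x : LL) (hu : sqNorm (u : E) = 48) (hx : sqNorm (x : E) = 32) (hux : dotInt (u : E) (x : E) = 16) :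
    ∃ g : Co0, g • u = w5 ∧ ((g • x : LL) : E) = P none pz 4 (-4) := by
  obtain ⟨g, hg⟩ := tr48 u hu
  have hgu : g • u = w5 := Subtype.ext hg
  suffices h : ∃ y : LL, sqNorm (y : E) = 32 ∧ dotInt ((g • x : LL) : E) (y : E) = 0 ∧ dotInt (w5 : E) (y : E) = 24 by
    obtain ⟨y, hy, h1, h2⟩ := h
    obtain ⟨g', h3, h4⟩ := step_p16 (g • u) (g • x) y (by rw [act_norm, hu]) (by rw [act_norm, hx])
      (by rw [act_dot, hux]) hy h1 (by rw [hgu]; exact h2)
    exact ⟨g' * g, by rw [mul_smul]; exact h3, by rw [mul_smul]; exact h4⟩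
  have hx1 : sqNorm ((g • x : LL) : E) = 32 := by rw [act_norm, hx]
  have hdot : dotInt W5 ((g • x : LL) : E) = 16 := by
    have := act_dot g u x
    rw [hgu, hux] at this
    exact this
  generalize g • x = x' at *
  have hY : ∀ j, j ≠ none → sqNorm ((PL none j (Or.inl rfl : (4 : ℤ) = 4 ∨ (4 : ℤ) = -4) (Or.inl rfl : (4 : ℤ) = 4 ∨ (4 : ℤ) = -4) : LL) : E) = 32 ∧
      dotInt (w5 : E) ((PL none j (Or.inl rfl : (4 : ℤ) = 4 ∨ (4 : ℤ) = -4) (Or.inl rfl : (4 : ℤ) = 4 ∨ (4 : ℤ) = -4) : LL) : E) = 24 ∧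
      dotInt (x' : E) ((PL none j (Or.inl rfl : (4 : ℤ) = 4 ∨ (4 : ℤ) = -4) (Or.inl rfl : (4 : ℤ) = 4 ∨ (4 : ℤ) = -4) : LL) : E) =
        4 * (x' : E) none + 4 * (x' : E) j := by
    intro j hj
    refine ⟨norm_PL (Ne.symm hj) _ _, ?_, ?_⟩
    · rw [PL_coe, dot_P_right, w5_coe, W5_none, W5_other hj]; norm_num
    · rw [PL_coe, dot_P_right]
  -- first kind
  have first : ∀ j, j ≠ none → (x' : E) j = -(x' : E) none →
      ∃ y : LL, sqNorm (y : E) = 32 ∧ dotInt (x' : E) (y : E) = 0 ∧ dotInt (w5 : E) (y : E) = 24 := by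
    intro j hj h
    obtain ⟨a, b, c⟩ := hY j hj
    exact ⟨_, a, by rw [c, h]; ring, b⟩
  -- second kind
  have second : ∀ j, j ≠ none → 4 * ((x' : E) none + (x' : E) j) = 16 →
      ∃ y : LL, sqNorm (y : E) = 32 ∧ dotInt (x' : E) (y : E) = 0 ∧ dotInt (w5 : E) (y : E) = 24 := by
    intro j hj h
    obtain ⟨a, b, c⟩ := hY j hj
    refine ⟨w5 - PL none j (Or.inl rfl) (Or.inl rfl), ?_, ?_, ?_⟩
    · rw [AddSubgroup.coe_sub, sqNorm_sub, a, b, w5_coe, W5_norm]; norm_num
    · rw [AddSubgroup.coe_sub, dot_sub_right, c, w5_coe, dot_comm, hdot]; linarith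
    · rw [AddSubgroup.coe_sub, dot_sub_right, b, w5_coe, ← sqNorm_dot, W5_norm]; norm_num
  rw [dot_W5] at hdot
  rcases shape32 (mem_LL.1 x'.2) hx1 with ⟨a, b, s, t, hab, hs, ht, hP⟩ | ⟨c, y, h, h8, hk⟩ | ⟨c, y, a, h, ha, hk⟩
  · have hsum : ∑ k, (x' : E) k = s + t := by
      rw [hP, P]
      simp only [Pi.add_apply]
      rw [Finset.sum_add_distrib, sum_single_pt, sum_single_pt]
    rw [hsum] at hdot
    by_cases h1 : none = a
    · subst h1
      apply first b (Ne.symm hab)
      rw [hP, P_left hab] at hdot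
      rw [hP, P_left hab, P_right hab]
      omega
    · by_cases h2 : none = b
      · subst h2
        apply first a hab
        rw [hP, P_right hab] at hdot
        rw [hP, P_left hab, P_right hab]
        omega
      · rw [hP, P_other h1 h2] at hdot
        omega
  · have hv : ∀ k, (x' : E) k = 0 ∨ (x' : E) k = 2 ∨ (x' : E) k = -2 := by
      intro k
      rcases sq4 (lf_cases (c k)) (hk k) with ⟨_, h⟩ | ⟨_, h⟩
      · exact Or.inl h
      · exact Or.inr h
    have hle : ∑ k, (x' : E) k ≤ 16 := by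
      have : ∑ k, (x' : E) k ≤ ∑ k, 2 * lf (c k) := by
        apply Finset.sum_le_sum
        intro k _
        rcases sq4 (lf_cases (c k)) (hk k) with ⟨h1, h⟩ | ⟨h1, h⟩ <;> omega
      rw [← Finset.mul_sum, h8] at this
      exact this
    by_cases h1 : (x' : E) none = 2
    · -- the remaining sum is 6
      have h2 := sum_erase (x' : E) none
      obtain ⟨j, hj, hj2⟩ := exists_gt (Finset.univ.erase none) (x' : E) 0 (by rw [zero_mul]; omega)
      apply second j (Finset.ne_of_mem_erase hj)
      have := hv j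
      omega
    · have h2 := hv none
      have h3 : (x' : E) none = 0 := by omega
      -- a point outside the support
      obtain ⟨j, hj, hj2⟩ : ∃ j, j ≠ none ∧ (x' : E) j = 0 := by
        by_contra hcon
        push Not at hcon
        have h4 : ∑ k ∈ Finset.univ.erase (none : GolayPt), (1 : ℤ) ≤ ∑ k ∈ Finset.univ.erase (none : GolayPt), lf (c k) := by
          apply Finset.sum_le_sum
          intro k hk'
          have h5 := hcon k (Finset.ne_of_mem_erase hk')
          rcases sq4 (lf_cases (c k)) (hk k) with ⟨h1, h⟩ | ⟨h1, h⟩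
          · exact absurd h h5
          · rw [h1]
        rw [Finset.sum_const, card_erase, nsmul_eq_mul] at h4
        have h6 : ∑ k, lf (c k) = lf (c none) + ∑ k ∈ Finset.univ.erase none, lf (c k) :=
          sum_erase (fun k => lf (c k)) none
        have h7 := lf_nonneg (c none)
        rw [h8] at h6
        push_cast at h4
        omega
      apply first j hj
      omega
  · have hodd : ∀ k, k ≠ a → (x' : E) k = 1 ∨ (x' : E) k = -1 := by
      intro k hk'
      rw [hk k hk']
      rcases lf_cases (c k) with h1 | h1 <;> rw [h1]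
      · left; norm_num
      · right; norm_num
    have ha3 : (x' : E) a = 3 ∨ (x' : E) a = -3 := by
      rw [ha]
      rcases lf_cases (c a) with h1 | h1 <;> rw [h1]
      · right; norm_num
      · left; norm_num
    have h2 := sum_erase (x' : E) none
    by_cases h1 : none = a
    · subst h1
      have hb : ∑ k ∈ Finset.univ.erase (none : GolayPt), (x' : E) k ≤ 23 := by
        have : ∑ k ∈ Finset.univ.erase (none : GolayPt), (x' : E) k ≤ ∑ k ∈ Finset.univ.erase (none : GolayPt), (1 : ℤ) := by
          apply Finset.sum_le_sum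
          intro k hk'
          have := hodd k (Finset.ne_of_mem_erase hk')
          omega
        rw [Finset.sum_const, card_erase, nsmul_eq_mul] at this
        exact this
      have hpos : 0 < ∑ k ∈ Finset.univ.erase (none : GolayPt), (x' : E) k := by
        rcases ha3 with h3 | h3 <;> rw [h3] at hdot h2 <;> linarith
      obtain ⟨j, hj, hj2⟩ := exists_gt (Finset.univ.erase none) (x' : E) 0 (by rw [zero_mul]; exact hpos)
      have hjn := Finset.ne_of_mem_erase hj
      apply second j hjn
      have h3 : (x' : E) none = 3 := by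
        rcases ha3 with h | h
        · exact h
        · exfalso
          rw [h] at hdot h2
          linarith
      rcases hodd j hjn with h4 | h4
      · rw [h3, h4]; norm_num
      · rw [h4] at hj2
        norm_num at hj2
    · have h3 := hodd none h1
      have ham : a ∈ (Finset.univ.erase none : Finset GolayPt) := Finset.mem_erase.2 ⟨Ne.symm h1, Finset.mem_univ a⟩
      have h4 := Finset.add_sum_erase _ (x' : E) ham
      have hc22 : (((Finset.univ.erase none).erase a : Finset GolayPt).card : ℤ) = 22 := by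
        rw [Finset.card_erase_of_mem ham, card_erase]; norm_num
      have hin : ∀ j ∈ (Finset.univ.erase none).erase a, j ≠ none ∧ j ≠ a := fun j hj =>
        ⟨Finset.ne_of_mem_erase (Finset.mem_of_mem_erase hj), Finset.ne_of_mem_erase hj⟩
      rcases h3 with h3 | h3
      · obtain ⟨j, hj, hj2⟩ := exists_lt ((Finset.univ.erase none).erase a) (x' : E) 1 (by rw [hc22]; omega)
        obtain ⟨j1, j2⟩ := hin j hj
        apply first j j1
        have := hodd j j2
        omega
      · obtain ⟨j, hj, hj2⟩ := exists_gt ((Finset.univ.erase none).erase a) (x' : E) 0 (by rw [zero_mul]; omega)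
        obtain ⟨j1, j2⟩ := hin j hj
        apply first j j1
        have := hodd j j2
        omega

/-- exchanging two vectors of norm 48 with inner product `-32` -/
theorem swap48 (v w : LL) (hv : sqNorm (v : E) = 48) (hw : sqNorm (w : E) = 48) (hvw : dotInt (v : E) (w : E) = -32) :
    ∃ g : Co0, g • v = w ∧ g • w = v := by
  have hx : sqNorm ((v + w : LL) : E) = 32 := by
    rw [AddSubgroup.coe_add, sqNorm_add, hv, hw, hvw]; norm_num
  obtain ⟨g, h1, h2⟩ := tr_p16 v (v + w) hv hx (by
    rw [AddSubgroup.coe_add, dot_add_right, ← sqNorm_dot, hv, hvw]; norm_num)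
  obtain ⟨g', h1', h2'⟩ := tr_p16 w (v + w) hw hx (by
    rw [AddSubgroup.coe_add, dot_add_right, ← sqNorm_dot, hw, dot_comm, hvw]; norm_num)
  have e1 : g • v = g' • w := h1.trans h1'.symm
  have e2 : g • (v + w) = g' • (v + w) := Subtype.ext (h2.trans h2'.symm)
  have e3 : (g'⁻¹ * g) • v = w := by rw [mul_smul, inv_smul_eq_iff]; exact e1
  have e4 : (g'⁻¹ * g) • (v + w) = v + w := by rw [mul_smul, inv_smul_eq_iff]; exact e2
  refine ⟨g'⁻¹ * g, e3, ?_⟩
  rw [act_add, e3, add_comm v w] at e4
  exact add_left_cancel e4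

end CfsgLib.Co
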