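import Cfsg.Agent.EqBase
import Mathlib

/-!
A simplicity criterion: a simple subgroup containing the normaliser of a Sylow subgroup of prime order.
-/

set_option autoImplicit false

namespace CfsgLib.SimpCrit

open Subgroup

section

variable {G : Type*} [Group G] [Finite G] (H : Subgroup G) (p : ℕ) [hp : Fact p.Prime] (P : Subgroup G)

theorem fact_one (hP : Nat.card P = p) (hsyl : ¬ p ^ 2 ∣ Nat.card G) : (Nat.card G).factorization p = 1 := by
  have h1 : p ∣ Nat.card G := hP ▸ P.card_subgroup_dvd_card
  have h2 : (Nat.card G).factorization p < 2 := by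
    by_contra h
    exact hsyl ((pow_dvd_pow p (not_lt.1 h)).trans (Nat.ordProj_dvd _ _))
  have h3 : 1 ≤ (Nat.card G).factorization p :=
    (hp.out.dvd_iff_one_le_factorization Nat.card_pos.ne').1 h1
  omega

/-- main alternative -/
theorem crit_aux (hH : IsSimpleGroup H) (hP : Nat.card P = p) (hPH : P ≤ H) (hsyl : ¬ p ^ 2 ∣ Nat.card G)
    (hNP : normalizer (P : Set G) ≤ H) (N : Subgroup G) [hN : N.Normal] :
    N = ⊤ ∨ (Nat.card N ∣ H.index ∧ ∀ q, q.Prime → q ∣ Nat.card N → ∃ k, 1 ≤ k ∧ q ^ k ∣ Nat.card N ∧ q ^ k ≡ 1 [MOD p]) := by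
  classical
  have hf := fact_one p P hP hsyl
  let S : Sylow p G := Sylow.ofCard P (by rw [hP, hf, pow_one])
  have hS : (S : Subgroup G) = P := rfl
  haveI hNS : (N.subgroupOf H).Normal := inferInstance
  rcases hH.eq_bot_or_eq_top_of_normal _ hNS with h | h
  · right
    have hdisj : N ⊓ H = ⊥ := by
      rw [eq_bot_iff]
      rintro x ⟨hx1, hx2⟩
      have h2 : (⟨x, hx2⟩ : H) ∈ N.subgroupOf H := by
        rw [mem_subgroupOf]; exact hx1
      rw [h, mem_bot] at h2
      rw [mem_bot]
      exact congrArg Subtype.val h2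
    have hcop : ¬ p ∣ Nat.card N := by
      intro hd
      obtain ⟨x, hx⟩ := exists_prime_orderOf_dvd_card' p hd
      have hx' : orderOf (x : G) = p := by rw [← hx]; exact Subgroup.orderOf_coe x
      let S' : Sylow p G := Sylow.ofCard (zpowers (x : G)) (by rw [Nat.card_zpowers, hx', hf, pow_one])
      obtain ⟨g, hg⟩ := MulAction.exists_smul_eq G S' S
      have hle : P ≤ N := by
        rw [← hS, ← hg]
        rintro y hy
        rw [Sylow.coe_subgroup_smul, mem_pointwise_smul_iff_inv_smul_mem] at hy
        have h3 : (MulAut.conj g)⁻¹ • y ∈ zpowers (x : G) := hy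
        have h4 : (MulAut.conj g)⁻¹ • y = g⁻¹ * y * g := by
          rw [← map_inv, MulAut.smul_def, MulAut.conj_apply, inv_inv]
        rw [h4] at h3
        have h5 : g⁻¹ * y * g ∈ N := (zpowers_le.2 x.2) h3
        have h6 := hN.conj_mem _ h5 g
        have : g * (g⁻¹ * y * g) * g⁻¹ = y := by group
        rwa [this] at h6
      have hbot : P ≤ ⊥ := by
        rw [← hdisj]; exact le_inf hle hPH
      have h3 : P = ⊥ := le_bot_iff.1 hbot
      rw [h3, card_bot] at hP
      exact hp.out.one_lt.ne hP
    have hcard : Nat.card N ∣ H.index := by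
      have h1 : N.relIndex (H ⊔ N) = N.relIndex H := relIndex_sup_right H N
      have h2 : N.relIndex H = Nat.card H := by
        rw [relIndex, h, index_bot]
      have h3 : Nat.card N * N.relIndex (H ⊔ N) = Nat.card ↥(H ⊔ N) := by
        have := (N.subgroupOf (H ⊔ N)).card_mul_index
        have e : Nat.card (N.subgroupOf (H ⊔ N)) = Nat.card N :=
          Nat.card_congr (subgroupOfEquivOfLe (le_sup_right : N ≤ H ⊔ N)).toEquiv
        rw [e] at this
        exact this
      have h4 : Nat.card ↥(H ⊔ N) ∣ Nat.card G := card_subgroup_dvd_card _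
      rw [← h3, h1, h2, ← H.index_mul_card] at h4
      exact Nat.dvd_of_mul_dvd_mul_right Nat.card_pos h4
    refine ⟨hcard, fun q hq hqN => ?_⟩
    haveI : Fact q.Prime := ⟨hq⟩
    obtain ⟨Q⟩ : Nonempty (Sylow q N) := inferInstance
    set Q' : Subgroup G := (Q : Subgroup N).map N.subtype with hQ'
    have hfr := Sylow.normalizer_sup_eq_top Q
    set K : Subgroup G := normalizer ((Q' : Subgroup G) : Set G) with hK
    have hpK : p ∣ Nat.card K := by
      have h1 : N.relIndex (K ⊔ N) = N.relIndex K := relIndex_sup_right K N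
      have hfr' : K ⊔ N = ⊤ := hfr
      rw [hfr', relIndex_top_right] at h1
      have h2 : N.relIndex K ∣ Nat.card K := relIndex_dvd_card N K
      have h3 : p ∣ Nat.card N * N.index := by
        rw [N.card_mul_index, ← hP]; exact P.card_subgroup_dvd_card
      rcases (hp.out.dvd_mul).1 h3 with h4 | h4
      · exact absurd h4 hcop
      · rw [h1] at h4
        exact h4.trans h2
    obtain ⟨r, hr⟩ := exists_prime_orderOf_dvd_card' p hpK
    have hr' : orderOf (r : G) = p := by rw [← hr]; exact Subgroup.orderOf_coe r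
    set R : Subgroup G := zpowers (r : G) with hR
    have hRK : R ≤ K := zpowers_le.2 r.2
    have hRc : Nat.card R = p := by rw [hR, Nat.card_zpowers, hr']
    let S' : Sylow p G := Sylow.ofCard R (by rw [hRc, hf, pow_one])
    obtain ⟨g, hg⟩ := MulAction.exists_smul_eq G S' S
    have hconj : ∀ y, y ∈ P ↔ g⁻¹ * y * g ∈ R := by
      intro y
      have h1 : y ∈ P ↔ y ∈ (g • S' : Sylow p G) := by rw [hg]; rfl
      rw [h1]
      change y ∈ ((g • S' : Sylow p G) : Subgroup G) ↔ _
      rw [Sylow.coe_subgroup_smul, mem_pointwise_smul_iff_inv_smul_mem]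
      have h4 : (MulAut.conj g)⁻¹ • y = g⁻¹ * y * g := by
        rw [← map_inv, MulAut.smul_def, MulAut.conj_apply, inv_inv]
      rw [h4]
      rfl
    -- the action of `R` on `Q'` by conjugation
    have hact : ∀ u ∈ R, ∀ x ∈ Q', u * x * u⁻¹ ∈ Q' := by
      intro u hu x hx
      exact ((mem_normalizer_iff.1 (hRK hu)) x).1 hx
    letI act : MulAction R Q' :=
      { smul := fun u x => ⟨u * x * (u : G)⁻¹, hact u u.2 x x.2⟩
        one_smul := fun x => Subtype.ext (by change (1 : G) * x * (1 : G)⁻¹ = x; simp)
        mul_smul := fun u v x => Subtype.ext (by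
          change ((u : G) * v) * x * ((u : G) * v)⁻¹ = u * (v * x * (v : G)⁻¹) * (u : G)⁻¹
          group) }
    have hRp : IsPGroup p R := IsPGroup.of_card (n := 1) (by rw [hRc, pow_one])
    have hmod := hRp.card_modEq_card_fixedPoints Q'
    have hfix : Nat.card (MulAction.fixedPoints R Q') = 1 := by
      rw [Nat.card_eq_one_iff_unique]
      constructor
      · constructor
        rintro ⟨x, hx⟩ ⟨y, hy⟩
        have key : ∀ z : Q', z ∈ MulAction.fixedPoints R Q' → z = 1 := by
          intro z hz
          have hcomm : ∀ u ∈ R, u * (z : G) * u⁻¹ = z := fun u hu => congrArg Subtype.val (hz ⟨u, hu⟩)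
          have hzN : (z : G) ∈ N := by
            obtain ⟨w, _, hw⟩ := z.2
            rw [← hw]; exact w.2
          have h1 : g * z * g⁻¹ ∈ normalizer (P : Set G) := by
            rw [mem_normalizer_iff]
            intro y
            rw [hconj, hconj]
            have e : g⁻¹ * (g * ↑z * g⁻¹ * y * (g * ↑z * g⁻¹)⁻¹) * g = ↑z * (g⁻¹ * y * g) * (↑z)⁻¹ := by group
            rw [e]
            have e2 : ∀ u ∈ R, ↑z * u * (z : G)⁻¹ = u := by
              intro u hu
              have := hcomm u hu
              rw [mul_inv_eq_iff_eq_mul] at this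
              rw [← this]; group
            constructor
            · intro h; rw [e2 _ h]; exact h
            · intro h
              have e3 : ∀ u ∈ R, (z : G)⁻¹ * u * z = u := by
                intro u hu
                have := e2 u hu
                rw [mul_inv_eq_iff_eq_mul] at this
                rw [mul_assoc, ← this]; group
              have e4 := e3 _ h
              have e5 : (z : G)⁻¹ * (↑z * (g⁻¹ * y * g) * (↑z)⁻¹) * z = g⁻¹ * y * g := by group
              rw [e5] at e4
              rw [e4]; exact h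
          have h2 : g * z * g⁻¹ ∈ N ⊓ H := ⟨hN.conj_mem _ hzN g, hNP h1⟩
          rw [hdisj, mem_bot] at h2
          have h3 : (z : G) = 1 := by
            have : (z : G) = g⁻¹ * (g * z * g⁻¹) * g := by group
            rw [this, h2]; group
          exact Subtype.ext h3
        exact Subtype.ext ((key x hx).trans (key y hy).symm)
      · refine ⟨⟨1, fun u => Subtype.ext ?_⟩⟩
        change (u : G) * 1 * (u : G)⁻¹ = 1
        group
    rw [hfix] at hmod
    have hQc : Nat.card Q' = q ^ (Nat.card N).factorization q := by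
      rw [hQ', ← Q.card_eq_multiplicity]
      exact Nat.card_congr (Subgroup.equivMapOfInjective _ _ N.subtype_injective).symm.toEquiv
    refine ⟨(Nat.card N).factorization q, (hq.dvd_iff_one_le_factorization Nat.card_pos.ne').1 hqN, Nat.ordProj_dvd _ _, ?_⟩
    rw [← hQc]; exact hmod
  · left
    have hHN : H ≤ N := subgroupOf_eq_top.1 h
    have hfr := Sylow.normalizer_sup_eq_top' S (N := N) (hPH.trans hHN)
    rw [eq_top_iff, ← hfr]
    exact sup_le (hNP.trans hHN) le_rfl

/-- simplicity criterion -/
theorem simple_crit (hH : IsSimpleGroup H) (hP : Nat.card P = p) (hPH : P ≤ H) (hsyl : ¬ p ^ 2 ∣ Nat.card G)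
    (hNP : normalizer (P : Set G) ≤ H)
    (hq : ∀ q k, q.Prime → 1 ≤ k → q ^ k ∣ H.index → ¬ q ^ k ≡ 1 [MOD p]) : IsSimpleGroup G := by
  haveI : Nontrivial G := by
    haveI := hH.toNontrivial
    exact Function.Injective.nontrivial (Subtype.val_injective (p := fun g => g ∈ H))
  refine ⟨fun N hN => ?_⟩
  rcases crit_aux H p P hH hP hPH hsyl hNP N with h | ⟨h1, h2⟩
  · exact Or.inr h
  · left
    by_contra hne
    have hc : Nat.card N ≠ 1 := fun h => hne (Subgroup.card_eq_one.1 h)
    obtain ⟨q, hq1, hq2⟩ := Nat.exists_prime_and_dvd hc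
    obtain ⟨k, hk, h3, h4⟩ := h2 q hq1 hq2
    exact hq q k hq1 hk (h3.trans h1) h4

end

end CfsgLib.SimpCrit
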