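import Cfsg.Statements.S0370
import Mathlib
import Cfsg.Agent.LibM24b

set_option autoImplicit false
open Cfsg

namespace Cfsg.Agent.S0370

/-- The permutation x ↦ x + 1 of the residues modulo 23, fixing the extra point, lies in the group of the length-24 code. -/
theorem result : Equiv.optionCongr (Equiv.addRight (1 : ZMod 23)) ∈ Cfsg.M24 := by
  have h : CfsgLib.M24.isM24 [1, 2, 3, 4, 5, 6, 7, 8, 9, 10, 11, 12, 13, 14, 15, 16, 17, 18, 19, 20, 21, 22, 0, 23] = true := by
    decide +kernel
  have h2 := h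
  rw [CfsgLib.M24.isM24, Bool.and_eq_true] at h2
  have : Equiv.optionCongr (Equiv.addRight (1 : ZMod 23)) = CfsgLib.M24.mkPerm
      [1, 2, 3, 4, 5, 6, 7, 8, 9, 10, 11, 12, 13, 14, 15, 16, 17, 18, 19, 20, 21, 22, 0, 23] := by
    apply Equiv.ext
    intro p
    rw [CfsgLib.M24.mkPerm_apply (CfsgLib.M24.pfun_bijective h2.1)]
    revert p
    decide +kernel
  rw [this]
  exact CfsgLib.M24.isM24_spec h

end Cfsg.Agent.S0370
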