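import Cfsg.Statements.S0371
import Mathlib
import Cfsg.Agent.LibM24b

set_option autoImplicit false
open Cfsg

namespace Cfsg.Agent.S0371

/-- the list of the permutation `x ↦ v ^ 2 * x` -/
def PP (v : ZMod 23) : List ℕ := ((List.range 23).map fun i : ℕ => ((v * v) * (i : ZMod 23)).val) ++ [23]

/-- Multiplication by a nonzero square residue modulo 23, fixing the extra point, lies in the group of the length-24 code. -/
theorem result (u : (ZMod 23)ˣ) (hu : IsSquare u) : Equiv.optionCongr (Units.mulLeft u) ∈ Cfsg.M24 := by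
  obtain ⟨v, rfl⟩ := hu
  have h : ∀ v : ZMod 23, v ≠ 0 → CfsgLib.M24.isM24 (PP v) = true := by decide +kernel
  have key : ∀ w : ZMod 23, ∀ p : Cfsg.GolayPt, Option.map (fun x => w * w * x) p =
        CfsgLib.M24.pfun (PP w) p := by decide +kernel
  have hv0 : (v : ZMod 23) ≠ 0 := by
    have : Fact (Nat.Prime 23) := ⟨by norm_num⟩
    exact v.ne_zero
  have h2 := h v hv0
  rw [CfsgLib.M24.isM24, Bool.and_eq_true] at h2
  have : Equiv.optionCongr (Units.mulLeft (v * v)) = CfsgLib.M24.mkPerm (PP v) := by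
    apply Equiv.ext
    intro p
    rw [CfsgLib.M24.mkPerm_apply (CfsgLib.M24.pfun_bijective h2.1), ← key]
    rcases p with _ | x
    · rfl
    · rfl
  rw [this]
  exact CfsgLib.M24.isM24_spec (h v hv0)

end Cfsg.Agent.S0371
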