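import Cfsg.Agent.EqBase
import Mathlib
import Cfsg.Agent.LibCoF
import Cfsg.Agent.LibSimpCrit
import Cfsg.Agent.S0370
import Cfsg.Agent.S0371
import Cfsg.Agent.S0376
import Cfsg.Agent.S0377
import Cfsg.Agent.S0378
import Cfsg.Agent.S0379

/-!
Simplicity of the stabilisers.
-/

set_option autoImplicit false
set_option linter.constructorNameAsVariable false

namespace CfsgLib.Co

open Cfsg CfsgLib.Golay CfsgLib.M24 CfsgLib.Leech CfsgLib.Frame MulAction

/-! ### permutations as lattice automorphisms -/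

/-- permutation elements -/
def pm (σ : M24) : Co0 := mono (σ : Equiv.Perm GolayPt)⁻¹ (inv_mem σ.2) 0 (Submodule.zero_mem _)

theorem pm_apply (σ : M24) (v : LL) (i : GolayPt) : ((pm σ • v : LL) : E) i = (v : E) ((σ : Equiv.Perm GolayPt)⁻¹ i) := by
  rw [pm, mono_apply, Pi.zero_apply, lf_zero]; ring

/-- the embedding of `M24` -/
def pmHom : M24 →* Co0 where
  toFun := pm
  map_one' := co_ext fun v => Subtype.ext (by
    funext i
    rw [pm_apply, one_smul]; rfl)
  map_mul' σ τ := co_ext fun v => Subtype.ext (by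
    funext i
    rw [pm_apply, mul_smul, pm_apply, pm_apply, Subgroup.coe_mul, mul_inv_rev]
    rfl)

theorem pmHom_apply (σ : M24) : pmHom σ = pm σ := rfl

theorem pmHom_inj : Function.Injective pmHom := by
  intro σ τ h
  have h1 := (mono_inj (hσ := inv_mem σ.2) (hτ := inv_mem τ.2) (hc := Submodule.zero_mem _) (hd := Submodule.zero_mem _)
    (show mono (σ : Equiv.Perm GolayPt)⁻¹ (inv_mem σ.2) 0 (Submodule.zero_mem _) =
      mono (τ : Equiv.Perm GolayPt)⁻¹ (inv_mem τ.2) 0 (Submodule.zero_mem _) from h)).1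
  exact Subtype.ext (inv_injective h1)

/-- elements fixing `8e` and a vector of the form `(a, 1, ..., 1)` -/
theorem fix_iff {u : LL} {a : ℤ} (ha : a ≠ 0) (hu : ∀ k, (u : E) k = if k = none then a else 1) (g : Co0) :
    (g • e8 none = e8 none ∧ g • u = u) ↔ ∃ σ : M24, (σ : Equiv.Perm GolayPt) none = none ∧ g = pm σ := by
  constructor
  · rintro ⟨h1, h2⟩
    obtain ⟨σ, hσ, c, hc, hg, h3, h4⟩ := mono_of_fix h1
    have hc0 : c = 0 := by
      funext k
      have h5 : ((g • u : LL) : E) k = (u : E) k := by rw [h2]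
      rw [hg, mono_apply, hu, hu] at h5
      by_cases hk : k = none
      · rw [hk]; exact h4
      · rw [if_neg hk, if_neg] at h5
        · rw [Pi.zero_apply, ← lf_eq_zero]; omega
        · intro h6
          exact hk (σ.injective (h6.trans h3.symm))
    subst hc0
    refine ⟨⟨σ⁻¹, inv_mem hσ⟩, ?_, ?_⟩
    · change σ⁻¹ none = none
      rw [Equiv.Perm.inv_eq_iff_eq, h3]
    · rw [hg, pm]
      congr 1
  · rintro ⟨σ, h, rfl⟩
    have h' : (σ : Equiv.Perm GolayPt)⁻¹ none = none := by rw [Equiv.Perm.inv_eq_iff_eq, h]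
    constructor
    · apply Subtype.ext
      funext k
      rw [pm_apply, e8_coe, Pi.single_apply, Pi.single_apply]
      have : ((σ : Equiv.Perm GolayPt)⁻¹ k = none) ↔ k = none := by
        rw [Equiv.Perm.inv_eq_iff_eq, h]
      simp only [this]
    · apply Subtype.ext
      funext k
      rw [pm_apply, hu, hu]
      have : ((σ : Equiv.Perm GolayPt)⁻¹ k = none) ↔ k = none := by
        rw [Equiv.Perm.inv_eq_iff_eq, h]
      simp only [this]

theorem stab_eq {u : LL} {a : ℤ} (ha : a ≠ 0) (hu : ∀ k, (u : E) k = if k = none then a else 1) :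
    stabilizer Co0 (e8 none) ⊓ stabilizer Co0 u = (stabilizer M24 (none : GolayPt)).map pmHom := by
  ext g
  rw [Subgroup.mem_map]
  constructor
  · rintro ⟨h1, h2⟩
    obtain ⟨σ, h, hg⟩ := (fix_iff ha hu g).1 ⟨h1, h2⟩
    exact ⟨σ, h, hg.symm⟩
  · rintro ⟨σ, h, rfl⟩
    exact Subgroup.mem_inf.2 ((fix_iff ha hu _).2 ⟨σ, h, rfl⟩)

theorem pm_P (σ : M24) (h : (σ : Equiv.Perm GolayPt) none = none) {j : GolayPt} (hj : none ≠ j) {t : ℤ} (ht : t = 4 ∨ t = -4) :
    pm σ • (PL none j (Or.inl rfl : (4 : ℤ) = 4 ∨ (4 : ℤ) = -4) ht) = PL none j (Or.inl rfl : (4 : ℤ) = 4 ∨ (4 : ℤ) = -4) ht ↔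
      (σ : Equiv.Perm GolayPt) j = j := by
  have h' : (σ : Equiv.Perm GolayPt)⁻¹ none = none := by rw [Equiv.Perm.inv_eq_iff_eq, h]
  constructor
  · intro h1
    have h2 : ((pm σ • (PL none j (Or.inl rfl : (4 : ℤ) = 4 ∨ (4 : ℤ) = -4) ht) : LL) : E) ((σ : Equiv.Perm GolayPt) j) =
        P none j 4 t ((σ : Equiv.Perm GolayPt) j) := by rw [h1]; rfl
    rw [pm_apply, PL_coe] at h2
    have e : (σ : Equiv.Perm GolayPt)⁻¹ ((σ : Equiv.Perm GolayPt) j) = j := by simp
    rw [e, P_right hj] at h2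
    by_contra hne
    have h3 : (σ : Equiv.Perm GolayPt) j ≠ none := by
      intro h4
      exact hj ((σ : Equiv.Perm GolayPt).injective (h.trans h4.symm))
    rw [P_other h3 hne] at h2
    omega
  · intro h1
    have h1' : (σ : Equiv.Perm GolayPt)⁻¹ j = j := by rw [Equiv.Perm.inv_eq_iff_eq, h1]
    apply Subtype.ext
    funext k
    rw [pm_apply, PL_coe, P_apply, P_apply]
    have e1 : ((σ : Equiv.Perm GolayPt)⁻¹ k = none) ↔ k = none := by
      rw [Equiv.Perm.inv_eq_iff_eq, h]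
    have e2 : ((σ : Equiv.Perm GolayPt)⁻¹ k = j) ↔ k = j := by
      rw [Equiv.Perm.inv_eq_iff_eq, h1]
    simp only [e1, e2]

theorem stab_eq2 {j : GolayPt} (hj : none ≠ j) {t : ℤ} (ht : t = 4 ∨ t = -4) :
    stabilizer Co0 (e8 none) ⊓ (stabilizer Co0 w5 ⊓ stabilizer Co0 (PL none j (Or.inl rfl : (4 : ℤ) = 4 ∨ (4 : ℤ) = -4) ht)) =
      (stabilizer M24 (none : GolayPt) ⊓ stabilizer M24 j).map pmHom := by
  ext g
  rw [Subgroup.mem_map]
  constructor
  · rintro ⟨h1, h2, h3⟩
    obtain ⟨σ, h, hg⟩ := (fix_iff (u := w5) (a := 5) (by norm_num) (fun k => rfl) g).1 ⟨h1, h2⟩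
    refine ⟨σ, Subgroup.mem_inf.2 ⟨h, ?_⟩, hg.symm⟩
    subst hg
    exact (pm_P σ h hj ht).1 h3
  · rintro ⟨σ, ⟨h, h2⟩, rfl⟩
    obtain ⟨h3, h4⟩ := (fix_iff (u := w5) (a := 5) (by norm_num) (fun k => rfl) (pm σ)).2 ⟨σ, h, rfl⟩
    exact Subgroup.mem_inf.2 ⟨h3, Subgroup.mem_inf.2 ⟨h4, (pm_P σ h hj ht).2 h2⟩⟩

/-! ### elements of order 23 and 11 -/

/-- the shift -/
def s23 : M24 := ⟨Equiv.optionCongr (Equiv.addRight (1 : ZMod 23)), Cfsg.Agent.S0370.result⟩

/-- the unit 2 -/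
def u2 : (ZMod 23)ˣ := ⟨2, 12, by decide, by decide⟩

theorem u2_sq : IsSquare u2 := ⟨⟨5, 14, by decide, by decide⟩, by decide⟩

/-- doubling -/
def s11 : M24 := ⟨Equiv.optionCongr (Units.mulLeft u2), Cfsg.Agent.S0371.result u2 u2_sq⟩

theorem s23_none : (s23 : Equiv.Perm GolayPt) none = none := rfl
theorem s23_some (k : ZMod 23) : (s23 : Equiv.Perm GolayPt) (some k) = some (k + 1) := rfl
theorem s11_none : (s11 : Equiv.Perm GolayPt) none = none := rfl
theorem s11_some (k : ZMod 23) : (s11 : Equiv.Perm GolayPt) (some k) = some (2 * k) := rfl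
theorem s11_zero : (s11 : Equiv.Perm GolayPt) pz = pz := by rw [s11_some, mul_zero]

theorem s23_pow (n : ℕ) (k : ZMod 23) : ((s23 ^ n : M24) : Equiv.Perm GolayPt) (some k) = some (k + n) := by
  induction n with
  | zero => simp
  | succ n ih =>
    rw [pow_succ', Subgroup.coe_mul, Equiv.Perm.mul_apply, ih, s23_some]
    push_cast
    rw [add_assoc]

theorem s23_pow_none (n : ℕ) : ((s23 ^ n : M24) : Equiv.Perm GolayPt) none = none := by
  induction n with
  | zero => simp
  | succ n ih => rw [pow_succ', Subgroup.coe_mul, Equiv.Perm.mul_apply, ih, s23_none]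

theorem s11_pow (n : ℕ) (k : ZMod 23) : ((s11 ^ n : M24) : Equiv.Perm GolayPt) (some k) = some (2 ^ n * k) := by
  induction n with
  | zero => simp
  | succ n ih =>
    rw [pow_succ', Subgroup.coe_mul, Equiv.Perm.mul_apply, ih, s11_some, pow_succ']
    rw [mul_assoc]

theorem s11_pow_none (n : ℕ) : ((s11 ^ n : M24) : Equiv.Perm GolayPt) none = none := by
  induction n with
  | zero => simp
  | succ n ih => rw [pow_succ', Subgroup.coe_mul, Equiv.Perm.mul_apply, ih, s11_none]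

instance : Fact (Nat.Prime 23) := ⟨by norm_num⟩
instance : Fact (Nat.Prime 11) := ⟨by norm_num⟩

theorem order_s23 : orderOf s23 = 23 := by
  apply orderOf_eq_prime
  · apply Subtype.ext
    apply Equiv.ext
    rintro (_ | k)
    · exact s23_pow_none 23
    · rw [s23_pow]
      have : ((23 : ℕ) : ZMod 23) = 0 := by decide
      rw [this, add_zero]; rfl
  · intro h
    have : (s23 : Equiv.Perm GolayPt) (some 0) = some 0 := by rw [h]; rfl
    rw [s23_some] at this
    exact absurd this (by decide)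

theorem order_s11 : orderOf s11 = 11 := by
  apply orderOf_eq_prime
  · apply Subtype.ext
    apply Equiv.ext
    rintro (_ | k)
    · exact s11_pow_none 11
    · rw [s11_pow]
      have : (2 ^ 11 : ZMod 23) = 1 := by decide
      rw [this, one_mul]; rfl
  · intro h
    have : (s11 : Equiv.Perm GolayPt) (some 1) = some 1 := by rw [h]; rfl
    rw [s11_some] at this
    exact absurd this (by decide)

theorem order_pm (σ : M24) : orderOf (pm σ) = orderOf σ := orderOf_injective pmHom pmHom_inj σ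

/-- vectors fixed by the shift -/
theorem fixed23 {x : LL} (h : pm s23 • x = x) : ∃ b : ℤ, ∀ k : ZMod 23, (x : E) (some k) = b := by
  refine ⟨(x : E) (some 0), ?_⟩
  have h1 : ∀ k : ZMod 23, (x : E) (some (k + 1)) = (x : E) (some k) := by
    intro k
    have h2 : ((pm s23 • x : LL) : E) (some (k + 1)) = (x : E) (some (k + 1)) := by rw [h]
    rw [pm_apply] at h2
    have e : (s23 : Equiv.Perm GolayPt)⁻¹ (some (k + 1)) = some k := by
      rw [Equiv.Perm.inv_eq_iff_eq]; rfl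
    rw [e] at h2
    exact h2.symm
  have h2 : ∀ n : ℕ, (x : E) (some (n : ZMod 23)) = (x : E) (some 0) := by
    intro n
    induction n with
    | zero => simp
    | succ n ih => push_cast; rw [h1, ih]
  intro k
  rw [← h2 k.val, ZMod.natCast_zmod_val]

/-- vectors fixed by doubling -/
theorem fixed11 {x : LL} (h : pm s11 • x = x) : ∃ c d : ℤ, ∀ k : ZMod 23, k ≠ 0 →
    (x : E) (some k) = if k ^ 11 = 1 then c else d := by
  refine ⟨(x : E) (some 1), (x : E) (some (-1)), ?_⟩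
  have h1 : ∀ k : ZMod 23, (x : E) (some (2 * k)) = (x : E) (some k) := by
    intro k
    have h2 : ((pm s11 • x : LL) : E) (some (2 * k)) = (x : E) (some (2 * k)) := by rw [h]
    rw [pm_apply] at h2
    have e : (s11 : Equiv.Perm GolayPt)⁻¹ (some (2 * k)) = some k := by
      rw [Equiv.Perm.inv_eq_iff_eq]; rfl
    rw [e] at h2
    exact h2.symm
  have h2 : ∀ (n : ℕ) (k : ZMod 23), (x : E) (some (2 ^ n * k)) = (x : E) (some k) := by
    intro n
    induction n with
    | zero => intro k; simp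
    | succ n ih => intro k; rw [pow_succ', mul_assoc, h1, ih]
  have key : ∀ k : ZMod 23, k ≠ 0 → (k ^ 11 = 1 ∧ ∃ n < 11, k = 2 ^ n * 1) ∨ (k ^ 11 ≠ 1 ∧ ∃ n < 11, k = 2 ^ n * (-1)) := by
    decide
  intro k hk
  rcases key k hk with ⟨e1, n, _, e2⟩ | ⟨e1, n, _, e2⟩
  · rw [if_pos e1, e2, h2]
  · rw [if_neg e1, e2, h2]

/-- sums over the points -/
theorem sum_23 (F : GolayPt → ℤ) (b : ℤ) (h : ∀ k : ZMod 23, F (some k) = b) : ∑ i, F i = F none + 23 * b := by
  rw [Fintype.sum_option, Finset.sum_congr rfl fun k _ => h k, Finset.sum_const, Finset.card_univ, ZMod.card,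
    nsmul_eq_mul]
  rfl

theorem sum_11 (F : GolayPt → ℤ) (c d : ℤ) (h : ∀ k : ZMod 23, k ≠ 0 → F (some k) = if k ^ 11 = 1 then c else d) :
    ∑ i, F i = F none + F pz + 11 * c + 11 * d := by
  rw [Fintype.sum_option, ← Finset.add_sum_erase _ _ (Finset.mem_univ (0 : ZMod 23))]
  have h1 : ∑ k ∈ Finset.univ.erase (0 : ZMod 23), F (some k) =
      ∑ k ∈ Finset.univ.erase (0 : ZMod 23), if k ^ 11 = 1 then c else d :=
    Finset.sum_congr rfl fun k hk => h k (Finset.ne_of_mem_erase hk)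
  rw [h1, Finset.sum_ite, Finset.sum_const, Finset.sum_const]
  have e1 : ((Finset.univ.erase (0 : ZMod 23)).filter fun k => k ^ 11 = 1).card = 11 := by decide
  have e2 : ((Finset.univ.erase (0 : ZMod 23)).filter fun k => ¬ k ^ 11 = 1).card = 11 := by decide
  rw [e1, e2, nsmul_eq_mul, nsmul_eq_mul]
  push_cast
  ring

/-! ### the criterion for stabilisers -/

theorem finCo0 : Finite Co0 := Nat.finite_of_card_ne_zero (by rw [card_Co0]; norm_num)

instance : Finite Co0 := finCo0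

/-- the frame stabiliser inside `A` -/
def HH (A : Subgroup Co0) : Subgroup A := (stabilizer Co0 (e8 none)).subgroupOf A

section

variable (A : Subgroup Co0) (D : Subgroup M24) (hAD : stabilizer Co0 (e8 none) ⊓ A = D.map pmHom)
include hAD

theorem HH_equiv : Nonempty (HH A ≃* D) := by
  have e0 : HH A = (stabilizer Co0 (e8 none) ⊓ A).subgroupOf A := (Subgroup.inf_subgroupOf_right _ _).symm
  have e1 : HH A ≃* ↥((stabilizer Co0 (e8 none) ⊓ A).subgroupOf A) := MulEquiv.subgroupCongr e0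
  have e2 : ↥((stabilizer Co0 (e8 none) ⊓ A).subgroupOf A) ≃* ↥(stabilizer Co0 (e8 none) ⊓ A) :=
    Subgroup.subgroupOfEquivOfLe inf_le_right
  have e3 : ↥(stabilizer Co0 (e8 none) ⊓ A) ≃* ↥(D.map pmHom) := MulEquiv.subgroupCongr hAD
  have e4 : D ≃* ↥(D.map pmHom) := D.equivMapOfInjective pmHom pmHom_inj
  exact ⟨((e1.trans e2).trans e3).trans e4.symm⟩

theorem HH_simple (hD : IsSimpleGroup D) : IsSimpleGroup (HH A) := by
  obtain ⟨e⟩ := HH_equiv A D hAD
  haveI := hD
  haveI : Nontrivial (HH A) := e.symm.injective.nontrivial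
  exact IsSimpleGroup.isSimpleGroup_of_surjective e.symm.toMonoidHom e.symm.surjective

theorem HH_index : (HH A).index * Nat.card D = Nat.card A := by
  obtain ⟨e⟩ := HH_equiv A D hAD
  rw [← Nat.card_congr e.toEquiv, mul_comm]
  exact (HH A).card_mul_index

theorem crit_pack (hD : IsSimpleGroup D) (p : ℕ) [Fact p.Prime] (σ : M24) (hσ : orderOf σ = p) (hσD : σ ∈ D)
    (hp2 : ¬ p ^ 2 ∣ Nat.card A)
    (hfix : ∀ n ∈ A, pm σ • (n • e8 none) = n • e8 none → n • e8 none = e8 none) :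
    ∃ P : Subgroup A, IsSimpleGroup (HH A) ∧ Nat.card P = p ∧ P ≤ HH A ∧ ¬ p ^ 2 ∣ Nat.card A ∧
      Subgroup.normalizer (P : Set A) ≤ HH A := by
  have hmem : pmHom σ ∈ stabilizer Co0 (e8 none) ⊓ A := by rw [hAD]; exact ⟨σ, hσD, rfl⟩
  have hmA : pm σ ∈ A := (Subgroup.mem_inf.1 hmem).2
  have hmS : pm σ ∈ stabilizer Co0 (e8 none) := (Subgroup.mem_inf.1 hmem).1
  let s : A := ⟨pm σ, hmA⟩
  have hle : Subgroup.zpowers s ≤ HH A := by
    rw [Subgroup.zpowers_le]
    exact hmS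
  refine ⟨Subgroup.zpowers s, HH_simple A D hAD hD, ?_, hle, hp2, ?_⟩
  · rw [Nat.card_zpowers, ← hσ, ← order_pm σ]
    exact (Subgroup.orderOf_coe s).symm
  · intro n hn
    rw [Subgroup.mem_normalizer_iff] at hn
    have h1 : n⁻¹ * s * n ∈ Subgroup.zpowers s := by
      rw [hn]
      have : n * (n⁻¹ * s * n) * n⁻¹ = s := by group
      rw [this]
      exact Subgroup.mem_zpowers s
    have h2 : (n⁻¹ * s * n) ∈ HH A := hle h1
    have h3 : ((n : Co0)⁻¹ * pm σ * n) • e8 none = e8 none := h2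
    have h4 : pm σ • ((n : Co0) • e8 none) = (n : Co0) • e8 none := by
      rw [mul_smul, mul_smul, inv_smul_eq_iff] at h3
      exact h3
    exact hfix n n.2 h4

end

/-! ### orders of stabilisers -/

theorem card_stab (v : LL) (n : ℕ) (h : (orbit Co0 v).ncard = n) : Nat.card (stabilizer Co0 v) * n = 8315553613086720000 := by
  rw [← h, ← index_stabilizer, Subgroup.card_mul_index, card_Co0]

theorem orbit32 (v : LL) (hv : sqNorm (v : E) = 32) : orbit Co0 v = {w : LL | sqNorm (w : E) = 32} := by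
  ext w
  constructor
  · rintro ⟨g, rfl⟩
    change sqNorm ((g • v : LL) : E) = 32
    rw [act_norm, hv]
  · intro hw
    obtain ⟨g, hg⟩ := tr32 v hv
    obtain ⟨g', hg'⟩ := tr32 w hw
    refine ⟨g'⁻¹ * g, ?_⟩
    change (g'⁻¹ * g) • v = w
    rw [mul_smul, inv_smul_eq_iff]
    exact Subtype.ext (hg.trans hg'.symm)

theorem orbit48 (v : LL) (hv : sqNorm (v : E) = 48) : orbit Co0 v = {w : LL | sqNorm (w : E) = 48} := by
  ext w
  constructor
  · rintro ⟨g, rfl⟩
    change sqNorm ((g • v : LL) : E) = 48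
    rw [act_norm, hv]
  · intro hw
    obtain ⟨g, hg⟩ := tr48 v hv
    obtain ⟨g', hg'⟩ := tr48 w hw
    refine ⟨g'⁻¹ * g, ?_⟩
    change (g'⁻¹ * g) • v = w
    rw [mul_smul, inv_smul_eq_iff]
    exact Subtype.ext (hg.trans hg'.symm)

theorem card_Co2 (v : LL) (hv : sqNorm (v : E) = 32) : Nat.card (stabilizer Co0 v) = 42305421312000 := by
  have h := card_stab v 196560 (by rw [orbit32 v hv, n32])
  exact Nat.eq_of_mul_eq_mul_right (by norm_num : 0 < 196560) (h.trans (by norm_num))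

theorem card_Co3 (v : LL) (hv : sqNorm (v : E) = 48) : Nat.card (stabilizer Co0 v) = 495766656000 := by
  have h := card_stab v 16773120 (by rw [orbit48 v hv, n48])
  exact Nat.eq_of_mul_eq_mul_right (by norm_num : 0 < 16773120) (h.trans (by norm_num))

/-- stabilisers of two vectors -/
theorem card_stab2 (v w : LL) (n : ℕ) (h : {x : LL | ∃ g : Co0, g • v = v ∧ g • w = x}.ncard = n) :
    Nat.card ↥(stabilizer Co0 v ⊓ stabilizer Co0 w) * n = Nat.card (stabilizer Co0 v) := by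
  have h1 := (stabilizer (stabilizer Co0 v) w).card_mul_index
  rw [index_stabilizer] at h1
  have h2 : orbit (stabilizer Co0 v) w = {x : LL | ∃ g : Co0, g • v = v ∧ g • w = x} := by
    ext x
    constructor
    · rintro ⟨⟨g, hg⟩, rfl⟩; exact ⟨g, hg, rfl⟩
    · rintro ⟨g, hg, rfl⟩; exact ⟨⟨g, hg⟩, rfl⟩
  rw [h2, h] at h1
  rw [← h1]
  congr 1
  refine Nat.card_congr ⟨fun g => ⟨⟨g.1, g.2.1⟩, g.2.2⟩, fun g => ⟨g.1.1, Subgroup.mem_inf.2 ⟨g.1.2, g.2⟩⟩, fun g => ?_, fun g => ?_⟩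
  · rfl
  · rfl

/-- `(4, 4, 0, ...)` -/
def p44 : LL := PL none pz (Or.inl rfl : (4 : ℤ) = 4 ∨ (4 : ℤ) = -4) (Or.inl rfl : (4 : ℤ) = 4 ∨ (4 : ℤ) = -4)
/-- `(4, -4, 0, ...)` -/
def p4m : LL := PL none pz (Or.inl rfl : (4 : ℤ) = 4 ∨ (4 : ℤ) = -4) (Or.inr rfl : (-4 : ℤ) = 4 ∨ (-4 : ℤ) = -4)

theorem p44_coe : (p44 : E) = P none pz 4 4 := rfl
theorem p4m_coe : (p4m : E) = P none pz 4 (-4) := rfl

theorem p44_norm : sqNorm (p44 : E) = 32 := norm_PL nz _ _
theorem p4m_norm : sqNorm (p4m : E) = 32 := norm_PL nz _ _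

theorem w5_p44 : dotInt (w5 : E) (p44 : E) = 24 := by
  rw [p44_coe, dot_P_right, w5_coe, W5_none, W5_other (Ne.symm nz)]; norm_num

theorem w5_p4m : dotInt (w5 : E) (p4m : E) = 16 := by
  rw [p4m_coe, dot_P_right, w5_coe, W5_none, W5_other (Ne.symm nz)]; norm_num

theorem card_McL : Nat.card ↥(stabilizer Co0 w5 ⊓ stabilizer Co0 p44) = 898128000 := by
  have h := card_stab2 w5 p44 552 (by
    rw [← (census48 w5 W5_norm).1, cntD]
    congr 1
    ext x
    constructor
    · rintro ⟨g, hg, rfl⟩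
      refine ⟨by rw [act_norm]; exact p44_norm, ?_⟩
      have := act_dot g w5 p44
      rw [hg, w5_p44] at this
      exact this
    · rintro ⟨h1, h2⟩
      obtain ⟨g, e1, e2⟩ := tr48' w5 x W5_norm h1 (by rw [dot_comm]; exact h2)
      refine ⟨g⁻¹, ?_, ?_⟩
      · rw [inv_smul_eq_iff]; exact Subtype.ext e2.symm
      · rw [inv_smul_eq_iff]; exact Subtype.ext e1.symm)
  rw [card_Co3 w5 W5_norm] at h
  exact Nat.eq_of_mul_eq_mul_right (by norm_num : 0 < 552) (h.trans (by norm_num))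

theorem card_HS : Nat.card ↥(stabilizer Co0 w5 ⊓ stabilizer Co0 p4m) = 44352000 := by
  have h := card_stab2 w5 p4m 11178 (by
    rw [← (census48 w5 W5_norm).2.1, cntD]
    congr 1
    ext x
    constructor
    · rintro ⟨g, hg, rfl⟩
      refine ⟨by rw [act_norm]; exact p4m_norm, ?_⟩
      have := act_dot g w5 p4m
      rw [hg, w5_p4m] at this
      exact this
    · rintro ⟨h1, h2⟩
      obtain ⟨g, e1, e2⟩ := tr_p16 w5 x W5_norm h1 h2
      refine ⟨g⁻¹, ?_, ?_⟩
      · rw [inv_smul_eq_iff]; exact e1.symm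
      · rw [inv_smul_eq_iff]; exact Subtype.ext e2.symm)
  rw [card_Co3 w5 W5_norm] at h
  exact Nat.eq_of_mul_eq_mul_right (by norm_num : 0 < 11178) (h.trans (by norm_num))

/-- conjugation of joint stabilisers -/
theorem conjE (g : Co0) {a b a' b' : LL} (ha : g • a = a') (hb : g • b = b') :
    Nonempty (↥(stabilizer Co0 a ⊓ stabilizer Co0 b) ≃* ↥(stabilizer Co0 a' ⊓ stabilizer Co0 b')) := by
  subst ha
  subst hb
  have h : (stabilizer Co0 a ⊓ stabilizer Co0 b).map (MulAut.conj g).toMonoidHom =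
      stabilizer Co0 (g • a) ⊓ stabilizer Co0 (g • b) := by
    ext x
    rw [Subgroup.mem_map]
    constructor
    · rintro ⟨s, hs, rfl⟩
      obtain ⟨h1, h2⟩ := Subgroup.mem_inf.1 hs
      refine Subgroup.mem_inf.2 ⟨?_, ?_⟩
      · change (g * s * g⁻¹) • g • a = g • a
        rw [mul_smul, mul_smul, inv_smul_smul, mem_stabilizer_iff.1 h1]
      · change (g * s * g⁻¹) • g • b = g • b
        rw [mul_smul, mul_smul, inv_smul_smul, mem_stabilizer_iff.1 h2]
    · intro hx
      obtain ⟨h1, h2⟩ := Subgroup.mem_inf.1 hx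
      refine ⟨g⁻¹ * x * g, Subgroup.mem_inf.2 ⟨?_, ?_⟩, ?_⟩
      · change (g⁻¹ * x * g) • a = a
        rw [mul_smul, mul_smul, mem_stabilizer_iff.1 h1, inv_smul_smul]
      · change (g⁻¹ * x * g) • b = b
        rw [mul_smul, mul_smul, mem_stabilizer_iff.1 h2, inv_smul_smul]
      · change g * (g⁻¹ * x * g) * g⁻¹ = x
        group
  exact ⟨((MulAut.conj g).subgroupMap _).trans (MulEquiv.subgroupCongr h)⟩

theorem simple_of_equiv {G H : Type*} [Group G] [Group H] (e : G ≃* H) (hG : IsSimpleGroup G) : IsSimpleGroup H := by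
  haveI : Nontrivial H := e.injective.nontrivial
  exact IsSimpleGroup.isSimpleGroup_of_surjective e.toMonoidHom e.surjective

/-! ### the individual groups -/

theorem small_eq {a b n m : ℤ} (h1 : a = n) (h2 : b = m) : a = n ∧ b = m := ⟨h1, h2⟩

theorem eq_e8 {x : LL} (h : ∀ k : ZMod 23, (x : E) (some k) = 0) (h0 : (x : E) none = 8) : x = e8 none := by
  apply Subtype.ext
  funext i
  rw [e8_coe]
  rcases i with _ | k
  · rw [h0, Pi.single_eq_same]
  · rw [h k, Pi.single_eq_of_ne (by simp)]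

theorem bound {q k n : ℕ} (m : ℕ) (hd : q ^ k ∣ n) (hm : ¬ q ^ (m + 1) ∣ n) : k ≤ m := by
  by_contra h
  exact hm ((pow_dvd_pow q (by omega)).trans hd)

theorem p_of_dvd {q r m : ℕ} (hq : q.Prime) (hr : r.Prime) (h : q ∣ r ^ m) : q = r :=
  (Nat.prime_dvd_prime_iff_eq hq hr).1 (hq.dvd_of_dvd_pow h)

theorem simple_Co3 : IsSimpleGroup (stabilizer Co0 w5) := by
  have hAD := stab_eq (u := w5) (a := 5) (by norm_num) (fun k => rfl)
  have hc := card_Co3 w5 W5_norm
  obtain ⟨P, h1, h2, h3, h4, h5⟩ := crit_pack (stabilizer Co0 w5) (stabilizer M24 (none : GolayPt)) hAD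
    (Cfsg.Agent.S0377.result none) 23 s23 order_s23 s23_none (by rw [hc]; norm_num) (by
      intro n hn hfix
      obtain ⟨b, hb⟩ := fixed23 hfix
      have e1 : dotInt W5 ((n • e8 none : LL) : E) = 40 := by
        have := act_dot n w5 (e8 none)
        rw [mem_stabilizer_iff.1 hn, dot_e8, w5_coe, W5_none] at this
        exact this
      have e2 := act_norm n (e8 none)
      rw [e8_norm, sqNorm, sum_23 _ (b ^ 2) (fun k => by rw [hb])] at e2
      rw [dot_W5, sum_23 _ b hb] at e1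
      have hb0 : b = 0 := by
        have : b < 2 := by nlinarith
        have : -2 < b := by nlinarith
        interval_cases b <;> omega
      subst hb0
      exact eq_e8 hb (by omega))
  have hidx := HH_index _ _ hAD
  rw [hc, Cfsg.Agent.S0376.result none] at hidx
  have hidx' : (HH (stabilizer Co0 w5)).index = 48600 :=
    Nat.eq_of_mul_eq_mul_right (by norm_num : 0 < 10200960) (hidx.trans (by norm_num))
  refine CfsgLib.SimpCrit.simple_crit _ 23 P h1 h2 h3 h4 h5 ?_
  intro q k hq hk hd hmod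
  rw [hidx'] at hd
  have hq' : q ∣ 2 ^ 3 * (3 ^ 5 * 5 ^ 2) := (dvd_pow_self q (by omega)).trans (hd.trans (by norm_num))
  rcases (hq.dvd_mul).1 hq' with h | h
  · obtain rfl := p_of_dvd hq Nat.prime_two h
    have := bound 3 hd (by norm_num)
    interval_cases k <;> revert hmod <;> decide
  rcases (hq.dvd_mul).1 h with h | h
  · obtain rfl := p_of_dvd hq Nat.prime_three h
    have := bound 5 hd (by norm_num)
    interval_cases k <;> revert hmod <;> decide
  · obtain rfl := p_of_dvd hq Nat.prime_five h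
    have := bound 2 hd (by norm_num)
    interval_cases k <;> revert hmod <;> decide

/-! #### McL -/

theorem eq_e8' {x : LL} {c d : ℤ} (h : ∀ k : ZMod 23, k ≠ 0 → (x : E) (some k) = if k ^ 11 = 1 then c else d)
    (hc : c = 0) (hd : d = 0) (hz : (x : E) pz = 0) (h0 : (x : E) none = 8) : x = e8 none := by
  subst hc
  subst hd
  apply eq_e8 _ h0
  intro k
  by_cases hk : k = 0
  · rw [hk]; exact hz
  · rw [h k hk]; split_ifs <;> rfl

theorem small_sol {t a b c d : ℤ} (ht : t = 4 ∨ t = -4) (h1 : 4 * a + (a + b + 11 * c + 11 * d) = 40)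
    (h2 : 4 * a + t * b = 32) (h3 : a ^ 2 + b ^ 2 + 11 * c ^ 2 + 11 * d ^ 2 = 64) : a = 8 ∧ b = 0 ∧ c = 0 ∧ d = 0 := by
  have key : a = 8 ∧ b = 0 ∧ c + d = 0 := by
    rcases ht with rfl | rfl
    · obtain ⟨s, hs⟩ : ∃ s, c + d = 4 * s := ⟨(c + d) / 4, by omega⟩
      have ha : a = 8 - 11 * s := by omega
      have hb : b = 11 * s := by omega
      have h4 : 330 * s ^ 2 ≤ 176 * s := by
        have h5 : (c + d) ^ 2 = 16 * s ^ 2 := by rw [hs]; ring
        rw [ha, hb] at h3
        nlinarith [sq_nonneg (c - d)]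
      have h6 : s = 0 := by
        have : s < 1 := by nlinarith
        have : -1 < s := by nlinarith
        omega
      omega
    · obtain ⟨s, hs⟩ : ∃ s, c + d = 6 * s := ⟨(c + d) / 6, by omega⟩
      have ha : a = 8 - 11 * s := by omega
      have hb : b = -11 * s := by omega
      have h4 : 440 * s ^ 2 ≤ 176 * s := by
        have h5 : (c + d) ^ 2 = 36 * s ^ 2 := by rw [hs]; ring
        rw [ha, hb] at h3
        nlinarith [sq_nonneg (c - d)]
      have h6 : s = 0 := by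
        have : s < 1 := by nlinarith
        have : -1 < s := by nlinarith
        omega
      omega
  obtain ⟨ha, hb, hcd⟩ := key
  rw [ha, hb] at h3
  have hc : c ^ 2 = 0 := by nlinarith [sq_nonneg c, sq_nonneg d]
  have hd : d ^ 2 = 0 := by nlinarith [sq_nonneg c, sq_nonneg d]
  exact ⟨ha, hb, pow_eq_zero_iff (two_ne_zero) |>.1 hc, pow_eq_zero_iff (two_ne_zero) |>.1 hd⟩

theorem simple_two {t : ℤ} (ht : t = 4 ∨ t = -4) (m : ℕ)
    (hc : Nat.card ↥(stabilizer Co0 w5 ⊓ stabilizer Co0 (PL none pz (Or.inl rfl : (4 : ℤ) = 4 ∨ (4 : ℤ) = -4) ht)) = 443520 * m)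
    (h11 : ¬ 11 ^ 2 ∣ 443520 * m)
    (hq : ∀ q k, q.Prime → 1 ≤ k → q ^ k ∣ m → ¬ q ^ k ≡ 1 [MOD 11]) :
    IsSimpleGroup ↥(stabilizer Co0 w5 ⊓ stabilizer Co0 (PL none pz (Or.inl rfl : (4 : ℤ) = 4 ∨ (4 : ℤ) = -4) ht)) := by
  have hAD := stab_eq2 (nz : none ≠ pz) ht
  have hD0 : s11 ∈ stabilizer M24 (none : GolayPt) ⊓ stabilizer M24 pz := Subgroup.mem_inf.2 ⟨s11_none, s11_zero⟩
  obtain ⟨P, h1, h2, h3, h4, h5⟩ := crit_pack _ (stabilizer M24 (none : GolayPt) ⊓ stabilizer M24 pz) hAD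
    (Cfsg.Agent.S0379.result none pz nz) 11 s11 order_s11 hD0 (by rw [hc]; exact h11) (by
      intro n hn hfix
      obtain ⟨hn1, hn2⟩ := Subgroup.mem_inf.1 hn
      obtain ⟨c, d, hcd⟩ := fixed11 hfix
      have e1 : dotInt W5 ((n • e8 none : LL) : E) = 40 := by
        have := act_dot n w5 (e8 none)
        rw [mem_stabilizer_iff.1 hn1, dot_e8, w5_coe, W5_none] at this
        exact this
      have e2 := act_norm n (e8 none)
      rw [e8_norm, sqNorm, sum_11 _ (c ^ 2) (d ^ 2) (fun k hk => by rw [hcd k hk]; split_ifs <;> rfl)] at e2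
      rw [dot_W5, sum_11 _ c d hcd] at e1
      have e3 : dotInt ((n • e8 none : LL) : E) (P none pz 4 t) = 32 := by
        have := act_dot n (e8 none) (PL none pz (Or.inl rfl : (4 : ℤ) = 4 ∨ (4 : ℤ) = -4) ht)
        rw [mem_stabilizer_iff.1 hn2, dot_comm ((e8 none : LL) : E), dot_e8, PL_coe, P_left nz] at this
        exact this
      rw [dot_P_right] at e3
      obtain ⟨f1, f2, f3, f4⟩ := small_sol ht e1 e3 e2
      exact eq_e8' hcd f3 f4 f2 f1)
  have hidx := HH_index _ _ hAD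
  rw [hc, Cfsg.Agent.S0378.result none pz nz, mul_comm] at hidx
  refine CfsgLib.SimpCrit.simple_crit _ 11 P h1 h2 h3 h4 h5 ?_
  rw [Nat.eq_of_mul_eq_mul_left (by norm_num : 0 < 443520) hidx]
  exact hq

theorem simple_McL : IsSimpleGroup ↥(stabilizer Co0 w5 ⊓ stabilizer Co0 p44) := by
  refine simple_two (Or.inl rfl) 2025 (by rw [show (443520 * 2025 : ℕ) = 898128000 by norm_num]; exact card_McL) (by norm_num) ?_
  intro q k hq hk hd hmod
  have hq' : q ∣ 3 ^ 4 * 5 ^ 2 := (dvd_pow_self q (by omega)).trans (hd.trans (by norm_num))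
  rcases (hq.dvd_mul).1 hq' with h | h
  · obtain rfl := p_of_dvd hq Nat.prime_three h
    have := bound 4 hd (by norm_num)
    interval_cases k <;> revert hmod <;> decide
  · obtain rfl := p_of_dvd hq Nat.prime_five h
    have := bound 2 hd (by norm_num)
    interval_cases k <;> revert hmod <;> decide

theorem simple_HS : IsSimpleGroup ↥(stabilizer Co0 w5 ⊓ stabilizer Co0 p4m) := by
  refine simple_two (Or.inr rfl) 100 (by rw [show (443520 * 100 : ℕ) = 44352000 by norm_num]; exact card_HS) (by norm_num) ?_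
  intro q k hq hk hd hmod
  have hq' : q ∣ 2 ^ 2 * 5 ^ 2 := (dvd_pow_self q (by omega)).trans (hd.trans (by norm_num))
  rcases (hq.dvd_mul).1 hq' with h | h
  · obtain rfl := p_of_dvd hq Nat.prime_two h
    have := bound 2 hd (by norm_num)
    interval_cases k <;> revert hmod <;> decide
  · obtain rfl := p_of_dvd hq Nat.prime_five h
    have := bound 2 hd (by norm_num)
    interval_cases k <;> revert hmod <;> decide

theorem simple_conj (g : Co0) {a b a' b' : LL} (ha : g • a = a') (hb : g • b = b') {n : ℕ}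
    (h : IsSimpleGroup ↥(stabilizer Co0 a' ⊓ stabilizer Co0 b')) (hn : Nat.card ↥(stabilizer Co0 a' ⊓ stabilizer Co0 b') = n) :
    IsSimpleGroup ↥(stabilizer Co0 a ⊓ stabilizer Co0 b) ∧ Nat.card ↥(stabilizer Co0 a ⊓ stabilizer Co0 b) = n := by
  obtain ⟨e⟩ := conjE g ha hb
  exact ⟨simple_of_equiv e.symm h, by rw [Nat.card_congr e.toEquiv]; exact hn⟩

theorem isCo3 (v : LL) (hv : sqNorm (v : E) = 48) : IsCo3 (stabilizer Co0 v) := by
  obtain ⟨g, hg⟩ := tr48 v hv
  have hg' : g • v = w5 := Subtype.ext hg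
  have h := simple_conj g hg' hg' (n := 495766656000) (by rw [inf_idem]; exact simple_Co3) (by rw [inf_idem]; exact card_Co3 w5 W5_norm)
  rw [inf_idem] at h
  exact h

theorem inf_add (v w : LL) : stabilizer Co0 v ⊓ stabilizer Co0 (v + w) = stabilizer Co0 v ⊓ stabilizer Co0 w := by
  ext g
  rw [Subgroup.mem_inf, Subgroup.mem_inf]
  simp only [mem_stabilizer_iff]
  constructor
  · rintro ⟨h1, h2⟩
    refine ⟨h1, ?_⟩
    rw [act_add, h1] at h2
    exact add_left_cancel h2
  · rintro ⟨h1, h2⟩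
    exact ⟨h1, by rw [act_add, h1, h2]⟩

theorem isMcL (v w : LL) (hv : sqNorm (v : E) = 32) (hw : sqNorm (w : E) = 32) (hvw : dotInt (v : E) (w : E) = -8) :
    IsMcL ↥(stabilizer Co0 v ⊓ stabilizer Co0 w) := by
  obtain ⟨g, h1, h2⟩ := tr_m8 v w hv hw hvw
  have h1' : g • v = p44 := Subtype.ext h1
  have h2' : g • (v + w) = w5 := Subtype.ext h2
  rw [← inf_add, inf_comm]
  exact simple_conj g h2' h1' simple_McL card_McL

theorem isHS (v w : LL) (hv : sqNorm (v : E) = 48) (hw : sqNorm (w : E) = 48) (hvw : dotInt (v : E) (w : E) = -32) :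
    IsHS ↥(stabilizer Co0 v ⊓ stabilizer Co0 w) := by
  obtain ⟨g, h1, h2⟩ := tr_p16 v (v + w) hv (by
    change sqNorm ((v : E) + (w : E)) = 32
    rw [sqNorm_add, hv, hw, hvw]; norm_num) (by
    change dotInt (v : E) ((v : E) + (w : E)) = 16
    rw [dot_add_right, hvw]
    rw [← sqNorm_dot, hv]; norm_num)
  have h2' : g • (v + w) = p4m := Subtype.ext h2
  rw [← inf_add]
  exact simple_conj g h1 h2' simple_HS card_HS

end CfsgLib.Co
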