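import Cfsg.Agent.EqBase
import Mathlib

/-!
Simplicity of a transitive group with simple point stabiliser.
-/

set_option autoImplicit false

namespace CfsgLib.QPS

open MulAction

section

variable {G Ω : Type*} [Group G] [Finite G] [MulAction G Ω] [Finite Ω]

/-- orbits of a normal subgroup: the orbit of a point is invariant under its stabiliser -/
theorem orbit_stable {N : Subgroup G} [hN : N.Normal] {ω x : Ω} {s : G} (hs : s • ω = ω) (hx : x ∈ orbit N ω) :
    s • x ∈ orbit N ω := by
  obtain ⟨⟨n, hn⟩, rfl⟩ := hx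
  refine ⟨⟨s * n * s⁻¹, hN.conj_mem n hn s⟩, ?_⟩
  change (s * n * s⁻¹) • ω = s • (n • ω)
  have : s⁻¹ • ω = ω := by rw [inv_smul_eq_iff, hs]
  rw [mul_smul, this, mul_smul]

theorem ncard_orbit_dvd {N : Subgroup G} [hN : N.Normal] (htr : ∀ x y : Ω, ∃ g : G, g • x = y) (ω : Ω) :
    (orbit N ω).ncard ∣ Nat.card Ω := by
  classical
  haveI : Fintype Ω := Fintype.ofFinite Ω
  haveI : Fintype (Quotient (orbitRel N Ω)) := Fintype.ofFinite _
  have h1 : ∀ x : Ω, (orbit N x).ncard = (orbit N ω).ncard := by
    intro x
    obtain ⟨g, rfl⟩ := htr ω x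
    have h2 : orbit N (g • ω) = (fun y => g • y) '' orbit N ω := by
      ext y
      constructor
      · rintro ⟨⟨n, hn⟩, rfl⟩
        refine ⟨(g⁻¹ * n * g) • ω, ⟨⟨g⁻¹ * n * g, by
          have := hN.conj_mem n hn g⁻¹
          rwa [inv_inv] at this⟩, rfl⟩, ?_⟩
        change g • (g⁻¹ * n * g) • ω = n • g • ω
        rw [smul_smul, smul_smul]
        congr 1
        group
      · rintro ⟨_, ⟨⟨n, hn⟩, rfl⟩, rfl⟩
        refine ⟨⟨g * n * g⁻¹, hN.conj_mem n hn g⟩, ?_⟩
        change (g * n * g⁻¹) • g • ω = g • n • ω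
        rw [smul_smul, smul_smul]
        congr 1
        group
    rw [h2, Set.ncard_image_of_injective _ (MulAction.injective g)]
  have h2 : Nat.card Ω = ∑ q : Quotient (orbitRel N Ω), (orbit N ω).ncard := by
    rw [Nat.card_congr (selfEquivSigmaOrbits' N Ω), Nat.card_sigma]
    apply Finset.sum_congr rfl
    intro q _
    induction q using Quotient.inductionOn' with
    | h x =>
      rw [← h1 x, ← Nat.card_coe_set_eq]
      rfl
  rw [h2, Finset.sum_const, smul_eq_mul]
  exact dvd_mul_left _ _

/-- If the possible sizes of unions of orbits of the stabiliser of `ω` exclude the proper divisors of `|Ω|`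
then every normal subgroup is trivial or transitive. -/
theorem normal_trans [FaithfulSMul G Ω] (htr : ∀ x y : Ω, ∃ g : G, g • x = y) (ω : Ω)
    (hsz : ∀ T : Set Ω, ω ∈ T → (∀ s : G, s • ω = ω → ∀ x ∈ T, s • x ∈ T) → T.ncard ∣ Nat.card Ω →
      T.ncard = 1 ∨ T = Set.univ)
    (N : Subgroup G) [hN : N.Normal] : N = ⊥ ∨ orbit N ω = Set.univ := by
  rcases hsz (orbit N ω) (mem_orbit_self ω) (fun s hs x hx => orbit_stable hs hx) (ncard_orbit_dvd htr ω) with h | h
  · left
    rw [eq_bot_iff]
    intro n hn
    rw [Subgroup.mem_bot]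
    apply FaithfulSMul.eq_of_smul_eq_smul (α := Ω)
    intro x
    rw [one_smul]
    obtain ⟨g, rfl⟩ := htr ω x
    rw [Set.ncard_eq_one] at h
    obtain ⟨a, ha⟩ := h
    have h1 : ∀ m ∈ N, m • ω = ω := by
      intro m hm
      have e1 : m • ω ∈ orbit N ω := ⟨⟨m, hm⟩, rfl⟩
      have e2 : ω ∈ orbit N ω := mem_orbit_self ω
      rw [ha, Set.mem_singleton_iff] at e1 e2
      rw [e1, e2]
    have h2 := h1 (g⁻¹ * n * g) (by
      have := hN.conj_mem n hn g⁻¹
      rwa [inv_inv] at this)
    rw [mul_smul, mul_smul, inv_smul_eq_iff] at h2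
    exact h2
  · right; exact h

/-- simplicity criterion -/
theorem isSimple [FaithfulSMul G Ω] (htr : ∀ x y : Ω, ∃ g : G, g • x = y) (ω : Ω)
    (hsz : ∀ T : Set Ω, ω ∈ T → (∀ s : G, s • ω = ω → ∀ x ∈ T, s • x ∈ T) → T.ncard ∣ Nat.card Ω →
      T.ncard = 1 ∨ T = Set.univ)
    (hS : IsSimpleGroup (stabilizer G ω)) (p : ℕ) [hp : Fact p.Prime] (hpd : p ∣ Nat.card Ω)
    (hpn : ∀ k, Nat.card Ω ≠ p ^ k)
    (hsyl : ∀ n, n ∣ Nat.card Ω → n ≡ 1 [MOD p] → Nat.Coprime n p → n = 1) : IsSimpleGroup G := by
  classical
  have hnt : Nontrivial G := by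
    haveI := hS.toNontrivial
    exact Function.Injective.nontrivial (Subtype.val_injective (p := fun g => g ∈ stabilizer G ω))
  refine ⟨fun N hN => ?_⟩
  rcases normal_trans htr ω hsz N with h | hNt
  · exact Or.inl h
  · right
    haveI : Fintype Ω := Fintype.ofFinite Ω
    -- the order of N
    have hcardN : Nat.card N = Nat.card Ω * Nat.card (stabilizer N ω) := by
      have h1 := (stabilizer N ω).card_mul_index
      rw [index_stabilizer, hNt, Set.ncard_univ] at h1
      rw [← h1, mul_comm]
    have hcardG : Nat.card G = Nat.card Ω * Nat.card (stabilizer G ω) := by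
      have h1 := (stabilizer G ω).card_mul_index
      have h2 : orbit G ω = Set.univ := by
        rw [Set.eq_univ_iff_forall]
        intro x
        obtain ⟨g, hg⟩ := htr ω x
        exact ⟨g, hg⟩
      rw [index_stabilizer, h2, Set.ncard_univ] at h1
      rw [← h1, mul_comm]
    haveI hNS : (N.subgroupOf (stabilizer G ω)).Normal := inferInstance
    rcases hS.eq_bot_or_eq_top_of_normal _ hNS with h | h
    · exfalso
      -- N is regular
      have h1 : stabilizer N ω = ⊥ := by
        rw [eq_bot_iff]
        rintro ⟨n, hn⟩ hnω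
        have h2 : (⟨n, hnω⟩ : stabilizer G ω) ∈ N.subgroupOf (stabilizer G ω) := by
          rw [Subgroup.mem_subgroupOf]; exact hn
        rw [h, Subgroup.mem_bot] at h2
        have h3 := congrArg Subtype.val h2
        rw [Subgroup.mem_bot]
        exact Subtype.ext h3
      rw [h1, Subgroup.card_bot, mul_one] at hcardN
      -- the Sylow p-subgroup of N is normal
      obtain ⟨P⟩ : Nonempty (Sylow p N) := inferInstance
      have hc := card_sylow_modEq_one p N
      have hd := P.card_dvd_index
      have hn1 : Nat.card (Sylow p N) = 1 := by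
        apply hsyl
        · rw [← hcardN]
          exact hd.trans (Subgroup.index_dvd_card _)
        · exact hc
        · rw [Nat.coprime_comm, Nat.Prime.coprime_iff_not_dvd hp.out]
          intro hdvd
          have h4 : Nat.card (Sylow p N) % p = 1 % p := hc
          rw [Nat.mod_eq_zero_of_dvd hdvd, Nat.mod_eq_of_lt hp.out.one_lt] at h4
          exact absurd h4 (by norm_num)
      have hPn : (P : Subgroup N).Normal := by
        haveI : Subsingleton (Sylow p N) := (Nat.card_eq_one_iff_unique.1 hn1).1
        exact Sylow.normal_of_subsingleton P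
      have hPc : (P : Subgroup N).Characteristic := P.characteristic_of_normal hPn
      haveI : ((P : Subgroup N).map N.subtype).Normal := inferInstance
      rcases normal_trans htr ω hsz ((P : Subgroup N).map N.subtype) with h5 | h5
      · -- P trivial: impossible
        have h6 : (P : Subgroup N) = ⊥ := by
          rwa [Subgroup.map_eq_bot_iff_of_injective _ N.subtype_injective] at h5
        have h7 := P.dvd_card_of_dvd_card (by rw [hcardN]; exact hpd)
        rw [h6, Subgroup.card_bot] at h7
        exact hp.out.one_lt.ne' (Nat.dvd_one.1 h7)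
      · -- P transitive: then Ω has p-power size
        have h6 : Nat.card Ω ∣ Nat.card ((P : Subgroup N).map N.subtype) := by
          have h7 := (stabilizer ((P : Subgroup N).map N.subtype) ω).card_mul_index
          rw [index_stabilizer, h5, Set.ncard_univ] at h7
          rw [← h7]
          exact dvd_mul_left _ _
        have h7 : Nat.card ((P : Subgroup N).map N.subtype) = Nat.card (P : Subgroup N) :=
          Subgroup.card_map_of_injective N.subtype_injective
        rw [h7, P.card_eq_multiplicity] at h6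
        obtain ⟨k, _, hk⟩ := (Nat.dvd_prime_pow hp.out).1 h6
        exact hpn k hk
    · -- N contains the stabiliser
      rw [Subgroup.subgroupOf_eq_top] at h
      have h1 : Nat.card (stabilizer N ω) = Nat.card (stabilizer G ω) := by
        apply Nat.card_congr
        refine ⟨fun x => ⟨x.1.1, x.2⟩, fun x => ⟨⟨x.1, h x.2⟩, x.2⟩, fun x => rfl, fun x => rfl⟩
      rw [h1, ← hcardG] at hcardN
      exact Subgroup.eq_top_of_card_eq N hcardN

end

end CfsgLib.QPS
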