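import Cfsg.Agent.EqBase
import Mathlib
import Cfsg.Agent.LibCoG
import Cfsg.Agent.LibQPSimple

/-!
The group of the second and of the first kind.
-/

set_option autoImplicit false
set_option linter.constructorNameAsVariable false

namespace CfsgLib.Co

open Cfsg CfsgLib.Golay CfsgLib.M24 CfsgLib.Leech CfsgLib.Frame MulAction

/-! ### codewords with prescribed values at five points -/

/-- kernel check of the values at five points -/
def chk5 : Bool := (List.range 32).all fun m => (List.range 4096).any fun k =>
  (Nat.testBit (cw k) 23 == Nat.testBit m 0) && ((Nat.testBit (cw k) 0 == Nat.testBit m 1) &&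
    ((Nat.testBit (cw k) 1 == Nat.testBit m 2) && ((Nat.testBit (cw k) 2 == Nat.testBit m 3) &&
      (Nat.testBit (cw k) 3 == Nat.testBit m 4))))

theorem chk5_true : chk5 = true := by decide +kernel

/-- the base points -/
def bp : Fin 5 ↪ GolayPt := ⟨![none, some 0, some 1, some 2, some 3], by decide⟩

theorem bits5 (t : Fin 5 → Bool) : ∃ m < 32, ∀ i : Fin 5, Nat.testBit m i = t i := by
  revert t
  decide +kernel

theorem base5 (t : Fin 5 → ZMod 2) : ∃ w ∈ golayCode, ∀ i, w (bp i) = t i := by
  obtain ⟨m, hm, hb⟩ := bits5 fun i => decide (t i = 1)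
  have key := chk5_true
  simp only [chk5, List.all_eq_true, List.any_eq_true, Bool.and_eq_true, beq_iff_eq] at key
  obtain ⟨k, _, h1, h2, h3, h4, h5⟩ := key m (List.mem_range.2 hm)
  have hd : ∀ t : ZMod 2, (if decide (t = 1) = true then (1 : ZMod 2) else 0) = t := by decide
  refine ⟨word (cw k), word_cw_mem k, fun i => ?_⟩
  have hidx : ∀ i : Fin 5, Nat.testBit (cw k) (idx (bp i)) = Nat.testBit m i := by
    have i1 : idx (bp 0) = 23 := by decide
    have i2 : idx (bp 1) = 0 := by decide
    have i3 : idx (bp 2) = 1 := by decide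
    have i4 : idx (bp 3) = 2 := by decide
    have i5 : idx (bp 4) = 3 := by decide
    intro i
    fin_cases i
    · exact (congrArg _ i1).trans h1
    · exact (congrArg _ i2).trans h2
    · exact (congrArg _ i3).trans h3
    · exact (congrArg _ i4).trans h4
    · exact (congrArg _ i5).trans h5
  rw [word, hidx, hb, hd]

theorem code5 (x : Fin 5 ↪ GolayPt) (t : Fin 5 → ZMod 2) : ∃ w ∈ golayCode, ∀ i, w (x i) = t i := by
  obtain ⟨σ, hσ, h⟩ := m24_trans x bp
  obtain ⟨w, hw, e⟩ := base5 t
  exact ⟨fun i => w (σ i), comp_mem hσ hw, fun i => by simp only [h]; exact e i⟩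

theorem code4 {a b c d : GolayPt} (hab : a ≠ b) (hac : a ≠ c) (had : a ≠ d) (hbc : b ≠ c) (hbd : b ≠ d) (hcd : c ≠ d)
    (t1 t2 t3 t4 : ZMod 2) : ∃ w ∈ golayCode, w a = t1 ∧ w b = t2 ∧ w c = t3 ∧ w d = t4 := by
  obtain ⟨x, hx⟩ := exists_emb (s := {0, 1, 2, 3}) ![a, b, c, d, a] (by
    intro i hi j hj h
    fin_cases i <;> fin_cases j <;> simp_all)
  obtain ⟨w, hw, h⟩ := code5 x ![t1, t2, t3, t4, 0]
  refine ⟨w, hw, ?_, ?_, ?_, ?_⟩
  · have := h 0
    rw [hx 0 (by decide)] at this
    exact this
  · have := h 1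
    rw [hx 1 (by decide)] at this
    exact this
  · have := h 2
    rw [hx 2 (by decide)] at this
    exact this
  · have := h 3
    rw [hx 3 (by decide)] at this
    exact this

/-! ### odd minimal vectors -/

theorem odd_mem (m : GolayPt) : (fun k => if k = m then -3 else 1 : E) ∈ Lam := by
  refine ⟨1, 0, Pi.single m (-1), Submodule.zero_mem _, fun i => ?_, ?_⟩
  · change (if i = m then (-3 : ℤ) else 1) = _
    rw [Pi.zero_apply, lf_zero, Pi.single_apply]
    by_cases h : i = m
    · rw [if_pos h, if_pos h]; norm_num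
    · rw [if_neg h, if_neg h]; norm_num
  · rw [sum_single_pt]; norm_num

/-- odd minimal vector -/
def ov (m : GolayPt) (c : GolayPt → ZMod 2) (hc : c ∈ golayCode) : LL :=
  mono 1 M24.one_mem c hc • (⟨_, mem_LL.2 (odd_mem m)⟩ : LL)

theorem ov_apply (m : GolayPt) (c : GolayPt → ZMod 2) (hc : c ∈ golayCode) (k : GolayPt) :
    ((ov m c hc : LL) : E) k = (1 - 2 * lf (c k)) * (if k = m then -3 else 1) := by
  rw [ov, mono_apply]; rfl

theorem sgn_sq (t : ZMod 2) : (1 - 2 * lf t) ^ 2 = 1 := by
  rcases (by decide : ∀ t : ZMod 2, t = 0 ∨ t = 1) t with rfl | rfl <;> rfl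

theorem ov_norm (m : GolayPt) (c : GolayPt → ZMod 2) (hc : c ∈ golayCode) : sqNorm ((ov m c hc : LL) : E) = 32 := by
  have h : ∀ k, ((ov m c hc : LL) : E) k ^ 2 = 1 + (if k = m then 8 else 0) := by
    intro k
    rw [ov_apply, mul_pow, sgn_sq]
    split_ifs <;> norm_num
  rw [sqNorm, Finset.sum_congr rfl fun k _ => h k, Finset.sum_add_distrib, Finset.sum_const, Finset.card_univ, card_pt,
    Finset.sum_ite_eq' Finset.univ m]
  simp

/-- the main point: sign homomorphisms are trivial -/
theorem sign_std {n : Co0} (hv : n • p44 = p44)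
    (h : ∀ x : LL, sqNorm (x : E) = 32 → dotInt (p44 : E) (x : E) = 0 → n • x = x ∨ n • x = -x) : n = 1 := by
  obtain ⟨ε, hε, hp⟩ : ∃ ε : ℤ, (ε = 1 ∨ ε = -1) ∧ n • p4m = ε • p4m := by
    rcases h p4m p4m_norm (by
      rw [p44_coe, dot_P_left, p4m_coe, P_left nz, P_right nz]; norm_num) with h1 | h1
    · exact ⟨1, Or.inl rfl, by rw [h1, one_zsmul]⟩
    · exact ⟨-1, Or.inr rfl, by rw [h1, neg_one_zsmul]⟩
  -- non-orthogonal vectors have the same sign
  have hs : ∀ x : LL, sqNorm (x : E) = 32 → dotInt (p44 : E) (x : E) = 0 → dotInt (x : E) (p4m : E) ≠ 0 →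
      n • x = ε • x := by
    intro x hx hx1 hx2
    have h1 := act_dot n x p4m
    rw [hp] at h1
    rcases hε with rfl | rfl
    · rw [one_zsmul] at h1 ⊢
      rcases h x hx hx1 with h3 | h3
      · exact h3
      · rw [h3] at h1
        have h4 : dotInt (-(x : E)) (p4m : E) = dotInt (x : E) (p4m : E) := h1
        rw [dot_neg_left] at h4
        omega
    · rw [neg_one_zsmul] at h1 ⊢
      rcases h x hx hx1 with h3 | h3
      · rw [h3] at h1
        have h4 : dotInt (x : E) (-(p4m : E)) = dotInt (x : E) (p4m : E) := h1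
        rw [dot_neg_right] at h4
        omega
      · exact h3
  -- the coordinate vectors
  have he : ∀ m : GolayPt, m ≠ none → m ≠ pz → n • e8 m = ε • e8 m := by
    intro m hm1 hm2
    obtain ⟨m', h1, h2, h3⟩ : ∃ m' : GolayPt, m' ≠ none ∧ m' ≠ pz ∧ m' ≠ m := by
      have : ({none, pz, m} : Finset GolayPt).card < (Finset.univ : Finset GolayPt).card := by
        rw [Finset.card_univ, card_pt]
        have := Finset.card_le_three (a := (none : GolayPt)) (b := pz) (c := m)
        omega
      obtain ⟨c, _, hc⟩ := Finset.exists_mem_notMem_of_card_lt_card this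
      rw [Finset.mem_insert, Finset.mem_insert, Finset.mem_singleton, not_or, not_or] at hc
      exact ⟨c, hc.1, hc.2.1, hc.2.2⟩
    obtain ⟨c, hc, c1, c2, c3, c4⟩ := code4 nz hm1.symm h1.symm hm2.symm h2.symm h3.symm 0 1 0 0
    obtain ⟨d, hd, d1, d2, d3, d4⟩ := code4 nz hm1.symm h1.symm hm2.symm h2.symm h3.symm 0 1 0 1
    have key : ∀ (a : GolayPt) (w : GolayPt → ZMod 2) (hw : w ∈ golayCode), a ≠ none → a ≠ pz → w none = 0 → w pz = 1 →
        n • ov a w hw = ε • ov a w hw := by
      intro a w hw ha1 ha2 w1 w2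
      have e1 : ((ov a w hw : LL) : E) none = 1 := by
        rw [ov_apply, w1, if_neg (Ne.symm ha1)]; rfl
      have e2 : ((ov a w hw : LL) : E) pz = -1 := by
        rw [ov_apply, w2, if_neg (Ne.symm ha2)]; rfl
      apply hs _ (ov_norm _ _ _)
      · rw [p44_coe, dot_P_left, e1, e2]; norm_num
      · rw [p4m_coe, dot_P_right, e1, e2]; norm_num
    have e : e8 m = (ov m' c hc - ov m c hc) + (ov m' d hd - ov m d hd) := by
      apply Subtype.ext
      funext k
      change (Pi.single m 8 : E) k = (((ov m' c hc : LL) : E) k - ((ov m c hc : LL) : E) k) +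
        (((ov m' d hd : LL) : E) k - ((ov m d hd : LL) : E) k)
      rw [ov_apply, ov_apply, ov_apply, ov_apply]
      by_cases hk : k = m
      · subst hk
        rw [Pi.single_eq_same, if_neg (Ne.symm h3), if_pos rfl, c3, d3]; rfl
      · rw [Pi.single_eq_of_ne hk, if_neg hk]
        by_cases hk' : k = m'
        · subst hk'
          rw [if_pos rfl, c4, d4]; rfl
        · rw [if_neg hk']; ring
    rw [e, act_add, act_sub, act_sub, key m' c hc h1 h2 c1 c2, key m c hc hm1 hm2 c1 c2, key m' d hd h1 h2 d1 d2,
      key m d hd hm1 hm2 d1 d2, zsmul_add, zsmul_sub, zsmul_sub]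
  rcases hε with rfl | rfl
  · simp only [one_zsmul] at hp he
    apply ext_e8
    intro i
    rw [one_smul]
    by_cases h1 : i = none
    · have e : e8 i = p44 + p4m := by
        apply Subtype.ext
        funext k
        change (Pi.single i 8 : E) k = P none pz 4 4 k + P none pz 4 (-4) k
        rw [P_apply, P_apply, h1, Pi.single_apply]
        split_ifs <;> norm_num
      rw [e, act_add, hv, hp]
    · by_cases h2 : i = pz
      · have e : e8 i = p44 - p4m := by
          apply Subtype.ext
          funext k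
          change (Pi.single i 8 : E) k = P none pz 4 4 k - P none pz 4 (-4) k
          rw [P_apply, P_apply, h2, Pi.single_apply]
          split_ifs <;> norm_num
        rw [e, act_sub, hv, hp]
      · exact he i h1 h2
  · exfalso
    simp only [neg_one_zsmul] at hp he
    let y : LL := ov none 0 (Submodule.zero_mem _)
    have y1 : (y : E) none = -3 := by
      change ((ov none 0 _ : LL) : E) none = -3
      rw [ov_apply, if_pos rfl]; rfl
    have y2 : (y : E) pz = 1 := by
      change ((ov none 0 _ : LL) : E) pz = 1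
      rw [ov_apply, if_neg (Ne.symm nz)]; rfl
    set z : LL := n • y + y with hz
    have hzc : ∀ x : LL, n • x = -x → dotInt (z : E) (x : E) = 0 := by
      intro x hx
      have h1 := act_dot n y x
      rw [hx] at h1
      have h2 : dotInt ((n • y : LL) : E) (-(x : E)) = dotInt (y : E) (x : E) := h1
      rw [dot_neg_right] at h2
      change dotInt (((n • y : LL) : E) + (y : E)) (x : E) = 0
      rw [dot_add_left]
      omega
    have z1 : ∀ k, k ≠ none → k ≠ pz → (z : E) k = 0 := by
      intro k hk1 hk2
      have := hzc (e8 k) (he k hk1 hk2)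
      rw [dot_e8] at this
      omega
    have z2 := hzc p4m hp
    rw [p4m_coe, dot_P_right] at z2
    have z3 : dotInt (z : E) (p44 : E) = -16 := by
      have h1 := act_dot n y p44
      rw [hv] at h1
      change dotInt (((n • y : LL) : E) + (y : E)) (p44 : E) = -16
      rw [dot_add_left, h1, p44_coe, dot_P_right, y1, y2]; norm_num
    rw [p44_coe, dot_P_right] at z3
    have z4 : (z : E) none = -2 := by omega
    have z5 : (z : E) pz = -2 := by omega
    have z6 : (z : E) = P none pz (-2) (-2) := by
      funext k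
      rw [P_apply]
      by_cases h1 : k = none
      · rw [if_pos h1, h1, z4, if_neg nz]; norm_num
      · by_cases h2 : k = pz
        · rw [if_neg h1, if_pos h2, h2, z5]; norm_num
        · rw [if_neg h1, if_neg h2, z1 k h1 h2]; norm_num
    have h1 := min_norm (mem_LL.1 z.2) (by
      intro h0
      rw [h0] at z4
      exact absurd z4 (by decide))
    rw [z6, norm_P nz] at h1
    norm_num at h1

theorem sign_all {v : LL} (hv32 : sqNorm (v : E) = 32) {n : Co0} (hv : n • v = v)
    (h : ∀ x : LL, sqNorm (x : E) = 32 → dotInt (v : E) (x : E) = 0 → n • x = x ∨ n • x = -x) : n = 1 := by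
  obtain ⟨g, hg⟩ := tr32 v hv32
  have hg' : g • v = p44 := Subtype.ext hg
  have h1 : g * n * g⁻¹ = 1 := by
    apply sign_std
    · rw [← hg', mul_smul, mul_smul, inv_smul_smul, hv]
    · intro x hx hx2
      have e : g⁻¹ • p44 = v := by rw [← hg', inv_smul_smul]
      have h2 := h (g⁻¹ • x) (by rw [act_norm, hx]) (by rw [← e, act_dot, hx2])
      rw [mul_smul, mul_smul]
      rcases h2 with h2 | h2
      · left; rw [h2, smul_inv_smul]
      · right; rw [h2, act_neg, smul_inv_smul]
  rw [mul_inv_eq_one] at h1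
  exact mul_left_cancel (h1.trans (mul_one g).symm)

/-- the vectors of norm 32 orthogonal to `v` -/
def OX (v : LL) : Type := {x : LL // sqNorm (x : E) = 32 ∧ dotInt (v : E) (x : E) = 0}

instance (v : LL) : MulAction (stabilizer Co0 v) (OX v) where
  smul g x := ⟨(g : Co0) • x.1, by rw [act_norm, x.2.1], by
    have := act_dot (g : Co0) v x.1
    rw [mem_stabilizer_iff.1 g.2] at this
    rw [this, x.2.2]⟩
  one_smul x := Subtype.ext (one_smul _ _)
  mul_smul g h x := Subtype.ext (mul_smul _ _ _)

theorem OX_smul {v : LL} (g : stabilizer Co0 v) (x : OX v) : (g • x).1 = (g : Co0) • x.1 := rfl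

theorem OX_card (v : LL) (hv : sqNorm (v : E) = 32) : Nat.card (OX v) = 93150 := cnt_32_0 v hv

theorem OX_finite (v : LL) (hv : sqNorm (v : E) = 32) : Finite (OX v) :=
  Nat.finite_of_card_ne_zero (by rw [OX_card v hv]; norm_num)

theorem OX_trans (v : LL) (hv : sqNorm (v : E) = 32) (x y : OX v) : ∃ g : stabilizer Co0 v, g • x = y := by
  obtain ⟨g, h1, h2⟩ := tr_orth v x.1 hv x.2.1 x.2.2
  obtain ⟨g', h1', h2'⟩ := tr_orth v y.1 hv y.2.1 y.2.2
  have e1 : g • v = g' • v := Subtype.ext (h1.trans h1'.symm)
  have e2 : g • x.1 = g' • y.1 := Subtype.ext (h2.trans h2'.symm)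
  refine ⟨⟨g'⁻¹ * g, ?_⟩, Subtype.ext ?_⟩
  · change (g'⁻¹ * g) • v = v
    rw [mul_smul, inv_smul_eq_iff, e1]
  · change (g'⁻¹ * g) • x.1 = y.1
    rw [mul_smul, inv_smul_eq_iff, e2]

/-- vectors fixed by the stabiliser of two orthogonal vectors -/
theorem fix_two {v x y : LL} (hv : sqNorm (v : E) = 32) (hx : sqNorm (x : E) = 32) (hvx : dotInt (v : E) (x : E) = 0)
    (hy : sqNorm (y : E) = 32) (hvy : dotInt (v : E) (y : E) = 0)
    (h : ∀ s : Co0, s • v = v → s • x = x → s • y = y) : y = x ∨ y = -x := by
  obtain ⟨g, h1, h2⟩ := tr_orth v x hv hx hvx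
  have h1' : g • v = p44 := Subtype.ext h1
  have h2' : g • x = p4m := Subtype.ext h2
  have e1 : g⁻¹ • p44 = v := by rw [← h1', inv_smul_smul]
  have e2 : g⁻¹ • p4m = x := by rw [← h2', inv_smul_smul]
  have hfix : ∀ s : Co0, s • p44 = p44 → s • p4m = p4m → s • (g • y) = g • y := by
    intro s hs1 hs2
    have := h (g⁻¹ * s * g) (by rw [mul_smul, mul_smul, h1', hs1, e1]) (by rw [mul_smul, mul_smul, h2', hs2, e2])
    rw [mul_smul, mul_smul, inv_smul_eq_iff] at this
    exact this
  have hz : ∀ k, k ≠ none → k ≠ pz → ((g • y : LL) : E) k = 0 := by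
    intro k hk1 hk2
    obtain ⟨c, hc, c1, c2, c3⟩ := code3 nz hk1.symm hk2.symm 0 0 1
    have hP : ∀ {s t : ℤ} (hs : s = 4 ∨ s = -4) (ht : t = 4 ∨ t = -4), mono 1 M24.one_mem c hc • PL none pz hs ht = PL none pz hs ht := by
      intro s t hs ht
      apply Subtype.ext
      change monoFun 1 c (P none pz s t) = P none pz s t
      rw [mono_P (σ := 1) c (a := none) (a' := none) (b := pz) (b' := pz) rfl rfl, c1, c2, lf_zero]
      norm_num
    have := hfix (mono 1 M24.one_mem c hc) (hP _ _) (hP _ _)
    have h3 : ((mono 1 M24.one_mem c hc • (g • y) : LL) : E) k = ((g • y : LL) : E) k := by rw [this]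
    rw [mono_apply, c3] at h3
    change (1 - 2 * 1) * ((g • y : LL) : E) k = _ at h3
    omega
  have hdot : dotInt (p44 : E) ((g • y : LL) : E) = 0 := by rw [← h1', act_dot, hvy]
  rw [p44_coe, dot_P_left] at hdot
  have hn : sqNorm ((g • y : LL) : E) = 32 := by rw [act_norm, hy]
  have hyP : ((g • y : LL) : E) = P none pz (((g • y : LL) : E) none) (((g • y : LL) : E) pz) := by
    funext k
    rw [P_apply]
    by_cases h1 : k = none
    · rw [if_pos h1, h1, if_neg nz]; norm_num
    · by_cases h2 : k = pz
      · rw [if_neg h1, if_pos h2, h2]; norm_num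
      · rw [if_neg h1, if_neg h2, hz k h1 h2]; norm_num
  rw [hyP, norm_P nz] at hn
  set a := ((g • y : LL) : E) none
  set b := ((g • y : LL) : E) pz
  have hb : b = -a := by omega
  have ha : a = 4 ∨ a = -4 := by
    rw [hb] at hn
    have h5 : (a - 4) * (a + 4) = 0 := by nlinarith
    rcases mul_eq_zero.1 h5 with h6 | h6
    · left; omega
    · right; omega
  rcases ha with ha | ha
  · left
    have : g • y = p4m := Subtype.ext (by rw [hyP, hb, ha]; rfl)
    rw [← h2'] at this
    exact MulAction.injective g this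
  · right
    have : g • y = -p4m := Subtype.ext (by
      rw [hyP, hb, ha]
      change P none pz (-4) (- -4) = -P none pz 4 (-4)
      funext k
      rw [Pi.neg_apply, P_apply, P_apply]
      split_ifs <;> norm_num)
    rw [← h2', ← act_neg] at this
    exact MulAction.injective g this

theorem no_two (v : LL) (hv : sqNorm (v : E) = 32) (N : Subgroup (stabilizer Co0 v)) [hN : N.Normal] {m : ℕ}
    (hc : Nat.card N = 2 ^ m) : N = ⊥ := by
  haveI := OX_finite v hv
  rw [Subgroup.eq_bot_iff_forall]
  intro n hn
  have key : (n : Co0) = 1 := by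
    apply sign_all hv n.2
    intro x hx hvx
    let X : OX v := ⟨x, hx, hvx⟩
    have h1 : (orbit N X).ncard ∣ 93150 := by
      rw [← OX_card v hv]
      exact CfsgLib.QPS.ncard_orbit_dvd (OX_trans v hv) X
    have h2 : (orbit N X).ncard ∣ 2 ^ m := by
      rw [← hc, ← index_stabilizer]
      exact Subgroup.index_dvd_card _
    have h3 : (orbit N X).ncard ≤ 2 := by
      obtain ⟨j, _, hj⟩ := (Nat.dvd_prime_pow Nat.prime_two).1 h2
      rw [hj] at h1 ⊢
      by_contra hlt
      have : 2 ≤ j := by
        by_contra hj2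
        have : j = 0 ∨ j = 1 := by omega
        rcases this with rfl | rfl <;> norm_num at hlt
      exact absurd ((pow_dvd_pow 2 this).trans h1) (by norm_num)
    by_cases hnx : (n : Co0) • x = x
    · exact Or.inl hnx
    · apply fix_two hv hx hvx
      · rw [act_norm, hx]
      · have := act_dot (n : Co0) v x
        rw [mem_stabilizer_iff.1 n.2] at this
        rw [this, hvx]
      · intro s hs1 hs2
        let S : stabilizer Co0 v := ⟨s, hs1⟩
        have hS : S • X = X := Subtype.ext hs2
        have hmem : (n • X) ∈ orbit N X := ⟨⟨n, hn⟩, rfl⟩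
        have hmem2 : S • (n • X) ∈ orbit N X := CfsgLib.QPS.orbit_stable hS hmem
        have hmem0 : X ∈ orbit N X := mem_orbit_self X
        by_contra hne
        have hsub : ({X, n • X, S • (n • X)} : Set (OX v)) ⊆ orbit N X := by
          rintro z (rfl | rfl | rfl)
          · exact hmem0
          · exact hmem
          · exact hmem2
        have hcard := Set.ncard_le_ncard hsub (Set.toFinite _)
        have e1 : X ≠ n • X := fun h => hnx (congrArg Subtype.val h).symm
        have e2 : X ≠ S • (n • X) := by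
          intro h
          have h5 : S • X = S • (n • X) := hS.trans h
          exact e1 (MulAction.injective S h5)
        have e3 : n • X ≠ S • (n • X) := fun h => hne (congrArg Subtype.val h).symm
        have h3' : ({X, n • X, S • (n • X)} : Set (OX v)).ncard = 3 :=
          Set.ncard_eq_three.2 ⟨_, _, _, e1, e2, e3, rfl⟩
        omega
  exact Subtype.ext key

/-! ### the second group -/

/-- `(-3, 1, ..., 1)` -/
def w3 : LL := ⟨W3, mem_LL.2 W3_mem⟩

theorem w3_norm : sqNorm (w3 : E) = 32 := by
  rw [show (w3 : E) = W3 from rfl, sqNorm, sum_23 _ 1 (fun k => by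
    change (W3 (some k)) ^ 2 = 1
    rw [W3, if_neg (by simp)]; norm_num)]
  rw [W3, if_pos rfl]; norm_num

theorem dot_W3 (x : E) (b : ℤ) (h : ∀ k : ZMod 23, x (some k) = b) : dotInt W3 x = -3 * x none + 23 * b := by
  rw [dotInt, sum_23 _ b (fun k => by
    change W3 (some k) * x (some k) = b
    rw [h, W3, if_neg (by simp), one_mul])]
  rw [W3, if_pos rfl]

theorem simple_Co2 : IsSimpleGroup (stabilizer Co0 w3) := by
  have hAD := stab_eq (u := w3) (a := -3) (by norm_num) (fun k => rfl)
  have hc := card_Co2 w3 w3_norm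
  obtain ⟨P, h1, h2, h3, h4, h5⟩ := crit_pack (stabilizer Co0 w3) (stabilizer M24 (none : GolayPt)) hAD
    (Cfsg.Agent.S0377.result none) 23 s23 order_s23 s23_none (by rw [hc]; norm_num) (by
      intro n hn hfix
      obtain ⟨b, hb⟩ := fixed23 hfix
      have e1 : dotInt W3 ((n • e8 none : LL) : E) = -24 := by
        have := act_dot n w3 (e8 none)
        rw [mem_stabilizer_iff.1 hn, dot_e8] at this
        exact this.trans (by change 8 * W3 none = -24; rw [W3, if_pos rfl]; norm_num)
      have e2 := act_norm n (e8 none)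
      rw [e8_norm, sqNorm, sum_23 _ (b ^ 2) (fun k => by rw [hb])] at e2
      rw [dot_W3 _ b hb] at e1
      have hb0 : b = 0 := by
        have : b < 2 := by nlinarith
        have : -2 < b := by nlinarith
        interval_cases b <;> omega
      subst hb0
      exact eq_e8 hb (by omega))
  have hidx := HH_index _ _ hAD
  rw [hc, Cfsg.Agent.S0376.result none] at hidx
  have hidx' : (HH (stabilizer Co0 w3)).index = 4147200 :=
    Nat.eq_of_mul_eq_mul_right (by norm_num : 0 < 10200960) (hidx.trans (by norm_num))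
  haveI := h1.toNontrivial
  haveI : Nontrivial (stabilizer Co0 w3) := Function.Injective.nontrivial (Subtype.val_injective (p := fun g => g ∈ HH (stabilizer Co0 w3)))
  refine ⟨fun N hN => ?_⟩
  rcases CfsgLib.SimpCrit.crit_aux (HH (stabilizer Co0 w3)) 23 P h1 h2 h3 h4 h5 N with h | ⟨hd, h⟩
  · exact Or.inr h
  · left
    rw [hidx'] at hd
    have hq2 : ∀ q, q.Prime → q ∣ Nat.card N → q = 2 := by
      intro q hq hqN
      obtain ⟨k, hk, hdk, hmod⟩ := h q hq hqN
      have hd' := hdk.trans hd
      have hq' : q ∣ 2 ^ 11 * (3 ^ 4 * 5 ^ 2) := hqN.trans (hd.trans (by norm_num))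
      rcases (hq.dvd_mul).1 hq' with h | h
      · exact p_of_dvd hq Nat.prime_two h
      rcases (hq.dvd_mul).1 h with h | h
      · obtain rfl := p_of_dvd hq Nat.prime_three h
        have := bound 4 hd' (by norm_num)
        exfalso
        interval_cases k <;> revert hmod <;> decide
      · obtain rfl := p_of_dvd hq Nat.prime_five h
        have := bound 2 hd' (by norm_num)
        exfalso
        interval_cases k <;> revert hmod <;> decide
    have hpow := Nat.eq_prime_pow_of_unique_prime_dvd (Nat.card_pos (α := N)).ne' (fun {q} hq hqN => hq2 q hq hqN)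
    exact no_two w3 w3_norm N hpow

theorem isCo2 (v : LL) (hv : sqNorm (v : E) = 32) : IsCo2 (stabilizer Co0 v) := by
  obtain ⟨g, hg⟩ := tr32 v hv
  obtain ⟨g', hg'⟩ := tr32 w3 w3_norm
  have e : (g'⁻¹ * g) • v = w3 := by
    rw [mul_smul, inv_smul_eq_iff]; exact Subtype.ext (hg.trans hg'.symm)
  have h := simple_conj _ e e (n := 42305421312000) (by rw [inf_idem]; exact simple_Co2) (by rw [inf_idem]; exact card_Co2 w3 w3_norm)
  rw [inf_idem] at h
  exact h

/-! ### the first group -/

theorem pm_w3 {σ : M24} (h : (σ : Equiv.Perm GolayPt) none = none) : pm σ • w3 = w3 :=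
  ((fix_iff (u := w3) (a := -3) (by norm_num) (fun k => rfl) (pm σ)).2 ⟨σ, h, rfl⟩).2

theorem w3_ne : w3 ≠ -w3 := by
  intro h
  have h1 := congrFun (congrArg Subtype.val h) none
  change W3 none = -W3 none at h1
  rw [W3, if_pos rfl] at h1
  norm_num at h1

/-- the natural map from the stabiliser -/
def qf : stabilizer Co0 w3 →* Co0 ⧸ Subgroup.center Co0 :=
  (QuotientGroup.mk' (Subgroup.center Co0)).comp (stabilizer Co0 w3).subtype

theorem qf_inj : Function.Injective qf := by
  rw [injective_iff_map_eq_one]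
  intro g hg
  have h1 : (g : Co0) ∈ Subgroup.center Co0 := (QuotientGroup.eq_one_iff (g : Co0)).1 hg
  rcases center_cases h1 with h | h
  · exact Subtype.ext h
  · exfalso
    have h2 : (g : Co0) • w3 = w3 := g.2
    rw [h, negCo_apply] at h2
    exact w3_ne h2.symm

theorem card_Co1 : Nat.card (Co0 ⧸ Subgroup.center Co0) = 4157776806543360000 := by
  have h := (Subgroup.center Co0).card_mul_index
  rw [card_center, card_Co0] at h
  have h2 : (Subgroup.center Co0).index = Nat.card (Co0 ⧸ Subgroup.center Co0) := rfl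
  rw [h2] at h
  omega

theorem mk_eq {g h : Co0} (H : (QuotientGroup.mk' (Subgroup.center Co0)) g = (QuotientGroup.mk' (Subgroup.center Co0)) h) :
    ∀ x : LL, g • x = h • x ∨ g • x = -(h • x) := by
  intro x
  have h1 : g⁻¹ * h ∈ Subgroup.center Co0 := QuotientGroup.eq.1 H
  rcases center_cases h1 with h2 | h2
  · left
    rw [inv_mul_eq_one] at h2
    rw [h2]
  · right
    have h3 : h = g * negCo := by rw [← h2]; group
    rw [h3, mul_smul, negCo_apply, act_neg, neg_neg]

theorem simple_Co1 : IsSimpleGroup (Co0 ⧸ Subgroup.center Co0) := by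
  have hcH : Nat.card qf.range = 42305421312000 := by
    rw [← Nat.card_congr (MonoidHom.ofInjective qf_inj).toEquiv, card_Co2 w3 w3_norm]
  have hidx := qf.range.index_mul_card
  rw [hcH, card_Co1] at hidx
  have hidx' : qf.range.index = 98280 := Nat.eq_of_mul_eq_mul_right (by norm_num : 0 < 42305421312000) (hidx.trans (by norm_num))
  let s : stabilizer Co0 w3 := ⟨pm s23, pm_w3 s23_none⟩
  have hs : orderOf (qf s) = 23 := by
    rw [orderOf_injective qf qf_inj, ← order_s23, ← order_pm]
    exact (Subgroup.orderOf_coe s).symm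
  refine CfsgLib.SimpCrit.simple_crit qf.range 23 (Subgroup.zpowers (qf s)) (simple_of_equiv (MonoidHom.ofInjective qf_inj) simple_Co2)
    (by rw [Nat.card_zpowers, hs]) (by rw [Subgroup.zpowers_le]; exact ⟨s, rfl⟩) (by rw [card_Co1]; norm_num) ?_ ?_
  · intro n hn
    rw [Subgroup.mem_normalizer_iff] at hn
    obtain ⟨g, rfl⟩ := QuotientGroup.mk'_surjective (Subgroup.center Co0) n
    have h1 : ((QuotientGroup.mk' (Subgroup.center Co0)) g)⁻¹ * qf s * (QuotientGroup.mk' (Subgroup.center Co0)) g ∈
        Subgroup.zpowers (qf s) := by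
      rw [hn]
      have : (QuotientGroup.mk' (Subgroup.center Co0)) g * (((QuotientGroup.mk' (Subgroup.center Co0)) g)⁻¹ * qf s *
        (QuotientGroup.mk' (Subgroup.center Co0)) g) * ((QuotientGroup.mk' (Subgroup.center Co0)) g)⁻¹ = qf s := by group
      rw [this]
      exact Subgroup.mem_zpowers _
    obtain ⟨k, hk⟩ := h1
    have h2 : (QuotientGroup.mk' (Subgroup.center Co0)) ((s ^ k : stabilizer Co0 w3) : Co0) =
        (QuotientGroup.mk' (Subgroup.center Co0)) (g⁻¹ * pm s23 * g) := by
      change qf (s ^ k) = _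
      rw [map_zpow]
      refine Eq.trans hk ?_
      rw [map_mul, map_mul, map_inv]; rfl
    have h3 := mk_eq h2 w3
    rw [show ((s ^ k : stabilizer Co0 w3) : Co0) • w3 = w3 from (s ^ k).2] at h3
    have h4 : pm s23 • (g • w3) = g • w3 ∨ pm s23 • (g • w3) = -(g • w3) := by
      rcases h3 with h3 | h3
      · left
        rw [mul_smul, mul_smul, eq_inv_smul_iff] at h3
        exact h3.symm
      · right
        rw [eq_neg_iff_add_eq_zero, add_comm, ← eq_neg_iff_add_eq_zero, mul_smul, mul_smul, inv_smul_eq_iff, act_neg] at h3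
        exact h3
    have h5 : pm s23 • (g • w3) = g • w3 := by
      rcases h4 with h4 | h4
      · exact h4
      · exfalso
        have h6 : ∀ m : ℕ, (pm s23) ^ m • (g • w3) = if Even m then g • w3 else -(g • w3) := by
          intro m
          induction m with
          | zero => simp
          | succ m ih =>
            rw [pow_succ', mul_smul, ih]
            by_cases hm : Even m
            · rw [if_pos hm, if_neg (by rw [Nat.even_add_one, not_not]; exact hm), h4]
            · rw [if_neg hm, if_pos (by rw [Nat.even_add_one]; exact hm), act_neg, h4, neg_neg]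
        have h7 := h6 23
        rw [if_neg (by decide), ← order_s23, ← order_pm, pow_orderOf_eq_one, one_smul, ← act_neg] at h7
        exact w3_ne (MulAction.injective g h7)
    obtain ⟨b, hb⟩ := fixed23 h5
    have e1 := dvd8 w3 (g • w3)
    have e2 := act_norm g w3
    rw [w3_norm, sqNorm, sum_23 _ (b ^ 2) (fun k => by rw [hb])] at e2
    rw [show (w3 : E) = W3 from rfl, dot_W3 _ b hb] at e1
    have h6 : (((g • w3 : LL) : E) none = -3 ∧ b = 1) ∨ (((g • w3 : LL) : E) none = 3 ∧ b = -1) := by
      have hb1 : b < 2 := by nlinarith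
      have hb2 : -2 < b := by nlinarith
      set a := ((g • w3 : LL) : E) none
      have ha1 : a < 6 := by nlinarith
      have ha2 : -6 < a := by nlinarith
      interval_cases b <;> interval_cases a <;> omega
    have h7 : g • w3 = w3 ∨ g • w3 = -w3 := by
      rcases h6 with ⟨h6, h7⟩ | ⟨h6, h7⟩
      · left
        apply Subtype.ext
        funext k
        rcases k with _ | k
        · rw [h6]; rfl
        · rw [hb k, h7]; rfl
      · right
        apply Subtype.ext
        funext k
        rcases k with _ | k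
        · rw [h6]; rfl
        · rw [hb k, h7]; rfl
    rcases h7 with h7 | h7
    · exact ⟨⟨g, h7⟩, rfl⟩
    · refine ⟨⟨negCo * g, ?_⟩, ?_⟩
      · change (negCo * g) • w3 = w3
        rw [mul_smul, h7, negCo_apply, neg_neg]
      · change (QuotientGroup.mk' (Subgroup.center Co0)) (negCo * g) = _
        rw [map_mul]
        have : (QuotientGroup.mk' (Subgroup.center Co0)) negCo = 1 := (QuotientGroup.eq_one_iff negCo).2 negCo_mem
        rw [this, one_mul]
  · intro q k hq hk hd hmod
    rw [hidx'] at hd
    have hq' : q ∣ 2 ^ 3 * (3 ^ 3 * (5 ^ 1 * (7 ^ 1 * 13 ^ 1))) := (dvd_pow_self q (by omega)).trans (hd.trans (by norm_num))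
    rcases (hq.dvd_mul).1 hq' with h | h
    · obtain rfl := p_of_dvd hq Nat.prime_two h
      have := bound 3 hd (by norm_num)
      interval_cases k <;> revert hmod <;> decide
    rcases (hq.dvd_mul).1 h with h | h
    · obtain rfl := p_of_dvd hq Nat.prime_three h
      have := bound 3 hd (by norm_num)
      interval_cases k <;> revert hmod <;> decide
    rcases (hq.dvd_mul).1 h with h | h
    · obtain rfl := p_of_dvd hq Nat.prime_five h
      have := bound 1 hd (by norm_num)
      interval_cases k; revert hmod; decide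
    rcases (hq.dvd_mul).1 h with h | h
    · obtain rfl := p_of_dvd hq (by norm_num : Nat.Prime 7) h
      have := bound 1 hd (by norm_num)
      interval_cases k; revert hmod; decide
    · obtain rfl := p_of_dvd hq (by norm_num : Nat.Prime 13) h
      have := bound 1 hd (by norm_num)
      interval_cases k; revert hmod; decide

end CfsgLib.Co
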