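import Cfsg.Agent.EqBase
import Cfsg.Agent.LibCoHSAuA
set_option autoImplicit false
set_option linter.all false
set_option maxRecDepth 1000000
set_option maxHeartbeats 0
namespace CfsgLib.CoHSAu
open Cfsg CfsgLib.Golay CfsgLib.M24 CfsgLib.Leech CfsgLib.Co MulAction CfsgLib.CoM
open CfsgLib.TC hiding eq_of_base
open CfsgLib.OrbM28 (gt gt_le)
def wx : List Col := [.b, .c, .a, .c, .a]
def wy : List Col := [.c, .a, .b, .a, .c, .b, .c, .b, .a, .b, .c, .b, .c, .a, .c, .b, .a, .b, .c, .b, .a, .b, .a, .b, .c, .b, .c, .a, .c, .a]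
def ws : List Col := [.b, .c, .b, .c, .a, .b, .a, .b, .c, .b, .a, .c, .a, .c, .a, .b, .c, .b, .a, .c, .a, .b, .c, .b, .c, .a, .b]
noncomputable def TXt : ℕ := (nat_lit 0x4e004d001200470005005c00400033005700230060002500130032002f003c000c00070062003f0058000600260035002c005e005f0045000b005d004a0027002a000800090034000e0059001c00420056002d0041006300370018005a0024001e002b0021001b0043001500540003002800500002001a004f001900290053003a00510004002e005b000100360016003e0061001f0055005200100048001d0000004b0030004600390014004c003d001700490038000d001100310044000f003b000a00200022)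
noncomputable def TX (q : ℕ) : ℕ := Nat.land (Nat.shiftRight TXt (Nat.mul (nat_lit 16) q)) (nat_lit 65535)
noncomputable def TYt : ℕ := (nat_lit 0x3d002b003100470029004d004800570061003c00300049003b0063002a002d002e0059002c002f0058005d004b004200060013004400000011001e002600250043003a00340033000e000b0020000d000f00540016004000370050005a00150062000400460017001d0022004c003900380014000a0021005f0032004f005c003500280053001f0056005b0018004a001b000900120036000700010019003f001a0041003e0045002400550023005e00600002001c00080052000c00050010004e002700510003)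
noncomputable def TY (q : ℕ) : ℕ := Nat.land (Nat.shiftRight TYt (Nat.mul (nat_lit 16) q)) (nat_lit 65535)
noncomputable def TSt : ℕ := (nat_lit 0x4400330052004c005300230019005c0017005e001e0063003b0058002c004700270031003f001d001f0034005a0060000d000300200041003a000700130056001b00110010006200390042004f004b0024000b0014004000050050000600260038004a0030006100360029003e0055002b00160022005f00280009003d000f004d0002000a004900250059002f004800430000004500180046000e00040051005d0032002d001c00570001000c003c00540021004e0008005b00350037001a0012002e002a0015)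
noncomputable def TS (q : ℕ) : ℕ := Nat.land (Nat.shiftRight TSt (Nat.mul (nat_lit 16) q)) (nat_lit 65535)
theorem tX : Tr.all (fun q => Nat.beq (walkC stp wx q) (TX q)) L = true := by decide +kernel
theorem tY : Tr.all (fun q => Nat.beq (walkC stp wy q) (TY q)) L = true := by decide +kernel
theorem tS : Tr.all (fun q => Nat.beq (walkC stp ws q) (TS q)) L = true := by decide +kernel
theorem hg : ∀ c, Acts φ (P c) (stp c) := fun c q => by rw [φ_P]; rfl
noncomputable def x : GG := gw P wx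
noncomputable def y : GG := gw P wy
noncomputable def s : GG := gw P ws
theorem hx : Acts φ x TX := Acts.of_tabC (Acts.gwC hg wx) tX
theorem hy : Acts φ y TY := Acts.of_tabC (Acts.gwC hg wy) tY
theorem hs : Acts φ s TS := Acts.of_tabC (Acts.gwC hg ws) tS
def z1 : List Col := [.b, .c, .a, .b, .a, .b, .a, .c, .b, .a, .b, .a, .b, .c, .a, .c, .b, .c, .a, .b, .a, .b, .c, .b, .a, .c]
noncomputable def TUt : ℕ := (nat_lit 0x56002d0049000c0014006000150030004f000d005700460007002000020040002f0024005100210061004100110038000b005d005b0012004d0058001c0031004300330010004c0027005e003d00350059002b00010054001b0022005a0026003a00090025000f002e0018006200390042005f000e001d00550013001e0052002300500036001f00630044002800030037004e00450053005c002c0004000a000000320006001a00170029003c003e004b002a00480005003b00470008004a0019003f00160034)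
noncomputable def TU (q : ℕ) : ℕ := Nat.land (Nat.shiftRight TUt (Nat.mul (nat_lit 16) q)) (nat_lit 65535)
theorem tU : Tr.all (fun q => Nat.beq (TS (walkC stp z1 q)) (TU q)) L = true := by decide +kernel
theorem hu : Acts φ (s * gw P z1) TU := Acts.of_tabC (hs.mul (Acts.gwC hg z1)) tU
def Wx : List Col := [.b, .c, .b, .a, .c, .b, .c, .a, .b, .a, .b, .a, .c, .b, .c, .a, .b, .c, .a, .c, .b, .a, .c, .b, .c, .b, .c, .a, .b, .c, .a, .c, .a, .b, .c, .b, .c, .a, .b, .a, .b, .a, .c, .b, .a, .b, .c, .b, .c, .a, .b, .c, .b, .c, .a, .b, .a, .b, .a, .c, .b, .a, .b, .c, .a, .b, .c, .a, .b, .a, .c, .a, .b, .a, .b, .c, .a, .b, .a, .c, .a, .b, .a, .b, .a, .b, .a, .c, .a, .b, .a, .b, .a, .b, .a, .c, .a, .b, .a, .c, .b, .c, .b]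
def Wy : List Col := []
theorem dx : CData φ P closed lvs x TX 17 Wx [36, 75] [0, 1, 2, 3, 9, 4, 5] := CData.mk' hx (by decide +kernel) (by decide +kernel) (by decide +kernel) (by decide +kernel)
theorem dy : CData φ P closed lvs y TY 20 Wy [] [0, 1, 2, 3, 4] := CData.mk' hy (by decide +kernel) (by decide +kernel) (by decide +kernel) (by decide +kernel)
def QX : List ℕ := [7, 11, 17, 23, 27, 48, 62, 71, 82, 89, 96]
def QY : List ℕ := [20, 1, 29, 24, 39, 14, 81, 95, 42, 57, 41, 44, 33, 85, 80, 22, 63, 40, 46, 10, 34, 47, 54, 83, 2]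
theorem cX : Tr.all (cenB stp 80 [36, 75] lvs TX [0, 1, 2, 3, 9, 4, 5] QX) L = true := by decide +kernel
theorem cY : Tr.all (cenB stp 80 [] lvs TY [0, 1, 2, 3, 4] QY) L = true := by decide +kernel
noncomputable def Z : List (List Col) := [[],
  [.a, .b, .a, .c, .b, .a, .c, .a, .c, .b, .a, .b, .c, .a, .b, .c, .a, .b, .a, .b, .c, .a, .c, .a, .c, .b, .c, .b, .a, .c],
  [.c, .b, .a, .c, .a, .c, .b, .a, .b, .c, .b, .c, .b, .c, .b, .a, .b, .c, .b, .c, .a, .b, .c, .b, .c, .a, .c, .b, .a, .b, .a],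
  [.c, .b, .c, .a, .c, .b, .c, .b, .a, .b, .c, .b, .c, .a, .c, .b, .c, .a, .b, .a, .c, .a, .b, .a, .c],
  [.b, .c, .b, .c, .b, .c, .b, .c, .b, .a, .b, .c, .b, .c, .b, .c, .a, .b, .c, .b, .a, .b, .a, .c, .a, .c],
  [.a, .b, .c, .b, .c, .b, .c, .a, .c, .a, .b, .a, .c, .b, .a, .b, .a, .c, .b, .a, .c, .b, .c, .a, .c, .a, .b, .a],
  [.a, .c, .a, .c, .b, .c, .b, .c, .a, .b, .a, .c, .a, .c, .a, .b, .a, .c, .b, .c, .a, .b, .a, .c, .a, .b, .c, .b],
  [.c, .a, .c, .b, .c, .b, .a, .b, .a, .b, .c, .b, .a, .b, .c, .b, .c, .a, .c, .b, .a, .c, .a, .b, .c, .b],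
  [.b, .a, .c, .a, .b, .c, .b, .c, .b, .c, .a, .c, .a, .b, .a, .c, .b, .c, .b, .c, .a, .c, .b, .c, .a, .b, .a, .b, .c, .a, .c],
  [.a, .c, .b, .c, .b, .a, .b, .a, .c, .b, .c, .b, .a, .c, .b, .a, .c, .a, .b, .c, .a, .c, .a, .b, .a, .c, .a, .b, .a, .b, .c, .b],
  [.c, .a, .b, .a, .c, .a, .b, .a, .b, .a, .c, .a, .b, .c, .a, .c, .b, .a, .c, .a, .b, .c, .a, .c],
  [.b, .a, .c, .b, .c, .a, .b, .a, .b, .a, .b, .c, .a, .b, .a, .c, .b, .c, .b, .a, .b, .c, .b, .c, .a],
  [.b, .c, .a, .b, .a, .b, .a, .c, .b, .a, .b, .a, .b, .c, .a, .c, .b, .c, .a, .b, .a, .b, .c, .b, .a, .c],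
  [.c, .a, .b, .a, .c, .a, .b, .a, .c, .b, .c, .b, .a, .b, .c, .a, .b, .a, .b, .a, .b, .a, .c, .a, .c, .b, .a, .b, .a, .c, .a, .b, .a],
  [.b, .a, .b, .a, .c, .a, .b, .c, .b, .a, .b, .c, .a, .b, .c, .b, .c, .a, .b, .a, .b, .a, .b, .a, .b, .a, .c, .a, .c, .b, .c, .b, .c],
  [.c, .b, .a, .c, .a, .b, .a, .b, .a, .b, .c, .b, .c, .b, .a, .b, .c, .b, .c, .b, .a, .c, .b, .c, .b, .c, .a, .c],
  [.c, .a, .b, .a, .c, .b, .c, .b, .a, .b, .c, .b, .c, .a, .c, .b, .a, .b, .c, .b, .a, .b, .a, .b, .c, .b, .c, .a, .c, .a],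
  [.a, .b, .a, .b, .c, .b, .c, .a, .c, .a, .b, .c, .a, .b, .c, .b, .c, .b, .a, .b, .c, .b, .a, .c, .b],
  [.a, .b, .c, .a, .c, .a, .b, .a, .b, .c, .b, .a, .b, .a, .b, .c, .b, .a, .c, .b, .a, .b, .c, .a, .c, .b, .a, .c, .b, .c, .b, .c, .b],
  [.a, .c, .b, .a, .b, .c, .b, .c, .a, .b, .c, .a, .b, .a, .c, .b, .c, .b, .a, .b, .a, .c, .a, .c, .a, .c, .b, .a, .b, .c, .b, .c, .a, .c],
  [.a, .c, .b, .a, .b, .c, .a, .c, .b, .c, .a, .c, .b, .c, .b, .c, .a, .c, .b, .a, .b, .a, .b, .c, .a],
  [.b, .a, .b, .a, .c, .b, .a, .b, .a, .c, .b, .c, .b, .a, .c, .b, .a, .c, .b, .c, .b, .c, .b, .c, .a, .c, .a, .b, .a, .b, .c],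
  [.a, .c, .a, .b, .c, .a, .b, .a, .b, .a, .c, .b, .c, .b, .a, .c, .b, .a, .c, .b, .c, .a, .c, .b, .a, .b, .a, .c, .a, .b, .a, .c],
  [.b, .a, .b, .a, .c, .b, .a, .b, .c, .b, .c, .b, .a, .b, .c, .a, .c, .a, .c, .a, .b, .c, .b, .c, .a, .b, .c, .b, .c, .b],
  [.c, .b, .c, .b, .a, .c, .a, .b, .c, .b, .c, .a, .b, .a, .b, .a, .c, .b, .a, .b, .a, .c, .a, .b, .a]]
theorem zB : lall (fun w => agB (fun q => walk stp w (TY q)) (fun q => TY (walk stp w q)) (lvs.map Lv.b)) Z = true := by decide +kernel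
theorem zQ : lall (fun a => lany2 (fun w => Nat.beq a (walk stp w 20)) Z) QY = true := by decide +kernel
theorem cy (c : GG) (h : c * y = y * c) : ∃ w ∈ Z, c = gw P w := dy.lst φ_P good cY Z zB zQ c h
theorem xQ : lall (fun a => lany2 (fun i => Nat.beq a (itN TX i 17)) (List.range 11)) QX = true := by decide +kernel
theorem cx (c : GG) (h : c * x = x * c) : ∃ i : ℕ, c = x ^ i := dx.cyc φ_P good cX x TX hx rfl 11 xQ c h
theorem xp : x ^ 11 = 1 := eq_of_agB good (hx.pow 11) (Acts.one φ) (by decide +kernel)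
theorem x1 : x ≠ 1 := ne_of_moved hx (Acts.one φ) (b := 17) (mem_sound (by decide +kernel)) (by decide +kernel)
theorem ox : orderOf x = 11 := by
  have : Fact (Nat.Prime 11) := ⟨by norm_num⟩
  exact orderOf_eq_prime xp x1
theorem yx : y * x = x ^ 5 * y := eq_of_agB good (hy.mul hx) ((hx.pow 5).mul hy) (by decide +kernel)
theorem sy : s * y = y ^ 2 * s := eq_of_agB good (hs.mul hy) ((hy.pow 2).mul hs) (by decide +kernel)
def R : List (List ℕ) := [[0, 2, 0, 2, 1, 0, 2, 0, 2, 1, 0, 2, 0, 2, 1, 0, 2, 0, 2, 1, 0, 2, 0, 2, 1, 0, 2, 0, 2, 1, 0, 2, 0, 2, 1], [0, 2, 2, 0, 2, 2, 0, 2, 2, 0, 2, 2, 0, 2, 2]]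
theorem rB : relB TX TY TS R (lvs.map Lv.b) = true := by decide +kernel
theorem srv : srvB stp TX TY TS [1, 2] Z R [(1, 20), (2, 33)] 20 21 = true := by decide +kernel
noncomputable def E' : Col → List ℕ := fun c => Col.rec (motive := fun _ => List ℕ) [2, 0, 2, 2, 2, 1, 0, 2, 2, 0, 1, 2, 1, 1, 0, 1, 0, 2, 0, 2] [0, 0, 0, 2, 0, 2, 1, 2, 0, 2, 0, 2, 1, 1, 0, 2, 1, 1, 2, 0, 2] [0, 1, 0, 2, 0, 2, 2, 0, 2, 2, 0, 2, 0] c
theorem eB : lall (fun c => agB (stp c) (walkC (st3 TX TY TS) (E' c)) (lvs.map Lv.b)) cols = true := by decide +kernel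
theorem norm (α : MulAut GG) : ∃ h : GG, ∃ k ∈ [1, 2], ∃ z : GG, z * y = y * z ∧ h * α x * h⁻¹ = x ^ k ∧ h * α y * h⁻¹ = y ∧ h * α s * h⁻¹ = s * z := by
  have : Fact (Nat.Prime 11) := ⟨by norm_num⟩
  refine aut_norm2 (p := 11) (M := 11) (q := 1) ox (by norm_num) rfl (by rw [order]; norm_num) (fun c h => cx c (by simpa using h)) yx ?_ sy [1, 2] ?_ α
  · have h : ∀ i < 11, ∃ a < 11, (a + 5 * i) % 11 = (5 * a) % 11 := by decide +kernel
    exact fun i hi => Or.inl (h i hi)
  · decide +kernel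
theorem aut : AutD φ P stp lvs x y s TX TY TS [1, 2] Z 20 [(1, 20), (2, 33)] E' where
  hG := good
  hg := hg
  hgen := P_top
  hx := hx
  hy := hy
  hs := hs
  norm := norm
  cy := cy
  zy := fun w hw w' hw' h => dy.z_eq φ_P good zB hw hw' h
  srv := fun δ k hk w hw h1 h2 h3 => srv_sound good hg hx hy hs (mem_sound (by decide +kernel)) rB srv δ hk hw h1 h2 h3
  hE := hE_of good hg hx hy hs hcols eB
noncomputable def F (c : Col) : GG := gw (ge3 (x ^ 2) y (s * gw P z1)) (E' c)
noncomputable def stF : Col → ℕ → ℕ := fun c q => nf q (walkC (st3 (itN TX 2) TY TU) (E' c))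
theorem hF (c : Col) : Acts φ (F c) (stF c) := ActsF (hx.pow 2) hy hu E' c
noncomputable def PIt : ℕ := (nat_lit 0x3b0001005b0029001100530004003d001e00180058000700200057002d00140006004f0033005a00170032002e000e0022003400520010000a0031005d005900080055001a0039003a0027000f0036001f002a002b002c00370035001d00090016000000610049003c000c003f00620051004c003e004d0047004800300063002f005e004b0024005c0046000d004100050019004a002300440038001c0042001500130002004e0056005400500021005f000b0012004300250028001b00030026006000400045)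
noncomputable def PI (q : ℕ) : ℕ := Nat.land (Nat.shiftRight PIt (Nat.mul (nat_lit 16) q)) (nat_lit 65535)
noncomputable def PJt : ℕ := (nat_lit 0x24002c00310002000b00220045001f00610050004400590056000f0042000e005e0049002b000d005200100028002a00210019003000260027001e0000001700080014001c0001002d0029005c002f0063003f004000160037003c0036004a0051004e004600250023004d005500380039003a00600006003e0003000700200018004b000c0057003b005b0035001500050041001a005a004f00330013005400120009005f0048003d004c001d002e000a00470034004300580053001b005d0004001100620032)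
noncomputable def PJ (q : ℕ) : ℕ := Nat.land (Nat.shiftRight PJt (Nat.mul (nat_lit 16) q)) (nat_lit 65535)
noncomputable def stQ : Bool → ℕ → ℕ := fun c => Bool.rec (motive := fun _ => ℕ → ℕ) PJ PI c
noncomputable def ivQ : Bool → Bool := fun c => Bool.rec (motive := fun _ => Bool) true false c
theorem clQ : Closed L stQ ivQ := Closed.of_chk (cols := [true, false]) (by intro c; cases c <;> simp) (by intro c; cases c <;> rfl) (by decide +kernel)
theorem pq_a : Tr.all (fun q => Nat.beq (PI (stp .a q)) (stF .a (PI q))) L = true := by decide +kernel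
theorem pq_b : Tr.all (fun q => Nat.beq (PI (stp .b q)) (stF .b (PI q))) L = true := by decide +kernel
theorem pq_c : Tr.all (fun q => Nat.beq (PI (stp .c q)) (stF .c (PI q))) L = true := by decide +kernel
theorem pq (c : Col) (q : ℕ) (hq : q ∈ L.toList) : PI (stp c q) = stF c (PI q) := by
  apply Nat.eq_of_beq_eq_true
  cases c
  · exact (Tr.all_iff _ _).1 pq_a q hq
  · exact (Tr.all_iff _ _).1 pq_b q hq
  · exact (Tr.all_iff _ _).1 pq_c q hq
theorem pphi (c : Col) : (clQ.perm true) * φ (P c) = φ (F c) * (clQ.perm true) := by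
  apply Equiv.ext; intro q; apply Subtype.ext
  rw [Equiv.Perm.mul_apply, Equiv.Perm.mul_apply, hF c]
  have h1 : ((clQ.perm true) (φ (P c) q)).1 = PI ((φ (P c) q).1) := rfl
  have h2 : ((clQ.perm true) q).1 = PI q.1 := rfl
  rw [h1, h2, hg c]; exact pq c q.1 q.2
theorem exτ : ∃ τ : GG →* GG, ∀ c, τ (P c) = F c := tau_of_pi good P_top F (clQ.perm true) pphi
noncomputable def τ : GG →* GG := Classical.choose exτ
theorem τ_P (c : Col) : τ (P c) = F c := Classical.choose_spec exτ c
theorem txB : agB (walkC stF wx) (itN TX 2) (lvs.map Lv.b) = true := by decide +kernel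
theorem tyB : agB (walkC stF wy) TY (lvs.map Lv.b) = true := by decide +kernel
theorem tsB : agB (walkC stF ws) TU (lvs.map Lv.b) = true := by decide +kernel
theorem τx : τ x = x ^ 2 := CfsgLib.TC.tau_word good hF τ_P wx (hx.pow 2) txB
theorem τy : τ y = y := CfsgLib.TC.tau_word good hF τ_P wy hy tyB
theorem τs : τ s = s * gw P z1 := CfsgLib.TC.tau_word good hF τ_P ws hu tsB
theorem xk : x ^ 2 ≠ 1 := ne_of_moved (hx.pow 2) (Acts.one φ) (b := 17) (mem_sound (by decide +kernel)) (by decide +kernel)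
theorem z1m : z1 ∈ Z := List.getElem_mem (l := Z) (n := 12) (by decide +kernel)
theorem ni : niB stp TX TS 2 z1 Z [20] = true := by decide +kernel
theorem z1q : walk stp z1 20 = 33 := by decide +kernel
theorem out_card : Nat.card (Cfsg.Out GG) = 2 :=
  aut.out_two simple_HS List.mem_cons_self x1 xk z1m (by rw [z1q]) τ τ_P τx τy τs (by decide +kernel) ni
end CfsgLib.CoHSAu
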