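import Cfsg.Agent.EqBase
import Mathlib
import Cfsg.Agent.LibCoH

/-!
Generation of the lattice by short vectors; counting short vectors by shape.
-/

set_option autoImplicit false
set_option linter.constructorNameAsVariable false

namespace CfsgLib.Co

open Cfsg CfsgLib.Golay CfsgLib.M24 CfsgLib.Leech CfsgLib.Frame MulAction

/-! ### generators -/

section

variable (C : AddSubgroup E) (hP : ∀ (j : GolayPt) (t : ℤ), none ≠ j → (t = 4 ∨ t = -4) → P none j 4 t ∈ C)
  (ho : ∀ (c : GolayPt → ZMod 2) (hc : c ∈ golayCode), ((ov none c hc : LL) : E) ∈ C)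
include hP

theorem gen_8 : (Pi.single none 8 : E) ∈ C := by
  have h := C.add_mem (hP pz 4 nz (Or.inl rfl)) (hP pz (-4) nz (Or.inr rfl))
  have e : P none pz 4 4 + P none pz 4 (-4) = (Pi.single none 8 : E) := by
    funext k
    rw [Pi.add_apply, P_apply, P_apply, Pi.single_apply]
    split_ifs <;> norm_num
  rwa [e] at h

theorem gen_4 (y : E) (hy : (2 : ℤ) ∣ ∑ k, y k) : (fun k => 4 * y k : E) ∈ C := by
  classical
  obtain ⟨s, hs⟩ := hy
  have h1 : ∀ k, (Pi.single k 4 - Pi.single none 4 : E) ∈ C := by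
    intro k
    by_cases hk : k = none
    · rw [hk, sub_self]; exact C.zero_mem
    · have h := C.neg_mem (hP k (-4) (Ne.symm hk) (Or.inr rfl))
      have e : -P none k 4 (-4) = (Pi.single k 4 - Pi.single none 4 : E) := by
        funext i
        rw [Pi.neg_apply, P_apply, Pi.sub_apply, Pi.single_apply, Pi.single_apply]
        split_ifs <;> norm_num
      rwa [e] at h
  have h2 : (∑ k, y k • (Pi.single k 4 - Pi.single none 4 : E)) + s • (Pi.single none 8 : E) ∈ C :=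
    C.add_mem (C.sum_mem fun k _ => C.zsmul_mem (h1 k) _) (C.zsmul_mem (gen_8 C hP) _)
  have e : (∑ k, y k • (Pi.single k 4 - Pi.single none 4 : E)) + s • (Pi.single none 8 : E) = (fun k => 4 * y k : E) := by
    funext i
    rw [Pi.add_apply, Finset.sum_apply, Pi.smul_apply, smul_eq_mul]
    have h3 : ∀ k, (y k • (Pi.single k 4 - Pi.single none 4 : E)) i = (if i = k then 4 * y k else 0) - (if i = none then 4 * y k else 0) := by
      intro k
      rw [Pi.smul_apply, Pi.sub_apply, Pi.single_apply, Pi.single_apply, smul_eq_mul]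
      split_ifs <;> ring
    rw [Finset.sum_congr rfl fun k _ => h3 k, Finset.sum_sub_distrib, Finset.sum_ite_eq Finset.univ i, if_pos (Finset.mem_univ i),
      Pi.single_apply]
    by_cases hi : i = none
    · simp only [if_pos hi]
      rw [← Finset.mul_sum, hs]; ring
    · simp only [if_neg hi, Finset.sum_const_zero]; ring
  rwa [e] at h2

include ho

theorem gen_all {x : E} (hx : x ∈ Lam) : x ∈ C := by
  classical
  obtain ⟨m, w, y, hw, hxk, hy⟩ := hx
  have h1 := ho 0 (Submodule.zero_mem _)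
  have h2 := ho w hw
  have h3 := gen_8 C hP
  have h4 := gen_4 C hP (y + m • (Pi.single none 1 : E)) (by
    have e : ∑ k, (y + m • (Pi.single none 1 : E)) k = (∑ k, y k - m) + 2 * m := by
      have : ∀ k, (y + m • (Pi.single none 1 : E)) k = y k + (if k = none then m else 0) := by
        intro k
        rw [Pi.add_apply, Pi.smul_apply, Pi.single_apply, smul_eq_mul]
        split_ifs <;> ring
      rw [Finset.sum_congr rfl fun k _ => this k, Finset.sum_add_distrib, Finset.sum_ite_eq' Finset.univ none, if_pos (Finset.mem_univ _)]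
      ring
    rw [e]
    exact dvd_add hy ⟨m, rfl⟩)
  have h5 := C.add_mem (C.add_mem (C.zsmul_mem h1 m) (C.add_mem (C.sub_mem h1 h2) (C.zsmul_mem h3 (lf (w none))))) h4
  have e : m • ((ov none 0 (Submodule.zero_mem _) : LL) : E) +
      (((ov none 0 (Submodule.zero_mem _) : LL) : E) - ((ov none w hw : LL) : E) + lf (w none) • (Pi.single none 8 : E)) +
      (fun k => 4 * (y + m • (Pi.single none 1 : E)) k : E) = x := by
    funext k
    rw [Pi.add_apply, Pi.add_apply, Pi.add_apply, Pi.sub_apply, Pi.smul_apply, Pi.smul_apply, ov_apply, ov_apply, Pi.single_apply,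
      Pi.add_apply, Pi.smul_apply, Pi.single_apply, Pi.zero_apply, lf_zero, smul_eq_mul, smul_eq_mul, smul_eq_mul, hxk]
    by_cases hk : k = none
    · simp only [if_pos hk]
      rw [hk]; ring
    · simp only [if_neg hk]
      ring
  rwa [e] at h5

end

theorem closure_min : AddSubgroup.closure {x : E | x ∈ leechLattice ∧ sqNorm x = 32} = leechLattice := by
  apply le_antisymm
  · rw [AddSubgroup.closure_le]
    exact fun x hx => hx.1
  · intro x hx
    apply gen_all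
    · intro j t hj ht
      apply AddSubgroup.subset_closure
      exact ⟨(PL none j (Or.inl rfl : (4 : ℤ) = 4 ∨ (4 : ℤ) = -4) ht).2, norm_PL hj (Or.inl rfl) ht⟩
    · intro c hc
      apply AddSubgroup.subset_closure
      exact ⟨(ov none c hc).2, ov_norm _ _ _⟩
    · exact mem_LL.1 hx


/-! ### counting by weight of the codeword -/

/-- even vectors of norm `N` whose codeword has weight `j` -/
def shellE (N j : ℕ) : Set E := {x | (∃ c y, EvenVec x c y ∧ (support₂ c).card = j) ∧ sqNorm x = N}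

theorem shellE_ncard (N j : ℕ) (hN : N ≤ 64) : (shellE N j).ncard = wt j * dE 72057594037927936 N j := by
  classical
  let S : Finset (ℕ × E) := ((Finset.range 4096).filter fun k => pop (cw k) = j).biUnion fun k =>
    (T.filter fun y => ((2 : ℤ) ∣ (∑ i, y i) - 0) ∧ nrm 0 (word (cw k)) y = N).image fun y => (k, y)
  have hS : ∀ q, q ∈ S ↔ q.1 < 4096 ∧ pop (cw q.1) = j ∧ q.2 ∈ T ∧ ((2 : ℤ) ∣ (∑ i, q.2 i) - 0) ∧
      nrm 0 (word (cw q.1)) q.2 = N := by
    rintro ⟨k, y⟩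
    simp only [S, Finset.mem_biUnion, Finset.mem_range, Finset.mem_image, Finset.mem_filter]
    constructor
    · rintro ⟨p, ⟨h1, h2⟩, y', ⟨h3, h4, h5⟩, h6⟩
      rw [Prod.mk.injEq] at h6
      obtain ⟨rfl, rfl⟩ := h6
      exact ⟨h1, h2, h3, h4, h5⟩
    · rintro ⟨h1, h2, h3, h4, h5⟩
      exact ⟨k, ⟨h1, h2⟩, y, ⟨h3, h4, h5⟩, rfl⟩
  have h1 : shellE N j = (fun q : ℕ × E => vec 0 (word (cw q.1)) q.2) '' (S : Set (ℕ × E)) := by
    ext x
    rw [Set.mem_image]
    constructor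
    · rintro ⟨⟨c, y, h, hj⟩, hxN⟩
      obtain ⟨k, hk, rfl⟩ := mem_golayCode.1 h.hc
      have hxk : ∀ i, x i = 0 + 2 * lf (word (cw k) i) + 4 * y i := fun i => by rw [h.hx]; ring
      refine ⟨(k, y), ?_, ?_⟩
      · rw [Finset.mem_coe, hS]
        refine ⟨hk, by rw [← support_cw]; exact hj, mem_T_of_norm (Or.inl rfl) hxk (by rw [hxN]; exact_mod_cast hN), by
          rw [sub_zero]; exact h.hy, ?_⟩
        have := sqNorm_eq_nrm hxk
        rw [hxN] at this
        exact_mod_cast this.symm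
      · funext i
        exact (hxk i).symm
    · rintro ⟨⟨k, y⟩, hq, rfl⟩
      rw [Finset.mem_coe, hS] at hq
      obtain ⟨hk, hj, hy, hd, hn⟩ := hq
      refine ⟨⟨word (cw k), y, ⟨word_cw_mem k, fun i => ?_, by rwa [sub_zero] at hd⟩, by rw [support_cw]; exact hj⟩, ?_⟩
      · change 0 + 2 * lf (word (cw k) i) + 4 * y i = _
        ring
      · refine (sqNorm_eq_nrm (x := vec 0 (word (cw k)) y) (m := 0) (w := word (cw k)) (y := y) (fun i => rfl)).trans ?_
        exact congrArg _ hn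
  rw [h1, Set.InjOn.ncard_image, Set.ncard_coe_finset]
  · rw [Finset.card_biUnion]
    · have h2 : ∀ k ∈ (Finset.range 4096).filter fun k => pop (cw k) = j,
          ((T.filter fun y => ((2 : ℤ) ∣ (∑ i, y i) - 0) ∧ nrm 0 (word (cw k)) y = N).image fun y => (k, y)).card =
            dE 72057594037927936 N j := by
        intro k hk
        rw [Finset.card_image_of_injective _ (fun a b h => (Prod.mk.inj h).2)]
        refine (cnt_even _ five_le (word (cw k)) N (by omega)).trans ?_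
        rw [support_cw, (Finset.mem_filter.1 hk).2]
        rfl
      rw [Finset.sum_congr rfl h2, Finset.sum_const, smul_eq_mul]
      rfl
    · intro p _ q _ hpq
      change Disjoint _ _
      rw [Finset.disjoint_left]
      intro z hz hz'
      rw [Finset.mem_image] at hz hz'
      obtain ⟨y, _, rfl⟩ := hz
      obtain ⟨y', _, h⟩ := hz'
      exact hpq (Prod.mk.inj h).1.symm
  · rintro ⟨k, y⟩ hq ⟨k', y'⟩ hq' h
    rw [Finset.mem_coe, hS] at hq hq'
    obtain ⟨h2, h3, h4⟩ := vec_inj (Or.inl rfl) (Or.inl rfl) h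
    have h5 := cw_injective hq.1 hq'.1 (word_injective (cw_lt _) (cw_lt _) h3)
    have h5' : k = k' := h5
    have h4' : y = y' := h4
    rw [h5', h4']

theorem dE_12 : Nat.beq (dE 72057594037927936 48 12) 2048 = true := by decide +kernel
theorem dE_8 : Nat.beq (dE 72057594037927936 48 8) 4096 = true := by decide +kernel

theorem shellE_12 : (shellE 48 12).ncard = 5275648 := by
  rw [shellE_ncard 48 12 (by norm_num), wt12, Nat.eq_of_beq_eq_true dE_12]

theorem shellE_8 : (shellE 48 8).ncard = 3108864 := by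
  rw [shellE_ncard 48 8 (by norm_num), wt8, Nat.eq_of_beq_eq_true dE_8]


/-! ### the four shapes of norm 48 -/

theorem sgn_cases (t : ZMod 2) : (1 - 2 * lf t) = 1 ∨ (1 - 2 * lf t) = -1 := by
  rcases (by decide : ∀ t : ZMod 2, t = 0 ∨ t = 1) t with rfl | rfl
  · left; rfl
  · right; rfl

theorem EvenVec.unique {x : E} {c c' : GolayPt → ZMod 2} {y y' : E} (h : EvenVec x c y) (h' : EvenVec x c' y') : c = c' := by
  funext k
  have h1 := h.hx k
  have h2 := h'.hx k
  have h3 : ∀ a b : ZMod 2, lf a = lf b → a = b := by decide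
  apply h3
  rcases lf_cases (c k) with e | e <;> rcases lf_cases (c' k) with e' | e' <;> rw [e] at h1 ⊢ <;> rw [e'] at h2 ⊢ <;> omega

theorem EvenVec.not_odd {x : E} {c c' : GolayPt → ZMod 2} {y y' : E} (h : EvenVec x c y) (h' : OddVec x c' y') : False := by
  have h1 := h.hx none
  have h2 := h'.hx none
  omega

/-- the four types in terms of squares -/
def Q1 (x : E) : Prop := (∀ k, x k ^ 2 = 0 ∨ x k ^ 2 = 4) ∧ ∃ c y, EvenVec x c y ∧ (support₂ c).card = 12
def Q2 (x : E) : Prop := (∀ k, x k ^ 2 = 0 ∨ x k ^ 2 = 4 ∨ x k ^ 2 = 16) ∧ (∃ i, x i ^ 2 = 16) ∧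
  ∃ c y, EvenVec x c y ∧ (support₂ c).card = 8
def Q3 (x : E) : Prop := (∀ k, x k ^ 2 = 1 ∨ x k ^ 2 = 25) ∧ (∃ i, x i ^ 2 = 25) ∧
  ∃ c y i, OddVec x c y ∧ x i = (1 - 2 * lf (c i)) * 5 ∧ ∀ k, k ≠ i → x k = 1 - 2 * lf (c k)
def Q4 (x : E) : Prop := (∀ k, x k ^ 2 = 1 ∨ x k ^ 2 = 9) ∧ (∃ i j k, i ≠ j ∧ j ≠ k ∧ i ≠ k ∧ x i ^ 2 = 9 ∧ x j ^ 2 = 9 ∧ x k ^ 2 = 9) ∧
  ∃ c y, OddVec x c y

theorem shape48' {x : E} (hx : x ∈ Lam) (hn : sqNorm x = 48) : Q1 x ∨ Q2 x ∨ Q3 x ∨ Q4 x := by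
  rcases shape48 hx hn with ⟨c, y, h, hw, hk⟩ | ⟨c, y, i, h, hw, hi, hi2, hk⟩ | ⟨c, y, i, h, hi, hk⟩ |
    ⟨c, y, i, j, l, h, hij, hil, hjl, hi, hj, hl, hk⟩
  · left
    refine ⟨fun k => ?_, c, y, h, ?_⟩
    · rw [hk]
      rcases lf_cases (c k) with e | e <;> rw [e] <;> norm_num
    · rw [sum_lf] at hw; exact_mod_cast hw
  · right; left
    refine ⟨fun k => ?_, ⟨i, hi2⟩, c, y, h, ?_⟩
    · by_cases hki : k = i
      · right; right; rw [hki]; exact hi2
      · rw [hk k hki]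
        rcases lf_cases (c k) with e | e <;> rw [e] <;> norm_num
    · rw [sum_lf] at hw; exact_mod_cast hw
  · right; right; left
    have hi2 : x i ^ 2 = 25 := by rw [hi, mul_pow, sgn_sq]; norm_num
    refine ⟨fun k => ?_, ⟨i, hi2⟩, c, y, i, h, hi, hk⟩
    by_cases hki : k = i
    · right; rw [hki]; exact hi2
    · left; rw [hk k hki, sgn_sq]
  · right; right; right
    have hi2 : x i ^ 2 = 9 := by rw [hi, mul_pow, sgn_sq]; norm_num
    have hj2 : x j ^ 2 = 9 := by rw [hj, mul_pow, sgn_sq]; norm_num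
    have hl2 : x l ^ 2 = 9 := by rw [hl, mul_pow, sgn_sq]; norm_num
    refine ⟨fun k => ?_, ⟨i, j, l, hij, hjl, hil, hi2, hj2, hl2⟩, c, y, h⟩
    by_cases h1 : k = i
    · right; rw [h1]; exact hi2
    by_cases h2 : k = j
    · right; rw [h2]; exact hj2
    by_cases h3 : k = l
    · right; rw [h3]; exact hl2
    left; rw [hk k h1 h2 h3, sgn_sq]

theorem abs_sq {a : ℤ} {n : ℤ} (hn : 0 ≤ n) : |a| = n ↔ a ^ 2 = n ^ 2 := by
  rw [sq_eq_sq_iff_abs_eq_abs, abs_of_nonneg hn]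

/-- the sets -/
def B1 : Set E := {x | x ∈ leechLattice ∧ sqNorm x = 48 ∧ ∀ i, x i = 0 ∨ x i = 2 ∨ x i = -2}
def B2 : Set E := {x | x ∈ leechLattice ∧ sqNorm x = 48 ∧ ∃ i j k, i ≠ j ∧ j ≠ k ∧ i ≠ k ∧ |x i| = 3 ∧ |x j| = 3 ∧ |x k| = 3}
def B3 : Set E := {x | x ∈ leechLattice ∧ sqNorm x = 48 ∧ ∃ i, |x i| = 4}
def B4 : Set E := {x | x ∈ leechLattice ∧ sqNorm x = 48 ∧ ∃ i, |x i| = 5}

theorem b1_iff (x : E) : x ∈ B1 ↔ x ∈ Lam ∧ sqNorm x = 48 ∧ Q1 x := by
  constructor
  · rintro ⟨h1, h2, h3⟩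
    rw [mem_LL] at h1
    refine ⟨h1, h2, ?_⟩
    rcases shape48' h1 h2 with h | h | h | h
    · exact h
    · obtain ⟨_, ⟨i, hi⟩, _⟩ := h
      rcases h3 i with e | e | e <;> rw [e] at hi <;> norm_num at hi
    · obtain ⟨_, ⟨i, hi⟩, _⟩ := h
      rcases h3 i with e | e | e <;> rw [e] at hi <;> norm_num at hi
    · obtain ⟨_, ⟨i, _, _, _, _, _, hi, _⟩, _⟩ := h
      rcases h3 i with e | e | e <;> rw [e] at hi <;> norm_num at hi
  · rintro ⟨h1, h2, h3, _⟩
    refine ⟨mem_LL.2 h1, h2, fun i => ?_⟩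
    rcases h3 i with h | h
    · left; exact pow_eq_zero_iff (two_ne_zero) |>.1 h
    · right
      have h4 : (x i - 2) * (x i + 2) = 0 := by nlinarith
      rcases mul_eq_zero.1 h4 with h5 | h5
      · left; omega
      · right; omega

theorem b3_iff (x : E) : x ∈ B3 ↔ x ∈ Lam ∧ sqNorm x = 48 ∧ Q2 x := by
  constructor
  · rintro ⟨h1, h2, i, h3⟩
    rw [mem_LL] at h1
    refine ⟨h1, h2, ?_⟩
    rw [abs_sq (by norm_num)] at h3
    rcases shape48' h1 h2 with h | h | h | h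
    · rcases h.1 i with e | e <;> rw [h3] at e <;> norm_num at e
    · exact h
    · rcases h.1 i with e | e <;> rw [h3] at e <;> norm_num at e
    · rcases h.1 i with e | e <;> rw [h3] at e <;> norm_num at e
  · rintro ⟨h1, h2, _, ⟨i, hi⟩, _⟩
    exact ⟨mem_LL.2 h1, h2, i, by rw [abs_sq (by norm_num), hi]; norm_num⟩

theorem b4_iff (x : E) : x ∈ B4 ↔ x ∈ Lam ∧ sqNorm x = 48 ∧ Q3 x := by
  constructor
  · rintro ⟨h1, h2, i, h3⟩
    rw [mem_LL] at h1
    refine ⟨h1, h2, ?_⟩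
    rw [abs_sq (by norm_num)] at h3
    rcases shape48' h1 h2 with h | h | h | h
    · rcases h.1 i with e | e <;> rw [h3] at e <;> norm_num at e
    · rcases h.1 i with e | e | e <;> rw [h3] at e <;> norm_num at e
    · exact h
    · rcases h.1 i with e | e <;> rw [h3] at e <;> norm_num at e
  · rintro ⟨h1, h2, _, ⟨i, hi⟩, _⟩
    exact ⟨mem_LL.2 h1, h2, i, by rw [abs_sq (by norm_num), hi]; norm_num⟩

theorem b2_iff (x : E) : x ∈ B2 ↔ x ∈ Lam ∧ sqNorm x = 48 ∧ Q4 x := by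
  constructor
  · rintro ⟨h1, h2, i, j, k, _, _, _, h3, _, _⟩
    rw [mem_LL] at h1
    refine ⟨h1, h2, ?_⟩
    rw [abs_sq (by norm_num)] at h3
    rcases shape48' h1 h2 with h | h | h | h
    · rcases h.1 i with e | e <;> rw [h3] at e <;> norm_num at e
    · rcases h.1 i with e | e | e <;> rw [h3] at e <;> norm_num at e
    · rcases h.1 i with e | e <;> rw [h3] at e <;> norm_num at e
    · exact h
  · rintro ⟨h1, h2, _, ⟨i, j, k, hij, hjk, hik, hi, hj, hk⟩, _⟩
    exact ⟨mem_LL.2 h1, h2, i, j, k, hij, hjk, hik, by rw [abs_sq (by norm_num), hi]; norm_num,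
      by rw [abs_sq (by norm_num), hj]; norm_num, by rw [abs_sq (by norm_num), hk]; norm_num⟩

theorem b1_eq : B1 = shellE 48 12 := by
  ext x
  rw [b1_iff]
  constructor
  · rintro ⟨_, h2, _, h3⟩
    exact ⟨h3, h2⟩
  · rintro ⟨⟨c, y, h, hc⟩, hn⟩
    have hx : x ∈ Lam := ⟨0, c, y, h.hc, fun i => by rw [h.hx]; ring, by rw [sub_zero]; exact h.hy⟩
    have hn' : sqNorm x = 48 := hn
    refine ⟨hx, hn', ?_⟩
    rcases shape48' hx hn' with h' | h' | h' | h'
    · exact h'
    · obtain ⟨_, _, c', y', h3, h4⟩ := h'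
      rw [h.unique h3] at hc
      omega
    · obtain ⟨_, _, c', y', i, h3, _⟩ := h'
      exact (h.not_odd h3).elim
    · obtain ⟨_, _, c', y', h3⟩ := h'
      exact (h.not_odd h3).elim

theorem b3_eq : B3 = shellE 48 8 := by
  ext x
  rw [b3_iff]
  constructor
  · rintro ⟨_, h2, _, _, h3⟩
    exact ⟨h3, h2⟩
  · rintro ⟨⟨c, y, h, hc⟩, hn⟩
    have hx : x ∈ Lam := ⟨0, c, y, h.hc, fun i => by rw [h.hx]; ring, by rw [sub_zero]; exact h.hy⟩
    have hn' : sqNorm x = 48 := hn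
    refine ⟨hx, hn', ?_⟩
    rcases shape48' hx hn' with h' | h' | h' | h'
    · obtain ⟨_, c', y', h3, h4⟩ := h'
      rw [h.unique h3] at hc
      omega
    · exact h'
    · obtain ⟨_, _, c', y', i, h3, _⟩ := h'
      exact (h.not_odd h3).elim
    · obtain ⟨_, _, c', y', h3⟩ := h'
      exact (h.not_odd h3).elim

/-- vectors of shape `(5, 1, ..., 1)` -/
def fv (p : GolayPt × golayCode) : E := fun k => (1 - 2 * lf ((p.2 : GolayPt → ZMod 2) k)) * (if k = p.1 then 5 else 1)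

theorem fv_mem (p : GolayPt × golayCode) : fv p ∈ Lam := by
  have h1 : ((mono 1 M24.one_mem p.2.1 p.2.2 • (⟨fun k => if k = p.1 then 5 else 1, mem_LL.2 (by
    refine ⟨1, 0, Pi.single p.1 1, Submodule.zero_mem _, fun i => ?_, ?_⟩
    · change (if i = p.1 then (5 : ℤ) else 1) = _
      rw [Pi.zero_apply, lf_zero, Pi.single_apply]
      by_cases h : i = p.1
      · rw [if_pos h, if_pos h]; norm_num
      · rw [if_neg h, if_neg h]; norm_num
    · rw [sum_single_pt]; norm_num)⟩ : LL) : LL) : E) = fv p := by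
    funext k
    rw [mono_apply]; rfl
  rw [← h1]
  exact mem_LL.1 (mono 1 M24.one_mem p.2.1 p.2.2 • _ : LL).2

theorem fv_norm (p : GolayPt × golayCode) : sqNorm (fv p) = 48 := by
  have h : ∀ k, (fv p) k ^ 2 = 1 + (if k = p.1 then 24 else 0) := by
    intro k
    rw [fv, mul_pow, sgn_sq]
    split_ifs <;> norm_num
  rw [sqNorm, Finset.sum_congr rfl fun k _ => h k, Finset.sum_add_distrib, Finset.sum_const, Finset.card_univ, card_pt,
    Finset.sum_ite_eq' Finset.univ p.1]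
  simp

theorem sgn_inj {a b : ZMod 2} (h : (1 - 2 * lf a) = (1 - 2 * lf b)) : a = b := by
  revert a b; decide

theorem fv_inj : Function.Injective fv := by
  rintro ⟨i, c⟩ ⟨j, d⟩ h
  have h0 : ∀ k, (1 - 2 * lf ((c : GolayPt → ZMod 2) k)) * (if k = i then 5 else 1) =
      (1 - 2 * lf ((d : GolayPt → ZMod 2) k)) * (if k = j then 5 else 1) := fun k => congrFun h k
  have hij : i = j := by
    by_contra hne
    have h1 := h0 i
    rw [if_pos rfl, if_neg hne] at h1
    rcases sgn_cases ((c : GolayPt → ZMod 2) i) with e | e <;> rcases sgn_cases ((d : GolayPt → ZMod 2) i) with e' | e' <;>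
      rw [e, e'] at h1 <;> norm_num at h1
  subst hij
  have hcd : c = d := by
    apply Subtype.ext
    funext k
    apply sgn_inj
    have h1 := h0 k
    split_ifs at h1 <;> omega
  rw [hcd]

theorem b4_eq : B4 = Set.range fv := by
  ext x
  rw [b4_iff]
  constructor
  · rintro ⟨_, _, _, _, c, y, i, h, hi, hk⟩
    refine ⟨(i, ⟨c, h.hc⟩), ?_⟩
    funext k
    rw [fv]
    by_cases hki : k = i
    · rw [hki]
      simp only [if_true]
      exact hi.symm
    · simp only [if_neg hki]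
      rw [hk k hki, mul_one]
  · rintro ⟨p, rfl⟩
    refine ⟨fv_mem p, fv_norm p, ?_⟩
    have h := (b4_iff (fv p)).1 ⟨mem_LL.2 (fv_mem p), fv_norm p, p.1, by
      rw [fv, if_pos rfl]
      rcases sgn_cases ((p.2 : GolayPt → ZMod 2) p.1) with e | e <;> rw [e] <;> norm_num⟩
    exact h.2.2

theorem b4_ncard : B4.ncard = 98304 := by
  rw [b4_eq, ← Set.image_univ, Set.ncard_image_of_injective _ fv_inj, Set.ncard_univ, Nat.card_prod, card_code,
    Nat.card_eq_fintype_card, card_pt]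

theorem fin48E : {x : E | x ∈ Lam ∧ sqNorm x = 48}.Finite := Set.finite_of_ncard_ne_zero (by
  change (shell 48).ncard ≠ 0
  rw [shell48]; norm_num)

theorem shape_counts : B1.ncard = 5275648 ∧ B2.ncard = 8290304 ∧ B3.ncard = 3108864 ∧ B4.ncard = 98304 := by
  have h1 : B1.ncard = 5275648 := by rw [b1_eq, shellE_12]
  have h3 : B3.ncard = 3108864 := by rw [b3_eq, shellE_8]
  have hfin : ∀ S : Set E, S ⊆ {x : E | x ∈ Lam ∧ sqNorm x = 48} → S.Finite := fun S h => fin48E.subset h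
  have s1 : B1 ⊆ {x : E | x ∈ Lam ∧ sqNorm x = 48} := fun x hx => ⟨((b1_iff x).1 hx).1, ((b1_iff x).1 hx).2.1⟩
  have s2 : B2 ⊆ {x : E | x ∈ Lam ∧ sqNorm x = 48} := fun x hx => ⟨((b2_iff x).1 hx).1, ((b2_iff x).1 hx).2.1⟩
  have s3 : B3 ⊆ {x : E | x ∈ Lam ∧ sqNorm x = 48} := fun x hx => ⟨((b3_iff x).1 hx).1, ((b3_iff x).1 hx).2.1⟩
  have s4 : B4 ⊆ {x : E | x ∈ Lam ∧ sqNorm x = 48} := fun x hx => ⟨((b4_iff x).1 hx).1, ((b4_iff x).1 hx).2.1⟩
  have d12 : Disjoint B1 B2 := by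
    rw [Set.disjoint_left]
    intro x hx hx'
    obtain ⟨_, _, h, _⟩ := (b1_iff x).1 hx
    obtain ⟨_, _, _, ⟨i, _, _, _, _, _, hi, _⟩, _⟩ := (b2_iff x).1 hx'
    rcases h i with e | e <;> rw [hi] at e <;> norm_num at e
  have d13 : Disjoint B1 B3 := by
    rw [Set.disjoint_left]
    intro x hx hx'
    obtain ⟨_, _, h, _⟩ := (b1_iff x).1 hx
    obtain ⟨_, _, _, ⟨i, hi⟩, _⟩ := (b3_iff x).1 hx'
    rcases h i with e | e <;> rw [hi] at e <;> norm_num at e
  have d14 : Disjoint B1 B4 := by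
    rw [Set.disjoint_left]
    intro x hx hx'
    obtain ⟨_, _, h, _⟩ := (b1_iff x).1 hx
    obtain ⟨_, _, _, ⟨i, hi⟩, _⟩ := (b4_iff x).1 hx'
    rcases h i with e | e <;> rw [hi] at e <;> norm_num at e
  have d23 : Disjoint B2 B3 := by
    rw [Set.disjoint_left]
    intro x hx hx'
    obtain ⟨_, _, h, _⟩ := (b2_iff x).1 hx
    obtain ⟨_, _, _, ⟨i, hi⟩, _⟩ := (b3_iff x).1 hx'
    rcases h i with e | e <;> rw [hi] at e <;> norm_num at e
  have d24 : Disjoint B2 B4 := by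
    rw [Set.disjoint_left]
    intro x hx hx'
    obtain ⟨_, _, h, _⟩ := (b2_iff x).1 hx
    obtain ⟨_, _, _, ⟨i, hi⟩, _⟩ := (b4_iff x).1 hx'
    rcases h i with e | e <;> rw [hi] at e <;> norm_num at e
  have d34 : Disjoint B3 B4 := by
    rw [Set.disjoint_left]
    intro x hx hx'
    obtain ⟨_, _, h, _⟩ := (b3_iff x).1 hx
    obtain ⟨_, _, _, ⟨i, hi⟩, _⟩ := (b4_iff x).1 hx'
    rcases h i with e | e | e <;> rw [hi] at e <;> norm_num at e
  have hu : ((B1 ∪ B2) ∪ B3) ∪ B4 = {x : E | x ∈ Lam ∧ sqNorm x = 48} := by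
    apply Set.Subset.antisymm
    · exact Set.union_subset (Set.union_subset (Set.union_subset s1 s2) s3) s4
    · rintro x ⟨hx, hn⟩
      rcases shape48' hx hn with h | h | h | h
      · exact Or.inl (Or.inl (Or.inl ((b1_iff x).2 ⟨hx, hn, h⟩)))
      · exact Or.inl (Or.inr ((b3_iff x).2 ⟨hx, hn, h⟩))
      · exact Or.inr ((b4_iff x).2 ⟨hx, hn, h⟩)
      · exact Or.inl (Or.inl (Or.inr ((b2_iff x).2 ⟨hx, hn, h⟩)))
  have f1 := hfin _ s1
  have f2 := hfin _ s2
  have f3 := hfin _ s3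
  have f4 := hfin _ s4
  have htot : (((B1 ∪ B2) ∪ B3) ∪ B4).ncard = B1.ncard + B2.ncard + B3.ncard + B4.ncard := by
    rw [Set.ncard_union_eq (by rw [Set.disjoint_union_left, Set.disjoint_union_left]; exact ⟨⟨d14, d24⟩, d34⟩) ((f1.union f2).union f3) f4,
      Set.ncard_union_eq (by rw [Set.disjoint_union_left]; exact ⟨d13, d23⟩) (f1.union f2) f3,
      Set.ncard_union_eq d12 f1 f2]
  have hs : ({x : E | x ∈ Lam ∧ sqNorm x = 48}).ncard = 16773120 := shell48
  rw [hu, hs, h1, h3, b4_ncard] at htot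
  exact ⟨h1, by omega, h3, b4_ncard⟩

end CfsgLib.Co
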