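import Cfsg.Agent.EqBase
import Mathlib
import Cfsg.Agent.LibCoI

/-!
A fixed point free involution; averaging arguments.
-/

set_option autoImplicit false
set_option linter.constructorNameAsVariable false

namespace CfsgLib.Co

open Cfsg CfsgLib.Golay CfsgLib.M24 CfsgLib.Leech CfsgLib.Frame MulAction

/-! ### pairs of vectors of norm 48 -/

theorem pair_sum {v w : LL} (hv : sqNorm (v : E) = 48) (hw : sqNorm (w : E) = 48) (hvw : dotInt (v : E) (w : E) = -32) :
    sqNorm ((v + w : LL) : E) = 32 ∧ dotInt (v : E) ((v + w : LL) : E) = 16 := by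
  rw [AddSubgroup.coe_add, sqNorm_add, hv, hw, hvw, dot_add_right, ← sqNorm_dot, hv, hvw]
  norm_num

/-- transitivity on the pairs -/
theorem tr_pair {v w v' w' : LL} (hv : sqNorm (v : E) = 48) (hw : sqNorm (w : E) = 48) (hvw : dotInt (v : E) (w : E) = -32)
    (hv' : sqNorm (v' : E) = 48) (hw' : sqNorm (w' : E) = 48) (hvw' : dotInt (v' : E) (w' : E) = -32) :
    ∃ g : Co0, g • v = v' ∧ g • w = w' := by
  obtain ⟨a1, a2⟩ := pair_sum hv hw hvw
  obtain ⟨b1, b2⟩ := pair_sum hv' hw' hvw'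
  obtain ⟨g, h1, h2⟩ := tr_p16 v (v + w) hv a1 a2
  obtain ⟨g', h1', h2'⟩ := tr_p16 v' (v' + w') hv' b1 b2
  have e1 : (g'⁻¹ * g) • v = v' := by rw [mul_smul, inv_smul_eq_iff, h1, h1']
  have e2 : (g'⁻¹ * g) • (v + w) = v' + w' := by
    rw [mul_smul, inv_smul_eq_iff]; exact Subtype.ext (h2.trans h2'.symm)
  refine ⟨g'⁻¹ * g, e1, ?_⟩
  rw [act_add, e1] at e2
  exact add_left_cancel e2

/-! ### a fixed point free involution -/

/-- a dodecad word -/
def dw : GolayPt → ZMod 2 := word (cw 2050)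

theorem dw_mem : dw ∈ golayCode := word_cw_mem 2050
theorem dw_none : dw none = 1 := by decide +kernel
theorem dw_pz : dw pz = 1 := by decide +kernel
theorem dw_sum : ∑ k, lf (dw k) = 12 := by decide +kernel

theorem one_mem_code : (fun _ => 1 : GolayPt → ZMod 2) ∈ golayCode := by
  have h : (fun _ => 1 : GolayPt → ZMod 2) = word (cw 2048) := by decide +kernel
  rw [h]; exact word_cw_mem _

/-- the complementary word -/
def dw' : GolayPt → ZMod 2 := (fun _ => 1) + dw

theorem dw'_mem : dw' ∈ golayCode := Submodule.add_mem _ one_mem_code dw_mem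

theorem dvec_even : EvenVec (fun k => 2 * lf (dw k)) dw 0 :=
  ⟨dw_mem, fun k => by rw [Pi.zero_apply]; ring, by simp⟩

/-- twice the dodecad -/
def dv : LL := ⟨fun k => 2 * lf (dw k), mem_LL.2 (even_mem dw_mem (y := 0) (by simp) (fun k => by rw [Pi.zero_apply]; ring))⟩

theorem dv_norm : sqNorm (dv : E) = 48 := by
  have h : ∀ k, (dv : E) k ^ 2 = 4 * lf (dw k) := by
    intro k
    change (2 * lf (dw k)) ^ 2 = _
    rcases lf_cases (dw k) with e | e <;> rw [e] <;> norm_num
  rw [sqNorm, Finset.sum_congr rfl fun k _ => h k, ← Finset.mul_sum, dw_sum]; norm_num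

theorem dv_p44 : dotInt (dv : E) (p44 : E) = 16 := by
  rw [p44_coe, dot_P_right]
  change 4 * (2 * lf (dw none)) + 4 * (2 * lf (dw pz)) = 16
  rw [dw_none, dw_pz]; decide

/-- the involution -/
def tau : Co0 := mono 1 M24.one_mem dw' dw'_mem

theorem tau_apply (x : LL) (k : GolayPt) : ((tau • x : LL) : E) k = (1 - 2 * lf (dw' k)) * (x : E) k := by
  rw [tau, mono_apply]; rfl

theorem dw'_lf (k : GolayPt) : lf (dw' k) = 1 - lf (dw k) := by
  change lf (1 + dw k) = _
  have : ∀ t : ZMod 2, lf (1 + t) = 1 - lf t := by decide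
  exact this _

theorem tau_dv : tau • dv = dv := by
  apply Subtype.ext
  funext k
  rw [tau_apply, dw'_lf]
  change _ * (2 * lf (dw k)) = 2 * lf (dw k)
  rcases lf_cases (dw k) with e | e <;> rw [e] <;> norm_num

theorem tau_p44 : tau • p44 = p44 := by
  apply Subtype.ext
  funext k
  rw [tau_apply, dw'_lf, p44_coe, P_apply]
  by_cases h1 : k = none
  · rw [h1, dw_none, if_pos rfl, if_neg nz]; decide
  · by_cases h2 : k = pz
    · rw [h2, dw_pz, if_pos rfl, if_neg (Ne.symm nz)]; decide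
    · rw [if_neg h1, if_neg h2]; ring

theorem tau_fix {x : LL} (h : tau • x = x) {k : GolayPt} (hk : lf (dw k) = 0) : (x : E) k = 0 := by
  have h1 : ((tau • x : LL) : E) k = (x : E) k := by rw [h]
  rw [tau_apply, dw'_lf, hk] at h1
  omega

theorem tau_order : orderOf tau = 2 := by
  haveI : Fact (Nat.Prime 2) := ⟨Nat.prime_two⟩
  apply orderOf_eq_prime
  · apply co_ext
    intro v
    apply Subtype.ext
    funext k
    rw [sq, mul_smul, tau_apply, tau_apply, one_smul, ← mul_assoc, ← sq, sgn_sq, one_mul]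
  · intro h
    obtain ⟨k, hk⟩ : ∃ k, lf (dw k) = 0 := by decide +kernel
    have h1 := tau_fix (x := e8 k) (by rw [h, one_smul]) hk
    rw [e8_coe, Pi.single_eq_same] at h1
    norm_num at h1

theorem tau_free {x : LL} (hx : sqNorm (x : E) = 32) (h24 : dotInt (dv : E) (x : E) = 24) : tau • x ≠ x := by
  intro hfix
  have hz : ∀ k, lf (dw k) = 0 → (x : E) k = 0 := fun k hk => tau_fix hfix hk
  rcases shape32 (mem_LL.1 x.2) hx with ⟨i, j, s, t, hij, hs, ht, hxe⟩ | ⟨c, y, h, h8, hk⟩ | ⟨c, y, i, h, hi, hk⟩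
  · rw [hxe, dot_P_right] at h24
    change s * (2 * lf (dw i)) + t * (2 * lf (dw j)) = 24 at h24
    rcases lf_cases (dw i) with e | e <;> rcases lf_cases (dw j) with e' | e' <;> rw [e, e'] at h24 <;> omega
  · have hle : ∀ k, lf ((dw + c) k) = lf (dw k) - lf (c k) := by
      intro k
      have key : ∀ a b : ZMod 2, (lf a = 0 → lf b = 0) → lf (a + b) = lf a - lf b := by decide
      apply key
      intro h0
      have := hk k
      rw [hz k h0] at this
      rcases lf_cases (c k) with e | e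
      · exact e
      · rw [e] at this; norm_num at this
    have h4 : ∑ k, lf ((dw + c) k) = 4 := by
      rw [Finset.sum_congr rfl fun k _ => hle k, Finset.sum_sub_distrib, dw_sum, h8]; norm_num
    rcases sum_lf_cases (Submodule.add_mem _ dw_mem h.hc) with h5 | h5 | h5 | h5 | h5 <;> rw [h4] at h5 <;> norm_num at h5
  · obtain ⟨k, hk0⟩ : ∃ k, lf (dw k) = 0 := by decide +kernel
    have h1 := hz k hk0
    have h2 := h.hx k
    omega

theorem fpf (v w : LL) (hv : sqNorm (v : E) = 48) (hw : sqNorm (w : E) = 48) (hvw : dotInt (v : E) (w : E) = -32) :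
    ∃ g : Co0, g • v = v ∧ g • w = w ∧ orderOf g = 2 ∧ ∀ x : LL, sqNorm (x : E) = 32 → dotInt (v : E) (x : E) = 24 → g • x ≠ x := by
  obtain ⟨g, h1, h2⟩ := tr_pair hv hw hvw dv_norm (w' := p44 - dv) (by
    rw [AddSubgroup.coe_sub, sqNorm_sub, p44_norm, dv_norm, dot_comm, dv_p44]; norm_num) (by
    rw [AddSubgroup.coe_sub, dot_sub_right, dv_p44, ← sqNorm_dot, dv_norm]; norm_num)
  have e1 : g⁻¹ • dv = v := by rw [← h1, inv_smul_smul]
  have e2 : g⁻¹ • (p44 - dv) = w := by rw [← h2, inv_smul_smul]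
  refine ⟨g⁻¹ * tau * g, ?_, ?_, ?_, ?_⟩
  · rw [mul_smul, mul_smul, h1, tau_dv, e1]
  · rw [mul_smul, mul_smul, h2, act_sub, tau_dv, tau_p44, e2]
  · have : g⁻¹ * tau * g = g⁻¹ * tau * (g⁻¹)⁻¹ := by rw [inv_inv]
    rw [this, ← MulAut.conj_apply, MulEquiv.orderOf_eq, tau_order]
  · intro x hx hvx h
    rw [mul_smul, mul_smul, inv_smul_eq_iff] at h
    refine tau_free (x := g • x) (by rw [act_norm, hx]) ?_ h
    rw [← h1, act_dot, hvx]

end CfsgLib.Co
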