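import Cfsg.Agent.EqBase
import Mathlib
import Cfsg.Agent.LibCoJ
import Cfsg.Agent.LibOrbM28

/-!
Tables of short vectors.
-/

set_option autoImplicit false
set_option linter.constructorNameAsVariable false

namespace CfsgLib.Co

open Cfsg CfsgLib.Golay CfsgLib.M24 CfsgLib.Leech CfsgLib.Frame MulAction
open CfsgLib.OrbM28 (gt gt_le allB allB_spec chk_sound srt inj_of_srt)

/-! ### codes of vectors -/

/-- field number `i` -/
def fld (k i : ℕ) : ℕ := Nat.land (Nat.shiftRight k (Nat.mul 4 i)) 15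

theorem fld_eq (k i : ℕ) : fld k i = k / 16 ^ i % 16 := by
  change (k >>> (4 * i)) &&& 15 = _
  rw [Nat.shiftRight_eq_div_pow, pow_mul]
  exact Nat.and_two_pow_sub_one_eq_mod _ 4

theorem fld_lt (k i : ℕ) : fld k i < 16 := by
  rw [fld_eq]; exact Nat.mod_lt _ (by norm_num)

/-- the vector coded by a number -/
def dec (k : ℕ) : E := fun p => (fld k (idx p) : ℤ) - 8

theorem fld_inj {k l : ℕ} (n : ℕ) (hk : k < 16 ^ n) (hl : l < 16 ^ n) (h : ∀ i < n, fld k i = fld l i) : k = l := by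
  induction n generalizing k l with
  | zero => omega
  | succ n ih =>
    have h0 := h 0 (Nat.succ_pos _)
    rw [fld_eq, fld_eq, pow_zero, Nat.div_one, Nat.div_one] at h0
    have h1 : k / 16 = l / 16 := by
      apply ih
      · rw [Nat.div_lt_iff_lt_mul (by norm_num), ← pow_succ]; exact hk
      · rw [Nat.div_lt_iff_lt_mul (by norm_num), ← pow_succ]; exact hl
      · intro i hi
        have h2 := h (i + 1) (Nat.succ_lt_succ hi)
        rw [fld_eq, fld_eq, pow_succ', ← Nat.div_div_eq_div_mul, ← Nat.div_div_eq_div_mul] at h2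
        rw [fld_eq, fld_eq]; exact h2
    omega

theorem dec_inj {k l : ℕ} (hk : k < 16 ^ 24) (hl : l < 16 ^ 24) (h : dec k = dec l) : k = l := by
  apply fld_inj 24 hk hl
  intro i hi
  have h1 := congrFun h (pt i)
  rw [dec, dec, idx_pt i hi] at h1
  omega

/-- permuting the fields -/
def actL : List ℕ → ℕ → ℕ
  | [], _ => 0
  | a :: l, k => Nat.add (fld k a) (Nat.mul 16 (actL l k))

theorem fld_actL (L : List ℕ) (k : ℕ) : ∀ i < L.length, fld (actL L k) i = fld k (L.getD i 0) := by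
  induction L with
  | nil => intro i hi; exact absurd hi (Nat.not_lt_zero _)
  | cons a l ih =>
    intro i hi
    have h1 : actL (a :: l) k = fld k a + 16 * actL l k := rfl
    cases i with
    | zero =>
      rw [fld_eq, h1, pow_zero, Nat.div_one, Nat.add_mul_mod_self_left, List.getD_cons_zero]
      exact Nat.mod_eq_of_lt (fld_lt _ _)
    | succ i =>
      rw [fld_eq, h1, pow_succ', ← Nat.div_div_eq_div_mul, Nat.add_mul_div_left _ _ (by norm_num : 0 < 16),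
        Nat.div_eq_of_lt (fld_lt _ _), zero_add, ← fld_eq, List.getD_cons_succ]
      exact ih i (Nat.lt_of_succ_lt_succ hi)


/-- the element of `M24` whose inverse is coded by a list -/
noncomputable def pg (L : List ℕ) (h : isM24 L = true) : M24 := (⟨mkPerm L, isM24_spec h⟩ : M24)⁻¹

theorem pm_pg (L : List ℕ) (h : isM24 L = true) (v : LL) (k : ℕ) (hv : (v : E) = dec k) :
    ((pm (pg L h) • v : LL) : E) = dec (actL L k) := by
  have hv' := valid_of_isM24 h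
  funext p
  have e : ((pg L h : M24) : Equiv.Perm GolayPt)⁻¹ p = mkPerm L p := by
    rw [pg]
    change ((mkPerm L)⁻¹)⁻¹ p = _
    rw [inv_inv]
  rw [pm_apply, e, hv, dec, dec, idx_mkPerm hv', fld_actL]
  rw [(valid_spec hv').1]; exact idx_lt p

theorem pg_fix (L : List ℕ) (h : isM24 L = true) (p : GolayPt) (hp : L.getD (idx p) 0 = idx p) :
    ((pg L h : M24) : Equiv.Perm GolayPt) p = p := by
  change (mkPerm L)⁻¹ p = p
  rw [Equiv.Perm.inv_eq_iff_eq]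
  apply idx_injective
  rw [idx_mkPerm (valid_of_isM24 h), hp]

/-- partition of `B` into pieces contained in orbits of `D` -/
def Pcs (D : Subgroup M24) (B : Set LL) {r : ℕ} (X : Fin r → LL) (n : Fin r → ℕ) : Prop :=
  ∃ V : Fin r → Set LL, (∀ j, ∀ b ∈ V j, ∃ σ ∈ D, pm σ • X j = b) ∧ (∀ j, (V j).ncard = n j) ∧
    B = (⋃ j, V j) ∧ (∀ i j, i ≠ j → Disjoint (V i) (V j)) ∧ (∀ j, X j ∈ V j) ∧ ∀ j, (V j).Finite

/-- vector of the lattice from a function -/
noncomputable def toLL (x : E) : LL := by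
  classical exact if h : x ∈ Lam then ⟨x, mem_LL.2 h⟩ else 0

theorem toLL_coe {x : E} (h : x ∈ Lam) : ((toLL x : LL) : E) = x := by
  rw [toLL, dif_pos h]

theorem ncard_iUnion_disj {α : Type*} {r : ℕ} {V : Fin r → Set α} {n : Fin r → ℕ} (s : Finset (Fin r)) (hV : ∀ j, (V j).Finite)
    (hn : ∀ j, (V j).ncard = n j) (hd : ∀ i j, i ≠ j → Disjoint (V i) (V j)) :
    (⋃ j ∈ s, V j).Finite ∧ (⋃ j ∈ s, V j).ncard = ∑ j ∈ s, n j := by
  classical
  have hfin2 : (⋃ j ∈ s, V j).Finite := Set.Finite.biUnion s.finite_toSet fun i _ => hV i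
  refine ⟨hfin2, ?_⟩
  rw [Set.ncard_eq_toFinset_card _ hfin2]
  have e2 : hfin2.toFinset = s.biUnion fun j => (hV j).toFinset := by
    ext b; simp
  rw [e2, Finset.card_biUnion]
  · apply Finset.sum_congr rfl
    intro j _
    rw [← hn j, Set.ncard_eq_toFinset_card _ (hV j)]
  · intro j _ k _ hjk
    have := hd j k hjk
    rw [Function.onFun, Finset.disjoint_left]
    intro b hb1 hb2
    exact Set.disjoint_left.mp this ((hV j).mem_toFinset.mp hb1) ((hV k).mem_toFinset.mp hb2)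

theorem pcs_of_tables {D : Subgroup M24} {B : Set LL} (hBfin : B.Finite) {N r : ℕ} (hBc : B.ncard = N)
    (hBD : ∀ σ ∈ D, ∀ b ∈ B, pm σ • b ∈ B) (X : Fin r → LL) (hX : ∀ j, X j ∈ B) (start n : Fin r → ℕ) (e : ℕ → ℕ)
    (he : ∀ i, e i < 16 ^ 24)
    (hXe : ∀ j, (X j : E) = dec (e (start j))) (hn : ∀ j, 0 < n j)
    (hinj : ∀ i < N, ∀ j < N, e i = e j → i = j)
    (horb : ∀ j, ∀ i < n j, ∃ σ ∈ D, ((pm σ • X j : LL) : E) = dec (e (start j + i)))
    (hle : ∀ j, start j + n j ≤ N)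
    (hdis : ∀ i j, i ≠ j → start i + n i ≤ start j ∨ start j + n j ≤ start i)
    (hsum : ∑ j, n j = N) : Pcs D B X n := by
  classical
  let V : Fin r → Set LL := fun j => {b | ∃ i < n j, (b : E) = dec (e (start j + i))}
  have hmem : ∀ j, ∀ i < n j, dec (e (start j + i)) ∈ Lam := by
    intro j i hi
    obtain ⟨σ, _, h⟩ := horb j i hi
    rw [← h]; exact mem_LL.1 (pm σ • X j : LL).2
  have hVeq : ∀ j, V j = (fun i => toLL (dec (e (start j + i)))) '' (Finset.range (n j) : Set ℕ) := by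
    intro j
    ext b
    constructor
    · rintro ⟨i, hi, hb⟩
      exact ⟨i, Finset.mem_coe.2 (Finset.mem_range.2 hi), Subtype.ext (by rw [toLL_coe (hmem j i hi), hb])⟩
    · rintro ⟨i, hi, rfl⟩
      have hi' := Finset.mem_range.1 (Finset.mem_coe.1 hi)
      exact ⟨i, hi', toLL_coe (hmem j i hi')⟩
  have hVf : ∀ j, (V j).Finite := by
    intro j
    rw [hVeq]
    exact (Finset.finite_toSet _).image _
  have hVc : ∀ j, (V j).ncard = n j := by
    intro j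
    rw [hVeq, Set.InjOn.ncard_image, Set.ncard_coe_finset, Finset.card_range]
    intro i hi k hk hik
    have hi' := Finset.mem_range.1 (Finset.mem_coe.1 hi)
    have hk' := Finset.mem_range.1 (Finset.mem_coe.1 hk)
    have h1 : dec (e (start j + i)) = dec (e (start j + k)) := by
      have := congrArg Subtype.val hik
      change ((toLL (dec (e (start j + i))) : LL) : E) = ((toLL (dec (e (start j + k))) : LL) : E) at this
      rwa [toLL_coe (hmem j i hi'), toLL_coe (hmem j k hk')] at this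
    have h2 := hle j
    have := hinj _ (by omega) _ (by omega) (dec_inj (he _) (he _) h1)
    omega
  have hVd : ∀ i j, i ≠ j → Disjoint (V i) (V j) := by
    intro i j hij
    rw [Set.disjoint_left]
    rintro b ⟨a, ha, hb⟩ ⟨c, hc, hb'⟩
    have h1 := hle i
    have h2 := hle j
    have h3 := hinj _ (by omega) _ (by omega) (dec_inj (he _) (he _) (hb.symm.trans hb'))
    rcases hdis i j hij with h4 | h4 <;> omega
  have hVorb : ∀ j, ∀ b ∈ V j, ∃ σ ∈ D, pm σ • X j = b := by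
    rintro j b ⟨i, hi, hb⟩
    obtain ⟨σ, hσ, h⟩ := horb j i hi
    exact ⟨σ, hσ, Subtype.ext (h.trans hb.symm)⟩
  have hVB : ∀ j, V j ⊆ B := by
    intro j b hb
    obtain ⟨σ, hσ, rfl⟩ := hVorb j b hb
    exact hBD σ hσ _ (hX j)
  refine ⟨V, hVorb, hVc, ?_, hVd, fun j => ⟨0, hn j, by rw [hXe, add_zero]⟩, hVf⟩
  have h1 := ncard_iUnion_disj Finset.univ hVf hVc hVd
  have h2 : (⋃ j ∈ (Finset.univ : Finset (Fin r)), V j) = ⋃ j, V j := by simp
  rw [h2] at h1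
  symm
  apply Set.eq_of_subset_of_ncard_le (Set.iUnion_subset hVB) _ hBfin
  rw [h1.2, hsum, hBc]

theorem Pcs.count {D : Subgroup M24} {B : Set LL} {r : ℕ} {X : Fin r → LL} {n : Fin r → ℕ} (h : Pcs D B X n)
    (Q : LL → Prop) [DecidablePred Q] (hI : ∀ σ ∈ D, ∀ b, Q (pm σ • b) ↔ Q b) :
    {b | b ∈ B ∧ Q b}.ncard = ∑ j ∈ Finset.univ.filter (fun j => Q (X j)), n j := by
  classical
  obtain ⟨V, h1, h2, h3, h4, h5, h6⟩ := h
  rw [← (ncard_iUnion_disj (Finset.univ.filter fun j => Q (X j)) h6 h2 h4).2]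
  congr 1
  ext b
  rw [Set.mem_iUnion₂]
  constructor
  · rintro ⟨hb, hQ⟩
    rw [h3] at hb
    obtain ⟨j, hj⟩ := Set.mem_iUnion.1 hb
    refine ⟨j, ?_, hj⟩
    obtain ⟨σ, hσ, rfl⟩ := h1 j b hj
    rw [Finset.mem_filter]
    exact ⟨Finset.mem_univ _, (hI σ hσ _).1 hQ⟩
  · rintro ⟨j, hj, hb⟩
    refine ⟨by rw [h3]; exact Set.mem_iUnion.2 ⟨j, hb⟩, ?_⟩
    obtain ⟨σ, hσ, rfl⟩ := h1 j b hb
    exact (hI σ hσ _).2 (Finset.mem_filter.1 hj).2

theorem Pcs.one {D : Subgroup M24} {B : Set LL} {r : ℕ} {X : Fin r → LL} {n : Fin r → ℕ} (h : Pcs D B X n)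
    (Q : LL → Prop) (hI : ∀ σ ∈ D, ∀ b, Q (pm σ • b) ↔ Q b) (j0 : Fin r) (hj : ∀ j, Q (X j) → j = j0) {b b' : LL}
    (hb : b ∈ B) (hb' : b' ∈ B) (hQ : Q b) (hQ' : Q b') : ∃ σ ∈ D, pm σ • b = b' := by
  obtain ⟨V, h1, h2, h3, h4, h5, h6⟩ := h
  have key : ∀ c ∈ B, Q c → ∃ σ ∈ D, pm σ • X j0 = c := by
    intro c hc hQc
    rw [h3] at hc
    obtain ⟨j, hjc⟩ := Set.mem_iUnion.1 hc
    obtain ⟨σ, hσ, hs⟩ := h1 j c hjc
    have : j = j0 := hj j ((hI σ hσ _).1 (by rw [hs]; exact hQc))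
    subst this
    exact ⟨σ, hσ, hs⟩
  obtain ⟨σ, hσ, h7⟩ := key b hb hQ
  obtain ⟨τ, hτ, h8⟩ := key b' hb' hQ'
  refine ⟨τ * σ⁻¹, D.mul_mem hτ (D.inv_mem hσ), ?_⟩
  have e : pm (τ * σ⁻¹) = pm τ * (pm σ)⁻¹ := by
    have h9 : pmHom (τ * σ⁻¹) = pmHom τ * (pmHom σ)⁻¹ := by rw [map_mul, map_inv]
    exact h9
  rw [e, mul_smul, ← h7, inv_smul_smul, h8]

theorem Pcs.all {D : Subgroup M24} {B : Set LL} {r : ℕ} {X : Fin r → LL} {n : Fin r → ℕ} (h : Pcs D B X n)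
    (Q : LL → Prop) (hI : ∀ σ ∈ D, ∀ b, Q (pm σ • b) ↔ Q b) (hj : ∀ j, Q (X j)) {b : LL} (hb : b ∈ B) : Q b := by
  obtain ⟨V, h1, h2, h3, h4, h5, h6⟩ := h
  rw [h3] at hb
  obtain ⟨j, hjb⟩ := Set.mem_iUnion.1 hb
  obtain ⟨σ, hσ, rfl⟩ := h1 j b hjb
  exact (hI σ hσ _).2 (hj j)

theorem Pcs.exists {D : Subgroup M24} {B : Set LL} {r : ℕ} {X : Fin r → LL} {n : Fin r → ℕ} (h : Pcs D B X n)
    {b : LL} (hb : b ∈ B) : ∃ j, ∃ σ ∈ D, pm σ • X j = b := by
  obtain ⟨V, h1, h2, h3, h4, h5, h6⟩ := h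
  rw [h3] at hb
  obtain ⟨j, hjb⟩ := Set.mem_iUnion.1 hb
  exact ⟨j, h1 j b hjb⟩

/-! ### invariants -/

/-- the basic invariants -/
def inv3 (b : LL) : ℤ × ℤ × ℤ := ((b : E) none, (b : E) pz, ∑ k, (b : E) k)

theorem pm_sum (σ : M24) (b : LL) : ∑ k, ((pm σ • b : LL) : E) k = ∑ k, (b : E) k := by
  simp only [pm_apply]
  exact Equiv.sum_comp ((σ : Equiv.Perm GolayPt)⁻¹) (fun k => (b : E) k)

/-- the two point stabiliser -/
def D2 : Subgroup M24 := stabilizer M24 (none : GolayPt) ⊓ stabilizer M24 pz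

theorem inv3_inv {σ : M24} (hσ : σ ∈ D2) (b : LL) : inv3 (pm σ • b) = inv3 b := by
  obtain ⟨h1, h2⟩ := Subgroup.mem_inf.1 hσ
  have e1 : (σ : Equiv.Perm GolayPt)⁻¹ none = none := by rw [Equiv.Perm.inv_eq_iff_eq]; exact (show (σ : Equiv.Perm GolayPt) none = none from h1).symm
  have e2 : (σ : Equiv.Perm GolayPt)⁻¹ pz = pz := by rw [Equiv.Perm.inv_eq_iff_eq]; exact (show (σ : Equiv.Perm GolayPt) pz = pz from h2).symm
  rw [inv3, inv3, pm_sum, pm_apply, pm_apply, e1, e2]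

theorem dot_w5 (b : LL) : dotInt (w5 : E) (b : E) = 4 * (b : E) none + ∑ k, (b : E) k := by
  rw [w5_coe, dot_W5]

theorem dot_p44 (b : LL) : dotInt (p44 : E) (b : E) = 4 * (b : E) none + 4 * (b : E) pz := by
  rw [p44_coe, dot_P_left]

theorem dot_p4m (b : LL) : dotInt (p4m : E) (b : E) = 4 * (b : E) none - 4 * (b : E) pz := by
  rw [p4m_coe, dot_P_left]; ring

/-! ### averaging -/

theorem avg (A : Subgroup Co0) (F : LL →+ ℤ) (hfix : ∀ w : LL, (∀ g ∈ A, g • w = w) → F w = 0) (x : LL) :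
    ∃ s : Finset LL, x ∈ s ∧ (∀ y ∈ s, ∃ g ∈ A, g • x = y) ∧ ∑ y ∈ s, F y = 0 := by
  classical
  have hf : (orbit A x).Finite := Set.finite_range _
  refine ⟨hf.toFinset, by rw [Set.Finite.mem_toFinset]; exact mem_orbit_self x, ?_, ?_⟩
  · intro y hy
    rw [Set.Finite.mem_toFinset] at hy
    obtain ⟨⟨g, hg⟩, rfl⟩ := hy
    exact ⟨g, hg, rfl⟩
  · rw [← map_sum]
    apply hfix
    intro g hg
    rw [act_sum]
    apply Finset.sum_nbij' (fun y => g • y) (fun y => g⁻¹ • y)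
    · intro y hy
      rw [Set.Finite.mem_toFinset] at hy ⊢
      obtain ⟨⟨h, hh⟩, rfl⟩ := hy
      exact ⟨⟨g * h, A.mul_mem hg hh⟩, mul_smul g h x⟩
    · intro y hy
      rw [Set.Finite.mem_toFinset] at hy ⊢
      obtain ⟨⟨h, hh⟩, rfl⟩ := hy
      exact ⟨⟨g⁻¹ * h, A.mul_mem (A.inv_mem hg) hh⟩, mul_smul g⁻¹ h x⟩
    · intro y _; exact inv_smul_smul _ _
    · intro y _; exact smul_inv_smul _ _
    · intro y _; rfl

/-- transitivity from signs -/
theorem trans_of_sign (A : Subgroup Co0) (F : LL →+ ℤ) (hfix : ∀ w : LL, (∀ g ∈ A, g • w = w) → F w = 0)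
    (S : Set LL) (hS : ∀ g ∈ A, ∀ x ∈ S, g • x ∈ S) (hne : ∀ x ∈ S, F x ≠ 0)
    (hD : ∀ x ∈ S, ∀ y ∈ S, F x < 0 → F y < 0 → ∃ g ∈ A, g • x = y) : ∀ x ∈ S, ∀ y ∈ S, ∃ g ∈ A, g • x = y := by
  have key : ∀ x ∈ S, ∃ g ∈ A, F (g • x) < 0 := by
    intro x hx
    by_contra hcon
    push Not at hcon
    obtain ⟨s, hxs, hs, hsum⟩ := avg A F hfix x
    have hpos : ∀ y ∈ s, 0 < F y := by
      intro y hy
      obtain ⟨g, hg, rfl⟩ := hs y hy
      exact lt_of_le_of_ne (hcon g hg) (Ne.symm (hne _ (hS g hg x hx)))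
    have := Finset.sum_pos hpos ⟨x, hxs⟩
    omega
  intro x hx y hy
  obtain ⟨g, hg, h1⟩ := key x hx
  obtain ⟨h, hh, h2⟩ := key y hy
  obtain ⟨k, hk, h3⟩ := hD _ (hS g hg x hx) _ (hS h hh y hy) h1 h2
  refine ⟨h⁻¹ * k * g, A.mul_mem (A.mul_mem (A.inv_mem hh) hk) hg, ?_⟩
  rw [mul_smul, mul_smul, h3, inv_smul_smul]

end CfsgLib.Co
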