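import Cfsg.Agent.EqBase
import Mathlib
import Cfsg.Agent.LibCoT

/-!
Tables: generators.
-/

set_option autoImplicit false
set_option linter.constructorNameAsVariable false

namespace CfsgLib.Co

open Cfsg CfsgLib.Golay CfsgLib.M24 CfsgLib.Leech CfsgLib.Frame MulAction
open CfsgLib.OrbM28 (gt gt_le allB allB_spec chk chk_sound srt inj_of_srt)

/-- mask -/
def M96 : ℕ := 79228162514264337593543950335

theorem gt_lt (T i : ℕ) : gt 96 M96 T i < 16 ^ 24 := lt_of_le_of_lt (gt_le _ _ _ _) (by norm_num [M96])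

/-- membership check -/
def chkL (k : ℕ) (m : ℤ) (k0 : ℕ) : Bool :=
  decide (∀ p : GolayPt, (dec k p - m - 2 * lf (word (cw k0) p)) % 4 = 0) &&
    decide ((∑ p : GolayPt, (dec k p - m - 2 * lf (word (cw k0) p)) / 4 - m) % 2 = 0)

theorem lam_of_chkL {k : ℕ} {m : ℤ} {k0 : ℕ} (h : chkL k m k0 = true) : dec k ∈ Lam := by
  rw [chkL, Bool.and_eq_true, decide_eq_true_eq, decide_eq_true_eq] at h
  refine ⟨m, word (cw k0), fun p => (dec k p - m - 2 * lf (word (cw k0) p)) / 4, word_cw_mem k0, fun p => ?_, ?_⟩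
  · have := h.1 p
    beta_reduce
    omega
  · exact Int.dvd_of_emod_eq_zero h.2

/-- generator of the two point stabiliser -/
def LD0 : List ℕ := [0, 9, 4, 15, 6, 11, 10, 7, 20, 21, 2, 5, 16, 1, 18, 8, 17, 22, 14, 19, 3, 13, 12, 23]
/-- generator of the two point stabiliser -/
def LD1 : List ℕ := [0, 11, 12, 18, 14, 2, 4, 21, 22, 17, 15, 19, 13, 9, 1, 20, 3, 8, 6, 7, 5, 16, 10, 23]
/-- generator of the three point stabiliser -/
def LE0 : List ℕ := [0, 1, 22, 17, 15, 7, 20, 5, 8, 2, 16, 19, 9, 21, 11, 4, 3, 10, 14, 18, 13, 6, 12, 23]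
/-- generator of the three point stabiliser -/
def LE1 : List ℕ := [0, 1, 2, 14, 19, 3, 18, 11, 4, 15, 10, 22, 13, 21, 5, 20, 6, 17, 16, 8, 9, 12, 7, 23]

theorem LD0_ok : isM24 LD0 = true := by decide +kernel
theorem LD1_ok : isM24 LD1 = true := by decide +kernel
theorem LE0_ok : isM24 LE0 = true := by decide +kernel
theorem LE1_ok : isM24 LE1 = true := by decide +kernel

/-- the three point stabiliser -/
def D3 : Subgroup M24 := D2 ⊓ stabilizer M24 po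

theorem gD0_mem : pg LD0 LD0_ok ∈ D2 := Subgroup.mem_inf.2 ⟨pg_fix _ _ _ (by decide), pg_fix _ _ _ (by decide)⟩
theorem gD1_mem : pg LD1 LD1_ok ∈ D2 := Subgroup.mem_inf.2 ⟨pg_fix _ _ _ (by decide), pg_fix _ _ _ (by decide)⟩
theorem gE0_mem : pg LE0 LE0_ok ∈ D3 := Subgroup.mem_inf.2 ⟨Subgroup.mem_inf.2 ⟨pg_fix _ _ _ (by decide),
  pg_fix _ _ _ (by decide)⟩, pg_fix _ _ _ (by decide)⟩
theorem gE1_mem : pg LE1 LE1_ok ∈ D3 := Subgroup.mem_inf.2 ⟨Subgroup.mem_inf.2 ⟨pg_fix _ _ _ (by decide),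
  pg_fix _ _ _ (by decide)⟩, pg_fix _ _ _ (by decide)⟩

/-- action of the generators -/
def actD (j k : ℕ) : ℕ := cond (Nat.beq j 0) (actL LD0 k) (actL LD1 k)
/-- action of the generators -/
def actE (j k : ℕ) : ℕ := cond (Nat.beq j 0) (actL LE0 k) (actL LE1 k)

theorem step_act {D : Subgroup M24} {L0 L1 : List ℕ} (h0 : isM24 L0 = true) (h1 : isM24 L1 = true)
    (m0 : pg L0 h0 ∈ D) (m1 : pg L1 h1 ∈ D) (X : LL) (j k : ℕ) (hk : ∃ σ ∈ D, ((pm σ • X : LL) : E) = dec k) :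
    ∃ σ ∈ D, ((pm σ • X : LL) : E) = dec (cond (Nat.beq j 0) (actL L0 k) (actL L1 k)) := by
  obtain ⟨σ, hσ, h⟩ := hk
  have hmul : ∀ a b : M24, pm (a * b) = pm a * pm b := fun a b => map_mul pmHom a b
  cases Nat.beq j 0 with
  | true =>
    refine ⟨pg L0 h0 * σ, D.mul_mem m0 hσ, ?_⟩
    rw [hmul, mul_smul]
    exact pm_pg L0 h0 _ _ h
  | false =>
    refine ⟨pg L1 h1 * σ, D.mul_mem m1 hσ, ?_⟩
    rw [hmul, mul_smul]
    exact pm_pg L1 h1 _ _ h

theorem horb_of_chk {D : Subgroup M24} {L0 L1 : List ℕ} (h0 : isM24 L0 = true) (h1 : isM24 L1 = true)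
    (m0 : pg L0 h0 ∈ D) (m1 : pg L1 h1 ∈ D) {Et T s n l : ℕ} (hn : n ≤ 2 ^ l)
    (h : allB (chk (fun j k => cond (Nat.beq j 0) (actL L0 k) (actL L1 k)) 2 96 M96 Et T s n) l 0 = true)
    (X : LL) (hX : (X : E) = dec (gt 96 M96 Et s)) : ∀ i < n, ∃ σ ∈ D, ((pm σ • X : LL) : E) = dec (gt 96 M96 Et (s + i)) :=
  chk_sound hn h (fun k => ∃ σ ∈ D, ((pm σ • X : LL) : E) = dec k)
    ⟨1, D.one_mem, by
      have : pm (1 : M24) = 1 := map_one pmHom
      rw [this, one_smul, hX]⟩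
    (fun j _ k _ hk => step_act h0 h1 m0 m1 X j k hk)


end CfsgLib.Co
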