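import Cfsg.Agent.EqBase
import Cfsg.Agent.LibTCQ
import Cfsg.Agent.LibTC7
set_option autoImplicit false
set_option linter.all false

/-! Sifting through a stabilizer chain, centralizers, and automorphisms. -/

namespace CfsgLib.TC
open Cfsg.Spor

section sift
variable {C : Type} {G : Type*} [Group G] {L : Tr ℕ} {stp : C → ℕ → ℕ} {inv : C → C}

/-- force the evaluation of a number -/
noncomputable def nf {β : Type} (n : ℕ) (k : ℕ → β) : β := Nat.rec (motive := fun _ => β) (k 0) (fun m _ => k (Nat.succ m)) n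
theorem nf_eq {β : Type} (n : ℕ) (k : ℕ → β) : nf n k = k n := by cases n <;> rfl

/-- force the evaluation of `l.map f` -/
noncomputable def nfl {β : Type} (f : ℕ → ℕ) (l : List ℕ) : (List ℕ → β) → β :=
  List.rec (motive := fun _ => (List ℕ → β) → β) (fun k => k []) (fun a _ ih k => nf (f a) fun a' => ih fun l' => k (a' :: l')) l
theorem nfl_eq {β : Type} (f : ℕ → ℕ) (l : List ℕ) : ∀ k : List ℕ → β, nfl f l k = k (l.map f) := by
  induction l with
  | nil => intro k; rfl
  | cons a l ih =>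
    intro k
    have : nfl f (a :: l) k = nf (f a) fun a' => nfl f l fun l' => k (a' :: l') := rfl
    rw [this, nf_eq, ih]; rfl

/-- equality of lists of numbers -/
noncomputable def eqL (l : List ℕ) : List ℕ → Bool :=
  List.rec (motive := fun _ => List ℕ → Bool) (fun m => List.rec (motive := fun _ => Bool) true (fun _ _ _ => false) m)
    (fun a _ ih m => List.rec (motive := fun _ => Bool) false (fun b m' _ => Bool.rec (motive := fun _ => Bool) false (ih m') (Nat.beq a b)) m) l
theorem eqL_refl (l : List ℕ) : eqL l l = true := by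
  induction l with
  | nil => rfl
  | cons a l ih =>
    have : eqL (a :: l) (a :: l) = Bool.rec (motive := fun _ => Bool) false (eqL l l) (Nat.beq a a) := rfl
    rw [this, show Nat.beq a a = true from Nat.beq_refl a]; exact ih

/-- a level of the chain: base point, membership test for the orbit, word index, inverse words -/
structure Lv (C : Type) where
  b : ℕ
  mt : ℕ → Bool
  HW : ℕ → ℕ
  WI : List (List C)

noncomputable def dnC (stp : C → ℕ → ℕ) (lv : Lv C) (k : List ℕ → Bool) (fuel : ℕ) : ℕ → List ℕ → Bool :=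
  Nat.rec (motive := fun _ => ℕ → List ℕ → Bool) (fun _ _ => true)
    (fun _ ih p rs => Bool.rec (motive := fun _ => Bool)
      (nf (lv.HW p) fun j => nf (walk stp (nthR lv.WI j) p) fun p' => nfl (walk stp (nthR lv.WI j)) rs fun rs' => ih p' rs')
      (k rs) (Nat.beq p lv.b)) fuel

noncomputable def siftC (stp : C → ℕ → ℕ) (fuel : ℕ) (es : List ℕ) (lvs : List (Lv C)) : List ℕ → Bool :=
  List.rec (motive := fun _ => List ℕ → Bool) (fun rs => eqL rs es)
    (fun lv _ ih rs => List.rec (motive := fun _ => Bool) true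
      (fun p rs' _ => Bool.rec (motive := fun _ => Bool) false (dnC stp lv ih fuel p rs') (lv.mt p)) rs) lvs

/-- correctness data for a chain -/
inductive Good (φ : G →* Equiv.Perm (Om L)) (g : C → G) : List ℕ → List (Lv C) → Prop
  | nil (bs : List ℕ) (h : ∀ u ∈ stabN φ bs, u = 1) : Good φ g bs []
  | cons (bs : List ℕ) (lv : Lv C) (ls : List (Lv C)) (hb : lv.b ∈ L.toList)
      (h1 : ∀ u ∈ stabN φ bs, lv.mt (φ u ⟨lv.b, hb⟩).1 = true)
      (h2 : ∀ w ∈ lv.WI, gw g w ∈ stabN φ bs) (h : Good φ g (lv.b :: bs) ls) : Good φ g bs (lv :: ls)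

theorem dnC_true (hc : Closed L stp inv) (φ : G →* Equiv.Perm (Om L)) (g : C → G) (hφ : ∀ c, φ (g c) = hc.perm c)
    (S : Subgroup G) (lv : Lv C) (hb : lv.b ∈ L.toList) (h2 : ∀ w ∈ lv.WI, gw g w ∈ S) (k : List ℕ → Bool) (cs : List (Om L))
    (hk : ∀ u ∈ S, φ u ⟨lv.b, hb⟩ = ⟨lv.b, hb⟩ → k (cs.map fun c => (φ u c).1) = true) :
    ∀ (fuel : ℕ) (u : G), u ∈ S → dnC stp lv k fuel (φ u ⟨lv.b, hb⟩).1 (cs.map fun c => (φ u c).1) = true := by
  intro fuel
  induction fuel with
  | zero => intro u _; rfl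
  | succ n ih =>
    intro u hu
    have e : dnC stp lv k (n+1) (φ u ⟨lv.b, hb⟩).1 (cs.map fun c => (φ u c).1) = Bool.rec (motive := fun _ => Bool)
      (nf (lv.HW (φ u ⟨lv.b, hb⟩).1) fun j => nf (walk stp (nthR lv.WI j) (φ u ⟨lv.b, hb⟩).1) fun p' =>
        nfl (walk stp (nthR lv.WI j)) (cs.map fun c => (φ u c).1) fun rs' => dnC stp lv k n p' rs')
      (k (cs.map fun c => (φ u c).1)) (Nat.beq (φ u ⟨lv.b, hb⟩).1 lv.b) := rfl
    rw [e]
    cases h3 : Nat.beq (φ u ⟨lv.b, hb⟩).1 lv.b
    · show (nf _ fun j => _) = true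
      rw [nf_eq, nf_eq, nfl_eq]
      have hw : gw g (nthR lv.WI (lv.HW (φ u ⟨lv.b, hb⟩).1)) ∈ S := by
        rcases nthR_mem lv.WI (lv.HW (φ u ⟨lv.b, hb⟩).1) with h | h
        · rw [h]; exact S.one_mem
        · exact h2 _ h
      have h4 := ih (gw g (nthR lv.WI (lv.HW (φ u ⟨lv.b, hb⟩).1)) * u) (S.mul_mem hw hu)
      rw [map_mul] at h4
      simp only [Equiv.Perm.mul_apply, phi_gw hc φ g hφ] at h4
      rw [List.map_map]
      exact h4
    · exact hk u hu (Subtype.ext (Nat.eq_of_beq_eq_true h3))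

theorem sift_true (hc : Closed L stp inv) (φ : G →* Equiv.Perm (Om L)) (g : C → G) (hφ : ∀ c, φ (g c) = hc.perm c)
    (fuel : ℕ) (es : List (Om L)) : ∀ (lvs : List (Lv C)) (bs : List ℕ), Good φ g bs lvs → ∀ (cs : List (Om L)),
      cs.map Subtype.val = lvs.map Lv.b → ∀ u ∈ stabN φ bs,
      siftC stp fuel (es.map Subtype.val) lvs ((cs ++ es).map fun c => (φ u c).1) = true := by
  intro lvs
  induction lvs with
  | nil =>
    intro bs hG cs hcs u hu
    cases hG with
    | nil _ h =>
      have h1 := h u hu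
      subst h1
      have h2 : cs = [] := by
        have := congrArg List.length hcs
        simpa using this
      subst h2
      show eqL _ _ = true
      have : (([] ++ es).map fun c => (φ (1 : G) c).1) = es.map Subtype.val := by
        rw [List.nil_append]
        apply List.map_congr_left
        intro a _
        rw [map_one]; rfl
      rw [this]
      exact eqL_refl _
  | cons lv ls ih =>
    intro bs hG cs hcs u hu
    cases hG with
    | cons _ _ _ hb h1 h2 h =>
      match cs, hcs with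
      | c :: cs', hcs =>
        rw [List.map_cons, List.map_cons, List.cons.injEq] at hcs
        have hcb : c = ⟨lv.b, hb⟩ := Subtype.ext hcs.1
        subst hcb
        show Bool.rec (motive := fun _ => Bool) false (dnC stp lv (siftC stp fuel (es.map Subtype.val) ls) fuel (φ u ⟨lv.b, hb⟩).1
          ((cs' ++ es).map fun c => (φ u c).1)) (lv.mt (φ u ⟨lv.b, hb⟩).1) = true
        rw [h1 u hu]
        apply dnC_true hc φ g hφ (stabN φ bs) lv hb h2 _ (cs' ++ es) _ fuel u hu
        intro u' hu' hfix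
        apply ih (lv.b :: bs) h cs' hcs.2
        intro b' hb' h'
        rcases List.mem_cons.1 hb' with rfl | hb''
        · exact hfix
        · exact hu' b' hb'' h'

/-- exact orbits from exact orders -/
theorem lev_exact [Finite G] (hc : Closed L stp inv) (φ : G →* Equiv.Perm (Om L)) (g : C → G)
    (hφ : ∀ c, φ (g c) = hc.perm c) (bs : List ℕ) (b : ℕ) {LB : Tr ℕ} {HP HR HW : ℕ → ℕ} {WL : List (List C)}
    {lo hi : ℕ} (hbst : bst LB lo hi = true) (hsub : Tr.all (mem L) LB = true) (hb : mem L b = true)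
    (hfix : lall (fun w => lall (fun b => Nat.beq (walk stp w b) b) bs) WL = true)
    (htree : Tr.all (treeP LB stp HP HR HW WL (fun q => Nat.beq b q)) LB = true)
    {m n : ℕ} (hm : m ≤ Nat.card (stabN φ (b :: bs))) (hn : size LB = n) (hm0 : 0 < m) (hn0 : 0 < n)
    (hcard : Nat.card (stabN φ bs) ≤ n * m) :
    (∀ u ∈ stabN φ bs, (φ u ⟨b, mem_sound hb⟩).1 ∈ LB.toList) ∧ Nat.card (stabN φ (b :: bs)) ≤ m := by
  classical
  have hWL : ∀ w ∈ WL, gw g w ∈ stabN φ bs := by
    intro w hw b' hb' h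
    have h1 := (lall_iff _ _).1 ((lall_iff _ _).1 hfix w hw) b' hb'
    exact Subtype.ext (by rw [phi_gw hc φ g hφ]; exact Nat.eq_of_beq_eq_true h1)
  have hsub' : ∀ q ∈ LB.toList, q ∈ L.toList := fun q hq => mem_sound ((Tr.all_iff _ _).1 hsub q hq)
  have hbL := mem_sound hb
  have hnd : LB.toList.Nodup := (bst_sound LB _ _ hbst).2.imp (fun h => Nat.ne_of_lt h)
  have h2 : {q : Om L | q.1 ∈ LB.toList}.ncard = n := by
    rw [← hn, size_eq, ← Set.ncard_image_of_injective _ Subtype.val_injective]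
    have : Subtype.val '' {q : Om L | q.1 ∈ LB.toList} = (LB.toList.toFinset : Set ℕ) := by
      ext x
      rw [Finset.mem_coe, List.mem_toFinset]
      constructor
      · rintro ⟨q, hq, rfl⟩; exact hq
      · intro h; exact ⟨⟨x, hsub' x h⟩, h, rfl⟩
    rw [this, Set.ncard_coe_finset, List.toFinset_card_of_nodup hnd]
  have hreach : ∀ q : Om L, q.1 ∈ LB.toList → ∃ s ∈ stabN φ bs, φ s ⟨b, hbL⟩ = q := by
    intro q hq
    obtain ⟨r, _, hr, x, hx, hxr⟩ := tree_sound hc φ g hφ hsub' (stabN φ bs) hWL htree q hq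
    have hr' : r = ⟨b, hbL⟩ := Subtype.ext (Nat.eq_of_beq_eq_true hr).symm
    subst hr'
    exact ⟨x, hx, hxr⟩
  have hT : ∀ x, x ∈ stabN φ (b :: bs) ↔ x ∈ stabN φ bs ∧ φ x ⟨b, hbL⟩ = ⟨b, hbL⟩ := by
    intro x
    rw [mem_stabN, mem_stabN]
    constructor
    · intro h
      exact ⟨fun b' hb' h' => h b' (List.mem_cons_of_mem _ hb') h', h b List.mem_cons_self hbL⟩
    · rintro ⟨h2, h3⟩ b' hb' h'
      rcases List.mem_cons.1 hb' with rfl | hb'
      · exact h3
      · exact h2 b' hb' h'
  have hsize : ∀ (k : ℕ), k ≤ Nat.card (stabN φ (b :: bs)) → n * k ≤ Nat.card (stabN φ bs) := by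
    intro k hk
    have := card_step φ (stabN φ bs) ⟨b, hbL⟩ {q : Om L | q.1 ∈ LB.toList} (fun q hq => hreach q hq) (stabN φ (b :: bs)) hT k hk
    rwa [h2] at this
  refine ⟨?_, ?_⟩
  · intro u hu
    by_contra hne
    have h3 := card_step φ (stabN φ bs) ⟨b, hbL⟩ (insert (φ u ⟨b, hbL⟩) {q : Om L | q.1 ∈ LB.toList}) (by
      intro q hq
      rcases hq with rfl | hq
      · exact ⟨u, hu, rfl⟩
      · exact hreach q hq) (stabN φ (b :: bs)) hT m hm
    rw [Set.ncard_insert_of_notMem (by exact hne) (Set.finite_of_ncard_ne_zero (by rw [h2]; omega)), h2] at h3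
    have h4 : (n + 1) * m ≤ n * m := le_trans h3 hcard
    have h5 : (n + 1) * m = n * m + m := by ring
    omega
  · have h3 := hsize _ le_rfl
    have h4 : n * Nat.card (stabN φ (b :: bs)) ≤ n * m := le_trans h3 hcard
    exact Nat.le_of_mul_le_mul_left h4 hn0

theorem mt_of_orbit {LB : Tr ℕ} (h : Tr.all (mem LB) LB = true) {q : ℕ} (hq : q ∈ LB.toList) : mem LB q = true :=
  (Tr.all_iff _ _).1 h q hq

/-- iterate a map on labels -/
noncomputable def itN (T : ℕ → ℕ) (i : ℕ) (q : ℕ) : ℕ := Nat.rec (motive := fun _ => ℕ → ℕ) (fun q => q) (fun _ ih q => nf (T q) ih) i q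
theorem itN_zero (T : ℕ → ℕ) (q : ℕ) : itN T 0 q = q := rfl
theorem itN_succ (T : ℕ → ℕ) (i q : ℕ) : itN T (i+1) q = itN T i (T q) := by
  show nf (T q) _ = _
  rw [nf_eq]; rfl

theorem phi_pow (φ : G →* Equiv.Perm (Om L)) (x : G) (T : ℕ → ℕ) (hT : ∀ q : Om L, (φ x q).1 = T q.1) (i : ℕ) :
    ∀ q : Om L, (φ (x ^ i) q).1 = itN T i q.1 := by
  induction i with
  | zero => intro q; rw [pow_zero, map_one, itN_zero]; rfl
  | succ i ih =>
    intro q
    rw [pow_succ, map_mul, Equiv.Perm.mul_apply, ih, hT, itN_succ]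

/-- the sift test attached to a point -/
noncomputable def SCq (stp : C → ℕ → ℕ) (fuel : ℕ) (es : List ℕ) (lvs : List (Lv C)) (T : ℕ → ℕ) (exs : List ℕ) (q : ℕ) : Bool :=
  nfl (fun i => itN T i q) exs (fun rs => siftC stp fuel es lvs rs)

/-- base transport: the word `W` carries the base and the extra points to the `x`-orbit of `b` -/
noncomputable def trB (stp : C → ℕ → ℕ) (W : List C) (T : ℕ → ℕ) (b : ℕ) (cs exs : List ℕ) : Bool :=
  eqL (cs.map (walk stp W)) (exs.map (fun i => itN T i b))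

theorem eqL_sound (l : List ℕ) : ∀ m, eqL l m = true → l = m := by
  induction l with
  | nil =>
    intro m h
    cases m with
    | nil => rfl
    | cons a m => exact absurd h (by simp [eqL])
  | cons a l ih =>
    intro m h
    cases m with
    | nil => exact absurd h (by simp [eqL])
    | cons b m =>
      have e : eqL (a :: l) (b :: m) = Bool.rec (motive := fun _ => Bool) false (eqL l m) (Nat.beq a b) := rfl
      rw [e] at h
      cases hb : Nat.beq a b
      · rw [hb] at h; exact absurd h (by simp)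
      · rw [hb] at h
        rw [Nat.eq_of_beq_eq_true hb, ih m h]

/-- data for the centralizer of `x` -/
structure CData (φ : G →* Equiv.Perm (Om L)) (g : C → G) (hc : Closed L stp inv) (lvs : List (Lv C)) (x : G) (T : ℕ → ℕ)
    (b : ℕ) (W : List C) (es exs : List ℕ) : Prop where
  hT : ∀ q : Om L, (φ x q).1 = T q.1
  hb : b ∈ L.toList
  hcs : ∀ a ∈ lvs.map Lv.b, a ∈ L.toList
  hes : ∀ a ∈ es, a ∈ L.toList
  hW : trB stp W T b (lvs.map Lv.b ++ es) exs = true

variable {φ : G →* Equiv.Perm (Om L)} {g : C → G} {hc : Closed L stp inv} {lvs : List (Lv C)} {x : G} {T : ℕ → ℕ}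
  {b : ℕ} {W : List C} {es exs : List ℕ}

theorem attach_val (l : List ℕ) (h : ∀ a ∈ l, a ∈ L.toList) : ∃ m : List (Om L), m.map Subtype.val = l := by
  induction l with
  | nil => exact ⟨[], rfl⟩
  | cons a l ih =>
    obtain ⟨m, hm⟩ := ih (fun a' ha' => h a' (List.mem_cons_of_mem _ ha'))
    exact ⟨⟨a, h a List.mem_cons_self⟩ :: m, by rw [List.map_cons, hm]⟩

theorem CData.sift (d : CData φ g hc lvs x T b W es exs) (hφ : ∀ c, φ (g c) = hc.perm c) (hG : Good φ g [] lvs) (fuel : ℕ)
    (c : G) (hcx : c * x = x * c) : SCq stp fuel es lvs T exs (φ c ⟨b, d.hb⟩).1 = true := by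
  obtain ⟨cs, hcs⟩ := attach_val _ d.hcs
  obtain ⟨es', hes⟩ := attach_val _ d.hes
  have h1 := sift_true hc φ g hφ fuel es' lvs [] hG cs hcs (c * gw g W) (by intro b hb; exact absurd hb (by simp))
  unfold SCq
  rw [nfl_eq]
  rw [hes] at h1
  have h2 : ((cs ++ es').map fun a => (φ (c * gw g W) a).1) = exs.map (fun i => itN T i (φ c ⟨b, d.hb⟩).1) := by
    have h3 := eqL_sound _ _ d.hW
    rw [← hcs, ← hes, ← List.map_append, List.map_map] at h3
    -- both sides as images of Om-valued lists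
    have h4 : (cs ++ es').map (fun a => φ (gw g W) a) = exs.map (fun i => φ (x ^ i) ⟨b, d.hb⟩) := by
      apply List.map_injective_iff.2 Subtype.val_injective
      rw [List.map_map, List.map_map]
      have e1 : (Subtype.val ∘ fun a => φ (gw g W) a) = (walk stp W ∘ Subtype.val : Om L → ℕ) := by
        funext a; exact phi_gw hc φ g hφ W a
      have e2 : (Subtype.val ∘ fun i => φ (x ^ i) ⟨b, d.hb⟩) = fun i => itN T i b := by
        funext i; exact phi_pow φ x T d.hT i _
      rw [e1, e2]; exact h3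
    have h5 : (cs ++ es').map (fun a => (φ (c * gw g W) a).1) = ((cs ++ es').map (fun a => φ (gw g W) a)).map (fun a => (φ c a).1) := by
      rw [List.map_map]
      apply List.map_congr_left
      intro a _
      rw [map_mul]; rfl
    rw [h5, h4, List.map_map]
    apply List.map_congr_left
    intro i _
    show (φ c (φ (x ^ i) ⟨b, d.hb⟩)).1 = _
    rw [← phi_pow φ x T d.hT i, ← Equiv.Perm.mul_apply, ← Equiv.Perm.mul_apply, ← map_mul, ← map_mul]
    have : Commute c (x ^ i) := (show Commute c x from hcx).pow_right i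
    rw [this.eq]
  rw [← h2]; exact h1

theorem good_bot (hG : Good φ g [] lvs) : ∀ u : G, (∀ b ∈ lvs.map Lv.b, ∀ h : b ∈ L.toList, φ u ⟨b, h⟩ = ⟨b, h⟩) → u = 1 := by
  have key : ∀ (bs : List ℕ) (lvs : List (Lv C)), Good φ g bs lvs → ∀ u ∈ stabN φ bs,
      (∀ b ∈ lvs.map Lv.b, ∀ h : b ∈ L.toList, φ u ⟨b, h⟩ = ⟨b, h⟩) → u = 1 := by
    intro bs lvs hG
    induction hG with
    | nil bs h => intro u hu _; exact h u hu
    | cons bs lv ls hb h1 h2 h ih =>
      intro u hu hfix
      apply ih u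
      · intro b' hb' h'
        rcases List.mem_cons.1 hb' with rfl | hb''
        · exact hfix _ (by simp) _
        · exact hu b' hb'' h'
      · intro b' hb'
        exact hfix b' (by simp only [List.map_cons, List.mem_cons]; exact Or.inr hb')
  intro u hu
  exact key [] lvs hG u (by intro b hb; exact absurd hb (by simp)) hu

/-- elements agreeing on the base are equal -/
theorem eq_of_base (hG : Good φ g [] lvs) (u v : G) (h : ∀ b ∈ lvs.map Lv.b, ∀ h : b ∈ L.toList, (φ u ⟨b, h⟩).1 = (φ v ⟨b, h⟩).1) : u = v := by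
  have h1 : v⁻¹ * u = 1 := by
    apply good_bot hG
    intro b hb hL
    rw [map_mul, map_inv, Equiv.Perm.mul_apply, Subtype.ext (h b hb hL)]
    exact Equiv.symm_apply_apply _ _
  rw [← mul_one v, ← h1, mul_inv_cancel_left]

theorem CData.eq_of (d : CData φ g hc lvs x T b W es exs) (hφ : ∀ c, φ (g c) = hc.perm c) (hG : Good φ g [] lvs)
    (c e : G) (hcx : c * x = x * c) (hex : e * x = x * e) (h : (φ c ⟨b, d.hb⟩).1 = (φ e ⟨b, d.hb⟩).1) : c = e := by
  have h1 : c * gw g W = e * gw g W := by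
    apply eq_of_base hG
    intro a ha hL
    obtain ⟨cs, hcs⟩ := attach_val _ d.hcs
    obtain ⟨es', hes⟩ := attach_val _ d.hes
    have h3 := eqL_sound _ _ d.hW
    have h4 : walk stp W a ∈ (lvs.map Lv.b ++ es).map (walk stp W) := List.mem_map_of_mem (List.mem_append_left _ ha)
    rw [h3, List.mem_map] at h4
    obtain ⟨i, _, hi⟩ := h4
    have h5 : φ (gw g W) ⟨a, hL⟩ = φ (x ^ i) ⟨b, d.hb⟩ := Subtype.ext (by
      rw [phi_gw hc φ g hφ, phi_pow φ x T d.hT i]; exact hi.symm)
    have key : ∀ c : G, c * x = x * c → φ (c * gw g W) ⟨a, hL⟩ = φ (x ^ i) (φ c ⟨b, d.hb⟩) := by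
      intro c hcx
      rw [map_mul, Equiv.Perm.mul_apply, h5, ← Equiv.Perm.mul_apply, ← Equiv.Perm.mul_apply, ← map_mul, ← map_mul]
      have : Commute c (x ^ i) := (show Commute c x from hcx).pow_right i
      rw [this.eq]
    rw [key c hcx, key e hex, Subtype.ext h]
  exact mul_right_cancel h1

end sift
end CfsgLib.TC
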