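import Cfsg.Agent.EqBase
import Cfsg.Agent.LibTCAut
import Cfsg.Prelude.Def_KGroupFacts
set_option autoImplicit false
set_option linter.all false

/-! Automorphisms: normalisation on a chain `x, y, s`. -/

namespace CfsgLib.TC
open Subgroup

theorem zpowers_eq_of_mem {G : Type*} [Group G] [Finite G] {a b : G} (h : a ∈ zpowers b) (ho : orderOf a = orderOf b) : b ∈ zpowers a := by
  have h1 : zpowers a ≤ zpowers b := by rwa [zpowers_le]
  have h2 : zpowers a = zpowers b := by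
    apply Subgroup.eq_of_le_of_card_ge h1
    rw [Nat.card_zpowers, Nat.card_zpowers, ho]
  rw [h2]; exact mem_zpowers b

theorem comm_of_zpowers {G : Type*} [Group G] {a b c : G} (h : b ∈ zpowers a) (hc : c * a = a * c) : c * b = b * c := by
  obtain ⟨k, rfl⟩ := mem_zpowers_iff.1 h
  exact ((show Commute c a from hc).zpow_right k).eq

theorem aut_norm2 {G : Type*} [Group G] [Finite G] {p M q : ℕ} [Fact p.Prime] {x y s : G} {r m : ℕ}
    (hM : orderOf x = M) (hM0 : 0 < M) (hpq : M = q * p) (hcard : ¬ p ^ 2 ∣ Nat.card G)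
    (hcx : ∀ c : G, c * x ^ q = x ^ q * c → ∃ i : ℕ, c = x ^ i)
    (hyx : y * x = x ^ r * y)
    (hconj : ∀ i < M, (∃ a < M, (a + r * i) % M = (r * a) % M) ∨ ∃ d : ℕ, y ^ d = 1 ∧ (y * x ^ i) ^ d ≠ 1)
    (hsy : s * y = y ^ m * s) (K0 : List ℕ) (hK : ∀ k < M, Nat.Coprime M k → ∃ j < M, ∃ k0 ∈ K0, (r ^ j * k) % M = k0)
    (α : MulAut G) : ∃ g : G, ∃ k ∈ K0, ∃ z : G, z * y = y * z ∧ g * α x * g⁻¹ = x ^ k ∧ g * α y * g⁻¹ = y ∧
      g * α s * g⁻¹ = s * z := by
  classical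
  have hp : p.Prime := Fact.out
  have hq0 : 0 < q := by
    rcases Nat.eq_zero_or_pos q with h | h
    · rw [h, zero_mul] at hpq; omega
    · exact h
  have hmod : ∀ n : ℕ, x ^ (n % M) = x ^ n := fun n => by rw [← hM]; exact pow_mod_orderOf x n
  have hx0 : orderOf (x ^ q) = p := by
    rw [orderOf_pow_of_dvd hq0.ne' (by rw [hM, hpq]; exact dvd_mul_right _ _), hM, hpq]
    exact Nat.mul_div_cancel_left _ hq0
  have hfac : (Nat.card G).factorization p = 1 := by
    have h1 : p ∣ Nat.card G := hx0 ▸ orderOf_dvd_natCard (x ^ q)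
    have hne : Nat.card G ≠ 0 := Nat.card_pos.ne'
    have h2 : 1 ≤ (Nat.card G).factorization p := (hp.dvd_iff_one_le_factorization hne).1 h1
    by_contra hcon
    apply hcard
    rw [hp.pow_dvd_iff_le_factorization hne]; omega
  have ho : orderOf (α (x ^ q)) = p := by rw [← hx0]; exact orderOf_injective α.toMonoidHom α.injective _
  let Q1 : Sylow p G := Sylow.ofCard (zpowers (x ^ q)) (by rw [hfac, pow_one, Nat.card_zpowers, hx0])
  let Q2 : Sylow p G := Sylow.ofCard (zpowers (α (x ^ q))) (by rw [hfac, pow_one, Nat.card_zpowers, ho])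
  obtain ⟨g1, hg1⟩ := MulAction.exists_smul_eq G Q2 Q1
  have h1 : g1 * α (x ^ q) * g1⁻¹ ∈ zpowers (x ^ q) := by
    have : g1 * α (x ^ q) * g1⁻¹ ∈ (g1 • Q2 : Sylow p G) := by
      rw [Sylow.smul_def]
      have h2 : α (x ^ q) ∈ (Q2 : Subgroup G) := mem_zpowers _
      exact (Subgroup.smul_mem_pointwise_smul (α (x ^ q)) (MulAut.conj g1) (Q2 : Subgroup G) h2)
    rw [hg1] at this
    exact this
  obtain ⟨β, hβ⟩ : ∃ β : MulAut G, ∀ a, β a = g1 * α a * g1⁻¹ := ⟨MulAut.conj g1 * α, fun a => rfl⟩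
  rw [← hβ] at h1
  have hβo : ∀ a, orderOf (β a) = orderOf a := fun a => orderOf_injective β.toMonoidHom β.injective a
  have h2 : x ^ q ∈ zpowers (β (x ^ q)) := zpowers_eq_of_mem h1 (hβo _)
  have h3 : β x * x ^ q = x ^ q * β x := by
    apply comm_of_zpowers h2
    rw [← map_mul, ← map_mul, ← pow_succ, ← pow_succ']
  obtain ⟨k', hk'⟩ := hcx _ h3
  have hkx : β x = x ^ (k' % M) := by rw [hmod]; exact hk'
  have hkM : k' % M < M := Nat.mod_lt _ hM0
  generalize k' % M = k at hkx hkM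
  clear hk'
  have hcop : Nat.Coprime M k := by
    have e1 := hβo x
    rw [hkx, orderOf_pow, hM] at e1
    have e2 : Nat.gcd M k ∣ M := Nat.gcd_dvd_left _ _
    have e3 : M / Nat.gcd M k * Nat.gcd M k = M := Nat.div_mul_cancel e2
    rw [e1] at e3
    exact Nat.eq_of_mul_eq_mul_left hM0 (by rw [mul_one]; exact e3)
  have h4 : x ∈ zpowers (β x) := zpowers_eq_of_mem (by rw [hkx]; exact pow_mem (mem_zpowers x) k) (hβo x)
  -- conjugation of powers of x by y
  have hyk : ∀ n : ℕ, y * x ^ n = x ^ (r * n) * y := by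
    intro n
    induction n with
    | zero => simp
    | succ n ih => rw [pow_succ, ← mul_assoc, ih, mul_assoc, hyx, ← mul_assoc, ← pow_add, Nat.mul_succ]
  have h5 : β y * β x = (β x) ^ r * β y := by rw [← map_mul, hyx, map_mul, map_pow]
  have h6 : (y⁻¹ * β y) * x ^ q = x ^ q * (y⁻¹ * β y) := by
    apply comm_of_zpowers (a := x) (pow_mem (mem_zpowers x) q)
    apply comm_of_zpowers h4
    rw [mul_assoc, h5, hkx, ← pow_mul, mul_comm k r]
    have e1 : x ^ (r * k) = y * x ^ k * y⁻¹ := by rw [hyk]; group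
    rw [e1]; group
  obtain ⟨i', hi'⟩ := hcx _ h6
  have hiy : β y = y * x ^ (i' % M) := by rw [hmod, ← hi']; group
  have hiM : i' % M < M := Nat.mod_lt _ hM0
  generalize i' % M = i at hiy hiM
  clear hi'
  rcases hconj i hiM with ⟨a, _, ha⟩ | ⟨d, hd1, hd2⟩
  swap
  · exfalso
    apply hd2
    rw [← hiy, ← map_pow, hd1, map_one]
  have h7 : x ^ a * (y * x ^ i) * (x ^ a)⁻¹ = y := by
    rw [hyk i, ← mul_assoc, ← pow_add, ← hmod, ha, hmod, ← hyk a]; group
  obtain ⟨j, _, k0, hk0, hj⟩ := hK k hkM hcop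
  have hyj : ∀ j n : ℕ, y ^ j * x ^ n = x ^ (r ^ j * n) * y ^ j := by
    intro j
    induction j with
    | zero => intro n; simp
    | succ j ih => intro n; rw [pow_succ', mul_assoc, ih, ← mul_assoc, hyk, mul_assoc, pow_succ' r, mul_assoc]
  let g := y ^ j * x ^ a * g1
  have hg : ∀ c, g * α c * g⁻¹ = y ^ j * (x ^ a * β c * (x ^ a)⁻¹) * (y ^ j)⁻¹ := by
    intro c
    rw [hβ]; simp only [g]; group
  have hgx : g * α x * g⁻¹ = x ^ k0 := by
    rw [hg, hkx]
    have e1 : x ^ a * x ^ k * (x ^ a)⁻¹ = x ^ k := by rw [← pow_add, add_comm, pow_add]; group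
    rw [e1, hyj, ← hj, hmod]; group
  have hgy : g * α y * g⁻¹ = y := by
    rw [hg, hiy, h7]
    rw [← pow_succ, pow_succ']; group
  refine ⟨g, k0, hk0, s⁻¹ * (g * α s * g⁻¹), ?_, hgx, hgy, by group⟩
  have e2 : (g * α s * g⁻¹) * y = y ^ m * (g * α s * g⁻¹) := by
    have e3 : (g * α s * g⁻¹) * (g * α y * g⁻¹) = g * α (s * y) * g⁻¹ := by rw [map_mul]; group
    rw [hgy, hsy, map_mul, map_pow] at e3
    rw [e3]
    have e4 : y ^ m = (g * α y * g⁻¹) ^ m := by rw [hgy]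
    rw [e4, conj_pow]; group
  rw [mul_assoc, e2]
  have e5 : s⁻¹ * (y ^ m * (g * α s * g⁻¹)) = s⁻¹ * (y ^ m * s) * (s⁻¹ * (g * α s * g⁻¹)) := by group
  rw [e5, ← hsy]; group

theorem card_out_one2 {G : Type} [Group G] (h : ∀ α : MulAut G, α ∈ Cfsg.Inn G) : Nat.card (Cfsg.Out G) = 1 := by
  have : (Cfsg.Inn G).index = 1 := by
    rw [Subgroup.index_eq_one, eq_top_iff]
    intro α _; exact h α
  exact this

theorem card_out_two2 {G : Type} [Group G] (τ : MulAut G) (hτ : τ ∉ Cfsg.Inn G)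
    (h : ∀ α : MulAut G, α ∈ Cfsg.Inn G ∨ ∃ β ∈ Cfsg.Inn G, α = β * τ) : Nat.card (Cfsg.Out G) = 2 := by
  have : (Cfsg.Inn G).index = 2 := by
    rw [Subgroup.index_eq_two_iff]
    refine ⟨τ⁻¹, fun b => ?_⟩
    rcases h b with hb | ⟨β, hβ, rfl⟩
    · refine Or.inr ⟨hb, fun h1 => hτ ?_⟩
      have h2 := (Cfsg.Inn G).mul_mem ((Cfsg.Inn G).inv_mem hb) h1
      rw [inv_mul_cancel_left] at h2
      exact inv_mem_iff.1 h2
    · refine Or.inl ⟨by rwa [mul_inv_cancel_right], fun h1 => hτ ?_⟩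
      have h2 := (Cfsg.Inn G).mul_mem ((Cfsg.Inn G).inv_mem hβ) h1
      rwa [inv_mul_cancel_left] at h2
  exact this

end CfsgLib.TC
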