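import Cfsg.Agent.EqBase
import Cfsg.Agent.LibTCAut2
set_option autoImplicit false
set_option linter.all false

/-! Automorphisms: the checks. -/

namespace CfsgLib.TC
open Subgroup

/-- three codes -/
noncomputable def st3 (A0 A1 A2 : ℕ → ℕ) (i q : ℕ) : ℕ :=
  Nat.rec (motive := fun _ => ℕ) (A0 q) (fun i' _ => Nat.rec (motive := fun _ => ℕ) (A1 q) (fun _ _ => A2 q) i') i
def ge3 {G : Type*} (x y s : G) (i : ℕ) : G := Nat.rec (motive := fun _ => G) x (fun i' _ => Nat.rec (motive := fun _ => G) y (fun _ _ => s) i') i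

section
variable {C : Type} {G : Type*} [Group G] {L : Tr ℕ} {stp : C → ℕ → ℕ} {inv : C → C}

/-- `x` acts on the labels as `T` -/
def Acts (φ : G →* Equiv.Perm (Om L)) (x : G) (T : ℕ → ℕ) : Prop := ∀ q : Om L, (φ x q).1 = T q.1

theorem Acts.one (φ : G →* Equiv.Perm (Om L)) : Acts φ 1 (fun q => q) := by intro q; rw [map_one]; rfl
theorem Acts.mul {φ : G →* Equiv.Perm (Om L)} {x y : G} {S T : ℕ → ℕ} (hx : Acts φ x S) (hy : Acts φ y T) :
    Acts φ (x * y) (fun q => S (T q)) := by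
  intro q; rw [map_mul, Equiv.Perm.mul_apply, hx, hy]
theorem Acts.pow {φ : G →* Equiv.Perm (Om L)} {x : G} {T : ℕ → ℕ} (hx : Acts φ x T) (k : ℕ) : Acts φ (x ^ k) (itN T k) :=
  fun q => phi_pow φ x T hx k q
theorem Acts.gwA {A : Type} {φ : G →* Equiv.Perm (Om L)} {h : A → G} {st : A → ℕ → ℕ} (hst : ∀ a, Acts φ (h a) (st a)) (w : List A) :
    Acts φ (gw h w) (walk st w) := by
  induction w with
  | nil => exact Acts.one φ
  | cons a w ih =>
    intro q
    rw [gw_cons, walk_cons, map_mul, Equiv.Perm.mul_apply, ih, hst a]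
theorem Acts.st3A {φ : G →* Equiv.Perm (Om L)} {x y s : G} {A0 A1 A2 : ℕ → ℕ} (h0 : Acts φ x A0) (h1 : Acts φ y A1) (h2 : Acts φ s A2)
    (i : ℕ) : Acts φ (ge3 x y s i) (st3 A0 A1 A2 i) := by
  match i with
  | 0 => exact h0
  | 1 => exact h1
  | (i+2) => exact h2

/-- a table for a word -/
theorem Acts.of_tab {φ : G →* Equiv.Perm (Om L)} {g : C → G} (hg : ∀ c, Acts φ (g c) (stp c)) {w : List C} {T : ℕ → ℕ}
    (h : Tr.all (fun q => Nat.beq (walk stp w q) (T q)) L = true) : Acts φ (gw g w) T := by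
  intro q
  rw [Acts.gwA hg w q]
  exact Nat.eq_of_beq_eq_true ((Tr.all_iff _ _).1 h q.1 q.2)

/-- agreement on a list of points -/
noncomputable def agB (S T : ℕ → ℕ) (bs : List ℕ) : Bool := lall (fun b => Nat.beq (S b) (T b)) bs

theorem eq_of_agB {φ : G →* Equiv.Perm (Om L)} {g : C → G} {lvs : List (Lv C)} (hG : Good φ g [] lvs) {u v : G} {S T : ℕ → ℕ}
    (hu : Acts φ u S) (hv : Acts φ v T) (h : agB S T (lvs.map Lv.b) = true) : u = v := by
  apply eq_of_base hG
  intro b hb hL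
  rw [hu, hv]
  exact Nat.eq_of_beq_eq_true ((lall_iff _ _).1 h b hb)

theorem ne_of_moved {φ : G →* Equiv.Perm (Om L)} {u v : G} {S T : ℕ → ℕ} (hu : Acts φ u S) (hv : Acts φ v T) {b : ℕ}
    (hb : b ∈ L.toList) (h : Nat.beq (S b) (T b) = false) : u ≠ v := by
  rintro rfl
  have h1 := hu ⟨b, hb⟩
  have h2 := hv ⟨b, hb⟩
  rw [h1] at h2
  rw [h2] at h
  have : Nat.beq (T b) (T b) = true := Nat.beq_refl _
  rw [this] at h; exact absurd h (by simp)

/-- boolean not / or -/
noncomputable def bnt (a : Bool) : Bool := Bool.rec (motive := fun _ => Bool) true false a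
noncomputable def bor2 (a : Bool) (k : Unit → Bool) : Bool := Bool.rec (motive := fun _ => Bool) (k ()) true a
theorem bnt_iff (a : Bool) : bnt a = true ↔ a = false := by cases a <;> simp [bnt]
theorem bor2_iff (a : Bool) (k : Unit → Bool) : bor2 a k = true ↔ a = true ∨ k () = true := by cases a <;> simp [bor2]

noncomputable def lany2 {A : Type} (p : A → Bool) (l : List A) : Bool :=
  List.rec (motive := fun _ => Bool) false (fun a _ ih => Bool.rec (motive := fun _ => Bool) ih true (p a)) l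
theorem lany2_iff {A : Type} (p : A → Bool) (l : List A) : lany2 p l = true ↔ ∃ a ∈ l, p a = true := by
  induction l with
  | nil => constructor
           · intro h; exact absurd (show (false : Bool) = true from h) (by simp)
           · rintro ⟨a, h, _⟩; exact absurd h (by simp)
  | cons a l ih =>
    have e : lany2 p (a :: l) = Bool.rec (motive := fun _ => Bool) (lany2 p l) true (p a) := rfl
    rw [e]
    cases h : p a
    · show lany2 p l = true ↔ _
      rw [ih]
      constructor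
      · rintro ⟨b, hb, h1⟩; exact ⟨b, List.mem_cons_of_mem _ hb, h1⟩
      · rintro ⟨b, hb, h1⟩
        rcases List.mem_cons.1 hb with rfl | hb
        · rw [h] at h1; exact absurd h1 (by simp)
        · exact ⟨b, hb, h1⟩
    · exact ⟨fun _ => ⟨a, List.mem_cons_self, h⟩, fun _ => rfl⟩

/-- the centralizer check -/
noncomputable def cenB (stp : C → ℕ → ℕ) (fuel : ℕ) (es : List ℕ) (lvs : List (Lv C)) (T : ℕ → ℕ) (exs : List ℕ) (Q : List ℕ) (q : ℕ) : Bool :=
  bor2 (bnt (SCq stp fuel es lvs T exs q)) (fun _ => lany2 (Nat.beq q) Q)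

variable {φ : G →* Equiv.Perm (Om L)} {g : C → G} {hc : Closed L stp inv} {lvs : List (Lv C)} {x : G} {T : ℕ → ℕ}
  {b : ℕ} {W : List C} {es exs : List ℕ}

theorem CData.mem_of_cenB (d : CData φ g hc lvs x T b W es exs) (hφ : ∀ c, φ (g c) = hc.perm c) (hG : Good φ g [] lvs)
    {fuel : ℕ} {Q : List ℕ} (h : Tr.all (cenB stp fuel es lvs T exs Q) L = true) (c : G) (hcx : c * x = x * c) :
    (φ c ⟨b, d.hb⟩).1 ∈ Q := by
  have h1 := (Tr.all_iff _ _).1 h _ (φ c ⟨b, d.hb⟩).2
  unfold cenB at h1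
  rw [bor2_iff, bnt_iff, d.sift hφ hG fuel c hcx] at h1
  rcases h1 with h1 | h1
  · exact absurd h1 (by simp)
  · obtain ⟨a, ha, h2⟩ := (lany2_iff _ _).1 h1
    rw [Nat.eq_of_beq_eq_true h2]; exact ha

/-- centralizer is the cyclic group -/
theorem CData.cyc (d : CData φ g hc lvs x T b W es exs) (hφ : ∀ c, φ (g c) = hc.perm c) (hG : Good φ g [] lvs)
    {fuel : ℕ} {Q : List ℕ} (h : Tr.all (cenB stp fuel es lvs T exs Q) L = true) (u : G) (U : ℕ → ℕ) (hu : Acts φ u U)
    (hux : u * x = x * u) (M : ℕ) (hQ : lall (fun a => lany2 (fun i => Nat.beq a (itN U i b)) (List.range M)) Q = true)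
    (c : G) (hcx : c * x = x * c) : ∃ i : ℕ, c = u ^ i := by
  have h1 := d.mem_of_cenB hφ hG h c hcx
  obtain ⟨i, _, hi⟩ := (lany2_iff _ _).1 ((lall_iff _ _).1 hQ _ h1)
  refine ⟨i, ?_⟩
  apply d.eq_of hφ hG c (u ^ i) hcx ((show Commute u x from hux).pow_left i)
  rw [hu.pow i]
  exact Nat.eq_of_beq_eq_true hi

/-- centralizer is an explicit list of words -/
theorem CData.lst (d : CData φ g hc lvs x T b W es exs) (hφ : ∀ c, φ (g c) = hc.perm c) (hG : Good φ g [] lvs)
    {fuel : ℕ} {Q : List ℕ} (h : Tr.all (cenB stp fuel es lvs T exs Q) L = true) (Z : List (List C))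
    (hZ : lall (fun w => agB (fun q => walk stp w (T q)) (fun q => T (walk stp w q)) (lvs.map Lv.b)) Z = true)
    (hQ : lall (fun a => lany2 (fun w => Nat.beq a (walk stp w b)) Z) Q = true)
    (c : G) (hcx : c * x = x * c) : ∃ w ∈ Z, c = gw g w := by
  have h1 := d.mem_of_cenB hφ hG h c hcx
  obtain ⟨w, hw, hi⟩ := (lany2_iff _ _).1 ((lall_iff _ _).1 hQ _ h1)
  have hg : ∀ c, Acts φ (g c) (stp c) := fun c q => by rw [hφ]; rfl
  refine ⟨w, hw, ?_⟩
  apply d.eq_of hφ hG c (gw g w) hcx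
  · exact eq_of_agB hG ((Acts.gwA hg w).mul d.hT) (Acts.mul d.hT (Acts.gwA hg w)) ((lall_iff _ _).1 hZ w hw)
  · rw [Acts.gwA hg w]; exact Nat.eq_of_beq_eq_true hi

/-- the survivors check: all pairs `(k, z)` other than the ones listed violate a relation in `R` -/
noncomputable def srvB (stp : C → ℕ → ℕ) (TX TY TS : ℕ → ℕ) (K0 : List ℕ) (Z : List (List C)) (R : List (List ℕ)) (OK : List (ℕ × ℕ))
    (b pt : ℕ) : Bool :=
  lall (fun k => lall (fun w =>
    bor2 (lany2 (fun t => band (Nat.beq k t.1) (Nat.beq (walk stp w b) t.2)) OK) (fun _ =>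
      lany2 (fun r => bnt (Nat.beq (walk (st3 (itN TX k) TY (fun q => TS (walk stp w q))) r pt) pt)) R)) Z) K0

/-- the relations hold -/
noncomputable def relB (TX TY TS : ℕ → ℕ) (R : List (List ℕ)) (bs : List ℕ) : Bool :=
  lall (fun r => agB (walk (st3 TX TY TS) r) (fun q => q) bs) R

theorem srv_sound {G : Type} [Group G] {φ : G →* Equiv.Perm (Om L)} {g : C → G} (hG : Good φ g [] lvs) (hg : ∀ c, Acts φ (g c) (stp c))
    {x y s : G} {TX TY TS : ℕ → ℕ} (hx : Acts φ x TX) (hy : Acts φ y TY) (hs : Acts φ s TS) {K0 : List ℕ} {Z : List (List C)}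
    {R : List (List ℕ)} {OK : List (ℕ × ℕ)} {b pt : ℕ} (hpt : pt ∈ L.toList)
    (hR : relB TX TY TS R (lvs.map Lv.b) = true) (h : srvB stp TX TY TS K0 Z R OK b pt = true)
    (δ : MulAut G) {k : ℕ} (hk : k ∈ K0) {w : List C} (hw : w ∈ Z) (h1 : δ x = x ^ k) (h2 : δ y = y) (h3 : δ s = s * gw g w) :
    (k, walk stp w b) ∈ OK := by
  have h4 := (lall_iff _ _).1 ((lall_iff _ _).1 h k hk) w hw
  rcases (bor2_iff _ _).1 h4 with h5 | h5
  · obtain ⟨t, ht, h6⟩ := (lany2_iff _ _).1 h5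
    rw [band_iff] at h6
    have e : (k, walk stp w b) = t := by
      rw [Nat.eq_of_beq_eq_true h6.1, Nat.eq_of_beq_eq_true h6.2]
    rw [e]; exact ht
  · exfalso
    obtain ⟨r, hr, h6⟩ := (lany2_iff _ _).1 h5
    rw [bnt_iff] at h6
    have h7 : gw (ge3 x y s) r = 1 := eq_of_agB hG (Acts.gwA (Acts.st3A hx hy hs) r) (Acts.one φ) ((lall_iff _ _).1 hR r hr)
    have h8 : gw (ge3 (x ^ k) y (s * gw g w)) r = 1 := by
      have e1 : δ.toMonoidHom (gw (ge3 x y s) r) = δ.toMonoidHom 1 := congrArg _ h7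
      have e2 : δ.toMonoidHom (gw (ge3 x y s) r) = gw (fun i => δ.toMonoidHom (ge3 x y s i)) r := map_gw _ _ _
      have e3 : (fun i => δ.toMonoidHom (ge3 x y s i)) = ge3 (x ^ k) y (s * gw g w) := by
        funext i
        match i with
        | 0 => exact h1
        | 1 => exact h2
        | (i+2) => exact h3
      rw [e2, e3, map_one] at e1
      exact e1
    exact ne_of_moved (Acts.gwA (Acts.st3A (hx.pow k) hy (hs.mul (Acts.gwA hg w))) r) (Acts.one φ) hpt h6 h8

end
end CfsgLib.TC
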