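import Cfsg.Agent.EqBase
import Cfsg.Agent.LibTCAut3
set_option autoImplicit false
set_option linter.all false

/-! Automorphisms: assembly. -/

namespace CfsgLib.TC
open Subgroup

section
variable {C : Type} {G : Type} [Group G] {L : Tr ℕ} {stp : C → ℕ → ℕ} {inv : C → C}

theorem CData.z_eq {φ : G →* Equiv.Perm (Om L)} {g : C → G} {hc : Closed L stp inv} {lvs : List (Lv C)} {x : G} {T : ℕ → ℕ}
    {b : ℕ} {W : List C} {es exs : List ℕ} (d : CData φ g hc lvs x T b W es exs) (hφ : ∀ c, φ (g c) = hc.perm c) (hG : Good φ g [] lvs)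
    {Z : List (List C)} (hZ : lall (fun w => agB (fun q => walk stp w (T q)) (fun q => T (walk stp w q)) (lvs.map Lv.b)) Z = true)
    {w w' : List C} (hw : w ∈ Z) (hw' : w' ∈ Z) (h : walk stp w b = walk stp w' b) : gw g w = gw g w' := by
  have hg : ∀ c, Acts φ (g c) (stp c) := fun c q => by rw [hφ]; rfl
  apply d.eq_of hφ hG
  · exact eq_of_agB hG ((Acts.gwA hg w).mul d.hT) (Acts.mul d.hT (Acts.gwA hg w)) ((lall_iff _ _).1 hZ w hw)
  · exact eq_of_agB hG ((Acts.gwA hg w').mul d.hT) (Acts.mul d.hT (Acts.gwA hg w')) ((lall_iff _ _).1 hZ w' hw')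
  · rw [Acts.gwA hg w, Acts.gwA hg w']; exact h

/-- everything known about the automorphisms -/
structure AutD (φ : G →* Equiv.Perm (Om L)) (g : C → G) (stp : C → ℕ → ℕ) (lvs : List (Lv C)) (x y s : G) (TX TY TS : ℕ → ℕ) (K0 : List ℕ)
    (Z : List (List C)) (b : ℕ) (OK : List (ℕ × ℕ)) (E : C → List ℕ) : Prop where
  hG : Good φ g [] lvs
  hg : ∀ c, Acts φ (g c) (stp c)
  hgen : closure (Set.range g) = ⊤
  hx : Acts φ x TX
  hy : Acts φ y TY
  hs : Acts φ s TS
  norm : ∀ α : MulAut G, ∃ h : G, ∃ k ∈ K0, ∃ z : G, z * y = y * z ∧ h * α x * h⁻¹ = x ^ k ∧ h * α y * h⁻¹ = y ∧ h * α s * h⁻¹ = s * z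
  cy : ∀ c : G, c * y = y * c → ∃ w ∈ Z, c = gw g w
  zy : ∀ w ∈ Z, ∀ w' ∈ Z, walk stp w b = walk stp w' b → gw g w = gw g w'
  srv : ∀ (δ : MulAut G) (k : ℕ), k ∈ K0 → ∀ w ∈ Z, δ x = x ^ k → δ y = y → δ s = s * gw g w → (k, walk stp w b) ∈ OK
  hE : ∀ c, g c = gw (ge3 x y s) (E c)

variable {φ : G →* Equiv.Perm (Om L)} {g : C → G} {lvs : List (Lv C)} {x y s : G} {TX TY TS : ℕ → ℕ} {K0 : List ℕ}
    {Z : List (List C)} {b : ℕ} {OK : List (ℕ × ℕ)} {E : C → List ℕ}

theorem AutD.form (D : AutD φ g stp lvs x y s TX TY TS K0 Z b OK E) (α : MulAut G) : ∃ β ∈ Cfsg.Inn G, ∃ δ : MulAut G, α = β * δ ∧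
    ∃ k ∈ K0, ∃ w ∈ Z, δ x = x ^ k ∧ δ y = y ∧ δ s = s * gw g w ∧ (k, walk stp w b) ∈ OK := by
  obtain ⟨h, k, hk, z, hz, h1, h2, h3⟩ := D.norm α
  obtain ⟨w, hw, rfl⟩ := D.cy z hz
  refine ⟨MulAut.conj h⁻¹, ⟨h⁻¹, rfl⟩, MulAut.conj h * α, ?_, k, hk, w, hw, h1, h2, h3, ?_⟩
  · rw [← mul_assoc, ← map_mul, inv_mul_cancel, map_one, one_mul]
  · exact D.srv (MulAut.conj h * α) k hk w hw h1 h2 h3

theorem AutD.val (D : AutD φ g stp lvs x y s TX TY TS K0 Z b OK E) {δ : G →* G} {x' s' : G} (h1 : δ x = x') (h2 : δ y = y)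
    (h3 : δ s = s') (c : C) : δ (g c) = gw (ge3 x' y s') (E c) := by
  rw [D.hE c, map_gw]
  congr 1
  funext i
  match i with
  | 0 => exact h1
  | 1 => exact h2
  | (i+2) => exact h3

theorem hom_eq_of_gen (hgen : closure (Set.range g) = ⊤) {δ τ : G →* G} (h : ∀ c, δ (g c) = τ (g c)) : δ = τ := by
  apply MonoidHom.eq_of_eqOn_dense hgen
  rintro _ ⟨c, rfl⟩
  exact h c

theorem AutD.out_one (D : AutD φ g stp lvs x y s TX TY TS K0 Z b OK E) (hnil : [] ∈ Z) (hOK : OK = [(1, b)]) :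
    Nat.card (Cfsg.Out G) = 1 := by
  apply card_out_one2
  intro α
  obtain ⟨β, hβ, δ, rfl, k, hk, w, hw, h1, h2, h3, h4⟩ := D.form α
  rw [hOK, List.mem_singleton, Prod.mk.injEq] at h4
  obtain ⟨rfl, h5⟩ := h4
  have h6 : gw g w = 1 := D.zy w hw [] hnil h5
  have h7 : δ.toMonoidHom = MonoidHom.id G := by
    apply hom_eq_of_gen D.hgen
    intro c
    rw [D.val (δ := δ.toMonoidHom) (x' := x) (s' := s) (by rw [show δ.toMonoidHom x = δ x from rfl, h1, pow_one]) h2 (by rw [show δ.toMonoidHom s = δ s from rfl, h3, h6, mul_one]) c, ← D.hE c]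
    rfl
  have h8 : δ = 1 := by
    apply MulEquiv.ext
    intro a
    exact DFunLike.congr_fun h7 a
  rw [h8, mul_one]; exact hβ

/-- no element of the centralizer induces the automorphism -/
noncomputable def niB (stp : C → ℕ → ℕ) (TX TS : ℕ → ℕ) (k1 : ℕ) (z1 : List C) (Z : List (List C)) (pts : List ℕ) : Bool :=
  lall (fun w => bor2 (bnt (agB (fun q => walk stp w (TX q)) (fun q => itN TX k1 (walk stp w q)) pts)) (fun _ =>
    bnt (agB (fun q => walk stp w (TS q)) (fun q => TS (walk stp z1 (walk stp w q))) pts))) Z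

theorem agB_of_eq {u v : G} {S T : ℕ → ℕ} (hu : Acts φ u S) (hv : Acts φ v T) (h : u = v) {pts : List ℕ} (hp : lall (mem L) pts = true) :
    agB S T pts = true := by
  refine (lall_iff _ _).2 ?_
  intro q hq
  have hq' := mem_sound ((lall_iff _ _).1 hp q hq)
  have h1 := hu ⟨q, hq'⟩
  have h2 := hv ⟨q, hq'⟩
  rw [h, h2] at h1
  simp only at h1
  rw [← h1]; exact Nat.beq_refl _

theorem AutD.out_two [Finite G] (hsim : IsSimpleGroup G) (D : AutD φ g stp lvs x y s TX TY TS K0 Z b OK E) (hnil : [] ∈ Z)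
    (hx1 : x ≠ 1) {k1 : ℕ} (hxk : x ^ k1 ≠ 1) {z1 : List C} (hz1 : z1 ∈ Z) (hOK : OK = [(1, b), (k1, walk stp z1 b)])
    (τ : G →* G) (hτ : ∀ c, τ (g c) = gw (ge3 (x ^ k1) y (s * gw g z1)) (E c))
    (h1 : τ x = x ^ k1) (h2 : τ y = y) (h3 : τ s = s * gw g z1) {pts : List ℕ} (hp : lall (mem L) pts = true)
    (hni : niB stp TX TS k1 z1 Z pts = true) :
    Nat.card (Cfsg.Out G) = 2 := by
  have hinj : Function.Injective τ := by
    rw [← MonoidHom.ker_eq_bot_iff]
    rcases hsim.eq_bot_or_eq_top_of_normal τ.ker inferInstance with h | h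
    · exact h
    · exfalso
      apply hxk
      rw [← h1]
      have : x ∈ τ.ker := by rw [h]; trivial
      exact this
  let t : MulAut G := MulEquiv.ofBijective τ (Finite.injective_iff_bijective.1 hinj)
  have ht : ∀ a, t a = τ a := fun a => rfl
  apply card_out_two2 t
  · rintro ⟨h, hh⟩
    have hc : ∀ a, h * a * h⁻¹ = τ a := by
      intro a
      rw [← ht, ← hh]; rfl
    have e1 : h * y = y * h := by
      have := hc y
      rw [h2] at this
      rw [mul_inv_eq_iff_eq_mul] at this; exact this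
    obtain ⟨w, hw, rfl⟩ := D.cy h e1
    have e2 : gw g w * x = x ^ k1 * gw g w := by
      have := hc x
      rw [h1, mul_inv_eq_iff_eq_mul] at this; exact this
    have e3 : gw g w * s = s * gw g z1 * gw g w := by
      have := hc s
      rw [h3, mul_inv_eq_iff_eq_mul] at this; exact this
    have h4 := (lall_iff _ _).1 hni w hw
    rcases (bor2_iff _ _).1 h4 with h5 | h5
    · rw [bnt_iff, agB_of_eq ((Acts.gwA D.hg w).mul D.hx) ((D.hx.pow k1).mul (Acts.gwA D.hg w)) e2 hp] at h5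
      exact absurd h5 (by simp)
    · rw [bnt_iff, agB_of_eq ((Acts.gwA D.hg w).mul D.hs) ((D.hs.mul (Acts.gwA D.hg z1)).mul (Acts.gwA D.hg w)) e3 hp] at h5
      exact absurd h5 (by simp)
  · intro α
    obtain ⟨β, hβ, δ, rfl, k, hk, w, hw, h5, h6, h7, h8⟩ := D.form α
    rw [hOK] at h8
    simp only [List.mem_cons, Prod.mk.injEq, List.not_mem_nil, or_false] at h8
    rcases h8 with ⟨rfl, h9⟩ | ⟨rfl, h9⟩
    · left
      have h10 : gw g w = 1 := D.zy w hw [] hnil h9
      have h11 : δ.toMonoidHom = MonoidHom.id G := by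
        apply hom_eq_of_gen D.hgen
        intro c
        rw [D.val (δ := δ.toMonoidHom) (x' := x) (s' := s) (by rw [show δ.toMonoidHom x = δ x from rfl, h5, pow_one]) h6 (by rw [show δ.toMonoidHom s = δ s from rfl, h7, h10, mul_one]) c, ← D.hE c]
        rfl
      have h12 : δ = 1 := by
        apply MulEquiv.ext
        intro a
        exact DFunLike.congr_fun h11 a
      rw [h12, mul_one]; exact hβ
    · right
      refine ⟨β, hβ, ?_⟩
      congr 1
      have h10 : gw g w = gw g z1 := D.zy w hw z1 hz1 h9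
      have h11 : δ.toMonoidHom = τ := by
        apply hom_eq_of_gen D.hgen
        intro c
        rw [hτ c]
        exact D.val (δ := δ.toMonoidHom) h5 h6 (by rw [show δ.toMonoidHom s = δ s from rfl, h7, h10]) c
      apply MulEquiv.ext
      intro a
      rw [ht]
      exact DFunLike.congr_fun h11 a

end
end CfsgLib.TC
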