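import Cfsg.Agent.EqBase
import Cfsg.Agent.LibTCAut4
set_option autoImplicit false
set_option linter.all false

/-! Automorphisms: helpers for the generated files. -/

namespace CfsgLib.TC
open Subgroup

/-- forced evaluation of a word -/
noncomputable def walkC {A : Type} (st : A → ℕ → ℕ) (w : List A) (q : ℕ) : ℕ :=
  List.rec (motive := fun _ => ℕ → ℕ) (fun q => q) (fun c _ ih q => nf (st c q) ih) w q
theorem walkC_eq {A : Type} (st : A → ℕ → ℕ) (w : List A) : ∀ q, walkC st w q = walk st w q := by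
  induction w with
  | nil => intro q; rfl
  | cons a w ih =>
    intro q
    have : walkC st (a :: w) q = nf (st a q) (walkC st w) := rfl
    rw [this, nf_eq, ih]; rfl

section
variable {C : Type} {G : Type} [Group G] {L : Tr ℕ} {stp : C → ℕ → ℕ} {inv : C → C}

theorem Acts.gwC {A : Type} {φ : G →* Equiv.Perm (Om L)} {h : A → G} {st : A → ℕ → ℕ} (hst : ∀ a, Acts φ (h a) (st a)) (w : List A) :
    Acts φ (gw h w) (walkC st w) := by
  intro q; rw [walkC_eq]; exact Acts.gwA hst w q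

theorem Acts.forced {φ : G →* Equiv.Perm (Om L)} {x : G} {T : ℕ → ℕ} (h : Acts φ x T) : Acts φ x (fun q => nf q T) := by
  intro q; show _ = nf q.1 T; rw [nf_eq]; exact h q

theorem Acts.of_tabC {φ : G →* Equiv.Perm (Om L)} {x : G} {S T : ℕ → ℕ} (hx : Acts φ x S)
    (h : Tr.all (fun q => Nat.beq (S q) (T q)) L = true) : Acts φ x T := by
  intro q
  rw [hx q]
  exact Nat.eq_of_beq_eq_true ((Tr.all_iff _ _).1 h q.1 q.2)

theorem good_nil_of {φ : G →* Equiv.Perm (Om L)} {g : C → G} [Finite G] {bs : List ℕ} (h : Nat.card (stabN φ bs) ≤ 1) : Good φ g bs [] := by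
  apply Good.nil
  intro u hu
  have h1 : stabN φ bs = ⊥ := by
    rw [← Subgroup.card_le_one_iff_eq_bot]; exact h
  rw [h1] at hu
  exact mem_bot.1 hu

theorem good_cons_of (hc : Closed L stp inv) {φ : G →* Equiv.Perm (Om L)} {g : C → G} (hφ : ∀ c, φ (g c) = hc.perm c)
    {bs : List ℕ} {b : ℕ} {LB : Tr ℕ} {HW : ℕ → ℕ} {WI : List (List C)} (hb : mem L b = true)
    (h1 : ∀ u ∈ stabN φ bs, (φ u ⟨b, mem_sound hb⟩).1 ∈ LB.toList) (hm : Tr.all (mem LB) LB = true)
    (hWI : lall (fun w => lall (fun b' => Nat.beq (walk stp w b') b') bs) WI = true) {ls : List (Lv C)}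
    (h : Good φ g (b :: bs) ls) : Good φ g bs (⟨b, mem LB, HW, WI⟩ :: ls) := by
  refine Good.cons bs _ ls (mem_sound hb) (fun u hu => mt_of_orbit hm (h1 u hu)) ?_ h
  intro w hw b' hb' hL
  have h2 := (lall_iff _ _).1 ((lall_iff _ _).1 hWI w hw) b' hb'
  exact Subtype.ext (by rw [phi_gw hc φ g hφ]; exact Nat.eq_of_beq_eq_true h2)

theorem CData.mk' {φ : G →* Equiv.Perm (Om L)} {g : C → G} {hc : Closed L stp inv} {lvs : List (Lv C)} {x : G} {T : ℕ → ℕ}
    {b : ℕ} {W : List C} {es exs : List ℕ} (hT : Acts φ x T) (hb : mem L b = true) (h1 : lall (mem L) (lvs.map Lv.b) = true)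
    (h2 : lall (mem L) es = true) (hW : trB stp W T b (lvs.map Lv.b ++ es) exs = true) : CData φ g hc lvs x T b W es exs :=
  ⟨hT, mem_sound hb, fun a ha => mem_sound ((lall_iff _ _).1 h1 a ha), fun a ha => mem_sound ((lall_iff _ _).1 h2 a ha), hW⟩

theorem hE_of {φ : G →* Equiv.Perm (Om L)} {g : C → G} {lvs : List (Lv C)} (hG : Good φ g [] lvs) (hg : ∀ c, Acts φ (g c) (stp c))
    {x y s : G} {TX TY TS : ℕ → ℕ} (hx : Acts φ x TX) (hy : Acts φ y TY) (hs : Acts φ s TS) {cols : List C} (hcols : ∀ c, c ∈ cols)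
    {E : C → List ℕ} (h : lall (fun c => agB (stp c) (walkC (st3 TX TY TS) (E c)) (lvs.map Lv.b)) cols = true) (c : C) :
    g c = gw (ge3 x y s) (E c) :=
  eq_of_agB hG (hg c) (Acts.gwC (Acts.st3A hx hy hs) (E c)) ((lall_iff _ _).1 h c (hcols c))

/-- the letters of the image -/
theorem ActsF {φ : G →* Equiv.Perm (Om L)} {x y s : G} {TX TY TS : ℕ → ℕ} (hx : Acts φ x TX) (hy : Acts φ y TY) (hs : Acts φ s TS)
    (E : C → List ℕ) (c : C) : Acts φ (gw (ge3 x y s) (E c)) (fun q => nf q (walkC (st3 TX TY TS) (E c))) :=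
  (Acts.gwC (Acts.st3A hx hy hs) (E c)).forced

theorem inv_of {φ : G →* Equiv.Perm (Om L)} {g : C → G} {lvs : List (Lv C)} (hG : Good φ g [] lvs) {F : C → G} {stpF : C → ℕ → ℕ}
    (hF : ∀ c, Acts φ (F c) (stpF c)) {inv : C → C} {cols : List C} (hcols : ∀ c, c ∈ cols)
    (h : lall (fun c => agB (walkC stpF [c, inv c]) (fun q => q) (lvs.map Lv.b)) cols = true) (c : C) : F (inv c) = (F c)⁻¹ := by
  have h1 : gw F [c, inv c] = 1 := eq_of_agB hG (Acts.gwC hF _) (Acts.one φ) ((lall_iff _ _).1 h c (hcols c))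
  rw [gw_cons, gw_cons, gw_nil, one_mul] at h1
  exact eq_inv_of_mul_eq_one_left h1

theorem rel_of {φ : G →* Equiv.Perm (Om L)} {g : C → G} {lvs : List (Lv C)} (hG : Good φ g [] lvs) {F : C → G} {stpF : C → ℕ → ℕ}
    (hF : ∀ c, Acts φ (F c) (stpF c)) {RW : List (List C)}
    (h : lall (fun w => agB (walkC stpF w) (fun q => q) (lvs.map Lv.b)) RW = true) (w : List C) (hw : w ∈ RW) : gw F w = 1 :=
  eq_of_agB hG (Acts.gwC hF _) (Acts.one φ) ((lall_iff _ _).1 h w hw)

/-- value of the automorphism on a word -/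
theorem tau_word {φ : G →* Equiv.Perm (Om L)} {g : C → G} {lvs : List (Lv C)} (hG : Good φ g [] lvs) {F : C → G} {stpF : C → ℕ → ℕ}
    (hF : ∀ c, Acts φ (F c) (stpF c)) {τ : G →* G} (hτ : ∀ c, τ (g c) = F c) (w : List C) {u : G} {U : ℕ → ℕ} (hu : Acts φ u U)
    (h : agB (walkC stpF w) U (lvs.map Lv.b) = true) : τ (gw g w) = u := by
  rw [map_gw]
  have e : (fun c => τ (g c)) = F := funext hτ
  rw [e]
  exact eq_of_agB hG (Acts.gwC hF _) hu h

end
end CfsgLib.TC
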