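import Cfsg.Agent.EqBase
import Cfsg.Agent.LibTCAut5
import Cfsg.Agent.LibTC4
set_option autoImplicit false
set_option linter.all false

/-! Exact orbits, for the chains given by global tables. -/

namespace CfsgLib.TC
open Subgroup

section
variable {C : Type} {G : Type} [Group G] {L : Tr ℕ} {stp : C → ℕ → ℕ} {inv : C → C}

theorem exact_of_reach [Finite G] (φ : G →* Equiv.Perm (Om L)) (bs : List ℕ) (b : ℕ) (hbL : b ∈ L.toList) (S : Set (Om L))
    (hreach : ∀ q ∈ S, ∃ s ∈ stabN φ bs, φ s ⟨b, hbL⟩ = q) {n m : ℕ} (hn : S.ncard = n)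
    (hm : m ≤ Nat.card (stabN φ (b :: bs))) (hm0 : 0 < m) (hn0 : 0 < n) (hcard : Nat.card (stabN φ bs) ≤ n * m) :
    (∀ u ∈ stabN φ bs, φ u ⟨b, hbL⟩ ∈ S) ∧ Nat.card (stabN φ (b :: bs)) ≤ m := by
  classical
  have hT : ∀ x, x ∈ stabN φ (b :: bs) ↔ x ∈ stabN φ bs ∧ φ x ⟨b, hbL⟩ = ⟨b, hbL⟩ := by
    intro x
    rw [mem_stabN, mem_stabN]
    constructor
    · intro h
      exact ⟨fun b' hb' h' => h b' (List.mem_cons_of_mem _ hb') h', h b List.mem_cons_self hbL⟩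
    · rintro ⟨h2, h3⟩ b' hb' h'
      rcases List.mem_cons.1 hb' with rfl | hb'
      · exact h3
      · exact h2 b' hb' h'
  refine ⟨?_, ?_⟩
  · intro u hu
    by_contra hne
    have h3 := card_step φ (stabN φ bs) ⟨b, hbL⟩ (insert (φ u ⟨b, hbL⟩) S) (by
      intro q hq
      rcases hq with rfl | hq
      · exact ⟨u, hu, rfl⟩
      · exact hreach q hq) (stabN φ (b :: bs)) hT m hm
    rw [Set.ncard_insert_of_notMem hne (Set.finite_of_ncard_ne_zero (by rw [hn]; omega)), hn] at h3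
    have h4 : (n + 1) * m ≤ n * m := le_trans h3 hcard
    have h5 : (n + 1) * m = n * m + m := by ring
    omega
  · have h3 := card_step φ (stabN φ bs) ⟨b, hbL⟩ S (fun q hq => hreach q hq) (stabN φ (b :: bs)) hT _ le_rfl
    rw [hn] at h3
    exact Nat.le_of_mul_le_mul_left (le_trans h3 hcard) hn0

theorem lev_exact3 [Finite G] (hc : Closed L stp inv) (hnd : L.toList.Nodup) (φ : G →* Equiv.Perm (Om L)) (g : C → G)
    (hφ : ∀ c, φ (g c) = hc.perm c) (bs : List ℕ) (b : ℕ) {HP HR HW : ℕ → ℕ} {WL : List (List C)}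
    {ws : ℕ → ℕ → ℕ} {mt : ℕ → Bool} {N z : ℕ} (hN : size L = N) (hbL : b ∈ L.toList)
    (hmt : ∀ x, mt x = true → x ∈ L.toList) (hws : ∀ j x, ∃ w ∈ WL, ws j x = walk stp w x)
    (hfix : lall (fun w => lall (fun b => Nat.beq (walk stp w b) b) bs) WL = true)
    (htree : Tr.all (treeR mt ws HP HR HW b) L = true)
    (hz : cnt HR 0 L = z)
    {m n : ℕ} (hm : m ≤ Nat.card (stabN φ (b :: bs))) (hn : n + z = N) (hm0 : 0 < m) (hn0 : 0 < n)
    (hcard : Nat.card (stabN φ bs) ≤ n * m) :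
    (∀ u ∈ stabN φ bs, HR (φ u ⟨b, hbL⟩).1 ≠ 0) ∧ Nat.card (stabN φ (b :: bs)) ≤ m := by
  have hWL : ∀ w ∈ WL, gw g w ∈ stabN φ bs := by
    intro w hw b' hb' h
    have h1 := (lall_iff _ _).1 ((lall_iff _ _).1 hfix w hw) b' hb'
    exact Subtype.ext (by rw [phi_gw hc φ g hφ]; exact Nat.eq_of_beq_eq_true h1)
  have h2 : {q : Om L | HR q.1 ≠ 0}.ncard = n := by
    have := finite_Om L
    have h3 := Set.ncard_add_ncard_compl {q : Om L | HR q.1 = 0}
    rw [ncard_class hnd HR 0, hz, card_Om L hnd, ← size_eq, hN, ← hn] at h3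
    have h4 : {q : Om L | HR q.1 = 0}ᶜ = {q : Om L | HR q.1 ≠ 0} := rfl
    rw [h4] at h3
    omega
  exact exact_of_reach φ bs b hbL {q : Om L | HR q.1 ≠ 0} (fun q hq =>
    treeR_sound hc φ g hφ ⟨b, hbL⟩ hmt hws (stabN φ bs) hWL htree q hq) h2 hm hm0 hn0 hcard

/-- membership test by rank -/
noncomputable def mR (HR : ℕ → ℕ) (q : ℕ) : Bool := bnt (Nat.beq (HR q) 0)

theorem good_cons3 (hc : Closed L stp inv) {φ : G →* Equiv.Perm (Om L)} {g : C → G} (hφ : ∀ c, φ (g c) = hc.perm c)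
    {bs : List ℕ} {b : ℕ} {HR HW : ℕ → ℕ} {WI : List (List C)} (hb : b ∈ L.toList)
    (h1 : ∀ u ∈ stabN φ bs, HR (φ u ⟨b, hb⟩).1 ≠ 0)
    (hWI : lall (fun w => lall (fun b' => Nat.beq (walk stp w b') b') bs) WI = true) {ls : List (Lv C)}
    (h : Good φ g (b :: bs) ls) : Good φ g bs (⟨b, mR HR, HW, WI⟩ :: ls) := by
  refine Good.cons bs _ ls hb (fun u hu => ?_) ?_ h
  · show mR HR (φ u ⟨b, hb⟩).1 = true
    unfold mR
    rw [bnt_iff]
    have h2 := h1 u hu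
    cases h3 : Nat.beq (HR (φ u ⟨b, hb⟩).1) 0
    · rfl
    · exact absurd (Nat.eq_of_beq_eq_true h3) h2
  · intro w hw b' hb' hL
    have h2 := (lall_iff _ _).1 ((lall_iff _ _).1 hWI w hw) b' hb'
    exact Subtype.ext (by rw [phi_gw hc φ g hφ]; exact Nat.eq_of_beq_eq_true h2)

end

/-- the two halves of a tree -/
noncomputable def lft (t : Tr ℕ) : Tr ℕ := Tr.rec (motive := fun _ => Tr ℕ) (fun a => Tr.lf a) (fun _ l _ _ _ => l) t
noncomputable def rgt (t : Tr ℕ) : Tr ℕ := Tr.rec (motive := fun _ => Tr ℕ) (fun a => Tr.lf a) (fun _ _ r _ _ => r) t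
theorem all_split (p : ℕ → Bool) (t : Tr ℕ) (h1 : Tr.all p (lft t) = true) (h2 : Tr.all p (rgt t) = true) : Tr.all p t = true := by
  cases t with
  | lf a => exact h1
  | nd k l r => exact Tr.all_nd h1 h2

end CfsgLib.TC
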