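import Cfsg.Agent.EqBase
import Cfsg.Agent.LibCoTB
import Cfsg.Agent.LibTCAut6
set_option autoImplicit false
set_option linter.all false

/-! Explicit elements of the automorphism group of the lattice given by symmetric matrices. -/

namespace CfsgLib.CoM
open Cfsg CfsgLib.Golay CfsgLib.M24 CfsgLib.Leech CfsgLib.Co MulAction

/-- sum of the fields -/
noncomputable def sN (a : ℕ) (n : ℕ) : ℕ := Nat.rec (motive := fun _ => ℕ) 0 (fun i s => Nat.add s (fld a i)) n
noncomputable def dN (a b : ℕ) (n : ℕ) : ℕ := Nat.rec (motive := fun _ => ℕ) 0 (fun i s => Nat.add s (Nat.mul (fld a i) (fld b i))) n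

theorem sN_eq (a n : ℕ) : (sN a n : ℤ) = ∑ i ∈ Finset.range n, (fld a i : ℤ) := by
  induction n with
  | zero => rfl
  | succ n ih =>
    have : sN a (n+1) = sN a n + fld a n := rfl
    rw [this, Finset.sum_range_succ, ← ih]; push_cast; ring
theorem dN_eq (a b n : ℕ) : (dN a b n : ℤ) = ∑ i ∈ Finset.range n, (fld a i : ℤ) * (fld b i : ℤ) := by
  induction n with
  | zero => rfl
  | succ n ih =>
    have : dN a b (n+1) = dN a b n + fld a n * fld b n := rfl
    rw [this, Finset.sum_range_succ, ← ih]; push_cast; ring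

theorem sum_pt (f : ℕ → ℤ) : ∑ p : GolayPt, f (idx p) = ∑ i ∈ Finset.range 24, f i := by
  rw [← Fin.sum_univ_eq_sum_range]
  exact Fintype.sum_equiv ptEquiv _ _ (fun p => rfl)

theorem dot_dec (a b : ℕ) : dotInt (dec a) (dec b) = (dN a b 24 : ℤ) - 8 * sN a 24 - 8 * sN b 24 + 1536 := by
  have h : dotInt (dec a) (dec b) = ∑ p : GolayPt, (fun i => ((fld a i : ℤ) - 8) * ((fld b i : ℤ) - 8)) (idx p) := rfl
  rw [h, sum_pt (fun i => ((fld a i : ℤ) - 8) * ((fld b i : ℤ) - 8)), sN_eq, sN_eq, dN_eq, Finset.mul_sum, Finset.mul_sum, ← Finset.sum_sub_distrib, ← Finset.sum_sub_distrib]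
  have h2 : (1536 : ℤ) = ∑ i ∈ Finset.range 24, (64 : ℤ) := by rw [Finset.sum_const, Finset.card_range]; rfl
  rw [h2, ← Finset.sum_add_distrib]
  apply Finset.sum_congr rfl
  intro i _
  ring

/-- application check: row list (code, sum) -/
noncomputable def apL (d k k' sk : ℕ) (l : List (ℕ × ℕ)) : ℕ → Bool :=
  List.rec (motive := fun _ => ℕ → Bool) (fun _ => true)
    (fun r _ ih i => Bool.rec (motive := fun _ => Bool) false (ih (Nat.succ i))
      (Nat.beq (Nat.add (dN r.1 k 24) (Nat.add 1536 (Nat.mul 8 d))) (Nat.add (Nat.mul d (fld k' i)) (Nat.mul 8 (Nat.add r.2 sk))))) l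
noncomputable def apOK (d : ℕ) (l : List (ℕ × ℕ)) (k k' : ℕ) : Bool := CfsgLib.TC.nf (sN k 24) fun sk => apL d k k' sk l 0

theorem apL_sound (d k k' sk : ℕ) (l : List (ℕ × ℕ)) : ∀ i, apL d k k' sk l i = true → ∀ j (hj : j < l.length),
    dN l[j].1 k 24 + (1536 + 8 * d) = d * fld k' (i + j) + 8 * (l[j].2 + sk) := by
  induction l with
  | nil => intro i _ j hj; exact absurd hj (Nat.not_lt_zero _)
  | cons r l ih =>
    intro i h j hj
    have e : apL d k k' sk (r :: l) i = Bool.rec (motive := fun _ => Bool) false (apL d k k' sk l (Nat.succ i))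
      (Nat.beq (Nat.add (dN r.1 k 24) (Nat.add 1536 (Nat.mul 8 d))) (Nat.add (Nat.mul d (fld k' i)) (Nat.mul 8 (Nat.add r.2 sk)))) := rfl
    rw [e] at h
    cases h1 : Nat.beq (Nat.add (dN r.1 k 24) (Nat.add 1536 (Nat.mul 8 d))) (Nat.add (Nat.mul d (fld k' i)) (Nat.mul 8 (Nat.add r.2 sk)))
    · rw [h1] at h; exact absurd h (by simp)
    · rw [h1] at h
      cases j with
      | zero => exact Nat.eq_of_beq_eq_true h1
      | succ j =>
        have h2 := ih (Nat.succ i) h j (Nat.lt_of_succ_lt_succ hj)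
        have e2 : Nat.succ i + j = i + (j + 1) := by omega
        rw [e2] at h2
        exact h2

/-- the rows as vectors -/
def row (l : List (ℕ × ℕ)) (p : GolayPt) : E := dec (l.getD (idx p) (0, 0)).1

/-- a valid row list: 24 rows, correct sums -/
noncomputable def rwOK (l : List (ℕ × ℕ)) : Bool := CfsgLib.TC.band (Nat.beq l.length 24) (CfsgLib.TC.lall (fun r => Nat.beq (sN r.1 24) r.2) l)

theorem apOK_sound {d : ℕ} {l : List (ℕ × ℕ)} (hl : rwOK l = true) {k k' : ℕ} (h : apOK d l k k' = true) (p : GolayPt) :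
    dotInt (row l p) (dec k) = d * dec k' p := by
  unfold apOK at h
  rw [CfsgLib.TC.nf_eq] at h
  rw [rwOK, CfsgLib.TC.band_iff] at hl
  have h24 : l.length = 24 := Nat.eq_of_beq_eq_true hl.1
  have hj : idx p < l.length := by rw [h24]; exact idx_lt p
  have h1 := apL_sound d k k' (sN k 24) l 0 h (idx p) hj
  rw [Nat.zero_add] at h1
  have h2 : l.getD (idx p) (0, 0) = l[idx p] := by rw [List.getD_eq_getElem?_getD, List.getElem?_eq_getElem hj]; rfl
  have h3 : sN l[idx p].1 24 = l[idx p].2 := Nat.eq_of_beq_eq_true ((CfsgLib.TC.lall_iff _ _).1 hl.2 _ (List.getElem_mem hj))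
  rw [row, h2, dot_dec, h3]
  have h4 : ((dN l[idx p].1 k 24 : ℕ) : ℤ) + (1536 + 8 * d) = d * fld k' (idx p) + 8 * (l[idx p].2 + sN k 24) := by exact_mod_cast h1
  have h5 : dec k' p = (fld k' (idx p) : ℤ) - 8 := rfl
  rw [h5]
  linarith

/-- the linear map -/
def Fm (r : GolayPt → E) : E →+ E := AddMonoidHom.mk' (fun v p => dotInt (r p) v) (by
  intro a b; funext p; exact dot_add_right _ _ _)
theorem Fm_apply (r : GolayPt → E) (v : E) (p : GolayPt) : Fm r v p = dotInt (r p) v := rfl

theorem Fm_dec {d : ℕ} {l : List (ℕ × ℕ)} (hl : rwOK l = true) {k k' : ℕ} (h : apOK d l k k' = true) :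
    Fm (row l) (dec k) = (d : ℤ) • dec k' := by
  funext p
  rw [Fm_apply, apOK_sound hl h p, Pi.smul_apply, smul_eq_mul]

theorem Fm_self {r : GolayPt → E} (hs : ∀ p q, r p q = r q p) (v w : E) : dotInt (Fm r v) w = dotInt v (Fm r w) := by
  have e1 : dotInt (Fm r v) w = ∑ p, (∑ q, r p q * v q) * w p := rfl
  have e2 : dotInt v (Fm r w) = ∑ p, v p * ∑ q, r p q * w q := rfl
  rw [e1, e2]
  simp_rw [Finset.sum_mul, Finset.mul_sum]
  rw [Finset.sum_comm]
  apply Finset.sum_congr rfl
  intro p _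
  apply Finset.sum_congr rfl
  intro q _
  rw [hs q p]; ring

theorem Fm_Fm {r : GolayPt → E} (hs : ∀ p q, r p q = r q p) {d : ℤ} (ho : ∀ q, Fm r (r q) = Pi.single q (d * d)) (v : E) :
    Fm r (Fm r v) = (d * d) • v := by
  funext p
  rw [Fm_apply, dot_comm, Fm_self hs, ho, dot_comm, dot_single_left, Pi.smul_apply, smul_eq_mul]

/-- `2 * lift w` -/
def tw (w : GolayPt → ZMod 2) : E := fun i => 2 * lf (w i)

/-- generators of the lattice -/
theorem Lam_le {T : AddSubgroup E} (h5 : W5 ∈ T) (hq : ∀ t : ZMod 23, tw (qrWord t) ∈ T) (h1 : tw 1 ∈ T)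
    (h4 : ∀ p : GolayPt, p ≠ none → P none p 4 4 ∈ T) (h8 : (Pi.single none 8 : E) ∈ T) : Lam ≤ T := by
  have hev : ∀ y : E, (2 : ℤ) ∣ ∑ i, y i → (fun i => 4 * y i : E) ∈ T := by
    intro y ⟨c, hc⟩
    have e : (fun i => 4 * y i : E) = (∑ j : ZMod 23, y (some j) • P none (some j) 4 4) +
        (y none - c) • (Pi.single none 8 : E) := by
      funext i
      rw [Pi.add_apply, Finset.sum_apply]
      rw [Fintype.sum_option] at hc
      cases i with
      | none =>
        have e1 : ∀ j : ZMod 23, (y (some j) • P none (some j) 4 4) none = y (some j) * 4 := by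
          intro j
          rw [Pi.smul_apply, smul_eq_mul, P, Pi.add_apply, Pi.single_eq_same, Pi.single_eq_of_ne (by simp), add_zero]
        rw [Finset.sum_congr rfl (fun j _ => e1 j), ← Finset.sum_mul, Pi.smul_apply, Pi.single_eq_same, smul_eq_mul]
        linarith
      | some i =>
        have e1 : ∀ j : ZMod 23, (y (some j) • P none (some j) 4 4) (some i) = if i = j then y (some j) * 4 else 0 := by
          intro j
          rw [Pi.smul_apply, smul_eq_mul, P, Pi.add_apply, Pi.single_eq_of_ne (by simp), zero_add]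
          by_cases hij : i = j
          · subst hij; rw [Pi.single_eq_same, if_pos rfl]
          · rw [Pi.single_eq_of_ne (by intro h; exact hij (Option.some_injective _ h)), if_neg hij, mul_zero]
        rw [Finset.sum_congr rfl (fun j _ => e1 j), Finset.sum_ite_eq, if_pos (Finset.mem_univ _), Pi.smul_apply,
          Pi.single_eq_of_ne (by simp), smul_zero, add_zero, mul_comm]
    rw [e]
    exact T.add_mem (T.sum_mem fun j _ => T.zsmul_mem (h4 _ (by simp)) _) (T.zsmul_mem h8 _)
  have hadd : ∀ v w : GolayPt → ZMod 2, v ∈ golayCode → w ∈ golayCode → tw v ∈ T → tw w ∈ T → tw (v + w) ∈ T := by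
    intro v w hv hw h h'
    have e : tw (v + w) = tw v + tw w - (fun i => 4 * (lf (v i) * lf (w i)) : E) := by
      funext i
      rw [Pi.sub_apply, Pi.add_apply]
      change 2 * lf (v i + w i) = 2 * lf (v i) + 2 * lf (w i) - 4 * (lf (v i) * lf (w i))
      have := lf_add (v i) (w i)
      linarith
    rw [e]
    exact T.sub_mem (T.add_mem h h') (hev _ (two_dvd_dot hv hw))
  have hcode : ∀ w ∈ golayCode, tw w ∈ T := by
    intro w hw
    have key : w ∈ golayCode ∧ tw w ∈ T := by
      unfold golayCode at hw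
      induction hw using Submodule.span_induction with
      | mem x hx =>
        rcases hx with ⟨t, rfl⟩ | rfl
        · exact ⟨Submodule.subset_span (Or.inl ⟨t, rfl⟩), hq t⟩
        · exact ⟨one_mem, h1⟩
      | zero =>
        refine ⟨Submodule.zero_mem _, ?_⟩
        have : tw 0 = 0 := by funext i; rfl
        rw [this]; exact T.zero_mem
      | add x y _ _ hx hy => exact ⟨Submodule.add_mem _ hx.1 hy.1, hadd x y hx.1 hy.1 hx.2 hy.2⟩
      | smul a x _ hx =>
        refine ⟨Submodule.smul_mem _ _ hx.1, ?_⟩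
        have ha : a = 0 ∨ a = 1 := by revert a; decide
        rcases ha with rfl | rfl
        · have : tw ((0 : ZMod 2) • x) = 0 := by rw [zero_smul]; funext i; rfl
          rw [this]; exact T.zero_mem
        · rw [one_smul]; exact hx.2
    exact key.2
  intro x hx
  obtain ⟨m, w, y, hw, hx1, hx2⟩ := hx
  have e : x = m • W5 + tw w + (fun i => 4 * (y i - (Pi.single none m : E) i) : E) := by
    funext i
    rw [Pi.add_apply, Pi.add_apply, hx1 i, Pi.smul_apply, smul_eq_mul]
    change _ = m * W5 i + 2 * lf (w i) + 4 * (y i - (Pi.single none m : E) i)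
    by_cases hi : i = none
    · subst hi
      rw [Pi.single_eq_same]
      have : W5 none = 5 := rfl
      rw [this]; ring
    · rw [Pi.single_eq_of_ne hi, W5_other hi]; ring
  rw [e]
  refine T.add_mem (T.add_mem (T.zsmul_mem h5 _) (hcode w hw)) (hev _ ?_)
  rw [Finset.sum_sub_distrib, Finset.sum_pi_single', if_pos (Finset.mem_univ _)]
  exact hx2

end CfsgLib.CoM
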