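import Cfsg.Agent.EqBase
import Cfsg.Agent.LibCoM1
set_option autoImplicit false
set_option linter.all false
set_option maxRecDepth 100000

/-! Explicit elements of the automorphism group of the lattice given by symmetric matrices: construction. -/

namespace CfsgLib.CoM
open Cfsg CfsgLib.Golay CfsgLib.M24 CfsgLib.Leech CfsgLib.Co MulAction
open CfsgLib.TC (lall lall_iff band band_iff)

def cW5 : ℕ := 67343938137124686954512357785
def GQ : List ℕ := [42255029489243670898537048746, 42255171713784033628241177256, 42257447306429837303507233416, 42293856788762696107764131976, 42876408506088436975874508936, 42293715669017248666447546506, 42874150590161277914809141416, 42257589014182703689401666186, 42296124112808558282075056296, 42912685690822231764849298056, 42874150624757965290044172426, 42257589567729701693162162346, 42296132969560526342242994856, 42912827398853720727536315016, 42876417953261788693036443786, 42293866823790876141038504106, 42876569066539317508264463016, 42296284636231337184686811786, 42915254065586694206637385896, 42915244620989364358653577866,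 42915093507432086790912649386, 42912675690515645707057793706, 42873990619852588365380102826]
def cO : ℕ := 52818775009509558395695966890
def GP : List ℕ := [62062060636173731114942761100, 62062060636173731114942761160, 62062060636173731114942762120, 62062060636173731114942777480, 62062060636173731114943023240, 62062060636173731114946955400, 62062060636173731115009869960, 62062060636173731116016502920, 62062060636173731132122630280, 62062060636173731389820668040, 62062060636173735512989272200, 62062060636173801483686938760, 62062060636174857014849603720, 62062060636191745513452243080, 62062060636461961491094472840, 62062060640785417133370149000, 62062060709960707409780967560, 62062061816765351832354064520, 62062079525639662593523615880, 62062362867628634772236437640, 62066896339452189631641585800, 62139431888629067382123956360, 63300000675459111389841885320]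
def cE : ℕ := 2640938750475477919784798344
def GEN : List ℕ := cW5 :: cO :: cE :: (GQ ++ GP)

theorem cW5_eq : dec cW5 = W5 := by decide +kernel
theorem cO_eq : dec cO = tw 1 := by decide +kernel
theorem cE_eq : dec cE = -(Pi.single none 8 : E) := by decide +kernel
theorem GQ_eq : ∀ t : ZMod 23, dec (GQ.getD t.val 0) = tw (qrWord t) := by
  intro t
  rw [qrWord_eq]
  revert t
  decide +kernel
theorem GP_eq : ∀ j : ZMod 23, dec (GP.getD j.val 0) = P none (some j) 4 4 := by decide +kernel

theorem getD_mem {l : List ℕ} {i : ℕ} (h : i < l.length) : l.getD i 0 ∈ l := by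
  rw [List.getD_eq_getElem?_getD, List.getElem?_eq_getElem h]
  exact List.getElem_mem h

/-- the lattice condition -/
noncomputable def latB (d : ℕ) (l : List (ℕ × ℕ)) (IM : List (ℕ × ℕ × ℤ × ℕ)) : Bool :=
  lall (fun t => band (apOK d l t.1 t.2.1) (chkL t.2.1 t.2.2.1 t.2.2.2)) IM

theorem lat_of {d : ℕ} {l : List (ℕ × ℕ)} (hl : rwOK l = true) {IM : List (ℕ × ℕ × ℤ × ℕ)} (hg : IM.map (fun t => t.1) = GEN)
    (h : latB d l IM = true) : ∀ v ∈ Lam, ∃ u ∈ Lam, Fm (row l) v = (d : ℤ) • u := by
  let T : AddSubgroup E :=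
    { carrier := {v | ∃ u ∈ Lam, Fm (row l) v = (d : ℤ) • u}
      zero_mem' := ⟨0, Lam.zero_mem, by simp⟩
      add_mem' := by
        rintro a b ⟨u, hu, e⟩ ⟨w, hw, e'⟩
        exact ⟨u + w, Lam.add_mem hu hw, by rw [map_add, e, e', smul_add]⟩
      neg_mem' := by
        rintro a ⟨u, hu, e⟩
        exact ⟨-u, Lam.neg_mem hu, by rw [map_neg, e, smul_neg]⟩ }
  have hG : ∀ k ∈ GEN, dec k ∈ T := by
    intro k hk
    rw [← hg, List.mem_map] at hk
    obtain ⟨t, ht, rfl⟩ := hk
    have h1 := (lall_iff _ _).1 h t ht
    rw [band_iff] at h1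
    exact ⟨dec t.2.1, lam_of_chkL h1.2, Fm_dec hl h1.1⟩
  have hq : ∀ k, k ∈ GQ → k ∈ GEN := fun k hk =>
    List.mem_cons_of_mem _ (List.mem_cons_of_mem _ (List.mem_cons_of_mem _ (List.mem_append_left _ hk)))
  have hp : ∀ k, k ∈ GP → k ∈ GEN := fun k hk =>
    List.mem_cons_of_mem _ (List.mem_cons_of_mem _ (List.mem_cons_of_mem _ (List.mem_append_right _ hk)))
  have key : Lam ≤ T := by
    apply Lam_le
    · rw [← cW5_eq]; exact hG _ List.mem_cons_self
    · intro t
      rw [← GQ_eq]
      exact hG _ (hq _ (getD_mem (lt_of_lt_of_le (ZMod.val_lt t) (by decide))))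
    · rw [← cO_eq]; exact hG _ (List.mem_cons_of_mem _ List.mem_cons_self)
    · intro p hp'
      cases p with
      | none => exact absurd rfl hp'
      | some j =>
        rw [← GP_eq]
        exact hG _ (hp _ (getD_mem (lt_of_lt_of_le (ZMod.val_lt j) (by decide))))
    · have h1 := hG _ (List.mem_cons_of_mem _ (List.mem_cons_of_mem _ List.mem_cons_self))
      rw [cE_eq] at h1
      exact neg_mem_iff.1 h1
  exact key

/-- validity of a matrix -/
structure MOK (l : List (ℕ × ℕ)) (d : ℕ) : Prop where
  rw : rwOK l = true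
  sym : ∀ p q, row l p q = row l q p
  orth : ∀ q, Fm (row l) (row l q) = Pi.single q ((d : ℤ) * d)
  pos : 0 < d
  lat : ∀ v ∈ Lam, ∃ u ∈ Lam, Fm (row l) v = (d : ℤ) • u

noncomputable def symB (l : List (ℕ × ℕ)) : Bool :=
  lall (fun i => lall (fun j => Nat.beq (fld (l.getD i (0, 0)).1 j) (fld (l.getD j (0, 0)).1 i)) (List.range 24)) (List.range 24)

noncomputable def orthB (d : ℕ) (l : List (ℕ × ℕ)) (KD : List ℕ) : Bool :=
  lall (fun j => band (apOK d l (l.getD j (0, 0)).1 (KD.getD j 0))
    (lall (fun i => Nat.beq (fld (KD.getD j 0) i) (Bool.rec (motive := fun _ => ℕ) 8 (Nat.add 8 d) (Nat.beq i j))) (List.range 24))) (List.range 24)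

theorem MOK.of {l : List (ℕ × ℕ)} {d : ℕ} (hl : rwOK l = true) (hs : symB l = true) {KD : List ℕ} (ho : orthB d l KD = true) (hd : 0 < d)
    {IM : List (ℕ × ℕ × ℤ × ℕ)} (hg : IM.map (fun t => t.1) = GEN) (h : latB d l IM = true) : MOK l d := by
  refine ⟨hl, fun p q => ?_, fun q => ?_, hd, lat_of hl hg h⟩
  · have h1 := (lall_iff _ _).1 ((lall_iff _ _).1 hs (idx p) (List.mem_range.2 (idx_lt p))) (idx q) (List.mem_range.2 (idx_lt q))
    change (fld (l.getD (idx p) (0, 0)).1 (idx q) : ℤ) - 8 = (fld (l.getD (idx q) (0, 0)).1 (idx p) : ℤ) - 8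
    rw [Nat.eq_of_beq_eq_true h1]
  · have h1 := (lall_iff _ _).1 ho (idx q) (List.mem_range.2 (idx_lt q))
    rw [band_iff] at h1
    have h2 : Fm (row l) (row l q) = (d : ℤ) • dec (KD.getD (idx q) 0) := Fm_dec hl h1.1
    rw [h2]
    funext p
    have h3 := (lall_iff _ _).1 h1.2 (idx p) (List.mem_range.2 (idx_lt p))
    rw [Pi.smul_apply, smul_eq_mul]
    change (d : ℤ) * ((fld (KD.getD (idx q) 0) (idx p) : ℤ) - 8) = _
    rw [Nat.eq_of_beq_eq_true h3]
    by_cases hpq : p = q
    · subst hpq
      have : Nat.beq (idx p) (idx p) = true := Nat.beq_refl _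
      rw [this, Pi.single_eq_same]
      change (d : ℤ) * (((8 + d : ℕ) : ℤ) - 8) = _
      push_cast; ring
    · have : Nat.beq (idx p) (idx q) = false := by
        cases hb : Nat.beq (idx p) (idx q)
        · rfl
        · exact absurd (idx_injective (Nat.eq_of_beq_eq_true hb)) hpq
      rw [this, Pi.single_eq_of_ne hpq]
      change (d : ℤ) * (((8 : ℕ) : ℤ) - 8) = 0
      norm_num

section
variable {l : List (ℕ × ℕ)} {d : ℕ} (h : MOK l d)

noncomputable def mf (v : LL) : LL := ⟨Classical.choose (h.lat v (mem_LL.1 v.2)), mem_LL.2 (Classical.choose_spec (h.lat v (mem_LL.1 v.2))).1⟩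
theorem mf_spec (v : LL) : Fm (row l) (v : E) = (d : ℤ) • ((mf h v : LL) : E) := (Classical.choose_spec (h.lat v (mem_LL.1 v.2))).2

include h in
theorem smul_canc {a b : E} (e : (d : ℤ) • a = (d : ℤ) • b) : a = b := by
  funext p
  have h1 := congrFun e p
  rw [Pi.smul_apply, Pi.smul_apply, smul_eq_mul, smul_eq_mul] at h1
  have : (d : ℤ) ≠ 0 := by have := h.pos; omega
  exact mul_left_cancel₀ this h1

theorem mf_eq {v u : LL} (e : Fm (row l) (v : E) = (d : ℤ) • (u : E)) : mf h v = u := by
  apply Subtype.ext
  apply smul_canc h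
  rw [← mf_spec, e]

theorem mf_mf (v : LL) : mf h (mf h v) = v := by
  apply mf_eq
  apply smul_canc h
  rw [← map_zsmul, ← mf_spec, Fm_Fm h.sym h.orth, smul_smul]

theorem mf_add (v w : LL) : mf h (v + w) = mf h v + mf h w := by
  apply mf_eq
  rw [AddSubgroup.coe_add, map_add, mf_spec h, mf_spec h, AddSubgroup.coe_add, smul_add]

theorem mf_norm (v : LL) : sqNorm ((mf h v : LL) : E) = sqNorm (v : E) := by
  have h1 : dotInt (Fm (row l) (v : E)) (Fm (row l) (v : E)) = dotInt (v : E) (Fm (row l) (Fm (row l) (v : E))) := Fm_self h.sym _ _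
  rw [Fm_Fm h.sym h.orth, mf_spec h] at h1
  have e1 : ∀ (c : ℤ) (a b : E), dotInt (c • a) b = c * dotInt a b := by
    intro c a b
    change ∑ i, (c • a) i * b i = c * ∑ i, a i * b i
    rw [Finset.mul_sum]
    exact Finset.sum_congr rfl fun i _ => by rw [Pi.smul_apply, smul_eq_mul]; ring
  rw [e1, dot_comm, e1, dot_comm (v : E), e1, ← sqNorm_dot, ← sqNorm_dot, ← mul_assoc] at h1
  have : (d : ℤ) * d ≠ 0 := by
    have := h.pos
    exact mul_ne_zero (by omega) (by omega)
  exact mul_left_cancel₀ this h1

/-- the element -/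
noncomputable def mC : Co0 := mkCo
  { toFun := mf h
    invFun := mf h
    left_inv := mf_mf h
    right_inv := mf_mf h
    map_add' := mf_add h } (mf_norm h)

theorem mC_apply (v : LL) : mC h • v = mf h v := rfl

theorem mC_dec {v : LL} {k k' : ℕ} (hv : (v : E) = dec k) (ha : apOK d l k k' = true) : ((mC h • v : LL) : E) = dec k' := by
  rw [mC_apply]
  apply smul_canc h
  rw [← mf_spec, hv, Fm_dec h.rw ha]

end
end CfsgLib.CoM
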