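import Cfsg.Agent.EqBase
import Cfsg.Agent.LibCoM2
set_option autoImplicit false
set_option linter.all false

/-! Permutation representations on finite sets of lattice vectors. -/

namespace CfsgLib.CoM
open Cfsg CfsgLib.Golay CfsgLib.M24 CfsgLib.Leech CfsgLib.Co MulAction
open CfsgLib.TC (lall lall_iff band band_iff Tr mem mem_sound Closed Om walk nthR nthR_mem treeP gw gw_cons gw_nil size stabN Good Lv good_bot)

section
variable {C : Type} {L : Tr ℕ} {stp : C → ℕ → ℕ} {inv : C → C}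

theorem walk_ind {P : ℕ → Prop} (hm : ∀ c, ∀ q ∈ L.toList, stp c q ∈ L.toList)
    (hs : ∀ c, ∀ q ∈ L.toList, P q → P (stp c q)) (w : List C) : ∀ q ∈ L.toList, P q → P (walk stp w q) := by
  induction w with
  | nil => intro q _ h; exact h
  | cons c w ih => intro q hq h; exact ih (stp c q) (hm c q hq) (hs c q hq h)

theorem tree_ind {P : ℕ → Prop} (hm : ∀ c, ∀ q ∈ L.toList, stp c q ∈ L.toList)
    (hs : ∀ c, ∀ q ∈ L.toList, P q → P (stp c q)) {HP HR HW : ℕ → ℕ} {SW : List (List C)} {b : ℕ} (hb : P b)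
    (hchk : Tr.all (treeP L stp HP HR HW SW (fun q => Nat.beq b q)) L = true) : ∀ q ∈ L.toList, P q := by
  suffices h : ∀ n, ∀ q ∈ L.toList, HR q = n → P q from fun q hq => h _ q hq rfl
  intro n
  induction n using Nat.strong_induction_on with
  | _ n ih =>
    intro q hq hn
    have h1 := (Tr.all_iff _ _).1 hchk q hq
    have h2 : Bool.rec (motive := fun _ => Bool)
      (band (mem L (HP q)) (band (Nat.ble (Nat.succ (HR (HP q))) (HR q))
      (Nat.beq (walk stp (nthR SW (HW q)) (HP q)) q))) true (Nat.beq b q) = true := h1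
    cases hbq : Nat.beq b q
    · rw [hbq] at h2
      have h3 : band (mem L (HP q)) (band (Nat.ble (Nat.succ (HR (HP q))) (HR q))
        (Nat.beq (walk stp (nthR SW (HW q)) (HP q)) q)) = true := h2
      simp only [band_iff] at h3
      obtain ⟨h4, h5, h6⟩ := h3
      have h4 := mem_sound h4
      have h5 : HR (HP q) < HR q := Nat.le_of_ble_eq_true h5
      have h6 := Nat.eq_of_beq_eq_true h6
      rw [← h6]
      exact walk_ind hm hs _ _ h4 (ih (HR (HP q)) (hn ▸ h5) (HP q) h4 rfl)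
    · rw [← Nat.eq_of_beq_eq_true hbq]; exact hb

/-- data of a representation -/
structure RD (GS : Subgroup Co0) (S : Set LL) (L : Tr ℕ) (stp : C → ℕ → ℕ) (e : ℕ → ℕ) (gC : C → Co0) : Prop where
  inv : ∀ u ∈ GS, ∀ v ∈ S, u • v ∈ S
  mem : ∀ c, gC c ∈ GS
  act : ∀ c, ∀ q ∈ L.toList, ∀ v : LL, (v : E) = dec (e q) → ((gC c • v : LL) : E) = dec (e (stp c q))
  tree : ∀ q ∈ L.toList, ∃ v ∈ S, (v : E) = dec (e q)
  inj : ∀ q ∈ L.toList, ∀ q' ∈ L.toList, e q = e q' → q = q'
  lt : ∀ q, e q < 16 ^ 24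
  card : S.ncard = size L
  pos : 0 < size L
  nodup : L.toList.Nodup

variable {GS : Subgroup Co0} {S : Set LL} {e : ℕ → ℕ} {gC : C → Co0}

theorem RD.of_tree (hc : Closed L stp inv) (h1 : ∀ u ∈ GS, ∀ v ∈ S, u • v ∈ S) (h2 : ∀ c, gC c ∈ GS)
    (h3 : ∀ c, ∀ q ∈ L.toList, ∀ v : LL, (v : E) = dec (e q) → ((gC c • v : LL) : E) = dec (e (stp c q)))
    {HP HR HW : ℕ → ℕ} {SW : List (List C)} {b : ℕ} (hb : ∃ v ∈ S, (v : E) = dec (e b))
    (hchk : Tr.all (treeP L stp HP HR HW SW (fun q => Nat.beq b q)) L = true)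
    (h5 : ∀ q ∈ L.toList, ∀ q' ∈ L.toList, e q = e q' → q = q') (h6 : ∀ q, e q < 16 ^ 24) (h7 : S.ncard = size L) (h8 : 0 < size L)
    (h9 : L.toList.Nodup) : RD GS S L stp e gC := by
  refine ⟨h1, h2, h3, ?_, h5, h6, h7, h8, h9⟩
  refine tree_ind (P := fun q => ∃ v ∈ S, (v : E) = dec (e q)) (fun c q hq => hc.mem q hq c) ?_ hb hchk
  rintro c q hq ⟨v, hv, he⟩
  exact ⟨gC c • v, h1 _ (h2 c) _ hv, h3 c q hq v he⟩

noncomputable def ef (D : RD GS S L stp e gC) (q : Om L) : ↥S := ⟨Classical.choose (D.tree q.1 q.2), (Classical.choose_spec (D.tree q.1 q.2)).1⟩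
theorem ef_spec (D : RD GS S L stp e gC) (q : Om L) : ((ef D q).1 : E) = dec (e q.1) := (Classical.choose_spec (D.tree q.1 q.2)).2
theorem ef_inj (D : RD GS S L stp e gC) : Function.Injective (ef D) := by
  intro q q' h
  apply Subtype.ext
  apply D.inj _ q.2 _ q'.2
  apply dec_inj (D.lt _) (D.lt _)
  rw [← ef_spec D q, ← ef_spec D q', h]
theorem ef_bij (D : RD GS S L stp e gC) : Function.Bijective (ef D) := by
  have h1 : Nat.card (Om L) = size L := by rw [CfsgLib.TC.card_Om L D.nodup, ← CfsgLib.TC.size_eq]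
  have hfin : S.Finite := Set.finite_of_ncard_ne_zero (by rw [D.card]; exact D.pos.ne')
  have : Finite ↥S := hfin
  have h2 : Nat.card ↥S = size L := by rw [← D.card]; exact (Set.ncard_def S ▸ rfl)
  exact (Nat.bijective_iff_injective_and_card (ef D)).2 ⟨ef_inj D, by rw [h1, h2]⟩
noncomputable def eq (D : RD GS S L stp e gC) : Om L ≃ ↥S := Equiv.ofBijective _ (ef_bij D)
theorem eq_spec (D : RD GS S L stp e gC) (q : Om L) : ((eq D q).1 : E) = dec (e q.1) := ef_spec D q

/-- action on the set -/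
def aS (D : RD GS S L stp e gC) (u : ↥GS) : Equiv.Perm ↥S where
  toFun v := ⟨(u : Co0) • v.1, D.inv _ u.2 _ v.2⟩
  invFun v := ⟨(u⁻¹ : Co0) • v.1, D.inv _ (GS.inv_mem u.2) _ v.2⟩
  left_inv v := Subtype.ext (inv_smul_smul _ _)
  right_inv v := Subtype.ext (smul_inv_smul _ _)

noncomputable def rho (D : RD GS S L stp e gC) : ↥GS →* Equiv.Perm (Om L) :=
  MonoidHom.mk' (fun u => (eq D).trans ((aS D u).trans (eq D).symm)) (by
    intro u w
    apply Equiv.ext
    intro q
    apply (eq D).injective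
    rw [Equiv.Perm.mul_apply]
    simp only [Equiv.trans_apply, Equiv.apply_symm_apply]
    apply Subtype.ext
    exact mul_smul (u : Co0) (w : Co0) _)

theorem rho_spec (D : RD GS S L stp e gC) (u : ↥GS) (q : Om L) : (eq D (rho D u q)).1 = (u : Co0) • (eq D q).1 := by
  have : rho D u q = (eq D).symm (aS D u (eq D q)) := rfl
  rw [this, Equiv.apply_symm_apply]; rfl

def Pg (D : RD GS S L stp e gC) (c : C) : ↥GS := ⟨gC c, D.mem c⟩

theorem rho_P (D : RD GS S L stp e gC) (hc : Closed L stp inv) (c : C) : rho D (Pg D c) = hc.perm c := by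
  apply Equiv.ext
  intro q
  apply (eq D).injective
  apply Subtype.ext
  apply Subtype.ext
  have h1 : ((eq D (rho D (Pg D c) q)).1 : E) = dec (e (stp c q.1)) := by
    rw [rho_spec]; exact D.act c q.1 q.2 _ (eq_spec D q)
  have h2 : ((eq D (hc.perm c q)).1 : E) = dec (e (stp c q.1)) := eq_spec D _
  exact h1.trans h2.symm

end

/-- generation from the order -/
theorem gen_top {C : Type} {G : Type} [Group G] [Finite G] {L : Tr ℕ} (φ : G →* Equiv.Perm (Om L)) (g : C → G) {n : ℕ}
    (hn : Nat.card G = n)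
    (h : ∀ (Γ : Type) [Group Γ] [Finite Γ] (ψ : Γ →* Equiv.Perm (Om L)) (g' : C → Γ), (∀ c, ψ (g' c) = φ (g c)) → n ≤ Nat.card (stabN ψ [])) :
    Subgroup.closure (Set.range g) = ⊤ := by
  apply Subgroup.eq_top_of_le_card
  rw [hn]
  have h1 := h ↥(Subgroup.closure (Set.range g)) (φ.comp (Subgroup.closure (Set.range g)).subtype)
    (fun c => ⟨g c, Subgroup.subset_closure ⟨c, rfl⟩⟩) (fun c => rfl)
  exact le_trans h1 (Subgroup.card_le_card_group _)

/-- an automorphism from a normalising permutation -/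
theorem tau_of_pi {C : Type} {G : Type} [Group G] {L : Tr ℕ} {φ : G →* Equiv.Perm (Om L)} {g : C → G} {lvs : List (Lv C)}
    (hG : Good φ g [] lvs) (hgen : Subgroup.closure (Set.range g) = ⊤) (F : C → G) (Q' : Equiv.Perm (Om L))
    (h : ∀ c, Q' * φ (g c) = φ (F c) * Q') : ∃ τ : G →* G, ∀ c, τ (g c) = F c := by
  have hinj : Function.Injective φ := by
    rw [injective_iff_map_eq_one]
    intro u hu
    exact good_bot hG u (fun b _ hb => by rw [hu]; rfl)
  have h1 : ∀ u : G, (MulAut.conj Q') (φ u) ∈ φ.range := by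
    intro u
    have hu : u ∈ Subgroup.closure (Set.range g) := by rw [hgen]; trivial
    induction hu using Subgroup.closure_induction with
    | mem x hx =>
      obtain ⟨c, rfl⟩ := hx
      refine ⟨F c, ?_⟩
      rw [MulAut.conj_apply, h c, mul_inv_cancel_right]
    | one => rw [map_one, map_one]; exact Subgroup.one_mem _
    | mul a b _ _ ha hb => rw [map_mul, map_mul]; exact Subgroup.mul_mem _ ha hb
    | inv a _ ha => rw [map_inv, map_inv]; exact Subgroup.inv_mem _ ha
  let eqv : G ≃* φ.range := MonoidHom.ofInjective hinj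
  refine ⟨eqv.symm.toMonoidHom.comp (((MulAut.conj Q').toMonoidHom.comp φ).codRestrict φ.range h1), fun c => ?_⟩
  apply hinj
  have h2 : ∀ z : φ.range, φ (eqv.symm z) = z.1 := by
    intro z
    have := congrArg Subtype.val (eqv.apply_symm_apply z)
    exact this
  change φ (eqv.symm _) = _
  rw [h2]
  change (MulAut.conj Q') (φ (g c)) = _
  rw [MulAut.conj_apply, h c, mul_inv_cancel_right]

end CfsgLib.CoM
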