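import Cfsg.Agent.EqBase
import Cfsg.Agent.LibCoM3
set_option autoImplicit false
set_option linter.all false

/-! Injectivity of increasing label maps. -/

namespace CfsgLib.CoM
open CfsgLib.TC (lall lall_iff band band_iff Tr mem mem_sound size bst bst_sound size_eq)

theorem inj_of_mono {L : Tr ℕ} {n : ℕ} {e : ℕ → ℕ} (h1 : bst L 0 n = true) (h2 : size L = n)
    (h3 : Tr.all (fun q => Nat.ble (Nat.succ (e q)) (e (Nat.succ q))) L = true) :
    ∀ q ∈ L.toList, ∀ q' ∈ L.toList, e q = e q' → q = q' := by
  obtain ⟨h4, h5⟩ := bst_sound L 0 n h1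
  have hnd : L.toList.Nodup := h5.imp (fun h => Nat.ne_of_lt h)
  have hfull : ∀ k < n, k ∈ L.toList := by
    intro k hk
    have hsub : L.toList.toFinset ⊆ Finset.range n := by
      intro x hx
      rw [List.mem_toFinset] at hx
      exact Finset.mem_range.2 (h4 x hx).2
    have hc : (Finset.range n).card ≤ L.toList.toFinset.card := by
      rw [List.toFinset_card_of_nodup hnd, Finset.card_range, ← size_eq, h2]
    have heq := Finset.eq_of_subset_of_card_le hsub hc
    have : k ∈ L.toList.toFinset := by rw [heq]; exact Finset.mem_range.2 hk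
    exact List.mem_toFinset.1 this
  have hstep : ∀ k < n, e k < e (k + 1) := fun k hk => Nat.le_of_ble_eq_true ((Tr.all_iff _ _).1 h3 k (hfull k hk))
  have hmono : ∀ a b, a < b → b ≤ n → e a < e b := by
    intro a b hab
    induction b, hab using Nat.le_induction with
    | base => intro hb; exact hstep a (by omega)
    | succ b hb ih => intro hb'; exact lt_trans (ih (by omega)) (hstep b (by omega))
  intro q hq q' hq' he
  have b1 := (h4 q hq).2
  have b2 := (h4 q' hq').2
  rcases Nat.lt_trichotomy q q' with h | h | h
  · exact absurd he (Nat.ne_of_lt (hmono q q' h b2.le))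
  · exact h
  · exact absurd he.symm (Nat.ne_of_lt (hmono q' q h b1.le))

end CfsgLib.CoM
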