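import Cfsg.Agent.EqBase
import Cfsg.Agent.LibCoM4
set_option autoImplicit false
set_option linter.all false

/-! The Conway subgroups as stabilisers in `Co0`, and transport of `Out`. -/

namespace CfsgLib.CoM
open Cfsg CfsgLib.Golay CfsgLib.M24 CfsgLib.Leech CfsgLib.Co MulAction

theorem out_congr {G H : Type*} [Group G] [Group H] (e : G ≃* H) : Nat.card (Cfsg.Out G) = Nat.card (Cfsg.Out H) := by
  change (MulAut.conj : G →* MulAut G).range.index = (MulAut.conj : H →* MulAut H).range.index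
  have h1 : ((MulAut.conj : G →* MulAut G).range).map (MulAut.congr e).toMonoidHom = (MulAut.conj : H →* MulAut H).range := by
    ext x
    constructor
    · rintro ⟨_, ⟨g, rfl⟩, rfl⟩
      refine ⟨e g, ?_⟩
      ext y
      change e g * y * (e g)⁻¹ = e (g * e.symm y * g⁻¹)
      rw [map_mul, map_mul, map_inv, e.apply_symm_apply]
    · rintro ⟨h, rfl⟩
      refine ⟨MulAut.conj (e.symm h), ⟨_, rfl⟩, ?_⟩
      ext y
      change e (e.symm h * e.symm y * (e.symm h)⁻¹) = h * y * h⁻¹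
      rw [map_mul, map_mul, map_inv, e.apply_symm_apply, e.apply_symm_apply]
  rw [← h1]
  exact (Subgroup.index_map_equiv _ (MulAut.congr e)).symm

theorem leechU_eq : Spor.leechU = p44 := by
  apply Subtype.ext
  rw [p44_coe]
  decide +kernel
theorem leechU'_eq : Spor.leechU' = p4m := by
  apply Subtype.ext
  rw [p4m_coe]
  decide +kernel
theorem leechV_eq : Spor.leechV = -w5 := by
  apply Subtype.ext
  change _ = -(w5 : E)
  rw [w5_coe]
  decide +kernel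

theorem stab_V (g : Co0) : (g : Equiv.Perm LL) ∈ stabilizer (Equiv.Perm LL) Spor.leechV ↔ g ∈ stabilizer Co0 w5 := by
  rw [leechV_eq, mem_stabilizer_iff, mem_stabilizer_iff]
  have : (g : Equiv.Perm LL) • (-w5) = -(g • w5) := act_neg g w5
  rw [this, neg_inj]
theorem stab_U (g : Co0) : (g : Equiv.Perm LL) ∈ stabilizer (Equiv.Perm LL) Spor.leechU ↔ g ∈ stabilizer Co0 p44 := by
  rw [leechU_eq, mem_stabilizer_iff, mem_stabilizer_iff]; exact Iff.rfl
theorem stab_U' (g : Co0) : (g : Equiv.Perm LL) ∈ stabilizer (Equiv.Perm LL) Spor.leechU' ↔ g ∈ stabilizer Co0 p4m := by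
  rw [leechU'_eq, mem_stabilizer_iff, mem_stabilizer_iff]; exact Iff.rfl

noncomputable def isoOf (K : Subgroup (Equiv.Perm LL)) (h : K ≤ Co0) (S : Subgroup Co0) (hS : K.subgroupOf Co0 = S) : ↥K ≃* ↥S :=
  (Subgroup.subgroupOfEquivOfLe h).symm.trans (MulEquiv.subgroupCongr hS)

theorem out_HS : Nat.card (Cfsg.Out ↥Spor.HS) = Nat.card (Cfsg.Out ↥(stabilizer Co0 w5 ⊓ stabilizer Co0 p4m)) := by
  refine out_congr (isoOf _ (fun g hg => (Subgroup.mem_inf.1 (Subgroup.mem_inf.1 hg).1).1) _ ?_)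
  ext g
  change ((g : Equiv.Perm LL) ∈ (Co0 ⊓ stabilizer (Equiv.Perm LL) Spor.leechV) ⊓ stabilizer (Equiv.Perm LL) Spor.leechU') ↔ _
  rw [Subgroup.mem_inf, Subgroup.mem_inf, Subgroup.mem_inf, stab_V, stab_U']
  exact ⟨fun h => ⟨h.1.2, h.2⟩, fun h => ⟨⟨g.2, h.1⟩, h.2⟩⟩
theorem out_McL : Nat.card (Cfsg.Out ↥Spor.McL) = Nat.card (Cfsg.Out ↥(stabilizer Co0 w5 ⊓ stabilizer Co0 p44)) := by
  refine out_congr (isoOf _ (fun g hg => (Subgroup.mem_inf.1 (Subgroup.mem_inf.1 hg).1).1) _ ?_)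
  ext g
  change ((g : Equiv.Perm LL) ∈ (Co0 ⊓ stabilizer (Equiv.Perm LL) Spor.leechV) ⊓ stabilizer (Equiv.Perm LL) Spor.leechU) ↔ _
  rw [Subgroup.mem_inf, Subgroup.mem_inf, Subgroup.mem_inf, stab_V, stab_U]
  exact ⟨fun h => ⟨h.1.2, h.2⟩, fun h => ⟨⟨g.2, h.1⟩, h.2⟩⟩
theorem out_Co3 : Nat.card (Cfsg.Out ↥Spor.Co3) = Nat.card (Cfsg.Out ↥(stabilizer Co0 w5)) := by
  refine out_congr (isoOf _ (fun g hg => (Subgroup.mem_inf.1 hg).1) _ ?_)
  ext g
  change ((g : Equiv.Perm LL) ∈ Co0 ⊓ stabilizer (Equiv.Perm LL) Spor.leechV) ↔ _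
  rw [Subgroup.mem_inf, stab_V]
  exact ⟨fun h => h.2, fun h => ⟨g.2, h⟩⟩
theorem out_Co2 : Nat.card (Cfsg.Out ↥Spor.Co2) = Nat.card (Cfsg.Out ↥(stabilizer Co0 p44)) := by
  refine out_congr (isoOf _ (fun g hg => (Subgroup.mem_inf.1 hg).1) _ ?_)
  ext g
  change ((g : Equiv.Perm LL) ∈ Co0 ⊓ stabilizer (Equiv.Perm LL) Spor.leechU) ↔ _
  rw [Subgroup.mem_inf, stab_U]
  exact ⟨fun h => h.2, fun h => ⟨g.2, h⟩⟩

end CfsgLib.CoM
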