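import Cfsg.Agent.EqBase
import Cfsg.Agent.LibCoMcLAuA
set_option autoImplicit false
set_option linter.all false
set_option maxRecDepth 1000000
set_option maxHeartbeats 0
namespace CfsgLib.CoMcLAu
open Cfsg CfsgLib.Golay CfsgLib.M24 CfsgLib.Leech CfsgLib.Co MulAction CfsgLib.CoM
open CfsgLib.TC hiding eq_of_base
open CfsgLib.OrbM28 (gt gt_le)
def wx : List Col := [.b, .c, .a, .c, .a]
def wy : List Col := [.a, .c, .a, .b, .a, .c, .a, .c, .b, .c, .b, .a, .c, .a, .c, .a, .c, .b, .a, .c, .b, .a, .b, .c, .a, .c, .b]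
def ws : List Col := [.a, .c, .a, .c, .a, .b, .a, .c, .b, .a, .b, .c, .b, .c, .a, .c, .b, .a, .c, .a, .c, .b, .c, .a, .b, .a, .b, .a, .b, .c, .a, .b, .c, .a, .c, .b, .a, .b, .c]
noncomputable def TXt : ℕ := (nat_lit 0x60010600a8008000e4010c008900ff010000c400b400cc0050010d0081000c0051007000aa00b300e50097010f01020063009a009e0076004900be007b0077005a00ec00e900e100130000002700f20034007d010501010068008f0016006d00fb006f005600c200120064005200880054009000ba00e60107010300ed00da00ad009c00c1003d00bf00920085005b008d000200e000b9006a007200c50111005e007800b80065000100cb007e004f005d006700fd0075002e010400bb000500ca00b60069010a00af005f00de00f7001a0018000b008200cd00f8008c0074004b0025003000bd0059002000830011000800e7003b009d002b00390017008a004d00d3006100550033006c0036002800b50066000900ae00c8000a00df009400fa00ee00a9011000f900230058009b004300cf00a40087005c010e00d900d500a50112008e009300d80096004400f501080095010900fe00fc007a00db002c00d400d0005300b1009f008600c700ac001f00d700f60045002400ab000e00a200980040003c00f1007100ce00dc007c0032004e00b00014001c00c600190031007f002900b700e3007300070042002a00620003002d00f300a300a0001000bc0079001e00c900dd00a1010b00c0003a006b00d600f40057003700460047004100ea00d200a7003800a6003f002100ef0026003500e8002f000f00eb006e001b0084003e000400e2004a004c008b000600f000d10099009100c300150048002200b2000d001d)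
noncomputable def TX (q : ℕ) : ℕ := Nat.land (Nat.shiftRight TXt (Nat.mul (nat_lit 16) q)) (nat_lit 65535)
noncomputable def TYt : ℕ := (nat_lit 0x97005b005e010d007e00a9010500d8009000c4010600d6001200fc005800f20070010400c100860067010e001800990051006f00f8005500fd003d005a0036002400500107007100600052007f00c80069000a010c0093009e008f0008009800f90053004d00af0100000c00da0011001c00ec001e007200230005000d00a100ca007b004f002e008800d10085001a003f006d00a600e50110005900a5009f00aa002700fb009c00d3010a008100a8009200ab004000e7008d00a20042005600ed0002002200a300a4004400ae00fe008c008000cb00e400db00c500b4006a00b8003000d4008700d70102003e00b300b500ef00cf000f000100b000280049009400b1004500f700e1009600f100ff0112008900d500d0004300e90077010300e2004e00660084001b007d0082002d0064005f00c600d90076008e00bb010b006800c00013007c007a006b006200320006001000e6005c010f001700f4007500f5010800a700a0003700bf00b900f3006e0109002c0111006500c700ad0063004a00bc00c200c300fa00dd0007009d00250020009500cd006c003c0000000900ac00cc009a004c001f004600bd0091003b003900e000780057002b0003008a00210083001d007300190047001600dc005400f00015000b006100b200310029000400c900b7005d002f00be003500f6007400e300e8009b010100ba00ce004b002600eb0034003300b60079003800de0041008b00ee00d200df0014004800ea003a000e002a)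
noncomputable def TY (q : ℕ) : ℕ := Nat.land (Nat.shiftRight TYt (Nat.mul (nat_lit 16) q)) (nat_lit 65535)
noncomputable def TSt : ℕ := (nat_lit 0x1500a100b2002400a6003100ea000d003e00d1007f004c0084006900f900f1009d00e200c100fe00f400c800100004005700190039009b00eb000f001b001d0050008f003f009500a700ac00f5008600a50093000300000035006500ee003c002e0078008e006b01000053000a008b00410062007900dc0007004e00c000b80091008d010b010a00bc00b600b700bb00b100f00043005600250047007b001e005500270022005800a2009c005b001a0026007a0005004400fc008800dd010f004200a3009f003200e000720038006400c70083007400080009002d004d002100d500400071002f002b004b002c006600ce004800bd00ba00e800c30108002a006100af001f00170037001800e500ab0028007600810073006700e70046008c00cf00f30103003d00db00f800980096010e0099004a006c007d005e00cb00d400da00b0010200e300fd0107011200d600c900c5001c005a00f200a9007e0110009700ec00e400ef00ed0104006e003000f600cd006f00d3010d00b300d700c600ae011100f700d8003600e1003a001300a40054004f000e008a005d0068005c000c0020001400020016003300bf00df000600890075005200be008501090094002300aa009a00a000900001007c00e9009e00ca0106000b00d900b400c200d20087002900ad0101005f00b500cc001100a80045003400800082001200510070007700ff00590092010500fb006300de004900b90060003b006d00fa00d000c4006a010c00e6)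
noncomputable def TS (q : ℕ) : ℕ := Nat.land (Nat.shiftRight TSt (Nat.mul (nat_lit 16) q)) (nat_lit 65535)
theorem tX : Tr.all (fun q => Nat.beq (walkC stp wx q) (TX q)) L = true := by decide +kernel
theorem tY : Tr.all (fun q => Nat.beq (walkC stp wy q) (TY q)) L = true := by decide +kernel
theorem tS : Tr.all (fun q => Nat.beq (walkC stp ws q) (TS q)) L = true := by decide +kernel
theorem hg : ∀ c, Acts φ (P c) (stp c) := fun c q => by rw [φ_P]; rfl
noncomputable def x : GG := gw P wx
noncomputable def y : GG := gw P wy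
noncomputable def s : GG := gw P ws
theorem hx : Acts φ x TX := Acts.of_tabC (Acts.gwC hg wx) tX
theorem hy : Acts φ y TY := Acts.of_tabC (Acts.gwC hg wy) tY
theorem hs : Acts φ s TS := Acts.of_tabC (Acts.gwC hg ws) tS
def z1 : List Col := [.c, .a, .b, .a, .b, .c, .a, .c, .a, .b, .c, .a, .c, .b, .c, .b, .a, .b, .c]
noncomputable def TUt : ℕ := (nat_lit 0x6c0051006300b3007a0056000100d000cf00340094006d0028000e005d00800070001f00de001100ff006e00b6000d00050104007d0050005a00ec00fe00810066010300c9005f00e4005e006100f6010c002b009600850000008c0060006f0101004d00ae003b000b00b400d7007e00720026004f0054006b00a2007300570023010900040082009a0059001c00740029006a00fd00aa00530069000300950024010000d4003c0036009800ce00cb0097000900d300cc00cd001d00250055011000ca007100910052002000ed008b00310065001a00ee010e00ea004a00b100be0111002f00b0002a010200bd00f700300079007c0062007b00ef003300e9000f00d2002e00f100e000d1008300db0046003900b5002200eb0035010600a9001600880017010800640076002c00c400b900d800e100120089003800a8008700ad00a000130058005c0006007700df0002010500440086009b00e500ab000c00d900920008001e00750045004300bc0067001000bf00fa00c700c2004900dd0037001400f2004800d500a40107009d0078000a009900c50084001900b700c800b200da00a100f0010a007f00e30007004c00f800ac008e004e00e60018003d00af010d005b009f00e200a5009c009e00930021008a00c100ba00c6010f003200c000a30041009000c300f3006800f400bb00f9008d008f003e01120040004b0015001b00fc00f50047010b0042002700dc00a600a700d6003a00b800fb00e8003f002d00e7)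
noncomputable def TU (q : ℕ) : ℕ := Nat.land (Nat.shiftRight TUt (Nat.mul (nat_lit 16) q)) (nat_lit 65535)
theorem tU : Tr.all (fun q => Nat.beq (TS (walkC stp z1 q)) (TU q)) L = true := by decide +kernel
theorem hu : Acts φ (s * gw P z1) TU := Acts.of_tabC (hs.mul (Acts.gwC hg z1)) tU
def Wx : List Col := [.a, .c, .a, .c, .b, .c, .b, .c, .b, .a, .b, .a, .c, .b, .c, .b, .a, .c, .b, .c, .a, .c, .b, .a, .b, .c, .a, .b, .c, .b, .c, .a, .b, .c, .b, .a, .b, .c, .b, .c, .b, .a, .b, .a, .b, .a, .b, .a, .c, .b, .c, .b, .a, .c, .a, .c, .b, .a, .b, .a, .b, .a, .c, .b, .a, .b, .a, .b, .c, .a, .b, .c, .b, .c, .b, .a, .b, .a, .b, .a, .b, .a, .c, .b, .c, .b, .a, .c, .a, .b, .a, .c, .a, .c, .a, .c, .a, .b, .a, .b, .c, .a, .c, .b, .c, .a, .c, .a, .c, .a, .b, .a, .c, .a, .c, .a, .c, .a, .b, .a, .b, .c, .a, .c, .b, .c, .a, .c, .a, .b, .c, .b, .a, .c, .a, .b]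
def Wy : List Col := []
theorem dx : CData φ P closed lvs x TX 267 Wx [269, 254] [0, 1, 2, 3, 4, 5, 6] := CData.mk' hx (by decide +kernel) (by decide +kernel) (by decide +kernel) (by decide +kernel)
theorem dy : CData φ P closed lvs y TY 274 Wy [] [0, 1, 2, 3, 4] := CData.mk' hy (by decide +kernel) (by decide +kernel) (by decide +kernel) (by decide +kernel)
def QX : List ℕ := [5, 21, 31, 45, 56, 90, 179, 235, 242, 255, 267]
def QY : List ℕ := [274, 21, 61, 148, 262, 245, 217, 97, 18, 38, 132, 15, 119, 151, 186, 236, 127, 40, 138, 98, 51, 108, 146, 264, 70]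
theorem cX : Tr.all (cenB stp 80 [269, 254] lvs TX [0, 1, 2, 3, 4, 5, 6] QX) L = true := by decide +kernel
theorem cY : Tr.all (cenB stp 80 [] lvs TY [0, 1, 2, 3, 4] QY) L = true := by decide +kernel
noncomputable def Z : List (List Col) := [[],
  [.a, .c, .a, .c, .a, .b, .a, .c, .b, .a, .b, .c, .b, .c, .a, .c, .b, .a, .c, .a, .c, .b, .c, .a, .b, .a, .b, .a, .b, .c, .a, .b, .c, .a, .c, .b, .a, .b, .c],
  [.a, .b, .a, .c, .b, .c, .a, .b, .a, .b, .a, .b, .c, .b, .a, .c, .a, .b, .a, .c, .a, .c, .a, .b, .a],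
  [.a, .b, .a, .c, .b, .a, .b, .c, .b, .c, .a, .c, .b, .a, .c, .b, .a, .b, .c, .a, .c, .b, .c, .b, .a, .b, .a, .c, .a],
  [.c, .a, .b, .a, .b, .c, .b, .c, .a, .c, .b, .a, .b, .c, .a, .c, .b, .c, .b, .a, .b, .a, .b, .c, .b, .a, .c],
  [.c, .a, .b, .c, .a, .c, .a, .b, .c, .b, .a, .c, .a, .c, .a, .c, .b, .a, .b, .a, .c, .a, .b, .c, .b, .c, .b, .a, .c, .a, .b, .a, .b, .c, .b, .c, .b, .c, .a, .b, .c, .b],
  [.b, .a, .b, .c, .a, .c, .b, .a, .b, .c, .a, .b, .c, .b, .a, .b, .a, .b, .c, .b, .c, .a, .c, .b, .a, .c, .b, .a, .b, .a, .c],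
  [.c, .b, .c, .b, .a, .b, .c, .b, .a, .b, .a, .b, .c, .a, .c, .b, .a, .c, .b, .c, .a, .c, .a, .b, .a, .c, .b, .a, .c, .b, .a, .c, .a, .b, .c, .a, .b, .c, .a, .c, .b, .a, .b, .c],
  [.c, .b, .a, .b, .c, .b, .c, .a, .c, .b, .a, .c, .a, .c, .b, .a, .b, .a, .c],
  [.a, .c, .a, .b, .a, .b, .a, .b, .a, .c, .b, .a, .c, .b, .a, .b, .c, .a, .b, .a, .c, .a, .c, .a, .b, .c, .b, .a, .b, .c, .a, .c, .b, .c, .b, .a],
  [.a, .b, .c, .b, .a, .b, .a, .b, .a, .b, .c, .a, .b, .a, .c, .b, .a, .b, .a, .b, .c, .a, .b, .c, .b, .a, .b, .c, .a, .c, .a, .b],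
  [.c, .a, .b, .c, .b, .c, .b, .c, .a, .b, .a, .c, .b, .c, .a, .c, .b, .a, .c, .a, .b, .c, .b, .c, .a, .b, .a, .b, .c, .b, .c, .b, .a, .b, .c, .b, .c, .b, .a, .c, .a, .b],
  [.c, .a, .b, .a, .b, .c, .a, .c, .a, .b, .c, .a, .c, .b, .c, .b, .a, .b, .c],
  [.a, .c, .a, .b, .a, .c, .a, .c, .b, .c, .b, .a, .c, .a, .c, .a, .c, .b, .a, .c, .b, .a, .b, .c, .a, .c, .b],
  [.b, .a, .b, .a, .c, .b, .c, .a, .c, .b, .a, .b, .a, .b, .c, .b, .c, .a, .b, .c, .b, .a, .c, .b, .c, .a, .c, .b, .a, .b, .c, .a, .b, .c, .b, .c, .a, .b, .c, .b, .a, .c, .a, .c, .b, .a, .b],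
  [.a, .c, .a, .c, .b, .c, .a, .c, .a, .c, .a, .b, .c, .a, .c, .b, .a, .b, .c, .a, .b, .c, .b, .c, .a, .b, .a, .b, .c, .a, .b, .a, .b, .c, .a, .c],
  [.c, .a, .c, .b, .c, .b, .a, .b, .c, .a, .b, .a, .b, .c, .a, .b, .c, .a, .c, .b, .a, .b, .a, .b, .c, .b, .c, .b, .a, .b, .c, .a, .c, .a, .b, .c],
  [.a, .c, .a, .b, .a, .b, .a, .b, .c, .a, .c, .b, .a, .c, .b, .c, .a, .b, .c, .b, .c, .b, .a, .c, .b, .c, .a, .c, .a, .c, .a, .c, .b, .a, .b, .a, .c, .b, .a, .c, .b],
  [.b, .c, .b, .a, .c, .b, .a, .b, .c, .a, .b, .a, .c, .b, .a, .b, .a, .b, .c, .b, .c, .b, .a, .c, .a, .b, .a, .c, .a],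
  [.a, .c, .b, .c, .b, .a, .b, .a, .c, .b, .a, .c, .a, .b, .c, .b, .c, .b, .a, .b, .a, .c, .b, .c, .b, .a, .b, .a, .c, .b, .a, .c, .a, .c, .b, .a, .c, .b],
  [.a, .c, .a, .b, .c, .a, .b, .a, .b, .a, .c, .a, .c, .a, .b, .a, .c, .a, .c, .a, .c, .b, .c, .a, .c, .a, .b, .c, .b, .c, .b],
  [.a, .b, .c, .b, .c, .b, .a, .c, .b, .c, .a, .b, .c, .a, .b, .a, .c, .b, .a, .b, .a, .b, .c, .a, .c, .a, .b, .c, .b, .c, .a, .b, .a, .c, .b, .c, .b, .a, .c, .b, .a, .b, .a, .b, .c],
  [.a, .b, .a, .c, .a, .c, .a, .b, .a, .c, .a, .b, .c, .a, .b, .a, .b, .a, .b, .c, .b, .c, .a, .b, .a],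
  [.b, .c, .a, .c, .a, .b, .a, .c, .b, .a, .c, .a, .c, .b, .a, .c, .a, .b, .c, .b, .c, .b, .a, .b, .a, .c, .b, .c, .b, .a, .b, .a, .c, .a, .b, .a, .b, .a, .c],
  [.c, .b, .a, .b, .a, .b, .c, .a, .b, .a, .b, .c, .a, .b, .a, .c, .b, .c, .a, .c, .a, .b, .a, .b, .c, .a, .c, .b, .a, .c, .a, .b, .c]]
theorem zB : lall (fun w => agB (fun q => walk stp w (TY q)) (fun q => TY (walk stp w q)) (lvs.map Lv.b)) Z = true := by decide +kernel
theorem zQ : lall (fun a => lany2 (fun w => Nat.beq a (walk stp w 274)) Z) QY = true := by decide +kernel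
theorem cy (c : GG) (h : c * y = y * c) : ∃ w ∈ Z, c = gw P w := dy.lst φ_P good cY Z zB zQ c h
theorem xQ : lall (fun a => lany2 (fun i => Nat.beq a (itN TX i 267)) (List.range 11)) QX = true := by decide +kernel
theorem cx (c : GG) (h : c * x = x * c) : ∃ i : ℕ, c = x ^ i := dx.cyc φ_P good cX x TX hx rfl 11 xQ c h
theorem xp : x ^ 11 = 1 := eq_of_agB good (hx.pow 11) (Acts.one φ) (by decide +kernel)
theorem x1 : x ≠ 1 := ne_of_moved hx (Acts.one φ) (b := 267) (mem_sound (by decide +kernel)) (by decide +kernel)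
theorem ox : orderOf x = 11 := by
  have : Fact (Nat.Prime 11) := ⟨by norm_num⟩
  exact orderOf_eq_prime xp x1
theorem yx : y * x = x ^ 3 * y := eq_of_agB good (hy.mul hx) ((hx.pow 3).mul hy) (by decide +kernel)
theorem sy : s * y = y ^ 1 * s := eq_of_agB good (hs.mul hy) ((hy.pow 1).mul hs) (by decide +kernel)
def R : List (List ℕ) := [[2, 2, 0, 2, 2, 0, 2, 2, 0, 2, 2, 0, 2, 2, 0, 2, 2, 0, 2, 2, 0], [0, 1, 2, 0, 0, 1, 2, 0, 0, 1, 2, 0, 0, 1, 2, 0, 0, 1, 2, 0, 0, 1, 2, 0, 0, 1, 2, 0, 0, 1, 2, 0]]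
theorem rB : relB TX TY TS R (lvs.map Lv.b) = true := by decide +kernel
theorem srv : srvB stp TX TY TS [1, 2] Z R [(1, 274), (1, 119)] 274 274 = true := by decide +kernel
noncomputable def E' : Col → List ℕ := fun c => Col.rec (motive := fun _ => List ℕ) [1, 0, 0, 1, 2, 2, 2, 0, 0, 0, 0, 0, 2, 2, 2, 0, 0, 0, 2, 1, 0, 1, 1, 0, 2, 1, 0, 0, 2] [2, 2, 2, 0, 1, 0, 1, 0, 2, 2, 0, 2, 0, 2, 0, 1, 1, 1, 2, 0, 1, 2, 0, 1, 1, 2, 2, 0] [0, 0, 0, 0, 2, 2, 1, 0, 2, 0, 1, 2, 2, 0, 1, 1, 2, 0, 1, 1, 2, 0, 0, 1, 2, 0, 1, 2, 2, 0] c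
theorem eB : lall (fun c => agB (stp c) (walkC (st3 TX TY TS) (E' c)) (lvs.map Lv.b)) cols = true := by decide +kernel
theorem norm (α : MulAut GG) : ∃ h : GG, ∃ k ∈ [1, 2], ∃ z : GG, z * y = y * z ∧ h * α x * h⁻¹ = x ^ k ∧ h * α y * h⁻¹ = y ∧ h * α s * h⁻¹ = s * z := by
  have : Fact (Nat.Prime 11) := ⟨by norm_num⟩
  refine aut_norm2 (p := 11) (M := 11) (q := 1) ox (by norm_num) rfl (by rw [order]; norm_num) (fun c h => cx c (by simpa using h)) yx ?_ sy [1, 2] ?_ α
  · have h : ∀ i < 11, ∃ a < 11, (a + 3 * i) % 11 = (3 * a) % 11 := by decide +kernel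
    exact fun i hi => Or.inl (h i hi)
  · decide +kernel
theorem aut : AutD φ P stp lvs x y s TX TY TS [1, 2] Z 274 [(1, 274), (1, 119)] E' where
  hG := good
  hg := hg
  hgen := P_top
  hx := hx
  hy := hy
  hs := hs
  norm := norm
  cy := cy
  zy := fun w hw w' hw' h => dy.z_eq φ_P good zB hw hw' h
  srv := fun δ k hk w hw h1 h2 h3 => srv_sound good hg hx hy hs (mem_sound (by decide +kernel)) rB srv δ hk hw h1 h2 h3
  hE := hE_of good hg hx hy hs hcols eB
noncomputable def F (c : Col) : GG := gw (ge3 (x ^ 1) y (s * gw P z1)) (E' c)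
noncomputable def stF : Col → ℕ → ℕ := fun c q => nf q (walkC (st3 (itN TX 1) TY TU) (E' c))
theorem hF (c : Col) : Acts φ (F c) (stF c) := ActsF (hx.pow 1) hy hu E' c
noncomputable def PIt : ℕ := (nat_lit 0xbd00e1008100d700a3007200a5000d0097001800f900fe006f00c5007f000000c100ec009d004c010700af005900d000370108008900e900df001f006d0063002a00e700ab00c300a800d50101003b00ea00f700c400f1008000cc007400280061011100d300f6004b003000b30002005600160079010f006700ed007300e00043008d00fb00ba002500b600e50060000900640091004100bc010500e800ef00490102008700460038011200c6000800cf002900ae008c00cd0042009a00dc008800a600b000fd00b8003100a200f00020006800ee001a00b1010c0040010e00ac004d002f007100660100006c002b00b4004f0015010a007b009500190050002e00c8000f0085005700d100b7003f003c00f800b200c00007008f005800440026011000e60104006a007600120096002100d80051002c007d003600e400d4010d009f00270106003200f4009c005a007e006900a900d6009e001c00c900f3003e00e200cb001e004e003d00230053006b00fc0084008e00da000a0024005b0005007800930099005e00a100ff00de001400c20048000e00bf0033008300d200b500c700a4008b0062005d008a00eb0011003900be00fa0075001700340045006e00ad00dd00a0009200010077009b00f200b900e30070008200ce0054005c0022007a00aa00f5005f000c0065000600a700940109003500d90098004a000b007c003a001000900047010b001d0013005500ca00bb0086001b00520004000300db002d0103)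
noncomputable def PI (q : ℕ) : ℕ := Nat.land (Nat.shiftRight PIt (Nat.mul (nat_lit 16) q)) (nat_lit 65535)
noncomputable def PJt : ℕ := (nat_lit 0xbd00e1008100d700a3007200a5000d0097001800f900fe006f00c5007f000000c100ec009d004c010700af005900d000370108008900e900df001f006d0063002a00e700ab00c300a800d50101003b00ea00f700c400f1008000cc007400280061011100d300f6004b003000b30002005600160079010f006700ed007300e00043008d00fb00ba002500b600e50060000900640091004100bc010500e800ef00490102008700460038011200c6000800cf002900ae008c00cd0042009a00dc008800a600b000fd00b8003100a200f00020006800ee001a00b1010c0040010e00ac004d002f007100660100006c002b00b4004f0015010a007b009500190050002e00c8000f0085005700d100b7003f003c00f800b200c00007008f005800440026011000e60104006a007600120096002100d80051002c007d003600e400d4010d009f00270106003200f4009c005a007e006900a900d6009e001c00c900f3003e00e200cb001e004e003d00230053006b00fc0084008e00da000a0024005b0005007800930099005e00a100ff00de001400c20048000e00bf0033008300d200b500c700a4008b0062005d008a00eb0011003900be00fa0075001700340045006e00ad00dd00a0009200010077009b00f200b900e30070008200ce0054005c0022007a00aa00f5005f000c0065000600a700940109003500d90098004a000b007c003a001000900047010b001d0013005500ca00bb0086001b00520004000300db002d0103)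
noncomputable def PJ (q : ℕ) : ℕ := Nat.land (Nat.shiftRight PJt (Nat.mul (nat_lit 16) q)) (nat_lit 65535)
noncomputable def stQ : Bool → ℕ → ℕ := fun c => Bool.rec (motive := fun _ => ℕ → ℕ) PJ PI c
noncomputable def ivQ : Bool → Bool := fun c => Bool.rec (motive := fun _ => Bool) true false c
theorem clQ : Closed L stQ ivQ := Closed.of_chk (cols := [true, false]) (by intro c; cases c <;> simp) (by intro c; cases c <;> rfl) (by decide +kernel)
theorem pq_a : Tr.all (fun q => Nat.beq (PI (stp .a q)) (stF .a (PI q))) L = true := by decide +kernel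
theorem pq_b : Tr.all (fun q => Nat.beq (PI (stp .b q)) (stF .b (PI q))) L = true := by decide +kernel
theorem pq_c : Tr.all (fun q => Nat.beq (PI (stp .c q)) (stF .c (PI q))) L = true := by decide +kernel
theorem pq (c : Col) (q : ℕ) (hq : q ∈ L.toList) : PI (stp c q) = stF c (PI q) := by
  apply Nat.eq_of_beq_eq_true
  cases c
  · exact (Tr.all_iff _ _).1 pq_a q hq
  · exact (Tr.all_iff _ _).1 pq_b q hq
  · exact (Tr.all_iff _ _).1 pq_c q hq
theorem pphi (c : Col) : (clQ.perm true) * φ (P c) = φ (F c) * (clQ.perm true) := by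
  apply Equiv.ext; intro q; apply Subtype.ext
  rw [Equiv.Perm.mul_apply, Equiv.Perm.mul_apply, hF c]
  have h1 : ((clQ.perm true) (φ (P c) q)).1 = PI ((φ (P c) q).1) := rfl
  have h2 : ((clQ.perm true) q).1 = PI q.1 := rfl
  rw [h1, h2, hg c]; exact pq c q.1 q.2
theorem exτ : ∃ τ : GG →* GG, ∀ c, τ (P c) = F c := tau_of_pi good P_top F (clQ.perm true) pphi
noncomputable def τ : GG →* GG := Classical.choose exτ
theorem τ_P (c : Col) : τ (P c) = F c := Classical.choose_spec exτ c
theorem txB : agB (walkC stF wx) (itN TX 1) (lvs.map Lv.b) = true := by decide +kernel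
theorem tyB : agB (walkC stF wy) TY (lvs.map Lv.b) = true := by decide +kernel
theorem tsB : agB (walkC stF ws) TU (lvs.map Lv.b) = true := by decide +kernel
theorem τx : τ x = x ^ 1 := CfsgLib.TC.tau_word good hF τ_P wx (hx.pow 1) txB
theorem τy : τ y = y := CfsgLib.TC.tau_word good hF τ_P wy hy tyB
theorem τs : τ s = s * gw P z1 := CfsgLib.TC.tau_word good hF τ_P ws hu tsB
theorem xk : x ^ 1 ≠ 1 := ne_of_moved (hx.pow 1) (Acts.one φ) (b := 267) (mem_sound (by decide +kernel)) (by decide +kernel)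
theorem z1m : z1 ∈ Z := List.getElem_mem (l := Z) (n := 12) (by decide +kernel)
theorem ni : niB stp TX TS 1 z1 Z [273] = true := by decide +kernel
theorem z1q : walk stp z1 274 = 119 := by decide +kernel
theorem out_card : Nat.card (Cfsg.Out GG) = 2 :=
  aut.out_two simple_McL List.mem_cons_self x1 xk z1m (by rw [z1q]) τ τ_P τx τy τs (by decide +kernel) ni
end CfsgLib.CoMcLAu
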