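import Cfsg.Agent.EqBase
import Mathlib
import Cfsg.Agent.LibCoTX
import Cfsg.Agent.LibCoTY
import Cfsg.Agent.LibCoTZ

/-!
Orbits on short vectors.
-/

set_option autoImplicit false
set_option linter.constructorNameAsVariable false

namespace CfsgLib.Co

open Cfsg CfsgLib.Golay CfsgLib.M24 CfsgLib.Leech CfsgLib.Frame MulAction
open CfsgLib.OrbM28 (gt gt_le allB allB_spec chk chk_sound srt inj_of_srt)

/-- vectors of norm 32 with inner product `r` with the base vector of norm 48 -/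
def SS (r : ℤ) : Set LL := {b | sqNorm (b : E) = 32 ∧ dotInt (w5 : E) (b : E) = r}

theorem SS_fin (r : ℤ) : (SS r).Finite := fin32.subset fun _ h => h.1

theorem SA_card : (SS 16).ncard = 11178 := (census48 w5 W5_norm).2.1
theorem SB_card : (SS 24).ncard = 552 := (census48 w5 W5_norm).1

theorem pm_w5 {σ : M24} (h : (σ : Equiv.Perm GolayPt) none = none) : pm σ • w5 = w5 :=
  ((fix_iff (u := w5) (a := 5) (by norm_num) (fun k => rfl) (pm σ)).2 ⟨σ, h, rfl⟩).2

theorem pm_e8 {σ : M24} (h : (σ : Equiv.Perm GolayPt) none = none) : pm σ • e8 none = e8 none :=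
  ((fix_iff (u := w5) (a := 5) (by norm_num) (fun k => rfl) (pm σ)).2 ⟨σ, h, rfl⟩).1

theorem D2_none {σ : M24} (h : σ ∈ D2) : (σ : Equiv.Perm GolayPt) none = none := (Subgroup.mem_inf.1 h).1
theorem D2_pz {σ : M24} (h : σ ∈ D2) : (σ : Equiv.Perm GolayPt) pz = pz := (Subgroup.mem_inf.1 h).2
theorem D3_D2 {σ : M24} (h : σ ∈ D3) : σ ∈ D2 := (Subgroup.mem_inf.1 h).1
theorem D3_po {σ : M24} (h : σ ∈ D3) : (σ : Equiv.Perm GolayPt) po = po := (Subgroup.mem_inf.1 h).2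

theorem SS_D2 (r : ℤ) {σ : M24} (h : σ ∈ D2) (b : LL) (hb : b ∈ SS r) : pm σ • b ∈ SS r := by
  refine ⟨by rw [act_norm]; exact hb.1, ?_⟩
  have := act_dot (pm σ) w5 b
  rw [pm_w5 (D2_none h)] at this
  rw [this]; exact hb.2

theorem D2_p44 {σ : M24} (h : σ ∈ D2) : pm σ • p44 = p44 := (pm_P σ (D2_none h) nz (Or.inl rfl)).2 (D2_pz h)
theorem D2_p4m {σ : M24} (h : σ ∈ D2) : pm σ • p4m = p4m := (pm_P σ (D2_none h) nz (Or.inr rfl)).2 (D2_pz h)

theorem propA : ∀ j, sqNorm (dec (eA (stA j))) = 32 ∧ dotInt W5 (dec (eA (stA j))) = 16 := by decide +kernel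
theorem propB : ∀ j, sqNorm (dec (eB (stB j))) = 32 ∧ dotInt W5 (dec (eB (stB j))) = 24 := by decide +kernel
theorem propC : ∀ j, sqNorm (dec (eC (stC j))) = 32 ∧ dotInt W5 (dec (eC (stC j))) = 24 := by decide +kernel

theorem PA : Pcs D2 (SS 16) XA nA :=
  pcs_of_tables (SS_fin _) SA_card (fun _ h b hb => SS_D2 _ h b hb) XA
    (fun j => ⟨by rw [XA_coe]; exact (propA j).1, by rw [XA_coe]; exact (propA j).2⟩) stA nA eA
    (fun i => gt_lt _ _) XA_coe (by decide) (inj_of_srt (by norm_num) (by norm_num) srtA)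
    (fun j => horb_of_chk LD0_ok LD1_ok gD0_mem gD1_mem (by revert j; decide) (chkA j) (XA j) (XA_coe j))
    (by decide) (by decide) (by decide)

theorem PB : Pcs D2 (SS 24) XB nB :=
  pcs_of_tables (SS_fin _) SB_card (fun _ h b hb => SS_D2 _ h b hb) XB
    (fun j => ⟨by rw [XB_coe]; exact (propB j).1, by rw [XB_coe]; exact (propB j).2⟩) stB nB eB
    (fun i => gt_lt _ _) XB_coe (by decide) (inj_of_srt (by norm_num) (by norm_num) srtB)
    (fun j => horb_of_chk LD0_ok LD1_ok gD0_mem gD1_mem (by revert j; decide) (chkB j) (XB j) (XB_coe j))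
    (by decide) (by decide) (by decide)

theorem PC : Pcs D3 (SS 24) XC nC :=
  pcs_of_tables (SS_fin _) SB_card (fun _ h b hb => SS_D2 _ (D3_D2 h) b hb) XC
    (fun j => ⟨by rw [XC_coe]; exact (propC j).1, by rw [XC_coe]; exact (propC j).2⟩) stC nC eC
    (fun i => gt_lt _ _) XC_coe (by decide) (inj_of_srt (by norm_num) (by norm_num) srtC)
    (fun j => horb_of_chk LE0_ok LE1_ok gE0_mem gE1_mem (by revert j; decide) (chkC j) (XC j) (XC_coe j))
    (by decide) (by decide) (by decide)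

/-- invariants of the representatives -/
def vA : Fin 12 → ℤ × ℤ × ℤ := ![(4, -4, 0), (4, 0, 0), (0, 2, 16), (1, 3, 12), (0, 0, 16), (2, -2, 8), (3, -1, 4), (3, 1, 4), (2, 2, 8), (1, -1, 12), (1, 1, 12), (2, 0, 8)]
def vB : Fin 8 → ℤ × ℤ × ℤ := ![(1, -3, 20), (4, 4, 8), (4, 0, 8), (1, 1, 20), (3, -1, 12), (2, 2, 16), (2, 0, 16), (3, 1, 12)]
def vC : Fin 14 → ℤ × ℤ × ℤ := ![(1, -3, 20), (4, 0, 8), (1, 1, 20), (4, 4, 8), (3, -1, 12), (4, 0, 8), (1, 1, 20), (2, 2, 16), (3, -1, 12), (2, 0, 16), (3, 1, 12), (2, 2, 16), (2, 0, 16), (3, 1, 12)]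
def vC' : Fin 14 → ℤ := ![1, 4, -3, 0, -1, 0, 1, 2, 1, 2, -1, 0, 0, 1]

theorem vA_ok : ∀ j, (dec (eA (stA j)) none, dec (eA (stA j)) pz, ∑ k, dec (eA (stA j)) k) = vA j := by decide +kernel
theorem vB_ok : ∀ j, (dec (eB (stB j)) none, dec (eB (stB j)) pz, ∑ k, dec (eB (stB j)) k) = vB j := by decide +kernel
theorem vC_ok : ∀ j, (dec (eC (stC j)) none, dec (eC (stC j)) pz, ∑ k, dec (eC (stC j)) k) = vC j := by decide +kernel
theorem vC'_ok : ∀ j, dec (eC (stC j)) po = vC' j := by decide +kernel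

theorem invA (j : Fin 12) : inv3 (XA j) = vA j := by rw [inv3, XA_coe]; exact vA_ok j
theorem invB (j : Fin 8) : inv3 (XB j) = vB j := by rw [inv3, XB_coe]; exact vB_ok j
theorem invC (j : Fin 14) : inv3 (XC j) = vC j := by rw [inv3, XC_coe]; exact vC_ok j
theorem invC' (j : Fin 14) : (XC j : E) po = vC' j := by rw [XC_coe]; exact vC'_ok j

end CfsgLib.Co
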