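import Cfsg.Agent.EqBase
import Mathlib
import Cfsg.Agent.LibCoV

/-!
Transitivity theorems for the stabilisers.
-/

set_option autoImplicit false
set_option linter.constructorNameAsVariable false

namespace CfsgLib.Co

open Cfsg CfsgLib.Golay CfsgLib.M24 CfsgLib.Leech CfsgLib.Frame MulAction

/-- linear functionals -/
def lin (α β γ δ : ℤ) : LL →+ ℤ where
  toFun w := α * (w : E) none + β * (w : E) pz + γ * (w : E) po + δ * ∑ k, (w : E) k
  map_zero' := by
    have : ∀ k, ((0 : LL) : E) k = 0 := fun k => rfl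
    simp [this]
  map_add' v w := by
    have : ∀ k, ((v + w : LL) : E) k = (v : E) k + (w : E) k := fun k => rfl
    simp only [this, Finset.sum_add_distrib]
    ring

theorem lin_apply (α β γ δ : ℤ) (w : LL) :
    lin α β γ δ w = α * (w : E) none + β * (w : E) pz + γ * (w : E) po + δ * ∑ k, (w : E) k := rfl

theorem fixes_e8 {g : Co0} {N : ℤ} (hN : N ≠ 0) (h : g • (N • e8 none) = N • e8 none) : g • e8 none = e8 none := by
  rw [act_zsmul] at h
  have h1 : ∀ k, N * ((g • e8 none : LL) : E) k = N * ((e8 none : LL) : E) k := fun k => congrFun (congrArg Subtype.val h) k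
  apply Subtype.ext
  funext k
  exact mul_left_cancel₀ hN (h1 k)

/-- vectors fixed by the two point stabiliser -/
theorem fix_D2 {w : LL} (h : ∀ σ ∈ D2, pm σ • w = w) : ∀ k, k ≠ none → k ≠ pz → (w : E) k = (w : E) po := by
  intro k h1 h2
  obtain ⟨σ, hσ, e1, e2, e3⟩ := m24_three (a := none) (b := pz) (c := po) (a' := none) (b' := pz) (c' := k) nz (by decide) (by decide)
    nz h1.symm h2.symm
  have h3 := h ⟨σ, hσ⟩ (Subgroup.mem_inf.2 ⟨e1, e2⟩)
  have h4 : ((pm ⟨σ, hσ⟩ • w : LL) : E) k = (w : E) k := by rw [h3]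
  rw [pm_apply] at h4
  have e4 : σ⁻¹ k = po := by rw [Equiv.Perm.inv_eq_iff_eq, e3]
  change (w : E) (σ⁻¹ k) = (w : E) k at h4
  rw [← h4, e4]

theorem sum_D2 {w : LL} (h : ∀ k, k ≠ none → k ≠ pz → (w : E) k = (w : E) po) :
    ∑ k, (w : E) k = (w : E) none + (w : E) pz + 22 * (w : E) po := by
  rw [Fintype.sum_option, ← Finset.add_sum_erase _ _ (Finset.mem_univ (0 : ZMod 23))]
  have h1 : ∑ k ∈ Finset.univ.erase (0 : ZMod 23), (w : E) (some k) =
      ∑ k ∈ Finset.univ.erase (0 : ZMod 23), (w : E) po :=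
    Finset.sum_congr rfl fun k hk => h (some k) (by simp) (by
      intro h2
      exact Finset.ne_of_mem_erase hk (Option.some_injective _ h2))
  rw [h1, Finset.sum_const, Finset.card_erase_of_mem (Finset.mem_univ _), Finset.card_univ, ZMod.card, nsmul_eq_mul]
  change (w : E) none + ((w : E) pz + ((23 - 1 : ℕ) : ℤ) * (w : E) po) = _
  norm_num
  ring

/-- the two groups -/
def GM : Subgroup Co0 := stabilizer Co0 w5 ⊓ stabilizer Co0 p44
def GH : Subgroup Co0 := stabilizer Co0 w5 ⊓ stabilizer Co0 p4m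

theorem D2_GM {σ : M24} (h : σ ∈ D2) : pm σ ∈ GM := Subgroup.mem_inf.2 ⟨pm_w5 (D2_none h), D2_p44 h⟩
theorem D2_GH {σ : M24} (h : σ ∈ D2) : pm σ ∈ GH := Subgroup.mem_inf.2 ⟨pm_w5 (D2_none h), D2_p4m h⟩

theorem card_D2 : Nat.card D2 = 443520 := Cfsg.Agent.S0378.result none pz nz

theorem card_map {D : Subgroup M24} : Nat.card ↥(D.map pmHom) = Nat.card D :=
  (Nat.card_congr (D.equivMapOfInjective pmHom pmHom_inj).toEquiv).symm

theorem GM_not : ¬ ∀ g ∈ GM, g • e8 none = e8 none := by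
  intro h
  have h1 := stab_eq2 (nz : none ≠ pz) (Or.inl rfl : (4 : ℤ) = 4 ∨ (4 : ℤ) = -4)
  have h2 : stabilizer Co0 (e8 none) ⊓ GM = GM := inf_eq_right.2 h
  have h3 := card_McL
  change Nat.card GM = _ at h3
  change stabilizer Co0 (e8 none) ⊓ GM = D2.map pmHom at h1
  rw [h2] at h1
  rw [h1, card_map, card_D2] at h3
  norm_num at h3

theorem GH_not : ¬ ∀ g ∈ GH, g • e8 none = e8 none := by
  intro h
  have h1 := stab_eq2 (nz : none ≠ pz) (Or.inr rfl : (-4 : ℤ) = 4 ∨ (-4 : ℤ) = -4)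
  have h2 : stabilizer Co0 (e8 none) ⊓ GH = GH := inf_eq_right.2 h
  have h3 := card_HS
  change Nat.card GH = _ at h3
  change stabilizer Co0 (e8 none) ⊓ GH = D2.map pmHom at h1
  rw [h2] at h1
  rw [h1, card_map, card_D2] at h3
  norm_num at h3

theorem fixM (w : LL) (h : ∀ g ∈ GM, g • w = w) : lin 13 (-9) 0 (-2) w = 0 := by
  have h1 := fix_D2 fun σ hσ => h _ (D2_GM hσ)
  have h2 := sum_D2 h1
  by_contra hne
  apply GM_not
  intro g hg
  apply fixes_e8 (N := (w : E) none - (w : E) pz - 4 * (w : E) po)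
  · intro h0
    apply hne
    rw [lin_apply, h2]
    linear_combination 11 * h0
  · have e : ((w : E) none - (w : E) pz - 4 * (w : E) po) • e8 none =
        (8 : ℤ) • w - (8 * (w : E) po) • w5 - (2 * ((w : E) pz - (w : E) po)) • p44 := by
      apply Subtype.ext
      funext k
      change ((w : E) none - (w : E) pz - 4 * (w : E) po) * (Pi.single none 8 : E) k =
        8 * (w : E) k - (8 * (w : E) po) * W5 k - (2 * ((w : E) pz - (w : E) po)) * P none pz 4 4 k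
      rw [P_apply, Pi.single_apply]
      by_cases h3 : k = none
      · rw [if_pos h3, if_pos h3, h3, if_neg nz, W5_none]; ring
      · by_cases h4 : k = pz
        · rw [if_neg h3, if_neg h3, h4, if_pos rfl, W5_other (Ne.symm nz)]; ring
        · rw [if_neg h3, if_neg h3, if_neg h4, W5_other h3, h1 k h3 h4]; ring
    rw [e, act_sub, act_sub, act_zsmul, act_zsmul, act_zsmul, h g hg, mem_stabilizer_iff.1 (Subgroup.mem_inf.1 hg).1,
      mem_stabilizer_iff.1 (Subgroup.mem_inf.1 hg).2]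

theorem fixH (w : LL) (h : ∀ g ∈ GH, g • w = w) : lin 14 14 0 (-3) w = 0 := by
  have h1 := fix_D2 fun σ hσ => h _ (D2_GH hσ)
  have h2 := sum_D2 h1
  by_contra hne
  apply GH_not
  intro g hg
  apply fixes_e8 (N := (w : E) none + (w : E) pz - 6 * (w : E) po)
  · intro h0
    apply hne
    rw [lin_apply, h2]
    linear_combination 11 * h0
  · have e : ((w : E) none + (w : E) pz - 6 * (w : E) po) • e8 none =
        (8 : ℤ) • w - (8 * (w : E) po) • w5 + (2 * ((w : E) pz - (w : E) po)) • p4m := by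
      apply Subtype.ext
      funext k
      change ((w : E) none + (w : E) pz - 6 * (w : E) po) * (Pi.single none 8 : E) k =
        8 * (w : E) k - (8 * (w : E) po) * W5 k + (2 * ((w : E) pz - (w : E) po)) * P none pz 4 (-4) k
      rw [P_apply, Pi.single_apply]
      by_cases h3 : k = none
      · rw [if_pos h3, if_pos h3, h3, if_neg nz, W5_none]; ring
      · by_cases h4 : k = pz
        · rw [if_neg h3, if_neg h3, h4, if_pos rfl, W5_other (Ne.symm nz)]; ring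
        · rw [if_neg h3, if_neg h3, if_neg h4, W5_other h3, h1 k h3 h4]; ring
    rw [e, act_add, act_sub, act_zsmul, act_zsmul, act_zsmul, h g hg, mem_stabilizer_iff.1 (Subgroup.mem_inf.1 hg).1,
      mem_stabilizer_iff.1 (Subgroup.mem_inf.1 hg).2]

theorem GM_dot {g : Co0} (hg : g ∈ GM) (x : LL) : dotInt (w5 : E) ((g • x : LL) : E) = dotInt (w5 : E) (x : E) ∧
    dotInt (p44 : E) ((g • x : LL) : E) = dotInt (p44 : E) (x : E) := by
  have h1 := act_dot g w5 x
  have h2 := act_dot g p44 x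
  rw [mem_stabilizer_iff.1 (Subgroup.mem_inf.1 hg).1] at h1
  rw [mem_stabilizer_iff.1 (Subgroup.mem_inf.1 hg).2] at h2
  exact ⟨h1, h2⟩

theorem GH_dot {g : Co0} (hg : g ∈ GH) (x : LL) : dotInt (w5 : E) ((g • x : LL) : E) = dotInt (w5 : E) (x : E) ∧
    dotInt (p4m : E) ((g • x : LL) : E) = dotInt (p4m : E) (x : E) := by
  have h1 := act_dot g w5 x
  have h2 := act_dot g p4m x
  rw [mem_stabilizer_iff.1 (Subgroup.mem_inf.1 hg).1] at h1
  rw [mem_stabilizer_iff.1 (Subgroup.mem_inf.1 hg).2] at h2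
  exact ⟨h1, h2⟩

theorem w5_inv (b : LL) : dotInt (w5 : E) (b : E) = 4 * (inv3 b).1 + (inv3 b).2.2 := dot_w5 b
theorem p44_inv (b : LL) : dotInt (p44 : E) (b : E) = 4 * (inv3 b).1 + 4 * (inv3 b).2.1 := dot_p44 b
theorem p4m_inv (b : LL) : dotInt (p4m : E) (b : E) = 4 * (inv3 b).1 - 4 * (inv3 b).2.1 := dot_p4m b
theorem lin_inv (α β δ : ℤ) (b : LL) : lin α β 0 δ b = α * (inv3 b).1 + β * (inv3 b).2.1 + δ * (inv3 b).2.2 := by
  rw [lin_apply, inv3]; ring

/-- transitivity of the stabiliser of `w5` and `p4m` on a set defined by inner products -/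
theorem trH {r : ℕ} {X : Fin r → LL} {n : Fin r → ℕ} {t : ℤ} (hP : Pcs D2 (SS t) X n) (c : ℤ) (ε : ℤ) (hε : ε = 1 ∨ ε = -1) (j0 : Fin r)
    (v : Fin r → ℤ × ℤ × ℤ) (hv : ∀ j, inv3 (X j) = v j)
    (h1 : ∀ j, 4 * (v j).1 - 4 * (v j).2.1 = c → ε * (14 * (v j).1 + 14 * (v j).2.1 + (-3) * (v j).2.2) ≠ 0)
    (h2 : ∀ j, 4 * (v j).1 - 4 * (v j).2.1 = c → ε * (14 * (v j).1 + 14 * (v j).2.1 + (-3) * (v j).2.2) < 0 → j = j0) :
    ∀ x ∈ SS t, dotInt (p4m : E) (x : E) = c → ∀ y ∈ SS t, dotInt (p4m : E) (y : E) = c → ∃ g ∈ GH, g • x = y := by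
  have key := trans_of_sign GH (ε • lin 14 14 0 (-3)) (fun w hw => by
      rw [AddMonoidHom.smul_apply, fixH w hw, smul_zero])
    {x | x ∈ SS t ∧ dotInt (p4m : E) (x : E) = c} (fun g hg x hx => by
      obtain ⟨e1, e2⟩ := GH_dot hg x
      exact ⟨⟨by rw [act_norm]; exact hx.1.1, by rw [e1]; exact hx.1.2⟩, by rw [e2]; exact hx.2⟩)
    (fun x hx => by
      have := hP.all (fun b => dotInt (p4m : E) (b : E) = c → (ε • lin 14 14 0 (-3)) b ≠ 0) (fun σ hσ b => by
        rw [p4m_inv, p4m_inv, AddMonoidHom.smul_apply, AddMonoidHom.smul_apply, lin_inv, lin_inv, inv3_inv hσ]) (fun j => by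
        rw [p4m_inv, AddMonoidHom.smul_apply, lin_inv, hv]; exact h1 j) hx.1
      exact this hx.2)
    (fun x hx y hy hFx hFy => by
      obtain ⟨σ, hσ, h⟩ := hP.one (fun b => dotInt (p4m : E) (b : E) = c ∧ (ε • lin 14 14 0 (-3)) b < 0) (fun σ hσ b => by
        rw [p4m_inv, p4m_inv, AddMonoidHom.smul_apply, AddMonoidHom.smul_apply, lin_inv, lin_inv, inv3_inv hσ]) j0 (fun j hj => by
        rw [p4m_inv, AddMonoidHom.smul_apply, lin_inv, hv] at hj; exact h2 j hj.1 hj.2) hx.1 hy.1 ⟨hx.2, hFx⟩ ⟨hy.2, hFy⟩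
      exact ⟨pm σ, D2_GH hσ, h⟩)
  intro x hx hxc y hy hyc
  exact key x ⟨hx, hxc⟩ y ⟨hy, hyc⟩

theorem trM {r : ℕ} {X : Fin r → LL} {n : Fin r → ℕ} {t : ℤ} (hP : Pcs D2 (SS t) X n) (c : ℤ) (ε : ℤ) (hε : ε = 1 ∨ ε = -1) (j0 : Fin r)
    (v : Fin r → ℤ × ℤ × ℤ) (hv : ∀ j, inv3 (X j) = v j)
    (h1 : ∀ j, 4 * (v j).1 + 4 * (v j).2.1 = c → ε * (13 * (v j).1 + (-9) * (v j).2.1 + (-2) * (v j).2.2) ≠ 0)
    (h2 : ∀ j, 4 * (v j).1 + 4 * (v j).2.1 = c → ε * (13 * (v j).1 + (-9) * (v j).2.1 + (-2) * (v j).2.2) < 0 → j = j0) :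
    ∀ x ∈ SS t, dotInt (p44 : E) (x : E) = c → ∀ y ∈ SS t, dotInt (p44 : E) (y : E) = c → ∃ g ∈ GM, g • x = y := by
  have key := trans_of_sign GM (ε • lin 13 (-9) 0 (-2)) (fun w hw => by
      rw [AddMonoidHom.smul_apply, fixM w hw, smul_zero])
    {x | x ∈ SS t ∧ dotInt (p44 : E) (x : E) = c} (fun g hg x hx => by
      obtain ⟨e1, e2⟩ := GM_dot hg x
      exact ⟨⟨by rw [act_norm]; exact hx.1.1, by rw [e1]; exact hx.1.2⟩, by rw [e2]; exact hx.2⟩)
    (fun x hx => by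
      have := hP.all (fun b => dotInt (p44 : E) (b : E) = c → (ε • lin 13 (-9) 0 (-2)) b ≠ 0) (fun σ hσ b => by
        rw [p44_inv, p44_inv, AddMonoidHom.smul_apply, AddMonoidHom.smul_apply, lin_inv, lin_inv, inv3_inv hσ]) (fun j => by
        rw [p44_inv, AddMonoidHom.smul_apply, lin_inv, hv]; exact h1 j) hx.1
      exact this hx.2)
    (fun x hx y hy hFx hFy => by
      obtain ⟨σ, hσ, h⟩ := hP.one (fun b => dotInt (p44 : E) (b : E) = c ∧ (ε • lin 13 (-9) 0 (-2)) b < 0) (fun σ hσ b => by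
        rw [p44_inv, p44_inv, AddMonoidHom.smul_apply, AddMonoidHom.smul_apply, lin_inv, lin_inv, inv3_inv hσ]) j0 (fun j hj => by
        rw [p44_inv, AddMonoidHom.smul_apply, lin_inv, hv] at hj; exact h2 j hj.1 hj.2) hx.1 hy.1 ⟨hx.2, hFx⟩ ⟨hy.2, hFy⟩
      exact ⟨pm σ, D2_GM hσ, h⟩)
  intro x hx hxc y hy hyc
  exact key x ⟨hx, hxc⟩ y ⟨hy, hyc⟩

end CfsgLib.Co
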