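import Cfsg.Agent.EqBase
import Mathlib
import Cfsg.Agent.LibCoW

/-!
The actions on 100, 275, 2025 and 11178 vectors.
-/

set_option autoImplicit false
set_option linter.constructorNameAsVariable false

namespace CfsgLib.Co

open Cfsg CfsgLib.Golay CfsgLib.M24 CfsgLib.Leech CfsgLib.Frame MulAction

/-! ### transport -/

theorem ncard_tr (g : Co0) (Q : LL → Prop) : {x | Q (g • x)}.ncard = {y | Q y}.ncard := by
  have h : {x | Q (g • x)} = (fun x : LL => g⁻¹ • x) '' {y | Q y} := by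
    ext x
    constructor
    · intro hx; exact ⟨g • x, hx, inv_smul_smul _ _⟩
    · rintro ⟨y, hy, rfl⟩
      change Q (g • g⁻¹ • y)
      rw [smul_inv_smul]; exact hy
  rw [h, Set.ncard_image_of_injective _ (MulAction.injective g⁻¹)]

/-! ### the Higman-Sims group on 100 vectors -/

/-- the second vector of norm 48 -/
def wq : LL := p4m - w5

theorem wq_norm : sqNorm (wq : E) = 48 := by
  rw [wq, AddSubgroup.coe_sub, sqNorm_sub, p4m_norm, w5_coe, W5_norm, dot_comm, ← w5_coe, w5_p4m]; norm_num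

theorem w5_wq : dotInt (w5 : E) (wq : E) = -32 := by
  rw [wq, AddSubgroup.coe_sub, dot_sub_right, w5_p4m, ← sqNorm_dot]
  have : sqNorm (w5 : E) = 48 := W5_norm
  rw [this]; norm_num

theorem dot_wq (x : LL) : dotInt (wq : E) (x : E) = dotInt (p4m : E) (x : E) - dotInt (w5 : E) (x : E) := by
  rw [wq, AddSubgroup.coe_sub, dot_sub_left]

theorem GH_wq {g : Co0} (hg : g ∈ GH) : g • w5 = w5 ∧ g • wq = wq := by
  have h1 := mem_stabilizer_iff.1 (Subgroup.mem_inf.1 hg).1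
  have h2 := mem_stabilizer_iff.1 (Subgroup.mem_inf.1 hg).2
  exact ⟨h1, by rw [wq, act_sub, h1, h2]⟩

theorem h100 (v w : LL) (hv : sqNorm (v : E) = 48) (hw : sqNorm (w : E) = 48) (hvw : dotInt (v : E) (w : E) = -32) :
    {x : LL | sqNorm (x : E) = 32 ∧ dotInt (v : E) (x : E) = 24 ∧ dotInt (w : E) (x : E) = -24}.ncard = 100 ∧
    ∀ x ∈ {x : LL | sqNorm (x : E) = 32 ∧ dotInt (v : E) (x : E) = 24 ∧ dotInt (w : E) (x : E) = -24},
    ∀ x' ∈ {x : LL | sqNorm (x : E) = 32 ∧ dotInt (v : E) (x : E) = 24 ∧ dotInt (w : E) (x : E) = -24},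
      ∃ g : Co0, g • v = v ∧ g • w = w ∧ g • x = x' := by
  obtain ⟨g, h1, h2⟩ := tr_pair hv hw hvw (v' := w5) (w' := wq) W5_norm wq_norm w5_wq
  have hset : ∀ x : LL, (sqNorm (x : E) = 32 ∧ dotInt (v : E) (x : E) = 24 ∧ dotInt (w : E) (x : E) = -24) ↔
      (g • x ∈ SS 24 ∧ dotInt (p4m : E) ((g • x : LL) : E) = 0) := by
    intro x
    rw [← act_dot g v x, ← act_dot g w x, h1, h2, dot_wq, ← act_norm g x, SS, Set.mem_ofPred_eq]
    constructor
    · rintro ⟨a, b, c⟩; exact ⟨⟨a, b⟩, by omega⟩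
    · rintro ⟨⟨a, b⟩, c⟩; exact ⟨a, b, by omega⟩
  constructor
  · rw [show {x : LL | sqNorm (x : E) = 32 ∧ dotInt (v : E) (x : E) = 24 ∧ dotInt (w : E) (x : E) = -24} =
      {x : LL | g • x ∈ SS 24 ∧ dotInt (p4m : E) ((g • x : LL) : E) = 0} from Set.ext hset,
      ncard_tr g (fun y => y ∈ SS 24 ∧ dotInt (p4m : E) (y : E) = 0)]
    rw [PB.count (fun b => dotInt (p4m : E) (b : E) = 0) (fun σ hσ b => by rw [p4m_inv, p4m_inv, inv3_inv hσ])]
    simp only [p4m_inv, invB]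
    decide
  · intro x hx x' hx'
    have hx1 := (hset x).1 hx
    have hx2 := (hset x').1 hx'
    obtain ⟨k, hk, h3⟩ := trH PB 0 1 (Or.inl rfl) 3 vB invB (by decide) (by decide) _ hx1.1 hx1.2 _ hx2.1 hx2.2
    obtain ⟨k1, k2⟩ := GH_wq hk
    refine ⟨g⁻¹ * k * g, ?_, ?_, ?_⟩
    · rw [mul_smul, mul_smul, h1, k1, ← h1, inv_smul_smul]
    · rw [mul_smul, mul_smul, h2, k2, ← h2, inv_smul_smul]
    · rw [mul_smul, mul_smul, h3, inv_smul_smul]


/-- rank three on the 100 vectors -/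
theorem h100r (v w x : LL) (hv : sqNorm (v : E) = 48) (hw : sqNorm (w : E) = 48) (hvw : dotInt (v : E) (w : E) = -32)
    (hx : x ∈ {x : LL | sqNorm (x : E) = 32 ∧ dotInt (v : E) (x : E) = 24 ∧ dotInt (w : E) (x : E) = -24}) :
    {y : LL | y ∈ {x : LL | sqNorm (x : E) = 32 ∧ dotInt (v : E) (x : E) = 24 ∧ dotInt (w : E) (x : E) = -24} ∧
      dotInt (x : E) (y : E) = 8}.ncard = 22 ∧
    {y : LL | y ∈ {x : LL | sqNorm (x : E) = 32 ∧ dotInt (v : E) (x : E) = 24 ∧ dotInt (w : E) (x : E) = -24} ∧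
      y ≠ x ∧ dotInt (x : E) (y : E) ≠ 8}.ncard = 77 ∧
    ∀ y ∈ {x : LL | sqNorm (x : E) = 32 ∧ dotInt (v : E) (x : E) = 24 ∧ dotInt (w : E) (x : E) = -24},
    ∀ y' ∈ {x : LL | sqNorm (x : E) = 32 ∧ dotInt (v : E) (x : E) = 24 ∧ dotInt (w : E) (x : E) = -24},
      y ≠ x → y' ≠ x → (dotInt (x : E) (y : E) = 8 ↔ dotInt (x : E) (y' : E) = 8) →
      ∃ g : Co0, g • v = v ∧ g • w = w ∧ g • x = x ∧ g • y = y' := by
  obtain ⟨g0, h1, h2⟩ := tr_pair hv hw hvw (v' := w5) (w' := wq) W5_norm wq_norm w5_wq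
  have hq : ∀ x : LL, dotInt (wq : E) (x : E) = dotInt (p4m : E) (x : E) - dotInt (w5 : E) (x : E) := dot_wq
  have hp1 : dotInt (w5 : E) (p44 : E) = 24 := w5_p44
  have hp2 : dotInt (p4m : E) (p44 : E) = 0 := by rw [p4m_inv, inv3]; change 4 * P none pz 4 4 none - 4 * P none pz 4 4 pz = 0; rw [P_left nz, P_right nz]; norm_num
  have hx0 : (g0 • x) ∈ SS 24 ∧ dotInt (p4m : E) ((g0 • x : LL) : E) = 0 := by
    obtain ⟨a, b, c⟩ := hx
    have e1 := act_dot g0 v x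
    have e2 := act_dot g0 w x
    rw [h1, b] at e1
    rw [h2, c, dot_wq, e1] at e2
    exact ⟨⟨by rw [act_norm]; exact a, e1⟩, by omega⟩
  obtain ⟨k0, hk0, h3⟩ := trH PB 0 1 (Or.inl rfl) 3 vB invB (by decide) (by decide) _ hx0.1 hx0.2 p44 ⟨p44_norm, hp1⟩ hp2
  obtain ⟨c1, c2⟩ := GH_wq hk0
  set g : Co0 := k0 * g0 with hg
  have g1 : g • v = w5 := by rw [hg, mul_smul, h1, c1]
  have g2 : g • w = wq := by rw [hg, mul_smul, h2, c2]
  have g3 : g • x = p44 := by rw [hg, mul_smul, h3]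
  have hset : ∀ y : LL, y ∈ {x : LL | sqNorm (x : E) = 32 ∧ dotInt (v : E) (x : E) = 24 ∧ dotInt (w : E) (x : E) = -24} ↔
      (g • y ∈ SS 24 ∧ dotInt (p4m : E) ((g • y : LL) : E) = 0) := by
    intro y
    rw [Set.mem_ofPred_eq, ← act_dot g v y, ← act_dot g w y, g1, g2, dot_wq, ← act_norm g y, SS, Set.mem_ofPred_eq]
    constructor
    · rintro ⟨a, b, c⟩; exact ⟨⟨a, b⟩, by omega⟩
    · rintro ⟨⟨a, b⟩, c⟩; exact ⟨a, b, by omega⟩
  have hdot : ∀ y : LL, dotInt (x : E) (y : E) = dotInt (p44 : E) ((g • y : LL) : E) := by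
    intro y; rw [← act_dot g x y, g3]
  have hne : ∀ y : LL, y ≠ x ↔ g • y ≠ p44 := by
    intro y
    rw [← g3, not_iff_not]
    exact (MulAction.injective g).eq_iff.symm
  have h32 : ∀ b ∈ SS 24, dotInt (p4m : E) (b : E) = 0 → (b = p44 ↔ dotInt (p44 : E) (b : E) = 32) := by
    intro b hb _
    constructor
    · rintro rfl; rw [← sqNorm_dot]; exact p44_norm
    · intro hd
      rcases norm_cases (b - p44) with h | h
      · exact sub_eq_zero.1 h.2
      · rw [AddSubgroup.coe_sub, sqNorm_sub, hb.1, p44_norm, dot_comm, hd] at h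
        norm_num at h
  have hcases : ∀ b ∈ SS 24, dotInt (p4m : E) (b : E) = 0 → dotInt (p44 : E) (b : E) = 8 ∨ dotInt (p44 : E) (b : E) = 16 ∨
      dotInt (p44 : E) (b : E) = 32 := fun b hb => PB.all (fun b => dotInt (p4m : E) (b : E) = 0 → dotInt (p44 : E) (b : E) = 8 ∨
      dotInt (p44 : E) (b : E) = 16 ∨ dotInt (p44 : E) (b : E) = 32) (fun σ hσ b => by
        rw [p4m_inv, p4m_inv, p44_inv, p44_inv, inv3_inv hσ]) (fun j => by
        rw [p4m_inv, p44_inv, invB]; revert j; decide) hb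
  refine ⟨?_, ?_, ?_⟩
  · have e : {y : LL | y ∈ {x : LL | sqNorm (x : E) = 32 ∧ dotInt (v : E) (x : E) = 24 ∧ dotInt (w : E) (x : E) = -24} ∧
        dotInt (x : E) (y : E) = 8} = {y : LL | g • y ∈ SS 24 ∧ (dotInt (p4m : E) ((g • y : LL) : E) = 0 ∧
          dotInt (p44 : E) ((g • y : LL) : E) = 8)} := by
      ext y
      rw [Set.mem_ofPred_eq, hset, hdot, Set.mem_ofPred_eq, and_assoc]
    rw [e, ncard_tr g (fun y => y ∈ SS 24 ∧ (dotInt (p4m : E) (y : E) = 0 ∧ dotInt (p44 : E) (y : E) = 8)),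
      PB.count (fun b => dotInt (p4m : E) (b : E) = 0 ∧ dotInt (p44 : E) (b : E) = 8) (fun σ hσ b => by
        rw [p4m_inv, p4m_inv, p44_inv, p44_inv, inv3_inv hσ])]
    simp only [p4m_inv, p44_inv, invB]
    decide
  · have e : {y : LL | y ∈ {x : LL | sqNorm (x : E) = 32 ∧ dotInt (v : E) (x : E) = 24 ∧ dotInt (w : E) (x : E) = -24} ∧
        y ≠ x ∧ dotInt (x : E) (y : E) ≠ 8} = {y : LL | g • y ∈ SS 24 ∧ (dotInt (p4m : E) ((g • y : LL) : E) = 0 ∧
          dotInt (p44 : E) ((g • y : LL) : E) = 16)} := by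
      ext y
      rw [Set.mem_ofPred_eq, hset, hdot, hne, Set.mem_ofPred_eq, and_assoc]
      constructor
      · rintro ⟨a, b, c, d⟩
        refine ⟨a, b, ?_⟩
        rw [Ne, h32 _ a b] at c
        rcases hcases _ a b with h | h | h
        · exact absurd h d
        · exact h
        · exact absurd h c
      · rintro ⟨a, b, c⟩
        refine ⟨a, b, ?_, by rw [c]; norm_num⟩
        rw [Ne, h32 _ a b, c]; norm_num
    rw [e, ncard_tr g (fun y => y ∈ SS 24 ∧ (dotInt (p4m : E) (y : E) = 0 ∧ dotInt (p44 : E) (y : E) = 16)),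
      PB.count (fun b => dotInt (p4m : E) (b : E) = 0 ∧ dotInt (p44 : E) (b : E) = 16) (fun σ hσ b => by
        rw [p4m_inv, p4m_inv, p44_inv, p44_inv, inv3_inv hσ])]
    simp only [p4m_inv, p44_inv, invB]
    decide
  · intro y hy y' hy' hyx hyx' hiff
    rw [hset] at hy hy'
    rw [hne] at hyx hyx'
    rw [hdot, hdot] at hiff
    rw [Ne, h32 _ hy.1 hy.2] at hyx
    rw [Ne, h32 _ hy'.1 hy'.2] at hyx'
    have hkey : ∃ σ ∈ D2, pm σ • (g • y) = g • y' := by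
      rcases hcases _ hy.1 hy.2 with h | h | h
      · exact PB.one (fun b => dotInt (p4m : E) (b : E) = 0 ∧ dotInt (p44 : E) (b : E) = 8) (fun σ hσ b => by
          rw [p4m_inv, p4m_inv, p44_inv, p44_inv, inv3_inv hσ]) 3 (fun j => by
          rw [p4m_inv, p44_inv, invB]; revert j; decide) hy.1 hy'.1 ⟨hy.2, h⟩ ⟨hy'.2, hiff.1 h⟩
      · have h' : dotInt (p44 : E) ((g • y' : LL) : E) = 16 := by
          rcases hcases _ hy'.1 hy'.2 with h' | h' | h'
          · have := hiff.2 h'; rw [h] at this; norm_num at this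
          · exact h'
          · exact absurd h' hyx'
        exact PB.one (fun b => dotInt (p4m : E) (b : E) = 0 ∧ dotInt (p44 : E) (b : E) = 16) (fun σ hσ b => by
          rw [p4m_inv, p4m_inv, p44_inv, p44_inv, inv3_inv hσ]) 5 (fun j => by
          rw [p4m_inv, p44_inv, invB]; revert j; decide) hy.1 hy'.1 ⟨hy.2, h⟩ ⟨hy'.2, h'⟩
      · exact absurd h hyx
    obtain ⟨σ, hσ, hs⟩ := hkey
    obtain ⟨k1, k2⟩ := GH_wq (D2_GH hσ)
    refine ⟨g⁻¹ * pm σ * g, ?_, ?_, ?_, ?_⟩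
    · rw [mul_smul, mul_smul, g1, k1, ← g1, inv_smul_smul]
    · rw [mul_smul, mul_smul, g2, k2, ← g2, inv_smul_smul]
    · rw [mul_smul, mul_smul, g3, D2_p44 hσ, ← g3, inv_smul_smul]
    · rw [mul_smul, mul_smul, hs, inv_smul_smul]

/-! ### the McLaughlin group on 275 vectors -/

theorem norm_sub_iff {u x : LL} (hu : sqNorm (u : E) = 48) (hx : sqNorm (x : E) = 32) :
    sqNorm ((u : E) - (x : E)) = 32 ↔ dotInt (u : E) (x : E) = 24 := by
  rw [sqNorm_sub, hu, hx]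
  constructor <;> intro h <;> omega

theorem m275 (u v : LL) (hu : sqNorm (u : E) = 48) (hv : sqNorm (v : E) = 32 ∧ sqNorm ((u : E) - (v : E)) = 32) :
    {x : LL | sqNorm (x : E) = 32 ∧ sqNorm ((u : E) - (x : E)) = 32 ∧ dotInt (v : E) (x : E) = 16}.ncard = 275 ∧
    ∀ x ∈ {x : LL | sqNorm (x : E) = 32 ∧ sqNorm ((u : E) - (x : E)) = 32 ∧ dotInt (v : E) (x : E) = 16},
    ∀ x' ∈ {x : LL | sqNorm (x : E) = 32 ∧ sqNorm ((u : E) - (x : E)) = 32 ∧ dotInt (v : E) (x : E) = 16},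
      ∃ g : Co0, g • u = u ∧ g • v = v ∧ g • x = x' := by
  have huv := (norm_sub_iff hu hv.1).1 hv.2
  obtain ⟨g, h2, h1⟩ := tr48' u v hu hv.1 (by rw [dot_comm]; exact huv)
  have h1' : g • u = w5 := Subtype.ext h1
  have h2' : g • v = p44 := Subtype.ext h2
  have hset : ∀ x : LL, (sqNorm (x : E) = 32 ∧ sqNorm ((u : E) - (x : E)) = 32 ∧ dotInt (v : E) (x : E) = 16) ↔
      (g • x ∈ SS 24 ∧ dotInt (p44 : E) ((g • x : LL) : E) = 16) := by
    intro x
    rw [← act_dot g v x, h2', SS, Set.mem_ofPred_eq, act_norm, ← h1', act_dot]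
    constructor
    · rintro ⟨a, b, c⟩; exact ⟨⟨a, (norm_sub_iff hu a).1 b⟩, c⟩
    · rintro ⟨⟨a, b⟩, c⟩; exact ⟨a, (norm_sub_iff hu a).2 b, c⟩
  constructor
  · rw [show {x : LL | sqNorm (x : E) = 32 ∧ sqNorm ((u : E) - (x : E)) = 32 ∧ dotInt (v : E) (x : E) = 16} =
      {x : LL | g • x ∈ SS 24 ∧ dotInt (p44 : E) ((g • x : LL) : E) = 16} from Set.ext hset,
      ncard_tr g (fun y => y ∈ SS 24 ∧ dotInt (p44 : E) (y : E) = 16)]
    rw [PB.count (fun b => dotInt (p44 : E) (b : E) = 16) (fun σ hσ b => by rw [p44_inv, p44_inv, inv3_inv hσ])]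
    simp only [p44_inv, invB]
    decide
  · intro x hx x' hx'
    have hx1 := (hset x).1 hx
    have hx2 := (hset x').1 hx'
    obtain ⟨k, hk, h3⟩ := trM PB 16 1 (Or.inl rfl) 5 vB invB (by decide) (by decide) _ hx1.1 hx1.2 _ hx2.1 hx2.2
    have k1 := mem_stabilizer_iff.1 (Subgroup.mem_inf.1 hk).1
    have k2 := mem_stabilizer_iff.1 (Subgroup.mem_inf.1 hk).2
    refine ⟨g⁻¹ * k * g, ?_, ?_, ?_⟩
    · rw [mul_smul, mul_smul, h1', k1, ← h1', inv_smul_smul]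
    · rw [mul_smul, mul_smul, h2', k2, ← h2', inv_smul_smul]
    · rw [mul_smul, mul_smul, h3, inv_smul_smul]

end CfsgLib.Co
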