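import Mathlib.GroupTheory.PGroup
import Mathlib.Data.Nat.Choose.Dvd
import Mathlib.GroupTheory.Nilpotent
import Mathlib.GroupTheory.Abelianization.Defs

/-! collection formula in class three -/

set_option autoImplicit false

namespace CfsgLib.Collect

open Subgroup
open scoped commutatorElement

variable {G : Type*} [Group G]

theorem pow_mul_of {c x d : G} (h : c * x = x * c * d) (hd : Commute d c) (a : ℕ) :
    c ^ a * x = x * c ^ a * d ^ a := by
  induction a with
  | zero => simp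
  | succ a ih =>
    calc c ^ (a + 1) * x = c ^ a * (c * x) := by rw [pow_succ]; group
      _ = (c ^ a * x) * c * d := by rw [h]; group
      _ = x * c ^ a * (d ^ a * c) * d := by rw [ih]; group
      _ = x * c ^ a * (c * d ^ a) * d := by rw [(hd.pow_left a).eq]
      _ = x * c ^ (a + 1) * d ^ (a + 1) := by rw [pow_succ, pow_succ]; group

theorem pow_mul_of₂ {x y c e : G} (h : y * x = x * y * c) (he : c * y = y * c * e)
    (hec : Commute e c) (hey : Commute e y) (n : ℕ) :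
    y ^ n * x = x * y ^ n * c ^ n * e ^ (n.choose 2) := by
  induction n with
  | zero => simp
  | succ n ih =>
    have h1 : c ^ n * y = y * c ^ n * e ^ n := pow_mul_of he hec n
    calc y ^ (n + 1) * x = y ^ n * (y * x) := by rw [pow_succ]; group
      _ = (y ^ n * x) * y * c := by rw [h]; group
      _ = x * y ^ n * c ^ n * (e ^ (n.choose 2) * y) * c := by rw [ih]; group
      _ = x * y ^ n * (c ^ n * y) * (e ^ (n.choose 2) * c) := by rw [(hey.pow_left _).eq]; group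
      _ = x * y ^ n * y * c ^ n * (e ^ n * c) * e ^ (n.choose 2) := by
          rw [h1, (hec.pow_left _).eq]; group
      _ = x * y ^ (n + 1) * c ^ (n + 1) * (e ^ n * e ^ (n.choose 2)) := by
          rw [(hec.pow_left _).eq, pow_succ, pow_succ]; group
      _ = _ := by
          rw [← pow_add, Nat.choose_succ_succ' n 1, Nat.choose_one_right]

theorem collect {x y c d e : G} (h : y * x = x * y * c) (hd : c * x = x * c * d) (he : c * y = y * c * e)
    (hdx : Commute d x) (hdy : Commute d y) (hdc : Commute d c)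
    (hex : Commute e x) (hey : Commute e y) (hec : Commute e c) (hed : Commute e d) (n : ℕ) :
    (x * y) ^ n = x ^ n * y ^ n * c ^ (n.choose 2) * d ^ (n.choose 3) * e ^ (n.choose 2 + 2 * n.choose 3) := by
  induction n with
  | zero => simp
  | succ n ih =>
    have h1 := pow_mul_of hd hdc (n.choose 2)
    have h2 := pow_mul_of₂ h he hec hey n
    have h3 := pow_mul_of he hec (n + n.choose 2)
    have e1 : Commute (e ^ (n.choose 2 + 2 * n.choose 3)) (x * y) := (hex.mul_right hey).pow_left _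
    have d1 : Commute (d ^ (n.choose 3)) (x * y) := (hdx.mul_right hdy).pow_left _
    have d2 : Commute (d ^ (n.choose 2)) y := hdy.pow_left _
    have e2 : Commute (e ^ (n.choose 2)) (c ^ (n.choose 2)) := hec.pow_pow _ _
    have e3 : Commute (e ^ (n.choose 2)) y := hey.pow_left _
    have e4 : Commute (e ^ (n.choose 2)) (d ^ (n.choose 2 + n.choose 3)) := hed.pow_pow _ _
    have e5 : Commute (e ^ (n.choose 2 + (n + n.choose 2))) (d ^ (n.choose 2 + n.choose 3)) := hed.pow_pow _ _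
    calc (x * y) ^ (n + 1) = (x * y) ^ n * (x * y) := pow_succ _ _
      _ = x ^ n * y ^ n * c ^ (n.choose 2) * d ^ (n.choose 3) * (e ^ (n.choose 2 + 2 * n.choose 3) * (x * y)) := by
          rw [ih]; group
      _ = x ^ n * y ^ n * c ^ (n.choose 2) * (d ^ (n.choose 3) * (x * y)) * e ^ (n.choose 2 + 2 * n.choose 3) := by
          rw [e1.eq]; group
      _ = x ^ n * y ^ n * (c ^ (n.choose 2) * x) * y * d ^ (n.choose 3) * e ^ (n.choose 2 + 2 * n.choose 3) := by
          rw [d1.eq]; group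
      _ = x ^ n * (y ^ n * x) * c ^ (n.choose 2) * (d ^ (n.choose 2) * y) * d ^ (n.choose 3) *
            e ^ (n.choose 2 + 2 * n.choose 3) := by rw [h1]; group
      _ = x ^ n * x * y ^ n * c ^ n * (e ^ (n.choose 2) * c ^ (n.choose 2)) * y * (d ^ (n.choose 2) * d ^ (n.choose 3)) *
            e ^ (n.choose 2 + 2 * n.choose 3) := by rw [h2, d2.eq]; group
      _ = x ^ n * x * y ^ n * (c ^ n * c ^ (n.choose 2)) * (e ^ (n.choose 2) * y) * (d ^ (n.choose 2) * d ^ (n.choose 3)) *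
            e ^ (n.choose 2 + 2 * n.choose 3) := by rw [e2.eq]; group
      _ = x ^ (n + 1) * y ^ n * (c ^ (n + n.choose 2) * y) * (e ^ (n.choose 2) * d ^ (n.choose 2 + n.choose 3)) *
            e ^ (n.choose 2 + 2 * n.choose 3) := by
          rw [e3.eq, ← pow_add, ← pow_add, ← pow_succ]; group
      _ = x ^ (n + 1) * (y ^ n * y) * c ^ (n + n.choose 2) * (e ^ (n + n.choose 2) * d ^ (n.choose 2 + n.choose 3)) *
            (e ^ (n.choose 2) * e ^ (n.choose 2 + 2 * n.choose 3)) := by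
          rw [h3, e4.eq]; group
      _ = x ^ (n + 1) * y ^ (n + 1) * c ^ (n + n.choose 2) * d ^ (n.choose 2 + n.choose 3) *
            (e ^ (n + n.choose 2) * (e ^ (n.choose 2) * e ^ (n.choose 2 + 2 * n.choose 3))) := by
          rw [(hed.pow_pow (n + n.choose 2) (n.choose 2 + n.choose 3)).eq, ← pow_succ]; group
      _ = _ := by
          rw [← pow_add, ← pow_add, Nat.choose_succ_succ' n 1, Nat.choose_one_right, Nat.choose_succ_succ' n 2]
          congr 2
          ring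

/-- `p`-th powers in class two, `p` odd -/
theorem pow_prime_of_central {p : ℕ} (hp : p.Prime) (hp2 : p ≠ 2) {x y : G}
    (hz : ∀ g, Commute ⁅y⁻¹, x⁻¹⁆ g) (hxp : ⁅y⁻¹, x⁻¹⁆ ^ p = 1) : (x * y) ^ p = x ^ p * y ^ p := by
  have h := collect (x := x) (y := y) (c := ⁅y⁻¹, x⁻¹⁆) (d := 1) (e := 1)
    (by rw [commutatorElement_def]; group) (by rw [(hz x).eq, mul_one]) (by rw [(hz y).eq, mul_one])
    (Commute.one_left _) (Commute.one_left _) (Commute.one_left _) (Commute.one_left _) (Commute.one_left _)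
    (Commute.one_left _) (Commute.one_left _) p
  rw [h, one_pow, one_pow, mul_one, mul_one]
  obtain ⟨k, hk⟩ := hp.dvd_choose_self (k := 2) (by norm_num) (lt_of_le_of_ne hp.two_le (Ne.symm hp2))
  rw [hk, pow_mul, hxp, one_pow, mul_one]

/-- in class two, `⁅y⁻¹, x⁻¹⁆ ^ n` for central commutators -/
theorem comm_pow_of_central {x y : G} (hz : ∀ g, Commute ⁅y⁻¹, x⁻¹⁆ g) {n : ℕ} (hy : y ^ n = 1) :
    ⁅y⁻¹, x⁻¹⁆ ^ n = 1 := by
  have h1 : y * x = x * y * ⁅y⁻¹, x⁻¹⁆ := by rw [commutatorElement_def]; group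
  have h2 := pow_mul_of₂ (e := 1) h1 (by rw [(hz y).eq, mul_one]) (Commute.one_left _) (Commute.one_left _) n
  rw [hy, one_pow, mul_one, mul_one, one_mul] at h2
  exact (left_eq_mul.mp h2)

/-- closure of the elements of order `p` in class two -/
theorem pow_eq_one_of_class_two {p : ℕ} (hp : p.Prime) (hp2 : p ≠ 2)
    (hz : ∀ x y g : G, Commute ⁅y⁻¹, x⁻¹⁆ g) {g : G} (hg : g ∈ closure {x : G | x ^ p = 1}) : g ^ p = 1 := by
  induction hg using closure_induction with
  | mem x hx => exact hx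
  | one => exact one_pow _
  | mul x y _ _ hx hy =>
    rw [pow_prime_of_central hp hp2 (hz x y) (comm_pow_of_central (hz x y) hy), hx, hy, one_mul]
  | inv x _ hx => rw [inv_pow, hx, inv_one]

/-- `p`-th powers in class three, `p > 3` -/
theorem pow_prime_of_class_three {p : ℕ} (hp : p.Prime) (hp3 : 3 < p) {x y : G}
    (hd : ∀ g, Commute ⁅⁅y⁻¹, x⁻¹⁆⁻¹, x⁻¹⁆ g) (he : ∀ g, Commute ⁅⁅y⁻¹, x⁻¹⁆⁻¹, y⁻¹⁆ g)
    (hc : ⁅y⁻¹, x⁻¹⁆ ^ p = 1) (hdp : ⁅⁅y⁻¹, x⁻¹⁆⁻¹, x⁻¹⁆ ^ p = 1) (hep : ⁅⁅y⁻¹, x⁻¹⁆⁻¹, y⁻¹⁆ ^ p = 1) :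
    (x * y) ^ p = x ^ p * y ^ p := by
  have h := collect (x := x) (y := y) (c := ⁅y⁻¹, x⁻¹⁆) (d := ⁅⁅y⁻¹, x⁻¹⁆⁻¹, x⁻¹⁆) (e := ⁅⁅y⁻¹, x⁻¹⁆⁻¹, y⁻¹⁆)
    (by rw [commutatorElement_def]; group)
    (by rw [commutatorElement_def ⁅y⁻¹, x⁻¹⁆⁻¹]; group)
    (by rw [commutatorElement_def ⁅y⁻¹, x⁻¹⁆⁻¹]; group)
    (hd _) (hd _) (hd _) (he _) (he _) (he _) (he _) p
  rw [h]
  obtain ⟨k, hk⟩ := hp.dvd_choose_self (k := 2) (by norm_num) (by omega)
  obtain ⟨l, hl⟩ := hp.dvd_choose_self (k := 3) (by norm_num) (by omega)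
  have h2 : 2 * (p * l) = p * (2 * l) := by ring
  rw [hk, hl, h2, ← mul_add, pow_mul, pow_mul, pow_mul, hc, hdp, hep, one_pow, one_pow, one_pow, mul_one, mul_one,
    mul_one]

/-- closure of the elements of order `p` in class three, `p > 3` -/
theorem pow_eq_one_of_class_three {p : ℕ} (hp : p.Prime) (hp3 : 3 < p)
    (hcl : ⁅⁅commutator G, (⊤ : Subgroup G)⁆, (⊤ : Subgroup G)⁆ = ⊥) {g : G} (hg : g ∈ closure {x : G | x ^ p = 1}) :
    g ^ p = 1 := by
  have hZ : ⁅commutator G, (⊤ : Subgroup G)⁆ ≤ center G := by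
    rw [← commutator_top_right_eq_bot_iff_le_center]; exact hcl
  have hZ' : ∀ z ∈ ⁅commutator G, (⊤ : Subgroup G)⁆, ∀ g, Commute z g :=
    fun z hz g => ((mem_center_iff.mp (hZ hz)) g).symm
  have hc : ∀ x y : G, ⁅x, y⁆ ∈ commutator G := fun x y => by
    rw [commutator_def]; exact commutator_mem_commutator (mem_top _) (mem_top _)
  induction hg using closure_induction with
  | mem x hx => exact hx
  | one => exact one_pow _
  | inv x _ hx => rw [inv_pow, hx, inv_one]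
  | mul x y _ _ hx hy =>
    have h1 : ∀ g, Commute ⁅⁅y⁻¹, x⁻¹⁆⁻¹, x⁻¹⁆ g :=
      hZ' _ (commutator_mem_commutator (inv_mem (hc _ _)) (mem_top _))
    have h2 : ∀ g, Commute ⁅⁅y⁻¹, x⁻¹⁆⁻¹, y⁻¹⁆ g :=
      hZ' _ (commutator_mem_commutator (inv_mem (hc _ _)) (mem_top _))
    have h3 : ⁅y⁻¹, x⁻¹⁆ ^ p = 1 := by
      have e1 : ⁅y⁻¹, x⁻¹⁆ = y⁻¹ * (x⁻¹ * y * x) := by rw [commutatorElement_def]; group
      have e2 : (x⁻¹ * y * x) ^ p = 1 := by
        have : x⁻¹ * y * x = x⁻¹ * y * (x⁻¹)⁻¹ := by rw [inv_inv]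
        rw [this, conj_pow, hy]; group
      have e3 : ∀ g, Commute ⁅(x⁻¹ * y * x)⁻¹, (y⁻¹)⁻¹⁆ g := by
        have : ⁅(x⁻¹ * y * x)⁻¹, (y⁻¹)⁻¹⁆ = ⁅y⁻¹, ⁅y, x⁻¹⁆⁆ := by
          simp only [commutatorElement_def]; group
        rw [this]
        apply hZ'
        rw [commutator_comm]
        exact commutator_mem_commutator (mem_top _) (hc _ _)
      rw [e1, pow_prime_of_central hp (by omega) e3 (comm_pow_of_central e3 e2), e2, inv_pow, hy]; group
    rw [pow_prime_of_class_three hp hp3 h1 h2 h3 (comm_pow_of_central h1 h3) (comm_pow_of_central h2 h3), hx, hy,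
      one_mul]

end CfsgLib.Collect
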