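import Cfsg.Agent.LibContrib20b

set_option autoImplicit false
set_option linter.all false
set_option maxHeartbeats 1000000

/-! # The lattice of a block on the regular elements; rank at most two (helper20) -/

namespace CfsgLib.Contrib20c

open CfsgLib.CharInt hiding irr_isCharacter irr_classFun irr_one_ne_zero schur_scalar
open Cfsg CfsgLib.CharInt2 CfsgLib.CharBasic CfsgLib.BlockR CfsgLib.BlockCore
  CfsgLib.BlockIdem CfsgLib.BlockIdeal CfsgLib.BlockConj CfsgLib.BlockBrauer CfsgLib.BlockInd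
  CfsgLib.BlockFMT CfsgLib.BlockFMT2 CfsgLib.PLocalInd CfsgLib.BlockOrth CfsgLib.BlockDefect
  CfsgLib.BlockReg CfsgLib.BlockReg2 CfsgLib.BlockCount CfsgLib.BlockCount2 CfsgLib.BlockQP
  CfsgLib.BlockCov2 CfsgLib.BlockCov3 CfsgLib.BlockCov4 CfsgLib.BlockLoc CfsgLib.BlockM
  CfsgLib.BlockH CfsgLib.BlockH2 CfsgLib.CharNorm CfsgLib.BlockSec CfsgLib.BlockSec2
  CfsgLib.BlockSec3 CfsgLib.Zeta20 CfsgLib.Contrib20 CfsgLib.Contrib20b
open scoped ComplexConjugate Pointwise

universe u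

variable {M : Ideal AlgInt} {p : ℕ} [Fact p.Prime]

section Lat

variable {H : Type u} [Group H] [Fintype H] {b : Set (IrrCharacter H)}

/-- the lattice -/
noncomputable def Lat (p : ℕ) (b : Set (IrrCharacter H)) : Submodule ℤ (H → ℂ) :=
  Submodule.span ℤ ((fun η : IrrCharacter H => reg p (η : H → ℂ)) '' b)

theorem reg_mem_Lat {η : IrrCharacter H} (hη : η ∈ b) : reg p (η : H → ℂ) ∈ Lat p b :=
  Submodule.subset_span ⟨η, hη, rfl⟩

theorem Lat_inV (hM : IsPModular p M) (hb : IsPBlock M b) {f : H → ℂ} (hf : f ∈ Lat p b) : InV p b f := by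
  unfold Lat at hf
  induction hf using Submodule.span_induction with
  | mem v hv => obtain ⟨η, hη, rfl⟩ := hv; exact inV_reg hM hb hη
  | zero => exact inV_zero b
  | add v w _ _ hv hw => exact inV_add hv hw
  | smul c v _ hv =>
    have : c • v = (c : ℂ) • v := by
      funext x
      rw [Pi.smul_apply, Pi.smul_apply, zsmul_eq_mul, smul_eq_mul]
    rw [this]
    exact inV_smul _ hv

theorem zsmul_eq (c : ℤ) (v : H → ℂ) : c • v = (c : ℂ) • v := by
  funext x
  rw [Pi.smul_apply, Pi.smul_apply, zsmul_eq_mul, smul_eq_mul]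

/-- the Gram pairing -/
noncomputable def gr (p : ℕ) (b : Set (IrrCharacter H)) (f g : H → ℂ) : ℂ :=
  ((p ^ blockDefect p b : ℕ) : ℂ) * classInner f g

theorem gr_add_l (f f' g : H → ℂ) : gr p b (f + f') g = gr p b f g + gr p b f' g := by
  unfold gr; rw [ci_add_l]; ring

theorem gr_add_r (f g g' : H → ℂ) : gr p b f (g + g') = gr p b f g + gr p b f g' := by
  unfold gr; rw [ci_add_r]; ring

theorem gr_smul_l (c : ℂ) (f g : H → ℂ) : gr p b (c • f) g = c * gr p b f g := by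
  unfold gr; rw [ci_smul_l]; ring

theorem gr_smul_r (c : ℂ) (f g : H → ℂ) : gr p b f (c • g) = conj c * gr p b f g := by
  unfold gr; rw [ci_smul_r]; ring

theorem gr_conj (f g : H → ℂ) : conj (gr p b f g) = gr p b g f := by
  unfold gr; rw [map_mul, map_natCast, ci_conj]

theorem gr_zero_r (f : H → ℂ) : gr p b f 0 = 0 := by
  have := gr_smul_r (p := p) (b := b) 0 f 0
  rwa [zero_smul, map_zero, zero_mul] at this

theorem gr_zero_l (f : H → ℂ) : gr p b 0 f = 0 := by
  rw [← gr_conj, gr_zero_r, map_zero]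

theorem gr_int (hM : IsPModular p M) (hb : IsPBlock M b) {f g : H → ℂ} (hf : f ∈ Lat p b) (hg : g ∈ Lat p b) :
    ∃ m : ℤ, gr p b f g = m := by
  unfold Lat at hf
  induction hf using Submodule.span_induction with
  | mem v hv =>
    obtain ⟨η, hη, rfl⟩ := hv
    unfold Lat at hg
    induction hg using Submodule.span_induction with
    | mem w hw =>
      obtain ⟨η', hη', rfl⟩ := hw
      exact ⟨_, mb_spec hM hb hη η'⟩
    | zero => exact ⟨0, by rw [gr_zero_r, Int.cast_zero]⟩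
    | add v w _ _ hv hw =>
      obtain ⟨m, hm⟩ := hv
      obtain ⟨m', hm'⟩ := hw
      exact ⟨m + m', by rw [gr_add_r, hm, hm', Int.cast_add]⟩
    | smul c v _ hv =>
      obtain ⟨m, hm⟩ := hv
      exact ⟨c * m, by rw [zsmul_eq, gr_smul_r, hm, map_intCast, Int.cast_mul]⟩
  | zero => exact ⟨0, by rw [gr_zero_l, Int.cast_zero]⟩
  | add v w _ _ hv hw =>
    obtain ⟨m, hm⟩ := hv
    obtain ⟨m', hm'⟩ := hw
    exact ⟨m + m', by rw [gr_add_l, hm, hm', Int.cast_add]⟩
  | smul c v _ hv =>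
    obtain ⟨m, hm⟩ := hv
    exact ⟨c * m, by rw [zsmul_eq, gr_smul_l, hm, Int.cast_mul]⟩

theorem gr_self_nonneg (f : H → ℂ) : ∃ r : ℝ, 0 ≤ r ∧ gr p b f f = r := by
  refine ⟨((p ^ blockDefect p b : ℕ) : ℝ) * ((Nat.card H : ℝ)⁻¹ * ∑ g : H, ‖f g‖ ^ 2), by positivity, ?_⟩
  unfold gr
  rw [inner_self_eq]
  push_cast
  ring

theorem gr_self_zero {f : H → ℂ} (h : gr p b f f = 0) : f = 0 := by
  unfold gr at h
  have h0 : ((p ^ blockDefect p b : ℕ) : ℂ) ≠ 0 := by
    exact_mod_cast (pow_pos (Fact.out : p.Prime).pos _).ne'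
  exact inner_self_eq_zero ((mul_eq_zero.mp h).resolve_left h0)

theorem Lat_finite (b : Set (IrrCharacter H)) : Module.Finite ℤ (Lat p b) := by
  unfold Lat
  exact Module.Finite.span_of_finite ℤ ((Set.toFinite b).image _)

theorem inj_rank (hM : IsPModular p M) (hb : IsPBlock M b) {l : ℕ} (f : Fin l → (H → ℂ))
    (hfL : ∀ i, f i ∈ Lat p b) (hf2 : ∀ v ∈ Lat p b, v ∈ Submodule.span ℂ (Set.range f)) :
    Module.finrank ℤ (Lat p b) ≤ l := by
  classical
  have hint : ∀ (v : Lat p b) (i : Fin l), ∃ m : ℤ, gr p b (v : H → ℂ) (f i) = m :=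
    fun v i => gr_int hM hb v.2 (hfL i)
  choose m hm using hint
  let Φ : (Lat p b) →ₗ[ℤ] (Fin l → ℤ) :=
    { toFun := fun v i => m v i
      map_add' := by
        intro v w
        funext i
        have h1 := hm (v + w) i
        rw [Submodule.coe_add, gr_add_l, hm v i, hm w i] at h1
        exact_mod_cast h1.symm
      map_smul' := by
        intro c v
        funext i
        have h1 := hm (c • v) i
        rw [Submodule.coe_smul, zsmul_eq, gr_smul_l, hm v i] at h1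
        exact_mod_cast h1.symm }
  have hinj : Function.Injective Φ := by
    rw [← LinearMap.ker_eq_bot, LinearMap.ker_eq_bot']
    intro v hv
    have h1 : ∀ i, gr p b (v : H → ℂ) (f i) = 0 := by
      intro i
      rw [hm v i]
      have := congrFun hv i
      have h2 : m v i = 0 := this
      rw [h2, Int.cast_zero]
    have h2 : ∀ w ∈ Submodule.span ℂ (Set.range f), gr p b (v : H → ℂ) w = 0 := by
      intro w hw
      induction hw using Submodule.span_induction with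
      | mem w hw => obtain ⟨i, rfl⟩ := hw; exact h1 i
      | zero => exact gr_zero_r _
      | add v w _ _ hv hw => rw [gr_add_r, hv, hw, add_zero]
      | smul c v _ hv => rw [gr_smul_r, hv, mul_zero]
    exact Subtype.ext (gr_self_zero (h2 _ (hf2 _ v.2)))
  have := LinearMap.finrank_le_finrank_of_injective hinj
  rwa [Module.finrank_fin_fun] at this

/-- the rank of the lattice is at most `l(b)` -/
theorem rank_Lat (hM : IsPModular p M) (hb : IsPBlock M b) :
    ∃ r : ℕ, r ≤ blockRank p b ∧ Nonempty (Module.Basis (Fin r) ℤ (Lat p b)) := by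
  classical
  haveI hfin : Module.Finite ℤ (Lat p b) := Lat_finite b
  haveI htf : Module.IsTorsionFree ℤ (H → ℂ) := inferInstance
  haveI : Module.IsTorsionFree ℤ (Lat p b) := inferInstance
  haveI : Module.Free ℤ (Lat p b) := Module.free_of_finite_type_torsion_free'
  refine ⟨Module.finrank ℤ (Lat p b), ?_, ⟨Module.finBasis ℤ (Lat p b)⟩⟩
  -- a ℂ-basis of the span
  obtain ⟨f, hf1, hf2, -⟩ := Submodule.exists_fun_fin_finrank_span_eq ℂ
    ((fun χ : IrrCharacter H => pRegularPart p (χ : H → ℂ)) '' b)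
  apply inj_rank hM hb f
  · intro i
    obtain ⟨η, hη, h⟩ := hf1 i
    rw [← h]
    simp only
    rw [pRegularPart_eq]
    exact reg_mem_Lat hη
  · rw [hf2]
    intro w hw
    unfold Lat at hw
    induction hw using Submodule.span_induction with
    | mem w hw =>
      obtain ⟨η, hη, rfl⟩ := hw
      apply Submodule.subset_span
      exact ⟨η, hη, pRegularPart_eq _⟩
    | zero => exact Submodule.zero_mem _
    | add v w _ _ hv hw => exact Submodule.add_mem _ hv hw
    | smul c v _ hv => rw [zsmul_eq]; exact Submodule.smul_mem _ _ hv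

/-- a generating pair -/
def GenPair (p : ℕ) (b : Set (IrrCharacter H)) (φ₁ φ₂ : H → ℂ) : Prop :=
  φ₁ ∈ Lat p b ∧ φ₂ ∈ Lat p b ∧ ∀ v ∈ Lat p b, ∃ m n : ℤ, v = (m : ℂ) • φ₁ + (n : ℂ) • φ₂

theorem exists_genPair (hM : IsPModular p M) (hb : IsPBlock M b) (hl : blockRank p b ≤ 2) :
    ∃ φ₁ φ₂ : H → ℂ, GenPair p b φ₁ φ₂ := by
  obtain ⟨r, hr, ⟨B⟩⟩ := rank_Lat hM hb
  have hr2 := hr.trans hl
  have hexp : ∀ v (hv : v ∈ Lat p b), v = ∑ i : Fin r, ((B.repr ⟨v, hv⟩ i : ℤ) : ℂ) • (B i : H → ℂ) := by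
    intro v hv
    have h1 := B.sum_repr ⟨v, hv⟩
    have h2 := congrArg Subtype.val h1
    rw [Submodule.coe_sum] at h2
    change _ = v at h2
    refine h2.symm.trans ?_
    apply Finset.sum_congr rfl
    intro i _
    rw [Submodule.coe_smul, zsmul_eq]
  interval_cases r
  · refine ⟨0, 0, Submodule.zero_mem _, Submodule.zero_mem _, ?_⟩
    intro v hv
    refine ⟨0, 0, ?_⟩
    have := hexp v hv
    rw [Finset.univ_eq_empty, Finset.sum_empty] at this
    rw [this]; simp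
  · refine ⟨0, B 0, Submodule.zero_mem _, (B 0).2, ?_⟩
    intro v hv
    refine ⟨0, B.repr ⟨v, hv⟩ 0, ?_⟩
    have := hexp v hv
    rw [Fin.sum_univ_one] at this
    rw [smul_zero, zero_add]
    exact this
  · refine ⟨B 0, B 1, (B 0).2, (B 1).2, ?_⟩
    intro v hv
    refine ⟨B.repr ⟨v, hv⟩ 0, B.repr ⟨v, hv⟩ 1, ?_⟩
    have := hexp v hv
    rw [Fin.sum_univ_two] at this
    exact this

theorem GenPair.swap {φ₁ φ₂ : H → ℂ} (h : GenPair p b φ₁ φ₂) : GenPair p b φ₂ φ₁ := by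
  refine ⟨h.2.1, h.1, ?_⟩
  intro v hv
  obtain ⟨m, n, hmn⟩ := h.2.2 v hv
  exact ⟨n, m, by rw [hmn, add_comm]⟩

theorem GenPair.shift {φ₁ φ₂ : H → ℂ} (h : GenPair p b φ₁ φ₂) (c : ℤ) :
    GenPair p b φ₁ (φ₂ + (c : ℂ) • φ₁) := by
  refine ⟨h.1, ?_, ?_⟩
  · rw [← zsmul_eq]
    exact Submodule.add_mem _ h.2.1 (Submodule.smul_mem _ c h.1)
  · intro v hv
    obtain ⟨m, n, hmn⟩ := h.2.2 v hv
    refine ⟨m - n * c, n, ?_⟩
    rw [hmn]
    funext x
    simp only [Pi.add_apply, Pi.smul_apply, smul_eq_mul]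
    push_cast
    ring

theorem GenPair.neg {φ₁ φ₂ : H → ℂ} (h : GenPair p b φ₁ φ₂) :
    GenPair p b φ₁ ((-1 : ℂ) • φ₂) := by
  refine ⟨h.1, ?_, ?_⟩
  · have : ((-1 : ℂ) • φ₂) = (-1 : ℤ) • φ₂ := by rw [zsmul_eq]; push_cast; rfl
    rw [this]
    exact Submodule.smul_mem _ _ h.2.1
  · intro v hv
    obtain ⟨m, n, hmn⟩ := h.2.2 v hv
    refine ⟨m, -n, ?_⟩
    rw [hmn]
    funext x
    simp only [Pi.add_apply, Pi.smul_apply, smul_eq_mul]
    push_cast
    ring

theorem exists_reduced (hM : IsPModular p M) (hb : IsPBlock M b) (hl : blockRank p b ≤ 2) :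
    ∃ φ₁ φ₂ : H → ℂ, GenPair p b φ₁ φ₂ ∧ ∃ α β γ : ℤ, gr p b φ₁ φ₁ = α ∧ gr p b φ₁ φ₂ = β ∧
      gr p b φ₂ φ₂ = γ ∧ 0 ≤ β ∧ 2 * β ≤ α ∧ α ≤ γ := by
  classical
  have hnn : ∀ {f : H → ℂ} {m : ℤ}, gr p b f f = m → 0 ≤ m := by
    intro f m hm
    obtain ⟨r, hr, h⟩ := gr_self_nonneg (p := p) (b := b) f
    rw [hm] at h
    have h1 : (m : ℝ) = r := by exact_mod_cast h
    have h2 : (0 : ℝ) ≤ m := by rw [h1]; exact hr
    exact_mod_cast h2
  let P : ℕ → Prop := fun m => ∃ φ₁ φ₂ : H → ℂ, GenPair p b φ₁ φ₂ ∧ ∃ α γ : ℤ, gr p b φ₁ φ₁ = α ∧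
    gr p b φ₂ φ₂ = γ ∧ (α + γ).toNat = m
  have hP : ∃ m, P m := by
    obtain ⟨φ₁, φ₂, h⟩ := exists_genPair hM hb hl
    obtain ⟨α, hα⟩ := gr_int hM hb h.1 h.1
    obtain ⟨γ, hγ⟩ := gr_int hM hb h.2.1 h.2.1
    exact ⟨_, φ₁, φ₂, h, α, γ, hα, hγ, rfl⟩
  obtain ⟨φ₁, φ₂, h, α, γ, hα, hγ, hmin⟩ := Nat.find_spec hP
  have hmin' : ∀ (ψ₁ ψ₂ : H → ℂ), GenPair p b ψ₁ ψ₂ → ∀ α' γ' : ℤ, gr p b ψ₁ ψ₁ = α' → gr p b ψ₂ ψ₂ = γ' →
      α + γ ≤ α' + γ' := by
    intro ψ₁ ψ₂ h' α' γ' hα' hγ'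
    have h1 := Nat.find_min' hP ⟨ψ₁, ψ₂, h', α', γ', hα', hγ', rfl⟩
    rw [← hmin] at h1
    have h2 := hnn hα
    have h3 := hnn hγ
    have h4 := hnn hα'
    have h5 := hnn hγ'
    omega
  clear hmin
  -- first, WLOG α ≤ γ
  have key : ∀ (φ₁ φ₂ : H → ℂ) (α γ : ℤ), GenPair p b φ₁ φ₂ → gr p b φ₁ φ₁ = α → gr p b φ₂ φ₂ = γ → α ≤ γ →
      (∀ (ψ₁ ψ₂ : H → ℂ), GenPair p b ψ₁ ψ₂ → ∀ α' γ' : ℤ, gr p b ψ₁ ψ₁ = α' → gr p b ψ₂ ψ₂ = γ' →
      α + γ ≤ α' + γ') → ∃ φ₁ φ₂ : H → ℂ, GenPair p b φ₁ φ₂ ∧ ∃ α β γ : ℤ, gr p b φ₁ φ₁ = α ∧ gr p b φ₁ φ₂ = β ∧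
      gr p b φ₂ φ₂ = γ ∧ 0 ≤ β ∧ 2 * β ≤ α ∧ α ≤ γ := by
    intro φ₁ φ₂ α γ h hα hγ hle hmin
    obtain ⟨β, hβ⟩ := gr_int hM hb h.1 h.2.1
    have hβ' : gr p b φ₂ φ₁ = β := by rw [← gr_conj, hβ, map_intCast]
    have hs : ∀ c : ℤ, gr p b (φ₂ + (c : ℂ) • φ₁) (φ₂ + (c : ℂ) • φ₁) = ((γ + 2 * c * β + c ^ 2 * α : ℤ) : ℂ) := by
      intro c
      rw [gr_add_l, gr_add_r, gr_add_r, gr_smul_l, gr_smul_l, gr_smul_r, gr_smul_r, hγ, hβ', hβ, hα, map_intCast]
      push_cast
      ring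
    have h1 := hmin _ _ (h.shift (-1)) α _ hα (hs (-1))
    have h2 := hmin _ _ (h.shift 1) α _ hα (hs 1)
    rcases le_or_gt 0 β with hb0 | hb0
    · exact ⟨φ₁, φ₂, h, α, β, γ, hα, hβ, hγ, hb0, by linarith, hle⟩
    · refine ⟨φ₁, (-1 : ℂ) • φ₂, h.neg, α, -β, γ, hα, ?_, ?_, by omega, by linarith, hle⟩
      · rw [gr_smul_r, hβ]
        simp
      · rw [gr_smul_l, gr_smul_r, hγ]
        simp
  rcases le_total α γ with hle | hle
  · exact key φ₁ φ₂ α γ h hα hγ hle hmin'
  · exact key φ₂ φ₁ γ α h.swap hγ hα hle (fun ψ₁ ψ₂ h' α' γ' h1 h2 => by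
      have := hmin' ψ₁ ψ₂ h' α' γ' h1 h2
      omega)

/-- rank one modulo the ideal, on the lattice -/
theorem lat_congr (hM : IsPModular p M) (hb : IsPBlock M b) {c0 : ℂ}
    (h : ∀ η ∈ b, ∀ η' ∈ b, MemLocalIdeal M ((mb p b η η' : ℂ) - c0 * vv p b η * vv p b η'))
    {f : H → ℂ} (hf : f ∈ Lat p b) : ∃ s : ℂ, MemLocalRing M s ∧
      ∀ η' ∈ b, MemLocalIdeal M (gr p b f (reg p (η' : H → ℂ)) - c0 * s * vv p b η') := by
  have hp := isPrime_of_modular hM
  unfold Lat at hf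
  induction hf using Submodule.span_induction with
  | mem v hv =>
    obtain ⟨η, hη, rfl⟩ := hv
    refine ⟨vv p b η, ring_nat hp _, ?_⟩
    intro η' hη'
    have h1 : gr p b (reg p (η : H → ℂ)) (reg p (η' : H → ℂ)) = mb p b η η' := mb_spec hM hb hη η'
    simp only
    rw [h1]
    exact h η hη η' hη'
  | zero =>
    refine ⟨0, ring_zero hp, ?_⟩
    intro η' _
    rw [gr_zero_l, mul_zero, zero_mul, sub_zero]
    exact ideal_zero hp
  | add v w _ _ hv hw =>
    obtain ⟨s, hs, h1⟩ := hv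
    obtain ⟨t, ht, h2⟩ := hw
    refine ⟨s + t, ring_add hp hs ht, ?_⟩
    intro η' hη'
    rw [gr_add_l]
    have := ideal_add hp (h1 η' hη') (h2 η' hη')
    have h3 : gr p b v (reg p (η' : H → ℂ)) + gr p b w (reg p (η' : H → ℂ)) - c0 * (s + t) * vv p b η' =
      (gr p b v (reg p (η' : H → ℂ)) - c0 * s * vv p b η') + (gr p b w (reg p (η' : H → ℂ)) - c0 * t * vv p b η') := by
      ring
    rw [h3]; exact this
  | smul c v _ hv =>
    obtain ⟨s, hs, h1⟩ := hv
    refine ⟨c * s, ring_mul hp (ring_int hp c) hs, ?_⟩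
    intro η' hη'
    rw [zsmul_eq, gr_smul_l]
    have := ideal_mul_left hp (ring_int hp c) (h1 η' hη')
    have h3 : (c : ℂ) * gr p b v (reg p (η' : H → ℂ)) - c0 * (c * s) * vv p b η' =
      c * (gr p b v (reg p (η' : H → ℂ)) - c0 * s * vv p b η') := by ring
    rw [h3]; exact this

theorem det_zero (hM : IsPModular p M) (hb : IsPBlock M b) {φ₁ φ₂ : H → ℂ} (h1 : φ₁ ∈ Lat p b) (h2 : φ₂ ∈ Lat p b)
    {γ : ℤ} (h11 : gr p b φ₁ φ₁ = 1) (h12 : gr p b φ₁ φ₂ = 0) (h22 : gr p b φ₂ φ₂ = γ) : (p : ℤ) ∣ γ := by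
  have hp := isPrime_of_modular hM
  obtain ⟨c0, hc0, -, hr⟩ := rank_one hM hb
  obtain ⟨s1, hs1, hh1⟩ := lat_congr hM hb hr h1
  obtain ⟨s2, hs2, hh2⟩ := lat_congr hM hb hr h2
  have h21 : gr p b φ₂ φ₁ = 0 := by rw [← gr_conj, h12, map_zero]
  have key : ∀ g ∈ Lat p b, MemLocalIdeal M (s2 * gr p b φ₁ g - s1 * gr p b φ₂ g) := by
    intro g hg
    unfold Lat at hg
    induction hg using Submodule.span_induction with
    | mem w hw =>
      obtain ⟨η, hη, rfl⟩ := hw
      have e1 := ideal_mul_left hp hs2 (hh1 η hη)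
      have e2 := ideal_mul_left hp hs1 (hh2 η hη)
      have e3 := ideal_sub hp e1 e2
      have e4 : s2 * (gr p b φ₁ (reg p (η : H → ℂ)) - c0 * s1 * vv p b η) -
          s1 * (gr p b φ₂ (reg p (η : H → ℂ)) - c0 * s2 * vv p b η) =
          s2 * gr p b φ₁ (reg p (η : H → ℂ)) - s1 * gr p b φ₂ (reg p (η : H → ℂ)) := by ring
      rwa [e4] at e3
    | zero => rw [gr_zero_r, gr_zero_r, mul_zero, mul_zero, sub_zero]; exact ideal_zero hp
    | add v w _ _ hv hw =>
      rw [gr_add_r, gr_add_r]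
      have := ideal_add hp hv hw
      have e : s2 * (gr p b φ₁ v + gr p b φ₁ w) - s1 * (gr p b φ₂ v + gr p b φ₂ w) =
        (s2 * gr p b φ₁ v - s1 * gr p b φ₂ v) + (s2 * gr p b φ₁ w - s1 * gr p b φ₂ w) := by ring
      rw [e]; exact this
    | smul c v _ hv =>
      rw [zsmul_eq, gr_smul_r, gr_smul_r, map_intCast]
      have := ideal_mul_left hp (ring_int hp c) hv
      have e : s2 * (c * gr p b φ₁ v) - s1 * (c * gr p b φ₂ v) = c * (s2 * gr p b φ₁ v - s1 * gr p b φ₂ v) := by ring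
      rw [e]; exact this
  have hs2' : MemLocalIdeal M s2 := by
    have := key φ₁ h1
    rwa [h11, h21, mul_one, mul_zero, sub_zero] at this
  have key2 : ∀ g ∈ Lat p b, MemLocalIdeal M (gr p b φ₂ g) := by
    intro g hg
    unfold Lat at hg
    induction hg using Submodule.span_induction with
    | mem w hw =>
      obtain ⟨η, hη, rfl⟩ := hw
      have e1 := hh2 η hη
      have e2 : MemLocalIdeal M (c0 * s2 * vv p b η) :=
        ideal_mul_right hp (ideal_mul_left hp hc0 hs2') (ring_nat hp _)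
      have e3 := ideal_add hp e1 e2
      rwa [sub_add_cancel] at e3
    | zero => rw [gr_zero_r]; exact ideal_zero hp
    | add v w _ _ hv hw => rw [gr_add_r]; exact ideal_add hp hv hw
    | smul c v _ hv =>
      rw [zsmul_eq, gr_smul_r, map_intCast]
      exact ideal_mul_left hp (ring_int hp c) hv
  have h3 := key2 φ₂ h2
  rw [h22, ideal_int_iff hM] at h3
  exact h3

end Lat

section Two

variable {G : Type u} [Group G] [Fintype G] {x : G} [Fintype (Subgroup.centralizer ({x} : Set G))]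
variable {b : Set (IrrCharacter (Subgroup.centralizer ({x} : Set G)))}

theorem avN_conj {n : ℕ} {z : ℂ} (hz : z ∈ ZR p n) : avN p n (conj z) = avN p n z := by
  unfold avN
  congr 1
  apply Finset.sum_congr rfl
  intro k hk
  rw [sg_conj (mem_J.mp hk).2 hz, Complex.norm_conj]

theorem avN_zero (n : ℕ) : avN p n 0 = 0 := by unfold avN; simp

theorem exists_coord {φ₁ φ₂ : Subgroup.centralizer ({x} : Set G) → ℂ} (h : GenPair p b φ₁ φ₂) {n : ℕ}
    (hn : x ^ (p ^ (n + 1)) = 1) (χ : IrrCharacter G) :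
    ∃ a c : ℂ, a ∈ ZR p n ∧ c ∈ ZR p n ∧ th p b χ = a • φ₁ + c • φ₂ := by
  classical
  have h1 : ∀ η : IrrCharacter (Subgroup.centralizer ({x} : Set G)), ∃ m k : ℤ,
      η ∈ b → reg p (η : Subgroup.centralizer ({x} : Set G) → ℂ) = (m : ℂ) • φ₁ + (k : ℂ) • φ₂ := by
    intro η
    by_cases hη : η ∈ b
    · obtain ⟨m, k, hmk⟩ := h.2.2 _ (reg_mem_Lat hη)
      exact ⟨m, k, fun _ => hmk⟩
    · exact ⟨0, 0, fun h => absurd h hη⟩
  choose m k hmk using h1
  refine ⟨∑ η : IrrCharacter (Subgroup.centralizer ({x} : Set G)), (ind b η * wc χ η) * m η,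
    ∑ η : IrrCharacter (Subgroup.centralizer ({x} : Set G)), (ind b η * wc χ η) * k η, ?_, ?_, ?_⟩
  · apply sum_mem; intro η _
    exact mul_mem (mul_mem (ind_mem η) (wc_mem hn χ η)) (int_mem _)
  · apply sum_mem; intro η _
    exact mul_mem (mul_mem (ind_mem η) (wc_mem hn χ η)) (int_mem _)
  · rw [th_expand, Finset.sum_smul, Finset.sum_smul, ← Finset.sum_add_distrib]
    apply Finset.sum_congr rfl
    intro η _
    by_cases hη : η ∈ b
    · rw [hmk η hη, smul_add, smul_smul, smul_smul]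
    · rw [ind_not hη, zero_mul, zero_mul, zero_mul, zero_smul, zero_smul, zero_smul, add_zero]

/-- Σ|[θ,φ]|² -/
theorem sum_sq (hM : IsPModular p M) (hx : ∃ k : ℕ, orderOf x = p ^ k) (hb : IsPBlock M b)
    {φ : Subgroup.centralizer ({x} : Set G) → ℂ} (hφ : φ ∈ Lat p b) :
    ∑ ψ : IrrCharacter G, gr p b (th p b ψ) φ * conj (gr p b (th p b ψ) φ) =
      ((p ^ blockDefect p b : ℕ) : ℂ) * gr p b φ φ := by
  have h1 := resolution hM hx hb (Lat_inV hM hb hφ) (Lat_inV hM hb hφ)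
  unfold gr
  rw [← h1, Finset.mul_sum, Finset.mul_sum]
  apply Finset.sum_congr rfl
  intro ψ _
  rw [map_mul, map_natCast, ci_conj]
  ring

theorem rank_two (hM : IsPModular p M) (hx : ∃ k : ℕ, orderOf x = p ^ k) {B : Set (IrrCharacter G)}
    (hb : IsInducedBlock M (Subgroup.centralizer ({x} : Set G)) b B)
    (hd : blockDefect p b = blockDefect p B) (hl : blockRank p b ≤ 2) :
    Nat.card B ≤ p ^ blockDefect p B := by
  classical
  have hp := isPrime_of_modular hM
  have hpp : p.Prime := Fact.out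
  obtain ⟨n, hn⟩ := exists_n (p := p) hx
  obtain ⟨χ₀, hχ₀, h00⟩ := exists_height_zero hM hb.2.1
  have h00' : blockHeight p B (χ₀ : G → ℂ) = 0 := (height_zero_iff hM hb.2.1 hχ₀).mpr h00
  obtain ⟨φ₁, φ₂, hgen, α, β, γ, h11, h12, h22, hb0, hba, hac⟩ := exists_reduced hM hb.1 hl
  have h21 : gr p b φ₂ φ₁ = β := by rw [← gr_conj, h12, map_intCast]
  have hco := exists_coord hgen hn
  choose a c ha hc hth using hco
  -- contributions in coordinates
  have hcon : ∀ χ ψ, con p b χ ψ = α * (a χ * conj (a ψ)) + β * (a χ * conj (c ψ) + c χ * conj (a ψ)) +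
      γ * (c χ * conj (c ψ)) := by
    intro χ ψ
    have h1 : con p b χ ψ = gr p b (th p b χ) (th p b ψ) := rfl
    rw [h1, hth χ, hth ψ, gr_add_l, gr_add_r, gr_add_r, gr_smul_l, gr_smul_l, gr_smul_l, gr_smul_l,
      gr_smul_r, gr_smul_r, gr_smul_r, gr_smul_r, h11, h12, h21, h22]
    ring
  have haa : ∀ χ, aa p n b χ = (α - β) * avN p n (a χ) + (γ - β) * avN p n (c χ) +
      β * avN p n (a χ + c χ) := by
    intro χ
    have h1 := av_con hM hx hb.1 hn χ
    have h2 : con p b χ χ = ((α - β : ℤ) : ℂ) * (a χ * conj (a χ)) + ((γ - β : ℤ) : ℂ) * (c χ * conj (c χ)) +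
        (β : ℂ) * ((a χ + c χ) * conj (a χ + c χ)) := by
      rw [hcon, map_add]; push_cast; ring
    rw [h2, av_add, av_add, av_intmul, av_intmul, av_intmul, av_norm (ha χ), av_norm (hc χ),
      av_norm (add_mem (ha χ) (hc χ))] at h1
    have h3 : ((aa p n b χ : ℝ) : ℂ) = (((α - β) * avN p n (a χ) + (γ - β) * avN p n (c χ) +
      β * avN p n (a χ + c χ) : ℝ) : ℂ) := by
      rw [← h1]; push_cast; ring
    exact_mod_cast h3
  have hsum := sum_aa hM hx hb.1 hn
  have hne : ∀ χ ∈ B, con p b χ χ ≠ 0 := by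
    intro χ hχ h
    have h1 : th p b χ = 0 := gr_self_zero (p := p) (b := b) h
    have h2 := major_ne hM hx hb hd hχ₀ h00' hχ hn
    apply h2
    unfold con
    rw [h1]
    have : classInner (th p b χ₀) (0 : Subgroup.centralizer ({x} : Set G) → ℂ) = 0 := by
      rw [← ci_conj, ci_zero_l, map_zero]
    rw [this, mul_zero]
  have hlR : (blockRank p b : ℝ) ≤ 2 := by exact_mod_cast hl
  have hpd : (0 : ℝ) < ((p ^ blockDefect p b : ℕ) : ℝ) := by exact_mod_cast pow_pos hpp.pos _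
  have hone : ∀ {z : ℂ}, z ∈ ZR p n → z ≠ 0 → 1 ≤ avN p n z := fun hz h => one_le_avN hz h
  have hbR : (0 : ℝ) ≤ β := by exact_mod_cast hb0
  have hbaR : 2 * (β : ℝ) ≤ α := by exact_mod_cast hba
  have hacR : (α : ℝ) ≤ γ := by exact_mod_cast hac
  rw [← hd]
  rcases lt_trichotomy α 1 with hα | hα | hα
  · -- α = 0
    have hα0 : α = 0 := by omega
    have hβ0 : β = 0 := by omega
    have hφ1 : φ₁ = 0 := gr_self_zero (p := p) (b := b) (by rw [h11, hα0, Int.cast_zero])
    have hl1 : blockRank p b ≤ 1 := by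
      unfold blockRank
      have h1 : Submodule.span ℂ ((fun χ : IrrCharacter (Subgroup.centralizer ({x} : Set G)) =>
          pRegularPart p (χ : Subgroup.centralizer ({x} : Set G) → ℂ)) '' b) ≤ Submodule.span ℂ {φ₂} := by
        rw [Submodule.span_le]
        rintro _ ⟨η, hη, rfl⟩
        obtain ⟨m, k, hmk⟩ := hgen.2.2 _ (reg_mem_Lat hη)
        simp only
        rw [pRegularPart_eq, hmk, hφ1, smul_zero, zero_add]
        exact Submodule.smul_mem _ _ (Submodule.mem_span_singleton_self _)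
      refine (Submodule.finrank_mono h1).trans ?_
      refine (finrank_span_le_card ({φ₂} : Set _)).trans ?_
      simp
    have hγ1 : 1 ≤ γ := by
      rcases lt_or_ge γ 1 with h | h
      · exfalso
        have hγ0 : γ = 0 := by omega
        apply hne χ₀ hχ₀
        rw [hcon, hα0, hβ0, hγ0]; simp
      · exact h
    have hγ1R : (1 : ℝ) ≤ γ := by exact_mod_cast hγ1
    have h1 : (Nat.card B : ℝ) ≤ ∑ χ : IrrCharacter G, aa p n b χ := by
      apply card_le_sum B _ (aa_nonneg p n b)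
      intro χ hχ
      rw [haa, hα0, hβ0]
      have hcne : c χ ≠ 0 := by
        intro h
        apply hne χ hχ
        rw [hcon, hα0, hβ0, h]; simp
      have := hone (hc χ) hcne
      push_cast
      nlinarith
    rw [hsum] at h1
    have hl1R : (blockRank p b : ℝ) ≤ 1 := by exact_mod_cast hl1
    have h2 : (Nat.card B : ℝ) ≤ ((p ^ blockDefect p b : ℕ) : ℝ) := by nlinarith
    exact_mod_cast h2
  · -- α = 1
    have hβ0 : β = 0 := by omega
    have hγp : (p : ℤ) ∣ γ := det_zero hM hb.1 hgen.1 hgen.2.1 (by rw [h11, hα, Int.cast_one])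
      (by rw [h12, hβ0, Int.cast_zero]) h22
    have hγpos : 0 < γ := by omega
    have hγp' : (p : ℤ) ≤ γ := Int.le_of_dvd hγpos hγp
    have hγpR : (p : ℝ) ≤ γ := by exact_mod_cast hγp'
    have hγposR : (0 : ℝ) < γ := by exact_mod_cast hγpos
    have hγI : MemLocalIdeal M (γ : ℂ) := (ideal_int_iff hM).mpr hγp
    rw [hα, hβ0] at hcon
    simp only [Int.cast_one, Int.cast_zero, one_mul, zero_mul, add_zero] at hcon
    -- the sums of squares
    have hsa : ∑ ψ : IrrCharacter G, avN p n (a ψ) = ((p ^ blockDefect p b : ℕ) : ℝ) := by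
      have h1 := sum_sq hM hx hb.1 hgen.1
      have h2 : ∀ ψ : IrrCharacter G, gr p b (th p b ψ) φ₁ = a ψ := by
        intro ψ
        rw [hth ψ, gr_add_l, gr_smul_l, gr_smul_l, h11, h21, hα, hβ0]
        simp
      simp only [h2] at h1
      rw [h11, hα, Int.cast_one, mul_one] at h1
      have h3 := congrArg (av p n) h1
      rw [av_sum, av_nat] at h3
      have h4 : ∀ ψ : IrrCharacter G, av p n (a ψ * conj (a ψ)) = (avN p n (a ψ) : ℂ) := fun ψ => av_norm (ha ψ)
      simp only [h4] at h3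
      exact_mod_cast h3
    have hsc : γ * ∑ ψ : IrrCharacter G, avN p n (c ψ) = ((p ^ blockDefect p b : ℕ) : ℝ) := by
      have h1 := sum_sq hM hx hb.1 hgen.2.1
      have h2 : ∀ ψ : IrrCharacter G, gr p b (th p b ψ) φ₂ = γ * c ψ := by
        intro ψ
        rw [hth ψ, gr_add_l, gr_smul_l, gr_smul_l, h22, h12, hβ0]
        push_cast
        ring
      simp only [h2] at h1
      rw [h22] at h1
      have h3 : ∀ ψ : IrrCharacter G, (γ : ℂ) * c ψ * conj ((γ : ℂ) * c ψ) = γ * (γ * (c ψ * conj (c ψ))) := by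
        intro ψ
        rw [map_mul, map_intCast]; ring
      simp only [h3] at h1
      rw [← Finset.mul_sum, mul_comm ((p ^ blockDefect p b : ℕ) : ℂ)] at h1
      have hγ0 : (γ : ℂ) ≠ 0 := by exact_mod_cast hγpos.ne'
      have h1' := mul_left_cancel₀ hγ0 h1
      rw [← Finset.mul_sum] at h1'
      have h5 := congrArg (av p n) h1'
      rw [av_intmul, av_sum, av_nat] at h5
      have h4 : ∀ ψ : IrrCharacter G, av p n (c ψ * conj (c ψ)) = (avN p n (c ψ) : ℂ) := fun ψ => av_norm (hc ψ)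
      simp only [h4] at h5
      exact_mod_cast h5
    by_cases hY : ∃ χ₁ ∈ B, a χ₁ = 0
    · obtain ⟨χ₁, hχ₁, hY⟩ := hY
      -- the unit
      have haI : ¬ MemLocalIdeal M (a χ₀) := by
        intro h
        apply con_unit hM hχ₀ h00' hχ₀ h00' hx hb hn
        rw [hcon]
        exact ideal_add hp (ideal_mul_right hp h (ring_mem hp (conj_mem (ha χ₀))))
          (ideal_mul_right hp hγI (ring_mem hp (mul_mem (hc χ₀) (conj_mem (hc χ₀)))))
      have haR : MemLocalRing M (a χ₀)⁻¹ := ring_inv (ring_mem hp (ha χ₀)) haI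
      have ha0 : a χ₀ ≠ 0 := fun h => haI (by rw [h]; exact ideal_zero hp)
      have hX : ∀ ψ ∈ B, c ψ = 0 → (p : ℝ) ^ 2 ≤ avN p n (a ψ) := by
        intro ψ hψ hcψ
        have hht : blockHeight p B (ψ : G → ℂ) ≠ 0 := by
          intro h0
          apply major_ne hM hx hb hd hψ h0 hχ₁ hn
          rw [hcon, hY, hcψ, map_zero]
          ring
        have h1 := major_ring hM hx hb.1 hn hb.2.1 hd χ₀ hψ
        rw [hcon, hcψ, map_zero, mul_zero, mul_zero, add_zero] at h1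
        have h2 : MemLocalRing M (conj (a ψ) / (p : ℂ) ^ blockHeight p B (ψ : G → ℂ)) := by
          have h3 := ring_mul hp haR h1
          have h4 : (a χ₀)⁻¹ * (a χ₀ * conj (a ψ) / (p : ℂ) ^ blockHeight p B (ψ : G → ℂ)) =
              conj (a ψ) / (p : ℂ) ^ blockHeight p B (ψ : G → ℂ) := by
            rw [mul_div_assoc, ← mul_assoc, inv_mul_cancel₀ ha0, one_mul]
          rwa [h4] at h3
        have hane : a ψ ≠ 0 := by
          intro h
          apply hne ψ hψ
          rw [hcon, h, hcψ]; simp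
        have h3 := avN_of_div hM (conj_mem (ha ψ)) (by rwa [Ne, map_eq_zero]) h2
        rw [avN_conj (ha ψ)] at h3
        refine le_trans ?_ h3
        apply pow_le_pow_right₀
        · exact_mod_cast hpp.one_lt.le
        · omega
      -- counting
      have h1 : (Nat.card B : ℝ) * (p : ℝ) ^ 2 ≤ ∑ ψ : IrrCharacter G,
          (avN p n (a ψ) + (p : ℝ) * (γ * avN p n (c ψ))) := by
        rw [Nat.card_eq_fintype_card, ← Set.toFinset_card, ← nsmul_eq_mul, ← Finset.sum_const]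
        have hp0 : (0 : ℝ) < p := by exact_mod_cast hpp.pos
        calc ∑ _i ∈ B.toFinset, (p : ℝ) ^ 2 ≤ ∑ ψ ∈ B.toFinset, (avN p n (a ψ) + (p : ℝ) * (γ * avN p n (c ψ))) := by
              apply Finset.sum_le_sum
              intro ψ hψ
              rw [Set.mem_toFinset] at hψ
              by_cases hcψ : c ψ = 0
              · have h2 := hX ψ hψ hcψ
                rw [hcψ, avN_zero, mul_zero, mul_zero, add_zero]
                exact h2
              · have h2 := hone (hc ψ) hcψ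
                have h3 := avN_nonneg (p := p) (n := n) (a ψ)
                have h4 : (p : ℝ) ≤ γ * avN p n (c ψ) := by nlinarith
                nlinarith
          _ ≤ _ := Finset.sum_le_sum_of_subset_of_nonneg (Finset.subset_univ _) fun ψ _ _ => by
              have h3 := avN_nonneg (p := p) (n := n) (a ψ)
              have h4 := avN_nonneg (p := p) (n := n) (c ψ)
              positivity
      rw [Finset.sum_add_distrib, ← Finset.mul_sum, ← Finset.mul_sum, hsa, hsc] at h1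
      have hp2 : (2 : ℝ) ≤ p := by exact_mod_cast hpp.two_le
      have h2 : (Nat.card B : ℝ) * (p : ℝ) ^ 2 ≤ ((p ^ blockDefect p b : ℕ) : ℝ) * (p : ℝ) ^ 2 := by
        refine h1.trans ?_
        have h5 : (1 : ℝ) + p ≤ (p : ℝ) ^ 2 := by nlinarith
        have h6 := mul_le_mul_of_nonneg_left h5 hpd.le
        linarith
      have h3 : (Nat.card B : ℝ) ≤ ((p ^ blockDefect p b : ℕ) : ℝ) := by
        have : (0 : ℝ) < (p : ℝ) ^ 2 := by positivity
        exact le_of_mul_le_mul_right h2 this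
      exact_mod_cast h3
    · push Not at hY
      have h1 : (Nat.card B : ℝ) ≤ ∑ ψ : IrrCharacter G, avN p n (a ψ) :=
        card_le_sum B _ (fun ψ => avN_nonneg _) fun ψ hψ => hone (ha ψ) (hY ψ hψ)
      rw [hsa] at h1
      exact_mod_cast h1
  · -- α ≥ 2
    have hα2 : (2 : ℝ) ≤ α := by exact_mod_cast hα
    have h1 : ∀ χ ∈ B, 2 ≤ aa p n b χ := by
      intro χ hχ
      rw [haa]
      have hna := avN_nonneg (p := p) (n := n) (a χ)
      have hnc := avN_nonneg (p := p) (n := n) (c χ)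
      have hnac := avN_nonneg (p := p) (n := n) (a χ + c χ)
      by_cases ha0 : a χ = 0
      · have hc0 : c χ ≠ 0 := by
          intro h
          apply hne χ hχ
          rw [hcon, ha0, h]; simp
        have h2 := hone (hc χ) hc0
        rw [ha0, zero_add, avN_zero]
        nlinarith
      · have h2 := hone (ha χ) ha0
        by_cases hc0 : c χ = 0
        · rw [hc0, add_zero, avN_zero]
          nlinarith
        · have h3 := hone (hc χ) hc0
          nlinarith
    have h2 : (Nat.card B : ℝ) * 2 ≤ ∑ χ : IrrCharacter G, aa p n b χ := by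
      rw [Nat.card_eq_fintype_card, ← Set.toFinset_card, ← nsmul_eq_mul, ← Finset.sum_const]
      calc ∑ _i ∈ B.toFinset, (2 : ℝ) ≤ ∑ χ ∈ B.toFinset, aa p n b χ :=
            Finset.sum_le_sum fun i hi => h1 i (Set.mem_toFinset.mp hi)
        _ ≤ _ := Finset.sum_le_sum_of_subset_of_nonneg (Finset.subset_univ _) fun i _ _ => aa_nonneg p n b i
    rw [hsum] at h2
    have h3 : (Nat.card B : ℝ) ≤ ((p ^ blockDefect p b : ℕ) : ℝ) := by nlinarith
    exact_mod_cast h3

end Two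

end CfsgLib.Contrib20c
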