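import Cfsg.Agent.EqBase

/-! critical groups for products of pairs of primes (helper8) -/
set_option autoImplicit false

namespace CfsgLib.Crit8

open Subgroup

/-- an affine permutation group -/
def Aff {F : Type} [Field F] (U : Subgroup Fˣ) : Subgroup (Equiv.Perm F) where
  carrier := {σ | ∃ u ∈ U, ∃ b : F, ∀ x, σ x = (u : Fˣ) * x + b}
  one_mem' := ⟨1, one_mem _, 0, fun x => by simp⟩
  mul_mem' := by
    rintro σ τ ⟨u, hu, b, h⟩ ⟨v, hv, c, k⟩
    refine ⟨u * v, mul_mem hu hv, u * c + b, fun x => ?_⟩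
    rw [Equiv.Perm.mul_apply, k, h]; push_cast; ring
  inv_mem' := by
    rintro σ ⟨u, hu, b, h⟩
    refine ⟨u⁻¹, inv_mem hu, -((u⁻¹ : Fˣ) : F) * b, fun x => ?_⟩
    rw [Equiv.Perm.inv_eq_iff_eq, h]
    have : (u : F) * ((u⁻¹ : Fˣ) : F) = 1 := by rw [← Units.val_mul, mul_inv_cancel, Units.val_one]
    linear_combination -(x - b) * this

theorem exists_frob {p q : ℕ} (hp : p.Prime) (hq : q.Prime) (hpq : p ≠ q) : ∃ (X : Type) (_ : Group X) (_ : Finite X),
    (∀ x : X, orderOf x = 1 ∨ orderOf x = p ∨ orderOf x = q) ∧ (∃ x : X, orderOf x = p) ∧ (∃ x : X, orderOf x = q) ∧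
    (∀ x y : X, x ^ p = 1 → y ^ p = 1 → (x * y) ^ p = 1) := by
  haveI : Fact p.Prime := ⟨hp⟩
  haveI : Fact q.Prime := ⟨hq⟩
  have hq2 := hq.two_le
  let F := GaloisField p (q - 1)
  have hcard : Nat.card F = p ^ (q - 1) := GaloisField.card p (q - 1) (by omega)
  haveI : Finite F := Nat.finite_of_card_ne_zero (by rw [hcard]; exact pow_ne_zero _ hp.ne_zero)
  haveI := Fintype.ofFinite F
  classical
  have hdvd : q ∣ Nat.card Fˣ := by
    rw [Nat.card_units, hcard]
    have h1 : ((p : ℕ) : ZMod q) ≠ 0 := by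
      intro h
      rw [ZMod.natCast_eq_zero_iff] at h
      exact hpq ((Nat.prime_dvd_prime_iff_eq hq hp).1 h).symm
    have h2 := ZMod.pow_card_sub_one_eq_one h1
    rw [← Nat.modEq_iff_dvd' (Nat.one_le_pow _ _ hp.pos)]
    apply Nat.ModEq.symm
    rw [← ZMod.natCast_eq_natCast_iff]
    push_cast
    exact h2
  obtain ⟨ζ, hζ⟩ := exists_prime_orderOf_dvd_card' q hdvd
  haveI : CharP F p := inferInstance
  have hζq : ζ ^ q = 1 := orderOf_dvd_iff_pow_eq_one.1 (dvd_of_eq hζ)
  have hU : ∀ u ∈ zpowers ζ, u ^ q = 1 := by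
    intro u hu
    obtain ⟨k, rfl⟩ := mem_zpowers_iff.1 hu
    rw [← zpow_natCast, ← zpow_mul, mul_comm, zpow_mul, zpow_natCast, hζq, one_zpow]
  -- translations
  have htr : ∀ (σ : Equiv.Perm F) (b : F), (∀ x, σ x = x + b) → σ ^ p = 1 := by
    intro σ b h
    have h1 : ∀ n : ℕ, ∀ x, (σ ^ n) x = x + n * b := by
      intro n
      induction n with
      | zero => intro x; simp
      | succ n ih => intro x; rw [pow_succ', Equiv.Perm.mul_apply, ih, h]; push_cast; ring
    ext x
    rw [h1, CharP.cast_eq_zero]; simp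
  have hrot : ∀ (σ : Equiv.Perm F) (u : Fˣ) (b : F), u ≠ 1 → u ^ q = 1 → (∀ x, σ x = u * x + b) → σ ^ q = 1 ∧ σ ≠ 1 := by
    intro σ u b hu huq h
    have hu1 : (1 : F) - u ≠ 0 := by
      intro h2
      apply hu
      apply Units.ext
      rw [Units.val_one]; linear_combination -h2
    obtain ⟨c, hc⟩ : ∃ c, c = b / (1 - u) := ⟨_, rfl⟩
    have hc' : c * (1 - u) = b := by rw [hc]; exact div_mul_cancel₀ _ hu1
    have h1 : ∀ n : ℕ, ∀ x, (σ ^ n) x = c + (u : F) ^ n * (x - c) := by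
      intro n
      induction n with
      | zero => intro x; simp
      | succ n ih => intro x; rw [pow_succ', Equiv.Perm.mul_apply, ih, h, ← hc']; ring
    constructor
    · ext x
      have : (u : F) ^ q = 1 := by rw [← Units.val_pow_eq_pow_val, huq, Units.val_one]
      rw [h1, this]; simp
    · intro h2
      have h3 := h (c + 1)
      rw [h2, Equiv.Perm.one_apply] at h3
      apply hu1
      rw [← hc'] at h3
      linear_combination h3
  have hord : ∀ x : Aff (zpowers ζ), (∀ b : F, (∀ y, (x : Equiv.Perm F) y = y + b) → x ^ p = 1) ∧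
      (x ^ p = 1 → ∃ b : F, ∀ y, (x : Equiv.Perm F) y = y + b) ∧ (x ^ p = 1 ∨ x ^ q = 1) := by
    intro x
    refine ⟨fun b hb => Subtype.ext (by rw [Subgroup.coe_pow]; exact htr _ b hb), ?_, ?_⟩
    · intro hx
      obtain ⟨u, hu, b, h⟩ := x.2
      by_cases hu1 : u = 1
      · refine ⟨b, fun y => ?_⟩
        rw [h, hu1]; simp
      · exfalso
        obtain ⟨h1, h2⟩ := hrot _ u b hu1 (hU u hu) h
        have h3 : (x : Equiv.Perm F) ^ p = 1 := congrArg Subtype.val hx
        apply h2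
        have h4 := orderOf_dvd_of_pow_eq_one h1
        have h5 := orderOf_dvd_of_pow_eq_one h3
        have h6 : Nat.Coprime p q := (Nat.coprime_primes hp hq).2 hpq
        exact orderOf_eq_one_iff.1 (Nat.eq_one_of_dvd_coprimes h6 h5 h4)
    · obtain ⟨u, hu, b, h⟩ := x.2
      by_cases hu1 : u = 1
      · left
        apply Subtype.ext
        rw [Subgroup.coe_pow]
        exact htr _ b (fun y => by rw [h, hu1]; simp)
      · right
        apply Subtype.ext
        rw [Subgroup.coe_pow]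
        exact (hrot _ u b hu1 (hU u hu) h).1
  refine ⟨Aff (zpowers ζ), inferInstance, inferInstance, ?_, ?_, ?_, ?_⟩
  · intro x
    rcases (hord x).2.2 with h | h
    · rcases (Nat.dvd_prime hp).1 (orderOf_dvd_of_pow_eq_one h) with h1 | h1
      · exact Or.inl h1
      · exact Or.inr (Or.inl h1)
    · rcases (Nat.dvd_prime hq).1 (orderOf_dvd_of_pow_eq_one h) with h1 | h1
      · exact Or.inl h1
      · exact Or.inr (Or.inr h1)
  · refine ⟨⟨Equiv.addRight (1 : F), ⟨1, one_mem _, 1, fun x => by simp⟩⟩, ?_⟩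
    rw [orderOf_eq_prime_iff]
    constructor
    · exact (hord _).1 1 (fun y => rfl)
    · intro h
      have h1 : (0 : F) + 1 = 0 := congrArg (fun z : Aff (zpowers ζ) => (z : Equiv.Perm F) 0) h
      rw [zero_add] at h1
      exact one_ne_zero h1
  · refine ⟨⟨(MulAction.toPerm ζ : Equiv.Perm F), ⟨ζ, mem_zpowers ζ, 0, fun x => by rw [add_zero]; rfl⟩⟩, ?_⟩
    have hne : ζ ≠ 1 := by
      rintro rfl
      rw [orderOf_one] at hζ
      omega
    obtain ⟨h1, h2⟩ := hrot (MulAction.toPerm ζ : Equiv.Perm F) ζ 0 hne hζq (fun x => by rw [add_zero]; rfl)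
    rw [orderOf_eq_prime_iff]
    exact ⟨Subtype.ext h1, fun h => h2 (congrArg Subtype.val h)⟩
  · intro x y hx hy
    obtain ⟨b, hb⟩ := (hord x).2.1 hx
    obtain ⟨c, hc⟩ := (hord y).2.1 hy
    apply (hord (x * y)).1 (c + b)
    intro z
    rw [Subgroup.coe_mul, Equiv.Perm.mul_apply, hc, hb]; ring

/-! ### the target spectrum -/

variable {s : ℕ} {p : Fin s → Fin 2 → ℕ}

/-- the spectrum -/
def T (p : Fin s → Fin 2 → ℕ) : Set ℕ := {m : ℕ | ∃ c : Fin s → ℕ, (∀ j, c j = 1 ∨ c j = p j 0 ∨ c j = p j 1) ∧ m = ∏ j, c j}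

theorem dvd_T (hp : ∀ j i, (p j i).Prime) (hinj : ∀ j i j' i', p j i = p j' i' → j = j' ∧ i = i') {c : Fin s → ℕ}
    (hc : ∀ j, c j = 1 ∨ c j = p j 0 ∨ c j = p j 1) {j : Fin s} {i : Fin 2} (h : p j i ∣ ∏ j, c j) : c j = p j i := by
  rw [(hp j i).prime.dvd_finset_prod_iff] at h
  obtain ⟨k, -, hk⟩ := h
  have h1 : ∃ i', c k = p k i' ∧ p j i = p k i' := by
    rcases hc k with h2 | h2 | h2
    · rw [h2] at hk
      exact absurd (Nat.dvd_one.1 hk) (hp j i).ne_one
    · exact ⟨0, h2, (Nat.prime_dvd_prime_iff_eq (hp j i) (hp k 0)).1 (h2 ▸ hk)⟩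
    · exact ⟨1, h2, (Nat.prime_dvd_prime_iff_eq (hp j i) (hp k 1)).1 (h2 ▸ hk)⟩
  obtain ⟨i', h2, h3⟩ := h1
  obtain ⟨rfl, rfl⟩ := hinj _ _ _ _ h3
  exact h2

theorem T_not_both (hp : ∀ j i, (p j i).Prime) (hinj : ∀ j i j' i', p j i = p j' i' → j = j' ∧ i = i') {n : ℕ} (hn : n ∈ T p)
    {j : Fin s} {i i' : Fin 2} (hi : i ≠ i') : ¬ (p j i ∣ n ∧ p j i' ∣ n) := by
  obtain ⟨c, hc, rfl⟩ := hn
  rintro ⟨h1, h2⟩
  have h3 := dvd_T hp hinj hc h1
  have h4 := dvd_T hp hinj hc h2
  exact hi (hinj _ _ _ _ (h3.symm.trans h4)).2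

theorem T_split (hp : ∀ j i, (p j i).Prime) (hinj : ∀ j i j' i', p j i = p j' i' → j = j' ∧ i = i') {n : ℕ} (hn : n ∈ T p)
    (j : Fin s) (i : Fin 2) : ∃ m, (p j i).Coprime m ∧ n ∣ p j i * m := by
  classical
  obtain ⟨c, hc, rfl⟩ := hn
  by_cases h : c j = p j i
  · refine ⟨∏ k ∈ Finset.univ.erase j, c k, ?_, ?_⟩
    · rw [(hp j i).coprime_iff_not_dvd, (hp j i).prime.dvd_finset_prod_iff]
      rintro ⟨k, hk, hdvd⟩
      have hkj := Finset.ne_of_mem_erase hk
      have h1 : ∃ i', p j i = p k i' := by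
        rcases hc k with h2 | h2 | h2
        · rw [h2] at hdvd
          exact absurd (Nat.dvd_one.1 hdvd) (hp j i).ne_one
        · exact ⟨0, (Nat.prime_dvd_prime_iff_eq (hp j i) (hp k 0)).1 (h2 ▸ hdvd)⟩
        · exact ⟨1, (Nat.prime_dvd_prime_iff_eq (hp j i) (hp k 1)).1 (h2 ▸ hdvd)⟩
      obtain ⟨i', h2⟩ := h1
      exact hkj (hinj _ _ _ _ h2).1.symm
    · rw [← h, Finset.mul_prod_erase _ _ (Finset.mem_univ j)]
  · refine ⟨∏ k, c k, ?_, Dvd.intro_left _ rfl⟩
    rw [(hp j i).coprime_iff_not_dvd]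
    intro h1
    exact h (dvd_T hp hinj hc h1)

theorem mem_T_prime (j : Fin s) (i : Fin 2) : p j i ∈ T p := by
  classical
  refine ⟨fun k => if k = j then p j i else 1, ?_, ?_⟩
  · intro k
    by_cases hk : k = j
    · subst hk
      right
      simp only [if_true]
      fin_cases i
      · left; rfl
      · right; rfl
    · left; simp [hk]
  · rw [Finset.prod_ite_eq']; simp

/-- closure of the `P`-elements -/
def Cl (X : Type) [Group X] (P : ℕ) : Prop := ∀ x y : X, x ^ P = 1 → y ^ P = 1 → (x * y) ^ P = 1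

/-- the base group -/
theorem exists_base (hp : ∀ j i, (p j i).Prime) (hinj : ∀ j i j' i', p j i = p j' i' → j = j' ∧ i = i') (a : Fin s → Fin 2) :
    ∃ (X : Type) (_ : Group X) (_ : Finite X), Set.range (orderOf : X → ℕ) = T p ∧ ∀ j, Cl X (p j (a j)) := by
  classical
  have hne : ∀ j, p j (a j) ≠ p j (1 - a j) := by
    intro j h
    have := (hinj _ _ _ _ h).2
    generalize a j = i at this
    fin_cases i <;> simp at this
  have h := fun j => exists_frob (hp j (a j)) (hp j (1 - a j)) (hne j)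
  choose X hG hF h1 h2 h3 h4 using h
  have h1' : ∀ j (x : X j), orderOf x = 1 ∨ orderOf x = p j 0 ∨ orderOf x = p j 1 := by
    intro j x
    rcases h1 j x with k | k | k
    · exact Or.inl k
    · generalize a j = i at k
      fin_cases i
      · exact Or.inr (Or.inl k)
      · exact Or.inr (Or.inr k)
    · generalize a j = i at k
      fin_cases i
      · exact Or.inr (Or.inr k)
      · exact Or.inr (Or.inl k)
  have h1'' : ∀ j (x : X j), ∀ k (y : X k), j ≠ k → (orderOf x).Coprime (orderOf y) := by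
    intro j x k y hjk
    have hcop : ∀ i i', (p j i).Coprime (p k i') := by
      intro i i'
      rw [Nat.coprime_primes (hp _ _) (hp _ _)]
      exact fun h => hjk (hinj _ _ _ _ h).1
    rcases h1' j x with e | e | e <;> rcases h1' k y with f | f | f <;> rw [e, f]
    · exact Nat.coprime_one_left _
    · exact Nat.coprime_one_left _
    · exact Nat.coprime_one_left _
    · exact Nat.coprime_one_right _
    · exact hcop _ _
    · exact hcop _ _
    · exact Nat.coprime_one_right _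
    · exact hcop _ _
    · exact hcop _ _
  have hord : ∀ x : ∀ j, X j, orderOf x = ∏ j, orderOf (x j) := by
    intro x
    apply Nat.dvd_antisymm
    · apply orderOf_dvd_of_pow_eq_one
      funext j
      rw [Pi.pow_apply, Pi.one_apply]
      obtain ⟨m, hm⟩ := Finset.dvd_prod_of_mem (fun j => orderOf (x j)) (Finset.mem_univ j)
      rw [hm, pow_mul, pow_orderOf_eq_one, one_pow]
    · apply Finset.prod_dvd_of_isRelPrime
      · intro j _ k _ hjk
        exact Nat.coprime_iff_isRelPrime.1 (h1'' j (x j) k (x k) hjk)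
      · intro j _
        exact orderOf_map_dvd (Pi.evalMonoidHom X j) x
  refine ⟨∀ j, X j, inferInstance, inferInstance, ?_, ?_⟩
  · apply Set.eq_of_subset_of_subset
    · rintro _ ⟨x, rfl⟩
      exact ⟨fun j => orderOf (x j), fun j => h1' j (x j), hord x⟩
    · rintro _ ⟨c, hc, rfl⟩
      have : ∀ j, ∃ x : X j, orderOf x = c j := by
        intro j
        have e0 : ∀ i : Fin 2, ∃ x : X j, orderOf x = p j i := by
          intro i
          by_cases hi : i = a j
          · rw [hi]; exact h2 j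
          · have : i = 1 - a j := by
              generalize a j = k at hi
              fin_cases i <;> fin_cases k <;> simp_all
            rw [this]; exact h3 j
        rcases hc j with e | e | e
        · exact ⟨1, by rw [orderOf_one, e]⟩
        · rw [e]; exact e0 0
        · rw [e]; exact e0 1
      choose x hx using this
      exact ⟨x, by rw [hord]; exact Finset.prod_congr rfl (fun j _ => hx j)⟩
  · intro j x y hx hy
    funext k
    rw [Pi.pow_apply, Pi.mul_apply, Pi.one_apply]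
    have hxk : x k ^ p j (a j) = 1 := by rw [← Pi.pow_apply, hx]; rfl
    have hyk : y k ^ p j (a j) = 1 := by rw [← Pi.pow_apply, hy]; rfl
    by_cases hkj : k = j
    · subst hkj
      exact h4 k _ _ hxk hyk
    · have key : ∀ z : X k, z ^ p j (a j) = 1 → z = 1 := by
        intro z hz
        obtain ⟨w, hw⟩ := h2 j
        have h5 := h1'' k z j w hkj
        rw [hw] at h5
        have h6 := orderOf_dvd_of_pow_eq_one hz
        exact orderOf_eq_one_iff.1 (Nat.Coprime.eq_one_of_dvd h5 h6)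
      rw [key _ hxk, key _ hyk, one_mul, one_pow]

/-- sections inherit the closure property -/
theorem Cl_section {X : Type} [Group X] (hp : ∀ j i, (p j i).Prime) (hinj : ∀ j i j' i', p j i = p j' i' → j = j' ∧ i = i')
    (hX : Set.range (orderOf : X → ℕ) = T p) {j : Fin s} {i : Fin 2} (h : Cl X (p j i)) (H : Subgroup X) (N : Subgroup H) [N.Normal] :
    Cl (H ⧸ N) (p j i) := by
  have lift : ∀ x : H ⧸ N, x ^ p j i = 1 → ∃ y : H, (y : H ⧸ N) = x ∧ y ^ p j i = 1 := by
    intro x hx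
    obtain ⟨y, rfl⟩ := QuotientGroup.mk_surjective x
    have hn : orderOf (y : X) ∈ T p := by rw [← hX]; exact ⟨_, rfl⟩
    obtain ⟨m, hm, hdvd⟩ := T_split hp hinj hn j i
    obtain ⟨k, hk1, hk2⟩ := Nat.chineseRemainder hm 1 0
    refine ⟨y ^ k, ?_, ?_⟩
    · rw [QuotientGroup.mk_pow]
      have h1 : ((y : H ⧸ N)) ^ k = ((y : H ⧸ N)) ^ 1 := by
        rw [pow_eq_pow_iff_modEq]
        exact hk1.of_dvd (orderOf_dvd_of_pow_eq_one hx)
      rw [h1, pow_one]
    · rw [← pow_mul]
      have h2 : m ∣ k := (Nat.modEq_zero_iff_dvd).1 hk2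
      apply orderOf_dvd_iff_pow_eq_one.1
      rw [← Subgroup.orderOf_coe]
      refine hdvd.trans ?_
      rw [mul_comm]
      exact Nat.mul_dvd_mul h2 dvd_rfl
  intro x y hx hy
  obtain ⟨x, rfl, hx1⟩ := lift x hx
  obtain ⟨y, rfl, hy1⟩ := lift y hy
  have h1 := h (x : X) (y : X) (by rw [← Subgroup.coe_pow, hx1]; rfl) (by rw [← Subgroup.coe_pow, hy1]; rfl)
  have h2 : (x * y) ^ p j i = 1 := Subtype.ext h1
  rw [← QuotientGroup.mk_mul, ← QuotientGroup.mk_pow, h2]; rfl

/-- a minimal section -/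
theorem exists_min (hp : ∀ j i, (p j i).Prime) (hinj : ∀ j i j' i', p j i = p j' i' → j = j' ∧ i = i') (a : Fin s → Fin 2) :
    ∃ (X : Type) (_ : Group X) (_ : Finite X), Set.range (orderOf : X → ℕ) = T p ∧ (∀ j, Cl X (p j (a j))) ∧
      ∀ (H : Subgroup X) (N : Subgroup H) [N.Normal], (H ≠ ⊤ ∨ N ≠ ⊥) → Set.range (orderOf : (H ⧸ N) → ℕ) ≠ T p := by
  classical
  have hex : ∃ n : ℕ, ∃ (X : Type) (_ : Group X) (_ : Finite X), Nat.card X = n ∧ Set.range (orderOf : X → ℕ) = T p ∧ (∀ j, Cl X (p j (a j))) := by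
    obtain ⟨X, hG, hF, h1, h2⟩ := exists_base hp hinj a
    exact ⟨Nat.card X, X, hG, hF, rfl, h1, h2⟩
  obtain ⟨X, hG, hF, hn, h1, h2⟩ := Nat.find_spec hex
  refine ⟨X, hG, hF, h1, h2, ?_⟩
  intro H N hN hHN hT
  have h3 : Nat.card (H ⧸ N) < Nat.card X := by
    have h4 := Subgroup.card_eq_card_quotient_mul_card_subgroup N
    have h5 := H.card_mul_index
    have h6 : 0 < Nat.card (H ⧸ N) := Nat.card_pos
    have h7 : 0 < Nat.card N := Nat.card_pos
    rcases hHN with h | h
    · have h8 : Nat.card H < Nat.card X := by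
        apply lt_of_le_of_ne (Subgroup.card_le_card_group H)
        intro he
        exact h ((Subgroup.card_eq_iff_eq_top H).1 he)
      have : Nat.card (H ⧸ N) ≤ Nat.card H := by rw [h4]; exact Nat.le_mul_of_pos_right _ h7
      omega
    · have h8 : 1 < Nat.card N := by
        rw [Subgroup.one_lt_card_iff_ne_bot]; exact h
      have h9 : Nat.card H ≤ Nat.card X := Subgroup.card_le_card_group H
      nlinarith
  rw [hn] at h3
  exact Nat.find_min hex h3 ⟨H ⧸ N, inferInstance, inferInstance, rfl, hT, fun j => Cl_section hp hinj h1 (h2 j) H N⟩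

theorem not_both {X : Type} [Group X] (hp : ∀ j i, (p j i).Prime) (hinj : ∀ j i j' i', p j i = p j' i' → j = j' ∧ i = i')
    (hX : Set.range (orderOf : X → ℕ) = T p) {j : Fin s} {i i' : Fin 2} (hi : i ≠ i') (h : Cl X (p j i)) (h' : Cl X (p j i')) : False := by
  obtain ⟨x, hx⟩ : p j i ∈ Set.range (orderOf : X → ℕ) := by rw [hX]; exact mem_T_prime j i
  obtain ⟨y, hy⟩ : p j i' ∈ Set.range (orderOf : X → ℕ) := by rw [hX]; exact mem_T_prime j i'
  have hpq : (p j i).Coprime (p j i') := by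
    rw [Nat.coprime_primes (hp _ _) (hp _ _)]
    exact fun h => hi (hinj _ _ _ _ h).2
  have hx1 : x ^ p j i = 1 := by rw [← hx]; exact pow_orderOf_eq_one x
  have hy1 : y ^ p j i' = 1 := by rw [← hy]; exact pow_orderOf_eq_one y
  have e1 : (x * (y * x⁻¹ * y⁻¹)) ^ p j i = 1 := by
    apply h _ _ hx1
    rw [conj_pow, inv_pow, hx1]; group
  have e2 : ((x * y * x⁻¹) * y⁻¹) ^ p j i' = 1 := by
    apply h' _ _ _ (by rw [inv_pow, hy1, inv_one])
    rw [conj_pow, hy1]; group
  have e3 : x * (y * x⁻¹ * y⁻¹) = (x * y * x⁻¹) * y⁻¹ := by group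
  rw [e3] at e1
  have e4 : (x * y * x⁻¹) * y⁻¹ = 1 :=
    orderOf_eq_one_iff.1 (Nat.eq_one_of_dvd_coprimes hpq (orderOf_dvd_of_pow_eq_one e1) (orderOf_dvd_of_pow_eq_one e2))
  have hc : Commute x y := by
    have := mul_inv_eq_one.1 e4
    calc x * y = (x * y * x⁻¹) * x := by group
      _ = y * x := by rw [this]
  have h5 : orderOf (x * y) = p j i * p j i' := by
    rw [hc.orderOf_mul_eq_mul_orderOf_of_coprime (by rw [hx, hy]; exact hpq), hx, hy]
  have h6 : orderOf (x * y) ∈ T p := by rw [← hX]; exact ⟨_, rfl⟩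
  rw [h5] at h6
  exact T_not_both hp hinj h6 hi ⟨Dvd.intro _ rfl, Dvd.intro_left _ rfl⟩

theorem Cl_equiv {X Y : Type} [Group X] [Group Y] (e : X ≃* Y) {P : ℕ} (h : Cl X P) : Cl Y P := by
  intro x y hx hy
  have h1 := h (e.symm x) (e.symm y) (by rw [← map_pow, hx, map_one]) (by rw [← map_pow, hy, map_one])
  rw [← map_mul, ← map_pow] at h1
  exact (map_eq_one_iff e.symm e.symm.injective).1 h1

end CfsgLib.Crit8
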