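import Mathlib
import Cfsg.Agent.EqBase
import Cfsg.Agent.LibLocR
import Cfsg.Agent.LibGalChar

/-!
# Integers of `p`-power cyclotomic fields: means, divisibility (helper17)
-/

set_option autoImplicit false
set_option linter.unusedSectionVars false
set_option linter.style.haveILetI false
set_option linter.unusedSimpArgs false
set_option linter.unusedVariables false

namespace CfsgLib.Ct

open Cfsg CfsgLib.LocR CfsgLib.GalField CfsgLib.GalChar
open scoped ComplexConjugate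

variable {M : Ideal AlgInt} {p : ℕ} [hpF : Fact p.Prime] {n : ℕ}

instance instNeZeroPow : NeZero (p ^ n) := ⟨pow_ne_zero _ (Fact.out : p.Prime).ne_zero⟩

/-- the integers generated by the `p ^ n`-th roots of unity -/
def Op (p n : ℕ) : Subring ℂ := Subring.closure {ζ : ℂ | ζ ^ (p ^ n) = 1}

theorem root_mem_Op {ζ : ℂ} (h : ζ ^ (p ^ n) = 1) : ζ ∈ Op p n := Subring.subset_closure h

theorem Op_mono {m : ℕ} (h : n ≤ m) : Op p n ≤ Op p m := by
  apply Subring.closure_mono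
  intro ζ hζ
  change ζ ^ (p ^ m) = 1
  obtain ⟨k, rfl⟩ := Nat.exists_eq_add_of_le h
  rw [pow_add, pow_mul, show ζ ^ p ^ n = 1 from hζ, one_pow]

theorem Op_isIntegral {z : ℂ} (hz : z ∈ Op p n) : IsIntegral ℤ z := by
  have h1 : Op p n ≤ (integralClosure ℤ ℂ).toSubring := by
    apply Subring.closure_le.mpr
    intro ζ hζ
    exact isIntegral_of_pow_eq_one (NeZero.pos (p ^ n)) hζ
  exact h1 hz

theorem gal_mem (σ : ℂ ≃+* ℂ) {z : ℂ} (hz : z ∈ Op p n) : σ z ∈ Op p n := by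
  have h1 : Op p n ≤ (Op p n).comap (σ : ℂ →+* ℂ) := by
    apply Subring.closure_le.mpr
    intro ζ hζ
    change σ ζ ∈ Op p n
    apply root_mem_Op
    rw [← map_pow, show ζ ^ p ^ n = 1 from hζ, map_one]
  exact h1 hz

/-- the automorphism raising `p ^ n`-th roots of unity to the power `k` -/
noncomputable def sg (p n : ℕ) [Fact p.Prime] (k : (ZMod (p ^ n))ˣ) : ℂ ≃+* ℂ :=
  Classical.choose (exists_ringEquiv_pow (p ^ n) (k : ZMod (p ^ n)).val (NeZero.pos _)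
    (ZMod.val_coe_unit_coprime k))

theorem sg_root (k : (ZMod (p ^ n))ˣ) {ζ : ℂ} (h : ζ ^ (p ^ n) = 1) :
    sg p n k ζ = ζ ^ (k : ZMod (p ^ n)).val :=
  Classical.choose_spec (exists_ringEquiv_pow (p ^ n) (k : ZMod (p ^ n)).val (NeZero.pos _)
    (ZMod.val_coe_unit_coprime k)) ζ h

theorem pow_mod_eq {ζ : ℂ} (h : ζ ^ (p ^ n) = 1) {a b : ℕ} (hab : a ≡ b [MOD p ^ n]) : ζ ^ a = ζ ^ b := by
  rw [pow_eq_pow_mod a h, pow_eq_pow_mod b h, hab]

theorem eq_of_roots (σ τ : ℂ ≃+* ℂ) (h : ∀ ζ : ℂ, ζ ^ (p ^ n) = 1 → σ ζ = τ ζ) {z : ℂ}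
    (hz : z ∈ Op p n) : σ z = τ z :=
  RingHom.eqOn_set_closure (f := (σ : ℂ →+* ℂ)) (g := (τ : ℂ →+* ℂ)) (fun ζ hζ => h ζ hζ) hz

theorem gal_eq (p n : ℕ) [Fact p.Prime] (σ : ℂ ≃+* ℂ) :
    ∃ k : (ZMod (p ^ n))ˣ, ∀ z ∈ Op p n, σ z = sg p n k z := by
  have hζ : IsPrimitiveRoot (Complex.exp (2 * Real.pi * Complex.I / ((p ^ n : ℕ) : ℂ))) (p ^ n) :=
    Complex.isPrimitiveRoot_exp _ (NeZero.ne _)
  set ζ := Complex.exp (2 * Real.pi * Complex.I / ((p ^ n : ℕ) : ℂ))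
  have hσζ : IsPrimitiveRoot (σ ζ) (p ^ n) := hζ.map_of_injective σ.injective
  obtain ⟨k, hk, hk'⟩ := hζ.isPrimitiveRoot_iff.1 hσζ
  refine ⟨ZMod.unitOfCoprime k hk'.1, fun z hz => eq_of_roots _ _ (fun x hx => ?_) hz⟩
  rw [sg_root _ hx]
  obtain ⟨m, -, hm⟩ := hζ.eq_pow_of_pow_eq_one hx
  have h1 : σ x = x ^ k := by
    rw [← hm, map_pow, ← hk'.2, ← pow_mul, ← pow_mul, mul_comm]
  rw [h1]
  apply pow_mod_eq hx
  rw [ZMod.coe_unitOfCoprime, ZMod.val_natCast]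
  exact (Nat.mod_modEq _ _).symm

theorem sg_mul (j k : (ZMod (p ^ n))ˣ) {z : ℂ} (hz : z ∈ Op p n) :
    sg p n j (sg p n k z) = sg p n (j * k) z := by
  have h1 : ∀ z ∈ Op p n, ((sg p n k).trans (sg p n j)) z = sg p n (j * k) z := by
    intro z hz
    refine eq_of_roots _ _ (fun x hx => ?_) hz
    rw [RingEquiv.trans_apply, sg_root k hx, map_pow, sg_root j hx, sg_root _ hx, ← pow_mul]
    apply pow_mod_eq hx
    rw [Units.val_mul, ZMod.val_mul]
    exact (Nat.mod_modEq _ _).symm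
  exact h1 z hz

theorem sg_one {z : ℂ} (hz : z ∈ Op p n) : sg p n 1 z = z := by
  have h1 : ∀ z ∈ Op p n, sg p n 1 z = RingEquiv.refl ℂ z := by
    intro z hz
    refine eq_of_roots _ _ (fun x hx => ?_) hz
    rw [sg_root _ hx, RingEquiv.refl_apply]
    conv_rhs => rw [← pow_one x]
    apply pow_mod_eq hx
    rw [Units.val_one]
    have := ZMod.val_one_eq_one_mod (p ^ n)
    rw [this]
    exact Nat.mod_modEq _ _
  exact h1 z hz

theorem conj_root {ζ : ℂ} (h : ζ ^ (p ^ n) = 1) : conj ζ = ζ⁻¹ := by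
  have h1 : ‖ζ‖ = 1 := Complex.norm_eq_one_of_pow_eq_one h (NeZero.ne _)
  rw [Complex.inv_def, Complex.normSq_eq_norm_sq, h1]
  simp

theorem conj_mem {z : ℂ} (hz : z ∈ Op p n) : conj z ∈ Op p n := by
  have h1 : Op p n ≤ (Op p n).comap (starRingEnd ℂ) := by
    apply Subring.closure_le.mpr
    intro ζ hζ
    change conj ζ ∈ Op p n
    apply root_mem_Op
    rw [← map_pow, show ζ ^ p ^ n = 1 from hζ, map_one]
  exact h1 hz

theorem sg_conj (σ : ℂ ≃+* ℂ) {z : ℂ} (hz : z ∈ Op p n) : σ (conj z) = conj (σ z) := by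
  have h1 := RingHom.eqOn_set_closure (f := (σ : ℂ →+* ℂ).comp (starRingEnd ℂ))
    (g := (starRingEnd ℂ).comp (σ : ℂ →+* ℂ)) (s := {ζ : ℂ | ζ ^ (p ^ n) = 1}) (fun ζ hζ => by
      change σ (conj ζ) = conj (σ ζ)
      rw [conj_root (p := p) (n := n) hζ, conj_root (p := p) (n := n) (ζ := σ ζ)
        (by rw [← map_pow, show ζ ^ p ^ n = 1 from hζ, map_one]), map_inv₀])
  exact h1 hz

/-- AM–GM -/
theorem card_le (p n : ℕ) [Fact p.Prime] {z : ℂ} (hz : z ∈ Op p n) (h0 : z ≠ 0) :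
    (Fintype.card (ZMod (p ^ n))ˣ : ℝ) ≤ ∑ k : (ZMod (p ^ n))ˣ, ‖sg p n k z‖ ^ 2 := by
  have := card_le_sum_norm_sq (Finset.univ : Finset (ZMod (p ^ n))ˣ) (fun k => sg p n k z)
    (fun k _ => Op_isIntegral (gal_mem _ hz)) (fun k _ => by
      intro h1
      exact h0 ((map_eq_zero_iff _ (sg p n k).injective).mp h1)) (fun σ => by
      obtain ⟨j, hj⟩ := gal_eq p n σ
      rw [map_prod]
      rw [Finset.prod_congr rfl fun k _ => hj _ (gal_mem (sg p n k) hz)]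
      rw [Finset.prod_congr rfl fun k _ => sg_mul j k hz]
      exact Fintype.prod_equiv (Equiv.mulLeft j) _ _ fun k => rfl)
  rwa [Finset.card_univ] at this

/-! ### divisibility by `p` -/

section Div

variable (hM : IsPModular p M)

theorem root_congr [M.IsPrime] (hM : IsPModular p M) {ζ : ℂ} (h : ζ ^ (p ^ n) = 1) :
    MemLocalIdeal M (ζ - 1) := memI_sub_one_of_pow_ppow_eq_one hM h

/-- every element is congruent to an integer modulo `1 - ζ` -/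
theorem exists_res {ζ : ℂ} (hζ : IsPrimitiveRoot ζ (p ^ n)) {z : ℂ} (hz : z ∈ Op p n) :
    ∃ (m : ℤ) (w : ℂ), w ∈ Op p n ∧ z = m + (1 - ζ) * w := by
  have hζO : ζ ∈ Op p n := root_mem_Op hζ.pow_eq_one
  have h1 : ∀ i : ℕ, ∃ w ∈ Op p n, ζ ^ i = 1 + (1 - ζ) * w := by
    intro i
    induction i with
    | zero => exact ⟨0, zero_mem _, by rw [pow_zero, mul_zero, add_zero]⟩
    | succ i ih =>
      obtain ⟨w, hw, hi⟩ := ih
      refine ⟨w * ζ - 1, sub_mem (mul_mem hw hζO) (one_mem _), ?_⟩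
      rw [pow_succ, hi]; ring
  induction hz using Subring.closure_induction with
  | mem x hx =>
    obtain ⟨i, -, rfl⟩ := hζ.eq_pow_of_pow_eq_one hx
    obtain ⟨w, hw, hi⟩ := h1 i
    exact ⟨1, w, hw, by rw [hi]; push_cast; ring⟩
  | zero => exact ⟨0, 0, zero_mem _, by simp⟩
  | one => exact ⟨1, 0, zero_mem _, by simp⟩
  | add x y _ _ hx hy =>
    obtain ⟨m, w, hw, rfl⟩ := hx
    obtain ⟨m', w', hw', rfl⟩ := hy
    exact ⟨m + m', w + w', add_mem hw hw', by push_cast; ring⟩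
  | neg x _ hx =>
    obtain ⟨m, w, hw, rfl⟩ := hx
    exact ⟨-m, -w, neg_mem hw, by push_cast; ring⟩
  | mul x y _ _ hx hy =>
    obtain ⟨m, w, hw, rfl⟩ := hx
    obtain ⟨m', w', hw', rfl⟩ := hy
    refine ⟨m * m', m * w' + m' * w + (1 - ζ) * w * w', ?_, by push_cast; ring⟩
    exact add_mem (add_mem (mul_mem (intCast_mem _ _) hw') (mul_mem (intCast_mem _ _) hw))
      (mul_mem (mul_mem (sub_mem (one_mem _) hζO) hw) hw')

/-- `(1 - μ) / (1 - ζ)` for primitive roots -/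
theorem quot_mem {ζ μ : ℂ} (hζ : IsPrimitiveRoot ζ (p ^ n)) (hμ : μ ^ (p ^ n) = 1) :
    ∃ u ∈ Op p n, 1 - μ = (1 - ζ) * u := by
  have hζO : ζ ∈ Op p n := root_mem_Op hζ.pow_eq_one
  obtain ⟨i, -, rfl⟩ := hζ.eq_pow_of_pow_eq_one hμ
  refine ⟨∑ j ∈ Finset.range i, ζ ^ j, sum_mem fun j _ => pow_mem hζO j, ?_⟩
  have := mul_neg_geom_sum ζ i
  rw [← this]

theorem p_eq {ζ : ℂ} (hn : 0 < n) (hζ : IsPrimitiveRoot ζ (p ^ n)) :
    ∃ (N : ℕ) (u v : ℂ), 0 < N ∧ u ∈ Op p n ∧ v ∈ Op p n ∧ (p : ℂ) = (1 - ζ) ^ N * u ∧ u * v = 1 := by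
  classical
  obtain ⟨m, rfl⟩ : ∃ m, n = m + 1 := ⟨n - 1, by omega⟩
  have h1 : (p : ℂ) = ∏ μ ∈ primitiveRoots (p ^ (m + 1)) ℂ, (1 - μ) := by
    have h2 := Polynomial.eval_one_cyclotomic_prime_pow (R := ℂ) (p := p) m
    rw [Polynomial.cyclotomic_eq_prod_X_sub_primitiveRoots hζ, Polynomial.eval_prod] at h2
    rw [← h2]
    exact Finset.prod_congr rfl fun μ _ => by simp
  have h3 : ∀ μ ∈ primitiveRoots (p ^ (m + 1)) ℂ, ∃ uv : ℂ × ℂ, uv.1 ∈ Op p (m + 1) ∧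
      uv.2 ∈ Op p (m + 1) ∧ 1 - μ = (1 - ζ) * uv.1 ∧ uv.1 * uv.2 = 1 := by
    intro μ hμ
    have hμ' : IsPrimitiveRoot μ (p ^ (m + 1)) := isPrimitiveRoot_of_mem_primitiveRoots hμ
    obtain ⟨u, hu, hu'⟩ := quot_mem hζ hμ'.pow_eq_one
    obtain ⟨v, hv, hv'⟩ := quot_mem hμ' hζ.pow_eq_one
    refine ⟨(u, v), hu, hv, hu', ?_⟩
    have h4 : (1 - ζ : ℂ) ≠ 0 := by
      intro h5
      have h6 : ζ = 1 := (sub_eq_zero.mp h5).symm
      rw [h6] at hζ
      have h7 := hζ.eq_orderOf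
      rw [orderOf_one] at h7
      have h8 : p ∣ 1 := h7 ▸ dvd_pow_self p (by omega)
      exact (Fact.out : p.Prime).not_dvd_one h8
    have h5 : (1 - ζ) * (u * v) = (1 - ζ) * 1 := by
      rw [← mul_assoc, ← hu', ← hv', mul_one]
    exact mul_left_cancel₀ h4 h5
  choose! f hf1 hf2 hf3 hf4 using h3
  refine ⟨(primitiveRoots (p ^ (m + 1)) ℂ).card, ∏ μ ∈ primitiveRoots (p ^ (m + 1)) ℂ, (f μ).1,
    ∏ μ ∈ primitiveRoots (p ^ (m + 1)) ℂ, (f μ).2, ?_, Subring.prod_mem _ hf1,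
    Subring.prod_mem _ hf2, ?_, ?_⟩
  · rw [Complex.card_primitiveRoots]
    exact Nat.totient_pos.mpr (NeZero.pos _)
  · rw [h1, Finset.prod_congr rfl hf3, Finset.prod_mul_distrib, Finset.prod_const]
  · rw [← Finset.prod_mul_distrib, Finset.prod_congr rfl hf4, Finset.prod_const_one]

theorem div_pi {ζ : ℂ} (hM : IsPModular p M) (hn : 0 < n) (hζ : IsPrimitiveRoot ζ (p ^ n)) {z : ℂ}
    (hz : z ∈ Op p n) (hI : MemLocalIdeal M z) : ∃ w ∈ Op p n, z = (1 - ζ) * w := by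
  haveI := LocR.isPrime hM
  have hζO : ζ ∈ Op p n := root_mem_Op hζ.pow_eq_one
  obtain ⟨m, w, hw, rfl⟩ := exists_res hζ hz
  have h1 : MemLocalIdeal M ((1 - ζ) * w) :=
    memI_mul_right (memI_sub_comm.mp (root_congr hM hζ.pow_eq_one)) (memR_of_isIntegral (Op_isIntegral hw))
  have h2 : MemLocalIdeal M (m : ℂ) := by
    have := memI_sub hI h1
    rwa [add_sub_cancel_right] at this
  obtain ⟨k, rfl⟩ := (memI_intCast_iff hM m).mp h2
  obtain ⟨N, u, v, hN, hu, hv, hp, huv⟩ := p_eq hn hζ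
  obtain ⟨N', rfl⟩ : ∃ N', N = N' + 1 := ⟨N - 1, by omega⟩
  refine ⟨(1 - ζ) ^ N' * u * k + w, add_mem (mul_mem (mul_mem (pow_mem (sub_mem (one_mem _) hζO) _) hu)
    (intCast_mem _ _)) hw, ?_⟩
  push_cast
  rw [hp]; ring

theorem pi_ne {ζ : ℂ} (hn : 0 < n) (hζ : IsPrimitiveRoot ζ (p ^ n)) : (1 - ζ : ℂ) ≠ 0 := by
  intro h5
  have h6 : ζ = 1 := (sub_eq_zero.mp h5).symm
  rw [h6] at hζ
  have h7 := hζ.eq_orderOf
  rw [orderOf_one] at h7
  have h8 : p ∣ 1 := h7 ▸ dvd_pow_self p (by omega)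
  exact (Fact.out : p.Prime).not_dvd_one h8

/-- local divisibility by `p` is global -/
theorem div_p (hM : IsPModular p M) (hn : 0 < n) {z : ℂ} (hz : z ∈ Op p n)
    (hR : MemLocalRing M (z / p)) : z / p ∈ Op p n := by
  haveI := LocR.isPrime hM
  have hp0 : (p : ℂ) ≠ 0 := by exact_mod_cast (Fact.out : p.Prime).ne_zero
  obtain ⟨ζ, hζ⟩ : ∃ ζ : ℂ, IsPrimitiveRoot ζ (p ^ n) := ⟨_, Complex.isPrimitiveRoot_exp _ (NeZero.ne _)⟩
  have hζO : ζ ∈ Op p n := root_mem_Op hζ.pow_eq_one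
  have hπ := pi_ne hn hζ
  obtain ⟨N, u, v, hN, hu, hv, hp, huv⟩ := p_eq hn hζ
  have hstep : ∀ j : ℕ, j ≤ N → ∃ w ∈ Op p n, z = (1 - ζ) ^ j * w := by
    intro j
    induction j with
    | zero => intro _; exact ⟨z, hz, by rw [pow_zero, one_mul]⟩
    | succ j ih =>
      intro hj
      obtain ⟨w, hw, hzw⟩ := ih (by omega)
      obtain ⟨i, rfl⟩ : ∃ i, N = j + 1 + i := ⟨N - (j + 1), by omega⟩
      have h1 : w = (1 - ζ) * ((1 - ζ) ^ i * u * (z / p)) := by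
        have h2 : (1 - ζ) ^ j * w = (1 - ζ) ^ j * ((1 - ζ) * ((1 - ζ) ^ i * u * (z / p))) := by
          rw [← hzw]
          have h3 : z = p * (z / p) := by field_simp
          calc z = p * (z / p) := h3
            _ = ((1 - ζ) ^ (j + 1 + i) * u) * (z / p) := by rw [← hp]
            _ = _ := by ring
        exact mul_left_cancel₀ (pow_ne_zero _ hπ) h2
      have hwI : MemLocalIdeal M w := by
        rw [h1]
        apply memI_mul_right (memI_sub_comm.mp (root_congr hM hζ.pow_eq_one))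
        exact memR_mul (memR_mul (memR_of_isIntegral (Op_isIntegral (pow_mem (sub_mem (one_mem _) hζO) _)))
          (memR_of_isIntegral (Op_isIntegral hu))) hR
      obtain ⟨w', hw', hww'⟩ := div_pi hM hn hζ hw hwI
      exact ⟨w', hw', by rw [hzw, hww']; ring⟩
  obtain ⟨w, hw, hzw⟩ := hstep N le_rfl
  have h2 : z / p = v * w := by
    rw [div_eq_iff hp0, hp, hzw]
    linear_combination (-(1 - ζ) ^ N * w) * huv
  rw [h2]
  exact mul_mem hv hw

theorem div_ppow (hM : IsPModular p M) (hn : 0 < n) {z : ℂ} (hz : z ∈ Op p n) {h : ℕ}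
    (hR : MemLocalRing M (z / (p : ℂ) ^ h)) : z / (p : ℂ) ^ h ∈ Op p n := by
  haveI := LocR.isPrime hM
  have hp0 : (p : ℂ) ≠ 0 := by exact_mod_cast (Fact.out : p.Prime).ne_zero
  induction h with
  | zero => rwa [pow_zero, div_one]
  | succ h ih =>
    have h1 : MemLocalRing M (z / (p : ℂ) ^ h) := by
      have h2 : z / (p : ℂ) ^ h = p * (z / (p : ℂ) ^ (h + 1)) := by
        rw [pow_succ]; field_simp
      rw [h2]
      exact memR_mul (memR_natCast p) hR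
    have h3 : z / (p : ℂ) ^ (h + 1) = z / (p : ℂ) ^ h / p := by
      rw [pow_succ]; field_simp
    rw [h3] at hR ⊢
    exact div_p hM hn (ih h1) hR

/-- mean square of an element locally divisible by `p ^ h` -/
theorem card_le_div (hM : IsPModular p M) (hn : 0 < n) {z : ℂ} (hz : z ∈ Op p n) (h0 : z ≠ 0) {h : ℕ}
    (hR : MemLocalRing M (z / (p : ℂ) ^ h)) :
    (Fintype.card (ZMod (p ^ n))ˣ : ℝ) * ((p : ℝ) ^ h) ^ 2 ≤
      ∑ k : (ZMod (p ^ n))ˣ, ‖sg p n k z‖ ^ 2 := by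
  have hp0 : (p : ℂ) ≠ 0 := by exact_mod_cast (Fact.out : p.Prime).ne_zero
  have h1 := div_ppow hM hn hz hR
  have h2 := card_le p n h1 (div_ne_zero h0 (pow_ne_zero _ hp0))
  have h3 : ∀ k : (ZMod (p ^ n))ˣ, ‖sg p n k z‖ ^ 2 =
      ‖sg p n k (z / (p : ℂ) ^ h)‖ ^ 2 * ((p : ℝ) ^ h) ^ 2 := by
    intro k
    rw [map_div₀, map_pow, map_natCast, norm_div, norm_pow, Complex.norm_natCast]
    have : ((p : ℝ) ^ h) ≠ 0 := pow_ne_zero _ (by exact_mod_cast (Fact.out : p.Prime).ne_zero)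
    field_simp
  rw [Finset.sum_congr rfl fun k _ => h3 k, ← Finset.sum_mul]
  exact mul_le_mul_of_nonneg_right h2 (by positivity)

end Div

end CfsgLib.Ct
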