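import Mathlib
import Cfsg.Agent.EqBase
import Cfsg.Agent.LibCt1

/-!
# Integers of `2`-power cyclotomic fields: the normalised trace of real elements (helper17)
-/

set_option autoImplicit false
set_option linter.unusedSectionVars false
set_option linter.style.haveILetI false
set_option linter.unusedSimpArgs false
set_option linter.unusedVariables false

namespace CfsgLib.Ct

open Cfsg CfsgLib.LocR CfsgLib.GalField CfsgLib.GalChar
open scoped ComplexConjugate

variable {M : Ideal AlgInt}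

instance instFactTwo : Fact (Nat.Prime 2) := ⟨Nat.prime_two⟩

/-- the trace of a root of unity of order at least four is zero -/
theorem tr_root {n : ℕ} {x : ℂ} (hx : x ^ (2 ^ n) = 1) (h2 : x ^ 2 ≠ 1) :
    ∑ k : (ZMod (2 ^ n))ˣ, sg 2 n k x = 0 := by
  obtain ⟨j, hj, hjo⟩ := (Nat.dvd_prime_pow Nat.prime_two).mp (orderOf_dvd_of_pow_eq_one hx)
  have hj2 : 2 ≤ j := by
    by_contra h
    apply h2
    apply orderOf_dvd_iff_pow_eq_one.mp
    rw [hjo]
    interval_cases j
    · exact one_dvd _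
    · rfl
  obtain ⟨i, rfl⟩ : ∃ i, j = i + 1 := ⟨j - 1, by omega⟩
  have h3 : x ^ (2 ^ i) = -1 := by
    have h4 : (x ^ (2 ^ i)) ^ 2 = 1 := by
      rw [← pow_mul, ← pow_succ, ← hjo, pow_orderOf_eq_one]
    rcases mul_self_eq_one_iff.mp ((sq _).symm.trans h4) with h5 | h5
    · exfalso
      have h6 := orderOf_dvd_of_pow_eq_one h5
      rw [hjo] at h6
      have h7 := (Nat.pow_dvd_pow_iff_le_right (by norm_num : 1 < 2)).mp h6
      omega
    · exact h5
  have hcop : Nat.Coprime (1 + 2 ^ i) (2 ^ n) := by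
    apply Nat.Coprime.pow_right
    rw [Nat.coprime_two_right]
    have : Even (2 ^ i) := (Nat.even_pow.mpr ⟨even_two, by omega⟩)
    exact this.one_add
  set u := ZMod.unitOfCoprime (1 + 2 ^ i) hcop with hu
  have hxO : x ∈ Op 2 n := root_mem_Op hx
  have h5 : sg 2 n u x = -x := by
    rw [sg_root u hx]
    have h6 : x ^ ((u : ZMod (2 ^ n)).val) = x ^ (1 + 2 ^ i) := by
      apply pow_mod_eq (p := 2) (n := n) hx
      rw [hu, ZMod.coe_unitOfCoprime, ZMod.val_natCast]
      exact Nat.mod_modEq _ _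
    rw [h6, pow_add, h3, pow_one]; ring
  have h6 : ∑ k : (ZMod (2 ^ n))ˣ, sg 2 n k x = ∑ k : (ZMod (2 ^ n))ˣ, sg 2 n k (sg 2 n u x) := by
    rw [Finset.sum_congr rfl fun k _ => sg_mul k u hxO]
    exact (Fintype.sum_equiv (Equiv.mulRight u) _ _ fun k => rfl).symm
  rw [h5] at h6
  have h7 : ∑ k : (ZMod (2 ^ n))ˣ, sg 2 n k (-x) = -∑ k : (ZMod (2 ^ n))ˣ, sg 2 n k x := by
    rw [← Finset.sum_neg_distrib]
    exact Finset.sum_congr rfl fun k _ => map_neg _ _
  rw [h7] at h6
  have h8 : (2 : ℂ) * ∑ k : (ZMod (2 ^ n))ˣ, sg 2 n k x = 0 := by linear_combination h6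
  rcases mul_eq_zero.mp h8 with h9 | h9
  · norm_num at h9
  · exact h9

open Polynomial in
theorem tr_real (hM : IsPModular 2 M) {m : ℕ} {z : ℂ} (hz : z ∈ Op 2 (m + 1)) (hr : conj z = z) :
    ∃ t : ℤ, ∑ k : (ZMod (2 ^ (m + 1)))ˣ, sg 2 (m + 1) k z =
      (Fintype.card (ZMod (2 ^ (m + 1)))ˣ : ℂ) * t ∧ MemLocalIdeal M (z - t) := by
  classical
  haveI := LocR.isPrime hM
  obtain ⟨ζ, hζ⟩ : ∃ ζ : ℂ, IsPrimitiveRoot ζ (2 ^ (m + 1)) :=
    ⟨_, Complex.isPrimitiveRoot_exp (2 ^ (m + 1)) (by positivity)⟩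
  have hζO : ζ ∈ Op 2 (m + 1) := root_mem_Op hζ.pow_eq_one
  set N := 2 ^ m with hN
  have hN0 : 0 < N := by positivity
  have hζN : ζ ^ N = -1 := by
    have h4 : (ζ ^ N) ^ 2 = 1 := by rw [← pow_mul, hN, ← pow_succ, hζ.pow_eq_one]
    rcases mul_self_eq_one_iff.mp ((sq _).symm.trans h4) with h5 | h5
    · exfalso
      have h6 := hζ.dvd_of_pow_eq_one N h5
      have h7 := (Nat.pow_dvd_pow_iff_le_right (by norm_num : 1 < 2)).mp h6
      omega
    · exact h5
  have hζ0 : ζ ≠ 0 := hζ.ne_zero (by positivity)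
  -- polynomial expression
  have h1 : ∃ P : ℤ[X], aeval ζ P = z := by
    clear hr
    induction hz using Subring.closure_induction with
    | mem x hx =>
      obtain ⟨i, -, rfl⟩ := hζ.eq_pow_of_pow_eq_one hx
      exact ⟨X ^ i, by simp⟩
    | zero => exact ⟨0, by simp⟩
    | one => exact ⟨1, by simp⟩
    | add x y _ _ hx hy =>
      obtain ⟨P, rfl⟩ := hx
      obtain ⟨Q, rfl⟩ := hy
      exact ⟨P + Q, by simp⟩
    | neg x _ hx =>
      obtain ⟨P, rfl⟩ := hx
      exact ⟨-P, by simp⟩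
    | mul x y _ _ hx hy =>
      obtain ⟨P, rfl⟩ := hx
      obtain ⟨Q, rfl⟩ := hy
      exact ⟨P * Q, by simp⟩
  obtain ⟨P, hP⟩ := h1
  have hmon : (X ^ N + C 1 : ℤ[X]).Monic := monic_X_pow_add_C 1 hN0.ne'
  set R := P %ₘ (X ^ N + C 1) with hR
  have hR1 : aeval ζ R = z := by
    have h2 : aeval ζ (X ^ N + C 1 : ℤ[X]) = 0 := by simp [hζN]
    rw [hR, aeval_modByMonic_eq_self_of_root h2, hP]
  have hRd : R.natDegree < N := by
    have h2 : R.degree < (X ^ N + C 1 : ℤ[X]).degree := degree_modByMonic_lt _ hmon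
    rw [degree_X_pow_add_C hN0] at h2
    by_cases hR0 : R = 0
    · rw [hR0, natDegree_zero]; exact hN0
    · exact (natDegree_lt_iff_degree_lt hR0).mpr h2
  set c : ℕ → ℤ := fun i => R.coeff i with hc
  have hsum : z = ∑ i ∈ Finset.range N, (c i : ℂ) * ζ ^ i := by
    rw [← hR1, aeval_eq_sum_range' hRd]
    exact Finset.sum_congr rfl fun i _ => by rw [zsmul_eq_mul]
  obtain ⟨N', hN'⟩ : ∃ N', N = N' + 1 := ⟨N - 1, by omega⟩
  have hsum2 : z = c 0 + ∑ i ∈ Finset.range N', (c (i + 1) : ℂ) * ζ ^ (i + 1) := by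
    rw [hsum, hN', Finset.sum_range_succ']
    rw [pow_zero, mul_one, add_comm]
  -- reality
  have hinv : ∀ i < N', conj (ζ ^ (i + 1)) = -ζ ^ (N' - 1 - i + 1) := by
    intro i hi
    have h2 : (ζ ^ (i + 1)) ^ (2 ^ (m + 1)) = 1 := by
      rw [← pow_mul, mul_comm, pow_mul, hζ.pow_eq_one, one_pow]
    rw [conj_root (p := 2) (n := m + 1) h2, inv_eq_iff_eq_inv]
    have h3 : ζ ^ (i + 1) * ζ ^ (N' - 1 - i + 1) = -1 := by
      rw [← pow_add]
      have : i + 1 + (N' - 1 - i + 1) = N := by omega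
      rw [this, hζN]
    have h4 : ζ ^ (N' - 1 - i + 1) ≠ 0 := pow_ne_zero _ hζ0
    rw [inv_neg, eq_comm, neg_eq_iff_eq_neg, inv_eq_iff_eq_inv]
    rw [eq_comm, inv_eq_iff_eq_inv, eq_comm, inv_eq_of_mul_eq_one_left]
    linear_combination -h3
  have hreal : ∑ i ∈ Finset.range N', ((c (i + 1) + c (N' - 1 - i + 1) : ℤ) : ℂ) * ζ ^ (i + 1) = 0 := by
    have h2 : conj z = c 0 - ∑ i ∈ Finset.range N', (c (N' - 1 - i + 1) : ℂ) * ζ ^ (i + 1) := by
      conv_lhs => rw [hsum2]
      rw [map_add, map_sum, sub_eq_add_neg, ← Finset.sum_neg_distrib]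
      congr 1
      · exact map_intCast _ _
      · rw [← Finset.sum_range_reflect]
        refine Finset.sum_congr rfl fun i hi => ?_
        have hi' := Finset.mem_range.mp hi
        rw [map_mul, map_intCast, hinv (N' - 1 - i) (by omega)]
        have : N' - 1 - (N' - 1 - i) = i := by omega
        rw [this]; ring
    rw [hr] at h2
    have h3 := hsum2.symm.trans h2
    have h4 : ∑ i ∈ Finset.range N', ((c (i + 1) + c (N' - 1 - i + 1) : ℤ) : ℂ) * ζ ^ (i + 1) =
        ∑ i ∈ Finset.range N', (c (i + 1) : ℂ) * ζ ^ (i + 1) +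
        ∑ i ∈ Finset.range N', (c (N' - 1 - i + 1) : ℂ) * ζ ^ (i + 1) := by
      rw [← Finset.sum_add_distrib]
      exact Finset.sum_congr rfl fun i _ => by push_cast; ring
    rw [h4]
    linear_combination h3
  have hzero : ∀ i < N', c (i + 1) + c (N' - 1 - i + 1) = 0 := by
    set D : ℤ[X] := ∑ i ∈ Finset.range N', C (c (i + 1) + c (N' - 1 - i + 1)) * X ^ (i + 1) with hD
    have hD1 : aeval ζ D = 0 := by
      rw [hD, map_sum, ← hreal]
      exact Finset.sum_congr rfl fun i _ => by simp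
    have hD2 : D = 0 := by
      by_contra hD0
      have h3 : cyclotomic (2 ^ (m + 1)) ℤ ∣ D := by
        rw [cyclotomic_eq_minpoly hζ (NeZero.pos _)]
        exact minpoly.isIntegrallyClosed_dvd (hζ.isIntegral (NeZero.pos _)) hD1
      have h4 := natDegree_le_of_dvd h3 hD0
      rw [natDegree_cyclotomic, Nat.totient_prime_pow Nat.prime_two (by omega)] at h4
      have h5 : D.natDegree ≤ N' := by
        rw [hD]
        apply natDegree_sum_le_of_forall_le
        intro i hi
        have hi' := Finset.mem_range.mp hi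
        refine (natDegree_C_mul_X_pow_le _ _).trans (by omega)
      have h6 : 2 ^ (m + 1 - 1) * (2 - 1) = N := by rw [hN]; simp
      omega
    intro i hi
    have h3 : D.coeff (i + 1) = c (i + 1) + c (N' - 1 - i + 1) := by
      rw [hD, finsetSum_coeff, Finset.sum_eq_single i]
      · rw [coeff_C_mul, coeff_X_pow_self, mul_one]
      · intro j _ hj
        rw [coeff_C_mul, coeff_X_pow, if_neg (by omega), mul_zero]
      · intro h; exact absurd (Finset.mem_range.mpr hi) h
    rw [← h3, hD2, coeff_zero]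
  have hs0 : ∑ i ∈ Finset.range N', c (i + 1) = 0 := by
    have h3 : ∑ i ∈ Finset.range N', (c (i + 1) + c (N' - 1 - i + 1)) = 0 :=
      Finset.sum_eq_zero fun i hi => hzero i (Finset.mem_range.mp hi)
    rw [Finset.sum_add_distrib, Finset.sum_range_reflect (fun i => c (i + 1))] at h3
    omega
  refine ⟨c 0, ?_, ?_⟩
  · have h3 : ∀ k : (ZMod (2 ^ (m + 1)))ˣ, sg 2 (m + 1) k z =
        c 0 + ∑ i ∈ Finset.range N', (c (i + 1) : ℂ) * sg 2 (m + 1) k (ζ ^ (i + 1)) := by
      intro k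
      conv_lhs => rw [hsum2]
      rw [map_add, map_intCast, map_sum]
      congr 1
      exact Finset.sum_congr rfl fun i _ => by rw [map_mul, map_intCast]
    rw [Finset.sum_congr rfl fun k _ => h3 k, Finset.sum_add_distrib, Finset.sum_const,
      Finset.sum_comm]
    rw [Finset.sum_eq_zero (s := Finset.range N'), add_zero, Finset.card_univ, nsmul_eq_mul]
    intro i hi
    have hi' := Finset.mem_range.mp hi
    rw [← Finset.mul_sum, tr_root, mul_zero]
    · rw [← pow_mul, mul_comm, pow_mul, hζ.pow_eq_one, one_pow]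
    · intro h4
      rw [← pow_mul] at h4
      have h5 := hζ.dvd_of_pow_eq_one _ h4
      have h6 := Nat.le_of_dvd (by omega) h5
      have h7 : 2 ^ (m + 1) = 2 * N := by rw [hN, pow_succ]; ring
      omega
  · have h3 : z - (c 0 : ℂ) = ∑ i ∈ Finset.range N', (c (i + 1) : ℂ) * (ζ ^ (i + 1) - 1) := by
      have h4 : ∑ i ∈ Finset.range N', (c (i + 1) : ℂ) = 0 := by
        have := congrArg (fun x : ℤ => (x : ℂ)) hs0
        push_cast at this
        exact this
      conv_lhs => rw [hsum2]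
      rw [Finset.sum_congr rfl fun i _ => mul_sub (c (i + 1) : ℂ) (ζ ^ (i + 1)) 1,
        Finset.sum_sub_distrib]
      simp only [mul_one]
      rw [h4]; ring
    rw [h3]
    refine memI_sum fun i _ => memI_mul_left (memR_intCast _) (root_congr (n := m + 1) hM ?_)
    rw [← pow_mul, mul_comm, pow_mul, hζ.pow_eq_one, one_pow]

end CfsgLib.Ct
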