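import Mathlib
import Cfsg.Agent.EqBase
import Cfsg.Agent.LibCt2
import Cfsg.Agent.LibBlockSec
import Cfsg.Agent.LibBlockSec3
import Cfsg.Agent.LibBlockNil

/-!
# Contributions of subsections (helper17)
-/

set_option autoImplicit false
set_option linter.unusedSectionVars false
set_option linter.style.haveILetI false
set_option linter.unusedSimpArgs false
set_option linter.unusedVariables false

namespace CfsgLib.Ct

open CfsgLib.CharInt hiding irr_isCharacter irr_classFun irr_one_ne_zero schur_scalar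
open Cfsg CfsgLib.CharInt2 CfsgLib.CharBasic CfsgLib.BlockR CfsgLib.BlockCore
  CfsgLib.BlockIdem CfsgLib.BlockIdeal CfsgLib.BlockConj CfsgLib.BlockBrauer CfsgLib.BlockInd
  CfsgLib.BlockFMT CfsgLib.BlockFMT2 CfsgLib.PLocalInd CfsgLib.BlockOrth CfsgLib.BlockDefect
  CfsgLib.BlockReg CfsgLib.BlockReg2 CfsgLib.BlockCount CfsgLib.BlockCount2 CfsgLib.BlockQP
  CfsgLib.BlockCov3 CfsgLib.BlockCov4 CfsgLib.BlockLoc CfsgLib.BlockM CfsgLib.BlockH
  CfsgLib.BlockH2 CfsgLib.CharNorm CfsgLib.BlockSec CfsgLib.BlockSec3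
open scoped ComplexConjugate Pointwise

universe u

variable {M : Ideal AlgInt} {p : ℕ} [hpF : Fact p.Prime] {G : Type u} [Group G] [Fintype G]

/-! ### projections onto blocks -/

theorem prj_adj {A : Set (IrrCharacter G)} {f h : G → ℂ} (hf : IsClassFunction G f)
    (hh : IsClassFunction G h) : classInner (prj A f) h = classInner f (prj A h) := by
  rw [parseval (prj_classFun A f) hh, parseval hf (prj_classFun A h)]
  refine Finset.sum_congr rfl fun χ _ => ?_
  rw [inner_prj, inner_prj, map_mul]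
  by_cases hχ : χ ∈ A
  · rw [ind_of hχ]; simp
  · rw [ind_not hχ]; simp

theorem prj_prj (A : Set (IrrCharacter G)) (f : G → ℂ) : prj A (prj A f) = prj A f := by
  apply classFun_ext (prj_classFun _ _) (prj_classFun _ _)
  intro χ hχ
  rw [inner_prj A (prj A f) ⟨χ, hχ⟩, inner_prj A f ⟨χ, hχ⟩, ← mul_assoc]
  congr 1
  by_cases h : (⟨χ, hχ⟩ : IrrCharacter G) ∈ A
  · rw [ind_of h, one_mul]
  · rw [ind_not h, zero_mul]

/-- inner product with the regular part of an irreducible character sees only a union of blocks -/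
theorem inner_reg_union (hM : IsPModular p M) {U : Set (IrrCharacter G)}
    (hU : ∀ χ ∈ U, ∀ ψ : IrrCharacter G, SameBlock M (χ : G → ℂ) (ψ : G → ℂ) → ψ ∈ U)
    {ϑ : G → ℂ} (hϑ : IsClassFunction G ϑ) {ψ : IrrCharacter G} (hψ : ψ ∈ U) :
    classInner (reg p ϑ) (ψ : G → ℂ) = classInner (reg p (blockPart U ϑ)) (ψ : G → ℂ) := by
  classical
  have hp := isPrime_of_modular hM
  rw [inner_reg_adj, inner_reg_adj]
  have h1 : ϑ = ∑ χ : IrrCharacter G, classInner ϑ (χ : G → ℂ) • (χ : G → ℂ) := classFun_expand hϑ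
  have h2 : blockPart U ϑ =
      ∑ χ : IrrCharacter G, (ind U χ * classInner ϑ (χ : G → ℂ)) • (χ : G → ℂ) := by
    funext u
    rw [blockPart_expand, Finset.sum_apply]
    apply Finset.sum_congr rfl
    intro χ _
    rw [Pi.smul_apply, smul_eq_mul, mul_assoc]
  rw [h2]
  conv_lhs => rw [h1]
  rw [inner_sum_left, inner_sum_left]
  apply Finset.sum_congr rfl
  intro χ _
  rw [CharBasic.inner_smul_left, CharBasic.inner_smul_left]
  by_cases hχ : χ ∈ U
  · rw [ind_of hχ, one_mul]
  · have h3 : classInner (χ : G → ℂ) (reg p (ψ : G → ℂ)) = 0 := by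
      rw [← inner_reg_adj]
      apply inner_reg_zero hM
      intro h
      exact hχ (hU ψ hψ χ (sameBlock_symm h))
    rw [h3, mul_zero, mul_zero]

theorem classInner_self_nonneg (f : G → ℂ) : ∃ r : ℝ, 0 ≤ r ∧ classInner f f = (r : ℂ) := by
  refine ⟨(Nat.card G : ℝ)⁻¹ * ∑ x : G, Complex.normSq (f x), ?_, ?_⟩
  · exact mul_nonneg (inv_nonneg.mpr (Nat.cast_nonneg _)) (Finset.sum_nonneg fun _ _ => Complex.normSq_nonneg _)
  · unfold classInner
    push_cast
    congr 1
    exact Finset.sum_congr rfl fun x _ => Complex.mul_conj _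

/-! ### translation by a central `p`-element -/

section Tr

variable {x : G}

/-- `c ↦ f (x c)` on the centralizer -/
def th (x : G) (f : G → ℂ) : Subgroup.centralizer ({x} : Set G) → ℂ := fun c => f (x * (c : G))

theorem th_classFun {f : G → ℂ} (hf : IsClassFunction G f) : IsClassFunction _ (th x f) :=
  translate_classFun hf

variable [hFC : Fintype (Subgroup.centralizer ({x} : Set G))]

theorem lift_apply (a : Subgroup.centralizer ({x} : Set G) → ℂ) (g : G) :
    ∑ ψ : IrrCharacter G, classInner a (th x (ψ : G → ℂ)) * (ψ : G → ℂ) g =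
      (Nat.card (Subgroup.centralizer ({x} : Set G)) : ℂ)⁻¹ *
      ∑ y : Subgroup.centralizer ({x} : Set G), a y *
        ∑ ψ : IrrCharacter G, (ψ : G → ℂ) g * conj ((ψ : G → ℂ) (x * (y : G))) := by
  unfold classInner th
  rw [Finset.mul_sum]
  have h1 : ∀ ψ : IrrCharacter G, (Nat.card (Subgroup.centralizer ({x} : Set G)) : ℂ)⁻¹ *
      (∑ y : Subgroup.centralizer ({x} : Set G), a y * conj ((ψ : G → ℂ) (x * (y : G)))) *
        (ψ : G → ℂ) g = ∑ y : Subgroup.centralizer ({x} : Set G),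
      (Nat.card (Subgroup.centralizer ({x} : Set G)) : ℂ)⁻¹ *
        (a y * ((ψ : G → ℂ) g * conj ((ψ : G → ℂ) (x * (y : G))))) := by
    intro ψ
    rw [mul_assoc, Finset.sum_mul, Finset.mul_sum]
    exact Finset.sum_congr rfl fun y _ => by ring
  rw [Finset.sum_congr rfl fun ψ _ => h1 ψ, Finset.sum_comm]
  refine Finset.sum_congr rfl fun y _ => ?_
  rw [Finset.mul_sum, Finset.mul_sum]

theorem lift_reg (hx : ∃ k : ℕ, orderOf x = p ^ k) {a : Subgroup.centralizer ({x} : Set G) → ℂ}
    (ha : IsClassFunction _ a) (hs : ∀ c, p ∣ orderOf c → a c = 0)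
    {c : Subgroup.centralizer ({x} : Set G)} (hc : ¬ p ∣ orderOf c) :
    ∑ ψ : IrrCharacter G, classInner a (th x (ψ : G → ℂ)) * (ψ : G → ℂ) (x * (c : G)) = a c := by
  classical
  rw [lift_apply]
  have h1 : ∀ y : Subgroup.centralizer ({x} : Set G), a y *
      ∑ ψ : IrrCharacter G, (ψ : G → ℂ) (x * (c : G)) * conj ((ψ : G → ℂ) (x * (y : G))) =
      a y * ∑ μ : IrrCharacter (Subgroup.centralizer ({x} : Set G)),
        (μ : Subgroup.centralizer ({x} : Set G) → ℂ) c *
          conj ((μ : Subgroup.centralizer ({x} : Set G) → ℂ) y) := by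
    intro y
    by_cases hy : p ∣ orderOf y
    · rw [hs y hy, zero_mul, zero_mul]
    · rw [column_orthogonality, column_orthogonality, centralizer_mul_card x hx hc]
      by_cases h : IsConj c y
      · rw [if_pos h, if_pos ((isConj_mul_iff x hx hc hy).mpr h)]
      · rw [if_neg h, if_neg (fun h' => h ((isConj_mul_iff x hx hc hy).mp h'))]
  rw [Finset.sum_congr rfl fun y _ => h1 y]
  have h2 := classFun_expand_apply ha c
  rw [h2]
  unfold classInner
  have h3 : ∀ μ : IrrCharacter (Subgroup.centralizer ({x} : Set G)),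
      (Nat.card (Subgroup.centralizer ({x} : Set G)) : ℂ)⁻¹ *
      (∑ y : Subgroup.centralizer ({x} : Set G), a y *
        conj ((μ : Subgroup.centralizer ({x} : Set G) → ℂ) y)) *
        (μ : Subgroup.centralizer ({x} : Set G) → ℂ) c =
      ∑ y : Subgroup.centralizer ({x} : Set G),
      (Nat.card (Subgroup.centralizer ({x} : Set G)) : ℂ)⁻¹ *
        (a y * ((μ : Subgroup.centralizer ({x} : Set G) → ℂ) c *
          conj ((μ : Subgroup.centralizer ({x} : Set G) → ℂ) y))) := by
    intro μ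
    rw [mul_assoc, Finset.sum_mul, Finset.mul_sum]
    exact Finset.sum_congr rfl fun y _ => by ring
  rw [Finset.sum_congr rfl fun μ _ => h3 μ, Finset.sum_comm, Finset.mul_sum]
  refine Finset.sum_congr rfl fun y _ => ?_
  rw [Finset.mul_sum, Finset.mul_sum]

/-- values of lifted functions -/
theorem lift_val (hx : ∃ k : ℕ, orderOf x = p ^ k) {a : Subgroup.centralizer ({x} : Set G) → ℂ}
    (ha : IsClassFunction _ a) (hs : ∀ c, p ∣ orderOf c → a c = 0) (g : G) :
    (∑ ψ : IrrCharacter G, classInner a (th x (ψ : G → ℂ)) * (ψ : G → ℂ) g = 0) ∨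
    ∃ c : Subgroup.centralizer ({x} : Set G), ¬ p ∣ orderOf c ∧
      ∑ ψ : IrrCharacter G, classInner a (th x (ψ : G → ℂ)) * (ψ : G → ℂ) g = a c := by
  classical
  by_cases h : ∃ c : Subgroup.centralizer ({x} : Set G), ¬ p ∣ orderOf c ∧ IsConj (x * (c : G)) g
  · right
    obtain ⟨c, hc, hcg⟩ := h
    refine ⟨c, hc, ?_⟩
    rw [← lift_reg hx ha hs hc]
    refine Finset.sum_congr rfl fun ψ _ => ?_
    rw [classFun_isConj (CharBasic.irr_classFun ψ.2) hcg]
  · left
    push Not at h
    rw [lift_apply]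
    rw [Finset.sum_eq_zero, mul_zero]
    intro y _
    by_cases hy : p ∣ orderOf y
    · rw [hs y hy, zero_mul]
    · rw [column_orthogonality, if_neg (fun h' => h y hy h'.symm), mul_zero]

theorem lift_inner (hx : ∃ k : ℕ, orderOf x = p ^ k) {a a' : Subgroup.centralizer ({x} : Set G) → ℂ}
    (ha : IsClassFunction _ a) (hs : ∀ c, p ∣ orderOf c → a c = 0)
    (hs' : ∀ c, p ∣ orderOf c → a' c = 0) :
    ∑ ψ : IrrCharacter G, classInner a (th x (ψ : G → ℂ)) * conj (classInner a' (th x (ψ : G → ℂ))) =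
      classInner a a' := by
  classical
  have h1 : ∀ ψ : IrrCharacter G, classInner a (th x (ψ : G → ℂ)) *
      conj (classInner a' (th x (ψ : G → ℂ))) =
      ∑ c : Subgroup.centralizer ({x} : Set G),
      (Nat.card (Subgroup.centralizer ({x} : Set G)) : ℂ)⁻¹ *
        (classInner a (th x (ψ : G → ℂ)) * (ψ : G → ℂ) (x * (c : G)) * conj (a' c)) := by
    intro ψ
    have h2 : conj (classInner a' (th x (ψ : G → ℂ))) =
        (Nat.card (Subgroup.centralizer ({x} : Set G)) : ℂ)⁻¹ *
        ∑ c : Subgroup.centralizer ({x} : Set G), conj (a' c) * (ψ : G → ℂ) (x * (c : G)) := by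
      unfold classInner th
      rw [map_mul, map_inv₀, Complex.conj_natCast, map_sum]
      congr 1
      exact Finset.sum_congr rfl fun c _ => by rw [map_mul, Complex.conj_conj]
    rw [h2, Finset.mul_sum, Finset.mul_sum]
    exact Finset.sum_congr rfl fun y _ => by ring
  rw [Finset.sum_congr rfl fun ψ _ => h1 ψ, Finset.sum_comm]
  have h3 : classInner a a' = (Nat.card (Subgroup.centralizer ({x} : Set G)) : ℂ)⁻¹ *
      ∑ c : Subgroup.centralizer ({x} : Set G), a c * conj (a' c) := rfl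
  rw [h3, Finset.mul_sum]
  refine Finset.sum_congr rfl fun c _ => ?_
  rw [← Finset.mul_sum, ← Finset.sum_mul]
  by_cases hc : p ∣ orderOf c
  · rw [hs' c hc]; simp
  · rw [lift_reg hx ha hs hc]

/-- the `b`-part of the regular part of the translate -/
noncomputable def Af (p : ℕ) (x : G) [Fintype (Subgroup.centralizer ({x} : Set G))]
    (b : Set (IrrCharacter (Subgroup.centralizer ({x} : Set G)))) (f : G → ℂ) :
    Subgroup.centralizer ({x} : Set G) → ℂ := prj b (reg p (th x f))

/-- the contributions (not normalised) -/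
noncomputable def Pc (p : ℕ) (x : G) [Fintype (Subgroup.centralizer ({x} : Set G))]
    (b : Set (IrrCharacter (Subgroup.centralizer ({x} : Set G)))) (χ ψ : IrrCharacter G) : ℂ :=
  classInner (Af p x b (χ : G → ℂ)) (Af p x b (ψ : G → ℂ))

variable {b : Set (IrrCharacter (Subgroup.centralizer ({x} : Set G)))}

theorem Af_classFun (f : G → ℂ) : IsClassFunction _ (Af p x b f) := prj_classFun _ _

theorem Af_sing (hM : IsPModular p M) (hb : IsPBlock M b) (f : G → ℂ)
    {c : Subgroup.centralizer ({x} : Set G)} (hc : p ∣ orderOf c) : Af p x b f c = 0 :=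
  prj_reg_singular hM hb _ hc

theorem Pc_eq (hM : IsPModular p M) (hb : IsPBlock M b) (χ ψ : IrrCharacter G) :
    Pc p x b χ ψ = classInner (Af p x b (χ : G → ℂ)) (th x (ψ : G → ℂ)) := by
  unfold Pc
  have hψc : IsClassFunction _ (reg p (th x (ψ : G → ℂ))) :=
    reg_classFun (th_classFun (CharBasic.irr_classFun ψ.2))
  conv_lhs => rw [show Af p x b (ψ : G → ℂ) = prj b (reg p (th x (ψ : G → ℂ))) from rfl]
  rw [← prj_adj (Af_classFun _) hψc]
  have h1 : prj b (Af p x b (χ : G → ℂ)) = Af p x b (χ : G → ℂ) := prj_prj _ _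
  rw [h1, ← inner_reg_adj]
  have h2 : reg p (Af p x b (χ : G → ℂ)) = Af p x b (χ : G → ℂ) := reg_prj_reg hM hb _
  rw [h2]

theorem Pc_conj (χ ψ : IrrCharacter G) : conj (Pc p x b χ ψ) = Pc p x b ψ χ :=
  CharBasic.inner_conj_symm _ _

theorem Pc_self (χ : IrrCharacter G) : ∃ r : ℝ, 0 ≤ r ∧ Pc p x b χ χ = (r : ℂ) :=
  classInner_self_nonneg _

theorem Pc_mul (hM : IsPModular p M) (hx : ∃ k : ℕ, orderOf x = p ^ k) (hb : IsPBlock M b)
    (χ χ' : IrrCharacter G) :
    ∑ ψ : IrrCharacter G, Pc p x b χ ψ * conj (Pc p x b χ' ψ) = Pc p x b χ χ' := by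
  rw [Finset.sum_congr rfl fun ψ _ => by rw [Pc_eq hM hb χ ψ, Pc_eq hM hb χ' ψ]]
  exact lift_inner hx (Af_classFun _) (fun c hc => Af_sing hM hb _ hc) (fun c hc => Af_sing hM hb _ hc)

theorem Pc_trace (hM : IsPModular p M) (hx : ∃ k : ℕ, orderOf x = p ^ k) (hb : IsPBlock M b) :
    ∑ ψ : IrrCharacter G, Pc p x b ψ ψ = (blockRank p b : ℂ) := by
  classical
  have hinner : ∀ (ψ : IrrCharacter G) (μ : IrrCharacter (Subgroup.centralizer ({x} : Set G))),
      classInner (Af p x b (ψ : G → ℂ)) (μ : Subgroup.centralizer ({x} : Set G) → ℂ) =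
      ind b μ * conj (classInner (reg p (μ : Subgroup.centralizer ({x} : Set G) → ℂ)) (th x (ψ : G → ℂ))) := by
    intro ψ μ
    unfold Af
    rw [inner_prj, inner_reg_adj, ← CharBasic.inner_conj_symm]
  have h1 : ∀ ψ : IrrCharacter G, Pc p x b ψ ψ = ∑ μ : IrrCharacter (Subgroup.centralizer ({x} : Set G)),
      ind b μ * (classInner (reg p (μ : Subgroup.centralizer ({x} : Set G) → ℂ)) (th x (ψ : G → ℂ)) *
        conj (classInner (reg p (μ : Subgroup.centralizer ({x} : Set G) → ℂ)) (th x (ψ : G → ℂ)))) := by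
    intro ψ
    unfold Pc
    rw [parseval (Af_classFun _) (Af_classFun _)]
    refine Finset.sum_congr rfl fun μ _ => ?_
    rw [hinner]
    by_cases hμ : μ ∈ b
    · rw [ind_of hμ, one_mul, one_mul, Complex.conj_conj, mul_comm]
    · rw [ind_not hμ]; simp
  rw [Finset.sum_congr rfl fun ψ _ => h1 ψ, Finset.sum_comm, blockRank_eq hM hb]
  refine Finset.sum_congr rfl fun μ _ => ?_
  rw [← Finset.mul_sum]
  congr 1
  rw [lift_inner hx (reg_classFun (CharBasic.irr_classFun μ.2)) (fun c hc => reg_not hc)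
    (fun c hc => reg_not hc), ← inner_reg_adj, reg_reg]

/-- second main theorem: `Pc` is supported on the induced block -/
theorem Af_zero (hM : IsPModular p M) (hx : ∃ k : ℕ, orderOf x = p ^ k)
    {B : Set (IrrCharacter G)} (hb : IsInducedBlock M (Subgroup.centralizer ({x} : Set G)) b B)
    {ψ : IrrCharacter G} (hψ : ψ ∉ B) : Af p x b (ψ : G → ℂ) = 0 := by
  classical
  have hp := isPrime_of_modular hM
  apply classFun_ext (Af_classFun _) (fun _ _ => rfl)
  intro μ hμ
  rw [show classInner (0 : Subgroup.centralizer ({x} : Set G) → ℂ) μ = 0 by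
    unfold classInner; simp]
  unfold Af
  rw [inner_prj b _ ⟨μ, hμ⟩]
  by_cases hμb : (⟨μ, hμ⟩ : IrrCharacter (Subgroup.centralizer ({x} : Set G))) ∈ b
  · have hU : (⟨μ, hμ⟩ : IrrCharacter (Subgroup.centralizer ({x} : Set G))) ∈ US x M B :=
      (block_sub_US x hp hb.1).mpr hb hμb
    have h1 := inner_reg_union hM (US_sat x hp B) (th_classFun (x := x) (CharBasic.irr_classFun ψ.2)) hU
    rw [h1]
    have h2 : reg p (blockPart (US x M B) (th x (ψ : G → ℂ))) = 0 := by
      funext y
      by_cases hy : p ∣ orderOf y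
      · rw [reg_not hy]; rfl
      · rw [reg_of hy]
        exact part_zero x hM hx hb.2.1 hψ hy
    rw [h2]
    unfold classInner; simp
  · rw [ind_not hμb, zero_mul]

theorem Pc_zero (hM : IsPModular p M) (hx : ∃ k : ℕ, orderOf x = p ^ k)
    {B : Set (IrrCharacter G)} (hb : IsInducedBlock M (Subgroup.centralizer ({x} : Set G)) b B)
    {ψ : IrrCharacter G} (hψ : ψ ∉ B) (χ : IrrCharacter G) : Pc p x b χ ψ = 0 := by
  unfold Pc
  rw [Af_zero hM hx hb hψ]
  unfold classInner; simp

end Tr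

end CfsgLib.Ct
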