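import Mathlib
import Cfsg.Agent.EqBase
import Cfsg.Agent.LibCt3

/-!
# Contributions of subsections: integrality and local properties (helper17)
-/

set_option autoImplicit false
set_option linter.unusedSectionVars false
set_option linter.style.haveILetI false
set_option linter.unusedSimpArgs false
set_option linter.unusedVariables false

namespace CfsgLib.Ct

open CfsgLib.CharInt hiding irr_isCharacter irr_classFun irr_one_ne_zero schur_scalar
open Cfsg CfsgLib.CharInt2 CfsgLib.CharBasic CfsgLib.BlockR CfsgLib.BlockCore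
  CfsgLib.BlockIdem CfsgLib.BlockIdeal CfsgLib.BlockConj CfsgLib.BlockBrauer CfsgLib.BlockInd
  CfsgLib.BlockFMT CfsgLib.BlockFMT2 CfsgLib.PLocalInd CfsgLib.BlockOrth CfsgLib.BlockDefect
  CfsgLib.BlockReg CfsgLib.BlockReg2 CfsgLib.BlockCount CfsgLib.BlockCount2 CfsgLib.BlockQP
  CfsgLib.BlockCov3 CfsgLib.BlockCov4 CfsgLib.BlockLoc CfsgLib.BlockM CfsgLib.BlockH
  CfsgLib.BlockH2 CfsgLib.CharNorm CfsgLib.BlockSec CfsgLib.BlockSec3
open scoped ComplexConjugate Pointwise

universe u

variable {M : Ideal AlgInt} {p : ℕ} [hpF : Fact p.Prime] {G : Type u} [Group G] [Fintype G]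

/-- integrality of normalised Cartan-type numbers -/
theorem exists_mm (hM : IsPModular p M) {b : Set (IrrCharacter G)} (hb : IsPBlock M b)
    {μ : IrrCharacter G} (hμ : μ ∈ b) (lam : IrrCharacter G) :
    ∃ m : ℤ, ((p ^ blockDefect p b : ℕ) : ℂ) * classInner (reg p (μ : G → ℂ)) (lam : G → ℂ) = m := by
  obtain ⟨m, hm, -⟩ := exists_m hM hb hμ
  refine ⟨m lam, ?_⟩
  have h1 := cc_spec (p := p) μ lam
  rw [hm lam] at h1
  have hd := defect_le p b
  have hp0 : (p : ℂ) ≠ 0 := by exact_mod_cast (Fact.out : p.Prime).ne_zero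
  have h3 : (p ^ (Nat.card G).factorization p : ℕ) =
      p ^ ((Nat.card G).factorization p - blockDefect p b) * p ^ blockDefect p b := by
    rw [← pow_add]; congr 1; omega
  rw [h3] at h1
  push_cast at h1 ⊢
  have h4 : (p : ℂ) ^ ((Nat.card G).factorization p - blockDefect p b) ≠ 0 := pow_ne_zero _ hp0
  apply mul_left_cancel₀ h4
  rw [← h1]; ring

/-- inner products with irreducible characters via `omg` -/
theorem inner_omg {f : G → ℂ} (ξ : IrrCharacter G) :
    classInner f (ξ : G → ℂ) = ((ξ : G → ℂ) 1 / Nat.card G) * omg (ξ : G → ℂ) (fun h => f h⁻¹) := by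
  classical
  have hξ := CharBasic.irr_one_ne_zero ξ.2
  unfold classInner omg
  have h1 : ∑ h : G, f h⁻¹ * (ξ : G → ℂ) h = ∑ h : G, f h * conj ((ξ : G → ℂ) h) := by
    rw [← Equiv.sum_comp (Equiv.inv G) (fun h : G => f h * conj ((ξ : G → ℂ) h))]
    refine Finset.sum_congr rfl fun h _ => ?_
    rw [Equiv.inv_apply, char_inv_eq_conj (irr_isCharacter ξ.2), Complex.conj_conj]
  rw [h1]
  field_simp

section Tr

variable {x : G} [hFC : Fintype (Subgroup.centralizer ({x} : Set G))]
variable {b : Set (IrrCharacter (Subgroup.centralizer ({x} : Set G)))}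

/-- multiplicities in translates -/
theorem inner_th (ψ : IrrCharacter G) (μ : IrrCharacter (Subgroup.centralizer ({x} : Set G))) :
    ∃ w : ℂ, w ^ orderOf x = 1 ∧ classInner (th x (ψ : G → ℂ))
      (μ : Subgroup.centralizer ({x} : Set G) → ℂ) =
      w * classInner (fun c : Subgroup.centralizer ({x} : Set G) => (ψ : G → ℂ) c)
        (μ : Subgroup.centralizer ({x} : Set G) → ℂ) := by
  classical
  set x' : Subgroup.centralizer ({x} : Set G) := ⟨x, Subgroup.mem_centralizer_singleton_iff.mpr rfl⟩ with hx'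
  have hxc : x' ∈ Subgroup.center (Subgroup.centralizer ({x} : Set G)) := by
    rw [Subgroup.mem_center_iff]
    intro g
    have h1 := Subgroup.mem_centralizer_singleton_iff.mp g.2
    exact Subtype.ext h1
  obtain ⟨lam, h1, h2, h3⟩ := BlockNil.center_char μ (le_refl (Subgroup.center (Subgroup.centralizer ({x} : Set G))))
  have hμ1 := CharBasic.irr_one_ne_zero μ.2
  have hlam1 : lam 1 = 1 := by
    have h4 := h1 1 1
    rw [OneMemClass.coe_one, one_mul] at h4
    have h5 : lam 1 * (μ : Subgroup.centralizer ({x} : Set G) → ℂ) 1 =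
        1 * (μ : Subgroup.centralizer ({x} : Set G) → ℂ) 1 := by rw [← h4, one_mul]
    exact mul_right_cancel₀ hμ1 h5
  set z : Subgroup.center (Subgroup.centralizer ({x} : Set G)) := ⟨x', hxc⟩ with hz
  have hpow : ∀ n : ℕ, lam (z ^ n) = lam z ^ n := by
    intro n
    induction n with
    | zero => rw [pow_zero, pow_zero, hlam1]
    | succ n ih => rw [pow_succ, h3, ih, pow_succ]
  have hzo : z ^ orderOf x = 1 := by
    apply Subtype.ext
    apply Subtype.ext
    change x ^ orderOf x = 1
    exact pow_orderOf_eq_one x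
  refine ⟨lam z, ?_, ?_⟩
  · rw [← hpow, hzo, hlam1]
  · unfold classInner th
    have h4 : ∑ c : Subgroup.centralizer ({x} : Set G), (ψ : G → ℂ) (x * (c : G)) *
        conj ((μ : Subgroup.centralizer ({x} : Set G) → ℂ) c) =
        ∑ c : Subgroup.centralizer ({x} : Set G), lam z * ((ψ : G → ℂ) (c : G) *
        conj ((μ : Subgroup.centralizer ({x} : Set G) → ℂ) c)) := by
      rw [← Equiv.sum_comp (Equiv.mulLeft x') (fun c : Subgroup.centralizer ({x} : Set G) =>
        lam z * ((ψ : G → ℂ) (c : G) * conj ((μ : Subgroup.centralizer ({x} : Set G) → ℂ) c)))]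
      refine Finset.sum_congr rfl fun c _ => ?_
      have h5 : (μ : Subgroup.centralizer ({x} : Set G) → ℂ) (x' * c) =
          lam z * (μ : Subgroup.centralizer ({x} : Set G) → ℂ) c := h1 z c
      have h6 := h2 z
      change (ψ : G → ℂ) (x * (c : G)) * _ = lam z * ((ψ : G → ℂ) (x * (c : G)) *
        conj ((μ : Subgroup.centralizer ({x} : Set G) → ℂ) (x' * c)))
      rw [h5, map_mul]
      linear_combination (-(ψ : G → ℂ) (x * (c : G)) *
        conj ((μ : Subgroup.centralizer ({x} : Set G) → ℂ) c)) * h6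
    rw [h4, ← Finset.mul_sum]
    ring

/-- natural multiplicities -/
theorem inner_res_nat (ψ : IrrCharacter G) (μ : IrrCharacter (Subgroup.centralizer ({x} : Set G))) :
    ∃ n : ℕ, classInner (fun c : Subgroup.centralizer ({x} : Set G) => (ψ : G → ℂ) c)
        (μ : Subgroup.centralizer ({x} : Set G) → ℂ) = n :=
  char_mult (isCharacter_restrict (irr_isCharacter ψ.2) _) (irr_isCharacter μ.2)

/-- block form of inner products with regular parts -/
theorem inner_reg_block (hM : IsPModular p M) {H : Type u} [Group H] [Fintype H]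
    {b : Set (IrrCharacter H)} (hb : IsPBlock M b) {f : H → ℂ} (hf : IsClassFunction H f)
    {lam : IrrCharacter H} (hl : lam ∈ b) :
    classInner (reg p f) (lam : H → ℂ) = ∑ μ : IrrCharacter H, ind b μ *
      (classInner f (μ : H → ℂ) * classInner (reg p (μ : H → ℂ)) (lam : H → ℂ)) := by
  classical
  have hp := isPrime_of_modular hM
  rw [inner_reg_adj]
  conv_lhs => rw [classFun_expand hf]
  rw [inner_sum_left]
  refine Finset.sum_congr rfl fun μ _ => ?_
  rw [CharBasic.inner_smul_left, ← inner_reg_adj]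
  by_cases hμ : μ ∈ b
  · rw [ind_of hμ, one_mul]
  · rw [inner_reg_zero hM, mul_zero, mul_zero]
    intro h
    exact hμ (mem_of_sameBlock hp hb hl (sameBlock_symm h))

theorem Pc_expand (hM : IsPModular p M) (hb : IsPBlock M b) (χ ψ : IrrCharacter G) :
    Pc p x b χ ψ = ∑ lam : IrrCharacter (Subgroup.centralizer ({x} : Set G)), ind b lam *
      (classInner (reg p (th x (χ : G → ℂ))) (lam : Subgroup.centralizer ({x} : Set G) → ℂ) *
        conj (classInner (th x (ψ : G → ℂ)) (lam : Subgroup.centralizer ({x} : Set G) → ℂ))) := by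
  rw [Pc_eq hM hb, parseval (Af_classFun _) (th_classFun (CharBasic.irr_classFun ψ.2))]
  refine Finset.sum_congr rfl fun lam _ => ?_
  unfold Af
  rw [inner_prj, mul_assoc]

/-- the normalised contributions -/
noncomputable def Mc (p : ℕ) (x : G) [Fintype (Subgroup.centralizer ({x} : Set G))]
    (b : Set (IrrCharacter (Subgroup.centralizer ({x} : Set G)))) (χ ψ : IrrCharacter G) : ℂ :=
  ((p ^ blockDefect p b : ℕ) : ℂ) * Pc p x b χ ψ

theorem inner_th_mem {n : ℕ} (hx : x ^ (p ^ n) = 1) (ψ : IrrCharacter G)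
    (μ : IrrCharacter (Subgroup.centralizer ({x} : Set G))) :
    classInner (th x (ψ : G → ℂ)) (μ : Subgroup.centralizer ({x} : Set G) → ℂ) ∈ Op p n := by
  obtain ⟨w, hw, h1⟩ := inner_th ψ μ
  obtain ⟨k, hk⟩ := inner_res_nat ψ μ
  rw [h1, hk]
  refine mul_mem (root_mem_Op ?_) (natCast_mem _ _)
  obtain ⟨j, hj⟩ := orderOf_dvd_of_pow_eq_one hx
  rw [hj, pow_mul, hw, one_pow]

theorem ind_mem {n : ℕ} {H : Type u} [Group H] [Finite H] (b : Set (IrrCharacter H)) (μ : IrrCharacter H) :
    ind b μ ∈ Op p n := by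
  by_cases h : μ ∈ b
  · rw [ind_of h]; exact one_mem _
  · rw [ind_not h]; exact zero_mem _

theorem Mc_mem (hM : IsPModular p M) (hb : IsPBlock M b) {n : ℕ} (hx : x ^ (p ^ n) = 1)
    (χ ψ : IrrCharacter G) : Mc p x b χ ψ ∈ Op p n := by
  classical
  unfold Mc
  rw [Pc_expand hM hb, Finset.mul_sum]
  refine sum_mem fun lam _ => ?_
  by_cases hl : lam ∈ b
  · rw [inner_reg_block hM hb (th_classFun (CharBasic.irr_classFun χ.2)) hl]
    have h1 : ((p ^ blockDefect p b : ℕ) : ℂ) * (ind b lam * ((∑ μ : IrrCharacter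
        (Subgroup.centralizer ({x} : Set G)), ind b μ * (classInner (th x (χ : G → ℂ))
        (μ : Subgroup.centralizer ({x} : Set G) → ℂ) * classInner (reg p
        (μ : Subgroup.centralizer ({x} : Set G) → ℂ)) (lam : Subgroup.centralizer ({x} : Set G) → ℂ))) *
        conj (classInner (th x (ψ : G → ℂ)) (lam : Subgroup.centralizer ({x} : Set G) → ℂ)))) =
      (∑ μ : IrrCharacter (Subgroup.centralizer ({x} : Set G)), (ind b μ * classInner (th x (χ : G → ℂ))
        (μ : Subgroup.centralizer ({x} : Set G) → ℂ)) * (ind b μ * (((p ^ blockDefect p b : ℕ) : ℂ) * classInner (reg p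
        (μ : Subgroup.centralizer ({x} : Set G) → ℂ)) (lam : Subgroup.centralizer ({x} : Set G) → ℂ)))) *
        (ind b lam * conj (classInner (th x (ψ : G → ℂ)) (lam : Subgroup.centralizer ({x} : Set G) → ℂ))) := by
      rw [Finset.sum_mul, Finset.sum_mul, Finset.mul_sum, Finset.mul_sum]
      refine Finset.sum_congr rfl fun μ _ => ?_
      by_cases hμ : μ ∈ b
      · rw [ind_of hμ]; ring
      · rw [ind_not hμ]; ring
    rw [h1]
    refine mul_mem (sum_mem fun μ _ => mul_mem (mul_mem (ind_mem b μ) (inner_th_mem hx χ μ)) ?_)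
      (mul_mem (ind_mem b lam) (conj_mem (inner_th_mem hx ψ lam)))
    by_cases hμ : μ ∈ b
    · obtain ⟨m, hm⟩ := exists_mm hM hb hμ lam
      rw [hm]
      exact mul_mem (ind_mem b μ) (intCast_mem _ _)
    · rw [ind_not hμ, zero_mul]; exact zero_mem _
  · rw [ind_not hl, zero_mul, mul_zero]; exact zero_mem _

/-! ### local congruences -/

theorem root_congr' (hM : IsPModular p M) {w : ℂ} (hx : ∃ k : ℕ, orderOf x = p ^ k)
    (hw : w ^ orderOf x = 1) : MemLocalIdeal M (w - 1) := by
  obtain ⟨k, hk⟩ := hx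
  rw [hk] at hw
  haveI := LocR.isPrime hM
  exact root_congr hM hw

/-- the local number attached to a character -/
noncomputable def kap (p : ℕ) (χ ξ : IrrCharacter G) : ℂ :=
  omg (ξ : G → ℂ) (fun g => reg p (χ : G → ℂ) g⁻¹)

theorem kap_ring (hM : IsPModular p M) (χ ξ : IrrCharacter G) : MemLocalRing M (kap p χ ξ) :=
  omg_ring (isPrime_of_modular hM) ξ (regInv_classFun (CharBasic.irr_classFun χ.2))
    (regInv_ring (isPrime_of_modular hM) χ)

theorem kap_unit (hM : IsPModular p M) {B : Set (IrrCharacter G)} (hB : IsPBlock M B)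
    {χ ξ : IrrCharacter G} (hχ : χ ∈ B) (hξ : ξ ∈ B) (h0 : blockHeight p B (χ : G → ℂ) = 0) :
    ¬ MemLocalIdeal M (kap p χ ξ) := by
  have h1 := (unit_iff_height_zero hM hB hχ hξ).mpr h0
  rw [inner_div] at h1
  intro h2
  exact h1 (ideal_mul_left (isPrime_of_modular hM) (ratio_unit hM).1 h2)

theorem kap_congr (hM : IsPModular p M) {B : Set (IrrCharacter G)} (hB : IsPBlock M B)
    (χ : IrrCharacter G) {ξ ξ' : IrrCharacter G} (hξ : ξ ∈ B) (hξ' : ξ' ∈ B) :
    MemLocalIdeal M (kap p χ ξ - kap p χ ξ') := by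
  have hp := isPrime_of_modular hM
  have h1 : AR M (fun ξ : IrrCharacter G => omg (ξ : G → ℂ) (fun g => reg p (χ : G → ℂ) g⁻¹)) := by
    intro g; rw [fou_omg (regInv_classFun (CharBasic.irr_classFun χ.2))]; exact regInv_ring hp χ g
  exact sameBlock_val hp h1 (sameBlock_of_mem hp hB hξ hξ')

/-- the value in the centralizer -/
noncomputable def kal (p : ℕ) (x : G) [Fintype (Subgroup.centralizer ({x} : Set G))]
    (χ : IrrCharacter G) (lam : IrrCharacter (Subgroup.centralizer ({x} : Set G))) : ℂ :=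
  omg (lam : Subgroup.centralizer ({x} : Set G) → ℂ) (fun c => reg p (th x (χ : G → ℂ)) c⁻¹)

theorem kal_congr (hM : IsPModular p M) (hx : ∃ k : ℕ, orderOf x = p ^ k)
    {B : Set (IrrCharacter G)} (hb : IsInducedBlock M (Subgroup.centralizer ({x} : Set G)) b B)
    (χ : IrrCharacter G) {ξ : IrrCharacter G} (hξ : ξ ∈ B)
    {lam : IrrCharacter (Subgroup.centralizer ({x} : Set G))} (hl : lam ∈ b) :
    MemLocalIdeal M (kal p x χ lam - kap p χ ξ) := by
  have hp := isPrime_of_modular hM
  have h1 := pairing_congr (p := p) hM hb χ hl hξ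
  have h5 : MemLocalIdeal M (omg (lam : Subgroup.centralizer ({x} : Set G) → ℂ)
      ((fun h : Subgroup.centralizer ({x} : Set G) => reg p (th x (χ : G → ℂ)) h⁻¹) -
        (fun h : Subgroup.centralizer ({x} : Set G) => reg p (χ : G → ℂ) (h : G)⁻¹))) := by
    apply omg_ideal hp
    · apply CharBasic.classFun_sub
      · exact regInv_classFun (th_classFun (CharBasic.irr_classFun χ.2))
      · have := res_classFun (Subgroup.centralizer ({x} : Set G))
          (regInv_classFun (p := p) (CharBasic.irr_classFun χ.2))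
        exact this
    · intro h
      rw [Pi.sub_apply]
      by_cases hh : p ∣ orderOf h
      · rw [reg_not (f := (χ : G → ℂ)) (by rw [orderOf_inv, Subgroup.orderOf_coe]; exact hh),
          reg_not (by rw [orderOf_inv]; exact hh), sub_zero]
        exact ideal_zero hp
      · rw [reg_of (f := (χ : G → ℂ)) (by rw [orderOf_inv, Subgroup.orderOf_coe]; exact hh),
          reg_of (by rw [orderOf_inv]; exact hh)]
        have hc : Commute x (h : G)⁻¹ := by
          have := Subgroup.mem_centralizer_singleton_iff.mp h.2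
          have h6 : Commute (h : G) x := this
          exact h6.symm.inv_right
        exact char_congr hM (irr_isCharacter χ.2) hc hx
  rw [omg_sub] at h5
  exact ideal_trans hp h5 h1

/-- normalised degrees -/
noncomputable def ud (p : ℕ) {H : Type u} [Group H] (b : Set (IrrCharacter H)) (lam : IrrCharacter H) : ℂ :=
  ((p ^ blockDefect p b * charDegree (lam : H → ℂ) : ℕ) : ℂ) / (Nat.card H : ℂ)

theorem ud_ring (hM : IsPModular p M) {H : Type u} [Group H] [Fintype H] {b : Set (IrrCharacter H)}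
    (hb : IsPBlock M b) {lam : IrrCharacter H} (hl : lam ∈ b) : MemLocalRing M (ud p b lam) := by
  have hpp : p.Prime := Fact.out
  apply ring_div_nat hM Nat.card_pos.ne'
  have h1 := degree_eq hM hb hl
  rw [Nat.factorization_mul (pow_ne_zero _ hpp.ne_zero) (irr_charDegree_pos lam.2).ne',
    hpp.factorization_pow]
  simp only [Finsupp.add_apply, Finsupp.single_eq_same]
  omega

theorem ud_unit (hM : IsPModular p M) {H : Type u} [Group H] [Fintype H] {b : Set (IrrCharacter H)}
    (hb : IsPBlock M b) {lam : IrrCharacter H} (hl : lam ∈ b)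
    (h0 : blockHeight p b (lam : H → ℂ) = 0) : ¬ MemLocalIdeal M (ud p b lam) := by
  have hpp : p.Prime := Fact.out
  have h3 : p ^ blockDefect p b * charDegree (lam : H → ℂ) ≠ 0 :=
    mul_ne_zero (pow_ne_zero _ hpp.ne_zero) (irr_charDegree_pos lam.2).ne'
  unfold ud
  rw [ideal_div_nat_iff hM h3 Nat.card_pos.ne']
  have h1 := degree_eq hM hb hl
  rw [Nat.factorization_mul (pow_ne_zero _ hpp.ne_zero) (irr_charDegree_pos lam.2).ne',
    hpp.factorization_pow]
  simp only [Finsupp.add_apply, Finsupp.single_eq_same]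
  omega

theorem inner_ud {H : Type u} [Group H] [Fintype H] (b : Set (IrrCharacter H)) (f : H → ℂ)
    (lam : IrrCharacter H) : ((p ^ blockDefect p b : ℕ) : ℂ) * classInner f (lam : H → ℂ) =
      ud p b lam * omg (lam : H → ℂ) (fun c => f c⁻¹) := by
  rw [inner_omg, irr_one_eq_charDegree lam.2]
  unfold ud
  push_cast
  ring

/-- normalised degree of the `b`-part -/
noncomputable def Sd (p : ℕ) (x : G) [Fintype (Subgroup.centralizer ({x} : Set G))]
    (b : Set (IrrCharacter (Subgroup.centralizer ({x} : Set G)))) (ψ : IrrCharacter G) : ℂ :=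
  ∑ lam : IrrCharacter (Subgroup.centralizer ({x} : Set G)), ind b lam * (ud p b lam *
    classInner (fun c : Subgroup.centralizer ({x} : Set G) => (ψ : G → ℂ) c)
      (lam : Subgroup.centralizer ({x} : Set G) → ℂ))

theorem Mc_congr (hM : IsPModular p M) (hx : ∃ k : ℕ, orderOf x = p ^ k)
    {B : Set (IrrCharacter G)} (hb : IsInducedBlock M (Subgroup.centralizer ({x} : Set G)) b B)
    (χ ψ : IrrCharacter G) {ξ : IrrCharacter G} (hξ : ξ ∈ B) :
    MemLocalIdeal M (Mc p x b χ ψ - kap p χ ξ * Sd p x b ψ) := by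
  haveI := LocR.isPrime hM
  have hp := isPrime_of_modular hM
  unfold Mc Sd
  rw [Pc_expand hM hb.1, Finset.mul_sum, Finset.mul_sum, ← Finset.sum_sub_distrib]
  refine LocR.memI_sum fun lam _ => ?_
  by_cases hl : lam ∈ b
  · obtain ⟨w, hw, h1⟩ := inner_th ψ lam
    obtain ⟨n, hn⟩ := inner_res_nat ψ lam
    rw [ind_of hl, one_mul, one_mul, ← mul_assoc, inner_ud b, h1, hn, map_mul, Complex.conj_natCast]
    change MemLocalIdeal M (ud p b lam * kal p x χ lam * (conj w * n) - kap p χ ξ * (ud p b lam * n))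
    have hw' : (conj w) ^ orderOf x = 1 := by rw [← map_pow, hw, map_one]
    have hw'R : MemLocalRing M (conj w) := LocR.memR_of_pow_eq_one (orderOf_pos x) hw'
    have h2 : ud p b lam * kal p x χ lam * (conj w * n) - kap p χ ξ * (ud p b lam * n) =
        ud p b lam * n * ((kal p x χ lam - kap p χ ξ) * conj w + kap p χ ξ * (conj w - 1)) := by ring
    rw [h2]
    refine LocR.memI_mul_left (LocR.memR_mul (ud_ring hM hb.1 hl) (LocR.memR_natCast n)) ?_
    exact LocR.memI_add (LocR.memI_mul_right (kal_congr hM hx hb χ hξ hl) hw'R)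
      (LocR.memI_mul_left (kap_ring hM χ ξ) (root_congr' hM hx hw'))
  · rw [ind_not hl, zero_mul, mul_zero, zero_mul, mul_zero, sub_zero]
    exact LocR.memI_zero

theorem Sd_unit (hM : IsPModular p M) (hx : ∃ k : ℕ, orderOf x = p ^ k)
    {B : Set (IrrCharacter G)} (hb : IsInducedBlock M (Subgroup.centralizer ({x} : Set G)) b B)
    {ψ : IrrCharacter G} (hψ : ψ ∈ B) (h0 : blockHeight p B (ψ : G → ℂ) = 0) :
    ¬ MemLocalIdeal M (Sd p x b ψ) := by
  classical
  haveI := LocR.isPrime hM
  have hp := isPrime_of_modular hM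
  obtain ⟨lam, hl, hl0⟩ := exists_height_zero hM hb.1
  have hl0' := (height_zero_iff hM hb.1 hl).mpr hl0
  intro hS
  -- the pairing with `lam`
  have h1 : ¬ MemLocalIdeal M (((p ^ blockDefect p b : ℕ) : ℂ) *
      classInner (reg p (th x (ψ : G → ℂ))) (lam : Subgroup.centralizer ({x} : Set G) → ℂ)) := by
    rw [inner_ud b]
    have h2 : ¬ MemLocalIdeal M (kal p x ψ lam) := by
      intro h3
      apply kap_unit hM hb.2.1 hψ hψ h0
      have h4 := LocR.memI_sub h3 (kal_congr hM hx hb ψ hψ hl)
      rwa [sub_sub_cancel] at h4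
    exact LocR.not_memI_mul (ud_ring hM hb.1 hl) (omg_ring hp lam
      (regInv_classFun (th_classFun (CharBasic.irr_classFun ψ.2))) (by
        intro c
        by_cases hc : p ∣ orderOf c⁻¹
        · rw [reg_not hc]; exact ring_zero hp
        · rw [reg_of hc]; exact irr_ring hp ψ _)) (ud_unit hM hb.1 hl hl0') h2
  apply h1
  rw [inner_reg_block hM hb.1 (th_classFun (CharBasic.irr_classFun ψ.2)) hl, Finset.mul_sum]
  have h2 : MemLocalIdeal M (∑ μ : IrrCharacter (Subgroup.centralizer ({x} : Set G)),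
      ((p ^ blockDefect p b : ℕ) : ℂ) * (ind b μ * (classInner (th x (ψ : G → ℂ))
        (μ : Subgroup.centralizer ({x} : Set G) → ℂ) * classInner (reg p
        (μ : Subgroup.centralizer ({x} : Set G) → ℂ)) (lam : Subgroup.centralizer ({x} : Set G) → ℂ))) -
      kap p lam lam * Sd p x b ψ) := by
    unfold Sd
    rw [Finset.mul_sum, ← Finset.sum_sub_distrib]
    refine LocR.memI_sum fun μ _ => ?_
    by_cases hμ : μ ∈ b
    · obtain ⟨w, hw, h3⟩ := inner_th ψ μ
      obtain ⟨n, hn⟩ := inner_res_nat ψ μ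
      obtain ⟨m, hm⟩ := exists_mm hM hb.1 hμ lam
      have h4 : classInner (reg p (μ : Subgroup.centralizer ({x} : Set G) → ℂ))
          (lam : Subgroup.centralizer ({x} : Set G) → ℂ) = classInner (reg p
          (lam : Subgroup.centralizer ({x} : Set G) → ℂ)) (μ : Subgroup.centralizer ({x} : Set G) → ℂ) := by
        have hp0 : ((p ^ blockDefect p b : ℕ) : ℂ) ≠ 0 := by
          exact_mod_cast (pow_ne_zero _ (Fact.out : p.Prime).ne_zero : (p ^ blockDefect p b : ℕ) ≠ 0)
        have h5 : classInner (reg p (μ : Subgroup.centralizer ({x} : Set G) → ℂ))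
          (lam : Subgroup.centralizer ({x} : Set G) → ℂ) = m / ((p ^ blockDefect p b : ℕ) : ℂ) := by
          rw [eq_div_iff hp0, mul_comm, hm]
        rw [inner_reg_conj μ lam, h5, map_div₀, Complex.conj_natCast]
        congr 1
        exact (map_intCast (starRingEnd ℂ) m).symm
      rw [ind_of hμ, one_mul, one_mul, h4]
      have h5 : ((p ^ blockDefect p b : ℕ) : ℂ) * (classInner (th x (ψ : G → ℂ))
        (μ : Subgroup.centralizer ({x} : Set G) → ℂ) * classInner (reg p
        (lam : Subgroup.centralizer ({x} : Set G) → ℂ)) (μ : Subgroup.centralizer ({x} : Set G) → ℂ)) =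
        classInner (th x (ψ : G → ℂ)) (μ : Subgroup.centralizer ({x} : Set G) → ℂ) *
        (ud p b μ * kap p lam μ) := by
        unfold kap
        rw [← inner_ud b]; ring
      rw [h5, h3, hn]
      have h6 : w * (n : ℂ) * (ud p b μ * kap p lam μ) - kap p lam lam * (ud p b μ * n) =
          ud p b μ * n * ((w - 1) * kap p lam μ + (kap p lam μ - kap p lam lam)) := by ring
      rw [h6]
      refine LocR.memI_mul_left (LocR.memR_mul (ud_ring hM hb.1 hμ) (LocR.memR_natCast n)) ?_
      exact LocR.memI_add (LocR.memI_mul_right (root_congr' hM hx hw) (kap_ring hM _ _))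
        (kap_congr hM hb.1 lam hμ hl)
    · rw [ind_not hμ, zero_mul, mul_zero, zero_mul, mul_zero, sub_zero]
      exact LocR.memI_zero
  have h3 := LocR.memI_add h2 (LocR.memI_mul_left (kap_ring hM lam lam) hS)
  rwa [sub_add_cancel] at h3

/-- height zero characters have nonzero contributions -/
theorem Mc_unit (hM : IsPModular p M) (hx : ∃ k : ℕ, orderOf x = p ^ k)
    {B : Set (IrrCharacter G)} (hb : IsInducedBlock M (Subgroup.centralizer ({x} : Set G)) b B)
    {χ ψ : IrrCharacter G} (hχ : χ ∈ B) (hψ : ψ ∈ B) (h0 : blockHeight p B (χ : G → ℂ) = 0)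
    (h0' : blockHeight p B (ψ : G → ℂ) = 0) : ¬ MemLocalIdeal M (Mc p x b χ ψ) := by
  haveI := LocR.isPrime hM
  have hp := isPrime_of_modular hM
  intro h1
  have h2 := LocR.memI_sub h1 (Mc_congr hM hx hb χ ψ hχ)
  rw [sub_sub_cancel] at h2
  have hSR : MemLocalRing M (Sd p x b ψ) := by
    unfold Sd
    refine LocR.memR_sum fun lam _ => ?_
    by_cases hl : lam ∈ b
    · obtain ⟨n, hn⟩ := inner_res_nat ψ lam
      rw [ind_of hl, one_mul, hn]
      exact LocR.memR_mul (ud_ring hM hb.1 hl) (LocR.memR_natCast n)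
    · rw [ind_not hl, zero_mul]; exact LocR.memR_zero
  rcases (LocR.memI_mul_iff (kap_ring hM χ χ) hSR).mp h2 with h3 | h3
  · exact kap_unit hM hb.2.1 hχ hχ h0 h3
  · exact Sd_unit hM hx hb hψ h0' h3

end Tr

end CfsgLib.Ct
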