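import Mathlib
import Cfsg.Agent.EqBase
import Cfsg.Agent.LibCt4

/-!
# Contributions of subsections: row and trace estimates; S4716, S4541 (helper17)
-/

set_option autoImplicit false
set_option linter.unusedSectionVars false
set_option linter.style.haveILetI false
set_option linter.unusedSimpArgs false
set_option linter.unusedVariables false

namespace CfsgLib.Ct

open CfsgLib.CharInt hiding irr_isCharacter irr_classFun irr_one_ne_zero schur_scalar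
open Cfsg CfsgLib.CharInt2 CfsgLib.CharBasic CfsgLib.BlockR CfsgLib.BlockCore
  CfsgLib.BlockIdem CfsgLib.BlockIdeal CfsgLib.BlockConj CfsgLib.BlockBrauer CfsgLib.BlockInd
  CfsgLib.BlockFMT CfsgLib.BlockFMT2 CfsgLib.PLocalInd CfsgLib.BlockOrth CfsgLib.BlockDefect
  CfsgLib.BlockReg CfsgLib.BlockReg2 CfsgLib.BlockCount CfsgLib.BlockCount2 CfsgLib.BlockQP
  CfsgLib.BlockCov3 CfsgLib.BlockCov4 CfsgLib.BlockLoc CfsgLib.BlockM CfsgLib.BlockH
  CfsgLib.BlockH2 CfsgLib.CharNorm CfsgLib.BlockSec CfsgLib.BlockSec3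
open scoped ComplexConjugate Pointwise

universe u

variable {M : Ideal AlgInt} {p : ℕ} [hpF : Fact p.Prime] {G : Type u} [Group G] [Fintype G]
variable {x : G} [hFC : Fintype (Subgroup.centralizer ({x} : Set G))]
variable {b : Set (IrrCharacter (Subgroup.centralizer ({x} : Set G)))} {n : ℕ}

/-- sums of squares over the conjugates -/
noncomputable def sq (p n : ℕ) [Fact p.Prime] (z : ℂ) : ℝ := ∑ k : (ZMod (p ^ n))ˣ, ‖sg p n k z‖ ^ 2

theorem sq_nonneg' (z : ℂ) : 0 ≤ sq p n z := Finset.sum_nonneg fun _ _ => by positivity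

/-- number of conjugations -/
noncomputable def NN (p n : ℕ) [Fact p.Prime] : ℝ := (Fintype.card (ZMod (p ^ n))ˣ : ℝ)

theorem NN_pos (p n : ℕ) [Fact p.Prime] : 0 < NN p n := by
  unfold NN
  exact_mod_cast Fintype.card_pos

/-- trace -/
noncomputable def trr (p n : ℕ) [Fact p.Prime] (z : ℂ) : ℝ := ∑ k : (ZMod (p ^ n))ˣ, (sg p n k z).re

theorem Mc_conj (χ ψ : IrrCharacter G) : conj (Mc p x b χ ψ) = Mc p x b ψ χ := by
  unfold Mc
  rw [map_mul, Complex.conj_natCast, Pc_conj]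

theorem Mc_zero (hM : IsPModular p M) (hx : ∃ k : ℕ, orderOf x = p ^ k)
    {B : Set (IrrCharacter G)} (hb : IsInducedBlock M (Subgroup.centralizer ({x} : Set G)) b B)
    {ψ : IrrCharacter G} (hψ : ψ ∉ B) (χ : IrrCharacter G) : Mc p x b χ ψ = 0 := by
  unfold Mc
  rw [Pc_zero hM hx hb hψ, mul_zero]

theorem Mc_row (hM : IsPModular p M) (hx : ∃ k : ℕ, orderOf x = p ^ k) (hb : IsPBlock M b)
    (χ χ' : IrrCharacter G) :
    ∑ ψ : IrrCharacter G, Mc p x b χ ψ * conj (Mc p x b χ' ψ) =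
      ((p ^ blockDefect p b : ℕ) : ℂ) * Mc p x b χ χ' := by
  unfold Mc
  rw [← Pc_mul hM hx hb χ χ', Finset.mul_sum, Finset.mul_sum]
  refine Finset.sum_congr rfl fun ψ _ => ?_
  rw [map_mul, Complex.conj_natCast]
  ring

/-- the conjugated row identity -/
theorem sg_row (hM : IsPModular p M) (hx : ∃ k : ℕ, orderOf x = p ^ k) (hb : IsPBlock M b)
    (hxn : x ^ (p ^ n) = 1) (k : (ZMod (p ^ n))ˣ) (χ : IrrCharacter G) :
    sg p n k (Mc p x b χ χ) = (((p ^ blockDefect p b : ℕ) : ℝ)⁻¹ *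
      ∑ ψ : IrrCharacter G, ‖sg p n k (Mc p x b χ ψ)‖ ^ 2 : ℝ) := by
  have hp0 : ((p ^ blockDefect p b : ℕ) : ℂ) ≠ 0 := by
    exact_mod_cast (pow_ne_zero _ (Fact.out : p.Prime).ne_zero : (p ^ blockDefect p b : ℕ) ≠ 0)
  have h1 := congrArg (sg p n k) (Mc_row hM hx hb χ χ)
  rw [map_sum, map_mul, map_natCast] at h1
  have h2 : ∀ ψ : IrrCharacter G, sg p n k (Mc p x b χ ψ * conj (Mc p x b χ ψ)) =
      ((‖sg p n k (Mc p x b χ ψ)‖ ^ 2 : ℝ) : ℂ) := by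
    intro ψ
    rw [map_mul, sg_conj _ (Mc_mem hM hb hxn χ ψ), Complex.mul_conj, Complex.normSq_eq_norm_sq]
  rw [Finset.sum_congr rfl fun ψ _ => h2 ψ] at h1
  push_cast at h1 ⊢
  rw [h1, inv_mul_cancel_left₀]
  exact_mod_cast hp0

theorem sg_diag_re (hM : IsPModular p M) (hx : ∃ k : ℕ, orderOf x = p ^ k) (hb : IsPBlock M b)
    (hxn : x ^ (p ^ n) = 1) (k : (ZMod (p ^ n))ˣ) (χ : IrrCharacter G) :
    sg p n k (Mc p x b χ χ) = ((sg p n k (Mc p x b χ χ)).re : ℂ) ∧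
      0 ≤ (sg p n k (Mc p x b χ χ)).re := by
  rw [sg_row hM hx hb hxn]
  constructor
  · rw [Complex.ofReal_re]
  · rw [Complex.ofReal_re]
    exact mul_nonneg (by positivity) (Finset.sum_nonneg fun _ _ => by positivity)

theorem row_sum (hM : IsPModular p M) (hx : ∃ k : ℕ, orderOf x = p ^ k) (hb : IsPBlock M b)
    (hxn : x ^ (p ^ n) = 1) (χ : IrrCharacter G) :
    ∑ ψ : IrrCharacter G, sq p n (Mc p x b χ ψ) =
      ((p ^ blockDefect p b : ℕ) : ℝ) * trr p n (Mc p x b χ χ) := by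
  have hp0 : ((p ^ blockDefect p b : ℕ) : ℝ) ≠ 0 := by
    exact_mod_cast (pow_ne_zero _ (Fact.out : p.Prime).ne_zero : (p ^ blockDefect p b : ℕ) ≠ 0)
  unfold sq trr
  rw [Finset.sum_comm, Finset.mul_sum]
  refine Finset.sum_congr rfl fun k _ => ?_
  have h1 := congrArg Complex.re (sg_row hM hx hb hxn k χ)
  rw [Complex.ofReal_re] at h1
  rw [h1, mul_inv_cancel_left₀ hp0]

theorem trr_nonneg (hM : IsPModular p M) (hx : ∃ k : ℕ, orderOf x = p ^ k) (hb : IsPBlock M b)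
    (hxn : x ^ (p ^ n) = 1) (χ : IrrCharacter G) : 0 ≤ trr p n (Mc p x b χ χ) :=
  Finset.sum_nonneg fun k _ => (sg_diag_re hM hx hb hxn k χ).2

theorem trace_sum (hM : IsPModular p M) (hx : ∃ k : ℕ, orderOf x = p ^ k) (hb : IsPBlock M b)
    (hxn : x ^ (p ^ n) = 1) :
    ∑ χ : IrrCharacter G, trr p n (Mc p x b χ χ) =
      NN p n * (((p ^ blockDefect p b : ℕ) : ℝ) * blockRank p b) := by
  unfold trr NN
  rw [Finset.sum_comm]
  have h1 : ∀ k : (ZMod (p ^ n))ˣ, ∑ χ : IrrCharacter G, (sg p n k (Mc p x b χ χ)).re =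
      ((p ^ blockDefect p b : ℕ) : ℝ) * blockRank p b := by
    intro k
    rw [← Complex.re_sum, ← map_sum]
    have h2 : ∑ χ : IrrCharacter G, Mc p x b χ χ =
        ((p ^ blockDefect p b * blockRank p b : ℕ) : ℂ) := by
      unfold Mc
      rw [← Finset.mul_sum, Pc_trace hM hx hb]
      push_cast; ring
    rw [h2, map_natCast, Complex.natCast_re]
    push_cast; ring
  rw [Finset.sum_congr rfl fun k _ => h1 k, Finset.sum_const, Finset.card_univ, nsmul_eq_mul]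

/-- Cauchy–Schwarz on the diagonal -/
theorem diag_sq (hM : IsPModular p M) (hx : ∃ k : ℕ, orderOf x = p ^ k) (hb : IsPBlock M b)
    (hxn : x ^ (p ^ n) = 1) (χ : IrrCharacter G) :
    trr p n (Mc p x b χ χ) ^ 2 ≤ NN p n * sq p n (Mc p x b χ χ) := by
  unfold trr NN sq
  have h1 := sq_sum_le_card_mul_sum_sq (s := (Finset.univ : Finset (ZMod (p ^ n))ˣ))
    (f := fun k => (sg p n k (Mc p x b χ χ)).re)
  rw [Finset.card_univ] at h1
  refine h1.trans (mul_le_mul_of_nonneg_left (Finset.sum_le_sum fun k _ => ?_) (Nat.cast_nonneg _))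
  have h2 := Complex.abs_re_le_norm (sg p n k (Mc p x b χ χ))
  rw [← sq_abs]
  exact pow_le_pow_left₀ (abs_nonneg _) h2 2

/-- the row estimate -/
theorem row_bound (hM : IsPModular p M) (hx : ∃ k : ℕ, orderOf x = p ^ k) (hb : IsPBlock M b)
    (hn : 0 < n) (hxn : x ^ (p ^ n) = 1) (χ : IrrCharacter G) (S : Finset (IrrCharacter G)) (hχ : χ ∉ S)
    (h : IrrCharacter G → ℕ)
    (hS : ∀ ψ ∈ S, Mc p x b χ ψ ≠ 0 ∧ MemLocalRing M (Mc p x b χ ψ / (p : ℂ) ^ h ψ)) :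
    trr p n (Mc p x b χ χ) ^ 2 + NN p n * (NN p n * ∑ ψ ∈ S, ((p : ℝ) ^ h ψ) ^ 2) ≤
      NN p n * (((p ^ blockDefect p b : ℕ) : ℝ) * trr p n (Mc p x b χ χ)) := by
  classical
  rw [← row_sum hM hx hb hxn χ]
  have h1 : sq p n (Mc p x b χ χ) + ∑ ψ ∈ S, sq p n (Mc p x b χ ψ) ≤
      ∑ ψ : IrrCharacter G, sq p n (Mc p x b χ ψ) := by
    rw [← Finset.sum_insert (f := fun ψ => sq p n (Mc p x b χ ψ)) hχ]
    exact Finset.sum_le_sum_of_subset_of_nonneg (Finset.subset_univ _) fun _ _ _ => sq_nonneg' _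
  have h2 : NN p n * ∑ ψ ∈ S, ((p : ℝ) ^ h ψ) ^ 2 ≤ ∑ ψ ∈ S, sq p n (Mc p x b χ ψ) := by
    rw [Finset.mul_sum]
    refine Finset.sum_le_sum fun ψ hψ => ?_
    exact card_le_div hM hn (Mc_mem hM hb hxn χ ψ) (hS ψ hψ).1 (hS ψ hψ).2
  have h3 := diag_sq hM hx hb hxn χ
  have hN := NN_pos p n
  nlinarith [mul_le_mul_of_nonneg_left h1 hN.le, mul_le_mul_of_nonneg_left h2 hN.le]

/-- S4716 -/
theorem card_sq_le (hM : IsPModular p M) (hx : ∃ k : ℕ, orderOf x = p ^ k)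
    {B : Set (IrrCharacter G)} (hb : IsInducedBlock M (Subgroup.centralizer ({x} : Set G)) b B)
    (S : Finset (IrrCharacter G)) (hS : ∀ χ ∈ S, χ ∈ B ∧ blockHeight p B (χ : G → ℂ) = 0) :
    S.card ^ 2 ≤ p ^ (2 * blockDefect p b) * blockRank p b := by
  classical
  haveI := LocR.isPrime hM
  obtain ⟨k, hk⟩ := hx
  have hx : ∃ k : ℕ, orderOf x = p ^ k := ⟨k, hk⟩
  have hxn : x ^ (p ^ (k + 1)) = 1 := by
    rw [pow_succ, pow_mul, ← hk, pow_orderOf_eq_one, one_pow]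
  have hN := NN_pos p (k + 1)
  have h1 : ∀ χ ∈ S, NN p (k + 1) * S.card ≤ ∑ ψ : IrrCharacter G, sq p (k + 1) (Mc p x b χ ψ) := by
    intro χ hχ
    have h2 : ∀ ψ ∈ S, NN p (k + 1) ≤ sq p (k + 1) (Mc p x b χ ψ) := by
      intro ψ hψ
      refine card_le p (k + 1) (Mc_mem hM hb.1 hxn χ ψ) ?_
      intro h3
      apply Mc_unit hM hx hb (hS χ hχ).1 (hS ψ hψ).1 (hS χ hχ).2 (hS ψ hψ).2
      rw [h3]; exact LocR.memI_zero
    calc NN p (k + 1) * S.card = ∑ ψ ∈ S, NN p (k + 1) := by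
          rw [Finset.sum_const, nsmul_eq_mul, mul_comm]
      _ ≤ ∑ ψ ∈ S, sq p (k + 1) (Mc p x b χ ψ) := Finset.sum_le_sum h2
      _ ≤ _ := Finset.sum_le_sum_of_subset_of_nonneg (Finset.subset_univ _) fun _ _ _ => sq_nonneg' _
  have h2 : NN p (k + 1) * (S.card : ℝ) ^ 2 ≤ NN p (k + 1) *
      (((p ^ blockDefect p b : ℕ) : ℝ) * (((p ^ blockDefect p b : ℕ) : ℝ) * blockRank p b)) := by
    calc NN p (k + 1) * (S.card : ℝ) ^ 2 = ∑ χ ∈ S, NN p (k + 1) * S.card := by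
          rw [Finset.sum_const, nsmul_eq_mul]; ring
      _ ≤ ∑ χ ∈ S, ∑ ψ : IrrCharacter G, sq p (k + 1) (Mc p x b χ ψ) := Finset.sum_le_sum h1
      _ = ∑ χ ∈ S, ((p ^ blockDefect p b : ℕ) : ℝ) * trr p (k + 1) (Mc p x b χ χ) :=
          Finset.sum_congr rfl fun χ _ => row_sum hM hx hb.1 hxn χ
      _ ≤ ∑ χ : IrrCharacter G, ((p ^ blockDefect p b : ℕ) : ℝ) * trr p (k + 1) (Mc p x b χ χ) :=
          Finset.sum_le_sum_of_subset_of_nonneg (Finset.subset_univ _) fun χ _ _ =>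
            mul_nonneg (Nat.cast_nonneg _) (trr_nonneg hM hx hb.1 hxn χ)
      _ = _ := by rw [← Finset.mul_sum, trace_sum hM hx hb.1 hxn]; ring
  have h3 := le_of_mul_le_mul_left h2 hN
  have h4 : ((S.card ^ 2 : ℕ) : ℝ) ≤ ((p ^ (2 * blockDefect p b) * blockRank p b : ℕ) : ℝ) := by
    push_cast
    push_cast at h3
    rw [two_mul, pow_add]
    linarith
  exact_mod_cast h4

end CfsgLib.Ct
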