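import Mathlib
import Cfsg.Agent.LibSolvNilp

/-! 2-groups in which every abelian normal subgroup is cyclic (seat helper15). -/

set_option autoImplicit false

namespace CfsgLib.CycNorm

universe u

theorem int_aux (k : ℤ) {n : ℕ} (hn : 1 ≤ n) (h : (2 : ℤ) ^ n ∣ (k - 1) * (k + 1)) :
    (2 : ℤ) ^ (n - 1) ∣ k - 1 ∨ (2 : ℤ) ^ (n - 1) ∣ k + 1 := by
  obtain ⟨m, rfl⟩ : ∃ m, n = m + 1 := ⟨n - 1, by omega⟩
  rw [Nat.add_sub_cancel]
  rcases Nat.eq_zero_or_pos m with rfl | hm
  · left; simp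
  obtain ⟨l, rfl⟩ : ∃ l, m = l + 1 := ⟨m - 1, by omega⟩
  have hk : ¬ (2 : ℤ) ∣ k := by
    rintro ⟨c, rfl⟩
    have h1 : (2 : ℤ) ∣ (2 * c - 1) * (2 * c + 1) := (dvd_pow_self 2 (by omega)).trans h
    rcases Int.prime_two.dvd_or_dvd h1 with ⟨d, hd⟩ | ⟨d, hd⟩ <;> omega
  obtain ⟨u, hu⟩ : ∃ u, k = 2 * u + 1 := by
    rcases Int.even_or_odd' k with ⟨c, hc | hc⟩
    · exact absurd ⟨c, hc⟩ hk
    · exact ⟨c, hc⟩
  have h2 : (2 : ℤ) ^ l ∣ u * (u + 1) := by
    have h3 : (k - 1) * (k + 1) = 4 * (u * (u + 1)) := by rw [hu]; ring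
    rw [h3, pow_succ, pow_succ] at h
    have h4 : (2 : ℤ) ^ l * 2 * 2 = 4 * 2 ^ l := by ring
    rw [h4] at h
    exact (mul_dvd_mul_iff_left (by norm_num : (4 : ℤ) ≠ 0)).mp h
  by_cases hu2 : (2 : ℤ) ∣ u
  · left
    have hc : IsCoprime ((2 : ℤ) ^ l) (u + 1) := by
      apply IsCoprime.pow_left
      rw [Int.prime_two.coprime_iff_not_dvd]
      rintro ⟨d, hd⟩
      obtain ⟨c, hc⟩ := hu2
      omega
    obtain ⟨c, hc⟩ := hc.dvd_of_dvd_mul_right h2
    exact ⟨c, by rw [hu, hc, pow_succ]; ring⟩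
  · right
    have hc : IsCoprime ((2 : ℤ) ^ l) u := by
      apply IsCoprime.pow_left
      rw [Int.prime_two.coprime_iff_not_dvd]
      exact hu2
    obtain ⟨c, hc⟩ := hc.dvd_of_dvd_mul_left h2
    exact ⟨c, by rw [hu, pow_succ]; linear_combination 2 * hc⟩

theorem unique_inv {H : Type*} [Group H] [Finite H] [IsCyclic H] {x y : H} (hx : x * x = 1) (hx1 : x ≠ 1) (hy : y * y = 1) (hy1 : y ≠ 1) : x = y := by
  classical
  have hft : Fintype H := Fintype.ofFinite H
  by_contra hne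
  have h1 := IsCyclic.card_pow_eq_one_le (α := H) (n := 2) (by norm_num)
  have h2 : ({1, x, y} : Finset H) ⊆ (Finset.univ.filter fun a : H => a ^ 2 = 1) := by
    intro a ha
    simp only [Finset.mem_insert, Finset.mem_singleton] at ha
    rw [Finset.mem_filter]
    refine ⟨Finset.mem_univ _, ?_⟩
    rcases ha with rfl | rfl | rfl
    · exact one_pow _
    · rw [pow_two, hx]
    · rw [pow_two, hy]
  have h3 := Finset.card_le_card h2
  rw [Finset.card_insert_of_notMem (by simp [Ne.symm hx1, Ne.symm hy1]), Finset.card_insert_of_notMem (by simpa using hne), Finset.card_singleton] at h3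
  omega

theorem exists_sq_mem {S : Type*} [Group S] (hS : IsPGroup 2 S) (K : Subgroup S) (t : S) (ht : t ∉ K) :
    ∃ k : ℕ, t ^ (2 ^ k) ∉ K ∧ (t ^ (2 ^ k)) * (t ^ (2 ^ k)) ∈ K := by
  classical
  obtain ⟨k, hk⟩ := hS t
  have hex : ∃ k, t ^ (2 ^ k) ∈ K := ⟨k, hk ▸ one_mem K⟩
  have h1 := Nat.find_spec hex
  have h2 : Nat.find hex ≠ 0 := by
    intro h0
    rw [h0, pow_zero, pow_one] at h1
    exact ht h1
  obtain ⟨n, hn⟩ := Nat.exists_eq_succ_of_ne_zero h2
  refine ⟨n, Nat.find_min hex (by omega), ?_⟩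
  rw [hn, Nat.succ_eq_add_one, pow_succ, mul_two, pow_add] at h1
  exact h1

theorem no_four {P : Type u} [Group P] [Finite P] (hn : ∀ A : Subgroup P, A.Normal → IsMulCommutative A → IsCyclic A)
    {t y : P} (ht : t * t = 1) (ht1 : t ≠ 1) (hy : y * y = 1) (hy1 : y ≠ 1) (hty : y ≠ t) (hcomm : t * y = y * t)
    (h1 : ∀ g, g * t * g⁻¹ = t) (h2 : ∀ g, g * y * g⁻¹ = y ∨ g * y * g⁻¹ = t * y) : False := by
  let E : Subgroup P :=
    { carrier := {1, t, y, t * y}
      one_mem' := by simp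
      mul_mem' := by
        have a1 : y * t = t * y := hcomm.symm
        have a2 : t * (t * y) = y := by rw [← mul_assoc, ht, one_mul]
        have a3 : y * (t * y) = t := by rw [← mul_assoc, a1, mul_assoc, hy, mul_one]
        have a4 : t * y * t = y := by rw [mul_assoc, a1, a2]
        have a5 : t * y * y = t := by rw [mul_assoc, hy, mul_one]
        have a6 : t * y * (t * y) = 1 := by rw [← mul_assoc, a4, hy]
        rintro a b (rfl | rfl | rfl | rfl) (rfl | rfl | rfl | rfl) <;> simp [ht, hy, a1, a2, a3, a4, a5, a6]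
      inv_mem' := by
        have b1 : t⁻¹ = t := inv_eq_of_mul_eq_one_left ht
        have b2 : y⁻¹ = y := inv_eq_of_mul_eq_one_left hy
        rintro a (rfl | rfl | rfl | rfl)
        · simp
        · rw [b1]; simp
        · rw [b2]; simp
        · rw [mul_inv_rev, b1, b2, ← hcomm]; simp }
  have hmem : ∀ x, x ∈ E ↔ x = 1 ∨ x = t ∨ x = y ∨ x = t * y := fun x => Iff.rfl
  have hE : E.Normal := by
    constructor
    intro x hx g
    rw [hmem] at hx ⊢
    rcases hx with rfl | rfl | rfl | rfl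
    · left; simp
    · right; left; exact h1 g
    · rcases h2 g with h | h
      · right; right; left; exact h
      · right; right; right; exact h
    · have : g * (t * y) * g⁻¹ = (g * t * g⁻¹) * (g * y * g⁻¹) := by group
      rw [this, h1]
      rcases h2 g with h | h
      · right; right; right; rw [h]
      · right; right; left; rw [h, ← mul_assoc, ht, one_mul]
  have hEc : ∀ a ∈ E, ∀ b ∈ E, a * b = b * a := by
    have a1 : y * t = t * y := hcomm.symm
    intro a ha b hb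
    rw [hmem] at ha hb
    have c : Commute t y := hcomm
    rcases ha with rfl | rfl | rfl | rfl <;> rcases hb with rfl | rfl | rfl | rfl <;>
      first
        | simp; done
        | exact hcomm
        | exact a1
        | exact ((Commute.refl _).mul_right c).eq
        | exact ((Commute.refl _).mul_left c.symm).eq
        | exact (c.symm.mul_right (Commute.refl _)).eq
        | exact (c.mul_left (Commute.refl _)).eq
        | rfl
  have hcyc := hn E hE ⟨⟨fun a b => Subtype.ext (hEc a a.2 b b.2)⟩⟩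
  have h3 := unique_inv (H := E) (x := ⟨t, (hmem t).mpr (by simp)⟩) (y := ⟨y, (hmem y).mpr (by simp)⟩) (Subtype.ext ht)
    (fun h => ht1 (congrArg Subtype.val h)) (Subtype.ext hy) (fun h => hy1 (congrArg Subtype.val h))
  exact hty (congrArg Subtype.val h3).symm

theorem zpow_two_cases {P : Type*} [Group P] {t : P} (ht : t * t = 1) (m : ℤ) :
    (Even m → t ^ m = 1) ∧ (Odd m → t ^ m = t) := by
  constructor
  · rintro ⟨k, rfl⟩
    rw [← two_mul, zpow_mul, zpow_two, ht, one_zpow]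
  · rintro ⟨k, rfl⟩
    rw [zpow_add, zpow_mul, zpow_two, ht, one_zpow, zpow_one, one_mul]

/-- 2-groups all of whose abelian normal subgroups are cyclic -/
theorem structure_thm {P : Type u} [Group P] [Finite P] (hP : IsPGroup 2 P)
    (hn : ∀ A : Subgroup P, A.Normal → IsMulCommutative A → IsCyclic A) :
    IsCyclic P ∨ ∃ (n : ℕ) (a b : P), 2 ≤ n ∧ orderOf a = 2 ^ n ∧ b ∉ Subgroup.zpowers a ∧
      (∀ g, g ∉ Subgroup.zpowers a → g * b⁻¹ ∈ Subgroup.zpowers a) ∧
      ((b * b = a ^ (2 ^ (n - 1)) ∧ b * a * b⁻¹ = a⁻¹) ∨ (3 ≤ n ∧ b * b = 1 ∧ b * a * b⁻¹ = a⁻¹) ∨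
        (3 ≤ n ∧ b * b = 1 ∧ b * a * b⁻¹ = a ^ (2 ^ (n - 1) - 1))) := by
  have hp2 : Fact (Nat.Prime 2) := ⟨Nat.prime_two⟩
  have hnil := hP.isNilpotent
  obtain ⟨A, hAn, hAc, -, hAmax⟩ := CfsgLib.SolvNilp.exists_maximal_abelian_normal_ge (⊥ : Subgroup P)
    inferInstance inferInstance
  have hCA := CfsgLib.SolvNilp.centralizer_eq_of_maximal A hAmax
  have hcyc := hn A hAn hAc
  obtain ⟨⟨a, haA⟩, hgen⟩ := hcyc.exists_generator
  have hAz : A = Subgroup.zpowers a := by
    apply le_antisymm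
    · intro x hx
      obtain ⟨k, hk⟩ := hgen ⟨x, hx⟩
      exact ⟨k, congrArg Subtype.val hk⟩
    · exact Subgroup.zpowers_le.mpr haA
  -- membership via commuting with a
  have hmemA : ∀ g : P, g * a * g⁻¹ = a → g ∈ Subgroup.zpowers a := by
    intro g hg
    rw [← hAz, ← hCA, Subgroup.mem_centralizer_iff]
    intro x hx
    rw [SetLike.mem_coe, hAz] at hx
    obtain ⟨k, rfl⟩ := hx
    have h1 : Commute g a := mul_inv_eq_iff_eq_mul.mp hg
    exact (h1.zpow_right k).eq.symm
  have hact : ∀ g : P, ∃ k : ℤ, g * a * g⁻¹ = a ^ k := by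
    intro g
    have h1 := hAn.conj_mem a haA g
    rw [hAz] at h1
    obtain ⟨k, hk⟩ := h1
    exact ⟨k, hk.symm⟩
  have hconj : ∀ (g : P) (x y : P) (m : ℤ), g * x * g⁻¹ = y → g * x ^ m * g⁻¹ = y ^ m := by
    intro g x y m h
    rw [← h, conj_zpow]
  obtain ⟨n, hna⟩ := IsPGroup.iff_orderOf.mp hP a
  have hpow : ∀ m : ℤ, a ^ m = 1 ↔ (2 : ℤ) ^ n ∣ m := by
    intro m
    rw [← orderOf_dvd_iff_zpow_eq_one, hna]
    push_cast
    rfl
  -- small cases
  by_cases hn1 : n ≤ 1
  · left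
    have hcen : ∀ g : P, g * a * g⁻¹ = a := by
      intro g
      obtain ⟨k, hk⟩ := hact g
      have ha2 : a * a = 1 := by
        have h1 := (hpow 2).mpr (by
          interval_cases n
          · simp
          · norm_num)
        rwa [zpow_two] at h1
      rcases Int.even_or_odd k with h | h
      · have h1 := (zpow_two_cases ha2 k).1 h
        rw [h1] at hk
        have h2 : a = 1 := by
          have := congrArg (fun x => g⁻¹ * x * g) hk
          simpa [mul_assoc] using this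
        rw [h2]; simp
      · rw [hk, (zpow_two_cases ha2 k).2 h]
    exact ⟨a, fun g => hmemA g (hcen g)⟩
  by_cases hall : ∀ g : P, g ∈ Subgroup.zpowers a
  · left
    exact ⟨a, hall⟩
  right
  push Not at hall
  obtain ⟨b0, hb0⟩ := hall
  -- the involution t
  obtain ⟨t, ht⟩ : ∃ t, t = a ^ ((2 : ℤ) ^ (n - 1)) := ⟨_, rfl⟩
  have h2n : (2 : ℤ) ^ n = 2 ^ (n - 1) * 2 := by
    rw [← pow_succ]; congr 1; omega
  have htt : t * t = 1 := by
    rw [ht, ← zpow_add, hpow, h2n, mul_two]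
  have ht1 : t ≠ 1 := by
    rw [ht, Ne, hpow, h2n]
    intro h
    obtain ⟨c, hc⟩ := h
    have h3 : (2 : ℤ) ^ (n - 1) ≠ 0 := by positivity
    have h4 : (2 : ℤ) ^ (n - 1) * (2 * c - 1) = 0 := by linear_combination -hc
    rcases mul_eq_zero.mp h4 with h5 | h5
    · exact h3 h5
    · omega
  have hti : t⁻¹ = t := inv_eq_of_mul_eq_one_left htt
  have hta : a * t = t * a := by rw [ht]; exact (Commute.zpow_right (Commute.refl a) _).eq
  have hodd : ∀ (g : P) (k : ℤ), g * a * g⁻¹ = a ^ k → Odd k := by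
    intro g k hk
    by_contra hodd
    rw [Int.not_odd_iff_even] at hodd
    obtain ⟨c, hc⟩ := hodd
    -- a^(2^(n-1)) maps to a^(k 2^(n-1)) = 1
    have h1 := hconj g a _ ((2 : ℤ) ^ (n - 1)) hk
    rw [← ht, ← zpow_mul] at h1
    have h3 : a ^ (k * (2 : ℤ) ^ (n - 1)) = 1 := by
      rw [hpow, h2n, hc]
      exact ⟨c, by ring⟩
    rw [h3] at h1
    apply ht1
    have := congrArg (fun x => g⁻¹ * x * g) h1
    simpa [mul_assoc] using this
  have htc : ∀ g : P, g * t * g⁻¹ = t := by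
    intro g
    obtain ⟨k, hk⟩ := hact g
    have h1 := hconj g a _ ((2 : ℤ) ^ (n - 1)) hk
    rw [← ht, ← zpow_mul, mul_comm, zpow_mul, ← ht] at h1
    rw [h1]
    exact (zpow_two_cases htt k).2 (hodd g k hk)
  -- L1
  have hL1 : ∀ k : ℤ, a ^ (k * k) = a → a ^ k = a ∨ a ^ k = a * t ∨ a ^ k = a⁻¹ ∨ a ^ k = a⁻¹ * t := by
    intro k hk
    have h1 : (2 : ℤ) ^ n ∣ (k - 1) * (k + 1) := by
      rw [← hpow]
      have : (k - 1) * (k + 1) = k * k - 1 := by ring
      rw [this, zpow_sub, hk, zpow_one, mul_inv_cancel]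
    rcases int_aux k (by omega) h1 with ⟨m, hm⟩ | ⟨m, hm⟩
    · have h2 : a ^ k = a * t ^ m := by
        have : k = 1 + 2 ^ (n - 1) * m := by linear_combination hm
        rw [this, zpow_add, zpow_one, zpow_mul, ← ht]
      rcases Int.even_or_odd m with h | h
      · left; rw [h2, (zpow_two_cases htt m).1 h, mul_one]
      · right; left; rw [h2, (zpow_two_cases htt m).2 h]
    · have h2 : a ^ k = a⁻¹ * t ^ m := by
        have : k = -1 + 2 ^ (n - 1) * m := by linear_combination hm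
        rw [this, zpow_add, zpow_neg_one, zpow_mul, ← ht]
      rcases Int.even_or_odd m with h | h
      · right; right; left; rw [h2, (zpow_two_cases htt m).1 h, mul_one]
      · right; right; right; rw [h2, (zpow_two_cases htt m).2 h]
  -- action of a product
  have hmul : ∀ (g h : P) (k m : ℤ), g * a * g⁻¹ = a ^ k → h * a * h⁻¹ = a ^ m → (g * h) * a * (g * h)⁻¹ = a ^ (k * m) := by
    intro g h k m hg hh
    have h1 : (g * h) * a * (g * h)⁻¹ = g * (h * a * h⁻¹) * g⁻¹ := by group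
    rw [h1, hh, hconj g a _ m hg, ← zpow_mul]
  have hcommA : ∀ x ∈ Subgroup.zpowers a, x * a * x⁻¹ = a := by
    rintro _ ⟨k, rfl⟩
    simp only
    rw [(Commute.zpow_left (Commute.refl a) k).eq, mul_inv_cancel_right]
  -- squares commuting
  have hbb : ∀ (b : P) (j : ℤ), b * b = a ^ j → b * a ^ j * b⁻¹ = a ^ j := by
    intro b j hj
    rw [← hj]; group
  by_cases hn2 : n = 2
  · -- order 8
    subst hn2
    have ht' : t = a * a := by
      rw [ht]
      have : ((2 : ℤ) ^ (2 - 1)) = 2 := by norm_num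
      rw [this, zpow_two]
    have ha4 : ∀ k : ℤ, Odd k → a ^ k = a ∨ a ^ k = a⁻¹ := by
      intro k hk
      obtain ⟨m, hm⟩ := hk
      have h2 : a ^ k = t ^ m * a := by
        rw [hm, zpow_add, zpow_one, zpow_mul, zpow_two, ← ht']
      rcases Int.even_or_odd m with h | h
      · left; rw [h2, (zpow_two_cases htt m).1 h, one_mul]
      · right
        rw [h2, (zpow_two_cases htt m).2 h]
        rw [eq_inv_iff_mul_eq_one, mul_assoc, ← ht', htt]
    have hinv : ∀ g, g ∉ Subgroup.zpowers a → g * a * g⁻¹ = a⁻¹ := by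
      intro g hg
      obtain ⟨k, hk⟩ := hact g
      rcases ha4 k (hodd g k hk) with h | h
      · exact absurd (hmemA g (hk.trans h)) hg
      · rw [hk, h]
    have hidx : ∀ g h : P, g ∉ Subgroup.zpowers a → h ∉ Subgroup.zpowers a → g * h⁻¹ ∈ Subgroup.zpowers a := by
      intro g h hg hh
      apply hmemA
      have h1 := hinv g hg
      have h2 : h⁻¹ * a * h⁻¹⁻¹ = a⁻¹ := by
        have h3 := hinv h⁻¹ (fun h' => hh (by rwa [inv_mem_iff] at h'))
        exact h3
      have h3 := hmul g h⁻¹ (-1) (-1) (by rw [h1, zpow_neg_one]) (by rw [h2, zpow_neg_one])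
      rw [h3]; norm_num
    refine ⟨2, a, b0, le_rfl, hna, hb0, fun g hg => hidx g b0 hg hb0, ?_⟩
    left
    refine ⟨?_, hinv b0 hb0⟩
    have h1 : b0 * b0 ∈ Subgroup.zpowers a := by
      have := hidx b0 b0⁻¹ hb0 (fun h' => hb0 (by rwa [inv_mem_iff] at h'))
      rwa [inv_inv] at this
    obtain ⟨j, hj⟩ := h1
    have hj' : b0 * b0 = a ^ j := hj.symm
    have h2 := hbb b0 j hj'
    rw [hconj b0 a _ j (hinv b0 hb0), inv_zpow'] at h2
    have h3 : a ^ (2 * j) = 1 := by
      rw [two_mul, zpow_add]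
      nth_rewrite 1 [← h2]
      rw [← zpow_add, neg_add_cancel, zpow_zero]
    rw [hpow] at h3
    obtain ⟨c, hc⟩ := h3
    have hjc : j = 2 * c := by
      have : (2 : ℤ) ^ 2 = 4 := by norm_num
      rw [this] at hc; omega
    have h4 : a ^ j = t ^ c := by rw [hjc, zpow_mul, zpow_two, ← ht']
    rcases Int.even_or_odd c with h | h
    · exfalso
      have hb2 : b0 * b0 = 1 := by rw [hj', h4, (zpow_two_cases htt c).1 h]
      have hb1 : b0 ≠ 1 := by rintro rfl; exact hb0 (one_mem _)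
      have hbt : b0 ≠ t := by rintro rfl; exact hb0 (by rw [ht]; exact Subgroup.zpow_mem_zpowers a _)
      refine no_four hn htt ht1 hb2 hb1 hbt (mul_inv_eq_iff_eq_mul.mp (htc b0)).symm htc ?_
      intro g
      -- g b g⁻¹
      have key : ∀ i : ℤ, a ^ i * b0 * (a ^ i)⁻¹ = b0 ∨ a ^ i * b0 * (a ^ i)⁻¹ = t * b0 := by
        intro i
        have e1 : b0 * (a ^ i)⁻¹ * b0⁻¹ = a ^ i := by
          rw [← zpow_neg, hconj b0 a _ (-i) (hinv b0 hb0), inv_zpow', neg_neg]
        have e2 : a ^ i * b0 * (a ^ i)⁻¹ = (a ^ i * a ^ i) * b0 := by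
          have : a ^ i * b0 * (a ^ i)⁻¹ = a ^ i * (b0 * (a ^ i)⁻¹ * b0⁻¹) * b0 := by group
          rw [this, e1]
        have e3 : a ^ i * a ^ i = t ^ i := by rw [← zpow_add, ← two_mul, zpow_mul, zpow_two, ← ht']
        rw [e2, e3]
        rcases Int.even_or_odd i with h' | h'
        · left; rw [(zpow_two_cases htt i).1 h', one_mul]
        · right; rw [(zpow_two_cases htt i).2 h']
      by_cases hg : g ∈ Subgroup.zpowers a
      · obtain ⟨i, rfl⟩ := hg
        exact key i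
      · obtain ⟨i, hi⟩ := hidx g b0 hg hb0
        have hg' : g = a ^ i * b0 := mul_inv_eq_iff_eq_mul.mp hi.symm
        have : g * b0 * g⁻¹ = a ^ i * b0 * (a ^ i)⁻¹ := by rw [hg']; group
        rw [this]; exact key i
    · rw [hj', h4, (zpow_two_cases htt c).2 h, ht]
      norm_num [zpow_two, pow_two]
  -- n ≥ 3
  have hn3 : 3 ≤ n := by omega
  have h4n : (2 : ℤ) ^ (n - 1) = 4 * 2 ^ (n - 3) := by
    have : n - 1 = (n - 3) + 2 := by omega
    rw [this, pow_add]; ring
  -- L2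
  have hL2 : ∀ g : P, g * a * g⁻¹ ≠ a * t := by
    intro y0 hy0
    have hconjm : ∀ m : ℤ, y0 * a ^ m * y0⁻¹ = a ^ m * t ^ m := by
      intro m
      rw [hconj y0 a _ m hy0, (show Commute a t from hta).mul_zpow]
    -- y0² ∈ A
    have hyy : y0 * y0 ∈ Subgroup.zpowers a := by
      apply hmemA
      have h1 : (y0 * y0) * a * (y0 * y0)⁻¹ = y0 * (y0 * a * y0⁻¹) * y0⁻¹ := by group
      rw [h1, hy0]
      have h2 : y0 * (a * t) * y0⁻¹ = (y0 * a * y0⁻¹) * (y0 * t * y0⁻¹) := by group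
      rw [h2, hy0, htc, mul_assoc, htt, mul_one]
    obtain ⟨j, hj⟩ := hyy
    have hj' : y0 * y0 = a ^ j := hj.symm
    have h1 := hbb y0 j hj'
    rw [hconjm] at h1
    have h2 : t ^ j = 1 := mul_eq_left.mp h1
    have hje : Even j := by
      by_contra h
      rw [Int.not_even_iff_odd] at h
      rw [(zpow_two_cases htt j).2 h] at h2
      exact ht1 h2
    obtain ⟨j', hjj⟩ := hje
    -- choose i
    obtain ⟨i, hi⟩ : ∃ i : ℤ, a ^ (2 * i + j) * t ^ i = 1 := by
      rcases Int.even_or_odd j' with h | h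
      · refine ⟨-j', ?_⟩
        have e1 : 2 * (-j') + j = 0 := by omega
        rw [e1, zpow_zero, one_mul]
        exact (zpow_two_cases htt _).1 h.neg
      · refine ⟨-j' + 2 ^ (n - 2), ?_⟩
        have e1 : 2 * (-j' + 2 ^ (n - 2)) + j = 2 ^ (n - 1) := by
          have : n - 1 = (n - 2) + 1 := by omega
          rw [this, pow_succ]
          linarith
        have e2 : Odd (-j' + (2 : ℤ) ^ (n - 2)) := by
          have : Even ((2 : ℤ) ^ (n - 2)) := (even_two).pow_of_ne_zero (by omega)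
          exact h.neg.add_even this
        rw [e1, ← ht, (zpow_two_cases htt _).2 e2, htt]
    obtain ⟨y, hy⟩ : ∃ y, y = a ^ i * y0 := ⟨_, rfl⟩
    have hyy : y * y = 1 := by
      have e1 : y * y = a ^ i * (y0 * a ^ i * y0⁻¹) * (y0 * y0) := by rw [hy]; group
      rw [e1, hconjm, hj', ← hi]
      have e2 : (a ^ i * (a ^ i * t ^ i)) * a ^ j = a ^ i * a ^ i * a ^ j * t ^ i := by
        have : Commute (t ^ i) (a ^ j) := ((show Commute a t from hta).symm.zpow_left i).zpow_right j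
        rw [mul_assoc, mul_assoc, this.eq]; simp [mul_assoc]
      rw [e2, ← zpow_add, ← zpow_add, two_mul]
    have hya : y * a * y⁻¹ = a * t := by
      have e1 : y * a * y⁻¹ = a ^ i * (y0 * a * y0⁻¹) * (a ^ i)⁻¹ := by rw [hy]; group
      rw [e1, hy0]
      have : Commute (a ^ i) (a * t) := ((Commute.refl a).mul_right hta).zpow_left i
      rw [this.eq, mul_inv_cancel_right]
    have hyA : y ∉ Subgroup.zpowers a := by
      intro h
      have := hcommA y h
      rw [hya] at this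
      exact ht1 (mul_eq_left.mp this)
    have hy1 : y ≠ 1 := by rintro rfl; exact hyA (one_mem _)
    have hyt : y ≠ t := by intro h; exact hyA (by rw [h, ht]; exact Subgroup.zpow_mem_zpowers a _)
    have hyconj : ∀ m : ℤ, y * a ^ m * y⁻¹ = a ^ m * t ^ m := by
      intro m
      rw [hconj y a _ m hya, (show Commute a t from hta).mul_zpow]
    refine no_four hn htt ht1 hyy hy1 hyt (mul_inv_eq_iff_eq_mul.mp (htc y)).symm htc ?_
    intro g
    -- g y g⁻¹ acts as y
    obtain ⟨m, hm⟩ := hact g⁻¹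
    have hmo := hodd _ _ hm
    have e1 : (g * y * g⁻¹) * a * (g * y * g⁻¹)⁻¹ = a * t := by
      have e2 : (g * y * g⁻¹) * a * (g * y * g⁻¹)⁻¹ = g * (y * (g⁻¹ * a * g⁻¹⁻¹) * y⁻¹) * g⁻¹ := by group
      rw [e2, hm, hyconj, (zpow_two_cases htt m).2 hmo, ← hm]
      have e3 : g * (g⁻¹ * a * g⁻¹⁻¹ * t) * g⁻¹ = a * (g * t * g⁻¹) := by group
      rw [e3, htc]
    have e4 : (g * y * g⁻¹) * y⁻¹ ∈ Subgroup.zpowers a := by
      apply hmemA
      have e5 : (g * y * g⁻¹) * y⁻¹ * a * ((g * y * g⁻¹) * y⁻¹)⁻¹ = (g * y * g⁻¹) * (y⁻¹ * a * y) * (g * y * g⁻¹)⁻¹ := by group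
      have e6 : y⁻¹ * a * y = a * t := by
        have : y⁻¹ = y := inv_eq_of_mul_eq_one_left hyy
        rw [← hya, this]
      rw [e5, e6]
      have e7 : (g * y * g⁻¹) * (a * t) * (g * y * g⁻¹)⁻¹ = ((g * y * g⁻¹) * a * (g * y * g⁻¹)⁻¹) * ((g * y * g⁻¹) * t * (g * y * g⁻¹)⁻¹) := by group
      rw [e7, e1, htc, mul_assoc, htt, mul_one]
    obtain ⟨s, hs⟩ := e4
    have hs' : g * y * g⁻¹ = a ^ s * y := mul_inv_eq_iff_eq_mul.mp hs.symm
    have e8 : (a ^ s * y) * (a ^ s * y) = 1 := by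
      rw [← hs']
      have : (g * y * g⁻¹) * (g * y * g⁻¹) = g * (y * y) * g⁻¹ := by group
      rw [this, hyy]; group
    have e9 : a ^ (2 * s) * t ^ s = 1 := by
      have : (a ^ s * y) * (a ^ s * y) = a ^ s * (y * a ^ s * y⁻¹) * (y * y) := by group
      rw [this, hyconj, hyy, mul_one, ← mul_assoc, ← zpow_add, ← two_mul] at e8
      exact e8
    rcases Int.even_or_odd s with h | h
    · rw [(zpow_two_cases htt s).1 h, mul_one, hpow] at e9
      obtain ⟨c, hc⟩ := e9
      have e10 : s = 2 ^ (n - 1) * c := by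
        rw [h2n] at hc
        linarith
      rw [hs', e10, zpow_mul, ← ht]
      rcases Int.even_or_odd c with h' | h'
      · left; rw [(zpow_two_cases htt c).1 h', one_mul]
      · right; rw [(zpow_two_cases htt c).2 h']
    · exfalso
      rw [(zpow_two_cases htt s).2 h] at e9
      have e10 : a ^ (4 * s) = 1 := by
        have e11 : a ^ (2 * s) = t := by
          rw [← hti]; exact eq_inv_of_mul_eq_one_left e9
        have : (4 : ℤ) * s = 2 * s + 2 * s := by ring
        rw [this, zpow_add, e11, htt]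
      rw [hpow, h2n, h4n] at e10
      obtain ⟨c, hc⟩ := e10
      obtain ⟨d, hd⟩ := h
      have : s = 2 * (2 ^ (n - 3) * c) := by linarith
      omega
  -- L3
  have hL3 : ∀ g : P, g * g ∈ Subgroup.zpowers a := by
    intro g
    by_contra hcon
    obtain ⟨k, hk1, hk2⟩ := exists_sq_mem hP (Subgroup.zpowers a) (g * g) hcon
    obtain ⟨w, hw⟩ : ∃ w, w = g ^ (2 ^ k) := ⟨_, rfl⟩
    have hww : (g * g) ^ (2 ^ k) = w * w := by
      rw [hw, (Commute.refl g).mul_pow]
    rw [hww] at hk1 hk2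
    clear hww
    obtain ⟨m, hm⟩ := hact w
    have hmo := hodd w m hm
    have e1 := hmul w w m m hm hm
    have e2 := hmul (w * w) (w * w) _ _ e1 e1
    have e3 := hcommA _ hk2
    rw [e2] at e3
    obtain ⟨c, hc⟩ := hmo
    rcases hL1 _ e3 with h | h | h | h
    · exact hk1 (hmemA _ (e1.trans h))
    · exact hL2 _ (e1.trans h)
    · have h5 : a ^ (m * m + 1) = 1 := by rw [zpow_add, h, zpow_one, inv_mul_cancel]
      rw [hpow, h2n, h4n] at h5
      obtain ⟨d, hd⟩ := h5
      have e4 : m * m + 1 = 4 * (c * c + c) + 2 := by rw [hc]; ring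
      have e5 : 4 * (c * c + c) + 2 = 4 * (2 ^ (n - 3) * 2 * d) := by rw [← e4, hd]; ring
      omega
    · have h5 : a ^ (m * m + 1 - 2 ^ (n - 1)) = 1 := by
        rw [zpow_sub, zpow_add, h, zpow_one, ← ht, hti]
        have : a⁻¹ * t * a * t = a⁻¹ * (a * t) * t := by rw [hta]; simp [mul_assoc]
        rw [this, inv_mul_cancel_left, htt]
      rw [hpow, h2n, h4n] at h5
      obtain ⟨d, hd⟩ := h5
      have e4 : m * m + 1 = 4 * (c * c + c) + 2 := by rw [hc]; ring
      have e5 : 4 * (c * c + c) + 2 = 4 * (2 ^ (n - 3) * 2 * d + 2 ^ (n - 3)) := by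
        rw [← e4]; linear_combination hd
      omega
  -- L4
  have hL4 : ∀ g, g ∉ Subgroup.zpowers a → g * a * g⁻¹ = a⁻¹ ∨ g * a * g⁻¹ = a⁻¹ * t := by
    intro g hg
    obtain ⟨m, hm⟩ := hact g
    have e1 := hmul g g m m hm hm
    rw [hcommA _ (hL3 g)] at e1
    rcases hL1 _ e1.symm with h | h | h | h
    · exact absurd (hmemA _ (hm.trans h)) hg
    · exact absurd (hm.trans h) (hL2 g)
    · left; exact hm.trans h
    · right; exact hm.trans h
  have hidx : ∀ g h : P, g ∉ Subgroup.zpowers a → h ∉ Subgroup.zpowers a → g * h⁻¹ ∈ Subgroup.zpowers a := by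
    intro g h hg hh
    apply hmemA
    have hh' : h⁻¹ ∉ Subgroup.zpowers a := fun h' => hh (by rwa [inv_mem_iff] at h')
    have e1 : (g * h⁻¹) * a * (g * h⁻¹)⁻¹ = g * (h⁻¹ * a * h⁻¹⁻¹) * g⁻¹ := by group
    have e2 : ∀ x y : P, g * (x * y) * g⁻¹ = (g * x * g⁻¹) * (g * y * g⁻¹) := by intro x y; group
    have e3 : g * a⁻¹ * g⁻¹ = (g * a * g⁻¹)⁻¹ := by group
    rcases hL4 g hg with h1 | h1 <;> rcases hL4 h⁻¹ hh' with h2 | h2
    · rw [e1, h2, e3, h1, inv_inv]
    · exfalso
      apply hL2 (g * h⁻¹)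
      rw [e1, h2, e2, e3, h1, inv_inv, htc]
    · exfalso
      apply hL2 (g * h⁻¹)
      rw [e1, h2, e3, h1, mul_inv_rev, inv_inv, hti, ← hta]
    · rw [e1, h2, e2, e3, h1, mul_inv_rev, inv_inv, hti, htc, ← hta, mul_assoc, htt, mul_one]
  -- the final case distinction
  have h2n' : a ^ (2 ^ (n - 1)) = t := by rw [ht]; norm_cast
  obtain ⟨j, hj⟩ := hL3 b0
  have hj' : b0 * b0 = a ^ j := hj.symm
  rcases hL4 b0 hb0 with hb | hb
  · have h2 := hbb b0 j hj'
    rw [hconj b0 a _ j hb, inv_zpow'] at h2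
    have h3 : a ^ (2 * j) = 1 := by
      rw [two_mul, zpow_add]
      nth_rewrite 1 [← h2]
      rw [← zpow_add, neg_add_cancel, zpow_zero]
    rw [hpow, h2n] at h3
    obtain ⟨c, hc⟩ := h3
    have hjc : j = 2 ^ (n - 1) * c := by linarith
    have h4 : a ^ j = t ^ c := by rw [hjc, zpow_mul, ← ht]
    refine ⟨n, a, b0, by omega, hna, hb0, fun g hg => hidx g b0 hg hb0, ?_⟩
    rcases Int.even_or_odd c with h | h
    · right; left
      exact ⟨hn3, by rw [hj', h4, (zpow_two_cases htt c).1 h], hb⟩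
    · left
      exact ⟨by rw [hj', h4, (zpow_two_cases htt c).2 h, h2n'], hb⟩
  · have hexp : a ^ (2 ^ (n - 1) - 1) = a⁻¹ * t := by
      rw [← h2n', ← mul_right_inj a, mul_inv_cancel_left, ← pow_succ']
      congr 1
      have : 1 ≤ 2 ^ (n - 1) := Nat.one_le_two_pow
      omega
    have h2 := hbb b0 j hj'
    rw [hconj b0 a _ j hb, ((show Commute a t from hta).inv_left).mul_zpow, inv_zpow'] at h2
    have h3 : a ^ (2 * j) = t ^ j := by
      have : a ^ (2 * j) = a ^ j * a ^ j := by rw [two_mul, zpow_add]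
      rw [this]
      nth_rewrite 2 [← h2]
      rw [← mul_assoc, ← zpow_add, add_neg_cancel, zpow_zero, one_mul]
    have hje : Even j := by
      by_contra h
      rw [Int.not_even_iff_odd] at h
      rw [(zpow_two_cases htt j).2 h] at h3
      have e10 : a ^ (4 * j) = 1 := by
        have : (4 : ℤ) * j = 2 * j + 2 * j := by ring
        rw [this, zpow_add, h3, htt]
      rw [hpow, h2n, h4n] at e10
      obtain ⟨c, hc⟩ := e10
      obtain ⟨d, hd⟩ := h
      have : j = 2 * (2 ^ (n - 3) * c) := by linarith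
      omega
    rw [(zpow_two_cases htt j).1 hje, hpow, h2n] at h3
    obtain ⟨c, hc⟩ := h3
    have hjc : j = 2 ^ (n - 1) * c := by linarith
    have h4 : a ^ j = t ^ c := by rw [hjc, zpow_mul, ← ht]
    rcases Int.even_or_odd c with h | h
    · refine ⟨n, a, b0, by omega, hna, hb0, fun g hg => hidx g b0 hg hb0, ?_⟩
      right; right
      exact ⟨hn3, by rw [hj', h4, (zpow_two_cases htt c).1 h], by rw [hb, hexp]⟩
    · have hbt : b0 * b0 = t := by rw [hj', h4, (zpow_two_cases htt c).2 h]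
      have hab : a * b0 ∉ Subgroup.zpowers a := by
        intro h'
        exact hb0 ((Subgroup.mul_mem_cancel_left _ (Subgroup.mem_zpowers a)).mp h')
      refine ⟨n, a, a * b0, by omega, hna, hab, fun g hg => hidx g _ hg hab, ?_⟩
      right; right
      refine ⟨hn3, ?_, ?_⟩
      · have : a * b0 * (a * b0) = a * (b0 * a * b0⁻¹) * (b0 * b0) := by group
        rw [this, hb, hbt, mul_inv_cancel_left, htt]
      · have : a * b0 * a * (a * b0)⁻¹ = a * (b0 * a * b0⁻¹) * a⁻¹ := by group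
        rw [this, hb, hexp, mul_inv_cancel_left, ← hti, ← mul_inv_rev, hta, mul_inv_rev]

end CfsgLib.CycNorm
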