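import Cfsg.Agent.EqBase
import Cfsg.Agent.LibPCyc
import Cfsg.Agent.LibSolvCoprime2
import Cfsg.Agent.LibCoprime
/-!
# p-groups generated by two subsets acting coprimely (helper16)
-/
set_option autoImplicit false
set_option linter.all false
open Cfsg
namespace CfsgLib.DG

universe u v

section
variable {P : Type u} [Group P] {V : Type v} [AddCommGroup V] (ρ : P →* AddMonoid.End V) (p : ℕ)

/-- the norm map -/
noncomputable def nm (x : P) (v : V) : V := ∑ j ∈ Finset.range p, ρ (x ^ j) v

theorem nm_add (x : P) (v w : V) : nm ρ p x (v + w) = nm ρ p x v + nm ρ p x w := by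
  unfold nm
  rw [← Finset.sum_add_distrib]
  exact Finset.sum_congr rfl (fun j _ => map_add _ _ _)

theorem nm_zero (x : P) : nm ρ p x 0 = 0 := by
  unfold nm
  exact Finset.sum_eq_zero (fun j _ => map_zero _)

theorem nm_fixed {x : P} {v : V} (h : ρ x v = v) : nm ρ p x v = p • v := by
  unfold nm
  have h1 : ∀ j : ℕ, ρ (x ^ j) v = v := by
    intro j
    induction j with
    | zero => rw [pow_zero, map_one]; rfl
    | succ k ih =>
      rw [pow_succ, map_mul]
      show ρ (x ^ k) (ρ x v) = v
      rw [h, ih]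
  rw [Finset.sum_congr rfl (fun j _ => h1 j), Finset.sum_const, Finset.card_range]

theorem nm_mem {x : P} (hx : x ^ p = 1) (v : V) : ρ x (nm ρ p x v) = nm ρ p x v := by
  unfold nm
  rw [map_sum]
  have h1 : ∀ j : ℕ, ρ x (ρ (x ^ j) v) = ρ (x ^ (j + 1)) v := by
    intro j
    rw [pow_succ', map_mul]; rfl
  rw [Finset.sum_congr rfl (fun j _ => h1 j)]
  have h2 := Finset.sum_range_succ' (fun j => ρ (x ^ j) v) p
  have h3 := Finset.sum_range_succ (fun j => ρ (x ^ j) v) p
  rw [h2] at h3
  rw [hx, pow_zero] at h3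
  exact add_right_cancel h3

/-- twisting -/
theorem nm_twist {a ζ : P} (hc : a * ζ = ζ * a) (v : V) (hv : ρ a v = ρ ζ v) : nm ρ p a v = nm ρ p ζ v := by
  unfold nm
  apply Finset.sum_congr rfl
  intro j hj
  clear hj
  induction j with
  | zero => rw [pow_zero, pow_zero]
  | succ k ih =>
    have h1 : ρ (a ^ (k + 1)) v = ρ (a ^ k) (ρ a v) := by rw [pow_succ, map_mul]; rfl
    have h2 : ρ (ζ ^ (k + 1)) v = ρ ζ (ρ (ζ ^ k) v) := by rw [pow_succ', map_mul]; rfl
    have h3 : ρ (a ^ k) (ρ ζ v) = ρ ζ (ρ (a ^ k) v) := by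
      have h4 : a ^ k * ζ = ζ * a ^ k := (Commute.pow_left (show Commute a ζ from hc) k)
      have h5 : ρ (a ^ k * ζ) v = ρ (ζ * a ^ k) v := by rw [h4]
      rw [map_mul, map_mul] at h5
      exact h5
    rw [h1, hv, h3, ih, h2]

theorem nm_sum {a ζ : P} (hc : a * ζ = ζ * a) (hp : 0 < p) (hζ : ∀ j, 0 < j → j < p → ∀ v, nm ρ p (ζ ^ j) v = 0) (v : V) :
    ∑ i ∈ Finset.range p, nm ρ p (a * ζ ^ i) v = p • v := by
  unfold nm
  rw [Finset.sum_comm]
  have h1 : ∀ j ∈ Finset.range p, ∑ i ∈ Finset.range p, ρ ((a * ζ ^ i) ^ j) v = ρ (a ^ j) (nm ρ p (ζ ^ j) v) := by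
    intro j _
    unfold nm
    rw [map_sum]
    apply Finset.sum_congr rfl
    intro i _
    have h2 : (a * ζ ^ i) ^ j = a ^ j * (ζ ^ j) ^ i := by
      have h3 : Commute a (ζ ^ i) := Commute.pow_right (show Commute a ζ from hc) i
      rw [h3.mul_pow, ← pow_mul, ← pow_mul, mul_comm i j]
    rw [h2, map_mul]; rfl
  rw [Finset.sum_congr rfl h1]
  rw [Finset.sum_eq_single 0]
  · rw [pow_zero, pow_zero, map_one, nm_fixed ρ p (by rw [map_one]; rfl)]; rfl
  · intro j hj hj0
    rw [hζ j (Nat.pos_of_ne_zero hj0) (Finset.mem_range.mp hj), map_zero]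
  · intro h
    exact absurd (Finset.mem_range.mpr hp) h

end

/-- the key lemma, faithful form -/
theorem key_faithful {P : Type u} [Group P] [Finite P] {V : Type v} [AddCommGroup V] [Finite V] [Nontrivial V] {p : ℕ} (hp : p.Prime) (hp2 : p ≠ 2)
    (hP : IsPGroup p P) (hV : ∀ v : V, p • v = 0 → v = 0) (ρ : P →* AddMonoid.End V) (hinj : Function.Injective ρ) (hnt : Nontrivial P)
    (hirr : ∀ W : AddSubgroup V, (∀ g, ∀ w ∈ W, ρ g w ∈ W) → W = ⊥ ∨ W = ⊤) (C D : Set P) (hC : Subgroup.closure C = ⊤) (hD : Subgroup.closure D = ⊤)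
    (h : ∀ c ∈ C, ∀ d ∈ D, ∀ v : V, ∃ u w : V, ρ d u = u ∧ ρ c w = w ∧ v = u + w) : False := by
  classical
  haveI := Fact.mk hp
  -- central elements are fixed point free
  have hfpf : ∀ z : P, (∀ g, g * z = z * g) → z ≠ 1 → ∀ v, ρ z v = v → v = 0 := by
    intro z hz hz1 v hv
    let W : AddSubgroup V :=
      { carrier := {v | ρ z v = v}
        zero_mem' := map_zero _
        add_mem' := by
          intro a b ha hb
          show ρ z (a + b) = a + b
          rw [map_add, show ρ z a = a from ha, show ρ z b = b from hb]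
        neg_mem' := by
          intro a ha
          show ρ z (-a) = -a
          rw [map_neg, show ρ z a = a from ha] }
    rcases hirr W (by
      intro g w hw
      show ρ z (ρ g w) = ρ g w
      have h1 : ρ (z * g) w = ρ (g * z) w := by rw [hz g]
      rw [map_mul, map_mul] at h1
      have h2 : ρ z (ρ g w) = ρ g (ρ z w) := h1
      rw [h2, show ρ z w = w from hw]) with h1 | h1
    · have h2 : v ∈ W := hv
      rw [h1] at h2
      exact (AddSubgroup.mem_bot).mp h2
    · exfalso
      apply hz1
      apply hinj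
      rw [map_one]
      ext w
      have h2 : w ∈ W := by rw [h1]; trivial
      exact h2
  have hnm : ∀ z : P, (∀ g, g * z = z * g) → z ≠ 1 → z ^ p = 1 → ∀ v, nm ρ p z v = 0 := by
    intro z hz hz1 hzp v
    exact hfpf z hz hz1 _ (nm_mem ρ p hzp v)
  -- non-commuting elements
  have hpick : ∀ E : Set P, Subgroup.closure E = ⊤ → ∀ a : P, ¬ (∀ g, g * a = a * g) → ∃ c ∈ E, c * a ≠ a * c := by
    intro E hE a ha
    by_contra hcon
    push Not at hcon
    apply ha
    intro g
    have h1 : Subgroup.closure E ≤ Subgroup.centralizer ({a} : Set P) := by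
      rw [Subgroup.closure_le]
      intro c hc
      exact Subgroup.mem_centralizer_singleton_iff.mpr (hcon c hc)
    rw [hE] at h1
    exact Subgroup.mem_centralizer_singleton_iff.mp (h1 (Subgroup.mem_top g))
  by_cases hab : ∀ a b : P, a * b = b * a
  · -- commutative case
    have hpick1 : ∀ E : Set P, Subgroup.closure E = ⊤ → ∃ c ∈ E, c ≠ 1 := by
      intro E hE
      by_contra hcon
      push Not at hcon
      have h1 : Subgroup.closure E ≤ ⊥ := by
        rw [Subgroup.closure_le]
        intro c hc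
        rw [hcon c hc]; exact Subgroup.one_mem _
      rw [hE] at h1
      obtain ⟨x, hx⟩ := exists_ne (1 : P)
      exact hx (Subgroup.mem_bot.mp (h1 (Subgroup.mem_top x)))
    obtain ⟨c, hc, hc1⟩ := hpick1 C hC
    obtain ⟨d, hd, hd1⟩ := hpick1 D hD
    obtain ⟨v, hv⟩ := exists_ne (0 : V)
    obtain ⟨u, w, hu, hw, hvw⟩ := h c hc d hd v
    rw [hfpf d (fun g => hab g d) hd1 u hu, hfpf c (fun g => hab g c) hc1 w hw, add_zero] at hvw
    exact hv hvw
  · have hnc : ¬ IsCyclic P := by
      intro hcy
      apply hab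
      letI := IsCyclic.commGroup (α := P)
      intro a b
      exact mul_comm a b
    obtain ⟨A, hAn, hAc, hAp, hAcard⟩ := CfsgLib.PCyc.exists_normal_elem hp hp2 hP hnc
    haveI := hAn
    haveI : Nontrivial A := by
      rw [← Finite.one_lt_card_iff_nontrivial, hAcard]
      exact Nat.one_lt_pow (by norm_num) hp.one_lt
    -- the commutator is central
    have hnil : Group.IsNilpotent P := hP.isNilpotent
    have hcom : ∀ a ∈ A, ∀ g x : P, x * (g * a * g⁻¹ * a⁻¹) = (g * a * g⁻¹ * a⁻¹) * x := by
      intro a ha g x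
      have h1 : ⁅A, (⊤ : Subgroup P)⁆ < A := CfsgLib.SolvCoprime.commutator_top_lt_of_nilpotent A (by
        intro hb
        rw [hb, Subgroup.card_bot] at hAcard
        have := Nat.one_lt_pow (n := 2) (by norm_num) hp.one_lt
        omega)
      have h2 : ⁅A, (⊤ : Subgroup P)⁆ ≤ Subgroup.center P := by
        have h3 : Nat.card (⁅A, (⊤ : Subgroup P)⁆ : Subgroup P) ∣ p ^ 2 := by rw [← hAcard]; exact Subgroup.card_dvd_of_le h1.le
        obtain ⟨k, hk, hk'⟩ := (Nat.dvd_prime_pow hp).mp h3
        have hk2 : k ≠ 2 := by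
          rintro rfl
          exact h1.ne (Subgroup.eq_of_le_of_card_ge h1.le (by rw [hk', hAcard]))
        have hk1 : k = 0 ∨ k = 1 := by omega
        rcases hk1 with rfl | rfl
        · rw [pow_zero] at hk'
          rw [Subgroup.card_eq_one.mp hk']; exact bot_le
        · rw [pow_one] at hk'
          exact CfsgLib.PCyc.le_center_of_card_eq hp hP _ hk'
      have h4 : g * a * g⁻¹ * a⁻¹ ∈ ⁅A, (⊤ : Subgroup P)⁆ := by
        rw [Subgroup.commutator_comm]
        exact Subgroup.commutator_mem_commutator (Subgroup.mem_top g) ha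
      exact (Subgroup.mem_center_iff.mp (h2 h4) x)
    -- a noncentral element
    obtain ⟨a, haA, hanc⟩ : ∃ a ∈ A, ¬ (∀ g, g * a = a * g) := by
      by_contra hcon
      push Not at hcon
      obtain ⟨⟨z, hzA⟩, hz1⟩ := exists_ne (1 : A)
      have hz1' : z ≠ 1 := fun hh => hz1 (Subtype.ext hh)
      have hlt : Subgroup.zpowers z < A := by
        refine lt_of_le_of_ne (by rw [Subgroup.zpowers_le]; exact hzA) ?_
        intro hh
        have h1 : Nat.card (Subgroup.zpowers z) = p ^ 2 := by rw [hh, hAcard]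
        rw [Nat.card_zpowers] at h1
        have h2 : orderOf z ∣ p := orderOf_dvd_of_pow_eq_one (hAp z hzA)
        rw [h1] at h2
        have h3 := Nat.le_of_dvd hp.pos h2
        have h4 := hp.one_lt
        nlinarith
      obtain ⟨a, haA, haz⟩ := Set.exists_of_ssubset hlt
      have h1 : ∀ v : V, p • v = 0 := by
        intro v
        rw [← nm_sum ρ p (a := a) (ζ := z) (hcon a haA z).symm hp.pos ?_ v]
        · apply Finset.sum_eq_zero
          intro i _
          apply hnm
          · intro g
            have h5 : z ^ i ∈ A := Subgroup.pow_mem _ hzA i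
            exact hcon _ (Subgroup.mul_mem _ haA h5) g
          · intro hh
            apply haz
            have h6 : a = (z ^ i)⁻¹ := eq_inv_of_mul_eq_one_left hh
            rw [h6]
            exact Subgroup.inv_mem _ (Subgroup.pow_mem _ (Subgroup.mem_zpowers z) i)
          · exact hAp _ (Subgroup.mul_mem _ haA (Subgroup.pow_mem _ hzA i))
        · intro j hj0 hjp v
          apply hnm
          · intro g
            exact hcon _ (Subgroup.pow_mem _ hzA j) g
          · intro hh
            have h2 : orderOf z ∣ j := orderOf_dvd_of_pow_eq_one hh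
            have h3 : orderOf z = p := orderOf_eq_prime (hAp z hzA) hz1'
            rw [h3] at h2
            exact absurd (Nat.le_of_dvd hj0 h2) (by omega)
          · exact hAp _ (Subgroup.pow_mem _ hzA j)
      obtain ⟨v, hv⟩ := exists_ne (0 : V)
      exact hv (hV v (h1 v))
    have hap : a ^ p = 1 := hAp a haA
    obtain ⟨s, hs⟩ : ∃ s, s = Nat.card {v : V // ρ a v = v} := ⟨_, rfl⟩
    -- data attached to an element which does not commute with `a`
    have main : ∀ c : P, c * a ≠ a * c → Nat.card {v : V // ρ c v = v} ≤ s ∧ s * (s * s) ≤ Nat.card V := by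
      intro c hca
      obtain ⟨ζ, hζ⟩ : ∃ ζ, ζ = c * a * c⁻¹ * a⁻¹ := ⟨_, rfl⟩
      have hζc : ∀ g, g * ζ = ζ * g := by
        intro g
        rw [hζ]; exact hcom a haA c g
      have hζ1 : ζ ≠ 1 := by
        intro hh
        apply hca
        rw [hζ] at hh
        calc c * a = (c * a * c⁻¹ * a⁻¹) * (a * c) := by group
          _ = a * c := by rw [hh, one_mul]
      have hcaζ : c * a * c⁻¹ = a * ζ := by
        rw [hζc a, hζ]; group
      have hζp : ζ ^ p = 1 := by
        have h1 : (c * a * c⁻¹) ^ p = 1 := by rw [conj_pow, hap]; group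
        rw [hcaζ, (show Commute a ζ from hζc a).mul_pow, hap, one_mul] at h1
        exact h1
      have hord : orderOf ζ = p := orderOf_eq_prime hζp hζ1
      have hζn : ∀ k : ℤ, ¬ ((p : ℤ) ∣ k) → ∀ v, nm ρ p (ζ ^ k) v = 0 := by
        intro k hk v
        apply hnm
        · intro g
          exact (Commute.zpow_right (show Commute g ζ from hζc g) k)
        · intro hh
          apply hk
          rw [← hord]
          exact orderOf_dvd_iff_zpow_eq_one.mpr hh
        · rw [← zpow_natCast, ← zpow_mul, mul_comm, zpow_mul, zpow_natCast, hζp, one_zpow]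
      have hci : ∀ i : ℕ, c ^ i * a * (c ^ i)⁻¹ = a * ζ ^ i := by
        intro i
        induction i with
        | zero => rw [pow_zero, pow_zero]; group
        | succ k ih =>
          have h2 : c ^ (k + 1) * a * (c ^ (k + 1))⁻¹ = c * (c ^ k * a * (c ^ k)⁻¹) * c⁻¹ := by
            rw [pow_succ']; group
          have h3 : c * ζ ^ k = ζ ^ k * c := Commute.pow_right (show Commute c ζ from hζc c) k
          rw [h2, ih]
          calc c * (a * ζ ^ k) * c⁻¹ = c * a * (ζ ^ k * c⁻¹) := by group
            _ = c * a * (c⁻¹ * ζ ^ k) := by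
                congr 1
                exact (Commute.inv_right (show Commute (ζ ^ k) c from h3.symm))
            _ = (c * a * c⁻¹) * ζ ^ k := by group
            _ = a * ζ ^ (k + 1) := by rw [hcaζ, pow_succ']; group
      constructor
      · -- injection
        rw [hs]
        apply Nat.card_le_card_of_injective (fun v : {v : V // ρ c v = v} => (⟨nm ρ p a v, nm_mem ρ p hap _⟩ : {v : V // ρ a v = v}))
        intro v w hvw
        have h1 : nm ρ p a (v : V) = nm ρ p a (w : V) := congrArg Subtype.val hvw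
        have h2 : nm ρ p a ((v : V) - w) = 0 := by
          have h3 := nm_add ρ p a ((v : V) - w) w
          rw [sub_add_cancel, h1] at h3
          exact left_eq_add.mp (h3.trans (add_comm _ _))
        obtain ⟨x, hx⟩ : ∃ x, x = (v : V) - w := ⟨_, rfl⟩
        rw [← hx] at h2
        have hxc : ρ c x = x := by rw [hx, map_sub, v.2, w.2]
        have hxi : ∀ i : ℕ, ρ (c ^ i) x = x := by
          intro i
          induction i with
          | zero => rw [pow_zero, map_one]; rfl
          | succ k ih =>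
            rw [pow_succ, map_mul]
            show ρ (c ^ k) (ρ c x) = x
            rw [hxc, ih]
        have h4 : ∀ i : ℕ, nm ρ p (a * ζ ^ i) x = 0 := by
          intro i
          have h5 : nm ρ p (a * ζ ^ i) x = ρ (c ^ i) (nm ρ p a x) := by
            unfold nm
            rw [map_sum]
            apply Finset.sum_congr rfl
            intro j _
            rw [← hci i, conj_pow, map_mul, map_mul]
            show ρ (c ^ i) (ρ (a ^ j) (ρ (c ^ i)⁻¹ x)) = _
            have h6 : ρ (c ^ i)⁻¹ x = x := by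
              have h7 : ρ (c ^ i)⁻¹ (ρ (c ^ i) x) = x := by
                have h8 : ρ ((c ^ i)⁻¹ * c ^ i) x = x := by rw [inv_mul_cancel, map_one]; rfl
                rw [map_mul] at h8
                exact h8
              rw [hxi i] at h7
              exact h7
            rw [h6]
          rw [h5, h2, map_zero]
        have h5 : p • x = 0 := by
          rw [← nm_sum ρ p (a := a) (ζ := ζ) (hζc a) hp.pos ?_ x]
          · exact Finset.sum_eq_zero (fun i _ => h4 i)
          · intro j hj0 hjp v
            have := hζn j (by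
              intro hh
              exact absurd (Nat.le_of_dvd hj0 (by exact_mod_cast hh)) (by omega)) v
            rwa [zpow_natCast] at this
        have h6 := hV x h5
        apply Subtype.ext
        rw [hx] at h6
        exact sub_eq_zero.mp h6
      · -- the three spaces are independent
        have hfx : ∀ (i : ℕ) (v : V), ρ a v = v → ρ a (ρ (c ^ i) v) = ρ (ζ ^ (-(i : ℤ))) (ρ (c ^ i) v) := by
          intro i v hv
          have h1 : ζ ^ i * (a * c ^ i) = c ^ i * a := by
            have h2 := hci i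
            have h3 : a * ζ ^ i = ζ ^ i * a := Commute.pow_right (show Commute a ζ from hζc a) i
            calc ζ ^ i * (a * c ^ i) = (ζ ^ i * a) * c ^ i := by group
              _ = (c ^ i * a * (c ^ i)⁻¹) * c ^ i := by rw [← h3, h2]
              _ = c ^ i * a := by group
          have h2 : a * c ^ i = ζ ^ (-(i : ℤ)) * (c ^ i * a) := by
            rw [← h1, zpow_neg, zpow_natCast]; group
          have h3 : ρ (a * c ^ i) v = ρ (ζ ^ (-(i : ℤ)) * (c ^ i * a)) v := by rw [h2]
          rw [map_mul, map_mul, map_mul] at h3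
          have h4 : ρ a (ρ (c ^ i) v) = ρ (ζ ^ (-(i : ℤ))) (ρ (c ^ i) (ρ a v)) := h3
          rw [h4, hv]
        have hz : ∀ (i : ℕ) (v : V), ¬ ((p : ℤ) ∣ (i : ℤ)) → ρ a v = v → nm ρ p a (ρ (c ^ i) v) = 0 := by
          intro i v hi hv
          rw [nm_twist ρ p (a := a) (ζ := ζ ^ (-(i : ℤ))) (Commute.zpow_right (show Commute a ζ from hζc a) _) _ (hfx i v hv)]
          apply hζn
          intro hh
          exact hi (by simpa using hh)
        have h1n : ¬ ((p : ℤ) ∣ ((1 : ℕ) : ℤ)) := by
          intro hh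
          have := Nat.le_of_dvd (by norm_num) (show p ∣ 1 by exact_mod_cast hh)
          have := hp.one_lt
          omega
        have h2n : ¬ ((p : ℤ) ∣ ((2 : ℕ) : ℤ)) := by
          intro hh
          have h3 : p ∣ 2 := by exact_mod_cast hh
          exact hp2 ((Nat.prime_dvd_prime_iff_eq hp Nat.prime_two).mp h3)
        have hone : ∀ v : V, ρ (c ^ 0) v = v := fun v => by rw [pow_zero, map_one]; rfl
        have hstep : ∀ v0 w : V, ρ a v0 = v0 → nm ρ p a w = 0 → v0 + w = 0 → v0 = 0 := by
          intro v0 w hv0 hw hvw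
          have h3 : nm ρ p a (v0 + w) = 0 := by rw [hvw, nm_zero]
          rw [nm_add, hw, add_zero, nm_fixed ρ p hv0] at h3
          exact hV v0 h3
        have key3 : ∀ v0 v1 v2 : V, ρ a v0 = v0 → ρ a v1 = v1 → ρ a v2 = v2 → v0 + (ρ (c ^ 1) v1 + ρ (c ^ 2) v2) = 0 → v0 = 0 ∧ v1 = 0 ∧ v2 = 0 := by
          intro v0 v1 v2 hv0 hv1 hv2 hsum
          have e0 : v0 = 0 := by
            apply hstep v0 _ hv0 _ hsum
            rw [nm_add, hz 1 v1 h1n hv1, hz 2 v2 h2n hv2, add_zero]
          rw [e0, zero_add] at hsum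
          have hinv : ∀ x : V, ρ (c ^ 1) x = 0 → x = 0 := by
            intro x hx
            have h8 : ρ ((c ^ 1)⁻¹ * c ^ 1) x = x := by rw [inv_mul_cancel, map_one]; rfl
            rw [map_mul] at h8
            have h9 : ρ (c ^ 1)⁻¹ (ρ (c ^ 1) x) = x := h8
            rw [hx, map_zero] at h9
            exact h9.symm
          have hsum2 : v1 + ρ (c ^ 1) v2 = 0 := by
            apply hinv
            rw [map_add]
            have h8 : ρ (c ^ 1) (ρ (c ^ 1) v2) = ρ (c ^ 2) v2 := by
              have h9 : ρ (c ^ 2) v2 = ρ (c ^ 1 * c ^ 1) v2 := by rw [← pow_add]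
              rw [h9, map_mul]; rfl
            rw [h8, hsum]
          have e1 : v1 = 0 := hstep v1 _ hv1 (hz 1 v2 h1n hv2) hsum2
          rw [e1, zero_add] at hsum2
          exact ⟨e0, e1, hinv v2 hsum2⟩
        have hle : Nat.card ({v : V // ρ a v = v} × ({v : V // ρ a v = v} × {v : V // ρ a v = v})) ≤ Nat.card V := by
          apply Nat.card_le_card_of_injective (fun x => (x.1 : V) + (ρ (c ^ 1) (x.2.1 : V) + ρ (c ^ 2) (x.2.2 : V)))
          rintro ⟨v0, v1, v2⟩ ⟨w0, w1, w2⟩ hvw
          have hvw' : (v0 : V) + (ρ (c ^ 1) (v1 : V) + ρ (c ^ 2) (v2 : V)) = (w0 : V) + (ρ (c ^ 1) (w1 : V) + ρ (c ^ 2) (w2 : V)) := hvw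
          obtain ⟨k0, k1, k2⟩ := key3 ((v0 : V) - w0) ((v1 : V) - w1) ((v2 : V) - w2)
            (by rw [map_sub, v0.2, w0.2]) (by rw [map_sub, v1.2, w1.2]) (by rw [map_sub, v2.2, w2.2])
            (by
              rw [map_sub, map_sub]
              calc (v0 : V) - w0 + (ρ (c ^ 1) (v1 : V) - ρ (c ^ 1) (w1 : V) + (ρ (c ^ 2) (v2 : V) - ρ (c ^ 2) (w2 : V)))
                  = ((v0 : V) + (ρ (c ^ 1) (v1 : V) + ρ (c ^ 2) (v2 : V))) - ((w0 : V) + (ρ (c ^ 1) (w1 : V) + ρ (c ^ 2) (w2 : V))) := by abel
                _ = 0 := by rw [hvw', sub_self])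
          rw [Subtype.ext (sub_eq_zero.mp k0), Subtype.ext (sub_eq_zero.mp k1), Subtype.ext (sub_eq_zero.mp k2)]
        rw [Nat.card_prod, Nat.card_prod, ← hs] at hle
        exact hle
    obtain ⟨c, hc, hca⟩ := hpick C hC a hanc
    obtain ⟨d, hd, hda⟩ := hpick D hD a hanc
    obtain ⟨hc1, hs3⟩ := main c hca
    obtain ⟨hd1, -⟩ := main d hda
    have h1 : Nat.card V ≤ Nat.card ({v : V // ρ d v = v} × {v : V // ρ c v = v}) := by
      apply Nat.card_le_card_of_surjective (fun x => (x.1 : V) + (x.2 : V))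
      intro v
      obtain ⟨u, w, hu, hw, hvw⟩ := h c hc d hd v
      exact ⟨(⟨u, hu⟩, ⟨w, hw⟩), hvw.symm⟩
    rw [Nat.card_prod] at h1
    have h2 : Nat.card V ≤ s * s := h1.trans (Nat.mul_le_mul hd1 hc1)
    have h3 : 1 < Nat.card V := Finite.one_lt_card
    have h4 : s ≤ 1 := by
      by_contra hcon
      push Not at hcon
      nlinarith [Nat.mul_pos (show 0 < s by omega) (show 0 < s by omega)]
    have h5 : s * s ≤ 1 := by nlinarith
    omega

end CfsgLib.DG
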