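import Cfsg.Agent.EqBase
import Cfsg.Agent.LibDG1
/-!
# p-groups generated by two subsets acting coprimely (helper16): reduction
-/
set_option autoImplicit false
set_option linter.all false
open Cfsg
open scoped Pointwise
namespace CfsgLib.DG

universe u v

theorem key {P : Type u} [Group P] [Finite P] {V : Type v} [AddCommGroup V] [Finite V] [Nontrivial V] {p : ℕ} (hp : p.Prime) (hp2 : p ≠ 2)
    (hP : IsPGroup p P) (hV : ∀ v : V, p • v = 0 → v = 0) (ρ : P →* AddMonoid.End V) (hnt : ∃ g v, ρ g v ≠ v)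
    (hirr : ∀ W : AddSubgroup V, (∀ g, ∀ w ∈ W, ρ g w ∈ W) → W = ⊥ ∨ W = ⊤) (C D : Set P) (hC : Subgroup.closure C = ⊤) (hD : Subgroup.closure D = ⊤)
    (h : ∀ c ∈ C, ∀ d ∈ D, ∀ v : V, ∃ u w : V, ρ d u = u ∧ ρ c w = w ∧ v = u + w) : False := by
  classical
  let ρ' : P ⧸ ρ.ker →* AddMonoid.End V := QuotientGroup.lift ρ.ker ρ le_rfl
  have hρ' : ∀ g : P, ρ' (QuotientGroup.mk g) = ρ g := fun g => rfl
  have hinj : Function.Injective ρ' := by
    rw [injective_iff_map_eq_one]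
    intro x hx
    obtain ⟨g, rfl⟩ := QuotientGroup.mk_surjective x
    exact (QuotientGroup.eq_one_iff g).mpr (MonoidHom.mem_ker.mpr hx)
  have hnt' : Nontrivial (P ⧸ ρ.ker) := by
    obtain ⟨g, v, hgv⟩ := hnt
    refine ⟨QuotientGroup.mk g, 1, ?_⟩
    intro hh
    apply hgv
    have h1 : ρ g = 1 := by rw [← hρ', hh, map_one]
    rw [h1]; rfl
  have hcl : ∀ E : Set P, Subgroup.closure E = ⊤ → Subgroup.closure ((QuotientGroup.mk' ρ.ker) '' E) = ⊤ := by
    intro E hE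
    rw [← MonoidHom.map_closure, hE, ← MonoidHom.range_eq_map, MonoidHom.range_eq_top]
    exact QuotientGroup.mk'_surjective _
  refine key_faithful hp hp2 (hP.to_quotient _) hV ρ' hinj hnt' ?_ _ _ (hcl C hC) (hcl D hD) ?_
  · intro W hW
    apply hirr W
    intro g w hw
    exact hW (QuotientGroup.mk g) w hw
  · rintro _ ⟨c, hc, rfl⟩ _ ⟨d, hd, rfl⟩ v
    exact h c hc d hd v

/-- the factorization -/
theorem star {G : Type u} [Group G] [Finite G] {p : ℕ} [Fact p.Prime] (P : Sylow p G) (U : Subgroup G) (hPU : (P : Subgroup G) ≤ Subgroup.normalizer (U : Set G))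
    (hinf : ∀ x ∈ U, x ∈ (P : Subgroup G) → x = 1) {c d : G} (hc : c ∈ (P : Subgroup G)) (hd : d ∈ (P : Subgroup G)) {x : G} (hx : x ∈ U)
    (hT : IsPGroup p ↥(Subgroup.closure ({x * c * x⁻¹, d} : Set G))) :
    ∃ w ∈ U, w * d = d * w ∧ (w⁻¹ * x) * c = c * (w⁻¹ * x) := by
  classical
  let L : Subgroup G := U ⊔ (P : Subgroup G)
  have hPL : (P : Subgroup G) ≤ L := le_sup_right
  have hUL : U ≤ L := le_sup_left
  let PL : Sylow p L := P.subtype hPL
  obtain ⟨Q, hQ⟩ := (hT.comap_subtype (K := L)).exists_le_sylow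
  obtain ⟨y, hy⟩ := MulAction.exists_smul_eq L PL Q
  obtain ⟨u0, hu0, g0, hg0, hyu⟩ := (CfsgLib.SolvCoprime.mem_sup_iff_of_le_normalizer hPU).mp y.2
  have hconj : ∀ t ∈ Subgroup.closure ({x * c * x⁻¹, d} : Set G), (htL : t ∈ L) → u0⁻¹ * t * u0 ∈ (P : Subgroup G) := by
    intro t ht htL
    have h1 : (⟨t, htL⟩ : L) ∈ Q := hQ ht
    have h2 : (⟨t, htL⟩ : L) ∈ (y • PL : Sylow p L) := by rw [hy]; exact h1
    have h3 : (⟨t, htL⟩ : L) ∈ (MulAut.conj y • (PL : Subgroup L)) := h2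
    rw [Subgroup.mem_pointwise_smul_iff_inv_smul_mem, MulAut.smul_def, ← map_inv, MulAut.conj_apply, inv_inv] at h3
    have h4 : ((y : G))⁻¹ * t * y ∈ (P : Subgroup G) := h3
    have h5 : u0⁻¹ * t * u0 = g0 * ((y : G)⁻¹ * t * y) * g0⁻¹ := by
      rw [← hyu]; group
    rw [h5]
    exact (P : Subgroup G).mul_mem ((P : Subgroup G).mul_mem hg0 h4) ((P : Subgroup G).inv_mem hg0)
  have hfix : ∀ e ∈ (P : Subgroup G), ∀ w ∈ U, w * e * w⁻¹ ∈ (P : Subgroup G) → w * e = e * w := by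
    intro e he w hw h1
    have h2 : w * e * w⁻¹ * e⁻¹ ∈ (P : Subgroup G) := (P : Subgroup G).mul_mem h1 ((P : Subgroup G).inv_mem he)
    have h3 : w * e * w⁻¹ * e⁻¹ ∈ U := by
      have h4 : e * w⁻¹ * e⁻¹ ∈ U := (Subgroup.mem_normalizer_iff.mp (hPU he) _).mp (U.inv_mem hw)
      have h5 : w * e * w⁻¹ * e⁻¹ = w * (e * w⁻¹ * e⁻¹) := by group
      rw [h5]; exact U.mul_mem hw h4
    have h4 := hinf _ h3 h2
    calc w * e = (w * e * w⁻¹ * e⁻¹) * (e * w) := by group
      _ = e * w := by rw [h4, one_mul]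
  have hdT : d ∈ Subgroup.closure ({x * c * x⁻¹, d} : Set G) := Subgroup.subset_closure (by simp)
  have hcT : x * c * x⁻¹ ∈ Subgroup.closure ({x * c * x⁻¹, d} : Set G) := Subgroup.subset_closure (by simp)
  refine ⟨u0, hu0, ?_, ?_⟩
  · have h1 := hconj d hdT (hPL hd)
    have h2 := hfix d hd u0⁻¹ (U.inv_mem hu0) (by rw [inv_inv]; exact h1)
    calc u0 * d = u0 * (d * u0⁻¹) * u0 := by group
      _ = u0 * (u0⁻¹ * d) * u0 := by rw [h2]
      _ = d * u0 := by group
  · have hxL : x * c * x⁻¹ ∈ L := L.mul_mem (L.mul_mem (hUL hx) (hPL hc)) (L.inv_mem (hUL hx))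
    have h1 := hconj _ hcT hxL
    apply hfix c hc (u0⁻¹ * x) (U.mul_mem (U.inv_mem hu0) hx)
    have h2 : u0⁻¹ * x * c * (u0⁻¹ * x)⁻¹ = u0⁻¹ * (x * c * x⁻¹) * u0 := by group
    rw [h2]; exact h1

theorem norm_comm {G : Type u} [Group G] {U : Subgroup G} {g : G} (hg : g ∈ Subgroup.normalizer (U : Set G)) : ∀ x ∈ ⁅U, U⁆, g * x * g⁻¹ ∈ ⁅U, U⁆ := by
  intro x hx
  have h1 : (⁅U, U⁆).map (MulAut.conj g).toMonoidHom ≤ ⁅U, U⁆ := by
    rw [Subgroup.map_commutator]
    apply Subgroup.commutator_mono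
    · rintro _ ⟨y, hy, rfl⟩
      exact (Subgroup.mem_normalizer_iff.mp hg y).mp hy
    · rintro _ ⟨y, hy, rfl⟩
      exact (Subgroup.mem_normalizer_iff.mp hg y).mp hy
  exact h1 ⟨x, hx, rfl⟩

theorem mem_nz {G : Type u} [Group G] (P U : Subgroup G) (h : ∀ g ∈ P, ∀ x ∈ U, g * x * g⁻¹ ∈ U) : P ≤ Subgroup.normalizer (U : Set G) := by
  intro g hg
  rw [Subgroup.mem_normalizer_iff]
  intro x
  constructor
  · exact h g hg x
  · intro hx
    have h1 := h g⁻¹ (P.inv_mem hg) _ hx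
    have h2 : g⁻¹ * (g * x * g⁻¹) * g⁻¹⁻¹ = x := by group
    rwa [h2] at h1

/-- a minimal noncentralized invariant subgroup is a group of prime power order -/
theorem pgrp {G : Type u} [Group G] [Finite G] (P U : Subgroup G) (hPs : Group.IsSolvable P) (hPU : P ≤ Subgroup.normalizer (U : Set G)) (hcop : (Nat.card P).Coprime (Nat.card U))
    (hU : ¬ U ≤ Subgroup.centralizer (P : Set G)) (hmin : ∀ W : Subgroup G, W < U → P ≤ Subgroup.normalizer (W : Set G) → W ≤ Subgroup.centralizer (P : Set G)) :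
    ∃ r : ℕ, r.Prime ∧ IsPGroup r U := by
  classical
  by_contra hcon
  push Not at hcon
  let C0 : Subgroup G := U ⊓ Subgroup.centralizer (P : Set G)
  have hdvd : Nat.card U ∣ Nat.card C0 := by
    rw [← Nat.factorization_prime_le_iff_dvd Nat.card_pos.ne' Nat.card_pos.ne']
    intro r hr
    haveI := Fact.mk hr
    obtain ⟨R, hR⟩ := CfsgLib.Coprime.exists_invariant_sylow hPU hcop (Or.inl hPs) r
    have hle : (R : Subgroup U).map U.subtype ≤ U := Subgroup.map_subtype_le _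
    have hne : (R : Subgroup U).map U.subtype ≠ U := by
      intro hh
      apply hcon r hr
      have h1 : (R : Subgroup U) = ⊤ := by
        apply Subgroup.map_injective U.subtype_injective
        rw [hh, ← MonoidHom.range_eq_map, Subgroup.range_subtype]
      intro x
      have h2 : x ∈ (R : Subgroup U) := by rw [h1]; trivial
      obtain ⟨k, hk⟩ := R.isPGroup' ⟨x, h2⟩
      exact ⟨k, congrArg Subtype.val hk⟩
    have h1 := hmin _ (lt_of_le_of_ne hle hne) hR
    have h2 : (R : Subgroup U).map U.subtype ≤ C0 := le_inf hle h1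
    have h3 : Nat.card ((R : Subgroup U).map U.subtype) = r ^ (Nat.card U).factorization r := by
      rw [Nat.card_congr (Subgroup.equivMapOfInjective _ U.subtype U.subtype_injective).symm.toEquiv, R.card_eq_multiplicity]
    have h4 : r ^ (Nat.card U).factorization r ∣ Nat.card C0 := by
      rw [← h3]; exact Subgroup.card_dvd_of_le h2
    exact (hr.pow_dvd_iff_le_factorization Nat.card_pos.ne').mp h4
  apply hU
  have h1 : C0 = U := Subgroup.eq_of_le_of_card_ge inf_le_left (Nat.le_of_dvd Nat.card_pos hdvd)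
  rw [← h1]
  exact inf_le_right

end CfsgLib.DG
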