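import Cfsg.Agent.EqBase
import Cfsg.Agent.LibDG2
/-!
# p-groups generated by two subsets acting coprimely (helper16): the theorem
-/
set_option autoImplicit false
set_option linter.all false
open Cfsg
namespace CfsgLib.DG

universe u v

theorem main {G : Type u} [Group G] [Finite G] {p : ℕ} [hp : Fact p.Prime] (hp2 : p ≠ 2) (P : Sylow p G) (N : Subgroup G) (hPN : (P : Subgroup G) ≤ Subgroup.normalizer (N : Set G))
    (hN : (Nat.card N).Coprime p) (C D : Set G) (hC : Subgroup.closure C = (P : Subgroup G)) (hD : Subgroup.closure D = (P : Subgroup G))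
    (h : ∀ x ∈ N, ∀ c ∈ C, ∀ d ∈ D, IsPGroup p ↥(Subgroup.closure ({x * c * x⁻¹, d} : Set G))) : N ≤ Subgroup.centralizer ((P : Subgroup G) : Set G) := by
  classical
  by_contra hcon
  have hPs : Group.IsSolvable (P : Subgroup G) := by
    haveI := P.isPGroup'.isNilpotent
    infer_instance
  let S : Set (Subgroup G) := {U | U ≤ N ∧ (P : Subgroup G) ≤ Subgroup.normalizer (U : Set G) ∧ ¬ U ≤ Subgroup.centralizer ((P : Subgroup G) : Set G)}
  obtain ⟨U, hU⟩ := (Set.toFinite S).exists_minimal ⟨N, le_rfl, hPN, hcon⟩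
  obtain ⟨hUN, hPU, hUc⟩ := hU.prop
  have hmin : ∀ W : Subgroup G, W < U → (P : Subgroup G) ≤ Subgroup.normalizer (W : Set G) → W ≤ Subgroup.centralizer ((P : Subgroup G) : Set G) := by
    intro W hW hPW
    by_contra hh
    exact hW.not_ge (hU.le_of_le ⟨hW.le.trans hUN, hPW, hh⟩ hW.le)
  have hcopU : (Nat.card U).Coprime p := Nat.Coprime.coprime_dvd_left (Subgroup.card_dvd_of_le hUN) hN
  obtain ⟨n, hn⟩ := IsPGroup.iff_card.mp P.isPGroup'
  have hcop : (Nat.card (P : Subgroup G)).Coprime (Nat.card U) := by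
    rw [hn]
    exact (Nat.Coprime.pow_right n hcopU).symm
  obtain ⟨r, hr, hUr⟩ := pgrp (P : Subgroup G) U hPs hPU hcop hUc hmin
  haveI := Fact.mk hr
  have hUbot : U ≠ ⊥ := by
    rintro rfl
    exact hUc bot_le
  have hinf : ∀ x ∈ U, x ∈ (P : Subgroup G) → x = 1 := by
    intro x hx hxP
    have h1 : orderOf x ∣ Nat.card U := Subgroup.orderOf_dvd_natCard U hx
    have h2 : orderOf x ∣ Nat.card (P : Subgroup G) := Subgroup.orderOf_dvd_natCard _ hxP
    have h3 := Nat.dvd_gcd h2 h1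
    rw [hcop] at h3
    exact orderOf_eq_one_iff.mp (Nat.dvd_one.mp h3)
  -- a maximal invariant subgroup containing the commutator subgroup
  have hUU : ⁅U, U⁆ < U := CfsgLib.SolvCoprime.commutator_lt_of_pgroup hUr hUr Subgroup.le_normalizer hUbot
  let S2 : Set (Subgroup G) := {W | ⁅U, U⁆ ≤ W ∧ W < U ∧ (P : Subgroup G) ≤ Subgroup.normalizer (W : Set G)}
  obtain ⟨M, hM⟩ := (Set.toFinite S2).exists_maximal ⟨⁅U, U⁆, le_rfl, hUU, mem_nz _ _ (fun g hg => norm_comm (hPU hg))⟩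
  obtain ⟨hUM, hMU, hPM⟩ := hM.prop
  have hUnM : U ≤ Subgroup.normalizer (M : Set G) := by
    apply mem_nz
    intro u hu m hm
    have h1 : u * m * u⁻¹ * m⁻¹ ∈ M := hUM (Subgroup.commutator_mem_commutator hu (hMU.le hm))
    have h2 : u * m * u⁻¹ = (u * m * u⁻¹ * m⁻¹) * m := by group
    rw [h2]; exact M.mul_mem h1 hm
  let MU : Subgroup U := M.subgroupOf U
  haveI hMUn : MU.Normal := (Subgroup.normal_subgroupOf_iff_le_normalizer hMU.le).mpr hUnM
  have hmem : ∀ x : U, x ∈ MU ↔ (x : G) ∈ M := fun x => Iff.rfl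
  have hcomm : ∀ a b : U ⧸ MU, a * b = b * a := by
    intro a b
    obtain ⟨x, rfl⟩ := QuotientGroup.mk_surjective a
    obtain ⟨y, rfl⟩ := QuotientGroup.mk_surjective b
    rw [← QuotientGroup.mk_mul, ← QuotientGroup.mk_mul, QuotientGroup.eq, hmem]
    have h1 : (y : G)⁻¹ * (x : G)⁻¹ * (y : G)⁻¹⁻¹ * (x : G)⁻¹⁻¹ ∈ M := hUM (Subgroup.commutator_mem_commutator (U.inv_mem y.2) (U.inv_mem x.2))
    have h2 : (((x * y)⁻¹ * (y * x) : U) : G) = (y : G)⁻¹ * (x : G)⁻¹ * (y : G)⁻¹⁻¹ * (x : G)⁻¹⁻¹ := by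
      show ((x : G) * y)⁻¹ * (y * x) = _
      group
    rw [h2]; exact h1
  letI cg : CommGroup (U ⧸ MU) := { (inferInstance : Group (U ⧸ MU)) with mul_comm := hcomm }
  have hcj : ∀ (g : (P : Subgroup G)) (u : U), (g : G) * u * (g : G)⁻¹ ∈ U := fun g u => (Subgroup.mem_normalizer_iff.mp (hPU g.2) _).mp u.2
  let cj : ↥(P : Subgroup G) → (U →* U) := fun g =>
    { toFun := fun u => ⟨(g : G) * u * (g : G)⁻¹, hcj g u⟩
      map_one' := Subtype.ext (by show (g : G) * 1 * (g : G)⁻¹ = 1; group)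
      map_mul' := fun a b => Subtype.ext (by show (g : G) * ((a : G) * b) * (g : G)⁻¹ = ((g : G) * a * (g : G)⁻¹) * (g * b * (g : G)⁻¹); group) }
  have hcjM : ∀ g, MU ≤ MU.comap (cj g) := by
    intro g x hx
    exact (Subgroup.mem_normalizer_iff.mp (hPM g.2) _).mp hx
  let ρ : (P : Subgroup G) →* AddMonoid.End (Additive (U ⧸ MU)) :=
    { toFun := fun g => MonoidHom.toAdditive (QuotientGroup.map MU MU (cj g) (hcjM g))
      map_one' := by
        ext v
        obtain ⟨u, hu⟩ := QuotientGroup.mk_surjective (Additive.toMul v)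
        have hv : v = Additive.ofMul (QuotientGroup.mk u : U ⧸ MU) := by rw [hu]; rfl
        rw [hv]
        show Additive.ofMul (QuotientGroup.mk (cj 1 u) : U ⧸ MU) = Additive.ofMul (QuotientGroup.mk u : U ⧸ MU)
        congr 2
        apply Subtype.ext
        show ((1 : (P : Subgroup G)) : G) * u * ((1 : (P : Subgroup G)) : G)⁻¹ = u
        rw [Subgroup.coe_one]; group
      map_mul' := by
        intro a b
        ext v
        obtain ⟨u, hu⟩ := QuotientGroup.mk_surjective (Additive.toMul v)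
        have hv : v = Additive.ofMul (QuotientGroup.mk u : U ⧸ MU) := by rw [hu]; rfl
        rw [hv]
        show Additive.ofMul (QuotientGroup.mk (cj (a * b) u) : U ⧸ MU) = Additive.ofMul (QuotientGroup.mk (cj a (cj b u)) : U ⧸ MU)
        congr 2
        apply Subtype.ext
        show ((a * b : (P : Subgroup G)) : G) * u * ((a * b : (P : Subgroup G)) : G)⁻¹ = (a : G) * ((b : G) * u * (b : G)⁻¹) * (a : G)⁻¹
        rw [Subgroup.coe_mul]; group }
  have hρ : ∀ (g : (P : Subgroup G)) (u : U), ρ g (Additive.ofMul (QuotientGroup.mk u : U ⧸ MU)) = Additive.ofMul (QuotientGroup.mk (⟨(g : G) * u * (g : G)⁻¹, hcj g u⟩ : U) : U ⧸ MU) := fun g u => rfl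
  have hsurj : ∀ v : Additive (U ⧸ MU), ∃ u : U, v = Additive.ofMul (QuotientGroup.mk u : U ⧸ MU) := by
    intro v
    obtain ⟨u, hu⟩ := QuotientGroup.mk_surjective (Additive.toMul v)
    exact ⟨u, by rw [hu]; rfl⟩
  have hcls : ∀ E : Set G, Subgroup.closure E = (P : Subgroup G) → Subgroup.closure {c : (P : Subgroup G) | (c : G) ∈ E} = ⊤ := by
    intro E hE
    apply Subgroup.map_injective (P : Subgroup G).subtype_injective
    have himg : (P : Subgroup G).subtype '' {c : (P : Subgroup G) | (c : G) ∈ E} = E := by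
      ext x
      constructor
      · rintro ⟨c, hc, rfl⟩
        exact hc
      · intro hx
        have hxP : x ∈ (P : Subgroup G) := by rw [← hE]; exact Subgroup.subset_closure hx
        exact ⟨⟨x, hxP⟩, hx, rfl⟩
    rw [MonoidHom.map_closure, himg, ← MonoidHom.range_eq_map, Subgroup.range_subtype, hE]
  haveI hVn : Nontrivial (Additive (U ⧸ MU)) := by
    obtain ⟨x, hxU, hxM⟩ := Set.exists_of_ssubset hMU
    refine ⟨Additive.ofMul (QuotientGroup.mk (⟨x, hxU⟩ : U) : U ⧸ MU), 0, ?_⟩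
    intro hh
    have h1 : (QuotientGroup.mk (⟨x, hxU⟩ : U) : U ⧸ MU) = 1 := hh
    have h2 : (⟨x, hxU⟩ : U) ∈ MU := (QuotientGroup.eq_one_iff _).mp h1
    exact hxM h2
  have hVp : ∀ v : Additive (U ⧸ MU), p • v = 0 → v = 0 := by
    intro v hv
    have h1 : addOrderOf v ∣ p := addOrderOf_dvd_of_nsmul_eq_zero hv
    have h2 : addOrderOf v ∣ Nat.card (Additive (U ⧸ MU)) := addOrderOf_dvd_natCard v
    have h3 : Nat.card (Additive (U ⧸ MU)) ∣ Nat.card U := Subgroup.card_quotient_dvd_card MU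
    have h4 := Nat.dvd_gcd (h2.trans h3) h1
    rw [hcopU] at h4
    exact AddMonoid.addOrderOf_eq_one_iff.mp (Nat.dvd_one.mp h4)
  refine key hp.out hp2 P.isPGroup' hVp ρ ?_ ?_ _ _ (hcls C hC) (hcls D hD) ?_
  · -- nontrivial action
    by_contra hh
    push Not at hh
    apply hUc
    intro u hu
    have hMc := hmin M hMU hPM
    obtain ⟨c, hc, hcM⟩ := CfsgLib.Coprime.exists_fixed_in_coset hPU hcop (Or.inl hPs) hMU.le hPM hu (hUnM hu) (by
      intro a ha
      have h1 := hh ⟨a, ha⟩ (Additive.ofMul (QuotientGroup.mk (⟨u, hu⟩ : U) : U ⧸ MU))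
      rw [hρ] at h1
      have h2 : (QuotientGroup.mk (⟨a * u * a⁻¹, hcj ⟨a, ha⟩ ⟨u, hu⟩⟩ : U) : U ⧸ MU) = QuotientGroup.mk (⟨u, hu⟩ : U) := h1
      rw [QuotientGroup.eq, hmem] at h2
      have h3 : (a * u * a⁻¹)⁻¹ * u ∈ M := h2
      have h4 : u * ((a * u * a⁻¹)⁻¹ * u)⁻¹ * u⁻¹ ∈ M := (Subgroup.mem_normalizer_iff.mp (hUnM hu) _).mp (M.inv_mem h3)
      have h5 : u * ((a * u * a⁻¹)⁻¹ * u)⁻¹ * u⁻¹ = a * u * a⁻¹ * u⁻¹ := by group
      rwa [h5] at h4)
    have h1 : u = c * (u⁻¹ * c)⁻¹ := by group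
    rw [h1]
    exact Subgroup.mul_mem _ hc.2 (Subgroup.inv_mem _ (hMc hcM))
  · -- irreducibility
    intro W hW
    let W0 : Subgroup U :=
      { carrier := {u | Additive.ofMul (QuotientGroup.mk u : U ⧸ MU) ∈ W}
        one_mem' := W.zero_mem
        mul_mem' := fun {a b} ha hb => W.add_mem ha hb
        inv_mem' := fun {a} ha => W.neg_mem ha }
    have hW0 : ∀ u : U, u ∈ W0 ↔ Additive.ofMul (QuotientGroup.mk u : U ⧸ MU) ∈ W := fun u => Iff.rfl
    let W' : Subgroup G := W0.map U.subtype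
    have hW'U : W' ≤ U := Subgroup.map_subtype_le _
    have hMW' : M ≤ W' := by
      intro x hx
      refine ⟨⟨x, hMU.le hx⟩, ?_, rfl⟩
      show Additive.ofMul (QuotientGroup.mk (⟨x, hMU.le hx⟩ : U) : U ⧸ MU) ∈ W
      have h1 : (QuotientGroup.mk (⟨x, hMU.le hx⟩ : U) : U ⧸ MU) = 1 := (QuotientGroup.eq_one_iff _).mpr hx
      rw [h1]; exact W.zero_mem
    have hPW' : (P : Subgroup G) ≤ Subgroup.normalizer (W' : Set G) := by
      apply mem_nz
      rintro g hg _ ⟨u, hu, rfl⟩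
      exact ⟨⟨g * u * g⁻¹, hcj ⟨g, hg⟩ u⟩, hW ⟨g, hg⟩ _ hu, rfl⟩
    by_cases hWU : W' = U
    · right
      rw [eq_top_iff]
      intro v _
      obtain ⟨u, rfl⟩ := hsurj v
      have h1 : (u : G) ∈ W' := by rw [hWU]; exact u.2
      obtain ⟨u', hu', he⟩ := h1
      have h2 : u' = u := Subtype.ext he
      rw [← h2]; exact hu'
    · left
      have h1 : W' ≤ M := hM.le_of_ge ⟨hUM.trans hMW', lt_of_le_of_ne hW'U hWU, hPW'⟩ hMW'
      rw [eq_bot_iff]
      intro v hv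
      obtain ⟨u, rfl⟩ := hsurj v
      have h2 : (u : G) ∈ M := h1 ⟨u, hv, rfl⟩
      have h3 : (QuotientGroup.mk u : U ⧸ MU) = 1 := (QuotientGroup.eq_one_iff _).mpr h2
      rw [h3]
      exact AddSubgroup.mem_bot.mpr rfl
  · -- factorization
    intro c hc d hd v
    obtain ⟨u, rfl⟩ := hsurj v
    obtain ⟨w, hwU, hwd, hwc⟩ := star P U hPU hinf c.2 d.2 u.2 (h u (hUN u.2) c hc d hd)
    refine ⟨Additive.ofMul (QuotientGroup.mk (⟨w, hwU⟩ : U) : U ⧸ MU), Additive.ofMul (QuotientGroup.mk (⟨w⁻¹ * u, U.mul_mem (U.inv_mem hwU) u.2⟩ : U) : U ⧸ MU), ?_, ?_, ?_⟩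
    · rw [hρ]
      congr 2
      apply Subtype.ext
      show (d : G) * w * (d : G)⁻¹ = w
      rw [← hwd]; group
    · rw [hρ]
      congr 2
      apply Subtype.ext
      show (c : G) * (w⁻¹ * u) * (c : G)⁻¹ = w⁻¹ * u
      rw [← hwc]; group
    · show Additive.ofMul (QuotientGroup.mk u : U ⧸ MU) = Additive.ofMul ((QuotientGroup.mk (⟨w, hwU⟩ : U) : U ⧸ MU) * QuotientGroup.mk (⟨w⁻¹ * u, U.mul_mem (U.inv_mem hwU) u.2⟩ : U))
      rw [← QuotientGroup.mk_mul]
      congr 2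
      apply Subtype.ext
      show (u : G) = w * (w⁻¹ * u)
      group

end CfsgLib.DG
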