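import Cfsg.Agent.EqBase
import Cfsg.Agent.LibInd2
import Cfsg.Agent.LibGalChar2
/-!
# Gallagher's theorem and coset averages (helper16)
-/
set_option autoImplicit false
set_option linter.all false
open Cfsg CfsgLib.CharBasic CfsgLib.CharIndA CfsgLib.Clifford CfsgLib.CharNorm CfsgLib.CharMore CfsgLib.Ind2
open scoped ComplexConjugate
namespace CfsgLib.Gallagher

universe u v
variable {G : Type u} [Group G] [Fintype G] (N : Subgroup G) [Fintype N]

/-- coset average -/
noncomputable def avg (f : G → ℂ) : G → ℂ := fun x => (Nat.card N : ℂ)⁻¹ * ∑ n : N, f ((n : G) * x)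

theorem avg_char [N.Normal] {f : G → ℂ} (hf : IsCharacter G f) : IsCharacter G (avg N f) :=
  CfsgLib.GalChar2.isCharacter_avg N hf

omit [Fintype G] in
theorem avg_mul_left (f : G → ℂ) (n : N) (x : G) : avg N f ((n : G) * x) = avg N f x := by
  unfold avg
  congr 1
  refine Fintype.sum_equiv (Equiv.mulRight n) _ _ fun m => ?_
  simp [mul_assoc]

theorem ci_avg (f h : G → ℂ) : classInner (avg N f) (avg N h) = classInner (avg N f) h := by
  have hN : (Nat.card N : ℂ) ≠ 0 := by exact_mod_cast Nat.card_pos.ne'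
  unfold classInner
  congr 1
  have h1 : ∀ x : G, avg N f x * conj (avg N h x) = (Nat.card N : ℂ)⁻¹ * ∑ n : N, avg N f x * conj (h ((n : G) * x)) := by
    intro x
    conv_lhs => rw [avg.eq_def N h]
    rw [map_mul, map_inv₀, Complex.conj_natCast, map_sum, ← Finset.mul_sum]
    ring
  rw [Finset.sum_congr rfl fun x _ => h1 x, ← Finset.mul_sum, Finset.sum_comm]
  have h2 : ∀ n : N, ∑ x : G, avg N f x * conj (h ((n : G) * x)) = ∑ x : G, avg N f x * conj (h x) := by
    intro n
    refine Fintype.sum_equiv (Equiv.mulLeft (n : G)) _ _ fun x => ?_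
    simp only [Equiv.coe_mulLeft]
    rw [avg_mul_left]
  rw [Finset.sum_congr rfl fun n _ => h2 n, Finset.sum_const, nsmul_eq_mul, Finset.card_univ,
    ← Nat.card_eq_fintype_card, inv_mul_cancel_left₀ hN]

omit [Fintype G] in
theorem avg_one (f h : G → ℂ) : avg N (fun g => f g * conj (h g)) 1 = classInner (fun n : N => f n) (fun n : N => h n) := by
  unfold avg classInner
  simp

/-- if the restriction to `N` is irreducible the coset averages of `|χ|²` are `1` -/
theorem avg_norm_sq [N.Normal] {χ : G → ℂ} (hχ : IsCharacter G χ) (hχN : IsIrrCharacter N (fun n : N => χ n)) :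
    avg N (fun g => χ g * conj (χ g)) = fun _ => 1 := by
  have hc : IsCharacter G (avg N (fun g => χ g * conj (χ g))) := avg_char N (isCharacter_mul hχ (isCharacter_conj hχ))
  have h1 : avg N (fun g => χ g * conj (χ g)) 1 = 1 := by
    rw [avg_one, irr_inner_self hχN]
  ext g
  have h2 := CfsgLib.GalChar2.norm_linear hc h1 g
  have h3 : ∃ r : ℝ, 0 ≤ r ∧ avg N (fun g => χ g * conj (χ g)) g = (r : ℂ) := by
    refine ⟨(Nat.card N : ℝ)⁻¹ * ∑ n : N, ‖χ ((n : G) * g)‖ ^ 2, by positivity, ?_⟩
    unfold avg
    push_cast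
    congr 1
    refine Finset.sum_congr rfl fun n _ => ?_
    rw [Complex.mul_conj, Complex.normSq_eq_norm_sq]
    push_cast; rfl
  obtain ⟨r, hr, hr'⟩ := h3
  rw [hr'] at h2 ⊢
  rw [Complex.norm_real, Real.norm_of_nonneg hr] at h2
  rw [h2]; rfl

omit [Fintype G] in
theorem avg_mul_of_inv (f h : G → ℂ) (hf : ∀ n ∈ N, ∀ x, f (n * x) = f x) :
    avg N (fun g => f g * h g) = fun g => f g * avg N h g := by
  ext g
  unfold avg
  have h1 : ∑ n : N, f ((n : G) * g) * h ((n : G) * g) = f g * ∑ n : N, h ((n : G) * g) := by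
    rw [Finset.mul_sum]
    exact Finset.sum_congr rfl fun n _ => by rw [hf n n.2 g]
  rw [h1]
  ring

/-- Gallagher: description of the irreducible characters above an extendible character -/
theorem gallagher_exists [hN : N.Normal] {χ : G → ℂ} (hχ : IsIrrCharacter G χ)
    (hχN : IsIrrCharacter N (fun n : N => χ n)) {ψ : G → ℂ} (hψ : IsIrrCharacter G ψ)
    (hm : classInner (fun n : N => ψ n) (fun n : N => χ n) ≠ 0) :
    IsIrrCharacter G (avg N (fun g => ψ g * conj (χ g))) ∧
      (fun g => avg N (fun g => ψ g * conj (χ g)) g * χ g) = ψ := by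
  classical
  set η := avg N (fun g => ψ g * conj (χ g)) with hη
  have hcm : IsCharacter G (fun g => ψ g * conj (χ g)) :=
    isCharacter_mul (CfsgLib.CharBasic.irr_isCharacter hψ) (isCharacter_conj (CfsgLib.CharBasic.irr_isCharacter hχ))
  have hηc : IsCharacter G η := avg_char N hcm
  have hηχ : IsCharacter G (fun g => η g * χ g) := isCharacter_mul hηc (CfsgLib.CharBasic.irr_isCharacter hχ)
  have hinv : ∀ g : G, cj hN g (fun n : N => χ n) = fun n : N => χ n := fun g => cj_restrict hN g (CfsgLib.CharBasic.irr_classFun hχ)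
  have hres := restrict_of_invariant hN hψ hχN hinv hm
  have hη1 : η 1 = classInner (fun n : N => ψ n) (fun n : N => χ n) := avg_one N ψ χ
  have hη0 : η ≠ 0 := by
    intro h
    apply hm
    rw [← hη1, h]; rfl
  have hdeg : η 1 * χ 1 = ψ 1 := by
    rw [hη1]
    have := congrFun hres 1
    simp only [Pi.smul_apply, smul_eq_mul, OneMemClass.coe_one] at this
    exact this.symm
  -- inner product
  have h1 : classInner (fun g => η g * χ g) ψ = classInner η η := by
    have h2 : classInner (fun g => η g * χ g) ψ = classInner η (fun g => ψ g * conj (χ g)) := by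
      unfold classInner
      congr 1
      refine Finset.sum_congr rfl fun g _ => ?_
      rw [map_mul, Complex.conj_conj]; ring
    rw [h2, ← ci_avg]
  have h3 : classInner η η ≠ 0 := fun h => hη0 (inner_self_eq_zero h)
  obtain ⟨r, hr, hsplit⟩ := split_off hηχ hψ (by rw [h1]; exact h3)
  have hr0 : r 1 = 0 := by
    have := congrFun hsplit 1
    simp only [Pi.add_apply] at this
    rw [hdeg] at this
    linear_combination -this
  have hr00 : r = 0 := by
    obtain ⟨n, ρ, rfl⟩ := hr
    rw [Representation.char_one] at hr0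
    have hn : n = 0 := by
      have h5 : Module.finrank ℂ (Fin n → ℂ) = n := by simp
      rw [h5] at hr0
      exact_mod_cast hr0
    subst hn
    ext g
    have h0 : ρ g = 0 := by
      apply LinearMap.ext
      intro v
      exact Subsingleton.elim _ _
    rw [Representation.character, h0, map_zero]
    rfl
  rw [hr00, add_zero] at hsplit
  refine ⟨?_, hsplit⟩
  rw [irr_iff_norm_one]
  refine ⟨hηc, ?_⟩
  rw [← h1, hsplit, irr_inner_self hψ]

/-- products of irreducible characters of `G/N` with an extension are irreducible -/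
theorem gallagher_irr [hN : N.Normal] {χ : G → ℂ} (hχ : IsIrrCharacter G χ)
    (hχN : IsIrrCharacter N (fun n : N => χ n)) {β : G → ℂ} (hβ : IsIrrCharacter G β)
    (hk : ∀ n ∈ N, β n = β 1) : IsIrrCharacter G (β * χ) := by
  rw [irr_iff_norm_one]
  refine ⟨isCharacter_mul (CfsgLib.CharBasic.irr_isCharacter hβ) (CfsgLib.CharBasic.irr_isCharacter hχ), ?_⟩
  have hβinv : ∀ n ∈ N, ∀ x, β (n * x) = β x := fun n hn x => (char_mul_of_ker (CfsgLib.CharBasic.irr_isCharacter hβ) (hk n hn) x).1
  have hβavg : avg N β = β := by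
    have hN0 : (Nat.card N : ℂ) ≠ 0 := by exact_mod_cast Nat.card_pos.ne'
    ext x
    unfold avg
    rw [Finset.sum_congr rfl fun (n : N) _ => hβinv n n.2 x, Finset.sum_const, nsmul_eq_mul, Finset.card_univ,
      ← Nat.card_eq_fintype_card, inv_mul_cancel_left₀ hN0]
  have h1 : classInner (β * χ) (β * χ) = classInner β (fun g => β g * (χ g * conj (χ g))) := by
    unfold classInner
    congr 1
    refine Finset.sum_congr rfl fun g _ => ?_
    simp only [Pi.mul_apply, map_mul, Complex.conj_conj]
    ring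
  rw [h1]
  conv_lhs => rw [← hβavg]
  rw [← ci_avg, hβavg, avg_mul_of_inv N _ _ hβinv, avg_norm_sq N (CfsgLib.CharBasic.irr_isCharacter hχ) hχN]
  simp only [mul_one]
  exact irr_inner_self hβ

omit [Fintype G] in
theorem avg_ker [hN : N.Normal] {χ ψ : G → ℂ} (n : G) (hn : n ∈ N) :
    avg N (fun g => ψ g * conj (χ g)) n = avg N (fun g => ψ g * conj (χ g)) 1 := by
  have := avg_mul_left N (fun g => ψ g * conj (χ g)) ⟨n, hn⟩ 1
  rwa [mul_one] at this

end CfsgLib.Gallagher
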