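import Mathlib
import Cfsg.Prelude.Def_CharExt
import Cfsg.Agent.LibCharBasic
import Cfsg.Agent.LibCharBasic3
import Cfsg.Agent.LibCharMore
import Cfsg.Agent.LibCharInt2
import Cfsg.Agent.LibGallagher

/-!
# Extension of invariant representations (helper20)

`Gam N ρ` is the group of pairs `(g, A)` with `A ρ(n) A⁻¹ = ρ(g n g⁻¹)`, a central extension of `G` by `ℂˣ`
when the character of `ρ` is `G`-invariant. `Lev N ρ k` : there is a homomorphism to `ℂˣ` which is the `k`-th power on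
scalars and trivial on `N`. `Lev N ρ 1` iff `ρ` extends.
-/

set_option autoImplicit false
set_option linter.all false

namespace CfsgLib.Extend

open Cfsg CfsgLib.CharBasic

universe u v w

/-! ### transfer on invariant elements -/

theorem transfer_of_inv {Γ : Type u} [Group Γ] {A : Type v} [CommGroup A] {H : Subgroup Γ} [H.FiniteIndex]
    (φ : H →* A) (k : Γ) (a : A) (hk : ∀ x : Γ, ∃ h : x⁻¹ * k * x ∈ H, φ ⟨_, h⟩ = a) :
    MonoidHom.transfer φ k = a ^ H.index := by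
  classical
  let T : H.LeftTransversal := default
  rw [MonoidHom.transfer_def φ T k]
  unfold Subgroup.leftTransversals.diff
  have key : ∀ q : Γ ⧸ H, (k⁻¹ : Γ) • q = q := by
    intro q
    induction q using QuotientGroup.induction_on with
    | H x =>
      show (QuotientGroup.mk (k⁻¹ * x) : Γ ⧸ H) = QuotientGroup.mk x
      rw [QuotientGroup.eq]
      obtain ⟨h, -⟩ := hk x
      have : (k⁻¹ * x)⁻¹ * x = x⁻¹ * k * x := by group
      rw [this]; exact h
  simp only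
  letI : Fintype (Γ ⧸ H) := H.fintypeQuotientOfFiniteIndex
  have h2 : ∀ q : Γ ⧸ H, ∀ h3, φ ⟨((T.2.leftQuotientEquiv q : T.1) : Γ)⁻¹ * (((k • T).2.leftQuotientEquiv q : (k • T).1) : Γ), h3⟩ = a := by
    intro q h3
    obtain ⟨h4, h5⟩ := hk ((T.2.leftQuotientEquiv q : T.1) : Γ)
    rw [← h5]
    congr 1
    apply Subtype.ext
    simp only
    have h6 := Subgroup.smul_apply_eq_smul_apply_inv_smul k T q
    rw [h6, key q, smul_eq_mul, mul_assoc]
  rw [Finset.prod_congr rfl fun q _ => h2 q _, Finset.prod_const, Finset.card_univ, ← Nat.card_eq_fintype_card]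
  rfl

/-! ### equivalence of irreducible representations with equal characters -/

theorem exists_equiv {G : Type u} [Group G] [Finite G] {V : Type v} {W : Type w} [AddCommGroup V] [Module ℂ V] [FiniteDimensional ℂ V]
    [AddCommGroup W] [Module ℂ W] [FiniteDimensional ℂ W]
    (ρ : Representation ℂ G V) (σ : Representation ℂ G W) [ρ.IsIrreducible] [σ.IsIrreducible]
    (h : ρ.character = σ.character) : Nonempty (Representation.Equiv ρ σ) := by
  classical
  haveI := Fintype.ofFinite G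
  haveI : Invertible (Nat.card G : ℂ) := invertibleOfNonzero (by exact_mod_cast Nat.card_pos.ne')
  by_contra hne
  have h1 := Representation.char_orthonormal σ ρ
  rw [if_neg hne, ← h] at h1
  have h3 := Representation.char_orthonormal ρ ρ
  rw [if_pos ⟨Representation.Equiv.refl ρ⟩] at h3
  rw [h1] at h3
  exact zero_ne_one h3

theorem not_irr_add {G : Type u} [Group G] [Finite G] {a b : G → ℂ} (ha : IsCharacter G a) (hb : IsCharacter G b) (ha0 : a 1 ≠ 0)
    (hb0 : b 1 ≠ 0) : ¬ IsIrrCharacter G (a + b) := by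
  haveI := Fintype.ofFinite G
  intro h
  have hane : ∃ ψ : IrrCharacter G, classInner a (ψ : G → ℂ) ≠ 0 := by
    by_contra hcon
    push Not at hcon
    apply ha0
    rw [classFun_expand_apply (char_classFun ha) 1]
    exact Finset.sum_eq_zero fun ψ _ => by rw [hcon ψ, zero_mul]
  obtain ⟨ψ, hψ⟩ := hane
  obtain ⟨m, hm⟩ := (isCharacter_iff.mp ha).2 _ ψ.2
  obtain ⟨k, hk⟩ := (isCharacter_iff.mp hb).2 _ ψ.2
  have h1 : classInner (a + b) (ψ : G → ℂ) = m + k := by rw [CfsgLib.CharBasic.inner_add_left, hm, hk]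
  have h2 : a + b = (ψ : G → ℂ) := by
    by_contra hne
    rw [irr_inner_ne h ψ.2 hne] at h1
    apply hψ
    rw [hm]
    have h3 : m + k = 0 := by exact_mod_cast h1.symm
    have : m = 0 := by omega
    rw [this]; simp
  obtain ⟨r, hr, hsplit⟩ := CfsgLib.CharMore.split_off ha ψ.2 hψ
  have h4 := congrFun h2 1
  have h5 := congrFun hsplit 1
  simp only [Pi.add_apply] at h4 h5
  obtain ⟨x, hx⟩ := char_one_nat hb
  obtain ⟨y, hy⟩ := char_one_nat hr
  rw [hx] at h4 hb0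
  rw [hy] at h5
  have h6 : ((y + x : ℕ) : ℂ) = 0 := by
    push_cast
    linear_combination h4 - h5
  have h7 : y + x = 0 := by exact_mod_cast h6
  apply hb0
  have : x = 0 := by omega
  rw [this]; simp

theorem isIrreducible_of_char {G : Type u} [Group G] [Finite G] {V : Type v} [AddCommGroup V] [Module ℂ V] [FiniteDimensional ℂ V]
    (ρ : Representation ℂ G V) (h : IsIrrCharacter G ρ.character) : ρ.IsIrreducible := by
  haveI := Fintype.ofFinite G
  have h0 := CfsgLib.CharInt.irr_one_ne_zero h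
  rw [Representation.char_one] at h0
  have hpos : 0 < Module.finrank ℂ V := by
    rcases Nat.eq_zero_or_pos (Module.finrank ℂ V) with h1 | h1
    · rw [h1] at h0; simp at h0
    · exact h1
  have hnt : Nontrivial V := Module.finrank_pos_iff.mp hpos
  by_contra hirr
  have hnt' : Nontrivial (Subrepresentation ρ) := by
    refine ⟨⊥, ⊤, fun h => ?_⟩
    have := congrArg Subrepresentation.toSubmodule h
    exact bot_ne_top (α := Submodule ℂ V) this
  have : ∃ S : Subrepresentation ρ, S ≠ ⊥ ∧ S ≠ ⊤ := by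
    by_contra hcon
    push Not at hcon
    apply hirr
    exact { eq_bot_or_eq_top := fun S => by
              by_cases h : S = ⊥
              · exact Or.inl h
              · exact Or.inr (hcon S h) }
  obtain ⟨S, hS1, hS2⟩ := this
  obtain ⟨T, hT⟩ := exists_compl ρ S
  have hS1' : S.toSubmodule ≠ ⊥ := fun h => hS1 (Subrepresentation.toSubmodule_injective h)
  have hS2' : S.toSubmodule ≠ ⊤ := fun h => hS2 (Subrepresentation.toSubmodule_injective h)
  have hT2' : T.toSubmodule ≠ ⊥ := by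
    intro h
    rw [h] at hT
    exact hS2' (by simpa using hT.sup_eq_top)
  have key : ∀ U : Subrepresentation ρ, U.toSubmodule ≠ ⊥ → U.toRepresentation.character 1 ≠ 0 := by
    intro U hU h1
    rw [Representation.char_one] at h1
    apply hU
    have h2 : Module.finrank ℂ U.toSubmodule = 0 := by exact_mod_cast h1
    exact Submodule.finrank_eq_zero.mp h2
  rw [character_of_isCompl ρ S T hT] at h
  exact not_irr_add (isCharacter_character S.toRepresentation) (isCharacter_character T.toRepresentation) (key S hS1') (key T hT2') h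

/-! ### the group of pairs -/

section Gam
variable {G : Type u} [Group G] (N : Subgroup G) [hN : N.Normal] {V : Type v} [AddCommGroup V] [Module ℂ V]
  (ρ : Representation ℂ N V)

/-- the group of pairs `(g, A)` with `A ρ(n) = ρ(g n g⁻¹) A` -/
def Gam : Subgroup (G × (V →ₗ[ℂ] V)ˣ) where
  carrier := {x | ∀ n : N, (x.2 : V →ₗ[ℂ] V) * ρ n = ρ (MulAut.conjNormal x.1 n) * (x.2 : V →ₗ[ℂ] V)}
  mul_mem' := by
    intro a b ha hb n
    simp only [Set.mem_setOf_eq] at *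
    rw [Prod.snd_mul, Units.val_mul, mul_assoc, hb, ← mul_assoc, ha, mul_assoc, Prod.fst_mul, map_mul]
    rfl
  one_mem' := by
    intro n
    simp
  inv_mem' := by
    intro a ha n
    simp only [Set.mem_setOf_eq] at *
    have h1 := ha (MulAut.conjNormal a.1⁻¹ n)
    have h2 : MulAut.conjNormal a.1 (MulAut.conjNormal a.1⁻¹ n) = n := by
      rw [map_inv]; simp
    rw [h2] at h1
    rw [Prod.snd_inv, Prod.fst_inv]
    calc ((a.2⁻¹ : (V →ₗ[ℂ] V)ˣ) : V →ₗ[ℂ] V) * ρ n = ((a.2⁻¹ : (V →ₗ[ℂ] V)ˣ) : V →ₗ[ℂ] V) * (ρ n * (a.2 : V →ₗ[ℂ] V)) * ((a.2⁻¹ : (V →ₗ[ℂ] V)ˣ) : V →ₗ[ℂ] V) := by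
          rw [mul_assoc, mul_assoc, Units.mul_inv, mul_one]
      _ = _ := by rw [← h1, ← mul_assoc, Units.inv_mul, one_mul]

/-- projection to `G` -/
def pr : Gam N ρ →* G := (MonoidHom.fst _ _).comp (Gam N ρ).subtype

/-- projection to `GL(V)` -/
def mat : Gam N ρ →* (V →ₗ[ℂ] V)ˣ := (MonoidHom.snd _ _).comp (Gam N ρ).subtype

/-- scalars -/
def sc : ℂˣ →* (V →ₗ[ℂ] V)ˣ := Units.map (algebraMap ℂ (V →ₗ[ℂ] V)).toMonoidHom

theorem sc_comm (c : ℂˣ) (A : (V →ₗ[ℂ] V)ˣ) : sc c * A = A * sc c := by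
  apply Units.ext
  exact Algebra.commutes _ _

theorem sc_shuffle (a b : ℂˣ) (X Y : (V →ₗ[ℂ] V)ˣ) : sc a * X * (sc b * Y) = sc b * sc a * (X * Y) := by
  rw [mul_assoc, ← mul_assoc X, ← sc_comm b X, mul_assoc (sc b), ← mul_assoc (sc a), sc_comm a (sc b)]

theorem sc_val (c : ℂˣ) : ((sc c : (V →ₗ[ℂ] V)ˣ) : V →ₗ[ℂ] V) = (c : ℂ) • LinearMap.id := by
  ext v; simp [sc]

/-- scalars in `Gam` -/
def ia : ℂˣ →* Gam N ρ := MonoidHom.codRestrict ((1 : ℂˣ →* G).prod sc) (Gam N ρ) (by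
  intro c n
  simp only [MonoidHom.prod_apply, MonoidHom.one_apply, map_one, MulAut.one_apply]
  exact Algebra.commutes _ _)

/-- the subgroup `N` in `Gam` -/
def nt : N →* Gam N ρ := MonoidHom.codRestrict (N.subtype.prod ρ.asGroupHom) (Gam N ρ) (by
  intro m n
  simp only [MonoidHom.prod_apply]
  show ρ m * ρ n = ρ (MulAut.conjNormal (m : G) n) * ρ m
  rw [← map_mul, ← map_mul]
  congr 1
  apply Subtype.ext
  simp)

variable {N ρ}

theorem mem_spec (x : Gam N ρ) (n : N) :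
    (mat N ρ x : V →ₗ[ℂ] V) * ρ n = ρ (MulAut.conjNormal (pr N ρ x) n) * (mat N ρ x : V →ₗ[ℂ] V) := x.2 n

@[simp] theorem pr_ia (c : ℂˣ) : pr N ρ (ia N ρ c) = 1 := rfl
@[simp] theorem mat_ia (c : ℂˣ) : mat N ρ (ia N ρ c) = sc c := rfl
@[simp] theorem pr_nt (n : N) : pr N ρ (nt N ρ n) = n := rfl
theorem mat_nt (n : N) : (mat N ρ (nt N ρ n) : V →ₗ[ℂ] V) = ρ n := rfl

theorem gam_ext {x y : Gam N ρ} (h1 : pr N ρ x = pr N ρ y) (h2 : mat N ρ x = mat N ρ y) : x = y :=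
  Subtype.ext (Prod.ext h1 h2)

theorem ia_comm (c : ℂˣ) (x : Gam N ρ) : ia N ρ c * x = x * ia N ρ c := by
  apply gam_ext
  · simp
  · rw [map_mul, map_mul, mat_ia, sc_comm]

theorem nt_conj (x : Gam N ρ) (n : N) : x * nt N ρ n * x⁻¹ = nt N ρ (MulAut.conjNormal (pr N ρ x) n) := by
  rw [mul_inv_eq_iff_eq_mul]
  apply gam_ext
  · simp
  · apply Units.ext
    rw [map_mul, map_mul, Units.val_mul, Units.val_mul, mat_nt, mat_nt]
    exact mem_spec x n

end Gam

section Irr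
variable {G : Type u} [Group G] {N : Subgroup G} [hN : N.Normal] {V : Type v} [AddCommGroup V] [Module ℂ V]
  [FiniteDimensional ℂ V] {ρ : Representation ℂ N V} [hρ : ρ.IsIrreducible]

theorem schur_unit (A B : (V →ₗ[ℂ] V)ˣ) (h : ∀ n : N, (B : V →ₗ[ℂ] V) * ρ n = (A : V →ₗ[ℂ] V) * ρ n * ((A⁻¹ : (V →ₗ[ℂ] V)ˣ) : V →ₗ[ℂ] V) * (B : V →ₗ[ℂ] V)) :
    ∃ c : ℂˣ, B = sc c * A := by
  obtain ⟨c, hc⟩ := schur_scalar ρ (((A⁻¹ : (V →ₗ[ℂ] V)ˣ) : V →ₗ[ℂ] V) * (B : V →ₗ[ℂ] V)) (by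
    intro n v
    have h1 := h n
    have h2 : ((A⁻¹ : (V →ₗ[ℂ] V)ˣ) : V →ₗ[ℂ] V) * ((B : V →ₗ[ℂ] V) * ρ n) = ρ n * (((A⁻¹ : (V →ₗ[ℂ] V)ˣ) : V →ₗ[ℂ] V) * (B : V →ₗ[ℂ] V)) := by
      rw [h1, mul_assoc, mul_assoc, ← mul_assoc _ (A : V →ₗ[ℂ] V), Units.inv_mul, one_mul]
    exact congrArg (fun T : V →ₗ[ℂ] V => T v) h2)
  haveI := irr_nontrivial ρ
  have hc0 : c ≠ 0 := by
    rintro rfl
    rw [zero_smul] at hc
    have h3 : (A : V →ₗ[ℂ] V) * (((A⁻¹ : (V →ₗ[ℂ] V)ˣ) : V →ₗ[ℂ] V) * (B : V →ₗ[ℂ] V)) = 0 := by rw [hc, mul_zero]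
    rw [← mul_assoc, Units.mul_inv, one_mul] at h3
    exact B.ne_zero h3
  refine ⟨Units.mk0 c hc0, ?_⟩
  apply Units.ext
  rw [Units.val_mul, sc_val, Units.val_mk0]
  have h4 : (B : V →ₗ[ℂ] V) = (A : V →ₗ[ℂ] V) * (((A⁻¹ : (V →ₗ[ℂ] V)ˣ) : V →ₗ[ℂ] V) * (B : V →ₗ[ℂ] V)) := by
    rw [← mul_assoc, Units.mul_inv, one_mul]
  rw [h4, hc, smul_mul_assoc]
  ext v; simp

theorem schur_gam {x y : Gam N ρ} (h : pr N ρ x = pr N ρ y) : ∃ c : ℂˣ, x = ia N ρ c * y := by
  obtain ⟨c, hc⟩ := schur_unit (ρ := ρ) (mat N ρ y) (mat N ρ x) (by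
    intro n
    rw [mem_spec, h]
    have := mem_spec y n
    rw [this, mul_assoc _ (mat N ρ y : V →ₗ[ℂ] V), Units.mul_inv, mul_one])
  refine ⟨c, gam_ext ?_ ?_⟩
  · rw [map_mul, pr_ia, one_mul, h]
  · rw [map_mul, mat_ia, hc]

theorem sc_injective {V : Type v} [AddCommGroup V] [Module ℂ V] [Nontrivial V] :
    Function.Injective (sc : ℂˣ →* (V →ₗ[ℂ] V)ˣ) := by
  intro a b h
  apply Units.ext
  have h1 := congrArg (fun u : (V →ₗ[ℂ] V)ˣ => (u : V →ₗ[ℂ] V)) h
  simp only [sc_val] at h1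
  obtain ⟨v, hv⟩ := exists_ne (0 : V)
  have h2 := congrArg (fun T : V →ₗ[ℂ] V => T v) h1
  simp only [LinearMap.smul_apply, LinearMap.id_apply] at h2
  exact smul_left_injective ℂ hv h2

/-- the projection is surjective when the character is invariant -/
theorem pr_surjective [Finite G] (hinv : ∀ (g : G) (n : N), ρ.character (MulAut.conjNormal g n) = ρ.character n) :
    Function.Surjective (pr N ρ) := by
  intro g
  let ρg : Representation ℂ N V := ρ.comp (MulAut.conjNormal g : MulAut N).toMonoidHom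
  haveI : ρg.IsIrreducible :=
    (irreducible_comp_surj ρ (MulAut.conjNormal g : MulAut N).toMonoidHom (MulAut.conjNormal g : MulAut N).surjective).mpr hρ
  have hch : ρ.character = ρg.character := by
    ext n
    exact (hinv g n).symm
  obtain ⟨e⟩ := exists_equiv ρ ρg hch
  refine ⟨⟨(g, ⟨e.toLinearEquiv.toLinearMap, e.toLinearEquiv.symm.toLinearMap, ?_, ?_⟩), ?_⟩, rfl⟩
  · ext v; exact e.toLinearEquiv.apply_symm_apply v
  · ext v; exact e.toLinearEquiv.symm_apply_apply v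
  · intro n
    exact e.isIntertwining' n

/-- `k` is a level: there is a homomorphism `Gam → ℂˣ` which is `c ↦ c ^ k` on scalars and trivial on `N` -/
def Lev (N : Subgroup G) [N.Normal] (ρ : Representation ℂ N V) (k : ℤ) : Prop :=
  ∃ T : Gam N ρ →* ℂˣ, (∀ c, T (ia N ρ c) = c ^ k) ∧ ∀ n, T (nt N ρ n) = 1

omit [FiniteDimensional ℂ V] hρ in
theorem Lev.add {k l : ℤ} (hk : Lev N ρ k) (hl : Lev N ρ l) : Lev N ρ (k + l) := by
  obtain ⟨T, h1, h2⟩ := hk
  obtain ⟨T', h3, h4⟩ := hl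
  refine ⟨T * T', fun c => ?_, fun n => ?_⟩
  · rw [MonoidHom.mul_apply, h1, h3, zpow_add]
  · rw [MonoidHom.mul_apply, h2, h4, one_mul]

omit [FiniteDimensional ℂ V] hρ in
theorem Lev.zmul {k : ℤ} (hk : Lev N ρ k) (l : ℤ) : Lev N ρ (l * k) := by
  obtain ⟨T, h1, h2⟩ := hk
  refine ⟨(zpowGroupHom l).comp T, fun c => ?_, fun n => ?_⟩
  · rw [MonoidHom.comp_apply, h1, zpowGroupHom_apply, ← zpow_mul, mul_comm]
  · rw [MonoidHom.comp_apply, h2, map_one]

omit [FiniteDimensional ℂ V] hρ in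
theorem Lev.of_dvd_gcd {k l : ℤ} (hk : Lev N ρ k) (hl : Lev N ρ l) (m : ℤ) (h : (Int.gcd k l : ℤ) ∣ m) : Lev N ρ m := by
  obtain ⟨a, rfl⟩ := h
  rw [Int.gcd_eq_gcd_ab k l]
  have := (hk.zmul (a * Int.gcdA k l)).add (hl.zmul (a * Int.gcdB k l))
  convert this using 1
  ring

/-- a level-one homomorphism gives an extension -/
theorem exists_ext_of_lev (hs : Function.Surjective (pr N ρ)) (h : Lev N ρ 1) :
    ∃ σ : Representation ℂ G V, ∀ n : N, σ n = ρ n := by
  obtain ⟨T, h1, h2⟩ := h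
  let F : Gam N ρ →* (V →ₗ[ℂ] V)ˣ :=
    { toFun := fun x => sc (T x)⁻¹ * mat N ρ x
      map_one' := by simp
      map_mul' := by
        intro x y
        simp only [map_mul, mul_inv_rev]
        exact (sc_shuffle _ _ _ _).symm }
  have hker : (pr N ρ).ker ≤ F.ker := by
    intro x hx
    rw [MonoidHom.mem_ker] at hx ⊢
    obtain ⟨c, rfl⟩ := schur_gam (x := x) (y := 1) (by rw [hx, map_one])
    rw [mul_one]
    show sc (T (ia N ρ c))⁻¹ * mat N ρ (ia N ρ c) = 1
    rw [h1, mat_ia, zpow_one, map_inv, inv_mul_cancel]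
  let S : G →* (V →ₗ[ℂ] V)ˣ := (pr N ρ).liftOfSurjective hs ⟨F, hker⟩
  have hS : ∀ x, S (pr N ρ x) = F x := by
    intro x
    exact MonoidHom.liftOfRightInverse_comp_apply _ _ _ ⟨F, hker⟩ x
  refine ⟨(Units.coeHom _).comp S, fun n => ?_⟩
  have h3 := hS (nt N ρ n)
  rw [pr_nt] at h3
  show ((S n : (V →ₗ[ℂ] V)ˣ) : V →ₗ[ℂ] V) = ρ n
  rw [h3]
  show ((sc (T (nt N ρ n))⁻¹ * mat N ρ (nt N ρ n) : (V →ₗ[ℂ] V)ˣ) : V →ₗ[ℂ] V) = ρ n
  rw [h2, inv_one, map_one, one_mul, mat_nt]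

/-- an extension to a subgroup of finite index gives its index as a level -/
theorem lev_of_ext (hs : Function.Surjective (pr N ρ)) (H : Subgroup G) [H.FiniteIndex] (hNH : N ≤ H)
    (σ : Representation ℂ H V) (hσ : ∀ n : N, σ ⟨n, hNH n.2⟩ = ρ n) : Lev N ρ H.index := by
  haveI := irr_nontrivial ρ
  set GH : Subgroup (Gam N ρ) := H.comap (pr N ρ) with hGH
  have hidx : GH.index = H.index := Subgroup.index_comap_of_surjective _ hs
  haveI : GH.FiniteIndex := ⟨by rw [hidx]; exact Subgroup.FiniteIndex.index_ne_zero⟩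
  have hex : ∀ x : GH, ∃ c : ℂˣ, mat N ρ x = sc c * σ.asGroupHom ⟨pr N ρ x, x.2⟩ := by
    intro x
    apply schur_unit (ρ := ρ)
    intro n
    rw [mem_spec]
    have h1 : (MulAut.conjNormal (pr N ρ x) n : G) = pr N ρ x * n * (pr N ρ x)⁻¹ := rfl
    have h2 : ρ (MulAut.conjNormal (pr N ρ x) n) = (σ.asGroupHom ⟨pr N ρ x, x.2⟩ : V →ₗ[ℂ] V) * ρ n *
        (((σ.asGroupHom ⟨pr N ρ x, x.2⟩)⁻¹ : (V →ₗ[ℂ] V)ˣ) : V →ₗ[ℂ] V) := by
      rw [← hσ, ← hσ, ← map_inv]
      show σ _ = σ _ * σ _ * σ _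
      rw [← map_mul, ← map_mul]
      congr 1
    rw [h2]
  choose R hR using hex
  have huniq : ∀ (x : GH) (c : ℂˣ), mat N ρ x = sc c * σ.asGroupHom ⟨pr N ρ x, x.2⟩ → c = R x := by
    intro x c hc
    apply sc_injective (V := V)
    have := hc.symm.trans (hR x)
    exact mul_right_cancel this
  let RR : GH →* ℂˣ :=
    { toFun := R
      map_one' := by
        symm
        apply huniq
        have : (⟨pr N ρ ((1 : GH) : Gam N ρ), (1 : GH).2⟩ : H) = 1 := Subtype.ext (by simp)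
        rw [this]
        simp
      map_mul' := by
        intro x y
        symm
        apply huniq
        have : (⟨pr N ρ ((x * y : GH) : Gam N ρ), (x * y : GH).2⟩ : H) = ⟨pr N ρ x, x.2⟩ * ⟨pr N ρ y, y.2⟩ := Subtype.ext (by simp)
        rw [this, mul_comm (R x), map_mul, map_mul, Subgroup.coe_mul, map_mul, hR x, hR y]
        exact sc_shuffle _ _ _ _ }
  refine ⟨MonoidHom.transfer RR, fun c => ?_, fun n => ?_⟩
  · rw [transfer_of_inv RR (ia N ρ c) c, hidx, zpow_natCast]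
    intro x
    have h3 : x⁻¹ * ia N ρ c * x = ia N ρ c := by rw [mul_assoc, ia_comm, inv_mul_cancel_left]
    have h4 : ia N ρ c ∈ GH := by
      show pr N ρ (ia N ρ c) ∈ H
      rw [pr_ia]; exact H.one_mem
    refine ⟨by rw [h3]; exact h4, ?_⟩
    symm
    apply huniq
    simp only [h3]
    have : (⟨pr N ρ (ia N ρ c), h4⟩ : H) = 1 := Subtype.ext (pr_ia c)
    rw [this, map_one, mul_one, mat_ia]
  · rw [transfer_of_inv RR (nt N ρ n) 1, one_pow]
    intro x
    have h3 : x⁻¹ * nt N ρ n * x = nt N ρ (MulAut.conjNormal (pr N ρ x⁻¹) n) := by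
      rw [← nt_conj, inv_inv]
    set m := MulAut.conjNormal (pr N ρ x⁻¹) n
    have h4 : nt N ρ m ∈ GH := hNH m.2
    refine ⟨by rw [h3]; exact h4, ?_⟩
    symm
    apply huniq
    simp only [h3]
    rw [map_one, one_mul]
    apply Units.ext
    rw [mat_nt]
    exact (hσ m).symm

end Irr

end CfsgLib.Extend
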