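import Mathlib
import Cfsg.Agent.LibExtend

/-!
# Extension of invariant characters (helper20)
-/

set_option autoImplicit false
set_option linter.all false

namespace CfsgLib.Extend

open Cfsg CfsgLib.CharBasic

universe u v w

/-- invariance of a function on a normal subgroup -/
def Inv {G : Type u} [Group G] (N : Subgroup G) [hN : N.Normal] (θ : N → ℂ) : Prop :=
  ∀ (g : G) (n : N), θ ⟨g * n * g⁻¹, hN.conj_mem (n : G) n.2 g⟩ = θ n

section
variable {G : Type u} [Group G] [Finite G] {N : Subgroup G} [hN : N.Normal]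

/-- if the restriction is irreducible, so is the character -/
theorem irr_of_restrict {χ : G → ℂ} (hχ : IsCharacter G χ) (H : Subgroup G) (h : IsIrrCharacter H (fun n : H => χ n)) :
    IsIrrCharacter G χ := by
  obtain ⟨n, σ, rfl⟩ := hχ
  refine ⟨n, σ, ?_, rfl⟩
  let σH : Representation ℂ H (Fin n → ℂ) := (σ.comp H.subtype : H →* _)
  haveI h1 : σH.IsIrreducible := isIrreducible_of_char σH h
  -- lattice argument
  have hnt : Nontrivial (Fin n → ℂ) := irr_nontrivial σH
  have hnt' : Nontrivial (Subrepresentation σ) := by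
    refine ⟨⊥, ⊤, fun h => ?_⟩
    have := congrArg Subrepresentation.toSubmodule h
    exact bot_ne_top (α := Submodule ℂ (Fin n → ℂ)) this
  refine { eq_bot_or_eq_top := fun S => ?_ }
  let S' : Subrepresentation σH :=
    ⟨S.toSubmodule, fun g v hv => S.apply_mem_toSubmodule (g : G) hv⟩
  rcases h1.eq_bot_or_eq_top S' with h2 | h2
  · left
    apply Subrepresentation.toSubmodule_injective
    have := congrArg (fun T : Subrepresentation σH => T.toSubmodule) h2
    exact this
  · right
    apply Subrepresentation.toSubmodule_injective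
    have := congrArg (fun T : Subrepresentation σH => T.toSubmodule) h2
    exact this

/-- transporting an extension to the same space -/
theorem exists_rep_ext' {V : Type v} [AddCommGroup V] [Module ℂ V] [FiniteDimensional ℂ V] (ρ : Representation ℂ N V)
    [hρ : ρ.IsIrreducible] {H : Type w} [Group H] [Finite H] (j : N →* H) {η : H → ℂ} (hη : IsCharacter H η)
    (hext : ∀ n : N, η (j n) = ρ.character n) :
    ∃ σ : Representation ℂ H V, (∀ n : N, σ (j n) = ρ n) ∧ σ.character = η := by
  obtain ⟨m, τ, rfl⟩ := hη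
  let τN : Representation ℂ N (Fin m → ℂ) := (τ.comp j : N →* _)
  have hch : ρ.character = τN.character := by
    ext n
    exact (hext n).symm
  haveI : τN.IsIrreducible := by
    apply isIrreducible_of_char
    rw [← hch]
    exact isIrrCharacter_character ρ
  obtain ⟨e⟩ := exists_equiv ρ τN hch
  refine ⟨transport τ e.toLinearEquiv.symm, fun n => ?_, character_transport _ _⟩
  ext v
  have h1 : e.toLinearEquiv (ρ n v) = τN n (e.toLinearEquiv v) := congrArg (fun T => T v) (e.isIntertwining' n)
  show e.toLinearEquiv.symm (τ (j n) (e.toLinearEquiv.symm.symm v)) = ρ n v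
  rw [LinearEquiv.symm_symm, LinearEquiv.symm_apply_eq, h1]
  rfl

theorem exists_rep_ext {V : Type v} [AddCommGroup V] [Module ℂ V] [FiniteDimensional ℂ V] (ρ : Representation ℂ N V)
    [hρ : ρ.IsIrreducible] (H : Subgroup G) (hNH : N ≤ H) {η : H → ℂ} (hη : IsCharacter H η)
    (hext : ∀ n : N, η ⟨n, hNH n.2⟩ = ρ.character n) :
    ∃ σ : Representation ℂ H V, (∀ n : N, σ ⟨n, hNH n.2⟩ = ρ n) ∧ σ.character = η :=
  exists_rep_ext' ρ (Subgroup.inclusion hNH) hη hext

/-- determinantal character of an irreducible representation -/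
theorem detChar_eq {V : Type v} [AddCommGroup V] [Module ℂ V] [FiniteDimensional ℂ V] (ρ : Representation ℂ G V)
    [hρ : ρ.IsIrreducible] : detChar ρ.character = fun g => LinearMap.det (ρ g) := by
  classical
  have h := isCharacter_character ρ
  unfold detChar
  rw [dif_pos h]
  ext g
  set τ := Classical.choose (Classical.choose_spec h) with hτ
  have h1 : τ.character = ρ.character := Classical.choose_spec (Classical.choose_spec h)
  haveI : τ.IsIrreducible := by
    apply isIrreducible_of_char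
    rw [h1]; exact isIrrCharacter_character ρ
  obtain ⟨e⟩ := exists_equiv ρ τ h1.symm
  have h2 : τ g = e.toLinearEquiv.toLinearMap ∘ₗ ρ g ∘ₗ e.toLinearEquiv.symm.toLinearMap := by
    refine LinearMap.ext fun v => ?_
    have h3 : e.toLinearEquiv (ρ g (e.toLinearEquiv.symm v)) = τ g (e.toLinearEquiv (e.toLinearEquiv.symm v)) :=
      congrArg (fun T => T (e.toLinearEquiv.symm v)) (e.isIntertwining' g)
    rw [LinearEquiv.apply_symm_apply] at h3
    exact h3.symm
  rw [h2]
  exact LinearMap.det_conj _ _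

section Main
variable {V : Type v} [AddCommGroup V] [Module ℂ V] [FiniteDimensional ℂ V] {ρ : Representation ℂ N V}
    [hρ : ρ.IsIrreducible]

theorem surj_of_inv (hinv : Inv N ρ.character) : Function.Surjective (pr N ρ) :=
  pr_surjective fun g n => hinv g n

theorem ext_of_lev (hinv : Inv N ρ.character) (h : Lev N ρ 1) :
    ∃ χ : G → ℂ, IsIrrCharacter G χ ∧ ∀ n : N, χ n = ρ.character n := by
  obtain ⟨σ, hσ⟩ := exists_ext_of_lev (surj_of_inv hinv) h
  have h1 : ∀ n : N, σ.character n = ρ.character n := by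
    intro n
    show LinearMap.trace ℂ V (σ n) = LinearMap.trace ℂ V (ρ n)
    rw [hσ]
  refine ⟨σ.character, irr_of_restrict (isCharacter_character σ) N ?_, h1⟩
  have : (fun n : N => σ.character n) = ρ.character := funext h1
  rw [this]
  exact isIrrCharacter_character ρ

theorem lev_of_ext_char (hinv : Inv N ρ.character) (H : Subgroup G) (hNH : N ≤ H) {η : H → ℂ} (hη : IsCharacter H η)
    (hext : ∀ n : N, η ⟨n, hNH n.2⟩ = ρ.character n) : Lev N ρ H.index := by
  obtain ⟨σ, hσ, -⟩ := exists_rep_ext ρ H hNH hη hext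
  exact lev_of_ext (surj_of_inv hinv) H hNH σ hσ

theorem lev_index (hinv : Inv N ρ.character) : Lev N ρ N.index :=
  lev_of_ext (surj_of_inv hinv) N le_rfl ρ fun n => rfl

/-- if a linear character extends the `k`-th power of the determinant then `k d` is a level -/
theorem lev_of_det (k : ℕ) (μ : G →* ℂˣ) (h : ∀ n : N, (μ n : ℂ) = LinearMap.det (ρ n) ^ k) :
    Lev N ρ (k * Module.finrank ℂ V) := by
  let D : (V →ₗ[ℂ] V)ˣ →* ℂˣ := Units.map (LinearMap.det : (V →ₗ[ℂ] V) →* ℂ)
  refine ⟨(powMonoidHom k).comp (D.comp (mat N ρ)) * (μ.comp (pr N ρ))⁻¹, fun c => ?_, fun n => ?_⟩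
  · apply Units.ext
    simp only [MonoidHom.mul_apply, MonoidHom.comp_apply, MonoidHom.inv_apply, pr_ia, map_one, inv_one, mul_one, mat_ia,
      powMonoidHom_apply]
    have h1 : ((D (sc c) : ℂˣ) : ℂ) = (c : ℂ) ^ Module.finrank ℂ V := by
      show LinearMap.det ((sc c : (V →ₗ[ℂ] V)ˣ) : V →ₗ[ℂ] V) = _
      rw [sc_val, LinearMap.det_smul, LinearMap.det_id, mul_one]
    rw [Units.val_pow_eq_pow_val, h1, ← pow_mul, mul_comm]
    norm_cast
  · apply Units.ext
    simp only [MonoidHom.mul_apply, MonoidHom.comp_apply, MonoidHom.inv_apply, pr_nt, powMonoidHom_apply]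
    have h1 : ((D (mat N ρ (nt N ρ n)) : ℂˣ) : ℂ) = LinearMap.det (ρ n) := by
      show LinearMap.det ((mat N ρ (nt N ρ n) : (V →ₗ[ℂ] V)ˣ) : V →ₗ[ℂ] V) = _
      rw [mat_nt]
    rw [Units.val_mul, Units.val_pow_eq_pow_val, h1, ← h, Units.mul_inv]
    rfl

theorem lev_one_of_primes (h : ∀ p : ℕ, p.Prime → ∃ k : ℕ, Lev N ρ k ∧ k.Coprime p) : Lev N ρ 1 := by
  let S : AddSubgroup ℤ :=
    { carrier := {k | Lev N ρ k}
      add_mem' := fun ha hb => Lev.add ha hb
      zero_mem' := by
        obtain ⟨k, hk, -⟩ := h 2 Nat.prime_two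
        have := hk.zmul 0
        rwa [zero_mul] at this
      neg_mem' := by
        intro a ha
        have := Lev.zmul (N := N) (ρ := ρ) (show Lev N ρ a from ha) (-1)
        rwa [neg_one_mul] at this }
  obtain ⟨a, ha⟩ := Int.subgroup_cyclic S
  have ha1 : a.natAbs = 1 := by
    by_contra hne
    obtain ⟨p, hp, hpa⟩ := Nat.exists_prime_and_dvd hne
    obtain ⟨k, hk, hkp⟩ := h p hp
    have h1 : (k : ℤ) ∈ S := hk
    rw [ha, AddSubgroup.mem_closure_singleton] at h1
    obtain ⟨b, hb⟩ := h1
    have h2 : (p : ℤ) ∣ k := by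
      rw [← hb, smul_eq_mul]
      exact Dvd.dvd.mul_left (Int.natCast_dvd.mpr hpa) b
    have h3 : p ∣ k := by exact_mod_cast h2
    have h4 := Nat.dvd_gcd h3 (dvd_refl p)
    rw [hkp] at h4
    exact hp.one_lt.ne' (Nat.dvd_one.mp h4)
  have : (1 : ℤ) ∈ S := by
    rw [ha, AddSubgroup.mem_closure_singleton]
    rcases Int.natAbs_eq a with h1 | h1
    · exact ⟨1, by rw [h1, ha1]; rfl⟩
    · exact ⟨-1, by rw [h1, ha1]; rfl⟩
  exact this

theorem lev_one_of_coprime {k l : ℕ} (hk : Lev N ρ k) (hl : Lev N ρ l) (h : k.Coprime l) : Lev N ρ 1 := by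
  apply Lev.of_dvd_gcd hk hl
  rw [Int.gcd_natCast_natCast, h]
  rfl

end Main

end

end CfsgLib.Extend
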