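import Cfsg.Agent.LibClifford2
import Cfsg.Agent.LibQuot19
import Cfsg.Agent.LibBrauerInd
/-!
# Nilpotent groups are monomial; Brauer induction from linear characters (helper20)
-/
set_option autoImplicit false
set_option linter.all false
open scoped ComplexConjugate
open Cfsg
namespace CfsgLib.Monomial
open CfsgLib CfsgLib.CharBasic CfsgLib.CharIndA CfsgLib.Clifford

universe u

section Ker
variable {G : Type u} [Group G] [Fintype G]

/-- a normal subgroup under which `f` is invariant lies in the kernel of every constituent of `f` -/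
theorem ker_of_constituent (N : Subgroup G) [N.Normal] {f θ : G → ℂ} (hθ : IsIrrCharacter G θ)
    (hf : ∀ n ∈ N, ∀ x, f (n * x) = f x) (h : classInner f θ ≠ 0) : ∀ n ∈ N, θ n = θ 1 := by
  classical
  haveI := Fintype.ofFinite N
  by_contra hcon
  apply h
  have hN : (Nat.card N : ℂ) ≠ 0 := by exact_mod_cast Nat.card_pos.ne'
  have h1 : ∀ n : N, ∑ x : G, f x * conj (θ (n * x)) = ∑ x : G, f x * conj (θ x) := by
    intro n
    refine Fintype.sum_equiv (Equiv.mulLeft (n : G)) _ _ fun x => ?_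
    rw [Equiv.coe_mulLeft, hf n n.2]
  have h2 : ∑ n : N, ∑ x : G, f x * conj (θ (n * x)) = Nat.card N * ∑ x : G, f x * conj (θ x) := by
    rw [Finset.sum_congr rfl fun n _ => h1 n, Finset.sum_const, nsmul_eq_mul, Finset.card_univ,
      ← Nat.card_eq_fintype_card]
  have h3 : ∑ n : N, ∑ x : G, f x * conj (θ (n * x)) = 0 := by
    rw [Finset.sum_comm]
    apply Finset.sum_eq_zero
    intro x _
    rw [← Finset.mul_sum, ← map_sum]
    have h4 := GalChar2.avg_irr N hθ x
    rw [if_neg hcon] at h4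
    rcases mul_eq_zero.mp h4 with h5 | h5
    · exact absurd (inv_eq_zero.mp h5) hN
    · rw [h5]; simp
  rw [h3] at h2
  rw [classInner]
  rcases mul_eq_zero.mp h2.symm with h5 | h5
  · exact absurd h5 hN
  · rw [h5, mul_zero]

/-- an irreducible character whose kernel contains the commutator subgroup is linear -/
theorem linear_of_commutator_le {θ : G → ℂ} (hθ : IsIrrCharacter G θ)
    (h : ∀ n ∈ commutator G, θ n = θ 1) : θ 1 = 1 := by
  obtain ⟨θ', h1, h2⟩ := Quot19.irr_deflate (commutator G) hθ h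
  have h3 : θ' 1 = 1 := irr_degree_one_of_comm (fun a b => by
    have := mul_comm (G := Abelianization G) a b
    exact this) h1
  rw [← h2 1]
  exact h3

theorem linear_of_norm {θ : G → ℂ} (hθ : IsIrrCharacter G θ) (h : ∀ g, ‖θ g‖ = (θ 1).re) : θ 1 = 1 := by
  have h1 := irr_inner_self hθ
  rw [CharBasic.inner_self_eq, Finset.sum_congr rfl fun g _ => by rw [h g], Finset.sum_const, nsmul_eq_mul,
    Finset.card_univ, ← Nat.card_eq_fintype_card] at h1
  obtain ⟨n, hn, hn'⟩ := irr_one_nat hθ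
  rw [hn'] at h1 ⊢
  have hG : (Nat.card G : ℝ) ≠ 0 := by exact_mod_cast Nat.card_pos.ne'
  rw [← mul_assoc, inv_mul_cancel₀ hG, one_mul] at h1
  have h2 : ((n : ℂ).re) ^ 2 = 1 := by exact_mod_cast h1
  rw [Complex.natCast_re] at h2
  have h3 : n ^ 2 = 1 := by exact_mod_cast h2
  have h4 : n = 1 := by simpa using h3
  rw [h4]; simp

end Ker

section Cen
variable {G : Type u} [Group G] {V : Type*} [AddCommGroup V] [Module ℂ V] (ρ : Representation ℂ G V)

/-- elements commuting with `S` modulo the kernel of `ρ` -/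
def cen (S : Set G) : Subgroup G where
  carrier := {g | ∀ c ∈ S, ρ (g * c) = ρ (c * g)}
  one_mem' := fun c _ => by simp
  mul_mem' := fun {a b} ha hb c hc => by
    rw [mul_assoc, map_mul ρ a, hb c hc, ← map_mul, ← mul_assoc, map_mul ρ (a * c), ha c hc, ← map_mul, mul_assoc]
  inv_mem' := fun {a} ha c hc => by
    have h1 : ρ (a * c) = ρ (c * a) := ha c hc
    have h2 : ρ (a⁻¹ * (a * c) * a⁻¹) = ρ (a⁻¹ * (c * a) * a⁻¹) := by
      rw [map_mul, map_mul, h1, ← map_mul, ← map_mul]
    have e1 : a⁻¹ * (a * c) * a⁻¹ = c * a⁻¹ := by group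
    have e2 : a⁻¹ * (c * a) * a⁻¹ = a⁻¹ * c := by group
    rw [e1, e2] at h2
    exact h2.symm

theorem mem_cen {S : Set G} {g : G} : g ∈ cen ρ S ↔ ∀ c ∈ S, ρ (g * c) = ρ (c * g) := Iff.rfl

theorem cen_normal {S : Set G} (hS : ∀ c ∈ S, ∀ g : G, g * c * g⁻¹ ∈ S) : (cen ρ S).Normal := by
  refine ⟨fun n hn g => ?_⟩
  intro c hc
  have h1 := hn (g⁻¹ * c * g) (by simpa using hS c hc g⁻¹)
  have e1 : g * n * g⁻¹ * c = g * (n * (g⁻¹ * c * g)) * g⁻¹ := by group
  have e2 : c * (g * n * g⁻¹) = g * ((g⁻¹ * c * g) * n) * g⁻¹ := by group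
  rw [e1, e2, map_mul, map_mul, h1, ← map_mul, ← map_mul]

end Cen

section Main
variable {G : Type u} [Group G] [Fintype G]

/-- a nonlinear irreducible character of a nilpotent group is induced from a proper subgroup -/
theorem exists_proper [Group.IsNilpotent G] {χ : G → ℂ} (hχ : IsIrrCharacter G χ) (h1 : χ 1 ≠ 1) :
    ∃ (T : Subgroup G) (ψ : T → ℂ), T ≠ ⊤ ∧ IsIrrCharacter T ψ ∧ indFun T ψ = χ := by
  classical
  obtain ⟨n, ρ, hρ, rfl⟩ := hχ
  have hχ : IsIrrCharacter G ρ.character := ⟨n, ρ, hρ, rfl⟩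
  set Z := cen ρ (Set.univ : Set G) with hZ
  -- elements of `Z` act as scalars
  have hZs : ∀ g, g ∈ Z → ∃ ω : ℂ, ρ g = ω • (LinearMap.id : (Fin n → ℂ) →ₗ[ℂ] (Fin n → ℂ)) := by
    intro g hg
    obtain ⟨ω, hω⟩ := schur_scalar ρ (ρ g) (fun h v => by
      have := hg h trivial
      rw [map_mul, map_mul] at this
      first
        | exact (LinearMap.congr_fun this v)
        | exact (LinearMap.congr_fun this v).symm)
    exact ⟨ω, by
      first
        | exact hω
        | (ext v; simp [hω])⟩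
  have hZs' : ∀ g, (∃ ω : ℂ, ρ g = ω • (LinearMap.id : (Fin n → ℂ) →ₗ[ℂ] (Fin n → ℂ))) → g ∈ Z := by
    rintro g ⟨ω, hω⟩ c _
    rw [map_mul, map_mul, hω]
    ext v; simp
  have hZtop : Z ≠ ⊤ := by
    intro htop
    apply h1
    apply linear_of_norm hχ
    intro g
    have h2 := (norm_character_eq_iff ρ g).mpr (hZs g (by rw [htop]; trivial))
    rw [h2, Representation.char_one]
    simp
  -- an element central modulo `Z`
  have hexi : ∃ i, ¬ Subgroup.upperCentralSeries G i ≤ Z := by
    obtain ⟨i, hi⟩ := Group.IsNilpotent.nilpotent (G := G)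
    refine ⟨i, fun h => hZtop ?_⟩
    rw [hi] at h
    exact top_le_iff.mp h
  obtain ⟨a, haZ, hacomm⟩ : ∃ a : G, a ∉ Z ∧ ∀ y : G, a * y * a⁻¹ * y⁻¹ ∈ Z := by
    have hspec := Nat.find_spec hexi
    have hmin := fun m => Nat.find_min hexi (m := m)
    rcases hj : Nat.find hexi with _ | j
    · rw [hj] at hspec
      exact absurd bot_le hspec
    · rw [hj] at hspec hmin
      have h3 : Subgroup.upperCentralSeries G j ≤ Z := by
        have := hmin j (Nat.lt_succ_self j)
        push Not at this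
        exact this
      obtain ⟨a, ha, haZ⟩ := SetLike.not_le_iff_exists.mp hspec
      exact ⟨a, haZ, fun y => h3 (Subgroup.mem_upperCentralSeries_succ_iff.mp ha y)⟩
  haveI hZn : Z.Normal := cen_normal ρ (fun c _ g => trivial)
  set A := Z ⊔ Subgroup.zpowers a with hA
  have haA : a ∈ A := Subgroup.mem_sup_right (Subgroup.mem_zpowers a)
  have hAn : A.Normal := by
    refine ⟨fun x hx g => ?_⟩
    have h2 : A ≤ A.comap (MulAut.conj g).toMonoidHom := by
      rw [hA, sup_le_iff]
      constructor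
      · intro z hz
        exact Subgroup.mem_sup_left (hZn.conj_mem z hz g)
      · rw [Subgroup.zpowers_le]
        change g * a * g⁻¹ ∈ A
        have h3 : g * a * g⁻¹ = (a * g * a⁻¹ * g⁻¹)⁻¹ * a := by group
        rw [h3]
        exact A.mul_mem (A.inv_mem (Subgroup.mem_sup_left (hacomm g))) haA
    exact h2 hx
  have hAcomm : A ≤ cen ρ (A : Set G) := by
    have ha1 : A ≤ cen ρ {a} := by
      rw [hA, sup_le_iff]
      constructor
      · intro z hz c _
        exact hz c trivial
      · rw [Subgroup.zpowers_le]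
        intro c hc
        rw [Set.mem_singleton_iff.mp hc]
    rw [hA, sup_le_iff]
    constructor
    · intro z hz c _
      exact hz c trivial
    · rw [Subgroup.zpowers_le]
      intro c hc
      exact (ha1 hc a rfl).symm
  haveI := Fintype.ofFinite A
  obtain ⟨θ, hθ, hχθ⟩ := exists_below A hχ
  have hθ1 : θ 1 = 1 := by
    apply linear_of_commutator_le hθ
    apply ker_of_constituent (commutator A) hθ _ hχθ
    intro m hm x
    have hker : commutator A ≤ (MonoidHom.ker (show G →* _ from ρ)).comap A.subtype := by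
      rw [commutator_def, Subgroup.commutator_le]
      rintro b - c -
      rw [Subgroup.mem_comap, MonoidHom.mem_ker]
      change ρ (b * c * b⁻¹ * c⁻¹ : G) = 1
      have h3 := hAcomm b.2 c c.2
      have h4 : ((b : G) * c * ((b⁻¹ : A) : G) * ((c⁻¹ : A) : G)) = (b * c) * ((c * b : G))⁻¹ := by
        rw [Subgroup.coe_inv, Subgroup.coe_inv]; group
      rw [h4, map_mul, h3, ← map_mul, mul_inv_cancel, map_one]
    have h5 := hker hm
    rw [Subgroup.mem_comap, MonoidHom.mem_ker] at h5
    have h6 : ρ (m : G) = 1 := h5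
    change LinearMap.trace ℂ _ (ρ ((m * x : A) : G)) = LinearMap.trace ℂ _ (ρ (x : G))
    rw [Subgroup.coe_mul, map_mul, h6, one_mul]
  have hT : inertia hAn θ ≠ ⊤ := by
    intro htop
    apply haZ
    apply hZs'
    rw [← norm_character_eq_iff]
    have hinv : ∀ g, cj hAn g θ = θ := fun g => by
      have : g ∈ inertia hAn θ := by rw [htop]; trivial
      exact this
    have h2 := restrict_of_invariant hAn hχ hθ hinv hχθ
    set e := classInner (fun h : A => ρ.character h) θ with he
    have h3 : ρ.character a = e * θ ⟨a, haA⟩ := congrFun h2 ⟨a, haA⟩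
    have h4 : ρ.character 1 = e * θ 1 := congrFun h2 1
    obtain ⟨f, hf⟩ := exists_hom_of_linear (irr_isCharacter hθ) hθ1
    have h5 : ‖θ ⟨a, haA⟩‖ = 1 := by
      rw [hf]
      have h6 : (f ⟨a, haA⟩ : ℂ) ^ (Nat.card A) = 1 := by
        rw [← Units.val_pow_eq_pow_val, ← map_pow, pow_card_eq_one']; simp
      exact norm_one_of_pow Nat.card_pos.ne' h6
    rw [h3, norm_mul, h5, mul_one]
    rw [hθ1, mul_one, Representation.char_one] at h4
    rw [← h4]; simp
  obtain ⟨ψ, hψ, -, hψ2, -⟩ := clifford_corr_surj hAn (le_inertia hAn (irr_classFun hθ)) hθ (fun g => Iff.rfl) hχ hχθ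
  exact ⟨inertia hAn θ, ψ, hT, hψ, hψ2⟩

/-- transitivity of induction, from a subgroup of a subgroup -/
theorem ind_map (T : Subgroup G) [Fintype T] (H' : Subgroup T) (θ : H' → ℂ) :
    indFun T (indFun H' θ) = indFun (H'.map T.subtype)
      (fun h => θ ((H'.equivMapOfInjective T.subtype T.subtype_injective).symm h)) := by
  have hle : H'.map T.subtype ≤ T := Subgroup.map_subtype_le H'
  have h1 := ind_trans (H'.map T.subtype) T hle
    (fun h => θ ((H'.equivMapOfInjective T.subtype T.subtype_injective).symm h))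
  rw [← h1]
  congr 1
  have h2 : (H'.map T.subtype).subgroupOf T = H' := by
    rw [Subgroup.subgroupOf, Subgroup.comap_map_eq_self_of_injective T.subtype_injective]
  -- compare the extensions by zero
  ext t
  have h3 : Nat.card ((H'.map T.subtype).subgroupOf T) = Nat.card H' := by rw [h2]
  rw [ind_apply, ind_apply, h3]
  congr 1
  refine Finset.sum_congr rfl fun x _ => ?_
  by_cases hx : x⁻¹ * t * x ∈ H'
  · rw [ext_mem H' _ hx, ext_mem _ _ (by rw [h2]; exact hx)]
    congr 1
    rw [eq_comm, MulEquiv.symm_apply_eq]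
    rfl
  · rw [ext_not_mem H' _ hx, ext_not_mem _ _ (by rw [h2]; exact hx)]

/-- nilpotent groups are monomial -/
theorem monomial_aux (n : ℕ) : ∀ {G : Type u} [Group G] [Fintype G] [Group.IsNilpotent G], Nat.card G = n →
    ∀ {χ : G → ℂ}, IsIrrCharacter G χ → ∃ (H : Subgroup G) (l : H →* ℂˣ), χ = indFun H (fun h => (l h : ℂ)) := by
  induction n using Nat.strong_induction_on with
  | _ n ih =>
    intro G _ _ _ hn χ hχ
    by_cases h1 : χ 1 = 1
    · obtain ⟨f, hf⟩ := exists_hom_of_linear (irr_isCharacter hχ) h1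
      refine ⟨⊤, f.comp (Subgroup.topEquiv (G := G)).toMonoidHom, ?_⟩
      ext g
      rw [ind_apply]
      have h2 : ∀ x : G, extendByZero (⊤ : Subgroup G) (fun h => ((f.comp (Subgroup.topEquiv (G := G)).toMonoidHom) h : ℂ)) (x⁻¹ * g * x) = χ g := by
        intro x
        rw [ext_mem _ _ (Subgroup.mem_top _)]
        have h3 := irr_classFun hχ g x⁻¹
        rw [inv_inv] at h3
        rw [← h3, hf]
        rfl
      rw [Finset.sum_congr rfl fun x _ => h2 x, Finset.sum_const, nsmul_eq_mul, Finset.card_univ,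
        ← Nat.card_eq_fintype_card, Subgroup.card_top, ← mul_assoc, inv_mul_cancel₀, one_mul]
      exact_mod_cast Nat.card_pos.ne'
    · obtain ⟨T, ψ, hT, hψ, hind⟩ := exists_proper hχ h1
      haveI := Fintype.ofFinite T
      have hlt : Nat.card T < n := by
        rw [← hn]
        rcases lt_or_eq_of_le (Subgroup.card_le_card_group T) with h | h
        · exact h
        · exact absurd (Subgroup.eq_top_of_card_eq T h) hT
      obtain ⟨H', l, hl⟩ := ih (Nat.card T) hlt rfl hψ
      refine ⟨H'.map T.subtype, l.comp (H'.equivMapOfInjective T.subtype T.subtype_injective).symm.toMonoidHom, ?_⟩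
      rw [← hind, hl, ind_map]
      rfl

theorem monomial [Group.IsNilpotent G] {χ : G → ℂ} (hχ : IsIrrCharacter G χ) :
    ∃ (H : Subgroup G) (l : H →* ℂˣ), χ = indFun H (fun h => (l h : ℂ)) :=
  monomial_aux _ rfl hχ

end Main

section Elementary
variable {E : Type u} [Group E] [Finite E]

theorem elementary_nilpotent {p : ℕ} (hp : p.Prime) (h : IsElementary p E) : Group.IsNilpotent E := by
  haveI : Fact p.Prime := ⟨hp⟩
  obtain ⟨x, hx, hco, k, hk⟩ := h
  haveI hn : (Subgroup.zpowers x).Normal := by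
    refine ⟨fun y hy g => ?_⟩
    obtain ⟨i, rfl⟩ := hy
    have : g * x ^ i * g⁻¹ = x ^ i := by
      have h1 : x ^ i ∈ Subgroup.center E := Subgroup.zpow_mem _ hx i
      rw [(Subgroup.mem_center_iff.mp h1 g), mul_inv_cancel_right]
    change g * x ^ i * g⁻¹ ∈ _
    rw [this]
    exact ⟨i, rfl⟩
  have hP : IsPGroup p (E ⧸ Subgroup.zpowers x) := IsPGroup.of_card (n := k) hk
  haveI : Group.IsNilpotent (E ⧸ Subgroup.zpowers x) := hP.isNilpotent
  refine _root_.isNilpotent_of_ker_le_center (QuotientGroup.mk' (Subgroup.zpowers x)) ?_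
  rw [QuotientGroup.ker_mk', Subgroup.zpowers_le]
  exact hx

theorem elementary_sub {p : ℕ} (hp : p.Prime) (h : IsElementary p E) (H : Subgroup E) : IsElementary p H := by
  obtain ⟨x, hx, hco, k, hk⟩ := h
  haveI hn : (Subgroup.zpowers x).Normal := by
    refine ⟨fun y hy g => ?_⟩
    obtain ⟨i, rfl⟩ := hy
    have : g * x ^ i * g⁻¹ = x ^ i := by
      have h1 : x ^ i ∈ Subgroup.center E := Subgroup.zpow_mem _ hx i
      rw [(Subgroup.mem_center_iff.mp h1 g), mul_inv_cancel_right]
    change g * x ^ i * g⁻¹ ∈ _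
    rw [this]
    exact ⟨i, rfl⟩
  obtain ⟨g, hg⟩ := (Subgroup.isCyclic (H.subgroupOf (Subgroup.zpowers x))).exists_generator
  have hgH : ((g : Subgroup.zpowers x) : E) ∈ H := Subgroup.mem_subgroupOf.mp g.2
  have hgz : ((g : Subgroup.zpowers x) : E) ∈ Subgroup.zpowers x := (g : Subgroup.zpowers x).2
  have heq : Subgroup.zpowers (⟨_, hgH⟩ : H) = (Subgroup.zpowers x).subgroupOf H := by
    apply le_antisymm
    · rw [Subgroup.zpowers_le, Subgroup.mem_subgroupOf]
      exact hgz
    · intro y hy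
      rw [Subgroup.mem_subgroupOf] at hy
      obtain ⟨i, hi⟩ := hg ⟨⟨(y : E), hy⟩, Subgroup.mem_subgroupOf.mpr y.2⟩
      refine ⟨i, ?_⟩
      apply Subtype.ext
      have := congrArg (fun z : H.subgroupOf (Subgroup.zpowers x) => ((z : Subgroup.zpowers x) : E)) hi
      simpa using this
  refine ⟨⟨_, hgH⟩, ?_, ?_, ?_⟩
  · rw [Subgroup.mem_center_iff]
    intro y
    apply Subtype.ext
    have h1 : ((g : Subgroup.zpowers x) : E) ∈ Subgroup.center E := by
      have : Subgroup.zpowers x ≤ Subgroup.center E := by rw [Subgroup.zpowers_le]; exact hx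
      exact this hgz
    exact Subgroup.mem_center_iff.mp h1 y
  · rw [Subgroup.orderOf_mk]
    exact Nat.Coprime.coprime_dvd_left (orderOf_dvd_of_mem_zpowers hgz) hco
  · rw [heq]
    have h1 : (Subgroup.zpowers x).relIndex H ∣ (Subgroup.zpowers x).index :=
      Subgroup.relIndex_dvd_index_of_normal _ _
    rw [hk] at h1
    obtain ⟨j, _, hj⟩ := (Nat.dvd_prime_pow hp).mp h1
    exact ⟨j, hj⟩

theorem elementary_equiv {F : Type*} [Group F] (e : E ≃* F) {p : ℕ} (h : IsElementary p E) : IsElementary p F := by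
  obtain ⟨x, hx, hco, k, hk⟩ := h
  refine ⟨e x, ?_, ?_, k, ?_⟩
  · rw [Subgroup.mem_center_iff] at hx ⊢
    intro y
    obtain ⟨y, rfl⟩ := e.surjective y
    rw [← map_mul, ← map_mul, hx]
  · rw [MulEquiv.orderOf_eq]; exact hco
  · rw [← hk]
    have h1 : Subgroup.zpowers (e x) = (Subgroup.zpowers x).map e.toMonoidHom := by
      rw [MonoidHom.map_zpowers]; rfl
    rw [h1]
    exact Subgroup.index_map_equiv _ e

end Elementary

section Brauer
variable {G : Type u} [Group G] [Fintype G]

/-- functions induced from linear characters of subgroups satisfying `P` -/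
def linSet (P : Subgroup G → Prop) : Set (G → ℂ) :=
  {f | ∃ (H : Subgroup G) (l : H →* ℂˣ), P H ∧ f = indFun H (fun h => (l h : ℂ))}

theorem lin_mem_span {χ : G → ℂ} (hχ : IsCharacter G χ) :
    χ ∈ Submodule.span ℤ (linSet fun H : Subgroup G => ∃ p : ℕ, p.Prime ∧ IsElementary p H) := by
  have h1 := BrauerInd.char_mem_span hχ
  refine Submodule.span_le.mpr ?_ h1
  rintro f ⟨E, φ, ⟨p, hp, hE⟩, hφ, rfl⟩
  haveI := Fintype.ofFinite E
  haveI := elementary_nilpotent hp hE
  obtain ⟨m, -, h2, -⟩ := char_expand hφ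
  have h3 : indFun E φ = ∑ ψ : IrrCharacter E, m ψ • indFun E (ψ : E → ℂ) := by
    conv_lhs => rw [h2]
    rw [ind_sum]
    refine Finset.sum_congr rfl fun ψ _ => ?_
    have h4 : ((m ψ : ℂ) • (ψ : E → ℂ)) = (m ψ : ℂ) • (ψ : E → ℂ) := rfl
    first
      | rw [ind_smul]; ext g; simp
      | (rw [← Nat.cast_smul_eq_nsmul ℂ, ← Nat.cast_smul_eq_nsmul ℂ, ind_smul])
  rw [SetLike.mem_coe, h3]
  refine Submodule.sum_mem _ fun ψ _ => Submodule.smul_of_tower_mem _ _ ?_
  apply Submodule.subset_span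
  obtain ⟨H', l, hl⟩ := monomial ψ.2
  refine ⟨H'.map E.subtype, l.comp (H'.equivMapOfInjective E.subtype E.subtype_injective).symm.toMonoidHom,
    ⟨p, hp, elementary_equiv (H'.equivMapOfInjective E.subtype E.subtype_injective) (elementary_sub hp hE H')⟩, ?_⟩
  rw [hl, ind_map]
  rfl

theorem lin_list {χ : G → ℂ} (h : χ ∈ Submodule.span ℤ (linSet fun H : Subgroup G => ∃ p : ℕ, p.Prime ∧ IsElementary p H)) :
    ∃ l : List ((E : Subgroup G) × ((E →* ℂˣ) × ℤ)), (∀ t ∈ l, ∃ p : ℕ, p.Prime ∧ IsElementary p t.1) ∧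
      χ = (l.map fun t => (t.2.2 : ℂ) • indFun t.1 (fun e => (t.2.1 e : ℂ))).sum := by
  induction h using Submodule.span_induction with
  | mem x hx =>
    obtain ⟨H, φ, hH, rfl⟩ := hx
    exact ⟨[⟨H, φ, 1⟩], by simpa using hH, by simp⟩
  | zero => exact ⟨[], by simp, by simp⟩
  | add x y _ _ hx hy =>
    obtain ⟨l, hl, rfl⟩ := hx
    obtain ⟨l', hl', rfl⟩ := hy
    refine ⟨l ++ l', ?_, by simp⟩
    intro t ht
    rcases List.mem_append.mp ht with h | h
    · exact hl t h
    · exact hl' t h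
  | smul a x _ hx =>
    obtain ⟨l, hl, rfl⟩ := hx
    refine ⟨l.map (fun t => ⟨t.1, t.2.1, a * t.2.2⟩), ?_, ?_⟩
    · intro t ht
      obtain ⟨t', ht', rfl⟩ := List.mem_map.mp ht
      exact hl t' ht'
    · rw [List.map_map, List.smul_sum, List.map_map]
      congr 1
      apply List.map_congr_left
      intro t _
      ext g
      simp [mul_assoc]

theorem brauer_linear {χ : G → ℂ} (hχ : IsCharacter G χ) :
    ∃ l : List ((E : Subgroup G) × ((E →* ℂˣ) × ℤ)), (∀ t ∈ l, ∃ p : ℕ, p.Prime ∧ IsElementary p t.1) ∧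
      χ = (l.map fun t => (t.2.2 : ℂ) • indFun t.1 (fun e => (t.2.1 e : ℂ))).sum :=
  lin_list (lin_mem_span hχ)

end Brauer
end CfsgLib.Monomial
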