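import Cfsg.Statements.S0188
import Cfsg.Agent.LibCharNorm

set_option autoImplicit false
set_option linter.all false
open Cfsg

namespace Cfsg.Agent.S0188

open CfsgLib.CharBasic CfsgLib.CharNorm in
theorem inner_prod_eq {G H : Type*} [Group G] [Fintype G] [Group H] [Fintype H] (φ φ' : G → ℂ) (ψ ψ' : H → ℂ) :
    classInner (fun x : G × H => φ x.1 * ψ x.2) (fun x : G × H => φ' x.1 * ψ' x.2) = classInner φ φ' * classInner ψ ψ' := by
  simp only [classInner, map_mul, Nat.card_prod, Nat.cast_mul, mul_inv]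
  rw [Fintype.sum_prod_type]
  have : ∑ x : G, ∑ y : H, φ x * ψ y * ((starRingEnd ℂ) (φ' x) * (starRingEnd ℂ) (ψ' y)) =
      (∑ g : G, φ g * (starRingEnd ℂ) (φ' g)) * ∑ g : H, ψ g * (starRingEnd ℂ) (ψ' g) := by
    rw [Finset.sum_mul_sum]
    exact Finset.sum_congr rfl fun x _ => Finset.sum_congr rfl fun y _ => by ring
  rw [this]; ring

open CfsgLib.CharBasic CfsgLib.CharNorm in
theorem irr_prod {G H : Type*} [Group G] [Finite G] [Group H] [Finite H] {φ : G → ℂ} {ψ : H → ℂ}
    (hφ : IsIrrCharacter G φ) (hψ : IsIrrCharacter H ψ) : IsIrrCharacter (G × H) (fun x => φ x.1 * ψ x.2) := by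
  haveI := Fintype.ofFinite G
  haveI := Fintype.ofFinite H
  rw [irr_iff_norm_one]
  refine ⟨?_, ?_⟩
  · exact isCharacter_mul (isCharacter_comp (irr_isCharacter hφ) (MonoidHom.fst G H)) (isCharacter_comp (irr_isCharacter hψ) (MonoidHom.snd G H))
  · rw [inner_prod_eq, irr_inner_self hφ, irr_inner_self hψ, one_mul]

/-- The irreducible complex characters of G × H are precisely the functions (g, h) ↦ φ g * ψ h with φ, ψ irreducible characters of G and H. -/
theorem result {G : Type*} [Group G] [Finite G] {H : Type*} [Group H] [Finite H] (θ : G × H → ℂ) : Cfsg.IsIrrCharacter (G × H) θ ↔ ∃ (φ : G → ℂ) (ψ : H → ℂ), Cfsg.IsIrrCharacter G φ ∧ Cfsg.IsIrrCharacter H ψ ∧ θ = fun x => φ x.1 * ψ x.2 := by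
  classical
  haveI := Fintype.ofFinite G
  haveI := Fintype.ofFinite H
  constructor
  · intro hθ
    -- the products are all of Irr by counting
    let F : Cfsg.IrrCharacter G × Cfsg.IrrCharacter H → Cfsg.IrrCharacter (G × H) := fun p => ⟨_, irr_prod p.1.2 p.2.2⟩
    have hF : Function.Injective F := by
      rintro ⟨φ, ψ⟩ ⟨φ', ψ'⟩ h
      by_contra hne
      have h1 : (fun x : G × H => (φ : G → ℂ) x.1 * (ψ : H → ℂ) x.2) = (fun x : G × H => (φ' : G → ℂ) x.1 * (ψ' : H → ℂ) x.2) := congrArg Subtype.val h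
      have h2 := CfsgLib.CharBasic.irr_inner_self (irr_prod φ.2 ψ.2)
      conv at h2 => lhs; rw [h1]
      have h3 : classInner (fun x : G × H => (φ' : G → ℂ) x.1 * (ψ' : H → ℂ) x.2) (fun x : G × H => (φ : G → ℂ) x.1 * (ψ : H → ℂ) x.2) = 1 := by
        rw [← h1]; exact CfsgLib.CharBasic.irr_inner_self (irr_prod φ.2 ψ.2)
      rw [inner_prod_eq] at h3
      by_cases h4 : φ' = φ
      · by_cases h5 : ψ' = ψ
        · exact hne (by rw [h4, h5])
        · rw [CfsgLib.CharBasic.irr_inner_ne ψ'.2 ψ.2 (fun h => h5 (Subtype.ext h)), mul_zero] at h3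
          exact zero_ne_one h3
      · rw [CfsgLib.CharBasic.irr_inner_ne φ'.2 φ.2 (fun h => h4 (Subtype.ext h)), zero_mul] at h3
        exact zero_ne_one h3
    have hcard : Nat.card (Cfsg.IrrCharacter G × Cfsg.IrrCharacter H) = Nat.card (Cfsg.IrrCharacter (G × H)) := by
      rw [Nat.card_prod, CfsgLib.CharBasic.card_irr, CfsgLib.CharBasic.card_irr, CfsgLib.CharBasic.card_irr, ← Nat.card_prod]
      apply Nat.card_congr
      refine Equiv.symm (Equiv.ofBijective (fun C : ConjClasses (G × H) => (ConjClasses.map (MonoidHom.fst G H) C, ConjClasses.map (MonoidHom.snd G H) C)) ⟨?_, ?_⟩)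
      · intro C D h
        obtain ⟨⟨a, b⟩, rfl⟩ := ConjClasses.exists_rep C
        obtain ⟨⟨c, d⟩, rfl⟩ := ConjClasses.exists_rep D
        have h1 : ConjClasses.mk a = ConjClasses.mk c := congrArg Prod.fst h
        have h2 : ConjClasses.mk b = ConjClasses.mk d := congrArg Prod.snd h
        rw [ConjClasses.mk_eq_mk_iff_isConj, isConj_iff] at h1 h2 ⊢
        obtain ⟨x, hx⟩ := h1
        obtain ⟨y, hy⟩ := h2
        exact ⟨(x, y), Prod.ext hx hy⟩
      · rintro ⟨C, D⟩
        obtain ⟨a, rfl⟩ := ConjClasses.exists_rep C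
        obtain ⟨b, rfl⟩ := ConjClasses.exists_rep D
        exact ⟨ConjClasses.mk (a, b), rfl⟩
    haveI := Fintype.ofFinite (Cfsg.IrrCharacter (G × H))
    have hsurj : Function.Surjective F := by
      have hb : Function.Bijective F := by
        rw [Fintype.bijective_iff_injective_and_card]
        refine ⟨hF, ?_⟩
        rw [← Nat.card_eq_fintype_card, ← Nat.card_eq_fintype_card]; exact hcard
      exact hb.2
    obtain ⟨⟨φ, ψ⟩, h⟩ := hsurj ⟨θ, hθ⟩
    exact ⟨φ, ψ, φ.2, ψ.2, (congrArg Subtype.val h).symm⟩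
  · rintro ⟨φ, ψ, hφ, hψ, rfl⟩
    exact irr_prod hφ hψ

end Cfsg.Agent.S0188
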