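import Cfsg.Agent.LibClifford2
import Cfsg.Agent.LibMonomial
import Cfsg.Agent.LibGallagher
import Cfsg.Agent.LibExtend2
import Cfsg.Agent.S0188
import Cfsg.Agent.LibFgHallCnt

set_option autoImplicit false
set_option linter.all false

/-! Dade's embedding of solvable groups into monomial groups. -/

open scoped ComplexConjugate
open Cfsg CfsgLib.CharBasic CfsgLib.CharIndA CfsgLib.Clifford

namespace CfsgLib.Dade4

universe u

/-- every irreducible character is induced from a linear character -/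
def Mgp (G : Type u) [Group G] [Fintype G] : Prop :=
  ∀ χ : G → ℂ, IsIrrCharacter G χ → ∃ (H : Subgroup G) (lam : H →* ℂˣ),
    χ = indFun H (fun h => (lam h : ℂ))

theorem Mgp.equiv {G G' : Type u} [Group G] [Fintype G] [Group G'] [Fintype G'] (e : G ≃* G')
    (h : Mgp G) : Mgp G' := by
  intro χ hχ
  obtain ⟨H, lam, hl⟩ := h (χ ∘ e) ((isIrr_comp_equiv e).2 hχ)
  refine ⟨H.map e.toMonoidHom, lam.comp
    (H.equivMapOfInjective e.toMonoidHom e.injective).symm.toMonoidHom, ?_⟩
  ext g'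
  obtain ⟨g, rfl⟩ := e.surjective g'
  have h1 := congrFun hl g
  rw [Function.comp_apply] at h1
  rw [h1, ind_apply, ind_apply]
  have hc : Nat.card (H.map e.toMonoidHom) = Nat.card H :=
    Nat.card_congr (H.equivMapOfInjective e.toMonoidHom e.injective).toEquiv.symm
  rw [hc]
  congr 1
  refine Fintype.sum_equiv e.toEquiv _ _ fun x => ?_
  by_cases hx : x⁻¹ * g * x ∈ H
  · have hx' : (e.toEquiv x)⁻¹ * e g * (e.toEquiv x) ∈ H.map e.toMonoidHom :=
      ⟨x⁻¹ * g * x, hx, by simp⟩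
    have h2 : (H.equivMapOfInjective e.toMonoidHom e.injective).symm
        ⟨(e.toEquiv x)⁻¹ * e g * (e.toEquiv x), hx'⟩ = ⟨x⁻¹ * g * x, hx⟩ := by
      rw [MulEquiv.symm_apply_eq]
      apply Subtype.ext
      change (e x)⁻¹ * e g * e x = e (x⁻¹ * g * x)
      rw [map_mul, map_mul, map_inv]
    rw [ext_mem H _ hx, ext_mem _ _ hx', ← h2]
    rfl
  · have hx' : ¬ (e.toEquiv x)⁻¹ * e g * (e.toEquiv x) ∈ H.map e.toMonoidHom := by
      rintro ⟨y, hy, hy2⟩
      apply hx
      have : y = x⁻¹ * g * x := by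
        apply e.injective
        rw [map_mul, map_mul, map_inv]
        exact hy2
      rw [← this]; exact hy
    rw [ext_not_mem H _ hx, ext_not_mem _ _ hx']

/-! ### powers -/

theorem fin_irr {H : Type u} [Group H] [Fintype H] (n : ℕ) : ∀ θ : (Fin n → H) → ℂ,
    IsIrrCharacter (Fin n → H) θ → ∃ ψ : Fin n → H → ℂ, (∀ i, IsIrrCharacter H (ψ i)) ∧
      θ = fun f => ∏ i, ψ i (f i) := by
  induction n with
  | zero =>
    intro θ hθ
    refine ⟨fun i => i.elim0, fun i => i.elim0, ?_⟩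
    obtain ⟨f, hf⟩ := irr_hom_of_comm (fun a b => Subsingleton.elim _ _) hθ
    ext x
    have : x = 1 := Subsingleton.elim _ _
    rw [hf, this, map_one]
    simp
  | succ n ih =>
    intro θ hθ
    let e : H × (Fin n → H) ≃* (Fin (n + 1) → H) :=
      { toFun := fun x => Fin.cons x.1 x.2
        invFun := fun f => (f 0, fun i => f i.succ)
        left_inv := fun x => by simp
        right_inv := fun f => by
          ext i
          refine Fin.cases ?_ ?_ i
          · simp
          · intro i; simp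
        map_mul' := fun x y => by
          ext i
          refine Fin.cases ?_ ?_ i
          · simp
          · intro i; simp }
    obtain ⟨φ, η, hφ, hη, hpe⟩ := (Cfsg.Agent.S0188.result (θ ∘ e)).1 ((isIrr_comp_equiv e).2 hθ)
    obtain ⟨ψ, hψ, rfl⟩ := ih η hη
    refine ⟨Fin.cons φ ψ, ?_, ?_⟩
    · intro i
      refine Fin.cases ?_ ?_ i
      · simpa using hφ
      · intro i; simpa using hψ i
    · ext f
      have h1 := congrFun hpe (e.symm f)
      rw [Function.comp_apply, MulEquiv.apply_symm_apply] at h1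
      rw [h1, Fin.prod_univ_succ]
      rfl

theorem pi_irr {H Q : Type u} [Group H] [Fintype H] [Fintype Q] (θ : (Q → H) → ℂ)
    (hθ : IsIrrCharacter (Q → H) θ) : ∃ ψ : Q → H → ℂ, (∀ i, IsIrrCharacter H (ψ i)) ∧
      θ = fun f => ∏ i, ψ i (f i) := by
  classical
  let e := Fintype.equivFin Q
  let E : (Fin (Fintype.card Q) → H) ≃* (Q → H) := MulEquiv.arrowCongr e.symm (MulEquiv.refl H)
  obtain ⟨ψ, hψ, h1⟩ := fin_irr (Fintype.card Q) (θ ∘ E) ((isIrr_comp_equiv E).2 hθ)
  refine ⟨fun q => ψ (e q), fun q => hψ _, ?_⟩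
  ext f
  have h2 := congrFun h1 (E.symm f)
  rw [Function.comp_apply, MulEquiv.apply_symm_apply] at h2
  rw [h2]
  refine Fintype.prod_equiv e.symm _ _ fun i => ?_
  simp [E, MulEquiv.arrowCongr]

section
variable {H Q : Type u} [Group H] [Fintype H] [Fintype Q] [DecidableEq Q]

/-- product subgroup -/
def PiS (K : Q → Subgroup H) : Subgroup (Q → H) := Subgroup.pi Set.univ K

theorem mem_PiS {K : Q → Subgroup H} {f : Q → H} : f ∈ PiS K ↔ ∀ q, f q ∈ K q := by
  unfold PiS
  rw [Subgroup.mem_pi]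
  simp

/-- product hom -/
def PiL (K : Q → Subgroup H) (lam : ∀ q, K q →* ℂˣ) : PiS K →* ℂˣ where
  toFun f := ∏ q, lam q ⟨(f : Q → H) q, mem_PiS.1 f.2 q⟩
  map_one' := by
    apply Finset.prod_eq_one
    intro q _
    exact map_one (lam q)
  map_mul' f g := by
    rw [← Finset.prod_mul_distrib]
    refine Finset.prod_congr rfl fun q _ => ?_
    rw [← map_mul]
    rfl

theorem card_PiS (K : Q → Subgroup H) : Nat.card (PiS K) = ∏ q, Nat.card (K q) := by
  rw [← Nat.card_pi]
  refine Nat.card_congr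
    { toFun := fun f q => ⟨(f : Q → H) q, mem_PiS.1 f.2 q⟩
      invFun := fun g => ⟨fun q => g q, mem_PiS.2 fun q => (g q).2⟩
      left_inv := fun f => rfl
      right_inv := fun g => rfl }

theorem ext_pi (K : Q → Subgroup H) (lam : ∀ q, K q →* ℂˣ) (f : Q → H) :
    extendByZero (PiS K) (fun h => (PiL K lam h : ℂ)) f =
      ∏ q, extendByZero (K q) (fun h => (lam q h : ℂ)) (f q) := by
  by_cases hf : ∀ q, f q ∈ K q
  · rw [ext_mem _ _ (mem_PiS.2 hf)]
    unfold PiL
    simp only [MonoidHom.coe_mk, OneHom.coe_mk, Units.coe_prod]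
    refine Finset.prod_congr rfl fun q _ => ?_
    rw [ext_mem _ _ (hf q)]
  · rw [ext_not_mem _ _ (fun h => hf (mem_PiS.1 h))]
    push Not at hf
    obtain ⟨q, hq⟩ := hf
    symm
    apply Finset.prod_eq_zero (Finset.mem_univ q)
    rw [ext_not_mem _ _ hq]

theorem sum_ext_pi (K : Q → Subgroup H) (lam : ∀ q, K q →* ℂˣ) (f : Q → H) :
    ∑ x : Q → H, extendByZero (PiS K) (fun h => (PiL K lam h : ℂ)) (x⁻¹ * f * x) =
      ∏ q, ∑ x : H, extendByZero (K q) (fun h => (lam q h : ℂ)) (x⁻¹ * f q * x) := by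
  rw [Finset.prod_univ_sum, Fintype.piFinset_univ]
  refine Finset.sum_congr rfl fun x _ => ?_
  rw [ext_pi]
  rfl

theorem ind_pi (K : Q → Subgroup H) (lam : ∀ q, K q →* ℂˣ) (f : Q → H) :
    indFun (PiS K) (fun h => (PiL K lam h : ℂ)) f =
      ∏ q, indFun (K q) (fun h => (lam q h : ℂ)) (f q) := by
  rw [ind_apply, sum_ext_pi, card_PiS]
  push_cast
  rw [← Finset.prod_inv_distrib, ← Finset.prod_mul_distrib]
  refine Finset.prod_congr rfl fun q _ => ?_
  rw [ind_apply]

theorem Mgp.pi (hH : Mgp H) : Mgp (Q → H) := by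
  intro χ hχ
  obtain ⟨ψ, hψ, rfl⟩ := pi_irr χ hχ
  choose K lam hK using fun q => hH (ψ q) (hψ q)
  refine ⟨PiS K, PiL K lam, ?_⟩
  ext f
  rw [ind_pi]
  refine Finset.prod_congr rfl fun q _ => ?_
  rw [← hK q]

theorem prod_unique {ψ φ : Q → H → ℂ} (hψ : ∀ q, IsIrrCharacter H (ψ q))
    (hφ : ∀ q, IsIrrCharacter H (φ q)) (h : ∀ f : Q → H, ∏ q, ψ q (f q) = ∏ q, φ q (f q)) :
    ψ = φ := by
  ext1 q
  have key : ∀ (ξ : Q → H → ℂ) (y : H), ∏ x, ξ x (Function.update (1 : Q → H) q y x) =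
      ξ q y * ∏ x ∈ Finset.univ.erase q, ξ x 1 := by
    intro ξ y
    rw [← Finset.mul_prod_erase Finset.univ _ (Finset.mem_univ q), Function.update_self]
    congr 1
    refine Finset.prod_congr rfl fun x hx => ?_
    rw [Function.update_of_ne (Finset.ne_of_mem_erase hx)]
    rfl
  have hne : ∀ ξ : Q → H → ℂ, (∀ q, IsIrrCharacter H (ξ q)) →
      ∏ x ∈ Finset.univ.erase q, ξ x 1 ≠ 0 := by
    intro ξ hξ
    rw [Finset.prod_ne_zero_iff]
    intro x _
    exact CfsgLib.CharInt.irr_one_ne_zero (hξ x)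
  obtain ⟨c, hc⟩ : ∃ c, c = ∏ x ∈ Finset.univ.erase q, ψ x 1 := ⟨_, rfl⟩
  obtain ⟨c', hc'⟩ : ∃ c', c' = ∏ x ∈ Finset.univ.erase q, φ x 1 := ⟨_, rfl⟩
  have hc0 : c ≠ 0 := by rw [hc]; exact hne ψ hψ
  have hc0' : c' ≠ 0 := by rw [hc']; exact hne φ hφ
  have h1 : ∀ y, ψ q y * c = φ q y * c' := by
    intro y
    have := h (Function.update (1 : Q → H) q y)
    rw [key ψ y, key φ y] at this
    rw [hc, hc']
    exact this
  have h2 : ψ q = (c' / c) • φ q := by
    ext y
    rw [Pi.smul_apply, smul_eq_mul, div_mul_eq_mul_div, eq_div_iff hc0, h1 y, mul_comm]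
  by_contra hcon
  have h3 := irr_inner_ne (hψ q) (hφ q) hcon
  rw [h2, CfsgLib.CharBasic.inner_smul_left, irr_inner_self (hφ q), mul_one] at h3
  exact (div_ne_zero hc0' hc0) h3

end

/-! ### wreath products -/

section wr
variable {H Q : Type u} [Group H] [Fintype H] [Group Q] [Fintype Q] [DecidableEq Q]

/-- base group -/
def Bs (H Q : Type u) [Group H] [Group Q] : Subgroup (H ≀ᵣ Q) :=
  (RegularWreathProduct.rightHom : H ≀ᵣ Q →* Q).ker

theorem mem_Bs {w : H ≀ᵣ Q} : w ∈ Bs H Q ↔ w.right = 1 := Iff.rfl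

theorem Bs_normal : (Bs H Q).Normal := MonoidHom.normal_ker _

def eB : (Q → H) ≃* Bs H Q where
  toFun f := ⟨⟨f, 1⟩, rfl⟩
  invFun w := w.1.left
  left_inv f := rfl
  right_inv w := by
    obtain ⟨⟨f, q⟩, hq⟩ := w
    have : q = 1 := hq
    subst this
    rfl
  map_mul' f g := by
    apply Subtype.ext
    apply RegularWreathProduct.ext
    · ext x
      simp [RegularWreathProduct.mul_left]
    · simp

theorem Bs_index : (Bs H Q).index = Nat.card Q := by
  unfold Bs
  rw [Subgroup.index_ker]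
  have : (RegularWreathProduct.rightHom : H ≀ᵣ Q →* Q).range = ⊤ := by
    rw [MonoidHom.range_eq_top]
    intro q
    exact ⟨RegularWreathProduct.inl q, rfl⟩
  rw [this]
  exact Subgroup.card_top

/-- the subgroup `K ≀ Q` -/
def LS (Q : Type u) [Group Q] (K : Subgroup H) : Subgroup (H ≀ᵣ Q) where
  carrier := {w | ∀ x, w.left x ∈ K}
  mul_mem' := by
    intro a b ha hb x
    exact K.mul_mem (ha x) (hb _)
  one_mem' := fun x => K.one_mem
  inv_mem' := by
    intro a ha x
    exact K.inv_mem (ha _)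

theorem mem_LS {K : Subgroup H} {w : H ≀ᵣ Q} : w ∈ LS Q K ↔ ∀ x, w.left x ∈ K := Iff.rfl

/-- the linear character of `K ≀ Q` -/
def LL (Q : Type u) [Group Q] [Fintype Q] (K : Subgroup H) (lam : K →* ℂˣ) : LS Q K →* ℂˣ where
  toFun w := ∏ x, lam ⟨(w : H ≀ᵣ Q).left x, w.2 x⟩
  map_one' := by
    apply Finset.prod_eq_one
    intro q _
    exact map_one lam
  map_mul' a b := by
    have h1 : ∏ x, lam ⟨(b : H ≀ᵣ Q).left x, b.2 x⟩ =
        ∏ x, lam ⟨(b : H ≀ᵣ Q).left ((a : H ≀ᵣ Q).right⁻¹ * x), b.2 _⟩ := by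
      symm
      exact Fintype.prod_equiv (Equiv.mulLeft (a : H ≀ᵣ Q).right⁻¹) _ _ fun x => rfl
    rw [h1, ← Finset.prod_mul_distrib]
    refine Finset.prod_congr rfl fun q _ => ?_
    rw [← map_mul]
    rfl

theorem card_LS (K : Subgroup H) : Nat.card (LS Q K) = Nat.card K ^ Nat.card Q * Nat.card Q := by
  rw [← Nat.card_fun, ← Nat.card_prod]
  refine Nat.card_congr
    { toFun := fun w => (fun x => ⟨(w : H ≀ᵣ Q).left x, w.2 x⟩, (w : H ≀ᵣ Q).right)
      invFun := fun g => ⟨⟨fun x => g.1 x, g.2⟩, fun x => (g.1 x).2⟩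
      left_inv := fun f => rfl
      right_inv := fun g => rfl }

theorem ext_LS (K : Subgroup H) (lam : K →* ℂˣ) (w : H ≀ᵣ Q) :
    extendByZero (LS Q K) (fun h => (LL Q K lam h : ℂ)) w =
      ∏ x, extendByZero K (fun h => (lam h : ℂ)) (w.left x) := by
  by_cases hf : ∀ q, w.left q ∈ K
  · rw [ext_mem _ _ (mem_LS.2 hf)]
    unfold LL
    simp only [MonoidHom.coe_mk, OneHom.coe_mk, Units.coe_prod]
    refine Finset.prod_congr rfl fun q _ => ?_
    rw [ext_mem _ _ (hf q)]
  · rw [ext_not_mem _ _ (fun h => hf (mem_LS.1 h))]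
    push Not at hf
    obtain ⟨q, hq⟩ := hf
    symm
    apply Finset.prod_eq_zero (Finset.mem_univ q)
    rw [ext_not_mem _ _ hq]

theorem conj_left (f g : Q → H) (q : Q) (x : Q) :
    ((⟨g, q⟩ : H ≀ᵣ Q)⁻¹ * ⟨f, 1⟩ * ⟨g, q⟩).left x = (g (q * x))⁻¹ * f (q * x) * g (q * x) := by
  simp [RegularWreathProduct.mul_left]

theorem ind_LS [Fintype (H ≀ᵣ Q)] (K : Subgroup H) (lam : K →* ℂˣ) (f : Q → H) :
    indFun (LS Q K) (fun h => (LL Q K lam h : ℂ)) ⟨f, 1⟩ =
      ∏ q, indFun K (fun h => (lam h : ℂ)) (f q) := by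
  have h1 : ∑ w : H ≀ᵣ Q, extendByZero (LS Q K) (fun h => (LL Q K lam h : ℂ))
      (w⁻¹ * ⟨f, 1⟩ * w) = (Nat.card Q : ℂ) *
        ∏ q, ∑ x : H, extendByZero K (fun h => (lam h : ℂ)) (x⁻¹ * f q * x) := by
    have h2 : ∑ w : H ≀ᵣ Q, extendByZero (LS Q K) (fun h => (LL Q K lam h : ℂ))
      (w⁻¹ * ⟨f, 1⟩ * w) = ∑ y : (Q → H) × Q, ∏ x, extendByZero K (fun h => (lam h : ℂ))
        ((y.1 x)⁻¹ * f x * y.1 x) := by
      refine Fintype.sum_equiv (RegularWreathProduct.equivProd H Q) _ _ fun w => ?_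
      obtain ⟨g, q⟩ := w
      rw [ext_LS]
      simp only [conj_left]
      exact Fintype.prod_equiv (Equiv.mulLeft q) _ _ fun x => rfl
    rw [h2, Fintype.sum_prod_type]
    simp only [Finset.sum_const, Finset.card_univ, nsmul_eq_mul]
    rw [← Finset.mul_sum, Nat.card_eq_fintype_card, Finset.prod_univ_sum, Fintype.piFinset_univ]
  rw [ind_apply, h1, card_LS]
  have hQ : (Nat.card Q : ℂ) ≠ 0 := by exact_mod_cast Nat.card_pos.ne'
  simp only [ind_apply]
  rw [Finset.prod_mul_distrib, Finset.prod_const, Finset.card_univ, ← Nat.card_eq_fintype_card]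
  push_cast
  rw [inv_pow]
  field_simp

theorem wreath [Fintype (H ≀ᵣ Q)] (hQ : (Nat.card Q).Prime) (hH : Mgp H) : Mgp (H ≀ᵣ Q) := by
  classical
  intro χ hχ
  have hB : (Bs H Q).Normal := Bs_normal
  haveI : Fintype (Bs H Q) := Fintype.ofFinite _
  have hMB : Mgp (Bs H Q) := (Mgp.pi (Q := Q) hH).equiv eB
  obtain ⟨θ, hθ, hne⟩ := exists_below (Bs H Q) hχ
  by_cases hinv : ∀ g, cj hB g θ = θ
  · -- invariant case
    obtain ⟨ψ, hψ, hψ2⟩ := pi_irr (θ ∘ eB) ((isIrr_comp_equiv eB).2 hθ)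
    have hval : ∀ f : Q → H, θ (eB f) = ∏ i, ψ i (f i) := fun f => congrFun hψ2 f
    have hshift : ∀ q : Q, (fun x => ψ (q * x)) = ψ := by
      intro q
      apply prod_unique (fun x => hψ _) hψ
      intro f
      have h1 := congrFun (hinv (RegularWreathProduct.inl q)) (eB f)
      rw [cj_apply] at h1
      have h2 : (⟨RegularWreathProduct.inl q * (eB f : H ≀ᵣ Q) * (RegularWreathProduct.inl q)⁻¹,
          hB.conj_mem _ (eB f).2 _⟩ : Bs H Q) = eB (fun x => f (q⁻¹ * x)) := by
        apply Subtype.ext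
        apply RegularWreathProduct.ext
        · ext x
          simp [RegularWreathProduct.mul_left, eB]
        · simp [eB]
      rw [h2, hval, hval] at h1
      rw [← h1]
      refine Fintype.prod_equiv (Equiv.mulLeft q) _ _ fun x => ?_
      simp
    have hall : ∀ q, ψ q = ψ 1 := by
      intro q
      have := congrFun (hshift q) 1
      simpa using this
    obtain ⟨K, lam, hK⟩ := hH (ψ 1) (hψ 1)
    obtain ⟨ξ, hξ⟩ : ∃ ξ, ξ = indFun (LS Q K) (fun h => (LL Q K lam h : ℂ)) := ⟨_, rfl⟩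
    have hξθ : (fun n : Bs H Q => ξ n) = θ := by
      ext n
      obtain ⟨f, rfl⟩ := eB.surjective n
      rw [hval, hξ]
      change indFun (LS Q K) (fun h => (LL Q K lam h : ℂ)) ⟨f, 1⟩ = _
      rw [ind_LS]
      refine Finset.prod_congr rfl fun x _ => ?_
      rw [hall x, hK]
    have hξc : IsCharacter (H ≀ᵣ Q) ξ := by
      rw [hξ]
      exact isCharacter_ind _ (isCharacter_hom _)
    have hξi : IsIrrCharacter (H ≀ᵣ Q) ξ :=
      CfsgLib.Extend.irr_of_restrict hξc (Bs H Q) (by rw [hξθ]; exact hθ)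
    obtain ⟨h1, h2⟩ := CfsgLib.Gallagher.gallagher_exists (hN := hB) (Bs H Q) hξi
      (by rw [hξθ]; exact hθ) hχ (by rw [hξθ]; exact hne)
    obtain ⟨η, hη⟩ : ∃ η, η = CfsgLib.Gallagher.avg (Bs H Q) (fun g => χ g * conj (ξ g)) := ⟨_, rfl⟩
    rw [← hη] at h1 h2
    have hη1 : η 1 = 1 := by
      apply CfsgLib.Monomial.linear_of_commutator_le h1
      have hle : commutator (H ≀ᵣ Q) ≤ Bs H Q := by
        haveI := hB
        haveI : Fact (Nat.card Q).Prime := ⟨hQ⟩
        rw [commutator_def, Subgroup.commutator_le]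
        intro a _ b _
        rw [mem_Bs, commutatorElement_def]
        have hcyc : IsCyclic Q := isCyclic_of_prime_card (p := Nat.card Q) rfl
        have : a.right * b.right = b.right * a.right := by
          obtain ⟨g, hg⟩ := hcyc.exists_generator
          obtain ⟨m, hm⟩ := Subgroup.mem_zpowers_iff.1 (hg a.right)
          obtain ⟨n, hn⟩ := Subgroup.mem_zpowers_iff.1 (hg b.right)
          rw [← hm, ← hn, ← zpow_add, ← zpow_add, add_comm]
        simp only [RegularWreathProduct.mul_right, RegularWreathProduct.inv_right]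
        rw [this]
        group
      intro n hn
      have := CfsgLib.Gallagher.avg_mul_left (Bs H Q) (fun g => χ g * conj (ξ g)) ⟨n, hle hn⟩ 1
      rw [mul_one] at this
      rw [hη]
      exact this
    obtain ⟨mu, hmu⟩ := exists_hom_of_linear (irr_isCharacter h1) hη1
    refine ⟨LS Q K, LL Q K lam * mu.comp (LS Q K).subtype, ?_⟩
    rw [← h2]
    have h3 := ind_mul_restrict (H := LS Q K) (fun h => (LL Q K lam h : ℂ))
      (irr_classFun h1)
    have h4 : (fun h : LS Q K => (((LL Q K lam * mu.comp (LS Q K).subtype) h : ℂˣ) : ℂ)) =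
        fun h : LS Q K => (LL Q K lam h : ℂ) * η h := by
      ext h
      rw [MonoidHom.mul_apply, Units.val_mul, hmu]
      rfl
    rw [h4, h3, ← hξ]
    ext g
    rw [Pi.mul_apply, mul_comm]
  · -- non-invariant case
    have hT : inertia hB θ = Bs H Q := by
      have hle : Bs H Q ≤ inertia hB θ := le_inertia hB (irr_classFun hθ)
      have hdvd : (inertia hB θ).index ∣ (Bs H Q).index := Subgroup.index_dvd_of_le hle
      rw [Bs_index] at hdvd
      rcases (Nat.dvd_prime hQ).1 hdvd with h | h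
      · exfalso
        apply hinv
        intro g
        have : g ∈ inertia hB θ := by
          rw [Subgroup.index_eq_one.1 h]; trivial
        exact this
      · symm
        apply Subgroup.eq_of_le_of_card_ge hle
        have h1 := Subgroup.card_mul_index (inertia hB θ)
        have h2 := Subgroup.card_mul_index (Bs H Q)
        rw [h] at h1
        rw [Bs_index, ← h1] at h2
        exact (Nat.eq_of_mul_eq_mul_right hQ.pos h2).symm.le
    obtain ⟨ψ, hψ, -, hψ2, -⟩ := clifford_corr_surj hB (le_refl _) hθ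
      (fun g => by rw [← mem_inertia hB, hT]) hχ hne
    obtain ⟨K, lam, hK⟩ := hMB ψ hψ
    refine ⟨K.map (Bs H Q).subtype, lam.comp
      (K.equivMapOfInjective (Bs H Q).subtype (Bs H Q).subtype_injective).symm.toMonoidHom, ?_⟩
    rw [← hψ2, hK, CfsgLib.Monomial.ind_map]
    rfl

end wr

/-! ### the embedding -/

section emb

theorem embed {G H : Type u} [Group G] [Group H] (N : Subgroup G) [N.Normal] (j : N →* H)
    (hj : Function.Injective j) : ∃ f : G →* (H ≀ᵣ (G ⧸ N)), Function.Injective f := by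
  classical
  obtain ⟨s, hs⟩ : ∃ s : G ⧸ N → G, ∀ x, (s x : G ⧸ N) = x :=
    ⟨Quotient.out, fun x => Quotient.out_eq' x⟩
  have hmem : ∀ (g : G) (x : G ⧸ N), (s x)⁻¹ * g * s ((g : G ⧸ N)⁻¹ * x) ∈ N := by
    intro g x
    rw [← QuotientGroup.eq_one_iff, QuotientGroup.mk_mul, QuotientGroup.mk_mul, QuotientGroup.mk_inv,
      hs, hs]
    group
  refine ⟨{ toFun := fun g => ⟨fun x => j ⟨_, hmem g x⟩, (g : G ⧸ N)⟩
            map_one' := ?_
            map_mul' := ?_ }, ?_⟩
  · apply RegularWreathProduct.ext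
    · ext x
      change j ⟨_, hmem 1 x⟩ = 1
      have : (⟨_, hmem 1 x⟩ : N) = 1 := by
        apply Subtype.ext
        change (s x)⁻¹ * 1 * s (((1 : G) : G ⧸ N)⁻¹ * x) = 1
        rw [QuotientGroup.mk_one, inv_one, one_mul]
        group
      rw [this, map_one]
    · rfl
  · intro a b
    apply RegularWreathProduct.ext
    · ext x
      change j ⟨_, hmem (a * b) x⟩ = j ⟨_, hmem a x⟩ * j ⟨_, hmem b ((a : G ⧸ N)⁻¹ * x)⟩
      rw [← map_mul]
      congr 1
      apply Subtype.ext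
      change (s x)⁻¹ * (a * b) * s (((a * b : G) : G ⧸ N)⁻¹ * x) = ((s x)⁻¹ * a *
        s ((a : G ⧸ N)⁻¹ * x)) * ((s ((a : G ⧸ N)⁻¹ * x))⁻¹ * b *
          s ((b : G ⧸ N)⁻¹ * ((a : G ⧸ N)⁻¹ * x)))
      rw [QuotientGroup.mk_mul, mul_inv_rev, mul_assoc (b : G ⧸ N)⁻¹ _ x]
      group
    · rfl
  · rw [injective_iff_map_eq_one]
    intro g hg
    have h1 : (g : G ⧸ N) = 1 := congrArg RegularWreathProduct.right hg
    have h2 : j ⟨_, hmem g 1⟩ = 1 := congrFun (congrArg RegularWreathProduct.left hg) 1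
    have h3 : (⟨_, hmem g 1⟩ : N) = 1 := hj (by rw [h2, map_one])
    have h4 : (s 1)⁻¹ * g * s ((g : G ⧸ N)⁻¹ * 1) = 1 := congrArg Subtype.val h3
    rw [h1, inv_one, one_mul] at h4
    have : g = s 1 * ((s 1)⁻¹ * g * s 1) * (s 1)⁻¹ := by group
    rw [this, h4]
    group

theorem main (n : ℕ) : ∀ (G : Type u) [Group G] [Finite G], Group.IsSolvable G → Nat.card G = n →
    ∃ (M : Type u) (_ : Group M) (_ : Fintype M), Mgp M ∧ ∃ f : G →* M, Function.Injective f := by
  induction n using Nat.strong_induction_on with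
  | _ n ih =>
    intro G _ _ hsolv hn
    haveI := hsolv
    rcases subsingleton_or_nontrivial G with hG | hG
    · haveI := Fintype.ofFinite G
      haveI : Group.IsNilpotent G := Group.isNilpotent_of_subsingleton
      exact ⟨G, inferInstance, inferInstance, fun χ hχ => CfsgLib.Monomial.monomial hχ,
        MonoidHom.id G, fun x y h => h⟩
    · obtain ⟨N, r, hN, hr, hp'⟩ := CfsgLib.FgHallCnt.exists_normal_prime_index (H := G)
      have hp : N.index.Prime := by rw [hp']; exact hr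
      haveI := hN
      have hlt : Nat.card N < n := by
        have h1 := Subgroup.card_mul_index N
        rw [← hn, ← h1]
        have h2 := hp.two_le
        have h3 : 0 < Nat.card N := Nat.card_pos
        nlinarith
      obtain ⟨H, hH1, hH2, hH3, j, hj⟩ := ih (Nat.card N) hlt N inferInstance rfl
      haveI : Finite H := Finite.of_fintype H
      haveI : Fintype (G ⧸ N) := Fintype.ofFinite _
      haveI : Fintype (H ≀ᵣ (G ⧸ N)) := Fintype.ofFinite _
      classical
      obtain ⟨f, hf⟩ := embed N j hj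
      refine ⟨H ≀ᵣ (G ⧸ N), inferInstance, inferInstance, wreath ?_ hH3, f, hf⟩
      rw [← Subgroup.index_eq_card]
      exact hp

end emb

end CfsgLib.Dade4
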