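import Mathlib
import Cfsg.Agent.LibExtend2

/-!
# Extension of invariant characters, II: cyclic quotients, coprime extensions (helper20)
-/

set_option autoImplicit false
set_option linter.all false

namespace CfsgLib.Extend

open Cfsg CfsgLib.CharBasic
open scoped Pointwise

universe u v w

section
variable {G : Type u} [Group G] [Finite G] {N : Subgroup G} [hN : N.Normal]
variable {V : Type v} [AddCommGroup V] [Module ℂ V] [FiniteDimensional ℂ V] {ρ : Representation ℂ N V}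
    [hρ : ρ.IsIrreducible]

instance nt_range_normal : (nt N ρ).range.Normal := by
  refine ⟨?_⟩
  rintro _ ⟨n, rfl⟩ x
  exact ⟨_, (nt_conj x n).symm⟩

theorem exists_ext_of_section (S : Subgroup (Gam N ρ)) (hS : (nt N ρ).range ≤ S)
    (hb : Function.Bijective ((pr N ρ).comp S.subtype)) :
    ∃ σ : Representation ℂ G V, ∀ n : N, σ n = ρ n := by
  let e : S ≃* G := MulEquiv.ofBijective _ hb
  refine ⟨(Units.coeHom _).comp (((mat N ρ).comp S.subtype).comp e.symm.toMonoidHom), fun n => ?_⟩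
  have h1 : e.symm (n : G) = ⟨nt N ρ n, hS ⟨n, rfl⟩⟩ := by
    rw [MulEquiv.symm_apply_eq]; rfl
  show ((mat N ρ (e.symm (n : G) : S) : (V →ₗ[ℂ] V)ˣ) : V →ₗ[ℂ] V) = ρ n
  rw [h1]; rfl

theorem rep_ext_cyclic (hinv : Inv N ρ.character) (hcyc : IsCyclic (G ⧸ N)) :
    ∃ σ : Representation ℂ G V, ∀ n : N, σ n = ρ n := by
  obtain ⟨q, hq⟩ := hcyc.exists_generator
  obtain ⟨g, rfl⟩ := QuotientGroup.mk'_surjective N q
  obtain ⟨γ, hγ⟩ := surj_of_inv hinv g
  set r := N.index with hr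
  have hr0 : r ≠ 0 := Subgroup.index_ne_zero_of_finite
  have hord : orderOf (QuotientGroup.mk' N g) = r := by
    rw [orderOf_eq_card_of_forall_mem_zpowers hq]; rfl
  have hgr : g ^ r ∈ N := by
    rw [← QuotientGroup.eq_one_iff]
    have := pow_orderOf_eq_one (QuotientGroup.mk' N g)
    rw [hord, ← map_pow] at this
    exact this
  obtain ⟨c, hc⟩ := schur_gam (x := γ ^ r) (y := nt N ρ ⟨g ^ r, hgr⟩) (by rw [map_pow, hγ, pr_nt])
  obtain ⟨e, he⟩ : ∃ e : ℂˣ, e ^ r = c⁻¹ := by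
    obtain ⟨z, hz⟩ := IsAlgClosed.exists_pow_nat_eq ((c⁻¹ : ℂˣ) : ℂ) (Nat.pos_of_ne_zero hr0)
    have hz0 : z ≠ 0 := by
      rintro rfl
      rw [zero_pow hr0] at hz
      exact (c⁻¹ : ℂˣ).ne_zero hz.symm
    exact ⟨Units.mk0 z hz0, Units.ext (by simpa using hz)⟩
  set δ := ia N ρ e * γ with hδ
  have hδr : δ ^ r = nt N ρ ⟨g ^ r, hgr⟩ := by
    rw [hδ, (show Commute (ia N ρ e) γ from ia_comm e γ).mul_pow, hc, ← map_pow, he, ← mul_assoc, ← map_mul,
      inv_mul_cancel, map_one, one_mul]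
  have hprδ : pr N ρ δ = g := by rw [hδ, map_mul, pr_ia, one_mul, hγ]
  apply exists_ext_of_section ((nt N ρ).range ⊔ Subgroup.zpowers δ) le_sup_left
  constructor
  · rw [← MonoidHom.ker_eq_bot_iff, eq_bot_iff]
    rintro ⟨x, hx⟩ hx2
    have hx3 : pr N ρ x = 1 := hx2
    have hx4 : x ∈ (((nt N ρ).range : Set (Gam N ρ)) * (Subgroup.zpowers δ : Set (Gam N ρ))) := by
      rw [← Subgroup.normal_mul]; exact hx
    obtain ⟨_, ⟨n, rfl⟩, _, ⟨k, rfl⟩, rfl⟩ := hx4
    simp only at hx3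
    rw [map_mul, pr_nt, map_zpow, hprδ] at hx3
    have hk : g ^ k ∈ N := by
      have : g ^ k = (n : G)⁻¹ := eq_inv_of_mul_eq_one_right hx3
      rw [this]; exact N.inv_mem n.2
    have hrk : (r : ℤ) ∣ k := by
      rw [← hord, orderOf_dvd_iff_zpow_eq_one, ← map_zpow]
      exact (QuotientGroup.eq_one_iff _).mpr hk
    obtain ⟨j, rfl⟩ := hrk
    have h5 : δ ^ ((r : ℤ) * j) = nt N ρ (⟨g ^ r, hgr⟩ ^ j) := by
      rw [zpow_mul, zpow_natCast, hδr, map_zpow]
    have h6 : n * (⟨g ^ r, hgr⟩ : N) ^ j = 1 := by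
      apply Subtype.ext
      simp only [Subgroup.coe_mul, Subgroup.coe_zpow, Subgroup.coe_one]
      rw [zpow_mul, zpow_natCast] at hx3
      exact hx3
    rw [Subgroup.mem_bot]
    apply Subtype.ext
    simp only
    rw [h5, ← map_mul, h6, map_one]; rfl
  · intro x
    obtain ⟨k, hk⟩ := Subgroup.mem_zpowers_iff.mp (hq (QuotientGroup.mk' N x))
    have h7 : (g ^ k)⁻¹ * x ∈ N := by
      rw [← QuotientGroup.eq]
      exact (by rw [← map_zpow] at hk; exact hk : (QuotientGroup.mk' N) (g ^ k) = (QuotientGroup.mk' N) x)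
    refine ⟨⟨δ ^ k * nt N ρ ⟨_, h7⟩, mul_mem (Subgroup.mem_sup_right ⟨k, rfl⟩) (Subgroup.mem_sup_left ⟨_, rfl⟩)⟩, ?_⟩
    show pr N ρ (δ ^ k * nt N ρ ⟨_, h7⟩) = x
    rw [map_mul, map_zpow, hprδ, pr_nt]
    group

end

section Chars
variable {G : Type u} [Group G] [Finite G] {N : Subgroup G} [hN : N.Normal]

/-- the determinant of a representation as a homomorphism -/
noncomputable def detHom {H : Type w} [Group H] {V : Type v} [AddCommGroup V] [Module ℂ V] (σ : Representation ℂ H V) : H →* ℂˣ :=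
  (Units.map (LinearMap.det : (V →ₗ[ℂ] V) →* ℂ)).comp σ.asGroupHom

theorem detHom_apply {H : Type w} [Group H] {V : Type v} [AddCommGroup V] [Module ℂ V] (σ : Representation ℂ H V) (h : H) :
    (detHom σ h : ℂ) = LinearMap.det (σ h) := rfl

theorem char_of_rep_ext {V : Type v} [AddCommGroup V] [Module ℂ V] [FiniteDimensional ℂ V] {ρ : Representation ℂ N V}
    [hρ : ρ.IsIrreducible] {σ : Representation ℂ G V} (hσ : ∀ n : N, σ n = ρ n) :
    IsIrrCharacter G σ.character ∧ ∀ n : N, σ.character n = ρ.character n := by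
  have h1 : ∀ n : N, σ.character n = ρ.character n := by
    intro n
    show LinearMap.trace ℂ V (σ n) = LinearMap.trace ℂ V (ρ n)
    rw [hσ]
  refine ⟨irr_of_restrict (isCharacter_character σ) N ?_, h1⟩
  have : (fun n : N => σ.character n) = ρ.character := funext h1
  rw [this]
  exact isIrrCharacter_character ρ

/-- cyclic quotients: invariant characters extend -/
theorem ext_cyclic (hcyc : IsCyclic (G ⧸ N)) {θ : N → ℂ} (hθ : IsIrrCharacter N θ) (hinv : Inv N θ) :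
    ∃ χ : G → ℂ, IsIrrCharacter G χ ∧ ∀ n : N, χ n = θ n := by
  obtain ⟨d, ρ, hρ, rfl⟩ := hθ
  obtain ⟨σ, hσ⟩ := rep_ext_cyclic hinv hcyc
  exact ⟨_, char_of_rep_ext hσ⟩

/-- extension from Sylow preimages -/
theorem ext_of_sylow {θ : N → ℂ} (hθ : IsIrrCharacter N θ) (hinv : Inv N θ)
    (hsyl : ∀ p : ℕ, p.Prime → ∃ (P : Subgroup G) (hNP : N ≤ P) (η : P → ℂ), Nat.Coprime P.index p ∧
      IsIrrCharacter P η ∧ ∀ n : N, η ⟨(n : G), hNP n.2⟩ = θ n) :
    ∃ χ : G → ℂ, IsIrrCharacter G χ ∧ ∀ n : N, χ n = θ n := by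
  obtain ⟨d, ρ, hρ, rfl⟩ := hθ
  apply ext_of_lev hinv
  apply lev_one_of_primes
  intro p hp
  obtain ⟨P, hNP, η, hcop, hη, hext⟩ := hsyl p hp
  exact ⟨P.index, lev_of_ext_char hinv P hNP (irr_isCharacter hη) hext, hcop⟩

/-- Gallagher: coprime degree and index -/
theorem ext_iff_det {θ : N → ℂ} (hθ : IsIrrCharacter N θ) (hinv : Inv N θ) (d : ℕ) (hd : θ 1 = d) (hcop : Nat.Coprime N.index d) :
    (∃ χ : G → ℂ, IsIrrCharacter G χ ∧ ∀ n : N, χ n = θ n) ↔ ∃ μ : G → ℂ, IsCharacter G μ ∧ μ 1 = 1 ∧ ∀ n : N, μ n = detChar θ n := by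
  obtain ⟨m, ρ, hρ, rfl⟩ := hθ
  rw [Representation.char_one] at hd
  have hd' : Module.finrank ℂ (Fin m → ℂ) = d := by exact_mod_cast hd
  rw [detChar_eq ρ]
  constructor
  · rintro ⟨χ, hχ, hext⟩
    obtain ⟨σ, hσ, hσχ⟩ := exists_rep_ext' ρ N.subtype (irr_isCharacter hχ) hext
    refine ⟨fun g => (detHom σ g : ℂ), isCharacter_hom _, by simp, fun n => ?_⟩
    simp only
    rw [← hσ n]
    rfl
  · rintro ⟨μ, hμ, hμ1, hext⟩
    obtain ⟨f, hf⟩ := exists_hom_of_linear hμ hμ1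
    apply ext_of_lev hinv
    have h1 := lev_of_det (N := N) (ρ := ρ) 1 f (fun n => by rw [← hf, hext, pow_one])
    rw [hd', Nat.cast_one, one_mul] at h1
    exact lev_one_of_coprime (lev_index hinv) h1 hcop

end Chars

end CfsgLib.Extend
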