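import Mathlib
import Cfsg.Agent.LibExtend3

/-!
# Extension of invariant characters, III: determinants, coprime extension (helper20)
-/

set_option autoImplicit false
set_option linter.all false

namespace CfsgLib.Extend

open Cfsg CfsgLib.CharBasic
open scoped Pointwise

universe u v w

section
variable {G : Type u} [Group G] [Finite G] {N : Subgroup G} [hN : N.Normal]

theorem val_pow {H : Type u} [Group H] (f : H →* ℂˣ) (k : ℕ) : (fun g => (f g : ℂ)) ^ k = fun g => ((f ^ k) g : ℂ) := by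
  ext g; simp

theorem pow_eq_one_iff {H : Type u} [Group H] (f : H →* ℂˣ) (k : ℕ) : (fun g => (f g : ℂ)) ^ k = 1 ↔ f ^ k = 1 := by
  rw [val_pow]
  constructor
  · intro h
    apply MonoidHom.ext
    intro g
    apply Units.ext
    exact congrFun h g
  · intro h
    rw [h]; rfl

theorem orderOf_val {H : Type u} [Group H] (f : H →* ℂˣ) : orderOf (fun g => (f g : ℂ)) = orderOf f := by
  apply Nat.dvd_antisymm
  · rw [orderOf_dvd_iff_pow_eq_one, pow_eq_one_iff]; exact pow_orderOf_eq_one f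
  · rw [orderOf_dvd_iff_pow_eq_one, ← pow_eq_one_iff]; exact pow_orderOf_eq_one _

theorem orderOf_pos_hom {H : Type u} [Group H] [Finite H] (f : H →* ℂˣ) : 0 < orderOf f := by
  rw [orderOf_pos_iff, isOfFinOrder_iff_pow_eq_one]
  refine ⟨Nat.card H, Nat.card_pos, ?_⟩
  apply MonoidHom.ext
  intro g
  rw [MonoidHom.pow_apply, ← map_pow, pow_card_eq_one', map_one]; rfl

theorem apply_pow_orderOf {H : Type u} [Group H] (f : H →* ℂˣ) (x : H) : (f x) ^ (orderOf f) = 1 := by
  rw [← MonoidHom.pow_apply, pow_orderOf_eq_one]; rfl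

theorem pow_index_mem (g : G) : g ^ N.index ∈ N := Subgroup.pow_index_mem N g

/-- a homomorphism trivial on `N` has exponent dividing the index -/
theorem pow_index_eq_one {κ : G →* ℂˣ} (h : ∀ n : N, κ n = 1) : κ ^ N.index = 1 := by
  apply MonoidHom.ext
  intro g
  rw [MonoidHom.pow_apply, ← map_pow]
  exact h ⟨_, pow_index_mem g⟩

theorem detChar_irr {θ : G → ℂ} (hθ : IsIrrCharacter G θ) : ∃ f : G →* ℂˣ, detChar θ = fun g => (f g : ℂ) := by
  obtain ⟨m, ρ, hρ, rfl⟩ := hθ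
  exact ⟨detHom ρ, detChar_eq ρ⟩

theorem detChar_linear {θ : G → ℂ} (hθ : IsIrrCharacter G θ) (h1 : θ 1 = 1) : detChar θ = θ := by
  obtain ⟨m, ρ, hρ, rfl⟩ := hθ
  rw [detChar_eq ρ]
  rw [Representation.char_one] at h1
  have hfin : Module.finrank ℂ (Fin m → ℂ) = 1 := by exact_mod_cast h1
  ext g
  have h2 : ∃ c : ℂ, ρ g = c • LinearMap.id := by
    obtain ⟨v, hv, hspan⟩ := finrank_eq_one_iff'.mp hfin
    obtain ⟨c, hc⟩ := hspan (ρ g v)
    refine ⟨c, ?_⟩
    refine LinearMap.ext fun w => ?_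
    obtain ⟨a, rfl⟩ := hspan w
    rw [map_smul, ← hc]
    show a • (c • v) = c • (a • v)
    exact smul_comm a c v
  obtain ⟨c, hc⟩ := h2
  rw [Representation.character, hc, LinearMap.det_smul, LinearMap.det_id, hfin, map_smul, LinearMap.trace_id, hfin]
  simp

theorem det_inv {θ : N → ℂ} (hθ : IsIrrCharacter N θ) (hinv : Inv N θ) : Inv N (detChar θ) := by
  obtain ⟨m, ρ, hρ, rfl⟩ := hθ
  rw [detChar_eq ρ]
  intro g n
  obtain ⟨x, hx⟩ := surj_of_inv hinv g
  have h1 := mem_spec x n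
  have h2 : (⟨g * n * g⁻¹, hN.conj_mem (n : G) n.2 g⟩ : N) = MulAut.conjNormal (pr N ρ x) n := by
    apply Subtype.ext; rw [hx]; rfl
  simp only
  rw [h2]
  have h3 := congrArg LinearMap.det h1
  rw [map_mul, map_mul, mul_comm] at h3
  have h4 : LinearMap.det ((mat N ρ x : (_ →ₗ[ℂ] _)ˣ) : (Fin m → ℂ) →ₗ[ℂ] (Fin m → ℂ)) ≠ 0 :=
    ((Units.map (LinearMap.det : ((Fin m → ℂ) →ₗ[ℂ] (Fin m → ℂ)) →* ℂ)) (mat N ρ x)).ne_zero
  exact (mul_right_cancel₀ h4 h3).symm

/-- levels for a linear character: its order -/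
theorem lev_of_linear {m : ℕ} {ρ : Representation ℂ N (Fin m → ℂ)} [hρ : ρ.IsIrreducible] (h1 : ρ.character 1 = 1) (k : ℕ) (hk : ρ.character ^ k = 1) :
    Lev N ρ k := by
  have h2 := detChar_linear ⟨m, ρ, hρ, rfl⟩ h1
  rw [detChar_eq ρ] at h2
  have h3 := lev_of_det (N := N) (ρ := ρ) k 1 (by
    intro n
    have h4 : LinearMap.det (ρ n) = ρ.character n := congrFun h2 n
    rw [h4]
    have h5 := congrFun hk n
    simp only [Pi.pow_apply, Pi.one_apply] at h5
    rw [h5]; simp)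
  rw [Representation.char_one] at h1
  have hfin : Module.finrank ℂ (Fin m → ℂ) = 1 := by exact_mod_cast h1
  rwa [hfin, Nat.cast_one, mul_one] at h3

/-- invariant linear characters extending to preimages of Sylow subgroups -/
theorem ext_linear_of_sylow {lam : N → ℂ} (hlam : IsIrrCharacter N lam) (h1 : lam 1 = 1) (hinv : Inv N lam)
    (hsyl : ∀ p : ℕ, p.Prime → p ∣ orderOf lam → ∃ (H : Subgroup G) (hNH : N ≤ H) (ν : H → ℂ), Nat.Coprime H.index p ∧
      IsCharacter H ν ∧ ∀ n : N, ν ⟨(n : G), hNH n.2⟩ = lam n) :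
    ∃ μ : G → ℂ, IsIrrCharacter G μ ∧ ∀ n : N, μ n = lam n := by
  obtain ⟨d, ρ, hρ, rfl⟩ := hlam
  apply ext_of_lev hinv
  apply lev_one_of_primes
  intro p hp
  by_cases hd : p ∣ orderOf ρ.character
  · obtain ⟨P, hNP, η, hcop, hη, hext⟩ := hsyl p hp hd
    exact ⟨P.index, lev_of_ext_char hinv P hNP hη hext, hcop⟩
  · exact ⟨_, lev_of_linear h1 _ (pow_orderOf_eq_one _), ((Nat.Prime.coprime_iff_not_dvd hp).mpr hd).symm⟩

/-- coprime extension of linear characters -/
theorem ext_linear_coprime {f : N →* ℂˣ} (hinv : Inv N (fun n => (f n : ℂ))) (hcop : Nat.Coprime N.index (orderOf f)) :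
    ∃ μ : G →* ℂˣ, (∀ n : N, μ n = f n) ∧ orderOf μ = orderOf f := by
  -- some extension
  obtain ⟨μ₀, hμ₀⟩ : ∃ μ₀ : G →* ℂˣ, ∀ n : N, μ₀ n = f n := by
    obtain ⟨d, ρ, hρ, hch⟩ := isIrrCharacter_hom f
    have h1 : ρ.character 1 = 1 := by rw [hch]; simp
    have h2 : ρ.character ^ orderOf f = 1 := by
      rw [hch, pow_eq_one_iff]; exact pow_orderOf_eq_one f
    rw [← hch] at hinv
    obtain ⟨χ, hχ, hext⟩ := ext_of_lev hinv (lev_one_of_coprime (lev_index hinv) (lev_of_linear h1 _ h2) hcop)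
    have h3 : χ 1 = 1 := by
      have := hext 1
      rw [h1] at this
      simpa using this
    obtain ⟨F, hF⟩ := exists_hom_of_linear (irr_isCharacter hχ) h3
    refine ⟨F, fun n => Units.ext ?_⟩
    rw [← hF, hext, hch]
  obtain ⟨b, hb⟩ : ∃ b : ℕ, ∀ n : N, (f n) ^ (N.index * b) = f n := by
    rcases Nat.lt_or_ge 1 (orderOf f) with h | h
    · obtain ⟨m, -, hm⟩ := Nat.exists_mul_mod_eq_one_of_coprime hcop h
      refine ⟨m, fun n => ?_⟩
      rw [← Nat.mod_add_div (N.index * m) (orderOf f), hm, pow_add, pow_one, pow_mul, apply_pow_orderOf, one_pow, mul_one]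
    · have h6 : orderOf f = 1 := le_antisymm h (orderOf_pos_hom f)
      rw [orderOf_eq_one_iff] at h6
      exact ⟨1, fun n => by rw [h6]; simp⟩
  have hres : ∀ n : N, (μ₀ ^ (N.index * b)) n = f n := by
    intro n
    rw [MonoidHom.pow_apply, hμ₀, hb]
  refine ⟨μ₀ ^ (N.index * b), hres, ?_⟩
  apply Nat.dvd_antisymm
  · rw [orderOf_dvd_iff_pow_eq_one]
    apply MonoidHom.ext
    intro g
    have h7 : μ₀ (g ^ N.index) = f ⟨_, pow_index_mem (N := N) g⟩ := hμ₀ ⟨_, pow_index_mem (N := N) g⟩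
    rw [MonoidHom.pow_apply, MonoidHom.pow_apply, pow_mul, ← map_pow, h7, ← pow_mul, mul_comm, pow_mul, apply_pow_orderOf, one_pow]
    rfl
  · rw [orderOf_dvd_iff_pow_eq_one]
    apply MonoidHom.ext
    intro n
    have h8 := pow_orderOf_eq_one (μ₀ ^ (N.index * b))
    have h9 := congrArg (fun F : G →* ℂˣ => F n) h8
    simp only [MonoidHom.pow_apply, MonoidHom.one_apply] at h9
    rw [MonoidHom.pow_apply, MonoidHom.one_apply, ← hres n, MonoidHom.pow_apply]
    exact h9

theorem linear_unique {μ μ' : G →* ℂˣ} (h : ∀ n : N, μ n = μ' n) (h1 : Nat.Coprime N.index (orderOf μ))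
    (h2 : Nat.Coprime N.index (orderOf μ')) : μ = μ' := by
  have h3 : (μ * μ'⁻¹) ^ N.index = 1 := by
    apply pow_index_eq_one
    intro n
    rw [MonoidHom.mul_apply, MonoidHom.inv_apply, h n, mul_inv_cancel]
  have h4 : (μ * μ'⁻¹) ^ (orderOf μ * orderOf μ') = 1 := by
    apply MonoidHom.ext
    intro g
    rw [MonoidHom.pow_apply, MonoidHom.mul_apply, MonoidHom.inv_apply, mul_pow, inv_pow, pow_mul, apply_pow_orderOf, one_pow,
      mul_comm (orderOf μ), pow_mul, apply_pow_orderOf, one_pow, inv_one, one_mul]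
    rfl
  have h5 : orderOf (μ * μ'⁻¹) ∣ Nat.gcd N.index (orderOf μ * orderOf μ') :=
    Nat.dvd_gcd (orderOf_dvd_of_pow_eq_one h3) (orderOf_dvd_of_pow_eq_one h4)
  rw [Nat.Coprime.mul_right h1 h2, Nat.dvd_one, orderOf_eq_one_iff] at h5
  apply MonoidHom.ext
  intro g
  have h6 := congrArg (fun F : G →* ℂˣ => F g) h5
  simp only [MonoidHom.mul_apply, MonoidHom.inv_apply, MonoidHom.one_apply] at h6
  exact mul_inv_eq_one.mp h6

/-- extensions with prescribed determinant: uniqueness -/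
theorem ext_det_unique {θ : N → ℂ} (hθ : IsIrrCharacter N θ) (d : ℕ) (hd : θ 1 = d) (hcop : Nat.Coprime N.index d)
    {χ χ' : G → ℂ} (hχ : IsIrrCharacter G χ) (hχ' : IsIrrCharacter G χ') (hext : ∀ n : N, χ n = θ n) (hext' : ∀ n : N, χ' n = θ n)
    (hdet : detChar χ = detChar χ') : χ = χ' := by
  obtain ⟨m, ρ, hρ, rfl⟩ := hθ
  rw [Representation.char_one] at hd
  have hd' : Module.finrank ℂ (Fin m → ℂ) = d := by exact_mod_cast hd
  obtain ⟨σ, hσ, rfl⟩ := exists_rep_ext' ρ N.subtype (irr_isCharacter hχ) hext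
  obtain ⟨σ', hσ', rfl⟩ := exists_rep_ext' ρ N.subtype (irr_isCharacter hχ') hext'
  haveI := isIrreducible_of_char σ hχ
  haveI := isIrreducible_of_char σ' hχ'
  haveI := irr_nontrivial ρ
  rw [detChar_eq, detChar_eq] at hdet
  have hc : ∀ g : G, ∃ c : ℂˣ, σ'.asGroupHom g = sc c * σ.asGroupHom g := by
    intro g
    apply schur_unit (ρ := ρ)
    intro n
    rw [← map_inv]
    have e1 : ρ n = σ' n := (hσ' n).symm
    have e2 : ρ n = σ n := (hσ n).symm
    have e3 : σ' (g * n * g⁻¹) = σ (g * n * g⁻¹) := by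
      rw [show σ' (g * n * g⁻¹) = ρ ⟨g * n * g⁻¹, hN.conj_mem _ n.2 g⟩ from hσ' ⟨g * n * g⁻¹, hN.conj_mem _ n.2 g⟩,
        show σ (g * n * g⁻¹) = ρ ⟨g * n * g⁻¹, hN.conj_mem _ n.2 g⟩ from hσ ⟨g * n * g⁻¹, hN.conj_mem _ n.2 g⟩]
    show σ' g * ρ n = σ g * ρ n * σ g⁻¹ * σ' g
    calc σ' g * ρ n = σ' (g * n * g⁻¹) * σ' g := by rw [e1, ← map_mul, ← map_mul]; congr 1; group
      _ = σ (g * n * g⁻¹) * σ' g := by rw [e3]
      _ = _ := by rw [e2, map_mul, map_mul]
  choose c hc using hc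
  have huniq : ∀ g (a : ℂˣ), σ'.asGroupHom g = sc a * σ.asGroupHom g → a = c g := by
    intro g a ha
    apply sc_injective (V := Fin m → ℂ)
    exact mul_right_cancel (ha.symm.trans (hc g))
  let C : G →* ℂˣ :=
    { toFun := c
      map_one' := by
        symm; apply huniq; simp
      map_mul' := by
        intro x y
        symm; apply huniq
        rw [mul_comm (c x), map_mul, map_mul, map_mul, hc x, hc y]
        exact sc_shuffle _ _ _ _ }
  have hCN : ∀ n : N, C n = 1 := by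
    intro n
    symm; apply huniq
    rw [map_one, one_mul]
    apply Units.ext
    show σ' n = σ n
    exact (hσ' n).trans (hσ n).symm
  have h1 := pow_index_eq_one hCN
  have h2 : C ^ d = 1 := by
    apply MonoidHom.ext
    intro g
    apply Units.ext
    have h3 : LinearMap.det (σ g) = LinearMap.det (σ' g) := congrFun hdet g
    have h4 : σ' g = (c g : ℂ) • σ g := by
      have := congrArg (fun u : ((Fin m → ℂ) →ₗ[ℂ] (Fin m → ℂ))ˣ => (u : (Fin m → ℂ) →ₗ[ℂ] (Fin m → ℂ))) (hc g)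
      simp only [Units.val_mul, sc_val] at this
      rw [show σ' g = _ from this, smul_mul_assoc]
      rfl
    rw [h4, LinearMap.det_smul, hd'] at h3
    have h5 : LinearMap.det (σ g) ≠ 0 := (detHom σ g).ne_zero
    have h6 : (1 : ℂ) * LinearMap.det (σ g) = (c g : ℂ) ^ d * LinearMap.det (σ g) := by rw [one_mul]; exact h3
    have h7 := mul_right_cancel₀ h5 h6
    rw [MonoidHom.pow_apply, Units.val_pow_eq_pow_val, MonoidHom.one_apply, Units.val_one]
    exact h7.symm
  have h8 : orderOf C ∣ Nat.gcd N.index d := Nat.dvd_gcd (orderOf_dvd_of_pow_eq_one h1) (orderOf_dvd_of_pow_eq_one h2)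
  rw [hcop, Nat.dvd_one, orderOf_eq_one_iff] at h8
  ext g
  have h9 : c g = 1 := congrArg (fun F : G →* ℂˣ => F g) h8
  have h10 : σ'.asGroupHom g = σ.asGroupHom g := by rw [hc g, h9, map_one, one_mul]
  have h11 : σ' g = σ g := congrArg (fun u : ((Fin m → ℂ) →ₗ[ℂ] (Fin m → ℂ))ˣ => (u : (Fin m → ℂ) →ₗ[ℂ] (Fin m → ℂ))) h10
  show LinearMap.trace ℂ _ (σ g) = LinearMap.trace ℂ _ (σ' g)
  rw [h11]

/-- the determinant of the product with a linear character -/
theorem det_mul_linear {χ : G → ℂ} (hχ : IsIrrCharacter G χ) (β : G →* ℂˣ) (d : ℕ) (hd : χ 1 = d) :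
    IsIrrCharacter G (fun g => (β g : ℂ) * χ g) ∧ detChar (fun g => (β g : ℂ) * χ g) = fun g => (β g : ℂ) ^ d * detChar χ g := by
  haveI := Fintype.ofFinite G
  obtain ⟨m, σ, hσ, rfl⟩ := hχ
  rw [Representation.char_one] at hd
  have hd' : Module.finrank ℂ (Fin m → ℂ) = d := by exact_mod_cast hd
  let τ : Representation ℂ G (Fin m → ℂ) :=
    { toFun := fun g => (β g : ℂ) • σ g
      map_one' := by simp
      map_mul' := by
        intro x y
        rw [map_mul, map_mul, Units.val_mul, mul_smul, smul_mul_smul_comm, ← mul_smul] }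
  have h1 : τ.character = fun g => (β g : ℂ) * σ.character g := by
    ext g
    show LinearMap.trace ℂ _ ((β g : ℂ) • σ g) = _
    rw [map_smul]; rfl
  have h2 : IsIrrCharacter G τ.character := by
    rw [irr_iff_norm_one]
    refine ⟨isCharacter_character τ, ?_⟩
    rw [h1]
    have h3 := irr_inner_self (isIrrCharacter_character σ)
    rw [← h3]
    unfold classInner
    congr 1
    refine Finset.sum_congr rfl fun g _ => ?_
    have h4 : ‖(β g : ℂ)‖ = 1 := by
      apply norm_one_of_pow (n := Nat.card G) Nat.card_pos.ne'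
      have : β g ^ Nat.card G = 1 := by rw [← map_pow, pow_card_eq_one', map_one]
      rw [← Units.val_pow_eq_pow_val, this, Units.val_one]
    have h5 : (β g : ℂ) * (starRingEnd ℂ) (β g : ℂ) = 1 := by
      rw [Complex.mul_conj, Complex.normSq_eq_norm_sq, h4]; simp
    rw [map_mul]
    linear_combination (σ.character g * (starRingEnd ℂ) (σ.character g)) * h5
  haveI := isIrreducible_of_char τ h2
  rw [← h1]
  refine ⟨h2, ?_⟩
  rw [detChar_eq τ, detChar_eq σ]
  ext g
  show LinearMap.det ((β g : ℂ) • σ g) = _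
  rw [LinearMap.det_smul, hd']

/-- extensions with prescribed determinant: existence -/
theorem ext_det_exists (d : ℕ) (hcop : Nat.Coprime N.index d) {θ : N → ℂ} (hθ : IsIrrCharacter N θ)
    {η : G → ℂ} (hη : IsIrrCharacter G η) (hd : η 1 = d) (hext : ∀ n : N, η n = θ n)
    (μ : G →* ℂˣ) (hμ : ∀ n : N, (μ n : ℂ) = detChar θ n) :
    ∃ χ : G → ℂ, IsIrrCharacter G χ ∧ (∀ n : N, χ n = θ n) ∧ detChar χ = fun g => (μ g : ℂ) := by
  obtain ⟨F, hF⟩ := detChar_irr hη
  have hFN : ∀ n : N, (F n : ℂ) = detChar θ n := by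
    intro n
    obtain ⟨m, ρ, hρ, rfl⟩ := hθ
    obtain ⟨σ, hσ, rfl⟩ := exists_rep_ext' ρ N.subtype (irr_isCharacter hη) hext
    haveI := isIrreducible_of_char σ hη
    have h1 := congrFun hF n
    rw [← h1, detChar_eq σ, detChar_eq ρ]
    simp only
    rw [← hσ n]; rfl
  have h2 : (μ * F⁻¹) ^ N.index = 1 := by
    apply pow_index_eq_one
    intro n
    apply Units.ext
    rw [MonoidHom.mul_apply, MonoidHom.inv_apply, Units.val_mul, hμ, ← hFN, Units.mul_inv]; rfl
  obtain ⟨b, hb⟩ : ∃ b : ℕ, ((μ * F⁻¹) ^ b) ^ d = μ * F⁻¹ := by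
    rcases Nat.lt_or_ge 1 N.index with h | h
    · obtain ⟨b, -, hb⟩ := Nat.exists_mul_mod_eq_one_of_coprime hcop.symm h
      refine ⟨b, ?_⟩
      apply MonoidHom.ext
      intro g
      have h2g : ((μ * F⁻¹) g) ^ N.index = 1 := by rw [← MonoidHom.pow_apply, h2]; rfl
      rw [MonoidHom.pow_apply, MonoidHom.pow_apply, ← pow_mul, mul_comm, ← Nat.mod_add_div (d * b) N.index, hb, pow_add, pow_one, pow_mul, h2g, one_pow, mul_one]
    · have h3 : N.index = 1 := le_antisymm h (Nat.pos_of_ne_zero Subgroup.index_ne_zero_of_finite)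
      refine ⟨1, ?_⟩
      apply MonoidHom.ext
      intro g
      have h2g : ((μ * F⁻¹) g) ^ N.index = 1 := by rw [← MonoidHom.pow_apply, h2]; rfl
      rw [h3, pow_one] at h2g
      rw [MonoidHom.pow_apply, MonoidHom.pow_apply, h2g, one_pow, one_pow]
  set β := (μ * F⁻¹) ^ b with hβ
  have hβN : ∀ n : N, β n = 1 := by
    intro n
    rw [hβ, MonoidHom.pow_apply]
    have : (μ * F⁻¹) n = 1 := by
      apply Units.ext
      rw [MonoidHom.mul_apply, MonoidHom.inv_apply, Units.val_mul, hμ, ← hFN, Units.mul_inv]; rfl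
    rw [this, one_pow]
  obtain ⟨h4, h5⟩ := det_mul_linear hη β d hd
  refine ⟨_, h4, fun n => by simp only [hβN n]; rw [Units.val_one, one_mul, hext], ?_⟩
  rw [h5, hF]
  ext g
  simp only
  have h6 : (β g) ^ d = μ g * (F g)⁻¹ := by
    have := congrArg (fun T : G →* ℂˣ => T g) hb
    simpa using this
  have h7 : (β g : ℂ) ^ d = ((β g ^ d : ℂˣ) : ℂ) := by rw [Units.val_pow_eq_pow_val]
  rw [h7, h6, Units.val_mul, mul_assoc, Units.inv_mul, mul_one]

/-- coprime extension -/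
theorem ext_coprime {θ : N → ℂ} (hθ : IsIrrCharacter N θ) (hinv : Inv N θ) (d : ℕ) (hd : θ 1 = d)
    (hcop : Nat.Coprime N.index (detOrder θ * d)) :
    ∃ χ : G → ℂ, (IsIrrCharacter G χ ∧ (∀ n : N, χ n = θ n) ∧ detOrder χ = detOrder θ) ∧
      ∀ χ' : G → ℂ, IsIrrCharacter G χ' → (∀ n : N, χ' n = θ n) → Nat.Coprime N.index (detOrder χ') → χ' = χ := by
  have hc1 : Nat.Coprime N.index (detOrder θ) := Nat.Coprime.coprime_mul_right_right hcop
  have hc2 : Nat.Coprime N.index d := Nat.Coprime.coprime_mul_left_right hcop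
  obtain ⟨f, hf⟩ := detChar_irr hθ
  have hf2 : detOrder θ = orderOf f := by unfold detOrder; rw [hf, orderOf_val]
  have hinvf := det_inv hθ hinv
  rw [hf] at hinvf
  obtain ⟨μ, hμ, hμo⟩ := ext_linear_coprime (f := f) hinvf (by rw [← hf2]; exact hc1)
  obtain ⟨η, hη, hηext⟩ := (ext_iff_det hθ hinv d hd hc2).mpr ⟨fun g => (μ g : ℂ), isCharacter_hom μ, by simp, fun n => by
    simp only; rw [hμ, hf]⟩
  have hη1 : η 1 = d := by rw [← hd]; exact hηext 1
  obtain ⟨χ, hχ, hχext, hχdet⟩ := ext_det_exists d hc2 hθ hη hη1 hηext μ (fun n => by rw [hμ, hf])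
  refine ⟨χ, ⟨hχ, hχext, ?_⟩, ?_⟩
  · unfold detOrder
    rw [hχdet, orderOf_val, hμo, hf, orderOf_val]
  · intro χ' hχ' hext' hco
    apply ext_det_unique hθ d hd hc2 hχ' hχ hext' hχext
    obtain ⟨F, hF⟩ := detChar_irr hχ'
    have hFN : ∀ n : N, F n = f n := by
      intro n
      apply Units.ext
      obtain ⟨m, ρ, hρ, rfl⟩ := hθ
      obtain ⟨σ, hσ, rfl⟩ := exists_rep_ext' ρ N.subtype (irr_isCharacter hχ') hext'
      haveI := isIrreducible_of_char σ hχ'
      have h1 : detChar σ.character n = (F n : ℂ) := congrFun hF n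
      have h2 : detChar ρ.character n = (f n : ℂ) := congrFun hf n
      rw [← h1, ← h2, detChar_eq σ, detChar_eq ρ]
      simp only
      rw [← hσ n]; rfl
    have h3 : F = μ := by
      apply linear_unique (N := N)
      · intro n; rw [hFN, hμ]
      · have : detOrder χ' = orderOf F := by unfold detOrder; rw [hF, orderOf_val]
        rwa [this] at hco
      · rw [hμo, ← hf2]; exact hc1
    rw [hF, hχdet, h3]

end

end CfsgLib.Extend
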