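import Cfsg.Agent.EqBase
import Cfsg.Agent.LibCores
import Cfsg.Agent.LibFgClass

set_option autoImplicit false
set_option maxHeartbeats 400000

/-! Groups with a self-centralizing element of prime order. -/

namespace CfsgLib.Self19
open Subgroup
open scoped commutatorElement

/-- `x` has prime order `p` and generates its own centralizer. -/
structure SC {G : Type*} [Group G] (p : ℕ) (x : G) : Prop where
  hp : p.Prime
  hx : orderOf x = p
  hC : Subgroup.centralizer ({x} : Set G) = Subgroup.zpowers x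

variable {G : Type*} [Group G] [Finite G] {p : ℕ} {x : G}

theorem SC.ne_one (h : SC p x) : x ≠ 1 := by
  intro h1
  have := h.hx
  rw [h1, orderOf_one] at this
  exact h.hp.one_lt.ne this

theorem SC.card_zpowers (h : SC p x) : Nat.card (zpowers x) = p := by
  rw [Nat.card_zpowers, h.hx]

/-- element commuting with `x` is in `zpowers x` -/
theorem SC.mem_of_comm (h : SC p x) {g : G} (hg : g * x = x * g) : g ∈ zpowers x := by
  rw [← h.hC, mem_centralizer_singleton_iff]
  exact hg

theorem SC.comm_of_mem (h : SC p x) {g : G} (hg : g ∈ zpowers x) : g * x = x * g := by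
  rw [← h.hC, mem_centralizer_singleton_iff] at hg
  exact hg

/-- nontrivial elements of `zpowers x` generate it -/
theorem zpowers_eq_of_mem {p : ℕ} (hp : p.Prime) {x y : G} (hx : orderOf x = p) (hy : y ∈ zpowers x)
    (hy1 : y ≠ 1) : zpowers y = zpowers x := by
  have hle : zpowers y ≤ zpowers x := by rwa [zpowers_le]
  apply Subgroup.eq_of_le_of_card_ge hle
  rw [Nat.card_zpowers, Nat.card_zpowers, hx]
  have hd : orderOf y ∣ p := by
    have := card_dvd_of_le hle
    rwa [Nat.card_zpowers, Nat.card_zpowers, hx] at this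
  rcases (Nat.dvd_prime hp).1 hd with h | h
  · exact absurd (orderOf_eq_one_iff.1 h) hy1
  · exact h.ge

theorem SC.exists_sylow (h : SC p x) : ∃ P : Sylow p G, (P : Subgroup G) = zpowers x := by
  haveI := Fact.mk h.hp
  have hpg : IsPGroup p (zpowers x) := IsPGroup.of_card (n := 1) (by rw [h.card_zpowers, pow_one])
  obtain ⟨S, hS⟩ := hpg.exists_le_sylow
  refine ⟨S, le_antisymm ?_ hS⟩
  have hxS : x ∈ S := hS (mem_zpowers x)
  haveI : Nontrivial S := ⟨⟨⟨x, hxS⟩, 1, fun h1 => h.ne_one (congrArg Subtype.val h1)⟩⟩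
  have hS' : IsPGroup p (S : Subgroup G) := S.isPGroup'
  haveI hc : Nontrivial (center S) := IsPGroup.center_nontrivial hS'
  obtain ⟨⟨z, hz⟩, hz1⟩ := exists_ne (1 : center S)
  have hz1' : (z : G) ≠ 1 := fun h1 => hz1 (by ext; simpa using h1)
  have hcomm : ∀ s : S, (s : G) * z = z * s := fun s => by
    have := congrArg Subtype.val (mem_center_iff.1 hz s)
    simpa using this
  have hzx : (z : G) ∈ zpowers x := by
    refine h.mem_of_comm ?_
    exact (hcomm ⟨x, hxS⟩).symm
  have hzz : zpowers (z : G) = zpowers x := zpowers_eq_of_mem h.hp h.hx hzx hz1'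
  intro s hs
  refine h.mem_of_comm ?_
  have hxz : x ∈ zpowers (z : G) := by rw [hzz]; exact mem_zpowers x
  obtain ⟨k, hk⟩ := mem_zpowers_iff.1 hxz
  rw [← hk]
  exact (Commute.zpow_right (hcomm ⟨s, hs⟩) k)

theorem centralizer_zpow_eq (y : G) : centralizer ((zpowers y : Subgroup G) : Set G) = centralizer {y} := by
  rw [zpowers_eq_closure, centralizer_closure]

theorem SC.pow (h : SC p x) {y : G} (hy : y ∈ zpowers x) (hy1 : y ≠ 1) : SC p y := by
  have hz : zpowers y = zpowers x := zpowers_eq_of_mem h.hp h.hx hy hy1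
  refine ⟨h.hp, ?_, ?_⟩
  · rw [← Nat.card_zpowers, hz, h.card_zpowers]
  · rw [← centralizer_zpow_eq, hz, centralizer_zpow_eq, h.hC]

theorem SC.map {H : Type*} [Group H] (h : SC p x) (e : G ≃* H) : SC p (e x) := by
  refine ⟨h.hp, ?_, ?_⟩
  · rw [MulEquiv.orderOf_eq, h.hx]
  · apply le_antisymm
    · intro g hg
      rw [mem_centralizer_singleton_iff] at hg
      have h1 : e.symm g ∈ zpowers x := by
        refine h.mem_of_comm ?_
        apply e.injective
        simpa using hg
      obtain ⟨k, hk⟩ := mem_zpowers_iff.1 h1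
      refine mem_zpowers_iff.2 ⟨k, ?_⟩
      rw [← map_zpow, hk]; simp
    · rw [zpowers_le, mem_centralizer_singleton_iff]

theorem SC.conj (h : SC p x) (g : G) : SC p (g * x * g⁻¹) := h.map (MulAut.conj g)

theorem SC.dvd_card (h : SC p x) : p ∣ Nat.card G := by
  rw [← h.hx]; exact orderOf_dvd_natCard x

/-- order-`p` subgroups are exactly the Sylow subgroups -/
theorem SC.sylow_card (h : SC p x) (P : Sylow p G) : Nat.card P = p := by
  haveI := Fact.mk h.hp
  obtain ⟨Q, hQ⟩ := h.exists_sylow
  have h1 : Nat.card P = Nat.card Q := by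
    rw [P.card_eq_multiplicity, Q.card_eq_multiplicity]
  rw [h1]
  have : Nat.card Q = Nat.card (zpowers x) := by rw [← hQ]
  rw [this, h.card_zpowers]

theorem SC.not_sq_dvd (h : SC p x) : ¬ p ^ 2 ∣ Nat.card G := by
  haveI := Fact.mk h.hp
  obtain ⟨Q, hQ⟩ := h.exists_sylow
  intro h2
  have h3 := Q.pow_dvd_card_of_pow_dvd_card h2
  have h4 : Nat.card Q = p := h.sylow_card Q
  rw [h4] at h3
  have := Nat.le_of_dvd h.hp.pos h3
  have h5 := h.hp.two_le
  nlinarith

/-- a conjugate into zpowers x for every element of order p -/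
theorem SC.exists_conj (h : SC p x) {y : G} (hy : orderOf y = p) :
    ∃ g : G, g * y * g⁻¹ ∈ zpowers x := by
  haveI := Fact.mk h.hp
  have hpg : IsPGroup p (zpowers y) := IsPGroup.of_card (n := 1) (by rw [Nat.card_zpowers, hy, pow_one])
  obtain ⟨S, hS⟩ := hpg.exists_le_sylow
  obtain ⟨Q, hQ⟩ := h.exists_sylow
  obtain ⟨g, hg⟩ := MulAction.exists_smul_eq G S Q
  refine ⟨g, ?_⟩
  rw [← hQ, ← hg, Sylow.coe_subgroup_smul]
  have := Subgroup.smul_mem_pointwise_smul y (MulAut.conj g) (S : Subgroup G) (hS (mem_zpowers y))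
  exact this

theorem SC.of_order (h : SC p x) {y : G} (hy : orderOf y = p) : SC p y := by
  obtain ⟨g, hg⟩ := h.exists_conj hy
  have hy1 : y ≠ 1 := by
    intro h1; rw [h1, orderOf_one] at hy; exact h.hp.one_lt.ne hy
  have h1 : SC p (g * y * g⁻¹) := h.pow hg (by
    intro h2; apply hy1
    have : y = g⁻¹ * (g * y * g⁻¹) * g := by group
    rw [this, h2]; group)
  have h2 := h1.conj g⁻¹
  have : g⁻¹ * (g * y * g⁻¹) * g⁻¹⁻¹ = y := by group
  rwa [this] at h2

theorem SC.card_subgroups (h : SC p x) :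
    Nat.card {H : Subgroup G // Nat.card H = p} = (normalizer ((zpowers x : Subgroup G) : Set G)).index := by
  haveI := Fact.mk h.hp
  obtain ⟨Q, hQ⟩ := h.exists_sylow
  have h1 := Q.card_eq_index_normalizer
  have h2 : (Q : Set G) = ((zpowers x : Subgroup G) : Set G) := by rw [← hQ]; rfl
  rw [h2] at h1
  rw [← h1]
  refine Nat.card_congr ⟨fun H => ?_, fun P => ⟨P, h.sylow_card P⟩, ?_, ?_⟩
  · refine Sylow.ofCard H.1 ?_
    rw [H.2]
    have h3 := h.sylow_card Q
    rw [Q.card_eq_multiplicity] at h3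
    exact h3.symm
  · intro H; ext; rfl
  · intro P; ext; rfl

/-! ### Normal p'-subgroups -/

theorem SC.not_mem_of_not_dvd (h : SC p x) {S : Subgroup G} (hS : ¬ p ∣ Nat.card S) {u : G}
    (hu : u ∈ zpowers x) (huS : u ∈ S) : u = 1 := by
  by_contra hu1
  have h1 := h.pow hu hu1
  apply hS
  rw [← h1.hx, ← Nat.card_zpowers]
  exact card_dvd_of_le (by rwa [zpowers_le])

/-- every element of a normal `p'`-subgroup is a commutator `s x s⁻¹ x⁻¹`. -/
theorem SC.exists_comm (h : SC p x) {S : Subgroup G} [S.Normal] (hS : ¬ p ∣ Nat.card S) {s : G}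
    (hs : s ∈ S) : ∃ r ∈ S, r * x * r⁻¹ * x⁻¹ = s := by
  have hmem : ∀ r : S, (r : G) * x * (r : G)⁻¹ * x⁻¹ ∈ S := by
    intro r
    have h1 : x * (r : G)⁻¹ * x⁻¹ ∈ S := Subgroup.Normal.conj_mem inferInstance _ (inv_mem r.2) x
    have := mul_mem r.2 h1
    simpa [mul_assoc] using this
  let f : S → S := fun r => ⟨(r : G) * x * (r : G)⁻¹ * x⁻¹, hmem r⟩
  have hinj : Function.Injective f := by
    intro a b hab
    have h1 : (a : G) * x * (a : G)⁻¹ * x⁻¹ = b * x * (b : G)⁻¹ * x⁻¹ := congrArg Subtype.val hab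
    have h2 : (a : G) * x * (a : G)⁻¹ = b * x * (b : G)⁻¹ := mul_right_cancel h1
    have h3 : (b : G)⁻¹ * a ∈ zpowers x := by
      refine h.mem_of_comm ?_
      have : (b : G)⁻¹ * ((a : G) * x * (a : G)⁻¹) * a = (b : G)⁻¹ * (b * x * (b : G)⁻¹) * a := by rw [h2]
      simpa [mul_assoc] using this
    have h4 : (b : G)⁻¹ * a = 1 := h.not_mem_of_not_dvd hS h3 (mul_mem (inv_mem b.2) a.2)
    exact Subtype.ext (inv_mul_eq_one.1 h4).symm
  obtain ⟨r, hr⟩ := (Finite.injective_iff_surjective.1 hinj) ⟨s, hs⟩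
  exact ⟨r, r.2, congrArg Subtype.val hr⟩

theorem SC.le_commutator (h : SC p x) {S : Subgroup G} [S.Normal] (hS : ¬ p ∣ Nat.card S) :
    S ≤ commutator G := by
  intro s hs
  obtain ⟨r, hr, rfl⟩ := h.exists_comm hS hs
  exact Subgroup.commutator_mem_commutator (mem_top r) (mem_top x)

theorem SC.inf_normalizer (h : SC p x) {S : Subgroup G} [S.Normal] (hS : ¬ p ∣ Nat.card S) :
    S ⊓ normalizer ((zpowers x : Subgroup G) : Set G) = ⊥ := by
  rw [eq_bot_iff]
  rintro s ⟨hs, hsN⟩
  have h1 : s * x * s⁻¹ ∈ zpowers x := (mem_normalizer_iff.1 hsN x).1 (mem_zpowers x)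
  have h2 : s * x * s⁻¹ * x⁻¹ ∈ zpowers x := mul_mem h1 (inv_mem (mem_zpowers x))
  have h3 : s * x * s⁻¹ * x⁻¹ ∈ S := by
    have h1 : x * s⁻¹ * x⁻¹ ∈ S := Subgroup.Normal.conj_mem inferInstance _ (inv_mem hs) x
    have := mul_mem hs h1
    simpa [mul_assoc] using this
  have h4 := h.not_mem_of_not_dvd hS h2 h3
  have h5 : s ∈ zpowers x := by
    refine h.mem_of_comm ?_
    have h6 : s * x * s⁻¹ = x := mul_inv_eq_one.1 h4
    exact mul_inv_eq_iff_eq_mul.1 h6
  exact mem_bot.2 (h.not_mem_of_not_dvd hS h5 hs)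

theorem SC.card_mod (h : SC p x) {S : Subgroup G} [S.Normal] (hS : ¬ p ∣ Nat.card S) :
    Nat.card S % p = 1 := by
  haveI := Fact.mk h.hp
  have hpg : IsPGroup p (zpowers x) := IsPGroup.of_card (n := 1) (by rw [h.card_zpowers, pow_one])
  letI : MulAction (zpowers x) S := MulAction.compHom S ((MulAut.conjNormal (H := S)).comp (zpowers x).subtype)
  have h1 := hpg.card_modEq_card_fixedPoints S
  have h2 : Nat.card (MulAction.fixedPoints (zpowers x) S) = 1 := by
    rw [Nat.card_eq_one_iff_unique]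
    refine ⟨⟨fun a b => ?_⟩, ⟨⟨1, fun g => ?_⟩⟩⟩
    · have key : ∀ a : MulAction.fixedPoints (zpowers x) S, (a.1 : G) = 1 := by
        intro a
        have h3 := a.2 ⟨x, mem_zpowers x⟩
        have h4 : x * (a.1 : G) * x⁻¹ = a.1 := by
          have := congrArg Subtype.val h3
          exact this
        have h5 : (a.1 : G) ∈ zpowers x := h.mem_of_comm (mul_inv_eq_iff_eq_mul.1 h4).symm
        exact h.not_mem_of_not_dvd hS h5 a.1.2
      apply Subtype.ext
      apply Subtype.ext
      rw [key a, key b]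
    · change (MulAut.conjNormal (g : G)) (1 : S) = 1
      simp
  rw [h2] at h1
  have h3 : Nat.card S % p = 1 % p := h1
  rwa [Nat.mod_eq_of_lt h.hp.one_lt] at h3

theorem SC.card_mul_dvd (h : SC p x) {S : Subgroup G} [S.Normal] (hS : ¬ p ∣ Nat.card S) :
    Nat.card (S ⊔ normalizer ((zpowers x : Subgroup G) : Set G) : Subgroup G) =
      Nat.card S * Nat.card (normalizer ((zpowers x : Subgroup G) : Set G)) := by
  set N := normalizer ((zpowers x : Subgroup G) : Set G) with hN
  have h1 : S.relIndex (N ⊔ S) = S.relIndex N := relIndex_sup_right N S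
  have h2 : S.relIndex N = Nat.card N := by
    have := h.inf_normalizer hS
    rw [← inf_relIndex_right, this, relIndex_bot_left]
  have h3 : Nat.card S * S.relIndex (N ⊔ S) = Nat.card (N ⊔ S : Subgroup G) := by
    have h4 := Subgroup.card_mul_index (S.subgroupOf (N ⊔ S))
    rwa [Nat.card_congr (subgroupOfEquivOfLe (le_sup_right : S ≤ N ⊔ S)).toEquiv] at h4
  rw [h1, h2] at h3
  rw [sup_comm, ← h3]

theorem SC.card_dvd_index (h : SC p x) {S : Subgroup G} [S.Normal] (hS : ¬ p ∣ Nat.card S) :
    Nat.card S ∣ (normalizer ((zpowers x : Subgroup G) : Set G)).index := by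
  have h1 := h.card_mul_dvd hS
  have h2 : Nat.card (S ⊔ normalizer ((zpowers x : Subgroup G) : Set G) : Subgroup G) ∣ Nat.card G :=
    card_subgroup_dvd_card _
  rw [h1, ← Subgroup.index_mul_card (normalizer ((zpowers x : Subgroup G) : Set G))] at h2
  exact Nat.dvd_of_mul_dvd_mul_right Nat.card_pos h2

theorem SC.quot (h : SC p x) {S : Subgroup G} [S.Normal] (hS : ¬ p ∣ Nat.card S) :
    SC p (QuotientGroup.mk x : G ⧸ S) := by
  haveI := Fact.mk h.hp
  refine ⟨h.hp, ?_, ?_⟩
  · apply orderOf_eq_prime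
    · rw [← QuotientGroup.mk_pow, ← h.hx, pow_orderOf_eq_one, QuotientGroup.mk_one]
    · intro h1
      have := (QuotientGroup.eq_one_iff x).1 h1
      exact h.ne_one (h.not_mem_of_not_dvd hS (mem_zpowers x) this)
  · apply le_antisymm
    · intro g
      induction g using QuotientGroup.induction_on with
      | H g =>
      intro hg
      rw [mem_centralizer_singleton_iff] at hg
      have h1 : g * x * g⁻¹ * x⁻¹ ∈ S := by
        rw [← QuotientGroup.eq_one_iff]
        simp only [QuotientGroup.mk_mul, QuotientGroup.mk_inv]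
        rw [hg]; simp
      obtain ⟨r, hr, hr2⟩ := h.exists_comm hS h1
      have h2 : r * x * r⁻¹ = g * x * g⁻¹ := mul_right_cancel hr2
      have h3 : r⁻¹ * g ∈ zpowers x := by
        refine h.mem_of_comm ?_
        have : r⁻¹ * (r * x * r⁻¹) * g = r⁻¹ * (g * x * g⁻¹) * g := by rw [h2]
        simpa [mul_assoc] using this.symm
      obtain ⟨k, hk⟩ := mem_zpowers_iff.1 h3
      refine mem_zpowers_iff.2 ⟨k, ?_⟩
      rw [← QuotientGroup.mk_zpow, hk]
      simp only [QuotientGroup.mk_mul, QuotientGroup.mk_inv]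
      rw [(QuotientGroup.eq_one_iff r).2 hr]; simp
    · rw [zpowers_le, mem_centralizer_singleton_iff]

/-! ### Normal subgroups of order divisible by `p` -/

theorem SC.mem_of_dvd (h : SC p x) {M : Subgroup G} [M.Normal] (hM : p ∣ Nat.card M) {y : G}
    (hy : orderOf y = p) : y ∈ M := by
  haveI := Fact.mk h.hp
  obtain ⟨z, hz⟩ := exists_prime_orderOf_dvd_card' (G := M) p hM
  have hz' : orderOf (z : G) = p := by rw [Subgroup.orderOf_coe, hz]
  have hy' := h.of_order hy
  obtain ⟨g, hg⟩ := hy'.exists_conj hz'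
  have h1 : g * (z : G) * g⁻¹ ∈ M := Subgroup.Normal.conj_mem inferInstance _ z.2 g
  have hne : g * (z : G) * g⁻¹ ≠ 1 := by
    intro h2
    have : (z : G) = g⁻¹ * (g * z * g⁻¹) * g := by group
    rw [h2] at this
    have h3 : (z : G) = 1 := by rw [this]; group
    rw [h3, orderOf_one] at hz'
    exact h.hp.one_lt.ne hz'
  have h4 := zpowers_eq_of_mem h.hp hy hg hne
  have h5 : y ∈ zpowers (g * (z : G) * g⁻¹) := by rw [h4]; exact mem_zpowers y
  exact (zpowers_le.2 h1) h5

theorem SC.frattini (h : SC p x) {M : Subgroup G} [M.Normal] (hM : x ∈ M) :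
    normalizer ((zpowers x : Subgroup G) : Set G) ⊔ M = ⊤ := by
  haveI := Fact.mk h.hp
  obtain ⟨Q, hQ⟩ := h.exists_sylow
  have h1 := Sylow.normalizer_sup_eq_top' (N := M) Q (by rw [hQ, zpowers_le]; exact hM)
  have h2 : (Q : Set G) = ((zpowers x : Subgroup G) : Set G) := by rw [← hQ]; rfl
  rwa [h2] at h1

/-- commutators of elements of the normalizer lie in `P` -/
theorem SC.comm_normalizer (h : SC p x) {a b : G} (ha : a ∈ normalizer ((zpowers x : Subgroup G) : Set G))
    (hb : b ∈ normalizer ((zpowers x : Subgroup G) : Set G)) : a * b * a⁻¹ * b⁻¹ ∈ zpowers x := by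
  have key : ∀ c ∈ normalizer ((zpowers x : Subgroup G) : Set G), ∃ k : ℤ, c * x * c⁻¹ = x ^ k := by
    intro c hc
    obtain ⟨k, hk⟩ := mem_zpowers_iff.1 ((mem_normalizer_iff.1 hc x).1 (mem_zpowers x))
    exact ⟨k, hk.symm⟩
  obtain ⟨k, hk⟩ := key a ha
  obtain ⟨l, hl⟩ := key b hb
  have e1 : (a * b) * x * (a * b)⁻¹ = x ^ (k * l) := by
    have : (a * b) * x * (a * b)⁻¹ = a * (b * x * b⁻¹) * a⁻¹ := by group
    rw [this, hl, ← conj_zpow, hk, ← zpow_mul]
  have e2 : (b * a) * x * (b * a)⁻¹ = x ^ (k * l) := by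
    have : (b * a) * x * (b * a)⁻¹ = b * (a * x * a⁻¹) * b⁻¹ := by group
    rw [this, hk, ← conj_zpow, hl, ← zpow_mul, mul_comm l k]
  have h3 : (b * a)⁻¹ * (a * b) ∈ zpowers x := by
    refine h.mem_of_comm ?_
    have : (b * a)⁻¹ * ((a * b) * x * (a * b)⁻¹) * (a * b) = (b * a)⁻¹ * ((b * a) * x * (b * a)⁻¹) * (a * b) := by
      rw [e1, e2]
    simpa [mul_assoc] using this
  have h4 : a * b * a⁻¹ * b⁻¹ = (b * a) * ((b * a)⁻¹ * (a * b)) * (b * a)⁻¹ := by group
  rw [h4]
  exact (mem_normalizer_iff.1 (mul_mem hb ha) _).1 h3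

theorem SC.commutator_le (h : SC p x) {M : Subgroup G} [M.Normal] (hM : x ∈ M) :
    commutator G ≤ M := by
  have hf := h.frattini hM
  rw [← QuotientGroup.ker_mk' M]
  rw [commutator_def, Subgroup.commutator_le]
  intro a _ b _
  rw [MonoidHom.mem_ker]
  have key : ∀ c : G, ∃ n ∈ normalizer ((zpowers x : Subgroup G) : Set G),
      QuotientGroup.mk' M c = QuotientGroup.mk' M n := by
    intro c
    have hc : c ∈ normalizer ((zpowers x : Subgroup G) : Set G) ⊔ M := by rw [hf]; trivial
    rw [Subgroup.mem_sup_of_normal_right] at hc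
    obtain ⟨n, hn, m, hm, hnm⟩ := hc
    refine ⟨n, hn, ?_⟩
    have h1 : QuotientGroup.mk' M m = 1 := (QuotientGroup.eq_one_iff m).2 hm
    rw [← hnm, map_mul, h1, mul_one]
  obtain ⟨a', ha', haa⟩ := key a
  obtain ⟨b', hb', hbb⟩ := key b
  rw [commutatorElement_def, map_mul, map_mul, map_mul, map_inv, map_inv, haa, hbb, ← map_inv, ← map_inv,
    ← map_mul, ← map_mul, ← map_mul]
  have h1 := h.comm_normalizer ha' hb'
  exact (QuotientGroup.eq_one_iff _).2 ((zpowers_le.2 hM) h1)

theorem SC.commutator_le' (h : SC p x) {M : Subgroup G} [M.Normal] (hM : p ∣ Nat.card M) :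
    commutator G ≤ M := h.commutator_le (h.mem_of_dvd hM h.hx)

/-! ### Counting -/

theorem SC.card_A_classes (h : SC p x) :
    Nat.card {y : G // orderOf y = p} * p =
      Nat.card {C : ConjClasses G // ∃ g ∈ C.carrier, orderOf g = p} * Nat.card G := by
  classical
  haveI : Fintype {C : ConjClasses G // ∃ g ∈ C.carrier, orderOf g = p} := Fintype.ofFinite _
  let f : {y : G // orderOf y = p} → {C : ConjClasses G // ∃ g ∈ C.carrier, orderOf g = p} :=
    fun y => ⟨ConjClasses.mk y.1, y.1, ConjClasses.mem_carrier_mk, y.2⟩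
  rw [Nat.card_congr (Equiv.sigmaFiberEquiv f).symm, Nat.card_sigma, Finset.sum_mul]
  rw [Finset.sum_congr rfl (g := fun _ => Nat.card G)]
  · rw [Finset.sum_const, Finset.card_univ, Nat.card_eq_fintype_card (α := {C : ConjClasses G // ∃ g ∈ C.carrier, orderOf g = p}), smul_eq_mul]
  · rintro ⟨C, g, hg, hgo⟩ -
    have hCg : ConjClasses.mk g = C := ConjClasses.mem_carrier_iff_mk_eq.1 hg
    have h1 : Nat.card (ConjClasses.mk g).carrier * Nat.card (Subgroup.centralizer ({g} : Set G)) = Nat.card G := by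
      rw [← Subgroup.index_mul_card (Subgroup.centralizer ({g} : Set G))]
      congr 1
      exact CfsgLib.FgClass.ncard_carrier g
    have h2 : Nat.card (Subgroup.centralizer ({g} : Set G)) = p := by
      rw [(h.of_order hgo).hC, Nat.card_zpowers, hgo]
    rw [h2] at h1
    rw [← h1]
    congr 1
    refine Nat.card_congr ⟨fun y => ⟨y.1.1, ?_⟩, fun y => ⟨⟨y.1, ?_⟩, ?_⟩, ?_, ?_⟩
    · have h3 : ConjClasses.mk y.1.1 = C := congrArg Subtype.val y.2
      exact ConjClasses.mk_eq_mk_iff_isConj.1 (hCg.trans h3.symm)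
    · have h3 : IsConj g y.1 := y.2
      obtain ⟨c, hc⟩ := isConj_iff.1 h3
      rw [← hc]
      have := (MulAut.conj c).orderOf_eq g
      rw [MulAut.conj_apply] at this
      rw [this, hgo]
    · apply Subtype.ext
      change ConjClasses.mk y.1 = C
      rw [← hCg]
      exact (ConjClasses.mk_eq_mk_iff_isConj.2 y.2).symm
    · intro y; rfl
    · intro y; rfl

theorem SC.card_A_subgroups (h : SC p x) :
    Nat.card {y : G // orderOf y = p} =
      Nat.card {H : Subgroup G // Nat.card H = p} * (p - 1) := by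
  classical
  haveI : Fintype {H : Subgroup G // Nat.card H = p} := Fintype.ofFinite _
  let f : {y : G // orderOf y = p} → {H : Subgroup G // Nat.card H = p} :=
    fun y => ⟨zpowers y.1, by rw [Nat.card_zpowers, y.2]⟩
  rw [Nat.card_congr (Equiv.sigmaFiberEquiv f).symm, Nat.card_sigma]
  rw [Finset.sum_congr rfl (g := fun _ => (p - 1))]
  · rw [Finset.sum_const, Finset.card_univ, Nat.card_eq_fintype_card, smul_eq_mul]
  · rintro ⟨H, hH⟩ -
    have h1 : Nat.card {y : H // y ≠ 1} = p - 1 := by
      haveI : Fintype H := Fintype.ofFinite _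
      rw [Nat.card_eq_fintype_card, Fintype.card_subtype_compl, Fintype.card_subtype_eq, ← Nat.card_eq_fintype_card, hH]
    rw [← h1]
    refine Nat.card_congr ⟨fun y => ⟨⟨y.1.1, ?_⟩, ?_⟩, fun y => ⟨⟨y.1, ?_⟩, ?_⟩, ?_, ?_⟩
    · have h3 : zpowers y.1.1 = H := congrArg Subtype.val y.2
      exact (le_of_eq h3) (mem_zpowers _)
    · intro h4
      have h5 : y.1.1 = 1 := congrArg Subtype.val h4
      have h6 := y.1.2
      rw [h5, orderOf_one] at h6
      exact h.hp.one_lt.ne h6
    · have h3 : orderOf (y.1 : G) ∣ p := by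
        rw [← hH]; rw [Subgroup.orderOf_coe]; exact orderOf_dvd_natCard _
      rcases (Nat.dvd_prime h.hp).1 h3 with h4 | h4
      · exfalso
        apply y.2
        have := orderOf_eq_one_iff.1 h4
        exact Subtype.ext this
      · exact h4
    · apply Subtype.ext
      change zpowers (y.1 : G) = H
      apply Subgroup.eq_of_le_of_card_ge (by rw [zpowers_le]; exact y.1.2)
      rw [Nat.card_zpowers, hH]
      have h3 : orderOf (y.1 : G) ∣ p := by
        rw [← hH]; rw [Subgroup.orderOf_coe]; exact orderOf_dvd_natCard _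
      rcases (Nat.dvd_prime h.hp).1 h3 with h4 | h4
      · exfalso
        apply y.2
        have := orderOf_eq_one_iff.1 h4
        exact Subtype.ext this
      · exact h4.ge
    · intro y; rfl
    · intro y; rfl

theorem SC.card_N (x : G) :
    Nat.card (normalizer ((zpowers x : Subgroup G) : Set G)) =
      orderOf x * (zpowers x).relIndex (normalizer ((zpowers x : Subgroup G) : Set G)) := by
  have h4 := Subgroup.card_mul_index ((zpowers x).subgroupOf (normalizer ((zpowers x : Subgroup G) : Set G)))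
  rw [Nat.card_congr (subgroupOfEquivOfLe (le_normalizer : zpowers x ≤ _)).toEquiv, Nat.card_zpowers] at h4
  exact h4.symm

/-- `t e = p - 1` -/
theorem SC.te (h : SC p x) :
    Nat.card {C : ConjClasses G // ∃ g ∈ C.carrier, orderOf g = p} *
      (zpowers x).relIndex (normalizer ((zpowers x : Subgroup G) : Set G)) = p - 1 := by
  have h1 := h.card_A_classes
  have h2 := h.card_A_subgroups
  have h3 := SC.card_N x
  have h4 := Subgroup.index_mul_card (normalizer ((zpowers x : Subgroup G) : Set G))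
  rw [h.card_subgroups] at h2
  rw [h.hx] at h3
  rw [h2, ← h4, h3] at h1
  have h5 : 0 < (normalizer ((zpowers x : Subgroup G) : Set G)).index * p :=
    Nat.mul_pos (Nat.pos_of_ne_zero (Subgroup.index_ne_zero_of_finite)) h.hp.pos
  apply Nat.eq_of_mul_eq_mul_left h5
  calc _ = Nat.card { C : ConjClasses G // ∃ g ∈ C.carrier, orderOf g = p } * ((normalizer ((zpowers x : Subgroup G) : Set G)).index *
      (p * (zpowers x).relIndex (normalizer ((zpowers x : Subgroup G) : Set G)))) := by ring
    _ = _ := by rw [← h1]; ring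

/-! ### The two cases -/

theorem SC.e_pos (x : G) :
    0 < (zpowers x).relIndex (normalizer ((zpowers x : Subgroup G) : Set G)) :=
  Nat.pos_of_ne_zero (Subgroup.index_ne_zero_of_finite)

/-- case `e = 1`: Burnside -/
theorem SC.burnside (h : SC p x)
    (he : (zpowers x).relIndex (normalizer ((zpowers x : Subgroup G) : Set G)) = 1) :
    ¬ p ∣ Nat.card (commutator G) ∧ (commutator G).index = p := by
  haveI := Fact.mk h.hp
  obtain ⟨Q, hQ⟩ := h.exists_sylow
  have hN : normalizer (Q : Set G) ≤ centralizer (Q : Set G) := by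
    have h2 : (Q : Set G) = ((zpowers x : Subgroup G) : Set G) := by rw [← hQ]; rfl
    rw [h2, centralizer_zpow_eq, h.hC]
    exact Subgroup.relIndex_eq_one.1 he
  have hK := MonoidHom.ker_transferSylow_isComplement' Q hN
  have hKd := MonoidHom.not_dvd_card_ker_transferSylow Q hN
  set K := (MonoidHom.transferSylow Q hN).ker with hKdef
  haveI : K.Normal := inferInstance
  have hle : K ≤ commutator G := h.le_commutator hKd
  have hidx : K.index = p := by
    rw [hK.symm.index_eq_card]
    exact h.sylow_card Q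
  have hge : commutator G ≤ K := by
    haveI : IsCyclic (G ⧸ K) := isCyclic_of_prime_card (p := p) hidx
    obtain ⟨g, hg⟩ := IsCyclic.exists_generator (α := G ⧸ K)
    rw [← QuotientGroup.ker_mk' K, commutator_def, Subgroup.commutator_le]
    intro a _ b _
    rw [MonoidHom.mem_ker, map_commutatorElement, commutatorElement_eq_one_iff_mul_comm]
    obtain ⟨k, hk⟩ := mem_zpowers_iff.1 (hg (QuotientGroup.mk' K a))
    obtain ⟨l, hl⟩ := mem_zpowers_iff.1 (hg (QuotientGroup.mk' K b))
    rw [← hk, ← hl]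
    exact (Commute.zpow_zpow_self g k l)
  have he : commutator G = K := le_antisymm hge hle
  refine ⟨by rw [he]; exact hKd, ?_⟩
  rw [he, hidx]

/-- case `e > 1` -/
theorem SC.mem_commutator (h : SC p x)
    (he : (zpowers x).relIndex (normalizer ((zpowers x : Subgroup G) : Set G)) ≠ 1) :
    x ∈ commutator G := by
  have h1 : ¬ normalizer ((zpowers x : Subgroup G) : Set G) ≤ zpowers x := fun h2 =>
    he (Subgroup.relIndex_eq_one.2 h2)
  obtain ⟨n, hn, hnx⟩ := SetLike.not_le_iff_exists.1 h1
  have h2 : n * x * n⁻¹ * x⁻¹ ∈ zpowers x :=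
    mul_mem ((mem_normalizer_iff.1 hn x).1 (mem_zpowers x)) (inv_mem (mem_zpowers x))
  have h3 : n * x * n⁻¹ * x⁻¹ ≠ 1 := by
    intro h4
    apply hnx
    exact h.mem_of_comm (mul_inv_eq_iff_eq_mul.1 (mul_inv_eq_one.1 h4))
  have h4 := zpowers_eq_of_mem h.hp h.hx h2 h3
  have h5 : x ∈ zpowers (n * x * n⁻¹ * x⁻¹) := by rw [h4]; exact mem_zpowers x
  have h6 : n * x * n⁻¹ * x⁻¹ ∈ commutator G := by
    rw [← commutatorElement_def]
    exact Subgroup.commutator_mem_commutator (mem_top _) (mem_top _)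
  exact (zpowers_le.2 h6) h5

/-- case `e > 1`: index of the commutator subgroup divides `e` -/
theorem SC.index_le (h : SC p x)
    (he : (zpowers x).relIndex (normalizer ((zpowers x : Subgroup G) : Set G)) ≠ 1) :
    (commutator G).index ≤ (zpowers x).relIndex (normalizer ((zpowers x : Subgroup G) : Set G)) := by
  have hx := h.mem_commutator he
  have hf := h.frattini (M := commutator G) hx
  have h1 : (commutator G).relIndex (normalizer ((zpowers x : Subgroup G) : Set G)) = (commutator G).index := by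
    rw [← relIndex_sup_right, hf, relIndex_top_right]
  rw [← h1]
  apply Nat.le_of_dvd (SC.e_pos x)
  exact relIndex_dvd_of_le_left _ (by rwa [zpowers_le])

/-- a normal `p'` subgroup inside the derived group is inside the second derived group -/
theorem SC.le_derived_two (h : SC p x) (hx : x ∈ commutator G) {S : Subgroup G} [S.Normal]
    (hS : ¬ p ∣ Nat.card S) : S ≤ derivedSeries G 2 := by
  intro s hs
  obtain ⟨r, hr, hr2⟩ := h.exists_comm hS hs
  have h1 : derivedSeries G 2 = ⁅commutator G, commutator G⁆ := by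
    rw [derivedSeries_succ, derivedSeries_one]
  rw [h1, ← hr2, ← commutatorElement_def]
  exact Subgroup.commutator_mem_commutator (h.le_commutator hS hr) hx

theorem SC.sub (h : SC p x) (H : Subgroup G) (hxH : x ∈ H) : SC p (⟨x, hxH⟩ : H) := by
  refine ⟨h.hp, ?_, ?_⟩
  · rw [← Subgroup.orderOf_coe]; exact h.hx
  · apply le_antisymm
    · intro g hg
      rw [mem_centralizer_singleton_iff] at hg
      have h1 : (g : G) ∈ zpowers x := h.mem_of_comm (congrArg Subtype.val hg)
      obtain ⟨k, hk⟩ := mem_zpowers_iff.1 h1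
      exact mem_zpowers_iff.2 ⟨k, Subtype.ext hk⟩
    · rw [zpowers_le, mem_centralizer_singleton_iff]

/-- second derived group when it is proper in the derived group -/
theorem SC.derived_case (h : SC p x)
    (he : (zpowers x).relIndex (normalizer ((zpowers x : Subgroup G) : Set G)) ≠ 1)
    (hne : derivedSeries G 2 ≠ derivedSeries G 1) :
    Nat.card (derivedSeries G 2) = (normalizer ((zpowers x : Subgroup G) : Set G)).index ∧
    Nat.card (commutator G) = p * Nat.card (derivedSeries G 2) := by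
  have hx1 := h.mem_commutator he
  have hD2 : derivedSeries G 2 = ⁅commutator G, commutator G⁆ := by
    rw [derivedSeries_succ, derivedSeries_one]
  haveI : (derivedSeries G 2).Normal := derivedSeries_normal G 2
  have hle : derivedSeries G 2 ≤ commutator G := by
    rw [hD2]; exact Subgroup.commutator_le_left _ _
  have hnd : ¬ p ∣ Nat.card (derivedSeries G 2) := by
    intro hd
    apply hne
    rw [derivedSeries_one]
    exact le_antisymm hle (h.commutator_le' hd)
  have hq := h.quot hnd
  have hmap : (commutator G).map (QuotientGroup.mk' (derivedSeries G 2)) = zpowers (QuotientGroup.mk x : G ⧸ derivedSeries G 2) := by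
    apply le_antisymm
    · rintro _ ⟨g, hg, rfl⟩
      apply hq.mem_of_comm
      have h1 : ⁅g, x⁆ ∈ derivedSeries G 2 := by
        rw [hD2]; exact Subgroup.commutator_mem_commutator hg hx1
      have h2 : QuotientGroup.mk' (derivedSeries G 2) ⁅g, x⁆ = 1 := (QuotientGroup.eq_one_iff _).2 h1
      rw [map_commutatorElement, commutatorElement_eq_one_iff_mul_comm] at h2
      exact h2
    · rw [zpowers_le]; exact ⟨x, hx1, rfl⟩
  have hcardq : Nat.card ((commutator G).map (QuotientGroup.mk' (derivedSeries G 2))) = p := by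
    rw [hmap, hq.card_zpowers]
  have hG' : Nat.card (commutator G) = p * Nat.card (derivedSeries G 2) := by
    have h1 : (derivedSeries G 2).relIndex (commutator G) = p := by
      rw [← hcardq, ← relIndex_ker, QuotientGroup.ker_mk']
    have h2 := Subgroup.card_mul_index ((derivedSeries G 2).subgroupOf (commutator G))
    rw [Nat.card_congr (subgroupOfEquivOfLe hle).toEquiv] at h2
    rw [← h2, mul_comm]
    congr 1
  refine ⟨?_, hG'⟩
  have hle2 : commutator G ≤ normalizer ((zpowers x : Subgroup G) : Set G) ⊔ derivedSeries G 2 := by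
    intro g hg
    have h1 : QuotientGroup.mk' (derivedSeries G 2) g ∈ zpowers (QuotientGroup.mk x : G ⧸ derivedSeries G 2) := by
      rw [← hmap]; exact ⟨g, hg, rfl⟩
    obtain ⟨k, hk⟩ := mem_zpowers_iff.1 h1
    rw [Subgroup.mem_sup_of_normal_right]
    refine ⟨x ^ k, le_normalizer (Subgroup.zpow_mem _ (mem_zpowers x) k), (x ^ k)⁻¹ * g, ?_, by group⟩
    rw [← QuotientGroup.eq]
    rw [QuotientGroup.mk_zpow]; exact hk
  have htop : derivedSeries G 2 ⊔ normalizer ((zpowers x : Subgroup G) : Set G) = ⊤ := by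
    rw [eq_top_iff, ← h.frattini (M := commutator G) hx1, sup_comm (derivedSeries G 2)]
    exact sup_le le_sup_left hle2
  have h3 := h.card_mul_dvd hnd
  rw [htop, card_top, ← Subgroup.index_mul_card (normalizer ((zpowers x : Subgroup G) : Set G))] at h3
  exact (Nat.eq_of_mul_eq_mul_right Nat.card_pos h3).symm

/-- converse direction: normal subgroup whose order is the number of Sylow subgroups -/
theorem SC.derived_ne (h : SC p x) {S : Subgroup G} [S.Normal]
    (he : (zpowers x).relIndex (normalizer ((zpowers x : Subgroup G) : Set G)) ≠ 1)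
    (hS : ¬ p ∣ Nat.card S)
    (hc : Nat.card S = (normalizer ((zpowers x : Subgroup G) : Set G)).index) :
    derivedSeries G 2 ≠ derivedSeries G 1 := by
  have hx1 := h.mem_commutator he
  have htop : S ⊔ normalizer ((zpowers x : Subgroup G) : Set G) = ⊤ := by
    apply Subgroup.eq_top_of_card_eq
    rw [h.card_mul_dvd hS, hc, Subgroup.index_mul_card]
  have h1 : ∀ g ∈ commutator G, QuotientGroup.mk' S g ∈ zpowers (QuotientGroup.mk x : G ⧸ S) := by
    intro g hg
    have hle : commutator G ≤ (zpowers (QuotientGroup.mk x : G ⧸ S)).comap (QuotientGroup.mk' S) := by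
      have key : ∀ c : G, ∃ n ∈ normalizer ((zpowers x : Subgroup G) : Set G),
          QuotientGroup.mk' S c = QuotientGroup.mk' S n := by
        intro c
        have hc : c ∈ normalizer ((zpowers x : Subgroup G) : Set G) ⊔ S := by rw [sup_comm, htop]; trivial
        rw [Subgroup.mem_sup_of_normal_right] at hc
        obtain ⟨n, hn, m, hm, hnm⟩ := hc
        refine ⟨n, hn, ?_⟩
        have h1 : QuotientGroup.mk' S m = 1 := (QuotientGroup.eq_one_iff m).2 hm
        rw [← hnm, map_mul, h1, mul_one]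
      rw [commutator_def, Subgroup.commutator_le]
      intro a _ b _
      obtain ⟨a', ha', haa⟩ := key a
      obtain ⟨b', hb', hbb⟩ := key b
      rw [mem_comap, map_commutatorElement, haa, hbb, ← map_commutatorElement]
      obtain ⟨k, hk⟩ := mem_zpowers_iff.1 (h.comm_normalizer ha' hb')
      rw [commutatorElement_def, ← hk, map_zpow]
      exact Subgroup.zpow_mem _ (mem_zpowers _) k
    exact hle hg
  have h2 : derivedSeries G 2 ≤ S := by
    rw [derivedSeries_succ, derivedSeries_one, Subgroup.commutator_le]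
    intro a ha b hb
    have h3 : QuotientGroup.mk' S ⁅a, b⁆ = 1 := by
      rw [map_commutatorElement, commutatorElement_eq_one_iff_mul_comm]
      obtain ⟨k, hk⟩ := mem_zpowers_iff.1 (h1 a ha)
      obtain ⟨l, hl⟩ := mem_zpowers_iff.1 (h1 b hb)
      rw [← hk, ← hl]
      exact (Commute.zpow_zpow_self _ k l)
    exact (QuotientGroup.eq_one_iff _).1 h3
  intro h4
  rw [h4, derivedSeries_one] at h2
  exact h.ne_one (h.not_mem_of_not_dvd hS (mem_zpowers x) (h2 hx1))

/-- elements of order `p` of a normal subgroup containing `x` -/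
theorem SC.eq_top_of_dvd (h : SC p x) (hx1 : x ∈ commutator G) (R : Subgroup (commutator G)) [R.Normal]
    (hR : p ∣ Nat.card R) : R = ⊤ := by
  have h1 := h.sub (commutator G) hx1
  have hxM : x ∈ normalClosure ({x} : Set G) := subset_normalClosure (Set.mem_singleton x)
  have h2 := h.commutator_le hxM
  have h3 : normalClosure ({x} : Set G) ≤ R.map (commutator G).subtype := by
    rw [normalClosure, closure_le]
    intro y hy
    replace hy : orderOf y = p := by
      obtain ⟨a, ha, hay⟩ := Group.mem_conjugatesOfSet_iff.1 hy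
      rw [Set.mem_singleton_iff] at ha
      obtain ⟨c, hc⟩ := isConj_iff.1 hay
      rw [← hc, ha]
      exact (h.conj c).hx
    have hyc : y ∈ commutator G := by
      refine h.mem_of_dvd (M := commutator G) ?_ hy
      rw [← h1.hx]; exact orderOf_dvd_natCard _
    refine ⟨⟨y, hyc⟩, ?_, rfl⟩
    refine h1.mem_of_dvd hR ?_
    rw [← Subgroup.orderOf_coe]; exact hy
  rw [eq_top_iff]
  rintro ⟨g, hg⟩ -
  obtain ⟨r, hr, hrg⟩ := h3 (h2 hg)
  have : r = ⟨g, hg⟩ := Subtype.ext hrg
  rwa [← this]

end CfsgLib.Self19
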