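import Cfsg.Agent.EqBase
import Cfsg.Agent.LibSelf19
import Cfsg.Agent.LibCharBasic2
import Cfsg.Agent.LibCharInt
import Mathlib.Analysis.Fourier.ZMod

set_option autoImplicit false
set_option maxHeartbeats 400000

/-! Groups with a self-centralizing element of prime order: characters of degree `p - 1`. -/

namespace CfsgLib.Self19
open Subgroup Cfsg ComplexConjugate
open scoped commutatorElement

/-! ### powers indexed by `ZMod m` -/
section Pow
variable {G : Type*} [Group G] {m : ℕ} [NeZero m]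

/-- `g ^ k` for `k : ZMod m`. -/
def zp (m : ℕ) (g : G) (k : ZMod m) : G := g ^ k.val

theorem zp_natCast {g : G} (hg : g ^ m = 1) (n : ℕ) : zp m g (n : ZMod m) = g ^ n := by
  rw [zp, ZMod.val_natCast]
  conv_rhs => rw [← Nat.mod_add_div n m, pow_add, pow_mul, hg, one_pow, mul_one]

theorem zp_add {g : G} (hg : g ^ m = 1) (k l : ZMod m) : zp m g (k + l) = zp m g k * zp m g l := by
  have h1 : (k + l : ZMod m) = ((k.val + l.val : ℕ) : ZMod m) := by simp
  rw [h1, zp_natCast hg, pow_add]; rfl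

theorem zp_zero (g : G) : zp m g (0 : ZMod m) = 1 := by simp [zp]

theorem zp_mul {g : G} (hg : g ^ m = 1) (k l : ZMod m) : zp m g (k * l) = (zp m g k) ^ l.val := by
  have h1 : (k * l : ZMod m) = ((k.val * l.val : ℕ) : ZMod m) := by simp
  rw [h1, zp_natCast hg, pow_mul]; rfl

theorem zp_one {g : G} (hg : g ^ m = 1) : zp m g 1 = g := by
  have := zp_natCast hg 1
  rwa [Nat.cast_one, pow_one] at this

theorem zp_mul' {g : G} (hg : g ^ m = 1) (k l : ZMod m) : zp m g (k * l) = zp m (zp m g k) l := by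
  rw [zp_mul hg]; rfl

theorem zp_inj {g : G} (hg : orderOf g = m) {k l : ZMod m} (h : zp m g k = zp m g l) : k = l := by
  unfold zp at h
  have h1 := pow_inj_mod.1 h
  rw [hg, Nat.mod_eq_of_lt (ZMod.val_lt k), Nat.mod_eq_of_lt (ZMod.val_lt l)] at h1
  exact ZMod.val_injective m h1

theorem zp_mem (g : G) (k : ZMod m) : zp m g k ∈ zpowers g := Subgroup.pow_mem _ (mem_zpowers g) _

theorem zp_surj {g : G} (hg : g ^ m = 1) {y : G} (hy : y ∈ zpowers g) : ∃ k : ZMod m, zp m g k = y := by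
  obtain ⟨k, rfl⟩ := mem_zpowers_iff.1 hy
  refine ⟨(k : ZMod m), ?_⟩
  have h1 : (m : ℤ) ∣ k - ((k : ZMod m).val : ℤ) := by
    rw [← ZMod.intCast_zmod_eq_zero_iff_dvd]
    simp
  obtain ⟨c, hc⟩ := h1
  have h2 : k = ((k : ZMod m).val : ℤ) + m * c := by omega
  conv_rhs => rw [h2, zpow_add, zpow_mul, zpow_natCast, zpow_natCast, hg, one_zpow, mul_one]
  rfl

theorem zp_conj {g c : G} (hg : g ^ m = 1) {h : ZMod m} (hc : c * g * c⁻¹ = zp m g h) (k : ZMod m) :
    c * zp m g k * c⁻¹ = zp m g (h * k) := by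
  rw [zp_mul hg, ← hc, conj_pow]; rfl

end Pow

/-! ### eigenvalues indexed by `ZMod m` -/
section Eig
variable {G : Type*} [Group G] {V : Type*} [AddCommGroup V] [Module ℂ V] [FiniteDimensional ℂ V]
  {m : ℕ} [NeZero m]

theorem exists_stdAddChar {ω : ℂ} (h : ω ^ m = 1) : ∃ c : ZMod m, ZMod.stdAddChar c = ω := by
  have h1 := Complex.isPrimitiveRoot_exp m (NeZero.ne m)
  obtain ⟨i, hi, hi2⟩ := h1.eq_pow_of_pow_eq_one h
  refine ⟨((i : ℤ) : ZMod m), ?_⟩
  rw [ZMod.stdAddChar_coe, ← hi2, ← Complex.exp_nat_mul]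
  congr 1
  push_cast
  ring

theorem exists_eig [Finite G] (ρ : Representation ℂ G V) {g : G} (hg : g ^ m = 1) :
    ∃ (b : Module.Basis (Fin (Module.finrank ℂ V)) ℂ V) (c : Fin (Module.finrank ℂ V) → ZMod m),
      ∀ i, ρ g (b i) = (ZMod.stdAddChar (c i) : ℂ) • b i := by
  obtain ⟨b, ω, h1, h2⟩ := CfsgLib.CharBasic.exists_diag_rep ρ g
  have h3 : ∀ i, ω i ^ m = 1 := by
    intro i
    obtain ⟨k, hk⟩ := orderOf_dvd_of_pow_eq_one hg
    rw [hk, pow_mul, h1, one_pow]
  choose c hc using fun i => exists_stdAddChar (h3 i)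
  exact ⟨b, c, fun i => by rw [h2, hc]⟩

theorem stdAddChar_pow (c : ZMod m) (k : ℕ) :
    (ZMod.stdAddChar c : ℂ) ^ k = ZMod.stdAddChar (c * (k : ZMod m)) := by
  rw [← AddChar.map_nsmul_eq_pow, nsmul_eq_mul, mul_comm]

theorem char_zp [Finite G] (ρ : Representation ℂ G V) {g : G}
    {b : Module.Basis (Fin (Module.finrank ℂ V)) ℂ V} {c : Fin (Module.finrank ℂ V) → ZMod m}
    (h : ∀ i, ρ g (b i) = (ZMod.stdAddChar (c i) : ℂ) • b i) (k : ZMod m) :
    ρ.character (zp m g k) = ∑ i, (ZMod.stdAddChar (c i * k) : ℂ) := by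
  rw [Representation.character]
  apply CfsgLib.CharBasic.trace_of_diag b
  intro i
  rw [zp, CfsgLib.CharBasic.diag_pow ρ g (h i), stdAddChar_pow, ZMod.natCast_val, ZMod.cast_id]

theorem sum_std (b : ZMod m) : ∑ k : ZMod m, (ZMod.stdAddChar (b * k) : ℂ) = if b = 0 then (m : ℂ) else 0 := by
  have := AddChar.sum_mulShift b (ZMod.isPrimitive_stdAddChar m)
  simp_rw [mul_comm _ b] at this
  rw [this, ZMod.card]
  split_ifs <;> simp

/-- multiplicities of eigenvalues -/
theorem mult_eq [Finite G] (ρ : Representation ℂ G V) {g : G}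
    {b : Module.Basis (Fin (Module.finrank ℂ V)) ℂ V} {c : Fin (Module.finrank ℂ V) → ZMod m}
    (h : ∀ i, ρ g (b i) = (ZMod.stdAddChar (c i) : ℂ) • b i) (j : ZMod m) :
    ∑ k : ZMod m, ρ.character (zp m g k) * ZMod.stdAddChar (-(j * k)) =
      (m : ℂ) * (Finset.univ.filter (fun i => c i = j)).card := by
  simp_rw [char_zp ρ h, Finset.sum_mul, ← AddChar.map_add_eq_mul]
  rw [Finset.sum_comm]
  have h1 : ∀ i, ∑ k : ZMod m, (ZMod.stdAddChar (c i * k + -(j * k)) : ℂ) = if c i = j then (m : ℂ) else 0 := by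
    intro i
    have : ∀ k : ZMod m, c i * k + -(j * k) = (c i - j) * k := fun k => by ring
    simp_rw [this, sum_std, sub_eq_zero]
  rw [Finset.sum_congr rfl (fun i _ => h1 i), ← Finset.sum_filter, Finset.sum_const, nsmul_eq_mul, mul_comm]

theorem det_eig (f : V →ₗ[ℂ] V) (b : Module.Basis (Fin (Module.finrank ℂ V)) ℂ V)
    (ω : Fin (Module.finrank ℂ V) → ℂ) (h : ∀ i, f (b i) = ω i • b i) : LinearMap.det f = ∏ i, ω i := by
  rw [← LinearMap.det_toMatrix b]
  have : LinearMap.toMatrix b b f = Matrix.diagonal ω := by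
    ext i j
    rw [LinearMap.toMatrix_apply, h, map_smul, Finsupp.smul_apply, Module.Basis.repr_self, Matrix.diagonal_apply,
      Finsupp.single_apply, smul_eq_mul]
    by_cases hij : i = j
    · subst hij; simp
    · rw [if_neg hij, if_neg (fun h => hij h.symm)]; simp
  rw [this, Matrix.det_diagonal]

end Eig

/-! ### the fusion subgroup -/
section Fusion
universe u
variable {G : Type u} [Group G] {p : ℕ} [Fact p.Prime] {x : G}

/-- exponents `u` with `x ^ u` conjugate to `x` -/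
def Hu (hx : x ^ p = 1) : Subgroup (ZMod p)ˣ where
  carrier := {u | IsConj x (zp p x (u : ZMod p))}
  one_mem' := by
    change IsConj x (zp p x ((1 : (ZMod p)ˣ) : ZMod p))
    rw [Units.val_one, zp_one hx]
  mul_mem' := by
    intro u v hu hv
    obtain ⟨c, hc⟩ := isConj_iff.1 hu
    refine IsConj.trans hv ?_
    rw [isConj_iff]
    refine ⟨c, ?_⟩
    rw [zp_conj hx hc, Units.val_mul]
  inv_mem' := by
    intro u hu
    obtain ⟨c, hc⟩ := isConj_iff.1 hu
    refine IsConj.symm ?_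
    rw [isConj_iff]
    refine ⟨c, ?_⟩
    rw [zp_conj hx hc, ← Units.val_mul, mul_inv_cancel, Units.val_one, zp_one hx]

theorem mem_Hu (hx : x ^ p = 1) {u : (ZMod p)ˣ} : u ∈ Hu hx ↔ IsConj x (zp p x (u : ZMod p)) := Iff.rfl

theorem zp_ne_one (hx : orderOf x = p) {k : ZMod p} (hk : k ≠ 0) : zp p x k ≠ 1 := by
  intro h
  rw [← zp_zero (m := p) x] at h
  exact hk (zp_inj hx h)

/-- conjugacy of nontrivial powers -/
theorem isConj_zp (hx : x ^ p = 1) {u v : (ZMod p)ˣ} :
    IsConj (zp p x (u : ZMod p)) (zp p x (v : ZMod p)) ↔ u⁻¹ * v ∈ Hu hx := by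
  rw [mem_Hu, isConj_iff, isConj_iff]
  constructor
  · rintro ⟨c, hc⟩
    refine ⟨c, ?_⟩
    have h1 : x = (zp p x (u : ZMod p)) ^ ((u⁻¹ : (ZMod p)ˣ) : ZMod p).val := by
      rw [← zp_mul hx, ← Units.val_mul, mul_inv_cancel, Units.val_one, zp_one hx]
    conv_lhs => rw [h1]
    rw [← conj_pow, hc, ← zp_mul hx, ← Units.val_mul, mul_comm]
  · rintro ⟨c, hc⟩
    refine ⟨c, ?_⟩
    rw [zp_conj hx hc, ← Units.val_mul]
    congr 2
    rw [mul_right_comm, inv_mul_cancel, one_mul]

variable [Finite G]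

theorem card_classes (h : SC p x) (hx : x ^ p = 1) :
    Nat.card {C : ConjClasses G // ∃ g ∈ C.carrier, orderOf g = p} = Nat.card ((ZMod p)ˣ ⧸ Hu hx) := by
  have hord : ∀ u : (ZMod p)ˣ, orderOf (zp p x (u : ZMod p)) = p := fun u =>
    (h.pow (zp_mem x _) (zp_ne_one h.hx u.ne_zero)).hx
  let f : (ZMod p)ˣ → {C : ConjClasses G // ∃ g ∈ C.carrier, orderOf g = p} := fun u =>
    ⟨ConjClasses.mk (zp p x (u : ZMod p)), _, ConjClasses.mem_carrier_mk, hord u⟩
  have hf : ∀ u v, f u = f v ↔ u⁻¹ * v ∈ Hu hx := by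
    intro u v
    rw [Subtype.mk_eq_mk, ConjClasses.mk_eq_mk_iff_isConj, isConj_zp hx]
  have hsurj : Function.Surjective f := by
    rintro ⟨C, g, hg, hgo⟩
    obtain ⟨c, hc⟩ := h.exists_conj hgo
    obtain ⟨k, hk⟩ := zp_surj hx hc
    have hk0 : k ≠ 0 := by
      rintro rfl
      rw [zp_zero] at hk
      have : g = c⁻¹ * (c * g * c⁻¹) * c := by group
      rw [← hk] at this
      have h3 : g = 1 := by rw [this]; group
      rw [h3, orderOf_one] at hgo
      exact h.hp.one_lt.ne hgo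
    refine ⟨Units.mk0 k hk0, ?_⟩
    apply Subtype.ext
    change ConjClasses.mk (zp p x k) = C
    rw [hk, ← ConjClasses.mem_carrier_iff_mk_eq.1 hg, ConjClasses.mk_eq_mk_iff_isConj]
    exact (isConj_iff.2 ⟨c, rfl⟩).symm
  symm
  refine Nat.card_eq_of_bijective (Quotient.lift f (fun u v huv => (hf u v).2 (QuotientGroup.leftRel_apply.1 huv))) ⟨?_, ?_⟩
  · intro a b
    induction a using QuotientGroup.induction_on with
    | H a =>
    induction b using QuotientGroup.induction_on with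
    | H b =>
    intro hab
    exact QuotientGroup.eq.2 ((hf a b).1 hab)
  · intro C
    obtain ⟨u, hu⟩ := hsurj C
    exact ⟨QuotientGroup.mk u, hu⟩

theorem card_Hu (h : SC p x) (hx : x ^ p = 1) :
    Nat.card {C : ConjClasses G // ∃ g ∈ C.carrier, orderOf g = p} * Nat.card (Hu hx) = p - 1 := by
  rw [card_classes h hx]
  have := Subgroup.card_eq_card_quotient_mul_card_subgroup (Hu hx)
  rw [← this, Nat.card_units, Nat.card_zmod]

end Fusion

/-! ### characters -/
section Chars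
universe u
variable {G : Type u} [Group G] [Finite G] {p : ℕ} [Fact p.Prime] {x : G}

theorem sum_eq_units (f : ZMod p → ℂ) (h0 : f 0 = 0) : ∑ k : ZMod p, f k = ∑ u : (ZMod p)ˣ, f (u : ZMod p) := by
  classical
  rw [← Finset.sum_erase Finset.univ h0]
  symm
  refine Finset.sum_nbij (fun u : (ZMod p)ˣ => (u : ZMod p)) ?_ ?_ ?_ ?_
  · intro u _; simp
  · intro u _ v _ h; exact Units.ext h
  · intro k hk
    rw [Finset.coe_erase, Set.mem_diff] at hk
    exact ⟨Units.mk0 k hk.2, by simp, rfl⟩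
  · intro u _; rfl

theorem inv_of_Hu {χ : G → ℂ} (hχ : IsClassFunction G χ) (hx : x ^ p = 1) {h : (ZMod p)ˣ} (hh : h ∈ Hu hx) (k : ZMod p) :
    χ (zp p x ((h : ZMod p) * k)) = χ (zp p x k) := by
  obtain ⟨c, hc⟩ := isConj_iff.1 ((mem_Hu hx).1 hh)
  rw [← zp_conj hx hc, hχ]

/-- the test coefficient -/
noncomputable def aa (j k : ZMod p) : ℂ := 1 - ZMod.stdAddChar (-(j * k))

theorem aa_zero (j : ZMod p) : aa j 0 = 0 := by simp [aa]

theorem conj_std (c : ZMod p) : conj (ZMod.stdAddChar c : ℂ) = ZMod.stdAddChar (-c) := by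
  rw [AddChar.map_neg_eq_conj]

theorem conj_aa (j k : ZMod p) : conj (aa j k) = 1 - ZMod.stdAddChar (j * k) := by
  rw [aa, map_sub, map_one, conj_std, neg_neg]

theorem sum_aa {j : ZMod p} (hj : j ≠ 0) : ∑ k : ZMod p, aa j k = p := by
  unfold aa
  have h1 : ∀ k : ZMod p, -(j * k) = (-j) * k := fun k => by ring
  simp_rw [h1]
  rw [Finset.sum_sub_distrib, sum_std, if_neg (by simpa using hj)]
  simp

open Classical in
theorem sum_aa_conj {j : ZMod p} (hj : j ≠ 0) (h : (ZMod p)ˣ) :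
    ∑ k : ZMod p, aa j k * conj (aa j ((h : ZMod p) * k)) = p + (if h = 1 then (p : ℂ) else 0) := by
  have h1 : ∀ k : ZMod p, aa j k * conj (aa j ((h : ZMod p) * k)) =
      1 - ZMod.stdAddChar ((-j) * k) - ZMod.stdAddChar ((j * (h : ZMod p)) * k) + ZMod.stdAddChar ((j * (h : ZMod p) - j) * k) := by
    intro k
    rw [conj_aa, aa]
    have e1 : (j * (h : ZMod p) - j) * k = -(j * k) + j * ((h : ZMod p) * k) := by ring
    rw [e1, AddChar.map_add_eq_mul]
    have e2 : (-j) * k = -(j * k) := by ring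
    have e3 : (j * (h : ZMod p)) * k = j * ((h : ZMod p) * k) := by ring
    rw [e2, e3]; ring
  simp_rw [h1]
  rw [Finset.sum_add_distrib, Finset.sum_sub_distrib, Finset.sum_sub_distrib, sum_std, sum_std, sum_std,
    if_neg (by simpa using hj), if_neg (mul_ne_zero hj h.ne_zero)]
  have e4 : (j * (h : ZMod p) - j = 0) ↔ h = 1 := by
    rw [sub_eq_zero]
    constructor
    · intro h2
      apply Units.ext
      rw [Units.val_one]
      exact mul_left_cancel₀ hj (by rw [h2, mul_one])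
    · rintro rfl; simp
  simp only [e4]
  simp

/-- the difference `p (a₀ - a_j)` -/
noncomputable def DD (x : G) (j : ZMod p) (χ : G → ℂ) : ℂ := ∑ k : ZMod p, χ (zp p x k) * aa j k

open Classical in
theorem sum_DD [Fintype G] (h : SC p x) (hx : x ^ p = 1) {j : ZMod p} (hj : j ≠ 0) :
    ∑ χ : IrrCharacter G, DD x j (χ : G → ℂ) * conj (DD x j (χ : G → ℂ)) = (p : ℂ) ^ 2 * (Nat.card (Hu hx) + 1) := by
  have e1 : ∀ χ : IrrCharacter G, DD x j (χ : G → ℂ) * conj (DD x j (χ : G → ℂ)) =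
      ∑ k : ZMod p, ∑ l : ZMod p, aa j k * conj (aa j l) * ((χ : G → ℂ) (zp p x k) * conj ((χ : G → ℂ) (zp p x l))) := by
    intro χ
    rw [DD, map_sum, Finset.sum_mul_sum]
    refine Finset.sum_congr rfl fun k _ => Finset.sum_congr rfl fun l _ => ?_
    rw [map_mul]; ring
  rw [Finset.sum_congr rfl (fun χ _ => e1 χ), Finset.sum_comm]
  have e2 : ∀ k : ZMod p, ∑ χ : IrrCharacter G, ∑ l : ZMod p, aa j k * conj (aa j l) * ((χ : G → ℂ) (zp p x k) * conj ((χ : G → ℂ) (zp p x l)))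
      = ∑ h : Hu hx, (p : ℂ) * (aa j k * conj (aa j (((h : (ZMod p)ˣ) : ZMod p) * k))) := by
    intro k
    rw [Finset.sum_comm]
    have e21 : ∀ l : ZMod p, ∑ χ : IrrCharacter G, aa j k * conj (aa j l) * ((χ : G → ℂ) (zp p x k) * conj ((χ : G → ℂ) (zp p x l))) =
        aa j k * conj (aa j l) * (if IsConj (zp p x k) (zp p x l) then (Nat.card (Subgroup.centralizer ({zp p x k} : Set G)) : ℂ) else 0) := by
      intro l
      rw [← Finset.mul_sum, CfsgLib.CharBasic.column_orthogonality]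
    rw [Finset.sum_congr rfl (fun l _ => e21 l)]
    by_cases hk : k = 0
    · subst hk
      simp [aa_zero]
    · have e3 : (Nat.card (Subgroup.centralizer ({zp p x k} : Set G)) : ℂ) = p := by
        have h2 := h.pow (zp_mem x k) (zp_ne_one h.hx hk)
        rw [h2.hC, h2.card_zpowers]
      rw [e3]
      rw [sum_eq_units (fun l => aa j k * conj (aa j l) * if IsConj (zp p x k) (zp p x l) then (p : ℂ) else 0) (by simp [aa_zero])]
      obtain ⟨u, rfl⟩ : ∃ u : (ZMod p)ˣ, (u : ZMod p) = k := ⟨Units.mk0 k hk, rfl⟩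
      simp_rw [isConj_zp hx]
      have e4 : ∀ v : (ZMod p)ˣ, aa j (u : ZMod p) * conj (aa j (v : ZMod p)) * (if u⁻¹ * v ∈ Hu hx then (p : ℂ) else 0) =
          if u⁻¹ * v ∈ Hu hx then (p : ℂ) * (aa j (u : ZMod p) * conj (aa j (v : ZMod p))) else 0 := by
        intro v
        split_ifs <;> ring
      rw [Finset.sum_congr rfl (fun v _ => e4 v), ← Finset.sum_filter]
      refine (Finset.sum_bij' (fun (v : (ZMod p)ˣ) hv => (⟨u⁻¹ * v, (Finset.mem_filter.1 hv).2⟩ : Hu hx))
        (fun (h : Hu hx) _ => u * (h : (ZMod p)ˣ)) ?_ ?_ ?_ ?_ ?_)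
      · intro v hv; exact Finset.mem_univ _
      · intro h _; simp
      · intro v hv; simp
      · intro h _; simp
      · intro v hv
        rw [← Units.val_mul]
        simp
  rw [Finset.sum_congr rfl (fun k _ => e2 k), Finset.sum_comm]
  simp_rw [← Finset.mul_sum]
  rw [Finset.sum_congr rfl (fun (h : Hu hx) _ => sum_aa_conj hj (h : (ZMod p)ˣ))]
  rw [Finset.sum_add_distrib, Finset.sum_const, Finset.card_univ, nsmul_eq_mul, ← Nat.card_eq_fintype_card]
  rw [Finset.sum_eq_single (1 : Hu hx)]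
  · simp; ring
  · intro b _ hb
    exact if_neg (fun h2 => hb (Subtype.ext h2))
  · intro h2; exact absurd (Finset.mem_univ _) h2

open Classical in
/-- an invariant function sums to a multiple of the order of the subgroup -/
theorem card_dvd_sum {A : Type*} [Group A] [Fintype A] (H : Subgroup A) (a : A → ℕ)
    (ha : ∀ h ∈ H, ∀ u, a (u * h) = a u) : Nat.card H ∣ ∑ u : A, a u := by
  rw [← Finset.sum_fiberwise Finset.univ (fun u : A => (QuotientGroup.mk u : A ⧸ H)) a]
  apply Finset.dvd_sum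
  intro q _
  have h1 : ∑ u ∈ Finset.univ.filter (fun u : A => (QuotientGroup.mk u : A ⧸ H) = q), a u = ∑ h : H, a (q.out * (h : A)) := by
    have hq : (QuotientGroup.mk q.out : A ⧸ H) = q := Quotient.out_eq' q
    refine (Finset.sum_bij' (fun (u : A) hu => (⟨q.out⁻¹ * u, ?_⟩ : H)) (fun (h : H) _ => q.out * (h : A)) ?_ ?_ ?_ ?_ ?_)
    · rw [← QuotientGroup.eq, hq]
      exact (Finset.mem_filter.1 hu).2.symm
    · intro u hu; exact Finset.mem_univ _
    · intro h _
      rw [Finset.mem_filter]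
      refine ⟨Finset.mem_univ _, ?_⟩
      conv_rhs => rw [← hq]
      symm
      rw [QuotientGroup.eq]
      simp
    · intro u hu; simp
    · intro h _; simp
    · intro u hu; simp
  rw [h1, Finset.sum_congr rfl (fun h _ => ha _ h.2 _), Finset.sum_const, Finset.card_univ, ← Nat.card_eq_fintype_card, smul_eq_mul]
  exact dvd_mul_right _ _

open Classical in
theorem no_fixed [Fintype G] (h : SC p x) (hx : x ^ p = 1) {n : ℕ} (ρ : Representation ℂ G (Fin n → ℂ)) (hirr : ρ.IsIrreducible)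
    (hdeg : n + 1 = p) (hH : 2 ≤ Nat.card (Hu hx))
    {b : Module.Basis (Fin (Module.finrank ℂ (Fin n → ℂ))) ℂ (Fin n → ℂ)}
    {c : Fin (Module.finrank ℂ (Fin n → ℂ)) → ZMod p}
    (hb : ∀ i, ρ x (b i) = (ZMod.stdAddChar (c i) : ℂ) • b i) : ∀ i, c i ≠ 0 := by
  have hfr : Module.finrank ℂ (Fin n → ℂ) = n := by simp
  let a : ZMod p → ℕ := fun j => (Finset.univ.filter (fun i => c i = j)).card
  have hcl : IsClassFunction G ρ.character := fun g k => Representation.char_conj ρ g k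
  have hmul := mult_eq ρ hb
  have hsum : ∑ j : ZMod p, a j = n := by
    have := Finset.card_eq_sum_card_fiberwise (f := c) (s := Finset.univ) (t := Finset.univ) (fun _ _ => by simp)
    rw [← this, Finset.card_univ, Fintype.card_fin, hfr]
  have hp0 : (p : ℂ) ≠ 0 := by exact_mod_cast h.hp.ne_zero
  have hinv : ∀ hh ∈ Hu hx, ∀ j : ZMod p, a ((hh : ZMod p) * j) = a j := by
    intro hh hhm j
    have h1 := hmul ((hh : ZMod p) * j)
    have h2 := hmul j
    have h3 : ∑ k : ZMod p, ρ.character (zp p x k) * ZMod.stdAddChar (-((hh : ZMod p) * j * k)) =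
        ∑ k : ZMod p, ρ.character (zp p x k) * ZMod.stdAddChar (-(j * k)) := by
      let e : ZMod p ≃ ZMod p := ⟨fun k => (hh : ZMod p) * k, fun k => ((hh⁻¹ : (ZMod p)ˣ) : ZMod p) * k,
        fun k => by change ((hh⁻¹ : (ZMod p)ˣ) : ZMod p) * ((hh : ZMod p) * k) = k; rw [← mul_assoc, Units.inv_mul, one_mul],
        fun k => by change (hh : ZMod p) * (((hh⁻¹ : (ZMod p)ˣ) : ZMod p) * k) = k; rw [← mul_assoc, Units.mul_inv, one_mul]⟩
      rw [← Equiv.sum_comp e (fun k => ρ.character (zp p x k) * ZMod.stdAddChar (-(j * k)))]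
      refine Finset.sum_congr rfl fun k _ => ?_
      change _ = ρ.character (zp p x ((hh : ZMod p) * k)) * ZMod.stdAddChar (-(j * ((hh : ZMod p) * k)))
      rw [inv_of_Hu hcl hx hhm]
      congr 3
      ring
    rw [h3, h2] at h1
    exact_mod_cast (mul_left_cancel₀ hp0 h1).symm
  have hD : ∀ j, DD x j ρ.character = (p : ℂ) * (a 0 - a j) := by
    intro j
    have h1 := hmul 0
    have h2 := hmul j
    rw [mul_sub, ← h1, ← h2, ← Finset.sum_sub_distrib, DD]
    refine Finset.sum_congr rfl fun k _ => ?_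
    rw [aa]; simp; ring
  have hdvd : Nat.card (Hu hx) ∣ ∑ u : (ZMod p)ˣ, a (u : ZMod p) := by
    apply card_dvd_sum
    intro hh hhm u
    rw [Units.val_mul, mul_comm]; exact hinv hh hhm _
  have hunits : a 0 + ∑ u : (ZMod p)ˣ, a (u : ZMod p) = n := by
    have := sum_eq_units (p := p) (fun k => if k = 0 then 0 else (a k : ℂ)) (by simp)
    have h2 : ∑ k : ZMod p, (if k = 0 then 0 else (a k : ℂ)) = (∑ k : ZMod p, (a k : ℂ)) - a 0 := by
      rw [eq_sub_iff_add_eq]
      have h3 : (a 0 : ℂ) = ∑ k : ZMod p, (if k = 0 then (a k : ℂ) else 0) := by simp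
      rw [h3, ← Finset.sum_add_distrib]
      refine Finset.sum_congr rfl fun k _ => ?_
      split_ifs <;> simp
    rw [h2] at this
    have h4 : ∑ u : (ZMod p)ˣ, (if (u : ZMod p) = 0 then 0 else (a (u : ZMod p) : ℂ)) = ∑ u : (ZMod p)ˣ, (a (u : ZMod p) : ℂ) := by
      refine Finset.sum_congr rfl fun u _ => ?_
      rw [if_neg u.ne_zero]
    rw [h4] at this
    have h5 : (∑ k : ZMod p, (a k : ℂ)) = n := by exact_mod_cast hsum
    rw [h5] at this
    have h6 : ((a 0 + ∑ u : (ZMod p)ˣ, a (u : ZMod p) : ℕ) : ℂ) = (n : ℂ) := by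
      push_cast
      rw [← this]; ring
    exact_mod_cast h6
  -- main argument
  intro i hi
  have ha0 : 1 ≤ a 0 := Finset.card_pos.2 ⟨i, by simp [hi]⟩
  obtain ⟨u, hu⟩ : ∃ u : (ZMod p)ˣ, a (u : ZMod p) = 0 := by
    by_contra hcon
    push Not at hcon
    have h1 : ∑ u : (ZMod p)ˣ, 1 ≤ ∑ u : (ZMod p)ˣ, a (u : ZMod p) :=
      Finset.sum_le_sum fun u _ => Nat.one_le_iff_ne_zero.2 (hcon u)
    rw [Finset.sum_const, Finset.card_univ, smul_eq_mul, mul_one, ZMod.card_units_eq_totient,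
      Nat.totient_prime h.hp] at h1
    have h2 := h.hp.two_le
    omega
  have hS := sum_DD h hx u.ne_zero
  have hS' : ∑ χ : IrrCharacter G, Complex.normSq (DD x (u : ZMod p) (χ : G → ℂ)) = (p : ℝ) ^ 2 * (Nat.card (Hu hx) + 1) := by
    simp_rw [Complex.mul_conj] at hS
    exact_mod_cast hS
  let χ0 : IrrCharacter G := ⟨ρ.character, n, ρ, hirr, rfl⟩
  let χ1 : IrrCharacter G := ⟨fun _ => 1, CfsgLib.CharBasic.isIrrCharacter_one⟩
  have hne : χ0 ≠ χ1 := by
    intro he
    have h1 : ρ.character = fun _ => 1 := congrArg Subtype.val he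
    have h2 := hmul 0
    have h3 := hmul (u : ZMod p)
    simp_rw [h1] at h2
    simp at h2
    have h4 : a 0 = 1 := by
      have : (p : ℂ) * a 0 = p := h2.symm
      exact_mod_cast mul_left_cancel₀ hp0 (this.trans (mul_one _).symm)
    have h5 : ρ.character 1 = 1 := by rw [h1]
    rw [Representation.char_one] at h5
    rw [hfr] at h5
    have h6 : n = 1 := by exact_mod_cast h5
    have h7 : Nat.card (Hu hx) ≤ p - 1 := by
      have := Subgroup.card_le_card_group (Hu hx)
      rw [Nat.card_units, Nat.card_zmod] at this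
      exact this
    omega
  have h8 : Complex.normSq (DD x (u : ZMod p) (χ0 : G → ℂ)) + Complex.normSq (DD x (u : ZMod p) (χ1 : G → ℂ)) ≤
      ∑ χ : IrrCharacter G, Complex.normSq (DD x (u : ZMod p) (χ : G → ℂ)) := by
    rw [← Finset.sum_pair hne (f := fun χ : IrrCharacter G => Complex.normSq (DD x (u : ZMod p) (χ : G → ℂ)))]
    exact Finset.sum_le_sum_of_subset_of_nonneg (Finset.subset_univ _) (fun _ _ _ => Complex.normSq_nonneg _)
  have h9 : DD x (u : ZMod p) (χ0 : G → ℂ) = (p : ℂ) * a 0 := by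
    change DD x (u : ZMod p) ρ.character = _
    rw [hD, hu]; simp
  have h10 : DD x (u : ZMod p) (χ1 : G → ℂ) = (p : ℂ) := by
    change DD x (u : ZMod p) (fun _ => 1) = _
    rw [DD]
    simp_rw [one_mul]
    exact sum_aa u.ne_zero
  rw [h9, h10, hS', map_mul, Complex.normSq_natCast, Complex.normSq_natCast] at h8
  have hpR : (0 : ℝ) < p := by exact_mod_cast h.hp.pos
  have h11 : ((a 0 : ℝ)) * a 0 ≤ Nat.card (Hu hx) := by
    have h12 : (p : ℝ) * p * ((a 0 : ℝ) * a 0) ≤ (p : ℝ) * p * (Nat.card (Hu hx)) := by nlinarith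
    exact le_of_mul_le_mul_left h12 (by positivity)
  have h12 : a 0 * a 0 ≤ Nat.card (Hu hx) := by exact_mod_cast h11
  have h13 : Nat.card (Hu hx) ∣ p - 1 := by
    have := Subgroup.card_subgroup_dvd_card (Hu hx)
    rwa [Nat.card_units, Nat.card_zmod] at this
  have h14 : Nat.card (Hu hx) ∣ a 0 := by
    have h15 : p - 1 = a 0 + ∑ u : (ZMod p)ˣ, a (u : ZMod p) := by rw [hunits]; omega
    rw [h15] at h13
    exact (Nat.dvd_add_left hdvd).1 h13
  have h15 := Nat.le_of_dvd ha0 h14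
  nlinarith

/-- characters vanish on the elements acting nontrivially -/
theorem char_eq_zero {n : ℕ} (hx : x ^ p = 1) (ρ : Representation ℂ G (Fin n → ℂ))
    {b : Module.Basis (Fin (Module.finrank ℂ (Fin n → ℂ))) ℂ (Fin n → ℂ)}
    {c : Fin (Module.finrank ℂ (Fin n → ℂ)) → ZMod p}
    (hb : ∀ i, ρ x (b i) = (ZMod.stdAddChar (c i) : ℂ) • b i) (hc : ∀ i, c i ≠ 0)
    {y : G} {m : (ZMod p)ˣ} (hm : m ≠ 1) (hy : y * x * y⁻¹ = zp p x (m : ZMod p)) : ρ.character y = 0 := by
  have hcl : ∀ g k : G, ρ.character (k * g * k⁻¹) = ρ.character g := fun g k => Representation.char_conj ρ g k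
  -- all ρ (zp x k) sum to zero
  have hzero : ∑ k : ZMod p, ρ (zp p x k) = 0 := by
    apply b.ext
    intro i
    rw [LinearMap.sum_apply, LinearMap.zero_apply]
    have h1 : ∀ k : ZMod p, ρ (zp p x k) (b i) = (ZMod.stdAddChar (c i * k) : ℂ) • b i := by
      intro k
      rw [zp, CfsgLib.CharBasic.diag_pow ρ x (hb i), stdAddChar_pow, ZMod.natCast_val, ZMod.cast_id]
    rw [Finset.sum_congr rfl (fun k _ => h1 k), ← Finset.sum_smul, sum_std, if_neg (hc i), zero_smul]
  have hall : ∀ k : ZMod p, ρ.character (zp p x k * y) = ρ.character y := by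
    intro k
    -- find d with d - m d = k
    have hm1 : (1 : ZMod p) - m ≠ 0 := fun h => hm (Units.ext (by rw [Units.val_one]; exact (sub_eq_zero.1 h).symm))
    have h1 : zp p x k * y = zp p x (k / (1 - (m : ZMod p))) * y * (zp p x (k / (1 - (m : ZMod p))))⁻¹ := by
      have h2 := zp_conj hx hy (k / (1 - (m : ZMod p)))
      have h3 : y * (zp p x (k / (1 - (m : ZMod p))))⁻¹ = (zp p x ((m : ZMod p) * (k / (1 - (m : ZMod p)))))⁻¹ * y := by
        rw [← h2]; group
      rw [mul_assoc (zp p x (k / (1 - (m : ZMod p)))) y, h3, ← mul_assoc]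
      congr 1
      rw [eq_mul_inv_iff_mul_eq, ← zp_add hx]
      congr 1
      field_simp
      ring
    rw [h1, hcl]
  have h2 : ∑ k : ZMod p, ρ.character (zp p x k * y) = 0 := by
    have h3 : ∀ k : ZMod p, ρ.character (zp p x k * y) = LinearMap.trace ℂ _ (ρ (zp p x k) * ρ y) := by
      intro k; rw [Representation.character, map_mul]
    simp_rw [h3]
    rw [← map_sum, ← Finset.sum_mul, hzero, zero_mul, map_zero]
  rw [Finset.sum_congr rfl (fun k _ => hall k), Finset.sum_const, Finset.card_univ, ZMod.card, nsmul_eq_mul] at h2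
  have hp0 : (p : ℂ) ≠ 0 := by exact_mod_cast (Fact.out : p.Prime).ne_zero
  exact (mul_eq_zero.1 h2).resolve_left hp0

end Chars

/-! ### the determinant -/
section Det
universe u
variable {G : Type u} [Group G] [Finite G]

/-- the determinant of a representation as a homomorphism to units -/
noncomputable def detU {n : ℕ} (ρ : Representation ℂ G (Fin n → ℂ)) : G →* ℂˣ where
  toFun g := ⟨LinearMap.det (ρ g), LinearMap.det (ρ g⁻¹), by
      rw [← map_mul, ← map_mul, mul_inv_cancel, map_one, map_one], by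
      rw [← map_mul, ← map_mul, inv_mul_cancel, map_one, map_one]⟩
  map_one' := by ext; simp
  map_mul' g h := by ext; simp

theorem addChar_sum {e : ℕ} [NeZero e] (ψ : AddChar (ZMod e) ℂ) (s : Finset (ZMod e)) :
    ψ (∑ j ∈ s, j) = ∏ j ∈ s, ψ j := by
  classical
  induction s using Finset.induction_on with
  | empty => simp
  | insert a s ha ih => rw [Finset.sum_insert ha, Finset.prod_insert ha, AddChar.map_add_eq_mul, ih]

theorem sum_zmod_even {e : ℕ} [NeZero e] (he : Even e) : (ZMod.stdAddChar (∑ j : ZMod e, j) : ℂ) = -1 := by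
  have h0 : e ≠ 0 := NeZero.ne e
  obtain ⟨f, hf⟩ := he
  have hS : (∑ j : ZMod e, j) = ((∑ i ∈ Finset.range e, i : ℕ) : ZMod e) := by
    rw [Nat.cast_sum]
    symm
    refine Finset.sum_nbij (fun i : ℕ => (i : ZMod e)) (fun i _ => Finset.mem_univ _) ?_ ?_ (fun i _ => rfl)
    · intro a ha b hb hab
      rw [Finset.coe_range, Set.mem_Iio] at ha hb
      have := (ZMod.natCast_eq_natCast_iff' a b e).1 hab
      rwa [Nat.mod_eq_of_lt ha, Nat.mod_eq_of_lt hb] at this
    · intro k _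
      exact ⟨k.val, by simp [ZMod.val_lt], by simp⟩
  have h2 : 2 * (∑ i ∈ Finset.range e, i) = e * (e - 1) := by
    rw [mul_comm, Finset.sum_range_id_mul_two]
  have hne : (∑ j : ZMod e, j) ≠ 0 := by
    rw [hS, Ne, ZMod.natCast_eq_zero_iff]
    rintro ⟨q, hq⟩
    rw [hq] at h2
    have h3 : 2 * q = e - 1 := by
      apply Nat.eq_of_mul_eq_mul_left (Nat.pos_of_ne_zero h0)
      rw [← h2]; ring
    omega
  have h2S : 2 * (∑ j : ZMod e, j) = 0 := by
    have h3 : (∑ j : ZMod e, j) = ∑ j : ZMod e, (-j) := (Equiv.sum_comp (Equiv.neg (ZMod e)) (fun j => j)).symm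
    rw [Finset.sum_neg_distrib] at h3
    have h4 : (∑ j : ZMod e, j) + (∑ j : ZMod e, j) = 0 := by
      nth_rw 1 [h3]; simp
    rw [two_mul, h4]
  have h5 : (ZMod.stdAddChar (∑ j : ZMod e, j) : ℂ) ^ 2 = 1 := by
    rw [← AddChar.map_nsmul_eq_pow, nsmul_eq_mul, Nat.cast_ofNat, h2S, AddChar.map_zero_eq_one]
  have h6 : (ZMod.stdAddChar (∑ j : ZMod e, j) : ℂ) ≠ 1 := by
    intro h7
    rw [← AddChar.map_zero_eq_one (ZMod.stdAddChar (N := e))] at h7
    exact hne (ZMod.injective_stdAddChar h7)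
  rw [sq] at h5
  rcases mul_self_eq_one_iff.1 h5 with h | h
  · exact absurd h h6
  · exact h

theorem conj_pow_zp {p : ℕ} [Fact p.Prime] {x y : G} (hx : x ^ p = 1) {w : (ZMod p)ˣ} (hy : y * x * y⁻¹ = zp p x (w : ZMod p)) (k : ℕ) :
    y ^ k * x * (y ^ k)⁻¹ = zp p x ((w ^ k : (ZMod p)ˣ) : ZMod p) := by
  induction k with
  | zero => simp [zp_one hx]
  | succ k ih =>
    have h1 : y ^ (k + 1) * x * (y ^ (k + 1))⁻¹ = y * (y ^ k * x * (y ^ k)⁻¹) * y⁻¹ := by
      rw [pow_succ']; group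
    rw [h1, ih, zp_conj hx hy, ← Units.val_mul, ← pow_succ']

theorem even_index {p : ℕ} [Fact p.Prime] {x : G} (h : SC p x) (hx : x ^ p = 1) {n t : ℕ}
    (ρ : Representation ℂ G (Fin n → ℂ)) (hirr : ρ.IsIrreducible)
    (hdeg : n + 1 = p) (hH : Even (Nat.card (Hu hx))) (ht : ¬ Even t) (hte : t * Nat.card (Hu hx) = p - 1) :
    Even (commutator G).index := by
  classical
  haveI : Fintype G := Fintype.ofFinite G
  have hpos : 0 < Nat.card (Hu hx) := Nat.card_pos
  have h2 : 2 ≤ Nat.card (Hu hx) := by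
    obtain ⟨f, hf⟩ := hH; omega
  haveI hcyc : IsCyclic (Hu hx) := inferInstance
  obtain ⟨w, hw⟩ := IsCyclic.exists_generator (α := Hu hx)
  set e := Nat.card (Hu hx) with he
  haveI : NeZero e := ⟨hpos.ne'⟩
  have hwe : orderOf (w : (ZMod p)ˣ) = e := by
    rw [Subgroup.orderOf_coe, he]
    exact orderOf_eq_card_of_forall_mem_zpowers hw
  obtain ⟨y, hy⟩ := isConj_iff.1 ((mem_Hu hx).1 w.2)
  have hyk := conj_pow_zp hx hy
  have hye : y ^ e = 1 := by
    have h3 : y ^ e * x * (y ^ e)⁻¹ = x := by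
      rw [hyk, ← hwe, pow_orderOf_eq_one, Units.val_one, zp_one hx]
    have h4 : y ^ e ∈ zpowers x := h.mem_of_comm (mul_inv_eq_iff_eq_mul.1 h3)
    by_contra hne
    have h5 := h.pow h4 hne
    have h6 : y ∈ zpowers (y ^ e) := h5.mem_of_comm (by rw [← pow_succ, ← pow_succ'])
    rw [zpowers_eq_of_mem h.hp h.hx h4 hne] at h6
    have h7 := h.comm_of_mem h6
    have h8 : zp p x (((w : (ZMod p)ˣ)) : ZMod p) = zp p x 1 := by
      rw [← hy, h7, zp_one hx]; group
    have h9 := zp_inj h.hx h8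
    have h10 : (w : (ZMod p)ˣ) = 1 := Units.ext (by rw [h9, Units.val_one])
    rw [h10, orderOf_one] at hwe
    omega
  obtain ⟨b, c, hb⟩ := exists_eig (m := p) ρ hx
  have hfr : Module.finrank ℂ (Fin n → ℂ) = n := by simp
  have hc := no_fixed h hx ρ hirr hdeg h2 hb
  obtain ⟨b', c', hb'⟩ := exists_eig (m := e) ρ hye
  have hval : ∀ k : ZMod e, k ≠ 0 → ρ.character (zp e y k) = 0 := by
    intro k hk
    refine char_eq_zero hx ρ hb hc (m := (w : (ZMod p)ˣ) ^ k.val) ?_ (hyk k.val)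
    intro h3
    have h4 := orderOf_dvd_of_pow_eq_one h3
    rw [hwe] at h4
    have h5 : k.val ≠ 0 := fun h => hk ((ZMod.val_eq_zero k).1 h)
    have := Nat.le_of_dvd (Nat.pos_of_ne_zero h5) h4
    have := ZMod.val_lt k
    omega
  have hcnt : ∀ j : ZMod e, (Finset.univ.filter (fun i => c' i = j)).card = t := by
    intro j
    have h3 := mult_eq ρ hb' j
    rw [Finset.sum_eq_single (0 : ZMod e) (fun k _ hk => by rw [hval k hk, zero_mul]) (fun h => absurd (Finset.mem_univ _) h)] at h3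
    have hch : ρ.character 1 = (n : ℂ) := by rw [Representation.char_one]; exact_mod_cast hfr
    rw [zp_zero, hch, mul_zero, neg_zero, AddChar.map_zero_eq_one, mul_one] at h3
    have h4 : n = e * (Finset.univ.filter (fun i => c' i = j)).card := by exact_mod_cast h3
    have h5 : n = e * t := by rw [mul_comm, hte]; omega
    exact Nat.eq_of_mul_eq_mul_left hpos (h4.symm.trans h5)
  have hdet : LinearMap.det (ρ y) = -1 := by
    rw [det_eig (ρ y) b' _ hb']
    have h3 : ∏ i, (ZMod.stdAddChar (c' i) : ℂ) = ∏ j : ZMod e, ∏ i ∈ Finset.univ.filter (fun i => c' i = j), (ZMod.stdAddChar (c' i) : ℂ) :=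
      (Finset.prod_fiberwise Finset.univ c' _).symm
    rw [h3]
    have h4 : ∀ j : ZMod e, ∏ i ∈ Finset.univ.filter (fun i => c' i = j), (ZMod.stdAddChar (c' i) : ℂ) = (ZMod.stdAddChar j : ℂ) ^ t := by
      intro j
      rw [Finset.prod_congr rfl (g := fun _ => (ZMod.stdAddChar j : ℂ)) (fun i hi => by rw [(Finset.mem_filter.1 hi).2]),
        Finset.prod_const, hcnt]
    rw [Finset.prod_congr rfl (fun j _ => h4 j), Finset.prod_pow]
    have h5 : ∏ j : ZMod e, (ZMod.stdAddChar j : ℂ) = ZMod.stdAddChar (∑ j : ZMod e, j) := by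
      exact (addChar_sum _ _).symm
    rw [h5, sum_zmod_even hH, Odd.neg_one_pow (Nat.not_even_iff_odd.1 ht)]
  by_contra hodd
  have hodd' := Nat.not_even_iff_odd.1 hodd
  have h3 : y ^ (commutator G).index ∈ commutator G := Subgroup.pow_index_mem _ y
  have h4 := Abelianization.commutator_subset_ker (detU ρ) h3
  rw [MonoidHom.mem_ker, map_pow] at h4
  have h5 := congrArg Units.val h4
  rw [Units.val_pow_eq_pow_val, Units.val_one] at h5
  change (LinearMap.det (ρ y)) ^ (commutator G).index = 1 at h5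
  rw [hdet, hodd'.neg_one_pow] at h5
  norm_num at h5

end Det

end CfsgLib.Self19
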