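import Mathlib
import Cfsg.Agent.EqBase
import Cfsg.Prelude.Def_Blocks
import Cfsg.Agent.LibSelfB19
import Cfsg.Agent.LibExtend4
import Cfsg.Agent.LibBlockR
import Cfsg.Agent.LibBlockIdem

set_option autoImplicit false
set_option maxHeartbeats 400000
set_option linter.unusedSectionVars false

/-! Faithful characters of small degree in the principal block (helper19) -/

namespace CfsgLib.PerfB19

open Cfsg CfsgLib.BlockR CfsgLib.Self19

universe u
variable {G : Type u} [Group G] [Finite G] {p : ℕ} [Fact p.Prime] {M : Ideal AlgInt}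

theorem index_not_dvd (P : Sylow p G) {w : G} (hw : w ∈ Subgroup.centralizer ((P : Subgroup G) : Set G)) :
    ¬ p ∣ (Subgroup.centralizer ({w} : Set G)).index := by
  have h1 : (P : Subgroup G) ≤ Subgroup.centralizer ({w} : Set G) := by
    intro x hx
    rw [Subgroup.mem_centralizer_singleton_iff]
    exact (Subgroup.mem_centralizer_iff.1 hw x hx)
  intro h
  have h2 := Subgroup.index_dvd_of_le h1
  exact P.not_dvd_index (h.trans h2)

theorem std_integral {m : ℕ} [NeZero m] (c : ZMod m) : IsIntegral ℤ (ZMod.stdAddChar c : ℂ) := by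
  have h1 : (ZMod.stdAddChar c : ℂ) ^ m = 1 := by
    rw [stdAddChar_pow, ZMod.natCast_self, mul_zero, AddChar.map_zero_eq_one]
  apply IsIntegral.of_pow (NeZero.pos m)
  rw [h1]
  exact isIntegral_one

/-- values of principal block characters at `p`-regular elements centralizing a Sylow -/
theorem val_congr (hM : IsPModular p M) (P : Sylow p G) {χ : IrrCharacter G} (hχ : χ ∈ principalBlock M G) {n : ℕ} (hn : (χ : G → ℂ) 1 = n)
    {w : G} (hw : w ∈ Subgroup.centralizer ((P : Subgroup G) : Set G)) : MemLocalIdeal M ((χ : G → ℂ) w - n) := by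
  have hp := isPrime_of_modular hM
  have h1 : MemLocalIdeal M (centralChar (fun _ : G => (1 : ℂ)) w - centralChar (χ : G → ℂ) w) := hχ w
  have h2 := index_not_dvd P hw
  set h := (Subgroup.centralizer ({w} : Set G)).index with hh
  have hn0 : (n : ℂ) ≠ 0 := by
    rw [← hn]; exact CfsgLib.CharInt.irr_one_ne_zero χ.2
  have hh0 : (h : ℂ) ≠ 0 := by
    intro h0
    apply h2
    rw [Nat.cast_eq_zero.1 h0]; exact dvd_zero p
  have h3 : centralChar (fun _ : G => (1 : ℂ)) w = h := by
    unfold centralChar
    rw [mul_one, div_one]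
  have h4 : centralChar (χ : G → ℂ) w = h * (χ : G → ℂ) w / n := by
    unfold centralChar
    rw [hn]
  rw [h3, h4] at h1
  have h5 := ideal_mul_left hp (ring_mul hp (ring_nat hp n) (ring_inv_nat hM h2)) h1
  have h6 : (n : ℂ) * (h : ℂ)⁻¹ * ((h : ℂ) - h * (χ : G → ℂ) w / n) = n - (χ : G → ℂ) w := by
    field_simp
  rw [h6] at h5
  exact ideal_sub_comm h5

theorem main (hM : IsPModular p M) (hperf : commutator G = ⊤) (P : Sylow p G) (χ : IrrCharacter G) (hχ : χ ∈ principalBlock M G)
    (hfaith : ∀ g : G, (χ : G → ℂ) g = (χ : G → ℂ) 1 → g = 1) (hdeg : charDegree (χ : G → ℂ) < 2 * p) :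
    ∀ v ∈ Subgroup.centralizer ((P : Subgroup G) : Set G), (orderOf v).Coprime p → v = 1 := by
  classical
  intro v hv hcop
  have hp := isPrime_of_modular hM
  have hpp : p.Prime := Fact.out
  have hdeg1 := CfsgLib.CharInt.irr_one_eq_charDegree χ.2
  set n := charDegree (χ : G → ℂ) with hn
  set m := orderOf v with hm
  haveI : NeZero m := ⟨(orderOf_pos v).ne'⟩
  have hvm : v ^ m = 1 := pow_orderOf_eq_one v
  obtain ⟨N, ρ, hρ, hρχ⟩ := χ.2
  have hN : N = n := by
    have : (χ : G → ℂ) 1 = N := by
      rw [← hρχ, Representation.char_one]; simp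
    rw [hdeg1] at this
    exact_mod_cast this.symm
  have hfin : Module.finrank ℂ (Fin N → ℂ) = n := by simp [hN]
  have hfin' : Fintype.card (Fin (Module.finrank ℂ (Fin N → ℂ))) = n := by rw [Fintype.card_fin, hfin]
  obtain ⟨b, c, hb⟩ := exists_eig ρ hvm
  -- multiplicities
  have hmult : ∀ j : ZMod m, j ≠ 0 → p ∣ (Finset.univ.filter (fun i => c i = j)).card := by
    intro j hj
    have h1 := mult_eq ρ hb j
    have h2 : ∑ k : ZMod m, ρ.character (zp m v k) * ZMod.stdAddChar (-(j * k)) =
        ∑ k : ZMod m, ((χ : G → ℂ) (zp m v k) - n) * ZMod.stdAddChar (-(j * k)) := by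
      have h3 : ∑ k : ZMod m, (n : ℂ) * ZMod.stdAddChar (-(j * k)) = 0 := by
        rw [← Finset.mul_sum]
        have : ∑ k : ZMod m, (ZMod.stdAddChar (-(j * k)) : ℂ) = 0 := by
          have h4 := sum_std (m := m) (-j)
          rw [if_neg (neg_ne_zero.2 hj)] at h4
          rw [← h4]
          apply Finset.sum_congr rfl
          intro k _
          rw [neg_mul]
        rw [this, mul_zero]
      simp_rw [sub_mul]
      rw [Finset.sum_sub_distrib, h3, sub_zero, hρχ]
    rw [h2] at h1
    have h3 : MemLocalIdeal M ((m : ℂ) * (Finset.univ.filter (fun i => c i = j)).card) := by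
      rw [← h1]
      apply ideal_sum hp
      intro k _
      apply ideal_mul_right hp _ (ringOfInt hp (std_integral _))
      apply val_congr hM P hχ hdeg1
      exact Subgroup.pow_mem _ hv _
    have h4 : MemLocalIdeal M (((m * (Finset.univ.filter (fun i => c i = j)).card : ℕ)) : ℂ) := by
      push_cast; exact h3
    have h5 := (ideal_nat_iff hM).1 h4
    exact (Nat.Coprime.dvd_of_dvd_mul_left hcop.symm h5)
  -- all eigenvalues are trivial
  have hdet : ∏ i, (ZMod.stdAddChar (c i) : ℂ) = 1 := by
    rw [← det_eig (ρ v) b _ hb]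
    have h1 : CfsgLib.Extend.detHom ρ v = 1 := by
      have h2 : v ∈ commutator G := by rw [hperf]; exact Subgroup.mem_top v
      exact Abelianization.commutator_subset_ker (CfsgLib.Extend.detHom ρ) h2
    rw [← CfsgLib.Extend.detHom_apply, h1, Units.val_one]
  have hall : ∀ i, c i = 0 := by
    by_contra hcon
    push Not at hcon
    obtain ⟨i0, hi0⟩ := hcon
    set j := c i0 with hj
    have h1 : p ≤ (Finset.univ.filter (fun i => c i = j)).card :=
      Nat.le_of_dvd (Finset.card_pos.2 ⟨i0, by simp [hj]⟩) (hmult j hi0)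
    have h2 : ∀ i, c i ≠ 0 → c i = j := by
      intro i hi
      by_contra hij
      have h3 : p ≤ (Finset.univ.filter (fun i' => c i' = c i)).card :=
        Nat.le_of_dvd (Finset.card_pos.2 ⟨i, by simp⟩) (hmult (c i) hi)
      have h4 : Disjoint (Finset.univ.filter (fun i' => c i' = j)) (Finset.univ.filter (fun i' => c i' = c i)) := by
        rw [Finset.disjoint_left]
        intro i' h5 h6
        rw [Finset.mem_filter] at h5 h6
        exact hij (h6.2.symm.trans h5.2)
      have h5 := Finset.card_union_of_disjoint h4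
      have h6 := (Finset.card_le_univ (Finset.univ.filter (fun i' => c i' = j) ∪ Finset.univ.filter (fun i' => c i' = c i))).trans_eq hfin'
      omega
    have h3 : (Finset.univ.filter (fun i => c i = j)).card = p := by
      obtain ⟨d, hd⟩ := hmult j hi0
      have h6 := (Finset.card_le_univ (Finset.univ.filter (fun i' => c i' = j))).trans_eq hfin'
      rw [hd] at h1 h6 ⊢
      have h7 : d < 2 := by
        by_contra h8
        push Not at h8
        have := Nat.mul_le_mul_left p h8
        omega
      have h8 : d ≠ 0 := by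
        rintro rfl
        have := hpp.pos
        omega
      have : d = 1 := by omega
      rw [this, mul_one]
    have h4 : ∏ i, (ZMod.stdAddChar (c i) : ℂ) = (ZMod.stdAddChar j : ℂ) ^ p := by
      rw [← h3, ← Finset.prod_const, Finset.prod_filter]
      apply Finset.prod_congr rfl
      intro i _
      by_cases h5 : c i = 0
      · rw [h5, if_neg (fun h => hi0 h.symm), AddChar.map_zero_eq_one]
      · rw [if_pos (h2 i h5), h2 i h5]
    rw [hdet, stdAddChar_pow, ← AddChar.map_zero_eq_one (ZMod.stdAddChar (N := m))] at h4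
    have h5 := ZMod.injective_stdAddChar h4
    have h6 : IsUnit (p : ZMod m) := (ZMod.isUnit_iff_coprime p m).2 hcop.symm
    exact hi0 ((h6.mul_left_eq_zero).1 h5.symm)
  apply hfaith
  rw [hdeg1, ← hρχ]
  have h1 := char_zp ρ hb 1
  rw [zp_one hvm] at h1
  rw [h1, Finset.sum_congr rfl (fun i _ => by rw [hall i, zero_mul, AddChar.map_zero_eq_one]), Finset.sum_const, Finset.card_univ,
    hfin', nsmul_eq_mul, mul_one]

end CfsgLib.PerfB19
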