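import Mathlib
import Cfsg.Agent.EqBase
import Cfsg.Prelude.Def_Blocks
import Cfsg.Agent.LibPerfB19
import Cfsg.Agent.LibBlockDefect

set_option autoImplicit false
set_option maxHeartbeats 400000
set_option linter.unusedSectionVars false

/-! Defect of blocks with faithful characters of prime power degree (helper19) -/

namespace CfsgLib.DefB19

open Cfsg CfsgLib.BlockR CfsgLib.PerfB19

universe u
variable {G : Type u} [Group G] [Finite G] {p : ℕ} [Fact p.Prime] {M : Ideal AlgInt}

/-- elements of maximal norm are central for faithful characters -/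
theorem mem_center_of_norm {χ : IrrCharacter G} (hfaith : ∀ g : G, (χ : G → ℂ) g = (χ : G → ℂ) 1 → g = 1) {g : G}
    (h : ‖(χ : G → ℂ) g‖ = ((χ : G → ℂ) 1).re) : g ∈ Subgroup.center G := by
  obtain ⟨N, ρ, hρ, hρχ⟩ := χ.2
  rw [← hρχ] at h
  rw [Representation.char_one, Complex.natCast_re] at h
  obtain ⟨ω, hω⟩ := (CfsgLib.CharBasic.norm_character_eq_iff ρ g).1 h
  rw [Subgroup.mem_center_iff]
  intro x
  have h1 : ρ ((x * g) * (g * x)⁻¹) = 1 := by
    have h2 : ρ (x * g) = ρ (g * x) := by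
      rw [map_mul, map_mul, hω]
      ext v
      simp
    rw [map_mul, h2, ← map_mul, mul_inv_cancel, map_one]
  have h3 : (χ : G → ℂ) ((x * g) * (g * x)⁻¹) = (χ : G → ℂ) 1 := by
    rw [← hρχ, Representation.character, Representation.character, h1, ← map_one ρ]
  exact mul_inv_eq_one.1 (hfaith _ h3)

theorem val_zero (hZ : Subgroup.center G = ⊥) (P : Sylow p G) (χ : IrrCharacter G) (hfaith : ∀ g : G, (χ : G → ℂ) g = (χ : G → ℂ) 1 → g = 1)
    (n : ℕ) (hdeg : charDegree (χ : G → ℂ) = p ^ n) {z : G} (hz : z ∈ Subgroup.centralizer ((P : Subgroup G) : Set G)) (hz1 : z ≠ 1) :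
    (χ : G → ℂ) z = 0 := by
  have hpp : p.Prime := Fact.out
  have h1 := CfsgLib.CharInt.irr_one_eq_charDegree χ.2
  rcases CfsgLib.CharNorm.char_zero_or_norm_of_coprime χ.2 z _ h1 (by
    rw [hdeg]
    exact Nat.Coprime.pow_left n ((Nat.Prime.coprime_iff_not_dvd hpp).2 (index_not_dvd P hz))) with h | h
  · exact h
  · exfalso
    have := mem_center_of_norm hfaith h
    rw [hZ, Subgroup.mem_bot] at this
    exact hz1 this

theorem main (hM : IsPModular p M) (hZ : Subgroup.center G = ⊥) (P : Sylow p G) (b : ℕ)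
    (hb : Nat.card (Subgroup.center ↥(P : Subgroup G)) = p ^ b) (χ : IrrCharacter G)
    (hfaith : ∀ g : G, (χ : G → ℂ) g = (χ : G → ℂ) 1 → g = 1)
    (n : ℕ) (hdeg : charDegree (χ : G → ℂ) = p ^ n) {ψ : IrrCharacter G} (hψ : SameBlock M (χ : G → ℂ) (ψ : G → ℂ)) :
    b ≤ (charDegree (ψ : G → ℂ)).factorization p := by
  classical
  have hp := isPrime_of_modular hM
  have hpp : p.Prime := Fact.out
  let Z : Subgroup G := (Subgroup.center (P : Subgroup G)).map (P : Subgroup G).subtype
  letI := Fintype.ofFinite Z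
  have hZc : ∀ z ∈ Z, z ∈ Subgroup.centralizer ((P : Subgroup G) : Set G) := by
    rintro _ ⟨z, hz, rfl⟩
    rw [Subgroup.mem_centralizer_iff]
    intro x hx
    exact congrArg Subtype.val (Subgroup.mem_center_iff.1 hz ⟨x, hx⟩)
  have hcard : Nat.card Z = p ^ b := by
    rw [← hb]
    exact (Nat.card_congr ((Subgroup.center (P : Subgroup G)).equivMapOfInjective _ (P : Subgroup G).subtype_injective).toEquiv).symm
  have hd := CfsgLib.CharInt.irr_one_eq_charDegree ψ.2
  have hd0 := CfsgLib.CharInt.irr_one_ne_zero ψ.2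
  set d := charDegree (ψ : G → ℂ) with hdd
  rw [hd] at hd0
  have hval : ∀ z ∈ Z, z ≠ 1 → MemLocalIdeal M ((ψ : G → ℂ) z / d) := by
    intro z hz hz1
    have h1 := hψ z
    have h2 := index_not_dvd P (hZc z hz)
    unfold centralChar at h1
    rw [val_zero hZ P χ hfaith n hdeg (hZc z hz) hz1, mul_zero, zero_div, zero_sub, hd] at h1
    have h3 := ideal_mul_left hp (ring_inv_nat hM h2) (ideal_neg h1)
    have hh0 : ((Subgroup.centralizer ({z} : Set G)).index : ℂ) ≠ 0 := by
      exact_mod_cast Subgroup.index_ne_zero_of_finite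
    have h4 : ((Subgroup.centralizer ({z} : Set G)).index : ℂ)⁻¹ * - -(((Subgroup.centralizer ({z} : Set G)).index : ℂ) * (ψ : G → ℂ) z / d) =
        (ψ : G → ℂ) z / d := by
      field_simp
    rwa [h4] at h3
  -- the multiplicity of the trivial character
  obtain ⟨k, hk⟩ := CfsgLib.CharBasic.char_mult (CfsgLib.CharBasic.isCharacter_restrict (CfsgLib.CharBasic.irr_isCharacter ψ.2) Z)
    (CfsgLib.CharBasic.irr_isCharacter (CfsgLib.CharBasic.isIrrCharacter_hom (1 : Z →* ℂˣ)))
  have hZ0 : (Nat.card Z : ℂ) ≠ 0 := by exact_mod_cast Nat.card_pos.ne'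
  have hsum : ∑ z : Z, (ψ : G → ℂ) z = (Nat.card Z : ℂ) * k := by
    rw [← hk]
    unfold classInner
    rw [← mul_assoc, mul_inv_cancel₀ hZ0, one_mul]
    apply Finset.sum_congr rfl
    intro z _
    simp
  have h5 : ((Nat.card Z * k : ℕ) : ℂ) / d = 1 + ∑ z ∈ Finset.univ.erase (1 : Z), (ψ : G → ℂ) z / d := by
    rw [← Finset.sum_div, Nat.cast_mul, ← hsum, ← Finset.add_sum_erase _ _ (Finset.mem_univ (1 : Z)), add_div]
    congr 1
    change (ψ : G → ℂ) 1 / d = 1
    rw [hd, div_self hd0]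
  have h6 : MemLocalIdeal M (∑ z ∈ Finset.univ.erase (1 : Z), (ψ : G → ℂ) z / d) := by
    apply ideal_sum hp
    intro z hz
    exact hval z z.2 (fun h => (Finset.mem_erase.1 hz).1 (Subtype.ext h))
  have h7 : ¬ MemLocalIdeal M (((Nat.card Z * k : ℕ) : ℂ) / d) := by
    intro h
    rw [h5] at h
    have h8 := ideal_sub hp h h6
    rw [add_sub_cancel_right] at h8
    have h9 : MemLocalIdeal M ((1 : ℕ) : ℂ) := by rwa [Nat.cast_one]
    rw [ideal_nat_iff hM] at h9
    exact hpp.one_lt.ne' (Nat.dvd_one.1 h9)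
  have hdn : d ≠ 0 := by exact_mod_cast hd0
  have h8 : (Nat.card Z * k).factorization p ≤ d.factorization p := by
    by_contra hlt
    push Not at hlt
    exact h7 (CfsgLib.BlockDefect.ideal_div_nat hM hdn hlt)
  have hk0 : k ≠ 0 := by
    rintro rfl
    apply h7
    rw [mul_zero, Nat.cast_zero, zero_div]
    exact ideal_zero hp
  refine le_trans ?_ h8
  rw [hcard, Nat.factorization_mul (pow_ne_zero _ hpp.ne_zero) hk0, hpp.factorization_pow]
  simp

end CfsgLib.DefB19
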