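import Mathlib
import Cfsg.Agent.LibH13

set_option autoImplicit false

/-!
Burnside transfer for simple groups; a finite simple group with a group of (anti)automorphisms containing the
inner ones has an element whose stabilizer is not maximal. (helper13)
-/

namespace CfsgLib.DiagH13

open MulAction Subgroup Pointwise CfsgLib.H13

/-- Burnside transfer for nonabelian simple groups -/
theorem not_normalizer_le_centralizer {T : Type*} [Group T] [Finite T] [IsSimpleGroup T]
    (hT : ∃ a b : T, a * b ≠ b * a) (p : ℕ) [hp : Fact p.Prime] (P : Sylow p T) (hP : (P : Subgroup T) ≠ ⊥) :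
    ¬ normalizer ((P : Subgroup T) : Set T) ≤ centralizer ((P : Subgroup T) : Set T) := by
  intro h
  have hc := MonoidHom.ker_transferSylow_isComplement' P h
  rcases IsSimpleGroup.eq_bot_or_eq_top_of_normal (MonoidHom.transferSylow P h).ker inferInstance with h1 | h1
  · rw [h1] at hc
    have h2 : (P : Subgroup T) = ⊤ := isComplement'_bot_left.mp hc
    have h3 : IsPGroup p T := by
      have := P.isPGroup'
      rw [h2] at this
      exact this.of_equiv topEquiv
    have hnt : Nontrivial T := inferInstance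
    have h4 : Nontrivial (center T) := h3.center_nontrivial
    rcases IsSimpleGroup.eq_bot_or_eq_top_of_normal (center T) inferInstance with h5 | h5
    · exact (nontrivial_iff_ne_bot _).mp h4 h5
    · obtain ⟨a, b, hab⟩ := hT
      apply hab
      have : b ∈ center T := by rw [h5]; exact mem_top b
      exact (mem_center_iff.mp this a)
  · rw [h1] at hc
    exact hP (isComplement'_top_left.mp hc)

theorem center_eq_bot {T : Type*} [Group T] [IsSimpleGroup T]
    (hT : ∃ a b : T, a * b ≠ b * a) : center T = ⊥ := by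
  rcases IsSimpleGroup.eq_bot_or_eq_top_of_normal (center T) inferInstance with h5 | h5
  · exact h5
  · obtain ⟨a, b, hab⟩ := hT
    exfalso
    apply hab
    have : b ∈ center T := by rw [h5]; exact mem_top b
    exact (mem_center_iff.mp this a)

section
variable {T : Type*} [Group T] {H : Type*} [Group H] [MulAction H T]
  (haut : ∀ h : H, (∀ s t : T, h • (s * t) = (h • s) * (h • t)) ∨ (∀ s t : T, h • (s * t) = (h • t) * (h • s)))
include haut

theorem smul_one' (h : H) : h • (1 : T) = 1 := by
  rcases haut h with h1 | h1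
  · have := h1 1 1
    rw [mul_one] at this
    exact left_eq_mul.mp this
  · have := h1 1 1
    rw [mul_one] at this
    exact left_eq_mul.mp this

theorem commute_smul (h : H) {s t : T} (hst : s * t = t * s) : (h • s) * (h • t) = (h • t) * (h • s) := by
  rcases haut h with h1 | h1
  · rw [← h1, ← h1, hst]
  · rw [← h1, ← h1, hst]

theorem smul_mul' (h : H) {s t : T} (hst : s * t = t * s) : h • (s * t) = (h • s) * (h • t) := by
  rcases haut h with h1 | h1
  · exact h1 s t
  · rw [hst, h1]

theorem smul_inv' (h : H) (s : T) : h • s⁻¹ = (h • s)⁻¹ := by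
  have h1 := smul_mul' haut h (s := s) (t := s⁻¹) (by simp)
  rw [mul_inv_cancel, smul_one' haut] at h1
  exact (inv_eq_of_mul_eq_one_right h1.symm).symm

theorem smul_pow' (h : H) (s : T) (k : ℕ) : h • (s ^ k) = (h • s) ^ k := by
  induction k with
  | zero => rw [pow_zero, pow_zero, smul_one' haut]
  | succ k ih =>
    rw [pow_succ, pow_succ, smul_mul' haut h (by rw [← pow_succ, ← pow_succ']), ih]

theorem stab_pow_le (t : T) (k : ℕ) : stabilizer H t ≤ stabilizer H (t ^ k) := by
  intro h hh
  have hh' : h • t = t := hh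
  rw [mem_stabilizer_iff, smul_pow' haut, hh']

variable (hmax : ∀ t : T, t ≠ 1 → IsCoatom (stabilizer H t))
include hmax

omit haut in
theorem stab_eq {s t : T} (hs : s ≠ 1) (ht : t ≠ 1) (h : stabilizer H t ≤ stabilizer H s) :
    stabilizer H s = stabilizer H t := by
  rcases (hmax t ht).le_iff.mp h with h1 | h1
  · exact absurd h1 (hmax s hs).1
  · exact h1

theorem stab_pow {t : T} {k : ℕ} (ht : t ^ k ≠ 1) : stabilizer H (t ^ k) = stabilizer H t := by
  apply stab_eq hmax ht _ (stab_pow_le haut t k)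
  rintro rfl
  exact ht (one_pow k)

theorem stab_of_pow {s t : T} (hs : s ≠ 1) (hst : s * t = t * s) (k : ℕ) (h1 : s ^ k = 1) (h2 : t ^ k ≠ 1) :
    stabilizer H s = stabilizer H t := by
  have h3 : (t * s) ^ k = t ^ k := by
    have : Commute t s := hst.symm
    rw [this.mul_pow, h1, mul_one]
  have h4 := stab_pow haut hmax h2
  have h5 := stab_pow haut hmax (t := t * s) (k := k) (by rw [h3]; exact h2)
  rw [h3, h4] at h5
  have ht1 : t ≠ 1 := by rintro rfl; exact h2 (one_pow k)
  apply stab_eq hmax hs ht1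
  intro h hh
  have hh' : h • t = t := hh
  rw [h5] at hh
  have hh2 : h • (t * s) = t * s := hh
  rw [smul_mul' haut h hst.symm, hh'] at hh2
  exact mul_left_cancel hh2

theorem prime_of_ne {s t : T} (hs : s ≠ 1) (ht : t ≠ 1) (hst : s * t = t * s)
    (hne : stabilizer H s ≠ stabilizer H t) (hfin : IsOfFinOrder t) : orderOf s = orderOf t ∧ (orderOf t).Prime := by
  have key : ∀ {s t : T}, s ≠ 1 → t ≠ 1 → s * t = t * s → stabilizer H s ≠ stabilizer H t → orderOf s = orderOf t := by
    intro s t hs ht hst hne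
    apply Nat.dvd_antisymm
    · rw [orderOf_dvd_iff_pow_eq_one]
      by_contra hcon
      exact hne (stab_of_pow haut hmax ht hst.symm _ (pow_orderOf_eq_one t) hcon).symm
    · rw [orderOf_dvd_iff_pow_eq_one]
      by_contra hcon
      exact hne (stab_of_pow haut hmax hs hst _ (pow_orderOf_eq_one s) hcon)
  refine ⟨key hs ht hst hne, ?_⟩
  have h1 : orderOf t ≠ 1 := by rw [Ne, orderOf_eq_one_iff]; exact ht
  have hpos : 0 < orderOf t := hfin.orderOf_pos
  obtain ⟨p, hp, hpd⟩ := Nat.exists_prime_and_dvd h1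
  obtain ⟨c, hc⟩ := hpd
  by_cases h2 : t ^ p = 1
  · have h3 := orderOf_dvd_of_pow_eq_one h2
    rcases (Nat.dvd_prime hp).mp h3 with h4 | h4
    · exact absurd h4 h1
    · rw [h4]; exact hp
  · exfalso
    have h3 := stab_pow haut hmax h2
    have h4 := key hs h2 (by
      have : Commute s t := hst
      exact (this.pow_right p)) (by rw [h3]; exact hne)
    rw [key hs ht hst hne] at h4
    have h5 : orderOf (t ^ p) ∣ c := by
      rw [orderOf_dvd_iff_pow_eq_one, ← pow_mul, ← hc]
      exact pow_orderOf_eq_one t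
    rw [← h4, hc] at h5
    have hc0 : 0 < c := by
      rcases Nat.eq_zero_or_pos c with h0 | h0
      · rw [h0, mul_zero] at hc; omega
      · exact h0
    have h6 := Nat.le_of_dvd hc0 h5
    have h7 := hp.two_le
    nlinarith

end

section
variable {T : Type*} [Group T] [Finite T] {H : Type*} [Group H] [MulAction H T]
  (haut : ∀ h : H, (∀ s t : T, h • (s * t) = (h • s) * (h • t)) ∨ (∀ s t : T, h • (s * t) = (h • t) * (h • s)))
  (hinn : ∀ x : T, ∃ h : H, ∀ t : T, h • t = x * t * x⁻¹)
  (hmax : ∀ t : T, t ≠ 1 → IsCoatom (stabilizer H t))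
include haut hinn hmax

omit [Finite T] haut hmax in
theorem cent_eq {s t : T} (h : stabilizer H s = stabilizer H t) :
    centralizer ({s} : Set T) = centralizer ({t} : Set T) := by
  ext x
  obtain ⟨g, hg⟩ := hinn x
  have key : ∀ u : T, x ∈ centralizer ({u} : Set T) ↔ g ∈ stabilizer H u := by
    intro u
    rw [mem_centralizer_singleton_iff, mem_stabilizer_iff, hg]
    constructor
    · intro h; rw [h, mul_inv_cancel_right]
    · intro h; rw [mul_inv_eq_iff_eq_mul] at h; exact h
  rw [key s, key t, h]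

omit [Finite T] haut hinn hmax in
theorem not_cent_normal [IsSimpleGroup T] (hT : ∃ a b : T, a * b ≠ b * a) {t : T} (ht : t ≠ 1) :
    ¬ (centralizer ({t} : Set T)).Normal := by
  intro hn
  rcases IsSimpleGroup.eq_bot_or_eq_top_of_normal _ hn with h | h
  · apply ht
    rw [← mem_bot, ← h, mem_centralizer_singleton_iff]
  · apply ht
    rw [← mem_bot, ← center_eq_bot hT, mem_center_iff]
    intro g
    have : g ∈ centralizer ({t} : Set T) := by rw [h]; exact mem_top g
    exact (mem_centralizer_singleton_iff.mp this)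

omit [Finite T] in
theorem self_normalizing [IsSimpleGroup T] (hT : ∃ a b : T, a * b ≠ b * a) {t : T} (ht : t ≠ 1) :
    normalizer ((centralizer ({t} : Set T) : Subgroup T) : Set T) = centralizer ({t} : Set T) := by
  apply le_antisymm _ le_normalizer
  intro x hx
  -- the stabilizer of the centralizer in H
  let L : Subgroup H :=
    { carrier := {h | ∀ u : T, u ∈ centralizer ({t} : Set T) ↔ h • u ∈ centralizer ({t} : Set T)}
      one_mem' := by intro u; rw [one_smul]
      mul_mem' := by
        intro a b ha hb u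
        rw [mul_smul, ← ha, ← hb]
      inv_mem' := by
        intro a ha u
        rw [ha (a⁻¹ • u), smul_inv_smul] }
  have hle : stabilizer H t ≤ L := by
    have key : ∀ h ∈ stabilizer H t, ∀ u : T, u ∈ centralizer ({t} : Set T) → h • u ∈ centralizer ({t} : Set T) := by
      intro h hh u hu
      have hh' : h • t = t := hh
      rw [mem_centralizer_singleton_iff] at hu ⊢
      have := commute_smul haut h hu
      rwa [hh'] at this
    intro h hh u
    refine ⟨key h hh u, fun hu => ?_⟩
    have := key h⁻¹ (inv_mem hh) _ hu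
    rwa [inv_smul_smul] at this
  have hinnL : ∀ y : T, y ∈ normalizer ((centralizer ({t} : Set T) : Subgroup T) : Set T) →
      ∀ g : H, (∀ t : T, g • t = y * t * y⁻¹) → g ∈ L := by
    intro y hy g hg u
    rw [hg]
    rw [mem_normalizer_iff] at hy
    exact hy u
  rcases (hmax t ht).le_iff.mp hle with h1 | h1
  · exfalso
    apply not_cent_normal hT ht
    refine ⟨fun u hu y => ?_⟩
    obtain ⟨g, hg⟩ := hinn y
    have : g ∈ L := by rw [h1]; exact mem_top g
    have h2 := (this u).mp hu
    rwa [hg] at h2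
  · obtain ⟨g, hg⟩ := hinn x
    have h2 := hinnL x hx g hg
    rw [h1] at h2
    have h3 : g • t = t := h2
    rw [mem_centralizer_singleton_iff]
    rw [hg, mul_inv_eq_iff_eq_mul] at h3
    exact h3

theorem case_one [IsSimpleGroup T] (hT : ∃ a b : T, a * b ≠ b * a) {t : T} (ht : t ≠ 1)
    (h : ∀ s ∈ centralizer ({t} : Set T), s ≠ 1 → stabilizer H s = stabilizer H t) : False := by
  have hE : ∀ s ∈ centralizer ({t} : Set T), s ≠ 1 → centralizer ({s} : Set T) = centralizer ({t} : Set T) :=
    fun s hs hs1 => cent_eq hinn (h s hs hs1)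
  have hab : ∀ s ∈ centralizer ({t} : Set T), ∀ s' ∈ centralizer ({t} : Set T), s * s' = s' * s := by
    intro s hs s' hs'
    by_cases h1 : s = 1
    · rw [h1, one_mul, mul_one]
    · rw [← hE s hs h1, mem_centralizer_singleton_iff] at hs'
      exact hs'.symm
  have h1 : orderOf t ≠ 1 := by rw [Ne, orderOf_eq_one_iff]; exact ht
  obtain ⟨p, hp, hpd⟩ := Nat.exists_prime_and_dvd h1
  have hF : Fact p.Prime := ⟨hp⟩
  obtain ⟨c, hc⟩ := hpd
  have htpos : 0 < orderOf t := orderOf_pos t
  have hcpos : 0 < c := by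
    rcases Nat.eq_zero_or_pos c with h0 | h0
    · rw [h0, mul_zero] at hc; omega
    · exact h0
  obtain ⟨x, hx⟩ : ∃ x, x = t ^ c := ⟨_, rfl⟩
  have hxo : orderOf x = p := by
    rw [hx, orderOf_pow, hc, Nat.gcd_mul_left_left, Nat.mul_div_cancel _ hcpos]
  have hx1 : x ≠ 1 := by
    intro h; rw [h, orderOf_one] at hxo; exact hp.one_lt.ne hxo
  have hxE : x ∈ centralizer ({t} : Set T) := by
    rw [hx, mem_centralizer_singleton_iff, ← pow_succ, ← pow_succ']
  have hzp : IsPGroup p (zpowers x) := by
    rw [IsPGroup.iff_card]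
    exact ⟨1, by rw [Nat.card_zpowers, hxo, pow_one]⟩
  obtain ⟨P, hP⟩ := hzp.exists_le_sylow
  have hxP : x ∈ (P : Subgroup T) := hP (mem_zpowers x)
  have hPnt : Nontrivial P := ⟨⟨⟨x, hxP⟩, 1, fun h => hx1 (congrArg Subtype.val h)⟩⟩
  have hZ : Nontrivial (center P) := P.isPGroup'.center_nontrivial
  obtain ⟨⟨z, hz⟩, hz0⟩ := exists_ne (1 : center P)
  have hz1 : (z : T) ≠ 1 := by
    intro hc; apply hz0; exact Subtype.ext (Subtype.ext hc)
  have hzc : ∀ y ∈ (P : Subgroup T), y * z = z * y := by
    intro y hy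
    have := mem_center_iff.mp hz ⟨y, hy⟩
    exact congrArg Subtype.val this
  have hzE : (z : T) ∈ centralizer ({t} : Set T) := by
    rw [← hE x hxE hx1, mem_centralizer_singleton_iff]
    exact (hzc x hxP).symm
  have hPE : (P : Subgroup T) ≤ centralizer ({t} : Set T) := by
    intro y hy
    rw [← hE z hzE hz1, mem_centralizer_singleton_iff]
    exact hzc y hy
  apply not_normalizer_le_centralizer hT p P (by
    intro hbot
    apply hx1
    rw [hbot] at hxP
    exact mem_bot.mp hxP)
  intro g hg
  have hgE : g ∈ normalizer ((centralizer ({t} : Set T) : Subgroup T) : Set T) := by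
    rw [mem_normalizer_iff] at hg
    have h2 : g * x * g⁻¹ ∈ centralizer ({t} : Set T) := hPE ((hg x).mp hxP)
    have h3 : g * x * g⁻¹ ≠ 1 := by
      intro h; apply hx1
      rw [mul_inv_eq_one, mul_eq_left] at h
      exact h
    have h4 := hE _ h2 h3
    rw [mem_normalizer_iff]
    intro u
    have e1 : u ∈ centralizer ({t} : Set T) ↔ u * x = x * u := by
      rw [← hE x hxE hx1, mem_centralizer_singleton_iff]
    have e2 : g * u * g⁻¹ ∈ centralizer ({t} : Set T) ↔
        g * u * g⁻¹ * (g * x * g⁻¹) = g * x * g⁻¹ * (g * u * g⁻¹) := by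
      rw [← h4, mem_centralizer_singleton_iff]
    change u ∈ centralizer ({t} : Set T) ↔ g * u * g⁻¹ ∈ centralizer ({t} : Set T)
    rw [e1, e2]
    constructor
    · intro h5
      calc g * u * g⁻¹ * (g * x * g⁻¹) = g * (u * x) * g⁻¹ := by group
        _ = g * (x * u) * g⁻¹ := by rw [h5]
        _ = g * x * g⁻¹ * (g * u * g⁻¹) := by group
    · intro h5
      calc u * x = g⁻¹ * (g * u * g⁻¹ * (g * x * g⁻¹)) * g := by group
        _ = g⁻¹ * (g * x * g⁻¹ * (g * u * g⁻¹)) * g := by rw [h5]
        _ = x * u := by group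
  rw [self_normalizing haut hinn hmax hT ht] at hgE
  rw [mem_centralizer_iff]
  intro y hy
  exact hab y (hPE hy) g hgE

/-- in the second case all centralizers are `p`-groups -/
theorem case_two_pgroup {t : T} (ht : t ≠ 1)
    (h : ∃ s ∈ centralizer ({t} : Set T), s ≠ 1 ∧ stabilizer H s ≠ stabilizer H t) :
    (orderOf t).Prime ∧ ∀ s ∈ centralizer ({t} : Set T), s ≠ 1 → orderOf s = orderOf t := by
  obtain ⟨s, hs, hs1, hs2⟩ := h
  have hs' := mem_centralizer_singleton_iff.mp hs
  obtain ⟨h1, h2⟩ := prime_of_ne haut hmax hs1 ht hs' hs2 (isOfFinOrder_of_finite t)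
  refine ⟨h2, fun u hu hu1 => ?_⟩
  have hu' := mem_centralizer_singleton_iff.mp hu
  by_cases h3 : stabilizer H u = stabilizer H t
  · have h4 : s ∈ centralizer ({u} : Set T) := by rw [cent_eq hinn h3]; exact hs
    have h4' := mem_centralizer_singleton_iff.mp h4
    obtain ⟨h5, -⟩ := prime_of_ne haut hmax hs1 hu1 h4' (by rw [h3]; exact hs2) (isOfFinOrder_of_finite u)
    rw [← h5, h1]
  · exact (prime_of_ne haut hmax hu1 ht hu' h3 (isOfFinOrder_of_finite t)).1

theorem isPGroup_cent {t : T} (ht : t ≠ 1)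
    (h : ∃ s ∈ centralizer ({t} : Set T), s ≠ 1 ∧ stabilizer H s ≠ stabilizer H t) :
    IsPGroup (orderOf t) (centralizer ({t} : Set T)) := by
  obtain ⟨h1, h2⟩ := case_two_pgroup haut hinn hmax ht h
  rintro ⟨s, hs⟩
  refine ⟨1, ?_⟩
  rw [pow_one]
  by_cases hs1 : s = 1
  · subst hs1
    exact one_pow _
  · have := h2 s hs hs1
    apply Subtype.ext
    change s ^ orderOf t = 1
    rw [← this]
    exact pow_orderOf_eq_one s

/-- every nontrivial Sylow subgroup is the centralizer of one of its elements -/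
theorem sylow_eq_cent (h : ∀ t : T, t ≠ 1 → ∃ s ∈ centralizer ({t} : Set T), s ≠ 1 ∧ stabilizer H s ≠ stabilizer H t)
    (p : ℕ) [hp : Fact p.Prime] (P : Sylow p T) (hP : (P : Subgroup T) ≠ ⊥) :
    ∃ z : T, z ≠ 1 ∧ z ∈ (P : Subgroup T) ∧ (P : Subgroup T) = centralizer ({z} : Set T) := by
  have hPnt : Nontrivial P := (nontrivial_iff_ne_bot _).mpr hP
  have hZ : Nontrivial (center P) := P.isPGroup'.center_nontrivial
  obtain ⟨⟨z, hz⟩, hz0⟩ := exists_ne (1 : center P)
  have hz1 : (z : T) ≠ 1 := by
    intro hc; apply hz0; exact Subtype.ext (Subtype.ext hc)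
  have hzc : ∀ y ∈ (P : Subgroup T), y * z = z * y := by
    intro y hy
    have := mem_center_iff.mp hz ⟨y, hy⟩
    exact congrArg Subtype.val this
  refine ⟨z, hz1, z.2, ?_⟩
  have h1 : (P : Subgroup T) ≤ centralizer ({(z : T)} : Set T) := by
    intro y hy
    rw [mem_centralizer_singleton_iff]
    exact hzc y hy
  have h2 := isPGroup_cent haut hinn hmax hz1 (h z hz1)
  have h3 := (case_two_pgroup haut hinn hmax hz1 (h z hz1)).1
  have h4 : orderOf (z : T) = p := by
    obtain ⟨k, hk⟩ := (IsPGroup.iff_orderOf.mp P.isPGroup') z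
    have h5 : orderOf (z : T) = p ^ k := by rw [← hk, orderOf_coe]
    rw [h5] at h3
    have h6 : k = 1 := by
      rcases k with _ | _ | k
      · rw [pow_zero] at h3; exact absurd h3 Nat.not_prime_one
      · rfl
      · exact absurd h3 (Nat.Prime.not_prime_pow (by omega))
    rw [h5, h6, pow_one]
  rw [h4] at h2
  exact (P.3 h2 h1).symm

theorem sylow_normalizer [IsSimpleGroup T] (hT : ∃ a b : T, a * b ≠ b * a)
    (h : ∀ t : T, t ≠ 1 → ∃ s ∈ centralizer ({t} : Set T), s ≠ 1 ∧ stabilizer H s ≠ stabilizer H t)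
    (p : ℕ) [hp : Fact p.Prime] (P : Sylow p T) (hP : (P : Subgroup T) ≠ ⊥) :
    normalizer ((P : Subgroup T) : Set T) = P := by
  obtain ⟨z, hz, -, hPz⟩ := sylow_eq_cent haut hinn hmax h p P hP
  rw [hPz]
  exact self_normalizing haut hinn hmax hT hz

/-- the centre of a nontrivial Sylow subgroup has index at least `p ^ 2`. -/
theorem card_center_mul [IsSimpleGroup T] (hT : ∃ a b : T, a * b ≠ b * a)
    (h : ∀ t : T, t ≠ 1 → ∃ s ∈ centralizer ({t} : Set T), s ≠ 1 ∧ stabilizer H s ≠ stabilizer H t)
    (p : ℕ) [hp : Fact p.Prime] (P : Sylow p T) (hP : (P : Subgroup T) ≠ ⊥) :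
    p ^ 2 * Nat.card (center P) ≤ Nat.card P := by
  have h1 := (center P).index_mul_card
  rw [← h1]
  apply Nat.mul_le_mul_right
  obtain ⟨k, hk⟩ := P.isPGroup'.index (center P)
  rw [hk]
  have hk2 : 2 ≤ k := by
    by_contra hcon
    have hcyc : IsCyclic (P ⧸ center P) := by
      rcases k with _ | _ | k
      · have : Nat.card (P ⧸ center P) = 1 := by
          have : (center P).index = Nat.card (P ⧸ center P) := rfl
          rw [← this, hk, pow_zero]
        have := (Nat.card_eq_one_iff_unique.mp this).1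
        exact isCyclic_of_subsingleton
      · have : Nat.card (P ⧸ center P) = p := by
          have : (center P).index = Nat.card (P ⧸ center P) := rfl
          rw [← this, hk, zero_add, pow_one]
        exact isCyclic_of_prime_card this
      · omega
    have hcomm' : IsMulCommutative P :=
      MonoidHom.isMulCommutative_of_isCyclic_of_ker_le_center (QuotientGroup.mk' (center P))
        (le_of_eq (QuotientGroup.ker_mk' _))
    have hcomm : ∀ a b : P, a * b = b * a := fun a b => hcomm'.is_comm.comm a b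
    apply not_normalizer_le_centralizer hT p P hP
    rw [sylow_normalizer haut hinn hmax hT h p P hP]
    intro g hg
    rw [mem_centralizer_iff]
    intro y hy
    exact congrArg Subtype.val (hcomm ⟨y, hy⟩ ⟨g, hg⟩)
  exact Nat.pow_le_pow_right hp.out.pos hk2

/-- each element of prime order lies in the centre of a Sylow subgroup -/
theorem exists_sylow_center [IsSimpleGroup T] (hT : ∃ a b : T, a * b ≠ b * a)
    (h : ∀ t : T, t ≠ 1 → ∃ s ∈ centralizer ({t} : Set T), s ≠ 1 ∧ stabilizer H s ≠ stabilizer H t)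
    (p : ℕ) [hp : Fact p.Prime] (t : T) (ht : orderOf t = p) :
    ∃ P : Sylow p T, ∃ x : center P, ((x : P) : T) = t := by
  have ht1 : t ≠ 1 := by
    rintro rfl; rw [orderOf_one] at ht; exact hp.out.one_lt.ne ht
  have h1 := isPGroup_cent haut hinn hmax ht1 (h t ht1)
  rw [ht] at h1
  obtain ⟨P, hP⟩ := h1.exists_le_sylow
  have htC : t ∈ centralizer ({t} : Set T) := by rw [mem_centralizer_singleton_iff]
  have hK : (centralizer ({t} : Set T)).subgroupOf (P : Subgroup T) = ⊤ := by
    by_contra hcon
    have hnil : Group.IsNilpotent P := P.isPGroup'.isNilpotent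
    have h2 := Group.normalizerCondition_of_isNilpotent (G := P) _ (lt_top_iff_ne_top.mpr hcon)
    obtain ⟨x, hx1, hx2⟩ := SetLike.exists_of_lt h2
    apply hx2
    rw [mem_subgroupOf, ← self_normalizing haut hinn hmax hT ht1, mem_normalizer_iff]
    rw [mem_normalizer_iff] at hx1
    intro u
    constructor
    · intro hu
      exact mem_subgroupOf.mp ((hx1 ⟨u, hP hu⟩).mp (mem_subgroupOf.mpr hu))
    · intro hu
      have huP : u ∈ (P : Subgroup T) := by
        have h3 := mul_mem (mul_mem (inv_mem x.2) (hP hu)) x.2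
        have e : (x : T)⁻¹ * (x * u * (x : T)⁻¹) * x = u := by group
        rwa [e] at h3
      exact mem_subgroupOf.mp ((hx1 ⟨u, huP⟩).mpr (mem_subgroupOf.mpr hu))
  refine ⟨P, ⟨⟨t, hP htC⟩, ?_⟩, rfl⟩
  rw [mem_center_iff]
  intro g
  have hg : g ∈ (centralizer ({t} : Set T)).subgroupOf (P : Subgroup T) := by rw [hK]; exact mem_top g
  have := mem_centralizer_singleton_iff.mp (mem_subgroupOf.mp hg)
  exact Subtype.ext this

theorem card_orderOf_le [IsSimpleGroup T] (hT : ∃ a b : T, a * b ≠ b * a)
    (h : ∀ t : T, t ≠ 1 → ∃ s ∈ centralizer ({t} : Set T), s ≠ 1 ∧ stabilizer H s ≠ stabilizer H t)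
    (p : ℕ) [hp : Fact p.Prime] (hpT : p ∣ Nat.card T) :
    p ^ 2 * Nat.card {t : T // orderOf t = p} ≤ Nat.card T := by
  classical
  have := Fintype.ofFinite (Sylow p T)
  have hS : ∀ P : Sylow p T, (P : Subgroup T) ≠ ⊥ := by
    intro P hP
    apply P.not_dvd_index
    rw [hP, index_bot]; exact hpT
  choose P x hx using fun t : {t : T // orderOf t = p} => exists_sylow_center haut hinn hmax hT h p t.1 t.2
  have h1 : Nat.card {t : T // orderOf t = p} ≤ Nat.card (Σ P : Sylow p T, center P) := by
    apply Nat.card_le_card_of_injective (fun t => (⟨P t, x t⟩ : Σ P : Sylow p T, center P))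
    intro t t' htt
    have : ((x t : P t) : T) = ((x t' : P t') : T) := by
      have h2 := congrArg (fun y : Σ P : Sylow p T, center P => ((y.2 : y.1) : T)) htt
      exact h2
    rw [hx, hx] at this
    exact Subtype.ext this
  obtain ⟨P0⟩ := (inferInstance : Nonempty (Sylow p T))
  rw [Nat.card_sigma] at h1
  calc p ^ 2 * Nat.card {t : T // orderOf t = p} ≤ p ^ 2 * ∑ P : Sylow p T, Nat.card (center P) :=
        Nat.mul_le_mul_left _ h1
    _ = ∑ P : Sylow p T, p ^ 2 * Nat.card (center P) := Finset.mul_sum _ _ _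
    _ ≤ ∑ P : Sylow p T, Nat.card P0 := by
        apply Finset.sum_le_sum
        intro P _
        have h2 := card_center_mul haut hinn hmax hT h p P (hS P)
        rwa [P.card_eq_multiplicity, ← P0.card_eq_multiplicity] at h2
    _ = Nat.card T := by
        have hN : normalizer (P0 : Set T) = P0 := sylow_normalizer haut hinn hmax hT h p P0 (hS P0)
        rw [Finset.sum_const, smul_eq_mul, Finset.card_univ, ← Nat.card_eq_fintype_card,
          P0.card_eq_index_normalizer, hN]
        exact index_mul_card _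

/-- the second case is impossible by counting -/
theorem case_two [IsSimpleGroup T] (hT : ∃ a b : T, a * b ≠ b * a)
    (h : ∀ t : T, t ≠ 1 → ∃ s ∈ centralizer ({t} : Set T), s ≠ 1 ∧ stabilizer H s ≠ stabilizer H t) : False := by
  classical
  have := Fintype.ofFinite T
  set n := Nat.card T with hn
  have hn2 : 2 ≤ n := by
    have : Nontrivial T := inferInstance
    rw [hn]
    exact Finite.one_lt_card
  -- all nontrivial elements have prime order
  have h1 : (Finset.univ.erase (1 : T)) ⊆ n.primeFactors.biUnion (fun p => Finset.univ.filter (fun t : T => orderOf t = p)) := by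
    intro t ht
    have ht1 : t ≠ 1 := Finset.ne_of_mem_erase ht
    rw [Finset.mem_biUnion]
    have h2 := (case_two_pgroup haut hinn hmax ht1 (h t ht1)).1
    refine ⟨orderOf t, ?_, ?_⟩
    · rw [Nat.mem_primeFactors]
      exact ⟨h2, orderOf_dvd_natCard t, by omega⟩
    · rw [Finset.mem_filter]; exact ⟨Finset.mem_univ _, rfl⟩
  have h2 := (Finset.card_le_card h1).trans Finset.card_biUnion_le
  rw [Finset.card_erase_of_mem (Finset.mem_univ _), Finset.card_univ, ← Nat.card_eq_fintype_card, ← hn] at h2
  have h3 : ∀ p ∈ n.primeFactors, ((Finset.univ.filter (fun t : T => orderOf t = p)).card : ℚ) ≤ n * (1 / (p : ℚ) ^ 2) := by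
    intro p hp
    rw [Nat.mem_primeFactors] at hp
    have hF : Fact p.Prime := ⟨hp.1⟩
    have h4 := card_orderOf_le haut hinn hmax hT h p hp.2.1
    rw [Nat.card_eq_fintype_card, Fintype.card_subtype, ← hn] at h4
    have hp0 : (0 : ℚ) < p := by exact_mod_cast hp.1.pos
    rw [mul_one_div, le_div_iff₀ (by positivity), mul_comm]
    exact_mod_cast h4
  have h5 : ((n - 1 : ℕ) : ℚ) ≤ ∑ p ∈ n.primeFactors, (n : ℚ) * (1 / (p : ℚ) ^ 2) := by
    refine le_trans ?_ (Finset.sum_le_sum h3)
    exact_mod_cast h2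
  have h6 : ∑ p ∈ n.primeFactors, (n : ℚ) * (1 / (p : ℚ) ^ 2) ≤ ∑ p ∈ Finset.Icc 2 n, (n : ℚ) * (1 / (p : ℚ) ^ 2) := by
    apply Finset.sum_le_sum_of_subset_of_nonneg
    · intro p hp
      rw [Nat.mem_primeFactors] at hp
      rw [Finset.mem_Icc]
      exact ⟨hp.1.two_le, Nat.le_of_dvd (by omega) hp.2.1⟩
    · intro p _ _
      positivity
  have h7 : ∀ m : ℕ, 2 ≤ m → ∑ p ∈ Finset.Icc 2 m, (1 / (p : ℚ) ^ 2) < (1 : ℚ) - 1 / (m : ℚ) := by
    intro m hm
    induction m, hm using Nat.le_induction with
    | base => norm_num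
    | succ m hm ih =>
      rw [Finset.sum_Icc_succ_top (by omega)]
      have hm0 : (0 : ℚ) < m := by exact_mod_cast (by omega : 0 < m)
      have h8 : 1 / ((m + 1 : ℕ) : ℚ) ^ 2 ≤ 1 / (m : ℚ) - 1 / ((m + 1 : ℕ) : ℚ) := by
        push_cast
        rw [div_sub_div _ _ (by positivity) (by positivity), div_le_div_iff₀ (by positivity) (by positivity)]
        nlinarith
      linarith
  rw [← Finset.mul_sum] at h5
  rw [← Finset.mul_sum, ← Finset.mul_sum] at h6
  have h8 := h7 n hn2
  have hn0 : (0 : ℚ) < n := by exact_mod_cast (by omega : 0 < n)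
  have h9 : (n : ℚ) * ∑ p ∈ Finset.Icc 2 n, (1 / (p : ℚ) ^ 2) < n * (1 - 1 / n) := mul_lt_mul_of_pos_left h8 hn0
  have h10 : (n : ℚ) * (1 - 1 / n) = n - 1 := by field_simp
  rw [h10] at h9
  have h11 : ((n - 1 : ℕ) : ℚ) = n - 1 := by
    rw [Nat.cast_sub (by omega)]; norm_num
  rw [h11] at h5
  linarith

/-- A finite nonabelian simple group `T` acted on by a group of automorphisms and antiautomorphisms containing the
inner automorphisms has an element `≠ 1` whose stabilizer is not maximal. -/
theorem diag_false [IsSimpleGroup T] (hT : ∃ a b : T, a * b ≠ b * a) : False := by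
  by_cases h : ∀ t : T, t ≠ 1 → ∃ s ∈ centralizer ({t} : Set T), s ≠ 1 ∧ stabilizer H s ≠ stabilizer H t
  · exact case_two haut hinn hmax hT h
  · push Not at h
    obtain ⟨t, ht, h⟩ := h
    exact case_one haut hinn hmax hT ht h

end

end CfsgLib.DiagH13
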