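import Cfsg.Agent.LibDkZ29

set_option autoImplicit false

/-! Numerical comparison of subfield subgroups. -/

namespace CfsgLib.Dk29

theorem sq_sub (q : ℕ) (h : 1 ≤ q) : (q - 1) * (q + 1) = q ^ 2 - 1 := by
  obtain ⟨c, hc⟩ : ∃ c, q = c + 1 := ⟨q - 1, by omega⟩
  rw [hc, Nat.add_sub_cancel]
  have : (c + 1) ^ 2 = c * (c + 1 + 1) + 1 := by ring
  omega

theorem sub_eq {p Q r k m : ℕ} (hp : p.Prime) (b : ℕ) (hb : 0 < b) (hQ : Q = p ^ b) (hkm : k ^ m = Q ^ r) (hm : 2 ≤ m) (hr : r.Prime)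
    (h : (Q - 1) * (Q + 1) ∣ 2 * (k * ((k - 1) * (k + 1)))) : k = Q := by
  obtain ⟨a, ha, ham⟩ := exp_of_pow hp b hQ hkm (by omega)
  have hQ1 : 1 ≤ Q := by rw [hQ]; exact Nat.one_le_pow _ _ hp.pos
  have hk1 : 1 ≤ k := by rw [ha]; exact Nat.one_le_pow _ _ hp.pos
  rw [sq_sub Q hQ1, sq_sub k hk1, hQ, ha, ← pow_mul, ← pow_mul, mul_comm b 2, mul_comm a 2, show 2 * (p ^ a * (p ^ (2 * a) - 1)) = p ^ a * (2 * (p ^ (2 * a) - 1)) by ring] at h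
  have hcop : Nat.Coprime (p ^ (2 * b) - 1) (p ^ a) := by
    apply Nat.Coprime.pow_right
    rw [Nat.coprime_comm, hp.coprime_iff_not_dvd]
    intro h1
    have h2 : p ∣ p ^ (2 * b) := dvd_pow_self _ (by omega)
    have h3 : 1 ≤ p ^ (2 * b) := Nat.one_le_pow _ _ hp.pos
    have h4 := (Nat.dvd_sub h2 h1)
    rw [Nat.sub_sub_self h3] at h4
    exact hp.one_lt.ne' (Nat.dvd_one.mp h4)
  have h1 := sub_num p a b m r hp hb ham hr hm (hcop.dvd_of_dvd_mul_left h)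
  rw [ha, hQ, h1]

end CfsgLib.Dk29
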