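import Cfsg.Agent.LibDkAA29

set_option autoImplicit false

/-! Both tori together with the covering property. -/

namespace CfsgLib.Dk29

open MulAction Matrix OnePoint
open scoped MatrixGroups

/-- `LL` is doubly transitive. -/
theorem LL_two {F : Type*} [Field F] [DecidableEq F] (x y : OnePoint F) (hxy : x ≠ y) :
    ∃ g ∈ LL F, g • x = ∞ ∧ g • y = ((0 : F) : OnePoint F) := by
  obtain ⟨h, hh, hx⟩ := LL_trans x
  have hy : h⁻¹ • y ≠ (∞ : OnePoint F) := by
    intro h1
    rw [inv_smul_eq_iff] at h1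
    rw [h1, hx] at hxy
    exact hxy rfl
  obtain ⟨b, hb⟩ : ∃ b : F, h⁻¹ • y = (b : OnePoint F) := by
    cases h2 : h⁻¹ • y with
    | infty => exact absurd h2 hy
    | coe b => exact ⟨b, rfl⟩
  obtain ⟨u, hu, hu1, -, hu2⟩ := LL_transl (F := F) (-b)
  refine ⟨u * h⁻¹, mul_mem hu (inv_mem hh), ?_, ?_⟩
  · rw [mul_smul, ← hx, inv_smul_smul, hu1]
  · rw [mul_smul, hb, hu2, add_neg_cancel]

/-- The two tori and their covering property. -/
structure Tori (F : Type*) [Field F] [Fintype F] [DecidableEq F] {G : Type*} [Group G] (f : G →* PGL(2, F)) (d : ℕ)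
    (T₁ N₁ T₂ N₂ : Subgroup G) : Prop where
  d1 : d ∣ Fintype.card F - 1
  d2 : d ∣ Fintype.card F + 1
  card1 : Nat.card T₁ = (Fintype.card F - 1) / d
  data1 : 2 ≤ (Fintype.card F - 1) / d → TorusData F f ((Fintype.card F - 1) / d) T₁ N₁
  two2 : 2 ≤ (Fintype.card F + 1) / d
  data2 : TorusData F f ((Fintype.card F + 1) / d) T₂ N₂
  cover : ∀ g : G, g ≠ 1 → (∃ x : OnePoint F, f g • x = x ∧ chiU x (f g) = 1) ∨ (∃ h, h * g * h⁻¹ ∈ T₁) ∨ (∃ h, h * g * h⁻¹ ∈ T₂)

theorem exists_tori {F : Type*} [Field F] [Fintype F] [DecidableEq F] {G : Type*} [Group G] [Finite G] (f : G →* PGL(2, F)) (hf : Function.Injective f)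
    (hL : LL F ≤ f.range) (d : ℕ) (hc : d * Nat.card G = Fintype.card F * ((Fintype.card F - 1) * (Fintype.card F + 1))) :
    ∃ T₁ N₁ T₂ N₂ : Subgroup G, Tori F f d T₁ N₁ T₂ N₂ := by
  classical
  let K := AlgebraicClosure F
  letI : MulAction G (OnePoint K) := MulAction.compHom _ ((ProjGenLinGroup.map (algebraMap F K)).comp f)
  let M : Mob G (OnePoint K) K := (mob (K := K)).comp ((ProjGenLinGroup.map (algebraMap F K)).comp f) ((map_injective' (algebraMap F K)).comp hf)
  have hφ : ∀ (h : G) (p : OnePoint K), h • p = ProjGenLinGroup.map (algebraMap F K) (f h) • p := fun h p => rfl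
  have hχ : ∀ (x : OnePoint K) (h : G), M.χ x h = chiU x (ProjGenLinGroup.map (algebraMap F K) (f h)) := fun x h => rfl
  clear_value M
  have hq1 : 1 < Fintype.card F := Fintype.one_lt_card
  have hq := q_infty M f hf hφ hχ hL
  have hk := k_infty M f hφ hL
  obtain ⟨y, hqy, hny, hyO, hcov, hky⟩ := M.second_orbit (∞ : OnePoint K) (by omega) (by omega)
  rw [hq, hk] at hky
  have hky' : M.k y = Fintype.card F * (Fintype.card F - 1) := by
    obtain ⟨a, ha⟩ : ∃ a, Fintype.card F = a + 1 := ⟨Fintype.card F - 1, by omega⟩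
    rw [ha] at hky ⊢
    rw [Nat.add_sub_cancel]
    nlinarith
  have hdn : d * M.n y = Fintype.card F + 1 := by
    have h1 := M.k_mul_n y
    rw [← h1, hky'] at hc
    have h2 : 0 < Fintype.card F * (Fintype.card F - 1) := Nat.mul_pos (by omega) (by omega)
    apply Nat.eq_of_mul_eq_mul_left h2
    calc Fintype.card F * (Fintype.card F - 1) * (d * M.n y) = d * (Fintype.card F * (Fintype.card F - 1) * M.n y) := by ring
      _ = _ := by rw [hc]; ring
  have hd0 : 0 < d := by
    rcases Nat.eq_zero_or_pos d with h | h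
    · rw [h, zero_mul] at hdn; omega
    · exact h
  have hn : M.n y = (Fintype.card F + 1) / d := by
    rw [← hdn, Nat.mul_div_cancel_left _ hd0]
  have hyr : y ∉ Set.range (OnePoint.map (algebraMap F K)) := by
    rw [← orbit_infty f hφ hL]; exact hyO
  have hrat : ∀ z, z ∉ orbit G y → 2 ≤ M.n z → ∀ g : G, g • z = z → g • y = y → g = 1 := by
    intro z hz hnz g hgz hgy
    have h1 := (hcov z hnz).resolve_right hz
    rw [orbit_infty f hφ hL] at h1
    exact no_common M f hφ y hyr z h1 g hgz hgy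
  obtain ⟨y', h, hyy', hhy, hhy', hst⟩ := M.exists_partner y hqy hny hrat
  have hinf : (stabilizer G y ⊓ stabilizer G y' : Subgroup G) = stabilizer G y := by
    rw [← hst, inf_idem]
  have hcT : Nat.card (stabilizer G y ⊓ stabilizer G y' : Subgroup G) = (Fintype.card F + 1) / d := by
    rw [hinf]; exact hn
  obtain ⟨hdih, hcN⟩ := M.NT_dihedral y y' hyy' h hhy hhy' (by rw [hinf]; exact hny)
  rw [hcT] at hdih hcN
  have hnf : ∀ t ∈ stabilizer G y, t ≠ 1 → ∀ x : OnePoint F, f t • x ≠ x := by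
    intro t ht ht1 x hx
    apply ht1
    apply no_common M f hφ y hyr (OnePoint.map (algebraMap F K) x) ⟨x, rfl⟩ t _ ht
    rw [smul_rat f hφ, hx]
  -- the split torus
  have hnI := n_infty M f d hf hφ hL hc
  have h0O : ((0 : K) : OnePoint K) ∈ orbit G (∞ : OnePoint K) := by
    rw [orbit_infty f hφ hL]
    exact ⟨((0 : F) : OnePoint F), by rw [OnePoint.map_some, map_zero]⟩
  have hne : (∞ : OnePoint K) ≠ ((0 : K) : OnePoint K) := OnePoint.infty_ne_coe _
  have hT := M.card_T ∞ ((0 : K) : OnePoint K) hne h0O (by rw [hq, hk])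
  have hdT : d * Nat.card (stabilizer G (∞ : OnePoint K) ⊓ stabilizer G ((0 : K) : OnePoint K) : Subgroup G) = Fintype.card F - 1 := by
    rw [hq] at hT
    rw [← hT] at hnI
    apply Nat.eq_of_mul_eq_mul_left (show 0 < Fintype.card F by omega)
    rw [← hnI]; ring
  have hcT1 : Nat.card (stabilizer G (∞ : OnePoint K) ⊓ stabilizer G ((0 : K) : OnePoint K) : Subgroup G) = (Fintype.card F - 1) / d := by
    rw [← hdT, Nat.mul_div_cancel_left _ hd0]
  obtain ⟨w, hw, hw1, hw2⟩ := LL_weyl (F := F)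
  obtain ⟨w, rfl⟩ := hL hw
  have hw1' : w • (∞ : OnePoint K) = ((0 : K) : OnePoint K) := by
    rw [show (∞ : OnePoint K) = OnePoint.map (algebraMap F K) ∞ from rfl, smul_rat f hφ, hw1, OnePoint.map_some, map_zero]
  have hw2' : w • ((0 : K) : OnePoint K) = (∞ : OnePoint K) := by
    rw [show ((0 : K) : OnePoint K) = OnePoint.map (algebraMap F K) ((0 : F) : OnePoint F) by rw [OnePoint.map_some, map_zero], smul_rat f hφ, hw2]; rfl
  refine ⟨(stabilizer G (∞ : OnePoint K) ⊓ stabilizer G ((0 : K) : OnePoint K) : Subgroup G), Mob.NT (H := G) (∞ : OnePoint K) ((0 : K) : OnePoint K),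
    stabilizer G y, Mob.NT (H := G) y y', ⟨⟨_, hdT.symm⟩, ⟨M.n y, hdn.symm⟩, hcT1,
    fun h2 => ⟨?_, M.cyclic_two _ _ hne, hcT1, ?_, ?_, ?_, ?_⟩, by rw [← hn]; exact hny, ⟨?_, M.cyclic_stab y (M.U_bot y hqy), hn, hcN, fun _ => hdih, ?_, ?_⟩, ?_⟩⟩
  · intro t ht; exact Or.inl ht
  · rw [← hcT1]; exact (M.NT_dihedral _ _ hne w hw1' hw2' (by rw [hcT1]; exact h2)).2
  · intro _
    rw [← hcT1]; exact (M.NT_dihedral _ _ hne w hw1' hw2' (by rw [hcT1]; exact h2)).1
  · intro _ x hx
    have hwx := hx w (Or.inr ⟨hw1', hw2'⟩)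
    obtain ⟨t, ht⟩ : ∃ t : (stabilizer G (∞ : OnePoint K) ⊓ stabilizer G ((0 : K) : OnePoint K) : Subgroup G), t ≠ 1 := by
      haveI : Nontrivial (stabilizer G (∞ : OnePoint K) ⊓ stabilizer G ((0 : K) : OnePoint K) : Subgroup G) := by
        rw [← Finite.one_lt_card_iff_nontrivial, hcT1]; omega
      exact exists_ne 1
    have htx := hx t (Or.inl t.2)
    have hx1 : OnePoint.map (algebraMap F K) x ≠ ∞ := by
      intro h
      have h3 : w • OnePoint.map (algebraMap F K) x = OnePoint.map (algebraMap F K) x := by rw [smul_rat f hφ, hwx]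
      rw [h, hw1'] at h3
      exact hne h3.symm
    have hx2 : OnePoint.map (algebraMap F K) x ≠ ((0 : K) : OnePoint K) := by
      intro h
      have h3 : w • OnePoint.map (algebraMap F K) x = OnePoint.map (algebraMap F K) x := by rw [smul_rat f hφ, hwx]
      rw [h, hw2'] at h3
      exact hne h3
    apply ht
    apply Subtype.ext
    exact M.three t ∞ ((0 : K) : OnePoint K) (OnePoint.map (algebraMap F K) x) hne hx1.symm hx2.symm t.2.1 t.2.2 (by rw [smul_rat f hφ, htx])
  · intro t ht ht1 g hg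
    exact M.mem_NT_of_conj _ _ hne t g ht1 ht.1 ht.2 hg.1 hg.2
  · intro t ht
    exact Or.inl ⟨ht, hst.le ht⟩
  · intro _ x hx
    obtain ⟨c, hc', hcy⟩ := (M.n_ge_two_iff y).mp hny
    exact hnf c hcy hc' x (hx c (Or.inl ⟨hcy, hst.le hcy⟩))
  · intro t ht ht1 g hg
    exact M.mem_NT_of_conj y y' hyy' t g ht1 ht (hst.le ht) hg (hst.le hg)
  · -- covering
    intro g hg1
    by_cases hr : ∃ x : OnePoint F, f g • x = x
    · obtain ⟨x, hx⟩ := hr
      by_cases hch : chiU x (f g) = 1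
      · exact Or.inl ⟨x, hx, hch⟩
      · right; left
        obtain ⟨z, hzx, hz⟩ : ∃ z, z ≠ x ∧ f g • z = z := by
          obtain ⟨g0, hg0⟩ := exists_rep (f g)
          rw [← hg0, mk_smul'] at hx
          have h1 := chiU_mk hx
          rw [hg0] at h1
          obtain ⟨z, hz1, hz2⟩ := exists_other_fixed g0 x hx (by
            rw [← h1]
            intro h2
            exact hch (Units.ext h2))
          exact ⟨z, hz1, by rw [← hg0, mk_smul']; exact hz2⟩
        obtain ⟨u, hu, hux, huz⟩ := LL_two x z hzx.symm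
        obtain ⟨u, rfl⟩ := hL hu
        refine ⟨u, ?_⟩
        have hux' : u⁻¹ • (∞ : OnePoint K) = OnePoint.map (algebraMap F K) x := by
          rw [inv_smul_eq_iff, smul_rat f hφ, hux]; rfl
        have huz' : u⁻¹ • ((0 : K) : OnePoint K) = OnePoint.map (algebraMap F K) z := by
          rw [inv_smul_eq_iff, smul_rat f hφ, huz, OnePoint.map_some, map_zero]
        constructor
        · show (u * g * u⁻¹) • (∞ : OnePoint K) = ∞
          rw [mul_smul, mul_smul, hux', smul_rat f hφ, hx, ← hux', smul_inv_smul]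
        · show (u * g * u⁻¹) • ((0 : K) : OnePoint K) = ((0 : K) : OnePoint K)
          rw [mul_smul, mul_smul, huz', smul_rat f hφ, hz, ← huz', smul_inv_smul]
    · right; right
      obtain ⟨z, hz⟩ := M.fix g
      have hz2 : 2 ≤ M.n z := (M.n_ge_two_iff z).mpr ⟨g, hg1, hz⟩
      rcases hcov z hz2 with h3 | h3
      · exfalso
        rw [orbit_infty f hφ hL] at h3
        obtain ⟨x, rfl⟩ := h3
        rw [smul_rat f hφ] at hz
        exact hr ⟨x, map_pt_injective (algebraMap F K) hz⟩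
      · obtain ⟨u, hu⟩ := h3
        refine ⟨u⁻¹, ?_⟩
        show (u⁻¹ * g * u⁻¹⁻¹) • y = y
        change u • y = z at hu
        rw [inv_inv, mul_smul, mul_smul, hu, hz, ← hu, inv_smul_smul]

section sing
variable {H Ω K : Type*} [Group H] [MulAction H Ω] [Field K] (M : Mob H Ω K)
namespace Mob

/-- refined form of the singular case -/
theorem singular' [Finite H] (x : Ω) (hq : 2 ≤ M.q x) :
    (∃ x : Ω, ∀ h : H, h • x = x) ∨ (∃ x, M.q x = 1 ∧ 2 ≤ M.n x ∧ M.k x = 2) ∨
    (M.q x = 3 ∧ (Nonempty (H ≃* alternatingGroup (Fin 4)) ∨ Nonempty (H ≃* Equiv.Perm (Fin 4)) ∨ Nonempty (H ≃* alternatingGroup (Fin 5)))) ∨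
    (∃ x, 4 ≤ M.q x ∧ M.k x = M.q x + 1 ∧ (M.n x = M.q x * (M.q x - 1) ∨ 2 * M.n x = M.q x * (M.q x - 1))) := by
  by_cases hq3 : M.q x = 3
  · rcases M.singular x hq with h | h | h | h | h | h
    · exact Or.inl h
    · exact Or.inr (Or.inl h)
    · exact Or.inr (Or.inr (Or.inl ⟨hq3, Or.inl h⟩))
    · exact Or.inr (Or.inr (Or.inl ⟨hq3, Or.inr (Or.inl h)⟩))
    · exact Or.inr (Or.inr (Or.inl ⟨hq3, Or.inr (Or.inr h)⟩))
    · exact Or.inr (Or.inr (Or.inr h))
  · have hn : 2 ≤ M.n x := le_trans hq (Nat.le_of_dvd (M.n_pos x) (M.q_dvd_n x))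
    have hkx := M.k_pos x
    have hN := M.k_mul_n x
    by_cases hk1 : M.k x = 1
    · exact Or.inl ⟨x, M.fixed_of_k x hk1⟩
    obtain ⟨y, hq1, hy, hxy, hcov, hky2⟩ := M.second_orbit x hq hk1
    obtain ⟨e, he⟩ := M.q_dvd_n x
    obtain ⟨j, hj⟩ := M.q_dvd x
    have hkj : M.k x = 1 + M.q x * j := by omega
    have hNy := M.k_mul_n y
    obtain ⟨d, hd⟩ : e ∣ M.q x - 1 := by
      have h2 := M.n_dvd x
      rw [he] at h2
      exact Nat.dvd_of_mul_dvd_mul_left (M.q_pos x) h2
    have heq : (1 + (M.q x - 2) * j) * M.n y = (1 + M.q x * j) * e := by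
      obtain ⟨t, ht⟩ : ∃ t, M.q x = t + 2 := ⟨M.q x - 2, by omega⟩
      have h3 : M.k y = M.q x * (1 + (M.q x - 2) * j) := by
        rw [ht, Nat.add_sub_cancel]
        rw [hkj, ht] at hky2
        have e1 : (1 + (t + 2) * j) * (t + 2) + 2 = (t + 2) * (1 + t * j) + 2 * (1 + (t + 2) * j) := by ring
        omega
      have h4 : M.q x * ((1 + (M.q x - 2) * j) * M.n y) = M.q x * ((1 + M.q x * j) * e) := by
        rw [← mul_assoc, ← h3, hNy, ← hN, he, hkj]; ring
      exact Nat.eq_of_mul_eq_mul_left (M.q_pos x) h4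
    have hj0 : 0 < j := by
      rcases Nat.eq_zero_or_pos j with hj0 | hj0
      · rw [hj0, mul_zero, add_zero] at hkj; omega
      · exact hj0
    rcases arith (M.q x) e j (M.n y) d hq hd.symm hj0 heq with ⟨h2, h3, h4⟩ | ⟨h2, h3, h4, h5⟩ | ⟨h2, h3, h4, h5⟩ | ⟨h2, h3, h4, h5⟩ | ⟨h2, h3, h4⟩
    · right; left
      refine ⟨y, hq1, hy, ?_⟩
      rw [h2] at hky2
      omega
    · exact absurd h2 hq3
    · exact absurd h2 hq3
    · exact absurd h2 hq3
    · right; right; right
      refine ⟨x, h2, by rw [hkj, h3]; ring, ?_⟩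
      rcases h4 with h4 | h4
      · left; rw [he, h4]
      · right; rw [he, ← h4]; ring

end Mob
end sing

/-- Dickson for groups of order divisible by the characteristic `p ≠ 3`. -/
theorem dickson_p {F : Type*} [Field F] [Fintype F] [DecidableEq F] (p : ℕ) [hp : Fact p.Prime] [CharP F p] {H : Type*} [Group H] [Finite H] (f : H →* PGL(2, F)) (hf : Function.Injective f)
    (d : ℕ) (hd : DCond F d (Set.range f)) (hpd : p ∣ Nat.card H) (hp3 : p ≠ 3) :
    (∃ n, 2 ≤ n ∧ (n ∣ (Fintype.card F - 1) / d ∨ n ∣ (Fintype.card F + 1) / d) ∧ Nonempty (H ≃* DihedralGroup n)) ∨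
    (∃ x : OnePoint F, ∀ h : H, f h • x = x) ∨
    (∃ k : Subfield F, 4 ≤ Nat.card k ∧ (∃ g : PGL(2, F), ∀ h : H, g * f h * g⁻¹ ∈ (ProjGenLinGroup.map (n := Fin 2) k.subtype).range) ∧
    (Nat.card H = Nat.card k * ((Nat.card k - 1) * (Nat.card k + 1)) ∨ (Odd (Nat.card k) ∧ 2 * Nat.card H = Nat.card k * ((Nat.card k - 1) * (Nat.card k + 1))))) := by
  classical
  let K := AlgebraicClosure F
  letI : MulAction H (OnePoint K) := MulAction.compHom _ ((ProjGenLinGroup.map (algebraMap F K)).comp f)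
  let M : Mob H (OnePoint K) K := (mob (K := K)).comp ((ProjGenLinGroup.map (algebraMap F K)).comp f) ((map_injective' (algebraMap F K)).comp hf)
  have hφ : ∀ (h : H) (p : OnePoint K), h • p = ProjGenLinGroup.map (algebraMap F K) (f h) • p := fun h p => rfl
  have hχ : ∀ (x : OnePoint K) (h : H), M.χ x h = chiU x (ProjGenLinGroup.map (algebraMap F K) (f h)) := fun x h => rfl
  clear_value M
  haveI : CharP K p := charP_of_injective_algebraMap (FaithfulSMul.algebraMap_injective F K) p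
  obtain ⟨u, hu⟩ := exists_prime_orderOf_dvd_card' p hpd
  have hu1 : u ≠ 1 := by intro h; rw [h, orderOf_one] at hu; exact hp.out.one_lt.ne hu
  obtain ⟨x0, hx0⟩ := M.fix u
  have hchi : M.χ x0 u = 1 := by
    have h1 : M.chi x0 ⟨u, hx0⟩ ^ p = 1 := by
      rw [← map_pow]
      have : (⟨u, hx0⟩ : stabilizer H x0) ^ p = 1 := by
        apply Subtype.ext
        show u ^ p = 1
        rw [← hu, pow_orderOf_eq_one]
      rw [this, map_one]
    rw [M.chi_apply] at h1
    have h2 : ((M.χ x0 u : Kˣ) : K) ^ p = 1 := by rw [← Units.val_pow_eq_pow_val, h1, Units.val_one]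
    apply Units.ext
    have h3 : ((M.χ x0 u : Kˣ) : K) ^ p = 1 ^ p := by rw [h2, one_pow]
    exact frobenius_inj K p h3
  have huU : u ∈ M.U x0 := (M.mem_U x0 u).mpr ⟨hx0, hchi⟩
  have hq0 : 2 ≤ M.q x0 := by
    unfold Mob.q
    have : Nontrivial (M.U x0) := ⟨⟨⟨u, huU⟩, 1, fun h => hu1 (congrArg Subtype.val h)⟩⟩
    exact Finite.one_lt_card_iff_nontrivial.mpr this
  rcases M.singular' x0 hq0 with ⟨x, hx⟩ | ⟨x, hq, hn, hk⟩ | ⟨h3, -⟩ | ⟨x, hq, hk, hn⟩
  · right; left
    have hxx : x = x0 := by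
      by_contra hne
      exact M.smul_ne x0 x u huU hu1 hne (hx u)
    rw [hxx] at hx
    obtain ⟨x1, hx1⟩ := rational_x M f hφ x0 hq0
    refine ⟨x1, fun h => ?_⟩
    apply map_pt_injective (algebraMap F K)
    rw [map_smul', hx1, ← hφ]; exact hx h
  · left
    exact ⟨M.n x, hn, n_cond M f hφ hχ d hd x (M.U_bot x hq), M.dihedral x hq hn hk⟩
  · exfalso
    -- every element of `U x0` has order dividing `p`
    have h4 : ∀ v : M.U x0, v ^ p = 1 := by
      intro v
      apply Subtype.ext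
      apply hf
      apply map_injective' (algebraMap F K)
      rw [Subgroup.coe_pow, map_pow, map_pow, Subgroup.coe_one, map_one, map_one]
      have h5 := (M.mem_U x0 v).mp v.2
      rw [hφ, hχ] at h5
      exact pow_char p _ x0 h5.1 h5.2
    have h5 : Nat.card (M.U x0) = 3 := h3
    obtain ⟨v, hv⟩ := exists_prime_orderOf_dvd_card' (G := M.U x0) 3 (by rw [h5])
    have h6 : 3 ∣ p := by rw [← hv]; exact orderOf_dvd_of_pow_eq_one (h4 v)
    exact hp3 ((Nat.prime_dvd_prime_iff_eq Nat.prime_three hp.out).mp h6).symm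
  · right; right
    obtain ⟨k, hkc, g, hg⟩ := subfield_case M f hφ hχ x (by omega) hk (by rcases hn with h | h <;> omega)
    refine ⟨k, by rw [hkc]; exact hq, ⟨g, hg⟩, ?_⟩
    rw [hkc]
    have hN := M.k_mul_n x
    rw [hk] at hN
    rcases hn with h | h
    · left; rw [← hN, h]; ring
    · right
      refine ⟨?_, ?_⟩
      · obtain ⟨e, he⟩ := M.q_dvd_n x
        rw [he] at h
        have h2 : 2 * e = M.q x - 1 := by
          apply Nat.eq_of_mul_eq_mul_left (M.q_pos x)
          rw [← h]; ring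
        exact ⟨e, by omega⟩
      · rw [← hN]
        calc 2 * ((M.q x + 1) * M.n x) = (M.q x + 1) * (2 * M.n x) := by ring
          _ = _ := by rw [h]; ring

end CfsgLib.Dk29
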