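import Cfsg.Agent.LibDkBB29

set_option autoImplicit false

/-! Tools for classifying maximal subgroups. -/

namespace CfsgLib.Dk29

open MulAction Matrix OnePoint
open scoped MatrixGroups

section torus
variable {F : Type*} [Field F] [Fintype F] [DecidableEq F] {G : Type*} [Group G] [Finite G]

theorem TorusData.conj {f : G →* PGL(2, F)} {n : ℕ} {T N : Subgroup G} (h : TorusData F f n T N) (c : G) :
    TorusData F f n (T.map (MulAut.conj c).toMonoidHom) (N.map (MulAut.conj c).toMonoidHom) := by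
  have hinj : Function.Injective (MulAut.conj c).toMonoidHom := (MulAut.conj c).injective
  refine ⟨Subgroup.map_mono h.le, ?_, ?_, ?_, ?_, ?_, ?_⟩
  · have e := T.equivMapOfInjective _ hinj
    haveI := h.cyc
    exact isCyclic_of_surjective e e.surjective
  · rw [Subgroup.card_map_of_injective hinj, h.card]
  · rw [Subgroup.card_map_of_injective hinj, h.cardN]
  · intro hn
    obtain ⟨e⟩ := h.dih hn
    exact ⟨(N.equivMapOfInjective _ hinj).symm.trans e⟩
  · intro hn x hx
    apply h.nofix hn (f c⁻¹ • x)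
    intro g hg
    have h1 := hx (c * g * c⁻¹) (Subgroup.mem_map_of_mem _ hg)
    rw [map_mul, map_mul, mul_smul, mul_smul] at h1
    calc f g • f c⁻¹ • x = f c⁻¹ • (f c • f g • f c⁻¹ • x) := by rw [← mul_smul (f c⁻¹), ← map_mul, inv_mul_cancel, map_one, one_smul]
      _ = _ := by rw [h1]
  · intro t ht ht1 g hg
    rw [mem_conj_map] at ht hg ⊢
    refine h.norm _ ht ?_ _ ?_
    · intro h1
      apply ht1
      calc t = c * (c⁻¹ * t * c) * c⁻¹ := by group
        _ = 1 := by rw [h1]; group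
    · have : c⁻¹ * g * c * (c⁻¹ * t * c) * (c⁻¹ * g * c)⁻¹ = c⁻¹ * (g * t * g⁻¹) * c := by group
      rw [this]; exact hg

/-- elements of torus order lie in a torus -/
theorem mem_torus {f : G →* PGL(2, F)} (hf : Function.Injective f) {d : ℕ} {T₁ N₁ T₂ N₂ : Subgroup G} (hT : Tori F f d T₁ N₁ T₂ N₂)
    (t : G) (ht1 : t ≠ 1) (ht : orderOf t ∣ (Fintype.card F - 1) / d ∨ orderOf t ∣ (Fintype.card F + 1) / d) :
    ∃ (T N : Subgroup G) (n : ℕ), ((2 ≤ (Fintype.card F - 1) / d ∧ n = (Fintype.card F - 1) / d) ∨ n = (Fintype.card F + 1) / d) ∧ TorusData F f n T N ∧ 2 ≤ n ∧ t ∈ T := by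
  obtain ⟨p, hp⟩ := CharP.exists F
  haveI := Fact.mk (CharP.char_is_prime F p)
  have hq1 : 1 < Fintype.card F := Fintype.one_lt_card
  have hpF : p ∣ Fintype.card F := by
    obtain ⟨n, -, hn⟩ := FiniteField.card F p
    rw [hn]; exact dvd_pow_self p n.pos.ne'
  rcases hT.cover t ht1 with ⟨x, hx, hch⟩ | ⟨h, hh⟩ | ⟨h, hh⟩
  · exfalso
    have h1 : t ^ p = 1 := by
      apply hf
      rw [map_pow, map_one]
      exact pow_char p _ x hx hch
    have h2 : orderOf t ∣ p := orderOf_dvd_of_pow_eq_one h1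
    have h3 : orderOf t = p := (Nat.dvd_prime (Fact.out : p.Prime)).mp h2 |>.resolve_left (fun h => ht1 (orderOf_eq_one_iff.mp h))
    have hp1 : ¬ p ∣ 1 := (Fact.out : p.Prime).one_lt.ne' ∘ Nat.dvd_one.mp
    rw [h3] at ht
    rcases ht with ht | ht
    · have h4 : p ∣ Fintype.card F - 1 := ht.trans (Nat.div_dvd_of_dvd hT.d1)
      apply hp1
      have := (Nat.dvd_sub hpF h4)
      rwa [show Fintype.card F - (Fintype.card F - 1) = 1 by omega] at this
    · have h4 : p ∣ Fintype.card F + 1 := ht.trans (Nat.div_dvd_of_dvd hT.d2)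
      exact hp1 ((Nat.dvd_add_right hpF).mp h4)
  · have h2 : 2 ≤ (Fintype.card F - 1) / d := by
      rw [← hT.card1]
      have : Nontrivial T₁ := ⟨⟨⟨_, hh⟩, 1, fun h4 => ht1 (by
        have h5 : h * t * h⁻¹ = 1 := congrArg Subtype.val h4
        calc t = h⁻¹ * (h * t * h⁻¹) * h := by group
          _ = 1 := by rw [h5]; group)⟩⟩
      exact Finite.one_lt_card_iff_nontrivial.mpr this
    refine ⟨_, _, _, Or.inl ⟨h2, rfl⟩, (hT.data1 h2).conj h⁻¹, h2, ?_⟩
    rw [mem_conj_map, inv_inv]; exact hh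
  · refine ⟨_, _, _, Or.inr rfl, hT.data2.conj h⁻¹, hT.two2, ?_⟩
    rw [mem_conj_map, inv_inv]; exact hh

/-- a maximal subgroup is not cyclic of torus order -/
theorem not_max_cyc {f : G →* PGL(2, F)} (hf : Function.Injective f) {d : ℕ} {T₁ N₁ T₂ N₂ : Subgroup G} (hT : Tori F f d T₁ N₁ T₂ N₂)
    (hG1 : 2 * ((Fintype.card F + 1) / d) < Nat.card G) (M : Subgroup G) (hM : IsCoatom M)
    (hc : IsCyclic M) (hd : Nat.card M ∣ (Fintype.card F - 1) / d ∨ Nat.card M ∣ (Fintype.card F + 1) / d) : False := by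
  have hle : (Fintype.card F - 1) / d ≤ (Fintype.card F + 1) / d := Nat.div_le_div_right (by omega)
  by_cases hb : M = ⊥
  · have h1 : T₂ ≠ ⊥ := by
      intro h
      have h2 := hT.data2.card
      rw [h, Subgroup.card_bot] at h2
      have := hT.two2
      omega
    have h2 : T₂ ≠ ⊤ := by
      intro h
      have h2 := hT.data2.card
      rw [h, Subgroup.card_top] at h2
      omega
    apply h2
    apply hM.2
    rw [hb]; exact bot_lt_iff_ne_bot.mpr h1
  obtain ⟨⟨t, ht⟩, hgen⟩ := hc.exists_generator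
  have ho : orderOf t = Nat.card M := by
    rw [← Subgroup.orderOf_mk (a := t) (ha := ht)]
    exact orderOf_eq_card_of_forall_mem_zpowers hgen
  have ht1 : t ≠ 1 := by
    rintro rfl
    rw [orderOf_one] at ho
    exact hb (Subgroup.card_eq_one.mp ho.symm)
  obtain ⟨T, N, n, hn, hTN, hn2, htT⟩ := mem_torus hf hT t ht1 (by rw [ho]; exact hd)
  have hMT : M ≤ T := by
    intro x hx
    obtain ⟨k, hk⟩ := hgen ⟨x, hx⟩
    have h1 : t ^ k = x := congrArg Subtype.val hk
    rw [← h1]; exact T.zpow_mem htT k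
  have hlt : T < N := by
    refine lt_of_le_of_ne hTN.le ?_
    intro h
    have h1 := hTN.card
    have h2 := hTN.cardN
    rw [h, h2] at h1
    omega
  have h1 : N = ⊤ := hM.2 _ (lt_of_le_of_lt hMT hlt)
  have h2 := hTN.cardN
  rw [h1, Subgroup.card_top] at h2
  rcases hn with hn | hn
  · omega
  · omega

/-- a maximal dihedral subgroup is a torus normalizer -/
theorem max_dih {f : G →* PGL(2, F)} (hf : Function.Injective f) {d : ℕ} {T₁ N₁ T₂ N₂ : Subgroup G} (hT : Tori F f d T₁ N₁ T₂ N₂)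
    (hG1 : 2 * ((Fintype.card F + 1) / d) < Nat.card G) (M : Subgroup G) (hM : IsCoatom M) (m : ℕ) (hm : 3 ≤ m)
    (hd : m ∣ (Fintype.card F - 1) / d ∨ m ∣ (Fintype.card F + 1) / d) (e : M ≃* DihedralGroup m) :
    (2 ≤ (Fintype.card F - 1) / d ∧ m = (Fintype.card F - 1) / d) ∨ m = (Fintype.card F + 1) / d := by
  have hle : (Fintype.card F - 1) / d ≤ (Fintype.card F + 1) / d := Nat.div_le_div_right (by omega)
  haveI : NeZero m := ⟨by omega⟩
  let t : M := e.symm (DihedralGroup.r 1)
  have ho : orderOf (t : G) = m := by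
    rw [Subgroup.orderOf_coe, MulEquiv.orderOf_eq, DihedralGroup.orderOf_r_one]
  have ht1 : (t : G) ≠ 1 := by
    intro h; rw [h, orderOf_one] at ho; omega
  obtain ⟨T, N, n, hn, hTN, hn2, htT⟩ := mem_torus hf hT t ht1 (by rw [ho]; exact hd)
  have hMN : M ≤ N := by
    intro g hg
    apply hTN.norm _ htT ht1
    have h1 : (⟨g, hg⟩ : M) * t * (⟨g, hg⟩ : M)⁻¹ = t ∨ (⟨g, hg⟩ : M) * t * (⟨g, hg⟩ : M)⁻¹ = t⁻¹ := by
      have key : ∀ y : DihedralGroup m, y * DihedralGroup.r 1 * y⁻¹ = DihedralGroup.r 1 ∨ y * DihedralGroup.r 1 * y⁻¹ = (DihedralGroup.r 1)⁻¹ := by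
        intro y
        cases y with
        | r i =>
          left
          rw [DihedralGroup.inv_r, DihedralGroup.r_mul_r, DihedralGroup.r_mul_r]
          congr 1; ring
        | sr i =>
          right
          rw [DihedralGroup.inv_sr, DihedralGroup.inv_r, DihedralGroup.sr_mul_r, DihedralGroup.sr_mul_sr]
          congr 1; ring
      have h2 := key (e ⟨g, hg⟩)
      rcases h2 with h2 | h2
      · left
        apply e.injective
        rw [map_mul, map_mul, map_inv]
        show e _ * e (e.symm _) * _ = e (e.symm _)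
        rw [e.apply_symm_apply]; exact h2
      · right
        apply e.injective
        rw [map_mul, map_mul, map_inv, map_inv]
        show e _ * e (e.symm _) * _ = (e (e.symm _))⁻¹
        rw [e.apply_symm_apply]; exact h2
    rcases h1 with h1 | h1
    · have h2 : g * (t : G) * g⁻¹ = t := congrArg Subtype.val h1
      rw [h2]; exact htT
    · have h2 : g * (t : G) * g⁻¹ = (t : G)⁻¹ := congrArg Subtype.val h1
      rw [h2]; exact inv_mem htT
  have hN : N ≠ ⊤ := by
    intro h1
    have h2 := hTN.cardN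
    rw [h1, Subgroup.card_top] at h2
    rcases hn with hn | hn <;> omega
  have hMN' : M = N := by
    by_contra hne
    exact hN (hM.2 _ (lt_of_le_of_ne hMN hne))
  have h3 : Nat.card M = 2 * m := by
    rw [Nat.card_congr e.toEquiv, DihedralGroup.nat_card]
  have h4 := hTN.cardN
  rw [← hMN', h3] at h4
  have h5 : m = n := by omega
  rw [h5]; exact hn
end torus

section fields
variable {F : Type*} [Field F] [Fintype F]

theorem exists_inter (k : Subfield F) (m s : ℕ) (hm : Nat.card k ^ m = Fintype.card F) (hs : s ∣ m) :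
    ∃ E : Subfield F, k ≤ E ∧ Nat.card E = Nat.card k ^ s := by
  classical
  obtain ⟨p, hp⟩ := CharP.exists F
  haveI hpp := Fact.mk (CharP.char_is_prime F p)
  haveI : CharP k p := (RingHom.charP_iff k.subtype k.subtype.injective p).mpr hp
  obtain ⟨a, -, ha⟩ := FiniteField.card k p
  rw [← Nat.card_eq_fintype_card] at ha
  have hq1 : 1 < Fintype.card F := Fintype.one_lt_card
  have hm0 : m ≠ 0 := by rintro rfl; rw [pow_zero] at hm; omega
  have hs0 : s ≠ 0 := by rintro rfl; rw [zero_dvd_iff] at hs; exact hm0 hs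
  obtain ⟨r, hr⟩ := hs
  haveI : Fintype (GaloisField p (a * s)) := Fintype.ofFinite _
  have hK : Fintype.card (GaloisField p (a * s)) = Nat.card k ^ s := by
    rw [← Nat.card_eq_fintype_card, GaloisField.card p (a * s) (Nat.mul_ne_zero a.pos.ne' hs0), ha, pow_mul]
  obtain ⟨σ⟩ := exists_emb (F := F) (K := GaloisField p (a * s)) r (by rw [hK, ← pow_mul, ← hr, hm])
  have hE : Nat.card σ.fieldRange = Nat.card k ^ s := by
    rw [← hK, ← Nat.card_eq_fintype_card]
    exact (Nat.card_congr (Equiv.ofInjective σ σ.injective)).symm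
  refine ⟨σ.fieldRange, ?_, hE⟩
  intro x hx
  by_contra hxE
  have hN : 1 < Nat.card k ^ s := by
    apply Nat.one_lt_pow hs0
    exact Finite.one_lt_card
  -- count roots of `X^N - X`
  let N := Nat.card k ^ s
  have hroot : ∀ y : F, y ^ N = y → y ∈ (Polynomial.X ^ N - Polynomial.X : Polynomial F).roots := by
    intro y hy
    rw [Polynomial.mem_roots (FiniteField.X_pow_card_sub_X_ne_zero F hN), Polynomial.IsRoot.def, Polynomial.eval_sub, Polynomial.eval_pow, Polynomial.eval_X, hy, sub_self]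
  have hE2 : ∀ y ∈ σ.fieldRange, y ^ N = y := by
    rintro y ⟨z, rfl⟩
    rw [← map_pow]
    show σ (z ^ (Nat.card k ^ s)) = σ z
    rw [← hK, FiniteField.pow_card]
  have hx2 : x ^ N = x := by
    have h1 : ∀ j : ℕ, x ^ (Nat.card k ^ j) = x := by
      intro j
      induction j with
      | zero => rw [pow_zero, pow_one]
      | succ j ih =>
        rw [pow_succ, pow_mul, ih]
        have h2 : (⟨x, hx⟩ : k) ^ Nat.card k = ⟨x, hx⟩ := by
          rw [Nat.card_eq_fintype_card]; exact FiniteField.pow_card _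
        exact congrArg Subtype.val h2
    exact h1 s
  have h1 : (insert x (Finset.univ.filter (fun y => y ∈ σ.fieldRange))).card ≤ N := by
    have h2 : (insert x (Finset.univ.filter (fun y => y ∈ σ.fieldRange))) ⊆ (Polynomial.X ^ N - Polynomial.X : Polynomial F).roots.toFinset := by
      intro y hy
      rw [Multiset.mem_toFinset]
      apply hroot
      rcases Finset.mem_insert.mp hy with rfl | hy
      · exact hx2
      · exact hE2 y (Finset.mem_filter.mp hy).2
    calc _ ≤ _ := Finset.card_le_card h2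
      _ ≤ _ := Multiset.toFinset_card_le _
      _ ≤ _ := Polynomial.card_roots' _
      _ = N := FiniteField.X_pow_card_sub_X_natDegree_eq F hN
  rw [Finset.card_insert_of_notMem (by rw [Finset.mem_filter]; exact fun h => hxE h.2)] at h1
  have h3 : (Finset.univ.filter (fun y => y ∈ σ.fieldRange)).card = N := by
    rw [← Fintype.card_subtype, ← Nat.card_eq_fintype_card]
    exact hE
  omega

end fields

section sub
variable {F : Type*} [Field F]

theorem LL_conj (a g : PGL(2, F)) (hg : g ∈ LL F) : a * g * a⁻¹ ∈ LL F := by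
  obtain ⟨s, rfl⟩ := (mem_LL g).mp hg
  obtain ⟨A, rfl⟩ := ProjGenLinGroup.mk_surjective a
  rw [← map_inv, ← map_mul, ← map_mul]
  apply mem_LL_of_sq
  refine ⟨1, ?_⟩
  rw [GeneralLinearGroup.coe_mul, GeneralLinearGroup.coe_mul, det_mul, det_mul]
  have h1 : (SpecialLinearGroup.toGL s : Matrix (Fin 2) (Fin 2) F).det = 1 := s.2
  rw [h1, mul_one, mul_one, ← det_mul, ← GeneralLinearGroup.coe_mul, mul_inv_cancel, GeneralLinearGroup.coe_one, det_one]

/-- the subfield subgroup `PSL_2(E)^g` -/
theorem exists_sub [Finite F] (E : Subfield F) (g : PGL(2, F)) : ∃ B : Subgroup (ProjectiveSpecialLinearGroup (Fin 2) F),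
    Nat.card B = Nat.card (ProjectiveSpecialLinearGroup (Fin 2) E) ∧
    ∀ x, x ∈ B ↔ g * ProjectiveSpecialLinearGroup.toPGL x * g⁻¹ ∈ (LL E).map (ProjGenLinGroup.map (n := Fin 2) E.subtype) := by
  classical
  let S : Subgroup PGL(2, F) := ((LL E).map (ProjGenLinGroup.map (n := Fin 2) E.subtype)).comap (MulAut.conj g).toMonoidHom
  refine ⟨S.comap ProjectiveSpecialLinearGroup.toPGL, ?_, fun x => Iff.rfl⟩
  have h1 : S ≤ (ProjectiveSpecialLinearGroup.toPGL : ProjectiveSpecialLinearGroup (Fin 2) F →* PGL(2, F)).range := by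
    rintro x ⟨y, hy, hyx⟩
    rw [toPGL_range]
    have h2 : g⁻¹ * ProjGenLinGroup.map (n := Fin 2) E.subtype y * g⁻¹⁻¹ ∈ LL F := LL_conj _ _ (map_LL _ _ hy)
    rw [hyx] at h2
    have h3 : g⁻¹ * (MulAut.conj g).toMonoidHom x * g⁻¹⁻¹ = x := by
      show g⁻¹ * (g * x * g⁻¹) * g⁻¹⁻¹ = x
      group
    rwa [h3] at h2
  have h2 : Nat.card (S.comap ProjectiveSpecialLinearGroup.toPGL) = Nat.card S := by
    rw [← Subgroup.card_map_of_injective (K := S.comap ProjectiveSpecialLinearGroup.toPGL) (ProjectiveSpecialLinearGroup.toPGL_injective (n := Fin 2) (R := F)), Subgroup.map_comap_eq, inf_eq_right.mpr h1]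
  rw [h2]
  have h3 : Nat.card S = Nat.card ((LL E).map (ProjGenLinGroup.map (n := Fin 2) E.subtype)) := by
    have h4 : ((LL E).map (ProjGenLinGroup.map (n := Fin 2) E.subtype)) = S.map (MulAut.conj g).toMonoidHom := by
      rw [Subgroup.map_comap_eq_self_of_surjective]
      exact (MulAut.conj g).surjective
    rw [h4, Subgroup.card_map_of_injective (MulAut.conj g).injective]
  rw [h3, Subgroup.card_map_of_injective (map_injective' _)]
  exact (Nat.card_congr pslEquivLL.toEquiv).symm

theorem LL_mono {k E : Subfield F} (h : k ≤ E) :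
    (LL k).map (ProjGenLinGroup.map (n := Fin 2) k.subtype) ≤ (LL E).map (ProjGenLinGroup.map (n := Fin 2) E.subtype) := by
  rintro _ ⟨y, hy, rfl⟩
  refine ⟨ProjGenLinGroup.map (Subfield.inclusion h) y, map_LL _ _ hy, ?_⟩
  obtain ⟨A, rfl⟩ := ProjGenLinGroup.mk_surjective y
  rw [ProjGenLinGroup.map_mk, ProjGenLinGroup.map_mk, ProjGenLinGroup.map_mk]
  rfl

theorem range_mono {k E : Subfield F} (h : k ≤ E) :
    (ProjGenLinGroup.map (n := Fin 2) k.subtype).range ≤ (ProjGenLinGroup.map (n := Fin 2) E.subtype).range := by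
  rintro _ ⟨y, rfl⟩
  refine ⟨ProjGenLinGroup.map (Subfield.inclusion h) y, ?_⟩
  obtain ⟨A, rfl⟩ := ProjGenLinGroup.mk_surjective y
  rw [ProjGenLinGroup.map_mk, ProjGenLinGroup.map_mk, ProjGenLinGroup.map_mk]
  rfl

/-- a maximal subgroup lying in a subfield group equals it -/
theorem sub_max_card [Fintype F] (h4 : 4 ≤ Fintype.card F) (M : Subgroup (ProjectiveSpecialLinearGroup (Fin 2) F)) (hM : IsCoatom M) (E : Subfield F) (g : PGL(2, F))
    (hE : Nat.card E < Fintype.card F) (hME : ∀ x ∈ M, g * ProjectiveSpecialLinearGroup.toPGL x * g⁻¹ ∈ (LL E).map (ProjGenLinGroup.map (n := Fin 2) E.subtype)) :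
    Nat.card M = Nat.card (ProjectiveSpecialLinearGroup (Fin 2) E) := by
  classical
  obtain ⟨B, hB1, hB2⟩ := exists_sub E g
  have hMB : M ≤ B := fun x hx => (hB2 x).mpr (hME x hx)
  have hBt : B ≠ ⊤ := by
    intro h
    rw [h, Subgroup.card_top] at hB1
    have h1 : Nat.card (ProjectiveSpecialLinearGroup (Fin 2) E) < Nat.card (ProjectiveSpecialLinearGroup (Fin 2) F) := by
      apply card_psl_lt (by rw [← Nat.card_eq_fintype_card]; exact hE)
      have h2 := card_subfield_pow E
      have h3 : Module.finrank E F ≠ 0 := by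
        intro h; rw [h, pow_zero] at h2; omega
      rw [← h2, ← Nat.card_eq_fintype_card]
      exact (Nat.even_pow' h3).symm
    omega
  have : M = B := by
    by_contra hne
    exact hBt (hM.2 _ (lt_of_le_of_ne hMB hne))
  rw [this, hB1]

end sub

end CfsgLib.Dk29
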