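import Cfsg.Agent.LibDkCC29

set_option autoImplicit false

/-! Maximal subgroups: subfield case has prime degree; exclusions. -/

namespace CfsgLib.Dk29

open MulAction Matrix OnePoint
open scoped MatrixGroups

variable {F : Type*} [Field F] [Fintype F]

theorem even_iff_subfield (E : Subfield F) : Even (Nat.card E) ↔ Even (Fintype.card F) := by
  have h2 := card_subfield_pow E
  have h3 : Module.finrank E F ≠ 0 := by
    intro h; rw [h, pow_zero] at h2
    have : 1 < Fintype.card F := Fintype.one_lt_card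
    omega
  rw [← h2]
  exact (Nat.even_pow' h3).symm

theorem sub_prime (h4 : 4 ≤ Fintype.card F) (M : Subgroup (ProjectiveSpecialLinearGroup (Fin 2) F)) (hM : IsCoatom M) (k : Subfield F) (m : ℕ)
    (hm : 2 ≤ m) (hkm : Nat.card k ^ m = Fintype.card F) (g : PGL(2, F))
    (hg : ∀ x ∈ M, g * ProjectiveSpecialLinearGroup.toPGL x * g⁻¹ ∈ (LL k).map (ProjGenLinGroup.map (n := Fin 2) k.subtype)) :
    Nat.card M = Nat.card (ProjectiveSpecialLinearGroup (Fin 2) k) ∧ m.Prime := by
  classical
  have hk1 : 1 < Nat.card k := Finite.one_lt_card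
  have hlt : ∀ s, s < m → Nat.card k ^ s < Fintype.card F := by
    intro s hs; rw [← hkm]; exact Nat.pow_lt_pow_right hk1 hs
  have h1 := sub_max_card h4 M hM k g (by have := hlt 1 (by omega); rwa [pow_one] at this) hg
  refine ⟨h1, ?_⟩
  by_contra hnp
  obtain ⟨s, hs, hs1, hs2⟩ := (Nat.not_prime_iff_exists_dvd_lt hm).mp hnp
  obtain ⟨E, hkE, hE⟩ := exists_inter k m s hkm hs
  have h2 := sub_max_card h4 M hM E g (by rw [hE]; exact hlt s hs2) (fun x hx => LL_mono hkE (hg x hx))
  have h3 : Nat.card (ProjectiveSpecialLinearGroup (Fin 2) k) < Nat.card (ProjectiveSpecialLinearGroup (Fin 2) E) := by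
    apply card_psl_lt
    · rw [← Nat.card_eq_fintype_card, ← Nat.card_eq_fintype_card, hE]
      calc Nat.card k = Nat.card k ^ 1 := (pow_one _).symm
        _ < _ := Nat.pow_lt_pow_right hk1 hs1
    · rw [← Nat.card_eq_fintype_card, ← Nat.card_eq_fintype_card, even_iff_subfield, even_iff_subfield]
  omega

theorem LL_top (hev : Even (Fintype.card F)) : LL F = ⊤ := by
  rw [← Subgroup.index_eq_one, index_LL]
  have h1 : 1 < Fintype.card F := Fintype.one_lt_card
  rcases gcd_cases _ h1 with ⟨h, -⟩ | ⟨-, h⟩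
  · exact h
  · exact absurd hev (Nat.not_even_iff_odd.mpr h)

noncomputable def pgl_equiv_psl (hev : Even (Fintype.card F)) : PGL(2, F) ≃* ProjectiveSpecialLinearGroup (Fin 2) F :=
  (Subgroup.topEquiv.symm.trans (MulEquiv.subgroupCongr (LL_top hev).symm)).trans pslEquivLL.symm

end CfsgLib.Dk29
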