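import Cfsg.Agent.LibDkDD29

set_option autoImplicit false

/-! Klein four-subgroups of `PSL_2` inside `PGL_2`: one class, normalizer `S_4`. -/

namespace CfsgLib.Dk29

open MulAction Matrix OnePoint
open scoped MatrixGroups

theorem mem_subfield_iff {F : Type*} [Field F] [Fintype F] (E : Subfield F) (x : F) : x ∈ E ↔ x ^ Nat.card E = x := by
  classical
  have hE2 : ∀ y ∈ E, y ^ Nat.card E = y := by
    intro y hy
    have h2 : (⟨y, hy⟩ : E) ^ Nat.card E = ⟨y, hy⟩ := by
      rw [Nat.card_eq_fintype_card]; exact FiniteField.pow_card _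
    exact congrArg Subtype.val h2
  refine ⟨hE2 x, fun hx2 => ?_⟩
  by_contra hxE
  have hN : 1 < Nat.card E := Finite.one_lt_card
  set N := Nat.card E with hNdef
  have hroot : ∀ y : F, y ^ N = y → y ∈ (Polynomial.X ^ N - Polynomial.X : Polynomial F).roots := by
    intro y hy
    rw [Polynomial.mem_roots (FiniteField.X_pow_card_sub_X_ne_zero F hN), Polynomial.IsRoot.def, Polynomial.eval_sub, Polynomial.eval_pow, Polynomial.eval_X, hy, sub_self]
  have h1 : (insert x (Finset.univ.filter (fun y => y ∈ E))).card ≤ N := by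
    have h2 : (insert x (Finset.univ.filter (fun y => y ∈ E))) ⊆ (Polynomial.X ^ N - Polynomial.X : Polynomial F).roots.toFinset := by
      intro y hy
      rw [Multiset.mem_toFinset]
      apply hroot
      rcases Finset.mem_insert.mp hy with rfl | hy
      · exact hx2
      · exact hE2 y (Finset.mem_filter.mp hy).2
    calc _ ≤ _ := Finset.card_le_card h2
      _ ≤ _ := Multiset.toFinset_card_le _
      _ ≤ _ := Polynomial.card_roots' _
      _ = N := FiniteField.X_pow_card_sub_X_natDegree_eq F hN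
  rw [Finset.card_insert_of_notMem (by rw [Finset.mem_filter]; exact fun h => hxE h.2)] at h1
  have h3 : (Finset.univ.filter (fun y => y ∈ E)).card = N := by
    rw [← Fintype.card_subtype, ← Nat.card_eq_fintype_card]
  omega

/-- the prime subfield -/
theorem exists_prime_subfield {F : Type*} [Field F] [Fintype F] (p : ℕ) [hp : Fact p.Prime] [CharP F p] :
    ∃ k : Subfield F, Nat.card k = p := by
  obtain ⟨n, -, hn⟩ := FiniteField.card F p
  obtain ⟨σ⟩ := exists_emb (F := F) (K := ZMod p) n (by rw [ZMod.card, hn])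
  refine ⟨σ.fieldRange, ?_⟩
  have h1 : Nat.card σ.fieldRange = Nat.card (ZMod p) := (Nat.card_congr (Equiv.ofInjective σ σ.injective)).symm
  rw [h1, Nat.card_zmod]

section klein
variable {F : Type*} [Field F] [Fintype F]

theorem card_pgl_psl (hodd : Odd (Fintype.card F)) : Nat.card PGL(2, F) = 2 * Nat.card (ProjectiveSpecialLinearGroup (Fin 2) F) := by
  rw [card_PGL, psl_odd_card hodd]

theorem pgl_cent_klein (hodd : Odd (Fintype.card F)) (V : Subgroup PGL(2, F)) (hV : IsKleinFour V) :
    Subgroup.centralizer (V : Set PGL(2, F)) = V := by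
  have h2 := two_ne_zero_of_odd hodd
  obtain ⟨a, b, ha, hb, hab, ha1, hb1, hne, rfl⟩ := exists_kl V hV
  apply le_antisymm
  · intro g hg
    rw [Subgroup.mem_centralizer_iff] at hg
    have hga := hg a (Or.inr (Or.inl rfl))
    have hgb := hg b (Or.inr (Or.inr (Or.inl rfl)))
    exact klein_cent_pgl h2 a b g ha hb ha1 hb1 hne.symm hab.symm hga.symm hgb.symm
  · intro g hg
    rw [Subgroup.mem_centralizer_iff]
    intro h hh
    haveI := hV
    have hc := IsKleinFour.isMulCommutative (G := kl a b ha hb hab)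
    have := hc.is_comm.comm ⟨h, hh⟩ ⟨g, hg⟩
    exact congrArg Subtype.val this

theorem pgl_norm_dvd (hodd : Odd (Fintype.card F)) (V : Subgroup PGL(2, F)) (hV : IsKleinFour V) :
    Nat.card (Subgroup.normalizer (V : Set PGL(2, F))) ∣ 24 := by
  have h1 := normalizer_card_dvd V hV.card_four
  rwa [pgl_cent_klein hodd V hV, hV.card_four] at h1

theorem klein_map {G H : Type*} [Group G] [Group H] (f : G →* H) (hf : Function.Injective f) (V : Subgroup G) (hV : IsKleinFour V) : IsKleinFour (V.map f) := by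
  have e := V.equivMapOfInjective f hf
  exact ⟨by rw [Nat.card_congr e.symm.toEquiv]; exact hV.card_four, by rw [← Monoid.exponent_eq_of_mulEquiv e]; exact hV.exponent_two⟩

theorem klein_of_map {G H : Type*} [Group G] [Group H] (f : G →* H) (hf : Function.Injective f) (V : Subgroup G) (hV : IsKleinFour (V.map f)) : IsKleinFour V := by
  have e := V.equivMapOfInjective f hf
  exact ⟨by rw [Nat.card_congr e.toEquiv]; exact hV.card_four, by rw [Monoid.exponent_eq_of_mulEquiv e]; exact hV.exponent_two⟩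

theorem ll_card_klein (hodd : Odd (Fintype.card F)) :
    24 * {W : Subgroup PGL(2, F) | IsKleinFour W ∧ W ≤ LL F}.ncard = Nat.card PGL(2, F) := by
  classical
  have hinj : Function.Injective (ProjectiveSpecialLinearGroup.toPGL : ProjectiveSpecialLinearGroup (Fin 2) F →* PGL(2, F)) := ProjectiveSpecialLinearGroup.toPGL_injective
  have h1 : {W : Subgroup PGL(2, F) | IsKleinFour W ∧ W ≤ LL F} =
      (fun V : Subgroup (ProjectiveSpecialLinearGroup (Fin 2) F) => V.map ProjectiveSpecialLinearGroup.toPGL) '' {V : Subgroup (ProjectiveSpecialLinearGroup (Fin 2) F) | IsKleinFour V} := by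
    ext W
    constructor
    · rintro ⟨hW, hL⟩
      have h2 : (W.comap ProjectiveSpecialLinearGroup.toPGL).map ProjectiveSpecialLinearGroup.toPGL = W := by
        rw [Subgroup.map_comap_eq, toPGL_range, inf_eq_right.mpr hL]
      refine ⟨W.comap ProjectiveSpecialLinearGroup.toPGL, klein_of_map _ hinj _ (by rw [h2]; exact hW), h2⟩
    · rintro ⟨V, hV, rfl⟩
      refine ⟨klein_map _ hinj V hV, ?_⟩
      rintro _ ⟨x, -, rfl⟩
      exact toPGL_mem x
  rw [h1, Set.ncard_image_of_injective _ (Subgroup.map_injective hinj), ncard_klein, card_pgl_psl hodd, ← psl_card_klein hodd]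
  ring

/-- all four-groups of `PSL_2(q)` are conjugate in `PGL_2(q)`, with normalizer of order 24 -/
theorem pgl_klein (hodd : Odd (Fintype.card F)) (V : Subgroup PGL(2, F)) (hV : IsKleinFour V) (hL : V ≤ LL F) :
    Nat.card (Subgroup.normalizer (V : Set PGL(2, F))) = 24 ∧
    ∀ W : Subgroup PGL(2, F), IsKleinFour W → W ≤ LL F → ∃ g, W = V.map (MulAut.conj g).toMonoidHom := by
  have h1 := class_card V
  have h2 := ll_card_klein (F := F) hodd
  have h3 := Nat.le_of_dvd (by norm_num) (pgl_norm_dvd hodd V hV)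
  have hsub : {W : Subgroup PGL(2, F) | ∃ g, W = V.map (MulAut.conj g).toMonoidHom} ⊆ {W : Subgroup PGL(2, F) | IsKleinFour W ∧ W ≤ LL F} := by
    rintro _ ⟨g, rfl⟩
    refine ⟨klein_conj V hV g, ?_⟩
    rintro _ ⟨x, hx, rfl⟩
    exact LL_conj g x (hL hx)
  have h4 := Set.ncard_le_ncard hsub (Set.toFinite _)
  have hpos : 0 < Nat.card PGL(2, F) := Nat.card_pos
  set a := {W : Subgroup PGL(2, F) | ∃ g, W = V.map (MulAut.conj g).toMonoidHom}.ncard
  set b := {W : Subgroup PGL(2, F) | IsKleinFour W ∧ W ≤ LL F}.ncard with hb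
  have h5 : Nat.card (Subgroup.normalizer (V : Set PGL(2, F))) = 24 := by
    by_contra hne
    have h6 : Nat.card (Subgroup.normalizer (V : Set PGL(2, F))) < 24 := lt_of_le_of_ne h3 hne
    have h7 : a * Nat.card (Subgroup.normalizer (V : Set PGL(2, F))) ≤ b * Nat.card (Subgroup.normalizer (V : Set PGL(2, F))) := Nat.mul_le_mul_right _ h4
    have h8 : 0 < b := by
      rcases Nat.eq_zero_or_pos b with h | h
      · rw [h, mul_zero] at h2; omega
      · exact h
    have h9 : b * Nat.card (Subgroup.normalizer (V : Set PGL(2, F))) < b * 24 := Nat.mul_lt_mul_of_pos_left h6 h8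
    omega
  refine ⟨h5, fun W hW hWL => ?_⟩
  rw [h5] at h1
  have h6 : a = b := by omega
  have h7 := Set.eq_of_subset_of_ncard_le hsub h6.symm.le (Set.toFinite _)
  have h8 : W ∈ {W : Subgroup PGL(2, F) | IsKleinFour W ∧ W ≤ LL F} := ⟨hW, hWL⟩
  rw [← h7] at h8
  exact h8

theorem pgl_norm_iso (hodd : Odd (Fintype.card F)) (V : Subgroup PGL(2, F)) (hV : IsKleinFour V) (hL : V ≤ LL F) :
    Nonempty ((Subgroup.normalizer (V : Set PGL(2, F))) ≃* Equiv.Perm (Fin 4)) := by
  classical
  obtain ⟨hc, -⟩ := pgl_klein hodd V hV hL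
  have h2 := two_ne_zero_of_odd hodd
  set N : Subgroup PGL(2, F) := Subgroup.normalizer (V : Set PGL(2, F)) with hNdef
  have hVN : V ≤ N := Subgroup.le_normalizer
  rcases dickson_gen N.subtype N.subtype_injective 1 (Or.inl rfl) with ⟨h, -⟩ | ⟨n, hn2, -, ⟨e⟩⟩ | ⟨x, hx⟩ | ⟨⟨e⟩⟩ | h | ⟨⟨e⟩⟩ | ⟨k, hk, -, hck⟩
  · exfalso
    have h1 : N ≤ V := by
      rw [← pgl_cent_klein hodd V hV]
      intro g hg
      rw [Subgroup.mem_centralizer_iff]
      intro v hv
      haveI := h
      have := (IsCyclic.isMulCommutative (α := N)).is_comm.comm ⟨v, hVN hv⟩ ⟨g, hg⟩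
      exact congrArg Subtype.val this
    have h2 := Subgroup.card_le_of_le h1
    rw [hV.card_four] at h2
    omega
  · exfalso
    haveI : NeZero n := ⟨by omega⟩
    have h1 : (V.subgroupOf N).Normal := Subgroup.normal_subgroupOf_iff_le_normalizer hVN |>.mpr le_rfl
    have h2 : IsKleinFour (V.subgroupOf N) := by
      have e2 := Subgroup.subgroupOfEquivOfLe hVN
      exact ⟨by rw [Nat.card_congr e2.toEquiv]; exact hV.card_four, by rw [Monoid.exponent_eq_of_mulEquiv e2]; exact hV.exponent_two⟩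
    have h3 : ((V.subgroupOf N).map e.toMonoidHom).Normal := h1.map _ e.surjective
    have h4 : IsKleinFour ((V.subgroupOf N).map e.toMonoidHom) := klein_map _ e.injective _ h2
    have h5 := dih_klein n _ h3 h4
    rw [Nat.card_congr e.toEquiv, DihedralGroup.nat_card] at hc
    have := Nat.le_of_dvd (by norm_num) h5
    omega
  · exfalso
    obtain ⟨a, b, ha, hb, hab, ha1, hb1, hne, hVV⟩ := exists_kl V hV
    have haV : a ∈ V := by rw [hVV]; exact Or.inr (Or.inl rfl)
    have hbV : b ∈ V := by rw [hVV]; exact Or.inr (Or.inr (Or.inl rfl))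
    exact no_klein_fix h2 a b ha hb ha1 hb1 hne.symm hab.symm x (hx ⟨a, hVN haV⟩) (hx ⟨b, hVN hbV⟩)
  · exfalso
    rw [Nat.card_congr e.toEquiv, card_a4] at hc; omega
  · exact h
  · exfalso
    rw [Nat.card_congr e.toEquiv, card_a5] at hc
    omega
  · exfalso
    have h1 : 60 ≤ Nat.card k * ((Nat.card k - 1) * (Nat.card k + 1)) := by
      calc 60 = 4 * (3 * 5) := by norm_num
        _ ≤ _ := Nat.mul_le_mul hk (Nat.mul_le_mul (by omega) (by omega))
    omega

theorem odd_subfield (hodd : Odd (Fintype.card F)) (k : Subfield F) : Odd (Nat.card k) := by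
  rw [← Nat.not_even_iff_odd, even_iff_subfield, Nat.not_even_iff_odd]; exact hodd

/-- the normalizer of a four-group is conjugate into every subfield group -/
theorem norm_range (hodd : Odd (Fintype.card F)) (k : Subfield F) (V : Subgroup PGL(2, F)) (hV : IsKleinFour V) (hL : V ≤ LL F) :
    ∃ g : PGL(2, F), ∀ x ∈ Subgroup.normalizer (V : Set PGL(2, F)), g * x * g⁻¹ ∈ (ProjGenLinGroup.map (n := Fin 2) k.subtype).range := by
  classical
  have hko : Odd (Fintype.card k) := by rw [← Nat.card_eq_fintype_card]; exact odd_subfield hodd k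
  have hinj : Function.Injective (ProjectiveSpecialLinearGroup.toPGL : ProjectiveSpecialLinearGroup (Fin 2) k →* PGL(2, k)) := ProjectiveSpecialLinearGroup.toPGL_injective
  obtain ⟨V₁, hV₁⟩ := exists_klein (F := k) hko
  set W := V₁.map (ProjectiveSpecialLinearGroup.toPGL : ProjectiveSpecialLinearGroup (Fin 2) k →* PGL(2, k)) with hW
  have hWk : IsKleinFour W := klein_map _ hinj V₁ hV₁
  have hWL : W ≤ LL k := by
    rintro _ ⟨x, -, rfl⟩
    exact toPGL_mem x
  obtain ⟨hWc, -⟩ := pgl_klein hko W hWk hWL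
  set σ := ProjGenLinGroup.map (n := Fin 2) k.subtype with hσ
  have hσi : Function.Injective σ := map_injective' k.subtype
  have hV2k : IsKleinFour (W.map σ) := klein_map _ hσi W hWk
  have hV2L : W.map σ ≤ LL F := by
    rintro _ ⟨x, hx, rfl⟩
    exact map_LL _ _ (hWL hx)
  obtain ⟨hV2c, -⟩ := pgl_klein hodd (W.map σ) hV2k hV2L
  have hle : (Subgroup.normalizer (W : Set PGL(2, k))).map σ ≤ Subgroup.normalizer ((W.map σ : Subgroup PGL(2, F)) : Set PGL(2, F)) :=
    Subgroup.le_normalizer_map σ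
  have heq : (Subgroup.normalizer (W : Set PGL(2, k))).map σ = Subgroup.normalizer ((W.map σ : Subgroup PGL(2, F)) : Set PGL(2, F)) := by
    apply Subgroup.eq_of_le_of_card_ge hle
    rw [hV2c, Subgroup.card_map_of_injective hσi, hWc]
  obtain ⟨-, hall⟩ := pgl_klein hodd V hV hL
  obtain ⟨g, hg⟩ := hall (W.map σ) hV2k hV2L
  refine ⟨g, fun x hx => ?_⟩
  have h1 : g * x * g⁻¹ ∈ Subgroup.normalizer ((W.map σ : Subgroup PGL(2, F)) : Set PGL(2, F)) := by
    rw [Subgroup.mem_normalizer_iff] at hx ⊢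
    intro y
    rw [hg]
    rw [mem_conj_map, mem_conj_map]
    have h2 : g⁻¹ * (g * x * g⁻¹ * y * (g * x * g⁻¹)⁻¹) * g = x * (g⁻¹ * y * g) * x⁻¹ := by group
    rw [h2]
    exact hx _
  rw [← heq] at h1
  obtain ⟨y, -, hy⟩ := h1
  exact ⟨y, hy⟩

end klein

/-- involutions of `A_4`, `A_5` and all their elements are products of squares -/
theorem a4_squares : ∀ a : alternatingGroup (Fin 4), ∃ b c : alternatingGroup (Fin 4), a = (b * b) * (c * c) := by decide +kernel

theorem sq_mem_LL {F : Type*} [Field F] (g : PGL(2, F)) : g * g ∈ LL F := by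
  obtain ⟨A, rfl⟩ := ProjGenLinGroup.mk_surjective g
  rw [← map_mul]
  apply mem_LL_of_sq
  exact ⟨(A : Matrix (Fin 2) (Fin 2) F).det, by rw [GeneralLinearGroup.coe_mul, det_mul]⟩

theorem sq_mem_LL_map {F : Type*} [Field F] (k : Subfield F) (g : PGL(2, F)) (hg : g ∈ (ProjGenLinGroup.map (n := Fin 2) k.subtype).range) :
    g * g ∈ (LL k).map (ProjGenLinGroup.map (n := Fin 2) k.subtype) := by
  obtain ⟨y, rfl⟩ := hg
  exact ⟨y * y, sq_mem_LL y, map_mul _ _ _⟩

end CfsgLib.Dk29
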