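import Cfsg.Agent.LibDkEE29

set_option autoImplicit false

/-! Descent of icosahedral subgroups to a field containing the golden ratio. -/

namespace CfsgLib.Dk29

open MulAction Matrix OnePoint
open scoped MatrixGroups
open CfsgLib.Fus21.PSL2 (pr pr_eq_one pr_surj sl2_ext)

section
variable {F : Type*} [Field F]

theorem toPGL_pr (M : SpecialLinearGroup (Fin 2) F) : ProjectiveSpecialLinearGroup.toPGL (pr F M) = ProjGenLinGroup.mk (SpecialLinearGroup.toGL M) := rfl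

theorem trace_of_sq (M : SpecialLinearGroup (Fin 2) F) (h1 : pr F M ≠ 1) (h : pr F M * pr F M = 1) : M 0 0 + M 1 1 = 0 := by
  by_contra hne
  apply h1
  have hch := ch M
  have hd := det2 M
  rw [← map_mul, pr_eq_one] at h
  have h3 : ((M * M : SpecialLinearGroup (Fin 2) F) : Matrix (Fin 2) (Fin 2) F) = (M : Matrix (Fin 2) (Fin 2) F) * M := rfl
  rw [h3, hch] at h
  have key : ∀ c : F, (M 0 0 + M 1 1) • (M : Matrix (Fin 2) (Fin 2) F) - 1 = c • 1 → pr F M = 1 := by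
    intro c hc
    have e01 := congrFun (congrFun hc 0) 1
    have e10 := congrFun (congrFun hc 1) 0
    have e00 := congrFun (congrFun hc 0) 0
    have e11 := congrFun (congrFun hc 1) 1
    simp only [Matrix.sub_apply, Matrix.smul_apply, smul_eq_mul, Matrix.one_apply_eq, mul_one] at e00 e11
    rw [Matrix.sub_apply, Matrix.smul_apply, Matrix.smul_apply, smul_eq_mul, smul_eq_mul, Matrix.one_apply_ne (by decide), mul_zero, sub_zero] at e01 e10
    have z01 : M 0 1 = 0 := (mul_eq_zero.mp e01).resolve_left hne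
    have z10 : M 1 0 = 0 := (mul_eq_zero.mp e10).resolve_left hne
    have zz : M 0 0 = M 1 1 := by
      apply mul_left_cancel₀ hne
      linear_combination e00 - e11
    rw [z01, zero_mul, sub_zero, ← zz] at hd
    rw [pr_eq_one]
    rcases mul_self_eq_one_iff.mp hd with h4 | h4
    · left
      apply mat_ext
      · rw [Matrix.one_apply_eq]; exact h4
      · rw [Matrix.one_apply_ne (by decide)]; exact z01
      · rw [Matrix.one_apply_ne (by decide)]; exact z10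
      · rw [Matrix.one_apply_eq]; exact zz.symm.trans h4
    · right
      apply mat_ext
      · rw [Matrix.neg_apply, Matrix.one_apply_eq]; exact h4
      · rw [Matrix.neg_apply, Matrix.one_apply_ne (by decide), neg_zero]; exact z01
      · rw [Matrix.neg_apply, Matrix.one_apply_ne (by decide), neg_zero]; exact z10
      · rw [Matrix.neg_apply, Matrix.one_apply_eq]; exact zz.symm.trans h4
  rcases h with h | h
  · exact key 1 (by rw [h, one_smul])
  · exact key (-1) (by rw [h, neg_smul, one_smul])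

theorem trace_of_cube (M : SpecialLinearGroup (Fin 2) F) (h1 : pr F M ≠ 1) (h : pr F M * pr F M * pr F M = 1) :
    (M 0 0 + M 1 1) * (M 0 0 + M 1 1) = 1 := by
  by_contra hne
  apply h1
  have hch := ch M
  have hd := det2 M
  rw [← map_mul, ← map_mul, mul_assoc, pr_eq_one] at h
  have h3 : ((M * (M * M) : SpecialLinearGroup (Fin 2) F) : Matrix (Fin 2) (Fin 2) F) = (M : Matrix (Fin 2) (Fin 2) F) * (M * M) := rfl
  obtain ⟨τ, hτ⟩ : ∃ τ, τ = M 0 0 + M 1 1 := ⟨_, rfl⟩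
  rw [← hτ] at hch hne
  have e3 : (M : Matrix (Fin 2) (Fin 2) F) * (M * M) = (τ * τ - 1) • (M : Matrix (Fin 2) (Fin 2) F) - τ • 1 := by
    rw [hch, mul_sub, Matrix.mul_smul, hch, mul_one]; module
  rw [h3, e3] at h
  have hne' : τ * τ - 1 ≠ 0 := sub_ne_zero.mpr hne
  have key : ∀ c : F, (τ * τ - 1) • (M : Matrix (Fin 2) (Fin 2) F) - τ • 1 = c • 1 → pr F M = 1 := by
    intro c hc
    have e01 := congrFun (congrFun hc 0) 1
    have e10 := congrFun (congrFun hc 1) 0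
    have e00 := congrFun (congrFun hc 0) 0
    have e11 := congrFun (congrFun hc 1) 1
    simp only [Matrix.sub_apply, Matrix.smul_apply, smul_eq_mul, Matrix.one_apply_eq, mul_one] at e00 e11
    rw [Matrix.sub_apply, Matrix.smul_apply, Matrix.smul_apply, Matrix.smul_apply, smul_eq_mul, smul_eq_mul, smul_eq_mul, Matrix.one_apply_ne (by decide), mul_zero, mul_zero, sub_zero] at e01 e10
    have z01 : M 0 1 = 0 := (mul_eq_zero.mp e01).resolve_left hne'
    have z10 : M 1 0 = 0 := (mul_eq_zero.mp e10).resolve_left hne'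
    have zz : M 0 0 = M 1 1 := by
      apply mul_left_cancel₀ hne'
      linear_combination e00 - e11
    rw [z01, zero_mul, sub_zero, ← zz] at hd
    rw [pr_eq_one]
    rcases mul_self_eq_one_iff.mp hd with h4 | h4
    · left
      apply mat_ext
      · rw [Matrix.one_apply_eq]; exact h4
      · rw [Matrix.one_apply_ne (by decide)]; exact z01
      · rw [Matrix.one_apply_ne (by decide)]; exact z10
      · rw [Matrix.one_apply_eq]; exact zz.symm.trans h4
    · right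
      apply mat_ext
      · rw [Matrix.neg_apply, Matrix.one_apply_eq]; exact h4
      · rw [Matrix.neg_apply, Matrix.one_apply_ne (by decide), neg_zero]; exact z01
      · rw [Matrix.neg_apply, Matrix.one_apply_ne (by decide), neg_zero]; exact z10
      · rw [Matrix.neg_apply, Matrix.one_apply_eq]; exact zz.symm.trans h4
  rcases h with h | h
  · exact key 1 (by rw [h, one_smul])
  · exact key (-1) (by rw [h, neg_smul, one_smul])

/-- elements with entries in a subfield -/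
theorem mem_LL_map_of_entries (E : Subfield F) (S : SpecialLinearGroup (Fin 2) F) (h00 : S 0 0 ∈ E) (h01 : S 0 1 ∈ E) (h10 : S 1 0 ∈ E) (h11 : S 1 1 ∈ E) :
    ProjectiveSpecialLinearGroup.toPGL (pr F S) ∈ (LL E).map (ProjGenLinGroup.map (n := Fin 2) E.subtype) := by
  have hd := det2 S
  let S' : SpecialLinearGroup (Fin 2) E := ⟨!![⟨S 0 0, h00⟩, ⟨S 0 1, h01⟩; ⟨S 1 0, h10⟩, ⟨S 1 1, h11⟩], by
    rw [Matrix.det_fin_two_of]
    apply Subtype.ext
    exact hd⟩
  refine ⟨ProjGenLinGroup.mk (SpecialLinearGroup.toGL S'), ⟨S', rfl⟩, ?_⟩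
  rw [toPGL_pr, ProjGenLinGroup.map_mk]
  congr 1
  apply Units.ext
  show ((GeneralLinearGroup.map E.subtype (SpecialLinearGroup.toGL S') : GL (Fin 2) F) : Matrix (Fin 2) (Fin 2) F) = (S : Matrix (Fin 2) (Fin 2) F)
  apply mat_ext <;> rfl

theorem quat_entries (h2 : (2 : F) ≠ 0) (E : Subfield F) {a b : F} {I J W : SpecialLinearGroup (Fin 2) F} (h : Quat F a b I J W) (ha : a ∈ E) (hb : b ∈ E) :
    ProjectiveSpecialLinearGroup.toPGL (pr F I) ∈ (LL E).map (ProjGenLinGroup.map (n := Fin 2) E.subtype) ∧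
    ProjectiveSpecialLinearGroup.toPGL (pr F W) ∈ (LL E).map (ProjGenLinGroup.map (n := Fin 2) E.subtype) := by
  have h2E : (2 : F) ∈ E := by
    have := add_mem (one_mem E) (one_mem E)
    rwa [one_add_one_eq_two] at this
  have half : ∀ x y : F, 2 * x = y → y ∈ E → x ∈ E := by
    intro x y hxy hy
    have : x = 2⁻¹ * y := by rw [← hxy]; field_simp
    rw [this]; exact mul_mem (inv_mem h2E) hy
  constructor
  · apply mem_LL_map_of_entries
    · rw [h.I00]; exact zero_mem E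
    · rw [h.I01]; exact neg_mem (one_mem E)
    · rw [h.I10]; exact one_mem E
    · rw [h.I11]; exact zero_mem E
  · apply mem_LL_map_of_entries
    · exact half _ _ h.W00 (sub_mem (add_mem (one_mem E) ha) hb)
    · exact half _ _ h.W01 (sub_mem (add_mem ha hb) (one_mem E))
    · exact half _ _ h.W10 (add_mem (add_mem ha hb) (one_mem E))
    · exact half _ _ h.W11 (add_mem (sub_mem (one_mem E) ha) hb)

/-- the third generator of an icosahedral group has entries in `E` -/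
theorem ico_entries (h2 : (2 : F) ≠ 0) (E : Subfield F) (φ : F) (hφE : φ ∈ E) (hφ : φ * φ = φ + 1) {a b : F} {I J W : SpecialLinearGroup (Fin 2) F} (h : Quat F a b I J W) (ha : a ∈ E) (hb : b ∈ E)
    (s : ProjectiveSpecialLinearGroup (Fin 2) F) (hs1 : s ≠ 1) (hs : s * s = 1) (hsw1 : s * pr F W ≠ 1) (hsw : s * pr F W * (s * pr F W) = 1)
    (hsi1 : s * pr F I ≠ 1) (hsi : s * pr F I * (s * pr F I) * (s * pr F I) = 1) :
    ProjectiveSpecialLinearGroup.toPGL s ∈ (LL E).map (ProjGenLinGroup.map (n := Fin 2) E.subtype) := by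
  obtain ⟨S, rfl⟩ := pr_surj s
  have h2E : (2 : F) ∈ E := by
    have := add_mem (one_mem E) (one_mem E)
    rwa [one_add_one_eq_two] at this
  have half : ∀ x y : F, 2 * x = y → y ∈ E → x ∈ E := by
    intro x y hxy hy
    have : x = 2⁻¹ * y := by rw [← hxy]; field_simp
    rw [this]; exact mul_mem (inv_mem h2E) hy
  rw [← map_mul] at hsw1 hsw hsi1 hsi
  have t1 := trace_of_sq S hs1 hs
  have t2 := trace_of_sq (S * W) hsw1 hsw
  have t3 := trace_of_cube (S * I) hsi1 hsi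
  rw [CfsgLib.Fus21.PSL2.mul_apply', CfsgLib.Fus21.PSL2.mul_apply'] at t2 t3
  rw [h.I00, h.I01, h.I10, h.I11] at t3
  have hd := det2 S
  obtain ⟨x, hx⟩ : ∃ x, x = S 0 0 := ⟨_, rfl⟩
  obtain ⟨y, hy⟩ : ∃ y, y = S 0 1 := ⟨_, rfl⟩
  obtain ⟨z, hz⟩ : ∃ z, z = S 1 0 := ⟨_, rfl⟩
  have h11 : S 1 1 = -x := by rw [hx]; linear_combination t1
  rw [← hx, ← hy, ← hz, h11] at t2 t3 hd
  -- e = y - z
  have he : (y - z) * (y - z) = 1 := by linear_combination t3
  have hcases : y - z = 1 ∨ y - z = -1 := mul_self_eq_one_iff.mp he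
  have heE : y - z ∈ E := by
    rcases hcases with h | h
    · rw [h]; exact one_mem E
    · rw [h]; exact neg_mem (one_mem E)
  have L : 2 * x * (a - b) + (y + z) * (a + b) + (y - z) = 0 := by
    linear_combination 2 * t2 - x * h.W00 - y * h.W10 - z * h.W01 + x * h.W11
  have Q : (2 * x) * (2 * x) + (y + z) * (y + z) = -3 := by
    linear_combination (-4 : F) * hd + he
  have AB : (a - b) * (a - b) + (a + b) * (a + b) = -2 := by linear_combination 2 * h.hab
  obtain ⟨Y, hY⟩ : ∃ Y, Y = 2 * x * (a + b) - (y + z) * (a - b) := ⟨_, rfl⟩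
  have hYY : Y * Y = 5 := by
    rw [hY]
    linear_combination ((a - b) * (a - b) + (a + b) * (a + b)) * Q - 3 * AB - (2 * x * (a - b) + (y + z) * (a + b) - (y - z)) * L - he
  have h5 : (2 * φ - 1) * (2 * φ - 1) = 5 := by linear_combination 4 * hφ
  have hYE : Y ∈ E := by
    have h6 : Y = 2 * φ - 1 ∨ Y = -(2 * φ - 1) := mul_self_eq_mul_self_iff.mp (hYY.trans h5.symm)
    have h7 : 2 * φ - 1 ∈ E := sub_mem (mul_mem h2E hφE) (one_mem E)
    rcases h6 with h6 | h6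
    · rw [h6]; exact h7
    · rw [h6]; exact neg_mem h7
  have hX : 2 * (2 * x) = (a - b) * (y - z) - (a + b) * Y := by
    rw [hY]
    linear_combination (2 * x) * AB - (a - b) * L
  have hU : 2 * (y + z) = (a + b) * (y - z) + (a - b) * Y := by
    rw [hY]
    linear_combination (y + z) * AB - (a + b) * L
  have hXE : 2 * x ∈ E := half _ _ hX (sub_mem (mul_mem (sub_mem ha hb) heE) (mul_mem (add_mem ha hb) hYE))
  have hxE : x ∈ E := half _ _ rfl hXE
  have hUE : y + z ∈ E := half _ _ hU (add_mem (mul_mem (add_mem ha hb) heE) (mul_mem (sub_mem ha hb) hYE))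
  have hyE : y ∈ E := half y ((y + z) + (y - z)) (by ring) (add_mem hUE heE)
  have hzE : z ∈ E := half z ((y + z) - (y - z)) (by ring) (sub_mem hUE heE)
  apply mem_LL_map_of_entries
  · rw [← hx]; exact hxE
  · rw [← hy]; exact hyE
  · rw [← hz]; exact hzE
  · rw [h11]; exact neg_mem hxE

end

/-- explicit icosahedral generators of `A_5` -/
theorem exists_a5_ico : ∃ i w s : alternatingGroup (Fin 5), Ico i w s ∧ i ≠ 1 ∧ w ≠ 1 ∧ s ≠ 1 ∧ s * i ≠ 1 ∧ s * w ≠ 1 ∧
    (s * w * i) ^ 5 = 1 ∧ s * w * i ≠ 1 ∧ w * i * w⁻¹ ≠ 1 ∧ w * i * w⁻¹ ≠ i := by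
  refine ⟨⟨Equiv.swap 0 1 * Equiv.swap 2 3, Equiv.Perm.mem_alternatingGroup.mpr (by decide +kernel)⟩, ⟨Equiv.swap 0 1 * Equiv.swap 1 2, Equiv.Perm.mem_alternatingGroup.mpr (by decide +kernel)⟩,
    ⟨Equiv.swap 0 1 * Equiv.swap 3 4, Equiv.Perm.mem_alternatingGroup.mpr (by decide +kernel)⟩, ⟨?_, ?_, ?_, ?_, ?_, ?_, ?_⟩, ?_, ?_, ?_, ?_, ?_, ?_, ?_, ?_, ?_⟩ <;> decide +kernel

theorem closure_a5 {i w s : alternatingGroup (Fin 5)} (h : Ico i w s) (hi : i ≠ 1) (hw : w ≠ 1) (h5 : (s * w * i) ^ 5 = 1) (h51 : s * w * i ≠ 1)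
    (hj : w * i * w⁻¹ ≠ 1) (hji : w * i * w⁻¹ ≠ i) : Subgroup.closure ({i, w, s} : Set (alternatingGroup (Fin 5))) = ⊤ := by
  set C := Subgroup.closure ({i, w, s} : Set (alternatingGroup (Fin 5))) with hC
  have hiC : i ∈ C := Subgroup.subset_closure (by simp)
  have hwC : w ∈ C := Subgroup.subset_closure (by simp)
  have hsC : s ∈ C := Subgroup.subset_closure (by simp)
  have h3 : 3 ∣ Nat.card C := by
    have h1 : orderOf w = 3 := orderOf_eq_prime (by rw [pow_succ, pow_two]; exact h.w3) hw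
    have h2 : orderOf (⟨w, hwC⟩ : C) ∣ Nat.card C := orderOf_dvd_natCard _
    rwa [Subgroup.orderOf_mk, h1] at h2
  have h5' : 5 ∣ Nat.card C := by
    haveI : Fact (Nat.Prime 5) := ⟨Nat.prime_five⟩
    have h1 : orderOf (s * w * i) = 5 := orderOf_eq_prime h5 h51
    have h2 : orderOf (⟨s * w * i, mul_mem (mul_mem hsC hwC) hiC⟩ : C) ∣ Nat.card C := orderOf_dvd_natCard _
    rwa [Subgroup.orderOf_mk, h1] at h2
  have h4 : 4 ∣ Nat.card C := by
    have hjC : w * i * w⁻¹ ∈ C := mul_mem (mul_mem hwC hiC) (inv_mem hwC)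
    have hj2 : (w * i * w⁻¹) * (w * i * w⁻¹) = 1 := by
      calc (w * i * w⁻¹) * (w * i * w⁻¹) = w * (i * i) * w⁻¹ := by group
        _ = 1 := by rw [h.i2]; group
    have hk := kl_klein i (w * i * w⁻¹) h.i2 hj2 h.comm.symm hi hj hji
    have hle : kl i (w * i * w⁻¹) h.i2 hj2 h.comm.symm ≤ C := by
      intro x hx
      rcases hx with h | h | h | h <;> rw [h]
      · exact one_mem C
      · exact hiC
      · exact hjC
      · exact mul_mem hiC hjC
    have := Subgroup.card_dvd_of_le hle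
    rwa [hk.card_four] at this
  have h60 : 60 ∣ Nat.card C := by
    have h12 : 4 * 3 ∣ Nat.card C := Nat.Coprime.mul_dvd_of_dvd_of_dvd (by norm_num) h4 h3
    exact Nat.Coprime.mul_dvd_of_dvd_of_dvd (by norm_num) h12 h5'
  apply Subgroup.eq_top_of_card_eq
  apply le_antisymm (Subgroup.card_le_card_group C)
  rw [card_a5]
  exact Nat.le_of_dvd Nat.card_pos h60

set_option maxRecDepth 10000 in
theorem s4_pairs : ∀ i w : Equiv.Perm (Fin 4), (i * i = 1 ∧ i ≠ 1 ∧ w * w * w = 1 ∧ w ≠ 1 ∧ i * (w * i * w⁻¹) = (w * i * w⁻¹) * i) →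
    ∃ g : Equiv.Perm (Fin 4), g * i = (Equiv.swap 0 1 * Equiv.swap 2 3) * g ∧ g * w = (Equiv.swap 0 1 * Equiv.swap 1 2) * g := by decide +kernel

/-- pairs generating `A_4` are conjugate in `PGL_2(q)` -/
theorem pairs_conj {F : Type*} [Field F] [Fintype F] (hodd : Odd (Fintype.card F)) (i w i₀ w₀ : PGL(2, F))
    (hiL : i ∈ LL F) (hi₀L : i₀ ∈ LL F)
    (hi : i * i = 1) (hi1 : i ≠ 1) (hw : w * w * w = 1) (hw1 : w ≠ 1) (hc : i * (w * i * w⁻¹) = (w * i * w⁻¹) * i) (hcyc : w * (w * i * w⁻¹) * w⁻¹ = i * (w * i * w⁻¹)) (hji : w * i * w⁻¹ ≠ i)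
    (hi₀ : i₀ * i₀ = 1) (hi₀1 : i₀ ≠ 1) (hw₀ : w₀ * w₀ * w₀ = 1) (hw₀1 : w₀ ≠ 1) (hc₀ : i₀ * (w₀ * i₀ * w₀⁻¹) = (w₀ * i₀ * w₀⁻¹) * i₀) (hcyc₀ : w₀ * (w₀ * i₀ * w₀⁻¹) * w₀⁻¹ = i₀ * (w₀ * i₀ * w₀⁻¹)) (hji₀ : w₀ * i₀ * w₀⁻¹ ≠ i₀) :
    ∃ g : PGL(2, F), g * i * g⁻¹ = i₀ ∧ g * w * g⁻¹ = w₀ := by
  have conj2 : ∀ w i : PGL(2, F), i * i = 1 → (w * i * w⁻¹) * (w * i * w⁻¹) = 1 := by
    intro w i hi
    calc (w * i * w⁻¹) * (w * i * w⁻¹) = w * (i * i) * w⁻¹ := by group
      _ = 1 := by rw [hi]; group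
  have conj1 : ∀ w i : PGL(2, F), i ≠ 1 → w * i * w⁻¹ ≠ 1 := by
    intro w i hi h
    apply hi
    calc i = w⁻¹ * (w * i * w⁻¹) * w := by group
      _ = 1 := by rw [h]; group
  have hk := kl_klein i (w * i * w⁻¹) hi (conj2 w i hi) hc.symm hi1 (conj1 w i hi1) hji
  have hk₀ := kl_klein i₀ (w₀ * i₀ * w₀⁻¹) hi₀ (conj2 w₀ i₀ hi₀) hc₀.symm hi₀1 (conj1 w₀ i₀ hi₀1) hji₀
  set V := kl i (w * i * w⁻¹) hi (conj2 w i hi) hc.symm with hV
  set V₀ := kl i₀ (w₀ * i₀ * w₀⁻¹) hi₀ (conj2 w₀ i₀ hi₀) hc₀.symm with hV₀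
  have hVL : V ≤ LL F := by
    intro x hx
    rcases hx with h | h | h | h <;> rw [h]
    · exact one_mem _
    · exact hiL
    · exact LL_conj w i hiL
    · exact mul_mem hiL (LL_conj w i hiL)
  have hV₀L : V₀ ≤ LL F := by
    intro x hx
    rcases hx with h | h | h | h <;> rw [h]
    · exact one_mem _
    · exact hi₀L
    · exact LL_conj w₀ i₀ hi₀L
    · exact mul_mem hi₀L (LL_conj w₀ i₀ hi₀L)
  have wn : ∀ (w i : PGL(2, F)) (hi : i * i = 1) (hc : i * (w * i * w⁻¹) = (w * i * w⁻¹) * i) (hcyc : w * (w * i * w⁻¹) * w⁻¹ = i * (w * i * w⁻¹)),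
      w ∈ Subgroup.normalizer ((kl i (w * i * w⁻¹) hi (conj2 w i hi) hc.symm : Subgroup PGL(2, F)) : Set PGL(2, F)) := by
    intro w i hi hc hcyc
    have hle : (kl i (w * i * w⁻¹) hi (conj2 w i hi) hc.symm).map (MulAut.conj w).toMonoidHom ≤ kl i (w * i * w⁻¹) hi (conj2 w i hi) hc.symm := by
      rintro _ ⟨x, hx, rfl⟩
      rcases hx with h | h | h | h <;> rw [h]
      · left; show w * 1 * w⁻¹ = 1; group
      · right; right; left; rfl
      · right; right; right; exact hcyc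
      · right; left
        show w * (i * (w * i * w⁻¹)) * w⁻¹ = i
        calc w * (i * (w * i * w⁻¹)) * w⁻¹ = (w * i * w⁻¹) * (w * (w * i * w⁻¹) * w⁻¹) := by group
          _ = (w * i * w⁻¹) * (i * (w * i * w⁻¹)) := by rw [hcyc]
          _ = (w * i * w⁻¹) * ((w * i * w⁻¹) * i) := by rw [hc]
          _ = ((w * i * w⁻¹) * (w * i * w⁻¹)) * i := by group
          _ = i := by rw [conj2 w i hi, one_mul]
    rw [← conj_map_eq_iff]
    apply Subgroup.eq_of_le_of_card_ge hle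
    rw [Subgroup.card_map_of_injective (MulAut.conj w).injective]
  obtain ⟨g₁, hg₁⟩ := (pgl_klein hodd V hk hVL).2 V₀ hk₀ hV₀L
  obtain ⟨e⟩ := pgl_norm_iso hodd V₀ hk₀ hV₀L
  have hi' : g₁ * i * g₁⁻¹ ∈ V₀ := by
    rw [hg₁]
    exact Subgroup.mem_map_of_mem _ (Or.inr (Or.inl rfl))
  have hw' : g₁ * w * g₁⁻¹ ∈ Subgroup.normalizer (V₀ : Set PGL(2, F)) := by
    have h1 := wn w i hi hc hcyc
    rw [← hV, ← conj_map_eq_iff] at h1
    rw [← conj_map_eq_iff, hg₁, Subgroup.map_map]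
    have h2 : (MulAut.conj (g₁ * w * g₁⁻¹)).toMonoidHom.comp (MulAut.conj g₁).toMonoidHom = (MulAut.conj g₁).toMonoidHom.comp (MulAut.conj w).toMonoidHom := by
      ext x
      show g₁ * w * g₁⁻¹ * (g₁ * x * g₁⁻¹) * (g₁ * w * g₁⁻¹)⁻¹ = g₁ * (w * x * w⁻¹) * g₁⁻¹
      group
    rw [h2, ← Subgroup.map_map, h1]
  have hi0' : i₀ ∈ Subgroup.normalizer (V₀ : Set PGL(2, F)) := Subgroup.le_normalizer (Or.inr (Or.inl rfl))
  have hw0' : w₀ ∈ Subgroup.normalizer (V₀ : Set PGL(2, F)) := wn w₀ i₀ hi₀ hc₀ hcyc₀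
  have hi'' : g₁ * i * g₁⁻¹ ∈ Subgroup.normalizer (V₀ : Set PGL(2, F)) := Subgroup.le_normalizer hi'
  -- conjugate inside `S_4`
  have key : ∀ (i w : PGL(2, F)) (hiN : i ∈ Subgroup.normalizer (V₀ : Set PGL(2, F))) (hwN : w ∈ Subgroup.normalizer (V₀ : Set PGL(2, F))), i * i = 1 → i ≠ 1 → w * w * w = 1 → w ≠ 1 →
      i * (w * i * w⁻¹) = (w * i * w⁻¹) * i → ∃ g : Equiv.Perm (Fin 4), g * e ⟨i, hiN⟩ * g⁻¹ = Equiv.swap 0 1 * Equiv.swap 2 3 ∧ g * e ⟨w, hwN⟩ * g⁻¹ = Equiv.swap 0 1 * Equiv.swap 1 2 := by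
    intro i w hiN hwN h1 h2 h3 h4 h5
    obtain ⟨g, hg1, hg2⟩ := s4_pairs (e ⟨i, hiN⟩) (e ⟨w, hwN⟩) ⟨by rw [← map_mul, ← map_one e]; exact congrArg e (Subtype.ext h1),
      by intro h; rw [← map_one e] at h; exact h2 (congrArg Subtype.val (e.injective h)),
      by rw [← map_mul, ← map_mul, ← map_one e]; exact congrArg e (Subtype.ext h3),
      by intro h; rw [← map_one e] at h; exact h4 (congrArg Subtype.val (e.injective h)),
      by rw [← map_inv, ← map_mul, ← map_mul, ← map_mul, ← map_mul]; exact congrArg e (Subtype.ext h5)⟩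
    exact ⟨g, by rw [hg1, mul_inv_cancel_right], by rw [hg2, mul_inv_cancel_right]⟩
  have cj : ∀ g x y : PGL(2, F), (g * x * g⁻¹) * (g * y * g⁻¹) = g * (x * y) * g⁻¹ := by intro g x y; group
  have cji : ∀ g x : PGL(2, F), (g * x * g⁻¹)⁻¹ = g * x⁻¹ * g⁻¹ := by intro g x; group
  obtain ⟨u, hu1, hu2⟩ := key (g₁ * i * g₁⁻¹) (g₁ * w * g₁⁻¹) hi'' hw' (by rw [cj, hi]; group) (conj1 g₁ i hi1) (by rw [cj, cj, hw]; group) (conj1 g₁ w hw1)
    (by rw [cji, cj, cj, cj, cj, hc])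
  obtain ⟨v, hv1, hv2⟩ := key i₀ w₀ hi0' hw0' hi₀ hi₀1 hw₀ hw₀1 hc₀
  obtain ⟨h, hh⟩ := e.surjective (v⁻¹ * u)
  have f1 : (h : PGL(2, F)) * (g₁ * i * g₁⁻¹) * (h : PGL(2, F))⁻¹ = i₀ := by
    have : h * ⟨g₁ * i * g₁⁻¹, hi''⟩ * h⁻¹ = ⟨i₀, hi0'⟩ := by
      apply e.injective
      rw [map_mul, map_mul, map_inv, hh]
      calc v⁻¹ * u * e ⟨g₁ * i * g₁⁻¹, hi''⟩ * (v⁻¹ * u)⁻¹ = v⁻¹ * (u * e ⟨g₁ * i * g₁⁻¹, hi''⟩ * u⁻¹) * v := by group
        _ = v⁻¹ * (v * e ⟨i₀, hi0'⟩ * v⁻¹) * v := by rw [hu1, hv1]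
        _ = _ := by group
    exact congrArg Subtype.val this
  have f2 : (h : PGL(2, F)) * (g₁ * w * g₁⁻¹) * (h : PGL(2, F))⁻¹ = w₀ := by
    have : h * ⟨g₁ * w * g₁⁻¹, hw'⟩ * h⁻¹ = ⟨w₀, hw0'⟩ := by
      apply e.injective
      rw [map_mul, map_mul, map_inv, hh]
      calc v⁻¹ * u * e ⟨g₁ * w * g₁⁻¹, hw'⟩ * (v⁻¹ * u)⁻¹ = v⁻¹ * (u * e ⟨g₁ * w * g₁⁻¹, hw'⟩ * u⁻¹) * v := by group
        _ = v⁻¹ * (v * e ⟨w₀, hw0'⟩ * v⁻¹) * v := by rw [hu2, hv2]
        _ = _ := by group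
    exact congrArg Subtype.val this
  refine ⟨h * g₁, ?_, ?_⟩
  · rw [← f1]; group
  · rw [← f2]; group

/-- an icosahedral subgroup descends to any subfield containing the golden ratio -/
theorem a5_descent {F : Type*} [Field F] [Fintype F] (hodd : Odd (Fintype.card F)) (E : Subfield F) (φ : F) (hφE : φ ∈ E) (hφ : φ * φ = φ + 1)
    (M : Subgroup (ProjectiveSpecialLinearGroup (Fin 2) F)) (e : M ≃* alternatingGroup (Fin 5)) :
    ∃ g : PGL(2, F), ∀ x ∈ M, g * ProjectiveSpecialLinearGroup.toPGL x * g⁻¹ ∈ (LL E).map (ProjGenLinGroup.map (n := Fin 2) E.subtype) := by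
  classical
  have h2 := two_ne_zero_of_odd hodd
  have hEo : Odd (Fintype.card E) := by rw [← Nat.card_eq_fintype_card]; exact odd_subfield hodd E
  obtain ⟨p, hp⟩ := CharP.exists E
  haveI := Fact.mk (CharP.char_is_prime E p)
  obtain ⟨a, b, hab⟩ : ∃ a b : E, a * a + b * b = -1 := by
    obtain ⟨a, b, h⟩ := CfsgLib.Fus21.PSL2.sq_sum (F := E) (Nat.odd_iff.mp hEo) (-1)
    exact ⟨a, b, by rw [← h]; ring⟩
  have habF : (a : F) * a + (b : F) * b = -1 := by exact_mod_cast congrArg Subtype.val hab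
  obtain ⟨I, J, W, hQ⟩ := exists_quat h2 (a : F) (b : F) habF
  have hQI := (quat_entries h2 E hQ a.2 b.2).1
  have hQW := (quat_entries h2 E hQ a.2 b.2).2
  obtain ⟨i, w, s, hI, hi1, hw1, hs1, hsi1, hsw1, h5, h51, hj1, hji⟩ := exists_a5_ico
  have hcl := closure_a5 hI hi1 hw1 h5 h51 hj1 hji
  let f : alternatingGroup (Fin 5) →* PGL(2, F) := (ProjectiveSpecialLinearGroup.toPGL.comp M.subtype).comp e.symm.toMonoidHom
  have hf : Function.Injective f := ((show Function.Injective (ProjectiveSpecialLinearGroup.toPGL : ProjectiveSpecialLinearGroup (Fin 2) F →* PGL(2, F)) from ProjectiveSpecialLinearGroup.toPGL_injective).comp M.subtype_injective).comp e.symm.injective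
  have hfL : ∀ x, f x ∈ LL F := fun x => toPGL_mem _
  have hne : ∀ x, x ≠ 1 → f x ≠ 1 := fun x hx h => hx (hf (h.trans (map_one f).symm))
  set P : ProjectiveSpecialLinearGroup (Fin 2) F →* PGL(2, F) := ProjectiveSpecialLinearGroup.toPGL with hP
  have hPi : Function.Injective P := ProjectiveSpecialLinearGroup.toPGL_injective
  have hPne : ∀ x, x ≠ 1 → P x ≠ 1 := fun x hx h => hx (hPi (h.trans (map_one P).symm))
  have hI1 : pr F I ≠ 1 := pr_ne_one_of_trace h2 I (by rw [hQ.I00, hQ.I11, add_zero])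
  have hJ1 : pr F (I * J) ≠ 1 := pr_ne_one_of_trace h2 (I * J) (by rw [hQ.K.1, hQ.K.2.2.2]; ring)
  have hji0 : P (pr F W) * P (pr F I) * (P (pr F W))⁻¹ ≠ P (pr F I) := by
    rw [← map_inv, ← map_mul, ← map_mul, hQ.wiw h2]
    intro h
    have h3 := hPi h
    apply hJ1
    rw [map_mul, h3]; exact hQ.i2
  have hW1 : pr F W ≠ 1 := by
    intro h
    apply hji0
    rw [h, map_one]; group
  obtain ⟨g, hg1, hg2⟩ := pairs_conj hodd (f i) (f w) (P (pr F I)) (P (pr F W)) (hfL i) (toPGL_mem _)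
    (by rw [← map_mul, hI.i2, map_one]) (hne i hi1) (by rw [← map_mul, ← map_mul, hI.w3, map_one]) (hne w hw1)
    (by rw [← map_inv, ← map_mul, ← map_mul, ← map_mul, ← map_mul, hI.comm]) (by rw [← map_inv, ← map_mul, ← map_mul, ← map_mul, ← map_mul, ← map_mul, hI.cyc])
    (by rw [← map_inv, ← map_mul, ← map_mul]; exact fun h => hji (hf h))
    (by rw [← map_mul, hQ.i2, map_one]) (hPne _ hI1) (by rw [← map_mul, ← map_mul, hQ.w3 h2, map_one]) (hPne _ hW1)
    (by rw [← map_inv P, ← map_mul P, ← map_mul P, hQ.wiw h2, ← map_mul P, ← map_mul P, hQ.comm]) (by rw [← map_inv P, ← map_mul P, ← map_mul P, hQ.wiw h2, ← map_mul P, ← map_mul P, hQ.wjw h2, map_mul P])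
    hji0
  -- the element `s`
  have hsL : g * f s * g⁻¹ ∈ LL F := LL_conj g _ (hfL s)
  rw [← toPGL_range] at hsL
  obtain ⟨s', hs'⟩ := hsL
  have hs'' : P s' = g * f s * g⁻¹ := hs'
  have cj : ∀ x y : PGL(2, F), (g * x * g⁻¹) * (g * y * g⁻¹) = g * (x * y) * g⁻¹ := by intro x y; group
  have cj1 : ∀ x : PGL(2, F), x ≠ 1 → g * x * g⁻¹ ≠ 1 := by
    intro x hx h
    apply hx
    calc x = g⁻¹ * (g * x * g⁻¹) * g := by group
      _ = 1 := by rw [h]; group
  have esw : P (s' * pr F W) = g * f (s * w) * g⁻¹ := by rw [map_mul, hs'', ← hg2, cj, map_mul]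
  have esi : P (s' * pr F I) = g * f (s * i) * g⁻¹ := by rw [map_mul, hs'', ← hg1, cj, map_mul]
  have hfin := ico_entries h2 E φ hφE hφ hQ a.2 b.2 s'
    (by
      intro h
      rw [h, map_one] at hs''
      exact cj1 _ (hne s hs1) hs''.symm)
    (by
      apply hPi
      rw [map_mul, hs'', cj, ← map_mul, hI.s2, map_one, map_one]; group)
    (by
      intro h
      rw [h, map_one] at esw
      exact cj1 _ (hne _ hsw1) esw.symm)
    (by
      apply hPi
      rw [map_mul P, esw, cj, ← map_mul, show s * w * (s * w) = 1 by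
        have := hI.sw
        calc s * w * (s * w) = (s * w * s) * w := by group
          _ = 1 := by rw [this]; group, map_one, map_one]; group)
    (by
      intro h
      rw [h, map_one] at esi
      exact cj1 _ (hne _ hsi1) esi.symm)
    (by
      apply hPi
      rw [map_mul P, map_mul P, esi, cj, cj, ← map_mul, ← map_mul, show s * i * (s * i) * (s * i) = 1 by
        have := hI.si
        rw [← this]; group, map_one, map_one]; group)
  refine ⟨g, ?_⟩
  -- closure argument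
  have hall : (⊤ : Subgroup (alternatingGroup (Fin 5))) ≤ (((LL E).map (ProjGenLinGroup.map (n := Fin 2) E.subtype)).comap ((MulAut.conj g).toMonoidHom.comp f)) := by
    rw [← hcl, Subgroup.closure_le]
    rintro x (rfl | rfl | rfl)
    · rw [SetLike.mem_coe, Subgroup.mem_comap]
      show g * f x * g⁻¹ ∈ (LL E).map (ProjGenLinGroup.map (n := Fin 2) E.subtype)
      rw [hg1]; exact hQI
    · rw [SetLike.mem_coe, Subgroup.mem_comap]
      show g * f x * g⁻¹ ∈ (LL E).map (ProjGenLinGroup.map (n := Fin 2) E.subtype)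
      rw [hg2]; exact hQW
    · rw [SetLike.mem_coe, Subgroup.mem_comap]
      show g * f x * g⁻¹ ∈ (LL E).map (ProjGenLinGroup.map (n := Fin 2) E.subtype)
      rw [← hs'']; exact hfin
  intro x hx
  have h3 := hall (Subgroup.mem_top (e ⟨x, hx⟩))
  rw [Subgroup.mem_comap] at h3
  change g * f (e ⟨x, hx⟩) * g⁻¹ ∈ (LL E).map (ProjGenLinGroup.map (n := Fin 2) E.subtype) at h3
  have h4 : f (e ⟨x, hx⟩) = P x := by
    show P (M.subtype (e.symm (e ⟨x, hx⟩))) = P x
    rw [e.symm_apply_apply]; rfl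
  rwa [h4] at h3

end CfsgLib.Dk29
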