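import Cfsg.Agent.LibDkFF29

set_option autoImplicit false

/-! Exclusions of small maximal subgroups. -/

namespace CfsgLib.Dk29

open MulAction Matrix OnePoint
open scoped MatrixGroups

section gen
variable {G : Type*} [Group G] [Finite G]

theorem sylow_in (p a : ℕ) [hp : Fact p.Prime] (h2 : ¬ p ^ (a + 1) ∣ Nat.card G) (A : Subgroup G) (hA : p ^ a ∣ Nat.card A) :
    ∃ S : Sylow p G, (S : Subgroup G) ≤ A ∧ Nat.card S = p ^ a := by
  obtain ⟨P⟩ : Nonempty (Sylow p A) := inferInstance
  have hP : Nat.card P = p ^ a := sylow_card_of p P a hA (fun h => h2 (h.trans (Subgroup.card_subgroup_dvd_card A)))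
  have hP' : Nat.card ((P : Subgroup A).map A.subtype) = p ^ a := by
    rw [Subgroup.card_map_of_injective A.subtype_injective]; exact hP
  have hpg : IsPGroup p ((P : Subgroup A).map A.subtype) := IsPGroup.of_card hP'
  obtain ⟨S, hS⟩ := hpg.exists_le_sylow
  obtain ⟨k, hk⟩ := S.2.exists_card_eq
  have hk' : Nat.card (S : Subgroup G) = p ^ k := hk
  have hka : k ≤ a := by
    by_contra hlt
    push Not at hlt
    apply h2
    calc p ^ (a + 1) ∣ p ^ k := pow_dvd_pow p hlt
      _ = Nat.card (S : Subgroup G) := hk'.symm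
      _ ∣ _ := Subgroup.card_subgroup_dvd_card _
  have heq : (P : Subgroup A).map A.subtype = (S : Subgroup G) := by
    apply Subgroup.eq_of_le_of_card_ge hS
    rw [hP', hk']
    exact Nat.pow_le_pow_right hp.out.pos hka
  refine ⟨S, ?_, ?_⟩
  · rw [← heq]
    rintro _ ⟨x, -, rfl⟩
    exact x.2
  · show Nat.card (S : Subgroup G) = p ^ a
    rw [← heq, hP']

theorem map_conj_ne_top (A : Subgroup G) (hA : A ≠ ⊤) (g : G) : A.map (MulAut.conj g).toMonoidHom ≠ ⊤ := by
  intro h
  apply hA
  apply Subgroup.eq_top_of_card_eq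
  rw [← conj_of_normalizer_card (V := A) g, h, Subgroup.card_top]

theorem max_card_of_le_conj (M A : Subgroup G) (hM : IsCoatom M) (hA : A ≠ ⊤) (g : G) (h : M ≤ A.map (MulAut.conj g).toMonoidHom) : Nat.card M = Nat.card A := by
  have h1 : M = A.map (MulAut.conj g).toMonoidHom := by
    by_contra hne
    exact map_conj_ne_top A hA g (hM.2 _ (lt_of_le_of_ne h hne))
  rw [h1]
  exact Subgroup.card_map_of_injective (MulAut.conj g).injective

/-- a maximal Sylow subgroup -/
theorem excl_sylow (p a : ℕ) [hp : Fact p.Prime] (h2 : ¬ p ^ (a + 1) ∣ Nat.card G) (M A : Subgroup G) (hM : IsCoatom M) (hMc : Nat.card M = p ^ a)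
    (hA : A ≠ ⊤) (hAc : p ^ a ∣ Nat.card A) : Nat.card A = p ^ a := by
  obtain ⟨S, hS, hSc⟩ := sylow_in p a h2 A hAc
  obtain ⟨T, hT, hTc⟩ := sylow_in p a h2 M (by rw [hMc])
  have hTM : (T : Subgroup G) = M := Subgroup.eq_of_le_of_card_ge hT (by rw [hMc]; exact hTc.symm.le)
  obtain ⟨g, hg⟩ := MulAction.exists_smul_eq G S T
  have h3 : M ≤ A.map (MulAut.conj g).toMonoidHom := by
    rw [← hTM, ← hg, Sylow.coe_subgroup_smul]
    rintro _ ⟨x, hx, rfl⟩
    exact ⟨x, hS hx, rfl⟩
  rw [← max_card_of_le_conj M A hM hA g h3, hMc]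

theorem excl_prime [IsSimpleGroup G] (r : ℕ) [hr : Fact r.Prime] (M A : Subgroup G) (hM : IsCoatom M) (hMc : Nat.card M = 2 * r)
    (hAt : A ≠ ⊤) (hrA : r ∣ Nat.card A) (hAc : Nat.card A ≠ 2 * r) (hmod : (Nat.card A / r) % r ≠ 1 % r) (hG : ¬ r ^ 2 ∣ Nat.card G) : False := by
  obtain ⟨S, hS, hSc⟩ := sylow_in r 1 hG A (by rwa [pow_one])
  obtain ⟨T, hT, hTc⟩ := sylow_in r 1 hG M (by rw [pow_one, hMc]; exact dvd_mul_left r 2)
  rw [pow_one] at hSc hTc
  obtain ⟨g, hg⟩ := MulAction.exists_smul_eq G S T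
  have hr1 := hr.out.one_lt
  have hTM : (T : Subgroup G) ≤ M := hT
  -- `M` normalizes `T`
  have hMN : M ≤ Subgroup.normalizer ((T : Subgroup G) : Set G) := by
    have h1 : ((T : Subgroup G).subgroupOf M).index = 2 := by
      have h2 := Subgroup.card_mul_index ((T : Subgroup G).subgroupOf M)
      rw [Nat.card_congr (Subgroup.subgroupOfEquivOfLe hTM).toEquiv, hMc] at h2
      have h3 : Nat.card (T : Subgroup G) = r := hTc
      rw [h3, mul_comm] at h2
      exact Nat.eq_of_mul_eq_mul_right (by omega) h2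
    have h2 : ((T : Subgroup G).subgroupOf M).Normal := Subgroup.normal_of_index_eq_two h1
    exact Subgroup.normal_subgroupOf_iff_le_normalizer hTM |>.mp h2
  have hNt : Subgroup.normalizer ((T : Subgroup G) : Set G) ≠ ⊤ := by
    apply sylow_index r T
    · intro h
      have h3 : Nat.card (T : Subgroup G) = r := hTc
      rw [h, Subgroup.card_bot] at h3
      omega
    · intro h
      rw [h, top_le_iff] at hT
      exact hM.1 hT
  have hMeq : M = Subgroup.normalizer ((T : Subgroup G) : Set G) := by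
    by_contra hne
    exact hNt (hM.2 _ (lt_of_le_of_ne hMN hne))
  set A' := A.map (MulAut.conj g).toMonoidHom with hA'
  have hA'c : Nat.card A' = Nat.card A := Subgroup.card_map_of_injective (MulAut.conj g).injective
  have hTA : (T : Subgroup G) ≤ A' := by
    rw [← hg, Sylow.coe_subgroup_smul]
    rintro _ ⟨x, hx, rfl⟩
    exact ⟨x, hS hx, rfl⟩
  -- Sylow in A'
  have hrA2 : ¬ r ^ 2 ∣ Nat.card A' := fun h => hG (h.trans (Subgroup.card_subgroup_dvd_card A'))
  have hTA'c : Nat.card ((T : Subgroup G).subgroupOf A') = r := by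
    rw [Nat.card_congr (Subgroup.subgroupOfEquivOfLe hTA).toEquiv]; exact hTc
  obtain ⟨P, hP⟩ : ∃ P : Sylow r A', (P : Subgroup A') = (T : Subgroup G).subgroupOf A' := by
    have hpg : IsPGroup r ((T : Subgroup G).subgroupOf A') := IsPGroup.of_card (n := 1) (by rw [hTA'c, pow_one])
    obtain ⟨P, hP⟩ := hpg.exists_le_sylow
    refine ⟨P, ?_⟩
    symm
    apply Subgroup.eq_of_le_of_card_ge hP
    rw [hTA'c]
    have h3 := sylow_card_of r P 1 (by rw [pow_one, hA'c]; exact hrA) hrA2
    rw [pow_one] at h3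
    exact h3.le
  have h4 := P.card_eq_index_normalizer
  have h5 : Nat.card (Sylow r A') % r = 1 % r := card_sylow_modEq_one r A'
  have hP2 : (P : Set A') = (((T : Subgroup G).subgroupOf A' : Subgroup A') : Set A') := by rw [← hP]; rfl
  rw [h4, hP2] at h5
  set N := Subgroup.normalizer (((T : Subgroup G).subgroupOf A' : Subgroup A') : Set A') with hN
  have h6 := Subgroup.card_mul_index N
  have hrN : r ∣ Nat.card N := by
    rw [← hTA'c]
    exact Subgroup.card_dvd_of_le Subgroup.le_normalizer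
  have hNM : N.map A'.subtype ≤ M := by
    rw [hMeq]
    rintro _ ⟨x, hx, rfl⟩
    rw [SetLike.mem_coe, Subgroup.mem_normalizer_iff] at hx
    rw [Subgroup.mem_normalizer_iff]
    intro y
    constructor
    · intro hy
      have h7 := (hx ⟨y, hTA hy⟩).mp hy
      exact h7
    · intro hy
      have h8 : y ∈ A' := by
        have h9 := hTA hy
        have h10 : y = (x : G)⁻¹ * ((x : G) * y * (x : G)⁻¹) * x := by group
        rw [h10]
        exact mul_mem (mul_mem (inv_mem x.2) h9) x.2
      exact (hx ⟨y, h8⟩).mpr hy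
  have hNc : Nat.card (N.map A'.subtype) = Nat.card N := Subgroup.card_map_of_injective A'.subtype_injective
  have hNd : Nat.card N ∣ 2 * r := by
    rw [← hNc, ← hMc]; exact Subgroup.card_dvd_of_le hNM
  obtain ⟨c, hc⟩ := hrN
  rw [hc, mul_comm 2] at hNd
  have hc2 : c ∣ 2 := Nat.dvd_of_mul_dvd_mul_left (by omega) hNd
  have hc12 : c = 1 ∨ c = 2 := (Nat.dvd_prime Nat.prime_two).mp hc2
  rcases hc12 with hc1 | hc1
  · rw [hc1, mul_one] at hc
    rw [hc, hA'c] at h6
    apply hmod
    rw [← h6, Nat.mul_div_cancel_left _ (by omega)]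
    exact h5
  · rw [hc1] at hc
    have h7 : N.map A'.subtype = M := Subgroup.eq_of_le_of_card_ge hNM (by rw [hNc, hMc, hc]; omega)
    have h8 : M ≤ A' := by
      rw [← h7]
      rintro _ ⟨x, -, rfl⟩
      exact x.2
    have h9 := max_card_of_le_conj M A hM hAt g h8
    omega

end gen

end CfsgLib.Dk29
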