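import Cfsg.Agent.LibDkGG29

set_option autoImplicit false

/-! Case analysis for maximal subgroups of `PSL_2(q)`, `q` odd. -/

namespace CfsgLib.Dk29

open MulAction Matrix OnePoint
open scoped MatrixGroups

theorem pslGen {F : Type*} [Field F] (S : Subgroup PGL(2, F)) (hS : S ≤ LL F) (g : PGL(2, F)) :
    ∃ B : Subgroup (ProjectiveSpecialLinearGroup (Fin 2) F), Nat.card B = Nat.card S ∧ ∀ x, x ∈ B ↔ g * ProjectiveSpecialLinearGroup.toPGL x * g⁻¹ ∈ S := by
  let S' : Subgroup PGL(2, F) := S.comap (MulAut.conj g).toMonoidHom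
  refine ⟨S'.comap ProjectiveSpecialLinearGroup.toPGL, ?_, fun x => Iff.rfl⟩
  have h1 : S' ≤ (ProjectiveSpecialLinearGroup.toPGL : ProjectiveSpecialLinearGroup (Fin 2) F →* PGL(2, F)).range := by
    intro x hx
    have hx' : g * x * g⁻¹ ∈ S := hx
    rw [toPGL_range]
    have h2 := LL_conj g⁻¹ _ (hS hx')
    have h3 : g⁻¹ * (g * x * g⁻¹) * g⁻¹⁻¹ = x := by group
    rwa [h3] at h2
  have h2 : Nat.card (S'.comap ProjectiveSpecialLinearGroup.toPGL) = Nat.card S' := by
    rw [← Subgroup.card_map_of_injective (K := S'.comap ProjectiveSpecialLinearGroup.toPGL) (ProjectiveSpecialLinearGroup.toPGL_injective (n := Fin 2) (R := F)), Subgroup.map_comap_eq, inf_eq_right.mpr h1]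
  rw [h2]
  have h4 : S = S'.map (MulAut.conj g).toMonoidHom := by
    rw [Subgroup.map_comap_eq_self_of_surjective]
    exact (MulAut.conj g).surjective
  rw [h4]
  exact (conj_of_normalizer_card (V := S') g).symm

section gen
variable {G : Type*} [Group G]

/-- normal four-group transported along an isomorphism -/
theorem klein_of_iso (M : Subgroup G) {Q : Type*} [Group Q] (e : M ≃* Q)
    (hQ : ∃ a b : Q, a * a = 1 ∧ b * b = 1 ∧ b * a = a * b ∧ a ≠ 1 ∧ b ≠ 1 ∧ b ≠ a ∧
      (∀ g : Q, (g * a * g⁻¹ = a ∨ g * a * g⁻¹ = b ∨ g * a * g⁻¹ = a * b) ∧ (g * b * g⁻¹ = a ∨ g * b * g⁻¹ = b ∨ g * b * g⁻¹ = a * b))) :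
    ∃ V : Subgroup G, IsKleinFour V ∧ V ≤ M ∧ M ≤ Subgroup.normalizer (V : Set G) := by
  obtain ⟨a, b, ha, hb, hab, ha1, hb1, hne, hn⟩ := hQ
  have hVk := kl_klein a b ha hb hab ha1 hb1 hne
  set V := kl a b ha hb hab with hV
  let f : Q →* G := M.subtype.comp e.symm.toMonoidHom
  have hf : Function.Injective f := M.subtype_injective.comp e.symm.injective
  refine ⟨V.map f, klein_map f hf V hVk, ?_, ?_⟩
  · rintro _ ⟨x, -, rfl⟩
    exact (e.symm x).2
  · intro g hg
    obtain ⟨q, hq⟩ : ∃ q : Q, f q = g := ⟨e ⟨g, hg⟩, by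
      show M.subtype (e.symm (e ⟨g, hg⟩)) = g
      rw [e.symm_apply_apply]; rfl⟩
    rw [← hq]
    have h1 : q ∈ Subgroup.normalizer (V : Set Q) := by
      rw [← conj_map_eq_iff]
      have hle : V.map (MulAut.conj q).toMonoidHom ≤ V := by
        have hqa : q * a * q⁻¹ ∈ V := by
          rcases (hn q).1 with h | h | h <;> rw [h]
          · exact Or.inr (Or.inl rfl)
          · exact Or.inr (Or.inr (Or.inl rfl))
          · exact Or.inr (Or.inr (Or.inr rfl))
        have hqb : q * b * q⁻¹ ∈ V := by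
          rcases (hn q).2 with h | h | h <;> rw [h]
          · exact Or.inr (Or.inl rfl)
          · exact Or.inr (Or.inr (Or.inl rfl))
          · exact Or.inr (Or.inr (Or.inr rfl))
        rintro _ ⟨x, hx, rfl⟩
        rcases hx with h | h | h | h <;> rw [h]
        · have : (MulAut.conj q).toMonoidHom 1 = 1 := map_one _
          rw [this]; exact one_mem V
        · exact hqa
        · exact hqb
        · rw [map_mul]; exact mul_mem hqa hqb
      haveI : Finite V := Nat.finite_of_card_ne_zero (by rw [hVk.card_four]; norm_num)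
      apply Subgroup.eq_of_le_of_card_ge hle
      rw [conj_of_normalizer_card]
    have h2 : f q ∈ (Subgroup.normalizer (V : Set Q)).map f := Subgroup.mem_map_of_mem f h1
    exact Subgroup.le_normalizer_map f h2

end gen

theorem a4_normal_klein : ∃ a b : alternatingGroup (Fin 4), a * a = 1 ∧ b * b = 1 ∧ b * a = a * b ∧ a ≠ 1 ∧ b ≠ 1 ∧ b ≠ a ∧
      (∀ g : alternatingGroup (Fin 4), (g * a * g⁻¹ = a ∨ g * a * g⁻¹ = b ∨ g * a * g⁻¹ = a * b) ∧ (g * b * g⁻¹ = a ∨ g * b * g⁻¹ = b ∨ g * b * g⁻¹ = a * b)) := by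
  refine ⟨⟨Equiv.swap 0 1 * Equiv.swap 2 3, Equiv.Perm.mem_alternatingGroup.mpr (by decide +kernel)⟩, ⟨Equiv.swap 0 2 * Equiv.swap 1 3, Equiv.Perm.mem_alternatingGroup.mpr (by decide +kernel)⟩, ?_⟩
  decide +kernel

theorem s4_normal_klein : ∃ a b : Equiv.Perm (Fin 4), a * a = 1 ∧ b * b = 1 ∧ b * a = a * b ∧ a ≠ 1 ∧ b ≠ 1 ∧ b ≠ a ∧
      (∀ g : Equiv.Perm (Fin 4), (g * a * g⁻¹ = a ∨ g * a * g⁻¹ = b ∨ g * a * g⁻¹ = a * b) ∧ (g * b * g⁻¹ = a ∨ g * b * g⁻¹ = b ∨ g * b * g⁻¹ = a * b)) := by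
  refine ⟨Equiv.swap 0 1 * Equiv.swap 2 3, Equiv.swap 0 2 * Equiv.swap 1 3, ?_⟩
  decide +kernel

section main
variable {F : Type*} [Field F] [Fintype F]

theorem psl_card_ge (hodd : Odd (Fintype.card F)) (h5 : 5 ≤ Fintype.card F) : 60 ≤ Nat.card (ProjectiveSpecialLinearGroup (Fin 2) F) := by
  have h1 := psl_odd_card (F := F) hodd
  have h2 : 5 * (4 * 6) ≤ Fintype.card F * ((Fintype.card F - 1) * (Fintype.card F + 1)) := Nat.mul_le_mul h5 (Nat.mul_le_mul (by omega) (by omega))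
  omega

theorem norm_ne_top (hodd : Odd (Fintype.card F)) (h5 : 5 ≤ Fintype.card F) (V : Subgroup (ProjectiveSpecialLinearGroup (Fin 2) F)) (hV : IsKleinFour V) :
    Subgroup.normalizer (V : Set (ProjectiveSpecialLinearGroup (Fin 2) F)) ≠ ⊤ := by
  intro h
  have h1 := Nat.le_of_dvd (by norm_num) (psl_norm_dvd hodd V hV)
  rw [h, Subgroup.card_top] at h1
  have := psl_card_ge hodd h5
  omega

theorem mod8_cases (hodd : Odd (Fintype.card F)) : (Fintype.card F % 8 = 3 ∨ Fintype.card F % 8 = 5) ∨ (Fintype.card F % 8 = 1 ∨ Fintype.card F % 8 = 7) := by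
  obtain ⟨c, hc⟩ := hodd
  omega

theorem excl_dih (hodd : Odd (Fintype.card F)) (h5 : 5 ≤ Fintype.card F) (M : Subgroup (ProjectiveSpecialLinearGroup (Fin 2) F)) (hM : IsCoatom M) (n : ℕ) (e : M ≃* DihedralGroup n) :
    n ≠ 2 ∧ (Fintype.card F = 7 → n ≠ 3 ∧ n ≠ 4) ∧ (Fintype.card F = 9 → n ≠ 4 ∧ n ≠ 5) ∧ (Fintype.card F = 11 → n ≠ 5) := by
  have hc : Nat.card M = 2 * n := by rw [Nat.card_congr e.toEquiv, DihedralGroup.nat_card]
  have hG := psl_odd_card (F := F) hodd
  haveI := psl_simple (F := F) (by omega)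
  have hs4 : (Fintype.card F % 8 = 1 ∨ Fintype.card F % 8 = 7) → ∃ A : Subgroup (ProjectiveSpecialLinearGroup (Fin 2) F), A ≠ ⊤ ∧ Nat.card A = 24 := by
    intro h
    obtain ⟨V, hV⟩ := exists_klein (F := F) hodd
    exact ⟨_, norm_ne_top hodd h5 V hV, psl_norm_24 h V hV⟩
  have ha5 : 5 ∣ Nat.card (ProjectiveSpecialLinearGroup (Fin 2) F) → 60 < Nat.card (ProjectiveSpecialLinearGroup (Fin 2) F) → ∃ A : Subgroup (ProjectiveSpecialLinearGroup (Fin 2) F), A ≠ ⊤ ∧ Nat.card A = 60 := by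
    intro h h60
    obtain ⟨A, ⟨eA⟩⟩ := exists_a5 hodd h
    have hA : Nat.card A = 60 := by rw [Nat.card_congr eA.toEquiv, card_a5]
    refine ⟨A, ?_, hA⟩
    rintro rfl
    rw [Subgroup.card_top] at hA
    omega
  refine ⟨?_, ?_, ?_, ?_⟩
  · rintro rfl
    have hMk : IsKleinFour M := ⟨by rw [hc], by rw [Monoid.exponent_eq_of_mulEquiv e]; exact IsKleinFour.exponent_two⟩
    have h1 : M = Subgroup.normalizer (M : Set (ProjectiveSpecialLinearGroup (Fin 2) F)) := by
      by_contra hne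
      exact norm_ne_top hodd h5 M hMk (hM.2 _ (lt_of_le_of_ne Subgroup.le_normalizer hne))
    have h2 : Nat.card (Subgroup.normalizer (M : Set (ProjectiveSpecialLinearGroup (Fin 2) F))) = 4 := by rw [← h1, hc]
    rcases mod8_cases (F := F) hodd with h | h
    · have := psl_norm_twelve h M hMk; omega
    · have := psl_norm_24 h M hMk; omega
  · intro h7
    rw [h7] at hG
    have hG' : Nat.card (ProjectiveSpecialLinearGroup (Fin 2) F) = 168 := by norm_num at hG; omega
    obtain ⟨A, hA, hAc⟩ := hs4 (by rw [h7]; norm_num)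
    constructor
    · rintro rfl
      haveI : Fact (Nat.Prime 3) := ⟨Nat.prime_three⟩
      exact excl_prime 3 M A hM hc hA (by rw [hAc]; norm_num) (by rw [hAc]; norm_num) (by rw [hAc]; norm_num) (by rw [hG']; norm_num)
    · rintro rfl
      haveI : Fact (Nat.Prime 2) := ⟨Nat.prime_two⟩
      have := excl_sylow 2 3 (by rw [hG']; norm_num) M A hM (by rw [hc]; norm_num) hA (by rw [hAc]; norm_num)
      rw [hAc] at this
      norm_num at this
  · intro h9
    rw [h9] at hG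
    have hG' : Nat.card (ProjectiveSpecialLinearGroup (Fin 2) F) = 360 := by norm_num at hG; omega
    constructor
    · rintro rfl
      obtain ⟨A, hA, hAc⟩ := hs4 (by rw [h9]; norm_num)
      haveI : Fact (Nat.Prime 2) := ⟨Nat.prime_two⟩
      have := excl_sylow 2 3 (by rw [hG']; norm_num) M A hM (by rw [hc]; norm_num) hA (by rw [hAc]; norm_num)
      rw [hAc] at this
      norm_num at this
    · rintro rfl
      obtain ⟨A, hA, hAc⟩ := ha5 (by rw [hG']; norm_num) (by rw [hG']; norm_num)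
      haveI : Fact (Nat.Prime 5) := ⟨Nat.prime_five⟩
      exact excl_prime 5 M A hM hc hA (by rw [hAc]; norm_num) (by rw [hAc]; norm_num) (by rw [hAc]; norm_num) (by rw [hG']; norm_num)
  · intro h11
    rw [h11] at hG
    have hG' : Nat.card (ProjectiveSpecialLinearGroup (Fin 2) F) = 660 := by norm_num at hG; omega
    rintro rfl
    obtain ⟨A, hA, hAc⟩ := ha5 (by rw [hG']; norm_num) (by rw [hG']; norm_num)
    haveI : Fact (Nat.Prime 5) := ⟨Nat.prime_five⟩
    exact excl_prime 5 M A hM hc hA (by rw [hAc]; norm_num) (by rw [hAc]; norm_num) (by rw [hAc]; norm_num) (by rw [hG']; norm_num)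

theorem pgl_lt {Q : ℕ} (hQ : 3 ≤ Q) : 2 * (Q * ((Q - 1) * (Q + 1))) < Q ^ 2 * ((Q ^ 2 - 1) * (Q ^ 2 + 1)) := by
  obtain ⟨a, rfl⟩ : ∃ a, Q = a + 3 := ⟨Q - 3, by omega⟩
  have h1 : (a + 3) ^ 2 - 1 = (a + 3 - 1) * (a + 3 + 1) := by
    rw [show a + 3 - 1 = a + 2 by omega]
    have : (a + 3) ^ 2 = (a + 2) * (a + 3 + 1) + 1 := by ring
    omega
  rw [h1]
  have h2 : 0 < (a + 3 - 1) * (a + 3 + 1) := Nat.mul_pos (by omega) (by omega)
  calc 2 * ((a + 3) * ((a + 3 - 1) * (a + 3 + 1))) = (2 * (a + 3)) * ((a + 3 - 1) * (a + 3 + 1)) := by ring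
    _ < ((a + 3) ^ 2 * ((a + 3) ^ 2 + 1)) * ((a + 3 - 1) * (a + 3 + 1)) := by
      apply Nat.mul_lt_mul_of_pos_right _ h2
      nlinarith
    _ = _ := by ring

theorem sub_even_pgl (hodd : Odd (Fintype.card F)) (h5 : 5 ≤ Fintype.card F) (M : Subgroup (ProjectiveSpecialLinearGroup (Fin 2) F)) (hM : IsCoatom M) (k : Subfield F) (m : ℕ)
    (hm : 2 ≤ m) (hkm : Nat.card k ^ m = Fintype.card F) (g : PGL(2, F))
    (hg : ∀ x ∈ M, g * ProjectiveSpecialLinearGroup.toPGL x * g⁻¹ ∈ (ProjGenLinGroup.map (n := Fin 2) k.subtype).range)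
    (hc : Nat.card M = Nat.card k * ((Nat.card k - 1) * (Nat.card k + 1))) : m = 2 := by
  classical
  have hG := psl_odd_card (F := F) hodd
  have hk1 : 1 < Nat.card k := Finite.one_lt_card
  have hko : Odd (Nat.card k) := odd_subfield hodd k
  have hme : Even m := by
    by_contra hne
    rw [Nat.not_even_iff_odd] at hne
    apply two_part (Nat.card k) m hko hne hk1 (Nat.card (ProjectiveSpecialLinearGroup (Fin 2) F)) (by rw [hkm]; exact hG)
    rw [← hc]
    exact Subgroup.card_subgroup_dvd_card M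
  by_contra hm2
  obtain ⟨E, hkE, hE⟩ := exists_inter k m 2 hkm hme.two_dvd
  have hEo : Odd (Nat.card E) := odd_subfield hodd E
  have hQ3 : 3 ≤ Nat.card k := by obtain ⟨c, hc⟩ := hko; omega
  have h1 := sub_max_card (by omega) M hM E g (by rw [hE, ← hkm]; exact Nat.pow_lt_pow_right hk1 (by omega)) (fun x hx => by
    obtain ⟨y, hy⟩ := hg x hx
    refine ⟨ProjGenLinGroup.map (Subfield.inclusion hkE) y, ?_, ?_⟩
    · exact pgl_map_mem_LL (Subfield.inclusion hkE) 2 (by decide) (by rw [← Nat.card_eq_fintype_card, ← Nat.card_eq_fintype_card, hE]) (by rw [← Nat.card_eq_fintype_card]; exact hEo) y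
    · rw [← hy]
      obtain ⟨A, rfl⟩ := ProjGenLinGroup.mk_surjective y
      rw [ProjGenLinGroup.map_mk, ProjGenLinGroup.map_mk, ProjGenLinGroup.map_mk]
      rfl)
  have h2 := psl_odd_card (F := E) (by rw [← Nat.card_eq_fintype_card]; exact hEo)
  rw [← h1, hc, ← Nat.card_eq_fintype_card, hE] at h2
  have h3 := pgl_lt hQ3
  omega

theorem sub_odd_psl (hodd : Odd (Fintype.card F)) (h5 : 5 ≤ Fintype.card F) (M : Subgroup (ProjectiveSpecialLinearGroup (Fin 2) F)) (hM : IsCoatom M) (k : Subfield F) (m : ℕ)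
    (hm : 2 ≤ m) (hkm : Nat.card k ^ m = Fintype.card F) (g : PGL(2, F))
    (hg : ∀ x ∈ M, g * ProjectiveSpecialLinearGroup.toPGL x * g⁻¹ ∈ (LL k).map (ProjGenLinGroup.map (n := Fin 2) k.subtype)) :
    Nat.card M = Nat.card (ProjectiveSpecialLinearGroup (Fin 2) k) ∧ m.Prime ∧ Odd m := by
  classical
  obtain ⟨h1, h2⟩ := sub_prime (by omega) M hM k m hm hkm g hg
  refine ⟨h1, h2, ?_⟩
  rcases h2.eq_two_or_odd' with h3 | h3
  swap
  · exact h3
  exfalso
  have hko : Odd (Nat.card k) := odd_subfield hodd k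
  have hk1 : 1 < Nat.card k := Finite.one_lt_card
  have hQ3 : 3 ≤ Nat.card k := by obtain ⟨c, hc⟩ := hko; omega
  have hG := psl_odd_card (F := F) hodd
  obtain ⟨B, hB1, hB2⟩ := pslGen (ProjGenLinGroup.map (n := Fin 2) k.subtype).range (by
    rintro _ ⟨y, rfl⟩
    exact pgl_map_mem_LL k.subtype m (by rw [h3]; decide) (by rw [← Nat.card_eq_fintype_card]; exact hkm) hodd y) g
  have hB3 : Nat.card B = Nat.card PGL(2, k) := by
    rw [hB1]; exact (Nat.card_congr (MonoidHom.ofInjective (map_injective' k.subtype)).toEquiv).symm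
  have hMB : M ≤ B := by
    intro x hx
    rw [hB2]
    obtain ⟨y, -, hy⟩ := hg x hx
    exact ⟨y, hy⟩
  have hkG := card_PGL (F := k)
  have hkP := psl_odd_card (F := k) (by rw [← Nat.card_eq_fintype_card]; exact hko)
  rw [← hB3, ← Nat.card_eq_fintype_card] at hkG
  rw [← Nat.card_eq_fintype_card] at hkP
  have hlt := pgl_lt hQ3
  rw [← hkm, h3] at hG
  have hBt : B ≠ ⊤ := by
    intro h
    rw [h, Subgroup.card_top] at hkG
    omega
  have hMB' : M = B := by
    by_contra hne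
    exact hBt (hM.2 _ (lt_of_le_of_ne hMB hne))
  rw [hMB'] at h1
  have hpos : 0 < Nat.card B := Nat.card_pos
  omega

/-- conclusion in the subfield case -/
def SubOut (M : Subgroup (ProjectiveSpecialLinearGroup (Fin 2) F)) : Prop :=
  (∃ k : Subfield F, Fintype.card F = Nat.card k ^ 2 ∧ Nonempty (M ≃* PGL(2, k))) ∨
  (∃ (k : Subfield F) (r : ℕ), r.Prime ∧ Odd r ∧ Fintype.card F = Nat.card k ^ r ∧ Nonempty (M ≃* ProjectiveSpecialLinearGroup (Fin 2) k))

theorem sub_case_final (hodd : Odd (Fintype.card F)) (h5 : 5 ≤ Fintype.card F) (M : Subgroup (ProjectiveSpecialLinearGroup (Fin 2) F)) (hM : IsCoatom M) (k : Subfield F) (m : ℕ)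
    (hm : 2 ≤ m) (hkm : Nat.card k ^ m = Fintype.card F) (g : PGL(2, F))
    (hg : ∀ x ∈ M, g * ProjectiveSpecialLinearGroup.toPGL x * g⁻¹ ∈ (ProjGenLinGroup.map (n := Fin 2) k.subtype).range)
    (hc : Nat.card M = Nat.card k * ((Nat.card k - 1) * (Nat.card k + 1)) ∨ (Odd (Nat.card k) ∧ 2 * Nat.card M = Nat.card k * ((Nat.card k - 1) * (Nat.card k + 1)))) :
    SubOut M := by
  classical
  have hpi : Function.Injective (ProjectiveSpecialLinearGroup.toPGL : ProjectiveSpecialLinearGroup (Fin 2) F →* PGL(2, F)) := ProjectiveSpecialLinearGroup.toPGL_injective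
  obtain ⟨j, hj⟩ := exists_descent (ProjectiveSpecialLinearGroup.toPGL.comp M.subtype) k g (fun h => hg h h.2)
  have hji := descent_injective (ProjectiveSpecialLinearGroup.toPGL.comp M.subtype) (hpi.comp M.subtype_injective) k g j hj
  rcases hc with hc | ⟨hko, hc⟩
  · left
    have h2 := sub_even_pgl hodd h5 M hM k m hm hkm g hg hc
    exact ⟨k, by rw [← hkm, h2], iso_pgl j hji (by rw [← Nat.card_eq_fintype_card (α := k)]; exact hc)⟩
  · right
    have hko' : Odd (Fintype.card k) := by rw [← Nat.card_eq_fintype_card]; exact hko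
    have hc' : 2 * Nat.card M = Fintype.card k * ((Fintype.card k - 1) * (Fintype.card k + 1)) := by rw [← Nat.card_eq_fintype_card (α := k)]; exact hc
    have hr := range_eq_LL j hji hko' hc'
    obtain ⟨-, h1, h2⟩ := sub_odd_psl hodd h5 M hM k m hm hkm g (fun x hx => by
      have h3 := hj ⟨x, hx⟩
      change ProjGenLinGroup.map k.subtype (j ⟨x, hx⟩) = g * ProjectiveSpecialLinearGroup.toPGL x * g⁻¹ at h3
      rw [← h3]
      exact Subgroup.mem_map_of_mem _ (by rw [← hr]; exact ⟨_, rfl⟩))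
    exact ⟨k, m, h1, h2, hkm.symm, iso_psl j hji hko' hc'⟩

end main

end CfsgLib.Dk29
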