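import Cfsg.Agent.LibDkHH29

set_option autoImplicit false

/-! The cases `A_4`, `S_4`, `A_5`. -/

namespace CfsgLib.Dk29

open MulAction Matrix OnePoint
open scoped MatrixGroups

section
variable {F : Type*} [Field F] [Fintype F]

theorem klein_map_LL (V : Subgroup (ProjectiveSpecialLinearGroup (Fin 2) F)) (hV : IsKleinFour V) :
    IsKleinFour (V.map (ProjectiveSpecialLinearGroup.toPGL : ProjectiveSpecialLinearGroup (Fin 2) F →* PGL(2, F))) ∧ V.map (ProjectiveSpecialLinearGroup.toPGL : ProjectiveSpecialLinearGroup (Fin 2) F →* PGL(2, F)) ≤ LL F := by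
  have hpi : Function.Injective (ProjectiveSpecialLinearGroup.toPGL : ProjectiveSpecialLinearGroup (Fin 2) F →* PGL(2, F)) := ProjectiveSpecialLinearGroup.toPGL_injective
  refine ⟨klein_map _ hpi V hV, ?_⟩
  rintro _ ⟨x, -, rfl⟩
  exact toPGL_mem x

/-- normalizers of four-groups descend to every subfield -/
theorem psl_norm_range (hodd : Odd (Fintype.card F)) (k : Subfield F) (V M : Subgroup (ProjectiveSpecialLinearGroup (Fin 2) F)) (hV : IsKleinFour V)
    (hMV : M ≤ Subgroup.normalizer (V : Set (ProjectiveSpecialLinearGroup (Fin 2) F))) :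
    ∃ g : PGL(2, F), ∀ x ∈ M, g * ProjectiveSpecialLinearGroup.toPGL x * g⁻¹ ∈ (ProjGenLinGroup.map (n := Fin 2) k.subtype).range := by
  obtain ⟨h1, h2⟩ := klein_map_LL V hV
  obtain ⟨g, hg⟩ := norm_range hodd k _ h1 h2
  refine ⟨g, fun x hx => hg _ ?_⟩
  exact Subgroup.le_normalizer_map _ (Subgroup.mem_map_of_mem _ (hMV hx))

theorem finrank_cases (k : Subfield F) : (∃ m, 2 ≤ m ∧ Nat.card k ^ m = Fintype.card F) ∨ Nat.card k = Fintype.card F := by
  have h := card_subfield_pow k
  have h1 : 1 < Fintype.card F := Fintype.one_lt_card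
  by_cases h2 : 2 ≤ Module.finrank k F
  · exact Or.inl ⟨_, h2, h⟩
  · have h3 : Module.finrank k F = 0 ∨ Module.finrank k F = 1 := by omega
    rcases h3 with h3 | h3
    · rw [h3, pow_zero] at h; omega
    · rw [h3, pow_one] at h; exact Or.inr h

theorem three_of_24 {p : ℕ} (hp : Odd p) (h1 : 1 < p) (h : p * ((p - 1) * (p + 1)) ≤ 48) : p = 3 := by
  by_contra hne
  have h5 : 5 ≤ p := by obtain ⟨c, hc⟩ := hp; omega
  have : 5 * (4 * 6) ≤ p * ((p - 1) * (p + 1)) := Nat.mul_le_mul h5 (Nat.mul_le_mul (by omega) (by omega))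
  omega

theorem a4_case (p : ℕ) [hp : Fact p.Prime] [CharP F p] (hodd : Odd (Fintype.card F)) (h5 : 5 ≤ Fintype.card F) (M : Subgroup (ProjectiveSpecialLinearGroup (Fin 2) F)) (hM : IsCoatom M)
    (e : M ≃* alternatingGroup (Fin 4)) :
    SubOut M ∨ (Fintype.card F = p ∧ (p % 8 = 3 ∨ p % 8 = 5) ∧ ¬ (p % 10 = 1 ∨ p % 10 = 9)) := by
  classical
  have hMc : Nat.card M = 12 := by rw [Nat.card_congr e.toEquiv, card_a4]
  obtain ⟨V, hV, hVM, hMV⟩ := klein_of_iso M e a4_normal_klein
  have hMN : M = Subgroup.normalizer (V : Set (ProjectiveSpecialLinearGroup (Fin 2) F)) := by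
    by_contra hne
    exact norm_ne_top hodd h5 V hV (hM.2 _ (lt_of_le_of_ne hMV hne))
  have h8 : Fintype.card F % 8 = 3 ∨ Fintype.card F % 8 = 5 := by
    rcases mod8_cases (F := F) hodd with h | h
    · exact h
    · have h1 := psl_norm_24 h V hV
      rw [← hMN, hMc] at h1
      omega
  obtain ⟨k, hk⟩ := exists_prime_subfield (F := F) p
  obtain ⟨g, hg⟩ := psl_norm_range hodd k V M hV hMV
  have hgL : ∀ x ∈ M, g * ProjectiveSpecialLinearGroup.toPGL x * g⁻¹ ∈ (LL k).map (ProjGenLinGroup.map (n := Fin 2) k.subtype) := by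
    intro x hx
    obtain ⟨b, c, hbc⟩ := a4_squares (e ⟨x, hx⟩)
    have h1 : (⟨x, hx⟩ : M) = (e.symm b * e.symm b) * (e.symm c * e.symm c) := by
      apply e.injective
      rw [map_mul, map_mul, map_mul, e.apply_symm_apply, e.apply_symm_apply, hbc]
    have h2 : x = ((e.symm b : M) * (e.symm b : M)) * ((e.symm c : M) * (e.symm c : M)) := congrArg Subtype.val h1
    have h3 := sq_mem_LL_map k _ (hg _ (e.symm b).2)
    have h4 := sq_mem_LL_map k _ (hg _ (e.symm c).2)
    have h5 := mul_mem h3 h4
    have h6 : g * ProjectiveSpecialLinearGroup.toPGL x * g⁻¹ = g * ProjectiveSpecialLinearGroup.toPGL (e.symm b : ProjectiveSpecialLinearGroup (Fin 2) F) * g⁻¹ * (g * ProjectiveSpecialLinearGroup.toPGL (e.symm b : ProjectiveSpecialLinearGroup (Fin 2) F) * g⁻¹) *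
        (g * ProjectiveSpecialLinearGroup.toPGL (e.symm c : ProjectiveSpecialLinearGroup (Fin 2) F) * g⁻¹ * (g * ProjectiveSpecialLinearGroup.toPGL (e.symm c : ProjectiveSpecialLinearGroup (Fin 2) F) * g⁻¹)) := by
      rw [h2, map_mul, map_mul, map_mul]; group
    rw [h6]; exact h5
  have hko : Odd (Nat.card k) := odd_subfield hodd k
  rcases finrank_cases k with ⟨m, hm, hkm⟩ | hkF
  · left
    obtain ⟨h1, -, -⟩ := sub_odd_psl hodd h5 M hM k m hm hkm g hgL
    have h2 := psl_odd_card (F := k) (by rw [← Nat.card_eq_fintype_card]; exact hko)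
    rw [← h1, hMc, ← Nat.card_eq_fintype_card] at h2
    exact sub_case_final hodd h5 M hM k m hm hkm g hg (Or.inr ⟨hko, by rw [hMc]; exact h2⟩)
  · right
    have hFp : Fintype.card F = p := hkF.symm.trans hk
    rw [hFp] at h8
    refine ⟨hFp, h8, ?_⟩
    intro h10
    -- an icosahedral group containing the normalizer
    have hG := psl_odd_card (F := F) hodd
    have h11 : 11 ≤ p := by
      by_contra hlt
      push Not at hlt
      have h9 : p ≠ 9 := by
        intro h
        have := hp.out
        rw [h] at this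
        norm_num at this
      have h1 : p ≠ 1 := hp.out.one_lt.ne'
      omega
    have hdvd : 5 ∣ Nat.card (ProjectiveSpecialLinearGroup (Fin 2) F) := by
      have h1 : 5 ∣ 2 * Nat.card (ProjectiveSpecialLinearGroup (Fin 2) F) := by
        rw [hG, hFp]
        apply Dvd.dvd.mul_left
        rcases h10 with h | h
        · exact Dvd.dvd.mul_right (by omega) _
        · exact Dvd.dvd.mul_left (by omega) _
      exact (Nat.Coprime.dvd_mul_left (by norm_num)).mp h1
    obtain ⟨H, ⟨eH⟩⟩ := exists_a5 hodd hdvd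
    have hHc : Nat.card H = 60 := by rw [Nat.card_congr eH.toEquiv, card_a5]
    have hHt : H ≠ ⊤ := by
      rintro rfl
      rw [Subgroup.card_top] at hHc
      rw [hHc, hFp] at hG
      have : 11 * (10 * 12) ≤ p * ((p - 1) * (p + 1)) := Nat.mul_le_mul h11 (Nat.mul_le_mul (by omega) (by omega))
      omega
    -- a four-group of `H` with its normalizer inside `H`
    obtain ⟨i, w, s, hI, hi1, hw1, hs1, hsi1, hsw1, -, -, hj1, hji⟩ := exists_a5_ico
    have hj2 : (w * i * w⁻¹) * (w * i * w⁻¹) = 1 := by
      calc (w * i * w⁻¹) * (w * i * w⁻¹) = w * (i * i) * w⁻¹ := by group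
        _ = 1 := by rw [hI.i2]; group
    have hKk := kl_klein i (w * i * w⁻¹) hI.i2 hj2 hI.comm.symm hi1 hj1 hji
    set Kg := kl i (w * i * w⁻¹) hI.i2 hj2 hI.comm.symm with hKg
    have hwN : w ∈ Subgroup.normalizer (Kg : Set (alternatingGroup (Fin 5))) := by
      rw [← conj_map_eq_iff]
      have hle : Kg.map (MulAut.conj w).toMonoidHom ≤ Kg := by
        rintro _ ⟨x, hx, rfl⟩
        rcases hx with h | h | h | h <;> rw [h]
        · left; show w * 1 * w⁻¹ = 1; group
        · right; right; left; rfl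
        · right; right; right; exact hI.cyc
        · right; left
          show w * (i * (w * i * w⁻¹)) * w⁻¹ = i
          calc w * (i * (w * i * w⁻¹)) * w⁻¹ = (w * i * w⁻¹) * (w * (w * i * w⁻¹) * w⁻¹) := by group
            _ = (w * i * w⁻¹) * (i * (w * i * w⁻¹)) := by rw [hI.cyc]
            _ = (w * i * w⁻¹) * ((w * i * w⁻¹) * i) := by rw [hI.comm]
            _ = ((w * i * w⁻¹) * (w * i * w⁻¹)) * i := by group
            _ = i := by rw [hj2, one_mul]
      apply Subgroup.eq_of_le_of_card_ge hle
      rw [conj_of_normalizer_card]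
    let f : alternatingGroup (Fin 5) →* ProjectiveSpecialLinearGroup (Fin 2) F := H.subtype.comp eH.symm.toMonoidHom
    have hf : Function.Injective f := H.subtype_injective.comp eH.symm.injective
    have hfH : ∀ x, f x ∈ H := fun x => (eH.symm x).2
    have hV1 : IsKleinFour (Kg.map f) := klein_map f hf Kg hKk
    have h12 := psl_norm_twelve (F := F) (by rw [hFp]; exact h8) (Kg.map f) hV1
    have hNH : Subgroup.normalizer ((Kg.map f : Subgroup (ProjectiveSpecialLinearGroup (Fin 2) F)) : Set (ProjectiveSpecialLinearGroup (Fin 2) F)) ≤ H := by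
      have h13 : (Subgroup.normalizer (Kg : Set (alternatingGroup (Fin 5)))).map f = Subgroup.normalizer ((Kg.map f : Subgroup (ProjectiveSpecialLinearGroup (Fin 2) F)) : Set (ProjectiveSpecialLinearGroup (Fin 2) F)) := by
        apply Subgroup.eq_of_le_of_card_ge (Subgroup.le_normalizer_map f)
        rw [h12, Subgroup.card_map_of_injective hf]
        apply Nat.le_of_dvd Nat.card_pos
        have h4 : 4 ∣ Nat.card (Subgroup.normalizer (Kg : Set (alternatingGroup (Fin 5)))) := by
          have := Subgroup.card_dvd_of_le (Subgroup.le_normalizer (H := Kg))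
          rwa [hKk.card_four] at this
        have h3 : 3 ∣ Nat.card (Subgroup.normalizer (Kg : Set (alternatingGroup (Fin 5)))) := by
          have h1 : orderOf w = 3 := orderOf_eq_prime (by rw [pow_succ, pow_two]; exact hI.w3) hw1
          have h2 : orderOf (⟨w, hwN⟩ : Subgroup.normalizer (Kg : Set (alternatingGroup (Fin 5)))) ∣ Nat.card (Subgroup.normalizer (Kg : Set (alternatingGroup (Fin 5)))) := orderOf_dvd_natCard _
          rwa [Subgroup.orderOf_mk, h1] at h2
        exact Nat.Coprime.mul_dvd_of_dvd_of_dvd (by norm_num) h4 h3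
      rw [← h13]
      rintro _ ⟨x, -, rfl⟩
      exact hfH x
    have hn8 : ¬ 8 ∣ Nat.card (ProjectiveSpecialLinearGroup (Fin 2) F) := psl_not_eight (by rw [hFp]; exact h8)
    obtain ⟨c, hc⟩ := klein_conj_all hn8 (Kg.map f) V hV1 hV
    have hle : M ≤ H.map (MulAut.conj c).toMonoidHom := by
      intro x hx
      rw [hMN] at hx
      rw [mem_conj_map]
      apply hNH
      rw [Subgroup.mem_normalizer_iff] at hx ⊢
      intro y
      have h14 := hx (c * y * c⁻¹)
      rw [hc] at h14
      change c * y * c⁻¹ ∈ (Kg.map f).map (MulAut.conj c).toMonoidHom ↔ x * (c * y * c⁻¹) * x⁻¹ ∈ (Kg.map f).map (MulAut.conj c).toMonoidHom at h14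
      rw [mem_conj_map, mem_conj_map] at h14
      have e1 : c⁻¹ * (c * y * c⁻¹) * c = y := by group
      have e2 : c⁻¹ * (x * (c * y * c⁻¹) * x⁻¹) * c = c⁻¹ * x * c * y * (c⁻¹ * x * c)⁻¹ := by group
      rw [e1, e2] at h14
      exact h14
    have h15 := max_card_of_le_conj M H hM hHt c hle
    omega

theorem s4_case (p : ℕ) [hp : Fact p.Prime] [CharP F p] (hodd : Odd (Fintype.card F)) (h5 : 5 ≤ Fintype.card F) (M : Subgroup (ProjectiveSpecialLinearGroup (Fin 2) F)) (hM : IsCoatom M)
    (e : M ≃* Equiv.Perm (Fin 4)) :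
    SubOut M ∨ (Fintype.card F = p ∧ (p % 8 = 1 ∨ p % 8 = 7)) := by
  classical
  have hMc : Nat.card M = 24 := by rw [Nat.card_congr e.toEquiv, card_s4]
  obtain ⟨V, hV, hVM, hMV⟩ := klein_of_iso M e s4_normal_klein
  obtain ⟨k, hk⟩ := exists_prime_subfield (F := F) p
  obtain ⟨g, hg⟩ := psl_norm_range hodd k V M hV hMV
  have hko : Odd (Nat.card k) := odd_subfield hodd k
  have hk1 : 1 < Nat.card k := Finite.one_lt_card
  have hG := psl_odd_card (F := F) hodd
  rcases finrank_cases k with ⟨m, hm, hkm⟩ | hkF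
  · left
    have hQ3 : 3 ≤ Nat.card k := by obtain ⟨c, hc⟩ := hko; omega
    -- the stabilizer of the subfield structure
    let S : Subgroup PGL(2, F) := ((ProjGenLinGroup.map (n := Fin 2) k.subtype).range).comap (MulAut.conj g).toMonoidHom
    let B : Subgroup (ProjectiveSpecialLinearGroup (Fin 2) F) := S.comap ProjectiveSpecialLinearGroup.toPGL
    have hB2 : ∀ x, x ∈ B ↔ g * ProjectiveSpecialLinearGroup.toPGL x * g⁻¹ ∈ (ProjGenLinGroup.map (n := Fin 2) k.subtype).range := fun x => Iff.rfl
    have hMB : M ≤ B := fun x hx => (hB2 x).mpr (hg x hx)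
    have hBc : Nat.card B ≤ Nat.card PGL(2, k) := by
      have h1 : Nat.card (ProjGenLinGroup.map (n := Fin 2) k.subtype).range = Nat.card PGL(2, k) := (Nat.card_congr (MonoidHom.ofInjective (map_injective' k.subtype)).toEquiv).symm
      rw [← h1]
      apply Nat.card_le_card_of_injective (fun x : B => (⟨g * ProjectiveSpecialLinearGroup.toPGL (x : ProjectiveSpecialLinearGroup (Fin 2) F) * g⁻¹, (hB2 x).mp x.2⟩ : (ProjGenLinGroup.map (n := Fin 2) k.subtype).range))
      intro x y hxy
      have h2 : g * ProjectiveSpecialLinearGroup.toPGL (x : ProjectiveSpecialLinearGroup (Fin 2) F) * g⁻¹ = g * ProjectiveSpecialLinearGroup.toPGL (y : ProjectiveSpecialLinearGroup (Fin 2) F) * g⁻¹ := congrArg Subtype.val hxy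
      exact Subtype.ext (ProjectiveSpecialLinearGroup.toPGL_injective (mul_left_cancel (mul_right_cancel h2)))
    rw [card_PGL, ← Nat.card_eq_fintype_card] at hBc
    have hBt : B ≠ ⊤ := by
      intro h
      rw [h, Subgroup.card_top] at hBc
      have h1 := pgl_lt hQ3
      have h2 : Nat.card k ^ 2 * ((Nat.card k ^ 2 - 1) * (Nat.card k ^ 2 + 1)) ≤ Fintype.card F * ((Fintype.card F - 1) * (Fintype.card F + 1)) := by
        have h3 : Nat.card k ^ 2 ≤ Fintype.card F := by rw [← hkm]; exact Nat.pow_le_pow_right (by omega) hm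
        exact Nat.mul_le_mul h3 (Nat.mul_le_mul (by omega) (by omega))
      omega
    have hMB' : M = B := by
      by_contra hne
      exact hBt (hM.2 _ (lt_of_le_of_ne hMB hne))
    obtain ⟨B₀, hB₀1, hB₀2⟩ := exists_sub k g
    have hB₀B : B₀ ≤ B := by
      intro x hx
      rw [hB2]
      obtain ⟨y, -, hy⟩ := (hB₀2 x).mp hx
      exact ⟨y, hy⟩
    have h1 := Subgroup.card_le_of_le hB₀B
    rw [← hMB', hMc, hB₀1] at h1
    have h2 := psl_odd_card (F := k) (by rw [← Nat.card_eq_fintype_card]; exact hko)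
    rw [← Nat.card_eq_fintype_card] at h2
    have h3 : Nat.card k = 3 := three_of_24 hko hk1 (by omega)
    exact sub_case_final hodd h5 M hM k m hm hkm g hg (Or.inl (by rw [hMc, h3]))
  · right
    have hFp : Fintype.card F = p := hkF.symm.trans hk
    refine ⟨hFp, ?_⟩
    rw [← hFp]
    rcases mod8_cases (F := F) hodd with h | h
    · exfalso
      apply psl_not_eight h
      have := Subgroup.card_subgroup_dvd_card M
      rw [hMc] at this
      exact (by norm_num : 8 ∣ 24).trans this
    · exact h

theorem a5_case (p : ℕ) [hp : Fact p.Prime] [CharP F p] (hodd : Odd (Fintype.card F)) (h5 : 5 ≤ Fintype.card F) (M : Subgroup (ProjectiveSpecialLinearGroup (Fin 2) F)) (hM : IsCoatom M)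
    (e : M ≃* alternatingGroup (Fin 5)) :
    SubOut M ∨ ((Fintype.card F % 10 = 1 ∨ Fintype.card F % 10 = 9) ∧ (Fintype.card F = p ∨ (Fintype.card F = p ^ 2 ∧ (p % 10 = 3 ∨ p % 10 = 7)))) := by
  classical
  have hMc : Nat.card M = 60 := by rw [Nat.card_congr e.toEquiv, card_a5]
  have hpi : Function.Injective (ProjectiveSpecialLinearGroup.toPGL : ProjectiveSpecialLinearGroup (Fin 2) F →* PGL(2, F)) := ProjectiveSpecialLinearGroup.toPGL_injective
  have hns : ¬ Group.IsSolvable M := fun h => a5_not_solv (solv_equiv e.symm h)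
  have hG := psl_odd_card (F := F) hodd
  have hG5 : 5 ∣ Nat.card (ProjectiveSpecialLinearGroup (Fin 2) F) := by
    have := Subgroup.card_subgroup_dvd_card M
    rw [hMc] at this
    exact (by norm_num : 5 ∣ 60).trans this
  obtain ⟨n, -, hn⟩ := FiniteField.card F p
  have hpodd : Odd p := by
    rw [hn] at hodd
    exact (Nat.odd_pow_iff n.pos.ne').mp hodd
  by_cases hp5 : p = 5
  · left
    rcases dickson_p p (ProjectiveSpecialLinearGroup.toPGL.comp M.subtype) (hpi.comp M.subtype_injective) 1 (Or.inl rfl) (by rw [hMc, hp5]; norm_num) (by omega) with ⟨m, hm, -, ⟨ed⟩⟩ | ⟨x, hx⟩ | ⟨k, hk4, ⟨g, hg⟩, hc⟩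
    · exact (hns (solv_equiv ed (solv_dih m (by omega)))).elim
    · exact (hns (solv_fix _ (hpi.comp M.subtype_injective) x hx)).elim
    · rcases finrank_cases k with ⟨m, hm, hkm⟩ | hkF
      · exact sub_case_final hodd h5 M hM k m hm hkm g (fun x hx => hg ⟨x, hx⟩) hc
      · exfalso
        rw [hkF, ← hG] at hc
        have hlt : Nat.card M < Nat.card (ProjectiveSpecialLinearGroup (Fin 2) F) := by
          apply lt_of_le_of_ne (Subgroup.card_le_card_group M)
          intro h
          exact hM.1 (Subgroup.eq_top_of_card_eq _ h)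
        rcases hc with h | ⟨-, h⟩ <;> omega
  · right
    obtain ⟨φ, hφ⟩ := exists_phi hG5
    obtain ⟨k, hk⟩ := exists_prime_subfield (F := F) p
    have hko : Odd (Nat.card k) := odd_subfield hodd k
    have hkp2 := psl_odd_card (F := k) (by rw [← Nat.card_eq_fintype_card]; exact hko)
    rw [← Nat.card_eq_fintype_card, hk] at hkp2
    have hp3 : 3 ≤ p := by have := hp.out.two_le; obtain ⟨c, hc⟩ := hpodd; omega
    have two0 := two_ne_zero_of_odd hodd
    -- residue of `p` modulo 5
    have hp5' : p % 5 ≠ 0 := by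
      intro h
      exact hp5 ((Nat.prime_dvd_prime_iff_eq Nat.prime_five hp.out).mp (Nat.dvd_of_mod_eq_zero h)).symm
    by_cases hφk : φ ∈ k
    · obtain ⟨g, hg⟩ := a5_descent hodd k φ hφk hφ M e
      have hFp : Fintype.card F = p := by
        rcases finrank_cases k with ⟨m, hm, hkm⟩ | hkF
        · exfalso
          have h1 := sub_max_card (by omega) M hM k g (by
            rw [← hkm]
            calc Nat.card k = Nat.card k ^ 1 := (pow_one _).symm
              _ < _ := Nat.pow_lt_pow_right Finite.one_lt_card (by omega)) hg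
          rw [← h1, hMc] at hkp2
          have h2 : p < 6 := by
            by_contra hlt
            push Not at hlt
            have : 6 * (5 * 7) ≤ p * ((p - 1) * (p + 1)) := Nat.mul_le_mul hlt (Nat.mul_le_mul (by omega) (by omega))
            omega
          have h3 : p = 3 ∨ p = 4 := by omega
          rcases h3 with h3 | h3 <;> rw [h3] at hkp2 <;> norm_num at hkp2
        · exact hkF.symm.trans hk
      have h1 : p % 5 = 1 ∨ p % 5 = 4 := by
        have h2 : 5 ∣ 2 * Nat.card (ProjectiveSpecialLinearGroup (Fin 2) F) := Dvd.dvd.mul_left hG5 2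
        rw [hG, hFp] at h2
        rcases (Nat.Prime.dvd_mul Nat.prime_five).mp h2 with h3 | h3
        · omega
        · rcases (Nat.Prime.dvd_mul Nat.prime_five).mp h3 with h3 | h3 <;> omega
      refine ⟨?_, Or.inl hFp⟩
      rw [hFp]
      obtain ⟨c, hc⟩ := hpodd
      omega
    · -- `φ` generates the quadratic extension
      have hroot : ∀ ψ : F, ψ * ψ = ψ + 1 → ψ = φ ∨ ψ = 1 - φ := by
        intro ψ hψ
        have : (ψ - φ) * (ψ - (1 - φ)) = 0 := by linear_combination hψ - hφ
        rcases mul_eq_zero.mp this with h | h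
        · exact Or.inl (sub_eq_zero.mp h)
        · exact Or.inr (sub_eq_zero.mp h)
      have hpow : ∀ ψ : F, ψ * ψ = ψ + 1 → ψ ^ p * ψ ^ p = ψ ^ p + 1 := by
        intro ψ hψ
        have : (ψ * ψ) ^ p = (ψ + 1) ^ p := by rw [hψ]
        rw [mul_pow, add_pow_char, one_pow] at this
        exact this
      have hφp : φ ^ p = 1 - φ := by
        rcases hroot _ (hpow φ hφ) with h | h
        · exfalso
          apply hφk
          rw [mem_subfield_iff, hk]; exact h
        · exact h
      have hφpp : φ ^ (p ^ 2) = φ := by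
        rw [pow_two, pow_mul, hφp, sub_pow_char, one_pow, hφp]; ring
      have heven : ∀ j : ℕ, φ ^ (p ^ (2 * j)) = φ := by
        intro j
        induction j with
        | zero => rw [mul_zero, pow_zero, pow_one]
        | succ j ih =>
          rw [show 2 * (j + 1) = 2 * j + 2 by ring, pow_add, pow_mul, ih, hφpp]
      have hne : Even (n : ℕ) := by
        by_contra hno
        rw [Nat.not_even_iff_odd] at hno
        obtain ⟨j, hj⟩ := hno
        have h1 : φ ^ Fintype.card F = φ := FiniteField.pow_card φ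
        rw [hn, hj, pow_add, pow_mul, heven, pow_one, hφp] at h1
        -- `1 - φ = φ`
        apply hφk
        have h2 : φ = 2⁻¹ := by
          field_simp
          linear_combination -h1
        rw [h2]
        have h2k : (2 : F) ∈ k := by
          have := add_mem (one_mem k) (one_mem k)
          rwa [one_add_one_eq_two] at this
        exact inv_mem h2k
      obtain ⟨E, hkE, hE⟩ := exists_inter k n 2 (by rw [hk, hn]) hne.two_dvd
      rw [hk] at hE
      have hφE : φ ∈ E := by rw [mem_subfield_iff, hE]; exact hφpp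
      obtain ⟨g, hg⟩ := a5_descent hodd E φ hφE hφ M e
      have hFp2 : Fintype.card F = p ^ 2 := by
        rcases finrank_cases E with ⟨m, hm, hkm⟩ | hkF
        · exfalso
          have h1 := sub_max_card (by omega) M hM E g (by
            rw [← hkm]
            calc Nat.card E = Nat.card E ^ 1 := (pow_one _).symm
              _ < _ := Nat.pow_lt_pow_right Finite.one_lt_card (by omega)) hg
          have hEo : Odd (Nat.card E) := odd_subfield hodd E
          have h2 := psl_odd_card (F := E) (by rw [← Nat.card_eq_fintype_card]; exact hEo)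
          rw [← Nat.card_eq_fintype_card, hE, ← h1, hMc] at h2
          have h3 : 9 ≤ p ^ 2 := by nlinarith
          have : 9 * (8 * 10) ≤ p ^ 2 * ((p ^ 2 - 1) * (p ^ 2 + 1)) := Nat.mul_le_mul h3 (Nat.mul_le_mul (by omega) (by omega))
          omega
        · exact hkF.symm.trans hE
      have h1 : p % 5 = 2 ∨ p % 5 = 3 := by
        by_contra hcon
        have h2 : p % 5 = 1 ∨ p % 5 = 4 := by omega
        have h3 : 5 ∣ Nat.card (ProjectiveSpecialLinearGroup (Fin 2) k) := by
          have h4 : 5 ∣ 2 * Nat.card (ProjectiveSpecialLinearGroup (Fin 2) k) := by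
            rw [hkp2]
            apply Dvd.dvd.mul_left
            rcases h2 with h | h
            · exact Dvd.dvd.mul_right (by omega) _
            · exact Dvd.dvd.mul_left (by omega) _
          exact (Nat.Coprime.dvd_mul_left (by norm_num)).mp h4
        obtain ⟨ψ, hψ⟩ := exists_phi (F := k) h3
        have h5 : (ψ : F) * ψ = ψ + 1 := by exact_mod_cast congrArg Subtype.val hψ
        rcases hroot ψ h5 with h | h
        · exact hφk (h ▸ ψ.2)
        · apply hφk
          have h6 : φ = 1 - ψ := by rw [h]; ring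
          rw [h6]; exact sub_mem (one_mem k) ψ.2
      have h10 : p % 10 = 3 ∨ p % 10 = 7 := by obtain ⟨c, hc⟩ := hpodd; omega
      refine ⟨?_, Or.inr ⟨hFp2, h10⟩⟩
      right
      rw [hFp2, Nat.pow_mod]
      rcases h10 with h | h <;> rw [h]
end

end CfsgLib.Dk29
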