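import Cfsg.Agent.LibDkII29

set_option autoImplicit false

/-! Maximal subgroups of `PGL_2(q)`, `q` odd. -/

namespace CfsgLib.Dk29

open MulAction Matrix OnePoint
open scoped MatrixGroups

section
variable {F : Type*} [Field F] [Fintype F]

theorem LL_ne_top (hodd : Odd (Fintype.card F)) : LL F ≠ ⊤ := by
  intro h
  have h1 := index_LL (F := F)
  rw [h, Subgroup.index_top] at h1
  rcases gcd_cases _ (Fintype.one_lt_card (α := F)) with ⟨-, h2⟩ | ⟨h2, -⟩
  · exact Nat.not_even_iff_odd.mpr hodd h2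
  · omega

theorem LL_normal : (LL F).Normal := ⟨fun x hx g => LL_conj g x hx⟩

theorem not_le_LL (hodd : Odd (Fintype.card F)) (M : Subgroup PGL(2, F)) (hM : IsCoatom M) (hML : ¬ LL F ≤ M) : ¬ M ≤ LL F := by
  intro h
  by_cases hne : M = LL F
  · exact hML hne.symm.le
  · exact LL_ne_top hodd (hM.2 _ (lt_of_le_of_ne h hne))

theorem pgl_card_ge (h5 : 5 ≤ Fintype.card F) : 120 ≤ Nat.card PGL(2, F) := by
  rw [card_PGL]
  calc 120 = 5 * (4 * 6) := by norm_num
    _ ≤ _ := Nat.mul_le_mul h5 (Nat.mul_le_mul (by omega) (by omega))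

/-- the subgroup `PGL_2(k)^g` -/
theorem pgl_sub (k : Subfield F) (g : PGL(2, F)) : ∃ B : Subgroup PGL(2, F), Nat.card B = Nat.card k * ((Nat.card k - 1) * (Nat.card k + 1)) ∧
    ∀ x, x ∈ B ↔ g * x * g⁻¹ ∈ (ProjGenLinGroup.map (n := Fin 2) k.subtype).range := by
  classical
  refine ⟨((ProjGenLinGroup.map (n := Fin 2) k.subtype).range).comap (MulAut.conj g).toMonoidHom, ?_, fun x => Iff.rfl⟩
  have h1 : (ProjGenLinGroup.map (n := Fin 2) k.subtype).range = (((ProjGenLinGroup.map (n := Fin 2) k.subtype).range).comap (MulAut.conj g).toMonoidHom).map (MulAut.conj g).toMonoidHom := by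
    rw [Subgroup.map_comap_eq_self_of_surjective]
    exact (MulAut.conj g).surjective
  have h2 : Nat.card (ProjGenLinGroup.map (n := Fin 2) k.subtype).range = Nat.card PGL(2, k) := (Nat.card_congr (MonoidHom.ofInjective (map_injective' k.subtype)).toEquiv).symm
  rw [h1, conj_of_normalizer_card, card_PGL, ← Nat.card_eq_fintype_card] at h2
  exact h2

theorem pgl_sub_eq (M : Subgroup PGL(2, F)) (hM : IsCoatom M) (k : Subfield F) (hk : Nat.card k < Fintype.card F) (g : PGL(2, F))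
    (hg : ∀ x ∈ M, g * x * g⁻¹ ∈ (ProjGenLinGroup.map (n := Fin 2) k.subtype).range) :
    Nat.card M = Nat.card k * ((Nat.card k - 1) * (Nat.card k + 1)) ∧ ∀ x, x ∈ M ↔ g * x * g⁻¹ ∈ (ProjGenLinGroup.map (n := Fin 2) k.subtype).range := by
  obtain ⟨B, hB1, hB2⟩ := pgl_sub k g
  have hMB : M ≤ B := fun x hx => (hB2 x).mpr (hg x hx)
  have hBt : B ≠ ⊤ := by
    intro h
    rw [h, Subgroup.card_top, card_PGL] at hB1
    have := cub_lt (Finite.one_lt_card (α := k)) hk
    omega
  have hMB' : M = B := by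
    by_contra hne
    exact hBt (hM.2 _ (lt_of_le_of_ne hMB hne))
  rw [hMB']
  exact ⟨hB1, hB2⟩

theorem pgl_sub_case (hodd : Odd (Fintype.card F)) (M : Subgroup PGL(2, F)) (hM : IsCoatom M) (hML : ¬ LL F ≤ M) (k : Subfield F) (m : ℕ)
    (hm : 2 ≤ m) (hkm : Nat.card k ^ m = Fintype.card F) (g : PGL(2, F))
    (hg : ∀ x ∈ M, g * x * g⁻¹ ∈ (ProjGenLinGroup.map (n := Fin 2) k.subtype).range) :
    m.Prime ∧ Odd m ∧ Nonempty (M ≃* PGL(2, k)) := by
  classical
  have hk1 : 1 < Nat.card k := Finite.one_lt_card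
  have hlt : ∀ s, s < m → Nat.card k ^ s < Fintype.card F := by
    intro s hs; rw [← hkm]; exact Nat.pow_lt_pow_right hk1 hs
  obtain ⟨h1, h2⟩ := pgl_sub_eq M hM k (by have := hlt 1 (by omega); rwa [pow_one] at this) g hg
  have hmo : Odd m := by
    by_contra hne
    rw [Nat.not_odd_iff_even] at hne
    apply not_le_LL hodd M hM hML
    intro x hx
    obtain ⟨y, hy⟩ := hg x hx
    have h3 := pgl_map_mem_LL k.subtype m hne (by rw [← Nat.card_eq_fintype_card]; exact hkm) hodd y
    rw [hy] at h3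
    have h4 := LL_conj g⁻¹ _ h3
    have h5 : g⁻¹ * (g * x * g⁻¹) * g⁻¹⁻¹ = x := by group
    rwa [h5] at h4
  refine ⟨?_, hmo, ?_⟩
  · by_contra hnp
    obtain ⟨s, hs, hs1, hs2⟩ := (Nat.not_prime_iff_exists_dvd_lt hm).mp hnp
    obtain ⟨E, hkE, hE⟩ := exists_inter k m s hkm hs
    obtain ⟨h3, -⟩ := pgl_sub_eq M hM E (by rw [hE]; exact hlt s hs2) g (fun x hx => range_mono hkE (hg x hx))
    have h4 : Nat.card k < Nat.card E := by
      rw [hE]
      calc Nat.card k = Nat.card k ^ 1 := (pow_one _).symm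
        _ < _ := Nat.pow_lt_pow_right hk1 hs1
    have := cub_lt hk1 h4
    omega
  · obtain ⟨j, hj⟩ := exists_descent M.subtype k g (fun h => hg h h.2)
    have hji := descent_injective M.subtype M.subtype_injective k g j hj
    exact iso_pgl j hji (by rw [← Nat.card_eq_fintype_card (α := k)]; exact h1)

theorem a5_le_LL (M : Subgroup PGL(2, F)) (e : M ≃* alternatingGroup (Fin 5)) : M ≤ LL F := by
  haveI := LL_normal (F := F)
  haveI : IsSimpleGroup M := e.isSimpleGroup
  have hMc : Nat.card M = 60 := by rw [Nat.card_congr e.toEquiv, card_a5]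
  rcases IsSimpleGroup.eq_bot_or_eq_top_of_normal ((LL F).subgroupOf M) inferInstance with h | h
  · exfalso
    have h1 : (LL F).relIndex M ∣ (LL F).index := Subgroup.relIndex_dvd_index_of_normal _ _
    rw [Subgroup.relIndex, h, Subgroup.index_bot, hMc, index_LL] at h1
    have h2 := h1.trans (Nat.gcd_dvd_left 2 _)
    norm_num at h2
  · exact Subgroup.subgroupOf_eq_top.mp h

theorem a4_le_LL (M : Subgroup PGL(2, F)) (e : M ≃* alternatingGroup (Fin 4)) : M ≤ LL F := by
  intro x hx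
  obtain ⟨b, c, hbc⟩ := a4_squares (e ⟨x, hx⟩)
  have h1 : (⟨x, hx⟩ : M) = (e.symm b * e.symm b) * (e.symm c * e.symm c) := by
    apply e.injective
    rw [map_mul, map_mul, map_mul, e.apply_symm_apply, e.apply_symm_apply, hbc]
  have h2 : x = ((e.symm b : M) * (e.symm b : M)) * ((e.symm c : M) * (e.symm c : M)) := congrArg Subtype.val h1
  rw [h2]
  exact mul_mem (sq_mem_LL _) (sq_mem_LL _)

theorem s4_normal_klein' : ∃ a b c d : Equiv.Perm (Fin 4), c * c = a ∧ d * d = b ∧ a * a = 1 ∧ b * b = 1 ∧ b * a = a * b ∧ a ≠ 1 ∧ b ≠ 1 ∧ b ≠ a ∧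
      (∀ g : Equiv.Perm (Fin 4), (g * a * g⁻¹ = a ∨ g * a * g⁻¹ = b ∨ g * a * g⁻¹ = a * b) ∧ (g * b * g⁻¹ = a ∨ g * b * g⁻¹ = b ∨ g * b * g⁻¹ = a * b)) := by
  refine ⟨Equiv.swap 0 1 * Equiv.swap 2 3, Equiv.swap 0 2 * Equiv.swap 1 3, Equiv.swap 0 2 * Equiv.swap 2 1 * Equiv.swap 1 3, Equiv.swap 0 1 * Equiv.swap 1 2 * Equiv.swap 2 3, ?_⟩
  decide +kernel

/-- an `S_4` in `PGL_2(q)` is the normalizer of a four-group in `PSL_2(q)` -/
theorem s4_norm (hodd : Odd (Fintype.card F)) (M : Subgroup PGL(2, F)) (e : M ≃* Equiv.Perm (Fin 4)) :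
    ∃ V : Subgroup PGL(2, F), IsKleinFour V ∧ V ≤ LL F ∧ M = Subgroup.normalizer (V : Set PGL(2, F)) := by
  obtain ⟨a, b, c, d, hca, hdb, ha, hb, hab, ha1, hb1, hne, hn⟩ := s4_normal_klein'
  let f : Equiv.Perm (Fin 4) →* PGL(2, F) := M.subtype.comp e.symm.toMonoidHom
  have hf : Function.Injective f := M.subtype_injective.comp e.symm.injective
  have hVk := kl_klein a b ha hb hab ha1 hb1 hne
  set V := kl a b ha hb hab with hV
  have haL : f a ∈ LL F := by rw [← hca, map_mul]; exact sq_mem_LL _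
  have hbL : f b ∈ LL F := by rw [← hdb, map_mul]; exact sq_mem_LL _
  have hVL : V.map f ≤ LL F := by
    rintro _ ⟨x, hx, rfl⟩
    rcases hx with h | h | h | h <;> rw [h]
    · rw [map_one]; exact one_mem _
    · exact haL
    · exact hbL
    · rw [map_mul]; exact mul_mem haL hbL
  have hVk' := klein_map f hf V hVk
  refine ⟨V.map f, hVk', hVL, ?_⟩
  have hle : M ≤ Subgroup.normalizer ((V.map f : Subgroup PGL(2, F)) : Set PGL(2, F)) := by
    intro g hg
    obtain ⟨q, hq⟩ : ∃ q : Equiv.Perm (Fin 4), f q = g := ⟨e ⟨g, hg⟩, by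
      show M.subtype (e.symm (e ⟨g, hg⟩)) = g
      rw [e.symm_apply_apply]; rfl⟩
    rw [← hq]
    have h1 : q ∈ Subgroup.normalizer (V : Set (Equiv.Perm (Fin 4))) := by
      rw [← conj_map_eq_iff]
      have hle : V.map (MulAut.conj q).toMonoidHom ≤ V := by
        have hqa : q * a * q⁻¹ ∈ V := by
          rcases (hn q).1 with h | h | h <;> rw [h]
          · exact Or.inr (Or.inl rfl)
          · exact Or.inr (Or.inr (Or.inl rfl))
          · exact Or.inr (Or.inr (Or.inr rfl))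
        have hqb : q * b * q⁻¹ ∈ V := by
          rcases (hn q).2 with h | h | h <;> rw [h]
          · exact Or.inr (Or.inl rfl)
          · exact Or.inr (Or.inr (Or.inl rfl))
          · exact Or.inr (Or.inr (Or.inr rfl))
        rintro _ ⟨x, hx, rfl⟩
        rcases hx with h | h | h | h <;> rw [h]
        · have : (MulAut.conj q).toMonoidHom 1 = 1 := map_one _
          rw [this]; exact one_mem V
        · exact hqa
        · exact hqb
        · rw [map_mul]; exact mul_mem hqa hqb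
      apply Subgroup.eq_of_le_of_card_ge hle
      rw [conj_of_normalizer_card]
    exact Subgroup.le_normalizer_map f (Subgroup.mem_map_of_mem f h1)
  apply Subgroup.eq_of_le_of_card_ge hle
  rw [(pgl_klein hodd _ hVk' hVL).1, Nat.card_congr e.toEquiv, card_s4]

/-- for `q ≡ ±1 mod 8` the normalizer of a four-group lies in `PSL_2(q)` -/
theorem norm_le_LL (hodd : Odd (Fintype.card F)) (h8 : Fintype.card F % 8 = 1 ∨ Fintype.card F % 8 = 7) (V : Subgroup PGL(2, F)) (hV : IsKleinFour V) (hL : V ≤ LL F) :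
    Subgroup.normalizer (V : Set PGL(2, F)) ≤ LL F := by
  have hpi : Function.Injective (ProjectiveSpecialLinearGroup.toPGL : ProjectiveSpecialLinearGroup (Fin 2) F →* PGL(2, F)) := ProjectiveSpecialLinearGroup.toPGL_injective
  set P : ProjectiveSpecialLinearGroup (Fin 2) F →* PGL(2, F) := ProjectiveSpecialLinearGroup.toPGL with hP
  have h2 : (V.comap P).map P = V := by
    rw [Subgroup.map_comap_eq, hP, toPGL_range, inf_eq_right.mpr hL]
  have hV1 : IsKleinFour (V.comap P) := klein_of_map _ hpi _ (by rw [h2]; exact hV)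
  have h24 := psl_norm_24 h8 _ hV1
  have h3 : (Subgroup.normalizer ((V.comap P : Subgroup (ProjectiveSpecialLinearGroup (Fin 2) F)) : Set (ProjectiveSpecialLinearGroup (Fin 2) F))).map P ≤
      Subgroup.normalizer (V : Set PGL(2, F)) := by
    have := Subgroup.le_normalizer_map (H := V.comap P) P
    rwa [h2] at this
  have h4 : (Subgroup.normalizer ((V.comap P : Subgroup (ProjectiveSpecialLinearGroup (Fin 2) F)) : Set (ProjectiveSpecialLinearGroup (Fin 2) F))).map P =
      Subgroup.normalizer (V : Set PGL(2, F)) := by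
    apply Subgroup.eq_of_le_of_card_ge h3
    rw [(pgl_klein hodd V hV hL).1, Subgroup.card_map_of_injective hpi, h24]
  rw [← h4]
  rintro _ ⟨x, -, rfl⟩
  exact toPGL_mem x

/-- stabilizers of points in `PGL_2` -/
theorem pgl_stab [DecidableEq F] (x : OnePoint F) : (stabilizer PGL(2, F) x).index = Fintype.card F + 1 := by
  rw [MulAction.index_stabilizer]
  have h1 : orbit PGL(2, F) x = Set.univ := by
    rw [Set.eq_univ_iff_forall]
    intro y
    obtain ⟨g, hg⟩ := mk_surj_smul x y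
    exact ⟨g, hg⟩
  rw [h1, Set.ncard_univ, Nat.card_eq_fintype_card]
  exact Fintype.card_option

/-- classification of the maximal subgroups of `PGL_2(q)` not containing `PSL_2(q)` -/
theorem pgl_max [DecidableEq F] (hodd : Odd (Fintype.card F)) (h3 : 3 < Fintype.card F) (M : Subgroup PGL(2, F)) (hM : IsCoatom M) (hML : ¬ LL F ≤ M) :
    (Nat.card M = Fintype.card F * (Fintype.card F - 1) ∧ ∃ x : OnePoint F, M = stabilizer PGL(2, F) x) ∨
    (Fintype.card F ≠ 5 ∧ Nonempty (M ≃* DihedralGroup (Fintype.card F - 1))) ∨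
    Nonempty (M ≃* DihedralGroup (Fintype.card F + 1)) ∨
    ((Fintype.card F).Prime ∧ (Fintype.card F % 8 = 3 ∨ Fintype.card F % 8 = 5) ∧ Nonempty (M ≃* Equiv.Perm (Fin 4))) ∨
    (∃ (k : Subfield F) (r : ℕ), r.Prime ∧ Odd r ∧ Nat.card k ^ r = Fintype.card F ∧ (∃ g : PGL(2, F), ∀ x, x ∈ M ↔ g * x * g⁻¹ ∈ (ProjGenLinGroup.map (n := Fin 2) k.subtype).range) ∧
        Nonempty (M ≃* PGL(2, k))) := by
  classical
  have h5 : 5 ≤ Fintype.card F := by obtain ⟨c, hc⟩ := hodd; omega
  have hG := card_PGL (F := F)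
  have hG120 := pgl_card_ge (F := F) h5
  have hidi : Function.Injective (MonoidHom.id PGL(2, F)) := fun _ _ h => h
  obtain ⟨T₁, N₁, T₂, N₂, hT⟩ := exists_tori (MonoidHom.id PGL(2, F)) hidi (by rw [MonoidHom.range_eq_top.mpr (fun x => ⟨x, rfl⟩)]; exact le_top) 1 (by rw [one_mul]; exact hG)
  have hG1 : 2 * ((Fintype.card F + 1) / 1) < Nat.card PGL(2, F) := by
    rw [Nat.div_one, hG]
    calc 2 * (Fintype.card F + 1) < (5 * 4) * (Fintype.card F + 1) := by omega
      _ ≤ (Fintype.card F * (Fintype.card F - 1)) * (Fintype.card F + 1) := Nat.mul_le_mul_right _ (Nat.mul_le_mul h5 (by omega))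
      _ = _ := by ring
  have hnle := not_le_LL hodd M hM hML
  have hNt : ∀ V : Subgroup PGL(2, F), IsKleinFour V → Subgroup.normalizer (V : Set PGL(2, F)) ≠ ⊤ := by
    intro V hV h
    have h1 := Nat.le_of_dvd (by norm_num) (pgl_norm_dvd hodd V hV)
    rw [h, Subgroup.card_top] at h1
    omega
  have hsubf : ∀ (k : Subfield F) (m : ℕ) (g : PGL(2, F)), 2 ≤ m → Nat.card k ^ m = Fintype.card F → (∀ x ∈ M, g * x * g⁻¹ ∈ (ProjGenLinGroup.map (n := Fin 2) k.subtype).range) →
      (∃ (k : Subfield F) (r : ℕ), r.Prime ∧ Odd r ∧ Nat.card k ^ r = Fintype.card F ∧ (∃ g : PGL(2, F), ∀ x, x ∈ M ↔ g * x * g⁻¹ ∈ (ProjGenLinGroup.map (n := Fin 2) k.subtype).range) ∧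
        Nonempty (M ≃* PGL(2, k))) := by
    intro k m g hm hkm hg
    obtain ⟨h1, h2, h3⟩ := pgl_sub_case hodd M hM hML k m hm hkm g hg
    obtain ⟨-, h4⟩ := pgl_sub_eq M hM k (by
      rw [← hkm]
      calc Nat.card k = Nat.card k ^ 1 := (pow_one _).symm
        _ < _ := Nat.pow_lt_pow_right Finite.one_lt_card (by omega)) g hg
    exact ⟨k, m, h1, h2, hkm, ⟨g, h4⟩, h3⟩
  rcases dickson_gen M.subtype M.subtype_injective 1 (Or.inl rfl) with ⟨hc, hd⟩ | ⟨n, hn, hnd, ⟨e⟩⟩ | ⟨x, hx⟩ | ⟨⟨e⟩⟩ | ⟨⟨e⟩⟩ | ⟨⟨e⟩⟩ | ⟨k, hk4, ⟨g, hg⟩, hc⟩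
  · exact (not_max_cyc hidi hT hG1 M hM hc hd).elim
  · have hMc : Nat.card M = 2 * n := by rw [Nat.card_congr e.toEquiv, DihedralGroup.nat_card]
    have hn2 : n ≠ 2 := by
      rintro rfl
      have hMk : IsKleinFour M := ⟨by rw [hMc], by rw [Monoid.exponent_eq_of_mulEquiv e]; exact IsKleinFour.exponent_two⟩
      have h1 : M = Subgroup.normalizer (M : Set PGL(2, F)) := by
        by_contra hne
        exact hNt M hMk (hM.2 _ (lt_of_le_of_ne Subgroup.le_normalizer hne))
      have h8 : 8 ∣ Nat.card PGL(2, F) := by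
        rw [hG]
        apply Dvd.dvd.mul_left
        obtain ⟨c, hc⟩ := hodd
        rw [hc, show 2 * c + 1 - 1 = 2 * c by omega, show 2 * c * (2 * c + 1 + 1) = 4 * (c * (c + 1)) by ring]
        have : 2 ∣ c * (c + 1) := (Nat.even_mul_succ_self c).two_dvd
        exact Nat.mul_dvd_mul (dvd_refl 4) this
      have h2 := eight_dvd_norm h8 M (by rw [hMc])
      rw [← h1, hMc] at h2
      norm_num at h2
    rcases max_dih hidi hT hG1 M hM n (by omega) hnd e with ⟨-, h⟩ | h
    · right; left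
      rw [Nat.div_one] at h
      refine ⟨?_, by rw [← h]; exact ⟨e⟩⟩
      intro hF5
      rw [hF5] at h
      have hGc : Nat.card PGL(2, F) = 120 := by rw [hG, hF5]
      haveI : Fact (Nat.Prime 2) := ⟨Nat.prime_two⟩
      obtain ⟨V, hV⟩ := exists_klein (F := F) hodd
      obtain ⟨hV1, hV2⟩ := klein_map_LL V hV
      obtain ⟨hN, -⟩ := pgl_klein hodd _ hV1 hV2
      have := excl_sylow 2 3 (by rw [hGc]; norm_num) M _ hM (by rw [hMc, h]; norm_num) (hNt _ hV1) (by rw [hN]; norm_num)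
      rw [hN] at this
      norm_num at this
    · right; right; left
      rw [Nat.div_one] at h
      rw [← h]; exact ⟨e⟩
  · left
    have h1 : M ≤ stabilizer PGL(2, F) x := fun h hh => hx ⟨h, hh⟩
    have h2 : stabilizer PGL(2, F) x ≠ ⊤ := by
      intro h
      have := pgl_stab x
      rw [h, Subgroup.index_top] at this
      omega
    have h3 : M = stabilizer PGL(2, F) x := by
      by_contra hne
      exact h2 (hM.2 _ (lt_of_le_of_ne h1 hne))
    have h4 := Subgroup.card_mul_index (stabilizer PGL(2, F) x)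
    rw [pgl_stab, ← h3, hG, ← mul_assoc] at h4
    exact ⟨Nat.eq_of_mul_eq_mul_right (by omega) h4, x, h3⟩
  · exact (hnle (a4_le_LL M e)).elim
  · obtain ⟨V, hV, hVL, hMV⟩ := s4_norm hodd M e
    obtain ⟨p, hp⟩ := CharP.exists F
    haveI hpp := Fact.mk (CharP.char_is_prime F p)
    obtain ⟨k, hk⟩ := exists_prime_subfield (F := F) p
    obtain ⟨g, hg⟩ := norm_range hodd k V hV hVL
    rcases finrank_cases k with ⟨m, hm, hkm⟩ | hkF
    · right; right; right; right
      exact hsubf k m g hm hkm (fun x hx => hg x (by rw [← hMV]; exact hx))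
    · right; right; right; left
      have hFp : Fintype.card F = p := hkF.symm.trans hk
      refine ⟨by rw [hFp]; exact hpp.out, ?_, ⟨e⟩⟩
      rcases mod8_cases (F := F) hodd with h | h
      · exact h
      · exfalso
        apply hnle
        rw [hMV]
        exact norm_le_LL hodd h V hV hVL
  · exact (hnle (a5_le_LL M e)).elim
  · rcases finrank_cases k with ⟨m, hm, hkm⟩ | hkF
    · right; right; right; right
      exact hsubf k m g hm hkm (fun x hx => hg ⟨x, hx⟩)
    · exfalso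
      rw [hkF, ← hG] at hc
      rcases hc with h | ⟨-, h⟩
      · exact hM.1 (Subgroup.eq_top_of_card_eq _ h)
      · have h1 : M.index = 2 := by
          have h2 := Subgroup.card_mul_index M
          rw [← h, mul_comm 2] at h2
          exact Nat.eq_of_mul_eq_mul_left Nat.card_pos h2
        exact hML (LL_le_of_index_two hodd M h1)

end

end CfsgLib.Dk29
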