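import Cfsg.Agent.LibDkJJ29

set_option autoImplicit false

/-! Maximality of the standard subgroups of `PSL_2(q)`, for arbitrary members of the classes. -/

namespace CfsgLib.Dk29

open MulAction Matrix OnePoint
open scoped MatrixGroups

section
variable {F : Type*} [Field F] [Fintype F]

theorem tor2_coatom [DecidableEq F] (hq : Fintype.card F ∉ ({2, 7, 9} : Finset ℕ)) (T N : Subgroup (ProjectiveSpecialLinearGroup (Fin 2) F))
    (hT : TorusData F ProjectiveSpecialLinearGroup.toPGL ((Fintype.card F + 1) / Nat.gcd 2 (Fintype.card F - 1)) T N) (hm : 2 ≤ (Fintype.card F + 1) / Nat.gcd 2 (Fintype.card F - 1)) : IsCoatom N := by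
  have hq1 : 1 < Fintype.card F := Fintype.one_lt_card
  have hc := card_PSL (F := F)
  generalize hcP : Nat.card (Matrix.ProjectiveSpecialLinearGroup (Fin 2) F) = C at hc
  have hq2 : Fintype.card F ≠ 2 ∧ Fintype.card F ≠ 7 ∧ Fintype.card F ≠ 9 := by
    simp only [Finset.mem_insert, Finset.mem_singleton, not_or] at hq
    exact hq
  have hpow : ∀ Q s, 4 ≤ Q → 2 ≤ s → Q ^ s = Fintype.card F → 4 * Q ≤ Fintype.card F := by
    intro Q s hQ hs h
    rw [← h]
    calc 4 * Q ≤ Q * Q := Nat.mul_le_mul_right _ hQ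
      _ = Q ^ 2 := by ring
      _ ≤ Q ^ s := Nat.pow_le_pow_right (by omega) hs
  have hval : ∀ q, Fintype.card F = q → Nat.gcd 2 (q - 1) * C = q * ((q - 1) * (q + 1)) := by
    rintro q rfl; exact hc
  rcases gcd_cases _ hq1 with ⟨hd1, hpar⟩ | ⟨hd1, hpar⟩
  · have hm4 : 4 ≤ Fintype.card F := by obtain ⟨c, hc'⟩ := hpar; omega
    rw [hd1] at hT hm
    apply torus_max T N _ hT hm
    · rw [hcP]
      rw [hd1] at hc
      rw [Nat.div_one]
      have e1 : 3 * (Fintype.card F + 1) ≤ Fintype.card F * ((Fintype.card F - 1) * (Fintype.card F + 1)) := by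
        rw [← mul_assoc]
        apply Nat.mul_le_mul_right
        calc 3 ≤ 4 * 3 := by norm_num
          _ ≤ _ := Nat.mul_le_mul hm4 (by omega)
      omega
    · rw [hd1]; omega
    · intro n hn hmn
      rw [hd1, Nat.div_one, Nat.div_one] at hn
      rw [Nat.div_one] at hmn ⊢
      rcases hn with h | h
      · have := Nat.le_of_dvd (by omega) (hmn.trans h); omega
      · exact Nat.dvd_antisymm h hmn
    · intro h; omega
    · intro h; omega
    · intro h
      rw [Nat.div_one] at h
      have h5 : Fintype.card F = 4 := by omega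
      have := hval 4 h5
      norm_num at this
      left; omega
    · intro Q s hQ hs h
      have := hpow Q s hQ hs h
      omega
  · have hm4 : 3 ≤ Fintype.card F := by obtain ⟨c, hc'⟩ := hpar; omega
    rw [hd1] at hT hm
    obtain ⟨c, hc'⟩ := hpar
    have hmc : (Fintype.card F + 1) / 2 = c + 1 := by omega
    have hmc' : (Fintype.card F - 1) / 2 = c := by omega
    rw [hmc] at hT hm
    apply torus_max T N _ hT hm
    · rw [hcP]
      rw [hd1, hc'] at hc
      rw [Nat.add_sub_cancel] at hc
      have e1 : 3 * (2 * (c + 1)) ≤ (2 * c + 1) * (c * (2 * (c + 1))) := by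
        rw [← mul_assoc (2 * c + 1)]
        apply Nat.mul_le_mul_right
        calc 3 = 3 * 1 := by norm_num
          _ ≤ _ := Nat.mul_le_mul (by omega) (by omega)
      have e2 : (2 * c + 1) * (2 * c * (2 * c + 1 + 1)) = 2 * ((2 * c + 1) * (c * (2 * (c + 1)))) := by ring
      omega
    · rw [hd1]; omega
    · intro n hn hmn
      rw [hd1, hmc, hmc'] at hn
      rcases hn with h | h
      · have := Nat.le_of_dvd (by omega) (hmn.trans h); omega
      · exact Nat.dvd_antisymm h hmn
    · intro h
      have h5 : Fintype.card F = 3 := by omega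
      have := hval 3 h5
      norm_num at this
      omega
    · intro h
      have h5 : Fintype.card F = 3 ∨ Fintype.card F = 5 := by omega
      rcases h5 with h5 | h5
      · have := hval 3 h5
        norm_num at this
        omega
      · have := hval 5 h5
        norm_num at this
        omega
    · intro h
      have h5 : Fintype.card F = 3 ∨ Fintype.card F = 5 := by omega
      left
      rcases h5 with h5 | h5
      · have := hval 3 h5
        norm_num at this
        omega
      · have := hval 5 h5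
        norm_num at this
        omega
    · intro Q s hQ hs h
      have := hpow Q s hQ hs h
      omega

theorem tor1_coatom [DecidableEq F] (hq : Fintype.card F ∉ ({2, 3, 5, 7, 9, 11} : Finset ℕ)) (T N : Subgroup (ProjectiveSpecialLinearGroup (Fin 2) F))
    (hT : TorusData F ProjectiveSpecialLinearGroup.toPGL ((Fintype.card F - 1) / Nat.gcd 2 (Fintype.card F - 1)) T N) : IsCoatom N := by
  have hq1 : 1 < Fintype.card F := Fintype.one_lt_card
  have hc := card_PSL (F := F)
  have hq2 : Fintype.card F ≠ 2 ∧ Fintype.card F ≠ 3 ∧ Fintype.card F ≠ 5 ∧ Fintype.card F ≠ 7 ∧ Fintype.card F ≠ 9 ∧ Fintype.card F ≠ 11 := by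
    simp only [Finset.mem_insert, Finset.mem_singleton, not_or] at hq
    exact hq
  have hm : 2 ≤ (Fintype.card F - 1) / Nat.gcd 2 (Fintype.card F - 1) := by
    rcases gcd_cases _ hq1 with ⟨hd1, hpar⟩ | ⟨hd1, hpar⟩
    · rw [hd1]; obtain ⟨c, hc'⟩ := hpar; omega
    · rw [hd1]; obtain ⟨c, hc'⟩ := hpar; omega
  generalize hcP : Nat.card (Matrix.ProjectiveSpecialLinearGroup (Fin 2) F) = C at hc
  have hpow : ∀ Q s, 4 ≤ Q → 2 ≤ s → Q ^ s = Fintype.card F → 4 * Q ≤ Fintype.card F := by
    intro Q s hQ hs h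
    rw [← h]
    calc 4 * Q ≤ Q * Q := Nat.mul_le_mul_right _ hQ
      _ = Q ^ 2 := by ring
      _ ≤ Q ^ s := Nat.pow_le_pow_right (by omega) hs
  have hval : ∀ q, Fintype.card F = q → Nat.gcd 2 (q - 1) * C = q * ((q - 1) * (q + 1)) := by
    rintro q rfl; exact hc
  rcases gcd_cases _ hq1 with ⟨hd1, hpar⟩ | ⟨hd1, hpar⟩
  · have hm4 : 4 ≤ Fintype.card F := by obtain ⟨c, hc'⟩ := hpar; omega
    rw [hd1] at hT hm
    apply torus_max T N _ hT hm
    · rw [hcP]
      rw [hd1] at hc
      rw [Nat.div_one]
      have e1 : 3 * (Fintype.card F + 1) ≤ Fintype.card F * ((Fintype.card F - 1) * (Fintype.card F + 1)) := by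
        rw [← mul_assoc]
        apply Nat.mul_le_mul_right
        calc 3 ≤ 4 * 3 := by norm_num
          _ ≤ _ := Nat.mul_le_mul hm4 (by omega)
      omega
    · rw [hd1]; omega
    · intro n hn hmn
      rw [hd1, Nat.div_one, Nat.div_one] at hn
      rw [Nat.div_one] at hmn ⊢
      rcases hn with h | h
      · exact Nat.dvd_antisymm h hmn
      · exfalso
        have e1 : Fintype.card F - 1 ∣ 2 := by
          have e2 := (Nat.dvd_add_right (c := 2) (dvd_refl (Fintype.card F - 1))).mp (by
            have : Fintype.card F - 1 + 2 = Fintype.card F + 1 := by omega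
            rw [this]; exact hmn.trans h)
          exact e2
        have := Nat.le_of_dvd (by norm_num) e1; omega
    · intro h; obtain ⟨c, hc'⟩ := hpar; omega
    · intro h
      rw [Nat.div_one] at h
      have h5 : Fintype.card F = 4 := by obtain ⟨c, hc'⟩ := hpar; omega
      have := hval 4 h5
      norm_num at this
      omega
    · intro h
      rw [Nat.div_one] at h
      have h5 : Fintype.card F = 4 ∨ Fintype.card F = 6 := by obtain ⟨c, hc'⟩ := hpar; omega
      rcases h5 with h5 | h5
      · have := hval 4 h5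
        norm_num at this
        left; omega
      · have := hval 6 h5
        norm_num at this
        right; omega
    · intro Q s hQ hs h
      have := hpow Q s hQ hs h
      omega
  · rw [hd1] at hT hm
    obtain ⟨c, hc'⟩ := hpar
    have hmc : (Fintype.card F + 1) / 2 = c + 1 := by omega
    have hmc' : (Fintype.card F - 1) / 2 = c := by omega
    rw [hmc'] at hT hm
    apply torus_max T N _ hT hm
    · rw [hcP]
      rw [hd1, hc'] at hc
      rw [Nat.add_sub_cancel] at hc
      have e1 : 3 * (2 * (c + 1)) ≤ (2 * c + 1) * (c * (2 * (c + 1))) := by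
        rw [← mul_assoc (2 * c + 1)]
        apply Nat.mul_le_mul_right
        calc 3 = 3 * 1 := by norm_num
          _ ≤ _ := Nat.mul_le_mul (by omega) (by omega)
      have e2 : (2 * c + 1) * (2 * c * (2 * c + 1 + 1)) = 2 * ((2 * c + 1) * (c * (2 * (c + 1)))) := by ring
      omega
    · rw [hd1]; omega
    · intro n hn hmn
      rw [hd1, hmc, hmc'] at hn
      rcases hn with h | h
      · exact Nat.dvd_antisymm h hmn
      · exfalso
        have e1 : c ∣ 1 := (Nat.dvd_add_right (c := 1) (dvd_refl c)).mp (hmn.trans h)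
        have := Nat.le_of_dvd (by norm_num) e1; omega
    · intro h
      omega
    · intro h
      omega
    · intro h
      omega
    · intro Q s hQ hs h
      have := hpow Q s hQ hs h
      omega

theorem norm_coatom (p : ℕ) [Fact p.Prime] (hF : Fintype.card F = p) (h5 : 5 ≤ p) (h8 : p % 8 = 3 ∨ p % 8 = 5) (h10 : p % 10 ≠ 1 ∧ p % 10 ≠ 9)
    (V : Subgroup (ProjectiveSpecialLinearGroup (Fin 2) F)) (hV : IsKleinFour V) : IsCoatom (Subgroup.normalizer (V : Set (ProjectiveSpecialLinearGroup (Fin 2) F))) := by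
  classical
  have hpp : p.Prime := Fact.out
  have hmod : Fintype.card F % 8 = 3 ∨ Fintype.card F % 8 = 5 := by rw [hF]; exact h8
  have hodd : Odd (Fintype.card F) := by rw [Nat.odd_iff]; omega
  have hN := psl_norm_twelve hmod V hV
  obtain ⟨e⟩ := (klein_norm_iso hodd V _ hV Subgroup.le_normalizer le_rfl).1 hN
  have hcard := psl_odd_card (F := F) hodd
  have hbig : 5 * (4 * 6) ≤ Fintype.card F * ((Fintype.card F - 1) * (Fintype.card F + 1)) := Nat.mul_le_mul (by omega) (Nat.mul_le_mul (by omega) (by omega))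
  refine ⟨?_, ?_⟩
  · intro h
    rw [h, Subgroup.card_top] at hN
    omega
  · intro L hNL
    by_contra hL
    have hlt : Nat.card (Subgroup.normalizer (V : Set (Matrix.ProjectiveSpecialLinearGroup (Fin 2) F))) < Nat.card L := by
      by_contra hcon
      exact hNL.ne (Subgroup.eq_of_le_of_card_ge hNL.le (by omega))
    have hdvd' : Nat.card L ∣ Nat.card (Matrix.ProjectiveSpecialLinearGroup (Fin 2) F) := Subgroup.card_subgroup_dvd_card L
    have hLt : Nat.card L < Nat.card (Matrix.ProjectiveSpecialLinearGroup (Fin 2) F) := by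
      by_contra hcon
      exact hL (Subgroup.eq_top_of_le_card L (by omega))
    rw [hN] at hlt
    rcases a4_cases hodd L hL ((Subgroup.inclusion hNL.le).comp e.symm.toMonoidHom)
      ((Subgroup.inclusion_injective hNL.le).comp e.symm.injective) with ⟨⟨e'⟩⟩ | ⟨⟨e'⟩⟩ | ⟨⟨e'⟩⟩ | ⟨k, m, hk, hm, hkm, -, -⟩
    · rw [Nat.card_congr e'.toEquiv, card_a4] at hlt; omega
    · rw [Nat.card_congr e'.toEquiv, card_s4] at hdvd'
      exact psl_not_eight hmod (dvd_trans (by norm_num) hdvd')
    · rw [Nat.card_congr e'.toEquiv, card_a5] at hdvd' hLt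
      have h5' : 5 ∣ Fintype.card F * ((Fintype.card F - 1) * (Fintype.card F + 1)) := by
        rw [← hcard]
        exact Dvd.dvd.mul_left (dvd_trans (by norm_num) hdvd') _
      rw [hF] at h5'
      rcases (Nat.prime_five.dvd_mul).mp h5' with h6 | h6
      · have hp5 : p = 5 := ((Nat.prime_dvd_prime_iff_eq Nat.prime_five hpp).mp h6).symm
        rw [hF, hp5] at hcard
        omega
      · rcases (Nat.prime_five.dvd_mul).mp h6 with h7 | h7
        · omega
        · omega
    · rw [hF] at hkm
      rw [← hkm] at hpp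
      exact Nat.Prime.not_prime_pow hm hpp

theorem sub_coatom {K : Type*} [Field K] [Fintype K] (q r : ℕ) (hK : Fintype.card K = q) (hF : Fintype.card F = q ^ r) (hq : Odd q) (hr : r.Prime) (hr2 : r ≠ 2)
    (H : Subgroup (ProjectiveSpecialLinearGroup (Fin 2) F)) (e : ProjectiveSpecialLinearGroup (Fin 2) K ≃* H) : IsCoatom H := by
  classical
  subst hK
  have hK1 : 1 < Fintype.card K := Fintype.one_lt_card
  have hodd : Odd (Fintype.card F) := by rw [hF]; exact hq.pow
  have hcard := psl_odd_card (F := F) hodd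
  have hcardK := psl_odd_card (F := K) hq
  have hK3 : 3 ≤ Fintype.card K := by obtain ⟨c, hc⟩ := hq; omega
  have hrodd := hr.odd_of_ne_two hr2
  have hcH : Nat.card H = Nat.card (Matrix.ProjectiveSpecialLinearGroup (Fin 2) K) := by
    rw [← Nat.card_congr e.toEquiv]
  have h24 : 3 * (2 * 4) ≤ Fintype.card K * ((Fintype.card K - 1) * (Fintype.card K + 1)) := Nat.mul_le_mul hK3 (Nat.mul_le_mul (by omega) (by omega))
  have hlt' : Fintype.card K < Fintype.card F := by
    rw [hF]
    calc Fintype.card K = Fintype.card K ^ 1 := (pow_one _).symm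
      _ < _ := Nat.pow_lt_pow_right hK1 hr.one_lt
  have hpar : Even (Fintype.card K) ↔ Even (Fintype.card F) := by
    constructor
    · intro h; exact absurd hq (Nat.not_odd_iff_even.mpr h)
    · intro h; exact absurd hodd (Nat.not_odd_iff_even.mpr h)
  refine ⟨?_, ?_⟩
  · intro h
    rw [h, Subgroup.card_top] at hcH
    have := card_psl_lt hlt' hpar
    omega
  · intro L hHL
    by_contra hL
    obtain ⟨j, hj⟩ := exists_a4 (F := K) hq
    let i : alternatingGroup (Fin 4) →* L := (Subgroup.inclusion hHL.le).comp (e.toMonoidHom.comp j)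
    have hi : Function.Injective i := (Subgroup.inclusion_injective hHL.le).comp (e.injective.comp hj)
    have hlt : Nat.card H < Nat.card L := by
      by_contra hcon
      exact hHL.ne (Subgroup.eq_of_le_of_card_ge hHL.le (by omega))
    have hdvd : Nat.card H ∣ Nat.card L := Subgroup.card_dvd_of_le hHL.le
    have hdvd' : Nat.card L ∣ Nat.card (Matrix.ProjectiveSpecialLinearGroup (Fin 2) F) := Subgroup.card_subgroup_dvd_card L
    rw [hcH] at hlt hdvd
    have hK5 : Fintype.card K ≠ 3 → 60 ≤ Nat.card (Matrix.ProjectiveSpecialLinearGroup (Fin 2) K) := by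
      intro h
      have hK5 : 5 ≤ Fintype.card K := by obtain ⟨c, hc⟩ := hq; omega
      have h120 : 5 * (4 * 6) ≤ Fintype.card K * ((Fintype.card K - 1) * (Fintype.card K + 1)) := Nat.mul_le_mul hK5 (Nat.mul_le_mul (by omega) (by omega))
      omega
    rcases a4_cases hodd L hL i hi with ⟨⟨e'⟩⟩ | ⟨⟨e'⟩⟩ | ⟨⟨e'⟩⟩ | ⟨k, m, hk, hm, hkm, -, hc⟩
    · rw [Nat.card_congr e'.toEquiv, card_a4] at hlt; omega
    · rw [Nat.card_congr e'.toEquiv, card_s4] at hlt hdvd'
      have hK3' : Fintype.card K = 3 := by
        by_contra hne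
        have := hK5 hne
        omega
      have hmod : Fintype.card F % 8 = 3 ∨ Fintype.card F % 8 = 5 := by
        rw [hF, hK3']
        obtain ⟨c, hc⟩ := hrodd
        left
        rw [hc, pow_add, pow_mul, Nat.mul_mod, Nat.pow_mod]
        norm_num
      exact psl_not_eight hmod (dvd_trans (by norm_num) hdvd')
    · rw [Nat.card_congr e'.toEquiv, card_a5] at hlt hdvd'
      have hK3' : Fintype.card K = 3 := by
        by_contra hne
        have := hK5 hne
        omega
      have h5' : 5 ∣ Fintype.card F * ((Fintype.card F - 1) * (Fintype.card F + 1)) := by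
        rw [← hcard]
        exact Dvd.dvd.mul_left (dvd_trans (by norm_num) hdvd') _
      rw [hF, hK3'] at h5'
      exact pow_three_mod5 r hrodd (Nat.Coprime.dvd_of_dvd_mul_left (Nat.Coprime.pow_right r (by norm_num)) h5')
    · obtain ⟨p, hp⟩ := CharP.exists K
      haveI := hp
      obtain ⟨⟨b, hb0⟩, hpp, hb⟩ := FiniteField.card K p
      have hb : Fintype.card K = p ^ b := hb
      have hkQ : Nat.card k = Fintype.card K := by
        apply sub_eq hpp b hb0 hb (by rw [hkm, hF]) hm hr
        have h1 : (Fintype.card K - 1) * (Fintype.card K + 1) ∣ 2 * Nat.card (Matrix.ProjectiveSpecialLinearGroup (Fin 2) K) := by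
          rw [hcardK]; exact dvd_mul_left _ _
        have h2 : 2 * Nat.card (Matrix.ProjectiveSpecialLinearGroup (Fin 2) K) ∣ 2 * Nat.card L := Nat.mul_dvd_mul_left _ hdvd
        refine (h1.trans h2).trans ?_
        rcases hc with hc | ⟨-, hc⟩
        · rw [hc]
        · rw [hc]; exact dvd_mul_left _ _
      rw [hkQ] at hc
      rcases hc with hc | ⟨-, hc⟩
      · rw [hc] at hdvd'
        rw [hF] at hcard
        exact two_part (Fintype.card K) r hq hrodd hK1 _ hcard hdvd'
      · omega

theorem bor_coatom [DecidableEq F] (x : OnePoint F) : IsCoatom (bor x) := by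
  have hq1 : 1 < Fintype.card F := Fintype.one_lt_card
  refine ⟨?_, ?_⟩
  · intro h
    have := bor_index x
    rw [h, Subgroup.index_top] at this
    omega
  · intro J hJ
    obtain ⟨g, hgJ, hgb⟩ := Set.exists_of_ssubset hJ
    have hgx : ProjectiveSpecialLinearGroup.toPGL g • x ≠ x := fun h => hgb ((mem_bor x g).mpr h)
    rw [eq_top_iff]
    intro h _
    by_cases hx : ProjectiveSpecialLinearGroup.toPGL h • x = x
    · exact hJ.le ((mem_bor x h).mpr hx)
    · obtain ⟨u, hu, hu1, hu2⟩ := LL_two x _ (Ne.symm hgx)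
      obtain ⟨v, hv, hv1, hv2⟩ := LL_two x _ (Ne.symm hx)
      rw [← toPGL_range] at hu hv
      obtain ⟨u, rfl⟩ := hu
      obtain ⟨v, rfl⟩ := hv
      have hb : v⁻¹ * u ∈ bor x := by
        rw [mem_bor, map_mul, mul_smul, hu1, map_inv, inv_smul_eq_iff, hv1]
      have h1 : (v⁻¹ * u * g)⁻¹ * h ∈ bor x := by
        rw [mem_bor, map_mul, mul_smul, map_inv, inv_smul_eq_iff, map_mul, map_mul, mul_smul, mul_smul, hu2, map_inv, eq_inv_smul_iff, hv2]
      have h2 : h = (v⁻¹ * u * g) * ((v⁻¹ * u * g)⁻¹ * h) := by group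
      rw [h2]
      exact mul_mem (mul_mem (hJ.le hb) hgJ) (hJ.le h1)

/-- `M ∩ PSL_2(q)` has index 2 in `M` -/
theorem card_comap_two (hodd : Odd (Fintype.card F)) (M : Subgroup PGL(2, F)) (hM : ¬ M ≤ LL F) :
    2 * Nat.card (M.comap (ProjectiveSpecialLinearGroup.toPGL : ProjectiveSpecialLinearGroup (Fin 2) F →* PGL(2, F))) = Nat.card M := by
  haveI := LL_normal (F := F)
  have hpi : Function.Injective (ProjectiveSpecialLinearGroup.toPGL : ProjectiveSpecialLinearGroup (Fin 2) F →* PGL(2, F)) := ProjectiveSpecialLinearGroup.toPGL_injective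
  have h1 : Nat.card (M.comap (ProjectiveSpecialLinearGroup.toPGL : ProjectiveSpecialLinearGroup (Fin 2) F →* PGL(2, F))) = Nat.card (LL F ⊓ M : Subgroup PGL(2, F)) := by
    rw [← Subgroup.card_map_of_injective hpi, Subgroup.map_comap_eq, toPGL_range]
  have h2 : (LL F).relIndex M = 2 := by
    have h3 : (LL F).relIndex M ∣ (LL F).index := Subgroup.relIndex_dvd_index_of_normal _ _
    have h4 : (LL F).index = 2 := by
      rw [index_LL]
      rcases gcd_cases _ (Fintype.one_lt_card (α := F)) with ⟨-, h⟩ | ⟨h, -⟩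
      · exact absurd h (Nat.not_even_iff_odd.mpr hodd)
      · exact h
    rw [h4] at h3
    rcases (Nat.dvd_prime Nat.prime_two).mp h3 with h5 | h5
    · exact absurd (Subgroup.relIndex_eq_one.mp h5) hM
    · exact h5
  have h3 : Nat.card (LL F ⊓ M : Subgroup PGL(2, F)) * (LL F).relIndex M = Nat.card M := by
    have := Subgroup.relIndex_mul_relIndex (⊥ : Subgroup PGL(2, F)) (LL F ⊓ M) M bot_le inf_le_right
    rw [Subgroup.relIndex_bot_left, Subgroup.relIndex_bot_left, Subgroup.inf_relIndex_right] at this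
    exact this
  rw [h1, ← h3, h2, mul_comm]

/-- dihedral subgroups of `PGL_2(q)` meet `PSL_2(q)` in torus normalizers -/
theorem dih_comap [DecidableEq F] (hodd : Odd (Fintype.card F)) (h5 : 5 ≤ Fintype.card F) (M : Subgroup PGL(2, F)) (hM : ¬ M ≤ LL F) (s : ℕ) (hs6 : 6 ≤ s)
    (hs : s = Fintype.card F - 1 ∨ s = Fintype.card F + 1) (e : M ≃* DihedralGroup s) :
    ∃ (T : Subgroup (ProjectiveSpecialLinearGroup (Fin 2) F)),
      TorusData F ProjectiveSpecialLinearGroup.toPGL (s / 2) T (M.comap (ProjectiveSpecialLinearGroup.toPGL : ProjectiveSpecialLinearGroup (Fin 2) F →* PGL(2, F))) := by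
  have hpi : Function.Injective (ProjectiveSpecialLinearGroup.toPGL : ProjectiveSpecialLinearGroup (Fin 2) F →* PGL(2, F)) := ProjectiveSpecialLinearGroup.toPGL_injective
  obtain ⟨T₁, N₁, T₂, N₂, hT⟩ := exists_tori (ProjectiveSpecialLinearGroup.toPGL : ProjectiveSpecialLinearGroup (Fin 2) F →* PGL(2, F)) hpi (by rw [toPGL_range]) 2 (psl_odd_card hodd)
  have hodd' := Nat.odd_iff.mp hodd
  haveI : NeZero s := ⟨by omega⟩
  let t : M := e.symm (DihedralGroup.r 1)
  have ho : orderOf (t : PGL(2, F)) = s := by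
    rw [Subgroup.orderOf_coe, MulEquiv.orderOf_eq, DihedralGroup.orderOf_r_one]
  have hu : (t : PGL(2, F)) * t ∈ LL F := sq_mem_LL _
  rw [← toPGL_range] at hu
  obtain ⟨v, hv⟩ := hu
  have hov : orderOf v = s / 2 := by
    rw [← orderOf_injective _ hpi, hv, ← pow_two, orderOf_pow, ho, Nat.gcd_eq_right (by omega)]
  have hv1 : v ≠ 1 := by
    rintro rfl
    rw [orderOf_one] at hov; omega
  obtain ⟨T, N, n, hn, hTN, hn2, hvT⟩ := mem_torus hpi hT v hv1 (by rw [hov]; rcases hs with h | h <;> rw [h] <;> [left; right] <;> exact dvd_refl _)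
  have hvn : s / 2 ∣ n := by
    rw [← hov, ← hTN.card, ← Subgroup.orderOf_mk v hvT]
    exact orderOf_dvd_natCard _
  have hns : n = s / 2 := by
    rcases hs with h | h
    · rcases hn with ⟨-, h1⟩ | h1
      · rw [h1, h]
      · exfalso
        have h2 : n = s / 2 + 1 := by omega
        rw [h2] at hvn
        have h3 := (Nat.dvd_add_right (dvd_refl (s / 2))).mp hvn
        have := Nat.le_of_dvd (by norm_num) h3
        omega
    · rcases hn with ⟨-, h1⟩ | h1
      · exfalso
        have := Nat.le_of_dvd (by omega) hvn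
        omega
      · rw [h1, h]
  have hKN : M.comap (ProjectiveSpecialLinearGroup.toPGL : ProjectiveSpecialLinearGroup (Fin 2) F →* PGL(2, F)) ≤ N := by
    intro g hg
    apply hTN.norm _ hvT hv1
    have key : ∀ y : DihedralGroup s, y * DihedralGroup.r 1 * y⁻¹ = DihedralGroup.r 1 ∨ y * DihedralGroup.r 1 * y⁻¹ = (DihedralGroup.r 1)⁻¹ := by
      intro y
      cases y with
      | r i =>
        left
        rw [DihedralGroup.inv_r, DihedralGroup.r_mul_r, DihedralGroup.r_mul_r]
        congr 1; ring
      | sr i =>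
        right
        rw [DihedralGroup.inv_sr, DihedralGroup.inv_r, DihedralGroup.sr_mul_r, DihedralGroup.sr_mul_sr]
        congr 1; ring
    have h1 : (⟨_, hg⟩ : M) * t * (⟨_, hg⟩ : M)⁻¹ = t ∨ (⟨_, hg⟩ : M) * t * (⟨_, hg⟩ : M)⁻¹ = t⁻¹ := by
      have h2 := key (e ⟨_, hg⟩)
      rcases h2 with h2 | h2
      · left
        apply e.injective
        rw [map_mul, map_mul, map_inv]
        show e _ * e (e.symm _) * _ = e (e.symm _)
        rw [e.apply_symm_apply]; exact h2
      · right
        apply e.injective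
        rw [map_mul, map_mul, map_inv, map_inv]
        show e _ * e (e.symm _) * _ = (e (e.symm _))⁻¹
        rw [e.apply_symm_apply]; exact h2
    have h3 : ProjectiveSpecialLinearGroup.toPGL (g * v * g⁻¹) = (ProjectiveSpecialLinearGroup.toPGL g * t * (ProjectiveSpecialLinearGroup.toPGL g)⁻¹) * (ProjectiveSpecialLinearGroup.toPGL g * t * (ProjectiveSpecialLinearGroup.toPGL g)⁻¹) := by
      rw [map_mul, map_mul, map_inv]
      change ProjectiveSpecialLinearGroup.toPGL g * ProjectiveSpecialLinearGroup.toPGL v * (ProjectiveSpecialLinearGroup.toPGL g)⁻¹ = _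
      have hv' : ProjectiveSpecialLinearGroup.toPGL v = (t : PGL(2, F)) * t := hv
      rw [hv']; group
    rcases h1 with h1 | h1
    · have h2 : ProjectiveSpecialLinearGroup.toPGL g * (t : PGL(2, F)) * (ProjectiveSpecialLinearGroup.toPGL g)⁻¹ = t := congrArg Subtype.val h1
      rw [h2] at h3
      have h4 : g * v * g⁻¹ = v := hpi (h3.trans hv.symm)
      rw [h4]; exact hvT
    · have h2 : ProjectiveSpecialLinearGroup.toPGL g * (t : PGL(2, F)) * (ProjectiveSpecialLinearGroup.toPGL g)⁻¹ = (t : PGL(2, F))⁻¹ := congrArg Subtype.val h1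
      rw [h2] at h3
      have h4 : g * v * g⁻¹ = v⁻¹ := by
        apply hpi
        rw [h3, map_inv]
        have hv' : ProjectiveSpecialLinearGroup.toPGL v = (t : PGL(2, F)) * t := hv
        rw [hv']; group
      rw [h4]; exact inv_mem hvT
  have hc := card_comap_two hodd M hM
  have hMc : Nat.card M = 2 * s := by rw [Nat.card_congr e.toEquiv, DihedralGroup.nat_card]
  have heq : M.comap (ProjectiveSpecialLinearGroup.toPGL : ProjectiveSpecialLinearGroup (Fin 2) F →* PGL(2, F)) = N := by
    apply Subgroup.eq_of_le_of_card_ge hKN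
    rw [hTN.cardN, hns]
    omega
  rw [heq, ← hns]
  exact ⟨T, hTN⟩

end

end CfsgLib.Dk29
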