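import Cfsg.Agent.LibDkS29

set_option autoImplicit false

/-! Four-groups of `PSL_2(q)`, their normalizers. -/

namespace CfsgLib.Dk29

open MulAction Matrix OnePoint
open scoped MatrixGroups

theorem zmod_half {n : ℕ} [NeZero n] (i j : ZMod n) (hi : i + i = 0) (hj : j + j = 0) (hi0 : i ≠ 0) (hj0 : j ≠ 0) : i = j := by
  have key : ∀ i : ZMod n, i + i = 0 → i ≠ 0 → 2 * i.val = n := by
    intro i hi hi0
    have h1 : ((2 * i.val : ℕ) : ZMod n) = 0 := by
      rw [Nat.cast_mul, ZMod.natCast_zmod_val, Nat.cast_two, two_mul, hi]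
    rw [ZMod.natCast_eq_zero_iff] at h1
    have h2 := ZMod.val_lt i
    have h3 : i.val ≠ 0 := by rwa [Ne, ZMod.val_eq_zero]
    obtain ⟨c, hc⟩ := h1
    have h4 : c = 1 := by
      have : 0 < c := by
        rcases Nat.eq_zero_or_pos c with h | h
        · rw [h, mul_zero] at hc; omega
        · exact h
      by_contra hne
      have : n * 2 ≤ n * c := Nat.mul_le_mul_left _ (by omega)
      omega
    rw [h4, mul_one] at hc; exact hc
  have h1 := key i hi hi0
  have h2 := key j hj hj0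
  apply ZMod.val_injective
  omega

theorem dih_klein (n : ℕ) [NeZero n] (W : Subgroup (DihedralGroup n)) (hn : W.Normal) (hW : IsKleinFour W) : n ∣ 4 := by
  obtain ⟨a, b, ha, hb, hab, ha1, hb1, hne, rfl⟩ := exists_kl W hW
  have haW : a ∈ kl a b ha hb hab := Or.inr (Or.inl rfl)
  have hbW : b ∈ kl a b ha hb hab := Or.inr (Or.inr (Or.inl rfl))
  have hsq : ∀ x ∈ kl a b ha hb hab, x * x = 1 := fun x hx => congrArg Subtype.val (IsKleinFour.mul_self (⟨x, hx⟩ : kl a b ha hb hab))
  obtain ⟨i, hi⟩ : ∃ i, DihedralGroup.sr i ∈ kl a b ha hb hab := by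
    cases a with
    | sr i => exact ⟨i, haW⟩
    | r i =>
      cases b with
      | sr i => exact ⟨i, hbW⟩
      | r j =>
        exfalso
        apply hne
        rw [DihedralGroup.r_mul_r, DihedralGroup.one_def, DihedralGroup.r.injEq] at ha hb
        rw [Ne, DihedralGroup.one_def, DihedralGroup.r.injEq] at ha1 hb1
        rw [zmod_half i j ha hb ha1 hb1]
  have h1 := hn.conj_mem _ hi (DihedralGroup.r 1)
  have h2 := mul_mem hi h1
  have h3 := hsq _ h2
  rw [DihedralGroup.inv_r, DihedralGroup.r_mul_sr, DihedralGroup.sr_mul_r, DihedralGroup.sr_mul_sr, DihedralGroup.r_mul_r, DihedralGroup.one_def, DihedralGroup.r.injEq] at h3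
  have h4 : ((4 : ℕ) : ZMod n) = 0 := by
    have : ((4 : ℕ) : ZMod n) = -((i - 1 + -1 - i) + (i - 1 + -1 - i)) := by push_cast; ring
    rw [this, h3, neg_zero]
  rwa [ZMod.natCast_eq_zero_iff] at h4

theorem klein_conj_all {G : Type*} [Group G] [Finite G] (h8 : ¬ 8 ∣ Nat.card G) (V W : Subgroup G) (hV : IsKleinFour V) (hW : IsKleinFour W) :
    ∃ g : G, W = V.map (MulAut.conj g).toMonoidHom := by
  haveI : Fact (Nat.Prime 2) := ⟨Nat.prime_two⟩
  have key : ∀ V : Subgroup G, IsKleinFour V → ∃ P : Sylow 2 G, (P : Subgroup G) = V := by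
    intro V hV
    have hp : IsPGroup 2 V := IsPGroup.of_card (n := 2) (by rw [hV.card_four]; norm_num)
    obtain ⟨P, hP⟩ := hp.exists_le_sylow
    refine ⟨P, ?_⟩
    symm
    apply Subgroup.eq_of_le_of_card_ge hP
    obtain ⟨k, hk⟩ := P.2.exists_card_eq
    have hk3 : k < 3 := by
      by_contra hlt
      push Not at hlt
      apply h8
      have h1 : (2 : ℕ) ^ 3 ∣ 2 ^ k := pow_dvd_pow 2 hlt
      have h2 : Nat.card P ∣ Nat.card G := Subgroup.card_subgroup_dvd_card _
      rw [hk] at h2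
      exact (by norm_num : (8 : ℕ) = 2 ^ 3) ▸ h1.trans h2
    have h3 : Nat.card (P : Subgroup G) = 2 ^ k := hk
    rw [h3, hV.card_four]
    calc 2 ^ k ≤ 2 ^ 2 := Nat.pow_le_pow_right (by norm_num) (by omega)
      _ = 4 := by norm_num
  obtain ⟨P, rfl⟩ := key V hV
  obtain ⟨Q, rfl⟩ := key W hW
  obtain ⟨g, hg⟩ := MulAction.exists_smul_eq G P Q
  refine ⟨g, ?_⟩
  rw [← hg, Sylow.coe_subgroup_smul]
  rfl

theorem eight_dvd_norm {G : Type*} [Group G] [Finite G] (h8 : 8 ∣ Nat.card G) (V : Subgroup G) (hV : Nat.card V = 4) :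
    8 ∣ Nat.card (Subgroup.normalizer (V : Set G)) := by
  haveI : Fact (Nat.Prime 2) := ⟨Nat.prime_two⟩
  obtain ⟨K, hK, hVK⟩ := Sylow.exists_subgroup_card_pow_succ (p := 2) (n := 2) (by exact h8) (H := V) (by rw [hV]; norm_num)
  have hK8 : Nat.card K = 8 := by rw [hK]; norm_num
  have h1 : (V.subgroupOf K).index = 2 := by
    have h2 := Subgroup.card_mul_index (V.subgroupOf K)
    rw [Nat.card_congr (Subgroup.subgroupOfEquivOfLe hVK).toEquiv, hV, hK8] at h2
    omega
  have h3 := Subgroup.normal_of_index_eq_two h1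
  have h4 : K ≤ Subgroup.normalizer (V : Set G) := Subgroup.normal_subgroupOf_iff_le_normalizer hVK |>.mp h3
  rw [← hK8]
  exact Subgroup.card_dvd_of_le h4

section
variable {F : Type*} [Field F] [Fintype F]

theorem psl_even_card (hodd : Odd (Fintype.card F)) : 2 ∣ Nat.card (ProjectiveSpecialLinearGroup (Fin 2) F) := by
  have h1 := card_PSL (F := F)
  obtain ⟨c, hc⟩ := hodd
  have h2 : Nat.gcd 2 (Fintype.card F - 1) = 2 := by rw [hc]; simp
  rw [h2, hc, Nat.add_sub_cancel] at h1
  refine ⟨(2 * c + 1) * (c * (c + 1)), ?_⟩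
  have : (2 * c + 1) * (2 * c * (2 * c + 1 + 1)) = 2 * (2 * ((2 * c + 1) * (c * (c + 1)))) := by ring
  omega

theorem psl_card_klein (hodd : Odd (Fintype.card F)) :
    12 * Nat.card {V : Subgroup (ProjectiveSpecialLinearGroup (Fin 2) F) // IsKleinFour V} = Nat.card (ProjectiveSpecialLinearGroup (Fin 2) F) := by
  obtain ⟨m, hm, hm2, -, hdata⟩ := inv_data (F := F) hodd
  have h1 := card_pr m (by omega) (psl_even_card hodd) (psl_inv_conj hodd) hdata
  rw [card_pr_klein] at h1
  omega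

theorem psl_cent_klein (hodd : Odd (Fintype.card F)) (V : Subgroup (ProjectiveSpecialLinearGroup (Fin 2) F)) (hV : IsKleinFour V) :
    Subgroup.centralizer (V : Set (ProjectiveSpecialLinearGroup (Fin 2) F)) = V := by
  have h2 := two_ne_zero_of_odd hodd
  obtain ⟨a, b, ha, hb, hab, ha1, hb1, hne, rfl⟩ := exists_kl V hV
  have hinj := ProjectiveSpecialLinearGroup.toPGL_injective (n := Fin 2) (R := F)
  apply le_antisymm
  · intro g hg
    rw [Subgroup.mem_centralizer_iff] at hg
    have hga := hg a (Or.inr (Or.inl rfl))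
    have hgb := hg b (Or.inr (Or.inr (Or.inl rfl)))
    have := klein_cent_pgl h2 (ProjectiveSpecialLinearGroup.toPGL a) (ProjectiveSpecialLinearGroup.toPGL b) (ProjectiveSpecialLinearGroup.toPGL g)
      (by rw [← map_mul, ha, map_one]) (by rw [← map_mul, hb, map_one]) (fun h => ha1 (hinj (h.trans (map_one _).symm))) (fun h => hb1 (hinj (h.trans (map_one _).symm)))
      (fun h => hne (hinj h).symm) (by rw [← map_mul, ← hab, map_mul]) (by rw [← map_mul, ← hga, map_mul]) (by rw [← map_mul, ← hgb, map_mul])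
    rcases this with h | h | h | h
    · exact Or.inl (hinj (h.trans (map_one _).symm))
    · exact Or.inr (Or.inl (hinj h))
    · exact Or.inr (Or.inr (Or.inl (hinj h)))
    · rw [← map_mul] at h
      exact Or.inr (Or.inr (Or.inr (hinj h)))
  · intro g hg
    rw [Subgroup.mem_centralizer_iff]
    intro h hh
    haveI := hV
    have hc := IsKleinFour.isMulCommutative (G := kl a b ha hb hab)
    have := hc.is_comm.comm ⟨h, hh⟩ ⟨g, hg⟩
    exact congrArg Subtype.val this

theorem psl_norm_dvd (hodd : Odd (Fintype.card F)) (V : Subgroup (ProjectiveSpecialLinearGroup (Fin 2) F)) (hV : IsKleinFour V) :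
    Nat.card (Subgroup.normalizer (V : Set (ProjectiveSpecialLinearGroup (Fin 2) F))) ∣ 24 := by
  have h1 := normalizer_card_dvd V hV.card_four
  rwa [psl_cent_klein hodd V hV, hV.card_four] at h1

theorem sq_mod (q : ℕ) (h : q % 8 = 1 ∨ q % 8 = 7) : 16 ∣ (q - 1) * (q + 1) := by
  rcases h with h | h
  · obtain ⟨k, hk⟩ : ∃ k, q = 8 * k + 1 := ⟨q / 8, by omega⟩
    rw [hk, Nat.add_sub_cancel]
    exact ⟨k * (4 * k + 1), by ring⟩
  · obtain ⟨k, hk⟩ : ∃ k, q = 8 * k + 7 := ⟨q / 8, by omega⟩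
    rw [hk, show 8 * k + 7 - 1 = 8 * k + 6 by omega]
    exact ⟨(4 * k + 3) * (k + 1), by ring⟩

theorem sq_mod' (q : ℕ) (h : q % 8 = 3 ∨ q % 8 = 5) : ∃ j, (q - 1) * (q + 1) = 8 * (2 * j + 1) := by
  rcases h with h | h
  · obtain ⟨k, hk⟩ : ∃ k, q = 8 * k + 3 := ⟨q / 8, by omega⟩
    rw [hk, show 8 * k + 3 - 1 = 8 * k + 2 by omega]
    exact ⟨4 * k * k + 3 * k, by ring⟩
  · obtain ⟨k, hk⟩ : ∃ k, q = 8 * k + 5 := ⟨q / 8, by omega⟩
    rw [hk, show 8 * k + 5 - 1 = 8 * k + 4 by omega]
    exact ⟨4 * k * k + 5 * k + 1, by ring⟩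

theorem psl_eight (h : Fintype.card F % 8 = 1 ∨ Fintype.card F % 8 = 7) : 8 ∣ Nat.card (ProjectiveSpecialLinearGroup (Fin 2) F) := by
  have hodd : Odd (Fintype.card F) := by rw [Nat.odd_iff]; omega
  have h1 := card_PSL (F := F)
  have h2 : Nat.gcd 2 (Fintype.card F - 1) = 2 := by obtain ⟨c, hc⟩ := hodd; rw [hc]; simp
  obtain ⟨k, hk⟩ := sq_mod _ h
  rw [h2, hk] at h1
  refine ⟨Fintype.card F * k, ?_⟩
  have : Fintype.card F * (16 * k) = 2 * (8 * (Fintype.card F * k)) := by ring
  omega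

theorem psl_not_eight (h : Fintype.card F % 8 = 3 ∨ Fintype.card F % 8 = 5) : ¬ 8 ∣ Nat.card (ProjectiveSpecialLinearGroup (Fin 2) F) := by
  have hodd : Odd (Fintype.card F) := by rw [Nat.odd_iff]; omega
  have h1 := card_PSL (F := F)
  have h2 : Nat.gcd 2 (Fintype.card F - 1) = 2 := by obtain ⟨c, hc⟩ := hodd; rw [hc]; simp
  obtain ⟨j, hj⟩ := sq_mod' _ h
  rw [h2, hj] at h1
  rintro ⟨e, he⟩
  rw [he] at h1
  have h3 : 2 * e = Fintype.card F * (2 * j + 1) := by
    have : Fintype.card F * (8 * (2 * j + 1)) = 8 * (Fintype.card F * (2 * j + 1)) := by ring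
    omega
  have h4 : Odd (Fintype.card F * (2 * j + 1)) := hodd.mul ⟨j, rfl⟩
  rw [← h3] at h4
  exact (Nat.not_even_iff_odd.mpr h4) ⟨e, by ring⟩

theorem ncard_klein {G : Type*} [Group G] : {V : Subgroup G | IsKleinFour V}.ncard = Nat.card {V : Subgroup G // IsKleinFour V} := rfl

/-- all four-groups conjugate, normalizer of order 12 -/
theorem psl_norm_twelve (h : Fintype.card F % 8 = 3 ∨ Fintype.card F % 8 = 5) (V : Subgroup (ProjectiveSpecialLinearGroup (Fin 2) F)) (hV : IsKleinFour V) :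
    Nat.card (Subgroup.normalizer (V : Set (ProjectiveSpecialLinearGroup (Fin 2) F))) = 12 := by
  have hodd : Odd (Fintype.card F) := by rw [Nat.odd_iff]; omega
  have h1 := class_card V
  have h2 : {W : Subgroup (ProjectiveSpecialLinearGroup (Fin 2) F) | ∃ g, W = V.map (MulAut.conj g).toMonoidHom} = {V : Subgroup (ProjectiveSpecialLinearGroup (Fin 2) F) | IsKleinFour V} := by
    ext W
    constructor
    · rintro ⟨g, rfl⟩; exact klein_conj V hV g
    · intro hW; exact klein_conj_all (psl_not_eight h) V W hV hW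
  rw [h2, ncard_klein, ← psl_card_klein hodd, mul_comm] at h1
  have h3 : 0 < Nat.card {V : Subgroup (ProjectiveSpecialLinearGroup (Fin 2) F) // IsKleinFour V} := by
    haveI : Nonempty {V : Subgroup (ProjectiveSpecialLinearGroup (Fin 2) F) // IsKleinFour V} := ⟨⟨V, hV⟩⟩
    exact Nat.card_pos
  exact Nat.eq_of_mul_eq_mul_right h3 h1

theorem psl_norm_24 (h : Fintype.card F % 8 = 1 ∨ Fintype.card F % 8 = 7) (V : Subgroup (ProjectiveSpecialLinearGroup (Fin 2) F)) (hV : IsKleinFour V) :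
    Nat.card (Subgroup.normalizer (V : Set (ProjectiveSpecialLinearGroup (Fin 2) F))) = 24 := by
  have hodd : Odd (Fintype.card F) := by rw [Nat.odd_iff]; omega
  have h1 := class_card V
  have h2 : {W : Subgroup (ProjectiveSpecialLinearGroup (Fin 2) F) | ∃ g, W = V.map (MulAut.conj g).toMonoidHom} ⊆ {V : Subgroup (ProjectiveSpecialLinearGroup (Fin 2) F) | IsKleinFour V} := by
    rintro W ⟨g, rfl⟩; exact klein_conj V hV g
  have h3 := Set.ncard_le_ncard h2 (Set.toFinite _)
  rw [ncard_klein] at h3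
  have h4 := psl_card_klein hodd
  have h5 := psl_norm_dvd hodd V hV
  have h6 := eight_dvd_norm (psl_eight h) V hV.card_four
  have h7 : Nat.card (Subgroup.normalizer (V : Set (ProjectiveSpecialLinearGroup (Fin 2) F))) = 8 ∨ Nat.card (Subgroup.normalizer (V : Set (ProjectiveSpecialLinearGroup (Fin 2) F))) = 24 := by
    obtain ⟨c, hc⟩ := h6
    rw [hc] at h5 ⊢
    obtain ⟨e, he⟩ := h5
    have h7 : c * e = 3 := by
      have : 8 * c * e = 8 * (c * e) := by ring
      omega
    have h8 : c ∣ 3 := ⟨e, h7.symm⟩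
    rcases (Nat.dvd_prime Nat.prime_three).mp h8 with h9 | h9 <;> omega
  rcases h7 with h7 | h7
  · exfalso
    rw [h7] at h1
    have h8 : 0 < Nat.card (ProjectiveSpecialLinearGroup (Fin 2) F) := Nat.card_pos
    omega
  · exact h7

/-- existence of four-groups -/
theorem exists_klein (hodd : Odd (Fintype.card F)) : ∃ V : Subgroup (ProjectiveSpecialLinearGroup (Fin 2) F), IsKleinFour V := by
  have h4 := psl_card_klein hodd
  have h8 : 0 < Nat.card (ProjectiveSpecialLinearGroup (Fin 2) F) := Nat.card_pos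
  have h9 : 0 < Nat.card {V : Subgroup (ProjectiveSpecialLinearGroup (Fin 2) F) // IsKleinFour V} := by omega
  obtain ⟨⟨⟨V, hV⟩⟩, -⟩ := Nat.card_pos_iff.mp h9
  exact ⟨V, hV⟩

theorem no_klein_bor [DecidableEq F] (hodd : Odd (Fintype.card F)) (V : Subgroup (ProjectiveSpecialLinearGroup (Fin 2) F)) (hV : IsKleinFour V) (x : OnePoint F)
    (hx : ∀ g ∈ V, ProjectiveSpecialLinearGroup.toPGL g • x = x) : False := by
  obtain ⟨a, b, ha, hb, hab, ha1, hb1, hne, rfl⟩ := exists_kl V hV
  have hinj := ProjectiveSpecialLinearGroup.toPGL_injective (n := Fin 2) (R := F)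
  exact no_klein_fix (two_ne_zero_of_odd hodd) (ProjectiveSpecialLinearGroup.toPGL a) (ProjectiveSpecialLinearGroup.toPGL b)
      (by rw [← map_mul, ha, map_one]) (by rw [← map_mul, hb, map_one]) (fun h => ha1 (hinj (h.trans (map_one _).symm))) (fun h => hb1 (hinj (h.trans (map_one _).symm)))
      (fun h => hne (hinj h).symm) (by rw [← map_mul, ← hab, map_mul]) x (hx a (Or.inr (Or.inl rfl))) (hx b (Or.inr (Or.inr (Or.inl rfl))))

/-- identification of normalizers of four-groups -/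
theorem klein_norm_iso (hodd : Odd (Fintype.card F)) (V N : Subgroup (ProjectiveSpecialLinearGroup (Fin 2) F)) (hV : IsKleinFour V) (hVN : V ≤ N)
    (hN : N ≤ Subgroup.normalizer (V : Set (ProjectiveSpecialLinearGroup (Fin 2) F))) :
    (Nat.card N = 12 → Nonempty (N ≃* alternatingGroup (Fin 4))) ∧ (Nat.card N = 24 → Nonempty (N ≃* Equiv.Perm (Fin 4))) := by
  classical
  suffices h : (Nat.card N = 12 ∨ Nat.card N = 24) → Nonempty (N ≃* alternatingGroup (Fin 4)) ∨ Nonempty (N ≃* Equiv.Perm (Fin 4)) by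
    constructor
    · intro h12
      rcases h (Or.inl h12) with h' | ⟨⟨e⟩⟩
      · exact h'
      · rw [Nat.card_congr e.toEquiv, card_s4] at h12; omega
    · intro h24
      rcases h (Or.inr h24) with ⟨⟨e⟩⟩ | h'
      · rw [Nat.card_congr e.toEquiv, card_a4] at h24; omega
      · exact h'
  intro hc
  rcases dickson_gen (ProjectiveSpecialLinearGroup.toPGL.comp N.subtype) (ProjectiveSpecialLinearGroup.toPGL_injective.comp N.subtype_injective)
    (Nat.gcd 2 (Fintype.card F - 1)) (Or.inr ⟨rfl, by rintro _ ⟨h, rfl⟩; exact toPGL_mem _⟩) with ⟨h, -⟩ | ⟨n, hn2, -, ⟨e⟩⟩ | ⟨x, hx⟩ | h | h | ⟨⟨e⟩⟩ | ⟨k, hk, -, hck⟩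
  · exfalso
    have h1 : N ≤ V := by
      rw [← psl_cent_klein hodd V hV]
      intro g hg
      rw [Subgroup.mem_centralizer_iff]
      intro v hv
      haveI := h
      have := (IsCyclic.isMulCommutative (α := N)).is_comm.comm ⟨v, hVN hv⟩ ⟨g, hg⟩
      exact congrArg Subtype.val this
    have h2 := Subgroup.card_le_of_le h1
    rw [hV.card_four] at h2
    omega
  · exfalso
    haveI : NeZero n := ⟨by omega⟩
    have h1 : (V.subgroupOf N).Normal := Subgroup.normal_subgroupOf_iff_le_normalizer hVN |>.mpr hN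
    have h2 : IsKleinFour (V.subgroupOf N) := by
      have e2 := Subgroup.subgroupOfEquivOfLe hVN
      exact ⟨by rw [Nat.card_congr e2.toEquiv]; exact hV.card_four, by rw [Monoid.exponent_eq_of_mulEquiv e2]; exact hV.exponent_two⟩
    have h3 : ((V.subgroupOf N).map e.toMonoidHom).Normal := h1.map _ e.surjective
    have h4 : IsKleinFour ((V.subgroupOf N).map e.toMonoidHom) := by
      have e2 : (V.subgroupOf N) ≃* ((V.subgroupOf N).map e.toMonoidHom) := (V.subgroupOf N).equivMapOfInjective e.toMonoidHom e.injective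
      exact ⟨by rw [Nat.card_congr e2.symm.toEquiv]; exact h2.card_four, by rw [← Monoid.exponent_eq_of_mulEquiv e2]; exact h2.exponent_two⟩
    have h5 := dih_klein n _ h3 h4
    rw [Nat.card_congr e.toEquiv, DihedralGroup.nat_card] at hc
    have := Nat.le_of_dvd (by norm_num) h5
    omega
  · exfalso
    exact no_klein_bor hodd V hV x (fun g hg => hx ⟨g, hVN hg⟩)
  · exact Or.inl h
  · exact Or.inr h
  · exfalso
    rw [Nat.card_congr e.toEquiv, card_a5] at hc
    omega
  · exfalso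
    have h1 : 60 ≤ Nat.card k * ((Nat.card k - 1) * (Nat.card k + 1)) := by
      calc 60 = 4 * (3 * 5) := by norm_num
        _ ≤ _ := Nat.mul_le_mul hk (Nat.mul_le_mul (by omega) (by omega))
    omega

end

end CfsgLib.Dk29
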