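import Cfsg.Agent.LibDkT29

set_option autoImplicit false

/-! Sylow 2-subgroups of subgroups of `SL_2(q)`. -/

namespace CfsgLib.Dk29

open MulAction Matrix OnePoint
open scoped MatrixGroups

theorem quat_one_comm : ∀ a b : QuaternionGroup 1, a * b = b * a := by decide +kernel

theorem sl_inv_unique {F : Type*} [Field F] [Fintype F] (hodd : Odd (Fintype.card F)) (a b : SpecialLinearGroup (Fin 2) F)
    (ha : a * a = 1) (hb : b * b = 1) (ha1 : a ≠ 1) (hb1 : b ≠ 1) : a = b := by
  have h2 := two_ne_zero_of_odd hodd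
  have key : ∀ a : SpecialLinearGroup (Fin 2) F, a * a = 1 → a ≠ 1 → (a : Matrix (Fin 2) (Fin 2) F) = -1 := by
    intro a ha ha1
    rcases CfsgLib.Fus21.PSL2.one_or_neg_one_of_sq h2 ha with h | h
    · exact absurd (Subtype.ext h) ha1
    · exact h
  exact Subtype.ext ((key a ha ha1).trans (key b hb hb1).symm)

theorem quat_sylow {F : Type*} [Field F] [Fintype F] (hodd : Odd (Fintype.card F)) {H : Type*} [Group H] [Finite H]
    (j : H →* SpecialLinearGroup (Fin 2) F) (hj : Function.Injective j)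
    (hnc : ∃ W : Subgroup H, IsPGroup 2 W ∧ ∃ x ∈ W, ∃ y ∈ W, x * y ≠ y * x) (S : Sylow 2 H) :
    ∃ k : ℕ, 1 ≤ k ∧ Nonempty ((S : Subgroup H) ≃* QuaternionGroup (2 ^ k)) := by
  haveI : Fact (Nat.Prime 2) := ⟨Nat.prime_two⟩
  have hinv : ∀ a b : S, a * a = 1 → b * b = 1 → a ≠ 1 → b ≠ 1 → a = b := by
    intro a b ha hb ha1 hb1
    apply Subtype.ext
    apply hj
    apply sl_inv_unique hodd
    · rw [← map_mul, ← Subgroup.coe_mul, ha, Subgroup.coe_one, map_one]
    · rw [← map_mul, ← Subgroup.coe_mul, hb, Subgroup.coe_one, map_one]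
    · intro h; exact ha1 (Subtype.ext (hj (h.trans (map_one _).symm)))
    · intro h; exact hb1 (Subtype.ext (hj (h.trans (map_one _).symm)))
  have hle : ∀ A B : Subgroup S, Nat.card A = 2 → Nat.card B = 2 → A ≤ B := by
    intro A B hA hB x hx
    by_cases hx1 : x = 1
    · rw [hx1]; exact one_mem _
    · haveI : Nontrivial B := by rw [← Finite.one_lt_card_iff_nontrivial, hB]; norm_num
      obtain ⟨b, hb⟩ := exists_ne (1 : B)
      have hb1 : (b : S) ≠ 1 := fun h => hb (Subtype.ext h)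
      have hbb : (b : S) * b = 1 := by
        have h1 : b ^ Nat.card B = 1 := pow_card_eq_one'
        rw [hB, pow_two] at h1
        exact congrArg Subtype.val h1
      have hxx : x * x = 1 := by
        have h1 : (⟨x, hx⟩ : A) ^ Nat.card A = 1 := pow_card_eq_one'
        rw [hA, pow_two] at h1
        exact congrArg Subtype.val h1
      rw [hinv x b hxx hbb hx1 hb1]
      exact b.2
  obtain ⟨W, hW, x, hx, y, hy, hxy⟩ := hnc
  have hcomm : ¬ ∀ a b : S, a * b = b * a := by
    intro hcomm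
    obtain ⟨Q, hQ⟩ := hW.exists_le_sylow
    obtain ⟨g, hg⟩ := MulAction.exists_smul_eq H Q S
    have hQS : ∀ z ∈ W, g * z * g⁻¹ ∈ (S : Subgroup H) := by
      intro z hz
      rw [← hg, Sylow.coe_subgroup_smul]
      exact Subgroup.smul_mem_pointwise_smul _ (MulAut.conj g) _ (hQ hz)
    have h1 := congrArg Subtype.val (hcomm ⟨_, hQS x hx⟩ ⟨_, hQS y hy⟩)
    have h1 : g * x * g⁻¹ * (g * y * g⁻¹) = g * y * g⁻¹ * (g * x * g⁻¹) := h1
    apply hxy
    have e1 : g * x * g⁻¹ * (g * y * g⁻¹) = g * (x * y) * g⁻¹ := by group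
    have e2 : g * y * g⁻¹ * (g * x * g⁻¹) = g * (y * x) * g⁻¹ := by group
    rw [e1, e2] at h1
    exact mul_left_cancel (mul_right_cancel h1)
  rcases Cfsg.Agent.S0016.result 2 S.isPGroup' (fun A B hA hB => le_antisymm (hle A B hA hB) (hle B A hB hA)) with h | ⟨-, n, ⟨e⟩⟩
  · exfalso
    apply hcomm
    intro a b
    haveI := h
    exact (IsCyclic.isMulCommutative (α := S)).is_comm.comm a b
  · refine ⟨n, ?_, ⟨e⟩⟩
    by_contra hn
    have hn0 : n = 0 := by omega
    subst hn0
    apply hcomm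
    intro a b
    apply e.injective
    rw [map_mul, map_mul]
    exact quat_one_comm _ _

end CfsgLib.Dk29
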