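import Cfsg.Agent.LibDkU29
import Cfsg.Agent.S0252
import Cfsg.Agent.S0253

set_option autoImplicit false

/-! Icosahedral subgroups. -/

namespace CfsgLib.Dk29

open MulAction Matrix OnePoint
open scoped MatrixGroups

section abstract_bound
variable {G : Type*} [Group G] [Finite G]

/-- a coset-enumeration style bound -/
theorem closure_bound (A : Subgroup G) (T : Set G) (R : Finset G) (h1 : (1 : G) ∈ R)
    (h : ∀ t ∈ T, ∀ r ∈ R, ∃ r' ∈ R, r'⁻¹ * t * r ∈ A) : Nat.card (Subgroup.closure T) ≤ R.card * Nat.card A := by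
  classical
  have key : ∀ g ∈ Subgroup.closure T, ∀ r ∈ R, ∃ r' ∈ R, r'⁻¹ * g * r ∈ A := by
    intro g hg
    rw [← Subgroup.mem_toSubmonoid, Subgroup.closure_toSubmonoid_of_finite] at hg
    induction hg using Submonoid.closure_induction with
    | mem x hx => exact h x hx
    | one => intro r hr; exact ⟨r, hr, by rw [mul_one, inv_mul_cancel]; exact one_mem A⟩
    | mul x y _ _ hx hy =>
      intro r hr
      obtain ⟨r', hr', h2⟩ := hy r hr
      obtain ⟨r'', hr'', h3⟩ := hx r' hr'
      refine ⟨r'', hr'', ?_⟩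
      have := mul_mem h3 h2
      rwa [show r''⁻¹ * x * r' * (r'⁻¹ * y * r) = r''⁻¹ * (x * y) * r by group] at this
  have hsub : (Subgroup.closure T : Set G) ⊆ ⋃ r ∈ R, (fun a => r * a) '' (A : Set G) := by
    intro g hg
    obtain ⟨r', hr', h2⟩ := key g hg 1 h1
    rw [Set.mem_iUnion₂]
    exact ⟨r', hr', _, h2, by show r' * (r'⁻¹ * g * 1) = g; group⟩
  have h2 := Set.ncard_le_ncard hsub (Set.toFinite _)
  have h3 : (⋃ r ∈ R, (fun a => r * a) '' (A : Set G)).ncard ≤ ∑ r ∈ R, ((fun a => r * a) '' (A : Set G)).ncard :=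
    Finset.set_ncard_biUnion_le R _
  have h4 : ∑ r ∈ R, ((fun a => r * a) '' (A : Set G)).ncard ≤ ∑ r ∈ R, Nat.card A := by
    apply Finset.sum_le_sum
    intro r _
    exact Set.ncard_image_le (Set.toFinite _)
  rw [Finset.sum_const, smul_eq_mul] at h4
  exact h2.trans (h3.trans h4)

/-- relations of the icosahedral group -/
structure Ico (i w s : G) : Prop where
  i2 : i * i = 1
  w3 : w * w * w = 1
  s2 : s * s = 1
  comm : i * (w * i * w⁻¹) = (w * i * w⁻¹) * i
  cyc : w * (w * i * w⁻¹) * w⁻¹ = i * (w * i * w⁻¹)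
  sw : s * w * s = w⁻¹
  si : s * i * s * i * s * i = 1

variable {i w s : G}

theorem Ico.bound (h : Ico i w s) : Nat.card (Subgroup.closure ({i, w, s} : Set G)) ≤ 60 := by
  classical
  obtain ⟨j, hj⟩ : ∃ j, j = w * i * w⁻¹ := ⟨_, rfl⟩
  have hi := h.i2
  have hw := h.w3
  have hs := h.s2
  have hc : j * i = i * j := by rw [hj]; exact h.comm.symm
  have hjj : j * j = 1 := by
    rw [hj]
    calc w * i * w⁻¹ * (w * i * w⁻¹) = w * (i * i) * w⁻¹ := by group
      _ = 1 := by rw [hi]; group
  have hcyc : w * j * w⁻¹ = i * j := by rw [hj]; exact h.cyc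
  have hii : i⁻¹ = i := inv_eq_of_mul_eq_one_right hi
  have hjinv : j⁻¹ = j := inv_eq_of_mul_eq_one_right hjj
  have hsinv : s⁻¹ = s := inv_eq_of_mul_eq_one_right hs
  have hwinv : w⁻¹ = w * w := inv_eq_of_mul_eq_one_left hw
  -- the subgroup A
  let V := kl i j hi hjj hc
  let A := Subgroup.closure ({i, w} : Set G)
  have hiA : i ∈ A := Subgroup.subset_closure (by simp)
  have hwA : w ∈ A := Subgroup.subset_closure (by simp)
  have hjA : j ∈ A := by rw [hj]; exact mul_mem (mul_mem hwA hiA) (inv_mem hwA)
  have hV4 : Nat.card V ≤ 4 := by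
    have h1 : (V : Set G).ncard ≤ 4 := by
      have e0 : (V : Set G) = insert (1 : G) (insert i (insert j {i * j})) := rfl
      have e1 := Set.ncard_insert_le (1 : G) (insert i (insert j {i * j}))
      have e2 := Set.ncard_insert_le i (insert j {i * j})
      have e3 := Set.ncard_insert_le j {i * j}
      rw [Set.ncard_singleton] at e3
      rw [e0]
      omega
    exact h1
  have hA12 : Nat.card A ≤ 12 := by
    have h1 := closure_bound V ({i, w} : Set G) {1, w, w * w} (by simp) (by
      intro t ht r hr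
      rw [Finset.mem_insert, Finset.mem_insert, Finset.mem_singleton] at hr
      have hiV : i ∈ V := Or.inr (Or.inl rfl)
      have hjV : j ∈ V := Or.inr (Or.inr (Or.inl rfl))
      have e1 : w⁻¹ * i * w = i * j := by
        have : w * (i * j) * w⁻¹ = i := by
          calc w * (i * j) * w⁻¹ = (w * i * w⁻¹) * (w * j * w⁻¹) := by group
            _ = j * (i * j) := by rw [← hj, hcyc]
            _ = i := by rw [← mul_assoc, hc, mul_assoc, hjj, mul_one]
        calc w⁻¹ * i * w = w⁻¹ * (w * (i * j) * w⁻¹) * w := by rw [this]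
          _ = _ := by group
      have e2 : w⁻¹ * j * w = i := by rw [hj]; group
      rcases ht with ht | ht
      · rw [ht]
        rcases hr with h' | h' | h' <;> rw [h']
        · exact ⟨1, by simp, by rw [inv_one, one_mul, mul_one]; exact hiV⟩
        · exact ⟨w, by simp, by rw [e1]; exact mul_mem hiV hjV⟩
        · refine ⟨w * w, by simp, ?_⟩
          rw [show (w * w)⁻¹ * i * (w * w) = w⁻¹ * (w⁻¹ * i * w) * w by group, e1,
            show w⁻¹ * (i * j) * w = (w⁻¹ * i * w) * (w⁻¹ * j * w) by group, e1, e2]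
          exact mul_mem (mul_mem hiV hjV) hiV
      · rw [Set.mem_singleton_iff] at ht
        rw [ht]
        rcases hr with h' | h' | h' <;> rw [h']
        · exact ⟨w, by simp, by rw [mul_one, inv_mul_cancel]; exact one_mem _⟩
        · exact ⟨w * w, by simp, by rw [show (w * w)⁻¹ * w * w = 1 by group]; exact one_mem _⟩
        · exact ⟨1, by simp, by rw [inv_one, one_mul, ← mul_assoc, hw]; exact one_mem _⟩)
    have h2 : ({1, w, w * w} : Finset G).card ≤ 3 := Finset.card_le_three
    calc Nat.card A ≤ _ := h1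
      _ ≤ 3 * 4 := Nat.mul_le_mul h2 hV4
  have hsw : s * w = w⁻¹ * s := by
    have := h.sw
    calc s * w = (s * w * s) * s⁻¹ := by group
      _ = w⁻¹ * s := by rw [this, hsinv]
  have hws : w * s = s * w⁻¹ := by
    have h1 : (s * w * s)⁻¹ = w := by rw [h.sw, inv_inv]
    calc w * s = (s * w * s)⁻¹ * s := by rw [h1]
      _ = s⁻¹ * w⁻¹ := by group
      _ = _ := by rw [hsinv]
  have hws' : w⁻¹ * s = s * w := hsw.symm
  have hsis : s * i * s = i * s * i := by
    have h1 : (s * i * s) * (i * s * i) = 1 := by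
      calc (s * i * s) * (i * s * i) = s * i * s * i * s * i := by group
        _ = 1 := h.si
    have h2 : s * i * s = (i * s * i)⁻¹ := eq_inv_of_mul_eq_one_left h1
    rw [h2, _root_.mul_inv_rev, _root_.mul_inv_rev, hii, hsinv]; group
  have e1' : w * (i * j) * w⁻¹ = i := by
    calc w * (i * j) * w⁻¹ = (w * i * w⁻¹) * (w * j * w⁻¹) := by group
      _ = j * (i * j) := by rw [← hj, hcyc]
      _ = i := by rw [← mul_assoc, hc, mul_assoc, hjj, mul_one]
  have e1 : w⁻¹ * i * w = i * j := by
    calc w⁻¹ * i * w = w⁻¹ * (w * (i * j) * w⁻¹) * w := by rw [e1']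
      _ = _ := by group
  have e3 : w * i * w⁻¹ = j := hj.symm
  have hbound := closure_bound A ({i, w, s} : Set G) {1, s, i * s, j * s, i * j * s} (by simp) (by
    intro t ht r hr
    simp only [Finset.mem_insert, Finset.mem_singleton] at hr
    simp only [Set.mem_insert_iff, Set.mem_singleton_iff] at ht
    rcases ht with ht | ht | ht <;> rw [ht]
    · -- t = i
      rcases hr with h' | h' | h' | h' | h' <;> rw [h']
      · exact ⟨1, by simp, by rw [inv_one, one_mul, mul_one]; exact hiA⟩
      · exact ⟨i * s, by simp, by rw [show (i * s)⁻¹ * i * s = 1 by group]; exact one_mem _⟩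
      · exact ⟨s, by simp, by rw [mul_assoc, ← mul_assoc i i s, hi, one_mul, inv_mul_cancel]; exact one_mem _⟩
      · exact ⟨i * j * s, by simp, by rw [show (i * j * s)⁻¹ * i * (j * s) = 1 by group]; exact one_mem _⟩
      · exact ⟨j * s, by simp, by rw [mul_assoc, mul_assoc i j s, ← mul_assoc i i, hi, one_mul, inv_mul_cancel]; exact one_mem _⟩
    · -- t = w
      rcases hr with h' | h' | h' | h' | h' <;> rw [h']
      · exact ⟨1, by simp, by rw [inv_one, one_mul, mul_one]; exact hwA⟩
      · exact ⟨s, by simp, by rw [mul_assoc, hws, ← mul_assoc, inv_mul_cancel, one_mul]; exact inv_mem hwA⟩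
      · refine ⟨j * s, by simp, ?_⟩
        rw [show (j * s)⁻¹ * w * (i * s) = s⁻¹ * j⁻¹ * (w * i * w⁻¹) * (w * s) by group, e3, hws]
        rw [show s⁻¹ * j⁻¹ * j * (s * w⁻¹) = w⁻¹ by group]; exact inv_mem hwA
      · refine ⟨i * j * s, by simp, ?_⟩
        rw [show (i * j * s)⁻¹ * w * (j * s) = s⁻¹ * (i * j)⁻¹ * (w * j * w⁻¹) * (w * s) by group, hcyc, hws]
        rw [show s⁻¹ * (i * j)⁻¹ * (i * j) * (s * w⁻¹) = w⁻¹ by group]; exact inv_mem hwA
      · refine ⟨i * s, by simp, ?_⟩
        rw [show (i * s)⁻¹ * w * (i * j * s) = s⁻¹ * i⁻¹ * (w * (i * j) * w⁻¹) * (w * s) by group, e1', hws]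
        rw [show s⁻¹ * i⁻¹ * i * (s * w⁻¹) = w⁻¹ by group]; exact inv_mem hwA
    · -- t = s
      rcases hr with h' | h' | h' | h' | h' <;> rw [h']
      · exact ⟨s, by simp, by rw [mul_one, inv_mul_cancel]; exact one_mem _⟩
      · exact ⟨1, by simp, by rw [inv_one, one_mul, hs]; exact one_mem _⟩
      · refine ⟨i * s, by simp, ?_⟩
        rw [show (i * s)⁻¹ * s * (i * s) = s⁻¹ * i⁻¹ * (s * i * s) by group, hsis, show s⁻¹ * i⁻¹ * (i * s * i) = i by group]
        exact hiA
      · refine ⟨i * j * s, by simp, ?_⟩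
        have h5 : s * (j * s) = (i * j * s) * (w * (i * w)) := by
          calc s * (j * s) = (s * w) * i * (w⁻¹ * s) := by rw [hj]; group
            _ = (w⁻¹ * s) * i * (s * w) := by rw [hsw, hws']
            _ = w⁻¹ * (s * i * s) * w := by group
            _ = w⁻¹ * (i * s * i) * w := by rw [hsis]
            _ = (w⁻¹ * i * w) * (w⁻¹ * s) * (i * w) := by group
            _ = (i * j) * (s * w) * (i * w) := by rw [e1, hws']
            _ = _ := by group
        rw [mul_assoc, h5, ← mul_assoc, inv_mul_cancel, one_mul]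
        exact mul_mem hwA (mul_mem hiA hwA)
      · refine ⟨j * s, by simp, ?_⟩
        have h5 : s * (i * j * s) = (j * s) * (w⁻¹ * (i * w⁻¹)) := by
          calc s * (i * j * s) = (s * w⁻¹) * i * (w * s) := by rw [← e1]; group
            _ = (w * s) * i * (s * w⁻¹) := by rw [hws]
            _ = w * (s * i * s) * w⁻¹ := by group
            _ = w * (i * s * i) * w⁻¹ := by rw [hsis]
            _ = (w * i * w⁻¹) * (w * s) * (i * w⁻¹) := by group
            _ = j * (s * w⁻¹) * (i * w⁻¹) := by rw [e3, hws]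
            _ = _ := by group
        rw [mul_assoc, h5, ← mul_assoc, inv_mul_cancel, one_mul]
        exact mul_mem (inv_mem hwA) (mul_mem hiA (inv_mem hwA)))
  have h2 : ({1, s, i * s, j * s, i * j * s} : Finset G).card ≤ 5 := Finset.card_le_five
  calc _ ≤ _ := hbound
    _ ≤ 5 * 12 := Nat.mul_le_mul h2 hA12

theorem Ico.perfect (h : Ico i w s) : commutator (Subgroup.closure ({i, w, s} : Set G)) = ⊤ := by
  let H := Subgroup.closure ({i, w, s} : Set G)
  let i' : H := ⟨i, Subgroup.subset_closure (by simp)⟩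
  let w' : H := ⟨w, Subgroup.subset_closure (by simp)⟩
  let s' : H := ⟨s, Subgroup.subset_closure (by simp)⟩
  have hw : Abelianization.of w' * Abelianization.of w' * Abelianization.of w' = 1 := by
    rw [← map_mul, ← map_mul, ← map_one Abelianization.of]; congr 1; exact Subtype.ext h.w3
  have hs : Abelianization.of s' * Abelianization.of s' = 1 := by
    rw [← map_mul, ← map_one Abelianization.of]; congr 1; exact Subtype.ext h.s2
  have hcyc : Abelianization.of w' * (Abelianization.of w' * Abelianization.of i' * (Abelianization.of w')⁻¹) * (Abelianization.of w')⁻¹ =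
      Abelianization.of i' * (Abelianization.of w' * Abelianization.of i' * (Abelianization.of w')⁻¹) := by
    rw [← map_inv, ← map_mul, ← map_mul, ← map_mul, ← map_mul, ← map_mul]; congr 1; exact Subtype.ext h.cyc
  have hsw : Abelianization.of s' * Abelianization.of w' * Abelianization.of s' = (Abelianization.of w')⁻¹ := by
    rw [← map_inv, ← map_mul, ← map_mul]; congr 1; exact Subtype.ext h.sw
  have hsi : Abelianization.of s' * Abelianization.of i' * Abelianization.of s' * Abelianization.of i' * Abelianization.of s' * Abelianization.of i' = 1 := by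
    rw [← map_mul, ← map_mul, ← map_mul, ← map_mul, ← map_mul, ← map_one Abelianization.of]; congr 1; exact Subtype.ext h.si
  have hx : Abelianization.of i' = 1 := by
    have e1 : Abelianization.of w' * (Abelianization.of w' * Abelianization.of i' * (Abelianization.of w')⁻¹) * (Abelianization.of w')⁻¹ = Abelianization.of i' := by
      rw [mul_comm (Abelianization.of w') (Abelianization.of w' * Abelianization.of i' * (Abelianization.of w')⁻¹), mul_inv_cancel_right,
        mul_comm (Abelianization.of w'), mul_inv_cancel_right]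
    have e2 : Abelianization.of i' * (Abelianization.of w' * Abelianization.of i' * (Abelianization.of w')⁻¹) = Abelianization.of i' * Abelianization.of i' := by
      rw [mul_comm (Abelianization.of w') (Abelianization.of i'), mul_inv_cancel_right]
    rw [e1, e2] at hcyc
    exact (mul_eq_left.mp hcyc.symm)
  have hy : Abelianization.of w' = 1 := by
    have e1 : Abelianization.of s' * Abelianization.of w' * Abelianization.of s' = Abelianization.of w' := by
      rw [mul_comm (Abelianization.of s') (Abelianization.of w'), mul_assoc, hs, mul_one]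
    rw [e1] at hsw
    have e2 : Abelianization.of w' * Abelianization.of w' = 1 := by
      nth_rewrite 1 [hsw]
      exact inv_mul_cancel _
    rw [e2, one_mul] at hw
    exact hw
  have hz : Abelianization.of s' = 1 := by
    rw [hx, mul_one, mul_one, mul_one, hs, one_mul] at hsi
    exact hsi
  rw [eq_top_iff, ← Abelianization.ker_of]
  have hle : Subgroup.closure ({i, w, s} : Set G) ≤ ((Abelianization.of : H →* Abelianization H).ker).map H.subtype := by
    rw [Subgroup.closure_le]
    rintro g (rfl | rfl | rfl)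
    · exact ⟨i', hx, rfl⟩
    · exact ⟨w', hy, rfl⟩
    · exact ⟨s', hz, rfl⟩
  intro g _
  obtain ⟨g', hg', h'⟩ := hle g.2
  rwa [← Subtype.ext h']

end abstract_bound

/-- perfect groups have no nontrivial abelian images -/
theorem perfect_hom {H A : Type*} [Group H] [Group A] (hA : ∀ a b : A, a * b = b * a) (hp : commutator H = ⊤) (f : H →* A) (h : H) : f h = 1 := by
  have h1 : commutator H ≤ f.ker := by
    rw [commutator_def, Subgroup.commutator_le]
    intro a _ b _
    rw [MonoidHom.mem_ker, map_commutatorElement, commutatorElement_def, hA (f a) (f b)]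
    group
  rw [hp] at h1
  exact h1 (Subgroup.mem_top h)

theorem dih_not_perfect (n : ℕ) (hn : 1 ≤ n) {H : Type*} [Group H] (e : H ≃* DihedralGroup n) (hp : commutator H = ⊤) : False := by
  haveI : NeZero n := ⟨by omega⟩
  have hidx : (Subgroup.zpowers (DihedralGroup.r 1 : DihedralGroup n)).index = 2 := by
    have h1 := Subgroup.card_mul_index (Subgroup.zpowers (DihedralGroup.r 1 : DihedralGroup n))
    rw [Nat.card_zpowers, DihedralGroup.orderOf_r_one, DihedralGroup.nat_card, mul_comm] at h1
    exact Nat.eq_of_mul_eq_mul_right (by omega) h1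
  haveI := Subgroup.normal_of_index_eq_two hidx
  have h2 : Nat.card (DihedralGroup n ⧸ Subgroup.zpowers (DihedralGroup.r 1 : DihedralGroup n)) = 2 := hidx
  haveI : Fact (Nat.Prime 2) := ⟨Nat.prime_two⟩
  haveI := isCyclic_of_prime_card h2
  have h3 : ∀ a b : DihedralGroup n ⧸ Subgroup.zpowers (DihedralGroup.r 1 : DihedralGroup n), a * b = b * a :=
    fun a b => (IsCyclic.isMulCommutative (α := DihedralGroup n ⧸ Subgroup.zpowers (DihedralGroup.r 1 : DihedralGroup n))).is_comm.comm a b
  have h4 := fun x => perfect_hom h3 hp ((QuotientGroup.mk' (Subgroup.zpowers (DihedralGroup.r 1 : DihedralGroup n))).comp e.toMonoidHom) x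
  have h5 : ∀ y : DihedralGroup n ⧸ Subgroup.zpowers (DihedralGroup.r 1 : DihedralGroup n), y = 1 := by
    intro y
    obtain ⟨z, rfl⟩ := QuotientGroup.mk'_surjective _ y
    have := h4 (e.symm z)
    rw [MonoidHom.comp_apply] at this
    have e2 : e.toMonoidHom (e.symm z) = z := e.apply_symm_apply z
    rwa [e2] at this
  haveI : Subsingleton (DihedralGroup n ⧸ Subgroup.zpowers (DihedralGroup.r 1 : DihedralGroup n)) := ⟨fun a b => (h5 a).trans (h5 b).symm⟩
  rw [Nat.card_of_subsingleton (1 : DihedralGroup n ⧸ Subgroup.zpowers (DihedralGroup.r 1 : DihedralGroup n))] at h2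
  omega

theorem a4_comm2 : ∀ a b : alternatingGroup (Fin 4), (a * b * a⁻¹ * b⁻¹) * (a * b * a⁻¹ * b⁻¹) = 1 := by decide +kernel

theorem a4_klein_mul : ∀ a b : alternatingGroup (Fin 4), a * a = 1 → b * b = 1 → (a * b) * (a * b) = 1 := by decide +kernel

theorem a4_three : ∃ a : alternatingGroup (Fin 4), a * a ≠ 1 := by decide +kernel

def a4V : Subgroup (alternatingGroup (Fin 4)) where
  carrier := {x | x * x = 1}
  one_mem' := one_mul 1
  mul_mem' := fun {a b} ha hb => a4_klein_mul a b ha hb
  inv_mem' := fun {a} ha => by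
    show a⁻¹ * a⁻¹ = 1
    rw [← _root_.mul_inv_rev, (show a * a = 1 from ha), inv_one]

theorem a4_not_perfect {H : Type*} [Group H] (e : H ≃* alternatingGroup (Fin 4)) (hp : commutator H = ⊤) : False := by
  have h1 : commutator (alternatingGroup (Fin 4)) ≤ a4V := by
    rw [commutator_def, Subgroup.commutator_le]
    intro a _ b _
    exact a4_comm2 a b
  have h2 : commutator (alternatingGroup (Fin 4)) = ⊤ := by
    have h3 : (commutator H).map e.toMonoidHom = commutator (alternatingGroup (Fin 4)) := by
      rw [commutator_def, commutator_def, Subgroup.map_commutator, Subgroup.map_top_of_surjective _ e.surjective]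
    rw [← h3, hp, Subgroup.map_top_of_surjective _ e.surjective]
  rw [h2] at h1
  obtain ⟨a, ha⟩ := a4_three
  exact ha (h1 (Subgroup.mem_top a))

theorem s4_not_perfect {H : Type*} [Group H] (e : H ≃* Equiv.Perm (Fin 4)) (hp : commutator H = ⊤) : False := by
  have h1 := perfect_hom (fun a b : ℤˣ => mul_comm a b) hp ((Equiv.Perm.sign (α := Fin 4)).comp e.toMonoidHom) (e.symm (Equiv.swap 0 1))
  rw [MonoidHom.comp_apply] at h1
  have e2 : e.toMonoidHom (e.symm (Equiv.swap (0 : Fin 4) 1)) = Equiv.swap 0 1 := e.apply_symm_apply _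
  rw [e2, Equiv.Perm.sign_swap (by decide)] at h1
  exact absurd h1 (by decide)

theorem cyc_not_perfect {H : Type*} [Group H] [Nontrivial H] (hc : IsCyclic H) (hp : commutator H = ⊤) : False := by
  obtain ⟨h, hh⟩ := exists_ne (1 : H)
  exact hh (perfect_hom (fun a b => (IsCyclic.isMulCommutative (α := H)).is_comm.comm a b) hp (MonoidHom.id H) h)

/-- a perfect subgroup has no fixed point on the projective line -/
theorem fix_not_perfect {F : Type*} [Field F] [DecidableEq F] {H : Type*} [Group H] [Nontrivial H] (f : H →* PGL(2, F)) (hf : Function.Injective f)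
    (x : OnePoint F) (hx : ∀ h : H, f h • x = x) (hp : commutator H = ⊤) : False := by
  classical
  let K := AlgebraicClosure F
  letI : MulAction H (OnePoint K) := MulAction.compHom _ ((ProjGenLinGroup.map (algebraMap F K)).comp f)
  let M : Mob H (OnePoint K) K := (mob (K := K)).comp ((ProjGenLinGroup.map (algebraMap F K)).comp f) ((map_injective' (algebraMap F K)).comp hf)
  let x' : OnePoint K := OnePoint.map (algebraMap F K) x
  have hst : ∀ h : H, h • x' = x' := by
    intro g
    show ProjGenLinGroup.map (algebraMap F K) (f g) • OnePoint.map (algebraMap F K) x = OnePoint.map (algebraMap F K) x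
    rw [← map_smul', hx g]
  let χ : H →* Kˣ := MonoidHom.mk' (fun h => M.χ x' h) (fun a b => M.mul x' a b (hst a) (hst b))
  have h1 : ∀ h, M.χ x' h = 1 := fun h => perfect_hom (fun a b : Kˣ => mul_comm a b) hp χ h
  obtain ⟨h, hh⟩ := exists_ne (1 : H)
  exact hh (perfect_hom (fun a b => M.comm x' a b (hst a) (hst b) (h1 a) (h1 b)) hp (MonoidHom.id H) h)

/-- small perfect subgroups are icosahedral -/
theorem perfect60 {F : Type*} [Field F] [Fintype F] [DecidableEq F] (hodd : Odd (Fintype.card F)) {H : Type*} [Group H] [Finite H] [Nontrivial H] (f : H →* PGL(2, F)) (hf : Function.Injective f)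
    (hp : commutator H = ⊤) (hc : Nat.card H ≤ 60) : Nonempty (H ≃* alternatingGroup (Fin 5)) := by
  rcases dickson_gen f hf 1 (Or.inl rfl) with ⟨h, -⟩ | ⟨n, hn2, -, ⟨e⟩⟩ | ⟨x, hx⟩ | ⟨⟨e⟩⟩ | ⟨⟨e⟩⟩ | h | ⟨k, hk, ⟨g, hg⟩, hck⟩
  · exact (cyc_not_perfect h hp).elim
  · exact (dih_not_perfect n (by omega) e hp).elim
  · exact (fix_not_perfect f hf x hx hp).elim
  · exact (a4_not_perfect e hp).elim
  · exact (s4_not_perfect e hp).elim
  · exact h
  · have hkodd : Odd (Nat.card k) := by
      have h1 := card_subfield_pow k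
      rw [← h1] at hodd
      exact (Nat.odd_pow_iff (Module.finrank_pos (R := k) (M := F)).ne').mp hodd
    have hk5 : 5 ≤ Nat.card k := by obtain ⟨c, hc⟩ := hkodd; omega
    have hk5' : Nat.card k = 5 := by
      by_contra hne
      have hk7 : 7 ≤ Nat.card k := by obtain ⟨c, hc⟩ := hkodd; omega
      have h1 : 7 * (6 * 8) ≤ Nat.card k * ((Nat.card k - 1) * (Nat.card k + 1)) := Nat.mul_le_mul hk7 (Nat.mul_le_mul (by omega) (by omega))
      rcases hck with h | ⟨-, h⟩ <;> omega
    rw [hk5'] at hck
    haveI : Fintype k := Fintype.ofFinite k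
    rw [Nat.card_eq_fintype_card] at hk5' hkodd
    rcases hck with h | ⟨-, h⟩
    · omega
    · obtain ⟨j, hj⟩ := exists_descent f k g hg
      have hji := descent_injective f hf k g j hj
      obtain ⟨e'⟩ := iso_psl j hji hkodd (by rw [hk5']; exact h)
      obtain ⟨e''⟩ := Cfsg.Agent.S0253.result (F := k) hk5'
      exact ⟨e'.trans e''⟩

end CfsgLib.Dk29
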