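import Cfsg.Agent.LibDkV29

set_option autoImplicit false

/-! Existence of icosahedral subgroups. -/

namespace CfsgLib.Dk29

open MulAction Matrix OnePoint
open scoped MatrixGroups
open CfsgLib.Fus21.PSL2 (pr pr_eq_one pr_surj sl2_ext mul_apply')

section
variable {F : Type*} [Field F]

theorem det2 (M : SpecialLinearGroup (Fin 2) F) : M 0 0 * M 1 1 - M 0 1 * M 1 0 = 1 := by
  have := M.2; rw [det_fin_two] at this; exact this

theorem mat_ext {A B : Matrix (Fin 2) (Fin 2) F} (h00 : A 0 0 = B 0 0) (h01 : A 0 1 = B 0 1) (h10 : A 1 0 = B 1 0) (h11 : A 1 1 = B 1 1) : A = B := by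
  ext i j
  fin_cases i <;> fin_cases j
  · exact h00
  · exact h01
  · exact h10
  · exact h11

/-- Cayley-Hamilton -/
theorem ch (M : SpecialLinearGroup (Fin 2) F) :
    (M : Matrix (Fin 2) (Fin 2) F) * M = (M 0 0 + M 1 1) • (M : Matrix (Fin 2) (Fin 2) F) - 1 := by
  have hd := det2 M
  apply mat_ext <;> simp only [Matrix.mul_apply, Fin.sum_univ_two, Matrix.sub_apply, Matrix.smul_apply, smul_eq_mul]
  · rw [Matrix.one_apply_eq]; linear_combination (-1 : F) * hd
  · rw [Matrix.one_apply_ne (by decide)]; ring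
  · rw [Matrix.one_apply_ne (by decide)]; ring
  · rw [Matrix.one_apply_eq]; linear_combination (-1 : F) * hd

theorem pr_sq_of_trace (M : SpecialLinearGroup (Fin 2) F) (h : M 0 0 + M 1 1 = 0) : pr F M * pr F M = 1 := by
  rw [← map_mul, pr_eq_one]
  right
  show (M : Matrix (Fin 2) (Fin 2) F) * M = -1
  rw [ch, h, zero_smul, zero_sub]

theorem pr_cube_of_trace (M : SpecialLinearGroup (Fin 2) F) (h : M 0 0 + M 1 1 = 1 ∨ M 0 0 + M 1 1 = -1) : pr F M * pr F M * pr F M = 1 := by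
  rw [← map_mul, ← map_mul, pr_eq_one]
  rcases h with h | h
  · right
    show (M : Matrix (Fin 2) (Fin 2) F) * M * M = -1
    rw [ch, h, one_smul, sub_mul, one_mul, ch, h, one_smul]; abel
  · left
    show (M : Matrix (Fin 2) (Fin 2) F) * M * M = 1
    rw [ch, h, neg_smul, one_smul, sub_mul, one_mul, neg_mul, ch, h, neg_smul, one_smul]; abel

/-- the quaternion units -/
structure Quat (F : Type*) [Field F] (a b : F) (I J W : SpecialLinearGroup (Fin 2) F) : Prop where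
  hab : a * a + b * b = -1
  I00 : I 0 0 = 0
  I01 : I 0 1 = -1
  I10 : I 1 0 = 1
  I11 : I 1 1 = 0
  J00 : J 0 0 = a
  J01 : J 0 1 = b
  J10 : J 1 0 = b
  J11 : J 1 1 = -a
  W00 : 2 * W 0 0 = 1 + a - b
  W01 : 2 * W 0 1 = a + b - 1
  W10 : 2 * W 1 0 = a + b + 1
  W11 : 2 * W 1 1 = 1 - a + b

theorem exists_quat (h2 : (2 : F) ≠ 0) (a b : F) (hab : a * a + b * b = -1) : ∃ I J W : SpecialLinearGroup (Fin 2) F, Quat F a b I J W := by
  refine ⟨⟨!![0, -1; 1, 0], by simp [Matrix.det_fin_two]⟩, ⟨!![a, b; b, -a], by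
    rw [Matrix.det_fin_two_of]; linear_combination (-1 : F) * hab⟩, ⟨!![(1 + a - b) / 2, (a + b - 1) / 2; (a + b + 1) / 2, (1 - a + b) / 2], by
    rw [Matrix.det_fin_two_of]; field_simp; linear_combination (-2 : F) * hab⟩, hab, rfl, rfl, rfl, rfl, rfl, rfl, rfl, rfl, ?_, ?_, ?_, ?_⟩
  · show 2 * ((1 + a - b) / 2) = _
    field_simp
  · show 2 * ((a + b - 1) / 2) = _
    field_simp
  · show 2 * ((a + b + 1) / 2) = _
    field_simp
  · show 2 * ((1 - a + b) / 2) = _
    field_simp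

variable {a b : F} {I J W : SpecialLinearGroup (Fin 2) F}

theorem Quat.WI (h : Quat F a b I J W) (h2 : (2 : F) ≠ 0) : W * I = J * W := by
  have hab := h.hab
  have h00 := h.W00
  have h01 := h.W01
  have h10 := h.W10
  have h11 := h.W11
  apply sl2_ext <;> simp only [CfsgLib.Fus21.PSL2.mul_apply', h.I00, h.I01, h.I10, h.I11, h.J00, h.J01, h.J10, h.J11] <;> apply mul_left_cancel₀ h2
  · linear_combination h01 - a * h00 - b * h10 - hab
  · linear_combination -h00 - a * h01 - b * h11 - hab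
  · linear_combination h11 - b * h00 + a * h10 + hab
  · linear_combination -h10 - b * h01 + a * h11 - hab

theorem Quat.K (h : Quat F a b I J W) : (I * J) 0 0 = -b ∧ (I * J) 0 1 = a ∧ (I * J) 1 0 = a ∧ (I * J) 1 1 = b := by
  refine ⟨?_, ?_, ?_, ?_⟩ <;> simp only [CfsgLib.Fus21.PSL2.mul_apply', h.I00, h.I01, h.I10, h.I11, h.J00, h.J01, h.J10, h.J11] <;> ring

theorem Quat.WJ (h : Quat F a b I J W) (h2 : (2 : F) ≠ 0) : W * J = I * J * W := by
  have h00 := h.W00
  have h01 := h.W01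
  have h10 := h.W10
  have h11 := h.W11
  obtain ⟨k00, k01, k10, k11⟩ := h.K
  apply sl2_ext <;> rw [CfsgLib.Fus21.PSL2.mul_apply' W J, CfsgLib.Fus21.PSL2.mul_apply' (I * J) W] <;> simp only [k00, k01, k10, k11, h.J00, h.J01, h.J10, h.J11] <;> apply mul_left_cancel₀ h2
  · linear_combination a * h00 + b * h01 + b * h00 - a * h10
  · linear_combination b * h00 - a * h01 + b * h01 - a * h11
  · linear_combination a * h10 + b * h11 - a * h00 - b * h10
  · linear_combination b * h10 - a * h11 - a * h01 - b * h11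

theorem Quat.i2 (h : Quat F a b I J W) : pr F I * pr F I = 1 := pr_sq_of_trace I (by rw [h.I00, h.I11, add_zero])
theorem Quat.j2 (h : Quat F a b I J W) : pr F J * pr F J = 1 := pr_sq_of_trace J (by rw [h.J00, h.J11, add_neg_cancel])
theorem Quat.k2 (h : Quat F a b I J W) : pr F (I * J) * pr F (I * J) = 1 := pr_sq_of_trace _ (by rw [h.K.1, h.K.2.2.2, neg_add_cancel])
theorem Quat.w3 (h : Quat F a b I J W) (h2 : (2 : F) ≠ 0) : pr F W * pr F W * pr F W = 1 := pr_cube_of_trace W (Or.inl (by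
  apply mul_left_cancel₀ h2
  linear_combination h.W00 + h.W11))

theorem Quat.comm (h : Quat F a b I J W) : pr F I * pr F J = pr F J * pr F I := by
  have h1 := h.k2
  rw [map_mul] at h1
  have h3 : pr F I * (pr F I * pr F J * (pr F I * pr F J)) * pr F J = pr F I * pr F J := by rw [h1, mul_one]
  rw [← h3]
  calc pr F I * (pr F I * pr F J * (pr F I * pr F J)) * pr F J = (pr F I * pr F I) * (pr F J * pr F I) * (pr F J * pr F J) := by group
    _ = _ := by rw [h.i2, h.j2, one_mul, mul_one]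

theorem Quat.wiw (h : Quat F a b I J W) (h2 : (2 : F) ≠ 0) : pr F W * pr F I * (pr F W)⁻¹ = pr F J := by
  rw [mul_inv_eq_iff_eq_mul, ← map_mul, ← map_mul, h.WI h2]

theorem Quat.wjw (h : Quat F a b I J W) (h2 : (2 : F) ≠ 0) : pr F W * pr F J * (pr F W)⁻¹ = pr F I * pr F J := by
  rw [mul_inv_eq_iff_eq_mul, ← map_mul, ← map_mul, ← map_mul, h.WJ h2]

theorem pr_ne_one_of_trace (h2 : (2 : F) ≠ 0) (M : SpecialLinearGroup (Fin 2) F) (h : M 0 0 + M 1 1 = 0) : pr F M ≠ 1 := by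
  intro h1
  rw [pr_eq_one] at h1
  rcases h1 with h1 | h1
  · rw [h1, Matrix.one_apply_eq, Matrix.one_apply_eq] at h
    apply h2; linear_combination h
  · rw [h1, Matrix.neg_apply, Matrix.neg_apply, Matrix.one_apply_eq, Matrix.one_apply_eq] at h
    apply h2; linear_combination -h

theorem exists_ico (h2 : (2 : F) ≠ 0) (φ : F) (hφ : φ * φ = φ + 1) (h : Quat F a b I J W) : ∃ s, Ico (pr F I) (pr F W) s := by
  have hab := h.hab
  obtain ⟨S, s00, s01, s10, s11⟩ : ∃ S : SpecialLinearGroup (Fin 2) F, 2 * S 0 0 = -φ * a - (φ - 1) * b ∧ 2 * S 0 1 = -1 - φ * b + (φ - 1) * a ∧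
      2 * S 1 0 = 1 - φ * b + (φ - 1) * a ∧ 2 * S 1 1 = φ * a + (φ - 1) * b := by
    refine ⟨⟨!![(-φ * a - (φ - 1) * b) / 2, (-1 - φ * b + (φ - 1) * a) / 2; (1 - φ * b + (φ - 1) * a) / 2, (φ * a + (φ - 1) * b) / 2], ?_⟩, ?_, ?_, ?_, ?_⟩
    · rw [Matrix.det_fin_two_of]
      field_simp
      linear_combination (-(φ * φ) - (φ - 1) * (φ - 1)) * hab + 2 * hφ
    · show 2 * ((-φ * a - (φ - 1) * b) / 2) = _
      field_simp
    · show 2 * ((-1 - φ * b + (φ - 1) * a) / 2) = _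
      field_simp
    · show 2 * ((1 - φ * b + (φ - 1) * a) / 2) = _
      field_simp
    · show 2 * ((φ * a + (φ - 1) * b) / 2) = _
      field_simp
  have hs2 : pr F S * pr F S = 1 := pr_sq_of_trace S (by
    apply mul_left_cancel₀ h2
    linear_combination s00 + s11)
  have hsw : pr F (S * W) * pr F (S * W) = 1 := pr_sq_of_trace _ (by
    rw [CfsgLib.Fus21.PSL2.mul_apply', CfsgLib.Fus21.PSL2.mul_apply']
    apply mul_left_cancel₀ h2
    apply mul_left_cancel₀ h2
    linear_combination (2 * W 0 0) * s00 + (-φ * a - (φ - 1) * b) * h.W00 + (2 * W 1 0) * s01 + (-1 - φ * b + (φ - 1) * a) * h.W10 +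
      (2 * W 0 1) * s10 + (1 - φ * b + (φ - 1) * a) * h.W01 + (2 * W 1 1) * s11 + (φ * a + (φ - 1) * b) * h.W11 - 2 * hab)
  have hsi : pr F (S * I) * pr F (S * I) * pr F (S * I) = 1 := pr_cube_of_trace _ (Or.inr (by
    rw [CfsgLib.Fus21.PSL2.mul_apply', CfsgLib.Fus21.PSL2.mul_apply', h.I00, h.I01, h.I10, h.I11]
    apply mul_left_cancel₀ h2
    linear_combination s01 - s10))
  refine ⟨pr F S, h.i2, h.w3 h2, hs2, ?_, ?_, ?_, ?_⟩
  · rw [h.wiw h2]; exact h.comm
  · rw [h.wiw h2]; exact h.wjw h2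
  · rw [map_mul] at hsw
    apply eq_inv_of_mul_eq_one_left
    rw [← hsw]; group
  · rw [map_mul] at hsi
    rw [← hsi]; group

end

section finite
variable {F : Type*} [Field F] [Fintype F]

/-- the golden ratio -/
theorem exists_phi (h5 : 5 ∣ Nat.card (ProjectiveSpecialLinearGroup (Fin 2) F)) : ∃ φ : F, φ * φ = φ + 1 := by
  haveI : Fact (Nat.Prime 5) := ⟨Nat.prime_five⟩
  obtain ⟨g, hg⟩ := exists_prime_orderOf_dvd_card' 5 h5
  obtain ⟨M, rfl⟩ := pr_surj g
  have hg1 : pr F M ≠ 1 := by intro h; rw [h, orderOf_one] at hg; omega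
  have h1 : pr F (M ^ 5) = 1 := by rw [map_pow, ← hg, pow_orderOf_eq_one]
  obtain ⟨τ, hτ⟩ : ∃ τ, τ = M 0 0 + M 1 1 := ⟨_, rfl⟩
  have hch := ch M
  rw [← hτ] at hch
  have e3 : (M : Matrix (Fin 2) (Fin 2) F) * (M * M) = (τ ^ 2 - 1) • (M : Matrix (Fin 2) (Fin 2) F) - τ • 1 := by
    rw [hch, mul_sub, Matrix.mul_smul, hch, mul_one]; module
  have e4 : (M : Matrix (Fin 2) (Fin 2) F) * (M * (M * M)) = (τ ^ 3 - 2 * τ) • (M : Matrix (Fin 2) (Fin 2) F) - (τ ^ 2 - 1) • 1 := by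
    rw [e3, mul_sub, Matrix.mul_smul, hch, Matrix.mul_smul, mul_one]; module
  have e5 : (M : Matrix (Fin 2) (Fin 2) F) * (M * (M * (M * M))) = (τ ^ 4 - 3 * τ ^ 2 + 1) • (M : Matrix (Fin 2) (Fin 2) F) - (τ ^ 3 - 2 * τ) • 1 := by
    rw [e4, mul_sub, Matrix.mul_smul, hch, Matrix.mul_smul, mul_one]; module
  have e5' : ((M ^ 5 : SpecialLinearGroup (Fin 2) F) : Matrix (Fin 2) (Fin 2) F) = (τ ^ 4 - 3 * τ ^ 2 + 1) • (M : Matrix (Fin 2) (Fin 2) F) - (τ ^ 3 - 2 * τ) • 1 := by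
    rw [← e5]
    simp only [pow_succ, pow_zero, one_mul, mul_assoc]
    rfl
  have hc4 : τ ^ 4 - 3 * τ ^ 2 + 1 = 0 := by
    by_contra hne
    apply hg1
    rw [pr_eq_one] at h1
    have key : ∀ ε : F, ((M ^ 5 : SpecialLinearGroup (Fin 2) F) : Matrix (Fin 2) (Fin 2) F) = ε • 1 → M 0 1 = 0 ∧ M 1 0 = 0 ∧ M 0 0 = M 1 1 := by
      intro ε hε
      rw [e5'] at hε
      have h01 := congrFun (congrFun hε 0) 1
      have h10 := congrFun (congrFun hε 1) 0
      have h00 := congrFun (congrFun hε 0) 0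
      have h11 := congrFun (congrFun hε 1) 1
      simp only [Matrix.sub_apply, Matrix.smul_apply, smul_eq_mul, Matrix.one_apply_eq] at h00 h11
      simp only [Matrix.sub_apply, Matrix.smul_apply, smul_eq_mul, Matrix.one_apply_ne (show (0 : Fin 2) ≠ 1 by decide), mul_zero, sub_zero] at h01
      simp only [Matrix.sub_apply, Matrix.smul_apply, smul_eq_mul, Matrix.one_apply_ne (show (1 : Fin 2) ≠ 0 by decide), mul_zero, sub_zero] at h10
      refine ⟨(mul_eq_zero.mp h01).resolve_left hne, (mul_eq_zero.mp h10).resolve_left hne, ?_⟩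
      apply mul_left_cancel₀ hne
      linear_combination h00 - h11
    have h3 : M 0 1 = 0 ∧ M 1 0 = 0 ∧ M 0 0 = M 1 1 := by
      rcases h1 with h1 | h1
      · exact key 1 (by rw [h1, one_smul])
      · exact key (-1) (by rw [h1, neg_smul, one_smul])
    have hd := det2 M
    rw [h3.1, h3.2.2] at hd
    have h4 : (M 1 1) * (M 1 1) = 1 := by linear_combination hd
    rw [pr_eq_one]
    rcases mul_self_eq_one_iff.mp h4 with h | h
    · left
      apply mat_ext
      · rw [h3.2.2, h, Matrix.one_apply_eq]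
      · rw [h3.1, Matrix.one_apply_ne (by decide)]
      · rw [h3.2.1, Matrix.one_apply_ne (by decide)]
      · rw [h, Matrix.one_apply_eq]
    · right
      apply mat_ext
      · rw [h3.2.2, h, Matrix.neg_apply, Matrix.one_apply_eq]
      · rw [h3.1, Matrix.neg_apply, Matrix.one_apply_ne (by decide), neg_zero]
      · rw [h3.2.1, Matrix.neg_apply, Matrix.one_apply_ne (by decide), neg_zero]
      · rw [h, Matrix.neg_apply, Matrix.one_apply_eq]
  have hfac : (τ * τ + τ - 1) * (τ * τ - τ - 1) = 0 := by linear_combination hc4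
  rcases mul_eq_zero.mp hfac with h | h
  · exact ⟨-τ, by linear_combination h⟩
  · exact ⟨τ, by linear_combination h⟩

/-- icosahedral subgroups exist -/
theorem exists_a5 (hodd : Odd (Fintype.card F)) (h5 : 5 ∣ Nat.card (ProjectiveSpecialLinearGroup (Fin 2) F)) :
    ∃ H : Subgroup (ProjectiveSpecialLinearGroup (Fin 2) F), Nonempty (H ≃* alternatingGroup (Fin 5)) := by
  classical
  have h2 := two_ne_zero_of_odd hodd
  obtain ⟨φ, hφ⟩ := exists_phi h5
  obtain ⟨a, b, hab⟩ := CfsgLib.Fus21.PSL2.sq_sum (F := F) (Nat.odd_iff.mp hodd) (-1)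
  obtain ⟨I, J, W, hQ⟩ := exists_quat h2 a b (by rw [← pow_two, ← pow_two]; exact hab)
  obtain ⟨s, hs⟩ := exists_ico h2 φ hφ hQ
  have hi1 : pr F I ≠ 1 := pr_ne_one_of_trace h2 I (by rw [hQ.I00, hQ.I11, add_zero])
  haveI : Nontrivial (Subgroup.closure ({pr F I, pr F W, s} : Set (ProjectiveSpecialLinearGroup (Fin 2) F))) :=
    ⟨⟨pr F I, Subgroup.subset_closure (by simp)⟩, 1, fun h => hi1 (congrArg Subtype.val h)⟩
  exact ⟨_, perfect60 hodd (ProjectiveSpecialLinearGroup.toPGL.comp (Subgroup.subtype _)) (ProjectiveSpecialLinearGroup.toPGL_injective.comp (Subgroup.subtype_injective _)) hs.perfect hs.bound⟩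

end finite

end CfsgLib.Dk29
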