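import Cfsg.Statements.S4337
import Mathlib

set_option autoImplicit false
open Cfsg

namespace Cfsg.Agent.S4337

open scoped commutatorElement in
set_option maxRecDepth 100000 in
theorem perm4_solvable : Group.IsSolvable (Equiv.Perm (Fin 4)) := by
  let V : Subgroup (Equiv.Perm (Fin 4)) :=
    { carrier := {σ | σ * σ = 1 ∧ Equiv.Perm.sign σ = 1}
      mul_mem' := by
        intro a b
        revert a b
        decide +kernel
      one_mem' := by decide
      inv_mem' := by
        intro a
        revert a
        decide +kernel }
  have h1 : derivedSeries (Equiv.Perm (Fin 4)) 1 ≤ Equiv.Perm.sign.ker := by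
    rw [derivedSeries_one]
    exact Abelianization.commutator_subset_ker _
  have h2 : derivedSeries (Equiv.Perm (Fin 4)) 2 ≤ V := by
    rw [derivedSeries_succ]
    refine (Subgroup.commutator_mono h1 h1).trans ?_
    rw [Subgroup.commutator_le]
    intro g hg h hh
    rw [MonoidHom.mem_ker] at hg hh
    change ⁅g, h⁆ * ⁅g, h⁆ = 1 ∧ Equiv.Perm.sign ⁅g, h⁆ = 1
    revert g h
    simp only [commutatorElement_def]
    decide +kernel
  have h3 : derivedSeries (Equiv.Perm (Fin 4)) 3 ≤ ⊥ := by
    rw [derivedSeries_succ]
    refine (Subgroup.commutator_mono h2 h2).trans ?_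
    rw [Subgroup.commutator_le]
    intro g hg h hh
    have hg' : g * g = 1 ∧ Equiv.Perm.sign g = 1 := hg
    have hh' : h * h = 1 ∧ Equiv.Perm.sign h = 1 := hh
    rw [Subgroup.mem_bot, commutatorElement_def]
    clear hg hh
    revert g h
    decide +kernel
  exact ⟨⟨3, le_bot_iff.mp h3⟩⟩

theorem perm_solvable (α : Type*) [Finite α] (h : Nat.card α ≤ 4) :
    Group.IsSolvable (Equiv.Perm α) := by
  classical
  haveI : Fintype α := Fintype.ofFinite α
  rw [Nat.card_eq_fintype_card] at h
  obtain ⟨f⟩ : Nonempty (α ↪ Fin 4) := Function.Embedding.nonempty_of_card_le (by simpa using h)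
  haveI := perm4_solvable
  exact Group.isSolvable_of_isSolvable_injective (f := Equiv.Perm.viaEmbeddingHom f)
    (Equiv.Perm.viaEmbeddingHom_injective f)

theorem solv_small {n : ℕ} (T : Finset (Fin n)) (hT : T.card ≤ 4) (H : Subgroup (Equiv.Perm (Fin n)))
    (hH : ∀ σ ∈ H, ∀ x, x ∉ T → σ x = x) : Group.IsSolvable H := by
  classical
  haveI : Group.IsSolvable (Equiv.Perm {x // x ∈ T}) := by
    apply perm_solvable
    simpa using hT
  have hle : H ≤ (Equiv.Perm.ofSubtype (p := fun x => x ∈ T)).range := by
    intro σ hσ
    refine ⟨(Equiv.Perm.subtypeEquivSubtypePerm (fun x => x ∈ T)).symm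
      ⟨σ, fun a ha => hH σ hσ a ha⟩, ?_⟩
    have := (Equiv.Perm.subtypeEquivSubtypePerm (fun x => x ∈ T)).apply_symm_apply
      ⟨σ, fun a ha => hH σ hσ a ha⟩
    exact congrArg Subtype.val this
  haveI : Group.IsSolvable (Equiv.Perm.ofSubtype (p := fun x => x ∈ T)).range :=
    Group.isSolvable_of_surjective (MonoidHom.rangeRestrict_surjective _)
  exact Group.isSolvable_of_isSolvable_injective (Subgroup.inclusion_injective hle)

theorem solv_closure_small {n : ℕ} (T : Finset (Fin n)) (hT : T.card ≤ 4)
    (S : Set (Equiv.Perm (Fin n))) (hS : ∀ σ ∈ S, σ.support ⊆ T) :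
    Group.IsSolvable (Subgroup.closure S) := by
  apply solv_small T hT
  intro σ hσ
  induction hσ using Subgroup.closure_induction with
  | mem x hx =>
    intro y hy
    by_contra h
    exact hy (hS x hx (Equiv.Perm.mem_support.mpr h))
  | one => intro y _; rfl
  | mul x y _ _ ihx ihy =>
    intro z hz
    rw [Equiv.Perm.mul_apply, ihy z hz, ihx z hz]
  | inv x _ ih =>
    intro z hz
    rw [Equiv.Perm.inv_eq_iff_eq]
    exact (ih z hz).symm

theorem solv_comm {G : Type*} [Group G] (H : Subgroup G) (hH : Group.IsSolvable H) (c : G)
    (hc : ∀ h ∈ H, h * c = c * h) : Group.IsSolvable ↥(H ⊔ Subgroup.zpowers c) := by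
  have hcomm : ∀ (m : H) (n : Subgroup.zpowers c), Commute (H.subtype m)
      ((Subgroup.zpowers c).subtype n) := by
    rintro ⟨m, hm⟩ ⟨_, k, rfl⟩
    exact (show Commute m c from hc m hm).zpow_right k
  have hr := MonoidHom.noncommCoprod_range H.subtype (Subgroup.zpowers c).subtype hcomm
  rw [Subgroup.range_subtype, Subgroup.range_subtype] at hr
  rw [← hr]
  haveI := hH
  haveI : Group.IsSolvable (Subgroup.zpowers c) := Group.isSolvable_of_comm (by
    rintro ⟨_, k, rfl⟩ ⟨_, l, rfl⟩
    apply Subtype.ext
    exact ((Commute.refl c).zpow_zpow k l))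
  exact Group.isSolvable_of_surjective (MonoidHom.rangeRestrict_surjective _)

theorem three_aux {n : ℕ} (a b c : Equiv.Perm (Fin n))
    (hcard : (a.support ∪ b.support).card ≤ 4)
    (hd1 : Disjoint a.support c.support) (hd2 : Disjoint b.support c.support) :
    Group.IsSolvable (Subgroup.closure ({a, b, c} : Set (Equiv.Perm (Fin n)))) := by
  have h1 : Group.IsSolvable (Subgroup.closure ({a, b} : Set (Equiv.Perm (Fin n)))) := by
    apply solv_closure_small _ hcard
    rintro σ (rfl | rfl)
    · exact Finset.subset_union_left
    · exact Finset.subset_union_right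
  have h2 : Subgroup.closure ({a, b, c} : Set (Equiv.Perm (Fin n))) =
      Subgroup.closure ({a, b} : Set (Equiv.Perm (Fin n))) ⊔ Subgroup.zpowers c := by
    rw [Subgroup.zpowers_eq_closure, ← Subgroup.closure_union]
    congr 1
    ext x
    simp only [Set.mem_insert_iff, Set.mem_singleton_iff, Set.mem_union]
    tauto
  rw [h2]
  apply solv_comm _ h1
  intro h hh
  induction hh using Subgroup.closure_induction with
  | mem x hx =>
    rcases hx with rfl | rfl
    · exact (Equiv.Perm.disjoint_iff_disjoint_support.mpr hd1).commute
    · exact (Equiv.Perm.disjoint_iff_disjoint_support.mpr hd2).commute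
  | one => simp
  | mul x y _ _ ihx ihy => rw [mul_assoc, ihy, ← mul_assoc, ihx, mul_assoc]
  | inv x _ ih => exact (show Commute x c from ih).inv_left

/-- In a finite symmetric group, any three transpositions generate a solvable subgroup. -/
theorem result (n : ℕ) (a b c : Equiv.Perm (Fin n))
    (ha : a.IsSwap) (hb : b.IsSwap) (hc : c.IsSwap) :
    Group.IsSolvable (Subgroup.closure ({a, b, c} : Set (Equiv.Perm (Fin n)))) := by
  have hA : a.support.card = 2 := Equiv.Perm.card_support_eq_two.mpr ha
  have hB : b.support.card = 2 := Equiv.Perm.card_support_eq_two.mpr hb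
  have hC : c.support.card = 2 := Equiv.Perm.card_support_eq_two.mpr hc
  have hU2 : ∀ S T : Finset (Fin n), S.card = 2 → T.card = 2 → (S ∪ T).card ≤ 4 := by
    intro S T hS hT
    have := Finset.card_union_le S T
    omega
  by_cases h4 : (a.support ∪ b.support ∪ c.support).card ≤ 4
  · apply solv_closure_small _ h4
    rintro σ (rfl | rfl | rfl)
    · exact Finset.subset_union_left.trans Finset.subset_union_left
    · exact Finset.subset_union_right.trans Finset.subset_union_left
    · exact Finset.subset_union_right
  · by_cases hab : Disjoint a.support b.support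
    · by_cases hac : Disjoint a.support c.support
      · have : ({a, b, c} : Set (Equiv.Perm (Fin n))) = {b, c, a} := by
          ext x; simp only [Set.mem_insert_iff, Set.mem_singleton_iff]; tauto
        rw [this]
        exact three_aux b c a (hU2 _ _ hB hC) hab.symm hac.symm
      · by_cases hbc : Disjoint b.support c.support
        · have : ({a, b, c} : Set (Equiv.Perm (Fin n))) = {a, c, b} := by
            ext x; simp only [Set.mem_insert_iff, Set.mem_singleton_iff]; tauto
          rw [this]
          exact three_aux a c b (hU2 _ _ hA hC) hab hbc.symm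
        · exfalso
          apply h4
          have hsub : c.support ⊆ a.support ∪ b.support := by
            rw [Finset.not_disjoint_iff] at hac hbc
            obtain ⟨x, hxa, hxc⟩ := hac
            obtain ⟨y, hyb, hyc⟩ := hbc
            have hxy : x ≠ y := by
              rintro rfl
              exact (Finset.disjoint_left.mp hab) hxa hyb
            have h1 : ({x, y} : Finset (Fin n)) ⊆ c.support := by
              intro z hz
              rw [Finset.mem_insert, Finset.mem_singleton] at hz
              rcases hz with rfl | rfl
              · exact hxc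
              · exact hyc
            have h2 : ({x, y} : Finset (Fin n)) = c.support := by
              apply Finset.eq_of_subset_of_card_le h1
              rw [hC, Finset.card_pair hxy]
            rw [← h2]
            intro z hz
            rw [Finset.mem_insert, Finset.mem_singleton] at hz
            rcases hz with rfl | rfl
            · exact Finset.mem_union_left _ hxa
            · exact Finset.mem_union_right _ hyb
          rw [Finset.union_eq_left.mpr hsub]
          exact hU2 _ _ hA hB
    · by_cases hc' : Disjoint (a.support ∪ b.support) c.support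
      · rw [Finset.disjoint_union_left] at hc'
        exact three_aux a b c (hU2 _ _ hA hB) hc'.1 hc'.2
      · exfalso
        apply h4
        have h1 := Finset.card_union_add_card_inter a.support b.support
        have h2 : 0 < (a.support ∩ b.support).card := by
          rw [Finset.card_pos]
          exact Finset.not_disjoint_iff_nonempty_inter.mp hab
        have h3 := Finset.card_union_add_card_inter (a.support ∪ b.support) c.support
        have h5 : 0 < ((a.support ∪ b.support) ∩ c.support).card := by
          rw [Finset.card_pos]
          exact Finset.not_disjoint_iff_nonempty_inter.mp hc'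
        omega

end Cfsg.Agent.S4337
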