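import Cfsg.Agent.LibDkW29
import Cfsg.Agent.S4337

set_option autoImplicit false

/-! Nonsolvable subgroups of `PSL_2(q)`. -/

namespace CfsgLib.Dk29

open MulAction Matrix OnePoint
open scoped MatrixGroups

theorem solv_cyc {H : Type*} [Group H] (h : IsCyclic H) : Group.IsSolvable H :=
  Group.isSolvable_of_comm (fun a b => (IsCyclic.isMulCommutative (α := H)).is_comm.comm a b)

theorem solv_of_hom {H A : Type*} [Group H] [Group A] (hA : ∀ a b : A, a * b = b * a) (f : H →* A) (hk : ∀ a b : H, f a = 1 → f b = 1 → a * b = b * a) : Group.IsSolvable H := by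
  haveI : Group.IsSolvable A := Group.isSolvable_of_comm hA
  haveI : Group.IsSolvable f.ker := Group.isSolvable_of_comm (fun a b => Subtype.ext (hk a b a.2 b.2))
  exact Group.isSolvable_of_ker_le_range f.ker.subtype f (by rw [Subgroup.range_subtype])

theorem solv_dih (n : ℕ) (hn : 1 ≤ n) : Group.IsSolvable (DihedralGroup n) := by
  haveI : NeZero n := ⟨by omega⟩
  have hidx : (Subgroup.zpowers (DihedralGroup.r 1 : DihedralGroup n)).index = 2 := by
    have h1 := Subgroup.card_mul_index (Subgroup.zpowers (DihedralGroup.r 1 : DihedralGroup n))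
    rw [Nat.card_zpowers, DihedralGroup.orderOf_r_one, DihedralGroup.nat_card, mul_comm] at h1
    exact Nat.eq_of_mul_eq_mul_right (by omega) h1
  haveI := Subgroup.normal_of_index_eq_two hidx
  have h2 : Nat.card (DihedralGroup n ⧸ Subgroup.zpowers (DihedralGroup.r 1 : DihedralGroup n)) = 2 := hidx
  haveI : Fact (Nat.Prime 2) := ⟨Nat.prime_two⟩
  haveI := isCyclic_of_prime_card h2
  have h3 : ∀ a b : DihedralGroup n ⧸ Subgroup.zpowers (DihedralGroup.r 1 : DihedralGroup n), a * b = b * a :=
    fun a b => (IsCyclic.isMulCommutative (α := DihedralGroup n ⧸ Subgroup.zpowers (DihedralGroup.r 1 : DihedralGroup n))).is_comm.comm a b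
  apply solv_of_hom h3 (QuotientGroup.mk' (Subgroup.zpowers (DihedralGroup.r 1 : DihedralGroup n)))
  intro a b ha hb
  have ha' : a ∈ Subgroup.zpowers (DihedralGroup.r 1 : DihedralGroup n) := (QuotientGroup.eq_one_iff a).mp ha
  have hb' : b ∈ Subgroup.zpowers (DihedralGroup.r 1 : DihedralGroup n) := (QuotientGroup.eq_one_iff b).mp hb
  obtain ⟨i, rfl⟩ := ha'
  obtain ⟨j, rfl⟩ := hb'
  show (DihedralGroup.r 1 : DihedralGroup n) ^ i * (DihedralGroup.r 1) ^ j = (DihedralGroup.r 1) ^ j * (DihedralGroup.r 1) ^ i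
  rw [← _root_.zpow_add, ← _root_.zpow_add, add_comm]

theorem solv_fix {F : Type*} [Field F] [DecidableEq F] {H : Type*} [Group H] (f : H →* PGL(2, F)) (hf : Function.Injective f)
    (x : OnePoint F) (hx : ∀ h : H, f h • x = x) : Group.IsSolvable H := by
  classical
  let K := AlgebraicClosure F
  letI : MulAction H (OnePoint K) := MulAction.compHom _ ((ProjGenLinGroup.map (algebraMap F K)).comp f)
  let M : Mob H (OnePoint K) K := (mob (K := K)).comp ((ProjGenLinGroup.map (algebraMap F K)).comp f) ((map_injective' (algebraMap F K)).comp hf)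
  let x' : OnePoint K := OnePoint.map (algebraMap F K) x
  have hst : ∀ h : H, h • x' = x' := by
    intro g
    show ProjGenLinGroup.map (algebraMap F K) (f g) • OnePoint.map (algebraMap F K) x = OnePoint.map (algebraMap F K) x
    rw [← map_smul', hx g]
  let χ : H →* Kˣ := MonoidHom.mk' (fun h => M.χ x' h) (fun a b => M.mul x' a b (hst a) (hst b))
  exact solv_of_hom (fun a b : Kˣ => mul_comm a b) χ (fun a b ha hb => M.comm x' a b (hst a) (hst b) ha hb)

theorem solv_s4 : Group.IsSolvable (Equiv.Perm (Fin 4)) := Cfsg.Agent.S4337.perm4_solvable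

theorem solv_a4 : Group.IsSolvable (alternatingGroup (Fin 4)) := by
  haveI := solv_s4
  infer_instance

theorem solv_equiv {A B : Type*} [Group A] [Group B] (e : A ≃* B) (h : Group.IsSolvable B) : Group.IsSolvable A := by
  haveI := h
  exact Group.isSolvable_of_isSolvable_injective (f := e.toMonoidHom) e.injective

section
variable {F : Type*} [Field F] [Fintype F]

theorem psl_simple (h4 : 4 ≤ Fintype.card F) : IsSimpleGroup (ProjectiveSpecialLinearGroup (Fin 2) F) :=
  ProjectiveSpecialLinearGroup.rank_two_simple (by rw [Nat.card_eq_fintype_card]; exact h4)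

theorem psl_not_comm (h4 : 4 ≤ Fintype.card F) : ¬ ∀ a b : ProjectiveSpecialLinearGroup (Fin 2) F, a * b = b * a := by
  classical
  intro h
  haveI := psl_simple h4
  -- the point stabilizer would be normal
  have hn : (bor (∞ : OnePoint F)).Normal := ⟨fun g hg k => by rw [h k g, mul_inv_cancel_right]; exact hg⟩
  rcases hn.eq_bot_or_eq_top with h1 | h1
  · have h2 := bor_card' (∞ : OnePoint F)
    rw [h1, Subgroup.card_bot] at h2
    have h3 : Nat.gcd 2 (Fintype.card F - 1) ≤ 2 := Nat.gcd_le_left _ (by norm_num)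
    have h5 : 4 * 3 ≤ Fintype.card F * (Fintype.card F - 1) := Nat.mul_le_mul h4 (by omega)
    omega
  · have h2 := bor_index (∞ : OnePoint F)
    rw [h1, Subgroup.index_top] at h2
    omega

theorem psl_not_solv (h4 : 4 ≤ Fintype.card F) : ¬ Group.IsSolvable (ProjectiveSpecialLinearGroup (Fin 2) F) := by
  haveI := psl_simple h4
  rw [← IsSimpleGroup.comm_iff_isSolvable]
  exact psl_not_comm h4

theorem a5_not_solv : ¬ Group.IsSolvable (alternatingGroup (Fin 5)) := by
  intro h
  haveI : Fintype (GaloisField 2 2) := Fintype.ofFinite _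
  haveI : Fact (Nat.Prime 2) := ⟨Nat.prime_two⟩
  have hc4 : Fintype.card (GaloisField 2 2) = 4 := by
    rw [← Nat.card_eq_fintype_card, GaloisField.card 2 2 (by norm_num)]; norm_num
  obtain ⟨e⟩ := Cfsg.Agent.S0252.result (F := GaloisField 2 2) hc4
  exact psl_not_solv (by rw [hc4]) (solv_equiv e h)

/-- proper nonsolvable subgroups -/
theorem nonsolv_cases [DecidableEq F] (L : Subgroup (ProjectiveSpecialLinearGroup (Fin 2) F)) (hL : L ≠ ⊤) (hs : ¬ Group.IsSolvable L) :
    Nonempty (L ≃* alternatingGroup (Fin 5)) ∨ (∃ (k : Subfield F) (m : ℕ), SubCase F (ProjectiveSpecialLinearGroup.toPGL.comp L.subtype) k m) := by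
  rcases psl_cases L hL with ⟨h, -⟩ | ⟨n, hn2, hn, ⟨e⟩⟩ | ⟨x, hx⟩ | ⟨⟨e⟩⟩ | ⟨⟨e⟩⟩ | h | h
  · exact absurd (solv_cyc h) hs
  · exact absurd (solv_equiv e (solv_dih n (by omega))) hs
  · exact absurd (solv_fix (ProjectiveSpecialLinearGroup.toPGL.comp L.subtype) (ProjectiveSpecialLinearGroup.toPGL_injective.comp L.subtype_injective) x (fun h => hx h h.2)) hs
  · exact absurd (solv_equiv e solv_a4) hs
  · exact absurd (solv_equiv e solv_s4) hs
  · exact Or.inl h
  · exact Or.inr h

end

end CfsgLib.Dk29
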