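import Cfsg.Agent.LibDkX29

set_option autoImplicit false

/-! Proper nonsolvable subgroups of `PSL_2(q)`: existence. -/

namespace CfsgLib.Dk29

open MulAction Matrix OnePoint
open scoped MatrixGroups

theorem cub_lt {a b : ℕ} (ha : 1 < a) (h : a < b) : a * ((a - 1) * (a + 1)) < b * ((b - 1) * (b + 1)) := by
  have h1 : (a - 1) * (a + 1) ≤ (b - 1) * (b + 1) := Nat.mul_le_mul (by omega) (by omega)
  have h2 : 0 < (b - 1) * (b + 1) := Nat.mul_pos (by omega) (by omega)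
  calc a * ((a - 1) * (a + 1)) ≤ a * ((b - 1) * (b + 1)) := Nat.mul_le_mul_left _ h1
    _ < _ := Nat.mul_lt_mul_of_pos_right h h2

theorem card_psl_lt {F K : Type*} [Field F] [Fintype F] [Field K] [Fintype K] (h : Fintype.card K < Fintype.card F)
    (hpar : Even (Fintype.card K) ↔ Even (Fintype.card F)) :
    Nat.card (ProjectiveSpecialLinearGroup (Fin 2) K) < Nat.card (ProjectiveSpecialLinearGroup (Fin 2) F) := by
  have hK1 : 1 < Fintype.card K := Fintype.one_lt_card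
  have hF1 : 1 < Fintype.card F := Fintype.one_lt_card
  have h1 := card_PSL (F := K)
  have h2 := card_PSL (F := F)
  have h3 := cub_lt hK1 h
  rcases gcd_cases _ hK1 with ⟨hd, hp⟩ | ⟨hd, hp⟩ <;> rcases gcd_cases _ hF1 with ⟨hd', hp'⟩ | ⟨hd', hp'⟩
  · rw [hd] at h1; rw [hd'] at h2; omega
  · exact absurd (hpar.mp hp) (Nat.not_even_iff_odd.mpr hp')
  · exact absurd (hpar.mpr hp') (Nat.not_even_iff_odd.mpr hp)
  · rw [hd] at h1; rw [hd'] at h2; omega

/-- a proper nonsolvable subfield subgroup -/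
theorem exists_subfield_sub {F : Type*} [Field F] [Fintype F] (p n a : ℕ) [Fact p.Prime] (hF : Fintype.card F = p ^ n) (ha0 : a ≠ 0) (ha : a ∣ n) (han : a < n) (h4 : 4 ≤ p ^ a) :
    ∃ L : Subgroup (ProjectiveSpecialLinearGroup (Fin 2) F), L ≠ ⊤ ∧ ¬ Group.IsSolvable L := by
  haveI : Fintype (GaloisField p a) := Fintype.ofFinite _
  have hc : Fintype.card (GaloisField p a) = p ^ a := by
    rw [← Nat.card_eq_fintype_card, GaloisField.card p a ha0]
  obtain ⟨m, hm⟩ := ha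
  obtain ⟨σ⟩ := exists_emb (F := F) (K := GaloisField p a) m (by rw [hc, hF, hm, ← pow_mul])
  have e := MonoidHom.ofInjective (pslMap_injective σ)
  refine ⟨(pslMap σ).range, ?_, ?_⟩
  · intro h
    have h1 := Nat.card_congr e.toEquiv
    rw [h, Subgroup.card_top] at h1
    have h2 := card_psl_lt (F := F) (K := GaloisField p a) (by rw [hc, hF]; exact Nat.pow_lt_pow_right (Fact.out (p := p.Prime)).one_lt han) (by
      rw [hc, hF, Nat.even_pow, Nat.even_pow]
      constructor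
      · rintro ⟨h, -⟩; exact ⟨h, by omega⟩
      · rintro ⟨h, -⟩; exact ⟨h, ha0⟩)
    omega
  · intro h
    exact psl_not_solv (F := GaloisField p a) (by rw [hc]; exact h4) (solv_equiv e h)

theorem solv_of_lt {F : Type*} [Field F] [Fintype F] [DecidableEq F] {H : Type*} [Group H] [Finite H] (f : H →* PGL(2, F)) (hf : Function.Injective f)
    (hc : Nat.card H < 60) : Group.IsSolvable H := by
  rcases dickson_gen f hf 1 (Or.inl rfl) with ⟨h, -⟩ | ⟨n, hn2, -, ⟨e⟩⟩ | ⟨x, hx⟩ | ⟨⟨e⟩⟩ | ⟨⟨e⟩⟩ | ⟨⟨e⟩⟩ | ⟨k, hk, -, hck⟩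
  · exact solv_cyc h
  · exact solv_equiv e (solv_dih n (by omega))
  · exact solv_fix f hf x hx
  · exact solv_equiv e solv_a4
  · exact solv_equiv e solv_s4
  · rw [Nat.card_congr e.toEquiv, card_a5] at hc; omega
  · exfalso
    rcases hck with h | ⟨hodd, h⟩
    · have h1 : 4 * (3 * 5) ≤ Nat.card k * ((Nat.card k - 1) * (Nat.card k + 1)) := Nat.mul_le_mul hk (Nat.mul_le_mul (by omega) (by omega))
      omega
    · have hk5 : 5 ≤ Nat.card k := by obtain ⟨c, hc⟩ := hodd; omega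
      have h1 : 5 * (4 * 6) ≤ Nat.card k * ((Nat.card k - 1) * (Nat.card k + 1)) := Nat.mul_le_mul hk5 (Nat.mul_le_mul (by omega) (by omega))
      omega

/-- an icosahedral proper subgroup -/
theorem exists_a5_proper {F : Type*} [Field F] [Fintype F] (hodd : Odd (Fintype.card F)) (h7 : 7 ≤ Fintype.card F) (h5 : 5 ∣ (Fintype.card F - 1) * (Fintype.card F + 1)) :
    ∃ L : Subgroup (ProjectiveSpecialLinearGroup (Fin 2) F), L ≠ ⊤ ∧ ¬ Group.IsSolvable L := by
  have hc := card_PSL (F := F)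
  have hd : Nat.gcd 2 (Fintype.card F - 1) = 2 := by obtain ⟨c, hc⟩ := hodd; rw [hc]; simp
  rw [hd] at hc
  have h5' : 5 ∣ Nat.card (ProjectiveSpecialLinearGroup (Fin 2) F) := by
    have h1 : 5 ∣ 2 * Nat.card (ProjectiveSpecialLinearGroup (Fin 2) F) := by rw [hc]; exact Dvd.dvd.mul_left h5 _
    exact Nat.Coprime.dvd_of_dvd_mul_left (by norm_num) h1
  obtain ⟨H, ⟨e⟩⟩ := exists_a5 hodd h5'
  refine ⟨H, ?_, fun h => a5_not_solv (solv_equiv e.symm h)⟩
  intro h
  have h1 := Nat.card_congr e.toEquiv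
  rw [h, Subgroup.card_top, card_a5] at h1
  have h2 : 7 * (6 * 8) ≤ Fintype.card F * ((Fintype.card F - 1) * (Fintype.card F + 1)) := Nat.mul_le_mul h7 (Nat.mul_le_mul (by omega) (by omega))
  omega

theorem pow_two_mod5 (n : ℕ) (hn : Odd n) : ¬ 5 ∣ (2 ^ n - 1) * (2 ^ n + 1) := by
  obtain ⟨k, hk⟩ := hn
  have h7 : 2 ^ n % 5 = 2 ∨ 2 ^ n % 5 = 3 := by
    rcases Nat.even_or_odd' k with ⟨j, rfl | rfl⟩
    · left
      have h16 : 16 ^ j % 5 = 1 := by rw [Nat.pow_mod]; norm_num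
      have e1 : 2 ^ n = 2 * 16 ^ j := by
        rw [hk, show (16 : ℕ) = 2 ^ 4 by norm_num, ← pow_mul, ← pow_succ']; congr 1; ring
      omega
    · right
      have h16 : 16 ^ j % 5 = 1 := by rw [Nat.pow_mod]; norm_num
      have e1 : 2 ^ n = 8 * 16 ^ j := by
        rw [hk, show (16 : ℕ) = 2 ^ 4 by norm_num, show (8 : ℕ) = 2 ^ 3 by norm_num, ← pow_mul, ← pow_add]; congr 1; ring
      omega
  intro h6
  generalize 2 ^ n = N at h6 h7
  rcases (Nat.prime_five.dvd_mul).mp h6 with h8 | h8 <;> omega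

theorem pow_three_mod5 (n : ℕ) (hn : Odd n) : ¬ 5 ∣ (3 ^ n - 1) * (3 ^ n + 1) := by
  obtain ⟨k, hk⟩ := hn
  have h7 : 3 ^ n % 5 = 2 ∨ 3 ^ n % 5 = 3 := by
    rcases Nat.even_or_odd' k with ⟨j, rfl | rfl⟩
    · right
      have h16 : 81 ^ j % 5 = 1 := by rw [Nat.pow_mod]; norm_num
      have e1 : 3 ^ n = 3 * 81 ^ j := by
        rw [hk, show (81 : ℕ) = 3 ^ 4 by norm_num, ← pow_mul, ← pow_succ']; congr 1; ring
      omega
    · left
      have h16 : 81 ^ j % 5 = 1 := by rw [Nat.pow_mod]; norm_num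
      have e1 : 3 ^ n = 27 * 81 ^ j := by
        rw [hk, show (81 : ℕ) = 3 ^ 4 by norm_num, show (27 : ℕ) = 3 ^ 3 by norm_num, ← pow_mul, ← pow_add]; congr 1; ring
      omega
  intro h6
  generalize 3 ^ n = N at h6 h7
  rcases (Nat.prime_five.dvd_mul).mp h6 with h8 | h8 <;> omega

/-- a proper power of a number of size at least 4 is not a prime power with prime exponent of a small prime -/
theorem no_pow {Q m p r : ℕ} (hp : p.Prime) (hr : r.Prime) (hp4 : p < 4) (hQ : 4 ≤ Q) (hm : 2 ≤ m) (h : Q ^ m = p ^ r) : False := by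
  have h1 : Q ∣ p ^ r := by rw [← h]; exact dvd_pow_self _ (by omega)
  obtain ⟨a, ha, rfl⟩ := (Nat.dvd_prime_pow hp).mp h1
  rw [← pow_mul] at h
  have h2 := Nat.pow_right_injective hp.two_le h
  have h3 : a ∣ r := ⟨m, h2.symm⟩
  rcases (Nat.dvd_prime hr).mp h3 with h4 | h4
  · rw [h4, pow_one] at hQ; omega
  · rw [h4] at h2
    have := hr.pos
    have : r * 2 ≤ r * m := Nat.mul_le_mul_left _ hm
    have h2 : r * m = r := h2
    omega

end CfsgLib.Dk29
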