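import Cfsg.Agent.LibDkY29

set_option autoImplicit false

/-! Subgroups of `PSL_2(q)` containing `A_4`. -/

namespace CfsgLib.Dk29

open MulAction Matrix OnePoint
open scoped MatrixGroups

theorem a4_noncomm3 : ∃ a b : alternatingGroup (Fin 4), a * a * a = 1 ∧ a ≠ 1 ∧ b * b * b = 1 ∧ b ≠ 1 ∧ a * b ≠ b * a := by decide +kernel

theorem a4_klein_el : ∃ a b : alternatingGroup (Fin 4), a * a = 1 ∧ a ≠ 1 ∧ b * b = 1 ∧ b ≠ 1 ∧ a ≠ b ∧ a * b = b * a := by decide +kernel

theorem dih_three (n : ℕ) (x : DihedralGroup n) (h : x * x * x = 1) (h1 : x ≠ 1) : ∃ i, x = DihedralGroup.r i := by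
  cases x with
  | r i => exact ⟨i, rfl⟩
  | sr i =>
    exfalso
    rw [DihedralGroup.sr_mul_sr, sub_self, DihedralGroup.r_mul_sr, DihedralGroup.one_def] at h
    exact nomatch h

theorem a4_not_dih {H : Type*} [Group H] (j : alternatingGroup (Fin 4) →* H) (hj : Function.Injective j) (n : ℕ) (e : H ≃* DihedralGroup n) : False := by
  obtain ⟨a, b, ha, ha1, hb, hb1, hab⟩ := a4_noncomm3
  have hinj : Function.Injective (e.toMonoidHom.comp j) := e.injective.comp hj
  obtain ⟨i, hi⟩ := dih_three n ((e.toMonoidHom.comp j) a) (by rw [← map_mul, ← map_mul, ha, map_one]) (fun h => ha1 (hinj (h.trans (map_one _).symm)))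
  obtain ⟨k, hk⟩ := dih_three n ((e.toMonoidHom.comp j) b) (by rw [← map_mul, ← map_mul, hb, map_one]) (fun h => hb1 (hinj (h.trans (map_one _).symm)))
  apply hab
  apply hinj
  rw [map_mul, map_mul, hi, hk, DihedralGroup.r_mul_r, DihedralGroup.r_mul_r, add_comm]

theorem a4_not_fix {F : Type*} [Field F] [Fintype F] [DecidableEq F] (hodd : Odd (Fintype.card F)) {H : Type*} [Group H] (j : alternatingGroup (Fin 4) →* H) (hj : Function.Injective j)
    (f : H →* PGL(2, F)) (hf : Function.Injective f) (x : OnePoint F) (hx : ∀ h, f h • x = x) : False := by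
  obtain ⟨a, b, ha, ha1, hb, hb1, hab, hc⟩ := a4_klein_el
  have hinj : Function.Injective (f.comp j) := hf.comp hj
  exact no_klein_fix (two_ne_zero_of_odd hodd) ((f.comp j) a) ((f.comp j) b) (by rw [← map_mul, ha, map_one]) (by rw [← map_mul, hb, map_one])
    (fun h => ha1 (hinj (h.trans (map_one _).symm))) (fun h => hb1 (hinj (h.trans (map_one _).symm))) (fun h => hab (hinj h)) (by rw [← map_mul, hc, map_mul]) x (hx _) (hx _)

theorem a4_not_cyc {H : Type*} [Group H] (j : alternatingGroup (Fin 4) →* H) (hj : Function.Injective j) (h : IsCyclic H) : False := by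
  obtain ⟨a, b, -, -, -, -, hab⟩ := a4_noncomm3
  apply hab
  apply hj
  rw [map_mul, map_mul]
  exact (IsCyclic.isMulCommutative (α := H)).is_comm.comm _ _

section
variable {F : Type*} [Field F] [Fintype F]

theorem a4_cases [DecidableEq F] (hodd : Odd (Fintype.card F)) (L : Subgroup (ProjectiveSpecialLinearGroup (Fin 2) F)) (hL : L ≠ ⊤)
    (j : alternatingGroup (Fin 4) →* L) (hj : Function.Injective j) :
    Nonempty (L ≃* alternatingGroup (Fin 4)) ∨ Nonempty (L ≃* Equiv.Perm (Fin 4)) ∨ Nonempty (L ≃* alternatingGroup (Fin 5)) ∨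
    (∃ (k : Subfield F) (m : ℕ), SubCase F (ProjectiveSpecialLinearGroup.toPGL.comp L.subtype) k m) := by
  rcases psl_cases L hL with ⟨h, -⟩ | ⟨n, hn2, hn, ⟨e⟩⟩ | ⟨x, hx⟩ | h | h | h | h
  · exact (a4_not_cyc j hj h).elim
  · exact (a4_not_dih j hj n e).elim
  · exact (a4_not_fix hodd j hj (ProjectiveSpecialLinearGroup.toPGL.comp L.subtype) (ProjectiveSpecialLinearGroup.toPGL_injective.comp L.subtype_injective) x (fun h => hx h h.2)).elim
  · exact Or.inl h
  · exact Or.inr (Or.inl h)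
  · exact Or.inr (Or.inr (Or.inl h))
  · exact Or.inr (Or.inr (Or.inr h))

theorem exists_a4 (hodd : Odd (Fintype.card F)) : ∃ j : alternatingGroup (Fin 4) →* ProjectiveSpecialLinearGroup (Fin 2) F, Function.Injective j := by
  obtain ⟨V, hV⟩ := exists_klein (F := F) hodd
  have hmod : (Fintype.card F % 8 = 3 ∨ Fintype.card F % 8 = 5) ∨ (Fintype.card F % 8 = 1 ∨ Fintype.card F % 8 = 7) := by
    have := Nat.odd_iff.mp hodd
    omega
  rcases hmod with hmod | hmod
  · obtain ⟨e⟩ := (klein_norm_iso hodd V _ hV Subgroup.le_normalizer le_rfl).1 (psl_norm_twelve hmod V hV)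
    exact ⟨(Subgroup.normalizer (V : Set (ProjectiveSpecialLinearGroup (Fin 2) F))).subtype.comp e.symm.toMonoidHom,
      (Subgroup.normalizer (V : Set (ProjectiveSpecialLinearGroup (Fin 2) F))).subtype_injective.comp e.symm.injective⟩
  · obtain ⟨e⟩ := (klein_norm_iso hodd V _ hV Subgroup.le_normalizer le_rfl).2 (psl_norm_24 hmod V hV)
    exact ⟨((Subgroup.normalizer (V : Set (ProjectiveSpecialLinearGroup (Fin 2) F))).subtype.comp e.symm.toMonoidHom).comp (alternatingGroup (Fin 4)).subtype,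
      ((Subgroup.normalizer (V : Set (ProjectiveSpecialLinearGroup (Fin 2) F))).subtype_injective.comp e.symm.injective).comp (alternatingGroup (Fin 4)).subtype_injective⟩

theorem psl_odd_card (hodd : Odd (Fintype.card F)) : 2 * Nat.card (ProjectiveSpecialLinearGroup (Fin 2) F) = Fintype.card F * ((Fintype.card F - 1) * (Fintype.card F + 1)) := by
  have h1 := card_PSL (F := F)
  have hd : Nat.gcd 2 (Fintype.card F - 1) = 2 := by obtain ⟨c, hc⟩ := hodd; rw [hc]; simp
  rwa [hd] at h1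

theorem psl_even_card' (hev : Even (Fintype.card F)) : Nat.card (ProjectiveSpecialLinearGroup (Fin 2) F) = Fintype.card F * ((Fintype.card F - 1) * (Fintype.card F + 1)) := by
  have h1 := card_PSL (F := F)
  have hq1 : 1 < Fintype.card F := Fintype.one_lt_card
  rcases gcd_cases _ hq1 with ⟨hd, -⟩ | ⟨-, hp⟩
  · rwa [hd, one_mul] at h1
  · exact absurd hev (Nat.not_even_iff_odd.mpr hp)

end

/-- numerical comparison of subfield subgroups -/
theorem sub_num (p a b m r : ℕ) (hp : p.Prime) (hb : 0 < b) (ham : a * m = b * r) (hr : r.Prime) (hm : 2 ≤ m)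
    (h : p ^ (2 * b) - 1 ∣ 2 * (p ^ (2 * a) - 1)) : a = b := by
  have hg : Nat.gcd (p ^ (2 * b) - 1) (p ^ (2 * a) - 1) = p ^ (2 * Nat.gcd b a) - 1 := by
    rw [Nat.pow_sub_one_gcd_pow_sub_one, Nat.gcd_mul_left]
  have h1 : p ^ (2 * b) - 1 ∣ 2 * (p ^ (2 * Nat.gcd b a) - 1) := by
    rw [← hg, ← Nat.gcd_mul_left]
    exact Nat.dvd_gcd (dvd_mul_left _ _) h
  obtain ⟨c, hc⟩ := Nat.gcd_dvd_left b a
  have hg0 : 0 < Nat.gcd b a := Nat.gcd_pos_of_pos_left _ hb
  have hc1 : c = 1 := by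
    by_contra hne
    have hc0 : c ≠ 0 := by rintro rfl; rw [mul_zero] at hc; omega
    have h2 : 2 * Nat.gcd b a ≤ b := by
      calc 2 * Nat.gcd b a ≤ c * Nat.gcd b a := Nat.mul_le_mul_right _ (by omega)
        _ = b := by rw [mul_comm]; exact hc.symm
    have h3 : p ^ (2 * Nat.gcd b a) ≤ p ^ b := Nat.pow_le_pow_right hp.pos h2
    have h4 : 0 < p ^ (2 * Nat.gcd b a) - 1 := by
      have h9 : p ^ 1 ≤ p ^ (2 * Nat.gcd b a) := Nat.pow_le_pow_right hp.pos (by omega)
      have h10 := hp.two_le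
      rw [pow_one] at h9
      omega
    have h5 := Nat.le_of_dvd (by omega) h1
    have h6 : p ^ (2 * b) = p ^ b * p ^ b := by rw [← pow_add]; congr 1; ring
    have h7 : 2 ≤ p ^ b := by
      calc 2 ≤ p ^ 1 := by rw [pow_one]; exact hp.two_le
        _ ≤ p ^ b := Nat.pow_le_pow_right hp.pos hb
    rw [h6] at h5
    have h8 : 2 * p ^ b ≤ p ^ b * p ^ b := Nat.mul_le_mul_right _ h7
    omega
  rw [hc1, mul_one] at hc
  have h2 : b ∣ a := by rw [hc]; exact Nat.gcd_dvd_right b a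
  obtain ⟨d, hd⟩ := h2
  rw [hd, mul_assoc] at ham
  have h3 := Nat.eq_of_mul_eq_mul_left hb ham
  have h4 : m ∣ r := ⟨d, by rw [← h3, mul_comm]⟩
  rcases (Nat.dvd_prime hr).mp h4 with h5 | h5
  · omega
  · rw [h5] at h3
    have h6 : d = 1 := by
      have := hr.pos
      exact Nat.eq_of_mul_eq_mul_right this (by rw [h3, one_mul])
    rw [hd, h6, mul_one]

theorem exp_of_pow {p Q r k m : ℕ} (hp : p.Prime) (b : ℕ) (hQ : Q = p ^ b) (h : k ^ m = Q ^ r) (hm : m ≠ 0) : ∃ a, k = p ^ a ∧ a * m = b * r := by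
  have h1 : k ∣ p ^ (b * r) := by rw [pow_mul, ← hQ, ← h]; exact dvd_pow_self _ hm
  obtain ⟨a, -, ha⟩ := (Nat.dvd_prime_pow hp).mp h1
  refine ⟨a, ha, ?_⟩
  apply Nat.pow_right_injective hp.two_le
  show p ^ (a * m) = p ^ (b * r)
  rw [pow_mul, ← ha, h, hQ, ← pow_mul]

end CfsgLib.Dk29
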