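import Cfsg.Agent.LibTwG

set_option autoImplicit false
set_option linter.unusedSectionVars false
set_option linter.unusedVariables false

/-! Verified evaluation of words in root elements modulo p -/

namespace CfsgLib.Chev

open Cfsg.Lie Matrix

/-- merging equal monomials and reducing mod p -/
def nrmP (p : ℕ) : ℕ → List (ℕ × Mon) → List (ℕ × Mon)
  | 0, L => L
  | _ + 1, [] => []
  | f + 1, q :: L =>
    (fun c : ℤ => cond (decide (c = 0)) (nrmP p f (L.filter (fun q' => !sameK q q'))) ((q.1, (c, q.2.2)) :: nrmP p f (L.filter (fun q' => !sameK q q'))))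
      ((((L.filter (sameK q)).map (fun q => q.2.1)).sum + q.2.1) % (p : ℤ))

def actWP (p : ℕ) (T : Acc) (w : List (ℕ × List Mon)) (L : List (ℕ × Mon)) : List (ℕ × Mon) :=
  w.foldr (fun x L => (fun L' => nrmP p (L'.length) L') (act T x.1 x.2 L)) L

noncomputable def chkWordsP (p : ℕ) (T : Acc) (w1 w2 : List (ℕ × List Mon)) : Bool :=
  (w1.all fun x => Nat.ble (x.1 + 1) T.n) && ((w2.all fun x => Nat.ble (x.1 + 1) T.n) &&
  allB (T.n + T.l) fun k => (fun L => (nrmP p L.length L).isEmpty) (actWP p T w1 [(k, (1, 0, 0))] ++ negL (actWP p T w2 [(k, (1, 0, 0))])))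

section
variable (D : ChevalleyDatum) {F : Type*} [Field F] (t u : F)

theorem vec_nrmP {p : ℕ} (hp : (p : F) = 0) (n : ℕ) : ∀ (f : ℕ) (L : List (ℕ × Mon)), vec D t u n (nrmP p f L) = vec D t u n L := by
  intro f
  induction f with
  | zero => intro L; rfl
  | succ f ih =>
    intro L
    cases L with
    | nil => rfl
    | cons q L =>
      rw [vec_cons, vec_filter (D := D) t u n q L]
      unfold nrmP
      have hc := cast_emod hp (((L.filter (sameK q)).map (fun q => q.2.1)).sum + q.2.1)
      set c : ℤ := (((L.filter (sameK q)).map (fun q => q.2.1)).sum + q.2.1) % (p : ℤ) with hcd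
      have e : mev t u q.2 • bV D F n q.1 = (q.2.1 : F) • ((t ^ q.2.2.1 * u ^ q.2.2.2) • bV D F n q.1) := by
        rw [smul_smul]; congr 1; unfold mev; ring
      by_cases h0 : c = 0
      · simp only [h0, decide_true, cond_true]
        rw [ih, e, ← add_assoc, ← add_smul, ← Int.cast_add]
        have : ((q.2.1 + ((L.filter (sameK q)).map (fun q => q.2.1)).sum : ℤ) : F) = 0 := by
          rw [add_comm, ← hc, h0, Int.cast_zero]
        rw [this, zero_smul, zero_add]
      · simp only [h0, decide_false, cond_false]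
        rw [vec_cons, ih, e, ← add_assoc, ← add_smul, ← Int.cast_add]
        congr 1
        have h2 : ((q.2.1 + ((L.filter (sameK q)).map (fun q => q.2.1)).sum : ℤ) : F) = (c : F) := by
          rw [add_comm, ← hc]
        rw [h2, smul_smul]
        congr 1
        unfold mev
        ring

theorem valid_nrmP {p n : ℕ} : ∀ (f : ℕ) (L : List (ℕ × Mon)), (∀ q ∈ L, q.1 < n) → ∀ q ∈ nrmP p f L, q.1 < n := by
  intro f
  induction f with
  | zero => intro L h; exact h
  | succ f ih =>
    intro L h
    cases L with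
    | nil => intro q hq; simp [nrmP] at hq
    | cons q L =>
      have h1 : ∀ q' ∈ nrmP p f (L.filter (fun q' => !sameK q q')), q'.1 < n := by
        apply ih
        intro q' hq'
        exact h q' (List.mem_cons_of_mem _ (List.mem_filter.1 hq').1)
      intro q' hq'
      unfold nrmP at hq'
      simp only at hq'
      cases hd : decide ((((L.filter (sameK q)).map (fun q => q.2.1)).sum + q.2.1) % (p : ℤ) = 0) with
      | true => rw [hd] at hq'; exact h1 q' hq'
      | false =>
        rw [hd] at hq'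
        simp only [cond_false, List.mem_cons] at hq'
        rcases hq' with rfl | hq'
        · exact h q List.mem_cons_self
        · exact h1 q' hq'

variable {D} {T : Acc}

theorem actWP_sound {p : ℕ} (hp : (p : F) = 0) (hT : Link D T) (w : List (ℕ × List Mon)) (hw : ∀ p ∈ w, p.1 < T.n)
    (L : List (ℕ × Mon)) (hL : ∀ q ∈ L, q.1 < T.n + T.l) :
    wMat D t u w *ᵥ vec D t u T.n L = vec D t u T.n (actWP p T w L) ∧
      ∀ q ∈ actWP p T w L, q.1 < T.n + T.l := by
  induction w with
  | nil => simp [wMat, actWP]; intro a b c d h; exact hL _ h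
  | cons x w ih =>
    obtain ⟨h1, h2⟩ := ih (fun q hq => hw q (by simp [hq]))
    have e : actWP p T (x :: w) L = nrmP p (act T x.1 x.2 (actWP p T w L)).length (act T x.1 x.2 (actWP p T w L)) := rfl
    have e2 : wMat D t u (x :: w) = D.x F x.1 (pev t u x.2) * wMat D t u w := by simp [wMat]
    obtain ⟨h3, h4⟩ := act_sound t u hT (hw x (by simp)) x.2 _ h2
    rw [e2, ← Matrix.mulVec_mulVec, h1, e, vec_nrmP D t u hp]
    exact ⟨h3, valid_nrmP _ _ h4⟩

theorem chkWordsP_sound {p : ℕ} (hp : (p : F) = 0) (hT : Link D T) (w1 w2 : List (ℕ × List Mon)) (h : chkWordsP p T w1 w2 = true) :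
    wMat D t u w1 = wMat D t u w2 := by
  unfold chkWordsP at h
  rw [Bool.and_eq_true, Bool.and_eq_true, allB_iff, List.all_eq_true, List.all_eq_true] at h
  obtain ⟨h1, h2, h⟩ := h
  have h1' : ∀ p ∈ w1, p.1 < T.n := fun p hp => by have := h1 p hp; rw [Nat.ble_eq] at this; omega
  have h2' : ∀ p ∈ w2, p.1 < T.n := fun p hp => by have := h2 p hp; rw [Nat.ble_eq] at this; omega
  have key : ∀ k < T.n + T.l, wMat D t u w1 *ᵥ bV D F T.n k = wMat D t u w2 *ᵥ bV D F T.n k := by
    intro k hk
    have e : bV D F T.n k = vec D t u T.n [(k, (1, 0, 0))] := by simp [vec, mev]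
    have hv : ∀ q ∈ [(k, ((1, 0, 0) : Mon))], q.1 < T.n + T.l := by simp [hk]
    rw [e, (actWP_sound t u hp hT w1 h1' _ hv).1, (actWP_sound t u hp hT w2 h2' _ hv).1]
    have h3 := h k hk
    rw [List.isEmpty_iff] at h3
    have h4 := vec_nrmP D t u hp T.n (actWP p T w1 [(k, (1, 0, 0))] ++ negL (actWP p T w2 [(k, (1, 0, 0))])).length
      (actWP p T w1 [(k, (1, 0, 0))] ++ negL (actWP p T w2 [(k, (1, 0, 0))]))
    rw [h3, vec_nil, vec_append, vec_negL] at h4
    rw [← sub_eq_zero, sub_eq_add_neg]
    exact h4.symm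
  apply ext_mat
  · intro s hs
    rw [hT.hn] at hs
    have := key s (by omega)
    rwa [bV_e hs] at this
  · intro i hi
    rw [hT.hl] at hi
    have := key (T.n + i) (by omega)
    rw [bV_h (by omega)] at this
    simpa using this

end

/-- constant words -/
def cw (w : List (ℕ × ℤ)) : List (ℕ × List Mon) := w.map fun x => (x.1, [(x.2, 0, 0)])

theorem Good3.wd_eq_of_chk {D : ChevalleyDatum} {T : Tb} (g : Good3 D T) {F : Type*} [Field F] {p : ℕ} (hp : (p : F) = 0)
    {w1 w2 : List (ℕ × ℤ)} (h : chkWordsP p T.acc (cw w1) (cw w2) = true) :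
    g.wd (w1.map fun x => (x.1, (x.2 : F))) = g.wd (w2.map fun x => (x.1, (x.2 : F))) := by
  have h1 := chkWordsP_sound (D := D) (F := F) 1 1 hp g.link _ _ h
  have e : ∀ w : List (ℕ × ℤ), wMat D (1 : F) 1 (cw w) = (g.wd (w.map fun x => (x.1, (x.2 : F))) : Matrix D.Idx D.Idx F) := by
    intro w
    rw [g.wd_val]
    unfold wMat cw ChevalleyDatum.wordMat
    rw [List.map_map, List.map_map]
    congr 1
    apply List.map_congr_left
    intro x _
    simp [pev, mev]
  rw [e, e] at h1
  exact Units.ext h1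

/-- words with one parameter -/
theorem Good3.wd_eq_of_chk2 {D : ChevalleyDatum} {T : Tb} (g : Good3 D T) {F : Type*} [Field F] {p : ℕ} (hp : (p : F) = 0) (t u : F)
    {w1 w2 : List (ℕ × List Mon)} (h : chkWordsP p T.acc w1 w2 = true) :
    g.wd (w1.map fun x => (x.1, pev t u x.2)) = g.wd (w2.map fun x => (x.1, pev t u x.2)) := by
  have h1 := chkWordsP_sound (D := D) (F := F) t u hp g.link _ _ h
  have e : ∀ w : List (ℕ × List Mon), wMat D t u w = (g.wd (w.map fun x => (x.1, pev t u x.2)) : Matrix D.Idx D.Idx F) := by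
    intro w
    rw [g.wd_val]
    unfold wMat ChevalleyDatum.wordMat
    rw [List.map_map]
    rfl
  rw [e, e] at h1
  exact Units.ext h1

end CfsgLib.Chev
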