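import Mathlib
import Cfsg.Prelude

/-! Non-abelian subgroups of order 27 of three-dimensional linear groups. -/

set_option autoImplicit false

namespace CfsgLib.Ex27

open Module
open scoped Matrix MatrixGroups

theorem grp27 {G : Type*} [Group G] (R : Subgroup G) (hR : Nat.card R = 27) (hRna : ¬ IsMulCommutative R) :
    ∃ A ∈ R, ∃ B ∈ R, A * B ≠ B * A ∧ R ≤ Subgroup.closure {A, B} ∧ ∀ h ∈ R, (A * B * A⁻¹ * B⁻¹) * h = h * (A * B * A⁻¹ * B⁻¹) := by
  classical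
  haveI : Fact (Nat.Prime 3) := ⟨Nat.prime_three⟩
  haveI : Finite R := Nat.finite_of_card_ne_zero (by rw [hR]; norm_num)
  have hp : IsPGroup 3 R := IsPGroup.of_card (n := 3) (by rw [hR]; norm_num)
  have hnt : Nontrivial R := by
    rw [← Finite.one_lt_card_iff_nontrivial, hR]; norm_num
  -- small subgroups are commutative
  have hsmall : ∀ D : Subgroup R, D ≠ ⊤ → ∀ a ∈ D, ∀ b ∈ D, a * b = b * a := by
    intro D hD a ha b hb
    have h1 : Nat.card D ∣ 3 ^ 3 := by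
      have := Subgroup.card_subgroup_dvd_card D
      rw [hR] at this
      exact this
    rw [Nat.dvd_prime_pow Nat.prime_three] at h1
    obtain ⟨k, hk, hk2⟩ := h1
    have hcom : IsMulCommutative D := by
      interval_cases k
      · rw [pow_zero] at hk2
        haveI : Subsingleton D := (Nat.card_eq_one_iff_unique.mp hk2).1
        exact ⟨⟨fun x y => Subsingleton.elim _ _⟩⟩
      · rw [pow_one] at hk2
        haveI : IsCyclic D := isCyclic_of_prime_card hk2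
        exact ⟨⟨fun x y => by
          letI := IsCyclic.commGroup (α := D)
          exact mul_comm x y⟩⟩
      · exact IsPGroup.isMulCommutative_of_card_eq_prime_sq hk2
      · exfalso
        apply hD
        apply Subgroup.eq_top_of_card_eq
        rw [hk2, hR]; norm_num
    exact congrArg Subtype.val (hcom.is_comm.comm (⟨a, ha⟩ : D) ⟨b, hb⟩)
  obtain ⟨A, B, hAB⟩ : ∃ A B : R, A * B ≠ B * A := by
    by_contra hcon
    push Not at hcon
    exact hRna ⟨⟨hcon⟩⟩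
  -- the centre
  have hz : Nat.card (Subgroup.center R) = 3 := by
    have h1 : Nat.card (Subgroup.center R) ∣ 3 ^ 3 := by
      have := Subgroup.card_subgroup_dvd_card (Subgroup.center R)
      rw [hR] at this
      exact this
    rw [Nat.dvd_prime_pow Nat.prime_three] at h1
    obtain ⟨k, hk, hk2⟩ := h1
    have hnt2 : Nontrivial (Subgroup.center R) := hp.center_nontrivial
    rw [← Finite.one_lt_card_iff_nontrivial, hk2] at hnt2
    interval_cases k
    · simp at hnt2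
    · exact hk2
    · exfalso
      have h2 := Subgroup.card_eq_card_quotient_mul_card_subgroup (Subgroup.center R)
      rw [hR, hk2] at h2
      have h3 : Nat.card (R ⧸ Subgroup.center R) = 3 := by omega
      haveI : IsCyclic (R ⧸ Subgroup.center R) := isCyclic_of_prime_card h3
      exact hAB (commutative_of_cyclic_center_quotient (QuotientGroup.mk' (Subgroup.center R)) (by rw [QuotientGroup.ker_mk']) A B)
    · exfalso
      have h3 : Subgroup.center R = ⊤ := by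
        apply Subgroup.eq_top_of_card_eq
        rw [hk2, hR]; norm_num
      have h4 : A ∈ Subgroup.center R := by rw [h3]; exact Subgroup.mem_top _
      exact hAB ((Subgroup.mem_center_iff.mp h4 B).symm)
  have hq : Nat.card (R ⧸ Subgroup.center R) = 3 ^ 2 := by
    have h2 := Subgroup.card_eq_card_quotient_mul_card_subgroup (Subgroup.center R)
    rw [hR, hz] at h2
    omega
  have hqc := IsPGroup.isMulCommutative_of_card_eq_prime_sq hq
  have hC : A * B * A⁻¹ * B⁻¹ ∈ Subgroup.center R := by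
    rw [← QuotientGroup.eq_one_iff]
    show (A : R ⧸ Subgroup.center R) * B * (A : R ⧸ Subgroup.center R)⁻¹ * (B : R ⧸ Subgroup.center R)⁻¹ = 1
    rw [hqc.is_comm.comm (A : R ⧸ Subgroup.center R) B]
    group
  refine ⟨A.1, A.2, B.1, B.2, ?_, ?_, ?_⟩
  · intro h
    exact hAB (Subtype.ext h)
  · intro g hg
    have h1 : Subgroup.closure {A, B} = ⊤ := by
      by_contra hcon
      exact hAB (hsmall _ hcon A (Subgroup.subset_closure (by simp)) B (Subgroup.subset_closure (by simp)))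
    have h2 : (⟨g, hg⟩ : R) ∈ Subgroup.closure {A, B} := by rw [h1]; exact Subgroup.mem_top _
    have h3 : Subgroup.closure {A, B} ≤ (Subgroup.closure {A.1, B.1}).comap R.subtype := by
      rw [Subgroup.closure_le]
      rintro x (rfl | rfl)
      · exact Subgroup.subset_closure (by simp)
      · exact Subgroup.subset_closure (by simp)
    exact h3 h2
  · intro h hh
    exact congrArg Subtype.val (Subgroup.mem_center_iff.mp hC ⟨h, hh⟩).symm

variable {F : Type*} [Field F]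

theorem eig3 {w : F} (hw : w ^ 2 + w + 1 = 0) (A : Matrix (Fin 3) (Fin 3) F) (hA : A ^ 3 = 1) (S : Submodule F (Fin 3 → F)) (hS : ∀ v ∈ S, A *ᵥ v ∈ S)
    (v : Fin 3 → F) (hv : v ∈ S) (hv0 : v ≠ 0) : ∃ u ∈ S, u ≠ 0 ∧ ∃ a : F, a ^ 3 = 1 ∧ A *ᵥ u = a • u := by
  have hw3 : w ^ 3 = 1 := by linear_combination (w - 1) * hw
  by_cases h1 : A *ᵥ v - w ^ 2 • v = 0
  · exact ⟨v, hv, hv0, w ^ 2, by rw [← pow_mul, mul_comm, pow_mul, hw3, one_pow], sub_eq_zero.mp h1⟩
  · obtain ⟨v1, hv1⟩ : ∃ v1, v1 = A *ᵥ v - w ^ 2 • v := ⟨_, rfl⟩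
    rw [← hv1] at h1
    have hv1S : v1 ∈ S := hv1 ▸ S.sub_mem (hS v hv) (S.smul_mem _ hv)
    by_cases h2 : A *ᵥ v1 - w • v1 = 0
    · exact ⟨v1, hv1S, h1, w, hw3, sub_eq_zero.mp h2⟩
    · refine ⟨A *ᵥ v1 - w • v1, S.sub_mem (hS _ hv1S) (S.smul_mem _ hv1S), h2, 1, one_pow 3, ?_⟩
      rw [one_smul]
      have e3 : A *ᵥ (A *ᵥ (A *ᵥ v)) = v := by
        rw [Matrix.mulVec_mulVec, Matrix.mulVec_mulVec]
        rw [show A * A * A = A ^ 3 by rw [pow_succ, pow_two], hA, Matrix.one_mulVec]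
      have e4 : A *ᵥ v1 - w • v1 = A *ᵥ (A *ᵥ v) + A *ᵥ v + v := by
        rw [hv1, Matrix.mulVec_sub, Matrix.mulVec_smul, ← sub_eq_zero]
        have : A *ᵥ (A *ᵥ v) - w ^ 2 • (A *ᵥ v) - w • (A *ᵥ v - w ^ 2 • v) - (A *ᵥ (A *ᵥ v) + A *ᵥ v + v) =
            (-(w ^ 2 + w + 1)) • (A *ᵥ v) + (w ^ 3 - 1) • v := by module
        rw [this, hw, hw3, neg_zero, zero_smul, sub_self, zero_smul, add_zero]
      rw [e4, Matrix.mulVec_add, Matrix.mulVec_add, e3]
      abel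

theorem eigC {w : F} (hw : w ^ 2 + w + 1 = 0) (C : Matrix (Fin 3) (Fin 3) F) (hC : C ^ 3 = 1) (hC1 : C ≠ 1) :
    ∃ c : F, c ^ 2 + c + 1 = 0 ∧ ∃ v : Fin 3 → F, v ≠ 0 ∧ C *ᵥ v = c • v := by
  have hw3 : w ^ 3 = 1 := by linear_combination (w - 1) * hw
  obtain ⟨u, hu⟩ : ∃ u, C *ᵥ u - u ≠ 0 := by
    by_contra hcon
    push Not at hcon
    apply hC1
    apply Matrix.toLin'.injective
    apply LinearMap.ext
    intro u
    rw [Matrix.toLin'_apply, Matrix.toLin'_apply, Matrix.one_mulVec]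
    exact sub_eq_zero.mp (hcon u)
  have e3 : C *ᵥ (C *ᵥ (C *ᵥ u)) = u := by
    rw [Matrix.mulVec_mulVec, Matrix.mulVec_mulVec]
    rw [show C * C * C = C ^ 3 by rw [pow_succ, pow_two], hC, Matrix.one_mulVec]
  obtain ⟨v, hv⟩ : ∃ v, v = C *ᵥ u - u := ⟨_, rfl⟩
  rw [← hv] at hu
  have e4 : C *ᵥ (C *ᵥ v) + C *ᵥ v + v = 0 := by
    rw [hv, Matrix.mulVec_sub, Matrix.mulVec_sub, e3]
    abel
  by_cases h1 : C *ᵥ v - w ^ 2 • v = 0
  · exact ⟨w ^ 2, by linear_combination (w ^ 2 - w + 1) * hw, v, hu, sub_eq_zero.mp h1⟩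
  · refine ⟨w, hw, _, h1, ?_⟩
    rw [Matrix.mulVec_sub, Matrix.mulVec_smul, ← sub_eq_zero]
    have : C *ᵥ (C *ᵥ v) - w ^ 2 • (C *ᵥ v) - w • (C *ᵥ v - w ^ 2 • v) =
        (C *ᵥ (C *ᵥ v) + C *ᵥ v + v) - (w ^ 2 + w + 1) • (C *ᵥ v) + (w ^ 3 - 1) • v := by module
    rw [this, e4, hw, hw3, zero_smul, sub_self, sub_self, zero_smul, add_zero]

/-- diagonal element -/
def a0 (c : F) (hc : c ^ 3 = 1) : GL (Fin 3) F :=
  ⟨Matrix.diagonal ![1, c, c ^ 2], Matrix.diagonal ![1, c ^ 2, c], by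
    rw [Matrix.diagonal_mul_diagonal, ← Matrix.diagonal_one]; congr 1; ext i; fin_cases i <;> simp [← pow_succ', ← pow_succ, hc], by
    rw [Matrix.diagonal_mul_diagonal, ← Matrix.diagonal_one]; congr 1; ext i; fin_cases i <;> simp [← pow_succ', ← pow_succ, hc]⟩

/-- permutation matrix -/
def b0 : GL (Fin 3) F :=
  ⟨!![0, 0, 1; 1, 0, 0; 0, 1, 0], !![0, 1, 0; 0, 0, 1; 1, 0, 0], by
    ext i j; fin_cases i <;> fin_cases j <;> simp [Matrix.mul_apply, Fin.sum_univ_three], by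
    ext i j; fin_cases i <;> fin_cases j <;> simp [Matrix.mul_apply, Fin.sum_univ_three]⟩

/-- negative of a transposition -/
def t0 : GL (Fin 3) F :=
  ⟨!![-1, 0, 0; 0, 0, -1; 0, -1, 0], !![-1, 0, 0; 0, 0, -1; 0, -1, 0], by
    ext i j; fin_cases i <;> fin_cases j <;> simp [Matrix.mul_apply, Fin.sum_univ_three], by
    ext i j; fin_cases i <;> fin_cases j <;> simp [Matrix.mul_apply, Fin.sum_univ_three]⟩

/-- a diagonal element normalising the group -/
def d0 (u : F) (hu : u ^ 3 = 1) : GL (Fin 3) F :=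
  ⟨Matrix.diagonal ![1, 1, u], Matrix.diagonal ![1, 1, u ^ 2], by
    rw [Matrix.diagonal_mul_diagonal, ← Matrix.diagonal_one]; congr 1; ext i; fin_cases i <;> simp [← pow_succ', ← pow_succ, hu], by
    rw [Matrix.diagonal_mul_diagonal, ← Matrix.diagonal_one]; congr 1; ext i; fin_cases i <;> simp [← pow_succ', ← pow_succ, hu]⟩

theorem t_a (c : F) (hc : c ^ 3 = 1) : t0 * a0 c hc = (a0 c hc)⁻¹ * t0 := by
  apply Units.ext
  show (!![-1, 0, 0; 0, 0, -1; 0, -1, 0] : Matrix (Fin 3) (Fin 3) F) * Matrix.diagonal ![1, c, c ^ 2] = Matrix.diagonal ![1, c ^ 2, c] * !![-1, 0, 0; 0, 0, -1; 0, -1, 0]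
  ext i j
  rw [Matrix.mul_diagonal, Matrix.diagonal_mul]
  fin_cases i <;> fin_cases j <;> simp

theorem t_b : (t0 : GL (Fin 3) F) * b0 = b0⁻¹ * t0 := by
  apply Units.ext
  show (!![-1, 0, 0; 0, 0, -1; 0, -1, 0] : Matrix (Fin 3) (Fin 3) F) * !![0, 0, 1; 1, 0, 0; 0, 1, 0] = !![0, 1, 0; 0, 0, 1; 1, 0, 0] * !![-1, 0, 0; 0, 0, -1; 0, -1, 0]
  ext i j
  fin_cases i <;> fin_cases j <;> simp [Matrix.mul_apply, Fin.sum_univ_three]

theorem d_a (c : F) (hc : c ^ 3 = 1) (u : F) (hu : u ^ 3 = 1) : d0 u hu * a0 c hc = a0 c hc * d0 u hu := by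
  apply Units.ext
  show Matrix.diagonal ![1, 1, u] * Matrix.diagonal ![1, c, c ^ 2] = Matrix.diagonal ![1, c, c ^ 2] * Matrix.diagonal ![1, 1, u]
  rw [Matrix.diagonal_mul_diagonal, Matrix.diagonal_mul_diagonal]
  congr 1; ext i; fin_cases i <;> simp [mul_comm]

theorem d_b (u : F) (hu : u ^ 3 = 1) : d0 u hu * b0 = (b0 * a0 u hu) * d0 u hu := by
  apply Units.ext
  show Matrix.diagonal ![1, 1, u] * (!![0, 0, 1; 1, 0, 0; 0, 1, 0] : Matrix (Fin 3) (Fin 3) F) = ((!![0, 0, 1; 1, 0, 0; 0, 1, 0] : Matrix (Fin 3) (Fin 3) F) * Matrix.diagonal ![1, u, u ^ 2]) * Matrix.diagonal ![1, 1, u]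
  ext i j
  rw [Matrix.mul_diagonal, Matrix.diagonal_mul, Matrix.mul_diagonal]
  fin_cases i <;> fin_cases j <;> simp [← pow_succ, hu]

theorem a_sq (c : F) (hc : c ^ 3 = 1) (hc2 : (c ^ 2) ^ 3 = 1) : a0 (c ^ 2) hc2 = a0 c hc ^ 2 := by
  apply Units.ext
  rw [Units.val_pow_eq_pow_val]
  show Matrix.diagonal ![1, c ^ 2, (c ^ 2) ^ 2] = (Matrix.diagonal ![1, c, c ^ 2]) ^ 2
  rw [pow_two (Matrix.diagonal _), Matrix.diagonal_mul_diagonal]
  congr 1; ext i; fin_cases i <;> simp <;> ring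

theorem setup3 {w : F} (hw : w ^ 2 + w + 1 = 0) (h3 : (3 : F) ≠ 0) (R : Subgroup (GL (Fin 3) F)) (hR : Nat.card R = 27) (hRe : Monoid.exponent R = 3)
    (hRna : ¬ IsMulCommutative R) :
    ∃ (P : GL (Fin 3) F) (c : F) (_ : c ^ 2 + c + 1 = 0) (hc3 : c ^ 3 = 1), P * a0 c hc3 * P⁻¹ ∈ R ∧ P * b0 * P⁻¹ ∈ R ∧
      R ≤ Subgroup.closure {P * a0 c hc3 * P⁻¹, P * b0 * P⁻¹} ∧ ∃ C ∈ R, C.1 = c • (1 : Matrix (Fin 3) (Fin 3) F) := by
  classical
  obtain ⟨A, hA, B, hB, hne, hgen, hcen⟩ := grp27 R hR hRna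
  obtain ⟨C, hC⟩ : ∃ C, C = A * B * A⁻¹ * B⁻¹ := ⟨_, rfl⟩
  rw [← hC] at hcen
  have hCR : C ∈ R := by
    rw [hC]
    exact R.mul_mem (R.mul_mem (R.mul_mem hA hB) (R.inv_mem hA)) (R.inv_mem hB)
  have hpow : ∀ g ∈ R, g ^ 3 = 1 := by
    intro g hg
    have h1 := Monoid.pow_exponent_eq_one (⟨g, hg⟩ : R)
    rw [hRe] at h1
    exact congrArg Subtype.val h1
  have hpow' : ∀ g ∈ R, g.1 ^ 3 = 1 := by
    intro g hg
    rw [← Units.val_pow_eq_pow_val, hpow g hg]; rfl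
  have hAB : A * B = C * (B * A) := by rw [hC]; group
  have hC1 : C.1 ≠ 1 := by
    intro h
    apply hne
    rw [hAB, show C = 1 from Units.ext h, one_mul]
  obtain ⟨c, hc, v0, hv0, hCv0⟩ := eigC hw C.1 (hpow' C hCR) hC1
  have hc3 : c ^ 3 = 1 := by linear_combination (c - 1) * hc
  have hcA : C.1 * A.1 = A.1 * C.1 := congrArg Units.val (hcen A hA)
  have hcB : C.1 * B.1 = B.1 * C.1 := congrArg Units.val (hcen B hB)
  have hABm : A.1 * B.1 = C.1 * (B.1 * A.1) := congrArg Units.val hAB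
  let S : Submodule F (Fin 3 → F) := LinearMap.ker (Matrix.toLin' (C.1 - c • (1 : Matrix (Fin 3) (Fin 3) F)))
  have hmS : ∀ v, v ∈ S ↔ C.1 *ᵥ v = c • v := by
    intro v
    rw [LinearMap.mem_ker, Matrix.toLin'_apply, Matrix.sub_mulVec, Matrix.smul_mulVec, Matrix.one_mulVec, sub_eq_zero]
  have hSA : ∀ v ∈ S, A.1 *ᵥ v ∈ S := by
    intro v hv
    rw [hmS] at hv ⊢
    rw [Matrix.mulVec_mulVec, hcA, ← Matrix.mulVec_mulVec, hv, Matrix.mulVec_smul]
  have hSB : ∀ v ∈ S, B.1 *ᵥ v ∈ S := by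
    intro v hv
    rw [hmS] at hv ⊢
    rw [Matrix.mulVec_mulVec, hcB, ← Matrix.mulVec_mulVec, hv, Matrix.mulVec_smul]
  obtain ⟨u, huS, hu0, a, ha3, hau⟩ := eig3 hw A.1 (hpow' A hA) S hSA v0 ((hmS v0).mpr hCv0) hv0
  have hBne : ∀ v, v ≠ 0 → B.1 *ᵥ v ≠ 0 := by
    intro v hv h
    apply hv
    have h1 : (B⁻¹).1 * B.1 = 1 := by rw [← Units.val_mul, inv_mul_cancel]; rfl
    rw [← Matrix.one_mulVec v, ← h1, ← Matrix.mulVec_mulVec, h, Matrix.mulVec_zero]
  have hstep : ∀ v ∈ S, ∀ a : F, A.1 *ᵥ v = a • v → A.1 *ᵥ (B.1 *ᵥ v) = (a * c) • (B.1 *ᵥ v) := by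
    intro v hv a h
    rw [Matrix.mulVec_mulVec, hABm, ← Matrix.mulVec_mulVec, ← Matrix.mulVec_mulVec, h, Matrix.mulVec_smul, Matrix.mulVec_smul,
      (hmS _).mp (hSB v hv), smul_smul]
  obtain ⟨v, hvS, hv0, hAv⟩ : ∃ v ∈ S, v ≠ 0 ∧ A.1 *ᵥ v = v := by
    have h1 : (a - 1) * ((a - c) * (a - c ^ 2)) = 0 := by linear_combination ha3 - (a ^ 2 - a) * hc - (1 - a) * hc3 + (a ^ 2 - a) * 0
    rcases mul_eq_zero.mp h1 with h2 | h2
    · exact ⟨u, huS, hu0, by rw [hau, sub_eq_zero.mp h2, one_smul]⟩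
    · rcases mul_eq_zero.mp h2 with h2 | h2
      · refine ⟨B.1 *ᵥ (B.1 *ᵥ u), hSB _ (hSB _ huS), hBne _ (hBne _ hu0), ?_⟩
        rw [hstep _ (hSB _ huS) _ (hstep _ huS _ hau), sub_eq_zero.mp h2]
        rw [show c * c * c = 1 by rw [← hc3]; ring, one_smul]
      · refine ⟨B.1 *ᵥ u, hSB _ huS, hBne _ hu0, ?_⟩
        rw [hstep _ huS _ hau, sub_eq_zero.mp h2]
        rw [show c ^ 2 * c = 1 by rw [← hc3]; ring, one_smul]
  have hAv' : A.1 *ᵥ v = (1 : F) • v := by rw [one_smul]; exact hAv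
  obtain ⟨v1, hv1⟩ : ∃ v1, v1 = B.1 *ᵥ v := ⟨_, rfl⟩
  obtain ⟨v2, hv2⟩ : ∃ v2, v2 = B.1 *ᵥ v1 := ⟨_, rfl⟩
  have hv1S : v1 ∈ S := hv1 ▸ hSB v hvS
  have hv2S : v2 ∈ S := hv2 ▸ hSB v1 hv1S
  have hAv1 : A.1 *ᵥ v1 = c • v1 := by
    rw [hv1, hstep v hvS 1 hAv', one_mul]
  have hAv2 : A.1 *ᵥ v2 = (c ^ 2) • v2 := by
    rw [hv2, hstep v1 hv1S c hAv1, pow_two]
  have hBv2 : B.1 *ᵥ v2 = v := by
    rw [hv2, hv1, Matrix.mulVec_mulVec, Matrix.mulVec_mulVec, show B.1 * B.1 * B.1 = B.1 ^ 3 by rw [pow_succ, pow_two], hpow' B hB, Matrix.one_mulVec]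
  have hc1 : c ≠ 1 := by
    rintro rfl
    apply h3
    linear_combination hc
  have hc21 : c ^ 2 ≠ 1 := by
    intro h
    apply hc1
    have : c * c ^ 2 = 1 := by rw [← hc3]; ring
    rwa [h, mul_one] at this
  have hc2c : c ^ 2 ≠ c := by
    intro h
    apply hc21
    have h4 : c ^ 2 * c = 1 := by rw [← hc3]; ring
    rw [h] at h4
    rw [pow_two]; exact h4
  let Pm : Matrix (Fin 3) (Fin 3) F := Matrix.of fun i j => (![v, v1, v2] : Fin 3 → (Fin 3 → F)) j i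
  have hcol : Pm.col = ![v, v1, v2] := by
    funext j i; rfl
  have hunit : IsUnit Pm := by
    rw [← Matrix.linearIndependent_cols_iff_isUnit, hcol]
    apply Module.End.eigenvectors_linearIndependent' (Matrix.toLin' A.1) ![1, c, c ^ 2]
    · intro i j hij
      fin_cases i <;> fin_cases j <;> simp at hij ⊢
      · exact hc1 hij.symm
      · exact hc21 hij.symm
      · exact hc1 hij
      · exact hc2c hij.symm
      · exact hc21 (by rcases hij with h | h <;> rw [h] <;> ring)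
      · exact hc2c hij
    · intro i
      fin_cases i
      · refine ⟨Module.End.mem_eigenspace_iff.mpr ?_, hv0⟩
        exact hAv'
      · refine ⟨Module.End.mem_eigenspace_iff.mpr ?_, ?_⟩
        · exact hAv1
        · show v1 ≠ 0
          rw [hv1]; exact hBne v hv0
      · refine ⟨Module.End.mem_eigenspace_iff.mpr ?_, ?_⟩
        · exact hAv2
        · show v2 ≠ 0
          rw [hv2, hv1]; exact hBne _ (hBne v hv0)
  obtain ⟨P, hP⟩ := hunit
  have eA : A = P * a0 c hc3 * P⁻¹ := by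
    rw [eq_mul_inv_iff_mul_eq]
    apply Units.ext
    show A.1 * P.1 = P.1 * Matrix.diagonal ![1, c, c ^ 2]
    rw [hP]
    ext i j
    rw [Matrix.mul_diagonal]
    have h4 : (A.1 * Pm) i j = (A.1 *ᵥ ((![v, v1, v2] : Fin 3 → (Fin 3 → F)) j)) i := rfl
    rw [h4]
    fin_cases j
    · show (A.1 *ᵥ v) i = v i * 1
      rw [hAv, mul_one]
    · show (A.1 *ᵥ v1) i = v1 i * c
      rw [hAv1, Pi.smul_apply, smul_eq_mul, mul_comm]
    · show (A.1 *ᵥ v2) i = v2 i * c ^ 2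
      rw [hAv2, Pi.smul_apply, smul_eq_mul, mul_comm]
  have eB : B = P * b0 * P⁻¹ := by
    rw [eq_mul_inv_iff_mul_eq]
    apply Units.ext
    show B.1 * P.1 = P.1 * !![0, 0, 1; 1, 0, 0; 0, 1, 0]
    rw [hP]
    ext i j
    have h4 : (B.1 * Pm) i j = (B.1 *ᵥ ((![v, v1, v2] : Fin 3 → (Fin 3 → F)) j)) i := rfl
    rw [h4, Matrix.mul_apply, Fin.sum_univ_three]
    have p0 : Pm i 0 = v i := rfl
    have p1 : Pm i 1 = v1 i := rfl
    have p2 : Pm i 2 = v2 i := rfl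
    rw [p0, p1, p2]
    fin_cases j
    · show (B.1 *ᵥ v) i = _
      rw [← hv1]; simp
    · show (B.1 *ᵥ v1) i = _
      rw [← hv2]; simp
    · show (B.1 *ᵥ v2) i = _
      rw [hBv2]; simp
  have eC : C.1 = c • (1 : Matrix (Fin 3) (Fin 3) F) := by
    have h5 : C.1 * P.1 = c • P.1 := by
      rw [hP]
      ext i j
      have h4 : (C.1 * Pm) i j = (C.1 *ᵥ ((![v, v1, v2] : Fin 3 → (Fin 3 → F)) j)) i := rfl
      rw [h4]
      fin_cases j
      · show (C.1 *ᵥ v) i = c * v i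
        rw [(hmS v).mp hvS]; rfl
      · show (C.1 *ᵥ v1) i = c * v1 i
        rw [(hmS v1).mp hv1S]; rfl
      · show (C.1 *ᵥ v2) i = c * v2 i
        rw [(hmS v2).mp hv2S]; rfl
    have h6 : P.1 * (P⁻¹).1 = 1 := by rw [← Units.val_mul, mul_inv_cancel]; rfl
    calc C.1 = C.1 * P.1 * (P⁻¹).1 := by rw [mul_assoc, h6, mul_one]
      _ = c • (1 : Matrix (Fin 3) (Fin 3) F) := by rw [h5, Matrix.smul_mul, h6]
  refine ⟨P, c, hc, hc3, eA ▸ hA, eB ▸ hB, ?_, C, hCR, eC⟩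
  rw [← eA, ← eB]
  exact hgen

open Polynomial in
/-- involutions -/
theorem inv3 (x : Matrix (Fin 3) (Fin 3) F) (hdet : x.det = 1) (hx : x ^ 2 = 1)
    (hns : ∀ z : F, x ≠ z • (1 : Matrix (Fin 3) (Fin 3) F)) : x.charpoly = (X ^ 2 - 1) * (X + 1) := by
  classical
  set m := minpoly F x with hm
  have hint : IsIntegral F x := Algebra.IsIntegral.isIntegral x
  have hmon : m.Monic := minpoly.monic hint
  have hdvd1 : m ∣ X ^ 2 - 1 := by
    apply minpoly.dvd
    rw [map_sub, map_pow, aeval_X, map_one, hx, sub_self]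
  have hdvd2 : m ∣ x.charpoly := Matrix.minpoly_dvd_charpoly x
  have hm3 : (X ^ 2 - 1 : F[X]).Monic := by
    rw [← C_1]; exact monic_X_pow_sub_C 1 (by omega)
  have hn3 : (X ^ 2 - 1 : F[X]).natDegree = 2 := by
    rw [← C_1, natDegree_X_pow_sub_C]
  have hcn : x.charpoly.natDegree = 3 := by rw [Matrix.charpoly_natDegree_eq_dim, Fintype.card_fin]
  have hcm := Matrix.charpoly_monic x
  have h0 : 2 ≤ m.natDegree := by
    by_contra hcon
    have h1 : m.natDegree = 0 ∨ m.natDegree = 1 := by omega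
    rcases h1 with h1 | h1
    · exact absurd h1 (minpoly.natDegree_pos hint).ne'
    · obtain ⟨c, hc⟩ := minpoly.natDegree_eq_one_iff.mp h1
      apply hns c
      rw [← hc, Algebra.algebraMap_eq_smul_one]
  have e1 : X ^ 2 - 1 = m := Polynomial.eq_of_monic_of_dvd_of_natDegree_le hmon hm3 hdvd1 (by omega)
  rw [← e1] at hdvd2
  obtain ⟨t, ht⟩ := hdvd2
  have htm : t.Monic := hm3.of_mul_monic_left (by rw [← ht]; exact hcm)
  have htn : t.natDegree = 1 := by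
    have h4 := hm3.natDegree_mul htm
    rw [← ht, hcn, hn3] at h4; omega
  have ht1 : t = X + C (t.coeff 0) := htm.eq_X_add_C htn
  have e4 := Matrix.det_eq_sign_charpoly_coeff x
  rw [hdet, Fintype.card_fin, ht, mul_coeff_zero] at e4
  have e5 : t.coeff 0 = 1 := by
    simp at e4
    linear_combination -e4
  rw [ht, ht1, e5, C_1]

open Polynomial in
/-- elements of order three of determinant different from one -/
theorem ord3 {δ : F} (hδ : δ ^ 2 + δ + 1 = 0) (h3 : (3 : F) ≠ 0) (x : Matrix (Fin 3) (Fin 3) F) (hdet : x.det = δ) (hx : x ^ 3 = 1)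
    (hns : ∀ z : F, x ≠ z • (1 : Matrix (Fin 3) (Fin 3) F)) :
    ∃ a : F, a ^ 3 = 1 ∧ x.charpoly = (X - C (a * δ)) * ((X - C (a * δ)) * (X - C (a * δ * δ))) := by
  classical
  have hδ3 : δ ^ 3 = 1 := by linear_combination (δ - 1) * hδ
  have hδ1 : δ ≠ 1 := by
    rintro rfl
    apply h3
    linear_combination hδ
  set m := minpoly F x with hm
  have hint : IsIntegral F x := Algebra.IsIntegral.isIntegral x
  have hmon : m.Monic := minpoly.monic hint
  have hdvd1 : m ∣ X ^ 3 - 1 := by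
    apply minpoly.dvd
    rw [map_sub, map_pow, aeval_X, map_one, hx, sub_self]
  have hdvd2 : m ∣ x.charpoly := Matrix.minpoly_dvd_charpoly x
  have hm3 : (X ^ 3 - 1 : F[X]).Monic := by
    rw [← C_1]; exact monic_X_pow_sub_C 1 (by omega)
  have hn3 : (X ^ 3 - 1 : F[X]).natDegree = 3 := by
    rw [← C_1, natDegree_X_pow_sub_C]
  have hcn : x.charpoly.natDegree = 3 := by rw [Matrix.charpoly_natDegree_eq_dim, Fintype.card_fin]
  have hcm := Matrix.charpoly_monic x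
  have hdet' := Matrix.det_eq_sign_charpoly_coeff x
  rw [hdet, Fintype.card_fin] at hdet'
  have hle : m.natDegree ≤ 3 := by
    have := natDegree_le_of_dvd hdvd1 hm3.ne_zero
    rwa [hn3] at this
  have h0 : 2 ≤ m.natDegree := by
    by_contra hcon
    have h1 : m.natDegree = 0 ∨ m.natDegree = 1 := by omega
    rcases h1 with h1 | h1
    · exact absurd h1 (minpoly.natDegree_pos hint).ne'
    · obtain ⟨c, hc⟩ := minpoly.natDegree_eq_one_iff.mp h1
      apply hns c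
      rw [← hc, Algebra.algebraMap_eq_smul_one]
  have h2' : m.natDegree = 2 := by
    by_contra hcon
    have e1 : X ^ 3 - 1 = m := Polynomial.eq_of_monic_of_dvd_of_natDegree_le hmon hm3 hdvd1 (by omega)
    have e2 : x.charpoly = m := Polynomial.eq_of_monic_of_dvd_of_natDegree_le hmon hcm hdvd2 (by omega)
    rw [e2, ← e1] at hdet'
    simp at hdet'
    apply hδ1
    rw [hdet']; ring
  obtain ⟨s, hs⟩ := hdvd1
  obtain ⟨t, ht⟩ := hdvd2
  have hsm : s.Monic := hmon.of_mul_monic_left (by rw [← hs]; exact hm3)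
  have htm : t.Monic := hmon.of_mul_monic_left (by rw [← ht]; exact hcm)
  have hsn : s.natDegree = 1 := by
    have h4 := hmon.natDegree_mul hsm
    rw [← hs, hn3, h2'] at h4; omega
  have htn : t.natDegree = 1 := by
    have h4 := hmon.natDegree_mul htm
    rw [← ht, hcn, h2'] at h4; omega
  obtain ⟨a, ha⟩ : ∃ a, a = -s.coeff 0 := ⟨_, rfl⟩
  have hs1 : s = X - C a := by
    have h5 : s = X + C (s.coeff 0) := hsm.eq_X_add_C hsn
    rw [ha, C_neg, sub_neg_eq_add]; exact h5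
  have ht1 : t = X + C (t.coeff 0) := htm.eq_X_add_C htn
  have ha3 : a ^ 3 = 1 := by
    have h5 := congrArg (eval a) hs
    rw [hs1, eval_mul, eval_sub, eval_sub, eval_pow, eval_X, eval_one, eval_C, sub_self, mul_zero] at h5
    exact sub_eq_zero.mp h5
  have hm1 : m = (X ^ 2 + C a * X + C (a ^ 2)) := by
    have h5 : m * (X - C a) = (X ^ 2 + C a * X + C (a ^ 2)) * (X - C a) := by
      rw [← hs1, ← hs, hs1]
      have h6 : (X ^ 2 + C a * X + C (a ^ 2)) * (X - C a) = (X ^ 3 - C (a ^ 3) : F[X]) := by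
        rw [C_pow, C_pow]; ring
      rw [h6, ha3, C_1]
    exact mul_right_cancel₀ (X_sub_C_ne_zero a) h5
  have hm0 : (X ^ 2 + C a * X + C (a ^ 2) : F[X]).coeff 0 = a ^ 2 := by
    rw [coeff_zero_eq_eval_zero]; simp
  rw [ht, mul_coeff_zero, hm1, hm0] at hdet'
  have ht0 : t.coeff 0 = -(a * δ) := by
    have h5 : a ^ 2 * t.coeff 0 = -δ := by linear_combination hdet'
    have h6 : a * (a ^ 2 * t.coeff 0) = t.coeff 0 := by
      calc a * (a ^ 2 * t.coeff 0) = a ^ 3 * t.coeff 0 := by ring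
        _ = t.coeff 0 := by rw [ha3, one_mul]
    rw [← h6, h5]; ring
  refine ⟨a, ha3, ?_⟩
  rw [ht, ht1, ht0, hm1]
  have e7 : (X ^ 2 + C a * X + C (a ^ 2) : F[X]) = (X - C (a * δ)) * (X - C (a * δ * δ)) := by
    have h8 : (X - C (a * δ)) * (X - C (a * δ * δ)) = X ^ 2 - C (a * δ + a * δ * δ) * X + C (a * δ * (a * δ * δ)) := by
      rw [C_add, C_mul (a := a * δ) (b := a * δ * δ)]; ring
    rw [h8, show a * δ + a * δ * δ = -a by linear_combination a * hδ, show a * δ * (a * δ * δ) = a ^ 2 by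
      linear_combination a ^ 2 * hδ3, C_neg]
    ring
  rw [e7, C_neg]
  ring

end CfsgLib.Ex27
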