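import Mathlib
import Cfsg.Agent.LibSolvFrat

/-! groups with a central subgroup of order `p` and elementary abelian quotient: form data and
the isomorphism criterion -/

set_option autoImplicit false
set_option linter.all false
open scoped commutatorElement

namespace CfsgLib.ExForm

open CfsgLib.SolvFrat CfsgLib.SolvBasic

universe u v w x

/-- commutator form and power map on `V = E / ⟨z⟩` -/
structure FormData (p : ℕ) (E : Type u) [Group E] (V : Type v) [AddCommGroup V]
    [Module (ZMod p) V] where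
  π : E → V
  z : E
  B : LinearMap.BilinForm (ZMod p) V
  Q : V → ZMod p
  mul : ∀ x y, π (x * y) = π x + π y
  surj : Function.Surjective π
  ker : ∀ x, π x = 0 ↔ x ∈ Subgroup.zpowers z
  ord : orderOf z = p
  central : ∀ x, z * x = x * z
  comm : ∀ x y, x * y * x⁻¹ * y⁻¹ = z ^ (B (π x) (π y)).val
  pow : ∀ x, x ^ p = z ^ (Q (π x)).val

theorem pow_val_add {p : ℕ} [hp : Fact p.Prime] {E : Type u} [Group E] {z : E} (hz : orderOf z = p)
    (a b : ZMod p) : z ^ (a + b).val = z ^ a.val * z ^ b.val := by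
  rw [← pow_add, ZMod.val_add]
  conv_rhs => rw [← pow_mod_orderOf, hz]

theorem pow_val_inj {p : ℕ} [hp : Fact p.Prime] {E : Type u} [Group E] {z : E} (hz : orderOf z = p)
    {a b : ZMod p} (h : z ^ a.val = z ^ b.val) : a = b := by
  have h1 : a.val < orderOf z := by rw [hz]; exact ZMod.val_lt a
  have h2 : b.val < orderOf z := by rw [hz]; exact ZMod.val_lt b
  exact ZMod.val_injective p (pow_injOn_Iio_orderOf h1 h2 h)

theorem exists_pow_val {p : ℕ} [hp : Fact p.Prime] {E : Type u} [Group E] {z : E}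
    (hz : orderOf z = p) {x : E} (hx : x ∈ Subgroup.zpowers z) : ∃ a : ZMod p, x = z ^ a.val := by
  obtain ⟨k, rfl⟩ := Subgroup.mem_zpowers_iff.mp hx
  refine ⟨(k : ZMod p), ?_⟩
  rw [← zpow_natCast, ZMod.val_intCast, ← zpow_mod_orderOf, hz]

namespace FormData

variable {p : ℕ} [hp : Fact p.Prime] {E : Type u} [Group E] {V : Type v} [AddCommGroup V]
  [Module (ZMod p) V]

theorem one (D : FormData p E V) : D.π 1 = 0 := by
  have := D.mul 1 1
  rw [one_mul] at this
  exact left_eq_add.mp this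

theorem inv (D : FormData p E V) (x : E) : D.π x⁻¹ = - D.π x := by
  have := D.mul x x⁻¹
  rw [mul_inv_cancel, D.one] at this
  exact (neg_eq_of_add_eq_zero_right this.symm).symm

theorem alt (D : FormData p E V) : D.B.IsAlt := by
  intro v
  obtain ⟨x, hx⟩ := D.surj v
  have h := D.comm x x
  rw [hx] at h
  have h1 : x * x * x⁻¹ * x⁻¹ = 1 := by group
  rw [h1] at h
  apply pow_val_inj D.ord
  rw [ZMod.val_zero, pow_zero]
  exact h.symm

theorem z_pow (D : FormData p E V) : D.z ^ p = 1 := orderOf_dvd_iff_pow_eq_one.mp D.ord.dvd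

theorem commute_pow (D : FormData p E V) (x : E) (n : ℕ) : D.z ^ n * x = x * D.z ^ n :=
  (show Commute D.z x from D.central x).pow_left n

/-- the isomorphism criterion -/
theorem exists_equiv {E' : Type w} [Group E'] [Finite E] [Finite E'] {V' : Type x}
    [AddCommGroup V'] [Module (ZMod p) V'] (D : FormData p E V) (D' : FormData p E' V')
    (φ : V ≃ₗ[ZMod p] V') (hB : ∀ v w, D'.B (φ v) (φ w) = D.B v w)
    (hQ : ∀ v, D'.Q (φ v) = D.Q v) :
    ∃ e : E ≃* E', (∀ x, D'.π (e x) = φ (D.π x)) ∧ e D.z = D'.z := by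
  -- the fibre product
  let Dp : Subgroup (E × E') :=
    { carrier := {q | D'.π q.2 = φ (D.π q.1)}
      one_mem' := by
        change D'.π 1 = φ (D.π 1)
        rw [D.one, D'.one, map_zero]
      mul_mem' := by
        intro a b ha hb
        change D'.π (a.2 * b.2) = φ (D.π (a.1 * b.1))
        have ha' : D'.π a.2 = φ (D.π a.1) := ha
        have hb' : D'.π b.2 = φ (D.π b.1) := hb
        rw [D.mul, D'.mul, map_add, ha', hb']
      inv_mem' := by
        intro a ha
        change D'.π (a.2⁻¹) = φ (D.π (a.1⁻¹))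
        have ha' : D'.π a.2 = φ (D.π a.1) := ha
        rw [D.inv, D'.inv, map_neg, ha'] }
  have hDp : ∀ q : E × E', q ∈ Dp ↔ D'.π q.2 = φ (D.π q.1) := fun q => Iff.rfl
  have hπz : D.π D.z = 0 := (D.ker _).mpr (Subgroup.mem_zpowers _)
  have hπz' : D'.π D'.z = 0 := (D'.ker _).mpr (Subgroup.mem_zpowers _)
  have hzD : (D.z, D'.z) ∈ Dp := by
    rw [hDp]
    change D'.π D'.z = φ (D.π D.z)
    rw [hπz, hπz', map_zero]
  have h1z : ((1 : E), D'.z) ∈ Dp := by
    rw [hDp]
    change D'.π D'.z = φ (D.π 1)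
    rw [hπz', D.one, map_zero]
  let δ : Dp := ⟨(D.z, D'.z), hzD⟩
  let ζ : Dp := ⟨((1 : E), D'.z), h1z⟩
  have hδc : ∀ q : Dp, δ * q = q * δ := by
    intro q
    apply Subtype.ext
    exact Prod.ext (D.central _) (D'.central _)
  have hζc : ∀ q : Dp, ζ * q = q * ζ := by
    intro q
    apply Subtype.ext
    exact Prod.ext (by change 1 * _ = _ * 1; rw [one_mul, mul_one]) (D'.central _)
  let Δ : Subgroup Dp := Subgroup.zpowers δ
  have hΔn : Δ.Normal := by
    constructor
    intro n hn g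
    obtain ⟨k, rfl⟩ := Subgroup.mem_zpowers_iff.mp hn
    have h1 : g * δ ^ k * g⁻¹ = δ ^ k := by
      have : Commute (δ ^ k) g := (show Commute δ g from hδc g).zpow_left k
      rw [← this.eq, mul_inv_cancel_right]
    rw [h1]; exact hn
  have hcomm : ∀ a b : Dp, a * b * a⁻¹ * b⁻¹ ∈ Δ := by
    intro a b
    have h1 : a * b * a⁻¹ * b⁻¹ =
        δ ^ (D.B (D.π (a : E × E').1) (D.π (b : E × E').1)).val := by
      apply Subtype.ext
      refine Prod.ext (D.comm _ _) ?_
      have h2 := D'.comm (a : E × E').2 (b : E × E').2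
      have ha := (hDp _).mp a.2
      have hb := (hDp _).mp b.2
      rw [ha, hb, hB] at h2
      exact h2
    rw [h1]
    exact pow_mem (Subgroup.mem_zpowers δ) _
  have hpow : ∀ a : Dp, a ^ p ∈ Δ := by
    intro a
    have h1 : a ^ p = δ ^ (D.Q (D.π (a : E × E').1)).val := by
      apply Subtype.ext
      refine Prod.ext (D.pow _) ?_
      have h2 := D'.pow (a : E × E').2
      have ha := (hDp _).mp a.2
      rw [ha, hQ] at h2
      exact h2
    rw [h1]
    exact pow_mem (Subgroup.mem_zpowers δ) _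
  letI : CommGroup (Dp ⧸ Δ) := { (inferInstance : Group (Dp ⧸ Δ)) with
    mul_comm := by
      intro a b
      obtain ⟨x, rfl⟩ := QuotientGroup.mk'_surjective Δ a
      obtain ⟨y, rfl⟩ := QuotientGroup.mk'_surjective Δ b
      rw [← commutatorElement_eq_one_iff_mul_comm, ← map_commutatorElement]
      exact (QuotientGroup.eq_one_iff _).mpr (hcomm x y) }
  have hζΔ : QuotientGroup.mk' Δ ζ ≠ 1 := by
    intro h
    have h1 : ζ ∈ Δ := (QuotientGroup.eq_one_iff _).mp h
    obtain ⟨k, hk⟩ := Subgroup.mem_zpowers_iff.mp h1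
    have h2 : D.z ^ k = 1 := congrArg (fun q : Dp => (q : E × E').1) hk
    have h3 : D'.z ^ k = D'.z := congrArg (fun q : Dp => (q : E × E').2) hk
    have h4 : (p : ℤ) ∣ k := by rw [← D.ord]; exact orderOf_dvd_iff_zpow_eq_one.mpr h2
    obtain ⟨m, rfl⟩ := h4
    rw [zpow_mul, zpow_natCast] at h3
    have h5 : D'.z ^ p = 1 := D'.z_pow
    rw [h5, one_zpow] at h3
    have h6 := D'.ord
    rw [← h3, orderOf_one] at h6
    exact hp.out.one_lt.ne h6
  obtain ⟨M, hM, hζM⟩ := exists_coatom_not_mem (Q := Dp ⧸ Δ) hp.out (by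
    intro q
    obtain ⟨x, rfl⟩ := QuotientGroup.mk'_surjective Δ q
    rw [← map_pow]
    exact (QuotientGroup.eq_one_iff _).mpr (hpow x)) (QuotientGroup.mk' Δ ζ) hζΔ
  -- the graph
  let Γ : Subgroup Dp := M.comap (QuotientGroup.mk' Δ)
  have hΔΓ : Δ ≤ Γ := by
    intro x hx
    rw [Subgroup.mem_comap]
    have : QuotientGroup.mk' Δ x = 1 := (QuotientGroup.eq_one_iff _).mpr hx
    rw [this]; exact one_mem _
  have hζΓ : ζ ∉ Γ := hζM
  have hδΓ : δ ∈ Γ := hΔΓ (Subgroup.mem_zpowers δ)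
  have hζp : ζ ^ p = 1 := by
    apply Subtype.ext
    refine Prod.ext ?_ ?_
    · change (1 : E) ^ p = 1; rw [one_pow]
    · change D'.z ^ p = 1; exact D'.z_pow
  -- powers of ζ in Γ are trivial
  have hζk : ∀ k : ℤ, ζ ^ k ∈ Γ → (p : ℤ) ∣ k := by
    intro k hk
    by_contra hnd
    have h1 : IsCoprime (p : ℤ) k := by
      rw [Int.isCoprime_iff_gcd_eq_one, Int.gcd_comm, Int.gcd_eq_natAbs, Int.natAbs_natCast]
      rw [← Nat.coprime_iff_gcd_eq_one, Nat.coprime_comm, Nat.Prime.coprime_iff_not_dvd hp.out]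
      intro h2; exact hnd (Int.natCast_dvd.mpr h2)
    obtain ⟨a, b, hab⟩ := h1
    apply hζΓ
    have h2 : ζ = (ζ ^ p) ^ a * (ζ ^ k) ^ b := by
      rw [← zpow_natCast, ← zpow_mul, ← zpow_mul, ← zpow_add]
      have : (p : ℤ) * a + k * b = 1 := by rw [← hab]; ring
      rw [this, zpow_one]
    rw [h2, hζp, one_zpow, one_mul]
    exact zpow_mem hk b
  have hsup : ∀ d : Dp, ∃ k : ℤ, d * ζ ^ k ∈ Γ := by
    intro d
    have h1 : M ⊔ Subgroup.zpowers (QuotientGroup.mk' Δ ζ) = ⊤ := by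
      apply hM.2
      refine lt_of_le_of_ne le_sup_left (fun h => hζM ?_)
      rw [h]; exact (le_sup_right : Subgroup.zpowers _ ≤ _) (Subgroup.mem_zpowers _)
    have h2 : QuotientGroup.mk' Δ d ∈ M ⊔ Subgroup.zpowers (QuotientGroup.mk' Δ ζ) := by
      rw [h1]; trivial
    rw [Subgroup.mem_sup] at h2
    obtain ⟨m, hm, y, hy, hmy⟩ := h2
    obtain ⟨k, rfl⟩ := Subgroup.mem_zpowers_iff.mp hy
    refine ⟨-k, ?_⟩
    change QuotientGroup.mk' Δ (d * ζ ^ (-k)) ∈ M
    rw [map_mul, map_zpow, ← hmy, zpow_neg, mul_inv_cancel_right]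
    exact hm
  let p₁ : Γ →* E := (MonoidHom.fst E E').comp (Dp.subtype.comp Γ.subtype)
  let p₂ : Γ →* E' := (MonoidHom.snd E E').comp (Dp.subtype.comp Γ.subtype)
  have hp₁ : ∀ g : Γ, p₁ g = ((g : Dp) : E × E').1 := fun _ => rfl
  have hp₂ : ∀ g : Γ, p₂ g = ((g : Dp) : E × E').2 := fun _ => rfl
  have hinj₁ : Function.Injective p₁ := by
    rw [injective_iff_map_eq_one]
    intro g hg
    rw [hp₁] at hg
    have h1 := (hDp _).mp (g : Dp).2
    rw [hg, D.one, map_zero] at h1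
    have h2 : D'.π ((g : Dp) : E × E').2 = 0 := h1
    obtain ⟨k, hk⟩ := Subgroup.mem_zpowers_iff.mp ((D'.ker _).mp h2)
    have h3 : (g : Dp) = ζ ^ k := by
      apply Subtype.ext
      refine Prod.ext ?_ ?_
      · rw [hg]; change 1 = (1 : E) ^ k; rw [one_zpow]
      · rw [← hk]; rfl
    have h4 := hζk k (h3 ▸ g.2)
    obtain ⟨m, rfl⟩ := h4
    apply Subtype.ext
    rw [h3, zpow_mul, zpow_natCast, hζp, one_zpow]
    rfl
  have hsurj₁ : Function.Surjective p₁ := by
    intro x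
    obtain ⟨y, hy⟩ := D'.surj (φ (D.π x))
    have h1 : (x, y) ∈ Dp := by rw [hDp]; exact hy
    obtain ⟨k, hk⟩ := hsup ⟨(x, y), h1⟩
    refine ⟨⟨_, hk⟩, ?_⟩
    change x * (1 : E) ^ k = x
    rw [one_zpow, mul_one]
  have hinj₂ : Function.Injective p₂ := by
    rw [injective_iff_map_eq_one]
    intro g hg
    rw [hp₂] at hg
    have h1 := (hDp _).mp (g : Dp).2
    rw [hg, D'.one] at h1
    have h2 : D.π ((g : Dp) : E × E').1 = 0 := (φ.map_eq_zero_iff).mp h1.symm
    obtain ⟨k, hk⟩ := Subgroup.mem_zpowers_iff.mp ((D.ker _).mp h2)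
    have h3 : (g : Dp) = δ ^ k * ζ ^ (-k) := by
      apply Subtype.ext
      refine Prod.ext ?_ ?_
      · rw [← hk]; change D.z ^ k = D.z ^ k * (1 : E) ^ (-k); rw [one_zpow, mul_one]
      · rw [hg]; change 1 = D'.z ^ k * D'.z ^ (-k); rw [← zpow_add, add_neg_cancel, zpow_zero]
    have h4 : ζ ^ (-k) ∈ Γ := by
      have h5 : ζ ^ (-k) = (δ ^ k)⁻¹ * g := by rw [h3, inv_mul_cancel_left]
      rw [h5]
      exact mul_mem (inv_mem (zpow_mem hδΓ k)) g.2
    have h5 := hζk _ h4
    rw [dvd_neg] at h5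
    obtain ⟨m, rfl⟩ := h5
    apply Subtype.ext
    have hδp : δ ^ p = 1 := by
      apply Subtype.ext
      refine Prod.ext ?_ ?_
      · change D.z ^ p = 1; exact D.z_pow
      · change D'.z ^ p = 1; exact D'.z_pow
    rw [h3, ← mul_neg, zpow_mul, zpow_mul, zpow_natCast, zpow_natCast, hζp, hδp, one_zpow,
      one_zpow, one_mul]
    rfl
  have hsurj₂ : Function.Surjective p₂ := by
    intro y
    obtain ⟨x, hx⟩ := D.surj (φ.symm (D'.π y))
    have h1 : (x, y) ∈ Dp := by
      rw [hDp]; change D'.π y = φ (D.π x)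
      rw [hx, φ.apply_symm_apply]
    obtain ⟨k, hk⟩ := hsup ⟨(x, y), h1⟩
    -- multiply by a power of δ
    have h2 : (⟨(x, y), h1⟩ : Dp) * ζ ^ k * δ ^ (-k) ∈ Γ := mul_mem hk (zpow_mem hδΓ _)
    refine ⟨⟨_, h2⟩, ?_⟩
    change y * D'.z ^ k * D'.z ^ (-k) = y
    rw [mul_assoc, ← zpow_add, add_neg_cancel, zpow_zero, mul_one]
  let e₁ : Γ ≃* E := MulEquiv.ofBijective p₁ ⟨hinj₁, hsurj₁⟩
  let e₂ : Γ ≃* E' := MulEquiv.ofBijective p₂ ⟨hinj₂, hsurj₂⟩
  refine ⟨e₁.symm.trans e₂, ?_, ?_⟩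
  · intro x
    obtain ⟨g, rfl⟩ := e₁.surjective x
    rw [MulEquiv.trans_apply, e₁.symm_apply_apply]
    exact (hDp _).mp (g : Dp).2
  · rw [MulEquiv.trans_apply]
    have h1 : e₁ ⟨δ, hδΓ⟩ = D.z := rfl
    rw [← h1, e₁.symm_apply_apply]
    rfl

theorem card_eq (D : FormData p E V) : Nat.card E = p * Nat.card V := by
  let f : E →* Multiplicative V := MonoidHom.mk' (fun x => Multiplicative.ofAdd (D.π x))
    (fun x y => by rw [D.mul]; rfl)
  have hf : Function.Surjective f := fun v => by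
    obtain ⟨x, hx⟩ := D.surj v.toAdd
    exact ⟨x, congrArg Multiplicative.ofAdd hx⟩
  have hk : f.ker = Subgroup.zpowers D.z := by
    ext x
    rw [MonoidHom.mem_ker, ← D.ker]
    exact Iff.rfl
  have h1 := f.ker.card_mul_index
  rw [Subgroup.index_ker, MonoidHom.range_eq_top.mpr hf, Subgroup.card_top, hk, Nat.card_zpowers,
    D.ord] at h1
  exact h1.symm

end FormData

section construct

variable {p : ℕ} [hp : Fact p.Prime] {E : Type u} [Group E]

/-- additive maps give bilinear forms -/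
noncomputable def bilinOf {V : Type v} [AddCommGroup V] [Module (ZMod p) V] (b : V → V → ZMod p)
    (h1 : ∀ x y z, b (x + y) z = b x z + b y z) (h2 : ∀ x y z, b x (y + z) = b x y + b x z) :
    LinearMap.BilinForm (ZMod p) V :=
  LinearMap.mk₂ (ZMod p) b h1
    (fun c x z => ZMod.map_smul (AddMonoidHom.mk' (fun x => b x z) (fun x y => h1 x y z)) c x)
    h2
    (fun c x z => ZMod.map_smul (AddMonoidHom.mk' (fun z => b x z) (fun y z => h2 x y z)) c z)

theorem bilinOf_apply {V : Type v} [AddCommGroup V] [Module (ZMod p) V] (b : V → V → ZMod p)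
    (h1 : ∀ x y z, b (x + y) z = b x z + b y z) (h2 : ∀ x y z, b x (y + z) = b x y + b x z)
    (x y : V) : bilinOf b h1 h2 x y = b x y := rfl

/-- existence of form data -/
theorem exists_formData [Finite E] (z : E) (hz : orderOf z = p) (hzc : ∀ x, z * x = x * z)
    (hcomm : ∀ x y : E, x * y * x⁻¹ * y⁻¹ ∈ Subgroup.zpowers z)
    (hpow : ∀ x : E, x ^ p ∈ Subgroup.zpowers z) :
    ∃ (V : Type u) (_ : AddCommGroup V) (_ : Module (ZMod p) V) (_ : Finite V)
      (D : FormData p E V), D.z = z := by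
  have hZn : (Subgroup.zpowers z).Normal := by
    constructor
    intro n hn g
    obtain ⟨k, rfl⟩ := Subgroup.mem_zpowers_iff.mp hn
    have h1 : g * z ^ k * g⁻¹ = z ^ k := by
      have : Commute (z ^ k) g := (show Commute z g from hzc g).zpow_left k
      rw [← this.eq, mul_inv_cancel_right]
    rw [h1]; exact hn
  obtain ⟨Z, hZ⟩ : ∃ Z, Z = Subgroup.zpowers z := ⟨_, rfl⟩
  rw [← hZ] at hZn hcomm hpow
  have hZc : ∀ w ∈ Z, ∀ x, w * x = x * w := by
    intro w hw x
    rw [hZ] at hw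
    obtain ⟨k, rfl⟩ := Subgroup.mem_zpowers_iff.mp hw
    exact (show Commute z x from hzc x).zpow_left k
  letI hcg : CommGroup (E ⧸ Z) := { (inferInstance : Group (E ⧸ Z)) with
    mul_comm := by
      intro a b
      obtain ⟨x, rfl⟩ := QuotientGroup.mk'_surjective Z a
      obtain ⟨y, rfl⟩ := QuotientGroup.mk'_surjective Z b
      rw [← commutatorElement_eq_one_iff_mul_comm, ← map_commutatorElement]
      exact (QuotientGroup.eq_one_iff _).mpr (hcomm x y) }
  have hmod : ∀ v : Additive (E ⧸ Z), p • v = 0 := by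
    intro v
    obtain ⟨x, hx⟩ := QuotientGroup.mk'_surjective Z v.toMul
    have h1 : (v.toMul) ^ p = 1 := by
      rw [← hx, ← map_pow]
      exact (QuotientGroup.eq_one_iff _).mpr (hpow x)
    exact h1
  letI hm : Module (ZMod p) (Additive (E ⧸ Z)) := AddCommGroup.zmodModule hmod
  -- sections
  let π : E → Additive (E ⧸ Z) := fun x => Additive.ofMul (QuotientGroup.mk' Z x)
  have hπmul : ∀ x y, π (x * y) = π x + π y := fun x y => by
    change Additive.ofMul (QuotientGroup.mk' Z (x * y)) = _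
    rw [map_mul]; rfl
  have hπs : Function.Surjective π := fun v => by
    obtain ⟨x, hx⟩ := QuotientGroup.mk'_surjective Z v.toMul
    exact ⟨x, congrArg Additive.ofMul hx⟩
  have hπeq : ∀ x y, π x = π y → ∃ w ∈ Z, y = x * w := by
    intro x y h
    refine ⟨x⁻¹ * y, QuotientGroup.eq.mp h, by group⟩
  choose s hs using hπs
  have hbex : ∀ x y : E, ∃ a : ZMod p, x * y * x⁻¹ * y⁻¹ = z ^ a.val := fun x y =>
    exists_pow_val hz (by rw [← hZ]; exact hcomm x y)
  have hqex : ∀ x : E, ∃ a : ZMod p, x ^ p = z ^ a.val := fun x =>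
    exists_pow_val hz (by rw [← hZ]; exact hpow x)
  choose β hβ using hbex
  choose κ hκ using hqex
  have hβcongr : ∀ x y w w', w ∈ Z → w' ∈ Z → β (x * w) (y * w') = β x y := by
    intro x y w w' hw hw'
    apply pow_val_inj hz
    rw [← hβ, ← hβ]
    have e1 := hZc w hw
    have e2 := hZc w' hw'
    calc x * w * (y * w') * (x * w)⁻¹ * (y * w')⁻¹
        = x * (w * y) * w' * w⁻¹ * x⁻¹ * w'⁻¹ * y⁻¹ := by group
      _ = x * (y * w) * w' * w⁻¹ * x⁻¹ * w'⁻¹ * y⁻¹ := by rw [e1]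
      _ = x * y * (w * w') * w⁻¹ * x⁻¹ * w'⁻¹ * y⁻¹ := by group
      _ = x * y * (w' * w) * w⁻¹ * x⁻¹ * w'⁻¹ * y⁻¹ := by rw [e1 w']
      _ = x * y * (w' * x⁻¹) * w'⁻¹ * y⁻¹ := by group
      _ = x * y * (x⁻¹ * w') * w'⁻¹ * y⁻¹ := by rw [e2]
      _ = _ := by group
  have hβadd1 : ∀ x y t, β (x * y) t = β x t + β y t := by
    intro x y t
    apply pow_val_inj hz
    rw [pow_val_add hz, ← hβ, ← hβ, ← hβ]
    have e1 := hZc _ (hcomm y t)
    calc x * y * t * (x * y)⁻¹ * t⁻¹ = x * (y * t * y⁻¹ * t⁻¹) * t * x⁻¹ * t⁻¹ := by group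
      _ = x * ((y * t * y⁻¹ * t⁻¹) * (t * x⁻¹ * t⁻¹)) := by group
      _ = x * ((t * x⁻¹ * t⁻¹) * (y * t * y⁻¹ * t⁻¹)) := by rw [e1]
      _ = _ := by group
  have hβadd2 : ∀ x y t, β t (x * y) = β t x + β t y := by
    intro x y t
    apply pow_val_inj hz
    rw [pow_val_add hz, ← hβ, ← hβ, ← hβ]
    have e1 := hZc _ (hcomm t y)
    calc t * (x * y) * t⁻¹ * (x * y)⁻¹ = t * x * t⁻¹ * ((t * y * t⁻¹ * y⁻¹) * x⁻¹) := by group
      _ = t * x * t⁻¹ * (x⁻¹ * (t * y * t⁻¹ * y⁻¹)) := by rw [e1]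
      _ = _ := by group
  have hκcongr : ∀ x w, w ∈ Z → κ (x * w) = κ x := by
    intro x w hw
    apply pow_val_inj hz
    rw [← hκ, ← hκ, (show Commute x w from (hZc w hw x).symm).mul_pow]
    have h1 : z ^ p = 1 := orderOf_dvd_iff_pow_eq_one.mp hz.dvd
    rw [hZ] at hw
    obtain ⟨k, rfl⟩ := Subgroup.mem_zpowers_iff.mp hw
    have h2 : (z ^ k) ^ p = 1 := by
      rw [← zpow_natCast, ← zpow_mul, mul_comm k, zpow_mul, zpow_natCast, h1, one_zpow]
    rw [h2, mul_one]
  have hsπ : ∀ x, ∃ w ∈ Z, s (π x) = x * w := fun x => hπeq x _ (hs (π x)).symm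
  have hsadd : ∀ u v, ∃ w ∈ Z, s (u + v) = s u * s v * w := by
    intro u v
    apply hπeq
    rw [hπmul, hs, hs, hs]
  let b : Additive (E ⧸ Z) → Additive (E ⧸ Z) → ZMod p := fun u v => β (s u) (s v)
  have hb1 : ∀ x y t, b (x + y) t = b x t + b y t := by
    intro x y t
    obtain ⟨w, hw, h⟩ := hsadd x y
    change β (s (x + y)) (s t) = _
    rw [h]
    have := hβcongr (s x * s y) (s t) w 1 hw (one_mem _)
    rw [mul_one] at this
    rw [this, hβadd1]
  have hb2 : ∀ x y t, b x (y + t) = b x y + b x t := by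
    intro x y t
    obtain ⟨w, hw, h⟩ := hsadd y t
    change β (s x) (s (y + t)) = _
    rw [h]
    have := hβcongr (s x) (s y * s t) 1 w (one_mem _) hw
    rw [mul_one] at this
    rw [this, hβadd2]
  refine ⟨Additive (E ⧸ Z), inferInstance, hm, inferInstance,
    { π := π
      z := z
      B := bilinOf b hb1 hb2
      Q := fun v => κ (s v)
      mul := hπmul
      surj := fun v => ⟨s v, hs v⟩
      ker := ?_
      ord := hz
      central := hzc
      comm := ?_
      pow := ?_ }, rfl⟩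
  · intro x
    rw [← hZ]
    exact QuotientGroup.eq_one_iff x
  · intro x y
    rw [bilinOf_apply]
    obtain ⟨w, hw, h⟩ := hsπ x
    obtain ⟨w', hw', h'⟩ := hsπ y
    change _ = z ^ (β (s (π x)) (s (π y))).val
    rw [h, h', hβcongr x y w w' hw hw']
    exact hβ x y
  · intro x
    obtain ⟨w, hw, h⟩ := hsπ x
    change _ = z ^ (κ (s (π x))).val
    rw [h, hκcongr x w hw]
    exact hκ x

end construct

end CfsgLib.ExForm
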