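import Mathlib
import Cfsg.Agent.LibExForm
import Cfsg.Agent.LibExtraH28
import Cfsg.Agent.LibForms27

/-! extraspecial groups: form data, order, classification -/

set_option autoImplicit false
set_option linter.all false
open scoped commutatorElement

namespace CfsgLib.ExForm

open CfsgLib.SolvFrat CfsgLib.SolvBasic

universe u v w

section

variable {p : ℕ} [hp : Fact p.Prime] {E : Type u} [Group E]

theorem exists_of_extraspecial [Finite E] (hE : Cfsg.IsExtraspecial p E) :
    ∃ (V : Type u) (_ : AddCommGroup V) (_ : Module (ZMod p) V) (_ : Finite V)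
      (D : FormData p E V), Subgroup.zpowers D.z = Subgroup.center E ∧
        ∀ v : V, v ≠ 0 → ∃ w, D.B v w ≠ 0 := by
  have hcard : Nat.card (Subgroup.center E) = p := hE.2
  have hcyc : IsCyclic (Subgroup.center E) := isCyclic_of_prime_card hcard
  obtain ⟨g, hg⟩ := hcyc.exists_generator
  have hgo : orderOf (g : E) = p := by
    rw [Subgroup.orderOf_coe, ← hcard]
    exact orderOf_eq_card_of_forall_mem_zpowers hg
  have hgc : Subgroup.zpowers (g : E) = Subgroup.center E := by
    apply Subgroup.eq_of_le_of_card_ge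
    · rw [Subgroup.zpowers_le]; exact g.2
    · rw [Nat.card_zpowers, hgo, hcard]
  obtain ⟨V, _, _, _, D, hD⟩ := exists_formData (p := p) (g : E) hgo
    (fun x => (Subgroup.mem_center_iff.mp g.2 x).symm)
    (fun x y => by rw [hgc]; exact CfsgLib.ExtraH28.comm_mem_center hE x y)
    (fun x => by rw [hgc]; exact CfsgLib.ExtraH28.pow_mem_center hE x)
  refine ⟨V, inferInstance, inferInstance, inferInstance, D, by rw [hD, hgc], ?_⟩
  intro v hv
  obtain ⟨x, rfl⟩ := D.surj v
  have h1 : x ∉ Subgroup.center E := by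
    rw [← hgc, ← hD, ← D.ker]; exact hv
  rw [Subgroup.mem_center_iff] at h1
  push Not at h1
  obtain ⟨y, hy⟩ := h1
  refine ⟨D.π y, fun h0 => hy ?_⟩
  have h2 := D.comm x y
  rw [h0, ZMod.val_zero, pow_zero] at h2
  exact (CfsgLib.ExtraH28.comm_eq_one_iff.mp h2).symm

end

theorem exists_isometry {F : Type u} [Field F] {V : Type v} {V' : Type w} [AddCommGroup V]
    [AddCommGroup V'] [Module F V] [Module F V'] [FiniteDimensional F V] [FiniteDimensional F V']
    (B : LinearMap.BilinForm F V) (B' : LinearMap.BilinForm F V') (hB : B.IsAlt) (hB' : B'.IsAlt)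
    (hnd : ∀ v : V, v ≠ 0 → ∃ w, B v w ≠ 0) (hnd' : ∀ v : V', v ≠ 0 → ∃ w, B' v w ≠ 0)
    (hr : Module.finrank F V = Module.finrank F V') :
    ∃ φ : V ≃ₗ[F] V', ∀ v w, B' (φ v) (φ w) = B v w := by
  obtain ⟨m, b, hm, h1, h2, h3, h4⟩ := CfsgLib.Forms27.exists_symplectic_basis B hB hnd
  obtain ⟨m', b', hm', h1', h2', h3', h4'⟩ := CfsgLib.Forms27.exists_symplectic_basis B' hB' hnd'
  have hmm : m = m' := by omega
  subst hmm
  let φ : V ≃ₗ[F] V' := b.equiv b' (Equiv.refl _)
  have hφ : ∀ i, φ (b i) = b' i := fun i => by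
    change b.equiv b' (Equiv.refl _) (b i) = b' i
    rw [Module.Basis.equiv_apply]; rfl
  refine ⟨φ, ?_⟩
  have h5 : LinearMap.compl₁₂ B' φ.toLinearMap φ.toLinearMap = B := by
    refine b.ext fun i => b.ext fun j => ?_
    rw [LinearMap.compl₁₂_apply]
    change B' (φ (b i)) (φ (b j)) = B (b i) (b j)
    rw [hφ, hφ]
    rcases i with i | i <;> rcases j with j | j
    · rw [h1, h1']
    · rw [h3, h3']
    · rw [h4, h4']
    · rw [h2, h2']
  intro v w
  rw [← h5]; rfl

section

variable {p : ℕ} [hp : Fact p.Prime] {E : Type u} [Group E]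

theorem extraspecial_card [Finite E] (hE : Cfsg.IsExtraspecial p E) :
    ∃ n : ℕ, 1 ≤ n ∧ Nat.card E = p ^ (2 * n + 1) := by
  obtain ⟨V, _, _, _, D, hD, hnd⟩ := exists_of_extraspecial hE
  obtain ⟨m, b, hm, -⟩ := CfsgLib.Forms27.exists_symplectic_basis D.B D.alt hnd
  have h1 := D.card_eq
  rw [Module.natCard_eq_pow_finrank (K := ZMod p) (V := V), hm, Nat.card_zmod] at h1
  refine ⟨m, ?_, by rw [h1, pow_succ, mul_comm]⟩
  by_contra hm0
  have hm1 : m = 0 := by omega
  rw [hm1, mul_zero, pow_zero, mul_one] at h1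
  obtain ⟨x, y, hxy⟩ := CfsgLib.ExtraH28.exists_not_comm hE
  have h2 : Subgroup.center E = ⊤ := by
    apply Subgroup.eq_top_of_card_eq
    rw [hE.2, h1]
  exact hxy ((Subgroup.mem_center_iff.mp (by rw [h2]; trivial : y ∈ Subgroup.center E)) x)

/-- extraspecial groups of exponent `p` are determined by their order -/
theorem exists_equiv_of_exponent [Finite E] {E' : Type v} [Group E'] [Finite E']
    (hE : Cfsg.IsExtraspecial p E) (hE' : Cfsg.IsExtraspecial p E') (he : ∀ x : E, x ^ p = 1)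
    (he' : ∀ x : E', x ^ p = 1) (hc : Nat.card E = Nat.card E') : Nonempty (E ≃* E') := by
  -- transport to a common universe
  let E₁ := ULift.{v} E
  let E₂ := ULift.{u} E'
  have i₁ : E₁ ≃* E := MulEquiv.ulift
  have i₂ : E₂ ≃* E' := MulEquiv.ulift
  have hE₁ : Cfsg.IsExtraspecial p E₁ := CfsgLib.ExtraH28.isExtraspecial_congr i₁.symm hE
  have hE₂ : Cfsg.IsExtraspecial p E₂ := CfsgLib.ExtraH28.isExtraspecial_congr i₂.symm hE'
  have he₁ : ∀ x : E₁, x ^ p = 1 := fun x => i₁.injective (by rw [map_pow, he, map_one])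
  have he₂ : ∀ x : E₂, x ^ p = 1 := fun x => i₂.injective (by rw [map_pow, he', map_one])
  have hf₁ : Finite E₁ := Finite.of_equiv E i₁.symm.toEquiv
  have hf₂ : Finite E₂ := Finite.of_equiv E' i₂.symm.toEquiv
  have hc' : Nat.card E₁ = Nat.card E₂ := by
    rw [Nat.card_congr i₁.toEquiv, Nat.card_congr i₂.toEquiv, hc]
  obtain ⟨V, _, _, _, D, hD, hnd⟩ := exists_of_extraspecial hE₁
  obtain ⟨V', _, _, _, D', hD', hnd'⟩ := exists_of_extraspecial hE₂
  have hr : Module.finrank (ZMod p) V = Module.finrank (ZMod p) V' := by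
    have h1 := D.card_eq
    have h2 := D'.card_eq
    rw [hc', h2, Module.natCard_eq_pow_finrank (K := ZMod p) (V := V),
      Module.natCard_eq_pow_finrank (K := ZMod p) (V := V'), Nat.card_zmod] at h1
    exact (Nat.pow_right_injective hp.out.two_le (Nat.eq_of_mul_eq_mul_left hp.out.pos h1)).symm
  obtain ⟨φ, hφ⟩ := exists_isometry D.B D'.B D.alt D'.alt hnd hnd' hr
  have hQ : ∀ v, D.Q v = 0 := by
    intro v
    obtain ⟨x, rfl⟩ := D.surj v
    apply pow_val_inj D.ord
    rw [← D.pow, he₁, ZMod.val_zero, pow_zero]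
  have hQ' : ∀ v, D'.Q v = 0 := by
    intro v
    obtain ⟨x, rfl⟩ := D'.surj v
    apply pow_val_inj D'.ord
    rw [← D'.pow, he₂, ZMod.val_zero, pow_zero]
  obtain ⟨e, -⟩ := D.exists_equiv D' φ hφ (fun v => by rw [hQ, hQ'])
  exact ⟨i₁.symm.trans (e.trans i₂)⟩

end

end CfsgLib.ExForm
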