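import Mathlib

/-! classification of nondegenerate quadratic forms over the field with two elements -/

set_option autoImplicit false
set_option linter.all false

namespace CfsgLib.QuadF2

universe u v

local notation "F₂" => ZMod 2

/-- quadratic function with nondegenerate alternating polar form -/
structure IsQ {V : Type u} [AddCommGroup V] [Module (ZMod 2) V]
    (B : LinearMap.BilinForm (ZMod 2) V) (Q : V → ZMod 2) : Prop where
  alt : B.IsAlt
  nd : ∀ v : V, v ≠ 0 → ∃ w, B v w ≠ 0
  add : ∀ v w, Q (v + w) = Q v + Q w + B v w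

theorem eq_one_of_ne {a : ZMod 2} (h : a ≠ 0) : a = 1 := by
  revert h; revert a; decide

theorem add_self (a : ZMod 2) : a + a = 0 := by revert a; decide

theorem mul_self (a : ZMod 2) : a * a = a := by revert a; decide

theorem neg_eq (a : ZMod 2) : -a = a := by revert a; decide

section

variable {V : Type u} [AddCommGroup V] [Module (ZMod 2) V]
  {B : LinearMap.BilinForm (ZMod 2) V} {Q : V → ZMod 2}

theorem IsQ.zero (h : IsQ B Q) : Q 0 = 0 := by
  have := h.add 0 0
  rw [add_zero, h.alt.self_eq_zero, add_self, add_zero] at this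
  exact this

theorem IsQ.symm (h : IsQ B Q) (v w : V) : B v w = B w v := by
  rw [← h.alt.neg_eq, neg_eq]

theorem IsQ.smul (h : IsQ B Q) (a : ZMod 2) (v : V) : Q (a • v) = a * Q v := by
  have : a = 0 ∨ a = 1 := by
    by_cases ha : a = 0
    · exact Or.inl ha
    · exact Or.inr (eq_one_of_ne ha)
  rcases this with rfl | rfl
  · rw [zero_smul, h.zero, zero_mul]
  · rw [one_smul, one_mul]

/-- orthogonal complement of a plane -/
def W (B : LinearMap.BilinForm (ZMod 2) V) (e f : V) : Submodule (ZMod 2) V where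
  carrier := {v | B v e = 0 ∧ B v f = 0}
  zero_mem' := by simp
  add_mem' := by
    rintro a b ⟨h1, h2⟩ ⟨h3, h4⟩
    refine ⟨?_, ?_⟩
    · rw [map_add, LinearMap.add_apply, h1, h3, add_zero]
    · rw [map_add, LinearMap.add_apply, h2, h4, add_zero]
  smul_mem' := by
    rintro c a ⟨h1, h2⟩
    refine ⟨?_, ?_⟩
    · rw [map_smul, LinearMap.smul_apply, h1, smul_zero]
    · rw [map_smul, LinearMap.smul_apply, h2, smul_zero]

theorem proj_mem (h : IsQ B Q) {e f : V} (hef : B e f = 1) (v : V) :
    v - B v f • e - B v e • f ∈ W B e f := by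
  have hfe : B f e = 1 := by rw [h.symm]; exact hef
  refine ⟨?_, ?_⟩
  · simp only [map_sub, map_smul, LinearMap.sub_apply, LinearMap.smul_apply, h.alt.self_eq_zero,
      hfe, smul_eq_mul, mul_zero, mul_one, sub_zero, sub_self]
  · simp only [map_sub, map_smul, LinearMap.sub_apply, LinearMap.smul_apply, h.alt.self_eq_zero,
      hef, smul_eq_mul, mul_zero, mul_one, sub_zero, sub_self]

/-- splitting off a plane -/
noncomputable def split (h : IsQ B Q) {e f : V} (hef : B e f = 1) :
    V ≃ₗ[ZMod 2] (ZMod 2 × ZMod 2) × W B e f where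
  toFun v := ((B v f, B v e), ⟨v - B v f • e - B v e • f, proj_mem h hef v⟩)
  invFun x := x.1.1 • e + x.1.2 • f + x.2
  map_add' v w := by
    refine Prod.ext (Prod.ext ?_ ?_) (Subtype.ext ?_)
    · change B (v + w) f = _; rw [map_add]; rfl
    · change B (v + w) e = _; rw [map_add]; rfl
    · change (v + w) - B (v + w) f • e - B (v + w) e • f =
        (v - B v f • e - B v e • f) + (w - B w f • e - B w e • f)
      rw [map_add, LinearMap.add_apply, LinearMap.add_apply, add_smul, add_smul]
      abel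
  map_smul' c v := by
    refine Prod.ext (Prod.ext ?_ ?_) (Subtype.ext ?_)
    · change B (c • v) f = _; rw [map_smul]; rfl
    · change B (c • v) e = _; rw [map_smul]; rfl
    · change (c • v) - B (c • v) f • e - B (c • v) e • f =
        c • (v - B v f • e - B v e • f)
      rw [map_smul, LinearMap.smul_apply, LinearMap.smul_apply, smul_sub, smul_sub, smul_assoc,
        smul_assoc]
  left_inv v := by
    change B v f • e + B v e • f + (v - B v f • e - B v e • f) = v
    abel
  right_inv x := by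
    obtain ⟨⟨a, b⟩, ⟨w, hw1, hw2⟩⟩ := x
    have hfe : B f e = 1 := by rw [h.symm]; exact hef
    have h1 : B (a • e + b • f + w) f = a := by
      rw [map_add, map_add, map_smul, map_smul, LinearMap.add_apply, LinearMap.add_apply,
        LinearMap.smul_apply, LinearMap.smul_apply, hef, h.alt.self_eq_zero, hw2, smul_zero,
        add_zero, add_zero, smul_eq_mul, mul_one]
    have h2 : B (a • e + b • f + w) e = b := by
      rw [map_add, map_add, map_smul, map_smul, LinearMap.add_apply, LinearMap.add_apply,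
        LinearMap.smul_apply, LinearMap.smul_apply, hfe, h.alt.self_eq_zero, hw1, smul_zero,
        add_zero, zero_add, smul_eq_mul, mul_one]
    refine Prod.ext (Prod.ext h1 h2) (Subtype.ext ?_)
    change (a • e + b • f + w) - B (a • e + b • f + w) f • e - B (a • e + b • f + w) e • f = w
    rw [h1, h2]
    abel

theorem Q_split (h : IsQ B Q) {e f : V} (hef : B e f = 1) (a b : ZMod 2) (w : V)
    (hw : w ∈ W B e f) : Q (a • e + b • f + w) = a * Q e + b * Q f + a * b + Q w := by
  obtain ⟨hw1, hw2⟩ := hw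
  rw [h.add, h.add, h.smul, h.smul]
  have h1 : B (a • e) (b • f) = a * b := by
    simp only [map_smul, LinearMap.smul_apply, smul_eq_mul, hef, mul_one]
    ring
  have h2 : B (a • e + b • f) w = 0 := by
    rw [h.symm, map_add, map_smul, map_smul, hw1, hw2, smul_zero, smul_zero, add_zero]
  rw [h1, h2, add_zero]

/-- the restricted form -/
def BW (B : LinearMap.BilinForm (ZMod 2) V) (W : Submodule (ZMod 2) V) :
    LinearMap.BilinForm (ZMod 2) W := LinearMap.compl₁₂ B W.subtype W.subtype

theorem isQ_W (h : IsQ B Q) {e f : V} (hef : B e f = 1) :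
    IsQ (BW B (W B e f)) (fun w => Q (w : V)) := by
  refine ⟨fun w => h.alt.self_eq_zero _, ?_, fun v w => h.add _ _⟩
  intro v hv
  obtain ⟨u, hu⟩ := h.nd (v : V) (fun h0 => hv (Subtype.ext h0))
  refine ⟨⟨_, proj_mem h hef u⟩, ?_⟩
  change B (v : V) (u - B u f • e - B u e • f) ≠ 0
  rw [map_sub, map_sub, map_smul, map_smul, v.2.1, v.2.2, smul_zero, smul_zero, sub_zero, sub_zero]
  exact hu

theorem exists_pair (h : IsQ B Q) {v : V} (hv : v ≠ 0) : ∃ w, B v w = 1 := by
  obtain ⟨w, hw⟩ := h.nd v hv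
  exact ⟨w, eq_one_of_ne hw⟩

theorem finrank_W [Finite V] (h : IsQ B Q) {e f : V} (hef : B e f = 1) :
    Module.finrank (ZMod 2) (W B e f) + 2 = Module.finrank (ZMod 2) V := by
  have h1 := (split h hef).finrank_eq
  rw [Module.finrank_prod, Module.finrank_prod, Module.finrank_self] at h1
  omega

theorem exists_equal_pair (h : IsQ B Q) (hnt : ∃ v : V, v ≠ 0) :
    ∃ e f : V, B e f = 1 ∧ Q e = Q f := by
  obtain ⟨e, he⟩ := hnt
  obtain ⟨f, hef⟩ := exists_pair h he
  have hfe : B f e = 1 := by rw [h.symm]; exact hef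
  by_cases h1 : Q e = Q f
  · exact ⟨e, f, hef, h1⟩
  · by_cases h2 : Q e = 0
    · have h3 : Q f = 1 := eq_one_of_ne (fun h4 => h1 (by rw [h2, h4]))
      refine ⟨e, e + f, ?_, ?_⟩
      · rw [map_add, h.alt.self_eq_zero, hef, zero_add]
      · rw [h.add, h2, h3, hef]; decide
    · have h3 : Q e = 1 := eq_one_of_ne h2
      have h4 : Q f = 0 := by
        by_contra h4
        exact h1 (by rw [h3, eq_one_of_ne h4])
      refine ⟨e + f, f, ?_, ?_⟩
      · rw [map_add, LinearMap.add_apply, h.alt.self_eq_zero, hef, add_zero]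
      · rw [h.add, h3, h4, hef]; decide

theorem exists_singular_pair [Finite V] (h : IsQ B Q) (hd : 3 ≤ Module.finrank (ZMod 2) V) :
    ∃ e f : V, B e f = 1 ∧ Q e = 0 ∧ Q f = 0 := by
  obtain ⟨e₀, f₀, hef, -⟩ := exists_equal_pair h (by
    have : 0 < Module.finrank (ZMod 2) V := by omega
    have := Module.finrank_pos_iff.mp this
    exact exists_ne 0)
  obtain ⟨e, he, hQe⟩ : ∃ e : V, e ≠ 0 ∧ Q e = 0 := by
    have he₀ : e₀ ≠ 0 := by
      rintro rfl
      rw [map_zero, LinearMap.zero_apply] at hef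
      exact zero_ne_one hef
    by_cases h1 : Q e₀ = 0
    · exact ⟨e₀, he₀, h1⟩
    · have h2 := finrank_W h hef
      have h3 : 0 < Module.finrank (ZMod 2) (W B e₀ f₀) := by omega
      have h4 := Module.finrank_pos_iff.mp h3
      obtain ⟨w, hw⟩ := exists_ne (0 : W B e₀ f₀)
      by_cases h5 : Q (w : V) = 0
      · exact ⟨w, fun h0 => hw (Subtype.ext h0), h5⟩
      · refine ⟨e₀ + w, ?_, ?_⟩
        · intro h6
          have h7 : B (e₀ + w) f₀ = 0 := by rw [h6, map_zero, LinearMap.zero_apply]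
          rw [map_add, LinearMap.add_apply, hef, w.2.2, add_zero] at h7
          exact one_ne_zero h7
        · have h8 : B e₀ (w : V) = 0 := by rw [h.symm]; exact w.2.1
          rw [h.add, eq_one_of_ne h1, eq_one_of_ne h5, h8]; decide
  obtain ⟨f, hef'⟩ := exists_pair h he
  by_cases h6 : Q f = 0
  · exact ⟨e, f, hef', hQe, h6⟩
  · refine ⟨e, e + f, ?_, hQe, ?_⟩
    · rw [map_add, h.alt.self_eq_zero, hef', zero_add]
    · rw [h.add, hQe, eq_one_of_ne h6, hef']; decide

end

/-- normal form: `t = 0` plus type, `t = 1` minus type -/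
def nf (m : ℕ) (t : ZMod 2) (w : Fin m → ZMod 2 × ZMod 2) : ZMod 2 :=
  ∑ i, ((w i).1 * (w i).2 + t * (if i.val + 1 = m then (w i).1 + (w i).2 else 0))

theorem nf_cons (m : ℕ) (t : ZMod 2) (x : ZMod 2 × ZMod 2) (w : Fin m → ZMod 2 × ZMod 2) :
    nf (m + 1) t (Fin.cons x w : Fin (m + 1) → ZMod 2 × ZMod 2) =
      x.1 * x.2 + (if m = 0 then t * (x.1 + x.2) else 0) + nf m t w := by
  unfold nf
  rw [Fin.sum_univ_succ]
  simp only [Fin.cons_zero, Fin.cons_succ, Fin.val_zero, Fin.val_succ]
  congr 1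
  · congr 1
    by_cases hm : m = 0
    · simp [hm]
    · rw [if_neg (by omega), if_neg hm, mul_zero]
  · apply Finset.sum_congr rfl
    intro i _
    congr 2
    by_cases hi : i.val + 1 = m
    · rw [if_pos hi, if_pos (by omega)]
    · rw [if_neg hi, if_neg (by omega)]

theorem exists_nf (m : ℕ) : ∀ (V : Type u) [AddCommGroup V] [Module (ZMod 2) V] [Finite V]
    (B : LinearMap.BilinForm (ZMod 2) V) (Q : V → ZMod 2), IsQ B Q →
    Module.finrank (ZMod 2) V = 2 * m → ∃ (t : ZMod 2)
      (φ : V ≃ₗ[ZMod 2] (Fin m → ZMod 2 × ZMod 2)), ∀ v, Q v = nf m t (φ v) := by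
  induction m with
  | zero =>
    intro V _ _ _ B Q h hr
    have h1 : Subsingleton V := Module.finrank_zero_iff.mp (by rw [hr])
    let φ : V ≃ₗ[ZMod 2] (Fin 0 → ZMod 2 × ZMod 2) :=
      { toFun := fun _ => 0
        invFun := fun _ => 0
        map_add' := fun _ _ => Subsingleton.elim _ _
        map_smul' := fun _ _ => Subsingleton.elim _ _
        left_inv := fun v => Subsingleton.elim _ _
        right_inv := fun v => Subsingleton.elim _ _ }
    refine ⟨0, φ, ?_⟩
    intro v
    rw [Subsingleton.elim v 0, h.zero]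
    unfold nf
    simp
  | succ m ih =>
    intro V _ _ _ B Q h hr
    obtain ⟨e, f, hef, hQ, hs⟩ : ∃ e f : V, B e f = 1 ∧ Q e = Q f ∧ (m ≠ 0 → Q e = 0) := by
      by_cases hm : m = 0
      · obtain ⟨e, f, h1, h2⟩ := exists_equal_pair h (by
          have : 0 < Module.finrank (ZMod 2) V := by omega
          have := Module.finrank_pos_iff.mp this
          exact exists_ne 0)
        exact ⟨e, f, h1, h2, fun h3 => absurd hm h3⟩
      · obtain ⟨e, f, h1, h2, h3⟩ := exists_singular_pair h (by omega)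
        exact ⟨e, f, h1, by rw [h2, h3], fun _ => h2⟩
    have hW := finrank_W h hef
    obtain ⟨t', φ', hφ'⟩ := ih (W B e f) (BW B (W B e f)) _ (isQ_W h hef) (by omega)
    let φ : V ≃ₗ[ZMod 2] (Fin (m + 1) → ZMod 2 × ZMod 2) :=
      (split h hef).trans ((LinearEquiv.prodCongr (LinearEquiv.refl _ _) φ').trans
        (Fin.consLinearEquiv (ZMod 2) (fun _ : Fin (m + 1) => ZMod 2 × ZMod 2)))
    have hφ : ∀ v, φ v = (Fin.cons (B v f, B v e) (φ' ⟨_, proj_mem h hef v⟩) :
        Fin (m + 1) → ZMod 2 × ZMod 2) := fun v => rfl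
    refine ⟨if m = 0 then Q e else t', φ, ?_⟩
    intro v
    rw [hφ, nf_cons]
    have h1 : v = B v f • e + B v e • f + (v - B v f • e - B v e • f) := by abel
    have h2 : Q v = B v f * Q e + B v e * Q f + B v f * B v e + Q (v - B v f • e - B v e • f) := by
      conv_lhs => rw [h1]
      exact Q_split h hef _ _ _ (proj_mem h hef v)
    have h3 := hφ' ⟨_, proj_mem h hef v⟩
    change Q (v - B v f • e - B v e • f) = _ at h3
    rw [h2, h3, ← hQ]
    by_cases hm : m = 0
    · subst hm
      rw [if_pos rfl, if_pos rfl]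
      have h4 : ∀ t (w : Fin 0 → ZMod 2 × ZMod 2), nf 0 t w = 0 := fun t w => by
        unfold nf; simp
      rw [h4, h4]
      ring
    · rw [if_neg hm, if_neg hm, hs hm]
      ring

/-- two forms of the same dimension and type are isometric -/
theorem isometry_of_nf {V : Type u} {V' : Type v} [AddCommGroup V] [Module (ZMod 2) V]
    [AddCommGroup V'] [Module (ZMod 2) V'] {B : LinearMap.BilinForm (ZMod 2) V} {Q : V → ZMod 2}
    {B' : LinearMap.BilinForm (ZMod 2) V'} {Q' : V' → ZMod 2} (h : IsQ B Q) (h' : IsQ B' Q')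
    {m : ℕ} {t : ZMod 2} (φ : V ≃ₗ[ZMod 2] (Fin m → ZMod 2 × ZMod 2))
    (φ' : V' ≃ₗ[ZMod 2] (Fin m → ZMod 2 × ZMod 2)) (hφ : ∀ v, Q v = nf m t (φ v))
    (hφ' : ∀ v, Q' v = nf m t (φ' v)) :
    ∃ ψ : V ≃ₗ[ZMod 2] V', (∀ v, Q' (ψ v) = Q v) ∧ ∀ v w, B' (ψ v) (ψ w) = B v w := by
  let ψ := φ.trans φ'.symm
  have h1 : ∀ v, Q' (ψ v) = Q v := by
    intro v
    rw [hφ, hφ']
    change nf m t (φ' (φ'.symm (φ v))) = _
    rw [φ'.apply_symm_apply]
  refine ⟨ψ, h1, ?_⟩
  intro v w
  have h2 := h.add v w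
  have h3 := h'.add (ψ v) (ψ w)
  rw [← map_add, h1, h1, h1, h2] at h3
  exact (add_left_cancel h3).symm

end CfsgLib.QuadF2
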