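import Mathlib
import Cfsg.Agent.LibExForm2
import Cfsg.Agent.LibQuadF2

/-! extraspecial 2-groups: quadratic form, type, classification -/

set_option autoImplicit false
set_option linter.all false
open scoped commutatorElement

namespace CfsgLib.ExForm

open CfsgLib.SolvFrat CfsgLib.SolvBasic CfsgLib.QuadF2

universe u v w

theorem isQ_of_formData {E : Type u} [Group E] {V : Type v} [AddCommGroup V] [Module (ZMod 2) V]
    (D : FormData 2 E V) (hnd : ∀ v : V, v ≠ 0 → ∃ w, D.B v w ≠ 0) : IsQ D.B D.Q := by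
  have : Fact (Nat.Prime 2) := ⟨Nat.prime_two⟩
  refine ⟨D.alt, hnd, ?_⟩
  intro v w
  obtain ⟨x, rfl⟩ := D.surj v
  obtain ⟨y, rfl⟩ := D.surj w
  rw [← D.mul]
  apply pow_val_inj D.ord
  rw [pow_val_add D.ord, pow_val_add D.ord, ← D.pow, ← D.pow, ← D.pow]
  have h1 := D.comm x⁻¹ y
  rw [D.inv, map_neg, LinearMap.neg_apply, neg_eq] at h1
  have h2 := D.commute_pow y (D.B (D.π x) (D.π y)).val
  have h3 := D.commute_pow (y ^ 2) (D.B (D.π x) (D.π y)).val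
  rw [← h1] at h3 ⊢
  calc (x * y) ^ 2 = x ^ 2 * ((x⁻¹ * y * x⁻¹⁻¹ * y⁻¹) * y ^ 2) := by
        rw [inv_inv, sq, sq, sq]; group
    _ = x ^ 2 * (y ^ 2 * (x⁻¹ * y * x⁻¹⁻¹ * y⁻¹)) := by rw [h3]
    _ = _ := by simp only [mul_assoc]

/-- `E` has type `t` and width `m` -/
def HasType (E : Type u) [Group E] (m : ℕ) (t : ZMod 2) : Prop :=
  ∃ (V : Type u) (_ : AddCommGroup V) (_ : Module (ZMod 2) V) (_ : Finite V)
      (D : FormData 2 E V) (φ : V ≃ₗ[ZMod 2] (Fin m → ZMod 2 × ZMod 2)),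
      Subgroup.zpowers D.z = Subgroup.center E ∧ IsQ D.B D.Q ∧ ∀ v, D.Q v = nf m t (φ v)

theorem exists_hasType {E : Type u} [Group E] [Finite E] (hE : Cfsg.IsExtraspecial 2 E) :
    ∃ (m : ℕ) (t : ZMod 2), 1 ≤ m ∧ Nat.card E = 2 ^ (2 * m + 1) ∧ HasType E m t := by
  have : Fact (Nat.Prime 2) := ⟨Nat.prime_two⟩
  obtain ⟨V, _, _, _, D, hD, hnd⟩ := exists_of_extraspecial hE
  have hQ := isQ_of_formData D hnd
  obtain ⟨m, b, hm, -⟩ := CfsgLib.Forms27.exists_symplectic_basis D.B D.alt hnd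
  obtain ⟨t, φ, hφ⟩ := exists_nf m V D.B D.Q hQ hm
  have h1 := D.card_eq
  rw [Module.natCard_eq_pow_finrank (K := ZMod 2) (V := V), hm, Nat.card_zmod] at h1
  obtain ⟨n, hn, hcard⟩ := extraspecial_card hE
  have h2 : Nat.card E = 2 ^ (2 * m + 1) := by rw [h1, pow_succ, mul_comm]
  have h3 : n = m := by
    rw [hcard] at h2
    have := Nat.pow_right_injective (le_refl 2) h2
    omega
  exact ⟨m, t, by omega, h2, V, inferInstance, inferInstance, inferInstance, D, φ, hD, hQ, hφ⟩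

theorem HasType.exists_equiv {E : Type u} [Group E] [Finite E] {E' : Type v} [Group E'] [Finite E']
    {m : ℕ} {t : ZMod 2} (h : HasType E m t) (h' : HasType E' m t) : Nonempty (E ≃* E') := by
  have : Fact (Nat.Prime 2) := ⟨Nat.prime_two⟩
  obtain ⟨V, _, _, _, D, φ, hD, hQ, hφ⟩ := h
  obtain ⟨V', _, _, _, D', φ', hD', hQ', hφ'⟩ := h'
  obtain ⟨ψ, h1, h2⟩ := isometry_of_nf hQ hQ' φ φ' hφ hφ'
  obtain ⟨e, -⟩ := D.exists_equiv D' ψ h2 h1
  exact ⟨e⟩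

theorem three_extraspecial {E₁ : Type u} {E₂ : Type v} {E₃ : Type w} [Group E₁] [Group E₂]
    [Group E₃] [Finite E₁] [Finite E₂] [Finite E₃] (h₁ : Cfsg.IsExtraspecial 2 E₁)
    (h₂ : Cfsg.IsExtraspecial 2 E₂) (h₃ : Cfsg.IsExtraspecial 2 E₃)
    (h12 : Nat.card E₁ = Nat.card E₂) (h23 : Nat.card E₂ = Nat.card E₃) :
    Nonempty (E₁ ≃* E₂) ∨ Nonempty (E₂ ≃* E₃) ∨ Nonempty (E₁ ≃* E₃) := by
  have : Fact (Nat.Prime 2) := ⟨Nat.prime_two⟩
  obtain ⟨m₁, t₁, -, hc₁, ht₁⟩ := exists_hasType h₁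
  obtain ⟨m₂, t₂, -, hc₂, ht₂⟩ := exists_hasType h₂
  obtain ⟨m₃, t₃, -, hc₃, ht₃⟩ := exists_hasType h₃
  have e12 : m₁ = m₂ := by
    rw [hc₁, hc₂] at h12
    have := Nat.pow_right_injective (le_refl 2) h12
    omega
  have e23 : m₂ = m₃ := by
    rw [hc₂, hc₃] at h23
    have := Nat.pow_right_injective (le_refl 2) h23
    omega
  subst e12
  subst e23
  have ht : t₁ = t₂ ∨ t₂ = t₃ ∨ t₁ = t₃ := by
    have key : ∀ a b c : ZMod 2, a = b ∨ b = c ∨ a = c := by decide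
    exact key t₁ t₂ t₃
  rcases ht with rfl | rfl | rfl
  · exact Or.inl (ht₁.exists_equiv ht₂)
  · exact Or.inr (Or.inl (ht₂.exists_equiv ht₃))
  · exact Or.inr (Or.inr (ht₁.exists_equiv ht₃))

end CfsgLib.ExForm
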