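import Mathlib
import Cfsg.Agent.LibQuadF2

/-! counting and totally singular subspaces of quadratic forms over the field of two elements -/

set_option autoImplicit false
set_option linter.all false

namespace CfsgLib.QuadF2

universe u v

/-- sign character -/
def χ (a : ZMod 2) : ℤ := if a = 0 then 1 else -1

theorem χ_zero : χ 0 = 1 := rfl
theorem χ_one : χ 1 = -1 := rfl

theorem χ_add (a b : ZMod 2) : χ (a + b) = χ a * χ b := by revert a b; decide

theorem χ_mul_self (a : ZMod 2) : χ a * χ a = 1 := by revert a; decide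

theorem χ_sum {ι : Type*} (s : Finset ι) (f : ι → ZMod 2) : χ (∑ i ∈ s, f i) = ∏ i ∈ s, χ (f i) := by
  classical
  induction s using Finset.induction_on with
  | empty => simp [χ_zero]
  | insert a s ha ih => rw [Finset.sum_insert ha, Finset.prod_insert ha, χ_add, ih]

/-- the character sum of the normal form -/
theorem sum_nf (m : ℕ) (hm : 1 ≤ m) (t : ZMod 2) :
    ∑ w : Fin m → ZMod 2 × ZMod 2, χ (nf m t w) = χ t * 2 ^ m := by
  have h1 : ∀ w : Fin m → ZMod 2 × ZMod 2, χ (nf m t w) =
      ∏ i, χ ((w i).1 * (w i).2 + t * (if i.val + 1 = m then (w i).1 + (w i).2 else 0)) := by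
    intro w
    unfold nf
    exact χ_sum _ _
  simp only [h1]
  have h2 := Finset.prod_univ_sum (R := ℤ) (fun _ : Fin m => (Finset.univ : Finset (ZMod 2 × ZMod 2)))
    (fun i x => χ (x.1 * x.2 + t * (if i.val + 1 = m then x.1 + x.2 else 0)))
  rw [Fintype.piFinset_univ] at h2
  rw [← h2]
  have h3 : ∀ i : Fin m, ∑ x : ZMod 2 × ZMod 2, χ (x.1 * x.2 + t * (if i.val + 1 = m then x.1 + x.2 else 0))
      = (if i.val + 1 = m then χ t else 1) * 2 := by
    intro i
    by_cases hi : i.val + 1 = m
    · simp only [if_pos hi]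
      clear h2 h1
      revert t; decide
    · simp only [if_neg hi]
      clear h2 h1
      revert t; decide
  simp only [h3]
  rw [Finset.prod_mul_distrib, Finset.prod_const, Finset.card_univ, Fintype.card_fin]
  congr 1
  rw [Finset.prod_ite]
  rw [Finset.prod_const, Finset.prod_const_one, mul_one]
  have h4 : (Finset.univ.filter (fun i : Fin m => i.val + 1 = m)).card = 1 := by
    rw [Finset.card_eq_one]
    refine ⟨⟨m - 1, by omega⟩, ?_⟩
    ext i
    rw [Finset.mem_filter, Finset.mem_singleton, Fin.ext_iff]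
    constructor
    · rintro ⟨-, h⟩; simp only; omega
    · intro h; simp only at h; exact ⟨Finset.mem_univ _, by omega⟩
  rw [h4, pow_one]

section

variable {V : Type u} [AddCommGroup V] [Module (ZMod 2) V] [Fintype V]
  {B : LinearMap.BilinForm (ZMod 2) V} {Q : V → ZMod 2}

/-- number of singular vectors -/
theorem two_mul_card_zeros [DecidableEq V] (Q : V → ZMod 2) :
    2 * ((Finset.univ.filter (fun v : V => Q v = 0)).card : ℤ) =
      (Fintype.card V : ℤ) + ∑ v : V, χ (Q v) := by
  have h1 : ∀ v : V, χ (Q v) = 2 * (if Q v = 0 then 1 else 0) - 1 := by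
    intro v
    by_cases h : Q v = 0
    · rw [if_pos h, h]; rfl
    · rw [if_neg h]; unfold χ; rw [if_neg h]; norm_num
  simp only [h1]
  rw [Finset.sum_sub_distrib, ← Finset.mul_sum, Finset.sum_boole, Finset.sum_const,
    Finset.card_univ]
  simp

theorem sum_eq_of_nf {m : ℕ} (hm : 1 ≤ m) {t : ZMod 2}
    (φ : V ≃ₗ[ZMod 2] (Fin m → ZMod 2 × ZMod 2)) (hφ : ∀ v, Q v = nf m t (φ v)) :
    ∑ v : V, χ (Q v) = χ t * 2 ^ m := by
  rw [← sum_nf m hm t]
  simp only [hφ]
  exact φ.toEquiv.sum_comp (fun w => χ (nf m t w))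

theorem card_of_nf {m : ℕ}
    (φ : V ≃ₗ[ZMod 2] (Fin m → ZMod 2 × ZMod 2)) : Fintype.card V = 2 ^ (2 * m) := by
  rw [Fintype.card_congr φ.toEquiv, Fintype.card_fun, Fintype.card_prod, ZMod.card, Fintype.card_fin,
    pow_mul]
  norm_num

theorem finrank_of_nf {m : ℕ}
    (φ : V ≃ₗ[ZMod 2] (Fin m → ZMod 2 × ZMod 2)) : Module.finrank (ZMod 2) V = 2 * m := by
  rw [φ.finrank_eq, Module.finrank_pi_fintype]
  simp only [Module.finrank_prod, Module.finrank_self]
  simp [mul_comm]

/-- orthogonal complement -/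
theorem sum_singular (h : IsQ B Q) (U : Submodule (ZMod 2) V) (hU : ∀ u ∈ U, Q u = 0)
    (hperp : ∀ v, (∀ u ∈ U, B v u = 0) → v ∈ U) :
    ∑ v : V, χ (Q v) = (Nat.card U : ℤ) := by
  classical
  letI : Fintype U := Fintype.ofFinite U
  have hB : ∀ u ∈ U, ∀ v ∈ U, B u v = 0 := by
    intro u hu v hv
    have := h.add u v
    rw [hU u hu, hU v hv, hU _ (U.add_mem hu hv), zero_add, zero_add] at this
    exact this.symm
  -- double sum
  have h1 : ∀ u : U, ∑ v : V, χ (Q (v + u)) = ∑ v : V, χ (Q v) := fun u =>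
    Equiv.sum_comp (Equiv.addRight (u : V)) (fun v => χ (Q v))
  have h2 : ∑ u : U, ∑ v : V, χ (Q (v + u)) = (Fintype.card U : ℤ) * ∑ v : V, χ (Q v) := by
    simp only [h1]
    rw [Finset.sum_const, Finset.card_univ, nsmul_eq_mul]
  have h3 : ∀ v : V, ∑ u : U, χ (Q (v + u)) = if v ∈ U then (Fintype.card U : ℤ) else 0 := by
    intro v
    have h4 : ∀ u : U, χ (Q (v + u)) = χ (Q v) * χ (B v u) := by
      intro u
      rw [h.add, hU u u.2, add_zero, χ_add]
    simp only [h4]
    rw [← Finset.mul_sum]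
    by_cases hv : v ∈ U
    · rw [if_pos hv, hU v hv, χ_zero, one_mul]
      have : ∀ u : U, χ (B v u) = 1 := fun u => by rw [hB v hv u u.2, χ_zero]
      simp only [this]
      rw [Finset.sum_const, Finset.card_univ, nsmul_eq_mul, mul_one]
    · rw [if_neg hv]
      have h5 : ∃ u₀ ∈ U, B v u₀ ≠ 0 := by
        by_contra hno
        push Not at hno
        exact hv (hperp v hno)
      obtain ⟨u₀, hu₀, hne⟩ := h5
      have h6 : ∑ u : U, χ (B v u) = 0 := by
        have h7 : ∑ u : U, χ (B v (u + u₀)) = ∑ u : U, χ (B v u) :=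
          Equiv.sum_comp (Equiv.addRight (⟨u₀, hu₀⟩ : U)) (fun u : U => χ (B v (u : V)))
        have h8 : ∀ u : U, χ (B v (u + u₀)) = - χ (B v u) := by
          intro u
          rw [map_add, χ_add, eq_one_of_ne hne, χ_one, mul_neg_one]
        simp only [h8] at h7
        rw [Finset.sum_neg_distrib] at h7
        omega
      rw [h6, mul_zero]
  rw [Finset.sum_comm] at h2
  simp only [h3] at h2
  rw [Finset.sum_ite, Finset.sum_const_zero, add_zero, Finset.sum_const] at h2
  have h9 : (Finset.univ.filter (fun v : V => v ∈ U)).card = Fintype.card U := by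
    rw [← Fintype.card_subtype]
  rw [h9, nsmul_eq_mul] at h2
  have h10 : (Fintype.card U : ℤ) ≠ 0 := by
    have := Fintype.card_pos (α := U)
    omega
  rw [Nat.card_eq_fintype_card]
  exact (mul_left_cancel₀ h10 h2).symm

theorem finrank_perp (h : IsQ B Q) (U : Submodule (ZMod 2) V) :
    Module.finrank (ZMod 2) U + Module.finrank (ZMod 2) (B.orthogonal U) =
      Module.finrank (ZMod 2) V := by
  have h1 := LinearMap.BilinForm.finrank_add_finrank_orthogonal' (B := B) U
  have h2 : B.ker = ⊥ := by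
    rw [eq_bot_iff]
    intro v hv
    rw [Submodule.mem_bot]
    by_contra hne
    obtain ⟨w, hw⟩ := h.nd v hne
    apply hw
    have : B v = 0 := hv
    rw [this, LinearMap.zero_apply]
  rw [h2, inf_bot_eq, finrank_bot, add_zero] at h1
  exact h1

theorem singular_le_perp (h : IsQ B Q) (U : Submodule (ZMod 2) V) (hU : ∀ u ∈ U, Q u = 0) :
    U ≤ B.orthogonal U := by
  intro v hv u hu
  have := h.add u v
  rw [hU u hu, hU v hv, hU _ (U.add_mem hu hv), zero_add, zero_add] at this
  exact this.symm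

theorem two_mul_finrank_le (h : IsQ B Q) (U : Submodule (ZMod 2) V) (hU : ∀ u ∈ U, Q u = 0) :
    2 * Module.finrank (ZMod 2) U ≤ Module.finrank (ZMod 2) V := by
  have h1 := finrank_perp h U
  have h2 := Submodule.finrank_mono (singular_le_perp h U hU)
  omega

/-- a totally singular subspace of half dimension forces plus type -/
theorem type_zero_of_singular (h : IsQ B Q) {m : ℕ} (hm : 1 ≤ m) {t : ZMod 2}
    (φ : V ≃ₗ[ZMod 2] (Fin m → ZMod 2 × ZMod 2)) (hφ : ∀ v, Q v = nf m t (φ v))
    (U : Submodule (ZMod 2) V) (hU : ∀ u ∈ U, Q u = 0) (hd : m ≤ Module.finrank (ZMod 2) U) :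
    t = 0 := by
  have h1 := finrank_perp h U
  have h2 := finrank_of_nf φ
  have h3 := two_mul_finrank_le h U hU
  have h4 : U = B.orthogonal U :=
    Submodule.eq_of_le_of_finrank_eq (singular_le_perp h U hU) (by omega)
  have h5 := sum_singular h U hU (by
    intro v hv
    rw [h4, LinearMap.BilinForm.mem_orthogonal_iff]
    intro u hu
    rw [h.symm]
    exact hv u hu)
  have h6 := sum_eq_of_nf hm φ hφ
  rw [h5] at h6
  by_contra ht
  rw [eq_one_of_ne ht, χ_one] at h6
  have h7 : (0 : ℤ) < 2 ^ m := by positivity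
  have h8 : (0 : ℤ) ≤ (Nat.card U : ℤ) := by positivity
  linarith

end

/-- standard totally singular subspaces -/
def U₀ (m : ℕ) (t : ZMod 2) : Submodule (ZMod 2) (Fin m → ZMod 2 × ZMod 2) where
  carrier := {w | (∀ i, (w i).2 = 0) ∧ (t ≠ 0 → ∀ i : Fin m, i.val + 1 = m → (w i).1 = 0)}
  zero_mem' := ⟨fun _ => rfl, fun _ _ _ => rfl⟩
  add_mem' := by
    rintro a b ⟨h1, h2⟩ ⟨h3, h4⟩
    refine ⟨fun i => ?_, fun ht i hi => ?_⟩
    · rw [Pi.add_apply, Prod.snd_add, h1, h3, add_zero]
    · rw [Pi.add_apply, Prod.fst_add, h2 ht i hi, h4 ht i hi, add_zero]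
  smul_mem' := by
    rintro c a ⟨h1, h2⟩
    refine ⟨fun i => ?_, fun ht i hi => ?_⟩
    · rw [Pi.smul_apply, Prod.smul_snd, h1, smul_zero]
    · rw [Pi.smul_apply, Prod.smul_fst, h2 ht i hi, smul_zero]

theorem nf_U₀ (m : ℕ) (t : ZMod 2) (w : Fin m → ZMod 2 × ZMod 2) (hw : w ∈ U₀ m t) :
    nf m t w = 0 := by
  obtain ⟨h1, h2⟩ := hw
  unfold nf
  apply Finset.sum_eq_zero
  intro i _
  rw [h1, mul_zero, zero_add, add_zero]
  by_cases ht : t = 0
  · rw [ht, zero_mul]
  · by_cases hi : i.val + 1 = m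
    · rw [if_pos hi, h2 ht i hi, mul_zero]
    · rw [if_neg hi, mul_zero]

theorem card_U₀_zero (m : ℕ) : Nat.card (U₀ m 0) = 2 ^ m := by
  have e : U₀ m 0 ≃ (Fin m → ZMod 2) :=
    { toFun := fun w i => ((w : Fin m → ZMod 2 × ZMod 2) i).1
      invFun := fun f => ⟨fun i => (f i, 0), fun _ => rfl, fun h => absurd rfl h⟩
      left_inv := by
        intro w
        apply Subtype.ext
        funext i
        exact Prod.ext rfl (w.2.1 i).symm
      right_inv := fun f => rfl }
  rw [Nat.card_congr e, Nat.card_fun]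
  simp

theorem card_U₀_one (m : ℕ) : Nat.card (U₀ (m + 1) 1) = 2 ^ m := by
  have e : U₀ (m + 1) 1 ≃ (Fin m → ZMod 2) :=
    { toFun := fun w i => ((w : Fin (m + 1) → ZMod 2 × ZMod 2) i.castSucc).1
      invFun := fun f => ⟨fun i => if h : i.val < m then (f ⟨i.val, h⟩, 0) else 0, by
        intro i
        by_cases h : i.val < m
        · simp only [dif_pos h]
        · simp only [dif_neg h]; rfl, by
        intro _ i hi
        have h9 : ¬ i.val < m := by omega
        simp only [dif_neg h9]; rfl⟩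
      left_inv := by
        intro w
        apply Subtype.ext
        funext i
        by_cases h : i.val < m
        · simp only [dif_pos h]
          exact Prod.ext rfl (w.2.1 i).symm
        · simp only [dif_neg h]
          have hi : i.val + 1 = m + 1 := by omega
          exact Prod.ext (w.2.2 one_ne_zero i hi).symm (w.2.1 i).symm
      right_inv := by
        intro f
        funext i
        simp only [Fin.val_castSucc, i.2, dif_pos] }
  rw [Nat.card_congr e, Nat.card_fun]
  simp

end CfsgLib.QuadF2
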