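import Mathlib
import Cfsg.Agent.LibExForm3
import Cfsg.Agent.LibQuadF2b

/-! extraspecial 2-groups: involution counts and ranks -/

set_option autoImplicit false
set_option linter.all false
open scoped commutatorElement

namespace CfsgLib.ExForm

open CfsgLib.SolvFrat CfsgLib.SolvBasic CfsgLib.QuadF2

universe u v w

section

variable {E : Type u} [Group E] [Finite E] {V : Type v} [AddCommGroup V] [Module (ZMod 2) V]
  [Finite V]

instance fact2 : Fact (Nat.Prime 2) := ⟨Nat.prime_two⟩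

theorem sq_eq_one_iff (D : FormData 2 E V) (x : E) : x ^ 2 = 1 ↔ D.Q (D.π x) = 0 := by
  rw [D.pow]
  constructor
  · intro h
    apply pow_val_inj D.ord
    rw [h, ZMod.val_zero, pow_zero]
  · intro h
    rw [h, ZMod.val_zero, pow_zero]

theorem π_eq_iff (D : FormData 2 E V) (x y : E) : D.π x = D.π y ↔ x⁻¹ * y ∈ Subgroup.zpowers D.z := by
  rw [← D.ker, D.mul, D.inv, neg_add_eq_zero]

theorem card_sq_one_eq (D : FormData 2 E V) :
    Nat.card {x : E // x ^ 2 = 1} = Nat.card {v : V // D.Q v = 0} * 2 := by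
  choose s hs using D.surj
  have e : {x : E // x ^ 2 = 1} ≃ {v : V // D.Q v = 0} × Subgroup.zpowers D.z :=
    { toFun := fun x => (⟨D.π x, (sq_eq_one_iff D x).mp x.2⟩,
        ⟨(s (D.π x))⁻¹ * x, (π_eq_iff D _ _).mp (hs _)⟩)
      invFun := fun y => ⟨s y.1 * y.2, by
        rw [sq_eq_one_iff D, D.mul, hs, (D.ker _).mpr y.2.2, add_zero]
        exact y.1.2⟩
      left_inv := by
        intro x
        apply Subtype.ext
        change s (D.π x) * ((s (D.π x))⁻¹ * x) = x
        rw [mul_inv_cancel_left]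
      right_inv := by
        rintro ⟨⟨v, hv⟩, ⟨w, hw⟩⟩
        have h1 : D.π (s v * w) = v := by
          rw [D.mul, hs, (D.ker _).mpr hw, add_zero]
        refine Prod.ext (Subtype.ext h1) (Subtype.ext ?_)
        change (s (D.π (s v * w)))⁻¹ * (s v * w) = w
        rw [h1, inv_mul_cancel_left] }
  rw [Nat.card_congr e, Nat.card_prod, Nat.card_zpowers, D.ord]

theorem card_sq_one_type {m : ℕ} {t : ZMod 2} (hm : 1 ≤ m) (D : FormData 2 E V)
    (φ : V ≃ₗ[ZMod 2] (Fin m → ZMod 2 × ZMod 2)) (hφ : ∀ v, D.Q v = nf m t (φ v)) :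
    (Nat.card {x : E // x ^ 2 = 1} : ℤ) = 2 ^ (2 * m) + χ t * 2 ^ m := by
  classical
  letI : Fintype V := Fintype.ofFinite V
  rw [card_sq_one_eq D]
  have h1 := two_mul_card_zeros D.Q
  rw [sum_eq_of_nf hm φ hφ, card_of_nf φ] at h1
  have h2 : Nat.card {v : V // D.Q v = 0} = (Finset.univ.filter (fun v : V => D.Q v = 0)).card := by
    rw [Nat.card_eq_fintype_card, Fintype.card_subtype]
  rw [h2]
  push_cast at h1 ⊢
  linarith

/-- preimage of a totally singular subspace -/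
theorem exists_elab_of_singular (D : FormData 2 E V) (hQ : IsQ D.B D.Q)
    (U : Submodule (ZMod 2) V) (hU : ∀ u ∈ U, D.Q u = 0) :
    ∃ A : Subgroup E, Cfsg.IsElementaryAbelian 2 A ∧ Nat.card A = 2 * Nat.card U := by
  let A : Subgroup E :=
    { carrier := {x | D.π x ∈ U}
      one_mem' := by change D.π 1 ∈ U; rw [D.one]; exact U.zero_mem
      mul_mem' := by
        intro a b ha hb
        change D.π (a * b) ∈ U
        rw [D.mul]; exact U.add_mem ha hb
      inv_mem' := by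
        intro a ha
        change D.π a⁻¹ ∈ U
        rw [D.inv]; exact U.neg_mem ha }
  have hA : ∀ x, x ∈ A ↔ D.π x ∈ U := fun x => Iff.rfl
  refine ⟨A, ⟨⟨⟨fun a b => Subtype.ext ?_⟩⟩, ?_⟩, ?_⟩
  · have h1 := D.comm a b
    have h2 : D.B (D.π a) (D.π b) = 0 := by
      have h3 := hQ.add (D.π a) (D.π b)
      rw [hU _ ((hA a).mp a.2), hU _ ((hA b).mp b.2),
        hU _ (U.add_mem ((hA a).mp a.2) ((hA b).mp b.2)), zero_add, zero_add] at h3
      exact h3.symm
    rw [h2, ZMod.val_zero, pow_zero] at h1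
    exact CfsgLib.ExtraH28.comm_eq_one_iff.mp h1
  · intro a ha
    rw [sq_eq_one_iff D]; exact hU _ ((hA a).mp ha)
  · choose s hs using D.surj
    have e : A ≃ U × Subgroup.zpowers D.z :=
      { toFun := fun x => (⟨D.π x, x.2⟩, ⟨(s (D.π x))⁻¹ * x, (π_eq_iff D _ _).mp (hs _)⟩)
        invFun := fun y => ⟨s y.1 * y.2, by
          rw [hA, D.mul, hs, (D.ker _).mpr y.2.2, add_zero]
          exact y.1.2⟩
        left_inv := by
          intro x
          apply Subtype.ext
          change s (D.π x) * ((s (D.π x))⁻¹ * x) = x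
          rw [mul_inv_cancel_left]
        right_inv := by
          rintro ⟨⟨v, hv⟩, ⟨w, hw⟩⟩
          have h1 : D.π (s v * w) = v := by
            rw [D.mul, hs, (D.ker _).mpr hw, add_zero]
          refine Prod.ext (Subtype.ext h1) (Subtype.ext ?_)
          change (s (D.π (s v * w)))⁻¹ * (s v * w) = w
          rw [h1, inv_mul_cancel_left] }
    rw [Nat.card_congr e, Nat.card_prod, Nat.card_zpowers, D.ord, mul_comm]

/-- image of an elementary abelian subgroup -/
theorem exists_singular_of_elab (D : FormData 2 E V)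
    (A : Subgroup E) (hA : IsMulCommutative A) (hAe : ∀ a ∈ A, a ^ 2 = 1) :
    ∃ U : Submodule (ZMod 2) V, (∀ u ∈ U, D.Q u = 0) ∧ Nat.card A ≤ 2 * Nat.card U := by
  let U : Submodule (ZMod 2) V :=
    { carrier := {v | ∃ a ∈ A, D.π a = v}
      zero_mem' := ⟨1, one_mem _, D.one⟩
      add_mem' := by
        rintro _ _ ⟨a, ha, rfl⟩ ⟨b, hb, rfl⟩
        exact ⟨a * b, mul_mem ha hb, D.mul a b⟩
      smul_mem' := by
        rintro c _ ⟨a, ha, rfl⟩
        by_cases hc : c = 0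
        · exact ⟨1, one_mem _, by rw [hc, zero_smul, D.one]⟩
        · exact ⟨a, ha, by rw [eq_one_of_ne hc, one_smul]⟩ }
  refine ⟨U, ?_, ?_⟩
  · rintro _ ⟨a, ha, rfl⟩
    rw [← sq_eq_one_iff]; exact hAe a ha
  · choose s hs using D.surj
    let f : A → U × Subgroup.zpowers D.z := fun x =>
      (⟨D.π x, x, x.2, rfl⟩, ⟨(s (D.π x))⁻¹ * x, (π_eq_iff D _ _).mp (hs _)⟩)
    have hf : Function.Injective f := by
      intro x y hxy
      have h1 : D.π x = D.π y := congrArg (fun q => (q.1 : V)) hxy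
      have h2 : (s (D.π x))⁻¹ * (x : E) = (s (D.π y))⁻¹ * y := congrArg (fun q => (q.2 : E)) hxy
      rw [h1] at h2
      exact Subtype.ext (mul_left_cancel h2)
    have h3 := Nat.card_le_card_of_injective f hf
    rw [Nat.card_prod, Nat.card_zpowers, D.ord, mul_comm] at h3
    exact h3

theorem card_submodule (U : Submodule (ZMod 2) V) :
    Nat.card U = 2 ^ Module.finrank (ZMod 2) U := by
  rw [Module.natCard_eq_pow_finrank (K := ZMod 2) (V := U), Nat.card_zmod]

end

section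

variable {E : Type u} [Group E] [Finite E]

theorem HasType.card_sq_one {m : ℕ} {t : ZMod 2} (hm : 1 ≤ m) (h : HasType E m t) :
    (Nat.card {x : E // x ^ 2 = 1} : ℤ) = 2 ^ (2 * m) + χ t * 2 ^ m := by
  obtain ⟨V, _, _, _, D, φ, hD, hQ, hφ⟩ := h
  exact card_sq_one_type hm D φ hφ

theorem HasType.card {m : ℕ} {t : ZMod 2} (h : HasType E m t) : Nat.card E = 2 ^ (2 * m + 1) := by
  obtain ⟨V, _, _, _, D, φ, hD, hQ, hφ⟩ := h
  letI : Fintype V := Fintype.ofFinite V
  rw [D.card_eq, Nat.card_eq_fintype_card, card_of_nf φ, pow_succ, mul_comm]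

theorem HasType.elab_le {m : ℕ} {t : ZMod 2} (h : HasType E m t)
    (A : Subgroup E) (hA : IsMulCommutative A) (hAe : ∀ a ∈ A, a ^ 2 = 1) :
    Nat.card A ≤ 2 ^ (m + 1) := by
  obtain ⟨V, _, _, _, D, φ, hD, hQ, hφ⟩ := h
  letI : Fintype V := Fintype.ofFinite V
  obtain ⟨U, hU, hle⟩ := exists_singular_of_elab D A hA hAe
  have h1 := two_mul_finrank_le hQ U hU
  rw [finrank_of_nf φ] at h1
  rw [card_submodule] at hle
  refine hle.trans ?_
  rw [pow_succ, mul_comm]
  exact Nat.mul_le_mul_right 2 (Nat.pow_le_pow_right (by norm_num) (by omega))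

theorem HasType.elab_le_one {m : ℕ} (hm : 1 ≤ m) (h : HasType E m 1)
    (A : Subgroup E) (hA : IsMulCommutative A) (hAe : ∀ a ∈ A, a ^ 2 = 1) :
    Nat.card A ≤ 2 ^ m := by
  obtain ⟨V, _, _, _, D, φ, hD, hQ, hφ⟩ := h
  letI : Fintype V := Fintype.ofFinite V
  obtain ⟨U, hU, hle⟩ := exists_singular_of_elab D A hA hAe
  have h1 : ¬ m ≤ Module.finrank (ZMod 2) U := by
    intro hd
    exact one_ne_zero (type_zero_of_singular hQ hm φ hφ U hU hd)
  rw [card_submodule] at hle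
  refine hle.trans ?_
  obtain ⟨k, rfl⟩ : ∃ k, m = k + 1 := ⟨m - 1, by omega⟩
  rw [pow_succ, mul_comm]
  exact Nat.mul_le_mul_right 2 (Nat.pow_le_pow_right (by norm_num) (by omega))

theorem HasType.exists_elab_zero {m : ℕ} (h : HasType E m 0) :
    ∃ A : Subgroup E, Cfsg.IsElementaryAbelian 2 A ∧ Nat.card A = 2 ^ (m + 1) := by
  obtain ⟨V, _, _, _, D, φ, hD, hQ, hφ⟩ := h
  obtain ⟨A, hA, hc⟩ := exists_elab_of_singular D hQ ((U₀ m 0).comap φ.toLinearMap) (by
    intro u hu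
    rw [hφ]; exact nf_U₀ m 0 _ hu)
  refine ⟨A, hA, ?_⟩
  have h1 : Nat.card ((U₀ m 0).comap φ.toLinearMap) = 2 ^ m := by
    rw [← card_U₀_zero m]
    exact Nat.card_congr (φ.toEquiv.subtypeEquiv (fun v => Iff.rfl))
  rw [hc, h1, pow_succ, mul_comm]

theorem HasType.exists_elab_one {m : ℕ} (hm : 1 ≤ m) (h : HasType E m 1) :
    ∃ A : Subgroup E, Cfsg.IsElementaryAbelian 2 A ∧ Nat.card A = 2 ^ m := by
  obtain ⟨V, _, _, _, D, φ, hD, hQ, hφ⟩ := h
  obtain ⟨k, rfl⟩ : ∃ k, m = k + 1 := ⟨m - 1, by omega⟩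
  obtain ⟨A, hA, hc⟩ := exists_elab_of_singular D hQ ((U₀ (k + 1) 1).comap φ.toLinearMap) (by
    intro u hu
    rw [hφ]; exact nf_U₀ (k + 1) 1 _ hu)
  refine ⟨A, hA, ?_⟩
  have h1 : Nat.card ((U₀ (k + 1) 1).comap φ.toLinearMap) = 2 ^ k := by
    rw [← card_U₀_one k]
    exact Nat.card_congr (φ.toEquiv.subtypeEquiv (fun v => Iff.rfl))
  rw [hc, h1, pow_succ, mul_comm]

/-- plus type iff there is an elementary abelian subgroup of order `2^(m+1)` -/
theorem HasType.eq_zero_iff {m : ℕ} {t : ZMod 2} (hm : 1 ≤ m) (h : HasType E m t) :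
    t = 0 ↔ ∃ A : Subgroup E, Cfsg.IsElementaryAbelian 2 A ∧ Nat.card A = 2 ^ (m + 1) := by
  constructor
  · rintro rfl
    exact h.exists_elab_zero
  · rintro ⟨A, hA, hc⟩
    by_contra ht
    rw [eq_one_of_ne ht] at h
    have h1 := h.elab_le_one hm A hA.1 hA.2
    rw [hc, pow_succ] at h1
    have : 0 < 2 ^ m := by positivity
    omega

end

end CfsgLib.ExForm
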