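import Mathlib
import Cfsg.Agent.LibExtend4
import Cfsg.Agent.LibClifford2

/-!
# Degrees above an invariant character (helper20)

`mult_dvd_index` : if `χ_N = e θ` then `e` divides `|G : N|`.
-/

set_option autoImplicit false
set_option linter.all false

namespace CfsgLib.Extend

open Cfsg CfsgLib.CharBasic CfsgLib.Clifford
open scoped Pointwise ComplexConjugate

universe u v w

section
variable {G : Type u} [Group G] [Finite G] {N : Subgroup G} [hN : N.Normal]

section Fin
variable {V : Type v} [AddCommGroup V] [Module ℂ V] [FiniteDimensional ℂ V] (ρ : Representation ℂ N V)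
    [hρ : ρ.IsIrreducible]

/-- power of the determinant on `Gam` -/
noncomputable def detPow (ρ : Representation ℂ N V) (k : ℕ) : Gam N ρ →* ℂˣ :=
  (powMonoidHom k).comp ((Units.map (LinearMap.det : (V →ₗ[ℂ] V) →* ℂ)).comp (mat N ρ))

theorem detPow_ia (k : ℕ) (c : ℂˣ) : detPow ρ k (ia N ρ c) = c ^ (k * Module.finrank ℂ V) := by
  apply Units.ext
  unfold detPow
  simp only [MonoidHom.comp_apply, mat_ia, powMonoidHom_apply]
  have h1 : ((Units.map (LinearMap.det : (V →ₗ[ℂ] V) →* ℂ) (sc c) : ℂˣ) : ℂ) = (c : ℂ) ^ Module.finrank ℂ V := by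
    show LinearMap.det ((sc c : (V →ₗ[ℂ] V)ˣ) : V →ₗ[ℂ] V) = _
    rw [sc_val, LinearMap.det_smul, LinearMap.det_id, mul_one]
  rw [Units.val_pow_eq_pow_val, h1, ← pow_mul, mul_comm]
  norm_cast

theorem detPow_nt (n : N) : detPow ρ (Nat.card N) (nt N ρ n) = 1 := by
  unfold detPow
  simp only [MonoidHom.comp_apply, powMonoidHom_apply]
  rw [← map_pow, ← map_pow, ← map_pow, pow_card_eq_one', map_one, map_one, map_one]

theorem exists_pow_unit {k : ℕ} (hk : k ≠ 0) (a : ℂˣ) : ∃ e : ℂˣ, e ^ k = a := by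
  obtain ⟨z, hz⟩ := IsAlgClosed.exists_pow_nat_eq (a : ℂ) (Nat.pos_of_ne_zero hk)
  have hz0 : z ≠ 0 := by
    rintro rfl
    rw [zero_pow hk] at hz
    exact a.ne_zero hz.symm
  exact ⟨Units.mk0 z hz0, Units.ext (by simpa using hz)⟩

/-- the finite version of `Gam` -/
noncomputable def GamF : Subgroup (Gam N ρ) := (detPow ρ (Nat.card N)).ker

noncomputable def prF : GamF ρ →* G := (pr N ρ).comp (GamF ρ).subtype

noncomputable def ntF : N →* GamF ρ := (nt N ρ).codRestrict _ fun n => by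
  rw [GamF, MonoidHom.mem_ker, detPow_nt]

theorem prF_ntF (n : N) : prF ρ (ntF ρ n) = n := rfl

include hρ in
theorem finrank_ne_zero' : Nat.card N * Module.finrank ℂ V ≠ 0 :=
  Nat.mul_ne_zero Nat.card_pos.ne' (irr_finrank_pos ρ).ne'

theorem prF_surjective (hinv : Inv N ρ.character) : Function.Surjective (prF ρ) := by
  intro g
  obtain ⟨x, hx⟩ := surj_of_inv hinv g
  obtain ⟨c, hc⟩ := exists_pow_unit (finrank_ne_zero' ρ) (detPow ρ (Nat.card N) x)⁻¹
  refine ⟨⟨ia N ρ c * x, ?_⟩, ?_⟩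
  · rw [GamF, MonoidHom.mem_ker, map_mul, detPow_ia, hc, inv_mul_cancel]
  · show pr N ρ (ia N ρ c * x) = g
    rw [map_mul, pr_ia, one_mul, hx]

theorem schurF {x y : GamF ρ} (h : prF ρ x = prF ρ y) :
    ∃ c : ℂˣ, c ^ (Nat.card N * Module.finrank ℂ V) = 1 ∧ (x : Gam N ρ) = ia N ρ c * y := by
  obtain ⟨c, hc⟩ := schur_gam h
  refine ⟨c, ?_, hc⟩
  have h1 : detPow ρ (Nat.card N) (x : Gam N ρ) = detPow ρ (Nat.card N) (ia N ρ c * (y : Gam N ρ)) :=
    congrArg (detPow ρ (Nat.card N)) hc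
  rw [map_mul, detPow_ia, MonoidHom.mem_ker.mp x.2, MonoidHom.mem_ker.mp y.2, mul_one] at h1
  exact h1.symm

theorem finite_gamF (hinv : Inv N ρ.character) : Finite (GamF ρ) := by
  classical
  set K := Nat.card N * Module.finrank ℂ V with hK
  haveI : NeZero K := ⟨finrank_ne_zero' ρ⟩
  obtain ⟨s, hs⟩ := (prF_surjective ρ hinv).hasRightInverse
  have hex : ∀ x : GamF ρ, ∃ c : rootsOfUnity K ℂ, (x : Gam N ρ) = ia N ρ c * s (prF ρ x) := by
    intro x
    obtain ⟨c, hc1, hc2⟩ := schurF ρ (x := x) (y := s (prF ρ x)) (hs _).symm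
    exact ⟨⟨c, by rwa [mem_rootsOfUnity]⟩, hc2⟩
  choose c hc using hex
  apply Finite.of_injective (fun x : GamF ρ => (prF ρ x, c x))
  intro x y hxy
  simp only [Prod.mk.injEq] at hxy
  apply Subtype.ext
  rw [hc x, hc y, hxy.1, hxy.2]

instance ntF_range_normal : (ntF ρ).range.Normal := by
  refine ⟨?_⟩
  rintro _ ⟨n, rfl⟩ x
  refine ⟨MulAut.conjNormal (pr N ρ x) n, ?_⟩
  apply Subtype.ext
  exact (nt_conj (x : Gam N ρ) n).symm

noncomputable def repF : Representation ℂ (GamF ρ) V := (Units.coeHom _).comp ((mat N ρ).comp (GamF ρ).subtype)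

theorem repF_ntF (n : N) : repF ρ (ntF ρ n) = ρ n := rfl

end Fin

/-- the multiplicity divides the index -/
theorem mult_dvd_index [Fintype G] [Fintype N] {θ : N → ℂ} (hθ : IsIrrCharacter N θ) (hinv : Inv N θ) {χ : G → ℂ} (hχ : IsIrrCharacter G χ)
    (h : classInner (fun n : N => χ n) θ ≠ 0) : ∃ e : ℕ, χ 1 = e * θ 1 ∧ e ∣ N.index := by
  classical
  obtain ⟨m, ρ, hρ, rfl⟩ := hθ
  haveI := finite_gamF ρ hinv
  haveI := Fintype.ofFinite (GamF ρ)
  set M := (ntF ρ).range with hM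
  haveI := Fintype.ofFinite M
  let e : N →* M := (ntF ρ).rangeRestrict
  have he : Function.Surjective e := (ntF ρ).rangeRestrict_surjective
  -- the two characters
  set T := (repF ρ).character with hT
  have hTc : IsCharacter (GamF ρ) T := isCharacter_character _
  have hTN : IsIrrCharacter M (fun y : M => T y) := by
    rw [← CfsgLib.CharMore.irr_comp_surj_iff e he (isCharacter_restrict hTc M)]
    exact ⟨m, ρ, hρ, rfl⟩
  have hTirr : IsIrrCharacter (GamF ρ) T := irr_of_restrict hTc M hTN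
  set X : GamF ρ → ℂ := χ ∘ prF ρ with hX
  have hXirr : IsIrrCharacter (GamF ρ) X :=
    (CfsgLib.CharMore.irr_comp_surj_iff (prF ρ) (prF_surjective ρ hinv) (irr_isCharacter hχ)).mpr hχ
  have hm : classInner (fun y : M => X y) (fun y : M => T y) ≠ 0 := by
    have := CfsgLib.CharMore.ci_comp_surj e he (fun y : M => X y) (fun y : M => T y)
    rw [← this]
    exact h
  obtain ⟨h1, h2⟩ := CfsgLib.Gallagher.gallagher_exists M hTirr hTN hXirr hm
  set η := CfsgLib.Gallagher.avg M (fun g => X g * conj (T g)) with hη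
  have hηM : ∀ (y : M) (x : GamF ρ), η (y * x) = η x := fun y x => CfsgLib.Gallagher.avg_mul_left M _ y x
  have hT1 : T 1 ≠ 0 := CfsgLib.CharInt.irr_one_ne_zero hTirr
  have hTch : T 1 = ρ.character 1 := by
    rw [hT, Representation.char_one, Representation.char_one]
  refine ⟨charDegree η, ?_, ?_⟩
  · have h3 := congrFun h2 1
    simp only [hX, Function.comp_apply, map_one] at h3
    rw [← h3, CfsgLib.CharInt.irr_one_eq_charDegree h1, hTch]
  · have h4 := CfsgLib.CharMore.degree_dvd_index_of_scalar h1 (N.comap (prF ρ)) (by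
      intro x hx
      obtain ⟨c, hc, hxc⟩ := schurF ρ (x := x) (y := ntF ρ ⟨prF ρ x, hx⟩) rfl
      -- the scalar
      have hz : ia N ρ c ∈ GamF ρ := by
        rw [GamF, MonoidHom.mem_ker, detPow_ia, hc]
      set z : GamF ρ := ⟨ia N ρ c, hz⟩ with hzdef
      have hxz : x = z * ntF ρ ⟨prF ρ x, hx⟩ := Subtype.ext hxc
      have hcomm : z * ntF ρ ⟨prF ρ x, hx⟩ = ntF ρ ⟨prF ρ x, hx⟩ * z := Subtype.ext (ia_comm _ _)
      have h5 : η x = η z := by
        rw [hxz, hcomm]
        exact hηM ⟨_, ⟨_, rfl⟩⟩ z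
      have h6 := congrFun h2 z
      have h7 := congrFun h2 1
      simp only [hX, Function.comp_apply, map_one] at h6 h7
      have h8 : prF ρ z = 1 := rfl
      have h9 : T z = (c : ℂ) * T 1 := by
        rw [hT, Representation.char_one]
        show LinearMap.trace ℂ _ ((sc c : ((Fin m → ℂ) →ₗ[ℂ] (Fin m → ℂ))ˣ) : (Fin m → ℂ) →ₗ[ℂ] (Fin m → ℂ)) = _
        rw [sc_val, map_smul, LinearMap.trace_id, smul_eq_mul]
      rw [h8, h9, ← h7] at h6
      have hcn : ‖(c : ℂ)‖ = 1 := by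
        apply norm_one_of_pow (finrank_ne_zero' ρ)
        rw [← Units.val_pow_eq_pow_val, hc, Units.val_one]
      have h10 : η z * c = η 1 := by
        apply mul_right_cancel₀ hT1
        rw [← h6]; ring
      have h11 : ‖η z‖ = ‖η 1‖ := by
        rw [← h10, norm_mul, hcn, mul_one]
      rw [h5, h11, CfsgLib.CharInt.irr_one_eq_charDegree h1]
      simp)
    rwa [Subgroup.index_comap_of_surjective _ (prF_surjective ρ hinv)] at h4

theorem inv_iff_cj {θ : N → ℂ} : Inv N θ ↔ ∀ g : G, cj hN g θ = θ :=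
  ⟨fun h g => funext fun n => h g n, fun h g n => congrFun (h g) n⟩

/-- the degree ratio divides the index -/
theorem ratio_dvd_index [Fintype G] [Fintype N] {θ : N → ℂ} (hθ : IsIrrCharacter N θ) {χ : G → ℂ} (hχ : IsIrrCharacter G χ)
    (h : classInner (fun n : N => χ n) θ ≠ 0) : ∃ e : ℕ, χ 1 = e * θ 1 ∧ e ∣ N.index := by
  classical
  set T := inertia hN θ with hT
  have hNT : N ≤ T := le_inertia hN (irr_classFun hθ)
  haveI := Fintype.ofFinite T
  haveI := Fintype.ofFinite (N.subgroupOf T)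
  obtain ⟨ψ, hψ, hψm, hψind, -⟩ := clifford_corr_surj hN hNT hθ (fun g => mem_inertia hN) hχ h
  haveI hNTn : (N.subgroupOf T).Normal := subgroupOf_normal hN T
  have hinv : Inv (N.subgroupOf T) (toSub T θ) := by
    rw [inv_iff_cj]
    intro t
    rw [cj_toSub hN, (mem_inertia hN).mp t.2]
  obtain ⟨e, he, hdvd⟩ := mult_dvd_index ((toSub_irr hNT).mpr hθ) hinv hψ (by
    have := ci_toSub hNT (resT hNT ψ) θ
    rw [toSub_resT] at this
    rw [this]; exact hψm)
  refine ⟨T.index * e, ?_, ?_⟩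
  · rw [← hψind, CfsgLib.CharIndA.ind_one, he]
    push_cast
    have : toSub T θ 1 = θ 1 := rfl
    rw [this]; ring
  · rw [← Subgroup.relIndex_mul_index hNT, mul_comm]
    exact Nat.mul_dvd_mul_right hdvd _

end

end CfsgLib.Extend
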