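import Cfsg.Agent.LibGlaub
/-!
# Glauberman correspondence, subgroup form (helper20)
`S` normalises `G` inside `Γ`.
-/
set_option autoImplicit false
set_option linter.all false
open scoped ComplexConjugate
open Cfsg
namespace CfsgLib.GlaubG
open CfsgLib CfsgLib.CharBasic CfsgLib.CharIndA CfsgLib.Clifford CfsgLib.Glaub

universe u v

section Defs
variable {Γ : Type u} [Group Γ] (G S : Subgroup Γ) (hnorm : ∀ s ∈ S, ∀ g ∈ G, s * g * s⁻¹ ∈ G)

/-- conjugation action of `S` on `G` -/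
def conjHom : S →* MulAut G where
  toFun s :=
    { toFun := fun g => ⟨(s : Γ) * g * (s : Γ)⁻¹, hnorm s s.2 g g.2⟩
      invFun := fun g => ⟨(s : Γ)⁻¹ * g * s, by
        have := hnorm (s : Γ)⁻¹ (S.inv_mem s.2) g g.2
        rwa [inv_inv] at this⟩
      left_inv := fun g => by
        apply Subtype.ext
        change (s : Γ)⁻¹ * ((s : Γ) * g * (s : Γ)⁻¹) * s = g
        group
      right_inv := fun g => by
        apply Subtype.ext
        change (s : Γ) * ((s : Γ)⁻¹ * g * s) * (s : Γ)⁻¹ = g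
        group
      map_mul' := fun g h => by
        apply Subtype.ext
        change (s : Γ) * ((g : Γ) * h) * (s : Γ)⁻¹ = ((s : Γ) * g * (s : Γ)⁻¹) * ((s : Γ) * h * (s : Γ)⁻¹)
        group }
  map_one' := by
    ext g
    change (1 : Γ) * g * (1 : Γ)⁻¹ = g
    simp
  map_mul' := fun s t => by
    ext g
    change ((s : Γ) * t) * g * ((s : Γ) * t)⁻¹ = (s : Γ) * ((t : Γ) * g * (t : Γ)⁻¹) * (s : Γ)⁻¹
    group

theorem conjHom_apply (s : S) (g : G) : ((conjHom G S hnorm s g : G) : Γ) = (s : Γ) * g * (s : Γ)⁻¹ := rfl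

theorem inv_iff (χ : G → ℂ) : Inv (conjHom G S hnorm) χ ↔
    ∀ s ∈ S, ∀ g g' : G, (g' : Γ) = s * g * s⁻¹ → χ g' = χ g := by
  constructor
  · intro h s hs g g' hg
    have h1 := h ⟨s, hs⟩ g
    have h2 : conjHom G S hnorm ⟨s, hs⟩ g = g' := Subtype.ext hg.symm
    rwa [h2] at h1
  · intro h s g
    exact h s s.2 g _ rfl

theorem fix_eq (C : Subgroup Γ) (hC : C = G ⊓ Subgroup.centralizer (S : Set Γ)) :
    C.subgroupOf G = fix (conjHom G S hnorm) := by
  ext g
  rw [Subgroup.mem_subgroupOf, hC, Subgroup.mem_inf, Subgroup.mem_centralizer_iff, mem_fix]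
  constructor
  · rintro ⟨-, h⟩ s
    apply Subtype.ext
    rw [conjHom_apply, h s s.2, mul_inv_cancel_right]
  · intro h
    refine ⟨g.2, fun s hs => ?_⟩
    have h1 : s * (g : Γ) * s⁻¹ = g := congrArg Subtype.val (h ⟨s, hs⟩)
    have h2 : s * (g : Γ) * s⁻¹ * s = g * s := by
      rw [h1]
    rwa [inv_mul_cancel_right] at h2

end Defs

section Trans
variable {Γ : Type u} [Group Γ] [Fintype Γ] {C G : Subgroup Γ} [Fintype G] [Fintype C] (hCG : C ≤ G)

include hCG in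
theorem exists_toSub (β' : C.subgroupOf G → ℂ) : ∃ β : C → ℂ, toSub G β = β' := by
  refine ⟨fun c => β' ⟨⟨c, hCG c.2⟩, Subgroup.mem_subgroupOf.mpr c.2⟩, ?_⟩
  ext x
  rfl

theorem ci_eq [Fintype (C.subgroupOf G)] (χ : G → ℂ) (β : C → ℂ) :
    classInner (fun x : C.subgroupOf G => χ x) (toSub G β) = classInner (fun c : C => χ ⟨c, hCG c.2⟩) β := by
  rw [← ci_toSub hCG]; rfl

theorem star_iff [Fintype (C.subgroupOf G)] (p : ℕ) (χ : G → ℂ) (β : C → ℂ) : Glaub.Star (C.subgroupOf G) p χ (toSub G β) ↔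
    ∃ m : ℕ, classInner (fun c : C => χ ⟨c, hCG c.2⟩) β = m ∧ ¬ p ∣ m := by
  unfold Glaub.Star
  rw [ci_eq hCG]

end Trans
end CfsgLib.GlaubG
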