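import Mathlib
import Cfsg.Agent.LibExtend5
import Cfsg.Agent.LibBrauerInd
import Cfsg.Agent.LibGlaubG

/-!
# Dade's elementary subgroup theorem (helper20)
-/

set_option autoImplicit false
set_option linter.all false

namespace CfsgLib.Extend

open Cfsg CfsgLib.CharBasic CfsgLib.Clifford
open scoped Pointwise ComplexConjugate

universe u v w

section
variable {G : Type u} [Group G] [Fintype G] {N : Subgroup G} [hN : N.Normal]

theorem sum_ind_mul [Fintype N] (H : Subgroup G) [Fintype H] [Fintype ↥(H ⊓ N)] (ψ : H → ℂ) (F : N → ℂ) (hF : Inv N F) :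
    ∑ n : N, indFun H ψ n * F n =
      (Nat.card G : ℂ) / Nat.card H * ∑ y : ↥(H ⊓ N), ψ ⟨y, y.2.1⟩ * F ⟨y, y.2.2⟩ := by
  classical
  have h1 : ∀ x : G, ∑ n : N, extendByZero H ψ (x⁻¹ * n * x) * F n = ∑ n : N, extendByZero H ψ n * F n := by
    intro x
    refine Fintype.sum_equiv (MulAut.conjNormal x⁻¹ : MulAut N).toEquiv _ _ fun n => ?_
    have e1 : (((MulAut.conjNormal x⁻¹ : MulAut N).toEquiv n : N) : G) = x⁻¹ * n * x := by
      show ((MulAut.conjNormal x⁻¹ n : N) : G) = _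
      rw [MulAut.conjNormal_apply, inv_inv]
    rw [e1]
    congr 1
    have := hF x⁻¹ n
    rw [← this]
    congr 1
  have h2 : ∑ n : N, extendByZero H ψ n * F n = ∑ y : ↥(H ⊓ N), ψ ⟨y, y.2.1⟩ * F ⟨y, y.2.2⟩ := by
    rw [← Finset.sum_filter_add_sum_filter_not Finset.univ (fun n : N => (n : G) ∈ H)]
    have h3 : ∑ n ∈ Finset.univ.filter (fun n : N => ¬ (n : G) ∈ H), extendByZero H ψ (n : G) * F n = 0 := by
      apply Finset.sum_eq_zero
      intro n hn
      rw [Finset.mem_filter] at hn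
      rw [CfsgLib.CharIndA.ext_not_mem H ψ hn.2, zero_mul]
    rw [h3, add_zero]
    symm
    refine Finset.sum_bij (fun (y : ↥(H ⊓ N)) _ => (⟨y, y.2.2⟩ : N)) ?_ ?_ ?_ ?_
    · intro y _
      rw [Finset.mem_filter]
      exact ⟨Finset.mem_univ _, y.2.1⟩
    · intro y _ z _ h
      exact Subtype.ext (congrArg (fun n : N => (n : G)) h)
    · intro n hn
      rw [Finset.mem_filter] at hn
      exact ⟨⟨n, hn.2, n.2⟩, Finset.mem_univ _, rfl⟩
    · intro y _
      rw [CfsgLib.CharIndA.ext_mem H ψ y.2.1]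
  calc ∑ n : N, indFun H ψ n * F n = ∑ n : N, (Nat.card H : ℂ)⁻¹ * ∑ x : G, extendByZero H ψ (x⁻¹ * n * x) * F n := by
        refine Finset.sum_congr rfl fun n _ => ?_
        rw [CfsgLib.CharIndA.ind_apply, mul_assoc, Finset.sum_mul]
    _ = (Nat.card H : ℂ)⁻¹ * ∑ x : G, ∑ n : N, extendByZero H ψ (x⁻¹ * n * x) * F n := by
        rw [← Finset.mul_sum, Finset.sum_comm]
    _ = _ := by
        rw [Finset.sum_congr rfl fun x _ => h1 x, Finset.sum_const, Finset.card_univ, ← Nat.card_eq_fintype_card, nsmul_eq_mul, h2]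
        ring

omit [Fintype G] in
theorem card_mul_relIndex [Finite G] {A B : Subgroup G} (h : A ≤ B) : Nat.card A * A.relIndex B = Nat.card B := by
  rw [← Subgroup.card_mul_index (A.subgroupOf B), Nat.card_congr (Subgroup.subgroupOfEquivOfLe h).toEquiv]
  rfl

theorem card_formula (H : Subgroup G) : Nat.card G * Nat.card ↥(H ⊓ N) = Nat.card N * Nat.card H * (H ⊔ N).index := by
  have h1 : Nat.card ↥(H ⊔ N) * (H ⊔ N).index = Nat.card G := Subgroup.card_mul_index _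
  have h2 : Nat.card ↥(H ⊔ N) * Nat.card ↥(H ⊓ N) = Nat.card H * Nat.card N := by
    have h3 : N.relIndex (H ⊔ N) = N.relIndex H := by rw [Subgroup.relIndex_sup_right]
    have h4 : Nat.card N * N.relIndex (H ⊔ N) = Nat.card ↥(H ⊔ N) := by
      exact card_mul_relIndex le_sup_right
    have h5 : Nat.card ↥(H ⊓ N) * N.relIndex H = Nat.card H := by
      rw [← Subgroup.inf_relIndex_left]
      exact card_mul_relIndex inf_le_left
    rw [← h4, h3, ← h5]; ring
  rw [← h1, mul_right_comm, h2]; ring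

/-- if `|G : N|` is a power of `p`, a Sylow `p`-subgroup of `E` covers `E / E ⊓ N` -/
theorem exists_sylow_mul (p : ℕ) [Fact p.Prime] (hind : ∃ k : ℕ, N.index = p ^ k) (E : Subgroup G) (Q : Sylow p E) :
    ∀ g ∈ E, ∃ q ∈ (Q : Subgroup E).map E.subtype, ∃ d ∈ E ⊓ N, g = q * d := by
  have hp : p.Prime := Fact.out
  have hnorm : ∀ s ∈ E, ∀ g ∈ E ⊓ N, s * g * s⁻¹ ∈ E ⊓ N := by
    intro s hs g hg
    exact ⟨E.mul_mem (E.mul_mem hs hg.1) (E.inv_mem hs), hN.conj_mem g hg.2 s⟩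
  have h1 : (Q : Subgroup E) ⊔ (E ⊓ N).subgroupOf E = ⊤ := by
    rw [← Subgroup.index_eq_one]
    by_contra hne
    obtain ⟨q, hq, hqd⟩ := Nat.exists_prime_and_dvd hne
    have h2 : q ∣ (Q : Subgroup E).index := hqd.trans (Subgroup.index_dvd_of_le le_sup_left)
    have h3 : q ∣ ((E ⊓ N).subgroupOf E).index := hqd.trans (Subgroup.index_dvd_of_le le_sup_right)
    have h4 : ((E ⊓ N).subgroupOf E).index ∣ N.index := by
      show (E ⊓ N).relIndex E ∣ _
      rw [Subgroup.inf_relIndex_left]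
      exact Subgroup.relIndex_dvd_index_of_normal N E
    obtain ⟨k, hk⟩ := hind
    rw [hk] at h4
    have h5 := (Nat.prime_dvd_prime_iff_eq hq hp).mp (hq.dvd_of_dvd_pow (h3.trans h4))
    rw [h5] at h2
    exact Q.not_dvd_index h2
  haveI : ((E ⊓ N).subgroupOf E).Normal := by
    refine ⟨fun x hx y => ?_⟩
    rw [Subgroup.mem_subgroupOf] at hx ⊢
    exact hnorm y y.2 x hx
  intro g hg
  have h6 : (⟨g, hg⟩ : E) ∈ ((Q : Subgroup E) : Set E) * (((E ⊓ N).subgroupOf E : Subgroup E) : Set E) := by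
    rw [← Subgroup.mul_normal, h1]; trivial
  obtain ⟨q, hq, d, hd, hqd⟩ := h6
  refine ⟨q, ⟨q, hq, rfl⟩, d, Subgroup.mem_subgroupOf.mp hd, ?_⟩
  exact (congrArg Subtype.val hqd).symm

/-- the pairing with `|θ|²` as a natural number -/
theorem pairing [Fintype N] {θ : N → ℂ} (hθ : IsIrrCharacter N θ) (hinv : Inv N θ) (H : Subgroup G) {ψ : H → ℂ} (hψ : IsCharacter H ψ)
    [Fintype ↥(H ⊓ N)] :
    ∃ b : ℕ, classInner (fun y : ↥(H ⊓ N) => ψ ⟨y, y.2.1⟩ * θ ⟨y, y.2.2⟩) (fun y : ↥(H ⊓ N) => θ ⟨y, y.2.2⟩) = b ∧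
      (Nat.card N : ℂ)⁻¹ * ∑ n : N, indFun H ψ n * (θ n * conj (θ n)) = ((H ⊔ N).index * b : ℕ) := by
  classical
  haveI := Fintype.ofFinite H
  have hc1 : IsCharacter ↥(H ⊓ N) (fun y : ↥(H ⊓ N) => θ ⟨y, y.2.2⟩) :=
    isCharacter_comp (irr_isCharacter hθ) (Subgroup.inclusion (inf_le_right : H ⊓ N ≤ N))
  have hc2 : IsCharacter ↥(H ⊓ N) (fun y : ↥(H ⊓ N) => ψ ⟨y, y.2.1⟩) :=
    isCharacter_comp hψ (Subgroup.inclusion (inf_le_left : H ⊓ N ≤ H))
  obtain ⟨b, hb⟩ := char_mult (isCharacter_mul hc2 hc1) hc1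
  refine ⟨b, hb, ?_⟩
  have hF : Inv N (fun n => θ n * conj (θ n)) := by
    intro g n
    simp only
    rw [hinv g n]
  rw [sum_ind_mul H ψ _ hF]
  have hb' : ∑ y : ↥(H ⊓ N), ψ ⟨y, y.2.1⟩ * (θ ⟨y, y.2.2⟩ * conj (θ ⟨y, y.2.2⟩)) = (Nat.card ↥(H ⊓ N) : ℂ) * b := by
    have h0 : (Nat.card ↥(H ⊓ N) : ℂ) ≠ 0 := by exact_mod_cast Nat.card_pos.ne'
    rw [← hb]
    unfold classInner
    rw [← mul_assoc, mul_inv_cancel₀ h0, one_mul]
    exact Finset.sum_congr rfl fun y _ => by simp only [Pi.mul_apply]; ring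
  rw [hb']
  have hcard := card_formula (N := N) H
  have hN0 : (Nat.card N : ℂ) ≠ 0 := by exact_mod_cast Nat.card_pos.ne'
  have hH0 : (Nat.card H : ℂ) ≠ 0 := by exact_mod_cast Nat.card_pos.ne'
  have hcard' : (Nat.card G : ℂ) * Nat.card ↥(H ⊓ N) = Nat.card N * Nat.card H * (H ⊔ N).index := by exact_mod_cast hcard
  push_cast
  field_simp
  linear_combination (b : ℂ) * hcard'

/-- choice of the elementary subgroup -/
theorem exists_elementary [Fintype N] (p : ℕ) (hp : p.Prime) {θ : N → ℂ} (hθ : IsIrrCharacter N θ) (hinv : Inv N θ) :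
    ∃ (E : Subgroup G) (ψ : E → ℂ), IsElementary p E ∧ IsCharacter E ψ ∧ ∃ b : ℕ, ¬ p ∣ (E ⊔ N).index * b ∧
      ∀ [Fintype ↥(E ⊓ N)], classInner (fun y : ↥(E ⊓ N) => ψ ⟨y, y.2.1⟩ * θ ⟨y, y.2.2⟩) (fun y : ↥(E ⊓ N) => θ ⟨y, y.2.2⟩) = b := by
  classical
  obtain ⟨m, hm, hmem⟩ := CfsgLib.BrauerInd.exists_int_smul_one (G := G) p hp
  obtain ⟨l, hl, hl'⟩ := CfsgLib.BrauerInd.exists_list hmem
  by_contra hcon
  push Not at hcon
  apply hm
  let L : (G → ℂ) →ₗ[ℂ] ℂ :=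
    { toFun := fun f => (Nat.card N : ℂ)⁻¹ * ∑ n : N, f n * (θ n * conj (θ n))
      map_add' := by
        intro f g
        simp only [Pi.add_apply, add_mul, Finset.sum_add_distrib, mul_add]
      map_smul' := by
        intro c f
        simp only [Pi.smul_apply, smul_eq_mul, RingHom.id_apply, mul_assoc, ← Finset.mul_sum]
        ring }
  have hpart : ∀ t ∈ l, ∃ z : ℤ, L ((t.2.2 : ℂ) • indFun t.1 t.2.1) = (p : ℂ) * z := by
    intro t ht
    haveI := Fintype.ofFinite ↥(t.1 ⊓ N)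
    obtain ⟨b, hb1, hb2⟩ := pairing hθ hinv t.1 (hl t ht).2
    have h1 : p ∣ (t.1 ⊔ N).index * b := by
      by_contra hnd
      obtain ⟨inst, hne⟩ := hcon t.1 t.2.1 (hl t ht).1 (hl t ht).2 b hnd
      apply hne
      rw [← hb1]
      congr!
    obtain ⟨k, hk⟩ := h1
    refine ⟨t.2.2 * k, ?_⟩
    rw [map_smul]
    have h2 : L (indFun t.1 t.2.1) = (((t.1 ⊔ N).index * b : ℕ) : ℂ) := hb2
    rw [h2, hk, smul_eq_mul]
    push_cast; ring
  have hsum : ∀ l' : List ((E : Subgroup G) × ((E → ℂ) × ℤ)), (∀ t ∈ l', ∃ z : ℤ, L ((t.2.2 : ℂ) • indFun t.1 t.2.1) = (p : ℂ) * z) →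
      ∃ z : ℤ, L ((l'.map fun t => (t.2.2 : ℂ) • indFun t.1 t.2.1).sum) = (p : ℂ) * z := by
    intro l'
    induction l' with
    | nil => intro _; exact ⟨0, by simp⟩
    | cons t l' ih =>
      intro h
      obtain ⟨z, hz⟩ := h t (by simp)
      obtain ⟨w, hw⟩ := ih (fun t ht => h t (by simp [ht]))
      refine ⟨z + w, ?_⟩
      rw [List.map_cons, List.sum_cons, map_add, hz, hw]
      push_cast; ring
  obtain ⟨z, hz⟩ := hsum l hpart
  rw [← hl'] at hz
  have h3 : L ((m : ℤ) • (1 : G → ℂ)) = m := by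
    have h4 : ((m : ℤ) • (1 : G → ℂ)) = (m : ℂ) • (1 : G → ℂ) := by
      ext g; simp
    rw [h4, map_smul]
    have h5 : L 1 = 1 := by
      have h6 := irr_inner_self hθ
      unfold classInner at h6
      rw [← h6]
      show (Nat.card N : ℂ)⁻¹ * ∑ n : N, (1 : G → ℂ) n * (θ n * conj (θ n)) = _
      simp
    rw [h5, smul_eq_mul, mul_one]
  rw [h3] at hz
  refine ⟨z, ?_⟩
  exact_mod_cast hz

/-- Dade: an elementary subgroup detecting the invariant character -/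
theorem dade [Fintype N] (p : ℕ) (hp : p.Prime) (hind : ∃ k : ℕ, N.index = p ^ k) {θ : N → ℂ} (hθ : IsIrrCharacter N θ) (hinv : Inv N θ) :
    ∃ (E : Subgroup G), IsElementary p E ∧ E ⊔ N = ⊤ ∧ ∃ φ : ↥(E ⊓ N) → ℂ, IsIrrCharacter ↥(E ⊓ N) φ ∧
      (∀ g ∈ E, ∀ x y : ↥(E ⊓ N), (y : G) = g * x * g⁻¹ → φ y = φ x) ∧
      ∃ m : ℕ, ¬ p ∣ m ∧ ∀ [Fintype ↥(E ⊓ N)], classInner (fun y : ↥(E ⊓ N) => θ ⟨y, y.2.2⟩) φ = m := by
  classical
  haveI : Fact p.Prime := ⟨hp⟩
  obtain ⟨E, ψ, hE, hψ, b, hb, hbi⟩ := exists_elementary p hp hθ hinv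
  have hb1 : ¬ p ∣ b := fun h => hb (Dvd.dvd.mul_left h _)
  have hb2 : ¬ p ∣ (E ⊔ N).index := fun h => hb (Dvd.dvd.mul_right h _)
  have hEN : E ⊔ N = ⊤ := by
    rw [← Subgroup.index_eq_one]
    obtain ⟨k, hk⟩ := hind
    have h1 : (E ⊔ N).index ∣ p ^ k := by rw [← hk]; exact Subgroup.index_dvd_of_le le_sup_right
    obtain ⟨j, -, hj⟩ := (Nat.dvd_prime_pow hp).mp h1
    rcases Nat.eq_zero_or_pos j with h2 | h2
    · rw [hj, h2, pow_zero]
    · exact absurd (by rw [hj]; exact dvd_pow_self p h2.ne') hb2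
  refine ⟨E, hE, hEN, ?_⟩
  set D := E ⊓ N with hD
  haveI := Fintype.ofFinite D
  set θD : D → ℂ := fun y => θ ⟨y, y.2.2⟩ with hθD
  set ψD : D → ℂ := fun y => ψ ⟨y, y.2.1⟩ with hψD
  have hc1 : IsCharacter D θD := isCharacter_comp (irr_isCharacter hθ) (Subgroup.inclusion (inf_le_right : E ⊓ N ≤ N))
  have hc2 : IsCharacter D ψD := isCharacter_comp hψ (Subgroup.inclusion (inf_le_left : E ⊓ N ≤ E))
  have hc3 : IsCharacter D (ψD * θD) := isCharacter_mul hc2 hc1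
  -- the Sylow subgroup
  obtain ⟨Q⟩ := (inferInstance : Nonempty (Sylow p E))
  set S : Subgroup G := (Q : Subgroup E).map E.subtype with hS
  have hSE : S ≤ E := Subgroup.map_subtype_le _
  have hSp : IsPGroup p S := Q.2.map _
  have hnorm : ∀ s ∈ E, ∀ g ∈ D, s * g * s⁻¹ ∈ D := by
    intro s hs g hg
    exact ⟨E.mul_mem (E.mul_mem hs hg.1) (E.inv_mem hs), hN.conj_mem g hg.2 s⟩
  have hSD : ∀ g ∈ E, ∃ q ∈ S, ∃ d ∈ D, g = q * d := exists_sylow_mul p hind E Q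
  let Φ : S →* MulAut D := CfsgLib.GlaubG.conjHom D S (fun s hs => hnorm s (hSE hs))
  letI := CfsgLib.Glaub.irrAct Φ
  have hΦ : ∀ (s : S) (y : D), ((Φ s y : D) : G) = (s : G) * y * (s : G)⁻¹ := fun s y => rfl
  have hθinv : ∀ s : S, θD ∘ (Φ s) = θD := by
    intro s
    ext y
    exact hinv s ⟨y, y.2.2⟩
  have hψinv : ∀ s : S, ψD ∘ (Φ s) = ψD := by
    intro s
    ext y
    have h7 := (char_classFun hψ) (⟨y, y.2.1⟩ : E) ⟨s, hSE s.2⟩
    exact h7
  have hpars : (b : ℂ) = ∑ χ : IrrCharacter D, classInner (ψD * θD) χ * classInner θD χ := by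
    have h8 := parseval (char_classFun hc3) (char_classFun hc1)
    have h9 : classInner (ψD * θD) θD = b := hbi
    rw [← h9, h8]
    refine Finset.sum_congr rfl fun χ _ => ?_
    obtain ⟨m, hm⟩ := char_mult hc1 (irr_isCharacter χ.2)
    rw [hm, Complex.conj_natCast]
  have hsf := CfsgLib.Glaub.sum_fixed (A := S) (X := IrrCharacter D) hp hSp
    (fun χ => classInner (ψD * θD) χ * classInner θD χ) (fun a χ => by
      change classInner (ψD * θD) ((χ : D → ℂ) ∘ (Φ a⁻¹)) * classInner θD ((χ : D → ℂ) ∘ (Φ a⁻¹)) = _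
      have e1 : classInner θD ((χ : D → ℂ) ∘ (Φ a⁻¹)) = classInner θD χ := by
        conv_lhs => rw [← hθinv a⁻¹]
        exact CfsgLib.Glaub.inner_comp_aut _ _ _
      have e2 : classInner (ψD * θD) ((χ : D → ℂ) ∘ (Φ a⁻¹)) = classInner (ψD * θD) χ := by
        have : (ψD * θD) ∘ (Φ a⁻¹) = ψD * θD := by
          show (ψD ∘ (Φ a⁻¹)) * (θD ∘ (Φ a⁻¹)) = _
          rw [hψinv, hθinv]
        conv_lhs => rw [← this]
        exact CfsgLib.Glaub.inner_comp_aut _ _ _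
      rw [e1, e2]) (fun χ => by
      obtain ⟨m, hm⟩ := char_mult hc1 (irr_isCharacter χ.2)
      obtain ⟨k, hk⟩ := char_mult hc3 (irr_isCharacter χ.2)
      rw [hm, hk, ← Nat.cast_mul]
      exact CfsgLib.Glaub.pR_nat hp _)
  rw [← hpars] at hsf
  by_contra hcon
  push Not at hcon
  apply hb1
  apply CfsgLib.Glaub.dvd_of_pI hp
  have hfin : CfsgLib.Glaub.pI p (∑ χ ∈ Finset.univ.filter (fun χ : IrrCharacter D => χ ∈ MulAction.fixedPoints S (IrrCharacter D)),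
      classInner (ψD * θD) χ * classInner θD χ) := by
    apply CfsgLib.Glaub.pI_sum hp
    intro χ hχ
    rw [Finset.mem_filter] at hχ
    have hi := (CfsgLib.Glaub.irrAct_fixed Φ χ).mp hχ.2
    obtain ⟨m, hm⟩ := char_mult hc1 (irr_isCharacter χ.2)
    obtain ⟨k, hk⟩ := char_mult hc3 (irr_isCharacter χ.2)
    rw [hm, hk]
    apply CfsgLib.Glaub.pI_mul' hp (CfsgLib.Glaub.pR_nat hp _)
    apply CfsgLib.Glaub.pI_of_dvd hp
    by_contra hmd
    obtain ⟨inst, hne⟩ := hcon χ χ.2 (by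
      intro g hg x y hxy
      obtain ⟨q, hq, d, hd, rfl⟩ := hSD g hg
      have h10 : (χ : D → ℂ) (Φ ⟨q, hq⟩ (⟨d, hd⟩ * x * ⟨d, hd⟩⁻¹)) = (χ : D → ℂ) x := by
        rw [hi]
        exact (irr_classFun χ.2) x ⟨d, hd⟩
      rw [← h10]
      apply congrArg (χ : D → ℂ)
      apply Subtype.ext
      rw [hxy, hΦ]
      simp only [Subgroup.coe_mul, Subgroup.coe_inv]
      group) m hmd
    apply hne
    rw [← hm]
    congr!
  have := CfsgLib.Glaub.pI_add hp hsf hfin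
  rwa [sub_add_cancel] at this

end

section Hom

/-- extension of homomorphisms to `ℂˣ` along an injection into a finite commutative group -/
theorem ext_hom_comm {A : Type u} {B : Type v} [Group A] [Finite A] [Group B] (hA : ∀ a b : A, a * b = b * a) (i : B →* A)
    (hi : Function.Injective i) (β : B →* ℂˣ) : ∃ lam : A →* ℂˣ, ∀ b, lam (i b) = β b := by
  letI : CommGroup A := { (inferInstance : Group A) with mul_comm := hA }
  let e : B ≃* i.range := MonoidHom.ofInjective hi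
  obtain ⟨lam, hlam⟩ := MonoidHom.domRestrict_surjective (M := ℂ) i.range (β.comp e.symm.toMonoidHom)
  refine ⟨lam, fun b => ?_⟩
  have h1 := congrArg (fun F : i.range →* ℂˣ => F (e b)) hlam
  simp only [MonoidHom.comp_apply] at h1
  have h2 : e.symm.toMonoidHom (e b) = b := e.symm_apply_apply b
  rw [h2] at h1
  exact h1

/-- gluing homomorphisms -/
theorem hom_glue {G : Type u} [Group G] {A : Type v} [CommGroup A] (E S D : Subgroup G) (hSE : S ≤ E) (hDE : D ≤ E)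
    (hE : ∀ g ∈ E, ∃ s ∈ S, ∃ d ∈ D, g = s * d) (β : S →* A) (φ : D →* A)
    (hag : ∀ (x : G) (h1 : x ∈ S) (h2 : x ∈ D), β ⟨x, h1⟩ = φ ⟨x, h2⟩)
    (hinv : ∀ (s : G) (hs : s ∈ S) (x y : D), (y : G) = s * x * s⁻¹ → φ y = φ x) (hnorm : ∀ s ∈ S, ∀ d ∈ D, s * d * s⁻¹ ∈ D) :
    ∃ F : E →* A, (∀ s : S, F ⟨s, hSE s.2⟩ = β s) ∧ ∀ d : D, F ⟨d, hDE d.2⟩ = φ d := by
  have key : ∀ (s s' : S) (d d' : D), (s : G) * d = s' * d' → β s * φ d = β s' * φ d' := by
    intro s s' d d' h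
    have h1 : ((s'⁻¹ * s : S) : G) = ((d' * d⁻¹ : D) : G) := by
      simp only [Subgroup.coe_mul, Subgroup.coe_inv]
      calc (s' : G)⁻¹ * s = (s' : G)⁻¹ * (s * d) * (d : G)⁻¹ := by group
        _ = _ := by rw [h]; group
    have h2 := hag _ (s'⁻¹ * s).2 (by rw [h1]; exact (d' * d⁻¹).2)
    have h3 : (⟨((s'⁻¹ * s : S) : G), by rw [h1]; exact (d' * d⁻¹).2⟩ : D) = d' * d⁻¹ := Subtype.ext h1
    rw [h3] at h2
    have h4 : β (s'⁻¹ * s) = φ (d' * d⁻¹) := h2
    rw [map_mul, map_mul, map_inv, map_inv] at h4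
    have h5 : β s = β s' * (φ d' * (φ d)⁻¹) := by rw [← h4]; group
    rw [h5]; group
  have hex : ∀ g : E, ∃ (s : S) (d : D), (g : G) = s * d := by
    intro g
    obtain ⟨s, hs, d, hd, h⟩ := hE g g.2
    exact ⟨⟨s, hs⟩, ⟨d, hd⟩, h⟩
  choose s d hsd using hex
  let F : E →* A :=
    { toFun := fun g => β (s g) * φ (d g)
      map_one' := by
        have := key (s 1) 1 (d 1) 1 (by rw [← hsd 1]; simp)
        rw [this]; simp
      map_mul' := by
        intro g h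
        have h6 : (((s h)⁻¹ : S) : G) * (d g) * (((s h)⁻¹ : S) : G)⁻¹ ∈ D := hnorm _ ((s h)⁻¹).2 _ (d g).2
        have h7 := key (s (g * h)) (s g * s h) (d (g * h)) (⟨_, h6⟩ * d h) (by
          rw [← hsd (g * h)]
          simp only [Subgroup.coe_mul, Subgroup.coe_inv]
          rw [hsd g, hsd h]
          group)
        rw [h7, map_mul, map_mul]
        have h8 : φ ⟨_, h6⟩ = φ (d g) := hinv _ ((s h)⁻¹).2 (d g) ⟨_, h6⟩ rfl
        rw [h8, mul_mul_mul_comm] }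
  refine ⟨F, fun x => ?_, fun x => ?_⟩
  · have := key (s ⟨x, hSE x.2⟩) x (d ⟨x, hSE x.2⟩) 1 (by rw [← hsd]; simp)
    show β _ * φ _ = β x
    rw [this]; simp
  · have := key (s ⟨x, hDE x.2⟩) 1 (d ⟨x, hDE x.2⟩) x (by rw [← hsd]; simp)
    show β _ * φ _ = φ x
    rw [this]; simp

end Hom

section
variable {G : Type u} [Group G] [Fintype G] {N : Subgroup G} [hN : N.Normal]

/-- if a linear character of an elementary `E` with `E N = G` restricts to a constituent of `θ` of multiplicity prime to `p`,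
then `θ` extends -/
theorem ext_of_linear_supplement [Fintype N] (p : ℕ) [Fact p.Prime] (hind : ∃ k : ℕ, N.index = p ^ k) {θ : N → ℂ}
    (hθ : IsIrrCharacter N θ) (hinv : Inv N θ) (E : Subgroup G) (hEN : E ⊔ N = ⊤) {ψ : E → ℂ} (hψ : IsCharacter E ψ) (m : ℕ) (hm : ¬ p ∣ m)
    (hci : ∀ [Fintype ↥(E ⊓ N)], classInner (fun y : ↥(E ⊓ N) => θ ⟨y, y.2.2⟩) (fun y : ↥(E ⊓ N) => ψ ⟨y, y.2.1⟩) = m) :
    ∃ χ : G → ℂ, IsIrrCharacter G χ ∧ ∀ n : N, χ n = θ n := by
  classical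
  have hp : p.Prime := Fact.out
  haveI := Fintype.ofFinite E
  haveI := Fintype.ofFinite ↥(E ⊓ N)
  have hIc : IsCharacter G (indFun E ψ) := CfsgLib.CharIndA.isCharacter_ind E hψ
  have h1 : classInner (fun n : N => indFun E ψ n) θ = m := by
    unfold classInner
    have hF : Inv N (fun n => conj (θ n)) := by
      intro g n; simp only; rw [hinv g n]
    rw [sum_ind_mul E ψ (fun n => conj (θ n)) hF]
    have h2 := card_formula (N := N) E
    rw [hEN, Subgroup.index_top, mul_one] at h2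
    have h3 : (Nat.card G : ℂ) * Nat.card ↥(E ⊓ N) = Nat.card N * Nat.card E := by exact_mod_cast h2
    have h4 : ∑ y : ↥(E ⊓ N), ψ ⟨y, y.2.1⟩ * conj (θ ⟨y, y.2.2⟩) = (Nat.card ↥(E ⊓ N) : ℂ) * m := by
      have h5 := congrArg conj hci
      unfold classInner at h5
      rw [map_mul, map_inv₀, Complex.conj_natCast, map_sum, Complex.conj_natCast] at h5
      have h0 : (Nat.card ↥(E ⊓ N) : ℂ) ≠ 0 := by exact_mod_cast Nat.card_pos.ne'
      rw [← h5, ← mul_assoc, mul_inv_cancel₀ h0, one_mul]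
      refine Finset.sum_congr rfl fun y _ => ?_
      rw [map_mul, Complex.conj_conj, mul_comm]
    rw [h4]
    have hN0 : (Nat.card N : ℂ) ≠ 0 := by exact_mod_cast Nat.card_pos.ne'
    have hE0 : (Nat.card E : ℂ) ≠ 0 := by exact_mod_cast Nat.card_pos.ne'
    field_simp
    linear_combination (m : ℂ) * h3
  obtain ⟨a, ha, hexp, -⟩ := char_expand hIc
  have h6 : ∀ χ : IrrCharacter G, ∃ e : ℕ, classInner (fun n : N => (χ : G → ℂ) n) θ = e :=
    fun χ => char_mult (isCharacter_restrict (irr_isCharacter χ.2) N) (irr_isCharacter hθ)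
  choose e he using h6
  have h7 : (m : ℂ) = ∑ χ : IrrCharacter G, (a χ : ℂ) * e χ := by
    rw [← h1]
    have h8 : (fun n : N => indFun E ψ n) = ∑ χ : IrrCharacter G, (a χ : ℂ) • (fun n : N => (χ : G → ℂ) n) := by
      ext n
      rw [hexp]
      simp
    rw [h8, CfsgLib.CharBasic.inner_sum_left]
    refine Finset.sum_congr rfl fun χ _ => ?_
    rw [CfsgLib.CharBasic.inner_smul_left, he]
  have h9 : m = ∑ χ : IrrCharacter G, a χ * e χ := by exact_mod_cast h7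
  obtain ⟨χ, hχ⟩ : ∃ χ : IrrCharacter G, ¬ p ∣ e χ := by
    by_contra hcon
    push Not at hcon
    apply hm
    rw [h9]
    exact Finset.dvd_sum fun χ _ => Dvd.dvd.mul_left (hcon χ) _
  have hne : classInner (fun n : N => (χ : G → ℂ) n) θ ≠ 0 := by
    rw [he]
    intro h
    apply hχ
    have : e χ = 0 := by exact_mod_cast h
    rw [this]; exact dvd_zero _
  obtain ⟨e', he', hdvd⟩ := mult_dvd_index hθ hinv χ.2 hne
  have hres := restrict_of_invariant hN χ.2 hθ (inv_iff_cj.mp hinv) hne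
  rw [he] at hres
  have h10 : e χ = e' := by
    have h11 := congrFun hres 1
    simp only [Pi.smul_apply, smul_eq_mul, OneMemClass.coe_one] at h11
    rw [he'] at h11
    have h12 := mul_right_cancel₀ (CfsgLib.CharInt.irr_one_ne_zero hθ) h11
    exact_mod_cast h12.symm
  obtain ⟨k, hk⟩ := hind
  rw [← h10, hk] at hdvd
  obtain ⟨j, -, hj⟩ := (Nat.dvd_prime_pow hp).mp hdvd
  have h13 : e χ = 1 := by
    rcases Nat.eq_zero_or_pos j with h | h
    · rw [hj, h, pow_zero]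
    · exact absurd (by rw [hj]; exact dvd_pow_self p h.ne') hχ
  rw [h13, Nat.cast_one, one_smul] at hres
  exact ⟨χ, χ.2, fun n => congrFun hres n⟩

end

end CfsgLib.Extend
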