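import Mathlib
import Cfsg.Agent.LibExtend6
import Cfsg.Agent.LibCharInt2

/-!
# Counting characters of degree prime to the order of a complement (helper20)
-/

set_option autoImplicit false
set_option linter.all false

namespace CfsgLib.Extend

open Cfsg CfsgLib.CharBasic CfsgLib.Clifford
open scoped Pointwise ComplexConjugate

universe u v w

section
variable {G : Type u} [Group G] [Finite G] {N : Subgroup G} [hN : N.Normal]

/-- two extensions of an irreducible character differ by a linear character -/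
theorem ext_mul_linear {θ : N → ℂ} (hθ : IsIrrCharacter N θ)
    {χ χ' : G → ℂ} (hχ : IsIrrCharacter G χ) (hχ' : IsIrrCharacter G χ') (hext : ∀ n : N, χ n = θ n) (hext' : ∀ n : N, χ' n = θ n) :
    ∃ β : G →* ℂˣ, (∀ n : N, β n = 1) ∧ χ' = fun g => (β g : ℂ) * χ g := by
  obtain ⟨m, ρ, hρ, rfl⟩ := hθ
  obtain ⟨σ, hσ, rfl⟩ := exists_rep_ext' ρ N.subtype (irr_isCharacter hχ) hext
  obtain ⟨σ', hσ', rfl⟩ := exists_rep_ext' ρ N.subtype (irr_isCharacter hχ') hext'
  haveI := isIrreducible_of_char σ hχ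
  haveI := isIrreducible_of_char σ' hχ'
  haveI := irr_nontrivial ρ
  have hc : ∀ g : G, ∃ c : ℂˣ, σ'.asGroupHom g = sc c * σ.asGroupHom g := by
    intro g
    apply schur_unit (ρ := ρ)
    intro n
    rw [← map_inv]
    have e1 : ρ n = σ' n := (hσ' n).symm
    have e2 : ρ n = σ n := (hσ n).symm
    have e3 : σ' (g * n * g⁻¹) = σ (g * n * g⁻¹) := by
      rw [show σ' (g * n * g⁻¹) = ρ ⟨g * n * g⁻¹, hN.conj_mem _ n.2 g⟩ from hσ' ⟨g * n * g⁻¹, hN.conj_mem _ n.2 g⟩,
        show σ (g * n * g⁻¹) = ρ ⟨g * n * g⁻¹, hN.conj_mem _ n.2 g⟩ from hσ ⟨g * n * g⁻¹, hN.conj_mem _ n.2 g⟩]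
    show σ' g * ρ n = σ g * ρ n * σ g⁻¹ * σ' g
    calc σ' g * ρ n = σ' (g * n * g⁻¹) * σ' g := by rw [e1, ← map_mul, ← map_mul]; congr 1; group
      _ = σ (g * n * g⁻¹) * σ' g := by rw [e3]
      _ = _ := by rw [e2, map_mul, map_mul]
  choose c hc using hc
  have huniq : ∀ g (a : ℂˣ), σ'.asGroupHom g = sc a * σ.asGroupHom g → a = c g := by
    intro g a ha
    apply sc_injective (V := Fin m → ℂ)
    exact mul_right_cancel (ha.symm.trans (hc g))
  let C : G →* ℂˣ :=
    { toFun := c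
      map_one' := by
        symm; apply huniq; simp
      map_mul' := by
        intro x y
        symm; apply huniq
        rw [mul_comm (c x), map_mul, map_mul, map_mul, hc x, hc y]
        exact sc_shuffle _ _ _ _ }
  refine ⟨C, ?_, ?_⟩
  · intro n
    symm; apply huniq
    rw [map_one, one_mul]
    apply Units.ext
    show σ' n = σ n
    exact (hσ' n).trans (hσ n).symm
  · ext g
    have h4 : σ' g = (c g : ℂ) • σ g := by
      have := congrArg (fun u : ((Fin m → ℂ) →ₗ[ℂ] (Fin m → ℂ))ˣ => (u : (Fin m → ℂ) →ₗ[ℂ] (Fin m → ℂ))) (hc g)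
      simp only [Units.val_mul, sc_val] at this
      rw [show σ' g = _ from this, smul_mul_assoc]
      rfl
    show LinearMap.trace ℂ _ (σ' g) = (c g : ℂ) * LinearMap.trace ℂ _ (σ g)
    rw [h4, map_smul, smul_eq_mul]

theorem detOrder_dvd_card {θ : G → ℂ} (hθ : IsIrrCharacter G θ) : detOrder θ ∣ Nat.card G := by
  obtain ⟨f, hf⟩ := detChar_irr hθ
  unfold detOrder
  rw [hf, orderOf_val, orderOf_dvd_iff_pow_eq_one]
  apply MonoidHom.ext
  intro g
  rw [MonoidHom.pow_apply, ← map_pow, pow_card_eq_one', map_one]; rfl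

theorem degree_dvd_card {θ : G → ℂ} (hθ : IsIrrCharacter G θ) {d : ℕ} (hd : θ 1 = d) : d ∣ Nat.card G := by
  have h := CfsgLib.CharInt2.charDegree_dvd_card hθ
  have h2 := CfsgLib.CharInt.irr_one_eq_charDegree hθ
  rw [hd] at h2
  have : d = charDegree θ := by exact_mod_cast h2
  rwa [this]

/-- irreducible characters of degree prime to the index restrict irreducibly -/
theorem restrict_irr_of_coprime [Fintype G] [Fintype N] {χ : G → ℂ} (hχ : IsIrrCharacter G χ) (hcop : (charDegree χ).Coprime N.index) :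
    IsIrrCharacter N (fun n : N => χ n) := by
  obtain ⟨θ, hθ, hne⟩ := exists_below N hχ
  obtain ⟨e, he, hdvd⟩ := ratio_dvd_index hθ hχ hne
  obtain ⟨d, hdpos, hd⟩ := irr_one_nat hθ
  have h1 := CfsgLib.CharInt.irr_one_eq_charDegree hχ
  rw [he, hd] at h1
  have h2 : charDegree χ = e * d := by exact_mod_cast h1.symm
  have h3 : e = 1 := Nat.Coprime.eq_one_of_dvd (Nat.Coprime.coprime_dvd_left (Dvd.intro d h2.symm) hcop) hdvd
  rw [h3, Nat.cast_one, one_mul] at he
  obtain ⟨r, hr, hsplit⟩ := CfsgLib.CharMore.split_off (isCharacter_restrict (irr_isCharacter hχ) N) hθ hne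
  have h4 : r 1 = 0 := by
    have h5 := congrFun hsplit 1
    simp only [Pi.add_apply, OneMemClass.coe_one] at h5
    rw [he] at h5
    linear_combination -h5
  have h6 : r = 0 := by
    ext x
    have h7 := char_norm_le hr x
    rw [h4] at h7
    simpa using h7
  rw [hsplit, h6, add_zero]
  exact hθ

/-- counting characters of degree prime to the order of a complement -/
theorem card_coprime_degree [Fintype G] (K H : Subgroup G) [hK : K.Normal] (hKH : K ⊔ H = ⊤) (hcop : (Nat.card K).Coprime (Nat.card H)) :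
    Nat.card {χ : IrrCharacter G // (charDegree (χ : G → ℂ)).Coprime (Nat.card H)} =
      Nat.card {θ : IrrCharacter K // Inv K (θ : K → ℂ)} * Nat.card (H →* ℂˣ) := by
  classical
  haveI := Fintype.ofFinite K
  have hinf : K ⊓ H = ⊥ := by
    rw [← Subgroup.card_eq_one]
    exact Nat.Coprime.eq_one_of_dvd (Nat.Coprime.coprime_dvd_left (Subgroup.card_dvd_of_le inf_le_left) hcop) (Subgroup.card_dvd_of_le inf_le_right)
  have hidx : K.index = Nat.card H := by
    have h1 := card_formula (N := K) H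
    rw [sup_comm, hKH, Subgroup.index_top, mul_one, inf_comm, hinf, Subgroup.card_bot, mul_one] at h1
    have h2 := Subgroup.card_mul_index K
    rw [h1] at h2
    exact Nat.eq_of_mul_eq_mul_left Nat.card_pos h2
  -- canonical extensions
  have hcan : ∀ θ : {θ : IrrCharacter K // Inv K (θ : K → ℂ)}, ∃ χ : G → ℂ, IsIrrCharacter G χ ∧ ∀ n : K, χ n = (θ.1 : K → ℂ) n := by
    intro θ
    obtain ⟨d, -, hd⟩ := irr_one_nat θ.1.2
    obtain ⟨χ, h, -⟩ := ext_coprime θ.1.2 θ.2 d hd (by
      rw [hidx]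
      exact Nat.Coprime.mul_right (Nat.Coprime.coprime_dvd_right (detOrder_dvd_card θ.1.2) hcop.symm)
        (Nat.Coprime.coprime_dvd_right (degree_dvd_card θ.1.2 hd) hcop.symm))
    exact ⟨χ, h.1, h.2.1⟩
  choose E hE hEr using hcan
  -- linear characters trivial on K
  have hlin : Nat.card {β : G →* ℂˣ // ∀ k : K, β k = 1} = Nat.card (H →* ℂˣ) := by
    apply Nat.card_congr
    refine Equiv.ofBijective (fun β => β.1.comp H.subtype) ⟨?_, ?_⟩
    · rintro ⟨β, hβ⟩ ⟨β', hβ'⟩ h
      apply Subtype.ext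
      apply MonoidHom.ext
      intro g
      have hg : g ∈ ((K : Set G) * (H : Set G)) := by
        rw [← Subgroup.normal_mul, hKH]; trivial
      obtain ⟨k, hk, y, hy, rfl⟩ := hg
      have h2 := congrArg (fun F : H →* ℂˣ => F ⟨y, hy⟩) h
      have h3 : β y = β' y := h2
      simp only
      rw [map_mul, map_mul, hβ ⟨k, hk⟩, hβ' ⟨k, hk⟩, h3]
    · intro β₀
      obtain ⟨F, hF1, hF2⟩ := hom_glue (⊤ : Subgroup G) H K le_top le_top (by
        intro g _
        have hg : g ∈ ((H : Set G) * (K : Set G)) := by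
          rw [← Subgroup.mul_normal, sup_comm, hKH]; trivial
        obtain ⟨y, hy, k, hk, rfl⟩ := hg
        exact ⟨y, hy, k, hk, rfl⟩) β₀ 1 (by
        intro x h1 h2
        have h3 : x ∈ K ⊓ H := ⟨h2, h1⟩
        rw [hinf, Subgroup.mem_bot] at h3
        subst h3
        exact map_one β₀) (fun _ _ _ _ _ => rfl) (fun s _ d hd => hK.conj_mem d hd s)
      refine ⟨⟨F.comp (Subgroup.topEquiv (G := G)).symm.toMonoidHom, fun k => hF2 k⟩, ?_⟩
      apply MonoidHom.ext
      intro y
      exact hF1 y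
  rw [← hlin, ← Nat.card_prod]
  symm
  apply Nat.card_congr
  have hdeg : ∀ (θ : {θ : IrrCharacter K // Inv K (θ : K → ℂ)}) (d : ℕ), (θ.1 : K → ℂ) 1 = d → E θ 1 = d := by
    intro θ d hd
    rw [← hd]; exact hEr θ 1
  refine Equiv.ofBijective (fun x => ⟨⟨fun g => (x.2.1 g : ℂ) * E x.1 g, ?_⟩, ?_⟩) ⟨?_, ?_⟩
  · obtain ⟨d, -, hd⟩ := irr_one_nat x.1.1.2
    exact (det_mul_linear (hE x.1) x.2.1 d (hdeg x.1 d hd)).1
  · obtain ⟨d, -, hd⟩ := irr_one_nat x.1.1.2
    have h1 := CfsgLib.CharInt.irr_one_eq_charDegree (det_mul_linear (hE x.1) x.2.1 d (hdeg x.1 d hd)).1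
    rw [map_one, Units.val_one, one_mul, hdeg x.1 d hd] at h1
    have h2 : d = charDegree (fun g => (x.2.1 g : ℂ) * E x.1 g) := by exact_mod_cast h1
    show (charDegree (fun g => (x.2.1 g : ℂ) * E x.1 g)).Coprime (Nat.card H)
    rw [← h2]
    exact Nat.Coprime.coprime_dvd_left (degree_dvd_card x.1.1.2 hd) hcop
  · rintro ⟨θ, β⟩ ⟨θ', β'⟩ h
    have h1 : (fun g => (β.1 g : ℂ) * E θ g) = fun g => (β'.1 g : ℂ) * E θ' g := congrArg (fun z => (z.1 : G → ℂ)) h
    have h2 : θ = θ' := by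
      apply Subtype.ext
      apply Subtype.ext
      ext k
      have h3 : (β.1 k : ℂ) * E θ k = (β'.1 k : ℂ) * E θ' k := congrFun h1 k
      rw [β.2 k, β'.2 k, Units.val_one, one_mul, one_mul, hEr, hEr] at h3
      exact h3
    subst h2
    obtain ⟨d, -, hd⟩ := irr_one_nat θ.1.2
    have h4 := (det_mul_linear (hE θ) β.1 d (hdeg θ d hd)).2
    have h5 := (det_mul_linear (hE θ) β'.1 d (hdeg θ d hd)).2
    rw [h1] at h4
    rw [h5] at h4
    obtain ⟨F, hF⟩ := detChar_irr (hE θ)
    have h6 : ∀ g, (β'.1 g) ^ d = (β.1 g) ^ d := by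
      intro g
      apply Units.ext
      have h7 := congrFun h4 g
      rw [hF] at h7
      rw [Units.val_pow_eq_pow_val, Units.val_pow_eq_pow_val]
      exact mul_right_cancel₀ (F g).ne_zero h7
    have h8 : β = β' := by
      apply Subtype.ext
      have h9 : (β.1 * β'.1⁻¹) ^ K.index = 1 := by
        apply pow_index_eq_one
        intro k
        rw [MonoidHom.mul_apply, MonoidHom.inv_apply, β.2, β'.2, inv_one, mul_one]
      have h10 : (β.1 * β'.1⁻¹) ^ d = 1 := by
        apply MonoidHom.ext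
        intro g
        rw [MonoidHom.pow_apply, MonoidHom.mul_apply, MonoidHom.inv_apply, mul_pow, inv_pow, h6, mul_inv_cancel]; rfl
      have h11 : Nat.Coprime K.index d := by
        rw [hidx]; exact (Nat.Coprime.coprime_dvd_left (degree_dvd_card θ.1.2 hd) hcop).symm
      have h12 : orderOf (β.1 * β'.1⁻¹) ∣ Nat.gcd K.index d := Nat.dvd_gcd (orderOf_dvd_of_pow_eq_one h9) (orderOf_dvd_of_pow_eq_one h10)
      rw [h11, Nat.dvd_one, orderOf_eq_one_iff] at h12
      apply MonoidHom.ext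
      intro g
      have h13 := congrArg (fun F : G →* ℂˣ => F g) h12
      simp only [MonoidHom.mul_apply, MonoidHom.inv_apply, MonoidHom.one_apply] at h13
      exact mul_inv_eq_one.mp h13
    rw [h8]
  · rintro ⟨χ, hχ⟩
    have h1 := restrict_irr_of_coprime (N := K) χ.2 (by rw [hidx]; exact hχ)
    have hinv : Inv K (fun k : K => (χ : G → ℂ) k) := by
      intro g n
      exact (irr_classFun χ.2) n g
    obtain ⟨β, hβ, hβe⟩ := ext_mul_linear h1 (hE ⟨⟨_, h1⟩, hinv⟩) χ.2 (fun n => hEr ⟨⟨_, h1⟩, hinv⟩ n) (fun n => rfl)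
    refine ⟨(⟨⟨_, h1⟩, hinv⟩, ⟨β, hβ⟩), ?_⟩
    apply Subtype.ext
    apply Subtype.ext
    exact hβe.symm

end

end CfsgLib.Extend
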