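import Cfsg.Agent.LibGlaub4
import Cfsg.Agent.LibGalChar
/-!
# Galois action and Clifford theory (helper20)
-/
set_option autoImplicit false
set_option linter.all false
open scoped ComplexConjugate
open Cfsg
namespace CfsgLib.GalCliff
open CfsgLib CfsgLib.CharBasic CfsgLib.CharIndA CfsgLib.Clifford CfsgLib.Glaub CfsgLib.GalField CfsgLib.GalChar

universe u v

section Pow
variable {G : Type u} [Group G] [Fintype G]

/-- a field automorphism realising the `k`-th power on all characters of all subgroups -/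
theorem exists_gal_pow {k : ℕ} (hk : k.Coprime (Nat.card G)) :
    ∃ σ : ℂ ≃+* ℂ, ∀ ζ : ℂ, ζ ^ Nat.card G = 1 → σ ζ = ζ ^ k := exists_ringEquiv_pow (Nat.card G) k Nat.card_pos hk

theorem char_gal_pow {k : ℕ} {σ : ℂ ≃+* ℂ} {n : ℕ} (hσ : ∀ ζ : ℂ, ζ ^ n = 1 → σ ζ = ζ ^ k)
    {H : Type u} [Group H] [Finite H] (hH : Nat.card H ∣ n) {ψ : H → ℂ} (hψ : IsCharacter H ψ) (h : H) :
    ψ (h ^ k) = σ (ψ h) := by
  refine char_pow_eq_of_roots hψ h k σ fun ζ hζ => hσ ζ ?_
  obtain ⟨m, hm⟩ := (orderOf_dvd_natCard h).trans hH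
  rw [hm, pow_mul, hζ, one_pow]

variable {N : Subgroup G} [Fintype N] (hN : N.Normal)

theorem card_constituents {χ : G → ℂ} (hχ : IsIrrCharacter G χ) {θ : N → ℂ} (hθ : IsIrrCharacter N θ)
    (h : classInner (fun n : N => χ n) θ ≠ 0) :
    Nat.card {ψ : IrrCharacter N // classInner (fun n : N => χ n) (ψ : N → ℂ) ≠ 0} * Nat.card (inertia hN θ) = Nat.card G := by
  classical
  let F : G → {ψ : IrrCharacter N // classInner (fun n : N => χ n) (ψ : N → ℂ) ≠ 0} := fun x =>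
    ⟨⟨cj hN x θ, cj_irr hN x hθ⟩, by
      change classInner (fun n : N => χ n) (cj hN x θ) ≠ 0
      rw [mult_cj hN (irr_classFun hχ)]; exact h⟩
  haveI : Finite {ψ : IrrCharacter N // classInner (fun n : N => χ n) (ψ : N → ℂ) ≠ 0} := inferInstance
  haveI := Fintype.ofFinite {ψ : IrrCharacter N // classInner (fun n : N => χ n) (ψ : N → ℂ) ≠ 0}
  have h1 : Nat.card G = Nat.card (Σ ψ : {ψ : IrrCharacter N // classInner (fun n : N => χ n) (ψ : N → ℂ) ≠ 0}, {x : G // F x = ψ}) :=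
    Nat.card_congr (Equiv.sigmaFiberEquiv F).symm
  rw [h1, Nat.card_sigma]
  have h2 : ∀ ψ : {ψ : IrrCharacter N // classInner (fun n : N => χ n) (ψ : N → ℂ) ≠ 0}, Nat.card {x : G // F x = ψ} = Nat.card (inertia hN θ) := by
    intro ψ
    obtain ⟨y, hy⟩ := constituents_conj hN hχ hθ ψ.1.2 h ψ.2
    rw [← card_cj_eq hN θ y]
    apply Nat.card_congr
    refine Equiv.subtypeEquivRight fun x => ?_
    constructor
    · intro hx
      have := congrArg (fun z : {ψ : IrrCharacter N // classInner (fun n : N => χ n) (ψ : N → ℂ) ≠ 0} => ((z.1 : IrrCharacter N) : N → ℂ)) hx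
      exact this.trans hy.symm
    · intro hx
      apply Subtype.ext; apply Subtype.ext
      exact hx.trans hy
  rw [Finset.sum_congr rfl fun ψ _ => h2 ψ, Finset.sum_const, smul_eq_mul, Finset.card_univ, ← Nat.card_eq_fintype_card]

include hN in
theorem card_constituents_dvd {χ : G → ℂ} (hχ : IsIrrCharacter G χ) :
    Nat.card {ψ : IrrCharacter N // classInner (fun n : N => χ n) (ψ : N → ℂ) ≠ 0} ∣ N.index := by
  obtain ⟨θ, hθ, h⟩ := exists_below N hχ
  have h1 := card_constituents hN hχ hθ h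
  have h2 : Nat.card {ψ : IrrCharacter N // classInner (fun n : N => χ n) (ψ : N → ℂ) ≠ 0} = (inertia hN θ).index := by
    have h3 := Subgroup.card_mul_index (inertia hN θ)
    rw [← h1, mul_comm] at h3
    exact (Nat.eq_of_mul_eq_mul_right Nat.card_pos h3).symm
  rw [h2]
  exact Subgroup.index_dvd_of_le (le_inertia hN (irr_classFun hθ))

include hN in
/-- a permutation of `p`-power order of the constituents fixes one of them, if `p ∤ |G : N|` -/
theorem exists_fixed_constituent {p : ℕ} (hp : p.Prime) (hidx : ¬ p ∣ N.index) {χ : G → ℂ} (hχ : IsIrrCharacter G χ)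
    (τ : Equiv.Perm (IrrCharacter N)) (e : ℕ) (hτ : τ ^ (p ^ e) = 1)
    (hτχ : ∀ ψ : IrrCharacter N, classInner (fun n : N => χ n) (τ ψ : N → ℂ) = 0 ↔ classInner (fun n : N => χ n) (ψ : N → ℂ) = 0) :
    ∃ ψ : IrrCharacter N, classInner (fun n : N => χ n) (ψ : N → ℂ) ≠ 0 ∧ τ ψ = ψ := by
  classical
  haveI : Fact p.Prime := ⟨hp⟩
  have hA : IsPGroup p (Subgroup.zpowers τ) := by
    obtain ⟨b, hb, hb'⟩ := (Nat.dvd_prime_pow hp).mp (orderOf_dvd_of_pow_eq_one hτ)
    apply IsPGroup.of_card (n := b)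
    rw [Nat.card_zpowers, hb']
  let X := {ψ : IrrCharacter N // classInner (fun n : N => χ n) (ψ : N → ℂ) ≠ 0}
  have hstab : ∀ (ρ : Subgroup.zpowers τ) (ψ : IrrCharacter N), classInner (fun n : N => χ n) (((ρ : Equiv.Perm (IrrCharacter N)) ψ : IrrCharacter N) : N → ℂ) = 0 ↔
      classInner (fun n : N => χ n) (ψ : N → ℂ) = 0 := by
    rintro ⟨ρ, i, rfl⟩
    change ∀ ψ, classInner (fun n : N => χ n) (((τ ^ i) ψ : IrrCharacter N) : N → ℂ) = 0 ↔ classInner (fun n : N => χ n) (ψ : N → ℂ) = 0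
    induction i with
    | zero => intro ψ; rw [zpow_zero]; rfl
    | succ i ih =>
      intro ψ
      rw [zpow_add_one, Equiv.Perm.mul_apply, ih, hτχ]
    | pred i ih =>
      intro ψ
      rw [zpow_sub_one, Equiv.Perm.mul_apply, ih, ← hτχ (τ⁻¹ ψ), ← Equiv.Perm.mul_apply, mul_inv_cancel, Equiv.Perm.one_apply]
  letI : MulAction (Subgroup.zpowers τ) X :=
    { smul := fun ρ ψ => ⟨(ρ : Equiv.Perm (IrrCharacter N)) ψ.1, fun h => ψ.2 ((hstab ρ ψ.1).mp h)⟩
      one_smul := fun ψ => Subtype.ext rfl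
      mul_smul := fun ρ ρ' ψ => Subtype.ext rfl }
  have hX : ¬ p ∣ Nat.card X := fun h => hidx (h.trans (card_constituents_dvd hN hχ))
  obtain ⟨ψ, hψ⟩ := hA.nonempty_fixed_point_of_prime_not_dvd_card X hX
  refine ⟨ψ.1, ψ.2, ?_⟩
  have := congrArg Subtype.val (hψ ⟨τ, Subgroup.mem_zpowers τ⟩)
  exact this

include hN in
/-- Galois conjugation by `g ↦ g ^ k` of `p`-power order: constituents of invariant characters are invariant -/
theorem below_pow {p : ℕ} (hp : p.Prime) (hidx : ¬ p ∣ N.index) (k e : ℕ) (hk : k.Coprime (Nat.card G))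
    (hke : k ^ (p ^ e) ≡ 1 [MOD Nat.card G]) {χ : G → ℂ} (hχ : IsIrrCharacter G χ) (hχk : ∀ g, χ (g ^ k) = χ g)
    {θ : N → ℂ} (hθ : IsIrrCharacter N θ) (h : classInner (fun n : N => χ n) θ ≠ 0) (n : N) : θ (n ^ k) = θ n := by
  obtain ⟨σ, hσ⟩ := exists_gal_pow hk
  have hcard : Nat.card N ∣ Nat.card G := Subgroup.card_subgroup_dvd_card N
  have hiter : ∀ (j : ℕ) (ψ : IrrCharacter N) (n : N), (((galIrr (G := N) σ) ^ j) ψ : N → ℂ) n = (ψ : N → ℂ) (n ^ (k ^ j)) := by
    intro j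
    induction j with
    | zero => intro ψ n; simp
    | succ j ih =>
      intro ψ n
      rw [pow_succ, Equiv.Perm.mul_apply, ih, galIrr_apply, ← char_gal_pow hσ hcard (irr_isCharacter ψ.2), ← pow_mul, ← pow_succ]
  obtain ⟨ψ, hψ, hψ'⟩ := exists_fixed_constituent hN hp hidx hχ (galIrr σ) e (by
    ext ψ n
    rw [Equiv.Perm.one_apply, hiter]
    congr 1
    have h1 : n ^ (k ^ p ^ e) = n ^ 1 := by
      rw [pow_eq_pow_iff_modEq]
      exact hke.of_dvd ((orderOf_dvd_natCard n).trans hcard)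
    rw [h1, pow_one]) (fun ψ => by
      have h1 : (fun n : N => χ n) = σ ∘ (fun n : N => χ n) := by
        ext n
        change χ n = σ (χ n)
        rw [← char_gal_pow hσ dvd_rfl (irr_isCharacter hχ), hχk]
      have h2 : ((galIrr σ ψ : IrrCharacter N) : N → ℂ) = σ ∘ (ψ : N → ℂ) := rfl
      rw [h2, h1, inner_gal σ (isCharacter_restrict (irr_isCharacter hχ) N) (irr_isCharacter ψ.2), ← h1]
      exact map_eq_zero σ)
  obtain ⟨x, hx⟩ := constituents_conj hN hχ ψ.2 hθ hψ h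
  have h3 : ∀ n : N, (ψ : N → ℂ) (n ^ k) = (ψ : N → ℂ) n := by
    intro n
    have := congrArg (fun z : IrrCharacter N => (z : N → ℂ) n) hψ'
    simp only [galIrr_apply] at this
    rw [← this, ← char_gal_pow hσ hcard (irr_isCharacter ψ.2)]
  rw [← hx, cj_apply, cj_apply, ← h3 ⟨x * n * x⁻¹, _⟩]
  refine congrArg (ψ : N → ℂ) (Subtype.ext ?_)
  change x * ((n ^ k : N) : G) * x⁻¹ = (x * (n : G) * x⁻¹) ^ k
  rw [conj_pow]
  rfl

end Pow
end CfsgLib.GalCliff
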