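import Mathlib
import Cfsg.Agent.LibExtend7
import Cfsg.Agent.LibGalCliff
import Cfsg.Agent.LibFS
import Cfsg.Agent.LibQuot19

/-!
# Galois-fixed extensions (helper20)
-/

set_option autoImplicit false
set_option linter.all false

namespace CfsgLib.Extend

open Cfsg CfsgLib.CharBasic CfsgLib.Clifford
open scoped Pointwise ComplexConjugate

universe u v w

section
variable {G : Type u} [Group G] {N : Subgroup G} [hN : N.Normal]
variable {V : Type v} [AddCommGroup V] [Module ℂ V] [FiniteDimensional ℂ V] {ρ : Representation ℂ N V}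
    [hρ : ρ.IsIrreducible]

omit [FiniteDimensional ℂ V] hρ in
/-- a homomorphism which is the identity on the scalars of exponent `m`, `m` a level, gives level one -/
theorem lev_one_of_hom {m : ℕ} (hm : m ≠ 0) (hR : Lev N ρ m) (T : Gam N ρ →* ℂˣ) (hT : ∀ n, T (nt N ρ n) = 1)
    (hc : ∀ c : ℂˣ, c ^ m = 1 → T (ia N ρ c) = c) : Lev N ρ 1 := by
  obtain ⟨R, hR1, hR2⟩ := hR
  let P : ℂˣ →* ℂˣ := powMonoidHom m
  have hP : Function.Surjective P := fun a => exists_pow_unit hm a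
  let f₀ : ℂˣ →* ℂˣ := T.comp (ia N ρ) * (MonoidHom.id _)⁻¹
  have hf₀ : P.ker ≤ f₀.ker := by
    intro c hc'
    rw [MonoidHom.mem_ker] at hc' ⊢
    show T (ia N ρ c) * c⁻¹ = 1
    rw [hc c hc', mul_inv_cancel]
  let f : ℂˣ →* ℂˣ := P.liftOfSurjective hP ⟨f₀, hf₀⟩
  have hf : ∀ c, f (c ^ m) = T (ia N ρ c) * c⁻¹ := by
    intro c
    exact MonoidHom.liftOfRightInverse_comp_apply P _ (Function.rightInverse_surjInv hP) ⟨f₀, hf₀⟩ c
  refine ⟨T * (f.comp R)⁻¹, fun c => ?_, fun n => ?_⟩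
  · rw [MonoidHom.mul_apply, MonoidHom.inv_apply, MonoidHom.comp_apply, hR1, zpow_natCast, hf, mul_inv, inv_inv,
      mul_inv_cancel_left, zpow_one]
  · rw [MonoidHom.mul_apply, MonoidHom.inv_apply, MonoidHom.comp_apply, hR2, hT, map_one, inv_one, mul_one]

/-- an automorphism of `GL(V)` fixing the representation gives a homomorphism on `Gam` -/
theorem exists_hom_of_aut (Φ : (V →ₗ[ℂ] V)ˣ →* (V →ₗ[ℂ] V)ˣ) (hΦ : ∀ n : N, Φ (mat N ρ (nt N ρ n)) = mat N ρ (nt N ρ n)) :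
    ∃ T : Gam N ρ →* ℂˣ, ∀ x, Φ (mat N ρ x) = sc (T x) * mat N ρ x := by
  haveI := irr_nontrivial ρ
  have hex : ∀ x : Gam N ρ, ∃ c : ℂˣ, Φ (mat N ρ x) = sc c * mat N ρ x := by
    intro x
    apply schur_unit (ρ := ρ)
    intro n
    -- `x n = n' x`
    have h1 : x * nt N ρ n = nt N ρ (MulAut.conjNormal (pr N ρ x) n) * x := by
      rw [← nt_conj x n]; group
    have h2 := congrArg (fun y => Φ (mat N ρ y)) h1
    simp only [map_mul, hΦ] at h2
    have h3 := congrArg (fun y => mat N ρ y) h1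
    simp only [map_mul] at h3
    have h4 : mat N ρ (nt N ρ (MulAut.conjNormal (pr N ρ x) n)) = mat N ρ x * mat N ρ (nt N ρ n) * (mat N ρ x)⁻¹ := by
      rw [h3]; group
    rw [h4] at h2
    exact congrArg (fun u : (V →ₗ[ℂ] V)ˣ => (u : V →ₗ[ℂ] V)) h2
  choose t ht using hex
  refine ⟨{ toFun := t, map_one' := ?_, map_mul' := fun x y => ?_ }, ht⟩
  · apply sc_injective (V := V)
    have := ht 1
    rw [map_one, map_one, mul_one] at this
    rw [← this, map_one]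
  · apply sc_injective (V := V)
    have h1 := ht (x * y)
    rw [map_mul, map_mul, ht x, ht y, sc_shuffle] at h1
    have h2 := mul_right_cancel h1
    rw [← h2, ← map_mul, mul_comm]

end

section Fin
variable {G : Type u} [Group G] [Finite G] {N : Subgroup G} [hN : N.Normal]

/-- entrywise field automorphism -/
noncomputable def entry (τ : ℂ ≃+* ℂ) (d : ℕ) : ((Fin d → ℂ) →ₗ[ℂ] (Fin d → ℂ)) →* ((Fin d → ℂ) →ₗ[ℂ] (Fin d → ℂ)) where
  toFun A := Matrix.toLin' ((LinearMap.toMatrix' A).map τ)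
  map_one' := by
    rw [LinearMap.toMatrix'_one, Matrix.map_one _ (map_zero τ) (map_one τ), Matrix.toLin'_one]
    rfl
  map_mul' A B := by
    rw [LinearMap.toMatrix'_mul, Matrix.map_mul, Matrix.toLin'_mul]
    rfl

theorem entry_smul (τ : ℂ ≃+* ℂ) (d : ℕ) (c : ℂ) : entry τ d (c • LinearMap.id) = τ c • LinearMap.id := by
  unfold entry
  simp only [MonoidHom.coe_mk, OneHom.coe_mk, map_smul, LinearMap.toMatrix'_id]
  have : ((c • (1 : Matrix (Fin d) (Fin d) ℂ)).map τ) = τ c • (1 : Matrix (Fin d) (Fin d) ℂ) := by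
    ext i j
    by_cases h : i = j
    · subst h; simp
    · simp [h]
  rw [this, map_smul, Matrix.toLin'_one]

/-- an invariant character of `N` fixed by a field automorphism inverting the `|G : N|`-th roots of unity extends to `G`
when `|G : N|` is odd -/
theorem ext_of_gal {θ : N → ℂ} (hθ : IsIrrCharacter N θ) (hinv : Inv N θ) (hodd : Odd N.index) (τ : ℂ ≃+* ℂ)
    (hτθ : ∀ n, τ (θ n) = θ n) (hτ : ∀ c : ℂ, c ^ N.index = 1 → τ c = c⁻¹) :
    ∃ χ : G → ℂ, IsIrrCharacter G χ ∧ ∀ n : N, χ n = θ n := by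
  obtain ⟨d, ρ, hρ, rfl⟩ := hθ
  apply ext_of_lev hinv
  -- the equivalence
  have hch : (CfsgLib.GalChar.galRep τ ρ).character = ρ.character := by
    ext n
    rw [CfsgLib.GalChar.character_galRep, hτθ]
  haveI h1 : (CfsgLib.GalChar.galRep τ ρ).IsIrreducible := by
    apply isIrreducible_of_char
    rw [hch]
    exact ⟨d, ρ, hρ, rfl⟩
  obtain ⟨E⟩ := exists_equiv ρ (CfsgLib.GalChar.galRep τ ρ) hch.symm
  let B : ((Fin d → ℂ) →ₗ[ℂ] (Fin d → ℂ))ˣ := LinearMap.GeneralLinearGroup.ofLinearEquiv E.toLinearEquiv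
  have hB : ∀ n : N, (B : (Fin d → ℂ) →ₗ[ℂ] (Fin d → ℂ)) * ρ n = entry τ d (ρ n) * (B : (Fin d → ℂ) →ₗ[ℂ] (Fin d → ℂ)) := by
    intro n
    apply LinearMap.ext
    intro v
    exact LinearMap.congr_fun (E.isIntertwining' n) v
  let Φ : ((Fin d → ℂ) →ₗ[ℂ] (Fin d → ℂ))ˣ →* ((Fin d → ℂ) →ₗ[ℂ] (Fin d → ℂ))ˣ :=
    (MulAut.conj B⁻¹).toMonoidHom.comp (Units.map (entry τ d))
  have hΦ1 : ∀ n : N, Φ (mat N ρ (nt N ρ n)) = mat N ρ (nt N ρ n) := by
    intro n
    show B⁻¹ * Units.map (entry τ d) (mat N ρ (nt N ρ n)) * B⁻¹⁻¹ = _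
    rw [inv_inv, mul_assoc, inv_mul_eq_iff_eq_mul]
    apply Units.ext
    rw [Units.val_mul, Units.val_mul, Units.coe_map, mat_nt]
    exact (hB n).symm
  obtain ⟨T, hT⟩ := exists_hom_of_aut Φ hΦ1
  haveI := irr_nontrivial ρ
  have hTn : ∀ n, T (nt N ρ n) = 1 := by
    intro n
    apply sc_injective (V := Fin d → ℂ)
    have h2 := hT (nt N ρ n)
    rw [hΦ1] at h2
    rw [map_one]
    exact (mul_eq_right.mp h2.symm)
  have hTc : ∀ c : ℂˣ, (T (ia N ρ c) : ℂ) * c = τ c := by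
    intro c
    have h2 := hT (ia N ρ c)
    rw [mat_ia, ← map_mul] at h2
    have h3 : Φ (sc c) = sc (Units.map (τ : ℂ →* ℂ) c) := by
      show B⁻¹ * Units.map (entry τ d) (sc c) * B⁻¹⁻¹ = _
      have h4 : Units.map (entry τ d) (sc c) = sc (Units.map (τ : ℂ →* ℂ) c) := by
        apply Units.ext
        rw [Units.coe_map, sc_val, sc_val]
        exact entry_smul τ d c
      rw [h4, inv_inv, ← sc_comm, mul_assoc, inv_mul_cancel, mul_one]
    rw [h3] at h2
    have h4 := sc_injective (V := Fin d → ℂ) h2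
    have h5 := congrArg (fun u : ℂˣ => (u : ℂ)) h4
    simp only [Units.coe_map, Units.val_mul] at h5
    exact h5.symm
  set m := N.index with hm
  have hm0 : m ≠ 0 := Subgroup.index_ne_zero_of_finite
  obtain ⟨r, hr⟩ := hodd
  -- power `s` with `-2 s = 1 mod m` : `s = r` since `-2 r = 1 - m`
  refine lev_one_of_hom hm0 (lev_index hinv) (T ^ r) (fun n => ?_) (fun c hc => ?_)
  · rw [MonoidHom.pow_apply, hTn, one_pow]
  · rw [MonoidHom.pow_apply]
    have h2 : (c : ℂ) ^ m = 1 := by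
      rw [← Units.val_pow_eq_pow_val, hc]; rfl
    have h3 : T (ia N ρ c) = c⁻¹ * c⁻¹ := by
      apply Units.ext
      have h4 := hTc c
      rw [hτ c h2] at h4
      rw [Units.val_mul, Units.val_inv_eq_inv_val]
      field_simp at h4 ⊢
      linear_combination h4
    rw [h3, ← pow_two, ← pow_mul, inv_pow]
    have h5 : c ^ (2 * r) * c = 1 := by rw [← pow_succ, ← hr, hc]
    rw [inv_eq_iff_mul_eq_one, h5]

/-- and then there is a fixed extension -/
theorem ext_of_gal' {θ : N → ℂ} (hθ : IsIrrCharacter N θ) (hinv : Inv N θ) (hodd : Odd N.index) (τ : ℂ ≃+* ℂ)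
    (hτθ : ∀ n, τ (θ n) = θ n) (hτ : ∀ c : ℂ, c ^ N.index = 1 → τ c = c⁻¹) :
    ∃ χ : G → ℂ, IsIrrCharacter G χ ∧ (∀ n : N, χ n = θ n) ∧ ∀ g, τ (χ g) = χ g := by
  obtain ⟨χ₀, hχ₀, hext⟩ := ext_of_gal hθ hinv hodd τ hτθ hτ
  obtain ⟨lam, hlam, heq⟩ := ext_mul_linear hθ hχ₀ (CfsgLib.GalChar.isIrrCharacter_gal τ hχ₀) hext (fun n => by
    rw [Function.comp_apply, hext, hτθ])
  obtain ⟨r, hr⟩ := hodd
  haveI := Fintype.ofFinite G
  obtain ⟨d, -, hd⟩ := irr_one_nat hχ₀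
  have h1 : lam ^ N.index = 1 := pow_index_eq_one hlam
  refine ⟨fun g => ((lam ^ (r + 1)) g : ℂ) * χ₀ g, (det_mul_linear hχ₀ (lam ^ (r + 1)) d hd).1, fun n => ?_, fun g => ?_⟩
  · show ((lam ^ (r + 1)) (n : G) : ℂ) * χ₀ n = θ n
    rw [MonoidHom.pow_apply, hlam, one_pow, hext]; simp
  · have h2 : (lam g : ℂ) ^ N.index = 1 := by
      have := congrArg (fun F : G →* ℂˣ => ((F g : ℂˣ) : ℂ)) h1
      simpa using this
    have h3 : τ (χ₀ g) = lam g * χ₀ g := congrFun heq g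
    show τ (((lam ^ (r + 1)) g : ℂ) * χ₀ g) = ((lam ^ (r + 1)) g : ℂ) * χ₀ g
    rw [map_mul, h3, MonoidHom.pow_apply, Units.val_pow_eq_pow_val, map_pow, hτ _ h2]
    have h4 : (lam g : ℂ) ≠ 0 := (lam g).ne_zero
    rw [hr] at h2
    have h5 : (lam g : ℂ) ^ (r + 1) * (lam g : ℂ) ^ (r + 1) = lam g := by
      calc (lam g : ℂ) ^ (r + 1) * (lam g : ℂ) ^ (r + 1) = (lam g : ℂ) ^ (2 * r + 1) * lam g := by ring
        _ = lam g := by rw [h2, one_mul]
    rw [inv_pow]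
    have h6 : (lam g : ℂ) ^ (r + 1) ≠ 0 := pow_ne_zero _ h4
    field_simp
    linear_combination (χ₀ g) * (-h5)

end Fin

section Odd

/-- a real irreducible character of a group of odd order is trivial -/
theorem real_irr_odd {Q : Type u} [Group Q] [Finite Q] (hodd : Odd (Nat.card Q)) {η : Q → ℂ} (hη : IsIrrCharacter Q η)
    (hre : ∀ q, η q⁻¹ = η q) : η = fun _ => 1 := by
  haveI := Fintype.ofFinite Q
  by_contra hne
  have h1 := (CfsgLib.FS.fs_ne_zero_iff hη).mpr ((CfsgLib.FS.conj_eq_iff_real (irr_isCharacter hη)).mp hre)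
  apply h1
  rw [CfsgLib.FS.fsInd_eq]
  have hcop : (Nat.card Q).Coprime 2 := (Nat.coprime_two_right).mpr hodd
  have h2 : ∑ g : Q, η (g * g) = ∑ g : Q, η g := by
    refine Fintype.sum_equiv (powCoprime hcop) _ _ fun g => ?_
    rw [powCoprime_apply, pow_two]
  rw [h2]
  have h3 := irr_inner_ne hη (isIrrCharacter_one (G := Q)) hne
  unfold classInner at h3
  simpa using h3

variable {G : Type u} [Group G] [Fintype G] {N : Subgroup G} [hN : N.Normal] [Fintype N]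

theorem real_irr_odd' (hodd : Odd N.index) {η : G → ℂ} (hη : IsIrrCharacter G η) (hker : ∀ n ∈ N, η n = η 1)
    (hre : ∀ q, η q⁻¹ = η q) : η = fun _ => 1 := by
  obtain ⟨η', h1, h2⟩ := CfsgLib.Quot19.irr_deflate N hη hker
  have h3 := real_irr_odd (Q := G ⧸ N) (by rwa [← Subgroup.index_eq_card]) h1 (by
    intro q
    obtain ⟨g, rfl⟩ := QuotientGroup.mk_surjective q
    rw [← QuotientGroup.mk_inv, h2, h2, hre])
  ext g
  rw [← h2, h3]

/-- uniqueness of a fixed character above an extendible one -/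
theorem unique_of_gal {χ χ' : G → ℂ} (hχ : IsIrrCharacter G χ) (hχ' : IsIrrCharacter G χ')
    (hχN : IsIrrCharacter N (fun n : N => χ n)) (hover : classInner (fun n : N => χ' n) (fun n : N => χ n) ≠ 0) (hodd : Odd N.index)
    (k : ℕ) (hkN : ∀ g : G, g ^ k * g ∈ N) (τ : ℂ ≃+* ℂ) (hτk : ∀ ψ : G → ℂ, IsCharacter G ψ → ∀ g, ψ (g ^ k) = τ (ψ g))
    (h1 : ∀ g, τ (χ g) = χ g) (h2 : ∀ g, τ (χ' g) = χ' g) : χ' = χ := by
  obtain ⟨hη, hmul⟩ := CfsgLib.Gallagher.gallagher_exists N hχ hχN hχ' hover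
  set η := CfsgLib.Gallagher.avg N (fun g => χ' g * conj (χ g)) with hηdef
  have h3 : ∀ g, τ (η g) = η g := by
    intro g
    rw [hηdef]
    unfold CfsgLib.Gallagher.avg
    rw [map_mul, map_inv₀, map_natCast, map_sum]
    congr 1
    refine Finset.sum_congr rfl fun n _ => ?_
    rw [map_mul, h2, ← char_inv_eq_conj (irr_isCharacter hχ), h1]
  have h4 : ∀ g, η g⁻¹ = η g := by
    intro g
    have h5 := hτk η (irr_isCharacter hη) g
    rw [h3] at h5
    have h6 : g ^ k = ((⟨_, hkN g⟩ : N) : G) * g⁻¹ := by simp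
    rw [h6, hηdef, CfsgLib.Gallagher.avg_mul_left] at h5
    exact h5
  have h5 := real_irr_odd' (N := N) hodd hη (fun n hn => CfsgLib.Gallagher.avg_ker N n hn) h4
  rw [← hmul, h5]
  ext g
  simp

end Odd

section NT

theorem exists_good_power {G : Type u} [Group G] [Finite G] (k : ℕ) (hk : Nat.Coprime k (Nat.card G))
    (hk₂ : ∀ g : G, Odd (orderOf g) → g ^ k = g⁻¹) :
    ∃ k' : ℕ, Nat.Coprime k' (Nat.card G) ∧ (∀ g : G, g ^ k' = g ^ k) ∧ ∀ m, Odd m → m ∣ Nat.card G → m ∣ k' + 1 := by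
  have hn0 : Nat.card G ≠ 0 := Nat.card_pos.ne'
  obtain ⟨a, m₀, hm₀, hn⟩ := Nat.exists_eq_two_pow_mul_odd hn0
  have hcop : Nat.Coprime (2 ^ a) m₀ := Nat.Coprime.pow_left _ (Nat.coprime_two_left.mpr hm₀)
  obtain ⟨k', h1, h2⟩ := Nat.chineseRemainder hcop k (m₀ - 1)
  have hm₀pos : 0 < m₀ := hm₀.pos
  have h3 : m₀ ∣ k' + 1 := by
    have h4 : k' + 1 ≡ m₀ - 1 + 1 [MOD m₀] := h2.add_right 1
    rw [Nat.sub_add_cancel hm₀pos] at h4
    exact (Nat.modEq_zero_iff_dvd).mp (h4.trans (by simp [Nat.ModEq]))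
  have h4 : ∀ m, Odd m → m ∣ Nat.card G → m ∣ k' + 1 := by
    intro m hm hmd
    rw [hn] at hmd
    exact (Nat.Coprime.dvd_of_dvd_mul_left (Nat.Coprime.pow_right _ (Nat.coprime_two_right.mpr hm)) hmd).trans h3
  refine ⟨k', ?_, fun g => ?_, h4⟩
  · rw [hn]
    apply Nat.Coprime.mul_right
    · have h5 := h1.gcd_eq
      rw [Nat.Coprime, h5]
      exact Nat.Coprime.coprime_dvd_right (Dvd.intro _ hn.symm) hk
    · have h5 : Nat.Coprime k' (k' + 1) := by simp
      exact Nat.Coprime.coprime_dvd_right h3 h5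
  · rw [pow_eq_pow_iff_modEq]
    have ho0 : orderOf g ≠ 0 := (orderOf_pos g).ne'
    obtain ⟨b, m', hm', ho⟩ := Nat.exists_eq_two_pow_mul_odd ho0
    have hdvd : orderOf g ∣ Nat.card G := orderOf_dvd_natCard g
    have h5 : orderOf (g ^ (2 ^ b)) = m' := by
      rw [orderOf_pow' g (by positivity), ho, Nat.gcd_eq_right (Dvd.intro _ rfl), Nat.mul_div_cancel_left _ (by positivity)]
    have h6 : m' ∣ k + 1 := by
      rw [← h5, orderOf_dvd_iff_pow_eq_one, pow_succ, hk₂ _ (by rwa [h5]), inv_mul_cancel]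
    have h7 : m' ∣ k' + 1 := h4 m' hm' ((Dvd.intro_left _ ho.symm).trans hdvd)
    have h8 : k' ≡ k [MOD m'] := by
      have h9 : k' + 1 ≡ k + 1 [MOD m'] := ((Nat.modEq_zero_iff_dvd).mpr h7).trans ((Nat.modEq_zero_iff_dvd).mpr h6).symm
      exact Nat.ModEq.add_right_cancel' 1 h9
    have h9 : k' ≡ k [MOD 2 ^ b] := by
      have h10 : 2 ^ b ∣ 2 ^ a * m₀ := by
        rw [← hn]; exact (Dvd.intro _ ho.symm).trans hdvd
      exact h1.of_dvd ((Nat.Coprime.pow_left _ (Nat.coprime_two_left.mpr hm₀)).dvd_of_dvd_mul_right h10)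
    rw [ho]
    exact (Nat.modEq_and_modEq_iff_modEq_mul (Nat.Coprime.pow_left _ (Nat.coprime_two_left.mpr hm'))).mp ⟨h9, h8⟩

end NT

end CfsgLib.Extend
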