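import Mathlib
import Cfsg.Agent.EqBase
import Cfsg.Prelude.Def_Blocks
import Cfsg.Agent.LibBlkSmall
import Cfsg.Agent.LibFS

/-!
# S4478: Frobenius-Schur count for a character of 2-defect zero (helper17)
-/

set_option autoImplicit false
set_option linter.unusedSectionVars false
set_option linter.style.haveILetI false
set_option linter.unusedSimpArgs false

namespace CfsgLib.FSDef0

open CfsgLib.CharInt hiding irr_isCharacter irr_classFun irr_one_ne_zero schur_scalar
open Cfsg CfsgLib.CharInt2 CfsgLib.CharBasic CfsgLib.BlockR CfsgLib.BlockCore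
  CfsgLib.BlockIdem CfsgLib.BlockIdeal CfsgLib.BlockConj CfsgLib.BlockBrauer CfsgLib.BlockInd
  CfsgLib.BlockFMT CfsgLib.BlockFMT2 CfsgLib.PLocalInd CfsgLib.BlockOrth CfsgLib.BlockDefect
  CfsgLib.BlockReg CfsgLib.BlockReg2 CfsgLib.BlockCount CfsgLib.BlockCount2 CfsgLib.BlockQP
  CfsgLib.BlkSmall CfsgLib.FS

universe u v

variable {G : Type u} [Group G] [Fintype G]

theorem vanish {p : ℕ} (hp : p.Prime) {χ : IrrCharacter G}
    (h : p ^ (Nat.card G).factorization p ∣ charDegree (χ : G → ℂ)) {g : G}
    (hg : p ∣ orderOf g) : (χ : G → ℂ) g = 0 := by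
  haveI : Fact p.Prime := ⟨hp⟩
  obtain ⟨M, hM⟩ := exists_modular p hp
  apply vanish_of_defect_zero hM _ hg
  apply le_antisymm
  · exact (Nat.factorization_le_iff_dvd (irr_charDegree_pos χ.2).ne' Nat.card_pos.ne').mpr
                (charDegree_dvd_card χ.2) p
  · exact (hp.pow_dvd_iff_le_factorization (irr_charDegree_pos χ.2).ne').mp h

theorem s4478 (heven : Even (Nat.card G)) (χ : IrrCharacter G)
    (h2 : 2 ^ (Nat.card G).factorization 2 ∣ charDegree (χ : G → ℂ))
    (hp : ∀ p : ℕ, p.Prime → p ≠ 2 → (∃ g : G, orderOf g = 2 * p) →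
      p ^ (Nat.card G).factorization p ∣ charDegree (χ : G → ℂ)) :
    (∀ s t : G, orderOf s = 2 → orderOf t = 2 → IsConj s t) ∧
    (∀ s : G, orderOf s = 2 →
      Nat.card (Subgroup.centralizer ({s} : Set G)) = charDegree (χ : G → ℂ) ∧
      (Nat.card (Subgroup.centralizer ({s} : Set G))).Coprime
        (Subgroup.centralizer ({s} : Set G)).index) ∧
    (Nat.card G : ℂ)⁻¹ * ∑ g : G, (χ : G → ℂ) (g * g) = 1 := by
  classical
  set x := charDegree (χ : G → ℂ) with hx
  have hxpos : 0 < x := irr_charDegree_pos χ.2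
  have hG0 : (Nat.card G) ≠ 0 := Nat.card_pos.ne'
  have hx2 : 2 ∣ x := by
    refine (dvd_pow_self 2 ?_).trans h2
    exact (Nat.prime_two.factorization_pos_of_dvd hG0 heven.two_dvd).ne'
  have hterm : ∀ g : G, (χ : G → ℂ) (g * g) =
      (if Odd (orderOf g) then (χ : G → ℂ) (g * g) else 0) +
      (if orderOf g = 2 then (x : ℂ) else 0) := by
    intro g
    by_cases hodd : Odd (orderOf g)
    · have : orderOf g ≠ 2 := by
        intro h; rw [h] at hodd; exact absurd hodd (by decide)
      rw [if_pos hodd, if_neg this, add_zero]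
    · rw [if_neg hodd, zero_add]
      by_cases hg2 : orderOf g = 2
      · rw [if_pos hg2]
        have : g * g = 1 := by rw [← pow_two, ← hg2, pow_orderOf_eq_one]
        rw [this, irr_one_eq_charDegree χ.2]
      · rw [if_neg hg2]
        have hev : 2 ∣ orderOf g := (Nat.not_odd_iff_even.mp hodd).two_dvd
        obtain ⟨m, hm⟩ := hev
        have hm0 : m ≠ 0 := by
          rintro rfl; rw [mul_zero] at hm; exact (orderOf_pos g).ne' hm
        have hm1 : m ≠ 1 := by
          rintro rfl; exact hg2 (by rw [hm])
        obtain ⟨q, hq, hqm⟩ := Nat.exists_prime_and_dvd hm1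
        have hsq : orderOf (g * g) = m := by
          rw [← pow_two, orderOf_pow_of_dvd two_ne_zero (Dvd.intro _ hm.symm), hm]
          omega
        by_cases hq2 : q = 2
        · exact vanish Nat.prime_two h2 (by rw [hsq, ← hq2]; exact hqm)
        · apply vanish hq _ (by rw [hsq]; exact hqm)
          apply hp q hq hq2
          obtain ⟨k, hk⟩ := hqm
          have hk0 : k ≠ 0 := by rintro rfl; rw [mul_zero] at hk; exact hm0 hk
          refine ⟨g ^ k, ?_⟩
          rw [orderOf_pow_of_dvd hk0 ⟨2 * q, by rw [hm, hk]; ring⟩, hm, hk, ← mul_assoc,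
            Nat.mul_div_cancel _ (Nat.pos_of_ne_zero hk0)]
  have hsumodd : ∑ g : G, (if Odd (orderOf g) then (χ : G → ℂ) (g * g) else 0) = 0 := by
    rw [← Finset.sum_filter]
    have h3 : ∑ g ∈ Finset.univ.filter (fun g : G => Odd (orderOf g)), (χ : G → ℂ) (g * g) =
        ∑ g ∈ Finset.univ.filter (fun g : G => Odd (orderOf g)), (χ : G → ℂ) g := by
      have horder : ∀ g : G, Odd (orderOf g) → orderOf (g ^ 2) = orderOf g := by
        intro g hg
        exact Nat.Coprime.orderOf_pow (Nat.Coprime.symm (Nat.coprime_two_left.mpr hg))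
      refine Finset.sum_nbij' (fun g => g ^ 2) (fun g => g ^ ((orderOf g + 1) / 2)) ?_ ?_ ?_ ?_ ?_
      · intro g hg
        simp only [Finset.mem_filter, Finset.mem_univ, true_and] at hg ⊢
        rw [horder g hg]; exact hg
      · intro g hg
        simp only [Finset.mem_filter, Finset.mem_univ, true_and] at hg ⊢
        have : orderOf (g ^ ((orderOf g + 1) / 2)) ∣ orderOf g := orderOf_pow_dvd _
        exact Odd.of_dvd_nat hg this
      · intro g hg
        simp only [Finset.mem_filter, Finset.mem_univ, true_and] at hg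
        rw [horder g hg, ← pow_mul]
        have h4 : 2 * ((orderOf g + 1) / 2) = orderOf g + 1 := by
          obtain ⟨k, hk⟩ := hg; omega
        rw [h4, pow_succ, pow_orderOf_eq_one, one_mul]
      · intro g hg
        simp only [Finset.mem_filter, Finset.mem_univ, true_and] at hg
        rw [← pow_mul]
        have h4 : ((orderOf g + 1) / 2) * 2 = orderOf g + 1 := by
          obtain ⟨k, hk⟩ := hg; omega
        rw [h4, pow_succ, pow_orderOf_eq_one, one_mul]
      · intro g _
        rw [pow_two]
    rw [h3, Finset.sum_filter]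
    have h5 : ∀ g : G, (if Odd (orderOf g) then (χ : G → ℂ) g else 0) = (χ : G → ℂ) g := by
      intro g
      by_cases hodd : Odd (orderOf g)
      · rw [if_pos hodd]
      · rw [if_neg hodd]
        exact (vanish Nat.prime_two h2 (Nat.not_odd_iff_even.mp hodd).two_dvd).symm
    rw [Finset.sum_congr rfl (fun g _ => h5 g)]
    have h6 : classInner (χ : G → ℂ) (fun _ => 1) = 0 := by
      apply irr_inner_ne χ.2 isIrrCharacter_one
      intro h
      have h7 : (χ : G → ℂ) 1 = 1 := by rw [h]
      rw [irr_one_eq_charDegree χ.2] at h7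
      have h8 : x = 1 := by exact_mod_cast h7
      rw [h8] at hx2
      exact absurd hx2 (by decide)
    unfold classInner at h6
    simp only [map_one, mul_one] at h6
    rcases mul_eq_zero.mp h6 with h7 | h7
    · exact absurd h7 (inv_ne_zero (by exact_mod_cast hG0))
    · exact h7
  set t := (Finset.univ.filter (fun g : G => orderOf g = 2)).card with ht
  have htot : ∑ g : G, (χ : G → ℂ) (g * g) = (t : ℂ) * x := by
    rw [Finset.sum_congr rfl (fun g _ => hterm g), Finset.sum_add_distrib, hsumodd, zero_add,
      ← Finset.sum_filter, Finset.sum_const, nsmul_eq_mul]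
  have htpos : 0 < t := by
    haveI : Fact (Nat.Prime 2) := ⟨Nat.prime_two⟩
    obtain ⟨s, hs⟩ := exists_prime_orderOf_dvd_card' (G := G) 2 heven.two_dvd
    exact Finset.card_pos.mpr ⟨s, by simp [hs]⟩
  have hfs : fsInd (χ : G → ℂ) = 1 := by
    have h1 : fsInd (χ : G → ℂ) = (Nat.card G : ℂ)⁻¹ * ((t : ℂ) * x) := by rw [fsInd_eq, htot]
    have h2 : (Nat.card G : ℂ) ≠ 0 := by exact_mod_cast hG0
    rcases fs_trichotomy χ.2 with h | h | h
    · rw [h] at h1
      exfalso
      have h3 : ((t * x : ℕ) : ℂ) ≠ 0 := by exact_mod_cast (mul_pos htpos hxpos).ne'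
      push_cast at h3
      exact mul_ne_zero (inv_ne_zero h2) h3 h1.symm
    · exact h
    · rw [h] at h1
      exfalso
      have h3 : -(Nat.card G : ℂ) = (t : ℂ) * x := by
        have := congrArg (fun z => (Nat.card G : ℂ) * z) h1
        simp only [mul_neg, mul_one] at this
        rw [this, mul_inv_cancel_left₀ h2]
      have h4 : (0 : ℂ) = ((t * x + Nat.card G : ℕ) : ℂ) := by
        push_cast
        rw [← h3]; ring
      have h5 : t * x + Nat.card G = 0 := by exact_mod_cast h4.symm
      omega
  have hcard : t * x = Nat.card G := by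
    have h1 : fsInd (χ : G → ℂ) = (Nat.card G : ℂ)⁻¹ * ((t : ℂ) * x) := by rw [fsInd_eq, htot]
    have h2 : (Nat.card G : ℂ) ≠ 0 := by exact_mod_cast hG0
    rw [hfs] at h1
    have h3 : (Nat.card G : ℂ) = (t : ℂ) * x := by
      have := congrArg (fun z => (Nat.card G : ℂ) * z) h1
      simp only [mul_one] at this
      rw [this, mul_inv_cancel_left₀ h2]
    exact_mod_cast h3.symm
  -- primes dividing the centralizer of an involution
  have hprime : ∀ s : G, orderOf s = 2 → ∀ q : ℕ, q.Prime →
      q ∣ Nat.card (Subgroup.centralizer ({s} : Set G)) →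
      q ^ (Nat.card G).factorization q ∣ x := by
    intro s hs q hq hqd
    by_cases hq2 : q = 2
    · rw [hq2]; exact h2
    · apply hp q hq hq2
      haveI : Fact q.Prime := ⟨hq⟩
      obtain ⟨y, hy⟩ := exists_prime_orderOf_dvd_card' (G := Subgroup.centralizer ({s} : Set G)) q hqd
      refine ⟨s * (y : G), ?_⟩
      have hyo : orderOf (y : G) = q := by rw [Subgroup.orderOf_coe]; exact hy
      have hc : Commute s (y : G) := by
        have := (Subgroup.mem_centralizer_iff.mp y.2) s rfl
        exact this
      rw [hc.orderOf_mul_eq_mul_orderOf_of_coprime, hs, hyo]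
      rw [hs, hyo]
      exact (Nat.coprime_primes Nat.prime_two hq).mpr (Ne.symm hq2)
  have hcdvd : ∀ s : G, orderOf s = 2 → Nat.card (Subgroup.centralizer ({s} : Set G)) ∣ x := by
    intro s hs
    rw [← Nat.factorization_le_iff_dvd Nat.card_pos.ne' hxpos.ne']
    intro q
    by_cases hq : q.Prime
    · by_cases hqd : q ∣ Nat.card (Subgroup.centralizer ({s} : Set G))
      · have h3 := (hq.pow_dvd_iff_le_factorization hxpos.ne').mp (hprime s hs q hq hqd)
        refine le_trans ?_ h3
        exact (Nat.factorization_le_iff_dvd Nat.card_pos.ne' hG0).mpr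
          (Subgroup.card_subgroup_dvd_card _) q
      · rw [Nat.factorization_eq_zero_of_not_dvd hqd]; exact Nat.zero_le _
    · rw [Nat.factorization_eq_zero_of_not_prime _ hq]; exact Nat.zero_le _
  have hcls : ∀ s : G, orderOf s = 2 →
      (Finset.univ.filter (fun g : G => IsConj s g)) ⊆ Finset.univ.filter (fun g : G => orderOf g = 2) := by
    intro s hs g hg
    simp only [Finset.mem_filter, Finset.mem_univ, true_and] at hg ⊢
    obtain ⟨c, hc⟩ := isConj_iff.mp hg
    rw [← hc, orderOf_conj, hs]
  have hclcard : ∀ s : G, (Finset.univ.filter (fun g : G => IsConj s g)).card *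
      Nat.card (Subgroup.centralizer ({s} : Set G)) = Nat.card G := by
    intro s
    have h3 := card_class_mul_card_centralizer s
    rwa [Nat.card_eq_fintype_card, Fintype.card_subtype] at h3
  have hmain : ∀ s : G, orderOf s = 2 → Nat.card (Subgroup.centralizer ({s} : Set G)) = x ∧
      (Finset.univ.filter (fun g : G => IsConj s g)) = Finset.univ.filter (fun g : G => orderOf g = 2) := by
    intro s hs
    have h3 := hclcard s
    have h4 := Finset.card_le_card (hcls s hs)
    have h5 := Nat.le_of_dvd hxpos (hcdvd s hs)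
    rw [← ht] at h4
    have hcpos : 0 < Nat.card (Subgroup.centralizer ({s} : Set G)) := Nat.card_pos
    have h6 : Nat.card (Subgroup.centralizer ({s} : Set G)) = x := by
      by_contra hne
      have h7 : Nat.card (Subgroup.centralizer ({s} : Set G)) < x := lt_of_le_of_ne h5 hne
      have h8 : (Finset.univ.filter (fun g : G => IsConj s g)).card *
          Nat.card (Subgroup.centralizer ({s} : Set G)) < t * x := by
        calc _ ≤ t * Nat.card (Subgroup.centralizer ({s} : Set G)) := Nat.mul_le_mul_right _ h4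
          _ < t * x := Nat.mul_lt_mul_of_pos_left h7 htpos
      rw [h3, hcard] at h8
      exact lt_irrefl _ h8
    refine ⟨h6, ?_⟩
    apply Finset.eq_of_subset_of_card_le (hcls s hs)
    rw [← ht]
    rw [h6, ← hcard] at h3
    exact (Nat.eq_of_mul_eq_mul_right hxpos h3).ge
  refine ⟨?_, ?_, ?_⟩
  · intro s u hs hu
    have h3 := (hmain s hs).2
    have h4 : u ∈ Finset.univ.filter (fun g : G => orderOf g = 2) := by simp [hu]
    rw [← h3] at h4
    simpa using h4
  · intro s hs
    refine ⟨(hmain s hs).1, ?_⟩
    apply Nat.Coprime.symm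
    apply Nat.coprime_of_dvd
    intro q hq hq1 hq2
    have h3 := hprime s hs q hq hq2
    rw [← (hmain s hs).1] at h3
    have h4 := Subgroup.card_mul_index (Subgroup.centralizer ({s} : Set G))
    have h5 : q ^ ((Nat.card G).factorization q + 1) ∣ Nat.card G := by
      have h6 := mul_dvd_mul h3 hq1
      rw [h4] at h6
      rw [pow_succ]
      exact h6
    exact absurd ((hq.pow_dvd_iff_le_factorization hG0).mp h5) (by omega)
  · rw [← fsInd_eq]; exact hfs

end CfsgLib.FSDef0
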