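import Mathlib.GroupTheory.Sylow
import Mathlib.Algebra.Group.Action.Sum
import Mathlib.Algebra.Group.Action.Sigma
import Mathlib.GroupTheory.GroupAction.SubMulAction
import Mathlib.Data.Nat.ModEq

set_option autoImplicit false

/-! Marks of finite `G`-sets, Burnside's theorem on marks and stabilization (helper1) -/

namespace CfsgLib.FT

universe u

section marks

variable {G : Type*} [Group G]

/-- points fixed by all elements of a subgroup -/
def fx (X : Type*) [MulAction G X] (K : Subgroup G) : Set X := {x | ∀ k ∈ K, k • x = x}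

theorem mem_fx {X : Type*} [MulAction G X] {K : Subgroup G} {x : X} : x ∈ fx X K ↔ K ≤ MulAction.stabilizer G x := Iff.rfl

/-- the mark -/
noncomputable def mark (X : Type*) [MulAction G X] (K : Subgroup G) : ℕ := Nat.card (fx X K)

theorem mark_congr {X Y : Type*} [MulAction G X] [MulAction G Y] (e : X ≃ Y) (he : ∀ (g : G) x, e (g • x) = g • e x) (K : Subgroup G) :
    mark X K = mark Y K := by
  refine Nat.card_congr (e.subtypeEquiv fun x => ?_)
  constructor
  · intro h k hk; rw [← he, h k hk]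
  · intro h k hk; apply e.injective; rw [he, h k hk]

theorem mark_sum {X Y : Type*} [MulAction G X] [MulAction G Y] [Finite X] [Finite Y] (K : Subgroup G) :
    mark (X ⊕ Y) K = mark X K + mark Y K := by
  rw [mark, mark, mark, ← Nat.card_sum]
  refine Nat.card_congr ⟨fun z => match z with
    | ⟨Sum.inl x, h⟩ => Sum.inl ⟨x, fun k hk => Sum.inl_injective (h k hk)⟩
    | ⟨Sum.inr x, h⟩ => Sum.inr ⟨x, fun k hk => Sum.inr_injective (h k hk)⟩,
    fun z => match z with
    | Sum.inl x => ⟨Sum.inl x.1, fun k hk => congrArg Sum.inl (x.2 k hk)⟩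
    | Sum.inr x => ⟨Sum.inr x.1, fun k hk => congrArg Sum.inr (x.2 k hk)⟩, ?_, ?_⟩
  · rintro ⟨x | x, h⟩ <;> rfl
  · rintro (⟨x, h⟩ | ⟨x, h⟩) <;> rfl

theorem mark_sigma {ι : Type*} [Fintype ι] {Y : ι → Type*} [∀ i, MulAction G (Y i)] [∀ i, Finite (Y i)] (K : Subgroup G) :
    mark (Σ i, Y i) K = ∑ i, mark (Y i) K := by
  have : mark (Σ i, Y i) K = Nat.card (Σ i, fx (Y i) K) := by
    refine Nat.card_congr ⟨fun z => ⟨z.1.1, z.1.2, fun k hk => ?_⟩, fun z => ⟨⟨z.1, z.2.1⟩, fun k hk => ?_⟩, fun z => rfl, fun z => rfl⟩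
    · obtain ⟨⟨i, y⟩, h⟩ := z
      have h2 : (⟨i, k • y⟩ : Σ i, Y i) = ⟨i, y⟩ := h k hk
      exact eq_of_heq (Sigma.mk.inj h2).2
    · show (⟨z.1, k • z.2.1⟩ : Σ i, Y i) = ⟨z.1, z.2.1⟩
      rw [z.2.2 k hk]
  rw [this, Nat.card_sigma]
  rfl

theorem mem_conj_iff {K : Subgroup G} {g x : G} : x ∈ K.map (MulAut.conj g).toMonoidHom ↔ g⁻¹ * x * g ∈ K := by
  constructor
  · rintro ⟨y, hy, rfl⟩
    have : g⁻¹ * (MulAut.conj g).toMonoidHom y * g = y := by
      show g⁻¹ * (g * y * g⁻¹) * g = y; group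
    rw [this]; exact hy
  · intro h
    refine ⟨_, h, ?_⟩
    show g * (g⁻¹ * x * g) * g⁻¹ = x
    group

theorem mark_conj {X : Type*} [MulAction G X] (K : Subgroup G) (g : G) : mark X (K.map (MulAut.conj g).toMonoidHom) = mark X K := by
  refine Nat.card_congr ((MulAction.toPerm g⁻¹ : Equiv.Perm X).subtypeEquiv fun x => ?_)
  show (∀ k ∈ K.map (MulAut.conj g).toMonoidHom, k • x = x) ↔ (∀ k ∈ K, k • g⁻¹ • x = g⁻¹ • x)
  constructor
  · intro h k hk
    have h1 := h (g * k * g⁻¹) (mem_conj_iff.2 (by have : g⁻¹ * (g * k * g⁻¹) * g = k := by group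
                                                   rw [this]; exact hk))
    rw [← mul_smul]
    have : k * g⁻¹ = g⁻¹ * (g * k * g⁻¹) := by group
    rw [this, mul_smul, h1]
  · intro h k hk
    have h1 := h _ (mem_conj_iff.1 hk)
    rw [← mul_smul] at h1
    have : g⁻¹ * k * g * g⁻¹ = g⁻¹ * k := by group
    rw [this, mul_smul] at h1
    exact smul_left_cancel _ h1

theorem card_conj (K : Subgroup G) (g : G) : Nat.card (K.map (MulAut.conj g).toMonoidHom) = Nat.card K :=
  (Nat.card_congr (K.equivMapOfInjective _ (MulEquiv.injective (MulAut.conj g))).toEquiv).symm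

theorem fx_coset {D K : Subgroup G} (g : G) : (g : G ⧸ D) ∈ fx (G ⧸ D) K ↔ K ≤ D.map (MulAut.conj g).toMonoidHom := by
  constructor
  · intro h k hk
    have h1 := h k hk
    rw [MulAction.Quotient.smul_coe, smul_eq_mul] at h1
    have h2 := QuotientGroup.eq.1 h1.symm
    rw [mem_conj_iff]
    rwa [← mul_assoc] at h2
  · intro h k hk
    have h1 := mem_conj_iff.1 (h hk)
    rw [MulAction.Quotient.smul_coe, smul_eq_mul]
    refine (QuotientGroup.eq.2 ?_).symm
    rwa [← mul_assoc]

theorem stab_coset {D : Subgroup G} (g : G) : MulAction.stabilizer G (g : G ⧸ D) = D.map (MulAut.conj g).toMonoidHom := by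
  apply le_antisymm
  · exact (fx_coset (D := D) (K := MulAction.stabilizer G (g : G ⧸ D)) g).1 (mem_fx.2 le_rfl)
  · exact mem_fx.1 ((fx_coset g).2 le_rfl)

theorem mark_coset_ne_zero [Finite G] {D K : Subgroup G} (h : mark (G ⧸ D) K ≠ 0) : ∃ g : G, K ≤ D.map (MulAut.conj g).toMonoidHom := by
  rw [mark, Nat.card_ne_zero] at h
  obtain ⟨⟨⟨x, hx⟩⟩, -⟩ := h
  induction x using QuotientGroup.induction_on with | H g =>
  exact ⟨g, (fx_coset g).1 hx⟩

theorem mark_coset_eq_zero [Finite G] {D K : Subgroup G} (h : Nat.card D < Nat.card K) : mark (G ⧸ D) K = 0 := by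
  by_contra h1
  obtain ⟨g, hg⟩ := mark_coset_ne_zero h1
  have := Subgroup.card_le_of_le hg
  rw [card_conj] at this
  omega

theorem mark_coset_conj [Finite G] {D K : Subgroup G} (h : Nat.card K = Nat.card D) (h1 : mark (G ⧸ D) K ≠ 0) :
    ∃ g : G, K = D.map (MulAut.conj g).toMonoidHom := by
  obtain ⟨g, hg⟩ := mark_coset_ne_zero h1
  exact ⟨g, Subgroup.eq_of_le_of_card_ge hg (by rw [card_conj, h])⟩

theorem mark_coset_self [Finite G] (D : Subgroup G) : mark (G ⧸ D) D = D.relIndex (Subgroup.normalizer (D : Set G)) := by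
  have h1 : mark (G ⧸ D) D = Nat.card (MulAction.fixedPoints D (G ⧸ D)) := by
    refine Nat.card_congr (Equiv.subtypeEquivRight fun x => ?_)
    exact ⟨fun h k => h k k.2, fun h k hk => h ⟨k, hk⟩⟩
  haveI : Finite (D : Set G) := inferInstanceAs (Finite D)
  rw [h1, Nat.card_congr (Sylow.fixedPointsMulLeftCosetsEquivQuotient D)]
  rfl

theorem fx_bot {X : Type*} [MulAction G X] : mark X (⊥ : Subgroup G) = Nat.card X := by
  rw [mark]
  have : fx X (⊥ : Subgroup G) = Set.univ := by
    ext x; simp [fx]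
  rw [this, Nat.card_univ]

theorem mark_le_card {X : Type*} [MulAction G X] [Finite X] (K : Subgroup G) : mark X K ≤ Nat.card X :=
  Nat.card_le_card_of_injective (fun x => x.1) Subtype.val_injective

/-- congruence -/
theorem mark_cong [Finite G] {X : Type*} [MulAction G X] [Finite X] {N : Type*} [Group N] [Finite N] (D : Subgroup N) [hD : D.Normal]
    (θ : N →* G) [Fintype N] : (∑ n : N, mark X ((D ⊔ Subgroup.zpowers n).map θ)) ≡ 0 [MOD Nat.card N] := by
  classical
  haveI : Fintype X := Fintype.ofFinite X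
  let Y : Type _ := fx X (D.map θ)
  letI : MulAction N Y := {
    smul := fun n y => ⟨θ n • y.1, by
      rintro _ ⟨d, hd, rfl⟩
      have h1 := y.2 (θ (n⁻¹ * d * n)) ⟨_, by have := hD.conj_mem d hd n⁻¹; rwa [inv_inv] at this, rfl⟩
      rw [← mul_smul, ← map_mul]
      have : d * n = n * (n⁻¹ * d * n) := by group
      rw [this, map_mul, mul_smul, h1]⟩
    one_smul := fun y => Subtype.ext (by show θ 1 • y.1 = y.1; rw [map_one, one_smul])
    mul_smul := fun a b y => Subtype.ext (by show θ (a * b) • y.1 = θ a • θ b • y.1; rw [map_mul, mul_smul]) }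
  haveI : Fintype Y := Fintype.ofFinite Y
  have key := MulAction.sum_card_fixedBy_eq_card_orbits_mul_card_group (X := Y) N
  have h1 : ∀ n : N, mark X ((D ⊔ Subgroup.zpowers n).map θ) = Fintype.card (MulAction.fixedBy Y n) := by
    intro n
    rw [mark, ← Nat.card_eq_fintype_card]
    refine Nat.card_congr ⟨fun x => ⟨⟨x.1, fun k hk => x.2 k (Subgroup.map_mono le_sup_left hk)⟩, ?_⟩, fun y => ⟨y.1.1, ?_⟩, fun _ => rfl, fun _ => rfl⟩
    · exact Subtype.ext (x.2 (θ n) ⟨n, Subgroup.mem_sup_right (Subgroup.mem_zpowers n), rfl⟩)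
    · rintro _ ⟨d, hd, rfl⟩
      have h2 : D ⊔ Subgroup.zpowers n ≤ (MulAction.stabilizer G y.1.1).comap θ := by
        refine sup_le (fun d hd => ?_) ?_
        · exact y.1.2 (θ d) ⟨d, hd, rfl⟩
        · rw [Subgroup.zpowers_le]
          exact congrArg Subtype.val y.2
      exact h2 hd
  rw [Finset.sum_congr rfl fun n _ => h1 n, key, Nat.card_eq_fintype_card]
  exact (Nat.modEq_zero_iff_dvd).2 (dvd_mul_left _ _)

/-- comparison of the marks at two subgroups -/
theorem mark_compare [Finite G] {X : Type*} [MulAction G X] [Finite X] {N : Type*} [Group N] [Finite N] (D : Subgroup N) [hD : D.Normal]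
    (θ₁ θ₂ : N →* G) (h : ∀ K : Subgroup N, D < K → mark X (K.map θ₁) = mark X (K.map θ₂)) :
    mark X (D.map θ₁) ≡ mark X (D.map θ₂) [MOD D.index] := by
  classical
  haveI : Fintype N := Fintype.ofFinite N
  have h1 := mark_cong (X := X) D θ₁
  have h2 := mark_cong (X := X) D θ₂
  have split : ∀ θ : N →* G, (∑ n : N, mark X ((D ⊔ Subgroup.zpowers n).map θ)) =
      Nat.card D * mark X (D.map θ) + ∑ n ∈ Finset.univ.filter (fun n : N => n ∉ D), mark X ((D ⊔ Subgroup.zpowers n).map θ) := by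
    intro θ
    rw [← Finset.sum_filter_add_sum_filter_not Finset.univ (fun n : N => n ∈ D)]
    congr 1
    rw [Finset.sum_congr rfl (g := fun _ => mark X (D.map θ))]
    · rw [Finset.sum_const, smul_eq_mul]
      congr 1
      rw [← Fintype.card_subtype, ← Nat.card_eq_fintype_card]
    · intro n hn
      have hn' := (Finset.mem_filter.1 hn).2
      rw [sup_eq_left.2 ((Subgroup.zpowers_le).2 hn')]
  rw [split] at h1 h2
  have h3 : (∑ n ∈ Finset.univ.filter (fun n : N => n ∉ D), mark X ((D ⊔ Subgroup.zpowers n).map θ₁)) =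
      ∑ n ∈ Finset.univ.filter (fun n : N => n ∉ D), mark X ((D ⊔ Subgroup.zpowers n).map θ₂) := by
    refine Finset.sum_congr rfl fun n hn => h _ ?_
    have hn' := (Finset.mem_filter.1 hn).2
    exact lt_of_le_of_ne le_sup_left fun he => hn' (he ▸ Subgroup.mem_sup_right (Subgroup.mem_zpowers n))
  rw [h3] at h1
  have h4 := h1.trans h2.symm
  have h5 := Nat.ModEq.add_right_cancel' _ h4
  rw [← Subgroup.card_mul_index D] at h5
  exact Nat.ModEq.mul_left_cancel' Nat.card_pos.ne' h5

end marks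

end CfsgLib.FT
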