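import Cfsg.Agent.LibFT10

set_option autoImplicit false

/-! Burnside's theorem on marks and stabilization (helper1) -/

namespace CfsgLib.FT

universe u v

section burnside

variable {G : Type*} [Group G]

/-- the complement of an orbit -/
def orbC (G : Type*) [Group G] {X : Type*} [MulAction G X] (x : X) : SubMulAction G X where
  carrier := (MulAction.orbit G x)ᶜ
  smul_mem' := fun g y hy h => hy (by
    obtain ⟨k, hk⟩ := h
    refine ⟨g⁻¹ * k, ?_⟩
    have hk' : k • x = g • y := hk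
    show (g⁻¹ * k) • x = y
    rw [mul_smul, hk', inv_smul_smul])

theorem exists_max_set {α : Type*} (s : Set α) (hs : s.Finite) (f : α → ℕ) (hne : s.Nonempty) : ∃ a ∈ s, ∀ b ∈ s, f b ≤ f a := by
  classical
  obtain ⟨a, ha, h⟩ := Finset.exists_max_image hs.toFinset f (by obtain ⟨a, ha⟩ := hne; exact ⟨a, hs.mem_toFinset.2 ha⟩)
  exact ⟨a, hs.mem_toFinset.1 ha, fun b hb => h b (hs.mem_toFinset.2 hb)⟩

theorem orbC_mem {X : Type*} [MulAction G X] {x y : X} : y ∈ orbC G x ↔ y ∉ MulAction.orbit G x := Iff.rfl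

theorem mark_orbC {X : Type*} [MulAction G X] [Finite X] (x : X) (K : Subgroup G) :
    mark X K = mark (MulAction.orbit G x) K + mark (orbC G x) K := by
  classical
  rw [mark, mark, mark, ← Nat.card_sum]
  refine Nat.card_congr ⟨fun z => if h : z.1 ∈ MulAction.orbit G x then Sum.inl ⟨⟨z.1, h⟩, fun k hk => Subtype.ext (z.2 k hk)⟩
      else Sum.inr ⟨⟨z.1, h⟩, fun k hk => Subtype.ext (z.2 k hk)⟩,
    fun z => match z with
      | Sum.inl y => ⟨y.1.1, fun k hk => congrArg Subtype.val (y.2 k hk)⟩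
      | Sum.inr y => ⟨y.1.1, fun k hk => congrArg Subtype.val (y.2 k hk)⟩, ?_, ?_⟩
  · rintro ⟨z, hz⟩
    by_cases h : z ∈ MulAction.orbit G x
    · simp only [h, dif_pos]
    · simp only [h, dif_neg, not_false_eq_true]
  · rintro (⟨⟨y, hy⟩, h⟩ | ⟨⟨y, hy⟩, h⟩)
    · simp only [hy, dif_pos]
    · have hy' : y ∉ MulAction.orbit G x := hy
      simp only [hy', dif_neg, not_false_eq_true]

/-- Burnside: finite `G`-sets with the same marks are isomorphic -/
theorem iso_of_marks [Finite G] : ∀ (n : ℕ) (X : Type u) (Y : Type v) [MulAction G X] [MulAction G Y] [Finite X] [Finite Y],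
    Nat.card X = n → (∀ K : Subgroup G, mark X K = mark Y K) → ∃ e : X ≃ Y, ∀ (g : G) x, e (g • x) = g • e x := by
  classical
  intro n
  induction n using Nat.strong_induction_on with
  | _ n ih =>
  intro X Y _ _ _ _ hn h
  have h0 := h ⊥
  rw [fx_bot, fx_bot] at h0
  rcases isEmpty_or_nonempty X with hX | hX
  · haveI : IsEmpty Y := by
      rw [Nat.card_of_isEmpty] at h0
      exact (Nat.card_eq_zero.1 h0.symm).resolve_right (fun h => h.not_finite inferInstance)
    exact ⟨Equiv.equivOfIsEmpty X Y, fun g x => (IsEmpty.false x).elim⟩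
  · -- a maximal subgroup with fixed points
    have hfin : (Set.univ : Set (Subgroup G)).Finite := Set.toFinite _
    obtain ⟨K, hK, hmax⟩ := exists_max_set {K : Subgroup G | mark X K ≠ 0} (Set.toFinite _) (fun K => Nat.card K)
      ⟨⊥, by show mark X ⊥ ≠ 0; rw [fx_bot]; exact Nat.card_pos.ne'⟩
    have hK' : mark Y K ≠ 0 := by rw [← h]; exact hK
    obtain ⟨⟨⟨x, hx⟩⟩, -⟩ := Nat.card_ne_zero.1 hK
    obtain ⟨⟨⟨y, hy⟩⟩, -⟩ := Nat.card_ne_zero.1 hK'
    have hxs : MulAction.stabilizer G x = K := by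
      refine (Subgroup.eq_of_le_of_card_ge (mem_fx.1 hx) (hmax _ ?_)).symm
      exact Nat.card_ne_zero.2 ⟨⟨⟨x, mem_fx.2 le_rfl⟩⟩, inferInstance⟩
    have hys : MulAction.stabilizer G y = K := by
      refine (Subgroup.eq_of_le_of_card_ge (mem_fx.1 hy) (hmax _ ?_)).symm
      show mark X _ ≠ 0
      rw [h]
      exact Nat.card_ne_zero.2 ⟨⟨⟨y, mem_fx.2 le_rfl⟩⟩, inferInstance⟩
    -- the orbits
    obtain ⟨e₀, he₀⟩ : ∃ e : MulAction.orbit G x ≃ MulAction.orbit G y, ∀ (g : G) z, e (g • z) = g • e z := by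
      let f : MulAction.orbit G x → MulAction.orbit G y := fun z => ⟨z.2.choose • y, MulAction.mem_orbit _ _⟩
      have hf : ∀ (g : G) (hg : g • x ∈ MulAction.orbit G x), (f ⟨g • x, hg⟩ : Y) = g • y := by
        intro g hg
        have h1 : (hg.choose : G) • x = g • x := hg.choose_spec
        have h2 : g⁻¹ * hg.choose ∈ MulAction.stabilizer G x := by
          rw [MulAction.mem_stabilizer_iff, mul_smul, h1, inv_smul_smul]
        rw [hxs, ← hys, MulAction.mem_stabilizer_iff, mul_smul, inv_smul_eq_iff] at h2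
        exact h2
      have hrep : ∀ z : MulAction.orbit G x, ∃ a : G, z = ⟨a • x, MulAction.mem_orbit _ _⟩ := by
        rintro ⟨z, a, ha⟩
        exact ⟨a, Subtype.ext ha.symm⟩
      refine ⟨Equiv.ofBijective f ⟨?_, ?_⟩, ?_⟩
      · intro z w hab
        obtain ⟨a, rfl⟩ := hrep z
        obtain ⟨b, rfl⟩ := hrep w
        have h1 := congrArg Subtype.val hab
        rw [hf a, hf b] at h1
        have h2 : a⁻¹ * b ∈ MulAction.stabilizer G y := by
          rw [MulAction.mem_stabilizer_iff, mul_smul, ← h1, inv_smul_smul]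
        rw [hys, ← hxs, MulAction.mem_stabilizer_iff, mul_smul, inv_smul_eq_iff] at h2
        exact Subtype.ext h2.symm
      · rintro ⟨w, b, hb⟩
        refine ⟨⟨b • x, MulAction.mem_orbit _ _⟩, Subtype.ext ((hf b _).trans hb)⟩
      · intro g z
        obtain ⟨a, rfl⟩ := hrep z
        apply Subtype.ext
        show (f (g • ⟨a • x, _⟩) : Y) = g • (f ⟨a • x, _⟩ : Y)
        have h1 : (g • (⟨a • x, MulAction.mem_orbit _ _⟩ : MulAction.orbit G x)) = ⟨(g * a) • x, MulAction.mem_orbit _ _⟩ :=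
          Subtype.ext (mul_smul g a x).symm
        rw [h1, hf (g * a), hf a, mul_smul]
    -- the complements
    have hlt : Nat.card (orbC G x) < n := by
      rw [← hn]
      refine lt_of_lt_of_eq ?_ (Nat.card_univ (α := X))
      rw [Nat.card_coe_set_eq]
      refine Set.ncard_lt_ncard ?_ (Set.toFinite _)
      rw [Set.ssubset_univ_iff]
      intro h1
      have : x ∈ (orbC G x : Set X) := by rw [h1]; trivial
      exact this (MulAction.mem_orbit_self x)
    obtain ⟨e₁, he₁⟩ := ih _ hlt (orbC G x) (orbC G y) rfl fun L => by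
      have h1 := h L
      rw [mark_orbC x, mark_orbC y, mark_congr e₀ he₀] at h1
      exact Nat.add_left_cancel h1
    have hsm : ∀ (g : G) (z : X), g • z ∈ MulAction.orbit G x ↔ z ∈ MulAction.orbit G x := fun g z => by
      rw [← MulAction.orbit_eq_iff, ← MulAction.orbit_eq_iff, MulAction.orbit_smul]
    let f : X → Y := fun z => if h : z ∈ MulAction.orbit G x then (e₀ ⟨z, h⟩ : Y) else (e₁ ⟨z, h⟩ : Y)
    have hf1 : ∀ z (h : z ∈ MulAction.orbit G x), f z = (e₀ ⟨z, h⟩ : Y) := fun z h => dif_pos h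
    have hf2 : ∀ z (h : z ∉ MulAction.orbit G x), f z = (e₁ ⟨z, h⟩ : Y) := fun z h => dif_neg h
    refine ⟨Equiv.ofBijective f ⟨?_, ?_⟩, ?_⟩
    · intro z w hzw
      by_cases hz : z ∈ MulAction.orbit G x
      · by_cases hw : w ∈ MulAction.orbit G x
        · rw [hf1 z hz, hf1 w hw] at hzw
          exact congrArg Subtype.val (e₀.injective (Subtype.ext hzw))
        · rw [hf1 z hz, hf2 w hw] at hzw
          exact absurd (hzw ▸ (e₀ ⟨z, hz⟩).2) (e₁ ⟨w, hw⟩).2
      · by_cases hw : w ∈ MulAction.orbit G x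
        · rw [hf2 z hz, hf1 w hw] at hzw
          exact absurd (hzw ▸ (e₀ ⟨w, hw⟩).2) (e₁ ⟨z, hz⟩).2
        · rw [hf2 z hz, hf2 w hw] at hzw
          exact congrArg Subtype.val (e₁.injective (Subtype.ext hzw))
    · intro w
      by_cases hw : w ∈ MulAction.orbit G y
      · refine ⟨(e₀.symm ⟨w, hw⟩ : X), ?_⟩
        rw [hf1 _ (e₀.symm ⟨w, hw⟩).2]
        show ((e₀ (e₀.symm ⟨w, hw⟩)) : Y) = w
        rw [e₀.apply_symm_apply]
      · refine ⟨(e₁.symm ⟨w, hw⟩ : X), ?_⟩
        rw [hf2 _ (e₁.symm ⟨w, hw⟩).2]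
        show ((e₁ (e₁.symm ⟨w, hw⟩)) : Y) = w
        rw [e₁.apply_symm_apply]
    · intro g z
      show f (g • z) = g • f z
      by_cases hz : z ∈ MulAction.orbit G x
      · rw [hf1 z hz, hf1 (g • z) ((hsm g z).2 hz)]
        exact congrArg Subtype.val (he₀ g ⟨z, hz⟩)
      · rw [hf2 z hz, hf2 (g • z) (fun h => hz ((hsm g z).1 h))]
        exact congrArg Subtype.val (he₁ g ⟨z, hz⟩)

end burnside

end CfsgLib.FT
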