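import Cfsg.Agent.LibFT11

set_option autoImplicit false

/-! Stabilization of a finite `G`-set (helper1) -/

namespace CfsgLib.FT

universe u

/-- the data for the stabilization: a family of subgroups closed under subgroups, an equivalence relation on it -/
structure StabData (G : Type u) [Group G] where
  D : Subgroup G → Prop
  r : Subgroup G → Subgroup G → Prop
  sub : ∀ {A B}, D A → B ≤ A → D B
  refl : ∀ {A}, D A → r A A
  symm : ∀ {A B}, D A → r A B → r B A
  trans : ∀ {A B C}, D A → r A B → r B C → r A C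
  mem : ∀ {A B}, D A → r A B → D B
  card : ∀ {A B}, D A → r A B → Nat.card A = Nat.card B
  conj : ∀ {A} (g : G), D A → r A (A.map (MulAut.conj g).toMonoidHom)
  /-- good representatives -/
  ex : ∀ {A}, D A → ∃ A₀, r A A₀ ∧ ∀ B, r A B → ∃ θ : (Subgroup.normalizer (B : Set G)) →* G,
    (B.subgroupOf (Subgroup.normalizer (B : Set G))).map θ = A₀ ∧
    ∀ K : Subgroup (Subgroup.normalizer (B : Set G)), B.subgroupOf (Subgroup.normalizer (B : Set G)) ≤ K →
      (D (K.map (Subgroup.normalizer (B : Set G)).subtype) → r (K.map (Subgroup.normalizer (B : Set G)).subtype) (K.map θ)) ∧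
      (D (K.map θ) → D (K.map (Subgroup.normalizer (B : Set G)).subtype))

namespace StabData

variable {G : Type u} [Group G] (T : StabData G)

/-- stabilizers in the family -/
def Ok (X : Type u) [MulAction G X] : Prop := ∀ x : X, T.D (MulAction.stabilizer G x)

/-- marks stable from level `k` on -/
def St (X : Type u) [MulAction G X] (k : ℕ) : Prop := ∀ A B, T.D A → T.r A B → k ≤ Nat.card A → mark X A = mark X B

theorem mark_zero {X : Type u} [MulAction G X] (h : T.Ok X) {A : Subgroup G} (hA : ¬ T.D A) : mark X A = 0 := by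
  rw [mark, Nat.card_eq_zero]
  left
  refine ⟨fun z => hA (T.sub (h z.1) (mem_fx.1 z.2))⟩

variable [Finite G]

/-- congruence between marks at `B` and at the representative -/
theorem cong {X : Type u} [MulAction G X] [Finite X] (h : T.Ok X) {k : ℕ} (hk : T.St X (k + 1)) {A A₀ B : Subgroup G}
    (hA : T.D A) (hAc : Nat.card A = k)
    (hB : T.r A B) (θ : (Subgroup.normalizer (B : Set G)) →* G)
    (h1 : (B.subgroupOf (Subgroup.normalizer (B : Set G))).map θ = A₀)
    (h2 : ∀ K : Subgroup (Subgroup.normalizer (B : Set G)), B.subgroupOf (Subgroup.normalizer (B : Set G)) ≤ K →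
      (T.D (K.map (Subgroup.normalizer (B : Set G)).subtype) → T.r (K.map (Subgroup.normalizer (B : Set G)).subtype) (K.map θ)) ∧
      (T.D (K.map θ) → T.D (K.map (Subgroup.normalizer (B : Set G)).subtype))) :
    mark X B ≡ mark X A₀ [MOD B.relIndex (Subgroup.normalizer (B : Set G))] := by
  have hBN : B ≤ Subgroup.normalizer (B : Set G) := Subgroup.le_normalizer
  haveI : (B.subgroupOf (Subgroup.normalizer (B : Set G))).Normal := Subgroup.normal_in_normalizer
  have key := mark_compare (X := X) (B.subgroupOf (Subgroup.normalizer (B : Set G))) (Subgroup.normalizer (B : Set G)).subtype θ ?_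
  · rw [h1, Subgroup.map_subgroupOf_eq_of_le hBN] at key
    exact key
  · intro K hK
    obtain ⟨h3, h4⟩ := h2 K hK.le
    by_cases hD : T.D (K.map (Subgroup.normalizer (B : Set G)).subtype)
    · refine hk _ _ hD (h3 hD) ?_
      have hBc : Nat.card B = k := by rw [← hAc]; exact (T.card hA hB).symm
      have h5 : Nat.card (K.map (Subgroup.normalizer (B : Set G)).subtype) = Nat.card K :=
        (Nat.card_congr (K.equivMapOfInjective _ (Subgroup.subtype_injective _)).toEquiv).symm
      have h6 : Nat.card (B.subgroupOf (Subgroup.normalizer (B : Set G))) = Nat.card B :=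
        Nat.card_congr (Subgroup.subgroupOfEquivOfLe hBN).toEquiv
      rw [h5]
      have h7 : Nat.card (B.subgroupOf (Subgroup.normalizer (B : Set G))) < Nat.card K := by
        refine lt_of_le_of_ne (Subgroup.card_le_of_le hK.le) fun he => hK.ne ?_
        exact Subgroup.eq_of_le_of_card_ge hK.le he.ge
      omega
    · rw [T.mark_zero h hD, T.mark_zero h (fun h5 => hD (h4 h5))]

/-- adding orbits -/
theorem addOrbits (X : Type u) [MulAction G X] [Finite X] (hX : T.Ok X) {A : Subgroup G} (hA : T.D A) (c : ℕ) :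
    ∃ (Z : Type u) (_ : MulAction G Z), Finite Z ∧ (∀ B : Subgroup G, mark Z B = mark X B + c * mark (G ⧸ A) B) ∧ T.Ok Z ∧
      Nat.card Z = Nat.card X + c * A.index := by
  refine ⟨X ⊕ (Σ _ : Fin c, G ⧸ A), inferInstance, inferInstance, fun B => ?_, ?_, ?_⟩
  · rw [mark_sum, mark_sigma]
    simp
  · rintro (x | ⟨i, y⟩)
    · have : MulAction.stabilizer G (Sum.inl x : X ⊕ (Σ _ : Fin c, G ⧸ A)) = MulAction.stabilizer G x := by
        ext g
        rw [MulAction.mem_stabilizer_iff, MulAction.mem_stabilizer_iff]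
        exact ⟨fun h => Sum.inl_injective h, fun h => congrArg Sum.inl h⟩
      rw [this]; exact hX x
    · have : MulAction.stabilizer G (Sum.inr ⟨i, y⟩ : X ⊕ (Σ _ : Fin c, G ⧸ A)) = MulAction.stabilizer G y := by
        ext g
        rw [MulAction.mem_stabilizer_iff, MulAction.mem_stabilizer_iff]
        constructor
        · intro h
          have h2 : (⟨i, g • y⟩ : Σ _ : Fin c, G ⧸ A) = ⟨i, y⟩ := Sum.inr_injective h
          exact eq_of_heq (Sigma.mk.inj h2).2
        · intro h
          show (Sum.inr (⟨i, g • y⟩ : Σ _ : Fin c, G ⧸ A) : X ⊕ (Σ _ : Fin c, G ⧸ A)) = Sum.inr ⟨i, y⟩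
          rw [h]
      rw [this]
      induction y using QuotientGroup.induction_on with | H g =>
      rw [stab_coset]
      exact T.mem hA (T.conj g hA)
  · rw [Nat.card_sum, Nat.card_sigma]
    simp [Subgroup.index]

theorem fill {q k : ℕ} (hq : ∀ A, T.D A → Nat.card A = k → q ∣ A.index) (M : Subgroup G → ℕ)
    (hM : ∀ A (g : G), T.D A → M (A.map (MulAut.conj g).toMonoidHom) = M A) : ∀ (n : ℕ) (X : Type u) [MulAction G X] [Finite X], T.Ok X →
    (∀ A, T.D A → Nat.card A = k → mark X A ≤ M A ∧ mark X A ≡ M A [MOD A.relIndex (Subgroup.normalizer (A : Set G))]) →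
    Nat.card {A : Subgroup G // T.D A ∧ Nat.card A = k ∧ mark X A ≠ M A} = n →
    ∃ (Y : Type u) (_ : MulAction G Y), Finite Y ∧ T.Ok Y ∧ Nat.card Y ≡ Nat.card X [MOD q] ∧
      (∀ A : Subgroup G, k < Nat.card A → mark Y A = mark X A) ∧ ∀ A, T.D A → Nat.card A = k → mark Y A = M A := by
  intro n
  induction n using Nat.strong_induction_on with
  | _ n ih =>
  intro X _ _ hX hc hn
  by_cases hbad : ∃ A, T.D A ∧ Nat.card A = k ∧ mark X A ≠ M A
  · obtain ⟨A, hA, hAk, hAM⟩ := hbad
    obtain ⟨hle, hmod⟩ := hc A hA hAk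
    have hlt : mark X A < M A := lt_of_le_of_ne hle hAM
    obtain ⟨c, hcM⟩ := (Nat.modEq_iff_dvd' hle).1 hmod
    -- the new set
    obtain ⟨Z, hZi, hZf, hmark, hZok, hcard⟩ := T.addOrbits X hX hA c
    have hself : mark Z A = M A := by
      rw [hmark, mark_coset_self, mul_comm, ← hcM]; omega
    have hconj : ∀ g : G, mark Z (A.map (MulAut.conj g).toMonoidHom) = M (A.map (MulAut.conj g).toMonoidHom) := fun g => by
      rw [mark_conj, hM A g hA, hself]
    have hother : ∀ B : Subgroup G, Nat.card B = k → (∀ g : G, B ≠ A.map (MulAut.conj g).toMonoidHom) → mark Z B = mark X B := by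
      intro B hB hBA
      rw [hmark]
      have : mark (G ⧸ A) B = 0 := by
        by_contra h
        obtain ⟨g, hg⟩ := mark_coset_conj (hB.trans hAk.symm) h
        exact hBA g hg
      rw [this, mul_zero, add_zero]
    have hbig : ∀ B : Subgroup G, k < Nat.card B → mark Z B = mark X B := by
      intro B hB
      rw [hmark, mark_coset_eq_zero (by rw [hAk]; exact hB), mul_zero, add_zero]
    -- the induction
    have hlt2 : Nat.card {B : Subgroup G // T.D B ∧ Nat.card B = k ∧ mark Z B ≠ M B} < n := by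
      rw [← hn]
      have hsub : ∀ B : Subgroup G, Nat.card B = k → mark Z B ≠ M B → mark X B ≠ M B := by
        intro B hB h1
        by_cases hBA : ∃ g : G, B = A.map (MulAut.conj g).toMonoidHom
        · obtain ⟨g, rfl⟩ := hBA
          exact absurd (hconj g) h1
        · push Not at hBA
          rwa [hother B hB hBA] at h1
      have h2 := Set.ncard_lt_ncard (s := {B : Subgroup G | T.D B ∧ Nat.card B = k ∧ mark Z B ≠ M B})
        (t := {B : Subgroup G | T.D B ∧ Nat.card B = k ∧ mark X B ≠ M B})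
        ⟨fun B hB => ⟨hB.1, hB.2.1, hsub B hB.2.1 hB.2.2⟩, fun h => (h (show A ∈ _ from ⟨hA, hAk, hAM⟩)).2.2 hself⟩ (Set.toFinite _)
      exact h2
    obtain ⟨Y, hY, hYf, hYok, hYc, hYb, hYM⟩ := ih _ hlt2 Z hZok (fun B hB hBk => by
      by_cases hBA : ∃ g : G, B = A.map (MulAut.conj g).toMonoidHom
      · obtain ⟨g, rfl⟩ := hBA
        rw [hconj g]
        exact ⟨le_rfl, Nat.ModEq.refl _⟩
      · push Not at hBA
        rw [hother B hBk hBA]
        exact hc B hB hBk) rfl
    refine ⟨Y, hY, hYf, hYok, hYc.trans ?_, fun B hB => (hYb B hB).trans (hbig B hB), hYM⟩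
    rw [hcard]
    have : c * A.index ≡ 0 [MOD q] := (Nat.modEq_zero_iff_dvd).2 ((hq A hA hAk).mul_left c)
    exact (Nat.ModEq.refl (Nat.card X)).add this
  · push Not at hbad
    exact ⟨X, inferInstance, inferInstance, hX, Nat.ModEq.refl _, fun _ _ => rfl, hbad⟩

/-- one level -/
theorem level {q k : ℕ} (hq : ∀ A, T.D A → Nat.card A = k → q ∣ A.index) (X : Type u) [MulAction G X] [Finite X] (hX : T.Ok X)
    (hst : T.St X (k + 1)) : ∃ (Y : Type u) (_ : MulAction G Y), Finite Y ∧ T.Ok Y ∧ Nat.card Y ≡ Nat.card X [MOD q] ∧ T.St Y k := by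
  classical
  -- the representatives
  let s : Setoid {A : Subgroup G // T.D A} := ⟨fun A B => T.r A.1 B.1, fun A => T.refl A.2, fun {A B} h => T.symm A.2 h,
    fun {A B C} h1 h2 => T.trans A.2 h1 h2⟩
  let R : {A : Subgroup G // T.D A} → {A : Subgroup G // T.D A} := fun A => (Quotient.mk s A).out
  have hR : ∀ A, T.r A.1 (R A).1 := fun A => T.symm (R A).2 (Quotient.exact (s := s) (Quotient.out_eq (Quotient.mk s A)))
  have hRR : ∀ A B : {A : Subgroup G // T.D A}, T.r A.1 B.1 → R A = R B := fun A B h => by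
    show (Quotient.mk s A).out = (Quotient.mk s B).out
    rw [Quotient.sound (s := s) h]
  let A₀ : {A : Subgroup G // T.D A} → Subgroup G := fun A => (T.ex (R A).2).choose
  have hA₀ : ∀ A, T.r (R A).1 (A₀ A) := fun A => (T.ex (R A).2).choose_spec.1
  have hA₀' := fun A => (T.ex (R A).2).choose_spec.2
  let M : Subgroup G → ℕ := fun A => if h : T.D A then mark X (A₀ ⟨A, h⟩) + Nat.card X * Nat.card G else 0
  have hM : ∀ A (h : T.D A), M A = mark X (A₀ ⟨A, h⟩) + Nat.card X * Nat.card G := fun A h => dif_pos h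
  have hMr : ∀ A B, T.D A → T.r A B → M A = M B := fun A B hA h => by
    rw [hM A hA, hM B (T.mem hA h)]
    have : A₀ ⟨A, hA⟩ = A₀ ⟨B, T.mem hA h⟩ := by
      show (T.ex (R ⟨A, hA⟩).2).choose = (T.ex (R ⟨B, T.mem hA h⟩).2).choose
      congr 1
      rw [hRR ⟨A, hA⟩ ⟨B, T.mem hA h⟩ h]
    rw [this]
  obtain ⟨Y, hY, hYf, hYok, hYc, hYb, hYM⟩ := T.fill hq M (fun A g hA => (hMr A _ hA (T.conj g hA)).symm) _ X hX (fun A hA hAk => by
    rw [hM A hA]
    constructor
    · have h1 := mark_le_card (X := X) A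
      have h2 : 0 < Nat.card G := Nat.card_pos
      nlinarith
    · obtain ⟨θ, h1, h2⟩ := hA₀' ⟨A, hA⟩ A (T.symm hA (hR ⟨A, hA⟩))
      have h3 := T.cong hX hst (R ⟨A, hA⟩).2 ((T.card hA (hR ⟨A, hA⟩)).symm.trans hAk) (T.symm hA (hR ⟨A, hA⟩)) θ h1 h2
      refine h3.trans ?_
      have h4 : Nat.card X * Nat.card G ≡ 0 [MOD A.relIndex (Subgroup.normalizer (A : Set G))] := by
        refine (Nat.modEq_zero_iff_dvd).2 (Dvd.dvd.mul_left ?_ _)
        exact (Subgroup.relIndex_dvd_card A _).trans (Subgroup.card_subgroup_dvd_card _)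
      have h5 := (Nat.ModEq.refl (n := A.relIndex (Subgroup.normalizer (A : Set G))) (mark X (A₀ ⟨A, hA⟩))).add h4.symm
      exact h5) rfl
  refine ⟨Y, hY, hYf, hYok, hYc, fun A B hA hAB hAk => ?_⟩
  rcases Nat.lt_or_ge k (Nat.card A) with h | h
  · rw [hYb A h, hYb B (by rw [← T.card hA hAB]; exact h)]
    exact hst A B hA hAB h
  · have hAk' : Nat.card A = k := le_antisymm h hAk
    rw [hYM A hA hAk', hYM B (T.mem hA hAB) ((T.card hA hAB).symm.trans hAk')]
    exact hMr A B hA hAB

theorem stabilize {q k₀ : ℕ} (hq : ∀ A, T.D A → Nat.card A < k₀ → q ∣ A.index) (X : Type u) [MulAction G X] [Finite X] (hX : T.Ok X)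
    (hst : T.St X k₀) : ∃ (Y : Type u) (_ : MulAction G Y), Finite Y ∧ T.Ok Y ∧ Nat.card Y ≡ Nat.card X [MOD q] ∧
      ∀ A B, T.D A → T.r A B → mark Y A = mark Y B := by
  have key : ∀ j ≤ k₀, ∃ (Y : Type u) (_ : MulAction G Y), Finite Y ∧ T.Ok Y ∧ Nat.card Y ≡ Nat.card X [MOD q] ∧ T.St Y (k₀ - j) := by
    intro j
    induction j with
    | zero => intro _; exact ⟨X, inferInstance, inferInstance, hX, Nat.ModEq.refl _, hst⟩
    | succ j ih =>
      intro hj
      obtain ⟨Y, hY, hYf, hYok, hYc, hYst⟩ := ih (by omega)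
      obtain ⟨Z, hZ, hZf, hZok, hZc, hZst⟩ := T.level (q := q) (k := k₀ - (j + 1)) (fun A hA hAk => hq A hA (by omega)) Y hYok
        (by rw [show k₀ - (j + 1) + 1 = k₀ - j by omega]; exact hYst)
      exact ⟨Z, hZ, hZf, hZok, hZc.trans hYc, hZst⟩
  obtain ⟨Y, hY, hYf, hYok, hYc, hYst⟩ := key k₀ le_rfl
  refine ⟨Y, hY, hYf, hYok, hYc, fun A B hA hAB => hYst A B hA hAB ?_⟩
  rw [Nat.sub_self]
  exact Nat.zero_le _

end StabData

end CfsgLib.FT
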