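import Cfsg.Agent.LibFT12
import Cfsg.Agent.LibFT6

set_option autoImplicit false

/-! Graded twisted diagonals (helper1) -/

namespace CfsgLib.FT

open Cfsg Cfsg.FusionSystem CfsgLib.Fus21
open scoped commutatorElement

universe u

variable {Ω : Type u} [Group Ω] {S : Subgroup Ω} {F : FusionSystem S} {p : ℕ} {U : Subgroup Ω}

theorem MV.exists_inv (hU : NormIn S U) {P : Subgroup Ω} {φ : P →* Ω} {g : Ω} (h : MV F p U P φ g) :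
    ∃ ψ : φ.range →* Ω, MV F p U φ.range ψ g⁻¹ ∧ ∀ x hx, ψ ⟨φ x, hx⟩ = x := by
  obtain ⟨ψ, hψ, h1⟩ := F.inv_mem h.hom
  refine ⟨ψ, h.inv hU fun y => ?_, fun x hx => h1 x⟩
  obtain ⟨x, hx⟩ := y.2
  refine ⟨x, hx, ?_⟩
  rw [← h1 x]
  congr 1
  exact Subtype.ext hx.symm

theorem MV.exists_comp {P Q : Subgroup Ω} {φ : P →* Ω} {ψ : Q →* Ω} {g k : Ω} (h1 : MV F p U P φ g) (h2 : MV F p U Q ψ k)
    (h : ∀ x, φ x ∈ Q) : ∃ χ : P →* Ω, MV F p U P χ (k * g) ∧ ∀ x, χ x = ψ ⟨φ x, h x⟩ :=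
  ⟨ψ.comp (φ.codRestrict Q h), MV.comp P Q φ ψ g k h1 h2 _ fun x => ⟨h x, rfl⟩, fun _ => rfl⟩

theorem MV.le {P : Subgroup Ω} {φ : P →* Ω} {g : Ω} (h : MV F p U P φ g) : P ≤ S := (F.le_of_mem h.hom).1

theorem MV.mem_S {P : Subgroup Ω} {φ : P →* Ω} {g : Ω} (h : MV F p U P φ g) (x : P) : φ x ∈ S := (F.le_of_mem h.hom).2 x

theorem MV.inj {P : Subgroup Ω} {φ : P →* Ω} {g : Ω} (h : MV F p U P φ g) : Function.Injective φ := F.injective_of_mem h.hom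

/-- pairs of elements of `S` congruent modulo `U` -/
def GU (hU : NormIn S U) : Subgroup (Ω × Ω) where
  carrier := {g | g.1 ∈ S ∧ g.2 ∈ S ∧ g.1⁻¹ * g.2 ∈ U}
  one_mem' := ⟨S.one_mem, S.one_mem, by simp⟩
  mul_mem' := by
    rintro ⟨a, b⟩ ⟨c, d⟩ ⟨h1, h2, h3⟩ ⟨h4, h5, h6⟩
    refine ⟨S.mul_mem h1 h4, S.mul_mem h2 h5, ?_⟩
    show (a * c)⁻¹ * (b * d) ∈ U
    have e : (a * c)⁻¹ * (b * d) = (c⁻¹ * (a⁻¹ * b) * c) * (c⁻¹ * d) := by group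
    rw [e]
    exact U.mul_mem (hU.inv h4 h3) h6
  inv_mem' := by
    rintro ⟨a, b⟩ ⟨h1, h2, h3⟩
    refine ⟨S.inv_mem h1, S.inv_mem h2, ?_⟩
    show (a⁻¹)⁻¹ * b⁻¹ ∈ U
    have e : (a⁻¹)⁻¹ * b⁻¹ = a * (a⁻¹ * b)⁻¹ * a⁻¹ := by group
    rw [e]
    exact hU.2 a h1 _ (U.inv_mem h3)

theorem mem_GU {hU : NormIn S U} {g : Ω × Ω} : g ∈ GU hU ↔ g.1 ∈ S ∧ g.2 ∈ S ∧ g.1⁻¹ * g.2 ∈ U := Iff.rfl

theorem GU_finite [Finite S] (hU : NormIn S U) : Finite (GU hU) :=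
  Finite.of_injective (fun g : GU hU => ((⟨g.1.1, g.2.1⟩, ⟨g.1.2, g.2.2.1⟩) : S × S)) fun a b h => by
    apply Subtype.ext
    have h1 := congrArg (fun z : S × S => (z.1 : Ω)) h
    have h2 := congrArg (fun z : S × S => (z.2 : Ω)) h
    exact Prod.ext h1 h2

theorem card_GU [Finite S] (hU : NormIn S U) : Nat.card (GU hU) = Nat.card S * Nat.card U := by
  rw [← Nat.card_prod]
  refine Nat.card_congr ⟨fun g => (⟨g.1.1, g.2.1⟩, ⟨g.1.1⁻¹ * g.1.2, g.2.2.2⟩),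
    fun z => ⟨((z.1 : Ω), (z.1 : Ω) * z.2), z.1.2, S.mul_mem z.1.2 (hU.1 z.2.2), by simp⟩, ?_, ?_⟩
  · rintro ⟨⟨a, b⟩, h⟩
    apply Subtype.ext
    simp
  · rintro ⟨⟨a, ha⟩, ⟨b, hb⟩⟩
    simp

/-- the twisted diagonal -/
def Dl (hU : NormIn S U) (P : Subgroup Ω) (φ : P →* Ω) : Subgroup (GU hU) := ((P.subtype.prod φ).range).subgroupOf (GU hU)

theorem mem_Dl {hU : NormIn S U} {P : Subgroup Ω} {φ : P →* Ω} {g : GU hU} : g ∈ Dl hU P φ ↔ ∃ h : g.1.1 ∈ P, φ ⟨g.1.1, h⟩ = g.1.2 := by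
  rw [Dl, Subgroup.mem_subgroupOf, MonoidHom.mem_range]
  constructor
  · rintro ⟨x, hx⟩
    have h1 : (x : Ω) = g.1.1 := congrArg Prod.fst hx
    have h2 : φ x = g.1.2 := congrArg Prod.snd hx
    refine ⟨h1 ▸ x.2, ?_⟩
    rw [← h2]
    congr 1
    exact Subtype.ext h1.symm
  · rintro ⟨h1, h2⟩
    exact ⟨⟨g.1.1, h1⟩, Prod.ext rfl h2⟩

theorem MV.mem_GU (hU : NormIn S U) (hH : HypLe F p U) {P : Subgroup Ω} {φ : P →* Ω} (h : MV F p U P φ 1) (x : P) :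
    ((x : Ω), φ x) ∈ GU hU := by
  refine ⟨h.le x.2, h.mem_S x, ?_⟩
  have := h.cong hU hH x
  rwa [one_mul, inv_one, mul_one] at this

/-- the family of twisted diagonals -/
def InD (F : FusionSystem S) (p : ℕ) (hU : NormIn S U) (A : Subgroup (GU hU)) : Prop :=
  ∃ (P : Subgroup Ω) (φ : P →* Ω), MV F p U P φ 1 ∧ ∀ g : GU hU, g ∈ A ↔ ∃ h : g.1.1 ∈ P, φ ⟨g.1.1, h⟩ = g.1.2

/-- first projection -/
def pr1 (hU : NormIn S U) (A : Subgroup (GU hU)) : Subgroup Ω := A.map ((MonoidHom.fst Ω Ω).comp (GU hU).subtype)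

theorem mem_pr1 {hU : NormIn S U} {A : Subgroup (GU hU)} {x : Ω} : x ∈ pr1 hU A ↔ ∃ g ∈ A, g.1.1 = x := Iff.rfl

theorem pr1_eq {hU : NormIn S U} (hH : HypLe F p U) {A : Subgroup (GU hU)} {P : Subgroup Ω} {φ : P →* Ω} (h : MV F p U P φ 1)
    (hA : ∀ g : GU hU, g ∈ A ↔ ∃ h : g.1.1 ∈ P, φ ⟨g.1.1, h⟩ = g.1.2) : pr1 hU A = P := by
  ext x
  rw [mem_pr1]
  constructor
  · rintro ⟨g, hg, rfl⟩
    exact ((hA g).1 hg).1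
  · intro hx
    exact ⟨⟨(x, φ ⟨x, hx⟩), h.mem_GU hU hH ⟨x, hx⟩⟩, (hA _).2 ⟨hx, rfl⟩, rfl⟩

theorem InD.card_eq {hU : NormIn S U} (hH : HypLe F p U) {A : Subgroup (GU hU)} (hA : InD F p hU A) : Nat.card A = Nat.card (pr1 hU A) := by
  obtain ⟨P, φ, h, hA⟩ := hA
  rw [pr1_eq hH h hA]
  refine Nat.card_congr ⟨fun g => ⟨g.1.1.1, ((hA g.1).1 g.2).1⟩, fun x => ⟨⟨(x, φ x), h.mem_GU hU hH x⟩, (hA _).2 ⟨x.2, rfl⟩⟩, ?_, ?_⟩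
  · rintro ⟨⟨⟨a, b⟩, h1⟩, h2⟩
    obtain ⟨h3, h4⟩ := (hA _).1 h2
    apply Subtype.ext
    apply Subtype.ext
    exact Prod.ext rfl h4
  · rintro ⟨x, hx⟩; rfl

theorem InD.mono {hU : NormIn S U} {A B : Subgroup (GU hU)} (hA : InD F p hU A) (hBA : B ≤ A) : InD F p hU B := by
  obtain ⟨P, φ, h, hA⟩ := hA
  have hle : pr1 hU B ≤ P := by
    rintro _ ⟨g, hg, rfl⟩
    exact ((hA g).1 (hBA hg)).1
  refine ⟨pr1 hU B, φ.comp (Subgroup.inclusion hle), h.restrict hle fun x => rfl, fun g => ?_⟩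
  constructor
  · intro hg
    exact ⟨⟨g, hg, rfl⟩, ((hA g).1 (hBA hg)).2⟩
  · rintro ⟨⟨g', hg', he⟩, h2⟩
    obtain ⟨h3, h4⟩ := (hA g').1 (hBA hg')
    have he' : g'.1.1 = g.1.1 := he
    have : g' = g := by
      apply Subtype.ext
      refine Prod.ext he' ?_
      rw [← h2, ← h4]
      show φ _ = φ _
      congr 1
      exact Subtype.ext he'
    rw [← this]; exact hg'

theorem InD.conj {hU : NormIn S U} (hH : HypLe F p U) {A : Subgroup (GU hU)} (hA : InD F p hU A) (g : GU hU) :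
    InD F p hU (A.map (MulAut.conj g).toMonoidHom) ∧ F.IsConj (pr1 hU A) (pr1 hU (A.map (MulAut.conj g).toMonoidHom)) := by
  obtain ⟨P, φ, h, hA⟩ := hA
  have hP := h.le
  obtain ⟨hs, ht, hst⟩ := g.2
  have hc : MV F p U P (conjHom P g.1.1) g.1.1 := MV.conj P hP _ hs _ fun x => rfl
  obtain ⟨ψ, hψ, hψ'⟩ := hc.exists_inv hU
  have hψP : ∀ y, ψ y ∈ P := by
    rintro ⟨_, x, rfl⟩; exact Set.mem_of_eq_of_mem (hψ' x ⟨x, rfl⟩) x.2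
  obtain ⟨χ, hχ, hχ'⟩ := hψ.exists_comp h hψP
  have hc2 : MV F p U χ.range (conjHom χ.range g.1.2) g.1.2 := MV.conj _ (by rintro _ ⟨x, rfl⟩; exact hχ.mem_S x) _ ht _ fun x => rfl
  obtain ⟨ω, hω, hω'⟩ := hχ.exists_comp hc2 fun x => ⟨x, rfl⟩
  have hω1 : MV F p U (conjHom P g.1.1).range ω 1 := by
    refine hω.cast (fun _ => rfl) ?_
    have e : (g.1.2 * (1 * (g.1.1)⁻¹))⁻¹ * 1 = g.1.1 * (g.1.1⁻¹ * g.1.2)⁻¹ * g.1.1⁻¹ := by group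
    rw [e]
    exact hU.2 _ hs _ (U.inv_mem hst)
  have key : ∀ k : GU hU, k ∈ A.map (MulAut.conj g).toMonoidHom ↔ ∃ h : k.1.1 ∈ (conjHom P g.1.1).range, ω ⟨k.1.1, h⟩ = k.1.2 := by
    intro k
    rw [mem_conj_iff, hA]
    have e1 : (g⁻¹ * k * g).1.1 = g.1.1⁻¹ * k.1.1 * g.1.1 := rfl
    have e2 : (g⁻¹ * k * g).1.2 = g.1.2⁻¹ * k.1.2 * g.1.2 := rfl
    have hval : ∀ (x : P) (hx : g.1.1 * (x : Ω) * g.1.1⁻¹ ∈ (conjHom P g.1.1).range), ω ⟨g.1.1 * (x : Ω) * g.1.1⁻¹, hx⟩ = g.1.2 * φ x * g.1.2⁻¹ := by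
      intro x hx
      rw [hω']
      show g.1.2 * χ _ * g.1.2⁻¹ = _
      rw [hχ']
      have h3 : ψ ⟨g.1.1 * (x : Ω) * g.1.1⁻¹, hx⟩ = x := hψ' x hx
      congr 3
      exact Subtype.ext h3
    constructor
    · rintro ⟨h1, h2⟩
      rw [e2] at h2
      have h3 : k.1.1 = g.1.1 * ((⟨_, h1⟩ : P) : Ω) * g.1.1⁻¹ := by
        show k.1.1 = g.1.1 * (g.1.1⁻¹ * k.1.1 * g.1.1) * g.1.1⁻¹
        group
      have h4 : g.1.1 * ((⟨_, h1⟩ : P) : Ω) * g.1.1⁻¹ ∈ (conjHom P g.1.1).range := ⟨⟨_, h1⟩, rfl⟩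
      refine ⟨by rw [h3]; exact h4, ?_⟩
      have h5 := hval ⟨_, h1⟩ h4
      rw [h2] at h5
      have h6 : g.1.2 * (g.1.2⁻¹ * k.1.2 * g.1.2) * g.1.2⁻¹ = k.1.2 := by group
      rw [h6] at h5
      rw [← h5]
      congr 1
      exact Subtype.ext h3
    · rintro ⟨⟨x, hx⟩, h2⟩
      have hx' : g.1.1 * (x : Ω) * g.1.1⁻¹ = k.1.1 := hx
      have h3 : (g⁻¹ * k * g).1.1 = x := by rw [e1, ← hx']; group
      refine ⟨by rw [h3]; exact x.2, ?_⟩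
      rw [e2, ← h2]
      have h4 := hval x ⟨x, rfl⟩
      have h5 : ω ⟨k.1.1, ⟨x, hx⟩⟩ = g.1.2 * φ x * g.1.2⁻¹ := by
        rw [← h4]; congr 1; exact Subtype.ext hx'.symm
      rw [h5]
      have h6 : g.1.2⁻¹ * (g.1.2 * φ x * g.1.2⁻¹) * g.1.2 = φ x := by group
      rw [h6]
      congr 1
      exact Subtype.ext h3
  refine ⟨⟨_, ω, hω1, key⟩, ?_⟩
  rw [pr1_eq hH h hA, pr1_eq hH hω1 key]
  exact ⟨conjHom P g.1.1, F.conj_mem hP hs, rfl⟩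

end CfsgLib.FT
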