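import Cfsg.Agent.LibFT13

set_option autoImplicit false

/-! Graded twisted diagonals: the stabilization data (helper1) -/

namespace CfsgLib.FT

open Cfsg Cfsg.FusionSystem CfsgLib.Fus21
open scoped commutatorElement

universe u

variable {Ω : Type u} [Group Ω] {S : Subgroup Ω} {F : FusionSystem S} {p : ℕ} {U : Subgroup Ω}

/-- the equivalence relation: conjugate sources -/
def rD (F : FusionSystem S) (p : ℕ) (hU : NormIn S U) (A B : Subgroup (GU hU)) : Prop :=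
  InD F p hU A ∧ InD F p hU B ∧ F.IsConj (pr1 hU A) (pr1 hU B)

/-- elements normalizing a twisted diagonal -/
theorem norm_Dl {hU : NormIn S U} (hH : HypLe F p U) {P : Subgroup Ω} {φ : P →* Ω} (h : MV F p U P φ 1) {B : Subgroup (GU hU)}
    (hB : ∀ g : GU hU, g ∈ B ↔ ∃ h : g.1.1 ∈ P, φ ⟨g.1.1, h⟩ = g.1.2) {g : GU hU} (hg : g ∈ Subgroup.normalizer (B : Set (GU hU))) :
    g.1.1 ∈ normalizerIn S P ∧ g.1.2 ∈ normalizerIn S φ.range ∧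
      ∀ (x : P) (hx : g.1.1 * (x : Ω) * g.1.1⁻¹ ∈ P), φ ⟨_, hx⟩ = g.1.2 * φ x * g.1.2⁻¹ := by
  have hmem := fun z => Subgroup.mem_normalizer_iff.1 hg z
  obtain ⟨hs, ht, hst⟩ := g.2
  have key : ∀ x : P, ∃ hx : g.1.1 * (x : Ω) * g.1.1⁻¹ ∈ P, φ ⟨_, hx⟩ = g.1.2 * φ x * g.1.2⁻¹ := fun x => by
    have h1 := (hmem ⟨((x : Ω), φ x), h.mem_GU hU hH x⟩).1 ((hB _).2 ⟨x.2, rfl⟩)
    exact (hB _).1 h1
  have key' : ∀ x : P, ∃ hx : g.1.1⁻¹ * (x : Ω) * g.1.1 ∈ P, φ ⟨_, hx⟩ = g.1.2⁻¹ * φ x * g.1.2 := fun x => by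
    have h1 := (hmem (g⁻¹ * ⟨((x : Ω), φ x), h.mem_GU hU hH x⟩ * g)).2 (by
      have e : g * (g⁻¹ * ⟨((x : Ω), φ x), h.mem_GU hU hH x⟩ * g) * g⁻¹ = ⟨((x : Ω), φ x), h.mem_GU hU hH x⟩ := by group
      rw [e]
      exact (hB _).2 ⟨x.2, rfl⟩)
    exact (hB _).1 h1
  refine ⟨mem_normalizerIn.2 ⟨hs, fun x => ⟨fun hx => (key ⟨x, hx⟩).1, fun hx => ?_⟩⟩, mem_normalizerIn.2 ⟨ht, fun y => ⟨?_, ?_⟩⟩, fun x hx => (key x).2⟩
  · obtain ⟨h1, -⟩ := key' ⟨_, hx⟩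
    have e : g.1.1⁻¹ * (g.1.1 * x * g.1.1⁻¹) * g.1.1 = x := by group
    exact Set.mem_of_eq_of_mem e.symm h1
  · rintro ⟨x, rfl⟩
    obtain ⟨h1, h2⟩ := key x
    exact ⟨_, h2⟩
  · rintro ⟨x, hx⟩
    obtain ⟨h1, h2⟩ := key' x
    refine ⟨⟨_, h1⟩, ?_⟩
    rw [h2, hx]; group

/-- the maps from normalizers to the normalizer of the good representative -/
theorem exists_theta [Finite S] [hp : Fact p.Prime] (hS : IsPGroup p S) (hF : F.IsSaturated p) {hU : NormIn S U} (hH : HypLe F p U)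
    {Pf : Subgroup Ω} (hPf : F.IsFullyNormalized Pf) {A₀ : Subgroup (GU hU)}
    (hA₀ : ∀ g : GU hU, g ∈ A₀ ↔ ∃ h : g.1.1 ∈ Pf, Pf.subtype ⟨g.1.1, h⟩ = g.1.2) {B : Subgroup (GU hU)} (hBD : InD F p hU B)
    (hconj : F.IsConj (pr1 hU B) Pf) :
    ∃ θ : (Subgroup.normalizer (B : Set (GU hU))) →* GU hU,
    (B.subgroupOf (Subgroup.normalizer (B : Set (GU hU)))).map θ = A₀ ∧
    ∀ K : Subgroup (Subgroup.normalizer (B : Set (GU hU))),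
      (InD F p hU (K.map (Subgroup.normalizer (B : Set (GU hU))).subtype) →
        rD F p hU (K.map (Subgroup.normalizer (B : Set (GU hU))).subtype) (K.map θ)) ∧
      (InD F p hU (K.map θ) → InD F p hU (K.map (Subgroup.normalizer (B : Set (GU hU))).subtype)) := by
  obtain ⟨P, φ, hφ, hB⟩ := hBD
  rw [pr1_eq hH hφ hB] at hconj
  have hfa := (sat_fn hS hF hPf).2
  have hfc := (sat_fn hS hF hPf).1
  have hrec := sat_fn_receptive hS hF hPf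
  have hP := hφ.le
  obtain ⟨Φ, hΦ, e, he, hΦe, hΦN⟩ := exists_map_normalizer hS hfa hrec hconj
  obtain ⟨v, hv⟩ := exists_value (U := U) hS hF hU hΦ
  have hvS := hv.mem hU.1
  have hPN : P ≤ normalizerIn S P := le_normalizerIn hP
  have heV : MV F p U P (Pf.subtype.comp e.toMonoidHom) v := hv.restrict hPN fun x => (hΦe x (hPN x.2)).symm
  have hφr : ∀ x, φ x ∈ φ.range := fun x => ⟨x, rfl⟩
  -- the map on the right
  obtain ⟨φi, hφi, hφi'⟩ := hφ.exists_inv hU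
  have hφiP : ∀ y, φi y ∈ P := by
    rintro ⟨_, x, rfl⟩; exact Set.mem_of_eq_of_mem (hφi' x ⟨x, rfl⟩) x.2
  obtain ⟨ψ', hψ', hψ'x⟩ := hφi.exists_comp heV hφiP
  rw [inv_one, mul_one] at hψ'
  have hψ'φ : ∀ (x : P) hx, ψ' ⟨φ x, hx⟩ = e x := fun x hx => by
    rw [hψ'x]
    show ((e ⟨φi ⟨φ x, hx⟩, _⟩ : Pf) : Ω) = e x
    congr 2
    exact Subtype.ext (hφi' x hx)
  have hr : ψ'.range = Pf := by
    ext y; constructor
    · rintro ⟨⟨_, x, rfl⟩, rfl⟩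
      exact Set.mem_of_eq_of_mem (hψ'φ x ⟨x, rfl⟩) (e x).2
    · intro hy
      refine ⟨⟨φ (e.symm ⟨y, hy⟩), ⟨_, rfl⟩⟩, (hψ'φ _ _).trans ?_⟩
      rw [e.apply_symm_apply]
  have hrec2 := hrec.2 _ ψ' hψ'.hom hr
  obtain ⟨E, hE⟩ : ∃ E, E = extender S φ.range ψ' := ⟨_, rfl⟩
  rw [← hE] at hrec2
  obtain ⟨χ₀, hχ₀, hχ₀'⟩ := hrec2
  obtain ⟨w, hw⟩ := exists_value (U := U) hS hF hU hχ₀
  have hQE : φ.range ≤ E := fun x hx => by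
    rw [hE, mem_extender]
    refine ⟨by obtain ⟨z, rfl⟩ := hx; exact hφ.mem_S z, Subgroup.le_normalizer hx, ψ' ⟨x, hx⟩, hψ'.mem_S _, fun y hy => ?_⟩
    have : (⟨x * (y : Ω) * x⁻¹, hy⟩ : φ.range) = ⟨x, hx⟩ * y * ⟨x, hx⟩⁻¹ := rfl
    rw [this, map_mul, map_mul, map_inv]
  have h1 : MV F p U φ.range ψ' w := hw.restrict hQE fun x => (hχ₀' x x.2 (hQE x.2)).symm
  have h2 := values_rel hS hF hU hH h1 hψ' (by rw [hr]; exact hfc)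
  rw [hr, mem_CU hU] at h2
  obtain ⟨c, hc, hcu⟩ := h2
  have hcS : c ∈ S := hc.1
  have h4 : MV F p U χ₀.range (conjHom χ₀.range c⁻¹) c⁻¹ :=
    MV.conj _ (by rintro _ ⟨x, rfl⟩; exact hw.mem_S x) c⁻¹ (S.inv_mem hcS) _ fun x => rfl
  obtain ⟨χ, hχ, hχx⟩ := hw.exists_comp h4 fun x => ⟨x, rfl⟩
  have hχv : MV F p U E χ v := by
    refine hχ.cast (fun _ => rfl) ?_
    have e : (c⁻¹ * w)⁻¹ * v = v⁻¹ * (c⁻¹ * (w * v⁻¹))⁻¹ * v := by group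
    rw [e]
    exact hU.inv hvS (U.inv_mem hcu)
  have hχφ : ∀ (x : P) hx, χ ⟨φ x, hx⟩ = e x := fun x hx => by
    rw [hχx]
    show c⁻¹ * χ₀ ⟨φ x, hx⟩ * c⁻¹⁻¹ = e x
    have h5 : χ₀ ⟨φ x, hx⟩ = e x := (hχ₀' (φ x) (hφr x) hx).trans (hψ'φ x _)
    rw [h5]
    have h6 := (mem_centralizerIn'.1 hc).2 (e x) (e x).2
    have h7 := mul_inv_eq_iff_eq_mul.1 h6
    rw [inv_inv, mul_assoc, ← h7, inv_mul_cancel_left]
  -- domains
  have hdom1 : ∀ g : Subgroup.normalizer (B : Set (GU hU)), g.1.1.1 ∈ normalizerIn S P := fun g => (norm_Dl hH hφ hB g.2).1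
  have hdom2 : ∀ g : Subgroup.normalizer (B : Set (GU hU)), g.1.1.2 ∈ E := fun g => by
    obtain ⟨h5, h6, h7⟩ := norm_Dl hH hφ hB g.2
    rw [hE, mem_extender]
    refine ⟨h6.1, h6.2, Φ ⟨g.1.1.1, h5⟩, (F.le_of_mem hΦ).2 _, ?_⟩
    rintro ⟨_, x, rfl⟩ hy
    have hx : g.1.1.1 * (x : Ω) * g.1.1.1⁻¹ ∈ P := ((mem_normalizerIn.1 h5).2 x).1 x.2
    have h8 := h7 x hx
    have h9 : (⟨g.1.1.2 * φ x * g.1.1.2⁻¹, hy⟩ : φ.range) = ⟨φ ⟨_, hx⟩, hφr _⟩ := Subtype.ext h8.symm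
    show ψ' ⟨g.1.1.2 * φ x * g.1.1.2⁻¹, hy⟩ = _
    rw [h9, hψ'φ, ← hΦe _ (hPN hx)]
    have h10 : (⟨g.1.1.1 * (x : Ω) * g.1.1.1⁻¹, hPN hx⟩ : normalizerIn S P) = ⟨g.1.1.1, h5⟩ * ⟨x, hPN x.2⟩ * ⟨g.1.1.1, h5⟩⁻¹ := rfl
    rw [h10, map_mul, map_mul, map_inv, hΦe x (hPN x.2), ← hψ'φ x (hφr x)]
  have hmemGU : ∀ g : Subgroup.normalizer (B : Set (GU hU)), (Φ ⟨g.1.1.1, hdom1 g⟩, χ ⟨g.1.1.2, hdom2 g⟩) ∈ GU hU := fun g => by
    refine ⟨hv.mem_S _, hχv.mem_S _, ?_⟩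
    have h5 := hv.cong hU hH ⟨g.1.1.1, hdom1 g⟩
    have h6 := hχv.cong hU hH ⟨g.1.1.2, hdom2 g⟩
    have h7 := hU.2 v hvS _ g.1.2.2.2
    have e : (Φ ⟨g.1.1.1, hdom1 g⟩)⁻¹ * χ ⟨g.1.1.2, hdom2 g⟩ =
      ((v * g.1.1.1 * v⁻¹)⁻¹ * Φ ⟨g.1.1.1, hdom1 g⟩)⁻¹ * (v * (g.1.1.1⁻¹ * g.1.1.2) * v⁻¹) * ((v * g.1.1.2 * v⁻¹)⁻¹ * χ ⟨g.1.1.2, hdom2 g⟩) := by
      group
    rw [e]
    exact U.mul_mem (U.mul_mem (U.inv_mem h5) h7) h6
  let θ : (Subgroup.normalizer (B : Set (GU hU))) →* GU hU :=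
    { toFun := fun g => ⟨(Φ ⟨g.1.1.1, hdom1 g⟩, χ ⟨g.1.1.2, hdom2 g⟩), hmemGU g⟩
      map_one' := by
        apply Subtype.ext
        refine Prod.ext ?_ ?_
        · show Φ ⟨1, _⟩ = 1
          exact map_one Φ
        · show χ ⟨1, _⟩ = 1
          exact map_one χ
      map_mul' := fun a b => by
        apply Subtype.ext
        refine Prod.ext ?_ ?_
        · show Φ (⟨a.1.1.1, hdom1 a⟩ * ⟨b.1.1.1, hdom1 b⟩) = _
          exact map_mul Φ _ _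
        · show χ (⟨a.1.1.2, hdom2 a⟩ * ⟨b.1.1.2, hdom2 b⟩) = _
          exact map_mul χ _ _ }
  have hθ1 : ∀ g, (θ g).1.1 = Φ ⟨g.1.1.1, hdom1 g⟩ := fun g => rfl
  have hθ2 : ∀ g, (θ g).1.2 = χ ⟨g.1.1.2, hdom2 g⟩ := fun g => rfl
  have hBN : B ≤ Subgroup.normalizer (B : Set (GU hU)) := Subgroup.le_normalizer
  refine ⟨θ, ?_, fun K => ⟨?_, ?_⟩⟩
  · ext k
    rw [hA₀]
    constructor
    · rintro ⟨g, hg, rfl⟩
      obtain ⟨h5, h6⟩ := (hB g.1).1 hg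
      rw [hθ1, hθ2]
      have h7 : Φ ⟨g.1.1.1, hdom1 g⟩ = e ⟨g.1.1.1, h5⟩ := hΦe ⟨g.1.1.1, h5⟩ (hdom1 g)
      have h8 : χ ⟨g.1.1.2, hdom2 g⟩ = e ⟨g.1.1.1, h5⟩ := by
        rw [← hχφ ⟨g.1.1.1, h5⟩ (by rw [h6]; exact hdom2 g)]
        congr 1
        exact Subtype.ext h6.symm
      refine ⟨by rw [h7]; exact (e _).2, ?_⟩
      rw [h8]; exact h7
    · rintro ⟨h5, h6⟩
      have h6' : k.1.1 = k.1.2 := h6
      set x := e.symm ⟨k.1.1, h5⟩ with hx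
      have hxe : (e x : Ω) = k.1.1 := by rw [hx, e.apply_symm_apply]
      have hmem : (⟨((x : Ω), φ x), hφ.mem_GU hU hH x⟩ : GU hU) ∈ B := (hB _).2 ⟨x.2, rfl⟩
      refine ⟨⟨_, hBN hmem⟩, hmem, ?_⟩
      apply Subtype.ext
      refine Prod.ext ?_ ?_
      · rw [hθ1, ← hxe]
        exact hΦe x (hPN x.2)
      · rw [hθ2, ← h6', ← hxe]
        exact hχφ x _
  · rintro hK
    refine ⟨hK, ?_⟩
    obtain ⟨R, κ, hκ, hKR⟩ := id hK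
    have hRN : R ≤ normalizerIn S P := by
      intro x hx
      have h5 := (hKR ⟨(x, κ ⟨x, hx⟩), hκ.mem_GU hU hH ⟨x, hx⟩⟩).2 ⟨hx, rfl⟩
      obtain ⟨g, hg, hg'⟩ := h5
      have h6 := congrArg (fun z : GU hU => z.1.1) hg'
      have h7 : g.1.1.1 = x := h6
      rw [← h7]; exact hdom1 g
    have hκE : ∀ x, κ x ∈ E := by
      intro x
      have h5 := (hKR ⟨((x : Ω), κ x), hκ.mem_GU hU hH x⟩).2 ⟨x.2, rfl⟩
      obtain ⟨g, hg, hg'⟩ := h5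
      have h6 := congrArg (fun z : GU hU => z.1.2) hg'
      have h7 : g.1.1.2 = κ x := h6
      rw [← h7]; exact hdom2 g
    -- `Φ` on `R`
    have hΦR : MV F p U R (Φ.comp (Subgroup.inclusion hRN)) v := hv.restrict hRN fun x => rfl
    obtain ⟨ρ, hρ, hρ'⟩ := hΦR.exists_inv hU
    have hρR : ∀ y, ρ y ∈ R := by
      rintro ⟨_, x, rfl⟩; exact Set.mem_of_eq_of_mem (hρ' x ⟨x, rfl⟩) x.2
    obtain ⟨κ₁, hκ₁, hκ₁'⟩ := hρ.exists_comp hκ hρR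
    obtain ⟨κ₂, hκ₂, hκ₂'⟩ := hκ₁.exists_comp hχv fun x => by rw [hκ₁']; exact hκE _
    have hκ₂v : MV F p U _ κ₂ 1 := by
      refine hκ₂.cast (fun _ => rfl) ?_
      rw [show (v * (1 * v⁻¹))⁻¹ * 1 = 1 by group]
      exact U.one_mem
    have hval : ∀ (x : R) hx, κ₂ ⟨Φ ⟨x, hRN x.2⟩, hx⟩ = χ ⟨κ x, hκE x⟩ := fun x hx => by
      rw [hκ₂']
      congr 1
      apply Subtype.ext
      show κ₁ _ = κ x
      rw [hκ₁']
      congr 1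
      exact Subtype.ext (hρ' x hx)
    have key : ∀ k : GU hU, k ∈ K.map θ ↔ ∃ h : k.1.1 ∈ (Φ.comp (Subgroup.inclusion hRN)).range, κ₂ ⟨k.1.1, h⟩ = k.1.2 := by
      intro k
      constructor
      · rintro ⟨g, hg, rfl⟩
        have h5 : g.1 ∈ K.map (Subgroup.normalizer (B : Set (GU hU))).subtype := ⟨g, hg, rfl⟩
        obtain ⟨h6, h7⟩ := (hKR g.1).1 h5
        refine ⟨⟨⟨g.1.1.1, h6⟩, rfl⟩, ?_⟩
        refine (hval ⟨g.1.1.1, h6⟩ ⟨⟨g.1.1.1, h6⟩, rfl⟩).trans ?_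
        rw [hθ2]
        congr 1
        exact Subtype.ext h7
      · rintro ⟨⟨x, hx⟩, h6⟩
        have h5 := (hKR ⟨((x : Ω), κ x), hκ.mem_GU hU hH x⟩).2 ⟨x.2, rfl⟩
        obtain ⟨g, hg, hg'⟩ := h5
        have h7 : g.1.1.1 = x := congrArg (fun z : GU hU => z.1.1) hg'
        have h8 : g.1.1.2 = κ x := congrArg (fun z : GU hU => z.1.2) hg'
        refine ⟨g, hg, ?_⟩
        apply Subtype.ext
        refine Prod.ext ?_ ?_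
        · rw [hθ1, ← hx]
          show Φ _ = Φ _
          congr 1
          exact Subtype.ext h7
        · rw [hθ2, ← h6]
          have h9 := hval x ⟨x, rfl⟩
          have h10 : κ₂ ⟨k.1.1, ⟨x, hx⟩⟩ = χ ⟨κ x, hκE x⟩ := by
            rw [← h9]; congr 1; exact Subtype.ext hx.symm
          rw [h10]
          congr 1
          exact Subtype.ext h8
    refine ⟨⟨_, κ₂, hκ₂v, key⟩, ?_⟩
    rw [pr1_eq hH hκ hKR, pr1_eq hH hκ₂v key]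
    exact ⟨_, hΦR.hom, rfl⟩
  · rintro ⟨R', κ', hκ', hKR'⟩
    -- the inverse of `χ`
    obtain ⟨χi, hχi, hχi'⟩ := hχv.exists_inv hU
    set R := pr1 hU (K.map (Subgroup.normalizer (B : Set (GU hU))).subtype) with hR
    have hRm : ∀ x ∈ R, ∃ g ∈ K, g.1.1.1 = x := by
      rintro _ ⟨_, ⟨g, hg, rfl⟩, rfl⟩
      exact ⟨g, hg, rfl⟩
    have hRN : R ≤ normalizerIn S P := by
      intro x hx
      obtain ⟨g, hg, rfl⟩ := hRm x hx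
      exact hdom1 g
    have hΦR : MV F p U R (Φ.comp (Subgroup.inclusion hRN)) v := hv.restrict hRN fun x => rfl
    have hΦR' : ∀ x, (Φ.comp (Subgroup.inclusion hRN)) x ∈ R' := by
      rintro ⟨x, hx⟩
      obtain ⟨g, hg, rfl⟩ := hRm x hx
      exact ((hKR' (θ g)).1 ⟨g, hg, rfl⟩).1
    obtain ⟨κ₁, hκ₁, hκ₁'⟩ := hΦR.exists_comp hκ' hΦR'
    have hval1 : ∀ g ∈ K, ∀ hx : g.1.1.1 ∈ R, κ₁ ⟨g.1.1.1, hx⟩ = χ ⟨g.1.1.2, hdom2 g⟩ := by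
      intro g hg hx
      rw [hκ₁']
      obtain ⟨h5, h6⟩ := (hKR' (θ g)).1 ⟨g, hg, rfl⟩
      rw [hθ2] at h6
      rw [← h6]
      congr 1
    obtain ⟨κ₂, hκ₂, hκ₂'⟩ := hκ₁.exists_comp hχi fun x => by
      obtain ⟨g, hg, h5⟩ := hRm x x.2
      have h6 := hval1 g hg (by rw [h5]; exact x.2)
      have h7 : κ₁ x = χ ⟨g.1.1.2, hdom2 g⟩ := by rw [← h6]; congr 1; exact Subtype.ext h5.symm
      rw [h7]; exact ⟨_, rfl⟩
    have hκ₂v : MV F p U _ κ₂ 1 := by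
      refine hκ₂.cast (fun _ => rfl) ?_
      rw [show (v⁻¹ * (1 * v))⁻¹ * 1 = 1 by group]
      exact U.one_mem
    have hval2 : ∀ g ∈ K, ∀ hx : g.1.1.1 ∈ R, κ₂ ⟨g.1.1.1, hx⟩ = g.1.1.2 := by
      intro g hg hx
      rw [hκ₂']
      refine Eq.trans ?_ (hχi' ⟨g.1.1.2, hdom2 g⟩ ⟨_, rfl⟩)
      congr 1
      exact Subtype.ext (hval1 g hg hx)
    refine ⟨R, κ₂, hκ₂v, fun k => ⟨?_, ?_⟩⟩
    · rintro ⟨g, hg, rfl⟩
      have hx : g.1.1.1 ∈ R := ⟨_, ⟨g, hg, rfl⟩, rfl⟩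
      exact ⟨hx, hval2 g hg hx⟩
    · rintro ⟨hx, h5⟩
      obtain ⟨g, hg, h6⟩ := hRm _ hx
      refine ⟨g, hg, ?_⟩
      apply Subtype.ext
      refine Prod.ext h6 ?_
      have h7 := hval2 g hg (by rw [h6]; exact hx)
      refine h7.symm.trans (Eq.trans ?_ h5)
      congr 1
      exact Subtype.ext h6

/-- the stabilization data of a saturated fusion system -/
def stabD [Finite S] [hp : Fact p.Prime] (hS : IsPGroup p S) (hF : F.IsSaturated p) (hU : NormIn S U) (hH : HypLe F p U) :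
    StabData (GU hU) where
  D := InD F p hU
  r := rD F p hU
  sub := fun hA hBA => hA.mono hBA
  refl := fun {A} hA => ⟨hA, hA, by
    obtain ⟨P, φ, h, hA⟩ := hA
    rw [pr1_eq hH h hA]
    exact conj_refl F h.le⟩
  symm := fun _ h => ⟨h.2.1, h.1, conj_symm h.2.2⟩
  trans := fun _ h1 h2 => ⟨h1.1, h2.2.1, conj_trans h1.2.2 h2.2.2⟩
  mem := fun _ h => h.2.1
  card := fun {A B} _ h => by
    rw [h.1.card_eq hH, h.2.1.card_eq hH]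
    obtain ⟨e, -⟩ := isConj_iff.1 h.2.2
    exact Nat.card_congr e.toEquiv
  conj := fun {A} g hA => ⟨hA, (hA.conj hH g).1, (hA.conj hH g).2⟩
  ex := fun {A} hA => by
    have hAS : pr1 hU A ≤ S := by
      obtain ⟨P, φ, h, hA'⟩ := hA
      rw [pr1_eq hH h hA']; exact h.le
    obtain ⟨Pf, hPf, hfn⟩ := exists_fullyNormalized F hAS
    have hPfS := hfn.1
    have hid : MV F p U Pf Pf.subtype 1 := MV.conj Pf hPfS 1 S.one_mem _ fun x => by simp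
    have hA₀ : ∀ g : GU hU, g ∈ Dl hU Pf Pf.subtype ↔ ∃ h : g.1.1 ∈ Pf, Pf.subtype ⟨g.1.1, h⟩ = g.1.2 := fun g => mem_Dl
    have hpr := pr1_eq hH hid hA₀
    refine ⟨Dl hU Pf Pf.subtype, ⟨hA, ⟨Pf, _, hid, hA₀⟩, by rw [hpr]; exact hPf⟩, fun B hB => ?_⟩
    obtain ⟨θ, h1, h2⟩ := exists_theta hS hF hH hfn hA₀ hB.2.1 (conj_trans (conj_symm hB.2.2) hPf)
    exact ⟨θ, h1, fun K _ => h2 K⟩

end CfsgLib.FT
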