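import Cfsg.Agent.LibFT14

set_option autoImplicit false

/-! Existence of a graded characteristic biset (helper1) -/

namespace CfsgLib.FT

open Cfsg Cfsg.FusionSystem CfsgLib.Fus21
open scoped commutatorElement

universe u

variable {Ω : Type u} [Group Ω] {S : Subgroup Ω} {F : FusionSystem S} {p : ℕ} {U : Subgroup Ω}

/-- automorphisms of `S` of value `1` -/
def A1 (F : FusionSystem S) (p : ℕ) (hU : NormIn S U) : Subgroup (MulAut S) where
  carrier := {α | MV F p U S (S.subtype.comp (α : S ≃* S).toMonoidHom) 1}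
  one_mem' := MV.conj S le_rfl 1 S.one_mem _ fun x => by simp
  mul_mem' := by
    intro α β hα hβ
    have := MV.comp S S _ _ _ _ hβ hα (S.subtype.comp ((α * β : MulAut S) : S ≃* S).toMonoidHom) fun x => ⟨(β x).2, rfl⟩
    rwa [mul_one] at this
  inv_mem' := by
    intro α hα
    have := MV.inv hU hα (Q := S) (ψ := S.subtype.comp ((α⁻¹ : MulAut S) : S ≃* S).toMonoidHom) fun y => ⟨α⁻¹ y, by
      show ((α (α⁻¹ y) : S) : Ω) = y
      rw [MulAut.apply_inv_self], rfl⟩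
    rwa [inv_one] at this

theorem mem_A1 {hU : NormIn S U} {α : MulAut S} : α ∈ A1 F p hU ↔ MV F p U S (S.subtype.comp (α : S ≃* S).toMonoidHom) 1 := Iff.rfl

theorem A1_le {hU : NormIn S U} : A1 F p hU ≤ F.autGroup S := fun α hα => (mem_autGroup le_rfl).2 hα.hom

theorem A1_conj {hU : NormIn S U} {u : Ω} (hu : u ∈ U) {α : MulAut S} (h : ∀ x : S, ((α x : S) : Ω) = u * x * u⁻¹) : α ∈ A1 F p hU := by
  have h1 : MV F p U S (S.subtype.comp (α : S ≃* S).toMonoidHom) u := MV.conj S le_rfl u (hU.1 hu) _ h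
  refine h1.cast (fun _ => rfl) ?_
  rw [mul_one]; exact U.inv_mem hu

theorem A1_index [Finite S] [hp : Fact p.Prime] (hS : IsPGroup p S) (hF : F.IsSaturated p) (hU : NormIn S U)
    (hH : HypLe F p U) : ¬ p ∣ (autInducedBy U S).relIndex (A1 F p hU) := by
  have hSS : S ≤ S := le_rfl
  have hfn := fullyNormalized_S F
  have hfa := (fullyAutomized_iff hS).1 (sat_fn hS hF hfn).2
  have hfc := (sat_fn hS hF hfn).1
  haveI := finite_autGroup F hSS
  have hind : autInducedBy S S ⊓ A1 F p hU = autInducedBy U S := by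
    apply le_antisymm
    · rintro α ⟨hα, hα2⟩
      obtain ⟨s, hs, hsx⟩ := mem_autInducedBy.1 hα
      have h1 : MV F p U S (S.subtype.comp (α : S ≃* S).toMonoidHom) s := MV.conj S le_rfl s hs _ hsx
      have hr : (S.subtype.comp (α : S ≃* S).toMonoidHom).range = S := iso_range α
      have h2 := values_rel hS hF hU hH h1 hα2 (by rw [hr]; exact hfc)
      rw [hr, mem_CU hU, inv_one, mul_one] at h2
      obtain ⟨c, hc, hcu⟩ := h2
      rw [mem_autInducedBy]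
      refine ⟨c⁻¹ * s, hcu, fun x => ?_⟩
      have h4 := (mem_centralizerIn'.1 hc).2 ((α x : S) : Ω) (α x).2
      rw [hsx] at h4
      rw [hsx]
      have e : c⁻¹ * s * (x : Ω) * (c⁻¹ * s)⁻¹ = c⁻¹ * (s * (x : Ω) * s⁻¹) * c := by group
      rw [e]
      conv_rhs => rw [← h4]
      group
    · refine le_inf (Subgroup.closure_mono ?_) ?_
      · rintro α ⟨g, hg, h⟩; exact ⟨g, hU.1 hg, h⟩
      · intro α hα
        obtain ⟨s, hs, hsx⟩ := mem_autInducedBy.1 hα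
        exact A1_conj hs hsx
  rw [← hind]
  have key := not_dvd_index (A := F.autGroup S) (p := p) (R := (autInducedBy S S).subgroupOf (F.autGroup S))
    (B := (A1 F p hU).subgroupOf (F.autGroup S)) (O := pResidual p (F.autGroup S)) hfa.2 ?_
    (CfsgLib.TransFus.pResidual_normal (G := F.autGroup S) p) ?_
  · rw [show (autInducedBy S S).subgroupOf (F.autGroup S) ⊓ (A1 F p hU).subgroupOf (F.autGroup S) =
      (autInducedBy S S ⊓ A1 F p hU).subgroupOf (F.autGroup S) from rfl, Subgroup.relIndex_subgroupOf A1_le] at key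
    exact key
  · haveI := CfsgLib.TransFus.pResidual_normal (G := F.autGroup S) p
    rw [eq_top_iff]
    intro α _
    obtain ⟨τ, hτ, s, hs, hx⟩ := aut_decomp hS (sat_fn hS hF hfn).2 α
    have : α = (α * τ⁻¹) * τ := by group
    rw [this]
    refine Subgroup.mul_mem _ ((le_sup_left : (autInducedBy S S).subgroupOf (F.autGroup S) ≤ _) ?_) ((le_sup_right : pResidual p (F.autGroup S) ≤ _) hτ)
    rw [Subgroup.mem_subgroupOf, mem_autInducedBy]
    exact ⟨s, hs.1, hx⟩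
  · intro α hα
    rw [Subgroup.mem_subgroupOf]
    exact MV.of_Op hU hSS ⟨α, hα, rfl⟩ fun x => rfl

/-- the twisted diagonal of an automorphism -/
abbrev Da (hU : NormIn S U) (α : MulAut S) : Subgroup (GU hU) := Dl hU S (S.subtype.comp (α : S ≃* S).toMonoidHom)

theorem mem_Da {hU : NormIn S U} {α : MulAut S} {g : GU hU} : g ∈ Da hU α ↔ ((α ⟨g.1.1, g.2.1⟩ : S) : Ω) = g.1.2 := by
  rw [mem_Dl]
  exact ⟨fun ⟨_, h⟩ => h, fun h => ⟨g.2.1, h⟩⟩

theorem Da_InD {hU : NormIn S U} {α : MulAut S} (hα : α ∈ A1 F p hU) : InD F p hU (Da hU α) := ⟨S, _, hα, fun _ => mem_Dl⟩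

theorem Da_card [Finite S] {hU : NormIn S U} (hH : HypLe F p U) {α : MulAut S} (hα : α ∈ A1 F p hU) : Nat.card (Da hU α) = Nat.card S := by
  rw [(Da_InD hα).card_eq hH, pr1_eq hH hα fun _ => mem_Dl]

theorem top_iff [Finite S] {hU : NormIn S U} (hH : HypLe F p U) {A : Subgroup (GU hU)} (hA : InD F p hU A) (hc : Nat.card S ≤ Nat.card A) :
    ∃ α ∈ A1 F p hU, A = Da hU α := by
  have h1 := hA.card_eq hH
  obtain ⟨P, φ, h, hA⟩ := hA
  rw [pr1_eq hH h hA] at h1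
  have hPS : P = S := by
    apply Subgroup.eq_of_le_of_card_ge h.le
    rw [← h1]; exact hc
  subst hPS
  obtain ⟨α, hα, hαx⟩ := exists_aut_of_hom h.hom h.mem_S
  have he : P.subtype.comp (α : P ≃* P).toMonoidHom = φ := MonoidHom.ext hαx
  refine ⟨α, by rw [mem_A1, he]; exact h, ?_⟩
  ext g
  rw [hA, mem_Dl, he]

theorem val_A1 {hU : NormIn S U} (hH : HypLe F p U) {α : MulAut S} (hα : α ∈ A1 F p hU) (x : S) : (x : Ω)⁻¹ * ((α x : S) : Ω) ∈ U := by
  have := MV.cong hU hH (mem_A1.1 hα) x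
  rw [one_mul, inv_one, mul_one] at this
  exact this

theorem A1_U {hU : NormIn S U} (hH : HypLe F p U) {α : MulAut S} (hα : α ∈ A1 F p hU) {u : S} (hu : (u : Ω) ∈ U) : ((α u : S) : Ω) ∈ U := by
  have h1 := val_A1 hH hα u
  have e : ((α u : S) : Ω) = u * ((u : Ω)⁻¹ * ((α u : S) : Ω)) := by group
  rw [e]; exact U.mul_mem hu h1

theorem Da_conj_iff {hU : NormIn S U} (hH : HypLe F p U) {α β : MulAut S} (hα : α ∈ A1 F p hU) (hβ : β ∈ A1 F p hU) :
    (∃ g : GU hU, Da hU α = (Da hU β).map (MulAut.conj g).toMonoidHom) ↔ β⁻¹ * α ∈ autInducedBy U S := by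
  constructor
  · rintro ⟨g, hg⟩
    obtain ⟨hs, ht, hst⟩ := g.2
    rw [mem_autInducedBy]
    -- `α (s x s⁻¹) = t β(x) t⁻¹`
    have key : ∀ x : S, ((α (⟨g.1.1, hs⟩ * x * ⟨g.1.1, hs⟩⁻¹) : S) : Ω) = g.1.2 * ((β x : S) : Ω) * g.1.2⁻¹ := by
      intro x
      let z : GU hU := ⟨((x : Ω), ((β x : S) : Ω)), MV.mem_GU hU hH (mem_A1.1 hβ) x⟩
      have h1 : g * z * g⁻¹ ∈ Da hU α := by
        rw [hg, mem_conj_iff]
        have : g⁻¹ * (g * z * g⁻¹) * g = z := by group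
        rw [this, mem_Da]
      exact mem_Da.1 h1
    let s : S := ⟨g.1.1, hs⟩
    let t : S := ⟨g.1.2, ht⟩
    have key' : ∀ x : S, α (s * x * s⁻¹) = t * β x * t⁻¹ := fun x => Subtype.ext (key x)
    -- w = s^{-1} ... : `β⁻¹ α (x) = c_w x`, `w = β⁻¹ (t) * (β⁻¹ α s)⁻¹`
    let w : S := β⁻¹ t * s⁻¹
    refine ⟨w, ?_, fun x => ?_⟩
    · -- `w ∈ U`
      have h1 := val_A1 hH ((A1 F p hU).inv_mem hβ) t
      have h2 : ((w : S) : Ω) = g.1.1 * ((g.1.1⁻¹ * g.1.2) * ((t : Ω)⁻¹ * ((β⁻¹ t : S) : Ω))) * g.1.1⁻¹ := by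
        show ((β⁻¹ t : S) : Ω) * g.1.1⁻¹ = _
        show _ = g.1.1 * ((g.1.1⁻¹ * g.1.2) * ((g.1.2)⁻¹ * ((β⁻¹ t : S) : Ω))) * g.1.1⁻¹
        group
      rw [h2]
      exact hU.2 _ hs _ (U.mul_mem hst h1)
    · have h1 := key' (s⁻¹ * x * s)
      have e : s * (s⁻¹ * x * s) * s⁻¹ = x := by group
      rw [e] at h1
      have h2 : (β⁻¹ * α) x = w * x * w⁻¹ := by
        rw [MulAut.mul_apply, h1, map_mul, map_mul, MulAut.inv_apply_self, map_inv]
        show β⁻¹ t * (s⁻¹ * x * s) * (β⁻¹ t)⁻¹ = (β⁻¹ t * s⁻¹) * x * (β⁻¹ t * s⁻¹)⁻¹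
        group
      exact congrArg Subtype.val h2
  · intro h
    obtain ⟨u, hu, hx⟩ := mem_autInducedBy.1 h
    let u' : S := ⟨u, hU.1 hu⟩
    have hβu : ((β u' : S) : Ω) ∈ U := A1_U hH hβ hu
    let z : GU hU := ⟨(1, ((β u' : S) : Ω)), ⟨S.one_mem, (β u').2, by show (1 : Ω)⁻¹ * _ ∈ U; rw [inv_one, one_mul]; exact hβu⟩⟩
    refine ⟨z, ?_⟩
    have key : ∀ x : S, α x = β u' * β x * (β u')⁻¹ := fun x => by
      have h1 : (β⁻¹ * α) x = u' * x * u'⁻¹ := Subtype.ext (hx x)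
      have h2 := congrArg β h1
      rw [MulAut.mul_apply, MulAut.apply_inv_self, map_mul, map_mul, map_inv] at h2
      exact h2
    have lem : ∀ a b w : Ω, w * a * w⁻¹ = b ↔ a = w⁻¹ * b * w := fun a b w => by
      constructor
      · intro h3; rw [← h3]; group
      · intro h3; rw [h3]; group
    ext g
    rw [mem_conj_iff, mem_Da, mem_Da]
    have h5 : ((β ⟨(z⁻¹ * g * z).1.1, (z⁻¹ * g * z).2.1⟩ : S) : Ω) = ((β ⟨g.1.1, g.2.1⟩ : S) : Ω) := by
      congr 2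
      apply Subtype.ext
      show (1 : Ω)⁻¹ * g.1.1 * 1 = g.1.1
      group
    have h6 : (z⁻¹ * g * z).1.2 = ((β u' : S) : Ω)⁻¹ * g.1.2 * ((β u' : S) : Ω) := rfl
    rw [h5, h6, key ⟨g.1.1, g.2.1⟩, ← lem]
    rfl

/-- the mark of the transitive set at its own stabilizer does not depend on the automorphism -/
theorem mark_Da [Finite S] {hU : NormIn S U} (hH : HypLe F p U) {β : MulAut S} (hβ : β ∈ A1 F p hU) :
    mark (GU hU ⧸ Da hU β) (Da hU β) = mark (GU hU ⧸ Da hU (1 : MulAut S)) (Da hU 1) := by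
  haveI := GU_finite hU
  -- the automorphism `(s, t) ↦ (s, β t)`
  have hmem : ∀ {γ : MulAut S} (_ : γ ∈ A1 F p hU) (g : GU hU), (g.1.1, ((γ ⟨g.1.2, g.2.2.1⟩ : S) : Ω)) ∈ GU hU := fun {γ} hγ g => by
    refine ⟨g.2.1, Subtype.mem _, ?_⟩
    have h1 := val_A1 hH hγ ⟨g.1.2, g.2.2.1⟩
    have e : g.1.1⁻¹ * ((γ ⟨g.1.2, g.2.2.1⟩ : S) : Ω) = (g.1.1⁻¹ * g.1.2) * (g.1.2⁻¹ * ((γ ⟨g.1.2, g.2.2.1⟩ : S) : Ω)) := by group
    show g.1.1⁻¹ * ((γ ⟨g.1.2, g.2.2.1⟩ : S) : Ω) ∈ U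
    rw [e]
    exact U.mul_mem g.2.2.2 h1
  let f : GU hU ≃* GU hU := {
    toFun := fun g => ⟨(g.1.1, ((β ⟨g.1.2, g.2.2.1⟩ : S) : Ω)), hmem hβ g⟩
    invFun := fun g => ⟨(g.1.1, ((β⁻¹ ⟨g.1.2, g.2.2.1⟩ : S) : Ω)), hmem ((A1 F p hU).inv_mem hβ) g⟩
    left_inv := fun g => by
      apply Subtype.ext
      refine Prod.ext rfl ?_
      show ((β⁻¹ (β ⟨g.1.2, g.2.2.1⟩) : S) : Ω) = g.1.2
      rw [MulAut.inv_apply_self]
    right_inv := fun g => by
      apply Subtype.ext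
      refine Prod.ext rfl ?_
      show ((β (β⁻¹ ⟨g.1.2, g.2.2.1⟩) : S) : Ω) = g.1.2
      rw [MulAut.apply_inv_self]
    map_mul' := fun a b => by
      apply Subtype.ext
      refine Prod.ext rfl ?_
      show ((β (⟨a.1.2, a.2.2.1⟩ * ⟨b.1.2, b.2.2.1⟩) : S) : Ω) = _
      rw [map_mul]
      rfl }
  have hf : (Da hU (1 : MulAut S)).map f.toMonoidHom = Da hU β := by
    ext g
    rw [mem_Da, Subgroup.mem_map]
    constructor
    · rintro ⟨k, hk, rfl⟩
      rw [mem_Da] at hk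
      have hk' : k.1.1 = k.1.2 := hk
      show ((β ⟨k.1.1, _⟩ : S) : Ω) = ((β ⟨k.1.2, _⟩ : S) : Ω)
      congr 2
      exact Subtype.ext hk'
    · intro h
      refine ⟨f.symm g, ?_, f.apply_symm_apply g⟩
      rw [mem_Da]
      show g.1.1 = ((β⁻¹ ⟨g.1.2, g.2.2.1⟩ : S) : Ω)
      have : (⟨g.1.2, g.2.2.1⟩ : S) = β ⟨g.1.1, g.2.1⟩ := Subtype.ext h.symm
      rw [this, MulAut.inv_apply_self]
  rw [mark_coset_self, mark_coset_self, ← hf, ← Subgroup.map_equiv_normalizer_eq, Subgroup.relIndex_map_map_of_injective]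
  exact f.injective

end CfsgLib.FT
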