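import Cfsg.Agent.LibFT15

set_option autoImplicit false

/-! Existence of a graded characteristic biset (helper1) -/

namespace CfsgLib.FT

open Cfsg Cfsg.FusionSystem CfsgLib.Fus21
open scoped commutatorElement

universe u

variable {Ω : Type u} [Group Ω] {S : Subgroup Ω} {F : FusionSystem S} {p : ℕ} {U : Subgroup Ω}

/-- the index set of the top level -/
abbrev Qs (F : FusionSystem S) (p : ℕ) (hU : NormIn S U) : Type u := (A1 F p hU) ⧸ ((autInducedBy U S).subgroupOf (A1 F p hU))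

/-- the top level -/
abbrev X0 (F : FusionSystem S) (p : ℕ) (hU : NormIn S U) : Type u := Σ q : Qs F p hU, GU hU ⧸ Da hU (q.out : A1 F p hU).1

theorem mark_X0 [Finite S] {hU : NormIn S U} (hH : HypLe F p U) {α : MulAut S} (hα : α ∈ A1 F p hU) :
    mark (X0 F p hU) (Da hU α) = mark (GU hU ⧸ Da hU (1 : MulAut S)) (Da hU 1) := by
  haveI := GU_finite hU
  haveI : Fintype (Qs F p hU) := Fintype.ofFinite _
  rw [mark_sigma, Finset.sum_eq_single (QuotientGroup.mk (⟨α, hα⟩ : A1 F p hU) : Qs F p hU)]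
  · set q : Qs F p hU := QuotientGroup.mk (⟨α, hα⟩ : A1 F p hU) with hq
    have h1 : (q.out)⁻¹ * (⟨α, hα⟩ : A1 F p hU) ∈ (autInducedBy U S).subgroupOf (A1 F p hU) := by
      rw [← QuotientGroup.eq, QuotientGroup.out_eq']
    have h2 : ((q.out : A1 F p hU) : MulAut S)⁻¹ * α ∈ autInducedBy U S := h1
    obtain ⟨g, hg⟩ := (Da_conj_iff hH hα (q.out : A1 F p hU).2).2 h2
    rw [hg, mark_conj, mark_Da hH (q.out : A1 F p hU).2]
  · intro q _ hq
    by_contra h
    obtain ⟨g, hg⟩ := mark_coset_conj (by rw [Da_card hH hα, Da_card hH (q.out : A1 F p hU).2]) h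
    apply hq
    have h2 := (Da_conj_iff hH hα (q.out : A1 F p hU).2).1 ⟨g, hg⟩
    have h3 : (q.out)⁻¹ * (⟨α, hα⟩ : A1 F p hU) ∈ (autInducedBy U S).subgroupOf (A1 F p hU) := h2
    rw [← QuotientGroup.eq, QuotientGroup.out_eq'] at h3
    exact h3
  · intro h; exact absurd (Finset.mem_univ _) h

theorem index_Da [Finite S] {hU : NormIn S U} (hH : HypLe F p U) {α : MulAut S} (hα : α ∈ A1 F p hU) : (Da hU α).index = Nat.card U := by
  have h1 := Subgroup.card_mul_index (Da hU α)
  rw [card_GU, Da_card hH hα] at h1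
  exact Nat.eq_of_mul_eq_mul_left Nat.card_pos h1

theorem exists_biset [Finite S] [hp : Fact p.Prime] (hS : IsPGroup p S) (hF : F.IsSaturated p) (hU : NormIn S U) (hH : HypLe F p U) :
    ∃ (X : Type u) (_ : MulAction (GU hU) X), Finite X ∧ (∀ x : X, InD F p hU (MulAction.stabilizer (GU hU) x)) ∧
      (∃ m, ¬ p ∣ m ∧ Nat.card X ≡ m * Nat.card U [MOD p * Nat.card U]) ∧ ∀ A B, InD F p hU A → rD F p hU A B → mark X A = mark X B := by
  haveI := GU_finite hU
  haveI : Finite U := finite_of_le hU.1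
  have h1 := (stabD hS hF hU hH).stabilize (q := p * Nat.card U) (k₀ := Nat.card S) ?_ (X0 F p hU) ?_ ?_
  · obtain ⟨X, hX, hfin, hok, hc, hm⟩ := h1
    refine ⟨X, hX, hfin, hok, ⟨(autInducedBy U S).relIndex (A1 F p hU), A1_index hS hF hU hH, hc.trans ?_⟩, hm⟩
    have h2 : Nat.card (X0 F p hU) = (autInducedBy U S).relIndex (A1 F p hU) * Nat.card U := by
      haveI : Fintype (Qs F p hU) := Fintype.ofFinite _
      rw [Nat.card_sigma, Finset.sum_congr rfl (g := fun _ => Nat.card U)]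
      · rw [Finset.sum_const, Finset.card_univ, smul_eq_mul, ← Nat.card_eq_fintype_card]
        rfl
      · intro q _
        exact index_Da hH (q.out : A1 F p hU).2
    rw [h2]
  · intro A hA hAc
    have h2 := Subgroup.card_mul_index A
    rw [card_GU] at h2
    have hA' : InD F p hU A := hA
    have h3 : Nat.card A = Nat.card (pr1 hU A) := hA'.card_eq hH
    have h4 : pr1 hU A ≤ S := by
      obtain ⟨P, φ, h, hA⟩ := hA'
      rw [pr1_eq hH h hA]; exact h.le
    haveI : Finite (pr1 hU A) := finite_of_le h4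
    obtain ⟨a, ha⟩ := IsPGroup.iff_card.1 (hS.to_le h4)
    obtain ⟨b, hb⟩ := IsPGroup.iff_card.1 hS
    rw [h3, ha, hb] at hAc h2
    have hab : a < b := (Nat.pow_lt_pow_iff_right hp.out.one_lt).1 hAc
    obtain ⟨c, rfl⟩ : ∃ c, b = a + 1 + c := ⟨b - (a + 1), by omega⟩
    have h5 : A.index = p * Nat.card U * p ^ c := by
      have h6 : p ^ a * A.index = p ^ a * (p * Nat.card U * p ^ c) := by
        rw [h2]; ring
      exact Nat.eq_of_mul_eq_mul_left (pow_pos hp.out.pos _) h6
    rw [h5]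
    exact dvd_mul_right _ _
  · rintro ⟨q, y⟩
    have : MulAction.stabilizer (GU hU) (⟨q, y⟩ : X0 F p hU) = MulAction.stabilizer (GU hU) y := by
      ext g
      rw [MulAction.mem_stabilizer_iff, MulAction.mem_stabilizer_iff]
      constructor
      · intro h
        have h2 : (⟨q, g • y⟩ : X0 F p hU) = ⟨q, y⟩ := h
        exact eq_of_heq (Sigma.mk.inj h2).2
      · intro h
        show (⟨q, g • y⟩ : X0 F p hU) = ⟨q, y⟩
        rw [h]
    rw [this]
    induction y using QuotientGroup.induction_on with | H g =>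
    rw [stab_coset]
    exact ((Da_InD (q.out : A1 F p hU).2).conj hH g).1
  · intro A B hA hAB hc
    obtain ⟨α, hα, rfl⟩ := top_iff hH hA hc
    obtain ⟨β, hβ, rfl⟩ := top_iff hH hAB.2.1 (by rw [← (stabD hS hF hU hH).card hA hAB]; exact hc)
    rw [mark_X0 hH hα, mark_X0 hH hβ]

/-- stability in the form of two homomorphisms -/
theorem iso_biset [Finite S] (hU : NormIn S U)
    {X : Type u} [MulAction (GU hU) X] [Finite X] (hok : ∀ x : X, InD F p hU (MulAction.stabilizer (GU hU) x))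
    (hm : ∀ A B, InD F p hU A → rD F p hU A B → mark X A = mark X B) {H : Type*} [Group H] [Finite H] (γ₁ γ₂ : H →* GU hU)
    (h : ∀ K : Subgroup H, (InD F p hU (K.map γ₁) → rD F p hU (K.map γ₁) (K.map γ₂)) ∧ (InD F p hU (K.map γ₂) → InD F p hU (K.map γ₁))) :
    ∃ e : X ≃ X, ∀ (k : H) x, e (γ₁ k • x) = γ₂ k • e x := by
  have h0 : ∀ A, ¬ InD F p hU A → mark X A = 0 := by
    intro A hA
    rw [mark, Nat.card_eq_zero]
    left
    exact ⟨fun z => hA ((hok z.1).mono (mem_fx.1 z.2))⟩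
  obtain ⟨e, he⟩ := @iso_of_marks H _ _ (Nat.card X) X X (MulAction.compHom X γ₁) (MulAction.compHom X γ₂) _ _ rfl (fun K => by
    have h1 : @mark H _ X (MulAction.compHom X γ₁) K = mark X (K.map γ₁) := by
      refine Nat.card_congr (Equiv.subtypeEquivRight fun x => ?_)
      constructor
      · rintro h _ ⟨k, hk, rfl⟩; exact h k hk
      · intro h k hk; exact h (γ₁ k) ⟨k, hk, rfl⟩
    have h2 : @mark H _ X (MulAction.compHom X γ₂) K = mark X (K.map γ₂) := by
      refine Nat.card_congr (Equiv.subtypeEquivRight fun x => ?_)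
      constructor
      · rintro h _ ⟨k, hk, rfl⟩; exact h k hk
      · intro h k hk; exact h (γ₂ k) ⟨k, hk, rfl⟩
    rw [h1, h2]
    by_cases hK : InD F p hU (K.map γ₁)
    · exact hm _ _ hK ((h K).1 hK)
    · rw [h0 _ hK, h0 _ (fun h3 => hK ((h K).2 h3))])
  exact ⟨e, he⟩

end CfsgLib.FT
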