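import Mathlib.GroupTheory.Sylow
import Mathlib.Tactic.Group
import Mathlib.Algebra.BigOperators.Group.Finset.Basic

set_option autoImplicit false

/-! The transfer of an equivariant function (helper1) -/

namespace CfsgLib.FT

open scoped BigOperators

section transfer

variable {G X A : Type*} [Group G] [MulAction G X] [CommGroup A] (K : Subgroup G)

/-- equivariant functions -/
def IsEqv (lam : K →* A) (μ : X → A) : Prop := ∀ (k : K) (x : X), μ ((k : G) • x) = lam k * μ x

/-- `K`-orbits -/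
abbrev OQ (X : Type*) [MulAction G X] : Type _ := Quotient (MulAction.orbitRel K X)

variable {K}

theorem exists_eqv (hfree : ∀ x : X, ∀ k ∈ K, k • x = x → k = 1) (lam : K →* A) : ∃ μ : X → A, IsEqv K lam μ := by
  classical
  have h1 : ∀ x : X, ∃ k : K, (k : G) • (Quotient.mk (MulAction.orbitRel K X) x).out = x := fun x => by
    have := Quotient.exact (Quotient.out_eq (Quotient.mk (MulAction.orbitRel K X) x))
    obtain ⟨k, hk⟩ := (MulAction.orbitRel K X).symm this
    exact ⟨k, hk⟩
  choose w hw using h1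
  refine ⟨fun x => lam (w x), fun k x => ?_⟩
  have e : Quotient.mk (MulAction.orbitRel K X) ((k : G) • x) = Quotient.mk (MulAction.orbitRel K X) x := Quotient.sound ⟨k, rfl⟩
  have h2 := hw ((k : G) • x)
  rw [e] at h2
  have h3 := hw x
  set y := (Quotient.mk (MulAction.orbitRel K X) x).out with hy
  have h4 : ((w ((k : G) • x))⁻¹ * (k * w x) : K) = 1 := by
    apply Subtype.ext
    refine hfree y _ (Subtype.mem _) ?_
    show ((w ((k : G) • x) : G)⁻¹ * ((k : G) * (w x : G))) • y = y
    rw [mul_smul, mul_smul, h3, inv_smul_eq_iff]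
    exact h2.symm
  have h5 : w ((k : G) • x) = k * w x := (inv_mul_eq_one.1 h4)
  show lam (w ((k : G) • x)) = lam k * lam (w x)
  rw [h5, map_mul]

/-- the local factor -/
noncomputable def dlt (K : Subgroup G) (μ : X → A) (g : G) (q : OQ K X) : A := μ (g • q.out) * (μ q.out)⁻¹

theorem dlt_mk {lam : K →* A} {μ : X → A} (hμ : IsEqv K lam μ) (hlam : ∀ (g : G) (k : K), ∃ k' : K, (k' : G) = g * k * g⁻¹ ∧ lam k' = lam k)
    (g : G) (x : X) : dlt K μ g (Quotient.mk (MulAction.orbitRel K X) x) = μ (g • x) * (μ x)⁻¹ := by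
  have := Quotient.exact (Quotient.out_eq (Quotient.mk (MulAction.orbitRel K X) x))
  obtain ⟨k, hk⟩ := this
  have hk' : (k : G) • x = (Quotient.mk (MulAction.orbitRel K X) x).out := hk
  rw [dlt, ← hk']
  obtain ⟨k', h1, h2⟩ := hlam g k
  have h3 : g • (k : G) • x = (k' : G) • g • x := by
    rw [← mul_smul, ← mul_smul, h1]
    congr 1; group
  rw [h3, hμ, hμ, h2, mul_inv]
  have : lam k * μ (g • x) * ((lam k)⁻¹ * (μ x)⁻¹) = (lam k * (lam k)⁻¹) * (μ (g • x) * (μ x)⁻¹) := by
    rw [mul_mul_mul_comm]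
  rw [this, mul_inv_cancel, one_mul]

/-- transfer -/
noncomputable def trf (K : Subgroup G) [Finite X] (μ : X → A) (g : G) : A :=
  haveI : Fintype (OQ K X) := Fintype.ofFinite _
  ∏ q : OQ K X, dlt K μ g q

theorem trf_eq [inst : Fintype (OQ K X)] [Finite X] (μ : X → A) (g : G) : trf K μ g = ∏ q : OQ K X, dlt K μ g q := by
  unfold trf
  have : Fintype.ofFinite (OQ K X) = inst := Subsingleton.elim _ _
  rw [this]

/-- the permutation of the orbits -/
noncomputable def prm (hn : K.Normal) (g : G) : OQ K X ≃ OQ K X where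
  toFun := Quotient.map (fun x => g • x) (by
    rintro a b ⟨k, hk⟩
    refine ⟨⟨g * k * g⁻¹, hn.conj_mem k k.2 g⟩, ?_⟩
    have hk' : (k : G) • b = a := hk
    show (g * (k : G) * g⁻¹) • g • b = g • a
    rw [← hk', ← mul_smul, ← mul_smul]
    congr 1; group)
  invFun := Quotient.map (fun x => g⁻¹ • x) (by
    rintro a b ⟨k, hk⟩
    refine ⟨⟨g⁻¹ * k * g, by have := hn.conj_mem k k.2 g⁻¹; rwa [inv_inv] at this⟩, ?_⟩
    have hk' : (k : G) • b = a := hk
    show (g⁻¹ * (k : G) * g) • g⁻¹ • b = g⁻¹ • a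
    rw [← hk', ← mul_smul, ← mul_smul]
    congr 1; group)
  left_inv := fun q => by
    induction q using Quotient.inductionOn with | h x =>
    show Quotient.mk _ (g⁻¹ • g • x) = Quotient.mk _ x
    rw [inv_smul_smul]
  right_inv := fun q => by
    induction q using Quotient.inductionOn with | h x =>
    show Quotient.mk _ (g • g⁻¹ • x) = Quotient.mk _ x
    rw [smul_inv_smul]

theorem prm_mk (hn : K.Normal) (g : G) (x : X) : prm hn g (Quotient.mk (MulAction.orbitRel K X) x) = Quotient.mk (MulAction.orbitRel K X) (g • x) := rfl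

variable [Finite X]

theorem trf_mul {lam : K →* A} {μ : X → A} (hμ : IsEqv K lam μ) (hn : K.Normal)
    (hlam : ∀ (g : G) (k : K), ∃ k' : K, (k' : G) = g * k * g⁻¹ ∧ lam k' = lam k) (g h : G) :
    trf K μ (g * h) = trf K μ g * trf K μ h := by
  haveI : Fintype (OQ K X) := Fintype.ofFinite _
  have h1 : ∀ q : OQ K X, dlt K μ (g * h) q = dlt K μ g (prm hn h q) * dlt K μ h q := by
    intro q
    induction q using Quotient.inductionOn with | h x =>
    rw [prm_mk, dlt_mk hμ hlam, dlt_mk hμ hlam, dlt_mk hμ hlam, mul_smul, inv_mul_cancel_right_aux]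
  rw [trf_eq, trf_eq, trf_eq]
  rw [Finset.prod_congr rfl fun q _ => h1 q, Finset.prod_mul_distrib, Equiv.prod_comp (prm hn h) (fun q => dlt K μ g q)]
where
  inv_mul_cancel_right_aux {a b c : A} : a * c⁻¹ = a * b⁻¹ * (b * c⁻¹) := by
    rw [mul_assoc, inv_mul_cancel_left]

theorem trf_indep {lam : K →* A} {μ μ' : X → A} (hμ : IsEqv K lam μ) (hμ' : IsEqv K lam μ') (hn : K.Normal)
    (hlam : ∀ (g : G) (k : K), ∃ k' : K, (k' : G) = g * k * g⁻¹ ∧ lam k' = lam k) (g : G) : trf K μ g = trf K μ' g := by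
  haveI : Fintype (OQ K X) := Fintype.ofFinite _
  -- the quotient of the two functions
  let ν : OQ K X → A := fun q => μ q.out * (μ' q.out)⁻¹
  have hν : ∀ x : X, ν (Quotient.mk (MulAction.orbitRel K X) x) = μ x * (μ' x)⁻¹ := by
    intro x
    have := Quotient.exact (Quotient.out_eq (Quotient.mk (MulAction.orbitRel K X) x))
    obtain ⟨k, hk⟩ := this
    have hk' : (k : G) • x = (Quotient.mk (MulAction.orbitRel K X) x).out := hk
    show μ (Quotient.mk (MulAction.orbitRel K X) x).out * (μ' (Quotient.mk (MulAction.orbitRel K X) x).out)⁻¹ = _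
    rw [← hk', hμ, hμ', mul_inv, mul_mul_mul_comm, mul_inv_cancel, one_mul]
  have h1 : ∀ q : OQ K X, dlt K μ g q = dlt K μ' g q * (ν (prm hn g q) * (ν q)⁻¹) := by
    intro q
    induction q using Quotient.inductionOn with | h x =>
    rw [prm_mk, dlt_mk hμ hlam, dlt_mk hμ' hlam, hν, hν, mul_inv, inv_inv]
    have : μ' (g • x) * (μ' x)⁻¹ * (μ (g • x) * (μ' (g • x))⁻¹ * ((μ x)⁻¹ * μ' x)) =
      (μ' (g • x) * (μ' (g • x))⁻¹) * ((μ' x)⁻¹ * μ' x) * (μ (g • x) * (μ x)⁻¹) := by
      simp only [mul_comm, mul_assoc, mul_left_comm]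
    rw [this, mul_inv_cancel, inv_mul_cancel, one_mul, one_mul]
  rw [trf_eq, trf_eq, Finset.prod_congr rfl fun q _ => h1 q, Finset.prod_mul_distrib, Finset.prod_mul_distrib,
    Equiv.prod_comp (prm hn g) ν, Finset.prod_inv_distrib, mul_inv_cancel, mul_one]

theorem trf_K {lam : K →* A} {μ : X → A} (hμ : IsEqv K lam μ) (hlam : ∀ (g : G) (k : K), ∃ k' : K, (k' : G) = g * k * g⁻¹ ∧ lam k' = lam k)
    (k : K) : trf K μ (k : G) = lam k ^ Nat.card (OQ K X) := by
  haveI : Fintype (OQ K X) := Fintype.ofFinite _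
  have h1 : ∀ q : OQ K X, dlt K μ (k : G) q = lam k := by
    intro q
    induction q using Quotient.inductionOn with | h x =>
    rw [dlt_mk hμ hlam, hμ, mul_inv_cancel_right]
  rw [trf_eq, Finset.prod_congr rfl fun q _ => h1 q, Finset.prod_const, Finset.card_univ, Nat.card_eq_fintype_card]

/-- the transfer homomorphism -/
noncomputable def trfHom {lam : K →* A} {μ : X → A} (hμ : IsEqv K lam μ) (hn : K.Normal)
    (hlam : ∀ (g : G) (k : K), ∃ k' : K, (k' : G) = g * k * g⁻¹ ∧ lam k' = lam k) : G →* A :=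
  MonoidHom.mk' (trf K μ) (trf_mul hμ hn hlam)

/-- naturality -/
theorem trf_nat {lam : K →* A} {μ : X → A} (hμ : IsEqv K lam μ) (hn : K.Normal)
    (hlam : ∀ (g : G) (k : K), ∃ k' : K, (k' : G) = g * k * g⁻¹ ∧ lam k' = lam k) {H : Type*} [Group H] (γ₁ γ₂ : H →* G)
    (hγ : ∀ k ∈ K, ∃ h : H, γ₁ h = k ∧ γ₂ h = k) (e : X ≃ X) (he : ∀ (h : H) x, e (γ₁ h • x) = γ₂ h • e x) (h : H) :
    trf K μ (γ₂ h) = trf K μ (γ₁ h) := by
  haveI : Fintype (OQ K X) := Fintype.ofFinite _
  have heK : ∀ (k : K) x, e ((k : G) • x) = (k : G) • e x := by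
    intro k x
    obtain ⟨h', h1, h2⟩ := hγ k k.2
    have := he h' x
    rwa [h1, h2] at this
  have hμ' : IsEqv K lam (fun x => μ (e x)) := fun k x => by
    show μ (e ((k : G) • x)) = lam k * μ (e x)
    rw [heK, hμ]
  rw [trf_indep hμ hμ' hn hlam (γ₁ h)]
  -- the bijection of the orbits
  let ε : OQ K X ≃ OQ K X := {
    toFun := Quotient.map (fun x => e x) (by
      rintro a b ⟨k, hk⟩
      refine ⟨k, ?_⟩
      have hk' : (k : G) • b = a := hk
      show (k : G) • e b = e a
      rw [← hk', heK])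
    invFun := Quotient.map (fun x => e.symm x) (by
      rintro a b ⟨k, hk⟩
      refine ⟨k, ?_⟩
      have hk' : (k : G) • b = a := hk
      show (k : G) • e.symm b = e.symm a
      apply e.injective
      rw [heK, e.apply_symm_apply, e.apply_symm_apply, hk'])
    left_inv := fun q => by
      induction q using Quotient.inductionOn with | h x =>
      show Quotient.mk _ (e.symm (e x)) = Quotient.mk _ x
      rw [e.symm_apply_apply]
    right_inv := fun q => by
      induction q using Quotient.inductionOn with | h x =>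
      show Quotient.mk _ (e (e.symm x)) = Quotient.mk _ x
      rw [e.apply_symm_apply] }
  have hε : ∀ x : X, ε (Quotient.mk (MulAction.orbitRel K X) x) = Quotient.mk (MulAction.orbitRel K X) (e x) := fun x => rfl
  rw [trf_eq, trf_eq, ← Equiv.prod_comp ε]
  refine Finset.prod_congr rfl fun q _ => ?_
  induction q using Quotient.inductionOn with | h x =>
  rw [hε, dlt_mk hμ hlam, dlt_mk hμ' hlam, he]

end transfer

/-- number of orbits of a freely acting subgroup -/
theorem card_OQ {G X : Type*} [Group G] [MulAction G X] [Finite X] (K : Subgroup G) (hfree : ∀ x : X, ∀ k ∈ K, k • x = x → k = 1) :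
    Nat.card X = Nat.card (OQ K X) * Nat.card K := by
  rw [← Nat.card_prod]
  have h1 : ∀ x : X, ∃ k : K, (k : G) • (Quotient.mk (MulAction.orbitRel K X) x).out = x := fun x => by
    have := Quotient.exact (Quotient.out_eq (Quotient.mk (MulAction.orbitRel K X) x))
    obtain ⟨k, hk⟩ := (MulAction.orbitRel K X).symm this
    exact ⟨k, hk⟩
  choose w hw using h1
  have hq : ∀ (q : OQ K X) (k : K), Quotient.mk (MulAction.orbitRel K X) ((k : G) • q.out) = q := fun q k => by
    have : Quotient.mk (MulAction.orbitRel K X) ((k : G) • q.out) = Quotient.mk (MulAction.orbitRel K X) q.out := Quotient.sound ⟨k, rfl⟩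
    rw [this, Quotient.out_eq]
  refine Nat.card_congr ⟨fun x => (Quotient.mk _ x, w x), fun z => (z.2 : G) • z.1.out, fun x => hw x, fun z => ?_⟩
  refine Prod.ext (hq z.1 z.2) ?_
  have h2 := hw ((z.2 : G) • z.1.out)
  rw [hq] at h2
  have h4 : ((w ((z.2 : G) • z.1.out))⁻¹ * z.2 : K) = 1 := by
    apply Subtype.ext
    refine hfree z.1.out _ (Subtype.mem _) ?_
    show ((w ((z.2 : G) • z.1.out) : G)⁻¹ * (z.2 : G)) • z.1.out = z.1.out
    rw [mul_smul, inv_smul_eq_iff]
    exact h2.symm
  exact (inv_mul_eq_one.1 h4)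

end CfsgLib.FT
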