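import Cfsg.Agent.LibFT16
import Cfsg.Agent.LibFT17

set_option autoImplicit false

/-! Graded transfer for saturated fusion systems (helper1) -/

namespace CfsgLib.FT

open Cfsg Cfsg.FusionSystem CfsgLib.Fus21
open scoped commutatorElement

universe u

variable {Ω : Type u} [Group Ω] {S : Subgroup Ω} {F : FusionSystem S} {p : ℕ} {U : Subgroup Ω}

/-- the subgroup `1 × U` -/
def K1 (hU : NormIn S U) : Subgroup (GU hU) := ((MonoidHom.fst Ω Ω).comp (GU hU).subtype).ker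

theorem mem_K1 {hU : NormIn S U} {g : GU hU} : g ∈ K1 hU ↔ g.1.1 = 1 := Iff.rfl

theorem K1_mem {hU : NormIn S U} {g : GU hU} (hg : g ∈ K1 hU) : g.1.2 ∈ U := by
  have := g.2.2.2
  rwa [mem_K1.1 hg, inv_one, one_mul] at this

theorem K1_normal (hU : NormIn S U) : (K1 hU).Normal := MonoidHom.normal_ker _

/-- the elements of `GU` with first component in `P` -/
def GP (hU : NormIn S U) (P : Subgroup Ω) : Subgroup (GU hU) := P.comap ((MonoidHom.fst Ω Ω).comp (GU hU).subtype)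

theorem mem_GP {hU : NormIn S U} {P : Subgroup Ω} {g : GU hU} : g ∈ GP hU P ↔ g.1.1 ∈ P := Iff.rfl

/-- the homomorphism `(x, t) ↦ (φ x, t)` -/
def gam (hU : NormIn S U) (hH : HypLe F p U) {P : Subgroup Ω} {φ : P →* Ω} (h : MV F p U P φ 1) : GP hU P →* GU hU where
  toFun := fun g => ⟨(φ ⟨g.1.1.1, g.2⟩, g.1.1.2), ⟨h.mem_S _, g.1.2.2.1, by
    have h1 := h.cong hU hH ⟨g.1.1.1, g.2⟩
    rw [one_mul, inv_one, mul_one] at h1
    have h2 := g.1.2.2.2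
    have e : (φ ⟨g.1.1.1, g.2⟩)⁻¹ * g.1.1.2 = (g.1.1.1⁻¹ * φ ⟨g.1.1.1, g.2⟩)⁻¹ * (g.1.1.1⁻¹ * g.1.1.2) := by group
    show (φ ⟨g.1.1.1, g.2⟩)⁻¹ * g.1.1.2 ∈ U
    rw [e]
    exact U.mul_mem (U.inv_mem h1) h2⟩⟩
  map_one' := by
    apply Subtype.ext
    refine Prod.ext ?_ rfl
    show φ 1 = 1
    exact map_one φ
  map_mul' := fun a b => by
    apply Subtype.ext
    refine Prod.ext ?_ rfl
    show φ (⟨a.1.1.1, a.2⟩ * ⟨b.1.1.1, b.2⟩) = _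
    exact map_mul φ _ _

theorem gam_stable {hU : NormIn S U} (hH : HypLe F p U) {P : Subgroup Ω} {φ : P →* Ω} (h : MV F p U P φ 1) (K : Subgroup (GP hU P)) :
    (InD F p hU (K.map (GP hU P).subtype) → rD F p hU (K.map (GP hU P).subtype) (K.map (gam hU hH h))) ∧
      (InD F p hU (K.map (gam hU hH h)) → InD F p hU (K.map (GP hU P).subtype)) := by
  constructor
  · intro hK
    refine ⟨hK, ?_⟩
    obtain ⟨R, κ, hκ, hKR⟩ := id hK
    have hRP : R ≤ P := by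
      intro x hx
      have h5 := (hKR ⟨(x, κ ⟨x, hx⟩), hκ.mem_GU hU hH ⟨x, hx⟩⟩).2 ⟨hx, rfl⟩
      obtain ⟨g, hg, hg'⟩ := h5
      have h7 : g.1.1.1 = x := congrArg (fun z : GU hU => z.1.1) hg'
      rw [← h7]; exact g.2
    have hφR : MV F p U R (φ.comp (Subgroup.inclusion hRP)) 1 := h.restrict hRP fun x => rfl
    obtain ⟨ρ, hρ, hρ'⟩ := hφR.exists_inv hU
    have hρR : ∀ y, ρ y ∈ R := by
      rintro ⟨_, x, rfl⟩; exact Set.mem_of_eq_of_mem (hρ' x ⟨x, rfl⟩) x.2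
    obtain ⟨κ₁, hκ₁, hκ₁'⟩ := hρ.exists_comp hκ hρR
    rw [inv_one, mul_one] at hκ₁
    have hval : ∀ (x : R) hx, κ₁ ⟨φ ⟨x, hRP x.2⟩, hx⟩ = κ x := fun x hx => by
      rw [hκ₁']
      congr 1
      exact Subtype.ext (hρ' x hx)
    have key : ∀ k : GU hU, k ∈ K.map (gam hU hH h) ↔ ∃ h : k.1.1 ∈ (φ.comp (Subgroup.inclusion hRP)).range, κ₁ ⟨k.1.1, h⟩ = k.1.2 := by
      intro k
      constructor
      · rintro ⟨g, hg, rfl⟩
        have h5 : g.1 ∈ K.map (GP hU P).subtype := ⟨g, hg, rfl⟩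
        obtain ⟨h6, h7⟩ := (hKR g.1).1 h5
        exact ⟨⟨⟨g.1.1.1, h6⟩, rfl⟩, (hval ⟨g.1.1.1, h6⟩ ⟨⟨g.1.1.1, h6⟩, rfl⟩).trans h7⟩
      · rintro ⟨⟨x, hx⟩, h6⟩
        have h5 := (hKR ⟨((x : Ω), κ x), hκ.mem_GU hU hH x⟩).2 ⟨x.2, rfl⟩
        obtain ⟨g, hg, hg'⟩ := h5
        have h7 : g.1.1.1 = x := congrArg (fun z : GU hU => z.1.1) hg'
        have h8 : g.1.1.2 = κ x := congrArg (fun z : GU hU => z.1.2) hg'
        refine ⟨g, hg, ?_⟩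
        apply Subtype.ext
        refine Prod.ext ?_ ?_
        · show φ ⟨g.1.1.1, g.2⟩ = k.1.1
          rw [← hx]
          show φ _ = φ _
          congr 1
          exact Subtype.ext h7
        · show g.1.1.2 = k.1.2
          rw [← h6, h8]
          have h9 := hval x ⟨x, rfl⟩
          rw [← h9]; congr 1; exact Subtype.ext hx
    refine ⟨⟨_, κ₁, hκ₁, key⟩, ?_⟩
    rw [pr1_eq hH hκ hKR, pr1_eq hH hκ₁ key]
    exact ⟨_, hφR.hom, rfl⟩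
  · rintro ⟨R', κ', hκ', hKR'⟩
    set R := pr1 hU (K.map (GP hU P).subtype) with hR
    have hRm : ∀ x ∈ R, ∃ g ∈ K, g.1.1.1 = x := by
      rintro _ ⟨_, ⟨g, hg, rfl⟩, rfl⟩
      exact ⟨g, hg, rfl⟩
    have hRP : R ≤ P := by
      intro x hx
      obtain ⟨g, hg, rfl⟩ := hRm x hx
      exact g.2
    have hφR : MV F p U R (φ.comp (Subgroup.inclusion hRP)) 1 := h.restrict hRP fun x => rfl
    have hφR' : ∀ x, (φ.comp (Subgroup.inclusion hRP)) x ∈ R' := by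
      rintro ⟨x, hx⟩
      obtain ⟨g, hg, rfl⟩ := hRm x hx
      exact ((hKR' (gam hU hH h g)).1 ⟨g, hg, rfl⟩).1
    obtain ⟨κ₁, hκ₁, hκ₁'⟩ := hφR.exists_comp hκ' hφR'
    rw [mul_one] at hκ₁
    have hval1 : ∀ g ∈ K, ∀ hx : g.1.1.1 ∈ R, κ₁ ⟨g.1.1.1, hx⟩ = g.1.1.2 := by
      intro g hg hx
      rw [hκ₁']
      obtain ⟨h5, h6⟩ := (hKR' (gam hU hH h g)).1 ⟨g, hg, rfl⟩
      exact h6
    refine ⟨R, κ₁, hκ₁, fun k => ⟨?_, ?_⟩⟩
    · rintro ⟨g, hg, rfl⟩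
      have hx : g.1.1.1 ∈ R := ⟨_, ⟨g, hg, rfl⟩, rfl⟩
      exact ⟨hx, hval1 g hg hx⟩
    · rintro ⟨hx, h5⟩
      obtain ⟨g, hg, h6⟩ := hRm _ hx
      refine ⟨g, hg, ?_⟩
      apply Subtype.ext
      refine Prod.ext h6 ?_
      have h7 := hval1 g hg (by rw [h6]; exact hx)
      refine h7.symm.trans (Eq.trans ?_ h5)
      congr 1
      exact Subtype.ext h6

theorem exists_transfer [Finite S] [hp : Fact p.Prime] (hS : IsPGroup p S) (hF : F.IsSaturated p) (hU : NormIn S U) (hH : HypLe F p U)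
    {A : Type*} [CommGroup A] (lam : U →* A) (hlam : ∀ s (hs : s ∈ S) u (hu : u ∈ U), lam ⟨s * u * s⁻¹, hU.2 s hs u hu⟩ = lam ⟨u, hu⟩) :
    ∃ (T : GU hU →* A) (m : ℕ), ¬ p ∣ m ∧ (∀ g : GU hU, ∀ hg : g ∈ K1 hU, T g = lam ⟨g.1.2, K1_mem hg⟩ ^ m) ∧
      ∀ (P : Subgroup Ω) (φ : P →* Ω) (h : MV F p U P φ 1) (g : GU hU) (hg : g.1.1 ∈ P), T (gam hU hH h ⟨g, hg⟩) = T g := by
  haveI := GU_finite hU
  haveI : Finite U := finite_of_le hU.1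
  obtain ⟨X, hX, hfin, hok, ⟨m₀, hm₀, hc⟩, hm⟩ := exists_biset (U := U) hS hF hU hH
  have hn := K1_normal hU
  have hfree : ∀ x : X, ∀ k ∈ K1 hU, k • x = x → k = 1 := by
    intro x k hk hkx
    obtain ⟨P, φ, h, hx⟩ := hok x
    obtain ⟨h1, h2⟩ := (hx k).1 hkx
    have h3 : k.1.1 = 1 := mem_K1.1 hk
    have h4 : (⟨k.1.1, h1⟩ : P) = 1 := Subtype.ext h3
    rw [h4, map_one] at h2
    apply Subtype.ext
    exact Prod.ext h3 h2.symm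
  let lam' : K1 hU →* A := lam.comp
    { toFun := fun k => ⟨k.1.1.2, K1_mem k.2⟩
      map_one' := rfl
      map_mul' := fun _ _ => rfl }
  have hlam' : ∀ (g : GU hU) (k : K1 hU), ∃ k' : K1 hU, (k' : GU hU) = g * k * g⁻¹ ∧ lam' k' = lam' k := fun g k =>
    ⟨⟨g * k * g⁻¹, hn.conj_mem k k.2 g⟩, rfl, hlam g.1.2 g.2.2.1 k.1.1.2 (K1_mem k.2)⟩
  obtain ⟨μ, hμ⟩ := exists_eqv hfree lam'
  have hcard := card_OQ (X := X) (K1 hU) hfree
  have hK1 : Nat.card (K1 hU) = Nat.card U := by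
    refine Nat.card_congr ⟨fun k => ⟨k.1.1.2, K1_mem k.2⟩, fun u => ⟨⟨(1, u), ⟨S.one_mem, hU.1 u.2, by
      show (1 : Ω)⁻¹ * (u : Ω) ∈ U
      rw [inv_one, one_mul]; exact u.2⟩⟩, rfl⟩, ?_, ?_⟩
    · rintro ⟨⟨⟨a, b⟩, h⟩, h'⟩
      have : a = 1 := h'
      subst this
      rfl
    · rintro ⟨u, hu⟩; rfl
  refine ⟨trfHom hμ hn hlam', Nat.card (OQ (K1 hU) X), ?_, ?_, ?_⟩
  · intro hd
    rw [hcard, hK1] at hc
    have h1 : Nat.card (OQ (K1 hU) X) ≡ m₀ [MOD p] := Nat.ModEq.mul_right_cancel' Nat.card_pos.ne' hc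
    exact hm₀ ((Nat.modEq_zero_iff_dvd).1 (h1.symm.trans ((Nat.modEq_zero_iff_dvd).2 hd)))
  · intro g hg
    exact trf_K hμ hlam' ⟨g, hg⟩
  · intro P φ h g hg
    obtain ⟨e, he⟩ := iso_biset hU hok hm (GP hU P).subtype (gam hU hH h) (gam_stable hH h)
    refine trf_nat hμ hn hlam' (GP hU P).subtype (gam hU hH h) ?_ e he ⟨g, hg⟩
    intro k hk
    have hk1 : k.1.1 = 1 := mem_K1.1 hk
    refine ⟨⟨k, by rw [mem_GP, hk1]; exact P.one_mem⟩, rfl, ?_⟩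
    apply Subtype.ext
    refine Prod.ext ?_ rfl
    show φ ⟨k.1.1, _⟩ = k.1.1
    have : (⟨k.1.1, by rw [hk1]; exact P.one_mem⟩ : P) = 1 := Subtype.ext hk1
    rw [this, map_one, hk1]

end CfsgLib.FT
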