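import Cfsg.Agent.LibFT18
import Cfsg.Agent.LibFus21Norm2

set_option autoImplicit false

/-! Graded transfer: central elements, consequences (helper1) -/

namespace CfsgLib.FT

open Cfsg Cfsg.FusionSystem CfsgLib.Fus21
open scoped commutatorElement

universe u

section

variable {G X A : Type*} [Group G] [MulAction G X] [CommGroup A]

/-- equivariant functions for a group whose stabilizers are in the kernel -/
theorem exists_eqv' (H : Subgroup G) (lam : H →* A) (hst : ∀ x : X, ∀ k : H, (k : G) • x = x → lam k = 1) : ∃ μ : X → A, IsEqv H lam μ := by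
  classical
  have h1 : ∀ x : X, ∃ k : H, (k : G) • (Quotient.mk (MulAction.orbitRel H X) x).out = x := fun x => by
    have := Quotient.exact (Quotient.out_eq (Quotient.mk (MulAction.orbitRel H X) x))
    obtain ⟨k, hk⟩ := (MulAction.orbitRel H X).symm this
    exact ⟨k, hk⟩
  choose w hw using h1
  refine ⟨fun x => lam (w x), fun k x => ?_⟩
  have e : Quotient.mk (MulAction.orbitRel H X) ((k : G) • x) = Quotient.mk (MulAction.orbitRel H X) x := Quotient.sound ⟨k, rfl⟩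
  have h2 := hw ((k : G) • x)
  rw [e] at h2
  have h3 := hw x
  set y := (Quotient.mk (MulAction.orbitRel H X) x).out with hy
  have h4 : lam ((w ((k : G) • x))⁻¹ * (k * w x) : H) = 1 := by
    refine hst y _ ?_
    show ((w ((k : G) • x) : G)⁻¹ * ((k : G) * (w x : G))) • y = y
    rw [mul_smul, mul_smul, h3, inv_smul_eq_iff]
    exact h2.symm
  rw [map_mul, map_inv, inv_mul_eq_one] at h4
  show lam (w ((k : G) • x)) = lam k * lam (w x)
  rw [h4, map_mul]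

end

variable {Ω : Type u} [Group Ω] {S : Subgroup Ω} {F : FusionSystem S} {p : ℕ} {U : Subgroup Ω}

theorem center_fix [Finite S] {z : Ω} (hz : z ∈ F.center) {P : Subgroup Ω} {φ : P →* Ω} (hφ : φ ∈ F.Hom P) (h : z ∈ P) : φ ⟨z, h⟩ = z :=
  central_fixed (isCentral_center F) hφ h hz

theorem center_comm [Finite S] {z s : Ω} (hz : z ∈ F.center) (hs : s ∈ S) : s * z = z * s := by
  have hzS : z ∈ S := (isCentral_center F).1 hz
  have := center_fix hz (F.conj_mem le_rfl hs) hzS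
  rw [conjHom_apply] at this
  exact mul_inv_eq_iff_eq_mul.1 this

theorem exists_transfer' [Finite S] [hp : Fact p.Prime] (hS : IsPGroup p S) (hF : F.IsSaturated p) (hU : NormIn S U) (hH : HypLe F p U)
    {A : Type*} [CommGroup A] (lam : U →* A) (hlam : ∀ s (hs : s ∈ S) u (hu : u ∈ U), lam ⟨s * u * s⁻¹, hU.2 s hs u hu⟩ = lam ⟨u, hu⟩) :
    ∃ (T : GU hU →* A) (m : ℕ), ¬ p ∣ m ∧ (∀ g : GU hU, ∀ hg : g ∈ K1 hU, T g = lam ⟨g.1.2, K1_mem hg⟩ ^ m) ∧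
      (∀ (P : Subgroup Ω) (φ : P →* Ω) (h : MV F p U P φ 1) (g : GU hU) (hg : g.1.1 ∈ P), T (gam hU hH h ⟨g, hg⟩) = T g) ∧
      ∀ g : GU hU, g.1.1 ∈ F.center → T g = lam ⟨g.1.1⁻¹ * g.1.2, g.2.2.2⟩ ^ m := by
  haveI := GU_finite hU
  haveI : Finite U := finite_of_le hU.1
  obtain ⟨X, hX, hfin, hok, ⟨m₀, hm₀, hc⟩, hm⟩ := exists_biset (U := U) hS hF hU hH
  have hn := K1_normal hU
  have hfree : ∀ x : X, ∀ k ∈ K1 hU, k • x = x → k = 1 := by
    intro x k hk hkx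
    obtain ⟨P, φ, h, hx⟩ := hok x
    obtain ⟨h1, h2⟩ := (hx k).1 hkx
    have h3 : k.1.1 = 1 := mem_K1.1 hk
    have h4 : (⟨k.1.1, h1⟩ : P) = 1 := Subtype.ext h3
    rw [h4, map_one] at h2
    apply Subtype.ext
    exact Prod.ext h3 h2.symm
  let lam' : K1 hU →* A := lam.comp
    { toFun := fun k => ⟨k.1.1.2, K1_mem k.2⟩
      map_one' := rfl
      map_mul' := fun _ _ => rfl }
  have hlam' : ∀ (g : GU hU) (k : K1 hU), ∃ k' : K1 hU, (k' : GU hU) = g * k * g⁻¹ ∧ lam' k' = lam' k := fun g k =>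
    ⟨⟨g * k * g⁻¹, hn.conj_mem k k.2 g⟩, rfl, hlam g.1.2 g.2.2.1 k.1.1.2 (K1_mem k.2)⟩
  obtain ⟨μ, hμ⟩ := exists_eqv hfree lam'
  have hcard := card_OQ (X := X) (K1 hU) hfree
  have hK1 : Nat.card (K1 hU) = Nat.card U := by
    refine Nat.card_congr ⟨fun k => ⟨k.1.1.2, K1_mem k.2⟩, fun u => ⟨⟨(1, u), ⟨S.one_mem, hU.1 u.2, by
      show (1 : Ω)⁻¹ * (u : Ω) ∈ U
      rw [inv_one, one_mul]; exact u.2⟩⟩, rfl⟩, ?_, ?_⟩
    · rintro ⟨⟨⟨a, b⟩, h⟩, h'⟩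
      have : a = 1 := h'
      subst this
      rfl
    · rintro ⟨u, hu⟩; rfl
  refine ⟨trfHom hμ hn hlam', Nat.card (OQ (K1 hU) X), ?_, ?_, ?_, ?_⟩
  · intro hd
    rw [hcard, hK1] at hc
    have h1 : Nat.card (OQ (K1 hU) X) ≡ m₀ [MOD p] := Nat.ModEq.mul_right_cancel' Nat.card_pos.ne' hc
    exact hm₀ ((Nat.modEq_zero_iff_dvd).1 (h1.symm.trans ((Nat.modEq_zero_iff_dvd).2 hd)))
  · intro g hg
    exact trf_K hμ hlam' ⟨g, hg⟩
  · intro P φ h g hg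
    obtain ⟨e, he⟩ := iso_biset hU hok hm (GP hU P).subtype (gam hU hH h) (gam_stable hH h)
    refine trf_nat hμ hn hlam' (GP hU P).subtype (gam hU hH h) ?_ e he ⟨g, hg⟩
    intro k hk
    have hk1 : k.1.1 = 1 := mem_K1.1 hk
    refine ⟨⟨k, by rw [mem_GP, hk1]; exact P.one_mem⟩, rfl, ?_⟩
    apply Subtype.ext
    refine Prod.ext ?_ rfl
    show φ ⟨k.1.1, _⟩ = k.1.1
    have : (⟨k.1.1, by rw [hk1]; exact P.one_mem⟩ : P) = 1 := Subtype.ext hk1
    rw [this, map_one, hk1]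
  · intro g hg
    -- the subgroup of the elements with central first component
    let H := GP hU F.center
    have hHmul : ∀ a b : H, (a.1.1.1 * b.1.1.1)⁻¹ * (a.1.1.2 * b.1.1.2) = (a.1.1.1⁻¹ * a.1.1.2) * (b.1.1.1⁻¹ * b.1.1.2) := by
      intro a b
      have h1 : (a.1.1.1⁻¹ * a.1.1.2) * b.1.1.1 = b.1.1.1 * (a.1.1.1⁻¹ * a.1.1.2) :=
        center_comm b.2 (S.mul_mem (S.inv_mem a.1.2.1) a.1.2.2.1)
      have h2 : b.1.1.1⁻¹ * (a.1.1.1⁻¹ * a.1.1.2) = (a.1.1.1⁻¹ * a.1.1.2) * b.1.1.1⁻¹ := by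
        rw [inv_mul_eq_iff_eq_mul, ← mul_assoc, ← h1]; group
      calc (a.1.1.1 * b.1.1.1)⁻¹ * (a.1.1.2 * b.1.1.2) = (b.1.1.1⁻¹ * (a.1.1.1⁻¹ * a.1.1.2)) * b.1.1.2 := by group
        _ = _ := by rw [h2]; group
    let lamp : H →* A := lam.comp
      { toFun := fun a => ⟨a.1.1.1⁻¹ * a.1.1.2, a.1.2.2.2⟩
        map_one' := Subtype.ext (by show (1 : Ω)⁻¹ * 1 = 1; group)
        map_mul' := fun a b => Subtype.ext (hHmul a b) }
    obtain ⟨ν, hν⟩ := exists_eqv' (X := X) H lamp (by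
      intro x k hkx
      obtain ⟨P, φ, h, hx⟩ := hok x
      obtain ⟨h1, h2⟩ := (hx k.1).1 hkx
      have h3 : φ ⟨k.1.1.1, h1⟩ = k.1.1.1 := center_fix k.2 h.hom h1
      have h4 : k.1.1.1⁻¹ * k.1.1.2 = 1 := by rw [← h2, h3, inv_mul_cancel]
      show lam ⟨k.1.1.1⁻¹ * k.1.1.2, _⟩ = 1
      have : (⟨k.1.1.1⁻¹ * k.1.1.2, k.1.2.2.2⟩ : U) = 1 := Subtype.ext h4
      rw [this, map_one])
    have hK1H : K1 hU ≤ H := fun k hk => by
      show k.1.1 ∈ F.center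
      rw [mem_K1.1 hk]; exact Subgroup.one_mem _
    have hν' : IsEqv (K1 hU) lam' ν := fun k x => by
      have := hν ⟨k, hK1H k.2⟩ x
      rw [this]
      congr 1
      show lam ⟨k.1.1.1⁻¹ * k.1.1.2, _⟩ = lam ⟨k.1.1.2, _⟩
      congr 1
      apply Subtype.ext
      show k.1.1.1⁻¹ * k.1.1.2 = k.1.1.2
      rw [mem_K1.1 k.2, inv_one, one_mul]
    show trf (K1 hU) μ g = _
    haveI : Fintype (OQ (K1 hU) X) := Fintype.ofFinite _
    rw [trf_indep hμ hν' hn hlam', trf_eq]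
    have h1 : ∀ q : OQ (K1 hU) X, dlt (K1 hU) ν g q = lam ⟨g.1.1⁻¹ * g.1.2, g.2.2.2⟩ := by
      intro q
      induction q using Quotient.inductionOn with | h x =>
      rw [dlt_mk hν' hlam']
      have := hν ⟨g, hg⟩ x
      rw [show g • x = ((⟨g, hg⟩ : H) : GU hU) • x from rfl, this, mul_inv_cancel_right]
      rfl
    rw [Finset.prod_congr rfl fun q _ => h1 q, Finset.prod_const, Finset.card_univ, Nat.card_eq_fintype_card]

/-- extension of characters of the hyperfocal subgroup -/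
theorem extend_char [Finite S] [hp : Fact p.Prime] (hS : IsPGroup p S) (hF : F.IsSaturated p)
    {A : Type*} [CommGroup A] (lam : F.hyperfocalSubgroup p →* A)
    (hlam : ∀ s (hs : s ∈ S) u (hu : u ∈ F.hyperfocalSubgroup p), lam ⟨s * u * s⁻¹, (hyp_normIn F p).2 s hs u hu⟩ = lam ⟨u, hu⟩) :
    ∃ (c : S →* A) (m : ℕ), ¬ p ∣ m ∧ ∀ u (hu : u ∈ F.hyperfocalSubgroup p), c ⟨u, (hyp_normIn F p).1 hu⟩ = lam ⟨u, hu⟩ ^ m := by
  have hU := hyp_normIn F p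
  have hH : HypLe F p (F.hyperfocalSubgroup p) := hypLe_self
  obtain ⟨T, m, hm, hT1, hT2, -⟩ := exists_transfer' hS hF hU hH lam hlam
  let dg : S →* GU hU :=
    { toFun := fun s => ⟨(s, s), s.2, s.2, by show (s : Ω)⁻¹ * s ∈ _; rw [inv_mul_cancel]; exact Subgroup.one_mem _⟩
      map_one' := rfl
      map_mul' := fun _ _ => rfl }
  refine ⟨T.comp dg, m, hm, ?_⟩
  -- `T (u, 1) = 1`
  have hleft : ∀ u (hu : u ∈ F.hyperfocalSubgroup p), ∀ h : ((u, 1) : Ω × Ω) ∈ GU hU, T ⟨(u, 1), h⟩ = 1 := by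
    intro u hu
    have hmem : ∀ v ∈ F.hyperfocalSubgroup p, ((v, 1) : Ω × Ω) ∈ GU hU := fun v hv => ⟨hU.1 hv, S.one_mem, by
      show v⁻¹ * 1 ∈ _; rw [mul_one]; exact Subgroup.inv_mem _ hv⟩
    refine Subgroup.closure_induction (p := fun u _ => ∀ h : ((u, 1) : Ω × Ω) ∈ GU hU, T ⟨(u, 1), h⟩ = 1) ?_ ?_ ?_ ?_ hu
    · rintro _ ⟨P, α, x, hP, hα, rfl⟩ h
      have h1 := MV.of_pResidual (U := F.hyperfocalSubgroup p) hU hP hα (φ := P.subtype.comp ((α : MulAut P) : P ≃* P).toMonoidHom) (fun x => rfl)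
      have h2 := hT2 P _ h1 (dg ⟨x, hP x.2⟩) x.2
      have h3 : (⟨((x : Ω)⁻¹ * (((α : MulAut P) x : P) : Ω), 1), h⟩ : GU hU) = (dg ⟨x, hP x.2⟩)⁻¹ * gam hU hH h1 ⟨dg ⟨x, hP x.2⟩, x.2⟩ := by
        apply Subtype.ext
        refine Prod.ext rfl ?_
        show (1 : Ω) = (x : Ω)⁻¹ * x
        rw [inv_mul_cancel]
      rw [h3, map_mul, map_inv, h2, inv_mul_cancel]
    · intro h
      have : (⟨(1, 1), h⟩ : GU hU) = 1 := rfl
      rw [this, map_one]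
    · intro a b ha hb iha ihb h
      have ha' : a ∈ F.hyperfocalSubgroup p := ha
      have hb' : b ∈ F.hyperfocalSubgroup p := hb
      have : (⟨(a * b, 1), h⟩ : GU hU) = ⟨(a, 1), hmem a ha'⟩ * ⟨(b, 1), hmem b hb'⟩ := by
        apply Subtype.ext
        exact Prod.ext rfl (by show (1 : Ω) = 1 * 1; rw [mul_one])
      rw [this, map_mul, iha, ihb, one_mul]
    · intro a ha iha h
      have ha' : a ∈ F.hyperfocalSubgroup p := ha
      have : (⟨(a⁻¹, 1), h⟩ : GU hU) = ⟨(a, 1), hmem a ha'⟩⁻¹ := by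
        apply Subtype.ext
        exact Prod.ext rfl (by show (1 : Ω) = 1⁻¹; rw [inv_one])
      rw [this, map_inv, iha, inv_one]
  intro u hu
  have h1 : ((u, 1) : Ω × Ω) ∈ GU hU := ⟨hU.1 hu, S.one_mem, by show u⁻¹ * 1 ∈ _; rw [mul_one]; exact Subgroup.inv_mem _ hu⟩
  have h2 : ((1, u) : Ω × Ω) ∈ GU hU := ⟨S.one_mem, hU.1 hu, by show (1 : Ω)⁻¹ * u ∈ _; rw [inv_one, one_mul]; exact hu⟩
  have h3 : dg ⟨u, hU.1 hu⟩ = ⟨(u, 1), h1⟩ * ⟨(1, u), h2⟩ := by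
    apply Subtype.ext
    refine Prod.ext ?_ ?_
    · show u = u * 1; rw [mul_one]
    · show u = 1 * u; rw [one_mul]
  show T (dg ⟨u, hU.1 hu⟩) = _
  rw [h3, map_mul, hleft u hu, one_mul, hT1 ⟨(1, u), h2⟩ rfl]

end CfsgLib.FT
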