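import Cfsg.Agent.LibFusionH12b

/-! Control of strong fusion and transfer by sets of conjugacy functors: reformulations and the
local-to-global theorems. -/

set_option autoImplicit false
set_option linter.unusedSectionVars false

namespace CfsgLib.FusionH12c

open Cfsg Subgroup CfsgLib.FusionH12 CfsgLib.FusionH12b

section defs

variable {G : Type*} [Group G]

/-- allowed steps: elements of members of `𝓝`, or elements centralizing the subgroup moved. -/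
def FStep (S : Subgroup G) (𝓝 : Set (Subgroup G)) (D : Subgroup G) (x : G) : Prop :=
  D ≤ S ∧ cj x D ≤ S ∧ ((∃ N ∈ 𝓝, x ∈ N) ∨ x ∈ centralizer (D : Set G))

theorem FStep.anti {S : Subgroup G} {𝓝 : Set (Subgroup G)} (D E : Subgroup G) (x : G)
    (h : E ≤ D) (hx : FStep S 𝓝 D x) : FStep S 𝓝 E x :=
  ⟨h.trans hx.1, (cj_mono h).trans hx.2.1,
    hx.2.2.imp id fun h' => Subgroup.centralizer_le h h'⟩

theorem FStep.inv {S : Subgroup G} {𝓝 : Set (Subgroup G)} (D : Subgroup G) (x : G)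
    (hx : FStep S 𝓝 D x) : FStep S 𝓝 (cj x D) x⁻¹ := by
  refine ⟨hx.2.1, by rw [cj_inv_cj]; exact hx.1, ?_⟩
  rcases hx.2.2 with ⟨N, hN, hx'⟩ | h
  · exact Or.inl ⟨N, hN, inv_mem hx'⟩
  · right
    rw [cj_of_mem_centralizer h]
    exact inv_mem h

theorem FStep.mono {S S' : Subgroup G} {𝓝 𝓝' : Set (Subgroup G)} (hS : S ≤ S')
    (h𝓝 : ∀ N ∈ 𝓝, ∃ N' ∈ 𝓝', N ≤ N') (D : Subgroup G) (x : G)
    (hx : FStep S 𝓝 D x) : FStep S' 𝓝' D x := by
  refine ⟨hx.1.trans hS, hx.2.1.trans hS, hx.2.2.imp ?_ id⟩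
  rintro ⟨N, hN, hx⟩
  obtain ⟨N', hN', h⟩ := h𝓝 N hN
  exact ⟨N', hN', h hx⟩

/-- Fusion of subgroups of `S` by elements of `H` is generated by members of `𝓝`. -/
def FusIn (S H : Subgroup G) (𝓝 : Set (Subgroup G)) : Prop :=
  ∀ (D : Subgroup G) (g : G), D ≤ S → g ∈ H → cj g D ≤ S → Reach (FStep S 𝓝) D g

theorem reach_centralizing {S : Subgroup G} {𝓝 : Set (Subgroup G)} {D : Subgroup G} {g h : G}
    (hD : D ≤ S) (hg : Reach (FStep S 𝓝) D g) (h1 : g⁻¹ * h ∈ centralizer (D : Set G)) :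
    Reach (FStep S 𝓝) D h := by
  have h2 : FStep S 𝓝 D (g⁻¹ * h) :=
    ⟨hD, by rw [cj_of_mem_centralizer h1]; exact hD, Or.inr h1⟩
  have := (Reach.single h2).trans (y := g) (by rwa [cj_of_mem_centralizer h1])
  rwa [mul_inv_cancel_left] at this

theorem Reach.fstep_le {S : Subgroup G} {𝓝 : Set (Subgroup G)} {D : Subgroup G} {g : G}
    (hD : D ≤ S) (hg : Reach (FStep S 𝓝) D g) : cj g D ≤ S := by
  induction hg with
  | refl D => rwa [cj_one]
  | cons hx _ ih => rw [cj_mul]; exact ih hx.2.1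

theorem chain_of_reach {S : Subgroup G} {𝓝 : Set (Subgroup G)} {D : Subgroup G} {g : G}
    (hD : D ≤ S) (hg : Reach (FStep S 𝓝) D g) :
    ∃ (n : ℕ) (c : Fin (n + 1) → G), c 0 = 1 ∧
        (∀ i : Fin n, ∃ N ∈ 𝓝, c i.succ * (c i.castSucc)⁻¹ ∈ N) ∧
        (∀ i : Fin (n + 1), cj (c i) D ≤ S) ∧
        ∀ a ∈ D, c (Fin.last n) * a * (c (Fin.last n))⁻¹ = g * a * g⁻¹ := by
  induction hg with
  | refl D =>
    exact ⟨0, fun _ => 1, rfl, fun i => i.elim0, fun i => by rwa [cj_one], fun a _ => rfl⟩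
  | @cons D x y hx _ ih =>
    obtain ⟨n, c, h1, h2, h3, h4⟩ := ih hx.2.1
    rcases hx.2.2 with ⟨N, hN, hxN⟩ | hxc
    · refine ⟨n + 1, Fin.cons 1 fun i => c i * x, rfl, ?_, ?_, ?_⟩
      · intro i
        refine Fin.cases ?_ (fun j => ?_) i
        · refine ⟨N, hN, ?_⟩
          simpa [h1] using hxN
        · obtain ⟨N', hN', hj⟩ := h2 j
          refine ⟨N', hN', ?_⟩
          simpa [Fin.castSucc_succ] using hj
      · intro i
        refine Fin.cases ?_ (fun j => ?_) i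
        · rw [Fin.cons_zero, cj_one]; exact hx.1
        · rw [Fin.cons_succ, cj_mul]; exact h3 j
      · intro a ha
        have := h4 _ (conj_mem_cj (g := x) ha)
        rw [← Fin.succ_last, Fin.cons_succ]
        simpa [mul_assoc] using this
    · refine ⟨n, c, h1, h2, ?_, ?_⟩
      · intro i
        have := h3 i
        rwa [cj_of_mem_centralizer hxc] at this
      · intro a ha
        have h5 : x * a * x⁻¹ = a := mem_centralizer_iff'.1 hxc a ha
        have := h4 a (by rw [cj_of_mem_centralizer hxc]; exact ha)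
        rw [this]
        calc y * a * y⁻¹ = y * (x * a * x⁻¹) * y⁻¹ := by rw [h5]
          _ = y * x * a * (y * x)⁻¹ := by simp [mul_assoc]

theorem reach_of_chain {S : Subgroup G} {𝓝 : Set (Subgroup G)} {D : Subgroup G} {g : G}
    {n : ℕ} {c : Fin (n + 1) → G} (h0 : c 0 = 1)
    (h2 : ∀ i : Fin n, ∃ N ∈ 𝓝, c i.succ * (c i.castSucc)⁻¹ ∈ N)
    (h3 : ∀ i : Fin (n + 1), cj (c i) D ≤ S)
    (h4 : ∀ a ∈ D, c (Fin.last n) * a * (c (Fin.last n))⁻¹ = g * a * g⁻¹) :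
    Reach (FStep S 𝓝) D g := by
  have hD : D ≤ S := by have := h3 0; rwa [h0, cj_one] at this
  have key : ∀ i : Fin (n + 1), Reach (FStep S 𝓝) D (c i) := by
    intro i
    induction i using Fin.induction with
    | zero => rw [h0]; exact Reach.refl D
    | succ i ih =>
      have h5 : FStep S 𝓝 (cj (c i.castSucc) D) (c i.succ * (c i.castSucc)⁻¹) :=
        ⟨h3 _, by rw [← cj_mul, inv_mul_cancel_right]; exact h3 _, Or.inl (h2 i)⟩
      have := ih.trans (Reach.single h5)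
      rwa [inv_mul_cancel_right] at this
  exact reach_centralizing hD (key _) (agree_iff.1 h4)

theorem fusIn_iff {S H : Subgroup G} {𝓝 : Set (Subgroup G)} : FusIn S H 𝓝 ↔
    ∀ (A : Set G) (h : G), h ∈ H → A ⊆ S → (fun a => h * a * h⁻¹) '' A ⊆ S →
      ∃ (n : ℕ) (c : Fin (n + 1) → G), c 0 = 1 ∧
        (∀ i : Fin n, ∃ N ∈ 𝓝, c i.succ * (c i.castSucc)⁻¹ ∈ N) ∧
        (∀ i : Fin (n + 1), (fun a => c i * a * (c i)⁻¹) '' A ⊆ S) ∧
        ∀ a ∈ A, c (Fin.last n) * a * (c (Fin.last n))⁻¹ = h * a * h⁻¹ := by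
  constructor
  · intro hf A h hh hA hhA
    have hD : closure A ≤ S := (closure_le S).2 hA
    have hD' : cj h (closure A) ≤ S := by
      unfold cj
      rw [MonoidHom.map_closure, closure_le]
      rintro _ ⟨a, ha, rfl⟩
      have := hhA ⟨a, ha, rfl⟩
      simpa using this
    obtain ⟨n, c, h1, h2, h3, h4⟩ := chain_of_reach hD (hf _ h hD hh hD')
    refine ⟨n, c, h1, h2, ?_, fun a ha => h4 a (subset_closure ha)⟩
    rintro i _ ⟨a, ha, rfl⟩
    exact h3 i (conj_mem_cj (subset_closure ha))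
  · intro hf D h hD hh hhD
    obtain ⟨n, c, h1, h2, h3, h4⟩ := hf (D : Set G) h hh hD (by
      rintro _ ⟨a, ha, rfl⟩
      exact hhD (conj_mem_cj ha))
    refine reach_of_chain h1 h2 (fun i => ?_) h4
    rw [cj_le']
    intro d hd
    exact h3 i ⟨d, hd, rfl⟩

/-- the subgroups `N_H(W T)`. -/
def nset (𝓦 : Set (Subgroup G → Subgroup G)) (H T : Subgroup G) : Set (Subgroup G) :=
  (fun W : Subgroup G → Subgroup G => H ⊓ normalizer ((W T : Subgroup G) : Set G)) '' 𝓦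

theorem famFusion_iff {p : ℕ} {𝓦 : Set (Subgroup G → Subgroup G)} {H : Subgroup G} :
    FamilyControlsStrongFusionIn p 𝓦 H ↔ ∃ T, SylIn p T H ∧ FusIn T H (nset 𝓦 H T) := by
  unfold FamilyControlsStrongFusionIn
  simp only [fusIn_iff, nset, Set.exists_mem_image]
  constructor
  · rintro ⟨T, h1, h2, h3, h4⟩
    exact ⟨T, ⟨h1, h2, h3⟩, h4⟩
  · rintro ⟨T, ⟨h1, h2, h3⟩, h4⟩
    exact ⟨T, h1, h2, h3, h4⟩

theorem ctlFusion_iff {p : ℕ} {W : Subgroup G → Subgroup G} {H : Subgroup G} :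
    ControlsStrongFusionIn p W H ↔ FamilyControlsStrongFusionIn p {W} H := by
  rw [famFusion_iff]
  unfold ControlsStrongFusionIn
  constructor
  · rintro ⟨T, h1, h2, h3, h4⟩
    refine ⟨T, ⟨h1, h2, h3⟩, ?_⟩
    intro D g hD hg hgD
    obtain ⟨x, hx, hxa⟩ := h4 (D : Set G) g hg hD (by
      rintro _ ⟨a, ha, rfl⟩; exact hgD (conj_mem_cj ha))
    have h5 : FStep T (nset {W} H T) D x := by
      refine ⟨hD, ?_, Or.inl ⟨_, ⟨W, rfl, rfl⟩, hx⟩⟩
      rw [cj_le']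
      intro d hd
      rw [hxa d hd]
      exact hgD (conj_mem_cj hd)
    exact reach_centralizing hD (Reach.single h5) (agree_iff.1 hxa)
  · rintro ⟨T, ⟨h1, h2, h3⟩, h4⟩
    refine ⟨T, h1, h2, h3, ?_⟩
    intro A h hh hA hhA
    obtain ⟨n, c, c1, c2, c3, c4⟩ := fusIn_iff.1 h4 A h hh hA hhA
    refine ⟨c (Fin.last n), ?_, c4⟩
    have : ∀ i : Fin (n + 1), c i ∈ H ⊓ normalizer ((W T : Subgroup G) : Set G) := by
      intro i
      induction i using Fin.induction with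
      | zero => rw [c1]; exact one_mem _
      | succ i ih =>
        obtain ⟨N, ⟨W', hW', rfl⟩, hc⟩ := c2 i
        rw [Set.mem_singleton_iff] at hW'
        subst hW'
        have := mul_mem hc ih
        rwa [inv_mul_cancel_right] at this
    exact this _

end defs

section maps

variable {G G' : Type*} [Group G] [Group G']

theorem map_cj (f : G →* G') (g : G) (D : Subgroup G) : (cj g D).map f = cj (f g) (D.map f) := by
  unfold cj
  rw [Subgroup.map_map, Subgroup.map_map]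
  congr 1
  ext x
  simp

theorem Reach.map {P : Subgroup G → G → Prop} {P' : Subgroup G' → G' → Prop} (f : G →* G')
    (hP : ∀ D x, P D x → P' (D.map f) (f x)) {D : Subgroup G} {g : G} (h : Reach P D g) :
    Reach P' (D.map f) (f g) := by
  induction h with
  | refl D => rw [map_one]; exact Reach.refl _
  | cons hx _ ih =>
    rw [map_mul]
    rw [map_cj] at ih
    exact Reach.cons (hP _ _ hx) ih

theorem FStep.map (f : G →* G') {S : Subgroup G} {𝓝 : Set (Subgroup G)}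
    (D : Subgroup G) (x : G) (h : FStep S 𝓝 D x) :
    FStep (S.map f) (Subgroup.map f '' 𝓝) (D.map f) (f x) := by
  refine ⟨Subgroup.map_mono h.1, by rw [← map_cj]; exact Subgroup.map_mono h.2.1, ?_⟩
  rcases h.2.2 with ⟨N, hN, hx⟩ | h
  · exact Or.inl ⟨_, ⟨N, hN, rfl⟩, Subgroup.mem_map_of_mem f hx⟩
  · right
    rw [mem_centralizer_iff'] at h ⊢
    rintro _ ⟨d, hd, rfl⟩
    rw [← map_mul, ← map_inv, ← map_mul, h d hd]

theorem FusIn.map {f : G →* G'} (hf : Function.Injective f) {S H : Subgroup G}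
    {𝓝 : Set (Subgroup G)} (h : FusIn S H 𝓝) :
    FusIn (S.map f) (H.map f) (Subgroup.map f '' 𝓝) := by
  intro D g hD hg hgD
  obtain ⟨g, hg, rfl⟩ := hg
  have h1 : (D.comap f).map f = D := by
    rw [Subgroup.map_comap_eq, inf_eq_right]
    exact hD.trans (Subgroup.map_le_range _ _)
  rw [← h1]
  refine Reach.map f (fun D x => FStep.map f D x) (h _ _ ?_ hg ?_)
  · rw [← Subgroup.map_le_map_iff_of_injective hf, h1]; exact hD
  · rw [← Subgroup.map_le_map_iff_of_injective hf, map_cj, h1]; exact hgD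

theorem FusIn.cj {S H : Subgroup G} {𝓝 : Set (Subgroup G)} (h : FusIn S H 𝓝) (a : G) :
    FusIn (cj a S) (cj a H) (FusionH12.cj a '' 𝓝) :=
  FusIn.map (f := (MulAut.conj a).toMonoidHom) (MulAut.conj a).injective h

theorem FusIn.mono {S H : Subgroup G} {𝓝 𝓝' : Set (Subgroup G)} (h : FusIn S H 𝓝)
    (h𝓝 : ∀ N ∈ 𝓝, ∃ N' ∈ 𝓝', N ≤ N') : FusIn S H 𝓝' :=
  fun D g hD hg hgD => (h D g hD hg hgD).mono (FStep.mono le_rfl h𝓝)

end maps

section indep

variable {G : Type*} [Group G] [Finite G] {p : ℕ} [hp : Fact p.Prime]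

theorem nset_cj {𝓦 : Set (Subgroup G → Subgroup G)} (h𝓦 : ∀ W ∈ 𝓦, IsConjugacyFunctor p W)
    {H T : Subgroup G} (hT : IsPGroup p T) (a : G) :
    cj a '' (nset 𝓦 H T) = nset 𝓦 (cj a H) (cj a T) := by
  unfold nset
  rw [Set.image_image]
  refine Set.image_congr fun W hW => ?_
  rw [W_cj (h𝓦 W hW) hT, ← cj_normalizer, cj_inf]

theorem fusIn_of_sylIn {𝓦 : Set (Subgroup G → Subgroup G)}
    (h𝓦 : ∀ W ∈ 𝓦, IsConjugacyFunctor p W) {H T T' : Subgroup G} (hT : SylIn p T H)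
    (hT' : SylIn p T' H) (h : FusIn T H (nset 𝓦 H T)) : FusIn T' H (nset 𝓦 H T') := by
  obtain ⟨a, haH, ha⟩ := hT'.exists_conj hT
  have := FusIn.cj h a
  rwa [nset_cj h𝓦 hT.pg, ha, cj_of_mem haH] at this

theorem famFusion_iff' {𝓦 : Set (Subgroup G → Subgroup G)}
    (h𝓦 : ∀ W ∈ 𝓦, IsConjugacyFunctor p W) {H T : Subgroup G} (hT : SylIn p T H) :
    FamilyControlsStrongFusionIn p 𝓦 H ↔ FusIn T H (nset 𝓦 H T) := by
  rw [famFusion_iff]
  constructor
  · rintro ⟨T', hT', h⟩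
    exact fusIn_of_sylIn h𝓦 hT' hT h
  · intro h
    exact ⟨T, hT, h⟩

/-- the right hand side of the transfer condition -/
def focF (𝓦 : Set (Subgroup G → Subgroup G)) (H T : Subgroup G) : Subgroup G :=
  ⨆ W ∈ 𝓦, T ⊓ ⁅H ⊓ normalizer ((W T : Subgroup G) : Set G), H ⊓ normalizer ((W T : Subgroup G) : Set G)⁆

theorem focF_le (𝓦 : Set (Subgroup G → Subgroup G)) (H T : Subgroup G) :
    focF 𝓦 H T ≤ T ⊓ ⁅H, H⁆ := by
  refine iSup₂_le fun W _ => inf_le_inf le_rfl (Subgroup.commutator_mono inf_le_left inf_le_left)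

theorem le_focF {𝓦 : Set (Subgroup G → Subgroup G)} (H T : Subgroup G)
    {W : Subgroup G → Subgroup G} (hW : W ∈ 𝓦) :
    T ⊓ ⁅H ⊓ normalizer ((W T : Subgroup G) : Set G), H ⊓ normalizer ((W T : Subgroup G) : Set G)⁆
      ≤ focF 𝓦 H T :=
  le_iSup₂_of_le W hW le_rfl

theorem focF_cj {𝓦 : Set (Subgroup G → Subgroup G)} (h𝓦 : ∀ W ∈ 𝓦, IsConjugacyFunctor p W)
    {H T : Subgroup G} (hT : IsPGroup p T) (a : G) :
    cj a (focF 𝓦 H T) = focF 𝓦 (cj a H) (cj a T) := by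
  unfold focF
  rw [show cj a (⨆ W ∈ 𝓦, T ⊓ ⁅H ⊓ normalizer ((W T : Subgroup G) : Set G),
    H ⊓ normalizer ((W T : Subgroup G) : Set G)⁆) = _ from Subgroup.map_iSup _ _]
  refine iSup_congr fun W => ?_
  rw [Subgroup.map_iSup]
  refine iSup_congr fun hW => ?_
  rw [cj_def, cj_inf, cj_commutator, cj_inf, cj_normalizer, W_cj (h𝓦 W hW) hT]

theorem famTransfer_iff {𝓦 : Set (Subgroup G → Subgroup G)} {H : Subgroup G} :
    FamilyControlsTransferIn p 𝓦 H ↔ ∃ T, SylIn p T H ∧ T ⊓ ⁅H, H⁆ ≤ focF 𝓦 H T := by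
  constructor
  · rintro ⟨T, h1, h2, h3, h4⟩
    exact ⟨T, ⟨h1, h2, h3⟩, h4.le⟩
  · rintro ⟨T, ⟨h1, h2, h3⟩, h4⟩
    exact ⟨T, h1, h2, h3, le_antisymm h4 (focF_le _ _ _)⟩

theorem famTransfer_iff' {𝓦 : Set (Subgroup G → Subgroup G)}
    (h𝓦 : ∀ W ∈ 𝓦, IsConjugacyFunctor p W) {H T : Subgroup G} (hT : SylIn p T H) :
    FamilyControlsTransferIn p 𝓦 H ↔ T ⊓ ⁅H, H⁆ ≤ focF 𝓦 H T := by
  rw [famTransfer_iff]
  constructor
  · rintro ⟨T', hT', h⟩
    obtain ⟨a, haH, ha⟩ := hT.exists_conj hT'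
    have := cj_mono (a := a) h
    rwa [focF_cj h𝓦 hT'.pg, cj_inf, cj_commutator, ha, cj_of_mem haH] at this
  · intro h
    exact ⟨T, hT, h⟩

theorem ctlTransfer_iff {W : Subgroup G → Subgroup G} {H : Subgroup G} :
    ControlsTransferIn p W H ↔ FamilyControlsTransferIn p {W} H := by
  unfold ControlsTransferIn FamilyControlsTransferIn
  simp only [iSup_singleton]

end indep

section focal

variable {G : Type*} [Group G] [Finite G] {p : ℕ} [hp : Fact p.Prime]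

theorem focal_le_top (S : Sylow p G) {F : Subgroup G}
    (h : ∀ d ∈ (S : Subgroup G), ∀ g, g * d * g⁻¹ ∈ (S : Subgroup G) → g * d * g⁻¹ * d⁻¹ ∈ F) :
    (S : Subgroup G) ⊓ _root_.commutator G ≤ F := by
  have h1 := Subgroup.commutator_inf_eq_focalSubgroup S
  rw [inf_comm, h1, Subgroup.focalSubgroup, closure_le]
  rintro _ ⟨h2, x, hx, u, rfl⟩
  have h3 : u * x * u⁻¹ ∈ (S : Subgroup G) := by
    have h4 := (S : Subgroup G).inv_mem ((S : Subgroup G).mul_mem ((S : Subgroup G).inv_mem hx) h2)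
    rw [commutatorElement_def] at h4
    simpa [mul_assoc] using h4
  have h5 := F.inv_mem (h x hx u h3)
  rw [commutatorElement_def]
  simpa [mul_assoc] using h5

theorem focal_le {T H F : Subgroup G} (hT : SylIn p T H)
    (h : ∀ d ∈ T, ∀ g ∈ H, g * d * g⁻¹ ∈ T → g * d * g⁻¹ * d⁻¹ ∈ F) :
    T ⊓ ⁅H, H⁆ ≤ F := by
  obtain ⟨P, hP⟩ := hT.toSylow
  have h1 : (P : Subgroup H) ⊓ _root_.commutator H ≤ F.subgroupOf H := by
    refine focal_le_top P fun d hd g hg => ?_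
    rw [hP] at hd hg
    exact h d hd g g.2 hg
  have h2 := Subgroup.map_mono (f := H.subtype) h1
  rw [Subgroup.map_inf _ _ _ H.subtype_injective, hP, Subgroup.subgroupOf_map_subtype,
    Subgroup.subgroupOf_map_subtype, commutator_def, Subgroup.map_commutator,
    ← MonoidHom.range_eq_map, Subgroup.range_subtype, inf_of_le_left hT.le] at h2
  exact h2.trans inf_le_left

/-- conjugation by `x` moves elements of `D` inside their cosets of `F`. -/
def TStep (F : Subgroup G) (D : Subgroup G) (x : G) : Prop := ∀ d ∈ D, x * d * x⁻¹ * d⁻¹ ∈ F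

theorem Reach.tstep {F : Subgroup G} {D : Subgroup G} {x : G} (h : Reach (TStep F) D x) :
    TStep F D x := by
  induction h with
  | refl D => intro d _; simp
  | @cons D x y hx _ ih =>
    intro d hd
    have h1 := hx d hd
    have h2 := ih _ (conj_mem_cj (g := x) hd)
    have := F.mul_mem h2 h1
    have e : y * (x * d * x⁻¹) * y⁻¹ * (x * d * x⁻¹)⁻¹ * (x * d * x⁻¹ * d⁻¹) =
      y * x * d * (y * x)⁻¹ * d⁻¹ := by group
    rwa [e] at this

theorem tstep_of_fstep {S F : Subgroup G} {𝓝 : Set (Subgroup G)} (hF : ∀ N ∈ 𝓝, S ⊓ ⁅N, N⁆ ≤ F)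
    (hS : ∀ N ∈ 𝓝, S ≤ N) (D : Subgroup G) (x : G) (h : FStep S 𝓝 D x) : TStep F D x := by
  intro d hd
  rcases h.2.2 with ⟨N, hN, hx⟩ | hc
  · refine hF N hN ⟨S.mul_mem (h.2.1 (conj_mem_cj hd)) (S.inv_mem (h.1 hd)), ?_⟩
    exact Subgroup.commutator_mem_commutator hx (hS N hN (h.1 hd))
  · rw [mem_centralizer_iff'] at hc
    rw [hc d hd, mul_inv_cancel]; exact one_mem _

/-- fusion generated by members of `𝓝` gives transfer generated by members of `𝓝`. -/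
theorem transfer_of_fusion {S H F : Subgroup G} (hS : SylIn p S H) {𝓝 : Set (Subgroup G)}
    (h𝓝 : ∀ N ∈ 𝓝, S ≤ N) (hfus : FusIn S H 𝓝) (hF : ∀ N ∈ 𝓝, S ⊓ ⁅N, N⁆ ≤ F) :
    S ⊓ ⁅H, H⁆ ≤ F := by
  refine focal_le hS fun d hd g hg hgd => ?_
  have h1 : Subgroup.zpowers d ≤ S := by simpa using hd
  have h2 : cj g (Subgroup.zpowers d) ≤ S := by
    unfold cj
    rw [MonoidHom.map_zpowers]
    simpa using hgd
  have h3 := (hfus _ g h1 hg h2).mono (tstep_of_fstep hF h𝓝)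
  exact Reach.tstep h3 d (Subgroup.mem_zpowers d)

end focal

section locglob

variable {G : Type*} [Group G] [Finite G] {p : ℕ} [hp : Fact p.Prime]

theorem card_lt_of_lt {D E : Subgroup G} (h : D < E) : Nat.card D < Nat.card E := by
  by_contra h1
  exact h.ne (Subgroup.eq_of_le_of_card_ge h.le (not_lt.1 h1))

/-- the members of an Alperin family with Sylow normalizers form an Alperin family -/
theorem IsAlpFam.restrict {S : Subgroup G} {𝓕 : Set (Subgroup G)} (h : IsAlpFam p S 𝓕) :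
    IsAlpFam p S {U | U ∈ 𝓕 ∧ SylIn p (S ⊓ normalizer (U : Set G)) (normalizer (U : Set G))} := by
  intro T hT
  obtain ⟨U, hU, hg, hi⟩ := h T hT
  exact ⟨U, ⟨hU, hi⟩, hg, hi⟩

theorem top_inf_nset {𝓦 : Set (Subgroup G → Subgroup G)} {S : Subgroup G}
    {W : Subgroup G → Subgroup G} (hW : W ∈ 𝓦) :
    ∃ N ∈ nset 𝓦 ⊤ S, normalizer ((W S : Subgroup G) : Set G) ≤ N :=
  ⟨_, ⟨W, hW, rfl⟩, by simp⟩

/-- Downward induction step of the local-to-global theorem for fusion. -/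
theorem lg_fusion_claim {S : Subgroup G} (hS : IsPGroup p S)
    {𝓦 : Set (Subgroup G → Subgroup G)} (h𝓦 : ∀ W ∈ 𝓦, IsConjugacyFunctor p W)
    {𝓕 : Set (Subgroup G)} (h𝓕 : ∀ U ∈ 𝓕, U ≤ S)
    (hsyl : ∀ U ∈ 𝓕, SylIn p (S ⊓ normalizer (U : Set G)) (normalizer (U : Set G)))
    (halp : IsAlpFam p S 𝓕)
    (hloc : ∀ U ∈ 𝓕, U ≠ ⊥ → FusIn (S ⊓ normalizer (U : Set G)) (normalizer (U : Set G))
      (nset 𝓦 (normalizer (U : Set G)) (S ⊓ normalizer (U : Set G)))) :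
    ∀ (n : ℕ) (U : Subgroup G), U ∈ 𝓕 → U ≠ ⊥ →
      Nat.card S - Nat.card ↥(S ⊓ normalizer (U : Set G)) ≤ n →
      ∀ (D : Subgroup G) (x : G), D ≤ S ⊓ normalizer (U : Set G) → x ∈ normalizer (U : Set G) →
        cj x D ≤ S ⊓ normalizer (U : Set G) → Reach (FStep S (nset 𝓦 ⊤ S)) D x := by
  intro n
  induction n using Nat.strong_induction_on with
  | _ n ih =>
  intro U hU hU1 hn D x hD hx hxD
  refine (hloc U hU hU1 D x hD hx hxD).bind ?_
  clear hD hx hxD D x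
  rintro D y ⟨hD, hyD, hy⟩
  rcases hy with ⟨N, ⟨W, hW, rfl⟩, hy⟩ | hy
  swap
  · exact Reach.single ⟨hD.trans inf_le_left, hyD.trans inf_le_left, Or.inr hy⟩
  have hRp : IsPGroup p ↥(S ⊓ normalizer (U : Set G)) := hS.to_le inf_le_left
  by_cases hRS : S ⊓ normalizer (U : Set G) = S
  · rw [hRS] at hy
    exact Reach.single ⟨hD.trans inf_le_left, hyD.trans inf_le_left,
      Or.inl ⟨_, ⟨W, hW, rfl⟩, ⟨mem_top _, hy.2⟩⟩⟩
  set R := S ⊓ normalizer (U : Set G) with hR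
  have hRlt : R < S := lt_of_le_of_ne inf_le_left hRS
  have hRne : R ≠ ⊥ := fun h => hU1 (le_bot_iff.1 (by
    rw [← h]; exact le_inf (h𝓕 U hU) Subgroup.le_normalizer))
  have hgrow : R < S ⊓ normalizer ((W R : Subgroup G) : Set G) :=
    lt_of_lt_of_le (lt_nrm_inf hS hRlt) (inf_le_inf le_rfl (nrm_le_nrm_W (h𝓦 W hW) hRp))
  have hWR : W R ≤ R := W_le (h𝓦 W hW) hRp
  have hWne : W R ≠ ⊥ := W_ne (h𝓦 W hW) hRp hRne
  obtain ⟨U₁, a, hU₁, haU, hUS, haN⟩ := exists_move hS halp (hWR.trans hRlt.le)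
  set N₁ := S ⊓ normalizer ((W R : Subgroup G) : Set G) with hN₁
  have hU₁ne : U₁ ≠ ⊥ := by rw [← haU]; exact fun h => hWne (cj_eq_bot.1 h)
  have hcard : Nat.card R < Nat.card N₁ := card_lt_of_lt hgrow
  have hcardS : Nat.card N₁ ≤ Nat.card S := Subgroup.card_le_of_le inf_le_left
  -- `a` is reachable on `N₁`
  have haR : Reach (FStep S (nset 𝓦 ⊤ S)) N₁ a := by
    refine (alperin' hS h𝓕 halp inf_le_left (haN.trans inf_le_left)).famStep_card.bind ?_
    rintro E z ⟨V, ⟨hV, hVc⟩, hEV, hz⟩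
    have hVS : V ≤ S ⊓ normalizer (V : Set G) := le_inf (h𝓕 V hV) Subgroup.le_normalizer
    have hVc' : Nat.card N₁ ≤ Nat.card ↥(S ⊓ normalizer (V : Set G)) :=
      hVc.trans (Subgroup.card_le_of_le hVS)
    refine ih (Nat.card S - Nat.card ↥(S ⊓ normalizer (V : Set G))) (by omega) V hV ?_ le_rfl E z
      (hEV.trans hVS) hz ?_
    · rintro rfl
      have hVc1 : Nat.card N₁ ≤ 1 := by rw [← Subgroup.card_bot (G := G)]; exact hVc
      have : 0 < Nat.card R := Nat.card_pos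
      omega
    · refine le_trans ?_ hVS
      rw [← cj_of_mem_nrm hz]; exact cj_mono hEV
  have hDN : D ≤ N₁ := hD.trans hgrow.le
  have hyDN : cj y D ≤ N₁ := hyD.trans hgrow.le
  have h1 : Reach (FStep S (nset 𝓦 ⊤ S)) D a := haR.anti FStep.anti hDN
  have h2 : Reach (FStep S (nset 𝓦 ⊤ S)) (cj a (cj y D)) a⁻¹ :=
    (haR.anti FStep.anti hyDN).inv FStep.inv
  have hc2 : Nat.card N₁ ≤ Nat.card ↥(S ⊓ normalizer (U₁ : Set G)) := by
    have := Subgroup.card_le_of_le haN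
    rwa [card_cj] at this
  have e : cj (a * y * a⁻¹) (cj a D) = cj a (cj y D) := by
    rw [cj_mul, cj_inv_cj, cj_mul]
  have h3 : Reach (FStep S (nset 𝓦 ⊤ S)) (cj a D) (a * y * a⁻¹) := by
    refine ih (Nat.card S - Nat.card ↥(S ⊓ normalizer (U₁ : Set G))) (by omega) U₁ hU₁ hU₁ne le_rfl
      _ _ ((cj_mono hDN).trans haN) ?_ ?_
    · rw [← haU, ← cj_normalizer]
      exact conj_mem_cj hy.2
    · rw [e]; exact (cj_mono hyDN).trans haN
  have h4 := (h1.trans h3).trans (y := a⁻¹) (by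
    rw [cj_mul, e]; exact h2)
  have : a⁻¹ * (a * y * a⁻¹ * a) = y := by group
  rwa [this] at h4

theorem lg_fusion {S : Subgroup G} (hS : SylIn p S ⊤)
    {𝓦 : Set (Subgroup G → Subgroup G)} (h𝓦 : ∀ W ∈ 𝓦, IsConjugacyFunctor p W)
    {𝓕 : Set (Subgroup G)} (h𝓕 : ∀ U ∈ 𝓕, U ≤ S) (halp : IsAlpFam p S 𝓕)
    (hloc : ∀ U ∈ 𝓕, U ≠ ⊥ →
      SylIn p (S ⊓ normalizer (U : Set G)) (normalizer (U : Set G)) →
      FamilyControlsStrongFusionIn p 𝓦 (normalizer (U : Set G))) :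
    FamilyControlsStrongFusionIn p 𝓦 ⊤ := by
  rw [famFusion_iff' h𝓦 hS]
  intro D g hD _ hgD
  by_cases hD1 : D = ⊥
  · subst hD1
    refine Reach.single ⟨hD, hgD, Or.inr ?_⟩
    rw [mem_centralizer_iff']
    intro d hd
    rw [Subgroup.mem_bot.1 hd]; simp
  have hcl := lg_fusion_claim hS.pg h𝓦 (𝓕 := {U | U ∈ 𝓕 ∧
    SylIn p (S ⊓ normalizer (U : Set G)) (normalizer (U : Set G))}) (fun U hU => h𝓕 U hU.1)
    (fun U hU => hU.2) (IsAlpFam.restrict halp) (fun U hU hU1 =>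
      (famFusion_iff' h𝓦 hU.2).1 (hloc U hU.1 hU1 hU.2))
  refine (alperin' hS.pg (fun U hU => h𝓕 U hU.1) (IsAlpFam.restrict halp) hD hgD).famStep_card.bind ?_
  rintro E z ⟨V, ⟨hV, hVc⟩, hEV, hz⟩
  have hVS : V ≤ S ⊓ normalizer (V : Set G) := le_inf (h𝓕 V hV.1) Subgroup.le_normalizer
  refine hcl _ V hV ?_ le_rfl E z (hEV.trans hVS) hz ?_
  · rintro rfl
    rw [Subgroup.card_bot] at hVc
    exact hD1 (Subgroup.card_le_one_iff_eq_bot D |>.1 hVc)
  · refine le_trans ?_ hVS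
    rw [← cj_of_mem_nrm hz]; exact cj_mono hEV

/-- Downward induction step of the local-to-global theorem for transfer. -/
theorem lg_transfer_claim {S : Subgroup G} (hS : IsPGroup p S)
    {𝓦 : Set (Subgroup G → Subgroup G)} (h𝓦 : ∀ W ∈ 𝓦, IsConjugacyFunctor p W)
    {𝓕 : Set (Subgroup G)} (h𝓕 : ∀ U ∈ 𝓕, U ≤ S)
    (hsyl : ∀ U ∈ 𝓕, SylIn p (S ⊓ normalizer (U : Set G)) (normalizer (U : Set G)))
    (halp : IsAlpFam p S 𝓕)
    (hloc : ∀ U ∈ 𝓕, U ≠ ⊥ → S ⊓ normalizer (U : Set G) ⊓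
      ⁅normalizer (U : Set G), normalizer (U : Set G)⁆ ≤
      focF 𝓦 (normalizer (U : Set G)) (S ⊓ normalizer (U : Set G))) :
    ∀ (n : ℕ) (U : Subgroup G), U ∈ 𝓕 → U ≠ ⊥ →
      Nat.card S - Nat.card ↥(S ⊓ normalizer (U : Set G)) ≤ n →
      S ⊓ normalizer (U : Set G) ⊓ ⁅normalizer (U : Set G), normalizer (U : Set G)⁆ ≤
        focF 𝓦 ⊤ S := by
  intro n
  induction n using Nat.strong_induction_on with
  | _ n ih =>
  intro U hU hU1 hn
  refine (hloc U hU hU1).trans ?_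
  unfold focF
  refine iSup₂_le fun W hW => ?_
  have hRp : IsPGroup p ↥(S ⊓ normalizer (U : Set G)) := hS.to_le inf_le_left
  by_cases hRS : S ⊓ normalizer (U : Set G) = S
  · rw [hRS]
    refine le_trans (inf_le_inf le_rfl (Subgroup.commutator_mono inf_le_right inf_le_right)) ?_
    refine le_iSup₂_of_le W hW ?_
    rw [top_inf_eq]
  set R := S ⊓ normalizer (U : Set G) with hR
  have hRlt : R < S := lt_of_le_of_ne inf_le_left hRS
  have hRne : R ≠ ⊥ := fun h => hU1 (le_bot_iff.1 (by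
    rw [← h]; exact le_inf (h𝓕 U hU) Subgroup.le_normalizer))
  have hgrow : R < S ⊓ normalizer ((W R : Subgroup G) : Set G) :=
    lt_of_lt_of_le (lt_nrm_inf hS hRlt) (inf_le_inf le_rfl (nrm_le_nrm_W (h𝓦 W hW) hRp))
  have hWR : W R ≤ R := W_le (h𝓦 W hW) hRp
  have hWne : W R ≠ ⊥ := W_ne (h𝓦 W hW) hRp hRne
  obtain ⟨U₁, a, hU₁, haU, hUS, haN⟩ := exists_move hS halp (hWR.trans hRlt.le)
  set N₁ := S ⊓ normalizer ((W R : Subgroup G) : Set G) with hN₁
  have hU₁ne : U₁ ≠ ⊥ := by rw [← haU]; exact fun h => hWne (cj_eq_bot.1 h)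
  have hcard : Nat.card R < Nat.card N₁ := card_lt_of_lt hgrow
  have hcardS : Nat.card N₁ ≤ Nat.card S := Subgroup.card_le_of_le inf_le_left
  have haR : TStep (focF 𝓦 ⊤ S) N₁ a := by
    refine Reach.tstep ((alperin' hS h𝓕 halp inf_le_left
      (haN.trans inf_le_left)).famStep_card.mono ?_)
    rintro E z ⟨V, ⟨hV, hVc⟩, hEV, hz⟩ d hd
    have hVS : V ≤ S ⊓ normalizer (V : Set G) := le_inf (h𝓕 V hV) Subgroup.le_normalizer
    have hVc' : Nat.card N₁ ≤ Nat.card ↥(S ⊓ normalizer (V : Set G)) :=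
      hVc.trans (Subgroup.card_le_of_le hVS)
    refine ih (Nat.card S - Nat.card ↥(S ⊓ normalizer (V : Set G))) (by omega) V hV ?_ le_rfl ?_
    · rintro rfl
      have hVc1 : Nat.card N₁ ≤ 1 := by rw [← Subgroup.card_bot (G := G)]; exact hVc
      have : 0 < Nat.card R := Nat.card_pos
      omega
    · have hzd : z * d * z⁻¹ ∈ V := by
        rw [← cj_of_mem_nrm hz]; exact conj_mem_cj (hEV hd)
      exact ⟨hVS (V.mul_mem hzd (V.inv_mem (hEV hd))),
        Subgroup.commutator_mem_commutator hz (Subgroup.le_normalizer (hEV hd))⟩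
  have hc2 : Nat.card N₁ ≤ Nat.card ↥(S ⊓ normalizer (U₁ : Set G)) := by
    have := Subgroup.card_le_of_le haN
    rwa [card_cj] at this
  intro z hz
  have hzN : z ∈ N₁ := hgrow.le hz.1
  have h3 : a * z * a⁻¹ ∈ focF 𝓦 ⊤ S := by
    refine ih (Nat.card S - Nat.card ↥(S ⊓ normalizer (U₁ : Set G))) (by omega) U₁ hU₁ hU₁ne le_rfl ?_
    refine ⟨haN (conj_mem_cj hzN), ?_⟩
    rw [← haU, ← cj_normalizer, ← cj_commutator]
    exact conj_mem_cj (Subgroup.commutator_mono inf_le_right inf_le_right hz.2)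
  have h4 := haR z hzN
  have h5 := (focF 𝓦 ⊤ S).mul_mem ((focF 𝓦 ⊤ S).inv_mem h4) h3
  have : (a * z * a⁻¹ * z⁻¹)⁻¹ * (a * z * a⁻¹) = z := by group
  rwa [this] at h5

theorem lg_transfer {S : Subgroup G} (hS : SylIn p S ⊤)
    {𝓦 : Set (Subgroup G → Subgroup G)} (h𝓦 : ∀ W ∈ 𝓦, IsConjugacyFunctor p W)
    {𝓕 : Set (Subgroup G)} (h𝓕 : ∀ U ∈ 𝓕, U ≤ S) (halp : IsAlpFam p S 𝓕)
    (hloc : ∀ U ∈ 𝓕, U ≠ ⊥ →
      SylIn p (S ⊓ normalizer (U : Set G)) (normalizer (U : Set G)) →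
      FamilyControlsTransferIn p 𝓦 (normalizer (U : Set G))) :
    FamilyControlsTransferIn p 𝓦 ⊤ := by
  rw [famTransfer_iff' h𝓦 hS]
  have hcl := lg_transfer_claim hS.pg h𝓦 (𝓕 := {U | U ∈ 𝓕 ∧
    SylIn p (S ⊓ normalizer (U : Set G)) (normalizer (U : Set G))}) (fun U hU => h𝓕 U hU.1)
    (fun U hU => hU.2) (IsAlpFam.restrict halp) (fun U hU hU1 =>
      (famTransfer_iff' h𝓦 hU.2).1 (hloc U hU.1 hU1 hU.2))
  refine focal_le hS fun d hd g _ hgd => ?_
  by_cases hd1 : d = 1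
  · subst hd1; simp
  have h1 : Subgroup.zpowers d ≤ S := by simpa using hd
  have h2 : cj g (Subgroup.zpowers d) ≤ S := by
    unfold cj
    rw [MonoidHom.map_zpowers]
    simpa using hgd
  have h3 : Reach (TStep (focF 𝓦 ⊤ S)) (Subgroup.zpowers d) g := by
    refine (alperin' hS.pg (fun U hU => h𝓕 U hU.1) (IsAlpFam.restrict halp) h1 h2).famStep_card.mono ?_
    rintro E z ⟨V, ⟨hV, hVc⟩, hEV, hz⟩ e he
    have hVS : V ≤ S ⊓ normalizer (V : Set G) := le_inf (h𝓕 V hV.1) Subgroup.le_normalizer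
    refine hcl _ V hV ?_ le_rfl ?_
    · rintro rfl
      rw [Subgroup.card_bot] at hVc
      refine hd1 ?_
      have := Subgroup.card_le_one_iff_eq_bot _ |>.1 hVc
      exact Subgroup.zpowers_eq_bot.1 this
    · have hzd : z * e * z⁻¹ ∈ V := by
        rw [← cj_of_mem_nrm hz]; exact conj_mem_cj (hEV he)
      exact ⟨hVS (V.mul_mem hzd (V.inv_mem (hEV he))),
        Subgroup.commutator_mem_commutator hz (Subgroup.le_normalizer (hEV he))⟩
  exact Reach.tstep h3 d (Subgroup.mem_zpowers d)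

end locglob

end CfsgLib.FusionH12c
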