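import Cfsg.Agent.LibFT19

set_option autoImplicit false

/-! The transfer of a saturated fusion system; focal subgroup and centre; Tate's theorem (helper1) -/

namespace CfsgLib.FT

open Cfsg Cfsg.FusionSystem CfsgLib.Fus21
open scoped commutatorElement

universe u

variable {Ω : Type u} [Group Ω] {S : Subgroup Ω} {F : FusionSystem S} {p : ℕ} {U : Subgroup Ω}

theorem normIn_self (S : Subgroup Ω) : NormIn S S := ⟨le_rfl, fun s hs u hu => S.mul_mem (S.mul_mem hs hu) (S.inv_mem hs)⟩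

theorem hypLe_S (F : FusionSystem S) (p : ℕ) : HypLe F p S := fun P hP α _ _ x => S.mul_mem (S.inv_mem (hP x.2)) (hP (α x).2)

/-- transfer -/
theorem exists_tau [Finite S] [hp : Fact p.Prime] (hS : IsPGroup p S) (hF : F.IsSaturated p) {A : Type*} [CommGroup A] (lam : S →* A) :
    ∃ (τ : S →* A) (m : ℕ), ¬ p ∣ m ∧ (∀ (P : Subgroup Ω) (φ : P →* Ω) (hφ : φ ∈ F.Hom P) (x : P),
      τ ⟨φ x, (F.le_of_mem hφ).2 x⟩ = τ ⟨x, (F.le_of_mem hφ).1 x.2⟩) ∧ ∀ z (hz : z ∈ F.center) (hzS : z ∈ S), τ ⟨z, hzS⟩ = lam ⟨z, hzS⟩ ^ m := by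
  have hU := normIn_self S
  have hH := hypLe_S F p
  obtain ⟨T, m, hm, -, hT2, hT3⟩ := exists_transfer' hS hF hU hH lam (fun s hs u hu => by
    have : (⟨s * u * s⁻¹, hU.2 s hs u hu⟩ : S) = ⟨s, hs⟩ * ⟨u, hu⟩ * ⟨s, hs⟩⁻¹ := rfl
    rw [this, map_mul, map_mul, map_inv, mul_right_comm, mul_inv_cancel, one_mul])
  have hmem : ∀ s ∈ S, ((s, 1) : Ω × Ω) ∈ GU hU := fun s hs => ⟨hs, S.one_mem, S.mul_mem (S.inv_mem hs) S.one_mem⟩
  let l : S →* GU hU :=
    { toFun := fun s => ⟨(s, 1), hmem s s.2⟩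
      map_one' := rfl
      map_mul' := fun a b => by
        apply Subtype.ext
        exact Prod.ext rfl (by show (1 : Ω) = 1 * 1; rw [mul_one]) }
  refine ⟨(T.comp l)⁻¹, m, hm, fun P φ hφ x => ?_, fun z hz hzS => ?_⟩
  · obtain ⟨g, hg⟩ := exists_value (U := S) hS hF hU hφ
    have h1 : MV F p S P φ 1 := hg.cast (fun _ => rfl) (S.mul_mem (S.inv_mem (hg.mem hU.1)) S.one_mem)
    have h2 := hT2 P φ h1 (l ⟨x, (F.le_of_mem hφ).1 x.2⟩) x.2
    show (T (l ⟨φ x, (F.le_of_mem hφ).2 x⟩))⁻¹ = (T (l ⟨x, (F.le_of_mem hφ).1 x.2⟩))⁻¹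
    rw [← h2]
    rfl
  · show (T (l ⟨z, hzS⟩))⁻¹ = _
    have h1 := hT3 (l ⟨z, hzS⟩) hz
    rw [h1, ← inv_pow]
    congr 1
    rw [← map_inv]
    congr 1
    apply Subtype.ext
    show (z⁻¹ * 1)⁻¹ = z
    group

/-- S5329 -/
theorem focal_center [Finite S] [hp : Fact p.Prime] (hS : IsPGroup p S) (hF : F.IsSaturated p) :
    F.focalSubgroup ⊓ F.center = ⁅S, S⁆ ⊓ F.center := by
  apply le_antisymm
  · rintro z ⟨hz, hzc⟩
    refine ⟨?_, hzc⟩
    have hzS : z ∈ S := (isCentral_center F).1 hzc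
    obtain ⟨τ, m, hm, h1, h2⟩ := exists_tau hS hF (Abelianization.of (G := S))
    -- `τ` kills the focal subgroup
    have h3 : F.focalSubgroup ≤ τ.ker.map S.subtype := by
      rw [FusionSystem.focalSubgroup, Subgroup.closure_le]
      rintro _ ⟨P, φ, x, hφ, rfl⟩
      refine ⟨⟨x, (F.le_of_mem hφ).1 x.2⟩⁻¹ * ⟨φ x, (F.le_of_mem hφ).2 x⟩, ?_, rfl⟩
      rw [SetLike.mem_coe, MonoidHom.mem_ker, map_mul, map_inv, h1 P φ hφ x, inv_mul_cancel]
    obtain ⟨y, hy, hyz⟩ := h3 hz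
    have h4 : y = ⟨z, hzS⟩ := Subtype.ext hyz
    have h5 := h2 z hzc hzS
    rw [← h4, MonoidHom.mem_ker.1 hy] at h5
    -- `z ^ m ∈ S'` and `z` is a `p`-element
    have h6 : (y ^ m) ∈ _root_.commutator S := by
      rw [← Abelianization.ker_of, MonoidHom.mem_ker, map_pow]
      exact h5.symm
    obtain ⟨n, hn⟩ := hS y
    have hcop : m.Coprime (orderOf y) := Nat.Coprime.coprime_dvd_right (orderOf_dvd_of_pow_eq_one hn)
      (Nat.Coprime.pow_right n ((Nat.Prime.coprime_iff_not_dvd hp.out).2 hm).symm)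
    obtain ⟨k, hk⟩ := exists_pow_eq_self_of_coprime hcop
    have h7 : y ∈ _root_.commutator S := by rw [← hk]; exact Subgroup.pow_mem _ h6 k
    have h8 : (_root_.commutator S).map S.subtype = ⁅S, S⁆ := by
      rw [commutator_def, Subgroup.map_commutator]
      simp [← MonoidHom.range_eq_map]
    rw [← h8]
    exact ⟨y, h7, hyz⟩
  · refine inf_le_inf_right _ ?_
    rw [focal_eq hS hF]
    exact le_sup_right

end CfsgLib.FT
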