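import Cfsg.Agent.LibFT20
import Cfsg.Agent.LibSolvNilp
import Cfsg.Agent.LibLE10
import Cfsg.Agent.LibFus21Tr1

set_option autoImplicit false

/-! Tate's theorem for saturated fusion systems (helper1) -/

namespace CfsgLib.FT

open Cfsg Cfsg.FusionSystem CfsgLib.Fus21
open scoped commutatorElement

universe u

theorem exists_inv_char {G : Type u} [Group G] [Finite G] {p : ℕ} [hp : Fact p.Prime] (hG : IsPGroup p G) {N C : Subgroup G} (hN : N.Normal)
    (hC : C.Normal) (hNC : N < C) : ∃ (A : Type u) (_ : CommGroup A) (lam : C →* A), (∀ g (c : C) h, lam ⟨g * c * g⁻¹, h⟩ = lam c) ∧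
      (∀ c : C, (c : G) ∈ N → lam c = 1) ∧ (∃ c, lam c ≠ 1) ∧ (∀ a : A, a ^ p = 1) := by
  haveI : Group.IsNilpotent G := hG.isNilpotent
  obtain ⟨D, hD⟩ := (Set.toFinite {D : Subgroup G | D.Normal ∧ N ≤ D ∧ D < C}).exists_maximal ⟨N, hN, le_rfl, hNC⟩
  obtain ⟨hDn, hND, hDC⟩ := hD.1
  have hmax : ∀ E : Subgroup G, E.Normal → D ≤ E → E < C → E = D := fun E h1 h2 h3 => le_antisymm (hD.2 ⟨h1, hND.trans h2, h3⟩ h2) h2
  obtain ⟨x, hxC, hxD, hxc⟩ := CfsgLib.SolvNilp.exists_central_mod D C hDC.not_ge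
  have h1 : D ⊔ Subgroup.zpowers x = C := by
    by_contra hne
    have hlt : D ⊔ Subgroup.zpowers x < C := lt_of_le_of_ne (sup_le hDC.le (by rwa [Subgroup.zpowers_le])) hne
    have h2 := hmax _ (CfsgLib.SolvNilp.normal_sup_zpowers D x hxc) le_sup_left hlt
    exact hxD (h2 ▸ Subgroup.mem_sup_right (Subgroup.mem_zpowers x))
  -- the quotient of `x`
  let y : G ⧸ D := QuotientGroup.mk' D x
  have hyc : ∀ g : G ⧸ D, g * y = y * g := by
    intro g
    induction g using QuotientGroup.induction_on with | H g =>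
    have h3 := (QuotientGroup.eq_one_iff (N := D) _).2 (hxc g)
    have h4 : (QuotientGroup.mk' D) (x * g * x⁻¹ * g⁻¹) = 1 := h3
    rw [map_mul, map_mul, map_mul, map_inv, map_inv, mul_inv_eq_one, mul_inv_eq_iff_eq_mul] at h4
    exact h4.symm
  have hCy : ∀ c ∈ C, ∃ i : ℤ, QuotientGroup.mk' D c = y ^ i := by
    intro c hc
    rw [← h1] at hc
    obtain ⟨d, hd, z, hz, rfl⟩ := Subgroup.mem_sup_of_normal_left.1 hc
    obtain ⟨i, rfl⟩ := Subgroup.mem_zpowers_iff.1 hz
    refine ⟨i, ?_⟩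
    have hd1 : QuotientGroup.mk' D d = 1 := (QuotientGroup.eq_one_iff (N := D) d).2 hd
    rw [map_mul, hd1, one_mul, map_zpow]
  have hyp : y ^ p = 1 := by
    have hxpc : ∀ g : G, x ^ p * g * (x ^ p)⁻¹ * g⁻¹ ∈ D := by
      intro g
      rw [← QuotientGroup.eq_one_iff]
      show (QuotientGroup.mk' D) (x ^ p * g * (x ^ p)⁻¹ * g⁻¹) = 1
      have h3 : (QuotientGroup.mk' D g) * y ^ p = y ^ p * QuotientGroup.mk' D g := by
        exact ((Commute.pow_right (show Commute (QuotientGroup.mk' D g) y from hyc _) p)).eq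
      rw [map_mul, map_mul, map_mul, map_inv, map_inv, map_pow]
      show y ^ p * QuotientGroup.mk' D g * (y ^ p)⁻¹ * (QuotientGroup.mk' D g)⁻¹ = 1
      rw [← h3]; group
    by_cases hE : D ⊔ Subgroup.zpowers (x ^ p) = C
    · have hx' : x ∈ D ⊔ Subgroup.zpowers (x ^ p) := by rw [hE]; exact hxC
      obtain ⟨d, hd, z, hz, hdz⟩ := Subgroup.mem_sup_of_normal_left.1 hx'
      obtain ⟨i, rfl⟩ := Subgroup.mem_zpowers_iff.1 hz
      have h3 : y = y ^ ((p : ℤ) * i) := by
        have hd1 : QuotientGroup.mk' D d = 1 := (QuotientGroup.eq_one_iff (N := D) d).2 hd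
        conv_lhs => rw [show y = QuotientGroup.mk' D x from rfl, ← hdz]
        rw [map_mul, hd1, one_mul, map_zpow, map_pow, zpow_mul, zpow_natCast]
      obtain ⟨n, hn⟩ := (hG.to_quotient D) y
      have h4 : (orderOf y : ℤ) ∣ (p : ℤ) * i - 1 := by
        rw [orderOf_dvd_iff_zpow_eq_one, zpow_sub, zpow_one, ← h3, mul_inv_cancel]
      have h5 : orderOf y ∣ p ^ n := orderOf_dvd_of_pow_eq_one hn
      obtain ⟨k, -, hk⟩ := (Nat.dvd_prime_pow hp.out).1 h5
      rcases Nat.eq_zero_or_pos k with h0 | h0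
      · rw [h0, pow_zero, orderOf_eq_one_iff] at hk
        rw [hk, one_pow]
      · exfalso
        have h6 : (p : ℤ) ∣ (p : ℤ) * i - 1 := by
          refine dvd_trans ?_ h4
          rw [hk]; exact_mod_cast dvd_pow_self p h0.ne'
        have h7 : (p : ℤ) ∣ 1 := by
          have := dvd_sub (dvd_mul_right (p : ℤ) i) h6
          simpa using this
        have := Int.eq_one_of_dvd_one (by positivity) h7
        exact hp.out.one_lt.ne' (by exact_mod_cast this)
    · have hlt : D ⊔ Subgroup.zpowers (x ^ p) < C := lt_of_le_of_ne (sup_le hDC.le (by rw [Subgroup.zpowers_le]; exact C.pow_mem hxC p)) hE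
      have h2 := hmax _ (CfsgLib.SolvNilp.normal_sup_zpowers D (x ^ p) hxpc) le_sup_left hlt
      have h3 : x ^ p ∈ D := h2 ▸ Subgroup.mem_sup_right (Subgroup.mem_zpowers _)
      rw [show y = QuotientGroup.mk' D x from rfl, ← map_pow]
      exact (QuotientGroup.eq_one_iff (N := D) _).2 h3
  -- the target
  let A : Subgroup (G ⧸ D) := Subgroup.zpowers y
  let lam : C →* A := ((QuotientGroup.mk' D).comp C.subtype).codRestrict A fun c => by
    obtain ⟨i, hi⟩ := hCy c c.2
    exact Subgroup.mem_zpowers_iff.2 ⟨i, hi.symm⟩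
  refine ⟨A, { (inferInstance : Group A) with mul_comm := fun a b => ?_ }, lam, fun g c h => ?_, fun c hc => ?_, ⟨⟨x, hxC⟩, fun h => ?_⟩, fun a => ?_⟩
  · obtain ⟨a, i, rfl⟩ := a
    obtain ⟨b, j, rfl⟩ := b
    apply Subtype.ext
    show y ^ i * y ^ j = y ^ j * y ^ i
    rw [← zpow_add, ← zpow_add, add_comm]
  · apply Subtype.ext
    show QuotientGroup.mk' D (g * c * g⁻¹) = QuotientGroup.mk' D c
    obtain ⟨i, hi⟩ := hCy c c.2
    rw [map_mul, map_mul, map_inv, hi]
    have h3 : (QuotientGroup.mk' D g) * y ^ i = y ^ i * QuotientGroup.mk' D g :=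
      ((Commute.zpow_right (show Commute (QuotientGroup.mk' D g) y from hyc _) i)).eq
    rw [h3, mul_inv_cancel_right]
  · apply Subtype.ext
    exact (QuotientGroup.eq_one_iff (N := D) _).2 (hND hc)
  · have := congrArg Subtype.val h
    exact hxD ((QuotientGroup.eq_one_iff (N := D) _).1 this)
  · obtain ⟨a, i, rfl⟩ := a
    apply Subtype.ext
    show (y ^ i) ^ p = 1
    rw [← zpow_natCast, ← zpow_mul, mul_comm, zpow_mul, zpow_natCast, hyp, one_zpow]

variable {Ω : Type u} [Group Ω] {S : Subgroup Ω} {F : FusionSystem S} {p : ℕ} {U : Subgroup Ω}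

/-- Tate: the hard direction -/
theorem tate [Finite S] [hp : Fact p.Prime] (hS : IsPGroup p S) (hF : F.IsSaturated p) {V : Subgroup Ω} (hV : NormIn S V)
    (h : F.hyperfocalSubgroup p ≤ V ⊔ (frattini S).map S.subtype) (hVU : V ≤ F.hyperfocalSubgroup p) : F.hyperfocalSubgroup p ≤ V := by
  by_contra hnle
  have hU := hyp_normIn F p
  have hN : (V.subgroupOf S).Normal := ⟨fun v hv g => hV.2 g g.2 v hv⟩
  have hC : ((F.hyperfocalSubgroup p).subgroupOf S).Normal := ⟨fun v hv g => hU.2 g g.2 v hv⟩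
  have hlt : V.subgroupOf S < (F.hyperfocalSubgroup p).subgroupOf S := by
    refine lt_of_le_of_ne (fun x hx => hVU hx) fun he => hnle fun x hx => ?_
    have : (⟨x, hU.1 hx⟩ : S) ∈ V.subgroupOf S := by rw [he]; exact hx
    exact this
  obtain ⟨A, hA, lam, h1, h2, ⟨c₀, hc₀⟩, h4⟩ := exists_inv_char hS hN hC hlt
  let ι : F.hyperfocalSubgroup p →* (F.hyperfocalSubgroup p).subgroupOf S :=
    { toFun := fun u => ⟨⟨u, hU.1 u.2⟩, u.2⟩
      map_one' := rfl
      map_mul' := fun _ _ => rfl }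
  obtain ⟨c, m, hm, hc⟩ := extend_char hS hF (lam.comp ι) (fun s hs u hu => h1 ⟨s, hs⟩ ⟨⟨u, hU.1 hu⟩, hu⟩ _)
  -- `c` kills the Frattini subgroup
  have hker : frattini S ≤ c.ker := by
    refine CfsgLib.LE.frattini_le_of (p := p) ?_ fun x => ?_
    · exact Abelianization.commutator_subset_ker c
    · rw [MonoidHom.mem_ker, map_pow, h4]
  have hkill : ∀ u (hu : u ∈ F.hyperfocalSubgroup p), c ⟨u, hU.1 hu⟩ = 1 := by
    intro u hu
    have h5 : V ⊔ (frattini S).map S.subtype ≤ c.ker.map S.subtype := by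
      refine sup_le (fun v hv => ?_) (Subgroup.map_mono hker)
      refine ⟨⟨v, hV.1 hv⟩, ?_, rfl⟩
      rw [SetLike.mem_coe, MonoidHom.mem_ker, hc v (hVU hv)]
      show lam ⟨⟨v, _⟩, _⟩ ^ m = 1
      rw [h2 ⟨⟨v, hV.1 hv⟩, hVU hv⟩ hv, one_pow]
    obtain ⟨s, hs, hsu⟩ := h5 (h hu)
    have : s = ⟨u, hU.1 hu⟩ := Subtype.ext hsu
    rw [← this]; exact hs
  have h6 := hkill c₀.1.1 c₀.2
  have h7 : lam c₀ ^ m = 1 := (hc c₀.1.1 c₀.2).symm.trans h6
  have hcop : m.Coprime (orderOf (lam c₀)) := Nat.Coprime.coprime_dvd_right (orderOf_dvd_of_pow_eq_one (h4 _))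
    ((Nat.Prime.coprime_iff_not_dvd hp.out).2 hm).symm
  have h8 : orderOf (lam c₀) = 1 := Nat.Coprime.eq_one_of_dvd hcop.symm (orderOf_dvd_of_pow_eq_one h7)
  exact hc₀ (orderOf_eq_one_iff.1 h8)

theorem comm_le_frattini [Finite S] [hp : Fact p.Prime] (hS : IsPGroup p S) : ⁅S, S⁆ ≤ (frattini S).map S.subtype := by
  have h8 : (_root_.commutator S).map S.subtype = ⁅S, S⁆ := by
    rw [commutator_def, Subgroup.map_commutator]
    simp [← MonoidHom.range_eq_map]
  rw [← h8]
  exact Subgroup.map_mono (CfsgLib.LE.commutator_le_frattini (p := p) hS)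

theorem hyp_mono {H : FusionSystem S} (hHF : H.IsSubsystemOf F) : H.hyperfocalSubgroup p ≤ F.hyperfocalSubgroup p := by
  rw [FusionSystem.hyperfocalSubgroup, Subgroup.closure_le]
  rintro _ ⟨P, α, x, hP, hα, rfl⟩
  obtain ⟨β, hβ, hβα⟩ := Op_mono (F := F) (p := p) hHF hP le_rfl ⟨α, hα, rfl⟩
  refine Subgroup.subset_closure ⟨P, β, x, hP, hβ, ?_⟩
  have : ((β : MulAut P)) = ((α : MulAut P)) := hβα
  rw [this]

/-- S5224 -/
theorem tate_iff [Finite S] [hp : Fact p.Prime] (hS : IsPGroup p S) (hF : F.IsSaturated p) {H : FusionSystem S} (hH : H.IsSaturated p)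
    (hHF : H.IsSubsystemOf F) : (((frattini S).map S.subtype ⊔ F.focalSubgroup) = ((frattini S).map S.subtype ⊔ H.focalSubgroup) →
      F.hyperfocalSubgroup p = H.hyperfocalSubgroup p) := by
  intro h
  have hle := hyp_mono (p := p) hHF
  refine le_antisymm (tate hS hF (hyp_normIn H p) ?_ hle) hle
  have h1 : F.hyperfocalSubgroup p ≤ (frattini S).map S.subtype ⊔ F.focalSubgroup := by
    rw [focal_eq hS hF]
    exact le_sup_left.trans le_sup_right
  refine h1.trans ?_
  rw [h, focal_eq hS hH]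
  exact sup_le le_sup_right (sup_le le_sup_left ((comm_le_frattini hS).trans le_sup_right))

/-- a saturated system with focal subgroup contained in the Frattini subgroup is inner -/
theorem inner_of_focal_le [Finite S] [hp : Fact p.Prime] (hS : IsPGroup p S) (hF : F.IsSaturated p)
    (h : F.focalSubgroup ≤ (frattini S).map S.subtype) (P : Subgroup Ω) : F.Hom P = (innerFusionSystem S).Hom P := by
  have h1 : F.hyperfocalSubgroup p ≤ ⊥ := by
    refine tate hS hF ⟨bot_le, fun s hs u hu => by rw [Subgroup.mem_bot.1 hu]; simp⟩ ?_ bot_le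
    rw [bot_sup_eq]
    refine le_trans ?_ h
    rw [focal_eq hS hF]
    exact le_sup_left
  refine inner_of_pprime hS hF (fun P hP α hα ho => ?_) P
  have hPS : P ≤ S := by
    rcases hP with rfl | hP
    · exact le_rfl
    · exact hP.1.1
  apply MulEquiv.ext
  intro x
  have h2 := h1 (hypLe_self P hPS α hα ho x)
  rw [Subgroup.mem_bot, inv_mul_eq_one] at h2
  exact Subtype.ext h2.symm

end CfsgLib.FT
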