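import Cfsg.Agent.LibFT21

set_option autoImplicit false

/-! Fusion modulo a strongly closed subgroup with abelian quotient (helper1) -/

namespace CfsgLib.FT

open Cfsg Cfsg.FusionSystem CfsgLib.Fus21
open scoped commutatorElement

universe u

variable {Ω : Type u} [Group Ω] {S : Subgroup Ω} {F : FusionSystem S} {p : ℕ} {U : Subgroup Ω}

theorem comm_mem_Q {Q : Subgroup Ω} (hc : ⁅S, S⁆ ≤ Q) {x s : Ω} (hx : x ∈ S) (hs : s ∈ S) : x⁻¹ * (s * x * s⁻¹) ∈ Q := by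
  refine hc ?_
  have : x⁻¹ * (s * x * s⁻¹) = ⁅x⁻¹, s⁆ := by rw [commutatorElement_def]; group
  rw [this]
  exact Subgroup.commutator_mem_commutator (S.inv_mem hx) hs

theorem normal_of_ge {Q R : Subgroup Ω} (hc : ⁅S, S⁆ ≤ Q) (hQR : Q ≤ R) (hRS : R ≤ S) : S ≤ normalizerIn S R := by
  have key : ∀ s ∈ S, ∀ x ∈ R, s * x * s⁻¹ ∈ R := by
    intro s hs x hx
    have e : s * x * s⁻¹ = x * (x⁻¹ * (s * x * s⁻¹)) := by group
    rw [e]
    exact R.mul_mem hx (hQR (comm_mem_Q hc (hRS hx) hs))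
  intro s hs
  rw [mem_normalizerIn]
  refine ⟨hs, fun x => ⟨key s hs x, fun hx => ?_⟩⟩
  have := key s⁻¹ (S.inv_mem hs) _ hx
  rwa [show s⁻¹ * (s * x * s⁻¹) * s⁻¹⁻¹ = x by group] at this

theorem congr_mod [Finite S] [hp : Fact p.Prime] (hS : IsPGroup p S) (hF : F.IsSaturated p) {Q : Subgroup Ω} (hQ : F.StronglyClosed Q)
    (hc : ⁅S, S⁆ ≤ Q) (hA : ∀ α ∈ F.autGroup S, ∀ x : S, (x : Ω)⁻¹ * ((α x : S) : Ω) ∈ Q) {P : Subgroup Ω} {φ : P →* Ω} (hφ : φ ∈ F.Hom P)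
    (x : P) : (x : Ω)⁻¹ * φ x ∈ Q := by
  -- the case `Q ≤ R`
  have key : ∀ (R : Subgroup Ω) (ψ : R →* Ω), ψ ∈ F.Hom R → Q ≤ R → ∀ x : R, (x : Ω)⁻¹ * ψ x ∈ Q := by
    intro R ψ hψ hQR x
    have hRS : R ≤ S := (F.le_of_mem hψ).1
    obtain ⟨R', hR'⟩ : ∃ R', ψ.range = R' := ⟨_, rfl⟩
    obtain ⟨e, he, hex⟩ := exists_iso hψ hR'
    have hR'S : R' ≤ S := iso_le_right he
    have heQ : ∀ z (hz : z ∈ Q), (e ⟨z, hQR hz⟩ : Ω) ∈ Q := fun z hz => by
      rw [hex]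
      exact hQ.2 Q le_rfl (ψ.comp (Subgroup.inclusion hQR)) (restrict_mem hψ hQR) ⟨z, hz⟩
    have hQR' : Q ≤ R' := by
      -- by cardinality
      haveI : Finite Q := finite_of_le hQ.1
      have h1 : (ψ.comp (Subgroup.inclusion hQR)).range = Q := by
        apply Subgroup.eq_of_le_of_card_ge
        · rintro _ ⟨z, rfl⟩
          exact hQ.2 Q le_rfl (ψ.comp (Subgroup.inclusion hQR)) (restrict_mem hψ hQR) z
        · rw [← Nat.card_congr (MonoidHom.ofInjective (f := ψ.comp (Subgroup.inclusion hQR))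
            (F.injective_of_mem (restrict_mem hψ hQR))).toEquiv]
      rw [← h1, ← hR']
      rintro _ ⟨z, rfl⟩
      exact ⟨_, rfl⟩
    have hRn := normal_of_ge hc hQR hRS
    have hR'n := normal_of_ge hc hQR' hR'S
    have hR'fn : F.IsFullyNormalized R' := fn_of_le' F hR'S hR'n
    haveI := finite_autGroup F hR'S
    let C : Subgroup (MulAut R') :=
      { carrier := {γ | γ ∈ F.autGroup R' ∧ ∀ y : R', (y : Ω)⁻¹ * ((γ y : R') : Ω) ∈ Q}
        one_mem' := ⟨Subgroup.one_mem _, fun y => by rw [MulAut.one_apply, inv_mul_cancel]; exact Q.one_mem⟩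
        mul_mem' := by
          rintro γ δ ⟨h1, h2⟩ ⟨h3, h4⟩
          refine ⟨Subgroup.mul_mem _ h1 h3, fun y => ?_⟩
          rw [MulAut.mul_apply]
          have e : (y : Ω)⁻¹ * ((γ (δ y) : R') : Ω) = ((y : Ω)⁻¹ * ((δ y : R') : Ω)) * (((δ y : R') : Ω)⁻¹ * ((γ (δ y) : R') : Ω)) := by group
          rw [e]
          exact Q.mul_mem (h4 y) (h2 _)
        inv_mem' := by
          rintro γ ⟨h1, h2⟩
          refine ⟨Subgroup.inv_mem _ h1, fun y => ?_⟩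
          have h3 := h2 (γ⁻¹ y)
          rw [MulAut.apply_inv_self] at h3
          have := Q.inv_mem h3
          rwa [mul_inv_rev, inv_inv] at this }
    have hCle : C ≤ F.autGroup R' := fun γ hγ => hγ.1
    haveI : Finite C := Finite.of_injective (Subgroup.inclusion hCle) (Subgroup.inclusion_injective _)
    have hSC : autInducedBy S R' ≤ C := by
      intro γ hγ
      refine ⟨autInducedBy_le_autGroup F hR'S hγ, fun y => ?_⟩
      obtain ⟨s, hs, h1⟩ := mem_autInducedBy.1 hγ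
      rw [h1]
      exact comm_mem_Q hc (hR'S y.2) hs
    have hidx : ¬ p ∣ (autInducedBy S R').relIndex C := by
      have h1 := ((fullyAutomized_iff hS).1 (sat_fn hS hF hR'fn).2).2
      rw [← Subgroup.relIndex_mul_relIndex _ _ _ hSC hCle] at h1
      exact fun h => h1 (h.mul_right _)
    have hK : (autInducedBy S R).map (autTransport e).toMonoidHom ≤ C := by
      rintro _ ⟨γ, hγ, rfl⟩
      refine ⟨(autTransport_mem he).2 (autInducedBy_le_autGroup F hRS hγ), fun y => ?_⟩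
      obtain ⟨s, hs, h1⟩ := mem_autInducedBy.1 hγ
      show (y : Ω)⁻¹ * ((e (γ (e.symm y)) : R') : Ω) ∈ Q
      have h2 : ((e.symm y : R) : Ω)⁻¹ * ((γ (e.symm y) : R) : Ω) ∈ Q := by
        rw [h1]; exact comm_mem_Q hc (hRS (e.symm y).2) hs
      have h3 := heQ _ h2
      have h4 : (⟨((e.symm y : R) : Ω)⁻¹ * ((γ (e.symm y) : R) : Ω), hQR h2⟩ : R) = (e.symm y)⁻¹ * γ (e.symm y) := rfl
      rw [h4, map_mul, map_inv, e.apply_symm_apply] at h3
      exact h3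
    obtain ⟨χ, hχ, hle⟩ := exists_conj_le (isPGroup_autInducedBy hS R') hidx hK ((isPGroup_autInducedBy hS R).map _)
    have he' : e.trans χ ∈ Iso F R R' := iso_trans he ((mem_autGroup hR'S).1 hχ.1)
    have hN : S ≤ extender S R (R'.subtype.comp (e.trans χ).toMonoidHom) := by
      intro g hg
      rw [mem_extender_iso]
      refine ⟨hg, nHom S R ⟨g, hRn hg⟩, fun x => rfl, ?_⟩
      apply hle
      refine ⟨autTransport e (nHom S R ⟨g, hRn hg⟩), ⟨_, ?_, rfl⟩, ?_⟩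
      · show nHom S R ⟨g, hRn hg⟩ ∈ autInducedBy S R
        rw [← nHom_range]
        exact ⟨_, rfl⟩
      · ext y
        rfl
    obtain ⟨ω, hω, hωe⟩ := receptive_extend (sat_fn_receptive hS hF hR'fn) he' hN
    obtain ⟨α, hα, hαω⟩ := exists_aut_of_hom hω (F.le_of_mem hω).2
    have h1 := hA α hα ⟨x, hRS x.2⟩
    rw [hαω, hωe x x.2] at h1
    have h2 := hχ.2 (e x)
    have h3 : (x : Ω)⁻¹ * ψ x = ((x : Ω)⁻¹ * ((χ (e x) : R') : Ω)) * (((e x : R') : Ω)⁻¹ * ((χ (e x) : R') : Ω))⁻¹ := by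
      rw [hex x]; group
    rw [h3]
    exact Q.mul_mem h1 (Q.inv_mem h2)
  obtain ⟨ψ, hψ, hψφ⟩ := exists_extension_mod hS hF hQ hφ
  have h1 := hψφ x x.2
  have h2 := key _ ψ hψ le_sup_right ⟨x, Subgroup.mem_sup_left x.2⟩
  have e : (x : Ω)⁻¹ * φ x = ((x : Ω)⁻¹ * ψ ⟨x, Subgroup.mem_sup_left x.2⟩) * ((φ ⟨x, x.2⟩)⁻¹ * ψ ⟨x, Subgroup.mem_sup_left x.2⟩)⁻¹ := by
    show _ = _ * ((φ x)⁻¹ * _)⁻¹
    group
  rw [e]
  exact Q.mul_mem h2 (Q.inv_mem h1)
where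
  fn_of_le' [Finite S] (F : FusionSystem S) {U : Subgroup Ω} (hU : U ≤ S) (h : S ≤ normalizerIn S U) : F.IsFullyNormalized U :=
    ⟨hU, fun R _ => by
      haveI : Finite (normalizerIn S U) := finite_of_le (normalizerIn_le S U)
      exact Subgroup.card_le_of_le ((normalizerIn_le S R).trans h)⟩

theorem focal_le_of_mod [Finite S] [hp : Fact p.Prime] (hS : IsPGroup p S) (hF : F.IsSaturated p) {Q : Subgroup Ω} (hQ : F.StronglyClosed Q)
    (hc : ⁅S, S⁆ ≤ Q) (hA : ∀ α ∈ F.autGroup S, ∀ x : S, (x : Ω)⁻¹ * ((α x : S) : Ω) ∈ Q) : F.focalSubgroup ≤ Q := by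
  rw [FusionSystem.focalSubgroup, Subgroup.closure_le]
  rintro _ ⟨P, φ, x, hφ, rfl⟩
  exact congr_mod hS hF hQ hc hA hφ x

/-- if the normalizer system of `S` is inner, `Aut_F(S)` is inner -/
theorem aut_inner [Finite S] {Q : Subgroup Ω} (hc : ⁅S, S⁆ ≤ Q)
    (hN : ∀ N : FusionSystem (normalizerIn S S), F.IsNormalizerSystem S N → ∀ P : Subgroup Ω, N.Hom P = (innerFusionSystem (normalizerIn S S)).Hom P) :
    ∀ α ∈ F.autGroup S, ∀ x : S, (x : Ω)⁻¹ * ((α x : S) : Ω) ∈ Q := by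
  intro α hα x
  have hSN : S ≤ normalizerIn S S := le_normalizerIn le_rfl
  have h1 : S.subtype.comp (α : S ≃* S).toMonoidHom ∈ (normSys F S le_rfl).Hom S := by
    rw [normSys_is F S le_rfl S]
    refine ⟨(mem_autGroup le_rfl).1 hα, hSN, fun x => hSN (α x).2, ?_⟩
    have h2 : S ⊔ S ≤ S := sup_le le_rfl le_rfl
    refine ⟨(S.subtype.comp (α : S ≃* S).toMonoidHom).comp (Subgroup.inclusion h2), restrict_mem ((mem_autGroup le_rfl).1 hα) h2, fun x => rfl, ?_⟩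
    ext y
    constructor
    · rintro ⟨z, -, rfl⟩; exact (α _).2
    · intro hy
      refine ⟨⟨((α⁻¹ ⟨y, hy⟩ : S) : Ω), Subgroup.mem_sup_left (Subtype.mem _)⟩, Subtype.mem (α⁻¹ ⟨y, hy⟩), ?_⟩
      show ((α (α⁻¹ ⟨y, hy⟩) : S) : Ω) = y
      rw [MulAut.apply_inv_self]
  rw [hN _ (normSys_is F S le_rfl)] at h1
  obtain ⟨-, g, hg, h2⟩ := h1
  have h3 : ((α x : S) : Ω) = g * x * g⁻¹ := h2 x
  rw [h3]
  exact comm_mem_Q hc x.2 ((normalizerIn_le S S) hg)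

end CfsgLib.FT
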