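import Cfsg.Agent.LibFT22

set_option autoImplicit false

/-! S5222 and S5276 (helper1) -/

namespace CfsgLib.FT

open Cfsg Cfsg.FusionSystem CfsgLib.Fus21
open scoped commutatorElement

universe u

variable {Ω : Type u} [Group Ω] {S : Subgroup Ω} {F : FusionSystem S} {p : ℕ} {U : Subgroup Ω}

theorem inner_aux {T : Subgroup Ω} (hT : T = S) [Finite S] [hp : Fact p.Prime] (hS : IsPGroup p S) (N : FusionSystem T)
    (hN : N.IsSaturated p) (hsub : N.IsSubsystemOf F) {Q : Subgroup Ω} (hQ : N.StronglyClosed Q) (hc : ⁅S, S⁆ ≤ Q)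
    (hQΦ : Q ≤ (frattini S).map S.subtype) (hA : ∀ α ∈ F.autGroup S, ∀ x : S, (x : Ω)⁻¹ * ((α x : S) : Ω) ∈ Q) :
    ∀ P, N.Hom P = (innerFusionSystem T).Hom P := by
  subst hT
  refine inner_of_focal_le hS hN ((focal_le_of_mod hS hN hQ hc fun α hα => hA α ?_).trans hQΦ)
  rw [mem_autGroup le_rfl] at hα ⊢
  exact hsub _ hα

theorem comm_map_eq (S : Subgroup Ω) : (_root_.commutator S).map S.subtype = ⁅S, S⁆ := by
  rw [commutator_def, Subgroup.map_commutator]
  simp [← MonoidHom.range_eq_map]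

theorem fnLe [Finite S] (F : FusionSystem S) {U : Subgroup Ω} (hU : U ≤ S) (h : S ≤ normalizerIn S U) : F.IsFullyNormalized U :=
  ⟨hU, fun R _ => by
    haveI : Finite (normalizerIn S U) := finite_of_le (normalizerIn_le S U)
    exact Subgroup.card_le_of_le ((normalizerIn_le S R).trans h)⟩

/-- S5222 -/
theorem s5222 [Finite S] [hp : Fact p.Prime] (hS : IsPGroup p S) (hF : F.IsSaturated p)
    (hN : ∀ N : FusionSystem (normalizerIn S S), F.IsNormalizerSystem S N → ∀ P : Subgroup Ω, N.Hom P = (innerFusionSystem (normalizerIn S S)).Hom P)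
    {Q : Subgroup Ω} (h1 : (_root_.commutator S).map S.subtype ≤ Q) (h2 : Q ≤ (frattini S).map S.subtype)
    (N : FusionSystem (normalizerIn S Q)) (hNQ : F.IsNormalizerSystem Q N) (P : Subgroup Ω) :
    N.Hom P = (innerFusionSystem (normalizerIn S Q)).Hom P := by
  rw [comm_map_eq] at h1
  have hQS : Q ≤ S := h2.trans (Subgroup.map_subtype_le _)
  have hle := normal_of_ge h1 le_rfl hQS
  have hT : normalizerIn S Q = S := le_antisymm (normalizerIn_le S Q) hle
  have hfn : F.IsFullyNormalized Q := fnLe F hQS hle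
  have hsat := normSys_saturated hS hF hfn
  have hEq : N = normSys F Q hfn.1 := fusionSystem_ext fun P => by rw [hNQ P, normSys_is F Q hfn.1 P]
  refine inner_aux (F := F) hT hS N (hEq ▸ hsat) (fun P φ hφ => ?_) ⟨?_, fun R hR φ hφ x => ?_⟩ h1 h2 (aut_inner h1 hN) P
  · rw [hNQ P] at hφ; exact hφ.1
  · rw [hT]; exact hQS
  · rw [hNQ R] at hφ
    obtain ⟨-, -, -, ψ, hψ, h3, h4⟩ := hφ
    rw [← h3 x]
    exact h4.le ⟨Subgroup.inclusion le_sup_left x, hR x.2, rfl⟩

/-- S5276 -/
theorem s5276 [Finite S] [hp : Fact p.Prime] (hS : IsPGroup p S) (hF : F.IsSaturated p) :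
    (∀ P : Subgroup Ω, F.Hom P = (innerFusionSystem S).Hom P) ↔ (∀ N : FusionSystem (normalizerIn S S), F.IsNormalizerSystem S N →
      ∀ P : Subgroup Ω, N.Hom P = (innerFusionSystem (normalizerIn S S)).Hom P) ∧ F.StronglyClosed ((frattini S).map S.subtype) := by
  have hNS : normalizerIn S S = S := le_antisymm (normalizerIn_le S S) (le_normalizerIn le_rfl)
  constructor
  · intro h
    refine ⟨fun N hN P => ?_, ?_⟩
    · rw [hN P]
      ext φ
      constructor
      · rintro ⟨h1, h2, h3, -⟩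
        rw [h] at h1
        obtain ⟨-, g, hg, hx⟩ := h1
        exact ⟨h2, g, by rw [hNS]; exact hg, hx⟩
      · rintro ⟨h1, g, hg, hx⟩
        rw [hNS] at h1 hg
        have hPS : P ⊔ S ≤ S := sup_le h1 le_rfl
        refine ⟨?_, by rw [hNS]; exact h1, fun x => ?_, conjHom (P ⊔ S) g, F.conj_mem hPS hg, fun x => (hx x).symm, ?_⟩
        · rw [h]; exact ⟨h1, g, hg, hx⟩
        · rw [hNS, hx]
          exact S.mul_mem (S.mul_mem hg (h1 x.2)) (S.inv_mem hg)
        · ext y
          constructor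
          · rintro ⟨z, hz, rfl⟩
            exact S.mul_mem (S.mul_mem hg hz) (S.inv_mem hg)
          · intro hy
            refine ⟨⟨g⁻¹ * y * g, Subgroup.mem_sup_right (S.mul_mem (S.mul_mem (S.inv_mem hg) hy) hg)⟩, S.mul_mem (S.mul_mem (S.inv_mem hg) hy) hg, ?_⟩
            show g * (g⁻¹ * y * g) * g⁻¹ = y
            group
    · refine ⟨Subgroup.map_subtype_le _, fun R hR φ hφ x => ?_⟩
      rw [h] at hφ
      obtain ⟨-, g, hg, hx⟩ := hφ
      rw [hx]
      obtain ⟨y, hy, hyx⟩ := hR x.2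
      have hn : (frattini S).Normal := inferInstance
      refine ⟨⟨g, hg⟩ * y * ⟨g, hg⟩⁻¹, hn.conj_mem y hy ⟨g, hg⟩, ?_⟩
      have hyx' : (y : Ω) = x := hyx
      show g * (y : Ω) * g⁻¹ = _
      rw [hyx']
  · rintro ⟨h1, h2⟩
    have hc := comm_le_frattini (p := p) hS
    exact inner_of_focal_le hS hF (focal_le_of_mod hS hF h2 hc (aut_inner hc h1))

end CfsgLib.FT
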