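import Mathlib.GroupTheory.Sylow
import Mathlib.GroupTheory.PGroup
import Mathlib.GroupTheory.GroupAction.Quotient
import Mathlib.Algebra.BigOperators.Group.Finset.Basic
import Mathlib.Tactic.Group
import Cfsg.Agent.LibLE10

set_option autoImplicit false

/-! Cocycles of a p-group on a finite set with trivial transfer: the combinatorial core of Yoshida's theorem (helper1) -/

namespace CfsgLib.FT

open scoped BigOperators

section

variable {G Y A : Type*} [Group G] [MulAction G Y] [CommGroup A]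

/-- cocycle -/
def IsCoc (c : G → Y → A) : Prop := ∀ g h q, c (g * h) q = c g (h • q) * c h q

theorem IsCoc.one {c : G → Y → A} (hc : IsCoc c) (q : Y) : c 1 q = 1 := by
  have := hc 1 1 q
  rw [mul_one, one_smul] at this
  exact (mul_eq_left.1 this.symm)

theorem IsCoc.potential {c : G → Y → A} (hc : IsCoc c) (H : Subgroup G) (h : ∀ k ∈ H, ∀ q : Y, k • q = q → c k q = 1) :
    ∃ f : Y → A, ∀ k ∈ H, ∀ q, c k q = f (k • q) * (f q)⁻¹ := by
  classical
  have h1 : ∀ x : Y, ∃ k : H, (k : G) • (Quotient.mk (MulAction.orbitRel H Y) x).out = x := fun x => by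
    have := Quotient.exact (Quotient.out_eq (Quotient.mk (MulAction.orbitRel H Y) x))
    obtain ⟨k, hk⟩ := (MulAction.orbitRel H Y).symm this
    exact ⟨k, hk⟩
  choose w hw using h1
  refine ⟨fun x => c (w x) (Quotient.mk (MulAction.orbitRel H Y) x).out, fun k hk x => ?_⟩
  have e : Quotient.mk (MulAction.orbitRel H Y) (k • x) = Quotient.mk (MulAction.orbitRel H Y) x := Quotient.sound ⟨⟨k, hk⟩, rfl⟩
  have h2 := hw (k • x)
  rw [e] at h2
  have h3 := hw x
  show c k x = c (w (k • x)) (Quotient.mk (MulAction.orbitRel H Y) (k • x)).out * (c (w x) (Quotient.mk (MulAction.orbitRel H Y) x).out)⁻¹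
  rw [e]
  set y := (Quotient.mk (MulAction.orbitRel H Y) x).out with hy
  have h4 : c ((w (k • x) : G)⁻¹ * (k * w x)) y = 1 := by
    refine h _ (H.mul_mem (H.inv_mem (w (k • x)).2) (H.mul_mem hk (w x).2)) y ?_
    rw [mul_smul, mul_smul, h3, inv_smul_eq_iff]
    exact h2.symm
  have h5 : ((w (k • x) : G)⁻¹ * (k * w x)) • y = y := by
    rw [mul_smul, mul_smul, h3, inv_smul_eq_iff]
    exact h2.symm
  have h6 : c (k * w x) y = c (w (k • x) : G) y := by
    have := hc (w (k • x) : G) ((w (k • x) : G)⁻¹ * (k * w x)) y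
    rwa [mul_inv_cancel_left, h4, h5, mul_one] at this
  rw [eq_mul_inv_iff_mul_eq, ← h6, hc, h3]

theorem IsCoc.prod_one [Fintype Y] {c : G → Y → A} (hc : IsCoc c) (x : G)
    (h : ∀ k ∈ Subgroup.zpowers x, ∀ q : Y, k • q = q → c k q = 1) : ∏ q, c x q = 1 := by
  obtain ⟨f, hf⟩ := hc.potential _ h
  have h1 : ∏ q, f (x • q) = ∏ q, f q := Equiv.prod_comp (MulAction.toPerm x) f
  rw [Finset.prod_congr rfl fun q _ => hf x (Subgroup.mem_zpowers x) q, Finset.prod_mul_distrib, Finset.prod_inv_distrib,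
    h1, mul_inv_cancel]

/-- the equivariant map to `G ⧸ M` -/
theorem exists_pi [MulAction.IsPretransitive G Y] {M : Subgroup G} (q₀ : Y) (hP : MulAction.stabilizer G q₀ ≤ M) :
    ∃ π : Y → G ⧸ M, ∀ (g : G) (q : Y), π (g • q) = g • π q := by
  choose r hr using fun q : Y => MulAction.exists_smul_eq G q₀ q
  refine ⟨fun q => (r q : G ⧸ M), fun g q => ?_⟩
  show ((r (g • q) : G) : G ⧸ M) = ((g * r q : G) : G ⧸ M)
  rw [QuotientGroup.eq]
  apply hP
  rw [MulAction.mem_stabilizer_iff, mul_smul, inv_smul_eq_iff, mul_smul, hr, hr]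

/-- Mackey-type formula -/
theorem IsCoc.prod_eq [Fintype Y] {c : G → Y → A} (hc : IsCoc c) {M : Subgroup G} [Fintype (G ⧸ M)] (hM : M.Normal) {π : Y → G ⧸ M}
    (hπ : ∀ (g : G) (q : Y), π (g • q) = g • π q) :
    ∃ ν : M →* A, ∀ x : M, ∏ q : Y, c x q = ∏ t : G ⧸ M, ν ⟨t.out⁻¹ * x * t.out, hM.conj_mem' x x.2 _⟩ := by
  classical
  let B : Finset Y := Finset.univ.filter fun q => π q = ((1 : G) : G ⧸ M)
  have hB : ∀ q, q ∈ B ↔ π q = ((1 : G) : G ⧸ M) := fun q => by simp [B]
  have hMB : ∀ (y : M) (q : Y), q ∈ B → (y : G) • q ∈ B := by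
    intro y q hq
    rw [hB] at hq ⊢
    rw [hπ, hq]
    show (((y : G) * 1 : G) : G ⧸ M) = _
    rw [QuotientGroup.eq]
    simp
  have hperm : ∀ (y : M) (f : Y → A), ∏ q ∈ B, f ((y : G) • q) = ∏ q ∈ B, f q := by
    intro y f
    refine Finset.prod_bij' (fun q _ => (y : G) • q) (fun q _ => (y : G)⁻¹ • q) (fun q hq => hMB y q hq) (fun q hq => ?_) ?_ ?_ ?_
    · have := hMB y⁻¹ q hq
      simpa using this
    · intro q _; exact inv_smul_smul _ _
    · intro q _; exact smul_inv_smul _ _
    · intro q _; rfl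
  let ν : M →* A := MonoidHom.mk' (fun y => ∏ q ∈ B, c y q) (fun a b => by
    show ∏ q ∈ B, c ((a : G) * (b : G)) q = _
    rw [Finset.prod_congr rfl fun q _ => hc a b q, Finset.prod_mul_distrib, hperm b (fun q => c a q)])
  refine ⟨ν, fun x => ?_⟩
  have hfib : ∀ t : G ⧸ M, ∏ q ∈ Finset.univ.filter (fun q => π q = t), c x q = ν ⟨t.out⁻¹ * x * t.out, hM.conj_mem' x x.2 _⟩ := by
    intro t
    have h1 : ∏ q ∈ Finset.univ.filter (fun q => π q = t), c x q = ∏ q ∈ B, c x (t.out • q) := by
      symm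
      refine Finset.prod_bij' (fun q _ => t.out • q) (fun q _ => t.out⁻¹ • q) (fun q hq => ?_) (fun q hq => ?_) ?_ ?_ ?_
      · rw [Finset.mem_filter]
        refine ⟨Finset.mem_univ _, ?_⟩
        rw [hπ, (hB q).1 hq]
        show ((t.out * 1 : G) : G ⧸ M) = t
        rw [mul_one, QuotientGroup.out_eq']
      · rw [Finset.mem_filter] at hq
        rw [hB, hπ, hq.2]
        have h9 : t.out⁻¹ • (((t.out : G) : G ⧸ M)) = ((1 : G) : G ⧸ M) := by
          show ((t.out⁻¹ * t.out : G) : G ⧸ M) = _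
          rw [inv_mul_cancel]
        rwa [QuotientGroup.out_eq'] at h9
      · intro q _; exact inv_smul_smul _ _
      · intro q _; exact smul_inv_smul _ _
      · intro q _; rfl
    rw [h1]
    have h2 : ∀ q, c x (t.out • q) = c t.out ((t.out⁻¹ * x * t.out) • q) * c (t.out⁻¹ * x * t.out) q * (c t.out q)⁻¹ := by
      intro q
      rw [← hc, eq_mul_inv_iff_mul_eq, ← hc]
      congr 1; group
    rw [Finset.prod_congr rfl fun q _ => h2 q, Finset.prod_mul_distrib, Finset.prod_mul_distrib, Finset.prod_inv_distrib,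
      hperm ⟨t.out⁻¹ * x * t.out, hM.conj_mem' x x.2 _⟩ (fun q => c t.out q), mul_right_comm, mul_inv_cancel, one_mul]
    rfl
  rw [← Finset.prod_congr rfl fun t _ => hfib t]
  exact (Finset.prod_fiberwise Finset.univ π (fun q => c x q)).symm

end

/-- the core -/
theorem yoshida_core {p : ℕ} [hp : Fact p.Prime] {G Y A : Type*} [Group G] [Finite G] (hG : IsPGroup p G) [MulAction G Y] [Fintype Y] [CommGroup A]
    (hA : ∀ a : A, a ^ p = 1) {c : G → Y → A} (hc : IsCoc c) (lam : G →* A) (hlam : ∃ x, lam x ≠ 1) (h1 : ∀ q : Y, (∀ g : G, g • q = q) → ∀ g, c g q = (lam g)⁻¹)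
    (h2 : ∀ (q : Y) (g : G), g • q = q → ∃ y, orderOf y ∣ orderOf g ∧ c g q = (lam y)⁻¹) (h3 : ∀ g, ∏ q, c g q = 1) (h4 : ¬ p ∣ Nat.card Y) :
    ∃ (M : Subgroup G) (hM : M.Normal) (ν : M →* A) (x : M), M.index = p ∧
      ∏ᶠ t : G ⧸ M, ν ⟨t.out⁻¹ * x * t.out, hM.conj_mem' x x.2 _⟩ ≠ 1 := by
  classical
  -- minimal order
  obtain ⟨x, hx, hmin⟩ : ∃ x, lam x ≠ 1 ∧ ∀ y, lam y ≠ 1 → orderOf x ≤ orderOf y := by
    obtain ⟨x, hx⟩ := (Set.toFinite {x : G | lam x ≠ 1}).exists_minimalFor orderOf _ hlam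
    exact ⟨x, hx.1, fun y hy => by
      rcases le_total (orderOf x) (orderOf y) with h | h
      · exact h
      · exact hx.2 hy h⟩
  -- a nontrivial orbit
  obtain ⟨q₀, hq₀, hprod⟩ : ∃ q₀ : Y, (∃ g : G, g • q₀ ≠ q₀) ∧ ∏ q : MulAction.orbit G q₀, c x q ≠ 1 := by
    by_contra hcon
    push Not at hcon
    let f : Y → A := fun q => if ∀ g : G, g • q = q then c x q else 1
    have e1 : ∏ q, c x q = ∏ q, f q := by
      rw [← Finset.prod_fiberwise Finset.univ (fun q => Quotient.mk (MulAction.orbitRel G Y) q) (fun q => c x q),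
        ← Finset.prod_fiberwise Finset.univ (fun q => Quotient.mk (MulAction.orbitRel G Y) q) f]
      refine Finset.prod_congr rfl fun ω _ => ?_
      induction ω using Quotient.inductionOn with | h q₀ =>
      by_cases hq : ∀ g : G, g • q₀ = q₀
      · refine Finset.prod_congr rfl fun q hq' => ?_
        rw [Finset.mem_filter] at hq'
        obtain ⟨g, hg⟩ := Quotient.exact hq'.2
        have hg' : g • q₀ = q := hg
        rw [hq] at hg'
        subst hg'
        show _ = if ∀ g : G, g • q₀ = q₀ then _ else _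
        rw [if_pos hq]
      · push Not at hq
        have h5 := hcon q₀ hq
        have h6 : ∏ q ∈ Finset.univ.filter (fun q => Quotient.mk (MulAction.orbitRel G Y) q = Quotient.mk (MulAction.orbitRel G Y) q₀), c x q =
            ∏ q : MulAction.orbit G q₀, c x q := by
          symm
          refine Finset.prod_bij' (fun q _ => q.1) (fun q hq => ⟨q, ?_⟩) (fun q _ => ?_) (fun q _ => Finset.mem_univ _) ?_ ?_ ?_
          · rw [Finset.mem_filter] at hq
            exact Quotient.exact hq.2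
          · rw [Finset.mem_filter]
            exact ⟨Finset.mem_univ _, Quotient.sound q.2⟩
          · intro q _; rfl
          · intro q _; rfl
          · intro q _; rfl
        rw [h6, h5]
        symm
        refine Finset.prod_eq_one fun q hq' => ?_
        rw [Finset.mem_filter] at hq'
        obtain ⟨g, hg⟩ := Quotient.exact hq'.2
        have hg' : g • q₀ = q := hg
        show (if ∀ g : G, g • q = q then c x q else 1) = 1
        rw [if_neg]
        intro h7
        obtain ⟨g', hg''⟩ := hq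
        apply hg''
        have h8 : q₀ = q := by
          have := h7 g⁻¹
          rwa [← hg', inv_smul_smul, hg'] at this
        rw [h8]
        exact h7 g'
    have e2 : ∏ q, f q = (lam x)⁻¹ ^ (Finset.univ.filter fun q : Y => ∀ g : G, g • q = q).card := by
      rw [← Finset.prod_const, Finset.prod_filter]
      refine Finset.prod_congr rfl fun q _ => ?_
      show (if ∀ g : G, g • q = q then c x q else 1) = _
      split_ifs with h
      · exact h1 q h x
      · rfl
    have e3 : Nat.card Y ≡ (Finset.univ.filter fun q : Y => ∀ g : G, g • q = q).card [MOD p] := by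
      have := hG.card_modEq_card_fixedPoints Y
      have e4 : Nat.card (MulAction.fixedPoints G Y) = (Finset.univ.filter fun q : Y => ∀ g : G, g • q = q).card := by
        rw [Nat.card_eq_fintype_card, Fintype.card_subtype]
        rfl
      rwa [e4] at this
    rw [h3 x, e2] at e1
    have e5 : orderOf (lam x)⁻¹ ∣ (Finset.univ.filter fun q : Y => ∀ g : G, g • q = q).card := orderOf_dvd_of_pow_eq_one e1.symm
    have e6 : orderOf (lam x)⁻¹ = p := orderOf_eq_prime (hA _) (inv_ne_one.2 hx)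
    rw [e6] at e5
    exact h4 ((Nat.modEq_zero_iff_dvd).1 (e3.trans ((Nat.modEq_zero_iff_dvd).2 e5)))
  -- the maximal subgroup
  let q₁ : MulAction.orbit G q₀ := ⟨q₀, MulAction.mem_orbit_self _⟩
  have hstab : MulAction.stabilizer G q₁ ≠ ⊤ := by
    intro h
    obtain ⟨g, hg⟩ := hq₀
    have : g ∈ MulAction.stabilizer G q₁ := by rw [h]; exact Subgroup.mem_top _
    exact hg (congrArg Subtype.val (MulAction.mem_stabilizer_iff.1 this))
  obtain ⟨M, hM, hMP⟩ := (eq_top_or_exists_le_coatom (MulAction.stabilizer G q₁)).resolve_left hstab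
  obtain ⟨hMn, hMi⟩ := CfsgLib.LE.coatom_normal_index hG hM
  obtain ⟨π, hπ⟩ := exists_pi (M := M) q₁ hMP
  let c' : G → MulAction.orbit G q₀ → A := fun g q => c g q.1
  have hc' : IsCoc c' := fun g h q => hc g h q.1
  haveI := Fintype.ofFinite (G ⧸ M)
  by_cases hxM : x ∈ M
  · obtain ⟨ν, hν⟩ := hc'.prod_eq hMn hπ
    refine ⟨M, hMn, ν, ⟨x, hxM⟩, hMi, ?_⟩
    rw [finprod_eq_prod_of_fintype, ← hν ⟨x, hxM⟩]
    exact hprod
  · exfalso
    apply hprod
    refine hc'.prod_one x fun k hk q hkq => ?_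
    obtain ⟨i, rfl⟩ := Subgroup.mem_zpowers_iff.1 hk
    have h5 : x ^ i ∈ M := by
      have h6 := hπ (x ^ i) q
      rw [hkq] at h6
      have h7 : ((x ^ i * (π q).out : G) : G ⧸ M) = (((π q).out : G) : G ⧸ M) := by
        rw [QuotientGroup.out_eq']
        refine Eq.trans ?_ h6.symm
        conv_rhs => rw [← QuotientGroup.out_eq' (π q)]
        rfl
      rw [eq_comm, QuotientGroup.eq] at h7
      have h8 := hMn.conj_mem _ h7 ((π q).out)
      have h9 : (π q).out * ((π q).out⁻¹ * (x ^ i * (π q).out)) * (π q).out⁻¹ = x ^ i := by group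
      rwa [h9] at h8
    have h6 : (p : ℤ) ∣ i := by
      have h7 : orderOf (x : G ⧸ M) = p := by
        refine orderOf_eq_prime ?_ ?_
        · have := pow_card_eq_one' (x := (x : G ⧸ M))
          rwa [← Subgroup.index_eq_card, hMi] at this
        · rwa [Ne, QuotientGroup.eq_one_iff]
      rw [← h7, orderOf_dvd_iff_zpow_eq_one]
      have : ((x ^ i : G) : G ⧸ M) = 1 := (QuotientGroup.eq_one_iff _).2 h5
      rwa [QuotientGroup.mk_zpow] at this
    obtain ⟨y, hy1, hy2⟩ := h2 q.1 (x ^ i) (congrArg Subtype.val hkq)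
    show c (x ^ i) q.1 = 1
    rw [hy2, inv_eq_one]
    by_contra hne
    have h7 := hmin y hne
    have hx1 : x ≠ 1 := fun h => hx (by rw [h, map_one])
    have hpx : p ∣ orderOf x := by
      obtain ⟨n, hn⟩ := IsPGroup.iff_orderOf.1 hG x
      rw [hn]
      refine dvd_pow_self p fun h0 => hx1 ?_
      rw [h0, pow_zero, orderOf_eq_one_iff] at hn
      exact hn
    have h8 : orderOf (x ^ i) ∣ orderOf x / p := by
      obtain ⟨j, rfl⟩ := h6
      rw [zpow_mul, zpow_natCast]
      refine (orderOf_dvd_of_mem_zpowers (Subgroup.zpow_mem_zpowers (x ^ p) j)).trans ?_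
      rw [orderOf_pow, Nat.gcd_eq_right hpx]
    have h9 : orderOf x / p < orderOf x := Nat.div_lt_self (orderOf_pos x) hp.out.one_lt
    have h10 : 0 < orderOf x / p := Nat.div_pos (Nat.le_of_dvd (orderOf_pos x) hpx) hp.out.pos
    have := Nat.le_of_dvd h10 (hy1.trans h8)
    omega

end CfsgLib.FT
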