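import Mathlib.GroupTheory.Sylow
import Mathlib.GroupTheory.PGroup
import Mathlib.GroupTheory.GroupAction.Quotient
import Mathlib.Algebra.BigOperators.Group.Finset.Basic
import Mathlib.Algebra.BigOperators.Finprod
import Mathlib.NumberTheory.Padics.PadicVal.Basic
import Mathlib.Data.Nat.Factorization.Basic
import Mathlib.Data.Nat.Multiplicity
import Mathlib.LinearAlgebra.Dual.Lemmas
import Mathlib.Algebra.Module.ZMod
import Mathlib.Algebra.Field.ZMod
import Mathlib.Tactic

set_option autoImplicit false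

/-! The wreath product quotient (helper1) -/

namespace CfsgLib.FT

open scoped BigOperators

theorem fact_perm (p : ℕ) [hp : Fact p.Prime] : (Nat.card (Equiv.Perm (Fin (p ^ 2)))).factorization p = p + 1 := by
  classical
  rw [Nat.card_eq_fintype_card, Fintype.card_perm, Fintype.card_fin]
  have h1 : Nat.log p (p ^ 2) < 3 := by rw [Nat.log_pow hp.out.one_lt]; norm_num
  rw [Nat.factorization_factorial hp.out h1]
  have : Finset.Ico 1 3 = {1, 2} := rfl
  rw [this, Finset.sum_pair (by norm_num)]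
  rw [pow_one, pow_two, Nat.mul_div_cancel _ hp.out.pos, Nat.div_self (Nat.mul_pos hp.out.pos hp.out.pos)]

theorem wreath_quot {p : ℕ} [hp : Fact p.Prime] {G : Type*} [Group G] [Finite G] (hG : IsPGroup p G) {M : Subgroup G} (hM : M.Normal) (hMi : M.index = p)
    (ν : M →* Multiplicative (ZMod p)) (x : M) (hx : ∏ᶠ t : G ⧸ M, ν ⟨t.out⁻¹ * x * t.out, hM.conj_mem' x x.2 _⟩ ≠ 1) :
    ∃ (W : Sylow p (Equiv.Perm (Fin (p ^ 2)))) (f : G →* (W : Subgroup (Equiv.Perm (Fin (p ^ 2))))), Function.Surjective f := by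
  classical
  haveI := Fintype.ofFinite (G ⧸ M)
  let nv : G → M → ZMod p := fun g y => Multiplicative.toAdd (ν ⟨g⁻¹ * y * g, hM.conj_mem' y y.2 g⟩)
  have hnvM : ∀ g (m : M) y, nv (g * m) y = nv g y := by
    intro g m y
    have : (⟨(g * m)⁻¹ * y * (g * m), hM.conj_mem' y y.2 (g * m)⟩ : M) = m⁻¹ * ⟨g⁻¹ * y * g, hM.conj_mem' y y.2 g⟩ * m := by
      apply Subtype.ext
      show (g * m : G)⁻¹ * y * (g * m) = (m : G)⁻¹ * (g⁻¹ * y * g) * m
      group
    show Multiplicative.toAdd (ν _) = _
    rw [this]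
    have h1 : ν (m⁻¹ * ⟨g⁻¹ * y * g, hM.conj_mem' y y.2 g⟩ * m) = ν ⟨g⁻¹ * y * g, hM.conj_mem' y y.2 g⟩ := by
      rw [map_mul ν, map_mul ν, map_inv ν, mul_comm, mul_inv_cancel_left]
    rw [h1]
  have hnvout : ∀ (g : G) y, nv (((g : G) : G ⧸ M).out) y = nv g y := by
    intro g y
    obtain ⟨m, hm⟩ := QuotientGroup.mk_out_eq_mul M g
    rw [hm, hnvM]
  have hnvadd : ∀ g y z, nv g (y * z) = nv g y + nv g z := by
    intro g y z
    have : (⟨g⁻¹ * (y * z : M) * g, hM.conj_mem' _ (y * z).2 g⟩ : M) = ⟨g⁻¹ * y * g, hM.conj_mem' y y.2 g⟩ * ⟨g⁻¹ * z * g, hM.conj_mem' z z.2 g⟩ := by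
      apply Subtype.ext
      show g⁻¹ * ((y : G) * z) * g = (g⁻¹ * y * g) * (g⁻¹ * z * g)
      group
    show Multiplicative.toAdd (ν _) = _
    rw [this, map_mul]
    rfl
  have hnvconj : ∀ g h (y : M), nv (g * h) y = nv h ⟨g⁻¹ * y * g, hM.conj_mem' y y.2 g⟩ := by
    intro g h y
    show Multiplicative.toAdd (ν _) = Multiplicative.toAdd (ν _)
    congr 2
    apply Subtype.ext
    show (g * h)⁻¹ * (y : G) * (g * h) = h⁻¹ * (g⁻¹ * y * g) * h
    group
  -- relations
  let R : AddSubgroup (G ⧸ M → ZMod p) :=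
    { carrier := {a | ∀ y, ∑ t, a t * nv t.out y = 0}
      zero_mem' := fun y => by simp
      add_mem' := fun {a b} ha hb y => by
        have : ∀ t, (a + b) t * nv t.out y = a t * nv t.out y + b t * nv t.out y := fun t => by rw [Pi.add_apply, add_mul]
        rw [Finset.sum_congr rfl fun t _ => this t, Finset.sum_add_distrib, ha y, hb y, add_zero]
      neg_mem' := fun {a} ha y => by
        have : ∀ t, (-a) t * nv t.out y = -(a t * nv t.out y) := fun t => by rw [Pi.neg_apply, neg_mul]
        rw [Finset.sum_congr rfl fun t _ => this t, Finset.sum_neg_distrib, ha y, neg_zero] }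
  have hR : ∀ a, a ∈ R ↔ ∀ y, ∑ t, a t * nv t.out y = 0 := fun a => Iff.rfl
  have hstab : ∀ (g : G) (a : G ⧸ M → ZMod p), a ∈ R → (fun t => a (g⁻¹ • t)) ∈ R := by
    intro g a ha y
    have h1 := (hR a).1 ha ⟨g⁻¹ * y * g, hM.conj_mem' y y.2 g⟩
    rw [← h1]
    rw [← Equiv.sum_comp (MulAction.toPerm g : Equiv.Perm (G ⧸ M))]
    refine Finset.sum_congr rfl fun t _ => ?_
    show a (g⁻¹ • g • t) * nv (g • t).out y = _
    rw [inv_smul_smul, ← hnvconj]
    congr 1
    have h2 : g • t = ((g * t.out : G) : G ⧸ M) := by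
      conv_lhs => rw [← QuotientGroup.out_eq' t]
      rfl
    rw [h2, hnvout]
  letI : MulAction G R :=
    { smul := fun g a => ⟨fun t => a.1 (g⁻¹ • t), hstab g a.1 a.2⟩
      one_smul := fun a => by
        apply Subtype.ext
        funext t
        show a.1 ((1 : G)⁻¹ • t) = a.1 t
        rw [inv_one, one_smul]
      mul_smul := fun g h a => by
        apply Subtype.ext
        funext t
        show a.1 ((g * h)⁻¹ • t) = a.1 (h⁻¹ • g⁻¹ • t)
        rw [mul_inv_rev, mul_smul] }
  have hRbot : ∀ a ∈ R, a = 0 := by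
    by_contra hcon
    push Not at hcon
    obtain ⟨a, ha, ha0⟩ := hcon
    have hord : addOrderOf (⟨a, ha⟩ : R) = p := by
      refine addOrderOf_eq_prime ?_ ?_
      · apply Subtype.ext
        funext t
        show p • a t = 0
        rw [nsmul_eq_mul, CharP.cast_eq_zero, zero_mul]
      · intro h; exact ha0 (congrArg Subtype.val h)
    have hdvd : p ∣ Nat.card R := by
      have := addOrderOf_dvd_natCard (⟨a, ha⟩ : R)
      rwa [hord] at this
    have h0 : (0 : R) ∈ MulAction.fixedPoints G R := fun g => rfl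
    obtain ⟨b, hb, hb0⟩ := hG.exists_fixed_point_of_prime_dvd_card_of_fixed_point R hdvd h0
    have hconst : ∀ t, b.1 t = b.1 ((1 : G) : G ⧸ M) := by
      intro t
      have h1 := congrArg Subtype.val (hb t.out)
      have h2 := congrFun h1 t
      have h3 : t.out⁻¹ • t = ((1 : G) : G ⧸ M) := by
        have h9 : t.out⁻¹ • (((t.out : G) : G ⧸ M)) = ((1 : G) : G ⧸ M) := by
          show ((t.out⁻¹ * t.out : G) : G ⧸ M) = _
          rw [inv_mul_cancel]
        rwa [QuotientGroup.out_eq'] at h9
      have h4 : b.1 (t.out⁻¹ • t) = b.1 t := h2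
      rw [← h4, h3]
    have hb1 : b.1 ((1 : G) : G ⧸ M) ≠ 0 := by
      intro h
      apply hb0
      symm
      apply Subtype.ext
      funext t
      rw [hconst t, h]
      rfl
    apply hx
    rw [finprod_eq_prod_of_fintype]
    have h5 := (hR _).1 b.2 x
    rw [Finset.sum_congr rfl fun t _ => by rw [hconst t], ← Finset.mul_sum] at h5
    have h6 := (mul_eq_zero.1 h5).resolve_left hb1
    have h7 : Multiplicative.toAdd (∏ t : G ⧸ M, ν ⟨t.out⁻¹ * x * t.out, hM.conj_mem' x x.2 _⟩) = ∑ t : G ⧸ M, nv t.out x := by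
      rw [toAdd_prod]
    rw [h6] at h7
    exact Multiplicative.toAdd.injective h7
  -- surjectivity
  let Ψ : M →* Multiplicative (G ⧸ M → ZMod p) := MonoidHom.mk' (fun y => Multiplicative.ofAdd fun t => nv t.out y) (fun y z => by
    show Multiplicative.ofAdd _ = Multiplicative.ofAdd _
    congr 1
    funext t
    exact hnvadd _ _ _)
  have hsurj : Function.Surjective Ψ := by
    let W0 : AddSubgroup (G ⧸ M → ZMod p) :=
      { carrier := {v | ∃ y, ∀ t, v t = nv t.out y}
        zero_mem' := ⟨1, fun t => by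
          have := hnvadd t.out 1 1
          rw [mul_one] at this
          show (0 : ZMod p) = _
          exact (add_eq_left.1 this.symm).symm⟩
        add_mem' := by
          rintro a b ⟨y, hy⟩ ⟨z, hz⟩
          exact ⟨y * z, fun t => by rw [Pi.add_apply, hy, hz, hnvadd]⟩
        neg_mem' := by
          rintro a ⟨y, hy⟩
          refine ⟨y⁻¹, fun t => ?_⟩
          have h1 := hnvadd t.out y y⁻¹
          have h2 : nv t.out 1 = 0 := by
            have := hnvadd t.out 1 1
            rw [mul_one] at this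
            exact (add_eq_left.1 this.symm)
          rw [mul_inv_cancel, h2] at h1
          rw [Pi.neg_apply, hy]
          exact (neg_eq_of_add_eq_zero_right h1.symm) }
    have hW0 : AddSubgroup.toZModSubmodule p W0 = ⊤ := by
      by_contra hne
      obtain ⟨f, hf0, hf⟩ := Submodule.exists_le_ker_of_lt_top _ (lt_top_iff_ne_top.2 hne)
      apply hf0
      have ha : (fun t => f fun j => if t = j then 1 else 0) ∈ R := by
        intro y
        have h1 : (fun t => nv t.out y) ∈ AddSubgroup.toZModSubmodule p W0 := ⟨y, fun t => rfl⟩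
        have h2 := hf h1
        rw [LinearMap.mem_ker, LinearMap.pi_apply_eq_sum_univ] at h2
        refine Eq.trans ?_ h2
        exact Finset.sum_congr rfl fun t _ => mul_comm _ _
      have h3 := hRbot _ ha
      apply LinearMap.ext
      intro v
      rw [LinearMap.pi_apply_eq_sum_univ]
      rw [LinearMap.zero_apply]
      refine Finset.sum_eq_zero fun t _ => ?_
      have h4 := congrFun h3 t
      have h5 : (f fun j => if t = j then 1 else 0) = 0 := h4
      rw [h5, smul_zero]
    intro v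
    have h1 : Multiplicative.toAdd v ∈ AddSubgroup.toZModSubmodule p W0 := by rw [hW0]; trivial
    obtain ⟨y, hy⟩ := h1
    refine ⟨y, ?_⟩
    apply Multiplicative.toAdd.injective
    funext t
    exact (hy t).symm
  -- the subgroup of index `p ^ 2`
  let L : Subgroup G := ν.ker.map M.subtype
  have hLM : L ≤ M := by rintro _ ⟨y, -, rfl⟩; exact y.2
  have hmemL : ∀ y : M, (y : G) ∈ L ↔ ν y = 1 := by
    intro y
    constructor
    · rintro ⟨z, hz, hzy⟩
      have : z = y := Subtype.ext hzy
      rw [← this]; exact hz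
    · intro h; exact ⟨y, h, rfl⟩
  have hLi : L.index = p ^ 2 := by
    rw [← Subgroup.relIndex_mul_index hLM, hMi, pow_two]
    congr 1
    have h1 : L.subgroupOf M = ν.ker := by
      ext y
      rw [Subgroup.mem_subgroupOf, hmemL, MonoidHom.mem_ker]
    rw [Subgroup.relIndex, h1, Subgroup.index_ker]
    have h2 : Function.Surjective ν := by
      intro a
      let v : G ⧸ M → ZMod p := fun _ => Multiplicative.toAdd a
      obtain ⟨y, hy⟩ := hsurj (Multiplicative.ofAdd v)
      have h3 := congrFun (congrArg Multiplicative.toAdd hy) ((1 : G) : G ⧸ M)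
      have h4 : nv ((((1 : G) : G ⧸ M)).out) y = Multiplicative.toAdd a := h3
      rw [hnvout] at h4
      refine ⟨y, ?_⟩
      apply Multiplicative.toAdd.injective
      rw [← h4]
      show Multiplicative.toAdd (ν y) = Multiplicative.toAdd (ν _)
      congr 2
      apply Subtype.ext
      show (y : G) = 1⁻¹ * y * 1
      group
    rw [MonoidHom.range_eq_top.2 h2, Subgroup.card_top, Nat.card_eq_fintype_card, Fintype.card_multiplicative, ZMod.card]
  have hcard : Nat.card (G ⧸ L) = Nat.card (Fin (p ^ 2)) := by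
    rw [← Subgroup.index_eq_card, hLi, Nat.card_eq_fintype_card, Fintype.card_fin]
  haveI : Finite (G ⧸ L) := inferInstance
  let e : G ⧸ L ≃ Fin (p ^ 2) := (Finite.card_eq.1 hcard).some
  let ρ : G →* Equiv.Perm (Fin (p ^ 2)) := (Equiv.permCongrHom e).toMonoidHom.comp (MulAction.toPermHom G (G ⧸ L))
  have hker : ρ.ker = L.normalCore := by
    rw [Subgroup.normalCore_eq_ker]
    ext g
    rw [MonoidHom.mem_ker, MonoidHom.mem_ker]
    show (Equiv.permCongrHom e) (MulAction.toPermHom G (G ⧸ L) g) = 1 ↔ _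
    rw [← map_one (Equiv.permCongrHom e)]
    exact (Equiv.permCongrHom e).injective.eq_iff
  have hle : L.normalCore ≤ Ψ.ker.map M.subtype := by
    intro y hy
    have hyL : y ∈ L := Subgroup.normalCore_le L hy
    refine ⟨⟨y, hLM hyL⟩, ?_, rfl⟩
    rw [SetLike.mem_coe, MonoidHom.mem_ker]
    apply Multiplicative.toAdd.injective
    funext t
    show Multiplicative.toAdd (ν _) = 0
    have h1 : t.out⁻¹ * y * t.out ∈ L := by
      have := hy t.out⁻¹
      rwa [inv_inv] at this
    rw [(hmemL ⟨t.out⁻¹ * y * t.out, _⟩).1 h1]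
    rfl
  have hdvd : p ^ (p + 1) ∣ Nat.card ρ.range := by
    rw [← Subgroup.index_ker, hker]
    refine dvd_trans ?_ (Subgroup.index_dvd_of_le hle)
    have h1 : Ψ.ker.map M.subtype ≤ M := by rintro _ ⟨y, -, rfl⟩; exact y.2
    rw [← Subgroup.relIndex_mul_index h1, hMi, pow_succ]
    have h2 : (Ψ.ker.map M.subtype).subgroupOf M = Ψ.ker := Subgroup.comap_map_eq_self_of_injective M.subtype_injective _
    rw [Subgroup.relIndex, h2, Subgroup.index_ker, MonoidHom.range_eq_top.2 hsurj, Subgroup.card_top, Nat.card_eq_fintype_card]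
    have h3 : Fintype.card (Multiplicative (G ⧸ M → ZMod p)) = p ^ p := by
      rw [Fintype.card_multiplicative, Fintype.card_fun, ZMod.card, ← Nat.card_eq_fintype_card, ← Subgroup.index_eq_card, hMi]
    rw [h3]
  have hpg : IsPGroup p ρ.range := hG.of_surjective ρ.rangeRestrict ρ.rangeRestrict_surjective
  obtain ⟨W, hW⟩ := hpg.exists_le_sylow
  have hWc : Nat.card W = p ^ (p + 1) := by
    have := W.card_eq_multiplicity
    rw [fact_perm] at this
    exact this
  have heq : ρ.range = (W : Subgroup (Equiv.Perm (Fin (p ^ 2)))) := by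
    refine Subgroup.eq_of_le_of_card_ge hW ?_
    have h1 : Nat.card (W : Subgroup (Equiv.Perm (Fin (p ^ 2)))) = p ^ (p + 1) := hWc
    rw [h1]
    exact Nat.le_of_dvd Nat.card_pos hdvd
  refine ⟨W, ρ.codRestrict W fun g => hW ⟨g, rfl⟩, fun w => ?_⟩
  have h1 : (w : Equiv.Perm (Fin (p ^ 2))) ∈ ρ.range := by rw [heq]; exact w.2
  obtain ⟨g, hg⟩ := h1
  exact ⟨g, Subtype.ext hg⟩

end CfsgLib.FT
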