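import Cfsg.Agent.LibFT23
import Cfsg.Agent.LibFT26
import Cfsg.Agent.LibFT27

set_option autoImplicit false

/-! Yoshida's theorem for saturated fusion systems (helper1) -/

namespace CfsgLib.FT

open Cfsg Cfsg.FusionSystem CfsgLib.Fus21
open scoped commutatorElement BigOperators

universe u

theorem exists_lam00 {Q : Type*} [CommGroup Q] {p : ℕ} [hp : Fact p.Prime] [Module (ZMod p) (Additive Q)] {x : Q} (hx : x ≠ 1) :
    ∃ lam : Q →* Multiplicative (ZMod p), lam x ≠ 1 := by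
  have h1 : (Additive.ofMul x) ≠ 0 := by
    intro h
    exact hx (congrArg Additive.toMul h)
  obtain ⟨f, hf⟩ : ∃ f : Additive Q →ₗ[ZMod p] ZMod p, f (Additive.ofMul x) ≠ 0 := by
    by_contra hcon
    push Not at hcon
    exact h1 ((Module.forall_dual_apply_eq_zero_iff (ZMod p) _).1 hcon)
  refine ⟨AddMonoidHom.toMultiplicativeRight f.toAddMonoidHom, fun h => hf ?_⟩
  exact congrArg Multiplicative.toAdd h

theorem exists_lam0 {Q : Type*} [CommGroup Q] {p : ℕ} [hp : Fact p.Prime] (hQ : ∀ y : Q, y ^ p = 1) {x : Q} (hx : x ≠ 1) :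
    ∃ lam : Q →* Multiplicative (ZMod p), lam x ≠ 1 := by
  letI : Module (ZMod p) (Additive Q) := AddCommGroup.zmodModule (by
    intro y
    apply Additive.toMul.injective
    exact hQ _)
  exact exists_lam00 hx

theorem exists_lam {G : Type*} [Group G] [Finite G] {p : ℕ} [hp : Fact p.Prime] (hG : IsPGroup p G) {D : Subgroup G} (hD : frattini G ≤ D)
    {x : G} (hx : x ∉ D) : ∃ lam : G →* Multiplicative (ZMod p), (∀ d ∈ D, lam d = 1) ∧ lam x ≠ 1 := by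
  have hc : _root_.commutator G ≤ D := (CfsgLib.LE.commutator_le_frattini (p := p) hG).trans hD
  have hn : D.Normal := Subgroup.Normal.of_commutator_le G hc
  letI : CommGroup (G ⧸ D) := { (inferInstance : Group (G ⧸ D)) with
    mul_comm := ((Subgroup.Normal.quotient_commutative_iff_commutator_le (N := D)).2 hc).1.comm }
  obtain ⟨f, hf⟩ := exists_lam0 (Q := G ⧸ D) (p := p) (x := (x : G ⧸ D)) (fun y => by
    obtain ⟨g, rfl⟩ := QuotientGroup.mk_surjective y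
    refine ((QuotientGroup.mk_pow D g p).symm).trans ?_
    rw [QuotientGroup.eq_one_iff]
    exact hD (CfsgLib.LE.pow_mem_frattini hG g)) (fun h => hx ((QuotientGroup.eq_one_iff (N := D) x).1 h))
  refine ⟨f.comp (QuotientGroup.mk' D), fun d hd => ?_, hf⟩
  have : QuotientGroup.mk' D d = 1 := (QuotientGroup.eq_one_iff d).2 hd
  rw [MonoidHom.comp_apply, this]
  exact map_one f

variable {Ω : Type u} [Group Ω] {S : Subgroup Ω} {F : FusionSystem S} {p : ℕ} {U : Subgroup Ω}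

theorem foc_frat {T : Subgroup Ω} (hT : T = S) [Finite S] [hp : Fact p.Prime] (hS : IsPGroup p S) (hF : F.IsSaturated p) (N : FusionSystem T)
    (hN : N.IsSaturated p) (hsub : N.IsSubsystemOf F) (hne : N.focalSubgroup ≠ F.focalSubgroup) :
    ¬ F.focalSubgroup ≤ (frattini S).map S.subtype ⊔ N.focalSubgroup := by
  subst hT
  intro h
  apply hne
  have h1 : N.focalSubgroup ≤ F.focalSubgroup := by
    rw [FusionSystem.focalSubgroup, Subgroup.closure_le]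
    rintro _ ⟨P, φ, x, hφ, rfl⟩
    exact Subgroup.subset_closure ⟨P, φ, x, hsub P hφ, rfl⟩
  have h2 := tate_iff hS hF hN hsub (le_antisymm (sup_le le_sup_left h) (sup_le le_sup_left (h1.trans le_sup_right)))
  rw [focal_eq hS hF, focal_eq hS hN, h2]

theorem comm_aux {A : Type*} [CommGroup A] (a b c d : A) : a * (b * c) * (d⁻¹ * c⁻¹) = a * d⁻¹ * b := by
  rw [mul_mul_mul_comm, mul_inv_cancel_right]

theorem coc_aux {A : Type*} [CommGroup A] (a b c : A) : a * c⁻¹ = (a * b⁻¹) * (b * c⁻¹) := by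
  rw [mul_assoc, inv_mul_cancel_left]

theorem focal_le_S {T : Subgroup Ω} (N : FusionSystem T) : N.focalSubgroup ≤ T := by
  rw [FusionSystem.focalSubgroup, Subgroup.closure_le]
  rintro _ ⟨P, φ, x, hφ, rfl⟩
  exact T.mul_mem (T.inv_mem ((N.le_of_mem hφ).1 x.2)) ((N.le_of_mem hφ).2 x)

theorem yoshida_setup [Finite S] [hp : Fact p.Prime] (hS : IsPGroup p S) (hF : F.IsSaturated p) {A : Type*} [CommGroup A] (hA : ∀ a : A, a ^ p = 1)
    (lam0 : S →* A) (h0 : ∀ (φ : S →* Ω) (hφ : φ ∈ F.Hom S) (x : S), lam0 ⟨φ x, (F.le_of_mem hφ).2 x⟩ = lam0 x)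
    (hne : ∃ (P : Subgroup Ω) (φ : P →* Ω) (hφ : φ ∈ F.Hom P) (x : P), lam0 ⟨φ x, (F.le_of_mem hφ).2 x⟩ ≠ lam0 ⟨x, (F.le_of_mem hφ).1 x.2⟩) :
    ∃ (Y : Type u) (_ : MulAction S Y) (_ : Fintype Y) (c : S → Y → A) (lam : S →* A), IsCoc c ∧ (∃ x, lam x ≠ 1) ∧
      (∀ q : Y, (∀ g : S, g • q = q) → ∀ g, c g q = (lam g)⁻¹) ∧
      (∀ (q : Y) (g : S), g • q = q → ∃ y, orderOf y ∣ orderOf g ∧ c g q = (lam y)⁻¹) ∧ (∀ g, ∏ q, c g q = 1) ∧ ¬ p ∣ Nat.card Y := by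
  have hU := normIn_self S
  have hH := hypLe_S F p
  haveI := GU_finite hU
  obtain ⟨X, hX, hfin, hok, ⟨m₀, hm₀, hc⟩, hm⟩ := exists_biset (U := S) hS hF hU hH
  have hn := K1_normal hU
  have hfree : ∀ x : X, ∀ k ∈ K1 hU, k • x = x → k = 1 := by
    intro x k hk hkx
    obtain ⟨P, φ, h, hx⟩ := hok x
    obtain ⟨h1, h2⟩ := (hx k).1 hkx
    have h3 : k.1.1 = 1 := mem_K1.1 hk
    have h4 : (⟨k.1.1, h1⟩ : P) = 1 := Subtype.ext h3
    rw [h4, map_one] at h2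
    apply Subtype.ext
    exact Prod.ext h3 h2.symm
  let κ : K1 hU →* S :=
    { toFun := fun k => ⟨k.1.1.2, K1_mem k.2⟩
      map_one' := rfl
      map_mul' := fun _ _ => rfl }
  have hconj : ∀ (lam : S →* A) (g : GU hU) (k : K1 hU), ∃ k' : K1 hU, (k' : GU hU) = g * k * g⁻¹ ∧ (lam.comp κ) k' = (lam.comp κ) k := fun lam g k =>
    ⟨⟨g * k * g⁻¹, hn.conj_mem k k.2 g⟩, rfl, by
      show lam (⟨g.1.2, g.2.2.1⟩ * ⟨k.1.1.2, K1_mem k.2⟩ * ⟨g.1.2, g.2.2.1⟩⁻¹) = lam ⟨k.1.1.2, K1_mem k.2⟩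
      rw [map_mul, map_mul, map_inv, mul_right_comm, mul_inv_cancel, one_mul]⟩
  have hcard := card_OQ (X := X) (K1 hU) hfree
  have hK1 : Nat.card (K1 hU) = Nat.card S := by
    refine Nat.card_congr ⟨fun k => ⟨k.1.1.2, K1_mem k.2⟩, fun u => ⟨⟨(1, u), ⟨S.one_mem, hU.1 u.2, by
      show (1 : Ω)⁻¹ * (u : Ω) ∈ S
      rw [inv_one, one_mul]; exact u.2⟩⟩, rfl⟩, ?_, ?_⟩
    · rintro ⟨⟨⟨a, b⟩, h⟩, h'⟩
      have : a = 1 := h'
      subst this
      rfl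
    · rintro ⟨u, hu⟩; rfl
  have hmem : ∀ s ∈ S, ((s, 1) : Ω × Ω) ∈ GU hU := fun s hs => ⟨hs, S.one_mem, S.mul_mem (S.inv_mem hs) S.one_mem⟩
  let l : S →* GU hU :=
    { toFun := fun s => ⟨(s, 1), hmem s s.2⟩
      map_one' := rfl
      map_mul' := fun a b => by
        apply Subtype.ext
        exact Prod.ext rfl (by show (1 : Ω) = 1 * 1; rw [mul_one]) }
  -- the first transfer
  obtain ⟨μ0, hμ0⟩ := exists_eqv hfree (lam0.comp κ)
  let τ0 : S →* A := (trfHom hμ0 hn (hconj lam0)).comp l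
  have hτ0 : ∀ s, τ0 s = trf (K1 hU) μ0 (l s) := fun s => rfl
  have hstab : ∀ (P : Subgroup Ω) (φ : P →* Ω) (hφ : φ ∈ F.Hom P) (x : P), τ0 ⟨φ x, (F.le_of_mem hφ).2 x⟩ = τ0 ⟨x, (F.le_of_mem hφ).1 x.2⟩ := by
    intro P φ hφ x
    obtain ⟨g, hg⟩ := exists_value (U := S) hS hF hU hφ
    have h : MV F p S P φ 1 := hg.cast (fun _ => rfl) (S.mul_mem (S.inv_mem (hg.mem hU.1)) S.one_mem)
    obtain ⟨e, he⟩ := iso_biset hU hok hm (GP hU P).subtype (gam hU hH h) (gam_stable hH h)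
    rw [hτ0, hτ0]
    refine trf_nat hμ0 hn (hconj lam0) (GP hU P).subtype (gam hU hH h) ?_ e he ⟨l ⟨x, (F.le_of_mem hφ).1 x.2⟩, x.2⟩
    intro k hk
    have hk1 : k.1.1 = 1 := mem_K1.1 hk
    refine ⟨⟨k, by rw [mem_GP, hk1]; exact P.one_mem⟩, rfl, ?_⟩
    apply Subtype.ext
    refine Prod.ext ?_ rfl
    show φ ⟨k.1.1, _⟩ = k.1.1
    have : (⟨k.1.1, by rw [hk1]; exact P.one_mem⟩ : P) = 1 := Subtype.ext hk1
    rw [this, map_one, hk1]
  -- the second function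
  let lamp : (⊤ : Subgroup (GU hU)) →* A := MonoidHom.mk' (fun g => (τ0 ⟨g.1.1.1, g.1.2.1⟩)⁻¹ * τ0 ⟨g.1.1.2, g.1.2.2.1⟩) (fun a b => by
    show (τ0 (⟨a.1.1.1, a.1.2.1⟩ * ⟨b.1.1.1, b.1.2.1⟩))⁻¹ * τ0 (⟨a.1.1.2, a.1.2.2.1⟩ * ⟨b.1.1.2, b.1.2.2.1⟩) = _
    rw [map_mul, map_mul, mul_inv, mul_mul_mul_comm])
  obtain ⟨μ1, hμ1⟩ := exists_eqv' (X := X) ⊤ lamp (by
    intro x k hkx
    obtain ⟨P, φ, h, hx⟩ := hok x
    obtain ⟨h1, h2⟩ := (hx k.1).1 hkx
    show (τ0 ⟨k.1.1.1, k.1.2.1⟩)⁻¹ * τ0 ⟨k.1.1.2, k.1.2.2.1⟩ = 1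
    rw [inv_mul_eq_one]
    have := hstab P φ h.hom ⟨k.1.1.1, h1⟩
    rw [← this]
    congr 1
    exact Subtype.ext h2)
  have hμ1K : IsEqv (K1 hU) (τ0.comp κ) μ1 := fun k x => by
    have := hμ1 ⟨k, Subgroup.mem_top _⟩ x
    rw [this]
    congr 1
    show (τ0 ⟨k.1.1.1, k.1.2.1⟩)⁻¹ * τ0 ⟨k.1.1.2, k.1.2.2.1⟩ = τ0 ⟨k.1.1.2, _⟩
    have h1 : (⟨k.1.1.1, k.1.2.1⟩ : S) = 1 := Subtype.ext (mem_K1.1 k.2)
    rw [h1, map_one, inv_one, one_mul]
  haveI : Fintype (OQ (K1 hU) X) := Fintype.ofFinite _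
  set m := Nat.card (OQ (K1 hU) X) with hmdef
  have hpm : ¬ p ∣ m := by
    intro hd
    rw [hcard, hK1] at hc
    have h1 : Nat.card (OQ (K1 hU) X) ≡ m₀ [MOD p] := Nat.ModEq.mul_right_cancel' Nat.card_pos.ne' hc
    exact hm₀ ((Nat.modEq_zero_iff_dvd).1 (h1.symm.trans ((Nat.modEq_zero_iff_dvd).2 hd)))
  let μ : X → A := fun x => μ0 x ^ m * μ1 x
  let lam : S →* A := lam0 ^ m * τ0
  have hlam : ∀ s, lam s = lam0 s ^ m * τ0 s := fun s => rfl
  have hμ : IsEqv (K1 hU) (lam.comp κ) μ := fun k x => by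
    show μ0 ((k : GU hU) • x) ^ m * μ1 ((k : GU hU) • x) = (lam0 (κ k) ^ m * τ0 (κ k)) * (μ0 x ^ m * μ1 x)
    rw [hμ0, hμ1K, mul_pow, mul_mul_mul_comm]
    rfl
  letI hact : MulAction S (OQ (K1 hU) X) :=
    { smul := fun s q => prm hn (l s) q
      one_smul := fun q => by
        induction q using Quotient.inductionOn with | h x =>
        show prm hn (l 1) (Quotient.mk (MulAction.orbitRel (K1 hU) X) x) = _
        rw [map_one, prm_mk, one_smul]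
      mul_smul := fun a b q => by
        induction q using Quotient.inductionOn with | h x =>
        show prm hn (l (a * b)) (Quotient.mk (MulAction.orbitRel (K1 hU) X) x) =
          prm hn (l a) (prm hn (l b) (Quotient.mk (MulAction.orbitRel (K1 hU) X) x))
        rw [map_mul, prm_mk, prm_mk, prm_mk, mul_smul] }
  have hsm : ∀ (s : S) (x : X), s • (Quotient.mk (MulAction.orbitRel (K1 hU) X) x : OQ (K1 hU) X) = Quotient.mk (MulAction.orbitRel (K1 hU) X) (l s • x) :=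
    fun s x => rfl
  -- values on stabilizers
  have hval : ∀ (x : X) (P : Subgroup Ω) (φ : P →* Ω) (h : MV F p S P φ 1)
      (hx : ∀ g : GU hU, g ∈ MulAction.stabilizer (GU hU) x ↔ ∃ h : g.1.1 ∈ P, φ ⟨g.1.1, h⟩ = g.1.2) (s : S),
      s • (Quotient.mk (MulAction.orbitRel (K1 hU) X) x : OQ (K1 hU) X) = Quotient.mk (MulAction.orbitRel (K1 hU) X) x →
      ∃ hs : (s : Ω) ∈ P, dlt (K1 hU) μ (l s) (Quotient.mk (MulAction.orbitRel (K1 hU) X) x) = (lam ⟨φ ⟨s, hs⟩, h.mem_S _⟩)⁻¹ := by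
    intro x P φ h hx s hs
    rw [hsm] at hs
    obtain ⟨k, hk⟩ := Quotient.exact hs
    have hk' : (k : GU hU) • x = l s • x := hk
    have h1 : ((k : GU hU)⁻¹ * l s) ∈ MulAction.stabilizer (GU hU) x := by
      rw [MulAction.mem_stabilizer_iff, mul_smul, inv_smul_eq_iff]
      exact hk'.symm
    obtain ⟨h2, h3⟩ := (hx _).1 h1
    have h4 : ((k : GU hU)⁻¹ * l s).1.1 = s := by
      show (k.1.1.1)⁻¹ * (s : Ω) = s
      rw [mem_K1.1 k.2, inv_one, one_mul]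
    have hsP : (s : Ω) ∈ P := h4 ▸ h2
    refine ⟨hsP, ?_⟩
    have h5 : φ ⟨s, hsP⟩ = (k.1.1.2)⁻¹ := by
      have h6 : ((k : GU hU)⁻¹ * l s).1.2 = (k.1.1.2)⁻¹ := by
        show (k.1.1.2)⁻¹ * 1 = _
        rw [mul_one]
      rw [← h6, ← h3]
      congr 1
      exact Subtype.ext h4.symm
    rw [dlt_mk hμ (hconj lam), ← hk', hμ, mul_inv_cancel_right, ← map_inv]
    show lam (κ k) = _
    congr 1
    apply Subtype.ext
    show k.1.1.2 = (φ ⟨s, hsP⟩)⁻¹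
    rw [h5, inv_inv]
  have hlamN : ∀ (φ : S →* Ω) (hφ : φ ∈ F.Hom S) (x : S), lam ⟨φ x, (F.le_of_mem hφ).2 x⟩ = lam x := by
    intro φ hφ x
    rw [hlam, hlam, h0 φ hφ x, hstab S φ hφ x]
  refine ⟨OQ (K1 hU) X, hact, inferInstance, fun s q => dlt (K1 hU) μ (l s) q, lam, ?_, ?_, ?_, ?_, ?_, hpm⟩
  · intro g h q
    induction q using Quotient.inductionOn with | h x =>
    show dlt (K1 hU) μ (l (g * h)) (Quotient.mk (MulAction.orbitRel (K1 hU) X) x) = dlt (K1 hU) μ (l g) (h • (Quotient.mk (MulAction.orbitRel (K1 hU) X) x : OQ (K1 hU) X)) *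
      dlt (K1 hU) μ (l h) (Quotient.mk (MulAction.orbitRel (K1 hU) X) x)
    rw [hsm, dlt_mk hμ (hconj lam), dlt_mk hμ (hconj lam), dlt_mk hμ (hconj lam), map_mul, mul_smul]
    exact coc_aux _ _ _
  · by_contra hcon
    push Not at hcon
    obtain ⟨P, φ, hφ, x, hx⟩ := hne
    apply hx
    have h1 := hcon ⟨φ x, (F.le_of_mem hφ).2 x⟩
    have h2 := hcon ⟨x, (F.le_of_mem hφ).1 x.2⟩
    rw [hlam, hstab P φ hφ x] at h1
    rw [hlam] at h2
    have h3 : lam0 ⟨φ x, (F.le_of_mem hφ).2 x⟩ ^ m = lam0 ⟨x, (F.le_of_mem hφ).1 x.2⟩ ^ m := mul_right_cancel (h1.trans h2.symm)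
    have hcop : m.Coprime p := ((Nat.Prime.coprime_iff_not_dvd hp.out).2 hpm).symm
    have h4 : ∀ a : A, ∃ k : ℕ, ∀ a : A, (a ^ m) ^ k = a := fun _ => by
      obtain ⟨k, hk⟩ := Nat.exists_mul_mod_eq_one_of_coprime hcop hp.out.one_lt
      refine ⟨k, fun a => ?_⟩
      rw [← pow_mul, ← Nat.div_add_mod (m * k) p, hk.2, pow_add, pow_mul, hA, one_pow, one_mul, pow_one]
    obtain ⟨k, hk⟩ := h4 1
    rw [← hk (lam0 ⟨φ x, (F.le_of_mem hφ).2 x⟩), h3, hk]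
  · intro q hq g
    induction q using Quotient.inductionOn with | h x =>
    obtain ⟨P, φ, h, hx⟩ := hok x
    have hP : P = S := by
      refine le_antisymm (F.le_of_mem h.hom).1 fun s hs => ?_
      obtain ⟨h1, -⟩ := hval x P φ h hx ⟨s, hs⟩ (hq ⟨s, hs⟩)
      exact h1
    subst hP
    obtain ⟨h1, h2⟩ := hval x P φ h hx g (hq g)
    refine h2.trans ?_
    congr 1
    exact hlamN φ h.hom g
  · intro q g hq
    induction q using Quotient.inductionOn with | h x =>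
    obtain ⟨P, φ, h, hx⟩ := hok x
    obtain ⟨h1, h2⟩ := hval x P φ h hx g hq
    refine ⟨_, ?_, h2⟩
    have h3 := orderOf_map_dvd (φ.codRestrict S fun y => h.mem_S y) ⟨(g : Ω), h1⟩
    have h4 : orderOf (⟨(g : Ω), h1⟩ : P) = orderOf g := by rw [Subgroup.orderOf_mk, Subgroup.orderOf_coe]
    rw [h4] at h3
    exact h3
  · intro g
    have h1 : ∀ q : OQ (K1 hU) X, dlt (K1 hU) μ (l g) q = dlt (K1 hU) μ0 (l g) q ^ m * (τ0 g)⁻¹ := by
      intro q
      induction q using Quotient.inductionOn with | h x =>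
      rw [dlt_mk hμ (hconj lam), dlt_mk hμ0 (hconj lam0)]
      show μ0 (l g • x) ^ m * μ1 (l g • x) * (μ0 x ^ m * μ1 x)⁻¹ = _
      have h2 : μ1 (l g • x) = (τ0 g)⁻¹ * μ1 x := by
        have := hμ1 ⟨l g, Subgroup.mem_top _⟩ x
        refine this.trans ?_
        congr 1
        show (τ0 ⟨(g : Ω), g.2⟩)⁻¹ * τ0 ⟨1, S.one_mem⟩ = (τ0 g)⁻¹
        have : (⟨1, S.one_mem⟩ : S) = 1 := rfl
        rw [this, map_one, mul_one]
      rw [h2, mul_inv, mul_pow, inv_pow]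
      exact comm_aux _ _ _ _
    show ∏ q, dlt (K1 hU) μ (l g) q = 1
    rw [Finset.prod_congr rfl fun q _ => h1 q, Finset.prod_mul_distrib, Finset.prod_pow, ← trf_eq, ← hτ0, Finset.prod_const, Finset.card_univ,
      ← Nat.card_eq_fintype_card, ← hmdef, inv_pow, mul_inv_cancel]

/-- S5225 -/
theorem yoshida [Finite S] [hp : Fact p.Prime] (hS : IsPGroup p S) (hF : F.IsSaturated p) (N : FusionSystem (normalizerIn S S))
    (hN : F.IsNormalizerSystem S N) (hne : N.focalSubgroup ≠ F.focalSubgroup) :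
    ∃ (W : Sylow p (Equiv.Perm (Fin (p ^ 2)))) (f : S →* (W : Subgroup (Equiv.Perm (Fin (p ^ 2))))), Function.Surjective f := by
  have hNS : normalizerIn S S = S := le_antisymm (normalizerIn_le S S) (le_normalizerIn le_rfl)
  have hfn : F.IsFullyNormalized S := fnLe F le_rfl (le_normalizerIn le_rfl)
  have hsat := normSys_saturated hS hF hfn
  have hEq : N = normSys F S hfn.1 := fusionSystem_ext fun P => by rw [hN P, normSys_is F S hfn.1 P]
  have hNsat : N.IsSaturated p := hEq ▸ hsat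
  have hsub : N.IsSubsystemOf F := fun P φ hφ => by rw [hN P] at hφ; exact hφ.1
  have h1 := foc_frat hNS hS hF N hNsat hsub hne
  -- the homomorphism
  have hfS : N.focalSubgroup ≤ S := (focal_le_S N).trans hNS.le
  obtain ⟨z, hzF, hz⟩ : ∃ z ∈ F.focalSubgroup, z ∉ (frattini S).map S.subtype ⊔ N.focalSubgroup := Set.not_subset.1 h1
  have hzS : z ∈ S := focal_le_S F hzF
  have hD : (frattini S ⊔ N.focalSubgroup.subgroupOf S).map S.subtype = (frattini S).map S.subtype ⊔ N.focalSubgroup := by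
    rw [Subgroup.map_sup, Subgroup.subgroupOf_map_subtype, inf_eq_left.2 hfS]
  obtain ⟨lam0, hl1, hl2⟩ := exists_lam (p := p) hS (D := frattini S ⊔ N.focalSubgroup.subgroupOf S) le_sup_left (x := ⟨z, hzS⟩) (by
    intro h
    apply hz
    rw [← hD]
    exact ⟨_, h, rfl⟩)
  have h0 : ∀ (φ : S →* Ω) (hφ : φ ∈ F.Hom S) (x : S), lam0 ⟨φ x, (F.le_of_mem hφ).2 x⟩ = lam0 x := by
    intro φ hφ x
    have h2 : φ ∈ N.Hom S := by
      rw [hN S]
      refine ⟨hφ, hNS.ge, fun y => hNS.ge ((F.le_of_mem hφ).2 y), ?_⟩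
      have hSS : S ⊔ S = S := sup_idem S
      refine ⟨φ.comp (Subgroup.inclusion hSS.le), restrict_mem hφ hSS.le, fun y => rfl, ?_⟩
      have h3 : (S.subgroupOf (S ⊔ S)).map (φ.comp (Subgroup.inclusion hSS.le)) ≤ S := by
        rintro _ ⟨y, -, rfl⟩
        exact (F.le_of_mem hφ).2 _
      refine Subgroup.eq_of_le_of_card_ge h3 ?_
      have hinj : Function.Injective (φ.comp (Subgroup.inclusion hSS.le)) := (F.injective_of_mem (restrict_mem hφ hSS.le))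
      rw [Nat.card_congr ((S.subgroupOf (S ⊔ S)).equivMapOfInjective _ hinj).symm.toEquiv, Nat.card_congr (Subgroup.subgroupOfEquivOfLe hSS.ge).toEquiv]
    have h3 : (x : Ω)⁻¹ * φ x ∈ N.focalSubgroup := Subgroup.subset_closure ⟨S, φ, x, h2, rfl⟩
    have h4 := hl1 (⟨(x : Ω)⁻¹ * φ x, hfS h3⟩ : S) (Subgroup.mem_sup_right h3)
    have h5 : (⟨φ x, (F.le_of_mem hφ).2 x⟩ : S) = x * ⟨(x : Ω)⁻¹ * φ x, hfS h3⟩ := by
      apply Subtype.ext
      show φ x = (x : Ω) * ((x : Ω)⁻¹ * φ x)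
      rw [mul_inv_cancel_left]
    rw [h5, map_mul, h4, mul_one]
  have hne' : ∃ (P : Subgroup Ω) (φ : P →* Ω) (hφ : φ ∈ F.Hom P) (x : P), lam0 ⟨φ x, (F.le_of_mem hφ).2 x⟩ ≠ lam0 ⟨x, (F.le_of_mem hφ).1 x.2⟩ := by
    by_contra hcon
    push Not at hcon
    apply hl2
    have h3 : F.focalSubgroup ≤ lam0.ker.map S.subtype := by
      rw [FusionSystem.focalSubgroup, Subgroup.closure_le]
      rintro _ ⟨P, φ, x, hφ, rfl⟩
      refine ⟨⟨x, (F.le_of_mem hφ).1 x.2⟩⁻¹ * ⟨φ x, (F.le_of_mem hφ).2 x⟩, ?_, rfl⟩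
      rw [SetLike.mem_coe, MonoidHom.mem_ker, map_mul, map_inv, hcon P φ hφ x, inv_mul_cancel]
    obtain ⟨y, hy, hyz⟩ := h3 hzF
    have h4 : y = ⟨z, hzS⟩ := Subtype.ext hyz
    rw [← h4]; exact hy
  obtain ⟨Y, hY1, hY2, c, lam, e1, e2, e3, e4, e5, e6⟩ := yoshida_setup hS hF (A := Multiplicative (ZMod p)) (fun a => by
    apply Multiplicative.toAdd.injective
    show p • Multiplicative.toAdd a = 0
    rw [nsmul_eq_mul, CharP.cast_eq_zero, zero_mul]) lam0 h0 hne'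
  obtain ⟨M, hM, ν, x, hi, hx⟩ := yoshida_core hS (fun a => by
    apply Multiplicative.toAdd.injective
    show p • Multiplicative.toAdd a = 0
    rw [nsmul_eq_mul, CharP.cast_eq_zero, zero_mul]) e1 lam e2 e3 e4 e5 e6
  exact wreath_quot hS hM hi ν x hx

end CfsgLib.FT
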