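import Cfsg.Agent.LibFT28

set_option autoImplicit false

/-! The transfer cocycle of a saturated fusion system; Thompson transfer S5192 (helper1) -/

namespace CfsgLib.FT

open Cfsg Cfsg.FusionSystem CfsgLib.Fus21
open scoped commutatorElement BigOperators

universe u

variable {Ω : Type u} [Group Ω] {S : Subgroup Ω} {F : FusionSystem S} {p : ℕ} {U : Subgroup Ω}

/-- the transfer cocycle attached to a homomorphism `lam : S →* A` -/
theorem exists_coc [Finite S] [hp : Fact p.Prime] (hS : IsPGroup p S) (hF : F.IsSaturated p) {A : Type*} [CommGroup A]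
    (lam : S →* A) :
    ∃ (Y : Type u) (_ : MulAction S Y) (_ : Fintype Y) (c : S → Y → A), IsCoc c ∧
      (∀ q : Y, ∃ (P : Subgroup Ω) (φ : P →* Ω) (hφ : φ ∈ F.Hom P), ∀ g : S, g • q = q → ∃ hg : (g : Ω) ∈ P,
        c g q = (lam ⟨φ ⟨g, hg⟩, (F.le_of_mem hφ).2 _⟩)⁻¹) ∧
      (∀ (P : Subgroup Ω) (φ : P →* Ω) (hφ : φ ∈ F.Hom P) (x : P), ∏ q, c ⟨φ x, (F.le_of_mem hφ).2 x⟩ q = ∏ q, c ⟨x, (F.le_of_mem hφ).1 x.2⟩ q) ∧
      ¬ p ∣ Nat.card Y := by
  have hU := normIn_self S
  have hH := hypLe_S F p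
  haveI := GU_finite hU
  obtain ⟨X, hX, hfin, hok, ⟨m₀, hm₀, hc⟩, hm⟩ := exists_biset (U := S) hS hF hU hH
  have hn := K1_normal hU
  have hfree : ∀ x : X, ∀ k ∈ K1 hU, k • x = x → k = 1 := by
    intro x k hk hkx
    obtain ⟨P, φ, h, hx⟩ := hok x
    obtain ⟨h1, h2⟩ := (hx k).1 hkx
    have h3 : k.1.1 = 1 := mem_K1.1 hk
    have h4 : (⟨k.1.1, h1⟩ : P) = 1 := Subtype.ext h3
    rw [h4, map_one] at h2
    apply Subtype.ext
    exact Prod.ext h3 h2.symm
  let κ : K1 hU →* S :=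
    { toFun := fun k => ⟨k.1.1.2, K1_mem k.2⟩
      map_one' := rfl
      map_mul' := fun _ _ => rfl }
  have hconj : ∀ (g : GU hU) (k : K1 hU), ∃ k' : K1 hU, (k' : GU hU) = g * k * g⁻¹ ∧ (lam.comp κ) k' = (lam.comp κ) k := fun g k =>
    ⟨⟨g * k * g⁻¹, hn.conj_mem k k.2 g⟩, rfl, by
      show lam (⟨g.1.2, g.2.2.1⟩ * ⟨k.1.1.2, K1_mem k.2⟩ * ⟨g.1.2, g.2.2.1⟩⁻¹) = lam ⟨k.1.1.2, K1_mem k.2⟩
      rw [map_mul, map_mul, map_inv, mul_right_comm, mul_inv_cancel, one_mul]⟩
  have hcard := card_OQ (X := X) (K1 hU) hfree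
  have hK1 : Nat.card (K1 hU) = Nat.card S := by
    refine Nat.card_congr ⟨fun k => ⟨k.1.1.2, K1_mem k.2⟩, fun u => ⟨⟨(1, u), ⟨S.one_mem, hU.1 u.2, by
      show (1 : Ω)⁻¹ * (u : Ω) ∈ S
      rw [inv_one, one_mul]; exact u.2⟩⟩, rfl⟩, ?_, ?_⟩
    · rintro ⟨⟨⟨a, b⟩, h⟩, h'⟩
      have : a = 1 := h'
      subst this
      rfl
    · rintro ⟨u, hu⟩; rfl
  have hmem : ∀ s ∈ S, ((s, 1) : Ω × Ω) ∈ GU hU := fun s hs => ⟨hs, S.one_mem, S.mul_mem (S.inv_mem hs) S.one_mem⟩
  let l : S →* GU hU :=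
    { toFun := fun s => ⟨(s, 1), hmem s s.2⟩
      map_one' := rfl
      map_mul' := fun a b => by
        apply Subtype.ext
        exact Prod.ext rfl (by show (1 : Ω) = 1 * 1; rw [mul_one]) }
  obtain ⟨μ, hμ⟩ := exists_eqv hfree (lam.comp κ)
  haveI : Fintype (OQ (K1 hU) X) := Fintype.ofFinite _
  have hpm : ¬ p ∣ Nat.card (OQ (K1 hU) X) := by
    intro hd
    rw [hcard, hK1] at hc
    have h1 : Nat.card (OQ (K1 hU) X) ≡ m₀ [MOD p] := Nat.ModEq.mul_right_cancel' Nat.card_pos.ne' hc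
    exact hm₀ ((Nat.modEq_zero_iff_dvd).1 (h1.symm.trans ((Nat.modEq_zero_iff_dvd).2 hd)))
  letI hact : MulAction S (OQ (K1 hU) X) :=
    { smul := fun s q => prm hn (l s) q
      one_smul := fun q => by
        induction q using Quotient.inductionOn with | h x =>
        show prm hn (l 1) (Quotient.mk (MulAction.orbitRel (K1 hU) X) x) = _
        rw [map_one, prm_mk, one_smul]
      mul_smul := fun a b q => by
        induction q using Quotient.inductionOn with | h x =>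
        show prm hn (l (a * b)) (Quotient.mk (MulAction.orbitRel (K1 hU) X) x) =
          prm hn (l a) (prm hn (l b) (Quotient.mk (MulAction.orbitRel (K1 hU) X) x))
        rw [map_mul, prm_mk, prm_mk, prm_mk, mul_smul] }
  have hsm : ∀ (s : S) (x : X), s • (Quotient.mk (MulAction.orbitRel (K1 hU) X) x : OQ (K1 hU) X) = Quotient.mk (MulAction.orbitRel (K1 hU) X) (l s • x) :=
    fun s x => rfl
  refine ⟨OQ (K1 hU) X, hact, inferInstance, fun s q => dlt (K1 hU) μ (l s) q, ?_, ?_, ?_, hpm⟩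
  · intro g h q
    induction q using Quotient.inductionOn with | h x =>
    show dlt (K1 hU) μ (l (g * h)) (Quotient.mk (MulAction.orbitRel (K1 hU) X) x) = dlt (K1 hU) μ (l g) (h • (Quotient.mk (MulAction.orbitRel (K1 hU) X) x : OQ (K1 hU) X)) *
      dlt (K1 hU) μ (l h) (Quotient.mk (MulAction.orbitRel (K1 hU) X) x)
    rw [hsm, dlt_mk hμ hconj, dlt_mk hμ hconj, dlt_mk hμ hconj, map_mul, mul_smul]
    exact coc_aux _ _ _
  · intro q
    induction q using Quotient.inductionOn with | h x =>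
    obtain ⟨P, φ, h, hx⟩ := hok x
    refine ⟨P, φ, h.hom, fun s hs => ?_⟩
    rw [hsm] at hs
    obtain ⟨k, hk⟩ := Quotient.exact hs
    have hk' : (k : GU hU) • x = l s • x := hk
    have h1 : ((k : GU hU)⁻¹ * l s) ∈ MulAction.stabilizer (GU hU) x := by
      rw [MulAction.mem_stabilizer_iff, mul_smul, inv_smul_eq_iff]
      exact hk'.symm
    obtain ⟨h2, h3⟩ := (hx _).1 h1
    have h4 : ((k : GU hU)⁻¹ * l s).1.1 = s := by
      show (k.1.1.1)⁻¹ * (s : Ω) = s
      rw [mem_K1.1 k.2, inv_one, one_mul]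
    have hsP : (s : Ω) ∈ P := h4 ▸ h2
    refine ⟨hsP, ?_⟩
    have h5 : φ ⟨s, hsP⟩ = (k.1.1.2)⁻¹ := by
      have h6 : ((k : GU hU)⁻¹ * l s).1.2 = (k.1.1.2)⁻¹ := by
        show (k.1.1.2)⁻¹ * 1 = _
        rw [mul_one]
      rw [← h6, ← h3]
      congr 1
      exact Subtype.ext h4.symm
    show dlt (K1 hU) μ (l s) (Quotient.mk (MulAction.orbitRel (K1 hU) X) x) = _
    rw [dlt_mk hμ hconj, ← hk', hμ, mul_inv_cancel_right, ← map_inv]
    show lam (κ k) = _
    congr 1
    apply Subtype.ext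
    show k.1.1.2 = (φ ⟨s, hsP⟩)⁻¹
    rw [h5, inv_inv]
  · intro P φ hφ x
    obtain ⟨g, hg⟩ := exists_value (U := S) hS hF hU hφ
    have h : MV F p S P φ 1 := hg.cast (fun _ => rfl) (S.mul_mem (S.inv_mem (hg.mem hU.1)) S.one_mem)
    obtain ⟨e, he⟩ := iso_biset hU hok hm (GP hU P).subtype (gam hU hH h) (gam_stable hH h)
    have hτ0 : ∀ s, ∏ q : OQ (K1 hU) X, dlt (K1 hU) μ (l s) q = trf (K1 hU) μ (l s) := fun s => (trf_eq _ _).symm
    show ∏ q : OQ (K1 hU) X, dlt (K1 hU) μ (l _) q = ∏ q : OQ (K1 hU) X, dlt (K1 hU) μ (l _) q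
    rw [hτ0, hτ0]
    refine trf_nat hμ hn hconj (GP hU P).subtype (gam hU hH h) ?_ e he ⟨l ⟨x, (F.le_of_mem hφ).1 x.2⟩, x.2⟩
    intro k hk
    have hk1 : k.1.1 = 1 := mem_K1.1 hk
    refine ⟨⟨k, by rw [mem_GP, hk1]; exact P.one_mem⟩, rfl, ?_⟩
    apply Subtype.ext
    refine Prod.ext ?_ rfl
    show φ ⟨k.1.1, _⟩ = k.1.1
    have : (⟨k.1.1, by rw [hk1]; exact P.one_mem⟩ : P) = 1 := Subtype.ext hk1
    rw [this, map_one, hk1]

theorem IsCoc.prod_mul {G Y A : Type*} [Group G] [MulAction G Y] [CommGroup A] [Fintype Y] {c : G → Y → A} (hc : IsCoc c) (g h : G) :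
    ∏ q, c (g * h) q = (∏ q, c g q) * ∏ q, c h q := by
  have h1 : ∏ q, c g (h • q) = ∏ q, c g q := Equiv.prod_comp (MulAction.toPerm h) (fun q => c g q)
  rw [Finset.prod_congr rfl fun q _ => hc g h q, Finset.prod_mul_distrib, h1]

theorem mem_norm_inv {z : Ω} (hz : orderOf z = 2) {g : Ω} : g ∈ normalizerIn S (Subgroup.zpowers z) ↔ g ∈ S ∧ g * z = z * g := by
  rw [mem_normalizerIn]
  have hz1 : z ≠ 1 := by
    rintro rfl
    rw [orderOf_one] at hz
    omega
  have hmem : ∀ x, x ∈ Subgroup.zpowers z ↔ x = 1 ∨ x = z := by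
    intro x
    constructor
    · intro hx
      obtain ⟨k, rfl⟩ := Subgroup.mem_zpowers_iff.1 hx
      have hzz : z ^ (2 : ℤ) = 1 := by
        have h9 : z ^ 2 = 1 := by rw [← hz, pow_orderOf_eq_one]
        exact_mod_cast h9
      rcases Int.even_or_odd' k with ⟨r, rfl | rfl⟩
      · left; rw [zpow_mul, hzz, one_zpow]
      · right; rw [zpow_add, zpow_mul, hzz, one_zpow, one_mul, zpow_one]
    · rintro (rfl | rfl)
      · exact Subgroup.one_mem _
      · exact Subgroup.mem_zpowers _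
  constructor
  · rintro ⟨hg, h⟩
    refine ⟨hg, ?_⟩
    rcases (hmem _).1 ((h z).1 (Subgroup.mem_zpowers z)) with h1 | h1
    · exfalso
      apply hz1
      have : z = g⁻¹ * (g * z * g⁻¹) * g := by group
      rw [this, h1]; group
    · exact mul_inv_eq_iff_eq_mul.1 h1
  · rintro ⟨hg, h⟩
    refine ⟨hg, fun x => ?_⟩
    rw [hmem, hmem]
    have h1 : g * z * g⁻¹ = z := mul_inv_eq_iff_eq_mul.2 h
    constructor
    · rintro (rfl | rfl)
      · left; group
      · right; exact h1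
    · rintro (h2 | h2)
      · left
        have : x = g⁻¹ * (g * x * g⁻¹) * g := by group
        rw [this, h2]; group
      · right
        have : x = g⁻¹ * (g * x * g⁻¹) * g := by group
        rw [this, h2, mul_assoc, ← h]; group

theorem exists_w : ∃ w : Multiplicative (ZMod 2), w ≠ 1 ∧ w * w = 1 ∧ ∀ a : Multiplicative (ZMod 2), a ≠ 1 → a = w :=
  ⟨Multiplicative.ofAdd 1, by decide, by decide, by decide⟩

/-- S5192 -/
theorem s5192 [Finite S] (hS : IsPGroup 2 S) (hF : F.IsSaturated 2) {T : Subgroup Ω} (hTS : T ≤ S) (hT : T.relIndex S = 2) {i : Ω} (hi : i ∈ S)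
    (hi2 : orderOf i = 2) (h : ∀ j : Ω, F.IsConjElt i j → F.IsFullyNormalized (Subgroup.zpowers j) → j ∉ T) : i ∉ F.hyperfocalSubgroup 2 := by
  classical
  haveI : Fact (Nat.Prime 2) := ⟨Nat.prime_two⟩
  intro hih
  -- the homomorphism
  obtain ⟨w, hw1, hww, hA⟩ := exists_w
  let lam : S →* Multiplicative (ZMod 2) := MonoidHom.mk' (fun s => if s ∈ T.subgroupOf S then 1 else w) (fun a b => by
    have h1 := @Subgroup.mul_mem_iff_of_index_two _ _ (T.subgroupOf S) hT a b
    by_cases ha : a ∈ T.subgroupOf S <;> by_cases hb : b ∈ T.subgroupOf S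
    · rw [if_pos ha, if_pos hb, if_pos (h1.2 (by tauto)), one_mul]
    · rw [if_pos ha, if_neg hb, if_neg (fun h => by tauto), one_mul]
    · rw [if_neg ha, if_pos hb, if_neg (fun h => by tauto), mul_one]
    · rw [if_neg ha, if_neg hb, if_pos (h1.2 (by tauto)), hww])
  have hlam : ∀ s : S, lam s = if s ∈ T.subgroupOf S then 1 else w := fun s => rfl
  obtain ⟨Y, hact, hfin, c, hc, hst, hstab, hcard⟩ := exists_coc hS hF lam
  let τ : S →* Multiplicative (ZMod 2) := MonoidHom.mk' (fun g => ∏ q, c g q) hc.prod_mul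
  have hτ : ∀ (P : Subgroup Ω) (φ : P →* Ω) (hφ : φ ∈ F.Hom P) (x : P), τ ⟨φ x, (F.le_of_mem hφ).2 x⟩ = τ ⟨x, (F.le_of_mem hφ).1 x.2⟩ := hstab
  have h3 : F.focalSubgroup ≤ τ.ker.map S.subtype := by
    rw [FusionSystem.focalSubgroup, Subgroup.closure_le]
    rintro _ ⟨P, φ, x, hφ, rfl⟩
    refine ⟨⟨x, (F.le_of_mem hφ).1 x.2⟩⁻¹ * ⟨φ x, (F.le_of_mem hφ).2 x⟩, ?_, rfl⟩
    rw [SetLike.mem_coe, MonoidHom.mem_ker, map_mul, map_inv, hτ P φ hφ x, inv_mul_cancel]
  have hfoc : i ∈ F.focalSubgroup := by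
    rw [focal_eq hS hF]; exact Subgroup.mem_sup_left hih
  obtain ⟨y, hy, hyz⟩ := h3 hfoc
  have h4 : y = ⟨i, hi⟩ := Subtype.ext hyz
  rw [h4] at hy
  have hτi : τ ⟨i, hi⟩ = 1 := hy
  -- the fully normalized conjugate
  have hzS : Subgroup.zpowers i ≤ S := by rwa [Subgroup.zpowers_le]
  obtain ⟨Q, ⟨ψ, hψ, hψQ⟩, hQ⟩ := exists_fullyNormalized F hzS
  set j := ψ ⟨i, Subgroup.mem_zpowers i⟩ with hj
  have hjS : j ∈ S := (F.le_of_mem hψ).2 _
  have hQj : Q = Subgroup.zpowers j := by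
    rw [← hψQ]
    apply le_antisymm
    · rintro _ ⟨⟨x, hx⟩, rfl⟩
      obtain ⟨k, rfl⟩ := Subgroup.mem_zpowers_iff.1 hx
      have : (⟨i ^ k, hx⟩ : Subgroup.zpowers i) = ⟨i, Subgroup.mem_zpowers i⟩ ^ k := rfl
      rw [this, map_zpow]
      exact Subgroup.zpow_mem_zpowers _ _
    · rw [Subgroup.zpowers_le]; exact ⟨_, rfl⟩
  rw [hQj] at hQ
  have hj2 : orderOf j = 2 := by
    rw [hj, orderOf_injective ψ (F.injective_of_mem hψ), Subgroup.orderOf_mk, hi2]
  have hij : F.IsConjElt i j := ⟨ψ, hψ, rfl⟩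
  have hτj : τ ⟨j, hjS⟩ = 1 := by
    rw [← hτi]
    exact hτ _ ψ hψ ⟨i, Subgroup.mem_zpowers i⟩
  -- orbits of `j`
  let J : S := ⟨j, hjS⟩
  have hJJ : J * J = 1 := by
    apply Subtype.ext
    show j * j = 1
    rw [← pow_two, ← hj2, pow_orderOf_eq_one]
  have hsplit : τ J = ∏ q ∈ Finset.univ.filter (fun q : Y => J • q = q), c J q := by
    show ∏ q, c J q = _
    rw [← Finset.prod_filter_mul_prod_filter_not Finset.univ (fun q : Y => J • q = q) (fun q => c J q)]
    have : ∏ q ∈ Finset.univ.filter (fun q : Y => ¬ J • q = q), c J q = 1 := by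
      refine Finset.prod_involution (fun q _ => J • q) (fun q hq => ?_) (fun q hq _ => ?_) (fun q hq => ?_) (fun q hq => ?_)
      · rw [mul_comm, ← hc, hJJ, hc.one]
      · exact (Finset.mem_filter.1 hq).2
      · rw [Finset.mem_filter] at hq ⊢
        refine ⟨Finset.mem_univ _, fun h9 => hq.2 ?_⟩
        rw [← mul_smul, hJJ, one_smul] at h9
        exact h9.symm
      · rw [← mul_smul, hJJ, one_smul]
    rw [this, mul_one]
  -- number of fixed points is odd
  have hodd : ¬ 2 ∣ (Finset.univ.filter (fun q : Y => J • q = q)).card := by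
    intro hd
    have h1 : Nat.card Y ≡ Nat.card (MulAction.fixedPoints (Subgroup.zpowers J) Y) [MOD 2] :=
      (hS.to_subgroup _).card_modEq_card_fixedPoints Y
    have h2 : Nat.card (MulAction.fixedPoints (Subgroup.zpowers J) Y) = (Finset.univ.filter (fun q : Y => J • q = q)).card := by
      rw [Nat.card_eq_fintype_card, Fintype.card_subtype]
      congr 1
      ext q
      rw [Finset.mem_filter, Finset.mem_filter]
      refine and_congr_right fun _ => ⟨fun h => h ⟨J, Subgroup.mem_zpowers J⟩, fun h => ?_⟩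
      rintro ⟨k, hk⟩
      have h5 : Subgroup.zpowers J ≤ MulAction.stabilizer S q := by rw [Subgroup.zpowers_le]; exact h
      exact h5 hk
    rw [h2] at h1
    exact hcard ((Nat.modEq_zero_iff_dvd).1 (h1.trans ((Nat.modEq_zero_iff_dvd).2 hd)))
  -- the fixed points with trivial value
  let C : Subgroup S := Subgroup.centralizer {J}
  have hC : ∀ g : S, g ∈ C ↔ g * J = J * g := fun g => by
    rw [Subgroup.mem_centralizer_singleton_iff]
  let Z := {q : Y // J • q = q ∧ c J q = 1}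
  have hZ : ∀ g ∈ C, ∀ q : Y, J • q = q ∧ c J q = 1 → J • (g • q) = g • q ∧ c J (g • q) = 1 := by
    intro g hg q ⟨h1, h2⟩
    rw [hC] at hg
    refine ⟨by rw [← mul_smul, ← hg, mul_smul, h1], ?_⟩
    have h5 := hc J g q
    rw [← hg, hc, h1, h2, mul_one] at h5
    exact (mul_eq_right.1 h5.symm)
  letI : MulAction C Z :=
    { smul := fun g q => ⟨(g : S) • q.1, hZ g g.2 q.1 q.2⟩
      one_smul := fun q => Subtype.ext (one_smul S q.1)
      mul_smul := fun a b q => Subtype.ext (mul_smul (a : S) (b : S) q.1) }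
  have heven : 2 ∣ Nat.card Z := by
    have h1 : Nat.card Z ≡ Nat.card (MulAction.fixedPoints C Z) [MOD 2] := (hS.to_subgroup _).card_modEq_card_fixedPoints Z
    have h2 : Nat.card (MulAction.fixedPoints C Z) = 0 := by
      rw [Nat.card_eq_zero]
      left
      refine ⟨fun ⟨⟨q, hq1, hq2⟩, hq⟩ => ?_⟩
      obtain ⟨P, φ, hφ, hP⟩ := hst q
      have hCP : ∀ g : S, g ∈ C → (g : Ω) ∈ P := fun g hg => by
        obtain ⟨h5, -⟩ := hP g (congrArg Subtype.val (hq ⟨g, hg⟩))
        exact h5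
      obtain ⟨hjP, hcj⟩ := hP J hq1
      rw [hq2, eq_comm, inv_eq_one, hlam] at hcj
      set y := φ ⟨j, hjP⟩ with hy
      have hyT : y ∈ T := by
        by_contra hyT
        rw [if_neg (fun h9 => hyT (Subgroup.mem_subgroupOf.1 h9))] at hcj
        exact hw1 hcj
      have hy2 : orderOf y = 2 := by
        rw [hy, orderOf_injective φ (F.injective_of_mem hφ), Subgroup.orderOf_mk, hj2]
      have hzP : Subgroup.zpowers j ≤ P := by rwa [Subgroup.zpowers_le]
      have hjy : F.IsConj (Subgroup.zpowers j) (Subgroup.zpowers y) := by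
        refine ⟨φ.comp (Subgroup.inclusion hzP), restrict_mem hφ hzP, ?_⟩
        apply le_antisymm
        · rintro _ ⟨⟨x, hx⟩, rfl⟩
          obtain ⟨k, rfl⟩ := Subgroup.mem_zpowers_iff.1 hx
          have : (Subgroup.inclusion hzP ⟨j ^ k, hx⟩ : P) = ⟨j, hjP⟩ ^ k := rfl
          rw [MonoidHom.comp_apply, this, map_zpow]
          exact Subgroup.zpow_mem_zpowers _ _
        · rw [Subgroup.zpowers_le]; exact ⟨⟨j, Subgroup.mem_zpowers j⟩, rfl⟩
      have hfn : F.IsFullyNormalized (Subgroup.zpowers y) := by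
        refine ⟨conj_le_right hjy, fun R hR => (hQ.2 R (conj_trans hjy hR)).trans ?_⟩
        haveI : Finite (normalizerIn S (Subgroup.zpowers y)) := finite_of_le (normalizerIn_le S _)
        have hN : ∀ g : normalizerIn S (Subgroup.zpowers j), (g : Ω) ∈ P := fun g => by
          obtain ⟨h5, h6⟩ := (mem_norm_inv hj2).1 g.2
          exact hCP ⟨g, h5⟩ ((hC _).2 (Subtype.ext h6))
        refine Nat.card_le_card_of_injective (fun g : normalizerIn S (Subgroup.zpowers j) =>
          (⟨φ ⟨g, hN g⟩, ?_⟩ : normalizerIn S (Subgroup.zpowers y))) ?_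
        · rw [mem_norm_inv hy2]
          refine ⟨(F.le_of_mem hφ).2 _, ?_⟩
          rw [hy, ← map_mul, ← map_mul]
          congr 1
          apply Subtype.ext
          exact ((mem_norm_inv hj2).1 g.2).2
        · intro a b hab
          have h5 := F.injective_of_mem hφ (congrArg Subtype.val hab)
          apply Subtype.ext
          exact congrArg (fun z : P => (z : Ω)) h5
      have hiy : F.IsConjElt i y := by
        have h6 : ∀ x, ψ x ∈ Subgroup.zpowers j := fun x => by rw [← hQj, ← hψQ]; exact ⟨x, rfl⟩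
        have h5 := F.comp_mem hψ (restrict_mem hφ hzP) h6
        exact ⟨_, h5, rfl⟩
      exact h y hiy hfn hyT
    rw [h2] at h1
    exact (Nat.modEq_zero_iff_dvd).1 h1
  -- conclusion
  have hZc : Nat.card Z = ((Finset.univ.filter (fun q : Y => J • q = q)).filter (fun q => c J q = 1)).card := by
    rw [Nat.card_eq_fintype_card, Fintype.card_subtype, Finset.filter_filter]
  have hval : τ J = w ^ ((Finset.univ.filter (fun q : Y => J • q = q)).filter (fun q => ¬ c J q = 1)).card := by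
    rw [hsplit, ← Finset.prod_filter_mul_prod_filter_not (Finset.univ.filter (fun q : Y => J • q = q)) (fun q : Y => c J q = 1) (fun q => c J q),
      Finset.prod_eq_one (fun q hq => (Finset.mem_filter.1 hq).2), one_mul, ← Finset.prod_const]
    exact Finset.prod_congr rfl fun q hq => hA _ (Finset.mem_filter.1 hq).2
  have hsum := Finset.card_filter_add_card_filter_not (s := Finset.univ.filter (fun q : Y => J • q = q)) (fun q : Y => c J q = 1)
  have hodd2 : ¬ 2 ∣ ((Finset.univ.filter (fun q : Y => J • q = q)).filter (fun q => ¬ c J q = 1)).card := by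
    intro hd
    apply hodd
    rw [← hsum]
    exact dvd_add (hZc ▸ heven) hd
  rw [show τ J = 1 from hτj] at hval
  have h9 : orderOf w ∣ _ := orderOf_dvd_of_pow_eq_one hval.symm
  have h10 : orderOf w = 2 := orderOf_eq_prime (by rw [pow_two, hww]) hw1
  rw [h10] at h9
  exact hodd2 h9

end CfsgLib.FT
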