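import Cfsg.Agent.LibFT29
import Cfsg.Agent.LibFus21KL2
import Cfsg.Agent.LibFusionH12c

set_option autoImplicit false

/-! Relative transfer; graded subsystems (helper1) -/

namespace CfsgLib.FT

open Cfsg Cfsg.FusionSystem CfsgLib.Fus21
open scoped commutatorElement BigOperators

universe u

variable {Ω : Type u} [Group Ω] {S : Subgroup Ω} {F : FusionSystem S} {p : ℕ} {U : Subgroup Ω}

theorem focal_le_iff {F : FusionSystem S} {D : Subgroup Ω} :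
    F.focalSubgroup ≤ D ↔ ∀ (P : Subgroup Ω) (φ : P →* Ω), φ ∈ F.Hom P → ∀ x : P, (x : Ω)⁻¹ * φ x ∈ D := by
  constructor
  · intro h P φ hφ x
    exact h (Subgroup.subset_closure ⟨P, φ, x, hφ, rfl⟩)
  · intro h
    rw [FusionSystem.focalSubgroup, Subgroup.closure_le]
    rintro _ ⟨P, φ, x, hφ, rfl⟩
    exact h P φ hφ x

/-- the subsystem of the maps which are trivial modulo `D` -/
def gradSys (F : FusionSystem S) (D : Subgroup Ω) (hD : ⁅S, S⁆ ≤ D) : FusionSystem S where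
  Hom P := {φ | φ ∈ F.Hom P ∧ ∀ x : P, (x : Ω)⁻¹ * φ x ∈ D}
  le_of_mem h := F.le_of_mem h.1
  injective_of_mem h := F.injective_of_mem h.1
  conj_mem := by
    intro P g hP hg
    refine ⟨F.conj_mem hP hg, fun x => hD ?_⟩
    have h1 := Subgroup.commutator_mem_commutator (S.inv_mem (hP x.2)) hg
    rw [commutatorElement_def] at h1
    have h2 : (x : Ω)⁻¹ * conjHom P g x = (x : Ω)⁻¹ * g * (x : Ω)⁻¹⁻¹ * g⁻¹ := by
      rw [inv_inv]
      show (x : Ω)⁻¹ * (g * (x : Ω) * g⁻¹) = _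
      group
    rw [h2]; exact h1
  comp_mem := by
    rintro P R φ ψ ⟨hφ, h1⟩ ⟨hψ, h2⟩ h
    refine ⟨F.comp_mem hφ hψ h, fun x => ?_⟩
    have h3 := D.mul_mem (h1 x) (h2 ⟨φ x, h x⟩)
    have h4 : (x : Ω)⁻¹ * φ x * ((φ x)⁻¹ * ψ ⟨φ x, h x⟩) = (x : Ω)⁻¹ * ψ ⟨φ x, h x⟩ := by group
    rw [h4] at h3
    exact h3
  inv_mem := by
    rintro P φ ⟨hφ, h1⟩
    obtain ⟨ψ, hψ, h2⟩ := F.inv_mem hφ
    refine ⟨ψ, ⟨hψ, ?_⟩, h2⟩
    rintro ⟨_, x, rfl⟩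
    rw [h2]
    have := D.inv_mem (h1 x)
    rwa [mul_inv_rev, inv_inv] at this

theorem gradSys_le_iff {E : FusionSystem S} {D : Subgroup Ω} {hD : ⁅S, S⁆ ≤ D} :
    E.focalSubgroup ≤ D ↔ E.IsSubsystemOf (gradSys E D hD) :=
  focal_le_iff.trans ⟨fun h P φ hφ => ⟨hφ, h P φ hφ⟩, fun h P φ hφ => (h P hφ).2⟩

theorem exists_tau' [Finite S] [hp : Fact p.Prime] (hS : IsPGroup p S) (hF : F.IsSaturated p) {A : Type*} [CommGroup A] (lam : S →* A)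
    {Q : Subgroup Ω} (hQS : Q ≤ S) (hQ : ∀ (P : Subgroup Ω) (φ : P →* Ω) (hφ : φ ∈ F.Hom P) (x : P), (x : Ω) ∈ Q →
      lam ⟨φ x, (F.le_of_mem hφ).2 x⟩ = lam ⟨x, (F.le_of_mem hφ).1 x.2⟩) :
    ∃ (τ : S →* A) (m : ℕ), ¬ p ∣ m ∧ (∀ (P : Subgroup Ω) (φ : P →* Ω) (hφ : φ ∈ F.Hom P) (x : P),
      τ ⟨φ x, (F.le_of_mem hφ).2 x⟩ = τ ⟨x, (F.le_of_mem hφ).1 x.2⟩) ∧ ∀ z (hz : z ∈ Q), τ ⟨z, hQS hz⟩ = lam ⟨z, hQS hz⟩ ^ m := by
  obtain ⟨Y, hact, hfin, c, hc, hst, hstab, hcard⟩ := exists_coc hS hF lam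
  let τ : S →* A := (MonoidHom.mk' (fun g => ∏ q, c g q) hc.prod_mul)⁻¹
  refine ⟨τ, Nat.card Y, hcard, fun P φ hφ x => ?_, fun z hz => ?_⟩
  · show (∏ q, c _ q)⁻¹ = (∏ q, c _ q)⁻¹
    rw [hstab P φ hφ x]
  · let c' : S → Y → A := fun g q => c g q * lam g
    have hc' : IsCoc c' := fun g h q => by
      show c (g * h) q * lam (g * h) = (c g (h • q) * lam g) * (c h q * lam h)
      rw [hc, map_mul, mul_mul_mul_comm]
    have h1 : ∏ q, c' ⟨z, hQS hz⟩ q = 1 := by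
      refine hc'.prod_one _ fun k hk q hkq => ?_
      have hkQ : (k : Ω) ∈ Q := by
        have h2 : Subgroup.zpowers (⟨z, hQS hz⟩ : S) ≤ Q.subgroupOf S := by
          rw [Subgroup.zpowers_le]; exact hz
        exact h2 hk
      obtain ⟨P, φ, hφ, hP⟩ := hst q
      obtain ⟨hg, h3⟩ := hP k hkq
      show c k q * lam k = 1
      rw [h3, hQ P φ hφ ⟨k, hg⟩ hkQ, inv_mul_eq_one]
    rw [Finset.prod_mul_distrib, Finset.prod_const, Finset.card_univ, ← Nat.card_eq_fintype_card] at h1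
    show (∏ q, c ⟨z, hQS hz⟩ q)⁻¹ = _
    exact inv_eq_of_mul_eq_one_right h1

/-- relative form of `foc ∩ Z ≤ S'` -/
theorem focal_inf_le [Finite S] [hp : Fact p.Prime] (hS : IsPGroup p S) (hF : F.IsSaturated p) {Q D : Subgroup Ω} (hQ : Q ≤ S)
    (hD : ⁅S, S⁆ ≤ D) (h : ∀ (P : Subgroup Ω) (φ : P →* Ω), φ ∈ F.Hom P → ∀ x : P, (x : Ω) ∈ Q → (x : Ω)⁻¹ * φ x ∈ D) :
    F.focalSubgroup ⊓ Q ≤ D := by
  have hc : _root_.commutator S ≤ D.subgroupOf S := by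
    intro x hx
    rw [Subgroup.mem_subgroupOf]
    apply hD
    rw [← comm_map_eq]
    exact ⟨x, hx, rfl⟩
  have hn : (D.subgroupOf S).Normal := Subgroup.Normal.of_commutator_le S hc
  letI : CommGroup (S ⧸ D.subgroupOf S) := { (inferInstance : Group (S ⧸ D.subgroupOf S)) with
    mul_comm := ((Subgroup.Normal.quotient_commutative_iff_commutator_le (N := D.subgroupOf S)).2 hc).1.comm }
  obtain ⟨τ, m, hm, h1, h2⟩ := exists_tau' hS hF (QuotientGroup.mk' (D.subgroupOf S)) hQ (fun P φ hφ x hx => by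
    symm
    refine QuotientGroup.eq.2 ?_
    exact h P φ hφ x hx)
  rintro z ⟨hzF, hzQ⟩
  have h3 : F.focalSubgroup ≤ τ.ker.map S.subtype := by
    rw [FusionSystem.focalSubgroup, Subgroup.closure_le]
    rintro _ ⟨P, φ, x, hφ, rfl⟩
    refine ⟨⟨x, (F.le_of_mem hφ).1 x.2⟩⁻¹ * ⟨φ x, (F.le_of_mem hφ).2 x⟩, ?_, rfl⟩
    rw [SetLike.mem_coe, MonoidHom.mem_ker, map_mul, map_inv, h1 P φ hφ x, inv_mul_cancel]
  obtain ⟨y, hy, hyz⟩ := h3 hzF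
  have h4 : y = ⟨z, hQ hzQ⟩ := Subtype.ext hyz
  have h5 := h2 z hzQ
  rw [← h4, MonoidHom.mem_ker.1 hy] at h5
  have h6 : y ^ m ∈ D.subgroupOf S := by
    rw [← QuotientGroup.eq_one_iff]
    exact h5.symm
  obtain ⟨n, hn⟩ := hS y
  have hcop : m.Coprime (orderOf y) := Nat.Coprime.coprime_dvd_right (orderOf_dvd_of_pow_eq_one hn)
    (Nat.Coprime.pow_right n ((Nat.Prime.coprime_iff_not_dvd hp.out).2 hm).symm)
  obtain ⟨k, hk⟩ := exists_pow_eq_self_of_coprime hcop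
  have h7 : y ∈ D.subgroupOf S := by rw [← hk]; exact Subgroup.pow_mem _ h6 k
  rw [h4] at h7
  exact h7

end CfsgLib.FT
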