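import Cfsg.Agent.LibFT30

set_option autoImplicit false

/-! Control of transfer by a positive characteristic functor (helper1) -/

namespace CfsgLib.FT

open Cfsg Cfsg.FusionSystem CfsgLib.Fus21
open scoped commutatorElement BigOperators

universe u

theorem comm_le_focal {Ω : Type u} [Group Ω] {T : Subgroup Ω} (N : FusionSystem T) : ⁅T, T⁆ ≤ N.focalSubgroup := by
  rw [Subgroup.commutator_le]
  intro x hx g hg
  have h1 := focal_le_iff.1 (le_refl N.focalSubgroup) T _ (N.conj_mem le_rfl hg) ⟨x⁻¹, T.inv_mem hx⟩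
  have h2 : (x⁻¹ : Ω)⁻¹ * conjHom T g ⟨x⁻¹, T.inv_mem hx⟩ = ⁅x, g⁆ := by
    rw [commutatorElement_def]
    show (x⁻¹ : Ω)⁻¹ * (g * x⁻¹ * g⁻¹) = _
    group
  rw [← h2]; exact h1

theorem focal_mono {Ω : Type u} [Group Ω] {S T : Subgroup Ω} {E : FusionSystem T} {F : FusionSystem S} (h : E.IsSubsystemOf F) :
    E.focalSubgroup ≤ F.focalSubgroup :=
  focal_le_iff.2 fun P φ hφ x => Subgroup.subset_closure ⟨P, φ, x, h P hφ, rfl⟩

section

variable {p : ℕ} [hp : Fact p.Prime] {W : ∀ (Q : Type u) [Group Q], Subgroup Q}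
    (hW1 : ∀ (Q : Type u) [Group Q] [Finite Q], IsPGroup p Q → Nontrivial Q → W Q ≠ ⊥)
    (hW2 : ∀ (Q R : Type u) [Group Q] [Group R] [Finite Q], IsPGroup p Q → ∀ φ : Q ≃* R, (W Q).map φ.toMonoidHom = W R)
    (hT : ∀ (G : Type u) [Group G] [Finite G] (P : Sylow p G), Subgroup.centralizer ((Cfsg.pCore p G : Subgroup G) : Set G) ≤ Cfsg.pCore p G →
      Cfsg.pCore p G ⊓ commutator G = Cfsg.pCore p G ⊓ (commutator ↥(Subgroup.normalizer (((W ↥(P : Subgroup G)).map (P : Subgroup G).subtype : Subgroup G) : Set G))).map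
        (Subgroup.normalizer (((W ↥(P : Subgroup G)).map (P : Subgroup G).subtype : Subgroup G) : Set G)).subtype)

include hW1 hW2 hT

/-- the local step -/
theorem local_transfer
    {Ω : Type u} [Group Ω] {S : Subgroup Ω} [Finite S] (hS : IsPGroup p S) {E : FusionSystem S} (hE : E.IsSaturated p) {K : Subgroup Ω}
    (hKn : E.IsNormal K) (hKc : E.IsCentric K) (hwS : ofW W S ≤ S) {P : Subgroup Ω} {φ : P →* Ω} (hφ : φ ∈ E.Hom P) (x : P) (hx : (x : Ω) ∈ K) :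
    (x : Ω)⁻¹ * φ x ∈ (normSys E (ofW W S) hwS).focalSubgroup := by
  obtain ⟨G, hGg, ι, hm⟩ := model_exists hS ⟨hE, K, hKn, hKc⟩
  obtain ⟨hf, hr, ⟨T, hTr⟩, hC⟩ := id hm
  have hloc := hT G T hC
  have hWT : (W ↥(T : Subgroup G)).map (T : Subgroup G).subtype = img ι (ofW W S) := ofW_img hW2 hS hr.1 hTr
  rw [hWT] at hloc
  have hPS := le_S hφ
  have hgf : GFun Ω p (ofW W) := gfun_ofW hW1 hW2 Ω
  have hwn : S ≤ normalizerIn S (ofW W S) := (le_normalizerIn le_rfl).trans ((hgf.wfun hS E).normalizer le_rfl)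
  have hφK : φ x ∈ K := (stronglyClosed_mem_iff (normal_stronglyClosed hKn) hφ x).2 hx
  have hKS := hKn.1
  set D := (normSys E (ofW W S) hwS).focalSubgroup with hD
  have hDS : D ≤ S := (focal_le_S _).trans (normalizerIn_le _ _)
  have hSD : ⁅S, S⁆ ≤ D := (Subgroup.commutator_mono hwn hwn).trans (comm_le_focal _)
  -- the element of `G`
  obtain ⟨g, hg⟩ := (hr.2 P hPS φ (fun y => mem_S hφ y)).1 hφ
  set N := Subgroup.normalizer ((img ι (ofW W S) : Subgroup G) : Set G) with hN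
  have hTN : (T : Subgroup G) ≤ N := by
    intro t ht
    rw [hTr] at ht
    obtain ⟨s, rfl⟩ := ht
    rw [hN, Subgroup.mem_normalizer_iff]
    have hs := (mem_normalizerIn.1 (hwn s.2)).2
    intro y
    constructor
    · rintro ⟨z, hz, rfl⟩
      have h1 := (hs z).1 (Subgroup.mem_subgroupOf.1 hz)
      refine ⟨s * z * s⁻¹, Subgroup.mem_subgroupOf.2 h1, ?_⟩
      rw [map_mul, map_mul, map_inv]
    · rintro ⟨z, hz, h1⟩
      have h2 := (hs ((s : Ω)⁻¹ * (z : Ω) * (s : Ω))).2 (by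
        have : (s : Ω) * ((s : Ω)⁻¹ * (z : Ω) * (s : Ω)) * (s : Ω)⁻¹ = (z : Ω) := by group
        rw [this]; exact Subgroup.mem_subgroupOf.1 hz)
      refine ⟨s⁻¹ * z * s, Subgroup.mem_subgroupOf.2 h2, ?_⟩
      rw [map_mul, map_mul, map_inv, h1]; group
  -- the element in the core
  have hw1 : (ι ⟨x, hPS x.2⟩)⁻¹ * ι ⟨φ x, mem_S hφ x⟩ ∈ pCore p G ⊓ commutator G := by
    constructor
    · have hKp : img ι K ≤ pCore p G := CfsgLib.Cores.le_pCore (model_normal hm hKn hKc).1 (isPGroup_img hS _)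
      exact hKp ((img ι K).mul_mem ((img ι K).inv_mem (mem_img_of hKS hx)) (mem_img_of hKS hφK))
    · rw [hg]
      have h1 := Subgroup.commutator_mem_commutator (Subgroup.mem_top (ι ⟨x, hPS x.2⟩)⁻¹) (Subgroup.mem_top g)
      rw [commutatorElement_def, inv_inv] at h1
      have h2 : (ι ⟨x, hPS x.2⟩)⁻¹ * (g * ι ⟨x, hPS x.2⟩ * g⁻¹) = (ι ⟨x, hPS x.2⟩)⁻¹ * g * ι ⟨x, hPS x.2⟩ * g⁻¹ := by group
      rw [h2]; exact h1
  rw [hloc] at hw1
  obtain ⟨n, hn, hnw⟩ := hw1.2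
  -- the focal subgroup theorem in `N`
  let T' : Sylow p N := T.subtype hTN
  have hmT' : ∀ y : N, y ∈ (T' : Subgroup N) ↔ (y : G) ∈ (T : Subgroup G) := fun y => by
    show y ∈ ((T : Subgroup G).subgroupOf N) ↔ _
    rw [Subgroup.mem_subgroupOf]
  have hfoc : (T' : Subgroup N) ⊓ commutator N ≤ (img ι D).subgroupOf N := by
    refine CfsgLib.FusionH12c.focal_le_top T' fun d hd h hh => ?_
    rw [hmT', hTr] at hd
    obtain ⟨s, hs⟩ := hd
    rw [hmT', hTr] at hh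
    rw [Subgroup.mem_subgroupOf]
    have hhN := Subgroup.mem_normalizer_iff.1 h.2
    -- the morphism
    set P₀ := Subgroup.zpowers (s : Ω) with hP₀
    have hP₀S : P₀ ≤ S := by rw [hP₀, Subgroup.zpowers_le]; exact s.2
    have hRS : P₀ ⊔ ofW W S ≤ S := sup_le hP₀S hwS
    have hRm : P₀ ⊔ ofW W S ≤ ((ι.range.comap (MulAut.conj (h : G)).toMonoidHom).comap ι).map S.subtype := by
      refine sup_le ?_ ?_
      · rw [hP₀, Subgroup.zpowers_le]
        refine ⟨s, ?_, rfl⟩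
        show (h : G) * ι s * (h : G)⁻¹ ∈ ι.range
        rw [hs]; exact hh
      · intro y hy
        refine ⟨⟨y, hwS hy⟩, ?_, rfl⟩
        show (h : G) * ι ⟨y, hwS hy⟩ * (h : G)⁻¹ ∈ ι.range
        exact imageAlong_le_range ι _ ((hhN _).1 (mem_img_of hwS hy))
    obtain ⟨ψ, hψ, hψe⟩ := real_conj hr hRS (h : G) (fun y hy => by
      obtain ⟨z, hz, hzy⟩ := hRm hy
      have : z = ⟨y, hRS hy⟩ := Subtype.ext hzy
      rw [← this]; exact hz)
    haveI : Finite (ofW W S) := finite_of_le hwS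
    obtain ⟨κ, hκ⟩ := exists_aut_of_maps hψ (le_sup_right : ofW W S ≤ P₀ ⊔ ofW W S) (fun y hy => by
      obtain ⟨h1, h2⟩ := hψe y (Subgroup.mem_sup_right hy)
      have h3 := (hhN _).1 (mem_img_of (ι := ι) hwS hy)
      rw [← h2] at h3
      exact (mem_img_iff hr.1 h1).1 h3)
    have hψN : ψ.comp (Subgroup.inclusion le_sup_left) ∈ (normSys E (ofW W S) hwS).Hom P₀ :=
      mem_normSys_of (hP₀S.trans hwn) hψ le_sup_left le_sup_right (fun _ _ => rfl) κ hκ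
    have h4 := focal_le_iff.1 (le_refl D) P₀ _ hψN ⟨s, Subgroup.mem_zpowers _⟩
    obtain ⟨h5, h6⟩ := hψe s (Subgroup.mem_sup_left (Subgroup.mem_zpowers _))
    have h7 : ψ ⟨s, Subgroup.mem_sup_left (Subgroup.mem_zpowers _)⟩ * (s : Ω)⁻¹ ∈ D := by
      have h8 : (s : Ω)⁻¹ * ψ ⟨s, Subgroup.mem_sup_left (Subgroup.mem_zpowers _)⟩ ∈ D := h4
      have h9 := Subgroup.commutator_mem_commutator s.2 (hDS h8)
      have h10 := D.mul_mem (hSD h9) h8
      rw [commutatorElement_def] at h10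
      have h11 : (s : Ω) * ((s : Ω)⁻¹ * ψ ⟨s, Subgroup.mem_sup_left (Subgroup.mem_zpowers _)⟩) * (s : Ω)⁻¹ *
        ((s : Ω)⁻¹ * ψ ⟨s, Subgroup.mem_sup_left (Subgroup.mem_zpowers _)⟩)⁻¹ * ((s : Ω)⁻¹ * ψ ⟨s, Subgroup.mem_sup_left (Subgroup.mem_zpowers _)⟩) =
        ψ ⟨s, Subgroup.mem_sup_left (Subgroup.mem_zpowers _)⟩ * (s : Ω)⁻¹ := by group
      rwa [h11] at h10
    have h12 := mem_img_of (ι := ι) hDS h7
    have h13 : ι ⟨ψ ⟨s, Subgroup.mem_sup_left (Subgroup.mem_zpowers _)⟩ * (s : Ω)⁻¹, hDS h7⟩ =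
        ι ⟨ψ ⟨s, Subgroup.mem_sup_left (Subgroup.mem_zpowers _)⟩, h5⟩ * (ι s)⁻¹ := by
      rw [← map_inv, ← map_mul]
      rfl
    rw [h13, h6] at h12
    have h14 : ι (⟨s, hRS (Subgroup.mem_sup_left (Subgroup.mem_zpowers _))⟩ : S) = ι s := rfl
    rw [h14, hs] at h12
    exact h12
  have h1 : n ∈ (T' : Subgroup N) := by
    rw [hmT', hTr]
    refine ⟨⟨x, hPS x.2⟩⁻¹ * ⟨φ x, mem_S hφ x⟩, ?_⟩
    rw [map_mul, map_inv]
    exact hnw.symm
  have h2 := hfoc ⟨h1, hn⟩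
  rw [Subgroup.mem_subgroupOf] at h2
  have h3 : (n : G) = ι (⟨x, hPS x.2⟩⁻¹ * ⟨φ x, mem_S hφ x⟩) := by
    rw [map_mul, map_inv]; exact hnw
  rw [h3] at h2
  exact (mem_img_iff hr.1 (V := D) (S.mul_mem (S.inv_mem (hPS x.2)) (mem_S hφ x))).1 h2

theorem local_transfer'
    {Ω : Type u} [Group Ω] {S : Subgroup Ω} [Finite S] (hS : IsPGroup p S) {F : FusionSystem S} {T : Subgroup Ω} (hTS : T = S) {E : FusionSystem T}
    (hE : E.IsSaturated p) (hEF : E.IsSubsystemOf F) {K : Subgroup Ω}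
    (hKn : E.IsNormal K) (hKc : E.IsCentric K) (hwS : ofW W S ≤ S) {P : Subgroup Ω} {φ : P →* Ω} (hφ : φ ∈ E.Hom P) (x : P) (hx : (x : Ω) ∈ K) :
    (x : Ω)⁻¹ * φ x ∈ (normSys F (ofW W S) hwS).focalSubgroup := by
  subst hTS
  refine focal_mono (fun P φ h => ?_) (local_transfer hW1 hW2 hT hS hE hKn hKc hwS hφ x hx)
  obtain ⟨ψ, hψ, h1, κ, h2⟩ := normSys_ext h
  exact mem_normSys_of (le_S h) (hEF _ hψ) le_sup_left le_sup_right h1 κ h2
--_transfer hW1 hW2 hT hS hE hKn hKc hwS hφ x hx)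

end

end CfsgLib.FT
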