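import Cfsg.Agent.LibFT31

set_option autoImplicit false

/-! Control of transfer by a positive characteristic functor: the induction (helper1) -/

namespace CfsgLib.FT

open Cfsg Cfsg.FusionSystem CfsgLib.Fus21
open scoped commutatorElement BigOperators

universe u

theorem transfer_main {p : ℕ} [hp : Fact p.Prime] {W : ∀ (Q : Type u) [Group Q], Subgroup Q}
    (hW1 : ∀ (Q : Type u) [Group Q] [Finite Q], IsPGroup p Q → Nontrivial Q → W Q ≠ ⊥)
    (hW2 : ∀ (Q R : Type u) [Group Q] [Group R] [Finite Q], IsPGroup p Q → ∀ φ : Q ≃* R, (W Q).map φ.toMonoidHom = W R)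
    (hT : ∀ (G : Type u) [Group G] [Finite G] (P : Sylow p G), Subgroup.centralizer ((Cfsg.pCore p G : Subgroup G) : Set G) ≤ Cfsg.pCore p G →
      Cfsg.pCore p G ⊓ commutator G = Cfsg.pCore p G ⊓ (commutator ↥(Subgroup.normalizer (((W ↥(P : Subgroup G)).map (P : Subgroup G).subtype : Subgroup G) : Set G))).map
        (Subgroup.normalizer (((W ↥(P : Subgroup G)).map (P : Subgroup G).subtype : Subgroup G) : Set G)).subtype) :
    ∀ (n m : ℕ) (Ω : Type u) [Group Ω] (S : Subgroup Ω) (F : FusionSystem S), Finite S → IsPGroup p S → F.IsSaturated p →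
      Nat.card S = n → mm F = m → ∀ hwS : ofW W S ≤ S, F.focalSubgroup ≤ (normSys F (ofW W S) hwS).focalSubgroup := by
  intro n
  induction n using Nat.strong_induction_on with
  | _ n IH1 =>
  intro m
  induction m using Nat.strong_induction_on with
  | _ m IH2 =>
  intro Ω _ S F hfin hS hF hcard hm hwS
  have hgf : GFun Ω p (ofW W) := gfun_ofW hW1 hW2 Ω
  have hwf := (hgf.wfun hS F).wf
  have hwn : S ≤ normalizerIn S (ofW W S) := (le_normalizerIn le_rfl).trans ((hgf.wfun hS F).normalizer le_rfl)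
  set D := (normSys F (ofW W S) hwS).focalSubgroup with hD
  have hSD : ⁅S, S⁆ ≤ D := (Subgroup.commutator_mono hwn hwn).trans (comm_le_focal _)
  -- sub-lemma
  have hsubN : ∀ (U : Subgroup Ω) (hU : F.IsFullyNormalized U), ¬ F.IsNormal U →
      ∀ hwU : ofW W (normalizerIn S U) ≤ normalizerIn S U,
      (∀ P, (normSys (normSys F U hU.1) (ofW W (normalizerIn S U)) hwU).Hom P ⊆ (gradSys F D hSD).Hom P) →
      (normSys F U hU.1).focalSubgroup ≤ D := by
    intro U hU hUn hwU hND
    have hTS := normalizerIn_le S U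
    have hT : Finite (normalizerIn S U) := finite_of_le hTS
    have hTp : IsPGroup p (normalizerIn S U) := hS.to_le hTS
    have hEs := normSys_saturated hS hF hU
    have hlt := normSys_mm_lt hU.1 hUn
    have hcle : Nat.card (normalizerIn S U) ≤ Nat.card S := card_le_card_S hTS
    have h1 : (normSys (normSys F U hU.1) (ofW W (normalizerIn S U)) hwU).focalSubgroup ≤ D :=
      focal_le_iff.2 fun P φ hφ => (hND P hφ).2
    refine le_trans ?_ h1
    rcases hcle.lt_or_eq with hc | hc
    · exact IH1 _ (hcard ▸ hc) _ Ω _ _ hT hTp hEs rfl rfl hwU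
    · exact IH2 _ (hm ▸ hlt) Ω _ _ hT hTp hEs (hc.trans hcard) rfl hwU
  have hRD : ∀ (R : Subgroup Ω) (hRS : R ≤ S), S ≤ normalizerIn S R → ¬ F.IsNormal R →
      (normSys F R hRS).focalSubgroup ≤ D := by
    intro R hRS hRn hRnn
    have hRfn : F.IsFullyNormalized R := fn_of_normalizer_eq F hRS hRn
    have hTeq : normalizerIn S R = S := le_antisymm (normalizerIn_le _ _) hRn
    refine hsubN R hRfn hRnn (hgf.le _) fun P φ hφ => ?_
    have key : ∀ (W' : Subgroup Ω) (hW' : W' = ofW W S) (h : W' ≤ normalizerIn S R),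
        (normSys (normSys F R hRfn.1) W' h).Hom P ⊆ (normSys F (ofW W S) hwS).Hom P := by
      rintro W' rfl h
      exact normSys_normSys_sub hRS hRn h hwS hwn P
    have h2 := key _ (by rw [hTeq]) _ hφ
    exact ⟨h2.1, focal_le_iff.1 le_rfl P φ h2⟩
  by_cases hcore : F.core = ⊥
  · -- no normal subgroup
    have hle : F ≤ gradSys F D hSD := by
      refine control_gen hS hF hwf (gradSys F D hSD) hwS ⊥ (central_isNormal (isCentral_bot F)) (fun _ _ _ => bot_le)
        (fun P φ hφ => ⟨hφ.1, focal_le_iff.1 le_rfl P φ hφ⟩) ?_ ?_ ?_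
      · intro U hU _ hUn _ hwU hND P φ hφ
        exact ⟨hφ.1, focal_le_iff.1 (hsubN U hU hUn hwU hND) P φ hφ⟩
      · intro U hU _ hUn hwn
        exfalso
        have h1 := le_core hwn
        rw [hcore, le_bot_iff] at h1
        have hTS := normalizerIn_le S U
        have hT : Finite (normalizerIn S U) := finite_of_le hTS
        have hTp : IsPGroup p (normalizerIn S U) := hS.to_le hTS
        have h2 : normalizerIn S U = ⊥ := by
          by_contra hne
          exact hgf.ne _ hT hTp hne h1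
        have h3 : U = ⊥ := le_bot_iff.1 (h2 ▸ le_normalizerIn hU.1)
        rw [h3] at hUn
        exact hUn (central_isNormal (isCentral_bot F))
      · intro P hPe hPn α hα
        have h1 := le_core hPn
        rw [hcore, le_bot_iff] at h1
        subst h1
        have h2 : α = 1 := by
          ext x
          have h1 := Subgroup.mem_bot.1 x.2
          have h2 := Subgroup.mem_bot.1 ((α x).2)
          rw [h2]
          exact h1.symm
        rw [h2]
        exact Subgroup.one_mem _
    exact focal_le_iff.2 fun P φ hφ => (hle P hφ).2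
  · have hQn := isNormal_core F
    have hDF : D ≤ F.focalSubgroup := focal_mono (normSys_sub F _ hwS)
    -- the morphisms on the core
    have hQD : ∀ (P : Subgroup Ω) (φ : P →* Ω), φ ∈ F.Hom P → ∀ x : P, (x : Ω) ∈ F.core → (x : Ω)⁻¹ * φ x ∈ D := by
      intro P φ hφ x hx
      obtain ⟨K, hK, hQK, hCK, hKc, hKn, hKext⟩ := exists_QC hS hF hQn
      obtain ⟨ψ, hψ, h1, κ, h2⟩ := normal_aut hQn hφ
      have hκ : κ ∈ F.autGroup F.core := by
        rw [mem_autGroup hQn.1]
        refine mem_congr (restrict_mem hψ le_sup_right) fun y => ?_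
        exact (h2 y y.2).symm
      obtain ⟨χ, hχ, hχe⟩ := hKext κ hκ
      have h3 : φ x = χ ⟨x, hQK hx⟩ := by
        rw [hχe x hx (hQK hx), ← h2 x hx, ← h1 x x.2]
      rw [h3]
      have hTeq : normalizerIn S K = S := le_antisymm (normalizerIn_le _ _) hKn
      obtain ⟨hsat, hnorm, hcent⟩ : (normSys F K hK.1).IsSaturated p ∧ (normSys F K hK.1).IsNormal K ∧ (normSys F K hK.1).IsCentric K :=
        ⟨normSys_saturated hS hF hK, normSys_normal F K hK.1, centric_sub (normSys_sub F K hK.1) (normalizerIn_le S K) (le_normalizerIn hK.1) hKc⟩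
      exact local_transfer' hW1 hW2 hT hS hTeq hsat (normSys_sub F K hK.1) hnorm hcent hwS hχ ⟨x, hQK hx⟩ (hQK hx)
    have hinf : F.focalSubgroup ⊓ F.core ≤ D := focal_inf_le hS hF hQn.1 hSD hQD
    by_cases hSQ : S ≤ F.core
    · exact le_trans (le_inf le_rfl ((focal_le_S F).trans hSQ)) hinf
    -- the factor system
    have hnorm := normal_subgroupOf hQn
    obtain ⟨E, hE, hEs⟩ := exists_factor hS hF (normal_stronglyClosed hQn) hnorm
    have hT' : Finite (⊤ : Subgroup (S ⧸ F.core.subgroupOf S)) := factor_finite hE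
    have hTp' := factor_pgroup hS hE
    have hcardf := factor_card hE
    have hgf' : GFun (S ⧸ F.core.subgroupOf S) p (ofW W) := gfun_ofW hW1 hW2 _
    set W' := ofW W (⊤ : Subgroup (S ⧸ F.core.subgroupOf S)) with hW'
    have hTne : (⊤ : Subgroup (S ⧸ F.core.subgroupOf S)) ≠ ⊥ := by
      intro h
      apply hSQ
      intro x hx
      rw [← hE.2.1 ⟨x, hx⟩]
      have h2 : QuotientGroup.mk' (F.core.subgroupOf S) ⟨x, hx⟩ ∈ (⊤ : Subgroup (S ⧸ F.core.subgroupOf S)) := trivial
      rw [h] at h2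
      exact Subgroup.mem_bot.1 h2
    have hW'ne := hgf'.ne _ hT' hTp' hTne
    obtain ⟨R, hRdef⟩ : ∃ R, R = preimageAlong (QuotientGroup.mk' (F.core.subgroupOf S)) W' := ⟨_, rfl⟩
    have hRS : R ≤ S := by rw [hRdef]; exact preimageAlong_le _ _
    have hW'r : W' ≤ (QuotientGroup.mk' (F.core.subgroupOf S)).range := by rw [hE.2.2.1]; exact le_top
    have hRn : S ≤ normalizerIn S R := by
      intro x hx
      refine ⟨hx, ?_⟩
      have h1 := (mem_normalizer_pre hW'r hE.2.1 hx)
      rw [← hRdef] at h1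
      refine h1.2 ?_
      have h2 : (⊤ : Subgroup (S ⧸ F.core.subgroupOf S)) ≤ normalizerIn ⊤ W' :=
        (le_normalizerIn le_rfl).trans ((hgf'.wfun hTp' E).normalizer le_rfl)
      exact (h2 trivial).2
    have hRnn : ¬ F.IsNormal R := by
      intro h
      have h1 := le_core h
      apply hW'ne
      rw [eq_bot_iff]
      intro y hy
      obtain ⟨x, rfl⟩ := hW'r hy
      have hxR : (x : Ω) ∈ R := by rw [hRdef]; exact mem_preimageAlong.2 ⟨x.2, hy⟩
      rw [Subgroup.mem_bot, hE.2.1]
      exact h1 hxR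
    have hRin := hRD R hRS hRn hRnn
    have hEin : E.focalSubgroup ≤ (normSys E W' le_top).focalSubgroup := by
      refine IH1 (Nat.card (⊤ : Subgroup (S ⧸ F.core.subgroupOf S))) ?_ _ _ ⊤ E hT' hTp' hEs rfl rfl le_top
      rw [← hcard, hcardf]
      have hpos : 0 < Nat.card (⊤ : Subgroup (S ⧸ F.core.subgroupOf S)) := Nat.card_pos
      have h2 : 1 < Nat.card F.core := by
        haveI : Finite F.core := finite_of_le hQn.1
        exact (Subgroup.one_lt_card_iff_ne_bot _).2 hcore
      nlinarith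
    have hND : (normSys E W' le_top).focalSubgroup ≤ (D.subgroupOf S).map (QuotientGroup.mk' (F.core.subgroupOf S)) := by
      refine focal_le_iff.2 fun P' φ' hφ' y => ?_
      obtain ⟨ψ, hψ, h1⟩ := lift_normSys hE le_top hRdef hRS hφ'
      obtain ⟨x, hx⟩ := QuotientGroup.mk'_surjective (F.core.subgroupOf S) (y : S ⧸ F.core.subgroupOf S)
      have hxm : (x : Ω) ∈ preimageAlong (QuotientGroup.mk' (F.core.subgroupOf S)) (P' ⊔ W') := by
        refine mem_preimageAlong.2 ⟨x.2, ?_⟩
        show QuotientGroup.mk' (F.core.subgroupOf S) x ∈ _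
        rw [hx]
        exact Subgroup.mem_sup_left y.2
      have hψS : ψ ⟨x, hxm⟩ ∈ S := mem_S (hψ.1) _
      have h2 := h1 x x.2 hxm (by
        show QuotientGroup.mk' (F.core.subgroupOf S) x ∈ _
        rw [hx]; exact y.2) hψS
      have h3 := hRin (Subgroup.subset_closure ⟨_, ψ, ⟨x, hxm⟩, hψ, rfl⟩)
      refine ⟨x⁻¹ * ⟨ψ ⟨x, hxm⟩, hψS⟩, h3, ?_⟩
      have h9 : φ' ⟨QuotientGroup.mk' (F.core.subgroupOf S) x, by rw [hx]; exact y.2⟩ = φ' y := by
        congr 1
        exact Subtype.ext hx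
      rw [map_mul, map_inv, h2]
      exact congrArg₂ (fun a b => a⁻¹ * b) hx h9
    -- conclusion
    have hmor := (factor_surjective hS hF (normal_stronglyClosed hQn) hE).1
    have hF2 : F.focalSubgroup ≤ preimageAlong (QuotientGroup.mk' (F.core.subgroupOf S)) ((D.subgroupOf S).map (QuotientGroup.mk' (F.core.subgroupOf S))) := by
      refine focal_le_iff.2 fun P φ hφ x => ?_
      have hxS : (x : Ω) ∈ S := le_S hφ x.2
      have hφS : φ x ∈ S := mem_S hφ x
      refine mem_preimageAlong.2 ⟨S.mul_mem (S.inv_mem hxS) hφS, ?_⟩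
      obtain ⟨φ', hφ', hind⟩ := hmor.2 P φ hφ
      have h' : QuotientGroup.mk' (F.core.subgroupOf S) ⟨x, hxS⟩ ∈ imageAlong (QuotientGroup.mk' (F.core.subgroupOf S)) P :=
        mem_imageAlong.2 ⟨x, hxS, x.2, rfl⟩
      have h2 := induced_apply hind x.2 hxS hφS h'
      have h3 := hND (hEin (Subgroup.subset_closure ⟨_, φ', ⟨_, h'⟩, hφ', rfl⟩))
      rw [h2] at h3
      exact h3
    intro z hz
    obtain ⟨hzS, d, hd, hdz⟩ := mem_preimageAlong.1 (hF2 hz)
    have hdD : (d : Ω) ∈ D := Subgroup.mem_subgroupOf.1 hd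
    have h1 : (d : Ω)⁻¹ * z ∈ F.core := by
      have h2 := (QuotientGroup.eq (s := F.core.subgroupOf S) (a := d) (b := ⟨z, hzS⟩)).1 hdz
      exact Subgroup.mem_subgroupOf.1 h2
    have h2 : (d : Ω)⁻¹ * z ∈ F.focalSubgroup := F.focalSubgroup.mul_mem (F.focalSubgroup.inv_mem (hDF hdD)) hz
    have h3 := D.mul_mem hdD (hinf ⟨h2, h1⟩)
    rwa [mul_inv_cancel_left] at h3

end CfsgLib.FT
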