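import Cfsg.Agent.LibQuadSL9
import Cfsg.Agent.LibQd9E
/-! Torus elements acting on quadratic pairs. Seat helper9. -/
set_option autoImplicit false
set_option maxHeartbeats 400000

namespace CfsgLib.Fail9

open CfsgLib.Dick9 CfsgLib.QuadSL9

theorem zmod3_cases : ∀ t : ZMod 3, t ≠ 0 → t = 1 ∨ t = -1 := by decide

section part1

variable {k : Type*} [Field k] {V : Type*} [AddCommGroup V] [Module k V]

theorem eq_neg_one_of_sq {g : Matrix.SpecialLinearGroup (Fin 2) k} (h2 : (2 : k) ≠ 0) (h : g * g = 1) (h1 : g ≠ 1) :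
    g = -1 := by
  have e00 : g 0 0 * g 0 0 + g 0 1 * g 1 0 = 1 := by rw [← mul00, h, one00]
  have e01 : g 0 0 * g 0 1 + g 0 1 * g 1 1 = 0 := by rw [← mul01, h, one01]
  have e10 : g 1 0 * g 0 0 + g 1 1 * g 1 0 = 0 := by rw [← mul10, h, one10]
  have e11 : g 1 0 * g 0 1 + g 1 1 * g 1 1 = 1 := by rw [← mul11, h, one11]
  have d := det_eq g
  have t1 : g 0 1 * (g 0 0 + g 1 1) = 0 := by linear_combination e01
  have t2 : g 1 0 * (g 0 0 + g 1 1) = 0 := by linear_combination e10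
  have t3 : g 0 0 * (g 0 0 + g 1 1) = 2 := by linear_combination e00 + d
  have ht : g 0 0 + g 1 1 ≠ 0 := by
    intro h0; rw [h0, mul_zero] at t3; exact h2 t3.symm
  have b0 : g 0 1 = 0 := (mul_eq_zero.1 t1).resolve_right ht
  have c0 : g 1 0 = 0 := (mul_eq_zero.1 t2).resolve_right ht
  rw [b0, c0] at e00 e11
  rw [b0] at d
  have d' : g 0 0 * g 1 1 = 1 := by linear_combination d
  have e1 : (g 0 0 - 1) * (g 0 0 + 1) = 0 := by linear_combination e00
  rcases mul_eq_zero.1 e1 with h3 | h3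
  · exfalso
    apply h1
    have h4 : g 0 0 = 1 := by linear_combination h3
    have h5 : g 1 1 = 1 := by rw [h4] at d'; linear_combination d'
    exact ext2 (by rw [h4, one00]) (by rw [b0, one01]) (by rw [c0, one10]) (by rw [h5, one11])
  · have h4 : g 0 0 = -1 := by linear_combination h3
    have h5 : g 1 1 = -1 := by rw [h4] at d'; linear_combination -d'
    exact ext2 (by rw [neg_apply', h4, one00]) (by rw [neg_apply', b0, one01]; simp)
      (by rw [neg_apply', c0, one10]; simp) (by rw [neg_apply', h5, one11])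

/-- the torus over an algebraically closed field -/
theorem torus1 [IsAlgClosed k] [FiniteDimensional k V] {p : ℕ} [Fact p.Prime] [CharP k p] [Algebra (ZMod p) k] (hp : p ≠ 2)
    {H : Type*} [Group H] [Finite H] (ρ : H →* Module.End k V) {a b : H} (hab : Subgroup.closure {a, b} = ⊤)
    (hx : (ρ a - 1) * (ρ a - 1) = 0) (hy : (ρ b - 1) * (ρ b - 1) = 0)
    (hz : ¬ IsNilpotent ((ρ a - 1) * (ρ b - 1) + (ρ b - 1) * (ρ a - 1))) :
    ∃ u : V, u ≠ 0 ∧ (ρ a - 1) u = 0 ∧ ∀ t : ZMod p, t ≠ 0 → ∃ h : H, ρ h u = algebraMap (ZMod p) k t • u ∧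
      ρ h ((ρ b - 1) u) = algebraMap (ZMod p) k t⁻¹ • (ρ b - 1) u := by
  obtain ⟨x, hxdef⟩ : ∃ x, x = ρ a - 1 := ⟨_, rfl⟩
  obtain ⟨y, hydef⟩ : ∃ y, y = ρ b - 1 := ⟨_, rfl⟩
  rw [← hxdef, ← hydef] at hz
  rw [← hxdef] at hx
  rw [← hydef] at hy
  obtain ⟨z, hzdef⟩ : ∃ z, z = x * y + y * x := ⟨_, rfl⟩
  rw [← hzdef] at hz
  have hzx : z * x = x * z := by
    rw [hzdef, add_mul, mul_add, mul_assoc y x x, hx, ← mul_assoc x x y, hx]
    simp [mul_assoc]
  have hxx : ∀ w, x (x w) = 0 := fun w => by rw [← Module.End.mul_apply, hx]; rfl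
  have hyy : ∀ w, y (y w) = 0 := fun w => by rw [← Module.End.mul_apply, hy]; rfl
  have hxy : ∀ w, x (y w) = z w - y (x w) := fun w => by
    rw [hzdef]; simp
  obtain ⟨μ, hμ, w, hw, hzw⟩ := exists_eigen hz
  obtain ⟨u, hu, hxu, hzu⟩ : ∃ u, u ≠ 0 ∧ x u = 0 ∧ z u = μ • u := by
    by_cases h : x w = 0
    · exact ⟨w, hw, h, hzw⟩
    · refine ⟨x w, h, hxx w, ?_⟩
      rw [← Module.End.mul_apply, hzx, Module.End.mul_apply, hzw, map_smul]
  have hxv : x (y u) = μ • u := by rw [hxy, hxu, map_zero, sub_zero, hzu]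
  have hlin : ∀ α β : k, α • u + β • y u = 0 → α = 0 ∧ β = 0 := by
    intro α β h
    have h1 := congrArg x h
    rw [map_add, map_smul, map_smul, hxu, hxv, smul_zero, zero_add, map_zero, smul_smul] at h1
    have h2 : β = 0 := by
      rcases smul_eq_zero.1 h1 with h | h
      · exact (mul_eq_zero.1 h).resolve_right hμ
      · exact absurd h hu
    rw [h2, zero_smul, add_zero] at h
    exact ⟨(smul_eq_zero.1 h).resolve_right hu, h2⟩
  let T := pairs ρ u (y u)
  have hinjT : Function.Injective (fun t : T => (t : H × Matrix.SpecialLinearGroup (Fin 2) k).1) := by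
    rintro ⟨⟨a, m⟩, h1⟩ ⟨⟨a', m'⟩, h2⟩ h
    have h' : a = a' := h
    subst h'
    have h1' : Rel u (y u) (ρ a) m := h1
    have h2' : Rel u (y u) (ρ a) m' := h2
    have e1 := h1'.1.symm.trans h2'.1
    have e2 := h1'.2.symm.trans h2'.2
    have e3 := hlin (m 0 0 - m' 0 0) (m 1 0 - m' 1 0) (by
      calc _ = (m 0 0 • u + m 1 0 • y u) - (m' 0 0 • u + m' 1 0 • y u) := by module
        _ = 0 := by rw [e1, sub_self])
    have e4 := hlin (m 0 1 - m' 0 1) (m 1 1 - m' 1 1) (by
      calc _ = (m 0 1 • u + m 1 1 • y u) - (m' 0 1 • u + m' 1 1 • y u) := by module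
        _ = 0 := by rw [e2, sub_self])
    have : m = m' := ext2 (sub_eq_zero.1 e3.1) (sub_eq_zero.1 e4.1) (sub_eq_zero.1 e3.2) (sub_eq_zero.1 e4.2)
    subst this
    rfl
  haveI : Finite T := Finite.of_injective _ hinjT
  have ha : ∀ w, ρ a w = w + x w := fun w => by rw [hxdef]; simp
  have hb : ∀ w, ρ b w = w + y w := fun w => by rw [hydef]; simp
  have haT : ((a, su μ) : H × Matrix.SpecialLinearGroup (Fin 2) k) ∈ T := by
    refine ⟨?_, ?_⟩
    · simp [ha, hxu]
    · simp [ha, hxv, add_comm]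
  have hbT : ((b, sl 1) : H × Matrix.SpecialLinearGroup (Fin 2) k) ∈ T := by
    refine ⟨?_, ?_⟩
    · simp [hb]
    · simp [hb, hyy]
  let σ : T →* Matrix.SpecialLinearGroup (Fin 2) k :=
    (MonoidHom.snd H (Matrix.SpecialLinearGroup (Fin 2) k)).comp T.subtype
  -- enough: diagonal elements in the range
  have key : ∀ t : ZMod p, t ≠ 0 → ∃ s : T, (σ s) 0 0 = algebraMap (ZMod p) k t ∧ (σ s) 1 0 = 0 ∧ (σ s) 0 1 = 0 ∧
      (σ s) 1 1 = algebraMap (ZMod p) k t⁻¹ := by
    intro t ht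
    have h2k : (2 : k) ≠ 0 := two_ne hp
    rcases dichotomy hp σ (g₀ := ⟨_, haT⟩) (h₀ := ⟨_, hbT⟩) hμ one_ne_zero rfl rfl with h | ⟨hp3, hcard, -⟩
    · obtain ⟨g, hg⟩ := h.1 ⟨_, hbT⟩ 1 one_ne_zero rfl
      rw [inv_one] at hg
      let φ : Matrix.SpecialLinearGroup (Fin 2) (ZMod p) →* Matrix.SpecialLinearGroup (Fin 2) k :=
        Matrix.SpecialLinearGroup.map (algebraMap (ZMod p) k)
      have hφ : ∀ (m : Matrix.SpecialLinearGroup (Fin 2) (ZMod p)) i j, φ m i j = algebraMap (ZMod p) k (m i j) :=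
        fun m i j => rfl
      have h1 : φ.range ≤ σ.range := by
        rw [MonoidHom.range_eq_map, ← closure_eq_top, MonoidHom.map_closure, Subgroup.closure_le]
        rintro _ ⟨m, hm, rfl⟩
        rcases hm with rfl | hm
        · refine ⟨g, ?_⟩
          rw [hg]
          refine ext2 ?_ ?_ ?_ ?_ <;> rw [hφ] <;> simp [su]
        · rw [Set.mem_singleton_iff] at hm
          subst hm
          refine ⟨⟨_, hbT⟩, ?_⟩
          change sl (1 : k) = _
          refine ext2 ?_ ?_ ?_ ?_ <;> rw [hφ] <;> simp [sl]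
      obtain ⟨s, hs⟩ := h1 ⟨CfsgLib.Qd9.sd t ht, rfl⟩
      refine ⟨s, ?_, ?_, ?_, ?_⟩ <;> rw [hs, hφ] <;> simp [CfsgLib.Qd9.sd]
    · subst hp3
      have hcases := zmod3_cases t ht
      rcases hcases with rfl | rfl
      · refine ⟨1, ?_, ?_, ?_, ?_⟩ <;> rw [map_one]
        · rw [one00]; simp
        · rw [one10]
        · rw [one01]
        · rw [one11]; simp
      · have h2 : 2 ∣ Nat.card σ.range := by
          have h3 : Nat.card (act.comp σ).range ∣ Nat.card σ.range := by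
            have h4 : (act.comp σ).range = σ.range.map act := MonoidHom.range_comp _ _
            rw [h4]
            exact Subgroup.card_map_dvd _ _
          rw [hcard] at h3
          exact dvd_trans (by norm_num) h3
        haveI : Finite σ.range := Finite.of_surjective _ σ.rangeRestrict_surjective
        obtain ⟨⟨r, hrm⟩, hr⟩ := exists_prime_orderOf_dvd_card' (G := σ.range) 2 h2
        obtain ⟨s, hs⟩ := id hrm
        have hr' : orderOf r = 2 := by rwa [Subgroup.orderOf_mk] at hr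
        have h5 : r = -1 := eq_neg_one_of_sq h2k (by
          have := pow_orderOf_eq_one r
          rwa [hr', pow_two] at this) (by
          rintro rfl
          rw [orderOf_one] at hr'
          omega)
        refine ⟨s, ?_, ?_, ?_, ?_⟩ <;> rw [hs, h5, neg_apply']
        · rw [one00]; simp
        · rw [one10]; simp
        · rw [one01]; simp
        · rw [one11]
          rw [inv_neg, inv_one]; simp
  rw [← hydef]
  refine ⟨u, hu, by rw [← hxdef]; exact hxu, fun t ht => ?_⟩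
  obtain ⟨⟨⟨h, m⟩, hm⟩, h1, h2, h3, h4⟩ := key t ht
  have h1' : m 0 0 = algebraMap (ZMod p) k t := h1
  have h2' : m 1 0 = 0 := h2
  have h3' : m 0 1 = 0 := h3
  have h4' : m 1 1 = algebraMap (ZMod p) k t⁻¹ := h4
  have hm' : Rel u (y u) (ρ h) m := hm
  refine ⟨h, ?_, ?_⟩
  · rw [hm'.1, h1', h2', zero_smul, add_zero]
  · rw [hm'.2, h3', h4', zero_smul, zero_add]

end part1

/-- the torus over the prime field -/
theorem torus2 {p : ℕ} [Fact p.Prime] (hp : p ≠ 2) {A : Type*} [AddCommGroup A] [Module (ZMod p) A] [Finite A]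
    {H : Type*} [Group H] [Finite H] (ρ : H →* Module.End (ZMod p) A) {a b : H}
    (hab : Subgroup.closure {a, b} = ⊤)
    (hx : ∀ w, ρ a (ρ a w - w) = ρ a w - w) (hy : ∀ w, ρ b (ρ b w - w) = ρ b w - w)
    {h₀ : H} (hc : (orderOf h₀).Coprime p) (h1 : ρ h₀ ≠ 1) :
    ((ρ a - 1) * (ρ b - 1) + (ρ b - 1) * (ρ a - 1) ≠ 0) ∧
    ∃ u : A, u ≠ 0 ∧ ρ a u = u ∧ ∀ t : ZMod p, t ≠ 0 → ∃ h : H, ρ h u = t • u ∧
      ρ h (ρ b u - u) = t⁻¹ • (ρ b u - u) := by
  classical
  have hx' : (ρ a - 1) * (ρ a - 1) = 0 := by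
    ext w
    simp only [Module.End.mul_apply, LinearMap.sub_apply, Module.End.one_apply, LinearMap.zero_apply]
    rw [hx, sub_self]
  have hy' : (ρ b - 1) * (ρ b - 1) = 0 := by
    ext w
    simp only [Module.End.mul_apply, LinearMap.sub_apply, Module.End.one_apply, LinearMap.zero_apply]
    rw [hy, sub_self]
  haveI : Nontrivial A := by
    by_contra hn
    rw [not_nontrivial_iff_subsingleton] at hn
    apply h1
    ext w
    exact Subsingleton.elim _ _
  haveI : FiniteDimensional (ZMod p) A := inferInstance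
  have hz : ¬ IsNilpotent ((ρ a - 1) * (ρ b - 1) + (ρ b - 1) * (ρ a - 1)) := by
    intro hz
    haveI : CharP (Module.End (ZMod p) A) p :=
      charP_of_injective_algebraMap (FaithfulSMul.algebraMap_injective (ZMod p) (Module.End (ZMod p) A)) p
    exact h1 (eq_one_of_nilp ρ hc (nilp ρ hab hx' hy' hz h₀))
  refine ⟨fun h0 => hz (by rw [h0]; exact IsNilpotent.zero), ?_⟩
  let k := AlgebraicClosure (ZMod p)
  haveI : CharP k p := charP_of_injective_algebraMap (algebraMap (ZMod p) k).injective p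
  let bs := Module.finBasis (ZMod p) A
  let Φ : Module.End (ZMod p) A →+* Module.End k (Fin (Module.finrank (ZMod p) A) → k) := ext bs
  have hΦ : Function.Injective Φ := by
    intro f g hfg
    refine (LinearMap.toMatrixAlgEquiv bs).injective ?_
    have h2 := (Matrix.toLinAlgEquiv' (R := k) (n := Fin (Module.finrank (ZMod p) A))).injective hfg
    ext i j
    exact (algebraMap (ZMod p) k).injective (congrFun (congrFun h2 i) j)
  let Ψ : H →* Module.End k (Fin (Module.finrank (ZMod p) A) → k) := Φ.toMonoidHom.comp ρ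
  have hρ : ∀ h : H, Ψ h - 1 = Φ (ρ h - 1) := fun h => by
    rw [map_sub, map_one]; rfl
  obtain ⟨v, hv, h2, h3⟩ := torus1 (k := k) hp Ψ hab
    (by rw [hρ, ← map_mul, hx', map_zero]) (by rw [hρ, ← map_mul, hy', map_zero])
    (by
      rw [hρ, hρ, ← map_mul, ← map_mul, ← map_add]
      rintro ⟨m, hm⟩
      apply hz
      refine ⟨m, hΦ ?_⟩
      rw [map_pow, hm, map_zero])
  rw [hρ] at h2
  obtain ⟨φ, hφ⟩ := exists_spec_ne bs hv
  have hsm : ∀ (t : ZMod p) (w : Fin (Module.finrank (ZMod p) A) → k),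
      spec bs φ (algebraMap (ZMod p) k t • w) = t • spec bs φ w := by
    intro t w
    unfold spec
    rw [Finset.smul_sum]
    refine Finset.sum_congr rfl fun j _ => ?_
    rw [Pi.smul_apply, smul_eq_mul, ← Algebra.smul_def, map_smul, smul_eq_mul, mul_smul]
  have e2 : (ρ a - 1) (spec bs φ v) = 0 := by
    rw [← spec_ext]
    have : ext bs (ρ a - 1) v = 0 := h2
    rw [this]; simp [spec]
  have hb : ρ b (spec bs φ v) - spec bs φ v = spec bs φ ((Ψ b - 1) v) := by
    rw [hρ]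
    change _ = spec bs φ (ext bs (ρ b - 1) v)
    rw [spec_ext]; rfl
  refine ⟨spec bs φ v, hφ, ?_, fun t ht => ?_⟩
  · rw [LinearMap.sub_apply, Module.End.one_apply, sub_eq_zero] at e2
    exact e2
  · obtain ⟨h, h4, h5⟩ := h3 t ht
    refine ⟨h, ?_, ?_⟩
    · rw [← hsm, ← h4, ← spec_ext]; rfl
    · rw [hb, ← hsm, ← h5, ← spec_ext]; rfl

/-- the irreducible case -/
theorem torus3 {p : ℕ} [Fact p.Prime] (hp : p ≠ 2) {A : Type*} [AddCommGroup A] [Module (ZMod p) A] [Finite A]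
    {H : Type*} [Group H] [Finite H] (ρ : H →* Module.End (ZMod p) A) {a b : H}
    (hab : Subgroup.closure {a, b} = ⊤)
    (hx : ∀ w, ρ a (ρ a w - w) = ρ a w - w) (hy : ∀ w, ρ b (ρ b w - w) = ρ b w - w)
    {h₀ : H} (hc : (orderOf h₀).Coprime p) (h1 : ρ h₀ ≠ 1)
    (hirr : ∀ N : Submodule (ZMod p) A, (∀ h, ∀ v ∈ N, ρ h v ∈ N) → N = ⊥ ∨ N = ⊤) :
    (∀ v, ∃ t₁ t₂, ρ a t₁ = t₁ ∧ ρ a t₂ = t₂ ∧ v = t₁ + (ρ b t₂ - t₂)) ∧
    ∀ t : ZMod p, t ≠ 0 → ∃ h : H, ∀ v, ρ a v = v → ρ h v = t • v ∧ ρ h (ρ b v - v) = t⁻¹ • (ρ b v - v) := by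
  obtain ⟨hz0, u, hu, hau, htor⟩ := torus2 hp ρ hab hx hy hc h1
  obtain ⟨x, hxdef⟩ : ∃ x, x = ρ a - 1 := ⟨_, rfl⟩
  obtain ⟨y, hydef⟩ : ∃ y, y = ρ b - 1 := ⟨_, rfl⟩
  obtain ⟨z, hzdef⟩ : ∃ z, z = x * y + y * x := ⟨_, rfl⟩
  have hax : ∀ w, ρ a w = w + x w := fun w => by rw [hxdef]; simp
  have hby : ∀ w, ρ b w = w + y w := fun w => by rw [hydef]; simp
  have hxx : x * x = 0 := by
    ext w
    have := hx w
    rw [hax, hax] at this
    simp only [Module.End.mul_apply, LinearMap.zero_apply]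
    have e : w + x w - w = x w := by abel
    rw [e] at this
    simpa using this
  have hyy : y * y = 0 := by
    ext w
    have := hy w
    rw [hby, hby] at this
    simp only [Module.End.mul_apply, LinearMap.zero_apply]
    have e : w + y w - w = y w := by abel
    rw [e] at this
    simpa using this
  have hxx' : ∀ w, x (x w) = 0 := fun w => by rw [← Module.End.mul_apply, hxx]; rfl
  have hyy' : ∀ w, y (y w) = 0 := fun w => by rw [← Module.End.mul_apply, hyy]; rfl
  have hzx : z * x = x * z := by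
    rw [hzdef, add_mul, mul_add, mul_assoc y x x, hxx, ← mul_assoc x x y, hxx]
    simp [mul_assoc]
  have hzy : z * y = y * z := by
    rw [hzdef, add_mul, mul_add, mul_assoc x y y, hyy, ← mul_assoc y y x, hyy]
    simp [mul_assoc]
  have hza : ρ a * z = z * ρ a := by
    have : ρ a = 1 + x := by rw [hxdef]; abel
    rw [this, add_mul, mul_add, hzx, one_mul, mul_one]
  have hzb : ρ b * z = z * ρ b := by
    have : ρ b = 1 + y := by rw [hydef]; abel
    rw [this, add_mul, mul_add, hzy, one_mul, mul_one]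
  have hinv : ∀ h : H, ρ h * ρ h⁻¹ = 1 := fun h => by rw [← map_mul, mul_inv_cancel, map_one]
  have hinv' : ∀ h : H, ρ h⁻¹ * ρ h = 1 := fun h => by rw [← map_mul, inv_mul_cancel, map_one]
  have hzc : ∀ h : H, ρ h * z = z * ρ h := by
    intro h
    have hh : h ∈ Subgroup.closure {a, b} := by rw [hab]; trivial
    induction hh using Subgroup.closure_induction with
    | mem c hc =>
      rcases hc with rfl | hc
      · exact hza
      · rw [Set.mem_singleton_iff] at hc
        subst hc; exact hzb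
    | one => rw [map_one, one_mul, mul_one]
    | mul c d _ _ hc hd => rw [map_mul, mul_assoc, hd, ← mul_assoc, hc, mul_assoc]
    | inv c _ hc =>
      calc ρ c⁻¹ * z = ρ c⁻¹ * z * (ρ c * ρ c⁻¹) := by rw [hinv, mul_one]
        _ = ρ c⁻¹ * (z * ρ c) * ρ c⁻¹ := by simp only [mul_assoc]
        _ = ρ c⁻¹ * (ρ c * z) * ρ c⁻¹ := by rw [hc]
        _ = (ρ c⁻¹ * ρ c) * z * ρ c⁻¹ := by simp only [mul_assoc]
        _ = z * ρ c⁻¹ := by rw [hinv', one_mul]
  have hz0' : z ≠ 0 := by rw [hzdef, hxdef, hydef]; exact hz0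
  have hzinj : ∀ w, z w = 0 → w = 0 := by
    have h2 := hirr (LinearMap.ker z) (fun h v hv => by
      rw [LinearMap.mem_ker] at hv ⊢
      rw [← Module.End.mul_apply, ← hzc, Module.End.mul_apply, hv, map_zero])
    rcases h2 with h2 | h2
    · intro w hw
      have : w ∈ LinearMap.ker z := hw
      rw [h2] at this
      exact this
    · exact absurd (LinearMap.ker_eq_top.1 h2) hz0'
  have hzw : ∀ w, x w = 0 → z w = x (y w) := fun w hw => by
    rw [hzdef]; simp [hw]
  -- the main argument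
  have main : ∀ h : H, ∀ s t : ZMod p, (∃ u, u ≠ 0 ∧ x u = 0 ∧ ρ h u = t • u ∧ ρ h (y u) = s • y u) →
      (∀ v, ∃ t₁ t₂, x t₁ = 0 ∧ x t₂ = 0 ∧ v = t₁ + y t₂) ∧
      ∀ v, x v = 0 → ρ h v = t • v ∧ ρ h (y v) = s • y v := by
    intro h s t ⟨u, hu, hxu, hu1, hu2⟩
    let T : Submodule (ZMod p) A :=
      { carrier := {w | x w = 0 ∧ ρ h w = t • w ∧ ρ h (y w) = s • y w}
        add_mem' := by
          rintro v w ⟨a1, a2, a3⟩ ⟨b1, b2, b3⟩
          refine ⟨by rw [map_add, a1, b1, add_zero], by rw [map_add, a2, b2, smul_add], ?_⟩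
          rw [map_add, map_add, a3, b3, smul_add]
        zero_mem' := ⟨by simp, by simp, by simp⟩
        smul_mem' := by
          rintro c w ⟨b1, b2, b3⟩
          refine ⟨by rw [map_smul, b1, smul_zero], by rw [map_smul, b2, smul_comm], ?_⟩
          rw [map_smul, map_smul, b3, smul_comm] }
    have hzT : ∀ w ∈ T, x (y w) ∈ T := by
      rintro w ⟨b1, b2, b3⟩
      rw [← hzw w b1]
      refine ⟨?_, ?_, ?_⟩
      · rw [hzw w b1]; exact hxx' _
      · rw [← Module.End.mul_apply, hzc, Module.End.mul_apply, b2, map_smul]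
      · have e : y (z w) = z (y w) := by rw [← Module.End.mul_apply, ← hzy]; rfl
        rw [e, ← Module.End.mul_apply, hzc, Module.End.mul_apply, b3, map_smul]
    have hN := hirr (T ⊔ T.map y) (by
      intro g
      have hg : g ∈ Subgroup.closure {a, b} := by rw [hab]; trivial
      have hxN : ∀ v ∈ T ⊔ T.map y, x v ∈ T ⊔ T.map y := by
        intro v hv
        obtain ⟨t₁, ht₁, _, ⟨t₂, ht₂, rfl⟩, rfl⟩ := Submodule.mem_sup.1 hv
        rw [map_add, ht₁.1, zero_add]
        exact Submodule.mem_sup_left (hzT _ ht₂)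
      have hyN : ∀ v ∈ T ⊔ T.map y, y v ∈ T ⊔ T.map y := by
        intro v hv
        obtain ⟨t₁, ht₁, _, ⟨t₂, ht₂, rfl⟩, rfl⟩ := Submodule.mem_sup.1 hv
        rw [map_add, hyy', add_zero]
        exact Submodule.mem_sup_right ⟨t₁, ht₁, rfl⟩
      induction hg using Subgroup.closure_induction with
      | mem c hc =>
        rcases hc with rfl | hc
        · intro v hv
          rw [hax]; exact Submodule.add_mem _ hv (hxN v hv)
        · rw [Set.mem_singleton_iff] at hc
          subst hc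
          intro v hv
          rw [hby]; exact Submodule.add_mem _ hv (hyN v hv)
      | one => intro v hv; rw [map_one]; exact hv
      | mul c d _ _ hc hd => intro v hv; rw [map_mul]; exact hc _ (hd _ hv)
      | inv c _ hc =>
        intro v hv
        have h3 : c⁻¹ = c ^ (orderOf c - 1) := by
          have : c ^ (orderOf c - 1) * c = 1 := by
            rw [← pow_succ, Nat.sub_add_cancel (orderOf_pos c), pow_orderOf_eq_one]
          exact (eq_inv_of_mul_eq_one_left this).symm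
        rw [h3]
        generalize orderOf c - 1 = n
        induction n with
        | zero => rw [pow_zero, map_one]; exact hv
        | succ n ih => rw [pow_succ', map_mul]; exact hc _ ih)
    have huT : u ∈ T := ⟨hxu, hu1, hu2⟩
    have hN' : T ⊔ T.map y = ⊤ := hN.resolve_left (fun h => hu (by
      have : u ∈ T ⊔ T.map y := Submodule.mem_sup_left huT
      rw [h] at this
      exact this))
    have hdec : ∀ v, ∃ t₁ ∈ T, ∃ t₂ ∈ T, v = t₁ + y t₂ := by
      intro v
      have hv : v ∈ T ⊔ T.map y := by rw [hN']; trivial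
      obtain ⟨t₁, ht₁, _, ⟨t₂, ht₂, rfl⟩, rfl⟩ := Submodule.mem_sup.1 hv
      exact ⟨t₁, ht₁, t₂, ht₂, rfl⟩
    refine ⟨fun v => ?_, fun v hv => ?_⟩
    · obtain ⟨t₁, ht₁, t₂, ht₂, e⟩ := hdec v
      exact ⟨t₁, t₂, ht₁.1, ht₂.1, e⟩
    · obtain ⟨t₁, ht₁, t₂, ht₂, rfl⟩ := hdec v
      rw [map_add, ht₁.1, zero_add, ← hzw t₂ ht₂.1] at hv
      have : t₂ = 0 := hzinj _ hv
      rw [this, map_zero, add_zero]
      exact ⟨ht₁.2.1, ht₁.2.2⟩
  have hxa : ∀ w, ρ a w = w ↔ x w = 0 := fun w => by rw [hax]; simp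
  have hyb : ∀ w, ρ b w - w = y w := fun w => by rw [hby]; abel
  simp only [hxa, hyb]
  rw [hxa] at hau
  simp only [hyb] at htor
  refine ⟨?_, fun t ht => ?_⟩
  · obtain ⟨h, h2, h3⟩ := htor 1 one_ne_zero
    exact (main h _ _ ⟨u, hu, hau, h2, h3⟩).1
  · obtain ⟨h, h2, h3⟩ := htor t ht
    exact ⟨h, (main h _ _ ⟨u, hu, hau, h2, h3⟩).2⟩

end CfsgLib.Fail9
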