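import Cfsg.Agent.LibFail9A
import Cfsg.Agent.LibFusionH12
/-! Modules for groups generated by two quadratic elements. Seat helper9. -/
set_option autoImplicit false
set_option maxHeartbeats 400000
set_option linter.unusedSectionVars false
set_option linter.style.haveILetI false

namespace CfsgLib.Fail9

open Subgroup CfsgLib.FusionH12

universe u v

section basic

variable {E : Type v} [Group E] {M : Type u} [AddCommGroup M]

/-- quadratic action of an element -/
def Qd (ρ : E →* AddMonoid.End M) (y : E) : Prop := ∀ w, ρ y (ρ y w - w) = ρ y w - w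

/-- invariant subgroups -/
def Inv (ρ : E →* AddMonoid.End M) (N : AddSubgroup M) : Prop := ∀ e, ∀ m ∈ N, ρ e m ∈ N

theorem rho_mul (ρ : E →* AddMonoid.End M) (e f : E) (m : M) : ρ (e * f) m = ρ e (ρ f m) := by
  rw [map_mul]; rfl

theorem rho_one (ρ : E →* AddMonoid.End M) (m : M) : ρ 1 m = m := by
  rw [map_one]; rfl

theorem rho_inv (ρ : E →* AddMonoid.End M) (e : E) (m : M) : ρ e⁻¹ (ρ e m) = m := by
  rw [← rho_mul, inv_mul_cancel, rho_one]

theorem rho_inv' (ρ : E →* AddMonoid.End M) (e : E) (m : M) : ρ e (ρ e⁻¹ m) = m := by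
  rw [← rho_mul, mul_inv_cancel, rho_one]

/-- restriction -/
def resEnd (ρ : E →* AddMonoid.End M) (N : AddSubgroup M) (h : Inv ρ N) : E →* AddMonoid.End N where
  toFun e := ((ρ e).comp N.subtype).codRestrict N (fun m => h e m m.2)
  map_one' := by ext m; exact rho_one ρ m
  map_mul' e f := by ext m; exact rho_mul ρ e f m

theorem resEnd_apply (ρ : E →* AddMonoid.End M) (N : AddSubgroup M) (h : Inv ρ N) (e : E) (m : N) :
    ((resEnd ρ N h e m : N) : M) = ρ e m := rfl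

/-- quotient -/
def quoEnd (ρ : E →* AddMonoid.End M) (N : AddSubgroup M) (h : Inv ρ N) : E →* AddMonoid.End (M ⧸ N) where
  toFun e := QuotientAddGroup.map N N (ρ e) (fun m hm => h e m hm)
  map_one' := by
    refine AddMonoidHom.ext fun m => ?_
    obtain ⟨m, rfl⟩ := QuotientAddGroup.mk'_surjective N m
    change QuotientAddGroup.mk' N (ρ 1 m) = QuotientAddGroup.mk' N m
    rw [rho_one]
  map_mul' e f := by
    refine AddMonoidHom.ext fun m => ?_
    obtain ⟨m, rfl⟩ := QuotientAddGroup.mk'_surjective N m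
    change QuotientAddGroup.mk' N (ρ (e * f) m) = QuotientAddGroup.mk' N (ρ e (ρ f m))
    rw [rho_mul]

theorem quoEnd_apply (ρ : E →* AddMonoid.End M) (N : AddSubgroup M) (h : Inv ρ N) (e : E) (m : M) :
    quoEnd ρ N h e (QuotientAddGroup.mk' N m) = QuotientAddGroup.mk' N (ρ e m) := rfl

theorem Qd.res {ρ : E →* AddMonoid.End M} {y : E} (hy : Qd ρ y) (N : AddSubgroup M) (h : Inv ρ N) :
    Qd (resEnd ρ N h) y := fun w => Subtype.ext (hy w)

theorem Qd.quo {ρ : E →* AddMonoid.End M} {y : E} (hy : Qd ρ y) (N : AddSubgroup M) (h : Inv ρ N) :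
    Qd (quoEnd ρ N h) y := by
  intro w
  obtain ⟨w, rfl⟩ := QuotientAddGroup.mk'_surjective N w
  rw [quoEnd_apply, ← map_sub, quoEnd_apply, hy w]

theorem Qd.conj {ρ : E →* AddMonoid.End M} {y : E} (hy : Qd ρ y) (f : E) : Qd ρ (f * y * f⁻¹) := by
  intro w
  have h1 := hy (ρ f⁻¹ w)
  simp only [rho_mul]
  have e : ρ f⁻¹ (ρ f (ρ y (ρ f⁻¹ w)) - w) = ρ y (ρ f⁻¹ w) - ρ f⁻¹ w := by
    rw [map_sub, rho_inv]
  rw [e, h1, map_sub, rho_inv']

theorem theta_lift [Finite M] (θ : M →+ M) (W N : AddSubgroup M) (hW : ∀ w ∈ W, θ w ∈ W) (hN : ∀ w ∈ N, θ w ∈ N)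
    {w : M} (hw : w ∈ W) (hwN : w ∉ N) (hθ : θ w ∈ N) : ∃ u ∈ W, u ≠ 0 ∧ θ u = 0 := by
  by_contra hcon
  push Not at hcon
  let θ' : ↥(W ⊓ N) → ↥(W ⊓ N) := fun u => ⟨θ u, ⟨hW _ u.2.1, hN _ u.2.2⟩⟩
  have hinj : Function.Injective θ' := by
    intro u v huv
    have h1 : θ u = θ v := congrArg Subtype.val huv
    by_contra hne
    have h2 : ((u : M) - v) ∈ W := W.sub_mem u.2.1 v.2.1
    exact hcon _ h2 (fun h0 => hne (Subtype.ext (sub_eq_zero.1 h0))) (by rw [map_sub, h1, sub_self])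
  obtain ⟨u, hu⟩ := Finite.injective_iff_surjective.1 hinj ⟨θ w, ⟨hW w hw, hθ⟩⟩
  have h1 : θ u = θ w := congrArg Subtype.val hu
  have h2 : w - u ∈ W := W.sub_mem hw u.2.1
  apply hcon _ h2 _ (by rw [map_sub, h1, sub_self])
  intro h0
  apply hwN
  rw [sub_eq_zero.1 h0]
  exact u.2.2

end basic

/-- linear version over the prime field -/
def toEnd {E : Type v} [Group E] {M : Type u} [AddCommGroup M] (p : ℕ) [Module (ZMod p) M] (ρ : E →* AddMonoid.End M) :
    E →* Module.End (ZMod p) M where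
  toFun e :=
    { toFun := ρ e
      map_add' := fun x y => map_add (ρ e) x y
      map_smul' := fun c x => ZMod.map_smul (ρ e) c x }
  map_one' := LinearMap.ext fun m => rho_one ρ m
  map_mul' e f := LinearMap.ext fun m => rho_mul ρ e f m

theorem toEnd_apply {E : Type v} [Group E] {M : Type u} [AddCommGroup M] (p : ℕ) [Module (ZMod p) M]
    (ρ : E →* AddMonoid.End M) (e : E) (m : M) : toEnd p ρ e m = ρ e m := rfl

section irr

variable {E : Type v} [Group E] [Finite E] {M : Type u} [AddCommGroup M] [Finite M] {p : ℕ} [hp : Fact p.Prime]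

theorem exists_pprime {ρ : E →* AddMonoid.End M} (hpM : ∀ m : M, p • m = 0)
    (hirr : ∀ N : AddSubgroup M, Inv ρ N → N = ⊥ ∨ N = ⊤) (hnt : ∃ e m, ρ e m ≠ m) :
    ∃ h₀ : E, (orderOf h₀).Coprime p ∧ ρ h₀ ≠ 1 := by
  by_contra hcon
  push Not at hcon
  obtain ⟨e₀, m₀, hem⟩ := hnt
  let R := ρ.toHomUnits.range
  have hR : IsPGroup p R := by
    rintro ⟨_, e, rfl⟩
    obtain ⟨k, m, hm, he⟩ := Nat.exists_eq_pow_mul_and_not_dvd (orderOf_pos e).ne' p hp.out.ne_one
    refine ⟨k, Subtype.ext (Units.ext ?_)⟩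
    change (ρ e) ^ p ^ k = 1
    rw [← map_pow]
    apply hcon
    rw [orderOf_pow, he, Nat.gcd_eq_right (Dvd.intro _ rfl),
      Nat.mul_div_cancel_left _ (pow_pos hp.out.pos k)]
    exact ((Nat.Prime.coprime_iff_not_dvd hp.out).2 hm).symm
  letI : MulAction R M :=
    { smul := fun r m => ((r : (AddMonoid.End M)ˣ) : AddMonoid.End M) m
      one_smul := fun m => rfl
      mul_smul := fun r s m => rfl }
  have hcardM : p ∣ Nat.card M := by
    have h1 : IsPGroup p (Multiplicative M) := fun g => ⟨1, by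
      rw [pow_one]
      exact hpM (Multiplicative.toAdd g)⟩
    obtain ⟨n, hn⟩ := IsPGroup.iff_card.1 h1
    have hn' : Nat.card M = p ^ n := hn
    rw [hn']
    rcases Nat.eq_zero_or_pos n with h0 | h0
    · exfalso
      rw [h0, pow_zero] at hn'
      haveI := (Nat.card_eq_one_iff_unique.1 hn').1
      exact hem (Subsingleton.elim _ _)
    · exact dvd_pow_self p h0.ne'
  have h0 : (0 : M) ∈ MulAction.fixedPoints R M := fun r => map_zero ((r : (AddMonoid.End M)ˣ) : AddMonoid.End M)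
  obtain ⟨b, hb, hb0⟩ := hR.exists_fixed_point_of_prime_dvd_card_of_fixed_point M hcardM h0
  let F : AddSubgroup M :=
    { carrier := {m | ∀ e, ρ e m = m}
      add_mem' := fun {a b} ha hb e => by rw [map_add, ha e, hb e]
      zero_mem' := fun e => map_zero _
      neg_mem' := fun {a} ha e => by rw [map_neg, ha e] }
  have hbF : b ∈ F := fun e => hb ⟨ρ.toHomUnits e, ⟨e, rfl⟩⟩
  rcases hirr F (fun e m hm e' => by rw [hm e, hm e']) with h | h
  · rw [h] at hbF
    exact hb0 (AddSubgroup.mem_bot.1 hbF).symm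
  · have : m₀ ∈ F := by rw [h]; trivial
    exact hem (this e₀)

theorem exponent_of_irr {ρ : E →* AddMonoid.End M} (hpM : ∃ k : ℕ, ∀ m : M, p ^ k • m = 0)
    (hirr : ∀ N : AddSubgroup M, Inv ρ N → N = ⊥ ∨ N = ⊤) (hnt : ∃ e m, ρ e m ≠ m) : ∀ m : M, p • m = 0 := by
  obtain ⟨k, hk⟩ := hpM
  let N : AddSubgroup M :=
    { carrier := {m | p • m = 0}
      add_mem' := fun {a b} ha hb => by
        have ha' : p • a = 0 := ha
        have hb' : p • b = 0 := hb
        change p • (a + b) = 0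
        rw [smul_add, ha', hb', add_zero]
      zero_mem' := smul_zero _
      neg_mem' := fun {a} ha => by
        have ha' : p • a = 0 := ha
        change p • (-a) = 0
        rw [smul_neg, ha', neg_zero] }
  rcases hirr N (fun e m hm => by
    have hm' : p • m = 0 := hm
    change p • ρ e m = 0
    rw [← map_nsmul, hm', map_zero]) with h | h
  · exfalso
    obtain ⟨e₀, m₀, hem⟩ := hnt
    have h1 : ∀ k : ℕ, ∀ m : M, p ^ k • m = 0 → m = 0 := by
      intro k
      induction k with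
      | zero => intro m hm; simpa using hm
      | succ k ih =>
        intro m hm
        rw [pow_succ, mul_smul] at hm
        have h2 : m ∈ N := ih _ hm
        rw [h] at h2
        exact AddSubgroup.mem_bot.1 h2
    apply hem
    rw [h1 k _ (hk (ρ e₀ m₀)), h1 k _ (hk m₀)]
  · intro m
    have : m ∈ N := by rw [h]; trivial
    exact this

theorem torus4aux [Module (ZMod p) M] (hp2 : p ≠ 2) {ρ : E →* AddMonoid.End M} {a b : E}
    (hab : Subgroup.closure {a, b} = ⊤)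
    (ha : Qd ρ a) (hb : Qd ρ b) {h₀ : E} (hc : (orderOf h₀).Coprime p) (hh₀ : ρ h₀ ≠ 1)
    (hirr : ∀ N : AddSubgroup M, Inv ρ N → N = ⊥ ∨ N = ⊤) :
    (∀ v, ∃ t₁ t₂, ρ a t₁ = t₁ ∧ ρ a t₂ = t₂ ∧ v = t₁ + (ρ b t₂ - t₂)) ∧
    ∀ t s : ℤ, ((t * s : ℤ) : ZMod p) = 1 → ∃ h : E, ∀ v, ρ a v = v → ρ h v = t • v ∧ ρ h (ρ b v - v) = s • (ρ b v - v) := by
  have h1 : toEnd p ρ h₀ ≠ 1 := fun h => hh₀ (by
    refine AddMonoidHom.ext fun m => ?_
    have h5 := LinearMap.congr_fun h m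
    rw [toEnd_apply, Module.End.one_apply] at h5
    exact h5)
  obtain ⟨h2, h3⟩ := torus3 hp2 (toEnd p ρ) hab ha hb hc h1 (by
    intro N hN
    rcases hirr N.toAddSubgroup (fun e m hm => hN e m hm) with h | h
    · left
      ext m
      have := SetLike.ext_iff.1 h m
      simpa using this
    · right
      ext m
      have := SetLike.ext_iff.1 h m
      simpa using this)
  refine ⟨h2, fun t s hts => ?_⟩
  push_cast at hts
  have ht0 : (t : ZMod p) ≠ 0 := fun h0 => by rw [h0, zero_mul] at hts; exact zero_ne_one hts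
  obtain ⟨h, hh⟩ := h3 (t : ZMod p) ht0
  refine ⟨h, fun v hv => ?_⟩
  obtain ⟨h4, h5⟩ := hh v hv
  have hs : (t : ZMod p)⁻¹ = (s : ZMod p) := (eq_inv_of_mul_eq_one_right hts).symm
  rw [hs, Int.cast_smul_eq_zsmul] at h5
  rw [Int.cast_smul_eq_zsmul] at h4
  exact ⟨h4, h5⟩

theorem torus4 (hp2 : p ≠ 2) {ρ : E →* AddMonoid.End M} {a b : E} (hab : Subgroup.closure {a, b} = ⊤)
    (ha : Qd ρ a) (hb : Qd ρ b) (hpM : ∃ k : ℕ, ∀ m : M, p ^ k • m = 0)
    (hirr : ∀ N : AddSubgroup M, Inv ρ N → N = ⊥ ∨ N = ⊤) (hnt : ∃ e m, ρ e m ≠ m) :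
    (∀ v, ∃ t₁ t₂, ρ a t₁ = t₁ ∧ ρ a t₂ = t₂ ∧ v = t₁ + (ρ b t₂ - t₂)) ∧
    ∀ t s : ℤ, ((t * s : ℤ) : ZMod p) = 1 → ∃ h : E, ∀ v, ρ a v = v → ρ h v = t • v ∧ ρ h (ρ b v - v) = s • (ρ b v - v) := by
  have hpM' := exponent_of_irr hpM hirr hnt
  obtain ⟨h₀, hc, hh₀⟩ := exists_pprime hpM' hirr hnt
  letI : Module (ZMod p) M := AddCommGroup.zmodModule hpM'
  exact torus4aux hp2 hab ha hb hc hh₀ hirr

end irr

end CfsgLib.Fail9
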