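import Cfsg.Agent.LibFail9B
/-! Minimal quadratic pairs relative to a subgroup; eigenvectors. Seat helper9. -/
set_option autoImplicit false
set_option maxHeartbeats 400000
set_option linter.unusedSectionVars false
set_option linter.style.haveILetI false

namespace CfsgLib.Fail9

open Subgroup CfsgLib.FusionH12

universe u v

/-- a group generated by two conjugate elements, with a unique maximal subgroup above one of them -/
structure Ctx (p : ℕ) {E : Type v} [Group E] (HE : Subgroup E) (y f : E) : Prop where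
  hy : y ∈ HE
  hmax : ∀ F : Subgroup E, y ∈ F → F ≠ ⊤ → F ≤ HE
  hne : HE ≠ ⊤
  hP : ∀ P : Subgroup E, IsPGroup p P → y ∈ P → ¬ P.Normal
  hyp : ∃ k : ℕ, y ^ p ^ k = 1
  gen : closure {y, f * y * f⁻¹} = ⊤

variable {E : Type v} [Group E] [Finite E] {M : Type u} [AddCommGroup M] [Finite M] {p : ℕ} [hp : Fact p.Prime]
  {HE : Subgroup E} {y f : E}

theorem Ctx.nrm_le (C : Ctx p HE y f) {P : Subgroup E} (hP : IsPGroup p P) (hy : y ∈ P) :
    normalizer (P : Set E) ≤ HE := by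
  apply C.hmax _ (le_normalizer hy)
  intro h
  exact C.hP P hP hy (normalizer_eq_top_iff.1 h)

theorem Ctx.zpy (C : Ctx p HE y f) : IsPGroup p (zpowers y) := by
  obtain ⟨k, hk⟩ := C.hyp
  rintro ⟨_, n, rfl⟩
  refine ⟨k, Subtype.ext ?_⟩
  change (y ^ n) ^ p ^ k = 1
  rw [← zpow_natCast, ← zpow_mul, mul_comm, zpow_mul, zpow_natCast, hk, one_zpow]

/-- the torus inside the distinguished subgroup -/
theorem Ctx.torus (C : Ctx p HE y f) (hp2 : p ≠ 2) {ρ : E →* AddMonoid.End M} (hq : Qd ρ y)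
    (hpM : ∃ k : ℕ, ∀ m : M, p ^ k • m = 0)
    (hirr : ∀ N : AddSubgroup M, Inv ρ N → N = ⊥ ∨ N = ⊤) (hnt : ∃ e m, ρ e m ≠ m) {t s : ℤ}
    (hts : ((t * s : ℤ) : ZMod p) = 1) :
    (∀ v, ∃ t₁ t₂, ρ y t₁ = t₁ ∧ ρ y t₂ = t₂ ∧ v = t₁ + (ρ (f * y * f⁻¹) t₂ - t₂)) ∧
    ∃ h ∈ HE, ∀ v, ρ y v = v → ρ h v = t • v ∧ ρ h (ρ (f * y * f⁻¹) v - v) = s • (ρ (f * y * f⁻¹) v - v) := by
  have hpM' := exponent_of_irr hpM hirr hnt
  obtain ⟨hdec, htor⟩ := torus4 hp2 C.gen hq (hq.conj f) hpM hirr hnt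
  refine ⟨hdec, ?_⟩
  obtain ⟨h₀, hh₀⟩ := htor t s hts
  have hsm : ∀ v : M, (s * t) • v = v := by
    intro v
    have h1 : ((p : ℕ) : ℤ) ∣ (s * t - 1) := by
      rw [← ZMod.intCast_zmod_eq_zero_iff_dvd]
      rw [mul_comm] at hts
      push_cast at hts ⊢
      rw [hts, sub_self]
    obtain ⟨c, hc⟩ := h1
    have h2 : s * t = 1 + c * (p : ℕ) := by linear_combination hc
    rw [h2, add_smul, one_smul, mul_smul, natCast_zsmul, hpM', smul_zero, add_zero]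
  set b := f * y * f⁻¹ with hb
  have hinv1 : ∀ v, ρ y v = v → ρ h₀⁻¹ v = s • v := by
    intro v hv
    have h1 : ρ h₀ (s • v) = v := by
      rw [map_zsmul, (hh₀ v hv).1, smul_smul, hsm]
    rw [← h1, rho_inv, h1]
  have hinv2 : ∀ v, ρ y v = v → ρ h₀⁻¹ (ρ b v - v) = t • (ρ b v - v) := by
    intro v hv
    have h1 : ρ h₀ (t • (ρ b v - v)) = ρ b v - v := by
      rw [map_zsmul, (hh₀ v hv).2, smul_smul, mul_comm, hsm]
    rw [← h1, rho_inv, h1]
  have hXfix : ∀ w, ρ y (ρ y w - w) = ρ y w - w := hq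
  have hpow : ∀ (n : ℕ) w, ρ (y ^ n) w = w + n • (ρ y w - w) := by
    intro n
    induction n with
    | zero => intro w; rw [pow_zero, rho_one, zero_smul, add_zero]
    | succ n ih =>
      intro w
      rw [pow_succ', rho_mul, ih, map_add, map_nsmul, hXfix, add_smul, one_smul]
      abel
  have hker : ρ (h₀ * y * h₀⁻¹) = ρ (y ^ (t * t).natAbs) := by
    ext v
    obtain ⟨t₁, t₂, h1, h2, rfl⟩ := hdec v
    have e1 : ρ (h₀ * y * h₀⁻¹) t₁ = t₁ := by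
      rw [rho_mul, rho_mul, hinv1 t₁ h1, map_zsmul, h1, map_zsmul, (hh₀ t₁ h1).1, smul_smul, hsm]
    have e2 : ρ (y ^ (t * t).natAbs) t₁ = t₁ := by
      rw [hpow, h1, sub_self, smul_zero, add_zero]
    have e3 : ((t * t).natAbs : ℤ) = t * t := Int.natAbs_of_nonneg (mul_self_nonneg t)
    have e4 : ρ (h₀ * y * h₀⁻¹) (ρ b t₂ - t₂) = (ρ b t₂ - t₂) + (t * t) • (ρ y (ρ b t₂ - t₂) - (ρ b t₂ - t₂)) := by
      have e5 : ρ y (ρ b t₂ - t₂) = (ρ b t₂ - t₂) + (ρ y (ρ b t₂ - t₂) - (ρ b t₂ - t₂)) := by abel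
      rw [rho_mul, rho_mul, hinv2 t₂ h2, map_zsmul]
      conv_lhs => rw [e5]
      rw [smul_add, map_add, map_zsmul, map_zsmul, (hh₀ t₂ h2).2, (hh₀ _ (hXfix _)).1, smul_smul, smul_smul,
        mul_comm t s, hsm]
    have e6 : ρ (y ^ (t * t).natAbs) (ρ b t₂ - t₂) =
        (ρ b t₂ - t₂) + (t * t) • (ρ y (ρ b t₂ - t₂) - (ρ b t₂ - t₂)) := by
      rw [hpow, ← natCast_zsmul, e3]
    rw [map_add, map_add, e1, e2, e4, e6]
  -- Frattini
  let K := ρ.ker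
  have hKn : K.Normal := inferInstance
  have hyA : zpowers y ≤ zpowers y ⊔ K := le_sup_left
  obtain ⟨P₀, hP₀1, hP₀2⟩ := SylIn.exists_ge (p := p) C.zpy hyA
  have hyP : y ∈ P₀ := hP₀1 (mem_zpowers y)
  have hA : cj h₀ (zpowers y ⊔ K) ≤ zpowers y ⊔ K := by
    rw [cj_sup, cj_of_normal h₀ K]
    refine sup_le ?_ le_sup_right
    rw [cj_le']
    intro d hd
    obtain ⟨n, rfl⟩ := hd
    change h₀ * y ^ n * h₀⁻¹ ∈ _
    rw [← conj_zpow]
    apply Subgroup.zpow_mem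
    have h1 : (y ^ (t * t).natAbs)⁻¹ * (h₀ * y * h₀⁻¹) ∈ K := by
      rw [MonoidHom.mem_ker, map_mul, hker, ← map_mul, inv_mul_cancel, map_one]
    have h2 : h₀ * y * h₀⁻¹ = y ^ (t * t).natAbs * ((y ^ (t * t).natAbs)⁻¹ * (h₀ * y * h₀⁻¹)) := by group
    rw [h2]
    exact mul_mem (Subgroup.mem_sup_left (pow_mem (mem_zpowers y) _)) (Subgroup.mem_sup_right h1)
  obtain ⟨m, hm, hm'⟩ := hP₀2.exists_conj_le (isPGroup_cj (a := h₀) hP₀2.pg) ((cj_mono hP₀2.le).trans hA)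
  obtain ⟨z, hz, κ, hκ, rfl⟩ := Subgroup.mem_sup_of_normal_right.1 hm
  have hzP : z ∈ P₀ := hP₀1 hz
  have h3 : cj (κ * h₀) P₀ ≤ P₀ := by
    rw [← cj_mul, mul_assoc, cj_mul, cj_le_iff, cj_of_mem (inv_mem hzP)] at hm'
    exact hm'
  have h4 : κ * h₀ ∈ normalizer (P₀ : Set E) := mem_nrm.2
    (Subgroup.eq_of_le_of_card_ge h3 (by rw [card_cj]))
  have h5 : ∀ v, ρ (κ * h₀) v = ρ h₀ v := by
    intro v
    rw [rho_mul]
    have : ρ κ = 1 := hκ
    rw [this]; rfl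
  refine ⟨κ * h₀, C.nrm_le hP₀2.pg hyP h4, fun v hv => ?_⟩
  rw [h5, h5]
  exact hh₀ v hv

/-- nonzero `y`-stable subgroups contain fixed points -/
theorem exists_fix {ρ : E →* AddMonoid.End M} (hyp : ∃ k : ℕ, y ^ p ^ k = 1)
    (hpM : ∃ k : ℕ, ∀ m : M, p ^ k • m = 0) {W : AddSubgroup M} (hW : ∀ w ∈ W, ρ y w ∈ W) (hW0 : W ≠ ⊥) :
    ∃ w ∈ W, w ≠ 0 ∧ ρ y w = w := by
  obtain ⟨k, hk⟩ := hyp
  obtain ⟨j, hj⟩ := hpM
  have hWpow : ∀ n : ℕ, ∀ w ∈ W, ρ (y ^ n) w ∈ W := by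
    intro n
    induction n with
    | zero => intro w hw; rwa [pow_zero, rho_one]
    | succ n ih => intro w hw; rw [pow_succ', rho_mul]; exact hW _ (ih w hw)
  have hWz : ∀ n : ℤ, ∀ w ∈ W, ρ (y ^ n) w ∈ W := by
    intro n w hw
    have h1 : ∃ m : ℕ, y ^ n = y ^ m := by
      have h2 := (isOfFinOrder_of_finite y).mem_powers_iff_mem_zpowers.2 ⟨n, rfl⟩
      obtain ⟨m, hm⟩ := h2
      exact ⟨m, hm.symm⟩
    obtain ⟨m, hm⟩ := h1
    rw [hm]; exact hWpow m w hw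
  letI : MulAction (zpowers y) W :=
    { smul := fun r m => ⟨ρ r m, by
        obtain ⟨n, hn⟩ := r.2
        have hn' : y ^ n = (r : E) := hn
        rw [← hn']
        exact hWz n _ m.2⟩
      one_smul := fun m => Subtype.ext (rho_one ρ m)
      mul_smul := fun r s m => Subtype.ext (rho_mul ρ r s m) }
  have hz : IsPGroup p (zpowers y) := by
    rintro ⟨_, n, rfl⟩
    refine ⟨k, Subtype.ext ?_⟩
    change (y ^ n) ^ p ^ k = 1
    rw [← zpow_natCast, ← zpow_mul, mul_comm, zpow_mul, zpow_natCast, hk, one_zpow]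
  have hcard : p ∣ Nat.card W := by
    have h1 : IsPGroup p (Multiplicative W) := fun g => ⟨j, Subtype.ext (by
      exact hj ((Multiplicative.toAdd g : W) : M))⟩
    obtain ⟨n, hn⟩ := IsPGroup.iff_card.1 h1
    have hn' : Nat.card W = p ^ n := hn
    rw [hn']
    rcases Nat.eq_zero_or_pos n with h0 | h0
    · exfalso
      rw [h0, pow_zero] at hn'
      exact hW0 (AddSubgroup.card_eq_one.1 hn')
    · exact dvd_pow_self p h0.ne'
  have h0 : (0 : W) ∈ MulAction.fixedPoints (zpowers y) W := fun r => Subtype.ext (map_zero (ρ r))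
  obtain ⟨b, hb, hb0⟩ := hz.exists_fixed_point_of_prime_dvd_card_of_fixed_point W hcard h0
  refine ⟨b, b.2, fun h => hb0 (Subtype.ext h.symm), ?_⟩
  exact congrArg Subtype.val (hb ⟨y, mem_zpowers y⟩)

end CfsgLib.Fail9
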