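import Cfsg.Agent.LibFail9C
/-! Eigenvectors of the torus on subgroups that are not invariant. Seat helper9. -/
set_option autoImplicit false
set_option maxHeartbeats 400000
set_option linter.unusedSectionVars false
set_option linter.style.haveILetI false

namespace CfsgLib.Fail9

open Subgroup CfsgLib.FusionH12

universe u v

variable {E : Type v} [Group E] [Finite E] {p : ℕ} [hp : Fact p.Prime] {HE : Subgroup E} {y f : E}

theorem card_addsub_lt {M : Type u} [AddCommGroup M] [Finite M] {N : AddSubgroup M} (h : N ≠ ⊤) :
    Nat.card N < Nat.card M := by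
  have h1 := AddSubgroup.card_mul_index N
  have h2 : N.index ≠ 1 := fun h3 => h (AddSubgroup.index_eq_one.1 h3)
  have h3 : N.index ≠ 0 := AddSubgroup.index_ne_zero_of_finite
  have h4 : 0 < Nat.card N := Nat.card_pos
  have h5 : 2 ≤ N.index := by omega
  nlinarith

theorem card_addquot_lt {M : Type u} [AddCommGroup M] [Finite M] {N : AddSubgroup M} (h : N ≠ ⊥) :
    Nat.card (M ⧸ N) < Nat.card M := by
  have h1 := AddSubgroup.card_mul_index N
  have h2 : Nat.card N ≠ 1 := fun h3 => h (AddSubgroup.card_eq_one.1 h3)
  have h3 : 0 < N.index := Nat.pos_of_ne_zero AddSubgroup.index_ne_zero_of_finite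
  have h4 : 0 < Nat.card N := Nat.card_pos
  have h5 : 2 ≤ Nat.card N := by omega
  change N.index < _
  nlinarith

theorem Ctx.modE (C : Ctx p HE y f) (hp2 : p ≠ 2) {t s : ℤ} (hts : ((t * s : ℤ) : ZMod p) = 1) :
    ∀ n : ℕ, ∀ (M : Type u) [AddCommGroup M] [Finite M] (ρ : E →* AddMonoid.End M), Nat.card M ≤ n → Qd ρ y →
      (∃ k : ℕ, ∀ m : M, p ^ k • m = 0) → ∀ W : AddSubgroup M, (∀ h ∈ HE, ∀ w ∈ W, ρ h w ∈ W) → ¬ Inv ρ W →
      ∃ h ∈ HE, ∃ w ∈ W, w ≠ 0 ∧ ρ h w = t • w := by
  intro n
  induction n with
  | zero =>
    intro M _ _ ρ hn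
    have : 0 < Nat.card M := Nat.card_pos
    omega
  | succ n ih =>
  intro M _ _ ρ hn hq hpM W hW hnW
  by_contra hcon
  push Not at hcon
  have hpM' := hpM
  obtain ⟨k, hk⟩ := hpM'
  have A1 : ∀ N : AddSubgroup M, Inv ρ N → N ≠ ⊤ → Inv ρ (W ⊓ N) := by
    intro N hN hNt
    by_contra h1
    have hc := card_addsub_lt hNt
    obtain ⟨h, hh, w, hw, hw0, hw1⟩ := ih N (resEnd ρ N hN) (by omega) (hq.res N hN)
      ⟨k, fun m => Subtype.ext (hk m)⟩ (W.addSubgroupOf N) (fun h hh w hw => hW h hh _ hw) (by
        intro h2
        apply h1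
        intro e m hm
        have hm1 : m ∈ W := (AddSubgroup.mem_inf.1 hm).1
        have hm2 : m ∈ N := (AddSubgroup.mem_inf.1 hm).2
        exact AddSubgroup.mem_inf.2 ⟨h2 e ⟨m, hm2⟩ hm1, hN e m hm2⟩)
    exact hcon h hh w hw (fun h0 => hw0 (Subtype.ext h0)) (congrArg Subtype.val hw1)
  have A2 : ∀ N : AddSubgroup M, Inv ρ N → N ≠ ⊥ → Inv ρ (W ⊔ N) := by
    intro N hN hNb
    by_contra h1
    have hc := card_addquot_lt hNb
    obtain ⟨h, hh, w', ⟨w, hw, rfl⟩, hw0, hw1⟩ := ih (M ⧸ N) (quoEnd ρ N hN) (by omega) (hq.quo N hN)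
      ⟨k, fun m => by
        obtain ⟨m, rfl⟩ := QuotientAddGroup.mk'_surjective N m
        rw [← map_nsmul, hk, map_zero]⟩ (W.map (QuotientAddGroup.mk' N)) (by
          rintro h hh _ ⟨w, hw, rfl⟩
          exact ⟨ρ h w, hW h hh w hw, rfl⟩) (by
        intro h2
        apply h1
        intro e m hm
        obtain ⟨w, hw, n, hn, rfl⟩ := AddSubgroup.mem_sup.1 hm
        obtain ⟨w', hw', h3⟩ := h2 e _ ⟨w, hw, rfl⟩
        rw [quoEnd_apply] at h3
        have h4 : ρ e w - w' ∈ N := by
          rw [← QuotientAddGroup.eq_zero_iff]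
          change QuotientAddGroup.mk' N (ρ e w - w') = 0
          rw [map_sub, h3, sub_self]
        have h5 : ρ e (w + n) = w' + ((ρ e w - w') + ρ e n) := by rw [map_add]; abel
        rw [h5]
        exact AddSubgroup.add_mem _ (AddSubgroup.mem_sup_left hw')
          (AddSubgroup.mem_sup_right (N.add_mem h4 (hN e n hn))))
    rw [quoEnd_apply] at hw1
    let θ : M →+ M :=
      { toFun := fun m => ρ h m - t • m
        map_zero' := by rw [map_zero, smul_zero, sub_zero]
        map_add' := fun a b => by rw [map_add, smul_add]; abel }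
    have hθ : ∀ m, θ m = ρ h m - t • m := fun m => rfl
    obtain ⟨u, hu, hu0, hu1⟩ := theta_lift θ W N
      (fun w hw => by rw [hθ]; exact W.sub_mem (hW h hh w hw) (W.zsmul_mem hw t))
      (fun w hw => by rw [hθ]; exact N.sub_mem (hN h w hw) (N.zsmul_mem hw t)) hw
      (fun hwN => hw0 ((QuotientAddGroup.eq_zero_iff w).2 hwN)) (by
        rw [← QuotientAddGroup.eq_zero_iff, hθ]
        change QuotientAddGroup.mk' N (ρ h w - t • w) = 0
        rw [map_sub, hw1, map_zsmul, sub_self])
    rw [hθ, sub_eq_zero] at hu1
    exact hcon h hh u hu hu0 hu1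
  have A3 : ∀ N : AddSubgroup M, Inv ρ N → N ≠ ⊥ → N ≠ ⊤ → W ⊓ N = ⊥ ∧ W ⊔ N = ⊤ := by
    intro N hN hNb hNt
    constructor
    · by_contra h1
      have h2 := A2 _ (A1 N hN hNt) h1
      rw [sup_of_le_left inf_le_left] at h2
      exact hnW h2
    · by_contra h1
      have h2 := A1 _ (A2 N hN hNb) h1
      rw [inf_of_le_left le_sup_left] at h2
      exact hnW h2
  have hWb : W ≠ ⊥ := by
    rintro rfl
    apply hnW
    intro e m hm
    rw [AddSubgroup.mem_bot] at hm ⊢
    rw [hm, map_zero]
  by_cases hirr : ∀ N : AddSubgroup M, Inv ρ N → N = ⊥ ∨ N = ⊤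
  · have hnt : ∃ e m, ρ e m ≠ m := by
      by_contra h1
      push Not at h1
      apply hnW
      intro e m hm
      rwa [h1]
    obtain ⟨-, h, hh, hh1⟩ := C.torus hp2 hq hpM hirr hnt hts
    obtain ⟨w, hw, hw0, hw1⟩ := exists_fix C.hyp hpM (fun w hw => hW y C.hy w hw) hWb
    exact hcon h hh w hw hw0 (hh1 w hw1).1
  · push Not at hirr
    obtain ⟨N, hN, hNb, hNt⟩ := hirr
    obtain ⟨hWN1, hWN2⟩ := A3 N hN hNb hNt
    have hdec : ∀ m : M, ∃ w ∈ W, ∃ n ∈ N, w + n = m := fun m =>
      AddSubgroup.mem_sup.1 (by rw [hWN2]; trivial)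
    have hzero : ∀ m, m ∈ W → m ∈ N → m = 0 := fun m h1 h2 => by
      have : m ∈ W ⊓ N := AddSubgroup.mem_inf.2 ⟨h1, h2⟩
      rw [hWN1] at this
      exact AddSubgroup.mem_bot.1 this
    by_cases hqt : ∃ e m, quoEnd ρ N hN e m ≠ m
    · -- nontrivial quotient
      have hirrQ : ∀ N' : AddSubgroup (M ⧸ N), Inv (quoEnd ρ N hN) N' → N' = ⊥ ∨ N' = ⊤ := by
        intro N' hN'
        have h1 : Inv ρ (N'.comap (QuotientAddGroup.mk' N)) := fun e m hm => hN' e _ hm
        have hle : N ≤ N'.comap (QuotientAddGroup.mk' N) := by
          intro m hm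
          change QuotientAddGroup.mk' N m ∈ N'
          rw [show QuotientAddGroup.mk' N m = 0 from (QuotientAddGroup.eq_zero_iff m).2 hm]
          exact N'.zero_mem
        by_cases h2 : N'.comap (QuotientAddGroup.mk' N) = ⊤
        · right
          rw [eq_top_iff]
          intro m _
          obtain ⟨m, rfl⟩ := QuotientAddGroup.mk'_surjective N m
          have : m ∈ N'.comap (QuotientAddGroup.mk' N) := by rw [h2]; trivial
          exact this
        · left
          have h3 := (A3 _ h1 (fun h0 => hNb (le_bot_iff.1 (h0 ▸ hle))) h2).1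
          rw [eq_bot_iff]
          intro m hm
          obtain ⟨m, rfl⟩ := QuotientAddGroup.mk'_surjective N m
          obtain ⟨w, hw, n, hn, rfl⟩ := hdec m
          have h4 : w ∈ N'.comap (QuotientAddGroup.mk' N) := by
            have h5 : w = (w + n) - n := by abel
            rw [h5]
            exact AddSubgroup.sub_mem _ hm (hle hn)
          have h6 : w ∈ W ⊓ N'.comap (QuotientAddGroup.mk' N) := AddSubgroup.mem_inf.2 ⟨hw, h4⟩
          rw [h3] at h6
          rw [AddSubgroup.mem_bot.1 h6, zero_add, AddSubgroup.mem_bot]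
          exact (QuotientAddGroup.eq_zero_iff n).2 hn
      obtain ⟨-, h, hh, hh1⟩ := C.torus hp2 (hq.quo N hN) ⟨k, fun m => by
        obtain ⟨m, rfl⟩ := QuotientAddGroup.mk'_surjective N m
        rw [← map_nsmul, hk, map_zero]⟩ hirrQ hqt hts
      obtain ⟨v, -, hv0, hv1⟩ := exists_fix (ρ := quoEnd ρ N hN) (W := ⊤) C.hyp ⟨k, fun m => by
        obtain ⟨m, rfl⟩ := QuotientAddGroup.mk'_surjective N m
        rw [← map_nsmul, hk, map_zero]⟩ (fun _ _ => trivial) (by
          intro h0
          obtain ⟨e, m, hem⟩ := hqt
          apply hem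
          have h1 : ∀ m : M ⧸ N, m = 0 := fun m => by
            have : m ∈ (⊤ : AddSubgroup (M ⧸ N)) := trivial
            rw [h0] at this
            exact AddSubgroup.mem_bot.1 this
          rw [h1 (quoEnd ρ N hN e m), h1 m])
      obtain ⟨v, rfl⟩ := QuotientAddGroup.mk'_surjective N v
      obtain ⟨w, hw, n, hn, rfl⟩ := hdec v
      have e1 : QuotientAddGroup.mk' N (w + n) = QuotientAddGroup.mk' N w := by
        rw [map_add, show QuotientAddGroup.mk' N n = 0 from (QuotientAddGroup.eq_zero_iff n).2 hn, add_zero]
      rw [e1] at hv0 hv1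
      have h2 := (hh1 _ hv1).1
      rw [quoEnd_apply] at h2
      have h3 : ρ h w - t • w ∈ N := by
        rw [← QuotientAddGroup.eq_zero_iff]
        change QuotientAddGroup.mk' N (ρ h w - t • w) = 0
        rw [map_sub, h2, map_zsmul, sub_self]
      have h4 := hzero _ (W.sub_mem (hW h hh w hw) (W.zsmul_mem hw t)) h3
      refine hcon h hh w hw ?_ (sub_eq_zero.1 h4)
      rintro rfl
      exact hv0 (map_zero _)
    · push Not at hqt
      have hq1 : ∀ e m, ρ e m - m ∈ N := by
        intro e m
        have := hqt e (QuotientAddGroup.mk' N m)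
        rw [quoEnd_apply] at this
        rw [← QuotientAddGroup.eq_zero_iff]
        change QuotientAddGroup.mk' N (ρ e m - m) = 0
        rw [map_sub, this, sub_self]
      have hfix : ∀ h ∈ HE, ∀ w ∈ W, ρ h w = w := fun h hh w hw =>
        sub_eq_zero.1 (hzero _ (W.sub_mem (hW h hh w hw) hw) (hq1 h w))
      by_cases hNn : ∃ e, ∃ m ∈ N, ρ e m ≠ m
      · have hirrN : ∀ N' : AddSubgroup N, Inv (resEnd ρ N hN) N' → N' = ⊥ ∨ N' = ⊤ := by
          intro N' hN'
          have h1 : Inv ρ (N'.map N.subtype) := by
            rintro e _ ⟨m, hm, rfl⟩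
            exact ⟨_, hN' e m hm, rfl⟩
          by_cases h2 : N'.map N.subtype = ⊥
          · left
            rw [eq_bot_iff]
            intro m hm
            have h3 : (m : M) ∈ N'.map N.subtype := ⟨m, hm, rfl⟩
            rw [h2] at h3
            exact AddSubgroup.mem_bot.2 (Subtype.ext (AddSubgroup.mem_bot.1 h3))
          · right
            have hle : N'.map N.subtype ≤ N := by rintro _ ⟨m, hm, rfl⟩; exact m.2
            have h3 := (A3 _ h1 h2 (fun h0 => hNt (top_le_iff.1 (h0 ▸ hle)))).2
            rw [eq_top_iff]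
            intro m _
            obtain ⟨w, hw, n, hn, e⟩ := AddSubgroup.mem_sup.1 (show (m : M) ∈ W ⊔ N'.map N.subtype by rw [h3]; trivial)
            have h4 : w = 0 := hzero w hw (by
              have h5 : w = m - n := by rw [← e]; abel
              rw [h5]; exact N.sub_mem m.2 (hle hn))
            rw [h4, zero_add] at e
            rw [e] at hn
            obtain ⟨m', hm', e'⟩ := hn
            have : m' = m := Subtype.ext e'
            rwa [this] at hm'
        obtain ⟨e₀, m₀, hm₀, hem₀⟩ := hNn
        obtain ⟨hdecN, ζ, hζ, hζ1⟩ := C.torus hp2 (hq.res N hN) ⟨k, fun m => Subtype.ext (hk m)⟩ hirrN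
          ⟨e₀, ⟨m₀, hm₀⟩, fun h => hem₀ (congrArg Subtype.val h)⟩ (t := -1) (s := -1) (by simp)
        have hζN : ∀ m ∈ N, ρ ζ m = -m := by
          intro m hm
          obtain ⟨t₁, t₂, h1, h2, h3⟩ := hdecN ⟨m, hm⟩
          have h4 : resEnd ρ N hN ζ ⟨m, hm⟩ = -⟨m, hm⟩ := by
            rw [h3, map_add, (hζ1 t₁ h1).1, (hζ1 t₂ h2).2]
            simp only [neg_smul, one_smul]
            abel
          exact congrArg Subtype.val h4
        -- the kernel on N
        have hKN : ∀ g : E, (∀ m ∈ N, ρ g m = m) → ∀ m, ρ g m = m := by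
          let KN := (resEnd ρ N hN).ker
          have hKN : ∀ g : E, g ∈ KN ↔ ∀ m ∈ N, ρ g m = m := by
            intro g
            constructor
            · intro h m hm
              have h1 : resEnd ρ N hN g = 1 := h
              have h2 := DFunLike.congr_fun h1 ⟨m, hm⟩
              exact congrArg Subtype.val h2
            · intro h
              change resEnd ρ N hN g = 1
              refine AddMonoidHom.ext fun m => Subtype.ext (h m m.2)
          by_cases hF : KN ⊔ zpowers y = ⊤
          · exfalso
            -- y fixes something in N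
            obtain ⟨w, hw, hw0, hw1⟩ := exists_fix (ρ := ρ) (W := N) C.hyp hpM (fun m hm => hN y m hm) hNb
            let F : AddSubgroup N :=
              { carrier := {m | ρ y m = m}
                add_mem' := fun {a b} ha hb => by
                  have ha' : ρ y a = a := ha
                  have hb' : ρ y b = b := hb
                  change ρ y ((a : M) + b) = a + b
                  rw [map_add, ha', hb']
                zero_mem' := map_zero _
                neg_mem' := fun {a} ha => by
                  have ha' : ρ y a = a := ha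
                  change ρ y (-(a : M)) = -a
                  rw [map_neg, ha'] }
            have hall : ∀ g : E, ∀ m ∈ F, ρ g m = m := by
              intro g m hm
              have hg : g ∈ KN ⊔ zpowers y := by rw [hF]; trivial
              have hle : KN ⊔ zpowers y ≤ (MonoidHom.ker (resEnd ρ N hN)) ⊔ zpowers y := le_rfl
              have hsub : KN ⊔ zpowers y ≤
                  { carrier := {g | ρ g m = m}
                    mul_mem' := fun {a b} ha hb => by
                      have ha' : ρ a m = m := ha
                      have hb' : ρ b m = m := hb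
                      change ρ (a * b) m = m
                      rw [rho_mul, hb', ha']
                    one_mem' := rho_one ρ m
                    inv_mem' := fun {a} ha => by
                      have ha' : ρ a m = m := ha
                      change ρ a⁻¹ m = m
                      conv_lhs => rw [← ha']
                      exact rho_inv ρ a m } := by
                refine sup_le ?_ ?_
                · intro g hg
                  exact (hKN g).1 hg m m.2
                · rw [zpowers_le]; exact hm
              exact hsub hg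
            have hFt : F = ⊤ := by
              refine (hirrN F (fun e m hm => ?_)).resolve_left ?_
              · change ρ y (ρ e m) = ρ e m
                rw [hall e m hm]; exact hm
              · intro h0
                have h1 : (⟨w, hw⟩ : N) ∈ F := hw1
                rw [h0] at h1
                exact hw0 (congrArg Subtype.val (AddSubgroup.mem_bot.1 h1))
            apply hem₀
            exact hall e₀ ⟨m₀, hm₀⟩ (by rw [hFt]; trivial)
          · have h1 : KN ≤ HE := le_sup_left.trans (C.hmax _ (le_sup_right (a := KN) (mem_zpowers y)) hF)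
            intro g hg m
            obtain ⟨w, hw, n, hn, rfl⟩ := hdec m
            rw [map_add, hg n hn, hfix g (h1 ((hKN g).2 hg)) w hw]
        have hcomm : ∀ e m, ρ ζ (ρ e m) = ρ e (ρ ζ m) := by
          intro e m
          have h1 := hKN (ζ⁻¹ * e⁻¹ * ζ * e) (by
            intro n hn
            simp only [rho_mul]
            rw [hζN _ (hN e n hn), map_neg, rho_inv, map_neg]
            have h2 : ρ ζ⁻¹ (ρ ζ n) = n := rho_inv ρ ζ n
            rw [hζN n hn, map_neg] at h2
            exact h2) m
          simp only [rho_mul] at h1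
          have h2 := congrArg (ρ e) (congrArg (ρ ζ) h1)
          rw [rho_inv', rho_inv'] at h2
          exact h2
        let M₀ : AddSubgroup M :=
          { carrier := {m | ρ ζ m = m}
            add_mem' := fun {a b} ha hb => by
              have ha' : ρ ζ a = a := ha
              have hb' : ρ ζ b = b := hb
              change ρ ζ (a + b) = a + b
              rw [map_add, ha', hb']
            zero_mem' := map_zero _
            neg_mem' := fun {a} ha => by
              have ha' : ρ ζ a = a := ha
              change ρ ζ (-a) = -a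
              rw [map_neg, ha'] }
        have hM₀ : Inv ρ M₀ := fun e m hm => by
          have hm' : ρ ζ m = m := hm
          change ρ ζ (ρ e m) = ρ e m
          rw [hcomm, hm']
        have hWM : W ≤ M₀ := fun w hw => hfix ζ hζ w hw
        have hM₀b : M₀ ≠ ⊥ := fun h0 => hWb (le_bot_iff.1 (h0 ▸ hWM))
        have hM₀t : M₀ ≠ ⊤ := by
          intro h0
          apply hNb
          rw [eq_bot_iff]
          intro m hm
          have h1 : ρ ζ m = m := by
            have : m ∈ M₀ := by rw [h0]; trivial
            exact this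
          rw [hζN m hm] at h1
          have h2 : (2 : ℤ) • m = 0 := by
            rw [two_smul]
            nth_rewrite 1 [← h1]
            rw [neg_add_cancel]
          have h3 : ((p ^ k : ℕ) : ℤ) • m = 0 := by rw [natCast_zsmul]; exact hk m
          have h4 : IsCoprime (2 : ℤ) ((p ^ k : ℕ) : ℤ) := by
            have h5 : Nat.Coprime 2 (p ^ k) :=
              Nat.Coprime.pow_right k ((Nat.coprime_primes Nat.prime_two hp.out).2 (Ne.symm hp2))
            exact_mod_cast Nat.isCoprime_iff_coprime.2 h5
          obtain ⟨a, b, hab⟩ := h4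
          rw [AddSubgroup.mem_bot, ← one_smul ℤ m, ← hab, add_smul, mul_smul, mul_smul, h2, h3, smul_zero,
            smul_zero, add_zero]
        have h1 := (A3 M₀ hM₀ hM₀b hM₀t).1
        rw [inf_eq_left.2 hWM] at h1
        exact hWb h1
      · push Not at hNn
        apply hnW
        have hstab : ∀ w ∈ W, ∀ e, ρ e w = w := by
          intro w hw e
          have he : e ∈ closure {y, f * y * f⁻¹} := by rw [C.gen]; trivial
          induction he using Subgroup.closure_induction with
          | mem c hc =>
            rcases hc with rfl | hc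
            · exact hfix c C.hy w hw
            · rw [Set.mem_singleton_iff] at hc
              subst hc
              have h1 := hq1 f⁻¹ w
              have h2 : ρ f⁻¹ w = w + (ρ f⁻¹ w - w) := by abel
              have h3 : ρ y (ρ f⁻¹ w) = ρ f⁻¹ w := by
                rw [h2, map_add, hfix y C.hy w hw, hNn y _ h1]
              rw [rho_mul, rho_mul, h3, rho_inv']
          | one => exact rho_one ρ w
          | mul c d _ _ hc hd => rw [rho_mul, hd, hc]
          | inv c _ hc =>
            conv_lhs => rw [← hc]
            exact rho_inv ρ c w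
        intro e m hm
        rw [hstab m hm e]
        exact hm

end CfsgLib.Fail9
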