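import Cfsg.Agent.LibFail9E
import Cfsg.Agent.LibDZJ9
/-! The constrained case: a torus element with an eigenvector in the centre of the Thompson subgroup. Seat helper9. -/
set_option autoImplicit false
set_option maxHeartbeats 400000
set_option linter.unusedSectionVars false
set_option linter.style.haveILetI false

namespace CfsgLib.Fail9

open Subgroup Cfsg MulAction CfsgLib.Cores CfsgLib.Coprime CfsgLib.H2Misc CfsgLib.H2Solv CfsgLib.H2Subn CfsgLib.H2Quad CfsgLib.H2Gen CfsgLib.H2Gen2 CfsgLib.H2Thomp CfsgLib.H2Lift CfsgLib.H2PG CfsgLib.H2Repl CfsgLib.H2Glaub CfsgLib.H2ZJ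
open CfsgLib.DZJ9 CfsgLib.FusionH12
open scoped Pointwise commutatorElement

universe u v

variable {G : Type u} [Group G]

theorem theta_mul [Finite G] {Y₁ N₁ : Subgroup G} (hc : ∀ a ∈ Y₁, ∀ b ∈ Y₁, a * b = b * a) {h : G}
    (hY : ∀ a ∈ Y₁, h * a * h⁻¹ ∈ Y₁) (hN : ∀ a ∈ N₁, h * a * h⁻¹ ∈ N₁) {t : ℤ} {v : G} (hv : v ∈ Y₁) (hvN : v ∉ N₁)
    (hθ : h * v * h⁻¹ * v ^ (-t) ∈ N₁) : ∃ w ∈ Y₁, w ≠ 1 ∧ h * w * h⁻¹ = w ^ t := by
  by_contra hcon
  push Not at hcon
  have hmul : ∀ a ∈ Y₁, ∀ b ∈ Y₁, h * (a * b⁻¹) * h⁻¹ * (a * b⁻¹) ^ (-t) =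
      (h * a * h⁻¹ * a ^ (-t)) * (h * b * h⁻¹ * b ^ (-t))⁻¹ := by
    intro a ha b hb
    have hcab : Commute a b⁻¹ := hc a ha b⁻¹ (Y₁.inv_mem hb)
    rw [hcab.mul_zpow]
    have e1 : Commute (h * b⁻¹ * h⁻¹) (a ^ (-t)) :=
      hc _ (hY _ (Y₁.inv_mem hb)) _ (Y₁.zpow_mem ha _)
    have e2 : Commute (h * b * h⁻¹)⁻¹ (b ^ (-t))⁻¹ :=
      hc _ (Y₁.inv_mem (hY _ hb)) _ (Y₁.inv_mem (Y₁.zpow_mem hb _))
    have e3 : (h * b * h⁻¹ * b ^ (-t))⁻¹ = (h * b⁻¹ * h⁻¹) * (b ^ (-t))⁻¹ := by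
      rw [mul_inv_rev, ← e2.eq]; group
    rw [e3]
    calc h * (a * b⁻¹) * h⁻¹ * (a ^ (-t) * b⁻¹ ^ (-t)) = (h * a * h⁻¹) * ((h * b⁻¹ * h⁻¹) * a ^ (-t)) * b⁻¹ ^ (-t) := by group
      _ = (h * a * h⁻¹) * (a ^ (-t) * (h * b⁻¹ * h⁻¹)) * b⁻¹ ^ (-t) := by rw [e1.eq]
      _ = _ := by rw [inv_zpow]; group
  have hinjY : ∀ a ∈ Y₁, ∀ b ∈ Y₁, h * a * h⁻¹ * a ^ (-t) = h * b * h⁻¹ * b ^ (-t) → a = b := by
    intro a ha b hb e
    by_contra hne
    have h1 : a * b⁻¹ ∈ Y₁ := Y₁.mul_mem ha (Y₁.inv_mem hb)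
    refine hcon _ h1 (fun h0 => hne (mul_inv_eq_one.1 h0)) ?_
    have h2 := hmul a ha b hb
    rw [e, mul_inv_cancel] at h2
    rw [zpow_neg, mul_inv_eq_one] at h2
    exact h2
  let θ' : ↥(Y₁ ⊓ N₁) → ↥(Y₁ ⊓ N₁) := fun a => ⟨h * a * h⁻¹ * (a : G) ^ (-t),
    ⟨Y₁.mul_mem (hY _ a.2.1) (Y₁.zpow_mem a.2.1 _), N₁.mul_mem (hN _ a.2.2) (N₁.zpow_mem a.2.2 _)⟩⟩
  have hinj : Function.Injective θ' := fun a b hab =>
    Subtype.ext (hinjY a a.2.1 b b.2.1 (congrArg Subtype.val hab))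
  obtain ⟨a, ha⟩ := Finite.injective_iff_surjective.1 hinj
    ⟨h * v * h⁻¹ * v ^ (-t), ⟨Y₁.mul_mem (hY _ hv) (Y₁.zpow_mem hv _), hθ⟩⟩
  have h1 := hinjY a a.2.1 v hv (congrArg Subtype.val ha)
  exact hvN (h1 ▸ a.2.2)

theorem isPGroup_of_forall' [Finite G] {p : ℕ} [hp : Fact p.Prime] {K : Subgroup G}
    (h : ∀ x ∈ K, Nat.Coprime (orderOf x) p → x = 1) : IsPGroup p K := by
  rw [IsPGroup.iff_card]
  refine ⟨_, Nat.eq_prime_pow_of_unique_prime_dvd Nat.card_pos.ne' ?_⟩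
  intro r hr hrK
  haveI : Fact r.Prime := ⟨hr⟩
  obtain ⟨x, hx⟩ := exists_prime_orderOf_dvd_card' (G := K) r hrK
  by_contra hne
  have h1 : orderOf (x : G) = r := by rw [Subgroup.orderOf_coe]; exact hx
  have h2 := h x x.2 (by
    rw [h1]; exact (Nat.coprime_primes hr hp.out).2 hne)
  rw [h2, orderOf_one] at h1
  exact hr.one_lt.ne h1

/-- a normal abelian intersection property -/
theorem le_pCore_of_inf_normal [Finite G] {p : ℕ} [hp : Fact p.Prime] (hc : centralizer (pCore p G : Set G) ≤ pCore p G)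
    {Y : Subgroup G} (hYc : ∀ x ∈ Y, ∀ y ∈ Y, x * y = y * x) (hQY : pCore p G ≤ normalizer (Y : Set G))
    (hn : (Y ⊓ pCore p G).Normal) : Y ≤ pCore p G := by
  set N := Y ⊓ pCore p G with hN
  haveI := hn
  let π := QuotientGroup.mk' N
  haveI hmn : ((pCore p G).map π).Normal := Subgroup.Normal.map inferInstance π (QuotientGroup.mk'_surjective N)
  haveI hcn : (centralizer (((pCore p G).map π : Subgroup (G ⧸ N)) : Set (G ⧸ N))).Normal := inferInstance
  haveI hcn' : ((centralizer (((pCore p G).map π : Subgroup (G ⧸ N)) : Set (G ⧸ N))).comap π).Normal := hcn.comap π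
  let N₀ := centralizer (N : Set G) ⊓ (centralizer (((pCore p G).map π : Subgroup (G ⧸ N)) : Set (G ⧸ N))).comap π
  have hN₀ : N₀.Normal := inferInstance
  have hcomm : ∀ g ∈ (centralizer (((pCore p G).map π : Subgroup (G ⧸ N)) : Set (G ⧸ N))).comap π,
      ∀ q ∈ pCore p G, g * q * g⁻¹ * q⁻¹ ∈ N := by
    intro g hg q hq
    have h1 : π q * π g = π g * π q := mem_centralizer_iff.1 hg _ ⟨q, hq, rfl⟩
    rw [← QuotientGroup.eq_one_iff]
    change π (g * q * g⁻¹ * q⁻¹) = 1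
    rw [map_mul, map_mul, map_mul, ← h1, map_inv, map_inv]
    group
  have hp0 : IsPGroup p N₀ := by
    apply isPGroup_of_forall'
    intro k hk hkp
    obtain ⟨hk1, hk2⟩ := Subgroup.mem_inf.1 hk
    have h1 : k ∈ centralizer (pCore p G : Set G) := by
      rw [mem_centralizer_iff]
      intro q hq
      have h2 := hcomm k hk2 q hq
      set w := k * q * k⁻¹ * q⁻¹ with hw
      have h3 : k * w = w * k := (mem_centralizer_iff.1 hk1 w h2).symm
      have h4 : ∀ n : ℕ, k ^ n * q * (k ^ n)⁻¹ = w ^ n * q := by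
        intro n
        induction n with
        | zero => simp
        | succ n ih =>
          have h5 : k * w ^ n = w ^ n * k := (Commute.pow_right h3 n)
          calc k ^ (n + 1) * q * (k ^ (n + 1))⁻¹ = k * (k ^ n * q * (k ^ n)⁻¹) * k⁻¹ := by rw [pow_succ']; group
            _ = (k * w ^ n) * q * k⁻¹ := by rw [ih]; group
            _ = w ^ n * (k * q * k⁻¹ * q⁻¹) * q := by rw [h5]; group
            _ = w ^ (n + 1) * q := by rw [← hw, pow_succ]
      have h5 := h4 (orderOf k)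
      rw [pow_orderOf_eq_one] at h5
      have h6 : w ^ orderOf k = 1 := by
        have : (1 : G) * q * 1⁻¹ = q := by group
        rw [this] at h5
        exact (mul_eq_right.1 h5.symm)
      obtain ⟨j, hj⟩ := (pCore_isPGroup p : IsPGroup p (pCore p G)) ⟨w, (Subgroup.mem_inf.1 h2).2⟩
      have hj' : w ^ p ^ j = 1 := congrArg Subtype.val hj
      have h7 : orderOf w ∣ 1 := by
        have := Nat.dvd_gcd (orderOf_dvd_of_pow_eq_one h6) (orderOf_dvd_of_pow_eq_one hj')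
        rwa [Nat.Coprime.gcd_eq_one (Nat.Coprime.pow_right j hkp)] at this
      have h8 : w = 1 := orderOf_eq_one_iff.1 (Nat.dvd_one.1 h7)
      rw [hw, mul_inv_eq_one, mul_inv_eq_iff_eq_mul] at h8
      exact h8.symm
    have h2 := hc h1
    obtain ⟨j, hj⟩ := (pCore_isPGroup p : IsPGroup p (pCore p G)) ⟨k, h2⟩
    have hj' : k ^ p ^ j = 1 := congrArg Subtype.val hj
    have h7 : orderOf k ∣ 1 := by
      have := Nat.dvd_gcd dvd_rfl (orderOf_dvd_of_pow_eq_one hj')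
      rwa [Nat.Coprime.gcd_eq_one (Nat.Coprime.pow_right j hkp)] at this
    exact orderOf_eq_one_iff.1 (Nat.dvd_one.1 h7)
  refine le_trans ?_ (le_pCore hN₀ hp0)
  intro x hx
  refine Subgroup.mem_inf.2 ⟨?_, ?_⟩
  · rw [mem_centralizer_iff]
    intro w hw
    exact hYc w (Subgroup.mem_inf.1 hw).1 x hx
  · change π x ∈ centralizer _
    rw [mem_centralizer_iff]
    rintro _ ⟨q, hq, rfl⟩
    have h1 : x * q * x⁻¹ * q⁻¹ ∈ N := by
      refine Subgroup.mem_inf.2 ⟨?_, ?_⟩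
      · have h2 := (mem_normalizer_iff.1 (hQY hq) x⁻¹).1 (Y.inv_mem hx)
        have e : x * q * x⁻¹ * q⁻¹ = x * (q * x⁻¹ * q⁻¹) := by group
        rw [e]; exact Y.mul_mem hx h2
      · have h2 : x * q * x⁻¹ ∈ pCore p G := (inferInstance : (pCore p G).Normal).conj_mem q hq x
        exact (pCore p G).mul_mem h2 ((pCore p G).inv_mem hq)
    have h2 : π (x * q * x⁻¹ * q⁻¹) = 1 := (QuotientGroup.eq_one_iff _).2 h1
    rw [map_mul, map_mul, map_mul, map_inv, map_inv, mul_inv_eq_one, mul_inv_eq_iff_eq_mul] at h2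
    exact h2.symm

/-- the action of a group on the abelianization of a normal subgroup -/
noncomputable def abEnd (B : Subgroup G) [B.Normal] : G →* AddMonoid.End (Additive (Abelianization B)) where
  toFun g := MonoidHom.toAdditive (Abelianization.map (MulAut.conjNormal g : MulAut B).toMonoidHom)
  map_one' := by
    refine AddMonoidHom.ext fun m => ?_
    obtain ⟨b, hb⟩ := QuotientGroup.mk_surjective (Additive.toMul m)
    have hb' : m = Additive.ofMul (Abelianization.of b) := (congrArg Additive.ofMul hb).symm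
    rw [hb']
    change Additive.ofMul (Abelianization.of ((MulAut.conjNormal (1 : G) : MulAut B) b)) = _
    rw [map_one]; rfl
  map_mul' g h := by
    refine AddMonoidHom.ext fun m => ?_
    obtain ⟨b, hb⟩ := QuotientGroup.mk_surjective (Additive.toMul m)
    have hb' : m = Additive.ofMul (Abelianization.of b) := (congrArg Additive.ofMul hb).symm
    rw [hb']
    change Additive.ofMul (Abelianization.of ((MulAut.conjNormal (g * h) : MulAut B) b)) = _
    rw [map_mul]; rfl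

theorem abEnd_apply (B : Subgroup G) [B.Normal] (g : G) (b : B) :
    abEnd B g (Additive.ofMul (Abelianization.of b)) =
      Additive.ofMul (Abelianization.of (⟨g * b * g⁻¹, (inferInstance : B.Normal).conj_mem b b.2 g⟩ : B)) := rfl

theorem ab_surj (B : Subgroup G) (m : Additive (Abelianization B)) : ∃ b : B, m = Additive.ofMul (Abelianization.of b) := by
  obtain ⟨b, hb⟩ := QuotientGroup.mk_surjective (Additive.toMul m)
  exact ⟨b, (congrArg Additive.ofMul hb).symm⟩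

theorem ab_eq (B : Subgroup G) (a b : B) :
    (Additive.ofMul (Abelianization.of a) : Additive (Abelianization B)) = Additive.ofMul (Abelianization.of b) ↔
      (a : G) * (b : G)⁻¹ ∈ ⁅B, B⁆ := by
  have h1 : (Additive.ofMul (Abelianization.of a) : Additive (Abelianization B)) = Additive.ofMul (Abelianization.of b) ↔
      Abelianization.of a = Abelianization.of b := Iff.rfl
  rw [h1]
  have h2 : Abelianization.of a = Abelianization.of b ↔ b⁻¹ * a ∈ commutator B := by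
    rw [eq_comm]
    exact QuotientGroup.eq
  rw [h2]
  have h3 : (commutator B).map B.subtype = ⁅B, B⁆ := by
    rw [commutator_def, map_commutator, ← MonoidHom.range_eq_map, range_subtype]
  have hn : B ≤ normalizer ((⁅B, B⁆ : Subgroup G) : Set G) := by
    rw [← h3]
    intro x hx
    rw [mem_normalizer_iff]
    intro w
    constructor
    · rintro ⟨c, hc, rfl⟩
      exact ⟨⟨x, hx⟩ * c * ⟨x, hx⟩⁻¹, (inferInstance : (commutator B).Normal).conj_mem c hc _, rfl⟩
    · rintro ⟨c, hc, hc'⟩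
      refine ⟨⟨x, hx⟩⁻¹ * c * ⟨x, hx⟩, by
        simpa using (inferInstance : (commutator B).Normal).conj_mem c hc ⟨x, hx⟩⁻¹, ?_⟩
      change x⁻¹ * (c : G) * x = w
      have hc'' : (c : G) = x * w * x⁻¹ := hc'
      rw [hc'']; group
  constructor
  · intro h
    have h4 : ((b⁻¹ * a : B) : G) ∈ ⁅B, B⁆ := by rw [← h3]; exact ⟨_, h, rfl⟩
    have h5 := (mem_normalizer_iff.1 (hn b.2) _).1 h4
    have e : (b : G) * ((b⁻¹ * a : B) : G) * (b : G)⁻¹ = (a : G) * (b : G)⁻¹ := by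
      push_cast; group
    rwa [e] at h5
  · intro h
    have h5 := (mem_normalizer_iff.1 (hn (B.inv_mem b.2)) _).1 h
    have e : (b : G)⁻¹ * ((a : G) * (b : G)⁻¹) * ((b : G)⁻¹)⁻¹ = ((b⁻¹ * a : B) : G) := by
      push_cast; group
    rw [e, ← h3] at h5
    obtain ⟨c, hc, hc'⟩ := h5
    rwa [show c = b⁻¹ * a from Subtype.ext hc'] at hc

end CfsgLib.Fail9
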