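import Cfsg.Agent.LibFail9F
/-! The constrained case: the core. Seat helper9. -/
set_option autoImplicit false
set_option maxHeartbeats 400000
set_option linter.unusedSectionVars false
set_option linter.style.haveILetI false

namespace CfsgLib.Fail9

open Subgroup Cfsg MulAction CfsgLib.Cores CfsgLib.Coprime CfsgLib.H2Misc CfsgLib.H2Solv CfsgLib.H2Subn CfsgLib.H2Quad CfsgLib.H2Gen CfsgLib.H2Gen2 CfsgLib.H2Thomp CfsgLib.H2Lift CfsgLib.H2PG CfsgLib.H2Repl CfsgLib.H2Glaub CfsgLib.H2ZJ
open CfsgLib.DZJ9 CfsgLib.FusionH12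
open scoped Pointwise commutatorElement

universe u v

variable {G : Type u} [Group G]

theorem core [Finite G] {p : ℕ} [hp : Fact p.Prime] (hp2 : p ≠ 2) {Q : Subgroup G → Prop} (S : Sylow p G)
    {D₀ : Subgroup G} (hD₀ : IsStronglyClosed D₀ (S : Subgroup G))
    (hcen : centralizer (pCore p G : Set G) ≤ pCore p G)
    (hQc : ∀ A, Q A → IsMulCommutative A)
    (hQ : ∀ (g : G) (A : Subgroup G), Q A → Q (MulAut.conj g • A)) (hQbot : Q ⊥)
    (hrep : ∀ B : Subgroup G, B.Normal → B ≤ D₀ → ⁅⁅B, B⁆, B⁆ = ⊥ →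
      (∃ U ∈ maxIn Q D₀, ⁅B, B⁆ ≤ U ∧ ¬ B ≤ U) →
      ∃ A ∈ maxIn Q D₀, ⁅B, B⁆ ≤ A ∧ ¬ B ≤ A ∧ B ≤ normalizer (A : Set G))
    {Y : Subgroup G} (hYZ : Y ≤ IQ Q D₀) (hSY : (S : Subgroup G) ≤ normalizer (Y : Set G))
    (hNZ : normalizer (IQ Q D₀ : Set G) ≤ normalizer (Y : Set G)) (hNY : normalizer (Y : Set G) ≠ ⊤)
    (hmax : ∀ K : Subgroup G, (S : Subgroup G) ≤ K → K ≠ ⊤ → K ≤ normalizer (Y : Set G))
    {t s : ℤ} (hts : ((t * s : ℤ) : ZMod p) = 1) :
    ∃ h ∈ normalizer (Y : Set G), ∃ w ∈ Y, w ≠ 1 ∧ h * w * h⁻¹ = w ^ t := by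
  by_contra hcon
  set Z := IQ Q D₀ with hZ
  obtain ⟨A₀, hA₀⟩ := exists_maxIn (Q := Q) (P := D₀) bot_le hQbot
  have hZA : ∀ A ∈ maxIn Q D₀, Z ≤ A := fun A hA => IQ_le_of_mem hA
  have hZc : ∀ x ∈ Z, ∀ y ∈ Z, x * y = y * x := fun x hx y hy =>
    comm_of_mulComm (hQc A₀ hA₀.2.1) x (hZA A₀ hA₀ hx) y (hZA A₀ hA₀ hy)
  have hYc : ∀ x ∈ Y, ∀ y ∈ Y, x * y = y * x := fun x hx y hy => hZc x (hYZ hx) y (hYZ hy)
  have key : ∀ (n : ℕ) (B : Subgroup G), Nat.card B ≤ n → B.Normal → IsPGroup p B →
      (Y ⊓ B).Normal := by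
    intro n
    induction n with
    | zero =>
      intro B h
      exact absurd h (by simpa using Nat.card_pos.ne')
    | succ n ih =>
      intro B hBn hB hBp
      haveI := hB
      have hBS : B ≤ S := normal_le_sylow hB hBp S
      by_cases hB0 : B = ⊥
      · rw [hB0, inf_bot_eq]; infer_instance
      set B₁ := normalClosure ((Y ⊓ B : Subgroup G) : Set G) with hB1
      have hB1B : B₁ ≤ B := normalClosure_le_normal inf_le_right
      have hZB1 : Y ⊓ B ≤ B₁ := subset_normalClosure
      by_cases hlt : B₁ = B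
      swap
      · have h1 : Nat.card B₁ ≤ n := by
          have := card_lt_of_lt (lt_of_le_of_ne hB1B hlt)
          omega
        have h2 := ih B₁ h1 inferInstance (hBp.to_le hB1B)
        have h3 : Y ⊓ B = Y ⊓ B₁ := le_antisymm (le_inf inf_le_left hZB1) (inf_le_inf_left _ hB1B)
        rw [h3]; exact h2
      haveI hDBn : (D₀ ⊓ B).Normal := by
        constructor
        intro x hx g
        have h1 : g * x * g⁻¹ ∈ B := hB.conj_mem x (Subgroup.mem_inf.1 hx).2 g
        exact Subgroup.mem_inf.2 ⟨hD₀.2 x (Subgroup.mem_inf.1 hx).1 g (hBS h1), h1⟩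
      have hZD0 : Z ≤ D₀ := (hZA A₀ hA₀).trans hA₀.1
      have hBD0 : B ≤ D₀ := by
        have h1 : B₁ ≤ D₀ ⊓ B := normalClosure_le_normal (SetLike.coe_subset_coe.mpr (inf_le_inf_right _ (hYZ.trans hZD0)))
        rw [← hlt]
        exact h1.trans inf_le_left
      set D := ⁅B, B⁆ with hD
      haveI hDn : D.Normal := inferInstance
      have hDB : D ≤ B := commutator_le_self B
      have hDlt : D < B := by
        refine lt_of_le_of_ne hDB ?_
        intro h
        apply hB0
        apply eq_bot_of_le_commutator (p := p) (V := B) (W := B) (A := B) hBp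
        · intro a ha
          obtain ⟨k, hk⟩ := hBp ⟨a, ha⟩
          have : a ^ p ^ k = 1 := congrArg Subtype.val hk
          exact ⟨k, by rw [this]; exact one_mem _⟩
        · exact le_normalizer
        · exact le_rfl
        · exact h.ge
      haveI hZD : (Y ⊓ D).Normal := ih D (by have := card_lt_of_lt hDlt; omega) inferInstance (hBp.to_le hDB)
      have hcomm : ⁅B, Y ⊓ B⁆ ≤ Y ⊓ D := by
        apply le_inf
        · rw [commutator_comm]
          exact (commutator_mono inf_le_left hBS).trans (le_normalizer_iff_commutator_le_left.mp hSY)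
        · exact commutator_mono le_rfl inf_le_right
      have hDZ : D ≤ Y := by
        have h1 : D ≤ Y ⊓ D := by
          have h2 : B ≤ stabOn B (Y ⊓ D) := by
            nth_rewrite 1 [← hlt]
            apply normalClosure_le_of
            intro g
            rintro _ ⟨x, hx, rfl⟩
            have hx' : x ∈ stabOn B (Y ⊓ D) := by
              refine ⟨?_, ?_, fun v hv => hcomm (commutator_mem_commutator hv hx)⟩
              · rw [normalizer_eq_top]; trivial
              · rw [normalizer_eq_top]; trivial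
            exact stabOn_normalized (by rw [normalizer_eq_top]; trivial) (by rw [normalizer_eq_top]; trivial) hx'
          exact (le_stabOn_iff.mp h2).2.2
        exact h1.trans inf_le_left
      have hDc : ⁅D, B⁆ = ⊥ := by
        rw [commutator_comm, commutator_eq_bot_iff_le_centralizer, ← hlt]
        apply normalClosure_le_normal
        intro x hx
        rw [SetLike.mem_coe, mem_centralizer_iff]
        intro y hy
        exact hYc y (hDZ hy) x (Subgroup.mem_inf.1 hx).1
      by_cases hall : ∀ A ∈ maxIn Q D₀, B ≤ A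
      · -- Frattini argument
        set C := centralizer (B : Set G) with hC
        haveI hCn : C.Normal := by rw [hC]; infer_instance
        set T := (S : Subgroup G) ⊓ C with hT
        obtain ⟨R, hR⟩ := exists_sylow_inf_normal S C
        have h1 := Sylow.normalizer_sup_eq_top (N := C) R
        have h2 : (R : Subgroup C).map C.subtype = T := by rw [hR, subgroupOf_map_subtype]
        rw [h2] at h1
        have hAT : ∀ A ∈ maxIn Q D₀, A ≤ D₀ ⊓ T := by
          intro A hA
          refine le_inf hA.1 (le_inf (hA.1.trans hD₀.1) ?_)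
          have h3 := isMulCommutative_iff_le_centralizer.mp (hQc A hA.2.1)
          exact h3.trans (centralizer_le (hall A hA))
        have hmT := maxIn_of_le (Q := Q) (inf_le_left : D₀ ⊓ T ≤ D₀) hA₀ (hAT A₀ hA₀)
        have hZT : IQ Q (D₀ ⊓ T) = Z := by
          apply le_antisymm
          · apply le_sInf
            intro A hA
            exact IQ_le_of_mem (by rw [hmT]; exact ⟨hA, hAT A hA⟩)
          · apply le_sInf
            intro E hE
            rw [hmT] at hE
            exact hZA E hE.1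
        have hNT : normalizer (T : Set G) ≤ normalizer ((D₀ ⊓ T : Subgroup G) : Set G) := by
          intro m hm
          have key : ∀ m ∈ normalizer (T : Set G), ∀ x ∈ D₀ ⊓ T, m * x * m⁻¹ ∈ D₀ ⊓ T := by
            intro m hm x hx
            have h1 : m * x * m⁻¹ ∈ T := (mem_normalizer_iff.mp hm x).mp (Subgroup.mem_inf.1 hx).2
            exact Subgroup.mem_inf.2 ⟨hD₀.2 x (Subgroup.mem_inf.1 hx).1 m (Subgroup.mem_inf.1 h1).1, h1⟩
          rw [mem_normalizer_iff]
          intro x
          refine ⟨key m hm x, fun h => ?_⟩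
          have h2 := key m⁻¹ (inv_mem hm) _ h
          have e : m⁻¹ * (m * x * m⁻¹) * m⁻¹⁻¹ = x := by group
          rwa [e] at h2
        have hNTY : normalizer (T : Set G) ≤ normalizer (Y : Set G) := by
          refine (hNT.trans ?_).trans hNZ
          have := normalizer_le_IQ hQ (D₀ ⊓ T)
          rwa [hZT] at this
        constructor
        intro x hx g
        have hg : g ∈ normalizer (T : Set G) ⊔ C := by rw [h1]; trivial
        rw [← SetLike.mem_coe, Subgroup.mul_normal] at hg
        obtain ⟨m, hm, c, hc, rfl⟩ := hg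
        have h4 : x * c = c * x := mem_centralizer_iff.mp hc x (Subgroup.mem_inf.1 hx).2
        have h5 : (m * c) * x * (m * c)⁻¹ = m * x * m⁻¹ := by
          calc (m * c) * x * (m * c)⁻¹ = m * (c * x) * c⁻¹ * m⁻¹ := by group
            _ = m * (x * c) * c⁻¹ * m⁻¹ := by rw [h4]
            _ = m * x * m⁻¹ := by group
        change (m * c) * x * (m * c)⁻¹ ∈ Y ⊓ B
        rw [h5]
        exact Subgroup.mem_inf.2 ⟨(mem_normalizer_iff.mp (hNTY hm) x).mp (Subgroup.mem_inf.1 hx).1,
          hB.conj_mem x (Subgroup.mem_inf.1 hx).2 m⟩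
      push Not at hall
      obtain ⟨U, hU, hBU⟩ := hall
      obtain ⟨A, hA, hDA, hBA, hBNA⟩ := hrep B hB hBD0 hDc ⟨U, hU, (hDZ.trans hYZ).trans (hZA U hU), hBU⟩
      have hAc : IsMulCommutative A := hQc A hA.2.1
      have hquad : ⁅⁅B, A⁆, A⁆ = ⊥ := by
        rw [commutator_eq_bot_iff_le_centralizer]
        have h1 : ⁅B, A⁆ ≤ A := by
          rw [commutator_comm]; exact le_normalizer_iff_commutator_le_left.mp hBNA
        exact h1.trans (isMulCommutative_iff_le_centralizer.mp hAc)
      have hAO : ¬ A ≤ pCore p G := by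
        intro hAO
        have hPn : (D₀ ⊓ pCore p G).Normal := by
          constructor
          intro x hx g
          have h1 : g * x * g⁻¹ ∈ pCore p G :=
            (inferInstance : (pCore p G).Normal).conj_mem x (Subgroup.mem_inf.1 hx).2 g
          exact Subgroup.mem_inf.2 ⟨hD₀.2 x (Subgroup.mem_inf.1 hx).1 g (pCore_le_sylow S h1), h1⟩
        have hAT : A ≤ D₀ ⊓ pCore p G := le_inf hA.1 hAO
        have hmT := maxIn_of_le (Q := Q) (inf_le_left : D₀ ⊓ pCore p G ≤ D₀) hA hAT
        have hATm : A ∈ maxIn Q (D₀ ⊓ pCore p G) := by rw [hmT]; exact ⟨hA, hAT⟩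
        have hZ1 : Z ≤ IQ Q (D₀ ⊓ pCore p G) := by
          apply le_sInf
          intro E hE
          rw [hmT] at hE
          exact hZA E hE.1
        haveI hn : (IQ Q (D₀ ⊓ pCore p G)).Normal := by
          have h1 := normalizer_le_IQ hQ (D₀ ⊓ pCore p G)
          rw [normalizer_eq_top, top_le_iff] at h1
          exact normalizer_eq_top_iff.1 h1
        have hBZ1 : B ≤ IQ Q (D₀ ⊓ pCore p G) := by
          nth_rewrite 1 [← hlt]
          exact normalClosure_le_normal (SetLike.coe_subset_coe.mpr ((inf_le_left.trans hYZ).trans hZ1))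
        exact hBA (hBZ1.trans (IQ_le_of_mem hATm))
      obtain ⟨x, hxA, hxO⟩ := SetLike.not_le_iff_exists.1 hAO
      -- the module
      by_contra hgoal
      let W : AddSubgroup (Additive (Abelianization B)) :=
        { carrier := {m | ∃ b : B, (b : G) ∈ Y ∧ m = Additive.ofMul (Abelianization.of b)}
          zero_mem' := ⟨1, Y.one_mem, by rw [map_one]; rfl⟩
          add_mem' := by
            rintro _ _ ⟨a, ha, rfl⟩ ⟨b, hb, rfl⟩
            exact ⟨a * b, Y.mul_mem ha hb, by rw [map_mul]; rfl⟩
          neg_mem' := by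
            rintro _ ⟨a, ha, rfl⟩
            exact ⟨a⁻¹, Y.inv_mem ha, by rw [map_inv]; rfl⟩ }
      have hqd : Qd (abEnd B) x := by
        intro m
        obtain ⟨b, rfl⟩ := ab_surj B m
        have e1 : abEnd B x (Additive.ofMul (Abelianization.of b)) - Additive.ofMul (Abelianization.of b) =
            Additive.ofMul (Abelianization.of ((⟨x * b * x⁻¹, hB.conj_mem b b.2 x⟩ : B) * b⁻¹)) := by
          rw [abEnd_apply, map_mul, map_inv, sub_eq_add_neg]
          rfl
        rw [e1, abEnd_apply]
        congr 3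
        change x * ((x * b * x⁻¹) * (b : G)⁻¹) * x⁻¹ = (x * b * x⁻¹) * (b : G)⁻¹
        have h1 : ((b : G) * x * (b : G)⁻¹ * x⁻¹) ∈ centralizer (A : Set G) := by
          have h2 := commutator_eq_bot_iff_le_centralizer.1 hquad
          exact h2 (commutator_mem_commutator b.2 hxA)
        have h2 := mem_centralizer_iff.1 ((centralizer (A : Set G)).inv_mem h1) x hxA
        have e2 : ((b : G) * x * (b : G)⁻¹ * x⁻¹)⁻¹ = (x * b * x⁻¹) * (b : G)⁻¹ := by group
        rw [e2] at h2
        rw [h2]; group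
      have hpM : ∃ k : ℕ, ∀ m : Additive (Abelianization B), p ^ k • m = 0 := by
        obtain ⟨k, hk⟩ := (IsPGroup.iff_card.1 hBp)
        refine ⟨k, fun m => ?_⟩
        obtain ⟨b, rfl⟩ := ab_surj B m
        have h1 : b ^ p ^ k = 1 := by rw [← hk]; exact pow_card_eq_one'
        have h2 : p ^ k • (Additive.ofMul (Abelianization.of b) : Additive (Abelianization B)) =
            Additive.ofMul (Abelianization.of (b ^ p ^ k)) := by rw [map_pow]; rfl
        rw [h2, h1, map_one]; rfl
      have hWH : ∀ h ∈ normalizer (Y : Set G), ∀ w ∈ W, abEnd B h w ∈ W := by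
        rintro h hh _ ⟨b, hb, rfl⟩
        rw [abEnd_apply]
        exact ⟨_, (mem_normalizer_iff.1 hh _).1 hb, rfl⟩
      have hnW : ¬ Inv (abEnd B) W := by
        intro hinv
        apply hgoal
        constructor
        intro b hb g
        have hbB := (Subgroup.mem_inf.1 hb).2
        obtain ⟨b', hb', e⟩ := hinv g _ ⟨⟨b, hbB⟩, (Subgroup.mem_inf.1 hb).1, rfl⟩
        rw [abEnd_apply, ab_eq] at e
        refine Subgroup.mem_inf.2 ⟨?_, hB.conj_mem b hbB g⟩
        have h1 := Y.mul_mem (hDZ e) hb'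
        have e2 : (g * b * g⁻¹) * (b' : G)⁻¹ * b' = g * b * g⁻¹ := by group
        have e3 : ((⟨g * b * g⁻¹, hB.conj_mem b hbB g⟩ : B) : G) * (b' : G)⁻¹ * b' = g * b * g⁻¹ := e2
        rw [← e2]
        exact h1
      obtain ⟨h, hh, w, hw, hw0, hw1⟩ := group_mod hp2 (SylIn.ofSylow S) hSY hNY hmax (hD₀.1 (hA.1 hxA))
        (fun P hP hxP hPn => hxO (le_pCore hPn hP hxP)) hqd hpM hWH hnW hts
      obtain ⟨v, hv, rfl⟩ := hw
      apply hcon
      obtain ⟨w', hw', hw'1, hw'2⟩ := theta_mul (Y₁ := Y ⊓ B) (N₁ := D) (h := h) (t := t) (v := (v : G))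
        (fun a ha b hb => hYc a (Subgroup.mem_inf.1 ha).1 b (Subgroup.mem_inf.1 hb).1)
        (fun a ha => Subgroup.mem_inf.2 ⟨(mem_normalizer_iff.1 hh a).1 (Subgroup.mem_inf.1 ha).1,
          hB.conj_mem a (Subgroup.mem_inf.1 ha).2 h⟩)
        (fun a ha => hDn.conj_mem a ha h) (Subgroup.mem_inf.2 ⟨hv, v.2⟩)
        (by
          intro hvD
          apply hw0
          have h1 : (Additive.ofMul (Abelianization.of v) : Additive (Abelianization B)) =
              Additive.ofMul (Abelianization.of (1 : B)) := by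
            rw [ab_eq]
            simpa using hvD
          rw [h1, map_one]; rfl)
        (by
          have h1 : t • (Additive.ofMul (Abelianization.of v) : Additive (Abelianization B)) =
              Additive.ofMul (Abelianization.of (v ^ t)) := by rw [map_zpow]; rfl
          rw [h1, abEnd_apply, ab_eq] at hw1
          rw [zpow_neg]
          exact hw1)
      exact ⟨h, hh, w', (Subgroup.mem_inf.1 hw').1, hw'1, hw'2⟩
  have h1 := key _ (pCore p G) le_rfl inferInstance (pCore_isPGroup p)
  have h2 := le_pCore_of_inf_normal hcen hYc ((pCore_le_sylow S).trans hSY) h1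
  rw [inf_eq_left.2 h2] at h1
  exact hNY (normalizer_eq_top_iff.2 h1)

end CfsgLib.Fail9
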