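import Cfsg.Agent.LibFail9G
import Cfsg.Agent.LibDFus9
/-! The main induction: control of strong fusion by normalizers of subgroups of `ZJ`, or a residual property. Seat helper9. -/
set_option autoImplicit false
set_option maxHeartbeats 400000
set_option linter.unusedSectionVars false
set_option linter.style.haveILetI false

namespace CfsgLib.Fail9

open Cfsg Subgroup CfsgLib.FusionH12 CfsgLib.FusionH12b CfsgLib.FusionH12c CfsgLib.SecH12
open CfsgLib.FusionH12d CfsgLib.FusionH12e CfsgLib.FusionH12f CfsgLib.DZJ9 CfsgLib.DFus9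

universe u

/-- a chain of controlled steps is realized by one element -/
theorem reach_single {G : Type*} [Group G] {S H : Subgroup G} {D : Subgroup G} {g : G}
    (h : Reach (FStep S {H}) D g) : ∃ x ∈ H, ∀ d ∈ D, x * d * x⁻¹ = g * d * g⁻¹ := by
  induction h with
  | refl D => exact ⟨1, H.one_mem, fun d _ => rfl⟩
  | @cons D x y hx _ ih =>
    obtain ⟨y', hy', hyy⟩ := ih
    have h1 : ∃ x' ∈ H, ∀ d ∈ D, x' * d * x'⁻¹ = x * d * x⁻¹ := by
      rcases hx.2.2 with ⟨N, hN, hxN⟩ | hc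
      · rw [Set.mem_singleton_iff] at hN
        exact ⟨x, hN ▸ hxN, fun d _ => rfl⟩
      · refine ⟨1, H.one_mem, fun d hd => ?_⟩
        rw [mem_centralizer_iff'.1 hc d hd]; group
    obtain ⟨x', hx', hxx⟩ := h1
    refine ⟨y' * x', H.mul_mem hy' hx', fun d hd => ?_⟩
    have h2 := hyy (x * d * x⁻¹) (conj_mem_cj hd)
    calc y' * x' * d * (y' * x')⁻¹ = y' * (x' * d * x'⁻¹) * y'⁻¹ := by group
      _ = y' * (x * d * x⁻¹) * y'⁻¹ := by rw [hxx d hd]
      _ = y * (x * d * x⁻¹) * y⁻¹ := h2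
      _ = y * x * d * (y * x)⁻¹ := by group

/-- transportable residual properties -/
structure Tr (p : ℕ) (W : ∀ (Q : Type u) [Group Q], Subgroup Q)
    (𝒞 : ∀ (G : Type u) [Group G], Subgroup G → Prop) : Prop where
  sub : ∀ (G : Type u) [Group G] [Finite G] (S L T Y Y' : Subgroup G), SylIn p S ⊤ → S ≤ normalizer (Y : Set G) →
    Y' ≤ Y → Y' ≤ T → T ≤ S → SylIn p T L → T ≤ normalizer (Y' : Set G) →
    (∀ E : Subgroup G, E ≤ T → ∀ y ∈ normalizer (Y' : Set G), cj y E ≤ T →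
      ∃ h ∈ normalizer (Y : Set G), ∀ e ∈ E, h * e * h⁻¹ = y * e * y⁻¹) →
    𝒞 ↥L (Y'.subgroupOf L) → 𝒞 G Y
  pq : ∀ (G : Type u) [Group G] [Finite G] (S : Sylow p G) (Y K : Subgroup G) [K.Normal], (Nat.card K).Coprime p →
    Y ≤ S → (S : Subgroup G) ≤ normalizer (Y : Set G) → 𝒞 (G ⧸ K) (Y.map (QuotientGroup.mk' K)) → 𝒞 G Y
  quo : ∀ (G : Type u) [Group G] [Finite G] (S : Sylow p G) (Y Q : Subgroup G) [Q.Normal], Q ≤ S → Y ≤ S →
    (S : Subgroup G) ≤ normalizer (Y : Set G) → (∀ x ∈ Y, ∀ y ∈ Y, x * y = y * x) →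
    ∀ Y' : Subgroup (G ⧸ Q), Y' ≤ Y.map (QuotientGroup.mk' Q) →
      (S : Subgroup G).map (QuotientGroup.mk' Q) ≤ normalizer (Y' : Set (G ⧸ Q)) →
      (∀ E : Subgroup G, E ≤ S → ∀ y ∈ (normalizer (Y' : Set (G ⧸ Q))).comap (QuotientGroup.mk' Q), cj y E ≤ S →
        ∃ h ∈ normalizer (Y : Set G), ∀ e ∈ E, h * e * h⁻¹ = y * e * y⁻¹) →
      𝒞 (G ⧸ Q) Y' → 𝒞 G Y
  core : ∀ (G : Type u) [Group G] [Finite G] (S : Sylow p G) (D Y : Subgroup G),
    IsStronglyClosed D (S : Subgroup G) → centralizer (pCore p G : Set G) ≤ pCore p G →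
    Y ≤ inducedFunctor (G := G) W D → (S : Subgroup G) ≤ normalizer (Y : Set G) →
    normalizer (inducedFunctor (G := G) W D : Set G) ≤ normalizer (Y : Set G) → normalizer (Y : Set G) ≠ ⊤ →
    (∀ K : Subgroup G, (S : Subgroup G) ≤ K → K ≠ ⊤ → K ≤ normalizer (Y : Set G)) → 𝒞 G Y

section

variable {p : ℕ} [hp : Fact p.Prime] {W : ∀ (Q : Type u) [Group Q], Subgroup Q}
  {𝒞 : ∀ (G : Type u) [Group G], Subgroup G → Prop}

theorem tr_sub (hW : IsCharPFunctor.{u} p W) {G : Type u} [Group G] [Finite G] {S D : Subgroup G}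
    (hD : IsStronglyClosed D S) {L T Y' : Subgroup G} (hT : SylIn p T L) (hTS : T ≤ S)
    (hY' : Y' ≤ inducedFunctor (G := G) W (D ⊓ T)) (hTY : T ≤ normalizer (Y' : Set G))
    (hN : L ⊓ normalizer (inducedFunctor (G := G) W (D ⊓ T) : Set G) ≤ normalizer (Y' : Set G))
    (ih : ∀ (T' : Sylow p L) (D' Y'' : Subgroup L), IsStronglyClosed D' (T' : Subgroup L) →
      Y'' ≤ inducedFunctor (G := L) W D' → (T' : Subgroup L) ≤ normalizer (Y'' : Set L) →
      normalizer (inducedFunctor (G := L) W D' : Set L) ≤ normalizer (Y'' : Set L) →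
      FusIn (T' : Subgroup L) ⊤ {normalizer (Y'' : Set L)} ∨ 𝒞 L Y'') :
    FusIn T L {L ⊓ normalizer (Y' : Set G)} ∨ 𝒞 L (Y'.subgroupOf L) := by
  obtain ⟨T', hT'⟩ := hT.toSylow
  have hDT : D ⊓ T ≤ L := inf_le_right.trans hT.le
  have h3 := induced_map hW L.subtype ((D ⊓ T).subgroupOf L)
    ((hT.pg.to_le inf_le_right).comap_of_injective _ L.subtype_injective) L.subtype_injective.injOn
  rw [subgroupOf_map_subtype, inf_eq_left.2 hDT] at h3
  have hWT : inducedFunctor (G := G) W (D ⊓ T) ≤ T :=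
    (W_le (induced_isConj hW G) (hT.pg.to_le inf_le_right)).trans inf_le_right
  have hnrm : ∀ (A : Subgroup L) (B : Subgroup G), B = A.map L.subtype → ∀ n : L,
      n ∈ normalizer (A : Set L) ↔ (n : G) ∈ normalizer (B : Set G) := by
    rintro A _ rfl n
    change _ ↔ L.subtype n ∈ normalizer ((A.map L.subtype : Subgroup G) : Set G)
    rw [mem_nrm, mem_nrm, ← map_cj]
    exact ⟨fun h => by rw [h], fun h => map_injective L.subtype_injective h⟩
  have hYL : Y' ≤ L := (hY'.trans hWT).trans hT.le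
  have hYm : Y' = (Y'.subgroupOf L).map L.subtype := by
    rw [subgroupOf_map_subtype, inf_eq_left.2 hYL]
  have h1 := ih T' ((D ⊓ T).subgroupOf L) (Y'.subgroupOf L) (by rw [hT']; exact sc_sub hD hTS hT.le)
    (by
      rw [← map_le_map_iff_of_injective L.subtype_injective, ← h3, ← hYm]
      exact hY')
    (by
      intro n hn
      rw [hT'] at hn
      rw [hnrm _ _ hYm]
      exact hTY hn)
    (by
      intro n hn
      rw [hnrm _ _ h3] at hn
      rw [hnrm _ _ hYm]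
      exact hN ⟨n.2, hn⟩)
  refine h1.imp (fun h1 => ?_) id
  have h2 := FusIn.map L.subtype_injective h1
  rw [hT', subgroupOf_map_subtype, inf_eq_left.2 hT.le, ← MonoidHom.range_eq_map, range_subtype,
    Set.image_singleton] at h2
  refine FusIn.mono h2 ?_
  rintro _ rfl
  refine ⟨_, rfl, ?_⟩
  rintro _ ⟨n, hn, rfl⟩
  exact ⟨n.2, (hnrm _ _ hYm n).1 hn⟩

variable {G : Type u} [Group G] [Finite G]

/-- moving argument -/
theorem move {S H : Subgroup G} (hS : SylIn p S ⊤) {V : Subgroup G} (hVS : V ≤ S) (hV : V ≠ ⊥)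
    (hcl : ∀ U : Subgroup G, U ≤ S → U ≠ ⊥ → SylIn p (S ⊓ normalizer (U : Set G)) (normalizer (U : Set G)) →
      Nat.card ↥(S ⊓ normalizer (V : Set G)) ≤ Nat.card ↥(S ⊓ normalizer (U : Set G)) →
      ∀ (D : Subgroup G) (x : G), D ≤ S ⊓ normalizer (U : Set G) → x ∈ normalizer (U : Set G) →
        cj x D ≤ S ⊓ normalizer (U : Set G) → Reach (FStep S {H}) D x) :
    ∀ (D : Subgroup G) (x : G), D ≤ S ⊓ normalizer (V : Set G) → x ∈ normalizer (V : Set G) →
        cj x D ≤ S ⊓ normalizer (V : Set G) → Reach (FStep S {H}) D x := by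
  set 𝓕 : Set (Subgroup G) := {U | U ∈ {T : Subgroup G | T ≤ S} ∧
    SylIn p (S ⊓ normalizer (U : Set G)) (normalizer (U : Set G))} with h𝓕
  have halp : IsAlpFam p S 𝓕 := IsAlpFam.restrict (allFam hS)
  have h𝓕S : ∀ U ∈ 𝓕, U ≤ S := fun U hU => hU.1
  set N₁ := S ⊓ normalizer (V : Set G) with hN₁
  have hVN : V ≤ N₁ := le_inf hVS le_normalizer
  have hN1 : 1 < Nat.card N₁ := by
    have h1 : N₁ ≠ ⊥ := fun h => hV (le_bot_iff.1 (h ▸ hVN))
    exact (Subgroup.one_lt_card_iff_ne_bot _).2 h1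
  obtain ⟨U₁, a, hU₁, haU, hUS, haN⟩ := exists_move hS.pg halp hVS
  have hU₁ne : U₁ ≠ ⊥ := by rw [← haU]; exact fun h => hV (cj_eq_bot.1 h)
  have haR : Reach (FStep S {H}) N₁ a := by
    refine (alperin' hS.pg h𝓕S halp inf_le_left (haN.trans inf_le_left)).famStep_card.bind ?_
    rintro E z ⟨V', ⟨hV', hVc⟩, hEV, hz⟩
    have hVS' : V' ≤ S ⊓ normalizer (V' : Set G) := le_inf (h𝓕S V' hV') Subgroup.le_normalizer
    have hVc' : Nat.card N₁ ≤ Nat.card ↥(S ⊓ normalizer (V' : Set G)) :=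
      hVc.trans (Subgroup.card_le_of_le hVS')
    refine hcl V' (h𝓕S V' hV') ?_ hV'.2 hVc' E z (hEV.trans hVS') hz ?_
    · rintro rfl
      have hVc1 : Nat.card N₁ ≤ 1 := by rw [← Subgroup.card_bot (G := G)]; exact hVc
      omega
    · refine le_trans ?_ hVS'
      rw [← cj_of_mem_nrm hz]; exact cj_mono hEV
  intro D y hDN hy hyDN
  have h1 : Reach (FStep S {H}) D a := haR.anti FStep.anti hDN
  have h2 : Reach (FStep S {H}) (cj a (cj y D)) a⁻¹ :=
    (haR.anti FStep.anti hyDN).inv FStep.inv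
  have hc2 : Nat.card N₁ ≤ Nat.card ↥(S ⊓ normalizer (U₁ : Set G)) := by
    have := Subgroup.card_le_of_le haN
    rwa [card_cj] at this
  have e : cj (a * y * a⁻¹) (cj a D) = cj a (cj y D) := by
    rw [cj_mul, cj_inv_cj, cj_mul]
  have h3 : Reach (FStep S {H}) (cj a D) (a * y * a⁻¹) := by
    refine hcl U₁ hU₁.1 hU₁ne hUS hc2 _ _ ((cj_mono hDN).trans haN) ?_ ?_
    · rw [← haU, ← cj_normalizer]
      exact conj_mem_cj hy
    · rw [e]; exact (cj_mono hyDN).trans haN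
  have h4 := (h1.trans h3).trans (y := a⁻¹) (by
    rw [cj_mul, e]; exact h2)
  have : a⁻¹ * (a * y * a⁻¹ * a) = y := by group
  rwa [this] at h4

end

end CfsgLib.Fail9
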