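import Cfsg.Agent.LibFail9H
/-! The main induction, continued. Seat helper9. -/
set_option autoImplicit false
set_option maxHeartbeats 400000
set_option linter.unusedSectionVars false
set_option linter.style.haveILetI false

namespace CfsgLib.Fail9

open Cfsg Subgroup CfsgLib.FusionH12 CfsgLib.FusionH12b CfsgLib.FusionH12c CfsgLib.SecH12
open CfsgLib.FusionH12d CfsgLib.FusionH12e CfsgLib.FusionH12f CfsgLib.DZJ9 CfsgLib.DFus9

universe u

section

variable {p : ℕ} [hp : Fact p.Prime] {W : ∀ (Q : Type u) [Group Q], Subgroup Q}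
  {𝒞 : ∀ (G : Type u) [Group G], Subgroup G → Prop}

/-- central elements of order `p` lie in the functor -/
theorem mem_ind (hWz : ∀ (Q : Type u) [Group Q] [Finite Q], IsPGroup p Q → ∀ x ∈ center Q, x ^ p = 1 → x ∈ W Q)
    {G : Type u} [Group G] [Finite G] {P : Subgroup G} (hP : IsPGroup p P) {x : G} (hx : x ∈ P)
    (hc : ∀ y ∈ P, x * y = y * x) (hxp : x ^ p = 1) : x ∈ inducedFunctor (G := G) W P := by
  refine ⟨⟨x, hx⟩, hWz P hP ⟨x, hx⟩ ?_ (Subtype.ext hxp), rfl⟩
  rw [mem_center_iff]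
  intro y
  exact Subtype.ext (hc y y.2).symm

/-- a nontrivial normal subgroup contains central elements of order `p` -/
theorem exists_central {G : Type u} [Group G] [Finite G] {S Y : Subgroup G} (hS : IsPGroup p S) (hYS : Y ≤ S)
    (hSY : S ≤ normalizer (Y : Set G)) (hY : Y ≠ ⊥) : ∃ x ∈ Y, x ≠ 1 ∧ x ^ p = 1 ∧ ∀ y ∈ S, x * y = y * x := by
  haveI : Group.IsNilpotent S := hS.isNilpotent
  have hn : (Y.subgroupOf S).Normal := by
    rw [normal_subgroupOf_iff_le_normalizer hYS]; exact hSY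
  have hne : Y.subgroupOf S ≠ ⊥ := by
    rw [Ne, subgroupOf_eq_bot, disjoint_iff, inf_eq_left.2 hYS]
    exact hY
  have h1 : Y.subgroupOf S ⊓ center S ≠ ⊥ := CfsgLib.SolvNilp.inf_center_ne_bot _ hne
  obtain ⟨z, hz, hz1⟩ := (Subgroup.bot_or_exists_ne_one _).resolve_left h1
  obtain ⟨k, hk⟩ := IsPGroup.iff_orderOf.1 hS z
  have hk0 : k ≠ 0 := by
    rintro rfl
    rw [pow_zero, orderOf_eq_one_iff] at hk
    exact hz1 hk
  have hzc := (Subgroup.mem_inf.1 hz).2
  have h2 : z ^ p ^ (k - 1) ≠ 1 := by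
    intro h
    have h3 := orderOf_dvd_of_pow_eq_one h
    rw [hk, Nat.pow_dvd_pow_iff_le_right hp.out.one_lt] at h3
    omega
  refine ⟨((z ^ p ^ (k - 1) : S) : G), ?_, fun h => h2 (Subtype.ext h), ?_, ?_⟩
  · have := pow_mem (Subgroup.mem_inf.1 hz).1 (p ^ (k - 1))
    exact this
  · have : (z ^ p ^ (k - 1)) ^ p = 1 := by
      rw [← pow_mul, ← pow_succ, Nat.sub_add_cancel (Nat.pos_of_ne_zero hk0), ← hk, pow_orderOf_eq_one]
    exact congrArg Subtype.val this
  · intro y hy
    have := mem_center_iff.1 (pow_mem hzc (p ^ (k - 1))) ⟨y, hy⟩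
    exact (congrArg Subtype.val this).symm

theorem main_tr (hW : IsCharPFunctor.{u} p W)
    (hWz : ∀ (Q : Type u) [Group Q] [Finite Q], IsPGroup p Q → ∀ x ∈ center Q, x ^ p = 1 → x ∈ W Q)
    (hWc : ∀ (Q : Type u) [Group Q] [Finite Q], ∀ x ∈ W Q, ∀ y ∈ W Q, x * y = y * x)
    (h𝒞 : Tr p W 𝒞) :
    ∀ (n : ℕ) (G : Type u) [Group G] [Finite G], Nat.card G ≤ n →
    ∀ (S : Sylow p G) (D Y : Subgroup G), IsStronglyClosed D (S : Subgroup G) → Y ≤ inducedFunctor (G := G) W D →
      (S : Subgroup G) ≤ normalizer (Y : Set G) →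
      normalizer (inducedFunctor (G := G) W D : Set G) ≤ normalizer (Y : Set G) →
      FusIn (S : Subgroup G) ⊤ {normalizer (Y : Set G)} ∨ 𝒞 G Y := by
  intro n
  induction n with
  | zero =>
    intro G _ _ hn
    have : 0 < Nat.card G := Nat.card_pos
    omega
  | succ n ih =>
  intro G _ _ hn S D Y hD hYW hSY hNY
  by_contra hcon
  push Not at hcon
  obtain ⟨hnF, hnC⟩ := hcon
  set H := normalizer (Y : Set G) with hH
  have hHtop : H ≠ ⊤ := fun h => hnF (fusIn_top h.ge)
  have hYbot : Y ≠ ⊥ := by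
    rintro rfl
    apply hHtop
    rw [hH, normalizer_eq_top]
  have hWconj := induced_isConj hW G
  have hS := SylIn.ofSylow S
  have hSD := sc_le_normalizer hD
  have hDp : IsPGroup p D := S.2.to_le hD.1
  have hWD : inducedFunctor (G := G) W D ≤ D := W_le hWconj hDp
  have hYD : Y ≤ D := hYW.trans hWD
  have hYS : Y ≤ S := hYD.trans hD.1
  have hD1 : D ≠ ⊥ := fun h => hYbot (le_bot_iff.1 (h ▸ hYD))
  have hYc : ∀ x ∈ Y, ∀ y ∈ Y, x * y = y * x := by
    intro x hx y hy
    obtain ⟨a, ha, rfl⟩ := hYW hx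
    obtain ⟨b, hb, rfl⟩ := hYW hy
    rw [← map_mul, hWc _ a ha b hb, map_mul]
  have hsub' : ∀ K : Subgroup G, K ≠ ⊤ → (S : Subgroup G) ≤ K → FusIn (S : Subgroup G) K {H} := by
    intro K hK hSK
    have hc := card_lt_of_ne_top hK
    have h0 := tr_sub (𝒞 := 𝒞) hW hD (L := K) (T := S) (Y' := Y) (hS.mono hSK le_top) le_rfl
      (by rwa [inf_eq_left.2 hD.1]) hSY (by rw [inf_eq_left.2 hD.1]; exact inf_le_right.trans hNY)
      (ih ↥K (by omega))
    rcases h0 with h1 | h1
    · exact FusIn.mono h1 (by rintro _ rfl; exact ⟨_, rfl, inf_le_right⟩)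
    · exact absurd (h𝒞.sub G S K S Y Y hS hSY le_rfl hYS le_rfl (hS.mono hSK le_top) hSY
        (fun E _ y hy _ => ⟨y, hy, fun _ _ => rfl⟩) h1) hnC
  by_cases hK : pPrimeCore p G = ⊥
  swap
  · -- quotient by the `p'`-core
    have h1 : Nat.card (G ⧸ pPrimeCore p G) ≤ n := by
      have := card_quot_lt hK
      omega
    have hcop := CfsgLib.Cores.pPrimeCore_coprime (G := G) p
    set π := QuotientGroup.mk' (pPrimeCore p G) with hπ
    have hπs : Function.Surjective π := QuotientGroup.mk'_surjective _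
    have e1 := induced_map hW π D hDp
      ((injOn_mk (inf_eq_bot_of_pprime S.2 hcop)).mono hD.1)
    have h2 := ih (G ⧸ pPrimeCore p G) h1
      (S.mapSurjective hπs) (D.map π) (Y.map π) (sc_map S hD _) (by rw [e1]; exact map_mono hYW)
      (by
        rintro _ ⟨s, hs, rfl⟩
        rw [mem_nrm, ← map_cj, cj_of_mem_nrm (hSY hs)])
      (by
        intro x' hx'
        obtain ⟨x, rfl⟩ := hπs x'
        rw [e1] at hx'
        obtain ⟨y, hy, hyx⟩ := exists_lift_normalizer (S.2.to_le (hWD.trans hD.1)) hcop x hx'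
        rw [show π x = π y from hyx.symm, mem_nrm, ← map_cj, cj_of_mem_nrm (hNY hy)])
    rcases h2 with h2 | h2
    · exact hnF (fusIn_of_pprime S hYS hSY _ hcop h2)
    · exact hnC (h𝒞.pq G S Y _ hcop hYS hSY h2)
  by_cases hQ : pCore p G = ⊥
  · -- local-to-global
    have hcl : ∀ (m : ℕ) (U : Subgroup G), U ≤ S → U ≠ ⊥ →
        SylIn p ((S : Subgroup G) ⊓ normalizer (U : Set G)) (normalizer (U : Set G)) →
        Nat.card S - Nat.card ↥((S : Subgroup G) ⊓ normalizer (U : Set G)) ≤ m →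
        ∀ (E : Subgroup G) (x : G), E ≤ (S : Subgroup G) ⊓ normalizer (U : Set G) → x ∈ normalizer (U : Set G) →
          cj x E ≤ (S : Subgroup G) ⊓ normalizer (U : Set G) → Reach (FStep (S : Subgroup G) {H}) E x := by
      intro m
      induction m using Nat.strong_induction_on with
      | _ m ihm =>
      intro U hU hU1 hsyl hm E x hE hx hxE
      have hNU : normalizer (U : Set G) ≠ ⊤ := nrm_ne_top_of_pgroup (S.2.to_le hU) (by
        rw [hQ]
        exact fun h => hU1 (le_bot_iff.1 h))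
      by_cases hTS : (S : Subgroup G) ⊓ normalizer (U : Set G) = S
      · exact hsub' _ hNU (inf_eq_left.1 hTS) E x (hE.trans inf_le_left) hx (hxE.trans inf_le_left)
      set T := (S : Subgroup G) ⊓ normalizer (U : Set G) with hT
      have hTlt : T < S := lt_of_le_of_ne inf_le_left hTS
      have hDT : D ⊓ T ≠ ⊥ := inf_nrm_ne_bot S.2 hD.1 hSD hD1 hU
      have hDTp : IsPGroup p ↥(D ⊓ T) := hDp.to_le inf_le_left
      set ZT := inducedFunctor (G := G) W (D ⊓ T) with hZTdef
      have hZT : ZT ≤ D ⊓ T := W_le hWconj hDTp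
      have hZ1 : ZT ≠ ⊥ := W_ne hWconj hDTp hDT
      have hZS : ZT ≤ S := (hZT.trans inf_le_right).trans hTlt.le
      have hNT : (S : Subgroup G) ⊓ normalizer (T : Set G) ≤ normalizer ((D ⊓ T : Subgroup G) : Set G) := by
        intro y hy
        obtain ⟨hy1, hy2⟩ := Subgroup.mem_inf.1 hy
        rw [mem_nrm, cj_inf, cj_of_mem_nrm (hSD hy1), cj_of_mem_nrm hy2]
      have hgrow : T < (S : Subgroup G) ⊓ normalizer (ZT : Set G) :=
        lt_of_lt_of_le (lt_nrm_inf S.2 hTlt) (le_inf inf_le_left (hNT.trans (nrm_le_nrm_W hWconj hDTp)))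
      have hTc : Nat.card T ≤ Nat.card S := Subgroup.card_le_of_le inf_le_left
      have hmove : ∀ V : Subgroup G, V ≤ S → V ≠ ⊥ →
          Nat.card T < Nat.card ↥((S : Subgroup G) ⊓ normalizer (V : Set G)) →
          ∀ (E : Subgroup G) (x : G), E ≤ (S : Subgroup G) ⊓ normalizer (V : Set G) → x ∈ normalizer (V : Set G) →
          cj x E ≤ (S : Subgroup G) ⊓ normalizer (V : Set G) → Reach (FStep (S : Subgroup G) {H}) E x := by
        intro V hV hV1 hVc
        refine move hS hV hV1 (fun U' hU' hU'1 hs hc => ?_)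
        have hc2 : Nat.card ↥((S : Subgroup G) ⊓ normalizer (V : Set G)) ≤ Nat.card S := Subgroup.card_le_of_le inf_le_left
        exact ihm (Nat.card S - Nat.card ↥((S : Subgroup G) ⊓ normalizer (U' : Set G))) (by omega) U' hU' hU'1 hs le_rfl
      have hYT1 : ZT ⊓ Y ≠ ⊥ := by
        obtain ⟨z, hzY, hz1, hzp, hzc⟩ := exists_central S.2 hYS hSY hYbot
        have hzT : z ∈ T := by
          refine Subgroup.mem_inf.2 ⟨hYS hzY, ?_⟩
          rw [mem_nrm]
          apply cj_of_mem_centralizer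
          rw [mem_centralizer_iff]
          intro w hw
          exact (hzc w (hU hw)).symm
        have hzZ : z ∈ ZT := mem_ind hWz hDTp (Subgroup.mem_inf.2 ⟨hYD hzY, hzT⟩)
          (fun y hy => hzc y (hTlt.le (Subgroup.mem_inf.1 hy).2)) hzp
        intro h
        have h1 : z ∈ ZT ⊓ Y := Subgroup.mem_inf.2 ⟨hzZ, hzY⟩
        rw [h, mem_bot] at h1
        exact hz1 h1
      have hNZ : normalizer (ZT : Set G) ≤ normalizer ((ZT ⊓ Y : Subgroup G) : Set G) := by
        intro y hy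
        have h1 := hmove ZT hZS hZ1 (card_lt_of_lt hgrow) ZT y (le_inf hZS le_normalizer) hy
          (by rw [cj_of_mem_nrm hy]; exact le_inf hZS le_normalizer)
        obtain ⟨h, hh, hhy⟩ := reach_single h1
        rw [mem_nrm]
        refine Subgroup.eq_of_le_of_card_ge ?_ (by rw [card_cj])
        rw [cj_le']
        intro w hw
        obtain ⟨hw1, hw2⟩ := Subgroup.mem_inf.1 hw
        refine Subgroup.mem_inf.2 ⟨(mem_normalizer_iff.1 hy w).1 hw1, ?_⟩
        rw [← hhy w hw1]
        exact (mem_normalizer_iff.1 hh w).1 hw2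
      have hTY : T ≤ normalizer ((ZT ⊓ Y : Subgroup G) : Set G) := (hgrow.le.trans inf_le_right).trans hNZ
      have hTT : T ≤ (S : Subgroup G) ⊓ normalizer ((ZT ⊓ Y : Subgroup G) : Set G) := le_inf inf_le_left hTY
      have hctl := hmove (ZT ⊓ Y) (inf_le_left.trans hZS) hYT1
        (card_lt_of_lt (lt_of_lt_of_le hgrow (inf_le_inf le_rfl hNZ)))
      have h5 := tr_sub (𝒞 := 𝒞) hW hD (L := normalizer (U : Set G)) (T := T) (Y' := ZT ⊓ Y) hsyl inf_le_left
        inf_le_left hTY (inf_le_right.trans hNZ)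
        (ih ↥(normalizer (U : Set G)) (by have := card_lt_of_ne_top hNU; omega))
      rcases h5 with h5 | h5
      · refine (h5 E x hE hx hxE).bind ?_
        rintro E y ⟨hE, hyE, ⟨N, hN, hy⟩ | hy⟩
        · rw [Set.mem_singleton_iff] at hN
          subst hN
          exact hctl E y (hE.trans hTT) (Subgroup.mem_inf.1 hy).2 (hyE.trans hTT)
        · exact Reach.single ⟨hE.trans inf_le_left, hyE.trans inf_le_left, Or.inr hy⟩
      · exfalso
        apply hnC
        refine h𝒞.sub G S (normalizer (U : Set G)) T Y (ZT ⊓ Y) hS hSY inf_le_right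
          ((inf_le_left.trans hZT).trans inf_le_right) inf_le_left hsyl hTY ?_ h5
        intro E hE y hy hyE
        exact reach_single (hctl E y (hE.trans hTT) hy (hyE.trans hTT))
    apply hnF
    intro E g hE _ hgE
    by_cases hE1 : E = ⊥
    · subst hE1
      refine Reach.single ⟨hE, hgE, Or.inr ?_⟩
      rw [mem_centralizer_iff']
      intro d hd
      rw [Subgroup.mem_bot.1 hd]; simp
    refine (alperin' hS.pg (fun U hU => hU.1) (IsAlpFam.restrict (allFam hS)) hE hgE).famStep_card.bind ?_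
    rintro E' z ⟨V, ⟨hV, hVc⟩, hEV, hz⟩
    have hVS : V ≤ (S : Subgroup G) ⊓ normalizer (V : Set G) := le_inf hV.1 Subgroup.le_normalizer
    refine hcl _ V hV.1 ?_ hV.2 le_rfl E' z (hEV.trans hVS) hz ?_
    · rintro rfl
      rw [Subgroup.card_bot] at hVc
      exact hE1 (Subgroup.card_le_one_iff_eq_bot E |>.1 hVc)
    · refine le_trans ?_ hVS
      rw [← cj_of_mem_nrm hz]; exact cj_mono hEV
  have hQS : pCore p G ≤ (S : Subgroup G) := CfsgLib.Cores.pCore_le_sylow S
  by_cases hC : centralizer ((pCore p G : Subgroup G) : Set G) ≤ pCore p G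
  · apply hnC
    refine h𝒞.core G S D Y hD hC hYW hSY hNY hHtop ?_
    intro K hSK hK k hk
    have hkQ : cj k (pCore p G) = pCore p G := cj_of_normal k _
    obtain ⟨h, hh, hhk⟩ := reach_single (hsub' K hK hSK (pCore p G) k hQS hk (by rw [hkQ]; exact hQS))
    have h1 : h⁻¹ * k ∈ centralizer ((pCore p G : Subgroup G) : Set G) := by
      rw [mem_centralizer_iff']
      intro d hd
      have h2 := hhk d hd
      calc h⁻¹ * k * d * (h⁻¹ * k)⁻¹ = h⁻¹ * (k * d * k⁻¹) * h := by group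
        _ = h⁻¹ * (h * d * h⁻¹) * h := by rw [h2]
        _ = d := by group
    have h2 : k = h * (h⁻¹ * k) := by group
    rw [h2]
    exact H.mul_mem hh (hSY (hQS (hC h1)))
  set Q := pCore p G with hQdef
  have hQn : Q.Normal := by rw [hQdef]; infer_instance
  set C := centralizer (Q : Set G) with hCdef
  have hCn : C.Normal := by rw [hCdef]; infer_instance
  set T := (S : Subgroup G) ⊓ (Q ⊔ C) with hT
  have hTQ : ¬ T ≤ Q := by
    intro h
    apply hC
    refine centralizer_pCore_le S hK (le_trans ?_ h)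
    exact inf_le_inf le_rfl le_sup_right
  have hNT : normalizer (T : Set G) ≠ ⊤ :=
    nrm_ne_top_of_pgroup (S.2.to_le inf_le_left) hTQ
  have hSN : (S : Subgroup G) ≤ normalizer (T : Set G) := by
    intro x hx
    rw [mem_nrm, hT, cj_inf, cj_of_mem hx, cj_of_normal x (Q ⊔ C)]
  by_cases hSC : (S : Subgroup G) ⊔ C = ⊤
  swap
  · apply hnF
    refine FusIn.bind (fusIn_pair (C := C) hS hSN (frattini_T S hQS)) ?_
    rintro M (rfl | rfl)
    · exact hsub' _ hNT hSN
    · exact hsub' _ hSC le_sup_left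
  have hYQ : ¬ Y ≤ Q := by
    intro h
    apply hHtop
    rw [eq_top_iff, ← hSC]
    refine sup_le hSY ?_
    intro c hc
    rw [hH, mem_nrm]
    apply cj_of_mem_centralizer
    exact centralizer_le h hc
  set π := QuotientGroup.mk' Q with hπ
  have hπs : Function.Surjective π := QuotientGroup.mk'_surjective Q
  have hker : π.ker = Q := QuotientGroup.ker_mk' Q
  have hcard : Nat.card (G ⧸ Q) ≤ n := by
    have := card_quot_lt hQ
    omega
  have hOp : pCore p (G ⧸ Q) = ⊥ := CfsgLib.Cores.pCore_quotient_pCore p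
  have hWconj' := induced_isConj hW (G ⧸ Q)
  have hDp' : IsPGroup p ↥(D.map π) := hDp.map _
  have hsc := sc_map S hD Q
  set SS := S.mapSurjective hπs with hSS
  have hSS' : (SS : Subgroup (G ⧸ Q)) = (S : Subgroup G).map π := rfl
  set W' := inducedFunctor (G := G ⧸ Q) W (D.map π) with hW'
  have hWD' : W' ≤ D.map π := W_le hWconj' hDp'
  have hW'S : W' ≤ (S : Subgroup G).map π := hWD'.trans (map_mono hD.1)
  have hYb : Y.map π ≠ ⊥ := by
    rw [Ne, Subgroup.map_eq_bot_iff, hker]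
    exact hYQ
  have hDb : D.map π ≠ ⊥ := fun h => hYb (le_bot_iff.1 (h ▸ map_mono hYD))
  have hW'1 : W' ≠ ⊥ := W_ne hWconj' hDp' hDb
  have hSYb : (S : Subgroup G).map π ≤ normalizer ((Y.map π : Subgroup (G ⧸ Q)) : Set (G ⧸ Q)) := by
    rintro _ ⟨s, hs, rfl⟩
    rw [mem_nrm, ← map_cj, cj_of_mem_nrm (hSY hs)]
  have hcomapS : ∀ A : Subgroup (G ⧸ Q), A ≤ (S : Subgroup G).map π → A.comap π ≤ S := by
    intro A hA
    refine (comap_mono hA).trans ?_
    rw [comap_map_eq, hker, sup_eq_left.2 hQS]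
  set Y₂ := W' ⊓ Y.map π with hY₂
  have hY₂1 : Y₂ ≠ ⊥ := by
    obtain ⟨z, hzY, hz1, hzp, hzc⟩ := exists_central (S.2.map π) (map_mono hYS) hSYb hYb
    have hzZ : z ∈ W' := mem_ind hWz hDp' (map_mono hYD hzY) (fun y hy => hzc y (map_mono hD.1 hy)) hzp
    intro h
    have h1 : z ∈ W' ⊓ Y.map π := Subgroup.mem_inf.2 ⟨hzZ, hzY⟩
    rw [← hY₂, h, mem_bot] at h1
    exact hz1 h1
  have hprop : ∀ A : Subgroup (G ⧸ Q), A ≠ ⊥ → A ≤ (S : Subgroup G).map π →
      (S : Subgroup G).map π ≤ normalizer (A : Set (G ⧸ Q)) →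
      FusIn (S : Subgroup G) ((normalizer (A : Set (G ⧸ Q))).comap π) {H} := by
    intro A hA hAS hSA
    refine hsub' _ ?_ ?_
    · intro h3
      rw [← Subgroup.comap_top π] at h3
      have h4 := Subgroup.comap_injective hπs h3
      refine nrm_ne_top_of_pgroup (p := p) ((S.2.map π).to_le hAS) ?_ h4
      intro h5
      rw [hOp, le_bot_iff] at h5
      exact hA h5
    · rw [← Subgroup.map_le_iff_le_comap]
      exact hSA
  have hSW' : (S : Subgroup G).map π ≤ normalizer (W' : Set (G ⧸ Q)) :=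
    (sc_le_normalizer hsc).trans (nrm_le_nrm_W hWconj' hDp')
  have hNW' : normalizer (W' : Set (G ⧸ Q)) ≤ normalizer (Y₂ : Set (G ⧸ Q)) := by
    intro x' hx'
    obtain ⟨x, rfl⟩ := hπs x'
    have hES : W'.comap π ≤ S := hcomapS W' hW'S
    have hcj : cj x (W'.comap π) = W'.comap π := by
      apply le_antisymm
      · rw [cj_le']
        intro d hd
        change π (x * d * x⁻¹) ∈ W'
        rw [map_mul, map_mul, map_inv]
        exact (mem_normalizer_iff.1 hx' (π d)).1 hd
      · intro d hd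
        rw [mem_cj]
        change π (x⁻¹ * d * x) ∈ W'
        rw [map_mul, map_mul, map_inv, mem_normalizer_iff.1 hx']
        have e : π x * ((π x)⁻¹ * π d * π x) * (π x)⁻¹ = π d := by group
        rw [e]; exact hd
    obtain ⟨h, hh, hhx⟩ := reach_single (hprop W' hW'1 hW'S hSW' (W'.comap π) x hES hx' (by rw [hcj]; exact hES))
    rw [mem_nrm]
    refine Subgroup.eq_of_le_of_card_ge ?_ (by rw [card_cj])
    rw [cj_le']
    intro w hw
    obtain ⟨hw1, y, hy, hyw⟩ := Subgroup.mem_inf.1 hw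
    refine Subgroup.mem_inf.2 ⟨(mem_normalizer_iff.1 hx' w).1 hw1, ?_⟩
    have h1 := hhx y (by change π y ∈ W'; rw [hyw]; exact hw1)
    rw [← hyw, ← map_inv, ← map_mul, ← map_mul, ← h1]
    exact ⟨_, (mem_normalizer_iff.1 hh y).1 hy, rfl⟩
  have hSY₂ : (S : Subgroup G).map π ≤ normalizer (Y₂ : Set (G ⧸ Q)) := hSW'.trans hNW'
  have hY₂S : Y₂ ≤ (S : Subgroup G).map π := inf_le_left.trans hW'S
  have hctl := hprop Y₂ hY₂1 hY₂S hSY₂
  rcases ih (G ⧸ Q) hcard SS (D.map π) Y₂ hsc inf_le_left hSY₂ hNW' with h1 | h1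
  · apply hnF
    have h2 := fusIn_of_quot hS hQS hSC h1
    refine FusIn.bind h2 ?_
    intro M hM
    rcases hM with rfl | ⟨N, hN, rfl⟩
    · exact fusIn_top hSY
    · rw [Set.mem_singleton_iff] at hN
      subst hN
      exact hctl
  · apply hnC
    refine h𝒞.quo G S Y Q hQS hYS hSY hYc Y₂ inf_le_right hSY₂ ?_ h1
    intro E hE y hy hyE
    exact reach_single (hctl E y hE hy hyE)

end

end CfsgLib.Fail9
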