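import Cfsg.Agent.LibFail9I
/-! The residual conclusion on eigenvectors. Seat helper9. -/
set_option autoImplicit false
set_option maxHeartbeats 400000
set_option linter.unusedSectionVars false
set_option linter.style.haveILetI false

namespace CfsgLib.Fail9

open Cfsg Subgroup CfsgLib.FusionH12 CfsgLib.FusionH12b CfsgLib.FusionH12c CfsgLib.SecH12
open CfsgLib.FusionH12d CfsgLib.FusionH12e CfsgLib.FusionH12f CfsgLib.DZJ9 CfsgLib.DFus9 CfsgLib.Qd9
open CfsgLib.H2Thomp CfsgLib.H2ZJ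

universe u

section functors

variable {p : ℕ} [hp : Fact p.Prime]

theorem ZJ_z (Q : Type u) [Group Q] [Finite Q] : ∀ x ∈ center Q, x ∈ ZJ Q := by
  intro x hx
  change x ∈ centerThompsonAOf (⊤ : Subgroup Q)
  rw [centerThompsonAOf_eq, IQ, mem_sInf]
  intro A hA
  have h2 : zpowers x ≤ A := by
    apply le_of_comm_maxIn hA (comm_zpowers _) le_top
    rw [zpowers_le, mem_centralizer_iff]
    intro y _
    exact mem_center_iff.1 hx y
  exact h2 (mem_zpowers _)

theorem ZE_z (p : ℕ) (Q : Type u) [Group Q] [Finite Q] : ∀ x ∈ center Q, x ^ p = 1 → x ∈ ZE p Q := by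
  intro x hx hxp
  change x ∈ omegaOne p (centerThompsonOf p (⊤ : Subgroup Q))
  rw [omegaCT_eq, IQ, mem_sInf]
  intro A hA
  have h2 : zpowers x ≤ A := by
    apply le_of_elab_maxIn hA (elab_zpowers hxp) le_top
    rw [zpowers_le, mem_centralizer_iff]
    intro y _
    exact mem_center_iff.1 hx y
  exact h2 (mem_zpowers _)

theorem ZJ_c (Q : Type u) [Group Q] [Finite Q] : ∀ x ∈ ZJ Q, ∀ y ∈ ZJ Q, x * y = y * x := by
  intro x hx y hy
  change x ∈ centerThompsonAOf (⊤ : Subgroup Q) at hx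
  change y ∈ centerThompsonAOf (⊤ : Subgroup Q) at hy
  rw [centerThompsonAOf_eq] at hx hy
  obtain ⟨A₀, hA₀⟩ := exists_maxIn (Q := fun A : Subgroup Q => IsMulCommutative A) (P := (⊤ : Subgroup Q)) bot_le comm_bot
  exact CfsgLib.H2Quad.comm_of_mulComm hA₀.2.1 x (IQ_le_of_mem hA₀ hx) y (IQ_le_of_mem hA₀ hy)

theorem ZE_c (p : ℕ) (Q : Type u) [Group Q] [Finite Q] : ∀ x ∈ ZE p Q, ∀ y ∈ ZE p Q, x * y = y * x := by
  intro x hx y hy
  change x ∈ omegaOne p (centerThompsonOf p (⊤ : Subgroup Q)) at hx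
  change y ∈ omegaOne p (centerThompsonOf p (⊤ : Subgroup Q)) at hy
  rw [omegaCT_eq] at hx hy
  obtain ⟨A₀, hA₀⟩ := exists_maxIn (Q := IsElementaryAbelian p) (P := (⊤ : Subgroup Q)) bot_le (elab_bot p)
  exact CfsgLib.H2Quad.comm_of_mulComm hA₀.2.1.1 x (IQ_le_of_mem hA₀ hx) y (IQ_le_of_mem hA₀ hy)

end functors

/-- the residual conclusion: an eigenvector -/
def Concl (t : ℤ) (G : Type u) [Group G] (Y : Subgroup G) : Prop :=
  ∃ h ∈ normalizer (Y : Set G), ∃ w ∈ Y, w ≠ 1 ∧ h * w * h⁻¹ = w ^ t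

theorem cj_eq_of_agree {G : Type*} [Group G] [Finite G] {g h : G} {E : Subgroup G} (h1 : cj g E = E)
    (h2 : ∀ e ∈ E, h * e * h⁻¹ = g * e * g⁻¹) : ∀ e ∈ E, h * e * h⁻¹ ∈ E := by
  intro e he
  rw [h2 e he]
  rw [← h1]
  exact conj_mem_cj he

theorem concl_tr {p : ℕ} [hp : Fact p.Prime] {W : ∀ (Q : Type u) [Group Q], Subgroup Q} {t : ℤ}
    (hcore : ∀ (G : Type u) [Group G] [Finite G] (S : Sylow p G) (D Y : Subgroup G),
    IsStronglyClosed D (S : Subgroup G) → centralizer (pCore p G : Set G) ≤ pCore p G →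
    Y ≤ inducedFunctor (G := G) W D → (S : Subgroup G) ≤ normalizer (Y : Set G) →
    normalizer (inducedFunctor (G := G) W D : Set G) ≤ normalizer (Y : Set G) → normalizer (Y : Set G) ≠ ⊤ →
    (∀ K : Subgroup G, (S : Subgroup G) ≤ K → K ≠ ⊤ → K ≤ normalizer (Y : Set G)) → Concl t G Y) :
    Tr p W (fun G _ Y => Concl t G Y) where
  core := hcore
  sub := by
    intro G _ _ S L T Y Y' hS hSY hY'Y hY'T hTS hTL hTY' hctl ⟨h, hh, w, hw, hw1, hhw⟩
    have hYL : Y' ≤ L := hY'T.trans hTL.le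
    have hh' : (h : G) ∈ normalizer (Y' : Set G) := by
      rw [mem_nrm] at hh ⊢
      have h1 := congrArg (Subgroup.map L.subtype) hh
      rw [map_cj, subgroupOf_map_subtype, inf_eq_left.2 hYL] at h1
      exact h1
    obtain ⟨h', hh'', hag⟩ := hctl Y' hY'T h hh' (by rw [cj_of_mem_nrm hh']; exact hY'T)
    have hw' : (w : G) ∈ Y' := hw
    refine ⟨h', hh'', w, hY'Y hw', fun h0 => hw1 (Subtype.ext h0), ?_⟩
    rw [hag w hw']
    have := congrArg Subtype.val hhw
    simpa using this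
  pq := by
    intro G _ _ S Y K _ hcop hYS hSY ⟨h, hh, w, hw, hw1, hhw⟩
    set π := QuotientGroup.mk' K with hπ
    obtain ⟨x, rfl⟩ := QuotientGroup.mk'_surjective K h
    obtain ⟨y, hy, rfl⟩ := hw
    obtain ⟨x', hx', hxx⟩ := exists_lift_normalizer (S.2.to_le hYS) hcop x hh
    refine ⟨x', hx', y, hy, ?_, ?_⟩
    · rintro rfl
      exact hw1 (map_one _)
    · have h1 : π (x' * y * x'⁻¹) = π (y ^ t) := by
        rw [map_mul, map_mul, map_inv, map_zpow, show π x' = π x from hxx]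
        exact hhw
      refine injOn_mk (inf_eq_bot_of_pprime S.2 hcop) ?_ ?_ h1
      · exact hYS ((mem_normalizer_iff.1 hx' y).1 hy)
      · exact hYS (Y.zpow_mem hy t)
  quo := by
    intro G _ _ S Y Q _ hQS hYS hSY hYc Y' hY' hSY' hctl ⟨h, hh, w, hw, hw1, hhw⟩
    set π := QuotientGroup.mk' Q with hπ
    obtain ⟨x, rfl⟩ := QuotientGroup.mk'_surjective Q h
    have hE : Y'.comap π ≤ S := by
      refine (comap_mono (hY'.trans (map_mono hYS))).trans ?_
      rw [comap_map_eq, QuotientGroup.ker_mk', sup_eq_left.2 hQS]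
    have hcj : cj x (Y'.comap π) = Y'.comap π := by
      apply le_antisymm
      · rw [cj_le']
        intro d hd
        change π (x * d * x⁻¹) ∈ Y'
        rw [map_mul, map_mul, map_inv]
        exact (mem_normalizer_iff.1 hh (π d)).1 hd
      · intro d hd
        rw [mem_cj]
        change π (x⁻¹ * d * x) ∈ Y'
        rw [map_mul, map_mul, map_inv, mem_normalizer_iff.1 hh]
        have e : π x * ((π x)⁻¹ * π d * π x) * (π x)⁻¹ = π d := by group
        rw [e]; exact hd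
    obtain ⟨h', hh', hag⟩ := hctl (Y'.comap π) hE x hh (by rw [hcj]; exact hE)
    obtain ⟨y, hy, hyw⟩ := hY' hw
    have hyE : y ∈ Y'.comap π := by change π y ∈ Y'; rw [hyw]; exact hw
    have hEE := cj_eq_of_agree hcj hag
    obtain ⟨w', hw', hw'1, hw'2⟩ := theta_mul (Y₁ := Y ⊓ Y'.comap π) (N₁ := Q) (h := h') (t := t) (v := y)
      (fun a ha b hb => hYc a (Subgroup.mem_inf.1 ha).1 b (Subgroup.mem_inf.1 hb).1)
      (fun a ha => Subgroup.mem_inf.2 ⟨(mem_normalizer_iff.1 hh' a).1 (Subgroup.mem_inf.1 ha).1,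
        hEE a (Subgroup.mem_inf.1 ha).2⟩)
      (fun a ha => (inferInstance : Q.Normal).conj_mem a ha h') (Subgroup.mem_inf.2 ⟨hy, hyE⟩)
      (by
        intro h0
        apply hw1
        rw [← hyw]
        exact (QuotientGroup.eq_one_iff y).2 h0)
      (by
        rw [← QuotientGroup.eq_one_iff]
        change π (h' * y * h'⁻¹ * y ^ (-t)) = 1
        rw [hag y hyE, map_mul, map_mul, map_mul, map_inv, map_zpow, hyw, hhw, zpow_neg, mul_inv_cancel])
    exact ⟨h', hh', w', (Subgroup.mem_inf.1 hw').1, hw'1, hw'2⟩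

variable {p : ℕ} [hp : Fact p.Prime]

theorem concl_ZJ (hp2 : p ≠ 2) {t s : ℤ} (hts : ((t * s : ℤ) : ZMod p) = 1) :
    Tr.{u} p ZJ (fun G _ Y => Concl t G Y) := by
  apply concl_tr
  intro G _ _ S D Y hD hcen hYW hSY hNY hY hmax
  rw [induced_ZJ, centerThompsonAOf_eq] at hYW hNY
  exact core hp2 (Q := fun A => IsMulCommutative A) S hD hcen (fun A hA => hA) (fun g A => comm_aut _ A) comm_bot
    (fun B hB hBS hBc hU => rep_comm hp2 (S.isPGroup'.to_le hD.1) B hBS (by rw [normalizer_eq_top]; exact le_top) hBc hU)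
    hYW hSY hNY hY hmax hts

theorem concl_ZE (hp2 : p ≠ 2) {t s : ℤ} (hts : ((t * s : ℤ) : ZMod p) = 1) :
    Tr.{u} p (ZE p) (fun G _ Y => Concl t G Y) := by
  apply concl_tr
  intro G _ _ S D Y hD hcen hYW hSY hNY hY hmax
  rw [induced_ZE, omegaCT_eq] at hYW hNY
  exact core hp2 (Q := IsElementaryAbelian p) S hD hcen (fun A hA => hA.1) (fun g A => elab_aut _ A) (elab_bot p)
    (fun B hB hBS hBc hU => rep_elab hp2 (S.isPGroup'.to_le hD.1) B hBS (by rw [normalizer_eq_top]; exact le_top) hBc hU)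
    hYW hSY hNY hY hmax hts

/-- the main theorem for `ZJ` -/
theorem main_ZJ (hp2 : p ≠ 2) {t s : ℤ} (hts : ((t * s : ℤ) : ZMod p) = 1) {G : Type u} [Group G] [Finite G]
    (S : Sylow p G) {D : Subgroup G} (hD : IsStronglyClosed D (S : Subgroup G)) :
    FusIn (S : Subgroup G) ⊤ {normalizer (centerThompsonAOf D : Set G)} ∨ Concl t G (centerThompsonAOf D) := by
  have h := main_tr (p := p) ZJ_char (fun Q _ _ _ x hx _ => ZJ_z Q x hx) (fun Q _ _ => ZJ_c Q) (concl_ZJ hp2 hts)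
    (Nat.card G) G le_rfl S D (inducedFunctor (G := G) ZJ D) hD le_rfl
    ((sc_le_normalizer hD).trans (nrm_le_nrm_W (induced_isConj ZJ_char G) (S.2.to_le hD.1))) le_rfl
  rwa [induced_ZJ] at h

/-- the main theorem for `ZE` -/
theorem main_ZE (hp2 : p ≠ 2) {t s : ℤ} (hts : ((t * s : ℤ) : ZMod p) = 1) {G : Type u} [Group G] [Finite G]
    (S : Sylow p G) {D : Subgroup G} (hD : IsStronglyClosed D (S : Subgroup G)) :
    FusIn (S : Subgroup G) ⊤ {normalizer (omegaOne p (centerThompsonOf p D) : Set G)} ∨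
      Concl t G (omegaOne p (centerThompsonOf p D)) := by
  have h := main_tr (p := p) ZE_char (fun Q _ _ _ x hx h => ZE_z p Q x hx h) (fun Q _ _ => ZE_c p Q) (concl_ZE hp2 hts)
    (Nat.card G) G le_rfl S D (inducedFunctor (G := G) (ZE p) D) hD le_rfl
    ((sc_le_normalizer hD).trans (nrm_le_nrm_W (induced_isConj ZE_char G) (S.2.to_le hD.1))) le_rfl
  rwa [induced_ZE] at h

end CfsgLib.Fail9
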