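import Cfsg.Agent.LibFail9J
import Cfsg.Agent.LibTransPC
import Cfsg.Agent.LibH2Baer
import Cfsg.Agent.LibInvol
/-! Consequences: normal `p`-complements and inverted elements. Seat helper9. -/
set_option autoImplicit false
set_option maxHeartbeats 400000
set_option linter.unusedSectionVars false
set_option linter.style.haveILetI false

namespace CfsgLib.Fail9

open Cfsg Subgroup CfsgLib.FusionH12 CfsgLib.FusionH12b CfsgLib.FusionH12c
open CfsgLib.FusionH12e CfsgLib.FusionH12f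

universe u

theorem fusIn_elt {G : Type*} [Group G] {S H : Subgroup G} (h : FusIn S ⊤ {H}) {E : Subgroup G} {g : G} (hE : E ≤ S)
    (hg : cj g E ≤ S) : ∃ x ∈ H, ∀ e ∈ E, x * e * x⁻¹ = g * e * g⁻¹ :=
  reach_single (h E g hE (mem_top _) hg)

theorem pow_agree {G : Type*} [Group G] {E : Subgroup G} {h g : G} (hg : ∀ e ∈ E, g * e * g⁻¹ ∈ E)
    (ha : ∀ e ∈ E, h * e * h⁻¹ = g * e * g⁻¹) (n : ℕ) : ∀ e ∈ E, h ^ n * e * (h ^ n)⁻¹ = g ^ n * e * (g ^ n)⁻¹ := by
  induction n with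
  | zero => intro e _; simp
  | succ n ih =>
    intro e he
    have h1 := ih (g * e * g⁻¹) (hg e he)
    calc h ^ (n + 1) * e * (h ^ (n + 1))⁻¹ = h ^ n * (h * e * h⁻¹) * (h ^ n)⁻¹ := by rw [pow_succ]; group
      _ = h ^ n * (g * e * g⁻¹) * (h ^ n)⁻¹ := by rw [ha e he]
      _ = g ^ n * (g * e * g⁻¹) * (g ^ n)⁻¹ := h1
      _ = _ := by rw [pow_succ]; group

variable {G : Type u} [Group G] [Finite G] {p : ℕ} [hp : Fact p.Prime]

/-- centralization inside a `p`-nilpotent normalizer -/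
theorem npc_cent {H : Subgroup G} (hH : HasNormalPComplement p ↥H) {E : Subgroup G} (hE : IsPGroup p E) (hEH : E ≤ H)
    {h : G} (hh : h ∈ H) (hn : h ∈ normalizer (E : Set G)) (ho : Nat.Coprime (orderOf h) p) :
    h ∈ centralizer (E : Set G) := by
  obtain ⟨N, hN⟩ := (CfsgLib.TransPC.hasNPC_iff p).1 hH
  have hE' : IsPGroup p (E.subgroupOf H) := hE.comap_of_injective _ H.subtype_injective
  obtain ⟨P, hP⟩ := hE'.exists_le_sylow
  have h1 := (CfsgLib.TransPC.frobenius_iff P).1 ⟨N, hN⟩ _ hP ⟨h, hh⟩ (by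
    rw [mem_normalizer_iff] at hn ⊢
    intro x
    exact hn x) (by rwa [Subgroup.orderOf_mk])
  rw [mem_centralizer_iff] at h1 ⊢
  intro x hx
  exact congrArg Subtype.val (h1 ⟨x, hEH hx⟩ hx)

theorem npc_of_alt (hp2 : p ≠ 2) (S : Sylow p G) {V : Subgroup G} (hSV : (S : Subgroup G) ≤ normalizer (V : Set G))
    (hVp : IsPGroup p V)
    (h : HasNormalPComplement p ↥(normalizer (V : Set G)))
    (halt : FusIn (S : Subgroup G) ⊤ {normalizer (V : Set G)} ∨ Concl (-1) G V) : HasNormalPComplement p G := by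
  rcases halt with hf | ⟨x, hx, w, hw, hw1, hxw⟩
  · rw [CfsgLib.TransPC.hasNPC_iff, CfsgLib.TransPC.frobenius_iff S]
    intro E hE g hg ho
    obtain ⟨x, hx, hag⟩ := fusIn_elt hf (g := g) hE (by rw [cj_of_mem_nrm hg]; exact hE)
    -- the exponent
    have hgE : ∀ e ∈ E, g * e * g⁻¹ ∈ E := fun e he => (mem_normalizer_iff.1 hg e).1 he
    set a := (orderOf x).factorization p with ha
    obtain ⟨e, he1, he2⟩ := Nat.chineseRemainder (Nat.Coprime.pow_right a ho) 1 0
    have h1 : g ^ e = g := by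
      rw [← pow_one g, ← pow_mul, one_mul, pow_eq_pow_iff_modEq]
      exact he1
    have h2 : ∀ y ∈ E, x ^ e * y * (x ^ e)⁻¹ = g * y * g⁻¹ := by
      intro y hy
      rw [pow_agree hgE hag e y hy, h1]
    have h3 : p ^ a ∣ e := (Nat.modEq_zero_iff_dvd).1 he2
    have h4 : Nat.Coprime (orderOf (x ^ e)) p := by
      have h5 : (x ^ e) ^ (orderOf x / p ^ a) = 1 := by
        obtain ⟨c, rfl⟩ := h3
        rw [← pow_mul]
        have e5 : p ^ a * c * (orderOf x / p ^ a) = orderOf x * c := by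
          have := Nat.mul_div_cancel' (Nat.ordProj_dvd (orderOf x) p)
          calc p ^ a * c * (orderOf x / p ^ a) = (p ^ a * (orderOf x / p ^ a)) * c := by ring
            _ = _ := by rw [this]
        rw [e5, pow_mul, pow_orderOf_eq_one, one_pow]
      refine Nat.Coprime.coprime_dvd_left (orderOf_dvd_of_pow_eq_one h5) ?_
      exact (Nat.coprime_ordCompl hp.out (orderOf_pos x).ne').symm
    have hxe : x ^ e ∈ normalizer (V : Set G) := pow_mem hx e
    have hxE : x ^ e ∈ normalizer (E : Set G) := by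
      rw [mem_nrm]
      refine Subgroup.eq_of_le_of_card_ge ?_ (by rw [card_cj])
      rw [cj_le']
      intro y hy
      rw [h2 y hy]
      exact hgE y hy
    have h5 := npc_cent h (S.2.to_le hE) (hE.trans hSV) hxe hxE h4
    rw [mem_centralizer_iff'] at h5 ⊢
    intro y hy
    rw [← h2 y hy]
    exact h5 y hy
  · exfalso
    have hVV : V ≤ normalizer (V : Set G) := le_normalizer
    set a := (orderOf x).factorization p with ha
    have hodd : Odd (p ^ a) := (hp.out.odd_of_ne_two hp2).pow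
    have h1 : x ^ (p ^ a) * w * (x ^ (p ^ a))⁻¹ = w⁻¹ := by
      have key : ∀ n : ℕ, x ^ (2 * n + 1) * w * (x ^ (2 * n + 1))⁻¹ = w⁻¹ := by
        intro n
        have hx1 : x * w * x⁻¹ = w⁻¹ := by rw [hxw]; exact zpow_neg_one w
        have hx2 : x * w⁻¹ * x⁻¹ = w := by rw [← conj_inv, hx1, inv_inv]
        induction n with
        | zero => simpa using hx1
        | succ n ih =>
          calc x ^ (2 * (n + 1) + 1) * w * (x ^ (2 * (n + 1) + 1))⁻¹
              = x * (x * (x ^ (2 * n + 1) * w * (x ^ (2 * n + 1))⁻¹) * x⁻¹) * x⁻¹ := by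
                have : x ^ (2 * (n + 1) + 1) = x * x * x ^ (2 * n + 1) := by
                  rw [show 2 * (n + 1) + 1 = 2 + (2 * n + 1) from by ring, pow_add, pow_two]
                rw [this]; group
            _ = w⁻¹ := by rw [ih, hx2, hx1]
      obtain ⟨m, hm⟩ := hodd
      rw [hm]
      exact key m
    have h4 : Nat.Coprime (orderOf (x ^ (p ^ a))) p := by
      have h5 : (x ^ (p ^ a)) ^ (orderOf x / p ^ a) = 1 := by
        rw [← pow_mul, Nat.mul_div_cancel' (Nat.ordProj_dvd (orderOf x) p), pow_orderOf_eq_one]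
      refine Nat.Coprime.coprime_dvd_left (orderOf_dvd_of_pow_eq_one h5) ?_
      exact (Nat.coprime_ordCompl hp.out (orderOf_pos x).ne').symm
    have hwV : zpowers w ≤ V := zpowers_le.2 hw
    have hn : x ^ (p ^ a) ∈ normalizer ((zpowers w : Subgroup G) : Set G) := by
      rw [mem_nrm]
      refine Subgroup.eq_of_le_of_card_ge ?_ (by rw [card_cj])
      rw [cj_le']
      rintro _ ⟨n, rfl⟩
      have : x ^ (p ^ a) * w ^ n * (x ^ (p ^ a))⁻¹ = w⁻¹ ^ n := by
        rw [← conj_zpow, h1]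
      change x ^ (p ^ a) * w ^ n * (x ^ (p ^ a))⁻¹ ∈ zpowers w
      rw [this, inv_zpow]
      exact inv_mem (zpow_mem (mem_zpowers w) n)
    have h5 := npc_cent h (hVp.to_le hwV) (hwV.trans hVV) (pow_mem hx _) hn h4
    have h6 := mem_centralizer_iff'.1 h5 w (mem_zpowers w)
    rw [h1] at h6
    have h7 : w ^ 2 = 1 := by
      rw [pow_two]; nth_rewrite 1 [← h6]; exact inv_mul_cancel w
    obtain ⟨k, hk⟩ := hVp ⟨w, hw⟩
    have hk' : w ^ p ^ k = 1 := congrArg Subtype.val hk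
    have h8 : orderOf w ∣ 1 := by
      have := Nat.dvd_gcd (orderOf_dvd_of_pow_eq_one h7) (orderOf_dvd_of_pow_eq_one hk')
      rwa [Nat.Coprime.gcd_eq_one (Nat.Coprime.pow_right k ((Nat.coprime_primes Nat.prime_two hp.out).2 (Ne.symm hp2)))] at this
    exact hw1 (orderOf_eq_one_iff.1 (Nat.dvd_one.1 h8))

/-- groups without a normal Sylow `2`-subgroup have inverted elements of odd prime order -/
theorem exists_inverted (h : ¬ ∀ P : Sylow 2 G, (P : Subgroup G).Normal) :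
    ∃ q : ℕ, q.Prime ∧ q ≠ 2 ∧ ∃ x : G, orderOf x = q ∧ ∃ g : G, g * x * g⁻¹ = x⁻¹ := by
  haveI : Fact (Nat.Prime 2) := ⟨Nat.prime_two⟩
  push Not at h
  obtain ⟨P, hP⟩ := h
  set K := pCore 2 G with hK
  have hKP : K ≤ P := CfsgLib.Cores.pCore_le_sylow P
  have hPK : ¬ (P : Subgroup G) ≤ K := by
    intro h1
    apply hP
    rw [le_antisymm h1 hKP]
    infer_instance
  set π := QuotientGroup.mk' K with hπ
  have h2 : 2 ∣ Nat.card (G ⧸ K) := by
    obtain ⟨y, hy, hyK⟩ := SetLike.not_le_iff_exists.1 hPK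
    obtain ⟨k, hk⟩ := P.2 ⟨y, hy⟩
    have hk' : y ^ 2 ^ k = 1 := congrArg Subtype.val hk
    have h3 : (π y) ^ 2 ^ k = 1 := by rw [← map_pow, hk', map_one]
    have h4 : π y ≠ 1 := fun h0 => hyK ((QuotientGroup.eq_one_iff y).1 h0)
    obtain ⟨j, hj, hj'⟩ := (Nat.dvd_prime_pow Nat.prime_two).1 (orderOf_dvd_of_pow_eq_one h3)
    have hj0 : j ≠ 0 := by
      rintro rfl
      rw [pow_zero, orderOf_eq_one_iff] at hj'
      exact h4 hj'
    exact (dvd_pow_self 2 hj0).trans (hj' ▸ orderOf_dvd_natCard (π y))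
  obtain ⟨z, hz⟩ := exists_prime_orderOf_dvd_card' (G := G ⧸ K) 2 h2
  have hOp : pCore 2 (G ⧸ K) = ⊥ := CfsgLib.Cores.pCore_quotient_pCore 2
  have h3 : ∃ g : G ⧸ K, ¬ IsPGroup 2 ↥(closure {z, g * z * g⁻¹}) := by
    by_contra hcon
    push Not at hcon
    have h4 := CfsgLib.H2Baer.baer_suzuki_elt (p := 2) hcon
    rw [hOp, mem_bot] at h4
    rw [h4, orderOf_one] at hz
    omega
  obtain ⟨g, hg⟩ := h3
  set w := g * z * g⁻¹ with hw
  have hwo : orderOf w = 2 := by rw [hw, CfsgLib.Invol.orderOf_conj, hz]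
  set c := z * w with hc
  have hinv := CfsgLib.Invol.left_inverts hz hwo
  rw [← hc] at hinv
  have h4 : ∃ q : ℕ, q.Prime ∧ q ≠ 2 ∧ q ∣ orderOf c := by
    by_contra hcon
    push Not at hcon
    apply hg
    have h5 : ∃ k, orderOf c = 2 ^ k := by
      refine ⟨_, Nat.eq_prime_pow_of_unique_prime_dvd (orderOf_pos c).ne' ?_⟩
      intro d hd hdc
      by_contra hne
      exact hcon d hd hne hdc
    obtain ⟨k, hk⟩ := h5
    rintro ⟨d, hd⟩
    rcases CfsgLib.Invol.mem_closure_pair hz hwo hd with ⟨n, rfl⟩ | ⟨n, rfl⟩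
    · refine ⟨k, Subtype.ext ?_⟩
      change (c ^ n) ^ 2 ^ k = 1
      rw [← hk, ← zpow_natCast, ← zpow_mul, mul_comm, zpow_mul, zpow_natCast, pow_orderOf_eq_one, one_zpow]
    · refine ⟨1, Subtype.ext ?_⟩
      change (c ^ n * z) ^ 2 ^ 1 = 1
      have h6 := CfsgLib.Invol.inverts_zpow hinv n
      have hz2 : z * z = 1 := CfsgLib.Invol.mul_self hz
      have hzi : z⁻¹ = z := inv_eq_of_mul_eq_one_left hz2
      rw [hzi] at h6
      rw [pow_one, pow_two]
      calc c ^ n * z * (c ^ n * z) = c ^ n * (z * c ^ n * z) := by group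
        _ = 1 := by rw [h6, mul_inv_cancel]
  obtain ⟨q, hq, hq2, hqc⟩ := h4
  haveI : Fact q.Prime := ⟨hq⟩
  set x' := c ^ (orderOf c / q) with hx'
  have hx'o : orderOf x' = q := by
    rw [hx', orderOf_pow_of_dvd (Nat.div_pos (Nat.le_of_dvd (orderOf_pos c) hqc) hq.pos).ne' (Nat.div_dvd_of_dvd hqc),
      Nat.div_div_self hqc (orderOf_pos c).ne']
  have hx'i : z * x' * z⁻¹ = x'⁻¹ := CfsgLib.Invol.inverts_pow hinv _
  obtain ⟨x₀, hx₀⟩ := QuotientGroup.mk'_surjective K x'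
  obtain ⟨g₀, hg₀⟩ := QuotientGroup.mk'_surjective K z
  have hKc : (Nat.card K).Coprime q := by
    obtain ⟨k, hk⟩ := IsPGroup.iff_card.1 (CfsgLib.Cores.pCore_isPGroup (G := G) 2)
    rw [hK, hk]
    exact Nat.Coprime.pow_left k ((Nat.coprime_primes Nat.prime_two hq).2 (Ne.symm hq2))
  obtain ⟨e, he1, he2⟩ := Nat.chineseRemainder hKc.symm 1 0
  have hxe : π (x₀ ^ e) = x' := by
    rw [map_pow, show π x₀ = x' from hx₀]
    conv_rhs => rw [← pow_one x']
    rw [pow_eq_pow_iff_modEq, hx'o]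
    exact he1
  have hxq : (x₀ ^ e) ^ q = 1 := by
    rw [← pow_mul, mul_comm, pow_mul]
    have h6 : x₀ ^ q ∈ K := by
      rw [← QuotientGroup.eq_one_iff]
      change π (x₀ ^ q) = 1
      rw [map_pow, show π x₀ = x' from hx₀, ← hx'o, pow_orderOf_eq_one]
    obtain ⟨d, hd⟩ := (Nat.modEq_zero_iff_dvd).1 he2
    rw [hd, pow_mul]
    have h7 : (x₀ ^ q) ^ Nat.card K = 1 := by
      have : (⟨x₀ ^ q, h6⟩ : K) ^ Nat.card K = 1 := pow_card_eq_one'
      exact congrArg Subtype.val this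
    rw [h7, one_pow]
  set x := x₀ ^ e with hx
  have hx1 : x ≠ 1 := by
    intro h0
    rw [h0, map_one] at hxe
    rw [← hxe, orderOf_one] at hx'o
    exact hq.one_lt.ne hx'o
  have hxo : orderOf x = q := orderOf_eq_prime hxq hx1
  have hT : IsPGroup q (zpowers x) := by
    rw [IsPGroup.iff_card]
    exact ⟨1, by rw [Nat.card_zpowers, hxo, pow_one]⟩
  obtain ⟨y, hy, hyg⟩ := exists_lift_normalizer hT hKc g₀ (by
    rw [mem_nrm]
    refine Subgroup.eq_of_le_of_card_ge ?_ (by rw [card_cj])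
    rw [cj_le', MonoidHom.map_zpowers]
    rintro _ ⟨n, rfl⟩
    change π g₀ * (π x) ^ n * (π g₀)⁻¹ ∈ zpowers (π x)
    rw [show π g₀ = z from hg₀, hxe, ← conj_zpow, hx'i, inv_zpow]
    exact inv_mem (zpow_mem (mem_zpowers _) n))
  refine ⟨q, hq, hq2, x, hxo, y, ?_⟩
  have hyx : y * x * y⁻¹ ∈ zpowers x := (mem_normalizer_iff.1 hy x).1 (mem_zpowers x)
  refine injOn_mk (inf_eq_bot_of_pprime hT hKc) hyx (inv_mem (mem_zpowers x)) ?_
  change π (y * x * y⁻¹) = π x⁻¹
  rw [map_mul, map_mul, map_inv, map_inv, show π y = z from hyg.trans hg₀, hxe, hx'i]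

end CfsgLib.Fail9
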