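import Cfsg.Agent.LibFail9E
import Cfsg.Agent.LibCoprime
/-! Irreducible nontrivial sections and the torus with its Borel data. Seat helper9. -/
set_option autoImplicit false
set_option maxHeartbeats 400000
set_option linter.unusedSectionVars false
set_option linter.style.haveILetI false

namespace CfsgLib.Fail9

open Subgroup CfsgLib.FusionH12

universe u v

variable {E : Type v} [Group E] [Finite E] {M : Type u} [AddCommGroup M] [Finite M] {p : ℕ} [hp : Fact p.Prime]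
  {HE : Subgroup E} {y f : E}

theorem eq_zero_of_coprime {A : Type*} [AddCommGroup A] {a b : ℕ} (h : a.Coprime b) {m : A} (h1 : a • m = 0)
    (h2 : b • m = 0) : m = 0 := by
  obtain ⟨c, d, hab⟩ := Nat.isCoprime_iff_coprime.2 h
  have h1' : (a : ℤ) • m = 0 := by rw [natCast_zsmul]; exact h1
  have h2' : (b : ℤ) • m = 0 := by rw [natCast_zsmul]; exact h2
  rw [← one_smul ℤ m, ← hab, add_smul, mul_smul, mul_smul, h1', h2', smul_zero, smul_zero, add_zero]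

/-- a `p'`-element acting nontrivially -/
theorem Ctx.exists_pp (C : Ctx p HE y f) {ρ : E →* AddMonoid.End M} {W : AddSubgroup M}
    (hW : ∀ h ∈ HE, ∀ w ∈ W, ρ h w ∈ W) (hnW : ¬ Inv ρ W) :
    ∃ e₀ : E, (orderOf e₀).Coprime p ∧ ∃ m, ρ e₀ m ≠ m := by
  by_contra hcon
  push Not at hcon
  let St : Subgroup E :=
    { carrier := {g | (∀ w ∈ W, ρ g w ∈ W) ∧ ∀ w ∈ W, ρ g⁻¹ w ∈ W}
      mul_mem' := fun {a b} ha hb => ⟨fun w hw => by rw [rho_mul]; exact ha.1 _ (hb.1 _ hw), fun w hw => by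
        rw [mul_inv_rev, rho_mul]; exact hb.2 _ (ha.2 _ hw)⟩
      one_mem' := ⟨fun w hw => by rwa [rho_one], fun w hw => by rwa [inv_one, rho_one]⟩
      inv_mem' := fun {a} ha => ⟨ha.2, by rw [inv_inv]; exact ha.1⟩ }
  have hySt : y ∈ St := ⟨hW y C.hy, hW _ (HE.inv_mem C.hy)⟩
  have hSt : St ≠ ⊤ := by
    intro h
    apply hnW
    intro g w hw
    have : g ∈ St := by rw [h]; trivial
    exact this.1 w hw
  have hStH := C.hmax St hySt hSt
  have hker : ∀ g ∈ ρ.ker, ∀ m, ρ g m = m := by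
    intro g hg m
    have : ρ g = 1 := hg
    rw [this]; rfl
  have hKH : ρ.ker ≤ HE := by
    refine le_trans ?_ hStH
    intro g hg
    exact ⟨fun w hw => by rwa [hker g hg], fun w hw => by rwa [hker _ (inv_mem hg)]⟩
  obtain ⟨P, hP1, hP2⟩ := SylIn.exists_ge (p := p) C.zpy (le_top : zpowers y ≤ ⊤)
  have hyP : y ∈ P := hP1 (mem_zpowers y)
  have hPH : P ≤ HE := le_normalizer.trans (C.nrm_le hP2.pg hyP)
  have hq : IsPGroup p (E ⧸ ρ.ker) := by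
    intro x
    obtain ⟨e, rfl⟩ := QuotientGroup.mk'_surjective _ x
    refine ⟨(orderOf e).factorization p, ?_⟩
    rw [← map_pow]
    refine (QuotientGroup.eq_one_iff _).2 ?_
    have h4 : Nat.Coprime (orderOf (e ^ p ^ (orderOf e).factorization p)) p := by
      have h5 : (e ^ p ^ (orderOf e).factorization p) ^ (orderOf e / p ^ (orderOf e).factorization p) = 1 := by
        rw [← pow_mul, Nat.mul_div_cancel' (Nat.ordProj_dvd (orderOf e) p), pow_orderOf_eq_one]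
      refine Nat.Coprime.coprime_dvd_left (orderOf_dvd_of_pow_eq_one h5) ?_
      exact (Nat.coprime_ordCompl hp.out (orderOf_pos e).ne').symm
    change ρ _ = 1
    exact AddMonoidHom.ext fun m => hcon _ h4 m
  have h1 : (P ⊔ ρ.ker).index = 1 := by
    have h2 : (P ⊔ ρ.ker).index ∣ P.index := index_dvd_of_le le_sup_left
    have h3 : (P ⊔ ρ.ker).index ∣ ρ.ker.index := index_dvd_of_le le_sup_right
    obtain ⟨n, hn⟩ := IsPGroup.iff_card.1 hq
    have h4 : ρ.ker.index = p ^ n := hn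
    rw [h4] at h3
    obtain ⟨j, -, hj⟩ := (Nat.dvd_prime_pow hp.out).1 h3
    rcases Nat.eq_zero_or_pos j with h0 | h0
    · rw [hj, h0, pow_zero]
    · exfalso
      apply hP2.idx
      rw [relIndex_top_right]
      exact (dvd_pow_self p h0.ne').trans (hj ▸ h2)
  rw [index_eq_one] at h1
  apply C.hne
  rw [eq_top_iff, ← h1]
  exact sup_le hPH hKH

theorem exists_section {ρ : E →* AddMonoid.End M} (hpM : ∃ k : ℕ, ∀ m : M, p ^ k • m = 0) {e₀ : E}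
    (he₀ : (orderOf e₀).Coprime p) (hm₀ : ∃ m, ρ e₀ m ≠ m) :
    ∃ M₁ M₂ : AddSubgroup M, Inv ρ M₁ ∧ Inv ρ M₂ ∧ M₂ ≤ M₁ ∧
      (∀ N, Inv ρ N → M₂ ≤ N → N ≤ M₁ → N = M₂ ∨ N = M₁) ∧ ∃ e, ∃ m ∈ M₁, ρ e m - m ∉ M₂ := by
  obtain ⟨M₁, ⟨h1, m₁, hm₁, hem₁⟩, h1min⟩ := Set.exists_min_image {N : AddSubgroup M | Inv ρ N ∧ ∃ m ∈ N, ρ e₀ m ≠ m}
    (fun N => Nat.card N) (Set.toFinite _) (by
      obtain ⟨m, hm⟩ := hm₀
      exact ⟨⊤, fun _ _ _ => trivial, m, trivial, hm⟩)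
  obtain ⟨M₂, ⟨h2, h21, h2ne⟩, h2max⟩ := Set.exists_max_image {N : AddSubgroup M | Inv ρ N ∧ N ≤ M₁ ∧ N ≠ M₁}
    (fun N => Nat.card N) (Set.toFinite _) (by
      refine ⟨⊥, fun e m hm => ?_, bot_le, ?_⟩
      · rw [AddSubgroup.mem_bot] at hm ⊢
        rw [hm, map_zero]
      · rintro rfl
        rw [AddSubgroup.mem_bot] at hm₁
        rw [hm₁, map_zero] at hem₁
        exact hem₁ rfl)
  have hlt : ∀ N : AddSubgroup M, N ≤ M₁ → N ≠ M₁ → Nat.card N < Nat.card M₁ := by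
    intro N hN hN'
    by_contra h
    exact hN' (AddSubgroup.eq_of_le_of_card_ge hN (not_lt.1 h))
  refine ⟨M₁, M₂, h1, h2, h21, ?_, ?_⟩
  · intro N hN hN1 hN2
    by_cases h : N = M₁
    · exact Or.inr h
    · left
      have := h2max N ⟨hN, hN2, h⟩
      exact (AddSubgroup.eq_of_le_of_card_ge hN1 this).symm
  · by_contra hcon
    push Not at hcon
    have hM₂ : ∀ m ∈ M₂, ρ e₀ m = m := by
      intro m hm
      by_contra hne
      have h3 := h1min M₂ ⟨h2, m, hm, hne⟩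
      have h4 := hlt M₂ h21 h2ne
      omega
    have hpow : ∀ n : ℕ, ρ (e₀ ^ n) m₁ = m₁ + n • (ρ e₀ m₁ - m₁) := by
      intro n
      induction n with
      | zero => rw [pow_zero, rho_one, zero_smul, add_zero]
      | succ n ih =>
        rw [pow_succ', rho_mul, ih, map_add, map_nsmul, hM₂ _ (hcon e₀ m₁ hm₁), add_smul, one_smul]
        abel
    have h3 := hpow (orderOf e₀)
    rw [pow_orderOf_eq_one, rho_one] at h3
    have h4 : orderOf e₀ • (ρ e₀ m₁ - m₁) = 0 := by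
      have := h3.symm
      rwa [add_eq_left] at this
    obtain ⟨k, hk⟩ := hpM
    have h5 := eq_zero_of_coprime (Nat.Coprime.pow_right k he₀) h4 (hk _)
    exact hem₁ (sub_eq_zero.1 h5)

/-- the torus with its Borel data -/
theorem Ctx.torus' (C : Ctx p HE y f) (hp2 : p ≠ 2) {ρ : E →* AddMonoid.End M} (hq : Qd ρ y)
    (hpM : ∃ k : ℕ, ∀ m : M, p ^ k • m = 0)
    (hirr : ∀ N : AddSubgroup M, Inv ρ N → N = ⊥ ∨ N = ⊤) (hnt : ∃ e m, ρ e m ≠ m) {t s : ℤ}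
    (hts : ((t * s : ℤ) : ZMod p) = 1) :
    (∀ m : M, p • m = 0) ∧
    (∀ v, ∃ t₁ t₂, ρ y t₁ = t₁ ∧ ρ y t₂ = t₂ ∧ v = t₁ + (ρ (f * y * f⁻¹) t₂ - t₂)) ∧
    ∃ P₀ : Subgroup E, IsPGroup p P₀ ∧ y ∈ P₀ ∧ (∀ r ∈ P₀, ∃ n : ℤ, ρ r = ρ (y ^ n)) ∧
    ∃ h ∈ normalizer (P₀ : Set E), ∀ v, ρ y v = v →
      ρ h v = t • v ∧ ρ h (ρ (f * y * f⁻¹) v - v) = s • (ρ (f * y * f⁻¹) v - v) := by
  have hpM' := exponent_of_irr hpM hirr hnt
  obtain ⟨hdec, htor⟩ := torus4 hp2 C.gen hq (hq.conj f) hpM hirr hnt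
  refine ⟨hpM', hdec, ?_⟩
  obtain ⟨h₀, hh₀⟩ := htor t s hts
  have hsm : ∀ v : M, (s * t) • v = v := by
    intro v
    have h1 : ((p : ℕ) : ℤ) ∣ (s * t - 1) := by
      rw [← ZMod.intCast_zmod_eq_zero_iff_dvd]
      rw [mul_comm] at hts
      push_cast at hts ⊢
      rw [hts, sub_self]
    obtain ⟨c, hc⟩ := h1
    have h2 : s * t = 1 + c * (p : ℕ) := by linear_combination hc
    rw [h2, add_smul, one_smul, mul_smul, natCast_zsmul, hpM', smul_zero, add_zero]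
  set b := f * y * f⁻¹ with hb
  have hinv1 : ∀ v, ρ y v = v → ρ h₀⁻¹ v = s • v := by
    intro v hv
    have h1 : ρ h₀ (s • v) = v := by
      rw [map_zsmul, (hh₀ v hv).1, smul_smul, hsm]
    rw [← h1, rho_inv, h1]
  have hinv2 : ∀ v, ρ y v = v → ρ h₀⁻¹ (ρ b v - v) = t • (ρ b v - v) := by
    intro v hv
    have h1 : ρ h₀ (t • (ρ b v - v)) = ρ b v - v := by
      rw [map_zsmul, (hh₀ v hv).2, smul_smul, mul_comm, hsm]
    rw [← h1, rho_inv, h1]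
  have hXfix : ∀ w, ρ y (ρ y w - w) = ρ y w - w := hq
  have hpow : ∀ (n : ℕ) w, ρ (y ^ n) w = w + n • (ρ y w - w) := by
    intro n
    induction n with
    | zero => intro w; rw [pow_zero, rho_one, zero_smul, add_zero]
    | succ n ih =>
      intro w
      rw [pow_succ', rho_mul, ih, map_add, map_nsmul, hXfix, add_smul, one_smul]
      abel
  have hker : ρ (h₀ * y * h₀⁻¹) = ρ (y ^ (t * t).natAbs) := by
    ext v
    obtain ⟨t₁, t₂, h1, h2, rfl⟩ := hdec v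
    have e1 : ρ (h₀ * y * h₀⁻¹) t₁ = t₁ := by
      rw [rho_mul, rho_mul, hinv1 t₁ h1, map_zsmul, h1, map_zsmul, (hh₀ t₁ h1).1, smul_smul, hsm]
    have e2 : ρ (y ^ (t * t).natAbs) t₁ = t₁ := by
      rw [hpow, h1, sub_self, smul_zero, add_zero]
    have e3 : ((t * t).natAbs : ℤ) = t * t := Int.natAbs_of_nonneg (mul_self_nonneg t)
    have e4 : ρ (h₀ * y * h₀⁻¹) (ρ b t₂ - t₂) = (ρ b t₂ - t₂) + (t * t) • (ρ y (ρ b t₂ - t₂) - (ρ b t₂ - t₂)) := by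
      have e5 : ρ y (ρ b t₂ - t₂) = (ρ b t₂ - t₂) + (ρ y (ρ b t₂ - t₂) - (ρ b t₂ - t₂)) := by abel
      rw [rho_mul, rho_mul, hinv2 t₂ h2, map_zsmul]
      conv_lhs => rw [e5]
      rw [smul_add, map_add, map_zsmul, map_zsmul, (hh₀ t₂ h2).2, (hh₀ _ (hXfix _)).1, smul_smul, smul_smul,
        mul_comm t s, hsm]
    have e6 : ρ (y ^ (t * t).natAbs) (ρ b t₂ - t₂) =
        (ρ b t₂ - t₂) + (t * t) • (ρ y (ρ b t₂ - t₂) - (ρ b t₂ - t₂)) := by
      rw [hpow, ← natCast_zsmul, e3]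
    rw [map_add, map_add, e1, e2, e4, e6]
  -- Frattini
  let K := ρ.ker
  have hKn : K.Normal := inferInstance
  have hyA : zpowers y ≤ zpowers y ⊔ K := le_sup_left
  obtain ⟨P₀, hP₀1, hP₀2⟩ := SylIn.exists_ge (p := p) C.zpy hyA
  have hyP : y ∈ P₀ := hP₀1 (mem_zpowers y)
  have hA : cj h₀ (zpowers y ⊔ K) ≤ zpowers y ⊔ K := by
    rw [cj_sup, cj_of_normal h₀ K]
    refine sup_le ?_ le_sup_right
    rw [cj_le']
    intro d hd
    obtain ⟨n, rfl⟩ := hd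
    change h₀ * y ^ n * h₀⁻¹ ∈ _
    rw [← conj_zpow]
    apply Subgroup.zpow_mem
    have h1 : (y ^ (t * t).natAbs)⁻¹ * (h₀ * y * h₀⁻¹) ∈ K := by
      rw [MonoidHom.mem_ker, map_mul, hker, ← map_mul, inv_mul_cancel, map_one]
    have h2 : h₀ * y * h₀⁻¹ = y ^ (t * t).natAbs * ((y ^ (t * t).natAbs)⁻¹ * (h₀ * y * h₀⁻¹)) := by group
    rw [h2]
    exact mul_mem (Subgroup.mem_sup_left (pow_mem (mem_zpowers y) _)) (Subgroup.mem_sup_right h1)
  obtain ⟨m, hm, hm'⟩ := hP₀2.exists_conj_le (isPGroup_cj (a := h₀) hP₀2.pg) ((cj_mono hP₀2.le).trans hA)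
  obtain ⟨z, hz, κ, hκ, rfl⟩ := Subgroup.mem_sup_of_normal_right.1 hm
  have hzP : z ∈ P₀ := hP₀1 hz
  have h3 : cj (κ * h₀) P₀ ≤ P₀ := by
    rw [← cj_mul, mul_assoc, cj_mul, cj_le_iff, cj_of_mem (inv_mem hzP)] at hm'
    exact hm'
  have h4 : κ * h₀ ∈ normalizer (P₀ : Set E) := mem_nrm.2
    (Subgroup.eq_of_le_of_card_ge h3 (by rw [card_cj]))
  have h5 : ∀ v, ρ (κ * h₀) v = ρ h₀ v := by
    intro v
    rw [rho_mul]
    have : ρ κ = 1 := hκ
    rw [this]; rfl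
  refine ⟨P₀, hP₀2.pg, hyP, ?_, κ * h₀, h4, fun v hv => ?_⟩
  · intro r hr
    obtain ⟨a, ⟨n, rfl⟩, κ', hκ', rfl⟩ := Subgroup.mem_sup_of_normal_right.1 (hP₀2.le hr)
    refine ⟨n, ?_⟩
    have : ρ κ' = 1 := hκ'
    change ρ (y ^ n * κ') = _
    rw [map_mul, this, mul_one]
  · rw [h5, h5]
    exact hh₀ v hv

end CfsgLib.Fail9
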