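import Cfsg.Agent.LibFail9L
/-! The Borel data in a module: a two-dimensional section. Seat helper9. -/
set_option autoImplicit false
set_option maxHeartbeats 400000
set_option linter.unusedSectionVars false
set_option linter.style.haveILetI false

namespace CfsgLib.Fail9

open Subgroup CfsgLib.FusionH12

universe u v

/-- the Borel data -/
structure FMod (p : ℕ) {E : Type v} [Group E] {M : Type u} [AddCommGroup M] (ρ : E →* AddMonoid.End M) (HE : Subgroup E)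
    (t s : ℤ) (M₂ : AddSubgroup M) (v₁ v₂ : M) (R : Subgroup E) (h z c : E) : Prop where
  pg : IsPGroup p R
  RH : R ≤ HE
  hH : h ∈ HE
  cR : c ∈ R
  hR : ∀ r ∈ R, h * r * h⁻¹ ∈ R
  zR : ∀ r ∈ R, z * r = r * z
  RM : ∀ r ∈ R, ∀ m ∈ M₂, ρ r m ∈ M₂
  hM : ∀ m ∈ M₂, ρ h m ∈ M₂
  zM : ∀ m ∈ M₂, ρ z m ∈ M₂
  v1 : v₁ ∉ M₂
  p1 : p • v₁ ∈ M₂
  p2 : p • v₂ ∈ M₂
  cv : ρ c v₂ - (v₂ + v₁) ∈ M₂
  Rv1 : ∀ r ∈ R, ρ r v₁ - v₁ ∈ M₂
  Rv2 : ∀ r ∈ R, ∃ n : ℤ, ρ r v₂ - (v₂ + n • v₁) ∈ M₂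
  hv1 : ρ h v₁ - t • v₁ ∈ M₂
  hv2 : ρ h v₂ - s • v₂ ∈ M₂
  zv1 : ρ z v₁ + v₁ ∈ M₂
  zv2 : ρ z v₂ + v₂ ∈ M₂

variable {E : Type v} [Group E] [Finite E] {M : Type u} [AddCommGroup M] [Finite M] {p : ℕ} [hp : Fact p.Prime]
  {HE : Subgroup E} {y f : E}

theorem Ctx.modIrr {V : Type u} [AddCommGroup V] [Finite V] (C : Ctx p HE y f) (hp2 : p ≠ 2) {t s : ℤ}
    (hts : ((t * s : ℤ) : ZMod p) = 1)
    {k₀ : ℕ} (hk₀ : ((t ^ k₀ : ℤ) : ZMod p) = -1)
    {σ : E →* AddMonoid.End V} (hqV : Qd σ y) (hpV : ∃ k : ℕ, ∀ m : V, p ^ k • m = 0)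
    (hirrV : ∀ N : AddSubgroup V, Inv σ N → N = ⊥ ∨ N = ⊤) (hnt : ∃ e v, σ e v ≠ v) :
    (∀ v : V, p • v = 0) ∧ ∃ (w₁ w₂ : V) (R : Subgroup E) (h z c : E), IsPGroup p R ∧ R ≤ HE ∧ h ∈ HE ∧ c ∈ R ∧
      (∀ r ∈ R, h * r * h⁻¹ ∈ R) ∧ (∀ r ∈ R, z * r = r * z) ∧ w₁ ≠ 0 ∧ σ c w₂ = w₂ + w₁ ∧ (∀ r ∈ R, σ r w₁ = w₁) ∧
      (∀ r ∈ R, ∃ n : ℤ, σ r w₂ = w₂ + n • w₁) ∧ σ h w₁ = t • w₁ ∧ σ h w₂ = s • w₂ ∧ σ z w₁ = -w₁ ∧ σ z w₂ = -w₂ := by
  obtain ⟨hpV', hdec, P₀, hP₀, hyP, hPy, h, hhP, hh⟩ := C.torus' hp2 hqV hpV hirrV hnt hts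
  set b := f * y * f⁻¹ with hb
  -- integer multiples
  have hz0 : ∀ (a c : ℤ), ((a : ℤ) : ZMod p) = c → ∀ v : V, a • v = c • v := by
    intro a c hac v
    have h3 : ((p : ℕ) : ℤ) ∣ a - c := by
      rw [← ZMod.intCast_zmod_eq_zero_iff_dvd]
      push_cast
      rw [hac, sub_self]
    obtain ⟨d, hd⟩ := h3
    have h4 : a = c + d * (p : ℕ) := by linear_combination hd
    rw [h4, add_smul, mul_smul, natCast_zsmul, hpV', smul_zero, add_zero]
  -- `y` acts nontrivially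
  have hyV : ∃ v, σ y v ≠ v := by
    by_contra hcon
    push Not at hcon
    obtain ⟨e, v, hev⟩ := hnt
    apply hev
    have he : e ∈ closure {y, f * y * f⁻¹} := by rw [C.gen]; trivial
    have hall : ∀ g ∈ closure {y, f * y * f⁻¹}, ∀ v, σ g v = v := by
      intro g hg
      induction hg using Subgroup.closure_induction with
      | mem c hc =>
        intro v
        rcases hc with rfl | hc
        · exact hcon v
        · rw [Set.mem_singleton_iff] at hc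
          subst hc
          rw [rho_mul, rho_mul, hcon, ← rho_mul, mul_inv_cancel, rho_one]
      | one => exact rho_one σ
      | mul c d _ _ hc hd => intro v; rw [rho_mul, hd, hc]
      | inv c _ hc =>
        intro v
        conv_lhs => rw [← hc v]
        exact rho_inv σ c v
    exact hall e he v
  obtain ⟨v, hv⟩ := hyV
  obtain ⟨t₁, t₂, ht₁, ht₂, rfl⟩ := hdec v
  set w₂ := σ b t₂ - t₂ with hw₂
  have hw₂y : σ y w₂ ≠ w₂ := by
    intro h0
    apply hv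
    rw [map_add, ht₁, h0]
  set w₁ := σ y w₂ - w₂ with hw₁
  have hw₁0 : w₁ ≠ 0 := fun h0 => hw₂y (sub_eq_zero.1 h0)
  have hw₁y : σ y w₁ = w₁ := hqV w₂
  have hhw₁ : σ h w₁ = t • w₁ := (hh w₁ hw₁y).1
  have hhw₂ : σ h w₂ = s • w₂ := (hh t₂ ht₂).2
  -- powers of `h`
  have hhk1 : ∀ (n : ℕ) (u), σ y u = u → σ (h ^ n) u = t ^ n • u := by
    intro n u hu
    induction n with
    | zero => rw [pow_zero, rho_one, pow_zero, one_smul]
    | succ n ih => rw [pow_succ, rho_mul, (hh u hu).1, map_zsmul, ih, smul_smul, pow_succ, mul_comm]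
  have hhk2 : ∀ (n : ℕ) (u), σ y u = u → σ (h ^ n) (σ b u - u) = s ^ n • (σ b u - u) := by
    intro n u hu
    induction n with
    | zero => rw [pow_zero, rho_one, pow_zero, one_smul]
    | succ n ih => rw [pow_succ, rho_mul, (hh u hu).2, map_zsmul, ih, smul_smul, pow_succ, mul_comm]
  have hsk : ((s ^ k₀ : ℤ) : ZMod p) = ((-1 : ℤ) : ZMod p) := by
    have h3 : ((t ^ k₀ : ℤ) : ZMod p) * ((s ^ k₀ : ℤ) : ZMod p) = 1 := by
      push_cast
      push_cast at hts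
      rw [← mul_pow, hts, one_pow]
    rw [hk₀] at h3
    push_cast at h3 ⊢
    linear_combination -h3
  have hz₀ : ∀ v, σ (h ^ k₀) v = -v := by
    intro v
    obtain ⟨u₁, u₂, hu₁, hu₂, rfl⟩ := hdec v
    rw [map_add, hhk1 k₀ u₁ hu₁, hhk2 k₀ u₂ hu₂, hz0 (s ^ k₀) (-1) hsk,
      hz0 (t ^ k₀) (-1) (by rw [hk₀]; push_cast; rfl)]
    simp only [neg_smul, one_smul]
    abel
  set z₀ := h ^ k₀ with hz₀def
  set a := (orderOf z₀).factorization p with ha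
  set z := z₀ ^ (p ^ a) with hz
  have hodd : Odd (p ^ a) := (hp.out.odd_of_ne_two hp2).pow
  have hzV : ∀ v, σ z v = -v := by
    have key : ∀ n : ℕ, ∀ v, σ (z₀ ^ (2 * n + 1)) v = -v := by
      intro n
      induction n with
      | zero => intro v; simpa using hz₀ v
      | succ n ih =>
        intro v
        have e : z₀ ^ (2 * (n + 1) + 1) = z₀ ^ (2 * n + 1) * (z₀ * z₀) := by
          rw [show 2 * (n + 1) + 1 = (2 * n + 1) + 2 from by ring, pow_add, pow_two]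
        rw [e, rho_mul, rho_mul, hz₀, hz₀, neg_neg, ih]
    obtain ⟨n, hn⟩ := hodd
    rw [hz, hn]
    exact key n
  have hzo : (orderOf z).Coprime p := by
    have h5 : z ^ (orderOf z₀ / p ^ a) = 1 := by
      rw [hz, ← pow_mul, Nat.mul_div_cancel' (Nat.ordProj_dvd (orderOf z₀) p), pow_orderOf_eq_one]
    refine Nat.Coprime.coprime_dvd_left (orderOf_dvd_of_pow_eq_one h5) ?_
    exact (Nat.coprime_ordCompl hp.out (orderOf_pos z₀).ne').symm
  have hzN : z ∈ normalizer (P₀ : Set E) := pow_mem (pow_mem hhP _) _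
  have hAK : zpowers z ≤ normalizer (P₀ : Set E) := zpowers_le.2 hzN
  have hyN : y ∈ normalizer ((P₀ ⊓ σ.ker : Subgroup E) : Set E) := by
    rw [mem_nrm, cj_inf, cj_of_mem hyP, cj_of_normal y σ.ker]
  have hAN : zpowers z ≤ normalizer ((P₀ ⊓ σ.ker : Subgroup E) : Set E) := by
    rw [zpowers_le, mem_nrm, cj_inf, cj_of_mem_nrm hzN, cj_of_normal z σ.ker]
  have hcop : (Nat.card (zpowers z)).Coprime (Nat.card P₀) := by
    obtain ⟨j, hj⟩ := IsPGroup.iff_card.1 hP₀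
    rw [hj, Nat.card_zpowers]
    exact Nat.Coprime.pow_right j hzo
  have hsolv : Group.IsSolvable P₀ := by
    haveI := hP₀.isNilpotent
    infer_instance
  have hscal : ∀ g ∈ zpowers z, ∀ e v, σ g (σ e v) = σ e (σ g v) := by
    let Z : Subgroup E :=
      { carrier := {g | ∀ e v, σ g (σ e v) = σ e (σ g v)}
        mul_mem' := fun {a b} ha hb e v => by rw [rho_mul, hb, ha, rho_mul]
        one_mem' := fun e v => by rw [rho_one, rho_one]
        inv_mem' := fun {a} ha e v => by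
          have h3 := ha e (σ a⁻¹ v)
          rw [rho_inv'] at h3
          rw [← h3, rho_inv] }
    have h3 : zpowers z ≤ Z := by
      rw [zpowers_le]
      intro e v
      rw [hzV, hzV, map_neg]
    intro g hg
    exact h3 hg
  obtain ⟨c, hc, hyc⟩ := CfsgLib.Coprime.exists_fixed_in_coset hAK hcop (Or.inr hsolv) inf_le_left hAN hyP hyN (by
    intro g hg
    refine Subgroup.mem_inf.2 ⟨P₀.mul_mem ((mem_normalizer_iff.1 (hAK hg) y).1 hyP) (P₀.inv_mem hyP), ?_⟩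
    rw [MonoidHom.mem_ker]
    refine AddMonoidHom.ext fun v => ?_
    change σ (g * y * g⁻¹ * y⁻¹) v = v
    rw [rho_mul, rho_mul, rho_mul, ← hscal _ (inv_mem hg), rho_inv', rho_inv'])
  obtain ⟨hcP, hcz⟩ := Subgroup.mem_inf.1 hc
  have hσc : ∀ v, σ c v = σ y v := by
    intro v
    have h3 : σ (y⁻¹ * c) = 1 := (Subgroup.mem_inf.1 hyc).2
    have h4 : c = y * (y⁻¹ * c) := by group
    rw [h4, rho_mul, h3]; rfl
  have hpown : ∀ (n : ℕ), σ (y ^ n) w₂ = w₂ + n • w₁ := by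
    intro n
    induction n with
    | zero => rw [pow_zero, rho_one, zero_smul, add_zero]
    | succ n ih =>
      rw [pow_succ', rho_mul, ih, map_add, map_nsmul, hw₁y, add_smul, one_smul]
      have : σ y w₂ = w₂ + w₁ := by rw [hw₁]; abel
      rw [this]; abel
  have hpow1 : ∀ (n : ℕ), σ (y ^ n) w₁ = w₁ := by
    intro n
    induction n with
    | zero => rw [pow_zero, rho_one]
    | succ n ih => rw [pow_succ', rho_mul, ih, hw₁y]
  have hPn : ∀ r ∈ P₀, ∃ n : ℕ, σ r = σ (y ^ n) := by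
    intro r hr
    obtain ⟨n, hn⟩ := hPy r hr
    have h3 : y ^ n ∈ zpowers y := ⟨n, rfl⟩
    obtain ⟨m, hm⟩ := (isOfFinOrder_of_finite y).mem_powers_iff_mem_zpowers.2 h3
    exact ⟨m, by rw [hn]; exact congrArg σ hm.symm⟩
  have hzh : h * z = z * h := by
    rw [hz, hz₀def]
    exact ((Commute.refl h).pow_right _).pow_right _
  refine ⟨hpV', w₁, w₂, P₀ ⊓ centralizer (zpowers z : Set E), h, z, c, hP₀.to_le inf_le_left,
    inf_le_left.trans (le_normalizer.trans (C.nrm_le hP₀ hyP)), C.nrm_le hP₀ hyP hhP, hc, ?_,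
    fun r hr => mem_centralizer_iff.1 (Subgroup.mem_inf.1 hr).2 z (mem_zpowers z), hw₁0, ?_, ?_, ?_, hhw₁, hhw₂, hzV _, hzV _⟩
  · intro r hr
    obtain ⟨hr1, hr2⟩ := Subgroup.mem_inf.1 hr
    refine Subgroup.mem_inf.2 ⟨(mem_normalizer_iff.1 hhP r).1 hr1, ?_⟩
    have h3 : ∀ g ∈ zpowers z, h * g = g * h := by
      rintro _ ⟨n, rfl⟩
      exact (Commute.zpow_right (show Commute h z from hzh) n)
    rw [mem_centralizer_iff] at hr2 ⊢
    intro g hg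
    have h4 := h3 g hg
    have h5 := hr2 g hg
    have h6 : h⁻¹ * g = g * h⁻¹ := by
      rw [inv_mul_eq_iff_eq_mul, ← mul_assoc, h4, mul_inv_cancel_right]
    calc g * (h * r * h⁻¹) = (g * h) * r * h⁻¹ := by group
      _ = h * (g * r) * h⁻¹ := by rw [← h4]; group
      _ = h * r * (g * h⁻¹) := by rw [h5]; group
      _ = h * r * h⁻¹ * g := by rw [← h6]; group
  · rw [hσc, hw₁]; abel
  · intro r hr
    obtain ⟨n, hn⟩ := hPn r (Subgroup.mem_inf.1 hr).1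
    rw [hn, hpow1]
  · intro r hr
    obtain ⟨n, hn⟩ := hPn r (Subgroup.mem_inf.1 hr).1
    exact ⟨n, by rw [hn, hpown, natCast_zsmul]⟩

theorem Ctx.modF (C : Ctx p HE y f) (hp2 : p ≠ 2) {t s : ℤ} (hts : ((t * s : ℤ) : ZMod p) = 1)
    {k₀ : ℕ} (hk₀ : ((t ^ k₀ : ℤ) : ZMod p) = -1)
    {ρ : E →* AddMonoid.End M} (hq : Qd ρ y) (hpM : ∃ k : ℕ, ∀ m : M, p ^ k • m = 0) {W : AddSubgroup M}
    (hW : ∀ h ∈ HE, ∀ w ∈ W, ρ h w ∈ W) (hnW : ¬ Inv ρ W) :
    ∃ (M₂ : AddSubgroup M) (v₁ v₂ : M) (R : Subgroup E) (h z c : E), FMod p ρ HE t s M₂ v₁ v₂ R h z c := by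
  obtain ⟨e₀, he₀, hm₀⟩ := C.exists_pp hW hnW
  obtain ⟨M₁, M₂, h1, h2, h21, hirr, e₁, m₁, hm₁, hem₁⟩ := exists_section hpM he₀ hm₀
  have h2' : Inv (resEnd ρ M₁ h1) (M₂.addSubgroupOf M₁) := fun e m hm => h2 e _ hm
  set σ := quoEnd (resEnd ρ M₁ h1) (M₂.addSubgroupOf M₁) h2' with hσ
  set π := QuotientAddGroup.mk' (M₂.addSubgroupOf M₁) with hπ
  have hσπ : ∀ (e : E) (m : M₁), σ e (π m) = π ⟨ρ e m, h1 e m m.2⟩ := fun e m => rfl
  have hπ0 : ∀ m : M₁, π m = 0 ↔ (m : M) ∈ M₂ := fun m => by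
    rw [← AddSubgroup.mem_addSubgroupOf]
    exact QuotientAddGroup.eq_zero_iff m
  have hπe : ∀ m m' : M₁, π m = π m' ↔ (m : M) - m' ∈ M₂ := fun m m' => by
    rw [← sub_eq_zero, ← map_sub, hπ0]
    rfl
  obtain ⟨k, hk⟩ := hpM
  have hpV : ∃ k : ℕ, ∀ m : M₁ ⧸ M₂.addSubgroupOf M₁, p ^ k • m = 0 := ⟨k, fun m => by
    obtain ⟨m, rfl⟩ := QuotientAddGroup.mk'_surjective _ m
    rw [← map_nsmul, show p ^ k • m = 0 from Subtype.ext (hk m), map_zero]⟩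
  have hirrV : ∀ N : AddSubgroup (M₁ ⧸ M₂.addSubgroupOf M₁), Inv σ N → N = ⊥ ∨ N = ⊤ := by
    intro N hN
    have h3 : Inv ρ ((N.comap π).map M₁.subtype) := by
      rintro e _ ⟨m, hm, rfl⟩
      exact ⟨⟨ρ e m, h1 e m m.2⟩, hN e _ hm, rfl⟩
    have h4 : M₂ ≤ (N.comap π).map M₁.subtype := by
      intro m hm
      refine ⟨⟨m, h21 hm⟩, ?_, rfl⟩
      change π _ ∈ N
      rw [(hπ0 _).2 hm]
      exact N.zero_mem
    have h5 : (N.comap π).map M₁.subtype ≤ M₁ := by rintro _ ⟨m, hm, rfl⟩; exact m.2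
    rcases hirr _ h3 h4 h5 with h6 | h6
    · left
      rw [eq_bot_iff]
      intro v hv
      obtain ⟨m, rfl⟩ := QuotientAddGroup.mk'_surjective _ v
      have h7 : (m : M) ∈ (N.comap π).map M₁.subtype := ⟨m, hv, rfl⟩
      rw [h6] at h7
      exact AddSubgroup.mem_bot.2 ((hπ0 m).2 h7)
    · right
      rw [eq_top_iff]
      intro v _
      obtain ⟨m, rfl⟩ := QuotientAddGroup.mk'_surjective _ v
      have h7 : (m : M) ∈ (N.comap π).map M₁.subtype := by rw [h6]; exact m.2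
      obtain ⟨m', hm', e⟩ := h7
      have : m' = m := Subtype.ext e
      rwa [this] at hm'
  have hnt : ∃ e v, σ e v ≠ v := by
    refine ⟨e₁, π ⟨m₁, hm₁⟩, fun h => hem₁ ?_⟩
    rw [hσπ, hπe] at h
    exact h
  have hqV : Qd σ y := (hq.res M₁ h1).quo _ h2'
  obtain ⟨hpV', w₁, w₂, R, h, z, c, hR1, hR2, hh1, hc1, hhR, hzR, hw0, hcw, hRw1, hRw2, hhw1, hhw2, hzw1, hzw2⟩ :=
    C.modIrr hp2 hts hk₀ hqV hpV hirrV hnt
  obtain ⟨v₂, hv₂⟩ := QuotientAddGroup.mk'_surjective (M₂.addSubgroupOf M₁) w₂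
  obtain ⟨v₁, hv₁⟩ := QuotientAddGroup.mk'_surjective (M₂.addSubgroupOf M₁) w₁
  have hv₂' : π v₂ = w₂ := hv₂
  have hv₁' : π v₁ = w₁ := hv₁
  refine ⟨M₂, v₁, v₂, R, h, z, c, ?_⟩
  have tr : ∀ (m m' : M₁), π m = π m' → (m : M) - m' ∈ M₂ := fun m m' h => (hπe m m').1 h
  exact
    { pg := hR1
      RH := hR2
      hH := hh1
      cR := hc1
      hR := hhR
      zR := hzR
      RM := fun r _ m hm => h2 r m hm
      hM := fun m hm => h2 h m hm
      zM := fun m hm => h2 z m hm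
      v1 := by
        intro h0
        apply hw0
        rw [← hv₁', hπ0]
        exact h0
      p1 := by
        have h3 : π (p • v₁) = 0 := by rw [map_nsmul, hpV']
        exact (hπ0 _).1 h3
      p2 := by
        have h3 : π (p • v₂) = 0 := by rw [map_nsmul, hpV']
        exact (hπ0 _).1 h3
      cv := by
        refine tr ⟨ρ c v₂, h1 c _ v₂.2⟩ (v₂ + v₁) ?_
        rw [← hσπ, map_add, hv₁', hv₂', hcw]
      Rv1 := by
        intro r hr
        refine tr ⟨ρ r _, h1 r _ v₁.2⟩ v₁ ?_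
        rw [← hσπ, hv₁', hRw1 r hr]
      Rv2 := by
        intro r hr
        obtain ⟨n, hn⟩ := hRw2 r hr
        refine ⟨n, ?_⟩
        refine tr ⟨ρ r _, h1 r _ v₂.2⟩ (v₂ + n • v₁) ?_
        rw [← hσπ, map_add, map_zsmul, hv₁', hv₂', hn]
      hv1 := by
        refine tr ⟨ρ h _, h1 h _ v₁.2⟩ (t • v₁) ?_
        rw [← hσπ, map_zsmul, hv₁', hhw1]
      hv2 := by
        refine tr ⟨ρ h _, h1 h _ v₂.2⟩ (s • v₂) ?_
        rw [← hσπ, map_zsmul, hv₂', hhw2]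
      zv1 := by
        have h3 := tr ⟨ρ z _, h1 z _ v₁.2⟩ (-v₁) (by rw [← hσπ, map_neg, hv₁', hzw1])
        have e : ρ z v₁ - ((-v₁ : M₁) : M) = ρ z v₁ + v₁ := by
          change ρ z v₁ - (-(v₁ : M)) = _
          abel
        rw [← e]; exact h3
      zv2 := by
        have h3 := tr ⟨ρ z _, h1 z _ v₂.2⟩ (-v₂) (by rw [← hσπ, map_neg, hv₂', hzw2])
        have e : ρ z v₂ - ((-v₂ : M₁) : M) = ρ z v₂ + v₂ := by
          change ρ z v₂ - (-(v₂ : M)) = _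
          abel
        rw [← e]; exact h3 }

end CfsgLib.Fail9
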