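import Cfsg.Agent.LibFail9M
/-! Borel data inside groups with a unique maximal subgroup above a Sylow subgroup. Seat helper9. -/
set_option autoImplicit false
set_option maxHeartbeats 400000
set_option linter.unusedSectionVars false
set_option linter.style.haveILetI false

namespace CfsgLib.Fail9

open Subgroup CfsgLib.FusionH12 CfsgLib.FusionH12c

universe u v

variable {G : Type v} [Group G] [Finite G] {p : ℕ} [hp : Fact p.Prime]

theorem group_modF (hp2 : p ≠ 2) {M : Type u} [AddCommGroup M] [Finite M] {ρ : G →* AddMonoid.End M}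
    {S H : Subgroup G} (hS : SylIn p S ⊤) (hSH : S ≤ H) (hH : H ≠ ⊤)
    (hmax : ∀ K : Subgroup G, S ≤ K → K ≠ ⊤ → K ≤ H) {x : G} (hxS : x ∈ S)
    (hxO : ∀ P : Subgroup G, IsPGroup p P → x ∈ P → ¬ P.Normal) (hq : Qd ρ x)
    (hpM : ∃ k : ℕ, ∀ m : M, p ^ k • m = 0) {W : AddSubgroup M} (hW : ∀ h ∈ H, ∀ w ∈ W, ρ h w ∈ W)
    (hnW : ¬ Inv ρ W) {t s : ℤ} (hts : ((t * s : ℤ) : ZMod p) = 1)
    {k₀ : ℕ} (hk₀ : ((t ^ k₀ : ℤ) : ZMod p) = -1) :
    ∃ (M₂ : AddSubgroup M) (v₁ v₂ : M) (R : Subgroup G) (h z c : G), FMod p ρ H t s M₂ v₁ v₂ R h z c := by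
  -- the closure of `S`
  have hxstar : x ∈ star x S := mem_star hxS ⟨1, by group⟩
  have hNS : normalizer ((star x S : Subgroup G) : Set G) ≤ H := by
    apply hmax
    · exact le_normalizer.trans nrm_star
    · intro h
      exact hxO _ (hS.pg.to_le (star_le _ _)) hxstar (normalizer_eq_top_iff.1 h)
  obtain ⟨g, hg, hgmax⟩ := Set.exists_max_image {g : G | g ∉ H} (fun g => Nat.card (star x (S ⊓ cj g S)))
    (Set.toFinite _) (by
      by_contra h
      rw [Set.not_nonempty_iff_eq_empty] at h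
      apply hH
      rw [eq_top_iff]
      intro g _
      by_contra hg
      have : g ∈ {g : G | g ∉ H} := hg
      rw [h] at this
      exact this)
  have hg' : g ∉ H := hg
  set R := star x (S ⊓ cj g S) with hR
  have hRR : star x R = R := star_star _ _
  have hRS : R ≤ S := (star_le _ _).trans inf_le_left
  have hRg : R ≤ cj g S := (star_le _ _).trans inf_le_right
  have P1 : ∀ m : G, ∀ A : Subgroup G, star x A = A → A ≤ S → A ≤ cj m S → Nat.card R < Nat.card A → m ∈ H := by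
    intro m A hA hAS hAm hc
    by_contra hm
    have h1 := hgmax m hm
    have h2 : A ≤ star x (S ⊓ cj m S) := by rw [← hA]; exact star_mono (le_inf hAS hAm)
    have h3 := Subgroup.card_le_of_le h2
    omega
  have hcS := card_cj g (star x S)
  have hR1 : R ≠ star x S := by
    intro h
    have h1 : star x S ≤ cj g (star x S) := by
      rw [← star_cj, ← star_star x S, ← h, hRR]
      nth_rewrite 1 [← hRR]
      exact star_mono hRg
    have h2 : star x S = cj g (star x S) := Subgroup.eq_of_le_of_card_ge h1 (by rw [card_cj])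
    exact hg' (hNS (mem_nrm.2 h2.symm))
  have hR2 : R ≠ star x (cj g S) := by
    intro h
    rw [star_cj] at h
    have h1 : cj g (star x S) ≤ star x S := by
      rw [← h, ← hRR]; exact star_mono hRS
    have h2 : cj g (star x S) = star x S := Subgroup.eq_of_le_of_card_ge h1 (by rw [card_cj])
    exact hg' (hNS (mem_nrm.2 h2))
  obtain ⟨y, hyS, hyx, hyN, hyR⟩ := exists_nrm_star hS.pg hRR hRS hR1
  obtain ⟨z, hzS, hzx, hzN, hzR⟩ := exists_nrm_star (isPGroup_cj (a := g) hS.pg) hRR hRg hR2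
  have hlt : ∀ w : G, w ∉ R → Nat.card R < Nat.card ↥(R ⊔ zpowers w) := by
    intro w hw
    apply card_lt_of_lt
    refine lt_of_le_of_ne le_sup_left (fun h => hw ?_)
    rw [h]; exact Subgroup.mem_sup_right (mem_zpowers w)
  -- `N(R)` is not contained in `H`
  have hNR : ¬ normalizer (R : Set G) ≤ H := by
    intro h
    have hA : R ⊔ zpowers z ≤ cj g S := sup_le hRg (zpowers_le.2 hzS)
    obtain ⟨m, hm, hm'⟩ := (hS.mono hSH le_top).exists_conj_le
      ((isPGroup_cj (a := g) hS.pg).to_le hA) (sup_le (hRS.trans hSH) (zpowers_le.2 (h hzN)))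
    have h1 : m * g ∈ H := by
      refine P1 _ (cj m (R ⊔ zpowers z)) (by rw [star_cj, star_sup hRR hzx]) hm' ?_ ?_
      · rw [cj_mul]; exact cj_mono hA
      · rw [card_cj]; exact hlt z hzR
    apply hg'
    have h2 : g = m⁻¹ * (m * g) := by group
    rw [h2]
    exact H.mul_mem (H.inv_mem hm) h1
  -- control of normalizers
  have PP : ∀ P : Subgroup G, IsPGroup p P → P ≤ normalizer (R : Set G) → y ∈ P →
      P ≤ H ∧ ∀ n ∈ normalizer (P : Set G), n ∈ normalizer (R : Set G) → n ∈ H := by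
    intro P hP hPR hyP
    have hRP : IsPGroup p ↥(R ⊔ P) := by
      rw [sup_comm]
      exact hP.to_sup_of_normal_right' (hS.pg.to_le hRS) hPR
    obtain ⟨m, -, hm⟩ := hS.exists_conj_le hRP le_top
    have hm2 : R ⊔ P ≤ cj m⁻¹ S := cj_le_iff.1 hm
    have hAS : R ⊔ zpowers y ≤ S := sup_le hRS (zpowers_le.2 hyS)
    have hAP : R ⊔ zpowers y ≤ R ⊔ P := sup_le_sup le_rfl (zpowers_le.2 hyP)
    have hmH : m⁻¹ ∈ H := P1 _ _ (star_sup hRR hyx) hAS (hAP.trans hm2) (hlt y hyR)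
    have hcjS : cj m⁻¹ S ≤ H := by
      refine (cj_mono hSH).trans ?_
      rw [cj_of_mem hmH]
    refine ⟨le_sup_right.trans (hm2.trans hcjS), fun n hn hnR => ?_⟩
    have h1 : R ⊔ P ≤ cj (n * m⁻¹) S := by
      rw [cj_mul]
      have h2 : cj n (R ⊔ P) = R ⊔ P := by rw [cj_sup, cj_of_mem_nrm hn, cj_of_mem_nrm hnR]
      rw [← h2]; exact cj_mono hm2
    have h3 := P1 _ _ (star_sup hRR hyx) hAS (hAP.trans h1) (hlt y hyR)
    have h4 : n = n * m⁻¹ * (m⁻¹)⁻¹ := by group
    rw [h4]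
    exact H.mul_mem h3 (H.inv_mem hmH)
  have hyp : IsPGroup p (zpowers y) := hS.pg.to_le (zpowers_le.2 hyS)
  -- Frattini
  have FF : ∀ F₀ : Subgroup G, F₀ ≤ normalizer (R : Set G) → y ∈ F₀ → (∀ u ∈ F₀, u * y * u⁻¹ ∈ H) → F₀ ≤ H := by
    intro F₀ hF hyF hall
    let N₁ := closure {w | ∃ u ∈ F₀, w = u * y * u⁻¹}
    have hN₁H : N₁ ≤ H := (closure_le _).2 (by rintro _ ⟨u, hu, rfl⟩; exact hall u hu)
    have hN₁F : N₁ ≤ F₀ := (closure_le _).2 (by
      rintro _ ⟨u, hu, rfl⟩; exact F₀.mul_mem (F₀.mul_mem hu hyF) (F₀.inv_mem hu))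
    have hyN₁ : y ∈ N₁ := subset_closure ⟨1, F₀.one_mem, by group⟩
    have hcjN : ∀ u ∈ F₀, cj u N₁ ≤ N₁ := by
      intro u hu
      rw [cj, MonoidHom.map_closure, closure_le]
      rintro _ ⟨_, ⟨w, hw, rfl⟩, rfl⟩
      refine subset_closure ⟨u * w, F₀.mul_mem hu hw, ?_⟩
      change u * (w * y * w⁻¹) * u⁻¹ = _
      group
    obtain ⟨P, hP1, hP2⟩ := SylIn.exists_ge (p := p) hyp (zpowers_le.2 hyN₁)
    have hPR : P ≤ normalizer (R : Set G) := hP2.le.trans (hN₁F.trans hF)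
    obtain ⟨-, hPP⟩ := PP P hP2.pg hPR (hP1 (mem_zpowers y))
    intro u hu
    obtain ⟨k, hk, hk'⟩ := hP2.exists_conj_le (isPGroup_cj (a := u) hP2.pg) ((cj_mono hP2.le).trans (hcjN u hu))
    rw [← cj_mul] at hk'
    have h1 : k * u ∈ normalizer (P : Set G) := mem_nrm.2
      (Subgroup.eq_of_le_of_card_ge hk' (by rw [card_cj]))
    have h2 := hPP _ h1 (mul_mem (hF (hN₁F hk)) (hF hu))
    have h3 : u = k⁻¹ * (k * u) := by group
    rw [h3]
    exact H.mul_mem (H.inv_mem (hN₁H hk)) h2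
  -- minimal pair
  obtain ⟨e, ⟨heR, heH⟩, hemin⟩ := Set.exists_min_image {e : G | e ∈ normalizer (R : Set G) ∧ e * y * e⁻¹ ∉ H}
    (fun e => Nat.card (closure {y, e * y * e⁻¹} : Subgroup G)) (Set.toFinite _) (by
      by_contra h
      rw [Set.not_nonempty_iff_eq_empty] at h
      apply hNR
      apply FF _ le_rfl hyN
      intro u hu
      by_contra hu'
      have : u ∈ {e : G | e ∈ normalizer (R : Set G) ∧ e * y * e⁻¹ ∉ H} := ⟨hu, hu'⟩
      rw [h] at this
      exact this)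
  set E := (closure {y, e * y * e⁻¹} : Subgroup G) with hE
  have hyE : y ∈ E := subset_closure (Set.mem_insert _ _)
  have hER : E ≤ normalizer (R : Set G) := by
    rw [hE, closure_le]
    rintro w (rfl | hw)
    · exact hyN
    · rw [Set.mem_singleton_iff] at hw
      rw [hw]
      exact mul_mem (mul_mem heR hyN) (inv_mem heR)
  have hEH : ¬ E ≤ H := fun h => heH (h (subset_closure (Set.mem_insert_of_mem _ rfl)))
  have hsub : ∀ F : Subgroup G, F ≤ E → y ∈ F → ¬ F ≤ H → ∃ f ∈ F, f * y * f⁻¹ ∉ H ∧ closure {y, f * y * f⁻¹} = E ∧ F = E := by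
    intro F hFE hyF hFH
    have h1 : ∃ f ∈ F, f * y * f⁻¹ ∉ H := by
      by_contra h
      push Not at h
      exact hFH (FF F (hFE.trans hER) hyF h)
    obtain ⟨f, hf, hfH⟩ := h1
    have h2 : closure {y, f * y * f⁻¹} ≤ F := by
      rw [closure_le]
      rintro w (rfl | hw)
      · exact hyF
      · rw [Set.mem_singleton_iff] at hw
        rw [hw]
        exact F.mul_mem (F.mul_mem hf hyF) (F.inv_mem hf)
    have h3 := hemin f ⟨hER (hFE hf), hfH⟩
    have h4 : closure {y, f * y * f⁻¹} = E := Subgroup.eq_of_le_of_card_ge (h2.trans hFE) h3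
    exact ⟨f, hf, hfH, h4, le_antisymm hFE (h4 ▸ h2)⟩
  obtain ⟨f, hf, hfH, hfE, -⟩ := hsub E le_rfl hyE hEH
  have C : Ctx p (H.subgroupOf E) (⟨y, hyE⟩ : E) ⟨f, hf⟩ := by
    refine ⟨hSH hyS, ?_, ?_, ?_, ?_, ?_⟩
    · intro F hyF hF
      by_contra hFH
      apply hF
      have h1 : ¬ F.map E.subtype ≤ H := by
        intro h
        apply hFH
        intro a ha
        exact h ⟨a, ha, rfl⟩
      obtain ⟨-, -, -, -, h2⟩ := hsub (F.map E.subtype) (by rintro _ ⟨a, ha, rfl⟩; exact a.2) ⟨_, hyF, rfl⟩ h1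
      rw [eq_top_iff]
      intro a _
      have : (a : G) ∈ F.map E.subtype := by rw [h2]; exact a.2
      obtain ⟨b, hb, hb'⟩ := this
      rwa [show b = a from Subtype.ext hb'] at hb
    · intro h
      rw [subgroupOf_eq_top] at h
      exact hEH h
    · intro P hP hyP hPn
      have h1 : IsPGroup p ↥(P.map E.subtype) := hP.map _
      have h2 : P.map E.subtype ≤ E := by rintro _ ⟨a, ha, rfl⟩; exact a.2
      obtain ⟨-, h3⟩ := PP _ h1 (h2.trans hER) ⟨_, hyP, rfl⟩
      apply hEH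
      intro a ha
      refine h3 a ?_ (hER ha)
      rw [mem_normalizer_iff]
      intro w
      constructor
      · rintro ⟨b, hb, rfl⟩
        exact ⟨⟨a, ha⟩ * b * ⟨a, ha⟩⁻¹, hPn.conj_mem b hb _, rfl⟩
      · rintro ⟨b, hb, hb'⟩
        refine ⟨⟨a, ha⟩⁻¹ * b * ⟨a, ha⟩, by simpa using hPn.conj_mem b hb ⟨a, ha⟩⁻¹, ?_⟩
        change a⁻¹ * (b : G) * a = w
        have hb'' : (b : G) = a * w * a⁻¹ := hb'
        rw [hb'']; group
    · obtain ⟨k, hk⟩ := hyp ⟨y, mem_zpowers y⟩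
      have hk' : y ^ p ^ k = 1 := congrArg Subtype.val hk
      exact ⟨k, Subtype.ext hk'⟩
    · apply map_injective E.subtype_injective
      rw [MonoidHom.map_closure, Set.image_pair, ← MonoidHom.range_eq_map, range_subtype]
      exact hfE
  -- `W` is not `E`-invariant
  let NW : Subgroup G :=
    { carrier := {g | (∀ w ∈ W, ρ g w ∈ W) ∧ ∀ w ∈ W, ρ g⁻¹ w ∈ W}
      mul_mem' := fun {a b} ha hb => ⟨fun w hw => by rw [rho_mul]; exact ha.1 _ (hb.1 _ hw), fun w hw => by
        rw [mul_inv_rev, rho_mul]; exact hb.2 _ (ha.2 _ hw)⟩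
      one_mem' := ⟨fun w hw => by rwa [rho_one], fun w hw => by rwa [inv_one, rho_one]⟩
      inv_mem' := fun {a} ha => ⟨ha.2, by rw [inv_inv]; exact ha.1⟩ }
  have hHN : H ≤ NW := fun h hh => ⟨hW h hh, hW _ (H.inv_mem hh)⟩
  have hNWt : NW ≠ ⊤ := by
    intro h
    apply hnW
    intro g w hw
    have : g ∈ NW := by rw [h]; trivial
    exact this.1 w hw
  have hNWH : NW ≤ H := hmax _ (hSH.trans hHN) hNWt
  obtain ⟨u, hu⟩ := hyx
  obtain ⟨M₂, v₁, v₂, R', h, z, c, D⟩ := C.modF hp2 hts hk₀ (ρ := ρ.comp E.subtype) (by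
    have h1 := hq.conj u
    intro w
    have h2 := h1 w
    rw [← hu] at h2
    exact h2) hpM (W := W) (fun h hh w hw => hW h hh w hw) (by
      intro h1
      apply hEH
      refine le_trans ?_ hNWH
      intro a ha
      exact ⟨fun w hw => h1 ⟨a, ha⟩ w hw, fun w hw => h1 ⟨a, ha⟩⁻¹ w hw⟩)
  refine ⟨M₂, v₁, v₂, R'.map E.subtype, h, z, c, ?_⟩
  exact
    { pg := D.pg.map _
      RH := by
        rintro _ ⟨r, hr, rfl⟩
        exact D.RH hr
      hH := D.hH
      cR := ⟨c, D.cR, rfl⟩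
      hR := by
        rintro _ ⟨r, hr, rfl⟩
        exact ⟨h * r * h⁻¹, D.hR r hr, rfl⟩
      zR := by
        rintro _ ⟨r, hr, rfl⟩
        exact congrArg Subtype.val (D.zR r hr)
      RM := by
        rintro _ ⟨r, hr, rfl⟩
        exact D.RM r hr
      hM := D.hM
      zM := D.zM
      v1 := D.v1
      p1 := D.p1
      p2 := D.p2
      cv := D.cv
      Rv1 := by
        rintro _ ⟨r, hr, rfl⟩
        exact D.Rv1 r hr
      Rv2 := by
        rintro _ ⟨r, hr, rfl⟩
        exact D.Rv2 r hr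
      hv1 := D.hv1
      hv2 := D.hv2
      zv1 := D.zv1
      zv2 := D.zv2 }

end CfsgLib.Fail9
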