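import Cfsg.Agent.LibFail9N
import Cfsg.Agent.LibFail9F
/-! The graph of the partial homomorphism onto the unitriangular group. Seat helper9. -/
set_option autoImplicit false
set_option maxHeartbeats 400000
set_option linter.unusedSectionVars false
set_option linter.style.haveILetI false

namespace CfsgLib.Fail9

open Subgroup CfsgLib.FusionH12
open scoped commutatorElement

universe u v

/-- the ambient matrix group -/
abbrev Fm (p : ℕ) := Matrix.SpecialLinearGroup (Fin 3) (ZMod p)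

/-- unitriangular matrices -/
def Am {p : ℕ} (n a b : ZMod p) : Fm p := ⟨!![1, n, a; 0, 1, b; 0, 0, 1], by
  rw [Matrix.det_fin_three]; simp⟩

/-- diagonal matrices -/
def Dm {p : ℕ} (t s : ZMod p) (h : t * s = 1) : Fm p := ⟨!![t, 0, 0; 0, s, 0; 0, 0, 1], by
  rw [Matrix.det_fin_three]; simp [h]⟩

theorem Am_mul {p : ℕ} (n a b n' a' b' : ZMod p) : Am n a b * Am n' a' b' = Am (n + n') (a + a' + n * b') (b + b') := by
  apply Subtype.ext
  change (!![1, n, a; 0, 1, b; 0, 0, 1] : Matrix (Fin 3) (Fin 3) (ZMod p)) * !![1, n', a'; 0, 1, b'; 0, 0, 1] =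
    !![1, n + n', a + a' + n * b'; 0, 1, b + b'; 0, 0, 1]
  ext i j
  fin_cases i <;> fin_cases j <;> simp [Matrix.mul_apply, Fin.sum_univ_three] <;> ring

theorem Am_zero {p : ℕ} : (Am 0 0 0 : Fm p) = 1 := by
  apply Subtype.ext
  change (!![1, 0, 0; 0, 1, 0; 0, 0, 1] : Matrix (Fin 3) (Fin 3) (ZMod p)) = 1
  ext i j
  fin_cases i <;> fin_cases j <;> simp

theorem Am_inj {p : ℕ} {n a b n' a' b' : ZMod p} (h : Am n a b = Am n' a' b') : n = n' ∧ a = a' ∧ b = b' := by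
  have h1 : (!![1, n, a; 0, 1, b; 0, 0, 1] : Matrix (Fin 3) (Fin 3) (ZMod p)) = !![1, n', a'; 0, 1, b'; 0, 0, 1] :=
    congrArg Subtype.val h
  refine ⟨?_, ?_, ?_⟩
  · simpa using congrFun (congrFun h1 0) 1
  · simpa using congrFun (congrFun h1 0) 2
  · simpa using congrFun (congrFun h1 1) 2

theorem Dm_conj {p : ℕ} {t s : ZMod p} (h : t * s = 1) (n a b : ZMod p) :
    Dm t s h * Am n a b * (Dm t s h)⁻¹ = Am (t * t * n) (t * a) (s * b) := by
  rw [mul_inv_eq_iff_eq_mul]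
  apply Subtype.ext
  change (!![t, 0, 0; 0, s, 0; 0, 0, 1] : Matrix (Fin 3) (Fin 3) (ZMod p)) * !![1, n, a; 0, 1, b; 0, 0, 1] =
    !![1, t * t * n, t * a; 0, 1, s * b; 0, 0, 1] * !![t, 0, 0; 0, s, 0; 0, 0, 1]
  ext i j
  fin_cases i <;> fin_cases j <;> simp [Matrix.mul_apply, Fin.sum_univ_three]
  linear_combination -(t * n) * h

/-- the data inside a subgroup `H` -/
def FD (p : ℕ) (d : Fm p) (G : Type u) [Group G] (H : Subgroup G) : Prop :=
  ∃ (Γ : Subgroup (G × Fm p)) (h : G), (∀ x ∈ Γ, x.1 = 1 → x.2 = 1) ∧ (∀ x ∈ Γ, x.1 ∈ H) ∧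
    IsPGroup p ↥(Γ.map (MonoidHom.fst G (Fm p))) ∧ h ∈ H ∧ (∀ x ∈ Γ, (h, d) * x * (h, d)⁻¹ ∈ Γ) ∧
    (∀ n a b : ZMod p, ∃ x ∈ Γ, x.2 = Am n a b) ∧ (∀ x ∈ Γ, ∃ n a b, x.2 = Am n a b)

variable {G : Type u} [Group G]

/-- divisibility from non-membership -/
theorem dvd_of_smul_mem {M : Type*} [AddCommGroup M] {p : ℕ} [hp : Fact p.Prime] {M₂ : AddSubgroup M} {v : M} (hv : v ∉ M₂)
    (hpv : p • v ∈ M₂) {n : ℤ} (hn : n • v ∈ M₂) : ((n : ℤ) : ZMod p) = 0 := by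
  rw [ZMod.intCast_zmod_eq_zero_iff_dvd]
  by_contra hcon
  apply hv
  have h1 : IsCoprime (p : ℤ) n := (Nat.prime_iff_prime_int.1 hp.out).coprime_iff_not_dvd.2 hcon
  obtain ⟨a, b, hab⟩ := h1
  have h2 : (p : ℤ) • v ∈ M₂ := by rw [natCast_zsmul]; exact hpv
  rw [← one_smul ℤ v, ← hab, add_smul, mul_smul, mul_smul]
  exact M₂.add_mem (M₂.zsmul_mem h2 a) (M₂.zsmul_mem hn b)

theorem smul_mem_of_dvd {M : Type*} [AddCommGroup M] {p : ℕ} {M₂ : AddSubgroup M} {v : M}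
    (hpv : p • v ∈ M₂) {n : ℤ} (hn : ((n : ℤ) : ZMod p) = 0) : n • v ∈ M₂ := by
  rw [ZMod.intCast_zmod_eq_zero_iff_dvd] at hn
  obtain ⟨c, rfl⟩ := hn
  rw [mul_comm, mul_smul, natCast_zsmul]
  exact M₂.zsmul_mem hpv c

/-- the class of an element -/
noncomputable def cl {B : Subgroup G} (b : B) : Additive (Abelianization B) := Additive.ofMul (Abelianization.of b)

theorem cl_mul {B : Subgroup G} (a b : B) : cl (a * b) = cl a + cl b := by
  unfold cl; rw [map_mul]; rfl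

theorem cl_inv {B : Subgroup G} (a : B) : cl a⁻¹ = -cl a := by
  unfold cl; rw [map_inv]; rfl

theorem cl_act {B : Subgroup G} [hB : B.Normal] (g : G) (b : B) :
    abEnd B g (cl b) = cl ⟨g * b * g⁻¹, hB.conj_mem b b.2 g⟩ := abEnd_apply B g b

theorem cl_triv {B : Subgroup G} [hB : B.Normal] (g : B) (m : Additive (Abelianization B)) : abEnd B g m = m := by
  obtain ⟨b, rfl⟩ := ab_surj B m
  change abEnd B g (cl b) = cl b
  rw [cl_act]
  have e : (⟨g * b * (g : G)⁻¹, hB.conj_mem b b.2 g⟩ : B) = g * b * g⁻¹ := rfl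
  rw [e, cl_mul, cl_mul, cl_inv]
  abel

theorem fd_of_mod [Finite G] {p : ℕ} [hp : Fact p.Prime] (hp2 : p ≠ 2) {B : Subgroup G} [hB : B.Normal] (hBp : IsPGroup p B)
    {H : Subgroup G} (hBH : B ≤ H) {t s : ℤ} (hts : ((t : ℤ) : ZMod p) * ((s : ℤ) : ZMod p) = 1)
    {M₂ : AddSubgroup (Additive (Abelianization B))} {v₁ v₂ : Additive (Abelianization B)} {R : Subgroup G} {h z c : G}
    (D : FMod p (abEnd B) H t s M₂ v₁ v₂ R h z c) : FD p (Dm (t : ZMod p) (s : ZMod p) hts) G H := by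
  set ρ := abEnd B with hρ
  -- working modulo `M₂`
  let Γ : Subgroup (G × Fm p) :=
    { carrier := {x | ∃ b : B, ∃ r ∈ R, ∃ n α β : ℤ, x.1 = b * r ∧ x.2 = Am (n : ZMod p) (α : ZMod p) (β : ZMod p) ∧
        cl b - (α • v₁ + β • v₂) ∈ M₂ ∧ ρ r v₂ - (v₂ + n • v₁) ∈ M₂}
      one_mem' := by
        refine ⟨1, 1, R.one_mem, 0, 0, 0, by simp, ?_, ?_, ?_⟩
        · push_cast; exact Am_zero.symm
        · have : cl (1 : B) = 0 := by unfold cl; rw [map_one]; rfl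
          rw [this]; simp
        · rw [rho_one]; simp
      mul_mem' := by
        rintro x x' ⟨b, r, hr, n, α, β, h1, h2, h3, h4⟩ ⟨b', r', hr', n', α', β', h1', h2', h3', h4'⟩
        refine ⟨b * ⟨r * b' * r⁻¹, hB.conj_mem b' b'.2 r⟩, r * r', R.mul_mem hr hr', n + n', α + α' + n * β', β + β', ?_, ?_, ?_, ?_⟩
        · rw [Prod.fst_mul, h1, h1']
          change _ = ((b : G) * (r * b' * r⁻¹)) * (r * r')
          group
        · rw [Prod.snd_mul, h2, h2', Am_mul]; push_cast; rfl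
        · rw [cl_mul, ← cl_act]
          have e : cl b + ρ r (cl b') - ((α + α' + n * β') • v₁ + (β + β') • v₂) =
              (cl b - (α • v₁ + β • v₂)) + ρ r (cl b' - (α' • v₁ + β' • v₂)) +
              (α' • (ρ r v₁ - v₁) + β' • (ρ r v₂ - (v₂ + n • v₁))) := by
            rw [map_sub, map_add, map_zsmul, map_zsmul]
            module
          rw [e]
          exact M₂.add_mem (M₂.add_mem h3 (D.RM r hr _ h3'))
            (M₂.add_mem (M₂.zsmul_mem (D.Rv1 r hr) _) (M₂.zsmul_mem h4 _))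
        · have e : ρ (r * r') v₂ - (v₂ + (n + n') • v₁) =
              ρ r (ρ r' v₂ - (v₂ + n' • v₁)) + (ρ r v₂ - (v₂ + n • v₁)) + n' • (ρ r v₁ - v₁) := by
            rw [rho_mul, map_sub, map_add, map_zsmul]
            module
          rw [e]
          exact M₂.add_mem (M₂.add_mem (D.RM r hr _ h4') h4) (M₂.zsmul_mem (D.Rv1 r hr) _)
      inv_mem' := by
        rintro x ⟨b, r, hr, n, α, β, h1, h2, h3, h4⟩
        have hri := R.inv_mem hr
        refine ⟨⟨r⁻¹ * (b⁻¹ : B) * r⁻¹⁻¹, hB.conj_mem _ (b⁻¹).2 r⁻¹⟩, r⁻¹, hri, -n, -α + n * β, -β, ?_, ?_, ?_, ?_⟩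
        · rw [Prod.fst_inv, h1]
          change _ = (r⁻¹ * (b : G)⁻¹ * r⁻¹⁻¹) * r⁻¹
          group
        · rw [Prod.snd_inv, h2, inv_eq_iff_mul_eq_one, Am_mul, ← Am_zero]
          push_cast
          congr 1 <;> ring
        · rw [← cl_act, cl_inv, map_neg]
          have e : -ρ r⁻¹ (cl b) - ((-α + n * β) • v₁ + (-β) • v₂) =
              -ρ r⁻¹ (cl b - (α • v₁ + β • v₂)) +
              ρ r⁻¹ ((α - n * β) • (ρ r v₁ - v₁) + β • (ρ r v₂ - (v₂ + n • v₁))) := by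
            have e1 : ρ r⁻¹ (ρ r v₁) = v₁ := rho_inv ρ r v₁
            have e2 : ρ r⁻¹ (ρ r v₂) = v₂ := rho_inv ρ r v₂
            simp only [map_sub, map_add, map_zsmul, e1, e2]
            module
          rw [e]
          refine M₂.add_mem (M₂.neg_mem (D.RM _ hri _ h3)) (D.RM _ hri _ ?_)
          exact M₂.add_mem (M₂.zsmul_mem (D.Rv1 r hr) _) (M₂.zsmul_mem h4 _)
        · have e : ρ r⁻¹ v₂ - (v₂ + (-n) • v₁) =
              ρ r⁻¹ (-(ρ r v₂ - (v₂ + n • v₁)) + n • (ρ r v₁ - v₁)) + n • v₁ - n • v₁ := by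
            have e1 : ρ r⁻¹ (ρ r v₁) = v₁ := rho_inv ρ r v₁
            have e2 : ρ r⁻¹ (ρ r v₂) = v₂ := rho_inv ρ r v₂
            simp only [map_sub, map_add, map_zsmul, map_neg, e1, e2]
            module
          rw [e, add_sub_cancel_right]
          exact D.RM _ hri _ (M₂.add_mem (M₂.neg_mem h4) (M₂.zsmul_mem (D.Rv1 r hr) _)) }
  have hΓ : ∀ x, x ∈ Γ ↔ ∃ b : B, ∃ r ∈ R, ∃ n α β : ℤ, x.1 = b * r ∧ x.2 = Am (n : ZMod p) (α : ZMod p) (β : ZMod p) ∧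
        cl b - (α • v₁ + β • v₂) ∈ M₂ ∧ ρ r v₂ - (v₂ + n • v₁) ∈ M₂ := fun x => Iff.rfl
  refine ⟨Γ, h, ?_, ?_, ?_, D.hH, ?_, ?_, ?_⟩
  · rintro x ⟨b, r, hr, n, α, β, h1, h2, h3, h4⟩ hx
    rw [h1] at hx
    have hrb : r = ((b⁻¹ : B) : G) := by
      rw [eq_comm]
      exact inv_eq_of_mul_eq_one_right hx
    rw [hrb, cl_triv] at h4
    have h5 : n • v₁ ∈ M₂ := by
      have e : v₂ - (v₂ + n • v₁) = -(n • v₁) := by abel
      rw [e] at h4
      simpa using M₂.neg_mem h4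
    have hn := dvd_of_smul_mem D.v1 D.p1 h5
    -- the central element
    have hzb : z * b * z⁻¹ = b := by
      have h6 := D.zR r hr
      rw [hrb] at h6
      have h7 : z * (b : G)⁻¹ = (b : G)⁻¹ * z := h6
      have h8 : (b : G) * z = z * b := by
        calc (b : G) * z = b * (z * (b : G)⁻¹) * b := by group
          _ = b * ((b : G)⁻¹ * z) * b := by rw [h7]
          _ = z * b := by group
      rw [← h8]; group
    have hzc : ρ z (cl b) = cl b := by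
      rw [cl_act]
      congr 1
      exact Subtype.ext hzb
    have h6 : ρ z (cl b - (α • v₁ + β • v₂)) ∈ M₂ := D.zM _ h3
    have h7 : (2 : ℤ) • (α • v₁ + β • v₂) ∈ M₂ := by
      have e : (2 : ℤ) • (α • v₁ + β • v₂) = ρ z (cl b - (α • v₁ + β • v₂)) - (cl b - (α • v₁ + β • v₂)) +
          (α • (ρ z v₁ + v₁) + β • (ρ z v₂ + v₂)) := by
        simp only [map_sub, map_add, map_zsmul, hzc]
        module
      rw [e]
      exact M₂.add_mem (M₂.sub_mem h6 h3) (M₂.add_mem (M₂.zsmul_mem D.zv1 _) (M₂.zsmul_mem D.zv2 _))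
    have h8 : α • v₁ + β • v₂ ∈ M₂ := by
      by_contra hcon
      have h9 : p • (α • v₁ + β • v₂) ∈ M₂ := by
        have e : p • (α • v₁ + β • v₂) = α • (p • v₁) + β • (p • v₂) := by
          rw [smul_add, smul_comm, smul_comm p β]
        rw [e]
        exact M₂.add_mem (M₂.zsmul_mem D.p1 _) (M₂.zsmul_mem D.p2 _)
      have h10 := dvd_of_smul_mem hcon h9 h7
      rw [ZMod.intCast_zmod_eq_zero_iff_dvd] at h10
      have h11 : p ∣ 2 := by exact_mod_cast h10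
      exact hp2 ((Nat.prime_dvd_prime_iff_eq hp.out Nat.prime_two).1 h11)
    have h9 : β • v₁ ∈ M₂ := by
      have e : β • v₁ = ρ c (α • v₁ + β • v₂) - (α • v₁ + β • v₂) - α • (ρ c v₁ - v₁) - β • (ρ c v₂ - (v₂ + v₁)) := by
        simp only [map_add, map_zsmul]
        module
      rw [e]
      exact M₂.sub_mem (M₂.sub_mem (M₂.sub_mem (D.RM c D.cR _ h8) h8) (M₂.zsmul_mem (D.Rv1 c D.cR) _)) (M₂.zsmul_mem D.cv _)
    have hβ := dvd_of_smul_mem D.v1 D.p1 h9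
    have h10 : β • v₂ ∈ M₂ := smul_mem_of_dvd D.p2 hβ
    have h11 : α • v₁ ∈ M₂ := by
      have e : α • v₁ = (α • v₁ + β • v₂) - β • v₂ := by abel
      rw [e]; exact M₂.sub_mem h8 h10
    have hα := dvd_of_smul_mem D.v1 D.p1 h11
    rw [h2, hn, hα, hβ, Am_zero]
  · rintro x ⟨b, r, hr, n, α, β, h1, h2, h3, h4⟩
    rw [h1]
    exact H.mul_mem (hBH b.2) (D.RH hr)
  · have h1 : IsPGroup p ↥(B ⊔ R) := hBp.to_sup_of_normal_left D.pg
    refine h1.to_le ?_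
    rintro _ ⟨x, ⟨b, r, hr, n, α, β, h1, -⟩, rfl⟩
    change x.1 ∈ _
    rw [h1]
    exact mul_mem (Subgroup.mem_sup_left b.2) (Subgroup.mem_sup_right hr)
  · rintro x ⟨b, r, hr, n, α, β, h1, h2, h3, h4⟩
    refine ⟨⟨h * b * h⁻¹, hB.conj_mem b b.2 h⟩, h * r * h⁻¹, D.hR r hr, t * t * n, t * α, s * β, ?_, ?_, ?_, ?_⟩
    · rw [Prod.fst_mul, Prod.fst_mul, Prod.fst_inv, h1]
      change h * ((b : G) * r) * h⁻¹ = (h * b * h⁻¹) * (h * r * h⁻¹)
      group
    · rw [Prod.snd_mul, Prod.snd_mul, Prod.snd_inv, h2, Dm_conj]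
      push_cast; rfl
    · rw [← cl_act]
      have e : ρ h (cl b) - ((t * α) • v₁ + (s * β) • v₂) = ρ h (cl b - (α • v₁ + β • v₂)) +
          (α • (ρ h v₁ - t • v₁) + β • (ρ h v₂ - s • v₂)) := by
        simp only [map_sub, map_add, map_zsmul]
        module
      rw [e]
      exact M₂.add_mem (D.hM _ h3) (M₂.add_mem (M₂.zsmul_mem D.hv1 _) (M₂.zsmul_mem D.hv2 _))
    · have hts' : ((t * s - 1 : ℤ) : ZMod p) = 0 := by push_cast; rw [hts, sub_self]
      have h5 : (t * s - 1) • v₂ ∈ M₂ := smul_mem_of_dvd D.p2 hts'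
      have h6 : ρ (h * r * h⁻¹) (v₂ - t • ρ h v₂) ∈ M₂ := by
        refine D.RM _ (D.hR r hr) _ ?_
        have e : v₂ - t • ρ h v₂ = -((t * s - 1) • v₂) - t • (ρ h v₂ - s • v₂) := by module
        rw [e]
        exact M₂.sub_mem (M₂.neg_mem h5) (M₂.zsmul_mem D.hv2 _)
      have e : ρ (h * r * h⁻¹) v₂ - (v₂ + (t * t * n) • v₁) = ρ (h * r * h⁻¹) (v₂ - t • ρ h v₂) +
          t • ρ h (ρ r v₂ - (v₂ + n • v₁)) + (t * n) • (ρ h v₁ - t • v₁) + t • (ρ h v₂ - s • v₂) + (t * s - 1) • v₂ := by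
        have e1 : ρ (h * r * h⁻¹) (ρ h v₂) = ρ h (ρ r v₂) := by
          rw [rho_mul, rho_mul, rho_inv]
        simp only [map_sub, map_add, map_zsmul, e1]
        module
      rw [e]
      exact M₂.add_mem (M₂.add_mem (M₂.add_mem (M₂.add_mem h6 (M₂.zsmul_mem (D.hM _ h4) _)) (M₂.zsmul_mem D.hv1 _))
        (M₂.zsmul_mem D.hv2 _)) h5
  · intro n α β
    obtain ⟨b, hb⟩ := ab_surj B ((α.val : ℤ) • v₁ + (β.val : ℤ) • v₂)
    have hcn : ∀ n : ℕ, ρ (c ^ n) v₂ - (v₂ + (n : ℤ) • v₁) ∈ M₂ := by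
      intro n
      induction n with
      | zero => rw [pow_zero, rho_one]; simp
      | succ n ih =>
        have e : ρ (c ^ (n + 1)) v₂ - (v₂ + ((n + 1 : ℕ) : ℤ) • v₁) = ρ c (ρ (c ^ n) v₂ - (v₂ + (n : ℤ) • v₁)) +
            (ρ c v₂ - (v₂ + v₁)) + (n : ℤ) • (ρ c v₁ - v₁) := by
          rw [pow_succ', rho_mul, map_sub, map_add, map_zsmul]
          push_cast
          module
        rw [e]
        exact M₂.add_mem (M₂.add_mem (D.RM c D.cR _ ih) D.cv) (M₂.zsmul_mem (D.Rv1 c D.cR) _)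
    refine ⟨((b : G) * c ^ n.val, Am n α β), ⟨b, c ^ n.val, R.pow_mem D.cR _, n.val, α.val, β.val, rfl, ?_, ?_, hcn _⟩, rfl⟩
    · simp
    · change cl b - _ ∈ M₂
      rw [show cl b = (α.val : ℤ) • v₁ + (β.val : ℤ) • v₂ from hb.symm, sub_self]
      exact M₂.zero_mem
  · rintro x ⟨b, r, hr, n, α, β, h1, h2, -⟩
    exact ⟨_, _, _, h2⟩

end CfsgLib.Fail9
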