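import Cfsg.Agent.LibFail9P
/-! Transport of the `F(p)` data. Seat helper9. -/
set_option autoImplicit false
set_option maxHeartbeats 400000
set_option linter.unusedSectionVars false
set_option linter.style.haveILetI false

namespace CfsgLib.Fail9

open Cfsg Subgroup CfsgLib.FusionH12 CfsgLib.FusionH12b CfsgLib.FusionH12c CfsgLib.SecH12
open CfsgLib.FusionH12d CfsgLib.FusionH12e CfsgLib.FusionH12f CfsgLib.DZJ9 CfsgLib.DFus9 CfsgLib.Qd9
open CfsgLib.H2Thomp CfsgLib.H2ZJ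

universe u

/-- the data -/
structure FDat (p : ℕ) (d : Fm p) {G : Type u} [Group G] (Γ : Subgroup (G × Fm p)) (h : G) : Prop where
  inj : ∀ x ∈ Γ, x.1 = 1 → x.2 = 1
  pg : IsPGroup p ↥(Γ.map (MonoidHom.fst G (Fm p)))
  nrm : ∀ x ∈ Γ, (h, d) * x * (h, d)⁻¹ ∈ Γ
  sur : ∀ n a b : ZMod p, ∃ x ∈ Γ, x.2 = Am n a b
  frm : ∀ x ∈ Γ, ∃ n a b, x.2 = Am n a b

theorem FDat.fd {p : ℕ} {d : Fm p} {G : Type u} [Group G] {Γ : Subgroup (G × Fm p)} {h : G} (D : FDat p d Γ h)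
    {H : Subgroup G} (h1 : ∀ x ∈ Γ, x.1 ∈ H) (hh : h ∈ H) : FD p d G H :=
  ⟨Γ, h, D.inj, h1, D.pg, hh, D.nrm, D.sur, D.frm⟩

theorem FD.dat {p : ℕ} {d : Fm p} {G : Type u} [Group G] {H : Subgroup G} (D : FD p d G H) :
    ∃ (Γ : Subgroup (G × Fm p)) (h : G), FDat p d Γ h ∧ (∀ x ∈ Γ, x.1 ∈ H) ∧ h ∈ H := by
  obtain ⟨Γ, h, h1, h2, h3, h4, h5, h6, h7⟩ := D
  exact ⟨Γ, h, ⟨h1, h3, h5, h6, h7⟩, h2, h4⟩

variable {p : ℕ} {d : Fm p}

theorem FDat.agree {G : Type u} [Group G] {Γ : Subgroup (G × Fm p)} {h : G} (D : FDat p d Γ h) {h' : G}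
    (ha : ∀ e ∈ Γ.map (MonoidHom.fst G (Fm p)), h' * e * h'⁻¹ = h * e * h⁻¹) : FDat p d Γ h' where
  inj := D.inj
  pg := D.pg
  nrm := by
    intro x hx
    have h1 := D.nrm x hx
    have h2 : (h', d) * x * (h', d)⁻¹ = (h, d) * x * (h, d)⁻¹ :=
      Prod.ext (ha x.1 ⟨x, hx, rfl⟩) rfl
    rw [h2]; exact h1
  sur := D.sur
  frm := D.frm

/-- transport along an injective homomorphism -/
theorem FDat.map {G G' : Type u} [Group G] [Group G'] {Γ : Subgroup (G × Fm p)} {h : G} (D : FDat p d Γ h) {f : G →* G'}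
    (hf : Function.Injective f) : FDat p d (Γ.map (MonoidHom.prodMap f (MonoidHom.id (Fm p)))) (f h) where
  inj := by
    rintro _ ⟨x, hx, rfl⟩ h1
    have h2 : f x.1 = 1 := h1
    exact D.inj x hx (hf (h2.trans (map_one f).symm))
  pg := by
    have h1 : (Γ.map (MonoidHom.prodMap f (MonoidHom.id (Fm p)))).map (MonoidHom.fst G' (Fm p)) =
        (Γ.map (MonoidHom.fst G (Fm p))).map f := by
      rw [Subgroup.map_map, Subgroup.map_map]
      rfl
    rw [h1]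
    exact D.pg.map _
  nrm := by
    rintro _ ⟨x, hx, rfl⟩
    refine ⟨_, D.nrm x hx, ?_⟩
    rw [map_mul, map_mul, map_inv]
    rfl
  sur := by
    intro n a b
    obtain ⟨x, hx, h1⟩ := D.sur n a b
    exact ⟨_, ⟨x, hx, rfl⟩, h1⟩
  frm := by
    rintro _ ⟨x, hx, rfl⟩
    exact D.frm x hx

theorem FDat.norm_fst {G : Type u} [Group G] {Γ : Subgroup (G × Fm p)} {h : G} (D : FDat p d Γ h) :
    cj h (Γ.map (MonoidHom.fst G (Fm p))) ≤ Γ.map (MonoidHom.fst G (Fm p)) := by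
  rw [cj_le']
  rintro _ ⟨x, hx, rfl⟩
  exact ⟨_, D.nrm x hx, rfl⟩

/-- pull back along a homomorphism, cutting by a subgroup -/
theorem FDat.comap {G G' : Type u} [Group G] [Group G'] {Γ : Subgroup (G' × Fm p)} {h : G} {π : G →* G'}
    (D : FDat p d Γ (π h)) {S : Subgroup G} (hS : IsPGroup p S)
    (hΓ : ∀ x ∈ Γ, ∃ s ∈ S, π s = x.1)
    (hn : ∀ s ∈ S, (∃ a, (π s, a) ∈ Γ) → h * s * h⁻¹ ∈ S) :
    FDat p d (Γ.comap (MonoidHom.prodMap π (MonoidHom.id (Fm p))) ⊓ S.comap (MonoidHom.fst G (Fm p))) h where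
  inj := by
    intro x hx h1
    have h2 : (π x.1, x.2) ∈ Γ := (Subgroup.mem_inf.1 hx).1
    refine D.inj _ h2 ?_
    change π x.1 = 1
    rw [h1, map_one]
  pg := by
    refine hS.to_le ?_
    rintro _ ⟨x, hx, rfl⟩
    exact (Subgroup.mem_inf.1 hx).2
  nrm := by
    intro x hx
    have h2 : (π x.1, x.2) ∈ Γ := (Subgroup.mem_inf.1 hx).1
    have h3 : x.1 ∈ S := (Subgroup.mem_inf.1 hx).2
    refine Subgroup.mem_inf.2 ⟨?_, hn x.1 h3 ⟨x.2, h2⟩⟩
    have h4 := D.nrm _ h2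
    change MonoidHom.prodMap π (MonoidHom.id (Fm p)) ((h, d) * x * (h, d)⁻¹) ∈ Γ
    rw [map_mul, map_mul, map_inv]
    exact h4
  sur := by
    intro n a b
    obtain ⟨x, hx, h1⟩ := D.sur n a b
    obtain ⟨s, hs, h2⟩ := hΓ x hx
    refine ⟨(s, x.2), Subgroup.mem_inf.2 ⟨?_, hs⟩, h1⟩
    change (π s, x.2) ∈ Γ
    rw [h2]; exact hx
  frm := by
    intro x hx
    exact D.frm _ (Subgroup.mem_inf.1 hx).1

theorem FDat.conj {G : Type u} [Group G] {Γ : Subgroup (G × Fm p)} {h : G} (D : FDat p d Γ h) (m : G) :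
    FDat p d (Γ.map (MonoidHom.prodMap (MulAut.conj m).toMonoidHom (MonoidHom.id (Fm p)))) (m * h * m⁻¹) :=
  D.map (f := (MulAut.conj m).toMonoidHom) (MulAut.conj m).injective

theorem fst_map_map {G G' : Type u} [Group G] [Group G'] (Γ : Subgroup (G × Fm p)) (f : G →* G') :
    (Γ.map (MonoidHom.prodMap f (MonoidHom.id (Fm p)))).map (MonoidHom.fst G' (Fm p)) =
        (Γ.map (MonoidHom.fst G (Fm p))).map f := by
  rw [Subgroup.map_map, Subgroup.map_map]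
  rfl

/-- moving the data into a Sylow subgroup -/
theorem FD.sylow {G : Type u} [Group G] [Finite G] [hp : Fact p.Prime] {H T : Subgroup G} (D : FD p d G H)
    (hT : SylIn p T H) : ∃ (Γ : Subgroup (G × Fm p)) (h : G), FDat p d Γ h ∧
      Γ.map (MonoidHom.fst G (Fm p)) ≤ T ∧ h ∈ H := by
  obtain ⟨Γ, h, D, h1, h2⟩ := D.dat
  obtain ⟨m, hm, hm'⟩ := hT.exists_conj_le D.pg (by rintro _ ⟨x, hx, rfl⟩; exact h1 x hx)
  refine ⟨_, _, D.conj m, ?_, H.mul_mem (H.mul_mem hm h2) (H.inv_mem hm)⟩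
  rw [fst_map_map]
  exact hm'

theorem fd_tr [hp : Fact p.Prime] {W : ∀ (Q : Type u) [Group Q], Subgroup Q}
    (hcore : ∀ (G : Type u) [Group G] [Finite G] (S : Sylow p G) (D Y : Subgroup G),
    IsStronglyClosed D (S : Subgroup G) → centralizer (pCore p G : Set G) ≤ pCore p G →
    Y ≤ inducedFunctor (G := G) W D → (S : Subgroup G) ≤ normalizer (Y : Set G) →
    normalizer (inducedFunctor (G := G) W D : Set G) ≤ normalizer (Y : Set G) → normalizer (Y : Set G) ≠ ⊤ →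
    (∀ K : Subgroup G, (S : Subgroup G) ≤ K → K ≠ ⊤ → K ≤ normalizer (Y : Set G)) →
      FD p d G (normalizer (Y : Set G))) :
    Tr p W (fun G _ Y => FD p d G (normalizer (Y : Set G))) where
  core := hcore
  sub := by
    intro G _ _ S L T Y Y' hS hSY hY'Y hY'T hTS hTL hTY' hctl D
    have hYL : Y' ≤ L := hY'T.trans hTL.le
    have hn : ∀ n : L, n ∈ normalizer ((Y'.subgroupOf L : Subgroup L) : Set L) → (n : G) ∈ normalizer (Y' : Set G) := by
      intro n hn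
      rw [mem_nrm] at hn ⊢
      have h1 := congrArg (Subgroup.map L.subtype) hn
      rw [map_cj, subgroupOf_map_subtype, inf_eq_left.2 hYL] at h1
      exact h1
    obtain ⟨Γ, h, D, h1, h2⟩ := D.dat
    have D' := D.map L.subtype_injective
    have hFD : FD p d G (L ⊓ normalizer (Y' : Set G)) := by
      refine D'.fd ?_ ⟨h.2, hn h h2⟩
      rintro _ ⟨x, hx, rfl⟩
      exact ⟨x.1.2, hn _ (h1 x hx)⟩
    obtain ⟨Γ', h', D'', h3, h4⟩ := hFD.sylow (hTL.mono (le_inf hTL.le hTY') inf_le_left)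
    obtain ⟨h₂, hh₂, hag⟩ := hctl _ h3 h' (Subgroup.mem_inf.1 h4).2 (D''.norm_fst.trans h3)
    exact (D''.agree hag).fd (fun x hx => hSY (hTS (h3 ⟨x, hx, rfl⟩))) hh₂
  pq := by
    intro G _ _ S Y K _ hcop hYS hSY D
    set π := QuotientGroup.mk' K with hπ
    have hπs : Function.Surjective π := QuotientGroup.mk'_surjective K
    have hker : π.ker = K := QuotientGroup.ker_mk' K
    have hSYb : (S : Subgroup G).map π ≤ normalizer ((Y.map π : Subgroup (G ⧸ K)) : Set (G ⧸ K)) := by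
      rintro _ ⟨s, hs, rfl⟩
      rw [mem_nrm, ← map_cj, cj_of_mem_nrm (hSY hs)]
    have hSS : SylIn p ((S : Subgroup G).map π) (normalizer ((Y.map π : Subgroup (G ⧸ K)) : Set (G ⧸ K))) :=
      (sylIn_map_mk S K).mono hSYb le_top
    obtain ⟨Γ, h', D, h1, h2⟩ := D.sylow hSS
    obtain ⟨x₀, rfl⟩ := hπs h'
    obtain ⟨h₀, hh₀, hhx⟩ := exists_lift_normalizer (S.2.to_le hYS) hcop x₀ h2
    -- the part of `S`
    let E : Subgroup G := (S : Subgroup G) ⊓ (Γ.map (MonoidHom.fst (G ⧸ K) (Fm p))).comap π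
    have hES : E ≤ S := inf_le_left
    have hEp : IsPGroup p E := S.2.to_le hES
    have hEm : E.map π = Γ.map (MonoidHom.fst (G ⧸ K) (Fm p)) := by
      apply le_antisymm
      · rintro _ ⟨e, he, rfl⟩
        exact (Subgroup.mem_inf.1 he).2
      · intro x hx
        obtain ⟨s, hs, rfl⟩ := h1 hx
        exact ⟨s, Subgroup.mem_inf.2 ⟨hs, hx⟩, rfl⟩
    have hcE : cj h₀ E ≤ E ⊔ K := by
      rw [← hker]
      apply le_sup_ker_of_map_le
      rw [map_cj, hEm, show π h₀ = π x₀ from hhx]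
      exact D.norm_fst
    have hcN : cj h₀ E ≤ normalizer (Y : Set G) := by
      refine (cj_mono (hES.trans hSY)).trans ?_
      rw [cj_of_mem hh₀]
    have hEs : SylIn p E ((E ⊔ K) ⊓ normalizer (Y : Set G)) :=
      (sylIn_sup_pprime hEp hcop).mono (le_inf le_sup_left (hES.trans hSY)) inf_le_left
    obtain ⟨m, hm, hm'⟩ := hEs.exists_conj_le (isPGroup_cj hEp) (le_inf hcE hcN)
    obtain ⟨e, he, k, hk, hek⟩ := Subgroup.mem_sup_of_normal_right.1 (Subgroup.mem_inf.1 hm).1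
    have hkN : k ∈ normalizer (Y : Set G) := by
      have : k = e⁻¹ * m := by rw [← hek]; group
      rw [this]
      exact mul_mem (inv_mem (hSY (hES he))) (Subgroup.mem_inf.1 hm).2
    have hkE : cj (k * h₀) E ≤ E := by
      have e2 : k * h₀ = e⁻¹ * (m * h₀) := by rw [← hek]; group
      rw [e2, cj_mul, cj_mul]
      refine (cj_mono hm').trans ?_
      rw [cj_of_mem (inv_mem he)]
    have hπk : π (k * h₀) = π x₀ := by
      rw [map_mul, show π k = 1 from (QuotientGroup.eq_one_iff k).2 hk, one_mul, show π h₀ = π x₀ from hhx]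
    rw [← hπk] at D
    have D' := D.comap (S := (S : Subgroup G)) S.2 (fun x hx => by
      obtain ⟨s, hs, h5⟩ := h1 ⟨x, hx, rfl⟩
      exact ⟨s, hs, h5⟩) (by
      rintro s hs ⟨a, ha⟩
      have h5 : s ∈ E := Subgroup.mem_inf.2 ⟨hs, ⟨(π s, a), ha, rfl⟩⟩
      exact hES (hkE (conj_mem_cj h5)))
    exact D'.fd (fun x hx => hSY (Subgroup.mem_inf.1 hx).2) (mul_mem hkN hh₀)
  quo := by
    intro G _ _ S Y Q _ hQS hYS hSY hYc Y' hY' hSY' hctl D
    set π := QuotientGroup.mk' Q with hπ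
    have hπs : Function.Surjective π := QuotientGroup.mk'_surjective Q
    have hker : π.ker = Q := QuotientGroup.ker_mk' Q
    have hSS : SylIn p ((S : Subgroup G).map π) (normalizer (Y' : Set (G ⧸ Q))) :=
      (sylIn_map_mk S Q).mono hSY' le_top
    obtain ⟨Γ, h', D, h1, h2⟩ := D.sylow hSS
    obtain ⟨h₀, rfl⟩ := hπs h'
    have hES : (Γ.map (MonoidHom.fst (G ⧸ Q) (Fm p))).comap π ≤ S := by
      refine (comap_mono h1).trans ?_
      rw [comap_map_eq, hker, sup_eq_left.2 hQS]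
    have D' := D.comap (S := (S : Subgroup G)) S.2 (fun x hx => by
      obtain ⟨s, hs, h5⟩ := h1 ⟨x, hx, rfl⟩
      exact ⟨s, hs, h5⟩) (by
      rintro s hs ⟨a, ha⟩
      apply hES
      change π (h₀ * s * h₀⁻¹) ∈ Γ.map (MonoidHom.fst (G ⧸ Q) (Fm p))
      rw [map_mul, map_mul, map_inv]
      exact D.norm_fst (conj_mem_cj ⟨(π s, a), ha, rfl⟩))
    set Γ' := Γ.comap (MonoidHom.prodMap π (MonoidHom.id (Fm p))) ⊓ (S : Subgroup G).comap (MonoidHom.fst G (Fm p)) with hΓ'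
    have hE' : Γ'.map (MonoidHom.fst G (Fm p)) ≤ S := by
      rintro _ ⟨x, hx, rfl⟩
      exact (Subgroup.mem_inf.1 hx).2
    obtain ⟨h₂, hh₂, hag⟩ := hctl _ hE' h₀ h2 (D'.norm_fst.trans hE')
    exact (D'.agree hag).fd (fun x hx => hSY (Subgroup.mem_inf.1 hx).2) hh₂

theorem fd_ZJ [hp : Fact p.Prime] (hp2 : p ≠ 2) {t s : ℤ} (hts : ((t : ℤ) : ZMod p) * ((s : ℤ) : ZMod p) = 1) {k₀ : ℕ}
    (hk₀ : ((t ^ k₀ : ℤ) : ZMod p) = -1) :
    Tr.{u} p ZJ (fun G _ Y => FD p (Dm (t : ZMod p) (s : ZMod p) hts) G (normalizer (Y : Set G))) := by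
  apply fd_tr
  intro G _ _ S D Y hD hcen hYW hSY hNY hY hmax
  rw [induced_ZJ, centerThompsonAOf_eq] at hYW hNY
  exact core_fd hp2 (Q := fun A => IsMulCommutative A) S hD hcen (fun A hA => hA) (fun g A => comm_aut _ A) comm_bot
    (fun B hB hBS hBc hU => rep_comm hp2 (S.isPGroup'.to_le hD.1) B hBS (by rw [normalizer_eq_top]; exact le_top) hBc hU)
    hYW hSY hNY hY hmax hts hk₀

theorem main_ZJ_fd [hp : Fact p.Prime] (hp2 : p ≠ 2) {t s : ℤ} (hts : ((t : ℤ) : ZMod p) * ((s : ℤ) : ZMod p) = 1) {k₀ : ℕ}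
    (hk₀ : ((t ^ k₀ : ℤ) : ZMod p) = -1) {G : Type u} [Group G] [Finite G]
    (S : Sylow p G) {D : Subgroup G} (hD : IsStronglyClosed D (S : Subgroup G)) :
    FusIn (S : Subgroup G) ⊤ {normalizer (centerThompsonAOf D : Set G)} ∨
      FD p (Dm (t : ZMod p) (s : ZMod p) hts) G (normalizer (centerThompsonAOf D : Set G)) := by
  have h := main_tr (p := p) ZJ_char (fun Q _ _ _ x hx _ => ZJ_z Q x hx) (fun Q _ _ => ZJ_c Q) (fd_ZJ hp2 hts hk₀)
    (Nat.card G) G le_rfl S D (inducedFunctor (G := G) ZJ D) hD le_rfl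
    ((sc_le_normalizer hD).trans (nrm_le_nrm_W (induced_isConj ZJ_char G) (S.2.to_le hD.1))) le_rfl
  rwa [induced_ZJ] at h

end CfsgLib.Fail9
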