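import Cfsg.Agent.LibFail9Q
/-! Involvement of `F(p)`. Seat helper9. -/
set_option autoImplicit false
set_option maxHeartbeats 400000
set_option linter.unusedSectionVars false
set_option linter.style.haveILetI false

namespace CfsgLib.Fail9

open Cfsg Subgroup CfsgLib.FusionH12 CfsgLib.SecH12

universe u

theorem Dm_mul {p : ℕ} {a b a' b' : ZMod p} (h : a * b = 1) (h' : a' * b' = 1) :
    Dm a b h * Dm a' b' h' = Dm (a * a') (b * b') (by rw [mul_mul_mul_comm, h, h', one_mul]) := by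
  apply Subtype.ext
  change (!![a, 0, 0; 0, b, 0; 0, 0, 1] : Matrix (Fin 3) (Fin 3) (ZMod p)) * !![a', 0, 0; 0, b', 0; 0, 0, 1] =
    !![a * a', 0, 0; 0, b * b', 0; 0, 0, 1]
  ext i j
  fin_cases i <;> fin_cases j <;> simp [Matrix.mul_apply, Fin.sum_univ_three]

theorem Dm_one {p : ℕ} : (Dm 1 1 (one_mul 1) : Fm p) = 1 := by
  apply Subtype.ext
  change (!![1, 0, 0; 0, 1, 0; 0, 0, 1] : Matrix (Fin 3) (Fin 3) (ZMod p)) = 1
  ext i j
  fin_cases i <;> fin_cases j <;> simp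

theorem Dm_congr {p : ℕ} {a b a' b' : ZMod p} (h : a * b = 1) (h' : a' * b' = 1) (e : a = a') (e' : b = b') :
    Dm a b h = Dm a' b' h' := by subst e; subst e'; rfl

theorem Dm_pow {p : ℕ} {t s : ZMod p} (h : t * s = 1) (n : ℕ) :
    (Dm t s h) ^ n = Dm (t ^ n) (s ^ n) (by rw [← mul_pow, h, one_pow]) := by
  induction n with
  | zero => rw [pow_zero, ← Dm_one]; exact Dm_congr _ _ (pow_zero t).symm (pow_zero s).symm
  | succ n ih => rw [pow_succ, ih, Dm_mul]; exact Dm_congr _ _ (pow_succ t n).symm (pow_succ s n).symm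

theorem Dm_inv {p : ℕ} {t s : ZMod p} (h : t * s = 1) : (Dm t s h)⁻¹ = Dm s t (by rw [mul_comm]; exact h) := by
  rw [inv_eq_iff_mul_eq_one, Dm_mul, ← Dm_one]
  exact Dm_congr _ _ h (by rw [mul_comm]; exact h)

/-- the diagonal subgroup -/
def Dgr (p : ℕ) : Subgroup (Fm p) where
  carrier := {x | ∃ (a b : ZMod p) (h : a * b = 1), x = Dm a b h}
  one_mem' := ⟨1, 1, one_mul 1, Dm_one.symm⟩
  mul_mem' := by
    rintro _ _ ⟨a, b, h, rfl⟩ ⟨a', b', h', rfl⟩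
    exact ⟨_, _, _, Dm_mul h h'⟩
  inv_mem' := by
    rintro _ ⟨a, b, h, rfl⟩
    exact ⟨_, _, _, Dm_inv h⟩

theorem Am_mul_Dm {p : ℕ} (n a b : ZMod p) {t s : ZMod p} (h : t * s = 1) :
    ((Am n a b * Dm t s h : Fm p) : Matrix (Fin 3) (Fin 3) (ZMod p)) = !![t, n * s, a; 0, s, b; 0, 0, 1] := by
  change (!![1, n, a; 0, 1, b; 0, 0, 1] : Matrix (Fin 3) (Fin 3) (ZMod p)) * !![t, 0, 0; 0, s, 0; 0, 0, 1] = _
  ext i j
  fin_cases i <;> fin_cases j <;> simp [Matrix.mul_apply, Fin.sum_univ_three]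

/-- elements of the generating set of `F(p)` -/
theorem gen_form {p : ℕ} [hp : Fact p.Prime] {t s : ZMod p} (h : t * s = 1) (hgen : ∀ x : ZMod p, x ≠ 0 → ∃ k : ℕ, t ^ k = x)
    {M : Fm p} (h1 : (M : Matrix (Fin 3) (Fin 3) (ZMod p)) 1 0 = 0) (h2 : (M : Matrix (Fin 3) (Fin 3) (ZMod p)) 2 0 = 0)
    (h3 : (M : Matrix (Fin 3) (Fin 3) (ZMod p)) 2 1 = 0) (h4 : (M : Matrix (Fin 3) (Fin 3) (ZMod p)) 2 2 = 1) :
    ∃ n a b : ZMod p, ∃ k : ℕ, M = Am n a b * (Dm t s h) ^ k := by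
  set m := (M : Matrix (Fin 3) (Fin 3) (ZMod p)) with hm
  have hdet : m.det = 1 := M.2
  rw [Matrix.det_fin_three, h1, h2, h3, h4] at hdet
  have hd : m 0 0 * m 1 1 = 1 := by linear_combination hdet
  have h0 : m 0 0 ≠ 0 := fun h0 => by rw [h0, zero_mul] at hd; exact zero_ne_one hd
  obtain ⟨k, hk⟩ := hgen (m 0 0) h0
  have hs : s ^ k = m 1 1 := by
    have h5 : t ^ k * s ^ k = 1 := by rw [← mul_pow, h, one_pow]
    rw [hk] at h5
    exact mul_left_cancel₀ h0 (h5.trans hd.symm)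
  refine ⟨m 0 1 * m 0 0, m 0 2, m 1 2, k, ?_⟩
  apply Subtype.ext
  change m = _
  rw [Dm_pow, Am_mul_Dm]
  ext i j
  fin_cases i <;> fin_cases j <;> simp [h1, h2, h3, h4, hk, hs, mul_assoc, hd]

theorem involves_of_fd {p : ℕ} [hp : Fact p.Prime] {t s : ZMod p} (hts : t * s = 1)
    (hgen : ∀ x : ZMod p, x ≠ 0 → ∃ k : ℕ, t ^ k = x)
    {G : Type u} [Group G] [Finite G] {H : Subgroup G} (D : FD p (Dm t s hts) G H) :
    Involves ↥(fOver (ZMod p)) ↥H := by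
  obtain ⟨Γ, h₀, D, h1, hh₀⟩ := D.dat
  set d := Dm t s hts with hd
  -- the `p'`-part of `h₀`
  set a := (orderOf h₀).factorization p with ha
  set h := h₀ ^ (p ^ a) with hh
  have hho : (orderOf h).Coprime p := by
    have h5 : h ^ (orderOf h₀ / p ^ a) = 1 := by
      rw [hh, ← pow_mul, Nat.mul_div_cancel' (Nat.ordProj_dvd (orderOf h₀) p), pow_orderOf_eq_one]
    refine Nat.Coprime.coprime_dvd_left (orderOf_dvd_of_pow_eq_one h5) ?_
    exact (Nat.coprime_ordCompl hp.out (orderOf_pos h₀).ne').symm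
  have hpow : ∀ (x : ZMod p) (n : ℕ), x ^ (p ^ n) = x := by
    intro x n
    induction n with
    | zero => rw [pow_zero, pow_one]
    | succ n ih => rw [pow_succ, pow_mul, ih, ZMod.pow_card]
  have hda : d ^ (p ^ a) = d := by
    rw [hd, Dm_pow]
    exact Dm_congr _ _ (hpow t a) (hpow s a)
  have hg₀ : ((h₀, d) : G × Fm p) ∈ normalizer (Γ : Set (G × Fm p)) := by
    rw [mem_nrm]
    refine Subgroup.eq_of_le_of_card_ge ?_ (by rw [card_cj])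
    rw [cj_le']
    exact D.nrm
  have hg : ((h, d) : G × Fm p) ∈ normalizer (Γ : Set (G × Fm p)) := by
    have h2 := pow_mem hg₀ (p ^ a)
    have e : ((h₀, d) : G × Fm p) ^ (p ^ a) = (h, d) := Prod.ext rfl hda
    rwa [e] at h2
  have hhH : h ∈ H := H.pow_mem hh₀ _
  set g : G × Fm p := (h, d) with hgdef
  have hgn : ∀ n : ℤ, ∀ x ∈ Γ, g ^ n * x * (g ^ n)⁻¹ ∈ Γ := fun n x hx =>
    (mem_normalizer_iff.1 (zpow_mem hg n) x).1 hx
  let Γ₁ : Subgroup (G × Fm p) :=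
    { carrier := {y | ∃ x ∈ Γ, ∃ n : ℤ, y = x * g ^ n}
      one_mem' := ⟨1, Γ.one_mem, 0, by simp⟩
      mul_mem' := by
        rintro _ _ ⟨x, hx, n, rfl⟩ ⟨x', hx', n', rfl⟩
        refine ⟨x * (g ^ n * x' * (g ^ n)⁻¹), Γ.mul_mem hx (hgn n x' hx'), n + n', ?_⟩
        rw [zpow_add]; group
      inv_mem' := by
        rintro _ ⟨x, hx, n, rfl⟩
        refine ⟨g ^ (-n) * x⁻¹ * (g ^ (-n))⁻¹, hgn _ _ (Γ.inv_mem hx), -n, ?_⟩
        group }
  have hΓ₁ : ∀ y, y ∈ Γ₁ ↔ ∃ x ∈ Γ, ∃ n : ℤ, y = x * g ^ n := fun y => Iff.rfl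
  have hinj : ∀ y ∈ Γ₁, y.1 = 1 → y = 1 := by
    rintro _ ⟨x, hx, n, rfl⟩ h2
    have h3 : x.1 * h ^ n = 1 := h2
    have h4 : x.1 = 1 ∧ h ^ n = 1 := by
      have h5 : x.1 = (h ^ n)⁻¹ := eq_inv_of_mul_eq_one_left h3
      obtain ⟨k, hk⟩ := D.pg ⟨x.1, ⟨x, hx, rfl⟩⟩
      have hk' : x.1 ^ p ^ k = 1 := congrArg Subtype.val hk
      have h6 : x.1 ^ orderOf h = 1 := by
        rw [h5, ← zpow_neg, ← zpow_natCast, ← zpow_mul, mul_comm, zpow_mul, zpow_natCast, pow_orderOf_eq_one, one_zpow]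
      have h7 : orderOf x.1 ∣ 1 := by
        have := Nat.dvd_gcd (orderOf_dvd_of_pow_eq_one h6) (orderOf_dvd_of_pow_eq_one hk')
        rwa [Nat.Coprime.gcd_eq_one (Nat.Coprime.pow_right k hho)] at this
      have h8 : x.1 = 1 := orderOf_eq_one_iff.1 (Nat.dvd_one.1 h7)
      refine ⟨h8, ?_⟩
      rwa [h8, one_mul] at h3
    have h5 : x = 1 := Prod.ext h4.1 (D.inj x hx h4.1)
    rw [h5, one_mul]
    refine Prod.ext h4.2 ?_
    change d ^ n = 1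
    obtain ⟨a', b', hab, he⟩ : d ^ n ∈ Dgr p := zpow_mem (⟨t, s, hts, rfl⟩ : d ∈ Dgr p) n
    obtain ⟨y, hy, hy2⟩ := D.sur 0 1 0
    have h6 := hgn n y hy
    have h7 := Γ.mul_mem h6 (Γ.inv_mem hy)
    have h8 := D.inj _ h7 (by
      change h ^ n * y.1 * (h ^ n)⁻¹ * y.1⁻¹ = 1
      rw [h4.2]; group)
    have h9 : d ^ n * y.2 * (d ^ n)⁻¹ * y.2⁻¹ = 1 := h8
    rw [mul_inv_eq_one, hy2, he, Dm_conj] at h9
    have h10 := (Am_inj h9).2.1
    rw [mul_one] at h10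
    rw [he, ← Dm_one]
    have hb : b' = 1 := by rw [h10, one_mul] at hab; exact hab
    exact Dm_congr _ _ h10 hb
  have hfst : ∀ y ∈ Γ₁, y.1 ∈ H := by
    rintro _ ⟨x, hx, n, rfl⟩
    exact H.mul_mem (h1 x hx) (H.zpow_mem hhH n)
  have hdF : d ∈ fOver (ZMod p) := by
    refine subset_closure ⟨?_, ?_, ?_, ?_⟩
    · change (!![t, 0, 0; 0, s, 0; 0, 0, 1] : Matrix (Fin 3) (Fin 3) (ZMod p)) 1 0 = 0
      simp
    · change (!![t, 0, 0; 0, s, 0; 0, 0, 1] : Matrix (Fin 3) (Fin 3) (ZMod p)) 2 0 = 0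
      simp
    · change (!![t, 0, 0; 0, s, 0; 0, 0, 1] : Matrix (Fin 3) (Fin 3) (ZMod p)) 2 1 = 0
      simp
    · change (!![t, 0, 0; 0, s, 0; 0, 0, 1] : Matrix (Fin 3) (Fin 3) (ZMod p)) 2 2 = 1
      simp
  have hAF : ∀ n a b : ZMod p, (Am n a b : Fm p) ∈ fOver (ZMod p) := by
    intro n a b
    refine subset_closure ⟨?_, ?_, ?_, ?_⟩
    · change (!![1, n, a; 0, 1, b; 0, 0, 1] : Matrix (Fin 3) (Fin 3) (ZMod p)) 1 0 = 0
      simp
    · change (!![1, n, a; 0, 1, b; 0, 0, 1] : Matrix (Fin 3) (Fin 3) (ZMod p)) 2 0 = 0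
      simp
    · change (!![1, n, a; 0, 1, b; 0, 0, 1] : Matrix (Fin 3) (Fin 3) (ZMod p)) 2 1 = 0
      simp
    · change (!![1, n, a; 0, 1, b; 0, 0, 1] : Matrix (Fin 3) (Fin 3) (ZMod p)) 2 2 = 1
      simp
  have hsnd : ∀ y ∈ Γ₁, y.2 ∈ fOver (ZMod p) := by
    rintro _ ⟨x, hx, n, rfl⟩
    obtain ⟨a', b', c', h5⟩ := D.frm x hx
    change x.2 * d ^ n ∈ _
    rw [h5]
    exact mul_mem (hAF _ _ _) (zpow_mem hdF n)
  have hsur : fOver (ZMod p) ≤ Γ₁.map (MonoidHom.snd G (Fm p)) := by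
    rw [fOver, closure_le]
    rintro M ⟨h5, h6, h7, h8⟩
    obtain ⟨n, a', b', k, rfl⟩ := gen_form hts hgen h5 h6 h7 h8
    obtain ⟨x, hx, hx2⟩ := D.sur n a' b'
    refine ⟨x * g ^ (k : ℤ), ⟨x, hx, k, rfl⟩, ?_⟩
    rw [map_mul, map_zpow, zpow_natCast]
    change x.2 * d ^ k = _
    rw [hx2]
  -- the section
  have hsec1 : IsSec ↥(fOver (ZMod p)) ↥Γ₁ := by
    refine IsSec.of_surjective (((MonoidHom.snd G (Fm p)).comp Γ₁.subtype).codRestrict (fOver (ZMod p)) (fun y => hsnd y y.2)) ?_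
    rintro ⟨x, hx⟩
    obtain ⟨y, hy, rfl⟩ := hsur hx
    exact ⟨⟨y, hy⟩, rfl⟩
  let f : ↥Γ₁ →* ↥H := ((MonoidHom.fst G (Fm p)).comp Γ₁.subtype).codRestrict H (fun y => hfst y y.2)
  have hf : Function.Injective f := by
    rw [injective_iff_map_eq_one]
    intro y hy
    exact Subtype.ext (hinj y y.2 (congrArg Subtype.val hy))
  have hsec2 : IsSec ↥Γ₁ ↥H :=
    ⟨f.range, (MonoidHom.ofInjective hf).symm.toMonoidHom, (MonoidHom.ofInjective hf).symm.surjective⟩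
  exact (hsec1.trans hsec2).exists_quot

end CfsgLib.Fail9
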