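import Cfsg.Agent.LibFgBas2

/-! Small lemmas on `p`-groups acting by conjugation. -/

set_option autoImplicit false
set_option linter.style.haveILetI false
set_option linter.unusedSectionVars false

namespace CfsgLib.FgAct

open Subgroup

variable {G : Type*} [Group G] {p : ℕ} [hp : Fact p.Prime]

/-- A `p`-group acting on a nontrivial `p`-group by conjugation has nontrivial fixed points. -/
theorem exists_fixed [Finite G] (P C : Subgroup G) (hP : IsPGroup p P) (hC : IsPGroup p C) (hne : C ≠ ⊥)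
    (hn : P ≤ normalizer (C : Set G)) : ∃ c ∈ C, c ≠ 1 ∧ ∀ x ∈ P, x * c * x⁻¹ = c := by
  letI : MulAction P C :=
    { smul := fun x c => ⟨x * c * (x : G)⁻¹, (mem_normalizer_iff.mp (hn x.2) c).mp c.2⟩
      one_smul := fun c => Subtype.ext (by
        change (1 : G) * c * (1 : G)⁻¹ = c
        simp)
      mul_smul := fun x y c => Subtype.ext (by
        change ((x : G) * y) * c * ((x : G) * y)⁻¹ = x * (y * c * (y : G)⁻¹) * (x : G)⁻¹
        group) }
  have hsm : ∀ (x : P) (c : C), ((x • c : C) : G) = x * c * (x : G)⁻¹ := fun _ _ => rfl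
  have hdvd : p ∣ Nat.card C := by
    obtain ⟨k, hk⟩ := (IsPGroup.iff_card).mp hC
    rw [hk]
    refine dvd_pow_self p ?_
    rintro rfl
    rw [pow_zero] at hk
    exact hne (Subgroup.card_eq_one.mp hk)
  obtain ⟨b, hb, hb1⟩ := hP.exists_fixed_point_of_prime_dvd_card_of_fixed_point C hdvd (a := 1)
    (fun x => Subtype.ext (by rw [hsm]; simp))
  refine ⟨b, b.2, fun h => hb1 (Subtype.ext h.symm), ?_⟩
  intro x hx
  have := congrArg Subtype.val (hb ⟨x, hx⟩)
  exact this

theorem card_le_index [Finite G] (N H : Subgroup G) (h : N ⊓ H = ⊥) : Nat.card H ≤ N.index := by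
  apply Nat.card_le_card_of_injective (fun x : H => ((x : G) : G ⧸ N))
  intro x y hxy
  have h1 : (x : G)⁻¹ * y ∈ N := QuotientGroup.eq.mp hxy
  have h2 : (x : G)⁻¹ * y ∈ N ⊓ H := Subgroup.mem_inf.mpr ⟨h1, mul_mem (inv_mem x.2) y.2⟩
  rw [h, mem_bot, inv_mul_eq_one] at h2
  exact Subtype.ext h2

/-- elements of order prime to the index of a normal subgroup are inside -/
theorem mem_of_coprime_index [Finite G] (N : Subgroup G) [N.Normal] {x : G} (h : (orderOf x).Coprime N.index) :
    x ∈ N :=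
  CfsgLib.FgBas.mem_of_pow_mem (N.pow_index_mem x) h

/-- if the normalizer of `K` in a normal subgroup of order prime to `K` is the centralizer -/
theorem centralizes_of_normalizes {N K : Subgroup G} [N.Normal] (h : N ⊓ K = ⊥) {n : G} (hn : n ∈ N)
    (hn2 : n ∈ normalizer (K : Set G)) : n ∈ centralizer (K : Set G) := by
  rw [mem_centralizer_iff]
  intro k hk
  have h1 : n * k * n⁻¹ ∈ K := (mem_normalizer_iff.mp hn2 k).mp hk
  have h2 : n * k * n⁻¹ * k⁻¹ ∈ N ⊓ K := by
    refine Subgroup.mem_inf.mpr ⟨?_, mul_mem h1 (inv_mem hk)⟩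
    have h3 : n * k * n⁻¹ * k⁻¹ = n * (k * n⁻¹ * k⁻¹) := by group
    rw [h3]
    exact mul_mem hn (Normal.conj_mem inferInstance _ (inv_mem hn) k)
  rw [h, mem_bot, mul_inv_eq_one, mul_inv_eq_iff_eq_mul] at h2
  exact h2.symm

end CfsgLib.FgAct
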