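import Cfsg.Agent.LibFgAct
import Cfsg.Agent.LibFgClass
import Cfsg.Agent.LibCoprime
import Cfsg.Agent.S0199

/-! 2-elements normalizing odd order subgroups. -/

set_option autoImplicit false
set_option linter.style.haveILetI false
set_option linter.unusedSectionVars false

namespace CfsgLib.FgBS

open Subgroup Pointwise

universe u

theorem isPGroup_dihedral {G : Type u} [Group G] [Finite G] {t s : G} (ht : t ^ 2 = 1) (hs : s ^ 2 = 1) {k : ℕ}
    (h : orderOf (t * s) = 2 ^ k) : IsPGroup 2 ↥(zpowers t ⊔ zpowers s) := by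
  have htt : t * t = 1 := by rw [← pow_two, ht]
  have hss : s * s = 1 := by rw [← pow_two, hs]
  have hti : t⁻¹ = t := inv_eq_of_mul_eq_one_left htt
  have hsi : s⁻¹ = s := inv_eq_of_mul_eq_one_left hss
  have h1 : IsPGroup 2 (zpowers (t * s)) := CfsgLib.FgBas.isPGroup_zpowers h
  have h2 : IsPGroup 2 (zpowers t) := by
    have : orderOf t ∣ 2 := orderOf_dvd_of_pow_eq_one ht
    obtain ⟨j, -, hj⟩ := (Nat.dvd_prime_pow Nat.prime_two).mp (by simpa using this : orderOf t ∣ 2 ^ 1)
    exact CfsgLib.FgBas.isPGroup_zpowers hj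
  have h3 : zpowers t ≤ normalizer (zpowers (t * s) : Set G) := by
    rw [zpowers_le, mem_normalizer_iff_map_conj_eq]
    apply Subgroup.eq_of_le_of_card_ge
    · rw [MonoidHom.map_zpowers, zpowers_le]
      have h4 : (MulAut.conj t).toMonoidHom (t * s) = (t * s)⁻¹ := by
        change t * (t * s) * t⁻¹ = (t * s)⁻¹
        rw [mul_inv_rev, hsi, hti, ← mul_assoc, htt, one_mul]
      change (MulAut.conj t).toMonoidHom (t * s) ∈ _
      rw [h4]
      exact inv_mem (mem_zpowers _)
    · rw [card_map_of_injective (MulAut.conj t).injective]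
  have h4 := IsPGroup.to_sup_of_normal_right' h2 h1 h3
  apply h4.to_le
  apply sup_le le_sup_left
  rw [zpowers_le]
  have h6 : t * (t * s) ∈ zpowers t ⊔ zpowers (t * s) :=
    mul_mem (mem_sup_left (mem_zpowers t)) (mem_sup_right (mem_zpowers _))
  rwa [← mul_assoc, htt, one_mul] at h6

/-- `2`-elements normalizing a cyclic group of odd order centralize it -/
def Star (G : Type u) [Group G] : Prop :=
  ∀ x t : G, (orderOf x).Coprime 2 → (∃ k, orderOf t = 2 ^ k) → t ∈ normalizer (zpowers x : Set G) → t * x = x * t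

theorem Star.quotient {G : Type u} [Group G] [Finite G] (h : Star G) (N : Subgroup G) [N.Normal] (hN : IsPGroup 2 N) :
    Star (G ⧸ N) := by
  haveI : Fact (Nat.Prime 2) := ⟨Nat.prime_two⟩
  intro x t hx ht htx
  obtain ⟨x, rfl, hx2⟩ := CfsgLib.FgClass.exists_pRegular_lift Nat.prime_two (QuotientGroup.mk' N)
    (QuotientGroup.mk'_surjective N) hx
  obtain ⟨t, rfl⟩ := QuotientGroup.mk'_surjective N t
  obtain ⟨k, hk⟩ := ht
  have hord : ∀ s : G, QuotientGroup.mk' N s = QuotientGroup.mk' N t → ∃ j, orderOf s = 2 ^ j := by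
    intro s hs
    have h1 : s ^ (2 ^ k) ∈ N := by
      rw [← QuotientGroup.eq_one_iff]
      change QuotientGroup.mk' N (s ^ (2 ^ k)) = 1
      rw [map_pow, hs, ← hk, pow_orderOf_eq_one]
    obtain ⟨j, hj⟩ := CfsgLib.FgBas.orderOf_eq_pow hN h1
    have h2 : orderOf s ∣ 2 ^ (k + j) := by
      apply orderOf_dvd_of_pow_eq_one
      rw [pow_add, pow_mul, ← hj, pow_orderOf_eq_one]
    obtain ⟨i, -, hi⟩ := (Nat.dvd_prime_pow Nat.prime_two).mp h2
    exact ⟨i, hi⟩
  have hcop : (Nat.card (zpowers x)).Coprime (Nat.card N) := by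
    rw [Nat.card_zpowers]
    obtain ⟨j, hj⟩ := IsPGroup.iff_card.mp hN
    rw [hj]; exact hx2.pow_right j
  obtain ⟨n, hn, hnx⟩ := CfsgLib.Coprime.sz_conj (N := N) (H := zpowers x) (K := (zpowers x).map (MulAut.conj t).toMonoidHom)
    (by rw [normalizer_eq_top]; exact le_top) hcop (Or.inl inferInstance) (by
      rw [MonoidHom.map_zpowers, zpowers_le]
      have h1 := (mem_normalizer_iff.mp htx (QuotientGroup.mk' N x)).mp (mem_zpowers _)
      obtain ⟨i, hi⟩ := mem_zpowers_iff.mp h1
      have h2 : (x ^ i)⁻¹ * (t * x * t⁻¹) ∈ N := by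
        rw [← QuotientGroup.eq_one_iff]
        change QuotientGroup.mk' N ((x ^ i)⁻¹ * (t * x * t⁻¹)) = 1
        rw [map_mul, map_inv, map_zpow, map_mul, map_mul, map_inv, hi, inv_mul_cancel]
      change t * x * t⁻¹ ∈ N ⊔ zpowers x
      have h3 : t * x * t⁻¹ = x ^ i * ((x ^ i)⁻¹ * (t * x * t⁻¹)) := by group
      rw [h3]
      exact mul_mem (mem_sup_right (zpow_mem (mem_zpowers x) i)) (mem_sup_left h2))
    (card_map_of_injective (MulAut.conj t).injective)
  have hs : n⁻¹ * t ∈ normalizer (zpowers x : Set G) := by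
    rw [mem_normalizer_iff_map_conj_eq]
    have h1 : (MulAut.conj (n⁻¹ * t)).toMonoidHom = (MulAut.conj n⁻¹).toMonoidHom.comp (MulAut.conj t).toMonoidHom := by
      refine MonoidHom.ext (fun y => ?_)
      change (n⁻¹ * t) * y * (n⁻¹ * t)⁻¹ = n⁻¹ * (t * y * t⁻¹) * n⁻¹⁻¹
      group
    change (zpowers x).map (MulAut.conj (n⁻¹ * t)).toMonoidHom = zpowers x
    rw [h1, ← Subgroup.map_map, ← hnx]
    change ((zpowers x).map (MulAut.conj n).toMonoidHom).map (MulAut.conj n⁻¹).toMonoidHom = zpowers x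
    rw [Subgroup.map_map]
    have h2 : (MulAut.conj n⁻¹).toMonoidHom.comp (MulAut.conj n).toMonoidHom = MonoidHom.id G := by
      refine MonoidHom.ext (fun y => ?_)
      change n⁻¹ * (n * y * n⁻¹) * n⁻¹⁻¹ = y
      group
    rw [h2, Subgroup.map_id]
  have hnt : QuotientGroup.mk' N (n⁻¹ * t) = QuotientGroup.mk' N t := by
    rw [map_mul]
    have : QuotientGroup.mk' N n⁻¹ = 1 := (QuotientGroup.eq_one_iff _).mpr (inv_mem hn)
    rw [this, one_mul]
  have h5 := h x (n⁻¹ * t) hx2 (hord _ hnt) hs
  have h6 := congrArg (QuotientGroup.mk' N) h5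
  rw [map_mul _ (n⁻¹ * t) x, map_mul _ x (n⁻¹ * t), hnt] at h6
  exact h6

theorem Star.main (n : ℕ) : ∀ (G : Type u) [Group G] [Finite G], Nat.card G ≤ n → Star G →
    ∃ N : Subgroup G, N.Normal ∧ IsPGroup 2 N ∧ ∀ t : G, (∃ k, orderOf t = 2 ^ k) → t ∈ N := by
  haveI : Fact (Nat.Prime 2) := ⟨Nat.prime_two⟩
  induction n with
  | zero =>
    intro G _ _ h
    have : 0 < Nat.card G := Nat.card_pos
    omega
  | succ n ih =>
    intro G _ _ hcard hG
    by_cases hinv : ∃ t : G, orderOf t = 2
    · obtain ⟨t, ht⟩ := hinv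
      have ht2 : t ^ 2 = 1 := orderOf_dvd_iff_pow_eq_one.mp ht.dvd
      have htt : t * t = 1 := by rw [← pow_two, ht2]
      have hti : t⁻¹ = t := inv_eq_of_mul_eq_one_left htt
      obtain ⟨N, hN, hNp, hNt⟩ := Cfsg.Agent.S0199.result (p := 2) (zpowers t)
        (CfsgLib.FgBas.isPGroup_zpowers (k := 1) (by rw [ht, pow_one])) (by
          intro g
          rw [MonoidHom.map_zpowers]
          obtain ⟨s, hs⟩ : ∃ s, s = (MulAut.conj g).toMonoidHom t := ⟨_, rfl⟩
          rw [← hs]
          have hs2 : s ^ 2 = 1 := by rw [hs, ← map_pow, ht2, map_one]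
          have hss : s * s = 1 := by rw [← pow_two, hs2]
          have hsi : s⁻¹ = s := inv_eq_of_mul_eq_one_left hss
          obtain ⟨a, b, ha, hb, hab, hba, hk, hbp⟩ := CfsgLib.FgElt.exists_p_decomp Nat.prime_two (t * s)
          have hinvr : t * (t * s) * t⁻¹ = (t * s)⁻¹ := by
            rw [mul_inv_rev, hsi, hti, ← mul_assoc, htt, one_mul]
          obtain ⟨i, hi⟩ := mem_zpowers_iff.mp hb
          have hbinv : t * b * t⁻¹ = b⁻¹ := by
            rw [← hi, ← conj_zpow, hinvr, inv_zpow]
          have hbn : t ∈ normalizer (zpowers b : Set G) := by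
            rw [mem_normalizer_iff_map_conj_eq]
            apply Subgroup.eq_of_le_of_card_ge
            · rw [MonoidHom.map_zpowers, zpowers_le]
              change t * b * t⁻¹ ∈ _
              rw [hbinv]; exact inv_mem (mem_zpowers _)
            · rw [card_map_of_injective (MulAut.conj t).injective]
          have hcomm := hG b t hbp ⟨1, by rw [ht, pow_one]⟩ hbn
          have hb1 : b = 1 := by
            rw [hcomm, mul_inv_cancel_right] at hbinv
            have h2 : b ^ 2 = 1 := by
              rw [pow_two]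
              nth_rewrite 1 [hbinv]
              exact inv_mul_cancel b
            have h3 := orderOf_dvd_of_pow_eq_one h2
            have h4 : orderOf b ∣ 1 := by
              rw [← Nat.Coprime.gcd_eq_one hbp]
              exact Nat.dvd_gcd dvd_rfl h3
            exact orderOf_eq_one_iff.mp (Nat.dvd_one.mp h4)
          rw [hb1, mul_one] at hab
          obtain ⟨k, hk⟩ := hk
          exact isPGroup_dihedral ht2 hs2 (k := k) (by rw [← hab, hk]))
      haveI := hN
      have hNne : N ≠ ⊥ := by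
        rintro rfl
        have : t = 1 := by
          have := hNt (mem_zpowers t)
          rwa [mem_bot] at this
        rw [this, orderOf_one] at ht
        norm_num at ht
      have hlt : Nat.card (G ⧸ N) ≤ n := by
        have h1 := N.card_mul_index
        have h2 : 1 < Nat.card N := by
          rw [Finite.one_lt_card_iff_nontrivial]
          exact (Subgroup.nontrivial_iff_ne_bot N).mpr hNne
        have h3 : 0 < N.index := Nat.pos_of_ne_zero FiniteIndex.index_ne_zero
        have h4 : N.index < Nat.card G := by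
          rw [← h1]; exact lt_mul_of_one_lt_left h3 h2
        change N.index ≤ n
        omega
      obtain ⟨M, hM, hMp, hMt⟩ := ih (G ⧸ N) hlt (hG.quotient N hNp)
      refine ⟨M.comap (QuotientGroup.mk' N), inferInstance, ?_, ?_⟩
      · apply IsPGroup.comap_of_ker_isPGroup hMp
        rwa [QuotientGroup.ker_mk']
      · rintro s ⟨k, hk⟩
        rw [mem_comap]
        apply hMt
        have h1 : orderOf (QuotientGroup.mk' N s) ∣ 2 ^ k := hk ▸ orderOf_map_dvd _ s
        obtain ⟨j, -, hj⟩ := (Nat.dvd_prime_pow Nat.prime_two).mp h1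
        exact ⟨j, hj⟩
    · refine ⟨⊥, inferInstance, IsPGroup.of_bot, ?_⟩
      rintro t ⟨k, hk⟩
      rcases Nat.eq_zero_or_pos k with rfl | hk0
      · rw [pow_zero] at hk
        rw [mem_bot]
        exact orderOf_eq_one_iff.mp hk
      · exfalso
        apply hinv
        refine ⟨t ^ (2 ^ (k - 1)), ?_⟩
        rw [orderOf_pow' t (pow_ne_zero _ two_ne_zero), hk, Nat.gcd_eq_right (pow_dvd_pow 2 (by omega)),
          Nat.pow_div (by omega) (by norm_num)]
        have : k - (k - 1) = 1 := by omega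
        rw [this, pow_one]

theorem Star.sylow_normal {G : Type u} [Group G] [Finite G] (h : Star G) (P : Sylow 2 G) : (P : Subgroup G).Normal := by
  haveI : Fact (Nat.Prime 2) := ⟨Nat.prime_two⟩
  obtain ⟨N, hN, hNp, hNt⟩ := Star.main (Nat.card G) G le_rfl h
  have h1 : (P : Subgroup G) ≤ N := by
    intro x hx
    exact hNt x (CfsgLib.FgBas.orderOf_eq_pow P.isPGroup' hx)
  have h2 : N = (P : Subgroup G) := P.is_maximal' hNp h1
  rw [← h2]; exact hN

end CfsgLib.FgBS
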