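import Cfsg.Agent.EqBase
import Cfsg.Agent.LibFgBas

/-! More elementary facts. -/

set_option autoImplicit false
set_option linter.style.haveILetI false
set_option linter.unusedSectionVars false

namespace CfsgLib.FgBas

open Subgroup

universe u

variable {G : Type u} [Group G]

/-- A subgroup containing a Sylow `q`-subgroup for each prime `q` is everything. -/
theorem eq_top_of_sylow [Finite G] {H : Subgroup G}
    (h : ∀ (q : ℕ) [Fact q.Prime] (_Q : Sylow q G), ∃ Q : Sylow q G, (Q : Subgroup G) ≤ H) : H = ⊤ := by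
  rw [← index_eq_one]
  by_contra hne
  obtain ⟨q, hq, hqd⟩ := Nat.exists_prime_and_dvd hne
  haveI : Fact q.Prime := ⟨hq⟩
  obtain ⟨Q0⟩ := (inferInstance : Nonempty (Sylow q G))
  obtain ⟨Q, hQ⟩ := h q Q0
  exact CfsgLib.FgSyl.not_dvd_index_of_le Q hQ hqd

/-- A subgroup is contained in `H` when its elements of prime power order are. -/
theorem le_of_forall_primePow [Finite G] {K H : Subgroup G}
    (h : ∀ y ∈ K, ∀ q b : ℕ, q.Prime → orderOf y = q ^ b → y ∈ H) : K ≤ H := by
  have main : ∀ n : ℕ, ∀ y ∈ K, orderOf y ≤ n → y ∈ H := by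
    intro n
    induction n with
    | zero => intro y _ hy; exact absurd hy (not_le.mpr (orderOf_pos y))
    | succ n ih =>
      intro y hy hn
      rcases eq_or_ne (orderOf y) 1 with h1 | h1
      · rw [orderOf_eq_one_iff] at h1; rw [h1]; exact one_mem H
      obtain ⟨q, hq, hqd⟩ := Nat.exists_prime_and_dvd h1
      obtain ⟨a, b, ha, hb, hab, hba, ⟨k, hk⟩, hbq⟩ := CfsgLib.FgElt.exists_p_decomp hq y
      have haK : a ∈ K := (zpowers_le.mpr hy) ha
      have hbK : b ∈ K := (zpowers_le.mpr hy) hb
      have haH : a ∈ H := h a haK q k hq hk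
      have hbH : b ∈ H := by
        apply ih b hbK
        have h2 : orderOf b ∣ orderOf y := by
          obtain ⟨j, rfl⟩ := mem_zpowers_iff.mp hb
          exact orderOf_dvd_of_mem_zpowers (zpow_mem (mem_zpowers _) j)
        have h3 : orderOf b ≠ orderOf y := by
          intro h4
          rw [h4] at hbq
          exact hq.one_lt.ne' (Nat.dvd_one.mp (hbq ▸ Nat.dvd_gcd hqd dvd_rfl))
        have := Nat.le_of_dvd (orderOf_pos y) h2
        omega
      rw [← hab]; exact mul_mem haH hbH
  intro y hy
  exact main _ y hy le_rfl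

end CfsgLib.FgBas
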