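import Mathlib
import Cfsg.Agent.LibCores
import Cfsg.Agent.LibCoprime

set_option autoImplicit false
set_option linter.style.haveILetI false
set_option linter.unusedSectionVars false
set_option linter.unusedVariables false

/-! Conjugacy of subgroups and quotients -/

open Subgroup

namespace CfsgLib.FgCQ

universe u
variable {G : Type u} [Group G]

/-- conjugate subgroups -/
def CJ (H K : Subgroup G) : Prop := ∃ g : G, K = H.map (MulAut.conj g).toMonoidHom

theorem CJ.refl (H : Subgroup G) : CJ H H := by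
  refine ⟨1, ?_⟩
  ext x
  constructor
  · intro hx
    exact ⟨x, hx, by simp⟩
  · rintro ⟨y, hy, rfl⟩
    simpa using hy

theorem map_conj_map (H : Subgroup G) (g h : G) :
    (H.map (MulAut.conj g).toMonoidHom).map (MulAut.conj h).toMonoidHom
      = H.map (MulAut.conj (h * g)).toMonoidHom := by
  rw [Subgroup.map_map]
  congr 1
  ext x
  simp [mul_assoc]

theorem CJ.trans {H K L : Subgroup G} (h1 : CJ H K) (h2 : CJ K L) : CJ H L := by
  obtain ⟨g, rfl⟩ := h1
  obtain ⟨h, rfl⟩ := h2
  exact ⟨h * g, map_conj_map H g h⟩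

theorem map_conj_one (H : Subgroup G) : H.map (MulAut.conj (1 : G)).toMonoidHom = H := by
  ext x
  constructor
  · rintro ⟨y, hy, rfl⟩
    simpa using hy
  · intro hx
    exact ⟨x, hx, by simp⟩

theorem CJ.symm {H K : Subgroup G} (h : CJ H K) : CJ K H := by
  obtain ⟨g, rfl⟩ := h
  refine ⟨g⁻¹, ?_⟩
  rw [map_conj_map, inv_mul_cancel, map_conj_one]

theorem CJ.card_eq {H K : Subgroup G} (h : CJ H K) : Nat.card H = Nat.card K := by
  obtain ⟨g, rfl⟩ := h
  exact (Subgroup.card_map_of_injective (MulAut.conj g).injective).symm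

theorem CJ.map {Q : Type*} [Group Q] (f : G →* Q) {H K : Subgroup G} (h : CJ H K) : CJ (H.map f) (K.map f) := by
  obtain ⟨g, rfl⟩ := h
  refine ⟨f g, ?_⟩
  rw [Subgroup.map_map, Subgroup.map_map]
  congr 1
  ext x
  simp

theorem CJ.smul (H : Subgroup G) (g : G) : CJ H (H.map (MulAut.conj g).toMonoidHom) := ⟨g, rfl⟩

theorem normal_map_conj (N : Subgroup G) [N.Normal] (g : G) : N.map (MulAut.conj g).toMonoidHom = N := by
  apply le_antisymm
  · rintro _ ⟨x, hx, rfl⟩
    exact Subgroup.Normal.conj_mem inferInstance x hx g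
  · intro x hx
    refine ⟨g⁻¹ * x * g, ?_, ?_⟩
    · have := Subgroup.Normal.conj_mem (inferInstance : N.Normal) x hx g⁻¹
      rwa [inv_inv] at this
    · simp only [MulEquiv.coe_toMonoidHom, MulAut.conj_apply]
      group

theorem CJ.eq_of_normal {N K : Subgroup G} [N.Normal] (h : CJ N K) : K = N := by
  obtain ⟨g, rfl⟩ := h
  exact normal_map_conj N g

/-- lifting conjugacy from `G/N` for subgroups containing `N` -/
theorem CJ.of_quot {N : Subgroup G} [N.Normal] {H K : Subgroup G} (hH : N ≤ H) (hK : N ≤ K)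
    (h : CJ (H.map (QuotientGroup.mk' N)) (K.map (QuotientGroup.mk' N))) : CJ H K := by
  obtain ⟨gb, hg⟩ := h
  obtain ⟨g, rfl⟩ := QuotientGroup.mk'_surjective N gb
  refine ⟨g, ?_⟩
  have h1 : (H.map (QuotientGroup.mk' N)).map (MulAut.conj (QuotientGroup.mk' N g)).toMonoidHom
      = (H.map (MulAut.conj g).toMonoidHom).map (QuotientGroup.mk' N) := by
    rw [Subgroup.map_map, Subgroup.map_map]
    congr 1
  rw [h1] at hg
  have h2 := congrArg (Subgroup.comap (QuotientGroup.mk' N)) hg
  rw [Subgroup.comap_map_eq, Subgroup.comap_map_eq, QuotientGroup.ker_mk', sup_eq_left.mpr hK] at h2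
  rw [h2, sup_eq_left]
  have h3 := Subgroup.map_mono (f := (MulAut.conj g).toMonoidHom) hH
  rwa [normal_map_conj] at h3

theorem card_map_mk_of_le [Finite G] {N : Subgroup G} [N.Normal] {H : Subgroup G} (hH : N ≤ H) :
    Nat.card N * Nat.card (H.map (QuotientGroup.mk' N)) = Nat.card H := by
  rw [← CfsgLib.Cores.card_comap_mk]
  congr 1
  rw [Subgroup.comap_map_eq, QuotientGroup.ker_mk', sup_eq_left.mpr hH]

theorem card_map_mk_of_inf {N : Subgroup G} [N.Normal] {H : Subgroup G}
    (hc : H ⊓ N = ⊥) : Nat.card (H.map (QuotientGroup.mk' N)) = Nat.card H := by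
  have hinj : Function.Injective ((QuotientGroup.mk' N).comp H.subtype) := by
    rw [← MonoidHom.ker_eq_bot_iff, eq_bot_iff]
    intro x hx
    rw [MonoidHom.mem_ker] at hx
    have h1 : (x : G) ∈ H ⊓ N := ⟨x.2, (QuotientGroup.eq_one_iff (x : G)).mp hx⟩
    rw [hc, Subgroup.mem_bot] at h1
    exact Subtype.ext h1
  have h1 : H.map (QuotientGroup.mk' N) = ((QuotientGroup.mk' N).comp H.subtype).range := by
    rw [MonoidHom.range_comp, Subgroup.range_subtype]
  rw [h1]
  exact (Nat.card_congr (MonoidHom.ofInjective hinj).toEquiv).symm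

theorem card_map_mk_of_coprime [Finite G] {N : Subgroup G} [N.Normal] {H : Subgroup G}
    (hc : (Nat.card H).Coprime (Nat.card N)) :
    Nat.card (H.map (QuotientGroup.mk' N)) = Nat.card H :=
  card_map_mk_of_inf (inf_eq_bot_of_coprime hc)

/-- lifting conjugacy from `G/N` for subgroups of order coprime to `|N|` -/
theorem CJ.of_quot_coprime [Finite G] {N : Subgroup G} [N.Normal] (hN : Group.IsSolvable N) {H K : Subgroup G}
    (hc : (Nat.card H).Coprime (Nat.card N)) (hHK : Nat.card H = Nat.card K)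
    (h : CJ (H.map (QuotientGroup.mk' N)) (K.map (QuotientGroup.mk' N))) : CJ H K := by
  have hkey : ∀ L : Subgroup G, (L ⊔ N).map (QuotientGroup.mk' N) = L.map (QuotientGroup.mk' N) := by
    intro L
    rw [Subgroup.map_sup, QuotientGroup.map_mk'_self, sup_bot_eq]
  have h1 : CJ (H ⊔ N) (K ⊔ N) := by
    apply CJ.of_quot (N := N) le_sup_right le_sup_right
    rw [hkey, hkey]
    exact h
  obtain ⟨g, hg⟩ := h1
  rw [Subgroup.map_sup, normal_map_conj N] at hg
  -- K ≤ N ⊔ H^g
  have hc' : (Nat.card (H.map (MulAut.conj g).toMonoidHom)).Coprime (Nat.card N) := by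
    rw [Subgroup.card_map_of_injective (MulAut.conj g).injective]; exact hc
  obtain ⟨n, hn, hnK⟩ := CfsgLib.Coprime.sz_conj (N := N) (H := H.map (MulAut.conj g).toMonoidHom) (K := K)
    (le_top.trans (ge_of_eq (Subgroup.normalizer_eq_top_iff.mpr (inferInstance : N.Normal)))) hc' (Or.inr hN) (by
      have := (le_sup_left : K ≤ K ⊔ N)
      rw [hg, sup_comm] at this
      exact this) (by rw [Subgroup.card_map_of_injective (MulAut.conj g).injective]; exact hHK.symm)
  refine (CJ.smul H g).trans ⟨n, ?_⟩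
  rw [← hnK]
  rfl

/-- lifting of `p`-subgroups -/
theorem exists_lift [Finite G] {p : ℕ} [hp : Fact p.Prime] {N : Subgroup G} [N.Normal]
    {Q : Subgroup (G ⧸ N)} (hQ : IsPGroup p Q) :
    ∃ R : Subgroup G, IsPGroup p R ∧ R.map (QuotientGroup.mk' N) = Q ∧
      Nat.card R = p ^ (Nat.card N * Nat.card Q).factorization p := by
  set W := Q.comap (QuotientGroup.mk' N) with hW
  let f := (QuotientGroup.mk' N).subgroupComap Q
  have hf : Function.Surjective f :=
    MonoidHom.subgroupComap_surjective_of_surjective _ _ (QuotientGroup.mk'_surjective N)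
  obtain ⟨S⟩ := (inferInstance : Nonempty (Sylow p W))
  let T : Sylow p Q := S.mapSurjective hf
  have hT : (T : Subgroup Q) = ⊤ := by
    apply Subgroup.eq_top_of_card_eq
    apply le_antisymm (Nat.le_of_dvd Nat.card_pos (Subgroup.card_subgroup_dvd_card _))
    obtain ⟨n, hn⟩ := hQ.exists_card_eq
    rw [hn]
    apply Nat.le_of_dvd Nat.card_pos
    exact T.pow_dvd_card_of_pow_dvd_card (dvd_of_eq hn.symm)
  refine ⟨(S : Subgroup W).map W.subtype, S.2.map _, ?_, ?_⟩
  · rw [Subgroup.map_map]
    have h1 : (QuotientGroup.mk' N).comp W.subtype = Q.subtype.comp f := rfl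
    rw [h1, ← Subgroup.map_map]
    have h2 : (S : Subgroup W).map f = ⊤ := by rw [← hT]; rfl
    rw [h2, ← MonoidHom.range_eq_map, Subgroup.range_subtype]
  · rw [Subgroup.card_map_of_injective W.subtype_injective, S.card_eq_multiplicity, ← CfsgLib.Cores.card_comap_mk]

/-- in a finite cyclic group a subgroup is determined by its order -/
theorem cyclic_eq_of_card [Finite G] [hC : IsCyclic G] {A B : Subgroup G} (h : Nat.card A = Nat.card B) : A = B := by
  classical
  haveI := Fintype.ofFinite G
  have key : ∀ S : Subgroup G, Finset.univ.filter (fun x : G => x ∈ S)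
      = Finset.univ.filter (fun x : G => x ^ Nat.card S = 1) := by
    intro S
    apply Finset.eq_of_subset_of_card_le
    · intro x hx
      simp only [Finset.mem_filter, Finset.mem_univ, true_and] at hx ⊢
      exact orderOf_dvd_iff_pow_eq_one.mp (by
        rw [← Nat.card_zpowers]
        exact Subgroup.card_dvd_of_le (by rwa [Subgroup.zpowers_le]))
    · refine (IsCyclic.card_pow_eq_one_le (α := G) Nat.card_pos).trans ?_
      rw [Nat.card_eq_fintype_card, Fintype.card_subtype]
  ext x
  have h1 := key A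
  rw [h, ← key B] at h1
  have h2 := Finset.ext_iff.mp h1 x
  simpa using h2

/-- the same relative to a cyclic subgroup -/
theorem eq_of_card_of_le_cyclic [Finite G] {C A B : Subgroup G} (hC : IsCyclic C) (hA : A ≤ C) (hB : B ≤ C)
    (h : Nat.card A = Nat.card B) : A = B := by
  have h1 : A.subgroupOf C = B.subgroupOf C := by
    apply cyclic_eq_of_card
    rw [Nat.card_congr (Subgroup.subgroupOfEquivOfLe hA).toEquiv,
      Nat.card_congr (Subgroup.subgroupOfEquivOfLe hB).toEquiv, h]
  have := congrArg (Subgroup.map C.subtype) h1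
  rwa [Subgroup.map_subgroupOf_eq_of_le hA, Subgroup.map_subgroupOf_eq_of_le hB] at this

end CfsgLib.FgCQ
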