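import Cfsg.Agent.EqBase

/-! Counting: sums over orbits; Wielandt's counting of subgroups of prime power order. -/

set_option autoImplicit false
set_option linter.unusedSectionVars false
set_option linter.style.haveILetI false

open Pointwise

namespace CfsgLib.FgCount

universe u v

open Subgroup

theorem dvd_sum_of_orbits {L : Type u} {X : Type v} [Group L] [Finite L] [MulAction L X] [Fintype X] (f : X → ℤ)
    (hf : ∀ (l : L) x, f (l • x) = f x) (d : ℤ)
    (hd : ∀ x, d ∣ (Nat.card (MulAction.orbit L x) : ℤ) * f x) : d ∣ ∑ x, f x := by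
  classical
  let π : X → Quotient (MulAction.orbitRel L X) := Quotient.mk _
  haveI : Fintype (Quotient (MulAction.orbitRel L X)) := Fintype.ofFinite _
  rw [← Finset.sum_fiberwise Finset.univ π f]
  apply Finset.dvd_sum
  intro q _
  obtain ⟨x, rfl⟩ := Quotient.exists_rep q
  have h1 : ∀ i ∈ Finset.univ.filter (fun i => π i = ⟦x⟧), f i = f x := by
    intro i hi
    have h2 : π i = ⟦x⟧ := (Finset.mem_filter.mp hi).2
    obtain ⟨l, hl⟩ : i ∈ MulAction.orbit L x := Quotient.exact h2
    rw [← hl]
    exact hf l x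
  rw [Finset.sum_congr rfl h1, Finset.sum_const, nsmul_eq_mul]
  have h3 : (Finset.univ.filter (fun i => π i = ⟦x⟧)).card = Nat.card (MulAction.orbit L x) := by
    rw [← Set.ncard_coe_finset, Nat.card_coe_set_eq]
    congr 1
    ext i
    simp only [Finset.coe_filter, Finset.mem_univ, true_and]
    exact ⟨fun h => Quotient.exact h, fun h => Quotient.sound h⟩
  rw [h3]
  exact hd x

section
variable {G : Type u} [Group G] [Finite G]

/-- subsets of size `q` -/
abbrev SS (G : Type u) (q : ℕ) : Type u := {S : Finset G // S.card = q}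

open scoped Classical in
noncomputable instance (q : ℕ) : MulAction G (SS G q) where
  smul g S := ⟨g • S.1, by rw [Finset.card_smul_finset]; exact S.2⟩
  one_smul S := Subtype.ext (one_smul G S.1)
  mul_smul g h S := Subtype.ext (mul_smul g h S.1)

open scoped Classical in
theorem smul_val {q : ℕ} (g : G) (S : SS G q) : (g • S).1 = g • S.1 := rfl

theorem mem_stab {q : ℕ} (g : G) (S : SS G q) : g ∈ MulAction.stabilizer G S ↔ ∀ x, x ∈ S.1 ↔ g * x ∈ S.1 := by
  classical
  rw [MulAction.mem_stabilizer_iff, Subtype.ext_iff, smul_val]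
  constructor
  · intro h x
    conv_rhs => rw [← h]
    exact (Finset.smul_mem_smul_finset_iff g).symm
  · intro h
    ext x
    rw [← Finset.inv_smul_mem_iff, h, smul_eq_mul, mul_inv_cancel_left]

/-- the stabilizer of a set acts freely on it -/
theorem card_stab_dvd {q : ℕ} (S : SS G q) : Nat.card (MulAction.stabilizer G S) ∣ q := by
  classical
  have hS := S.2
  -- the set as a `Subtype`, acted on freely
  letI : MulAction (MulAction.stabilizer G S) {x // x ∈ S.1} :=
    { smul := fun g x => ⟨g.1 * x.1, ((mem_stab g.1 S).mp g.2 x.1).mp x.2⟩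
      one_smul := fun x => Subtype.ext (one_mul _)
      mul_smul := fun g h x => Subtype.ext (mul_assoc _ _ _) }
  have hfree : ∀ x : {x // x ∈ S.1}, MulAction.stabilizer (MulAction.stabilizer G S) x = ⊥ := by
    intro x
    rw [eq_bot_iff]
    intro g hg
    rw [MulAction.mem_stabilizer_iff] at hg
    have h1 : g.1 * x.1 = x.1 := congrArg Subtype.val hg
    rw [mem_bot]
    exact Subtype.ext (mul_eq_right.mp h1)
  have h1 : (Nat.card (MulAction.stabilizer G S) : ℤ) ∣ ∑ x : {x // x ∈ S.1}, (1 : ℤ) := by
    refine dvd_sum_of_orbits (L := MulAction.stabilizer G S) (fun _ => 1) (fun _ _ => rfl) _ (fun x => ?_)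
    have h2 := MulAction.index_stabilizer (G := MulAction.stabilizer G S) (x := x)
    rw [hfree x, index_bot] at h2
    rw [mul_one, Nat.card_coe_set_eq, ← h2]
  rw [Finset.sum_const, Finset.card_univ, Fintype.card_coe, hS, nsmul_eq_mul, mul_one] at h1
  exact_mod_cast h1

/-- the right coset of `g` as a finset -/
noncomputable def rcos (H : Subgroup G) (g : G) : Finset G := (Set.toFinite {x : G | x * g⁻¹ ∈ H}).toFinset

theorem mem_rcos (H : Subgroup G) (g x : G) : x ∈ rcos H g ↔ x * g⁻¹ ∈ H := by
  rw [rcos, Set.Finite.mem_toFinset]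
  rfl

theorem card_rcos (H : Subgroup G) (g : G) : (rcos H g).card = Nat.card H := by
  rw [← Set.ncard_coe_finset, ← Nat.card_coe_set_eq]
  refine Nat.card_congr ⟨fun x => ⟨x.1 * g⁻¹, (mem_rcos H g _).mp x.2⟩, fun h => ⟨h.1 * g, ?_⟩, ?_, ?_⟩
  · exact (mem_rcos H g _).mpr (by rw [mul_inv_cancel_right]; exact h.2)
  · intro x; exact Subtype.ext (by simp)
  · intro x; exact Subtype.ext (by simp)

theorem stab_rcos (q : ℕ) (H : Subgroup G) (g : G) (hH : Nat.card H = q) :
    MulAction.stabilizer G (⟨rcos H g, (card_rcos H g).trans hH⟩ : SS G q) = H := by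
  ext h
  rw [mem_stab]
  simp only [mem_rcos]
  constructor
  · intro h1
    have h2 := (h1 g).mp (by rw [mul_inv_cancel]; exact one_mem _)
    rwa [mul_assoc, mul_inv_cancel, mul_one] at h2
  · intro h1 x
    rw [mul_assoc, H.mul_mem_cancel_left h1]

theorem eq_rcos (q : ℕ) (S : SS G q) (x : G) (hx : x ∈ S.1) (hq : Nat.card (MulAction.stabilizer G S) = q) :
    rcos (MulAction.stabilizer G S) x = S.1 := by
  apply Finset.eq_of_subset_of_card_le
  · intro y hy
    rw [mem_rcos] at hy
    have h1 := ((mem_stab _ S).mp hy x).mp hx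
    rwa [inv_mul_cancel_right] at h1
  · rw [S.2, card_rcos, hq]

/-- sets with full stabilizer and a point, are subgroups of order `q` and an element. -/
noncomputable def fullEquiv (q : ℕ) :
    {S : SS G q × G // Nat.card (MulAction.stabilizer G S.1) = q ∧ S.2 ∈ S.1.1} ≃
      {H : Subgroup G // Nat.card H = q} × G where
  toFun := fun S => (⟨MulAction.stabilizer G S.1.1, S.2.1⟩, S.1.2)
  invFun := fun H => ⟨(⟨rcos H.1.1 H.2, (card_rcos H.1.1 H.2).trans H.1.2⟩, H.2), by
    constructor
    · rw [stab_rcos q H.1.1 H.2 H.1.2]; exact H.1.2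
    · simp only [mem_rcos, mul_inv_cancel]; exact one_mem _⟩
  left_inv := by
    rintro ⟨⟨S, x⟩, hSq, hx⟩
    apply Subtype.ext
    refine Prod.ext ?_ rfl
    exact Subtype.ext (eq_rcos q S x hx hSq)
  right_inv := by
    rintro ⟨⟨H, hH⟩, g⟩
    refine Prod.ext ?_ rfl
    exact Subtype.ext (stab_rcos q H g hH)

theorem card_full (q : ℕ) : Nat.card {S : SS G q // Nat.card (MulAction.stabilizer G S) = q} * q =
    Nat.card {H : Subgroup G // Nat.card H = q} * Nat.card G := by
  classical
  haveI := Fintype.ofFinite G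
  rw [← Nat.card_prod, ← Nat.card_congr (fullEquiv (G := G) q)]
  have e : {S : SS G q × G // Nat.card (MulAction.stabilizer G S.1) = q ∧ S.2 ∈ S.1.1} ≃
      (Σ S : {S : SS G q // Nat.card (MulAction.stabilizer G S) = q}, {x // x ∈ S.1.1}) :=
    { toFun := fun S => ⟨⟨S.1.1, S.2.1⟩, ⟨S.1.2, S.2.2⟩⟩
      invFun := fun S => ⟨(S.1.1, S.2.1), ⟨S.1.2, S.2.2⟩⟩
      left_inv := fun _ => rfl
      right_inv := fun _ => rfl }
  rw [Nat.card_congr e, Nat.card_sigma]
  have h1 : ∀ S : {S : SS G q // Nat.card (MulAction.stabilizer G S) = q}, Nat.card {x // x ∈ S.1.1} = q := by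
    intro S
    rw [Nat.card_eq_fintype_card, Fintype.card_coe]
    exact S.1.2
  simp only [h1, Finset.sum_const, Finset.card_univ, smul_eq_mul, Nat.card_eq_fintype_card]

/-- Wielandt's congruence. -/
theorem wielandt (p β m : ℕ) (hp : p.Prime) (hG : Nat.card G = p ^ β * m) :
    ((Nat.card G).choose (p ^ β) : ℤ) ≡
      (Nat.card {H : Subgroup G // Nat.card H = p ^ β} * m : ℕ) [ZMOD (p * m : ℕ)] := by
  classical
  haveI := Fintype.ofFinite G
  obtain ⟨q, hq⟩ : ∃ q, q = p ^ β := ⟨_, rfl⟩
  have hG' := hG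
  rw [← hq] at hG ⊢
  have hqpos : 0 < q := hq ▸ pow_pos hp.pos β
  have hmpos : 0 < m := Nat.pos_of_ne_zero (by rintro rfl; rw [mul_zero] at hG; exact Nat.card_pos.ne' hG)
  -- the number of sets
  have hX : Fintype.card (SS G q) = (Nat.card G).choose q := by
    rw [Nat.card_eq_fintype_card, Fintype.card_subtype, ← Fintype.card_finset_len, Fintype.card_subtype]
  have hY : Nat.card {S : SS G q // Nat.card (MulAction.stabilizer G S) = q} =
      Nat.card {H : Subgroup G // Nat.card H = q} * m := by
    have h1 := card_full (G := G) q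
    rw [hG, ← mul_assoc, mul_right_comm] at h1
    exact Nat.eq_of_mul_eq_mul_right hqpos h1
  let f : SS G q → ℤ := fun S => if Nat.card (MulAction.stabilizer G S) = q then 0 else 1
  have hinv : ∀ (g : G) (S : SS G q), Nat.card (MulAction.stabilizer G (g • S)) =
      Nat.card (MulAction.stabilizer G S) := by
    intro g S
    exact (Nat.card_congr (MulAction.stabilizerEquivStabilizer (g := g) (a := S) (b := g • S) rfl).toEquiv).symm
  have hsum : ((p * m : ℕ) : ℤ) ∣ ∑ S, f S := by
    refine dvd_sum_of_orbits (L := G) f (fun g S => by simp only [f, hinv]) _ (fun S => ?_)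
    by_cases hS : Nat.card (MulAction.stabilizer G S) = q
    · simp only [f]
      rw [if_pos hS, mul_zero]
      exact dvd_zero _
    · simp only [f]
      rw [if_neg hS, mul_one]
      have hsd : Nat.card (MulAction.stabilizer G S) ∣ p ^ β := hq.symm ▸ card_stab_dvd S
      obtain ⟨j, hj, hj2⟩ := (Nat.dvd_prime_pow hp).mp hsd
      have hjlt : j < β := by
        refine lt_of_le_of_ne hj ?_
        rintro rfl
        exact hS (hj2.trans hq.symm)
      have h1 := card_mul_index (MulAction.stabilizer G S)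
      rw [MulAction.index_stabilizer, hj2, hG'] at h1
      obtain ⟨i, rfl⟩ : ∃ i, β = j + (i + 1) := ⟨β - j - 1, by omega⟩
      rw [pow_add, mul_assoc] at h1
      have h2 := Nat.eq_of_mul_eq_mul_left (pow_pos hp.pos j) h1
      rw [Nat.card_coe_set_eq, h2]
      have h3 : p * m ∣ p ^ (i + 1) * m := ⟨p ^ i, by rw [pow_succ]; ring⟩
      exact_mod_cast h3
  have hsum2 : ∑ S, f S = ((Nat.card G).choose q : ℤ) - (Nat.card {H : Subgroup G // Nat.card H = q} * m : ℕ) := by
    have h1 : ∀ S : SS G q, f S = 1 - (if Nat.card (MulAction.stabilizer G S) = q then 1 else 0) := by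
      intro S
      simp only [f]
      split_ifs <;> simp
    rw [Finset.sum_congr rfl fun S _ => h1 S, Finset.sum_sub_distrib, Finset.sum_const, Finset.card_univ, hX,
      Finset.sum_boole, ← hY, nsmul_eq_mul, mul_one]
    congr 2
    rw [Nat.card_eq_fintype_card, Fintype.card_subtype]
  rw [hsum2] at hsum
  exact (Int.modEq_iff_dvd.mpr hsum).symm

end

/-- A cyclic group has exactly one subgroup of each order dividing its order. -/
theorem card_cyclic {C : Type v} [Group C] [Finite C] [hC : IsCyclic C] {d : ℕ} (hd : d ∣ Nat.card C) :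
    Nat.card {H : Subgroup C // Nat.card H = d} = 1 := by
  classical
  haveI := Fintype.ofFinite C
  have hdpos : 0 < d := Nat.pos_of_dvd_of_pos hd Nat.card_pos
  rw [Nat.card_eq_one_iff_unique]
  constructor
  · constructor
    rintro ⟨H, hH⟩ ⟨K, hK⟩
    apply Subtype.ext
    have key : ∀ L : Subgroup C, Nat.card L = d → (L : Set C).toFinset = Finset.univ.filter (fun x : C => x ^ d = 1) := by
      intro L hL
      apply Finset.eq_of_subset_of_card_le
      · intro x hx
        rw [Set.mem_toFinset] at hx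
        simp only [Finset.mem_filter, Finset.mem_univ, true_and]
        have := pow_card_eq_one' (x := (⟨x, hx⟩ : L))
        rw [hL] at this
        exact congrArg Subtype.val this
      · refine (IsCyclic.card_pow_eq_one_le hdpos).trans ?_
        rw [← hL, Set.toFinset_card, Nat.card_eq_fintype_card]
        exact le_of_eq (Fintype.card_congr (Equiv.refl _))
    have h1 := (key H hH).trans (key K hK).symm
    exact SetLike.coe_injective (Set.toFinset_inj.mp h1)
  · obtain ⟨g, hg⟩ := hC.exists_generator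
    refine ⟨⟨zpowers (g ^ (Nat.card C / d)), ?_⟩⟩
    have h1 : orderOf g = Nat.card C := orderOf_eq_card_of_forall_mem_zpowers hg
    rw [Nat.card_zpowers, ← h1]
    exact orderOf_pow_orderOf_div (orderOf_pos g).ne' (h1.symm ▸ hd)

/-- Frobenius' theorem on the number of subgroups of prime power order. -/
theorem frobenius {G : Type u} [Group G] [Finite G] (p β : ℕ) (hp : p.Prime) (hdiv : p ^ β ∣ Nat.card G) :
    Nat.card {H : Subgroup G // Nat.card H = p ^ β} ≡ 1 [MOD p] := by
  obtain ⟨m, hm⟩ := hdiv
  haveI : NeZero (Nat.card G) := ⟨Nat.card_pos.ne'⟩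
  have hcC : Nat.card (Multiplicative (ZMod (Nat.card G))) = Nat.card G := by
    rw [Nat.card_congr Multiplicative.toAdd, Nat.card_zmod]
  have h1 := wielandt (G := G) p β m hp hm
  have h2 := wielandt (G := Multiplicative (ZMod (Nat.card G))) p β m hp (hcC.trans hm)
  rw [card_cyclic (by rw [hcC, hm]; exact dvd_mul_right _ _), hcC] at h2
  have h3 := h1.symm.trans h2
  have hmpos : 0 < m := Nat.pos_of_ne_zero (by rintro rfl; rw [mul_zero] at hm; exact Nat.card_pos.ne' hm)
  have h4 : Nat.card {H : Subgroup G // Nat.card H = p ^ β} * m ≡ 1 * m [MOD p * m] :=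
    (Int.natCast_modEq_iff).mp h3
  exact Nat.ModEq.mul_right_cancel' hmpos.ne' h4

theorem map_conj_normal {G : Type u} [Group G] (H : Subgroup G) [hn : H.Normal] (g : G) :
    H.map (MulAut.conj g).toMonoidHom = H := by
  apply le_antisymm
  · rintro _ ⟨x, hx, rfl⟩
    exact hn.conj_mem x hx g
  · intro x hx
    refine ⟨g⁻¹ * x * g, ?_, ?_⟩
    · have := hn.conj_mem x hx g⁻¹
      rwa [inv_inv] at this
    · change g * (g⁻¹ * x * g) * g⁻¹ = x
      simp [mul_assoc]

end CfsgLib.FgCount
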