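import Cfsg.Agent.EqBase
import Cfsg.Agent.LibFgCount
import Cfsg.Agent.LibFgElt

/-! Frobenius' theorem on the number of solutions of `x ^ n = 1` (proof of Isaacs and Robinson). -/

set_option autoImplicit false
set_option linter.unusedSectionVars false
set_option linter.style.haveILetI false

namespace CfsgLib.FgFrob

universe u v

open Subgroup

/-- `m ∣ a * gcd (m, b)` when `m ∣ a * b`. -/
theorem dvd_mul_gcd {m a b : ℕ} (h : m ∣ a * b) : m ∣ a * Nat.gcd m b := by
  rw [← Nat.gcd_mul_left]
  exact Nat.dvd_gcd (dvd_mul_left m a) h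

section
variable {G : Type u} [Group G] [Finite G]

theorem card_pow_gcd (n : ℕ) : Nat.card {g : G // g ^ n = 1} = Nat.card {g : G // g ^ (Nat.gcd n (Nat.card G)) = 1} := by
  refine Nat.card_congr (Equiv.subtypeEquivRight fun g => ?_)
  rw [← orderOf_dvd_iff_pow_eq_one, ← orderOf_dvd_iff_pow_eq_one, Nat.dvd_gcd_iff]
  exact ⟨fun h => ⟨h, orderOf_dvd_natCard g⟩, fun h => h.1⟩

/-- conjugation-invariant sums -/
theorem dvd_sum_conj [Fintype G] (f : G → ℤ) (hf : ∀ g x : G, f (g * x * g⁻¹) = f x) (d : ℤ)
    (hd : ∀ x, d ∣ ((centralizer ({x} : Set G)).index : ℤ) * f x) : d ∣ ∑ x, f x := by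
  have h := CfsgLib.FgCount.dvd_sum_of_orbits (L := ConjAct G) (X := G) f
    (fun g x => by rw [ConjAct.smul_def]; exact hf _ _) d (fun x => ?_)
  · exact h
  · have h1 : Nat.card (MulAction.orbit (ConjAct G) x) = (centralizer ({x} : Set G)).index := by
      rw [Nat.card_coe_set_eq, ← MulAction.index_stabilizer]
      exact congrArg Subgroup.index (ConjAct.stabilizer_eq_centralizer x)
    rw [h1]
    exact hd x

/-- passing to a quotient by a central subgroup of order prime to `m`. -/
theorem card_pow_central {C : Type u} [Group C] [Finite C] (Z : Subgroup C) [Z.Normal] (hZ : Z ≤ center C) {m : ℕ}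
    (hm : Nat.Coprime m (Nat.card Z)) :
    Nat.card {z : C // z ^ m = 1} = Nat.card {w : C ⧸ Z // w ^ m = 1} := by
  let f : {z : C // z ^ m = 1} → {w : C ⧸ Z // w ^ m = 1} := fun z =>
    ⟨QuotientGroup.mk z.1, by rw [← QuotientGroup.mk_pow, z.2]; rfl⟩
  refine Nat.card_congr (Equiv.ofBijective f ⟨?_, ?_⟩)
  · rintro ⟨x, hx⟩ ⟨y, hy⟩ hxy
    have h1 : (QuotientGroup.mk x : C ⧸ Z) = QuotientGroup.mk y := congrArg Subtype.val hxy
    rw [QuotientGroup.eq] at h1
    obtain ⟨c, hc⟩ : ∃ c, c = x⁻¹ * y := ⟨_, rfl⟩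
    rw [← hc] at h1
    have hyc : y = x * c := by rw [hc, mul_inv_cancel_left]
    have hcx : Commute x c := mem_center_iff.mp (hZ h1) x
    have h2 : c ^ m = 1 := by
      rw [hyc, hcx.mul_pow, hx, one_mul] at hy
      exact hy
    have h3 : orderOf c ∣ Nat.card Z := by
      rw [← Subgroup.orderOf_mk c h1]; exact orderOf_dvd_natCard _
    have h4 : orderOf c = 1 := Nat.eq_one_of_dvd_coprimes hm (orderOf_dvd_of_pow_eq_one h2) h3
    rw [orderOf_eq_one_iff] at h4
    apply Subtype.ext
    simp only [hyc, h4, mul_one]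
  · rintro ⟨w, hw⟩
    obtain ⟨x, rfl⟩ := QuotientGroup.mk_surjective w
    rw [← QuotientGroup.mk_pow, QuotientGroup.eq_one_iff] at hw
    have h1 : (x ^ m) ^ Nat.card Z = 1 := by
      have := pow_card_eq_one' (x := (⟨_, hw⟩ : Z))
      exact congrArg Subtype.val this
    -- a number ≡ 0 mod |Z|, ≡ 1 mod m
    obtain ⟨k, hk1, hk2⟩ := Nat.chineseRemainder hm 1 0
    have hk3 : Nat.card Z ∣ k := (Nat.modEq_zero_iff_dvd).mp hk2
    refine ⟨⟨x ^ k, ?_⟩, ?_⟩
    · obtain ⟨r, rfl⟩ := hk3
      rw [← pow_mul, mul_comm, ← mul_assoc, pow_mul, pow_mul, h1, one_pow]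
    · apply Subtype.ext
      change (QuotientGroup.mk (x ^ k) : C ⧸ Z) = QuotientGroup.mk x
      rw [QuotientGroup.mk_pow]
      have h5 : orderOf (QuotientGroup.mk x : C ⧸ Z) ∣ m := by
        apply orderOf_dvd_of_pow_eq_one
        rw [← QuotientGroup.mk_pow]
        exact (QuotientGroup.eq_one_iff _).mpr hw
      have h6 : k ≡ 1 [MOD orderOf (QuotientGroup.mk x : C ⧸ Z)] := hk1.of_dvd h5
      calc (QuotientGroup.mk x : C ⧸ Z) ^ k = (QuotientGroup.mk x : C ⧸ Z) ^ 1 := pow_eq_pow_iff_modEq.mpr h6
        _ = _ := pow_one _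

/-- the number of solutions of `z ^ m = 1` in the centralizer of `y` -/
noncomputable def F (m : ℕ) (y : G) : ℕ := Nat.card {z : G // z * y = y * z ∧ z ^ m = 1}

theorem F_eq (m : ℕ) (y : G) : F m y = Nat.card {z : centralizer ({y} : Set G) // z ^ m = 1} := by
  refine Nat.card_congr ⟨fun z => ⟨⟨z.1, mem_centralizer_singleton_iff.mpr z.2.1⟩, Subtype.ext z.2.2⟩,
    fun z => ⟨z.1.1, mem_centralizer_singleton_iff.mp z.1.2, congrArg Subtype.val z.2⟩, fun _ => rfl, fun _ => rfl⟩

theorem F_conj (m : ℕ) (g y : G) : F m (g * y * g⁻¹) = F m y := by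
  refine Nat.card_congr ⟨fun z => ⟨g⁻¹ * z.1 * g, ?_, ?_⟩, fun z => ⟨g * z.1 * g⁻¹, ?_, ?_⟩, ?_, ?_⟩
  · have h := z.2.1
    have h2 := congrArg (fun x => g⁻¹ * x * g) h
    simpa [mul_assoc] using h2
  · have h1 : (g⁻¹ * z.1 * g) ^ m = g⁻¹ * z.1 ^ m * g := by
      have := conj_pow (a := g⁻¹) (b := z.1) (i := m)
      rwa [inv_inv] at this
    rw [h1, z.2.2, mul_one, inv_mul_cancel]
  · have h := z.2.1
    have h2 := congrArg (fun x => g * x * g⁻¹) h
    simpa [mul_assoc] using h2
  · rw [conj_pow, z.2.2, mul_one, mul_inv_cancel]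
  · intro z; apply Subtype.ext; simp [mul_assoc]
  · intro z; apply Subtype.ext; simp [mul_assoc]

theorem F_pow (m : ℕ) (y : G) {k : ℕ} (hk : Nat.Coprime k (orderOf y)) : F m (y ^ k) = F m y := by
  refine Nat.card_congr (Equiv.subtypeEquivRight fun z => ?_)
  constructor
  · rintro ⟨h1, h2⟩
    refine ⟨?_, h2⟩
    obtain ⟨l, hl⟩ := exists_pow_eq_self_of_coprime hk
    have h3 : Commute z ((y ^ k) ^ l) := (show Commute z (y ^ k) from h1).pow_right l
    rw [hl] at h3
    exact h3
  · rintro ⟨h1, h2⟩
    exact ⟨((show Commute z y from h1).pow_right k).eq, h2⟩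

/-- the bijection -/
theorem card_S {p a m : ℕ} (hp : p.Prime) (ha : 1 ≤ a) (hm : Nat.Coprime m p) :
    Nat.card {x : G // x ^ (p ^ a * m) = 1 ∧ x ^ (p ^ (a - 1) * m) ≠ 1} =
      Nat.card {w : G × G // orderOf w.1 = p ^ a ∧ w.2 * w.1 = w.1 * w.2 ∧ w.2 ^ m = 1} := by
  have hcop : Nat.Coprime (p ^ a) m := Nat.Coprime.pow_left a hm.symm
  obtain ⟨u, hu1, hu2⟩ := Nat.chineseRemainder hcop 1 0
  obtain ⟨v, hv1, hv2⟩ := Nat.chineseRemainder hcop 0 1
  have hum : m ∣ u := (Nat.modEq_zero_iff_dvd).mp hu2
  have hvp : p ^ a ∣ v := (Nat.modEq_zero_iff_dvd).mp hv1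
  have huv : u + v ≡ 1 [MOD p ^ a * m] := by
    rw [← Nat.modEq_and_modEq_iff_modEq_mul hcop]
    exact ⟨hu1.add hv1, hu2.add hv2⟩
  have hpu : ¬ p ∣ u := by
    intro hd
    have h1 : u ≡ 1 [MOD p] := hu1.of_dvd (dvd_pow_self p (by omega))
    have h2 : u ≡ 0 [MOD p] := (Nat.modEq_zero_iff_dvd).mpr hd
    have h3 : 1 ≡ 0 [MOD p] := h1.symm.trans h2
    exact hp.one_lt.ne' (Nat.dvd_one.mp ((Nat.modEq_zero_iff_dvd).mp h3))
  have hdec : ∀ y z : G, orderOf y = p ^ a → z * y = y * z → z ^ m = 1 →
      (y * z) ^ u = y ∧ (y * z) ^ v = z := by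
    intro y z hy hc hz
    have hc' : Commute y z := hc.symm
    constructor
    · rw [hc'.mul_pow]
      obtain ⟨r, hr⟩ := hum
      have h1 : z ^ u = 1 := by rw [hr, pow_mul, hz, one_pow]
      have h2 : y ^ u = y ^ 1 := pow_eq_pow_iff_modEq.mpr (by rw [hy]; exact hu1)
      rw [h1, h2, pow_one, mul_one]
    · rw [hc'.mul_pow]
      obtain ⟨r, hr⟩ := hvp
      have h1 : y ^ v = 1 := by rw [hr, pow_mul, ← hy, pow_orderOf_eq_one, one_pow]
      have h2 : z ^ v = z ^ 1 := pow_eq_pow_iff_modEq.mpr (hv2.of_dvd (orderOf_dvd_of_pow_eq_one hz))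
      rw [h1, h2, pow_one, one_mul]
  have hord : ∀ x : G, x ^ (p ^ a * m) = 1 → x ^ (p ^ (a - 1) * m) ≠ 1 → orderOf (x ^ u) = p ^ a := by
    intro x hx1 hx2
    have h1 : (x ^ u) ^ (p ^ a) = 1 := by
      obtain ⟨r, hr⟩ := hum
      rw [← pow_mul, hr]
      have : m * r * p ^ a = p ^ a * m * r := by ring
      rw [this, pow_mul, hx1, one_pow]
    obtain ⟨b, rfl⟩ : ∃ b, a = b + 1 := ⟨a - 1, by omega⟩
    haveI : Fact p.Prime := ⟨hp⟩
    apply orderOf_eq_prime_pow
    · intro h2
      apply hx2
      rw [Nat.add_sub_cancel]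
      -- order of x divides p^(b+1) m and u p^b
      rw [← orderOf_dvd_iff_pow_eq_one] at hx1 ⊢
      rw [← pow_mul] at h2
      have h3 : orderOf x ∣ u * p ^ b := orderOf_dvd_of_pow_eq_one h2
      have h4 : orderOf x ∣ Nat.gcd (p ^ (b + 1) * m) (u * p ^ b * m) :=
        Nat.dvd_gcd hx1 (h3.mul_right m)
      refine h4.trans ?_
      have h5 : p ^ (b + 1) * m = p ^ b * m * p := by ring
      have h6 : u * p ^ b * m = p ^ b * m * u := by ring
      rw [h5, h6, Nat.gcd_mul_left]
      have h7 : Nat.gcd p u = 1 := (hp.coprime_iff_not_dvd).mpr hpu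
      rw [h7, mul_one]
    · exact h1
  refine Nat.card_congr
    ⟨fun x => ⟨(x.1 ^ u, x.1 ^ v), hord x.1 x.2.1 x.2.2, ?_, ?_⟩, fun yz => ⟨yz.1.1 * yz.1.2, ?_, ?_⟩, ?_, ?_⟩
  · rw [← pow_add, ← pow_add, add_comm]
  · obtain ⟨r, hr⟩ := hvp
    rw [← pow_mul, hr]
    have : p ^ a * r * m = p ^ a * m * r := by ring
    rw [this, pow_mul, x.2.1, one_pow]
  · obtain ⟨⟨y, z⟩, hy, hz1, hz2⟩ := yz
    have hc' : Commute y z := hz1.symm
    change (y * z) ^ (p ^ a * m) = 1
    simp only at hy hz2
    rw [hc'.mul_pow, pow_mul y, ← hy, pow_orderOf_eq_one, one_pow, one_mul, mul_comm, pow_mul, hz2, one_pow]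
  · obtain ⟨⟨y, z⟩, hy, hz1, hz2⟩ := yz
    have hc' : Commute y z := hz1.symm
    change (y * z) ^ (p ^ (a - 1) * m) ≠ 1
    simp only at hy hz2
    rw [hc'.mul_pow, mul_comm _ m, pow_mul z, hz2, one_pow, mul_one]
    intro h1
    have h2 := orderOf_dvd_of_pow_eq_one h1
    rw [hy] at h2
    have h3 : Nat.Coprime (p ^ a) m := hcop
    have h4 : p ^ a ∣ p ^ (a - 1) := Nat.Coprime.dvd_of_dvd_mul_left h3 h2
    have h5 := (Nat.pow_dvd_pow_iff_le_right hp.one_lt).mp h4
    omega
  · intro x
    apply Subtype.ext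
    change x.1 ^ u * x.1 ^ v = x.1
    rw [← pow_add]
    have h1 : x.1 ^ (u + v) = x.1 ^ 1 := pow_eq_pow_iff_modEq.mpr (huv.of_dvd (orderOf_dvd_of_pow_eq_one x.2.1))
    rw [h1, pow_one]
  · rintro ⟨⟨y, z⟩, hy, hz1, hz2⟩
    obtain ⟨h1, h2⟩ := hdec y z hy hz1 hz2
    exact Subtype.ext (Prod.ext h1 h2)

/-- the number of pairs as a sum -/
theorem card_pairs [Fintype G] [DecidableEq G] (Q : G → Prop) [DecidablePred Q] (m : ℕ) :
    Nat.card {w : G × G // Q w.1 ∧ w.2 * w.1 = w.1 * w.2 ∧ w.2 ^ m = 1} =
      ∑ y : G, if Q y then F m y else 0 := by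
  have e : {w : G × G // Q w.1 ∧ w.2 * w.1 = w.1 * w.2 ∧ w.2 ^ m = 1} ≃
      (Σ y : G, {z : G // Q y ∧ z * y = y * z ∧ z ^ m = 1}) :=
    { toFun := fun w => ⟨w.1.1, w.1.2, w.2⟩
      invFun := fun w => ⟨(w.1, w.2.1), w.2.2⟩
      left_inv := fun _ => rfl
      right_inv := fun _ => rfl }
  rw [Nat.card_congr e, Nat.card_sigma]
  refine Finset.sum_congr rfl fun y _ => ?_
  by_cases hQ : Q y
  · rw [if_pos hQ, F]
    exact Nat.card_congr (Equiv.subtypeEquivRight fun z => by simp [hQ])
  · rw [if_neg hQ]
    haveI : IsEmpty {z : G // Q y ∧ z * y = y * z ∧ z ^ m = 1} := ⟨fun z => hQ z.2.1⟩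
    exact Nat.card_of_isEmpty

/-- The units act on the elements of order `n`. -/
theorem dvd_sum_units {n : ℕ} (hn : 1 < n) (f : {y : G // orderOf y = n} → ℤ) [Fintype {y : G // orderOf y = n}]
    (hf : ∀ (y : {y : G // orderOf y = n}) (k : ℕ) (h : orderOf (y.1 ^ k) = n), Nat.Coprime k n → f ⟨y.1 ^ k, h⟩ = f y) :
    (Nat.totient n : ℤ) ∣ ∑ y, f y := by
  haveI : NeZero n := ⟨by omega⟩
  haveI : Fact (1 < n) := ⟨hn⟩
  have hord : ∀ (y : {y : G // orderOf y = n}) (k : ℕ), Nat.Coprime k n → orderOf (y.1 ^ k) = n := by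
    intro y k hk
    rw [Nat.Coprime.orderOf_pow (by rw [y.2]; exact hk.symm), y.2]
  letI : MulAction (ZMod n)ˣ {y : G // orderOf y = n} :=
    { smul := fun u y => ⟨y.1 ^ (u : ZMod n).val, hord y _ (ZMod.val_coe_unit_coprime u)⟩
      one_smul := fun y => Subtype.ext (by
        change y.1 ^ ((1 : (ZMod n)ˣ) : ZMod n).val = y.1
        rw [Units.val_one, ZMod.val_one, pow_one])
      mul_smul := fun u v y => Subtype.ext (by
        change y.1 ^ ((u * v : (ZMod n)ˣ) : ZMod n).val = (y.1 ^ (v : ZMod n).val) ^ (u : ZMod n).val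
        rw [← pow_mul, Units.val_mul, ZMod.val_mul, pow_eq_pow_iff_modEq, y.2, mul_comm]
        exact Nat.mod_modEq _ _) }
  refine CfsgLib.FgCount.dvd_sum_of_orbits (L := (ZMod n)ˣ) f (fun u y => ?_) _ (fun y => ?_)
  · exact hf y _ _ (ZMod.val_coe_unit_coprime u)
  · have hstab : MulAction.stabilizer (ZMod n)ˣ y = ⊥ := by
      rw [eq_bot_iff]
      intro u hu
      rw [MulAction.mem_stabilizer_iff] at hu
      have h1 : y.1 ^ (u : ZMod n).val = y.1 := congrArg Subtype.val hu
      have h2 : y.1 ^ (u : ZMod n).val = y.1 ^ 1 := by rw [h1, pow_one]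
      rw [pow_eq_pow_iff_modEq, y.2] at h2
      have h3 : (u : ZMod n).val = 1 := by
        have h4 := ZMod.val_lt (u : ZMod n)
        rwa [Nat.ModEq, Nat.mod_eq_of_lt h4, Nat.mod_eq_of_lt hn] at h2
      rw [mem_bot]
      apply Units.ext
      apply ZMod.val_injective
      rw [h3, Units.val_one, ZMod.val_one]
    have h1 := MulAction.index_stabilizer (G := (ZMod n)ˣ) (x := y)
    rw [hstab, index_bot] at h1
    rw [Nat.card_coe_set_eq, ← h1, Nat.card_eq_fintype_card, ZMod.card_units_eq_totient]
    exact dvd_mul_right _ _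

end

/-- Frobenius' theorem. -/
theorem frobenius_main (N : ℕ) : ∀ (G : Type u) [Group G] [Finite G], Nat.card G ≤ N → ∀ n : ℕ,
    n ∣ Nat.card G → n ∣ Nat.card {g : G // g ^ n = 1} := by
  induction N with
  | zero =>
    intro G _ _ hn
    have : 0 < Nat.card G := Nat.card_pos
    omega
  | succ N ih =>
    intro G _ _ hG
    classical
    haveI := Fintype.ofFinite G
    -- induct on the cofactor
    have key : ∀ k n : ℕ, n * k = Nat.card G → n ∣ Nat.card {g : G // g ^ n = 1} := by
      intro k
      induction k using Nat.strong_induction_on with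
      | _ k ihk =>
        intro n hnk
        by_cases hk1 : k = 1
        · subst hk1
          rw [mul_one] at hnk
          have : Nat.card {g : G // g ^ n = 1} = Nat.card G := by
            refine Nat.card_congr (Equiv.subtypeUnivEquiv fun g => ?_)
            rw [hnk]; exact pow_card_eq_one'
          rw [this, hnk]
        have hk0 : k ≠ 0 := by
          rintro rfl
          rw [mul_zero] at hnk
          exact Nat.card_pos.ne hnk
        obtain ⟨p, hp, hpk⟩ := Nat.exists_prime_and_dvd hk1
        obtain ⟨k', rfl⟩ := hpk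
        have hk'0 : k' ≠ 0 := by rintro rfl; exact hk0 (mul_zero _)
        have h1 := ihk k' (by
          have := hp.one_lt
          have : 0 < k' := Nat.pos_of_ne_zero hk'0
          nlinarith) (n * p) (by rw [← hnk]; ring)
        have h1' : n ∣ Nat.card {g : G // g ^ (n * p) = 1} := (dvd_mul_right n p).trans h1
        have hn0 : n ≠ 0 := by
          rintro rfl
          rw [zero_mul] at hnk
          exact Nat.card_pos.ne hnk
        -- n = p ^ b * m
        obtain ⟨b, m, hmp, hnm⟩ := Nat.exists_eq_pow_mul_and_not_dvd hn0 p hp.one_lt.ne'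
        have hmcop : Nat.Coprime m p := ((hp.coprime_iff_not_dvd).mpr hmp).symm
        have hnp : n * p = p ^ (b + 1) * m := by rw [hnm]; ring
        have hn' : n = p ^ (b + 1 - 1) * m := by rw [hnm, Nat.add_sub_cancel]
        -- splitting
        have hsplit : Nat.card {g : G // g ^ (n * p) = 1} = Nat.card {g : G // g ^ n = 1} +
            Nat.card {g : G // g ^ (n * p) = 1 ∧ g ^ n ≠ 1} := by
          rw [Nat.card_eq_fintype_card, Nat.card_eq_fintype_card, Nat.card_eq_fintype_card,
            Fintype.card_subtype, Fintype.card_subtype, Fintype.card_subtype]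
          rw [← Finset.card_union_of_disjoint]
          · congr 1
            ext g
            simp only [Finset.mem_filter, Finset.mem_univ, true_and, Finset.mem_union]
            constructor
            · intro h
              by_cases h2 : g ^ n = 1
              · exact Or.inl h2
              · exact Or.inr ⟨h, h2⟩
            · rintro (h | h)
              · rw [pow_mul, h, one_pow]
              · exact h.1
          · rw [Finset.disjoint_filter]
            rintro g - h1 ⟨-, h2⟩
            exact h2 h1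
        have hS : n ∣ Nat.card {g : G // g ^ (n * p) = 1 ∧ g ^ n ≠ 1} := by
          have e1 : Nat.card {g : G // g ^ (n * p) = 1 ∧ g ^ n ≠ 1} =
              Nat.card {x : G // x ^ (p ^ (b + 1) * m) = 1 ∧ x ^ (p ^ (b + 1 - 1) * m) ≠ 1} := by
            rw [← hnp, ← hn']
          rw [e1, card_S hp (by omega) hmcop, card_pairs (fun y => orderOf y = p ^ (b + 1)) m]
          rw [hnm]
          apply Nat.Coprime.mul_dvd_of_dvd_of_dvd (Nat.Coprime.pow_left b hmcop.symm)
          · -- the p-part
            have hlt : 1 < p ^ (b + 1) := Nat.one_lt_pow (by omega) hp.one_lt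
            have h2 := dvd_sum_units (G := G) hlt (fun y => (F m y.1 : ℤ)) (fun y k h hk => by
              have := F_pow m y.1 (k := k) (by rw [y.2]; exact hk)
              exact_mod_cast this)
            have h3 : p ^ b ∣ Nat.totient (p ^ (b + 1)) := by
              rw [Nat.totient_prime_pow hp (by omega), Nat.add_sub_cancel]
              exact dvd_mul_right _ _
            have h4 : (∑ y : G, if orderOf y = p ^ (b + 1) then F m y else 0) =
                ∑ y : {y : G // orderOf y = p ^ (b + 1)}, F m y.1 := by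
              rw [← Finset.sum_filter, Finset.sum_subtype (p := fun y => orderOf y = p ^ (b + 1)) _
                (fun x => by simp)]
            rw [h4]
            have h5 : (p ^ b : ℕ) ∣ ∑ y : {y : G // orderOf y = p ^ (b + 1)}, F m y.1 := by
              have h6 : ((p ^ b : ℕ) : ℤ) ∣ ((∑ y : {y : G // orderOf y = p ^ (b + 1)}, F m y.1 : ℕ) : ℤ) := by
                refine (Int.natCast_dvd_natCast.mpr h3).trans ?_
                rw [Nat.cast_sum]
                exact h2
              exact_mod_cast h6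
            exact h5
          · -- the p'-part
            have h2 := dvd_sum_conj (G := G) (fun y => ((if orderOf y = p ^ (b + 1) then F m y else 0 : ℕ) : ℤ))
              (fun g x => by
                have h3 : orderOf (g * x * g⁻¹) = orderOf x :=
                  orderOf_injective (MulAut.conj g).toMonoidHom (MulAut.conj g).injective x
                simp only [h3, F_conj]) (m : ℤ) (fun y => by
                by_cases hy : orderOf y = p ^ (b + 1)
                · simp only [if_pos hy]
                  -- the quotient of the centralizer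
                  obtain ⟨y', hy'⟩ : ∃ y' : centralizer ({y} : Set G), y'.1 = y :=
                    ⟨⟨y, mem_centralizer_singleton_iff.mpr rfl⟩, rfl⟩
                  have hZ : zpowers y' ≤ center (centralizer ({y} : Set G)) := by
                    rw [zpowers_le, mem_center_iff]
                    intro g
                    apply Subtype.ext
                    change g.1 * y'.1 = y'.1 * g.1
                    rw [hy']
                    exact mem_centralizer_singleton_iff.mp g.2
                  haveI : (zpowers y').Normal := by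
                    constructor
                    intro n hn g
                    have := mem_center_iff.mp (hZ hn) g
                    rw [this, mul_inv_cancel_right]
                    exact hn
                  have hZc : Nat.card (zpowers y') = p ^ (b + 1) := by
                    rw [Nat.card_zpowers, ← Subgroup.orderOf_coe, hy', hy]
                  have h3 : Nat.Coprime m (Nat.card (zpowers y')) := by
                    rw [hZc]; exact Nat.Coprime.pow_right _ hmcop
                  have h4 := card_pow_central (zpowers y') hZ h3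
                  have h5 : Nat.card (zpowers y') * Nat.card (centralizer ({y} : Set G) ⧸ zpowers y') =
                      Nat.card (centralizer ({y} : Set G)) := card_mul_index _
                  have h6 : Nat.card (centralizer ({y} : Set G)) * (centralizer ({y} : Set G)).index = Nat.card G :=
                    card_mul_index _
                  have h7 : Nat.gcd m (Nat.card (centralizer ({y} : Set G) ⧸ zpowers y')) ∣ F m y := by
                    rw [F_eq, h4, card_pow_gcd m]
                    apply ih _ _ _ (Nat.gcd_dvd_right _ _)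
                    have h8 : 1 < Nat.card (zpowers y') := by
                      rw [hZc]; exact Nat.one_lt_pow (by omega) hp.one_lt
                    have h9 : 0 < Nat.card (centralizer ({y} : Set G) ⧸ zpowers y') := Nat.card_pos
                    have h10 : Nat.card (centralizer ({y} : Set G)) ≤ Nat.card G := card_le_card_group _
                    nlinarith
                  have h8 : m ∣ (centralizer ({y} : Set G)).index *
                      Nat.card (centralizer ({y} : Set G) ⧸ zpowers y') := by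
                    have h9 : m ∣ p ^ (b + 1) * ((centralizer ({y} : Set G)).index *
                        Nat.card (centralizer ({y} : Set G) ⧸ zpowers y')) := by
                      rw [← hZc]
                      have h10 : Nat.card (zpowers y') * ((centralizer ({y} : Set G)).index *
                        Nat.card (centralizer ({y} : Set G) ⧸ zpowers y')) = Nat.card G := by
                        rw [← h6, ← h5]; ring
                      rw [h10, ← hnk, hnm]
                      exact ⟨p ^ b * (p * k'), by ring⟩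
                    exact Nat.Coprime.dvd_of_dvd_mul_left (Nat.Coprime.pow_right _ hmcop) h9
                  have h9 := (dvd_mul_gcd h8).trans (Nat.mul_dvd_mul_left _ h7)
                  exact_mod_cast h9
                · simp only [if_neg hy, Nat.cast_zero, mul_zero]
                  exact dvd_zero _)
            have h3 : (m : ℤ) ∣ ((∑ y : G, if orderOf y = p ^ (b + 1) then F m y else 0 : ℕ) : ℤ) := by
              rw [Nat.cast_sum]
              exact h2
            exact_mod_cast h3
        rw [hsplit] at h1'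
        exact (Nat.dvd_add_left hS).mp h1'
    intro n hn
    obtain ⟨k, hk⟩ := hn
    exact key k n hk.symm

theorem frobenius {G : Type u} [Group G] [Finite G] (n : ℕ) (hn : n ∣ Nat.card G) :
    n ∣ Nat.card {g : G // g ^ n = 1} := frobenius_main (Nat.card G) G le_rfl n hn

end CfsgLib.FgFrob
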