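import Mathlib
import Cfsg.Agent.EqBase
import Cfsg.Agent.LibFgFrob
import Cfsg.Agent.LibPCyc
import Cfsg.Agent.LibSolvCoprime2

/-! Counting elements of order `p^s m` when the Sylow `p`-subgroups are not cyclic. -/

set_option autoImplicit false
open scoped commutatorElement

namespace CfsgLib.FgCnt

theorem card_eq_mul_of_fiber {α β : Type*} [Finite α] [Finite β] (f : α → β) (c : ℕ)
    (h : ∀ b, Nat.card {a // f a = b} = c) : Nat.card α = Nat.card β * c := by
  classical
  have := Fintype.ofFinite β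
  rw [Nat.card_congr (Equiv.sigmaFiberEquiv f).symm, Nat.card_sigma]
  rw [Finset.sum_congr rfl (fun b _ => h b), Finset.sum_const, Finset.card_univ, smul_eq_mul,
    Nat.card_eq_fintype_card]

/-- invariant subsets and fixed points of a `p`-group -/
theorem mod_fixed {Γ α : Type*} [Group Γ] [MulAction Γ α] [Finite α] {p : ℕ} [Fact p.Prime] (hΓ : IsPGroup p Γ)
    (T : Set α) (hT : ∀ (g : Γ) a, a ∈ T → g • a ∈ T) :
    Nat.card T ≡ Nat.card {a : α // a ∈ T ∧ ∀ g : Γ, g • a = a} [MOD p] := by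
  let S : SubMulAction Γ α := ⟨T, fun g {a} ha => hT g a ha⟩
  have h := hΓ.card_modEq_card_fixedPoints S
  have e : Nat.card (MulAction.fixedPoints Γ S) = Nat.card {a : α // a ∈ T ∧ ∀ g : Γ, g • a = a} := by
    apply Nat.card_congr
    refine ⟨fun x => ⟨x.1.1, x.1.2, fun g => congrArg Subtype.val (x.2 g)⟩,
      fun x => ⟨⟨x.1, x.2.1⟩, fun g => Subtype.ext (x.2.2 g)⟩, fun x => rfl, fun x => rfl⟩
  rw [e] at h
  exact h

open Pointwise in
theorem mod_conj {G : Type*} [Group G] [Finite G] {p : ℕ} [Fact p.Prime] (P : Subgroup G) (hP : IsPGroup p P)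
    (T : Set (Subgroup G × G))
    (hT : ∀ g ∈ P, ∀ C y, (C, y) ∈ T → (C.map (MulAut.conj g).toMonoidHom, g * y * g⁻¹) ∈ T) :
    Nat.card T ≡ Nat.card {q : Subgroup G × G // q ∈ T ∧ P ≤ Subgroup.normalizer (q.1 : Set G) ∧
      q.2 ∈ Subgroup.centralizer (P : Set G)} [MOD p] := by
  let _ : MulAction P (Subgroup G × G) := MulAction.compHom (Subgroup G × G) ((MulAut.conj).comp P.subtype)
  have hs : ∀ (g : P) (C : Subgroup G) (y : G), g • (C, y) = (C.map (MulAut.conj (g : G)).toMonoidHom, g * y * (g : G)⁻¹) :=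
    fun g C y => rfl
  have h := mod_fixed hP T (fun g ⟨C, y⟩ ha => by rw [hs]; exact hT g g.2 C y ha)
  refine h.trans ?_
  refine (congrArg (· % p) ?_ : _)
  apply Nat.card_congr
  apply Equiv.subtypeEquivRight
  rintro ⟨C, y⟩
  apply and_congr_right
  intro _
  constructor
  · intro h1
    refine ⟨fun g hg => ?_, ?_⟩
    · have := h1 ⟨g, hg⟩
      rw [hs] at this
      have h2 := congrArg Prod.fst this
      exact Subgroup.mem_normalizer_iff_map_conj_eq.mpr h2
    · rw [Subgroup.mem_centralizer_iff]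
      intro g hg
      have := h1 ⟨g, hg⟩
      rw [hs] at this
      have h2 := congrArg Prod.snd this
      exact mul_inv_eq_iff_eq_mul.mp h2
  · rintro ⟨h1, h2⟩ g
    rw [hs]
    refine Prod.ext ?_ ?_
    · exact Subgroup.mem_normalizer_iff_map_conj_eq.mp (h1 g.2)
    · exact mul_inv_eq_iff_eq_mul.mpr (Subgroup.mem_centralizer_iff.mp h2 g g.2)

/-- number of generators -/
theorem card_gen {G : Type*} [Group G] [Finite G] (C : Subgroup G) (hC : IsCyclic C) :
    Nat.card {x : G // Subgroup.zpowers x = C} = Nat.totient (Nat.card C) := by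
  classical
  have := Fintype.ofFinite C
  have h1 : Nat.card {x : G // Subgroup.zpowers x = C} = Nat.card {x : C // orderOf x = Nat.card C} := by
    apply Nat.card_congr
    refine ⟨fun x => ⟨⟨x.1, by
      have h := Subgroup.mem_zpowers x.1
      rwa [x.2] at h⟩, ?_⟩, fun x => ⟨x.1.1, ?_⟩, fun x => rfl, fun x => rfl⟩
    · rw [← Subgroup.orderOf_coe, ← Nat.card_zpowers, x.2]
    · apply Subgroup.eq_of_le_of_card_ge
      · rw [Subgroup.zpowers_le]; exact x.1.2
      · rw [Nat.card_zpowers, Subgroup.orderOf_coe, x.2]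
  rw [h1, Nat.card_eq_fintype_card, Fintype.card_subtype]
  have := IsCyclic.card_orderOf_eq_totient (α := C) (d := Nat.card C) (by rw [Nat.card_eq_fintype_card])
  exact this

/-- `p`-group part: `p^s` divides the number of elements of order `p^s` -/
theorem totient_dvd_card {Q : Type*} [Group Q] [Finite Q] (S : Set Q) (n : ℕ) (hn : 1 < n)
    (hS : ∀ b ∈ S, orderOf b = n → ∀ k : ℕ, Nat.Coprime k n → b ^ k ∈ S) :
    Nat.totient n ∣ Nat.card {b : Q // b ∈ S ∧ orderOf b = n} := by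
  classical
  have := Fintype.ofFinite {y : Q // orderOf y = n}
  have h := CfsgLib.FgFrob.dvd_sum_units (G := Q) hn (fun y => if y.1 ∈ S then 1 else 0) (by
    intro y k h hk
    have hiff : y.1 ^ k ∈ S ↔ y.1 ∈ S := by
      constructor
      · intro hy
        obtain ⟨m, hm⟩ := Nat.exists_mul_mod_eq_one_of_coprime hk hn
        have h2 : (y.1 ^ k) ^ m = y.1 := by
          rw [← pow_mul, ← pow_mod_orderOf, y.2, hm.2, pow_one]
        rw [← h2]
        apply hS _ hy h
        have h3 : Nat.Coprime (k * m) n := by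
          rw [Nat.coprime_iff_gcd_eq_one, Nat.gcd_comm, Nat.gcd_rec, hm.2, Nat.gcd_one_left]
        exact Nat.Coprime.coprime_mul_left h3
      · intro hy
        exact hS _ hy y.2 k hk
    simp only [hiff])
  have h2 : (∑ y : {y : Q // orderOf y = n}, (if y.1 ∈ S then (1 : ℤ) else 0)) =
      (Nat.card {b : Q // b ∈ S ∧ orderOf b = n} : ℤ) := by
    rw [Finset.sum_boole, ← Fintype.card_subtype, ← Nat.card_eq_fintype_card]
    congr 1
    apply Nat.card_congr
    refine ⟨fun x => ⟨x.1.1, x.2, x.1.2⟩, fun x => ⟨⟨x.1, x.2.2⟩, x.2.1⟩, fun x => rfl, fun x => rfl⟩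
  rw [h2] at h
  exact_mod_cast h

theorem dvd_card_pgroup {Q : Type*} [Group Q] [Finite Q] {p : ℕ} [hp : Fact p.Prime] (hp2 : p ≠ 2)
    (hQ : IsPGroup p Q) (hnc : ¬ IsCyclic Q) {s : ℕ} (hs : 1 < s) :
    p ^ s ∣ Nat.card {x : Q // orderOf x = p ^ s} := by
  classical
  obtain ⟨E, hEn, hEc, hEp, hEcard⟩ := CfsgLib.PCyc.exists_normal_elem hp.out hp2 hQ hnc
  have hpp := hp.out
  have hEPg : IsPGroup p E := hQ.to_subgroup E
  -- commutators with E are central
  have hcen : ∀ e ∈ E, ∀ x : Q, ⁅e, x⁆ ∈ Subgroup.center Q ∧ ⁅e, x⁆ ∈ E := by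
    have hE1 : E ≠ ⊥ := by
      rintro rfl
      rw [Subgroup.card_bot] at hEcard
      have := hpp.one_lt
      have h2 : 1 < p ^ 2 := Nat.one_lt_pow (by norm_num) this
      omega
    have hlt := CfsgLib.SolvCoprime.commutator_lt_of_pgroup hEPg (P := ⊤) (by
      exact hQ.to_subgroup ⊤) (by rw [Subgroup.normalizer_eq_top]) hE1
    have hn : (⁅E, (⊤ : Subgroup Q)⁆).Normal := Subgroup.commutator_normal E ⊤
    have hle : ⁅E, (⊤ : Subgroup Q)⁆ ≤ Subgroup.center Q := by
      have h1 : Nat.card (⁅E, (⊤ : Subgroup Q)⁆ : Subgroup Q) ∣ p ^ 2 := by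
        rw [← hEcard]; exact Subgroup.card_dvd_of_le hlt.le
      obtain ⟨i, hi, hie⟩ := (Nat.dvd_prime_pow hpp).mp h1
      interval_cases i
      · rw [pow_zero] at hie
        rw [Subgroup.card_eq_one.mp hie]; exact bot_le
      · rw [pow_one] at hie
        exact CfsgLib.PCyc.le_center_of_card_eq hpp hQ _ hie
      · exfalso
        exact hlt.ne (Subgroup.eq_of_le_of_card_ge hlt.le (by rw [hie, hEcard]))
    intro e he x
    have h1 : ⁅e, x⁆ ∈ ⁅E, (⊤ : Subgroup Q)⁆ := Subgroup.commutator_mem_commutator he (Subgroup.mem_top x)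
    exact ⟨hle h1, hlt.le h1⟩
  have hpow : ∀ x : Q, ∀ e ∈ E, (x * e) ^ p = x ^ p := by
    intro x e he
    obtain ⟨h1, h2⟩ := hcen e he x
    rw [CfsgLib.SolvCrit.mul_pow_prime hpp hp2 x e ⁅e, x⁆ ?_ ?_ ?_ (hEp _ h2), hEp e he, mul_one]
    · rw [Subgroup.mem_center_iff.mp h1 (x * e), commutatorElement_def]
      group
    · exact (Subgroup.mem_center_iff.mp h1 x).symm
    · exact (Subgroup.mem_center_iff.mp h1 e).symm
  obtain ⟨r, rfl⟩ : ∃ r, s = r + 2 := ⟨s - 2, by omega⟩
  have hord : ∀ x : Q, orderOf x = p ^ (r + 2) → ∀ e ∈ E, orderOf (x * e) = p ^ (r + 2) := by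
    intro x hx e he
    have e1 : ∀ i, (x * e) ^ p ^ (i + 1) = x ^ p ^ (i + 1) := by
      intro i
      rw [pow_succ', pow_mul, hpow x e he, ← pow_mul]
    apply orderOf_eq_prime_pow
    · rw [e1]
      intro h
      have := orderOf_dvd_of_pow_eq_one h
      rw [hx, Nat.pow_dvd_pow_iff_le_right hpp.one_lt] at this
      omega
    · rw [e1, ← hx, pow_orderOf_eq_one]
  let B : Set (Q ⧸ E) := {b | ∃ x : Q, orderOf x = p ^ (r + 2) ∧ (x : Q ⧸ E) = b}
  have hcard : Nat.card {x : Q // orderOf x = p ^ (r + 2)} = Nat.card B * p ^ 2 := by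
    apply card_eq_mul_of_fiber (fun x : {x : Q // orderOf x = p ^ (r + 2)} => (⟨(x.1 : Q ⧸ E), x.1, x.2, rfl⟩ : B))
    rintro ⟨b, x0, hx0, rfl⟩
    rw [← hEcard]
    apply Nat.card_congr
    refine ⟨fun a => ⟨x0⁻¹ * a.1.1, ?_⟩, fun e => ⟨⟨x0 * e.1, hord x0 hx0 e.1 e.2⟩, ?_⟩, fun a => ?_, fun e => ?_⟩
    · have := congrArg Subtype.val a.2
      exact QuotientGroup.eq.mp this.symm
    · apply Subtype.ext
      change ((x0 * e.1 : Q) : Q ⧸ E) = (x0 : Q ⧸ E)
      rw [QuotientGroup.mk_mul, (QuotientGroup.eq_one_iff _).mpr e.2, mul_one]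
    · apply Subtype.ext; apply Subtype.ext
      change x0 * (x0⁻¹ * a.1.1) = a.1.1
      rw [mul_inv_cancel_left]
    · apply Subtype.ext
      change x0⁻¹ * (x0 * e.1) = e.1
      rw [inv_mul_cancel_left]
  have hB : ∀ b ∈ B, orderOf b = p ^ (r + 1) ∨ orderOf b = p ^ (r + 2) := by
    rintro b ⟨x, hx, rfl⟩
    have h1 : orderOf (x : Q ⧸ E) ∣ p ^ (r + 2) := by
      rw [← hx]; exact orderOf_map_dvd (QuotientGroup.mk' E) x
    obtain ⟨i, hi, hie⟩ := (Nat.dvd_prime_pow hpp).mp h1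
    have h2 : r < i := by
      by_contra hlt
      have h3 : (x : Q ⧸ E) ^ p ^ r = 1 := by
        apply orderOf_dvd_iff_pow_eq_one.mp
        rw [hie]; exact pow_dvd_pow _ (by omega)
      rw [← QuotientGroup.mk_pow, QuotientGroup.eq_one_iff] at h3
      have h4 := hEp _ h3
      rw [← pow_mul, ← pow_succ] at h4
      have := orderOf_dvd_of_pow_eq_one h4
      rw [hx, Nat.pow_dvd_pow_iff_le_right hpp.one_lt] at this
      omega
    have h3 : i = r + 1 ∨ i = r + 2 := by omega
    rcases h3 with h3 | h3 <;> rw [hie, h3]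
    · exact Or.inl rfl
    · exact Or.inr rfl
  have hBpow : ∀ i, 0 < i → ∀ b ∈ B, orderOf b = p ^ i → ∀ k : ℕ, Nat.Coprime k (p ^ i) → b ^ k ∈ B := by
    rintro i hi b ⟨x, hx, rfl⟩ hb k hk
    refine ⟨x ^ k, ?_, QuotientGroup.mk_pow _ _ _⟩
    rw [Nat.Coprime.orderOf_pow, hx]
    rw [hx]
    exact Nat.Coprime.pow_left _ (Nat.Coprime.symm (Nat.Coprime.coprime_dvd_right (dvd_pow_self p hi.ne') hk))
  have d1 := totient_dvd_card B (p ^ (r + 1)) (Nat.one_lt_pow (by omega) hpp.one_lt) (hBpow _ (by omega))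
  have d2 := totient_dvd_card B (p ^ (r + 2)) (Nat.one_lt_pow (by omega) hpp.one_lt) (hBpow _ (by omega))
  have hsum : Nat.card B = Nat.card {b : Q ⧸ E // b ∈ B ∧ orderOf b = p ^ (r + 1)} +
      Nat.card {b : Q ⧸ E // b ∈ B ∧ orderOf b = p ^ (r + 2)} := by
    have := Fintype.ofFinite (Q ⧸ E)
    rw [Nat.card_eq_fintype_card, Nat.card_eq_fintype_card, Nat.card_eq_fintype_card]
    rw [show Fintype.card B = Fintype.card {b : Q ⧸ E // b ∈ B} from rfl, Fintype.card_subtype, Fintype.card_subtype,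
      Fintype.card_subtype, ← Finset.card_union_of_disjoint]
    · congr 1
      ext b
      simp only [Finset.mem_filter, Finset.mem_univ, true_and, Finset.mem_union]
      constructor
      · intro hb
        rcases hB b hb with h | h
        · exact Or.inl ⟨hb, h⟩
        · exact Or.inr ⟨hb, h⟩
      · rintro (h | h) <;> exact h.1
    · rw [Finset.disjoint_left]
      intro b h1 h2
      simp only [Finset.mem_filter, Finset.mem_univ, true_and] at h1 h2
      have := h1.2.symm.trans h2.2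
      have := Nat.pow_right_injective hpp.two_le this
      omega
  have t1 : p ^ r ∣ Nat.totient (p ^ (r + 1)) := by
    rw [Nat.totient_prime_pow_succ hpp]; exact Dvd.intro _ rfl
  have t2 : p ^ r ∣ Nat.totient (p ^ (r + 2)) := by
    rw [Nat.totient_prime_pow_succ hpp]; exact (pow_dvd_pow p (Nat.le_succ r)).trans (Dvd.intro _ rfl)
  rw [hcard, hsum]
  refine (dvd_of_eq (pow_add p r 2)).trans ?_
  exact Nat.mul_dvd_mul (Nat.dvd_add (t1.trans d1) (t2.trans d2)) dvd_rfl

end CfsgLib.FgCnt
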