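import Cfsg.Agent.EqBase
import Cfsg.Prelude.Def_Transfer
import Cfsg.Prelude.Def_KGroupFacts
import Cfsg.Agent.S0093
import Cfsg.Agent.S0121
import Cfsg.Agent.S0120
import Cfsg.Agent.S1898
import Cfsg.Agent.LibBGCop
import Cfsg.Agent.LibSolvFrat

/-!
# Critical subgroups of small exponent, relative to a group of automorphisms
-/

set_option autoImplicit false
set_option linter.style.haveILetI false
set_option linter.unusedSectionVars false
set_option linter.unusedVariables false

namespace CfsgLib.FgCr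

open Cfsg
open scoped commutatorElement

variable {P : Type*} [Group P] [Finite P] {p : ℕ} [hp : Fact p.Prime]

theorem eq_one_of_comm (hP : IsPGroup p P) {β : MulAut P} (hβ : (orderOf β).Coprime p) {d c : P} (hd : β d = d * c)
    (hc : β c = c) : c = 1 := by
  have h1 : ∀ k : ℕ, (β ^ k) d = d * c ^ k := by
    intro k
    induction k with
    | zero => simp
    | succ k ih => rw [pow_succ', MulAut.mul_apply, ih, map_mul, map_pow, hd, hc, mul_assoc, ← pow_succ']
  have h2 := h1 (orderOf β)
  rw [pow_orderOf_eq_one, MulAut.one_apply, left_eq_mul] at h2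
  obtain ⟨j, hj⟩ := IsPGroup.iff_orderOf.mp hP c
  have h3 : orderOf c ∣ orderOf β := orderOf_dvd_of_pow_eq_one h2
  rw [hj] at h3
  have h4 : p ^ j = 1 := Nat.eq_one_of_dvd_coprimes (hβ.pow_right j) h3 dvd_rfl
  rw [h4] at hj
  exact orderOf_eq_one_iff.mp hj

/-- the exponent -/
def ex (p : ℕ) : ℕ := if p = 2 then 4 else p

theorem exists_D0 (hP : IsPGroup p P) : ∃ D : Subgroup P,
    (∀ α : MulAut P, ∀ d ∈ D, α d ∈ D) ∧ (∀ d ∈ D, d ^ (ex p) = 1) ∧
      (∀ d ∈ D, ∀ e ∈ D, ∀ g : P, Commute (d⁻¹ * g⁻¹ * d * g) e) ∧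
      (∀ α : MulAut P, (orderOf α).Coprime p → (∀ d ∈ D, α d = d) → α = 1) := by
  obtain ⟨H, hchar, hΦ, hcomm, hcent⟩ := Cfsg.Agent.S0093.result hP
  have hHinv : ∀ α : MulAut P, ∀ h ∈ H, α h ∈ H := by
    intro α h hh
    have := Subgroup.characteristic_iff_le_map.mp hchar α.symm
    obtain ⟨y, hy, hyh⟩ := this hh
    have : α h = y := by
      rw [← hyh]; exact MulEquiv.apply_symm_apply α y
    rw [this]; exact hy
  have hcl : ∀ x ∈ H, ∀ g : P, ∀ y ∈ H, Commute (x⁻¹ * g⁻¹ * x * g) y := by
    intro x hx g y hy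
    have h1 : ⁅x⁻¹, g⁻¹⁆ ∈ ⁅H, (⊤ : Subgroup P)⁆ := Subgroup.commutator_mem_commutator (H.inv_mem hx) (Subgroup.mem_top _)
    have h2 := (Subgroup.mem_centralizer_iff.mp (hcomm h1).2) y hy
    rw [commutatorElement_def, inv_inv, inv_inv] at h2
    exact h2.symm
  have hHpow : ∀ x ∈ H, ∀ y ∈ H, Commute (x ^ p) y := by
    intro x hx y hy
    have hHp : IsPGroup p H := hP.to_subgroup H
    have h1 : (⟨x, hx⟩ : H) ^ p ∈ frattini H := CfsgLib.SolvFrat.pow_mem_frattini hp.out hHp ⟨x, hx⟩
    have h2 : x ^ p ∈ (frattini H).map H.subtype := ⟨_, h1, rfl⟩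
    exact ((Subgroup.mem_centralizer_iff.mp (hΦ h2)) y hy).symm
  have hcp : ∀ x ∈ H, ∀ y ∈ H, (x⁻¹ * y⁻¹ * x * y) ^ p = 1 := by
    intro x hx y hy
    have h1 : x * y = y * x * (x⁻¹ * y⁻¹ * x * y) := by group
    have h2 := CfsgLib.BGPi.pow_mul_class2 h1 (hcl x hx y x hx) p
    have h3 := hHpow x hx y hy
    rw [h3.eq, left_eq_mul] at h2
    exact h2
  let D : Subgroup P := Subgroup.closure {x | x ∈ H ∧ x ^ (ex p) = 1}
  have hDH : D ≤ H := by
    rw [Subgroup.closure_le]
    rintro x ⟨hx, -⟩
    exact hx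
  have hDinv : ∀ α : MulAut P, ∀ d ∈ D, α d ∈ D := by
    intro α d hd
    induction hd using Subgroup.closure_induction with
    | mem x hx => exact Subgroup.subset_closure ⟨hHinv α x hx.1, by rw [← map_pow, hx.2, map_one]⟩
    | one => rw [map_one]; exact D.one_mem
    | mul x y _ _ ihx ihy => rw [map_mul]; exact D.mul_mem ihx ihy
    | inv x _ ih => rw [map_inv]; exact D.inv_mem ih
  have hpow : ∀ x ∈ H, ∀ y ∈ H, (x * y) ^ (ex p) = x ^ (ex p) * y ^ (ex p) := by
    intro x hx y hy
    have h1 : y * x = x * y * (y⁻¹ * x⁻¹ * y * x) := by group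
    have h2 := hcp y hy x hx
    by_cases hp2 : p = 2
    · have h3 := CfsgLib.BGPi.mul_pow_class2 h1 (hcl y hy x x hx) (hcl y hy x y hy) 4
      rw [ex, if_pos hp2, h3]
      have h4 : (y⁻¹ * x⁻¹ * y * x) ^ (4 * (4 - 1) / 2) = 1 := by
        rw [hp2] at h2
        change (y⁻¹ * x⁻¹ * y * x) ^ 6 = 1
        rw [show 6 = 2 * 3 by rfl, pow_mul, h2, one_pow]
      rw [h4, mul_one]
    · rw [ex, if_neg hp2]
      exact CfsgLib.BGPi.mul_pow_odd hp2 hp.out h1 (hcl y hy x x hx) (hcl y hy x y hy) h2
  refine ⟨D, hDinv, ?_, fun d hd e he g => hcl d (hDH hd) g e (hDH he), ?_⟩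
  · intro d hd
    have : d ∈ H ∧ d ^ (ex p) = 1 := by
      induction hd using Subgroup.closure_induction with
      | mem x hx => exact hx
      | one => exact ⟨H.one_mem, one_pow _⟩
      | mul x y _ _ ihx ihy => exact ⟨H.mul_mem ihx.1 ihy.1, by rw [hpow x ihx.1 y ihy.1, ihx.2, ihy.2, one_mul]⟩
      | inv x _ ih => exact ⟨H.inv_mem ih.1, by rw [inv_pow, ih.2, inv_one]⟩
    exact this.2
  · intro α hα hfix
    apply Cfsg.Agent.S0121.result hP H hchar hΦ hcomm hcent α hα
    -- the restriction to `H`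
    let r : MulAut P →* MulAut H :=
      { toFun := fun β =>
          { toFun := fun h => ⟨β h, hHinv β h h.2⟩
            invFun := fun h => ⟨β.symm h, hHinv β.symm h h.2⟩
            left_inv := fun h => Subtype.ext (MulEquiv.symm_apply_apply β _)
            right_inv := fun h => Subtype.ext (MulEquiv.apply_symm_apply β _)
            map_mul' := fun x y => Subtype.ext (map_mul β _ _) }
        map_one' := by ext x; rfl
        map_mul' := fun a b => by ext x; rfl }
    have hr : ∀ (β : MulAut P) (h : H), ((r β h : H) : P) = β h := fun β h => rfl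
    have hrα : (orderOf (r α)).Coprime p := Nat.Coprime.coprime_dvd_left (orderOf_map_dvd r α) hα
    have hrfix : ∀ x : H, x ^ (ex p) = 1 → r α x = x := by
      intro x hx
      apply Subtype.ext
      rw [hr]
      exact hfix x (Subgroup.subset_closure ⟨x.2, by have := congrArg Subtype.val hx; exact this⟩)
    have h1 : r α = 1 := by
      by_cases hp2 : p = 2
      · subst hp2
        have hH2 : IsPGroup 2 H := hP.to_subgroup H
        have hcen : commutator H ≤ Subgroup.center H := by
          rw [commutator_def, Subgroup.commutator_le]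
          intro a _ b _
          rw [Subgroup.mem_center_iff]
          intro c
          apply Subtype.ext
          have h5 := hcl (a : P)⁻¹ (H.inv_mem a.2) (b : P)⁻¹ c c.2
          rw [inv_inv, inv_inv] at h5
          exact h5.symm
        have hsq : ∀ c ∈ commutator H, c ^ 2 = 1 := by
          intro c hc
          rw [commutator_eq_closure] at hc
          have : c ∈ Subgroup.center H ∧ c ^ 2 = 1 := by
            induction hc using Subgroup.closure_induction with
            | mem x hx =>
              obtain ⟨a, b, rfl⟩ := hx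
              refine ⟨hcen (Subgroup.commutator_mem_commutator (Subgroup.mem_top a) (Subgroup.mem_top b)), ?_⟩
              apply Subtype.ext
              have h5 := hcp (a : P)⁻¹ (H.inv_mem a.2) (b : P)⁻¹ (H.inv_mem b.2)
              rw [inv_inv, inv_inv] at h5
              exact h5
            | one => exact ⟨Subgroup.one_mem _, one_pow _⟩
            | mul x y _ _ ihx ihy =>
              refine ⟨Subgroup.mul_mem _ ihx.1 ihy.1, ?_⟩
              have h6 : Commute x y := (Subgroup.mem_center_iff.mp ihy.1 x)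
              rw [h6.mul_pow, ihx.2, ihy.2, one_mul]
            | inv x _ ih => exact ⟨Subgroup.inv_mem _ ih.1, by rw [inv_pow, ih.2, inv_one]⟩
          exact this.2
        obtain ⟨-, h2⟩ := Cfsg.Agent.S1898.result hH2 ⟨⟨⟨fun a b => by
          apply Subtype.ext
          exact ((Subgroup.mem_center_iff.mp (hcen a.2)) b).symm⟩⟩, hsq⟩ hcen
        obtain ⟨k, hk⟩ := h2 (r α) (fun x hx => hrfix x hx)
        have h3 : orderOf (r α) ∣ 2 ^ k := orderOf_dvd_of_pow_eq_one hk
        have h4 : orderOf (r α) = 1 := Nat.eq_one_of_dvd_coprimes (hrα.pow_right k) dvd_rfl h3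
        exact orderOf_eq_one_iff.mp h4
      · exact Cfsg.Agent.S0120.result hp2 (hP.to_subgroup H) (r α) hrα (fun x hx => hrfix x (by rw [ex, if_neg hp2]; exact hx))
    intro x hx
    have := congrArg (fun f : MulAut H => ((f ⟨x, hx⟩ : H) : P)) h1
    exact this

end CfsgLib.FgCr
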