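import Cfsg.Agent.LibFgCr
import Cfsg.Agent.LibTransFus

/-!
# Critical subgroups of small exponent, relative to a group of automorphisms, part 2
-/

set_option autoImplicit false
set_option linter.style.haveILetI false
set_option linter.unusedSectionVars false
set_option linter.unusedVariables false

namespace CfsgLib.FgCr

open Cfsg
open scoped commutatorElement

variable {P : Type*} [Group P] [Finite P] {p : ℕ} [hp : Fact p.Prime]

theorem conj_apply' (α β : MulAut P) (x : P) : (α * β * α⁻¹) (α x) = α (β x) := by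
  rw [MulAut.mul_apply, MulAut.mul_apply, MulAut.inv_apply_self]

/-- the commutator subgroup of `D0` with `O^p(G)` -/
def DD (G : Subgroup (MulAut P)) (p : ℕ) (D0 : Subgroup P) : Subgroup P :=
  Subgroup.closure {y : P | ∃ α ∈ Cfsg.pResidual p ↥G, ∃ x ∈ D0, y = x⁻¹ * (α : MulAut P) x}

theorem DD_inv' (G : Subgroup (MulAut P)) (D0 : Subgroup P) (hinv : ∀ α : MulAut P, ∀ d ∈ D0, α d ∈ D0)
    (hnorm : (Cfsg.pResidual p ↥G).Normal) (a : G) : ∀ d ∈ DD G p D0, (a : MulAut P) d ∈ DD G p D0 := by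
  intro d hd
  obtain ⟨α, hα⟩ : ∃ α : MulAut P, α = (a : MulAut P) := ⟨_, rfl⟩
  rw [← hα]
  unfold DD at hd
  induction hd using Subgroup.closure_induction with
  | mem y hy =>
    obtain ⟨β, hβ, x, hx, rfl⟩ := hy
    have h1 : a * β * a⁻¹ ∈ Cfsg.pResidual p ↥G := hnorm.conj_mem β hβ a
    have h2 : ((a * β * a⁻¹ : G) : MulAut P) = α * β * α⁻¹ := by
      rw [Subgroup.coe_mul, Subgroup.coe_mul, Subgroup.coe_inv, hα]
    have h3 : α (x⁻¹ * (β : MulAut P) x) = (α x)⁻¹ * ((a * β * a⁻¹ : G) : MulAut P) (α x) := by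
      rw [map_mul, map_inv, h2, conj_apply']
    rw [h3]
    exact Subgroup.subset_closure ⟨_, h1, _, hinv α x hx, rfl⟩
  | one => rw [map_one]; exact Subgroup.one_mem _
  | mul x y _ _ ihx ihy => rw [map_mul]; exact Subgroup.mul_mem _ ihx ihy
  | inv x _ ih => rw [map_inv]; exact Subgroup.inv_mem _ ih

theorem DD_inv (G : Subgroup (MulAut P)) (D0 : Subgroup P) (hinv : ∀ α : MulAut P, ∀ d ∈ D0, α d ∈ D0)
    (hnorm : (Cfsg.pResidual p ↥G).Normal) : ∀ α ∈ G, ∀ d ∈ DD G p D0, α d ∈ DD G p D0 :=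
  fun α hα => DD_inv' G D0 hinv hnorm ⟨α, hα⟩

theorem main (hP : IsPGroup p P) (G : Subgroup (MulAut P)) (hG : Cfsg.Inn P ≤ G) :
    ∃ D : Subgroup P,
      (∀ α ∈ G, D.map α.toMonoidHom = D) ∧
      D ≤ Subgroup.closure {y : P | ∃ α ∈ Cfsg.pResidual p ↥G, ∃ x : P, y = x⁻¹ * (α : MulAut P) x} ∧
      (∀ d ∈ D, d ^ p = 1 ∨ (p = 2 ∧ d ^ 4 = 1)) ∧
      ⁅D, (⊤ : Subgroup P)⁆ ≤ D ⊓ Subgroup.centralizer (D : Set P) ∧
      (∀ α ∈ G, (orderOf α).Coprime p → (∀ d ∈ D, α d = d) → α = 1) ∧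
      ∀ A : Subgroup P, A ≤ D → IsMulCommutative ↥A →
        (∀ B : Subgroup P, A ≤ B → B ≤ D → IsMulCommutative ↥B → B = A) →
        A.Normal ∧ ∀ α ∈ G, (∀ a ∈ A, α a = a) → ∃ k : ℕ, orderOf α = p ^ k := by
  obtain ⟨D0, hinv, hexp, hcl, hfaith⟩ := exists_D0 hP
  obtain ⟨D, hDd⟩ : ∃ D, D = DD G p D0 := ⟨_, rfl⟩
  have hD0 : D ≤ D0 := by
    rw [hDd, DD, Subgroup.closure_le]
    rintro _ ⟨α, -, x, hx, rfl⟩
    exact D0.mul_mem (D0.inv_mem hx) (hinv _ x hx)
  have hnorm : (Cfsg.pResidual p ↥G).Normal := CfsgLib.TransFus.pResidual_normal p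
  have hDinv : ∀ α ∈ G, ∀ d ∈ D, α d ∈ D := by
    rw [hDd]; exact DD_inv G D0 hinv hnorm
  have hDn : D.Normal := by
    constructor
    intro d hd g
    have := hDinv (MulAut.conj g) (hG ⟨g, rfl⟩) d hd
    rwa [MulAut.conj_apply] at this
  have hcommD : ∀ d ∈ D, ∀ g : P, ∀ e ∈ D, Commute (d⁻¹ * g⁻¹ * d * g) e := fun d hd g e he =>
    hcl d (hD0 hd) e (hD0 he) g
  have hfaithD : ∀ α ∈ G, (orderOf α).Coprime p → (∀ d ∈ D, α d = d) → α = 1 := by
    intro α hα hcop hfix
    apply hfaith α hcop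
    intro d hd
    have hmem : d⁻¹ * α d ∈ D := by
      rw [hDd]
      apply Subgroup.subset_closure
      refine ⟨⟨α, hα⟩, Subgroup.subset_closure ?_, d, hd, rfl⟩
      change Nat.Coprime (orderOf (⟨α, hα⟩ : G)) p
      rwa [Subgroup.orderOf_mk]
    have h1 := eq_one_of_comm hP hcop (d := d) (c := d⁻¹ * α d) (by rw [mul_inv_cancel_left]) (hfix _ hmem)
    rw [inv_mul_eq_one] at h1
    exact h1.symm
  refine ⟨D, ?_, ?_, ?_, ?_, hfaithD, ?_⟩
  · intro α hα
    have h1 : D.map α.toMonoidHom ≤ D := by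
      rintro _ ⟨d, hd, rfl⟩
      exact hDinv α hα d hd
    apply Subgroup.eq_of_le_of_card_ge h1
    rw [Nat.card_congr (D.equivMapOfInjective α.toMonoidHom α.injective).toEquiv]
  · rw [hDd]
    apply Subgroup.closure_mono
    rintro _ ⟨α, hα, x, -, rfl⟩
    exact ⟨α, hα, x, rfl⟩
  · intro d hd
    have h1 := hexp d (hD0 hd)
    by_cases hp2 : p = 2
    · right
      rw [ex, if_pos hp2] at h1
      exact ⟨hp2, h1⟩
    · left
      rwa [ex, if_neg hp2] at h1
  · rw [Subgroup.commutator_le]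
    intro d hd g _
    rw [commutatorElement_def]
    refine Subgroup.mem_inf.mpr ⟨?_, ?_⟩
    · have h1 := hDn.conj_mem d⁻¹ (D.inv_mem hd) g
      have h2 := D.mul_mem hd h1
      rwa [← mul_assoc, ← mul_assoc] at h2
    · rw [Subgroup.mem_centralizer_iff]
      intro e he
      have h1 := hcommD d⁻¹ (D.inv_mem hd) g⁻¹ e he
      rw [inv_inv, inv_inv] at h1
      exact h1.symm
  · intro A hAD hAc hmax
    -- elements of `D` commuting with `A` lie in `A`
    have hself : ∀ d ∈ D, (∀ a ∈ A, d * a = a * d) → d ∈ A := by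
      intro d hd hda
      have hAcomm : ∀ a ∈ A, ∀ b ∈ A, a * b = b * a := fun a ha b hb =>
        congrArg Subtype.val (hAc.is_comm.comm ⟨a, ha⟩ ⟨b, hb⟩)
      have h1 : A ⊔ Subgroup.zpowers d ≤ D := sup_le hAD (by rwa [Subgroup.zpowers_le])
      have h2 : IsMulCommutative ↥(A ⊔ Subgroup.zpowers d) := by
        have h3 : A ⊔ Subgroup.zpowers d = Subgroup.closure ((A : Set P) ∪ {d}) := by
          rw [Subgroup.closure_union, Subgroup.closure_eq, Subgroup.zpowers_eq_closure]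
        rw [h3]
        apply Subgroup.isMulCommutative_closure
        rintro x (hx | hx) y (hy | hy)
        · exact hAcomm x hx y hy
        · rw [Set.mem_singleton_iff] at hy; subst hy; exact (hda x hx).symm
        · rw [Set.mem_singleton_iff] at hx; subst hx; exact hda y hy
        · rw [Set.mem_singleton_iff] at hx hy; subst hx; subst hy; rfl
      have h4 := hmax _ le_sup_left h1 h2
      rw [← h4]
      exact Subgroup.mem_sup_right (Subgroup.mem_zpowers d)
    have hAn : A.Normal := by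
      constructor
      intro a ha g
      -- g a g⁻¹ = a * [a, g⁻¹]-like
      have h1 : a⁻¹ * (g⁻¹)⁻¹ * a * g⁻¹ ∈ A := by
        apply hself
        · have h2 := D.mul_mem (D.inv_mem (hAD ha)) (hDn.conj_mem a (hAD ha) g)
          have e : a⁻¹ * (g⁻¹)⁻¹ * a * g⁻¹ = a⁻¹ * (g * a * g⁻¹) := by group
          rw [e]; exact h2
        · intro b hb
          exact hcommD a (hAD ha) g⁻¹ b (hAD hb)
      have h2 := A.mul_mem ha h1
      have e : a * (a⁻¹ * (g⁻¹)⁻¹ * a * g⁻¹) = g * a * g⁻¹ := by group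
      rwa [e] at h2
    refine ⟨hAn, ?_⟩
    have key : ∀ β ∈ G, (orderOf β).Coprime p → (∀ a ∈ A, β a = a) → β = 1 := by
      intro β hβ hcop hfix
      apply hfaithD β hβ hcop
      intro d hd
      obtain ⟨c, hc⟩ : ∃ c, c = d⁻¹ * β d := ⟨_, rfl⟩
      have hcD : c ∈ D := by
        rw [hc]; exact D.mul_mem (D.inv_mem hd) (hDinv β hβ d hd)
      have hβd : β d = d * c := by rw [hc, mul_inv_cancel_left]
      have hcA : c ∈ A := by
        apply hself c hcD
        intro a ha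
        -- z = d⁻¹ a⁻¹ d a ∈ A
        have hz : d⁻¹ * a⁻¹ * d * a ∈ A := by
          have h3 := hAn.conj_mem a⁻¹ (A.inv_mem ha) d⁻¹
          rw [inv_inv] at h3
          exact A.mul_mem h3 ha
        have h4 := hfix _ hz
        have h5 := hcommD d hd a c hcD
        simp only [map_mul, map_inv] at h4
        rw [hfix a ha, hβd] at h4
        -- (d c)⁻¹ a⁻¹ d c a = d⁻¹ a⁻¹ d a
        obtain ⟨z, hzd⟩ : ∃ z, z = d⁻¹ * a⁻¹ * d * a := ⟨_, rfl⟩
        rw [← hzd] at h4 h5
        have h6 : (d * c)⁻¹ * a⁻¹ * (d * c) * a = c⁻¹ * z * (a⁻¹ * c * a) := by rw [hzd]; group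
        rw [h6] at h4
        have h7 : c⁻¹ * z = z * c⁻¹ := (h5.inv_right.eq).symm
        rw [h7, mul_assoc, mul_eq_left] at h4
        have h8 : a⁻¹ * c * a = c := by rw [inv_mul_eq_one] at h4; exact h4.symm
        calc c * a = a * (a⁻¹ * c * a) := by group
          _ = a * c := by rw [h8]
      have h9 := eq_one_of_comm hP hcop hβd (hfix c hcA)
      rw [hβd, h9, mul_one]
    intro α hα hfix
    obtain ⟨k, m, hm, hkm⟩ := Nat.exists_eq_pow_mul_and_not_dvd (orderOf_pos α).ne' p hp.out.ne_one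
    refine ⟨k, ?_⟩
    have h1 : orderOf (α ^ p ^ k) = m := by
      rw [orderOf_pow, hkm, Nat.gcd_eq_right (Dvd.intro m rfl), Nat.mul_div_cancel_left _ (pow_pos hp.out.pos k)]
    have h2 : α ^ p ^ k = 1 := by
      apply key _ (G.pow_mem hα _)
      · rw [h1]
        exact ((Nat.Prime.coprime_iff_not_dvd hp.out).mpr hm).symm
      · intro a ha
        have h3 : ∀ j : ℕ, (α ^ j) a = a := by
          intro j
          induction j with
          | zero => simp
          | succ j ih => rw [pow_succ', MulAut.mul_apply, ih, hfix a ha]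
        exact h3 _
    rw [h2, orderOf_one] at h1
    rw [hkm, ← h1, mul_one]

end CfsgLib.FgCr
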