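import Mathlib

set_option autoImplicit false
set_option linter.all false

/-! Derived length of `p`-subgroups of linear groups. -/

open Module
open scoped commutatorElement

namespace CfsgLib.FgDL

universe u v w

section Basic
variable {K : Type w} [Field K] {P : Type u} [Group P] {V : Type v} [AddCommGroup V] [Module K V]

/-- restriction to an invariant subspace -/
def res (ρ : P →* Module.End K V) (U : Submodule K V) (hU : ∀ g : P, ∀ x ∈ U, ρ g x ∈ U) : P →* Module.End K U where
  toFun g := (ρ g).restrict (hU g)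
  map_one' := by
    ext x
    simp
  map_mul' g h := by
    ext x
    simp

theorem res_apply (ρ : P →* Module.End K V) (U : Submodule K V) (hU : ∀ g : P, ∀ x ∈ U, ρ g x ∈ U) (g : P) (x : U) :
    ((res ρ U hU g) x : V) = ρ g x := rfl

/-- action on the quotient -/
def quo (ρ : P →* Module.End K V) (U : Submodule K V) (hU : ∀ g : P, ∀ x ∈ U, ρ g x ∈ U) : P →* Module.End K (V ⧸ U) where
  toFun g := U.mapQ U (ρ g) (hU g)
  map_one' := by
    apply Submodule.linearMap_qext
    ext x
    simp
  map_mul' g h := by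
    apply Submodule.linearMap_qext
    ext x
    simp

theorem quo_apply (ρ : P →* Module.End K V) (U : Submodule K V) (hU : ∀ g : P, ∀ x ∈ U, ρ g x ∈ U) (g : P) (x : V) :
    (quo ρ U hU g) (Submodule.Quotient.mk x) = Submodule.Quotient.mk (ρ g x) := rfl

/-- elements of coprime finite order acting trivially on `U` and `V/U` act trivially -/
theorem unip {ρ : P →* Module.End K V} {U : Submodule K V} {g : P} {m : ℕ} (hm : (m : K) ≠ 0) (hg : g ^ m = 1)
    (h1 : ∀ x ∈ U, ρ g x = x) (h2 : ∀ x, ρ g x - x ∈ U) : ρ g = 1 := by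
  ext x
  have h3 : ∀ j : ℕ, ρ (g ^ j) x = x + (j : K) • (ρ g x - x) := by
    intro j
    induction j with
    | zero => simp
    | succ j ih =>
      rw [pow_succ', map_mul, Module.End.mul_apply, ih, map_add, map_smul, h1 _ (h2 x)]
      push_cast
      rw [add_smul, one_smul]
      abel
  have h4 := h3 m
  rw [hg, map_one, Module.End.one_apply] at h4
  have h5 : (m : K) • (ρ g x - x) = 0 := by
    have : x + (m : K) • (ρ g x - x) = x + 0 := by rw [← h4, add_zero]
    exact add_left_cancel this
  rcases smul_eq_zero.mp h5 with h6 | h6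
  · exact absurd h6 hm
  · rw [Module.End.one_apply]
    exact sub_eq_zero.mp h6

theorem derived_map {M : Subgroup P} (hM : commutator P ≤ M) (k : ℕ) :
    derivedSeries P (k + 1) ≤ (derivedSeries M k).map M.subtype := by
  induction k with
  | zero =>
    rw [derivedSeries_one, derivedSeries_zero, ← MonoidHom.range_eq_map, Subgroup.range_subtype]
    exact hM
  | succ k ih =>
    rw [derivedSeries_succ (G := P), derivedSeries_succ (G := M), Subgroup.map_commutator]
    exact Subgroup.commutator_mono ih ih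

end Basic

/-- the coprime case -/
theorem main1 (p : ℕ) [hp : Fact p.Prime] (K : Type w) [Field K] [IsAlgClosed K] (hpK : (p : K) ≠ 0) :
    ∀ (n : ℕ) (P : Type u) [Group P] [Finite P] (hP : IsPGroup p P) (V : Type v) [AddCommGroup V] [Module K V]
      [FiniteDimensional K V] (ρ : P →* Module.End K V), finrank K V = n →
      ∀ g ∈ derivedSeries P (Nat.log 2 n + 1), ρ g = 1 := by
  intro n
  induction n using Nat.strong_induction_on with
  | _ n ih =>
  intro P _ _ hP V _ _ _ ρ hn g hg
  obtain ⟨e, he⟩ := (IsPGroup.iff_card).mp hP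
  have hcard : ((Nat.card P : ℕ) : K) ≠ 0 := by
    rw [he]; push_cast; exact pow_ne_zero _ hpK
  have hpow : ∀ z : P, z ^ Nat.card P = 1 := fun z => pow_card_eq_one'
  rcases Nat.eq_zero_or_pos n with hn0 | hnpos
  · rw [hn0] at hn
    haveI : Subsingleton V := Module.finrank_zero_iff.mp hn
    ext x
    exact Subsingleton.elim _ _
  haveI hnt : Nontrivial V := Module.finrank_pos_iff.mp (by rw [hn]; exact hnpos)
  by_cases hred : ∃ U : Submodule K V, U ≠ ⊥ ∧ U ≠ ⊤ ∧ ∀ g : P, ∀ x ∈ U, ρ g x ∈ U
  · obtain ⟨U, hU0, hU1, hU⟩ := hred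
    have hlt1 : finrank K U < n := by
      rw [← hn]; exact Submodule.finrank_lt hU1
    have hlt2 : finrank K (V ⧸ U) < n := by
      have h1 := Submodule.finrank_quotient_add_finrank U
      have h2 : 0 < finrank K U := by
        haveI : Nontrivial U := Submodule.nontrivial_iff_ne_bot.mpr hU0
        exact Module.finrank_pos
      omega
    have h1 := ih _ hlt1 P hP U (res ρ U hU) rfl g (derivedSeries_antitone P (by
      have := Nat.log_mono_right (b := 2) hlt1.le
      omega) hg)
    have h2 := ih _ hlt2 P hP (V ⧸ U) (quo ρ U hU) rfl g (derivedSeries_antitone P (by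
      have := Nat.log_mono_right (b := 2) hlt2.le
      omega) hg)
    apply unip hcard (hpow g) (U := U)
    · intro x hx
      have := congrArg (fun f => ((f ⟨x, hx⟩ : U) : V)) h1
      exact this
    · intro x
      have h3 := congrArg (fun f => f (Submodule.Quotient.mk x)) h2
      have h4 : (Submodule.Quotient.mk (ρ g x) : V ⧸ U) = Submodule.Quotient.mk x := h3
      exact (Submodule.Quotient.eq U).mp h4
  · push Not at hred
    -- irreducible
    have hunit : ∀ a b : P, ρ a * ρ b = ρ (a * b) := fun a b => (map_mul ρ a b).symm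
    have hinv1 : ∀ a : P, ρ a * ρ a⁻¹ = 1 := fun a => by rw [← map_mul, mul_inv_cancel, map_one]
    have hinv2 : ∀ a : P, ρ a⁻¹ * ρ a = 1 := fun a => by rw [← map_mul, inv_mul_cancel, map_one]
    have hne0 : ∀ (a : P) (x : V), x ≠ 0 → ρ a x ≠ 0 := by
      intro a x hx h
      apply hx
      have := congrArg (fun f : Module.End K V => f x) (hinv2 a)
      simp only [Module.End.mul_apply, Module.End.one_apply] at this
      rw [h, map_zero] at this
      exact this.symm
    by_cases hab : ∀ a b : P, ρ a * ρ b = ρ b * ρ a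
    · have hg1 : g ∈ commutator P := by
        have := derivedSeries_antitone P (show 1 ≤ Nat.log 2 n + 1 by omega) hg
        rwa [derivedSeries_one] at this
      have hker : commutator P ≤ ρ.ker := by
        rw [commutator_def, Subgroup.commutator_le]
        intro a _ b _
        rw [MonoidHom.mem_ker, commutatorElement_def, map_mul, map_mul, map_mul, hab a b, mul_assoc (ρ b), hinv1 a, mul_one, hinv1 b]
      exact hker hg1
    -- scalars
    let Z0 : Subgroup P := {
      carrier := {z | ∃ c : K, ρ z = c • (1 : Module.End K V)}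
      one_mem' := ⟨1, by rw [map_one, one_smul]⟩
      mul_mem' := by
        rintro a b ⟨c, hc⟩ ⟨d, hd⟩
        exact ⟨c * d, by rw [map_mul, hc, hd, smul_mul_assoc, one_mul, smul_smul]⟩
      inv_mem' := by
        rintro a ⟨c, hc⟩
        have h1 := hinv2 a
        rw [hc, mul_smul_comm, mul_one] at h1
        have hc0 : c ≠ 0 := by
          intro h0
          rw [h0, zero_smul] at h1
          exact zero_ne_one h1
        exact ⟨c⁻¹, by rw [← h1, smul_smul, inv_mul_cancel₀ hc0, one_smul]⟩ }
    have hZ0mem : ∀ z, z ∈ Z0 ↔ ∃ c : K, ρ z = c • (1 : Module.End K V) := fun z => Iff.rfl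
    haveI hZ0n : Z0.Normal := by
      constructor
      rintro z ⟨c, hc⟩ h
      refine ⟨c, ?_⟩
      rw [map_mul, map_mul, hc, mul_smul_comm, mul_one, smul_mul_assoc, hinv1]
    have hZ0top : Z0 ≠ ⊤ := by
      intro h
      apply hab
      intro a b
      obtain ⟨c, hc⟩ : a ∈ Z0 := by rw [h]; trivial
      rw [hc, smul_mul_assoc, one_mul, mul_smul_comm, mul_one]
    -- a noncentral element central modulo scalars
    haveI : Nontrivial (P ⧸ Z0) := by
      rw [← not_subsingleton_iff_nontrivial, QuotientGroup.subsingleton_iff]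
      exact hZ0top
    have hPQ : IsPGroup p (P ⧸ Z0) := hP.to_quotient Z0
    haveI : Nontrivial (Subgroup.center (P ⧸ Z0)) := hPQ.center_nontrivial
    obtain ⟨⟨zb, hzb⟩, hzb1⟩ := exists_ne (1 : Subgroup.center (P ⧸ Z0))
    obtain ⟨z, rfl⟩ := QuotientGroup.mk_surjective zb
    have hz : z ∉ Z0 := by
      intro h
      apply hzb1
      apply Subtype.ext
      exact (QuotientGroup.eq_one_iff z).mpr h
    have hc : ∀ a : P, ∃ c : K, c ≠ 0 ∧ ρ a * ρ z = c • (ρ z * ρ a) := by
      intro a
      have h1 : (a : P ⧸ Z0) * (z : P ⧸ Z0) = (z : P ⧸ Z0) * (a : P ⧸ Z0) := Subgroup.mem_center_iff.mp hzb a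
      have h2 : a * z * (z * a)⁻¹ ∈ Z0 := by
        rw [← QuotientGroup.eq_one_iff]
        rw [QuotientGroup.mk_mul, QuotientGroup.mk_inv, QuotientGroup.mk_mul, QuotientGroup.mk_mul, h1, mul_inv_cancel]
      obtain ⟨c, hc⟩ := h2
      have h3 : ρ a * ρ z = c • (ρ z * ρ a) := by
        rw [← map_mul, ← map_mul]
        have : a * z = (a * z * (z * a)⁻¹) * (z * a) := by group
        rw [this, map_mul, hc, smul_mul_assoc, one_mul]
      refine ⟨c, ?_, h3⟩
      rintro rfl
      rw [zero_smul, ← map_mul] at h3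
      have h4 := hinv1 (a * z)
      rw [h3, zero_mul] at h4
      exact zero_ne_one h4
    -- not all constants are one, by Schur
    obtain ⟨g0, hg0⟩ : ∃ g0 : P, ρ g0 * ρ z ≠ ρ z * ρ g0 := by
      by_contra hcon
      push Not at hcon
      obtain ⟨μ, hμ⟩ := Module.End.exists_eigenvalue (ρ z)
      apply hz
      have hE := hred ((ρ z).eigenspace μ) hμ
      by_cases htop : (ρ z).eigenspace μ = ⊤
      · refine ⟨μ, ?_⟩
        ext x
        have : x ∈ (ρ z).eigenspace μ := by rw [htop]; trivial
        rw [Module.End.mem_eigenspace_iff] at this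
        rw [this]; rfl
      · exfalso
        obtain ⟨a, x, hx, hax⟩ := hE htop
        apply hax
        rw [Module.End.mem_eigenspace_iff] at hx ⊢
        rw [← Module.End.mul_apply, ← hcon a, Module.End.mul_apply, hx, map_smul]
    -- the centralizer modulo the kernel
    let M : Subgroup P := {
      carrier := {m | ρ m * ρ z = ρ z * ρ m}
      one_mem' := by
        show ρ 1 * ρ z = ρ z * ρ 1
        rw [map_one, one_mul, mul_one]
      mul_mem' := by
        intro a b ha hb
        show ρ (a * b) * ρ z = ρ z * ρ (a * b)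
        have ha' : ρ a * ρ z = ρ z * ρ a := ha
        have hb' : ρ b * ρ z = ρ z * ρ b := hb
        rw [map_mul, mul_assoc, hb', ← mul_assoc, ha', mul_assoc]
      inv_mem' := by
        intro a ha
        show ρ a⁻¹ * ρ z = ρ z * ρ a⁻¹
        have ha' : ρ a * ρ z = ρ z * ρ a := ha
        calc ρ a⁻¹ * ρ z = ρ a⁻¹ * ρ z * (ρ a * ρ a⁻¹) := by rw [hinv1, mul_one]
          _ = ρ a⁻¹ * (ρ z * ρ a) * ρ a⁻¹ := by simp only [mul_assoc]
          _ = ρ a⁻¹ * (ρ a * ρ z) * ρ a⁻¹ := by rw [ha']
          _ = (ρ a⁻¹ * ρ a) * ρ z * ρ a⁻¹ := by simp only [mul_assoc]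
          _ = ρ z * ρ a⁻¹ := by rw [hinv2, one_mul] }
    have hMmem : ∀ m, m ∈ M ↔ ρ m * ρ z = ρ z * ρ m := fun m => Iff.rfl
    have hcomM : commutator P ≤ M := by
      rw [commutator_def, Subgroup.commutator_le]
      intro a _ b _
      rw [hMmem]
      obtain ⟨c, hc0, hca⟩ := hc a
      obtain ⟨d, hd0, hdb⟩ := hc b
      have h1 : ρ (a * b) * ρ z = (c * d) • (ρ z * ρ (a * b)) := by
        rw [map_mul, mul_assoc, hdb, mul_smul_comm, ← mul_assoc, hca, smul_mul_assoc, smul_smul, mul_assoc, mul_comm d c]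
      have h2 : ρ (b * a) * ρ z = (c * d) • (ρ z * ρ (b * a)) := by
        rw [map_mul, mul_assoc, hca, mul_smul_comm, ← mul_assoc, hdb, smul_mul_assoc, smul_smul, mul_assoc]
      have h3 : ⁅a, b⁆ * (b * a) = a * b := by rw [commutatorElement_def]; group
      have hcd : c * d ≠ 0 := mul_ne_zero hc0 hd0
      have h4 : (c * d) • ((ρ ⁅a, b⁆ * ρ z) * ρ (b * a)) = (c * d) • ((ρ z * ρ ⁅a, b⁆) * ρ (b * a)) := by
        calc (c * d) • ((ρ ⁅a, b⁆ * ρ z) * ρ (b * a)) = ρ ⁅a, b⁆ * ((c * d) • (ρ z * ρ (b * a))) := by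
              rw [mul_smul_comm, mul_assoc]
          _ = ρ ⁅a, b⁆ * (ρ (b * a) * ρ z) := by rw [h2]
          _ = ρ (a * b) * ρ z := by rw [← mul_assoc, ← map_mul, h3]
          _ = (c * d) • (ρ z * ρ (a * b)) := h1
          _ = (c * d) • ((ρ z * ρ ⁅a, b⁆) * ρ (b * a)) := by rw [mul_assoc (ρ z), ← map_mul ρ ⁅a, b⁆ (b * a), h3]
      have h5 := smul_right_injective _ hcd h4
      calc ρ ⁅a, b⁆ * ρ z = (ρ ⁅a, b⁆ * ρ z) * ρ (b * a) * ρ (b * a)⁻¹ := by rw [mul_assoc, hinv1, mul_one]
        _ = (ρ z * ρ ⁅a, b⁆) * ρ (b * a) * ρ (b * a)⁻¹ := by rw [h5]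
        _ = ρ z * ρ ⁅a, b⁆ := by rw [mul_assoc, hinv1, mul_one]
    obtain ⟨c0, hc00, hc0⟩ := hc g0
    have hc01 : c0 ≠ 1 := by
      intro h
      rw [h, one_smul] at hc0
      exact hg0 hc0
    have hzz : ∀ x : V, ρ z x = 0 → x = 0 := by
      intro x hx
      by_contra h0
      exact hne0 z x h0 hx
    -- dimensions of eigenspaces
    have hdim : ∀ μ : K, 2 * finrank K ((ρ z).eigenspace μ) ≤ n := by
      intro μ
      by_cases hμ : (ρ z).eigenspace μ = ⊥
      · rw [hμ, finrank_bot]; omega
      have hμ0 : μ ≠ 0 := by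
        rintro rfl
        apply hμ
        rw [eq_bot_iff]
        intro x hx
        rw [Module.End.mem_eigenspace_iff, zero_smul] at hx
        rw [Submodule.mem_bot]
        exact hzz x hx
      -- image under g0
      have hinj : Function.Injective (ρ g0) := by
        intro x y hxy
        by_contra hne
        exact hne0 g0 (x - y) (sub_ne_zero.mpr hne) (by rw [map_sub, hxy, sub_self])
      have hmapdim : finrank K (((ρ z).eigenspace μ).map (ρ g0)) = finrank K ((ρ z).eigenspace μ) :=
        (LinearEquiv.finrank_eq (Submodule.equivMapOfInjective (ρ g0) hinj _)).symm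
      have hdisj : ((ρ z).eigenspace μ) ⊓ (((ρ z).eigenspace μ).map (ρ g0)) = ⊥ := by
        rw [eq_bot_iff]
        rintro x ⟨hx1, y, hy, rfl⟩
        have hx1' := Module.End.mem_eigenspace_iff.mp hx1
        have hy' := Module.End.mem_eigenspace_iff.mp hy
        have h1 : ρ g0 (ρ z y) = c0 • ρ z (ρ g0 y) := by
          have := congrArg (fun f : Module.End K V => f y) hc0
          simpa using this
        rw [hy', map_smul, hx1', smul_smul] at h1
        have h2 : (μ - c0 * μ) • ρ g0 y = 0 := by rw [sub_smul, h1, sub_self]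
        rcases smul_eq_zero.mp h2 with h3 | h3
        · exfalso
          have h4 : (1 - c0) * μ = 0 := by rw [sub_mul, one_mul]; exact h3
          rcases mul_eq_zero.mp h4 with h5 | h5
          · exact hc01 (sub_eq_zero.mp h5).symm
          · exact hμ0 h5
        · rw [Submodule.mem_bot]; exact h3
      have h1 := Submodule.finrank_sup_add_finrank_inf_eq ((ρ z).eigenspace μ) (((ρ z).eigenspace μ).map (ρ g0))
      rw [hdisj, finrank_bot, hmapdim, add_zero] at h1
      have h2 := Submodule.finrank_le (((ρ z).eigenspace μ) ⊔ (((ρ z).eigenspace μ).map (ρ g0)))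
      rw [h1, hn] at h2
      omega
    -- diagonalizability
    have hss : (ρ z).IsFinitelySemisimple := by
      apply Module.End.IsSemisimple.isFinitelySemisimple
      apply Module.End.isSemisimple_of_squarefree_aeval_eq_zero (p := Polynomial.X ^ (Nat.card P) - 1)
      · exact ((Polynomial.X_pow_sub_one_separable_iff).mpr hcard).squarefree
      · rw [map_sub, map_pow, Polynomial.aeval_X, map_one, ← map_pow, hpow, map_one, sub_self]
    have htop : (⨆ μ : K, (ρ z).eigenspace μ) = ⊤ := by
      rw [← Module.End.iSup_maxGenEigenspace_eq_top (ρ z)]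
      congr 1
      funext μ
      rw [hss.maxGenEigenspace_eq_eigenspace]
    -- conclusion
    have hgM := derived_map hcomM _ hg
    obtain ⟨m, hm, hmg⟩ := hgM
    have hfix : ∀ μ : K, ∀ x ∈ (ρ z).eigenspace μ, ρ g x = x := by
      intro μ x hx
      have hinv : ∀ a : M, ∀ y ∈ (ρ z).eigenspace μ, (ρ.comp M.subtype) a y ∈ (ρ z).eigenspace μ := by
        intro a y hy
        rw [Module.End.mem_eigenspace_iff] at hy ⊢
        have ha : ρ (a : P) * ρ z = ρ z * ρ (a : P) := a.2
        show ρ z (ρ (a : P) y) = μ • ρ (a : P) y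
        rw [← Module.End.mul_apply, ← ha, Module.End.mul_apply, hy, map_smul]
      have h1 := hdim μ
      rcases Nat.eq_zero_or_pos (finrank K ((ρ z).eigenspace μ)) with h0 | hpos
      · have h2 : (ρ z).eigenspace μ = ⊥ := Submodule.finrank_eq_zero.mp h0
        rw [h2, Submodule.mem_bot] at hx
        rw [hx, map_zero]
      · have hlog : Nat.log 2 (finrank K ((ρ z).eigenspace μ)) + 1 ≤ Nat.log 2 n := by
          have h3 := Nat.log_mono_right (b := 2) h1
          rw [mul_comm, Nat.log_mul_base (by norm_num) hpos.ne'] at h3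
          exact h3
        have h4 := ih _ (by omega) M (hP.to_subgroup M) ((ρ z).eigenspace μ) (res (ρ.comp M.subtype) _ hinv) rfl m
          (derivedSeries_antitone M hlog hm)
        have h5 := congrArg (fun f => ((f ⟨x, hx⟩ : (ρ z).eigenspace μ) : V)) h4
        have h6 : ρ (m : P) x = x := h5
        rw [← hmg]
        exact h6
    ext x
    have hx : x ∈ (⨆ μ : K, (ρ z).eigenspace μ) := by rw [htop]; trivial
    induction hx using Submodule.iSup_induction' with
    | mem μ y hy => rw [hfix μ y hy]; rfl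
    | zero => simp
    | add y w _ _ hy hw => rw [map_add, map_add, hy, hw]

end CfsgLib.FgDL
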