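import Mathlib
import Cfsg.Agent.LibFusionH12

/-! Thompson transfer lemma and its generalization. -/

set_option autoImplicit false

namespace CfsgLib.ThompTrH12

open Subgroup

/-- a homomorphism onto a group of order two with kernel a given subgroup of index two -/
theorem exists_hom {H : Type*} [Group H] (N : Subgroup H) (hN : N.index = 2) :
    ∃ φ : H →* Multiplicative (ZMod 2), ∀ h, φ h = 1 ↔ h ∈ N := by
  have : Fact (Nat.Prime 2) := ⟨Nat.prime_two⟩
  have hn : N.Normal := Subgroup.normal_of_index_eq_two hN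
  have h1 : Nat.card (H ⧸ N) = 2 := hN
  have h2 : Nat.card (Multiplicative (ZMod 2)) = 2 := by
    rw [Nat.card_congr Multiplicative.toAdd, Nat.card_zmod]
  let e := mulEquivOfPrimeCardEq h1 h2
  refine ⟨e.toMonoidHom.comp (QuotientGroup.mk' N), fun h => ?_⟩
  show e (QuotientGroup.mk' N h) = 1 ↔ _
  rw [map_eq_one_iff e e.injective]
  exact QuotientGroup.eq_one_iff h

theorem mul_self_c (c : Multiplicative (ZMod 2)) : c ^ 2 = 1 := by
  revert c; decide

theorem eq_of_ne_one {c d : Multiplicative (ZMod 2)} (hc : c ≠ 1) (hd : d ≠ 1) : c = d := by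
  revert c d; decide

/-- Transfer into `S/M` for `M` of index two in a Sylow 2-subgroup `S` -/
theorem exists_index_two {G : Type*} [Group G] [Finite G] (S : Sylow 2 G) (M : Subgroup G)
    (hM : M.relIndex (S : Subgroup G) = 2) (x : G) (hx2 : ∃ n, x ^ 2 ^ n = 1)
    (h1 : ∀ (k : ℕ) (g : G), Even k → g⁻¹ * x ^ k * g ∈ (S : Subgroup G) → g⁻¹ * x ^ k * g ∈ M)
    (h2 : ∀ g : G, g⁻¹ * x * g ∈ (S : Subgroup G) → g⁻¹ * x * g ∉ M) :
    ∃ N : Subgroup G, N.Normal ∧ N.index = 2 ∧ x ∉ N := by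
  classical
  have : Fact (Nat.Prime 2) := ⟨Nat.prime_two⟩
  obtain ⟨φ, hφ⟩ := exists_hom (M.subgroupOf (S : Subgroup G)) hM
  let := Fintype.ofFinite (Quotient (MulAction.orbitRel (zpowers x) (G ⧸ (S : Subgroup G))))
  have hc : ∃ c : Multiplicative (ZMod 2), c ≠ 1 := exists_ne 1
  obtain ⟨c, hc⟩ := hc
  have hV := MonoidHom.transfer_eq_prod_quotient_orbitRel_zpowers_quot φ x
  have gen : ∀ (k : ℕ) (g : G) (hmem : g⁻¹ * x ^ k * g ∈ (S : Subgroup G)), k ∣ orderOf x →
      φ ⟨g⁻¹ * x ^ k * g, hmem⟩ = c ^ k := by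
    intro k g hmem hkdvd
    obtain ⟨n, hn⟩ := hx2
    have hk2 : k ∣ 2 ^ n := hkdvd.trans (orderOf_dvd_of_pow_eq_one hn)
    obtain ⟨j, -, hj⟩ := (Nat.dvd_prime_pow Nat.prime_two).1 hk2
    rcases Nat.eq_zero_or_pos j with h0 | hpos
    · rw [h0, pow_zero] at hj
      subst hj
      rw [pow_one c]
      have h3 : (⟨g⁻¹ * x ^ 1 * g, hmem⟩ : (S : Subgroup G)) ∉ M.subgroupOf (S : Subgroup G) := by
        intro h
        have h4 := Subgroup.mem_subgroupOf.1 h
        have hmem' := hmem
        rw [pow_one] at hmem'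
        simp only [pow_one] at h4
        exact h2 _ hmem' h4
      rw [← hφ] at h3
      exact eq_of_ne_one h3 hc
    · have hke : Even k := by
        rw [hj, Nat.even_pow]
        exact ⟨even_two, by omega⟩
      have h3 : (⟨g⁻¹ * x ^ k * g, hmem⟩ : (S : Subgroup G)) ∈ M.subgroupOf (S : Subgroup G) :=
        Subgroup.mem_subgroupOf.2 (h1 k _ hke hmem)
      rw [← hφ] at h3
      rw [h3]
      obtain ⟨m, hm⟩ := hke
      rw [hm, ← two_mul, pow_mul, mul_self_c, one_pow]
  have hterm : ∀ q : Quotient (MulAction.orbitRel (zpowers x) (G ⧸ (S : Subgroup G))),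
      φ ⟨q.out.out⁻¹ * x ^ Function.minimalPeriod (x • ·) q.out * q.out.out,
            QuotientGroup.out_conj_pow_minimalPeriod_mem (S : Subgroup G) x q.out⟩ =
        c ^ Function.minimalPeriod (x • ·) q.out := by
    intro q
    apply gen
    apply Function.IsPeriodicPt.minimalPeriod_dvd
    show (x • ·)^[orderOf x] q.out = q.out
    rw [smul_iterate, pow_orderOf_eq_one]
    exact one_smul _ _
  have hV2 : MonoidHom.transfer φ x = c ^ (S : Subgroup G).index := by
    rw [hV, Finset.prod_congr rfl (fun q _ => hterm q), Finset.prod_pow_eq_pow_sum,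
      ← Subgroup.index_eq_sum_minimalPeriod]
  have hodd : Odd (S : Subgroup G).index := by
    rw [← Nat.not_even_iff_odd]
    intro h
    exact S.not_dvd_index h.two_dvd
  obtain ⟨m, hm⟩ := hodd
  have hne : MonoidHom.transfer φ x ≠ 1 := by
    rw [hV2, hm, pow_succ, pow_mul, mul_self_c, one_pow, one_mul]
    exact hc
  refine ⟨(MonoidHom.transfer φ).ker, inferInstance, ?_, ?_⟩
  · rw [Subgroup.index_ker]
    have h3 : Nat.card (MonoidHom.transfer φ).range ∣ Nat.card (Multiplicative (ZMod 2)) :=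
      Subgroup.card_subgroup_dvd_card _
    rw [Nat.card_congr Multiplicative.toAdd, Nat.card_zmod] at h3
    rcases (Nat.dvd_prime Nat.prime_two).1 h3 with h4 | h4
    · exfalso
      apply hne
      have h5 := Subgroup.eq_bot_of_card_eq _ h4
      have h6 : MonoidHom.transfer φ x ∈ (MonoidHom.transfer φ).range := ⟨x, rfl⟩
      rw [h5, Subgroup.mem_bot] at h6
      exact h6
    · exact h4
  · intro h
    exact hne (MonoidHom.mem_ker.1 h)

/-- Thompson's transfer lemma -/
theorem thompson_transfer {G : Type*} [Group G] [Finite G] (S : Sylow 2 G) (M : Subgroup G)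
    (hM : M.relIndex (S : Subgroup G) = 2) (x : G) (hx : orderOf x = 2)
    (h2 : ∀ g : G, g * x * g⁻¹ ∉ M) :
    ∃ N : Subgroup G, N.Normal ∧ N.index = 2 ∧ x ∉ N := by
  have hx2 : x ^ 2 = 1 := by rw [← hx, pow_orderOf_eq_one]
  refine exists_index_two S M hM x ⟨1, by rw [pow_one]; exact hx2⟩ ?_ ?_
  · rintro k g ⟨m, hm⟩ _
    rw [hm, ← two_mul, pow_mul, hx2, one_pow, mul_one, inv_mul_cancel]
    exact M.one_mem
  · intro g _ h
    have := h2 g⁻¹
    rw [inv_inv] at this
    exact this h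

end CfsgLib.ThompTrH12
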