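import Mathlib

/-!
# The sign of a semiregular permutation and normal subgroups of index two (helper12)
-/

set_option autoImplicit false
set_option linter.style.haveILetI false
set_option linter.unusedSectionVars false

namespace CfsgLib.SignH12

open Subgroup

theorem sign_semireg {α : Type*} [Fintype α] [DecidableEq α] (σ : Equiv.Perm α) (m : ℕ) (hm : 2 ≤ m) (hme : Even m)
    (hpow : σ ^ m = 1) (hfix : ∀ k, 0 < k → k < m → ∀ x, (σ ^ k) x ≠ x) (hodd : Odd (Fintype.card α / m)) :
    Equiv.Perm.sign σ = -1 := by
  have hall : ∀ a ∈ σ.cycleType, a = m := by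
    intro a ha
    have h1 : a ∣ m := (Equiv.Perm.dvd_of_mem_cycleType ha).trans (orderOf_dvd_of_pow_eq_one hpow)
    have h2 := Equiv.Perm.two_le_of_mem_cycleType ha
    rw [Equiv.Perm.mem_cycleType_iff] at ha
    obtain ⟨c, τ, h3, h4, h5, h6⟩ := ha
    obtain ⟨x, hx⟩ : c.support.Nonempty := by
      rw [← Finset.card_pos, h6]; omega
    have hc : c ^ a = 1 := by rw [← h6, ← h5.orderOf, pow_orderOf_eq_one]
    have hτx : τ x = x := by
      rcases h4 x with h | h
      · exact absurd h (Equiv.Perm.mem_support.1 hx)
      · exact h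
    have hfx : (σ ^ a) x = x := by
      rw [h3, h4.commute.mul_pow, hc, one_mul]
      exact Equiv.Perm.pow_apply_eq_self_of_apply_eq_self hτx a
    rcases lt_or_ge a m with h | h
    · exact absurd hfx (hfix a (by omega) h x)
    · exact le_antisymm (Nat.le_of_dvd (by omega) h1) h
  have hrep : σ.cycleType = Multiset.replicate (Multiset.card σ.cycleType) m := Multiset.eq_replicate.2 ⟨rfl, hall⟩
  have hsum : σ.cycleType.sum = Multiset.card σ.cycleType * m := by
    rw [hrep, Multiset.sum_replicate, Multiset.card_replicate, smul_eq_mul]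
  have hsupp : σ.support = Finset.univ := by
    ext x
    simp only [Finset.mem_univ, iff_true, Equiv.Perm.mem_support]
    have := hfix 1 one_pos (by omega) x
    rwa [pow_one] at this
  have hcard : Fintype.card α = Multiset.card σ.cycleType * m := by
    rw [← hsum, Equiv.Perm.sum_cycleType, hsupp, Finset.card_univ]
  rw [hcard, Nat.mul_div_cancel _ (by omega)] at hodd
  rw [Equiv.Perm.sign_of_cycleType, hsum]
  apply Odd.neg_one_pow
  exact (hme.mul_left _).add_odd hodd

/-- a subgroup `T` of index `m` times odd, a cyclic group of order `m` meeting no conjugate of `T` -/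
theorem exists_index_two {K : Type*} [Group K] [Finite K] (T : Subgroup K) (c : K) (m : ℕ) (hm : 2 ≤ m) (hme : Even m)
    (hpow : c ^ m = 1) (hfix : ∀ k, 0 < k → k < m → ∀ g : K, g⁻¹ * c ^ k * g ∉ T) (hodd : Odd (T.index / m)) :
    ∃ N : Subgroup K, N.Normal ∧ N.index = 2 ∧ c ∉ N := by
  classical
  letI : Fintype (K ⧸ T) := Fintype.ofFinite _
  let φ : K →* ℤˣ := Equiv.Perm.sign.comp (MulAction.toPermHom K (K ⧸ T))
  have h1 : φ c = -1 := by
    change Equiv.Perm.sign (MulAction.toPermHom K (K ⧸ T) c) = -1
    apply sign_semireg _ m hm hme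
    · rw [← map_pow, hpow, map_one]
    · intro k hk hkm x hx
      rw [← map_pow] at hx
      induction x using QuotientGroup.induction_on with
      | H g =>
      have hx' : c ^ k • (QuotientGroup.mk g : K ⧸ T) = QuotientGroup.mk g := hx
      rw [MulAction.Quotient.smul_mk, QuotientGroup.eq] at hx'
      have := inv_mem hx'
      have e : ((c ^ k • g)⁻¹ * g)⁻¹ = g⁻¹ * c ^ k * g := by rw [smul_eq_mul]; group
      rw [e] at this
      exact hfix k hk hkm g this
    · rw [← Nat.card_eq_fintype_card, ← Subgroup.index_eq_card]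
      exact hodd
  refine ⟨φ.ker, inferInstance, ?_, ?_⟩
  · rw [Subgroup.index_ker]
    have h2 : φ.range = ⊤ := by
      rw [eq_top_iff]
      intro u _
      rcases Int.units_eq_one_or u with rfl | rfl
      · exact one_mem _
      · exact ⟨c, h1⟩
    rw [h2, Subgroup.card_top]
    simp
  · intro h
    rw [MonoidHom.mem_ker, h1] at h
    exact absurd h (by decide)

end CfsgLib.SignH12
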