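import Mathlib
import Cfsg.Agent.LibTate2
import Cfsg.Agent.LibSolvSZ

/-! splitting over `O^p(G)` when its Sylow subgroups are abelian -/

set_option autoImplicit false
set_option linter.all false
open Pointwise
open scoped commutatorElement

namespace CfsgLib.Tate

open CfsgLib.SolvBasic CfsgLib.SolvCoprime CfsgLib.TransPC CfsgLib.TransFus CfsgLib.TransAb
  CfsgLib.Gaschutz CfsgLib.SolvSZ

universe u v w

variable {G : Type u} [Group G]

theorem le_commutator_of_residual_top [Finite G] {p : ℕ} [hp : Fact p.Prime] (P : Sylow p G)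
    (h : Cfsg.pResidual p G = ⊤) : (P : Subgroup G) ≤ commutator G := by
  obtain ⟨Λ, hΛ, -⟩ := extend_hom P (QuotientGroup.mk' ((commutator G).subgroupOf (P : Subgroup G)))
    (by intro y hy; exact (QuotientGroup.eq_one_iff _).mpr hy)
  intro y hy
  have h1 : Λ y = 1 := hom_pResidual_eq_one (P.isPGroup'.to_quotient _) Λ
    (by rw [h]; trivial)
  have h2 := hΛ ⟨y, hy⟩
  change Λ y = _ at h2
  rw [h1] at h2
  have h3 : (⟨y, hy⟩ : (P : Subgroup G)) ∈ (commutator G).subgroupOf (P : Subgroup G) :=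
    (QuotientGroup.eq_one_iff _).mp h2.symm
  exact h3

theorem inf_centralizer_normalizer [Finite G] {p : ℕ} [hp : Fact p.Prime] (P : Sylow p G)
    (hc : IsMulCommutative P) (h : Cfsg.pResidual p G = ⊤) :
    (P : Subgroup G) ⊓ Subgroup.centralizer
      ((Subgroup.normalizer ((P : Subgroup G) : Set G) : Subgroup G) : Set G) = ⊥ := by
  obtain ⟨N, hN⟩ : ∃ N, N = Subgroup.normalizer ((P : Subgroup G) : Set G) := ⟨_, rfl⟩
  rw [← hN]
  have hPN : (P : Subgroup G) ≤ N := by rw [hN]; exact Subgroup.le_normalizer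
  have h1 := commutator_inf_eq_of_controls P N hPN (by
    intro x g hx hgx
    rw [hN]
    exact abelian_controls P hc x g hx hgx)
  have h2 := le_commutator_of_residual_top P h
  rw [inf_eq_right.mpr h2] at h1
  have h3 : (P : Subgroup G) ≤ ⁅N, N⁆ := h1.le.trans inf_le_left
  rw [eq_bot_iff]
  intro x hx
  obtain ⟨hxP, hxC⟩ := Subgroup.mem_inf.mp hx
  have hc' : IsMulCommutative ((P : Subgroup G).subgroupOf N) := by
    refine ⟨⟨fun a b => ?_⟩⟩
    apply Subtype.ext
    apply Subtype.ext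
    have h9 := hc.is_comm.comm (⟨((a : N) : G), a.2⟩ : (P : Subgroup G)) ⟨((b : N) : G), b.2⟩
    exact congrArg (fun z : (P : Subgroup G) => (z : G)) h9
  have h4 := hall_inf_commutator_inf_center ((P : Subgroup G).subgroupOf N) hc' (by
    rw [card_subgroupOf hPN]
    exact Nat.Coprime.coprime_dvd_right (Dvd.intro _ (Subgroup.relIndex_mul_index hPN))
      P.card_coprime_index)
  have h5 : (⟨x, hPN hxP⟩ : N) ∈ (P : Subgroup G).subgroupOf N ⊓ commutator N ⊓ Subgroup.center N := by
    refine Subgroup.mem_inf.mpr ⟨Subgroup.mem_inf.mpr ⟨hxP, ?_⟩, ?_⟩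
    · have h6 : x ∈ (commutator N).map N.subtype := by
        rw [commutator_def, Subgroup.map_commutator]
        rw [← MonoidHom.range_eq_map, Subgroup.range_subtype]
        exact h3 hxP
      obtain ⟨z, hz, hzx⟩ := h6
      have : z = ⟨x, hPN hxP⟩ := Subtype.ext hzx
      rwa [this] at hz
    · rw [Subgroup.mem_center_iff]
      intro n
      exact Subtype.ext (Subgroup.mem_centralizer_iff.mp hxC n n.2)
  rw [h4, Subgroup.mem_bot] at h5
  exact congrArg Subtype.val h5

theorem pResidual_pResidual [Finite G] (p : ℕ) [hp : Fact p.Prime] :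
    Cfsg.pResidual p (Cfsg.pResidual p G) = ⊤ := by
  have h1 := Subgroup.closure_closure_coe_preimage (G := G)
    (k := {g : G | Nat.Coprime (orderOf g) p})
  refine Eq.trans ?_ h1
  change Subgroup.closure _ = Subgroup.closure _
  congr 1
  ext x
  change Nat.Coprime (orderOf x) p ↔ Nat.Coprime (orderOf (x : G)) p
  rw [Subgroup.orderOf_coe]

theorem exists_complement_residual [Finite G] {p : ℕ} [hp : Fact p.Prime]
    (h : ∀ Q : Sylow p (Cfsg.pResidual p G), IsMulCommutative Q) :
    ∃ K : Subgroup G, K.IsComplement' (Cfsg.pResidual p G) := by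
  have htop := pResidual_pResidual (G := G) p
  have hpq : ∀ (_ : (Cfsg.pResidual p G).Normal), IsPGroup p (G ⧸ Cfsg.pResidual p G) :=
    fun _ => isPGroup_quotient_pResidual (p := p) (Cfsg.pResidual p G) le_rfl
  have hRn0 : (Cfsg.pResidual p G).Normal := pResidual_normal p
  generalize Cfsg.pResidual p G = R at h htop hpq hRn0 ⊢
  have hRn : R.Normal := hRn0
  have hpq' := hpq hRn
  obtain ⟨D'⟩ := (inferInstance : Nonempty (Sylow p R))
  have hDc := h D'
  have hDs := IsSylowIn.ofSylow D'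
  have hfr := Sylow.normalizer_sup_eq_top D'
  have hinf := inf_centralizer_normalizer D' hDc htop
  obtain ⟨D, hD⟩ : ∃ D, D = (D' : Subgroup R).map R.subtype := ⟨_, rfl⟩
  rw [← hD] at hfr hDs
  have hDcomm : ∀ x ∈ D, ∀ y ∈ D, x * y = y * x := by
    rw [hD]
    rintro _ ⟨x, hx, rfl⟩ _ ⟨y, hy, rfl⟩
    rw [← map_mul, ← map_mul]
    exact congrArg _ (congrArg Subtype.val (hDc.is_comm.comm ⟨x, hx⟩ ⟨y, hy⟩))
  obtain ⟨N, hN⟩ : ∃ N, N = Subgroup.normalizer (D : Set G) := ⟨_, rfl⟩
  have hDN : D ≤ N := by rw [hN]; exact Subgroup.le_normalizer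
  obtain ⟨L, hL⟩ : ∃ L, L = N ⊓ R := ⟨_, rfl⟩
  have hLR : L ≤ R := by rw [hL]; exact inf_le_right
  have hLN : L ≤ N := by rw [hL]; exact inf_le_left
  have hDL : D ≤ L := by rw [hL]; exact le_inf hDN hDs.le
  have hDL' : IsSylowIn p D L := hDs.mono hDL hLR
  have hDn : (D.subgroupOf L).Normal := (Subgroup.normal_subgroupOf_iff_le_normalizer hDL).mpr
    (by rw [← hN]; exact hLN)
  have hco : Nat.Coprime (Nat.card (D.subgroupOf L)) (D.subgroupOf L).index := by
    rw [card_subgroupOf hDL]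
    obtain ⟨k, hk⟩ := IsPGroup.iff_card.mp hDL'.isPGroup
    rw [hk]
    exact Nat.Coprime.pow_left k ((Nat.Prime.coprime_iff_not_dvd hp.out).mpr hDL'.not_dvd)
  obtain ⟨K', hK'⟩ := Subgroup.exists_right_complement'_of_coprime hco
  obtain ⟨K, hK⟩ : ∃ K, K = K'.map L.subtype := ⟨_, rfl⟩
  have hKL : K ≤ L := by rw [hK]; exact Subgroup.map_subtype_le _
  have hKK' : K.subgroupOf L = K' := by
    rw [hK, Subgroup.subgroupOf, Subgroup.comap_map_eq_self_of_injective L.subtype_injective]
  have hDK : D ⊔ K = L := by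
    have h1 := congrArg (Subgroup.map L.subtype) hK'.sup_eq_top
    rw [Subgroup.map_sup, Subgroup.map_subgroupOf_eq_of_le hDL, ← hK, ← MonoidHom.range_eq_map,
      Subgroup.range_subtype] at h1
    exact h1
  have hDKinf : D ⊓ K = ⊥ := by
    rw [eq_bot_iff]
    intro x hx
    obtain ⟨h1, h2⟩ := Subgroup.mem_inf.mp hx
    have h3 : (⟨x, hKL h2⟩ : L) ∈ D.subgroupOf L ⊓ K' := by
      refine Subgroup.mem_inf.mpr ⟨h1, ?_⟩
      rw [← hKK']; exact h2
    rw [hK'.disjoint.eq_bot, Subgroup.mem_bot] at h3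
    exact congrArg Subtype.val h3
  have hKcard : Nat.card (K.subgroupOf L) = (D.subgroupOf L).index := by
    rw [hKK']; exact hK'.symm.index_eq_card.symm
  obtain ⟨M, hM⟩ : ∃ M, M = N ⊓ Subgroup.normalizer (K : Set G) := ⟨_, rfl⟩
  have hMN : M ≤ N := by rw [hM]; exact inf_le_left
  -- N = L M
  have hNLM : ∀ n ∈ N, ∃ l ∈ L, ∃ m ∈ M, n = l * m := by
    intro n hn
    have hnL : MulAut.conj n • L = L := by
      rw [← mem_normalizer_iff_conj_smul, Subgroup.mem_normalizer_iff]
      intro x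
      rw [hL, Subgroup.mem_inf, Subgroup.mem_inf]
      refine and_congr ?_ ?_
      · constructor
        · intro hx; exact mul_mem (mul_mem hn hx) (inv_mem hn)
        · intro hx
          have := mul_mem (mul_mem (inv_mem hn) hx) hn
          have e : n⁻¹ * (n * x * n⁻¹) * n = x := by group
          rwa [e] at this
      · constructor
        · intro hx; exact hRn.conj_mem x hx n
        · intro hx
          have := hRn.conj_mem _ hx n⁻¹
          have e : n⁻¹ * (n * x * n⁻¹) * n⁻¹⁻¹ = x := by group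
          rwa [e] at this
    have hKn : MulAut.conj n • K ≤ L := by
      have h5 : MulAut.conj n • K ≤ MulAut.conj n • L :=
        Subgroup.pointwise_smul_le_pointwise_smul_iff.mpr hKL
      rwa [hnL] at h5
    obtain ⟨l, hl⟩ := sz_conj (D.subgroupOf L) hco (Or.inl (by
      have h6 : IsPGroup p (D.subgroupOf L) := hDL'.isPGroup.comap_subtype
      have := h6.isNilpotent
      infer_instance)) (K.subgroupOf L) ((MulAut.conj n • K).subgroupOf L) hKcard (by
      rw [card_subgroupOf hKn, card_conj_smul, ← hKcard, card_subgroupOf hKL])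
    have h7 := conj_smul_of_subgroupOf l hKL hKn hl
    refine ⟨l, l.2, (l : G)⁻¹ * n, ?_, by group⟩
    rw [hM]
    refine Subgroup.mem_inf.mpr ⟨mul_mem (inv_mem (hLN l.2)) hn, ?_⟩
    rw [mem_normalizer_iff_conj_smul, conj_smul_mul, ← h7, ← conj_smul_mul, inv_mul_cancel,
      conj_smul_one]
  have hRM : R ⊔ M = ⊤ := by
    rw [eq_top_iff, ← hfr, ← hN]
    apply sup_le _ le_sup_left
    intro n hn
    obtain ⟨l, hl, m, hm, rfl⟩ := hNLM n hn
    exact Subgroup.mul_mem_sup (hLR hl) hm
  -- D ⊓ M = 1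
  have hDM : D ⊓ M = ⊥ := by
    rw [eq_bot_iff]
    intro x hx
    obtain ⟨hxD, hxM⟩ := Subgroup.mem_inf.mp hx
    rw [hM] at hxM
    obtain ⟨hxN, hxK⟩ := Subgroup.mem_inf.mp hxM
    have hcK : ∀ k ∈ K, k * x = x * k := by
      intro k hk
      have h1 : x * k * x⁻¹ * k⁻¹ ∈ K := mul_mem ((Subgroup.mem_normalizer_iff.mp hxK k).mp hk)
        (inv_mem hk)
      have h2 : x * (k * x⁻¹ * k⁻¹) ∈ D := by
        refine mul_mem hxD ?_
        have h3 : k ∈ Subgroup.normalizer (D : Set G) := by rw [← hN]; exact hLN (hKL hk)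
        exact (Subgroup.mem_normalizer_iff.mp h3 _).mp (inv_mem hxD)
      have e : x * (k * x⁻¹ * k⁻¹) = x * k * x⁻¹ * k⁻¹ := by group
      rw [e] at h2
      have h4 : x * k * x⁻¹ * k⁻¹ ∈ D ⊓ K := Subgroup.mem_inf.mpr ⟨h2, h1⟩
      rw [hDKinf, Subgroup.mem_bot] at h4
      have h5 : x * k * (k * x)⁻¹ = 1 := by rw [← h4]; group
      exact (mul_inv_eq_one.mp h5).symm
    have hcL : L ≤ Subgroup.centralizer {x} := by
      rw [← hDK]
      apply sup_le
      · intro d hd
        rw [Subgroup.mem_centralizer_iff]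
        rintro _ rfl
        exact hDcomm _ hxD d hd
      · intro k hk
        rw [Subgroup.mem_centralizer_iff]
        rintro _ rfl
        exact (hcK k hk).symm
    have hxR : x ∈ R := hDs.le hxD
    have h6 : (⟨x, hxR⟩ : R) ∈ (D' : Subgroup R) ⊓ Subgroup.centralizer
      ((Subgroup.normalizer ((D' : Subgroup R) : Set R) : Subgroup R) : Set R) := by
      refine Subgroup.mem_inf.mpr ⟨?_, ?_⟩
      · rw [hD] at hxD
        obtain ⟨z, hz, hzx⟩ := hxD
        have : z = ⟨x, hxR⟩ := Subtype.ext hzx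
        rwa [this] at hz
      · rw [Subgroup.mem_centralizer_iff]
        intro n hn
        apply Subtype.ext
        have h7 : (n : G) ∈ L := by
          rw [hL]
          refine Subgroup.mem_inf.mpr ⟨?_, n.2⟩
          rw [hN, mem_normalizer_iff_conj_smul, hD]
          have h8 := mem_normalizer_iff_conj_smul.mp hn
          have h9 := congrArg (Subgroup.map R.subtype) h8
          rw [conj_smul_eq_map, Subgroup.map_map] at h9
          rw [conj_smul_eq_map, Subgroup.map_map]
          exact h9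
        exact (Subgroup.mem_centralizer_iff.mp (hcL h7) x rfl).symm
    rw [hinf, Subgroup.mem_bot] at h6
    exact congrArg Subtype.val h6
  -- M ⊓ R is a p'-group
  have hMR : ¬ p ∣ Nat.card (M ⊓ R : Subgroup G) := by
    intro hd
    obtain ⟨x, hx⟩ := exists_prime_orderOf_dvd_card' p hd
    have hxM := (Subgroup.mem_inf.mp x.2).1
    have hxR := (Subgroup.mem_inf.mp x.2).2
    have hxL : (x : G) ∈ L := by rw [hL]; exact Subgroup.mem_inf.mpr ⟨hMN hxM, hxR⟩
    have hxo : orderOf (x : G) = p := by rw [Subgroup.orderOf_coe]; exact hx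
    have h1 : (⟨x, hxL⟩ : L) ∈ D.subgroupOf L := by
      rw [← QuotientGroup.eq_one_iff, ← orderOf_eq_one_iff]
      have h2 : orderOf ((⟨x, hxL⟩ : L) : L ⧸ D.subgroupOf L) ∣ p := by
        have h3 := orderOf_map_dvd (QuotientGroup.mk' (D.subgroupOf L)) (⟨x, hxL⟩ : L)
        rw [Subgroup.orderOf_mk, hxo] at h3
        exact h3
      have h4 : orderOf ((⟨x, hxL⟩ : L) : L ⧸ D.subgroupOf L) ∣ (D.subgroupOf L).index := by
        rw [Subgroup.index_eq_card]; exact orderOf_dvd_natCard _
      rcases (Nat.dvd_prime hp.out).mp h2 with h5 | h5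
      · exact h5
      · rw [h5] at h4
        exact absurd h4 hDL'.not_dvd
    have h2 : (x : G) ∈ D ⊓ M := Subgroup.mem_inf.mpr ⟨h1, hxM⟩
    rw [hDM, Subgroup.mem_bot] at h2
    rw [h2, orderOf_one] at hxo
    exact hp.out.one_lt.ne hxo
  obtain ⟨S, hS⟩ := IsSylowIn.exists_isSylowIn (p := p) M
  have hSR : S ⊓ R = ⊥ := by
    rw [← Subgroup.card_eq_one]
    obtain ⟨j, hj⟩ := IsPGroup.iff_card.mp hS.isPGroup
    have h1 : Nat.card (S ⊓ R : Subgroup G) ∣ p ^ j := by
      rw [← hj]; exact Subgroup.card_dvd_of_le inf_le_left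
    obtain ⟨i, -, hi⟩ := (Nat.dvd_prime_pow hp.out).mp h1
    rcases Nat.eq_zero_or_pos i with rfl | hi0
    · rw [hi, pow_zero]
    · exfalso
      apply hMR
      refine (dvd_pow_self p hi0.ne').trans ?_
      rw [← hi]
      exact Subgroup.card_dvd_of_le (inf_le_inf_right _ hS.le)
  refine ⟨S, ?_⟩
  obtain ⟨k, hk⟩ := IsPGroup.iff_card.mp hpq'
  have hMmap : M.map (QuotientGroup.mk' R) = ⊤ := by
    have h1 := congrArg (Subgroup.map (QuotientGroup.mk' R)) hRM
    rw [Subgroup.map_sup, Subgroup.map_top_of_surjective _ (QuotientGroup.mk'_surjective R)] at h1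
    have h2 : R.map (QuotientGroup.mk' R) = ⊥ := by
      rw [Subgroup.map_eq_bot_iff, QuotientGroup.ker_mk']
    rwa [h2, bot_sup_eq] at h1
  have h1 := card_map_mk'_mul_card_inf R M
  rw [hMmap, Subgroup.card_top, hk] at h1
  have h2 : Nat.card S * S.relIndex M = Nat.card M := by
    have := (S.subgroupOf M).card_mul_index
    rwa [card_subgroupOf hS.le] at this
  have h3 : p ^ k ∣ Nat.card S := by
    have h4 : p ^ k ∣ Nat.card S * S.relIndex M := by rw [h2, ← h1]; exact dvd_mul_right _ _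
    refine Nat.Coprime.dvd_of_dvd_mul_right ?_ h4
    exact Nat.Coprime.pow_left k ((Nat.Prime.coprime_iff_not_dvd hp.out).mpr hS.not_dvd)
  have h5 : Nat.card (S.map (QuotientGroup.mk' R)) = Nat.card S := card_map_mk'_of_disjoint R S hSR
  have h6 : Nat.card S ∣ p ^ k := by rw [← h5, ← hk]; exact Subgroup.card_subgroup_dvd_card _
  apply Subgroup.isComplement'_of_card_mul_and_disjoint
  · rw [Nat.dvd_antisymm h6 h3, ← hk, card_quotient_mul_card]
  · rw [disjoint_iff]; exact hSR

end CfsgLib.Tate
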