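import Cfsg.Statements.S1924
import Mathlib
import Cfsg.Agent.LibSignH12
import Cfsg.Agent.LibThompTrH12
import Cfsg.Agent.LibTate3
import Cfsg.Agent.LibLE2
import Cfsg.Agent.LibFusionH12

set_option autoImplicit false
open Cfsg

namespace Cfsg.Agent.S1924

theorem dih_sq (n : ℕ) (hn : 2 ≤ n) (C : Subgroup (DihedralGroup n)) (hC : IsCyclic C) (hCi : C.index = 2)
    (x : DihedralGroup n) (hx : x ∉ C) : x * x = 1 := by
  haveI : NeZero n := ⟨by omega⟩
  obtain ⟨⟨g, hg⟩, hgen⟩ := hC.exists_generator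
  have hCz : C = Subgroup.zpowers g := by
    apply le_antisymm
    · intro y hy
      obtain ⟨k, hk⟩ := hgen ⟨y, hy⟩
      exact ⟨k, congrArg Subtype.val hk⟩
    · rwa [Subgroup.zpowers_le]
  have hcard : Nat.card C = n := by
    have h1 := C.card_mul_index
    rw [hCi, DihedralGroup.nat_card] at h1
    omega
  cases g with
  | r j =>
    cases x with
    | r i =>
      exfalso
      apply hx
      have h1 : C ≤ Subgroup.zpowers (DihedralGroup.r 1 : DihedralGroup n) := by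
        rw [hCz, Subgroup.zpowers_le]
        refine ⟨(j.val : ℤ), ?_⟩
        change (DihedralGroup.r 1 : DihedralGroup n) ^ (j.val : ℤ) = _
        rw [zpow_natCast, DihedralGroup.r_one_pow, ZMod.natCast_zmod_val]
      have h2 : C = Subgroup.zpowers (DihedralGroup.r 1 : DihedralGroup n) := by
        apply Subgroup.eq_of_le_of_card_ge h1
        rw [hcard, Nat.card_zpowers, DihedralGroup.orderOf_r_one]
      rw [h2]
      refine ⟨(i.val : ℤ), ?_⟩
      change (DihedralGroup.r 1 : DihedralGroup n) ^ (i.val : ℤ) = _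
      rw [zpow_natCast, DihedralGroup.r_one_pow, ZMod.natCast_zmod_val]
    | sr i => exact DihedralGroup.sr_mul_self i
  | sr j =>
    have h1 : n = 2 := by
      rw [← hcard, hCz, Nat.card_zpowers, DihedralGroup.orderOf_sr]
    subst h1
    cases x with
    | r i =>
      clear hx
      rw [DihedralGroup.r_mul_r]
      revert i; decide
    | sr i => exact DihedralGroup.sr_mul_self i

open CfsgLib.LE in
theorem core_lemma {G : Type*} [Group G] [Finite G] (L T S D C : Subgroup G) (hL : pResidual 2 ↥L = ⊤)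
    (hTL : T ≤ L) (hS2 : IsPGroup 2 S) (hSsyl : ¬ 2 ∣ S.index) (hTS : T ≤ S)
    (hDS : D ≤ S) (hDih : ∃ n : ℕ, 2 ≤ n ∧ Nonempty (↥D ≃* DihedralGroup n)) (hDT : D ⊓ T = ⊥) (hTD : T ⊔ D = S) (hTDc : Nat.card T * Nat.card D = Nat.card S)
    (hCD : C ≤ D) (hC : IsCyclic ↥C) (hCi : C.relIndex D = 2)
    (h1 : ∀ x ∈ D, x ∉ C → orderOf x = 2 → ∀ g : G, g * x * g⁻¹ ∈ T ⊔ C → False)
    (h2 : ∀ c ∈ C, orderOf c = 2 → ∀ g : G, g * c * g⁻¹ ∈ T → False) :
    pResidual 2 G ⊓ S = T := by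
  classical
  haveI : Fact (Nat.Prime 2) := ⟨Nat.prime_two⟩
  set K := pResidual 2 G with hK
  have hLK : L ≤ K := by
    have h3 := map_pResidual_le_of (p := 2) L.subtype
    rw [hL, ← MonoidHom.range_eq_map, Subgroup.range_subtype] at h3
    exact h3
  have hTK : T ≤ K := hTL.trans hLK
  -- products
  have hprod : ∀ s ∈ S, ∃ t ∈ T, ∃ d ∈ D, s = t * d := by
    have hinj : Function.Injective (fun x : T × D => (⟨(x.1 : G) * x.2, mul_mem (hTS x.1.2) (hDS x.2.2)⟩ : S)) := by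
      rintro ⟨⟨t, ht⟩, ⟨d, hd⟩⟩ ⟨⟨t', ht'⟩, ⟨d', hd'⟩⟩ h
      have h3 : t * d = t' * d' := congrArg Subtype.val h
      have h4 : t'⁻¹ * t = d' * d⁻¹ := by
        calc t'⁻¹ * t = t'⁻¹ * (t * d) * d⁻¹ := by group
          _ = t'⁻¹ * (t' * d') * d⁻¹ := by rw [h3]
          _ = d' * d⁻¹ := by group
      have h5 : t'⁻¹ * t ∈ D ⊓ T := Subgroup.mem_inf.2 ⟨by rw [h4]; exact mul_mem hd' (inv_mem hd), mul_mem (inv_mem ht') ht⟩
      rw [hDT, Subgroup.mem_bot] at h5
      have h6 : t = t' := by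
        have := inv_mul_eq_one.1 h5
        exact this.symm
      have h7 : d = d' := by rw [h6] at h3; exact mul_left_cancel h3
      subst h6; subst h7; rfl
    have hbij : Function.Bijective (fun x : T × D => (⟨(x.1 : G) * x.2, mul_mem (hTS x.1.2) (hDS x.2.2)⟩ : S)) := by
      rw [Nat.bijective_iff_injective_and_card]
      exact ⟨hinj, by rw [Nat.card_prod, hTDc]⟩
    intro s hs
    obtain ⟨⟨t, d⟩, h⟩ := hbij.2 ⟨s, hs⟩
    exact ⟨t, t.2, d, d.2, (congrArg Subtype.val h).symm⟩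
  -- elements of D outside C
  have hDC : ∀ x ∈ D, x ∉ C → orderOf x = 2 := by
    obtain ⟨n, hn, ⟨e⟩⟩ := hDih
    intro x hxD hxC
    have h3 : e ⟨x, hxD⟩ * e ⟨x, hxD⟩ = 1 := by
      apply dih_sq n hn ((C.subgroupOf D).map e.toMonoidHom)
      · have e1 : C.subgroupOf D ≃* C := Subgroup.subgroupOfEquivOfLe hCD
        have e2 : C.subgroupOf D ≃* (C.subgroupOf D).map e.toMonoidHom := (C.subgroupOf D).equivMapOfInjective _ e.injective
        exact isCyclic_of_surjective (e1.symm.trans e2) (e1.symm.trans e2).surjective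
      · have h4 : ((C.subgroupOf D).map e.toMonoidHom).index = (C.subgroupOf D).index :=
          Subgroup.index_map_of_bijective e.bijective _
        rw [h4]; exact hCi
      · intro h
        obtain ⟨y, hy, hyx⟩ := h
        have : y = ⟨x, hxD⟩ := e.injective hyx
        rw [this] at hy
        exact hxC (Subgroup.mem_subgroupOf.1 hy)
    rw [← map_mul] at h3
    have h4 : (⟨x, hxD⟩ : D) * ⟨x, hxD⟩ = 1 := by
      apply e.injective
      rw [h3, map_one]
    have h5 : x * x = 1 := congrArg Subtype.val h4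
    apply orderOf_eq_prime
    · rw [pow_two]; exact h5
    · rintro rfl; exact hxC C.one_mem
  -- index of T ⊔ C in S
  have hTCS : T ⊔ C ≤ S := sup_le hTS (hCD.trans hDS)
  obtain ⟨x0, hx0D, hx0C⟩ : ∃ x ∈ D, x ∉ C := by
    by_contra hcon
    push Not at hcon
    have : C = D := le_antisymm hCD hcon
    rw [this, Subgroup.relIndex_self] at hCi
    omega
  have hx0 := hDC x0 hx0D hx0C
  have hcardD : Nat.card D = 2 * Nat.card C := by
    have := Subgroup.card_mul_index (C.subgroupOf D)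
    rw [Nat.card_congr (Subgroup.subgroupOfEquivOfLe hCD).toEquiv] at this
    have h3 : (C.subgroupOf D).index = 2 := hCi
    rw [h3] at this
    omega
  have hidx : (T ⊔ C).relIndex S = 2 := by
    have h3 := Subgroup.card_mul_index ((T ⊔ C).subgroupOf S)
    rw [Nat.card_congr (Subgroup.subgroupOfEquivOfLe hTCS).toEquiv] at h3
    have h4 : Nat.card T * Nat.card C ≤ Nat.card (T ⊔ C : Subgroup G) := by
      rw [← Nat.card_prod]
      refine Nat.card_le_card_of_injective (fun x : T × C => (⟨(x.1 : G) * x.2,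
        mul_mem (Subgroup.mem_sup_left x.1.2) (Subgroup.mem_sup_right x.2.2)⟩ : (T ⊔ C : Subgroup G))) ?_
      rintro ⟨⟨t, ht⟩, ⟨d, hd⟩⟩ ⟨⟨t', ht'⟩, ⟨d', hd'⟩⟩ h
      have h3 : t * d = t' * d' := congrArg Subtype.val h
      have h4 : t'⁻¹ * t = d' * d⁻¹ := by
        calc t'⁻¹ * t = t'⁻¹ * (t * d) * d⁻¹ := by group
          _ = t'⁻¹ * (t' * d') * d⁻¹ := by rw [h3]
          _ = d' * d⁻¹ := by group
      have h5 : t'⁻¹ * t ∈ D ⊓ T := Subgroup.mem_inf.2 ⟨by rw [h4]; exact hCD (mul_mem hd' (inv_mem hd)), mul_mem (inv_mem ht') ht⟩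
      rw [hDT, Subgroup.mem_bot] at h5
      have h6 : t = t' := by
        have := inv_mul_eq_one.1 h5
        exact this.symm
      have h7 : d = d' := by rw [h6] at h3; exact mul_left_cancel h3
      subst h6; subst h7; rfl
    have h5 : Nat.card S = 2 * (Nat.card T * Nat.card C) := by rw [← hTDc, hcardD]; ring
    have h6 : (T ⊔ C).relIndex S ≤ 2 := by
      have h7 : 0 < Nat.card T * Nat.card C := Nat.mul_pos Nat.card_pos Nat.card_pos
      have h8 : ((T ⊔ C).subgroupOf S).index = (T ⊔ C).relIndex S := rfl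
      rw [h8, h5] at h3
      by_contra hcon
      push Not at hcon
      nlinarith
    have h7 : (T ⊔ C).relIndex S ≠ 1 := by
      intro h
      rw [Subgroup.relIndex_eq_one] at h
      exact h1 x0 hx0D hx0C hx0 1 (by rw [one_mul, inv_one, mul_one]; exact h (hDS hx0D))
    have h8 : (T ⊔ C).relIndex S ≠ 0 := Subgroup.index_ne_zero_of_finite
    omega
  -- K ∩ D ≤ C
  have hKD : K ⊓ D ≤ C := by
    intro x hx
    by_contra hxC
    have hxD := (Subgroup.mem_inf.1 hx).2
    have hx2 := hDC x hxD hxC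
    obtain ⟨S', hS'⟩ : ∃ S' : Sylow 2 G, (S' : Subgroup G) = S := ⟨hS2.toSylow hSsyl, rfl⟩
    obtain ⟨N, hN, hNi, hxN⟩ := CfsgLib.ThompTrH12.thompson_transfer S' (T ⊔ C) (by rw [hS']; exact hidx) x hx2
      (fun g hg => h1 x hxD hxC hx2 g hg)
    apply hxN
    haveI := hN
    have h3 : pResidual 2 G ≤ N := pResidual_le_of_isPGroup (IsPGroup.of_card (n := 1) (by
      rw [← Subgroup.index_eq_card, hNi, pow_one]))
    exact h3 (Subgroup.mem_inf.1 hx).1
  -- K ∩ S = T (K ∩ C)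
  set C0 := K ⊓ C with hC0
  have hC0c : IsCyclic C0 := by
    haveI := hC
    exact isCyclic_of_injective (Subgroup.inclusion (inf_le_right : C0 ≤ C)) (Subgroup.inclusion_injective _)
  have hKS : ∀ s ∈ K ⊓ S, ∃ t ∈ T, ∃ c ∈ C0, s = t * c := by
    intro s hs
    obtain ⟨t, ht, d, hd, rfl⟩ := hprod s (Subgroup.mem_inf.1 hs).2
    have h3 : d ∈ K := by
      have := mul_mem (inv_mem (hTK ht)) (Subgroup.mem_inf.1 hs).1
      rwa [inv_mul_cancel_left] at this
    exact ⟨t, ht, d, Subgroup.mem_inf.2 ⟨h3, hKD (Subgroup.mem_inf.2 ⟨h3, hd⟩)⟩, rfl⟩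
  have hC0bot : C0 = ⊥ := by
    by_contra hne
    obtain ⟨⟨c, hc⟩, hgen⟩ := hC0c.exists_generator
    have hcK : c ∈ K := (Subgroup.mem_inf.1 hc).1
    have hcC : c ∈ C := (Subgroup.mem_inf.1 hc).2
    have hC0z : C0 = Subgroup.zpowers c := by
      apply le_antisymm
      · intro y hy
        obtain ⟨k, hk⟩ := hgen ⟨y, hy⟩
        exact ⟨k, congrArg Subtype.val hk⟩
      · rwa [Subgroup.zpowers_le]
    set m := orderOf c with hm
    have hcardC0 : Nat.card C0 = m := by rw [hC0z, Nat.card_zpowers]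
    have hm1 : m ≠ 1 := by
      intro h
      rw [hm, orderOf_eq_one_iff] at h
      apply hne
      rw [hC0z, h, Subgroup.zpowers_one_eq_bot]
    obtain ⟨j, hj⟩ : ∃ j, m = 2 ^ j := by
      obtain ⟨j, hj⟩ := IsPGroup.iff_orderOf.1 hS2 ⟨c, hDS (hCD hcC)⟩
      exact ⟨j, by rw [hm, ← hj, Subgroup.orderOf_mk]⟩
    have hj0 : j ≠ 0 := by rintro rfl; exact hm1 hj
    have hme : Even m := by rw [hj]; exact (Nat.even_pow.2 ⟨even_two, hj0⟩)
    have hm2 : 2 ≤ m := by
      rw [hj]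
      calc 2 = 2 ^ 1 := rfl
        _ ≤ 2 ^ j := Nat.pow_le_pow_right (by norm_num) (by omega)
    have hz2 : ∀ k, 0 < k → k < m → ∃ l : ℕ, orderOf ((c ^ k) ^ l) = 2 := by
      intro k hk hkm
      have h3 : c ^ k ≠ 1 := by
        intro h
        exact absurd (Nat.le_of_dvd hk (orderOf_dvd_of_pow_eq_one h)) (by rw [← hm]; omega)
      have h4 : orderOf (c ^ k) ∣ 2 ^ j := by rw [← hj, hm]; exact orderOf_pow_dvd k
      obtain ⟨i, hi, hi'⟩ := (Nat.dvd_prime_pow Nat.prime_two).1 h4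
      have hi0 : i ≠ 0 := by
        rintro rfl
        rw [pow_zero, orderOf_eq_one_iff] at hi'
        exact h3 hi'
      refine ⟨2 ^ (i - 1), ?_⟩
      rw [orderOf_pow_of_dvd (by positivity) (by rw [hi']; exact pow_dvd_pow 2 (by omega)), hi']
      have : 2 ^ i = 2 ^ (i - 1) * 2 := by rw [← pow_succ]; congr 1; omega
      rw [this, Nat.mul_div_cancel_left _ (by positivity)]
    have hfix : ∀ k, 0 < k → k < m → ∀ g : K, g⁻¹ * (⟨c, hcK⟩ : K) ^ k * g ∉ T.subgroupOf K := by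
      intro k hk hkm g hg
      obtain ⟨l, hl⟩ := hz2 k hk hkm
      have h3 : (g : G)⁻¹ * c ^ k * g ∈ T := Subgroup.mem_subgroupOf.1 hg
      apply h2 _ (pow_mem (pow_mem hcC k) l) hl (g : G)⁻¹
      have h4 := pow_mem h3 l
      have h5 : ((g : G)⁻¹ * c ^ k * g) ^ l = (g : G)⁻¹ * (c ^ k) ^ l * (g : G)⁻¹⁻¹ := by
        rw [← conj_pow, inv_inv]
      rwa [h5] at h4
    -- the index
    have hcardKS : Nat.card (K ⊓ S : Subgroup G) = Nat.card T * m := by
      rw [← hcardC0, ← Nat.card_prod]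
      symm
      refine Nat.card_eq_of_bijective (fun x : T × C0 => (⟨(x.1 : G) * x.2, Subgroup.mem_inf.2
        ⟨mul_mem (hTK x.1.2) (Subgroup.mem_inf.1 x.2.2).1,
          mul_mem (hTS x.1.2) (hDS (hCD (Subgroup.mem_inf.1 x.2.2).2))⟩⟩ : (K ⊓ S : Subgroup G))) ⟨?_, ?_⟩
      · rintro ⟨⟨t, ht⟩, ⟨d, hd⟩⟩ ⟨⟨t', ht'⟩, ⟨d', hd'⟩⟩ h
        have h3 : t * d = t' * d' := congrArg Subtype.val h
        have h4 : t'⁻¹ * t = d' * d⁻¹ := by
          calc t'⁻¹ * t = t'⁻¹ * (t * d) * d⁻¹ := by group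
            _ = t'⁻¹ * (t' * d') * d⁻¹ := by rw [h3]
            _ = d' * d⁻¹ := by group
        have h5 : t'⁻¹ * t ∈ D ⊓ T := Subgroup.mem_inf.2 ⟨by
          rw [h4]; exact hCD (mul_mem (Subgroup.mem_inf.1 hd').2 (inv_mem (Subgroup.mem_inf.1 hd).2)), mul_mem (inv_mem ht') ht⟩
        rw [hDT, Subgroup.mem_bot] at h5
        have h6 : t = t' := by
          have := inv_mul_eq_one.1 h5
          exact this.symm
        have h7 : d = d' := by rw [h6] at h3; exact mul_left_cancel h3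
        subst h6; subst h7; rfl
      · rintro ⟨s, hs⟩
        obtain ⟨t, ht, c', hc', e⟩ := hKS s hs
        exact ⟨⟨⟨t, ht⟩, ⟨c', hc'⟩⟩, Subtype.ext e.symm⟩
    have hKSodd : Odd ((K ⊓ S).relIndex K) := by
      have h3 : CfsgLib.FusionH12.SylIn 2 S ⊤ := ⟨le_top, hS2, by rw [Subgroup.relIndex_top_right]; exact hSsyl⟩
      have h4 := h3.inf_normal (N := K) le_top (by rw [Subgroup.normalizer_eq_top_iff.2 inferInstance])
      rw [inf_comm] at h4
      rw [← Nat.not_even_iff_odd]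
      intro h
      exact h4.idx h.two_dvd
    have hTidx : (T.subgroupOf K).index = m * (K ⊓ S).relIndex K := by
      have h3 := Subgroup.card_mul_index (T.subgroupOf K)
      rw [Nat.card_congr (Subgroup.subgroupOfEquivOfLe hTK).toEquiv] at h3
      have h4 := Subgroup.card_mul_index ((K ⊓ S).subgroupOf K)
      rw [Nat.card_congr (Subgroup.subgroupOfEquivOfLe (inf_le_left : K ⊓ S ≤ K)).toEquiv, hcardKS, ← h3] at h4
      have h5 : ((K ⊓ S).subgroupOf K).index = (K ⊓ S).relIndex K := rfl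
      rw [h5, mul_assoc] at h4
      exact (Nat.eq_of_mul_eq_mul_left Nat.card_pos h4).symm
    obtain ⟨N, hN, hNi, hcN⟩ := CfsgLib.SignH12.exists_index_two (T.subgroupOf K) (⟨c, hcK⟩ : K) m hm2 hme
      (Subtype.ext (by simp [hm, pow_orderOf_eq_one])) hfix (by
        rw [hTidx, Nat.mul_div_cancel_left _ (by omega)]; exact hKSodd)
    haveI := hN
    have h3 : pResidual 2 ↥K ≤ N := pResidual_le_of_isPGroup (IsPGroup.of_card (n := 1) (by
      rw [← Subgroup.index_eq_card, hNi, pow_one]))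
    have h4 : pResidual 2 ↥K = ⊤ := CfsgLib.Tate.pResidual_pResidual (G := G) 2
    rw [h4] at h3
    exact hcN (h3 (Subgroup.mem_top _))
  apply le_antisymm
  · intro s hs
    obtain ⟨t, ht, c, hc, rfl⟩ := hKS s hs
    rw [hC0bot, Subgroup.mem_bot] at hc
    rw [hc, mul_one]; exact ht
  · exact le_inf hTK hTS


/-- A consequence of Thompson's transfer lemma. Let G be a finite group, L a subgroup with O²(L) = L, T a Sylow 2-subgroup of L and S a Sylow 2-subgroup of G containing T. Suppose D ≤ S is a dihedral subgroup of order at least 4 (the four-group counts) with D ∩ T = 1 and S = TD as a set of products (so |S| = |T|·|D|), and C ≤ D is cyclic of index 2 in D. If no involution of D outside C is G-conjugate to an involution of the subgroup generated by T and C, and the involution of C is not G-conjugate to any involution of T, then G has a normal subgroup K, containing every Sylow 2-subgroup of L as a Sylow 2-subgroup, with G = KD. -/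
theorem result {G : Type*} [Group G] [Finite G] (L T S D C : Subgroup G) (hL : Cfsg.pResidual 2 ↥L = ⊤)
    (hTL : T ≤ L) (hT2 : IsPGroup 2 T) (hTsyl : ¬ 2 ∣ T.relIndex L)
    (hS2 : IsPGroup 2 S) (hSsyl : ¬ 2 ∣ S.index) (hTS : T ≤ S)
    (hDS : D ≤ S) (hDih : ∃ n : ℕ, 2 ≤ n ∧ Nonempty (↥D ≃* DihedralGroup n)) (hDT : D ⊓ T = ⊥) (hTD : T ⊔ D = S) (hTDc : Nat.card T * Nat.card D = Nat.card S)
    (hCD : C ≤ D) (hC : IsCyclic ↥C) (hCi : C.relIndex D = 2)
    (h1 : ∀ x ∈ D, x ∉ C → orderOf x = 2 → ∀ g : G, g * x * g⁻¹ ∈ T ⊔ C → False)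
    (h2 : ∀ c ∈ C, orderOf c = 2 → ∀ g : G, g * c * g⁻¹ ∈ T → False) :
    ∃ K : Subgroup G, K.Normal ∧ K ⊔ D = ⊤ ∧
      ∀ T' : Subgroup G, T' ≤ L → IsPGroup 2 T' → ¬ 2 ∣ T'.relIndex L → T' ≤ K ∧ ¬ 2 ∣ T'.relIndex K := by
  haveI : Fact (Nat.Prime 2) := ⟨Nat.prime_two⟩
  have hcore := core_lemma L T S D C hL hTL hS2 hSsyl hTS hDS hDih hDT hTD hTDc hCD hC hCi h1 h2
  have hLK : L ≤ pResidual 2 G := by
    have h3 := CfsgLib.LE.map_pResidual_le_of (p := 2) L.subtype
    rw [hL, ← MonoidHom.range_eq_map, Subgroup.range_subtype] at h3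
    exact h3
  have hTK : T ≤ pResidual 2 G := hTL.trans hLK
  have hsy : CfsgLib.FusionH12.SylIn 2 T (pResidual 2 G) := by
    have h3 : CfsgLib.FusionH12.SylIn 2 S ⊤ := ⟨le_top, hS2, by rw [Subgroup.relIndex_top_right]; exact hSsyl⟩
    have h4 := h3.inf_normal (N := pResidual 2 G) le_top (by rw [Subgroup.normalizer_eq_top_iff.2 inferInstance])
    rwa [inf_comm, hcore] at h4
  refine ⟨pResidual 2 G, inferInstance, ?_, ?_⟩
  · obtain ⟨S', hS'⟩ : ∃ S' : Sylow 2 G, (S' : Subgroup G) = S := ⟨hS2.toSylow hSsyl, rfl⟩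
    have h3 := CfsgLib.LE.pResidual_sup_sylow S'
    rw [eq_top_iff, ← h3, hS', ← hTD]
    exact sup_le le_sup_left (sup_le (hTK.trans le_sup_left) le_sup_right)
  · intro T' hT'L hT'2 hT's
    have h3 : CfsgLib.FusionH12.SylIn 2 T' L := ⟨hT'L, hT'2, hT's⟩
    have h4 : CfsgLib.FusionH12.SylIn 2 T L := ⟨hTL, hT2, hTsyl⟩
    exact ⟨hT'L.trans hLK, (hsy.of_card hT'2 (hT'L.trans hLK) (h4.card_eq h3).le).idx⟩

end Cfsg.Agent.S1924
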