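import Cfsg.Agent.EqBase
import Cfsg.Agent.LibThompTrH12
import Cfsg.Agent.LibFgSyl
import Cfsg.Agent.S1924

/-!
# Dihedral Sylow 2-subgroups: fusion of involutions (helper5)
-/
set_option autoImplicit false
set_option linter.all false
open scoped Pointwise
open Cfsg

namespace CfsgLib.FgDi

universe u v
open DihedralGroup

section A
variable {m : ℕ}

theorem half (m : ℕ) (i : ZMod (2 ^ m)) : ∃ j : ZMod (2 ^ m), i = 2 * j ∨ i = 2 * j + 1 := by
  haveI : NeZero (2 ^ m) := ⟨by positivity⟩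
  obtain ⟨k, hk | hk⟩ := Nat.even_or_odd' i.val
  · refine ⟨(k : ZMod (2 ^ m)), Or.inl ?_⟩
    rw [← ZMod.natCast_zmod_val i, hk]; push_cast; ring
  · refine ⟨(k : ZMod (2 ^ m)), Or.inr ?_⟩
    rw [← ZMod.natCast_zmod_val i, hk]; push_cast; ring

/-- the central rotation -/
def Z (m : ℕ) : DihedralGroup (2 ^ m) := r ((2 ^ (m - 1) : ℕ) : ZMod (2 ^ m))

theorem Z_mul_self (hm : 1 ≤ m) : Z m * Z m = 1 := by
  rw [Z, r_mul_r, ← Nat.cast_add, ← two_mul, ← pow_succ', Nat.sub_add_cancel hm, ZMod.natCast_self]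
  rfl

theorem Z_ne_one (hm : 1 ≤ m) : Z m ≠ 1 := by
  intro h
  have h1 : ((2 ^ (m - 1) : ℕ) : ZMod (2 ^ m)) = 0 := by
    have : (r ((2 ^ (m - 1) : ℕ) : ZMod (2 ^ m)) : DihedralGroup (2 ^ m)) = r 0 := h
    exact r.inj this
  rw [ZMod.natCast_eq_zero_iff] at h1
  have h2 := Nat.le_of_dvd (by positivity) h1
  have h3 : 2 ^ (m - 1) < 2 ^ m := Nat.pow_lt_pow_right (by norm_num) (by omega)
  omega

theorem eq_Z (hm : 1 ≤ m) {i : ZMod (2 ^ m)} (h : (r i : DihedralGroup (2 ^ m)) * r i = 1) (h1 : (r i : DihedralGroup (2 ^ m)) ≠ 1) :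
    r i = Z m := by
  haveI : NeZero (2 ^ m) := ⟨by positivity⟩
  have h2 : i + i = 0 := by
    rw [r_mul_r] at h
    have : (r (i + i) : DihedralGroup (2 ^ m)) = r 0 := h
    exact r.inj this
  have h3 : i ≠ 0 := by
    rintro rfl
    exact h1 rfl
  have h4 : ((i.val + i.val : ℕ) : ZMod (2 ^ m)) = 0 := by
    push_cast
    rw [ZMod.natCast_zmod_val]; exact h2
  rw [ZMod.natCast_eq_zero_iff] at h4
  have h5 := ZMod.val_lt i
  have h6 : i.val ≠ 0 := by
    intro h7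
    exact h3 ((ZMod.val_eq_zero i).mp h7)
  have h8 : i.val = 2 ^ (m - 1) := by
    obtain ⟨k, hk⟩ := h4
    have e : 2 ^ m = 2 * 2 ^ (m - 1) := by rw [← pow_succ', Nat.sub_add_cancel hm]
    obtain ⟨v, hv⟩ : ∃ v, v = i.val := ⟨_, rfl⟩
    rw [← hv] at hk h5 h6 ⊢
    rw [e] at hk h5
    have hp : 0 < 2 ^ (m - 1) := by positivity
    have hk1 : v = 2 ^ (m - 1) * k := by
      have : 2 * v = 2 * (2 ^ (m - 1) * k) := by rw [two_mul, hk]; ring
      omega
    have hk2 : k < 2 := by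
      by_contra hcon
      push Not at hcon
      nlinarith
    have hk3 : k ≠ 0 := by
      rintro rfl
      apply h6; rw [hk1, mul_zero]
    have hk4 : k = 1 := by omega
    rw [hk1, hk4, mul_one]
  rw [Z, ← h8, ZMod.natCast_zmod_val]

theorem sr_conj (i j : ZMod (2 ^ m)) : (r j : DihedralGroup (2 ^ m)) * sr i * (r j)⁻¹ = sr (i - 2 * j) := by
  have hinv : (r j : DihedralGroup (2 ^ m))⁻¹ = r (-j) := by
    rw [inv_eq_iff_mul_eq_one, r_mul_r, add_neg_cancel]; rfl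
  rw [hinv, r_mul_sr, sr_mul_r]
  congr 1; ring

theorem sr_isConj_even (j : ZMod (2 ^ m)) : IsConj (sr (2 * j) : DihedralGroup (2 ^ m)) (sr 0) := by
  rw [isConj_iff]
  exact ⟨r j, by rw [sr_conj, sub_self]⟩

theorem sr_isConj_odd (j : ZMod (2 ^ m)) : IsConj (sr (2 * j + 1) : DihedralGroup (2 ^ m)) (sr 1) := by
  rw [isConj_iff]
  exact ⟨r j, by rw [sr_conj]; congr 1; ring⟩

theorem inv_cases (hm : 1 ≤ m) {d : DihedralGroup (2 ^ m)} (h : d * d = 1) (h1 : d ≠ 1) :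
    d = Z m ∨ IsConj d (sr 0) ∨ IsConj d (sr 1) := by
  rcases d with i | i
  · exact Or.inl (eq_Z hm h h1)
  · right
    obtain ⟨j, rfl | rfl⟩ := half m i
    · exact Or.inl (sr_isConj_even j)
    · exact Or.inr (sr_isConj_odd j)

/-- parity of a residue modulo a power of 2 -/
theorem two_mul_ne (hm : 1 ≤ m) (j : ZMod (2 ^ m)) : (2 * j : ZMod (2 ^ m)) ≠ 1 := by
  intro h
  have h2 : (2 : ℕ) ∣ 2 ^ m := dvd_pow_self 2 (by omega)
  have h3 := congrArg (ZMod.castHom h2 (ZMod 2)) h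
  rw [map_mul, map_one, map_ofNat] at h3
  have h4 : (2 : ZMod 2) = 0 := by decide
  rw [h4, zero_mul] at h3
  exact absurd h3 (by decide)

theorem not_conj (hm : 1 ≤ m) : ¬ IsConj (sr 0 : DihedralGroup (2 ^ m)) (sr 1) := by
  rw [isConj_iff]
  rintro ⟨c, hc⟩
  rcases c with j | j
  · rw [sr_conj] at hc
    have h1 := sr.inj hc
    exact two_mul_ne hm (-j) (by rw [← h1]; ring)
  · have hinv : (sr j : DihedralGroup (2 ^ m))⁻¹ = sr j := by
      rw [inv_eq_iff_mul_eq_one, sr_mul_self]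
    rw [hinv, sr_mul_sr, r_mul_sr] at hc
    have h1 := sr.inj hc
    exact two_mul_ne hm j (by rw [← h1]; ring)

/-- the maximal subgroup of type `t` : rotations by even amounts and `sr (t + 2 j)` -/
def Mt (m : ℕ) (t : ZMod (2 ^ m)) : Subgroup (DihedralGroup (2 ^ m)) where
  carrier := {d | (∃ j, d = r (2 * j)) ∨ ∃ j, d = sr (t + 2 * j)}
  one_mem' := Or.inl ⟨0, by rw [mul_zero]; rfl⟩
  mul_mem' := by
    rintro a b (⟨j, rfl⟩ | ⟨j, rfl⟩) (⟨k, rfl⟩ | ⟨k, rfl⟩)
    · left; exact ⟨j + k, by rw [r_mul_r]; congr 1; ring⟩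
    · right; exact ⟨k - j, by rw [r_mul_sr]; congr 1; ring⟩
    · right; exact ⟨j + k, by rw [sr_mul_r]; congr 1; ring⟩
    · left; exact ⟨k - j, by rw [sr_mul_sr]; congr 1; ring⟩
  inv_mem' := by
    rintro a (⟨j, rfl⟩ | ⟨j, rfl⟩)
    · left
      refine ⟨-j, ?_⟩
      rw [inv_eq_iff_mul_eq_one, r_mul_r]
      have : 2 * j + 2 * -j = 0 := by ring
      rw [this]; rfl
    · right
      refine ⟨j, ?_⟩
      rw [inv_eq_iff_mul_eq_one, sr_mul_self]

theorem mem_Mt {t : ZMod (2 ^ m)} {d : DihedralGroup (2 ^ m)} : d ∈ Mt m t ↔ (∃ j, d = r (2 * j)) ∨ ∃ j, d = sr (t + 2 * j) := Iff.rfl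

theorem r_mul_mem_Mt {t : ZMod (2 ^ m)} (d : DihedralGroup (2 ^ m)) : d ∈ Mt m t ∨ r 1 * d ∈ Mt m t := by
  rcases d with i | i
  · obtain ⟨j, rfl | rfl⟩ := half m i
    · exact Or.inl (Or.inl ⟨j, rfl⟩)
    · right; left
      exact ⟨j + 1, by rw [r_mul_r]; congr 1; ring⟩
  · obtain ⟨j, hj | hj⟩ := half m (i - t)
    · left; right
      exact ⟨j, by rw [← hj]; congr 1; ring⟩
    · right; right
      refine ⟨j, ?_⟩
      rw [r_mul_sr]
      congr 1
      have : i = t + (2 * j + 1) := by rw [← hj]; ring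
      rw [this]; ring

theorem Mt_index (hm : 1 ≤ m) (t : ZMod (2 ^ m)) : (Mt m t).index = 2 := by
  rw [Subgroup.index_eq_two_iff]
  refine ⟨r 1, fun b => ?_⟩
  have hr1 : (r 1 : DihedralGroup (2 ^ m)) ∉ Mt m t := by
    rintro (⟨j, hj⟩ | ⟨j, hj⟩)
    · exact two_mul_ne hm j (r.inj hj).symm
    · cases hj
  by_cases hb : b ∈ Mt m t
  · right
    refine ⟨hb, fun h => hr1 ?_⟩
    have := mul_mem (inv_mem hb) h
    rwa [inv_mul_cancel_left] at this
  · left
    refine ⟨?_, hb⟩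
    have h1 := (r_mul_mem_Mt (t := t) b⁻¹).resolve_left (fun h => hb (by rw [← inv_inv b]; exact inv_mem h))
    have h2 := inv_mem h1
    have e : (r 1 * b⁻¹)⁻¹ = b * (r 1 : DihedralGroup (2 ^ m))⁻¹ := by group
    rw [e] at h2
    have h3 : (r 1 * r 1 : DihedralGroup (2 ^ m)) ∈ Mt m t := Or.inl ⟨1, by rw [r_mul_r]; congr 1; ring⟩
    have h4 := mul_mem h2 h3
    have e2 : b * (r 1 : DihedralGroup (2 ^ m))⁻¹ * (r 1 * r 1) = b * r 1 := by group
    rwa [e2] at h4

end A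
section B
variable {G : Type u} [Group G] [Finite G] {m : ℕ} (hm : 2 ≤ m) (P : Sylow 2 G) (φ : DihedralGroup (2 ^ m) →* G)
  (hφ : Function.Injective φ) (hr : φ.range = (P : Subgroup G))

include hm hφ hr

theorem inv_cases_G {g : G} (hg : orderOf g = 2) :
    IsConj g (φ (Z m)) ∨ IsConj g (φ (sr 0)) ∨ IsConj g (φ (sr 1)) := by
  haveI : Fact (Nat.Prime 2) := ⟨Nat.prime_two⟩
  have h1 : IsPGroup 2 (Subgroup.zpowers g) := IsPGroup.of_card (n := 1) (by rw [Nat.card_zpowers, hg, pow_one])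
  obtain ⟨T, hT⟩ := h1.exists_le_sylow
  obtain ⟨c, hc⟩ := MulAction.exists_smul_eq G T P
  have h2 : c * g * c⁻¹ ∈ (P : Subgroup G) := by
    rw [← hc, CfsgLib.FgSyl.mem_smul_iff]
    have e : c⁻¹ * (c * g * c⁻¹) * c = g := by group
    rw [e]
    exact hT (Subgroup.mem_zpowers g)
  rw [← hr] at h2
  obtain ⟨d, hd⟩ := h2
  have hod : orderOf (φ d) = 2 := by
    rw [hd]
    have := (MulAut.conj c).orderOf_eq g
    rw [hg] at this
    exact this
  rw [orderOf_injective φ hφ] at hod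
  have h3 : d * d = 1 := by
    have := pow_orderOf_eq_one d
    rwa [hod, pow_two] at this
  have h4 : d ≠ 1 := by
    rintro rfl
    rw [orderOf_one] at hod
    exact absurd hod (by norm_num)
  have h5 : IsConj g (φ d) := by
    rw [hd]
    exact isConj_iff.mpr ⟨c, rfl⟩
  rcases inv_cases (by omega) h3 h4 with h | h | h
  · left; rw [← h]; exact h5
  · right; left; exact h5.trans (φ.map_isConj h)
  · right; right; exact h5.trans (φ.map_isConj h)

theorem ord_Z : orderOf (φ (Z m)) = 2 := by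
  rw [orderOf_injective φ hφ]
  exact orderOf_eq_prime (by rw [pow_two]; exact Z_mul_self (by omega)) (Z_ne_one (by omega))

theorem ord_sr (i : ZMod (2 ^ m)) : orderOf (φ (sr i)) = 2 := by
  rw [orderOf_injective φ hφ, orderOf_sr]

theorem classes : {C : ConjClasses G | ∃ g : G, ConjClasses.mk g = C ∧ orderOf g = 2} =
    {ConjClasses.mk (φ (Z m)), ConjClasses.mk (φ (sr 0)), ConjClasses.mk (φ (sr 1))} := by
  ext C
  simp only [Set.mem_setOf_eq, Set.mem_insert_iff, Set.mem_singleton_iff]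
  constructor
  · rintro ⟨g, rfl, hg⟩
    rw [ConjClasses.mk_eq_mk_iff_isConj, ConjClasses.mk_eq_mk_iff_isConj, ConjClasses.mk_eq_mk_iff_isConj]
    exact inv_cases_G hm P φ hφ hr hg
  · rintro (rfl | rfl | rfl)
    · exact ⟨_, rfl, ord_Z hm P φ hφ hr⟩
    · exact ⟨_, rfl, ord_sr hm P φ hφ hr _⟩
    · exact ⟨_, rfl, ord_sr hm P φ hφ hr _⟩

/-- `φ (r (2 j))` is in every normal subgroup with commutative quotient -/
theorem r_mem {N : Subgroup G} (hN : N.Normal) (hab : ∀ a b : G ⧸ N, a * b = b * a) (j : ZMod (2 ^ m)) :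
    φ (r (2 * j)) ∈ N := by
  haveI : NeZero (2 ^ m) := ⟨by positivity⟩
  have h1 : φ (r 2) ∈ N := by
    have e : (r 2 : DihedralGroup (2 ^ m)) = r 1 * sr 0 * (r 1)⁻¹ * (sr 0)⁻¹ := by
      have hinv : (sr 0 : DihedralGroup (2 ^ m))⁻¹ = sr 0 := by
        rw [inv_eq_iff_mul_eq_one, sr_mul_self]
      rw [sr_conj, hinv, sr_mul_sr]
      congr 1; ring
    rw [e, map_mul, map_mul, map_mul, map_inv, map_inv, ← QuotientGroup.eq_one_iff]
    rw [QuotientGroup.mk_mul, QuotientGroup.mk_mul, QuotientGroup.mk_mul, QuotientGroup.mk_inv, QuotientGroup.mk_inv,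
      hab (φ (r 1)) (φ (sr 0)), mul_inv_cancel_right, mul_inv_cancel]
  have e : (r (2 * j) : DihedralGroup (2 ^ m)) = (r 2) ^ j.val := by
    have hpow : ∀ k : ℕ, (r 2 : DihedralGroup (2 ^ m)) ^ k = r (2 * (k : ZMod (2 ^ m))) := by
      intro k
      induction k with
      | zero => rw [pow_zero, Nat.cast_zero, mul_zero]; rfl
      | succ k ih => rw [pow_succ, ih, r_mul_r]; congr 1; push_cast; ring
    rw [hpow, ZMod.natCast_zmod_val]
  rw [e, map_pow]
  exact pow_mem h1 _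

theorem Z_mem {N : Subgroup G} (hN : N.Normal) (hab : ∀ a b : G ⧸ N, a * b = b * a) : φ (Z m) ∈ N := by
  have e : (Z m : DihedralGroup (2 ^ m)) = r (2 * ((2 ^ (m - 2) : ℕ) : ZMod (2 ^ m))) := by
    rw [Z]
    congr 1
    have : (2 ^ (m - 1) : ℕ) = 2 * 2 ^ (m - 2) := by
      rw [← pow_succ']; congr 1; omega
    rw [this]; push_cast; ring
  rw [e]
  exact r_mem hm P φ hφ hr hN hab _

theorem Mt_le {N : Subgroup G} (hN : N.Normal) (hab : ∀ a b : G ⧸ N, a * b = b * a) {t : ZMod (2 ^ m)}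
    (ht : IsConj (φ (Z m)) (φ (sr t))) : Mt m t ≤ N.comap φ := by
  rintro d (⟨j, rfl⟩ | ⟨j, rfl⟩)
  · exact r_mem hm P φ hφ hr hN hab j
  · have h1 : φ (sr t) ∈ N := by
      obtain ⟨c, hc⟩ := isConj_iff.mp ht
      rw [← hc]
      exact hN.conj_mem _ (Z_mem hm P φ hφ hr hN hab) c
    have e : (sr (t + 2 * j) : DihedralGroup (2 ^ m)) = sr t * r (2 * j) := by rw [sr_mul_r]
    rw [Subgroup.mem_comap, e, map_mul]
    exact mul_mem h1 (r_mem hm P φ hφ hr hN hab j)

theorem no_index_two (h0 : IsConj (φ (Z m)) (φ (sr 0))) (h1 : IsConj (φ (Z m)) (φ (sr 1))) (N : Subgroup G)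
    (hN : N.Normal) : N.index ≠ 2 := by
  haveI : Fact (Nat.Prime 2) := ⟨Nat.prime_two⟩
  intro hidx
  have hab : ∀ a b : G ⧸ N, a * b = b * a := by
    intro a b
    haveI : IsCyclic (G ⧸ N) := isCyclic_of_prime_card (p := 2) (by rw [← Subgroup.index_eq_card]; exact hidx)
    exact (inferInstance : IsCyclic (G ⧸ N)).isMulCommutative.is_comm.comm a b
  have h2 := Mt_le hm P φ hφ hr hN hab h0
  have h3 := Mt_le hm P φ hφ hr hN hab h1
  have hs0 : (sr 0 : DihedralGroup (2 ^ m)) ∈ N.comap φ := h2 (Or.inr ⟨0, by congr 1; ring⟩)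
  have hs1 : (sr 1 : DihedralGroup (2 ^ m)) ∈ N.comap φ := h3 (Or.inr ⟨0, by congr 1; ring⟩)
  have hr1 : (r 1 : DihedralGroup (2 ^ m)) ∈ N.comap φ := by
    have := mul_mem hs0 hs1
    rwa [sr_mul_sr, sub_zero] at this
  have htop : ∀ d : DihedralGroup (2 ^ m), d ∈ N.comap φ := by
    intro d
    rcases r_mul_mem_Mt (t := 0) d with h | h
    · exact h2 h
    · have := mul_mem (inv_mem hr1) (h2 h)
      rwa [inv_mul_cancel_left] at this
  have hPN : (P : Subgroup G) ≤ N := by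
    rw [← hr]
    rintro _ ⟨d, rfl⟩
    exact htop d
  exact CfsgLib.FgSyl.not_dvd_index_of_le P hPN (by rw [hidx])

theorem no_index_four {t : ZMod (2 ^ m)} (ht : IsConj (φ (Z m)) (φ (sr t))) (N : Subgroup G)
    (hN : N.Normal) : N.index ≠ 4 := by
  haveI : Fact (Nat.Prime 2) := ⟨Nat.prime_two⟩
  intro hidx
  have hcard : Nat.card (G ⧸ N) = 2 ^ 2 := by rw [← Subgroup.index_eq_card, hidx]; norm_num
  have hab : ∀ a b : G ⧸ N, a * b = b * a := by
    intro a b
    have := IsPGroup.commutative_of_card_eq_prime_sq hcard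
    first
      | exact this.comm a b
      | exact this a b
  have h2 := Mt_le hm P φ hφ hr hN hab ht
  have h3 : ((QuotientGroup.mk' N).comp φ).ker.index ∣ 2 := by
    refine dvd_trans (Subgroup.index_dvd_of_le ?_) (Mt_index (show 1 ≤ m by omega) t).dvd
    intro d hd
    rw [MonoidHom.mem_ker]
    exact (QuotientGroup.eq_one_iff (φ d)).mpr (h2 hd)
  rw [Subgroup.index_ker] at h3
  have h4 : ((QuotientGroup.mk' N).comp φ).range = (P : Subgroup G).map (QuotientGroup.mk' N) := by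
    rw [MonoidHom.range_comp, hr]
  rw [h4] at h3
  have h5 : ¬ 2 ∣ ((P : Subgroup G).map (QuotientGroup.mk' N)).index := fun h =>
    P.not_dvd_index (h.trans (Subgroup.index_map_dvd _ (QuotientGroup.mk'_surjective N)))
  have h6 := Subgroup.card_mul_index ((P : Subgroup G).map (QuotientGroup.mk' N))
  rw [hcard] at h6
  have h7 : ((P : Subgroup G).map (QuotientGroup.mk' N)).index ∣ 2 ^ 2 := ⟨_, by rw [mul_comm]; exact h6.symm⟩
  obtain ⟨k, hk, hk2⟩ := (Nat.dvd_prime_pow Nat.prime_two).mp h7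
  rcases Nat.eq_zero_or_pos k with h0 | h0
  · rw [hk2, h0, pow_zero, mul_one] at h6
    rw [h6] at h3
    exact absurd (Nat.le_of_dvd (by norm_num) h3) (by norm_num)
  · apply h5
    rw [hk2]
    exact dvd_pow_self 2 h0.ne'

theorem exists_index_two {t t' : ZMod (2 ^ m)} (htt : ∀ i : ZMod (2 ^ m), (∃ j, i = t + 2 * j) ∨ ∃ j, i = t' + 2 * j)
    (ht : IsConj (φ (Z m)) (φ (sr t))) (ht' : ¬ IsConj (φ (Z m)) (φ (sr t'))) : ∃ N : Subgroup G, N.Normal ∧ N.index = 2 := by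
  obtain ⟨N, h1, h2, -⟩ := CfsgLib.ThompTrH12.thompson_transfer P ((Mt m t).map φ) (by
    rw [← hr, MonoidHom.range_eq_map]
    have h3 : ((Mt m t).map φ).relIndex ((⊤ : Subgroup (DihedralGroup (2 ^ m))).map φ) = (Mt m t).relIndex ⊤ := by
      rw [Subgroup.relIndex_map_map_of_injective _ _ hφ]
    rw [h3, Subgroup.relIndex_top_right, Mt_index (by omega)]) (φ (sr t')) (ord_sr hm P φ hφ hr _) (by
    rintro g ⟨d, hd, hgd⟩
    have hconj : IsConj (φ d) (φ (sr t')) := by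
      rw [hgd]
      exact (isConj_iff.mpr ⟨g, rfl⟩ : IsConj (φ (sr t')) (g * φ (sr t') * g⁻¹)).symm
    apply ht'
    have hod : orderOf d = 2 := by
      rw [← orderOf_injective φ hφ, hgd]
      exact ((MulAut.conj g).orderOf_eq (φ (sr t'))).trans (ord_sr hm P φ hφ hr t')
    have hdd : d * d = 1 := by
      have := pow_orderOf_eq_one d
      rwa [hod, pow_two] at this
    have hd1 : d ≠ 1 := by
      rintro rfl
      rw [orderOf_one] at hod
      exact absurd hod (by norm_num)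
    rcases hd with ⟨j, rfl⟩ | ⟨j, rfl⟩
    · rw [eq_Z (by omega) hdd hd1] at hconj
      exact hconj
    · have h4 : IsConj (sr t : DihedralGroup (2 ^ m)) (sr (t + 2 * j)) := by
        rw [isConj_iff]
        exact ⟨r (-j), by rw [sr_conj]; congr 1; ring⟩
      exact (ht.trans (φ.map_isConj h4)).trans hconj)
  exact ⟨N, h1, h2⟩

theorem complement (h0 : ¬ IsConj (φ (Z m)) (φ (sr 0))) (h1 : ¬ IsConj (φ (Z m)) (φ (sr 1))) :
    Cfsg.HasNormalPComplement 2 G ∧ ¬ IsConj (φ (sr 0)) (φ (sr 1)) := by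
  haveI : Fact (Nat.Prime 2) := ⟨Nat.prime_two⟩
  haveI : NeZero (2 ^ m) := ⟨by positivity⟩
  have hPe : Nonempty ((P : Subgroup G) ≃* DihedralGroup (2 ^ m)) := by
    rw [← hr]
    exact ⟨(MonoidHom.ofInjective hφ).symm⟩
  have hCmem : ∀ x, x ∈ Subgroup.zpowers (φ (r 1)) ↔ ∃ i : ZMod (2 ^ m), x = φ (r i) := by
    intro x
    rw [Subgroup.mem_zpowers_iff]
    constructor
    · rintro ⟨k, rfl⟩
      exact ⟨(k : ZMod (2 ^ m)), by rw [← map_zpow, r_one_zpow]⟩
    · rintro ⟨i, rfl⟩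
      exact ⟨(i.val : ℤ), by rw [← map_zpow, zpow_natCast, r_one_pow, ZMod.natCast_zmod_val]⟩
  have key : ∀ x : G, x ∈ Subgroup.zpowers (φ (r 1)) → orderOf x = 2 → x = φ (Z m) := by
    intro x hx hox
    obtain ⟨i, rfl⟩ := (hCmem x).mp hx
    rw [orderOf_injective φ hφ] at hox
    have hdd : (r i : DihedralGroup (2 ^ m)) * r i = 1 := by
      have := pow_orderOf_eq_one (r i : DihedralGroup (2 ^ m))
      rwa [hox, pow_two] at this
    have hd1 : (r i : DihedralGroup (2 ^ m)) ≠ 1 := by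
      intro h
      rw [h, orderOf_one] at hox
      exact absurd hox (by norm_num)
    rw [eq_Z (by omega) hdd hd1]
  have hCi : (Subgroup.zpowers (φ (r 1))).relIndex (P : Subgroup G) = 2 := by
    have h2 : Nat.card (P : Subgroup G) = 2 * 2 ^ m := by
      obtain ⟨e⟩ := hPe
      rw [Nat.card_congr e.toEquiv, DihedralGroup.nat_card]
    have h3 : Nat.card (Subgroup.zpowers (φ (r 1))) = 2 ^ m := by
      rw [Nat.card_zpowers, orderOf_injective φ hφ, orderOf_r_one]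
    have h4 : Subgroup.zpowers (φ (r 1)) ≤ (P : Subgroup G) := by
      rw [← hr, Subgroup.zpowers_le]
      exact ⟨_, rfl⟩
    have h5 := Subgroup.relIndex_mul_index h4
    have h6 := Subgroup.card_mul_index (Subgroup.zpowers (φ (r 1)))
    have h7 := Subgroup.card_mul_index (P : Subgroup G)
    rw [← h5, h3] at h6
    rw [h2] at h7
    have h8 : 2 ^ m * (Subgroup.zpowers (φ (r 1))).relIndex (P : Subgroup G) * (P : Subgroup G).index =
      2 ^ m * 2 * (P : Subgroup G).index := by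
      rw [mul_assoc, h6, ← h7]; ring
    have h9 := Nat.eq_of_mul_eq_mul_right (Nat.pos_of_ne_zero Subgroup.index_ne_zero_of_finite) h8
    exact Nat.eq_of_mul_eq_mul_left (by positivity) h9
  obtain ⟨K, hKn, hKP, hKT⟩ := Cfsg.Agent.S1924.result (⊥ : Subgroup G) ⊥ (P : Subgroup G) (P : Subgroup G)
    (Subgroup.zpowers (φ (r 1))) (Subsingleton.elim _ _) le_rfl (IsPGroup.of_bot) (by
      rw [Subgroup.relIndex_self]; norm_num) P.isPGroup' P.not_dvd_index bot_le le_rfl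
    ⟨2 ^ m, by
      have : 2 ^ 2 ≤ 2 ^ m := Nat.pow_le_pow_right (by norm_num) hm
      omega, hPe⟩ (inf_bot_eq _) (bot_sup_eq _) (by rw [Subgroup.card_bot, one_mul]) (by
      rw [← hr, Subgroup.zpowers_le]
      exact ⟨_, rfl⟩) inferInstance hCi
    (by
      intro x hx hxC hox g hg
      rw [bot_sup_eq] at hg
      have hog : orderOf (g * x * g⁻¹) = 2 := by
        rw [← hox]; exact (MulAut.conj g).orderOf_eq x
      have h2 := key _ hg hog
      have h3 : IsConj (φ (Z m)) x := by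
        rw [← h2]
        exact (isConj_iff.mpr ⟨g, rfl⟩ : IsConj x (g * x * g⁻¹)).symm
      rw [← hr] at hx
      obtain ⟨d, rfl⟩ := hx
      rcases d with i | i
      · exact hxC ((hCmem _).mpr ⟨i, rfl⟩)
      · obtain ⟨j, rfl | rfl⟩ := half m i
        · exact h0 (h3.trans (φ.map_isConj (sr_isConj_even j)))
        · exact h1 (h3.trans (φ.map_isConj (sr_isConj_odd j))))
    (by
      intro c _ hoc g hg
      rw [Subgroup.mem_bot] at hg
      have hog : orderOf (g * c * g⁻¹) = 2 := by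
        rw [← hoc]; exact (MulAut.conj g).orderOf_eq c
      rw [hg, orderOf_one] at hog
      exact absurd hog (by norm_num))
  have hKodd : ¬ 2 ∣ Nat.card K := by
    have := (hKT ⊥ le_rfl (IsPGroup.of_bot) (by rw [Subgroup.relIndex_self]; norm_num)).2
    rwa [Subgroup.relIndex_bot_left] at this
  have hdisj : ∀ x, x ∈ K → x ∈ (P : Subgroup G) → x = 1 := by
    intro x hxK hxP
    obtain ⟨k, hk⟩ := IsPGroup.iff_orderOf.mp P.isPGroup' ⟨x, hxP⟩
    rw [Subgroup.orderOf_mk] at hk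
    have h2 : orderOf x ∣ Nat.card K := by
      rw [← Subgroup.orderOf_mk x hxK]; exact orderOf_dvd_natCard _
    rcases Nat.eq_zero_or_pos k with h3 | h3
    · rw [← orderOf_eq_one_iff, hk, h3, pow_zero]
    · exfalso
      apply hKodd
      refine dvd_trans ?_ h2
      rw [hk]; exact dvd_pow_self 2 h3.ne'
  have hcompl : Subgroup.IsComplement' K (P : Subgroup G) := by
    apply Subgroup.isComplement'_of_disjoint_and_mul_eq_univ
    · rw [disjoint_iff, eq_bot_iff]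
      intro x hx
      obtain ⟨h2, h3⟩ := Subgroup.mem_inf.mp hx
      rw [Subgroup.mem_bot]; exact hdisj x h2 h3
    · rw [← Subgroup.normal_mul, hKP]; rfl
  refine ⟨⟨P, K, hKn, hcompl⟩, ?_⟩
  intro hcon
  obtain ⟨g, hg⟩ := isConj_iff.mp hcon
  obtain ⟨k, hk, y, hy, hky⟩ : ∃ k ∈ K, ∃ y ∈ (P : Subgroup G), k * y = g := by
    have : g ∈ K ⊔ (P : Subgroup G) := by rw [hKP]; trivial
    rw [← SetLike.mem_coe, Subgroup.normal_mul] at this
    obtain ⟨k, hk, y, hy, h2⟩ := this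
    exact ⟨k, hk, y, hy, h2⟩
  have hyP := hy
  rw [← hr] at hy
  obtain ⟨d, rfl⟩ := hy
  apply not_conj (show 1 ≤ m by omega)
  rw [isConj_iff]
  refine ⟨d, hφ ?_⟩
  have h2 : φ (d * sr 0 * d⁻¹) * (φ (sr 1))⁻¹ = 1 := by
    apply hdisj
    · have e : φ (d * sr 0 * d⁻¹) = k⁻¹ * φ (sr 1) * k := by
        rw [map_mul, map_mul, map_inv, ← hg, ← hky]; group
      rw [e]
      have h3 := hKn.conj_mem k hk (φ (sr 1))
      have h4 := mul_mem (inv_mem hk) h3
      convert h4 using 1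
      group
    · rw [← hr]
      refine mul_mem ⟨_, rfl⟩ (inv_mem ⟨_, rfl⟩)
  rw [mul_inv_eq_one] at h2
  exact h2

end B
end CfsgLib.FgDi
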