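import Cfsg.Agent.LibFgZip
import Mathlib

/-!
Iterated conjugation sets: `D a 0 = {g a g⁻¹}`, `D a (k+1) = {d a d⁻¹ | d ∈ D a k}`.
If the normal closure of `a` is the whole finite group then `D a k` generates, for every `k`.
-/

set_option autoImplicit false
set_option linter.style.haveILetI false

universe u

namespace CfsgLib.FgEngel

open CfsgLib.FgSub CfsgLib.FgZip

/-- iterated conjugates -/
def D {G : Type u} [Group G] (a : G) (k : ℕ) : Set G :=
  Nat.rec (Set.range (fun g : G => g * a * g⁻¹)) (fun _ S => (fun d : G => d * a * d⁻¹) '' S) k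

theorem D_zero {G : Type u} [Group G] (a : G) : D a 0 = Set.range (fun g : G => g * a * g⁻¹) := rfl

theorem D_succ {G : Type u} [Group G] (a : G) (k : ℕ) :
    D a (k + 1) = (fun d : G => d * a * d⁻¹) '' D a k := rfl

theorem self_mem_D {G : Type u} [Group G] (a : G) (k : ℕ) : a ∈ D a k := by
  induction k with
  | zero => rw [D_zero]; exact ⟨1, by simp⟩
  | succ k ih => rw [D_succ]; exact ⟨a, ih, by simp⟩

theorem map_D {G H : Type u} [Group G] [Group H] (f : H →* G) (a : H) (k : ℕ) :
    f '' (D a k) ⊆ D (f a) k := by
  induction k with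
  | zero =>
    rintro _ ⟨_, ⟨g, rfl⟩, rfl⟩
    exact ⟨f g, by simp⟩
  | succ k ih =>
    rintro _ ⟨_, ⟨d, hd, rfl⟩, rfl⟩
    exact ⟨f d, ih ⟨d, hd, rfl⟩, by simp⟩

theorem normalClosure_zpowers {G : Type u} [Group G] (a : G) :
    Subgroup.normalClosure (Subgroup.zpowers a : Set G) = Subgroup.normalClosure {a} := by
  apply le_antisymm
  · apply Subgroup.normalClosure_le_normal
    intro x hx
    have : Subgroup.zpowers a ≤ Subgroup.normalClosure {a} := by
      rw [Subgroup.zpowers_le]
      exact Subgroup.subset_normalClosure rfl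
    exact this hx
  · apply Subgroup.normalClosure_mono
    rintro x rfl
    exact Subgroup.mem_zpowers _

theorem closure_D (n : ℕ) : ∀ (G : Type u) [Group G] [Finite G], Nat.card G = n → ∀ a : G,
    Subgroup.normalClosure {a} = ⊤ → ∀ k, Subgroup.closure (D a k) = ⊤ := by
  induction n using Nat.strong_induction_on with
  | _ n IH =>
    intro G _ _ hn a ha k
    induction k with
    | zero =>
      rw [← ha, Subgroup.normalClosure, D_zero]
      congr 1
      ext x
      rw [Group.mem_conjugatesOfSet_iff]
      constructor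
      · rintro ⟨g, rfl⟩
        exact ⟨a, rfl, isConj_iff.2 ⟨g, rfl⟩⟩
      · rintro ⟨b, rfl, hb⟩
        obtain ⟨g, hg⟩ := isConj_iff.1 hb
        exact ⟨g, hg⟩
    | succ k ih =>
      by_contra hK
      set K : Subgroup G := Subgroup.closure (D a (k + 1)) with hKdef
      have haK : a ∈ K := Subgroup.subset_closure (self_mem_D a _)
      set A : Subgroup G := Subgroup.zpowers a with hA
      have hAK : A ≤ K := by rw [hA, Subgroup.zpowers_le]; exact haK
      have hAt : A ≠ ⊤ := fun h' => hK (top_le_iff.1 (h' ▸ hAK))
      have hYK : Yof A ≤ K := by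
        rw [Yof_eq]
        refine sSup_le ?_
        rintro H ⟨h1, h2, h3⟩
        have haH : a ∈ H := h1 (Subgroup.mem_zpowers a)
        have hlt : Nat.card H < n := by
          rw [← hn]
          have := card_lt_of_lt (H := H) (K := ⊤) le_top h2
          rwa [Subgroup.card_top] at this
        have h4 : A.subgroupOf H = Subgroup.zpowers (⟨a, haH⟩ : H) := by
          ext x
          rw [Subgroup.mem_subgroupOf, hA, Subgroup.mem_zpowers_iff, Subgroup.mem_zpowers_iff]
          constructor
          · rintro ⟨j, hj⟩
            exact ⟨j, Subtype.ext (by simpa using hj)⟩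
          · rintro ⟨j, hj⟩
            exact ⟨j, by rw [← hj]; simp⟩
        rw [h4, normalClosure_zpowers] at h3
        have h5 := IH _ hlt H rfl ⟨a, haH⟩ h3 (k + 1)
        have h6 : (Subgroup.closure (D (⟨a, haH⟩ : H) (k + 1))).map H.subtype ≤ K := by
          rw [MonoidHom.map_closure]
          apply Subgroup.closure_mono
          exact map_D H.subtype _ _
        rw [h5] at h6
        intro x hx
        exact h6 ⟨⟨x, hx⟩, trivial, rfl⟩
      have hY : Yof A ≠ ⊤ := fun h' => hK (top_le_iff.1 (h' ▸ hYK))
      have hng : ∀ N : Subgroup G, N.Normal → A ≤ N → N = ⊤ := by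
        intro N hN hAN
        rw [← top_le_iff, ← ha]
        haveI := hN
        apply Subgroup.normalClosure_le_normal
        rintro x rfl
        exact hAN (Subgroup.mem_zpowers _)
      have huniq := unique_coatom A hAt hng hY
      obtain ⟨M, hM, hKM⟩ := exists_coatom hK
      have h1 : ∀ d ∈ D a k, d ∈ M := by
        intro d hd
        have h2 : d * a * d⁻¹ ∈ M := hKM (Subgroup.subset_closure ⟨d, hd, rfl⟩)
        have h3 : A ≤ cj d⁻¹ M := by
          rw [hA, Subgroup.zpowers_le, mem_cj]
          simpa using h2
        have h4 := huniq _ _ (isCoatom_cj hM) hM h3 (hAK.trans hKM)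
        have h5 : d⁻¹ ∈ Subgroup.normalizer (M : Set G) := mem_normalizer_iff_cj.2 h4
        rcases eq_or_lt_of_le (Subgroup.le_normalizer (H := M)) with h6 | h6
        · have := inv_mem h5
          rw [inv_inv, ← h6] at this
          exact this
        · have h7 := hM.2 _ h6
          rw [Subgroup.normalizer_eq_top_iff] at h7
          exact absurd (hng M h7 (hAK.trans hKM)) hM.1
      have h2 : Subgroup.closure (D a k) ≤ M := (Subgroup.closure_le _).2 h1
      rw [ih, top_le_iff] at h2
      exact hM.1 h2

end CfsgLib.FgEngel
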