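import Cfsg.Statements.S0042
import Mathlib
import Cfsg.Agent.LibFpfH12b
import Cfsg.Agent.LibFrob6
import Cfsg.Agent.LibFrobH13

set_option autoImplicit false
open Cfsg

namespace Cfsg.Agent.S0042

/-- In a finite Frobenius group, the Frobenius kernel is (the carrier of) a normal subgroup which is nilpotent. -/
theorem result {G : Type*} [Group G] [Finite G] (H : Subgroup G) (hH : Cfsg.IsFrobeniusComplement H) :
    ∃ N : Subgroup G, (N : Set G) = Cfsg.frobeniusKernel H ∧ N.Normal ∧ Group.IsNilpotent N := by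
  obtain ⟨N, hN, hNn, hNc⟩ := CfsgLib.Frob6.frobenius_kernel H hH.2.2
  refine ⟨N, hN, hNn, ?_⟩
  haveI : Nontrivial H := (Subgroup.nontrivial_iff_ne_bot H).2 hH.1
  obtain ⟨p, hp, hpd⟩ := Nat.exists_prime_and_dvd (n := Nat.card H)
    (by rw [← Finite.one_lt_card_iff_nontrivial] at this; omega)
  haveI : Fact p.Prime := ⟨hp⟩
  obtain ⟨h, hh⟩ := exists_prime_orderOf_dvd_card' (G := H) p hpd
  have hh1 : (h : G) ≠ 1 := by
    intro h1
    rw [← Subgroup.orderOf_coe, h1, orderOf_one] at hh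
    exact hp.one_lt.ne hh
  refine CfsgLib.FpfH12.main (Nat.card N) N rfl (MulAut.conjNormal (h : G)) p hp ?_ ?_
  · rw [← map_pow, ← hh, ← Subgroup.orderOf_coe, pow_orderOf_eq_one, map_one]
  · intro n hn
    have h1 : (h : G) * n * (h : G)⁻¹ = n := by
      rw [← MulAut.conjNormal_apply]; exact congrArg Subtype.val hn
    have h2 : (n : G) ∈ H := CfsgLib.FrobH13.mem_of_commute hH h.2 hh1
      (mul_inv_eq_iff_eq_mul.1 h1).symm
    have h3 : (n : G) ∈ N ⊓ H := Subgroup.mem_inf.2 ⟨n.2, h2⟩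
    rw [hNc.disjoint.eq_bot, Subgroup.mem_bot] at h3
    exact Subtype.ext h3

end Cfsg.Agent.S0042
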