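import Cfsg.Statements.S3374
import Mathlib
import Cfsg.Agent.LibH13
import Cfsg.Agent.LibH22SL

set_option autoImplicit false
open Cfsg

namespace Cfsg.Agent.S3374

open Matrix Pointwise

instance : Fact (Nat.Prime 11) := ⟨by norm_num⟩
instance : Fact (Nat.Prime 5) := ⟨by norm_num⟩

abbrev T4 := ZMod 11 × ZMod 11 × ZMod 11 × ZMod 11

def mul4 (x y : T4) : T4 :=
  (x.1 * y.1 + x.2.1 * y.2.2.1, x.1 * y.2.1 + x.2.1 * y.2.2.2,
    x.2.2.1 * y.1 + x.2.2.2 * y.2.2.1, x.2.2.1 * y.2.1 + x.2.2.2 * y.2.2.2)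

def Up (i : ZMod 5) : T4 :=
  if i = 0 then (1, 0, 0, 1) else if i = 1 then (1, 4, 3, 2) else if i = 2 then (2, 1, 9, 5)
    else if i = 3 then (5, 10, 2, 2) else (2, 7, 8, 1)

def Dg (i : ZMod 5) : T4 :=
  if i = 1 then (1, 0, 0, 1) else if i = 2 then (10, 3, 3, 1) else if i = 3 then (1, 8, 8, 10) else (10, 0, 0, 10)

def F4 (a b c d : ZMod 5) : T4 :=
  if c = 0 then mul4 (Dg a) (Up (b * (a * a * a)))
  else mul4 (mul4 (mul4 (Up (a * (c * c * c))) (0, 10, 1, 0)) (Dg c)) (Up (d * (c * c * c)))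

theorem check1 : ∀ a b c d e : ZMod 5, a * d - b * c = 1 →
    F4 a (a * e + b) c (c * e + d) = mul4 (F4 a b c d) (F4 1 e 0 1) := by decide +kernel

theorem check2 : ∀ a b c d e : ZMod 5, a * d - b * c = 1 →
    F4 (a + b * e) b (c + d * e) d = mul4 (F4 a b c d) (F4 1 0 e 1) := by decide +kernel

theorem check3 : ∀ a b c d : ZMod 5, a * d - b * c = 1 → ¬ (a = 1 ∧ b = 0 ∧ c = 0 ∧ d = 1) →
    ((F4 a b c d).1 - 1) * ((F4 a b c d).2.2.2 - 1) - (F4 a b c d).2.1 * (F4 a b c d).2.2.1 ≠ 0 := by decide +kernel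

def toM (x : T4) : Matrix (Fin 2) (Fin 2) (ZMod 11) := !![x.1, x.2.1; x.2.2.1, x.2.2.2]

theorem toM_mul (x y : T4) : toM (mul4 x y) = toM x * toM y := by
  simp [toM, mul4, Matrix.mul_fin_two]

def f (A : SpecialLinearGroup (Fin 2) (ZMod 5)) : Matrix (Fin 2) (Fin 2) (ZMod 11) :=
  toM (F4 (A.1 0 0) (A.1 0 1) (A.1 1 0) (A.1 1 1))

theorem det_eq (A : SpecialLinearGroup (Fin 2) (ZMod 5)) : A.1 0 0 * A.1 1 1 - A.1 0 1 * A.1 1 0 = 1 := by
  have := A.2
  rwa [Matrix.det_fin_two] at this

theorem f_one : f 1 = 1 := by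
  have h : F4 1 0 0 1 = (1, 0, 0, 1) := by decide +kernel
  have : f 1 = toM (F4 1 0 0 1) := rfl
  rw [this, h]
  simp [toM, Matrix.one_fin_two]

theorem hm (A B : SpecialLinearGroup (Fin 2) (ZMod 5)) (i j : Fin 2) :
    (A * B).1 i j = A.1 i 0 * B.1 0 j + A.1 i 1 * B.1 1 j := by
  change (A.1 * B.1) i j = _
  rw [Matrix.mul_apply, Fin.sum_univ_two]

theorem f_mul (A B : SpecialLinearGroup (Fin 2) (ZMod 5)) : f (A * B) = f A * f B := by
  revert A
  apply Cfsg.Agent.H22.SLn.transvection_induction (P := fun B => ∀ A, f (A * B) = f A * f B) _ _ B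
  · intro i j hij c A
    have hd := det_eq A
    have hcases : (i = 0 ∧ j = 1) ∨ (i = 1 ∧ j = 0) := by
      fin_cases i <;> fin_cases j <;> simp_all
    rcases hcases with ⟨rfl, rfl⟩ | ⟨rfl, rfl⟩
    · have h1 := check1 _ _ _ _ c hd
      have e1 : f (SpecialLinearGroup.transvection hij c) = toM (F4 1 c 0 1) := by
        unfold f
        congr 1
        simp [SpecialLinearGroup.transvection, Matrix.transvection]
      have e2 : f (A * SpecialLinearGroup.transvection hij c) =
          toM (F4 (A.1 0 0) (A.1 0 0 * c + A.1 0 1) (A.1 1 0) (A.1 1 0 * c + A.1 1 1)) := by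
        unfold f
        congr 1
        rw [hm, hm, hm, hm]
        simp [SpecialLinearGroup.transvection, Matrix.transvection]
      rw [e1, e2, h1, toM_mul]; rfl
    · have h1 := check2 _ _ _ _ c hd
      have e1 : f (SpecialLinearGroup.transvection hij c) = toM (F4 1 0 c 1) := by
        unfold f
        congr 1
        simp [SpecialLinearGroup.transvection, Matrix.transvection]
      have e2 : f (A * SpecialLinearGroup.transvection hij c) =
          toM (F4 (A.1 0 0 + A.1 0 1 * c) (A.1 0 1) (A.1 1 0 + A.1 1 1 * c) (A.1 1 1)) := by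
        unfold f
        congr 1
        rw [hm, hm, hm, hm]
        simp [SpecialLinearGroup.transvection, Matrix.transvection]
      rw [e1, e2, h1, toM_mul]; rfl
  · intro X Y hX hY A
    rw [← mul_assoc, hY, hX, hY X, mul_assoc]

theorem f_free (A : SpecialLinearGroup (Fin 2) (ZMod 5)) (hA : A ≠ 1) (v : Fin 2 → ZMod 11) (hv : f A *ᵥ v = v) : v = 0 := by
  have h1 : (f A - 1) *ᵥ v = 0 := by rw [sub_mulVec, hv, one_mulVec, sub_self]
  apply Matrix.eq_zero_of_mulVec_eq_zero _ h1
  have h2 := check3 _ _ _ _ (det_eq A) (by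
    rintro ⟨h00, h01, h10, h11⟩
    apply hA
    ext i j
    fin_cases i <;> fin_cases j
    · exact h00
    · exact h01
    · exact h10
    · exact h11)
  rw [Matrix.det_fin_two]
  simp only [f, toM, Matrix.sub_apply, Matrix.of_apply, Matrix.cons_val', Matrix.cons_val_zero, Matrix.cons_val_one,
    Matrix.one_apply_eq]
  convert h2 using 2
  simp

def φ : SpecialLinearGroup (Fin 2) (ZMod 5) →* MulAut (Multiplicative (Fin 2 → ZMod 11)) where
  toFun A :=
    { toFun := fun v => Multiplicative.ofAdd (f A *ᵥ Multiplicative.toAdd v)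
      invFun := fun v => Multiplicative.ofAdd (f A⁻¹ *ᵥ Multiplicative.toAdd v)
      left_inv := fun v => by
        change Multiplicative.ofAdd (f A⁻¹ *ᵥ (f A *ᵥ Multiplicative.toAdd v)) = v
        rw [mulVec_mulVec, ← f_mul, inv_mul_cancel, f_one, one_mulVec]; rfl
      right_inv := fun v => by
        change Multiplicative.ofAdd (f A *ᵥ (f A⁻¹ *ᵥ Multiplicative.toAdd v)) = v
        rw [mulVec_mulVec, ← f_mul, mul_inv_cancel, f_one, one_mulVec]; rfl
      map_mul' := fun v w => by
        change Multiplicative.ofAdd (f A *ᵥ (Multiplicative.toAdd v + Multiplicative.toAdd w)) = _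
        rw [mulVec_add]; rfl }
  map_one' := by
    ext v : 1
    change Multiplicative.ofAdd (f 1 *ᵥ Multiplicative.toAdd v) = v
    rw [f_one, one_mulVec]; rfl
  map_mul' A B := by
    ext v : 1
    change Multiplicative.ofAdd (f (A * B) *ᵥ Multiplicative.toAdd v) = Multiplicative.ofAdd (f A *ᵥ (f B *ᵥ Multiplicative.toAdd v))
    rw [f_mul, mulVec_mulVec]

theorem φ_free (A : SpecialLinearGroup (Fin 2) (ZMod 5)) (hA : A ≠ 1) (v : Multiplicative (Fin 2 → ZMod 11))
    (hv : φ A v = v) : v = 1 := by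
  have h : f A *ᵥ Multiplicative.toAdd v = Multiplicative.toAdd v := congrArg Multiplicative.toAdd hv
  have := f_free A hA _ h
  exact congrArg Multiplicative.ofAdd this

/-- a semidirect product with a fixed-point-free action is a Frobenius group -/
theorem frob {N H : Type*} [Group N] [Group H] (φ : H →* MulAut N) [Nontrivial N] [Nontrivial H]
    (hfree : ∀ a : H, a ≠ 1 → ∀ v : N, φ a v = v → v = 1) :
    Cfsg.IsFrobeniusComplement ((SemidirectProduct.inr : H →* N ⋊[φ] H).range) := by
  refine ⟨?_, ?_, ?_⟩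
  · intro h
    obtain ⟨a, ha⟩ := exists_ne (1 : H)
    have h1 : (SemidirectProduct.inr a : N ⋊[φ] H) ∈ (SemidirectProduct.inr : H →* N ⋊[φ] H).range := ⟨a, rfl⟩
    rw [h, Subgroup.mem_bot] at h1
    apply ha
    exact SemidirectProduct.inr_injective (h1.trans (map_one _).symm)
  · intro h
    obtain ⟨n, hn⟩ := exists_ne (1 : N)
    have h1 : (SemidirectProduct.inl n : N ⋊[φ] H) ∈ (SemidirectProduct.inr : H →* N ⋊[φ] H).range := by
      rw [h]; exact Subgroup.mem_top _
    obtain ⟨a, ha⟩ := h1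
    apply hn
    have := congrArg SemidirectProduct.left ha
    simpa using this.symm
  · intro g hg
    rw [eq_bot_iff]
    intro x hx
    obtain ⟨hx1, hx2⟩ := Subgroup.mem_inf.mp hx
    rw [CfsgLib.H13.mem_conj_smul] at hx2
    obtain ⟨a, rfl⟩ := hx1
    rw [Subgroup.mem_bot]
    by_contra hne
    have ha : a ≠ 1 := by rintro rfl; exact hne (map_one _)
    apply hg
    obtain ⟨b, hb⟩ := hx2
    have h1 := congrArg SemidirectProduct.left hb
    simp only [SemidirectProduct.left_inr, SemidirectProduct.mul_left, SemidirectProduct.inv_left,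
      SemidirectProduct.mul_right, SemidirectProduct.inv_right, SemidirectProduct.right_inr] at h1
    -- 1 = φ g.right⁻¹ g.left⁻¹ * ... 
    have h2 : φ a g.left = g.left := by
      have h3 := congrArg (φ g.right) h1
      simp only [map_mul, map_one, mul_one, MulAut.mul_apply, map_inv, MulAut.apply_inv_self] at h3
      rw [eq_comm, inv_mul_eq_one] at h3
      exact h3.symm
    have h4 := hfree a ha _ h2
    refine ⟨g.right, ?_⟩
    apply SemidirectProduct.ext
    · rw [SemidirectProduct.left_inr, h4]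
    · rw [SemidirectProduct.right_inr]

/-- SL(2,5) occurs as a Frobenius complement: there is a finite group L with a subgroup H isomorphic to SL(2,5) which is a non-trivial proper subgroup meeting each conjugate gHg⁻¹ with g outside H trivially. -/
theorem result :
    ∃ (L : Type) (_ : Group L) (_ : Finite L) (H : Subgroup L),
      Cfsg.IsFrobeniusComplement H ∧ Nonempty (H ≃* Matrix.SpecialLinearGroup (Fin 2) (ZMod 5)) := by
  have : Nontrivial (SpecialLinearGroup (Fin 2) (ZMod 5)) := ⟨⟨1, -1, by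
    intro h
    have := congrArg (fun A : SpecialLinearGroup (Fin 2) (ZMod 5) => A.1 0 0) h
    revert this
    simp
    decide⟩⟩
  have hnt : Nontrivial (Multiplicative (Fin 2 → ZMod 11)) := inferInstanceAs (Nontrivial (Fin 2 → ZMod 11))
  have hfin : Finite (Multiplicative (Fin 2 → ZMod 11) ⋊[φ] SpecialLinearGroup (Fin 2) (ZMod 5)) :=
    Finite.of_equiv _ SemidirectProduct.equivProd.symm
  refine ⟨_, inferInstance, hfin, _, frob φ φ_free, ⟨(MonoidHom.ofInjective SemidirectProduct.inr_injective).symm⟩⟩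

end Cfsg.Agent.S3374
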