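import Cfsg.Agent.LibH6ZasH
import Cfsg.Agent.S0033
import Cfsg.Agent.S3374
import Cfsg.Agent.LibQd9E

/-! Groups with a fixed-point-free representation; Zassenhaus' theorem on perfect Frobenius
complements. -/

set_option autoImplicit false
set_option synthInstance.maxSize 2000

namespace CfsgLib.H6Zas

open Subgroup

/-- the group has a representation over some algebraically closed field of prime characteristic
such that no nontrivial element has the eigenvalue one -/
def IsFpf (G : Type*) [Group G] : Prop :=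
  ∃ (q : ℕ) (_ : Fact q.Prime) (n : ℕ)
    (ρ : G →* Module.End (AlgebraicClosure (ZMod q)) (Fin (n + 1) → AlgebraicClosure (ZMod q))), Fpf ρ

theorem Fpf.baseChange {G : Type*} [Group G] {F : Type*} [Field F] (K : Type*) [Field K] [Algebra F K]
    {W : Type*} [AddCommGroup W] [Module F W]
    [FiniteDimensional F W] [Nontrivial W] {ρ : G →* Module.End F W} (h : Fpf ρ) :
    ∃ (n : ℕ) (ρ' : G →* Module.End K (Fin (n + 1) → K)), Fpf ρ' := by
  classical
  have hpos : 0 < Module.finrank F W := Module.finrank_pos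
  obtain ⟨n, hn⟩ : ∃ n, Module.finrank F W = n + 1 := ⟨Module.finrank F W - 1, by omega⟩
  let b : Module.Basis (Fin (n + 1)) F W := Module.finBasisOfFinrankEq F W hn
  let e : Module.End F W ≃ₐ[F] Matrix (Fin (n + 1)) (Fin (n + 1)) F := LinearMap.toMatrixAlgEquiv b
  let m : Matrix (Fin (n + 1)) (Fin (n + 1)) F →+* Matrix (Fin (n + 1)) (Fin (n + 1)) K := (algebraMap F K).mapMatrix
  let t : Matrix (Fin (n + 1)) (Fin (n + 1)) K ≃ₐ[K] Module.End K (Fin (n + 1) → K) := Matrix.toLinAlgEquiv'
  let ρ' : G →* Module.End K (Fin (n + 1) → K) :=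
    { toFun := fun g => t (m (e (ρ g)))
      map_one' := by rw [map_one, map_one, map_one, map_one]
      map_mul' := fun x y => by rw [map_mul, map_mul, map_mul, map_mul] }
  refine ⟨n, ρ', ?_⟩
  intro g hg v hv
  have hdet : (e (ρ g) - 1).det ≠ 0 := by
    intro h0
    obtain ⟨u, hu0, hu⟩ := Matrix.exists_mulVec_eq_zero_iff.mpr h0
    rw [Matrix.sub_mulVec, Matrix.one_mulVec, sub_eq_zero] at hu
    apply hu0
    have h1 : ρ g (b.equivFun.symm u) = b.equivFun.symm u := by
      apply b.equivFun.injective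
      rw [LinearEquiv.apply_symm_apply]
      have h2 := LinearMap.toMatrix_mulVec_repr b b (ρ g) (b.equivFun.symm u)
      have h3 : (b.repr (b.equivFun.symm u) : Fin (n + 1) → F) = u := by
        have := b.equivFun.apply_symm_apply u
        rwa [Module.Basis.equivFun_apply] at this
      rw [h3] at h2
      rw [Module.Basis.equivFun_apply, ← h2]
      exact hu
    have h2 := h g hg _ h1
    have h3 := congrArg b.equivFun h2
    rwa [LinearEquiv.apply_symm_apply, map_zero] at h3
  have hdet' : (m (e (ρ g)) - 1).det ≠ 0 := by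
    have h1 : m (e (ρ g)) - 1 = m (e (ρ g) - 1) := by rw [map_sub, map_one]
    rw [h1]
    have h2 : (m (e (ρ g) - 1)).det = algebraMap F K ((e (ρ g) - 1).det) := ((algebraMap F K).map_det _).symm
    rw [h2]
    exact (map_ne_zero_iff _ (FaithfulSMul.algebraMap_injective F K)).mpr hdet
  apply Matrix.eq_zero_of_mulVec_eq_zero hdet'
  rw [Matrix.sub_mulVec, Matrix.one_mulVec, sub_eq_zero]
  exact hv

theorem isFpf_of_mod {G : Type*} [Group G] {W : Type*} [AddCommGroup W] [Finite W] [Nontrivial W] (q : ℕ)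
    [hqf : Fact q.Prime] [Module (ZMod q) W] (f : G → W → W) (hadd : ∀ g x y, f g (x + y) = f g x + f g y)
    (h1 : ∀ x, f 1 x = x) (hmul : ∀ a b x, f (a * b) x = f a (f b x))
    (hf : ∀ g, g ≠ 1 → ∀ w, f g w = w → w = 0) : IsFpf G := by
  haveI : FiniteDimensional (ZMod q) W := Module.Finite.of_finite
  have hsm : ∀ g (c : ZMod q) x, f g (c • x) = c • f g x := by
    intro g c x
    let F : W →+ W := AddMonoidHom.mk' (f g) (hadd g)
    exact ZMod.map_smul F c x
  let ρ : G →* Module.End (ZMod q) W :=
    { toFun := fun g => { toFun := f g, map_add' := hadd g, map_smul' := hsm g }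
      map_one' := LinearMap.ext fun x => h1 x
      map_mul' := fun a b => LinearMap.ext fun x => hmul a b x }
  have hρ : Fpf ρ := fun g hg x hx => hf g hg x hx
  obtain ⟨n, ρ', hρ'⟩ := hρ.baseChange (AlgebraicClosure (ZMod q))
  exact ⟨q, hqf, n, ρ', hρ'⟩

theorem isFpf_of_add {G : Type*} [Group G] {W : Type*} [AddCommGroup W] [Finite W] [Nontrivial W] (q : ℕ)
    [hqf : Fact q.Prime] (hq : ∀ w : W, q • w = 0) (f : G →* AddMonoid.End W)
    (hf : ∀ g, g ≠ 1 → ∀ w, f g w = w → w = 0) : IsFpf G := by
  letI : Module (ZMod q) W := AddCommGroup.zmodModule hq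
  refine isFpf_of_mod q (fun g w => f g w) (fun g x y => map_add _ _ _) (fun x => ?_) (fun a b x => ?_) hf
  · show f 1 x = x
    rw [map_one]; rfl
  · show f (a * b) x = f a (f b x)
    rw [map_mul]; rfl

theorem isFpf_of_action {G : Type*} [Group G] [Finite G] {V : Type*} [Group V] [Finite V] [Nontrivial V]
    (φ : G →* MulAut V) (h : ∀ g, g ≠ 1 → ∀ v, φ g v = v → v = 1) : IsFpf G := by
  classical
  have hφinj : Function.Injective φ := by
    rw [injective_iff_map_eq_one]
    intro g hg
    by_contra hne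
    obtain ⟨v, hv⟩ := exists_ne (1 : V)
    exact hv (h g hne v (by rw [hg]; rfl))
  by_cases htriv : ∀ g : G, g = 1
  · haveI : Fact (Nat.Prime 2) := ⟨Nat.prime_two⟩
    exact ⟨2, inferInstance, 0, 1, fun g hg => absurd (htriv g) hg⟩
  push Not at htriv
  obtain ⟨g, hg⟩ := htriv
  -- `V` is nilpotent
  have hnil : Group.IsNilpotent V := by
    have h1 : orderOf g ≠ 1 := fun h => hg (orderOf_eq_one_iff.mp h)
    obtain ⟨r, hr, hrd⟩ := Nat.exists_prime_and_dvd h1
    obtain ⟨m, hm⟩ := hrd
    have hm0 : 0 < m := by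
      rcases Nat.eq_zero_or_pos m with h0 | h0
      · rw [h0, mul_zero] at hm
        have := orderOf_pos g
        omega
      · exact h0
    have ho : orderOf (g ^ m) = r := by
      rw [orderOf_pow, hm, Nat.gcd_eq_right (Dvd.intro_left r rfl), Nat.mul_div_cancel _ hm0]
    have hgm : g ^ m ≠ 1 := by
      intro h0; rw [h0, orderOf_one] at ho; exact hr.one_lt.ne ho
    exact Cfsg.Agent.S0033.result (φ (g ^ m)) (fun v hv => h _ hgm v hv) r hr
      (by rw [orderOf_injective φ hφinj, ho])
  have hZ : Subgroup.center V ≠ ⊥ := Group.IsNilpotent.center_ne_bot V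
  have hZ1 : Nat.card (Subgroup.center V) ≠ 1 := fun h0 => hZ (Subgroup.card_eq_one.mp h0)
  obtain ⟨q, hq, hqd⟩ := Nat.exists_prime_and_dvd hZ1
  haveI hqf : Fact q.Prime := ⟨hq⟩
  obtain ⟨c, hc⟩ := exists_prime_orderOf_dvd_card' q hqd
  let A : Subgroup V :=
    { carrier := {v | v ∈ Subgroup.center V ∧ v ^ q = 1}
      one_mem' := ⟨one_mem _, one_pow _⟩
      mul_mem' := by
        rintro a b ⟨ha, ha'⟩ ⟨hb, hb'⟩
        refine ⟨mul_mem ha hb, ?_⟩
        have hcm : Commute a b := (Subgroup.mem_center_iff.mp ha b).symm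
        rw [hcm.mul_pow, ha', hb', one_mul]
      inv_mem' := by
        rintro a ⟨ha, ha'⟩
        exact ⟨inv_mem ha, by rw [inv_pow, ha', inv_one]⟩ }
  have hAmem : ∀ v, v ∈ A ↔ v ∈ Subgroup.center V ∧ v ^ q = 1 := fun v => Iff.rfl
  have hinv : ∀ g : G, ∀ v ∈ A, φ g v ∈ A := by
    rintro g v ⟨hv, hv'⟩
    refine ⟨?_, by rw [← map_pow, hv', map_one]⟩
    rw [Subgroup.mem_center_iff]
    intro x
    obtain ⟨y, rfl⟩ := (φ g).surjective x
    rw [← map_mul, ← map_mul, Subgroup.mem_center_iff.mp hv y]
  letI : CommGroup A := { (inferInstance : Group A) with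
    mul_comm := fun a b => Subtype.ext (Subgroup.mem_center_iff.mp b.2.1 a) }
  haveI : Nontrivial (Additive A) := by
    refine ⟨⟨Additive.ofMul ⟨(c : V), c.2, ?_⟩, 0, ?_⟩⟩
    · have h1 : c ^ q = 1 := by rw [← hc]; exact pow_orderOf_eq_one c
      exact congrArg Subtype.val h1
    · intro h0
      have h1 : (c : V) = 1 := congrArg (fun x : Additive A => ((Additive.toMul x : A) : V)) h0
      have h2 : c = 1 := Subtype.ext h1
      rw [h2, orderOf_one] at hc
      exact hq.one_lt.ne hc
  haveI : Finite (Additive A) := inferInstanceAs (Finite A)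
  let f : G →* AddMonoid.End (Additive A) :=
    { toFun := fun g =>
        { toFun := fun x => Additive.ofMul (⟨φ g (Additive.toMul x : A), hinv g _ (Additive.toMul x).2⟩ : A)
          map_zero' := by
            apply Additive.toMul.injective
            apply Subtype.ext
            show φ g 1 = 1
            rw [map_one]
          map_add' := by
            intro x y
            apply Additive.toMul.injective
            apply Subtype.ext
            show φ g (((Additive.toMul x : A) : V) * (Additive.toMul y : A)) = _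
            rw [map_mul]
            rfl }
      map_one' := by
        refine AddMonoidHom.ext fun x => ?_
        apply Additive.toMul.injective
        apply Subtype.ext
        show φ 1 (Additive.toMul x : A) = _
        rw [map_one]; rfl
      map_mul' := by
        intro a b
        refine AddMonoidHom.ext fun x => ?_
        apply Additive.toMul.injective
        apply Subtype.ext
        show φ (a * b) (Additive.toMul x : A) = _
        rw [map_mul]; rfl }
  refine isFpf_of_add q ?_ f ?_
  · intro x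
    have h1 : (Additive.toMul x) ^ q = 1 := Subtype.ext (Additive.toMul x).2.2
    exact congrArg Additive.ofMul h1
  · intro g hg x hx
    have h1 : φ g (Additive.toMul x : A) = ((Additive.toMul x : A) : V) :=
      congrArg (fun y : Additive A => ((Additive.toMul y : A) : V)) hx
    have h2 := h g hg _ h1
    have h3 : Additive.toMul x = (1 : A) := Subtype.ext h2
    exact congrArg Additive.ofMul h3

/-- `SL(2,5)` -/
abbrev SL25 := Matrix.SpecialLinearGroup (Fin 2) (ZMod 5)

theorem sl25_fpf : IsFpf SL25 := by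
  haveI : Nontrivial (Multiplicative (Fin 2 → ZMod 11)) := by
    haveI : Fact (Nat.Prime 11) := ⟨by norm_num⟩
    infer_instance
  exact isFpf_of_action Cfsg.Agent.S3374.φ (fun A hA v hv => Cfsg.Agent.S3374.φ_free A hA v hv)

theorem sl25_perfect : commutator SL25 = ⊤ := by
  haveI : Fact (Nat.Prime 5) := ⟨Nat.prime_five⟩
  exact CfsgLib.Qd9.SL2_perfect (by norm_num)

theorem IsFpf.perfect {G : Type*} [Group G] [Finite G] (h : IsFpf G) (hp : commutator G = ⊤) (hne : ∃ g : G, g ≠ 1) :
    ∃ z : G, ZC z ∧ Typ 5 z (⊤ : Subgroup G) := by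
  obtain ⟨q, hq, n, ρ, hρ⟩ := h
  exact perfect_typ5 hρ hp hne

theorem sl25_typ : ∃ z : SL25, ZC z ∧ Typ 5 z (⊤ : Subgroup SL25) := by
  refine sl25_fpf.perfect sl25_perfect ⟨-1, ?_⟩
  intro h
  have := congrArg (fun A : SL25 => A.1 0 0) h
  revert this
  simp
  decide

/-- **Zassenhaus**: a nontrivial perfect fixed-point-free group is `SL(2,5)` -/
theorem IsFpf.iso_sl25 {G : Type*} [Group G] [Finite G] (h : IsFpf G) (hp : commutator G = ⊤) (hne : ∃ g : G, g ≠ 1) :
    Nonempty (G ≃* SL25) := by
  obtain ⟨z, Z, hz⟩ := h.perfect hp hne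
  obtain ⟨z', Z', hz'⟩ := sl25_typ
  exact cover_iso Z Z' hz hz' hp sl25_perfect

end CfsgLib.H6Zas
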