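import Cfsg.Statements.S0690
import Mathlib
import Cfsg.Agent.LibH6ZasI

set_option autoImplicit false
open Cfsg

namespace Cfsg.Agent.S0690

/-- Zassenhaus: a perfect non-trivial group of fixed-point-free automorphisms of a finite group is isomorphic to `SL(2,5)`. -/
theorem result {K : Type*} [Group K] [Finite K] (G : Subgroup (MulAut K)) (hfpf : ∀ φ ∈ G, φ ≠ 1 → ∀ k : K, φ k = k → k = 1) (hperf : commutator G = ⊤) (hne : G ≠ ⊥) : Nonempty (G ≃* Matrix.SpecialLinearGroup (Fin 2) (ZMod 5)) := by
  by_cases hK : Nontrivial K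
  · have h : CfsgLib.H6Zas.IsFpf G := CfsgLib.H6Zas.isFpf_of_action G.subtype (by
      intro g hg v hv
      exact hfpf g g.2 (fun h1 => hg (Subtype.ext h1)) v hv)
    exact h.iso_sl25 hperf (Subgroup.ne_bot_iff_exists_ne_one.mp hne)
  · exfalso
    rw [not_nontrivial_iff_subsingleton] at hK
    apply hne
    rw [eq_bot_iff]
    intro g _
    rw [Subgroup.mem_bot]
    ext k
    exact Subsingleton.elim _ _

end Cfsg.Agent.S0690
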