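import Mathlib
import Cfsg.Agent.EqBase
import Cfsg.Agent.LibFgFOT3
import Cfsg.Agent.LibCores
import Cfsg.Agent.LibFgCQ
import Cfsg.Agent.LibH22SL2
import Cfsg.Agent.S0040
import Cfsg.Agent.S0042
import Cfsg.Agent.S0690

/-! order types of Frobenius groups: solvability -/

set_option autoImplicit false
set_option linter.unusedSectionVars false

namespace CfsgLib.FgFOT
open CfsgLib.FgCnt
open scoped Pointwise

universe u v

/-- elements of order `p` versus subgroups of order `p` -/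
theorem cnt_eq {X : Type u} [Group X] [Finite X] {p : ℕ} (hp : p.Prime) :
    Nat.card {x : X // orderOf x = p} = Nat.card {C : Subgroup X // Nat.card C = p} * (p - 1) := by
  have : Fact p.Prime := ⟨hp⟩
  refine card_eq_mul_of_fiber (fun x : {x : X // orderOf x = p} => (⟨Subgroup.zpowers x.1, by rw [Nat.card_zpowers, x.2]⟩ :
    {C : Subgroup X // Nat.card C = p})) _ ?_
  rintro ⟨C, hC⟩
  have hcyc : IsCyclic C := isCyclic_of_prime_card hC
  have hg := card_gen C hcyc
  rw [hC, Nat.totient_prime hp] at hg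
  rw [← hg]
  apply Nat.card_congr
  refine ⟨fun x => ⟨x.1.1, congrArg Subtype.val x.2⟩, fun x => ⟨⟨x.1, ?_⟩, Subtype.ext x.2⟩, fun x => rfl, fun x => rfl⟩
  rw [← Nat.card_zpowers, x.2, hC]

theorem no_solv {X : Type u} [Group X] [Finite X] (hsolv : Group.IsSolvable X)
    (hu : ∀ C C' : Subgroup X, Nat.card C = 5 → Nat.card C' = 5 → C ≤ Subgroup.normalizer (C' : Set X) → C = C')
    (hc : Nat.card {C : Subgroup X // Nat.card C = 5} = 6) : False := by
  classical
  have h5 : Fact (Nat.Prime 5) := ⟨by norm_num⟩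
  let _ : MulAction X (Subgroup X) := MulAction.compHom (Subgroup X) (MulAut.conj : X →* MulAut X)
  have hsm : ∀ (x : X) (C : Subgroup X), x • C = MulAut.conj x • C := fun _ _ => rfl
  let S : SubMulAction X (Subgroup X) :=
    { carrier := {C | Nat.card C = 5}
      smul_mem' := fun x C (hC : Nat.card C = 5) => by
        change Nat.card (MulAut.conj x • C : Subgroup X) = 5
        rw [← hC]
        exact (Nat.card_congr (Subgroup.equivSMul (MulAut.conj x) C).toEquiv).symm }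
  have hScard : Nat.card S = 6 := hc
  let φ := MulAction.toPermHom X S
  have hfix : ∀ (ω ω' : S), (∀ c ∈ ω.1, c • ω' = ω') → ω = ω' := by
    intro ω ω' h
    apply Subtype.ext
    apply hu _ _ ω.2 ω'.2
    intro c hcω
    rw [Subgroup.mem_normalizer_iff_map_conj_eq]
    exact congrArg Subtype.val (h c hcω)
  have hne : (⊤ : Subgroup φ.range) ≠ ⊥ := by
    intro h
    have h1 : ∀ (x : X) (ω : S), x • ω = ω := by
      intro x ω
      have h2 : (⟨φ x, ⟨x, rfl⟩⟩ : φ.range) ∈ (⊤ : Subgroup φ.range) := Subgroup.mem_top _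
      rw [h, Subgroup.mem_bot] at h2
      have h3 : φ x = 1 := congrArg Subtype.val h2
      exact congrArg (fun σ : Equiv.Perm S => σ ω) h3
    have h2 : Subsingleton S := ⟨fun ω ω' => hfix ω ω' (fun c _ => h1 c ω')⟩
    have h3 : Nat.card S ≤ 1 := Finite.card_le_one_iff_subsingleton.mpr h2
    omega
  obtain ⟨A, hAn, -, hA1, hAmin⟩ := CfsgLib.Cores.exists_minimal_normal (⊤ : Subgroup φ.range) hne
  have hAsolv : Group.IsSolvable A := by
    have h1 : Group.IsSolvable φ.range := Group.isSolvable_of_surjective φ.rangeRestrict_surjective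
    infer_instance
  obtain ⟨r, hr, -, -, hAp⟩ := CfsgLib.Cores.minimal_normal_elementary A hA1 hAmin hAsolv
  have : Fact r.Prime := ⟨hr⟩
  apply hA1
  rw [eq_bot_iff]
  -- orbits of A
  have hsm2 : ∀ (a : A) (ω : S), a • ω = ((a : φ.range) : Equiv.Perm S) ω := fun _ _ => rfl
  have horb : ∀ ω : S, Nat.card (MulAction.orbit A ω) = 1 := by
    intro ω
    obtain ⟨n, hn⟩ := hAp.card_orbit ω
    have hP : IsPGroup 5 ω.1 := IsPGroup.of_card (n := 1) (by rw [pow_one]; exact ω.2)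
    have hsm3 : ∀ (c : ω.1) (ω' : S), c • ω' = (c : X) • ω' := fun _ _ => rfl
    have hω : ∀ c : ω.1, (c : X) • ω = ω := by
      intro c
      apply Subtype.ext
      have h1 : (c : X) ∈ Subgroup.normalizer (ω.1 : Set X) := Subgroup.le_normalizer c.2
      rw [Subgroup.mem_normalizer_iff_map_conj_eq] at h1
      exact h1
    have h1 := mod_fixed (Γ := ω.1) (α := S) hP (MulAction.orbit A ω) (by
      rintro c _ ⟨a, rfl⟩
      change c • (a • ω) ∈ _
      rw [hsm3, hsm2]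
      have hmem : (⟨φ (c : X), ⟨_, rfl⟩⟩ : φ.range) * (a : φ.range) * (⟨φ (c : X), ⟨_, rfl⟩⟩ : φ.range)⁻¹ ∈ A := hAn.conj_mem _ a.2 _
      refine ⟨⟨_, hmem⟩, ?_⟩
      change ((φ (c : X)) * ((a : φ.range) : Equiv.Perm S) * (φ (c : X))⁻¹) ω = (c : X) • (((a : φ.range) : Equiv.Perm S) ω)
      rw [Equiv.Perm.mul_apply, Equiv.Perm.mul_apply]
      have h2 : (φ (c : X))⁻¹ ω = ω := by
        rw [Equiv.Perm.inv_eq_iff_eq]
        exact (hω c).symm
      rw [h2]
      rfl)
    have h2 : Nat.card {a : S // a ∈ MulAction.orbit A ω ∧ ∀ g : ω.1, g • a = a} = 1 := by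
      rw [Nat.card_eq_one_iff_unique]
      refine ⟨⟨?_⟩, ⟨⟨ω, MulAction.mem_orbit_self ω, hω⟩⟩⟩
      rintro ⟨x, hx, hx'⟩ ⟨y, hy, hy'⟩
      apply Subtype.ext
      have e1 := hfix ω x (fun c hc => hx' ⟨c, hc⟩)
      have e2 := hfix ω y (fun c hc => hy' ⟨c, hc⟩)
      exact e1.symm.trans e2
    rw [h2] at h1
    have h3 : Nat.card (MulAction.orbit A ω) ≤ 6 := by rw [← hScard]; exact Finite.card_subtype_le _
    have h4 : Nat.card (MulAction.orbit A ω) ≠ 6 := by
      rw [hn]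
      intro h6
      have a2 : 2 ∣ r ^ n := by rw [h6]; norm_num
      have a3 : 3 ∣ r ^ n := by rw [h6]; norm_num
      have b2 := (Nat.prime_dvd_prime_iff_eq Nat.prime_two hr).mp (Nat.prime_two.dvd_of_dvd_pow a2)
      have b3 := (Nat.prime_dvd_prime_iff_eq Nat.prime_three hr).mp (Nat.prime_three.dvd_of_dvd_pow a3)
      omega
    have h5 : Nat.card (MulAction.orbit A ω) % 5 = 1 := h1
    omega
  intro a ha
  rw [Subgroup.mem_bot]
  apply Subtype.ext
  apply Equiv.ext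
  intro ω
  have h1 := horb ω
  rw [Nat.card_eq_one_iff_unique] at h1
  obtain ⟨⟨h1⟩, -⟩ := h1
  have h2 := congrArg Subtype.val (h1 ⟨(⟨a, ha⟩ : A) • ω, MulAction.mem_orbit _ _⟩ ⟨ω, MulAction.mem_orbit_self ω⟩)
  exact h2

def sx : Matrix.SpecialLinearGroup (Fin 2) (ZMod 5) := ⟨!![1, 1; 0, 1], by decide⟩
def sy : Matrix.SpecialLinearGroup (Fin 2) (ZMod 5) := ⟨!![1, 0; 1, 1], by decide⟩

theorem sx5 : sx ^ 5 = 1 := by decide
theorem sx1 : sx ≠ 1 := by decide
theorem sy5 : sy ^ 5 = 1 := by decide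
theorem sy1 : sy ≠ 1 := by decide
theorem sxy : ∀ k < 5, sx ^ k ≠ sy := by decide

theorem sl25 : Nat.card {x : Matrix.SpecialLinearGroup (Fin 2) (ZMod 5) // orderOf x = 5} = 24 := by
  have h5 : Fact (Nat.Prime 5) := ⟨by norm_num⟩
  have hcard : Nat.card (Matrix.SpecialLinearGroup (Fin 2) (ZMod 5)) = 120 := by
    rw [Cfsg.Agent.H22.card_SL2, ZMod.card]
  rw [cnt_eq (by norm_num : Nat.Prime 5)]
  have hfac : (Nat.card (Matrix.SpecialLinearGroup (Fin 2) (ZMod 5))).factorization 5 = 1 := by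
    rw [hcard, show 120 = 5 * 24 by norm_num, Nat.factorization_mul (by norm_num) (by norm_num), Finsupp.add_apply,
      Nat.Prime.factorization_self (by norm_num), Nat.factorization_eq_zero_of_not_dvd (by norm_num)]
  let e : {C : Subgroup (Matrix.SpecialLinearGroup (Fin 2) (ZMod 5)) // Nat.card C = 5} ≃ Sylow 5 (Matrix.SpecialLinearGroup (Fin 2) (ZMod 5)) :=
    { toFun := fun C => Sylow.ofCard C.1 (by rw [C.2, hfac, pow_one])
      invFun := fun P => ⟨P, by rw [Sylow.card_eq_multiplicity, hfac, pow_one]⟩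
      left_inv := fun C => rfl
      right_inv := fun P => Sylow.ext rfl }
  obtain ⟨P⟩ := (inferInstance : Nonempty (Sylow 5 (Matrix.SpecialLinearGroup (Fin 2) (ZMod 5))))
  have hPc : Nat.card P = 5 := by rw [Sylow.card_eq_multiplicity, hfac, pow_one]
  have h1 := card_sylow_modEq_one 5 (Matrix.SpecialLinearGroup (Fin 2) (ZMod 5))
  have h2 := Sylow.card_dvd_index P
  have h3 : (P : Subgroup (Matrix.SpecialLinearGroup (Fin 2) (ZMod 5))).index = 24 := by
    have := Subgroup.card_mul_index (P : Subgroup (Matrix.SpecialLinearGroup (Fin 2) (ZMod 5)))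
    rw [hPc, hcard] at this
    omega
  rw [h3] at h2
  rw [Nat.card_congr e]
  obtain ⟨n, hn⟩ : ∃ n, n = Nat.card (Sylow 5 (Matrix.SpecialLinearGroup (Fin 2) (ZMod 5))) := ⟨_, rfl⟩
  rw [← hn] at h1 h2 ⊢
  have h4 : n ≤ 24 := Nat.le_of_dvd (by norm_num) h2
  have h6 : n % 5 = 1 := h1
  have h7 : n ≠ 1 := by
    intro hn1
    rw [hn] at hn1
    rw [Nat.card_eq_one_iff_unique] at hn1
    obtain ⟨⟨hn1⟩, -⟩ := hn1
    have hx : orderOf sx = 5 := orderOf_eq_prime sx5 sx1
    have hy : orderOf sy = 5 := orderOf_eq_prime sy5 sy1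
    have e1 := hn1 (e ⟨Subgroup.zpowers sx, by rw [Nat.card_zpowers, hx]⟩) (e ⟨Subgroup.zpowers sy, by rw [Nat.card_zpowers, hy]⟩)
    have e2 : Subgroup.zpowers sx = Subgroup.zpowers sy := congrArg Subtype.val (e.injective e1)
    have e3 : sy ∈ Subgroup.zpowers sx := by rw [e2]; exact Subgroup.mem_zpowers sy
    rw [mem_zpowers_iff_mem_range_orderOf, hx] at e3
    simp only [Finset.mem_image, Finset.mem_range] at e3
    obtain ⟨k, hk, hxy⟩ := e3
    exact sxy k hk hxy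
  have h8 : n = 6 := by
    clear hn e
    interval_cases n <;> first | rfl | omega
  rw [h8]


namespace Frob
variable {F : Type u} [Group F] [Finite F] {K H : Subgroup F} (hf : Frob K H)
include hf

theorem fpf' : ∀ h ∈ H, h ≠ 1 → K ⊓ Subgroup.centralizer {h} = ⊥ := hf.FPF

theorem sylow_cyclic {q : ℕ} [hq : Fact q.Prime] (hq2 : q ≠ 2) (P : Sylow q H) : IsCyclic P := by
  have := hf.normal
  rcases Cfsg.Agent.S0040.result K H hf.compl hf.K_ne hf.fpf' q P with h | ⟨n, ⟨e⟩⟩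
  · exact h
  · exfalso
    obtain ⟨m, hm⟩ := IsPGroup.iff_card.mp P.isPGroup'
    have hfin : Finite (QuaternionGroup (2 ^ n)) := Finite.of_equiv _ e.toEquiv
    have hz : 2 ^ n ≠ 0 := pow_ne_zero _ (by norm_num)
    have : NeZero (2 ^ n) := ⟨hz⟩
    have h1 : Nat.card P = 4 * 2 ^ n := by
      rw [Nat.card_congr e.toEquiv, Nat.card_eq_fintype_card, QuaternionGroup.card]
    rw [hm] at h1
    have h2 : 2 ∣ q ^ m := by rw [h1]; exact ⟨2 * 2 ^ n, by ring⟩
    exact hq2 ((Nat.prime_dvd_prime_iff_eq Nat.prime_two hq.out).mp (Nat.prime_two.dvd_of_dvd_pow h2)).symm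

theorem cl {G : Type v} [Group G] [Finite G] (e : F ≃ G) (he : ∀ g, orderOf (e g) = orderOf g) : Cl G (Nat.card K) := by
  by_cases h2 : 2 ∣ Nat.card H
  · exact claimB e he hf h2
  have := hf.normal
  refine claimA (Nat.card F) F G e he K rfl (by rw [hf.index]; exact hf.cop) ?_
  intro q hq hqd
  rw [hf.index] at hqd
  have : Fact q.Prime := ⟨hq⟩
  have hq2 : q ≠ 2 := by
    rintro rfl
    exact h2 hqd
  obtain ⟨P⟩ := (inferInstance : Nonempty (Sylow q H))
  have hcyc := hf.sylow_cyclic hq2 P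
  obtain ⟨g, hg⟩ := hcyc.exists_ofOrder_eq_natCard
  refine ⟨((g : H) : F), ?_⟩
  rw [Subgroup.orderOf_coe, Subgroup.orderOf_coe, hg, Sylow.card_eq_multiplicity, hf.fact_eq hq hqd]

theorem exists_frob {G : Type v} [Group G] [Finite G] (e : F ≃ G) (he : ∀ g, orderOf (e g) = orderOf g) :
    ∃ K1 H1 : Subgroup G, Frob K1 H1 ∧ Nat.card K1 = Nat.card K ∧ Nat.card H1 = Nat.card H := by
  have hcl := hf.cl e he
  obtain ⟨k, hk⟩ : ∃ k, k = Nat.card K := ⟨_, rfl⟩
  rw [← hk] at hcl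
  let K1 : Subgroup G :=
    { carrier := {x | x ^ k = 1}
      mul_mem' := fun {x y} hx hy => hcl x y hx hy
      one_mem' := one_pow _
      inv_mem' := fun {x} (hx : x ^ k = 1) => by
        change x⁻¹ ^ k = 1
        rw [inv_pow, hx, inv_one] }
  have hK1n : K1.Normal := ⟨fun x (hx : x ^ k = 1) g => by
    change (g * x * g⁻¹) ^ k = 1
    rw [conj_pow, hx, mul_one, mul_inv_cancel]⟩
  have hcard : Nat.card K1 = k := by
    have h1 := hf.card_pow
    have h3 := card_eq_of_equiv e he (fun m => m ∣ k)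
    have h4 : Nat.card {x : F // x ^ k = 1} = Nat.card {x : F // orderOf x ∣ k} :=
      Nat.card_congr (Equiv.subtypeEquivRight fun x => orderOf_dvd_iff_pow_eq_one.symm)
    have h5 : Nat.card {x : G // x ^ k = 1} = Nat.card {x : G // orderOf x ∣ k} :=
      Nat.card_congr (Equiv.subtypeEquivRight fun x => orderOf_dvd_iff_pow_eq_one.symm)
    rw [← hk, h4, h3, ← h5] at h1
    exact h1
  have hcardG : Nat.card G = k * Nat.card H := by
    rw [hk, hf.card]; exact (Nat.card_congr e).symm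
  have hindex : K1.index = Nat.card H := by
    have h1 := Subgroup.card_mul_index K1
    rw [hcard, hcardG] at h1
    exact Nat.eq_of_mul_eq_mul_left (by rw [hk]; exact Nat.card_pos) h1
  have hcop : Nat.Coprime (Nat.card K1) K1.index := by rw [hcard, hindex, hk]; exact hf.cop
  obtain ⟨H1, hH1⟩ := Subgroup.exists_right_complement'_of_coprime hcop
  have hH1c : Nat.card H1 = Nat.card H := by rw [← hindex]; exact hH1.symm.index_eq_card.symm
  have hK1ne : K1 ≠ ⊥ := by
    intro h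
    rw [h, Subgroup.card_bot, hk] at hcard
    exact hf.K_ne (Subgroup.card_eq_one.mp hcard.symm)
  have hH1ne : H1 ≠ ⊥ := by
    intro h
    rw [h, Subgroup.card_bot] at hH1c
    exact hf.H_ne (Subgroup.card_eq_one.mp hH1c.symm)
  have hfpf : ∀ h ∈ H1, ∀ v ∈ K1, h * v = v * h → h = 1 ∨ v = 1 := by
    intro h hh v hv hc
    by_contra hne
    push Not at hne
    obtain ⟨r, hr, hrd⟩ := Nat.exists_prime_and_dvd (n := orderOf h) (by rw [Ne, orderOf_eq_one_iff]; exact hne.1)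
    obtain ⟨p, hp, hpd⟩ := Nat.exists_prime_and_dvd (n := orderOf v) (by rw [Ne, orderOf_eq_one_iff]; exact hne.2)
    have hrh : r ∣ Nat.card H := by
      rw [← hH1c]
      refine hrd.trans ?_
      rw [← Subgroup.orderOf_mk h hh]; exact orderOf_dvd_natCard _
    have hpk : p ∣ Nat.card K := by
      rw [← hk]
      exact hpd.trans (orderOf_dvd_of_pow_eq_one hv)
    have hpr : p ≠ r := by
      rintro rfl
      exact hp.one_lt.ne' (Nat.eq_one_of_dvd_coprimes hf.cop hpk hrh)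
    obtain ⟨g, hg⟩ := CfsgLib.FgFpf.mul_order hp hr hpr (a := v) (b := h) hc.symm hpd hrd
    refine hf.no_mixed hp hr hpk hrh (e.symm g) ?_
    rw [← he, Equiv.apply_symm_apply, hg]
  refine ⟨K1, H1, ⟨hK1n, hH1, ?_, hfpf⟩, by rw [hcard, hk], hH1c⟩
  refine (Cfsg.Agent.S0039.result K1 H1 hH1 hK1ne hH1ne).mpr ?_
  intro h hh h1
  rw [eq_bot_iff]
  rintro v ⟨hv, hvh⟩
  rcases hfpf h hh v hv (Subgroup.mem_centralizer_singleton_iff.mp hvh).symm with h2 | h2
  · exact absurd h2 h1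
  · exact h2

/-- counting elements of order `s` -/
theorem card_order {s : ℕ} (hs : s.Prime) (hsh : s ∣ Nat.card H) :
    Nat.card F * Nat.card {x : H // orderOf x = s} = Nat.card {x : F // orderOf x = s} * Nat.card H := by
  rw [← Nat.card_prod]
  refine card_eq_mul_of_fiber (fun q : F × {x : H // orderOf x = s} =>
    (⟨q.1 * (q.2.1 : F) * q.1⁻¹, by rw [CfsgLib.FgBas.orderOf_conj, Subgroup.orderOf_coe, q.2.2]⟩ : {x : F // orderOf x = s})) _ ?_
  rintro ⟨y, hy⟩
  obtain ⟨a, ha⟩ := hf.exists_conj hs hsh (x := y) ⟨1, by rw [hy, pow_one]⟩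
  have hy1 : a * y * a⁻¹ ≠ 1 := by
    intro h
    have h5 := CfsgLib.FgBas.orderOf_conj a y
    rw [h, orderOf_one, hy] at h5
    exact hs.one_lt.ne h5
  apply Nat.card_congr
  refine ⟨fun q => ⟨a * q.1.1, ?_⟩, fun h => ⟨(a⁻¹ * h.1, ⟨⟨h.1⁻¹ * (a * y * a⁻¹) * h.1, ?_⟩, ?_⟩), ?_⟩, ?_, ?_⟩
  · have hq : q.1.1 * (q.1.2.1 : F) * q.1.1⁻¹ = y := congrArg Subtype.val q.2
    by_contra hn
    have h1 := hf.fc.2.2 _ hn
    have h3 : a * y * a⁻¹ ∈ H ⊓ (MulAut.conj (a * q.1.1) • H) := by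
      refine ⟨ha, ⟨(q.1.2.1 : F), q.1.2.1.2, ?_⟩⟩
      change a * q.1.1 * (q.1.2.1 : F) * (a * q.1.1)⁻¹ = a * y * a⁻¹
      calc a * q.1.1 * (q.1.2.1 : F) * (a * q.1.1)⁻¹ = a * (q.1.1 * (q.1.2.1 : F) * q.1.1⁻¹) * a⁻¹ := by group
        _ = _ := by rw [hq]
    rw [h1, Subgroup.mem_bot] at h3
    exact hy1 h3
  · have := H.mul_mem (H.mul_mem (H.inv_mem h.2) ha) h.2
    exact this
  · rw [Subgroup.orderOf_mk]
    have h1 := CfsgLib.FgBas.orderOf_conj h.1⁻¹ (a * y * a⁻¹)
    rw [inv_inv] at h1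
    rw [h1, CfsgLib.FgBas.orderOf_conj, hy]
  · apply Subtype.ext
    change a⁻¹ * h.1 * (h.1⁻¹ * (a * y * a⁻¹) * h.1) * (a⁻¹ * h.1)⁻¹ = y
    group
  · rintro ⟨⟨g, x⟩, hq⟩
    have hq' : g * (x.1 : F) * g⁻¹ = y := congrArg Subtype.val hq
    apply Subtype.ext
    refine Prod.ext ?_ ?_
    · change a⁻¹ * (a * g) = g
      group
    · apply Subtype.ext; apply Subtype.ext
      change (a * g)⁻¹ * (a * y * a⁻¹) * (a * g) = x.1
      rw [← hq']; group
  · intro h
    apply Subtype.ext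
    change a * (a⁻¹ * h.1) = h.1
    group

theorem unique5 {s : ℕ} (hs : s.Prime) (hs2 : s ≠ 2) (C C' : Subgroup H) (hC : Nat.card C = s) (hC' : Nat.card C' = s)
    (h : C ≤ Subgroup.normalizer (C' : Set H)) : C = C' := by
  have : Fact s.Prime := ⟨hs⟩
  have hp : IsPGroup s C := IsPGroup.of_card (n := 1) (by rw [pow_one, hC])
  have hp' : IsPGroup s C' := IsPGroup.of_card (n := 1) (by rw [pow_one, hC'])
  have hs' : IsPGroup s (C ⊔ C' : Subgroup H) := hp.to_sup_of_normal_right' hp' h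
  obtain ⟨P, hP⟩ := hs'.exists_le_sylow
  have hcyc := hf.sylow_cyclic hs2 P
  have h1 : C ≤ P := le_sup_left.trans hP
  have h2 : C' ≤ P := le_sup_right.trans hP
  exact CfsgLib.FgCQ.eq_of_card_of_le_cyclic hcyc h1 h2 (hC.trans hC'.symm)

end Frob

end CfsgLib.FgFOT
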