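import Mathlib
import Cfsg.Agent.EqBase
import Cfsg.Agent.LibFgFOT4

/-! order types of Frobenius groups: nonsolvable complements -/

set_option autoImplicit false
set_option linter.unusedSectionVars false

namespace CfsgLib.FgFOT
open CfsgLib.FgCnt
open scoped Pointwise

universe u v

/-- the perfect residual of a nonsolvable group -/
theorem exists_perfect {H : Type u} [Group H] [Finite H] (hns : ¬ Group.IsSolvable H) :
    ∃ D : Subgroup H, D.Normal ∧ ¬ Group.IsSolvable D ∧ commutator D = ⊤ := by
  let S : Set (Subgroup H) := {D | D.Normal ∧ ¬ Group.IsSolvable D}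
  have hS : S.Nonempty := ⟨⊤, inferInstance, fun h => hns (by
    exact Group.isSolvable_of_surjective (f := (Subgroup.topEquiv (G := H)).toMonoidHom) (Subgroup.topEquiv (G := H)).surjective)⟩
  obtain ⟨D, hD⟩ := Set.Finite.exists_minimal (Set.toFinite S) hS
  have hn : D.Normal := hD.prop.1
  refine ⟨D, hn, hD.prop.2, ?_⟩
  by_contra hne
  have hsolv : ¬ Group.IsSolvable (commutator D) := by
    intro h
    apply hD.prop.2
    rw [Group.isSolvable_iff_subgroup_quotient (commutator D)]
    refine ⟨h, ?_⟩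
    exact (inferInstance : Group.IsSolvable (Abelianization D))
  have h1 : (commutator D).map D.subtype ∈ S := by
    refine ⟨inferInstance, fun h => hsolv ?_⟩
    exact Group.isSolvable_of_isSolvable_injective (f := ((commutator D).equivMapOfInjective D.subtype D.subtype_injective).toMonoidHom)
      ((commutator D).equivMapOfInjective D.subtype D.subtype_injective).injective
  have h2 : D ≤ (commutator D).map D.subtype := hD.le_of_le h1 (Subgroup.map_subtype_le _)
  apply hne
  rw [eq_top_iff]
  intro x _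
  obtain ⟨y, hy, hxy⟩ := h2 x.2
  have : y = x := Subtype.ext hxy
  rwa [← this]

namespace Frob
variable {F : Type u} [Group F] [Finite F] {K H : Subgroup F} (hf : Frob K H)
include hf

theorem nonsolvable (hns : ¬ Group.IsSolvable H) : 5 ∣ Nat.card H ∧ Nat.card {x : H // orderOf x = 5} = 24 := by
  have h5 : Fact (Nat.Prime 5) := ⟨by norm_num⟩
  obtain ⟨D, hDn, hDs, hDp⟩ := exists_perfect hns
  have := hf.normal
  let φ : D →* MulAut K := (MulAut.conjNormal (H := K)).comp (H.subtype.comp D.subtype)
  have hφ : ∀ (d : D) (k : K), ((φ d k : K) : F) = ((d : H) : F) * k * ((d : H) : F)⁻¹ := fun d k => MulAut.conjNormal_apply _ _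
  obtain ⟨v, hv, hv1⟩ := (Subgroup.ne_bot_iff_exists_ne_one).mp hf.K_ne |>.elim fun v hv =>
    (⟨v.1, v.2, fun h => hv (Subtype.ext h)⟩ : ∃ v ∈ K, v ≠ 1)
  have hfix : ∀ (d : D) (k : K), φ d k = k → d = 1 ∨ k = 1 := by
    intro d k h
    have h1 := congrArg Subtype.val h
    rw [hφ, mul_inv_eq_iff_eq_mul] at h1
    rcases hf.fpf _ (d : H).2 _ k.2 h1 with h2 | h2
    · left
      exact Subtype.ext (Subtype.ext h2)
    · right
      exact Subtype.ext h2
  have hinj : Function.Injective φ := by
    rw [injective_iff_map_eq_one]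
    intro d hd
    rcases hfix d ⟨v, hv⟩ (by rw [hd]; rfl) with h | h
    · exact h
    · exact absurd (congrArg Subtype.val h) hv1
  have hne : φ.range ≠ ⊥ := by
    intro h
    apply hDs
    have h1 : Subsingleton D := by
      constructor
      intro a b
      apply hinj
      have ha : φ a ∈ φ.range := ⟨a, rfl⟩
      have hb : φ b ∈ φ.range := ⟨b, rfl⟩
      rw [h, Subgroup.mem_bot] at ha hb
      rw [ha, hb]
    infer_instance
  have hperf : commutator φ.range = ⊤ := by
    rw [eq_top_iff]
    have h1 : (commutator D).map φ.rangeRestrict = commutator φ.range := by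
      rw [commutator_def, commutator_def, Subgroup.map_commutator]
      congr 1 <;> exact Subgroup.map_top_of_surjective _ φ.rangeRestrict_surjective
    rw [← h1, hDp]
    exact (Subgroup.map_top_of_surjective _ φ.rangeRestrict_surjective).ge
  obtain ⟨e1⟩ := Cfsg.Agent.S0690.result φ.range (by
    rintro _ ⟨d, rfl⟩ hd k hk
    rcases hfix d k hk with h | h
    · rw [h, map_one] at hd
      exact absurd rfl hd
    · exact h) hperf hne
  let e : D ≃* Matrix.SpecialLinearGroup (Fin 2) (ZMod 5) := (MonoidHom.ofInjective hinj).trans e1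
  have hcnt : Nat.card {x : D // orderOf x = 5} = 24 := by
    rw [← sl25]
    exact Nat.card_congr (e.toEquiv.subtypeEquiv fun x => by
      change _ ↔ orderOf (e x) = 5
      rw [MulEquiv.orderOf_eq])
  have hDcard : Nat.card D = 120 := by
    rw [Nat.card_congr e.toEquiv, Cfsg.Agent.H22.card_SL2, ZMod.card]
  have h5D : 5 ∣ Nat.card D := by rw [hDcard]; norm_num
  refine ⟨h5D.trans (Subgroup.card_subgroup_dvd_card D), ?_⟩
  rw [← hcnt]
  -- every element of order five lies in D
  have hmem : ∀ x : H, orderOf x = 5 → x ∈ D := by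
    intro x hx
    obtain ⟨P⟩ := (inferInstance : Nonempty (Sylow 5 H))
    obtain ⟨a, ha⟩ := CfsgLib.FgBas.exists_conj_mem P (x := x) ⟨1, by rw [hx, pow_one]⟩
    obtain ⟨y, hy⟩ := exists_prime_orderOf_dvd_card' (G := D) 5 h5D
    have hyo : orderOf (y : H) = 5 := by rw [Subgroup.orderOf_coe, hy]
    obtain ⟨b, hb⟩ := CfsgLib.FgBas.exists_conj_mem P (x := (y : H)) ⟨1, by rw [hyo, pow_one]⟩
    have hcyc := hf.sylow_cyclic (by norm_num) P
    have h1 : Subgroup.zpowers (a * x * a⁻¹) = Subgroup.zpowers (b * (y : H) * b⁻¹) :=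
      CfsgLib.FgCQ.eq_of_card_of_le_cyclic hcyc (Subgroup.zpowers_le.mpr ha) (Subgroup.zpowers_le.mpr hb) (by
        rw [Nat.card_zpowers, Nat.card_zpowers, CfsgLib.FgBas.orderOf_conj, CfsgLib.FgBas.orderOf_conj, hx, hyo])
    have h2 : a * x * a⁻¹ ∈ D := by
      have h3 : a * x * a⁻¹ ∈ Subgroup.zpowers (b * (y : H) * b⁻¹) := by rw [← h1]; exact Subgroup.mem_zpowers _
      refine (Subgroup.zpowers_le.mpr ?_) h3
      exact hDn.conj_mem _ y.2 b
    have h3 := hDn.conj_mem _ h2 a⁻¹
    have e4 : a⁻¹ * (a * x * a⁻¹) * a⁻¹⁻¹ = x := by group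
    rwa [e4] at h3
  apply Nat.card_congr
  refine ⟨fun x => ⟨⟨x.1, hmem x.1 x.2⟩, by rw [Subgroup.orderOf_mk]; exact x.2⟩,
    fun x => ⟨x.1.1, by rw [Subgroup.orderOf_coe]; exact x.2⟩, fun x => rfl, fun x => rfl⟩

end Frob

theorem solv_of {F : Type u} {G : Type v} [Group F] [Finite F] [Group G] [Finite G] {K H : Subgroup F} {K1 H1 : Subgroup G}
    (hf : Frob K H) (hg : Frob K1 H1) (e : F ≃ G) (he : ∀ g, orderOf (e g) = orderOf g) (hc : Nat.card H1 = Nat.card H)
    (hs : Group.IsSolvable H1) : Group.IsSolvable H := by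
  by_contra hns
  obtain ⟨h5, h24⟩ := hf.nonsolvable hns
  have e1 := hf.card_order (by norm_num : Nat.Prime 5) h5
  have e2 := hg.card_order (by norm_num : Nat.Prime 5) (by rw [hc]; exact h5)
  rw [hc, ← card_eq_of_equiv e he (fun m => m = 5), ← Nat.card_congr e, ← e1] at e2
  have e3 := Nat.eq_of_mul_eq_mul_left Nat.card_pos e2
  rw [h24, cnt_eq (by norm_num : Nat.Prime 5)] at e3
  have e4 : Nat.card {C : Subgroup H1 // Nat.card C = 5} = 6 := by omega
  exact no_solv hs (fun C C' h h' hn => hg.unique5 (by norm_num) (by norm_num) C C' h h' hn) e4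

/-- solvability of a Frobenius group -/
theorem Frob.solv_iff {F : Type u} [Group F] [Finite F] {K H : Subgroup F} (hf : Frob K H) :
    Group.IsSolvable F ↔ Group.IsSolvable H := by
  constructor
  · intro h
    infer_instance
  · intro h
    have := hf.normal
    obtain ⟨N, hN, hNn, hnil⟩ := Cfsg.Agent.S0042.result H hf.fc
    obtain ⟨N', hN', hf'⟩ := Frob.of_compl hf.fc
    have e0 : N = N' := SetLike.coe_injective (hN.trans hN'.symm)
    subst e0
    rw [Group.isSolvable_iff_subgroup_quotient N]
    have h1 : Group.IsSolvable N := by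
      have := hnil
      infer_instance
    refine ⟨h1, ?_⟩
    have e := hf'.compl.symm.QuotientMulEquiv
    exact Group.isSolvable_of_isSolvable_injective (f := e.toMonoidHom) e.injective

end CfsgLib.FgFOT
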