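import Mathlib
import Cfsg.Agent.EqBase
import Cfsg.Agent.LibFPF2

/-! two-Engel groups, fixed point free automorphisms of order 2 and 3 -/

set_option autoImplicit false
open scoped commutatorElement

namespace CfsgLib.FgFpf
open CfsgLib.FPF1

theorem ring_lemma {R : Type*} [Ring R] (Y Z : R) (hY : Y * Y = 0) (hZ : Z * Z = 0)
    (h : (Y + Z + Y * Z) * (Y + Z + Y * Z) = 0) : Y * Z + Z * Y = 0 := by
  have e : (Y + Z + Y * Z) * (Y + Z + Y * Z) = Y * Y + Y * Z + (Y * Y) * Z + Z * Y + Z * Z +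
      Z * Y * Z + Y * Z * Y + Y * (Z * Z) + Y * Z * Y * Z := by noncomm_ring
  rw [e, hY, hZ] at h
  simp only [zero_mul, mul_zero, add_zero, zero_add] at h
  have h1 : Y * Z * Y = 0 := by
    have h2 : Y * (Y * Z + Z * Y + Z * Y * Z + Y * Z * Y + Y * Z * Y * Z) * (1 - Z) = 0 := by
      rw [h, mul_zero, zero_mul]
    have h3 : Y * (Y * Z + Z * Y + Z * Y * Z + Y * Z * Y + Y * Z * Y * Z) * (1 - Z)
      = (Y * Y) * (Z + Z * Y + Z * Y * Z) * (1 - Z) + Y * Z * Y - Y * Z * Y * (Z * Z) := by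
      noncomm_ring
    rw [h3, hY, hZ] at h2
    simpa using h2
  have h1' : Z * Y * Z = 0 := by
    have h2 : (1 - Y) * (Y * Z + Z * Y + Z * Y * Z + Y * Z * Y + Y * Z * Y * Z) * Z = 0 := by
      rw [h, mul_zero, zero_mul]
    have h3 : (1 - Y) * (Y * Z + Z * Y + Z * Y * Z + Y * Z * Y + Y * Z * Y * Z) * Z
      = (1 - Y) * (Y + Z * Y + Y * Z * Y) * (Z * Z) + Z * Y * Z - (Y * Y) * (Z * Y * Z) := by
      noncomm_ring
    rw [h3, hY, hZ] at h2
    simpa using h2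
  rw [h1', h1] at h
  simpa using h

section Engel
variable {G : Type*} [Group G] (hE : ∀ x g : G, Commute x (g * x * g⁻¹))
include hE

theorem comm_left (x y : G) : Commute x ⁅x, y⁆ := by
  have h := (hE x y).inv_right
  have e : ⁅x, y⁆ = x * (y * x * y⁻¹)⁻¹ := by rw [commutatorElement_def]; group
  rw [e]
  exact (Commute.refl x).mul_right h

theorem comm_right (x y : G) : Commute y ⁅x, y⁆ := by
  have h := hE y x
  have e : ⁅x, y⁆ = (x * y * x⁻¹) * y⁻¹ := by rw [commutatorElement_def]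
  rw [e]
  exact h.mul_right (Commute.refl y).inv_right

theorem comm_closure (x : G) : ∀ a ∈ Subgroup.normalClosure {x}, ∀ b ∈ Subgroup.normalClosure {x},
    a * b = b * a := by
  have h0 : ∀ g h : G, Commute (g * x * g⁻¹) (h * x * h⁻¹) := by
    intro g h
    have := (hE x (g⁻¹ * h))
    have h1 := this.map (MulAut.conj g)
    simp only [MulAut.conj_apply] at h1
    have e : g * (g⁻¹ * h * x * (g⁻¹ * h)⁻¹) * g⁻¹ = h * x * h⁻¹ := by group
    rwa [e] at h1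
  intro a ha b hb
  have key : Subgroup.normalClosure {x} ≤ Subgroup.centralizer (Subgroup.normalClosure {x} : Set G) := by
    rw [Subgroup.normalClosure, Subgroup.centralizer_closure, Subgroup.closure_le]
    intro c hc
    obtain ⟨c', hc', hcc⟩ := Group.mem_conjugatesOfSet_iff.mp hc
    rw [Set.mem_singleton_iff] at hc'
    subst hc'
    obtain ⟨g, rfl⟩ := isConj_iff.mp hcc
    rw [SetLike.mem_coe, Subgroup.mem_centralizer_iff]
    intro d hd
    obtain ⟨d', hd', hdd⟩ := Group.mem_conjugatesOfSet_iff.mp hd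
    rw [Set.mem_singleton_iff] at hd'
    subst hd'
    obtain ⟨h, rfl⟩ := isConj_iff.mp hdd
    exact (h0 h g).eq
  exact (Subgroup.mem_centralizer_iff.mp (key hb) a ha)

/-- `[y,[z,x]] [z,[y,x]] = 1` -/
theorem key1 (x y z : G) : ⁅y, ⁅z, x⁆⁆ * ⁅z, ⁅y, x⁆⁆ = 1 := by
  set A := Subgroup.normalClosure ({x} : Set G) with hA
  let _ : CommGroup A := { (inferInstance : Group A) with
    mul_comm := fun a b => Subtype.ext (comm_closure hE x a a.2 b b.2) }
  let ρ : G → AddMonoid.End (Additive A) := fun g => (MulAut.conjNormal g : MulAut A).toMonoidHom.toAdditive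
  have hρ : ∀ g h, ρ (g * h) = ρ g * ρ h := by
    intro g h
    refine AddMonoidHom.ext (fun u => ?_)
    change Additive.ofMul ((MulAut.conjNormal (g * h) : MulAut A) u.toMul) =
      Additive.ofMul ((MulAut.conjNormal g : MulAut A) ((MulAut.conjNormal h : MulAut A) u.toMul))
    rw [map_mul]; rfl
  -- (ρ y - 1) u = [y, u]
  have h1 : ∀ (g : G) (u : A), (((ρ g - 1) (Additive.ofMul u)).toMul : G) = ⁅g, (u : G)⁆ := by
    intro g u
    have e : (ρ g - 1) (Additive.ofMul u) = Additive.ofMul ((MulAut.conjNormal g : MulAut A) u * u⁻¹) := by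
      change ρ g (Additive.ofMul u) - Additive.ofMul u = _
      rw [sub_eq_add_neg]
      rfl
    rw [e, toMul_ofMul, Subgroup.coe_mul, MulAut.conjNormal_apply, Subgroup.coe_inv, commutatorElement_def]
  have h2 : ∀ g, (ρ g - 1) * (ρ g - 1) = 0 := by
    intro g
    refine AddMonoidHom.ext (fun u => ?_)
    have e : (((ρ g - 1) ((ρ g - 1) u)).toMul : G) = 1 := by
      have := h1 g ((ρ g - 1) u).toMul
      rw [ofMul_toMul] at this
      rw [this]
      have h3 := h1 g u.toMul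
      rw [ofMul_toMul] at h3
      rw [h3, commutatorElement_eq_one_iff_commute]
      exact comm_left hE g _
    have e2 : ((ρ g - 1) ((ρ g - 1) u)).toMul = 1 := Subtype.ext e
    exact e2
  have h3 := ring_lemma (ρ y - 1) (ρ z - 1) (h2 y) (h2 z) (by
    have e : (ρ y - 1 + (ρ z - 1) + (ρ y - 1) * (ρ z - 1)) = ρ (y * z) - 1 := by
      rw [hρ]; simp only [sub_mul, mul_sub, one_mul, mul_one]; abel
    rw [e, h2])
  have hx : x ∈ A := Subgroup.subset_normalClosure rfl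
  have h4 := congrArg (fun f : AddMonoid.End (Additive A) => ((f (Additive.ofMul ⟨x, hx⟩)).toMul : G)) h3
  have h5 : ∀ (g h : G), (((ρ g - 1) * (ρ h - 1)) (Additive.ofMul ⟨x, hx⟩)).toMul = (⁅g, ⁅h, x⁆⁆ : G) := by
    intro g h
    change ((((ρ g - 1) ((ρ h - 1) (Additive.ofMul ⟨x, hx⟩))).toMul : A) : G) = _
    have := h1 g ((ρ h - 1) (Additive.ofMul ⟨x, hx⟩)).toMul
    rw [ofMul_toMul] at this
    rw [this, h1]
  have h6 : ((((ρ y - 1) * (ρ z - 1) + (ρ z - 1) * (ρ y - 1)) (Additive.ofMul ⟨x, hx⟩)).toMul : G)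
      = ⁅y, ⁅z, x⁆⁆ * ⁅z, ⁅y, x⁆⁆ := by
    rw [← h5 y z, ← h5 z y]
    rfl
  rw [← h6]
  exact h4

theorem swap_inner (x y z : G) : ⁅z, ⁅x, y⁆⁆ = ⁅z, ⁅y, x⁆⁆⁻¹ := by
  rw [← commutatorElement_inv y x]
  have h := comm_right hE z ⁅y, x⁆
  have e : ⁅z, ⁅y, x⁆⁻¹⁆ = ⁅y, x⁆⁻¹ * ⁅z, ⁅y, x⁆⁆⁻¹ * ⁅y, x⁆ := by
    simp only [commutatorElement_def]; group
  rw [e, mul_assoc, ← h.inv_right.eq, ← mul_assoc, inv_mul_cancel, one_mul]

/-- two-Engel groups: triple commutators have order dividing 3 -/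
theorem engel_three (x y z : G) : ⁅x, ⁅y, z⁆⁆ ^ 3 = 1 := by
  -- g(a,b,c) = [a,[b,c]]
  have s1 : ∀ a b c : G, ⁅a, ⁅b, c⁆⁆ = ⁅b, ⁅a, c⁆⁆⁻¹ := fun a b c =>
    eq_inv_of_mul_eq_one_left (key1 hE c a b)
  have s2 : ∀ a b c : G, ⁅a, ⁅b, c⁆⁆ = ⁅a, ⁅c, b⁆⁆⁻¹ := fun a b c => swap_inner hE b c a
  have c1 : ∀ a b c : G, ⁅a, ⁅b, c⁆⁆ = ⁅b, ⁅c, a⁆⁆ := fun a b c => by
    rw [s1 a b c, s2 b a c, inv_inv]
  -- inverse in the second variable
  have i1 : ∀ b c : G, ⁅b⁻¹, c⁆ = ⁅b, c⁆⁻¹ := by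
    intro b c
    have h := comm_left hE b c
    have e : ⁅b⁻¹, c⁆ = b⁻¹ * ⁅b, c⁆⁻¹ * b := by simp only [commutatorElement_def]; group
    rw [e, mul_assoc, ← h.inv_right.eq, ← mul_assoc, inv_mul_cancel, one_mul]
  have i2 : ∀ a b c : G, ⁅a, ⁅b⁻¹, c⁆⁆ = ⁅a, ⁅b, c⁆⁆⁻¹ := by
    intro a b c
    rw [i1, commutatorElement_inv, s2 a c b]
  have c2 : ∀ a b c : G, b * ⁅a, ⁅b, c⁆⁆⁻¹ * b⁻¹ = ⁅a, ⁅b, c⁆⁆⁻¹ := by
    intro a b c
    have : Commute b ⁅a, ⁅b, c⁆⁆ := by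
      rw [s1]; exact (comm_left hE b _).inv_right
    rw [this.inv_right.eq, mul_inv_cancel_right]
  have hw : (y * ⁅x, ⁅y⁻¹, z⁆⁆ * y⁻¹) * (z * ⁅y, ⁅z⁻¹, x⁆⁆ * z⁻¹) * (x * ⁅z, ⁅x⁻¹, y⁆⁆ * x⁻¹) = 1 := by
    simp only [commutatorElement_def]; group
  rw [i2, i2, i2, c2, c2, c2, ← c1 x y z, ← c1 y z x, ← c1 x y z] at hw
  have : (⁅x, ⁅y, z⁆⁆ ^ 3)⁻¹ = 1 := by
    rw [← hw, pow_succ, pow_two, mul_inv_rev, mul_inv_rev, mul_assoc]
  simpa using this

end Engel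

section Three
variable {N : Type*} [Group N] [Finite N] (φ : N →* N) (hφ : ∀ g, φ g = g → g = 1)
  (h3 : ∀ g, φ (φ (φ g)) = g)
include hφ

theorem exists_comm_eq (g : N) : ∃ k, g = k⁻¹ * φ k := by
  have hinj : Function.Injective (fun k : N => k⁻¹ * φ k) := by
    intro a b hab
    simp only at hab
    have h1 : φ (b * a⁻¹) = b * a⁻¹ := by
      rw [map_mul, map_inv]
      have h2 : φ b = b * (a⁻¹ * φ a) := by rw [hab]; group
      rw [h2]; group
    have h2 := hφ _ h1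
    rw [mul_inv_eq_one] at h2
    exact h2.symm
  obtain ⟨k, hk⟩ := Finite.surjective_of_injective hinj g
  exact ⟨k, hk.symm⟩

include h3

theorem norm3 (g : N) : g * φ g * φ (φ g) = 1 := by
  obtain ⟨k, rfl⟩ := exists_comm_eq φ hφ g
  simp only [map_mul, map_inv, h3]; group

theorem norm3' (g : N) : g * φ (φ g) * φ g = 1 := by
  have := norm3 (φ.comp φ) (fun g hg => hφ _ (by
    simp only [MonoidHom.comp_apply] at hg
    have h1 := congrArg φ hg
    rw [h3] at h1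
    exact h1.symm)) (fun g => by simp only [MonoidHom.comp_apply, h3]) g
  simpa only [MonoidHom.comp_apply, h3] using this

theorem comm_phi (g : N) : Commute g (φ g) := by
  have h1 := norm3 φ hφ h3 g
  have h2 := norm3' φ hφ h3 g
  have e1 : φ (φ g) = (g * φ g)⁻¹ := eq_inv_of_mul_eq_one_right h1
  have e2 : g * φ (φ g) = (φ g)⁻¹ := eq_inv_of_mul_eq_one_left h2
  have e3 : φ (φ g) = (φ g * g)⁻¹ := by
    rw [mul_inv_rev, ← e2]; group
  rw [e1] at e3
  exact inv_injective e3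

theorem comm_phi_conj (g h : N) : Commute g (h * φ g * h⁻¹) := by
  obtain ⟨k, rfl⟩ := exists_comm_eq φ hφ h
  have h0 := comm_phi φ hφ h3 (k * g * k⁻¹)
  rw [map_mul φ, map_mul φ, map_inv φ] at h0
  have h1 := h0.map (MulAut.conj k⁻¹)
  simp only [MulAut.conj_apply] at h1
  have e1 : k⁻¹ * (k * g * k⁻¹) * k⁻¹⁻¹ = g := by group
  have e2 : k⁻¹ * φ k * φ g * (k⁻¹ * φ k)⁻¹ = k⁻¹ * (φ k * φ g * (φ k)⁻¹) * k⁻¹⁻¹ := by group
  rw [e2]
  rwa [e1] at h1

theorem three_engel (g h : N) : Commute g (h * g * h⁻¹) := by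
  have h1 := comm_phi_conj φ hφ h3 g h
  have h2 : Commute g (h * φ (φ g) * h⁻¹) := by
    have := comm_phi_conj φ hφ h3 (φ (φ g)) h⁻¹
    rw [h3] at this
    have h4 := this.symm.map (MulAut.conj h)
    simp only [MulAut.conj_apply] at h4
    have e : h * (h⁻¹ * g * h⁻¹⁻¹) * h⁻¹ = g := by group
    rwa [e] at h4
  have e : h * g * h⁻¹ = ((h * φ g * h⁻¹) * (h * φ (φ g) * h⁻¹))⁻¹ := by
    have := norm3 φ hφ h3 g
    have e1 : g = (φ g * φ (φ g))⁻¹ := by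
      rw [eq_inv_iff_mul_eq_one, ← mul_assoc, this]
    nth_rewrite 1 [e1]
    group
  rw [e]
  exact (h1.mul_right h2).inv_right

theorem class_two (hc : ¬ 3 ∣ Nat.card N) (x y z : N) : ⁅x, ⁅y, z⁆⁆ = 1 := by
  have h := engel_three (three_engel φ hφ h3) x y z
  rw [← orderOf_dvd_iff_pow_eq_one] at h
  rcases (Nat.dvd_prime Nat.prime_three).mp h with h1 | h1
  · exact orderOf_eq_one_iff.mp h1
  · exact absurd (h1 ▸ orderOf_dvd_natCard _) hc

end Three

section Ambient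
variable {G : Type*} [Group G] [Finite G] {N : Subgroup G} [hN : N.Normal]

/-- conjugation as an endomorphism of `N` -/
def cj (N : Subgroup G) [N.Normal] (x : G) : N →* N := (MulAut.conjNormal x : MulAut N).toMonoidHom

theorem coe_cj (x : G) (v : N) : ((cj N x v : N) : G) = x * v * x⁻¹ := MulAut.conjNormal_apply x v

theorem exists_conj {t : G} (hfix : ∀ v ∈ N, t * v = v * t → v = 1) {v : G} (hv : v ∈ N) :
    ∃ k ∈ N, v = k⁻¹ * (t * k * t⁻¹) := by
  obtain ⟨k, hk⟩ := exists_comm_eq (cj N t) (fun g hg => by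
    have h1 := congrArg (Subtype.val) hg
    rw [coe_cj, mul_inv_eq_iff_eq_mul] at h1
    exact Subtype.ext (hfix g g.2 h1)) ⟨v, hv⟩
  refine ⟨k, k.2, ?_⟩
  have := congrArg (Subtype.val) hk
  rwa [Subgroup.coe_mul, Subgroup.coe_inv, coe_cj] at this

theorem inv_of_sq {t : G} (ht : t ^ 2 = 1) (hfix : ∀ v ∈ N, t * v = v * t → v = 1) {v : G} (hv : v ∈ N) :
    t * v * t⁻¹ = v⁻¹ := by
  obtain ⟨k, hk, rfl⟩ := exists_conj hfix hv
  have e : t⁻¹ = t := by rw [inv_eq_iff_mul_eq_one, ← pow_two, ht]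
  have e2 : t * t = 1 := by rw [← pow_two, ht]
  simp only [mul_inv_rev, inv_inv, e]
  calc t * (k⁻¹ * (t * k * t)) * t = t * k⁻¹ * t * k * (t * t) := by group
    _ = t * (k⁻¹ * t) * k := by rw [e2]; group

theorem comm_of_inv {t : G} (h : ∀ v ∈ N, t * v * t⁻¹ = v⁻¹) {v w : G} (hv : v ∈ N) (hw : w ∈ N) :
    v * w = w * v := by
  have h1 := h (v * w) (N.mul_mem hv hw)
  have h2 : t * (v * w) * t⁻¹ = (t * v * t⁻¹) * (t * w * t⁻¹) := by group
  rw [h2, h v hv, h w hw] at h1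
  have := congrArg (·⁻¹) h1
  simp only [mul_inv_rev, inv_inv] at this
  exact this.symm

section X
variable {x : G} (hx : x ^ 3 = 1) (hfix : ∀ v ∈ N, x * v = v * x → v = 1)
include hx hfix

theorem amb_hyp : (∀ g, cj N x g = g → g = 1) ∧ ∀ g, cj N x (cj N x (cj N x g)) = g := by
  constructor
  · intro g hg
    have h1 := congrArg (Subtype.val) hg
    rw [coe_cj, mul_inv_eq_iff_eq_mul] at h1
    exact Subtype.ext (hfix g g.2 h1)
  · intro g
    apply Subtype.ext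
    rw [coe_cj, coe_cj, coe_cj]
    calc x * (x * (x * g * x⁻¹) * x⁻¹) * x⁻¹ = x ^ 3 * g * (x ^ 3)⁻¹ := by rw [pow_succ, pow_two]; group
      _ = g := by rw [hx]; group

theorem amb_class_two (hc : ¬ 3 ∣ Nat.card N) {a b c : G} (ha : a ∈ N) (hb : b ∈ N) (hc' : c ∈ N) :
    ⁅a, ⁅b, c⁆⁆ = 1 := by
  obtain ⟨h1, h2⟩ := amb_hyp hx hfix
  have := class_two (cj N x) h1 h2 hc ⟨a, ha⟩ ⟨b, hb⟩ ⟨c, hc'⟩
  exact congrArg Subtype.val this

theorem amb_norm {v : G} (hv : v ∈ N) : v * (x * v * x⁻¹) * (x * (x * v * x⁻¹) * x⁻¹) = 1 := by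
  obtain ⟨h1, h2⟩ := amb_hyp hx hfix
  have := congrArg Subtype.val (norm3 (cj N x) h1 h2 ⟨v, hv⟩)
  simpa only [Subgroup.coe_mul, coe_cj, Subgroup.coe_one] using this

end X

end Ambient

end CfsgLib.FgFpf
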