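import Mathlib
import Cfsg.Agent.EqBase
import Cfsg.Agent.LibFgFpf
import Cfsg.Agent.LibCores
import Cfsg.Agent.LibFgBas
import Cfsg.Agent.S0144

/-! groups without elements of order 6 -/

set_option autoImplicit false
open scoped commutatorElement

namespace CfsgLib.FgFpf
open CfsgLib.FPF1 Cfsg

variable {G : Type*} [Group G] [Finite G]

theorem orderOf_pow_prime {g : G} {p : ℕ} (hd : p ∣ orderOf g) : orderOf (g ^ (orderOf g / p)) = p :=
  orderOf_pow_orderOf_div (orderOf_pos g).ne' hd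

theorem mul_order {p q : ℕ} (hp : p.Prime) (hq : q.Prime) (hpq : p ≠ q) {a b : G} (hab : a * b = b * a)
    (ha : p ∣ orderOf a) (hb : q ∣ orderOf b) : ∃ g : G, orderOf g = p * q := by
  refine ⟨a ^ (orderOf a / p) * b ^ (orderOf b / q), ?_⟩
  have h : Commute (a ^ (orderOf a / p)) (b ^ (orderOf b / q)) := Commute.pow_pow hab _ _
  rw [h.orderOf_mul_eq_mul_orderOf_of_coprime, orderOf_pow_prime ha, orderOf_pow_prime hb]
  rw [orderOf_pow_prime ha, orderOf_pow_prime hb]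
  exact (Nat.coprime_primes hp hq).mpr hpq

theorem dvd_orderOf_of_mem {p : ℕ} (hp : p.Prime) {A : Subgroup G} (hA : IsPGroup p A) {a : G} (ha : a ∈ A)
    (h1 : a ≠ 1) : p ∣ orderOf a := by
  have : Fact p.Prime := ⟨hp⟩
  obtain ⟨i, hi⟩ := CfsgLib.FgBas.orderOf_eq_pow hA ha
  rcases i with _ | i
  · rw [pow_zero, orderOf_eq_one_iff] at hi
    exact absurd hi h1
  · rw [hi]; exact dvd_pow_self _ (Nat.succ_ne_zero _)

theorem fpf_of_orders {p q : ℕ} (hp : p.Prime) (hq : q.Prime) (hpq : p ≠ q)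
    (h : ∀ g : G, orderOf g ≠ p * q) {A V : Subgroup G} (hA : IsPGroup p A) (hV : IsPGroup q V) :
    FPF A V := by
  intro a ha ha1
  rw [eq_bot_iff]
  rintro v ⟨hv, hvc⟩
  rw [Subgroup.mem_bot]
  by_contra hv1
  obtain ⟨g, hg⟩ := mul_order hp hq hpq (a := a) (b := v)
    (Subgroup.mem_centralizer_singleton_iff.mp hvc).symm
    (dvd_orderOf_of_mem hp hA ha ha1) (dvd_orderOf_of_mem hq hV hv hv1)
  exact h g hg

theorem FPF.eq_one {A V : Subgroup G} (h : FPF A V) {a : G} (ha : a ∈ A) (h1 : a ≠ 1) {v : G} (hv : v ∈ V)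
    (hc : a * v = v * a) : v = 1 := by
  have : v ∈ V ⊓ Subgroup.centralizer {a} := ⟨hv, Subgroup.mem_centralizer_singleton_iff.mpr hc.symm⟩
  rw [h a ha h1] at this
  exact this

theorem isPGroup_zpowers_prime {p : ℕ} {x : G} (h : orderOf x = p) : IsPGroup p (Subgroup.zpowers x) :=
  CfsgLib.FgBas.isPGroup_zpowers (k := 1) (by rw [h, pow_one])

theorem isPGroup_of_primes {H : Type*} [Group H] [Finite H] {p : ℕ} (hp : p.Prime)
    (h : ∀ r : ℕ, r.Prime → r ∣ Nat.card H → r = p) : IsPGroup p H := by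
  have : Fact p.Prime := ⟨hp⟩
  exact IsPGroup.iff_card.mpr ⟨_, Nat.eq_prime_pow_of_unique_prime_dvd Nat.card_pos.ne'
    (fun {d} hd hdd => h d hd hdd)⟩

theorem card_eq (hpr : ∀ r : ℕ, r.Prime → r ∣ Nat.card G → r = 2 ∨ r = 3) :
    ∃ a b, Nat.card G = 2 ^ a * 3 ^ b := by
  obtain ⟨a, m, hm, h⟩ := Nat.exists_eq_pow_mul_and_not_dvd (Nat.card_pos (α := G)).ne' 2 (by norm_num)
  refine ⟨a, _, h.trans (congrArg _ (Nat.eq_prime_pow_of_unique_prime_dvd (p := 3) ?_ ?_))⟩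
  · rintro rfl; exact hm (dvd_zero _)
  · intro d hd hdm
    rcases hpr d hd (h ▸ hdm.mul_left _) with rfl | rfl
    · exact absurd hdm hm
    · rfl

theorem isSolvable (hpr : ∀ r : ℕ, r.Prime → r ∣ Nat.card G → r = 2 ∨ r = 3) : Group.IsSolvable G := by
  obtain ⟨a, b, h⟩ := card_eq hpr
  exact Cfsg.Agent.S0144.result 2 3 a b Nat.prime_two Nat.prime_three h

theorem card_sylow_eq {p q k : ℕ} [hp : Fact p.Prime] (hq : q.Prime) (hpq : p ≠ q) {N : Subgroup G}
    (hN : IsPGroup q N) (hidx : N.index = p ^ k) (S : Sylow p G) : Nat.card S = N.index := by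
  have : Fact q.Prime := ⟨hq⟩
  obtain ⟨j, hj⟩ := IsPGroup.iff_card.mp hN
  obtain ⟨a, ha⟩ := IsPGroup.iff_card.mp S.isPGroup'
  have h1 := Subgroup.card_mul_index N
  have h2 := Subgroup.card_mul_index (S : Subgroup G)
  have h3 : ¬ p ∣ (S : Subgroup G).index := S.not_dvd_index
  apply Nat.dvd_antisymm
  · have : Nat.card S ∣ Nat.card N * N.index := h1 ▸ h2 ▸ Dvd.intro _ rfl
    refine Nat.Coprime.dvd_of_dvd_mul_left ?_ this
    rw [hj, show Nat.card S = p ^ a from ha]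
    exact Nat.Coprime.pow _ _ ((Nat.coprime_primes hp.out hq).mpr hpq)
  · have : N.index ∣ Nat.card (S : Subgroup G) * (S : Subgroup G).index := by
      rw [h2, ← h1]; exact Dvd.intro_left _ rfl
    refine Nat.Coprime.dvd_of_dvd_mul_right ?_ this
    rw [hidx]
    exact Nat.Coprime.pow_left _ ((Nat.Prime.coprime_iff_not_dvd hp.out).mpr h3)

theorem complement_sylow {p q k : ℕ} [hp : Fact p.Prime] (hq : q.Prime) (hpq : p ≠ q) {N : Subgroup G}
    (hN : IsPGroup q N) (hidx : N.index = p ^ k) (S : Sylow p G) : N.IsComplement' (S : Subgroup G) := by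
  have h := card_sylow_eq hq hpq hN hidx S
  apply Subgroup.isComplement'_of_coprime
  · rw [show Nat.card (S : Subgroup G) = N.index from h, Subgroup.card_mul_index]
  · have : Fact q.Prime := ⟨hq⟩
    obtain ⟨j, hj⟩ := IsPGroup.iff_card.mp hN
    obtain ⟨a, ha⟩ := IsPGroup.iff_card.mp S.isPGroup'
    rw [hj, show Nat.card (S : Subgroup G) = p ^ a from ha]
    exact Nat.Coprime.pow _ _ ((Nat.coprime_primes hq hp.out).mpr hpq.symm)

section Core3
variable (hpr : ∀ r : ℕ, r.Prime → r ∣ Nat.card G → r = 2 ∨ r = 3) (h6 : ∀ g : G, orderOf g ≠ 6)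
include hpr h6

/-- `O_q(G) ≠ 1` implies `C_G(O_q(G)) ≤ O_q(G)`. -/
theorem centralizer_le {q r : ℕ} (hqr : (q = 3 ∧ r = 2) ∨ (q = 2 ∧ r = 3)) (hN : pCore q G ≠ ⊥) :
    Subgroup.centralizer (pCore q G : Set G) ≤ pCore q G := by
  have hq : q.Prime := by rcases hqr with ⟨rfl, rfl⟩ | ⟨rfl, rfl⟩ <;> norm_num
  have hr : r.Prime := by rcases hqr with ⟨rfl, rfl⟩ | ⟨rfl, rfl⟩ <;> norm_num
  have hrq : r ≠ q := by rcases hqr with ⟨rfl, rfl⟩ | ⟨rfl, rfl⟩ <;> norm_num
  have h6' : ∀ g : G, orderOf g ≠ r * q := by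
    rcases hqr with ⟨rfl, rfl⟩ | ⟨rfl, rfl⟩ <;> exact h6
  have : Fact q.Prime := ⟨hq⟩
  have : Fact r.Prime := ⟨hr⟩
  apply CfsgLib.Cores.le_pCore inferInstance
  apply isPGroup_of_primes hq
  intro s hs hsd
  have hs2 : s = 2 ∨ s = 3 := hpr s hs (hsd.trans (Subgroup.card_subgroup_dvd_card _))
  by_contra hsq
  have hsr : s = r := by
    rcases hqr with ⟨rfl, rfl⟩ | ⟨rfl, rfl⟩ <;> rcases hs2 with rfl | rfl <;> simp_all
  subst hsr
  obtain ⟨c, hc⟩ := exists_prime_orderOf_dvd_card' s hsd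
  rw [← Subgroup.orderOf_coe] at hc
  have hf := fpf_of_orders hr hq hrq h6' (isPGroup_zpowers_prime hc) (CfsgLib.Cores.pCore_isPGroup (G := G) q)
  apply hN
  rw [eq_bot_iff]
  intro v hv
  rw [Subgroup.mem_bot]
  exact FPF.eq_one hf (Subgroup.mem_zpowers _) (fun h1 => by
    rw [h1, orderOf_one] at hc; exact hr.one_lt.ne hc) hv
    (Subgroup.mem_centralizer_iff.mp c.2 v hv).symm

theorem core3_struct (hN : pCore 3 G ≠ ⊥) {t : G} (ht : orderOf t = 2) :
    (∀ a ∈ pCore 3 G, ∀ b ∈ pCore 3 G, a * b = b * a) ∧ ∃ k, (pCore 3 G).index = 2 ^ k := by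
  have : Fact (Nat.Prime 3) := ⟨Nat.prime_three⟩
  have : Fact (Nat.Prime 2) := ⟨Nat.prime_two⟩
  set N := pCore 3 G with hNd
  have hNn : N.Normal := inferInstance
  have hNp : IsPGroup 3 N := CfsgLib.Cores.pCore_isPGroup (G := G) 3
  have t2 : t ^ 2 = 1 := by rw [← ht, pow_orderOf_eq_one]
  have t1 : t ≠ 1 := fun h1 => by rw [h1, orderOf_one] at ht; omega
  have ti : t⁻¹ = t := by rw [inv_eq_iff_mul_eq_one, ← pow_two, t2]
  have hf : FPF (Subgroup.zpowers t) N := fpf_of_orders Nat.prime_two Nat.prime_three (by norm_num) h6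
    (isPGroup_zpowers_prime ht) hNp
  have hfix : ∀ v ∈ N, t * v = v * t → v = 1 := fun v hv hc => FPF.eq_one hf (Subgroup.mem_zpowers _) t1 hv hc
  have hinv : ∀ v ∈ N, t * v * t⁻¹ = v⁻¹ := fun v hv => inv_of_sq t2 hfix hv
  refine ⟨fun a ha b hb => comm_of_inv hinv ha hb, ?_⟩
  have hCN := centralizer_le hpr h6 (Or.inl ⟨rfl, rfl⟩) hN
  have key : ∀ g : G, ∃ n ∈ N, t * (n⁻¹ * g) = (n⁻¹ * g) * t := by
    intro g
    have hc : t⁻¹ * (g * t * g⁻¹) ∈ N := by
      apply hCN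
      rw [Subgroup.mem_centralizer_iff]
      intro n hn
      have h1 : (g * t * g⁻¹) * n * (g * t * g⁻¹)⁻¹ = n⁻¹ := by
        have h2 := hinv (g⁻¹ * n * g) (by simpa using hNn.conj_mem n hn g⁻¹)
        calc (g * t * g⁻¹) * n * (g * t * g⁻¹)⁻¹ = g * (t * (g⁻¹ * n * g) * t⁻¹) * g⁻¹ := by group
          _ = n⁻¹ := by rw [h2]; group
      have h3 : t⁻¹ * n⁻¹ * t = n := by
        have := hinv n hn
        rw [← this]; group
      have h4 : (t⁻¹ * (g * t * g⁻¹)) * n * (t⁻¹ * (g * t * g⁻¹))⁻¹ = n := by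
        calc (t⁻¹ * (g * t * g⁻¹)) * n * (t⁻¹ * (g * t * g⁻¹))⁻¹
            = t⁻¹ * ((g * t * g⁻¹) * n * (g * t * g⁻¹)⁻¹) * t := by group
          _ = n := by rw [h1, h3]
      rw [mul_inv_eq_iff_eq_mul] at h4
      exact h4.symm
    obtain ⟨k, hk, hke⟩ := exists_conj (t := t) hfix (N.inv_mem hc)
    refine ⟨k⁻¹, N.inv_mem hk, ?_⟩
    have h5 : g * t * g⁻¹ = k⁻¹ * t * k := by
      have h8 : t⁻¹ * (g * t * g⁻¹) = (k⁻¹ * (t * k * t⁻¹))⁻¹ := by rw [← hke, inv_inv]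
      rw [inv_mul_eq_iff_eq_mul] at h8
      rw [h8]
      simp only [mul_inv_rev, inv_inv, ti]
      calc t * (t * (k⁻¹ * t) * k) = (t * t) * (k⁻¹ * t * k) := by group
        _ = k⁻¹ * t * k := by rw [← pow_two, t2, one_mul]
    have h7 : k * (g * t * g⁻¹) * k⁻¹ = t := by rw [h5]; group
    rw [inv_inv]
    nth_rewrite 1 [← h7]
    group
  have h2 : IsPGroup 2 (G ⧸ N) := by
    rw [isPGroup_iff_pow_pow_eq_one]
    intro q
    obtain ⟨g, rfl⟩ := QuotientGroup.mk'_surjective N q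
    obtain ⟨n, hn, hc⟩ := key g
    have e : QuotientGroup.mk' N g = QuotientGroup.mk' N (n⁻¹ * g) := by
      rw [map_mul, map_inv]
      have : QuotientGroup.mk' N n = 1 := (QuotientGroup.eq_one_iff n).mpr hn
      rw [this, inv_one, one_mul]
    have ho := Nat.eq_prime_pow_of_unique_prime_dvd (n := orderOf (n⁻¹ * g)) (p := 2) (orderOf_pos _).ne' (by
      intro d hd hdd
      rcases hpr d hd (hdd.trans (orderOf_dvd_natCard _)) with h | h
      · exact h
      · subst h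
        exfalso
        obtain ⟨z, hz⟩ := mul_order Nat.prime_two Nat.prime_three (by norm_num) hc (ht ▸ dvd_rfl) hdd
        exact h6 z hz)
    refine ⟨(orderOf (n⁻¹ * g)).primeFactorsList.length, ?_⟩
    rw [e, ← map_pow, ← ho, pow_orderOf_eq_one, map_one]
  obtain ⟨k, hk⟩ := IsPGroup.iff_card.mp h2
  exact ⟨k, hk⟩

end Core3

end CfsgLib.FgFpf

namespace CfsgLib.FgFpf
open CfsgLib.FPF1 Cfsg

variable {G : Type*} [Group G] [Finite G]

section Core2
variable (hpr : ∀ r : ℕ, r.Prime → r ∣ Nat.card G → r = 2 ∨ r = 3) (h6 : ∀ g : G, orderOf g ≠ 6)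
include hpr

theorem core2_ne_bot (hN3 : pCore 3 G = ⊥) {x : G} (hx : x ≠ 1) : pCore 2 G ≠ ⊥ := by
  have hs := isSolvable hpr
  have : Nontrivial G := ⟨x, 1, hx⟩
  obtain ⟨M, p, hp, hM, -, hMc, -, hMp⟩ := CfsgLib.SolvMin.exists_minNormal_pgroup_of_solvable (⊤ : Subgroup G) top_ne_bot
  have hpd : p ∣ Nat.card G := by
    obtain ⟨m, h1⟩ := (Subgroup.ne_bot_iff_exists_ne_one).mp hM.2.1
    have := dvd_orderOf_of_mem hp hMp m.2 (fun h => h1 (Subtype.ext h))
    exact this.trans (orderOf_dvd_natCard _)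
  rcases hpr p hp hpd with rfl | rfl
  · intro h
    exact hM.2.1 (le_bot_iff.mp (h ▸ CfsgLib.Cores.le_pCore hM.1 hMp))
  · exact absurd (le_bot_iff.mp (hN3 ▸ CfsgLib.Cores.le_pCore hM.1 hMp)) hM.2.1

include h6

theorem core2_struct (h9 : ∀ g : G, orderOf g ≠ 9) (hN3 : pCore 3 G = ⊥) {x : G} (hx : orderOf x = 3) :
    (∀ v ∈ pCore 2 G, x * v = v * x → v = 1) ∧
    ((pCore 2 G).index = 3 ∨ ((pCore 2 G).index = 6 ∧ ∃ t, orderOf t = 2 ∧ t * x * t⁻¹ = x⁻¹)) := by
  classical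
  have : Fact (Nat.Prime 3) := ⟨Nat.prime_three⟩
  have : Fact (Nat.Prime 2) := ⟨Nat.prime_two⟩
  have hs := isSolvable hpr
  have x1 : x ≠ 1 := fun h1 => by rw [h1, orderOf_one] at hx; omega
  have hN := core2_ne_bot hpr hN3 x1
  set N := pCore 2 G with hNd
  have hNn : N.Normal := inferInstance
  have hNp : IsPGroup 2 N := CfsgLib.Cores.pCore_isPGroup (G := G) 2
  have hfix : ∀ v ∈ N, x * v = v * x → v = 1 := fun v hv hc =>
    FPF.eq_one (fpf_of_orders Nat.prime_three Nat.prime_two (by norm_num) (by simpa using h6)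
      (isPGroup_zpowers_prime hx) hNp) (Subgroup.mem_zpowers _) x1 hv hc
  refine ⟨hfix, ?_⟩
  -- T
  obtain ⟨T, hT⟩ := (isPGroup_zpowers_prime hx).exists_le_sylow
  have hxT : x ∈ T := hT (Subgroup.mem_zpowers _)
  have hFT : FPF (T : Subgroup G) N := fpf_of_orders Nat.prime_three Nat.prime_two (by norm_num)
    (by simpa using h6) T.isPGroup' hNp
  have hTc : IsCyclic T := hFT.pgroup_cyclic (by rw [Subgroup.normalizer_eq_top]; exact le_top) hN
    Nat.prime_three (by norm_num) T.isPGroup'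
  have hTcard : Nat.card T = 3 := by
    obtain ⟨g, hg⟩ := IsCyclic.exists_ofOrder_eq_natCard (α := T)
    obtain ⟨k, hk⟩ := IsPGroup.iff_card.mp T.isPGroup'
    have hk' : Nat.card T = 3 ^ k := hk
    have hx3 : 3 ∣ Nat.card T := by
      have := Subgroup.orderOf_dvd_natCard (T : Subgroup G) hxT
      rwa [hx] at this
    rcases k with _ | _ | k
    · rw [hk'] at hx3; norm_num at hx3
    · rw [hk']; norm_num
    · exfalso
      have h1 : 9 ∣ orderOf (g : G) := by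
        rw [Subgroup.orderOf_coe, hg, hk']
        exact ⟨3 ^ k, by ring⟩
      exact h9 _ (orderOf_pow_prime h1)
  have hTx : (T : Subgroup G) = Subgroup.zpowers x := by
    refine (Subgroup.eq_of_le_of_card_ge hT ?_).symm
    rw [Nat.card_zpowers, hx]
    exact hTcard.le
  -- quotient
  have hK : ∃ K : Subgroup G, K.Normal ∧ K = (T : Subgroup G) ⊔ N := by
    have hQs : Group.IsSolvable (G ⧸ N) := inferInstance
    have hxN : x ∉ N := fun h => x1 (hfix x h rfl)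
    have hnt : Nontrivial (G ⧸ N) := ⟨⟨QuotientGroup.mk' N x, 1, fun h => hxN ((QuotientGroup.eq_one_iff x).mp h)⟩⟩
    obtain ⟨M, p, hp, hM, -, hMc, -, hMp⟩ :=
      CfsgLib.SolvMin.exists_minNormal_pgroup_of_solvable (⊤ : Subgroup (G ⧸ N)) top_ne_bot
    have hpd : p ∣ Nat.card (G ⧸ N) := by
      obtain ⟨m, h1⟩ := (Subgroup.ne_bot_iff_exists_ne_one).mp hM.2.1
      have := dvd_orderOf_of_mem hp hMp m.2 (fun h => h1 (Subtype.ext h))
      exact this.trans (orderOf_dvd_natCard _)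
    rcases hpr p hp (hpd.trans (Subgroup.card_quotient_dvd_card N)) with rfl | rfl
    · exfalso
      have := CfsgLib.Cores.le_pCore hM.1 hMp
      rw [CfsgLib.Cores.pCore_quotient_pCore] at this
      exact hM.2.1 (le_bot_iff.mp this)
    · let T' := T.mapSurjective (QuotientGroup.mk'_surjective N)
      have hMT : M ≤ T' := CfsgLib.Cores.normal_le_sylow hM.1 hMp T'
      have hMeq : M = (T' : Subgroup (G ⧸ N)) := by
        apply Subgroup.eq_of_le_of_card_ge hMT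
        have h1 : Nat.card (T' : Subgroup (G ⧸ N)) ∣ 3 := by
          refine dvd_trans (Subgroup.card_map_dvd (T : Subgroup G) _) (dvd_of_eq hTcard)
        have h2 : Nat.card (T' : Subgroup (G ⧸ N)) ≤ 3 := Nat.le_of_dvd (by norm_num) h1
        refine h2.trans ?_
        obtain ⟨m, h1⟩ := (Subgroup.ne_bot_iff_exists_ne_one).mp hM.2.1
        have := dvd_orderOf_of_mem hp hMp m.2 (fun h => h1 (Subtype.ext h))
        exact Nat.le_of_dvd Nat.card_pos (this.trans (Subgroup.orderOf_dvd_natCard _ m.2))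
      refine ⟨M.comap (QuotientGroup.mk' N), hM.1.comap _, ?_⟩
      rw [hMeq]
      change ((T : Subgroup G).map (QuotientGroup.mk' N)).comap _ = _
      rw [Subgroup.comap_map_eq, QuotientGroup.ker_mk']
  obtain ⟨K, hKn, hKe⟩ := hK
  have hsup : Subgroup.normalizer (T : Set G) ⊔ N = ⊤ := by
    have h1 := Sylow.normalizer_sup_eq_top' T (N := K) (hKe ▸ le_sup_left)
    rw [eq_top_iff, ← h1, hKe]
    refine sup_le le_sup_left (sup_le ?_ le_sup_right)
    exact (Subgroup.le_normalizer).trans le_sup_left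
  have hdisj : Subgroup.normalizer (T : Set G) ⊓ N = ⊥ := by
    rw [eq_bot_iff]
    rintro v ⟨hv, hvN⟩
    rw [Subgroup.mem_bot]
    apply hfix v hvN
    have h1 : ⁅v, x⁆ ∈ (T : Subgroup G) := by
      rw [commutatorElement_def]
      exact mul_mem ((Subgroup.mem_normalizer_iff.mp hv x).mp hxT) (inv_mem hxT)
    have h2 : ⁅v, x⁆ ∈ N := by
      rw [commutatorElement_def, mul_assoc, mul_assoc]
      refine mul_mem hvN ?_
      rw [← mul_assoc]
      exact hNn.conj_mem _ (inv_mem hvN) x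
    have h3 : ⁅v, x⁆ = 1 := by
      have h4 : Disjoint (T : Subgroup G) N := by
        apply disjoint_iff.mpr
        apply Subgroup.inf_eq_bot_of_coprime
        obtain ⟨j, hj⟩ := IsPGroup.iff_card.mp hNp
        rw [show Nat.card (T : Subgroup G) = 3 from hTcard, hj]
        exact Nat.Coprime.pow_right _ (by norm_num)
      exact Subgroup.disjoint_def.mp h4 h1 h2
    rw [commutatorElement_eq_one_iff_mul_comm] at h3
    exact h3.symm
  have hcomp : N.IsComplement' (Subgroup.normalizer (T : Set G)) := by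
    apply Subgroup.isComplement'_of_disjoint_and_mul_eq_univ
    · rw [disjoint_iff, inf_comm]; exact hdisj
    · rw [← Subgroup.normal_mul, sup_comm, hsup]; rfl
  have hidx : N.index = _ := hcomp.symm.index_eq_card
  -- centralizer of x
  have hCx : Subgroup.centralizer {x} = (T : Subgroup G) := by
    have h1 : (T : Subgroup G) ≤ Subgroup.centralizer {x} := by
      rw [hTx]
      rw [Subgroup.zpowers_le, Subgroup.mem_centralizer_singleton_iff]
    have h2 : IsPGroup 3 (Subgroup.centralizer {x}) := by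
      apply isPGroup_of_primes Nat.prime_three
      intro r hr hrd
      rcases hpr r hr (hrd.trans (Subgroup.card_subgroup_dvd_card _)) with rfl | rfl
      · exfalso
        obtain ⟨c, hc⟩ := exists_prime_orderOf_dvd_card' 2 hrd
        rw [← Subgroup.orderOf_coe] at hc
        obtain ⟨z, hz⟩ := mul_order Nat.prime_two Nat.prime_three (by norm_num)
          (Subgroup.mem_centralizer_singleton_iff.mp c.2) (hc ▸ dvd_rfl) (hx ▸ dvd_rfl)
        exact h6 z hz
      · rfl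
    exact T.is_maximal' h2 h1
  have hN3' : ∀ g ∈ Subgroup.normalizer (T : Set G), g * x * g⁻¹ = x ∨ g * x * g⁻¹ = x⁻¹ := by
    intro g hg
    have h1 : g * x * g⁻¹ ∈ Subgroup.zpowers x := by
      rw [← hTx]; exact (Subgroup.mem_normalizer_iff.mp hg x).mp hxT
    rw [← mem_powers_iff_mem_zpowers, mem_powers_iff_mem_range_orderOf, hx] at h1
    obtain ⟨i, hi, hie⟩ := Finset.mem_image.mp h1
    rw [Finset.mem_range] at hi
    interval_cases i
    · exfalso
      rw [pow_zero] at hie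
      have : x = 1 := by
        have h2 : g⁻¹ * (g * x * g⁻¹) * g = 1 := by rw [← hie]; group
        simpa [mul_assoc] using h2
      exact x1 this
    · left; rw [← hie, pow_one]
    · right
      rw [← hie, eq_inv_iff_mul_eq_one, ← pow_succ]
      have := pow_orderOf_eq_one x
      rwa [hx] at this
  by_cases hex : ∃ g ∈ Subgroup.normalizer (T : Set G), g * x * g⁻¹ = x⁻¹
  · right
    obtain ⟨g, hg, hgx⟩ := hex
    have hTN : (T : Subgroup G) ≤ Subgroup.normalizer (T : Set G) := Subgroup.le_normalizer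
    have hxx : x⁻¹ ≠ x := by
      intro h
      have : x ^ 2 = 1 := by rw [pow_two]; nth_rewrite 1 [← h]; group
      have := orderOf_dvd_of_pow_eq_one this
      rw [hx] at this; norm_num at this
    have hrel : (T : Subgroup G).relIndex (Subgroup.normalizer (T : Set G)) = 2 := by
      rw [Subgroup.relIndex, Subgroup.index_eq_two_iff]
      refine ⟨⟨g, hg⟩, ?_⟩
      intro b
      rw [Subgroup.mem_subgroupOf, Subgroup.mem_subgroupOf, Subgroup.coe_mul]
      change Xor ((b : G) * g ∈ (T : Subgroup G)) ((b : G) ∈ (T : Subgroup G))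
      rw [← hCx, Subgroup.mem_centralizer_singleton_iff, Subgroup.mem_centralizer_singleton_iff]
      have e1 : (b : G) * g * x = x * ((b : G) * g) ↔ (b : G) * x⁻¹ * (b : G)⁻¹ = x := by
        rw [← hgx]
        constructor
        · intro h
          calc (b : G) * (g * x * g⁻¹) * (b : G)⁻¹ = ((b : G) * g * x) * g⁻¹ * (b : G)⁻¹ := by group
            _ = x := by rw [h]; group
        · intro h
          calc (b : G) * g * x = ((b : G) * (g * x * g⁻¹) * (b : G)⁻¹) * ((b : G) * g) := by group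
            _ = _ := by rw [h]
      have e2 : (b : G) * x⁻¹ * (b : G)⁻¹ = ((b : G) * x * (b : G)⁻¹)⁻¹ := by group
      rw [e1, e2, ← mul_inv_eq_iff_eq_mul]
      rcases hN3' b b.2 with h | h
      · rw [h]; right; exact ⟨rfl, hxx⟩
      · rw [h]; left; exact ⟨inv_inv x, hxx⟩
    have hcN : Nat.card (Subgroup.normalizer (T : Set G)) = 6 := by
      have := Subgroup.card_mul_index ((T : Subgroup G).subgroupOf (Subgroup.normalizer (T : Set G)))
      rw [Nat.card_congr (Subgroup.subgroupOfEquivOfLe hTN).toEquiv, show Nat.card (T : Subgroup G) = 3 from hTcard] at this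
      rw [Subgroup.relIndex] at hrel
      rw [hrel] at this
      exact this.symm
    refine ⟨by rw [hidx, hcN], ?_⟩
    obtain ⟨t, ht⟩ := exists_prime_orderOf_dvd_card' (G := Subgroup.normalizer (T : Set G)) 2 (by rw [hcN]; norm_num)
    rw [← Subgroup.orderOf_coe] at ht
    refine ⟨t, ht, ?_⟩
    rcases hN3' t t.2 with h | h
    · exfalso
      rw [mul_inv_eq_iff_eq_mul] at h
      obtain ⟨z, hz⟩ := mul_order Nat.prime_two Nat.prime_three (by norm_num) h (ht ▸ dvd_rfl) (hx ▸ dvd_rfl)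
      exact h6 z hz
    · exact h
  · left
    have : Subgroup.normalizer (T : Set G) = T := by
      apply le_antisymm _ Subgroup.le_normalizer
      intro g hg
      rw [← hCx, Subgroup.mem_centralizer_singleton_iff]
      rcases hN3' g hg with h | h
      · rwa [mul_inv_eq_iff_eq_mul] at h
      · exact absurd ⟨g, hg, h⟩ hex
    rw [hidx, this]
    exact hTcard

end Core2

omit [Finite G] in
/-- the decisive computation: `N` normalized by `S3 = ⟨x, t⟩`, `x` fixed point free and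
`(s v) ^ 4 = 1` for involutions `s` of `⟨x,t⟩` -/
theorem sq_eq_one [Finite G] {N : Subgroup G} [N.Normal] (h2 : IsPGroup 2 N) {x t : G} (hx : x ^ 3 = 1) (ht : t ^ 2 = 1)
    (htx : t * x * t⁻¹ = x⁻¹) (hfix : ∀ v ∈ N, x * v = v * x → v = 1)
    (h4 : ∀ s v : G, v ∈ N → s ^ 2 = 1 → (s * v * s⁻¹ * v) ^ 2 = 1) {v : G} (hv : v ∈ N) : v ^ 2 = 1 := by
  have : Fact (Nat.Prime 2) := ⟨Nat.prime_two⟩
  have h3N : ¬ 3 ∣ Nat.card N := by
    obtain ⟨k, hk⟩ := IsPGroup.iff_card.mp h2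
    rw [hk]
    intro h
    have := Nat.prime_three.dvd_of_dvd_pow h
    omega
  have hcl := fun {a b c : G} (ha : a ∈ N) (hb : b ∈ N) (hc : c ∈ N) => amb_class_two hx hfix h3N ha hb hc
  have hnorm := fun {v : G} (hv : v ∈ N) => amb_norm hx hfix hv
  have hN : N.Normal := inferInstance
  have xxx : x * x * x = 1 := by rw [← hx, pow_succ, pow_two]
  have xi : x⁻¹ = x * x := by rw [inv_eq_iff_mul_eq_one, ← mul_assoc, xxx]
  have tx : t * x = x⁻¹ * t := by rw [mul_inv_eq_iff_eq_mul] at htx; exact htx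
  have ti : t⁻¹ = t := by rw [inv_eq_iff_mul_eq_one, ← pow_two, ht]
  -- the three involutions `t, x t x⁻¹ = x² t, x⁻¹ t x = x t`
  have s1 : (x * t) ^ 2 = 1 := by
    rw [pow_two]
    calc x * t * (x * t) = x * (t * x) * t := by group
      _ = t ^ 2 := by rw [tx, pow_two]; group
      _ = 1 := ht
  have s2 : (x * x * t) ^ 2 = 1 := by
    rw [pow_two]
    calc x * x * t * (x * x * t) = x * x * (t * x) * x * t := by group
      _ = x * x * (x⁻¹ * t) * x * t := by rw [tx]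
      _ = x * (t * x) * t := by group
      _ = t ^ 2 := by rw [tx, pow_two]; group
      _ = 1 := ht
  set w : G → G := fun v => t * v * t⁻¹ with hw
  have hwN : ∀ {v : G}, v ∈ N → w v ∈ N := fun {v} hv => hN.conj_mem v hv t
  have hxN : ∀ {v : G}, v ∈ N → x * v * x⁻¹ ∈ N := fun {v} hv => hN.conj_mem v hv x
  have e0 : ∀ v ∈ N, (w v * v) ^ 2 = 1 := fun v hv => h4 t v hv ht
  have e1 : ∀ v ∈ N, ((x * w v * x⁻¹) * v) ^ 2 = 1 := fun v hv => by
    have := h4 (x * t) v hv s1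
    have e : x * t * v * (x * t)⁻¹ = x * w v * x⁻¹ := by simp only [hw]; group
    rwa [e] at this
  have e2 : ∀ v ∈ N, ((x * (x * w v * x⁻¹) * x⁻¹) * v) ^ 2 = 1 := fun v hv => by
    have := h4 (x * x * t) v hv s2
    have e : x * x * t * v * (x * x * t)⁻¹ = x * (x * w v * x⁻¹) * x⁻¹ := by simp only [hw]; group
    rwa [e] at this
  -- central elements
  have hZ : ∀ z ∈ N, (∀ u ∈ N, z * u = u * z) → z ^ 2 = 1 := by
    intro z hz hzc
    have h1 := e0 z hz
    have h2 := e1 z hz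
    have c1 : Commute (w z) z := (hzc _ (hwN hz)).symm
    have c2 : Commute (x * w z * x⁻¹) z := (hzc _ (hxN (hwN hz))).symm
    rw [c1.mul_pow] at h1
    rw [c2.mul_pow] at h2
    have h3 : x * (w z) ^ 2 * x⁻¹ = (w z) ^ 2 := by
      have h5 : (x * w z * x⁻¹) ^ 2 = x * (w z) ^ 2 * x⁻¹ := by rw [conj_pow]
      rw [← h5]
      exact mul_right_cancel (h2.trans h1.symm)
    have h4 : (w z) ^ 2 = 1 := hfix _ (N.pow_mem (hwN hz) 2) (by rwa [mul_inv_eq_iff_eq_mul] at h3)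
    rw [h4, one_mul] at h1
    exact h1
  -- commutators are central of order 2
  have hcomN : ∀ {a b : G}, a ∈ N → b ∈ N → ⁅a, b⁆ ∈ N := fun {a b} ha hb => by
    rw [commutatorElement_def]; exact mul_mem (mul_mem (mul_mem ha hb) (inv_mem ha)) (inv_mem hb)
  have hcomC : ∀ {a b : G}, a ∈ N → b ∈ N → ∀ u ∈ N, ⁅a, b⁆ * u = u * ⁅a, b⁆ := fun {a b} ha hb u hu => by
    have := hcl hu ha hb
    rw [commutatorElement_eq_one_iff_mul_comm] at this
    exact this.symm
  have hcomS : ∀ {a b : G}, a ∈ N → b ∈ N → ⁅a, b⁆ ^ 2 = 1 := fun {a b} ha hb =>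
    hZ _ (hcomN ha hb) (hcomC ha hb)
  have hcommul : ∀ {a b c : G}, a ∈ N → b ∈ N → c ∈ N → ⁅a, b * c⁆ = ⁅a, b⁆ * ⁅a, c⁆ := fun {a b c} ha hb hc => by
    have e : ⁅a, b * c⁆ = ⁅a, b⁆ * (b * ⁅a, c⁆ * b⁻¹) := by simp only [commutatorElement_def]; group
    rw [e, ← hcomC ha hc b hb, mul_inv_cancel_right]
  have hsqC : ∀ u ∈ N, ∀ y ∈ N, u ^ 2 * y = y * u ^ 2 := by
    intro u hu y hy
    have h1 : ⁅y, u ^ 2⁆ = 1 := by rw [pow_two, hcommul hy hu hu, ← pow_two, hcomS hy hu]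
    rw [commutatorElement_eq_one_iff_mul_comm] at h1
    exact h1.symm
  have hv4 : (v ^ 2) ^ 2 = 1 := hZ _ (N.pow_mem hv 2) (hsqC v hv)
  have hexp : ∀ {a b : G}, a ∈ N → b ∈ N → (a * b) ^ 2 = ⁅b, a⁆ * (a ^ 2 * b ^ 2) := by
    intro a b ha hb
    calc (a * b) ^ 2 = a * (b * a * b⁻¹ * a⁻¹) * (a * b) * b := by rw [pow_two]; group
      _ = a * ⁅b, a⁆ * (a * b) * b := by rw [commutatorElement_def]
      _ = ⁅b, a⁆ * a * (a * b) * b := by rw [hcomC hb ha a ha]
      _ = _ := by rw [pow_two, pow_two]; group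
  set A := w v
  have hA : A ∈ N := hwN hv
  set B := x * A * x⁻¹
  have hB : B ∈ N := hxN hA
  set C := x * B * x⁻¹
  have hC : C ∈ N := hxN hB
  have f0 := e0 v hv
  have f1 := e1 v hv
  have f2 := e2 v hv
  rw [hexp hA hv] at f0
  rw [hexp hB hv] at f1
  rw [hexp hC hv] at f2
  have hABC : A * B * C = 1 := hnorm hA
  have hs : A ^ 2 * B ^ 2 * C ^ 2 = 1 := by
    have := hnorm (N.pow_mem hA 2)
    have e1 : x * A ^ 2 * x⁻¹ = B ^ 2 := by rw [← conj_pow]
    rw [e1] at this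
    have e2 : x * B ^ 2 * x⁻¹ = C ^ 2 := by rw [← conj_pow]
    rwa [e2] at this
  have hk : ⁅v, A⁆ * ⁅v, B⁆ * ⁅v, C⁆ = 1 := by
    rw [← hcommul hv hA hB, ← hcommul hv (mul_mem hA hB) hC, hABC, commutatorElement_one_right]
  have final : (⁅v, A⁆ * (A ^ 2 * v ^ 2)) * (⁅v, B⁆ * (B ^ 2 * v ^ 2)) * (⁅v, C⁆ * (C ^ 2 * v ^ 2)) =
      (⁅v, A⁆ * ⁅v, B⁆ * ⁅v, C⁆) * (A ^ 2 * B ^ 2 * C ^ 2) * ((v ^ 2) ^ 2 * v ^ 2) := by
    have k1 := hcomC hv hB (A ^ 2 * v ^ 2) (mul_mem (N.pow_mem hA 2) (N.pow_mem hv 2))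
    have k2 := hcomC hv hC (A ^ 2 * v ^ 2 * (B ^ 2 * v ^ 2)) (mul_mem (mul_mem (N.pow_mem hA 2) (N.pow_mem hv 2)) (mul_mem (N.pow_mem hB 2) (N.pow_mem hv 2)))
    have k3 := hsqC v hv (B ^ 2) (N.pow_mem hB 2)
    have k4 := hsqC v hv (C ^ 2) (N.pow_mem hC 2)
    calc (⁅v, A⁆ * (A ^ 2 * v ^ 2)) * (⁅v, B⁆ * (B ^ 2 * v ^ 2)) * (⁅v, C⁆ * (C ^ 2 * v ^ 2))
        = ⁅v, A⁆ * ((A ^ 2 * v ^ 2) * ⁅v, B⁆) * (B ^ 2 * v ^ 2) * ⁅v, C⁆ * (C ^ 2 * v ^ 2) := by
          simp only [mul_assoc]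
      _ = ⁅v, A⁆ * ⁅v, B⁆ * ((A ^ 2 * v ^ 2 * (B ^ 2 * v ^ 2)) * ⁅v, C⁆) * (C ^ 2 * v ^ 2) := by
          rw [← k1]; simp only [mul_assoc]
      _ = ⁅v, A⁆ * ⁅v, B⁆ * ⁅v, C⁆ * (A ^ 2 * (v ^ 2 * B ^ 2) * (v ^ 2 * C ^ 2) * v ^ 2) := by
          rw [← k2]; simp only [mul_assoc]
      _ = ⁅v, A⁆ * ⁅v, B⁆ * ⁅v, C⁆ * (A ^ 2 * B ^ 2 * (v ^ 2 * C ^ 2) * v ^ 2 * v ^ 2) := by
          rw [k3, k4]; simp only [mul_assoc]; rw [← mul_assoc (v ^ 2) (C ^ 2) (v ^ 2 * v ^ 2), k4, mul_assoc]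
      _ = _ := by rw [k4]; simp only [pow_two, mul_assoc]
  rw [f0, f1, f2, hk, hs, hv4] at final
  simpa using final.symm

end CfsgLib.FgFpf
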