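import Mathlib
import Cfsg.Agent.LibTransPC
import Cfsg.Agent.LibCoprime
import Cfsg.Agent.LibCores
import Cfsg.Agent.LibFgBas
import Cfsg.Agent.S0117
import Cfsg.Agent.LibTransNil
import Cfsg.Agent.LibH2Schm
import Cfsg.Agent.LibFgCQ

set_option autoImplicit false
set_option linter.style.haveILetI false
set_option linter.unusedSectionVars false
set_option linter.unusedVariables false

/-! A centric form of the Frobenius criterion; nilpotent maximal subgroups. -/

open Subgroup
open scoped Pointwise commutatorElement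
open CfsgLib.SolvCoprime CfsgLib.SolvBasic CfsgLib.SolvHall CfsgLib.TransPC

namespace CfsgLib.FgNM

universe u
variable {G : Type u} [Group G] [Finite G] {p : ℕ} [hp : Fact p.Prime]

/-- Frattini argument inside a subgroup: `C ≤ N` normalized by `N`, `S` Sylow in `C`. -/
theorem frattini_in {N C S : Subgroup G} (hCN : C ≤ N) (hN : N ≤ normalizer (C : Set G)) (hS : IsSylowIn p S C)
    {g : G} (hg : g ∈ N) : ∃ c ∈ C, c * g ∈ N ⊓ normalizer (S : Set G) := by
  have h1 : IsSylowIn p (MulAut.conj g • S) C := hS.conj_of_normalizes (hN hg)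
  obtain ⟨c, hc, h2⟩ := h1.exists_conj hS
  refine ⟨c, hc, N.mul_mem (hCN hc) hg, ?_⟩
  change c * g ∈ normalizer (S : Set G)
  rw [mem_normalizer_iff_conj_smul, conj_smul_mul, h2]

/-- Sylow subgroups meet normal subgroups in Sylow subgroups -/
theorem inf_sylowIn {N C S : Subgroup G} (hS : IsSylowIn p S N) (hCN : C ≤ N) (hN : N ≤ normalizer (C : Set G)) :
    IsSylowIn p (S ⊓ C) C := by
  obtain ⟨T, hT, hST⟩ := IsSylowIn.exists_ge (hS.isPGroup.to_le inf_le_left) (inf_le_right : S ⊓ C ≤ C)
  obtain ⟨S', hS', hTS'⟩ := IsSylowIn.exists_ge hT.isPGroup (hT.le.trans hCN)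
  obtain ⟨n, hn, h1⟩ := hS'.exists_conj hS
  have h2 : MulAut.conj n • T ≤ S ⊓ C := by
    refine le_inf ?_ ?_
    · rw [← h1]; exact Subgroup.pointwise_smul_le_pointwise_smul_iff.mpr hTS'
    · have h3 := mem_normalizer_iff_conj_smul.mp (hN hn)
      rw [← h3]
      exact Subgroup.pointwise_smul_le_pointwise_smul_iff.mpr hT.le
  have h3 : T ≤ S ⊓ C := by
    have h4 : MulAut.conj n • T = S ⊓ C := by
      apply le_antisymm h2
      have h5 : Nat.card (S ⊓ C : Subgroup G) ≤ Nat.card (MulAut.conj n • T : Subgroup G) := by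
        rw [card_conj_smul]
        exact Subgroup.card_le_of_le hST
      exact (Subgroup.eq_of_le_of_card_ge h2 h5).ge
    have h5 : Nat.card T = Nat.card (S ⊓ C : Subgroup G) := by rw [← h4, card_conj_smul]
    exact (Subgroup.eq_of_le_of_card_ge hST h5.le).ge
  rwa [le_antisymm hST h3]

/-- centric version of the Frobenius criterion -/
theorem frob_centric (P : Sylow p G)
    (h : ∀ Q : Subgroup G, Q ≤ (P : Subgroup G) → (P : Subgroup G) ⊓ centralizer (Q : Set G) ≤ Q →
      ∀ g ∈ normalizer (Q : Set G), Nat.Coprime (orderOf g) p → g ∈ centralizer (Q : Set G)) : FrobCond p G := by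
  -- downward induction on the order of `Q`
  have key : ∀ n : ℕ, ∀ Q : Subgroup G, IsPGroup p Q → Nat.card G - Nat.card Q = n →
      ∀ g ∈ normalizer (Q : Set G), Nat.Coprime (orderOf g) p → g ∈ centralizer (Q : Set G) := by
    intro n
    induction n using Nat.strong_induction_on with
    | _ n ih =>
    -- first the case where a Sylow subgroup of the normalizer is inside `P`
    have case1 : ∀ Q : Subgroup G, IsPGroup p Q → Nat.card G - Nat.card Q = n →
        IsSylowIn p ((P : Subgroup G) ⊓ normalizer (Q : Set G)) (normalizer (Q : Set G)) →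
        ∀ g ∈ normalizer (Q : Set G), Nat.Coprime (orderOf g) p → g ∈ centralizer (Q : Set G) := by
      intro Q hQ hn hS g hg hgo
      have hQP : Q ≤ (P : Subgroup G) :=
        (hS.le_of_normalizes hQ le_normalizer le_rfl).trans inf_le_left
      by_cases hc : (P : Subgroup G) ⊓ centralizer (Q : Set G) ≤ Q
      · exact h Q hQP hc g hg hgo
      · have hCN : centralizer (Q : Set G) ≤ normalizer (Q : Set G) := Subgroup.centralizer_le_normalizer _
        have key2 : ∀ x ∈ normalizer (Q : Set G), ∀ y ∈ centralizer (Q : Set G), x * y * x⁻¹ ∈ centralizer (Q : Set G) := by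
          intro x hx y hy
          rw [mem_centralizer_iff] at hy ⊢
          intro q hq
          have h1 : x⁻¹ * q * x ∈ Q := by
            have := (mem_normalizer_iff.mp (inv_mem hx) q).mp hq
            rwa [inv_inv] at this
          have h2 := hy _ h1
          calc q * (x * y * x⁻¹) = x * (x⁻¹ * q * x * y) * x⁻¹ := by group
            _ = x * (y * (x⁻¹ * q * x)) * x⁻¹ := by rw [h2]
            _ = x * y * x⁻¹ * q := by group
        have hNC : normalizer (Q : Set G) ≤ normalizer (centralizer (Q : Set G) : Set G) := by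
          intro x hx
          rw [mem_normalizer_iff]
          intro y
          constructor
          · exact key2 x hx y
          · intro hy
            have h1 := key2 x⁻¹ (inv_mem hx) _ hy
            have h2 : x⁻¹ * (x * y * x⁻¹) * x⁻¹⁻¹ = y := by group
            rwa [h2] at h1
        -- Sylow subgroup of the centralizer
        have hSC : IsSylowIn p ((P : Subgroup G) ⊓ centralizer (Q : Set G)) (centralizer (Q : Set G)) := by
          have h1 := inf_sylowIn hS hCN hNC
          rwa [inf_assoc, inf_eq_right.mpr hCN] at h1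
        set T := (P : Subgroup G) ⊓ centralizer (Q : Set G) with hT
        set Q' := Q ⊔ T with hQ'
        have hQQ' : Q < Q' := by
          refine lt_of_le_of_ne le_sup_left ?_
          intro h1
          apply hc
          rw [h1]; exact le_sup_right
        have hQ'p : IsPGroup p Q' := P.2.to_le (sup_le hQP inf_le_left)
        have hlt : Nat.card G - Nat.card Q' < n := by
          have h3 := card_lt_of_lt hQQ'
          have h4 : Nat.card Q' ≤ Nat.card G := Subgroup.card_le_card_group Q'
          omega
        have hIH := ih _ hlt Q' hQ'p rfl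
        -- `p'`-elements of `N ⊓ N(T)` centralize `Q`
        have hK : ∀ x ∈ normalizer (Q : Set G) ⊓ normalizer (T : Set G), Nat.Coprime (orderOf x) p →
            x ∈ centralizer (Q : Set G) := by
          intro x hx hxo
          have h1 : x ∈ normalizer (Q' : Set G) := by
            rw [mem_normalizer_iff_conj_smul, hQ', Subgroup.smul_sup, mem_normalizer_iff_conj_smul.mp hx.1,
              mem_normalizer_iff_conj_smul.mp hx.2]
          exact Subgroup.centralizer_le (SetLike.coe_subset_coe.mpr (le_sup_left : Q ≤ Q')) (hIH x h1 hxo)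
        -- Frattini
        obtain ⟨c, hc1, hcg⟩ := frattini_in hCN hNC hSC hg
        -- a power of `c g` coprime to `p` is in `C`
        obtain ⟨k, m, hm, hkm⟩ := Nat.exists_eq_pow_mul_and_not_dvd (orderOf_pos (c * g)).ne' p hp.out.ne_one
        have h1 : (c * g) ^ (p ^ k) ∈ centralizer (Q : Set G) := by
          apply hK _ (Subgroup.pow_mem _ hcg _)
          have h2 : orderOf ((c * g) ^ (p ^ k)) = m := by
            rw [orderOf_pow_of_dvd (pow_pos hp.out.pos k).ne' (by rw [hkm]; exact dvd_mul_right _ _), hkm]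
            exact Nat.mul_div_cancel_left _ (pow_pos hp.out.pos k)
          rw [h2]
          exact ((Nat.Prime.coprime_iff_not_dvd hp.out).mpr hm).symm
        -- pass to the quotient by C
        have h2 : ∀ n : ℕ, ∃ c' ∈ centralizer (Q : Set G), (c * g) ^ n = c' * g ^ n := by
          intro n
          induction n with
          | zero => exact ⟨1, one_mem _, by simp⟩
          | succ n ihn =>
            obtain ⟨c', hc', he⟩ := ihn
            refine ⟨c' * (g ^ n * c * (g ^ n)⁻¹), mul_mem hc' (key2 _ (Subgroup.pow_mem _ hg n) _ hc1), ?_⟩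
            rw [pow_succ, he, pow_succ]
            group
        obtain ⟨c', hc', he⟩ := h2 (p ^ k)
        rw [he] at h1
        have h3 : g ^ (p ^ k) ∈ centralizer (Q : Set G) := by
          have := mul_mem (inv_mem hc') h1
          rwa [inv_mul_cancel_left] at this
        have h4 : (orderOf g).Coprime (p ^ k) := hgo.pow_right k
        exact CfsgLib.FgBas.mem_of_pow_mem h3 h4
    intro Q hQ hn g hg hgo
    obtain ⟨S, hS⟩ := IsSylowIn.exists_isSylowIn (p := p) (normalizer (Q : Set G))
    obtain ⟨R, hR, hSR⟩ := IsSylowIn.exists_ge hS.isPGroup (le_top : S ≤ ⊤)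
    have hPt : IsSylowIn p (P : Subgroup G) ⊤ := ⟨le_top, P.2, by rw [relIndex_top_right]; exact P.not_dvd_index⟩
    obtain ⟨x, _, hx⟩ := hR.exists_conj hPt
    have hSP : MulAut.conj x • S ≤ (P : Subgroup G) := by
      rw [← hx]; exact Subgroup.pointwise_smul_le_pointwise_smul_iff.mpr hSR
    have hS' : IsSylowIn p (MulAut.conj x • S) (normalizer ((MulAut.conj x • Q : Subgroup G) : Set G)) := by
      rw [normalizer_conj_smul]
      exact hS.conj x
    have hS'' : IsSylowIn p ((P : Subgroup G) ⊓ normalizer ((MulAut.conj x • Q : Subgroup G) : Set G))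
        (normalizer ((MulAut.conj x • Q : Subgroup G) : Set G)) := by
      have h1 := hS'.eq_of_le (U := (P : Subgroup G) ⊓ normalizer ((MulAut.conj x • Q : Subgroup G) : Set G))
        (P.2.to_le inf_le_left) inf_le_right (le_inf hSP hS'.le)
      rwa [← h1]
    have h1 := case1 (MulAut.conj x • Q) (hQ.of_equiv (Subgroup.equivSMul (MulAut.conj x) Q))
      (by rw [card_conj_smul, hn]) hS'' (x * g * x⁻¹) (by
        rw [normalizer_conj_smul, mem_conj_smul]
        have : x⁻¹ * (x * g * x⁻¹) * x = g := by group
        rwa [this]) (by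
          have h5 : orderOf (x * g * x⁻¹) = orderOf g := by
            have := MulEquiv.orderOf_eq (MulAut.conj x) g
            rwa [MulAut.conj_apply] at this
          rwa [h5])
    rw [Subgroup.mem_centralizer_iff] at h1 ⊢
    intro y hy
    have h2 := h1 (x * y * x⁻¹) (by
      rw [SetLike.mem_coe, mem_conj_smul]
      have : x⁻¹ * (x * y * x⁻¹) * x = y := by group
      rwa [this])
    have h3 : y * g = x⁻¹ * (x * y * x⁻¹ * (x * g * x⁻¹)) * x := by group
    rw [h3, h2]; group
  intro Q hQ g hg hgo
  exact key _ Q hQ rfl g hg hgo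

/-- nilpotent subgroups: Sylow subgroups and the complement -/
theorem nilp_decomp {M P : Subgroup G} (hnil : Group.IsNilpotent M) (hP : IsSylowIn p P M) :
    M ≤ normalizer (P : Set G) ∧ (∀ g ∈ M, Nat.Coprime (orderOf g) p → ∀ y ∈ P, g * y = y * g) ∧
      (∀ m ∈ M, ∃ d ∈ M, ∃ x ∈ P, m = d * x ∧ ∀ y ∈ P, d * y = y * d) := by
  obtain ⟨S, hS⟩ := hP.exists_sylow
  have hSn : (S : Subgroup M).Normal := S.normal_of_normalizerCondition Group.normalizerCondition_of_isNilpotent
  have h1 := CfsgLib.TransNil.hasNPC_of_isNilpotent hnil p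
  rw [hasNPC_iff] at h1
  obtain ⟨N, hN⟩ := h1
  have hNn := hN.1
  have hcompl := hN.isComplement' S
  have hcomm : ∀ n ∈ N, ∀ y ∈ P, (n : G) * y = y * n := by
    intro n hn y hy
    rw [← hS] at hy
    obtain ⟨s, hs, rfl⟩ := hy
    have := Subgroup.commute_of_normal_of_disjoint N (S : Subgroup M) hNn hSn hcompl.disjoint n s hn hs
    exact congrArg Subtype.val this
  refine ⟨?_, ?_, ?_⟩
  · have h2 := (normal_subgroupOf_iff_le_normalizer (H := P) (K := M) hP.le)
    apply h2.mp
    have h3 : P.subgroupOf M = (S : Subgroup M) := by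
      rw [← hS, Subgroup.subgroupOf, Subgroup.comap_map_eq_self_of_injective M.subtype_injective]
    rw [h3]; exact hSn
  · intro g hg hgo y hy
    exact hcomm ⟨g, hg⟩ ((hN.mem_iff _).mpr (by rwa [Subgroup.orderOf_mk])) y hy
  · intro m hm
    obtain ⟨⟨n, s⟩, hns, _⟩ := hcompl.existsUnique ⟨m, hm⟩
    refine ⟨(n : M), (n : M).2, (s : M), ?_, congrArg Subtype.val hns.symm, ?_⟩
    · rw [← hS]; exact ⟨_, s.2, rfl⟩
    · exact hcomm _ n.2

/-- the class condition on 2-subgroups -/
def C2 (M : Subgroup G) : Prop :=
  ∀ S : Subgroup G, S ≤ M → IsPGroup 2 S → ∀ x ∈ S, ∀ y ∈ S, ∀ z ∈ S, z * ⁅x, y⁆ = ⁅x, y⁆ * z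

theorem C2.quot {M K : Subgroup G} [K.Normal] (h : C2 M) (hK : K ≤ M) : C2 (M.map (QuotientGroup.mk' K)) := by
  intro S hS hS2
  have : Fact (Nat.Prime 2) := ⟨Nat.prime_two⟩
  obtain ⟨R, hR, hRS, _⟩ := CfsgLib.FgCQ.exists_lift hS2
  have hRM : R ≤ M := by
    have h1 : R ≤ (M.map (QuotientGroup.mk' K)).comap (QuotientGroup.mk' K) := by
      rw [← Subgroup.map_le_iff_le_comap, hRS]; exact hS
    rwa [Subgroup.comap_map_eq, QuotientGroup.ker_mk', sup_eq_left.mpr hK] at h1
  intro x hx y hy z hz
  rw [← hRS] at hx hy hz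
  obtain ⟨x, hx, rfl⟩ := hx
  obtain ⟨y, hy, rfl⟩ := hy
  obtain ⟨z, hz, rfl⟩ := hz
  rw [← map_commutatorElement, ← map_mul, ← map_mul, h R hRM hR x hx y hy z hz]

theorem isCoatom_map {M K : Subgroup G} [K.Normal] (h : IsCoatom M) (hK : K ≤ M) :
    IsCoatom (M.map (QuotientGroup.mk' K)) := by
  have hs := QuotientGroup.mk'_surjective K
  have h1 : (M.map (QuotientGroup.mk' K)).comap (QuotientGroup.mk' K) = M := by
    rw [Subgroup.comap_map_eq, QuotientGroup.ker_mk', sup_eq_left.mpr hK]
  constructor
  · intro h2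
    apply h.1
    rw [← h1, h2, Subgroup.comap_top]
  · intro B hB
    have h2 : M < B.comap (QuotientGroup.mk' K) := by
      rw [← h1]
      exact (Subgroup.comap_lt_comap_of_surjective hs).mpr hB
    have h3 := h.2 _ h2
    rw [← Subgroup.map_comap_eq_self_of_surjective hs B, h3, Subgroup.map_top_of_surjective _ hs]

/-- the local analysis: `G` has a normal `p`-complement for each `p` dividing `|M|` -/
theorem npc_of_nilp_max {M : Subgroup G} (hnil : Group.IsNilpotent M) (hC : C2 M)
    (hcore : ∀ K : Subgroup G, K ≤ M → K ≠ ⊥ → M ≤ normalizer (K : Set G) → normalizer (K : Set G) = M)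
    (hpM : p ∣ Nat.card M) : Cfsg.HasNormalPComplement p G := by
  obtain ⟨P, hP⟩ := IsSylowIn.exists_isSylowIn (p := p) M
  obtain ⟨hMP, hcent, hdec⟩ := nilp_decomp hnil hP
  have hP0 : P ≠ ⊥ := by
    rintro rfl
    apply hP.not_dvd
    rw [relIndex_bot_left]; exact hpM
  have hNP := hcore P hP.le hP0 hMP
  have hPG : IsSylowIn p P ⊤ := by
    apply isSylowIn_of_isSylowIn_normalizer
    rw [top_inf_eq, hNP]
    exact hP
  have hnd : ¬ p ∣ P.index := by
    have := hPG.not_dvd
    rwa [relIndex_top_right] at this
  let S : Sylow p G := hP.isPGroup.toSylow hnd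
  have hS : (S : Subgroup G) = P := rfl
  by_cases hp2 : p = 2
  · subst hp2
    rw [hasNPC_iff]
    apply FrobCond.exists_isNPC 2 _ G rfl
    apply frob_centric S
    intro Q hQP hQc g hg hgo
    rw [hS] at hQP hQc
    have hQ0 : Q ≠ ⊥ := by
      rintro rfl
      apply hP0
      rw [eq_bot_iff]
      refine le_trans ?_ hQc
      refine le_inf le_rfl ?_
      intro x hx
      rw [mem_centralizer_iff]
      intro y hy
      rw [SetLike.mem_coe, mem_bot] at hy
      rw [hy, one_mul, mul_one]
    have hMQ : M ≤ normalizer (Q : Set G) := by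
      have key : ∀ m ∈ M, ∀ q ∈ Q, m * q * m⁻¹ ∈ Q := by
        intro m hm q hq
        obtain ⟨d, hd, x, hx, rfl, hdx⟩ := hdec m hm
        have h1 : ⁅x, q⁆ ∈ Q := by
          apply hQc
          refine mem_inf.mpr ⟨?_, ?_⟩
          · exact mul_mem (mul_mem (mul_mem hx (hQP hq)) (inv_mem hx)) (inv_mem (hQP hq))
          · rw [mem_centralizer_iff]
            intro z hz
            exact hC P hP.le hP.isPGroup x hx q (hQP hq) z (hQP hz)
        have h2 : x * q * x⁻¹ ∈ Q := by
          have : x * q * x⁻¹ = ⁅x, q⁆ * q := by rw [commutatorElement_def]; group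
          rw [this]; exact mul_mem h1 hq
        have h3 := hdx _ (hQP h2)
        have h4 : d * x * q * (d * x)⁻¹ = d * (x * q * x⁻¹) * d⁻¹ := by group
        rw [h4, h3, mul_inv_cancel_right]
        exact h2
      intro m hm
      rw [mem_normalizer_iff]
      intro q
      constructor
      · exact key m hm q
      · intro hq
        have h1 := key m⁻¹ (inv_mem hm) _ hq
        have h2 : m⁻¹ * (m * q * m⁻¹) * m⁻¹⁻¹ = q := by group
        rwa [h2] at h1
    have hNQ := hcore Q (hQP.trans hP.le) hQ0 hMQ
    rw [hNQ] at hg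
    rw [mem_centralizer_iff]
    intro q hq
    exact (hcent g hg hgo q (hQP hq)).symm
  · rw [Cfsg.Agent.S0117.result hp2 S, hS]
    have h1 : Cfsg.centerThompsonOf p P ≠ ⊥ := CfsgLib.H2Npc.centerThompsonOf_ne_bot hP.isPGroup hP0
    have h2 : Cfsg.centerThompsonOf p P ≤ M := (CfsgLib.H2Npc.centerThompsonOf_le p P).trans hP.le
    have h3 : M ≤ normalizer (Cfsg.centerThompsonOf p P : Set G) := by
      intro m hm
      rw [mem_normalizer_iff_map_conj_eq]
      have h4 := CfsgLib.H2Npc.centerThompsonOf_map p (MulAut.conj m).toMonoidHom (P := P) (MulAut.conj m).injective.injOn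
      have h5 : P.map (MulAut.conj m).toMonoidHom = P := mem_normalizer_iff_map_conj_eq.mp (hMP hm)
      rw [h5] at h4
      exact h4.symm
    rw [hcore _ h2 h1 h3]
    exact CfsgLib.TransNil.hasNPC_of_isNilpotent hnil p

/-- A finite group with a nilpotent maximal subgroup whose Sylow 2-subgroup has class at most two is solvable. -/
theorem solvable_of_nilp_max (n : ℕ) : ∀ (G : Type u) [Group G] [Finite G], Nat.card G = n → ∀ M : Subgroup G,
    IsCoatom M → Group.IsNilpotent M → C2 M → Group.IsSolvable G := by
  induction n using Nat.strong_induction_on with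
  | _ n ih =>
  intro G _ _ hG M hM hnil hC
  by_cases hcore : ∃ K : Subgroup G, K ≤ M ∧ K ≠ ⊥ ∧ K.Normal
  · obtain ⟨K, hKM, hK0, hKn⟩ := hcore
    have hlt : Nat.card (G ⧸ K) < n := by
      rw [← hG, K.card_eq_card_quotient_mul_card_subgroup]
      exact lt_mul_of_one_lt_right Nat.card_pos
        (Finite.one_lt_card_iff_nontrivial.mpr ((Subgroup.nontrivial_iff_ne_bot K).mpr hK0))
    have hnil' : Group.IsNilpotent (M.map (QuotientGroup.mk' K)) :=
      Group.nilpotent_of_surjective ((QuotientGroup.mk' K).subgroupMap M) (MonoidHom.subgroupMap_surjective _ M)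
    have h1 := ih _ hlt (G ⧸ K) rfl _ (isCoatom_map hM hKM) hnil' (hC.quot hKM)
    rw [Group.isSolvable_iff_subgroup_quotient K]
    refine ⟨?_, h1⟩
    have : Group.IsSolvable M := inferInstance
    exact Group.isSolvable_of_isSolvable_injective (f := Subgroup.inclusion hKM) (Subgroup.inclusion_injective hKM)
  · push Not at hcore
    have hN : ∀ K : Subgroup G, K ≤ M → K ≠ ⊥ → M ≤ normalizer (K : Set G) → normalizer (K : Set G) = M := by
      intro K hKM hK0 hle
      rcases eq_or_lt_of_le hle with h1 | h1
      · exact h1.symm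
      · exfalso
        exact hcore K hKM hK0 (normalizer_eq_top_iff.mp (hM.2 _ h1))
    have hnpc : ∀ i : {p : ℕ // p.Prime ∧ p ∣ Nat.card M}, ∃ N : Subgroup G, IsNPC i.1 N := by
      rintro ⟨p, hp, hpM⟩
      have : Fact p.Prime := ⟨hp⟩
      exact (hasNPC_iff p).mp (npc_of_nilp_max hnil hC hN hpM)
    choose N hNN using hnpc
    set K : Subgroup G := ⨅ i, N i with hK
    have hKn : K.Normal := by
      refine ⟨fun x hx g => ?_⟩
      rw [hK, mem_iInf] at hx ⊢
      intro i
      exact (hNN i).1.conj_mem x (hx i) g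
    have hcop : (Nat.card M).Coprime (Nat.card K) := by
      rw [Nat.coprime_iff_gcd_eq_one]
      by_contra hne
      obtain ⟨q, hq, hqd⟩ := Nat.exists_prime_and_dvd hne
      have h1 : K ≤ N ⟨q, hq, hqd.trans (Nat.gcd_dvd_left _ _)⟩ := iInf_le _ _
      exact (hNN ⟨q, hq, hqd.trans (Nat.gcd_dvd_left _ _)⟩).2.1
        ((hqd.trans (Nat.gcd_dvd_right _ _)).trans (Subgroup.card_dvd_of_le h1))
    by_cases hK0 : K = ⊥
    · -- `G` is nilpotent
      have hGnil : Group.IsNilpotent G := by
        apply CfsgLib.H2Schm.isNilpotent_of_npc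
        intro q hq
        have : Fact q.Prime := ⟨hq⟩
        by_cases hqM : q ∣ Nat.card M
        · exact npc_of_nilp_max hnil hC hN hqM
        · apply hasNPC_of_not_dvd
          intro hqG
          obtain ⟨x, hx⟩ := exists_prime_orderOf_dvd_card' q hqG
          have h1 : x ∈ K := by
            rw [hK, mem_iInf]
            intro i
            have : Fact i.1.Prime := ⟨i.2.1⟩
            rw [(hNN i).mem_iff, hx]
            apply (Nat.coprime_primes hq i.2.1).mpr
            rintro rfl
            exact hqM i.2.2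
          rw [hK0, mem_bot] at h1
          rw [h1, orderOf_one] at hx
          exact hq.one_lt.ne hx
      infer_instance
    · obtain ⟨r, hr, hrK⟩ := Nat.exists_prime_and_dvd (n := Nat.card K) (fun h => hK0 (card_eq_one.mp h))
      have : Fact r.Prime := ⟨hr⟩
      obtain ⟨R, hR, hMR⟩ := exists_invariant_sylow M K (by rw [normalizer_eq_top]; exact le_top) hcop
        (Or.inl inferInstance) r
      have hR0 : R ≠ ⊥ := by
        rintro rfl
        apply hR.not_dvd
        rw [relIndex_bot_left]; exact hrK
      have hRM : ¬ R ≤ M := by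
        intro hle
        apply hR0
        rw [eq_bot_iff]
        intro x hx
        have h1 : orderOf x ∣ Nat.card M := by
          have := Subgroup.orderOf_dvd_natCard M (hle hx)
          exact this
        have h2 : orderOf x ∣ Nat.card K := Subgroup.orderOf_dvd_natCard K (hR.le hx)
        rw [mem_bot, ← orderOf_eq_one_iff]
        exact Nat.eq_one_of_dvd_coprimes hcop h1 h2
      have hRn : R.Normal := by
        rw [← normalizer_eq_top_iff]
        apply hM.2
        refine lt_of_le_of_ne hMR ?_
        intro h1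
        apply hRM
        rw [h1]
        exact le_normalizer
      have htop : M ⊔ R = ⊤ := by
        apply hM.2
        refine lt_of_le_of_ne le_sup_left ?_
        intro h1
        apply hRM
        rw [h1]
        exact le_sup_right
      rw [Group.isSolvable_iff_subgroup_quotient R]
      constructor
      · have := hR.isPGroup.isNilpotent
        infer_instance
      · have hMs : Group.IsSolvable M := inferInstance
        have hf : Function.Surjective ((QuotientGroup.mk' R).comp M.subtype) := by
          rw [← MonoidHom.range_eq_top, MonoidHom.range_comp, Subgroup.range_subtype]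
          have h1 : (M ⊔ R).map (QuotientGroup.mk' R) = ⊤ := by
            rw [htop, Subgroup.map_top_of_surjective _ (QuotientGroup.mk'_surjective R)]
          rwa [Subgroup.map_sup, QuotientGroup.map_mk'_self, sup_bot_eq] at h1
        exact Group.isSolvable_of_surjective hf

end CfsgLib.FgNM
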