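import Cfsg.Agent.LibFgFrob
import Cfsg.Agent.LibFgBas
import Mathlib.Data.Finset.NatDivisors

/-! Numbers of elements of given order. -/

set_option autoImplicit false
set_option linter.style.haveILetI false
set_option linter.unusedSectionVars false

namespace CfsgLib.FgOrd

universe u

variable {G : Type u} [Group G] [Finite G]

/-- number of elements of order `m` -/
noncomputable def cnt (G : Type u) [Group G] (m : ℕ) : ℕ := Nat.card {g : G // orderOf g = m}

theorem cnt_pos {g : G} : 0 < cnt G (orderOf g) := by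
  unfold cnt
  haveI : Nonempty {x : G // orderOf x = orderOf g} := ⟨⟨g, rfl⟩⟩
  exact Nat.card_pos

theorem cnt_eq_zero {m : ℕ} (h : ∀ g : G, orderOf g ≠ m) : cnt G m = 0 := by
  unfold cnt
  haveI : IsEmpty {x : G // orderOf x = m} := ⟨fun x => h x.1 x.2⟩
  exact Nat.card_of_isEmpty

theorem cnt_one : cnt G 1 = 1 := by
  unfold cnt
  rw [Nat.card_eq_one_iff_unique]
  refine ⟨⟨fun a b => ?_⟩, ⟨⟨1, orderOf_one⟩⟩⟩
  apply Subtype.ext
  rw [orderOf_eq_one_iff.mp a.2, orderOf_eq_one_iff.mp b.2]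

theorem totient_dvd_cnt (m : ℕ) : Nat.totient m ∣ cnt G m := by
  classical
  rcases Nat.lt_or_ge 1 m with hm | hm
  · haveI := Fintype.ofFinite {y : G // orderOf y = m}
    have h := CfsgLib.FgFrob.dvd_sum_units (G := G) hm (fun _ => 1) (fun _ _ _ _ => rfl)
    rw [Finset.sum_const, Finset.card_univ, nsmul_eq_mul, mul_one, ← Nat.card_eq_fintype_card] at h
    exact_mod_cast h
  · interval_cases m
    · have : cnt G 0 = 0 := cnt_eq_zero (fun g => (orderOf_pos g).ne')
      rw [this]; exact dvd_zero _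
    · simp

theorem sum_cnt {k : ℕ} (hk : k ≠ 0) : ∑ d ∈ k.divisors, cnt G d = Nat.card {g : G // g ^ k = 1} := by
  classical
  haveI := Fintype.ofFinite G
  have h := sum_card_orderOf_eq_card_pow_eq_one (G := G) hk
  have h1 : ∀ d, cnt G d = (Finset.univ.filter (fun x : G => orderOf x = d)).card := by
    intro d
    unfold cnt
    rw [Nat.card_eq_fintype_card, Fintype.card_subtype]
  rw [Nat.card_eq_fintype_card, Fintype.card_subtype]
  simp only [h1]
  convert h using 1

/-- Frobenius -/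
theorem frob {k : ℕ} (hk : k ∣ Nat.card G) : k ∣ ∑ d ∈ k.divisors, cnt G d := by
  have hk0 : k ≠ 0 := by
    rintro rfl
    exact Nat.card_pos.ne' (Nat.eq_zero_of_zero_dvd hk)
  rw [sum_cnt hk0]
  exact CfsgLib.FgFrob.frobenius k hk

theorem sum_div {a b : ℕ} (hab : a.Coprime b) (F : ℕ → ℕ) :
    ∑ d ∈ (a * b).divisors, F d = ∑ i ∈ a.divisors, ∑ j ∈ b.divisors, F (i * j) := by
  rw [Nat.divisors_mul, Finset.mul_def, Finset.sum_image hab.mul_injOn_divisors, Finset.sum_product]

theorem frob_prime {p : ℕ} (hp : p.Prime) (h : p ∣ Nat.card G) : p ∣ 1 + cnt G p := by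
  have := frob h
  rw [Nat.Prime.sum_divisors hp, cnt_one] at this
  rwa [add_comm] at this

theorem frob_two_primes {p q : ℕ} (hp : p.Prime) (hq : q.Prime) (hpq : p ≠ q) (h1 : p ∣ Nat.card G)
    (h2 : q ∣ Nat.card G) : p * q ∣ 1 + cnt G p + cnt G q + cnt G (p * q) := by
  have hcop : p.Coprime q := (Nat.coprime_primes hp hq).mpr hpq
  have := frob (hcop.mul_dvd_of_dvd_of_dvd h1 h2)
  rw [sum_div hcop, Nat.Prime.sum_divisors hp, Nat.Prime.sum_divisors hq, Nat.Prime.sum_divisors hq] at this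
  simp only [one_mul, mul_one, cnt_one] at this
  convert this using 1
  ring

theorem frob_prime_sq {p : ℕ} (hp : p.Prime) (h : p ^ 2 ∣ Nat.card G) : p ^ 2 ∣ 1 + cnt G p + cnt G (p ^ 2) := by
  have := frob h
  rw [Nat.divisors_prime_pow hp, Finset.sum_map, Finset.sum_range_succ, Finset.sum_range_succ, Finset.sum_range_one] at this
  simpa [cnt_one] using this

theorem exists_orderOf_dvd {g : G} {m : ℕ} (h : m ∣ orderOf g) : ∃ x : G, orderOf x = m := by
  obtain ⟨k, hk⟩ := h
  have hk0 : k ≠ 0 := by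
    rintro rfl
    rw [mul_zero] at hk
    exact (orderOf_pos g).ne' hk
  refine ⟨g ^ k, ?_⟩
  rw [orderOf_pow' g hk0, hk, Nat.gcd_eq_right (Dvd.intro_left _ rfl), Nat.mul_div_cancel _ (Nat.pos_of_ne_zero hk0)]

end CfsgLib.FgOrd
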