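import Mathlib
import Cfsg.Agent.EqBase
import Cfsg.Agent.LibFgOrd
import Cfsg.Agent.LibFgCnt
import Cfsg.Agent.LibFgFpf2

/-! more on the numbers of elements of given order -/

set_option autoImplicit false

namespace CfsgLib.FgOrd
open CfsgLib.FgCnt

universe u
variable {G : Type u} [Group G] [Finite G]

theorem decomp (G : Type u) [Group G] [Finite G] {k m : ℕ} (hc : Nat.Coprime k m) (hk : 0 < k) (hm : 0 < m) :
    ∃ a b : ℕ, (∀ g : G, orderOf g = k * m → orderOf (g ^ a) = k ∧ orderOf (g ^ b) = m ∧ g ^ a * g ^ b = g) ∧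
      ∀ x y : G, orderOf x = k → orderOf y = m → Commute x y →
        orderOf (x * y) = k * m ∧ (x * y) ^ a = x ∧ (x * y) ^ b = y := by
  obtain ⟨a, b, ha1, ha2, hb1, hb2⟩ : ∃ a b : ℕ, a ≡ 1 [MOD k] ∧ a ≡ 0 [MOD m] ∧ b ≡ 0 [MOD k] ∧ b ≡ 1 [MOD m] :=
    ⟨Nat.chineseRemainder hc 1 0, Nat.chineseRemainder hc 0 1, (Nat.chineseRemainder hc 1 0).2.1,
      (Nat.chineseRemainder hc 1 0).2.2, (Nat.chineseRemainder hc 0 1).2.1, (Nat.chineseRemainder hc 0 1).2.2⟩
  have hab : a + b ≡ 1 [MOD k * m] := by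
    rw [← Nat.modEq_and_modEq_iff_modEq_mul hc]
    exact ⟨ha1.add hb1, ha2.add hb2⟩
  refine ⟨a, b, ?_, ?_⟩
  · intro g hg
    have h1 : orderOf (g ^ a) ∣ k := by
      apply orderOf_dvd_of_pow_eq_one
      rw [← pow_mul]
      apply orderOf_dvd_iff_pow_eq_one.mp
      rw [hg, mul_comm a]
      exact Nat.mul_dvd_mul_left _ (Nat.modEq_zero_iff_dvd.mp ha2)
    have h2 : orderOf (g ^ b) ∣ m := by
      apply orderOf_dvd_of_pow_eq_one
      rw [← pow_mul]
      apply orderOf_dvd_iff_pow_eq_one.mp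
      rw [hg]
      exact Nat.mul_dvd_mul_right (Nat.modEq_zero_iff_dvd.mp hb1) _
    have h3 : g ^ a * g ^ b = g := by
      rw [← pow_add]
      have : g ^ (a + b) = g ^ 1 := by
        rw [pow_eq_pow_iff_modEq, hg]; exact hab
      rwa [pow_one] at this
    have hcop : Nat.Coprime (orderOf (g ^ a)) (orderOf (g ^ b)) := Nat.Coprime.coprime_dvd_left h1 (Nat.Coprime.coprime_dvd_right h2 hc)
    have h4 : orderOf (g ^ a) * orderOf (g ^ b) = k * m := by
      rw [← hg, ← (Commute.pow_pow (Commute.refl g) a b).orderOf_mul_eq_mul_orderOf_of_coprime hcop, h3]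
    obtain ⟨u, hu⟩ := h1
    obtain ⟨v, hv⟩ := h2
    have p1 := orderOf_pos (g ^ a)
    have p2 := orderOf_pos (g ^ b)
    have h5 : u * v = 1 := by
      have h6 : (orderOf (g ^ a) * orderOf (g ^ b)) * (u * v) = (orderOf (g ^ a) * orderOf (g ^ b)) * 1 := by
        calc (orderOf (g ^ a) * orderOf (g ^ b)) * (u * v) = (orderOf (g ^ a) * u) * (orderOf (g ^ b) * v) := by ring
          _ = k * m := by rw [← hu, ← hv]
          _ = _ := by rw [h4, mul_one]
      exact Nat.eq_of_mul_eq_mul_left (Nat.mul_pos p1 p2) h6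
    have hu1 : u = 1 := Nat.eq_one_of_mul_eq_one_right h5
    have hv1 : v = 1 := Nat.eq_one_of_mul_eq_one_left h5
    rw [hu1, mul_one] at hu
    rw [hv1, mul_one] at hv
    exact ⟨hu.symm, hv.symm, h3⟩
  · intro x y hxo hy hxy
    refine ⟨?_, ?_, ?_⟩
    · rw [hxy.orderOf_mul_eq_mul_orderOf_of_coprime, hxo, hy]
      rw [hxo, hy]; exact hc
    · rw [hxy.mul_pow]
      have h1 : y ^ a = 1 := orderOf_dvd_iff_pow_eq_one.mp (by rw [hy]; exact Nat.modEq_zero_iff_dvd.mp ha2)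
      have h2 : x ^ a = x ^ 1 := by rw [pow_eq_pow_iff_modEq, hxo]; exact ha1
      rw [h1, h2, mul_one, pow_one]
    · rw [hxy.mul_pow]
      have h1 : x ^ b = 1 := orderOf_dvd_iff_pow_eq_one.mp (by rw [hxo]; exact Nat.modEq_zero_iff_dvd.mp hb1)
      have h2 : y ^ b = y ^ 1 := by rw [pow_eq_pow_iff_modEq, hy]; exact hb2
      rw [h1, h2, one_mul, pow_one]

theorem cnt_mod {r : ℕ} [hr : Fact r.Prime] (P : Subgroup G) (hP : IsPGroup r P) (n : ℕ) :
    cnt G n ≡ Nat.card {y : G // orderOf y = n ∧ y ∈ Subgroup.centralizer (P : Set G)} [MOD r] := by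
  have h := mod_conj P hP {q | q.1 = ⊥ ∧ orderOf q.2 = n} (by
    rintro g hg C y ⟨hC, hy⟩
    change C = ⊥ at hC
    subst hC
    refine ⟨Subgroup.map_bot _, ?_⟩
    change orderOf (g * y * g⁻¹) = n
    have := MulEquiv.orderOf_eq (MulAut.conj g) y
    rw [MulAut.conj_apply] at this
    rw [this]; exact hy)
  have e1 : Nat.card {q : Subgroup G × G | q.1 = ⊥ ∧ orderOf q.2 = n} = cnt G n := by
    apply Nat.card_congr
    refine ⟨fun q => ⟨q.1.2, q.2.2⟩, fun y => ⟨(⊥, y.1), rfl, y.2⟩, fun q => ?_, fun y => rfl⟩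
    apply Subtype.ext
    exact Prod.ext q.2.1.symm rfl
  have e2 : Nat.card {q : Subgroup G × G // q ∈ {q : Subgroup G × G | q.1 = ⊥ ∧ orderOf q.2 = n} ∧
      P ≤ Subgroup.normalizer (q.1 : Set G) ∧ q.2 ∈ Subgroup.centralizer (P : Set G)} =
      Nat.card {y : G // orderOf y = n ∧ y ∈ Subgroup.centralizer (P : Set G)} := by
    apply Nat.card_congr
    refine ⟨fun q => ⟨q.1.2, q.2.1.2, q.2.2.2⟩, fun y => ⟨(⊥, y.1), ⟨rfl, y.2.1⟩, ?_, y.2.2⟩, fun q => ?_, fun y => rfl⟩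
    · change P ≤ Subgroup.normalizer ((⊥ : Subgroup G) : Set G)
      rw [Subgroup.normalizer_eq_top]; exact le_top
    · apply Subtype.ext
      exact Prod.ext q.2.1.1.symm rfl
  rw [e1, e2] at h
  exact h

/-- `N(r m) ≡ N(r) N(m) ≡ - N(m)` modulo `r` -/
theorem f6 {r m : ℕ} (hr : r.Prime) (hrG : r ∣ Nat.card G) (hc : Nat.Coprime r m) :
    r ∣ cnt G (r * m) + cnt G m := by
  have : Fact r.Prime := ⟨hr⟩
  have hm : 0 < m := by
    rcases Nat.eq_zero_or_pos m with rfl | h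
    · rw [Nat.coprime_zero_right] at hc
      exact absurd hc hr.one_lt.ne'
    · exact h
  obtain ⟨P⟩ := (inferInstance : Nonempty (Sylow r G))
  obtain ⟨a, b, h1, h2⟩ := decomp G hc hr.pos hm
  have hPx : ∀ x : G, orderOf x = r → x ∈ Subgroup.centralizer ((P : Subgroup G) : Set G) → x ∈ P := by
    intro x hx hxC
    refine CfsgLib.FgBas.mem_of_mem_normalizer P ⟨1, by rw [hx, pow_one]⟩ ?_
    exact Subgroup.centralizer_le_normalizer _ hxC
  have e : Nat.card {y : G // orderOf y = r * m ∧ y ∈ Subgroup.centralizer ((P : Subgroup G) : Set G)} =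
      Nat.card {y : G // orderOf y = r ∧ y ∈ Subgroup.centralizer ((P : Subgroup G) : Set G)} *
      Nat.card {y : G // orderOf y = m ∧ y ∈ Subgroup.centralizer ((P : Subgroup G) : Set G)} := by
    rw [← Nat.card_prod]
    apply Nat.card_congr
    have key : ∀ (q : {y : G // orderOf y = r ∧ y ∈ Subgroup.centralizer ((P : Subgroup G) : Set G)} ×
        {y : G // orderOf y = m ∧ y ∈ Subgroup.centralizer ((P : Subgroup G) : Set G)}),
        orderOf (q.1.1 * q.2.1) = r * m ∧ (q.1.1 * q.2.1) ^ a = q.1.1 ∧ (q.1.1 * q.2.1) ^ b = q.2.1 := fun q =>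
      h2 q.1.1 q.2.1 q.1.2.1 q.2.2.1 (Subgroup.mem_centralizer_iff.mp q.2.2.2 _ (hPx _ q.1.2.1 q.1.2.2))
    refine ⟨fun g => (⟨g.1 ^ a, (h1 g.1 g.2.1).1, pow_mem g.2.2 a⟩, ⟨g.1 ^ b, (h1 g.1 g.2.1).2.1, pow_mem g.2.2 b⟩),
      fun q => ⟨q.1.1 * q.2.1, (key q).1, mul_mem q.1.2.2 q.2.2.2⟩, fun g => ?_, fun q => ?_⟩
    · exact Subtype.ext (h1 g.1 g.2.1).2.2
    · exact Prod.ext (Subtype.ext (key q).2.1) (Subtype.ext (key q).2.2)
  have m1 := cnt_mod (P : Subgroup G) P.isPGroup' (r * m)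
  have m2 := cnt_mod (P : Subgroup G) P.isPGroup' r
  have m3 := cnt_mod (P : Subgroup G) P.isPGroup' m
  rw [e] at m1
  have m4 : cnt G (r * m) ≡ cnt G r * cnt G m [MOD r] := m1.trans (m2.symm.mul m3.symm)
  have m5 : cnt G (r * m) + cnt G m ≡ (1 + cnt G r) * cnt G m [MOD r] := by
    have := m4.add_right (cnt G m)
    refine this.trans ?_
    rw [add_mul, one_mul, add_comm]
  rw [← Nat.modEq_zero_iff_dvd]
  refine m5.trans ?_
  rw [Nat.modEq_zero_iff_dvd]
  exact (frob_prime hr hrG).mul_right _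

theorem cnt_ne_zero_iff {n : ℕ} : cnt G n ≠ 0 ↔ ∃ g : G, orderOf g = n := by
  constructor
  · intro h
    by_contra hne
    push Not at hne
    exact h (cnt_eq_zero hne)
  · rintro ⟨g, rfl⟩
    exact cnt_pos.ne'

theorem dvd_sub' {p x y z : ℕ} (h1 : p ∣ x + y) (h2 : p ∣ z + y) : (x : ℤ) ≡ z [ZMOD p] := by
  have e1 : (p : ℤ) ∣ x + y := by exact_mod_cast h1
  have e2 : (p : ℤ) ∣ z + y := by exact_mod_cast h2
  apply Int.ModEq.symm
  rw [Int.modEq_iff_dvd]
  have := dvd_sub e1 e2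
  have e : (x : ℤ) + y - (z + y) = x - z := by ring
  rwa [e] at this

/-- main hypothesis: `N(m) ∈ {a, b}` for all odd `m ≠ 1` -/
def TwoVal (G : Type u) [Group G] (a b : ℕ) : Prop :=
  ∀ m : ℕ, Odd m → m ≠ 1 → cnt G m ≠ 0 → cnt G m = a ∨ cnt G m = b

theorem TwoVal.symm {a b : ℕ} (h : TwoVal G a b) : TwoVal G b a := fun m h1 h2 h3 => (h m h1 h2 h3).symm

/-- two primes with `N = a` : `N(pq) = b`, `b ≡ 1` mod `p` -/
theorem TwoVal.pair {a b : ℕ} (h : TwoVal G a b) {p q : ℕ} (hp : p.Prime) (hq : q.Prime) (hpq : p ≠ q)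
    (hp2 : Odd p) (hq2 : Odd q) (hpG : p ∣ Nat.card G) (hpa : cnt G p = a) (hqa : cnt G q = a) :
    cnt G (p * q) = b ∧ (b : ℤ) ≡ 1 [ZMOD p] ∧ (a : ℤ) ≡ -1 [ZMOD p] := by
  have h1 := frob_prime hp hpG
  have h2 := f6 hp hpG ((Nat.coprime_primes hp hq).mpr hpq)
  rw [hpa] at h1
  rw [hqa] at h2
  have h3 : (cnt G (p * q) : ℤ) ≡ (1 : ℕ) [ZMOD p] := dvd_sub' h2 h1
  have h4 : (a : ℤ) ≡ -1 [ZMOD p] := by
    apply Int.ModEq.symm
    rw [Int.modEq_iff_dvd, sub_neg_eq_add, add_comm]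
    exact_mod_cast h1
  have hp3 : 3 ≤ p := by
    rcases hp2 with ⟨k, hk⟩
    have := hp.two_le
    omega
  have h5 : cnt G (p * q) ≠ 0 := by
    intro h0
    rw [h0] at h3
    have : (p : ℤ) ∣ 1 - 0 := Int.modEq_iff_dvd.mp (by simpa using h3)
    have := Int.le_of_dvd (by norm_num) this
    omega
  have h6 : cnt G (p * q) ≠ a := by
    intro h0
    rw [h0] at h3
    have h7 := h4.symm.trans h3
    have : (p : ℤ) ∣ (1 : ℕ) - (-1) := Int.modEq_iff_dvd.mp h7
    have := Int.le_of_dvd (by norm_num) this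
    push_cast at this
    omega
  have h7 := (h (p * q) (hp2.mul hq2) (by
    intro h; have := Nat.eq_one_of_mul_eq_one_right h; exact hp.one_lt.ne' this) h5).resolve_left h6
  rw [h7] at h3
  exact ⟨h7, by simpa using h3, h4⟩

theorem TwoVal.no_three {a b : ℕ} (h : TwoVal G a b) {p q r : ℕ} (hp : p.Prime) (hq : q.Prime) (hr : r.Prime)
    (hpq : p ≠ q) (hpr : p ≠ r) (hqr : q ≠ r) (hp2 : Odd p) (hq2 : Odd q) (hr2 : Odd r)
    (hpG : p ∣ Nat.card G) (hqG : q ∣ Nat.card G) (hrG : r ∣ Nat.card G)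
    (hpa : cnt G p = a) (hqa : cnt G q = a) (hrb : cnt G r = b) : False := by
  obtain ⟨h1, h2, h3⟩ := h.pair hp hq hpq hp2 hq2 hpG hpa hqa
  have hp3 : 3 ≤ p := by
    rcases hp2 with ⟨k, hk⟩
    have := hp.two_le
    omega
  have hr3 : 3 ≤ r := by
    rcases hr2 with ⟨k, hk⟩
    have := hr.two_le
    omega
  -- N(pr)
  have h4 := f6 hp hpG ((Nat.coprime_primes hp hr).mpr hpr)
  rw [hrb] at h4
  have h4' : (cnt G (p * r) : ℤ) ≡ -1 [ZMOD p] := by
    have e1 : (p : ℤ) ∣ cnt G (p * r) + b := by exact_mod_cast h4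
    have e2 : (cnt G (p * r) : ℤ) + b ≡ 0 [ZMOD p] := (Int.modEq_zero_iff_dvd).mpr e1
    have e3 := e2.sub h2
    have e4 : (cnt G (p * r) : ℤ) + b - b = cnt G (p * r) := by ring
    rw [e4] at e3
    simpa using e3
  have h5 : cnt G (p * r) ≠ 0 := by
    intro h0
    rw [h0] at h4'
    have : (p : ℤ) ∣ -1 - 0 := Int.modEq_iff_dvd.mp (by simpa using h4')
    have := Int.le_of_dvd (by norm_num) (Int.dvd_neg.mpr this)
    omega
  have h6 : cnt G (p * r) ≠ b := by
    intro h0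
    rw [h0] at h4'
    have h7 := h4'.symm.trans h2
    have : (p : ℤ) ∣ 1 - (-1) := Int.modEq_iff_dvd.mp h7
    have := Int.le_of_dvd (by norm_num) this
    omega
  have h7 := (h (p * r) (hp2.mul hr2) (by
    intro h; have := Nat.eq_one_of_mul_eq_one_right h; exact hp.one_lt.ne' this) h5).resolve_right h6
  have h8 := f6 hr hrG ((Nat.coprime_primes hr hp).mpr hpr.symm)
  rw [mul_comm r p, h7, hpa, ← two_mul] at h8
  have h9 : r ∣ a := by
    rcases (Nat.Prime.dvd_mul hr).mp h8 with h | h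
    · have := Nat.le_of_dvd (by norm_num) h; omega
    · exact h
  have h10 := frob_prime hr hrG
  rw [hrb] at h10
  have h11 := f6 hr hrG (m := p * q) (Nat.Coprime.mul_right ((Nat.coprime_primes hr hp).mpr hpr.symm)
    ((Nat.coprime_primes hr hq).mpr hqr.symm))
  rw [h1] at h11
  have h12 : (cnt G (r * (p * q)) : ℤ) ≡ (1 : ℕ) [ZMOD r] := dvd_sub' h11 h10
  have h13 : cnt G (r * (p * q)) ≠ 0 := by
    intro h0
    rw [h0] at h12
    have : (r : ℤ) ∣ 1 - 0 := Int.modEq_iff_dvd.mp (by simpa using h12)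
    have := Int.le_of_dvd (by norm_num) this
    omega
  rcases h (r * (p * q)) (hr2.mul (hp2.mul hq2)) (by
    intro h; have := Nat.eq_one_of_mul_eq_one_right h; exact hr.one_lt.ne' this) h13 with h14 | h14
  · rw [h14] at h12
    have e1 : (a : ℤ) ≡ 0 [ZMOD r] := (Int.modEq_zero_iff_dvd).mpr (by exact_mod_cast h9)
    have : (r : ℤ) ∣ (1 : ℕ) - 0 := Int.modEq_iff_dvd.mp (e1.symm.trans h12)
    have := Int.le_of_dvd (by norm_num) this
    push_cast at this
    omega
  · rw [h14] at h11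
    have h15 : r ∣ b := by
      rw [← two_mul] at h11
      rcases (Nat.Prime.dvd_mul hr).mp h11 with h | h
      · have := Nat.le_of_dvd (by norm_num) h; omega
      · exact h
    have h16 : r ∣ 1 := (Nat.dvd_add_left h15).mp h10
    exact hr.one_lt.ne' (Nat.dvd_one.mp h16)

theorem TwoVal.not_all {a b : ℕ} (h : TwoVal G a b) (hodd : Odd (Nat.card G)) {p q : ℕ} (hp : p.Prime) (hq : q.Prime)
    (hpq : p ≠ q) (hpG : p ∣ Nat.card G) (hqG : q ∣ Nat.card G)
    (hall : ∀ r : ℕ, r.Prime → r ∣ Nat.card G → cnt G r = a) : False := by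
  have hoddp : ∀ r : ℕ, r ∣ Nat.card G → Odd r := fun r hr => hodd.of_dvd_nat hr
  have key : Nat.card G ∣ 1 + a := by
    rw [Nat.dvd_iff_prime_pow_dvd_dvd]
    intro s k hs hk
    rcases Nat.eq_zero_or_pos k with rfl | hk0
    · rw [pow_zero]; exact one_dvd _
    have hsG : s ∣ Nat.card G := (dvd_pow_self s hk0.ne').trans hk
    obtain ⟨t, ht, htG, hst⟩ : ∃ t : ℕ, t.Prime ∧ t ∣ Nat.card G ∧ s ≠ t := by
      by_cases hsp : s = p
      · exact ⟨q, hq, hqG, by rw [hsp]; exact hpq⟩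
      · exact ⟨p, hp, hpG, hsp⟩
    obtain ⟨h1, h2, h3⟩ := h.pair hs ht hst (hoddp s hsG) (hoddp t htG) hsG (hall s hs hsG) (hall t ht htG)
    have hs3 : 3 ≤ s := by
      rcases hoddp s hsG with ⟨k, hk⟩
      have := hs.two_le
      omega
    have hz : ∀ i, 2 ≤ i → cnt G (s ^ i) = 0 := by
      intro i hi
      by_contra hne
      have h4 : s ∣ cnt G (s ^ i) := by
        refine dvd_trans ?_ (totient_dvd_cnt (s ^ i))
        obtain ⟨j, rfl⟩ : ∃ j, i = j + 2 := ⟨i - 2, by omega⟩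
        rw [Nat.totient_prime_pow_succ hs, pow_succ]
        exact (Dvd.intro_left _ rfl : s ∣ s ^ j * s).mul_right _
      rcases h (s ^ i) ((hoddp s hsG).pow) (by
        intro h0
        have := (Nat.pow_eq_one).mp h0
        omega) hne with h5 | h5
      · rw [h5] at h4
        have e1 : (a : ℤ) ≡ 0 [ZMOD s] := (Int.modEq_zero_iff_dvd).mpr (by exact_mod_cast h4)
        have : (s : ℤ) ∣ -1 - 0 := Int.modEq_iff_dvd.mp (e1.symm.trans h3)
        have := Int.le_of_dvd (by norm_num) (Int.dvd_neg.mpr this)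
        omega
      · rw [h5] at h4
        have e1 : (b : ℤ) ≡ 0 [ZMOD s] := (Int.modEq_zero_iff_dvd).mpr (by exact_mod_cast h4)
        have : (s : ℤ) ∣ 1 - 0 := Int.modEq_iff_dvd.mp (e1.symm.trans h2)
        have := Int.le_of_dvd (by norm_num) this
        omega
    have h6 := frob hk
    rw [Nat.divisors_prime_pow hs, Finset.sum_map] at h6
    have h7 : ∑ i ∈ Finset.range (k + 1), cnt G (s ^ i) = 1 + a := by
      obtain ⟨j, rfl⟩ : ∃ j, k = j + 1 := ⟨k - 1, by omega⟩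
      rw [Finset.sum_range_succ', Finset.sum_range_succ', Finset.sum_eq_zero (fun i _ => hz (i + 1 + 1) (by omega))]
      simp only [zero_add, pow_one, pow_zero, cnt_one, hall s hs hsG]
      ring
    rw [← h7]
    exact h6
  have hle : 1 + cnt G p + cnt G q ≤ Nat.card G := by
    classical
    have := Fintype.ofFinite G
    have e : ∀ d, cnt G d = (Finset.univ.filter (fun x : G => orderOf x = d)).card := by
      intro d
      unfold cnt
      rw [Nat.card_eq_fintype_card, Fintype.card_subtype]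
    rw [← cnt_one (G := G), e, e, e, ← Finset.card_union_of_disjoint, ← Finset.card_union_of_disjoint]
    · rw [Nat.card_eq_fintype_card]
      exact Finset.card_le_univ _
    · rw [Finset.disjoint_left]
      intro x hx hx2
      simp only [Finset.mem_union, Finset.mem_filter, Finset.mem_univ, true_and] at hx hx2
      rcases hx with hx | hx
      · exact hq.one_lt.ne (hx.symm.trans hx2)
      · exact hpq (hx.symm.trans hx2)
    · rw [Finset.disjoint_left]
      intro x hx hx2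
      simp only [Finset.mem_filter, Finset.mem_univ, true_and] at hx hx2
      exact hp.one_lt.ne (hx.symm.trans hx2)
  have h1 := Nat.le_of_dvd (by omega) key
  rw [hall p hp hpG] at hle
  have h2 : cnt G q = 0 := by omega
  have : Fact q.Prime := ⟨hq⟩
  obtain ⟨g, hg⟩ := exists_prime_orderOf_dvd_card' q hqG
  exact cnt_ne_zero_iff.mpr ⟨g, hg⟩ h2

/-- in odd order groups with `N(m) ∈ {a,b}` for `m ≠ 1`, distinct primes have distinct `N` -/
theorem TwoVal.ne {a b : ℕ} (h : TwoVal G a b) (hodd : Odd (Nat.card G)) {p q : ℕ} (hp : p.Prime) (hq : q.Prime)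
    (hpq : p ≠ q) (hpG : p ∣ Nat.card G) (hqG : q ∣ Nat.card G) : cnt G p ≠ cnt G q := by
  have hoddp : ∀ r : ℕ, r ∣ Nat.card G → Odd r := fun r hr => hodd.of_dvd_nat hr
  have hval : ∀ r : ℕ, r.Prime → r ∣ Nat.card G → cnt G r = a ∨ cnt G r = b := by
    intro r hr hrG
    have : Fact r.Prime := ⟨hr⟩
    obtain ⟨g, hg⟩ := exists_prime_orderOf_dvd_card' r hrG
    exact h r (hoddp r hrG) hr.one_lt.ne' (cnt_ne_zero_iff.mpr ⟨g, hg⟩)
  -- general argument
  have gen : ∀ a b : ℕ, TwoVal G a b → (∀ r : ℕ, r.Prime → r ∣ Nat.card G → cnt G r = a ∨ cnt G r = b) →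
      cnt G p = a → cnt G q = a → False := by
    intro a b h hval hpa hqa
    by_cases hall : ∀ r : ℕ, r.Prime → r ∣ Nat.card G → cnt G r = a
    · exact h.not_all hodd hp hq hpq hpG hqG hall
    · push Not at hall
      obtain ⟨r, hr, hrG, hra⟩ := hall
      have hrb := (hval r hr hrG).resolve_left hra
      exact h.no_three hp hq hr hpq (by rintro rfl; exact hra hpa) (by rintro rfl; exact hra hqa)
        (hoddp p hpG) (hoddp q hqG) (hoddp r hrG) hpG hqG hrG hpa hqa hrb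
  intro heq
  rcases hval p hp hpG with h1 | h1
  · exact gen a b h hval h1 (heq ▸ h1)
  · exact gen b a h.symm (fun r hr hrG => (hval r hr hrG).symm) h1 (heq ▸ h1)

theorem TwoVal.two_primes {a b : ℕ} (h : TwoVal G a b) (hodd : Odd (Nat.card G)) :
    (Nat.card G).primeFactors.card ≤ 2 := by
  by_contra hlt
  push Not at hlt
  obtain ⟨p, hp, q, hq, r, hr, hpq, hpr, hqr⟩ := Finset.two_lt_card.mp hlt
  rw [Nat.mem_primeFactors] at hp hq hr
  have hval : ∀ r : ℕ, r.Prime → r ∣ Nat.card G → cnt G r = a ∨ cnt G r = b := by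
    intro r hr hrG
    have : Fact r.Prime := ⟨hr⟩
    obtain ⟨g, hg⟩ := exists_prime_orderOf_dvd_card' r hrG
    exact h r (hodd.of_dvd_nat hrG) hr.one_lt.ne' (cnt_ne_zero_iff.mpr ⟨g, hg⟩)
  have n1 := h.ne hodd hp.1 hq.1 hpq hp.2.1 hq.2.1
  have n2 := h.ne hodd hp.1 hr.1 hpr hp.2.1 hr.2.1
  have n3 := h.ne hodd hq.1 hr.1 hqr hq.2.1 hr.2.1
  rcases hval p hp.1 hp.2.1 with h1 | h1 <;> rcases hval q hq.1 hq.2.1 with h2 | h2 <;>
    rcases hval r hr.1 hr.2.1 with h3 | h3 <;> simp_all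

theorem even_cnt {m : ℕ} (hm : 2 < m) : Even (cnt G m) :=
  (Nat.totient_even hm).trans_dvd (totient_dvd_cnt m)

theorem exists_vals (h : (((fun m : ℕ => Nat.card {g : G // orderOf g = m}) '' Set.range (orderOf : G → ℕ))).ncard = 3) :
    ∃ a b : ℕ, a ≠ b ∧ a ≠ 1 ∧ b ≠ 1 ∧ ∀ m, cnt G m ≠ 0 → cnt G m = 1 ∨ cnt G m = a ∨ cnt G m = b := by
  obtain ⟨x, y, z, hxy, hxz, hyz, hS⟩ := Set.ncard_eq_three.mp h
  have h1 : (1 : ℕ) ∈ ((fun m : ℕ => Nat.card {g : G // orderOf g = m}) '' Set.range (orderOf : G → ℕ)) :=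
    ⟨1, ⟨1, orderOf_one⟩, cnt_one⟩
  have hval : ∀ m, cnt G m ≠ 0 → cnt G m = x ∨ cnt G m = y ∨ cnt G m = z := by
    intro m hm
    obtain ⟨g, hg⟩ := cnt_ne_zero_iff.mp hm
    have : cnt G m ∈ ((fun m : ℕ => Nat.card {g : G // orderOf g = m}) '' Set.range (orderOf : G → ℕ)) :=
      ⟨m, ⟨g, hg⟩, rfl⟩
    rw [hS] at this
    exact this
  rw [hS] at h1
  rcases h1 with h1 | h1 | h1
  · exact ⟨y, z, hyz, by rw [h1]; exact hxy.symm, by rw [h1]; exact hxz.symm, fun m hm => by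
      rw [h1]; exact hval m hm⟩
  · exact ⟨x, z, hxz, by rw [h1]; exact hxy, by rw [h1]; exact hyz.symm, fun m hm => by
      rcases hval m hm with h | h | h
      · exact Or.inr (Or.inl h)
      · exact Or.inl (h.trans h1.symm)
      · exact Or.inr (Or.inr h)⟩
  · have h1' : 1 = z := h1
    exact ⟨x, y, hxy, by rw [h1']; exact hxz, by rw [h1']; exact hyz, fun m hm => by
      rcases hval m hm with h | h | h
      · exact Or.inr (Or.inl h)
      · exact Or.inr (Or.inr h)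
      · exact Or.inl (h.trans h1'.symm)⟩

theorem solvable_of_primes {p q : ℕ} (hp : p.Prime) (hq : q.Prime)
    (h : ∀ r : ℕ, r.Prime → r ∣ Nat.card G → r = p ∨ r = q) : Group.IsSolvable G := by
  obtain ⟨a, m, hm, h1⟩ := Nat.exists_eq_pow_mul_and_not_dvd (Nat.card_pos (α := G)).ne' p hp.ne_one
  have h2 := Nat.eq_prime_pow_of_unique_prime_dvd (p := q) (n := m) (by rintro rfl; exact hm (dvd_zero _)) (by
    intro d hd hdm
    rcases h d hd (h1 ▸ hdm.mul_left _) with rfl | rfl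
    · exact absurd hdm hm
    · rfl)
  rw [h2] at h1
  exact Cfsg.Agent.S0144.result p q a _ hp hq h1

theorem solvable_of_two (h : (Nat.card G).primeFactors.card ≤ 2) : Group.IsSolvable G := by
  have h3 : (Nat.card G).primeFactors.card = 0 ∨ (Nat.card G).primeFactors.card = 1 ∨
    (Nat.card G).primeFactors.card = 2 := by omega
  have hmem : ∀ r : ℕ, r.Prime → r ∣ Nat.card G → r ∈ (Nat.card G).primeFactors := fun r hr hrG =>
    Nat.mem_primeFactors.mpr ⟨hr, hrG, Nat.card_pos.ne'⟩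
  rcases h3 with h3 | h3 | h3
  · rw [Finset.card_eq_zero] at h3
    refine solvable_of_primes Nat.prime_two Nat.prime_two (fun r hr hrG => ?_)
    have := hmem r hr hrG
    rw [h3] at this
    exact absurd this (Finset.notMem_empty _)
  · obtain ⟨p, hp⟩ := Finset.card_eq_one.mp h3
    have hpp : p.Prime := by
      have : p ∈ (Nat.card G).primeFactors := by rw [hp]; exact Finset.mem_singleton_self p
      exact Nat.prime_of_mem_primeFactors this
    refine solvable_of_primes hpp hpp (fun r hr hrG => ?_)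
    have := hmem r hr hrG
    rw [hp] at this
    exact Or.inl (Finset.mem_singleton.mp this)
  · obtain ⟨p, q, hpq, hp⟩ := Finset.card_eq_two.mp h3
    have hpp : p.Prime := by
      have : p ∈ (Nat.card G).primeFactors := by rw [hp]; simp
      exact Nat.prime_of_mem_primeFactors this
    have hqq : q.Prime := by
      have : q ∈ (Nat.card G).primeFactors := by rw [hp]; simp
      exact Nat.prime_of_mem_primeFactors this
    refine solvable_of_primes hpp hqq (fun r hr hrG => ?_)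
    have := hmem r hr hrG
    rw [hp] at this
    simpa using this

end CfsgLib.FgOrd
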