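import Cfsg.Agent.LibFus21Mor3
import Cfsg.Agent.LibFus21Hy5

set_option autoImplicit false

/-! Invariant subsystems and the strong invariance condition. -/

namespace CfsgLib.Fus21

open Cfsg Cfsg.FusionSystem

variable {Ω : Type*} [Group Ω] {S T : Subgroup Ω}

/-- invariance under `Aut_F(T)` -/
def AutInv (E : FusionSystem T) (F : FusionSystem S) : Prop :=
  ∀ (P : Subgroup Ω) (hPT : P ≤ T) (φ : P →* Ω), φ ∈ E.Hom P → ∀ α ∈ F.autGroup T,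
    ∃ χ ∈ E.Hom ((P.subgroupOf T).map (T.subtype.comp α.toMonoidHom)),
      ∀ (x : P) (hφx : φ x ∈ T)
        (hαx : ((α ⟨x, hPT x.2⟩ : T) : Ω) ∈ (P.subgroupOf T).map (T.subtype.comp α.toMonoidHom)),
        χ ⟨(α ⟨x, hPT x.2⟩ : T), hαx⟩ = ((α ⟨φ x, hφx⟩ : T) : Ω)

theorem mem_amap {P : Subgroup Ω} {α : MulAut T} {y : Ω} :
    y ∈ (P.subgroupOf T).map (T.subtype.comp α.toMonoidHom) ↔ ∃ x, ∃ hx : x ∈ T, x ∈ P ∧ ((α ⟨x, hx⟩ : T) : Ω) = y := by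
  constructor
  · rintro ⟨x, hx, rfl⟩; exact ⟨x, x.2, hx, rfl⟩
  · rintro ⟨x, hx, hxP, rfl⟩; exact ⟨⟨x, hx⟩, hxP, rfl⟩

/-- the maps which factor -/
def facHom (E : FusionSystem T) (F : FusionSystem S) (P : Subgroup Ω) : Set (P →* Ω) :=
  {φ | P ≤ T ∧ (∀ x : P, φ x ∈ T) ∧ ∃ α ∈ F.autGroup T, ∃ φ₀ ∈ E.Hom P, ∀ (x : P) (hx : φ₀ x ∈ T), φ x = ((α ⟨φ₀ x, hx⟩ : T) : Ω)}

def facSys (E : FusionSystem T) (F : FusionSystem S) (hinv : AutInv E F) : FusionSystem T where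
  Hom P := facHom E F P
  le_of_mem h := ⟨h.1, h.2.1⟩
  injective_of_mem := by
    rintro P φ ⟨h1, h2, α, hα, φ₀, hφ₀, h3⟩ x y hxy
    rw [h3 x (mem_S hφ₀ x), h3 y (mem_S hφ₀ y)] at hxy
    have h4 := α.injective (Subtype.ext hxy)
    exact inj hφ₀ (congrArg Subtype.val h4)
  conj_mem := by
    intro P g hP hg
    refine ⟨hP, fun x => T.mul_mem (T.mul_mem hg (hP x.2)) (T.inv_mem hg), 1, Subgroup.one_mem _, _, E.conj_mem hP hg, fun x hx => rfl⟩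
  comp_mem := by
    rintro P Q φ ψ ⟨hP, hφT, α, hα, φ₀, hφ₀, hφ⟩ ⟨hQ, hψT, β, hβ, ψ₀, hψ₀, hψ⟩ h
    refine ⟨hP, fun x => hψT _, β * α, Subgroup.mul_mem _ hβ hα, ?_⟩
    obtain ⟨χ, hχ, hχx⟩ := hinv Q hQ ψ₀ hψ₀ α⁻¹ (Subgroup.inv_mem _ hα)
    have hmem : ∀ x : P, φ₀ x ∈ (Q.subgroupOf T).map (T.subtype.comp (α⁻¹).toMonoidHom) := by
      intro x
      rw [mem_amap]
      refine ⟨φ x, hφT x, h x, ?_⟩
      have h1 := hφ x (mem_S hφ₀ x)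
      have h2 : (⟨φ x, hφT x⟩ : T) = α ⟨φ₀ x, mem_S hφ₀ x⟩ := Subtype.ext h1
      rw [h2, MulAut.inv_apply_self]
    refine ⟨_, E.comp_mem hφ₀ hχ hmem, fun x hx => ?_⟩
    show ψ ⟨φ x, h x⟩ = ((β (α ⟨χ ⟨φ₀ x, hmem x⟩, _⟩) : T) : Ω)
    have h2 : (⟨φ x, hφT x⟩ : T) = α ⟨φ₀ x, mem_S hφ₀ x⟩ := Subtype.ext (hφ x (mem_S hφ₀ x))
    have h3 : ((α⁻¹ ⟨φ x, hφT x⟩ : T) : Ω) = φ₀ x := by rw [h2, MulAut.inv_apply_self]
    have h4 := hχx ⟨φ x, h x⟩ (mem_S hψ₀ _) (by rw [show (⟨((⟨φ x, h x⟩ : Q) : Ω), hQ (h x)⟩ : T) = ⟨φ x, hφT x⟩ from rfl, h3]; exact hmem x)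
    have h5 : χ ⟨φ₀ x, hmem x⟩ = ((α⁻¹ ⟨ψ₀ ⟨φ x, h x⟩, mem_S hψ₀ _⟩ : T) : Ω) := by
      rw [← h4]
      congr 1
      exact Subtype.ext h3.symm
    have h6 : (⟨χ ⟨φ₀ x, hmem x⟩, mem_S hχ _⟩ : T) = α⁻¹ ⟨ψ₀ ⟨φ x, h x⟩, mem_S hψ₀ _⟩ := Subtype.ext h5
    rw [hψ ⟨φ x, h x⟩ (mem_S hψ₀ _), h6, MulAut.apply_inv_self]
  inv_mem := by
    rintro P φ ⟨hP, hφT, α, hα, φ₀, hφ₀, hφ⟩
    obtain ⟨ψ, hψ, hψx⟩ := E.inv_mem hφ₀
    have hr : φ₀.range ≤ T := range_le hφ₀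
    obtain ⟨χ, hχ, hχx⟩ := hinv _ hr ψ hψ α hα
    have hmem : ∀ y : φ.range, (y : Ω) ∈ (φ₀.range.subgroupOf T).map (T.subtype.comp α.toMonoidHom) := by
      rintro ⟨_, x, rfl⟩
      rw [mem_amap]
      exact ⟨φ₀ x, mem_S hφ₀ x, ⟨x, rfl⟩, (hφ x _).symm⟩
    have hle : φ.range ≤ (φ₀.range.subgroupOf T).map (T.subtype.comp α.toMonoidHom) := fun y hy => hmem ⟨y, hy⟩
    have hχ' : χ.comp (Subgroup.inclusion hle) ∈ E.Hom φ.range := restrict_mem hχ hle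
    have hval : ∀ x : P, χ ⟨φ x, hle ⟨x, rfl⟩⟩ = ((α ⟨x, hP x.2⟩ : T) : Ω) := by
      intro x
      have h4 := hχx ⟨φ₀ x, ⟨x, rfl⟩⟩ (by rw [hψx]; exact hP x.2) (by
        rw [mem_amap]; exact ⟨φ₀ x, mem_S hφ₀ x, ⟨x, rfl⟩, rfl⟩)
      have h5 : (⟨φ x, hle ⟨x, rfl⟩⟩ : ↥((φ₀.range.subgroupOf T).map (T.subtype.comp α.toMonoidHom))) =
        ⟨((α ⟨φ₀ x, mem_S hφ₀ x⟩ : T) : Ω), by rw [mem_amap]; exact ⟨φ₀ x, mem_S hφ₀ x, ⟨x, rfl⟩, rfl⟩⟩ := Subtype.ext (hφ x _)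
      rw [h5]
      refine h4.trans ?_
      congr 2
      exact Subtype.ext (hψx x)
    have hχT : ∀ y : φ.range, χ ⟨y, hle y.2⟩ ∈ T := fun y => mem_S hχ _
    refine ⟨T.subtype.comp ((α⁻¹ : MulAut T).toMonoidHom.comp ((χ.comp (Subgroup.inclusion hle)).codRestrict T hχT)), ?_, ?_⟩
    · refine ⟨?_, fun y => (α⁻¹ _ : T).2, α⁻¹, Subgroup.inv_mem _ hα, _, hχ', fun y hy => rfl⟩
      rintro _ ⟨x, rfl⟩; exact hφT x
    · intro x
      show ((α⁻¹ ⟨χ ⟨φ x, _⟩, _⟩ : T) : Ω) = x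
      have : (⟨χ ⟨φ x, hle ⟨x, rfl⟩⟩, hχT ⟨φ x, ⟨x, rfl⟩⟩⟩ : T) = α ⟨x, hP x.2⟩ := Subtype.ext (hval x)
      rw [this, MulAut.inv_apply_self]

/-- strong invariance condition -/
def StrongInv (E : FusionSystem T) (F : FusionSystem S) : Prop :=
  ∀ (P Q : Subgroup Ω) (hPQ : P ≤ Q) (_ : Q ≤ T) (φ : P →* Ω) (_ : φ ∈ E.Hom P) (hφQ : ∀ x : P, φ x ∈ Q) (ψ : Q →* Ω)
    (_ : ψ ∈ F.Hom Q), ∃ χ ∈ E.Hom ((P.subgroupOf Q).map ψ), ∀ (x : P) (hx : ψ (Subgroup.inclusion hPQ x) ∈ (P.subgroupOf Q).map ψ),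
      χ ⟨ψ (Subgroup.inclusion hPQ x), hx⟩ = ψ ⟨φ x, hφQ x⟩

theorem autInv_of_strong {E : FusionSystem T} {F : FusionSystem S} (hTS : T ≤ S) (h : StrongInv E F) : AutInv E F := by
  intro P hPT φ hφ α hα
  obtain ⟨χ, hχ, hχx⟩ := h P T hPT le_rfl φ hφ (fun x => mem_S hφ x) _ ((mem_autGroup hTS).1 hα)
  refine ⟨χ, hχ, fun x hφx hαx => ?_⟩
  exact hχx x hαx

theorem lt_normalizer_T [Finite S] {p : ℕ} [Fact p.Prime] (hS : IsPGroup p S) {P : Subgroup Ω} (hTS : T ≤ S) (hP : P ≤ T) (hne : P ≠ T) :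
    P < normalizerIn T P := by
  haveI : Finite T := finite_of_le hTS
  exact lt_normalizer_inf (hS.to_le hTS) (lt_of_le_of_ne hP hne)

theorem frattini_of_strong [Finite S] {p : ℕ} [hp : Fact p.Prime] (hS : IsPGroup p S) {F : FusionSystem S} (hF : F.IsSaturated p)
    {E : FusionSystem T} (hEF : E.IsSubsystemOf F) (hT : F.StronglyClosed T) (hst : StrongInv E F) :
    ∀ n : ℕ, ∀ P : Subgroup Ω, P ≤ T → Nat.card T - Nat.card P = n → F.Hom P ⊆ (facSys E F (autInv_of_strong hT.1 hst)).Hom P := by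
  have hTS := hT.1
  haveI : Finite T := finite_of_le hTS
  set Ê := facSys E F (autInv_of_strong hTS hst) with hÊ
  have hEÊ : ∀ P, E.Hom P ⊆ Ê.Hom P := by
    intro P φ hφ
    exact ⟨le_S hφ, fun x => mem_S hφ x, 1, Subgroup.one_mem _, φ, hφ, fun x hx => rfl⟩
  intro n
  induction n using Nat.strong_induction_on with
  | _ n ih =>
  intro P hPT hn φ hφ
  haveI : Finite P := finite_of_le hPT
  have hcardle : ∀ {R : Subgroup Ω}, R ≤ T → Nat.card R ≤ Nat.card T := fun h => Subgroup.card_le_of_le h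
  by_cases hPeq : P = T
  · subst hPeq
    obtain ⟨α, hα, hαφ⟩ := exists_aut_of_hom hφ (fun x => (stronglyClosed_mem_iff hT hφ x).2 x.2)
    refine ⟨le_rfl, fun x => (stronglyClosed_mem_iff hT hφ x).2 x.2, α, hα, _, incl_mem E le_rfl, fun x hx => ?_⟩
    rw [← hαφ]; rfl
  -- Q fully normalized
  have hPS := hPT.trans hTS
  obtain ⟨Q, hPQ, hQn⟩ := exists_fullyNormalized F hPS
  have hQT : Q ≤ T := stronglyClosed_of_le_eq hT hPT hPQ
  have hQS := hQT.trans hTS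
  haveI : Finite Q := finite_of_le hQS
  have hQa := (sat_fn hS hF hQn).2
  have hQr := sat_fn_receptive hS hF hQn
  have hind : ∀ {R : Subgroup Ω}, R ≤ T → Nat.card P < Nat.card R → F.Hom R ⊆ Ê.Hom R := by
    intro R hR hlt
    have h1 := hcardle hR
    exact ih (Nat.card T - Nat.card R) (by omega) R hR rfl
  -- isomorphisms to Q in Ê
  have hiso : ∀ {R : Subgroup Ω}, R ≤ T → F.IsConj R Q → Nat.card R = Nat.card P → ∃ e ∈ Iso F R Q, e ∈ Iso Ê R Q := by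
    intro R hRT hRQ hRc
    haveI : Finite R := finite_of_le hRT
    have hRne : R ≠ T := by
      intro h
      rw [h] at hRc
      exact hPeq (Subgroup.eq_of_le_of_card_ge hPT hRc.le)
    obtain ⟨ρ, hρ, e, he, h1, -⟩ := exists_map_normalizer hS hQa hQr hRQ
    have hlt := lt_normalizer_T hS hTS hRT hRne
    have hle : normalizerIn T R ≤ normalizerIn S R := inf_le_inf_right _ hTS
    have hNT : normalizerIn T R ≤ T := normalizerIn_le _ _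
    haveI : Finite (normalizerIn T R) := finite_of_le hNT
    have hc : Nat.card P < Nat.card (normalizerIn T R) := by
      rw [← hRc]
      exact Set.ncard_lt_ncard (SetLike.coe_ssubset_coe.2 hlt) (Set.toFinite _)
    have hρ' := hind hNT hc (restrict_mem hρ hle)
    refine ⟨e, he, ?_⟩
    refine restrict_mem' hρ' hlt.le fun x => ?_
    exact (h1 x (hle (hlt.le x.2))).symm
  -- automorphisms of Q
  have hstaut : ∀ a ∈ F.autGroup Q, ∀ k ∈ E.autGroup Q, a * k * a⁻¹ ∈ E.autGroup Q := by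
    intro a ha k hk
    obtain ⟨χ, hχ, hχx⟩ := hst Q Q le_rfl hQT _ ((mem_autGroup hQT).1 hk) (fun x => (k x).2) _ ((mem_autGroup hQS).1 ha)
    have hmem : ∀ y : Q, (y : Ω) ∈ (Q.subgroupOf Q).map (Q.subtype.comp (a : Q ≃* Q).toMonoidHom) := by
      intro y
      exact ⟨a⁻¹ y, Subgroup.mem_subgroupOf.2 (a⁻¹ y).2, congrArg Subtype.val (MulAut.apply_inv_self Q a y)⟩
    rw [mem_autGroup hQT]
    refine restrict_mem' hχ (fun y hy => hmem ⟨y, hy⟩) (fun y => ?_)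
    have h1 := hχx (a⁻¹ y) (by
      show ((a (a⁻¹ y) : Q) : Ω) ∈ _
      rw [MulAut.apply_inv_self]; exact hmem y)
    show ((a (k (a⁻¹ y)) : Q) : Ω) = χ ⟨y, _⟩
    refine h1.symm.trans ?_
    congr 1
    apply Subtype.ext
    show ((a (a⁻¹ y) : Q) : Ω) = y
    rw [MulAut.apply_inv_self]
  have hQc : Nat.card Q = Nat.card P := (conj_card hPQ).symm
  have hQne : Q ≠ T := by
    intro h
    rw [h] at hQc
    exact hPeq (Subgroup.eq_of_le_of_card_ge hPT hQc.le)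
  have hEA : E.autGroup Q ≤ F.autGroup Q := fun α hα => (mem_autGroup hQS).2 (hEF Q ((mem_autGroup hQT).1 hα))
  haveI : Finite (F.autGroup Q) := finite_autGroup F hQS
  haveI : Finite (E.autGroup Q) := Finite.of_injective _ (Subgroup.inclusion_injective hEA)
  have hauto : ∀ γ ∈ F.autGroup Q, γ ∈ Ê.autGroup Q := by
    intro γ hγ
    have hSig := not_dvd_relIndex_inf (autInducedBy_le_autGroup F hQS) hEA (isPGroup_autInducedBy hS Q) hstaut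
      ((fullyAutomized_iff hS).1 hQa).2
    have hTA : autInducedBy T Q ≤ E.autGroup Q := autInducedBy_le_autGroup E hQT
    have hTp : IsPGroup p (autInducedBy T Q) := isPGroup_autInducedBy (hS.to_le hTS) Q
    obtain ⟨χ, hχ, hχle⟩ := exists_conj_le (K := (autInducedBy T Q).map (MulAut.conj γ).toMonoidHom)
      ((isPGroup_autInducedBy hS Q).to_le inf_le_left) hSig (by
        rintro _ ⟨k, hk, rfl⟩
        exact hstaut γ hγ k (hTA hk)) (hTp.map _)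
    set δ := χ * γ with hδ
    have hδA : δ ∈ F.autGroup Q := Subgroup.mul_mem _ (hEA hχ) hγ
    have hNle : normalizerIn T Q ≤ extender S Q (Q.subtype.comp (δ : Q ≃* Q).toMonoidHom) := by
      intro g hg
      rw [mem_extender_iso]
      obtain ⟨μ, hμ⟩ := exists_conjAut hg.2
      have hμT : μ ∈ autInducedBy T Q := mem_autInducedBy.2 ⟨g, hg.1, hμ⟩
      refine ⟨hTS hg.1, μ, hμ, ?_⟩
      have h1 := hχle ⟨γ * μ * γ⁻¹, ⟨μ, hμT, rfl⟩, rfl⟩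
      have h2 : autTransport (δ : Q ≃* Q) μ = χ * (γ * μ * γ⁻¹) * χ⁻¹ := by
        have h3 : autTransport (δ : Q ≃* Q) μ = δ * μ * δ⁻¹ := by
          ext y; rfl
        rw [h3, hδ]; group
      rw [h2]
      exact h1.1
    obtain ⟨ψ, hψ, hψx⟩ := receptive_extend hQr ((mem_autGroup hQS).1 hδA) hNle
    have hlt := lt_normalizer_T hS hTS hQT hQne
    have hNT : normalizerIn T Q ≤ T := normalizerIn_le _ _
    haveI : Finite (normalizerIn T Q) := finite_of_le hNT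
    have hc : Nat.card P < Nat.card (normalizerIn T Q) := by
      rw [← hQc]
      exact Set.ncard_lt_ncard (SetLike.coe_ssubset_coe.2 hlt) (Set.toFinite _)
    have hψ' := hind hNT hc hψ
    have hδÊ : δ ∈ Ê.autGroup Q := by
      rw [mem_autGroup hQT]
      exact restrict_mem' hψ' hlt.le (fun x => (hψx x x.2 (hlt.le x.2)).symm)
    have hχÊ : χ ∈ Ê.autGroup Q := (mem_autGroup hQT).2 (hEÊ Q ((mem_autGroup hQT).1 hχ))
    have : γ = χ⁻¹ * δ := by rw [hδ, inv_mul_cancel_left]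
    rw [this]
    exact Subgroup.mul_mem _ (Subgroup.inv_mem _ hχÊ) hδÊ
  -- assemble
  obtain ⟨P', f, hf, hfx, hP'⟩ : ∃ (P' : Subgroup Ω) (f : P ≃* P'), f ∈ Iso F P P' ∧ (∀ x : P, ((f x : P') : Ω) = φ x) ∧
      P' = φ.range := by
    obtain ⟨f, hf, hfx⟩ := exists_iso hφ rfl
    exact ⟨_, f, hf, hfx, rfl⟩
  have hP'T : P' ≤ T := stronglyClosed_of_le_eq hT hPT ⟨φ, hφ, hP'.symm⟩
  have hP'c : Nat.card P' = Nat.card P := (Nat.card_congr f.toEquiv).symm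
  obtain ⟨e, heF, heÊ⟩ := hiso hPT hPQ rfl
  obtain ⟨e', heF', heÊ'⟩ := hiso hP'T (conj_trans (conj_symm ⟨φ, hφ, hP'.symm⟩) hPQ) hP'c
  have hγ : ((e.symm.trans f).trans e') ∈ Iso F Q Q := iso_trans (iso_trans (iso_symm heF) hf) heF'
  have hγA : ((e.symm.trans f).trans e' : MulAut Q) ∈ F.autGroup Q := (mem_autGroup hQS).2 hγ
  have hγÊ := (mem_autGroup hQT).1 (hauto _ hγA)
  have hfin : (e.trans ((e.symm.trans f).trans e')).trans e'.symm ∈ Iso Ê P P' :=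
    iso_trans (iso_trans heÊ hγÊ) (iso_symm heÊ')
  have heq : (e.trans ((e.symm.trans f).trans e')).trans e'.symm = f := by
    ext x
    simp
  rw [heq] at hfin
  exact mem_congr hfin (fun x => (hfx x).symm)

theorem invariant_iff [Finite S] {p : ℕ} [hp : Fact p.Prime] (hS : IsPGroup p S) {F : FusionSystem S} (hF : F.IsSaturated p)
    {E : FusionSystem T} (hEF : E.IsSubsystemOf F) (hT : F.StronglyClosed T) : E.IsInvariantIn F ↔ StrongInv E F := by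
  have hTS := hT.1
  constructor
  · rintro ⟨-, -, h3, h4⟩ P Q hPQ hQT φ hφ hφQ ψ hψ
    obtain ⟨α, hα, ψ₀, hψ₀, h5⟩ := h4 Q hQT ψ hψ
    have hψT : ∀ x : Q, ((α ⟨ψ₀ x, mem_S hψ₀ x⟩ : T) : Ω) = ψ x := fun x => (h5 x _).symm
    -- ψ₀ φ ψ₀⁻¹ on ψ₀(P)
    obtain ⟨P0, e, he, hex, hP0⟩ : ∃ (P0 : Subgroup Ω) (e : P ≃* P0), e ∈ Iso E P P0 ∧
        (∀ x : P, ((e x : P0) : Ω) = ψ₀ (Subgroup.inclusion hPQ x)) ∧ P0 = (ψ₀.comp (Subgroup.inclusion hPQ)).range := by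
      obtain ⟨e, he, hex⟩ := exists_iso (restrict_mem hψ₀ hPQ) rfl
      exact ⟨_, e, he, hex, rfl⟩
    have h6 : (P0.subtype.comp (e.toMonoidHom)) ∈ E.Hom P := he
    have hinvm : (P.subtype.comp e.symm.toMonoidHom) ∈ E.Hom P0 := iso_symm he
    have hc1 := E.comp_mem hinvm hφ (fun y => (e.symm y).2)
    have hc2 := E.comp_mem hc1 hψ₀ (fun y => hφQ _)
    have hP0T : P0 ≤ T := iso_le_right he
    obtain ⟨χ, hχ, hχx⟩ := h3 P0 hP0T _ hc2 α hα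
    have hset : ∀ y, y ∈ (P.subgroupOf Q).map ψ → y ∈ (P0.subgroupOf T).map (T.subtype.comp α.toMonoidHom) := by
      rintro _ ⟨x, hx, rfl⟩
      rw [mem_amap]
      have hx' : (x : Ω) ∈ P := hx
      refine ⟨ψ₀ x, mem_S hψ₀ x, ?_, hψT x⟩
      rw [hP0]; exact ⟨⟨x, hx'⟩, rfl⟩
    refine ⟨_, restrict_mem hχ hset, fun x hx => ?_⟩
    have h7 := hχx (e x) (mem_S hψ₀ _) (by
      rw [mem_amap]; exact ⟨(e x : Ω), hP0T (e x).2, (e x).2, rfl⟩)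
    have h8 : ((α ⟨(e x : Ω), hP0T (e x).2⟩ : T) : Ω) = ψ (Subgroup.inclusion hPQ x) := by
      rw [← hψT]
      congr 2
      exact Subtype.ext (hex x)
    show χ ⟨ψ (Subgroup.inclusion hPQ x), _⟩ = _
    have h9 : χ ⟨ψ (Subgroup.inclusion hPQ x), hset _ hx⟩ = χ ⟨((α ⟨(e x : Ω), hP0T (e x).2⟩ : T) : Ω), by rw [mem_amap]; exact ⟨(e x : Ω), hP0T (e x).2, (e x).2, rfl⟩⟩ := by
      congr 1; exact Subtype.ext h8.symm
    rw [h9, h7, ← hψT]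
    congr 2
    apply Subtype.ext
    show ψ₀ ⟨φ ⟨(e.symm (e x) : P), _⟩, _⟩ = ψ₀ ⟨φ x, hφQ x⟩
    congr 1
    apply Subtype.ext
    show φ ⟨(e.symm (e x) : P), _⟩ = φ x
    congr 1
    exact e.symm_apply_apply x
  · intro hst
    refine ⟨hEF, hT, autInv_of_strong hTS hst, fun P hPT φ hφ => ?_⟩
    obtain ⟨-, -, h⟩ := frattini_of_strong hS hF hEF hT hst _ P hPT rfl hφ
    exact h

end CfsgLib.Fus21
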