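import Cfsg.Agent.LibFus21CtlE
import Cfsg.Agent.LibFus21GM
import Cfsg.Agent.LibFus21Mdl6
import Cfsg.Agent.LibFus21Loc
import Cfsg.Agent.LibPSolv19

set_option autoImplicit false

/-! Realizing groups modulo a normal subgroup of order prime to `p`. -/

namespace CfsgLib.Fus21

open Cfsg Cfsg.FusionSystem

variable {Ω : Type*} [Group Ω] {S : Subgroup Ω}

theorem real_quot_pprime {G : Type*} [Group G] [Finite G] {p : ℕ} [hp : Fact p.Prime] {F : FusionSystem S} {ι : S →* G}
    (hr : F.IsRealizedBy ι) {T : Sylow p G} (hT : (T : Subgroup G) = ι.range) (N : Subgroup G) [hN : N.Normal]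
    (hc : (Nat.card N).Coprime p) :
    F.IsRealizedBy ((QuotientGroup.mk' N).comp ι) ∧ ∃ T' : Sylow p (G ⧸ N), (T' : Subgroup (G ⧸ N)) = ((QuotientGroup.mk' N).comp ι).range := by
  have hS : IsPGroup p S := isPGroup_of_real hr hT
  have htriv : ∀ P : Subgroup G, IsPGroup p P → ∀ x ∈ P, x ∈ N → x = 1 := by
    intro P hP x hxP hxN
    obtain ⟨k, hk⟩ := hP ⟨x, hxP⟩
    have h1 : x ^ p ^ k = 1 := congrArg Subtype.val hk
    have h2 : orderOf x ∣ Nat.card N := by
      have := orderOf_dvd_natCard (⟨x, hxN⟩ : N)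
      rwa [Subgroup.orderOf_mk] at this
    have h3 := orderOf_dvd_of_pow_eq_one h1
    exact orderOf_eq_one_iff.1 (Nat.eq_one_of_dvd_coprimes (Nat.Coprime.pow_right k hc) h2 h3)
  have hιp : IsPGroup p ι.range := hT ▸ T.2
  refine ⟨⟨?_, fun P hP φ hφ => ?_⟩, ?_⟩
  · rw [injective_iff_map_eq_one]
    intro s hs
    have h1 : ι s ∈ N := (QuotientGroup.eq_one_iff _).1 hs
    have h2 := htriv ι.range hιp (ι s) ⟨s, rfl⟩ h1
    exact hr.1 (h2.trans (map_one ι).symm)
  · rw [hr.2 P hP φ hφ]
    constructor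
    · rintro ⟨g, hg⟩
      refine ⟨QuotientGroup.mk' N g, fun x => ?_⟩
      rw [MonoidHom.comp_apply, MonoidHom.comp_apply, hg x]; rfl
    · rintro ⟨gb, hg⟩
      obtain ⟨g, rfl⟩ := QuotientGroup.mk'_surjective N gb
      -- the two p-groups
      let j1 : P →* G := ι.comp (φ.codRestrict S hφ)
      let j2 : P →* G := (MulAut.conj g).toMonoidHom.comp (ι.comp (Subgroup.inclusion hP))
      have hj1 : ∀ x, j1 x = ι ⟨φ x, hφ x⟩ := fun x => rfl
      have hj2 : ∀ x, j2 x = g * ι ⟨x, hP x.2⟩ * g⁻¹ := fun x => rfl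
      have hPp : IsPGroup p P := hS.to_le hP
      have hp1 : IsPGroup p j1.range := hPp.of_surjective j1.rangeRestrict j1.rangeRestrict_surjective
      have hp2 : IsPGroup p j2.range := hPp.of_surjective j2.rangeRestrict j2.rangeRestrict_surjective
      have hmod : ∀ x, (j1 x)⁻¹ * j2 x ∈ N := by
        intro x
        rw [← QuotientGroup.eq_one_iff]
        have h1 := hg x
        rw [MonoidHom.comp_apply, MonoidHom.comp_apply] at h1
        show (QuotientGroup.mk' N) ((j1 x)⁻¹ * j2 x) = 1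
        rw [map_mul, map_inv, inv_mul_eq_one, hj1, hj2, h1, map_mul, map_mul, map_inv]
      have hidx : ¬ p ∣ j1.range.relIndex (j1.range ⊔ N) := by
        intro hd
        have h1 : j1.range.relIndex (j1.range ⊔ N) ∣ Nat.card N := by
          have e1 := Subgroup.card_mul_index (j1.range.subgroupOf (j1.range ⊔ N))
          have e2 := Subgroup.card_mul_index (N.subgroupOf (j1.range ⊔ N))
          have e3 : Nat.card (j1.range.subgroupOf (j1.range ⊔ N)) = Nat.card j1.range :=
            Nat.card_congr (Subgroup.subgroupOfEquivOfLe le_sup_left).toEquiv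
          have e4 : Nat.card (N.subgroupOf (j1.range ⊔ N)) = Nat.card N :=
            Nat.card_congr (Subgroup.subgroupOfEquivOfLe le_sup_right).toEquiv
          have e5 : (N.subgroupOf (j1.range ⊔ N)).index = N.relIndex j1.range := by
            show N.relIndex (j1.range ⊔ N) = _
            exact Subgroup.relIndex_sup_right j1.range N
          obtain ⟨a, ha⟩ := Subgroup.relIndex_dvd_card N j1.range
          rw [e3] at e1
          rw [e4, e5] at e2
          have hpos : 0 < N.relIndex j1.range := Nat.pos_of_ne_zero (Subgroup.index_ne_zero_of_finite)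
          refine ⟨a, ?_⟩
          have e6 : N.relIndex j1.range * (j1.range.relIndex (j1.range ⊔ N) * a) = N.relIndex j1.range * Nat.card N := by
            calc N.relIndex j1.range * (j1.range.relIndex (j1.range ⊔ N) * a)
                = (N.relIndex j1.range * a) * j1.range.relIndex (j1.range ⊔ N) := by ring
              _ = Nat.card j1.range * j1.range.relIndex (j1.range ⊔ N) := by rw [← ha]
              _ = Nat.card N * N.relIndex j1.range := by rw [e2]; exact e1
              _ = _ := by ring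
          exact (Nat.eq_of_mul_eq_mul_left hpos e6).symm
        exact (hp.out.coprime_iff_not_dvd.1 hc.symm) (hd.trans h1)
      obtain ⟨h, hh, hle⟩ := exists_conj_le (R := j1.range) (H := j1.range ⊔ N) (K := j2.range) hp1 hidx (by
        rintro _ ⟨x, rfl⟩
        have : j2 x = j1 x * ((j1 x)⁻¹ * j2 x) := by group
        rw [this]
        exact Subgroup.mul_mem _ (Subgroup.mem_sup_left ⟨x, rfl⟩) (Subgroup.mem_sup_right (hmod x))) hp2
      obtain ⟨a, ha, n, hn, rfl⟩ := Subgroup.mem_sup_of_normal_right.1 hh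
      refine ⟨n * g, fun x => ?_⟩
      have h1 : a * n * j2 x * (a * n)⁻¹ ∈ j1.range := hle ⟨j2 x, ⟨x, rfl⟩, rfl⟩
      have h2 : n * j2 x * n⁻¹ ∈ j1.range := by
        have e : n * j2 x * n⁻¹ = a⁻¹ * (a * n * j2 x * (a * n)⁻¹) * a := by group
        rw [e]
        exact Subgroup.mul_mem _ (Subgroup.mul_mem _ (Subgroup.inv_mem _ ha) h1) ha
      have h3 : (j1 x)⁻¹ * (n * j2 x * n⁻¹) ∈ N := by
        have e : (j1 x)⁻¹ * (n * j2 x * n⁻¹) = ((j1 x)⁻¹ * n * (j1 x)⁻¹⁻¹) * ((j1 x)⁻¹ * j2 x) * n⁻¹ := by group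
        rw [e]
        exact N.mul_mem (N.mul_mem (hN.conj_mem n hn _) (hmod x)) (N.inv_mem hn)
      have h4 := htriv j1.range hp1 _ (Subgroup.mul_mem _ (Subgroup.inv_mem _ ⟨x, rfl⟩) h2) h3
      have h5 : j1 x = n * j2 x * n⁻¹ := inv_mul_eq_one.1 h4
      rw [← hj1, h5, hj2]; group
  · refine ⟨T.mapSurjective (QuotientGroup.mk'_surjective N), ?_⟩
    rw [Sylow.coe_mapSurjective, hT, MonoidHom.range_comp]

universe u

theorem psolv_iff {Ω : Type u} [Group Ω] {S : Subgroup Ω} [Finite S] {p : ℕ} [hp : Fact p.Prime] (hS : IsPGroup p S)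
    {F : FusionSystem S} :
    (∃ (G : Type u) (_ : Group G) (_ : Finite G) (ι : S →* G), Cfsg.IsPSolvable p G ∧ F.IsRealizedBy ι ∧
        ∃ T : Sylow p G, (T : Subgroup G) = ι.range) ↔
      (F.IsConstrained p ∧ Cfsg.IsPSolvable p ↥(F.autGroup F.core)) := by
  constructor
  · rintro ⟨G, _, _, ι, hG, hr, T, hT⟩
    have hc := CfsgLib.Cores.pPrimeCore_coprime (G := G) p
    obtain ⟨hr', T', hT'⟩ := real_quot_pprime hr hT (pPrimeCore p G) hc
    have hGq : IsPSolvable p (G ⧸ pPrimeCore p G) := CfsgLib.PSolv19.psolv_quotient hp.out hG _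
    have hO : pPrimeCore p (G ⧸ pPrimeCore p G) = ⊥ := CfsgLib.Cores.pPrimeCore_quotient_pPrimeCore p
    have hHH := CfsgLib.PSolv19.hall_higman hGq hO
    have hM : F.IsModel p (G ⧸ pPrimeCore p G) ((QuotientGroup.mk' (pPrimeCore p G)).comp ι) := ⟨inferInstance, hr', ⟨T', hT'⟩, hHH⟩
    have hcon := model_constrained hM
    refine ⟨hcon, ?_⟩
    obtain ⟨hn, hcc⟩ := model_normal hM (isNormal_core F) (core_centric hcon)
    obtain ⟨π, hπ⟩ := exists_action hr'.1 (isNormal_core F).1 hn
    have hrange := action_range hr' hπ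
    have h1 : IsPSolvable p π.range := CfsgLib.PSolv19.psolv_of_surj hp.out π.rangeRestrict π.rangeRestrict_surjective hGq
    rw [← hrange]; exact h1
  · rintro ⟨hcon, hA⟩
    obtain ⟨G, _, ι, hM⟩ := model_exists hS hcon
    obtain ⟨hn, hcc⟩ := model_normal hM (isNormal_core F) (core_centric hcon)
    obtain ⟨hfin, hr, ⟨T, hT⟩, hC⟩ := id hM
    refine ⟨G, _, hfin, ι, ?_, hr, T, hT⟩
    obtain ⟨π, hπ⟩ := exists_action hr.1 (isNormal_core F).1 hn
    have hrange := action_range hr hπ
    haveI : Finite F.core := finite_of_le (isNormal_core F).1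
    have hker : IsPGroup p π.ker := by
      have hle : π.ker ≤ img ι F.core := by
        intro g hg
        obtain ⟨-, q, hq, h⟩ := action_ker hπ hcc hg
        rw [h]; exact mem_img_of (isNormal_core F).1 hq
      exact (isPGroup_img hS _).to_le hle
    obtain ⟨n, hn'⟩ := IsPGroup.iff_card.1 hker
    have hq : IsPSolvable p (G ⧸ π.ker) := by
      refine CfsgLib.PSolv19.psolv_equiv hp.out (QuotientGroup.quotientKerEquivRange π).symm ?_
      rw [hrange]; exact hA
    exact CfsgLib.PSolv19.psolv_of_extension (Or.inl ⟨n, hn'⟩) hq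

end CfsgLib.Fus21
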