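import Cfsg.Agent.LibFus21GT1
import Cfsg.Agent.LibFus21RQ
import Cfsg.Agent.LibFus21Inv
import Cfsg.Agent.LibFus21Nrm1

/-!
# Normal subgroups of a group realizing a fusion system give normal subsystems;
realizable simple systems are realized by simple groups
-/

set_option autoImplicit false
set_option linter.unusedSectionVars false
set_option linter.unusedVariables false

namespace CfsgLib.FgRSim

open Cfsg Cfsg.FusionSystem CfsgLib.Fus21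

theorem group_ext {G : Type*} [Group G] [Finite G] {p : ℕ} [Fact p.Prime] (T : Sylow p G) (N : Subgroup G) [N.Normal] (h : G)
    (hN : h ∈ N) (hT : h ∈ Subgroup.normalizer (((T : Subgroup G) ⊓ N : Subgroup G) : Set G)) :
    ∃ k : G, (∀ y ∈ (T : Subgroup G) ⊓ N, k * y * k⁻¹ = h * y * h⁻¹) ∧
      (∀ z ∈ ((T : Subgroup G) ⊓ N) ⊔ centralizerIn (T : Subgroup G) ((T : Subgroup G) ⊓ N),
        k * z * k⁻¹ ∈ ((T : Subgroup G) ⊓ N) ⊔ centralizerIn (T : Subgroup G) ((T : Subgroup G) ⊓ N)) ∧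
      ∀ c ∈ centralizerIn (T : Subgroup G) ((T : Subgroup G) ⊓ N),
        c⁻¹ * (k * c * k⁻¹) ∈ ((T : Subgroup G) ⊓ N) ⊓ Subgroup.centralizer (((T : Subgroup G) ⊓ N : Subgroup G) : Set G) := by
  have hn := group_normal p T N
  obtain ⟨α, hα⟩ := exists_conjAut hT
  obtain ⟨β, hβ, hβ1, hβ2⟩ := hn.2 α (by
    rw [mem_autGroup le_rfl]
    exact ⟨le_rfl, fun x => (α x).2, h, hN, hα⟩)
  have hle : ((T : Subgroup G) ⊓ N) ⊔ centralizerIn (T : Subgroup G) ((T : Subgroup G) ⊓ N) ≤ T :=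
    sup_le inf_le_left (centralizerIn_le _ _)
  obtain ⟨-, -, k, hk⟩ := (mem_autGroup hle).1 hβ
  have hk' : ∀ x : ↥(((T : Subgroup G) ⊓ N) ⊔ centralizerIn (T : Subgroup G) ((T : Subgroup G) ⊓ N)),
    ((β x : ↥(((T : Subgroup G) ⊓ N) ⊔ centralizerIn (T : Subgroup G) ((T : Subgroup G) ⊓ N))) : G) = k * x * k⁻¹ := hk
  refine ⟨k, ?_, ?_, ?_⟩
  · intro y hy
    have h1 := hβ1 ⟨y, hy⟩
    rw [hk', hα] at h1
    exact h1
  · intro z hz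
    have h1 := hk' ⟨z, hz⟩
    have h2 : ((⟨z, hz⟩ : ↥(((T : Subgroup G) ⊓ N) ⊔ centralizerIn (T : Subgroup G) ((T : Subgroup G) ⊓ N))) : G) = z := rfl
    rw [h2] at h1
    rw [← h1]
    exact (β _).2
  · intro c hc
    have h1 := hβ2 ⟨c, Subgroup.mem_sup_right hc⟩ hc
    rw [hk'] at h1
    exact h1

variable {Ω : Type*} [Group Ω] {S : Subgroup Ω} {G : Type*} [Group G]

/-- the system over `S ∩ ι⁻¹(N)` induced by the normal subgroup `N` is normal -/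
theorem normal_sub [Finite G] {p : ℕ} [hp : Fact p.Prime] {F : FusionSystem S} {ι : S →* G} (hr : F.IsRealizedBy ι)
    {T : Sylow p G} (hT : (T : Subgroup G) = ι.range) (N : Subgroup G) [hN : N.Normal]
    (hinj : Function.Injective (ι.comp (Subgroup.inclusion (preS_le ι N))))
    (hle : (ι.comp (Subgroup.inclusion (preS_le ι N))).range ≤ N) :
    (subReal (ι.comp (Subgroup.inclusion (preS_le ι N))) hinj N hle).IsNormalIn F p := by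
  have : Finite S := Finite.of_injective ι hr.1
  have hS : IsPGroup p S := isPGroup_of_real hr hT
  have hF : F.IsSaturated p := real_saturated hr hT
  set S0 := preS ι N with hS0
  have hS0S : S0 ≤ S := preS_le ι N
  have hmem0 : ∀ x : Ω, x ∈ S0 ↔ ∃ hx : x ∈ S, ι ⟨x, hx⟩ ∈ N := fun x => mem_preS
  have hι0 : ∀ x (hx : x ∈ S0), (ι.comp (Subgroup.inclusion hS0S)) ⟨x, hx⟩ = ι ⟨x, hS0S hx⟩ := fun _ _ => rfl
  set E := subReal (ι.comp (Subgroup.inclusion (preS_le ι N))) hinj N hle with hE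
  have hEmem : ∀ (P : Subgroup Ω) (φ : P →* Ω), φ ∈ E.Hom P ↔ ∃ (hP : P ≤ S0) (hφ : ∀ x : P, φ x ∈ S0), ∃ g ∈ N,
      ∀ x : P, ι ⟨φ x, hS0S (hφ x)⟩ = g * ι ⟨x, hS0S (hP x.2)⟩ * g⁻¹ := fun P φ => Iff.rfl
  -- saturation
  have hEs : E.IsSaturated p := by
    obtain ⟨Q, hQ⟩ := CfsgLib.H2Misc.exists_sylow_inf_normal T N
    refine real_saturated (T := Q) (subReal_realized _ hinj N hle) ?_
    rw [hQ, hT]
    ext y
    rw [Subgroup.mem_subgroupOf]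
    constructor
    · rintro ⟨s, hs⟩
      have hsN : ι s ∈ N := by rw [hs]; exact y.2
      exact ⟨⟨s, (hmem0 s).2 ⟨s.2, hsN⟩⟩, Subtype.ext hs⟩
    · rintro ⟨s, rfl⟩
      exact ⟨⟨s, hS0S s.2⟩, rfl⟩
  have hsub : E.IsSubsystemOf F := by
    intro P φ hφ
    obtain ⟨hP, hφ0, g, hg, h⟩ := (hEmem P φ).1 hφ
    exact (hr.2 P (hP.trans hS0S) φ (fun x => hS0S (hφ0 x))).2 ⟨g, h⟩
  have hsc : F.StronglyClosed S0 := by
    refine ⟨hS0S, fun R hR φ hφ x => ?_⟩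
    obtain ⟨g, hg⟩ := real_of_mem hr hφ
    refine (hmem0 _).2 ⟨mem_S hφ x, ?_⟩
    have h1 := hg x x.2
    obtain ⟨hx, hxN⟩ := (hmem0 _).1 (hR x.2)
    have h2 : ι ⟨φ x, mem_S hφ x⟩ = g * ι ⟨x, hx⟩ * g⁻¹ := h1
    rw [h2]
    exact hN.conj_mem _ hxN g
  refine ⟨⟨hEs, hF, ?_⟩, ?_⟩
  · rw [invariant_iff hS hF hsub hsc]
    intro P Q hPQ hQ φ hφ hφQ ψ hψ
    obtain ⟨hP, hφ0, g, hgN, hg⟩ := (hEmem P φ).1 hφ
    obtain ⟨k, hk⟩ := real_of_mem hr hψ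
    -- the source
    have hsrc : ∀ y ∈ (P.subgroupOf Q).map ψ, ∃ x : P, y = ψ (Subgroup.inclusion hPQ x) := by
      rintro _ ⟨x, hx, rfl⟩
      exact ⟨⟨x, hx⟩, rfl⟩
    have hsrcS0 : (P.subgroupOf Q).map ψ ≤ S0 := by
      rintro _ ⟨x, hx, rfl⟩
      exact hsc.2 Q hQ ψ hψ x
    have hkψ : ∀ x : Q, ι ⟨ψ x, mem_S hψ x⟩ = k * ι ⟨x, hS0S (hQ x.2)⟩ * k⁻¹ := fun x => hk x x.2
    obtain ⟨χ, hχF, hχ⟩ := real_conj hr (hsrcS0.trans hS0S) (k * g * k⁻¹) (by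
      intro y hy
      obtain ⟨x, rfl⟩ := hsrc y hy
      have h1 := hkψ (Subgroup.inclusion hPQ x)
      have h2 := hkψ ⟨φ x, hφQ x⟩
      have h3 := hg x
      have h4 : ι ⟨ψ (Subgroup.inclusion hPQ x), (hsrcS0.trans hS0S) hy⟩ = k * ι ⟨x, hS0S (hP x.2)⟩ * k⁻¹ := h1
      rw [h4]
      have h5 : k * g * k⁻¹ * (k * ι ⟨x, hS0S (hP x.2)⟩ * k⁻¹) * (k * g * k⁻¹)⁻¹ = k * (g * ι ⟨x, hS0S (hP x.2)⟩ * g⁻¹) * k⁻¹ := by group
      rw [h5, ← h3]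
      exact ⟨_, h2⟩)
    have hχv : ∀ (x : P) (hx : ψ (Subgroup.inclusion hPQ x) ∈ (P.subgroupOf Q).map ψ),
        χ ⟨ψ (Subgroup.inclusion hPQ x), hx⟩ = ψ ⟨φ x, hφQ x⟩ := by
      intro x hx
      obtain ⟨h1, h2⟩ := hχ _ hx
      have h3 := hkψ (Subgroup.inclusion hPQ x)
      have h4 : ι ⟨ψ (Subgroup.inclusion hPQ x), (hsrcS0.trans hS0S) hx⟩ = k * ι ⟨x, hS0S (hP x.2)⟩ * k⁻¹ := h3
      rw [h4] at h2
      have h5 : k * g * k⁻¹ * (k * ι ⟨x, hS0S (hP x.2)⟩ * k⁻¹) * (k * g * k⁻¹)⁻¹ = k * (g * ι ⟨x, hS0S (hP x.2)⟩ * g⁻¹) * k⁻¹ := by group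
      rw [h5, ← hg x] at h2
      have h6 := hkψ ⟨φ x, hφQ x⟩
      have h7 : ι ⟨χ ⟨ψ (Subgroup.inclusion hPQ x), hx⟩, h1⟩ = ι ⟨ψ ⟨φ x, hφQ x⟩, mem_S hψ _⟩ := by
        rw [h2, h6]
      exact congrArg Subtype.val (hr.1 h7)
    refine ⟨χ, ?_, hχv⟩
    rw [hEmem]
    refine ⟨hsrcS0, fun y => hsc.2 _ hsrcS0 χ hχF y, k * g * k⁻¹, hN.conj_mem g hgN k, fun y => ?_⟩
    obtain ⟨h1, h2⟩ := hχ y y.2
    exact h2
  · intro α hα
    obtain ⟨hα0, hα1, h, hh, hα2⟩ := (hEmem _ _).1 ((mem_autGroup le_rfl).1 hα)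
    have hα3 : ∀ x : S0, ι ⟨(α x : S0), hS0S (α x).2⟩ = h * ι ⟨x, hS0S x.2⟩ * h⁻¹ := hα2
    have hTN : ∀ x : Ω, ∀ hx : x ∈ S, (ι ⟨x, hx⟩ ∈ (T : Subgroup G) ⊓ N ↔ x ∈ S0) := by
      intro x hx
      rw [Subgroup.mem_inf, hmem0, hT]
      constructor
      · rintro ⟨_, h2⟩; exact ⟨hx, h2⟩
      · rintro ⟨_, h2⟩; exact ⟨⟨_, rfl⟩, h2⟩
    have hTN' : ∀ y ∈ (T : Subgroup G) ⊓ N, ∃ x, ∃ hx : x ∈ S0, ι ⟨x, hS0S hx⟩ = y := by
      intro y hy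
      have h1 : y ∈ ι.range := by rw [← hT]; exact hy.1
      obtain ⟨s, rfl⟩ := h1
      exact ⟨s, (hTN s s.2).1 hy, rfl⟩
    have hnor : h ∈ Subgroup.normalizer (((T : Subgroup G) ⊓ N : Subgroup G) : Set G) := by
      have hfin : Finite ((T : Subgroup G) ⊓ N : Subgroup G) := inferInstance
      have h1 : ∀ y ∈ (T : Subgroup G) ⊓ N, h * y * h⁻¹ ∈ (T : Subgroup G) ⊓ N := by
        intro y hy
        obtain ⟨x, hx, rfl⟩ := hTN' y hy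
        rw [← hα3 ⟨x, hx⟩]
        exact (hTN _ _).2 (α _).2
      have h2 : ∀ y, h * y * h⁻¹ ∈ (T : Subgroup G) ⊓ N → y ∈ (T : Subgroup G) ⊓ N := by
        intro y hy
        obtain ⟨x, hx, hxy⟩ := hTN' _ hy
        have h3 := hα3 (α.symm ⟨x, hx⟩)
        have h4 : ι ⟨(α (α.symm ⟨x, hx⟩) : S0), hS0S (α _).2⟩ = ι ⟨x, hS0S hx⟩ := by
          congr 2
          exact congrArg Subtype.val (α.apply_symm_apply ⟨x, hx⟩)
        rw [h4, hxy] at h3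
        have h5 : y = ι ⟨(α.symm ⟨x, hx⟩ : S0), hS0S (α.symm ⟨x, hx⟩).2⟩ := mul_left_cancel (mul_right_cancel h3)
        rw [h5]
        exact (hTN _ _).2 (α.symm ⟨x, hx⟩).2
      rw [Subgroup.mem_normalizer_iff]
      exact fun y => ⟨h1 y, h2 y⟩
    obtain ⟨k, hk1, hk2, hk3⟩ := group_ext T N h hh hnor
    -- centralizers
    have hC : ∀ x (hx : x ∈ S), (ι ⟨x, hx⟩ ∈ centralizerIn (T : Subgroup G) ((T : Subgroup G) ⊓ N) ↔ x ∈ centralizerIn S S0) := by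
      intro x hx
      rw [mem_centralizerIn, mem_centralizerIn]
      constructor
      · rintro ⟨-, h2⟩
        refine ⟨hx, fun y hy => ?_⟩
        have h4 := h2 (ι ⟨y, hS0S hy⟩) ((hTN y (hS0S hy)).2 hy)
        rw [← map_mul, ← map_mul] at h4
        exact congrArg Subtype.val (hr.1 h4)
      · rintro ⟨-, h2⟩
        refine ⟨by rw [hT]; exact ⟨_, rfl⟩, fun y hy => ?_⟩
        obtain ⟨z, hz, rfl⟩ := hTN' y hy
        rw [← map_mul, ← map_mul]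
        congr 1
        exact Subtype.ext (h2 z hz)
    have hsupS : S0 ⊔ centralizerIn S S0 ≤ S := sup_le hS0S (centralizerIn_le _ _)
    have hsup1 : ∀ x (hx : x ∈ S0 ⊔ centralizerIn S S0), ι ⟨x, hsupS hx⟩ ∈
        ((T : Subgroup G) ⊓ N) ⊔ centralizerIn (T : Subgroup G) ((T : Subgroup G) ⊓ N) := by
      intro x hx
      have hle2 : S0 ⊔ centralizerIn S S0 ≤ preS ι (((T : Subgroup G) ⊓ N) ⊔ centralizerIn (T : Subgroup G) ((T : Subgroup G) ⊓ N)) := by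
        refine sup_le ?_ ?_
        · intro y hy
          exact mem_preS.2 ⟨hS0S hy, Subgroup.mem_sup_left ((hTN y (hS0S hy)).2 hy)⟩
        · intro y hy
          have hyS : y ∈ S := (centralizerIn_le _ _) hy
          exact mem_preS.2 ⟨hyS, Subgroup.mem_sup_right ((hC y hyS).2 hy)⟩
      exact (mem_preS.1 (hle2 hx)).2
    have hsup2 : ∀ x (hx : x ∈ S), ι ⟨x, hx⟩ ∈ ((T : Subgroup G) ⊓ N) ⊔ centralizerIn (T : Subgroup G) ((T : Subgroup G) ⊓ N) →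
        x ∈ S0 ⊔ centralizerIn S S0 := by
      intro x hx h1
      have hle2 : ((T : Subgroup G) ⊓ N) ⊔ centralizerIn (T : Subgroup G) ((T : Subgroup G) ⊓ N) ≤
          ((S0 ⊔ centralizerIn S S0).subgroupOf S).map ι := by
        refine sup_le ?_ ?_
        · intro y hy
          obtain ⟨z, hz, rfl⟩ := hTN' y hy
          exact ⟨⟨z, hS0S hz⟩, Subgroup.mem_subgroupOf.2 (Subgroup.mem_sup_left hz), rfl⟩
        · intro y hy
          have hy1 : y ∈ ι.range := by rw [← hT]; exact (mem_centralizerIn.1 hy).1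
          obtain ⟨s, rfl⟩ := hy1
          exact ⟨s, Subgroup.mem_subgroupOf.2 (Subgroup.mem_sup_right ((hC s s.2).1 hy)), rfl⟩
      obtain ⟨s, hs, hs2⟩ := hle2 h1
      have h3 := hr.1 hs2
      rw [h3] at hs
      exact Subgroup.mem_subgroupOf.1 hs
    obtain ⟨φ, hφ, hφ2⟩ := real_conj hr hsupS k (by
      intro x hx
      have h1 := hk2 _ (hsup1 x hx)
      rw [← hT]
      exact (sup_le inf_le_left (centralizerIn_le _ _) : _ ≤ (T : Subgroup G)) h1)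
    have hφ3 : ∀ x : ↥(S0 ⊔ centralizerIn S S0), φ x ∈ S0 ⊔ centralizerIn S S0 := by
      intro x
      obtain ⟨h1, h2⟩ := hφ2 x x.2
      refine hsup2 _ h1 ?_
      have h3 : ι ⟨φ x, h1⟩ = k * ι ⟨x, hsupS x.2⟩ * k⁻¹ := h2
      rw [h3]
      exact hk2 _ (hsup1 x x.2)
    obtain ⟨β, hβ, hβ2⟩ := exists_aut_of_hom hφ hφ3
    refine ⟨β, hβ, fun x => ?_, fun c hc => ?_⟩
    · rw [hβ2]
      obtain ⟨h1, h2⟩ := hφ2 x (Subgroup.mem_sup_left x.2)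
      have h3 := hk1 (ι ⟨x, hS0S x.2⟩) ((hTN _ _).2 x.2)
      have h4 := hα3 x
      have h5 : ι ⟨φ ⟨x, Subgroup.mem_sup_left x.2⟩, h1⟩ = ι ⟨(α x : S0), hS0S (α x).2⟩ := by
        rw [h2, h4]
        exact h3
      exact congrArg Subtype.val (hr.1 h5)
    · rw [hβ2]
      obtain ⟨h1, h2⟩ := hφ2 c c.2
      have hcS : (c : Ω) ∈ S := (centralizerIn_le _ _) hc
      have h3 := hk3 (ι ⟨c, hcS⟩) ((hC _ _).2 hc)
      have h2' : ι ⟨φ c, h1⟩ = k * ι ⟨c, hcS⟩ * k⁻¹ := h2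
      rw [← h2', ← map_inv, ← map_mul] at h3
      have h4 : (c : Ω)⁻¹ * φ c ∈ S := S.mul_mem (S.inv_mem hcS) h1
      have h5 : ι ⟨(c : Ω)⁻¹ * φ c, h4⟩ ∈ (T : Subgroup G) ⊓ N ⊓ Subgroup.centralizer (((T : Subgroup G) ⊓ N : Subgroup G) : Set G) := h3
      refine ⟨(hTN _ h4).1 h5.1, ?_⟩
      have h6 : ι ⟨(c : Ω)⁻¹ * φ c, h4⟩ ∈ centralizerIn (T : Subgroup G) ((T : Subgroup G) ⊓ N) := ⟨h5.1.1, h5.2⟩
      exact ((hC _ h4).1 h6).2

end CfsgLib.FgRSim
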