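import Cfsg.Agent.LibFgRSim

/-!
# Realizable simple systems are realized by simple groups
-/

set_option autoImplicit false
set_option linter.unusedSectionVars false
set_option linter.unusedVariables false

namespace CfsgLib.FgRSim

open Cfsg Cfsg.FusionSystem CfsgLib.Fus21

universe u

theorem real_simple {Ω : Type u} [Group Ω] {S : Subgroup Ω} (p : ℕ) [hp : Fact p.Prime] (F : FusionSystem S)
    (hsimple : F.IsSimple p) (hreal : F.IsRealizable p) :
    ∃ (G : Type u) (_ : Group G) (_ : Finite G) (_ : IsSimpleGroup G) (ι : ↥S →* G), F.IsRealizedBy ι ∧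
      ∃ T : Sylow p G, (T : Subgroup G) = ι.range := by
  classical
  have hex : ∃ n : ℕ, ∃ (G : Type u) (_ : Group G) (_ : Finite G) (ι : S →* G), Nat.card G = n ∧ F.IsRealizedBy ι ∧
      ∃ T : Sylow p G, (T : Subgroup G) = ι.range := by
    obtain ⟨G, i1, i2, ι, h1, h2⟩ := hreal
    exact ⟨Nat.card G, G, i1, i2, ι, rfl, h1, h2⟩
  obtain ⟨G, i1, i2, ι, hcard, hr, T, hT⟩ := Nat.find_spec hex
  have hmin : ∀ (G' : Type u) [Group G'] [Finite G'] (ι' : S →* G'), F.IsRealizedBy ι' →
      (∃ T : Sylow p G', (T : Subgroup G') = ι'.range) → Nat.card G ≤ Nat.card G' := by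
    intro G' i1' i2' ι' h1 h2
    rw [hcard]
    exact Nat.find_min' hex ⟨G', i1', i2', ι', rfl, h1, h2⟩
  refine ⟨G, i1, i2, ?_, ι, hr, T, hT⟩
  haveI : Nontrivial G := by
    have h1 := hsimple.2.1
    rw [Subgroup.ne_bot_iff_exists_ne_one] at h1
    obtain ⟨x, hx⟩ := h1
    exact ⟨⟨ι x, 1, fun h => hx (hr.1 (h.trans (map_one ι).symm))⟩⟩
  refine { eq_bot_or_eq_top_of_normal := fun N hN => ?_ }
  have hinj : Function.Injective (ι.comp (Subgroup.inclusion (preS_le ι N))) :=
    hr.1.comp (Subgroup.inclusion_injective _)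
  have hle : (ι.comp (Subgroup.inclusion (preS_le ι N))).range ≤ N := by
    rintro _ ⟨x, rfl⟩
    obtain ⟨h1, h2⟩ := mem_preS.1 x.2
    exact h2
  rcases hsimple.2.2 _ _ (normal_sub hr hT N hinj hle) with h1 | ⟨h1, h2⟩
  · left
    have hcop : (Nat.card N).Coprime p := by
      obtain ⟨Q, hQ⟩ := CfsgLib.H2Misc.exists_sylow_inf_normal T N
      have hQ1 : (Q : Subgroup N) = ⊥ := by
        rw [hQ, eq_bot_iff]
        intro x hx
        rw [Subgroup.mem_subgroupOf, hT] at hx
        obtain ⟨s, hs⟩ := hx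
        have h3 : (s : Ω) ∈ preS ι N := mem_preS.2 ⟨s.2, by
          have : ι ⟨s, s.2⟩ = x := hs
          rw [this]; exact x.2⟩
        rw [h1, Subgroup.mem_bot] at h3
        have h4 : s = 1 := Subtype.ext h3
        rw [Subgroup.mem_bot]
        apply Subtype.ext
        rw [← hs, h4, map_one]; rfl
      rw [Nat.coprime_comm, hp.out.coprime_iff_not_dvd]
      have h3 := Q.not_dvd_index
      rwa [hQ1, Subgroup.index_bot] at h3
    obtain ⟨hr', hT'⟩ := real_quot_pprime hr hT N hcop
    have h3 := hmin (G ⧸ N) _ hr' hT'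
    have h4 : Nat.card (G ⧸ N) * Nat.card N = Nat.card G := by
      have := N.index_mul_card
      exact this
    have h5 : Nat.card N = 1 := by
      have h6 : 0 < Nat.card (G ⧸ N) := Nat.card_pos
      have h7 : 0 < Nat.card N := Nat.card_pos
      by_contra hne
      have h8 : 2 ≤ Nat.card N := by omega
      nlinarith
    exact Subgroup.card_eq_one.mp h5
  · right
    have hSN : ι.range ≤ N := by
      rintro _ ⟨s, rfl⟩
      have h3 : (s : Ω) ∈ preS ι N := by rw [h1]; exact s.2
      exact (mem_preS.1 h3).2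
    have hr' : F.IsRealizedBy (ι.codRestrict N fun s => hSN ⟨s, rfl⟩) := by
      refine ⟨fun a b hab => hr.1 (congrArg Subtype.val hab), fun P hP φ hφ => ?_⟩
      rw [← h2 P]
      constructor
      · rintro ⟨_, _, g, hg, h⟩
        exact ⟨⟨g, hg⟩, fun x => Subtype.ext (h x)⟩
      · rintro ⟨g, hg⟩
        refine ⟨h1.symm ▸ hP, fun x => ?_, g, g.2, fun x => congrArg Subtype.val (hg x)⟩
        rw [h1]; exact hφ x
    have h3 := hmin N _ hr' ⟨T.subtype (hT.trans_le hSN), by
      rw [Sylow.coe_subtype, hT]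
      ext x
      rw [Subgroup.mem_subgroupOf]
      constructor
      · rintro ⟨s, hs⟩
        exact ⟨s, Subtype.ext hs⟩
      · rintro ⟨s, rfl⟩
        exact ⟨s, rfl⟩⟩
    exact Subgroup.eq_top_of_card_eq N (le_antisymm (Subgroup.card_le_card_group N) h3)

end CfsgLib.FgRSim
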