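import Mathlib
import Cfsg.Agent.LibFgNM

set_option autoImplicit false
set_option linter.style.haveILetI false
set_option linter.unusedSectionVars false
set_option linter.unusedVariables false

/-! Splitting automorphisms of prime order (Kegel) -/

open Subgroup
open scoped Pointwise commutatorElement
open CfsgLib.SolvCoprime CfsgLib.SolvBasic CfsgLib.SolvHall CfsgLib.TransPC

namespace CfsgLib.FgSplit

universe u v

/-- the averaging argument -/
theorem trace_eq {E : Type u} [Group E] {V : Type v} [CommGroup V] (f : E →* MulAut V) (Q : Subgroup E) [Fintype Q]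
    (b : E) {p : ℕ} (hp : p.Prime) (hb : b ∈ normalizer (Q : Set E)) (h2 : ∀ x ∈ Q, (x * b) ^ p = 1)
    (h3 : ∀ x ∈ Q, ∀ v : V, ∏ i ∈ Finset.range p, f ((x * b) ^ i) v = 1) (v : V) :
    v ^ Fintype.card Q = ∏ x : Q, f (x : E) v := by
  -- the maps `n_i`
  have hn : ∀ i : ℕ, ∀ x ∈ Q, (x * b) ^ i * (b ^ i)⁻¹ ∈ Q := by
    intro i
    induction i with
    | zero => intro x hx; simp [one_mem]
    | succ i ih =>
      intro x hx
      have h4 := ih x hx
      have h5 : (x * b) ^ (i + 1) * (b ^ (i + 1))⁻¹ = x * (b * ((x * b) ^ i * (b ^ i)⁻¹) * b⁻¹) := by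
        rw [pow_succ', pow_succ' b]; group
      rw [h5]
      exact mul_mem hx ((mem_normalizer_iff.mp hb _).mp h4)
  have hbij : ∀ i : ℕ, 1 ≤ i → i < p → Function.Bijective (fun x : Q => (⟨_, hn i x x.2⟩ : Q)) := by
    intro i hi hip
    rw [← Finite.injective_iff_bijective]
    intro x y hxy
    have h4 : (x * b : E) ^ i = (y * b) ^ i := by
      have := congrArg Subtype.val hxy
      exact mul_right_cancel this
    have hco : i.Coprime p := ((Nat.Prime.coprime_iff_not_dvd hp).mpr (fun h => by
      have := Nat.le_of_dvd hi h; omega)).symm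
    have h5 := Nat.gcd_eq_gcd_ab i p
    rw [hco] at h5
    have key : ∀ z : E, z ^ p = 1 → (z ^ i) ^ (Nat.gcdA i p) = z := by
      intro z hz
      have h6 : z ^ ((i : ℤ) * Nat.gcdA i p + p * Nat.gcdB i p) = z := by
        rw [← h5]; simp
      rw [zpow_add, zpow_mul, zpow_mul, zpow_natCast, zpow_natCast, hz, one_zpow, mul_one] at h6
      exact h6
    have h6 : (x * b : E) = y * b := by
      rw [← key _ (h2 x x.2), h4, key _ (h2 y y.2)]
    exact Subtype.ext (mul_right_cancel h6)
  -- the trace
  have htr : ∀ i : ℕ, 1 ≤ i → i < p → ∏ x : Q, f ((x * b) ^ i) v = ∏ x : Q, f (x : E) (f (b ^ i) v) := by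
    intro i hi hip
    rw [← (hbij i hi hip).prod_comp (fun x : Q => f (x : E) (f (b ^ i) v))]
    apply Finset.prod_congr rfl
    intro x _
    rw [← MulAut.mul_apply, ← map_mul]
    congr 2
    simp
  obtain ⟨m, hm⟩ : ∃ m, p = m + 1 := ⟨p - 1, by have := hp.two_le; omega⟩
  have h6 : ∏ x : Q, ∏ i ∈ Finset.range p, f ((x * b) ^ i) v = 1 :=
    Finset.prod_eq_one fun x _ => h3 x x.2 v
  rw [Finset.prod_comm, hm, Finset.prod_range_succ'] at h6
  simp only [pow_zero, map_one, MulAut.one_apply, Finset.prod_const, Finset.card_univ] at h6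
  have h7 : ∏ i ∈ Finset.range m, ∏ x : Q, f ((x * b) ^ (i + 1)) v
      = ∏ x : Q, f (x : E) (∏ i ∈ Finset.range m, f (b ^ (i + 1)) v) := by
    have h8 : ∀ x : Q, f (x : E) (∏ i ∈ Finset.range m, f (b ^ (i + 1)) v)
        = ∏ i ∈ Finset.range m, f (x : E) (f (b ^ (i + 1)) v) := fun x => map_prod (f (x : E)) _ _
    rw [Finset.prod_congr rfl (fun x _ => h8 x)]
    refine Eq.trans ?_ Finset.prod_comm
    apply Finset.prod_congr rfl
    intro i hi
    rw [Finset.mem_range] at hi
    exact htr (i + 1) (by omega) (by omega)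
  have h9 : ∏ i ∈ Finset.range m, f (b ^ (i + 1)) v = v⁻¹ := by
    have h10 := h3 1 (one_mem _) v
    rw [hm, Finset.prod_range_succ'] at h10
    simp only [one_mul, pow_zero, map_one, MulAut.one_apply] at h10
    exact eq_inv_of_mul_eq_one_left h10
  rw [h7, h9] at h6
  have h11 : ∏ x : Q, f (x : E) v⁻¹ = (∏ x : Q, f (x : E) v)⁻¹ := by
    rw [← Finset.prod_inv_distrib]
    apply Finset.prod_congr rfl
    intro x _
    rw [map_inv]
  rw [h11, inv_mul_eq_one] at h6
  exact h6.symm

open scoped IsMulCommutative in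
/-- the product formula -/
theorem prod_formula {X : Type u} [Group X] (V : Subgroup X) [IsMulCommutative V] (g : X) (hg : g ∈ normalizer (V : Set X)) (v : V) (n : ℕ) :
    ((∏ i ∈ Finset.range n, (normalizerMonoidHom V) ((⟨g, hg⟩ : normalizer (V : Set X)) ^ i) v : V) : X) * g ^ n
      = ((v : X) * g) ^ n := by
  induction n with
  | zero => simp
  | succ n ih =>
    rw [Finset.prod_range_succ, pow_succ ((v : X) * g), ← ih, pow_succ]
    have h1 : (((normalizerMonoidHom V) ((⟨g, hg⟩ : normalizer (V : Set X)) ^ n) v : V) : X) = g ^ n * v * (g ^ n)⁻¹ := by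
      rfl
    rw [Subgroup.coe_mul, h1]
    group

open scoped IsMulCommutative in
/-- the coprime part of the averaging argument -/
theorem comm_of_split {X : Type u} [Group X] [Finite X] {p : ℕ} (hp : p.Prime) {V Q : Subgroup X}
    (hVc : ∀ a ∈ V, ∀ b ∈ V, a * b = b * a) {b : X}
    (hbV : b ∈ normalizer (V : Set X)) (hbQ : b ∈ normalizer (Q : Set X)) (hQV : Q ≤ normalizer (V : Set X))
    (hco : (Nat.card Q).Coprime (Nat.card V)) (hs : ∀ x ∈ Q, ∀ v ∈ V, (v * (x * b)) ^ p = 1) :
    ∀ x ∈ Q, ∀ v ∈ V, x * v = v * x := by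
  haveI : IsMulCommutative V := ⟨⟨fun a b => Subtype.ext (hVc a a.2 b b.2)⟩⟩
  set E := normalizer (V : Set X) with hE
  let f : E →* MulAut V := normalizerMonoidHom V
  set Q' : Subgroup E := Q.subgroupOf E with hQ'
  haveI : Fintype Q' := Fintype.ofFinite _
  have hcard : Fintype.card Q' = Nat.card Q := by
    rw [← Nat.card_eq_fintype_card]
    exact Nat.card_congr (Subgroup.subgroupOfEquivOfLe hQV).toEquiv
  have hb' : (⟨b, hbV⟩ : E) ∈ normalizer (Q' : Set E) := by
    rw [mem_normalizer_iff]
    rintro ⟨x, hx⟩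
    exact mem_normalizer_iff.mp hbQ x
  have h1 : ∀ x ∈ Q, (x * b) ^ p = 1 := by
    intro x hx
    have := hs x hx 1 (one_mem _)
    rwa [one_mul] at this
  have key := trace_eq f Q' ⟨b, hbV⟩ hp hb' (by
    intro x hx
    exact Subtype.ext (h1 x hx)) (by
    intro x hx v
    have h2 := prod_formula V ((x : X) * b) (mul_mem x.2 hbV) v p
    rw [hs x hx v v.2, h1 x hx, mul_one] at h2
    exact Subtype.ext h2)
  intro y hy v hv
  have h3 := key ⟨v, hv⟩
  have h4 : f ⟨y, hQV hy⟩ ((⟨v, hv⟩ : V) ^ Fintype.card Q') = (⟨v, hv⟩ : V) ^ Fintype.card Q' := by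
    rw [h3, map_prod]
    have h5 : ∀ x : Q', f ⟨y, hQV hy⟩ (f (x : E) ⟨v, hv⟩) = f (((⟨⟨y, hQV hy⟩, hy⟩ : Q') * x : Q') : E) ⟨v, hv⟩ := by
      intro x
      rw [← MulAut.mul_apply, ← map_mul]
      rfl
    rw [Finset.prod_congr rfl (fun x _ => h5 x)]
    exact Equiv.prod_comp (Equiv.mulLeft (⟨⟨y, hQV hy⟩, hy⟩ : Q')) (fun x : Q' => f (x : E) ⟨v, hv⟩)
  have h6 : y * v ^ Nat.card Q * y⁻¹ = v ^ Nat.card Q := by
    have := congrArg Subtype.val h4
    rw [hcard] at this
    exact this
  rw [← conj_pow] at h6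
  have h7 : (Nat.card Q).Coprime (orderOf v) := Nat.Coprime.of_dvd_right (Subgroup.orderOf_dvd_natCard V hv) hco
  have h8 : y * v * y⁻¹ = v := by
    have h9 : orderOf (y * v * y⁻¹) = orderOf v := CfsgLib.FgBas.orderOf_conj y v
    have h10 := Nat.gcd_eq_gcd_ab (Nat.card Q) (orderOf v)
    rw [h7] at h10
    have key2 : ∀ z : X, orderOf z = orderOf v → (z ^ Nat.card Q) ^ (Nat.gcdA (Nat.card Q) (orderOf v)) = z := by
      intro z hz
      have h11 : z ^ ((Nat.card Q : ℤ) * Nat.gcdA (Nat.card Q) (orderOf v)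
          + (orderOf v : ℤ) * Nat.gcdB (Nat.card Q) (orderOf v)) = z := by
        rw [← h10]; simp
      rw [zpow_add, zpow_mul, zpow_mul, zpow_natCast, zpow_natCast, ← hz, pow_orderOf_eq_one, one_zpow, mul_one, hz] at h11
      exact h11
    rw [← key2 _ h9, h6, key2 v rfl]
  rwa [mul_inv_eq_iff_eq_mul] at h8

/-- the situation -/
def Good {X : Type u} [Group X] (p : ℕ) (N : Subgroup X) (a : X) : Prop :=
  a ∈ normalizer (N : Set X) ∧ ∀ x ∈ N, (x * a) ^ p = 1

theorem Good.mul {X : Type u} [Group X] {p : ℕ} {N : Subgroup X} {a : X} (h : Good p N a) {g : X} (hg : g ∈ N) :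
    Good p N (g * a) := by
  refine ⟨mul_mem (le_normalizer hg) h.1, fun x hx => ?_⟩
  rw [← mul_assoc]
  exact h.2 _ (mul_mem hx hg)

theorem Good.sub {X : Type u} [Group X] {p : ℕ} {N M : Subgroup X} {a : X} (h : Good p N a) (hM : M ≤ N)
    (ha : a ∈ normalizer (M : Set X)) : Good p M a := ⟨ha, fun x hx => h.2 x (hM hx)⟩

/-- the quotient step -/
theorem Good.quot {X : Type u} [Group X] [Finite X] {p : ℕ} {N V : Subgroup X} {a : X} (h : Good p N a) (hVN : V ≤ N)
    (hNV : N ≤ normalizer (V : Set X)) (haV : a ∈ normalizer (V : Set X)) (hV : V ≠ ⊥)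
    (ih : ∀ (Y : Type u) [Group Y] [Finite Y] (M : Subgroup Y) (c : Y), Nat.card M < Nat.card N → Good p M c → Group.IsNilpotent M) :
    ∃ (_ : (V.subgroupOf N).Normal), Group.IsNilpotent (N ⧸ V.subgroupOf N) := by
  have hn : (V.subgroupOf N).Normal := (normal_subgroupOf_iff_le_normalizer hVN).mpr hNV
  refine ⟨hn, ?_⟩
  set E := normalizer (V : Set X) with hE
  haveI : (V.subgroupOf E).Normal := normal_in_normalizer
  set q := QuotientGroup.mk' (V.subgroupOf E) with hq
  set Nb : Subgroup (E ⧸ V.subgroupOf E) := (N.subgroupOf E).map q with hNb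
  have hle : V.subgroupOf E ≤ N.subgroupOf E := comap_mono hVN
  have hcard := CfsgLib.FgCQ.card_map_mk_of_le hle
  have h1 : Nat.card (N.subgroupOf E) = Nat.card N := Nat.card_congr (Subgroup.subgroupOfEquivOfLe hNV).toEquiv
  have h2 : Nat.card (V.subgroupOf E) = Nat.card V := Nat.card_congr (Subgroup.subgroupOfEquivOfLe (hVN.trans hNV)).toEquiv
  have hlt : Nat.card Nb < Nat.card N := by
    rw [← h1, ← hcard, h2]
    exact lt_mul_of_one_lt_left Nat.card_pos (Finite.one_lt_card_iff_nontrivial.mpr ((Subgroup.nontrivial_iff_ne_bot V).mpr hV))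
  have hgood : Good p Nb (q ⟨a, haV⟩) := by
    constructor
    · have h3 : (⟨a, haV⟩ : E) ∈ normalizer ((N.subgroupOf E : Subgroup E) : Set E) := by
        rw [mem_normalizer_iff]
        rintro ⟨x, hx⟩
        exact mem_normalizer_iff.mp h.1 x
      exact Subgroup.le_normalizer_map q (Subgroup.mem_map_of_mem q h3)
    · rintro _ ⟨x, hx, rfl⟩
      rw [← map_mul, ← map_pow]
      have : (x * ⟨a, haV⟩ : E) ^ p = 1 := Subtype.ext (h.2 x hx)
      rw [this, map_one]
  have hnil := ih _ Nb _ hlt hgood
  let f : N →* (E ⧸ V.subgroupOf E) := q.comp (Subgroup.inclusion hNV)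
  have hker : f.ker = V.subgroupOf N := by
    ext x
    rw [MonoidHom.mem_ker, mem_subgroupOf]
    change q (Subgroup.inclusion hNV x) = 1 ↔ _
    rw [hq, QuotientGroup.mk'_apply, QuotientGroup.eq_one_iff, mem_subgroupOf]
    rfl
  have hrange : f.range ≤ Nb := by
    rintro _ ⟨x, rfl⟩
    exact ⟨Subgroup.inclusion hNV x, x.2, rfl⟩
  have hnil2 : Group.IsNilpotent f.range :=
    Group.nilpotent_of_mulEquiv (Subgroup.subgroupOfEquivOfLe hrange)
  have e : (N ⧸ V.subgroupOf N) ≃* f.range :=
    (QuotientGroup.quotientMulEquivOfEq hker.symm).trans (QuotientGroup.quotientKerEquivRange f)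
  exact Group.nilpotent_of_mulEquiv e.symm

/-- characteristic subgroups are normalized -/
theorem char_normalizer {X : Type u} [Group X] [Finite X] {N : Subgroup X} (D : Subgroup N) [hD : D.Characteristic] {a : X}
    (ha : a ∈ normalizer (N : Set X)) : a ∈ normalizer (D.map N.subtype : Set X) := by
  rw [mem_normalizer_iff_map_conj_eq]
  apply Subgroup.eq_of_le_of_card_ge
  · rintro _ ⟨_, ⟨d, hd, rfl⟩, rfl⟩
    have h1 := Subgroup.characteristic_iff_map_eq.mp hD (normalizerMonoidHom N ⟨a, ha⟩)
    have h2 : (normalizerMonoidHom N ⟨a, ha⟩) d ∈ D := by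
      have h3 : (normalizerMonoidHom N ⟨a, ha⟩) d ∈ D.map ((normalizerMonoidHom N) ⟨a, ha⟩).toMonoidHom := ⟨d, hd, rfl⟩
      rwa [h1] at h3
    exact ⟨_, h2, rfl⟩
  · exact (Subgroup.card_map_of_injective (f := (MulAut.conj a).toMonoidHom) (MulAut.conj a).injective).ge

theorem le_normalizer_char {X : Type u} [Group X] [Finite X] {N : Subgroup X} (D : Subgroup N) [hD : D.Characteristic] :
    N ≤ normalizer (D.map N.subtype : Set X) := fun x hx => char_normalizer D (le_normalizer hx)

/-- an element conjugating a Sylow subgroup of `N` back -/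
theorem exists_good_sylow {X : Type u} [Group X] [Finite X] {r : ℕ} [Fact r.Prime] {N R : Subgroup X} {a : X}
    (ha : a ∈ normalizer (N : Set X)) (hR : IsSylowIn r R N) : ∃ g ∈ N, g * a ∈ normalizer (R : Set X) := by
  obtain ⟨g, hg, h1⟩ := (hR.conj_of_normalizes ha).exists_conj hR
  refine ⟨g, hg, ?_⟩
  rw [mem_normalizer_iff_conj_smul, conj_smul_mul, h1]

theorem map_subgroupOf_self {X : Type u} [Group X] {N : Subgroup X} (D : Subgroup N) :
    (D.map N.subtype).subgroupOf N = D := by
  rw [Subgroup.subgroupOf, Subgroup.comap_map_eq_self_of_injective N.subtype_injective]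

theorem kegel {p : ℕ} (hp : p.Prime) (n : ℕ) : ∀ (X : Type u) [Group X] [Finite X] (N : Subgroup X) (a : X),
    Nat.card N = n → Good p N a → Group.IsNilpotent N := by
  induction n using Nat.strong_induction_on with
  | _ n ih =>
  intro X _ _ N a hn hgood
  have ih' : ∀ (Y : Type u) [Group Y] [Finite Y] (M : Subgroup Y) (c : Y), Nat.card M < Nat.card N → Good p M c →
      Group.IsNilpotent M := fun Y _ _ M c hlt h => ih _ (by rw [← hn]; exact hlt) Y M c rfl h
  by_cases hcen : center N = ⊥
  swap
  · -- the center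
    have hZ : (center N).map N.subtype ≠ ⊥ := by
      intro h1
      exact hcen ((Subgroup.map_eq_bot_iff_of_injective _ N.subtype_injective).mp h1)
    obtain ⟨hn', h1⟩ := hgood.quot (V := (center N).map N.subtype) (Subgroup.map_subtype_le _)
      (le_normalizer_char _) (char_normalizer _ hgood.1) hZ ih'
    apply Group.of_quotient_center_nilpotent
    exact Group.nilpotent_of_mulEquiv (QuotientGroup.quotientMulEquivOfEq (map_subgroupOf_self (center N)))
  by_cases hN0 : N = ⊥
  · subst hN0
    infer_instance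
  have hNnt : Nontrivial N := (Subgroup.nontrivial_iff_ne_bot N).mpr hN0
  by_cases hodd : ∀ r : ℕ, r.Prime → r ∣ Nat.card N → r = 2
  · -- a 2-group
    have : Fact (Nat.Prime 2) := ⟨Nat.prime_two⟩
    have h1 : IsPGroup 2 N := by
      apply IsPGroup.of_card (n := (Nat.card N).primeFactorsList.length)
      exact Nat.eq_prime_pow_of_unique_prime_dvd Nat.card_pos.ne' (fun {d} hd hdd => hodd d hd hdd)
    exact h1.isNilpotent
  push Not at hodd
  obtain ⟨r, hr, hrN, hr2⟩ := hodd
  have hrf : Fact r.Prime := ⟨hr⟩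
  -- solvability
  have hsol : Group.IsSolvable N := by
    obtain ⟨R, hR⟩ := IsSylowIn.exists_isSylowIn (p := r) N
    obtain ⟨g, hg, hgR⟩ := exists_good_sylow hgood.1 hR
    have hR0 : R ≠ ⊥ := by
      rintro rfl
      apply hR.not_dvd
      rw [relIndex_bot_left]; exact hrN
    set J := Cfsg.centerThompsonOf r R with hJ
    have hJ0 : J ≠ ⊥ := CfsgLib.H2Npc.centerThompsonOf_ne_bot hR.isPGroup hR0
    have hJR : J ≤ R := CfsgLib.H2Npc.centerThompsonOf_le r R
    have hJN : J ≤ N := hJR.trans hR.le
    have hgJ : g * a ∈ normalizer (J : Set X) := by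
      rw [mem_normalizer_iff_map_conj_eq]
      have h4 := CfsgLib.H2Npc.centerThompsonOf_map r (MulAut.conj (g * a)).toMonoidHom (P := R) (MulAut.conj (g * a)).injective.injOn
      have h5 : R.map (MulAut.conj (g * a)).toMonoidHom = R := mem_normalizer_iff_map_conj_eq.mp hgR
      rw [h5] at h4
      exact h4.symm
    by_cases hL : N ≤ normalizer (J : Set X)
    · have haJ : a ∈ normalizer (J : Set X) := by
        have := mul_mem (inv_mem (hL hg)) hgJ
        rwa [inv_mul_cancel_left] at this
      obtain ⟨hn', h1⟩ := hgood.quot hJN hL haJ hJ0 ih'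
      rw [Group.isSolvable_iff_subgroup_quotient (J.subgroupOf N)]
      refine ⟨?_, inferInstance⟩
      have h2 : Group.IsNilpotent J := (hR.isPGroup.to_le hJR).isNilpotent
      have h3 : Group.IsSolvable J := inferInstance
      exact Group.isSolvable_of_isSolvable_injective (f := (Subgroup.subgroupOfEquivOfLe hJN).toMonoidHom)
        (Subgroup.subgroupOfEquivOfLe hJN).injective
    · set L := N ⊓ normalizer (J : Set X) with hLdef
      have hLlt : L < N := lt_of_le_of_ne inf_le_left (fun h1 => hL (by rw [← h1]; exact inf_le_right))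
      have haL : g * a ∈ normalizer (L : Set X) := by
        have h1 : g * a ∈ normalizer (N : Set X) := mul_mem (le_normalizer hg) hgood.1
        have h2 : g * a ∈ normalizer ((normalizer (J : Set X) : Subgroup X) : Set X) := le_normalizer hgJ
        rw [mem_normalizer_iff_conj_smul] at h1 h2 ⊢
        rw [hLdef, Subgroup.smul_inf, h1, h2]
      have hLnil : Group.IsNilpotent L := ih' X L (g * a) (card_lt_of_lt hLlt) ((hgood.mul hg).sub inf_le_left haL)
      obtain ⟨S, hS⟩ := hR.exists_sylow
      have hJ' : (Cfsg.centerThompsonOf r (S : Subgroup N)).map N.subtype = J := by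
        rw [← CfsgLib.H2Npc.centerThompsonOf_map r N.subtype N.subtype_injective.injOn, hS]
      have hnilJ : Group.IsNilpotent (normalizer (Cfsg.centerThompsonOf r (S : Subgroup N) : Set N)) := by
        have hle : ∀ x : normalizer (Cfsg.centerThompsonOf r (S : Subgroup N) : Set N), ((x : N) : X) ∈ L := by
          intro x
          refine ⟨(x : N).2, ?_⟩
          have h1 := Subgroup.le_normalizer_map N.subtype (Subgroup.mem_map_of_mem N.subtype x.2)
          rw [hJ'] at h1
          exact h1
        let f : normalizer (Cfsg.centerThompsonOf r (S : Subgroup N) : Set N) →* L :=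
          (N.subtype.comp (Subgroup.subtype _)).codRestrict L hle
        have hf : Function.Injective f := by
          intro x y hxy
          have := congrArg Subtype.val hxy
          exact Subtype.ext (Subtype.ext this)
        exact Group.nilpotent_of_mulEquiv (MonoidHom.ofInjective hf).symm
      have hnpc : Cfsg.HasNormalPComplement r N :=
        (Cfsg.Agent.S0117.result hr2 S).mpr (CfsgLib.TransNil.hasNPC_of_isNilpotent hnilJ r)
      rw [hasNPC_iff] at hnpc
      obtain ⟨K, hK⟩ := hnpc
      haveI := hK.characteristic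
      have hKlt : Nat.card (K.map N.subtype) < Nat.card N := by
        rw [Subgroup.card_map_of_injective N.subtype_injective]
        refine lt_of_le_of_ne (Nat.le_of_dvd Nat.card_pos (Subgroup.card_subgroup_dvd_card K)) ?_
        intro h1
        apply hK.2.1
        rw [h1]; exact hrN
      have hKnil := ih' X _ a hKlt (hgood.sub (Subgroup.map_subtype_le K) (char_normalizer K hgood.1))
      haveI := hK.1
      rw [Group.isSolvable_iff_subgroup_quotient K]
      constructor
      · have h3 : Group.IsSolvable (K.map N.subtype) := inferInstance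
        exact Group.isSolvable_of_isSolvable_injective
          (f := (K.equivMapOfInjective N.subtype N.subtype_injective).toMonoidHom)
          (K.equivMapOfInjective N.subtype N.subtype_injective).injective
      · obtain ⟨k, hk⟩ := hK.2.2
        have h3 : IsPGroup r (N ⧸ K) := IsPGroup.of_card (n := k) (by rw [← hk]; rfl)
        have := h3.isNilpotent
        infer_instance
  -- the abelian normal subgroup
  obtain ⟨M, hMn, _, hM0, hMmin⟩ := CfsgLib.Cores.exists_minimal_normal (⊤ : Subgroup N) top_ne_bot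
  obtain ⟨s, hs, _, _, hMs⟩ := CfsgLib.Cores.minimal_normal_elementary M hM0 hMmin inferInstance
  have hsf : Fact s.Prime := ⟨hs⟩
  set D := Cfsg.pCore s N with hD
  have hMD : M ≤ D := CfsgLib.Cores.le_pCore hMn hMs
  have hDp : IsPGroup s D := CfsgLib.Cores.pCore_isPGroup s
  have hDnt : Nontrivial D := by
    rw [Subgroup.nontrivial_iff_ne_bot]
    rintro h1
    rw [h1, le_bot_iff] at hMD
    exact hM0 hMD
  set W : Subgroup N := (center D).map D.subtype with hW
  have hWchar : W.Characteristic := by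
    have h1 : D.Characteristic := inferInstance
    infer_instance
  set V : Subgroup X := W.map N.subtype with hV
  have hWc : ∀ x ∈ W, ∀ y ∈ D, x * y = y * x := by
    rintro _ ⟨x, hx, rfl⟩ y hy
    exact (congrArg Subtype.val (mem_center_iff.mp hx ⟨y, hy⟩)).symm
  have hWD : W ≤ D := Subgroup.map_subtype_le _
  have hW0 : W ≠ ⊥ := by
    have h1 := hDp.center_nontrivial
    intro h2
    rw [hW, Subgroup.map_eq_bot_iff_of_injective _ D.subtype_injective] at h2
    exact (Subgroup.nontrivial_iff_ne_bot _).mp h1 h2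
  -- a central element of a Sylow `s`-subgroup
  obtain ⟨S⟩ := (inferInstance : Nonempty (Sylow s N))
  have hDS : D ≤ (S : Subgroup N) := CfsgLib.Cores.pCore_le_sylow S
  have hWn : W.Normal := inferInstance
  have hSnil : Group.IsNilpotent (S : Subgroup N) := S.2.isNilpotent
  have hWS : W.subgroupOf (S : Subgroup N) ≠ ⊥ := by
    intro h1
    apply hW0
    have h2 := congrArg (Subgroup.map (S : Subgroup N).subtype) h1
    rwa [Subgroup.map_subgroupOf_eq_of_le (hWD.trans hDS), Subgroup.map_bot] at h2
  have h1 := CfsgLib.SolvNilp.inf_center_ne_bot (W.subgroupOf (S : Subgroup N)) hWS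
  obtain ⟨⟨z, hz⟩, hz1'⟩ := Subgroup.ne_bot_iff_exists_ne_one.mp h1
  have hz1 : z ≠ 1 := fun h => hz1' (Subtype.ext h)
  have hzW : (z : N) ∈ W := hz.1
  have hzS : ∀ x ∈ (S : Subgroup N), x * (z : N) = z * x := by
    intro x hx
    exact congrArg Subtype.val (mem_center_iff.mp hz.2 ⟨x, hx⟩)
  have htop : centralizer {(z : N)} = ⊤ := by
    rw [← Subgroup.index_eq_one]
    by_contra hne
    obtain ⟨q, hq, hqd⟩ := Nat.exists_prime_and_dvd hne
    have hqf : Fact q.Prime := ⟨hq⟩
    by_cases hqs : q = s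
    · subst hqs
      have hle : (S : Subgroup N) ≤ centralizer {(z : N)} := by
        intro x hx
        rw [mem_centralizer_singleton_iff]
        exact hzS x hx
      exact S.not_dvd_index (hqd.trans (Subgroup.index_dvd_of_le hle))
    · obtain ⟨T⟩ := (inferInstance : Nonempty (Sylow q N))
      have hT := IsSylowIn.ofSylow T
      obtain ⟨g, hg, hgT⟩ := exists_good_sylow hgood.1 hT
      have hVN : V ≤ N := Subgroup.map_subtype_le _
      have hgV : g * a ∈ normalizer (V : Set X) := mul_mem (le_normalizer_char W hg) (char_normalizer W hgood.1)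
      have hcomm := comm_of_split hp (V := V) (Q := (T : Subgroup N).map N.subtype) (by
        rintro _ ⟨x, hx, rfl⟩ _ ⟨y, hy, rfl⟩
        exact congrArg Subtype.val (hWc x hx y (hWD hy))) hgV hgT (hT.le.trans (le_normalizer_char W)) (by
          obtain ⟨i, hi⟩ := hT.isPGroup.exists_card_eq
          obtain ⟨j, hj⟩ := ((hDp.to_le hWD).map N.subtype).exists_card_eq
          rw [hi, hj]
          exact Nat.Coprime.pow _ _ ((Nat.coprime_primes hq hs).mpr hqs)) (by
            intro x hx v hv
            have h3 : v * (x * (g * a)) = (v * x * g) * a := by group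
            rw [h3]
            exact hgood.2 _ (mul_mem (mul_mem (hVN hv) (hT.le hx)) hg))
      have hle : (T : Subgroup N) ≤ centralizer {(z : N)} := by
        intro x hx
        rw [mem_centralizer_singleton_iff]
        apply Subtype.ext
        exact hcomm x ⟨x, hx, rfl⟩ z ⟨z, hzW, rfl⟩
      exact T.not_dvd_index (hqd.trans (Subgroup.index_dvd_of_le hle))
  exfalso
  have h4 : (z : N) ∈ center N := by
    rw [mem_center_iff]
    intro x
    have h5 : x ∈ centralizer {(z : N)} := by rw [htop]; trivial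
    exact mem_centralizer_singleton_iff.mp h5
  rw [hcen, mem_bot] at h4
  exact hz1 (Subtype.ext h4)

end CfsgLib.FgSplit
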