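import Cfsg.Agent.EqBase
import Mathlib

/-!
Relative subnormality inside an ambient group, conjugates of subgroups, joins of subnormal
subgroups (Wielandt), smallest subnormal subgroup containing a subgroup.
-/

set_option autoImplicit false
set_option linter.style.haveILetI false

namespace CfsgLib.FgSub

variable {G : Type*} [Group G]

/-- The conjugate `g H g⁻¹`. -/
def cj (g : G) (H : Subgroup G) : Subgroup G := H.map (MulAut.conj g).toMonoidHom

theorem cj_def (g : G) (H : Subgroup G) : cj g H = H.map (MulAut.conj g).toMonoidHom := rfl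

theorem mem_cj {g x : G} {H : Subgroup G} : x ∈ cj g H ↔ g⁻¹ * x * g ∈ H := by
  unfold cj
  constructor
  · rintro ⟨y, hy, rfl⟩
    simpa [mul_assoc] using hy
  · intro h
    exact ⟨_, h, by simp [mul_assoc]⟩

theorem conj_mem_cj {g x : G} {H : Subgroup G} (h : x ∈ H) : g * x * g⁻¹ ∈ cj g H := by
  rw [mem_cj]; simpa [mul_assoc] using h

@[simp] theorem cj_one (H : Subgroup G) : cj 1 H = H := by
  ext x; simp [mem_cj]

theorem cj_cj (g h : G) (H : Subgroup G) : cj g (cj h H) = cj (g * h) H := by
  ext x; simp only [mem_cj, mul_inv_rev, mul_assoc]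

@[simp] theorem cj_inv_cj (g : G) (H : Subgroup G) : cj g⁻¹ (cj g H) = H := by
  rw [cj_cj]; simp

@[simp] theorem cj_cj_inv (g : G) (H : Subgroup G) : cj g (cj g⁻¹ H) = H := by
  rw [cj_cj]; simp

theorem cj_mono {g : G} {H K : Subgroup G} (h : H ≤ K) : cj g H ≤ cj g K := Subgroup.map_mono h

theorem cj_le_cj {g : G} {H K : Subgroup G} : cj g H ≤ cj g K ↔ H ≤ K := by
  constructor
  · intro h
    have := cj_mono (g := g⁻¹) h
    simpa using this
  · exact cj_mono

theorem cj_inj {g : G} {H K : Subgroup G} : cj g H = cj g K ↔ H = K := by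
  constructor
  · intro h
    have := congrArg (cj g⁻¹) h
    simpa using this
  · rintro rfl; rfl

theorem cj_le_iff {g : G} {H K : Subgroup G} : cj g H ≤ K ↔ H ≤ cj g⁻¹ K := by
  rw [← cj_le_cj (g := g⁻¹)]; simp

theorem le_cj_iff {g : G} {H K : Subgroup G} : H ≤ cj g K ↔ cj g⁻¹ H ≤ K := by
  rw [← cj_le_cj (g := g⁻¹)]; simp

theorem cj_eq_iff {g : G} {H K : Subgroup G} : cj g H = K ↔ H = cj g⁻¹ K := by
  rw [← cj_inj (g := g⁻¹)]; simp

@[simp] theorem cj_top (g : G) : cj g (⊤ : Subgroup G) = ⊤ := by
  ext x; simp [mem_cj]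

@[simp] theorem cj_bot (g : G) : cj g (⊥ : Subgroup G) = ⊥ := by
  unfold cj; simp

theorem cj_sup (g : G) (H K : Subgroup G) : cj g (H ⊔ K) = cj g H ⊔ cj g K :=
  Subgroup.map_sup _ _ _

theorem cj_inf (g : G) (H K : Subgroup G) : cj g (H ⊓ K) = cj g H ⊓ cj g K := by
  ext x; simp [mem_cj, Subgroup.mem_inf]

theorem cj_iSup {ι : Sort*} (g : G) (H : ι → Subgroup G) : cj g (⨆ i, H i) = ⨆ i, cj g (H i) :=
  Subgroup.map_iSup _ _

theorem cj_closure (g : G) (S : Set G) :
    cj g (Subgroup.closure S) = Subgroup.closure ((fun x => g * x * g⁻¹) '' S) := by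
  unfold cj
  rw [MonoidHom.map_closure]
  congr 1

theorem card_cj (g : G) (H : Subgroup G) : Nat.card (cj g H) = Nat.card H :=
  (Nat.card_congr (H.equivMapOfInjective _ (MulAut.conj g).injective).toEquiv).symm

theorem mem_normalizer_iff_cj {g : G} {H : Subgroup G} :
    g ∈ Subgroup.normalizer (H : Set G) ↔ cj g H = H :=
  Subgroup.mem_normalizer_iff_map_conj_eq

theorem cj_normalizer (g : G) (H : Subgroup G) :
    cj g (Subgroup.normalizer (H : Set G)) = Subgroup.normalizer (cj g H : Set G) := by
  ext x
  rw [mem_cj, mem_normalizer_iff_cj, mem_normalizer_iff_cj, cj_cj, ← cj_inj (g := g), cj_cj]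
  simp only [mul_assoc, mul_inv_cancel_left]

theorem cj_eq_of_mem {g : G} {H : Subgroup G} (h : g ∈ H) : cj g H = H :=
  mem_normalizer_iff_cj.1 (Subgroup.le_normalizer h)

theorem cj_of_normal (g : G) (H : Subgroup G) [H.Normal] : cj g H = H := by
  rw [← mem_normalizer_iff_cj, Subgroup.normalizer_eq_top]; trivial

theorem normal_of_forall_cj {H : Subgroup G} (h : ∀ g, cj g H = H) : H.Normal := by
  rw [← Subgroup.normalizer_eq_top_iff, Subgroup.eq_top_iff']
  intro x; exact mem_normalizer_iff_cj.2 (h x)

theorem eq_of_cj_le [Finite G] {g : G} {H : Subgroup G} (h : cj g H ≤ H) : cj g H = H :=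
  Subgroup.eq_of_le_of_card_ge h (by rw [card_cj])

theorem isCoatom_cj {g : G} {H : Subgroup G} (h : IsCoatom H) : IsCoatom (cj g H) := by
  refine ⟨fun h' => h.1 ?_, fun K hK => ?_⟩
  · rw [← cj_inj (g := g), h']; simp
  · have : H < cj g⁻¹ K := by
      refine lt_of_le_of_ne ?_ ?_
      · rw [← cj_le_iff]; exact hK.le
      · intro h'; exact hK.ne (by rw [h']; simp)
    have := h.2 _ this
    rw [← cj_inj (g := g⁻¹), this]; simp

/-! ### Relative subnormality -/

/-- one step: `H` is a normal subgroup of `L`. -/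
def NRel (H L : Subgroup G) : Prop := H ≤ L ∧ L ≤ Subgroup.normalizer (H : Set G)

/-- `H` is subnormal in `K` (both subgroups of the ambient group). -/
def SN (H K : Subgroup G) : Prop := Relation.ReflTransGen NRel H K

theorem SN.refl (H : Subgroup G) : SN H H := Relation.ReflTransGen.refl

theorem SN.single {H K : Subgroup G} (h : H ≤ K) (h' : K ≤ Subgroup.normalizer (H : Set G)) :
    SN H K := Relation.ReflTransGen.single ⟨h, h'⟩

theorem SN.trans {H K L : Subgroup G} (h : SN H K) (h' : SN K L) : SN H L :=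
  Relation.ReflTransGen.trans h h'

theorem SN.le {H K : Subgroup G} (h : SN H K) : H ≤ K := by
  induction h with
  | refl => exact le_rfl
  | tail _ h ih => exact ih.trans h.1

theorem SN.inf {H K : Subgroup G} (h : SN H K) (X : Subgroup G) : SN (H ⊓ X) (K ⊓ X) := by
  induction h with
  | refl => exact SN.refl _
  | @tail L K h1 h2 ih =>
    refine ih.trans (SN.single (inf_le_inf_right _ h2.1) ?_)
    refine le_trans ?_ Subgroup.inf_normalizer_le_normalizer_inf
    exact inf_le_inf h2.2 Subgroup.le_normalizer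

theorem SN.inf_of_le {H K : Subgroup G} (h : SN H K) {X : Subgroup G} (hX : X ≤ K) :
    SN (H ⊓ X) X := by
  have := h.inf X
  rwa [inf_eq_right.2 hX] at this

theorem SN.of_le {H K : Subgroup G} (h : SN H K) {X : Subgroup G} (hX : X ≤ K) (hH : H ≤ X) :
    SN H X := by
  have := h.inf_of_le hX
  rwa [inf_eq_left.2 hH] at this

theorem SN.inf_sn {H K L : Subgroup G} (h : SN H K) (h' : SN L K) : SN (H ⊓ L) K :=
  (h.inf_of_le h'.le).trans h'

theorem SN.cj {H K : Subgroup G} (h : SN H K) (g : G) : SN (FgSub.cj g H) (FgSub.cj g K) := by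
  induction h with
  | refl => exact SN.refl _
  | @tail L K h1 h2 ih =>
    refine ih.trans (SN.single (cj_mono h2.1) ?_)
    rw [← cj_normalizer]
    exact cj_mono h2.2

/-- A proper subnormal subgroup lies in a proper normal subgroup. -/
theorem SN.exists_normal {H K : Subgroup G} (h : SN H K) (hne : H ≠ K) :
    ∃ N, SN H N ∧ N ≤ K ∧ N ≠ K ∧ K ≤ Subgroup.normalizer (N : Set G) := by
  induction h with
  | refl => exact absurd rfl hne
  | @tail L K h1 h2 ih =>
    by_cases hLK : L = K
    · subst hLK
      exact ih hne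
    · exact ⟨L, h1, h2.1, hLK, h2.2⟩

/-- A non-normal subnormal subgroup has a different conjugate that it normalizes and that
normalizes it. -/
theorem SN.exists_cj {H K : Subgroup G} (h : SN H K) (hn : ¬ K ≤ Subgroup.normalizer (H : Set G)) :
    ∃ y ∈ K, FgSub.cj y H ≠ H ∧ FgSub.cj y H ≤ Subgroup.normalizer (H : Set G) ∧
      H ≤ Subgroup.normalizer (FgSub.cj y H : Set G) ∧ FgSub.cj y H ≤ K := by
  induction h with
  | refl => exact absurd Subgroup.le_normalizer hn
  | @tail L K h1 h2 ih =>
    by_cases hL : L ≤ Subgroup.normalizer (H : Set G)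
    · obtain ⟨y, hyK, hy⟩ := SetLike.not_le_iff_exists.1 hn
      have hyL : FgSub.cj y L = L := mem_normalizer_iff_cj.1 (h2.2 hyK)
      have hHL : H ≤ L := SN.le h1
      have h3 : FgSub.cj y H ≤ L := by
        rw [← hyL]; exact cj_mono hHL
      refine ⟨y, hyK, fun h' => hy (mem_normalizer_iff_cj.2 h'), h3.trans hL, ?_, h3.trans h2.1⟩
      rw [← cj_normalizer]
      refine hHL.trans ?_
      rw [← hyL]
      exact cj_mono hL
    · obtain ⟨y, hy, h4, h5, h6, h7⟩ := ih hL
      exact ⟨y, h2.1 hy, h4, h5, h6, h7.trans h2.1⟩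

/-- Lemma A: `SN T K`, `N ≤ K` normalized by `K` implies `SN (N ⊔ T) K`. -/
theorem SN.sup_normal {T K N : Subgroup G} (h : SN T K) (hN : N ≤ K)
    (hK : K ≤ Subgroup.normalizer (N : Set G)) : SN (N ⊔ T) K := by
  have key : ∀ {T L : Subgroup G}, SN T L → L ≤ K → SN (N ⊔ T) (N ⊔ L) := by
    intro T L h
    induction h with
    | refl => intro _; exact SN.refl _
    | @tail L M h1 h2 ih =>
      intro hM
      refine (ih (h2.1.trans hM)).trans (SN.single (sup_le_sup_left h2.1 _) ?_)
      refine sup_le (le_sup_left.trans Subgroup.le_normalizer) ?_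
      refine le_trans ?_ (Subgroup.normalizer_inf_normalizer_le_normalizer_sup _ _)
      exact le_inf (hM.trans hK) h2.2
  have := key h le_rfl
  rwa [sup_eq_right.2 hN] at this

/-- normal closure of `S` in `N`, inside the ambient group -/
def ncl (S N : Subgroup G) : Subgroup G := ⨆ n : N, FgSub.cj (n : G) S

theorem le_ncl (S N : Subgroup G) : S ≤ ncl S N := by
  have := le_iSup (fun n : N => FgSub.cj (n : G) S) 1
  unfold ncl
  simpa using this

theorem ncl_le {S N X : Subgroup G} (hS : S ≤ X) (hN : N ≤ Subgroup.normalizer (X : Set G)) :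
    ncl S N ≤ X := by
  refine iSup_le fun n => ?_
  rw [← mem_normalizer_iff_cj.1 (hN n.2)]
  exact cj_mono hS

theorem ncl_le_right {S N : Subgroup G} (hS : S ≤ N) : ncl S N ≤ N :=
  ncl_le hS Subgroup.le_normalizer

theorem normalizes_ncl {S N : Subgroup G} {t : G} (hS : FgSub.cj t S = S) (hN : FgSub.cj t N = N) :
    FgSub.cj t (ncl S N) = ncl S N := by
  apply le_antisymm
  · unfold ncl
    rw [cj_iSup]
    refine iSup_le fun n => ?_
    rw [cj_cj]
    have h1 : t * n * t⁻¹ ∈ N := by
      have : t * n * t⁻¹ ∈ FgSub.cj t N := conj_mem_cj n.2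
      rwa [hN] at this
    have h2 : FgSub.cj (t * n) S = FgSub.cj (t * n * t⁻¹) S := by
      conv_lhs => rw [show t * (n : G) = (t * n * t⁻¹) * t by group]
      rw [← cj_cj, hS]
    rw [h2]
    exact le_iSup (fun n : N => FgSub.cj (n : G) S) ⟨_, h1⟩
  · have hS' : FgSub.cj t⁻¹ S = S := by rw [← cj_inj (g := t)]; simp [hS]
    have hN' : FgSub.cj t⁻¹ N = N := by rw [← cj_inj (g := t)]; simp [hN]
    unfold ncl
    refine iSup_le fun n => ?_
    rw [le_cj_iff, cj_cj]
    have h1 : t⁻¹ * n * t ∈ N := by
      have : t⁻¹ * n * t⁻¹⁻¹ ∈ FgSub.cj t⁻¹ N := conj_mem_cj n.2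
      rw [hN'] at this; simpa using this
    have h2 : FgSub.cj (t⁻¹ * n) S = FgSub.cj (t⁻¹ * n * t) S := by
      conv_lhs => rw [show t⁻¹ * (n : G) = (t⁻¹ * n * t) * t⁻¹ by group]
      rw [← cj_cj, hS']
    rw [h2]
    exact le_iSup (fun n : N => FgSub.cj (n : G) S) ⟨_, h1⟩

theorem le_normalizer_ncl (S N : Subgroup G) : N ≤ Subgroup.normalizer (ncl S N : Set G) := by
  have key : ∀ n ∈ N, FgSub.cj n (ncl S N) ≤ ncl S N := by
    intro n hn
    unfold ncl
    rw [cj_iSup]
    refine iSup_le fun m => ?_
    rw [cj_cj]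
    exact le_iSup (fun n : N => FgSub.cj (n : G) S) ⟨_, mul_mem hn m.2⟩
  intro n hn
  rw [mem_normalizer_iff_cj]
  apply le_antisymm (key n hn)
  rw [le_cj_iff]
  exact key _ (inv_mem hn)

theorem SN.ncl_ne {S N : Subgroup G} (h : SN S N) (hne : S ≠ N) : ncl S N ≠ N := by
  obtain ⟨M, h1, h2, h3, h4⟩ := h.exists_normal hne
  intro h5
  apply h3
  apply le_antisymm h2
  conv_lhs => rw [← h5]
  exact ncl_le h1.le h4

/-- Lemma B -/
theorem SN.sup_of_normalizes [Finite G] {S T K : Subgroup G} (hS : SN S K) (hT : SN T K)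
    (h : T ≤ Subgroup.normalizer (S : Set G)) : SN (S ⊔ T) K := by
  have key : ∀ (m : ℕ) (S N T : Subgroup G), Nat.card N = m → SN S N →
      T ≤ Subgroup.normalizer (S : Set G) → T ≤ Subgroup.normalizer (N : Set G) →
      SN T (N ⊔ T) → SN (S ⊔ T) (N ⊔ T) := by
    intro m
    induction m using Nat.strong_induction_on with
    | _ m ih =>
      intro S N T hm hSN hTS hTN hT
      by_cases hne : S = N
      · subst hne; exact SN.refl _
      · have h1 : ncl S N ≠ N := hSN.ncl_ne hne
        have h2 : ncl S N ≤ N := ncl_le_right hSN.le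
        have h3 : T ≤ Subgroup.normalizer (ncl S N : Set G) := fun t ht =>
          mem_normalizer_iff_cj.2 (normalizes_ncl (mem_normalizer_iff_cj.1 (hTS ht))
            (mem_normalizer_iff_cj.1 (hTN ht)))
        have h4 : SN (ncl S N ⊔ T) (N ⊔ T) := hT.sup_normal (h2.trans le_sup_left)
          (sup_le (le_normalizer_ncl S N) h3)
        have h5 : SN T (ncl S N ⊔ T) := hT.of_le h4.le le_sup_right
        have h6 : SN S (ncl S N) := hSN.of_le h2 (le_ncl S N)
        have h7 : Nat.card (ncl S N) < m := by
          rw [← hm]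
          have hle : Nat.card (ncl S N) ≤ Nat.card N := Subgroup.card_le_of_le h2
          refine lt_of_le_of_ne hle fun h8 => h1 ?_
          exact Subgroup.eq_of_le_of_card_ge h2 h8.ge
        exact (ih _ h7 S (ncl S N) T rfl h6 hTS h3 h5).trans h4
  have := key _ S K T rfl hS h (hT.le.trans Subgroup.le_normalizer)
    (by rw [sup_eq_left.2 hT.le]; exact hT)
  rwa [sup_eq_left.2 hT.le] at this

theorem card_lt_of_lt [Finite G] {H K : Subgroup G} (h : H ≤ K) (hne : H ≠ K) :
    Nat.card H < Nat.card K := by
  refine lt_of_le_of_ne (Subgroup.card_le_of_le h) fun h8 => hne ?_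
  exact Subgroup.eq_of_le_of_card_ge h h8.ge

/-- Wielandt's join theorem for finite groups. -/
theorem SN.sup [Finite G] {S T K : Subgroup G} (hS : SN S K) (hT : SN T K) : SN (S ⊔ T) K := by
  have key : ∀ (m : ℕ) (K : Subgroup G), Nat.card K = m →
      ∀ S T : Subgroup G, SN S K → SN T K → SN (S ⊔ T) K := by
    intro m
    induction m using Nat.strong_induction_on with
    | _ m ih =>
      intro K hm S T hS hT
      -- joins of finite families inside proper normal subgroups
      have fam : ∀ (S : Subgroup G) (J : Subgroup G), J ≤ K → SN S K → SN (ncl S J) K := by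
        intro S J hJ hS
        by_cases hne : S = K
        · subst hne
          have : ncl S J = S := le_antisymm (ncl_le le_rfl (hJ.trans Subgroup.le_normalizer))
            (le_ncl _ _)
          rw [this]; exact SN.refl _
        · obtain ⟨N, h1, h2, h3, h4⟩ := hS.exists_normal hne
          have hlt : Nat.card N < m := by rw [← hm]; exact card_lt_of_lt h2 h3
          have h5 : ∀ s : Finset J, SN (s.sup (fun j : J => FgSub.cj (j : G) S) ⊔ S) N := by
            classical
            intro s
            induction s using Finset.induction_on with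
            | empty => simpa using h1
            | insert a s ha ihs =>
              rw [Finset.sup_insert, sup_assoc]
              refine ih _ hlt N rfl _ _ ?_ ihs
              have : FgSub.cj (a : G) N = N := mem_normalizer_iff_cj.1 (h4 (hJ a.2))
              rw [← this]
              exact h1.cj _
          have h6 : SN (ncl S J) N := by
            haveI : Fintype J := Fintype.ofFinite _
            have := h5 Finset.univ
            rw [Finset.sup_univ_eq_iSup] at this
            have h7 : (⨆ j : J, FgSub.cj (j : G) S) ⊔ S = ncl S J :=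
              sup_eq_left.2 (le_ncl S J)
            rwa [h7] at this
          exact h6.trans (SN.single h2 h4)
      have hJK : S ⊔ T ≤ K := sup_le hS.le hT.le
      have h1 : SN (ncl S (S ⊔ T)) K := fam S _ hJK hS
      have h2 : SN (ncl T (S ⊔ T)) K := fam T _ hJK hT
      have h3 : ncl S (S ⊔ T) ⊔ ncl T (S ⊔ T) = S ⊔ T := by
        apply le_antisymm
        · exact sup_le (ncl_le_right le_sup_left) (ncl_le_right le_sup_right)
        · exact sup_le_sup (le_ncl _ _) (le_ncl _ _)
      rw [← h3]
      refine h1.sup_of_normalizes h2 ?_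
      exact (ncl_le_right le_sup_right).trans (le_normalizer_ncl _ _)
  exact key _ K rfl S T hS hT

theorem SN.finset_sup [Finite G] {ι : Type*} {K : Subgroup G} {s : Finset ι} {f : ι → Subgroup G}
    (hK : ∀ i ∈ s, SN (f i) K) : SN (s.sup f) K := by
  classical
  induction s using Finset.induction_on with
  | empty =>
    simp only [Finset.sup_empty]
    refine SN.single bot_le ?_
    rw [Subgroup.normalizer_eq_top]; exact le_top
  | insert a s ha ih =>
    rw [Finset.sup_insert]
    exact (hK a (Finset.mem_insert_self _ _)).sup (ih fun i hi => hK i (Finset.mem_insert_of_mem hi))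

theorem SN.bot (K : Subgroup G) : SN ⊥ K := by
  refine SN.single bot_le ?_
  rw [Subgroup.normalizer_eq_top]; exact le_top

theorem SN.sSup_of [Finite G] {K : Subgroup G} {S : Set (Subgroup G)}
    (hK : ∀ H ∈ S, SN H K) : SN (sSup S) K := by
  classical
  haveI : Fintype (Subgroup G) := Fintype.ofFinite _
  have h1 : sSup S = (Finset.univ.filter (· ∈ S)).sup id := by
    rw [Finset.sup_id_eq_sSup]
    congr 1
    ext x; simp
  rw [h1]
  exact SN.finset_sup fun i hi => hK i (by simpa using hi)

/-! ### The smallest subnormal subgroup of `X` containing `A` -/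

/-- smallest subnormal subgroup of `X` containing `A` (for `A ≤ X`, `G` finite) -/
def snc (A X : Subgroup G) : Subgroup G := sInf {S | A ≤ S ∧ SN S X}

theorem le_snc (A X : Subgroup G) : A ≤ snc A X := le_sInf fun _ h => h.1

theorem snc_le {A X S : Subgroup G} (hA : A ≤ S) (hS : SN S X) : snc A X ≤ S := sInf_le ⟨hA, hS⟩

theorem snc_le_right {A X : Subgroup G} (h : A ≤ X) : snc A X ≤ X := snc_le h (SN.refl X)

theorem SN.finset_inf {ι : Type*} {K : Subgroup G} (s : Finset ι) (f : ι → Subgroup G)
    (hK : ∀ i ∈ s, SN (f i) K) : SN (s.inf f ⊓ K) K := by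
  classical
  induction s using Finset.induction_on with
  | empty => simpa using SN.refl K
  | insert a s ha ih =>
    rw [Finset.inf_insert, inf_assoc]
    exact (hK a (Finset.mem_insert_self _ _)).inf_sn
      (ih fun i hi => hK i (Finset.mem_insert_of_mem hi))

theorem snc_sn [Finite G] {A X : Subgroup G} (h : A ≤ X) : SN (snc A X) X := by
  classical
  haveI : Fintype (Subgroup G) := Fintype.ofFinite _
  have h1 : snc A X = (Finset.univ.filter (fun S => A ≤ S ∧ SN S X)).inf id ⊓ X := by
    rw [Finset.inf_id_eq_sInf]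
    have : (↑(Finset.univ.filter (fun S : Subgroup G => A ≤ S ∧ SN S X)) : Set (Subgroup G))
        = {S | A ≤ S ∧ SN S X} := by ext x; simp
    rw [this]
    exact (inf_eq_left.2 (snc_le_right h)).symm
  rw [h1]
  exact SN.finset_inf _ _ fun i hi => by simpa using (Finset.mem_filter.1 hi).2.2

theorem snc_mono [Finite G] {A X Y : Subgroup G} (hA : A ≤ X) (h : X ≤ Y) :
    snc A X ≤ snc A Y := by
  have h1 : SN (snc A Y ⊓ X) X := (snc_sn (hA.trans h)).inf_of_le h
  exact (snc_le (le_inf (le_snc _ _) hA) h1).trans inf_le_left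

theorem cj_snc (g : G) (A X : Subgroup G) : cj g (snc A X) = snc (cj g A) (cj g X) := by
  apply le_antisymm
  · refine le_sInf ?_
    rintro S ⟨h1, h2⟩
    rw [cj_le_iff]
    refine snc_le ?_ ?_
    · rw [← cj_le_iff]; exact h1
    · have := h2.cj g⁻¹
      simpa using this
  · rw [le_cj_iff]
    refine le_sInf ?_
    rintro S ⟨h1, h2⟩
    rw [cj_le_iff, inv_inv]
    refine snc_le (cj_mono h1) (h2.cj g)

/-- `A` generates `H` as its own normal closure -/
theorem snc_eq_self_iff [Finite G] {A H : Subgroup G} (h : A ≤ H) :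
    snc A H = H ↔ ncl A H = H := by
  constructor
  · intro h1
    by_contra h2
    have h3 : SN (ncl A H) H := SN.single (ncl_le_right h) (le_normalizer_ncl A H)
    have h4 := snc_le (le_ncl A H) h3
    rw [h1] at h4
    exact h2 (le_antisymm (ncl_le_right h) h4)
  · intro h1
    by_contra h2
    have h3 : SN (snc A H) H := snc_sn h
    exact absurd (by
      apply le_antisymm (ncl_le_right h)
      obtain ⟨N, h5, h6, h7, h8⟩ := h3.exists_normal h2
      exfalso
      apply h7
      apply le_antisymm h6
      conv_lhs => rw [← h1]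
      exact ncl_le ((le_snc _ _).trans h5.le) h8) (by
      obtain ⟨N, h5, h6, h7, h8⟩ := h3.exists_normal h2
      intro _
      apply h7
      apply le_antisymm h6
      conv_lhs => rw [← h1]
      exact ncl_le ((le_snc _ _).trans h5.le) h8)

theorem snc_snc [Finite G] {A X : Subgroup G} (h : A ≤ X) : snc A (snc A X) = snc A X := by
  apply le_antisymm (snc_le_right (le_snc _ _))
  exact snc_le (le_snc _ _) ((snc_sn (le_snc _ _)).trans (snc_sn h))

theorem ncl_top_eq_normalClosure (A : Subgroup G) :
    ncl A ⊤ = Subgroup.normalClosure (A : Set G) := by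
  apply le_antisymm
  · exact ncl_le Subgroup.subset_normalClosure (by rw [Subgroup.normalizer_eq_top])
  · have : (ncl A ⊤).Normal := by
      rw [← Subgroup.normalizer_eq_top_iff]
      exact top_le_iff.1 (le_normalizer_ncl A ⊤)
    exact Subgroup.normalClosure_le_normal (le_ncl A ⊤)

theorem ncl_eq_iff_normalClosure {A H : Subgroup G} (h : A ≤ H) :
    ncl A H = H ↔ Subgroup.normalClosure ((A.subgroupOf H : Subgroup H) : Set H) = ⊤ := by
  have key : (Subgroup.normalClosure ((A.subgroupOf H : Subgroup H) : Set H)).map H.subtype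
      = ncl A H := by
    apply le_antisymm
    · rw [Subgroup.map_le_iff_le_comap]
      have : ((ncl A H).comap H.subtype).Normal := by
        have := (Subgroup.normal_subgroupOf_iff_le_normalizer (ncl_le_right h)).2
          (le_normalizer_ncl A H)
        exact this
      apply Subgroup.normalClosure_le_normal
      intro x hx
      have hx' : (x : G) ∈ A := hx
      exact le_ncl A H hx'
    · refine ncl_le ?_ ?_
      · intro x hx
        exact ⟨⟨x, h hx⟩, Subgroup.subset_normalClosure (show (⟨x, h hx⟩ : H) ∈ A.subgroupOf H from hx), rfl⟩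
      · intro x hx
        rw [mem_normalizer_iff_cj]
        have hn : ∀ y ∈ H, cj y ((Subgroup.normalClosure ((A.subgroupOf H : Subgroup H) : Set H)).map H.subtype) ≤
            (Subgroup.normalClosure ((A.subgroupOf H : Subgroup H) : Set H)).map H.subtype := by
          intro y hy z hz
          rw [mem_cj] at hz
          obtain ⟨w, hw, hw'⟩ := hz
          refine ⟨⟨y, hy⟩ * w * ⟨y, hy⟩⁻¹, Subgroup.normalClosure_normal.conj_mem _ hw _, ?_⟩
          simp only [map_mul, map_inv, hw']
          simp [mul_assoc]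
        apply le_antisymm (hn x hx)
        rw [le_cj_iff]
        exact hn _ (inv_mem hx)
  rw [← key]
  constructor
  · intro h1
    rw [eq_top_iff]
    intro x _
    have : (x : G) ∈ (Subgroup.normalClosure ((A.subgroupOf H : Subgroup H) : Set H)).map H.subtype := by
      rw [h1]; exact x.2
    obtain ⟨y, hy, hy'⟩ := this
    have : y = x := Subtype.ext hy'
    rwa [← this]
  · intro h1
    rw [h1]
    ext x; simp

end CfsgLib.FgSub
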