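import Mathlib
import Cfsg.Agent.EqBase
import Cfsg.Agent.LibFgFOT4
import Cfsg.Agent.LibFgFOT5
import Cfsg.Agent.LibFgElt
import Cfsg.Agent.LibFgCQ
import Cfsg.Agent.LibCores

/-! 2-Frobenius groups -/

set_option autoImplicit false
set_option linter.unusedSectionVars false

namespace CfsgLib.FgTF
open CfsgLib.FgFOT
open scoped Pointwise

universe u

structure TwoFrob {G : Type u} [Group G] (H K : Subgroup G) [H.Normal] (C1 : Subgroup K) (C2 : Subgroup (G ⧸ H)) : Prop where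
  nK : K.Normal
  lt : H < K
  f1 : Frob (H.subgroupOf K) C1
  f2 : Frob (K.map (QuotientGroup.mk' H)) C2

variable {G : Type u} [Group G] [Finite G] {H K : Subgroup G} [H.Normal] {C1 : Subgroup K} {C2 : Subgroup (G ⧸ H)}

theorem TwoFrob.of (nK : K.Normal) (lt : H < K)
    (h1 : Cfsg.IsFrobeniusComplement C1 ∧ Cfsg.frobeniusKernel C1 = (H.subgroupOf K : Set ↥K))
    (h2 : Cfsg.IsFrobeniusComplement C2 ∧ Cfsg.frobeniusKernel C2 = (K.map (QuotientGroup.mk' H) : Set (G ⧸ H))) :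
    TwoFrob H K C1 C2 := by
  obtain ⟨N1, hN1, f1⟩ := Frob.of_compl h1.1
  obtain ⟨N2, hN2, f2⟩ := Frob.of_compl h2.1
  have e1 : N1 = H.subgroupOf K := SetLike.coe_injective (hN1.trans h1.2)
  have e2 : N2 = K.map (QuotientGroup.mk' H) := SetLike.coe_injective (hN2.trans h2.2)
  subst e1 e2
  exact ⟨nK, lt, f1, f2⟩

theorem nilp_of_frob {F : Type u} [Group F] [Finite F] {N C : Subgroup F} (hf : Frob N C) : Group.IsNilpotent N := by
  obtain ⟨N', hN', hNn, hnil⟩ := Cfsg.Agent.S0042.result C hf.fc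
  obtain ⟨N'', hN'', hf'⟩ := Frob.of_compl hf.fc
  have e0 : N' = N'' := SetLike.coe_injective (hN'.trans hN''.symm)
  subst e0
  have hcard : Nat.card N = Nat.card N' := by
    have h1 := hf.card
    have h2 := hf'.card
    rw [← h2] at h1
    exact Nat.eq_of_mul_eq_mul_right Nat.card_pos h1
  have e1 : N = N' := by
    ext x
    rw [hf.mem_iff, hf'.mem_iff, hcard]
  rw [e1]; exact hnil

theorem exists_of_cyclic {C : Type*} [Group C] [Finite C] (hC : IsCyclic C) {m : ℕ} (hm : m ∣ Nat.card C) :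
    ∃ g : C, orderOf g = m := by
  obtain ⟨g, hg⟩ := hC.exists_ofOrder_eq_natCard
  refine ⟨g ^ (orderOf g / m), ?_⟩
  rw [← hg] at hm
  exact orderOf_pow_orderOf_div (orderOf_pos g).ne' hm

namespace TwoFrob
variable (h : TwoFrob H K C1 C2)
include h

theorem card_H : Nat.card (H.subgroupOf K) = Nat.card H := Nat.card_congr (Subgroup.subgroupOfEquivOfLe h.lt.le).toEquiv

theorem card_K : Nat.card H * Nat.card C1 = Nat.card K := by rw [← h.card_H]; exact h.f1.card

theorem card_bar : Nat.card (K.map (QuotientGroup.mk' H)) = Nat.card C1 := by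
  have h1 := CfsgLib.FgCQ.card_map_mk_of_le h.lt.le
  rw [← h.card_K] at h1
  exact Nat.eq_of_mul_eq_mul_left Nat.card_pos h1

theorem card_G : Nat.card G = Nat.card H * (Nat.card C1 * Nat.card C2) := by
  rw [← h.card_bar, h.f2.card]
  exact (Subgroup.card_mul_index H).symm

theorem card_C2 : Nat.card (G ⧸ K) = Nat.card C2 := by
  have h1 := Subgroup.card_mul_index K
  rw [h.card_G, ← h.card_K, ← mul_assoc] at h1
  exact Nat.eq_of_mul_eq_mul_left (Nat.mul_pos Nat.card_pos Nat.card_pos) h1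

theorem card_n : Nat.card (↥K ⧸ H.subgroupOf K) = Nat.card C1 := h.f1.index

theorem cop1 : Nat.Coprime (Nat.card H) (Nat.card C1) := by rw [← h.card_H]; exact h.f1.cop

theorem cop2 : Nat.Coprime (Nat.card C1) (Nat.card C2) := by rw [← h.card_bar]; exact h.f2.cop

theorem comap_eq : (K.map (QuotientGroup.mk' H)).comap (QuotientGroup.mk' H) = K := by
  rw [Subgroup.comap_map_eq, QuotientGroup.ker_mk', sup_eq_left.mpr h.lt.le]

theorem exists_iso : Nonempty (C1 ≃* K.map (QuotientGroup.mk' H)) := by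
  let φ : C1 →* K.map (QuotientGroup.mk' H) := ((QuotientGroup.mk' H).subgroupMap K).comp C1.subtype
  have hφ : Function.Injective φ := by
    rw [injective_iff_map_eq_one]
    intro c hc
    have h1 : (QuotientGroup.mk' H) ((c : K) : G) = 1 := congrArg Subtype.val hc
    have h2 : ((c : K) : G) ∈ H := (QuotientGroup.eq_one_iff _).mp h1
    have h3 : (c : K) ∈ H.subgroupOf K ⊓ C1 := ⟨h2, c.2⟩
    rw [h.f1.compl.disjoint.eq_bot, Subgroup.mem_bot] at h3
    exact Subtype.ext h3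
  exact ⟨MulEquiv.ofBijective φ (hφ.bijective_of_nat_card_le (le_of_eq h.card_bar))⟩

theorem odd : ¬ 2 ∣ Nat.card C1 := by
  intro h2
  obtain ⟨e⟩ := h.exists_iso
  obtain ⟨t, ht, ht2⟩ := h.f1.exists_inv h2
  have hz2 : orderOf ((e ⟨t, ht⟩ : K.map (QuotientGroup.mk' H)) : G ⧸ H) = 2 := by
    rw [Subgroup.orderOf_coe, MulEquiv.orderOf_eq, Subgroup.orderOf_mk, ht2]
  have huniq : ∀ w ∈ K.map (QuotientGroup.mk' H), orderOf w = 2 → w = ((e ⟨t, ht⟩ : K.map (QuotientGroup.mk' H)) : G ⧸ H) := by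
    intro w hw hw2
    have h1 : orderOf (e.symm ⟨w, hw⟩) = 2 := by rw [MulEquiv.orderOf_eq, Subgroup.orderOf_mk, hw2]
    have h3 : e.symm ⟨w, hw⟩ = ⟨t, ht⟩ := by
      apply Subtype.ext
      exact h.f1.inv_unique (e.symm ⟨w, hw⟩).2 ht (by rw [Subgroup.orderOf_coe, h1]) ht2
    have h4 : e ⟨t, ht⟩ = ⟨w, hw⟩ := by rw [← h3, MulEquiv.apply_symm_apply]
    rw [h4]
  obtain ⟨c, hc, hc1⟩ : ∃ c ∈ C2, c ≠ 1 := by
    obtain ⟨c, hc⟩ := Subgroup.ne_bot_iff_exists_ne_one.mp h.f2.H_ne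
    exact ⟨c.1, c.2, fun hh => hc (Subtype.ext hh)⟩
  have hn := h.f2.normal
  have h3 := huniq (c * ((e ⟨t, ht⟩ : K.map (QuotientGroup.mk' H)) : G ⧸ H) * c⁻¹) (hn.conj_mem _ (e ⟨t, ht⟩).2 c) (by
    rw [CfsgLib.FgBas.orderOf_conj, hz2])
  rcases h.f2.fpf c hc _ (e ⟨t, ht⟩).2 (mul_inv_eq_iff_eq_mul.mp h3) with h4 | h4
  · exact hc1 h4
  · rw [h4, orderOf_one] at hz2
    norm_num at hz2

theorem cyclic_bar : IsCyclic (K.map (QuotientGroup.mk' H)) := by
  obtain ⟨e⟩ := h.exists_iso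
  have hZ : IsZGroup C1 := by
    refine ⟨fun p hp P => ?_⟩
    have : Fact p.Prime := ⟨hp⟩
    by_cases hp2 : p = 2
    · subst hp2
      have h1 : Nat.card P = 1 := by
        rw [Sylow.card_eq_multiplicity, Nat.factorization_eq_zero_of_not_dvd h.odd, pow_zero]
      have : Subsingleton P := (Nat.card_eq_one_iff_unique.mp h1).1
      exact isCyclic_of_subsingleton
    · exact h.f1.sylow_cyclic hp2 P
  have hZ2 : IsZGroup (K.map (QuotientGroup.mk' H)) := IsZGroup.of_injective (f := e.symm.toMonoidHom) e.symm.injective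
  have hnil := nilp_of_frob h.f2
  infer_instance

theorem cyclic_C1 : IsCyclic C1 := by
  obtain ⟨e⟩ := h.exists_iso
  have := h.cyclic_bar
  exact isCyclic_of_surjective e.symm e.symm.surjective

theorem cyclic_C2 : IsCyclic C2 := by
  have hn := h.f2.normal
  refine CfsgLib.FPF1.FPF.isCyclic_of_comm h.f2.FPF h.f2.le_norm h.f2.K_ne ?_
  have hcyc := h.cyclic_bar
  obtain ⟨k, hk⟩ := hcyc.exists_generator
  have hk1 : (k : G ⧸ H) ≠ 1 := by
    intro h1
    apply h.f2.K_ne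
    rw [eq_bot_iff]
    intro x hx
    obtain ⟨j, hj⟩ := Subgroup.mem_zpowers_iff.mp (hk ⟨x, hx⟩)
    have h2 : (k : G ⧸ H) ^ j = x := congrArg Subtype.val hj
    rw [h1, one_zpow] at h2
    rw [Subgroup.mem_bot]; exact h2.symm
  have hpow : ∀ a ∈ C2, ∃ j : ℤ, a * (k : G ⧸ H) * a⁻¹ = (k : G ⧸ H) ^ j := by
    intro a _
    obtain ⟨j, hj⟩ := Subgroup.mem_zpowers_iff.mp (hk ⟨a * (k : G ⧸ H) * a⁻¹, hn.conj_mem _ k.2 a⟩)
    exact ⟨j, (congrArg Subtype.val hj).symm⟩
  refine ⟨⟨fun a b => ?_⟩⟩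
  obtain ⟨i, hi⟩ := hpow a a.2
  obtain ⟨j, hj⟩ := hpow b b.2
  have e1 : (a : G ⧸ H) * b * k * ((a : G ⧸ H) * b)⁻¹ = (k : G ⧸ H) ^ (i * j) := by
    calc (a : G ⧸ H) * b * k * ((a : G ⧸ H) * b)⁻¹ = a * (b * k * (b : G ⧸ H)⁻¹) * (a : G ⧸ H)⁻¹ := by group
      _ = a * (k : G ⧸ H) ^ j * (a : G ⧸ H)⁻¹ := by rw [hj]
      _ = (a * (k : G ⧸ H) * (a : G ⧸ H)⁻¹) ^ j := (conj_zpow).symm
      _ = _ := by rw [hi, zpow_mul]
  have e2 : (b : G ⧸ H) * a * k * ((b : G ⧸ H) * a)⁻¹ = (k : G ⧸ H) ^ (i * j) := by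
    calc (b : G ⧸ H) * a * k * ((b : G ⧸ H) * a)⁻¹ = b * (a * k * (a : G ⧸ H)⁻¹) * (b : G ⧸ H)⁻¹ := by group
      _ = b * (k : G ⧸ H) ^ i * (b : G ⧸ H)⁻¹ := by rw [hi]
      _ = (b * (k : G ⧸ H) * (b : G ⧸ H)⁻¹) ^ i := (conj_zpow).symm
      _ = _ := by rw [hj, mul_comm i j, zpow_mul]
  apply Subtype.ext
  change (a : G ⧸ H) * b = b * a
  rcases h.f2.fpf (((b : G ⧸ H) * a)⁻¹ * ((a : G ⧸ H) * b)) (C2.mul_mem (C2.inv_mem (C2.mul_mem b.2 a.2)) (C2.mul_mem a.2 b.2)) k k.2 (by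
    have e3 := e1.trans e2.symm
    calc ((b : G ⧸ H) * a)⁻¹ * ((a : G ⧸ H) * b) * k = ((b : G ⧸ H) * a)⁻¹ * ((a : G ⧸ H) * b * k * ((a : G ⧸ H) * b)⁻¹) * ((a : G ⧸ H) * b) := by group
      _ = ((b : G ⧸ H) * a)⁻¹ * ((b : G ⧸ H) * a * k * ((b : G ⧸ H) * a)⁻¹) * ((a : G ⧸ H) * b) := by rw [e3]
      _ = _ := by group) with h4 | h4
  · exact (inv_mul_eq_one.mp h4).symm
  · exact absurd h4 hk1

theorem nilp_H : Group.IsNilpotent H := by
  have := nilp_of_frob h.f1
  exact Group.nilpotent_of_mulEquiv (Subgroup.subgroupOfEquivOfLe h.lt.le)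

theorem solvable : Group.IsSolvable G := by
  rw [Group.isSolvable_iff_subgroup_quotient H]
  have h1 := h.nilp_H
  refine ⟨inferInstance, ?_⟩
  rw [h.f2.solv_iff]
  have hc := h.cyclic_C2
  exact Group.isSolvable_of_comm (fun a b => hc.isMulCommutative.is_comm.comm a b)

/-- no mixed orders -/
theorem no_pq {p q : ℕ} (hp : p.Prime) (hq : q.Prime) (hpn : p ∣ Nat.card C1) (hqn : ¬ q ∣ Nat.card C1) (g : G) :
    orderOf g ≠ p * q := by
  intro hg
  have hpq : p ≠ q := by rintro rfl; exact hqn hpn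
  have hx : orderOf (g ^ q) = p := by
    rw [orderOf_pow_of_dvd hq.ne_zero (by rw [hg]; exact dvd_mul_left _ _), hg, Nat.mul_div_cancel _ hq.pos]
  have hy : orderOf (g ^ p) = q := by
    rw [orderOf_pow_of_dvd hp.ne_zero (by rw [hg]; exact dvd_mul_right _ _), hg, Nat.mul_div_cancel_left _ hp.pos]
  have hpH : ¬ p ∣ Nat.card H := fun hh => hp.one_lt.ne' (Nat.eq_one_of_dvd_coprimes h.cop1 hh hpn)
  have hxK : g ^ q ∈ K := by
    rw [← h.comap_eq]
    change (QuotientGroup.mk' H) (g ^ q) ∈ K.map (QuotientGroup.mk' H)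
    rw [h.f2.mem_iff, ← orderOf_dvd_iff_pow_eq_one, h.card_bar]
    exact (orderOf_map_dvd (QuotientGroup.mk' H) (g ^ q)).trans (by rw [hx]; exact hpn)
  by_cases hyH : g ^ p ∈ H
  · have hyK : g ^ p ∈ K := h.lt.le hyH
    have hqH : q ∣ Nat.card (H.subgroupOf K) := by
      rw [h.card_H, ← hy, ← Subgroup.orderOf_mk (g ^ p) hyH]
      exact orderOf_dvd_natCard _
    obtain ⟨z, hz⟩ := CfsgLib.FgFpf.mul_order hq hp (Ne.symm hpq) (a := (⟨g ^ p, hyK⟩ : K)) (b := ⟨g ^ q, hxK⟩)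
      (Subtype.ext ((Commute.refl g).pow_pow p q).eq) (by rw [Subgroup.orderOf_mk, hy]) (by rw [Subgroup.orderOf_mk, hx])
    exact h.f1.no_mixed hq hp hqH hpn z hz
  · have hy' : orderOf ((QuotientGroup.mk' H) (g ^ p)) = q := by
      have h1 := orderOf_map_dvd (QuotientGroup.mk' H) (g ^ p)
      rw [hy] at h1
      rcases (Nat.dvd_prime hq).mp h1 with h2 | h2
      · rw [orderOf_eq_one_iff] at h2
        exact absurd ((QuotientGroup.eq_one_iff _).mp h2) hyH
      · exact h2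
    have hx' : orderOf ((QuotientGroup.mk' H) (g ^ q)) = p := by
      have h1 := orderOf_map_dvd (QuotientGroup.mk' H) (g ^ q)
      rw [hx] at h1
      rcases (Nat.dvd_prime hp).mp h1 with h2 | h2
      · rw [orderOf_eq_one_iff] at h2
        have h3 : g ^ q ∈ H := (QuotientGroup.eq_one_iff _).mp h2
        exfalso
        apply hpH
        rw [← hx, ← Subgroup.orderOf_mk (g ^ q) h3]
        exact orderOf_dvd_natCard _
      · exact h2
    have hqC : q ∣ Nat.card C2 := by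
      have h1 : q ∣ Nat.card (G ⧸ H) := by rw [← hy']; exact orderOf_dvd_natCard _
      rw [← h.f2.card, h.card_bar] at h1
      exact (hq.dvd_mul.mp h1).resolve_left hqn
    obtain ⟨z, hz⟩ := CfsgLib.FgFpf.mul_order hp hq hpq (a := (QuotientGroup.mk' H) (g ^ q)) (b := (QuotientGroup.mk' H) (g ^ p))
      (by rw [← map_mul, ← map_mul, ((Commute.refl g).pow_pow q p).eq]) (by rw [hx']) (by rw [hy'])
    exact h.f2.no_mixed hp hq (by rw [h.card_bar]; exact hpn) hqC z hz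

/-- elements of order `p q`, both primes dividing `n` -/
theorem exists_pq_n {p q : ℕ} (hp : p.Prime) (hq : q.Prime) (hpq : p ≠ q) (hpn : p ∣ Nat.card C1) (hqn : q ∣ Nat.card C1) :
    ∃ g : G, orderOf g = p * q := by
  obtain ⟨g, hg⟩ := CfsgLib.FgTF.exists_of_cyclic h.cyclic_C1 (((Nat.coprime_primes hp hq).mpr hpq).mul_dvd_of_dvd_of_dvd hpn hqn)
  exact ⟨((g : K) : G), by rw [Subgroup.orderOf_coe, Subgroup.orderOf_coe, hg]⟩

theorem exists_pq_C2 {p q : ℕ} (hp : p.Prime) (hq : q.Prime) (hpq : p ≠ q) (hpn : p ∣ Nat.card C2) (hqn : q ∣ Nat.card C2) :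
    ∃ g : G, orderOf g = p * q := by
  obtain ⟨g, hg⟩ := CfsgLib.FgTF.exists_of_cyclic h.cyclic_C2 (((Nat.coprime_primes hp hq).mpr hpq).mul_dvd_of_dvd_of_dvd hpn hqn)
  obtain ⟨z, hz⟩ := QuotientGroup.mk'_surjective H (g : G ⧸ H)
  have h1 : p * q ∣ orderOf z := by
    have := orderOf_map_dvd (QuotientGroup.mk' H) z
    rwa [hz, Subgroup.orderOf_coe, hg] at this
  exact ⟨z ^ (orderOf z / (p * q)), orderOf_pow_orderOf_div (orderOf_pos z).ne' h1⟩

theorem exists_pq_H {p q : ℕ} (hp : p.Prime) (hq : q.Prime) (hpq : p ≠ q) (hpn : p ∣ Nat.card H) (hqn : q ∣ Nat.card H) :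
    ∃ g : G, orderOf g = p * q := by
  have : Fact p.Prime := ⟨hp⟩
  have : Fact q.Prime := ⟨hq⟩
  obtain ⟨x, hx⟩ := exists_prime_orderOf_dvd_card' (G := H) p hpn
  obtain ⟨y, hy⟩ := exists_prime_orderOf_dvd_card' (G := H) q hqn
  have hx' : orderOf (x : G) = p := by rw [Subgroup.orderOf_coe, hx]
  have hy' : orderOf (y : G) = q := by rw [Subgroup.orderOf_coe, hy]
  exact CfsgLib.FgFpf.mul_order hp hq hpq (a := (x : G)) (b := (y : G))
    (CfsgLib.FgElt.commute_of_nilpotent h.nilp_H x.2 y.2 (by rw [hx', hy']; exact (Nat.coprime_primes hp hq).mpr hpq))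
    (by rw [hx']) (by rw [hy'])

/-- `p` divides `|H|`, `q` divides `|G / K|` but not `|H|` -/
theorem exists_pq_mix {p q : ℕ} (hp : p.Prime) (hq : q.Prime) (hpn : p ∣ Nat.card H) (hqn : q ∣ Nat.card C2)
    (hqH : ¬ q ∣ Nat.card H) : ∃ g : G, orderOf g = p * q := by
  by_contra hne
  push Not at hne
  have hKn := h.nK
  have hpq : p ≠ q := by rintro rfl; exact hqH hpn
  -- a prime dividing n
  have hn1 : Nat.card C1 ≠ 1 := fun hh => h.f1.H_ne (Subgroup.card_eq_one.mp hh)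
  obtain ⟨r, hr, hrn⟩ := Nat.exists_prime_and_dvd hn1
  have hfr : Fact r.Prime := ⟨hr⟩
  have hfp : Fact p.Prime := ⟨hp⟩
  have hfq : Fact q.Prime := ⟨hq⟩
  have hqn1 : ¬ q ∣ Nat.card C1 := fun hh => hq.one_lt.ne' (Nat.eq_one_of_dvd_coprimes h.cop2 hh hqn)
  have hpn1 : ¬ p ∣ Nat.card C1 := fun hh => hp.one_lt.ne' (Nat.eq_one_of_dvd_coprimes h.cop1 hpn hh)
  have hrH : ¬ r ∣ Nat.card H := fun hh => hr.one_lt.ne' (Nat.eq_one_of_dvd_coprimes h.cop1 hh hrn)
  obtain ⟨x, hx⟩ := exists_prime_orderOf_dvd_card' (G := C1) r hrn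
  obtain ⟨x0, hx0⟩ : ∃ x0 : G, x0 = ((x : K) : G) := ⟨_, rfl⟩
  have hx0o : orderOf x0 = r := by rw [hx0, Subgroup.orderOf_coe, Subgroup.orderOf_coe, hx]
  have hx0K : x0 ∈ K := by rw [hx0]; exact (x : K).2
  -- the normal subgroup H <x>
  let X : Subgroup G := Subgroup.zpowers x0
  have hXc : Nat.card X = r := by rw [Nat.card_zpowers, hx0o]
  let M : Subgroup G := H ⊔ X
  have hMmap : M.map (QuotientGroup.mk' H) = X.map (QuotientGroup.mk' H) := by
    rw [Subgroup.map_sup, (Subgroup.map_eq_bot_iff H).mpr (by rw [QuotientGroup.ker_mk']), bot_sup_eq]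
  have hXle : X.map (QuotientGroup.mk' H) ≤ K.map (QuotientGroup.mk' H) :=
    Subgroup.map_mono (Subgroup.zpowers_le.mpr hx0K)
  have hMn : M.Normal := by
    have h1 : (X.map (QuotientGroup.mk' H)).Normal := by
      refine ⟨fun y hy g => ?_⟩
      have hn := h.f2.normal
      have h2 : (X.map (QuotientGroup.mk' H)).map (MulAut.conj g).toMonoidHom = X.map (QuotientGroup.mk' H) := by
        refine CfsgLib.FgCQ.eq_of_card_of_le_cyclic h.cyclic_bar ?_ hXle (Subgroup.card_map_of_injective (MulAut.conj g).injective)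
        refine (Subgroup.map_mono hXle).trans ?_
        rintro _ ⟨w, hw, rfl⟩
        exact hn.conj_mem w hw g
      rw [← h2]
      exact ⟨y, hy, rfl⟩
    have h3 : M = (X.map (QuotientGroup.mk' H)).comap (QuotientGroup.mk' H) := by
      rw [← hMmap, Subgroup.comap_map_eq, QuotientGroup.ker_mk', sup_eq_left.mpr le_sup_left]
    rw [h3]
    exact h1.comap _
  have hMcard : Nat.card M = Nat.card H * r := by
    rw [← CfsgLib.FgCQ.card_map_mk_of_le (N := H) (H := M) le_sup_left, hMmap]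
    congr 1
    rw [CfsgLib.FgCQ.card_map_mk_of_inf, hXc]
    rw [eq_bot_iff]
    intro y hy
    have h4 := Subgroup.mem_inf.mp hy
    rw [Subgroup.mem_bot, ← orderOf_eq_one_iff]
    refine Nat.eq_one_of_dvd_coprimes ((Nat.Prime.coprime_iff_not_dvd hr).mpr hrH).symm ?_ ?_
    · rw [← Subgroup.orderOf_mk y h4.2]; exact orderOf_dvd_natCard _
    · have h5 : Nat.card X = r := hXc
      rw [← h5, ← Subgroup.orderOf_mk y h4.1]; exact orderOf_dvd_natCard _
  have hfac : (Nat.card M).factorization r = 1 := by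
    rw [hMcard, Nat.factorization_mul Nat.card_pos.ne' hr.ne_zero, Finsupp.add_apply, Nat.Prime.factorization_self hr,
      Nat.factorization_eq_zero_of_not_dvd hrH]
  have hXM : X ≤ M := le_sup_right
  let P : Sylow r M := Sylow.ofCard (X.subgroupOf M) (by
    rw [Nat.card_congr (Subgroup.subgroupOfEquivOfLe hXM).toEquiv, hXc, hfac, pow_one])
  have hfrat := Sylow.normalizer_sup_eq_top P
  have hPX : (P : Subgroup M).map M.subtype = X := Subgroup.map_subgroupOf_eq_of_le hXM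
  rw [hPX] at hfrat
  have hidx : M.relIndex (Subgroup.normalizer (X : Set G)) = M.index := by
    rw [← Subgroup.relIndex_sup_right, hfrat, Subgroup.relIndex_top_right]
  have hqM : ¬ q ∣ Nat.card M := by
    rw [hMcard]
    intro hh
    rcases hq.dvd_mul.mp hh with h6 | h6
    · exact hqH h6
    · have := (Nat.prime_dvd_prime_iff_eq hq hr).mp h6
      exact hqn1 (by rw [this]; exact hrn)
  have hqN : q ∣ Nat.card (Subgroup.normalizer (X : Set G)) := by
    have h1 : q ∣ Nat.card M * M.index := by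
      rw [Subgroup.card_mul_index, h.card_G]
      exact (hqn.mul_left _).mul_left _
    have h2 := (hq.dvd_mul.mp h1).resolve_left hqM
    rw [← hidx] at h2
    exact h2.trans (Subgroup.relIndex_dvd_card _ _)
  obtain ⟨y, hy⟩ := exists_prime_orderOf_dvd_card' (G := Subgroup.normalizer (X : Set G)) q hqN
  have hyo : orderOf (y : G) = q := by rw [Subgroup.orderOf_coe, hy]
  have hrq : r ≠ q := by rintro rfl; exact hqn1 hrn
  have hrp : p ≠ r := by rintro rfl; exact hpn1 hrn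
  let A : Subgroup G := Subgroup.zpowers (y : G) ⊔ X
  have hYX : Subgroup.zpowers (y : G) ≤ Subgroup.normalizer (X : Set G) := Subgroup.zpowers_le.mpr y.2
  have hYc : Nat.card (Subgroup.zpowers (y : G)) = q := by rw [Nat.card_zpowers, hyo]
  have hAcard : Nat.card A = q * r := by
    have h1 := CfsgLib.Coprime.card_sup_mul_card_inf hYX
    have h2 : Subgroup.zpowers (y : G) ⊓ X = ⊥ := by
      apply Subgroup.inf_eq_bot_of_coprime
      rw [hYc, hXc]
      exact (Nat.coprime_primes hq hr).mpr (Ne.symm hrq)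
    rw [h2, Subgroup.card_bot, mul_one, hYc, hXc] at h1
    exact h1
  -- the Sylow p-subgroup of H
  obtain ⟨V0⟩ := (inferInstance : Nonempty (Sylow p H))
  have hV0n : (V0 : Subgroup H).Normal := by
    have h1 := ((Group.isNilpotent_of_finite_tfae (G := H)).out 0 3).mp h.nilp_H
    exact h1 p hfp V0
  have hV0c : (V0 : Subgroup H).Characteristic := Sylow.characteristic_of_normal V0 hV0n
  let V : Subgroup G := (V0 : Subgroup H).map H.subtype
  have hVn : V.Normal := ConjAct.normal_of_characteristic_of_normal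
  have hVp : IsPGroup p V := V0.isPGroup'.map _
  have hV1 : V ≠ ⊥ := by
    intro hh
    have h1 : (V0 : Subgroup H) = ⊥ := (Subgroup.map_eq_bot_iff_of_injective _ H.subtype_injective).mp hh
    have h2 := V0.card_eq_multiplicity
    rw [h1, Subgroup.card_bot] at h2
    have h3 := hp.factorization_pos_of_dvd Nat.card_pos.ne' hpn
    have h4 := Nat.one_lt_pow h3.ne' hp.one_lt
    omega
  have hfpf : CfsgLib.FPF1.FPF A V := by
    intro a ha ha1
    rw [eq_bot_iff]
    intro v hv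
    rw [Subgroup.mem_inf] at hv
    obtain ⟨hvV, hva⟩ := hv
    rw [Subgroup.mem_centralizer_singleton_iff] at hva
    rw [Subgroup.mem_bot]
    by_contra hv1
    have hpv : p ∣ orderOf v := CfsgLib.FgFpf.dvd_orderOf_of_mem hp hVp hvV hv1
    obtain ⟨s, hs, hsd⟩ := Nat.exists_prime_and_dvd (n := orderOf a) (by rw [Ne, orderOf_eq_one_iff]; exact ha1)
    have hsA : s ∣ q * r := by
      rw [← hAcard]
      refine hsd.trans ?_
      rw [← Subgroup.orderOf_mk a ha]; exact orderOf_dvd_natCard _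
    rcases hs.dvd_mul.mp hsA with h7 | h7
    · have h8 := (Nat.prime_dvd_prime_iff_eq hs hq).mp h7
      subst h8
      obtain ⟨g, hg⟩ := CfsgLib.FgFpf.mul_order hp hs hpq (a := v) (b := a) hva hpv hsd
      exact hne g hg
    · have h8 := (Nat.prime_dvd_prime_iff_eq hs hr).mp h7
      subst h8
      obtain ⟨g, hg⟩ := CfsgLib.FgFpf.mul_order hs hp (Ne.symm hrp) (a := a) (b := v) hva.symm hsd hpv
      exact h.no_pq hs hp hrn hpn1 g hg
  have hcyc := hfpf.isCyclic_of_card_eq_mul (by rw [Subgroup.normalizer_eq_top]; exact le_top) hV1 hq hr hAcard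
  have hcomm : (y : G) * x0 = x0 * (y : G) := by
    have h1 : (y : G) ∈ A := le_sup_left (a := Subgroup.zpowers (y : G)) (b := X) (Subgroup.mem_zpowers _)
    have h2 : x0 ∈ A := le_sup_right (a := Subgroup.zpowers (y : G)) (b := X) (Subgroup.mem_zpowers _)
    exact congrArg Subtype.val (hcyc.isMulCommutative.is_comm.comm (⟨_, h1⟩ : A) ⟨_, h2⟩)
  obtain ⟨g, hg⟩ := CfsgLib.FgFpf.mul_order hr hq hrq (a := x0) (b := (y : G)) hcomm.symm (by rw [hx0o]) (by rw [hyo])
  exact h.no_pq hr hq hrn hqn1 g hg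

end TwoFrob

end CfsgLib.FgTF
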