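import Cfsg.Agent.LibFgElt
import Cfsg.Agent.LibFgSyl
import Cfsg.Agent.LibH6Conj

/-! Groups with two conjugacy class sizes (Itô). -/

open Subgroup
open scoped commutatorElement

namespace CfsgLib.FgTwoSz

universe u
variable {G : Type u} [Group G]

abbrev C (x : G) : Subgroup G := centralizer ({x} : Set G)

theorem mem_C {x y : G} : y ∈ C x ↔ x * y = y * x := by
  rw [mem_centralizer_iff]
  simp

theorem C_symm {x y : G} : y ∈ C x ↔ x ∈ C y := by rw [mem_C, mem_C]; exact eq_comm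

theorem self_mem (x : G) : x ∈ C x := by rw [mem_C]

theorem C_le_of_zpowers {x y : G} (h : x ∈ zpowers y) : C y ≤ C x := by
  intro z hz
  rw [mem_C] at hz ⊢
  exact CfsgLib.FgElt.commute_of_mem_zpowers h hz

theorem C_mul {x a b : G} (ha : x ∈ C a) (hb : x ∈ C b) : x ∈ C (a * b) := by
  rw [mem_C] at *
  rw [mul_assoc, hb, ← mul_assoc, ha, mul_assoc]

theorem center_iff {x : G} : x ∈ center G ↔ C x = ⊤ := by
  rw [mem_center_iff, eq_top_iff]
  constructor
  · intro h y _
    rw [mem_C, h]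
  · intro h y
    exact (mem_C.1 (h (mem_top y))).symm

theorem center_iff_index {x : G} : x ∈ center G ↔ (C x).index = 1 := by
  rw [center_iff, index_eq_one]

theorem center_le_C (x : G) : center G ≤ C x := by
  intro z hz
  rw [mem_C]
  exact (mem_center_iff.1 hz x)

/-- the hypothesis -/
def Two (G : Type u) [Group G] (n : ℕ) : Prop := ∀ x : G, (C x).index = 1 ∨ (C x).index = n

variable {n : ℕ}

theorem Two.index (h : Two G n) {x : G} (hx : x ∉ center G) : (C x).index = n :=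
  (h x).resolve_left (fun h1 => hx (center_iff_index.2 h1))

theorem Two.C_eq [Finite G] (h : Two G n) {x y : G} (hx : x ∉ center G) (hy : y ∉ center G)
    (hle : C x ≤ C y) : C x = C y := by
  apply eq_of_le_of_card_ge hle
  have h1 := card_mul_index (C x)
  have h2 := card_mul_index (C y)
  rw [h.index hx] at h1
  rw [h.index hy, ← h1] at h2
  have hn : 0 < n := by
    rw [← h.index hx]
    exact Nat.pos_of_ne_zero (C x).index_ne_zero_of_finite
  exact (Nat.eq_of_mul_eq_mul_right hn h2).le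

/-- noncentral `p`-elements -/
def NE (p : ℕ) (x : G) : Prop := x ∉ center G ∧ ∃ k, orderOf x = p ^ k

theorem coprime_mul {x k : G} (hk : k ∈ C x) (hco : (orderOf x).Coprime (orderOf k)) :
    x ∈ zpowers (x * k) ∧ k ∈ zpowers (x * k) := by
  have hcomm : Commute x k := mem_C.1 hk
  constructor
  · obtain ⟨m, hm⟩ := exists_pow_eq_self_of_coprime hco.symm
    rw [mem_zpowers_iff]
    refine ⟨(orderOf k * m : ℕ), ?_⟩
    rw [zpow_natCast, pow_mul, hcomm.mul_pow, pow_orderOf_eq_one k, mul_one, hm]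
  · obtain ⟨m, hm⟩ := exists_pow_eq_self_of_coprime hco
    rw [mem_zpowers_iff]
    refine ⟨(orderOf x * m : ℕ), ?_⟩
    rw [zpow_natCast, pow_mul, hcomm.mul_pow, pow_orderOf_eq_one x, one_mul, hm]

theorem not_center_of_le {x y : G} (hx : x ∉ center G) (h : C y ≤ C x) : y ∉ center G := by
  intro hy
  apply hx
  rw [center_iff] at hy ⊢
  rw [hy] at h
  exact top_le_iff.1 h

variable [Finite G]

theorem Two.le_C (h : Two G n) {p : ℕ} {x k : G} (hx : NE p x) (hk : k ∈ C x)
    (hkp : (orderOf k).Coprime p) : C x ≤ C k := by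
  obtain ⟨hx1, j, hj⟩ := hx
  have hco : (orderOf x).Coprime (orderOf k) := by
    rw [hj]; exact Nat.Coprime.pow_left _ hkp.symm
  obtain ⟨h1, h2⟩ := coprime_mul hk hco
  have h3 : x * k ∉ center G := not_center_of_le hx1 (C_le_of_zpowers h1)
  rw [← h.C_eq h3 hx1 (C_le_of_zpowers h1)]
  exact C_le_of_zpowers h2

theorem Two.abel (h : Two G n) {p q : ℕ} (hp : p.Prime) (hq : q.Prime) (hpq : p ≠ q) {x y : G}
    (hx : NE p x) (hy : NE q y) (hxy : y ∈ C x) : C x = C y ∧ ∀ g ∈ C x, C x ≤ C g := by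
  have hyp : (orderOf y).Coprime p := by
    obtain ⟨-, j, hj⟩ := hy
    rw [hj]; exact Nat.Coprime.pow_left _ ((Nat.coprime_primes hq hp).2 hpq.symm)
  have h1 : C x = C y := h.C_eq hx.1 hy.1 (h.le_C hx hxy hyp)
  refine ⟨h1, ?_⟩
  intro g hg
  obtain ⟨a, b, ha, hb, hab, -, ⟨k, hk⟩, hbp⟩ := CfsgLib.FgElt.exists_p_decomp hp g
  have ha' : a ∈ C x := (zpowers_le.2 hg) ha
  have hb' : b ∈ C x := (zpowers_le.2 hg) hb
  have h2 : C x ≤ C b := h.le_C hx hb' hbp
  have h3 : C x ≤ C a := by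
    rw [h1] at ha' ⊢
    apply h.le_C hy ha'
    rw [hk]; exact Nat.Coprime.pow_left _ ((Nat.coprime_primes hp hq).2 hpq)
  rw [← hab]
  exact fun z hz => C_mul (h3 hz) (h2 hz)

/-- If there is a noncentral `p`-element then `p ∣ n`. -/
theorem Two.dvd (h : Two G n) {p : ℕ} (hp : p.Prime) {x : G} (hx : NE p x) : p ∣ n := by
  haveI : Fact p.Prime := ⟨hp⟩
  by_contra hn
  obtain ⟨P⟩ : Nonempty (Sylow p G) := inferInstance
  have h1 : centralizer ((P : Subgroup G) : Set G) = ⊤ := by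
    by_contra hne
    obtain ⟨g, hg⟩ := CfsgLib.H6.exists_not_mem_conj _ hne
    obtain ⟨Q, hQ⟩ := CfsgLib.FgSyl.exists_sylow_le (p := p) (M := C g) (by
      rcases h g with h2 | h2
      · rw [h2]; exact hp.one_lt.ne' ∘ Nat.dvd_one.1
      · rw [h2]; exact hn)
    obtain ⟨c, hc⟩ := MulAction.exists_smul_eq G P Q
    apply hg c
    rw [mem_centralizer_iff]
    intro y hy
    have h3 : c * y * c⁻¹ ∈ (Q : Subgroup G) := by
      rw [← hc]
      exact ⟨y, hy, rfl⟩
    have h4 := mem_C.1 (hQ h3)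
    calc y * (c⁻¹ * g * c) = c⁻¹ * ((c * y * c⁻¹) * g) * c := by group
      _ = c⁻¹ * (g * (c * y * c⁻¹)) * c := by rw [h4]
      _ = c⁻¹ * g * c * y := by group
  obtain ⟨hx1, k, hk⟩ := hx
  have h2 : IsPGroup p (zpowers x) := IsPGroup.of_card (by rw [Nat.card_zpowers, hk])
  obtain ⟨Q, hQ⟩ := h2.exists_le_sylow
  obtain ⟨c, hc⟩ := MulAction.exists_smul_eq G P Q
  have h3 : x ∈ (Q : Subgroup G) := hQ (mem_zpowers x)
  rw [← hc] at h3
  obtain ⟨y, hy, hyx⟩ := h3
  change c * y * c⁻¹ = x at hyx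
  have h4 : ∀ g, g * y = y * g := by
    intro g
    have : g ∈ centralizer ((P : Subgroup G) : Set G) := h1 ▸ mem_top g
    exact (mem_centralizer_iff.1 this y hy).symm
  apply hx1
  rw [mem_center_iff]
  intro g
  have h5 : x = y := by rw [← hyx, h4 c, mul_inv_cancel_right]
  rw [h5, h4]

/-- centre of Sylow subgroups -/
theorem Two.sylow_center (h : Two G n) {p : ℕ} (hp : p.Prime) (P : Sylow p G) {x : G}
    (hxP : x ∈ (P : Subgroup G)) (hx : (P : Subgroup G) ≤ C x) : x ∈ center G := by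
  haveI : Fact p.Prime := ⟨hp⟩
  by_contra hcon
  have h1 : NE p x := by
    refine ⟨hcon, ?_⟩
    obtain ⟨k, hk⟩ := P.isPGroup' ⟨x, hxP⟩
    have : x ^ p ^ k = 1 := congrArg Subtype.val hk
    obtain ⟨j, -, hj⟩ := (Nat.dvd_prime_pow hp).1 (orderOf_dvd_of_pow_eq_one this)
    exact ⟨j, hj⟩
  have h2 := h.dvd hp h1
  rw [← h.index hcon] at h2
  exact CfsgLib.FgSyl.not_dvd_index_of_le P hx h2

/-- the `p`-part of an element of order divisible by `p` modulo the center -/
theorem exists_part {p : ℕ} (hp : p.Prime) {w : G} (hw : w ∉ center G) (hwp : w ^ p ∈ center G) :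
    ∃ a, a ∈ zpowers w ∧ NE p a := by
  obtain ⟨a, b, ha, hb, hab, -, ⟨k, hk⟩, hbp⟩ := CfsgLib.FgElt.exists_p_decomp hp w
  refine ⟨a, ha, ?_, k, hk⟩
  intro haZ
  apply hw
  have h1 : b ^ p ∈ center G := by
    have h2 : b ∈ zpowers w := hb
    obtain ⟨m, rfl⟩ := mem_zpowers_iff.1 h2
    rw [← zpow_natCast, ← zpow_mul, mul_comm, zpow_mul, zpow_natCast]
    exact zpow_mem hwp m
  have h2 : b ∈ center G := by
    obtain ⟨m, hm⟩ := exists_pow_eq_self_of_coprime (n := p) (x := b) hbp.symm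
    rw [← hm]
    exact pow_mem h1 m
  rw [← hab]
  exact mul_mem haZ h2

/-- if `p` divides `|H : Z|`, `H` contains a noncentral `p`-element -/
theorem exists_NE {p : ℕ} (hp : p.Prime) {H : Subgroup G} (hd : p ∣ (center G).relIndex H) :
    ∃ a ∈ H, NE p a := by
  haveI : Fact p.Prime := ⟨hp⟩
  haveI : ((center G).subgroupOf H).Normal := by infer_instance
  obtain ⟨x, hx⟩ := exists_prime_orderOf_dvd_card' (G := H ⧸ (center G).subgroupOf H) p hd
  obtain ⟨w, rfl⟩ := QuotientGroup.mk'_surjective _ x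
  have h1 : (w : G) ∉ center G := by
    intro h
    have h2 : QuotientGroup.mk' ((center G).subgroupOf H) w = 1 := (QuotientGroup.eq_one_iff w).2 h
    rw [h2, orderOf_one] at hx
    exact hp.one_lt.ne hx
  have h2 : (w : G) ^ p ∈ center G := by
    have h3 : QuotientGroup.mk' ((center G).subgroupOf H) (w ^ p) = 1 := by
      rw [map_pow, ← hx, pow_orderOf_eq_one]
    exact (QuotientGroup.eq_one_iff (w ^ p)).1 h3
  obtain ⟨a, ha, ha2⟩ := exists_part hp h1 h2
  exact ⟨a, (zpowers_le.2 w.2) ha, ha2⟩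

theorem dvd_of_NE {p : ℕ} (hp : p.Prime) {H : Subgroup G} {y : G} (hy : NE p y) (hyH : y ∈ H) :
    p ∣ (center G).relIndex H := by
  haveI : ((center G).subgroupOf H).Normal := by infer_instance
  obtain ⟨hy1, k, hk⟩ := hy
  have h1 : orderOf (QuotientGroup.mk' ((center G).subgroupOf H) ⟨y, hyH⟩) ∣ p ^ k := by
    rw [← hk, ← Subgroup.orderOf_mk y hyH]
    exact orderOf_map_dvd _ _
  obtain ⟨j, -, hj⟩ := (Nat.dvd_prime_pow hp).1 h1
  have hj0 : j ≠ 0 := by
    rintro rfl
    rw [pow_zero, orderOf_eq_one_iff] at hj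
    exact hy1 ((QuotientGroup.eq_one_iff (⟨y, hyH⟩ : H)).1 hj)
  have h2 : orderOf (QuotientGroup.mk' ((center G).subgroupOf H) ⟨y, hyH⟩) ∣
      Nat.card (H ⧸ (center G).subgroupOf H) := orderOf_dvd_natCard _
  rw [hj] at h2
  exact (dvd_pow_self p hj0).trans h2

theorem Two.relIndex_eq (h : Two G n) {x y : G} (hx : x ∉ center G) (hy : y ∉ center G) :
    (center G).relIndex (C x) = (center G).relIndex (C y) := by
  have h1 := relIndex_mul_index (center_le_C x)
  have h2 := relIndex_mul_index (center_le_C y)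
  rw [h.index hx] at h1
  rw [h.index hy, ← h1] at h2
  have hn : 0 < n := by
    rw [← h.index hx]
    exact Nat.pos_of_ne_zero (C x).index_ne_zero_of_finite
  exact (Nat.eq_of_mul_eq_mul_right hn h2).symm

/-- centralizers of noncentral elements contain noncentral `q`-elements. -/
theorem Two.exists_in (h : Two G n) {q : ℕ} (hq : q.Prime) {x y : G} (hx : x ∉ center G)
    (hy : NE q y) : ∃ w ∈ C x, NE q w := by
  apply exists_NE hq
  rw [h.relIndex_eq hx hy.1]
  exact dvd_of_NE hq hy (self_mem y)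

/-- every noncentral element has a noncentral primary part -/
theorem exists_prime_part {g : G} (hg : g ∉ center G) :
    ∃ r a, r.Prime ∧ a ∈ zpowers g ∧ NE r a := by
  have h1 : orderOf (QuotientGroup.mk' (center G) g) ≠ 1 := by
    rw [Ne, orderOf_eq_one_iff]
    intro h
    exact hg ((QuotientGroup.eq_one_iff g).1 h)
  obtain ⟨r, hr, hd⟩ := Nat.exists_prime_and_dvd h1
  obtain ⟨m, hm⟩ := hd
  have hpos := orderOf_pos (QuotientGroup.mk' (center G) g)
  have h2 : g ^ m ∉ center G := by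
    intro h
    have h3 : (QuotientGroup.mk' (center G) g) ^ m = 1 := by
      rw [← map_pow]; exact (QuotientGroup.eq_one_iff _).2 h
    have h4 := Nat.le_of_dvd (Nat.pos_of_ne_zero (by rintro rfl; omega)) (orderOf_dvd_of_pow_eq_one h3)
    rw [hm] at h4 hpos
    have := hr.one_lt
    have h5 : 0 < m := Nat.pos_of_ne_zero (by rintro rfl; omega)
    nlinarith
  have h3 : (g ^ m) ^ r ∈ center G := by
    rw [← pow_mul, mul_comm, ← hm]
    apply (QuotientGroup.eq_one_iff _).1
    have : (QuotientGroup.mk' (center G) g) ^ (orderOf (QuotientGroup.mk' (center G) g)) = 1 :=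
      pow_orderOf_eq_one _
    rw [← map_pow] at this
    exact this
  obtain ⟨a, ha, ha2⟩ := exists_part hr h2 h3
  refine ⟨r, a, hr, ?_, ha2⟩
  exact (zpowers_le.2 (pow_mem (mem_zpowers g) m)) ha

/-- all centralizers of noncentral elements are abelian if there are two primes. -/
theorem Two.all_abel (h : Two G n) {p q : ℕ} (hp : p.Prime) (hq : q.Prime) (hpq : p ≠ q) {x y : G}
    (hx : NE p x) (hy : NE q y) {g : G} (hg : g ∉ center G) : ∀ k ∈ C g, C g ≤ C k := by
  obtain ⟨r, a, hr, ha, haN⟩ := exists_prime_part hg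
  have h1 : C g = C a := h.C_eq hg haN.1 (C_le_of_zpowers ha)
  obtain ⟨s, hs, hsr, b, hb⟩ : ∃ s, s.Prime ∧ r ≠ s ∧ ∃ b : G, NE s b := by
    by_cases hrp : r = p
    · exact ⟨q, hq, by rw [hrp]; exact hpq, y, hy⟩
    · exact ⟨p, hp, hrp, x, hx⟩
  obtain ⟨w, hw, hwN⟩ := h.exists_in hs haN.1 hb
  rw [h1]
  exact (h.abel hr hs hsr haN hwN hw).2

theorem dvd_card_of_fiber {T S : Type*} [Finite T] (f : T → S) (k : ℕ)
    (h : ∀ t, Nat.card {t' : T // f t' = f t} = k) : k ∣ Nat.card T := by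
  classical
  haveI : Fintype T := Fintype.ofFinite T
  rw [Nat.card_eq_fintype_card, ← Finset.card_univ, Finset.card_eq_sum_card_image f Finset.univ]
  apply Finset.dvd_sum
  intro b hb
  obtain ⟨t, -, rfl⟩ := Finset.mem_image.1 hb
  rw [← h t, Nat.card_eq_fintype_card, Fintype.card_subtype]

theorem card_noncentral (K : Subgroup G) (hK : center G ≤ K) :
    Nat.card {g : G // g ∈ K ∧ g ∉ center G} = Nat.card (center G) * ((center G).relIndex K) - Nat.card (center G) := by
  have h1 : Nat.card (center G) * (center G).relIndex K = Nat.card K := by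
    have := relIndex_mul_relIndex ⊥ (center G) K bot_le hK
    rwa [relIndex_bot_left, relIndex_bot_left] at this
  rw [h1]
  have h2 : Nat.card {g : G // g ∈ K ∧ g ∉ center G} = ((K : Set G) \ (center G : Set G)).ncard := rfl
  have h3 : Nat.card K = (K : Set G).ncard := rfl
  have h4 : Nat.card (center G) = (center G : Set G).ncard := rfl
  rw [h2, h3, h4, Set.ncard_sdiff (by exact hK)]

/-- the partition of `G/Z` gives `c ≤ n` -/
theorem Two.c_le_n (h : Two G n) (hn : 1 < n) (hab : ∀ g : G, g ∉ center G → ∀ k ∈ C g, C g ≤ C k)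
    {x : G} (hx : x ∉ center G) : (center G).relIndex (C x) ≤ n := by
  set c := (center G).relIndex (C x) with hc
  set z := Nat.card (center G) with hz
  have hz0 : 0 < z := Nat.card_pos
  have h1 : z * c - z ∣ Nat.card {g : G // g ∈ (⊤ : Subgroup G) ∧ g ∉ center G} := by
    apply dvd_card_of_fiber (fun g => C g.1)
    rintro ⟨t, -, ht⟩
    rw [hc, h.relIndex_eq hx ht, ← card_noncentral (C t) (center_le_C t)]
    apply Nat.card_congr
    refine ⟨fun s => ⟨s.1.1, ?_, s.1.2.2⟩, fun s => ⟨⟨s.1, mem_top _, s.2.2⟩, ?_⟩, fun _ => rfl, fun _ => rfl⟩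
    · have h2 : C s.1.1 = C t := s.2
      exact h2.le (self_mem s.1.1)
    · exact (h.C_eq ht s.2.2 (hab t ht _ s.2.1)).symm
  rw [card_noncentral _ le_top, relIndex_top_right] at h1
  have h2 : (center G).index = c * n := by
    rw [← relIndex_mul_index (center_le_C x), h.index hx]
  rw [h2, ← hz] at h1
  have h3 : z * c - z = z * (c - 1) := by rw [Nat.mul_sub, mul_one]
  have h4 : z * (c * n) - z = z * (c * n - 1) := by rw [Nat.mul_sub, mul_one]
  rw [h3, h4] at h1
  have h5 : c - 1 ∣ c * n - 1 := Nat.dvd_of_mul_dvd_mul_left hz0 h1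
  have hc0 : 0 < c := Nat.pos_of_ne_zero ((center G).subgroupOf (C x)).index_ne_zero_of_finite
  have h6 : c * n - 1 = (c - 1) * n + (n - 1) := by
    obtain ⟨c', hc'⟩ : ∃ c', c = c' + 1 := ⟨c - 1, by omega⟩
    obtain ⟨n', hn'⟩ : ∃ n', n = n' + 1 := ⟨n - 1, by omega⟩
    rw [hc', hn']
    have : (c' + 1) * (n' + 1) = c' * (n' + 1) + n' + 1 := by ring
    rw [this]
    simp
  rw [h6] at h5
  have h7 : c - 1 ∣ n - 1 := (Nat.dvd_add_right (Dvd.intro _ rfl)).1 h5
  have := Nat.le_of_dvd (by omega) h7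
  omega

/-- the second center of a group which is a `p`-group modulo its center -/
theorem exists_second {P : Type*} [Group P] [Finite P] {p : ℕ} [Fact p.Prime]
    (hP : IsPGroup p (P ⧸ center P)) {g : P} (hg : g ∉ center P) :
    ∃ x : P, x ∉ center P ∧ ∀ u : P, u * x * u⁻¹ * x⁻¹ ∈ center P := by
  have hnt : Nontrivial (P ⧸ center P) := by
    refine ⟨⟨QuotientGroup.mk' (center P) g, 1, ?_⟩⟩
    intro h
    exact hg ((QuotientGroup.eq_one_iff g).1 h)
  haveI := hP.center_nontrivial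
  obtain ⟨⟨y, hy⟩, hy1⟩ := exists_ne (1 : center (P ⧸ center P))
  obtain ⟨x, rfl⟩ := QuotientGroup.mk'_surjective _ y
  refine ⟨x, ?_, ?_⟩
  · intro h
    apply hy1
    apply Subtype.ext
    exact (QuotientGroup.eq_one_iff x).2 h
  · intro u
    apply (QuotientGroup.eq_one_iff _).1
    have h1 := mem_center_iff.1 hy (QuotientGroup.mk' (center P) u)
    change QuotientGroup.mk' (center P) (u * x * u⁻¹ * x⁻¹) = 1
    rw [map_mul, map_mul, map_mul, h1, map_inv, map_inv]
    group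

theorem sylow_nc (h : Two G n) {p : ℕ} (hp : p.Prime) {x₀ : G} (hx₀ : NE p x₀) (P : Sylow p G) :
    ∃ x ∈ (P : Subgroup G), x ∉ center G ∧ ∀ u ∈ (P : Subgroup G), u * x * u⁻¹ * x⁻¹ ∈ center G := by
  haveI : Fact p.Prime := ⟨hp⟩
  have hcen : ∀ y : (P : Subgroup G), y ∈ center (P : Subgroup G) → (y : G) ∈ center G := by
    intro y hy
    apply h.sylow_center hp P y.2
    intro u hu
    rw [mem_C]
    exact (congrArg Subtype.val (mem_center_iff.1 hy ⟨u, hu⟩)).symm
  obtain ⟨hx1, k, hk⟩ := hx₀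
  have h2 : IsPGroup p (zpowers x₀) := IsPGroup.of_card (by rw [Nat.card_zpowers, hk])
  obtain ⟨Q, hQ⟩ := h2.exists_le_sylow
  obtain ⟨c, hc⟩ := MulAction.exists_smul_eq G P Q
  have h3 : x₀ ∈ (Q : Subgroup G) := hQ (mem_zpowers x₀)
  rw [← hc] at h3
  obtain ⟨y, hy, hyx⟩ := h3
  change c * y * c⁻¹ = x₀ at hyx
  have hyc : (⟨y, hy⟩ : (P : Subgroup G)) ∉ center (P : Subgroup G) := by
    intro h4
    have h5 := hcen _ h4
    apply hx1
    rw [← hyx]
    exact (inferInstance : (center G).Normal).conj_mem _ h5 c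
  obtain ⟨x, hx, hx2⟩ := exists_second (P := (P : Subgroup G)) (P.isPGroup'.to_quotient _) hyc
  refine ⟨x, x.2, ?_, ?_⟩
  · intro h4
    apply hx
    rw [mem_center_iff]
    intro u
    apply Subtype.ext
    exact mem_center_iff.1 h4 u
  · intro u hu
    exact hcen _ (hx2 ⟨u, hu⟩)

/-- the `p`-part of `n` is less than the `q`-part of `c`. -/
theorem Two.part_lt (h : Two G n) {p q : ℕ} (hp : p.Prime) (hq : q.Prime) (hpq : p ≠ q) {x₀ y₀ : G}
    (hx₀ : NE p x₀) (hy₀ : NE q y₀) :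
    p ^ n.factorization p < q ^ ((center G).relIndex (C x₀)).factorization q := by
  haveI : Fact p.Prime := ⟨hp⟩
  haveI : Fact q.Prime := ⟨hq⟩
  obtain ⟨P⟩ : Nonempty (Sylow p G) := inferInstance
  obtain ⟨x, hxP, hxZ, hx2⟩ := sylow_nc h hp hx₀ P
  have hxN : NE p x := by
    refine ⟨hxZ, ?_⟩
    obtain ⟨k, hk⟩ := P.isPGroup' ⟨x, hxP⟩
    have : x ^ p ^ k = 1 := congrArg Subtype.val hk
    obtain ⟨j, -, hj⟩ := (Nat.dvd_prime_pow hp).1 (orderOf_dvd_of_pow_eq_one this)
    exact ⟨j, hj⟩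
  obtain ⟨y, hyC, hyN⟩ := h.exists_in hq hxZ hy₀
  obtain ⟨hCxy, hab⟩ := h.abel hp hq hpq hxN hyN hyC
  set K := C x with hK
  have hKc : ∀ a ∈ K, ∀ b ∈ K, a * b = b * a := fun a ha b hb => mem_C.1 (hab a ha hb)
  rw [h.relIndex_eq hx₀.1 hxZ]
  -- the `q`-part of `K` modulo the centre
  let S : Subgroup G :=
    { carrier := {k | k ∈ K ∧ ∃ j : ℕ, k ^ q ^ j ∈ center G}
      mul_mem' := by
        rintro a b ⟨ha, i, hi⟩ ⟨hb, j, hj⟩
        refine ⟨K.mul_mem ha hb, i + j, ?_⟩
        rw [(show Commute a b from hKc a ha b hb).mul_pow]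
        refine mul_mem ?_ ?_
        · rw [pow_add, pow_mul]; exact pow_mem hi _
        · rw [add_comm, pow_add, pow_mul]; exact pow_mem hj _
      one_mem' := ⟨K.one_mem, 0, by simp [one_mem]⟩
      inv_mem' := by
        rintro a ⟨ha, i, hi⟩
        exact ⟨K.inv_mem ha, i, by rw [inv_pow]; exact inv_mem hi⟩ }
  have hSmem : ∀ k, k ∈ S ↔ k ∈ K ∧ ∃ j : ℕ, k ^ q ^ j ∈ center G := fun _ => Iff.rfl
  have hZS : center G ≤ S := fun z hz => (hSmem z).2 ⟨center_le_C x hz, 0, by simpa using hz⟩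
  have hSK : S ≤ K := fun k hk => ((hSmem k).1 hk).1
  haveI : ((center G).subgroupOf S).Normal := by infer_instance
  have hSq : (center G).relIndex S ≤ q ^ ((center G).relIndex K).factorization q := by
    have h1 : IsPGroup q (S ⧸ (center G).subgroupOf S) := by
      intro s
      obtain ⟨k, rfl⟩ := QuotientGroup.mk'_surjective _ s
      obtain ⟨-, j, hj⟩ := (hSmem k).1 k.2
      refine ⟨j, ?_⟩
      rw [← map_pow]
      exact (QuotientGroup.eq_one_iff (k ^ q ^ j)).2 hj
    obtain ⟨j, hj⟩ := IsPGroup.iff_card.1 h1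
    have h2 : (center G).relIndex S = q ^ j := hj
    have h3 : (center G).relIndex S ∣ (center G).relIndex K :=
      Dvd.intro _ (relIndex_mul_relIndex _ _ _ hZS hSK)
    rw [h2] at h3 ⊢
    exact Nat.pow_le_pow_right hq.pos ((hq.pow_dvd_iff_le_factorization
      (((center G).subgroupOf K).index_ne_zero_of_finite)).1 h3)
  -- conjugates of `y`
  have hconjK : ∀ u ∈ (P : Subgroup G), ∀ k ∈ K, u * k * u⁻¹ ∈ K := by
    intro u hu k hk
    rw [hK, mem_C] at hk ⊢
    have h1 := hx2 u⁻¹ (inv_mem hu)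
    -- `u⁻¹ x u = z x`
    set z := u⁻¹ * x * u⁻¹⁻¹ * x⁻¹ with hz
    have h2 : u⁻¹ * x * u = z * x := by rw [hz]; group
    have h3 : ∀ g, g * z = z * g := mem_center_iff.1 h1
    calc x * (u * k * u⁻¹) = u * ((u⁻¹ * x * u) * k) * u⁻¹ := by group
      _ = u * (z * (x * k)) * u⁻¹ := by rw [h2]; group
      _ = u * (z * (k * x)) * u⁻¹ := by rw [hk]
      _ = u * (k * (z * x)) * u⁻¹ := by rw [← mul_assoc z k, ← h3 k]; group
      _ = u * (k * (u⁻¹ * x * u)) * u⁻¹ := by rw [h2]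
      _ = u * k * u⁻¹ * x := by group
  have hyS : ∀ u ∈ (P : Subgroup G), u * y * u⁻¹ ∈ S := by
    intro u hu
    obtain ⟨-, j, hj⟩ := hyN
    refine (hSmem _).2 ⟨hconjK u hu y hyC, j, ?_⟩
    rw [conj_pow, ← hj, pow_orderOf_eq_one]
    simp [one_mem]
  -- stabilizers
  have hstab : ∀ u ∈ (P : Subgroup G), u * y * u⁻¹ * y⁻¹ ∈ center G → u ∈ K := by
    intro u hu hz
    set z := u * y * u⁻¹ * y⁻¹ with hzdef
    have hc : ∀ g, g * z = z * g := mem_center_iff.1 hz
    have hzy : u * y * u⁻¹ = z * y := by rw [hzdef]; group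
    have h1 : ∀ i : ℕ, u ^ i * y * (u ^ i)⁻¹ = z ^ i * y := by
      intro i
      induction i with
      | zero => simp
      | succ i ih =>
        calc u ^ (i + 1) * y * (u ^ (i + 1))⁻¹ = u * (u ^ i * y * (u ^ i)⁻¹) * u⁻¹ := by
              rw [pow_succ']; group
          _ = u * (z ^ i * y) * u⁻¹ := by rw [ih]
          _ = z ^ i * (u * y * u⁻¹) := by
              have : u * z ^ i = z ^ i * u := (show Commute u z from hc u).pow_right i
              rw [← mul_assoc u, this]; group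
          _ = z ^ (i + 1) * y := by rw [hzy, pow_succ]; group
    obtain ⟨k, hk⟩ := P.isPGroup' ⟨u, hu⟩
    have hk' : u ^ p ^ k = 1 := congrArg Subtype.val hk
    have h2 := h1 (p ^ k)
    rw [hk'] at h2
    simp only [one_mul, inv_one, mul_one] at h2
    have h3 : z ^ p ^ k = 1 := by
      have : z ^ p ^ k * y = 1 * y := by rw [← h2, one_mul]
      exact mul_right_cancel this
    obtain ⟨-, j, hj⟩ := hyN
    have h4 : z ^ q ^ j = 1 := by
      have h5 : (u * y * u⁻¹) ^ q ^ j = 1 := by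
        rw [conj_pow, ← hj, pow_orderOf_eq_one]; simp
      rw [hzy, (show Commute z y from (hc y).symm).mul_pow, ← hj, pow_orderOf_eq_one, mul_one] at h5
      rw [← hj]; exact h5
    have h5 : orderOf z ∣ Nat.gcd (p ^ k) (q ^ j) :=
      Nat.dvd_gcd (orderOf_dvd_of_pow_eq_one h3) (orderOf_dvd_of_pow_eq_one h4)
    rw [Nat.Coprime.pow k j ((Nat.coprime_primes hp hq).2 hpq)] at h5
    have h6 : z = 1 := orderOf_eq_one_iff.1 (Nat.dvd_one.1 h5)
    rw [hCxy, mem_C]
    rw [h6, one_mul, mul_inv_eq_iff_eq_mul] at hzy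
    exact hzy.symm
  -- the injection
  let f : (P : Subgroup G) ⧸ K.subgroupOf (P : Subgroup G) → {s : S ⧸ (center G).subgroupOf S // s ≠ 1} :=
    Quotient.lift (s := QuotientGroup.leftRel _)
      (fun u => ⟨QuotientGroup.mk' ((center G).subgroupOf S) ⟨u * y * (u : G)⁻¹, hyS u u.2⟩, by
        intro h1
        have h2 : (u : G) * y * (u : G)⁻¹ ∈ center G :=
          (QuotientGroup.eq_one_iff (⟨u * y * (u : G)⁻¹, hyS u u.2⟩ : S)).1 h1
        apply hyN.1
        have h3 := (inferInstance : (center G).Normal).conj_mem _ h2 (u : G)⁻¹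
        simpa [mul_assoc] using h3⟩) (by
      intro a b hab'
      have h1 : (a⁻¹ * b : (P : Subgroup G)) ∈ K.subgroupOf (P : Subgroup G) :=
        QuotientGroup.leftRel_apply.1 hab'
      have h2 : ((a : G)⁻¹ * b) ∈ K := h1
      apply Subtype.ext
      change QuotientGroup.mk' ((center G).subgroupOf S) _ = QuotientGroup.mk' ((center G).subgroupOf S) _
      congr 1
      apply Subtype.ext
      change (a : G) * y * (a : G)⁻¹ = (b : G) * y * (b : G)⁻¹
      have h3 := hKc _ h2 _ hyC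
      calc (a : G) * y * (a : G)⁻¹ = a * (y * ((a : G)⁻¹ * b)) * (b : G)⁻¹ := by group
        _ = a * (((a : G)⁻¹ * b) * y) * (b : G)⁻¹ := by rw [h3]
        _ = _ := by group)
  have hf : Function.Injective f := by
    intro a b
    induction a using QuotientGroup.induction_on with
    | H a =>
    induction b using QuotientGroup.induction_on with
    | H b =>
    intro hab'
    have h1 : QuotientGroup.mk' ((center G).subgroupOf S) ⟨a * y * (a : G)⁻¹, hyS a a.2⟩ =
      QuotientGroup.mk' ((center G).subgroupOf S) ⟨b * y * (b : G)⁻¹, hyS b b.2⟩ := congrArg Subtype.val hab'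
    rw [QuotientGroup.eq]
    change ((a : G)⁻¹ * b) ∈ K
    have h2 := QuotientGroup.eq.1 h1
    change ((a : G) * y * (a : G)⁻¹)⁻¹ * ((b : G) * y * (b : G)⁻¹) ∈ center G at h2
    apply hstab _ (mul_mem (inv_mem a.2) b.2)
    -- `a⁻¹ b y b⁻¹ a y⁻¹`
    have h3 := (inferInstance : (center G).Normal).conj_mem _ h2 (y * (a : G)⁻¹)
    have h4 : (y * (a : G)⁻¹) * (((a : G) * y * (a : G)⁻¹)⁻¹ * ((b : G) * y * (b : G)⁻¹)) * (y * (a : G)⁻¹)⁻¹
        = ((a : G)⁻¹ * b) * y * ((a : G)⁻¹ * b)⁻¹ * y⁻¹ := by group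
    rw [h4] at h3
    exact h3
  have hcard : K.relIndex (P : Subgroup G) < (center G).relIndex S := by
    have h1 := Nat.card_le_card_of_injective f hf
    have h2 : Nat.card {s : S ⧸ (center G).subgroupOf S // s ≠ 1} + 1 = Nat.card (S ⧸ (center G).subgroupOf S) := by
      classical
      haveI : Fintype (S ⧸ (center G).subgroupOf S) := Fintype.ofFinite _
      have h3 := Nat.card_eq_fintype_card (α := S ⧸ (center G).subgroupOf S)
      rw [h3, Nat.card_eq_fintype_card, Fintype.card_subtype_compl, Fintype.card_subtype_eq]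
      exact Nat.sub_add_cancel Fintype.card_pos
    have h3 : K.relIndex (P : Subgroup G) = Nat.card ((P : Subgroup G) ⧸ K.subgroupOf (P : Subgroup G)) := rfl
    have h4 : (center G).relIndex S = Nat.card (S ⧸ (center G).subgroupOf S) := rfl
    omega
  have hge : p ^ n.factorization p ≤ K.relIndex (P : Subgroup G) := by
    have h1 : Nat.card (K ⊓ (P : Subgroup G) : Subgroup G) * K.relIndex (P : Subgroup G) = Nat.card (P : Subgroup G) := by
      have := relIndex_mul_relIndex ⊥ (K ⊓ (P : Subgroup G)) (P : Subgroup G) bot_le inf_le_right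
      rwa [relIndex_bot_left, relIndex_bot_left, inf_relIndex_right] at this
    have h2 : Nat.card (P : Subgroup G) = p ^ (Nat.card G).factorization p := P.card_eq_multiplicity
    have h3 : Nat.card K * n = Nat.card G := by rw [← h.index hxZ]; exact card_mul_index K
    have hn0 : n ≠ 0 := by
      rintro rfl
      rw [mul_zero] at h3
      exact (Nat.card_pos (α := G)).ne h3
    have h4 : (Nat.card G).factorization p = (Nat.card K).factorization p + n.factorization p := by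
      rw [← h3, Nat.factorization_mul Nat.card_pos.ne' hn0]; rfl
    have h5 : Nat.card (K ⊓ (P : Subgroup G) : Subgroup G) ≤ p ^ (Nat.card K).factorization p := by
      have h6 : IsPGroup p (K ⊓ (P : Subgroup G) : Subgroup G) := P.isPGroup'.to_le inf_le_right
      obtain ⟨j, hj⟩ := IsPGroup.iff_card.1 h6
      rw [hj]
      apply Nat.pow_le_pow_right hp.pos
      apply (hp.pow_dvd_iff_le_factorization Nat.card_pos.ne').1
      rw [← hj]
      exact card_dvd_of_le inf_le_left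
    rw [h2, h4, pow_add] at h1
    have h7 : p ^ (Nat.card K).factorization p * p ^ n.factorization p ≤
        p ^ (Nat.card K).factorization p * K.relIndex (P : Subgroup G) := by
      rw [← h1]
      exact Nat.mul_le_mul_right _ h5
    exact Nat.le_of_mul_le_mul_left h7 (Nat.pos_of_ne_zero (pow_ne_zero _ hp.ne_zero))
  calc p ^ n.factorization p ≤ K.relIndex (P : Subgroup G) := hge
    _ < (center G).relIndex S := hcard
    _ ≤ _ := hSq

theorem prod_factorization {n : ℕ} (hn : n ≠ 0) (S : Finset ℕ) (hS : ∀ p, p.Prime → p ∣ n → p ∈ S) :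
    n = ∏ p ∈ S, p ^ n.factorization p := by
  conv_lhs => rw [← Nat.prod_factorization_pow_eq_self hn]
  apply Finsupp.prod_of_support_subset
  · intro p hp
    rw [Nat.support_factorization, Nat.mem_primeFactors] at hp
    exact hS p hp.1 hp.2.1
  · intro i _
    exact pow_zero i

theorem numerics {n c : ℕ} (hn : 0 < n) (hc : 0 < c) (hle : c ≤ n) (S : Finset ℕ)
    (hS : ∀ p, p.Prime → p ∣ n ∨ p ∣ c → p ∈ S) (hSp : ∀ p ∈ S, p.Prime)
    (hlt : ∀ p ∈ S, ∀ q ∈ S, p ≠ q → p ^ n.factorization p < q ^ c.factorization q) :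
    ∀ p ∈ S, ∀ q ∈ S, p = q := by
  intro p₁ hp₁ q₁ hq₁
  by_contra hne
  obtain ⟨p₀, hp₀, hmin⟩ := Finset.exists_min_image S (fun p => p ^ c.factorization p) ⟨p₁, hp₁⟩
  obtain ⟨q₀, hq₀, hq₀ne⟩ : ∃ q ∈ S, q ≠ p₀ := by
    by_cases h : p₁ = p₀
    · exact ⟨q₁, hq₁, by rw [← h]; exact fun h' => hne h'.symm⟩
    · exact ⟨p₁, hp₁, h⟩
  have h1 := prod_factorization hn.ne' S (fun p hp h => hS p hp (Or.inl h))
  have h2 := prod_factorization hc.ne' S (fun p hp h => hS p hp (Or.inr h))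
  rw [← Finset.mul_prod_erase S _ hp₀, ← Finset.mul_prod_erase (S.erase p₀) _
    (Finset.mem_erase.2 ⟨hq₀ne, hq₀⟩)] at h1 h2
  have h3 : ∏ p ∈ (S.erase p₀).erase q₀, p ^ n.factorization p ≤
      ∏ p ∈ (S.erase p₀).erase q₀, p ^ c.factorization p := by
    apply Finset.prod_le_prod'
    intro p hp
    have hp' := Finset.mem_erase.1 (Finset.mem_erase.1 hp).2
    exact (hlt p hp'.2 p₀ hp₀ hp'.1).le.trans (hmin p hp'.2)
  have h4 := hlt p₀ hp₀ q₀ hq₀ hq₀ne.symm
  have h5 := hlt q₀ hq₀ p₀ hp₀ hq₀ne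
  have h6 : 0 < ∏ p ∈ (S.erase p₀).erase q₀, p ^ c.factorization p := by
    apply Finset.prod_pos
    intro p hp
    have hp' := Finset.mem_erase.1 (Finset.mem_erase.1 hp).2
    exact Nat.pos_of_ne_zero (pow_ne_zero _ (hSp p hp'.2).ne_zero)
  have h7 : (p₀ ^ n.factorization p₀) * (q₀ ^ n.factorization q₀) <
      (q₀ ^ c.factorization q₀) * (p₀ ^ c.factorization p₀) :=
    Nat.mul_lt_mul_of_lt_of_lt h4 h5
  have h8 : n < c := by
    calc n = (p₀ ^ n.factorization p₀) * (q₀ ^ n.factorization q₀) *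
          ∏ p ∈ (S.erase p₀).erase q₀, p ^ n.factorization p := by rw [mul_assoc]; exact h1
      _ ≤ (p₀ ^ n.factorization p₀) * (q₀ ^ n.factorization q₀) *
          ∏ p ∈ (S.erase p₀).erase q₀, p ^ c.factorization p := Nat.mul_le_mul_left _ h3
      _ < (q₀ ^ c.factorization q₀) * (p₀ ^ c.factorization p₀) *
          ∏ p ∈ (S.erase p₀).erase q₀, p ^ c.factorization p := Nat.mul_lt_mul_of_pos_right h7 h6
      _ = c := by rw [mul_comm (q₀ ^ _) (p₀ ^ _), mul_assoc]; exact h2.symm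
  omega

/-- only one prime -/
theorem Two.one_prime (h : Two G n) (hn : 1 < n) {p q : ℕ} (hp : p.Prime) (hq : q.Prime)
    {x y : G} (hx : NE p x) (hy : NE q y) : p = q := by
  by_contra hpq
  have hab : ∀ g : G, g ∉ center G → ∀ k ∈ C g, C g ≤ C k := fun g hg => h.all_abel hp hq hpq hx hy hg
  set c := (center G).relIndex (C x) with hc
  have hle : c ≤ n := h.c_le_n hn hab hx.1
  have hc0 : 0 < c := Nat.pos_of_ne_zero ((center G).subgroupOf (C x)).index_ne_zero_of_finite
  have hidx : (center G).index = c * n := by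
    rw [← relIndex_mul_index (center_le_C x), h.index hx.1]
  have hNE : ∀ r : ℕ, r.Prime → r ∣ n ∨ r ∣ c → ∃ g : G, NE r g := by
    intro r hr hd
    have h1 : r ∣ (center G).relIndex (⊤ : Subgroup G) := by
      rw [relIndex_top_right, hidx]
      rcases hd with hd | hd
      · exact hd.mul_left _
      · exact hd.mul_right _
    obtain ⟨a, -, ha⟩ := exists_NE hr h1
    exact ⟨a, ha⟩
  have hdvd : ∀ r : ℕ, r.Prime → (∃ g : G, NE r g) → r ∣ n := fun r hr ⟨g, hg⟩ => h.dvd hr hg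
  refine hpq (numerics (by omega) hc0 hle n.primeFactors ?_ ?_ ?_ p ?_ q ?_)
  · intro r hr hd
    rw [Nat.mem_primeFactors]
    exact ⟨hr, hdvd r hr (hNE r hr hd), by omega⟩
  · intro r hr
    exact (Nat.mem_primeFactors.1 hr).1
  · intro r hr s hs hrs
    obtain ⟨hr1, hr2, -⟩ := Nat.mem_primeFactors.1 hr
    obtain ⟨hs1, hs2, -⟩ := Nat.mem_primeFactors.1 hs
    obtain ⟨g, hg⟩ := hNE r hr1 (Or.inl hr2)
    obtain ⟨k, hk⟩ := hNE s hs1 (Or.inl hs2)
    have := h.part_lt hr1 hs1 hrs hg hk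
    rwa [h.relIndex_eq hg.1 hx.1] at this
  · rw [Nat.mem_primeFactors]; exact ⟨hp, h.dvd hp hx, by omega⟩
  · rw [Nat.mem_primeFactors]; exact ⟨hq, h.dvd hq hy, by omega⟩

/-- commutators with a central commutator -/
theorem conj_pow_eq {g k : G} (hz : g * k * g⁻¹ * k⁻¹ ∈ center G) (m : ℕ) :
    ∃ z ∈ center G, g * k ^ m * g⁻¹ = z * k ^ m := by
  induction m with
  | zero => exact ⟨1, one_mem _, by simp⟩
  | succ m ih =>
    obtain ⟨z, hz1, hz2⟩ := ih
    refine ⟨z * (g * k * g⁻¹ * k⁻¹), mul_mem hz1 hz, ?_⟩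
    have h1 : ∀ u, u * (g * k * g⁻¹ * k⁻¹) = (g * k * g⁻¹ * k⁻¹) * u := mem_center_iff.1 hz
    calc g * k ^ (m + 1) * g⁻¹ = (g * k ^ m * g⁻¹) * (g * k * g⁻¹) := by rw [pow_succ]; group
      _ = z * (k ^ m * (g * k * g⁻¹ * k⁻¹)) * k := by rw [hz2]; group
      _ = z * (g * k * g⁻¹ * k⁻¹) * k ^ (m + 1) := by rw [h1, pow_succ]; group

theorem mul_pow_mod {g k : G} (hz : g * k * g⁻¹ * k⁻¹ ∈ center G) (m : ℕ) :
    ∃ z ∈ center G, (g * k) ^ m = z * (g ^ m * k ^ m) := by
  induction m with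
  | zero => exact ⟨1, one_mem _, by simp⟩
  | succ m ih =>
    obtain ⟨z, hz1, hz2⟩ := ih
    obtain ⟨w, hw1, hw2⟩ := conj_pow_eq hz m
    have h1 : ∀ u, u * w⁻¹ = w⁻¹ * u := mem_center_iff.1 (inv_mem hw1)
    refine ⟨z * w⁻¹, mul_mem hz1 (inv_mem hw1), ?_⟩
    have h2 : k ^ m * g = w⁻¹ * (g * k ^ m) := by
      have : g * k ^ m = w * (k ^ m * g) := by
        rw [← mul_assoc, ← hw2]; group
      rw [this]; group
    calc (g * k) ^ (m + 1) = z * (g ^ m * (k ^ m * g) * k) := by rw [pow_succ, hz2]; group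
      _ = z * ((g ^ m * w⁻¹) * (g * k ^ m) * k) := by rw [h2]; group
      _ = z * w⁻¹ * (g ^ (m + 1) * k ^ (m + 1)) := by rw [h1, pow_succ, pow_succ]; group

theorem C_center_mul {z g : G} (hz : z ∈ center G) : C (z * g) = C g := by
  have h1 : ∀ u, u * z = z * u := mem_center_iff.1 hz
  ext k
  rw [mem_C, mem_C]
  constructor
  · intro h
    have h2 : z * (g * k) = z * (k * g) := by
      rw [← mul_assoc, h, ← mul_assoc, h1 k, mul_assoc]
    exact mul_left_cancel h2
  · intro h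
    rw [mul_assoc, h, ← mul_assoc, ← h1 k, mul_assoc]

/-- the key step in `p`-groups -/
theorem Two.key (h : Two G n) {p : ℕ} [Fact p.Prime] (hG : IsPGroup p (G ⧸ center G)) {g : G}
    (hg : g ^ p ∉ center G) {k : G} (hk : g * k * g⁻¹ * k⁻¹ ∈ center G) : C g ≤ C k := by
  have hp : p.Prime := Fact.out
  by_cases hkZ : k ∈ center G
  · rw [center_iff.1 hkZ]; exact le_top
  have hgZ : g ∉ center G := fun h1 => hg (pow_mem h1 p)
  -- reduce `k` to order `p` modulo the centre
  obtain ⟨m, hm1, hm2⟩ : ∃ m : ℕ, k ^ m ∉ center G ∧ (k ^ m) ^ p ∈ center G := by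
    have hex : ∃ i : ℕ, k ^ p ^ i ∈ center G := by
      obtain ⟨i, hi⟩ := hG (QuotientGroup.mk k)
      exact ⟨i, (QuotientGroup.eq_one_iff _).1 hi⟩
    classical
    have h1 := Nat.find_spec hex
    have h2 : Nat.find hex ≠ 0 := by
      intro h0
      rw [h0, pow_zero, pow_one] at h1
      exact hkZ h1
    refine ⟨p ^ (Nat.find hex - 1), Nat.find_min hex (by omega), ?_⟩
    rw [← pow_mul, ← pow_succ, Nat.sub_add_cancel (by omega)]
    exact h1
  have hCk : C k = C (k ^ m) := h.C_eq hkZ hm1 (C_le_of_zpowers (pow_mem (mem_zpowers k) m))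
  have hk' : g * k ^ m * g⁻¹ * (k ^ m)⁻¹ ∈ center G := by
    obtain ⟨z, hz1, hz2⟩ := conj_pow_eq hk m
    rw [hz2, mul_inv_cancel_right]
    exact hz1
  obtain ⟨z, hz1, hz2⟩ := mul_pow_mod hk' p
  have h1 : C ((g * k ^ m) ^ p) = C (g ^ p) := by
    have h2 : (g * k ^ m) ^ p = (z * (k ^ m) ^ p) * g ^ p := by
      rw [hz2, mul_assoc]
      congr 1
      exact (mem_center_iff.1 hm2 (g ^ p))
    rw [h2, C_center_mul (mul_mem hz1 hm2)]
  have h3 : (g * k ^ m) ^ p ∉ center G := by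
    rw [center_iff, h1, ← center_iff]; exact hg
  have h4 : g * k ^ m ∉ center G := fun h5 => h3 (pow_mem h5 p)
  have h5 : C (g * k ^ m) = C g := by
    rw [h.C_eq h4 h3 (C_le_of_zpowers (pow_mem (mem_zpowers _) p)), h1]
    exact (h.C_eq hgZ hg (C_le_of_zpowers (pow_mem (mem_zpowers _) p))).symm
  rw [hCk]
  intro u hu
  have h6 : u ∈ C (g * k ^ m) := h5 ▸ hu
  have h7 : u ∈ C g⁻¹ := (C_le_of_zpowers (inv_mem (mem_zpowers g))) hu
  have := C_mul h7 h6
  simpa using this

theorem Two.pgroup_part (h : Two G n) {p : ℕ} [Fact p.Prime] (hG : IsPGroup p (G ⧸ center G))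
    {g₀ : G} (hg₀ : g₀ ∉ center G) :
    ∃ A : Subgroup G, A.Normal ∧ (∀ a ∈ A, ∀ b ∈ A, a * b = b * a) ∧ ∀ y : G, y ^ p ∈ A := by
  by_cases hall : ∀ y : G, y ^ p ∈ center G
  · exact ⟨center G, inferInstance, fun a _ b hb => (mem_center_iff.1 hb a), hall⟩
  push Not at hall
  obtain ⟨g, hg⟩ := hall
  obtain ⟨x, hx, hx2⟩ := exists_second hG hg₀
  have hkey : ∀ y : G, y ^ p ∉ center G → C y = C x := by
    intro y hy
    exact h.C_eq (fun h1 => hy (pow_mem h1 p)) hx (h.key hG hy (hx2 y))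
  refine ⟨C x, ?_, ?_, ?_⟩
  · constructor
    intro k hk u
    rw [mem_C] at hk ⊢
    have h1 := hx2 u⁻¹
    set z := u⁻¹ * x * u⁻¹⁻¹ * x⁻¹ with hz
    have h2 : u⁻¹ * x * u = z * x := by rw [hz]; group
    have h3 : ∀ g, g * z = z * g := mem_center_iff.1 h1
    calc x * (u * k * u⁻¹) = u * ((u⁻¹ * x * u) * k) * u⁻¹ := by group
      _ = u * (z * (x * k)) * u⁻¹ := by rw [h2]; group
      _ = u * (z * (k * x)) * u⁻¹ := by rw [hk]
      _ = u * (k * (z * x)) * u⁻¹ := by rw [← mul_assoc z k, ← h3 k]; group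
      _ = u * (k * (u⁻¹ * x * u)) * u⁻¹ := by rw [h2]
      _ = u * k * u⁻¹ * x := by group
  · intro a ha b hb
    rw [← hkey g hg] at ha hb
    have h1 : C g ≤ C a := by
      apply h.key hG hg
      have : g * a * g⁻¹ * a⁻¹ = 1 := by
        rw [mem_C.1 ha]; group
      rw [this]
      exact one_mem _
    exact mem_C.1 (h1 hb)
  · intro y
    by_cases hy : y ^ p ∈ center G
    · exact center_le_C x hy
    · rw [← hkey y hy]
      exact pow_mem (self_mem y) p

end CfsgLib.FgTwoSz
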