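import Mathlib

/-!
# A Vandermonde argument: dimension of the fixed points of an element permuting commuting
fixed-point-free automorphisms regularly
-/

set_option autoImplicit false
set_option linter.style.haveILetI false
set_option linter.unusedSectionVars false
set_option linter.unusedVariables false

namespace CfsgLib.FgZass

open Matrix Finset

theorem det_smul_aux {R V : Type*} [CommRing R] [AddCommGroup V] [Module R V] {t : ℕ}
    (M : Matrix (Fin t) (Fin t) R) (c : Fin t → V)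
    (h : ∀ i, ∑ j, M i j • c j = 0) (k : Fin t) : M.det • c k = 0 := by
  have h1 : ∑ i, (adjugate M) k i • ∑ j, M i j • c j = 0 := by
    apply Finset.sum_eq_zero
    intro i _
    rw [h i, smul_zero]
  have h2 : ∑ i, (adjugate M) k i • ∑ j, M i j • c j
      = ∑ j, (∑ i, (adjugate M) k i * M i j) • c j := by
    simp_rw [Finset.smul_sum, Finset.sum_smul, mul_smul]
    rw [Finset.sum_comm]
  rw [h2] at h1
  have h3 : ∀ j, (∑ i, (adjugate M) k i * M i j) = (M.det • (1 : Matrix (Fin t) (Fin t) R)) k j := by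
    intro j
    rw [← adjugate_mul, Matrix.mul_apply]
  simp_rw [h3] at h1
  rw [Finset.sum_eq_single k] at h1
  · simpa using h1
  · intro j _ hj
    rw [Matrix.smul_apply, Matrix.one_apply_ne (Ne.symm hj), smul_zero, zero_smul]
  · intro hk
    exact absurd (Finset.mem_univ k) hk

theorem prod_smul_inj {R V ι : Type*} [CommRing R] [AddCommGroup V] [Module R V]
    (s : Finset ι) (f : ι → R) (hf : ∀ i ∈ s, ∀ v : V, f i • v = 0 → v = 0) :
    ∀ v : V, (∏ i ∈ s, f i) • v = 0 → v = 0 := by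
  classical
  induction s using Finset.induction_on with
  | empty => intro v hv; simpa using hv
  | insert i s his ih =>
    intro v hv
    rw [Finset.prod_insert his, mul_smul] at hv
    have h1 := hf i (Finset.mem_insert_self _ _) _ hv
    exact ih (fun j hj => hf j (Finset.mem_insert_of_mem hj)) v h1

theorem vand_R {R V : Type*} [CommRing R] [AddCommGroup V] [Module R V] {t : ℕ} (y : Fin t → R)
    (hy : ∀ i j, i ≠ j → ∀ v : V, (y i - y j) • v = 0 → v = 0) :
    (∀ w : Fin t → V, (∀ j : Fin t, ∑ i, (y i) ^ (j : ℕ) • w i = 0) → w = 0) ∧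
    (∀ c : Fin t → V, (∀ i, ∑ j : Fin t, (y i) ^ (j : ℕ) • c j = 0) → c = 0) := by
  have hdet : ∀ v : V, (vandermonde y).det • v = 0 → v = 0 := by
    rw [det_vandermonde]
    apply prod_smul_inj
    intro i _
    apply prod_smul_inj
    intro j hj
    exact hy j i (ne_of_gt (Finset.mem_Ioi.mp hj))
  constructor
  · intro w hw
    funext k
    apply hdet
    have h1 := det_smul_aux (vandermonde y)ᵀ w (by
      intro j
      simpa [Matrix.transpose_apply, vandermonde_apply] using hw j) k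
    rwa [det_transpose] at h1
  · intro c hc
    funext k
    apply hdet
    apply det_smul_aux
    intro i
    simpa [vandermonde_apply] using hc i

theorem vand_End {V : Type*} [AddCommGroup V] {t : ℕ} (y : Fin t → AddMonoid.End V)
    (hcomm : ∀ i j, y i * y j = y j * y i)
    (hy : ∀ i j, i ≠ j → ∀ v : V, y i v = y j v → v = 0) :
    (∀ w : Fin t → V, (∀ j : Fin t, ∑ i, ((y i) ^ (j : ℕ)) (w i) = 0) → w = 0) ∧
    (∀ c : Fin t → V, (∀ i, ∑ j : Fin t, ((y i) ^ (j : ℕ)) (c j) = 0) → c = 0) := by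
  have hcr : IsMulCommutative (Subring.closure (Set.range y)) := Subring.isMulCommutative_closure (by
    rintro _ ⟨i, rfl⟩ _ ⟨j, rfl⟩
    exact hcomm i j)
  letI cr : CommRing (Subring.closure (Set.range y)) :=
    { (inferInstance : Ring (Subring.closure (Set.range y))) with
      mul_comm := fun a b => hcr.is_comm.comm a b }
  have := vand_R (R := Subring.closure (Set.range y)) (V := V)
    (fun i => ⟨y i, Subring.subset_closure ⟨i, rfl⟩⟩) (by
      intro i j hij v hv
      apply hy i j hij v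
      have h1 : y i v - y j v = 0 := hv
      exact sub_eq_zero.mp h1)
  exact this

theorem card_eq_pow {A V : Type*} [Group A] [AddCommGroup V] [Finite V] (ρ : A →* AddMonoid.End V)
    (x h : A) (t : ℕ) (hpos : 0 < t) (ht : h ^ t = 1)
    (hcomm : ∀ i j : Fin t, (h ^ (i : ℕ) * x * (h ^ (i : ℕ))⁻¹) * (h ^ (j : ℕ) * x * (h ^ (j : ℕ))⁻¹)
      = (h ^ (j : ℕ) * x * (h ^ (j : ℕ))⁻¹) * (h ^ (i : ℕ) * x * (h ^ (i : ℕ))⁻¹))
    (hfree : ∀ i j : Fin t, i ≠ j → ∀ v : V, ρ (h ^ (i : ℕ) * x * (h ^ (i : ℕ))⁻¹) v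
      = ρ (h ^ (j : ℕ) * x * (h ^ (j : ℕ))⁻¹) v → v = 0) :
    Nat.card V = (Nat.card {v : V // ρ h v = v}) ^ t := by
  classical
  have hV := vand_End (fun i : Fin t => ρ (h ^ (i : ℕ) * x * (h ^ (i : ℕ))⁻¹)) (by
    intro i j
    rw [← map_mul, hcomm i j, map_mul]) hfree
  have hmul : ∀ (a b : A) (v : V), ρ (a * b) v = ρ a (ρ b v) := by
    intro a b v
    rw [map_mul]; rfl
  have hone : ∀ v : V, ρ 1 v = v := by
    intro v; rw [map_one]; rfl
  -- y_i ^ j h^i = h^i x ^ j
  have hyij : ∀ (i : Fin t) (j : ℕ) (v : V),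
      ((ρ (h ^ (i : ℕ) * x * (h ^ (i : ℕ))⁻¹)) ^ j) (ρ (h ^ (i : ℕ)) v) = ρ (h ^ (i : ℕ)) (ρ (x ^ j) v) := by
    intro i j v
    rw [← map_pow, ← hmul, ← hmul]
    congr 2
    rw [conj_pow]
    group
  have hcard : Nat.card (Fin t → {v : V // ρ h v = v}) = (Nat.card {v : V // ρ h v = v}) ^ t := by
    rw [Nat.card_fun, Nat.card_eq_fintype_card (α := Fin t), Fintype.card_fin]
  rw [← hcard]
  apply le_antisymm
  · -- v ↦ T (x^j v)
    let T : V → V := fun v => ∑ i : Fin t, ρ (h ^ (i : ℕ)) v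
    have hT : ∀ v, ρ h (T v) = T v := by
      intro v
      show ρ h (∑ i : Fin t, ρ (h ^ (i : ℕ)) v) = ∑ i : Fin t, ρ (h ^ (i : ℕ)) v
      rw [map_sum]
      have h1 : ∀ i : Fin t, ρ h (ρ (h ^ (i : ℕ)) v) = ρ (h ^ ((i : ℕ) + 1)) v := by
        intro i
        rw [← hmul, ← pow_succ']
      simp_rw [h1]
      rw [Fin.sum_univ_eq_sum_range (fun i => ρ (h ^ (i + 1)) v) t,
        Fin.sum_univ_eq_sum_range (fun i => ρ (h ^ i) v) t]
      have h2 := Finset.sum_range_succ (fun i => ρ (h ^ i) v) t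
      have h3 := Finset.sum_range_succ' (fun i => ρ (h ^ i) v) t
      rw [h2] at h3
      simp only [ht, pow_zero] at h3
      exact (add_right_cancel h3).symm
    apply Nat.card_le_card_of_injective (fun v => fun j : Fin t => (⟨T (ρ (x ^ (j : ℕ)) v), hT _⟩ : {v : V // ρ h v = v}))
    intro v w hvw
    have h1 : ∀ j : Fin t, T (ρ (x ^ (j : ℕ)) v) = T (ρ (x ^ (j : ℕ)) w) := by
      intro j
      exact congrArg Subtype.val (congrFun hvw j)
    have h2 := hV.1 (fun i => ρ (h ^ (i : ℕ)) (v - w)) (by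
      intro j
      simp only [hyij]
      have h3 : ∀ i : Fin t, ρ (h ^ (i : ℕ)) (ρ (x ^ (j : ℕ)) (v - w))
          = ρ (h ^ (i : ℕ)) (ρ (x ^ (j : ℕ)) v) - ρ (h ^ (i : ℕ)) (ρ (x ^ (j : ℕ)) w) := by
        intro i
        rw [map_sub, map_sub]
      simp_rw [h3]
      rw [Finset.sum_sub_distrib, sub_eq_zero]
      exact h1 j)
    have h4 := congrFun h2 ⟨0, hpos⟩
    simp only [pow_zero, hone, Pi.zero_apply] at h4
    exact sub_eq_zero.mp h4
  · apply Nat.card_le_card_of_injective (fun c : Fin t → {v : V // ρ h v = v} => ∑ j : Fin t, ρ (x ^ (j : ℕ)) (c j).1)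
    intro c d hcd
    have hfix : ∀ (i : ℕ) (v : V), ρ h v = v → ρ (h ^ i) v = v := by
      intro i v hv
      induction i with
      | zero => rw [pow_zero, hone]
      | succ i ih => rw [pow_succ', hmul, ih, hv]
    have h2 := hV.2 (fun j => (c j).1 - (d j).1) (by
      intro i
      have h3 : ∀ j : Fin t, ((ρ (h ^ (i : ℕ) * x * (h ^ (i : ℕ))⁻¹)) ^ (j : ℕ)) ((c j).1 - (d j).1)
          = ρ (h ^ (i : ℕ)) (ρ (x ^ (j : ℕ)) (c j).1) - ρ (h ^ (i : ℕ)) (ρ (x ^ (j : ℕ)) (d j).1) := by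
        intro j
        rw [map_sub]
        congr 1
        · rw [← hyij, hfix _ _ (c j).2]
        · rw [← hyij, hfix _ _ (d j).2]
      simp_rw [h3]
      rw [Finset.sum_sub_distrib, ← map_sum, ← map_sum, sub_eq_zero]
      exact congrArg _ hcd)
    funext j
    apply Subtype.ext
    have h4 := congrFun h2 j
    exact sub_eq_zero.mp h4

end CfsgLib.FgZass
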