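import Mathlib
import Cfsg.Agent.LibFrob6
import Cfsg.Agent.LibFgZass
import Cfsg.Agent.LibCores

/-!
# Two-transitive groups in which no nonidentity element fixes three points, with a regular normal
subgroup
-/

set_option autoImplicit false
set_option linter.style.haveILetI false
set_option linter.unusedSectionVars false
set_option linter.unusedVariables false

namespace CfsgLib.FgZass

open scoped Pointwise

/-- the Frobenius kernel of the point stabilizer -/
theorem exists_K {G Ω : Type*} [Group G] [Finite G]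
    [MulAction G Ω] [Finite Ω] [FaithfulSMul G Ω] (h2 : MulAction.IsMultiplyPretransitive G Ω 2)
    (h3 : ∀ g : G, ∀ a b c : Ω, a ≠ b → b ≠ c → a ≠ c → g • a = a → g • b = b → g • c = c → g = 1)
    (g : G) (hg : g ≠ 1) (a b : Ω) (hab : a ≠ b) (hga : g • a = a) (hgb : g • b = b) :
    ∃ K : Subgroup (MulAction.stabilizer G a), K.Normal ∧ K ≠ ⊥ ∧
      (∀ x ∈ K, x ≠ 1 → ∀ c : Ω, c ≠ a → x • c ≠ c) ∧
      (∀ x : MulAction.stabilizer G a, x ∉ K → ∃ c : Ω, c ≠ a ∧ x • c = c) ∧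
      ∃ t : ℕ, t.Prime ∧ t ∣ Nat.card (MulAction.stabilizer G a) ∧ ¬ t ∣ Nat.card K := by
  classical
  rw [MulAction.is_two_pretransitive_iff] at h2
  set S := MulAction.stabilizer G a with hS
  let H : Subgroup S := (MulAction.stabilizer G b).subgroupOf S
  have hmemH : ∀ x : S, x ∈ H ↔ (x : G) • b = b := by
    intro x
    exact Iff.rfl
  have htr : ∀ c : Ω, c ≠ a → ∃ s : S, (s : G) • b = c := by
    intro c hc
    obtain ⟨s, hs1, hs2⟩ := h2 hab (Ne.symm hc)
    exact ⟨⟨s, hs1⟩, hs2⟩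
  have hH : ∀ s : S, s ∉ H → H ⊓ (MulAut.conj s • H) = ⊥ := by
    intro s hs
    rw [eq_bot_iff]
    intro x hx
    rw [Subgroup.mem_inf, CfsgLib.Frob6.mem_conj] at hx
    rw [Subgroup.mem_bot]
    apply Subtype.ext
    have hx1 : (x : G) • b = b := (hmemH x).mp hx.1
    have hx2 : (x : G) • ((s : G) • b) = (s : G) • b := by
      have h1 := (hmemH _).mp hx.2
      have h2 : ((s⁻¹ * x * s : S) : G) = (s : G)⁻¹ * x * s := rfl
      rw [h2, mul_smul, mul_smul, inv_smul_eq_iff] at h1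
      exact h1
    have hsa : (s : G) • a = a := s.2
    exact h3 x a b ((s : G) • b) hab (fun e => hs ((hmemH s).mpr e.symm))
      (by
        intro e
        have h1 : (s : G) • a = (s : G) • b := by rw [hsa]; exact e
        exact hab (MulAction.injective _ h1)) x.2 hx1 hx2
  obtain ⟨K, hK1, hK2, hK3⟩ := CfsgLib.Frob6.frobenius_kernel H hH
  have hgH : (⟨g, hga⟩ : S) ∈ H := hgb
  have hHne : Nat.card H ≠ 1 := by
    intro h1
    rw [Subgroup.card_eq_one] at h1
    rw [h1, Subgroup.mem_bot] at hgH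
    exact hg (congrArg Subtype.val hgH)
  have hK4 : Nat.card K = H.index := by
    have h1 := CfsgLib.Frob6.card_kernel H hH
    rw [← hK1] at h1
    exact h1
  have hmod := CfsgLib.Frob6.index_mod H hH
  refine ⟨K, hK2, ?_, ?_, ?_, ?_⟩
  · -- K ≠ ⊥
    rintro rfl
    rw [Subgroup.card_bot] at hK4
    have h1 : H = ⊤ := Subgroup.index_eq_one.mp hK4.symm
    -- then all points are a, b
    apply hg
    apply FaithfulSMul.eq_of_smul_eq_smul (α := Ω)
    intro c
    rw [one_smul]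
    by_cases hc : c = a
    · rw [hc, hga]
    · obtain ⟨s, hs⟩ := htr c hc
      have h4 : s ∈ H := by rw [h1]; trivial
      rw [hmemH, hs] at h4
      rw [h4, hgb]
  · intro x hx hx1 c hc hxc
    have h1 : x ∈ (K : Set S) := hx
    rw [hK1] at h1
    rcases h1 with h1 | h1
    · exact hx1 h1
    · obtain ⟨s, hs⟩ := htr c hc
      apply h1 s
      rw [CfsgLib.Frob6.mem_conj, hmemH]
      show ((s : G)⁻¹ * x * s) • b = b
      rw [mul_smul, mul_smul, hs, inv_smul_eq_iff, hs]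
      exact hxc
  · intro x hx
    have h1 : x ∉ (K : Set S) := hx
    rw [hK1] at h1
    have h4 : ∃ s : S, x ∈ MulAut.conj s • H := by
      by_contra hcon
      push Not at hcon
      exact h1 (Or.inr hcon)
    obtain ⟨s, hs⟩ := h4
    refine ⟨(s : G) • b, ?_, ?_⟩
    · intro e
      have h5 : (s : G) • b = (s : G) • a := by rw [e]; exact s.2.symm
      exact hab (MulAction.injective _ h5).symm
    · rw [CfsgLib.Frob6.mem_conj, hmemH] at hs
      have h2 : ((s⁻¹ * x * s : S) : G) = (s : G)⁻¹ * x * s := rfl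
      rw [h2, mul_smul, mul_smul, inv_smul_eq_iff] at hs
      exact hs
  · obtain ⟨t, ht, htd⟩ := Nat.exists_prime_and_dvd hHne
    refine ⟨t, ht, htd.trans (Subgroup.card_subgroup_dvd_card H), ?_⟩
    rw [hK4]
    intro hcon
    have h1 : H.index ≡ 1 [MOD t] := hmod.of_dvd htd
    have h4 : 1 ≡ 0 [MOD t] := h1.symm.trans ((Nat.modEq_zero_iff_dvd).mpr hcon)
    have h5 : t ∣ 1 := (Nat.modEq_zero_iff_dvd).mp h4
    exact ht.one_lt.ne' (Nat.dvd_one.mp h5)

theorem exists_kx {S : Type*} [Group S] [Finite S] (K : Subgroup S) [K.Normal] (hK : K ≠ ⊥)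
    (t : ℕ) (ht : t.Prime) (htS : t ∣ Nat.card S) (htK : ¬ t ∣ Nat.card K) :
    ∃ k x : S, orderOf k = t ∧ x ∈ K ∧ x ≠ 1 ∧ ∀ i j : ℕ,
      (k ^ i * x * (k ^ i)⁻¹) * (k ^ j * x * (k ^ j)⁻¹)
        = (k ^ j * x * (k ^ j)⁻¹) * (k ^ i * x * (k ^ i)⁻¹) := by
  classical
  have hKc : Nat.card K ≠ 1 := fun e => hK (Subgroup.card_eq_one.mp e)
  obtain ⟨r, hr, hrK⟩ := Nat.exists_prime_and_dvd hKc
  haveI : Fact r.Prime := ⟨hr⟩
  haveI : Fact t.Prime := ⟨ht⟩
  obtain ⟨R⟩ : Nonempty (Sylow r K) := inferInstance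
  have hfr := Sylow.normalizer_sup_eq_top R
  have htn : t ∣ Nat.card (Subgroup.normalizer ((R : Subgroup K).map K.subtype : Set S)) := by
    have h1 : Nat.card S ∣ Nat.card (Subgroup.normalizer ((R : Subgroup K).map K.subtype : Set S)) * Nat.card K := by
      have h4 := CfsgLib.Cores.card_sup_dvd_of_normal (Subgroup.normalizer ((R : Subgroup K).map K.subtype : Set S)) K
      have h5 : Subgroup.normalizer ((R : Subgroup K).map K.subtype : Set S) ⊔ K = ⊤ := hfr
      rw [h5, Subgroup.card_top] at h4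
      exact h4
    exact ((Nat.Prime.dvd_mul ht).mp (htS.trans h1)).resolve_right htK
  obtain ⟨⟨k, hkn⟩, hk⟩ := exists_prime_orderOf_dvd_card' t htn
  have hko : orderOf k = t := by rw [← hk, Subgroup.orderOf_mk]
  -- the center of R
  have hRne : Nontrivial R := by
    rw [← Finite.one_lt_card_iff_nontrivial, R.card_eq_multiplicity]
    exact Nat.one_lt_pow (fun e => by
      have := (hr.dvd_iff_one_le_factorization Nat.card_pos.ne').mp hrK
      omega) hr.one_lt
  have hZ := R.isPGroup'.center_nontrivial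
  obtain ⟨⟨⟨z, hzR⟩, hzc⟩, hz1⟩ := exists_ne (1 : Subgroup.center R)
  have hz1' : (z : S) ≠ 1 := by
    intro e
    apply hz1
    apply Subtype.ext
    apply Subtype.ext
    exact Subtype.ext e
  have hzc' : ∀ y ∈ (R : Subgroup K).map K.subtype, (z : S) * y = y * z := by
    rintro _ ⟨y, hy, rfl⟩
    rw [Subgroup.mem_center_iff] at hzc
    have h1 := hzc ⟨y, hy⟩
    have h2 : y * z = z * y := congrArg Subtype.val h1
    exact (congrArg Subtype.val h2).symm
  have hzm : (z : S) ∈ (R : Subgroup K).map K.subtype := ⟨z, hzR, rfl⟩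
  have hpow : ∀ i : ℕ, k ^ i ∈ Subgroup.normalizer ((R : Subgroup K).map K.subtype : Set S) :=
    fun i => Subgroup.pow_mem _ hkn i
  have hconj : ∀ i : ℕ, k ^ i * z * (k ^ i)⁻¹ ∈ (R : Subgroup K).map K.subtype := by
    intro i
    exact (Subgroup.mem_normalizer_iff.mp (hpow i) _).mp hzm
  refine ⟨k, z, hko, z.2, hz1', ?_⟩
  intro i j
  -- conj back by k^i
  have h1 : (k ^ i)⁻¹ * (k ^ j * z * (k ^ j)⁻¹) * (k ^ i) ∈ (R : Subgroup K).map K.subtype := by
    have h2 := Subgroup.inv_mem _ (hpow i)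
    have h3 := (Subgroup.mem_normalizer_iff.mp h2 _).mp (hconj j)
    simpa using h3
  have h2 := hzc' _ h1
  calc (k ^ i * z * (k ^ i)⁻¹) * (k ^ j * z * (k ^ j)⁻¹)
      = k ^ i * (z * ((k ^ i)⁻¹ * (k ^ j * z * (k ^ j)⁻¹) * (k ^ i))) * (k ^ i)⁻¹ := by group
    _ = k ^ i * (((k ^ i)⁻¹ * (k ^ j * z * (k ^ j)⁻¹) * (k ^ i)) * z) * (k ^ i)⁻¹ := by rw [h2]
    _ = (k ^ j * z * (k ^ j)⁻¹) * (k ^ i * z * (k ^ i)⁻¹) := by group

/-- multiplicative version -/
theorem card_eq_pow_mul {A V : Type*} [Group A] [CommGroup V] [Finite V] (ρ : A →* MulAut V)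
    (x h : A) (t : ℕ) (hpos : 0 < t) (ht : h ^ t = 1)
    (hcomm : ∀ i j : Fin t, (h ^ (i : ℕ) * x * (h ^ (i : ℕ))⁻¹) * (h ^ (j : ℕ) * x * (h ^ (j : ℕ))⁻¹)
      = (h ^ (j : ℕ) * x * (h ^ (j : ℕ))⁻¹) * (h ^ (i : ℕ) * x * (h ^ (i : ℕ))⁻¹))
    (hfree : ∀ i j : Fin t, i ≠ j → ∀ v : V, ρ (h ^ (i : ℕ) * x * (h ^ (i : ℕ))⁻¹) v
      = ρ (h ^ (j : ℕ) * x * (h ^ (j : ℕ))⁻¹) v → v = 1) :
    Nat.card V = (Nat.card {v : V // ρ h v = v}) ^ t := by
  let ρ' : A →* AddMonoid.End (Additive V) :=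
    { toFun := fun u => MonoidHom.toAdditive (ρ u).toMonoidHom
      map_one' := by
        apply AddMonoidHom.ext
        intro v
        show Additive.ofMul (ρ 1 v.toMul) = v
        rw [map_one]; rfl
      map_mul' := by
        intro u w
        apply AddMonoidHom.ext
        intro v
        show Additive.ofMul (ρ (u * w) v.toMul) = Additive.ofMul (ρ u (ρ w v.toMul))
        rw [map_mul]; rfl }
  have := card_eq_pow (V := Additive V) ρ' x h t hpos ht hcomm (by
    intro i j hij v hv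
    exact hfree i j hij v.toMul hv)
  exact this

theorem zass {G Ω : Type*} [Group G]
    [MulAction G Ω] [Fintype Ω] [FaithfulSMul G Ω] (h2 : MulAction.IsMultiplyPretransitive G Ω 2)
    (h3 : ∀ g : G, ∀ a b c : Ω, a ≠ b → b ≠ c → a ≠ c → g • a = a → g • b = b → g • c = c → g = 1)
    (hfix : ∃ g : G, g ≠ 1 ∧ ∃ a b : Ω, a ≠ b ∧ g • a = a ∧ g • b = b)
    (N : Subgroup G) [N.Normal] (hNt : MulAction.IsPretransitive N Ω)
    (hNr : ∀ a : Ω, MulAction.stabilizer N a = ⊥) :
    ∃ p : ℕ, p.Prime ∧ Fintype.card Ω = 2 ^ p := by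
  classical
  have hfin : Finite G := Finite.of_injective (MulAction.toPermHom G Ω) MulAction.toPerm_injective
  obtain ⟨g, hg, a, b0, hab0, hga, hgb0⟩ := hfix
  obtain ⟨K, hKn, hK1, hKfree, hKout, t, ht, htS, htK⟩ := exists_K h2 h3 g hg a b0 hab0 hga hgb0
  obtain ⟨k, x, hko, hxK, hx1, hcomm⟩ := exists_kx K hK1 t ht htS htK
  rw [MulAction.is_two_pretransitive_iff] at h2
  have hkK : k ∉ K := by
    intro hk
    apply htK
    rw [← hko]
    exact Subgroup.orderOf_dvd_natCard K hk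
  obtain ⟨b, hba, hkb⟩ := hKout k hkK
  have hfixk : ∀ u : MulAction.stabilizer G a, u ≠ 1 → (u : G) • b = b → ∀ c, (u : G) • c = c → c = a ∨ c = b := by
    intro u hu hub c hc
    by_contra hcon
    push Not at hcon
    apply hu
    apply Subtype.ext
    exact h3 u a b c (Ne.symm hba) (Ne.symm hcon.2) (Ne.symm hcon.1) u.2 hub hc
  -- N facts
  have hNfree : ∀ v : N, (v : G) • a = a → v = 1 := by
    intro v hv
    have h1 : v ∈ MulAction.stabilizer N a := hv
    rw [hNr a, Subgroup.mem_bot] at h1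
    exact h1
  have hcentr : ∀ (u : MulAction.stabilizer G a) (v : N), (u : G) • ((v : G) • a) = (v : G) • a ↔
      (u : G) * v * (u : G)⁻¹ = v := by
    intro u v
    have hua : (u : G) • a = a := u.2
    have hua' : (u : G)⁻¹ • a = a := by rw [inv_smul_eq_iff, hua]
    have h1 : ((u : G) * v * (u : G)⁻¹) • a = (u : G) • ((v : G) • a) := by
      rw [mul_smul, mul_smul, hua']
    rw [← h1]
    constructor
    · intro h4
      have h5 := hNfree (v⁻¹ * ⟨(u : G) * v * (u : G)⁻¹, ‹N.Normal›.conj_mem v v.2 u⟩) (by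
        show (((v : G))⁻¹ * ((u : G) * v * (u : G)⁻¹)) • a = a
        rw [mul_smul, h4, inv_smul_smul])
      have h6 : v = ⟨(u : G) * v * (u : G)⁻¹, ‹N.Normal›.conj_mem v v.2 u⟩ := by
        rw [inv_mul_eq_one] at h5
        exact h5
      exact (congrArg Subtype.val h6).symm
    · intro h4
      rw [h4]
  obtain ⟨v0, hv0⟩ := hNt.exists_smul_eq a b
  have hv0' : (v0 : G) • a = b := hv0
  have hv01 : v0 ≠ 1 := by
    rintro rfl
    apply hba
    rw [← hv0']
    exact one_smul G a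
  have hk1 : k ≠ 1 := by
    rintro rfl
    exact hkK K.one_mem
  have hkb' : (k : G) • b = b := hkb
  have hkv0 : (k : G) * v0 * (k : G)⁻¹ = v0 := by
    rw [← hcentr k v0, hv0']
    exact hkb'
  have hkv : ∀ v : N, (k : G) * v * (k : G)⁻¹ = v → v = 1 ∨ v = v0 := by
    intro v hv
    rw [← hcentr k v] at hv
    rcases hfixk k hk1 hkb' _ hv with h1 | h1
    · left; exact hNfree v h1
    · right
      have h4 := hNfree (v0⁻¹ * v) (by
        show (((v0 : G))⁻¹ * v) • a = a
        rw [mul_smul, h1, ← hv0', inv_smul_smul])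
      rw [inv_mul_eq_one] at h4
      exact h4.symm
  have hsq0 : v0 * v0 = 1 := by
    have h1 := hkv (v0 * v0) (by
      show (k : G) * ((v0 : G) * v0) * (k : G)⁻¹ = (v0 : G) * v0
      calc (k : G) * ((v0 : G) * v0) * (k : G)⁻¹ = ((k : G) * v0 * (k : G)⁻¹) * ((k : G) * v0 * (k : G)⁻¹) := by group
        _ = (v0 : G) * v0 := by rw [hkv0])
    rcases h1 with h1 | h1
    · exact h1
    · exact absurd (mul_eq_left.mp h1) hv01
  have hsq : ∀ v : N, v * v = 1 := by
    intro v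
    by_cases hv : v = 1
    · rw [hv, mul_one]
    · have hva : (v : G) • a ≠ a := fun e => hv (hNfree v e)
      obtain ⟨s, hs1, hs2⟩ := h2 (Ne.symm hba) (Ne.symm hva)
      have h4 : (⟨s * v0 * s⁻¹, ‹N.Normal›.conj_mem v0 v0.2 s⟩ : N) = v := by
        have h5 := hNfree (v⁻¹ * ⟨s * v0 * s⁻¹, ‹N.Normal›.conj_mem v0 v0.2 s⟩) (by
          show (((v : G))⁻¹ * (s * v0 * s⁻¹)) • a = a
          have h6 : s⁻¹ • a = a := by rw [inv_smul_eq_iff, hs1]
          rw [mul_smul, mul_smul, mul_smul, h6, hv0', hs2, inv_smul_smul])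
        rw [inv_mul_eq_one] at h5
        exact h5.symm
      apply Subtype.ext
      rw [← h4]
      show (s * (v0 : G) * s⁻¹) * (s * (v0 : G) * s⁻¹) = 1
      have h6 : (v0 : G) * v0 = 1 := congrArg Subtype.val hsq0
      calc (s * (v0 : G) * s⁻¹) * (s * (v0 : G) * s⁻¹) = s * ((v0 : G) * v0) * s⁻¹ := by group
        _ = 1 := by rw [h6]; group
  have hNcomm : ∀ v w : N, v * w = w * v := by
    intro v w
    have h1 := hsq (v * w)
    have h4 := hsq v
    have h5 := hsq w
    have h6 : v⁻¹ = v := inv_eq_of_mul_eq_one_left h4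
    have h7 : w⁻¹ = w := inv_eq_of_mul_eq_one_left h5
    have h8 : (v * w)⁻¹ = v * w := inv_eq_of_mul_eq_one_left h1
    rw [mul_inv_rev, h6, h7] at h8
    exact h8.symm
  letI cN : CommGroup N := { (inferInstance : Group N) with mul_comm := hNcomm }
  -- the action on N
  let ρ : MulAction.stabilizer G a →* MulAut N := MulAut.conjNormal.comp (MulAction.stabilizer G a).subtype
  have hρ : ∀ (u : MulAction.stabilizer G a) (v : N), ((ρ u v : N) : G) = (u : G) * v * (u : G)⁻¹ := by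
    intro u v
    exact MulAut.conjNormal_apply (u : G) v
  have hconjne : ∀ i j : Fin t, i ≠ j → k ^ (i : ℕ) * x * (k ^ (i : ℕ))⁻¹ ≠ k ^ (j : ℕ) * x * (k ^ (j : ℕ))⁻¹ := by
    intro i j hij e
    -- u = (k^j)⁻¹ k^i commutes with x
    obtain ⟨u, hu⟩ : ∃ u, u = (k ^ (j : ℕ))⁻¹ * k ^ (i : ℕ) := ⟨_, rfl⟩
    have hu1 : u ≠ 1 := by
      intro h1
      rw [hu, inv_mul_eq_one] at h1
      apply hij
      apply Fin.ext
      have h4 := pow_inj_mod.mp h1
      rw [hko, Nat.mod_eq_of_lt i.2, Nat.mod_eq_of_lt j.2] at h4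
      exact h4.symm
    have hux : u * x = x * u := by
      rw [hu]
      calc (k ^ (j : ℕ))⁻¹ * k ^ (i : ℕ) * x = (k ^ (j : ℕ))⁻¹ * (k ^ (i : ℕ) * x * (k ^ (i : ℕ))⁻¹) * k ^ (i : ℕ) := by group
        _ = (k ^ (j : ℕ))⁻¹ * (k ^ (j : ℕ) * x * (k ^ (j : ℕ))⁻¹) * k ^ (i : ℕ) := by rw [e]
        _ = x * ((k ^ (j : ℕ))⁻¹ * k ^ (i : ℕ)) := by group
    have hkpow : ∀ n : ℕ, (k ^ n) • b = b := by
      intro n
      induction n with
      | zero => rw [pow_zero, one_smul]
      | succ n ih => rw [pow_succ, mul_smul, hkb, ih]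
    have hub : u • b = b := by
      rw [hu, mul_smul, hkpow, inv_smul_eq_iff, hkpow]
    have hxb : x • b ≠ b := hKfree x hxK hx1 b hba
    have h4 : u • (x • b) = x • b := by
      rw [← mul_smul, hux, mul_smul, hub]
    rcases hfixk u hu1 hub (x • b) h4 with h5 | h5
    · apply hba
      have hxa : x • a = a := x.2
      have h6 : x • b = x • a := by rw [h5, hxa]
      exact MulAction.injective x h6
    · exact hxb h5
  have hcardN := card_eq_pow_mul ρ x k t ht.pos (by rw [← hko, pow_orderOf_eq_one]) (fun i j => hcomm i j) (by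
    intro i j hij v hv
    by_contra hv1
    obtain ⟨u, hu⟩ : ∃ u, u = (k ^ (j : ℕ) * x * (k ^ (j : ℕ))⁻¹)⁻¹ * (k ^ (i : ℕ) * x * (k ^ (i : ℕ))⁻¹) := ⟨_, rfl⟩
    have hu1 : u ≠ 1 := by
      intro h1
      rw [hu, inv_mul_eq_one] at h1
      exact hconjne i j hij h1.symm
    have huK : u ∈ K := by
      rw [hu]
      exact K.mul_mem (K.inv_mem (hKn.conj_mem x hxK _)) (hKn.conj_mem x hxK _)
    have h4 : ρ u v = v := by
      rw [hu, map_mul, MulAut.mul_apply, hv, ← MulAut.mul_apply, ← map_mul, inv_mul_cancel, map_one]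
      rfl
    have h5 : (u : G) * v * (u : G)⁻¹ = v := by
      rw [← hρ, h4]
    rw [← hcentr] at h5
    exact hKfree u huK hu1 ((v : G) • a) (fun e => hv1 (hNfree v e)) h5)
  have hcardC : Nat.card {v : N // ρ k v = v} = 2 := by
    rw [Nat.card_eq_two_iff]
    refine ⟨⟨1, by rw [map_one]⟩, ⟨v0, Subtype.ext (by rw [hρ, hkv0])⟩, ?_, ?_⟩
    · intro e
      exact hv01 (congrArg Subtype.val e).symm
    · rw [Set.eq_univ_iff_forall]
      rintro ⟨v, hv⟩
      have h4 : (k : G) * v * (k : G)⁻¹ = v := by rw [← hρ, hv]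
      rcases hkv v h4 with rfl | rfl
      · left; rfl
      · right; rfl
  have hcardΩ : Nat.card N = Fintype.card Ω := by
    rw [← Nat.card_eq_fintype_card]
    apply Nat.card_congr
    apply Equiv.ofBijective (fun v : N => (v : G) • a)
    constructor
    · intro v w hvw
      have h4 := hNfree (w⁻¹ * v) (by
        show (((w : G))⁻¹ * v) • a = a
        have h5 : (v : G) • a = (w : G) • a := hvw
        rw [mul_smul, h5, inv_smul_smul])
      rw [inv_mul_eq_one] at h4
      exact h4.symm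
    · intro c
      obtain ⟨v, hv⟩ := hNt.exists_smul_eq a c
      exact ⟨v, hv⟩
  refine ⟨t, ht, ?_⟩
  rw [← hcardΩ, hcardN, hcardC]

end CfsgLib.FgZass
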