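import Cfsg.Agent.LibFgSub
import Mathlib

/-!
A generalisation of Wielandt's zipper lemma (statement S3947):
if the normal closure of `A < G` is `G`, and `Y` is the join of all proper `H` with `A ≤ H` and
`A^H = H`, then `Y = G` or `A` lies in exactly one maximal subgroup of `G`.
-/

set_option autoImplicit false
set_option linter.style.haveILetI false
set_option linter.unusedSectionVars false

namespace CfsgLib.FgZip

open CfsgLib.FgSub

variable {G : Type*} [Group G]

/-- join of all proper `H ≥ A` with `A^H = H` (expressed with `snc`) -/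
def Yof (A : Subgroup G) : Subgroup G := sSup {H | A ≤ H ∧ H ≠ ⊤ ∧ snc A H = H}

theorem le_Yof {A H : Subgroup G} (h1 : A ≤ H) (h2 : H ≠ ⊤) (h3 : snc A H = H) : H ≤ Yof A :=
  le_sSup ⟨h1, h2, h3⟩

theorem Yof_le {A X : Subgroup G} (h : ∀ H, A ≤ H → H ≠ ⊤ → snc A H = H → H ≤ X) : Yof A ≤ X :=
  sSup_le fun H hH => h H hH.1 hH.2.1 hH.2.2

theorem cj_ne_top {g : G} {H : Subgroup G} (h : H ≠ ⊤) : cj g H ≠ ⊤ := by
  intro h'
  apply h
  rw [← cj_inj (g := g), h', cj_top]

theorem cj_Yof (g : G) (A : Subgroup G) : cj g (Yof A) = Yof (cj g A) := by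
  have key : ∀ (g : G) (A : Subgroup G), Yof (cj g A) ≤ cj g (Yof A) := by
    intro g A
    refine Yof_le fun H h1 h2 h3 => ?_
    rw [le_cj_iff]
    refine le_Yof ?_ (cj_ne_top h2) ?_
    · rw [le_cj_iff]; simpa using h1
    · have := cj_snc g⁻¹ (cj g A) H
      rw [h3, cj_inv_cj] at this
      exact this.symm
  apply le_antisymm _ (key g A)
  have := key g⁻¹ (cj g A)
  rw [cj_inv_cj] at this
  rw [cj_le_iff]
  exact this

theorem self_le_Yof [Finite G] {A : Subgroup G} (h : A ≠ ⊤) : A ≤ Yof A :=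
  le_Yof le_rfl h (le_antisymm (snc_le_right le_rfl) (le_snc _ _))

theorem snc_le_Yof [Finite G] {A H : Subgroup G} (h : A ≤ H) (hH : H ≠ ⊤) : snc A H ≤ Yof A := by
  refine le_Yof (le_snc _ _) ?_ (snc_snc h)
  intro h'
  have := snc_le_right h
  rw [h', top_le_iff] at this
  exact hH this

/-- if `Yof A ≤ X` then `Yof A ≤ snc A X`. -/
theorem Yof_le_snc [Finite G] {A X : Subgroup G} (h : Yof A ≤ X) : Yof A ≤ snc A X := by
  refine Yof_le fun H h1 h2 h3 => ?_
  rw [← h3]
  exact snc_mono h1 ((le_Yof h1 h2 h3).trans h)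

theorem Yof_mono_of_snc [Finite G] {A B : Subgroup G} (hAB : A ≤ B) (hB : snc A B = B) :
    Yof B ≤ Yof A := by
  refine Yof_le fun H h1 h2 h3 => ?_
  refine le_Yof (hAB.trans h1) h2 (le_antisymm (snc_le_right (hAB.trans h1)) ?_)
  conv_lhs => rw [← h3]
  refine snc_le ?_ (snc_sn (hAB.trans h1))
  conv_lhs => rw [← hB]
  exact snc_mono hAB h1

theorem Yof_Yof_le [Finite G] {A : Subgroup G} (hA : A ≠ ⊤) : Yof (Yof A) ≤ Yof A := by
  refine Yof_le fun H h1 h2 h3 => ?_
  have h4 : A ≤ H := (self_le_Yof hA).trans h1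
  refine le_Yof h4 h2 (le_antisymm (snc_le_right h4) ?_)
  conv_lhs => rw [← h3]
  exact snc_le (Yof_le_snc h1) (snc_sn h4)

theorem sup_snc [Finite G] {A B H : Subgroup G} (hA : A ≤ H) (hB : B ≤ H)
    (h : snc (A ⊔ B) H = H) : H = snc A H ⊔ snc B H := by
  apply le_antisymm
  · conv_lhs => rw [← h]
    exact snc_le (sup_le_sup (le_snc _ _) (le_snc _ _)) ((snc_sn hA).sup (snc_sn hB))
  · exact sup_le (snc_le_right hA) (snc_le_right hB)

theorem exists_coatom [Finite G] {H : Subgroup G} (h : H ≠ ⊤) : ∃ M, IsCoatom M ∧ H ≤ M := by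
  rcases eq_top_or_exists_le_coatom H with h' | h'
  · exact absurd h' h
  · exact h'

/-- the data of a counterexample -/
structure Ctx (A M : Subgroup G) : Prop where
  ng : ∀ N : Subgroup G, N.Normal → A ≤ N → N = ⊤
  at' : A ≠ ⊤
  yt : Yof A ≠ ⊤
  cM : IsCoatom M
  yM : Yof A ≤ M
  uM : ∀ L, IsCoatom L → Yof A ≤ L → L = M
  yA : Yof A ≠ A
  ih : ∀ T, A < T → T ≠ ⊤ → Yof T ≠ ⊤ → ∀ L L', IsCoatom L → IsCoatom L' → T ≤ L → T ≤ L' → L = L'

theorem Ctx.cong {A M : Subgroup G} (h : Ctx A M) (g : G) : Ctx (cj g A) (cj g M) where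
  ng N hN hA := h.ng N hN (by
    rw [cj_le_iff] at hA
    haveI := hN
    rwa [cj_of_normal] at hA)
  at' := cj_ne_top h.at'
  yt := by rw [← cj_Yof]; exact cj_ne_top h.yt
  cM := isCoatom_cj h.cM
  yM := by rw [← cj_Yof]; exact cj_mono h.yM
  uM L hL hY := by
    rw [← cj_Yof, cj_le_iff] at hY
    have := h.uM _ (isCoatom_cj hL) hY
    rw [← this]; simp
  yA := by
    rw [← cj_Yof]
    intro h'
    exact h.yA (cj_inj.1 h')
  ih T hT hT' hY L L' hL hL' h1 h2 := by
    have := h.ih (FgSub.cj g⁻¹ T) (by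
      refine lt_of_le_of_ne ?_ ?_
      · rw [← cj_le_iff]; exact hT.le
      · intro h'; exact hT.ne (by rw [h']; simp)) (cj_ne_top hT')
      (by rw [← cj_Yof]; exact cj_ne_top hY) (FgSub.cj g⁻¹ L) (FgSub.cj g⁻¹ L')
      (isCoatom_cj hL) (isCoatom_cj hL') (cj_mono h1) (cj_mono h2)
    exact cj_inj.1 this

/-- `(B,N)` is conjugate to `(A,M)`. -/
def CP (A M B N : Subgroup G) : Prop := ∃ g : G, B = cj g A ∧ N = cj g M

theorem CP.refl (A M : Subgroup G) : CP A M A M := ⟨1, by simp, by simp⟩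

theorem CP.symm {A M B N : Subgroup G} (h : CP A M B N) : CP B N A M := by
  obtain ⟨g, h1, h2⟩ := h
  exact ⟨g⁻¹, by simp [h1], by simp [h2]⟩

theorem CP.trans {A M B N C K : Subgroup G} (h : CP A M B N) (h' : CP B N C K) : CP A M C K := by
  obtain ⟨g, h1, h2⟩ := h
  obtain ⟨k, h3, h4⟩ := h'
  exact ⟨k * g, by rw [h3, h1, cj_cj], by rw [h4, h2, cj_cj]⟩

theorem CP.ctx {A M B N : Subgroup G} (h : CP A M B N) (hc : Ctx A M) : Ctx B N := by
  obtain ⟨g, h1, h2⟩ := h
  rw [h1, h2]; exact hc.cong g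

theorem CP.cong {A M B N : Subgroup G} (h : CP A M B N) (g : G) :
    CP A M (FgSub.cj g B) (FgSub.cj g N) := h.trans ⟨g, rfl, rfl⟩

variable [Finite G] {A M : Subgroup G}

theorem Ctx.le (h : Ctx A M) : A ≤ M := (self_le_Yof h.at').trans h.yM

theorem Ctx.unique (h : Ctx A M) {N : Subgroup G} (h' : CP A M A N) : N = M := by
  have := h'.ctx h
  exact h.uM N this.cM this.yM

theorem Ctx.snc_eq (h : Ctx A M) {L : Subgroup G} (hL : IsCoatom L) (hne : L ≠ M) (hA : A ≤ L) :
    snc A L = A := by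
  by_contra hc
  have h1 : A < snc A L := lt_of_le_of_ne (le_snc _ _) (Ne.symm hc)
  have h2 : snc A L ≤ L := snc_le_right hA
  have h3 : snc A L ≤ Yof A := snc_le_Yof hA hL.1
  have h4 : snc A L ≠ ⊤ := fun h' => hL.1 (top_le_iff.1 (h' ▸ h2))
  have h5 : Yof (snc A L) ≠ ⊤ := by
    intro h'
    have := Yof_mono_of_snc (le_snc A L) (snc_snc hA)
    rw [h', top_le_iff] at this
    exact h.yt this
  exact hne (h.ih _ h1 h4 h5 L M hL h.cM h2 (h3.trans h.yM))

theorem Ctx.sn (h : Ctx A M) {L : Subgroup G} (hL : IsCoatom L) (hne : L ≠ M) (hA : A ≤ L) :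
    SN A L := by
  have := snc_sn hA
  rwa [h.snc_eq hL hne hA] at this

theorem Ctx.snc_eq' (h : Ctx A M) {H : Subgroup G} (hH : H ≠ ⊤) (hne : ¬ H ≤ M) (hA : A ≤ H) :
    snc A H = A := by
  obtain ⟨L, hL, hHL⟩ := exists_coatom hH
  have h1 : L ≠ M := fun h' => hne (h' ▸ hHL)
  apply le_antisymm _ (le_snc _ _)
  rw [← h.snc_eq hL h1 (hA.trans hHL)]
  conv_rhs => rw [h.snc_eq hL h1 (hA.trans hHL)]
  have := snc_mono hA hHL
  rw [h.snc_eq hL h1 (hA.trans hHL)] at this
  rw [h.snc_eq hL h1 (hA.trans hHL)]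
  exact this

theorem Ctx.normalizer_le (h : Ctx A M) : Subgroup.normalizer (A : Set G) ≤ M := by
  have h1 : Subgroup.normalizer (A : Set G) ≤ Subgroup.normalizer (Yof A : Set G) := by
    intro x hx
    rw [mem_normalizer_iff_cj] at hx ⊢
    rw [cj_Yof, hx]
  have h2 : Subgroup.normalizer (Yof A : Set G) ≠ ⊤ := by
    intro h'
    rw [Subgroup.normalizer_eq_top_iff] at h'
    exact h.yt (h.ng _ h' (self_le_Yof h.at'))
  obtain ⟨L, hL, hNL⟩ := exists_coatom h2
  have := h.uM L hL (Subgroup.le_normalizer.trans hNL)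
  rw [← this]
  exact h1.trans hNL

theorem Ctx.pair (h : Ctx A M) {B N : Subgroup G} (hB : CP A M B N) (hne : B ≠ A)
    {L L' : Subgroup G} (hL : IsCoatom L) (hL' : IsCoatom L') (hLL : L ≠ L')
    (h1 : A ≤ L) (h2 : A ≤ L') (h3 : B ≤ L) (h4 : B ≤ L') : M ≠ N ∧ A ≤ N ∧ B ≤ M := by
  have hc := hB.ctx h
  have hcard : Nat.card B = Nat.card A := by
    obtain ⟨g, h5, -⟩ := hB
    rw [h5, card_cj]
  have hlt : A < A ⊔ B := by
    refine lt_of_le_of_ne le_sup_left ?_
    intro h'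
    apply hne
    have : B ≤ A := by rw [h']; exact le_sup_right
    exact Subgroup.eq_of_le_of_card_ge this hcard.ge
  have hTL : A ⊔ B ≤ L := sup_le h1 h3
  have hT : A ⊔ B ≠ ⊤ := fun h' => hL.1 (top_le_iff.1 (h' ▸ hTL))
  have hY : Yof (A ⊔ B) = ⊤ := by
    by_contra h'
    exact hLL (h.ih _ hlt hT h' L L' hL hL' hTL (sup_le h2 h4))
  have key : ∀ H, A ⊔ B ≤ H → H ≠ ⊤ → snc (A ⊔ B) H = H → H = A ⊔ B ∨ H ≤ M ∨ H ≤ N := by
    intro H hH hH' hs
    by_contra hcon
    push Not at hcon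
    obtain ⟨c1, c2, c3⟩ := hcon
    apply c1
    have hA' : A ≤ H := le_sup_left.trans hH
    have hB' : B ≤ H := le_sup_right.trans hH
    have := sup_snc hA' hB' hs
    rw [h.snc_eq' hH' c2 hA', hc.snc_eq' hH' c3 hB'] at this
    exact this
  have hcM : M ≠ ⊤ := h.cM.1
  have hcN : N ≠ ⊤ := hc.cM.1
  have hTM : A ⊔ B ≤ M := by
    by_contra hcon
    by_cases hTN : A ⊔ B ≤ N
    · apply hcN
      rw [← top_le_iff, ← hY]
      refine Yof_le fun H a1 a2 a3 => ?_
      rcases key H a1 a2 a3 with h' | h' | h'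
      · rw [h']; exact hTN
      · exact absurd (a1.trans h') hcon
      · exact h'
    · apply hT
      rw [← top_le_iff, ← hY]
      refine Yof_le fun H a1 a2 a3 => ?_
      rcases key H a1 a2 a3 with h' | h' | h'
      · rw [h']
      · exact absurd (a1.trans h') hcon
      · exact absurd (a1.trans h') hTN
  have hTN : A ⊔ B ≤ N := by
    by_contra hcon
    apply hcM
    rw [← top_le_iff, ← hY]
    refine Yof_le fun H a1 a2 a3 => ?_
    rcases key H a1 a2 a3 with h' | h' | h'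
    · rw [h']; exact hTM
    · exact h'
    · exact absurd (a1.trans h') hcon
  refine ⟨?_, le_sup_left.trans hTN, le_sup_right.trans hTM⟩
  rintro rfl
  apply hcM
  rw [← top_le_iff, ← hY]
  refine Yof_le fun H a1 a2 a3 => ?_
  rcases key H a1 a2 a3 with h' | h' | h'
  · rw [h']; exact hTM
  · exact h'
  · exact h'

/-- existence of an edge -/
theorem Ctx.exists_edge (h : Ctx A M) {L : Subgroup G} (hL : IsCoatom L) (hne : L ≠ M)
    (hA : A ≤ L) : ∃ S N, CP A M S N ∧ S ≠ A ∧ M ≠ N ∧ A ≤ N ∧ S ≤ M := by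
  have h1 := h.sn hL hne hA
  have h2 : ¬ L ≤ Subgroup.normalizer (A : Set G) := by
    intro h'
    have h3 := h'.trans h.normalizer_le
    rcases eq_or_lt_of_le h3 with h4 | h4
    · exact hne h4
    · exact h.cM.1 (hL.2 _ h4)
  obtain ⟨y, hy, h3, h4, h5, h6⟩ := h1.exists_cj h2
  refine ⟨cj y A, cj y M, ⟨y, rfl, rfl⟩, h3, ?_⟩
  exact h.pair ⟨y, rfl, rfl⟩ h3 hL h.cM hne hA h.le h6 (h4.trans h.normalizer_le)

/-- members of the line -/
def Line (A M N B : Subgroup G) : Prop := (∃ K, CP A M B K) ∧ B ≤ M ∧ B ≤ N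

/-- the claim -/
theorem Ctx.claim (h : Ctx A M) {S N : Subgroup G} (hS : CP A M S N) (hne : S ≠ A) (hMN : M ≠ N)
    (hAN : A ≤ N) (hSM : S ≤ M) :
    ∃ B K, CP A M B K ∧ B ≤ M ∧ ¬ B ≤ N ∧
      B ≤ Subgroup.normalizer (sSup {B | Line A M N B} : Subgroup G) := by
  have hcN : Ctx S N := hS.ctx h
  set PA : Subgroup G := sSup {B | Line A M N B ∧ B ≠ A} with hPA
  have hmem : ∀ B, Line A M N B → B ≠ A → B ≤ PA := fun B h1 h2 => le_sSup ⟨h1, h2⟩
  have hPM : PA ≤ M := sSup_le fun B hB => hB.1.2.1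
  have hPN : PA ≤ N := sSup_le fun B hB => hB.1.2.2
  have hadj : ∀ B K, CP A M B K → B ≤ M → B ≤ N → B ≠ A → M ≠ K ∧ A ≤ K ∧ B ≤ M := by
    intro B K h1 h2 h3 h4
    exact h.pair h1 h4 h.cM hcN.cM hMN h.le hAN h2 h3
  have hPsn : SN PA M := by
    refine SN.sSup_of ?_
    rintro B ⟨⟨⟨K, h1⟩, h2, h3⟩, h4⟩
    exact (h1.ctx h).sn h.cM (hadj B K h1 h2 h3 h4).1 h2
  have hAP : ¬ A ≤ PA := by
    intro h1
    have h2 : snc A M ≤ PA := snc_le h1 hPsn
    have h3 : Yof A ≤ N := ((Yof_le_snc h.yM).trans h2).trans hPN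
    exact hMN (h.uM N hcN.cM h3).symm
  have hline : ∀ B K, CP A M B K → B ≤ PA → B ≠ A := by
    intro B K h1 h2 h3
    exact hAP (h3 ▸ h2)
  have hSP : S ≤ PA := hmem S ⟨⟨N, hS⟩, hSM, hcN.le⟩ hne
  have hfix : ∀ n ∈ M, n ∈ Subgroup.normalizer (PA : Set G) → cj n A = A := by
    intro n hn hnP
    rw [mem_normalizer_iff_cj] at hnP
    by_contra hcon
    have hnM : cj n M = M := cj_eq_of_mem hn
    have h1 : cj n S ≤ PA := by
      rw [← hnP]; exact cj_mono hSP
    have h2 : CP A M (cj n S) (cj n N) := hS.cong n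
    have h3 := hadj _ _ h2 (h1.trans hPM) (h1.trans hPN) (hline _ _ h2 h1)
    have h4 : CP A M (cj n A) (cj n M) := ⟨n, rfl, rfl⟩
    have h5 := h.pair h4 hcon h.cM (isCoatom_cj (g := n) hcN.cM) h3.1 h.le h3.2.1
      (by rw [← hnM]; exact cj_mono h.le) (cj_mono hAN)
    exact h5.1 hnM.symm
  have hnn : ¬ M ≤ Subgroup.normalizer (PA : Set G) := by
    intro h1
    have h2 : SN A M := SN.single h.le fun n hn => mem_normalizer_iff_cj.2 (hfix n hn (h1 hn))
    have h3 : snc A M = A := le_antisymm (snc_le le_rfl h2) (le_snc _ _)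
    have h4 := Yof_le_snc h.yM
    rw [h3] at h4
    exact h.yA (le_antisymm h4 (self_le_Yof h.at'))
  obtain ⟨m, hm, h1, h2, h3, h4⟩ := hPsn.exists_cj hnn
  have h5 : ∃ B, (Line A M N B ∧ B ≠ A) ∧ ¬ cj m B ≤ PA := by
    by_contra hcon
    push Not at hcon
    apply h1
    apply eq_of_cj_le
    rw [cj_le_iff]
    refine sSup_le ?_
    intro B hB
    rw [← cj_le_iff]
    exact hcon B hB
  obtain ⟨B, ⟨⟨⟨K, h6⟩, h7, h8⟩, h9⟩, h10⟩ := h5
  have hBP : B ≤ PA := hmem B ⟨⟨K, h6⟩, h7, h8⟩ h9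
  have hmM : cj m M = M := cj_eq_of_mem hm
  have h11 : cj m B ≤ M := by rw [← hmM]; exact cj_mono h7
  have h12 : cj m B ≠ A := by
    intro h'
    have h13 := h6.cong m
    rw [h'] at h13
    have h14 := h.unique h13
    have h15 : K = M := by
      rw [← hmM] at h14
      exact cj_inj.1 h14
    exact (hadj B K h6 h7 h8 h9).1 h15.symm
  have h13 : cj m B ≤ Subgroup.normalizer (PA : Set G) := (cj_mono hBP).trans h2
  refine ⟨cj m B, cj m K, h6.cong m, h11, ?_, ?_⟩
  · intro h'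
    exact h10 (hmem _ ⟨⟨_, h6.cong m⟩, h11, h'⟩ h12)
  · have h14 : (sSup {B | Line A M N B} : Subgroup G) = A ⊔ PA := by
      apply le_antisymm
      · refine sSup_le fun C hC => ?_
        by_cases hCA : C = A
        · rw [hCA]; exact le_sup_left
        · exact (hmem C hC hCA).trans le_sup_right
      · refine sup_le (le_sSup ⟨⟨M, CP.refl A M⟩, h.le, hAN⟩) ?_
        exact sSup_le fun C hC => le_sSup hC.1
    rw [h14]
    refine le_trans ?_ (Subgroup.normalizer_inf_normalizer_le_normalizer_sup _ _)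
    refine le_inf ?_ h13
    intro x hx
    exact mem_normalizer_iff_cj.2 (hfix x (h11 hx) (h13 hx))

theorem Ctx.false_of (h : Ctx A M) {L : Subgroup G} (hL : IsCoatom L) (hne : L ≠ M)
    (hA : A ≤ L) : False := by
  obtain ⟨S, N, hS, hSA, hMN, hAN, hSM⟩ := h.exists_edge hL hne hA
  have hc : Ctx S N := hS.ctx h
  obtain ⟨B, K, hB, hBM, hBN, hBP⟩ := h.claim hS hSA hMN hAN hSM
  obtain ⟨B', K', hB', hBN', hBM', hBP'⟩ := hc.claim hS.symm hSA.symm hMN.symm hSM hAN
  have hset : {B | Line S N M B} = {B | Line A M N B} := by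
    ext C
    constructor
    · rintro ⟨⟨K, h1⟩, h2, h3⟩
      exact ⟨⟨K, hS.trans h1⟩, h3, h2⟩
    · rintro ⟨⟨K, h1⟩, h2, h3⟩
      exact ⟨⟨K, hS.symm.trans h1⟩, h3, h2⟩
  rw [hset] at hBP'
  set P : Subgroup G := sSup {B | Line A M N B} with hP
  have hAP : A ≤ P := le_sSup ⟨⟨M, CP.refl A M⟩, h.le, hAN⟩
  have hSP : S ≤ P := le_sSup ⟨⟨N, hS⟩, hSM, hc.le⟩
  have hPM : P ≤ M := sSup_le fun B hB => hB.2.1
  have hPt : P ≠ ⊤ := fun h' => h.cM.1 (top_le_iff.1 (h' ▸ hPM))
  have hNt : Subgroup.normalizer (P : Set G) ≠ ⊤ := by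
    intro h'
    rw [Subgroup.normalizer_eq_top_iff] at h'
    exact hPt (h.ng P h' hAP)
  obtain ⟨R, hR, hNR⟩ := exists_coatom hNt
  have hPR : P ≤ R := Subgroup.le_normalizer.trans hNR
  by_cases hRM : R = M
  · -- then R ≠ N; use B'
    have hRN : R ≠ N := fun h' => hMN (hRM ▸ h')
    have hBA : B' ≠ A := fun h' => hBM' (h' ▸ h.le)
    have := h.pair (hS.trans hB') hBA hR hc.cM hRN (hAP.trans hPR) hAN (hBP'.trans hNR) hBN'
    exact hBM' this.2.2
  · have hBS : B ≠ S := fun h' => hBN (h' ▸ hc.le)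
    have := hc.pair (hS.symm.trans hB) hBS hR h.cM hRM (hSP.trans hPR) hSM (hBP.trans hNR) hBM
    exact hBN this.2.2

/-- Main theorem. -/
theorem unique_coatom (A : Subgroup G) (hA : A ≠ ⊤)
    (ng : ∀ N : Subgroup G, N.Normal → A ≤ N → N = ⊤) (hY : Yof A ≠ ⊤) :
    ∀ L L' : Subgroup G, IsCoatom L → IsCoatom L' → A ≤ L → A ≤ L' → L = L' := by
  revert hA ng hY
  induction A using WellFoundedGT.induction with
  | ind A ih =>
    intro hA ng hY
    have ih' : ∀ T, A < T → T ≠ ⊤ → Yof T ≠ ⊤ → ∀ L L', IsCoatom L → IsCoatom L' →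
        T ≤ L → T ≤ L' → L = L' := by
      intro T hT hT' hYT
      exact ih T hT hT' (fun N hN hTN => ng N hN (hT.le.trans hTN)) hYT
    by_cases hYA : Yof A = A
    · -- zipper lemma case
      have hsn : ∀ H, A ≤ H → H ≠ ⊤ → snc A H = A := by
        intro H h1 h2
        apply le_antisymm _ (le_snc _ _)
        conv_rhs => rw [← hYA]
        exact snc_le_Yof h1 h2
      have hN : Subgroup.normalizer (A : Set G) ≠ ⊤ := by
        intro h'
        rw [Subgroup.normalizer_eq_top_iff] at h'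
        exact hA (ng A h' le_rfl)
      obtain ⟨M, hM, hNM⟩ := exists_coatom hN
      have key : ∀ L, IsCoatom L → A ≤ L → L = M := by
        intro L hL hAL
        by_cases hLN : L ≤ Subgroup.normalizer (A : Set G)
        · have h3 := hLN.trans hNM
          rcases eq_or_lt_of_le h3 with h4 | h4
          · exact h4
          · exact absurd (hL.2 _ h4) hM.1
        · have h1 : SN A L := by
            have := snc_sn hAL
            rwa [hsn L hAL hL.1] at this
          obtain ⟨y, hy, h3, h4, h5, h6⟩ := h1.exists_cj hLN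
          have hlt : A < A ⊔ cj y A := by
            refine lt_of_le_of_ne le_sup_left ?_
            intro h'
            apply h3
            apply eq_of_cj_le
            conv_rhs => rw [h']
            exact le_sup_right
          have hTL : A ⊔ cj y A ≤ L := sup_le hAL h6
          have hTt : A ⊔ cj y A ≠ ⊤ := fun h' => hL.1 (top_le_iff.1 (h' ▸ hTL))
          refine ih' _ hlt hTt ?_ L M hL hM hTL (sup_le (Subgroup.le_normalizer.trans hNM) (h4.trans hNM))
          intro h'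
          apply hTt
          rw [← top_le_iff, ← h']
          refine Yof_le fun H a1 a2 a3 => ?_
          have hA' : A ≤ H := le_sup_left.trans a1
          have hB' : cj y A ≤ H := le_sup_right.trans a1
          have h7 := sup_snc hA' hB' a3
          have h8 : snc (cj y A) H = cj y A := by
            have h9 := hsn (cj y⁻¹ H) (by rw [← cj_le_iff]; exact hB') (cj_ne_top a2)
            have h10 := cj_snc y A (cj y⁻¹ H)
            rw [h9, cj_cj_inv] at h10
            exact h10.symm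
          rw [hsn H hA' a2, h8] at h7
          exact h7.le
      intro L L' hL hL' h1 h2
      rw [key L hL h1, key L' hL' h2]
    · -- main case
      have hlt : A < Yof A := lt_of_le_of_ne (self_le_Yof hA) (Ne.symm hYA)
      have hYY : Yof (Yof A) ≠ ⊤ := by
        intro h'
        have := Yof_Yof_le (A := A) hA
        rw [h', top_le_iff] at this
        exact hY this
      obtain ⟨M, hM, hYM⟩ := exists_coatom hY
      have hctx : Ctx A M :=
        { ng := ng, at' := hA, yt := hY, cM := hM, yM := hYM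
          uM := fun L hL hYL => ih' _ hlt hY hYY L M hL hM hYL hYM
          yA := hYA, ih := ih' }
      have key : ∀ L, IsCoatom L → A ≤ L → L = M := by
        intro L hL hAL
        by_contra hne
        exact hctx.false_of hL hne hAL
      intro L L' hL hL' h1 h2
      rw [key L hL h1, key L' hL' h2]

theorem existsUnique_coatom (A : Subgroup G) (hA : A ≠ ⊤)
    (hn : Subgroup.normalClosure (A : Set G) = ⊤) (hY : Yof A ≠ ⊤) :
    ∃! M : Subgroup G, IsCoatom M ∧ A ≤ M := by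
  obtain ⟨M, hM, hAM⟩ := exists_coatom hA
  refine ⟨M, ⟨hM, hAM⟩, ?_⟩
  rintro L ⟨hL, hAL⟩
  refine unique_coatom A hA ?_ hY L M hL hM hAL hAM
  intro N hN hAN
  rw [← top_le_iff, ← hn]
  haveI := hN
  exact Subgroup.normalClosure_le_normal hAN

/-- the join over proper `H` generated by their own conjugates of `A`. -/
theorem Yof_eq (A : Subgroup G) : Yof A = sSup {H : Subgroup G | A ≤ H ∧ H ≠ ⊤ ∧
    Subgroup.normalClosure ((A.subgroupOf H : Subgroup ↥H) : Set ↥H) = ⊤} := by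
  unfold Yof
  congr 1
  ext H
  constructor
  · rintro ⟨h1, h2, h3⟩
    exact ⟨h1, h2, (ncl_eq_iff_normalClosure h1).1 ((snc_eq_self_iff h1).1 h3)⟩
  · rintro ⟨h1, h2, h3⟩
    exact ⟨h1, h2, (snc_eq_self_iff h1).2 ((ncl_eq_iff_normalClosure h1).2 h3)⟩

end CfsgLib.FgZip
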