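import Mathlib

/-! Derangement subgroup of a transitive action (seat helper14). -/

set_option autoImplicit false

namespace CfsgLib.H14Derang

open MulAction

variable {G Ω : Type*} [Group G] [Finite G] [MulAction G Ω] [Finite Ω]

theorem sum_fix [Fintype G] :
    ∑ g : G, Nat.card (fixedBy Ω g) = Nat.card (orbitRel.Quotient G Ω) * Nat.card G := by
  classical
  have : Fintype Ω := Fintype.ofFinite Ω
  have h := MulAction.sum_card_fixedBy_eq_card_orbits_mul_card_group G Ω
  simp only [Nat.card_eq_fintype_card]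
  exact h

open scoped Classical in
theorem sum_fix_sub [Fintype G] (D : Subgroup G) :
    ∑ g ∈ Finset.univ.filter (fun g : G => g ∈ D), Nat.card (fixedBy Ω g) =
      Nat.card (orbitRel.Quotient D Ω) * Nat.card D := by
  have h := sum_fix (G := D) (Ω := Ω)
  rw [← h]
  exact Finset.sum_subtype (Finset.univ.filter (fun g : G => g ∈ D)) (p := fun g => g ∈ D)
    (by simp) (fun g => Nat.card (fixedBy Ω g))

theorem card_orbits_pos [Nonempty Ω] : 0 < Nat.card (orbitRel.Quotient G Ω) := by
  have : Nonempty (orbitRel.Quotient G Ω) := ⟨Quotient.mk'' (Classical.arbitrary Ω)⟩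
  exact Nat.card_pos

theorem card_orbits_of_trans [Nonempty Ω] (h : IsPretransitive G Ω) :
    Nat.card (orbitRel.Quotient G Ω) = 1 := by
  have : Subsingleton (orbitRel.Quotient G Ω) :=
    pretransitive_iff_subsingleton_quotient G Ω |>.mp h
  have : Nonempty (orbitRel.Quotient G Ω) := ⟨Quotient.mk'' (Classical.arbitrary Ω)⟩
  exact Nat.card_unique

theorem trans_of_card_orbits (h : Nat.card (orbitRel.Quotient G Ω) ≤ 1) :
    IsPretransitive G Ω := by
  rw [pretransitive_iff_subsingleton_quotient G Ω]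
  exact Finite.card_le_one_iff_subsingleton.mp h

/-- The subgroup generated by derangements. -/
abbrev D (G Ω : Type*) [Group G] [MulAction G Ω] : Subgroup G :=
  Subgroup.closure {g : G | ∀ ω : Ω, g • ω ≠ ω}

theorem fix_pos_of_not_mem {g : G} (hg : g ∉ D G Ω) : 1 ≤ Nat.card (fixedBy Ω g) := by
  by_contra h
  have h0 : Nat.card (fixedBy Ω g) = 0 := by omega
  apply hg
  apply Subgroup.subset_closure
  intro ω hω
  have : Nonempty (fixedBy Ω g) := ⟨⟨ω, hω⟩⟩
  have := Nat.card_pos (α := fixedBy Ω g)
  omega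

instance D_normal : (D G Ω).Normal := by
  apply Subgroup.Normal.mk
  intro n hn g
  induction hn using Subgroup.closure_induction with
  | mem x hx =>
    apply Subgroup.subset_closure
    intro ω hω
    apply hx (g⁻¹ • ω)
    rw [mul_smul, mul_smul, smul_eq_iff_eq_inv_smul] at hω
    exact hω
  | one => simp
  | mul x y _ _ hx hy =>
    have : g * (x * y) * g⁻¹ = (g * x * g⁻¹) * (g * y * g⁻¹) := by group
    rw [this]; exact Subgroup.mul_mem _ hx hy
  | inv x _ hx =>
    have : g * x⁻¹ * g⁻¹ = (g * x * g⁻¹)⁻¹ := by group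
    rw [this]; exact Subgroup.inv_mem _ hx

theorem main [Nonempty Ω] (ht : IsPretransitive G Ω) :
    IsPretransitive (D G Ω) Ω ∧ ∀ g : G, g ∉ D G Ω → Nat.card (fixedBy Ω g) = 1 := by
  classical
  have : Fintype G := Fintype.ofFinite G
  have h1 := sum_fix (G := G) (Ω := Ω)
  rw [card_orbits_of_trans ht, one_mul] at h1
  have h2 := sum_fix_sub (Ω := Ω) (D G Ω)
  have hsplit := Finset.sum_filter_add_sum_filter_not (Finset.univ : Finset G)
    (fun g => g ∈ D G Ω) (fun g => Nat.card (fixedBy Ω g))
  have hcard := Finset.card_filter_add_card_filter_not (s := (Finset.univ : Finset G))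
    (fun g => g ∈ D G Ω)
  have hDc : (Finset.univ.filter (fun g : G => g ∈ D G Ω)).card = Nat.card (D G Ω) := by
    rw [Nat.card_eq_fintype_card, Fintype.card_subtype]
  have hGc : (Finset.univ : Finset G).card = Nat.card G := by
    rw [Nat.card_eq_fintype_card]; rfl
  have hge : (Finset.univ.filter (fun g : G => g ∉ D G Ω)).card ≤
      ∑ g ∈ Finset.univ.filter (fun g : G => g ∉ D G Ω), Nat.card (fixedBy Ω g) := by
    rw [Finset.card_eq_sum_ones]
    apply Finset.sum_le_sum
    intro g hg
    exact fix_pos_of_not_mem (Finset.mem_filter.mp hg).2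
  rw [h2, h1] at hsplit
  rw [hDc, hGc] at hcard
  have hDpos : 0 < Nat.card (D G Ω) := Nat.card_pos
  have horb : Nat.card (orbitRel.Quotient (D G Ω) Ω) ≤ 1 := by
    by_contra hcon
    have : 2 * Nat.card (D G Ω) ≤ Nat.card (orbitRel.Quotient (D G Ω) Ω) * Nat.card (D G Ω) :=
      Nat.mul_le_mul_right _ (by omega)
    omega
  have htr : IsPretransitive (D G Ω) Ω := trans_of_card_orbits horb
  refine ⟨htr, ?_⟩
  have horb1 := card_orbits_of_trans htr
  rw [horb1, one_mul] at hsplit
  have heq : ∑ g ∈ Finset.univ.filter (fun g : G => g ∉ D G Ω), Nat.card (fixedBy Ω g) =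
      ∑ g ∈ Finset.univ.filter (fun g : G => g ∉ D G Ω), 1 := by
    rw [← Finset.card_eq_sum_ones]; omega
  have hall := (Finset.sum_eq_sum_iff_of_le (s := Finset.univ.filter (fun g : G => g ∉ D G Ω))
    (f := fun _ => 1) (g := fun g => Nat.card (fixedBy Ω g)) (by
      intro g hg
      exact fix_pos_of_not_mem (Finset.mem_filter.mp hg).2)).mp heq.symm
  intro g hg
  exact (hall g (by simpa using hg)).symm

/-- If `k` divides the size of every orbit of `H` in an invariant finite set `S`,
then it divides the size of `S`. -/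
theorem dvd_ncard_of_orbits (H : Type*) [Group H] [MulAction H Ω] (S : Set Ω)
    (hS : ∀ x ∈ S, ∀ h : H, h • x ∈ S) (k : ℕ)
    (hk : ∀ x ∈ S, k ∣ (orbit H x).ncard) : k ∣ S.ncard := by
  classical
  induction hn : S.ncard using Nat.strong_induction_on generalizing S with
  | _ n ih =>
    rcases S.eq_empty_or_nonempty with h0 | ⟨x, hx⟩
    · rw [h0, Set.ncard_empty] at hn
      rw [← hn]; exact dvd_zero k
    · have hsub : orbit H x ⊆ S := by
        rintro y ⟨h, rfl⟩
        exact hS x hx h
      have hlt : (S \ orbit H x).ncard < n := by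
        rw [← hn]
        apply Set.ncard_lt_ncard _ (Set.toFinite _)
        refine ⟨Set.diff_subset, fun hh => ?_⟩
        exact (hh hx).2 (mem_orbit_self x)
      have h1 := ih _ hlt (S \ orbit H x) (by
        rintro y ⟨hy1, hy2⟩ h
        refine ⟨hS y hy1 h, ?_⟩
        rintro ⟨h', hh'⟩
        apply hy2
        refine ⟨h⁻¹ * h', ?_⟩
        simp only [] at hh'
        change (h⁻¹ * h') • x = y
        rw [mul_smul]
        change h' • x = h • y at hh'
        rw [hh', inv_smul_smul]) (fun y hy => hk y hy.1) rfl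
      have h2 := Set.ncard_diff_add_ncard_of_subset hsub (Set.toFinite _)
      rw [hn] at h2
      rw [← h2]
      exact dvd_add h1 (hk x hx)

/-- For `β ≠ α`, the index of the derangement subgroup divides the size of the
orbit of `β` under the stabilizer of `α`. -/
theorem index_dvd_orbit [Nonempty Ω] (ht : IsPretransitive G Ω) (α β : Ω) (hne : β ≠ α) :
    ∃ c : ℕ, (orbit (stabilizer G α) β).ncard = (D G Ω).index * c ∧
      c = ((stabilizer G α ⊓ stabilizer G β).relIndex (stabilizer G α ⊓ D G Ω)) ∧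
      stabilizer G α ⊓ stabilizer G β ≤ stabilizer G α ⊓ D G Ω := by
  classical
  obtain ⟨htr, hfix⟩ := main (G := G) (Ω := Ω) ht
  have hle : stabilizer G α ⊓ stabilizer G β ≤ stabilizer G α ⊓ D G Ω := by
    intro g hg
    refine ⟨hg.1, ?_⟩
    by_contra hgD
    have h1 := hfix g hgD
    rw [Nat.card_eq_one_iff_unique] at h1
    have h2 : (⟨α, hg.1⟩ : fixedBy Ω g) = ⟨β, hg.2⟩ := h1.1.elim _ _
    exact hne (congrArg Subtype.val h2).symm
  refine ⟨_, ?_, rfl, hle⟩
  have h1 : (orbit (stabilizer G α) β).ncard =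
      (stabilizer (stabilizer G α) β).index := by
    rw [← Nat.card_coe_set_eq, Nat.card_congr (orbitEquivQuotientStabilizer (stabilizer G α) β)]
    rfl
  have h2 : stabilizer (stabilizer G α) β = (stabilizer G β).subgroupOf (stabilizer G α) := by
    ext x; rfl
  have h3 : (stabilizer (stabilizer G α) β).index =
      (stabilizer G α ⊓ stabilizer G β).relIndex (stabilizer G α) := by
    rw [h2, Subgroup.relIndex, ← Subgroup.inf_subgroupOf_left, inf_comm]
  have h4 : (stabilizer G α ⊓ D G Ω).relIndex (stabilizer G α) = (D G Ω).index := by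
    have h5 : stabilizer G α ⊔ D G Ω = ⊤ := by
      rw [eq_top_iff]
      intro g _
      obtain ⟨d, hd⟩ := htr.exists_smul_eq (g • α) α
      have h6 : (d : G) * g ∈ stabilizer G α := by
        rw [mem_stabilizer_iff, mul_smul]; exact hd
      have h7 : g = (d : G)⁻¹ * ((d : G) * g) := by group
      rw [h7]
      exact Subgroup.mul_mem _ (Subgroup.mem_sup_right (Subgroup.inv_mem _ d.2))
        (Subgroup.mem_sup_left h6)
    have h6 : (stabilizer G α ⊓ D G Ω).relIndex (stabilizer G α) = (D G Ω).relIndex (stabilizer G α) := by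
      rw [Subgroup.inf_relIndex_left]
    rw [h6]
    rw [← Subgroup.relIndex_sup_right, h5, Subgroup.relIndex_top_right]
  rw [h1, h3, ← h4, mul_comm]
  exact (Subgroup.relIndex_mul_relIndex _ _ _ hle inf_le_left).symm

theorem index_dvd_of_invariant [Nonempty Ω] (ht : IsPretransitive G Ω) (α : Ω) (S : Set Ω)
    (hα : α ∈ S) (hS : ∀ x ∈ S, ∀ h ∈ stabilizer G α, h • x ∈ S) :
    (D G Ω).index ∣ S.ncard - 1 := by
  classical
  have h0 : (S \ {α}).ncard = S.ncard - 1 := Set.ncard_diff_singleton_of_mem hα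
  rw [← h0]
  apply dvd_ncard_of_orbits (stabilizer G α) (S \ {α})
  · rintro x ⟨hx1, hx2⟩ h
    refine ⟨hS x hx1 h h.2, ?_⟩
    intro hc
    apply hx2
    have h1 : (h : G) • x = α := hc
    have h2 : (h : G) • α = α := h.2
    exact smul_left_cancel _ (h1.trans h2.symm)
  · rintro x ⟨_, hx2⟩
    obtain ⟨c, hc, _⟩ := index_dvd_orbit ht α x hx2
    exact ⟨c, hc⟩

theorem index_dvd [Nonempty Ω] (ht : IsPretransitive G Ω) :
    (D G Ω).index ∣ Nat.card Ω - 1 := by
  have := index_dvd_of_invariant ht (Classical.arbitrary Ω) Set.univ (Set.mem_univ _)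
    (fun _ _ _ _ => Set.mem_univ _)
  rwa [Set.ncard_univ] at this

end CfsgLib.H14Derang
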