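import Mathlib
import Cfsg.Agent.LibSolvMin

/-! Structure of non-abelian minimal normal subgroups (seat helper14). -/

set_option autoImplicit false

namespace CfsgLib.H14MinNorm

open CfsgLib.SolvMin Pointwise

variable {G : Type*} [Group G]

/-- `T` is a minimal `N`-invariant non-trivial subgroup of `N`. -/
structure IsFactor (N T : Subgroup G) : Prop where
  le : T ≤ N
  ne : T ≠ ⊥
  inv : ∀ n ∈ N, ∀ t ∈ T, n * t * n⁻¹ ∈ T
  min : ∀ K : Subgroup G, K ≤ T → K ≠ ⊥ → (∀ n ∈ N, ∀ k ∈ K, n * k * n⁻¹ ∈ K) → K = T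

theorem exists_factor [Finite G] (N : Subgroup G) (hN : N ≠ ⊥) : ∃ T, IsFactor N T := by
  have hfin : ({M : Subgroup G | M ≤ N ∧ M ≠ ⊥ ∧ ∀ n ∈ N, ∀ t ∈ M, n * t * n⁻¹ ∈ M}).Finite :=
    Set.toFinite _
  have hne : ({M : Subgroup G | M ≤ N ∧ M ≠ ⊥ ∧ ∀ n ∈ N, ∀ t ∈ M, n * t * n⁻¹ ∈ M}).Nonempty :=
    ⟨N, le_rfl, hN, fun n hn t ht => N.mul_mem (N.mul_mem hn ht) (N.inv_mem hn)⟩
  obtain ⟨M, hM⟩ := hfin.exists_minimal hne
  refine ⟨M, hM.1.1, hM.1.2.1, hM.1.2.2, fun K hK hK1 hK2 => ?_⟩
  exact le_antisymm hK (hM.2 ⟨hK.trans hM.1.1, hK1, hK2⟩ hK)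

theorem mem_conj {T : Subgroup G} {g x : G} : x ∈ MulAut.conj g • T ↔ g⁻¹ * x * g ∈ T := by
  rw [Subgroup.mem_pointwise_smul_iff_inv_smul_mem, ← map_inv]
  simp [MulAut.conj_apply, MulAut.smul_def]

theorem IsFactor.conj {N T : Subgroup G} (hN : N.Normal) (h : IsFactor N T) (g : G) :
    IsFactor N (MulAut.conj g • T) := by
  refine ⟨?_, ?_, ?_, ?_⟩
  · intro x hx
    rw [mem_conj] at hx
    have := hN.conj_mem _ (h.le hx) g
    simpa [mul_assoc] using this
  · intro hc
    apply h.ne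
    rw [eq_bot_iff]
    intro x hx
    have : g * x * g⁻¹ ∈ MulAut.conj g • T := by
      rw [mem_conj]; simpa [mul_assoc] using hx
    rw [hc, Subgroup.mem_bot] at this
    rw [Subgroup.mem_bot]
    have h2 : x = g⁻¹ * (g * x * g⁻¹) * g := by group
    rw [h2, this]; group
  · intro n hn t ht
    rw [mem_conj] at ht ⊢
    have h1 : g⁻¹ * n * g ∈ N := by
      have := hN.conj_mem n hn g⁻¹
      simpa using this
    have := h.inv _ h1 _ ht
    have h2 : g⁻¹ * (n * t * n⁻¹) * g = g⁻¹ * n * g * (g⁻¹ * t * g) * (g⁻¹ * n * g)⁻¹ := by group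
    rw [h2]; exact this
  · intro K hK hK1 hK2
    have h1 : MulAut.conj g⁻¹ • K = T := by
      apply h.min
      · intro x hx
        rw [mem_conj, inv_inv] at hx
        have := hK hx
        rw [mem_conj] at this
        simpa [mul_assoc] using this
      · intro hc
        apply hK1
        rw [eq_bot_iff]
        intro x hx
        have : g⁻¹ * x * g ∈ MulAut.conj g⁻¹ • K := by
          rw [mem_conj]; simpa [mul_assoc] using hx
        rw [hc, Subgroup.mem_bot] at this
        rw [Subgroup.mem_bot]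
        have h2 : x = g * (g⁻¹ * x * g) * g⁻¹ := by group
        rw [h2, this]; group
      · intro n hn k hk
        rw [mem_conj, inv_inv] at hk ⊢
        have h1 : g * n * g⁻¹ ∈ N := hN.conj_mem n hn g
        have := hK2 _ h1 _ hk
        have h2 : g * (n * k * n⁻¹) * g⁻¹ = g * n * g⁻¹ * (g * k * g⁻¹) * (g * n * g⁻¹)⁻¹ := by group
        rw [h2]; exact this
    rw [← h1, smul_smul, ← map_mul, mul_inv_cancel, map_one, one_smul]

theorem IsFactor.disjoint {N T S : Subgroup G} (hT : IsFactor N T) (hS : IsFactor N S)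
    (hne : T ≠ S) : T ⊓ S = ⊥ := by
  by_contra hc
  have h1 : ∀ n ∈ N, ∀ k ∈ T ⊓ S, n * k * n⁻¹ ∈ T ⊓ S := fun n hn k hk =>
    ⟨hT.inv n hn k hk.1, hS.inv n hn k hk.2⟩
  exact hne ((hT.min _ inf_le_left hc h1).symm.trans (hS.min _ inf_le_right hc h1))

theorem IsFactor.commute {N T S : Subgroup G} (hT : IsFactor N T) (hS : IsFactor N S)
    (hne : T ≠ S) : ∀ t ∈ T, ∀ s ∈ S, t * s = s * t := by
  intro t ht s hs
  have h1 : t * s * t⁻¹ * s⁻¹ ∈ T ⊓ S := by
    constructor
    · have := hT.inv s (hS.le hs) _ (T.inv_mem ht)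
      have h2 : t * s * t⁻¹ * s⁻¹ = t * (s * t⁻¹ * s⁻¹) := by group
      rw [h2]
      exact T.mul_mem ht this
    · exact S.mul_mem (hS.inv t (hT.le ht) s hs) (S.inv_mem hs)
  rw [hT.disjoint hS hne, Subgroup.mem_bot, mul_inv_eq_one, mul_inv_eq_iff_eq_mul] at h1
  exact h1

/-- The join of all conjugates of `T` different from `T`. -/
def cofactor (T : Subgroup G) : Subgroup G :=
  ⨆ g : {g : G // MulAut.conj g • T ≠ T}, MulAut.conj (g : G) • T

variable {N T : Subgroup G}

theorem cofactor_le_centralizer (hN : N.Normal) (hT : IsFactor N T) :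
    cofactor T ≤ Subgroup.centralizer (T : Set G) := by
  rw [cofactor, iSup_le_iff]
  rintro ⟨g, hg⟩ x hx
  rw [Subgroup.mem_centralizer_iff]
  intro t ht
  exact hT.commute (hT.conj hN g) (Ne.symm hg) t ht x hx

theorem commute_cofactor (hN : N.Normal) (hT : IsFactor N T) :
    ∀ t ∈ T, ∀ m ∈ cofactor T, t * m = m * t := fun t ht m hm =>
  Subgroup.mem_centralizer_iff.mp (cofactor_le_centralizer hN hT hm) t ht

theorem cofactor_le (hN : N.Normal) (hT : IsFactor N T) : cofactor T ≤ N := by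
  rw [cofactor, iSup_le_iff]
  rintro ⟨g, hg⟩
  exact (hT.conj hN g).le

theorem le_sup_cofactor (hN : IsMinNormal N) (hT : IsFactor N T) : N ≤ T ⊔ cofactor T := by
  set L : Subgroup G := ⨆ g : G, MulAut.conj g • T with hL
  have hLn : L.Normal := by
    refine ⟨fun n hn g => ?_⟩
    rw [hL] at hn
    refine Subgroup.iSup_induction (fun g : G => MulAut.conj g • T)
      (C := fun x => g * x * g⁻¹ ∈ L) hn ?_ ?_ ?_
    · intro h x hx
      apply le_iSup (fun g : G => MulAut.conj g • T) (g * h)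
      rw [mem_conj] at hx ⊢
      have : (g * h)⁻¹ * (g * x * g⁻¹) * (g * h) = h⁻¹ * x * h := by group
      rw [this]; exact hx
    · simp
    · intro x y hx hy
      have : g * (x * y) * g⁻¹ = (g * x * g⁻¹) * (g * y * g⁻¹) := by group
      rw [this]; exact L.mul_mem hx hy
  have hLle : L ≤ N := by
    rw [hL, iSup_le_iff]
    intro g; exact (hT.conj hN.1 g).le
  have hTL : T ≤ L := by
    have := le_iSup (fun g : G => MulAut.conj g • T) 1
    simpa using this
  have hLN : L = N := by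
    rcases hN.2.2 L hLn hLle with h | h
    · exfalso; apply hT.ne
      rw [eq_bot_iff, ← h]; exact hTL
    · exact h
  rw [← hLN, hL, iSup_le_iff]
  intro g
  by_cases hg : MulAut.conj g • T = T
  · rw [hg]; exact le_sup_left
  · exact le_trans (le_iSup (fun g : {g : G // MulAut.conj g • T ≠ T} => MulAut.conj (g : G) • T)
      ⟨g, hg⟩) le_sup_right

theorem exists_mul (hN : IsMinNormal N) (hT : IsFactor N T) :
    ∀ n ∈ N, ∃ t ∈ T, ∃ m ∈ cofactor T, n = t * m := by
  intro n hn
  have h1 : n ∈ Subgroup.closure ((T : Set G) ∪ (cofactor T : Set G)) := by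
    rw [Subgroup.closure_union, Subgroup.closure_eq, Subgroup.closure_eq]
    exact le_sup_cofactor hN hT hn
  induction h1 using Subgroup.closure_induction with
  | mem x hx =>
    rcases hx with hx | hx
    · exact ⟨x, hx, 1, Subgroup.one_mem _, (mul_one x).symm⟩
    · exact ⟨1, Subgroup.one_mem _, x, hx, (one_mul x).symm⟩
  | one => exact ⟨1, Subgroup.one_mem _, 1, Subgroup.one_mem _, (mul_one 1).symm⟩
  | mul x y hx' hy' hx hy =>
    have hxN : x ∈ N := by
      have : Subgroup.closure ((T : Set G) ∪ (cofactor T : Set G)) ≤ N := by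
        rw [Subgroup.closure_union, Subgroup.closure_eq, Subgroup.closure_eq]
        exact sup_le hT.le (cofactor_le hN.1 hT)
      exact this hx'
    have hyN : y ∈ N := by
      have : Subgroup.closure ((T : Set G) ∪ (cofactor T : Set G)) ≤ N := by
        rw [Subgroup.closure_union, Subgroup.closure_eq, Subgroup.closure_eq]
        exact sup_le hT.le (cofactor_le hN.1 hT)
      exact this hy'
    obtain ⟨t, ht, m, hm, rfl⟩ := hx hxN
    obtain ⟨t', ht', m', hm', rfl⟩ := hy hyN
    refine ⟨t * t', T.mul_mem ht ht', m * m', Subgroup.mul_mem _ hm hm', ?_⟩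
    have := commute_cofactor hN.1 hT t' ht' m hm
    rw [mul_assoc, mul_assoc, ← mul_assoc m, ← this]
    group
  | inv x hx' hx =>
    have hxN : x ∈ N := by
      have : Subgroup.closure ((T : Set G) ∪ (cofactor T : Set G)) ≤ N := by
        rw [Subgroup.closure_union, Subgroup.closure_eq, Subgroup.closure_eq]
        exact sup_le hT.le (cofactor_le hN.1 hT)
      exact this hx'
    obtain ⟨t, ht, m, hm, rfl⟩ := hx hxN
    refine ⟨t⁻¹, T.inv_mem ht, m⁻¹, Subgroup.inv_mem _ hm, ?_⟩
    rw [commute_cofactor hN.1 hT t ht m hm]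
    group

/-- if the minimal normal subgroup is not commutative, then neither are its factors. -/
theorem factor_nonabelian (hN : IsMinNormal N) (hna : ¬ IsMulCommutative N)
    (hT : IsFactor N T) : ∃ x ∈ T, ∃ y ∈ T, x * y ≠ y * x := by
  by_contra hc
  push Not at hc
  apply hna
  have := hN.1
  have hcn : (Subgroup.centralizer (N : Set G)).Normal := inferInstance
  have hTc : T ≤ N ⊓ Subgroup.centralizer (N : Set G) := by
    intro t ht
    refine ⟨hT.le ht, Subgroup.mem_centralizer_iff.mpr fun n hn => ?_⟩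
    obtain ⟨s, hs, m, hm, rfl⟩ := exists_mul hN hT n hn
    rw [mul_assoc, ← commute_cofactor hN.1 hT t ht m hm, ← mul_assoc, hc s hs t ht, mul_assoc]
  rcases hN.2.2 (N ⊓ Subgroup.centralizer (N : Set G)) (Subgroup.normal_inf_normal _ _) inf_le_left
    with h | h
  · exfalso; apply hT.ne
    rw [eq_bot_iff, ← h]; exact hTc
  · rw [inf_eq_left] at h
    rwa [Subgroup.le_centralizer_iff_isMulCommutative] at h

theorem factor_simple' (hN : IsMinNormal N) (hT : IsFactor N T) (K : Subgroup G) (hK : K ≤ T)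
    (hK2 : ∀ t ∈ T, ∀ k ∈ K, t * k * t⁻¹ ∈ K) : K = ⊥ ∨ K = T := by
  by_cases h : K = ⊥
  · exact Or.inl h
  · right
    apply hT.min K hK h
    intro n hn k hk
    obtain ⟨t, ht, m, hm, rfl⟩ := exists_mul hN hT n hn
    have h1 := commute_cofactor hN.1 hT k (hK hk) m hm
    have h2 : t * m * k * (t * m)⁻¹ = t * k * t⁻¹ := by
      rw [mul_assoc t m k, ← h1]; group
    rw [h2]
    exact hK2 t ht k hk

theorem factor_simple (hN : IsMinNormal N) (hT : IsFactor N T) : IsSimpleGroup T := by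
  have hnt : Nontrivial T := (Subgroup.nontrivial_iff_ne_bot T).mpr hT.ne
  refine { eq_bot_or_eq_top_of_normal := fun K hK => ?_ }
  rcases factor_simple' hN hT (K.map T.subtype) (Subgroup.map_subtype_le K) (by
    rintro t ht _ ⟨k, hk, rfl⟩
    exact ⟨⟨t, ht⟩ * k * ⟨t, ht⟩⁻¹, hK.conj_mem k hk _, rfl⟩) with h | h
  · left
    exact (Subgroup.map_eq_bot_iff_of_injective K T.subtype_injective).mp h
  · right
    apply Subgroup.map_injective T.subtype_injective
    rw [h, ← MonoidHom.range_eq_map, Subgroup.range_subtype]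

theorem factor_not_comm (hN : IsMinNormal N) (hna : ¬ IsMulCommutative N)
    (hT : IsFactor N T) : ¬ IsMulCommutative T := by
  intro hc
  obtain ⟨x, hx, y, hy, hxy⟩ := factor_nonabelian hN hna hT
  apply hxy
  exact congrArg Subtype.val (hc.is_comm.comm (⟨x, hx⟩ : T) ⟨y, hy⟩)

theorem factor_disjoint (hN : IsMinNormal N) (hna : ¬ IsMulCommutative N)
    (hT : IsFactor N T) : T ⊓ cofactor T = ⊥ := by
  rcases factor_simple' hN hT (T ⊓ cofactor T) inf_le_left (by
    rintro t ht k ⟨hk1, hk2⟩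
    have : t * k * t⁻¹ = k := by
      rw [commute_cofactor hN.1 hT t ht k hk2]; group
    rw [this]; exact ⟨hk1, hk2⟩) with h | h
  · exact h
  · exfalso
    obtain ⟨x, hx, y, hy, hxy⟩ := factor_nonabelian hN hna hT
    rw [inf_eq_left] at h
    exact hxy (commute_cofactor hN.1 hT x hx y (h hy))

/-- a non-abelian simple finite group is not a `p`-group. -/
theorem not_pgroup_of_simple {S : Type*} [Group S] [Finite S] [IsSimpleGroup S]
    (hS : ¬ IsMulCommutative S) (p : ℕ) [Fact p.Prime] : ¬ IsPGroup p S := by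
  intro h
  have hnt := h.center_nontrivial
  rcases (inferInstance : (Subgroup.center S).Normal).eq_bot_or_eq_top with hc | hc
  · rw [hc] at hnt
    exact not_nontrivial _ hnt
  · apply hS
    exact ⟨⟨fun a b => (Subgroup.mem_center_iff.mp (hc ▸ Subgroup.mem_top a : a ∈ Subgroup.center S) b).symm⟩⟩

end CfsgLib.H14MinNorm
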