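import Mathlib
import Cfsg.Agent.LibH14Derang
import Cfsg.Agent.LibH14MinNorm

/-! Basic facts on normal subgroups of primitive groups (seat helper14). -/

set_option autoImplicit false

namespace CfsgLib.H14Prim

open MulAction CfsgLib.SolvMin CfsgLib.H14MinNorm Pointwise

variable {G Ω : Type*} [Group G] [MulAction G Ω]

theorem normal_transitive [FaithfulSMul G Ω] (hprim : IsPreprimitive G Ω) (N : Subgroup G)
    [N.Normal] (hN : N ≠ ⊥) : IsPretransitive N Ω := by
  apply IsQuasiPreprimitive.isPretransitive_of_normal (G := G)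
  intro hc
  apply hN
  rw [eq_bot_iff]
  intro n hn
  rw [Subgroup.mem_bot]
  apply eq_of_smul_eq_smul (α := Ω)
  intro ω
  rw [one_smul]
  have : ω ∈ fixedPoints N Ω := by rw [hc]; trivial
  exact this ⟨n, hn⟩

theorem semiregular_of_commute [FaithfulSMul G Ω] (C N : Subgroup G) (hC : IsPretransitive C Ω)
    (hcomm : ∀ c ∈ C, ∀ n ∈ N, c * n = n * c) :
    ∀ n ∈ N, ∀ ω : Ω, n • ω = ω → n = 1 := by
  intro n hn ω hω
  apply eq_of_smul_eq_smul (α := Ω)
  intro y
  obtain ⟨c, hc⟩ := hC.exists_smul_eq ω y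
  have hc' : (c : G) • ω = y := hc
  rw [one_smul, ← hc', ← mul_smul, ← hcomm c c.2 n hn, mul_smul, hω]

theorem stabilizer_eq_bot_iff (N : Subgroup G) (ω : Ω) :
    stabilizer N ω = ⊥ ↔ ∀ n ∈ N, n • ω = ω → n = 1 := by
  constructor
  · intro h n hn hω
    have : (⟨n, hn⟩ : N) ∈ stabilizer N ω := hω
    rw [h, Subgroup.mem_bot] at this
    exact congrArg Subtype.val this
  · intro h
    rw [eq_bot_iff]
    intro n hn
    rw [Subgroup.mem_bot]
    exact Subtype.ext (h n n.2 hn)

/-- An abelian minimal normal subgroup of a primitive group is elementary abelian and regular. -/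
theorem abelian_case [Finite G] [FaithfulSMul G Ω] (hprim : IsPreprimitive G Ω) (N : Subgroup G)
    (hN : IsMinNormal N) (hab : IsMulCommutative N) :
    (∃ r : ℕ, r.Prime ∧ ∀ x ∈ N, x ^ r = 1) ∧ IsPretransitive N Ω ∧
      ∀ ω : Ω, stabilizer N ω = ⊥ := by
  have := hN.1
  have htr := normal_transitive hprim N hN.2.1
  refine ⟨hN.exists_prime, htr, fun ω => ?_⟩
  rw [stabilizer_eq_bot_iff]
  intro n hn hω
  exact semiregular_of_commute N N htr (fun c hc n hn =>
    congrArg Subtype.val (hab.is_comm.comm (⟨c, hc⟩ : N) ⟨n, hn⟩)) n hn ω hω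

/-- Jordan's theorem in subgroup form: the conjugates of a proper subgroup do not cover. -/
theorem exists_not_conj {T : Type*} [Group T] [Finite T] (R : Subgroup T) (hR : R ≠ ⊤) :
    ∃ t : T, ∀ x : T, x⁻¹ * t * x ∉ R := by
  classical
  have hfin : Finite (T ⧸ R) := inferInstance
  obtain ⟨h1, h2⟩ := CfsgLib.H14Derang.main (G := T) (Ω := T ⧸ R) inferInstance
  by_contra hc
  push Not at hc
  -- no derangement, so the derangement subgroup is trivial
  have hempty : {g : T | ∀ ω : T ⧸ R, g • ω ≠ ω} = ∅ := by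
    rw [Set.eq_empty_iff_forall_notMem]
    intro g hg
    obtain ⟨x, hx⟩ := hc g
    apply hg (x : T ⧸ R)
    change ((g * x : T) : T ⧸ R) = (x : T ⧸ R)
    symm
    rw [QuotientGroup.eq, ← mul_assoc]
    exact hx
  have hD : CfsgLib.H14Derang.D T (T ⧸ R) = ⊥ := by
    rw [CfsgLib.H14Derang.D, hempty, Subgroup.closure_empty]
  rw [hD] at h1
  apply hR
  rw [eq_top_iff]
  intro x _
  obtain ⟨g, hg⟩ := h1.exists_smul_eq ((1 : T) : T ⧸ R) (x : T ⧸ R)
  have hg1 : (g : T) = 1 := Subgroup.mem_bot.mp g.2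
  have : ((1 : T) : T ⧸ R) = (x : T ⧸ R) := by
    rw [← hg]
    change _ = (g : T) • ((1 : T) : T ⧸ R)
    rw [hg1, one_smul]
  rw [QuotientGroup.eq] at this
  simpa using this

end CfsgLib.H14Prim
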