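import Mathlib
import Cfsg.Agent.EqBase
import Cfsg.Prelude.Def_Characters
import Cfsg.Prelude.Def_Blocks
import Cfsg.Agent.LibClifford
import Cfsg.Agent.LibCharMore
import Cfsg.Agent.LibH14Prim
import Cfsg.Agent.LibPSolv19
import Cfsg.Agent.LibSolvBasic
import Cfsg.Agent.LibCharInt2
import Cfsg.Agent.LibQuot19

/-!
# Fixed irreducible characters, `p'`-degrees (helper19)

* `centralize_of_fix`: a `p`-subgroup fixing all irreducible characters of a normal `p'`-subgroup centralizes it
* `relIndex_dvd_of_normal`: `|N : N ∩ T|` divides `|G : T|` for `N` normal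
* `comm_of_linear`: all irreducible characters linear ⇒ abelian
* `sylow_comm_of_normal`: normal Sylow and `p'`-degrees ⇒ Sylow abelian
* `ito_psolv`: `p`-solvable with all degrees prime to `p` ⇒ Sylow normal
-/

set_option autoImplicit false
set_option linter.unusedSectionVars false

namespace CfsgLib.FixIrr19

open Cfsg CfsgLib.CharBasic CfsgLib.Clifford CfsgLib.PSolv19
open scoped ComplexConjugate Pointwise

universe u

variable {p : ℕ} {G : Type u} [Group G]

theorem centralize_of_fix [hp : Fact p.Prime] [Finite G] {K P : Subgroup G} (hK : K.Normal) (hP : IsPGroup p P)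
    (hKp : ¬ p ∣ Nat.card K) (hfix : ∀ g ∈ P, ∀ θ : IrrCharacter K, cj hK g (θ : K → ℂ) = θ) :
    ∀ g ∈ P, ∀ k ∈ K, g * k = k * g := by
  classical
  set R : Subgroup K := (Subgroup.centralizer (P : Set G)).subgroupOf K with hR
  have hRtop : R = ⊤ := by
    by_contra hne
    obtain ⟨t, ht⟩ := CfsgLib.H14Prim.exists_not_conj R hne
    -- the action of P on the class of t
    have hconj : ∀ (g : P) (k : K), IsConj t k → IsConj t (MulAut.conjNormal (g : G) k) := by
      intro g k hk
      refine hk.trans ?_
      rw [isConj_iff_irr]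
      intro θ
      have h1 := congrFun (hfix (g : G) g.2 θ) k
      rw [cj_eq_comp] at h1
      exact h1.symm
    letI act : MulAction P {k : K // IsConj t k} :=
      { smul := fun g k => ⟨MulAut.conjNormal (g : G) k.1, hconj g k.1 k.2⟩
        one_smul := by
          intro k
          apply Subtype.ext
          change MulAut.conjNormal ((1 : P) : G) k.1 = k.1
          simp
        mul_smul := by
          intro g h k
          apply Subtype.ext
          change MulAut.conjNormal ((g * h : P) : G) k.1 = MulAut.conjNormal (g : G) (MulAut.conjNormal (h : G) k.1)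
          simp }
    have hcard : ¬ p ∣ Nat.card {k : K // IsConj t k} := by
      rw [card_class_eq_index]
      intro hd
      exact hKp (hd.trans (Subgroup.index_dvd_card _))
    obtain ⟨k, hk⟩ := hP.nonempty_fixed_point_of_prime_not_dvd_card {k : K // IsConj t k} hcard
    rw [MulAction.mem_fixedPoints] at hk
    have hkR : k.1 ∈ R := by
      rw [hR, Subgroup.mem_subgroupOf, Subgroup.mem_centralizer_iff]
      intro g hg
      have h2 := congrArg (fun z : {k : K // IsConj t k} => ((z.1 : K) : G)) (hk ⟨g, hg⟩)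
      have h3 : g * (k.1 : G) * g⁻¹ = k.1 := h2
      rw [mul_inv_eq_iff_eq_mul] at h3
      exact h3
    obtain ⟨c, hc⟩ := isConj_iff.1 k.2
    apply ht c⁻¹
    rw [inv_inv, hc]
    exact hkR
  intro g hg k hk
  have h1 : (⟨k, hk⟩ : K) ∈ R := by rw [hRtop]; trivial
  rw [hR, Subgroup.mem_subgroupOf, Subgroup.mem_centralizer_iff] at h1
  exact h1 g hg

theorem relIndex_dvd_of_normal [Finite G] (N T : Subgroup G) [N.Normal] : T.relIndex N ∣ T.index := by
  have h1 := CfsgLib.SolvBasic.card_sup_of_normal N T
  have h2 : T.relIndex (N ⊔ T) ∣ T.index := Subgroup.relIndex_dvd_index_of_le le_sup_right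
  have h3 : Nat.card (N ⊓ T : Subgroup G) * (N ⊓ T).relIndex N = Nat.card N := by
    have := Subgroup.card_mul_index ((N ⊓ T).subgroupOf N)
    rw [Nat.card_congr (Subgroup.subgroupOfEquivOfLe (inf_le_left : N ⊓ T ≤ N)).toEquiv] at this
    exact this
  have h4 : Nat.card T * T.relIndex (N ⊔ T) = Nat.card (N ⊔ T : Subgroup G) := by
    have := Subgroup.card_mul_index (T.subgroupOf (N ⊔ T))
    rw [Nat.card_congr (Subgroup.subgroupOfEquivOfLe (le_sup_right : T ≤ N ⊔ T)).toEquiv] at this
    exact this
  have h5 : (N ⊓ T).relIndex N = T.relIndex N := by rw [inf_comm, Subgroup.inf_relIndex_right]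
  rw [h5] at h3
  have h6 : T.relIndex N = T.relIndex (N ⊔ T) := by
    rw [← h3, ← h4] at h1
    have h7 : 0 < Nat.card (N ⊓ T : Subgroup G) := Nat.card_pos
    have h8 : 0 < Nat.card T := Nat.card_pos
    have h9 : (Nat.card T * Nat.card (N ⊓ T : Subgroup G)) * T.relIndex (N ⊔ T) =
        (Nat.card T * Nat.card (N ⊓ T : Subgroup G)) * T.relIndex N := by
      calc _ = Nat.card T * T.relIndex (N ⊔ T) * Nat.card (N ⊓ T : Subgroup G) := by ring
        _ = _ := by rw [h1]; ring
    exact (Nat.eq_of_mul_eq_mul_left (Nat.mul_pos h8 h7) h9).symm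
  rw [h6]; exact h2

theorem comm_of_linear [Finite G] (h : ∀ χ : IrrCharacter G, (χ : G → ℂ) 1 = 1) (a b : G) : a * b = b * a := by
  have h1 : IsConj (1 : G) (a * b * (b * a)⁻¹) := by
    rw [isConj_iff_irr]
    intro χ
    have hc := CfsgLib.CharInt.irr_isCharacter χ.2
    rw [linear_mul hc (h χ), linear_mul hc (h χ)]
    have h2 : (χ : G → ℂ) (b * a) * (χ : G → ℂ) (b * a)⁻¹ = 1 := by
      rw [← linear_mul hc (h χ), mul_inv_cancel, h χ]
    rw [linear_mul hc (h χ) b a] at h2
    rw [h χ, mul_comm ((χ : G → ℂ) a), h2]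
  rw [isConj_one_right] at h1
  rwa [mul_inv_eq_one] at h1

theorem sylow_comm_of_normal [hp : Fact p.Prime] [Finite G] (hdeg : ∀ χ : IrrCharacter G, ¬ p ∣ charDegree (χ : G → ℂ))
    {P : Subgroup G} (hPn : P.Normal) (hP : IsPGroup p P) (a b : P) : a * b = b * a := by
  classical
  haveI := Fintype.ofFinite G
  haveI := Fintype.ofFinite P
  apply comm_of_linear
  intro θ
  obtain ⟨χ, hχ, hne⟩ := exists_above P θ.2
  have h1 := clifford_degree hPn hχ θ.2 hne
  obtain ⟨e, he⟩ := char_mult (isCharacter_restrict (CfsgLib.CharInt.irr_isCharacter hχ) P) (CfsgLib.CharInt.irr_isCharacter θ.2)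
  rw [he, CfsgLib.CharInt.irr_one_eq_charDegree hχ, CfsgLib.CharInt.irr_one_eq_charDegree θ.2] at h1
  have h2 : charDegree χ = e * (inertia hPn (θ : P → ℂ)).index * charDegree (θ : P → ℂ) := by exact_mod_cast h1
  obtain ⟨n, hn⟩ := IsPGroup.iff_card.1 hP
  have h3 := CfsgLib.CharInt2.charDegree_dvd_card θ.2
  rw [hn] at h3
  obtain ⟨k, _, hk⟩ := (Nat.dvd_prime_pow hp.out).1 h3
  have h4 : k = 0 := by
    by_contra hk0
    apply hdeg ⟨χ, hχ⟩
    change p ∣ charDegree χ
    rw [h2, hk]
    exact Dvd.dvd.mul_left (dvd_pow_self p hk0) _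
  rw [CfsgLib.CharInt.irr_one_eq_charDegree θ.2, hk, h4]
  simp

theorem charDegree_infl [Finite G] (N : Subgroup G) [N.Normal] (ξ : IrrCharacter (G ⧸ N)) :
    ∃ χ : IrrCharacter G, (∀ g : G, (χ : G → ℂ) g = (ξ : G ⧸ N → ℂ) g) ∧ charDegree (χ : G → ℂ) = charDegree (ξ : G ⧸ N → ℂ) := by
  refine ⟨⟨fun g => (ξ : G ⧸ N → ℂ) g, CfsgLib.Quot19.irr_inflate N ξ.2⟩, fun g => rfl, ?_⟩
  rfl

/-- a `p`-solvable group all of whose degrees are prime to `p` has a normal Sylow `p`-subgroup -/
theorem ito_psolv [hp : Fact p.Prime] : ∀ (n : ℕ) {G : Type u} [Group G] [Finite G], Nat.card G = n →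
    IsPSolvable p G → (∀ χ : IrrCharacter G, ¬ p ∣ charDegree (χ : G → ℂ)) → ∀ P : Sylow p G, (P : Subgroup G).Normal := by
  intro n
  induction n using Nat.strong_induction_on with
  | _ n ih =>
    intro G _ _ hn hs hdeg P
    classical
    haveI := Fintype.ofFinite G
    rcases subsingleton_or_nontrivial G with h | h
    · have : (P : Subgroup G) = ⊥ := Subsingleton.elim _ _
      rw [this]; infer_instance
    · obtain ⟨K, hKn, hK0, _, hmin⟩ := exists_min (⊤ : Subgroup G) (by
        intro h; exact (not_subsingleton G) ((Subgroup.subsingleton_iff).1 (subsingleton_of_bot_eq_top h.symm)))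
      haveI := hKn
      have hlt : Nat.card (G ⧸ K) < n := by
        rw [← hn, ← Subgroup.index_eq_card]
        have h3 := Subgroup.card_mul_index K
        have h4 : 1 < Nat.card K := by
          rw [Subgroup.one_lt_card_iff_ne_bot]; exact hK0
        have h5 : 0 < K.index := Nat.pos_of_ne_zero Subgroup.index_ne_zero_of_finite
        nlinarith
      have hIH := ih (Nat.card (G ⧸ K)) hlt rfl (psolv_quotient hp.out hs K) (by
        intro ξ
        obtain ⟨χ, _, hχ⟩ := charDegree_infl K ξ
        rw [← hχ]; exact hdeg χ) (P.mapSurjective (QuotientGroup.mk'_surjective K))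
      have hN : ((P : Subgroup G) ⊔ K).Normal := by
        have h1 : ((P : Subgroup G) ⊔ K) = (((P.mapSurjective (QuotientGroup.mk'_surjective K)) : Subgroup (G ⧸ K))).comap
            (QuotientGroup.mk' K) := by
          rw [Sylow.coe_mapSurjective, Subgroup.comap_map_eq, QuotientGroup.ker_mk']
        rw [h1]
        exact hIH.comap _
      rcases psolv_minNormal hs hKn hK0 hmin with h1 | h1
      · have h2 : K ≤ P := CfsgLib.Cores.normal_le_sylow hKn h1 P
        rw [sup_eq_left.2 h2] at hN
        exact hN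
      · haveI := Fintype.ofFinite K
        have hfix : ∀ g ∈ (P : Subgroup G), ∀ θ : IrrCharacter K, cj hKn g (θ : K → ℂ) = θ := by
          intro g hg θ
          obtain ⟨χ, hχ, hne⟩ := exists_above K θ.2
          have h3 := clifford_degree hKn hχ θ.2 hne
          obtain ⟨e, he⟩ := char_mult (isCharacter_restrict (CfsgLib.CharInt.irr_isCharacter hχ) K) (CfsgLib.CharInt.irr_isCharacter θ.2)
          rw [he, CfsgLib.CharInt.irr_one_eq_charDegree hχ, CfsgLib.CharInt.irr_one_eq_charDegree θ.2] at h3
          have h4 : charDegree χ = e * (inertia hKn (θ : K → ℂ)).index * charDegree (θ : K → ℂ) := by exact_mod_cast h3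
          have h5 : ¬ p ∣ (inertia hKn (θ : K → ℂ)).index := by
            intro hd
            apply hdeg ⟨χ, hχ⟩
            change p ∣ charDegree χ
            rw [h4]
            exact Dvd.dvd.mul_right (Dvd.dvd.mul_left hd _) _
          set T := inertia hKn (θ : K → ℂ) with hT
          have hKT : K ≤ T := le_inertia hKn (irr_classFun θ.2)
          have h6 : T.relIndex ((P : Subgroup G) ⊔ K) ∣ T.index := relIndex_dvd_of_normal _ _
          have h7 : T.relIndex ((P : Subgroup G) ⊔ K) ∣ Nat.card P := by
            refine (Subgroup.relIndex_dvd_of_le_left _ hKT).trans ?_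
            rw [Subgroup.relIndex_sup_right]
            exact Subgroup.relIndex_dvd_card _ _
          obtain ⟨m, hm⟩ := IsPGroup.iff_card.1 P.isPGroup'
          rw [hm] at h7
          obtain ⟨k, _, hk⟩ := (Nat.dvd_prime_pow hp.out).1 h7
          have hk0 : k = 0 := by
            by_contra hk0
            apply h5
            refine dvd_trans ?_ h6
            rw [hk]
            exact dvd_pow_self p hk0
          rw [hk0, pow_zero, Subgroup.relIndex_eq_one] at hk
          exact (hk (Subgroup.mem_sup_left hg))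
        have hcent := centralize_of_fix hKn P.isPGroup' h1 hfix
        have hfr := Sylow.normalizer_sup_eq_top' P (N := (P : Subgroup G) ⊔ K) le_sup_left
        have hKnorm : K ≤ Subgroup.normalizer ((P : Subgroup G) : Set G) := by
          refine le_trans ?_ (Subgroup.centralizer_le_normalizer _)
          intro k hk
          rw [Subgroup.mem_centralizer_iff]
          intro g hg
          exact hcent g hg k hk
        have h8 : Subgroup.normalizer ((P : Subgroup G) : Set G) = ⊤ := by
          rw [eq_top_iff, ← hfr]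
          exact sup_le le_rfl (sup_le Subgroup.le_normalizer hKnorm)
        exact Subgroup.normalizer_eq_top_iff.1 h8

end CfsgLib.FixIrr19
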