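import Mathlib

set_option autoImplicit false

open Module

namespace CfsgLib.Flg

variable {F V : Type*} [Field F] [Fintype F] [AddCommGroup V] [Module F V] [FiniteDimensional F V]

theorem fix_step {r m : ℕ} (hr : r.Prime) (hrq : ¬ r ∣ Fintype.card F) (hm : ∀ j, 1 ≤ j → j ≤ m → ¬ r ∣ Fintype.card F ^ j - 1)
    (B : Module.End F V) (hB : B ^ r = 1) (W₀ W : Submodule F V) (h01 : W₀ ≤ W) (hW : ∀ x ∈ W, B x ∈ W)
    (hfix : ∀ x ∈ W₀, B x = x) (hd : finrank F W ≤ finrank F W₀ + m) : ∀ x ∈ W, B x = x := by
  classical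
  haveI : Fact r.Prime := ⟨hr⟩
  haveI : Finite V := Module.finite_of_finite F
  haveI : Fintype W := Fintype.ofFinite _
  let g : W →ₗ[F] W := B.restrict hW
  have hgpow : ∀ (k : ℕ) (x : W), ((g ^ k) x : V) = (B ^ k) (x : V) := by
    intro k
    induction k with
    | zero => intro x; simp
    | succ k ih =>
      intro x
      rw [pow_succ, pow_succ, Module.End.mul_apply, Module.End.mul_apply, ih]
      rfl
  let K : Submodule F W := LinearMap.ker (g - 1)
  have hK : ∀ x : W, x ∈ K ↔ g x = x := by
    intro x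
    rw [LinearMap.mem_ker, LinearMap.sub_apply, Module.End.one_apply, sub_eq_zero]
  let f : Function.End W := fun x => g x
  have hf : f ^ r ^ 1 = 1 := by
    funext x
    have h1 : ∀ (k : ℕ) (x : W), (f ^ k) x = (g ^ k) x := by
      intro k
      induction k with
      | zero => intro x; rfl
      | succ k ih =>
        intro x
        rw [pow_succ, pow_succ, Module.End.mul_apply, ← ih]
        exact congrFun (Function.End.mul_def (f ^ k) f) x
    rw [pow_one, h1]
    apply Subtype.ext
    rw [hgpow, hB]
    rfl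
  have h1 := Equiv.Perm.card_fixedPoints_modEq (α := W) (f := f) (p := r) (n := 1) hf
  have h2 : Fintype.card (Function.fixedPoints f) = Nat.card K := by
    rw [← Nat.card_eq_fintype_card]
    apply Nat.card_congr
    exact Equiv.subtypeEquivRight (fun x => (hK x).symm)
  replace h1 : Fintype.card W ≡ Fintype.card (Function.fixedPoints f) [MOD r] := by convert h1
  rw [h2, ← Nat.card_eq_fintype_card, Module.natCard_eq_pow_finrank (K := F) (V := W), Module.natCard_eq_pow_finrank (K := F) (V := K), Nat.card_eq_fintype_card] at h1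
  have hKle : finrank F K ≤ finrank F W := Submodule.finrank_le K
  have hKge : finrank F W₀ ≤ finrank F K := by
    have h3 : finrank F (Submodule.comap W.subtype W₀) = finrank F W₀ := LinearEquiv.finrank_eq (Submodule.comapSubtypeEquivOfLe h01)
    rw [← h3]
    apply Submodule.finrank_mono
    intro x hx
    rw [hK]
    apply Subtype.ext
    exact hfix _ hx
  have hq : 1 < Fintype.card F := Fintype.one_lt_card
  have h3 : finrank F K = finrank F W := by
    by_contra hne
    have h4 : r ∣ Fintype.card F ^ finrank F W - Fintype.card F ^ finrank F K := (Nat.modEq_iff_dvd' (Nat.pow_le_pow_right (by omega) hKle)).mp h1.symm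
    obtain ⟨j, hj⟩ := Nat.exists_eq_add_of_le hKle
    have h5 : Fintype.card F ^ finrank F W - Fintype.card F ^ finrank F K = Fintype.card F ^ finrank F K * (Fintype.card F ^ j - 1) := by
      rw [hj, pow_add, Nat.mul_sub, mul_one]
    rw [h5, hr.dvd_mul] at h4
    rcases h4 with h4 | h4
    · exact hrq (hr.dvd_of_dvd_pow h4)
    · exact hm j (by omega) (by omega) h4
  have h4 : K = ⊤ := Submodule.eq_top_of_finrank_eq h3
  intro x hx
  have h5 : (⟨x, hx⟩ : W) ∈ K := h4 ▸ Submodule.mem_top
  rw [hK] at h5
  exact congrArg Subtype.val h5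

theorem flag {r : ℕ} (hr : r.Prime) (hrq : ¬ r ∣ Fintype.card F) (hn : 3 ≤ finrank F V)
    (hm : ∀ j, 1 ≤ j → j ≤ finrank F V - 2 → ¬ r ∣ Fintype.card F ^ j - 1)
    (B N : Module.End F V) (hB : B ^ r = 1) (hBN : Commute B N) (hN : IsNilpotent N) (hN0 : N ≠ 0) : B = 1 := by
  classical
  have hc : ∀ x, B (N x) = N (B x) := fun x => by
    rw [← Module.End.mul_apply, hBN.eq, Module.End.mul_apply]
  let K := LinearMap.ker N
  let I := LinearMap.range N
  have hKI : finrank F I + finrank F K = finrank F V := LinearMap.finrank_range_add_finrank_ker N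
  have hsup : finrank F ↥(K ⊔ I) + finrank F ↥(K ⊓ I) = finrank F K + finrank F I := Submodule.finrank_sup_add_finrank_inf_eq K I
  have hpos : 1 ≤ finrank F ↥(K ⊓ I) := by
    rw [Nat.one_le_iff_ne_zero, Ne, Submodule.finrank_eq_zero]
    intro hbot
    obtain ⟨m, hm0⟩ := hN
    have h1 : ∀ k : ℕ, N ^ (k + 1) = 0 → N = 0 := by
      intro k
      induction k with
      | zero => intro h; rwa [zero_add, pow_one] at h
      | succ k ih =>
        intro h
        apply ih
        apply LinearMap.ext
        intro x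
        have h2 : (N ^ (k + 1)) x ∈ K ⊓ I := by
          refine ⟨?_, ?_⟩
          · show N ((N ^ (k + 1)) x) = 0
            rw [← Module.End.mul_apply, ← pow_succ', h]
            rfl
          · rw [pow_succ', Module.End.mul_apply]
            exact ⟨_, rfl⟩
        rw [hbot, Submodule.mem_bot] at h2
        rw [h2]; rfl
    apply hN0
    rcases m with _ | m
    · rw [pow_zero] at hm0
      have h2 : (1 : Module.End F V) = 0 := hm0
      calc N = N * 1 := (mul_one N).symm
        _ = N * 0 := by rw [h2]
        _ = 0 := mul_zero N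
    · exact h1 m hm0
  have hiK : finrank F ↥(K ⊓ I) ≤ finrank F K := Submodule.finrank_mono inf_le_left
  have hiI : finrank F ↥(K ⊓ I) ≤ finrank F I := Submodule.finrank_mono inf_le_right
  have hK : ∀ x ∈ K, B x ∈ K := by
    intro x hx
    rw [LinearMap.mem_ker] at hx ⊢
    rw [← hc, hx, map_zero]
  have hI : ∀ x ∈ I, B x ∈ I := by
    rintro x ⟨y, rfl⟩
    exact ⟨B y, (hc y).symm⟩
  have s1 : ∀ x ∈ K ⊓ I, B x = x := by
    apply fix_step hr hrq hm B hB ⊥ (K ⊓ I) bot_le
    · intro x hx
      exact ⟨hK x hx.1, hI x hx.2⟩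
    · intro x hx
      rw [Submodule.mem_bot] at hx
      rw [hx, map_zero]
    · rw [finrank_bot]; omega
  have s2 : ∀ x ∈ K ⊔ I, B x = x := by
    apply fix_step hr hrq hm B hB (K ⊓ I) (K ⊔ I) (inf_le_left.trans le_sup_left)
    · intro x hx
      obtain ⟨y, hy, z, hz, rfl⟩ := Submodule.mem_sup.mp hx
      rw [map_add]
      exact Submodule.add_mem_sup (hK y hy) (hI z hz)
    · exact s1
    · omega
  have s3 : ∀ x ∈ (⊤ : Submodule F V), B x = x := by
    apply fix_step hr hrq hm B hB (K ⊔ I) ⊤ le_top
    · intro x _; exact Submodule.mem_top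
    · exact s2
    · rw [finrank_top]; omega
  exact LinearMap.ext fun x => s3 x Submodule.mem_top

end CfsgLib.Flg
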