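import Mathlib
import Cfsg.Agent.LibLEZsig

/-! Homocyclic Sylow subgroups (seat helper13). -/

namespace CfsgLib.Hc

open Module

theorem syl_iso {G A : Type*} [Group G] [Finite G] [Group A] {r : ℕ} [Fact r.Prime] (f : A →* G) (hf : Function.Injective f)
    (hA : Nat.card A = r ^ (Nat.card G).factorization r) (P : Sylow r G) : Nonempty (↥(P : Subgroup G) ≃* A) := by
  have h1 : Nat.card f.range = r ^ (Nat.card G).factorization r := by
    rw [← hA]
    exact (Nat.card_congr (MonoidHom.ofInjective hf).toEquiv).symm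
  let Q : Sylow r G := Sylow.ofCard f.range h1
  exact ⟨(Sylow.equiv P Q).trans (MonoidHom.ofInjective hf).symm⟩

theorem cyc_embed {G : Type*} [Group G] [Finite G] [IsCyclic G] {m : ℕ} (h : m ∣ Nat.card G) :
    ∃ f : Multiplicative (ZMod m) →* G, Function.Injective f := by
  obtain ⟨g, hg⟩ := IsCyclic.exists_ofOrder_eq_natCard (α := G)
  obtain ⟨t, ht⟩ := h
  have ht0 : t ≠ 0 := by
    rintro rfl
    rw [mul_zero] at ht
    exact Nat.card_pos.ne' ht
  have hu : orderOf (g ^ t) = m := by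
    rw [orderOf_pow' g ht0, hg, ht, Nat.gcd_mul_left_left, Nat.mul_div_cancel _ (Nat.pos_of_ne_zero ht0)]
  let H := Subgroup.zpowers (g ^ t)
  have hH : Nat.card H = m := by rw [Nat.card_zpowers, hu]
  let e : Multiplicative (ZMod m) ≃* H := zmodMulEquivOfGenerator (g := (⟨g ^ t, Subgroup.mem_zpowers _⟩ : H)) (by
    rintro ⟨x, hx⟩
    obtain ⟨k, rfl⟩ := Subgroup.mem_zpowers_iff.1 hx
    exact Subgroup.mem_zpowers_iff.2 ⟨k, rfl⟩) hH
  exact ⟨H.subtype.comp e.toMonoidHom, H.subtype_injective.comp e.injective⟩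

section nt
variable {r q : ℕ}

theorem val_phi (hr : r.Prime) (hq : 1 < q) (hrq : ¬ r ∣ q) :
    padicValNat r ((Polynomial.cyclotomic (orderOf (q : ZMod r)) ℤ).eval (q : ℤ)).natAbs = padicValNat r (q ^ orderOf (q : ZMod r) - 1) := by
  classical
  haveI : Fact r.Prime := ⟨hr⟩
  set d := orderOf (q : ZMod r) with hd
  have hq0 : (q : ZMod r) ≠ 0 := by rwa [Ne, ZMod.natCast_eq_zero_iff]
  have hd0 : 0 < d := by
    rw [hd]
    exact (isOfFinOrder_iff_pow_eq_one.2 ⟨r - 1, Nat.sub_pos_of_lt hr.one_lt, ZMod.pow_card_sub_one_eq_one hq0⟩).orderOf_pos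
  have h1 := Polynomial.prod_cyclotomic_eq_X_pow_sub_one hd0 ℤ
  have h2 := congrArg (fun P => (Polynomial.eval (q : ℤ) P).natAbs) h1
  simp only [Polynomial.eval_prod, Polynomial.eval_sub, Polynomial.eval_pow, Polynomial.eval_X, Polynomial.eval_one] at h2
  have h3 : ((q : ℤ) ^ d - 1).natAbs = q ^ d - 1 := by
    rw [← Nat.cast_pow, ← Nat.cast_one, ← Nat.cast_sub (Nat.one_le_pow _ _ (by omega)), Int.natAbs_natCast]
  rw [h3, ← Finset.mul_prod_erase _ _ (Nat.mem_divisors_self d hd0.ne'), Int.natAbs_mul] at h2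
  have hne : q ^ d - 1 ≠ 0 := by
    have : q ^ 1 ≤ q ^ d := Nat.pow_le_pow_right (by omega) hd0
    rw [pow_one] at this
    omega
  rw [← h2] at hne
  rw [← h2, padicValNat.mul (left_ne_zero_of_mul hne) (right_ne_zero_of_mul hne)]
  rw [padicValNat.eq_zero_of_not_dvd (n := (∏ x ∈ d.divisors.erase d, Polynomial.eval (q : ℤ) (Polynomial.cyclotomic x ℤ)).natAbs), add_zero]
  intro hdv
  rw [← Int.natCast_dvd, Prime.dvd_finset_prod_iff (Nat.prime_iff_prime_int.1 hr)] at hdv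
  obtain ⟨e, he, hed⟩ := hdv
  rw [Finset.mem_erase, Nat.mem_divisors] at he
  have he0 : 0 < e := Nat.pos_of_dvd_of_pos he.2.1 hd0
  have h4 := hed.trans (CfsgLib.LEZsig.cyclo_dvd (a := q) he0)
  have h5 : ((q : ZMod r)) ^ e = 1 := by
    have h6 := (ZMod.intCast_zmod_eq_zero_iff_dvd _ r).2 h4
    push_cast at h6
    exact sub_eq_zero.1 h6
  have h7 := orderOf_dvd_of_pow_eq_one h5
  exact he.1 (Nat.dvd_antisymm he.2.1 h7)

theorem val_pow (hr : r.Prime) (hq : 1 < q) (hrq : ¬ r ∣ q) {i : ℕ} (hi : 0 < i) (hri : ¬ r ∣ i) (hodd : r ≠ 2 ∨ i < r) :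
    padicValNat r (q ^ i - 1) = if orderOf (q : ZMod r) ∣ i then padicValNat r (q ^ orderOf (q : ZMod r) - 1) else 0 := by
  haveI : Fact r.Prime := ⟨hr⟩
  have hiff : ∀ k, r ∣ q ^ k - 1 ↔ orderOf (q : ZMod r) ∣ k := by
    intro k
    rw [orderOf_dvd_iff_pow_eq_one, ← ZMod.natCast_eq_zero_iff, Nat.cast_sub (Nat.one_le_pow _ _ (by omega)), Nat.cast_pow, Nat.cast_one, sub_eq_zero]
  split_ifs with h
  · obtain ⟨j, rfl⟩ := h
    have hj : ¬ r ∣ j := fun h => hri (h.mul_left _)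
    rcases eq_or_ne r 2 with rfl | h2
    · have h3 : orderOf (q : ZMod 2) * j = 1 := by
        rcases hodd with h | h
        · exact absurd rfl h
        · omega
      rw [h3]
      have h4 : orderOf (q : ZMod 2) = 1 := Nat.eq_one_of_mul_eq_one_right h3
      rw [h4]
    · have hro : Odd r := hr.odd_of_ne_two h2
      have h3 := padicValNat.pow_sub_pow hro (x := q ^ orderOf (q : ZMod r)) (y := 1) (by
        have hd0 : 0 < orderOf (q : ZMod r) := Nat.pos_of_ne_zero (fun h => by rw [h, zero_mul] at hi; exact lt_irrefl _ hi)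
        exact Nat.one_lt_pow hd0.ne' hq) ((hiff _).2 dvd_rfl) (fun h => hrq (hr.dvd_of_dvd_pow h)) (n := j) (by rintro rfl; simp at hi)
      rw [one_pow, ← pow_mul, padicValNat.eq_zero_of_not_dvd hj, add_zero] at h3
      exact h3
  · exact padicValNat.eq_zero_of_not_dvd (fun h' => h ((hiff i).1 h'))

end nt

end CfsgLib.Hc
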