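import Mathlib
import Cfsg.Agent.LibHcH13

/-! Homocyclic Sylow subgroups of general linear groups (seat helper13). -/

namespace CfsgLib.Hc

open Module

/-- the `r`-part of a product of `q^i - 1` -/
theorem val_prod {r q : ℕ} (hr : r.Prime) (hq : 1 < q) (hrq : ¬ r ∣ q) (S : Finset ℕ) (hS : ∀ i ∈ S, 0 < i ∧ ¬ r ∣ i ∧ (r ≠ 2 ∨ i < r)) :
    (∏ i ∈ S, (q ^ i - 1)).factorization r = (S.filter (fun i => orderOf (q : ZMod r) ∣ i)).card * padicValNat r (q ^ orderOf (q : ZMod r) - 1) := by
  classical
  have hne : ∀ i ∈ S, q ^ i - 1 ≠ 0 := by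
    intro i hi
    have : q ^ 1 ≤ q ^ i := Nat.pow_le_pow_right (by omega) (hS i hi).1
    rw [pow_one] at this
    omega
  rw [Nat.factorization_prod hne, Finsupp.finset_sum_apply]
  rw [Finset.sum_congr rfl (g := fun i => if orderOf (q : ZMod r) ∣ i then padicValNat r (q ^ orderOf (q : ZMod r) - 1) else 0) (fun i hi => by
    rw [Nat.factorization_def _ hr, val_pow hr hq hrq (hS i hi).1 (hS i hi).2.1 (hS i hi).2.2])]
  rw [← Finset.sum_filter, Finset.sum_const, smul_eq_mul]

theorem gl_val {F : Type*} [Field F] [Fintype F] {n r : ℕ} (hr : r.Prime) (hrn : n < r) (hrq : ¬ r ∣ Fintype.card F) :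
    (Nat.card (GL (Fin n) F)).factorization r = (n / orderOf (Fintype.card F : ZMod r)) * padicValNat r (Fintype.card F ^ orderOf (Fintype.card F : ZMod r) - 1) := by
  classical
  obtain ⟨q, hq⟩ : ∃ q, q = Fintype.card F := ⟨_, rfl⟩
  have hq1 : 1 < q := by rw [hq]; exact Fintype.one_lt_card
  rw [Matrix.card_GL_field, ← hq]
  rw [← hq] at hrq
  have h1 : ∏ i : Fin n, (q ^ n - q ^ (i : ℕ)) = (∏ i ∈ Finset.range n, q ^ i) * ∏ i ∈ Finset.Ioc 0 n, (q ^ i - 1) := by
    rw [Finset.prod_range (fun i => q ^ i)]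
    have h2 : ∏ i ∈ Finset.Ioc 0 n, (q ^ i - 1) = ∏ i : Fin n, (q ^ (n - i) - 1) := by
      rw [← Finset.prod_range (fun i => q ^ (n - i) - 1)]
      refine Finset.prod_nbij' (fun i => n - i) (fun i => n - i) ?_ ?_ ?_ ?_ ?_
      · intro i hi; rw [Finset.mem_Ioc] at hi; rw [Finset.mem_range]; omega
      · intro i hi; rw [Finset.mem_range] at hi; rw [Finset.mem_Ioc]; omega
      · intro i hi; rw [Finset.mem_Ioc] at hi; show n - (n - i) = i; omega
      · intro i hi; rw [Finset.mem_range] at hi; show n - (n - i) = i; omega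
      · intro i hi; rw [Finset.mem_Ioc] at hi; show _ = q ^ (n - (n - i)) - 1; rw [Nat.sub_sub_self hi.2]
    rw [h2, ← Finset.prod_mul_distrib]
    refine Finset.prod_congr rfl fun i _ => ?_
    rw [Nat.mul_sub, mul_one, ← pow_add, Nat.add_sub_cancel' i.2.le]
  have hne1 : ∏ i ∈ Finset.range n, q ^ i ≠ 0 := Finset.prod_ne_zero_iff.2 fun i _ => pow_ne_zero _ (by omega)
  have hne2 : ∏ i ∈ Finset.Ioc 0 n, (q ^ i - 1) ≠ 0 := Finset.prod_ne_zero_iff.2 fun i hi => by
    rw [Finset.mem_Ioc] at hi
    have : q ^ 1 ≤ q ^ i := Nat.pow_le_pow_right (by omega) hi.1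
    rw [pow_one] at this
    omega
  rw [h1, Nat.factorization_mul hne1 hne2, Finsupp.add_apply, val_prod hr hq1 hrq _ (fun i hi => by
    rw [Finset.mem_Ioc] at hi
    exact ⟨hi.1, fun h => by have := Nat.le_of_dvd hi.1 h; omega, Or.inr (by omega)⟩), Nat.Ioc_filter_dvd_card_eq_div]
  have h3 : (∏ i ∈ Finset.range n, q ^ i).factorization r = 0 := by
    apply Nat.factorization_eq_zero_of_not_dvd
    rw [Prime.dvd_finset_prod_iff hr.prime]
    rintro ⟨i, -, hi⟩
    exact hrq (hr.dvd_of_dvd_pow hi)
  rw [h3, zero_add]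

/-- the torus in the linear group -/
theorem torus_gl {F : Type*} [Field F] [Fintype F] {n d a m : ℕ} (hd : 0 < d) (had : a * d ≤ n) (hm : m ∣ Fintype.card F ^ d - 1) :
    ∃ f : (Fin a → Multiplicative (ZMod m)) →* GL (Fin n) F, Function.Injective f := by
  classical
  obtain ⟨p, hp⟩ := CharP.exists F
  haveI : Fact p.Prime := ⟨CharP.char_is_prime F p⟩
  haveI : NeZero d := ⟨hd.ne'⟩
  let L := FiniteField.Extension F p d
  have hL : Nat.card L = Fintype.card F ^ d := by rw [FiniteField.natCard_extension, Nat.card_eq_fintype_card]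
  have hfr : finrank F L = d := FiniteField.finrank_extension F p d
  have hLu : Nat.card Lˣ = Fintype.card F ^ d - 1 := by rw [Nat.card_units, hL]
  obtain ⟨ι, hι⟩ := cyc_embed (G := Lˣ) (m := m) (by rw [hLu]; exact hm)
  let V := (Fin a → L) × (Fin (n - a * d) → F)
  have hV : finrank F V = n := by
    rw [finrank_prod, finrank_pi_fintype, finrank_fin_fun]
    simp only [hfr, Finset.sum_const, Finset.card_univ, Fintype.card_fin, smul_eq_mul]
    omega
  let b : Basis (Fin n) F V := Module.finBasisOfFinrankEq F V hV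
  let φ0 : (Fin a → L) →* End F V :=
    { toFun := fun c => (LinearMap.mulLeft F c).prodMap LinearMap.id
      map_one' := by ext <;> simp
      map_mul' := fun c c' => by ext <;> simp [mul_assoc] }
  have hφ0 : Function.Injective φ0 := by
    intro c c' h
    have h1 := LinearMap.congr_fun h ((1 : Fin a → L), (0 : Fin (n - a * d) → F))
    have h2 := congrArg Prod.fst h1
    have h3 : c * 1 = c' * 1 := h2
    rwa [mul_one, mul_one] at h3
  let φ1 : (Fin a → L)ˣ →* GL (Fin n) F := (Units.mapEquiv (LinearMap.toMatrixAlgEquiv b).toRingEquiv.toMulEquiv).toMonoidHom.comp (Units.map φ0)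
  have hφ1 : Function.Injective φ1 := (Units.mapEquiv (LinearMap.toMatrixAlgEquiv b).toRingEquiv.toMulEquiv).injective.comp (Units.map_injective hφ0)
  let ι' : (Fin a → Multiplicative (ZMod m)) →* (Fin a → Lˣ) := ι.compLeft (Fin a)
  have hι' : Function.Injective ι' := fun x y h => funext fun i => hι (congrFun h i)
  exact ⟨(φ1.comp MulEquiv.piUnits.symm.toMonoidHom).comp ι', (hφ1.comp MulEquiv.piUnits.symm.injective).comp hι'⟩

theorem card_SL {F : Type*} [Field F] [Fintype F] {n : ℕ} (hn : 1 ≤ n) :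
    Nat.card (GL (Fin n) F) = Nat.card (Matrix.SpecialLinearGroup (Fin n) F) * (Fintype.card F - 1) := by
  classical
  haveI : Nonempty (Fin n) := ⟨⟨0, hn⟩⟩
  have h1 : Nat.card (GL (Fin n) F) = Nat.card (Matrix.GeneralLinearGroup.det (n := Fin n) (R := F)).ker * Nat.card Fˣ := by
    rw [Subgroup.card_eq_card_quotient_mul_card_subgroup (Matrix.GeneralLinearGroup.det (n := Fin n) (R := F)).ker, mul_comm]
    congr 1
    refine Nat.card_congr (QuotientGroup.quotientKerEquivOfSurjective _ ?_).toEquiv
    intro u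
    refine ⟨Matrix.GeneralLinearGroup.mkOfDetNeZero (Matrix.diagonal (Function.update 1 ⟨0, hn⟩ (u : F))) ?_, ?_⟩
    · rw [Matrix.det_diagonal, Finset.prod_update_of_mem (Finset.mem_univ _)]; simp
    · apply Units.ext
      show (Matrix.diagonal (Function.update (1 : Fin n → F) ⟨0, hn⟩ (u : F))).det = u
      rw [Matrix.det_diagonal, Finset.prod_update_of_mem (Finset.mem_univ _)]; simp
  rw [h1, Nat.card_units, Nat.card_eq_fintype_card (α := F)]
  congr 1
  refine (Nat.card_congr (Equiv.ofBijective (fun A : Matrix.SpecialLinearGroup (Fin n) F => (⟨Matrix.SpecialLinearGroup.toGL A, ?_⟩ : (Matrix.GeneralLinearGroup.det (n := Fin n) (R := F)).ker)) ⟨?_, ?_⟩)).symm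
  · exact Units.ext A.2
  · intro A B h
    exact Matrix.SpecialLinearGroup.toGL_injective (congrArg Subtype.val h)
  · rintro ⟨g, hg⟩
    exact ⟨⟨g, congrArg Units.val hg⟩, Subtype.ext (Units.ext rfl)⟩

/-- lifting to the special linear group -/
theorem lift_sl {F : Type*} [Field F] [Fintype F] {n : ℕ} {A : Type*} [Group A] [Finite A] (f : A →* GL (Fin n) F) (hf : Function.Injective f)
    (hc : (Nat.card A).Coprime (Fintype.card F - 1)) : ∃ g : A →* Matrix.SpecialLinearGroup (Fin n) F, Function.Injective g := by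
  classical
  have hdet : ∀ x, (f x : Matrix (Fin n) (Fin n) F).det = 1 := by
    intro x
    have h1 : (Matrix.GeneralLinearGroup.det (f x)) = 1 := by
      rw [← orderOf_eq_one_iff]
      apply Nat.eq_one_of_dvd_coprimes hc
      · refine (orderOf_map_dvd (Matrix.GeneralLinearGroup.det.comp f) x).trans (orderOf_dvd_natCard x)
      · have := orderOf_dvd_natCard (Matrix.GeneralLinearGroup.det (f x))
        rwa [Nat.card_units, Nat.card_eq_fintype_card] at this
    exact congrArg Units.val h1
  refine ⟨{ toFun := fun x => ⟨f x, hdet x⟩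
            map_one' := Subtype.ext (congrArg Units.val (map_one f))
            map_mul' := fun x y => Subtype.ext (congrArg Units.val (map_mul f x y)) }, ?_⟩
  intro x y h
  exact hf (Units.ext (congrArg Subtype.val h))

/-- the split torus of the special linear group -/
theorem torus_sl {F : Type*} [Field F] [Fintype F] {k m : ℕ} (hm : m ∣ Fintype.card F - 1) :
    ∃ f : (Fin k → Multiplicative (ZMod m)) →* Matrix.SpecialLinearGroup (Fin (k + 1)) F, Function.Injective f := by
  classical
  have hFu : Nat.card Fˣ = Fintype.card F - 1 := by rw [Nat.card_units, Nat.card_eq_fintype_card]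
  obtain ⟨ι, hι⟩ := cyc_embed (G := Fˣ) (m := m) (by rw [hFu]; exact hm)
  let φ : (Fin k → Fˣ) →* Matrix.SpecialLinearGroup (Fin (k + 1)) F :=
    { toFun := fun c => ⟨Matrix.diagonal (Fin.cons (((∏ i, c i)⁻¹ : Fˣ) : F) (fun i => (c i : F)) : Fin (k + 1) → F), by
        rw [Matrix.det_diagonal, Fin.prod_univ_succ, Fin.cons_zero]
        simp only [Fin.cons_succ]
        rw [← Units.coe_prod, ← Units.val_mul, inv_mul_cancel, Units.val_one]⟩
      map_one' := by
        apply Subtype.ext
        show Matrix.diagonal _ = 1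
        rw [← Matrix.diagonal_one]
        congr 1
        funext i
        refine Fin.cases ?_ (fun j => ?_) i <;> simp
      map_mul' := fun c c' => by
        apply Subtype.ext
        show Matrix.diagonal _ = Matrix.diagonal _ * Matrix.diagonal _
        rw [Matrix.diagonal_mul_diagonal]
        congr 1
        funext i
        refine Fin.cases ?_ (fun j => ?_) i
        · simp only [Fin.cons_zero]
          rw [← Units.val_mul]
          congr 1
          rw [← mul_inv, ← Finset.prod_mul_distrib]; rfl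
        · simp }
  have hφ : Function.Injective φ := by
    intro c c' h
    have h1 : (Matrix.diagonal (Fin.cons (((∏ i, c i)⁻¹ : Fˣ) : F) (fun i => (c i : F)) : Fin (k + 1) → F)) =
      Matrix.diagonal (Fin.cons (((∏ i, c' i)⁻¹ : Fˣ) : F) (fun i => (c' i : F)) : Fin (k + 1) → F) := congrArg Subtype.val h
    have h2 := Matrix.diagonal_injective h1
    funext i
    have h3 := congrFun h2 i.succ
    rw [Fin.cons_succ, Fin.cons_succ] at h3
    exact Units.ext h3
  exact ⟨φ.comp (ι.compLeft (Fin k)), hφ.comp (fun x y h => funext fun i => hι (congrFun h i))⟩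

end CfsgLib.Hc
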