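import Mathlib
import Cfsg.Agent.LibFlgH13
import Cfsg.Agent.LibHc2H13

set_option autoImplicit false

open Module

namespace CfsgLib.Flg

variable {F : Type*} [Field F] [Fintype F] {n : ℕ}

/-- lift an element of prime order not dividing `q-1` -/
theorem exists_lift {r : ℕ} (hr : r.Prime) (hrq : ¬ r ∣ Fintype.card F - 1) (a : Matrix.ProjectiveSpecialLinearGroup (Fin n) F)
    (ha : a ^ r = 1) : ∃ A : Matrix.SpecialLinearGroup (Fin n) F, QuotientGroup.mk A = a ∧ A ^ r = 1 := by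
  classical
  obtain ⟨A, rfl⟩ := QuotientGroup.mk_surjective a
  have h1 : (A ^ r) ∈ Subgroup.center (Matrix.SpecialLinearGroup (Fin n) F) := by
    rw [← QuotientGroup.eq_one_iff]
    exact ha
  rw [Matrix.SpecialLinearGroup.mem_center_iff] at h1
  obtain ⟨c, hc, hcA⟩ := h1
  have hn : n = 0 ∨ 0 < n := Nat.eq_zero_or_pos n
  rcases hn with hn | hn
  · subst hn
    exact ⟨A, rfl, Subsingleton.elim _ _⟩
  have hc0 : c ≠ 0 := by
    rintro rfl
    rw [Fintype.card_fin, zero_pow (by omega)] at hc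
    exact zero_ne_one hc
  have hcq : c ^ (Fintype.card F - 1) = 1 := FiniteField.pow_card_sub_one_eq_one c hc0
  have h2 : (A ^ r) ^ (Fintype.card F - 1) = 1 := by
    apply Subtype.ext
    rw [Matrix.SpecialLinearGroup.coe_pow, ← hcA, ← map_pow, hcq, map_one]
    rfl
  have hcop : Nat.Coprime (Fintype.card F - 1) r := ((Nat.Prime.coprime_iff_not_dvd hr).mpr hrq).symm
  obtain ⟨k, -, hk⟩ := Nat.exists_mul_mod_eq_one_of_coprime hcop hr.one_lt
  refine ⟨A ^ ((Fintype.card F - 1) * k), ?_, ?_⟩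
  · rw [QuotientGroup.mk_pow, ← Nat.div_add_mod ((Fintype.card F - 1) * k) r, hk, pow_add, pow_mul, ha, one_pow, one_mul, pow_one]
  · rw [← pow_mul, mul_comm, pow_mul, pow_mul, h2, one_pow]

theorem commute_lift {p : ℕ} [Fact p.Prime] [CharP F p] (A B : Matrix.SpecialLinearGroup (Fin n) F)
    (hAB : Commute (QuotientGroup.mk A : Matrix.ProjectiveSpecialLinearGroup (Fin n) F) (QuotientGroup.mk B)) (hA : A ^ p = 1) : Commute A B := by
  classical
  rcases Nat.eq_zero_or_pos n with hn | hn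
  · subst hn
    exact Subsingleton.elim _ _
  have h1 : (A * B)⁻¹ * (B * A) ∈ Subgroup.center (Matrix.SpecialLinearGroup (Fin n) F) := by
    rw [← QuotientGroup.eq]
    exact hAB
  set C := (A * B)⁻¹ * (B * A) with hC
  have hCc := h1
  rw [Subgroup.mem_center_iff] at hCc
  rw [Matrix.SpecialLinearGroup.mem_center_iff] at h1
  obtain ⟨c, hc, hcA⟩ := h1
  have h2 : B * A = A * B * C := by rw [hC, mul_inv_cancel_left]
  have h3 : B * A * B⁻¹ = A * C := by
    rw [h2, mul_assoc A B C, hCc B, ← mul_assoc, mul_inv_cancel_right]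
  have h4 : C ^ p = 1 := by
    have h5 : (B * A * B⁻¹) ^ p = 1 := by rw [conj_pow, hA, mul_one, mul_inv_cancel]
    rw [h3, Commute.mul_pow (hCc A), hA, one_mul] at h5
    exact h5
  have h5 : c ^ p = 1 := by
    have h6 := congrArg Subtype.val h4
    rw [Matrix.SpecialLinearGroup.coe_pow, ← hcA, ← map_pow] at h6
    have h7 := congrFun (congrFun h6 ⟨0, hn⟩) ⟨0, hn⟩
    rw [Matrix.SpecialLinearGroup.coe_one, Matrix.one_apply_eq, Matrix.scalar_apply, Matrix.diagonal_apply_eq] at h7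
    exact h7
  have h6 : c = 1 := by
    apply frobenius_inj F p
    rw [frobenius_def, frobenius_def, h5, one_pow]
  have h7 : C = 1 := by
    apply Subtype.ext
    rw [← hcA, h6, map_one]
    rfl
  rw [h7, mul_one] at h2
  exact h2.symm

/-- in `SL_n` a `p'`-element commuting with a nontrivial element of order `p` is trivial unless `r` divides some `q^j - 1` -/
theorem flag_sl {p : ℕ} [Fact p.Prime] [CharP F p] {r : ℕ} (hr : r.Prime) (hrp : r ≠ p) (hn : 3 ≤ n)
    (hm : ∀ j, 1 ≤ j → j ≤ n - 2 → ¬ r ∣ Fintype.card F ^ j - 1)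
    (A B : Matrix.SpecialLinearGroup (Fin n) F) (hA : A ^ p = 1) (hA1 : A ≠ 1) (hB : B ^ r = 1) (hAB : Commute A B) : B = 1 := by
  classical
  haveI : CharP (Matrix (Fin n) (Fin n) F) p := by
    haveI : Nonempty (Fin n) := ⟨⟨0, by omega⟩⟩
    infer_instance
  have hrq : ¬ r ∣ Fintype.card F := by
    obtain ⟨k, _, hk⟩ := FiniteField.card F p
    rw [hk]
    intro h
    exact hrp ((Nat.prime_dvd_prime_iff_eq hr (Fact.out)).mp (hr.dvd_of_dvd_pow h))
  let f : Matrix (Fin n) (Fin n) F ≃ₐ[F] Module.End F (Fin n → F) := Matrix.toLinAlgEquiv'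
  have hfr : finrank F (Fin n → F) = n := by rw [Module.finrank_pi, Fintype.card_fin]
  have hBf : f B.1 ^ r = 1 := by
    rw [← map_pow, ← Matrix.SpecialLinearGroup.coe_pow, hB, Matrix.SpecialLinearGroup.coe_one, map_one]
  have hAB' : Commute A.1 B.1 := congrArg Subtype.val hAB
  have hN : IsNilpotent (f (A.1 - 1)) := by
    refine ⟨p, ?_⟩
    rw [← map_pow, sub_pow_char_of_commute (p := p) (Commute.one_right A.1), ← Matrix.SpecialLinearGroup.coe_pow, hA, Matrix.SpecialLinearGroup.coe_one, one_pow, sub_self, map_zero]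
  have hN0 : f (A.1 - 1) ≠ 0 := by
    rw [Ne, map_eq_zero_iff f f.injective, sub_eq_zero]
    intro h
    exact hA1 (Subtype.ext h)
  have h1 := flag (F := F) (V := Fin n → F) hr hrq (by rw [hfr]; exact hn) (by rw [hfr]; exact hm) (f B.1) (f (A.1 - 1)) hBf ?_ hN hN0
  · apply Subtype.ext
    apply f.injective
    rw [h1]
    exact (map_one f).symm
  · apply Commute.map
    exact (hAB'.symm.sub_right (Commute.one_right _))

/-- the corresponding statement in `PSL_n` -/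
theorem flag_psl {p : ℕ} [Fact p.Prime] [CharP F p] {r : ℕ} (hr : r.Prime) (hrp : r ≠ p) (hn : 3 ≤ n)
    (hm : ∀ j, 1 ≤ j → j ≤ n - 2 → ¬ r ∣ Fintype.card F ^ j - 1)
    (a b : Matrix.ProjectiveSpecialLinearGroup (Fin n) F) (ha : a ^ p = 1) (ha1 : a ≠ 1) (hb : b ^ r = 1) (hab : Commute a b) : b = 1 := by
  have hp : ¬ p ∣ Fintype.card F - 1 := by
    obtain ⟨k, hp', hk⟩ := FiniteField.card F p
    rw [hk]
    intro h
    have h1 : p ∣ p ^ (k : ℕ) := dvd_pow_self p k.2.ne'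
    have h2 : 1 ≤ p ^ (k : ℕ) := Nat.one_le_pow _ _ hp'.pos
    have h3 : p ∣ 1 := by
      have h4 := Nat.dvd_sub h1 h
      rwa [Nat.sub_sub_self h2] at h4
    exact hp'.one_lt.ne' (Nat.dvd_one.mp h3)
  obtain ⟨A, rfl, hA⟩ := exists_lift (Fact.out : p.Prime) hp a ha
  obtain ⟨B, rfl, hB⟩ := exists_lift hr (by have h1 := hm 1 le_rfl (by omega); rwa [pow_one] at h1) b hb
  have h1 := flag_sl hr hrp hn hm A B hA (by rintro rfl; exact ha1 rfl) hB (commute_lift A B hab hA)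
  rw [h1]
  rfl

/-- the primes dividing `|SL_m|` -/
theorem dvd_card_SL {p : ℕ} [Fact p.Prime] [CharP F p] {m : ℕ} (hm : 2 ≤ m) {r : ℕ} (h : r = p ∨ ∃ j, 1 ≤ j ∧ j ≤ m ∧ r ∣ Fintype.card F ^ j - 1) :
    r ∣ Nat.card (Matrix.SpecialLinearGroup (Fin m) F) := by
  classical
  obtain ⟨k, rfl⟩ := Nat.exists_eq_add_of_le' hm
  have hq : 1 < Fintype.card F := Fintype.one_lt_card
  set q := Fintype.card F with hqd
  have h1 : Nat.card (GL (Fin (k + 2)) F) = Nat.card (Matrix.SpecialLinearGroup (Fin (k + 2)) F) * (q - 1) := CfsgLib.Hc.card_SL (by omega)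
  rw [Matrix.card_GL_field, Fin.prod_univ_castSucc] at h1
  have h2 : q ^ (k + 2) - q ^ ((Fin.last (k + 1) : Fin (k + 2)) : ℕ) = q ^ (k + 1) * (q - 1) := by
    rw [Fin.val_last, Nat.mul_sub, mul_one, ← pow_succ]
  rw [← hqd, h2, ← mul_assoc] at h1
  have h3 := Nat.eq_of_mul_eq_mul_right (by omega) h1
  rw [← h3]
  rcases h with rfl | ⟨j, hj1, hj2, hj3⟩
  · apply Dvd.dvd.mul_left
    obtain ⟨f, hp', hk⟩ := FiniteField.card F r
    rw [hqd, hk, ← pow_mul]
    apply dvd_pow_self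
    have := f.2
    positivity
  · apply Dvd.dvd.mul_right
    have h4 : ∀ j, 2 ≤ j → j ≤ k + 2 → q ^ j - 1 ∣ ∏ i : Fin (k + 1), (q ^ (k + 2) - q ^ ((Fin.castSucc i : Fin (k + 2)) : ℕ)) := by
      intro j h2j hjk
      have h5 := Finset.dvd_prod_of_mem (fun i : Fin (k + 1) => q ^ (k + 2) - q ^ ((Fin.castSucc i : Fin (k + 2)) : ℕ)) (Finset.mem_univ ⟨k + 2 - j, by omega⟩)
      refine dvd_trans ?_ h5
      show q ^ j - 1 ∣ q ^ (k + 2) - q ^ (k + 2 - j)
      have h6 : q ^ (k + 2) = q ^ (k + 2 - j) * q ^ j := by rw [← pow_add]; congr 1; omega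
      rw [h6]
      have h7 : q ^ (k + 2 - j) * q ^ j - q ^ (k + 2 - j) = q ^ (k + 2 - j) * (q ^ j - 1) := by rw [Nat.mul_sub, mul_one]
      rw [h7]
      exact Dvd.intro_left _ rfl
    rcases Nat.eq_or_lt_of_le hj1 with h5 | h5
    · rw [← h5, pow_one] at hj3
      refine dvd_trans hj3 (dvd_trans ?_ (h4 2 le_rfl (by omega)))
      have := Nat.sub_dvd_pow_sub_pow q 1 2
      rwa [one_pow] at this
    · exact dvd_trans hj3 (h4 j h5 hj2)

end CfsgLib.Flg
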