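import Mathlib
import Cfsg.Agent.LibFlg2H13

set_option autoImplicit false

open Module

namespace CfsgLib.Flg

variable {F : Type*} [Field F] [Fintype F] {n : ℕ}

/-- block diagonal elements -/
noncomputable def blk (a b : ℕ) : Matrix.SpecialLinearGroup (Fin a) F × Matrix.SpecialLinearGroup (Fin b) F →* Matrix.SpecialLinearGroup (Fin a ⊕ Fin b) F where
  toFun x := ⟨Matrix.fromBlocks x.1.1 0 0 x.2.1, by rw [Matrix.det_fromBlocks_zero₂₁, x.1.2, x.2.2, mul_one]⟩
  map_one' := Subtype.ext Matrix.fromBlocks_one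
  map_mul' x y := by
    apply Subtype.ext
    show Matrix.fromBlocks (x.1.1 * y.1.1) 0 0 (x.2.1 * y.2.1) = Matrix.fromBlocks x.1.1 0 0 x.2.1 * Matrix.fromBlocks y.1.1 0 0 y.2.1
    rw [Matrix.fromBlocks_multiply]
    simp only [Matrix.zero_mul, Matrix.mul_zero, add_zero, zero_add]

/-- reindexing -/
noncomputable def rei {ι κ : Type*} [Fintype ι] [Fintype κ] [DecidableEq ι] [DecidableEq κ] (e : ι ≃ κ) :
    Matrix.SpecialLinearGroup ι F →* Matrix.SpecialLinearGroup κ F where
  toFun x := ⟨Matrix.reindexAlgEquiv F F e x.1, by rw [Matrix.det_reindexAlgEquiv, x.2]⟩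
  map_one' := Subtype.ext (map_one (Matrix.reindexAlgEquiv F F e))
  map_mul' x y := Subtype.ext (map_mul (Matrix.reindexAlgEquiv F F e) x.1 y.1)

/-- an element of `PSL_n` of order `r * p` from an element of order `r` of `SL_{n-2}` -/
theorem exists_order {p : ℕ} [hp : Fact p.Prime] [CharP F p] {r : ℕ} (hr : r.Prime) (hrp : r ≠ p) {m : ℕ} (hm : 1 ≤ m)
    (A : Matrix.SpecialLinearGroup (Fin m) F) (hA : orderOf A = r) :
    ∃ g : Matrix.ProjectiveSpecialLinearGroup (Fin (m + 2)) F, orderOf g = r * p := by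
  classical
  let T : Matrix.SpecialLinearGroup (Fin 2) F := ⟨!![1, 1; 0, 1], by rw [Matrix.det_fin_two_of]; ring⟩
  have hT : ∀ k : ℕ, (T ^ k).1 = !![1, (k : F); 0, 1] := by
    intro k
    induction k with
    | zero =>
      rw [pow_zero, Matrix.SpecialLinearGroup.coe_one, Nat.cast_zero, Matrix.one_fin_two]
    | succ k ih =>
      rw [pow_succ, Matrix.SpecialLinearGroup.coe_mul, ih]
      show !![1, (k : F); 0, 1] * !![1, 1; 0, 1] = _
      rw [Matrix.mul_fin_two]
      push_cast
      congr 1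
      ext i j
      fin_cases i <;> fin_cases j <;> simp <;> ring
  let M : Matrix.SpecialLinearGroup (Fin (m + 2)) F := rei finSumFinEquiv (blk m 2 (A, T))
  have hM : ∀ k : ℕ, M ^ k = rei finSumFinEquiv (blk m 2 (A ^ k, T ^ k)) := by
    intro k
    show (rei finSumFinEquiv (blk m 2 (A, T))) ^ k = _
    rw [← map_pow, ← map_pow]
    rfl
  refine ⟨QuotientGroup.mk M, ?_⟩
  have key : ∀ k : ℕ, (QuotientGroup.mk M : Matrix.ProjectiveSpecialLinearGroup (Fin (m + 2)) F) ^ k = 1 ↔ r * p ∣ k := by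
    intro k
    rw [← QuotientGroup.mk_pow, QuotientGroup.eq_one_iff]
    constructor
    · intro h
      rw [Matrix.SpecialLinearGroup.mem_center_iff] at h
      obtain ⟨c, hc, hcM⟩ := h
      have h1 : ∀ i j : Fin m ⊕ Fin 2, (blk m 2 (A ^ k, T ^ k)).1 i j = if i = j then c else 0 := by
        intro i j
        have h2 : (M ^ k).1 (finSumFinEquiv i) (finSumFinEquiv j) = (blk m 2 (A ^ k, T ^ k)).1 i j := by
          rw [hM]
          show (Matrix.reindex finSumFinEquiv finSumFinEquiv (blk m 2 (A ^ k, T ^ k)).1) (finSumFinEquiv i) (finSumFinEquiv j) = _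
          rw [Matrix.reindex_apply, Matrix.submatrix_apply, Equiv.symm_apply_apply, Equiv.symm_apply_apply]
        rw [← h2, ← hcM, Matrix.scalar_apply, Matrix.diagonal_apply]
        simp only [EmbeddingLike.apply_eq_iff_eq]
      have h2 := h1 (Sum.inr 0) (Sum.inr 0)
      have h3 := h1 (Sum.inr 0) (Sum.inr 1)
      replace h2 : (T ^ k).1 0 0 = c := by rw [if_pos rfl] at h2; exact h2
      replace h3 : (T ^ k).1 0 1 = 0 := by rw [if_neg (by simp)] at h3; exact h3
      rw [hT] at h2 h3
      have h4 : (1 : F) = c := h2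
      have h5 : (k : F) = 0 := h3
      have h6 : p ∣ k := (CharP.cast_eq_zero_iff F p k).mp h5
      have h7 : A ^ k = 1 := by
        apply Subtype.ext
        ext i j
        have h8 := h1 (Sum.inl i) (Sum.inl j)
        have h9 : (A ^ k).1 i j = if (Sum.inl i : Fin m ⊕ Fin 2) = Sum.inl j then c else 0 := h8
        rw [h9, Matrix.SpecialLinearGroup.coe_one, Matrix.one_apply, ← h4]
        simp only [Sum.inl.injEq]
      have h8 : r ∣ k := by rw [← hA]; exact orderOf_dvd_of_pow_eq_one h7
      exact Nat.Coprime.mul_dvd_of_dvd_of_dvd ((Nat.coprime_primes hr hp.out).mpr hrp) h8 h6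
    · intro h
      have h6 : p ∣ k := dvd_trans (Dvd.intro_left _ rfl) h
      have h8 : r ∣ k := dvd_trans (Dvd.intro _ rfl) h
      have h1 : M ^ k = 1 := by
        rw [hM]
        have h2 : A ^ k = 1 := by rw [← orderOf_dvd_iff_pow_eq_one, hA]; exact h8
        have h3 : T ^ k = 1 := by
          apply Subtype.ext
          rw [hT, (CharP.cast_eq_zero_iff F p k).mpr h6, Matrix.SpecialLinearGroup.coe_one, Matrix.one_fin_two]
        rw [h2, h3]
        show rei finSumFinEquiv (blk m 2 1) = 1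
        rw [map_one, map_one]
      rw [h1]
      exact Subgroup.one_mem _
  exact Nat.dvd_antisymm (orderOf_dvd_of_pow_eq_one ((key _).mpr dvd_rfl)) ((key _).mp (pow_orderOf_eq_one _))

end CfsgLib.Flg
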