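import Mathlib
import Cfsg.Agent.LibFlg3H13

set_option autoImplicit false

open Module

namespace CfsgLib.Flg

section lin

variable {F V : Type*} [Field F] [AddCommGroup V] [Module F V] [FiniteDimensional F V]

theorem eig2 {r : ℕ} (hr : (r : F) ≠ 0) (B N : Module.End F V) (hB : B ^ r = 1) (hBN : Commute B N) (hN : IsNilpotent N) (hN0 : N ≠ 0)
    (hd : finrank F V ≤ 3) : ∃ (l : F) (w v : V), l ^ r = 1 ∧ v ≠ 0 ∧ N w = v ∧ N v = 0 ∧ B w = l • w ∧ B v = l • v := by
  classical
  have hc : ∀ x, B (N x) = N (B x) := fun x => by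
    rw [← Module.End.mul_apply, hBN.eq, Module.End.mul_apply]
  -- v = N^(j+1) w₀ with N v = 0
  obtain ⟨v, w₀, hv0, hvw, hNv⟩ : ∃ v w₀ : V, v ≠ 0 ∧ N w₀ = v ∧ N v = 0 := by
    by_contra hcon
    push Not at hcon
    have h0 : ∀ k : ℕ, N ^ (k + 1) = 0 → N = 0 := by
      intro k
      induction k with
      | zero => intro h; rwa [zero_add, pow_one] at h
      | succ k ih =>
        intro h
        apply ih
        apply LinearMap.ext
        intro x
        by_contra hne
        apply hcon ((N ^ (k + 1)) x) ((N ^ k) x) hne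
        · rw [pow_succ', Module.End.mul_apply]
        · rw [← Module.End.mul_apply, ← pow_succ', h]
          rfl
    obtain ⟨m, hm0⟩ := hN
    apply hN0
    rcases m with _ | m
    · rw [pow_zero] at hm0
      calc N = N * 1 := (mul_one N).symm
        _ = N * 0 := by rw [hm0]
        _ = 0 := mul_zero N
    · exact h0 m hm0
  -- K ⊓ I has dimension at most one
  let K := LinearMap.ker N
  let I := LinearMap.range N
  have hKI : finrank F I + finrank F K = finrank F V := LinearMap.finrank_range_add_finrank_ker N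
  have hi1 : finrank F ↥(K ⊓ I) ≤ 1 := by
    have hiK : finrank F ↥(K ⊓ I) ≤ finrank F K := Submodule.finrank_mono inf_le_left
    have hiI : finrank F ↥(K ⊓ I) ≤ finrank F I := Submodule.finrank_mono inf_le_right
    omega
  have hvm : v ∈ K ⊓ I := ⟨hNv, w₀, hvw⟩
  have hBv : B v ∈ K ⊓ I := by
    refine ⟨?_, B w₀, ?_⟩
    · show N (B v) = 0
      rw [← hc, hNv, map_zero]
    · rw [← hc, hvw]
  obtain ⟨l, hl⟩ : ∃ l : F, B v = l • v := by
    have h1 := finrank_le_one_iff.mp hi1
    obtain ⟨⟨u, hu⟩, hu1⟩ := h1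
    obtain ⟨a, ha⟩ := hu1 ⟨v, hvm⟩
    obtain ⟨b, hb⟩ := hu1 ⟨B v, hBv⟩
    replace ha : a • u = v := congrArg Subtype.val ha
    replace hb : b • u = B v := congrArg Subtype.val hb
    have ha0 : a ≠ 0 := by
      rintro rfl
      rw [zero_smul] at ha
      exact hv0 ha.symm
    refine ⟨b * a⁻¹, ?_⟩
    rw [← hb, ← ha, smul_smul, mul_assoc, inv_mul_cancel₀ ha0, mul_one]
  have hpow : ∀ k : ℕ, (B ^ k) v = l ^ k • v := by
    intro k
    induction k with
    | zero => simp
    | succ k ih => rw [pow_succ, Module.End.mul_apply, hl, map_smul, ih, smul_smul, pow_succ, mul_comm]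
  have hlr : l ^ r = 1 := by
    have h1 := hpow r
    rw [hB, Module.End.one_apply] at h1
    by_contra hne
    have h2 : (l ^ r - 1) • v = 0 := by rw [sub_smul, one_smul, ← h1, sub_self]
    rcases smul_eq_zero.mp h2 with h3 | h3
    · exact hne (sub_eq_zero.mp h3)
    · exact hv0 h3
  have hr0 : r ≠ 0 := by
    rintro rfl
    exact hr Nat.cast_zero
  have hl0 : l ≠ 0 := by
    rintro rfl
    rw [zero_pow hr0] at hlr
    exact zero_ne_one hlr
  let C : Module.End F V := l⁻¹ • B
  have hCr : C ^ r = 1 := by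
    show (l⁻¹ • B) ^ r = 1
    rw [smul_pow, hB, inv_pow, hlr, inv_one, one_smul]
  have hCv : C v = v := by
    show l⁻¹ • B v = v
    rw [hl, smul_smul, inv_mul_cancel₀ hl0, one_smul]
  have hCN : ∀ x, N (C x) = C (N x) := by
    intro x
    show N (l⁻¹ • B x) = l⁻¹ • B (N x)
    rw [map_smul, hc]
  let h : Module.End F V := ∑ i ∈ Finset.range r, C ^ i
  have hh : (C - 1) * h = 0 := by
    have h1 := mul_geom_sum C r
    rw [hCr, sub_self] at h1
    exact h1
  have hCk : ∀ (k : ℕ) x, N ((C ^ k) x) = (C ^ k) (N x) := by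
    intro k
    induction k with
    | zero => intro x; rfl
    | succ k ih => intro x; rw [pow_succ, Module.End.mul_apply, Module.End.mul_apply, ih, hCN]
  have hCkv : ∀ k : ℕ, (C ^ k) v = v := by
    intro k
    induction k with
    | zero => rfl
    | succ k ih => rw [pow_succ, Module.End.mul_apply, hCv, ih]
  have hNh : N (h w₀) = (r : F) • v := by
    show N ((∑ i ∈ Finset.range r, C ^ i) w₀) = _
    rw [LinearMap.sum_apply, map_sum]
    have h1 : ∀ i ∈ Finset.range r, N ((C ^ i) w₀) = v := by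
      intro i _
      rw [hCk, hvw, hCkv]
    rw [Finset.sum_congr rfl h1, Finset.sum_const, Finset.card_range, ← Nat.cast_smul_eq_nsmul F]
  have hCh : C (h w₀) = h w₀ := by
    have h1 := LinearMap.congr_fun hh w₀
    rw [Module.End.mul_apply, LinearMap.sub_apply, Module.End.one_apply, LinearMap.zero_apply, sub_eq_zero] at h1
    exact h1
  have hBh : B (h w₀) = l • h w₀ := by
    have h1 : l • C (h w₀) = l • h w₀ := by rw [hCh]
    have h2 : l • C (h w₀) = B (h w₀) := by
      show l • (l⁻¹ • B (h w₀)) = _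
      rw [smul_smul, mul_inv_cancel₀ hl0, one_smul]
    rw [← h2, h1]
  refine ⟨l, (r : F)⁻¹ • h w₀, v, hlr, hv0, ?_, hNv, ?_, hl⟩
  · rw [map_smul, hNh, smul_smul, inv_mul_cancel₀ hr, one_smul]
  · rw [map_smul, hBh, smul_comm]

theorem li (N : Module.End F V) {w v : V} (hv : v ≠ 0) (hw : N w = v) (hNv : N v = 0) : LinearIndependent F ![w, v] := by
  rw [LinearIndependent.pair_iff]
  intro s t hst
  have h1 := congrArg N hst
  rw [map_add, map_smul, map_smul, hw, hNv, smul_zero, add_zero, map_zero] at h1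
  have hs : s = 0 := (smul_eq_zero.mp h1).resolve_right hv
  rw [hs, zero_smul, zero_add] at hst
  exact ⟨hs, (smul_eq_zero.mp hst).resolve_right hv⟩

theorem scal2 (N B : Module.End F V) (hd : finrank F V = 2) {w v : V} {l : F} (hv : v ≠ 0) (hw : N w = v) (hNv : N v = 0) (hBw : B w = l • w) (hBv : B v = l • v) :
    B = l • 1 := by
  have h1 := li N hv hw hNv
  let b := basisOfLinearIndependentOfCardEqFinrank h1 (by rw [hd, Fintype.card_fin])
  apply b.ext
  intro i
  rw [coe_basisOfLinearIndependentOfCardEqFinrank]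
  fin_cases i
  · exact hBw
  · exact hBv

theorem nil3 (N B : Module.End F V) (hd : finrank F V = 3) {w v : V} {l : F} (hv : v ≠ 0) (hw : N w = v) (hNv : N v = 0) (hBw : B w = l • w) (hBv : B v = l • v)
    (hdet : LinearMap.det B = 1) (hl : l ^ 3 = 1) : (B - l • 1) ^ 2 = 0 := by
  classical
  have h1 := li N hv hw hNv
  obtain ⟨u, hu⟩ : ∃ u : V, u ∉ Submodule.span F (Set.range ![w, v]) := by
    by_contra hcon
    push Not at hcon
    have h2 : Submodule.span F (Set.range ![w, v]) = ⊤ := by
      rw [eq_top_iff]; intro x _; exact hcon x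
    have h3 := finrank_span_eq_card h1
    rw [h2, finrank_top, hd, Fintype.card_fin] at h3
    omega
  have h2 : LinearIndependent F (Fin.cons u ![w, v] : Fin 3 → V) := linearIndependent_fin_cons.mpr ⟨h1, hu⟩
  let b := basisOfLinearIndependentOfCardEqFinrank h2 (by rw [hd, Fintype.card_fin])
  have hb : ∀ i, b i = (Fin.cons u ![w, v] : Fin 3 → V) i := fun i => by
    show basisOfLinearIndependentOfCardEqFinrank h2 _ i = _
    rw [coe_basisOfLinearIndependentOfCardEqFinrank]
  have hb0 : b 0 = u := hb 0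
  have hb1 : b 1 = w := hb 1
  have hb2 : b 2 = v := hb 2
  have hu1 : B u = b.repr (B u) 0 • u + b.repr (B u) 1 • w + b.repr (B u) 2 • v := by
    have h3 := b.sum_repr (B u)
    rw [Fin.sum_univ_three, hb0, hb1, hb2] at h3
    exact h3.symm
  have h3 : b.repr (B u) 0 * l * l = 1 := by
    rw [← hdet, ← LinearMap.det_toMatrix b, Matrix.det_fin_three]
    simp only [LinearMap.toMatrix_apply]
    rw [hb0, hb1, hb2, hBw, hBv, ← hb1, ← hb2, map_smul, map_smul, Module.Basis.repr_self, Module.Basis.repr_self]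
    simp
  have hl0 : l ≠ 0 := by
    rintro rfl
    rw [zero_pow (by norm_num)] at hl
    exact zero_ne_one hl
  have h4 : b.repr (B u) 0 = l := by
    have h5 : b.repr (B u) 0 * (l * l) = l * (l * l) := by rw [← mul_assoc, h3, ← hl]; ring
    exact mul_right_cancel₀ (mul_ne_zero hl0 hl0) h5
  have hCw : (B - l • 1) w = 0 := by rw [LinearMap.sub_apply, hBw]; simp
  have hCv : (B - l • 1) v = 0 := by rw [LinearMap.sub_apply, hBv]; simp
  apply b.ext
  intro i
  rw [pow_two, Module.End.mul_apply, LinearMap.zero_apply]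
  fin_cases i
  · show (B - l • 1) ((B - l • 1) (b 0)) = 0
    have h5 : (B - l • 1) (b 0) = b.repr (B u) 1 • w + b.repr (B u) 2 • v := by
      rw [hb0, LinearMap.sub_apply, LinearMap.smul_apply, Module.End.one_apply]
      nth_rewrite 1 [hu1]
      rw [h4]
      abel
    rw [h5, map_add, map_smul, map_smul, hCw, hCv, smul_zero, smul_zero, add_zero]
  · show (B - l • 1) ((B - l • 1) (b 1)) = 0
    rw [hb1, hCw, map_zero]
  · show (B - l • 1) ((B - l • 1) (b 2)) = 0
    rw [hb2, hCv, map_zero]

end lin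

end CfsgLib.Flg
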