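import Mathlib
import Cfsg.Agent.LibFlg4H13

set_option autoImplicit false

open Module

namespace CfsgLib.Flg

variable {F : Type*} [Field F] [Fintype F]

theorem p_not_dvd {p : ℕ} [Fact p.Prime] [CharP F p] : ¬ p ∣ Fintype.card F - 1 := by
  obtain ⟨k, hp', hk⟩ := FiniteField.card F p
  rw [hk]
  intro h
  have h1 : p ∣ p ^ (k : ℕ) := dvd_pow_self p k.2.ne'
  have h2 : 1 ≤ p ^ (k : ℕ) := Nat.one_le_pow _ _ hp'.pos
  have h3 : p ∣ 1 := by
    have h4 := Nat.dvd_sub h1 h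
    rwa [Nat.sub_sub_self h2] at h4
  exact hp'.one_lt.ne' (Nat.dvd_one.mp h3)

theorem cast_ne {p : ℕ} [Fact p.Prime] [CharP F p] {r : ℕ} (hr : r.Prime) (hrp : r ≠ p) : (r : F) ≠ 0 := by
  rw [Ne, CharP.cast_eq_zero_iff F p, Nat.prime_dvd_prime_iff_eq Fact.out hr]
  exact hrp.symm

theorem nil_of {p : ℕ} [hp : Fact p.Prime] [CharP F p] {n : ℕ} (hn : 1 ≤ n) (A : Matrix.SpecialLinearGroup (Fin n) F) (hA : A ^ p = 1) (hA1 : A ≠ 1) :
    IsNilpotent ((Matrix.toLinAlgEquiv' : Matrix (Fin n) (Fin n) F ≃ₐ[F] _) (A.1 - 1)) ∧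
      (Matrix.toLinAlgEquiv' : Matrix (Fin n) (Fin n) F ≃ₐ[F] _) (A.1 - 1) ≠ 0 := by
  classical
  have : Nonempty (Fin n) := ⟨⟨0, by omega⟩⟩
  have : CharP (Matrix (Fin n) (Fin n) F) p := by infer_instance
  refine ⟨⟨p, ?_⟩, ?_⟩
  · rw [← map_pow, sub_pow_char_of_commute (p := p) (Commute.one_right A.1), ← Matrix.SpecialLinearGroup.coe_pow, hA, Matrix.SpecialLinearGroup.coe_one, one_pow, sub_self, map_zero]
  · rw [Ne, EmbeddingLike.map_eq_zero_iff, sub_eq_zero]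
    intro h
    exact hA1 (Subtype.ext h)

theorem two_psl {p : ℕ} [Fact p.Prime] [CharP F p] {r : ℕ} (hr : r.Prime) (hr2 : r ≠ 2) (hrp : r ≠ p)
    (a b : Matrix.ProjectiveSpecialLinearGroup (Fin 2) F) (ha : a ^ p = 1) (ha1 : a ≠ 1) (hb : b ^ r = 1) (hab : Commute a b) : b = 1 := by
  classical
  obtain ⟨A, rfl, hA⟩ := exists_lift (Fact.out : p.Prime) p_not_dvd a ha
  obtain ⟨B, rfl, hB⟩ : ∃ B : Matrix.SpecialLinearGroup (Fin 2) F, QuotientGroup.mk B = b ∧ B ^ r = 1 := by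
    obtain ⟨B, rfl⟩ := QuotientGroup.mk_surjective b
    have h1 : (B ^ r) ∈ Subgroup.center (Matrix.SpecialLinearGroup (Fin 2) F) := by
      rw [← QuotientGroup.eq_one_iff]
      exact hb
    rw [Matrix.SpecialLinearGroup.mem_center_iff] at h1
    obtain ⟨c, hc, hcA⟩ := h1
    rw [Fintype.card_fin] at hc
    refine ⟨B ^ (r + 1), ?_, ?_⟩
    · rw [QuotientGroup.mk_pow, pow_succ, hb, one_mul]
    · rw [← pow_mul, mul_comm, pow_mul]
      apply Subtype.ext
      obtain ⟨m, hm⟩ := hr.even_sub_one hr2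
      have hr1 := hr.one_lt
      rw [Matrix.SpecialLinearGroup.coe_pow, ← hcA, ← map_pow, show r + 1 = 2 * (m + 1) by omega, pow_mul, hc, one_pow, map_one]
      rfl
  have hcomm := commute_lift A B hab hA
  obtain ⟨hN, hN0⟩ := nil_of (by norm_num) A hA (by rintro rfl; exact ha1 rfl)
  let f : Matrix (Fin 2) (Fin 2) F ≃ₐ[F] Module.End F (Fin 2 → F) := Matrix.toLinAlgEquiv'
  have hfr : finrank F (Fin 2 → F) = 2 := by rw [Module.finrank_pi, Fintype.card_fin]
  have hBf : f B.1 ^ r = 1 := by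
    rw [← map_pow, ← Matrix.SpecialLinearGroup.coe_pow, hB, Matrix.SpecialLinearGroup.coe_one, map_one]
  have hAB' : Commute A.1 B.1 := congrArg Subtype.val hcomm
  obtain ⟨l, w, v, hl, hv, hw, hNv, hBw, hBv⟩ := eig2 (cast_ne (p := p) hr hrp) (f B.1) (f (A.1 - 1)) hBf
    ((hAB'.symm.sub_right (Commute.one_right _)).map f) hN hN0 (by rw [hfr]; norm_num)
  have h1 := scal2 (f (A.1 - 1)) (f B.1) hfr hv hw hNv hBw hBv
  have h2 : B.1 = Matrix.scalar (Fin 2) l := by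
    apply f.injective
    rw [h1]
    have h3 : Matrix.scalar (Fin 2) l = algebraMap F (Matrix (Fin 2) (Fin 2) F) l := rfl
    rw [h3, AlgEquiv.commutes, Algebra.algebraMap_eq_smul_one]
  rw [QuotientGroup.eq_one_iff, Matrix.SpecialLinearGroup.mem_center_iff]
  refine ⟨l, ?_, h2.symm⟩
  have h3 := B.2
  rw [h2, Matrix.scalar_apply, Matrix.det_diagonal, Finset.prod_const, Finset.card_univ] at h3
  exact h3

theorem three_psl {p : ℕ} [Fact p.Prime] [CharP F p] (h9 : ¬ 9 ∣ Fintype.card F - 1) (hrp : 3 ≠ p)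
    (a b : Matrix.ProjectiveSpecialLinearGroup (Fin 3) F) (ha : a ^ p = 1) (ha1 : a ≠ 1) (hb : b ^ 3 = 1) (hab : Commute a b) : b = 1 := by
  classical
  obtain ⟨A, rfl, hA⟩ := exists_lift (Fact.out : p.Prime) p_not_dvd a ha
  obtain ⟨B, rfl⟩ := QuotientGroup.mk_surjective b
  have hB : B ^ 9 = 1 := by
    have h1 : (B ^ 3) ∈ Subgroup.center (Matrix.SpecialLinearGroup (Fin 3) F) := by
      rw [← QuotientGroup.eq_one_iff]
      exact hb
    rw [Matrix.SpecialLinearGroup.mem_center_iff] at h1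
    obtain ⟨c, hc, hcA⟩ := h1
    rw [Fintype.card_fin] at hc
    rw [show 9 = 3 * 3 by norm_num, pow_mul]
    apply Subtype.ext
    rw [Matrix.SpecialLinearGroup.coe_pow, ← hcA, ← map_pow, hc, map_one]
    rfl
  have hcomm := commute_lift A B hab hA
  obtain ⟨hN, hN0⟩ := nil_of (by norm_num) A hA (by rintro rfl; exact ha1 rfl)
  let f : Matrix (Fin 3) (Fin 3) F ≃ₐ[F] Module.End F (Fin 3 → F) := Matrix.toLinAlgEquiv'
  have hfr : finrank F (Fin 3 → F) = 3 := by rw [Module.finrank_pi, Fintype.card_fin]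
  have hBf : f B.1 ^ 9 = 1 := by
    rw [← map_pow, ← Matrix.SpecialLinearGroup.coe_pow, hB, Matrix.SpecialLinearGroup.coe_one, map_one]
  have hAB' : Commute A.1 B.1 := congrArg Subtype.val hcomm
  have h3F : ((3 : ℕ) : F) ≠ 0 := cast_ne (p := p) Nat.prime_three hrp
  have h9F : ((9 : ℕ) : F) ≠ 0 := by
    have : ((9 : ℕ) : F) = ((3 : ℕ) : F) * ((3 : ℕ) : F) := by push_cast; norm_num
    rw [this]
    exact mul_ne_zero h3F h3F
  obtain ⟨l, w, v, hl, hv, hw, hNv, hBw, hBv⟩ := eig2 h9F (f B.1) (f (A.1 - 1)) hBf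
    ((hAB'.symm.sub_right (Commute.one_right _)).map f) hN hN0 (by rw [hfr])
  have hl0 : l ≠ 0 := by
    rintro rfl
    rw [zero_pow (by norm_num)] at hl
    exact zero_ne_one hl
  have hl3 : l ^ 3 = 1 := by
    have h1 := FiniteField.pow_card_sub_one_eq_one l hl0
    have h2 : orderOf l ∣ Nat.gcd 9 (Fintype.card F - 1) := Nat.dvd_gcd (orderOf_dvd_of_pow_eq_one hl) (orderOf_dvd_of_pow_eq_one h1)
    have h3 : Nat.gcd 9 (Fintype.card F - 1) ∣ 3 ^ 2 := Nat.gcd_dvd_left _ _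
    obtain ⟨k, hk, hk1⟩ := (Nat.dvd_prime_pow Nat.prime_three).mp h3
    have h4 : k ≤ 1 := by
      by_contra hcon
      have h5 : k = 2 := by omega
      rw [h5] at hk1
      have h6 := Nat.gcd_dvd_right 9 (Fintype.card F - 1)
      rw [hk1] at h6
      exact h9 h6
    rw [hk1] at h2
    rw [← orderOf_dvd_iff_pow_eq_one]
    exact h2.trans (by
      calc 3 ^ k ∣ 3 ^ 1 := Nat.pow_dvd_pow 3 h4
        _ = 3 := pow_one 3)
  have hdet : LinearMap.det (f B.1) = 1 := by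
    show LinearMap.det (Matrix.toLin' B.1) = 1
    rw [LinearMap.det_toLin', B.2]
  have h1 := nil3 (f (A.1 - 1)) (f B.1) hfr hv hw hNv hBw hBv hdet hl3
  -- B^p is scalar
  have h2 : (B ^ p) ∈ Subgroup.center (Matrix.SpecialLinearGroup (Fin 3) F) := by
    have : CharP (Matrix (Fin 3) (Fin 3) F) p := by infer_instance
    have h3 : (B.1 - Matrix.scalar (Fin 3) l) ^ 2 = 0 := by
      apply f.injective
      have h3 : Matrix.scalar (Fin 3) l = algebraMap F (Matrix (Fin 3) (Fin 3) F) l := rfl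
      rw [map_pow, map_sub, h3, AlgEquiv.commutes, Algebra.algebraMap_eq_smul_one, h1, map_zero]
    have h4 : (B.1 - Matrix.scalar (Fin 3) l) ^ p = 0 := pow_eq_zero_of_le (Fact.out : p.Prime).two_le h3
    rw [sub_pow_char_of_commute (p := p) (Matrix.scalar_comm l (fun r' => Commute.all l r') B.1).symm, sub_eq_zero] at h4
    rw [Matrix.SpecialLinearGroup.mem_center_iff]
    have h5 : (B ^ p).1 = Matrix.scalar (Fin 3) (l ^ p) := by
      rw [Matrix.SpecialLinearGroup.coe_pow, h4, map_pow]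
    refine ⟨l ^ p, ?_, h5.symm⟩
    have h6 := (B ^ p).2
    rw [h5, Matrix.scalar_apply, Matrix.det_diagonal, Finset.prod_const, Finset.card_univ] at h6
    exact h6
  rw [← QuotientGroup.eq_one_iff] at h2
  have h3 : (QuotientGroup.mk B : Matrix.ProjectiveSpecialLinearGroup (Fin 3) F) ^ p = 1 := h2
  have h4 : orderOf (QuotientGroup.mk B : Matrix.ProjectiveSpecialLinearGroup (Fin 3) F) ∣ 1 := by
    rw [← (Nat.coprime_primes Nat.prime_three (Fact.out : p.Prime)).mpr hrp]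
    exact Nat.dvd_gcd (orderOf_dvd_of_pow_eq_one hb) (orderOf_dvd_of_pow_eq_one h3)
  exact orderOf_eq_one_iff.mp (Nat.dvd_one.mp h4)

end CfsgLib.Flg
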