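import Mathlib
import Cfsg.Agent.LibFlg5H13

set_option autoImplicit false

open Module

namespace CfsgLib.Flg

section lin

variable {F V : Type*} [Field F] [Fintype F] [AddCommGroup V] [Module F V] [FiniteDimensional F V]

theorem pow_mod {r : ℕ} (hr : r.Prime) (B : Module.End F V) (hB : B ^ r = 1) (W : Submodule F V) (hW : ∀ x ∈ W, B x ∈ W) :
    Fintype.card F ^ finrank F W ≡ Fintype.card F ^ finrank F ↥(W ⊓ LinearMap.ker (B - 1)) [MOD r] := by
  classical
  haveI : Fact r.Prime := ⟨hr⟩
  haveI : Finite V := Module.finite_of_finite F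
  haveI : Fintype W := Fintype.ofFinite _
  let g : W →ₗ[F] W := B.restrict hW
  have hgpow : ∀ (k : ℕ) (x : W), ((g ^ k) x : V) = (B ^ k) (x : V) := by
    intro k
    induction k with
    | zero => intro x; simp
    | succ k ih =>
      intro x
      rw [pow_succ, pow_succ, Module.End.mul_apply, Module.End.mul_apply, ih]
      rfl
  let K : Submodule F W := LinearMap.ker (g - 1)
  have hK : ∀ x : W, x ∈ K ↔ g x = x := by
    intro x
    rw [LinearMap.mem_ker, LinearMap.sub_apply, Module.End.one_apply, sub_eq_zero]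
  let f : Function.End W := fun x => g x
  have hf : f ^ r ^ 1 = 1 := by
    funext x
    have h1 : ∀ (k : ℕ) (x : W), (f ^ k) x = (g ^ k) x := by
      intro k
      induction k with
      | zero => intro x; rfl
      | succ k ih =>
        intro x
        rw [pow_succ, pow_succ, Module.End.mul_apply, ← ih]
        exact congrFun (Function.End.mul_def (f ^ k) f) x
    rw [pow_one, h1]
    apply Subtype.ext
    rw [hgpow, hB]
    rfl
  have h1 := Equiv.Perm.card_fixedPoints_modEq (α := W) (f := f) (p := r) (n := 1) hf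
  have h2 : Fintype.card (Function.fixedPoints f) = Nat.card K := by
    rw [← Nat.card_eq_fintype_card]
    apply Nat.card_congr
    exact Equiv.subtypeEquivRight (fun x => (hK x).symm)
  replace h1 : Fintype.card W ≡ Fintype.card (Function.fixedPoints f) [MOD r] := by convert h1
  rw [h2, ← Nat.card_eq_fintype_card, Module.natCard_eq_pow_finrank (K := F) (V := W), Module.natCard_eq_pow_finrank (K := F) (V := K), Nat.card_eq_fintype_card] at h1
  have h3 : finrank F K = finrank F ↥(W ⊓ LinearMap.ker (B - 1)) := by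
    have h4 : K = Submodule.comap W.subtype (LinearMap.ker (B - 1)) := by
      ext x
      rw [hK, Submodule.mem_comap, LinearMap.mem_ker, LinearMap.sub_apply, Module.End.one_apply, sub_eq_zero]
      exact Subtype.ext_iff
    rw [← Submodule.map_comap_subtype, ← h4, Submodule.finrank_map_subtype_eq]
  rw [h3] at h1
  exact h1

theorem ker_inf_range {r : ℕ} (hr : (r : F) ≠ 0) (B : Module.End F V) (hB : B ^ r = 1) : LinearMap.range (B - 1) ⊓ LinearMap.ker (B - 1) = ⊥ := by
  rw [eq_bot_iff]
  rintro x ⟨⟨y, hy⟩, hx⟩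
  rw [Submodule.mem_bot]
  have hx1 : B x = x := by
    have : (B - 1) x = 0 := hx
    rwa [LinearMap.sub_apply, Module.End.one_apply, sub_eq_zero] at this
  let h : Module.End F V := ∑ i ∈ Finset.range r, B ^ i
  have hh : h * (B - 1) = 0 := by
    have h1 := geom_sum_mul B r
    rw [hB, sub_self] at h1
    exact h1
  have h2 : h x = 0 := by
    rw [← hy, ← Module.End.mul_apply, hh]; rfl
  have h3 : ∀ k : ℕ, (B ^ k) x = x := by
    intro k
    induction k with
    | zero => rfl
    | succ k ih => rw [pow_succ, Module.End.mul_apply, hx1, ih]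
  have h4 : h x = (r : F) • x := by
    show (∑ i ∈ Finset.range r, B ^ i) x = _
    rw [LinearMap.sum_apply, Finset.sum_congr rfl (fun i _ => h3 i), Finset.sum_const, Finset.card_range, ← Nat.cast_smul_eq_nsmul F]
  rw [h4] at h2
  exact (smul_eq_zero.mp h2).resolve_left hr

theorem dvd_finrank {r : ℕ} (hr : r.Prime) (hrF : (r : F) ≠ 0) (B : Module.End F V) (hB : B ^ r = 1) (W : Submodule F V) (hW : ∀ x ∈ W, B x ∈ W)
    (hle : W ≤ LinearMap.range (B - 1)) : orderOf ((Fintype.card F : ℕ) : ZMod r) ∣ finrank F W := by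
  have h1 := pow_mod hr B hB W hW
  have h2 : W ⊓ LinearMap.ker (B - 1) = ⊥ := by
    rw [eq_bot_iff, ← ker_inf_range hrF B hB]
    exact inf_le_inf_right _ hle
  rw [h2, finrank_bot, pow_zero] at h1
  rw [orderOf_dvd_iff_pow_eq_one]
  have h3 := (ZMod.natCast_eq_natCast_iff _ _ _).mpr h1
  rw [Nat.cast_pow, Nat.cast_one] at h3
  exact h3

theorem two_primes {r s : ℕ} (hr : r.Prime) (hs : s.Prime) (hrF : (r : F) ≠ 0) (hsF : (s : F) ≠ 0) (R S : Module.End F V) (hR : R ^ r = 1) (hS : S ^ s = 1)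
    (hR1 : R ≠ 1) (hS1 : S ≠ 1) (hRS : Commute R S) :
    orderOf ((Fintype.card F : ℕ) : ZMod r) + orderOf ((Fintype.card F : ℕ) : ZMod s) ≤ finrank F V ∨
      Nat.lcm (orderOf ((Fintype.card F : ℕ) : ZMod r)) (orderOf ((Fintype.card F : ℕ) : ZMod s)) ≤ finrank F V := by
  have hc : ∀ x, R (S x) = S (R x) := fun x => by
    rw [← Module.End.mul_apply, hRS.eq, Module.End.mul_apply]
  let VR := LinearMap.range (R - 1)
  let VS := LinearMap.range (S - 1)
  have hRR : ∀ x ∈ VR, R x ∈ VR := by
    rintro x ⟨y, rfl⟩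
    refine ⟨R y, ?_⟩
    simp only [LinearMap.sub_apply, Module.End.one_apply, map_sub]
  have hRS' : ∀ x ∈ VS, R x ∈ VS := by
    rintro x ⟨y, rfl⟩
    refine ⟨R y, ?_⟩
    simp only [LinearMap.sub_apply, Module.End.one_apply, map_sub, hc]
  have hSS : ∀ x ∈ VS, S x ∈ VS := by
    rintro x ⟨y, rfl⟩
    refine ⟨S y, ?_⟩
    simp only [LinearMap.sub_apply, Module.End.one_apply, map_sub]
  have hSR : ∀ x ∈ VR, S x ∈ VR := by
    rintro x ⟨y, rfl⟩
    refine ⟨S y, ?_⟩
    simp only [LinearMap.sub_apply, Module.End.one_apply, map_sub, hc]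
  have hkR := dvd_finrank hr hrF R hR VR hRR le_rfl
  have hlS := dvd_finrank hs hsF S hS VS hSS le_rfl
  have hpos : ∀ (B : Module.End F V), B ≠ 1 → 0 < finrank F (LinearMap.range (B - 1)) := by
    intro B hB
    rw [Nat.pos_iff_ne_zero, Ne, Submodule.finrank_eq_zero, LinearMap.range_eq_bot, sub_eq_zero]
    exact hB
  by_cases hX : VR ⊓ VS = ⊥
  · left
    have h1 := Submodule.finrank_sup_add_finrank_inf_eq VR VS
    rw [hX, finrank_bot, add_zero] at h1
    have h2 : finrank F ↥(VR ⊔ VS) ≤ finrank F V := Submodule.finrank_le _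
    have h3 : _ ≤ finrank F VR := Nat.le_of_dvd (hpos R hR1) hkR
    have h4 : _ ≤ finrank F VS := Nat.le_of_dvd (hpos S hS1) hlS
    exact (Nat.add_le_add h3 h4).trans (h1 ▸ h2)
  · right
    have h1 := dvd_finrank hr hrF R hR (VR ⊓ VS) (fun x hx => ⟨hRR x hx.1, hRS' x hx.2⟩) inf_le_left
    have h2 := dvd_finrank hs hsF S hS (VR ⊓ VS) (fun x hx => ⟨hSR x hx.1, hSS x hx.2⟩) inf_le_right
    have h3 := Nat.lcm_dvd h1 h2
    have h4 : 0 < finrank F ↥(VR ⊓ VS) := by
      rw [Nat.pos_iff_ne_zero, Ne, Submodule.finrank_eq_zero]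
      exact hX
    exact (Nat.le_of_dvd h4 h3).trans (Submodule.finrank_le _)

end lin

variable {F : Type*} [Field F] [Fintype F] {n : ℕ}

/-- lift an element of order prime to `q-1` -/
theorem exists_lift' {m : ℕ} (hm : 1 < m) (hcop : Nat.Coprime (Fintype.card F - 1) m) (a : Matrix.ProjectiveSpecialLinearGroup (Fin n) F)
    (ha : a ^ m = 1) : ∃ A : Matrix.SpecialLinearGroup (Fin n) F, QuotientGroup.mk A = a ∧ A ^ m = 1 := by
  classical
  obtain ⟨A, rfl⟩ := QuotientGroup.mk_surjective a
  have h1 : (A ^ m) ∈ Subgroup.center (Matrix.SpecialLinearGroup (Fin n) F) := by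
    rw [← QuotientGroup.eq_one_iff]
    exact ha
  rw [Matrix.SpecialLinearGroup.mem_center_iff] at h1
  obtain ⟨c, hc, hcA⟩ := h1
  rcases Nat.eq_zero_or_pos n with hn | hn
  · subst hn
    exact ⟨A, rfl, Subsingleton.elim _ _⟩
  have hc0 : c ≠ 0 := by
    rintro rfl
    rw [Fintype.card_fin, zero_pow (by omega)] at hc
    exact zero_ne_one hc
  have hcq : c ^ (Fintype.card F - 1) = 1 := FiniteField.pow_card_sub_one_eq_one c hc0
  have h2 : (A ^ m) ^ (Fintype.card F - 1) = 1 := by
    apply Subtype.ext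
    rw [Matrix.SpecialLinearGroup.coe_pow, ← hcA, ← map_pow, hcq, map_one]
    rfl
  obtain ⟨k, -, hk⟩ := Nat.exists_mul_mod_eq_one_of_coprime hcop hm
  refine ⟨A ^ ((Fintype.card F - 1) * k), ?_, ?_⟩
  · rw [QuotientGroup.mk_pow, ← Nat.div_add_mod ((Fintype.card F - 1) * k) m, hk, pow_add, pow_mul, ha, one_pow, one_mul, pow_one]
  · rw [← pow_mul, mul_comm, pow_mul, pow_mul, h2, one_pow]

/-- orders prime to `q-1` are preserved in the projective group -/
theorem order_psl (A : Matrix.SpecialLinearGroup (Fin n) F) (hcop : Nat.Coprime (orderOf A) (Fintype.card F - 1)) :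
    orderOf (QuotientGroup.mk A : Matrix.ProjectiveSpecialLinearGroup (Fin n) F) = orderOf A := by
  classical
  apply Nat.dvd_antisymm
  · apply orderOf_dvd_of_pow_eq_one
    rw [← QuotientGroup.mk_pow, pow_orderOf_eq_one]
    rfl
  · set m := orderOf (QuotientGroup.mk A : Matrix.ProjectiveSpecialLinearGroup (Fin n) F) with hm
    have h0 : (QuotientGroup.mk A : Matrix.ProjectiveSpecialLinearGroup (Fin n) F) ^ m = 1 := pow_orderOf_eq_one _
    have h1 : (A ^ m) ∈ Subgroup.center (Matrix.SpecialLinearGroup (Fin n) F) := by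
      rw [← QuotientGroup.eq_one_iff]
      exact h0
    rw [Matrix.SpecialLinearGroup.mem_center_iff] at h1
    obtain ⟨c, hc, hcA⟩ := h1
    rcases Nat.eq_zero_or_pos n with hn | hn
    · subst hn
      rw [Subsingleton.elim A 1, orderOf_one]
      exact one_dvd _
    have hc0 : c ≠ 0 := by
      rintro rfl
      rw [Fintype.card_fin, zero_pow (by omega)] at hc
      exact zero_ne_one hc
    have hcq : c ^ (Fintype.card F - 1) = 1 := FiniteField.pow_card_sub_one_eq_one c hc0
    have h2 : A ^ (m * (Fintype.card F - 1)) = 1 := by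
      apply Subtype.ext
      rw [pow_mul, Matrix.SpecialLinearGroup.coe_pow, ← hcA, ← map_pow, hcq, map_one]
      rfl
    exact hcop.dvd_of_dvd_mul_right (orderOf_dvd_of_pow_eq_one h2)

theorem exists_dvd_of_card {s : ℕ} (hs : s.Prime) (hsq : ¬ s ∣ Fintype.card F) (h : s ∣ Nat.card (Matrix.ProjectiveSpecialLinearGroup (Fin n) F)) :
    ∃ j, 1 ≤ j ∧ j ≤ n ∧ s ∣ Fintype.card F ^ j - 1 := by
  classical
  have h1 : s ∣ Nat.card (Matrix.SpecialLinearGroup (Fin n) F) := h.trans (Subgroup.card_quotient_dvd_card _)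
  have h2 : s ∣ Nat.card (GL (Fin n) F) := by
    have h3 : Function.Injective (Matrix.SpecialLinearGroup.toGL : Matrix.SpecialLinearGroup (Fin n) F →* GL (Fin n) F) := by
      intro a b hab
      exact Subtype.ext (congrArg Units.val hab)
    exact h1.trans (Subgroup.card_dvd_of_injective _ h3)
  rw [Matrix.card_GL_field, Prime.dvd_finsetProd_iff hs.prime] at h2
  obtain ⟨i, -, hi⟩ := h2
  have h3 : Fintype.card F ^ n - Fintype.card F ^ (i : ℕ) = Fintype.card F ^ (i : ℕ) * (Fintype.card F ^ (n - i) - 1) := by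
    rw [Nat.mul_sub, mul_one, ← pow_add]
    congr 2
    have := i.2
    omega
  rw [h3, hs.dvd_mul] at hi
  have hi2 := i.2
  refine ⟨n - i, by omega, by omega, ?_⟩
  rcases hi with hi | hi
  · exact absurd (hs.dvd_of_dvd_pow hi) hsq
  · exact hi

end CfsgLib.Flg
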