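import Mathlib
import Cfsg.Agent.LibCores
import Cfsg.Prelude.Def_LocalStructure

set_option autoImplicit false

/-! Members of the family of `Y`-minimal subgroups attached to a large subgroup: abstract frame (helper1). -/

namespace CfsgLib.FrL

open Cfsg Subgroup CfsgLib.Cores
open scoped Pointwise

universe u

/-- `Y`-minimal group `L` with `A = O_p(L)` generated by the conjugates of `Y ∩ A` and normalising `Y`. -/
structure FL {L : Type u} [Group L] (p : ℕ) (A Y : Subgroup L) : Prop where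
  hA : A = pCore p L
  comm : ∀ a ∈ Y, ∀ b ∈ Y, a * b = b * a
  exp : ∀ a ∈ Y, a ^ p = 1
  gen : A = normalClosure ((Y ⊓ A : Subgroup L) : Set L)
  hAN : A ≤ normalizer (Y : Set L)
  ngen : normalClosure (Y : Set L) = ⊤
  nY : normalizer (Y : Set L) ≠ ⊤
  uniq : ∀ X : Subgroup L, Y ≤ X → X ≠ ⊤ → X ≤ normalizer (Y : Set L)

variable {L : Type u} [Group L]

/-- conjugate subgroup -/
def cj (g : L) (Y : Subgroup L) : Subgroup L := Y.map (MulAut.conj g).toMonoidHom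

theorem mem_cj {g x : L} {Y : Subgroup L} : x ∈ cj g Y ↔ g⁻¹ * x * g ∈ Y := by
  constructor
  · rintro ⟨y, hy, rfl⟩
    simpa [mul_assoc] using hy
  · intro h
    exact ⟨_, h, by simp [mul_assoc]⟩

theorem cj_mem {g x : L} {Y : Subgroup L} (h : x ∈ Y) : g * x * g⁻¹ ∈ cj g Y := by
  rw [mem_cj]; simpa [mul_assoc] using h

theorem cj_mono {g : L} {Y X : Subgroup L} (h : Y ≤ X) : cj g Y ≤ cj g X := Subgroup.map_mono h

theorem cj_cj (g h : L) (Y : Subgroup L) : cj g (cj h Y) = cj (g * h) Y := by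
  ext x
  rw [mem_cj, mem_cj, mem_cj, mul_inv_rev]
  simp only [mul_assoc]

theorem cj_one (Y : Subgroup L) : cj 1 Y = Y := by
  ext x; rw [mem_cj]; simp

theorem cj_top (g : L) : cj g (⊤ : Subgroup L) = ⊤ := by
  ext x; rw [mem_cj]; simp

theorem cj_normal {g : L} {N : Subgroup L} (hN : N.Normal) : cj g N = N := by
  ext x
  rw [mem_cj]
  constructor
  · intro h
    have := hN.conj_mem _ h g
    simpa [mul_assoc] using this
  · intro h
    have := hN.conj_mem _ h g⁻¹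
    simpa [mul_assoc] using this

theorem cj_inf (g : L) (Y X : Subgroup L) : cj g (Y ⊓ X) = cj g Y ⊓ cj g X := by
  ext x; simp only [mem_cj, mem_inf]

theorem cj_le {g : L} {Y X : Subgroup L} (h : cj g Y ≤ X) : Y ≤ cj g⁻¹ X := by
  have := cj_mono (g := g⁻¹) h
  rwa [cj_cj, inv_mul_cancel, cj_one] at this

theorem mem_normalizer_cj {g x : L} {Y : Subgroup L} : x ∈ normalizer ((cj g Y : Subgroup L) : Set L) ↔
    g⁻¹ * x * g ∈ normalizer (Y : Set L) := by
  rw [mem_normalizer_iff, mem_normalizer_iff]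
  simp only [SetLike.mem_coe, mem_cj]
  constructor
  · intro h y
    have := h (g * y * g⁻¹)
    rw [show g⁻¹ * (g * y * g⁻¹) * g = y by group,
      show g⁻¹ * (x * (g * y * g⁻¹) * x⁻¹) * g = g⁻¹ * x * g * y * (g⁻¹ * x * g)⁻¹ by group] at this
    exact this
  · intro h y
    have := h (g⁻¹ * y * g)
    rw [show g⁻¹ * x * g * (g⁻¹ * y * g) * (g⁻¹ * x * g)⁻¹ = g⁻¹ * (x * y * x⁻¹) * g by group] at this
    exact this

theorem normalizer_cj (g : L) (Y : Subgroup L) : normalizer ((cj g Y : Subgroup L) : Set L) = cj g (normalizer (Y : Set L)) := by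
  ext x; rw [mem_normalizer_cj, mem_cj]

theorem normalClosure_cj (g : L) (Y : Subgroup L) : normalClosure ((cj g Y : Subgroup L) : Set L) = normalClosure (Y : Set L) := by
  apply le_antisymm
  · apply normalClosure_le_normal
    intro x hx
    rw [SetLike.mem_coe, mem_cj] at hx
    have h1 := (normalClosure_normal (s := (Y : Set L))).conj_mem _ (subset_normalClosure hx) g
    have e : g * (g⁻¹ * x * g) * g⁻¹ = x := by group
    rwa [e] at h1
  · apply normalClosure_le_normal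
    intro x hx
    have h0 : g * x * g⁻¹ ∈ cj g Y := cj_mem hx
    have h1 := (normalClosure_normal (s := ((cj g Y : Subgroup L) : Set L))).conj_mem _ (subset_normalClosure h0) g⁻¹
    have e : g⁻¹ * (g * x * g⁻¹) * g⁻¹⁻¹ = x := by group
    rwa [e] at h1

namespace FL

variable {p : ℕ} {A Y : Subgroup L}

theorem An (F : FL p A Y) : A.Normal := by rw [F.hA]; infer_instance

theorem cjF (F : FL p A Y) (g : L) : FL p A (cj g Y) where
  hA := F.hA
  comm := by
    intro a ha b hb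
    rw [mem_cj] at ha hb
    have := F.comm _ ha _ hb
    have h2 : g⁻¹ * (a * b) * g = g⁻¹ * (b * a) * g := by
      calc g⁻¹ * (a * b) * g = g⁻¹ * a * g * (g⁻¹ * b * g) := by group
        _ = g⁻¹ * b * g * (g⁻¹ * a * g) := this
        _ = _ := by group
    exact mul_left_cancel (mul_right_cancel h2)
  exp := by
    intro a ha
    rw [mem_cj] at ha
    have h1 := F.exp _ ha
    have h2 : (g⁻¹ * a * g) ^ p = g⁻¹ * a ^ p * g := by
      have := conj_pow (i := p) (a := g⁻¹) (b := a)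
      rwa [inv_inv] at this
    rw [h2] at h1
    have h3 : a ^ p = g * (g⁻¹ * a ^ p * g) * g⁻¹ := by group
    rw [h3, h1]; group
  gen := by
    have h1 : cj g Y ⊓ A = cj g (Y ⊓ A) := by rw [cj_inf, cj_normal F.An]
    rw [h1, normalClosure_cj]; exact F.gen
  hAN := by
    rw [normalizer_cj]
    have := cj_mono (g := g) F.hAN
    rwa [cj_normal F.An] at this
  ngen := by rw [normalClosure_cj]; exact F.ngen
  nY := by
    rw [normalizer_cj]
    intro h
    apply F.nY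
    have := congrArg (cj g⁻¹) h
    rwa [cj_cj, inv_mul_cancel, cj_one, cj_top] at this
  uniq := by
    intro X hX hXt
    rw [normalizer_cj]
    have h1 := F.uniq (cj g⁻¹ X) (cj_le hX) (by
      intro h
      apply hXt
      have := congrArg (cj g) h
      rwa [cj_cj, mul_inv_cancel, cj_one, cj_top] at this)
    have h2 := cj_mono (g := g) h1
    rwa [cj_cj, mul_inv_cancel, cj_one] at h2

theorem central_of (F : FL p A Y) {Y' : Subgroup L} (F' : FL p A Y') (h : Y ⊔ Y' = ⊤) {x : L} (hx : x ∈ Y) (hx' : x ∈ Y') :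
    x ∈ center L := by
  rw [mem_center_iff]
  intro g
  have h1 : Y ⊔ Y' ≤ centralizer ({x} : Set L) := by
    apply sup_le
    · intro y hy
      rw [mem_centralizer_singleton_iff]
      exact F.comm y hy x hx
    · intro y hy
      rw [mem_centralizer_singleton_iff]
      exact F'.comm y hy x hx'
  rw [h] at h1
  exact mem_centralizer_singleton_iff.1 (h1 (mem_top g))

/-- the product decomposition of `A` -/
theorem prod (F : FL p A Y) {Y' : Subgroup L} (F' : FL p A Y') (h : Y ⊔ Y' = ⊤) {a : L} (ha : a ∈ A) :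
    ∃ a1 ∈ Y ⊓ A, ∃ a2 ∈ Y' ⊓ A, a = a1 * a2 := by
  have hAn := F.An
  have key : ∀ {Y Y' : Subgroup L}, FL p A Y → FL p A Y' → ∀ y ∈ Y, ∀ x ∈ Y' ⊓ A, y * x * y⁻¹ ∈ (Y ⊓ A) ⊔ (Y' ⊓ A) := by
    intro Y Y' F F' y hy x hx
    have h1 : y * (x * y⁻¹ * x⁻¹) ∈ Y ⊓ A := by
      constructor
      · refine Y.mul_mem hy ?_
        have := (mem_normalizer_iff.1 (F.hAN hx.2) y⁻¹).1 (Y.inv_mem hy)
        exact this
      · have := hAn.conj_mem x hx.2 y
        have h2 := A.mul_mem this (A.inv_mem hx.2)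
        rwa [show y * x * y⁻¹ * x⁻¹ = y * (x * y⁻¹ * x⁻¹) by group] at h2
    have h2 : y * x * y⁻¹ = (y * (x * y⁻¹ * x⁻¹)) * x := by group
    rw [h2]
    exact mul_mem_sup h1 hx
  have hN : ((Y ⊓ A) ⊔ (Y' ⊓ A) : Subgroup L).Normal := by
    have h1 : Y ⊔ Y' ≤ normalizer (((Y ⊓ A) ⊔ (Y' ⊓ A) : Subgroup L) : Set L) := by
      have gen : ∀ y : L, (∀ x ∈ Y ⊓ A, y * x * y⁻¹ ∈ (Y ⊓ A) ⊔ (Y' ⊓ A)) → (∀ x ∈ Y' ⊓ A, y * x * y⁻¹ ∈ (Y ⊓ A) ⊔ (Y' ⊓ A)) →
          ∀ x ∈ (Y ⊓ A) ⊔ (Y' ⊓ A), y * x * y⁻¹ ∈ (Y ⊓ A) ⊔ (Y' ⊓ A) := by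
        intro y h1 h2
        have h3 : (Y ⊓ A) ⊔ (Y' ⊓ A) ≤ ((Y ⊓ A) ⊔ (Y' ⊓ A)).comap (MulAut.conj y).toMonoidHom := by
          apply sup_le
          · intro x hx; exact h1 x hx
          · intro x hx; exact h2 x hx
        intro x hx
        exact h3 hx
      have all1 : ∀ y ∈ Y, ∀ x ∈ (Y ⊓ A) ⊔ (Y' ⊓ A), y * x * y⁻¹ ∈ (Y ⊓ A) ⊔ (Y' ⊓ A) := by
        intro y hy
        apply gen
        · intro x hx
          apply mem_sup_left
          exact ⟨Y.mul_mem (Y.mul_mem hy hx.1) (Y.inv_mem hy), hAn.conj_mem x hx.2 y⟩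
        · intro x hx
          exact key F F' y hy x hx
      have all2 : ∀ y ∈ Y', ∀ x ∈ (Y ⊓ A) ⊔ (Y' ⊓ A), y * x * y⁻¹ ∈ (Y ⊓ A) ⊔ (Y' ⊓ A) := by
        intro y hy
        apply gen
        · intro x hx
          rw [sup_comm]
          exact key F' F y hy x hx
        · intro x hx
          apply mem_sup_right
          exact ⟨Y'.mul_mem (Y'.mul_mem hy hx.1) (Y'.inv_mem hy), hAn.conj_mem x hx.2 y⟩
      have fin : ∀ (Z : Subgroup L), (∀ y ∈ Z, ∀ x ∈ (Y ⊓ A) ⊔ (Y' ⊓ A), y * x * y⁻¹ ∈ (Y ⊓ A) ⊔ (Y' ⊓ A)) →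
          Z ≤ normalizer (((Y ⊓ A) ⊔ (Y' ⊓ A) : Subgroup L) : Set L) := by
        intro Z hZ y hy
        rw [mem_normalizer_iff]
        intro x
        refine ⟨fun hx => hZ y hy x hx, fun hx => ?_⟩
        have := hZ y⁻¹ (Z.inv_mem hy) _ hx
        rwa [show y⁻¹ * (y * x * y⁻¹) * y⁻¹⁻¹ = x by group] at this
      exact sup_le (fin Y all1) (fin Y' all2)
    rw [h, top_le_iff] at h1
    exact normalizer_eq_top_iff.1 h1
  have h2 : A ≤ (Y ⊓ A) ⊔ (Y' ⊓ A) := by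
    conv_lhs => rw [F.gen]
    apply normalClosure_le_normal
    intro x hx
    exact mem_sup_left hx
  have h3 : (((Y ⊓ A) ⊔ (Y' ⊓ A) : Subgroup L) : Set L) = (Y ⊓ A : Subgroup L) * (Y' ⊓ A : Subgroup L) := by
    apply coe_mul_of_right_le_normalizer_left
    intro x hx
    rw [mem_normalizer_iff]
    intro y
    have h4 := mem_normalizer_iff.1 (F.hAN hx.2) y
    constructor
    · intro hy
      exact ⟨h4.1 hy.1, hAn.conj_mem y hy.2 x⟩
    · intro hy
      refine ⟨h4.2 hy.1, ?_⟩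
      have := hAn.conj_mem _ hy.2 x⁻¹
      rwa [show x⁻¹ * (x * y * x⁻¹) * x⁻¹⁻¹ = y by group] at this
  have h4 : a ∈ (((Y ⊓ A) ⊔ (Y' ⊓ A) : Subgroup L) : Set L) := h2 ha
  rw [h3] at h4
  obtain ⟨a1, h5, a2, h6, rfl⟩ := h4
  exact ⟨a1, h5, a2, h6, rfl⟩

/-- `[A, A]` is central -/
theorem comm_central (F : FL p A Y) {Y' : Subgroup L} (F' : FL p A Y') (h : Y ⊔ Y' = ⊤) {a b : L} (ha : a ∈ A) (hb : b ∈ A) :
    ∃ c ∈ center L ⊓ Y, a * b = b * a * c := by
  have hAn := F.An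
  obtain ⟨a1, ha1, a2, ha2, rfl⟩ := F.prod F' h ha
  obtain ⟨b1, hb1, b2, hb2, rfl⟩ := F.prod F' h hb
  -- commutators `[Y ∩ A, Y' ∩ A]`
  have key : ∀ x ∈ Y ⊓ A, ∀ y ∈ Y' ⊓ A, ∃ c ∈ center L ⊓ Y, x * y = y * x * c := by
    intro x hx y hy
    have h1 : x⁻¹ * (y⁻¹ * x * y) ∈ Y := by
      refine Y.mul_mem (Y.inv_mem hx.1) ?_
      have := (mem_normalizer_iff.1 (F.hAN (A.inv_mem hy.2)) x).1 hx.1
      rwa [inv_inv] at this
    have h2 : (x⁻¹ * y⁻¹ * x) * y ∈ Y' := by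
      refine Y'.mul_mem ?_ hy.1
      have := (mem_normalizer_iff.1 (F'.hAN (A.inv_mem hx.2)) y⁻¹).1 (Y'.inv_mem hy.1)
      rwa [inv_inv] at this
    have h3 : x⁻¹ * (y⁻¹ * x * y) ∈ center L := by
      apply F.central_of F' h h1
      rwa [show x⁻¹ * (y⁻¹ * x * y) = (x⁻¹ * y⁻¹ * x) * y by group]
    exact ⟨_, ⟨h3, h1⟩, by group⟩
  obtain ⟨c1, hc1, e1⟩ := key _ hb1 _ ha2
  obtain ⟨c2, hc2, e2⟩ := key _ ha1 _ hb2
  refine ⟨c2 * c1⁻¹, Subgroup.mul_mem _ hc2 (Subgroup.inv_mem _ hc1), ?_⟩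
  have z1 := mem_center_iff.1 hc1.1
  have z2 := mem_center_iff.1 hc2.1
  have e1' : a2 * b1 = b1 * a2 * c1⁻¹ := by rw [e1]; group
  have hab1 := F.comm _ ha1.1 _ hb1.1
  have hab2 := F'.comm _ ha2.1 _ hb2.1
  have z1' : ∀ g, g * c1⁻¹ = c1⁻¹ * g := mem_center_iff.1 ((center L).inv_mem hc1.1)
  calc a1 * a2 * (b1 * b2) = a1 * (a2 * b1) * b2 := by group
    _ = (a1 * b1) * a2 * (c1⁻¹ * b2) := by rw [e1']; group
    _ = (a1 * b1) * (a2 * b2) * c1⁻¹ := by rw [← z1']; group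
    _ = b1 * (a1 * b2) * a2 * c1⁻¹ := by rw [hab1, hab2]; group
    _ = b1 * b2 * a1 * (c2 * a2) * c1⁻¹ := by rw [e2]; group
    _ = b1 * b2 * (a1 * a2) * (c2 * c1⁻¹) := by rw [← z2]; group

/-- injectivity of the commutation maps -/
theorem delta (F : FL p A Y) {y a : L} (h : Y ⊔ cj y Y = ⊤) (ha : a ∈ Y) (hfix : y * a * y⁻¹ ∈ Y) : a ∈ center L := by
  have h1 : y * a * y⁻¹ ∈ center L := F.central_of (F.cjF y) h hfix (cj_mem ha)
  have h2 := (inferInstance : (center L).Normal).conj_mem _ h1 y⁻¹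
  rwa [show y⁻¹ * (y * a * y⁻¹) * y⁻¹⁻¹ = a by group] at h2

/-- the fixed point lemma -/
theorem fpf (F : FL p A Y) {Y' : Subgroup L} (F' : FL p A Y') (h : Y ⊔ Y' = ⊤)
    {y y' α : L} (hy : y ∈ Y) (hy' : y' ∈ Y') (h1 : Y ⊔ cj y' Y = ⊤) (h2 : Y' ⊔ cj y Y' = ⊤) (hα : α ∈ A)
    {a : L} (ha : a ∈ A) (hfix : (y * y' * α) * a * (y * y' * α)⁻¹ * a⁻¹ ∈ center L) : a ∈ center L := by
  have hAn := F.An
  have hZ : (center L).Normal := inferInstance
  -- remove `α`
  obtain ⟨c, hc, ec⟩ := F.comm_central F' h hα ha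
  have hcz := mem_center_iff.1 hc.1
  have e0 : α * a * α⁻¹ = a * c := by rw [ec, mul_assoc, ← hcz α⁻¹]; group
  have e1 : (y * y' * α) * a * (y * y' * α)⁻¹ * a⁻¹ = (y * y' * a * y'⁻¹ * y⁻¹ * a⁻¹) * c := by
    calc (y * y' * α) * a * (y * y' * α)⁻¹ * a⁻¹ = y * y' * (α * a * α⁻¹) * y'⁻¹ * y⁻¹ * a⁻¹ := by group
      _ = y * y' * a * (c * (y'⁻¹ * y⁻¹ * a⁻¹)) := by rw [e0]; group
      _ = y * y' * a * ((y'⁻¹ * y⁻¹ * a⁻¹) * c) := by rw [hcz]
      _ = _ := by group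
  rw [e1] at hfix
  have hfix' : y * y' * a * y'⁻¹ * y⁻¹ * a⁻¹ ∈ center L := by
    have := (center L).mul_mem hfix ((center L).inv_mem hc.1)
    rwa [mul_inv_cancel_right] at this
  obtain ⟨a1, ha1, a2, ha2, rfl⟩ := F.prod F' h ha
  -- `b = y' a y'⁻¹ = a1 e2 a2`
  set e2 := a1⁻¹ * y' * a1 * y'⁻¹ with he2
  have he2Y : e2 ∈ Y' := by
    have := (mem_normalizer_iff.1 (F'.hAN (A.inv_mem ha1.2)) y').1 hy'
    rw [inv_inv] at this
    exact Y'.mul_mem this (Y'.inv_mem hy')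
  have he2A : e2 ∈ A := by
    have h3 := hAn.conj_mem a1 ha1.2 y'
    have h4 := A.mul_mem (A.inv_mem ha1.2) h3
    rwa [show a1⁻¹ * (y' * a1 * y'⁻¹) = e2 by rw [he2]; group] at h4
  have hcomm2 : y' * a2 = a2 * y' := F'.comm _ hy' _ ha2.1
  have hcomm1 : y * a1 = a1 * y := F.comm _ hy _ ha1.1
  have eb : y' * (a1 * a2) * y'⁻¹ = a1 * (e2 * a2) := by
    calc y' * (a1 * a2) * y'⁻¹ = y' * a1 * (a2 * y') * y'⁻¹ * y'⁻¹ := by group
      _ = y' * a1 * (y' * a2) * y'⁻¹ * y'⁻¹ := by rw [hcomm2]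
      _ = y' * a1 * (y' * a2 * y'⁻¹) * y'⁻¹ := by group
      _ = y' * a1 * (a2 * y' * y'⁻¹) * y'⁻¹ := by rw [hcomm2]
      _ = y' * a1 * y'⁻¹ * (y' * a2) * y'⁻¹ := by group
      _ = y' * a1 * y'⁻¹ * (a2 * y') * y'⁻¹ := by rw [hcomm2]
      _ = a1 * (e2 * a2) := by rw [he2]; group
  have hw : e2 * a2 ∈ Y' ⊓ A := ⟨Y'.mul_mem he2Y ha2.1, A.mul_mem he2A ha2.2⟩
  set w := e2 * a2 with hwdef
  set f1 := w⁻¹ * y * w * y⁻¹ with hf1
  have hf1Y : f1 ∈ Y := by
    have := (mem_normalizer_iff.1 (F.hAN (A.inv_mem hw.2)) y).1 hy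
    rw [inv_inv] at this
    exact Y.mul_mem this (Y.inv_mem hy)
  have ebb : y * (a1 * w) * y⁻¹ = a1 * w * f1 := by
    calc y * (a1 * w) * y⁻¹ = (y * a1) * w * y⁻¹ := by group
      _ = a1 * (y * w * y⁻¹) := by rw [hcomm1]; group
      _ = a1 * w * f1 := by rw [hf1]; group
  have efin : y * y' * (a1 * a2) * y'⁻¹ * y⁻¹ * (a1 * a2)⁻¹ = a1 * (e2 * (a2 * f1 * a2⁻¹)) * a1⁻¹ := by
    calc y * y' * (a1 * a2) * y'⁻¹ * y⁻¹ * (a1 * a2)⁻¹ = y * (y' * (a1 * a2) * y'⁻¹) * y⁻¹ * (a1 * a2)⁻¹ := by group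
      _ = a1 * w * f1 * (a1 * a2)⁻¹ := by rw [eb, ebb]
      _ = _ := by rw [hwdef]; group
  rw [efin] at hfix'
  have h3 : e2 * (a2 * f1 * a2⁻¹) ∈ center L := by
    have := hZ.conj_mem _ hfix' a1⁻¹
    rwa [show a1⁻¹ * (a1 * (e2 * (a2 * f1 * a2⁻¹)) * a1⁻¹) * a1⁻¹⁻¹ = e2 * (a2 * f1 * a2⁻¹) by group] at this
  set z := e2 * (a2 * f1 * a2⁻¹) with hz
  have hzz := mem_center_iff.1 h3
  have h4 : a2 * f1 * a2⁻¹ ∈ Y := (mem_normalizer_iff.1 (F.hAN ha2.2) f1).1 hf1Y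
  -- `e2 = z (a2 f1 a2⁻¹)⁻¹`
  have h5 : e2 ∈ center L := by
    -- e2 commutes with `Y'` and, being a central multiple of an element of `Y`, with `Y`
    rw [mem_center_iff]
    have h6 : Y ⊔ Y' ≤ centralizer ({e2} : Set L) := by
      apply sup_le
      · intro x hx
        rw [mem_centralizer_singleton_iff]
        have e5 : e2 = z * (a2 * f1 * a2⁻¹)⁻¹ := by rw [hz]; group
        have e6 := F.comm x hx _ (Y.inv_mem h4)
        rw [e5]
        calc x * (z * (a2 * f1 * a2⁻¹)⁻¹) = (x * z) * (a2 * f1 * a2⁻¹)⁻¹ := by group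
          _ = z * (x * (a2 * f1 * a2⁻¹)⁻¹) := by rw [hzz x]; group
          _ = z * (a2 * f1 * a2⁻¹)⁻¹ * x := by rw [e6]; group
      · intro x hx
        rw [mem_centralizer_singleton_iff]
        exact F'.comm x hx _ he2Y
    rw [h] at h6
    intro g
    exact mem_centralizer_singleton_iff.1 (h6 (mem_top g))
  have h5' := mem_center_iff.1 h5
  have h6 : a1 ∈ center L := by
    -- `[y', a1]` central; need `y' a1 y'⁻¹ ∈ Y`: first `e2 ∈ Y`
    have h7 : e2 ∈ Y ∨ True := Or.inr trivial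
    -- `y' a1 y'⁻¹ = a1 e2`, centralised together with `a1` by `Y` and by `cj y' Y`
    have e7 : y' * a1 * y'⁻¹ = a1 * e2 := by rw [he2]; group
    rw [mem_center_iff]
    have h8 : Y ⊔ cj y' Y ≤ centralizer ({a1 * e2} : Set L) := by
      apply sup_le
      · intro x hx
        rw [mem_centralizer_singleton_iff]
        have := F.comm x hx _ ha1.1
        calc x * (a1 * e2) = (x * a1) * e2 := by group
          _ = a1 * (x * e2) := by rw [this]; group
          _ = a1 * e2 * x := by rw [h5' x]; group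
      · intro x hx
        rw [mem_centralizer_singleton_iff, ← e7]
        exact (F.cjF y').comm x hx _ (cj_mem ha1.1)
    rw [h1] at h8
    intro g
    have h9 := mem_centralizer_singleton_iff.1 (h8 (mem_top g))
    have : g * a1 * e2 = a1 * g * e2 := by
      calc g * a1 * e2 = g * (a1 * e2) := by group
        _ = a1 * e2 * g := h9
        _ = a1 * (g * e2) := by rw [h5' g]; group
        _ = a1 * g * e2 := by group
    exact mul_right_cancel this
  have h6' := mem_center_iff.1 h6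
  -- now `f1` is central
  have h7 : f1 ∈ center L := by
    have h8 : a2 * f1 * a2⁻¹ ∈ center L := by
      have := (center L).mul_mem ((center L).inv_mem h5) h3
      rwa [hz, ← mul_assoc, inv_mul_cancel, one_mul] at this
    have := hZ.conj_mem _ h8 a2⁻¹
    rwa [show a2⁻¹ * (a2 * f1 * a2⁻¹) * a2⁻¹⁻¹ = f1 by group] at this
  have h7' := mem_center_iff.1 h7
  have h8 : w ∈ center L := by
    have e7 : y * w * y⁻¹ = w * f1 := by rw [hf1]; group
    rw [mem_center_iff]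
    have h8 : Y' ⊔ cj y Y' ≤ centralizer ({w * f1} : Set L) := by
      apply sup_le
      · intro x hx
        rw [mem_centralizer_singleton_iff]
        have := F'.comm x hx _ hw.1
        calc x * (w * f1) = (x * w) * f1 := by group
          _ = w * (x * f1) := by rw [this]; group
          _ = w * f1 * x := by rw [h7' x]; group
      · intro x hx
        rw [mem_centralizer_singleton_iff, ← e7]
        exact (F'.cjF y).comm x hx _ (cj_mem hw.1)
    rw [h2] at h8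
    intro g
    have h9 := mem_centralizer_singleton_iff.1 (h8 (mem_top g))
    have : g * w * f1 = w * g * f1 := by
      calc g * w * f1 = g * (w * f1) := by group
        _ = w * f1 * g := h9
        _ = w * (g * f1) := by rw [h7' g]; group
        _ = w * g * f1 := by group
    exact mul_right_cancel this
  have h9 : a2 ∈ center L := by
    have := (center L).mul_mem ((center L).inv_mem h5) h8
    rwa [hwdef, ← mul_assoc, inv_mul_cancel, one_mul] at this
  exact (center L).mul_mem h6 h9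

end FL

end CfsgLib.FrL
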