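import Mathlib
import Cfsg.Agent.LibFrL1

set_option autoImplicit false

/-! Members of the family of `Y`-minimal subgroups: products of two `p`-elements (helper1). -/

namespace CfsgLib.FrL

open Cfsg Subgroup CfsgLib.Cores
open scoped Pointwise

universe u

variable {L : Type u} [Group L]

theorem isPGroup_cj {p : ℕ} {Y : Subgroup L} (g : L) (h : IsPGroup p Y) : IsPGroup p (cj g Y) := h.map _

/-- the condition needed to control non-generation -/
def HN (p : ℕ) (Y : Subgroup L) : Prop :=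
  ∀ (g y g' : L), y ∈ cj g' Y → cj y (cj g Y) ≤ normalizer ((cj g Y : Subgroup L) : Set L) →
    ∃ P : Subgroup L, IsPGroup p P ∧ cj g Y ≤ P ∧ y ∈ P

theorem le_normalizer_of_cj [Finite L] {y : L} {Q : Subgroup L} (h : cj y Q ≤ Q) : y ∈ normalizer (Q : Set L) := by
  have h1 : cj y Q = Q := by
    apply SetLike.coe_injective
    apply Set.eq_of_subset_of_ncard_le h
    have h2 : Set.ncard (Q : Set L) = Nat.card Q := rfl
    have h3 : Set.ncard ((cj y Q : Subgroup L) : Set L) = Nat.card (cj y Q : Subgroup L) := rfl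
    rw [h2, h3]
    exact (Nat.card_congr (Q.equivMapOfInjective _ (MulAut.conj y).injective).toEquiv).le
  rw [mem_normalizer_iff]
  intro x
  constructor
  · intro hx
    have : y * x * y⁻¹ ∈ cj y Q := cj_mem hx
    rwa [h1] at this
  · intro hx
    have : y * x * y⁻¹ ∈ cj y Q := by rw [h1]; exact hx
    rw [mem_cj] at this
    rwa [show y⁻¹ * (y * x * y⁻¹) * y = x by group] at this

theorem zpowers_isPGroup {p : ℕ} {y : L} (h : ∃ k : ℕ, y ^ p ^ k = 1) : IsPGroup p (zpowers y) := by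
  obtain ⟨k, hk⟩ := h
  rintro ⟨x, hx⟩
  obtain ⟨i, rfl⟩ := mem_zpowers_iff.1 hx
  refine ⟨k, ?_⟩
  apply Subtype.ext
  show (y ^ i) ^ p ^ k = 1
  rw [← zpow_natCast, ← zpow_mul, mul_comm, zpow_mul, zpow_natCast, hk, one_zpow]

namespace FL

variable {p : ℕ} {A Y : Subgroup L}

theorem isP (F : FL p A Y) : IsPGroup p Y := by
  rintro ⟨x, hx⟩
  exact ⟨1, Subtype.ext (by rw [pow_one]; exact F.exp x hx)⟩

theorem isPA [Finite L] (F : FL p A Y) : IsPGroup p A := by rw [F.hA]; exact pCore_isPGroup p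

theorem HN_two [Finite L] (F : FL 2 A Y) : HN 2 Y := by
  intro g y g' hy h
  have F1 := F.cjF g
  have F2 := F.cjF g'
  have hyy : y * y = 1 := by rw [← pow_two]; exact F2.exp y hy
  have hyi : y⁻¹ = y := inv_eq_of_mul_eq_one_left hyy
  set Y1 := cj g Y with hY1
  have hQ : IsPGroup 2 (Y1 ⊔ cj y Y1 : Subgroup L) := IsPGroup.to_sup_of_normal_left' F1.isP (isPGroup_cj y F1.isP) h
  have hn : y ∈ normalizer ((Y1 ⊔ cj y Y1 : Subgroup L) : Set L) := by
    apply le_normalizer_of_cj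
    show (Y1 ⊔ cj y Y1).map _ ≤ _
    rw [Subgroup.map_sup]
    apply sup_le
    · exact le_sup_right
    · have : cj y (cj y Y1) = Y1 := by rw [cj_cj, hyy, cj_one]
      show cj y (cj y Y1) ≤ _
      rw [this]; exact le_sup_left
  refine ⟨(Y1 ⊔ cj y Y1) ⊔ zpowers y, ?_, le_sup_left.trans le_sup_left, mem_sup_right (mem_zpowers y)⟩
  apply IsPGroup.to_sup_of_normal_left' hQ (zpowers_isPGroup ⟨1, by rw [pow_one]; exact F2.exp y hy⟩)
  rw [zpowers_le]; exact hn

theorem HN_sylow [Finite L] (F : FL p A Y) (hS : ∀ P : Subgroup L, IsPGroup p P → Y ⊔ A ≤ P → P = Y ⊔ A) : HN p Y := by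
  intro g y g' hy h
  have F1 := F.cjF g
  have F2 := F.cjF g'
  have hAn := F.An
  set Y1 := cj g Y with hY1
  have hS1 : ∀ P : Subgroup L, IsPGroup p P → Y1 ⊔ A ≤ P → P = Y1 ⊔ A := by
    intro P hP hle
    have h1 : cj g⁻¹ P = Y ⊔ A := by
      apply hS _ (isPGroup_cj _ hP)
      have := cj_mono (g := g⁻¹) hle
      have e : cj g⁻¹ (Y1 ⊔ A) = Y ⊔ A := by
        show (Y1 ⊔ A).map _ = _
        rw [Subgroup.map_sup]
        show cj g⁻¹ Y1 ⊔ cj g⁻¹ A = Y ⊔ A
        rw [hY1, cj_cj, inv_mul_cancel, cj_one, cj_normal hAn]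
      rwa [e] at this
    have h2 := congrArg (cj g) h1
    rw [cj_cj, mul_inv_cancel, cj_one] at h2
    rw [h2]
    show (Y ⊔ A).map _ = _
    rw [Subgroup.map_sup]
    show cj g Y ⊔ cj g A = _
    rw [cj_normal hAn]
  have hQ : IsPGroup p (Y1 ⊔ cj y Y1 : Subgroup L) := IsPGroup.to_sup_of_normal_left' F1.isP (isPGroup_cj y F1.isP) h
  have hQA : IsPGroup p ((Y1 ⊔ cj y Y1) ⊔ A : Subgroup L) := IsPGroup.to_sup_of_normal_right hQ F.isPA
  have e1 := hS1 _ hQA (sup_le (le_sup_left.trans le_sup_left) le_sup_right)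
  have hn : y ∈ normalizer ((Y1 ⊔ A : Subgroup L) : Set L) := by
    apply le_normalizer_of_cj
    show (Y1 ⊔ A).map _ ≤ _
    rw [Subgroup.map_sup]
    apply sup_le
    · conv_rhs => rw [← e1]
      exact le_sup_right.trans le_sup_left
    · show cj y A ≤ _
      rw [cj_normal hAn]; exact le_sup_right
  have h3 : IsPGroup p (Y1 ⊔ A : Subgroup L) := IsPGroup.to_sup_of_normal_right F1.isP F.isPA
  refine ⟨(Y1 ⊔ A) ⊔ zpowers y, ?_, le_sup_left.trans le_sup_left, mem_sup_right (mem_zpowers y)⟩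
  apply IsPGroup.to_sup_of_normal_left' h3 (zpowers_isPGroup ⟨1, by rw [pow_one]; exact F2.exp y hy⟩)
  rw [zpowers_le]; exact hn

/-- elements whose order is not a power of `p` and which are products of two elements of conjugates of `Y` modulo `A`
act without fixed points -/
theorem prodfix [Finite L] [Fact p.Prime] (F : FL p A Y) (hHN : HN p Y) {g g' y y' α h : L} (hy : y ∈ cj g Y) (hy' : y' ∈ cj g' Y)
    (hα : α ∈ A) (hh : h = y * y' * α) (hnp : ¬ ∃ k : ℕ, orderOf h = p ^ k) {a : L} (ha : a ∈ A)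
    (hfix : h * a * h⁻¹ * a⁻¹ ∈ center L) : a ∈ center L := by
  have hAn := F.An
  have F1 := F.cjF g
  have F2 := F.cjF g'
  have key : ∀ P : Subgroup L, IsPGroup p P → y ∈ P → y' ∈ P → False := by
    intro P hP h1 h2
    have hPA : IsPGroup p (P ⊔ A : Subgroup L) := IsPGroup.to_sup_of_normal_right hP F.isPA
    have h3 : h ∈ P ⊔ A := by
      rw [hh]; exact mul_mem_sup (P.mul_mem h1 h2) hα
    obtain ⟨k, hk⟩ := (IsPGroup.iff_orderOf.1 hPA) ⟨h, h3⟩
    exact hnp ⟨k, by rw [← hk]; exact (Subgroup.orderOf_mk h h3).symm⟩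
  have h12 : cj g Y ⊔ cj g' Y = ⊤ := by
    by_contra hne
    have h1 := F1.uniq _ le_sup_left hne
    have h2 : cj g' Y ≤ normalizer ((cj g Y : Subgroup L) : Set L) := le_sup_right.trans h1
    exact key _ (IsPGroup.to_sup_of_normal_left' F1.isP F2.isP h2) (mem_sup_left hy) (mem_sup_right hy')
  have h1 : cj g Y ⊔ cj y' (cj g Y) = ⊤ := by
    by_contra hne
    have h1 := F1.uniq _ le_sup_left hne
    obtain ⟨P, hP, h2, h3⟩ := hHN g y' g' hy' (le_sup_right.trans h1)
    exact key P hP (h2 hy) h3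
  have h2 : cj g' Y ⊔ cj y (cj g' Y) = ⊤ := by
    by_contra hne
    have h1 := F2.uniq _ le_sup_left hne
    obtain ⟨P, hP, h2, h3⟩ := hHN g' y g hy (le_sup_right.trans h1)
    exact key P hP h3 (h2 hy')
  rw [hh] at hfix
  exact F1.fpf F2 h12 hy hy' h1 h2 hα ha hfix

/-- a proper conjugate pair -/
theorem exists_gen (F : FL p A Y) : ∃ g : L, Y ⊔ cj g Y = ⊤ := by
  by_contra hcon
  push Not at hcon
  apply F.nY
  rw [eq_top_iff, ← F.ngen]
  have h1 : ∀ g : L, cj g Y ≤ normalizer (Y : Set L) := fun g => le_sup_right.trans (F.uniq _ le_sup_left (hcon g))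
  rw [normalClosure, closure_le]
  intro x hx
  rw [Group.mem_conjugatesOfSet_iff] at hx
  obtain ⟨y, hy, hc⟩ := hx
  obtain ⟨c, rfl⟩ := isConj_iff.1 hc
  exact h1 c (cj_mem hy)

theorem nYA (F : FL p A Y) : normalizer ((Y ⊔ A : Subgroup L) : Set L) ≤ normalizer (Y : Set L) := by
  apply F.uniq _ (le_sup_left.trans le_normalizer)
  intro h
  have h1 : (Y ⊔ A).Normal := normalizer_eq_top_iff.1 h
  have h2 : normalClosure (Y : Set L) ≤ Y ⊔ A := normalClosure_le_normal (fun x hx => mem_sup_left hx)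
  rw [F.ngen, top_le_iff] at h2
  apply F.nY
  rw [eq_top_iff, ← h2]
  exact sup_le le_normalizer F.hAN

theorem not_le (F : FL p A Y) : ¬ Y ≤ A := by
  intro h
  have h2 : normalClosure (Y : Set L) ≤ A := by
    have := F.An
    exact normalClosure_le_normal h
  rw [F.ngen, top_le_iff] at h2
  apply F.nY
  rw [eq_top_iff, ← h2]
  exact F.hAN

end FL

end CfsgLib.FrL
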