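import Mathlib
import Cfsg.Agent.LibFrL2

set_option autoImplicit false

/-! Members of the family of `Y`-minimal subgroups: `|Y A / A| = 2` (helper1). -/

namespace CfsgLib.FrL

open Cfsg Subgroup CfsgLib.Cores
open scoped Pointwise

universe u

section dih

variable {Q : Type u} [Group Q] {a b : Q}

theorem conj_ab (ha : a * a = 1) (hb : b * b = 1) (j : ℤ) : a * (a * b) ^ j * a⁻¹ = (a * b) ^ (-j) := by
  rw [← conj_zpow]
  have h : a * (a * b) * a⁻¹ = (a * b)⁻¹ := by
    rw [mul_inv_rev, inv_eq_of_mul_eq_one_left ha, inv_eq_of_mul_eq_one_left hb, ← mul_assoc, ha, one_mul]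
  rw [h, inv_zpow, zpow_neg]

theorem a_mul (ha : a * a = 1) (hb : b * b = 1) (j : ℤ) : a * (a * b) ^ j = (a * b) ^ (-j) * a := by
  rw [← conj_ab ha hb j]; group

theorem dih (ha : a * a = 1) (hb : b * b = 1) {q : Q} (hq : q ∈ closure ({a, b} : Set Q)) :
    ∃ i : ℤ, q = (a * b) ^ i ∨ q = (a * b) ^ i * a := by
  have hai : a⁻¹ = a := inv_eq_of_mul_eq_one_left ha
  induction hq using closure_induction with
  | mem x hx =>
    rcases hx with rfl | hx
    · exact ⟨0, Or.inr (by simp)⟩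
    · rw [Set.mem_singleton_iff] at hx
      subst hx
      refine ⟨-1, Or.inr ?_⟩
      rw [zpow_neg, zpow_one, mul_inv_rev, hai, inv_eq_of_mul_eq_one_left hb, mul_assoc, ha, mul_one]
  | one => exact ⟨0, Or.inl (by simp)⟩
  | mul x y _ _ hx hy =>
    obtain ⟨i, hi | hi⟩ := hx <;> obtain ⟨j, hj | hj⟩ := hy
    · exact ⟨i + j, Or.inl (by rw [hi, hj, zpow_add])⟩
    · exact ⟨i + j, Or.inr (by rw [hi, hj, zpow_add, mul_assoc])⟩
    · refine ⟨i - j, Or.inr ?_⟩
      rw [hi, hj, mul_assoc, a_mul ha hb, ← mul_assoc, ← zpow_add, sub_eq_add_neg]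
    · refine ⟨i - j, Or.inl ?_⟩
      rw [hi, hj]
      calc (a * b) ^ i * a * ((a * b) ^ j * a) = (a * b) ^ i * (a * (a * b) ^ j) * a := by group
        _ = (a * b) ^ i * (a * b) ^ (-j) * (a * a) := by rw [a_mul ha hb]; group
        _ = (a * b) ^ (i - j) := by rw [ha, mul_one, ← zpow_add, sub_eq_add_neg]
  | inv x _ hx =>
    obtain ⟨i, hi | hi⟩ := hx
    · exact ⟨-i, Or.inl (by rw [hi, zpow_neg])⟩
    · refine ⟨i, Or.inr ?_⟩
      rw [hi, mul_inv_rev, hai, ← zpow_neg, a_mul ha hb, neg_neg]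

end dih

variable {L : Type u} [Group L]

namespace FL

variable {A Y : Subgroup L}

theorem frame_two [Finite L] (F : FL 2 A Y) {t : L} (ht : t ∈ Y) (hY : ∀ y ∈ Y, y ∈ A ∨ t⁻¹ * y ∈ A) :
    ∃ g : L, ∀ x : L, ∃ i : ℤ, ((t * (g * t * g⁻¹)) ^ i)⁻¹ * x ∈ A ∨ ((t * (g * t * g⁻¹)) ^ i * t)⁻¹ * x ∈ A := by
  have hAn := F.An
  obtain ⟨g, hg⟩ := F.exists_gen
  refine ⟨g, fun x => ?_⟩
  set t' := g * t * g⁻¹ with ht'
  have hY' : ∀ y ∈ cj g Y, y ∈ A ∨ t'⁻¹ * y ∈ A := by
    intro y hy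
    rw [mem_cj] at hy
    rcases hY _ hy with h | h
    · left
      have := hAn.conj_mem _ h g
      rwa [show g * (g⁻¹ * y * g) * g⁻¹ = y by group] at this
    · right
      have := hAn.conj_mem _ h g
      rwa [show g * (t⁻¹ * (g⁻¹ * y * g)) * g⁻¹ = t'⁻¹ * y by rw [ht']; group] at this
  have htt : t * t = 1 := by rw [← pow_two]; exact F.exp t ht
  have htt' : t' * t' = 1 := by
    rw [ht', show g * t * g⁻¹ * (g * t * g⁻¹) = g * (t * t) * g⁻¹ by group, htt]; group
  set Cl : Subgroup (L ⧸ A) := closure ({(QuotientGroup.mk t : L ⧸ A), (QuotientGroup.mk t' : L ⧸ A)} : Set (L ⧸ A)) with hCl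
  have hq : (QuotientGroup.mk x : L ⧸ A) ∈ Cl := by
    have h1 : Y ⊔ cj g Y ≤ Cl.comap (QuotientGroup.mk' A) := by
      apply sup_le
      · intro y hy
        show (QuotientGroup.mk y : L ⧸ A) ∈ Cl
        rcases hY y hy with h | h
        · rw [(QuotientGroup.eq_one_iff y).2 h]; exact one_mem _
        · rw [← (QuotientGroup.eq (s := A)).2 h, hCl]; exact subset_closure (Or.inl rfl)
      · intro y hy
        show (QuotientGroup.mk y : L ⧸ A) ∈ Cl
        rcases hY' y hy with h | h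
        · rw [(QuotientGroup.eq_one_iff y).2 h]; exact one_mem _
        · rw [← (QuotientGroup.eq (s := A)).2 h, hCl]; exact subset_closure (Or.inr rfl)
    rw [hg] at h1
    exact h1 (mem_top x)
  have h2 := dih (a := (QuotientGroup.mk t : L ⧸ A)) (b := QuotientGroup.mk t')
    (by rw [← QuotientGroup.mk_mul, htt, QuotientGroup.mk_one]) (by rw [← QuotientGroup.mk_mul, htt', QuotientGroup.mk_one]) hq
  obtain ⟨i, hi | hi⟩ := h2
  · refine ⟨i, Or.inl ?_⟩
    rw [← QuotientGroup.eq, QuotientGroup.mk_zpow, QuotientGroup.mk_mul]; exact hi.symm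
  · refine ⟨i, Or.inr ?_⟩
    rw [← QuotientGroup.eq, QuotientGroup.mk_mul, QuotientGroup.mk_zpow, QuotientGroup.mk_mul]; exact hi.symm

theorem pow_of_mem {p : ℕ} [Fact p.Prime] (hA : IsPGroup p A) {x : L} {k : ℕ} (h : x ^ p ^ k ∈ A) :
    ∃ n : ℕ, orderOf x = p ^ n := by
  obtain ⟨m, hm⟩ := hA ⟨_, h⟩
  have h1 : x ^ p ^ (k + m) = 1 := by
    have h2 := congrArg Subtype.val hm
    have h3 : (x ^ p ^ k) ^ p ^ m = 1 := h2
    rw [pow_add, pow_mul]; exact h3
  exact (Nat.dvd_prime_pow Fact.out).1 (orderOf_dvd_of_pow_eq_one h1) |>.imp (fun n hn => hn.2)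

theorem fix_two [Finite L] (F : FL 2 A Y) {t : L} (ht : t ∈ Y) (hY : ∀ y ∈ Y, y ∈ A ∨ t⁻¹ * y ∈ A)
    {h : L} (hnp : ¬ ∃ k : ℕ, orderOf h = 2 ^ k) {a : L} (ha : a ∈ A)
    (hfix : h * a * h⁻¹ * a⁻¹ ∈ center L) : a ∈ center L := by
  have hAn := F.An
  obtain ⟨g, hg⟩ := F.frame_two ht hY
  have htt : t * t = 1 := by rw [← pow_two]; exact F.exp t ht
  set t' := g * t * g⁻¹ with ht'
  have htt' : t' * t' = 1 := by
    rw [ht', show g * t * g⁻¹ * (g * t * g⁻¹) = g * (t * t) * g⁻¹ by group, htt]; group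
  haveI : Fact (Nat.Prime 2) := ⟨Nat.prime_two⟩
  obtain ⟨i, hi | hi⟩ := hg h
  swap
  · exfalso
    apply hnp
    set s := (t * t') ^ i * t with hs
    have hss : s * s = 1 := by
      calc s * s = (t * t') ^ i * (t * (t * t') ^ i) * t := by rw [hs]; group
        _ = (t * t') ^ i * (t * t') ^ (-i) * (t * t) := by rw [a_mul htt htt']; group
        _ = 1 := by rw [htt, mul_one, ← zpow_add, add_neg_cancel, zpow_zero]
    have h1 : h ^ 2 ^ 1 ∈ A := by
      rw [pow_one, ← QuotientGroup.eq_one_iff (N := A), QuotientGroup.mk_pow, ← (QuotientGroup.eq (s := A)).2 hi, pow_two,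
        ← QuotientGroup.mk_mul, hss, QuotientGroup.mk_one]
    exact pow_of_mem F.isPA h1
  · rcases Int.even_or_odd' i with ⟨j, hj | hj⟩
    · refine F.prodfix F.HN_two (g := (t * t') ^ j) (g' := 1) (y := (t * t') ^ j * t * ((t * t') ^ j)⁻¹) (y' := t)
        (cj_mem ht) (by rw [cj_one]; exact ht) hi ?_ hnp ha hfix
      have e1 : (t * t') ^ j * t * ((t * t') ^ j)⁻¹ * t = (t * t') ^ i := by
        rw [← zpow_neg, mul_assoc ((t * t') ^ j) t, a_mul htt htt', neg_neg, hj]
        calc (t * t') ^ j * ((t * t') ^ j * t) * t = (t * t') ^ j * (t * t') ^ j * (t * t) := by group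
          _ = (t * t') ^ (2 * j) := by rw [htt, mul_one, ← zpow_add, two_mul]
      rw [e1]; group
    · refine F.prodfix F.HN_two (g := (t * t') ^ j * t * g) (g' := 1)
        (y := (t * t') ^ j * t * g * t * ((t * t') ^ j * t * g)⁻¹) (y' := t)
        (cj_mem ht) (by rw [cj_one]; exact ht) hi ?_ hnp ha hfix
      have e1 : (t * t') ^ j * t * g * t * ((t * t') ^ j * t * g)⁻¹ * t = (t * t') ^ i := by
        calc (t * t') ^ j * t * g * t * ((t * t') ^ j * t * g)⁻¹ * t
            = (t * t') ^ j * (t * t') * (t⁻¹ * (t * t') ^ (-j)) * t := by rw [ht']; group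
          _ = (t * t') ^ j * (t * t') * (t * (t * t') ^ (-j)) * t := by rw [inv_eq_of_mul_eq_one_left htt]
          _ = (t * t') ^ j * (t * t') * (t * t') ^ j * (t * t) := by rw [a_mul htt htt', neg_neg]; group
          _ = (t * t') ^ (2 * j + 1) := by
              rw [htt, mul_one]
              have : (t * t') ^ j * (t * t') * (t * t') ^ j = (t * t') ^ j * (t * t') ^ (1 : ℤ) * (t * t') ^ j := by rw [zpow_one]
              rw [this, ← zpow_add, ← zpow_add]; congr 1; ring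
          _ = (t * t') ^ i := by rw [hj]
      rw [e1]; group

/-- the normaliser is as small as possible -/
theorem norm_two [Finite L] (F : FL 2 A Y) {t : L} (ht : t ∈ Y) (hY : ∀ y ∈ Y, y ∈ A ∨ t⁻¹ * y ∈ A) :
    normalizer (Y : Set L) ≤ Y ⊔ A := by
  have hAn := F.An
  obtain ⟨g, hg⟩ := F.frame_two ht hY
  have htt : t * t = 1 := by rw [← pow_two]; exact F.exp t ht
  set t' := g * t * g⁻¹ with ht'
  have htt' : t' * t' = 1 := by
    rw [ht', show g * t * g⁻¹ * (g * t * g⁻¹) = g * (t * t) * g⁻¹ by group, htt]; group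
  have htA : t ∉ A := by
    intro h
    apply F.not_le
    intro y hy
    rcases hY y hy with h1 | h1
    · exact h1
    · have := A.mul_mem h h1
      rwa [mul_inv_cancel_left] at this
  haveI : Fact (Nat.Prime 2) := ⟨Nat.prime_two⟩
  -- rotations commuting with `t` are trivial modulo `A`
  have rot : ∀ i : ℤ, t⁻¹ * ((t * t') ^ i * t * ((t * t') ^ i)⁻¹) ∈ A → (t * t') ^ i ∈ A := by
    intro i hi
    set s := (t * t') ^ i with hs
    set q : L ⧸ A := QuotientGroup.mk s with hq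
    set qa : L ⧸ A := QuotientGroup.mk t with hqa
    have c1 : qa * q = q * qa := by
      have h1 := (QuotientGroup.eq (s := A)).2 hi
      rw [QuotientGroup.mk_mul, QuotientGroup.mk_mul, QuotientGroup.mk_inv] at h1
      rw [← hq, ← hqa] at h1
      calc qa * q = (q * qa * q⁻¹) * q := by rw [← h1]
        _ = q * qa := by group
    have c2 : q * q = 1 := by
      have h1 : t * s = s⁻¹ * t := by rw [hs, a_mul htt htt', zpow_neg]
      have h2 := congrArg (QuotientGroup.mk : L → L ⧸ A) h1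
      rw [QuotientGroup.mk_mul, QuotientGroup.mk_mul, QuotientGroup.mk_inv, ← hq, ← hqa, c1] at h2
      have h3 := mul_right_cancel h2
      calc q * q = q⁻¹ * q := by rw [← h3]
        _ = 1 := by group
    have c3 : ∀ x : L ⧸ A, x * q * x⁻¹ = q := by
      intro x
      obtain ⟨x, rfl⟩ := QuotientGroup.mk_surjective x
      have c4 : ∀ j : ℤ, (QuotientGroup.mk ((t * t') ^ j) : L ⧸ A) * q = q * QuotientGroup.mk ((t * t') ^ j) := by
        intro j
        rw [hq, hs, ← QuotientGroup.mk_mul, ← QuotientGroup.mk_mul, ← zpow_add, ← zpow_add, add_comm]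
      rw [mul_inv_eq_iff_eq_mul]
      obtain ⟨j, hj | hj⟩ := hg x
      · rw [← (QuotientGroup.eq (s := A)).2 hj]; exact c4 j
      · rw [← (QuotientGroup.eq (s := A)).2 hj, QuotientGroup.mk_mul, mul_assoc, c1, ← mul_assoc, c4 j, mul_assoc]
    have hn : (zpowers q).Normal := by
      refine ⟨fun x hx g => ?_⟩
      obtain ⟨k, rfl⟩ := mem_zpowers_iff.1 hx
      rw [← conj_zpow, c3]
      exact hx
    have h4 : zpowers q ≤ pCore 2 (L ⧸ A) := le_pCore hn (zpowers_isPGroup ⟨1, by rw [pow_one, pow_two, c2]⟩)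
    have h5 : pCore 2 (L ⧸ A) = ⊥ := by
      have hA := F.hA
      subst hA
      exact pCore_quotient_pCore 2
    rw [h5] at h4
    have h6 := h4 (mem_zpowers q)
    rw [mem_bot, hq, QuotientGroup.eq_one_iff] at h6
    exact h6
  intro x hx
  -- `x t x⁻¹ ≡ t`
  have h1 : t⁻¹ * (x * t * x⁻¹) ∈ A := by
    have h2 : x * t * x⁻¹ ∈ Y := (mem_normalizer_iff.1 hx t).1 ht
    rcases hY _ h2 with h3 | h3
    · exfalso
      apply htA
      have := hAn.conj_mem _ h3 x⁻¹
      rwa [show x⁻¹ * (x * t * x⁻¹) * x⁻¹⁻¹ = t by group] at this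
    · exact h3
  obtain ⟨i, hi | hi⟩ := hg x
  · have h2 : (t * t') ^ i ∈ A := by
      apply rot
      rw [← QuotientGroup.eq] at h1 hi ⊢
      rw [h1]
      simp only [QuotientGroup.mk_mul, QuotientGroup.mk_inv]
      rw [← hi]
    apply mem_sup_right
    have := A.mul_mem h2 hi
    rwa [mul_inv_cancel_left] at this
  · have h2 : (t * t') ^ i ∈ A := by
      apply rot
      rw [← QuotientGroup.eq] at h1 hi ⊢
      rw [h1]
      simp only [QuotientGroup.mk_mul, QuotientGroup.mk_inv] at hi ⊢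
      rw [← hi]; group
    have h3 : x = (t * t') ^ i * t * (((t * t') ^ i * t)⁻¹ * x) := by group
    rw [h3]
    apply Subgroup.mul_mem
    · exact Subgroup.mul_mem _ (mem_sup_right h2) (mem_sup_left ht)
    · exact mem_sup_right hi

end FL

end CfsgLib.FrL
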