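import Mathlib

/-! SL(2,F), F finite of odd order: elements with square -1; central products (helper22). -/

set_option autoImplicit false
set_option linter.all false

namespace CfsgLib.H22J

open Matrix Subgroup

section SL
variable {F : Type*} [Field F]

abbrev S2 (F : Type*) [Field F] := Matrix.SpecialLinearGroup (Fin 2) F

lemma ext2 {x y : S2 F} (h00 : x.1 0 0 = y.1 0 0) (h01 : x.1 0 1 = y.1 0 1) (h10 : x.1 1 0 = y.1 1 0)
    (h11 : x.1 1 1 = y.1 1 1) : x = y := by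
  apply Subtype.ext
  ext i j
  fin_cases i <;> fin_cases j
  · exact h00
  · exact h01
  · exact h10
  · exact h11

lemma det1 (x : S2 F) : x.1 0 0 * x.1 1 1 - x.1 0 1 * x.1 1 0 = 1 := by
  have := x.2
  rw [Matrix.det_fin_two] at this
  exact this

lemma mul00 (x y : S2 F) : (x * y).1 0 0 = x.1 0 0 * y.1 0 0 + x.1 0 1 * y.1 1 0 := by
  show (x.1 * y.1) 0 0 = _
  simp [Matrix.mul_apply, Fin.sum_univ_two]
lemma mul01 (x y : S2 F) : (x * y).1 0 1 = x.1 0 0 * y.1 0 1 + x.1 0 1 * y.1 1 1 := by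
  show (x.1 * y.1) 0 1 = _
  simp [Matrix.mul_apply, Fin.sum_univ_two]
lemma mul10 (x y : S2 F) : (x * y).1 1 0 = x.1 1 0 * y.1 0 0 + x.1 1 1 * y.1 1 0 := by
  show (x.1 * y.1) 1 0 = _
  simp [Matrix.mul_apply, Fin.sum_univ_two]
lemma mul11 (x y : S2 F) : (x * y).1 1 1 = x.1 1 0 * y.1 0 1 + x.1 1 1 * y.1 1 1 := by
  show (x.1 * y.1) 1 1 = _
  simp [Matrix.mul_apply, Fin.sum_univ_two]

lemma neg00 (x : S2 F) : (-x).1 0 0 = - x.1 0 0 := rfl
lemma neg01 (x : S2 F) : (-x).1 0 1 = - x.1 0 1 := rfl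
lemma neg10 (x : S2 F) : (-x).1 1 0 = - x.1 1 0 := rfl
lemma neg11 (x : S2 F) : (-x).1 1 1 = - x.1 1 1 := rfl
lemma one00 : (1 : S2 F).1 0 0 = 1 := rfl
lemma one01 : (1 : S2 F).1 0 1 = 0 := rfl
lemma one10 : (1 : S2 F).1 1 0 = 0 := rfl
lemma one11 : (1 : S2 F).1 1 1 = 1 := rfl

lemma fld_sq_one (h2 : (2 : F) ≠ 0) {a b c d : F} (hd : a * d - b * c = 1) (e00 : a * a + b * c = 1)
    (e01 : a * b + b * d = 0) (e10 : c * a + d * c = 0) (e11 : c * b + d * d = 1) :
    (a = 1 ∧ b = 0 ∧ c = 0 ∧ d = 1) ∨ (a = -1 ∧ b = 0 ∧ c = 0 ∧ d = -1) := by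
  have had : a = d := by
    have h1 : (a - d) * (a + d) = 0 := by linear_combination e00 - e11
    rcases mul_eq_zero.1 h1 with h | h
    · exact sub_eq_zero.1 h
    · exfalso
      apply h2
      have h3 : a = -d := by linear_combination h
      subst h3
      linear_combination -hd - e00
  subst had
  have hbc : b * c = 0 := by
    have : 2 * (b * c) = 0 := by linear_combination e00 - hd
    exact (mul_eq_zero.1 this).resolve_left h2
  have ha2 : a * a = 1 := by linear_combination e00 - hbc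
  have ha0 : a ≠ 0 := by intro h; rw [h] at ha2; simp at ha2
  have hb : b = 0 := by
    have : (2 * a) * b = 0 := by linear_combination e01
    exact (mul_eq_zero.1 this).resolve_left (mul_ne_zero h2 ha0)
  have hc : c = 0 := by
    have : (2 * a) * c = 0 := by linear_combination e10
    exact (mul_eq_zero.1 this).resolve_left (mul_ne_zero h2 ha0)
  rcases mul_self_eq_one_iff.1 ha2 with h | h
  · left; exact ⟨h, hb, hc, h⟩
  · right; exact ⟨h, hb, hc, h⟩

/-- square one: entries -/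
lemma sq_one (h2 : (2 : F) ≠ 0) (x : S2 F) (hx : x * x = 1) : x = 1 ∨ x = -1 := by
  have hd := det1 x
  have e00 := congrArg (fun m : S2 F => m.1 0 0) hx
  have e01 := congrArg (fun m : S2 F => m.1 0 1) hx
  have e10 := congrArg (fun m : S2 F => m.1 1 0) hx
  have e11 := congrArg (fun m : S2 F => m.1 1 1) hx
  simp only [mul00, mul01, mul10, mul11, one00, one01, one10, one11] at e00 e01 e10 e11
  rcases fld_sq_one h2 hd e00 e01 e10 e11 with ⟨h1, h2, h3, h4⟩ | ⟨h1, h2, h3, h4⟩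
  · left; exact ext2 h1 h2 h3 h4
  · right
    refine ext2 ?_ ?_ ?_ ?_
    · rw [h1]; rfl
    · rw [h2, neg01, one01, neg_zero]
    · rw [h3, neg10, one10, neg_zero]
    · rw [h4]; rfl

/-- the standard element with square -1 -/
def w : S2 F := ⟨!![0, -1; 1, 0], by simp [Matrix.det_fin_two]⟩

lemma w00 : (w : S2 F).1 0 0 = 0 := rfl
lemma w01 : (w : S2 F).1 0 1 = -1 := rfl
lemma w10 : (w : S2 F).1 1 0 = 1 := rfl
lemma w11 : (w : S2 F).1 1 1 = 0 := rfl

lemma w_sq : (w : S2 F) * w = -1 := by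
  refine ext2 ?_ ?_ ?_ ?_
  · rw [mul00, w00, w01, w10, neg00, one00]; ring
  · rw [mul01, w00, w01, w11, neg01, one01]; ring
  · rw [mul10, w00, w10, w11, neg10, one10]; ring
  · rw [mul11, w01, w10, w11, neg11, one11]; ring

lemma sum_sq [Fintype F] (hF : Odd (Fintype.card F)) (c : F) : ∃ a b : F, a ^ 2 + b ^ 2 = c := by
  obtain ⟨a, b, hab⟩ := @FiniteField.exists_root_sum_quadratic F _ _ _ (Polynomial.X ^ 2) (Polynomial.X ^ 2 - Polynomial.C c)
    (Polynomial.degree_X_pow 2) (Polynomial.degree_X_pow_sub_C (by decide) _) (Nat.odd_iff.1 hF)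
  refine ⟨a, b, ?_⟩
  rw [← sub_eq_zero]
  simp only [Polynomial.eval_C, Polynomial.eval_X, Polynomial.eval_pow, Polynomial.eval_sub] at hab
  linear_combination hab

/-- entries of an element of square -1 -/
lemma sq_neg_one {x : S2 F} (h2 : (2 : F) ≠ 0) (hx : x * x = -1) : x.1 1 1 = - x.1 0 0 := by
  have hd := det1 x
  have e00 := congrArg (fun m : S2 F => m.1 0 0) hx
  have e01 := congrArg (fun m : S2 F => m.1 0 1) hx
  have e10 := congrArg (fun m : S2 F => m.1 1 0) hx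
  have e11 := congrArg (fun m : S2 F => m.1 1 1) hx
  simp only [mul00, mul01, mul10, mul11, neg00, neg01, neg10, neg11, one00, one01, one10, one11] at e00 e01 e10 e11
  obtain ⟨a, ha⟩ : ∃ a, a = x.1 0 0 := ⟨_, rfl⟩
  obtain ⟨d, hd'⟩ : ∃ d, d = x.1 1 1 := ⟨_, rfl⟩
  rw [← ha, ← hd'] at hd ⊢
  rw [← ha] at e00
  rw [← hd'] at e11
  by_contra hne
  have h1 : a * (a + d) = 0 := by linear_combination e00 + hd
  have h3 : d * (a + d) = 0 := by linear_combination e11 + hd
  have hs : a + d ≠ 0 := by intro h; apply hne; linear_combination h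
  have ha0 := (mul_eq_zero.1 h1).resolve_right hs
  have hd0 := (mul_eq_zero.1 h3).resolve_right hs
  apply hs; rw [ha0, hd0, add_zero]

lemma exists_mk (p q r s : F) (h : p * s - q * r = 1) :
    ∃ g : S2 F, g.1 0 0 = p ∧ g.1 0 1 = q ∧ g.1 1 0 = r ∧ g.1 1 1 = s := by
  refine ⟨⟨!![p, q; r, s], ?_⟩, rfl, rfl, rfl, rfl⟩
  rw [Matrix.det_fin_two]
  exact h

lemma two_ne [Fintype F] (hF : Odd (Fintype.card F)) : (2 : F) ≠ 0 := by
  intro h
  have h1 : ringChar F = 2 := by
    have h2 : ringChar F ∣ 2 := by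
      rw [← CharP.cast_eq_zero_iff F (ringChar F)]
      exact_mod_cast h
    rcases (Nat.dvd_prime Nat.prime_two).1 h2 with h3 | h3
    · exfalso
      have := CharP.char_ne_one F (ringChar F)
      exact this h3
    · exact h3
  have h4 := FiniteField.even_card_of_char_two h1
  rw [Nat.odd_iff] at hF
  omega

/-- every element of square -1 is conjugate to `w` -/
lemma conj_w [Fintype F] (hF : Odd (Fintype.card F)) {x : S2 F} (hx : x * x = -1) : ∃ g : S2 F, x * g = g * w := by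
  have h2 := two_ne hF
  have h11 := sq_neg_one h2 hx
  have hd := det1 x
  obtain ⟨a, ha⟩ : ∃ a, a = x.1 0 0 := ⟨_, rfl⟩
  obtain ⟨b, hb⟩ : ∃ b, b = x.1 0 1 := ⟨_, rfl⟩
  obtain ⟨c, hc⟩ : ∃ c, c = x.1 1 0 := ⟨_, rfl⟩
  rw [h11, ← ha, ← hb, ← hc] at hd
  have key : ∃ v1 v2 : F, v1 * (c * v1 - a * v2) - v2 * (a * v1 + b * v2) = 1 := by
    by_cases hc0 : c = 0
    · have ha0 : a ≠ 0 := by
        intro h; rw [h, hc0] at hd; simp at hd
      refine ⟨-(1 + b) / (2 * a), 1, ?_⟩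
      rw [hc0]
      field_simp
      ring
    · obtain ⟨X, Y, hXY⟩ := sum_sq hF c
      refine ⟨(X + a * Y) / c, Y, ?_⟩
      have hcc : c * (((X + a * Y) / c) * (c * ((X + a * Y) / c) - a * Y) - Y * (a * ((X + a * Y) / c) + b * Y)) = c := by
        have e : c * ((X + a * Y) / c) = X + a * Y := by field_simp
        calc c * (((X + a * Y) / c) * (c * ((X + a * Y) / c) - a * Y) - Y * (a * ((X + a * Y) / c) + b * Y))
            = (c * ((X + a * Y) / c)) * (c * ((X + a * Y) / c) - a * Y) - Y * (a * (c * ((X + a * Y) / c)) + b * c * Y) := by ring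
          _ = (X + a * Y) * (X + a * Y - a * Y) - Y * (a * (X + a * Y) + b * c * Y) := by rw [e]
          _ = X ^ 2 + Y ^ 2 * (- a * a - b * c) := by ring
          _ = c := by
              have : - a * a - b * c = 1 := by linear_combination hd
              rw [this, mul_one, hXY]
      have : c * ((((X + a * Y) / c) * (c * ((X + a * Y) / c) - a * Y) - Y * (a * ((X + a * Y) / c) + b * Y)) - 1) = 0 := by
        rw [mul_sub, hcc, mul_one, sub_self]
      have := (mul_eq_zero.1 this).resolve_left hc0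
      exact sub_eq_zero.1 this
  obtain ⟨v1, v2, hv⟩ := key
  obtain ⟨g, g00, g01, g10, g11⟩ := exists_mk v1 (a * v1 + b * v2) v2 (c * v1 - a * v2) (by linear_combination hv)
  have hd' : - a * a - b * c = 1 := by linear_combination hd
  refine ⟨g, ext2 ?_ ?_ ?_ ?_⟩
  · rw [mul00, mul00, w00, w10, ← ha, ← hb, g00, g01, g10]
    ring
  · rw [mul01, mul01, w01, w11, ← ha, ← hb, g00, g01, g11]
    linear_combination (- v1) * hd'
  · rw [mul10, mul10, w00, w10, h11, ← ha, ← hc, g00, g10, g11]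
    ring
  · rw [mul11, mul11, w01, w11, h11, ← ha, ← hc, g01, g10, g11]
    linear_combination (- v2) * hd'

lemma cent_w {a b : S2 F} (ha : a * w = w * a) (hb : b * w = w * b) : a * b = b * a := by
  have key : ∀ a : S2 F, a * w = w * a → a.1 1 1 = a.1 0 0 ∧ a.1 0 1 = - a.1 1 0 := by
    intro a ha
    have e00 := congrArg (fun m : S2 F => m.1 0 0) ha
    have e01 := congrArg (fun m : S2 F => m.1 0 1) ha
    simp only [mul00, mul01, w00, w01, w10, w11] at e00 e01
    constructor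
    · linear_combination e01
    · linear_combination e00
  obtain ⟨a1, a2⟩ := key a ha
  obtain ⟨b1, b2⟩ := key b hb
  refine ext2 ?_ ?_ ?_ ?_
  · rw [mul00, mul00, a2, b2]; ring
  · rw [mul01, mul01, a2, b2, a1, b1]; ring
  · rw [mul10, mul10, a1, b1]; ring
  · rw [mul11, mul11, a2, b2, a1, b1]; ring

lemma conj_all [Fintype F] (hF : Odd (Fintype.card F)) {x y : S2 F} (hx : x * x = -1) (hy : y * y = -1) :
    ∃ g : S2 F, g * x * g⁻¹ = y := by
  obtain ⟨g, hg⟩ := conj_w hF hx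
  obtain ⟨h, hh⟩ := conj_w hF hy
  refine ⟨h * g⁻¹, ?_⟩
  have h1 : g⁻¹ * x * g = w := by rw [mul_assoc, hg, ← mul_assoc, inv_mul_cancel, one_mul]
  have h2 : h * w * h⁻¹ = y := by rw [← hh, mul_assoc, mul_inv_cancel, mul_one]
  rw [← h2, ← h1]; group

lemma cent_all [Fintype F] (hF : Odd (Fintype.card F)) {x : S2 F} (hx : x * x = -1) {a b : S2 F}
    (ha : a * x = x * a) (hb : b * x = x * b) : a * b = b * a := by
  obtain ⟨g, hg⟩ := conj_w hF hx
  have h1 : w = g⁻¹ * x * g := by rw [mul_assoc, hg, ← mul_assoc, inv_mul_cancel, one_mul]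
  have key : ∀ a : S2 F, a * x = x * a → (g⁻¹ * a * g) * w = w * (g⁻¹ * a * g) := by
    intro a ha
    rw [h1]
    calc g⁻¹ * a * g * (g⁻¹ * x * g) = g⁻¹ * (a * x) * g := by group
      _ = g⁻¹ * (x * a) * g := by rw [ha]
      _ = _ := by group
  have := cent_w (key a ha) (key b hb)
  calc a * b = g * ((g⁻¹ * a * g) * (g⁻¹ * b * g)) * g⁻¹ := by group
    _ = g * ((g⁻¹ * b * g) * (g⁻¹ * a * g)) * g⁻¹ := by rw [this]
    _ = b * a := by group

end SL

/-- abstract properties of a subgroup isomorphic to `SL(2,q)`, q odd, with central involution `j` -/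
structure QS {G : Type*} [Group G] (L : Subgroup G) (j : G) : Prop where
  mem : j ∈ L
  jj : j * j = 1
  j1 : j ≠ 1
  uniq : ∀ x ∈ L, x * x = 1 → x = 1 ∨ x = j
  conj : ∀ x ∈ L, ∀ y ∈ L, x * x = j → y * y = j → ∃ a ∈ L, a * x * a⁻¹ = y
  ex : ∃ x ∈ L, x * x = j
  comm : ∀ x ∈ L, x * x = j → ∀ a ∈ L, ∀ b ∈ L, a * x = x * a → b * x = x * b → a * b = b * a
  cen : ∀ x ∈ L, x * j = j * x

theorem QS.of_equiv {G : Type*} [Group G] {F : Type*} [Field F] [Fintype F] (hF : Odd (Fintype.card F))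
    {L : Subgroup G} (e : ↥L ≃* Matrix.SpecialLinearGroup (Fin 2) F) {j : G} (hj : orderOf j = 2) (hjL : j ∈ L) :
    QS L j := by
  have h2 := two_ne hF
  have hjj : j * j = 1 := by have := pow_orderOf_eq_one j; rw [hj, pow_two] at this; exact this
  have hj1 : j ≠ 1 := by intro h; rw [h, orderOf_one] at hj; omega
  have hej : e ⟨j, hjL⟩ = -1 := by
    have h1 : e ⟨j, hjL⟩ * e ⟨j, hjL⟩ = 1 := by
      rw [← map_mul]
      have : (⟨j, hjL⟩ : ↥L) * ⟨j, hjL⟩ = 1 := Subtype.ext hjj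
      rw [this, map_one]
    rcases sq_one h2 _ h1 with h | h
    · exfalso
      apply hj1
      have : (⟨j, hjL⟩ : ↥L) = 1 := by
        apply e.injective; rw [h, map_one]
      exact congrArg Subtype.val this
    · exact h
  have sqj : ∀ x (hx : x ∈ L), x * x = j → e ⟨x, hx⟩ * e ⟨x, hx⟩ = -1 := by
    intro x hx h
    rw [← hej, ← map_mul]
    congr 1
    exact Subtype.ext h
  refine ⟨hjL, hjj, hj1, ?_, ?_, ?_, ?_, ?_⟩
  · intro x hx h
    have h1 : e ⟨x, hx⟩ * e ⟨x, hx⟩ = 1 := by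
      rw [← map_mul]
      have : (⟨x, hx⟩ : ↥L) * ⟨x, hx⟩ = 1 := Subtype.ext h
      rw [this, map_one]
    rcases sq_one h2 _ h1 with h | h
    · left
      have : (⟨x, hx⟩ : ↥L) = 1 := by
        apply e.injective; rw [h, map_one]
      exact congrArg Subtype.val this
    · right
      have : (⟨x, hx⟩ : ↥L) = ⟨j, hjL⟩ := by
        apply e.injective; rw [h, hej]
      exact congrArg Subtype.val this
  · intro x hx y hy h1 h2
    obtain ⟨g, hg⟩ := conj_all hF (sqj x hx h1) (sqj y hy h2)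
    refine ⟨(e.symm g : ↥L), (e.symm g).2, ?_⟩
    have : (e.symm g) * ⟨x, hx⟩ * (e.symm g)⁻¹ = (⟨y, hy⟩ : ↥L) := by
      apply e.injective
      rw [map_mul, map_mul, map_inv, e.apply_symm_apply, hg]
    exact congrArg Subtype.val this
  · refine ⟨(e.symm w : ↥L), (e.symm w).2, ?_⟩
    have : (e.symm w) * (e.symm w) = (⟨j, hjL⟩ : ↥L) := by
      apply e.injective
      rw [map_mul, e.apply_symm_apply, w_sq, hej]
    exact congrArg Subtype.val this
  · intro x hx hxx a ha b hb hax hbx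
    have key : ∀ a (ha : a ∈ L), a * x = x * a → e ⟨a, ha⟩ * e ⟨x, hx⟩ = e ⟨x, hx⟩ * e ⟨a, ha⟩ := by
      intro a ha h
      rw [← map_mul, ← map_mul]
      congr 1
      exact Subtype.ext h
    have h3 := cent_all hF (sqj x hx hxx) (key a ha hax) (key b hb hbx)
    have : (⟨a, ha⟩ : ↥L) * ⟨b, hb⟩ = ⟨b, hb⟩ * ⟨a, ha⟩ := by
      apply e.injective
      rw [map_mul, map_mul, h3]
    exact congrArg Subtype.val this
  · intro x hx
    have : (⟨x, hx⟩ : ↥L) * ⟨j, hjL⟩ = ⟨j, hjL⟩ * ⟨x, hx⟩ := by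
      apply e.injective
      rw [map_mul, map_mul, hej]
      simp
    exact congrArg Subtype.val this

section Central
variable {G : Type*} [Group G] {L₁ L₂ : Subgroup G} {j : G}

lemma mem_sup_comm (hc : ∀ x ∈ L₁, ∀ y ∈ L₂, x * y = y * x) {g : G} :
    g ∈ L₁ ⊔ L₂ ↔ ∃ a ∈ L₁, ∃ b ∈ L₂, g = a * b := by
  constructor
  · intro hg
    let K : Subgroup G :=
      { carrier := {g | ∃ a ∈ L₁, ∃ b ∈ L₂, g = a * b}
        mul_mem' := by
          rintro x y ⟨a, ha, b, hb, rfl⟩ ⟨a', ha', b', hb', rfl⟩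
          refine ⟨a * a', mul_mem ha ha', b * b', mul_mem hb hb', ?_⟩
          calc a * b * (a' * b') = a * (b * a') * b' := by group
            _ = a * (a' * b) * b' := by rw [hc a' ha' b hb]
            _ = a * a' * (b * b') := by group
        one_mem' := ⟨1, one_mem _, 1, one_mem _, (mul_one 1).symm⟩
        inv_mem' := by
          rintro x ⟨a, ha, b, hb, rfl⟩
          refine ⟨a⁻¹, inv_mem ha, b⁻¹, inv_mem hb, ?_⟩
          rw [_root_.mul_inv_rev, hc a⁻¹ (inv_mem ha) b⁻¹ (inv_mem hb)] }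
    have : L₁ ⊔ L₂ ≤ K := sup_le (fun a ha => ⟨a, ha, 1, one_mem _, (mul_one a).symm⟩)
      (fun b hb => ⟨1, one_mem _, b, hb, (one_mul b).symm⟩)
    exact this hg
  · rintro ⟨a, ha, b, hb, rfl⟩
    exact mul_mem (le_sup_left (b := L₂) ha) (le_sup_right (a := L₁) hb)

lemma inter (hjj : j * j = 1) (hm : L₁ ⊓ L₂ = Subgroup.zpowers j) {x : G} (h1 : x ∈ L₁) (h2 : x ∈ L₂) : x = 1 ∨ x = j := by
  have : x ∈ L₁ ⊓ L₂ := ⟨h1, h2⟩
  rw [hm] at this
  obtain ⟨k, hk⟩ := Subgroup.mem_zpowers_iff.1 this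
  rcases Int.even_or_odd' k with ⟨i, hi | hi⟩
  · left
    rw [← hk, hi, _root_.zpow_mul, zpow_ofNat, pow_two, hjj, _root_.one_zpow]
  · right
    rw [← hk, hi, _root_.zpow_add, _root_.zpow_mul, zpow_ofNat, pow_two, hjj, _root_.one_zpow, one_mul, zpow_one]

/-- involutions of the central product -/
lemma invol (q1 : QS L₁ j) (q2 : QS L₂ j) (hc : ∀ x ∈ L₁, ∀ y ∈ L₂, x * y = y * x)
    (hm : L₁ ⊓ L₂ = Subgroup.zpowers j) {t : G} (ht : t ∈ L₁ ⊔ L₂) (htt : t * t = 1) :
    t = 1 ∨ t = j ∨ ∃ x ∈ L₁, ∃ y ∈ L₂, t = x * y ∧ x * x = j ∧ y * y = j := by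
  obtain ⟨a, ha, b, hb, rfl⟩ := (mem_sup_comm hc).1 ht
  have h1 : a * a * (b * b) = 1 := by
    rw [← htt]
    calc a * a * (b * b) = a * (a * b) * b := by group
      _ = a * (b * a) * b := by rw [hc a ha b hb]
      _ = _ := by group
  have h2 : a * a = (b * b)⁻¹ := by rw [eq_inv_iff_mul_eq_one]; exact h1
  have h3 : a * a ∈ L₂ := by rw [h2]; exact inv_mem (mul_mem hb hb)
  rcases inter q1.jj hm (mul_mem ha ha) h3 with h4 | h4
  · have h5 : b * b = 1 := by rw [h4, one_mul] at h1; exact h1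
    rcases q1.uniq a ha h4 with ha' | ha' <;> rcases q2.uniq b hb h5 with hb' | hb' <;> rw [ha', hb']
    · left; rw [mul_one]
    · right; left; rw [one_mul]
    · right; left; rw [mul_one]
    · left; exact q1.jj
  · right; right
    refine ⟨a, ha, b, hb, rfl, h4, ?_⟩
    rw [h4] at h2
    have : b * b = j⁻¹ := by rw [h2, inv_inv]
    rw [this]
    exact inv_eq_of_mul_eq_one_left q1.jj

end Central

end CfsgLib.H22J
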