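import Mathlib
import Cfsg.Agent.LibFrL3
import Cfsg.Agent.LibH22Lin
import Cfsg.Agent.LibH22J1

set_option autoImplicit false

/-! Members of the family of `Y`-minimal subgroups: two-dimensional special linear groups (helper1). -/

namespace CfsgLib.FrL

open Cfsg Subgroup CfsgLib.Cores
open scoped Pointwise

universe u

section sl

variable {F : Type*} [Field F]

local notation "SL2" => Matrix.SpecialLinearGroup (Fin 2) F

theorem ext2 {a b : SL2} (h0 : a.1 0 0 = b.1 0 0) (h1 : a.1 0 1 = b.1 0 1) (h2 : a.1 1 0 = b.1 1 0)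
    (h3 : a.1 1 1 = b.1 1 1) : a = b := by
  apply Matrix.SpecialLinearGroup.ext
  intro i j
  fin_cases i <;> fin_cases j <;> assumption

theorem detEq (a : SL2) : a.1 0 0 * a.1 1 1 - a.1 0 1 * a.1 1 0 = 1 := by
  have := a.2
  rwa [Matrix.det_fin_two] at this

/-- an element given by its entries -/
def mkS (a b c d : F) (h : a * d - b * c = 1) : SL2 := ⟨!![a, b; c, d], by rw [Matrix.det_fin_two_of]; exact h⟩

theorem mk00 (a b c d : F) (h : a * d - b * c = 1) : (mkS a b c d h).1 0 0 = a := rfl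
theorem mk01 (a b c d : F) (h : a * d - b * c = 1) : (mkS a b c d h).1 0 1 = b := rfl
theorem mk10 (a b c d : F) (h : a * d - b * c = 1) : (mkS a b c d h).1 1 0 = c := rfl
theorem mk11 (a b c d : F) (h : a * d - b * c = 1) : (mkS a b c d h).1 1 1 = d := rfl

theorem one00 : (1 : SL2).1 0 0 = 1 := rfl
theorem one01 : (1 : SL2).1 0 1 = 0 := rfl
theorem one10 : (1 : SL2).1 1 0 = 0 := rfl
theorem one11 : (1 : SL2).1 1 1 = 1 := rfl

/-- upper and lower unipotent elements -/
def up (s : F) : SL2 := mkS 1 s 0 1 (by ring)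
def lo (s : F) : SL2 := mkS 1 0 s 1 (by ring)

theorem mulE (a b : SL2) (i j : Fin 2) : (a * b).1 i j = a.1 i 0 * b.1 0 j + a.1 i 1 * b.1 1 j := by
  rw [Matrix.SpecialLinearGroup.coe_mul, Matrix.mul_apply, Fin.sum_univ_two]

theorem up_neg (s : F) : up (-s) * up s = (1 : SL2) := by
  apply ext2 <;> simp only [mulE, up, mk00, mk01, mk10, mk11, one00, one01, one10, one11] <;> ring

theorem lo_neg (s : F) : lo (-s) * lo s = (1 : SL2) := by
  apply ext2 <;> simp only [mulE, lo, mk00, mk01, mk10, mk11, one00, one01, one10, one11] <;> ring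

theorem up_inv (s : F) : (up s : SL2)⁻¹ = up (-s) := inv_eq_of_mul_eq_one_left (up_neg s)
theorem lo_inv (s : F) : (lo s : SL2)⁻¹ = lo (-s) := inv_eq_of_mul_eq_one_left (lo_neg s)

theorem pow_of_trace {p : ℕ} [hp : Fact p.Prime] [CharP F p] {a : SL2} (h : a.1 0 0 + a.1 1 1 = 2) : a ^ p = 1 := by
  have h1 : (a.1 - 1) ^ 2 = 0 := by
    have hd := detEq a
    have h2 : a.1 1 1 = 2 - a.1 0 0 := by rw [← h]; ring
    rw [h2] at hd
    ext i j
    rw [pow_two, Matrix.mul_apply, Fin.sum_univ_two]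
    fin_cases i <;> fin_cases j <;> simp [h2]
    · linear_combination -hd
    · ring
    · ring
    · linear_combination -hd
  have h2 : (a.1 - 1) ^ p = 0 := by
    have h3 : 2 ≤ p := hp.out.two_le
    obtain ⟨k, rfl⟩ := Nat.exists_eq_add_of_le h3
    rw [pow_add, h1, zero_mul]
  rw [sub_pow_char_of_commute _ (Commute.one_right _), one_pow, sub_eq_zero] at h2
  apply Matrix.SpecialLinearGroup.ext
  intro i j
  have h3 : (a ^ p).1 = a.1 ^ p := Matrix.SpecialLinearGroup.coe_pow a p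
  rw [h3, h2]; rfl

theorem dec1 {p : ℕ} [Fact p.Prime] [CharP F p] {a : SL2} (h : a.1 1 0 ≠ 0) : ∃ x y : SL2, a = x * y ∧ x ^ p = 1 ∧ y ^ p = 1 := by
  set s := (a.1 0 0 + a.1 1 1 - 2) / a.1 1 0 with hs
  refine ⟨up s, (up s)⁻¹ * a, by group, pow_of_trace (by rw [up, mk00, mk11]; norm_num), pow_of_trace ?_⟩
  rw [up_inv, mulE, mulE]
  simp only [up, mk00, mk01, mk10, mk11]
  have : s * a.1 1 0 = a.1 0 0 + a.1 1 1 - 2 := div_mul_cancel₀ _ h
  linear_combination -this

theorem dec2 {p : ℕ} [Fact p.Prime] [CharP F p] {a : SL2} (h : a.1 0 1 ≠ 0) : ∃ x y : SL2, a = x * y ∧ x ^ p = 1 ∧ y ^ p = 1 := by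
  set s := (a.1 0 0 + a.1 1 1 - 2) / a.1 0 1 with hs
  refine ⟨lo s, (lo s)⁻¹ * a, by group, pow_of_trace (by rw [lo, mk00, mk11]; norm_num), pow_of_trace ?_⟩
  rw [lo_inv, mulE, mulE]
  simp only [lo, mk00, mk01, mk10, mk11]
  have : s * a.1 0 1 = a.1 0 0 + a.1 1 1 - 2 := div_mul_cancel₀ _ h
  linear_combination -this

theorem dec {p : ℕ} [Fact p.Prime] [CharP F p] {a : SL2} (h : ¬ (a.1 0 1 = 0 ∧ a.1 1 0 = 0 ∧ a.1 0 0 = a.1 1 1)) :
    ∃ x y : SL2, a = x * y ∧ x ^ p = 1 ∧ y ^ p = 1 := by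
  by_cases h1 : a.1 0 1 = 0
  · by_cases h2 : a.1 1 0 = 0
    · have h3 : a.1 0 0 ≠ a.1 1 1 := fun h3 => h ⟨h1, h2, h3⟩
      obtain ⟨x, y, e, hx, hy⟩ := dec2 (p := p) (a := up 1 * a * (up 1)⁻¹) (by
        rw [up_inv, mulE, mulE, mulE]
        simp only [up, mk00, mk01, mk10, mk11]
        rw [h1, h2]
        intro h4
        apply h3
        linear_combination -h4)
      refine ⟨(up 1)⁻¹ * x * up 1, (up 1)⁻¹ * y * up 1, ?_, ?_, ?_⟩
      · calc a = (up 1)⁻¹ * (up 1 * a * (up 1)⁻¹) * up 1 := by group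
          _ = (up 1)⁻¹ * (x * y) * up 1 := by rw [e]
          _ = _ := by group
      · have := conj_pow (i := p) (a := (up 1 : SL2)⁻¹) (b := x)
        rw [inv_inv] at this
        rw [this, hx]; group
      · have := conj_pow (i := p) (a := (up 1 : SL2)⁻¹) (b := y)
        rw [inv_inv] at this
        rw [this, hy]; group
    · exact dec1 h2
  · exact dec2 h1

theorem neg_one_ent : ((-1 : SL2).1 0 0 = -1) ∧ ((-1 : SL2).1 0 1 = 0) ∧ ((-1 : SL2).1 1 0 = 0) ∧ ((-1 : SL2).1 1 1 = -1) := by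
  refine ⟨?_, ?_, ?_, ?_⟩ <;> simp

/-- a quaternion triple -/
theorem quat [Fintype F] (h2 : (2 : F) ≠ 0) : ∃ i j : SL2, i * i = -1 ∧ j * j = -1 ∧ (i * j) * (i * j) = -1 ∧
    (¬ (i.1 0 1 = 0 ∧ i.1 1 0 = 0 ∧ i.1 0 0 = i.1 1 1)) ∧ (¬ (j.1 0 1 = 0 ∧ j.1 1 0 = 0 ∧ j.1 0 0 = j.1 1 1)) ∧
    (¬ ((i * j).1 0 1 = 0 ∧ (i * j).1 1 0 = 0 ∧ (i * j).1 0 0 = (i * j).1 1 1)) := by
  have hodd : Odd (Fintype.card F) := by
    rw [← Nat.not_even_iff_odd]
    intro he
    apply h2
    have h3 : ringChar F = 2 := by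
      rcases FiniteField.even_card_iff_char_two.2 (Nat.even_iff.1 he) with h
      exact h
    have := CharP.cast_eq_zero F (ringChar F)
    rw [h3] at this
    exact_mod_cast this
  obtain ⟨a, b, hab⟩ := CfsgLib.H22J.sum_sq hodd (-1)
  have hne : a ≠ 0 ∨ b ≠ 0 := by
    by_contra hcon
    push Not at hcon
    rw [hcon.1, hcon.2] at hab
    have : (1 : F) = 0 := by linear_combination hab
    exact one_ne_zero this
  obtain ⟨n0, n1, n2, n3⟩ := neg_one_ent (F := F)
  refine ⟨mkS 0 1 (-1) 0 (by ring), mkS a b b (-a) (by linear_combination -hab), ?_, ?_, ?_, ?_, ?_, ?_⟩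
  · apply ext2
    · rw [n0]; simp only [mulE, mk00, mk01, mk10, mk11]; ring
    · rw [n1]; simp only [mulE, mk00, mk01, mk10, mk11]; ring
    · rw [n2]; simp only [mulE, mk00, mk01, mk10, mk11]; ring
    · rw [n3]; simp only [mulE, mk00, mk01, mk10, mk11]; ring
  · apply ext2
    · rw [n0]; simp only [mulE, mk00, mk01, mk10, mk11]; linear_combination hab
    · rw [n1]; simp only [mulE, mk00, mk01, mk10, mk11]; ring
    · rw [n2]; simp only [mulE, mk00, mk01, mk10, mk11]; ring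
    · rw [n3]; simp only [mulE, mk00, mk01, mk10, mk11]; linear_combination hab
  · apply ext2
    · rw [n0]; simp only [mulE, mk00, mk01, mk10, mk11]; linear_combination hab
    · rw [n1]; simp only [mulE, mk00, mk01, mk10, mk11]; ring
    · rw [n2]; simp only [mulE, mk00, mk01, mk10, mk11]; ring
    · rw [n3]; simp only [mulE, mk00, mk01, mk10, mk11]; linear_combination hab
  · rintro ⟨h, -, -⟩
    rw [mk01] at h
    exact one_ne_zero h
  · rintro ⟨h, -, h'⟩
    rw [mk01] at h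
    rw [mk00, mk11] at h'
    rcases hne with h3 | h3
    · apply h3
      have : 2 * a = 0 := by linear_combination h'
      exact (mul_eq_zero.1 this).resolve_left h2
    · exact h3 h
  · rintro ⟨h, -, h'⟩
    simp only [mulE, mk00, mk01, mk10, mk11] at h h'
    rcases hne with h3 | h3
    · apply h3; linear_combination -h
    · apply h3
      have : 2 * b = 0 := by linear_combination h'
      exact (mul_eq_zero.1 this).resolve_left h2

theorem card_sl [Fintype F] : Nat.card SL2 = (Fintype.card F ^ 2 - 1) * Fintype.card F := by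
  have h1 := Agent.H22.card_SL (F := F) rfl 2 (by norm_num)
  have hq : 1 < Fintype.card F := Fintype.one_lt_card
  set q := Fintype.card F
  rw [Fin.prod_univ_two] at h1
  have h2 : (q ^ 2 - q ^ ((1 : Fin 2) : ℕ)) = q * (q - 1) := by
    show q ^ 2 - q ^ 1 = q * (q - 1)
    rw [pow_one, Nat.mul_sub, mul_one, pow_two]
  rw [h2] at h1
  have h3 : (q - 1) * Nat.card SL2 = (q - 1) * ((q ^ 2 - 1) * q) := by
    rw [h1]
    show (q ^ 2 - q ^ 0) * (q * (q - 1)) = _
    rw [pow_zero]; ring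
  exact Nat.eq_of_mul_eq_mul_left (by omega) h3

end sl

end CfsgLib.FrL
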