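import Mathlib
import Cfsg.Agent.LibFrL4

set_option autoImplicit false

/-! Members of the family of `Y`-minimal subgroups: the case of `SL₂(q)` (helper1). -/

namespace CfsgLib.FrL

open Cfsg Subgroup CfsgLib.Cores
open scoped Pointwise

universe u

/-- the data of an isomorphism of `L / A` with `SL₂(K)` -/
structure SLD {L : Type u} [Group L] (p : ℕ) (A Y : Subgroup L) (K : Type) [Field K] [Fintype K]
    (π : L →* Matrix.SpecialLinearGroup (Fin 2) K) : Prop where
  F : FL p A Y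
  sur : Function.Surjective π
  ker : π.ker = A
  card : Fintype.card K = (Y ⊓ A).relIndex Y

namespace SLD

variable {L : Type u} [Group L] [Finite L] {p : ℕ} [hp : Fact p.Prime] {A Y : Subgroup L} {K : Type} [Field K] [Fintype K]
  {π : L →* Matrix.SpecialLinearGroup (Fin 2) K}

omit [Finite L] hp in
theorem mem_A (D : SLD p A Y K π) {x : L} : x ∈ A ↔ π x = 1 := by rw [← D.ker]; rfl

omit [Finite L] hp in
theorem card_map (D : SLD p A Y K π) : Nat.card (Y.map π) = Fintype.card K := by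
  rw [D.card, Subgroup.inf_relIndex_left, ← relIndex_ker, D.ker]

theorem card_pow (D : SLD p A Y K π) : ∃ k : ℕ, 0 < k ∧ Fintype.card K = p ^ k := by
  have h1 : IsPGroup p (Y.map π) := D.F.isP.map π
  obtain ⟨k, hk⟩ := IsPGroup.iff_card.1 h1
  rw [D.card_map] at hk
  refine ⟨k, ?_, hk⟩
  rcases Nat.eq_zero_or_pos k with h | h
  · rw [h, pow_zero] at hk
    have := Fintype.one_lt_card (α := K)
    omega
  · exact h

theorem charP (D : SLD p A Y K π) : CharP K p := by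
  obtain ⟨k, hk0, hk⟩ := D.card_pow
  exact charP_of_card_eq_prime_pow hk

theorem card_le (D : SLD p A Y K π) {P : Subgroup (Matrix.SpecialLinearGroup (Fin 2) K)} (hP : IsPGroup p P) :
    Nat.card P ≤ Fintype.card K := by
  obtain ⟨k, hk0, hk⟩ := D.card_pow
  obtain ⟨m, hm⟩ := IsPGroup.iff_card.1 hP
  have h1 : Nat.card P ∣ Nat.card (Matrix.SpecialLinearGroup (Fin 2) K) := card_subgroup_dvd_card P
  rw [card_sl, hm] at h1
  have h2 : Nat.Coprime (p ^ m) (Fintype.card K ^ 2 - 1) := by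
    apply Nat.Coprime.pow_left
    rw [Nat.Prime.coprime_iff_not_dvd hp.out]
    intro h3
    have h4 : p ∣ Fintype.card K ^ 2 := by
      rw [hk]; exact dvd_pow (dvd_pow_self p hk0.ne') two_ne_zero
    have h5 : 1 ≤ Fintype.card K ^ 2 := Nat.one_le_pow _ _ Fintype.card_pos
    have h6 := (Nat.dvd_sub h4 h3)
    rw [Nat.sub_sub_self h5] at h6
    exact hp.out.one_lt.ne' (Nat.dvd_one.1 h6)
  have h3 := h2.dvd_of_dvd_mul_left h1
  rw [hm]
  exact Nat.le_of_dvd Fintype.card_pos h3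

theorem hS (D : SLD p A Y K π) : ∀ P : Subgroup L, IsPGroup p P → Y ⊔ A ≤ P → P = Y ⊔ A := by
  intro P hP hle
  apply le_antisymm _ hle
  have h1 : Y.map π ≤ P.map π := map_mono (le_sup_left.trans hle)
  have h2 : Nat.card (P.map π) ≤ Nat.card (Y.map π) := by
    rw [D.card_map]; exact D.card_le (hP.map π)
  have h3 : Y.map π = P.map π := by
    apply SetLike.coe_injective
    exact Set.eq_of_subset_of_ncard_le h1 h2
  intro x hx
  have h4 : π x ∈ Y.map π := by rw [h3]; exact mem_map_of_mem π hx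
  obtain ⟨y, hy, e⟩ := h4
  have h5 : y⁻¹ * x ∈ A := by rw [D.mem_A, map_mul, map_inv, e, inv_mul_cancel]
  have h6 : x = y * (y⁻¹ * x) := by group
  rw [h6]
  exact mul_mem_sup hy h5

theorem hn (D : SLD p A Y K π) : HN p Y := D.F.HN_sylow D.hS

theorem lift_mem (D : SLD p A Y K π) {x : L} (hx : π x ^ p = 1) : ∃ g y α : L, y ∈ cj g Y ∧ α ∈ A ∧ x = y * α := by
  have hAn := D.F.An
  have h1 : x ^ p ^ 1 ∈ A := by rw [D.mem_A, pow_one, map_pow, hx]
  obtain ⟨n, hn⟩ := FL.pow_of_mem D.F.isPA h1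
  have h2 : IsPGroup p (zpowers x) := zpowers_isPGroup ⟨n, by rw [← hn, pow_orderOf_eq_one]⟩
  obtain ⟨S, hS⟩ := h2.exists_le_sylow
  have h3 : IsPGroup p (Y ⊔ A : Subgroup L) := IsPGroup.to_sup_of_normal_right D.F.isP D.F.isPA
  obtain ⟨T, hT⟩ := h3.exists_le_sylow
  have h4 : (T : Subgroup L) = Y ⊔ A := D.hS _ T.isPGroup' hT
  obtain ⟨g, hg⟩ := MulAction.exists_smul_eq L T S
  have h5 : x ∈ (S : Subgroup L) := hS (mem_zpowers x)
  rw [← hg, Sylow.coe_subgroup_smul, Subgroup.mem_pointwise_smul_iff_inv_smul_mem, h4] at h5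
  have h6 : g⁻¹ * x * g ∈ ((Y ⊔ A : Subgroup L) : Set L) := by
    have e : (MulAut.conj g)⁻¹ • x = g⁻¹ * x * g := by
      rw [← map_inv, MulAut.smul_def, MulAut.conj_apply, inv_inv]
    rw [e] at h5
    exact h5
  rw [mul_normal] at h6
  obtain ⟨y, hy, α, hα, e⟩ := h6
  refine ⟨g, g * y * g⁻¹, g * α * g⁻¹, cj_mem hy, hAn.conj_mem α hα g, ?_⟩
  have e' : y * α = g⁻¹ * x * g := e
  calc x = g * (g⁻¹ * x * g) * g⁻¹ := by group
    _ = g * (y * α) * g⁻¹ := by rw [e']
    _ = _ := by group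

theorem nonscalar_fix (D : SLD p A Y K π) {h : L}
    (hns : ¬ ((π h).1 0 1 = 0 ∧ (π h).1 1 0 = 0 ∧ (π h).1 0 0 = (π h).1 1 1)) (hnp : ¬ ∃ k : ℕ, orderOf h = p ^ k)
    {a : L} (ha : a ∈ A) (hfix : h * a * h⁻¹ * a⁻¹ ∈ center L) : a ∈ center L := by
  have hAn := D.F.An
  have hch := D.charP
  obtain ⟨M1, M2, e, h1, h2⟩ := dec (p := p) hns
  obtain ⟨x1, hx1⟩ := D.sur M1
  obtain ⟨x2, hx2⟩ := D.sur M2
  obtain ⟨g1, y1, α1, hy1, hα1, e1⟩ := D.lift_mem (x := x1) (by rw [hx1, h1])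
  obtain ⟨g2, y2, α2, hy2, hα2, e2⟩ := D.lift_mem (x := x2) (by rw [hx2, h2])
  have h3 : (x1 * x2)⁻¹ * h ∈ A := by
    rw [D.mem_A, map_mul, map_inv, map_mul, hx1, hx2, e, inv_mul_cancel]
  have h4 : y2⁻¹ * α1 * y2 ∈ A := by
    have := hAn.conj_mem α1 hα1 y2⁻¹
    rwa [inv_inv] at this
  refine D.F.prodfix D.hn hy1 hy2 (α := (y2⁻¹ * α1 * y2) * α2 * ((x1 * x2)⁻¹ * h))
    (A.mul_mem (A.mul_mem h4 hα2) h3) ?_ hnp ha hfix
  rw [e1, e2]; group

omit [Finite L] hp in
theorem bar_comm (D : SLD p A Y K π) {a b : L} (ha : a ∈ A) (hb : b ∈ A) :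
    (QuotientGroup.mk a : L ⧸ center L) * QuotientGroup.mk b = QuotientGroup.mk b * QuotientGroup.mk a := by
  obtain ⟨g, hg⟩ := D.F.exists_gen
  obtain ⟨c, hc, e⟩ := D.F.comm_central (D.F.cjF g) hg ha hb
  rw [← QuotientGroup.mk_mul, e, QuotientGroup.mk_mul, (QuotientGroup.eq_one_iff c).2 hc.1, mul_one, QuotientGroup.mk_mul]

theorem invert (D : SLD p A Y K π) {h k : L} (hk : π k * π k = π h)
    (hns : ¬ ((π k).1 0 1 = 0 ∧ (π k).1 1 0 = 0 ∧ (π k).1 0 0 = (π k).1 1 1)) (hnp : ¬ ∃ n : ℕ, orderOf k = p ^ n)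
    {a : L} (ha : a ∈ A) (hfix : h * a * h⁻¹ * a⁻¹ ∈ center L) :
    (QuotientGroup.mk (k * a * k⁻¹) : L ⧸ center L) = (QuotientGroup.mk a)⁻¹ := by
  have hAn := D.F.An
  have hβ : h⁻¹ * (k * k) ∈ A := by rw [D.mem_A, map_mul, map_inv, map_mul, hk, inv_mul_cancel]
  set β := h⁻¹ * (k * k) with hβd
  have ekk : k * k = h * β := by rw [hβd]; group
  set b := a * (k * a * k⁻¹) with hb
  have hbA : b ∈ A := A.mul_mem ha (hAn.conj_mem a ha k)
  have e1 : (QuotientGroup.mk (k * (k * a * k⁻¹) * k⁻¹) : L ⧸ center L) = QuotientGroup.mk a := by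
    have h1 : k * (k * a * k⁻¹) * k⁻¹ = h * (β * a * β⁻¹) * h⁻¹ := by
      calc k * (k * a * k⁻¹) * k⁻¹ = (k * k) * a * (k * k)⁻¹ := by group
        _ = _ := by rw [ekk]; group
    have h2 : (QuotientGroup.mk (β * a * β⁻¹) : L ⧸ center L) = QuotientGroup.mk a := by
      rw [QuotientGroup.mk_mul, QuotientGroup.mk_mul, D.bar_comm hβ ha, QuotientGroup.mk_inv, mul_inv_cancel_right]
    have h3 : (QuotientGroup.mk (h * a * h⁻¹) : L ⧸ center L) = QuotientGroup.mk a := by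
      have h4 := (QuotientGroup.eq_one_iff (N := center L) _).2 hfix
      rw [QuotientGroup.mk_mul, QuotientGroup.mk_inv, mul_inv_eq_one] at h4
      exact h4
    rw [h1, ← h3]
    simp only [QuotientGroup.mk_mul] at h2 ⊢
    rw [h2]
  have e2 : k * b * k⁻¹ * b⁻¹ ∈ center L := by
    rw [← QuotientGroup.eq_one_iff (N := center L)]
    have h1 : k * b * k⁻¹ = (k * a * k⁻¹) * (k * (k * a * k⁻¹) * k⁻¹) := by rw [hb]; group
    have h2 := D.bar_comm ha (hAn.conj_mem a ha k)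
    rw [QuotientGroup.mk_mul, h1, QuotientGroup.mk_mul, e1, ← h2, ← QuotientGroup.mk_mul, ← hb, QuotientGroup.mk_inv,
      mul_inv_cancel]
  have e3 := D.nonscalar_fix hns hnp hbA e2
  have e4 := (QuotientGroup.eq_one_iff (N := center L) b).2 e3
  rw [hb, QuotientGroup.mk_mul] at e4
  exact eq_inv_of_mul_eq_one_right e4

theorem fix (D : SLD p A Y K π) {h : L} (hnp : ¬ ∃ k : ℕ, orderOf h = p ^ k)
    {a : L} (ha : a ∈ A) (hfix : h * a * h⁻¹ * a⁻¹ ∈ center L) : a ∈ center L := by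
  by_cases hns : ((π h).1 0 1 = 0 ∧ (π h).1 1 0 = 0 ∧ (π h).1 0 0 = (π h).1 1 1)
  swap
  · exact D.nonscalar_fix hns hnp ha hfix
  have hch := D.charP
  obtain ⟨h1, h2, h3⟩ := hns
  have hd := detEq (π h)
  rw [h1, h2, ← h3] at hd
  have h4 : ((π h).1 0 0 - 1) * ((π h).1 0 0 + 1) = 0 := by linear_combination hd
  have hone : (π h).1 0 0 = 1 → a ∈ center L := by
    intro h5
    exfalso
    apply hnp
    have h6 : h ^ p ^ 0 ∈ A := by
      rw [pow_zero, pow_one, D.mem_A]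
      apply ext2
      · rw [h5, one00]
      · rw [h1, one01]
      · rw [h2, one10]
      · rw [← h3, h5, one11]
    exact FL.pow_of_mem D.F.isPA h6
  rcases mul_eq_zero.1 h4 with h5 | h5
  · exact hone (sub_eq_zero.1 h5)
  by_cases h20 : (2 : K) = 0
  · apply hone
    linear_combination h5 - h20
  obtain ⟨n0, n1, n2, n3⟩ := neg_one_ent (F := K)
  have hneg : π h = -1 := by
    apply ext2
    · rw [n0]; linear_combination h5
    · rw [n1, h1]
    · rw [n2, h2]
    · rw [n3, ← h3]; linear_combination h5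
  have hp2 : p ≠ 2 := by
    rintro rfl
    apply h20
    have := CharP.cast_eq_zero K 2
    exact_mod_cast this
  have hodd : Odd p := hp.out.odd_of_ne_two hp2
  obtain ⟨i, j, hi, hj, hij, si, sj, sij⟩ := quat (F := K) h20
  obtain ⟨k1, hk1⟩ := D.sur i
  obtain ⟨k2, hk2⟩ := D.sur j
  have hk3 : π (k1 * k2) = i * j := by rw [map_mul, hk1, hk2]
  -- orders
  have hord : ∀ k : L, π k * π k = -1 → (¬ ((π k).1 0 1 = 0 ∧ (π k).1 1 0 = 0 ∧ (π k).1 0 0 = (π k).1 1 1)) →
      ¬ ∃ n : ℕ, orderOf k = p ^ n := by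
    rintro k hkk hs ⟨n, hn⟩
    apply hs
    have h6 : π k ^ p ^ n = 1 := by rw [← map_pow, ← hn, pow_orderOf_eq_one, map_one]
    obtain ⟨m, hm⟩ := hodd.pow (n := n)
    rw [hm, pow_succ, pow_mul, pow_two, hkk] at h6
    have h7 : π k = 1 ∨ π k = -1 := by
      rcases neg_one_pow_eq_or (Matrix.SpecialLinearGroup (Fin 2) K) m with h8 | h8
      · left; rwa [h8, one_mul] at h6
      · right
        rw [h8, neg_one_mul] at h6
        rw [← h6, neg_neg]
    rcases h7 with h8 | h8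
    · rw [h8]; exact ⟨one01, one10, by rw [one00, one11]⟩
    · rw [h8]; exact ⟨n1, n2, by rw [n0, n3]⟩
  have v1 := D.invert (h := h) (k := k1) (by rw [hk1, hi, hneg]) (by rw [hk1]; exact si)
    (hord k1 (by rw [hk1, hi]) (by rw [hk1]; exact si)) ha hfix
  have v2 := D.invert (h := h) (k := k2) (by rw [hk2, hj, hneg]) (by rw [hk2]; exact sj)
    (hord k2 (by rw [hk2, hj]) (by rw [hk2]; exact sj)) ha hfix
  have v3 := D.invert (h := h) (k := k1 * k2) (by rw [hk3, hij, hneg]) (by rw [hk3]; exact sij)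
    (hord (k1 * k2) (by rw [hk3, hij]) (by rw [hk3]; exact sij)) ha hfix
  have e1 : (QuotientGroup.mk (k1 * k2 * a * (k1 * k2)⁻¹) : L ⧸ center L) = QuotientGroup.mk a := by
    have h6 : k1 * k2 * a * (k1 * k2)⁻¹ = k1 * (k2 * a * k2⁻¹) * k1⁻¹ := by group
    rw [h6]
    rw [QuotientGroup.mk_mul, QuotientGroup.mk_mul, v2]
    have h7 : (QuotientGroup.mk k1 : L ⧸ center L) * (QuotientGroup.mk a)⁻¹ * QuotientGroup.mk k1⁻¹ =
        (QuotientGroup.mk (k1 * a * k1⁻¹))⁻¹ := by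
      rw [← QuotientGroup.mk_inv, ← QuotientGroup.mk_inv, ← QuotientGroup.mk_mul, ← QuotientGroup.mk_mul]
      congr 1; group
    rw [h7, v1, inv_inv]
  rw [e1] at v3
  have h6 : a * a ∈ center L := by
    rw [← QuotientGroup.eq_one_iff (N := center L), QuotientGroup.mk_mul]
    have h8 := congrArg (fun x => x * (QuotientGroup.mk a : L ⧸ center L)) v3
    rwa [inv_mul_cancel] at h8
  -- odd order
  obtain ⟨n, hn⟩ := D.F.isPA ⟨a, ha⟩
  have hn' : a ^ p ^ n = 1 := congrArg Subtype.val hn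
  obtain ⟨m, hm⟩ := hodd.pow (n := n)
  have h7 : a = (a * a) ^ (m + 1) := by
    rw [← pow_two, ← pow_mul, show 2 * (m + 1) = (2 * m + 1) + 1 by ring, pow_succ, ← hm, hn', one_mul]
  rw [h7]
  exact Subgroup.pow_mem _ h6 _

end SLD

namespace FL

variable {L : Type u} [Group L] {p : ℕ} {A Y : Subgroup L}

theorem central_mem (F : FL p A Y) {a : L} (ha : a ∈ A) (hc : a ∈ center L) : a ∈ Y := by
  obtain ⟨g, hg⟩ := F.exists_gen
  have F' := F.cjF g
  obtain ⟨a1, h1, a2, h2, rfl⟩ := F.prod F' hg ha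
  have hcc := mem_center_iff.1 hc
  have h3 : a1 ∈ center L := by
    rw [mem_center_iff]
    have h6 : Y ⊔ cj g Y ≤ centralizer ({a1} : Set L) := by
      apply sup_le
      · intro x hx
        rw [mem_centralizer_singleton_iff]
        exact F.comm x hx _ h1.1
      · intro x hx
        rw [mem_centralizer_singleton_iff]
        have h4 := F'.comm x hx _ h2.1
        have h5 := hcc x
        have : x * a1 * a2 = a1 * x * a2 := by
          calc x * a1 * a2 = x * (a1 * a2) := by group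
            _ = a1 * a2 * x := h5
            _ = a1 * (x * a2) := by rw [h4]; group
            _ = a1 * x * a2 := by group
        exact mul_right_cancel this
    rw [hg] at h6
    intro x
    exact mem_centralizer_singleton_iff.1 (h6 (mem_top x))
  have h4 : a2 ∈ center L := by
    have := (center L).mul_mem ((center L).inv_mem h3) hc
    rwa [← mul_assoc, inv_mul_cancel, one_mul] at this
  have h5 : a2 ∈ Y := by
    have h6 : a2 ∈ cj g Y := h2.1
    rw [mem_cj, mul_assoc, ← mem_center_iff.1 h4 g, ← mul_assoc, inv_mul_cancel, one_mul] at h6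
    exact h6
  exact Y.mul_mem h1.1 h5

end FL

end CfsgLib.FrL
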