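import Mathlib

set_option autoImplicit false

/-! Irreducible sets of commuting endomorphisms of a finite abelian group: the centralizer ring is a finite field
(helper13) -/

namespace CfsgLib.IrrH13

open Pointwise

/-- the ring automorphisms of a finite field of order `p ^ d` form a cyclic group of order `d`. -/
theorem ringEquiv_card (p d : ℕ) [hp : Fact p.Prime] (E : Type*) [Field E] [Finite E] (hcard : Nat.card E = p ^ d) :
    IsCyclic (E ≃+* E) ∧ Nat.card (E ≃+* E) = d := by
  have hchar : CharP E p := by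
    have h1 := Fintype.ofFinite E
    have h2 : (p : E) = 0 := by
      have h3 : ((Nat.card E : ℕ) : E) = 0 := by
        rw [Nat.card_eq_fintype_card]; exact FiniteField.cast_card_eq_zero E
      rw [hcard] at h3
      push_cast at h3
      have hd0 : d ≠ 0 := by
        rintro rfl
        rw [pow_zero] at hcard
        exact (Finite.one_lt_card (α := E)).ne hcard.symm
      exact (pow_eq_zero_iff hd0).mp h3
    exact (CharP.charP_iff_prime_eq_zero hp.out).mpr h2
  let _ : Algebra (ZMod p) E := ZMod.algebra E p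
  have hfr : Module.finrank (ZMod p) E = d := by
    have h1 := Module.natCard_eq_pow_finrank (K := ZMod p) (V := E)
    rw [Nat.card_zmod, hcard] at h1
    exact (Nat.pow_right_injective hp.out.two_le h1).symm
  let e : (E ≃ₐ[ZMod p] E) ≃* (E ≃+* E) :=
    { toFun := fun σ => σ.toRingEquiv
      invFun := fun σ => AlgEquiv.ofRingEquiv (f := σ) (fun x => by
        have : (σ : E →+* E).comp (algebraMap (ZMod p) E) = algebraMap (ZMod p) E := Subsingleton.elim _ _
        exact RingHom.congr_fun this x)
      left_inv := fun σ => by ext; rfl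
      right_inv := fun σ => by ext; rfl
      map_mul' := fun σ τ => by ext; rfl }
  constructor
  · exact isCyclic_of_surjective e e.surjective
  · rw [← Nat.card_congr e.toEquiv, ← hfr]
    exact IsGalois.card_aut_eq_finrank _ _

/-- solutions of `x ^ m = x` in a finite field -/
theorem card_fix_le (E : Type*) [Field E] [Finite E] (m : ℕ) (hm : 1 < m) (L : Set E) (hL : ∀ x ∈ L, x ^ m = x) :
    L.ncard ≤ m := by
  classical
  have hne : (Polynomial.X ^ m - Polynomial.X : Polynomial E) ≠ 0 := FiniteField.X_pow_card_sub_X_ne_zero E hm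
  have h1 : L ⊆ ((Polynomial.X ^ m - Polynomial.X : Polynomial E).roots.toFinset : Set E) := by
    intro x hx
    rw [Finset.mem_coe, Multiset.mem_toFinset, Polynomial.mem_roots hne]
    simp [hL x hx]
  calc L.ncard ≤ ((Polynomial.X ^ m - Polynomial.X : Polynomial E).roots.toFinset : Set E).ncard :=
        Set.ncard_le_ncard h1 (Set.toFinite _)
    _ = (Polynomial.X ^ m - Polynomial.X : Polynomial E).roots.toFinset.card := Set.ncard_coe_finset _
    _ ≤ (Polynomial.X ^ m - Polynomial.X : Polynomial E).roots.card := Multiset.toFinset_card_le _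
    _ ≤ (Polynomial.X ^ m - Polynomial.X : Polynomial E).natDegree := Polynomial.card_roots' _
    _ = m := FiniteField.X_pow_card_sub_X_natDegree_eq E hm

section
variable {V : Type*} [AddCommGroup V] [Finite V] [Nontrivial V] (S : Set (AddMonoid.End V))
  (hirr : ∀ W : AddSubgroup V, (∀ s ∈ S, ∀ w ∈ W, s w ∈ W) → W = ⊥ ∨ W = ⊤)
include hirr

omit [Finite V] [Nontrivial V] in
theorem inj_of_ne_zero (e : AddMonoid.End V) (he : e ∈ Subring.centralizer S) (he0 : e ≠ 0) (v : V) (hv : e v = 0) :
    v = 0 := by
  have h1 : ∀ s ∈ S, s * e = e * s := fun s hs => Subring.mem_centralizer_iff.mp he s hs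
  rcases hirr (AddMonoidHom.ker e) (by
    intro s hs w hw
    have h2 : e w = 0 := hw
    change e (s w) = 0
    have h3 := DFunLike.congr_fun (h1 s hs) w
    change s (e w) = e (s w) at h3
    rw [← h3, h2, map_zero]) with h | h
  · have : v ∈ AddMonoidHom.ker e := hv
    rw [h] at this
    exact AddSubgroup.mem_bot.mp this
  · exfalso
    apply he0
    ext w
    have : w ∈ AddMonoidHom.ker e := by rw [h]; exact AddSubgroup.mem_top w
    exact this

theorem isDomain : IsDomain (Subring.centralizer S) := by
  have hnt : Nontrivial (Subring.centralizer S) := by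
    refine ⟨0, 1, fun h => ?_⟩
    obtain ⟨v, hv⟩ := exists_ne (0 : V)
    apply hv
    have h1 := congrArg (fun e : Subring.centralizer S => (e : AddMonoid.End V) v) h
    exact h1.symm
  have hnz : NoZeroDivisors (Subring.centralizer S) := by
    refine ⟨fun {a b} hab => ?_⟩
    by_contra hcon
    push Not at hcon
    apply hcon.2
    apply Subtype.ext
    apply AddMonoidHom.ext
    intro v
    have h1 : (a : AddMonoid.End V) ((b : AddMonoid.End V) v) = 0 := by
      have := congrArg (fun e : Subring.centralizer S => (e : AddMonoid.End V) v) hab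
      exact this
    exact inj_of_ne_zero S hirr a a.2 (fun h => hcon.1 (Subtype.ext h)) _ h1
  exact NoZeroDivisors.to_isDomain _

/-- evaluation at a nonzero vector is injective -/
theorem eval_inj (v : V) (hv : v ≠ 0) (a b : Subring.centralizer S) (h : (a : AddMonoid.End V) v = (b : AddMonoid.End V) v) :
    a = b := by
  by_contra hne
  apply hv
  apply inj_of_ne_zero S hirr ((a : AddMonoid.End V) - b) ((Subring.centralizer S).sub_mem a.2 b.2)
  · intro h0
    apply hne
    exact Subtype.ext (sub_eq_zero.mp h0)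
  · change (a : AddMonoid.End V) v - (b : AddMonoid.End V) v = 0
    rw [h, sub_self]

theorem finite_E : Finite (Subring.centralizer S) := by
  obtain ⟨v, hv⟩ := exists_ne (0 : V)
  exact Finite.of_injective (fun e : Subring.centralizer S => (e : AddMonoid.End V) v)
    (fun a b h => eval_inj S hirr v hv a b h)

theorem isField : IsField (Subring.centralizer S) := by
  have h1 := isDomain S hirr
  have h2 := finite_E S hirr
  exact Finite.isDomain_to_isField _

/-- if `S` is commutative, additive subgroups of the centralizer ring that contain `1` and are closed under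
multiplication by `S` evaluate onto `V`. -/
theorem eval_surj (v : V) (hv : v ≠ 0) (L : AddSubgroup (AddMonoid.End V)) (h1 : 1 ∈ L)
    (hL : ∀ s ∈ S, ∀ l ∈ L, s * l ∈ L) (w : V) : ∃ l ∈ L, l v = w := by
  let W : AddSubgroup V :=
    { carrier := {w | ∃ l ∈ L, l v = w}
      add_mem' := by
        rintro _ _ ⟨a, ha, rfl⟩ ⟨b, hb, rfl⟩
        exact ⟨a + b, L.add_mem ha hb, rfl⟩
      zero_mem' := ⟨0, L.zero_mem, rfl⟩
      neg_mem' := by
        rintro _ ⟨a, ha, rfl⟩
        exact ⟨-a, L.neg_mem ha, rfl⟩ }
  rcases hirr W (by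
    rintro s hs _ ⟨l, hl, rfl⟩
    exact ⟨s * l, hL s hs l hl, rfl⟩) with h | h
  · exfalso
    apply hv
    have h2 : v ∈ W := ⟨1, h1, rfl⟩
    rw [h] at h2
    exact AddSubgroup.mem_bot.mp h2
  · have h2 : w ∈ W := by rw [h]; exact AddSubgroup.mem_top w
    obtain ⟨l, hl, hlw⟩ := h2
    exact ⟨l, hl, hlw⟩

theorem card_E (hcomm : ∀ s ∈ S, ∀ t ∈ S, s * t = t * s) : Nat.card (Subring.centralizer S) = Nat.card V := by
  obtain ⟨v, hv⟩ := exists_ne (0 : V)
  apply Nat.card_congr
  refine Equiv.ofBijective (fun e : Subring.centralizer S => (e : AddMonoid.End V) v) ⟨fun a b h => eval_inj S hirr v hv a b h, ?_⟩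
  intro w
  obtain ⟨l, hl, hlw⟩ := eval_surj S hirr v hv (Subring.centralizer S).toAddSubgroup (Subring.centralizer S).one_mem
    (fun s hs l hl => (Subring.centralizer S).mul_mem (Subring.mem_centralizer_iff.mpr (fun t ht => hcomm t ht s hs)) hl) w
  exact ⟨⟨l, hl⟩, hlw⟩

theorem card_le_of_pow (p i : ℕ) [hp : Fact p.Prime] (hi : 0 < i) (hV : ∀ v : V, p • v = 0)
    (hcomm : ∀ s ∈ S, ∀ t ∈ S, s * t = t * s) (hS : ∀ s ∈ S, s ^ (p ^ i) = s) : Nat.card V ≤ p ^ i := by
  have hf := isField S hirr
  have hfin := finite_E S hirr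
  let inst : Field (Subring.centralizer S) := hf.toField
  have hp0 : (p : Subring.centralizer S) = 0 := by
    apply Subtype.ext
    ext v
    have h1 : (((p : Subring.centralizer S) : AddMonoid.End V)) v = p • v := by
      rw [SubringClass.coe_natCast]
      exact AddMonoid.End.natCast_apply p v
    rw [h1, hV]; rfl
  have hchar : CharP (Subring.centralizer S) p := (CharP.charP_iff_prime_eq_zero hp.out).mpr hp0
  have hpow : ∀ x y : Subring.centralizer S, x * y = y * x := fun x y => mul_comm x y
  let L' : Set (Subring.centralizer S) := {x | x ^ (p ^ i) = x}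
  have hadd : ∀ x y : Subring.centralizer S, (x + y) ^ (p ^ i) = x ^ (p ^ i) + y ^ (p ^ i) :=
    fun x y => add_pow_char_pow x y p i
  have hm : 1 < p ^ i := Nat.one_lt_pow (by omega) hp.out.one_lt
  have hneg : ∀ x ∈ L', -x ∈ L' := by
    intro x hx
    have h1 := hadd x (-x)
    rw [add_neg_cancel, zero_pow (by omega), show x ^ (p ^ i) = x from hx] at h1
    exact (neg_eq_of_add_eq_zero_right h1.symm).symm
  have hSE : ∀ s ∈ S, s ∈ Subring.centralizer S := fun s hs =>
    Subring.mem_centralizer_iff.mpr (fun t ht => hcomm t ht s hs)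
  let L : AddSubgroup (AddMonoid.End V) :=
    { carrier := {x | ∃ h : x ∈ Subring.centralizer S, (⟨x, h⟩ : Subring.centralizer S) ∈ L'}
      add_mem' := by
        rintro x y ⟨hx, hx'⟩ ⟨hy, hy'⟩
        refine ⟨(Subring.centralizer S).add_mem hx hy, ?_⟩
        change ((⟨x, hx⟩ : Subring.centralizer S) + ⟨y, hy⟩) ^ (p ^ i) = (⟨x, hx⟩ : Subring.centralizer S) + ⟨y, hy⟩
        rw [hadd]
        exact congrArg₂ (· + ·) hx' hy'
      zero_mem' := by
        refine ⟨(Subring.centralizer S).zero_mem, ?_⟩
        change (0 : Subring.centralizer S) ^ (p ^ i) = 0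
        rw [zero_pow (by omega)]
      neg_mem' := by
        rintro x ⟨hx, hx'⟩
        exact ⟨(Subring.centralizer S).neg_mem hx, hneg _ hx'⟩ }
  obtain ⟨v, hv⟩ := exists_ne (0 : V)
  have hsurj := eval_surj S hirr v hv L ⟨(Subring.centralizer S).one_mem, by
    change (1 : Subring.centralizer S) ^ (p ^ i) = 1
    rw [one_pow]⟩ (by
    rintro s hs l ⟨hl, hl'⟩
    refine ⟨(Subring.centralizer S).mul_mem (hSE s hs) hl, ?_⟩
    change ((⟨s, hSE s hs⟩ : Subring.centralizer S) * ⟨l, hl⟩) ^ (p ^ i) = (⟨s, hSE s hs⟩ : Subring.centralizer S) * ⟨l, hl⟩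
    rw [mul_pow]
    exact congrArg₂ (· * ·) (Subtype.ext (hS s hs)) hl')
  have h2 : Nat.card V ≤ Nat.card L' := by
    apply Nat.card_le_card_of_surjective (fun l : L' => ((l : Subring.centralizer S) : AddMonoid.End V) v)
    intro w
    obtain ⟨l, ⟨hl, hl'⟩, hlw⟩ := hsurj w
    exact ⟨⟨⟨l, hl⟩, hl'⟩, hlw⟩
  rw [Nat.card_coe_set_eq] at h2
  exact h2.trans (card_fix_le _ (p ^ i) hm L' (fun x hx => hx))

end

end CfsgLib.IrrH13
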