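import Mathlib
import Cfsg.Agent.LibIrrH13

/-! Irreducible elements of a linear group over a finite field: cyclic centraliser, normaliser of the
centraliser (seat helper15). -/

set_option autoImplicit false

namespace Cfsg.Agent.IrrElt

open CfsgLib.IrrH13

section
variable (F V : Type*) {G : Type*} [Field F] [AddCommGroup V] [Module F V] [Group G]
  [DistribMulAction G V]

/-- scalars and `z` -/
def SS (z : G) : Set (AddMonoid.End V) :=
  Set.range (Module.toAddMonoidEnd F V) ∪ {DistribMulAction.toAddMonoidEnd G V z}

variable {F V}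
variable [SMulCommClass G F V]

theorem mem_cent {z : G} {e : AddMonoid.End V} :
    e ∈ Subring.centralizer (SS F V z) ↔ (∀ (c : F) (v : V), e (c • v) = c • e v) ∧ ∀ v, e (z • v) = z • e v := by
  rw [Subring.mem_centralizer_iff]
  constructor
  · intro h
    constructor
    · intro c v
      exact (DFunLike.congr_fun (h _ (Or.inl ⟨c, rfl⟩)) v).symm
    · intro v
      exact (DFunLike.congr_fun (h _ (Or.inr rfl)) v).symm
  · rintro ⟨h1, h2⟩ s (⟨c, rfl⟩ | rfl)
    · ext v
      exact (h1 c v).symm
    · ext v
      exact (h2 v).symm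

theorem toEnd_mem {z x : G} (h : x * z = z * x) :
    DistribMulAction.toAddMonoidEnd G V x ∈ Subring.centralizer (SS F V z) := by
  rw [mem_cent]
  constructor
  · intro c v
    exact smul_comm x c v
  · intro v
    change x • z • v = z • x • v
    rw [← mul_smul, h, mul_smul]

theorem scal_mem (z : G) (c : F) : Module.toAddMonoidEnd F V c ∈ Subring.centralizer (SS F V z) := by
  rw [mem_cent]
  constructor
  · intro d v
    exact smul_comm c d v
  · intro v
    exact (smul_comm z c v).symm

variable {z : G} (hirr : ∀ W : Submodule F V, (∀ w ∈ W, z • w ∈ W) → W = ⊥ ∨ W = ⊤)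

include hirr in
omit [SMulCommClass G F V] in
theorem hirr' (W : AddSubgroup V) (hW : ∀ s ∈ SS F V z, ∀ w ∈ W, s w ∈ W) : W = ⊥ ∨ W = ⊤ := by
  let W' : Submodule F V := { W with smul_mem' := fun c w hw => hW _ (Or.inl ⟨c, rfl⟩) w hw }
  rcases hirr W' (fun w hw => hW _ (Or.inr rfl) w hw) with h | h
  · left
    rw [eq_bot_iff]
    intro w hw
    have h1 : w ∈ W' := hw
    rw [h] at h1
    exact AddSubgroup.mem_bot.mpr ((Submodule.mem_bot F).mp h1)
  · right
    rw [eq_top_iff]
    intro w _
    have h1 : w ∈ W' := by rw [h]; exact Submodule.mem_top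
    exact h1

include hirr in
theorem cyclic_centralizer [Finite V] [Nontrivial V] [Finite G] [FaithfulSMul G V] :
    IsCyclic (Subgroup.centralizer ({z} : Set G)) := by
  letI inst : Field (Subring.centralizer (SS F V z)) := (isField _ (hirr' hirr)).toField
  have hc : ∀ x : Subgroup.centralizer ({z} : Set G), (x : G) * z = z * x :=
    fun x => (Subgroup.mem_centralizer_singleton_iff.mp x.2)
  let f : Subgroup.centralizer ({z} : Set G) →* Subring.centralizer (SS F V z) :=
    { toFun := fun x => ⟨DistribMulAction.toAddMonoidEnd G V (x : G), toEnd_mem (hc x)⟩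
      map_one' := Subtype.ext (map_one (DistribMulAction.toAddMonoidEnd G V))
      map_mul' := fun x y => Subtype.ext (map_mul (DistribMulAction.toAddMonoidEnd G V) (x : G) (y : G)) }
  refine isCyclic_of_subgroup_isDomain f ?_
  intro x y h
  apply Subtype.ext
  apply FaithfulSMul.eq_of_smul_eq_smul (α := V)
  intro v
  have h1 := congrArg Subtype.val h
  exact DFunLike.congr_fun h1 v

include hirr in
theorem card_normalizer [Finite F] [Finite V] [Nontrivial V] [Finite G] [FaithfulSMul G V] :
    ∃ d, d ∣ Module.finrank F V ∧
      Nat.card (Subgroup.normalizer ((Subgroup.centralizer ({z} : Set G) : Subgroup G) : Set G))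
        = Nat.card (Subgroup.centralizer ({z} : Set G)) * d := by
  letI inst : Field (Subring.centralizer (SS F V z)) := (isField _ (hirr' hirr)).toField
  have hEfin : Finite (Subring.centralizer (SS F V z)) := finite_E _ (hirr' hirr)
  have hcomm : ∀ s ∈ SS F V z, ∀ t ∈ SS F V z, s * t = t * s := by
    have h1 : ∀ s ∈ SS F V z, s ∈ Subring.centralizer (SS F V z) := by
      rintro s (⟨c, rfl⟩ | rfl)
      · exact scal_mem z c
      · exact toEnd_mem rfl
    intro s hs t ht
    exact Subring.mem_centralizer_iff.mp (h1 t ht) s hs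
  have hcard := card_E _ (hirr' hirr) hcomm
  let ι : F →+* Subring.centralizer (SS F V z) :=
    (Module.toAddMonoidEnd F V).codRestrict (Subring.centralizer (SS F V z)) (scal_mem z)
  letI alg : Algebra F (Subring.centralizer (SS F V z)) := ι.toAlgebra
  have hfr : Module.finrank F (Subring.centralizer (SS F V z)) = Module.finrank F V := by
    have h1 := Module.natCard_eq_pow_finrank (K := F) (V := Subring.centralizer (SS F V z))
    have h2 := Module.natCard_eq_pow_finrank (K := F) (V := V)
    rw [hcard, h2] at h1
    exact (Nat.pow_right_injective Finite.one_lt_card h1).symm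
  set C := Subgroup.centralizer ({z} : Set G) with hC
  have hconj : ∀ (n : Subgroup.normalizer (C : Set G)) (e : Subring.centralizer (SS F V z)),
      DistribMulAction.toAddMonoidEnd G V n * (e : AddMonoid.End V) * DistribMulAction.toAddMonoidEnd G V (n : G)⁻¹
        ∈ Subring.centralizer (SS F V z) := by
    intro n e
    rw [mem_cent]
    obtain ⟨he1, he2⟩ := mem_cent.mp e.2
    constructor
    · intro c v
      change (n : G) • (e : AddMonoid.End V) ((n : G)⁻¹ • c • v) = c • (n : G) • (e : AddMonoid.End V) ((n : G)⁻¹ • v)
      rw [smul_comm (n : G)⁻¹ c v, he1, smul_comm (n : G) c]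
    · intro v
      change (n : G) • (e : AddMonoid.End V) ((n : G)⁻¹ • z • v) = z • (n : G) • (e : AddMonoid.End V) ((n : G)⁻¹ • v)
      have hx : (n : G)⁻¹ * z * n ∈ C := by
        have h1 := (Subgroup.mem_normalizer_iff''.mp n.2 z).mp (Subgroup.mem_centralizer_singleton_iff.mpr rfl)
        exact h1
      have hx' := Subgroup.mem_centralizer_singleton_iff.mp hx
      have h2 : (e : AddMonoid.End V) * DistribMulAction.toAddMonoidEnd G V ((n : G)⁻¹ * z * n)
          = DistribMulAction.toAddMonoidEnd G V ((n : G)⁻¹ * z * n) * (e : AddMonoid.End V) :=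
        congrArg Subtype.val (mul_comm e (⟨_, toEnd_mem hx'⟩ : Subring.centralizer (SS F V z)))
      have h3 := DFunLike.congr_fun h2 ((n : G)⁻¹ • v)
      change (e : AddMonoid.End V) (((n : G)⁻¹ * z * n) • (n : G)⁻¹ • v)
        = ((n : G)⁻¹ * z * n) • (e : AddMonoid.End V) ((n : G)⁻¹ • v) at h3
      have e1 : ((n : G)⁻¹ * z * n) • (n : G)⁻¹ • v = (n : G)⁻¹ • z • v := by
        rw [mul_smul, mul_smul, smul_inv_smul]
      have e2 : ∀ w : V, ((n : G)⁻¹ * z * n) • w = (n : G)⁻¹ • z • (n : G) • w := fun w => by
        rw [mul_smul, mul_smul]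
      rw [e1, e2] at h3
      rw [h3, smul_inv_smul]
  letI act : MulSemiringAction (Subgroup.normalizer (C : Set G)) (Subring.centralizer (SS F V z)) :=
    { smul := fun n e => ⟨_, hconj n e⟩
      one_smul := fun e => by
        apply Subtype.ext
        ext v
        change (1 : G) • (e : AddMonoid.End V) ((1 : G)⁻¹ • v) = (e : AddMonoid.End V) v
        rw [inv_one, one_smul, one_smul]
      mul_smul := fun n k e => by
        apply Subtype.ext
        ext v
        change ((n : G) * (k : G)) • (e : AddMonoid.End V) (((n : G) * (k : G))⁻¹ • v)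
          = (n : G) • (k : G) • (e : AddMonoid.End V) ((k : G)⁻¹ • (n : G)⁻¹ • v)
        rw [mul_inv_rev, mul_smul, mul_smul]
      smul_zero := fun n => by
        apply Subtype.ext
        ext v
        change (n : G) • (0 : V) = 0
        rw [smul_zero]
      smul_add := fun n e f => by
        apply Subtype.ext
        ext v
        change (n : G) • ((e : AddMonoid.End V) ((n : G)⁻¹ • v) + (f : AddMonoid.End V) ((n : G)⁻¹ • v)) = _
        rw [smul_add]
        rfl
      smul_one := fun n => by
        apply Subtype.ext
        ext v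
        change (n : G) • ((n : G)⁻¹ • v) = v
        rw [smul_inv_smul]
      smul_mul := fun n e f => by
        apply Subtype.ext
        ext v
        change (n : G) • ((e : AddMonoid.End V) ((f : AddMonoid.End V) ((n : G)⁻¹ • v))) =
          (n : G) • (e : AddMonoid.End V) ((n : G)⁻¹ • (n : G) • (f : AddMonoid.End V) ((n : G)⁻¹ • v))
        rw [inv_smul_smul] }
  have hsc : ∀ (n : Subgroup.normalizer (C : Set G)) (c : F), n • (algebraMap F (Subring.centralizer (SS F V z)) c)
      = algebraMap F _ c := by
    intro n c
    apply Subtype.ext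
    ext v
    change (n : G) • c • ((n : G)⁻¹ • v) = c • v
    rw [smul_comm, smul_inv_smul]
  have hscc : SMulCommClass (Subgroup.normalizer (C : Set G)) F (Subring.centralizer (SS F V z)) := by
    refine ⟨fun n c e => ?_⟩
    rw [Algebra.smul_def, Algebra.smul_def, smul_mul', hsc]
  let φ := MulSemiringAction.toAlgAut (Subgroup.normalizer (C : Set G)) F (Subring.centralizer (SS F V z))
  have hker : φ.ker = C.subgroupOf (Subgroup.normalizer (C : Set G)) := by
    ext n
    rw [MonoidHom.mem_ker, Subgroup.mem_subgroupOf]
    constructor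
    · intro h
      have h1 : n • (⟨_, toEnd_mem (x := z) (z := z) rfl⟩ : Subring.centralizer (SS F V z)) = ⟨_, toEnd_mem (x := z) (z := z) rfl⟩ :=
        DFunLike.congr_fun h _
      apply Subgroup.mem_centralizer_singleton_iff.mpr
      have h2 : (n : G) * z * (n : G)⁻¹ = z := by
        apply FaithfulSMul.eq_of_smul_eq_smul (α := V)
        intro v
        rw [mul_smul, mul_smul]
        exact DFunLike.congr_fun (congrArg Subtype.val h1) v
      exact mul_inv_eq_iff_eq_mul.mp h2
    · intro h
      have h0 := Subgroup.mem_centralizer_singleton_iff.mp h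
      apply AlgEquiv.ext
      intro e
      change n • e = e
      have h2 : (e : AddMonoid.End V) * DistribMulAction.toAddMonoidEnd G V (n : G)
          = DistribMulAction.toAddMonoidEnd G V (n : G) * (e : AddMonoid.End V) :=
        congrArg Subtype.val (mul_comm e (⟨_, toEnd_mem h0⟩ : Subring.centralizer (SS F V z)))
      apply Subtype.ext
      ext v
      have h3 := DFunLike.congr_fun h2 ((n : G)⁻¹ • v)
      change (e : AddMonoid.End V) ((n : G) • (n : G)⁻¹ • v) = (n : G) • (e : AddMonoid.End V) ((n : G)⁻¹ • v) at h3
      rw [smul_inv_smul] at h3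
      exact h3.symm
  refine ⟨Nat.card φ.range, ?_, ?_⟩
  · rw [← hfr, ← IsGalois.card_aut_eq_finrank]
    exact Subgroup.card_subgroup_dvd_card _
  · have h1 := Subgroup.card_eq_card_quotient_mul_card_subgroup φ.ker
    rw [Nat.card_congr (QuotientGroup.quotientKerEquivRange φ).toEquiv, hker] at h1
    rw [h1, mul_comm]
    congr 1
    exact Nat.card_congr (Subgroup.subgroupOfEquivOfLe Subgroup.le_normalizer).toEquiv

end

/-- a prime order element acting without the wrong divisibilities is irreducible -/
theorem irreducible {F V G : Type*} [Field F] [AddCommGroup V] [Module F V] [Group G]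
    [DistribMulAction G V] [SMulCommClass G F V] [Finite F] [Finite V] [Nontrivial V] [FaithfulSMul G V]
    {z : G} {p : ℕ} (hp : p.Prime) (hz : orderOf z = p)
    (hq : ∀ d, 0 < d → d < Module.finrank F V → ¬ Nat.card F ^ d ≡ 1 [MOD p])
    (hpF : Nat.Coprime p (Nat.card F)) :
    ∀ W : Submodule F V, (∀ w ∈ W, z • w ∈ W) → W = ⊥ ∨ W = ⊤ := by
  have hpf : Fact p.Prime := ⟨hp⟩
  have hzp : IsPGroup p (Subgroup.zpowers z) := by
    apply IsPGroup.of_card (n := 1)
    rw [Nat.card_zpowers, hz, pow_one]
  have hzfin : Finite (Subgroup.zpowers z) := by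
    apply Nat.finite_of_card_ne_zero
    rw [Nat.card_zpowers, hz]
    exact hp.ne_zero
  -- the fixed space
  let K : Submodule F V :=
    { carrier := {v | z • v = v}
      add_mem' := fun {a b} ha hb => by
        change z • (a + b) = a + b
        rw [smul_add, show z • a = a from ha, show z • b = b from hb]
      zero_mem' := smul_zero z
      smul_mem' := fun c v hv => by
        change z • c • v = c • v
        rw [smul_comm, show z • v = v from hv] }
  -- key: the fixed space of an invariant subspace
  have key : ∀ W : Submodule F V, (∀ w ∈ W, z • w ∈ W) →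
      Nat.card F ^ Module.finrank F W ≡ Nat.card F ^ Module.finrank F (K ⊓ W : Submodule F V) [MOD p] := by
    intro W hW
    have hWz : ∀ g : Subgroup.zpowers z, ∀ w : W, (g : G) • (w : V) ∈ W := by
      rintro ⟨g, hg⟩ ⟨w, hw⟩
      change g • w ∈ W
      have hfin : IsOfFinOrder z := orderOf_pos_iff.mp (by rw [hz]; exact hp.pos)
      have hpow : ∀ n : ℕ, z ^ n • w ∈ W := by
        intro n
        induction n with
        | zero => rw [pow_zero, one_smul]; exact hw
        | succ n ih => rw [pow_succ', mul_smul]; exact hW _ ih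
      obtain ⟨n, hn⟩ := (hfin.mem_powers_iff_mem_zpowers.mpr hg : g ∈ Submonoid.powers z)
      rw [← hn]
      exact hpow n
    letI act : MulAction (Subgroup.zpowers z) W :=
      { smul := fun g w => ⟨(g : G) • (w : V), hWz g w⟩
        one_smul := fun w => Subtype.ext (one_smul G (w : V))
        mul_smul := fun g h w => Subtype.ext (mul_smul (g : G) (h : G) (w : V)) }
    have h1 := hzp.card_modEq_card_fixedPoints W
    have h2 : Nat.card (MulAction.fixedPoints (Subgroup.zpowers z) W) = Nat.card (K ⊓ W : Submodule F V) := by
      apply Nat.card_congr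
      refine
        { toFun := fun w => ⟨((w : W) : V), ?_, (w : W).2⟩
          invFun := fun v => ⟨⟨v, v.2.2⟩, ?_⟩
          left_inv := fun w => rfl
          right_inv := fun v => rfl }
      · have := w.2 ⟨z, Subgroup.mem_zpowers z⟩
        exact congrArg Subtype.val this
      · rintro ⟨g, hg⟩
        apply Subtype.ext
        change g • (v : V) = v
        have h3 : z ∈ MulAction.stabilizer G (v : V) := v.2.1
        exact (Subgroup.zpowers_le.mpr h3) hg
    rw [h2, Module.natCard_eq_pow_finrank (K := F) (V := W), Module.natCard_eq_pow_finrank (K := F) (V := (K ⊓ W : Submodule F V))] at h1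
    exact h1
  have key2 : ∀ W : Submodule F V, (∀ w ∈ W, z • w ∈ W) →
      Module.finrank F W = Module.finrank F (K ⊓ W : Submodule F V) ∨
        (W = ⊤ ∧ K ⊓ W = ⊥) := by
    intro W hW
    have h1 := key W hW
    have hle : Module.finrank F (K ⊓ W : Submodule F V) ≤ Module.finrank F W := Submodule.finrank_mono inf_le_right
    have hWle : Module.finrank F W ≤ Module.finrank F V := Submodule.finrank_le W
    by_contra hcon
    push Not at hcon
    obtain ⟨hne, h2⟩ := hcon
    have hlt : Module.finrank F (K ⊓ W : Submodule F V) < Module.finrank F W := lt_of_le_of_ne hle (Ne.symm hne)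
    set e := Module.finrank F (K ⊓ W : Submodule F V) with he
    obtain ⟨d, hd⟩ := Nat.exists_eq_add_of_lt hlt
    have hd' : Module.finrank F W = e + (d + 1) := by omega
    rw [hd', pow_add] at h1
    nth_rewrite 2 [← mul_one (Nat.card F ^ e)] at h1
    have h3 := Nat.ModEq.cancel_left_of_coprime (Nat.Coprime.pow_right e hpF) h1
    by_cases hdV : d + 1 < Module.finrank F V
    · exact hq (d + 1) (by omega) hdV h3
    · have h4 : Module.finrank F W = Module.finrank F V := by omega
      have h5 : e = 0 := by omega
      have hWt : W = ⊤ := Submodule.eq_top_of_finrank_eq h4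
      exact h2 hWt (Submodule.finrank_eq_zero.mp h5)
  have hK : K = ⊥ := by
    rcases key2 ⊤ (fun w _ => Submodule.mem_top) with h | h
    · exfalso
      rw [inf_top_eq, finrank_top] at h
      have h1 : K = ⊤ := Submodule.eq_top_of_finrank_eq h.symm
      have h2 : z = 1 := by
        apply FaithfulSMul.eq_of_smul_eq_smul (α := V)
        intro v
        have h3 : v ∈ K := by rw [h1]; exact Submodule.mem_top
        rw [one_smul]
        exact h3
      rw [h2, orderOf_one] at hz
      exact hp.one_lt.ne hz
    · rw [inf_top_eq] at h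
      exact h.2
  intro W hW
  rcases key2 W hW with h | h
  · left
    rw [hK, bot_inf_eq, finrank_bot] at h
    exact Submodule.finrank_eq_zero.mp h
  · exact Or.inr h.1

end Cfsg.Agent.IrrElt
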