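import Mathlib
import Cfsg.Agent.LibSuz7
import Cfsg.Agent.LibIrrElt

/-! Suzuki groups: centralisers (seat helper15). -/

set_option autoImplicit false

namespace Cfsg.Agent.Suz

open MulAction
open scoped Pointwise
open CfsgLib.TIConj

variable {F : Type*} [Field F] [Fintype F] {O : Set (Projectivization F (Fin 4 → F))} {m : ℕ}

instance faithfulSL {F : Type*} [Field F] : FaithfulSMul (Matrix.SpecialLinearGroup (Fin 4) F) (Fin 4 → F) := by
  refine ⟨fun {g h} hgh => ?_⟩
  apply Subtype.ext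
  apply Matrix.ext_of_mulVec_single
  intro i
  exact hgh (Pi.single i 1)

/-- prime order elements without fixed points -/
theorem Data.no_fix_prime (D : Data F O m) {z : Gp O} {p : ℕ} (hp : p.Prime) (hz : orderOf z = p)
    (hnf : ∀ x ∈ O, z • x ≠ x) : p ∣ (2 ^ (2 * m + 1)) ^ 2 + 1 := by
  have hpf : Fact p.Prime := ⟨hp⟩
  have hzp : IsPGroup p (Subgroup.zpowers z) := by
    apply IsPGroup.of_card (n := 1)
    rw [Nat.card_zpowers, hz, pow_one]
  let act : MulAction (Subgroup.zpowers z) O :=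
    { smul := fun g x => ⟨(g : Gp O) • (x : Projectivization F (Fin 4 → F)), D.smul_mem _ x.2⟩
      one_smul := fun x => Subtype.ext (one_smul _ (x : Projectivization F (Fin 4 → F)))
      mul_smul := fun g h x => Subtype.ext (mul_smul (g : Gp O) (h : Gp O) (x : Projectivization F (Fin 4 → F))) }
  have h1 := hzp.card_modEq_card_fixedPoints O
  have h2 : Nat.card (MulAction.fixedPoints (Subgroup.zpowers z) O) = 0 := by
    have : IsEmpty (MulAction.fixedPoints (Subgroup.zpowers z) O) := by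
      refine ⟨fun x => ?_⟩
      have h3 := x.2 ⟨z, Subgroup.mem_zpowers z⟩
      exact hnf _ (x : O).2 (congrArg Subtype.val h3)
    exact Nat.card_of_isEmpty
  rw [h2, D.card_O] at h1
  exact (Nat.modEq_zero_iff_dvd).mp h1

theorem Data.prime_facts (D : Data F O m) {p : ℕ} (hp : p.Prime) (hdvd : p ∣ (2 ^ (2 * m + 1)) ^ 2 + 1) :
    p ≠ 2 ∧ (∀ d, 0 < d → d < 4 → ¬ (2 ^ (2 * m + 1)) ^ d ≡ 1 [MOD p]) ∧ Nat.Coprime p (2 ^ (2 * m + 1)) := by
  have hpf : Fact p.Prime := ⟨hp⟩
  have hq := D.q_ge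
  have hp2 : p ≠ 2 := by
    rintro rfl
    have h2 : 2 ∣ (2 ^ (2 * m + 1)) ^ 2 := dvd_pow (dvd_pow_self 2 (by omega)) two_ne_zero
    omega
  have h2 : (2 : ZMod p) ≠ 0 := by
    intro h
    apply hp2
    have h3 : ((2 : ℕ) : ZMod p) = 0 := by exact_mod_cast h
    rw [ZMod.natCast_eq_zero_iff] at h3
    exact (Nat.prime_dvd_prime_iff_eq hp Nat.prime_two).mp h3
  generalize 2 ^ (2 * m + 1) = q at *
  have h3 : ((q : ZMod p)) ^ 2 = -1 := by
    have : ((q ^ 2 + 1 : ℕ) : ZMod p) = 0 := (ZMod.natCast_eq_zero_iff _ _).mpr hdvd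
    push_cast at this
    linear_combination this
  refine ⟨hp2, ?_, ?_⟩
  · intro d hd0 hd4 h
    have h4 : ((q : ZMod p)) ^ d = 1 := by
      have := (ZMod.natCast_eq_natCast_iff _ _ p).mpr h
      push_cast at this
      exact this
    apply h2
    interval_cases d
    · linear_combination h3 - (q + 1 : ZMod p) * h4
    · linear_combination h3 - h4
    · -- `q³ = 1`, `q² = -1`
      have h5 : (q : ZMod p) = -1 := by linear_combination (q : ZMod p) * h3 - h4
      rw [h5] at h3
      linear_combination h3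
  · rw [Nat.Prime.coprime_iff_not_dvd hp]
    intro h
    have h5 : p ∣ q ^ 2 := dvd_pow h two_ne_zero
    have h6 : p ∣ 1 := (Nat.dvd_add_right h5).mp hdvd
    exact hp.one_lt.ne' (Nat.dvd_one.mp h6)

theorem Data.irr (D : Data F O m) {z : Gp O} {p : ℕ} (hp : p.Prime) (hz : orderOf z = p)
    (hdvd : p ∣ (2 ^ (2 * m + 1)) ^ 2 + 1) :
    ∀ W : Submodule F (Fin 4 → F), (∀ w ∈ W, z • w ∈ W) → W = ⊥ ∨ W = ⊤ := by
  obtain ⟨h1, h2, h3⟩ := D.prime_facts hp hdvd
  have hfr : Module.finrank F (Fin 4 → F) = 4 := by simp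
  have hc : Nat.card F = 2 ^ (2 * m + 1) := by rw [Nat.card_eq_fintype_card, D.hF]
  refine IrrElt.irreducible hp hz ?_ ?_
  · rw [hfr, hc]
    exact h2
  · rw [hc]
    exact h3

theorem Data.conj_cent {G : Type*} [Group G] (k z : G) :
    Subgroup.centralizer ({z} : Set G) = (Subgroup.centralizer ({k * z * k⁻¹} : Set G)).map (MulAut.conj k⁻¹).toMonoidHom := by
  ext x
  rw [mem_conj, Subgroup.mem_centralizer_singleton_iff, Subgroup.mem_centralizer_singleton_iff, inv_inv]
  constructor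
  · intro h
    calc k * x * k⁻¹ * (k * z * k⁻¹) = k * (x * z) * k⁻¹ := by group
      _ = _ := by rw [h]; group
  · intro h
    calc x * z = k⁻¹ * (k * x * k⁻¹ * (k * z * k⁻¹)) * k := by group
      _ = _ := by rw [h]; group

/-- centralisers of prime order elements -/
theorem Data.cent_prime (D : Data F O m) {z : Gp O} {p : ℕ} (hp : p.Prime) (hz : orderOf z = p) :
    (p ∣ (2 ^ (2 * m + 1)) ^ 2 + 1 ∧ IsCyclic (Subgroup.centralizer ({z} : Set (Gp O)))) ∨
    (∃ k : Gp O, ∃ t : Fˣ, t ≠ 1 ∧ p ≠ 2 ∧ p ∣ 2 ^ (2 * m + 1) - 1 ∧ k * z * k⁻¹ = D.h t ∧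
      Subgroup.centralizer ({z} : Set (Gp O)) = D.hhom.range.map (MulAut.conj k⁻¹).toMonoidHom) ∨
    (∃ k : Gp O, ∃ a b, p = 2 ∧ k * z * k⁻¹ = D.u a b ∧
      Subgroup.centralizer ({z} : Set (Gp O)) ≤ D.Us.map (MulAut.conj k⁻¹).toMonoidHom) := by
  have hz1 : z ≠ 1 := by
    rintro rfl
    rw [orderOf_one] at hz
    exact hp.one_lt.ne hz
  by_cases hnf : ∀ x ∈ O, z • x ≠ x
  · left
    have h1 := D.no_fix_prime hp hz hnf
    exact ⟨h1, IrrElt.cyclic_centralizer (D.irr hp hz h1)⟩
  · right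
    push Not at hnf
    obtain ⟨x, hx, hzx⟩ := hnf
    rcases D.fix_cases hz1 hx hzx with ⟨k, a, b, -, h⟩ | ⟨k, t, ht, -, h⟩
    · right
      have ho : orderOf (D.u a b) = p := by
        rw [← h, ← hz]
        exact orderOf_injective (MulAut.conj k).toMonoidHom (MulAut.conj k).injective z
      have hne : ¬ (a = 0 ∧ b = 0) := by
        rintro ⟨rfl, rfl⟩
        rw [D.u_zero, orderOf_one] at ho
        exact hp.one_lt.ne ho
      refine ⟨k, a, b, ?_, h, ?_⟩
      · have h4 : D.u a b ^ 2 ^ 2 = 1 := by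
          rw [show (2 : ℕ) ^ 2 = 2 * 2 by norm_num, pow_mul, D.u_sq, D.u_sq, map_zero, zero_mul, D.u_zero]
        have h5 := orderOf_dvd_of_pow_eq_one h4
        rw [ho] at h5
        exact (Nat.prime_dvd_prime_iff_eq hp Nat.prime_two).mp (hp.dvd_of_dvd_pow h5)
      · rw [Data.conj_cent k z, h]
        apply Subgroup.map_mono
        intro y hy
        obtain ⟨c, d, rfl⟩ := D.cent_u hne (Subgroup.mem_centralizer_singleton_iff.mp hy)
        exact D.u_mem c d
    · left
      have ho : orderOf (D.h t) = p := by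
        rw [← h, ← hz]
        exact orderOf_injective (MulAut.conj k).toMonoidHom (MulAut.conj k).injective z
      have ho' : orderOf t = p := by
        rw [← ho]
        exact (orderOf_injective D.hhom D.hhom_inj t).symm
      have hpq : p ∣ 2 ^ (2 * m + 1) - 1 := by
        rw [← D.card_units, ← ho']
        exact orderOf_dvd_natCard t
      refine ⟨k, t, ht, ?_, hpq, h, ?_⟩
      · rintro rfl
        have h2 : t ^ 2 = 1 := by rw [← ho']; exact pow_orderOf_eq_one t
        exact D.sq_ne_one ht h2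
      · rw [Data.conj_cent k z, h]
        congr 1
        ext y
        rw [Subgroup.mem_centralizer_singleton_iff]
        constructor
        · intro hy
          obtain ⟨s, rfl⟩ := D.cent_h ht hy
          exact ⟨s, rfl⟩
        · rintro ⟨s, rfl⟩
          change D.h s * D.h t = D.h t * D.h s
          rw [D.h_mul, D.h_mul, mul_comm]

theorem Data.cyclic_range (D : Data F O m) (k : Gp O) : IsCyclic (D.hhom.range.map (MulAut.conj k).toMonoidHom) := by
  have h1 : IsCyclic D.hhom.range := isCyclic_of_surjective D.hhom.rangeRestrict D.hhom.rangeRestrict_surjective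
  exact isCyclic_of_surjective (Subgroup.equivMapOfInjective D.hhom.range _ (MulAut.conj k).injective).toMonoidHom
    (Subgroup.equivMapOfInjective D.hhom.range _ (MulAut.conj k).injective).surjective

theorem Data.cent_cyclic (D : Data F O m) {z : Gp O} {p : ℕ} (hp : p.Prime) (hp2 : p ≠ 2) (hz : orderOf z = p) :
    IsCyclic (Subgroup.centralizer ({z} : Set (Gp O))) := by
  rcases D.cent_prime hp hz with ⟨-, h⟩ | ⟨k, t, -, -, -, -, h⟩ | ⟨k, a, b, h, -⟩
  · exact h
  · rw [h]
    exact D.cyclic_range _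
  · exact absurd h hp2

end Cfsg.Agent.Suz
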