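import Mathlib
import Cfsg.Agent.LibTIConj

/-! Counting the conjugates of a TI subgroup (seat helper15). -/

set_option autoImplicit false

namespace Cfsg.Agent.TICount

open CfsgLib.TIConj

variable {G : Type*} [Group G]

/-- nonidentity elements conjugate into `C` -/
def XX (C : Subgroup G) : Set G := {x | x ≠ 1 ∧ ∃ g, g⁻¹ * x * g ∈ C}

theorem ncard_XX [Finite G] (C : Subgroup G)
    (hTI : ∀ x ∈ C, x ≠ 1 → ∀ g : G, g⁻¹ * x * g ∈ C → g ∈ Subgroup.normalizer (C : Set G)) :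
    (XX C).ncard * Nat.card (Subgroup.normalizer (C : Set G)) = Nat.card G * (Nat.card C - 1) := by
  classical
  have h1 : ∀ x : XX C, ∃ g, g⁻¹ * (x : G) * g ∈ C := fun x => x.2.2
  choose γ hγ using h1
  have h2 : Nat.card {c : C // c ≠ 1} = Nat.card C - 1 := by
    have := Fintype.ofFinite C
    rw [Nat.card_eq_fintype_card, Nat.card_eq_fintype_card, Fintype.card_subtype_compl, Fintype.card_subtype_eq]
  rw [← h2, ← Nat.card_coe_set_eq, ← Nat.card_prod, ← Nat.card_prod]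
  have hmem : ∀ (x : XX C) (n : Subgroup.normalizer (C : Set G)),
      (n : G)⁻¹ * ((γ x)⁻¹ * (x : G) * γ x) * n ∈ C := fun x n =>
    (Subgroup.mem_normalizer_iff''.mp n.2 _).mp (hγ x)
  have hne : ∀ (x : XX C) (n : Subgroup.normalizer (C : Set G)),
      (⟨_, hmem x n⟩ : C) ≠ 1 := by
    intro x n h
    apply x.2.1
    have h3 : (n : G)⁻¹ * ((γ x)⁻¹ * (x : G) * γ x) * n = 1 := congrArg Subtype.val h
    have h4 : (x : G) = γ x * n * ((n : G)⁻¹ * ((γ x)⁻¹ * (x : G) * γ x) * n) * (γ x * n)⁻¹ := by group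
    rw [h4, h3]
    group
  apply Nat.card_congr
  refine Equiv.ofBijective (fun y => (γ y.1 * y.2, ⟨⟨_, hmem y.1 y.2⟩, hne y.1 y.2⟩)) ⟨?_, ?_⟩
  · rintro ⟨x, n⟩ ⟨y, k⟩ h
    have e1 : γ x * (n : G) = γ y * k := congrArg Prod.fst h
    have e2 : (n : G)⁻¹ * ((γ x)⁻¹ * (x : G) * γ x) * n = (k : G)⁻¹ * ((γ y)⁻¹ * (y : G) * γ y) * k :=
      congrArg (fun z => ((Prod.snd z : {c : C // c ≠ 1}) : C).1) h
    have e3 : (x : G) = y := by
      have e4 : (x : G) = γ x * n * ((n : G)⁻¹ * ((γ x)⁻¹ * (x : G) * γ x) * n) * (γ x * n)⁻¹ := by group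
      rw [e4, e1, e2]
      group
    have e5 : x = y := Subtype.ext e3
    subst e5
    have e6 : n = k := Subtype.ext (mul_left_cancel e1)
    subst e6
    rfl
  · rintro ⟨g, ⟨c, hc⟩⟩
    have hcne : (c : G) ≠ 1 := fun h => hc (Subtype.ext h)
    have hx : g * (c : G) * g⁻¹ ∈ XX C := by
      refine ⟨?_, g, ?_⟩
      · intro h
        apply hcne
        have : (c : G) = g⁻¹ * (g * (c : G) * g⁻¹) * g := by group
        rw [this, h]
        group
      · have : g⁻¹ * (g * (c : G) * g⁻¹) * g = c := by group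
        rw [this]
        exact c.2
    let x : XX C := ⟨_, hx⟩
    have hn : (γ x)⁻¹ * g ∈ Subgroup.normalizer (C : Set G) := by
      rw [← inv_mem_iff]
      apply hTI c c.2 hcne
      have e : ((γ x)⁻¹ * g)⁻¹⁻¹ * (c : G) * ((γ x)⁻¹ * g)⁻¹ = (γ x)⁻¹ * (x : G) * γ x := by
        change _ = (γ x)⁻¹ * (g * (c : G) * g⁻¹) * γ x
        group
      rw [e]
      exact hγ x
    refine ⟨(x, ⟨_, hn⟩), ?_⟩
    refine Prod.ext ?_ (Subtype.ext (Subtype.ext ?_))
    · change γ x * ((γ x)⁻¹ * g) = g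
      group
    · change ((γ x)⁻¹ * g)⁻¹ * ((γ x)⁻¹ * (g * (c : G) * g⁻¹) * γ x) * ((γ x)⁻¹ * g) = c
      group

theorem ti_of_cent (C : Subgroup G) (hC : ∀ x ∈ C, x ≠ 1 → Subgroup.centralizer ({x} : Set G) = C) :
    ∀ x ∈ C, x ≠ 1 → ∀ g : G, g⁻¹ * x * g ∈ C → g ∈ Subgroup.normalizer (C : Set G) := by
  intro x hx hx1 g hg
  have h1 : g⁻¹ * x * g ≠ 1 := by
    intro h
    apply hx1
    have : x = g * (g⁻¹ * x * g) * g⁻¹ := by group
    rw [this, h]
    group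
  have h2 := hC _ hx hx1
  have h3 := hC _ hg h1
  rw [Subgroup.mem_normalizer_iff'']
  intro y
  constructor
  · intro hy
    rw [← h3, Subgroup.mem_centralizer_singleton_iff]
    rw [← h2, Subgroup.mem_centralizer_singleton_iff] at hy
    calc g⁻¹ * y * g * (g⁻¹ * x * g) = g⁻¹ * (y * x) * g := by group
      _ = _ := by rw [hy]; group
  · intro hy
    rw [← h2, Subgroup.mem_centralizer_singleton_iff]
    rw [← h3, Subgroup.mem_centralizer_singleton_iff] at hy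
    calc y * x = g * (g⁻¹ * y * g * (g⁻¹ * x * g)) * g⁻¹ := by group
      _ = _ := by rw [hy]; group

/-- disjointness -/
theorem disjoint_XX {A B : Subgroup G} (h : ∀ x ∈ A, ∀ g : G, g * x * g⁻¹ ∈ B → x = 1) : Disjoint (XX A) (XX B) := by
  rw [Set.disjoint_left]
  rintro x ⟨hx1, g, hg⟩ ⟨-, k, hk⟩
  have h1 := h _ hg (k⁻¹ * g) (by
    have e : k⁻¹ * g * (g⁻¹ * x * g) * (k⁻¹ * g)⁻¹ = k⁻¹ * x * k := by group
    rw [e]
    exact hk)
  apply hx1
  have : x = g * (g⁻¹ * x * g) * g⁻¹ := by group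
  rw [this, h1]
  group

end Cfsg.Agent.TICount
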