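import Mathlib
import Cfsg.Agent.LibSuz8
import Cfsg.Agent.LibTICount

/-! Suzuki groups: the anisotropic tori (seat helper15). -/

set_option autoImplicit false

namespace Cfsg.Agent.Suz

open MulAction
open scoped Pointwise
open CfsgLib.TIConj TICount

variable {F : Type*} [Field F] [Fintype F] {O : Set (Projectivization F (Fin 4 → F))} {m : ℕ}

theorem Data.coprime_q1 (D : Data F O m) : Nat.Coprime ((2 ^ (2 * m + 1)) ^ 2 + 1) (2 ^ (2 * m + 1) - 1) := by
  have hq := D.q_ge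
  have hev : 2 ∣ 2 ^ (2 * m + 1) := dvd_pow_self 2 (by omega)
  generalize 2 ^ (2 * m + 1) = q at *
  apply Nat.coprime_of_dvd
  intro p hp h1 h2
  have h3 : p ∣ 2 := by
    obtain ⟨r, rfl⟩ : ∃ r, q = r + 1 := ⟨q - 1, by omega⟩
    rw [Nat.add_sub_cancel] at h2
    have h4 : (r + 1) ^ 2 + 1 = r * (r + 2) + 2 := by ring
    rw [h4] at h1
    exact (Nat.dvd_add_right (Dvd.dvd.mul_right h2 _)).mp h1
  have h4 : p = 2 := (Nat.prime_dvd_prime_iff_eq hp Nat.prime_two).mp h3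
  subst h4
  omega

theorem Data.coprime_q2 (_ : Data F O m) : Nat.Coprime ((2 ^ (2 * m + 1)) ^ 2 + 1) ((2 ^ (2 * m + 1)) ^ 2) :=
  Nat.coprime_self_add_left.mpr (Nat.coprime_one_left _)

theorem Data.coprime_q3 (D : Data F O m) : Nat.Coprime ((2 ^ (2 * m + 1)) ^ 2) (2 ^ (2 * m + 1) - 1) := by
  apply Nat.Coprime.pow_left
  have hq := D.q_ge
  have := Nat.coprime_self_sub_right (n := 2 ^ (2 * m + 1)) (m := 1) (by omega)
  rw [this]
  exact Nat.coprime_one_right _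

/-- tori -/
def IsT (m : ℕ) (C : Subgroup (Gp O)) : Prop :=
  ∃ (z : Gp O) (p : ℕ), p.Prime ∧ orderOf z = p ∧ p ∣ (2 ^ (2 * m + 1)) ^ 2 + 1 ∧ C = Subgroup.centralizer {z}

theorem card_hr (D : Data F O m) : Nat.card D.hhom.range = 2 ^ (2 * m + 1) - 1 := by
  rw [← D.card_units]
  exact Nat.card_congr (MonoidHom.ofInjective D.hhom_inj).toEquiv.symm

theorem order_dvd_of_mem {G : Type*} [Group G] {A : Subgroup G} {x : G} (hx : x ∈ A) : orderOf x ∣ Nat.card A := by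
  have h1 := orderOf_dvd_natCard (⟨x, hx⟩ : A)
  rwa [Subgroup.orderOf_mk] at h1

/-- an element of prime order commuting with an anisotropic element is anisotropic -/
theorem Data.comm_prime (D : Data F O m) {z y : Gp O} {p r : ℕ} (hp : p.Prime) (hz : orderOf z = p)
    (hpd : p ∣ (2 ^ (2 * m + 1)) ^ 2 + 1) (hr : r.Prime) (hy : orderOf y = r) (hyz : z * y = y * z) :
    r ∣ (2 ^ (2 * m + 1)) ^ 2 + 1 ∧ IsCyclic (Subgroup.centralizer ({y} : Set (Gp O))) := by
  have hzm : z ∈ Subgroup.centralizer ({y} : Set (Gp O)) := Subgroup.mem_centralizer_singleton_iff.mpr hyz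
  rcases D.cent_prime hr hy with h | ⟨k, t, -, -, -, -, h⟩ | ⟨k, a, b, -, -, h⟩
  · exact h
  · exfalso
    rw [h] at hzm
    have h1 := order_dvd_of_mem hzm
    rw [card_conj, card_hr D, hz] at h1
    have h2 := Nat.Coprime.eq_one_of_dvd (Nat.Coprime.coprime_dvd_left hpd D.coprime_q1) h1
    exact hp.one_lt.ne' h2
  · exfalso
    have h1 := order_dvd_of_mem (h hzm)
    rw [card_conj, D.card_Us, hz] at h1
    have h2 := Nat.Coprime.eq_one_of_dvd (Nat.Coprime.coprime_dvd_left hpd D.coprime_q2) h1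
    exact hp.one_lt.ne' h2

variable {C : Subgroup (Gp O)}

theorem Data.T_cyclic (D : Data F O m) (hC : IsT m C) : IsCyclic C := by
  obtain ⟨z, p, hp, hz, hpd, rfl⟩ := hC
  exact (D.comm_prime hp hz hpd hp hz rfl).2

theorem Data.T_comm (D : Data F O m) (hC : IsT m C) {x y : Gp O} (hx : x ∈ C) (hy : y ∈ C) : x * y = y * x := by
  have h1 := D.T_cyclic hC
  have h2 := (IsCyclic.isMulCommutative (α := C)).is_comm.comm ⟨x, hx⟩ ⟨y, hy⟩
  exact congrArg Subtype.val h2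

theorem Data.T_prime (D : Data F O m) (hC : IsT m C) {y : Gp O} {r : ℕ} (hy : y ∈ C) (hr : r.Prime)
    (hyr : orderOf y = r) : r ∣ (2 ^ (2 * m + 1)) ^ 2 + 1 ∧ C = Subgroup.centralizer {y} := by
  have hcm := fun {a b : Gp O} (ha : a ∈ C) (hb : b ∈ C) => D.T_comm hC ha hb
  obtain ⟨z, p, hp, hz, hpd, hCz⟩ := hC
  have hzC : z ∈ C := by rw [hCz]; exact Subgroup.mem_centralizer_singleton_iff.mpr rfl
  obtain ⟨h1, h2⟩ := D.comm_prime hp hz hpd hr hyr (hcm hzC hy)
  refine ⟨h1, le_antisymm ?_ ?_⟩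
  · intro x hx
    exact Subgroup.mem_centralizer_singleton_iff.mpr (hcm hx hy)
  · intro x hx
    rw [hCz, Subgroup.mem_centralizer_singleton_iff]
    have hzy : z ∈ Subgroup.centralizer ({y} : Set (Gp O)) := Subgroup.mem_centralizer_singleton_iff.mpr (hcm hzC hy)
    have h3 := (IsCyclic.isMulCommutative (α := Subgroup.centralizer ({y} : Set (Gp O)))).is_comm.comm ⟨x, hx⟩ ⟨z, hzy⟩
    exact congrArg Subtype.val h3

theorem Data.T_cent (D : Data F O m) (hC : IsT m C) {x : Gp O} (hx : x ∈ C) (hx1 : x ≠ 1) :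
    Subgroup.centralizer ({x} : Set (Gp O)) = C := by
  apply le_antisymm
  · have ho : orderOf x ≠ 1 := fun h => hx1 (orderOf_eq_one_iff.mp h)
    obtain ⟨p, hp, hpd⟩ := Nat.exists_prime_and_dvd ho
    have hz : orderOf (x ^ (orderOf x / p)) = p := orderOf_pow_orderOf_div (orderOf_pos x).ne' hpd
    rw [(D.T_prime hC (C.pow_mem hx _) hp hz).2]
    intro y hy
    rw [Subgroup.mem_centralizer_singleton_iff] at hy ⊢
    exact (Commute.pow_right (show Commute y x from hy) _)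
  · intro y hy
    exact Subgroup.mem_centralizer_singleton_iff.mpr (D.T_comm hC hy hx)

theorem Data.T_dvd_prime (D : Data F O m) (hC : IsT m C) {r : ℕ} (hr : r.Prime) (hrC : r ∣ Nat.card C) :
    r ∣ (2 ^ (2 * m + 1)) ^ 2 + 1 := by
  have : Fact r.Prime := ⟨hr⟩
  obtain ⟨y, hy⟩ := exists_prime_orderOf_dvd_card' (G := C) r hrC
  exact (D.T_prime hC y.2 hr (by rw [Subgroup.orderOf_coe, hy])).1

theorem Data.T_ne (D : Data F O m) (hC : IsT m C) : 1 < Nat.card C := by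
  obtain ⟨z, p, hp, hz, hpd, hCz⟩ := hC
  have hzC : z ∈ C := by rw [hCz]; exact Subgroup.mem_centralizer_singleton_iff.mpr rfl
  have h1 := order_dvd_of_mem hzC
  have h2 := Nat.le_of_dvd Nat.card_pos h1
  rw [hz] at h2
  exact lt_of_lt_of_le hp.one_lt h2

/-- Sylow subgroups are inside the torus -/
theorem Data.T_sylow (D : Data F O m) (hC : IsT m C) {r : ℕ} [hr : Fact r.Prime] (hrC : r ∣ Nat.card C) :
    ∃ P : Sylow r (Gp O), (P : Subgroup (Gp O)) ≤ C := by
  obtain ⟨y, hy⟩ := exists_prime_orderOf_dvd_card' (G := C) r hrC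
  have hyr : orderOf (y : Gp O) = r := by rw [Subgroup.orderOf_coe, hy]
  obtain ⟨hrd, hCy⟩ := D.T_prime hC y.2 hr.out hyr
  have hyp : IsPGroup r (Subgroup.zpowers (y : Gp O)) := by
    apply IsPGroup.of_card (n := 1)
    rw [Nat.card_zpowers, hyr, pow_one]
  obtain ⟨P, hP⟩ := hyp.exists_le_sylow
  refine ⟨P, ?_⟩
  have hyP : (y : Gp O) ∈ P := hP (Subgroup.mem_zpowers _)
  have hne : Nontrivial P := by
    refine ⟨⟨y, hyP⟩, 1, fun h => ?_⟩
    have h1 : (y : Gp O) = 1 := congrArg Subtype.val h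
    rw [h1, orderOf_one] at hyr
    exact hr.out.one_lt.ne hyr
  have hcn := P.isPGroup'.center_nontrivial
  obtain ⟨z, hz⟩ : ∃ z : Subgroup.center P, orderOf z = r := by
    apply exists_prime_orderOf_dvd_card'
    obtain ⟨n, hn⟩ := (IsPGroup.iff_card (p := r)).mp (P.isPGroup'.to_subgroup (Subgroup.center P))
    rcases n with _ | n
    · rw [pow_zero] at hn
      have := Finite.one_lt_card (α := Subgroup.center P)
      omega
    · rw [hn, pow_succ]
      exact Dvd.intro_left _ rfl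
  have hz' : orderOf ((z : P) : Gp O) = r := by rw [Subgroup.orderOf_coe, Subgroup.orderOf_coe, hz]
  have hzc : ∀ x ∈ P, x * ((z : P) : Gp O) = ((z : P) : Gp O) * x := fun x hx =>
    congrArg Subtype.val (Subgroup.mem_center_iff.mp z.2 ⟨x, hx⟩)
  have hcyc := (D.comm_prime hr.out hyr hrd hr.out hz' (hzc _ hyP)).2
  intro x hx
  rw [hCy, Subgroup.mem_centralizer_singleton_iff]
  have h3 := (IsCyclic.isMulCommutative (α := Subgroup.centralizer ({((z : P) : Gp O)} : Set (Gp O)))).is_comm.comm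
    ⟨x, Subgroup.mem_centralizer_singleton_iff.mpr (hzc x hx)⟩
    ⟨y, Subgroup.mem_centralizer_singleton_iff.mpr (hzc _ hyP)⟩
  exact congrArg Subtype.val h3

/-- the order of a torus -/
theorem Data.T_card (D : Data F O m) (hC : IsT m C) : ∃ e, Nat.card C * e = (2 ^ (2 * m + 1)) ^ 2 + 1 ∧
    Nat.Coprime (Nat.card C) e := by
  have h1 : Nat.card C ∣ Nat.card (Gp O) := Subgroup.card_subgroup_dvd_card C
  rw [D.card_G] at h1
  have h2 : Nat.Coprime (Nat.card C) ((2 ^ (2 * m + 1)) ^ 2) := by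
    apply Nat.coprime_of_dvd
    intro k hk hk1 hk2
    exact hk.one_lt.ne' (Nat.Coprime.eq_one_of_dvd (Nat.Coprime.coprime_dvd_left (D.T_dvd_prime hC hk hk1) D.coprime_q2) hk2)
  have h3 : Nat.Coprime (Nat.card C) (2 ^ (2 * m + 1) - 1) := by
    apply Nat.coprime_of_dvd
    intro k hk hk1 hk2
    exact hk.one_lt.ne' (Nat.Coprime.eq_one_of_dvd (Nat.Coprime.coprime_dvd_left (D.T_dvd_prime hC hk hk1) D.coprime_q1) hk2)
  have h4 : Nat.card C ∣ (2 ^ (2 * m + 1)) ^ 2 + 1 := h2.dvd_of_dvd_mul_left (h3.dvd_of_dvd_mul_right h1)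
  obtain ⟨e, he⟩ := h4
  refine ⟨e, he.symm, ?_⟩
  apply Nat.coprime_of_dvd
  intro k hk hk1 hk2
  have hkf : Fact k.Prime := ⟨hk⟩
  obtain ⟨P, hP⟩ := D.T_sylow hC hk1
  have h5 := P.not_dvd_index
  apply h5
  have h6 : (P : Subgroup (Gp O)).index = (P : Subgroup (Gp O)).relIndex C * C.index :=
    (Subgroup.relIndex_mul_index hP).symm
  rw [h6]
  apply Dvd.dvd.mul_left
  have h7 := C.card_mul_index
  rw [D.card_G, he] at h7
  have h8 : Nat.card C * C.index = Nat.card C * ((2 ^ (2 * m + 1)) ^ 2 * e * (2 ^ (2 * m + 1) - 1)) := by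
    rw [h7]; ring
  have h9 := Nat.eq_of_mul_eq_mul_left Nat.card_pos h8
  rw [h9]
  exact Dvd.dvd.mul_right (Dvd.dvd.mul_left hk2 _) _

/-- tori sharing a prime are conjugate -/
theorem Data.T_conj (D : Data F O m) {C' : Subgroup (Gp O)} (hC : IsT m C) (hC' : IsT m C') {r : ℕ} (hr : r.Prime)
    (h1 : r ∣ Nat.card C) (h2 : r ∣ Nat.card C') : ∃ g : Gp O, C' = C.map (MulAut.conj g).toMonoidHom := by
  have hrf : Fact r.Prime := ⟨hr⟩
  obtain ⟨P, hP⟩ := D.T_sylow hC h1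
  obtain ⟨P', hP'⟩ := D.T_sylow hC' h2
  obtain ⟨g, hg⟩ := MulAction.exists_smul_eq (Gp O) P P'
  have hg' : (P' : Subgroup (Gp O)) = (P : Subgroup (Gp O)).map (MulAut.conj g).toMonoidHom := by
    rw [← hg, Sylow.coe_subgroup_smul]; rfl
  have hPr : r ∣ Nat.card P := by
    have h3 : r ∣ Nat.card (Gp O) := h1.trans (Subgroup.card_subgroup_dvd_card C)
    exact P.dvd_card_of_dvd_card h3
  obtain ⟨y, hy⟩ := exists_prime_orderOf_dvd_card' (G := P) r hPr
  have hyr : orderOf (y : Gp O) = r := by rw [Subgroup.orderOf_coe, hy]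
  have e1 := (D.T_prime hC (hP y.2) hr hyr).2
  have hy' : g * (y : Gp O) * g⁻¹ ∈ C' := by
    apply hP'
    rw [hg', mem_conj]
    have e : g⁻¹ * (g * (y : Gp O) * g⁻¹) * g = y := by group
    rw [e]
    exact y.2
  have hyr' : orderOf (g * (y : Gp O) * g⁻¹) = r := by
    exact (orderOf_injective (MulAut.conj g).toMonoidHom (MulAut.conj g).injective (y : Gp O)).trans hyr
  have e2 := (D.T_prime hC' hy' hr hyr').2
  refine ⟨g, ?_⟩
  rw [e1, e2]
  have h5 := Data.conj_cent (g⁻¹) (g * (y : Gp O) * g⁻¹)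
  have e : g⁻¹ * (g * (y : Gp O) * g⁻¹) * g⁻¹⁻¹ = y := by group
  rw [e, inv_inv] at h5
  exact h5

theorem Data.T_norm (D : Data F O m) (hC : IsT m C) :
    ∃ d, d ∣ 4 ∧ Nat.card (Subgroup.normalizer (C : Set (Gp O))) = Nat.card C * d := by
  obtain ⟨z, p, hp, hz, hpd, rfl⟩ := hC
  have h1 := IrrElt.card_normalizer (D.irr hp hz hpd)
  have hfr : Module.finrank F (Fin 4 → F) = 4 := by simp
  rwa [hfr] at h1

theorem Data.T_count (D : Data F O m) (hC : IsT m C) :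
    (XX C).ncard * Nat.card (Subgroup.normalizer (C : Set (Gp O))) = Nat.card (Gp O) * (Nat.card C - 1) :=
  ncard_XX C (ti_of_cent C (fun _ hx hx1 => D.T_cent hC hx hx1))

/-- existence of tori -/
theorem Data.T_exists (D : Data F O m) {r : ℕ} (hr : r.Prime) (hrd : r ∣ (2 ^ (2 * m + 1)) ^ 2 + 1) :
    ∃ C : Subgroup (Gp O), IsT m C ∧ r ∣ Nat.card C := by
  have hrf : Fact r.Prime := ⟨hr⟩
  obtain ⟨z, hz⟩ := exists_prime_orderOf_dvd_card' (G := Gp O) r (by
    rw [D.card_G]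
    exact Dvd.dvd.mul_right (Dvd.dvd.mul_left hrd _) _)
  refine ⟨Subgroup.centralizer {z}, ⟨z, r, hr, hz, hrd, rfl⟩, ?_⟩
  rw [← hz]
  exact order_dvd_of_mem (Subgroup.mem_centralizer_singleton_iff.mpr rfl)

/-- every nonidentity element -/
theorem Data.cases (D : Data F O m) {x : Gp O} (hx : x ≠ 1) :
    (∃ C, IsT m C ∧ x ∈ C) ∨ x ∈ XX D.hhom.range ∨ x ∈ XX D.Us := by
  have ho : orderOf x ≠ 1 := fun h => hx (orderOf_eq_one_iff.mp h)
  obtain ⟨p, hp, hpd⟩ := Nat.exists_prime_and_dvd ho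
  have hz : orderOf (x ^ (orderOf x / p)) = p := orderOf_pow_orderOf_div (orderOf_pos x).ne' hpd
  have hxc : x ∈ Subgroup.centralizer ({x ^ (orderOf x / p)} : Set (Gp O)) := by
    rw [Subgroup.mem_centralizer_singleton_iff]
    exact (Commute.pow_right (Commute.refl x) _)
  rcases D.cent_prime hp hz with ⟨h, -⟩ | ⟨k, t, -, -, -, -, h⟩ | ⟨k, a, b, -, -, h⟩
  · left
    exact ⟨_, ⟨_, p, hp, hz, h, rfl⟩, hxc⟩
  · right; left
    refine ⟨hx, k⁻¹, ?_⟩
    rw [h, mem_conj] at hxc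
    exact hxc
  · right; right
    refine ⟨hx, k⁻¹, ?_⟩
    have := h hxc
    rwa [mem_conj] at this

end Cfsg.Agent.Suz
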