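import Mathlib
import Cfsg.Agent.LibSuz9

/-! Suzuki groups: counting elements, orders of the tori (seat helper15). -/

set_option autoImplicit false

namespace Cfsg.Agent.Suz

open MulAction
open scoped Pointwise
open CfsgLib.TIConj TICount

variable {F : Type*} [Field F] [Fintype F] {O : Set (Projectivization F (Fin 4 → F))} {m : ℕ}

theorem Data.H_cent (D : Data F O m) {x : Gp O} (hx : x ∈ D.hhom.range) (hx1 : x ≠ 1) :
    Subgroup.centralizer ({x} : Set (Gp O)) = D.hhom.range := by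
  obtain ⟨t, rfl⟩ := hx
  have ht : t ≠ 1 := fun h => hx1 (by rw [h]; exact D.h_one)
  ext y
  rw [Subgroup.mem_centralizer_singleton_iff]
  constructor
  · intro hy
    obtain ⟨s, rfl⟩ := D.cent_h ht hy
    exact ⟨s, rfl⟩
  · rintro ⟨s, rfl⟩
    change D.h s * D.h t = D.h t * D.h s
    rw [D.h_mul, D.h_mul, mul_comm]

theorem Data.mem_hr (D : Data F O m) {x : Gp O} :
    x ∈ D.hhom.range ↔ x • inf F = inf F ∧ x • pt D.S 0 0 = pt D.S 0 0 := by
  rw [D.range_hhom]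
  exact Iff.rfl

theorem Data.norm_H_perm (D : Data F O m) {x : Gp O} (hx : x ∈ Subgroup.normalizer (D.hhom.range : Set (Gp O))) :
    (x • inf F = inf F ∧ x • pt D.S 0 0 = pt D.S 0 0) ∨ (x • inf F = pt D.S 0 0 ∧ x • pt D.S 0 0 = inf F) := by
  obtain ⟨t, ht⟩ := D.exists_unit
  have key : ∀ p ∈ O, D.h t • p = p → p = inf F ∨ p = pt D.S 0 0 := by
    intro p hp h
    rcases (D.hO p).mp hp with h1 | ⟨a, b, rfl⟩
    · exact Or.inl h1
    · right
      by_contra hne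
      apply ht
      apply D.h_fix _ h
      rintro ⟨rfl, rfl⟩
      exact hne rfl
  have h0 : x⁻¹ * D.h t * x ∈ D.hhom.range :=
    (Subgroup.mem_normalizer_iff''.mp hx _).mp ⟨t, rfl⟩
  obtain ⟨h1, h2⟩ := D.mem_hr.mp h0
  have h3 : D.h t • (x • inf F) = x • inf F := by
    rw [mul_smul, mul_smul, inv_smul_eq_iff] at h1
    exact h1
  have h4 : D.h t • (x • pt D.S 0 0) = x • pt D.S 0 0 := by
    rw [mul_smul, mul_smul, inv_smul_eq_iff] at h2
    exact h2
  rcases key _ (D.smul_mem x D.inf_mem) h3 with h5 | h5 <;> rcases key _ (D.smul_mem x (D.pt_mem 0 0)) h4 with h6 | h6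
  · exact absurd (MulAction.injective x (h6.trans h5.symm)) (pt_ne_inf _ _ _)
  · exact Or.inl ⟨h5, h6⟩
  · exact Or.inr ⟨h5, h6⟩
  · exact absurd (MulAction.injective x (h6.trans h5.symm)) (pt_ne_inf _ _ _)

theorem Data.w_norm_H (D : Data F O m) : D.w ∈ Subgroup.normalizer (D.hhom.range : Set (Gp O)) := by
  have key : ∀ x ∈ D.hhom.range, D.w * x * D.w⁻¹ ∈ D.hhom.range := by
    rintro _ ⟨t, rfl⟩
    refine ⟨t⁻¹, ?_⟩
    change D.h t⁻¹ = D.w * D.h t * D.w⁻¹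
    rw [D.wh, mul_assoc, mul_inv_cancel, mul_one]
  rw [Subgroup.mem_normalizer_iff]
  intro x
  refine ⟨key x, fun h => ?_⟩
  have h1 := key _ h
  rw [D.w_inv] at h1
  have e : D.w * (D.w * x * D.w) * D.w = (D.w * D.w) * x * (D.w * D.w) := by group
  rwa [e, D.w_w, one_mul, mul_one] at h1

theorem Data.card_norm_H (D : Data F O m) :
    Nat.card (Subgroup.normalizer (D.hhom.range : Set (Gp O))) = 2 * (2 ^ (2 * m + 1) - 1) := by
  set N := Subgroup.normalizer (D.hhom.range : Set (Gp O)) with hN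
  have h1 : (D.hhom.range.subgroupOf N).index = 2 := by
    rw [Subgroup.index_eq_two_iff]
    refine ⟨⟨D.w, D.w_norm_H⟩, ?_⟩
    rintro ⟨b, hb⟩
    rw [Subgroup.mem_subgroupOf, Subgroup.mem_subgroupOf]
    change Xor (b * D.w ∈ D.hhom.range) (b ∈ D.hhom.range)
    rcases D.norm_H_perm hb with ⟨h2, h3⟩ | ⟨h2, h3⟩
    · right
      refine ⟨D.mem_hr.mpr ⟨h2, h3⟩, fun h => ?_⟩
      have h4 := (D.mem_hr.mp h).1
      rw [mul_smul, D.w_inf, h3] at h4
      exact pt_ne_inf _ _ _ h4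
    · left
      refine ⟨D.mem_hr.mpr ⟨?_, ?_⟩, fun h => ?_⟩
      · rw [mul_smul, D.w_inf, h3]
      · rw [mul_smul, D.w_zero, h2]
      · have h4 := (D.mem_hr.mp h).1
        rw [h2] at h4
        exact pt_ne_inf _ _ _ h4
  have h2 := (D.hhom.range.subgroupOf N).card_mul_index
  rw [h1, Nat.card_congr (Subgroup.subgroupOfEquivOfLe Subgroup.le_normalizer).toEquiv, card_hr D] at h2
  rw [← h2, mul_comm]

theorem Data.count_H (D : Data F O m) :
    (XX D.hhom.range).ncard * (2 * (2 ^ (2 * m + 1) - 1)) = Nat.card (Gp O) * (2 ^ (2 * m + 1) - 1 - 1) := by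
  have h1 := ncard_XX D.hhom.range (ti_of_cent _ (fun _ hx hx1 => D.H_cent hx hx1))
  rwa [D.card_norm_H, card_hr D] at h1

theorem Data.count_U (D : Data F O m) :
    (XX D.Us).ncard * ((2 ^ (2 * m + 1)) ^ 2 * (2 ^ (2 * m + 1) - 1)) = Nat.card (Gp O) * ((2 ^ (2 * m + 1)) ^ 2 - 1) := by
  have h1 := ncard_XX D.Us (by
    rintro _ ⟨a, b, rfl⟩ hx1 g ⟨c, d, hcd⟩
    rw [D.normalizer_Us]
    change g • inf F = inf F
    rcases (D.hO _).mp (D.smul_mem g D.inf_mem) with h | ⟨x, y, h⟩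
    · exact h
    · exfalso
      apply hx1
      have h2 : D.u a b • (g • inf F) = g • inf F := by
        have e : D.u a b = g * D.u c d * g⁻¹ := by rw [← hcd]; group
        rw [e, mul_smul, mul_smul, inv_smul_smul, D.u_inf]
      rw [h] at h2
      obtain ⟨h3, h4⟩ := D.u_fix h2
      rw [h3, h4, D.u_zero])
  rwa [D.normalizer_Us, D.card_borel, D.card_Us] at h1

/-- elements of tori -/
def YY (m : ℕ) (O : Set (Projectivization F (Fin 4 → F))) : Set (Gp O) :=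
  {x | x ≠ 1 ∧ ∃ C, IsT m C ∧ x ∈ C}

theorem ord_XX {G : Type*} [Group G] {A : Subgroup G} {x : G} (hx : x ∈ XX A) : orderOf x ∣ Nat.card A := by
  obtain ⟨-, g, hg⟩ := hx
  have h1 := order_dvd_of_mem hg
  have h2 : orderOf (g⁻¹ * x * g) = orderOf x := by
    have h3 := orderOf_injective (MulAut.conj g⁻¹).toMonoidHom (MulAut.conj g⁻¹).injective x
    rw [← h3]
    congr 1
    simp
  rwa [h2] at h1

theorem disj_of_coprime {G : Type*} [Group G] {A B : Set G} {a b : ℕ} (hA : ∀ x ∈ A, x ≠ 1 ∧ orderOf x ∣ a)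
    (hB : ∀ x ∈ B, orderOf x ∣ b) (hab : Nat.Coprime a b) : Disjoint A B := by
  rw [Set.disjoint_left]
  intro x hxA hxB
  obtain ⟨h1, h2⟩ := hA x hxA
  have h3 := Nat.dvd_gcd h2 (hB x hxB)
  rw [hab] at h3
  exact h1 (orderOf_eq_one_iff.mp (Nat.dvd_one.mp h3))

theorem Data.T_card_dvd (D : Data F O m) {C : Subgroup (Gp O)} (hC : IsT m C) :
    Nat.card C ∣ (2 ^ (2 * m + 1)) ^ 2 + 1 := by
  obtain ⟨e, he, -⟩ := D.T_card hC
  exact ⟨e, he.symm⟩

theorem Data.YY_ord (D : Data F O m) {x : Gp O} (hx : x ∈ YY m O) : x ≠ 1 ∧ orderOf x ∣ (2 ^ (2 * m + 1)) ^ 2 + 1 := by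
  obtain ⟨h1, C, hC, hxC⟩ := hx
  exact ⟨h1, (order_dvd_of_mem hxC).trans (D.T_card_dvd hC)⟩

theorem Data.total (D : Data F O m) :
    Nat.card (Gp O) = 1 + ((XX D.Us).ncard + ((XX D.hhom.range).ncard + (YY m O).ncard)) := by
  have h1 : (Set.univ : Set (Gp O)) = {1} ∪ (XX D.Us ∪ (XX D.hhom.range ∪ YY m O)) := by
    symm
    rw [Set.eq_univ_iff_forall]
    intro x
    by_cases hx : x = 1
    · exact Or.inl hx
    · right
      rcases D.cases hx with ⟨C, hC, hxC⟩ | h | h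
      · exact Or.inr (Or.inr ⟨hx, C, hC, hxC⟩)
      · exact Or.inr (Or.inl h)
      · exact Or.inl h
  have hUo : ∀ x ∈ XX D.Us, x ≠ 1 ∧ orderOf x ∣ (2 ^ (2 * m + 1)) ^ 2 := fun x hx =>
    ⟨hx.1, by rw [← D.card_Us]; exact ord_XX hx⟩
  have hHo : ∀ x ∈ XX D.hhom.range, x ≠ 1 ∧ orderOf x ∣ 2 ^ (2 * m + 1) - 1 := fun x hx =>
    ⟨hx.1, by rw [← card_hr D]; exact ord_XX hx⟩
  have d1 : Disjoint (XX D.hhom.range) (YY m O) :=
    disj_of_coprime hHo (fun x hx => (D.YY_ord hx).2) D.coprime_q1.symm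
  have d2 : Disjoint (XX D.Us) (XX D.hhom.range ∪ YY m O) := by
    rw [Set.disjoint_union_right]
    exact ⟨disj_of_coprime hUo (fun x hx => (hHo x hx).2) D.coprime_q3,
      disj_of_coprime hUo (fun x hx => (D.YY_ord hx).2) D.coprime_q2.symm⟩
  have d3 : Disjoint ({1} : Set (Gp O)) (XX D.Us ∪ (XX D.hhom.range ∪ YY m O)) := by
    rw [Set.disjoint_singleton_left]
    rintro (h | h | h)
    · exact h.1 rfl
    · exact h.1 rfl
    · exact h.1 rfl
  rw [← Set.ncard_univ, h1, Set.ncard_union_eq d3 (Set.toFinite _) (Set.toFinite _),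
    Set.ncard_union_eq d2 (Set.toFinite _) (Set.toFinite _),
    Set.ncard_union_eq d1 (Set.toFinite _) (Set.toFinite _), Set.ncard_singleton]

theorem Data.card_YY (D : Data F O m) :
    2 * (YY m O).ncard = (2 ^ (2 * m + 1)) ^ 3 * (2 ^ (2 * m + 1) - 1) ^ 2 := by
  have h1 := D.total
  have h2 := D.count_U
  have h3 := D.count_H
  have hq := D.q_ge
  rw [D.card_G] at h1 h2 h3
  generalize 2 ^ (2 * m + 1) = q at *
  generalize (XX D.Us).ncard = nU at *
  generalize (XX D.hhom.range).ncard = nH at *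
  generalize (YY m O).ncard = nY at *
  obtain ⟨r, rfl⟩ : ∃ r, q = r + 2 := ⟨q - 2, by omega⟩
  have e1 : r + 2 - 1 = r + 1 := by omega
  have e2 : (r + 2) ^ 2 - 1 = (r + 1) * (r + 3) := by
    have : (r + 2) ^ 2 = (r + 1) * (r + 3) + 1 := by ring
    omega
  rw [e1] at h1 h2 h3 ⊢
  rw [e2] at h2
  rw [Nat.add_sub_cancel] at h3
  have h4 : nU = ((r + 2) ^ 2 + 1) * ((r + 1) * (r + 3)) := by
    apply Nat.eq_of_mul_eq_mul_right (show 0 < (r + 2) ^ 2 * (r + 1) by positivity)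
    rw [h2]; ring
  have h5 : 2 * nH = (r + 2) ^ 2 * ((r + 2) ^ 2 + 1) * r := by
    apply Nat.eq_of_mul_eq_mul_right (show 0 < r + 1 by positivity)
    calc 2 * nH * (r + 1) = nH * (2 * (r + 1)) := by ring
      _ = _ := by rw [h3]; ring
  have h6 : 2 * ((r + 2) ^ 2 * ((r + 2) ^ 2 + 1) * (r + 1)) = 2 + 2 * nU + 2 * nH + 2 * nY := by
    rw [h1]; ring
  rw [h5, h4] at h6
  have h7 : (r + 2) ^ 3 * (r + 1) ^ 2 + (2 + 2 * (((r + 2) ^ 2 + 1) * ((r + 1) * (r + 3))) + (r + 2) ^ 2 * ((r + 2) ^ 2 + 1) * r)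
      = 2 * ((r + 2) ^ 2 * ((r + 2) ^ 2 + 1) * (r + 1)) := by ring
  omega

/-- two tori with a common prime have the same order -/
theorem Data.T_same (D : Data F O m) {C C' : Subgroup (Gp O)} (hC : IsT m C) (hC' : IsT m C')
    (h : ¬ Nat.Coprime (Nat.card C) (Nat.card C')) : ∃ g : Gp O, C' = C.map (MulAut.conj g).toMonoidHom := by
  obtain ⟨r, hr, h1, h2⟩ := Nat.Prime.not_coprime_iff_dvd.mp h
  exact D.T_conj hC hC' hr h1 h2

theorem Data.T_ge (D : Data F O m) {C : Subgroup (Gp O)} (hC : IsT m C) : 5 ≤ Nat.card C := by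
  have h1 := D.T_ne hC
  obtain ⟨p, hp, hpd⟩ := Nat.exists_prime_and_dvd h1.ne'
  have h2 := D.T_dvd_prime hC hp hpd
  have h3 : p ≠ 2 := (D.prime_facts hp h2).1
  have h4 : p ≠ 3 := by
    rintro rfl
    have hc := (D.prime_facts hp h2).2.2
    generalize 2 ^ (2 * m + 1) = q at *
    have h5 : q % 3 = 0 ∨ q % 3 = 1 ∨ q % 3 = 2 := by omega
    have h6 : (q ^ 2 + 1) % 3 = 0 := Nat.mod_eq_zero_of_dvd h2
    rw [Nat.add_mod, Nat.pow_mod] at h6
    rcases h5 with h5 | h5 | h5 <;> rw [h5] at h6 <;> simp at h6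
  have h5 : 5 ≤ p := by
    have := hp.two_le
    have h6 : p ≠ 4 := by
      rintro rfl
      revert hp
      decide
    omega
  exact h5.trans (Nat.le_of_dvd (by omega) hpd)

/-- lower bound for the number of elements -/
theorem Data.T_lower (D : Data F O m) {C : Subgroup (Gp O)} (hC : IsT m C) {d : ℕ}
    (hd : Nat.card (Subgroup.normalizer (C : Set (Gp O))) = Nat.card C * d) :
    4 * Nat.card (Gp O) ≤ 5 * (XX C).ncard * d := by
  have h1 := D.T_count hC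
  rw [hd] at h1
  have h2 := D.T_ge hC
  generalize Nat.card C = c at *
  generalize (XX C).ncard = n at *
  generalize Nat.card (Gp O) = G at *
  have h3 : G * (4 * c) ≤ G * (5 * (c - 1)) := Nat.mul_le_mul_left _ (by omega)
  have h4 : (4 * G) * c ≤ (5 * n * d) * c := by
    calc (4 * G) * c = G * (4 * c) := by ring
      _ ≤ G * (5 * (c - 1)) := h3
      _ = 5 * (G * (c - 1)) := by ring
      _ = 5 * (n * (c * d)) := by rw [h1]
      _ = _ := by ring
  exact Nat.le_of_mul_le_mul_right h4 (by omega)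

theorem Data.T_sub_YY (D : Data F O m) {C : Subgroup (Gp O)} (hC : IsT m C) : XX C ⊆ YY m O := by
  rintro x ⟨hx1, g, hg⟩
  refine ⟨hx1, C.map (MulAut.conj g).toMonoidHom, ?_, mem_conj.mpr hg⟩
  obtain ⟨z, p, hp, hz, hpd, rfl⟩ := hC
  refine ⟨g * z * g⁻¹, p, hp, ?_, hpd, ?_⟩
  · exact (orderOf_injective (MulAut.conj g).toMonoidHom (MulAut.conj g).injective z).trans hz
  · have h5 := Data.conj_cent (g⁻¹) (g * z * g⁻¹)
    have e : g⁻¹ * (g * z * g⁻¹) * g⁻¹⁻¹ = z := by group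
    rw [e, inv_inv] at h5
    exact h5.symm

theorem Data.two_YY (D : Data F O m) : 2 * (YY m O).ncard < Nat.card (Gp O) := by
  rw [D.card_YY, D.card_G]
  have hq := D.q_ge
  generalize 2 ^ (2 * m + 1) = q at *
  obtain ⟨r, rfl⟩ : ∃ r, q = r + 1 := ⟨q - 1, by omega⟩
  rw [Nat.add_sub_cancel]
  have h1 : (r + 1) ^ 3 * r ^ 2 = (r + 1) ^ 2 * r * ((r + 1) * r) := by ring
  have h2 : (r + 1) ^ 2 * ((r + 1) ^ 2 + 1) * r = (r + 1) ^ 2 * r * ((r + 1) ^ 2 + 1) := by ring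
  rw [h1, h2]
  apply Nat.mul_lt_mul_of_pos_left _ (by have : 0 < r := by omega
                                         positivity)
  nlinarith

theorem disj_T {C C' : Subgroup (Gp O)} (h : Nat.Coprime (Nat.card C) (Nat.card C')) :
    Disjoint (XX C) (XX C') :=
  disj_of_coprime (fun x hx => ⟨hx.1, ord_XX hx⟩) (fun x hx => ord_XX hx) h

theorem Data.tori_pair (D : Data F O m) {C₁ : Subgroup (Gp O)} (h₁ : IsT m C₁) :
    ∃ C₂ : Subgroup (Gp O), IsT m C₂ ∧ Nat.card C₁ * Nat.card C₂ = (2 ^ (2 * m + 1)) ^ 2 + 1 ∧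
      Nat.card C₁ + Nat.card C₂ = 2 * (2 ^ (2 * m + 1) + 1) ∧
      Nat.card (Subgroup.normalizer (C₁ : Set (Gp O))) = 4 * Nat.card C₁ ∧
      Nat.card (Subgroup.normalizer (C₂ : Set (Gp O))) = 4 * Nat.card C₂ := by
  obtain ⟨e₁, he₁, hco₁⟩ := D.T_card h₁
  obtain ⟨d₁, hd₁4, hd₁⟩ := D.T_norm h₁
  have hq := D.q_ge
  have hY := D.card_YY
  have hY2 := D.two_YY
  have hG := D.card_G
  have hd₁c : d₁ = 1 ∨ d₁ = 2 ∨ d₁ = 4 := by
    have := Nat.le_of_dvd (by norm_num) hd₁4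
    interval_cases d₁ <;> simp_all
  have hl₁ := D.T_lower h₁ hd₁
  have hcount₁ := D.T_count h₁
  have hge₁ := D.T_ge h₁
  by_cases he1 : e₁ = 1
  · exfalso
    rw [he1, mul_one] at he₁
    have hYeq : YY m O = XX C₁ := by
      apply Set.Subset.antisymm _ (D.T_sub_YY h₁)
      rintro x ⟨hx1, C, hC, hxC⟩
      obtain ⟨g, hg⟩ := D.T_same h₁ hC (fun h => by
        have h2 := Nat.Coprime.eq_one_of_dvd h.symm (he₁ ▸ D.T_card_dvd hC)
        have h3 := D.T_ne hC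
        omega)
      refine ⟨hx1, g, ?_⟩
      rw [hg, mem_conj] at hxC
      exact hxC
    rw [hYeq] at hY
    rw [hd₁, hG, he₁, Nat.add_sub_cancel] at hcount₁
    generalize 2 ^ (2 * m + 1) = q at *
    generalize (XX C₁).ncard = n at *
    obtain ⟨r, rfl⟩ : ∃ r, q = r + 1 := ⟨q - 1, by omega⟩
    rw [Nat.add_sub_cancel] at hcount₁ hY
    have h1 : ((r + 1) ^ 3 * r * ((r + 1) ^ 2 + 1)) * (r * d₁) = ((r + 1) ^ 3 * r * ((r + 1) ^ 2 + 1)) * (2 * (r + 1)) := by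
      calc ((r + 1) ^ 3 * r * ((r + 1) ^ 2 + 1)) * (r * d₁) = ((r + 1) ^ 3 * r ^ 2) * (((r + 1) ^ 2 + 1) * d₁) := by ring
        _ = (2 * n) * (((r + 1) ^ 2 + 1) * d₁) := by rw [hY]
        _ = 2 * (n * (((r + 1) ^ 2 + 1) * d₁)) := by ring
        _ = 2 * ((r + 1) ^ 2 * ((r + 1) ^ 2 + 1) * r * (r + 1) ^ 2) := by rw [hcount₁]
        _ = _ := by ring
    have h2 := Nat.eq_of_mul_eq_mul_left (by have : 0 < r := by omega
                                             positivity) h1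
    rcases hd₁c with rfl | rfl | rfl <;> omega
  · obtain ⟨p₂, hp₂, hpd₂⟩ := Nat.exists_prime_and_dvd he1
    obtain ⟨C₂, h₂, hp₂C⟩ := D.T_exists hp₂ (by rw [← he₁]; exact Dvd.dvd.mul_left hpd₂ _)
    obtain ⟨e₂, he₂, hco₂⟩ := D.T_card h₂
    obtain ⟨d₂, hd₂4, hd₂⟩ := D.T_norm h₂
    have hd₂c : d₂ = 1 ∨ d₂ = 2 ∨ d₂ = 4 := by
      have := Nat.le_of_dvd (by norm_num) hd₂4
      interval_cases d₂ <;> simp_all
    have hl₂ := D.T_lower h₂ hd₂
    have hcount₂ := D.T_count h₂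
    have hge₂ := D.T_ge h₂
    have hno : ∀ {C C' : Subgroup (Gp O)} {e r : ℕ}, IsT m C → IsT m C' → Nat.Coprime (Nat.card C) e → r.Prime →
        r ∣ e → r ∣ Nat.card C' → Nat.Coprime (Nat.card C) (Nat.card C') := by
      intro C C' e r hC hC' hco hr hre hrC
      by_contra hcon
      obtain ⟨g, hg⟩ := D.T_same hC hC' hcon
      rw [hg, card_conj] at hrC
      exact hr.one_lt.ne' (Nat.Coprime.eq_one_of_dvd (Nat.Coprime.coprime_dvd_left hrC hco) hre)
    have hco12 : Nat.Coprime (Nat.card C₁) (Nat.card C₂) := hno h₁ h₂ hco₁ hp₂ hpd₂ hp₂C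
    obtain ⟨e', he'⟩ : Nat.card C₁ * Nat.card C₂ ∣ (2 ^ (2 * m + 1)) ^ 2 + 1 :=
      Nat.Coprime.mul_dvd_of_dvd_of_dvd hco12 (D.T_card_dvd h₁) (D.T_card_dvd h₂)
    have hee₁ : e₁ = Nat.card C₂ * e' := by
      apply Nat.eq_of_mul_eq_mul_left (Nat.card_pos (α := C₁))
      rw [he₁, he', mul_assoc]
    have hee₂ : e₂ = Nat.card C₁ * e' := by
      apply Nat.eq_of_mul_eq_mul_left (Nat.card_pos (α := C₂))
      rw [he₂, he']
      ring
    have hdisj := disj_T hco12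
    have hsub₁ := D.T_sub_YY h₁
    have hsub₂ := D.T_sub_YY h₂
    have hb₁ : d₁ ≤ 4 := Nat.le_of_dvd (by norm_num) hd₁4
    have hb₂ : d₂ ≤ 4 := Nat.le_of_dvd (by norm_num) hd₂4
    have hl₁' : 4 * Nat.card (Gp O) ≤ 5 * (XX C₁).ncard * 4 := hl₁.trans (Nat.mul_le_mul_left _ hb₁)
    have hl₂' : 4 * Nat.card (Gp O) ≤ 5 * (XX C₂).ncard * 4 := hl₂.trans (Nat.mul_le_mul_left _ hb₂)
    have hsum12 : (XX C₁ ∪ XX C₂).ncard = (XX C₁).ncard + (XX C₂).ncard :=
      Set.ncard_union_eq hdisj (Set.toFinite _) (Set.toFinite _)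
    have hle12 : (XX C₁).ncard + (XX C₂).ncard ≤ (YY m O).ncard := by
      rw [← hsum12]
      exact Set.ncard_le_ncard (Set.union_subset hsub₁ hsub₂) (Set.toFinite _)
    have he'1 : e' = 1 := by
      by_contra hne
      obtain ⟨p₃, hp₃, hpd₃⟩ := Nat.exists_prime_and_dvd hne
      obtain ⟨C₃, h₃, hp₃C⟩ := D.T_exists hp₃ (by rw [he']; exact Dvd.dvd.mul_left hpd₃ _)
      obtain ⟨d₃, hd₃4, hd₃⟩ := D.T_norm h₃
      have hl₃ := D.T_lower h₃ hd₃
      have hb₃ : d₃ ≤ 4 := Nat.le_of_dvd (by norm_num) hd₃4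
      have hl₃' : 4 * Nat.card (Gp O) ≤ 5 * (XX C₃).ncard * 4 := hl₃.trans (Nat.mul_le_mul_left _ hb₃)
      have hco13 := hno h₁ h₃ hco₁ hp₃ (by rw [hee₁]; exact Dvd.dvd.mul_left hpd₃ _) hp₃C
      have hco23 := hno h₂ h₃ hco₂ hp₃ (by rw [hee₂]; exact Dvd.dvd.mul_left hpd₃ _) hp₃C
      have hsum : ((XX C₁ ∪ XX C₂) ∪ XX C₃).ncard = (XX C₁).ncard + (XX C₂).ncard + (XX C₃).ncard := by
        rw [Set.ncard_union_eq _ (Set.toFinite _) (Set.toFinite _), hsum12]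
        rw [Set.disjoint_union_left]
        exact ⟨disj_T hco13, disj_T hco23⟩
      have hle : (XX C₁).ncard + (XX C₂).ncard + (XX C₃).ncard ≤ (YY m O).ncard := by
        rw [← hsum]
        exact Set.ncard_le_ncard (Set.union_subset (Set.union_subset hsub₁ hsub₂) (D.T_sub_YY h₃)) (Set.toFinite _)
      omega
    rw [he'1, mul_one] at he'
    have hYeq : (YY m O).ncard = (XX C₁).ncard + (XX C₂).ncard := by
      rw [← hsum12]
      congr 1
      apply Set.Subset.antisymm _ (Set.union_subset hsub₁ hsub₂)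
      rintro x ⟨hx1, C, hC, hxC⟩
      by_cases hcc : Nat.Coprime (Nat.card C₁) (Nat.card C)
      · by_cases hcc2 : Nat.Coprime (Nat.card C₂) (Nat.card C)
        · exfalso
          have h5 := Nat.Coprime.mul_left hcc hcc2
          rw [← he'] at h5
          have h6 := Nat.Coprime.eq_one_of_dvd h5.symm (D.T_card_dvd hC)
          have h7 := D.T_ne hC
          omega
        · obtain ⟨g, hg⟩ := D.T_same h₂ hC hcc2
          rw [hg, mem_conj] at hxC
          exact Or.inr ⟨hx1, g, hxC⟩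
      · obtain ⟨g, hg⟩ := D.T_same h₁ hC hcc
        rw [hg, mem_conj] at hxC
        exact Or.inl ⟨hx1, g, hxC⟩
    have hd14 : d₁ = 4 := by
      rcases hd₁c with rfl | rfl | rfl
      · omega
      · omega
      · rfl
    have hd24 : d₂ = 4 := by
      rcases hd₂c with rfl | rfl | rfl
      · omega
      · omega
      · rfl
    subst hd14 hd24
    refine ⟨C₂, h₂, he'.symm, ?_, by rw [hd₁, mul_comm], by rw [hd₂, mul_comm]⟩
    rw [hd₁] at hcount₁
    rw [hd₂] at hcount₂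
    rw [hG, he'] at hcount₁ hcount₂
    rw [hYeq] at hY
    generalize 2 ^ (2 * m + 1) = q at *
    generalize (XX C₁).ncard = n₁ at *
    generalize (XX C₂).ncard = n₂ at *
    generalize Nat.card C₁ = c₁ at *
    generalize Nat.card C₂ = c₂ at *
    obtain ⟨r, rfl⟩ : ∃ r, q = r + 1 := ⟨q - 1, by omega⟩
    obtain ⟨a, rfl⟩ : ∃ a, c₁ = a + 1 := ⟨c₁ - 1, by omega⟩
    obtain ⟨b, rfl⟩ : ∃ b, c₂ = b + 1 := ⟨c₂ - 1, by omega⟩
    rw [Nat.add_sub_cancel] at hcount₁ hcount₂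
    simp only [Nat.add_sub_cancel] at hcount₁ hcount₂ hY
    have k₁ : 4 * n₁ = (r + 1) ^ 2 * r * (b + 1) * a := by
      apply Nat.eq_of_mul_eq_mul_left (show 0 < a + 1 by omega)
      calc (a + 1) * (4 * n₁) = n₁ * ((a + 1) * 4) := by ring
        _ = (r + 1) ^ 2 * ((a + 1) * (b + 1)) * r * a := hcount₁
        _ = _ := by ring
    have k₂ : 4 * n₂ = (r + 1) ^ 2 * r * (a + 1) * b := by
      apply Nat.eq_of_mul_eq_mul_left (show 0 < b + 1 by omega)
      calc (b + 1) * (4 * n₂) = n₂ * ((b + 1) * 4) := by ring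
        _ = (r + 1) ^ 2 * ((a + 1) * (b + 1)) * r * b := hcount₂
        _ = _ := by ring
    have k₃ : ((r + 1) ^ 2 * r) * ((b + 1) * a + (a + 1) * b) = ((r + 1) ^ 2 * r) * (2 * ((r + 1) * r)) := by
      calc ((r + 1) ^ 2 * r) * ((b + 1) * a + (a + 1) * b)
          = (r + 1) ^ 2 * r * (b + 1) * a + (r + 1) ^ 2 * r * (a + 1) * b := by ring
        _ = 4 * n₁ + 4 * n₂ := by rw [k₁, k₂]
        _ = 2 * (2 * (n₁ + n₂)) := by ring
        _ = 2 * ((r + 1) ^ 3 * r ^ 2) := by rw [hY]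
        _ = _ := by ring
    have k₄ := Nat.eq_of_mul_eq_mul_left (by have : 0 < r := by omega
                                             positivity) k₃
    nlinarith

/-- orders of the tori -/
theorem Data.tori_card (D : Data F O m) {C : Subgroup (Gp O)} (hC : IsT m C) :
    Nat.card C = 2 ^ (2 * m + 1) + 2 ^ (m + 1) + 1 ∨ Nat.card C = 2 ^ (2 * m + 1) - 2 ^ (m + 1) + 1 := by
  obtain ⟨C₂, -, h1, h2, -, -⟩ := D.tori_pair hC
  have hs : 2 ^ (m + 1) * 2 ^ (m + 1) = 2 * 2 ^ (2 * m + 1) := by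
    rw [← pow_add, ← pow_succ']
    congr 1
    ring
  have hle : 2 ^ (m + 1) ≤ 2 ^ (2 * m + 1) := Nat.pow_le_pow_right (by norm_num) (by omega)
  generalize 2 ^ (2 * m + 1) = q at *
  generalize 2 ^ (m + 1) = s at *
  generalize Nat.card C = a at *
  generalize Nat.card C₂ = b at *
  have h3 : ((a : ℤ) - q - 1 - s) * ((a : ℤ) - q - 1 + s) = 0 := by
    have h1' : (a : ℤ) * b = q ^ 2 + 1 := by exact_mod_cast h1
    have h2' : (a : ℤ) + b = 2 * (q + 1) := by exact_mod_cast h2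
    have hs' : (s : ℤ) * s = 2 * q := by exact_mod_cast hs
    have hb : (b : ℤ) = 2 * (q + 1) - a := by linarith
    rw [hb] at h1'
    linear_combination -h1' - hs'
  rcases mul_eq_zero.mp h3 with h4 | h4
  · left; omega
  · right; omega

theorem Data.tori_exists (D : Data F O m) {k : ℕ}
    (hk : k = 2 ^ (2 * m + 1) + 2 ^ (m + 1) + 1 ∨ k = 2 ^ (2 * m + 1) - 2 ^ (m + 1) + 1) :
    ∃ C : Subgroup (Gp O), IsT m C ∧ Nat.card C = k ∧
      Nat.card (Subgroup.normalizer (C : Set (Gp O))) = 4 * Nat.card C := by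
  obtain ⟨p, hp, hpd⟩ := Nat.exists_prime_and_dvd (show (2 ^ (2 * m + 1)) ^ 2 + 1 ≠ 1 by
    have : 0 < (2 ^ (2 * m + 1)) ^ 2 := by positivity
    omega)
  obtain ⟨C₁, h₁, -⟩ := D.T_exists hp hpd
  obtain ⟨C₂, h₂, h3, h4, h5, h6⟩ := D.tori_pair h₁
  have hle : 2 ^ (m + 1) ≤ 2 ^ (2 * m + 1) := Nat.pow_le_pow_right (by norm_num) (by omega)
  rcases D.tori_card h₁ with h7 | h7
  · have h8 : Nat.card C₂ = 2 ^ (2 * m + 1) - 2 ^ (m + 1) + 1 := by omega
    rcases hk with rfl | rfl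
    · exact ⟨C₁, h₁, h7, h5⟩
    · exact ⟨C₂, h₂, h8, h6⟩
  · have h8 : Nat.card C₂ = 2 ^ (2 * m + 1) + 2 ^ (m + 1) + 1 := by omega
    rcases hk with rfl | rfl
    · exact ⟨C₂, h₂, h8, h6⟩
    · exact ⟨C₁, h₁, h7, h5⟩

end Cfsg.Agent.Suz
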