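import Mathlib
import Cfsg.Agent.LibFrL5
import Cfsg.Agent.LibSuz12
import Cfsg.Agent.LibSuz10
import Cfsg.Agent.LibSuz7

set_option autoImplicit false

/-! Suzuki groups: involutions and strongly real elements (helper1). -/

namespace CfsgLib.FrL

open Cfsg Subgroup CfsgLib.Cores Cfsg.Agent.Suz MulAction
open CfsgLib.TIConj Cfsg.Agent.TICount
open scoped Pointwise

variable {F : Type*} [Field F] [Fintype F] {O : Set (Projectivization F (Fin 4 → F))} {m : ℕ}

theorem sz_torus_odd (D : Data F O m) {C : Subgroup (Gp O)} (hC : IsT m C) : Odd (Nat.card C) := by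
  obtain ⟨e, he, -⟩ := D.T_card hC
  have h1 : Odd (Nat.card C * e) := by
    rw [he]
    have h2 : Even ((2 ^ (2 * m + 1)) ^ 2) := by
      rw [← pow_mul]
      exact (Nat.even_pow).2 ⟨by norm_num, by omega⟩
    exact h2.add_one
  exact (Nat.odd_mul.1 h1).1

theorem odd_not_invol {G : Type*} [Group G] [Finite G] {C : Subgroup G} (h : Odd (Nat.card C)) {t : G} (ht : t ∈ C)
    (h2 : orderOf t = 2) : False := by
  have h1 := order_dvd_of_mem ht
  rw [h2] at h1
  exact (Nat.not_even_iff_odd.2 h) (even_iff_two_dvd.2 h1)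

theorem sz_inv (D : Data F O m) {x : Gp O} {r : ℕ} (hr : r.Prime) (hr2 : r ≠ 2) (hx : orderOf x = r) :
    ∃ t : Gp O, t * t = 1 ∧ t * x * t⁻¹ = x⁻¹ := by
  have hx1 : x ≠ 1 := by
    rintro rfl
    rw [orderOf_one] at hx
    exact hr.one_lt.ne hx
  rcases D.cases hx1 with ⟨C, hC, hxC⟩ | ⟨-, g, hg⟩ | h
  · obtain ⟨C2, -, -, -, hn, -⟩ := D.tori_pair hC
    have hodd := sz_torus_odd D hC
    have h2 : Fact (Nat.Prime 2) := ⟨Nat.prime_two⟩
    obtain ⟨⟨t, htN⟩, ht⟩ := exists_prime_orderOf_dvd_card' (G := normalizer (C : Set (Gp O))) 2 (by rw [hn]; exact ⟨2 * Nat.card C, by ring⟩)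
    rw [Subgroup.orderOf_mk] at ht
    have htt : t * t = 1 := by rw [← pow_two, ← ht, pow_orderOf_eq_one]
    have hti : t⁻¹ = t := inv_eq_of_mul_eq_one_left htt
    refine ⟨t, htt, ?_⟩
    have hxt : t * x * t⁻¹ ∈ C := (mem_normalizer_iff.1 htN x).1 hxC
    set w := x * (t * x * t⁻¹) with hw
    have hwC : w ∈ C := C.mul_mem hxC hxt
    have hcw : t * w = w * t := by
      have h3 : t * w * t⁻¹ = w := by
        calc t * w * t⁻¹ = (t * x * t⁻¹) * ((t * t) * x * (t * t)⁻¹) := by rw [hw]; group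
          _ = (t * x * t⁻¹) * x := by rw [htt]; group
          _ = w := D.T_comm hC hxt hxC
      calc t * w = (t * w * t⁻¹) * t := by group
        _ = w * t := by rw [h3]
    have hw1 : w = 1 := by
      by_contra hne
      have h4 := D.T_cent hC hwC hne
      have h5 : t ∈ C := by
        rw [← h4, mem_centralizer_singleton_iff]; exact hcw
      exact odd_not_invol hodd h5 ht
    rw [hw] at hw1
    exact (inv_eq_of_mul_eq_one_right hw1).symm
  · obtain ⟨s, hs⟩ := hg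
    have hs' : D.h s = g⁻¹ * x * g := hs
    have e1 : x = g * D.h s * g⁻¹ := by rw [hs']; group
    refine ⟨g * D.w * g⁻¹, ?_, ?_⟩
    · rw [show g * D.w * g⁻¹ * (g * D.w * g⁻¹) = g * (D.w * D.w) * g⁻¹ by group, D.w_w]; group
    · have e2 : D.w * D.h s * D.w⁻¹ = (D.h s)⁻¹ := by
        rw [D.wh, D.h_inv]; group
      calc g * D.w * g⁻¹ * x * (g * D.w * g⁻¹)⁻¹ = g * (D.w * D.h s * D.w⁻¹) * g⁻¹ := by rw [e1]; group
        _ = x⁻¹ := by rw [e2, e1]; group
  · exfalso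
    have h1 := ord_XX h
    rw [hx, D.card_Us, ← pow_mul] at h1
    have h2 := hr.dvd_of_dvd_pow h1
    exact hr2 ((Nat.prime_dvd_prime_iff_eq hr Nat.prime_two).1 h2)

/-- involutions of the unipotent group -/
theorem sz_u_sq (D : Data F O m) {a b : F} (h : D.u a b * D.u a b = 1) : a = 0 := by
  rw [← pow_two, D.u_sq] at h
  have h1 := (D.u_eq_one h).2
  rcases mul_eq_zero.1 h1 with h2 | h2
  · exact (map_eq_zero D.S).1 h2
  · exact h2

theorem sz_invol (D : Data F O m) {t : Gp O} (ht : t * t = 1) : ∃ (g : Gp O) (b : F), t = g * D.u 0 b * g⁻¹ := by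
  have h2 : Fact (Nat.Prime 2) := ⟨Nat.prime_two⟩
  have h1 : IsPGroup 2 (zpowers t) := zpowers_isPGroup ⟨1, by rw [pow_one, pow_two, ht]⟩
  obtain ⟨P, hP⟩ := h1.exists_le_sylow
  obtain ⟨g, hg⟩ := D.sylow_conj P
  have h3 : t ∈ D.Us.map (MulAut.conj g).toMonoidHom := by rw [← hg]; exact hP (mem_zpowers t)
  obtain ⟨a, b, e⟩ := D.mem_conj_Us.1 h3
  have h4 : D.u a b * D.u a b = 1 := by
    have h5 : D.u a b = g⁻¹ * t * g := by rw [e]; group
    rw [h5, show g⁻¹ * t * g * (g⁻¹ * t * g) = g⁻¹ * (t * t) * g by group, ht]; group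
  have h6 := sz_u_sq D h4
  subst h6
  exact ⟨g, b, e⟩

/-- elementary abelian subgroups of order `q` -/
theorem sz_elem (D : Data F O m) {T : Subgroup (Gp O)} (hT : ∀ t ∈ T, t * t = 1) (hc : Nat.card T = Fintype.card F) :
    ∃ g : Gp O, T = D.Zs.map (MulAut.conj g).toMonoidHom := by
  have h2 : Fact (Nat.Prime 2) := ⟨Nat.prime_two⟩
  have h1 : IsPGroup 2 T := by
    rintro ⟨x, hx⟩
    exact ⟨1, Subtype.ext (by rw [pow_one, pow_two]; exact hT x hx)⟩
  obtain ⟨P, hP⟩ := h1.exists_le_sylow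
  obtain ⟨g, hg⟩ := D.sylow_conj P
  refine ⟨g, ?_⟩
  have h3 : T ≤ D.Zs.map (MulAut.conj g).toMonoidHom := by
    intro t ht
    have h4 : t ∈ D.Us.map (MulAut.conj g).toMonoidHom := by rw [← hg]; exact hP ht
    obtain ⟨a, b, e⟩ := D.mem_conj_Us.1 h4
    have h4 : D.u a b * D.u a b = 1 := by
      have h5 : D.u a b = g⁻¹ * t * g := by rw [e]; group
      rw [h5, show g⁻¹ * t * g * (g⁻¹ * t * g) = g⁻¹ * (t * t) * g by group, hT t ht]; group
    have h6 := sz_u_sq D h4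
    subst h6
    exact ⟨D.u 0 b, ⟨b, rfl⟩, e.symm⟩
  apply SetLike.coe_injective
  apply Set.eq_of_subset_of_ncard_le h3
  have h7 : Nat.card (D.Zs.map (MulAut.conj g).toMonoidHom) = Nat.card D.Zs :=
    (Nat.card_congr (D.Zs.equivMapOfInjective _ (MulAut.conj g).injective).toEquiv).symm
  show Nat.card (D.Zs.map (MulAut.conj g).toMonoidHom) ≤ Nat.card T
  rw [h7, D.card_Zs, hc, D.hF]

end CfsgLib.FrL
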