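import Mathlib
import Cfsg.Agent.LibFrL6

set_option autoImplicit false

/-! Members of the family of `Y`-minimal subgroups: Suzuki groups, normal subgroups of the normaliser (helper1). -/

namespace CfsgLib.FrL

open Cfsg Subgroup CfsgLib.Cores Cfsg.Agent.Suz MulAction
open scoped Pointwise

universe u

/-- normal elementary abelian sections of `N(Y) / A` -/
structure WD {L : Type u} [Group L] (p : ℕ) (A Y W : Subgroup L) : Prop where
  AW : A ≤ W
  WN : W ≤ normalizer (Y : Set L)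
  inv : ∀ n ∈ normalizer (Y : Set L), ∀ w ∈ W, n * w * n⁻¹ ∈ W
  exp : ∀ w ∈ W, w ^ p ∈ A
  ne : W ≠ A

namespace WD

variable {L : Type u} [Group L] {p : ℕ} {A Y W : Subgroup L}

theorem ex (w : WD p A Y W) : ∃ x ∈ W, x ∉ A := by
  by_contra hcon
  push Not at hcon
  exact w.ne (le_antisymm hcon w.AW)

theorem isP [Finite L] [Fact p.Prime] (w : WD p A Y W) (F : FL p A Y) : IsPGroup p W := by
  rw [IsPGroup.iff_orderOf]
  rintro ⟨x, hx⟩
  rw [Subgroup.orderOf_mk]
  exact FL.pow_of_mem F.isPA (k := 1) (by rw [pow_one]; exact w.exp x hx)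

theorem eq_two [Finite L] (w : WD 2 A Y W) (F : FL 2 A Y) {t : L} (ht : t ∈ Y) (hY : ∀ y ∈ Y, y ∈ A ∨ t⁻¹ * y ∈ A) :
    W = Y ⊔ A := by
  have hAn := F.An
  have h1 := w.WN.trans (F.norm_two ht hY)
  apply le_antisymm h1
  apply sup_le _ w.AW
  obtain ⟨x, hx, hxA⟩ := w.ex
  have h2 : x ∈ ((Y ⊔ A : Subgroup L) : Set L) := h1 hx
  rw [mul_normal] at h2
  obtain ⟨y, hy, α, hα, rfl⟩ := h2
  have hyA : y ∉ A := fun h => hxA (A.mul_mem h hα)
  have hyW : y ∈ W := by
    have := W.mul_mem hx (w.AW (A.inv_mem hα))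
    rwa [mul_inv_cancel_right] at this
  have htW : t ∈ W := by
    rcases hY y hy with h3 | h3
    · exact absurd h3 hyA
    · have := W.mul_mem hyW (W.inv_mem (w.AW h3))
      rwa [show y * (t⁻¹ * y)⁻¹ = t by group] at this
  intro z hz
  rcases hY z hz with h3 | h3
  · exact w.AW h3
  · have := W.mul_mem htW (w.AW h3)
    rwa [mul_inv_cancel_left] at this

end WD

theorem norm_of_map {L : Type u} [Group L] [Finite L] {p : ℕ} {A Y : Subgroup L} (F : FL p A Y) {H : Type*} [Group H] (π : L →* H)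
    (ker : π.ker = A) {x : L} (h : ∀ y ∈ Y, π x * π y * (π x)⁻¹ ∈ Y.map π) : x ∈ normalizer (Y : Set L) := by
  apply F.nYA
  apply le_normalizer_of_cj
  show (Y ⊔ A).map _ ≤ _
  rw [Subgroup.map_sup]
  apply sup_le
  · rintro _ ⟨y, hy, rfl⟩
    show x * y * x⁻¹ ∈ Y ⊔ A
    obtain ⟨z, hz, e⟩ := h y hy
    have h1 : z⁻¹ * (x * y * x⁻¹) ∈ A := by
      rw [← ker, MonoidHom.mem_ker, map_mul, map_inv, e, map_mul, map_mul, map_inv, inv_mul_cancel]
    have h2 : x * y * x⁻¹ = z * (z⁻¹ * (x * y * x⁻¹)) := by group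
    rw [h2]
    exact mul_mem_sup hz h1
  · show cj x A ≤ _
    rw [cj_normal F.An]; exact le_sup_right

theorem mem_of_map {L : Type u} [Group L] {A X : Subgroup L} {H : Type*} [Group H] (π : L →* H)
    (ker : π.ker = A) (hA : A ≤ X) {x : L} (h : π x ∈ X.map π) : x ∈ X := by
  obtain ⟨z, hz, e⟩ := h
  have h1 : z⁻¹ * x ∈ A := by rw [← ker, MonoidHom.mem_ker, map_mul, map_inv, e, inv_mul_cancel]
  have := X.mul_mem hz (hA h1)
  rwa [mul_inv_cancel_left] at this

/-- the data of an isomorphism of `L / A` with a Suzuki group -/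
structure SZD {L : Type u} [Group L] (A Y : Subgroup L) {K : Type} [Field K] [Fintype K] {O : Set (Projectivization K (Fin 4 → K))}
    {m : ℕ} (D : Data K O m) (π : L →* Gp O) : Prop where
  F : FL 2 A Y
  sur : Function.Surjective π
  ker : π.ker = A
  card : Fintype.card K = (Y ⊓ A).relIndex Y

namespace SZD

variable {L : Type u} [Group L] {A Y : Subgroup L} {K : Type} [Field K] [Fintype K]
  {O : Set (Projectivization K (Fin 4 → K))} {m : ℕ} {D : Data K O m} {π : L →* Gp O}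

theorem mem_A (Z : SZD A Y D π) {x : L} : x ∈ A ↔ π x = 1 := by rw [← Z.ker]; rfl

theorem card_map (Z : SZD A Y D π) : Nat.card (Y.map π) = Fintype.card K := by
  rw [Z.card, Subgroup.inf_relIndex_left, ← relIndex_ker, Z.ker]

theorem conj (Z : SZD A Y D π) (g : Gp O) : SZD A Y D ((MulAut.conj g).toMonoidHom.comp π) where
  F := Z.F
  sur := (MulAut.conj g).surjective.comp Z.sur
  ker := by
    rw [← Z.ker]
    ext x
    rw [MonoidHom.mem_ker, MonoidHom.mem_ker]
    show g * π x * g⁻¹ = 1 ↔ _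
    rw [mul_inv_eq_one, mul_eq_left]
  card := Z.card

theorem exists_norm (Z : SZD A Y D π) : ∃ π' : L →* Gp O, SZD A Y D π' ∧ Y.map π' = D.Zs := by
  obtain ⟨g, hg⟩ := sz_elem D (T := Y.map π) (by
    rintro _ ⟨y, hy, rfl⟩
    rw [← map_mul, ← pow_two, Z.F.exp y hy, map_one]) Z.card_map
  refine ⟨_, Z.conj g⁻¹, ?_⟩
  rw [← Subgroup.map_map, hg, Subgroup.map_map]
  have : (MulAut.conj g⁻¹).toMonoidHom.comp (MulAut.conj g).toMonoidHom = MonoidHom.id (Gp O) := by
    apply MonoidHom.ext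
    intro x
    show g⁻¹ * (g * x * g⁻¹) * g⁻¹⁻¹ = x
    group
  rw [this, Subgroup.map_id]

variable [Finite L]

theorem lift_invol (Z : SZD A Y D π) (hY : Y.map π = D.Zs) {t : Gp O} (ht : t * t = 1) :
    ∃ g : L, ∃ y ∈ Y, π (g * y * g⁻¹) = t := by
  obtain ⟨c, b, e⟩ := sz_invol D ht
  have h1 : D.u 0 b ∈ Y.map π := by rw [hY]; exact ⟨b, rfl⟩
  obtain ⟨y, hy, e2⟩ := h1
  obtain ⟨g, hg⟩ := Z.sur c
  exact ⟨g, y, hy, by rw [map_mul, map_mul, map_inv, hg, e2, e]⟩

theorem fix (Z : SZD A Y D π) (hY : Y.map π = D.Zs) {h : L} (hnp : ¬ ∃ k : ℕ, orderOf h = 2 ^ k)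
    {a : L} (ha : a ∈ A) (hfix : h * a * h⁻¹ * a⁻¹ ∈ center L) : a ∈ center L := by
  have hAn := Z.F.An
  have h2f : Fact (Nat.Prime 2) := ⟨Nat.prime_two⟩
  rcases Nat.eq_two_pow_or_exists_odd_prime_and_dvd (orderOf h) with h1 | ⟨r, hr, hrd, hro⟩
  · exact absurd h1 hnp
  have hr2 : r ≠ 2 := by rintro rfl; exact absurd hro (by decide)
  set h' := h ^ (orderOf h / r) with hh'
  have ho : orderOf h' = r := orderOf_pow_orderOf_div (orderOf_pos h).ne' hrd
  have hnp' : ¬ ∃ k : ℕ, orderOf h' = 2 ^ k := by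
    rintro ⟨k, hk⟩
    rw [ho] at hk
    have : r ∣ 2 ^ k := by rw [← hk]
    exact hr2 ((Nat.prime_dvd_prime_iff_eq hr Nat.prime_two).1 (hr.dvd_of_dvd_pow this))
  have hfix' : h' * a * h'⁻¹ * a⁻¹ ∈ center L := by
    rw [← QuotientGroup.eq_one_iff (N := center L)] at hfix ⊢
    simp only [QuotientGroup.mk_mul, QuotientGroup.mk_inv] at hfix ⊢
    rw [mul_inv_eq_one, mul_inv_eq_iff_eq_mul] at hfix ⊢
    have h3 : Commute (QuotientGroup.mk h : L ⧸ center L) (QuotientGroup.mk a) := hfix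
    rw [hh', QuotientGroup.mk_pow]
    exact h3.pow_left _
  have hx1 : π h' ≠ 1 := by
    intro h3
    apply hnp'
    have h4 : h' ^ 2 ^ 0 ∈ A := by rw [pow_zero, pow_one, Z.mem_A]; exact h3
    exact FL.pow_of_mem Z.F.isPA h4
  have hox : orderOf (π h') = r := by
    have : Fact r.Prime := ⟨hr⟩
    exact orderOf_eq_prime (by rw [← map_pow, ← ho, pow_orderOf_eq_one, map_one]) hx1
  obtain ⟨t, htt, htx⟩ := sz_inv D hr hr2 hox
  have hti : t⁻¹ = t := inv_eq_of_mul_eq_one_left htt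
  have htt' : (t * π h') * (t * π h') = 1 := by
    rw [hti] at htx
    calc (t * π h') * (t * π h') = (t * π h' * t) * π h' := by group
      _ = 1 := by rw [htx, inv_mul_cancel]
  obtain ⟨g1, y1, hy1, e1⟩ := Z.lift_invol hY htt
  obtain ⟨g2, y2, hy2, e2⟩ := Z.lift_invol hY htt'
  refine Z.F.prodfix Z.F.HN_two (h := h') (cj_mem (g := g1) hy1) (cj_mem (g := g2) hy2)
    (α := (g1 * y1 * g1⁻¹ * (g2 * y2 * g2⁻¹))⁻¹ * h') ?_ (by group) hnp' ha hfix'
  rw [Z.mem_A, map_mul, map_inv, map_mul, e1, e2]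
  rw [← mul_assoc, htt, one_mul, inv_mul_cancel]

theorem ti_Us (g : Gp O) {b : K} (hb : b ≠ 0) (h : D.u 0 b ∈ D.Us.map (MulAut.conj g).toMonoidHom) :
    D.Us.map (MulAut.conj g).toMonoidHom = D.Us := by
  obtain ⟨a, c, e⟩ := D.mem_conj_Us.1 h
  have h1 : D.u 0 b • (g • inf K) = g • inf K := by
    rw [e, ← mul_smul, inv_mul_cancel_right, mul_smul, D.u_inf]
  have h2 : g • inf K ∈ O := D.smul_mem g D.inf_mem
  have h3 : g • inf K = inf K := by
    rcases (D.hO _).1 h2 with h4 | ⟨x, y, h4⟩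
    · exact h4
    · rw [h4] at h1
      exact absurd (D.u_fix h1).2 hb
  have h4 : g ∈ normalizer (D.Us : Set (Gp O)) := by rw [D.normalizer_Us]; exact h3
  ext x
  rw [mem_normalizer_iff] at h4
  constructor
  · rintro ⟨y, hy, rfl⟩
    exact (h4 y).1 hy
  · intro hx
    refine ⟨g⁻¹ * x * g, ?_, by simp [mul_assoc]⟩
    rw [SetLike.mem_coe, h4, show g * (g⁻¹ * x * g) * g⁻¹ = x by group]
    exact hx

theorem eqW (Z : SZD A Y D π) (hY : Y.map π = D.Zs) {W : Subgroup L} (w : WD 2 A Y W) : W = Y ⊔ A := by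
  have hAn := Z.F.An
  have h2f : Fact (Nat.Prime 2) := ⟨Nat.prime_two⟩
  have hZ : ∀ x ∈ W, π x ∈ D.Zs := by
    have h1 : IsPGroup 2 (W ⊔ Y : Subgroup L) := IsPGroup.to_sup_of_normal_right' (w.isP Z.F) Z.F.isP w.WN
    obtain ⟨P, hP⟩ := (h1.map π).exists_le_sylow
    obtain ⟨g, hg⟩ := D.sylow_conj P
    have h3 : D.u 0 1 ∈ D.Us.map (MulAut.conj g).toMonoidHom := by
      rw [← hg]
      apply hP
      have h4 : D.u 0 1 ∈ Y.map π := by rw [hY]; exact ⟨1, rfl⟩
      exact map_mono le_sup_right h4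
    have h4 := ti_Us g one_ne_zero h3
    intro x hx
    have h5 : π x ∈ D.Us := by
      rw [← h4, ← hg]
      exact hP (mem_map_of_mem π (mem_sup_left hx))
    obtain ⟨a, b, e⟩ := h5
    have h6 : D.u a b * D.u a b = 1 := by
      rw [← e, ← map_mul, ← pow_two]
      exact Z.mem_A.1 (w.exp x hx)
    have h7 := sz_u_sq D h6
    subst h7
    exact ⟨b, e⟩
  apply le_antisymm
  · intro x hx
    apply mem_of_map π Z.ker le_sup_right
    have h1 := hZ x hx
    rw [← hY] at h1
    exact map_mono le_sup_left h1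
  · apply sup_le _ w.AW
    obtain ⟨x, hx, hxA⟩ := w.ex
    obtain ⟨b, hb⟩ := hZ x hx
    have hb0 : b ≠ 0 := by
      rintro rfl
      apply hxA
      rw [Z.mem_A, hb, D.u_zero]
    intro y hy
    have h1 : π y ∈ D.Zs := by rw [← hY]; exact mem_map_of_mem π hy
    obtain ⟨c, hc⟩ := h1
    by_cases hc0 : c = 0
    · subst hc0
      apply w.AW
      rw [Z.mem_A, hc, D.u_zero]
    obtain ⟨t, ht⟩ := D.lam2_surj (b := c / b) (div_ne_zero hc0 hb0)
    obtain ⟨k, hk⟩ := Z.sur (D.h t)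
    have hkN : k ∈ normalizer (Y : Set L) := by
      apply norm_of_map Z.F π Z.ker
      intro y hy
      have h2 : π y ∈ D.Zs := by rw [← hY]; exact mem_map_of_mem π hy
      obtain ⟨d, hd⟩ := h2
      rw [hY, hk, hd, D.norm_h, mul_zero]
      exact ⟨_, rfl⟩
    have h2 := w.inv k hkN x hx
    apply mem_of_map π Z.ker w.AW
    refine ⟨_, h2, ?_⟩
    rw [map_mul, map_mul, map_inv, hk, hb, D.norm_h, hc, mul_zero, ht, div_mul_cancel₀ _ hb0]

end SZD

namespace SLD

variable {L : Type u} [Group L] [Finite L] {p : ℕ} [hp : Fact p.Prime] {A Y : Subgroup L} {K : Type} [Field K] [Fintype K]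
  {π : L →* Matrix.SpecialLinearGroup (Fin 2) K}

/-- the upper unipotent subgroup -/
def UP (K : Type) [Field K] : Subgroup (Matrix.SpecialLinearGroup (Fin 2) K) where
  carrier := {g | ∃ s, g = up s}
  mul_mem' := by
    rintro _ _ ⟨b, rfl⟩ ⟨d, rfl⟩
    refine ⟨b + d, ?_⟩
    apply ext2 <;> simp only [mulE, up, mk00, mk01, mk10, mk11] <;> ring
  one_mem' := ⟨0, by apply ext2 <;> simp only [up, mk00, mk01, mk10, mk11, one00, one01, one10, one11]⟩
  inv_mem' := by
    rintro _ ⟨b, rfl⟩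
    exact ⟨-b, up_inv b⟩

omit [Finite L] hp in
theorem conj (D : SLD p A Y K π) (g : Matrix.SpecialLinearGroup (Fin 2) K) :
    SLD p A Y K ((MulAut.conj g).toMonoidHom.comp π) where
  F := D.F
  sur := (MulAut.conj g).surjective.comp D.sur
  ker := by
    rw [← D.ker]
    ext x
    rw [MonoidHom.mem_ker, MonoidHom.mem_ker]
    show g * π x * g⁻¹ = 1 ↔ _
    rw [mul_inv_eq_one, mul_eq_left]
  card := D.card

theorem card_UP (K : Type) [Field K] [Fintype K] : Nat.card (UP K) = Fintype.card K := by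
  rw [← Nat.card_eq_fintype_card]
  apply Nat.card_congr
  refine (Equiv.ofBijective (fun s : K => (⟨up s, s, rfl⟩ : UP K)) ⟨?_, ?_⟩).symm
  · intro s t h
    have h1 := congrArg Subtype.val h
    have h2 : (up s).1 0 1 = (up t).1 0 1 := by
      have h3 : up s = up t := h1
      rw [h3]
    exact h2
  · rintro ⟨_, s, rfl⟩
    exact ⟨s, rfl⟩

theorem exists_norm (D : SLD p A Y K π) : ∃ π' : L →* Matrix.SpecialLinearGroup (Fin 2) K, SLD p A Y K π' ∧ Y.map π' = UP K := by
  have hch := D.charP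
  obtain ⟨n, hn0, hn⟩ := D.card_pow
  have h1 : IsPGroup p (UP K) := by
    apply IsPGroup.of_card (n := n)
    rw [card_UP, hn]
  have h2 : IsPGroup p (Y.map π) := D.F.isP.map π
  obtain ⟨P1, hP1⟩ := h1.exists_le_sylow
  obtain ⟨P2, hP2⟩ := h2.exists_le_sylow
  have e1 : UP K = P1 := by
    apply SetLike.coe_injective
    apply Set.eq_of_subset_of_ncard_le hP1
    show Nat.card P1 ≤ Nat.card (UP K)
    rw [card_UP]; exact D.card_le P1.isPGroup'
  have e2 : Y.map π = P2 := by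
    apply SetLike.coe_injective
    apply Set.eq_of_subset_of_ncard_le hP2
    show Nat.card P2 ≤ Nat.card (Y.map π)
    rw [D.card_map]; exact D.card_le P2.isPGroup'
  obtain ⟨g, hg⟩ := MulAction.exists_smul_eq (Matrix.SpecialLinearGroup (Fin 2) K) P2 P1
  refine ⟨_, D.conj g, ?_⟩
  rw [← Subgroup.map_map, e2, e1, ← hg, Sylow.coe_subgroup_smul]
  rfl

theorem eqW (D : SLD p A Y K π) (hY : Y.map π = UP K) {W : Subgroup L} (w : WD p A Y W) : W = Y ⊔ A := by
  have hAn := D.F.An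
  have hle : W ≤ Y ⊔ A := by
    have h1 : IsPGroup p (W ⊔ Y : Subgroup L) := IsPGroup.to_sup_of_normal_right' (w.isP D.F) D.F.isP w.WN
    have h2 := D.hS _ h1 (sup_le le_sup_right (w.AW.trans le_sup_left))
    rw [← h2]; exact le_sup_left
  have hU : ∀ x ∈ W, π x ∈ UP K := by
    intro x hx
    rw [← hY]
    have h1 : x ∈ ((Y ⊔ A : Subgroup L) : Set L) := hle hx
    rw [mul_normal] at h1
    obtain ⟨y, hy, α, hα, rfl⟩ := h1
    refine ⟨y, hy, ?_⟩
    have e : π (y * α) = π y * π α := map_mul π y α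
    exact (e.trans (by rw [D.mem_A.1 hα, mul_one])).symm
  apply le_antisymm hle
  apply sup_le _ w.AW
  obtain ⟨x, hx, hxA⟩ := w.ex
  obtain ⟨b, hb⟩ := hU x hx
  have hb0 : b ≠ 0 := by
    rintro rfl
    apply hxA
    rw [D.mem_A, hb]
    apply ext2 <;> simp only [up, mk00, mk01, mk10, mk11, one00, one01, one10, one11]
  -- multiples by squares
  have hsq : ∀ c : K, up (c ^ 2 * b) ∈ W.map π := by
    intro c
    by_cases hc : c = 0
    · subst hc
      have : up (0 ^ 2 * b) = (1 : Matrix.SpecialLinearGroup (Fin 2) K) := by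
        apply ext2 <;> simp [up, mk00, mk01, mk10, mk11, one00, one01, one10, one11]
      rw [this]; exact one_mem _
    set d := mkS c 0 0 c⁻¹ (by rw [mul_inv_cancel₀ hc]; ring) with hd
    have hdi : d⁻¹ = mkS c⁻¹ 0 0 c (by rw [inv_mul_cancel₀ hc]; ring) := by
      apply inv_eq_of_mul_eq_one_left
      apply ext2
      · rw [one00, hd]; simp only [mulE, mk00, mk01, mk10, mk11]; field_simp; ring
      · rw [one01, hd]; simp only [mulE, mk00, mk01, mk10, mk11]; ring
      · rw [one10, hd]; simp only [mulE, mk00, mk01, mk10, mk11]; ring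
      · rw [one11, hd]; simp only [mulE, mk00, mk01, mk10, mk11]; field_simp; ring
    have hconj : ∀ s : K, d * up s * d⁻¹ = up (c ^ 2 * s) := by
      intro s
      rw [hdi, hd]
      apply ext2
      · simp only [mulE, up, mk00, mk01, mk10, mk11]; field_simp; ring
      · simp only [mulE, up, mk00, mk01, mk10, mk11]; ring
      · simp only [mulE, up, mk00, mk01, mk10, mk11]; ring
      · simp only [mulE, up, mk00, mk01, mk10, mk11]; field_simp; ring
    obtain ⟨k, hk⟩ := D.sur d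
    have hkN : k ∈ normalizer (Y : Set L) := by
      apply norm_of_map D.F π D.ker
      intro y hy
      have h2 : π y ∈ UP K := by rw [← hY]; exact mem_map_of_mem π hy
      obtain ⟨s, hs⟩ := h2
      rw [hY, hk, hs, hconj]
      exact ⟨_, rfl⟩
    have h2 := w.inv k hkN x hx
    refine ⟨_, h2, ?_⟩
    rw [map_mul, map_mul, map_inv, hk, hb, hconj]
  have hadd : ∀ s t : K, up (s + t) = (up s * up t : Matrix.SpecialLinearGroup (Fin 2) K) := by
    intro s t
    apply ext2 <;> simp only [mulE, up, mk00, mk01, mk10, mk11] <;> ring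
  have hall : ∀ c : K, up c ∈ W.map π := by
    intro c
    have h1 : ∃ u v : K, u ^ 2 + v ^ 2 = c / b := by
      by_cases h2 : (2 : K) = 0
      · have h3 : ringChar K = 2 := by
          have hr := CharP.ringChar_of_prime_eq_zero Nat.prime_two (R := K) (by exact_mod_cast h2)
          exact hr
        obtain ⟨u, hu⟩ := FiniteField.isSquare_of_char_two h3 (c / b)
        exact ⟨u, 0, by rw [hu]; ring⟩
      · have hodd : Odd (Fintype.card K) := by
          rw [← Nat.not_even_iff_odd]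
          intro he
          apply h2
          have h3 : ringChar K = 2 := FiniteField.even_card_iff_char_two.2 (Nat.even_iff.1 he)
          have := CharP.cast_eq_zero K (ringChar K)
          rw [h3] at this
          exact_mod_cast this
        exact CfsgLib.H22J.sum_sq hodd _
    obtain ⟨u, v, huv⟩ := h1
    have h2 : c = u ^ 2 * b + v ^ 2 * b := by
      rw [← add_mul, huv, div_mul_cancel₀ _ hb0]
    rw [h2, hadd]
    exact mul_mem (hsq u) (hsq v)
  intro y hy
  have h1 : π y ∈ UP K := by rw [← hY]; exact mem_map_of_mem π hy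
  obtain ⟨c, hc⟩ := h1
  apply mem_of_map π D.ker w.AW
  rw [hc]; exact hall c

end SLD

end CfsgLib.FrL
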