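import Mathlib
import Cfsg.Agent.LibFrL7
import Cfsg.Agent.LibLE8

set_option autoImplicit false

/-! Members of the family of `Y`-minimal subgroups: translation (helper1). -/

namespace CfsgLib.FrL

open Cfsg Subgroup CfsgLib.Cores Cfsg.Agent.Suz
open scoped Pointwise

universe u

variable {G : Type u} [Group G] [Finite G] {p : ℕ} [hp : Fact p.Prime] {M L : Subgroup G}

omit [Finite G] in
theorem norm_iff {Y L : Subgroup G} (hYL : Y ≤ L) (x : ↥L) : x ∈ normalizer ((Y.subgroupOf L : Subgroup ↥L) : Set ↥L) ↔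
    (x : G) ∈ normalizer (Y : Set G) := by
  rw [mem_normalizer_iff, mem_normalizer_iff]
  simp only [SetLike.mem_coe, mem_subgroupOf]
  constructor
  · intro h y
    constructor
    · intro hy
      exact (h ⟨y, hYL hy⟩).1 hy
    · intro hy
      have h1 : y ∈ L := by
        have h2 := hYL hy
        have h3 := L.mul_mem (L.mul_mem (L.inv_mem x.2) h2) x.2
        rwa [show (x : G)⁻¹ * ((x : G) * y * (x : G)⁻¹) * (x : G) = y by group] at h3
      exact (h ⟨y, h1⟩).2 hy
  · intro h y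
    exact h y

omit [Finite G] hp in
theorem sub_inf (Y L : Subgroup G) : (Y ⊓ pCoreOf p L).subgroupOf L = Y.subgroupOf L ⊓ pCore p ↥L := by
  ext x
  simp only [mem_subgroupOf, mem_inf]
  constructor
  · rintro ⟨h1, ⟨y, hy, e⟩⟩
    refine ⟨h1, ?_⟩
    have : y = x := Subtype.ext e
    rwa [← this]
  · rintro ⟨h1, h2⟩
    exact ⟨h1, ⟨x, h2, rfl⟩⟩

omit [Finite G] hp in
theorem mem_core_iff (L : Subgroup G) (x : ↥L) : (x : G) ∈ pCoreOf p L ↔ x ∈ pCore p ↥L := by
  constructor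
  · rintro ⟨y, hy, e⟩
    have : y = x := Subtype.ext e
    rwa [← this]
  · intro h; exact ⟨x, h, rfl⟩

omit [Finite G] hp in
theorem toFL (hL : IsInFrakL p M L) : FL p (pCore p ↥L) ((largestPReducedOf p M).subgroupOf L) := by
  obtain ⟨h1, h2, h3, h4, h5, ⟨h6, h6'⟩, h7⟩ := hL
  have hel : IsElementaryAbelian p (largestPReducedOf p M) := (CfsgLib.LE.pRed_largestPReducedOf p M).2.2.1
  set Y := largestPReducedOf p M with hY
  refine ⟨rfl, ?_, ?_, ?_, ?_, h4.1, ?_, ?_⟩
  · intro a ha b hb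
    apply Subtype.ext
    have := hel.1.is_comm.comm ⟨(a : G), ha⟩ ⟨(b : G), hb⟩
    have h9 : (a : G) * (b : G) = (b : G) * (a : G) := congrArg Subtype.val this
    exact h9
  · intro a ha
    apply Subtype.ext
    have := hel.2 (a : G) ha
    rw [SubmonoidClass.coe_pow]; exact this
  · have e := Subgroup.map_injective L.subtype_injective h2
    rw [sub_inf] at e
    exact e
  · intro x hx
    rw [norm_iff h1]
    exact h3 ((mem_core_iff L x).2 hx)
  · intro h
    apply h6.ne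
    apply le_antisymm inf_le_left
    intro x hx
    refine ⟨hx, ?_⟩
    have : (⟨x, hx⟩ : ↥L) ∈ normalizer ((Y.subgroupOf L : Subgroup ↥L) : Set ↥L) := by rw [h]; exact mem_top _
    exact (norm_iff h1 _).1 this
  · intro X hX hXt x hx
    have a1 : Y ≤ X.map L.subtype := by
      intro y hy
      exact ⟨⟨y, h1 hy⟩, hX (mem_subgroupOf.2 hy), rfl⟩
    have a2 : X.map L.subtype < L := by
      refine lt_of_le_of_ne (map_subtype_le X) ?_
      intro h
      apply hXt
      rw [eq_top_iff]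
      intro y _
      have : (y : G) ∈ X.map L.subtype := by rw [h]; exact y.2
      obtain ⟨z, hz, e⟩ := this
      have e' : z = y := Subtype.ext e
      rwa [← e']
    have a3 := h6' _ a1 a2
    rw [norm_iff h1]
    exact (a3 ⟨x, hx, rfl⟩).2

omit [Finite G] hp in
theorem two_of_index {L : Type u} [Group L] {A Y : Subgroup L} [A.Normal] (h : A.relIndex Y = 2) :
    ∃ t ∈ Y, ∀ y ∈ Y, y ∈ A ∨ t⁻¹ * y ∈ A := by
  have h1 : (A.subgroupOf Y).index = 2 := h
  have h2 : A.subgroupOf Y ≠ ⊤ := by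
    intro h3
    rw [h3, index_top] at h1
    omega
  obtain ⟨t, ht⟩ : ∃ t : ↥Y, t ∉ A.subgroupOf Y := by
    by_contra hcon
    push Not at hcon
    exact h2 (eq_top_iff.2 fun x _ => hcon x)
  refine ⟨t, t.2, fun y hy => ?_⟩
  by_cases hyA : y ∈ A
  · exact Or.inl hyA
  · right
    have h3 : (t⁻¹ * ⟨y, hy⟩ : ↥Y) ∈ A.subgroupOf Y := by
      rw [mul_mem_iff_of_index_two h1]
      constructor
      · intro h4; exact absurd ((A.subgroupOf Y).inv_mem h4) (by rw [inv_inv]; exact ht)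
      · intro h4; exact absurd h4 hyA
    exact h3

/-- the three cases -/
theorem cases3 (hL : IsInFrakL p M L) :
    (∃ (K : Type) (_ : Field K) (_ : Fintype K) (π : ↥L →* Matrix.SpecialLinearGroup (Fin 2) K),
      SLD p (pCore p ↥L) ((largestPReducedOf p M).subgroupOf L) K π ∧
        ((largestPReducedOf p M).subgroupOf L).map π = SLD.UP K) ∨
    (p = 2 ∧ ∃ (K : Type) (_ : Field K) (_ : Fintype K) (m : ℕ) (O : Set (Projectivization K (Fin 4 → K))) (D : Data K O m)
      (π : ↥L →* Gp O), SZD (pCore 2 ↥L) ((largestPReducedOf p M).subgroupOf L) D π ∧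
        ((largestPReducedOf p M).subgroupOf L).map π = D.Zs) ∨
    (p = 2 ∧ ∃ t ∈ (largestPReducedOf p M).subgroupOf L, ∀ y ∈ (largestPReducedOf p M).subgroupOf L,
      y ∈ pCore 2 ↥L ∨ t⁻¹ * y ∈ pCore 2 ↥L) := by
  have hF := toFL hL
  obtain ⟨h1, h2, h3, h4, h5, h6, h7⟩ := hL
  set Y := largestPReducedOf p M with hY
  have hrel : (Y.subgroupOf L ⊓ pCore p ↥L).relIndex (Y.subgroupOf L) = (Y ⊓ pCoreOf p L).relIndex Y := by
    rw [← sub_inf, relIndex_subgroupOf h1]
  rcases h7 with ⟨K, iK, iF, hc, ⟨φ⟩⟩ | ⟨rfl, K, iK, iF, m, hcm, hc, ⟨φ⟩⟩ | ⟨rfl, r, hr, hr2, ⟨φ⟩⟩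
  · left
    have D : SLD p (pCore p ↥L) (Y.subgroupOf L) K (φ.toMonoidHom.comp (QuotientGroup.mk' (pCore p ↥L))) := by
      refine ⟨hF, φ.surjective.comp (QuotientGroup.mk'_surjective _), ?_, by rw [hrel]; exact hc⟩
      ext x
      rw [MonoidHom.mem_ker]
      show φ (QuotientGroup.mk x) = 1 ↔ _
      rw [map_eq_one_iff φ φ.injective, QuotientGroup.eq_one_iff]
    obtain ⟨π', D', e⟩ := D.exists_norm
    exact ⟨K, iK, iF, π', D', e⟩
  · right
    rcases Nat.eq_zero_or_pos m with rfl | hm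
    · right
      refine ⟨rfl, ?_⟩
      apply two_of_index
      rw [← inf_relIndex_left, hrel, ← hc, hcm]
      rfl
    · left
      refine ⟨rfl, ?_⟩
      let π : ↥L →* Gp (Cfsg.suzukiOvoid K m) :=
        ((lieIso hm hcm).toMonoidHom.comp φ.toMonoidHom).comp (QuotientGroup.mk' (pCore 2 ↥L))
      have D : SZD (pCore 2 ↥L) (Y.subgroupOf L) (data hm hcm) π := by
        refine ⟨hF, ((lieIso hm hcm).surjective.comp φ.surjective).comp (QuotientGroup.mk'_surjective _), ?_,
          by rw [hrel]; exact hc⟩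
        ext x
        rw [MonoidHom.mem_ker]
        change (lieIso hm hcm) (φ (QuotientGroup.mk x)) = 1 ↔ _
        rw [map_eq_one_iff _ (lieIso hm hcm).injective, map_eq_one_iff φ φ.injective, QuotientGroup.eq_one_iff]
      obtain ⟨π', D', e⟩ := D.exists_norm
      exact ⟨K, iK, iF, m, _, _, π', D', e⟩
  · right; right
    refine ⟨rfl, ?_⟩
    apply two_of_index
    set YL := Y.subgroupOf L with hYL
    let π : ↥L →* DihedralGroup r := φ.toMonoidHom.comp (QuotientGroup.mk' (pCore 2 ↥L))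
    have hker : π.ker = pCore 2 ↥L := by
      ext x
      rw [MonoidHom.mem_ker]
      show φ (QuotientGroup.mk x) = 1 ↔ _
      rw [map_eq_one_iff φ φ.injective, QuotientGroup.eq_one_iff]
    rw [← hker, relIndex_ker]
    haveI : NeZero r := ⟨hr.pos.ne'⟩
    have hP : IsPGroup 2 (YL.map π) := hF.isP.map π
    obtain ⟨k, hk⟩ := IsPGroup.iff_card.1 hP
    have h8 : Nat.card (YL.map π) ∣ Nat.card (DihedralGroup r) := card_subgroup_dvd_card _
    rw [DihedralGroup.nat_card, hk] at h8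
    have hrodd : Odd r := hr.odd_of_ne_two hr2
    have hk1 : k ≤ 1 := by
      by_contra hcon
      have h9 : 2 ^ 2 ∣ 2 * r := (pow_dvd_pow 2 (by omega : 2 ≤ k)).trans h8
      have h10 : 2 ∣ r := by
        rw [pow_two] at h9
        exact (Nat.mul_dvd_mul_iff_left (by norm_num)).1 h9
      exact (Nat.not_even_iff_odd.2 hrodd) (even_iff_two_dvd.2 h10)
    have hk0 : k ≠ 0 := by
      intro h0
      rw [h0, pow_zero] at hk
      have h9 : YL.map π = ⊥ := Subgroup.card_eq_one.1 hk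
      apply hF.not_le
      rw [Subgroup.map_eq_bot_iff, hker] at h9
      exact h9
    rw [hk, show k = 1 by omega, pow_one]

theorem fix_all (hL : IsInFrakL p M L) {h a : ↥L} (hnp : ¬ ∃ k : ℕ, orderOf h = p ^ k) (ha : a ∈ pCore p ↥L)
    (hfix : h * a * h⁻¹ * a⁻¹ ∈ center ↥L) : a ∈ center ↥L := by
  have hF := toFL hL
  rcases cases3 hL with ⟨K, iK, iF, π, D, -⟩ | ⟨rfl, K, iK, iF, m, O, D, π, Z, hZ⟩ | ⟨rfl, t, ht, hY⟩
  · exact D.fix hnp ha hfix
  · exact Z.fix hZ hnp ha hfix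
  · exact hF.fix_two ht hY hnp ha hfix

theorem eqW_all (hL : IsInFrakL p M L) {W : Subgroup ↥L} (w : WD p (pCore p ↥L) ((largestPReducedOf p M).subgroupOf L) W) :
    W = (largestPReducedOf p M).subgroupOf L ⊔ pCore p ↥L := by
  have hF := toFL hL
  rcases cases3 hL with ⟨K, iK, iF, π, D, hD⟩ | ⟨rfl, K, iK, iF, m, O, D, π, Z, hZ⟩ | ⟨rfl, t, ht, hY⟩
  · exact D.eqW hD w
  · exact Z.eqW hZ w
  · exact w.eq_two hF ht hY

end CfsgLib.FrL
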