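import Mathlib

set_option autoImplicit false
set_option linter.style.haveILetI false
set_option linter.unusedSectionVars false
set_option linter.unusedVariables false

/-! The regular case of the friendship theorem. -/

open Matrix

namespace CfsgLib.Friend

/-- a regular friendship graph of degree `d ≥ 3` does not exist. -/
theorem no_regular_friendship {I : Type*} [Fintype I] [DecidableEq I] [Nonempty I] (adj : I → I → Prop) [DecidableRel adj]
    (hsymm : ∀ x y, adj x y → adj y x) (hirr : ∀ x, ¬ adj x x) (d : ℕ) (hd3 : 3 ≤ d)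
    (hd : ∀ x, (Finset.univ.filter (fun y => adj x y)).card = d)
    (hfr : ∀ x y, x ≠ y → (Finset.univ.filter (fun z => adj x z ∧ adj y z)).card = 1) : False := by
  obtain ⟨p, hp, hpd⟩ := Nat.exists_prime_and_dvd (n := d - 1) (by omega)
  haveI : Fact p.Prime := ⟨hp⟩
  have hd1 : ((d : ℕ) : ZMod p) = 1 := by
    have h1 : ((d - 1 : ℕ) : ZMod p) = 0 := (ZMod.natCast_eq_zero_iff _ _).mpr hpd
    have h2 : d = (d - 1) + 1 := by omega
    rw [h2, Nat.cast_add, h1, Nat.cast_one, zero_add]
  let A : Matrix I I (ZMod p) := Matrix.of fun x y => if adj x y then 1 else 0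
  let J : Matrix I I (ZMod p) := Matrix.of fun _ _ => 1
  have hAA : A * A = J := by
    ext x y
    rw [Matrix.mul_apply]
    have h1 : ∀ z, A x z * A z y = if adj x z ∧ adj y z then (1 : ZMod p) else 0 := by
      intro z
      simp only [A, Matrix.of_apply]
      by_cases h1 : adj x z
      · by_cases h2 : adj z y
        · rw [if_pos h1, if_pos h2, if_pos ⟨h1, hsymm _ _ h2⟩, one_mul]
        · rw [if_pos h1, if_neg h2, if_neg (fun h => h2 (hsymm _ _ h.2)), mul_zero]
      · rw [if_neg h1, zero_mul]
        exact (if_neg (fun h => h1 h.1)).symm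
    rw [Finset.sum_congr rfl (fun z _ => h1 z), Finset.sum_boole]
    simp only [J, Matrix.of_apply]
    by_cases hxy : x = y
    · subst hxy
      simp only [and_self]
      rw [hd x, hd1]
    · rw [hfr x y hxy, Nat.cast_one]
  have hAJ : A * J = J := by
    ext x y
    rw [Matrix.mul_apply]
    simp only [A, J, Matrix.of_apply, mul_one]
    rw [Finset.sum_boole, hd x, hd1]
  have hpow : ∀ n, A ^ n * J = J := by
    intro n
    induction n with
    | zero => rw [pow_zero, Matrix.one_mul]
    | succ n ih => rw [pow_succ, Matrix.mul_assoc, hAJ, ih]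
  have hAp : A ^ p = J := by
    obtain ⟨m, hm⟩ : ∃ m, p = m + 2 := ⟨p - 2, by have := hp.two_le; omega⟩
    have h5 : A ^ p = A ^ (m + 2) := congrArg (fun k => A ^ k) hm
    rw [h5, pow_add, pow_two, hAA, hpow]
  have htrA : Matrix.trace A = 0 := by
    rw [Matrix.trace]
    apply Finset.sum_eq_zero
    intro x _
    simp only [Matrix.diag_apply, A, Matrix.of_apply]
    rw [if_neg (hirr x)]
  have h1 := ZMod.trace_pow_card (n := I) A
  rw [hAp, htrA, zero_pow hp.ne_zero] at h1
  have h2 : Matrix.trace J = (Fintype.card I : ZMod p) := by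
    rw [Matrix.trace]
    simp [J, Finset.card_univ]
  rw [h2] at h1
  have hJJ : J * J = J := by
    have h6 : J * J = (A * A) * J := congrArg (fun K => K * J) hAA.symm
    rw [h6, Matrix.mul_assoc, hAJ, hAJ]
  have h3 : J * J = (Fintype.card I : ZMod p) • J := by
    ext x y
    rw [Matrix.mul_apply, Matrix.smul_apply]
    simp [J, Finset.card_univ]
  rw [hJJ, h1, zero_smul] at h3
  obtain ⟨x⟩ := (inferInstance : Nonempty I)
  have h4 := congrFun (congrFun h3 x) x
  simp [J] at h4

end CfsgLib.Friend
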