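import Cfsg.Agent.LibFus21Sp
import Mathlib.Algebra.CharP.Lemmas
import Mathlib.RingTheory.Nilpotent.Basic
import Mathlib.RingTheory.Ideal.Quotient.Basic
import Mathlib.Algebra.Polynomial.AlgebraMap

set_option autoImplicit false

/-! `p^n`-th powers of `Z(S)` when the class of `S` is at most `n(p-1)+1`. -/

namespace CfsgLib.Fus21

open Cfsg Cfsg.FusionSystem

theorem ring_key {R : Type*} [CommRing R] {p : ℕ} (hp : p.Prime) {x : R} (h1 : (x + 1) ^ p = 1) {n : ℕ}
    (h2 : x ^ (n * (p - 1) + 1) = 0) : (p : R) ^ n * x = 0 := by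
  have h3 := (Commute.one_right x).add_pow_prime_eq hp
  obtain ⟨r, hr⟩ : ∃ r, r = ∑ k ∈ Finset.Ioo 0 p, x ^ (k - 1) * (1 : R) ^ (p - k - 1) * ((p.choose k / p : ℕ) : R) := ⟨_, rfl⟩
  rw [← hr, h1, one_pow, mul_one] at h3
  have hxp : x ^ p = -((p : R) * r) * x := by linear_combination -h3
  have hnil : IsNilpotent x := ⟨_, h2⟩
  have hunit : IsUnit r := by
    have hp1 : (1 : ℕ) ∈ Finset.Ioo 0 p := Finset.mem_Ioo.2 ⟨Nat.one_pos, hp.one_lt⟩
    have h4 : x ∣ r - 1 := by
      rw [hr, ← Finset.add_sum_erase _ _ hp1]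
      have h5 : x ^ (1 - 1) * (1 : R) ^ (p - 1 - 1) * ((p.choose 1 / p : ℕ) : R) = 1 := by
        rw [Nat.choose_one_right, Nat.div_self hp.pos]; simp
      rw [h5, add_sub_cancel_left]
      refine Finset.dvd_sum fun k hk => ?_
      obtain ⟨hk1, hk2⟩ := Finset.mem_erase.1 hk
      have hk3 := Finset.mem_Ioo.1 hk2
      refine Dvd.dvd.mul_right (Dvd.dvd.mul_right (dvd_pow_self x (by omega)) _) _
    obtain ⟨v, hv⟩ := h4
    have h6 : r = 1 + x * v := by linear_combination hv
    rw [h6]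
    have h7 : IsNilpotent (x * v) := (Commute.all x v).isNilpotent_mul_right hnil
    exact h7.isUnit_one_add
  have hj : ∀ j : ℕ, x ^ (j * (p - 1) + 1) = (-((p : R) * r)) ^ j * x := by
    intro j
    induction j with
    | zero => simp
    | succ j ih =>
      have e : (j + 1) * (p - 1) + 1 = (p - 1) + (j * (p - 1) + 1) := by ring
      rw [e, pow_add, ih]
      have e2 : x ^ (p - 1) * x = x ^ p := by
        rw [← pow_succ, Nat.sub_add_cancel hp.one_lt.le]
      calc x ^ (p - 1) * ((-((p : R) * r)) ^ j * x) = (-((p : R) * r)) ^ j * (x ^ (p - 1) * x) := by ring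
        _ = _ := by rw [e2, hxp]; ring
  have h8 := hj n
  rw [h2] at h8
  have h9 : ((-1 : R) ^ n * r ^ n) * ((p : R) ^ n * x) = 0 := by
    rw [h8]
    ring
  have h10 : IsUnit ((-1 : R) ^ n * r ^ n) := ((isUnit_one.neg).pow n).mul (hunit.pow n)
  exact (h10.mul_right_eq_zero).1 h9

open Polynomial in
theorem ring_key' {R : Type*} [Ring R] {p : ℕ} (hp : p.Prime) {x : R} (h1 : (x + 1) ^ p = 1) {n : ℕ}
    (h2 : x ^ (n * (p - 1) + 1) = 0) : (p : R) ^ n * x = 0 := by
  let f : ℤ[X] →+* R := (Polynomial.aeval x : ℤ[X] →ₐ[ℤ] R).toRingHom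
  have hfX : f X = x := Polynomial.aeval_X x
  set I := RingHom.ker f with hI
  have h3 : (Ideal.Quotient.mk I X + 1) ^ p = 1 := by
    have : (Ideal.Quotient.mk I) ((X + 1) ^ p - 1) = 0 := by
      rw [Ideal.Quotient.eq_zero_iff_mem, hI, RingHom.mem_ker, map_sub, map_pow, map_add, hfX, map_one, h1, sub_self]
    rw [map_sub, map_pow, map_add, map_one] at this
    exact sub_eq_zero.1 this
  have h4 : (Ideal.Quotient.mk I X) ^ (n * (p - 1) + 1) = 0 := by
    rw [← map_pow, Ideal.Quotient.eq_zero_iff_mem, hI, RingHom.mem_ker, map_pow, hfX, h2]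
  have h5 := ring_key hp h3 h4
  have h6 : (Ideal.Quotient.mk I) ((p : ℤ[X]) ^ n * X) = 0 := by
    rw [map_mul, map_pow, map_natCast]; exact h5
  rw [Ideal.Quotient.eq_zero_iff_mem, hI, RingHom.mem_ker, map_mul, map_pow, map_natCast, hfX] at h6
  exact h6

section grp

variable {G : Type*} [Group G]

theorem agemo_fixed {W : Subgroup G} (hab : ∀ x ∈ W, ∀ y ∈ W, x * y = y * x) {g : G} (hgW : ∀ w ∈ W, g * w * g⁻¹ ∈ W)
    {p : ℕ} (hp : p.Prime) {n : ℕ} (hgp : ∀ w ∈ W, g ^ p * w * (g ^ p)⁻¹ = w)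
    (hnil : ∀ w ∈ W, (fun w => g * w * g⁻¹ * w⁻¹)^[n * (p - 1) + 1] w = 1) :
    ∀ w ∈ W, g * w ^ p ^ n * g⁻¹ = w ^ p ^ n := by
  letI : CommGroup W := { (inferInstance : Group W) with mul_comm := fun a b => Subtype.ext (hab a a.2 b b.2) }
  let f : AddMonoid.End (Additive W) :=
    { toFun := fun a => Additive.ofMul ⟨g * (a.toMul : W) * g⁻¹, hgW _ (a.toMul).2⟩
      map_zero' := by
        apply Additive.toMul.injective
        apply Subtype.ext
        show g * 1 * g⁻¹ = 1
        group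
      map_add' := by
        intro a b
        apply Additive.toMul.injective
        apply Subtype.ext
        show g * ((a.toMul : W) * (b.toMul : W)) * g⁻¹ = (g * (a.toMul : W) * g⁻¹) * (g * (b.toMul : W) * g⁻¹)
        group }
  have hf : ∀ w : W, ((f (Additive.ofMul w)).toMul : G) = g * w * g⁻¹ := fun _ => rfl
  have hsub : ∀ a : Additive W, ((((f - 1) a).toMul : W) : G) = (((f a).toMul : W) : G) * ((a.toMul : W) : G)⁻¹ := by
    intro a
    have h0 : (f - 1) a = f a - a := AddMonoidHom.sub_apply f (AddMonoidHom.id _) a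
    rw [h0, toMul_sub, div_eq_mul_inv]
    rfl
  have hpow : ∀ (k : ℕ) (w : W), (((f ^ k) (Additive.ofMul w)).toMul : G) = g ^ k * w * (g ^ k)⁻¹ := by
    intro k
    induction k with
    | zero => intro w; simp
    | succ k ih =>
      intro w
      rw [pow_succ']
      show ((f (Additive.ofMul ((f ^ k) (Additive.ofMul w)).toMul)).toMul : G) = _
      rw [hf, ih, pow_succ']
      group
  have hfp : f ^ p = 1 := by
    ext a
    exact (hpow p a.toMul).trans (hgp _ (a.toMul).2)
  have hit : ∀ (k : ℕ) (w : W), ((((f - 1) ^ k) (Additive.ofMul w)).toMul : G) = (fun w => g * w * g⁻¹ * w⁻¹)^[k] w := by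
    intro k
    induction k with
    | zero => intro w; simp
    | succ k ih =>
      intro w
      rw [pow_succ', Function.iterate_succ_apply', ← ih]
      exact hsub ((f - 1) ^ k • (Additive.ofMul w))
  have hk : (f - 1) ^ (n * (p - 1) + 1) = 0 := by
    ext a
    exact (hit _ a.toMul).trans (hnil _ (a.toMul).2)
  have h1 := ring_key' hp (x := f - 1) (by rw [sub_add_cancel]; exact hfp) hk
  intro w hw
  have h2 : ((p : AddMonoid.End (Additive W)) ^ n * (f - 1)) (Additive.ofMul (⟨w, hw⟩ : W)) = 0 := by rw [h1]; rfl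
  have h3 : ∀ a : Additive W, ((p : AddMonoid.End (Additive W)) ^ n) a = p ^ n • a := by
    intro a
    rw [← Nat.cast_pow]
    rfl
  have h4 : p ^ n • ((f - 1) (Additive.ofMul (⟨w, hw⟩ : W))) = 0 := by rw [← h3]; exact h2
  have h6 : (((f - 1) (Additive.ofMul (⟨w, hw⟩ : W))).toMul : W) ^ p ^ n = 1 := congrArg (fun a : Additive W => (a.toMul : W)) h4
  have h5 : (g * w * g⁻¹ * w⁻¹) ^ p ^ n = 1 := by
    have h7 := congrArg Subtype.val h6
    rw [SubmonoidClass.coe_pow, hsub] at h7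
    exact h7
  have hc : Commute (g * w * g⁻¹) w⁻¹ := hab _ (hgW w hw) _ (W.inv_mem hw)
  rw [hc.mul_pow, conj_pow, inv_pow, mul_inv_eq_one] at h5
  exact h5

theorem iter_lcs {S : Subgroup G} {g : G} (hg : g ∈ S) {w : G} (hw : w ∈ S) (k : ℕ) :
    (fun w => g * w * g⁻¹ * w⁻¹)^[k] w ∈ Subgroup.lowerCentralSeries S k := by
  induction k with
  | zero => exact hw
  | succ k ih =>
    rw [Function.iterate_succ_apply', Subgroup.lowerCentralSeries_succ, Subgroup.commutator_comm]
    exact Subgroup.commutator_mem_commutator hg ih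

end grp

end CfsgLib.Fus21
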