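import Cfsg.Agent.LibFus21Ag1
import Cfsg.Agent.LibFus21Frat

set_option autoImplicit false

/-! `p^n`-th powers of `Z(S)` when the class of `S` is at most `n(p-1)+1`. -/

namespace CfsgLib.Fus21

open Cfsg Cfsg.FusionSystem

variable {Ω : Type*} [Group Ω] {S : Subgroup Ω}

theorem agemo_normal [Finite S] {p : ℕ} [hp : Fact p.Prime] (hS : IsPGroup p S) {F : FusionSystem S} (hF : F.IsSaturated p)
    (n : ℕ) (hcl : Subgroup.lowerCentralSeries S (n * (p - 1) + 1) = ⊥) : F.IsNormal (powerClosure p n (centralizerIn S S)) := by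
  set V := powerClosure p n (centralizerIn S S) with hVdef
  have hVZ : V ≤ centralizerIn S S := by
    rw [hVdef]; unfold powerClosure
    rw [Subgroup.closure_le]
    rintro _ ⟨x, hx, rfl⟩
    exact Subgroup.pow_mem _ hx _
  have hVS : V ≤ S := hVZ.trans (centralizerIn_le _ _)
  have hVn : S ≤ normalizerIn S V := by
    intro s hs
    rw [mem_normalizerIn]
    refine ⟨hs, fun x => ?_⟩
    have hc : ∀ s ∈ S, ∀ x ∈ V, s * x * s⁻¹ = x := by
      intro s hs x hx
      rw [mul_inv_eq_iff_eq_mul]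
      exact (mem_centralizerIn.1 (hVZ hx)).2 s hs
    constructor
    · intro hx; rw [hc s hs x hx]; exact hx
    · intro hx
      have h1 := hc s⁻¹ (S.inv_mem hs) _ hx
      have h2 : s⁻¹ * (s * x * s⁻¹) * s⁻¹⁻¹ = x := by group
      rw [h2] at h1; rw [h1]; exact hx
  have hTeq : normalizerIn S V = S := le_antisymm (normalizerIn_le _ _) hVn
  obtain ⟨D, hD, hDe⟩ := exists_transport hTeq (normSys F V hVS) (normSys_saturated hS hF (fn_of_normalizer_eq F hVS hVn))
  suffices hmain : F ≤ D from normal_of_normSys_eq hVS (fun P φ hφ => by rw [← hDe]; exact hmain P hφ)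
  -- membership in `D`
  have hmemD : ∀ (P : Subgroup Ω) (hZP : centralizerIn S S ≤ P) (hPS : P ≤ S) (α : MulAut P), α ∈ F.autGroup P →
      (∀ z (hz : z ∈ centralizerIn S S), ((α (⟨z, hZP hz⟩ : P) : P) : Ω) ^ p ^ n ∈ V) → α ∈ D.autGroup P := by
    intro P hZP hPS α hα hz
    have hVP : V ≤ P := hVZ.trans hZP
    have hαF := (mem_autGroup hPS).1 hα
    haveI : Finite V := finite_of_le hVS
    have hpres : ∀ x (hx : x ∈ V), (P.subtype.comp (α : P ≃* P).toMonoidHom) ⟨x, hVP hx⟩ ∈ V := by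
      let K : Subgroup Ω := (V.comap (P.subtype.comp (α : P ≃* P).toMonoidHom)).map P.subtype
      have hK : V ≤ K := by
        conv_lhs => rw [hVdef]
        unfold powerClosure
        rw [Subgroup.closure_le]
        rintro _ ⟨z, hzZ, rfl⟩
        refine ⟨(⟨z, hZP hzZ⟩ : P) ^ p ^ n, ?_, rfl⟩
        show ((α ((⟨z, hZP hzZ⟩ : P) ^ p ^ n) : P) : Ω) ∈ V
        rw [map_pow]
        exact hz z hzZ
      intro x hx
      obtain ⟨y, hy, hyx⟩ := hK hx
      have : y = ⟨x, hVP hx⟩ := Subtype.ext hyx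
      rw [← this]; exact hy
    obtain ⟨κ, hκ⟩ := exists_aut_of_maps hαF hVP hpres
    rw [mem_autGroup hPS]
    have hαD : P.subtype.comp (α : P ≃* P).toMonoidHom ∈ (normSys F V hVS).Hom P :=
      mem_normSys_of (hPS.trans hVn) hαF le_rfl hVP (fun _ _ => rfl) κ hκ
    rw [← hDe] at hαD
    exact hαD
  refine alperin_ind hS hF D fun P hP hbig => ?_
  rcases hP with rfl | hP
  · intro α hα
    refine hmemD P (centralizerIn_le _ _) le_rfl α hα fun z hz => ?_
    rw [hVdef]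
    refine Subgroup.subset_closure ⟨_, ?_, rfl⟩
    show ((α (⟨z, _⟩ : P) : P) : Ω) ∈ centralizerIn P P
    rw [mem_centralizerIn]
    refine ⟨Subtype.mem _, fun y hy => ?_⟩
    have h1 : (α.symm ⟨y, hy⟩ : P) * ⟨z, (centralizerIn_le _ _) hz⟩ = ⟨z, (centralizerIn_le _ _) hz⟩ * (α.symm ⟨y, hy⟩ : P) :=
      Subtype.ext ((mem_centralizerIn.1 hz).2 _ (α.symm ⟨y, hy⟩ : P).2)
    have h2 := congrArg α h1
    rw [map_mul, map_mul, MulEquiv.apply_symm_apply] at h2
    exact congrArg Subtype.val h2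
  -- the essential case
  have hPc := hP.1
  have hPn : F.IsFullyNormalized P := hP.2.1
  have hPS : P ≤ S := hPc.1
  have hPlt : P < S := essential_lt hS hF hP
  have hZP : centralizerIn S S ≤ P := by
    refine le_trans ?_ (centric_centralizer_le hPc)
    intro x hx
    rw [mem_centralizerIn'] at hx ⊢
    exact ⟨hx.1, fun y hy => hx.2 y (hPS hy)⟩
  haveI := finite_autGroup F hPS
  haveI : Finite P := finite_of_le hPS
  obtain ⟨W, hWdef⟩ : ∃ W : Subgroup Ω, W = Subgroup.closure {y : Ω | ∃ α ∈ F.autGroup P, ∃ z, ∃ hz : z ∈ centralizerIn S S,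
    y = ((α (⟨z, hZP hz⟩ : P) : P) : Ω)} := ⟨_, rfl⟩
  have hWP : W ≤ P := by
    rw [hWdef, Subgroup.closure_le]
    rintro _ ⟨α, -, z, hz, rfl⟩
    exact Subtype.mem _
  have hWc : ∀ w ∈ W, ∀ y ∈ P, y * w = w * y := by
    have hle : W ≤ Subgroup.centralizer (P : Set Ω) := by
      rw [hWdef, Subgroup.closure_le]
      rintro _ ⟨α, -, z, hz, rfl⟩
      rw [SetLike.mem_coe, Subgroup.mem_centralizer_iff]
      intro y hy
      have h1 : (α.symm ⟨y, hy⟩ : P) * ⟨z, hZP hz⟩ = ⟨z, hZP hz⟩ * (α.symm ⟨y, hy⟩ : P) :=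
        Subtype.ext ((mem_centralizerIn.1 hz).2 _ (hPS (α.symm ⟨y, hy⟩ : P).2))
      have h2 := congrArg α h1
      rw [map_mul, map_mul, MulEquiv.apply_symm_apply] at h2
      exact congrArg Subtype.val h2
    intro w hw y hy
    exact Subgroup.mem_centralizer_iff.1 (hle hw) y hy
  have hZW : centralizerIn S S ≤ W := by
    intro z hz
    rw [hWdef]
    exact Subgroup.subset_closure ⟨1, Subgroup.one_mem _, z, hz, rfl⟩
  have hWaut : ∀ β ∈ F.autGroup P, ∀ w (hw : w ∈ W), ((β (⟨w, hWP hw⟩ : P) : P) : Ω) ∈ W := by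
    intro β hβ
    let K : Subgroup Ω := (W.comap (P.subtype.comp (β : P ≃* P).toMonoidHom)).map P.subtype
    have hK : W ≤ K := by
      conv_lhs => rw [hWdef]
      rw [Subgroup.closure_le]
      rintro _ ⟨α, hα, z, hz, rfl⟩
      refine ⟨α ⟨z, hZP hz⟩, ?_, rfl⟩
      show ((β (α (⟨z, hZP hz⟩ : P)) : P) : Ω) ∈ W
      rw [hWdef]
      exact Subgroup.subset_closure ⟨β * α, Subgroup.mul_mem _ hβ hα, z, hz, rfl⟩
    intro w hw
    obtain ⟨y, hy, hyx⟩ := hK hw
    have : y = ⟨w, hWP hw⟩ := Subtype.ext hyx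
    rw [← this]; exact hy
  -- the normal subgroup
  let A1 : Subgroup (F.autGroup P) :=
    { carrier := {a | ∀ w (hw : w ∈ W), (a : MulAut P) ((⟨w, hWP hw⟩ : P) ^ p ^ n) = (⟨w, hWP hw⟩ : P) ^ p ^ n}
      one_mem' := fun w hw => rfl
      mul_mem' := by
        intro a b ha hb w hw
        show (a : MulAut P) ((b : MulAut P) ((⟨w, hWP hw⟩ : P) ^ p ^ n)) = _
        rw [hb w hw, ha w hw]
      inv_mem' := by
        intro a ha w hw
        show ((a : MulAut P)⁻¹) ((⟨w, hWP hw⟩ : P) ^ p ^ n) = _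
        conv_lhs => rw [← ha w hw]
        exact (a : MulAut P).symm_apply_apply _ }
  have hA1m : ∀ a : F.autGroup P, a ∈ A1 ↔ ∀ w (hw : w ∈ W), (a : MulAut P) ((⟨w, hWP hw⟩ : P) ^ p ^ n) = (⟨w, hWP hw⟩ : P) ^ p ^ n :=
    fun _ => Iff.rfl
  have hA1n : A1.Normal := by
    refine ⟨fun a ha b => ?_⟩
    rw [hA1m] at ha ⊢
    intro w hw
    have h1 := hWaut _ (b⁻¹).2 w hw
    show (b : MulAut P) ((a : MulAut P) (((b : MulAut P)⁻¹) ((⟨w, hWP hw⟩ : P) ^ p ^ n))) = _
    have h2 : (a : MulAut P) (((b : MulAut P)⁻¹) ((⟨w, hWP hw⟩ : P) ^ p ^ n)) = ((b : MulAut P)⁻¹) ((⟨w, hWP hw⟩ : P) ^ p ^ n) := by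
      rw [map_pow ((b : MulAut P)⁻¹)]
      exact ha _ h1
    rw [h2]
    exact (b : MulAut P).apply_symm_apply _
  set T : Subgroup (F.autGroup P) := (autInducedBy S P).subgroupOf (F.autGroup P) with hTdef
  have hTp : IsPGroup p T := (isPGroup_autInducedBy hS P).comap_of_injective _ (F.autGroup P).subtype_injective
  have hTidx : ¬ p ∣ T.relIndex A1 := by
    have h1 := (fullyAutomized_iff hS).1 (sat_fn hS hF hPn).2
    have h2 : T.index = (autInducedBy S P).relIndex (F.autGroup P) := rfl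
    have h3 := not_dvd_relIndex_inf (p := p) (H := T) (A := ⊤) (K := A1) le_top le_top hTp
      (fun a _ k hk => hA1n.conj_mem k hk a) (by rw [Subgroup.relIndex_top_right, h2]; exact h1.2)
    rwa [Subgroup.inf_relIndex_right] at h3
  -- elements of `A1` lie in `D`
  have hA1D : ∀ a ∈ A1, (a : MulAut P) ∈ D.autGroup P := by
    intro a ha
    refine hmemD P hZP hPS _ a.2 fun z hz => ?_
    have h1 := ha z (hZW hz)
    rw [map_pow] at h1
    have h2 : (((a : MulAut P) (⟨z, hZP hz⟩ : P) : P) : Ω) ^ p ^ n = z ^ p ^ n := congrArg Subtype.val h1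
    rw [h2, hVdef]
    exact Subgroup.subset_closure ⟨z, hz, rfl⟩
  intro α hα
  obtain ⟨a1, ha1, β, hβ, hαβ⟩ := frattini_elt hTp hTidx hA1n ⟨α, hα⟩
  have hβD : (β : MulAut P) ∈ D.autGroup P := by
    -- `T0`
    let Y : Set Ω := {y | ∃ w ∈ W, y = w ^ p ^ n}
    set T0 : Subgroup Ω := normalizerIn S P ⊓ Subgroup.centralizer Y with hT0
    have hT0S : T0 ≤ S := inf_le_left.trans (normalizerIn_le _ _)
    have hPT0 : P ≤ T0 := by
      refine le_inf (le_normalizerIn hPS) ?_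
      intro y hy
      rw [Subgroup.mem_centralizer_iff]
      rintro _ ⟨w, hw, rfl⟩
      exact (hWc _ (Subgroup.pow_mem _ hw _) y hy).symm
    have hPlt0 : P < T0 := by
      refine lt_of_le_of_ne hPT0 fun heq => ?_
      -- an element of order `p` in `N_S(P)/P`
      have h1 := lt_normalizer_inf hS hPlt
      obtain ⟨g0, hg0, hg0P⟩ := Set.exists_of_ssubset h1
      have hex : ∃ k : ℕ, g0 ^ p ^ k ∈ P := by
        obtain ⟨k, hk⟩ := hS ⟨g0, hg0.1⟩
        have hk' : g0 ^ p ^ k = 1 := congrArg Subtype.val hk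
        exact ⟨k, by rw [hk']; exact P.one_mem⟩
      classical
      have hk1 := Nat.find_spec hex
      have hk2 : Nat.find hex ≠ 0 := by
        intro h
        rw [h, pow_zero, pow_one] at hk1
        exact hg0P hk1
      obtain ⟨k, hk⟩ := Nat.exists_eq_succ_of_ne_zero hk2
      have hk3 : g0 ^ p ^ k ∉ P := Nat.find_min hex (by omega)
      set g := g0 ^ p ^ k with hg
      have hgp : g ^ p ∈ P := by
        rw [hk, Nat.succ_eq_add_one, pow_succ, pow_mul] at hk1
        exact hk1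
      have hgN : g ∈ normalizerIn S P := Subgroup.pow_mem _ (show g0 ∈ normalizerIn S P from ⟨hg0.1, hg0.2⟩) _
      have hgW : ∀ w ∈ W, g * w * g⁻¹ ∈ W := by
        intro w hw
        have h2 : nHom S P ⟨g, hgN⟩ ∈ F.autGroup P :=
          autInducedBy_le_autGroup F hPS (mem_autInducedBy.2 ⟨g, hgN.1, fun x => rfl⟩)
        exact hWaut _ h2 w hw
      apply hk3
      rw [heq, hT0]
      refine ⟨hgN, Subgroup.mem_centralizer_iff.2 ?_⟩
      rintro _ ⟨w, hw, rfl⟩
      have h3 := agemo_fixed (fun x hx y hy => hWc y hy x (hWP hx)) hgW hp.out (n := n)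
        (fun w hw => by rw [hWc w hw _ hgp, mul_inv_cancel_right])
        (fun w hw => by
          have h4 := iter_lcs (S := S) hgN.1 (hPS (hWP hw)) (n * (p - 1) + 1)
          rw [hcl, Subgroup.mem_bot] at h4
          exact h4) w hw
      exact (mul_inv_eq_iff_eq_mul.1 h3).symm
    have hNE : T0 ≤ extender S P (P.subtype.comp ((β : MulAut P) : P ≃* P).toMonoidHom) := by
      rintro g ⟨hgN, hgC⟩
      refine mem_extender_of_conj hgN ?_
      have hgI : nHom S P ⟨g, hgN⟩ ∈ autInducedBy S P := mem_autInducedBy.2 ⟨g, hgN.1, fun x => rfl⟩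
      have hgF : nHom S P ⟨g, hgN⟩ ∈ F.autGroup P := autInducedBy_le_autGroup F hPS hgI
      have hgT : (⟨nHom S P ⟨g, hgN⟩, hgF⟩ : F.autGroup P) ∈ T ⊓ A1 := by
        refine ⟨Subgroup.mem_subgroupOf.2 hgI, (hA1m _).2 ?_⟩
        intro w hw
        apply Subtype.ext
        show g * (w ^ p ^ n) * g⁻¹ = w ^ p ^ n
        rw [mul_inv_eq_iff_eq_mul]
        exact (Subgroup.mem_centralizer_iff.1 hgC _ ⟨w, hw, rfl⟩).symm
      have h9 := (Subgroup.mem_normalizer_iff.1 hβ _).1 hgT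
      exact Subgroup.mem_subgroupOf.1 h9.1
    have hβF := (mem_autGroup hPS).1 β.2
    obtain ⟨ψ, hψ, hψe⟩ := (sat_fn_receptive hS hF hPn).2 P _ hβF (iso_range _)
    have hψN := restrict_mem hψ hNE
    have hψD := hbig T0 (card_lt_of_lt hPlt0 hT0S) hψN
    rw [mem_autGroup hPS]
    refine mem_congr (restrict_mem hψD hPlt0.le) fun x => ?_
    exact (hψe x x.2 _).symm
  have h10 : α = (a1 : MulAut P) * (β : MulAut P) := congrArg Subtype.val hαβ
  rw [h10]
  exact Subgroup.mul_mem _ (hA1D a1 ha1) hβD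

end CfsgLib.Fus21
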