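import Cfsg.Agent.LibFus21Ag2

set_option autoImplicit false

/-! Exponent bound. -/

namespace CfsgLib.Fus21

open Cfsg Cfsg.FusionSystem

theorem ucs_pow {G : Type*} [Group G] {m : ℕ} (hZ : ∀ z ∈ Subgroup.center G, z ^ m = 1) :
    ∀ (i : ℕ) (x : G), x ∈ Subgroup.upperCentralSeries G (i + 1) → x ^ m ∈ Subgroup.upperCentralSeries G i := by
  intro i
  induction i with
  | zero =>
    intro x hx
    rw [zero_add, Subgroup.upperCentralSeries_one] at hx
    rw [hZ x hx]
    exact Subgroup.one_mem _
  | succ i ih =>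
    intro x hx
    have hx' := Subgroup.mem_upperCentralSeries_succ_iff.1 hx
    rw [Subgroup.mem_upperCentralSeries_succ_iff]
    intro g
    set c := x⁻¹ * (g * x * g⁻¹) with hc
    have hcm : c ∈ Subgroup.upperCentralSeries G (i + 1) := by
      have h2 := hx' g
      rw [commutatorElement_def] at h2
      have h3 : c = x⁻¹ * (x * g * x⁻¹ * g⁻¹)⁻¹ * x := by rw [hc]; group
      rw [h3]
      have h4 : (Subgroup.upperCentralSeries G (i + 1)).Normal := inferInstance
      have h5 := h4.conj_mem _ (Subgroup.inv_mem _ h2) x⁻¹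
      rwa [inv_inv] at h5
    have hN : (Subgroup.upperCentralSeries G i).Normal := inferInstance
    set π := QuotientGroup.mk' (Subgroup.upperCentralSeries G i) with hπ
    have hπ1 : ∀ y, π y = 1 ↔ y ∈ Subgroup.upperCentralSeries G i := fun y => QuotientGroup.eq_one_iff y
    have hcomm : Commute (π x) (π c) := by
      have h1 := Subgroup.mem_upperCentralSeries_succ_iff.1 hcm x
      rw [← hπ1, commutatorElement_def, map_mul, map_mul, map_mul, map_inv, map_inv, mul_inv_eq_one, mul_inv_eq_iff_eq_mul] at h1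
      exact h1.symm
    have h1 : π ((g * x * g⁻¹) ^ m) = π (x ^ m) := by
      have h2 : g * x * g⁻¹ = x * c := by rw [hc]; group
      rw [h2, map_pow, map_mul, hcomm.mul_pow, ← map_pow π c, (hπ1 _).2 (ih c hcm), mul_one, map_pow]
    rw [← hπ1]
    have h3 : x ^ m * g * (x ^ m)⁻¹ * g⁻¹ = x ^ m * ((g * x * g⁻¹) ^ m)⁻¹ := by rw [conj_pow]; group
    rw [commutatorElement_def, h3, map_mul, map_inv, h1, mul_inv_cancel]

theorem exponent_of_center {G : Type*} [Group G] {m c : ℕ} (hZ : ∀ z ∈ Subgroup.center G, z ^ m = 1)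
    (hc : Subgroup.upperCentralSeries G c = ⊤) : Monoid.exponent G ∣ m ^ c := by
  rw [Monoid.exponent_dvd_iff_forall_pow_eq_one]
  have key : ∀ (i : ℕ) (x : G), x ∈ Subgroup.upperCentralSeries G i → x ^ m ^ i = 1 := by
    intro i
    induction i with
    | zero =>
      intro x hx
      rw [Subgroup.upperCentralSeries_zero, Subgroup.mem_bot] at hx
      rw [hx, one_pow]
    | succ i ih =>
      intro x hx
      have h1 := ih _ (ucs_pow hZ i x hx)
      rw [← pow_mul] at h1
      rw [pow_succ']; exact h1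
  intro x
  exact key c x (by rw [hc]; trivial)

end CfsgLib.Fus21
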