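import Cfsg.Agent.LibFus21Bgh2

set_option autoImplicit false

/-! Small exponent control: the main induction. -/

namespace CfsgLib.Fus21

open Cfsg Cfsg.FusionSystem

variable {Ω : Type*} [Group Ω] {S : Subgroup Ω}

/-- a maximal small abelian subgroup of `P ∩ N`, normalized by `P` -/
theorem exists_max_small [Finite S] {p : ℕ} [hp : Fact p.Prime] (hS : IsPGroup p S) {P N : Subgroup Ω} (hPS : P ≤ S)
    (hPN : ∀ g ∈ P, ∀ x ∈ N, g * x * g⁻¹ ∈ N) :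
    ∃ A : Subgroup Ω, A ≤ P ∧ A ≤ N ∧ (∀ g ∈ P, ∀ a ∈ A, g * a * g⁻¹ ∈ A) ∧ (∀ a ∈ A, ∀ b ∈ A, a * b = b * a) ∧
      (∀ a ∈ A, SmallOrd p a) ∧ ∀ x ∈ P, x ∈ N → (∀ a ∈ A, a * x = x * a) → SmallOrd p x → x ∈ A := by
  haveI : Finite P := finite_of_le hPS
  let 𝓐 : Set (Subgroup P) := {A | A.Normal ∧ A ≤ N.subgroupOf P ∧ (∀ a ∈ A, ∀ b ∈ A, a * b = b * a) ∧ ∀ a ∈ A, SmallOrd p a}
  have hne : 𝓐.Nonempty := by
    refine ⟨⊥, inferInstance, bot_le, ?_, ?_⟩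
    · intro a ha b hb; rw [Subgroup.mem_bot.1 ha, Subgroup.mem_bot.1 hb]
    · intro a ha; rw [Subgroup.mem_bot.1 ha]; unfold SmallOrd; split_ifs <;> simp
  obtain ⟨A, ⟨hA1, hA2, hA3, hA4⟩, hmax⟩ := WellFounded.has_min (wellFounded_gt (α := Subgroup P)) 𝓐 hne
  have hNn : (N.subgroupOf P).Normal := ⟨fun n hn g => hPN g g.2 n hn⟩
  have key := alperin_small (hS.to_le hPS) hNn hA1 hA2 hA3 hA4 (fun B hB1 hB2 hB3 hB4 hB5 => by
    by_contra hBA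
    exact hmax B ⟨hB1, hB2, hB4, hB5⟩ (lt_of_le_not_ge hB3 hBA))
  have hso : ∀ x : P, SmallOrd p x ↔ SmallOrd p (x : Ω) := by
    intro x
    unfold SmallOrd
    split_ifs
    · exact ⟨fun h => congrArg Subtype.val h, fun h => Subtype.ext h⟩
    · exact ⟨fun h => congrArg Subtype.val h, fun h => Subtype.ext h⟩
  refine ⟨A.map P.subtype, Subgroup.map_subtype_le _, ?_, ?_, ?_, ?_, ?_⟩
  · rintro _ ⟨a, ha, rfl⟩; exact hA2 ha
  · rintro g hg _ ⟨a, ha, rfl⟩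
    exact ⟨⟨g, hg⟩ * a * (⟨g, hg⟩ : P)⁻¹, hA1.conj_mem a ha _, rfl⟩
  · rintro _ ⟨a, ha, rfl⟩ _ ⟨b, hb, rfl⟩
    exact congrArg Subtype.val (hA3 a ha b hb)
  · rintro _ ⟨a, ha, rfl⟩; exact (hso a).1 (hA4 a ha)
  · intro x hxP hxN hxc hxs
    exact ⟨⟨x, hxP⟩, key ⟨x, hxP⟩ hxN (fun a ha => Subtype.ext (hxc a ⟨a, ha, rfl⟩)) ((hso _).2 hxs), rfl⟩

/-- `p'`-automorphisms centralizing a maximal small abelian normal subgroup are trivial -/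
theorem fix_trivial [Finite S] {p : ℕ} [hp : Fact p.Prime] (hS : IsPGroup p S) {P N A : Subgroup Ω} (hPS : P ≤ S)
    (hAP : A ≤ P) (hAN : A ≤ N) (hAn : ∀ g ∈ P, ∀ a ∈ A, g * a * g⁻¹ ∈ A)
    (hmax : ∀ x ∈ P, x ∈ N → (∀ a ∈ A, a * x = x * a) → SmallOrd p x → x ∈ A)
    {β : MulAut P} {m : ℕ} (hm : m.Coprime p) (hβm : β ^ m = 1) (hβN : ∀ x : P, (x : Ω) ∈ N ↔ ((β x : P) : Ω) ∈ N)
    (hβN' : ∀ x : P, (x : Ω)⁻¹ * ((β x : P) : Ω) ∈ N) (hβA : ∀ x : P, (x : Ω) ∈ A → β x = x) : β = 1 := by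
  haveI : Finite P := finite_of_le hPS
  set C := P ⊓ N ⊓ Subgroup.centralizer (A : Set Ω) with hC
  have hCP : C ≤ P := inf_le_left.trans inf_le_left
  haveI : Finite C := finite_of_le (hCP.trans hPS)
  have hmemC : ∀ x : P, (x : Ω) ∈ C ↔ (x : Ω) ∈ N ∧ ∀ a ∈ A, a * x = x * a := by
    intro x
    rw [hC, Subgroup.mem_inf, Subgroup.mem_inf, Subgroup.mem_centralizer_iff]
    exact ⟨fun h => ⟨h.1.2, h.2⟩, fun h => ⟨⟨x.2, h.1⟩, h.2⟩⟩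
  have hβC : ∀ x : P, (x : Ω) ∈ C ↔ ((β x : P) : Ω) ∈ C := by
    intro x
    rw [hmemC, hmemC, hβN]
    refine and_congr_right fun _ => forall₂_congr fun a ha => ?_
    have e1 : β ⟨a, hAP ha⟩ = ⟨a, hAP ha⟩ := hβA _ ha
    constructor
    · intro h
      have h1 : (⟨a, hAP ha⟩ : P) * x = x * ⟨a, hAP ha⟩ := Subtype.ext h
      have h2 := congrArg β h1
      rw [map_mul, map_mul, e1] at h2
      exact congrArg Subtype.val h2
    · intro h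
      have h1 : (⟨a, hAP ha⟩ : P) * β x = β x * ⟨a, hAP ha⟩ := Subtype.ext h
      rw [← e1, ← map_mul, ← map_mul] at h1
      exact congrArg Subtype.val (β.injective h1)
  obtain ⟨κ, hκ⟩ := exists_restrict_aut hCP hβC
  have hκm : κ ^ m = 1 := by
    apply MulEquiv.ext
    intro x
    apply Subtype.ext
    have := pow_restrict_aut hCP (fun x hx => hκ ⟨x, hx⟩) m x x.2
    rw [hβm] at this
    exact this
  obtain ⟨D0, -, h2, h3⟩ := exists_small_char (hS.to_le (hCP.trans hPS))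
  have hκ1 : κ = 1 := by
    refine h3 κ m hm hκm fun x hx => ?_
    apply Subtype.ext
    rw [hκ]
    have hxs : SmallOrd p (x : Ω) := by
      have := h2 x hx
      unfold SmallOrd
      split_ifs at this ⊢
      · exact congrArg Subtype.val this
      · exact congrArg Subtype.val this
    have h5 := (hmemC ⟨x, hCP x.2⟩).1 x.2
    exact congrArg Subtype.val (hβA ⟨x, hCP x.2⟩ (hmax x (hCP x.2) h5.1 h5.2 hxs))
  have hfixC : ∀ x : P, (x : Ω) ∈ C → β x = x := by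
    intro x hx
    have := hκ ⟨x, hx⟩
    rw [hκ1] at this
    exact Subtype.ext this.symm
  obtain ⟨k, hk⟩ := pow_p_of_chain (hS.to_le hPS) (α := β) 3
    (fun i => if i = 0 then ⊥ else if i = 1 then C.subgroupOf P else if i = 2 then N.subgroupOf P else ⊤) (by simp) (by simp)
    (by
      refine monotone_nat_of_le_succ fun i => ?_
      rcases i with _ | _ | _ | i
      · simp
      · simp only [zero_add, one_ne_zero, if_false, if_true, Nat.reduceAdd, OfNat.ofNat_ne_zero, OfNat.ofNat_ne_one]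
        intro x hx
        exact ((hmemC x).1 hx).1
      · simp
      · simp)
    (by
      intro i hi x hx
      interval_cases i
      · simp only [zero_add, one_ne_zero, if_false, if_true] at hx ⊢
        rw [Subgroup.mem_bot, hfixC x hx, inv_mul_cancel]
      · simp only [Nat.reduceAdd, OfNat.ofNat_ne_zero, OfNat.ofNat_ne_one, if_false, if_true, one_ne_zero] at hx ⊢
        have hx' : (x : Ω) ∈ N := hx
        show ((x⁻¹ * β x : P) : Ω) ∈ C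
        rw [hmemC]
        refine ⟨hβN' x, fun a ha => ?_⟩
        have e1 : β ⟨a, hAP ha⟩ = ⟨a, hAP ha⟩ := hβA _ ha
        have h6 : β (x * ⟨a, hAP ha⟩ * x⁻¹) = x * ⟨a, hAP ha⟩ * x⁻¹ := hβA _ (hAn x x.2 a ha)
        rw [map_mul, map_mul, map_inv, e1] at h6
        have h7 : (x⁻¹ * β x) * ⟨a, hAP ha⟩ = ⟨a, hAP ha⟩ * (x⁻¹ * β x) := by
          have h8 : x⁻¹ * (β x * ⟨a, hAP ha⟩ * (β x)⁻¹) * β x = x⁻¹ * (x * ⟨a, hAP ha⟩ * x⁻¹) * β x := by rw [h6]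
          have h9 : x⁻¹ * (β x * ⟨a, hAP ha⟩ * (β x)⁻¹) * β x = (x⁻¹ * β x) * ⟨a, hAP ha⟩ := by group
          have h10 : x⁻¹ * (x * ⟨a, hAP ha⟩ * x⁻¹) * β x = ⟨a, hAP ha⟩ * (x⁻¹ * β x) := by group
          rw [← h9, h8, h10]
        exact (congrArg Subtype.val h7).symm
      · simp only [Nat.reduceAdd, OfNat.ofNat_ne_zero, OfNat.ofNat_ne_one, if_false, if_true]
        exact hβN' x)
  have h5 := orderOf_dvd_of_pow_eq_one hk
  have h6 := orderOf_dvd_of_pow_eq_one hβm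
  exact orderOf_eq_one_iff.1 (Nat.eq_one_of_dvd_coprimes (Nat.Coprime.pow_left k hm.symm) h5 h6)

/-- moving the problem to a normalizer subsystem -/
theorem bgh_step [Finite S] {p : ℕ} [hp : Fact p.Prime] (hS : IsPGroup p S) {E F : FusionSystem S} (hE : E.IsSaturated p)
    (hF : F.IsSaturated p) (hEF : E ≤ F) (hag : SmallAgree p E F) {P : Subgroup Ω} (hPS : P ≤ S) {α : MulAut P}
    (hα : α ∈ F.autGroup P) {A : Subgroup Ω} (hAP : A ≤ P) (hAh : A ≤ F.hyperfocalSubgroup p)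
    (hAn : ∀ g ∈ P, ∀ a ∈ A, g * a * g⁻¹ ∈ A) (hAc : ∀ a ∈ A, ∀ b ∈ A, a * b = b * a) (hAs : ∀ a ∈ A, SmallOrd p a) :
    ∃ (Q : Subgroup Ω) (hQS : Q ≤ S) (K : Subgroup (MulAut Q)), F.IsConj A Q ∧ F.IsFullyNormalized Q ∧
      E.IsFullyNormalized Q ∧ K ≤ autInducedBy S Q ∧
      ∀ (T : Subgroup Ω) (hT : T = nK S Q K), (∀ R, (nKSys F Q hQS K T hT).Hom R ⊆ (nKSys E Q hQS K T hT).Hom R) →
        α ∈ E.autGroup P := by
  haveI : Finite P := finite_of_le hPS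
  have hAS := hAP.trans hPS
  have hsc := CfsgLib.FT.hyp_stronglyClosed hS hF (CfsgLib.FT.hyp_normIn F p) CfsgLib.FT.hypLe_self
  obtain ⟨Q, hAQ, hQn⟩ := exists_fullyNormalized F hAS
  have hQS := hQn.1
  -- transfer of smallness
  have htr : ∀ {R : Subgroup Ω}, F.IsConj A R → R ≤ F.hyperfocalSubgroup p ∧ (∀ a ∈ R, ∀ b ∈ R, a * b = b * a) ∧ ∀ a ∈ R, SmallOrd p a := by
    rintro R ⟨φ, hφ, rfl⟩
    refine ⟨?_, ?_, ?_⟩
    · rintro _ ⟨x, rfl⟩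
      exact hsc.2 A hAh φ hφ x
    · rintro _ ⟨x, rfl⟩ _ ⟨y, rfl⟩
      rw [← map_mul, ← map_mul]; exact congrArg φ (Subtype.ext (hAc x x.2 y y.2))
    · rintro _ ⟨x, rfl⟩
      have h1 := hAs x x.2
      unfold SmallOrd at h1 ⊢
      split_ifs at h1 ⊢
      · rw [← map_pow, show x ^ 4 = 1 from Subtype.ext h1, map_one]
      · rw [← map_pow, show x ^ p = 1 from Subtype.ext h1, map_one]
  have hEsub : ∀ {R : Subgroup Ω}, F.IsConj A R → F.Hom R ⊆ E.Hom R := fun hR => hag _ (htr hR).1 (htr hR).2.1 (htr hR).2.2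
  have hQnE : E.IsFullyNormalized Q := by
    refine ⟨hQS, fun R hR => hQn.2 R ?_⟩
    obtain ⟨φ, hφ, hr⟩ := hR
    exact ⟨φ, hEF _ hφ, hr⟩
  -- the image of A under α
  obtain ⟨A', e0, he0, he0', hA'⟩ : ∃ (A' : Subgroup Ω) (e0 : A ≃* A'), e0 ∈ Iso F A A' ∧
      (∀ x : A, ((e0 x : A') : Ω) = α ⟨x, hAP x.2⟩) ∧ A' = himg (P.subtype.comp (α : P ≃* P).toMonoidHom) A := by
    obtain ⟨e0, he0, he0'⟩ := exists_iso_himg (φ := P.subtype.comp (α : P ≃* P).toMonoidHom) ((mem_autGroup hPS).1 hα) hAP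
    exact ⟨_, e0, he0, he0', rfl⟩
  have hAA' : F.IsConj A A' := isConj_iff.2 ⟨e0, he0⟩
  have hA'P : A' ≤ P := by
    rw [hA']
    rintro _ ⟨x, -, rfl⟩; exact (α x).2
  have hA'Q : E.IsConj A' Q := by
    obtain ⟨φ, hφ, hr⟩ := conj_trans (conj_symm hAA') hAQ
    exact ⟨φ, hEsub hAA' hφ, hr⟩
  have hQa := (sat_fn hS hE hQnE).2
  have hQr := sat_fn_receptive hS hE hQnE
  obtain ⟨ψ2, hψ2, e2, he2, h2, h2'⟩ := exists_map_normalizer hS hQa hQr hA'Q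
  -- P normalizes A'
  have hPA' : P ≤ normalizerIn S A' := by
    have key : ∀ g ∈ P, ∀ y ∈ A', g * y * g⁻¹ ∈ A' := by
      rw [hA']
      rintro g hg _ ⟨x, hx, rfl⟩
      have hx' : (x : Ω) ∈ A := hx
      obtain ⟨g', hg'⟩ := α.surjective ⟨g, hg⟩
      refine ⟨g' * x * g'⁻¹, hAn g' g'.2 x hx', ?_⟩
      show ((α (g' * x * g'⁻¹) : P) : Ω) = g * ((α x : P) : Ω) * g⁻¹
      rw [map_mul, map_mul, map_inv, hg']; rfl
    intro g hg
    refine Subgroup.mem_inf.2 ⟨hPS hg, ?_⟩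
    rw [Subgroup.mem_normalizer_iff]
    intro y
    refine ⟨key g hg y, fun h => ?_⟩
    have := key g⁻¹ (P.inv_mem hg) _ h
    have e : g⁻¹ * (g * y * g⁻¹) * g⁻¹⁻¹ = y := by group
    rwa [e] at this
  -- ε = ψ2 ∘ α
  have hψ2P : ψ2.comp (Subgroup.inclusion hPA') ∈ E.Hom P := restrict_mem hψ2 hPA'
  obtain ⟨P2, f2, hf2, hf2', hP2⟩ : ∃ (P2 : Subgroup Ω) (f2 : P ≃* P2), f2 ∈ Iso E P P2 ∧
      (∀ x : P, ((f2 x : P2) : Ω) = ψ2 (Subgroup.inclusion hPA' x)) ∧ P2 = (ψ2.comp (Subgroup.inclusion hPA')).range := by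
    obtain ⟨f2, hf2, hf2'⟩ := exists_iso hψ2P rfl
    exact ⟨_, f2, hf2, hf2', rfl⟩
  have hf2F : f2 ∈ Iso F P P2 := hEF _ hf2
  have hαI : (α : P ≃* P) ∈ Iso F P P := (mem_autGroup hPS).1 hα
  set ε : P ≃* P2 := (α : P ≃* P).trans f2 with hε
  have hεI : ε ∈ Iso F P P2 := iso_trans hαI hf2F
  -- the isomorphism e : A → Q
  set e : A ≃* Q := e0.trans e2 with he
  have heF : e ∈ Iso F A Q := iso_trans he0 (hEF _ he2)
  have heE : e ∈ Iso E A Q := hEsub (conj_refl F hAS) heF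
  have heε : ∀ x (hx : x ∈ A), ((ε ⟨x, hAP hx⟩ : P2) : Ω) = e ⟨x, hx⟩ := by
    intro x hx
    show ((f2 (α ⟨x, hAP hx⟩) : P2) : Ω) = ((e2 (e0 ⟨x, hx⟩) : Q) : Ω)
    rw [hf2']
    have h5 := h2 (e0 ⟨x, hx⟩) (hPA' (hA'P (e0 ⟨x, hx⟩).2))
    have h6 : ((e0 ⟨x, hx⟩ : A') : Ω) = ((α ⟨x, hAP hx⟩ : P) : Ω) := he0' ⟨x, hx⟩
    rw [← h5]
    show ψ2 _ = ψ2 _
    congr 1
    exact Subtype.ext h6.symm
  have hP2S : P2 ≤ S := iso_le_right hεI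
  have hQP2 : Q ≤ P2 := by
    intro q hq
    obtain ⟨a, ha⟩ := e.surjective ⟨q, hq⟩
    have := heε a a.2
    rw [show (⟨(a : Ω), a.2⟩ : A) = a from rfl, ha] at this
    have h7 : q = ((ε ⟨a, hAP a.2⟩ : P2) : Ω) := this.symm
    rw [h7]; exact (ε _).2
  have hP2N : P2 ≤ Subgroup.normalizer (Q : Set Ω) := by
    rw [hP2]
    rintro _ ⟨x, rfl⟩
    exact (h2' _).2
  set K := autInducedBy P2 Q with hK
  have hKS : K ≤ autInducedBy S Q := autInducedBy_mono hP2S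
  have hKp : IsPGroup p K := (isPGroup_autInducedBy hS Q).to_le hKS
  have hfknE : FKN E Q K := fkn_of_le (sat_fn hS hE hQnE).1 hKS
  refine ⟨Q, hQS, K, hAQ, hQn, hQnE, hKS, fun T hT hsub => ?_⟩
  -- δ
  obtain ⟨χ, ⟨-, hχK⟩, ψ, hψ, hψ'⟩ := fkn_extend hS hE hfknE heE
  have hPle : P ≤ A ⊔ nK S A (K.map (autTransport e.symm).toMonoidHom) := by
    intro g hg
    apply Subgroup.mem_sup_right
    obtain ⟨μ, hμ⟩ := exists_conjAut (P := Q) (hP2N (ε ⟨g, hg⟩).2)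
    have hμK : μ ∈ K := mem_autInducedBy.2 ⟨_, (ε ⟨g, hg⟩).2, hμ⟩
    refine ⟨hPS hg, autTransport e.symm μ, ⟨μ, hμK, rfl⟩, fun x => ?_⟩
    rw [autTransport_apply]
    -- e (result) = μ (e x)
    have hx' : g * (x : Ω) * g⁻¹ ∈ A := hAn g hg x x.2
    have h8 : e ⟨g * (x : Ω) * g⁻¹, hx'⟩ = μ (e x) := by
      apply Subtype.ext
      rw [hμ, ← heε _ hx']
      have h9 : (⟨g * (x : Ω) * g⁻¹, hAP hx'⟩ : P) = ⟨g, hg⟩ * ⟨x, hAP x.2⟩ * (⟨g, hg⟩ : P)⁻¹ := rfl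
      rw [h9, map_mul, map_mul, map_inv, Subgroup.coe_mul, Subgroup.coe_mul, Subgroup.coe_inv, heε x x.2]
    show ((e.symm (μ (e.symm.symm x)) : A) : Ω) = _
    rw [MulEquiv.symm_symm, ← h8, MulEquiv.symm_apply_apply]
  have hψP : ψ.comp (Subgroup.inclusion hPle) ∈ E.Hom P := restrict_mem hψ hPle
  obtain ⟨P1, δ, hδ, hδ'⟩ : ∃ (P1 : Subgroup Ω) (δ : P ≃* P1), δ ∈ Iso E P P1 ∧
      (∀ x : P, ((δ x : P1) : Ω) = ψ (Subgroup.inclusion hPle x)) := by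
    obtain ⟨δ, hδ, hδ'⟩ := exists_iso hψP rfl
    exact ⟨_, δ, hδ, hδ'⟩
  have hδA : ∀ x (hx : x ∈ A), ((δ ⟨x, hAP hx⟩ : P1) : Ω) = χ (e ⟨x, hx⟩) := by
    intro x hx
    rw [hδ']
    exact hψ' x hx _
  have hQP1 : Q ≤ P1 := by
    intro q hq
    obtain ⟨a, ha⟩ := e.surjective (χ⁻¹ ⟨q, hq⟩)
    have := hδA a a.2
    rw [show (⟨(a : Ω), a.2⟩ : A) = a from rfl, ha, MulAut.apply_inv_self] at this
    have h7 : q = ((δ ⟨a, hAP a.2⟩ : P1) : Ω) := this.symm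
    rw [h7]; exact (δ _).2
  -- γ
  set γ : P1 ≃* P2 := δ.symm.trans ε with hγ
  have hγF : γ ∈ Iso F P1 P2 := iso_trans (iso_symm (hEF _ hδ)) hεI
  have hγQ : ∀ q (hq : q ∈ Q), ((γ ⟨q, hQP1 hq⟩ : P2) : Ω) = ((χ⁻¹ ⟨q, hq⟩ : Q) : Ω) := by
    intro q hq
    obtain ⟨a, ha⟩ := e.surjective (χ⁻¹ ⟨q, hq⟩)
    have h10 := hδA a a.2
    rw [show (⟨(a : Ω), a.2⟩ : A) = a from rfl, ha, MulAut.apply_inv_self] at h10
    have h11 : (⟨q, hQP1 hq⟩ : P1) = δ ⟨a, hAP a.2⟩ := Subtype.ext h10.symm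
    show ((ε (δ.symm ⟨q, hQP1 hq⟩) : P2) : Ω) = _
    rw [h11, MulEquiv.symm_apply_apply, heε a a.2, show (⟨(a : Ω), a.2⟩ : A) = a from rfl, ha]
  have hP1T : P1 ≤ T := by
    rw [hT]
    intro y hy
    obtain ⟨x, hx⟩ := δ.surjective ⟨y, hy⟩
    refine ⟨iso_le_right hδ hy, ?_⟩
    -- conj by y on Q is χ ∘ c_{ε x} ∘ χ⁻¹
    obtain ⟨μ, hμ⟩ := exists_conjAut (P := Q) (hP2N (ε x).2)
    have hμK : μ ∈ K := mem_autInducedBy.2 ⟨_, (ε x).2, hμ⟩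
    refine ⟨χ * μ * χ⁻¹, K.mul_mem (K.mul_mem hχK hμK) (K.inv_mem hχK), fun q => ?_⟩
    obtain ⟨a, ha⟩ := e.surjective (χ⁻¹ q)
    have hx' : (x : Ω) * (a : Ω) * (x : Ω)⁻¹ ∈ A := hAn x x.2 a a.2
    have h8 : e ⟨(x : Ω) * (a : Ω) * (x : Ω)⁻¹, hx'⟩ = μ (e a) := by
      apply Subtype.ext
      rw [hμ, ← heε _ hx']
      have h9 : (⟨(x : Ω) * (a : Ω) * (x : Ω)⁻¹, hAP hx'⟩ : P) = x * ⟨a, hAP a.2⟩ * x⁻¹ := rfl
      rw [h9, map_mul, map_mul, map_inv, Subgroup.coe_mul, Subgroup.coe_mul, Subgroup.coe_inv, heε a a.2]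
    have h12 := hδA _ hx'
    rw [h8, ha] at h12
    rw [MulAut.mul_apply, MulAut.mul_apply, ← h12]
    have h9 : (⟨(x : Ω) * (a : Ω) * (x : Ω)⁻¹, hAP hx'⟩ : P) = x * ⟨a, hAP a.2⟩ * x⁻¹ := rfl
    rw [h9, map_mul, map_mul, map_inv, Subgroup.coe_mul, Subgroup.coe_mul, Subgroup.coe_inv, hδA a a.2, hx,
      show (⟨(a : Ω), a.2⟩ : A) = a from rfl, ha, MulAut.apply_inv_self]
  have hγ1 : P2.subtype.comp γ.toMonoidHom ∈ (nKSys F Q hQS K T hT).Hom P1 := by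
    refine mem_nKSys_of hP1T hγF le_rfl hQP1 (fun x hx => rfl) (κ := χ⁻¹) (K.inv_mem hχK) (fun x hx => ?_)
    exact hγQ x hx
  have hγE : γ ∈ Iso E P1 P2 := (hsub P1 hγ1).1
  have hεE : ε ∈ Iso E P P2 := by
    have h13 := iso_trans hδ hγE
    have h14 : δ.trans γ = ε := by
      ext x
      show ((ε (δ.symm (δ x)) : P2) : Ω) = _
      rw [MulEquiv.symm_apply_apply]
    rwa [h14] at h13
  have h15 := iso_trans hεE (iso_symm hf2)
  have h16 : ε.trans f2.symm = (α : P ≃* P) := by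
    ext x
    show ((f2.symm (f2 (α x)) : P) : Ω) = _
    rw [MulEquiv.symm_apply_apply]
  rw [h16] at h15
  exact (mem_autGroup hPS).2 h15

end CfsgLib.Fus21
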