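import Cfsg.Agent.LibFus21Bgh3

set_option autoImplicit false

/-! Small exponent control: the theorem. -/

namespace CfsgLib.Fus21

open Cfsg Cfsg.FusionSystem

variable {Ω : Type*} [Group Ω]

theorem bgh_main {p : ℕ} [hp : Fact p.Prime] : ∀ (n : ℕ) (S : Subgroup Ω) [Finite S] (_ : IsPGroup p S) (E F : FusionSystem S)
    (_ : E.IsSaturated p) (_ : F.IsSaturated p) (_ : E ≤ F) (_ : SmallAgree p E F) (_ : mm F = n), F ≤ E := by
  intro n
  induction n using Nat.strong_induction_on with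
  | _ n ih =>
  intro S hfin hS E F hE hF hEF hag hn
  refine alperin_ind hS hF E fun P hP hbig => ?_
  have hPS : P ≤ S := by
    rcases hP with rfl | hP
    · exact le_rfl
    · exact hP.1.1
  haveI : Finite P := finite_of_le hPS
  haveI := finite_autGroup F hPS
  intro α hα
  by_contra hαE
  have hsc := CfsgLib.FT.hyp_stronglyClosed hS hF (CfsgLib.FT.hyp_normIn F p) CfsgLib.FT.hypLe_self
  obtain ⟨A, hAP, hAh, hAn, hAc, hAs, hmax⟩ := exists_max_small hS hPS (N := F.hyperfocalSubgroup p)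
    (fun g hg x hx => (CfsgLib.FT.hyp_normIn F p).2 g (hPS hg) x hx)
  obtain ⟨Q, hQS, K, hAQ, hQn, hQnE, hK, hstep⟩ := bgh_step hS hE hF hEF hag hPS hα hAP hAh hAn hAc hAs
  -- Q is small
  have hQsm : Q ≤ F.hyperfocalSubgroup p ∧ (∀ a ∈ Q, ∀ b ∈ Q, a * b = b * a) ∧ ∀ a ∈ Q, SmallOrd p a := by
    obtain ⟨φ, hφ, rfl⟩ := hAQ
    refine ⟨?_, ?_, ?_⟩
    · rintro _ ⟨x, rfl⟩
      exact hsc.2 A hAh φ hφ x
    · rintro _ ⟨x, rfl⟩ _ ⟨y, rfl⟩
      rw [← map_mul, ← map_mul]; exact congrArg φ (Subtype.ext (hAc x x.2 y y.2))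
    · rintro _ ⟨x, rfl⟩
      have h1 := hAs x x.2
      unfold SmallOrd at h1 ⊢
      split_ifs at h1 ⊢
      · rw [← map_pow, show x ^ 4 = 1 from Subtype.ext h1, map_one]
      · rw [← map_pow, show x ^ p = 1 from Subtype.ext h1, map_one]
  have hKp : IsPGroup p K := (isPGroup_autInducedBy hS Q).to_le hK
  have hTS : nK S Q K ≤ S := nK_le _ _ _
  haveI : Finite (nK S Q K) := finite_of_le hTS
  have hag' := smallAgree_nKSys hS hag hQsm.1 hQsm.2.1 hQsm.2.2 hKp (hQ := hQS) (hT := rfl)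
  have hE1 := saturated_nKSys hS hE hQS (fkn_of_le (sat_fn hS hE hQnE).1 hK) rfl
  have hF1 := saturated_nKSys hS hF hQS (fkn_of_le (sat_fn hS hF hQn).1 hK) rfl
  by_cases hFF : ∀ R, F.Hom R ⊆ (nKSys F Q hQS K _ rfl).Hom R
  · -- A is normal in F and `p'`-elements centralize A
    have hext : ∀ (R : Subgroup Ω) (φ : R →* Ω) (hφ : φ ∈ F.Hom R), ∃ ψ ∈ F.Hom (R ⊔ Q),
        (∀ x : R, ψ (Subgroup.inclusion le_sup_left x) = φ x) ∧ ∃ κ ∈ K, ∀ x : Q, ψ (Subgroup.inclusion le_sup_right x) = ((κ x : Q) : Ω) :=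
      fun R φ hφ => (hFF R hφ).2.2.2
    have hQn : F.IsNormal Q := by
      refine ⟨hQS, fun R φ hφ => ?_⟩
      obtain ⟨ψ, hψ, h1, κ, -, h2⟩ := hext R φ hφ
      refine ⟨ψ, hψ, h1, ?_⟩
      exact (map_eq_iff_of_injective (inj hψ) le_sup_right).2 ⟨κ, h2⟩
    have hAQ' : A = Q := isConj_of_normal hQn (conj_symm hAQ)
    subst hAQ'
    have htriv : ∀ β ∈ F.autGroup P, ∀ m : ℕ, m.Coprime p → β ^ m = 1 → β = 1 := by
      intro β hβ m hm hβm
      refine fix_trivial hS hPS hAP hAh hAn hmax hm hβm (fun x => (stronglyClosed_aut hsc hPS hβ x).symm)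
        (hyp_mem hPS hβ hm hβm) ?_
      intro x hx
      obtain ⟨ψ, hψ, h1, κ, hκ, h2⟩ := hext P _ ((mem_autGroup hPS).1 hβ)
      have hκβ : ∀ y (hy : y ∈ A), ((κ ⟨y, hy⟩ : A) : Ω) = β ⟨y, hAP hy⟩ := by
        intro y hy
        have h3 := h2 ⟨y, hy⟩
        have h4 := h1 ⟨y, hAP hy⟩
        rw [show (Subgroup.inclusion le_sup_left ⟨y, hAP hy⟩ : ↥(P ⊔ A)) = Subgroup.inclusion le_sup_right ⟨y, hy⟩ from rfl] at h4
        rw [← h3, h4]; rfl
      have hκm : κ ^ m = 1 := by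
        apply MulEquiv.ext
        intro y
        apply Subtype.ext
        have := pow_restrict_aut hAP hκβ m y y.2
        rw [hβm] at this
        exact this
      obtain ⟨k, hk⟩ := hKp ⟨κ, hκ⟩
      have hk' : κ ^ p ^ k = 1 := congrArg Subtype.val hk
      have h5 := orderOf_dvd_of_pow_eq_one hk'
      have h6 := orderOf_dvd_of_pow_eq_one hκm
      have h7 : κ = 1 := orderOf_eq_one_iff.1 (Nat.eq_one_of_dvd_coprimes (Nat.Coprime.pow_left k hm.symm) h5 h6)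
      have h8 := hκβ x hx
      rw [h7] at h8
      exact Subtype.ext h8.symm
    have hpg : IsPGroup p (F.autGroup P) := by
      rintro ⟨β, hβ⟩
      obtain ⟨a, m, hm, hβm⟩ := exists_ppow (p := p) (⟨β, hβ⟩ : F.autGroup P)
      refine ⟨a, Subtype.ext ?_⟩
      exact htriv _ (Subgroup.pow_mem _ hβ _) m hm (congrArg Subtype.val hβm)
    rcases hP with rfl | hP
    · apply hαE
      rw [autGroup_S_eq_Inn hS hF hpg] at hα
      exact Inn_le_autGroup E hPS hα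
    · exact not_essential_of_pgroup hS hpg hP
  · have hlt : mm (nKSys F Q hQS K _ rfl) < mm F := mm_lt (nKSys_sub F Q hQS K _ rfl) hFF
    exact hαE (hstep _ rfl (ih _ (hn ▸ hlt) _ (hS.to_le hTS) _ _ hE1 hF1 (nKSys_mono hEF) hag' rfl))

theorem bgh_eq {p : ℕ} [hp : Fact p.Prime] {S : Subgroup Ω} [Finite S] (hS : IsPGroup p S) {E F : FusionSystem S}
    (hE : E.IsSaturated p) (hF : F.IsSaturated p) (hEF : E.IsSubsystemOf F)
    (hodd : p ≠ 2 → ∀ A B : Subgroup Ω, A ≤ (F.hyperfocalSubgroup p) → B ≤ (F.hyperfocalSubgroup p) →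
      Cfsg.IsElementaryAbelian p A → Cfsg.IsElementaryAbelian p B → E.homSet A B = F.homSet A B)
    (htwo : p = 2 → ∀ A B : Subgroup Ω, A ≤ (F.hyperfocalSubgroup p) → B ≤ (F.hyperfocalSubgroup p) →
      IsMulCommutative ↥A → IsMulCommutative ↥B → (∀ a ∈ A, a ^ 4 = 1) → (∀ b ∈ B, b ^ 4 = 1) → E.homSet A B = F.homSet A B)
    (P : Subgroup Ω) : E.Hom P = F.Hom P := by
  refine Set.Subset.antisymm (hEF P) (bgh_main _ S hS E F hE hF hEF ?_ rfl P)
  intro A hA hAc hAs φ hφ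
  have hsc := CfsgLib.FT.hyp_stronglyClosed hS hF (CfsgLib.FT.hyp_normIn F p) CfsgLib.FT.hypLe_self
  have hB : φ.range ≤ F.hyperfocalSubgroup p := by
    rintro _ ⟨x, rfl⟩
    exact hsc.2 A hA φ hφ x
  have hcA : IsMulCommutative A := ⟨⟨fun a b => Subtype.ext (hAc a a.2 b b.2)⟩⟩
  have hcB : IsMulCommutative φ.range := by
    refine ⟨⟨?_⟩⟩
    rintro ⟨_, x, rfl⟩ ⟨_, y, rfl⟩
    apply Subtype.ext
    show φ x * φ y = φ y * φ x
    rw [← map_mul, ← map_mul]; exact congrArg φ (Subtype.ext (hAc x x.2 y y.2))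
  have hφ' : φ ∈ F.homSet A φ.range := ⟨hφ, fun x => ⟨x, rfl⟩⟩
  by_cases hp2 : p = 2
  · have hAs' : ∀ a ∈ A, a ^ 4 = 1 := fun a ha => by
      have := hAs a ha
      unfold SmallOrd at this
      rwa [if_pos hp2] at this
    rw [← htwo hp2 A φ.range hA hB hcA hcB hAs' (by
      rintro _ ⟨x, rfl⟩
      rw [← map_pow, show x ^ 4 = 1 from Subtype.ext (hAs' x x.2), map_one])] at hφ'
    exact hφ'.1
  · have hAs' : ∀ a ∈ A, a ^ p = 1 := fun a ha => by
      have := hAs a ha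
      unfold SmallOrd at this
      rwa [if_neg hp2] at this
    rw [← hodd hp2 A φ.range hA hB ⟨hcA, hAs'⟩ ⟨hcB, by
      rintro _ ⟨x, rfl⟩
      rw [← map_pow, show x ^ p = 1 from Subtype.ext (hAs' x x.2), map_one]⟩] at hφ'
    exact hφ'.1

end CfsgLib.Fus21
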