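import Cfsg.Agent.LibFus21Cst
import Cfsg.Agent.LibFus21Nrm1

set_option autoImplicit false

/-! Constrained systems of subnormal subgroups and of components. -/

namespace CfsgLib.Fus21

open Cfsg Cfsg.FusionSystem

universe u

variable {G : Type u} [Group G]

theorem isCentral_bot' {Ω : Type*} [Group Ω] {S : Subgroup Ω} (F : FusionSystem S) : F.IsCentral ⊥ := isCentral_bot F

/-- the fusion system of a subgroup inside and outside -/
theorem sub_factor (S H : Subgroup G) :
    (fusionSystemOfSubgroup H (S ⊓ H) inf_le_right).IsFactorSystem ⊥ (Subgroup.inclusion (inf_le_right : S ⊓ H ≤ H))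
      (groupFusionSystem (S.subgroupOf H)) := by
  set θ := Subgroup.inclusion (inf_le_right : S ⊓ H ≤ H) with hθ
  have hθx : ∀ s : ↥(S ⊓ H), ((θ s : H) : G) = s := fun s => rfl
  refine ⟨bot_le, fun s => ?_, ?_, fun P' φ' => ?_⟩
  · rw [Subgroup.mem_bot]
    constructor
    · intro h
      have := congrArg Subtype.val h
      exact this
    · intro h
      exact Subtype.ext h
  · ext x
    constructor
    · rintro ⟨s, rfl⟩
      exact Subgroup.mem_subgroupOf.2 s.2.1
    · intro hx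
      exact ⟨⟨x, Subgroup.mem_subgroupOf.1 hx, x.2⟩, rfl⟩
  · have hPS := preimageAlong_le θ P'
    constructor
    · rintro ⟨hP', hφ', h, hh⟩
      refine ⟨hP', conjHom _ (h : G), ⟨hPS, fun x => ?_, h, h.2, fun x => rfl⟩, ?_⟩
      · have hx := (mem_preimageAlong.1 x.2).2
        have h1 := hφ' ⟨_, hx⟩
        rw [hh] at h1
        exact ⟨Subgroup.mem_subgroupOf.1 h1, H.mul_mem (H.mul_mem h.2 (hPS x.2).2) (H.inv_mem h.2)⟩
      · have hx : ∀ x (hx : x ∈ preimageAlong θ P'), (h : G) * x * (h : G)⁻¹ ∈ S ⊓ H := by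
          intro x hx
          have hx2 := (mem_preimageAlong.1 hx).2
          have h1 := hφ' ⟨_, hx2⟩
          rw [hh] at h1
          exact ⟨Subgroup.mem_subgroupOf.1 h1, H.mul_mem (H.mul_mem h.2 (hPS hx).2) (H.inv_mem h.2)⟩
        refine induced_mk hPS (fun x => hx x x.2) (fun x hx => (mem_preimageAlong.1 hx).2) (fun x hxP => ?_)
        rw [hh]
        rfl
    · rintro ⟨hP', φ, ⟨-, h2, h, hh, hφ⟩, hind⟩
      have hval : ∀ y (hy : y ∈ P'), φ' ⟨y, hy⟩ = ⟨h, hh⟩ * y * (⟨h, hh⟩ : H)⁻¹ := by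
        intro y hy
        have hyS : (y : G) ∈ S ⊓ H := ⟨Subgroup.mem_subgroupOf.1 (hP' hy), y.2⟩
        have hyP : (y : G) ∈ preimageAlong θ P' := mem_preimageAlong.2 ⟨hyS, hy⟩
        have h3 := induced_apply hind hyP hyS (h2 _) hy
        rw [show (⟨θ ⟨(y : G), hyS⟩, hy⟩ : P') = ⟨y, hy⟩ from rfl] at h3
        rw [h3]
        apply Subtype.ext
        show φ ⟨y, hyP⟩ = _
        rw [hφ]; rfl
      refine ⟨hP', fun y => ?_, ⟨h, hh⟩, fun y => hval y y.2⟩
      have hy := y.2
      have hyS : ((y : H) : G) ∈ S ⊓ H := ⟨Subgroup.mem_subgroupOf.1 (hP' hy), (y : H).2⟩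
      have hyP : ((y : H) : G) ∈ preimageAlong θ P' := mem_preimageAlong.2 ⟨hyS, hy⟩
      have h3 := induced_apply hind hyP hyS (h2 _) hy
      rw [show (⟨θ ⟨((y : H) : G), hyS⟩, hy⟩ : P') = y from rfl] at h3
      rw [h3]
      exact Subgroup.mem_subgroupOf.2 (h2 ⟨_, hyP⟩).1

theorem constrained_subnormal [Finite G] {p : ℕ} [hp : Fact p.Prime] (S : Sylow p G)
    (hF : (groupFusionSystem (S : Subgroup G)).IsConstrained p) {H : Subgroup G} (hH : H.IsSubnormal) :
    (fusionSystemOfSubgroup H ((S : Subgroup G) ⊓ H) inf_le_right).IsConstrained p ∧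
      ¬ p ∣ ((S : Subgroup G) ⊓ H).relIndex H := by
  induction hH with
  | top =>
    have key : ∀ (T : Subgroup G) (hT : T = (S : Subgroup G)) (h : T ≤ ⊤), (fusionSystemOfSubgroup ⊤ T h).IsConstrained p := by
      rintro T rfl h
      have e : fusionSystemOfSubgroup ⊤ (S : Subgroup G) h = groupFusionSystem (S : Subgroup G) := by
        refine fusionSystem_ext fun P => ?_
        ext φ
        constructor
        · rintro ⟨h1, h2, g, -, hg⟩; exact ⟨h1, h2, g, hg⟩
        · rintro ⟨h1, h2, g, hg⟩; exact ⟨h1, h2, g, Subgroup.mem_top _, hg⟩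
      rw [e]; exact hF
    refine ⟨key _ (inf_top_eq _) _, ?_⟩
    rw [inf_top_eq, Subgroup.relIndex_top_right]
    exact S.not_dvd_index
  | step H K hHK hK hN ih =>
    obtain ⟨ih1, ih2⟩ := ih
    have hconj : ∀ k ∈ K, ∀ h ∈ H, k * h * k⁻¹ ∈ H := by
      intro k hk h hh
      have := hN.conj_mem ⟨h, hHK hh⟩ (Subgroup.mem_subgroupOf.2 hh) ⟨k, hk⟩
      exact Subgroup.mem_subgroupOf.1 this
    have hi : ¬ p ∣ ((S : Subgroup G) ⊓ H).relIndex H := by
      have h1 := not_dvd_relIndex_inf (H := (S : Subgroup G) ⊓ K) (A := K) (K := H) inf_le_right hHK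
        (S.2.to_le inf_le_left) hconj ih2
      rwa [inf_assoc, inf_eq_right.2 hHK] at h1
    obtain ⟨Q, hQ⟩ := (exists_sylow_eq_iff (S.2.to_le (inf_le_left : (S : Subgroup G) ⊓ H ≤ S))).2 hi
    refine ⟨?_, hi⟩
    have hle : (S : Subgroup G) ⊓ H ≤ (S : Subgroup G) ⊓ K := inf_le_inf_left _ hHK
    haveI : Finite ↥((S : Subgroup G) ⊓ K) := inferInstance
    refine constrained_sub (S.2.to_le inf_le_left) ih1 (CfsgLib.FT.sub_saturated inf_le_right (Q := Q) hQ) ?_ ?_
    · rintro P φ ⟨h1, h2, g, hg, h3⟩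
      exact ⟨h1.trans hle, fun x => hle (h2 x), g, hHK hg, h3⟩
    · refine ⟨hle, fun R hR φ hφ x => ?_⟩
      obtain ⟨-, h2, g, hg, h3⟩ := hφ
      refine ⟨(h2 x).1, ?_⟩
      show φ x ∈ H
      rw [h3]
      exact hconj g hg _ (hR x.2).2

theorem constrained_subnormal' [Finite G] {p : ℕ} [hp : Fact p.Prime] (S : Sylow p G)
    (hF : (groupFusionSystem (S : Subgroup G)).IsConstrained p) {H : Subgroup G} (hH : H.IsSubnormal) :
    (groupFusionSystem ((S : Subgroup G).subgroupOf H)).IsConstrained p := by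
  haveI : Finite ↥((S : Subgroup G) ⊓ H) := inferInstance
  exact constrained_factor_central (S.2.to_le inf_le_left) (constrained_subnormal S hF hH).1 (isCentral_bot _)
    (sub_factor (S : Subgroup G) H)

theorem constrained_center_quot [Finite G] {p : ℕ} [hp : Fact p.Prime] (S : Sylow p G)
    (hF : (groupFusionSystem (S : Subgroup G)).IsConstrained p) :
    (groupFusionSystem ((S : Subgroup G).map (QuotientGroup.mk' (Subgroup.center G)))).IsConstrained p := by
  have hE := Cfsg.Agent.S5135.result p S (Subgroup.center G)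
  refine constrained_factor_central S.2 hF (Z := (S : Subgroup G) ⊓ Subgroup.center G) ?_ hE
  refine ⟨inf_le_left, fun P φ hφ => ?_⟩
  obtain ⟨hP, hφS, g, hg⟩ := hφ
  have hPZ : P ⊔ ((S : Subgroup G) ⊓ Subgroup.center G) ≤ S := sup_le hP inf_le_left
  refine ⟨conjHom _ g, ⟨hPZ, ?_, g, fun x => rfl⟩, fun x => (hg x).symm, fun x => ?_⟩
  · intro x
    have hmap : (P ⊔ ((S : Subgroup G) ⊓ Subgroup.center G)).map (MulAut.conj g).toMonoidHom ≤ S := by
      rw [Subgroup.map_sup]
      refine sup_le ?_ ?_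
      · rintro _ ⟨y, hy, rfl⟩
        have := hφS ⟨y, hy⟩
        rw [hg] at this
        exact this
      · rintro _ ⟨y, ⟨hyS, hyZ⟩, rfl⟩
        show g * y * g⁻¹ ∈ (S : Subgroup G)
        rw [Subgroup.mem_center_iff.1 hyZ g, mul_inv_cancel_right]
        exact hyS
    exact hmap ⟨x, x.2, rfl⟩
  · show g * (x : G) * g⁻¹ = x
    rw [Subgroup.mem_center_iff.1 x.2.2 g, mul_inv_cancel_right]

end CfsgLib.Fus21
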