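import Cfsg.Agent.LibFus21Slv2
import Cfsg.Agent.LibFus21Sx1
import Cfsg.Agent.LibFus21Hy3
import Cfsg.Agent.LibFus21NK4

set_option autoImplicit false

/-! Systems over a direct product of two strongly closed subgroups. -/

namespace CfsgLib.Fus21

open Cfsg Cfsg.FusionSystem
open scoped commutatorElement

universe v
variable {Ω : Type v} [Group Ω] {S S₁ S₂ : Subgroup Ω}

theorem idp_symm (h : Cfsg.IsInternalDirectProduct S₁ S₂ S) : Cfsg.IsInternalDirectProduct S₂ S₁ S :=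
  ⟨h.2.1, h.1, fun a ha b hb => (h.2.2.1 b hb a ha).symm, by rw [inf_comm]; exact h.2.2.2.1, by rw [sup_comm]; exact h.2.2.2.2⟩

theorem exists_proj (h : Cfsg.IsInternalDirectProduct S₁ S₂ S) :
    ∃ θ : S →* Ω, ∀ a b (_ : a ∈ S₁) (_ : b ∈ S₂) (hab : a * b ∈ S), θ ⟨a * b, hab⟩ = a := by
  obtain ⟨h1, h2, hc, hi, hs⟩ := h
  let μ : S₁ × S₂ →* S :=
    { toFun := fun x => ⟨(x.1 : Ω) * x.2, S.mul_mem (h1 x.1.2) (h2 x.2.2)⟩
      map_one' := Subtype.ext (by simp)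
      map_mul' := fun x y => Subtype.ext (by
        show (x.1 : Ω) * y.1 * (x.2 * y.2) = x.1 * x.2 * (y.1 * y.2)
        have := hc y.1 y.1.2 x.2 x.2.2
        calc (x.1 : Ω) * y.1 * (x.2 * y.2) = x.1 * (y.1 * x.2) * y.2 := by group
          _ = x.1 * (x.2 * y.1) * y.2 := by rw [this]
          _ = _ := by group) }
  have hμ : Function.Bijective μ := by
    constructor
    · rw [injective_iff_map_eq_one]
      rintro ⟨x, y⟩ hxy
      have h3 : (x : Ω) * y = 1 := congrArg Subtype.val hxy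
      have h4 : (x : Ω) = (y : Ω)⁻¹ := eq_inv_of_mul_eq_one_left h3
      have h5 : (x : Ω) ∈ S₁ ⊓ S₂ := ⟨x.2, by rw [h4]; exact S₂.inv_mem y.2⟩
      rw [hi, Subgroup.mem_bot] at h5
      rw [h5] at h4
      ext
      · exact h5
      · exact inv_eq_one.1 h4.symm
    · rintro ⟨x, hx⟩
      rw [← hs] at hx
      obtain ⟨a, ha, b, hb, rfl⟩ := mem_sup_comm hc hx
      exact ⟨(⟨a, ha⟩, ⟨b, hb⟩), rfl⟩
  let e := MulEquiv.ofBijective μ hμ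
  refine ⟨S₁.subtype.comp ((MonoidHom.fst S₁ S₂).comp e.symm.toMonoidHom), fun a b ha hb hab => ?_⟩
  have h3 : e.symm ⟨a * b, hab⟩ = (⟨a, ha⟩, ⟨b, hb⟩) := by
    rw [MulEquiv.symm_apply_eq]; rfl
  show ((e.symm ⟨a * b, hab⟩).1 : Ω) = a
  rw [h3]

/-- extension by the other factor -/
theorem prod_ext [Finite S] {p : ℕ} [hp : Fact p.Prime] (hS : IsPGroup p S) {F : FusionSystem S} (hF : F.IsSaturated p)
    (hprod : Cfsg.IsInternalDirectProduct S₁ S₂ S) (h₁ : F.StronglyClosed S₁) (h₂ : F.StronglyClosed S₂)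
    {P : Subgroup Ω} (hP : P ≤ S₁) {φ : P →* Ω} (hφ : φ ∈ F.Hom P) :
    ∃ ψ ∈ F.Hom (P ⊔ S₂), ∀ x (hx : x ∈ P), ψ ⟨x, Subgroup.mem_sup_left hx⟩ = φ ⟨x, hx⟩ := by
  obtain ⟨ψ, hψ, hv⟩ := exists_extension_mod hS hF h₂ hφ
  refine ⟨ψ, hψ, fun x hx => ?_⟩
  have h3 := hv x hx
  have h4 : φ ⟨x, hx⟩ ∈ S₁ := (stronglyClosed_mem_iff h₁ hφ _).2 (hP hx)
  have h5 : ψ ⟨x, Subgroup.mem_sup_left hx⟩ ∈ S₁ := (stronglyClosed_mem_iff h₁ hψ _).2 (hP hx)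
  have h6 : (φ ⟨x, hx⟩)⁻¹ * ψ ⟨x, Subgroup.mem_sup_left hx⟩ ∈ S₁ ⊓ S₂ := ⟨S₁.mul_mem (S₁.inv_mem h4) h5, h3⟩
  rw [hprod.2.2.2.1, Subgroup.mem_bot, inv_mul_eq_one] at h6
  exact h6.symm

theorem full_saturated [Finite S] {p : ℕ} [hp : Fact p.Prime] (hS : IsPGroup p S) {F : FusionSystem S} (hF : F.IsSaturated p)
    (hprod : Cfsg.IsInternalDirectProduct S₁ S₂ S) (h₁ : F.StronglyClosed S₁) (h₂ : F.StronglyClosed S₂)
    {R : FusionSystem S₁} (hR : ∀ P : Subgroup Ω, P ≤ S₁ → R.Hom P = F.Hom P) : R.IsSaturated p := by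
  obtain ⟨θ, hθ⟩ := exists_proj hprod
  have hdec : ∀ x ∈ S, ∃ a ∈ S₁, ∃ b ∈ S₂, x = a * b := fun x hx => by
    rw [← hprod.2.2.2.2] at hx
    exact mem_sup_comm hprod.2.2.1 hx
  have hθ1 : ∀ a (ha : a ∈ S₁), θ ⟨a, hprod.1 ha⟩ = a := fun a ha => by
    have h := hθ a 1 ha S₂.one_mem (by rw [mul_one]; exact hprod.1 ha)
    have e : (⟨a * 1, by rw [mul_one]; exact hprod.1 ha⟩ : S) = ⟨a, hprod.1 ha⟩ := Subtype.ext (mul_one a)
    rw [e] at h; exact h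
  have hfac : F.IsFactorSystem S₂ θ R := by
    refine ⟨hprod.2.1, fun s => ?_, ?_, fun P' φ' => ?_⟩
    · obtain ⟨a, ha, b, hb, hab⟩ := hdec s s.2
      have h3 : θ s = a := by
        have h := hθ a b ha hb (hab ▸ s.2)
        have e : (⟨a * b, hab ▸ s.2⟩ : S) = s := Subtype.ext hab.symm
        rw [e] at h; exact h
      rw [h3, hab]
      constructor
      · rintro rfl; rw [one_mul]; exact hb
      · intro h
        have h4 : a ∈ S₂ := by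
          have := S₂.mul_mem h (S₂.inv_mem hb)
          rwa [mul_inv_cancel_right] at this
        have h5 : a ∈ S₁ ⊓ S₂ := ⟨ha, h4⟩
        rwa [hprod.2.2.2.1, Subgroup.mem_bot] at h5
    · ext y
      constructor
      · rintro ⟨s, rfl⟩
        obtain ⟨a, ha, b, hb, hab⟩ := hdec s s.2
        have h := hθ a b ha hb (hab ▸ s.2)
        have e : (⟨a * b, hab ▸ s.2⟩ : S) = s := Subtype.ext hab.symm
        rw [e] at h; rw [h]; exact ha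
      · intro hy; exact ⟨⟨y, hprod.1 hy⟩, hθ1 y hy⟩
    · constructor
      · intro hφ'
        have hP' : P' ≤ S₁ := le_S hφ'
        rw [hR P' hP'] at hφ'
        obtain ⟨ψ, hψ, hv⟩ := prod_ext hS hF hprod h₁ h₂ hP' hφ'
        have hle : preimageAlong θ P' ≤ P' ⊔ S₂ := by
          intro x hx
          obtain ⟨hxS, h3⟩ := mem_preimageAlong.1 hx
          obtain ⟨a, ha, b, hb, rfl⟩ := hdec x hxS
          rw [hθ a b ha hb hxS] at h3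
          exact Subgroup.mul_mem _ (Subgroup.mem_sup_left h3) (Subgroup.mem_sup_right hb)
        refine ⟨hP', _, restrict_mem hψ hle, induced_mk (preimageAlong_le _ _) (fun x => mem_S hψ _) (fun x hx => (mem_preimageAlong.1 hx).2) fun x hx => ?_⟩
        obtain ⟨hxS, h3⟩ := mem_preimageAlong.1 hx
        obtain ⟨a, ha, b, hb, rfl⟩ := hdec x hxS
        have h3' := h3
        have e1 := hθ a b ha hb hxS
        rw [e1] at h3'
        have e2 : (⟨θ ⟨a * b, preimageAlong_le _ _ hx⟩, (mem_preimageAlong.1 hx).2⟩ : P') = ⟨a, h3'⟩ := Subtype.ext e1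
        rw [e2, ← hv a h3']
        have hb' : ψ ⟨b, Subgroup.mem_sup_right hb⟩ ∈ S₂ := (stronglyClosed_mem_iff h₂ hψ _).2 hb
        have ha' : ψ ⟨a, Subgroup.mem_sup_left h3'⟩ ∈ S₁ := (stronglyClosed_mem_iff h₁ hψ _).2 (hP' h3')
        have e3 : ψ ⟨a * b, hle hx⟩ = ψ ⟨a, Subgroup.mem_sup_left h3'⟩ * ψ ⟨b, Subgroup.mem_sup_right hb⟩ := by
          rw [← map_mul]; rfl
        have e4 := hθ _ _ ha' hb' (e3 ▸ mem_S hψ _)
        rw [← e4]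
        congr 1
        exact Subtype.ext e3.symm
      · rintro ⟨hP', φ, hφ, hind⟩
        rw [hR P' hP']
        have hle : P' ≤ preimageAlong θ P' := fun x hx => mem_preimageAlong.2 ⟨hprod.1 (hP' hx), by rw [hθ1 x (hP' hx)]; exact hx⟩
        refine restrict_mem' hφ hle fun x => ?_
        have hxS := hprod.1 (hP' x.2)
        have e1 := hθ1 x (hP' x.2)
        have hmem : θ ⟨x, hxS⟩ ∈ P' := by rw [e1]; exact x.2
        have h3 := induced_apply hind (hle x.2) hxS (mem_S hφ _) hmem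
        have e2 : (⟨θ ⟨x, hxS⟩, hmem⟩ : P') = x := Subtype.ext e1
        rw [e2] at h3
        rw [h3]
        have h4 : φ ⟨x, hle x.2⟩ ∈ S₁ := (stronglyClosed_mem_iff h₁ hφ _).2 (hP' x.2)
        exact hθ1 _ h4
  exact saturated_of_surjective hS hF (factor_surjective hS hF h₂ hfac)

/-- automorphisms of a factor extend -/
theorem aut_ext [Finite S] {p : ℕ} [hp : Fact p.Prime] (hS : IsPGroup p S) {F : FusionSystem S} (hF : F.IsSaturated p)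
    (hprod : Cfsg.IsInternalDirectProduct S₁ S₂ S) (h₁ : F.StronglyClosed S₁) (h₂ : F.StronglyClosed S₂)
    {α : MulAut S₁} (hα : α ∈ F.autGroup S₁) : ∃ β ∈ F.autGroup S, ∀ x (hx : x ∈ S₁), ((β ⟨x, hprod.1 hx⟩ : S) : Ω) = α ⟨x, hx⟩ := by
  obtain ⟨ψ, hψ, hv⟩ := prod_ext hS hF hprod h₁ h₂ le_rfl ((mem_autGroup hprod.1).1 hα)
  have hle : S ≤ S₁ ⊔ S₂ := hprod.2.2.2.2.ge
  obtain ⟨β, hβ, hβv⟩ := exists_aut_of_hom (restrict_mem hψ hle) (fun x => mem_S hψ _)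
  exact ⟨β, hβ, fun x hx => (hβv _).trans (hv x hx)⟩

theorem cent_saturated [Finite S] {p : ℕ} [hp : Fact p.Prime] (hS : IsPGroup p S) {F : FusionSystem S} (hF : F.IsSaturated p)
    (hprod : Cfsg.IsInternalDirectProduct S₁ S₂ S) (h₁ : F.StronglyClosed S₁) (h₂ : F.StronglyClosed S₂)
    {R' : FusionSystem S₁} (hR' : ∀ P : Subgroup Ω, P ≤ S₁ → R'.Hom P = F.centralizerHom S₂ P) : R'.IsSaturated p := by
  have hfn : F.IsFullyNormalized S₂ := fn_of_normalized h₂.1 (stronglyClosed_normal_S h₂)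
  have hfc := (sat_fn hS hF hfn).1
  have hCs := centSys_saturated hS hF hfc
  have hCis := centSys_is F S₂ hfc.1
  set C := centSys F S₂ hfc.1 with hC
  haveI : Finite (centralizerIn S S₂) := finite_of_le (centralizerIn_le S S₂)
  have hCp : IsPGroup p (centralizerIn S S₂) := hS.to_le (centralizerIn_le S S₂)
  have hS₁C : S₁ ≤ centralizerIn S S₂ := fun a ha => mem_centralizerIn'.2 ⟨hprod.1 ha, fun b hb => by
    rw [hprod.2.2.1 a ha b hb, mul_inv_cancel_right]⟩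
  have hsubC : ∀ P, C.Hom P ⊆ F.Hom P := fun P φ hφ => by rw [hCis P] at hφ; exact hφ.1
  have hprod' : Cfsg.IsInternalDirectProduct S₁ (S₂ ⊓ centralizerIn S S₂) (centralizerIn S S₂) := by
    refine ⟨hS₁C, inf_le_right, fun a ha b hb => hprod.2.2.1 a ha b hb.1, ?_, le_antisymm (sup_le hS₁C inf_le_right) ?_⟩
    · rw [eq_bot_iff, ← hprod.2.2.2.1]
      exact inf_le_inf_left _ inf_le_left
    · intro x hx
      have hxS := (centralizerIn_le S S₂) hx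
      rw [← hprod.2.2.2.2] at hxS
      obtain ⟨a, ha, b, hb, rfl⟩ := mem_sup_comm hprod.2.2.1 hxS
      refine Subgroup.mul_mem _ (Subgroup.mem_sup_left ha) (Subgroup.mem_sup_right ⟨hb, ?_⟩)
      have : b = a⁻¹ * (a * b) := by group
      rw [this]
      exact Subgroup.mul_mem _ (Subgroup.inv_mem _ (hS₁C ha)) hx
  have h₁' : C.StronglyClosed S₁ := ⟨hS₁C, fun P hP φ hφ x => h₁.2 P hP φ (hsubC P hφ) x⟩
  have h₂' : C.StronglyClosed (S₂ ⊓ centralizerIn S S₂) :=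
    ⟨inf_le_right, fun P hP φ hφ x => ⟨h₂.2 P (hP.trans inf_le_left) φ (hsubC P hφ) x, mem_S hφ x⟩⟩
  refine full_saturated hCp hCs hprod' h₁' h₂' (R := R') fun P hP => ?_
  rw [hR' P hP, hCis P]

theorem sub_of_le {R : FusionSystem S₁} {F : FusionSystem S} (h : ∀ P ≤ S₁, R.Hom P ⊆ F.Hom P) : R.IsSubsystemOf F :=
  fun P φ hφ => h P (le_S hφ) hφ

theorem dp_data [Finite S] {p : ℕ} [hp : Fact p.Prime] (hS : IsPGroup p S) {F : FusionSystem S} (hF : F.IsSaturated p)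
    (hprod : Cfsg.IsInternalDirectProduct S₁ S₂ S) (h₁ : F.StronglyClosed S₁) (h₂ : F.StronglyClosed S₂) {R R' : FusionSystem S₁}
    (hR : ∀ P : Subgroup Ω, P ≤ S₁ → R.Hom P = F.Hom P)
    (hR' : ∀ P : Subgroup Ω, P ≤ S₁ → R'.Hom P = F.centralizerHom S₂ P) :
    R.IsSaturated p ∧ R'.IsSaturated p ∧ R'.IsNormalIn F p ∧ R'.IsNormalIn R p ∧ R.IsWeaklyNormalIn F p := by
  have hRs := full_saturated hS hF hprod h₁ h₂ hR
  have hRs' := cent_saturated hS hF hprod h₁ h₂ hR'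
  haveI : Finite S₁ := finite_of_le hprod.1
  have hS₁C : S₁ ≤ centralizerIn S S₂ := fun a ha => mem_centralizerIn'.2 ⟨hprod.1 ha, fun b hb => by
    rw [hprod.2.2.1 a ha b hb, mul_inv_cancel_right]⟩
  have haut : ∀ α : MulAut S₁, α ∈ R.autGroup S₁ ↔ α ∈ F.autGroup S₁ := fun α => by
    rw [mem_autGroup le_rfl, mem_autGroup hprod.1]
    show _ ∈ R.Hom S₁ ↔ _
    rw [hR S₁ le_rfl]; rfl
  have hsub' : R'.IsSubsystemOf F := sub_of_le fun P hP φ hφ => by rw [hR' P hP] at hφ; exact hφ.1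
  have hsubR : R.IsSubsystemOf F := sub_of_le fun P hP φ hφ => by rw [hR P hP] at hφ; exact hφ
  have hsub'' : R'.IsSubsystemOf R := sub_of_le fun P hP φ hφ => by rw [hR P hP]; exact hsub' P hφ
  -- invariance
  have hinv' : ∀ (P : Subgroup Ω) (hPT : P ≤ S₁) (φ : P →* Ω), φ ∈ R'.Hom P → ∀ α ∈ F.autGroup S₁,
      ∃ χ ∈ R'.Hom ((P.subgroupOf S₁).map (S₁.subtype.comp α.toMonoidHom)),
        ∀ (x : P) (hφx : φ x ∈ S₁)
          (hαx : ((α ⟨x, hPT x.2⟩ : S₁) : Ω) ∈ (P.subgroupOf S₁).map (S₁.subtype.comp α.toMonoidHom)),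
          χ ⟨(α ⟨x, hPT x.2⟩ : S₁), hαx⟩ = ((α ⟨φ x, hφx⟩ : S₁) : Ω) := by
    intro P hP φ hφ α hα
    obtain ⟨β, hβ, hβv⟩ := aut_ext hS hF hprod h₁ h₂ hα
    rw [hR' P hP] at hφ
    obtain ⟨hφF, -, hφC, ψ, hψ, hψ1, hψ2⟩ := hφ
    set P' := (P.subgroupOf S₁).map (S₁.subtype.comp α.toMonoidHom) with hP'
    have hP'S : P' ≤ S₁ := amap_le α P
    have hP'm : ∀ y ∈ P', ∃ x, ∃ hx : x ∈ P, ((β ⟨x, hprod.1 (hP hx)⟩ : S) : Ω) = y := by
      intro y hy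
      obtain ⟨x, hx, rfl⟩ := (mem_amap (α := α) (K := P)).1 hy
      exact ⟨x, hx, hβv x x.2⟩
    have hβF := (mem_autGroup le_rfl).1 hβ
    have hβF' := (mem_autGroup le_rfl).1 (Subgroup.inv_mem _ hβ)
    have hβ2 : ∀ γ ∈ F.autGroup S, ∀ y (hy : y ∈ S₂), ((γ ⟨y, hprod.2.1 hy⟩ : S) : Ω) ∈ S₂ := fun γ hγ y hy =>
      (stronglyClosed_aut h₂ le_rfl hγ ⟨y, hprod.2.1 hy⟩).2 hy
    have hsupS : P' ⊔ S₂ ≤ S := sup_le (hP'S.trans hprod.1) hprod.2.1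
    have hmaps : ∀ y (hy : y ∈ P' ⊔ S₂), (((β⁻¹ : MulAut S) ⟨y, hsupS hy⟩ : S) : Ω) ∈ P ⊔ S₂ := by
      intro y hy
      have hle : P' ⊔ S₂ ≤ ((P ⊔ S₂).subgroupOf S).map (S.subtype.comp β.toMonoidHom) := by
        refine sup_le (fun y hy => ?_) fun y hy => ?_
        · obtain ⟨x, hx, rfl⟩ := hP'm y hy
          exact ⟨⟨x, hprod.1 (hP hx)⟩, Subgroup.mem_sup_left hx, rfl⟩
        · refine ⟨(β⁻¹ : MulAut S) ⟨y, hprod.2.1 hy⟩, Subgroup.mem_sup_right (hβ2 _ (Subgroup.inv_mem _ hβ) y hy), ?_⟩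
          show ((β ((β⁻¹ : MulAut S) ⟨y, hprod.2.1 hy⟩) : S) : Ω) = y
          rw [MulAut.apply_inv_self]
      obtain ⟨z, hz, hzy⟩ := hle hy
      have e : (⟨y, hsupS hy⟩ : S) = β z := Subtype.ext hzy.symm
      rw [e, MulAut.inv_apply_self]; exact hz
    have h3 := F.comp_mem (restrict_mem hβF' hsupS) hψ (fun y => hmaps y y.2)
    have h4 := F.comp_mem h3 hβF (fun y => mem_S hψ _)
    set ψ' := (S.subtype.comp β.toMonoidHom).comp (MonoidHom.codRestrict (ψ.comp (MonoidHom.codRestrict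
      ((S.subtype.comp (β⁻¹ : MulAut S).toMonoidHom).comp (Subgroup.inclusion hsupS)) (P ⊔ S₂) fun y => hmaps y y.2)) S fun y => mem_S hψ _) with hψ'
    have hψ'v : ∀ y (hy : y ∈ P' ⊔ S₂), ψ' ⟨y, hy⟩ = β ⟨ψ ⟨_, hmaps y hy⟩, mem_S hψ _⟩ := fun y hy => rfl
    have hval : ∀ x (hx : x ∈ P) (h : ((α ⟨x, hP hx⟩ : S₁) : Ω) ∈ P') (hφx : φ ⟨x, hx⟩ ∈ S₁),
        ψ' ⟨(α ⟨x, hP hx⟩ : S₁), Subgroup.mem_sup_left h⟩ = ((α ⟨φ ⟨x, hx⟩, hφx⟩ : S₁) : Ω) := by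
      intro x hx h hφx
      rw [hψ'v, ← hβv _ hφx]
      have e1 : (⟨(((β⁻¹ : MulAut S) ⟨(α ⟨x, hP hx⟩ : S₁), hsupS (Subgroup.mem_sup_left h)⟩ : S) : Ω), hmaps _ (Subgroup.mem_sup_left h)⟩ : ↥(P ⊔ S₂)) =
          ⟨x, Subgroup.mem_sup_left hx⟩ := by
        apply Subtype.ext
        show (((β⁻¹ : MulAut S) ⟨(α ⟨x, hP hx⟩ : S₁), hsupS (Subgroup.mem_sup_left h)⟩ : S) : Ω) = x
        have e2 : (⟨(α ⟨x, hP hx⟩ : S₁), hsupS (Subgroup.mem_sup_left h)⟩ : S) = β ⟨x, hprod.1 (hP hx)⟩ := Subtype.ext (hβv x (hP hx)).symm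
        rw [e2, MulAut.inv_apply_self]
      have e3 : (⟨ψ ⟨_, hmaps _ (Subgroup.mem_sup_left h)⟩, mem_S hψ _⟩ : S) = ⟨φ ⟨x, hx⟩, hprod.1 hφx⟩ := by
        apply Subtype.ext
        show ψ ⟨_, hmaps _ (Subgroup.mem_sup_left h)⟩ = φ ⟨x, hx⟩
        rw [e1]; exact hψ1 ⟨x, hx⟩
      rw [e3]
    have hφ1 : ∀ x : P, φ x ∈ S₁ := fun x => (stronglyClosed_mem_iff h₁ hφF x).2 (hP x.2)
    refine ⟨ψ'.comp (Subgroup.inclusion le_sup_left), ?_, fun x hφx hαx => hval x x.2 hαx hφx⟩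
    rw [hR' P' hP'S]
    have h5 := restrict_mem h4 (le_sup_left : P' ≤ P' ⊔ S₂)
    refine ⟨h5, hP'S.trans hS₁C, fun y => hS₁C ((stronglyClosed_mem_iff h₁ h5 y).2 (hP'S y.2)), ψ', h4, fun y => rfl, fun y => ?_⟩
    show ψ' ⟨y, _⟩ = y
    rw [hψ'v]
    have h6 := hβ2 _ (Subgroup.inv_mem _ hβ) y y.2
    have e3 : (⟨ψ ⟨_, hmaps y (Subgroup.mem_sup_right y.2)⟩, mem_S hψ _⟩ : S) = (β⁻¹ : MulAut S) ⟨y, hprod.2.1 y.2⟩ := by
      apply Subtype.ext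
      exact hψ2 ⟨_, h6⟩
    rw [e3, MulAut.apply_inv_self]
  -- Frattini
  have hfrat : ∀ (P : Subgroup Ω), P ≤ S₁ → ∀ (φ : P →* Ω), φ ∈ F.Hom P →
      ∃ α ∈ F.autGroup S₁, ∃ φ₀ ∈ R'.Hom P, ∀ (x : P) (hx : φ₀ x ∈ S₁), φ x = ((α ⟨φ₀ x, hx⟩ : S₁) : Ω) := by
    intro P hP φ hφ
    obtain ⟨ψ, hψ, hv⟩ := prod_ext hS hF hprod h₁ h₂ hP hφ
    have hψ₂ : ∀ y : S₂, (ψ.comp (Subgroup.inclusion (le_sup_right : S₂ ≤ P ⊔ S₂))) y ∈ S₂ := fun y => (stronglyClosed_mem_iff h₂ hψ _).2 y.2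
    obtain ⟨γ, hγ, hγv⟩ := exists_aut_of_hom (restrict_mem hψ (le_sup_right : S₂ ≤ P ⊔ S₂)) hψ₂
    obtain ⟨β, hβ, hβv⟩ := aut_ext hS hF (idp_symm hprod) h₂ h₁ hγ
    have hβF' := (mem_autGroup le_rfl).1 (Subgroup.inv_mem _ hβ)
    have h3 := F.comp_mem hψ hβF' (fun y => mem_S hψ _)
    set ψ' := (S.subtype.comp (β⁻¹ : MulAut S).toMonoidHom).comp (MonoidHom.codRestrict ψ S fun y => mem_S hψ _) with hψ'
    have hψ'v : ∀ y, ψ' y = (β⁻¹ : MulAut S) ⟨ψ y, mem_S hψ _⟩ := fun y => rfl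
    have h5 := restrict_mem h3 (le_sup_left : P ≤ P ⊔ S₂)
    have hβ1 : ∀ γ ∈ F.autGroup S, ∀ y (hy : y ∈ S₁), ((γ ⟨y, hprod.1 hy⟩ : S) : Ω) ∈ S₁ := fun γ hγ y hy =>
      (stronglyClosed_aut h₁ le_rfl hγ ⟨y, hprod.1 hy⟩).2 hy
    obtain ⟨α, hα, hαv⟩ := exists_aut_of_hom (restrict_mem ((mem_autGroup le_rfl).1 hβ) hprod.1) (fun y => hβ1 β hβ y y.2)
    refine ⟨α, hα, ψ'.comp (Subgroup.inclusion le_sup_left), ?_, fun x hx => ?_⟩
    · rw [hR' P hP]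
      refine ⟨h5, hP.trans hS₁C, fun y => hS₁C ((stronglyClosed_mem_iff h₁ h5 y).2 (hP y.2)), ψ', h3, fun y => rfl, fun y => ?_⟩
      show ψ' ⟨y, _⟩ = y
      rw [hψ'v]
      have e3 : (⟨ψ ⟨y, Subgroup.mem_sup_right y.2⟩, mem_S hψ _⟩ : S) = β ⟨y, hprod.2.1 y.2⟩ := by
        apply Subtype.ext
        rw [hβv y y.2]
        exact (hγv y).symm
      have e4 : (β⁻¹ : MulAut S) ⟨ψ ⟨y, Subgroup.mem_sup_right y.2⟩, mem_S hψ _⟩ = ⟨y, hprod.2.1 y.2⟩ := by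
        rw [e3, MulAut.inv_apply_self]
      exact congrArg Subtype.val e4
    · rw [hαv]
      have e5 : (⟨ψ' ⟨x, Subgroup.mem_sup_left x.2⟩, mem_S h3 _⟩ : S) = (β⁻¹ : MulAut S) ⟨ψ ⟨x, Subgroup.mem_sup_left x.2⟩, mem_S hψ _⟩ := rfl
      show φ x = β ⟨ψ' ⟨x, Subgroup.mem_sup_left x.2⟩, _⟩
      rw [← hv x x.2]
      have e6 : β ⟨ψ' ⟨x, Subgroup.mem_sup_left x.2⟩, mem_S h3 _⟩ = ⟨ψ ⟨x, Subgroup.mem_sup_left x.2⟩, mem_S hψ _⟩ := by
        rw [e5, MulAut.apply_inv_self]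
      exact (congrArg Subtype.val e6).symm
  refine ⟨hRs, hRs', ⟨⟨hRs', hF, hsub', h₁, hinv', hfrat⟩, ?_⟩, ⟨⟨hRs', hRs, hsub'', ⟨le_rfl, fun _ _ _ hφ x => mem_S hφ x⟩, ?_, ?_⟩, ?_⟩,
    hRs, hF, hsubR, h₁, ?_, ?_⟩
  · -- extension condition in F
    intro α hα
    have h3 := (mem_autGroup le_rfl).1 hα
    have h3' : S₁.subtype.comp α.toMonoidHom ∈ R'.Hom S₁ := h3
    rw [hR' S₁ le_rfl] at h3'
    obtain ⟨-, -, -, ψ, hψ, hψ1, hψ2⟩ := h3'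
    have hUS : S₁ ⊔ centralizerIn S S₁ ≤ S₁ ⊔ S₂ := by
      rw [hprod.2.2.2.2]; exact sup_le hprod.1 (centralizerIn_le S S₁)
    have hS₂C : S₂ ≤ centralizerIn S S₁ := fun b hb => mem_centralizerIn'.2 ⟨hprod.2.1 hb, fun a ha => by
      rw [← hprod.2.2.1 a ha b hb, mul_inv_cancel_right]⟩
    have hmaps : ∀ x : ↥(S₁ ⊔ centralizerIn S S₁), (ψ.comp (Subgroup.inclusion hUS)) x ∈ S₁ ⊔ centralizerIn S S₁ := fun x => by
      have h4 : ψ (Subgroup.inclusion hUS x) ∈ S₁ ⊔ S₂ := hprod.2.2.2.2.ge (mem_S hψ _)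
      exact (sup_le_sup_left hS₂C S₁) h4
    obtain ⟨β, hβ, hβv⟩ := exists_aut_of_hom (restrict_mem hψ hUS) hmaps
    refine ⟨β, hβ, fun x => (hβv _).trans (hψ1 x), fun c hc => ?_⟩
    rw [hβv]
    have hcS : (c : Ω) ∈ S₁ ⊔ S₂ := hUS c.2
    obtain ⟨a, ha, b, hb, hab⟩ := mem_sup_comm hprod.2.2.1 hcS
    have haC : ∀ x ∈ S₁, a * x = x * a := by
      intro x hx
      have h4 := (mem_centralizerIn'.1 hc).2 x hx
      have h5 := hprod.2.2.1 x hx b hb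
      rw [hab] at h4
      calc a * x = a * (x * b) * b⁻¹ := by group
        _ = a * (b * x) * b⁻¹ := by rw [h5]
        _ = (a * b * x * (a * b)⁻¹) * a := by group
        _ = x * a := by rw [h4]
    have e1 : (ψ.comp (Subgroup.inclusion hUS)) c = (α ⟨a, ha⟩ : S₁) * b := by
      have e2 : Subgroup.inclusion hUS c = Subgroup.inclusion le_sup_left (⟨a, ha⟩ : S₁) * Subgroup.inclusion le_sup_right (⟨b, hb⟩ : S₂) := Subtype.ext hab
      show ψ (Subgroup.inclusion hUS c) = _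
      rw [e2, map_mul, hψ1, hψ2]; rfl
    have e3 : (c : Ω)⁻¹ * (ψ.comp (Subgroup.inclusion hUS)) c = a⁻¹ * (α ⟨a, ha⟩ : S₁) := by
      rw [e1, hab]
      have h6 : a⁻¹ * ((α ⟨a, ha⟩ : S₁) : Ω) ∈ S₁ := S₁.mul_mem (S₁.inv_mem ha) (α ⟨a, ha⟩).2
      have h7 := hprod.2.2.1 _ h6 b hb
      calc (a * b)⁻¹ * ((α ⟨a, ha⟩ : S₁) * b) = b⁻¹ * (a⁻¹ * (α ⟨a, ha⟩ : S₁) * b) := by group
        _ = b⁻¹ * (b * (a⁻¹ * (α ⟨a, ha⟩ : S₁))) := by rw [h7]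
        _ = _ := by group
    rw [e3]
    have haz : (⟨a, ha⟩ : S₁) ∈ Subgroup.center S₁ := Subgroup.mem_center_iff.2 fun x => Subtype.ext (haC x x.2).symm
    have hαz : α ⟨a, ha⟩ ∈ Subgroup.center S₁ := by
      have := Subgroup.characteristic_iff_comap_eq.1 (inferInstance : (Subgroup.center S₁).Characteristic) α
      have h8 : (⟨a, ha⟩ : S₁) ∈ (Subgroup.center S₁).comap α.toMonoidHom := by rw [this]; exact haz
      exact h8
    have h9 := (Subgroup.center S₁).mul_mem ((Subgroup.center S₁).inv_mem haz) hαz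
    refine ⟨((⟨a, ha⟩ : S₁)⁻¹ * α ⟨a, ha⟩).2, ?_⟩
    show a⁻¹ * ((α ⟨a, ha⟩ : S₁) : Ω) ∈ Subgroup.centralizer (S₁ : Set Ω)
    rw [Subgroup.mem_centralizer_iff]
    intro x hx
    exact congrArg Subtype.val (Subgroup.mem_center_iff.1 h9 ⟨x, hx⟩)
  · intro P hP φ hφ α hα
    exact hinv' P hP φ hφ α ((haut α).1 hα)
  · intro P hP φ hφ
    rw [hR P hP] at hφ
    obtain ⟨α, hα, h⟩ := hfrat P hP φ hφ
    exact ⟨α, (haut α).2 hα, h⟩
  · intro α hα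
    have h3 : S₁.subtype.comp α.toMonoidHom ∈ R'.Hom S₁ := (mem_autGroup le_rfl).1 hα
    have h4 : S₁.subtype.comp α.toMonoidHom ∈ R.Hom S₁ := hsub'' _ h3
    have hU : S₁ ⊔ centralizerIn S₁ S₁ ≤ S₁ := sup_le le_rfl (centralizerIn_le S₁ S₁)
    obtain ⟨β, hβ, hβv⟩ := exists_aut_of_hom (restrict_mem h4 hU) (fun x => Subgroup.mem_sup_left (α ⟨x, hU x.2⟩).2)
    refine ⟨β, hβ, fun x => (hβv _).trans rfl, fun c hc => ?_⟩
    rw [hβv]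
    have haz : (⟨c, hU c.2⟩ : S₁) ∈ Subgroup.center S₁ := Subgroup.mem_center_iff.2 fun x => Subtype.ext (by
      have h5 := (mem_centralizerIn'.1 hc).2 x x.2
      rw [mul_inv_eq_iff_eq_mul] at h5
      exact h5.symm)
    have hαz : α ⟨c, hU c.2⟩ ∈ Subgroup.center S₁ := by
      have := Subgroup.characteristic_iff_comap_eq.1 (inferInstance : (Subgroup.center S₁).Characteristic) α
      have h8 : (⟨c, hU c.2⟩ : S₁) ∈ (Subgroup.center S₁).comap α.toMonoidHom := by rw [this]; exact haz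
      exact h8
    have h9 := (Subgroup.center S₁).mul_mem ((Subgroup.center S₁).inv_mem haz) hαz
    refine ⟨((⟨c, hU c.2⟩ : S₁)⁻¹ * α ⟨c, hU c.2⟩).2, ?_⟩
    show (c : Ω)⁻¹ * ((α ⟨c, hU c.2⟩ : S₁) : Ω) ∈ Subgroup.centralizer (S₁ : Set Ω)
    rw [Subgroup.mem_centralizer_iff]
    intro x hx
    exact congrArg Subtype.val (Subgroup.mem_center_iff.1 h9 ⟨x, hx⟩)
  · -- invariance of R
    intro P hP φ hφ α hα
    rw [hR P hP] at hφ
    set P' := (P.subgroupOf S₁).map (S₁.subtype.comp α.toMonoidHom) with hP'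
    have hP'S : P' ≤ S₁ := amap_le α P
    have hαF := (mem_autGroup hprod.1).1 hα
    have hαF' := (mem_autGroup hprod.1).1 (Subgroup.inv_mem _ hα)
    have hmaps : ∀ y (hy : y ∈ P'), (((α⁻¹ : MulAut S₁) ⟨y, hP'S hy⟩ : S₁) : Ω) ∈ P := by
      intro y hy
      obtain ⟨x, hx, hxy⟩ := (mem_amap (α := α) (K := P)).1 hy
      have e : (⟨y, hP'S hy⟩ : S₁) = α x := Subtype.ext hxy.symm
      rw [e, MulAut.inv_apply_self]; exact hx
    have hφ1 : ∀ x : P, φ x ∈ S₁ := fun x => (stronglyClosed_mem_iff h₁ hφ x).2 (hP x.2)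
    have h3 := F.comp_mem (restrict_mem hαF' hP'S) hφ (fun y => hmaps y y.2)
    have h4 := F.comp_mem h3 hαF (fun y => hφ1 _)
    refine ⟨_, by rw [hR P' hP'S]; exact h4, fun x hφx hαx => ?_⟩
    have e1 : (⟨(((α⁻¹ : MulAut S₁) ⟨(α ⟨x, hP x.2⟩ : S₁), hP'S hαx⟩ : S₁) : Ω), hmaps _ hαx⟩ : P) = x := by
      apply Subtype.ext
      show (((α⁻¹ : MulAut S₁) ⟨(α ⟨x, hP x.2⟩ : S₁), hP'S hαx⟩ : S₁) : Ω) = x
      have e2 : (⟨(α ⟨x, hP x.2⟩ : S₁), hP'S hαx⟩ : S₁) = α ⟨x, hP x.2⟩ := rfl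
      rw [e2, MulAut.inv_apply_self]
    show ((α ⟨φ ⟨(((α⁻¹ : MulAut S₁) ⟨(α ⟨x, hP x.2⟩ : S₁), hP'S hαx⟩ : S₁) : Ω), hmaps _ hαx⟩, _⟩ : S₁) : Ω) = _
    congr 2
    exact Subtype.ext (congrArg φ e1)
  · intro P hP φ hφ
    refine ⟨1, Subgroup.one_mem _, φ, by rw [hR P hP]; exact hφ, fun x hx => rfl⟩

end CfsgLib.Fus21
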