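import Cfsg.Agent.LibFus21Mc1
import Cfsg.Agent.LibFus21Det

set_option autoImplicit false

/-! Automorphisms of dihedral and quaternion groups of order at least 16. -/

namespace CfsgLib.Fus21

open Cfsg Cfsg.FusionSystem

/-- `2`-groups with a large characteristic cyclic subgroup -/
theorem two_aut {R : Type*} [Group R] [Finite R] (hR : IsPGroup 2 R) {c : R} (ho : 4 < orderOf c)
    (hout : ∀ x, x ∉ Subgroup.zpowers c → orderOf x ≤ 4) (hidx : ∀ x y, x ∉ Subgroup.zpowers c → y ∉ Subgroup.zpowers c →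
      x⁻¹ * y ∈ Subgroup.zpowers c) : IsPGroup 2 (MulAut R) := by
  haveI : Fact (Nat.Prime 2) := ⟨Nat.prime_two⟩
  intro α
  obtain ⟨a, m, hm, hβm⟩ := exists_ppow (p := 2) α
  refine ⟨a, ?_⟩
  set β := α ^ 2 ^ a with hβ
  have hmodd : Odd m := by
    rw [Nat.coprime_comm] at hm
    exact (Nat.coprime_two_left).1 hm
  have hpres : ∀ γ : MulAut R, ∀ x ∈ Subgroup.zpowers c, γ x ∈ Subgroup.zpowers c := by
    intro γ x hx
    obtain ⟨k, rfl⟩ := Subgroup.mem_zpowers_iff.1 hx
    rw [map_zpow]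
    refine Subgroup.zpow_mem _ ?_ k
    by_contra hc
    have h1 := hout _ hc
    have h2 : orderOf (γ c) = orderOf c := orderOf_injective γ.toMonoidHom γ.injective c
    omega
  have hiff : ∀ γ : MulAut R, ∀ x, γ x ∈ Subgroup.zpowers c ↔ x ∈ Subgroup.zpowers c := by
    intro γ x
    refine ⟨fun h => ?_, hpres γ x⟩
    have := hpres γ⁻¹ _ h
    rwa [MulAut.inv_apply_self] at this
  have hmap : (Subgroup.zpowers c).map β.toMonoidHom = Subgroup.zpowers c := by
    ext y
    constructor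
    · rintro ⟨x, hx, rfl⟩; exact hpres β x hx
    · intro hy
      exact ⟨β⁻¹ y, hpres _ y hy, MulAut.apply_inv_self _ _ _⟩
  have hβc : β c = c := odd_aut_cyclic hR hmodd hβm hmap rfl
  obtain ⟨k, hk⟩ := pow_p_of_two_chain (p := 2) hR (α := β) (Subgroup.zpowers c)
    (fun x hx => by
      obtain ⟨j, rfl⟩ := Subgroup.mem_zpowers_iff.1 hx
      rw [map_zpow, hβc])
    (fun x => by
      by_cases hx : x ∈ Subgroup.zpowers c
      · exact Subgroup.mul_mem _ (Subgroup.inv_mem _ hx) (hpres β x hx)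
      · exact hidx x _ hx (fun h => hx ((hiff β x).1 h)))
  have h5 := orderOf_dvd_of_pow_eq_one hk
  have h6 := orderOf_dvd_of_pow_eq_one hβm
  exact orderOf_eq_one_iff.1 (Nat.eq_one_of_dvd_coprimes (Nat.Coprime.pow_left k hm.symm) h5 h6)

theorem two_aut_dihedral (k : ℕ) (hk : 3 ≤ k) : IsPGroup 2 (MulAut (DihedralGroup (2 ^ k))) := by
  haveI : NeZero (2 ^ k) := ⟨by positivity⟩
  have h8 : 8 ≤ 2 ^ k := by
    calc 8 = 2 ^ 3 := rfl
      _ ≤ 2 ^ k := Nat.pow_le_pow_right (by norm_num) hk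
  have hR : IsPGroup 2 (DihedralGroup (2 ^ k)) := by
    haveI : Fact (Nat.Prime 2) := ⟨Nat.prime_two⟩
    exact IsPGroup.of_card (n := k + 1) (by rw [DihedralGroup.nat_card, pow_succ]; ring)
  have hmem : ∀ i : ZMod (2 ^ k), DihedralGroup.r i ∈ Subgroup.zpowers (DihedralGroup.r 1 : DihedralGroup (2 ^ k)) := by
    intro i
    refine Subgroup.mem_zpowers_iff.2 ⟨(i.val : ℤ), ?_⟩
    rw [zpow_natCast, DihedralGroup.r_one_pow, ZMod.natCast_zmod_val]
  refine two_aut hR (c := DihedralGroup.r 1) ?_ ?_ ?_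
  · rw [DihedralGroup.orderOf_r_one]; omega
  · intro x hx
    cases x with
    | r i => exact absurd (hmem i) hx
    | sr i => rw [DihedralGroup.orderOf_sr]; norm_num
  · intro x y hx hy
    cases x with
    | r i => exact absurd (hmem i) hx
    | sr i =>
      cases y with
      | r j => exact absurd (hmem j) hy
      | sr j => rw [DihedralGroup.inv_sr, DihedralGroup.sr_mul_sr]; exact hmem _

theorem two_aut_quaternion (k : ℕ) (hk : 2 ≤ k) : IsPGroup 2 (MulAut (QuaternionGroup (2 ^ k))) := by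
  haveI : NeZero (2 ^ k) := ⟨by positivity⟩
  haveI : NeZero (2 * 2 ^ k) := ⟨by positivity⟩
  have h8 : 4 ≤ 2 ^ k := by
    calc 4 = 2 ^ 2 := rfl
      _ ≤ 2 ^ k := Nat.pow_le_pow_right (by norm_num) hk
  have hR : IsPGroup 2 (QuaternionGroup (2 ^ k)) := by
    haveI : Fact (Nat.Prime 2) := ⟨Nat.prime_two⟩
    exact IsPGroup.of_card (n := k + 2) (by rw [Nat.card_eq_fintype_card, QuaternionGroup.card, pow_add]; ring)
  have hmem : ∀ i : ZMod (2 * 2 ^ k), QuaternionGroup.a i ∈ Subgroup.zpowers (QuaternionGroup.a 1 : QuaternionGroup (2 ^ k)) := by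
    intro i
    refine Subgroup.mem_zpowers_iff.2 ⟨(i.val : ℤ), ?_⟩
    rw [zpow_natCast, QuaternionGroup.a_one_pow, ZMod.natCast_zmod_val]
  refine two_aut hR (c := QuaternionGroup.a 1) ?_ ?_ ?_
  · rw [QuaternionGroup.orderOf_a_one]; omega
  · intro x hx
    cases x with
    | a i => exact absurd (hmem i) hx
    | xa i => rw [QuaternionGroup.orderOf_xa]
  · intro x y hx hy
    cases x with
    | a i => exact absurd (hmem i) hx
    | xa i =>
      cases y with
      | a j => exact absurd (hmem j) hy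
      | xa j =>
        have : (QuaternionGroup.xa i)⁻¹ * QuaternionGroup.xa j ∈ Subgroup.zpowers (QuaternionGroup.a 1 : QuaternionGroup (2 ^ k)) := by
          have e : (QuaternionGroup.xa i : QuaternionGroup (2 ^ k))⁻¹ * QuaternionGroup.xa j =
            (QuaternionGroup.xa i * QuaternionGroup.xa i)⁻¹ * (QuaternionGroup.xa i * QuaternionGroup.xa j) := by group
          rw [e, QuaternionGroup.xa_mul_xa, QuaternionGroup.xa_mul_xa]
          exact Subgroup.mul_mem _ (Subgroup.inv_mem _ (hmem _)) (hmem _)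
        exact this

theorem aut_of_equiv {A B : Type*} [Group A] [Group B] (e : A ≃* B) (h : IsPGroup 2 (MulAut B)) : IsPGroup 2 (MulAut A) :=
  h.of_equiv (MulAut.congr e).symm

end CfsgLib.Fus21
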