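import Cfsg.Agent.LibFus21PC
import Cfsg.Agent.LibFus21Tv3
import Cfsg.Agent.LibFus21Det
import Cfsg.Agent.LibExtraH28
import Cfsg.Agent.LibLE10

set_option autoImplicit false

/-! Essential subgroups of rank two. -/

namespace CfsgLib.Fus21

open Cfsg Cfsg.FusionSystem

theorem frattini_top' {X : Type*} [Group X] : (frattini (⊤ : Subgroup X)).map (⊤ : Subgroup X).subtype = frattini X := by
  have h := OrderIso.map_radical ((Subgroup.topEquiv : (⊤ : Subgroup X) ≃* X).mapSubgroup)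
  exact h

variable {Ω : Type*} [Group Ω] {S : Subgroup Ω}

/-- essential subgroups of rank at most two -/
theorem ess2 [Finite S] {p : ℕ} [hp : Fact p.Prime] (hS : IsPGroup p S) {F : FusionSystem S} (hF : F.IsSaturated p)
    {H : Subgroup Ω} (hH : F.IsEssential p H) (hrk : (frattini H).index ≤ p ^ 2) :
    (frattini H).index = p ^ 2 ∧
    (∀ D1 : Subgroup H, frattini H ≤ D1 → (∀ α ∈ F.autGroup H, ∀ x ∈ D1, α x ∈ D1) → D1 = frattini H ∨ D1 = ⊤) ∧
    (∀ α ∈ F.autGroup H, (∀ x, x⁻¹ * α x ∈ frattini H) → α ∈ Inn H) ∧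
    ∃ τ ∈ F.autGroup H, (∃ t ∈ S, t ∉ H ∧ ∀ x : H, ((τ x : H) : Ω) = t * x * t⁻¹) ∧ τ ∉ Inn H ∧
      ∃ C : Subgroup H, frattini H ≤ C ∧ C.index = p ∧ (∀ x ∈ C, x⁻¹ * τ x ∈ frattini H) ∧ ∀ x, x⁻¹ * τ x ∈ C := by
  have hHS := hH.1.1
  haveI : Finite H := finite_of_le hHS
  have hpH : IsPGroup p H := hS.to_le hHS
  have hlt := essential_lt hS hF hH
  obtain ⟨t, htS, htN, htH⟩ : ∃ t ∈ S, t ∈ Subgroup.normalizer (H : Set Ω) ∧ t ∉ H := by
    by_contra hno
    push Not at hno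
    exact hlt.not_ge (le_of_normalizer_le hS hHS le_rfl (hHS.trans Subgroup.le_normalizer) hno)
  obtain ⟨τ, hτ⟩ := exists_conjAut htN
  have hτT : τ ∈ autInducedBy S H := mem_autInducedBy.2 ⟨t, htS, hτ⟩
  have hτA : τ ∈ F.autGroup H := autInducedBy_le_autGroup F hHS hτT
  have hτI : τ ∉ Inn H := fun h => htH (mem_of_conjAut_inner hH.1 htS hτ h)
  have hrk' : (frattini (⊤ : Subgroup H)).index ≤ p ^ 2 := by
    have h1 : (frattini (⊤ : Subgroup H)).index = (frattini H).index := by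
      conv_rhs => rw [← frattini_top' (X := H)]
      rw [Subgroup.index_map, Subgroup.ker_subtype, Subgroup.range_subtype, Subgroup.index_top, mul_one, sup_bot_eq]
    rw [h1]; exact hrk
  obtain ⟨D0, hD0, h1, h2, h3, h4, ⟨C, hC1, hC2, hC3, hC4, hC5, hC6⟩, h6⟩ := abs_config hpH (A := F.autGroup H) (R0 := ⊤) (I := Inn H)
    (fun _ _ _ _ => trivial) (essential_hrad hS hH) (τ := ⟨τ, hτA⟩) (by
      obtain ⟨k, hk⟩ := isPGroup_autInducedBy hS H ⟨τ, hτT⟩
      have hk' : τ ^ p ^ k = 1 := congrArg Subtype.val hk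
      exact ⟨k, Subtype.ext hk'⟩) (fun _ => trivial) hτI hrk'
  rw [frattini_top'] at hD0
  subst hD0
  rw [Subgroup.relIndex_top_right] at h1 hC3
  refine ⟨h1, fun D1 hD hinv => h4 D1 hD le_top (fun α x hx => hinv α α.2 x hx), fun α hα h => h3 ⟨α, hα⟩ (fun _ => trivial) (fun x _ => h x),
    τ, hτA, ⟨t, htS, htH, hτ⟩, hτI, C, hC1, hC3, hC5, fun x => hC6 x trivial⟩

/-- a characteristic-type criterion -/
theorem ess2_char [Finite S] {p : ℕ} [hp : Fact p.Prime] (hS : IsPGroup p S) {F : FusionSystem S} (hF : F.IsSaturated p)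
    {H : Subgroup Ω} (hH : F.IsEssential p H) (hrk : (frattini H).index ≤ p ^ 2) {D : Subgroup H}
    (hD : ∀ α : MulAut H, ∀ x ∈ D, α x ∈ D) (hΦ : frattini H ≤ D) : D = frattini H ∨ D = ⊤ :=
  (ess2 hS hF hH hrk).2.1 D hΦ fun α _ x hx => hD α x hx

theorem frattini_ne_top_of [Finite S] {p : ℕ} [hp : Fact p.Prime] {H : Subgroup Ω} (h : (frattini H).index = p ^ 2) : frattini H ≠ ⊤ := by
  intro h1
  rw [h1, Subgroup.index_top] at h
  have := hp.out.one_lt
  have : 1 < p ^ 2 := Nat.one_lt_pow (by norm_num) this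
  omega

/-- the subgroup of `p^k`-torsion of a commutative group -/
def torB {H : Type*} [Group H] (hc : ∀ x y : H, x * y = y * x) (m : ℕ) : Subgroup H where
  carrier := {x | x ^ m = 1}
  one_mem' := one_pow m
  mul_mem' := by
    intro x y hx hy
    show (x * y) ^ m = 1
    rw [(show Commute x y from hc x y).mul_pow, show x ^ m = 1 from hx, show y ^ m = 1 from hy, one_mul]
  inv_mem' := by
    intro x hx
    show x⁻¹ ^ m = 1
    rw [inv_pow, show x ^ m = 1 from hx, inv_one]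

theorem mem_torB {H : Type*} [Group H] {hc : ∀ x y : H, x * y = y * x} {m : ℕ} {x : H} : x ∈ torB hc m ↔ x ^ m = 1 := Iff.rfl

/-- the subgroup of `m`-th powers -/
def powB {H : Type*} [Group H] (hc : ∀ x y : H, x * y = y * x) (m : ℕ) : Subgroup H where
  carrier := {x | ∃ y, y ^ m = x}
  one_mem' := ⟨1, one_pow m⟩
  mul_mem' := by
    rintro _ _ ⟨x, rfl⟩ ⟨y, rfl⟩
    exact ⟨x * y, (show Commute x y from hc x y).mul_pow m⟩
  inv_mem' := by
    rintro _ ⟨x, rfl⟩
    exact ⟨x⁻¹, inv_pow x m⟩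

theorem card_tor_pow {H : Type*} [Group H] [Finite H] (hc : ∀ x y : H, x * y = y * x) (m : ℕ) :
    Nat.card (torB hc m) * Nat.card (powB hc m) = Nat.card H := by
  let f : H →* H :=
    { toFun := fun x => x ^ m
      map_one' := one_pow m
      map_mul' := fun x y => (show Commute x y from hc x y).mul_pow m }
  have h1 : f.ker = torB hc m := rfl
  have h2 : f.range = powB hc m := rfl
  rw [← h1, ← h2, ← Subgroup.index_ker, Subgroup.card_mul_index]

theorem frattini_eq_pow {H : Type*} [Group H] [Finite H] {p : ℕ} [hp : Fact p.Prime] (hH : IsPGroup p H) (hc : ∀ x y : H, x * y = y * x) :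
    frattini H = powB hc p := by
  apply le_antisymm
  · haveI : (powB hc p).Normal := ⟨fun x hx g => by rw [hc g x, mul_inv_cancel_right]; exact hx⟩
    exact CfsgLib.ExtraH28.frattini_le_of_elem (p := p) (powB hc p) (fun x => ⟨x, rfl⟩) (fun x y => by
      rw [hc x y]; simpa using Subgroup.one_mem _)
  · rintro _ ⟨x, rfl⟩
    exact CfsgLib.LE.pow_mem_frattini hH x

end CfsgLib.Fus21
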