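import Cfsg.Agent.LibFrob6

set_option autoImplicit false

/-! Frobenius groups of order 72 with quaternion complement (seat helper22). -/

namespace Cfsg.Agent.H22

open scoped Pointwise

/-- recognising `Q₈` -/
theorem q8_equiv {H : Type*} [Group H] [Finite H] (hH : Nat.card H = 8) (t : H) (ht : t ≠ 1) (htt : t * t = 1)
    (h2 : ∀ x : H, x ≠ 1 → x ≠ t → x * x = t) : Nonempty (H ≃* QuaternionGroup 2) := by
  classical
  haveI : Fintype H := Fintype.ofFinite H
  rw [Nat.card_eq_fintype_card] at hH
  obtain ⟨X, hX⟩ : ∃ X : H, X ∉ ({1, t} : Finset H) := by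
    by_contra h
    push Not at h
    have h1 := Finset.card_le_card (fun y _ => h y : (Finset.univ : Finset H) ⊆ {1, t})
    have h3 : ({1, t} : Finset H).card ≤ 2 := Finset.card_le_two
    rw [Finset.card_univ] at h1
    omega
  obtain ⟨Y, hY⟩ : ∃ Y : H, Y ∉ ({1, X, t, X * t} : Finset H) := by
    by_contra h
    push Not at h
    have h1 := Finset.card_le_card (fun y _ => h y : (Finset.univ : Finset H) ⊆ {1, X, t, X * t})
    have h3 : ({1, X, t, X * t} : Finset H).card ≤ 4 := Finset.card_le_four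
    rw [Finset.card_univ] at h1
    omega
  simp only [Finset.mem_insert, Finset.mem_singleton, not_or] at hX hY
  obtain ⟨hX1, hXt⟩ := hX
  obtain ⟨hY1, hYX, hYt, hYXt⟩ := hY
  have hc : ∀ x : H, x * t = t * x := by
    intro x
    by_cases h1 : x = 1
    · rw [h1, one_mul, mul_one]
    by_cases h3 : x = t
    · rw [h3]
    rw [← h2 x h1 h3, mul_assoc]
  have hXX := h2 X hX1 hXt
  have hYY := h2 Y hY1 hYt
  have hXi : X⁻¹ = X * t := by
    rw [inv_eq_iff_mul_eq_one, ← mul_assoc, hXX, htt]
  have hXY := h2 (X * Y) (by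
    intro h
    apply hYXt
    rw [← hXi]
    exact (inv_eq_of_mul_eq_one_right h).symm) (by
    intro h
    apply hYX
    have : Y = X⁻¹ * t := by rw [← h]; group
    rw [this, hXi, mul_assoc, htt, mul_one])
  have hYi : Y⁻¹ = Y * t := by
    rw [inv_eq_iff_mul_eq_one, ← mul_assoc, hYY, htt]
  have hcom : X * Y = Y * X⁻¹ := by
    have h4 : Y * X = X⁻¹ * t * Y⁻¹ := by rw [← hXY]; group
    have h5 : X * Y = Y * X * t := by
      rw [h4, hXi, hYi]
      have e1 : X * t * t = X := by rw [mul_assoc, htt, mul_one]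
      rw [e1]
      have e2 : X * (Y * t) * t = X * Y := by rw [mul_assoc, mul_assoc, htt, mul_one]
      rw [e2]
    rw [h5, hXi, mul_assoc]
  have hX4 : X ^ 4 = 1 := by
    have : X ^ 4 = (X * X) * (X * X) := by simp only [pow_succ, pow_zero, one_mul, mul_assoc]
    rw [this, hXX, htt]
  obtain ⟨P, hP⟩ : ∃ P : ZMod 4 → H, ∀ i, P i = X ^ i.val := ⟨_, fun i => rfl⟩
  have hPadd : ∀ i j, P (i + j) = P i * P j := by
    intro i j
    rw [hP, hP, hP, ← pow_add, ZMod.val_add, ← pow_eq_pow_mod _ hX4]
  have hP0 : P 0 = 1 := by rw [hP]; simp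
  have hPneg : ∀ i, P (-i) = (P i)⁻¹ := by
    intro i
    rw [eq_inv_iff_mul_eq_one, ← hPadd, neg_add_cancel, hP0]
  have hPY : ∀ i, P i * Y = Y * P (-i) := by
    intro i
    rw [hPneg, hP]
    have key : ∀ k : ℕ, X ^ k * Y = Y * (X ^ k)⁻¹ := by
      intro k
      induction k with
      | zero => simp
      | succ k ih =>
        rw [pow_succ, mul_assoc, hcom, ← mul_assoc, ih, mul_assoc]
        congr 1
        rw [mul_inv_rev, ← inv_pow, ← pow_succ, ← pow_succ']
    exact key _
  have hP2 : P 2 = t := by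
    rw [hP]
    show X ^ 2 = t
    rw [pow_two, hXX]
  have hPinj : ∀ i, P i = 1 → i = 0 := by
    intro i hi
    rw [hP] at hi
    have h3 : i.val < 4 := ZMod.val_lt i
    have h4 : i.val = 0 := by
      rcases (show i.val = 0 ∨ i.val = 1 ∨ i.val = 2 ∨ i.val = 3 by omega) with h | h | h | h
      · exact h
      · rw [h, pow_one] at hi; exact absurd hi hX1
      · rw [h, pow_two, hXX] at hi; exact absurd hi ht
      · rw [h] at hi
        have : X ^ 3 = X * t := by rw [← hXX]; simp only [pow_succ, pow_zero, one_mul, mul_assoc]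
        rw [this, ← hXi, inv_eq_one] at hi
        exact absurd hi hX1
    exact (ZMod.val_eq_zero i).1 h4
  have hPmem : ∀ i, P i = 1 ∨ P i = X ∨ P i = t ∨ P i = X * t := by
    intro i
    rw [hP]
    have h3 : i.val < 4 := ZMod.val_lt i
    rcases (show i.val = 0 ∨ i.val = 1 ∨ i.val = 2 ∨ i.val = 3 by omega) with h | h | h | h
    · left; rw [h, pow_zero]
    · right; left; rw [h, pow_one]
    · right; right; left; rw [h, pow_two, hXX]
    · right; right; right; rw [h, ← hXX]; simp only [pow_succ, pow_zero, one_mul, mul_assoc]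
  let f : QuaternionGroup 2 → H := fun x => match x with
    | QuaternionGroup.a i => P i
    | QuaternionGroup.xa i => Y * P i
  have hf : ∀ x y, f (x * y) = f x * f y := by
    intro x y
    rcases x with i | i <;> rcases y with j | j
    · exact hPadd i j
    · show Y * P (j - i) = P i * (Y * P j)
      rw [← mul_assoc, hPY, mul_assoc, ← hPadd]
      congr 2; ring
    · show Y * P (i + j) = Y * P i * P j
      rw [mul_assoc, hPadd]
    · show P ((2 : ℕ) + j - i) = Y * P i * (Y * P j)
      have e1 : Y * P i * (Y * P j) = Y * (P i * Y) * P j := by group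
      rw [e1, hPY]
      have e2 : Y * (Y * P (-i)) * P j = (Y * Y) * (P (-i) * P j) := by group
      rw [e2, hYY, ← hP2, ← hPadd, ← hPadd]
      congr 1
      push_cast
      ring
  let φ : QuaternionGroup 2 →* H := MonoidHom.mk' f hf
  have hinj : Function.Injective φ := by
    rw [injective_iff_map_eq_one]
    intro x hx
    rcases x with i | i
    · have : P i = 1 := hx
      rw [hPinj i this]; rfl
    · exfalso
      have h1 : Y * P i = 1 := hx
      have h3 : Y = (P i)⁻¹ := eq_inv_of_mul_eq_one_left h1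
      rw [← hPneg] at h3
      rcases hPmem (-i) with h | h | h | h
      · exact hY1 (h3.trans h)
      · exact hYX (h3.trans h)
      · exact hYt (h3.trans h)
      · exact hYXt (h3.trans h)
  have hbij : Function.Bijective φ := by
    rw [Fintype.bijective_iff_injective_and_card]
    refine ⟨hinj, ?_⟩
    rw [hH, QuaternionGroup.card]
  exact ⟨(MulEquiv.ofBijective φ hbij).symm⟩

/-- Frobenius groups of order 72 with quaternion complement -/
theorem frob_72 {G : Type*} [Group G] [Finite G] (hG : Nat.card G = 72) (H : Subgroup G) (hH : Nat.card H = 8)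
    (hfrob : ∀ g : G, g ∉ H → H ⊓ (MulAut.conj g • H) = ⊥) (t : G) (htH : t ∈ H) (ht : t ≠ 1) (htt : t * t = 1)
    (h2 : ∀ x ∈ H, x ≠ 1 → x ≠ t → x * x = t) :
    ∃ (N : Subgroup G) (_ : N.Normal), Nat.card N = 9 ∧ (∀ x ∈ N, x ^ 3 = 1) ∧ Nonempty (G ⧸ N ≃* QuaternionGroup 2) := by
  classical
  haveI : Fintype G := Fintype.ofFinite G
  obtain ⟨N, _, hN, hcomp⟩ := CfsgLib.Frob6.frobenius_kernel H hfrob
  have hcard : Nat.card N = 9 := by
    have := hcomp.card_mul
    rw [hG, hH] at this
    omega
  refine ⟨N, hN, hcard, ?_, ?_⟩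
  · -- all non-trivial elements are conjugate
    obtain ⟨y, hy⟩ : ∃ y : N, orderOf y = 3 := by
      haveI : Fact (Nat.Prime 3) := ⟨Nat.prime_three⟩
      apply exists_prime_orderOf_dvd_card'
      rw [hcard]; norm_num
    have hdisj : ∀ z, z ∈ N → z ∈ H → z = 1 := by
      intro z h1 h3
      have := hcomp.disjoint
      rw [Subgroup.disjoint_def] at this
      exact this h1 h3
    have hy1 : (y : G) ≠ 1 := by
      intro h
      have : y = 1 := Subtype.ext h
      rw [this, orderOf_one] at hy
      norm_num at hy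
    have hyH : (y : G) ∉ H := fun h => hy1 (hdisj y y.2 h)
    let c : H → {x : N // x ≠ 1} := fun h => ⟨⟨h.1 * y * h.1⁻¹, hN.conj_mem _ y.2 _⟩, by
      intro h1
      have h3 : h.1 * (y : G) * h.1⁻¹ = 1 := congrArg Subtype.val h1
      rw [conj_eq_one_iff] at h3
      exact hy1 h3⟩
    have hcinj : Function.Injective c := by
      intro a b hab
      have h1 : a.1 * (y : G) * a.1⁻¹ = b.1 * (y : G) * b.1⁻¹ := congrArg (fun z : {x : N // x ≠ 1} => (z.1 : G)) hab
      have h3 : (b.1⁻¹ * a.1) ∈ H ⊓ (MulAut.conj (y : G) • H) := by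
        refine ⟨H.mul_mem (H.inv_mem b.2) a.2, ?_⟩
        show (b.1⁻¹ * a.1) ∈ (MulAut.conj (y : G) • H)
        rw [Subgroup.mem_pointwise_smul_iff_inv_smul_mem]
        simp only [MulAut.smul_def, MulAut.conj_inv_apply]
        have : (y : G)⁻¹ * (b.1⁻¹ * a.1) * y = b.1⁻¹ * a.1 := by
          have h5 : b.1⁻¹ * a.1 * (y : G) = (y : G) * (b.1⁻¹ * a.1) := by
            calc b.1⁻¹ * a.1 * (y : G) = b.1⁻¹ * (a.1 * (y : G) * a.1⁻¹) * a.1 := by group
              _ = b.1⁻¹ * (b.1 * (y : G) * b.1⁻¹) * a.1 := by rw [h1]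
              _ = (y : G) * (b.1⁻¹ * a.1) := by group
          rw [mul_assoc, h5]; group
        rw [this]
        exact H.mul_mem (H.inv_mem b.2) a.2
      rw [hfrob _ hyH, Subgroup.mem_bot] at h3
      apply Subtype.ext
      rw [inv_mul_eq_one] at h3
      exact h3.symm
    have hbij : Function.Bijective c := by
      haveI : Fintype H := Fintype.ofFinite H
      haveI : Fintype N := Fintype.ofFinite N
      haveI : Fintype {x : N // x ≠ 1} := Fintype.ofFinite _
      rw [Fintype.bijective_iff_injective_and_card]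
      refine ⟨hcinj, ?_⟩
      rw [← Nat.card_eq_fintype_card, hH, Fintype.card_subtype_compl, Fintype.card_subtype_eq, ← Nat.card_eq_fintype_card, hcard]
    intro x hx
    by_cases hx1 : x = 1
    · rw [hx1, one_pow]
    · obtain ⟨h, hh⟩ := hbij.2 ⟨⟨x, hx⟩, fun h => hx1 (congrArg Subtype.val h)⟩
      have h1 : h.1 * (y : G) * h.1⁻¹ = x := congrArg (fun z : {x : N // x ≠ 1} => (z.1 : G)) hh
      have h3 : (y : G) ^ 3 = 1 := by
        have := pow_orderOf_eq_one y
        rw [hy] at this
        exact congrArg Subtype.val this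
      rw [← h1, conj_pow, h3]; group
  · obtain ⟨e⟩ := q8_equiv hH (⟨t, htH⟩ : H) (fun h => ht (congrArg Subtype.val h)) (Subtype.ext htt) (by
      intro x hx1 hxt
      exact Subtype.ext (h2 x.1 x.2 (fun h => hx1 (Subtype.ext h)) (fun h => hxt (Subtype.ext h))))
    exact ⟨hcomp.symm.QuotientMulEquiv.trans e⟩

end Cfsg.Agent.H22
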