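import Cfsg.Agent.LibFus21E2
import Cfsg.Agent.LibPCyc
import Cfsg.Agent.LibH22Fr72

set_option autoImplicit false

/-! Essential subgroups of order `p³`. -/

namespace CfsgLib.Fus21

open Cfsg Cfsg.FusionSystem

section

variable {H : Type*} [Group H] [Finite H] {p : ℕ} [hp : Fact p.Prime]

theorem nonab3 (hH : IsPGroup p H) (hcard : Nat.card H = p ^ 3) (hn : ∃ x y : H, x * y ≠ y * x)
    (hΦ : Nat.card (frattini H) = p) :
    frattini H = Subgroup.center H ∧ Nat.card (Subgroup.center H) = p := by
  have h1 : frattini H ≤ Subgroup.center H := CfsgLib.PCyc.le_center_of_card_eq hp.out hH (frattini H) hΦ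
  have h2 : Nat.card (Subgroup.center H) = p := by
    obtain ⟨k, hk⟩ := IsPGroup.iff_card.1 (hH.to_subgroup (Subgroup.center H))
    have h3 := (Subgroup.center H).card_mul_index
    rw [hcard, hk] at h3
    have hk3 : k ≤ 3 := (Nat.pow_dvd_pow_iff_le_right hp.out.one_lt).1 ⟨_, h3.symm⟩
    have hpp := hp.out.pos
    have hk1 : 1 ≤ k := by
      by_contra h
      have hk0 : k = 0 := by omega
      have h4 := Subgroup.card_le_of_le h1
      rw [hΦ, hk, hk0, pow_zero] at h4
      have := hp.out.one_lt
      omega
    have hind : (Subgroup.center H).index = p ^ (3 - k) := by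
      have h4 : p ^ k * (Subgroup.center H).index = p ^ k * p ^ (3 - k) := by
        rw [h3, ← pow_add]; congr 1; omega
      exact Nat.eq_of_mul_eq_mul_left (pow_pos hpp k) h4
    by_contra hne
    have hk2 : 2 ≤ k := by
      by_contra h
      have : k = 1 := by omega
      rw [this, pow_one] at hk
      exact hne hk
    have hcyc : IsCyclic (H ⧸ Subgroup.center H) := by
      rw [Subgroup.index_eq_card] at hind
      have : k = 2 ∨ k = 3 := by omega
      rcases this with rfl | rfl
      · exact isCyclic_of_prime_card (p := p) (by rw [hind]; norm_num)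
      · have h1 : Subsingleton (H ⧸ Subgroup.center H) :=
          (Nat.card_eq_one_iff_unique.mp (by rw [hind]; norm_num)).1
        infer_instance
    obtain ⟨x, y, hxy⟩ := hn
    exact hxy (commutative_of_cyclic_center_quotient (QuotientGroup.mk' (Subgroup.center H)) (by rw [QuotientGroup.ker_mk']) x y)
  exact ⟨Subgroup.eq_of_le_of_card_ge h1 (by rw [hΦ, h2]), h2⟩

theorem order_cube (hH : IsPGroup p H) (hcard : Nat.card H = p ^ 3) (hn : ∃ x y : H, x * y ≠ y * x)
    (hΦ : Nat.card (frattini H) = p)
    (hchar : ∀ D : Subgroup H, (∀ α : MulAut H, ∀ x ∈ D, α x ∈ D) → frattini H ≤ D → D = frattini H ∨ D = ⊤) :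
    Cfsg.IsExtraspecial p H ∧ ((Odd p ∧ ∀ x : H, x ^ p = 1) ∨ (p = 2 ∧ Nonempty (H ≃* QuaternionGroup 2))) := by
  obtain ⟨hZ, hZc⟩ := nonab3 hH hcard hn hΦ
  have hpow : ∀ x : H, x ^ p ∈ Subgroup.center H := fun x => hZ ▸ CfsgLib.LE.pow_mem_frattini hH x
  have hcm : ∀ x y : H, x * y * x⁻¹ * y⁻¹ ∈ Subgroup.center H := fun x y => hZ ▸ CfsgLib.ExtraH28.comm_mem_frattini hH x y
  have hext : Cfsg.IsExtraspecial p H := CfsgLib.ExtraH28.isExtraspecial_of hH hZc hpow hcm hn
  have hzp : ∀ z ∈ Subgroup.center H, z ^ p = 1 := by
    intro z hz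
    have h1 : (⟨z, hz⟩ : Subgroup.center H) ^ Nat.card (Subgroup.center H) = 1 := pow_card_eq_one'
    rw [hZc] at h1
    exact congrArg Subtype.val h1
  refine ⟨hext, ?_⟩
  rcases hp.out.eq_two_or_odd' with h2 | hodd
  · right
    subst h2
    refine ⟨rfl, ?_⟩
    have hcard8 : Nat.card H = 8 := by rw [hcard]; norm_num
    obtain ⟨z, hz1, hzz⟩ : ∃ z ∈ Subgroup.center H, z ≠ 1 := by
      by_contra hno
      push Not at hno
      have h3 : Subgroup.center H = ⊥ := (Subgroup.eq_bot_iff_forall _).2 hno
      rw [h3, Subgroup.card_bot] at hZc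
      exact absurd hZc (by norm_num)
    have hcen : ∀ w ∈ Subgroup.center H, w = 1 ∨ w = z := by
      intro w hw
      by_contra hno
      push Not at hno
      have h3 := hZc
      rw [Nat.card_eq_two_iff] at h3
      obtain ⟨a, b, hab, hall⟩ := h3
      have hall : ∀ u : Subgroup.center H, u = a ∨ u = b := by
        intro u
        have hu : u ∈ ({a, b} : Set (Subgroup.center H)) := hall ▸ Set.mem_univ u
        simpa using hu
      have h4 := hall 1
      have h5 := hall ⟨z, hz1⟩
      have h6 := hall ⟨w, hw⟩
      have h7 : (⟨z, hz1⟩ : Subgroup.center H) ≠ 1 := fun h => hzz (congrArg Subtype.val h)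
      have h8 : (⟨w, hw⟩ : Subgroup.center H) ≠ 1 := fun h => hno.1 (congrArg Subtype.val h)
      have h9 : (⟨w, hw⟩ : Subgroup.center H) ≠ ⟨z, hz1⟩ := fun h => hno.2 (congrArg Subtype.val h)
      rcases h4 with h4 | h4 <;> rcases h5 with h5 | h5 <;> rcases h6 with h6 | h6 <;>
        first
        | exact h7 (h5.trans h4.symm)
        | exact h8 (h6.trans h4.symm)
        | exact h9 (h6.trans h5.symm)
    have hsq : ∀ x : H, x ^ 2 = 1 ∨ x ^ 2 = z := fun x => hcen _ (hpow x)
    have hz2 : z * z = 1 := by have := hzp z hz1; rwa [pow_two] at this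
    have hzc : ∀ x, x * z = z * x := Subgroup.mem_center_iff.1 hz1
    -- D1
    have hD := hchar (Subgroup.closure {y : H | y ^ 2 ≠ 1} ⊔ frattini H) (by
      intro α x hx
      have h3 : (Subgroup.closure {y : H | y ^ 2 ≠ 1} ⊔ frattini H).map α.toMonoidHom ≤ Subgroup.closure {y : H | y ^ 2 ≠ 1} ⊔ frattini H := by
        rw [Subgroup.map_sup]
        apply sup_le_sup
        · rw [MonoidHom.map_closure, Subgroup.closure_le]
          rintro _ ⟨y, hy, rfl⟩
          apply Subgroup.subset_closure
          intro h
          apply hy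
          apply α.injective
          rw [map_one, map_pow]
          exact h
        · exact (Subgroup.characteristic_iff_map_le.1 inferInstance α)
      exact h3 ⟨x, hx, rfl⟩) le_sup_right
    have hall : ∀ x y : H, x ^ 2 ≠ 1 → y ^ 2 ≠ 1 → x * y ≠ y * x → (x * y) ^ 2 = z := by
      intro x y hx hy hxy
      have h3 := (hsq x).resolve_left hx
      have h4 := (hsq y).resolve_left hy
      have h5 : x * y * x⁻¹ * y⁻¹ = z := by
        refine (hcen _ (hcm x y)).resolve_left ?_
        intro h
        apply hxy
        have := CfsgLib.ExtraH28.comm_eq_one_iff.1 h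
        exact this
      have h6 : y * x = z * (x * y) := by
        have h7 : x * y = z * (y * x) := by rw [← h5]; group
        rw [h7, ← mul_assoc, hz2, one_mul]
      rw [pow_two, mul_assoc, ← mul_assoc y x y, h6, mul_assoc z, ← mul_assoc x z, hzc x, mul_assoc z, mul_assoc x y y,
        ← mul_assoc x x, ← pow_two, ← pow_two, h3, h4, ← mul_assoc, hz2, one_mul]
    -- all non-central elements square to z
    have hq : ∀ x : H, x ≠ 1 → x ≠ z → x * x = z := by
      intro x hx1 hxz
      by_contra hxx
      have hx2 : x ^ 2 = 1 := (hsq x).resolve_right (by rw [pow_two]; exact hxx)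
      have hxc : x ∉ Subgroup.center H := fun h => (hcen x h).elim hx1 hxz
      -- every y with y^2 ≠ 1 does not commute with x or ...
      rcases hD with hD | hD
      · obtain ⟨a, b, hab⟩ := hn
        apply hab
        have h3 : ∀ y : H, y ^ 2 = 1 := by
          intro y
          by_contra hy
          have h4 : y ∈ frattini H := hD ▸ (Subgroup.mem_sup_left (Subgroup.subset_closure hy))
          exact hy (hzp y (hZ ▸ h4))
        have h4 := h3 (a * b)
        have h5 := h3 a
        have h6 := h3 b
        rw [pow_two] at h4 h5 h6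
        calc a * b = a * (a * b * (a * b)) * b := by rw [h4, mul_one]
          _ = (a * a) * (b * a) * (b * b) := by group
          _ = b * a := by rw [h5, h6, one_mul, mul_one]
      · -- the set of elements squaring to 1 among cosets
        -- pick y with y² ≠ 1 not commuting with x, and y' with y'² ≠ 1 outside ⟨y, Z⟩
        have h3 : Subgroup.closure {y : H | y ^ 2 ≠ 1} = ⊤ := by
          have := frattini_nongenerating (G := H) hD
          exact this
        obtain ⟨y, hy⟩ : ∃ y : H, y ^ 2 ≠ 1 := by
          by_contra hno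
          push Not at hno
          have h4 : {y : H | y ^ 2 ≠ 1} = ∅ := by
            ext y
            simp only [Set.mem_setOf_eq, Set.mem_empty_iff_false, iff_false, not_not]
            exact hno y
          rw [h4, Subgroup.closure_empty] at h3
          have h5 : x ∈ (⊥ : Subgroup H) := h3 ▸ trivial
          exact hx1 (Subgroup.mem_bot.1 h5)
        have hyc : y ∉ Subgroup.center H := fun h => hy (hzp y h)
        obtain ⟨y', hy', hyy⟩ : ∃ y' : H, y' ^ 2 ≠ 1 ∧ y * y' ≠ y' * y := by
          by_contra hno
          push Not at hno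
          have h4 : Subgroup.closure {y : H | y ^ 2 ≠ 1} ≤ Subgroup.centralizer {y} := by
            rw [Subgroup.closure_le]
            intro w hw
            rw [SetLike.mem_coe, Subgroup.mem_centralizer_singleton_iff]
            exact (hno w hw).symm
          rw [h3] at h4
          apply hyc
          rw [Subgroup.mem_center_iff]
          intro g
          exact Subgroup.mem_centralizer_singleton_iff.1 (h4 (trivial : g ∈ (⊤ : Subgroup H)))
        have hysq := (hsq y).resolve_left hy
        have hysq' := (hsq y').resolve_left hy'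
        have hidx := CfsgLib.ExtraH28.index_centralizer_singleton hext hyc
        have hC : ∀ c : H, c * y = y * c → ∃ w ∈ Subgroup.center H, c = w ∨ c = w * y := by
          have h5 : Subgroup.zpowers y = Subgroup.centralizer {y} := by
            apply Subgroup.eq_of_le_of_card_ge
            · rw [Subgroup.zpowers_le, Subgroup.mem_centralizer_singleton_iff]
            · have h6 := (Subgroup.centralizer {y}).card_mul_index
              rw [hidx, hcard8] at h6
              have h7 : orderOf y = 2 ^ (1 + 1) := by
                apply orderOf_eq_prime_pow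
                · rw [pow_one]; exact hy
                · rw [show 2 ^ (1 + 1) = 2 * 2 from rfl, pow_mul, hysq, pow_two, hz2]
              rw [Nat.card_zpowers, h7]
              omega
          intro c hc
          have h6 : c ∈ Subgroup.zpowers y := by
            rw [h5, Subgroup.mem_centralizer_singleton_iff]; exact hc
          obtain ⟨n, rfl⟩ := h6
          rcases Int.even_or_odd' n with ⟨k, hk | hk⟩
          · refine ⟨z ^ k, Subgroup.zpow_mem _ hz1 _, Or.inl ?_⟩
            show y ^ n = _
            rw [hk, zpow_mul, zpow_ofNat, hysq]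
          · refine ⟨z ^ k, Subgroup.zpow_mem _ hz1 _, Or.inr ?_⟩
            show y ^ n = _
            rw [hk, zpow_add, zpow_mul, zpow_ofNat, hysq, zpow_one]
        have hwsq : ∀ w ∈ Subgroup.center H, ∀ a : H, (w * a) ^ 2 = a ^ 2 := by
          intro w hw a
          have h5 : Commute w a := ((Subgroup.mem_center_iff.1 hw) a).symm
          rw [h5.mul_pow, hzp w hw, one_mul]
        by_cases hxy : x * y = y * x
        · obtain ⟨w, hw, h5 | h5⟩ := hC x hxy
          · exact hxc (h5 ▸ hw)
          · rw [h5, hwsq w hw] at hx2
            exact hy hx2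
        · have h6 : x * y'⁻¹ ∈ Subgroup.centralizer {y} := by
            rw [Subgroup.mul_mem_iff_of_index_two hidx, Subgroup.inv_mem_iff]
            have h7 : x ∉ Subgroup.centralizer {y} := fun h => hxy (Subgroup.mem_centralizer_singleton_iff.1 h)
            have h8 : y' ∉ Subgroup.centralizer {y} := fun h => hyy (Subgroup.mem_centralizer_singleton_iff.1 h).symm
            exact iff_of_false h7 h8
          obtain ⟨w, hw, h5 | h5⟩ := hC _ (Subgroup.mem_centralizer_singleton_iff.1 h6)
          · have h7 : x = w * y' := by rw [← h5]; group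
            rw [h7, hwsq w hw] at hx2
            exact hy' hx2
          · have h7 : x = w * (y * y') := by rw [← mul_assoc, ← h5]; group
            rw [h7, hwsq w hw, hall y y' hy hy' hyy] at hx2
            exact hzz hx2
    exact Cfsg.Agent.H22.q8_equiv hcard8 z hzz hz2 hq
  · left
    refine ⟨hodd, ?_⟩
    have hp2 : p ≠ 2 := by rintro rfl; exact absurd hodd (by decide)
    have hmul := CfsgLib.PCyc.mul_pow_of_central hp.out hp2 hcm (fun x y => hzp _ (hcm x y))
    let f : H →* H := MonoidHom.mk' (fun x => x ^ p) hmul
    have hf : ∀ x, x ∈ f.ker ↔ x ^ p = 1 := fun x => Iff.rfl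
    have h3 := hchar f.ker (by
      intro α x hx
      rw [hf] at hx ⊢
      rw [← map_pow, hx, map_one]) (by
      intro x hx
      rw [hf]
      exact hzp x (hZ ▸ hx))
    rcases h3 with h3 | h3
    · exfalso
      have h4 : f.range ≤ Subgroup.center H := by
        rintro _ ⟨x, rfl⟩
        exact hpow x
      have h5 := Subgroup.card_le_of_le h4
      have h6 := f.ker.card_mul_index
      rw [Subgroup.index_ker, h3, hΦ, hcard] at h6
      rw [hZc] at h5
      have h7 : p * Nat.card f.range ≤ p * p := Nat.mul_le_mul_left _ h5
      rw [h6] at h7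
      have h8 : p * p < p ^ 3 := by
        have := hp.out.one_lt
        calc p * p = p * p * 1 := (mul_one _).symm
          _ < p * p * p := Nat.mul_lt_mul_of_pos_left this (Nat.mul_pos hp.out.pos hp.out.pos)
          _ = p ^ 3 := by ring
      omega
    · intro x
      rw [← hf, h3]
      trivial

end

end CfsgLib.Fus21
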