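import Cfsg.Agent.LibStP9C
/-! `Qd(p)`-sections as configurations. Seat helper9. -/
set_option autoImplicit false
set_option maxHeartbeats 400000

namespace CfsgLib.QdF9

open Subgroup Cfsg CfsgLib.Dick9 CfsgLib.QuadSL9 CfsgLib.SecH12 CfsgLib.Stab9 CfsgLib.BGPi CfsgLib.Qd9 CfsgLib.Bad9 CfsgLib.StP9
open scoped commutatorElement CfsgLib.BGPi Pointwise

variable {p : ℕ} [hp : Fact p.Prime] {G : Type*} [Group G]

/-- a `Qd(p)`-configuration -/
structure QdO (p : ℕ) [Fact p.Prime] (R L : Subgroup G) (φ : G → Matrix.SpecialLinearGroup (Fin 2) (ZMod p))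
    (ψ : G → ZMod p × ZMod p) : Prop where
  pg : IsPGroup p R
  le : R ≤ L
  nrm : ∀ l ∈ L, ∀ r ∈ R, l * r * l⁻¹ ∈ R
  fm : ∀ l ∈ L, ∀ l' ∈ L, φ (l * l') = φ l * φ l'
  fs : ∀ m, ∃ l ∈ L, φ l = m
  gm : ∀ r ∈ R, ∀ s ∈ R, ψ (r * s) = ψ r + ψ s
  gs : ∀ v, ∃ r ∈ R, ψ r = v
  eqv : ∀ l ∈ L, ∀ r ∈ R, ψ (l * r * l⁻¹) = Bad9.act (φ l) (ψ r)

variable {R L : Subgroup G} {φ : G → Matrix.SpecialLinearGroup (Fin 2) (ZMod p)} {ψ : G → ZMod p × ZMod p}

theorem act_faithful {m : Matrix.SpecialLinearGroup (Fin 2) (ZMod p)} (h : ∀ v, Bad9.act m v = v) : m = 1 := by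
  have h1 := h (1, 0)
  have h2 := h (0, 1)
  unfold Bad9.act at h1 h2
  have f1 := congrArg Prod.fst h1
  have f2 := congrArg Prod.snd h1
  have f3 := congrArg Prod.fst h2
  have f4 := congrArg Prod.snd h2
  simp only [mul_one, mul_zero, add_zero, zero_add] at f1 f2 f3 f4
  apply ext2
  · rw [f1, one00]
  · rw [f3, one01]
  · rw [f2, one10]
  · rw [f4, one11]

theorem QdO.f_triv (h : QdO p R L φ ψ) {l : G} (hl : l ∈ L) (ht : ∀ r ∈ R, ψ (l * r * l⁻¹) = ψ r) : φ l = 1 := by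
  apply act_faithful
  intro v
  obtain ⟨r, hr, rfl⟩ := h.gs v
  rw [← h.eqv l hl r hr, ht r hr]

theorem QdO.f_R (h : QdO p R L φ ψ) {r : G} (hr : r ∈ R) : φ r = 1 := by
  refine h.f_triv (h.le hr) fun s hs => ?_
  rw [h.gm _ (mul_mem hr hs) _ (inv_mem hr), h.gm _ hr _ hs, ga_inv h.gm hr]
  abel

theorem QdO.conj (h : QdO p R L φ ψ) (g : G) :
    QdO p (FusionH12.cj g R) (FusionH12.cj g L) (fun x => φ (g⁻¹ * x * g)) (fun x => ψ (g⁻¹ * x * g)) := by
  have e : ∀ a b : G, g⁻¹ * (a * b) * g = (g⁻¹ * a * g) * (g⁻¹ * b * g) := fun a b => by group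
  have e' : ∀ a b : G, g⁻¹ * (a * b * a⁻¹) * g = (g⁻¹ * a * g) * (g⁻¹ * b * g) * (g⁻¹ * a * g)⁻¹ := fun a b => by group
  refine ⟨FusionH12.isPGroup_cj h.pg, FusionH12.cj_mono h.le, ?_, ?_, ?_, ?_, ?_, ?_⟩
  · intro l hl r hr
    rw [FusionH12.mem_cj] at hl hr ⊢
    rw [e']; exact h.nrm _ hl _ hr
  · intro l hl l' hl'
    rw [FusionH12.mem_cj] at hl hl'
    simp only [e]
    exact h.fm _ hl _ hl'
  · intro m
    obtain ⟨l, hl, rfl⟩ := h.fs m
    refine ⟨g * l * g⁻¹, FusionH12.conj_mem_cj hl, ?_⟩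
    congr 1; group
  · intro l hl l' hl'
    rw [FusionH12.mem_cj] at hl hl'
    simp only [e]
    exact h.gm _ hl _ hl'
  · intro m
    obtain ⟨l, hl, rfl⟩ := h.gs m
    refine ⟨g * l * g⁻¹, FusionH12.conj_mem_cj hl, ?_⟩
    congr 1; group
  · intro l hl r hr
    rw [FusionH12.mem_cj] at hl hr
    simp only [e']
    exact h.eqv _ hl _ hr

theorem QdO.sub (h : QdO p R L φ ψ) {N : Subgroup G} (hN : L ≤ N) :
    QdO p (R.subgroupOf N) (L.subgroupOf N) (fun x => φ x) (fun x => ψ x) := by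
  refine ⟨h.pg.comap_of_injective N.subtype N.subtype_injective, ?_, ?_, ?_, ?_, ?_, ?_, ?_⟩
  · exact Subgroup.comap_mono h.le
  · intro l hl r hr; exact h.nrm _ hl _ hr
  · intro l hl r hr; exact h.fm _ hl _ hr
  · intro m
    obtain ⟨l, hl, rfl⟩ := h.fs m
    exact ⟨⟨l, hN hl⟩, hl, rfl⟩
  · intro l hl r hr; exact h.gm _ hl _ hr
  · intro m
    obtain ⟨l, hl, rfl⟩ := h.gs m
    exact ⟨⟨l, hN (h.le hl)⟩, hl, rfl⟩
  · intro l hl r hr; exact h.eqv _ hl _ hr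

/-- a configuration gives a section `Qd(p)` modulo any normal `p'`-subgroup -/
theorem QdO.sec [Finite G] (hp2 : p ≠ 2) (h : QdO p R L φ ψ) {D : Subgroup G} [D.Normal] (hD : (Nat.card D).Coprime p) :
    IsSec (qd p) (G ⧸ D) := by
  by_contra hns
  -- the kernel
  let B : Subgroup L :=
    { carrier := {x | (x : G) ∈ R ∧ ψ x = 0}
      mul_mem' := by
        rintro a b ⟨ha, ha0⟩ ⟨hb, hb0⟩
        refine ⟨mul_mem ha hb, ?_⟩
        show ψ ((a : G) * b) = 0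
        rw [h.gm _ ha _ hb, ha0, hb0, add_zero]
      one_mem' := ⟨one_mem _, ga_one h.gm⟩
      inv_mem' := by
        rintro a ⟨ha, ha0⟩
        refine ⟨inv_mem ha, ?_⟩
        show ψ ((a : G)⁻¹) = 0
        rw [ga_inv h.gm ha, ha0, neg_zero] }
  have hBn : B.Normal := by
    refine ⟨?_⟩
    rintro x ⟨hx, hx0⟩ l
    refine ⟨h.nrm l l.2 x hx, ?_⟩
    show ψ ((l : G) * x * (l : G)⁻¹) = 0
    rw [h.eqv l l.2 x hx, hx0]
    unfold Bad9.act
    apply Prod.ext <;> simp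
  have hDn : (D.subgroupOf L).Normal := inferInstance
  let N : Subgroup L := D.subgroupOf L ⊔ B
  have hNn : N.Normal := Subgroup.sup_normal _ _
  have hND : D.subgroupOf L ≤ N := le_sup_left
  have hRD : ∀ x ∈ R, x ∈ D → x = 1 := by
    intro x hx hxD
    obtain ⟨k, hk⟩ := p_elt h.pg hx
    have h1 : orderOf x ∣ p ^ k := orderOf_dvd_of_pow_eq_one hk
    have h2 : orderOf x ∣ Nat.card D := by
      have := orderOf_dvd_natCard (⟨x, hxD⟩ : D)
      rwa [Subgroup.orderOf_mk] at this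
    rw [← orderOf_eq_one_iff]
    exact Nat.eq_one_of_dvd_coprimes (Nat.Coprime.pow_right k hD) h2 h1
  have hNR : ∀ x : L, x ∈ N → (x : G) ∈ R → ψ x = 0 := by
    intro x hx hxR
    obtain ⟨d, hd, b, hb, hdb⟩ := Subgroup.mem_sup_of_normal_left.1 hx
    have hd' : (d : G) = 1 := by
      refine hRD _ ?_ hd
      have : d = x * b⁻¹ := by rw [← hdb, mul_inv_cancel_right]
      rw [this]
      exact mul_mem hxR (inv_mem hb.1)
    have : x = b := by
      rw [← hdb]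
      have : d = 1 := Subtype.ext hd'
      rw [this, one_mul]
    rw [this]; exact hb.2
  have hNφ : ∀ x : L, x ∈ N → φ x = 1 := by
    intro x hx
    obtain ⟨d, hd, b, hb, rfl⟩ := Subgroup.mem_sup_of_normal_left.1 hx
    show φ ((d : G) * b) = 1
    rw [h.fm _ d.2 _ b.2, h.f_R hb.1, mul_one]
    refine h.f_triv d.2 fun r hr => ?_
    have h1 : (d : G) * r * (d : G)⁻¹ * r⁻¹ = 1 := by
      refine hRD _ (mul_mem (h.nrm _ d.2 _ hr) (inv_mem hr)) ?_
      have h2 : (d : G) * r * (d : G)⁻¹ * r⁻¹ = d * (r * (d : G)⁻¹ * r⁻¹) := by group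
      rw [h2]
      exact mul_mem hd ((inferInstance : D.Normal).conj_mem _ (inv_mem hd) r)
    rw [mul_inv_eq_one.1 h1]
  let π := QuotientGroup.mk' N
  have hπs : Function.Surjective π := QuotientGroup.mk'_surjective N
  have hπe : ∀ x y : L, π x = π y ↔ x⁻¹ * y ∈ N := fun x y => QuotientGroup.eq
  -- `L/N` is a section of `G/D`
  have hsec : IsSec (L ⧸ N) (G ⧸ D) := by
    let f := (QuotientGroup.mk' D).subgroupMap L
    have hf : Function.Surjective f := (QuotientGroup.mk' D).subgroupMap_surjective L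
    have hker : f.ker ≤ π.ker := by
      intro x hx
      have h1 : (QuotientGroup.mk' D) (x : G) = 1 := congrArg Subtype.val hx
      have h2 : (x : G) ∈ D := (QuotientGroup.eq_one_iff _).1 h1
      exact (QuotientGroup.eq_one_iff _).2 (hND h2)
    let k : ↥(L.map (QuotientGroup.mk' D)) →* L ⧸ N := MonoidHom.liftOfSurjective f hf ⟨π, hker⟩
    have hk : ∀ x, k (f x) = π x := fun x =>
      MonoidHom.liftOfRightInverse_comp_apply f (Function.surjInv hf) (Function.rightInverse_surjInv hf) ⟨π, hker⟩ x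
    refine ⟨_, k, fun y => ?_⟩
    obtain ⟨x, rfl⟩ := hπs y
    exact ⟨f x, hk x⟩
  have hst : Stab p (L ⧸ N) := stab_of_qd_free hp2 fun h1 => hns (h1.trans hsec)
  -- the configuration in the quotient
  classical
  let φ' : L ⧸ N → Matrix.SpecialLinearGroup (Fin 2) (ZMod p) := fun q => φ (Quotient.out q : L)
  have hφ' : ∀ x : L, φ' (π x) = φ x := by
    intro x
    have h1 : π (Quotient.out (π x)) = π x := Quotient.out_eq _
    rw [eq_comm, hπe] at h1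
    have h2 := hNφ _ h1
    have h3 : φ ((x : G)⁻¹ * ((Quotient.out (π x) : L) : G)) = 1 := h2
    rw [h.fm _ (inv_mem x.2) _ (Quotient.out (π x)).2, f_inv h.fm x.2, inv_mul_eq_one] at h3
    exact h3.symm
  let R' : Subgroup (L ⧸ N) := (R.subgroupOf L).map π
  let ψ' : L ⧸ N → ZMod p × ZMod p := fun q => if hq : ∃ r : L, (r : G) ∈ R ∧ π r = q then ψ (hq.choose : L) else 0
  have hψ' : ∀ r : L, (r : G) ∈ R → ψ' (π r) = ψ r := by
    intro r hr
    have hq : ∃ s : L, (s : G) ∈ R ∧ π s = π r := ⟨r, hr, rfl⟩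
    have h1 : ψ' (π r) = ψ (hq.choose : L) := dif_pos hq
    rw [h1]
    obtain ⟨h2, h3⟩ := hq.choose_spec
    rw [hπe] at h3
    have h4 := hNR _ h3 (mul_mem (inv_mem h2) hr)
    have h5 : ψ (((hq.choose : L) : G)⁻¹ * (r : G)) = 0 := h4
    rw [h.gm _ (inv_mem h2) _ hr, ga_inv h.gm h2, neg_add_eq_zero] at h5
    exact h5
  have hbad : BadO p R' ⊤ φ' ψ' := by
    refine ⟨?_, ?_, ?_, ?_, ?_, ?_, ?_, ?_⟩
    · exact (h.pg.comap_of_injective L.subtype L.subtype_injective).map π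
    · rintro l - _ ⟨r, hr, rfl⟩
      obtain ⟨l, rfl⟩ := hπs l
      exact ⟨l * r * l⁻¹, h.nrm l l.2 r hr, by rw [map_mul, map_mul, map_inv]⟩
    · rintro l - l' -
      obtain ⟨l, rfl⟩ := hπs l
      obtain ⟨l', rfl⟩ := hπs l'
      rw [← map_mul, hφ', hφ', hφ']
      exact h.fm l l.2 l' l'.2
    · intro m
      obtain ⟨l, hl, rfl⟩ := h.fs m
      exact ⟨π ⟨l, hl⟩, mem_top _, hφ' _⟩
    · rintro _ ⟨r, hr, rfl⟩ _ ⟨s, hs, rfl⟩
      have hr' : (r : G) ∈ R := hr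
      have hs' : (s : G) ∈ R := hs
      rw [← map_mul, hψ' _ (mul_mem hr' hs'), hψ' _ hr', hψ' _ hs']
      exact h.gm _ hr' _ hs'
    · intro v
      obtain ⟨r, hr, rfl⟩ := h.gs v
      exact ⟨π ⟨r, h.le hr⟩, ⟨_, hr, rfl⟩, hψ' _ hr⟩
    · rintro l - _ ⟨r, hr, rfl⟩
      obtain ⟨l, rfl⟩ := hπs l
      have hr' : (r : G) ∈ R := hr
      rw [hφ', hψ' _ hr', ← map_inv, ← map_mul, ← map_mul, hψ' _ (h.nrm l l.2 r hr')]
      exact h.eqv l l.2 r hr'
    · rintro _ ⟨r, hr, rfl⟩ h0 l - -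
      have hr' : (r : G) ∈ R := hr
      rw [hψ' _ hr'] at h0
      have h1 : π r = 1 := (QuotientGroup.eq_one_iff _).2 ((le_sup_right : B ≤ N) ⟨hr', h0⟩)
      rw [h1, mul_one, one_mul]
  exact hbad.not_stab hp2 hst

end CfsgLib.QdF9
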