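import Cfsg.Agent.LibFus21E3
import Cfsg.Agent.LibQdF9

set_option autoImplicit false

/-! Essential subgroups: homocyclic case. -/

namespace CfsgLib.Fus21

open Cfsg Cfsg.FusionSystem

section

variable {H : Type*} [Group H]

theorem pow_mod_of {e : H} {n : ℕ} (h : e ^ n = 1) (m : ℕ) : e ^ (m % n) = e ^ m := by
  conv_rhs => rw [← Nat.mod_add_div m n, pow_add, pow_mul, h, one_pow, mul_one]

theorem zpair (hc : ∀ x y : H, x * y = y * x) (n : ℕ) [NeZero n] {e1 e2 : H} (h1 : e1 ^ n = 1) (h2 : e2 ^ n = 1) :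
    ∃ f : Multiplicative (ZMod n × ZMod n) →* H, ∀ i j : ℕ, f (Multiplicative.ofAdd ((i : ZMod n), (j : ZMod n))) = e1 ^ i * e2 ^ j := by
  have hv : ∀ {e : H}, e ^ n = 1 → ∀ a b : ZMod n, e ^ (a + b).val = e ^ a.val * e ^ b.val := by
    intro e he a b
    rw [ZMod.val_add, pow_mod_of he, pow_add]
  refine ⟨MonoidHom.mk' (fun v => e1 ^ (Multiplicative.toAdd v).1.val * e2 ^ (Multiplicative.toAdd v).2.val) ?_, ?_⟩
  · intro a b
    rw [toAdd_mul, Prod.fst_add, Prod.snd_add, hv h1, hv h2]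
    rw [mul_assoc, mul_assoc, ← mul_assoc (e1 ^ _) (e2 ^ _), ← mul_assoc (e2 ^ _) (e1 ^ _), hc (e1 ^ _) (e2 ^ _)]
  · intro i j
    rw [MonoidHom.mk'_apply, toAdd_ofAdd, ZMod.val_natCast, ZMod.val_natCast, pow_mod_of h1, pow_mod_of h2]

theorem exists_pow_pair [Finite H] (hc : ∀ x y : H, x * y = y * x) {e1 e2 : H} (h : Subgroup.zpowers e1 ⊔ Subgroup.zpowers e2 = ⊤)
    (x : H) : ∃ i j : ℕ, x = e1 ^ i * e2 ^ j := by
  classical
  have h1 : x ∈ Subgroup.zpowers e1 ⊔ Subgroup.zpowers e2 := h ▸ trivial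
  haveI : (Subgroup.zpowers e2).Normal := ⟨fun y hy g => by rw [hc g y, mul_inv_cancel_right]; exact hy⟩
  obtain ⟨a, ha, b, hb, rfl⟩ := Subgroup.mem_sup_of_normal_right.1 h1
  rw [mem_zpowers_iff_mem_range_orderOf, Finset.mem_image] at ha hb
  obtain ⟨i, -, hi⟩ := ha
  obtain ⟨j, -, hj⟩ := hb
  exact ⟨i, j, by rw [hi, hj]⟩

end

section struct

variable {H : Type*} [Group H] [Finite H] {p : ℕ} [hp : Fact p.Prime]

theorem mem_of_coprime {N : Subgroup H} {a : H} {j n : ℕ} (h1 : a ^ j ∈ N) (h2 : a ^ n ∈ N) (hc : j.Coprime n) : a ∈ N := by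
  have h3 : a ^ (Nat.gcd j n : ℤ) ∈ N := by
    rw [Nat.gcd_eq_gcd_ab, zpow_add, zpow_mul, zpow_mul, zpow_natCast, zpow_natCast]
    exact N.mul_mem (N.zpow_mem h1 _) (N.zpow_mem h2 _)
  rw [hc] at h3
  simpa using h3

theorem gen2 (hH : IsPGroup p H) (hc : ∀ x y : H, x * y = y * x) (hidx : (frattini H).index = p ^ 2) :
    ∃ x y : H, Subgroup.zpowers x ⊔ Subgroup.zpowers y = ⊤ ∧ x ∉ frattini H ∧ y ∉ Subgroup.zpowers x ⊔ frattini H ∧
      ∀ i j : ℕ, x ^ i * y ^ j ∈ frattini H → p ∣ i ∧ p ∣ j := by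
  have h1p := hp.out.one_lt
  have hnt : frattini H ≠ ⊤ := by
    intro h
    rw [h, Subgroup.index_top] at hidx
    have : 1 < p ^ 2 := Nat.one_lt_pow (by norm_num) h1p
    omega
  obtain ⟨x, hx⟩ : ∃ x, x ∉ frattini H := by
    by_contra hno
    push Not at hno
    exact hnt ((Subgroup.eq_top_iff' _).2 hno)
  have hN1 : Subgroup.zpowers x ⊔ frattini H ≠ ⊤ := by
    intro h
    have h2 : (Subgroup.zpowers x ⊔ frattini H).map (QuotientGroup.mk' (frattini H)) = ⊤ := by
      rw [h, ← MonoidHom.range_eq_map, MonoidHom.range_eq_top.2 (QuotientGroup.mk'_surjective _)]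
    rw [Subgroup.map_sup, MonoidHom.map_zpowers, (Subgroup.map_eq_bot_iff _).2 (by rw [QuotientGroup.ker_mk']), sup_bot_eq] at h2
    have h3 : Nat.card (H ⧸ frattini H) = orderOf (QuotientGroup.mk' (frattini H) x) := by
      rw [← Nat.card_zpowers, h2, Subgroup.card_top]
    rw [← Subgroup.index_eq_card, hidx] at h3
    have h4 : orderOf (QuotientGroup.mk' (frattini H) x) ∣ p := by
      apply orderOf_dvd_of_pow_eq_one
      rw [← map_pow]
      exact (QuotientGroup.eq_one_iff _).2 (CfsgLib.LE.pow_mem_frattini hH x)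
    have h5 := Nat.le_of_dvd hp.out.pos h4
    rw [← h3] at h5
    nlinarith
  have hrel : ∀ (A B : Subgroup H), A ≤ B → ∀ w ∈ B, w ∉ A → B.index < A.index := by
    intro A B hAB w hw hwA
    have h2 := Subgroup.relIndex_mul_index hAB
    have h3 : A.relIndex B ≠ 1 := fun h => hwA ((Subgroup.relIndex_eq_one.1 h) hw)
    have h4 : A.relIndex B ≠ 0 := Subgroup.FiniteIndex.index_ne_zero
    have h5 : B.index ≠ 0 := Subgroup.FiniteIndex.index_ne_zero
    rw [← h2]
    have h6 : 2 ≤ A.relIndex B := by omega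
    have h7 : 0 < B.index := Nat.pos_of_ne_zero h5
    nlinarith
  have hNi : (Subgroup.zpowers x ⊔ frattini H).index = p := by
    have h2 : (Subgroup.zpowers x ⊔ frattini H).index ∣ p ^ 2 := by
      rw [← hidx]; exact Subgroup.index_dvd_of_le le_sup_right
    obtain ⟨j, hj, hj'⟩ := (Nat.dvd_prime_pow hp.out).1 h2
    have h3 := hrel _ _ (le_sup_right : frattini H ≤ Subgroup.zpowers x ⊔ frattini H) x
      (Subgroup.mem_sup_left (Subgroup.mem_zpowers x)) hx
    rw [hj', hidx] at h3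
    have h4 : j < 2 := (Nat.pow_lt_pow_iff_right h1p).1 h3
    have h5 : j ≠ 0 := by
      rintro rfl
      rw [pow_zero, Subgroup.index_eq_one] at hj'
      exact hN1 hj'
    have : j = 1 := by omega
    rw [hj', this, pow_one]
  obtain ⟨y, hy⟩ : ∃ y, y ∉ Subgroup.zpowers x ⊔ frattini H := by
    by_contra hno
    push Not at hno
    exact hN1 ((Subgroup.eq_top_iff' _).2 hno)
  have htop : (Subgroup.zpowers x ⊔ frattini H) ⊔ Subgroup.zpowers y = ⊤ := by
    have h2 : ((Subgroup.zpowers x ⊔ frattini H) ⊔ Subgroup.zpowers y).index ∣ p := by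
      rw [← hNi]; exact Subgroup.index_dvd_of_le le_sup_left
    rcases (Nat.dvd_prime hp.out).1 h2 with h3 | h3
    · exact Subgroup.index_eq_one.1 h3
    · exfalso
      have h4 := hrel _ _ (le_sup_left : Subgroup.zpowers x ⊔ frattini H ≤ (Subgroup.zpowers x ⊔ frattini H) ⊔ Subgroup.zpowers y) y
        (Subgroup.mem_sup_right (Subgroup.mem_zpowers y)) hy
      rw [h3, hNi] at h4
      omega
  refine ⟨x, y, ?_, hx, hy, ?_⟩
  · apply frattini_nongenerating
    rw [← htop, sup_assoc, sup_assoc, sup_comm (Subgroup.zpowers y)]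
  · intro i j hij
    have hpj : p ∣ j := by
      by_contra hno
      apply hy
      refine mem_of_coprime (j := j) (n := p) ?_ (Subgroup.mem_sup_right (CfsgLib.LE.pow_mem_frattini hH y)) ((Nat.Prime.coprime_iff_not_dvd hp.out).2 hno).symm
      have h2 : y ^ j = (x ^ i)⁻¹ * (x ^ i * y ^ j) := by group
      rw [h2]
      exact Subgroup.mul_mem _ (Subgroup.inv_mem _ (Subgroup.mem_sup_left (Subgroup.pow_mem _ (Subgroup.mem_zpowers x) _)))
        (Subgroup.mem_sup_right hij)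
    refine ⟨?_, hpj⟩
    by_contra hno
    apply hx
    refine mem_of_coprime (j := i) (n := p) ?_ (CfsgLib.LE.pow_mem_frattini hH x) ((Nat.Prime.coprime_iff_not_dvd hp.out).2 hno).symm
    obtain ⟨m, rfl⟩ := hpj
    have h2 : x ^ i = (x ^ i * y ^ (p * m)) * ((y ^ p) ^ m)⁻¹ := by rw [pow_mul]; group
    rw [h2]
    exact Subgroup.mul_mem _ hij (Subgroup.inv_mem _ (Subgroup.pow_mem _ (CfsgLib.LE.pow_mem_frattini hH y) _))

/-- homocyclic -/
theorem homocyclic (hH : IsPGroup p H) (hc : ∀ x y : H, x * y = y * x) (hidx : (frattini H).index = p ^ 2)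
    (hirr : ∀ m : ℕ, torB hc m ⊔ frattini H = frattini H ∨ torB hc m ⊔ frattini H = ⊤) :
    ∃ k : ℕ, k ≠ 0 ∧ Nonempty (H ≃* Multiplicative (ZMod (p ^ k) × ZMod (p ^ k))) ∧ (∀ x : H, x ^ p ^ k = 1) ∧
      ∀ m < k, torB hc (p ^ m) ≤ frattini H := by
  classical
  have h1p := hp.out.one_lt
  obtain ⟨x, y, htop, hx, hy, hind⟩ := gen2 hH hc hidx
  have hex : ∃ k, ∀ x : H, x ^ p ^ k = 1 := by
    obtain ⟨n, hn⟩ := IsPGroup.iff_card.1 hH
    exact ⟨n, fun x => by rw [← hn]; exact pow_card_eq_one'⟩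
  obtain ⟨k, hk, hmin⟩ : ∃ k, (∀ x : H, x ^ p ^ k = 1) ∧ ∀ m < k, ¬ ∀ x : H, x ^ p ^ m = 1 :=
    ⟨Nat.find hex, Nat.find_spec hex, fun m hm => Nat.find_min hex hm⟩
  have htor : ∀ m < k, torB hc (p ^ m) ≤ frattini H := by
    intro m hm
    rcases hirr (p ^ m) with h | h
    · rw [← h]; exact le_sup_left
    · exfalso
      have h2 := frattini_nongenerating (G := H) h
      apply hmin m hm
      intro x
      have h3 : x ∈ torB hc (p ^ m) := h2 ▸ trivial
      exact mem_torB.1 h3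
  haveI : NeZero (p ^ k) := ⟨(pow_pos hp.out.pos k).ne'⟩
  obtain ⟨f, hf⟩ := zpair hc (p ^ k) (hk x) (hk y)
  have hsurj : Function.Surjective f := by
    intro h
    obtain ⟨i, j, rfl⟩ := exists_pow_pair hc htop h
    exact ⟨_, hf i j⟩
  have hinj : Function.Injective f := by
    rw [injective_iff_map_eq_one]
    intro v hv
    obtain ⟨⟨a, b⟩, rfl⟩ : ∃ w : ZMod (p ^ k) × ZMod (p ^ k), Multiplicative.ofAdd w = v := ⟨Multiplicative.toAdd v, rfl⟩
    have h1 := hf a.val b.val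
    rw [ZMod.natCast_zmod_val, ZMod.natCast_zmod_val, hv] at h1
    have h2 : ∀ m ≤ k, p ^ m ∣ a.val ∧ p ^ m ∣ b.val := by
      intro m
      induction m with
      | zero => intro _; simp
      | succ m ih =>
        intro hm
        obtain ⟨⟨a', ha'⟩, ⟨b', hb'⟩⟩ := ih (by omega)
        have h3 : x ^ a' * y ^ b' ∈ torB hc (p ^ m) := by
          rw [mem_torB, (show Commute (x ^ a') (y ^ b') from hc _ _).mul_pow, ← pow_mul, ← pow_mul, mul_comm a', mul_comm b',
            ← ha', ← hb', ← h1]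
        obtain ⟨h4, h5⟩ := hind a' b' (htor m (by omega) h3)
        rw [ha', hb', pow_succ]
        exact ⟨Nat.mul_dvd_mul_left _ h4, Nat.mul_dvd_mul_left _ h5⟩
    obtain ⟨h3, h4⟩ := h2 k le_rfl
    have h5 : a = 0 := by
      rw [← ZMod.natCast_zmod_val a]
      exact (ZMod.natCast_eq_zero_iff _ _).2 h3
    have h6 : b = 0 := by
      rw [← ZMod.natCast_zmod_val b]
      exact (ZMod.natCast_eq_zero_iff _ _).2 h4
    rw [h5, h6]
    rfl
  refine ⟨k, ?_, ⟨(MulEquiv.ofBijective f ⟨hinj, hsurj⟩).symm⟩, hk, htor⟩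
  rintro rfl
  apply hx
  have := hk x
  rw [pow_zero, pow_one] at this
  rw [this]
  exact Subgroup.one_mem _

end struct

section nilp

variable {A : Type*} [AddCommGroup A]

theorem nilp_trick (p : ℕ) (hp : p.Prime) (hp5 : 5 ≤ p) (T : AddMonoid.End A) (hT : T ^ p = 1) (Φ C : Set A)
    (hΦ : ∀ x, x ∈ Φ ↔ ∃ y, x = p • y) (h1 : ∀ x, T x - x ∈ C) (h2 : ∀ x ∈ C, T x - x ∈ Φ)
    (htor : ∀ x, p • x = 0 → x ∈ Φ) : ∀ x, T x - x ∈ Φ := by
  set N : AddMonoid.End A := T - 1 with hN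
  have hNa : ∀ x, N x = T x - x := fun x => rfl
  have hN2 : ∀ x, ∃ y, N (N x) = p • y := by
    intro x
    rw [← hΦ, hNa (N x)]
    exact h2 _ (h1 x)
  have hN2' : ∀ x, ∃ y, (N ^ 2) x = p • y := by
    intro x
    rw [pow_two]
    exact hN2 x
  have hN4 : ∀ x, ∃ y, (N ^ 4) x = (p * p) • y := by
    intro x
    obtain ⟨y, hy⟩ := hN2' x
    obtain ⟨w, hw⟩ := hN2' y
    refine ⟨w, ?_⟩
    have h3 : (N ^ 4) x = (N ^ 2) ((N ^ 2) x) := by
      rw [show (4 : ℕ) = 2 + 2 from rfl, pow_add]; rfl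
    rw [h3, hy, map_nsmul, hw, mul_nsmul]
  let P2 : AddSubgroup A := (nsmulAddMonoidHom (α := A) (p * p)).range
  have hP2 : ∀ x, x ∈ P2 ↔ ∃ y, (p * p) • y = x := fun x => Iff.rfl
  have hTN : T = N + 1 := by rw [hN, sub_add_cancel]
  have hexp : T ^ p = ∑ m ∈ Finset.range (p + 1), N ^ m * 1 ^ (p - m) * (p.choose m : AddMonoid.End A) := by
    rw [hTN]
    exact (Commute.one_right N).add_pow p
  intro x
  have hx : x = ∑ m ∈ Finset.range (p + 1), (p.choose m) • ((N ^ m) x) := by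
    have h3 : (T ^ p) x = x := by rw [hT]; rfl
    let ev : AddMonoid.End A →+ A := { toFun := fun f => f x, map_zero' := rfl, map_add' := fun _ _ => rfl }
    have h4 : ev (T ^ p) = x := h3
    conv_lhs => rw [← h4, hexp, map_sum]
    apply Finset.sum_congr rfl
    intro m _
    rw [one_pow, mul_one]
    show (N ^ m) ((p.choose m : AddMonoid.End A) x) = _
    rw [AddMonoid.End.natCast_apply, map_nsmul]
  have hp2 : p + 1 = (p - 1) + 1 + 1 := by have := hp.two_le; omega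
  rw [hp2, Finset.sum_range_succ', Finset.sum_range_succ'] at hx
  have hs : ∑ m ∈ Finset.range (p - 1), (p.choose (m + 1 + 1)) • ((N ^ (m + 1 + 1)) x) ∈ P2 := by
    apply sum_mem
    intro m hm
    rw [Finset.mem_range] at hm
    rcases Nat.lt_or_ge (m + 2) p with h3 | h3
    · obtain ⟨c, hc⟩ := hp.dvd_choose_self (k := m + 1 + 1) (by omega) h3
      obtain ⟨y, hy⟩ := hN2' ((N ^ m) x)
      have h4 : (N ^ (m + 1 + 1)) x = (N ^ 2) ((N ^ m) x) := by
        rw [show m + 1 + 1 = 2 + m by omega, pow_add]; rfl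
      rw [hP2]
      refine ⟨c • y, ?_⟩
      rw [hc, h4, hy, ← mul_nsmul', ← mul_nsmul']
      congr 1
      ring
    · have h4 : m + 1 + 1 = 4 + (m + 2 - 4) := by omega
      have h5 : (N ^ (m + 1 + 1)) x = (N ^ 4) ((N ^ (m + 2 - 4)) x) := by
        rw [h4, pow_add]
        rw [show 4 + (m + 2 - 4) = m + 1 + 1 by omega]
        rfl
      obtain ⟨y, hy⟩ := hN4 ((N ^ (m + 2 - 4)) x)
      rw [h5, hy]
      exact P2.nsmul_mem (⟨y, rfl⟩ : (p * p) • y ∈ P2) _
  obtain ⟨w, hw⟩ := (hP2 _).1 hs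
  rw [← hw] at hx
  simp only [zero_add, pow_one, Nat.choose_one_right, pow_zero, Nat.choose_zero_right, one_smul] at hx
  have h3 : p • (N x + p • w) = 0 := by
    have h4 : x = (p * p) • w + p • N x + x := hx
    have h5 : (p * p) • w + p • N x = 0 := by
      have := sub_eq_zero.2 h4
      have h6 : (p * p) • w + p • N x = ((p * p) • w + p • N x + x) - x := by abel
      rw [h6, ← h4, sub_self]
    rw [nsmul_add, ← mul_nsmul, ← h5]
    abel
  obtain ⟨y, hy⟩ := (hΦ _).1 (htor _ h3)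
  rw [← hNa]
  refine (hΦ _).2 ⟨y - w, ?_⟩
  rw [nsmul_sub, ← hy]
  abel

end nilp

section tau

variable {H : Type*} [Group H] [Finite H] {p : ℕ} [hp : Fact p.Prime]

theorem tau_pow_mem (hH : IsPGroup p H) (hc : ∀ x y : H, x * y = y * x) {τ : MulAut H} {C : Subgroup H}
    (h1 : ∀ x ∈ C, x⁻¹ * τ x ∈ frattini H) (h2 : ∀ x, x⁻¹ * τ x ∈ C) (x : H) : x⁻¹ * (τ ^ p) x ∈ frattini H := by
  have hΦ : ∀ φ ∈ frattini H, τ φ ∈ frattini H := by
    intro φ hφ
    have h3 := Subgroup.characteristic_iff_map_le.1 (inferInstance : (frattini H).Characteristic) τ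
    exact h3 ⟨φ, hφ, rfl⟩
  obtain ⟨c, hc0⟩ : ∃ c, x⁻¹ * τ x = c := ⟨_, rfl⟩
  have hτx : τ x = x * c := by rw [← hc0]; group
  have h4 : c⁻¹ * τ c ∈ frattini H := h1 c (hc0 ▸ h2 x)
  obtain ⟨d, hd0⟩ : ∃ d, c⁻¹ * τ c = d := ⟨_, rfl⟩
  have hτc : τ c = c * d := by rw [← hd0]; group
  rw [hd0] at h4
  have h3 : ∀ n : ℕ, ∃ φ ∈ frattini H, (τ ^ n) x = x * c ^ n * φ := by
    intro n
    induction n with
    | zero => exact ⟨1, Subgroup.one_mem _, by simp⟩
    | succ n ih =>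
      obtain ⟨φ, hφ, hn⟩ := ih
      refine ⟨d ^ n * τ φ, Subgroup.mul_mem _ (Subgroup.pow_mem _ h4 _) (hΦ φ hφ), ?_⟩
      have h5 : (τ ^ (n + 1)) x = τ ((τ ^ n) x) := by rw [pow_succ']; rfl
      have hcm : Commute c d := hc _ _
      rw [h5, hn, map_mul, map_mul, map_pow, hτx, hτc, hcm.mul_pow, pow_succ']
      simp only [mul_assoc]
  obtain ⟨φ, hφ, hn⟩ := h3 p
  rw [hn, mul_assoc, inv_mul_cancel_left]
  exact Subgroup.mul_mem _ (CfsgLib.LE.pow_mem_frattini hH _) hφ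

/-- `SL₂(p)` does not lift -/
theorem no_lift (hH : IsPGroup p H) (hc : ∀ x y : H, x * y = y * x) (hp5 : 5 ≤ p) {τ : MulAut H} {C : Subgroup H}
    (hτ : τ ^ p = 1) (h1 : ∀ x ∈ C, x⁻¹ * τ x ∈ frattini H) (h2 : ∀ x, x⁻¹ * τ x ∈ C)
    (htor : torB hc p ≤ frattini H) (x : H) : x⁻¹ * τ x ∈ frattini H := by
  letI : CommGroup H := { (inferInstance : Group H) with mul_comm := hc }
  let T : AddMonoid.End (Additive H) := MonoidHom.toAdditive τ.toMonoidHom
  have hTa : ∀ x : H, T (Additive.ofMul x) = Additive.ofMul (τ x) := fun x => rfl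
  have hTn : ∀ n : ℕ, ∀ x : H, (T ^ n) (Additive.ofMul x) = Additive.ofMul ((τ ^ n) x) := by
    intro n
    induction n with
    | zero => intro x; rfl
    | succ n ih =>
      intro x
      rw [pow_succ', pow_succ']
      show T ((T ^ n) (Additive.ofMul x)) = _
      rw [ih]
      rfl
  have hT : T ^ p = 1 := by
    apply AddMonoidHom.ext
    intro x
    have := hTn p (Additive.toMul x)
    rw [hτ] at this
    exact this
  have hfp := frattini_eq_pow hH hc
  have h3 := nilp_trick (A := Additive H) p hp.out hp5 T hT {x | Additive.toMul x ∈ frattini H} {x | Additive.toMul x ∈ C}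
    (by
      intro x
      show Additive.toMul x ∈ frattini H ↔ _
      rw [hfp]
      constructor
      · rintro ⟨y, hy⟩
        exact ⟨Additive.ofMul y, by
          show x = Additive.ofMul (y ^ p)
          rw [hy]; rfl⟩
      · rintro ⟨y, rfl⟩
        exact ⟨Additive.toMul y, rfl⟩)
    (by
      intro x
      show Additive.toMul (T x - x) ∈ C
      have h4 := h2 (Additive.toMul x)
      rw [hc] at h4
      rw [toMul_sub, div_eq_mul_inv]
      exact h4)
    (by
      intro x hx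
      show Additive.toMul (T x - x) ∈ frattini H
      have h4 := h1 (Additive.toMul x) hx
      rw [hc] at h4
      rw [toMul_sub, div_eq_mul_inv]
      exact h4)
    (by
      intro x hx
      exact htor (show (Additive.toMul x) ^ p = 1 from hx))
  have h5 := h3 (Additive.ofMul x)
  have h6 : Additive.toMul (T (Additive.ofMul x) - Additive.ofMul x) ∈ frattini H := h5
  rw [toMul_sub, div_eq_mul_inv] at h6
  rw [hc]
  exact h6

end tau

end CfsgLib.Fus21
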