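import Cfsg.Agent.LibFus21E4

set_option autoImplicit false

/-! Essential subgroups of order `p²`. -/

namespace CfsgLib.Fus21

open Cfsg Cfsg.FusionSystem CfsgLib.Dick9

theorem index_lt_of' {H : Type*} [Group H] [Finite H] (A B : Subgroup H) (hAB : A ≤ B) {w : H} (hw : w ∈ B) (hwA : w ∉ A) :
    B.index < A.index := by
  have h2 := Subgroup.relIndex_mul_index hAB
  have h3 : A.relIndex B ≠ 1 := fun h => hwA ((Subgroup.relIndex_eq_one.1 h) hw)
  have h4 : A.relIndex B ≠ 0 := Subgroup.FiniteIndex.index_ne_zero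
  have h5 : B.index ≠ 0 := Subgroup.FiniteIndex.index_ne_zero
  rw [← h2]
  have h6 : 2 ≤ A.relIndex B := by omega
  have h7 : 0 < B.index := Nat.pos_of_ne_zero h5
  nlinarith

section

variable {H : Type*} [Group H] [Finite H] {p : ℕ} [hp : Fact p.Prime]

theorem sl2_gen (hc : ∀ x y : H, x * y = y * x) (hexp : ∀ x : H, x ^ p = 1) (hcard : Nat.card H = p ^ 2)
    (A : Subgroup (MulAut H)) {e1 e2 : H} (hgen : Subgroup.zpowers e1 ⊔ Subgroup.zpowers e2 = ⊤) {τ τ' : MulAut H}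
    (hτ : τ ∈ A) (hτ' : τ' ∈ A) (t1 : τ e1 = e1) (t2 : τ e2 = e1 * e2) (t3 : τ' e1 = e1 * e2) (t4 : τ' e2 = e2) :
    ∃ K : Subgroup A, Nonempty (K ≃* Matrix.SpecialLinearGroup (Fin 2) (ZMod p)) := by
  haveI : NeZero p := ⟨hp.out.ne_zero⟩
  obtain ⟨f0, hf0⟩ := zpair hc p (hexp e1) (hexp e2)
  have hsurj : Function.Surjective f0 := by
    intro h
    obtain ⟨i, j, rfl⟩ := exists_pow_pair hc hgen h
    exact ⟨_, hf0 i j⟩
  have hbij : Function.Bijective f0 := by
    haveI : Finite (Multiplicative (ZMod p × ZMod p)) := inferInstanceAs (Finite (ZMod p × ZMod p))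
    rw [Nat.bijective_iff_surjective_and_card]
    refine ⟨hsurj, ?_⟩
    rw [Nat.card_congr Multiplicative.toAdd, Nat.card_prod, Nat.card_zmod, hcard, pow_two]
  obtain ⟨f, hf⟩ : ∃ f : Multiplicative (ZMod p × ZMod p) ≃* H, ∀ i j : ℕ, f (Multiplicative.ofAdd ((i : ZMod p), (j : ZMod p))) = e1 ^ i * e2 ^ j :=
    ⟨MulEquiv.ofBijective f0 hbij, hf0⟩
  let g : Matrix.SpecialLinearGroup (Fin 2) (ZMod p) → H → H := fun m h =>
    f (Multiplicative.ofAdd (CfsgLib.Bad9.act m (Multiplicative.toAdd (f.symm h))))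
  have hgm : ∀ m n h, g (m * n) h = g m (g n h) := by
    intro m n h
    show f _ = f _
    rw [CfsgLib.Bad9.act_mul, MulEquiv.symm_apply_apply, toAdd_ofAdd]
  have hg1 : ∀ h, g 1 h = h := by
    intro h
    show f _ = _
    rw [CfsgLib.Bad9.act_one, ofAdd_toAdd, MulEquiv.apply_symm_apply]
  have hgh : ∀ m h h', g m (h * h') = g m h * g m h' := by
    intro m h h'
    show f _ = f _ * f _
    rw [map_mul, toAdd_mul, CfsgLib.Bad9.act_add, ofAdd_add, map_mul]
  let Θ : Matrix.SpecialLinearGroup (Fin 2) (ZMod p) →* MulAut H := MonoidHom.mk' (fun m =>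
    { toFun := g m
      invFun := g m⁻¹
      left_inv := fun h => by rw [← hgm, inv_mul_cancel, hg1]
      right_inv := fun h => by rw [← hgm, mul_inv_cancel, hg1]
      map_mul' := hgh m }) (by
      intro m n
      ext h
      exact hgm m n h)
  have hΘ : ∀ m h, Θ m h = g m h := fun m h => rfl
  have hform : ∀ h : H, ∃ i j : ℕ, h = f (Multiplicative.ofAdd ((i : ZMod p), (j : ZMod p))) := by
    intro h
    obtain ⟨i, j, rfl⟩ := exists_pow_pair hc hgen h
    exact ⟨i, j, (hf i j).symm⟩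
  have hsu : Θ (su 1) = τ := by
    ext h
    obtain ⟨i, j, rfl⟩ := hform h
    rw [hΘ]
    show f (Multiplicative.ofAdd (CfsgLib.Bad9.act _ (Multiplicative.toAdd (f.symm _)))) = _
    rw [MulEquiv.symm_apply_apply, toAdd_ofAdd, CfsgLib.Bad9.act_su, hf, map_mul, map_pow, map_pow, t1, t2,
      (show Commute e1 e2 from hc _ _).mul_pow]
    show f (Multiplicative.ofAdd ((i : ZMod p) + (j : ZMod p), (j : ZMod p))) = _
    rw [← Nat.cast_add, hf, pow_add, mul_assoc]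
  have hsl : Θ (sl 1) = τ' := by
    ext h
    obtain ⟨i, j, rfl⟩ := hform h
    rw [hΘ]
    show f (Multiplicative.ofAdd (CfsgLib.Bad9.act _ (Multiplicative.toAdd (f.symm _)))) = _
    rw [MulEquiv.symm_apply_apply, toAdd_ofAdd, hf, map_mul, map_pow, map_pow, t3, t4,
      (show Commute e1 e2 from hc _ _).mul_pow]
    have h1 : CfsgLib.Bad9.act (sl 1 : Matrix.SpecialLinearGroup (Fin 2) (ZMod p)) ((i : ZMod p), (j : ZMod p)) = ((i : ZMod p), (i : ZMod p) + (j : ZMod p)) := by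
      unfold CfsgLib.Bad9.act
      rw [sl00, sl01, sl10, sl11]
      simp
    rw [h1, ← Nat.cast_add, hf, pow_add, mul_assoc]
  have hall : ∀ m, Θ m ∈ A := by
    intro m
    have h1 : Subgroup.closure {(su 1 : Matrix.SpecialLinearGroup (Fin 2) (ZMod p)), sl 1} ≤ A.comap Θ := by
      rw [Subgroup.closure_le]
      rintro x (rfl | rfl)
      · show Θ _ ∈ A
        rw [hsu]; exact hτ
      · show Θ _ ∈ A
        rw [hsl]; exact hτ'
    rw [CfsgLib.Dick9.closure_eq_top] at h1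
    exact h1 trivial
  have hinj : Function.Injective (Θ.codRestrict A hall) := by
    rw [injective_iff_map_eq_one]
    intro m hm
    have h1 : Θ m = 1 := congrArg Subtype.val hm
    apply CfsgLib.QdF9.act_faithful
    intro v
    have h2 : g m (f (Multiplicative.ofAdd v)) = f (Multiplicative.ofAdd v) := by
      rw [← hΘ, h1]; rfl
    have h3 : f (Multiplicative.ofAdd (CfsgLib.Bad9.act m v)) = f (Multiplicative.ofAdd v) := by
      rw [← h2]
      show _ = f _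
      rw [MulEquiv.symm_apply_apply, toAdd_ofAdd]
    exact Multiplicative.ofAdd.injective (f.injective h3)
  exact ⟨(Θ.codRestrict A hall).range, ⟨(MonoidHom.ofInjective hinj).symm⟩⟩

theorem sl2_of_tv (hc : ∀ x y : H, x * y = y * x) (hexp : ∀ x : H, x ^ p = 1) (hcard : Nat.card H = p ^ 2)
    (A : Subgroup (MulAut H)) {τ : MulAut H} (hτ : τ ∈ A) (hτ1 : τ ≠ 1) {C : Subgroup H} (hCi : C.index = p)
    (h1 : ∀ x ∈ C, τ x = x) (h2 : ∀ x, x⁻¹ * τ x ∈ C) {α : MulAut H} (hα : α ∈ A) {c : H} (hcC : c ∈ C) (hαc : α c ∉ C) :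
    ∃ K : Subgroup A, Nonempty (K ≃* Matrix.SpecialLinearGroup (Fin 2) (ZMod p)) := by
  have hCc : Nat.card C = p := by
    have := C.card_mul_index
    rw [hCi, hcard, pow_two] at this
    exact Nat.eq_of_mul_eq_mul_right hp.out.pos this
  have hCz : ∀ w ∈ C, w ≠ 1 → Subgroup.zpowers w = C := by
    intro w hw hw1
    apply Subgroup.eq_of_le_of_card_ge (Subgroup.zpowers_le.2 hw)
    rw [hCc, Nat.card_zpowers, orderOf_eq_prime (hexp w) hw1]
  have hsup : ∀ w ∈ C, w ≠ 1 → ∀ v, v ∉ C → Subgroup.zpowers w ⊔ Subgroup.zpowers v = ⊤ := by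
    intro w hw hw1 v hv
    rw [hCz w hw hw1]
    have h4 : (C ⊔ Subgroup.zpowers v).index ∣ p := by
      rw [← hCi]; exact Subgroup.index_dvd_of_le le_sup_left
    rcases (Nat.dvd_prime hp.out).1 h4 with h3 | h3
    · exact Subgroup.index_eq_one.1 h3
    · exfalso
      have h5 := index_lt_of' C (C ⊔ Subgroup.zpowers v) le_sup_left (Subgroup.mem_sup_right (Subgroup.mem_zpowers v)) hv
      omega
  have hc1 : c ≠ 1 := by
    rintro rfl
    rw [map_one] at hαc
    exact hαc C.one_mem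
  have hfix : ∀ (σ : MulAut H) (w v : H), Subgroup.zpowers w ⊔ Subgroup.zpowers v = ⊤ → σ w = w → σ v = v → σ = 1 := by
    intro σ w v hwv hw hv
    ext h
    obtain ⟨i, j, rfl⟩ := exists_pow_pair hc hwv h
    rw [map_mul, map_pow, map_pow, hw, hv]
    rfl
  -- e1, e2
  obtain ⟨e2, he2⟩ : ∃ e, e = α c := ⟨_, rfl⟩
  obtain ⟨e1, he1⟩ : ∃ e, e = e2⁻¹ * τ e2 := ⟨_, rfl⟩
  have he1C : e1 ∈ C := he1 ▸ h2 e2
  have he2C : e2 ∉ C := he2 ▸ hαc
  have he11 : e1 ≠ 1 := by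
    intro h
    rw [h] at he1
    have h3 : τ e2 = e2 := by rw [eq_inv_mul_iff_mul_eq, mul_one] at he1; exact he1.symm
    exact hτ1 (hfix τ c e2 (hsup c hcC hc1 e2 he2C) (h1 c hcC) h3)
  have t1 : τ e1 = e1 := h1 e1 he1C
  have t2 : τ e2 = e1 * e2 := by rw [hc e1 e2, he1]; group
  have hgen := hsup e1 he1C he11 e2 he2C
  -- τ'
  obtain ⟨σ, hσ⟩ : ∃ σ : MulAut H, σ = α * τ * α⁻¹ := ⟨_, rfl⟩
  have hσA : σ ∈ A := hσ ▸ A.mul_mem (A.mul_mem hα hτ) (A.inv_mem hα)
  have hσa : ∀ x, σ (α x) = α (τ x) := by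
    intro x
    rw [hσ]
    show α (τ (α⁻¹ (α x))) = _
    rw [MulAut.inv_apply_self]
  have t4 : σ e2 = e2 := by rw [he2, hσa, h1 c hcC]
  have hw : e1⁻¹ * σ e1 ∈ Subgroup.zpowers e2 := by
    obtain ⟨x, rfl⟩ := α.surjective e1
    rw [hσa, ← map_inv, ← map_mul, he2]
    have h5 : x⁻¹ * τ x ∈ Subgroup.zpowers c := by rw [hCz c hcC hc1]; exact h2 x
    obtain ⟨n, hn⟩ := h5
    refine ⟨n, ?_⟩
    have hn' : c ^ n = x⁻¹ * τ x := hn
    show (α c) ^ n = _
    rw [← hn', map_zpow]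
  have he21 : e2 ≠ 1 := fun h => he2C (h ▸ C.one_mem)
  classical
  rw [mem_zpowers_iff_mem_range_orderOf, Finset.mem_image] at hw
  obtain ⟨b, -, hb⟩ := hw
  have hσ1 : σ e1 = e1 * e2 ^ b := by rw [hb]; group
  have hpb : ¬ p ∣ b := by
    rintro ⟨m, rfl⟩
    rw [pow_mul, hexp, one_pow, mul_one] at hσ1
    have h5 := hfix σ e1 e2 hgen hσ1 t4
    apply hτ1
    rw [hσ] at h5
    have h6 : τ = α⁻¹ * (α * τ * α⁻¹) * α := by group
    rw [h6, h5, mul_one, inv_mul_cancel]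
  have hbc : b.Coprime p := ((Nat.Prime.coprime_iff_not_dvd hp.out).2 hpb).symm
  obtain ⟨m, hm⟩ := Nat.exists_mul_mod_eq_one_of_coprime hbc hp.out.one_lt
  have hσm : ∀ n : ℕ, (σ ^ n) e1 = e1 * (e2 ^ b) ^ n := by
    intro n
    induction n with
    | zero => simp
    | succ n ih =>
      have h5 : (σ ^ (n + 1)) e1 = σ ((σ ^ n) e1) := by rw [pow_succ']; rfl
      rw [h5, ih, map_mul, hσ1, map_pow, map_pow, t4, pow_succ', mul_assoc]
  have hσm2 : ∀ n : ℕ, (σ ^ n) e2 = e2 := by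
    intro n
    induction n with
    | zero => simp
    | succ n ih =>
      have h5 : (σ ^ (n + 1)) e2 = σ ((σ ^ n) e2) := by rw [pow_succ']; rfl
      rw [h5, ih, t4]
  refine sl2_gen hc hexp hcard A hgen hτ (A.pow_mem hσA m) t1 t2 ?_ (hσm2 m)
  rw [hσm, ← pow_mul, ← pow_mod_of (hexp e2), hm.2, pow_one]

end

end CfsgLib.Fus21
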