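import Cfsg.Agent.LibFus21Tv7

set_option autoImplicit false

/-! Extraspecial subgroups of index `p`: the centre. -/

namespace CfsgLib.Fus21

open Cfsg Cfsg.FusionSystem

variable {Ω : Type*} [Group Ω] {S : Subgroup Ω}

/-- `S` modulo the central subgroup `⟨z⟩` of order `p` is elementary abelian -/
structure GEH (S : Subgroup Ω) (p : ℕ) (z : Ω) : Prop where
  zS : z ∈ S
  ord : orderOf z = p
  cen : ∀ s ∈ S, s * z = z * s
  comm : ∀ x ∈ S, ∀ y ∈ S, x * y * x⁻¹ * y⁻¹ ∈ Subgroup.zpowers z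
  pow : ∀ x ∈ S, x ^ p ∈ Subgroup.zpowers z

theorem eq_one_of_sq {G : Type*} [Group G] {p : ℕ} [hp : Fact p.Prime] (hp2 : p ≠ 2) {c : G} (h1 : c ^ p = 1) (h2 : c * c = 1) : c = 1 := by
  have h3 : orderOf c ∣ 2 := orderOf_dvd_of_pow_eq_one (by rw [pow_two]; exact h2)
  have h4 : orderOf c ∣ p := orderOf_dvd_of_pow_eq_one h1
  have h5 : Nat.Coprime 2 p := by
    rw [Nat.coprime_primes Nat.prime_two hp.out]
    exact hp2.symm
  exact orderOf_eq_one_iff.1 (Nat.eq_one_of_dvd_coprimes h5 h3 h4)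

theorem GEH.zpow {p : ℕ} {z : Ω} (h : GEH S p z) {w : Ω} (hw : w ∈ Subgroup.zpowers z) : w ^ p = 1 := by
  obtain ⟨n, rfl⟩ := hw
  show (z ^ n) ^ p = 1
  rw [← zpow_natCast, ← zpow_mul, mul_comm, zpow_mul, zpow_natCast, ← h.ord, pow_orderOf_eq_one, one_zpow]

theorem ess_nu [Finite S] {p : ℕ} [hp : Fact p.Prime] (hp2 : p ≠ 2) (hS : IsPGroup p S) {F : FusionSystem S}
    (hF : F.IsSaturated p) {E : Subgroup Ω} (hE : F.IsEssential p E) {z : Ω} (hG : GEH S p z) :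
    ∃ ν ∈ F.autGroup S, (∀ w (hw : w ∈ Subgroup.zpowers z) (hwS : w ∈ S), ((ν ⟨w, hwS⟩ : S) : Ω) = w⁻¹) ∧
      (∀ x (hx : x ∈ S), x ∈ Subgroup.centralizer (S : Set Ω) → x⁻¹ * ((ν ⟨x, hx⟩ : S) : Ω) ∈ Subgroup.zpowers z) ∧
      ∀ β ∈ F.autGroup E, ∀ (x : E) (hx : (x : Ω) ∈ S) (hβx : ((β x : E) : Ω) ∈ S), (x : Ω) ∈ Subgroup.centralizer (S : Set Ω) →
        ((ν ⟨x, hx⟩ : S) : Ω) = x → ((β x : E) : Ω) ∈ Subgroup.centralizer (S : Set Ω) ∧ ((ν ⟨(β x : E), hβx⟩ : S) : Ω) = (β x : E) := by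
  classical
  have hES := hE.1.1
  haveI : Finite E := finite_of_le hES
  have hZS : Subgroup.zpowers z ≤ S := Subgroup.zpowers_le.2 hG.zS
  have hcE : ∀ x ∈ S, x ∈ Subgroup.centralizer (S : Set Ω) → x ∈ E := by
    intro x hx hxc
    apply centric_centralizer_le hE.1
    rw [mem_centralizerIn']
    refine ⟨hx, fun y hy => ?_⟩
    rw [← Subgroup.mem_centralizer_iff.1 hxc y (hES hy)]
    group
  have hzE : z ∈ E := hcE z hG.zS (Subgroup.mem_centralizer_iff.2 fun s hs => hG.cen s hs)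
  have hZE : Subgroup.zpowers z ≤ E := Subgroup.zpowers_le.2 hzE
  have hconj : ∀ g ∈ S, ∀ x ∈ E, g * x * g⁻¹ ∈ E := by
    intro g hg x hx
    have h1 := E.mul_mem (hZE (hG.comm g hg x (hES hx))) hx
    have h2 : g * x * g⁻¹ * x⁻¹ * x = g * x * g⁻¹ := by group
    rwa [h2] at h1
  have hnorm : ∀ g ∈ S, g ∈ Subgroup.normalizer (E : Set Ω) := by
    intro g hg
    rw [Subgroup.mem_normalizer_iff]
    intro x
    refine ⟨fun hx => hconj g hg x hx, fun hx => ?_⟩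
    have h1 := hconj g⁻¹ (S.inv_mem hg) _ hx
    have h2 : g⁻¹ * (g * x * g⁻¹) * g⁻¹⁻¹ = x := by group
    rwa [h2] at h1
  obtain ⟨t, ht, htE⟩ : ∃ t ∈ S, t ∉ E := by
    by_contra hno
    push Not at hno
    exact (essential_lt hS hF hE).not_ge hno
  obtain ⟨τ, hτ⟩ := exists_conjAut (hnorm t ht)
  have hτT : τ ∈ autInducedBy S E := mem_autInducedBy.2 ⟨t, ht, hτ⟩
  have hmemz : ∀ x : E, x ∈ Subgroup.zpowers (⟨z, hzE⟩ : E) ↔ (x : Ω) ∈ Subgroup.zpowers z := by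
    intro x
    constructor
    · rintro ⟨n, hn⟩
      exact ⟨n, congrArg Subtype.val hn⟩
    · rintro ⟨n, hn⟩
      exact ⟨n, Subtype.ext hn⟩
  have hTZ : ∀ σ ∈ autInducedBy S E, ∀ x : E, x⁻¹ * σ x ∈ Subgroup.zpowers (⟨z, hzE⟩ : E) := by
    intro σ hσ x
    obtain ⟨g, hg, h⟩ := mem_autInducedBy.1 hσ
    rw [hmemz]
    have h1 : (((x⁻¹ * σ x : E)) : Ω) = (x : Ω)⁻¹ * g * (x : Ω)⁻¹⁻¹ * g⁻¹ := by
      rw [Subgroup.coe_mul, Subgroup.coe_inv, h]; group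
    rw [h1]
    exact hG.comm _ (S.inv_mem (hES x.2)) _ hg
  obtain ⟨hel, hab, α, hαA, hαz, hτz2, hTI, hVo, hchain, ν, hνA, hν1, hν2, hν3⟩ :=
    abs_ge (hS.to_le hES) (A := F.autGroup E) (T0 := autInducedBy S E) (T := autInducedBy S E) (I := Inn E) (R0 := ⊤)
      (z := ⟨z, hzE⟩) (τ0 := τ) le_rfl (autInducedBy_le_autGroup F hES) (isPGroup_autInducedBy hS E)
      ((fullyAutomized_iff hS).1 (sat_fn hS hF hE.2.1).2).2
      (fun ν hν α hα hνα => hνα) (essential_hrad hS hE) (fun _ _ _ _ => trivial)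
      (by rw [← Subgroup.orderOf_coe]; exact hG.ord) trivial
      (fun x => Subtype.ext (hG.cen x (hES x.2))) (fun _ _ _ => trivial)
      (fun σ hσ x _ => hTZ σ hσ x)
      (by
        intro σ hσ
        obtain ⟨g, hg, h⟩ := mem_autInducedBy.1 hσ
        apply Subtype.ext
        rw [h]
        show g * z * g⁻¹ = z
        rw [hG.cen g hg, mul_inv_cancel_right])
      (by
        intro x _
        rw [hmemz]
        exact hG.pow x (hES x.2))
      (by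
        intro x _ y _
        rw [hmemz]
        exact hG.comm x (hES x.2) y (hES y.2))
      hτT (fun h => htE (mem_of_conjAut_inner hE.1 ht hτ h))
  set V : Subgroup E := Subgroup.zpowers (⟨z, hzE⟩ : E) ⊔ Subgroup.zpowers (α ⟨z, hzE⟩) with hV
  have habc : ∀ x y : E, x * y = y * x := fun x y => hab x trivial y trivial
  have hVinv : ∀ β ∈ F.autGroup E, ∀ v ∈ V, β v ∈ V := by
    intro β hβ v hv
    have h1 : V ≤ V.comap (β : E →* E) := by
      refine sup_le (Subgroup.zpowers_le.2 (hVo β hβ)) (Subgroup.zpowers_le.2 ?_)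
      exact hVo (β * α) (Subgroup.mul_mem _ hβ hαA)
    exact h1 hv
  have hνinv : ∀ x ∈ V, (ν⁻¹ : MulAut E) x = x⁻¹ := by
    intro x hx
    have h1 : ν x⁻¹ = x := by rw [hν3 x⁻¹ (V.inv_mem hx), inv_inv]
    rw [← h1, MulAut.inv_apply_self, h1]
  have hcen : ∀ β ∈ F.autGroup E, β * ν = ν * β := by
    intro β hβ
    have hγ : β * ν * β⁻¹ * ν⁻¹ ∈ F.autGroup E :=
      Subgroup.mul_mem _ (Subgroup.mul_mem _ (Subgroup.mul_mem _ hβ hνA) (Subgroup.inv_mem _ hβ)) (Subgroup.inv_mem _ hνA)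
    have hI : β * ν * β⁻¹ * ν⁻¹ ∈ Inn E := by
      refine hchain _ hγ (fun _ => trivial) (fun x _ => ?_) (fun x hx => ?_)
      · obtain ⟨y, hy⟩ : ∃ y, (ν⁻¹ : MulAut E) x = y := ⟨_, rfl⟩
        have hyx : ν y = x := by rw [← hy, MulAut.apply_inv_self]
        obtain ⟨u, hu⟩ : ∃ u, (β⁻¹ : MulAut E) y = u := ⟨_, rfl⟩
        have huy : β u = y := by rw [← hu, MulAut.apply_inv_self]
        have h1 : y⁻¹ * x ∈ V := by rw [← hyx]; exact hν2 y trivial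
        have h2 : u⁻¹ * ν u ∈ V := hν2 u trivial
        have h3 : (β * ν * β⁻¹ * ν⁻¹) x = y * β (u⁻¹ * ν u) := by
          show β (ν ((β⁻¹ : MulAut E) ((ν⁻¹ : MulAut E) x))) = _
          rw [hy, hu, map_mul, map_inv, huy]
          group
        rw [h3]
        have h4 : x⁻¹ * (y * β (u⁻¹ * ν u)) = (y⁻¹ * x)⁻¹ * β (u⁻¹ * ν u) := by group
        rw [h4]
        exact V.mul_mem (V.inv_mem h1) (hVinv β hβ _ h2)
      · show β (ν ((β⁻¹ : MulAut E) ((ν⁻¹ : MulAut E) x))) = x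
        rw [hνinv x hx, hν3 _ (hVinv _ (Subgroup.inv_mem _ hβ) _ (V.inv_mem hx)), map_inv, MulAut.apply_inv_self, inv_inv]
    obtain ⟨g, hg, hgx⟩ := mem_Inn.1 hI
    have h1 : β * ν * β⁻¹ * ν⁻¹ = 1 := by
      ext x
      rw [hgx x]
      have h2 := congrArg Subtype.val (habc ⟨g, hg⟩ x)
      have h3 : g * (x : Ω) = x * g := h2
      rw [h3, mul_inv_cancel_right]; rfl
    calc β * ν = (β * ν * β⁻¹ * ν⁻¹) * ν * β := by group
      _ = ν * β := by rw [h1, one_mul]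
  -- extension
  have hK : S ≤ extender S E (E.subtype.comp (ν : E ≃* E).toMonoidHom) := by
    intro g hg
    rw [mem_extender_iso]
    obtain ⟨σ, hσ⟩ := exists_conjAut (hnorm g hg)
    have hσT : σ ∈ autInducedBy S E := mem_autInducedBy.2 ⟨g, hg, hσ⟩
    refine ⟨hg, σ, hσ, ?_⟩
    have h1 : autTransport (ν : E ≃* E) σ = σ := by
      ext y
      have h2 := hcen σ (autInducedBy_le_autGroup F hES hσT)
      have h3 : σ (ν ((ν⁻¹ : MulAut E) y)) = ν (σ ((ν⁻¹ : MulAut E) y)) := by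
        have := congrArg (fun f : MulAut E => f ((ν⁻¹ : MulAut E) y)) h2
        exact this
      rw [MulAut.apply_inv_self] at h3
      show ((ν (σ ((ν⁻¹ : MulAut E) y)) : E) : Ω) = _
      rw [← h3]
    rw [h1]; exact hσT
  obtain ⟨ψ, hψ, hψv⟩ := receptive_extend (sat_fn_receptive hS hF hE.2.1) ((mem_autGroup hES).1 hνA) hK
  obtain ⟨νS, hνS, hνSv⟩ := exists_aut_of_hom hψ (mem_S hψ)
  have hval : ∀ (x : E) (hx : (x : Ω) ∈ S), ((νS ⟨x, hx⟩ : S) : Ω) = ν x := by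
    intro x hx
    rw [hνSv]
    exact hψv x x.2 hx
  refine ⟨νS, hνS, ?_, ?_, ?_⟩
  · intro w hw hwS
    rw [hval ⟨w, hZE hw⟩ hwS, hν3 ⟨w, hZE hw⟩ (Subgroup.mem_sup_left ((hmemz ⟨w, hZE hw⟩).2 hw))]
    rfl
  · intro x hx hxc
    have hxE := hcE x hx hxc
    rw [hval ⟨x, hxE⟩ hx]
    have hvV : (⟨x, hxE⟩ : E)⁻¹ * ν ⟨x, hxE⟩ ∈ V := hν2 _ trivial
    obtain ⟨v, hv⟩ : ∃ v, (⟨x, hxE⟩ : E)⁻¹ * ν ⟨x, hxE⟩ = v := ⟨_, rfl⟩
    have hvc : ∀ s ∈ S, s * (v : Ω) = v * s := by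
      intro s hs
      have h1 : ∀ s ∈ S, s * ((ν ⟨x, hxE⟩ : E) : Ω) = ((ν ⟨x, hxE⟩ : E) : Ω) * s := by
        intro s hs
        obtain ⟨r, hr⟩ := νS.surjective ⟨s, hs⟩
        have h2 : r * ⟨x, hx⟩ = ⟨x, hx⟩ * r := Subtype.ext (Subgroup.mem_centralizer_iff.1 hxc r r.2)
        have h3 := congrArg νS h2
        rw [map_mul, map_mul, hr] at h3
        have h4 := congrArg Subtype.val h3
        have h5 : s * ((νS ⟨x, hx⟩ : S) : Ω) = ((νS ⟨x, hx⟩ : S) : Ω) * s := h4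
        rw [hval ⟨x, hxE⟩ hx] at h5
        exact h5
      have h6 : s * x = x * s := Subgroup.mem_centralizer_iff.1 hxc s hs
      have h7 : s * x⁻¹ = x⁻¹ * s := by
        rw [eq_inv_mul_iff_mul_eq, ← mul_assoc, ← h6, mul_inv_cancel_right]
      rw [← hv]
      show s * (x⁻¹ * ((ν ⟨x, hxE⟩ : E) : Ω)) = x⁻¹ * ((ν ⟨x, hxE⟩ : E) : Ω) * s
      rw [← mul_assoc, h7, mul_assoc, h1 s hs, mul_assoc]
    rw [hv] at hvV
    haveI : (Subgroup.zpowers (α ⟨z, hzE⟩)).Normal := ⟨fun y hy g => by rw [habc g y, mul_inv_cancel_right]; exact hy⟩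
    obtain ⟨a, ha, b, ⟨n, hn⟩, hab'⟩ := Subgroup.mem_sup_of_normal_right.1 hvV
    have hτv : τ v = v := by
      apply Subtype.ext
      rw [hτ, hvc t ht, mul_inv_cancel_right]
    have hτa : τ a = a := by
      apply Subtype.ext
      obtain ⟨m, hm⟩ := ha
      rw [hτ]
      have h1 : t * (a : Ω) = a * t := by
        rw [← hm]
        show t * z ^ m = z ^ m * t
        exact ((show Commute t z from hG.cen t ht).zpow_right m).eq
      rw [h1, mul_inv_cancel_right]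
    have hτb : τ b = b := by
      have h1 : τ (a * b) = a * b := by rw [hab']; exact hτv
      rw [map_mul, hτa] at h1
      exact mul_left_cancel h1
    obtain ⟨w0, hw0⟩ : ∃ w, (α ⟨z, hzE⟩)⁻¹ * τ (α ⟨z, hzE⟩) = w := ⟨_, rfl⟩
    have hw0z := hTZ τ hτT (α ⟨z, hzE⟩)
    rw [hw0] at hw0z
    have hw01 : w0 ≠ 1 := by
      rintro rfl
      exact hτz2 (by rw [inv_mul_eq_one] at hw0; exact hw0.symm)
    have hn' : (α ⟨z, hzE⟩) ^ n = b := hn
    have h2 : w0 ^ n = 1 := by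
      have h3 : τ (α ⟨z, hzE⟩) = α ⟨z, hzE⟩ * w0 := by rw [← hw0]; group
      rw [← hn', map_zpow, h3, (show Commute (α ⟨z, hzE⟩) w0 from habc _ _).mul_zpow] at hτb
      exact mul_eq_left.1 hτb
    have hwp : w0 ^ p = 1 := Subtype.ext (hG.zpow ((hmemz w0).1 hw0z))
    have how : orderOf w0 = p := orderOf_eq_prime hwp hw01
    have h4 : (p : ℤ) ∣ n := by rw [← how]; exact orderOf_dvd_iff_zpow_eq_one.2 h2
    have h5 : b = 1 := by
      obtain ⟨k, rfl⟩ := h4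
      have h6 : (α ⟨z, hzE⟩) ^ p = 1 := hel _ trivial
      rw [← hn', zpow_mul, zpow_natCast, h6, one_zpow]
    have h7 : ((⟨x, hxE⟩ : E)⁻¹ * ν ⟨x, hxE⟩ : E) ∈ Subgroup.zpowers (⟨z, hzE⟩ : E) := by
      rw [hv, ← hab', h5, mul_one]; exact ha
    exact (hmemz _).1 h7
  · intro β hβ x hx hβx hxc hνx
    have hνx' : ν x = x := Subtype.ext (by rw [← hval x hx]; exact hνx)
    have hνβ : ν (β x) = β x := by
      have h1 := congrArg (fun f : MulAut E => f x) (hcen β hβ)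
      have h2 : β (ν x) = ν (β x) := h1
      rw [← h2, hνx']
    refine ⟨?_, by rw [hval (β x) hβx, hνβ]⟩
    rw [Subgroup.mem_centralizer_iff]
    intro g hg
    obtain ⟨σ, hσ⟩ := exists_conjAut (hnorm g hg)
    have hσT : σ ∈ autInducedBy S E := mem_autInducedBy.2 ⟨g, hg, hσ⟩
    have hσA := autInducedBy_le_autGroup F hES hσT
    obtain ⟨c, hc⟩ : ∃ c, (β x)⁻¹ * σ (β x) = c := ⟨_, rfl⟩
    have hcz : c ∈ Subgroup.zpowers (⟨z, hzE⟩ : E) := hc ▸ hTZ σ hσT (β x)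
    have hνc : ν c = c := by
      rw [← hc, map_mul, map_inv, hνβ]
      have h1 := congrArg (fun f : MulAut E => f (β x)) (hcen σ hσA)
      have h2 : σ (ν (β x)) = ν (σ (β x)) := h1
      rw [← h2, hνβ]
    have hνc' : ν c = c⁻¹ := hν3 c (Subgroup.mem_sup_left hcz)
    have hcc : c * c = 1 := by
      rw [hνc] at hνc'
      nth_rewrite 2 [hνc']
      rw [mul_inv_cancel]
    have hc1 : c = 1 := eq_one_of_sq hp2 (Subtype.ext (hG.zpow ((hmemz c).1 hcz))) hcc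
    rw [hc1, inv_mul_eq_one] at hc
    have h3 := hσ (β x)
    rw [← hc] at h3
    show g * ((β x : E) : Ω) = ((β x : E) : Ω) * g
    conv_rhs => rw [h3]
    group

end CfsgLib.Fus21
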