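import Cfsg.Agent.LibFus21Ex1

set_option autoImplicit false

/-! Extraspecial subgroups of index `p`: the centre. -/

namespace CfsgLib.Fus21

open Cfsg Cfsg.FusionSystem

variable {Ω : Type*} [Group Ω] {S : Subgroup Ω}

/-- `p`-elements of `Aut_F(S)` are inner -/
theorem pelt_inner [Finite S] {p : ℕ} [hp : Fact p.Prime] (hS : IsPGroup p S) {F : FusionSystem S}
    (hF : F.IsSaturated p) {γ : MulAut S} (hγ : γ ∈ F.autGroup S) {k : ℕ} (hk : γ ^ p ^ k = 1) :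
    ∃ g ∈ S, ∀ x : S, ((γ x : S) : Ω) = g * x * g⁻¹ := by
  haveI := finite_autGroup F (le_refl S)
  have hA := ((fullyAutomized_iff hS).1 (sat_fn hS hF (fullyNormalized_S F)).2).2
  have hK : IsPGroup p (Subgroup.zpowers γ) := by
    rw [IsPGroup.iff_orderOf]
    rintro ⟨x, n, rfl⟩
    have h1 : (γ ^ n) ^ p ^ k = 1 := by
      rw [← zpow_natCast, ← zpow_mul, mul_comm, zpow_mul, zpow_natCast, hk, one_zpow]
    obtain ⟨j, -, hj⟩ := (Nat.dvd_prime_pow hp.out).1 (orderOf_dvd_of_pow_eq_one h1)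
    exact ⟨j, by rw [← hj]; exact Subgroup.orderOf_mk _ _⟩
  obtain ⟨c, hc, hle⟩ := exists_conj_le (isPGroup_autInducedBy hS S) hA (Subgroup.zpowers_le.2 hγ) hK
  have h1 : c * γ * c⁻¹ ∈ autInducedBy S S := hle ⟨_, Subgroup.mem_zpowers _, rfl⟩
  rw [autInducedBy_self] at h1
  obtain ⟨g, hg⟩ := h1
  refine ⟨(c⁻¹ g : S), ((c⁻¹ : MulAut S) g).2, fun x => ?_⟩
  have h2 : γ = c⁻¹ * MulAut.conj g * c := by
    rw [hg]; group
  rw [h2]
  show ((((c⁻¹ : MulAut S) (g * c x * g⁻¹)) : S) : Ω) = _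
  rw [map_mul, map_mul, map_inv, MulAut.inv_apply_self]
  rfl

/-- the two automorphisms agree on the centre -/
theorem nu_unique [Finite S] {p : ℕ} [hp : Fact p.Prime] (hS : IsPGroup p S) {F : FusionSystem S}
    (hF : F.IsSaturated p) {z : Ω} (hG : GEH S p z) {ν ν' : MulAut S} (hν : ν ∈ F.autGroup S) (hν' : ν' ∈ F.autGroup S)
    (h1 : ∀ w (hw : w ∈ Subgroup.zpowers z) (hwS : w ∈ S), ((ν ⟨w, hwS⟩ : S) : Ω) = w⁻¹)
    (h1' : ∀ w (hw : w ∈ Subgroup.zpowers z) (hwS : w ∈ S), ((ν' ⟨w, hwS⟩ : S) : Ω) = w⁻¹)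
    (h2 : ∀ x (hx : x ∈ S), x ∈ Subgroup.centralizer (S : Set Ω) → x⁻¹ * ((ν ⟨x, hx⟩ : S) : Ω) ∈ Subgroup.zpowers z)
    (h2' : ∀ x (hx : x ∈ S), x ∈ Subgroup.centralizer (S : Set Ω) → x⁻¹ * ((ν' ⟨x, hx⟩ : S) : Ω) ∈ Subgroup.zpowers z)
    (x : S) (hx : (x : Ω) ∈ Subgroup.centralizer (S : Set Ω)) : ν x = ν' x := by
  have hcenter : ∀ (μ : MulAut S) (x : S), (x : Ω) ∈ Subgroup.centralizer (S : Set Ω) → ((μ x : S) : Ω) ∈ Subgroup.centralizer (S : Set Ω) := by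
    intro μ x hx
    rw [Subgroup.mem_centralizer_iff]
    intro s hs
    obtain ⟨r, hr⟩ := μ.surjective ⟨s, hs⟩
    have h3 : r * x = x * r := Subtype.ext (Subgroup.mem_centralizer_iff.1 hx r r.2)
    have h4 := congrArg μ h3
    rw [map_mul, map_mul, hr] at h4
    exact congrArg Subtype.val h4
  have hZS : Subgroup.zpowers z ≤ S := Subgroup.zpowers_le.2 hG.zS
  -- products are trivial on the centre
  have key : ∀ (a b : MulAut S), a ∈ F.autGroup S → b ∈ F.autGroup S →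
      (∀ w (hw : w ∈ Subgroup.zpowers z) (hwS : w ∈ S), ((a ⟨w, hwS⟩ : S) : Ω) = w⁻¹) →
      (∀ w (hw : w ∈ Subgroup.zpowers z) (hwS : w ∈ S), ((b ⟨w, hwS⟩ : S) : Ω) = w⁻¹) →
      (∀ x (hx : x ∈ S), x ∈ Subgroup.centralizer (S : Set Ω) → x⁻¹ * ((a ⟨x, hx⟩ : S) : Ω) ∈ Subgroup.zpowers z) →
      (∀ x (hx : x ∈ S), x ∈ Subgroup.centralizer (S : Set Ω) → x⁻¹ * ((b ⟨x, hx⟩ : S) : Ω) ∈ Subgroup.zpowers z) →
      ∀ x : S, (x : Ω) ∈ Subgroup.centralizer (S : Set Ω) → a (b x) = x := by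
    intro a b ha hb a1 b1 a2 b2 x hx
    obtain ⟨γ, hγ⟩ : ∃ γ, a * b = γ := ⟨_, rfl⟩
    have hγA : γ ∈ F.autGroup S := hγ ▸ Subgroup.mul_mem _ ha hb
    have hγv : ∀ y, γ y = a (b y) := fun y => by rw [← hγ]; rfl
    have hγz : ∀ w : S, (w : Ω) ∈ Subgroup.zpowers z → γ w = w := by
      intro w hw
      rw [hγv]
      have h3 : b w = w⁻¹ := Subtype.ext (b1 w hw w.2)
      have h4 : a w = w⁻¹ := Subtype.ext (a1 w hw w.2)
      rw [h3, map_inv, h4, inv_inv]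
    obtain ⟨w, hw⟩ : ∃ w : S, x⁻¹ * γ x = w := ⟨_, rfl⟩
    have hwz : (w : Ω) ∈ Subgroup.zpowers z := by
      rw [← hw, hγv]
      have h3 := b2 x x.2 hx
      have h4 := a2 (b x) (b x).2 (hcenter b x hx)
      have h5 : ((x⁻¹ * a (b x) : S) : Ω) = ((x : Ω)⁻¹ * (b x : S)) * (((b x : S) : Ω)⁻¹ * (a (b x) : S)) := by
        rw [Subgroup.coe_mul, Subgroup.coe_inv]; group
      rw [h5]
      exact Subgroup.mul_mem _ h3 h4
    have hγx : γ x = x * w := by rw [← hw]; group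
    have hpow : ∀ n : ℕ, (γ ^ n) x = x * w ^ n := by
      intro n
      induction n with
      | zero => simp
      | succ n ih =>
        have h5 : (γ ^ (n + 1)) x = γ ((γ ^ n) x) := by rw [pow_succ']; rfl
        rw [h5, ih, map_mul, map_pow, hγx, hγz w hwz, pow_succ', mul_assoc]
    have hwp : w ^ p = 1 := Subtype.ext (hG.zpow hwz)
    -- the p-part
    obtain ⟨k, m, hm, hkm⟩ := Nat.exists_eq_pow_mul_and_not_dvd (orderOf_pos γ).ne' p hp.out.ne_one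
    have h6 : (γ ^ m) ^ p ^ k = 1 := by
      rw [← pow_mul, mul_comm, ← hkm, pow_orderOf_eq_one]
    obtain ⟨g, hg, hgx⟩ := pelt_inner hS hF (Subgroup.pow_mem _ hγA m) h6
    have h7 : (γ ^ m) x = x := by
      apply Subtype.ext
      rw [hgx, Subgroup.mem_centralizer_iff.1 hx g hg, mul_inv_cancel_right]
    rw [hpow, mul_eq_left] at h7
    have h8 : w = 1 := by
      have h9 : orderOf w ∣ m := orderOf_dvd_of_pow_eq_one h7
      have h10 : orderOf w ∣ p := orderOf_dvd_of_pow_eq_one hwp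
      rcases (Nat.dvd_prime hp.out).1 h10 with h | h
      · exact orderOf_eq_one_iff.1 h
      · rw [h] at h9; exact absurd h9 hm
    rw [← hγv, hγx, h8, mul_one]
  have h3 := key ν ν' hν hν' h1 h1' h2 h2' (ν' x) (hcenter ν' x hx)
  have h4 := key ν' ν' hν' hν' h1' h1' h2' h2' x hx
  rw [h4] at h3
  exact h3

/-- the exceptional normal subgroup -/
theorem center_of_core_bot [Finite S] {p : ℕ} [hp : Fact p.Prime] (hp2 : p ≠ 2) (hS : IsPGroup p S) {F : FusionSystem S}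
    (hF : F.IsSaturated p) (hO : F.core = ⊥) {z : Ω} (hG : GEH S p z)
    (hchar : ∀ α : MulAut S, ∀ w : S, (w : Ω) ∈ Subgroup.zpowers z → ((α w : S) : Ω) ∈ Subgroup.zpowers z)
    {x : Ω} (hx : x ∈ S) (hxc : x ∈ Subgroup.centralizer (S : Set Ω)) : x ∈ Subgroup.zpowers z := by
  classical
  by_contra hxz
  have hZS : Subgroup.zpowers z ≤ S := Subgroup.zpowers_le.2 hG.zS
  have hz1 : z ≠ 1 := by
    intro h
    have := hG.ord
    rw [h, orderOf_one] at this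
    exact hp.out.one_lt.ne this
  have hnb : ∀ Q : Subgroup Ω, F.IsNormal Q → Q = ⊥ := fun Q hQ => le_bot_iff.1 (hO ▸ le_core hQ)
  obtain ⟨E₀, hE₀⟩ : ∃ E₀, F.IsEssential p E₀ := by
    by_contra hno
    push Not at hno
    have h1 := hnb S (isNormal_S_of_no_essential hS hF hno)
    have h2 := hG.zS
    rw [h1, Subgroup.mem_bot] at h2
    exact hz1 h2
  obtain ⟨ν, hν, hν1, hν2, hν3⟩ := ess_nu hp2 hS hF hE₀ hG
  have hcenter : ∀ (μ : MulAut S) (x : S), (x : Ω) ∈ Subgroup.centralizer (S : Set Ω) → ((μ x : S) : Ω) ∈ Subgroup.centralizer (S : Set Ω) := by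
    intro μ x hx
    rw [Subgroup.mem_centralizer_iff]
    intro s hs
    obtain ⟨r, hr⟩ := μ.surjective ⟨s, hs⟩
    have h3 : r * x = x * r := Subtype.ext (Subgroup.mem_centralizer_iff.1 hx r r.2)
    have h4 := congrArg μ h3
    rw [map_mul, map_mul, hr] at h4
    exact congrArg Subtype.val h4
  let C : Subgroup Ω :=
    { carrier := {y | ∃ hy : y ∈ S, y ∈ Subgroup.centralizer (S : Set Ω) ∧ ((ν ⟨y, hy⟩ : S) : Ω) = y}
      one_mem' := ⟨S.one_mem, Subgroup.one_mem _, by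
        have : (⟨1, S.one_mem⟩ : S) = 1 := rfl
        rw [this, map_one]; rfl⟩
      mul_mem' := by
        rintro a b ⟨ha, ha1, ha2⟩ ⟨hb, hb1, hb2⟩
        refine ⟨S.mul_mem ha hb, Subgroup.mul_mem _ ha1 hb1, ?_⟩
        have : (⟨a * b, S.mul_mem ha hb⟩ : S) = ⟨a, ha⟩ * ⟨b, hb⟩ := rfl
        rw [this, map_mul, Subgroup.coe_mul, ha2, hb2]
      inv_mem' := by
        rintro a ⟨ha, ha1, ha2⟩
        refine ⟨S.inv_mem ha, Subgroup.inv_mem _ ha1, ?_⟩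
        have : (⟨a⁻¹, S.inv_mem ha⟩ : S) = ⟨a, ha⟩⁻¹ := rfl
        rw [this, map_inv, Subgroup.coe_inv, ha2] }
  have hC : ∀ y, y ∈ C ↔ ∃ hy : y ∈ S, y ∈ Subgroup.centralizer (S : Set Ω) ∧ ((ν ⟨y, hy⟩ : S) : Ω) = y := fun y => Iff.rfl
  -- C is nontrivial
  have hCne : C ≠ ⊥ := by
    obtain ⟨w, hw⟩ : ∃ w, x⁻¹ * ((ν ⟨x, hx⟩ : S) : Ω) = w := ⟨_, rfl⟩
    have hwz := hw ▸ hν2 x hx hxc
    obtain ⟨k, hk⟩ : ∃ k, p = 2 * k + 1 := by
      rcases hp.out.eq_two_or_odd' with h | h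
      · exact absurd h hp2
      · exact h
    obtain ⟨u, hu⟩ : ∃ u, w ^ (k + 1) = u := ⟨_, rfl⟩
    have huz : u ∈ Subgroup.zpowers z := hu ▸ Subgroup.pow_mem _ hwz _
    have huw : u * u = w := by
      rw [← hu, ← pow_add]
      have : k + 1 + (k + 1) = p + 1 := by omega
      rw [this, pow_succ, hG.zpow hwz, one_mul]
    have huS := hZS huz
    have huc : u ∈ Subgroup.centralizer (S : Set Ω) := by
      rw [Subgroup.mem_centralizer_iff]
      intro s hs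
      obtain ⟨n, hn⟩ := huz
      have hn' : z ^ n = u := hn
      rw [← hn']
      exact ((show Commute s z from hG.cen s hs).zpow_right n).eq
    have hmem : x * u ∈ C := by
      refine (hC _).2 ⟨S.mul_mem hx huS, Subgroup.mul_mem _ hxc huc, ?_⟩
      have : (⟨x * u, S.mul_mem hx huS⟩ : S) = ⟨x, hx⟩ * ⟨u, huS⟩ := rfl
      rw [this, map_mul, Subgroup.coe_mul, hν1 u huz huS]
      have h3 : ((ν ⟨x, hx⟩ : S) : Ω) = x * w := by rw [← hw]; group
      rw [h3, ← huw]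
      group
    intro hb
    rw [hb, Subgroup.mem_bot] at hmem
    apply hxz
    rw [eq_inv_of_mul_eq_one_left hmem]
    exact Subgroup.inv_mem _ huz
  apply hCne
  apply hnb
  apply isNormal_of_essential hS hF
  rintro P (rfl | hP)
  · refine ⟨fun y hy => ((hC y).1 hy).1, ?_⟩
    have hone : ∀ α ∈ F.autGroup P, ∀ y : P, (y : Ω) ∈ C → ((α y : P) : Ω) ∈ C := by
      intro α hα y hy
      obtain ⟨hyS0, hyc, hyν⟩ := (hC _).1 hy
      have hν' : α * ν * α⁻¹ ∈ F.autGroup P := Subgroup.mul_mem _ (Subgroup.mul_mem _ hα hν) (Subgroup.inv_mem _ hα)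
      have h1 := nu_unique hS hF hG (ν := ν) (ν' := α * ν * α⁻¹) hν hν' hν1 (by
        intro w hw hwS
        show ((α (ν ((α⁻¹ : MulAut P) ⟨w, hwS⟩)) : P) : Ω) = _
        have h2 : ν ((α⁻¹ : MulAut P) ⟨w, hwS⟩) = ((α⁻¹ : MulAut P) ⟨w, hwS⟩)⁻¹ :=
          Subtype.ext (hν1 _ (hchar α⁻¹ ⟨w, hwS⟩ hw) _)
        rw [h2, map_inv, MulAut.apply_inv_self]; rfl) hν2 (by
        intro x hx hxc
        show x⁻¹ * ((α (ν ((α⁻¹ : MulAut P) ⟨x, hx⟩)) : P) : Ω) ∈ _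
        obtain ⟨y, hy⟩ : ∃ y, (α⁻¹ : MulAut P) ⟨x, hx⟩ = y := ⟨_, rfl⟩
        have hyx : α y = ⟨x, hx⟩ := by rw [← hy, MulAut.apply_inv_self]
        rw [hy]
        have hyc : (y : Ω) ∈ Subgroup.centralizer (P : Set Ω) := by rw [← hy]; exact hcenter _ _ hxc
        have h3 := hchar α (y⁻¹ * ν y) (hν2 y y.2 hyc)
        rw [map_mul, map_inv, hyx] at h3
        exact h3) (α y) (hcenter α y hyc)
      refine (hC _).2 ⟨(α y).2, hcenter α y hyc, ?_⟩
      have h4 : ν (α y) = α y := by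
        rw [h1]
        show α (ν ((α⁻¹ : MulAut P) (α y))) = α y
        rw [MulAut.inv_apply_self]
        congr 1
        exact Subtype.ext hyν
      exact congrArg Subtype.val h4
    intro α hα y
    refine ⟨hone α hα y, fun h => ?_⟩
    have h1 := hone α⁻¹ (Subgroup.inv_mem _ hα) (α y) h
    rwa [MulAut.inv_apply_self] at h1
  · have hPS := hP.1.1
    have hCP : C ≤ P := by
      intro y hy
      obtain ⟨hyS, hyc, -⟩ := (hC _).1 hy
      apply centric_centralizer_le hP.1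
      rw [mem_centralizerIn']
      refine ⟨hyS, fun w hw => ?_⟩
      rw [← Subgroup.mem_centralizer_iff.1 hyc w (hPS hw)]
      group
    refine ⟨hCP, ?_⟩
    obtain ⟨ν', hν', hν1', hν2', hν3'⟩ := ess_nu hp2 hS hF hP hG
    have hone : ∀ α ∈ F.autGroup P, ∀ y : P, (y : Ω) ∈ C → ((α y : P) : Ω) ∈ C := by
      intro α hα y hy
      obtain ⟨hyS, hyc, hyν⟩ := (hC _).1 hy
      have h1 := nu_unique hS hF hG hν hν' hν1 hν1' hν2 hν2' ⟨y, hyS⟩ hyc
      obtain ⟨h2, h3⟩ := hν3' α hα y hyS (hPS (α y).2) hyc (by rw [← h1]; exact hyν)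
      refine (hC _).2 ⟨hPS (α y).2, h2, ?_⟩
      have h4 := nu_unique hS hF hG hν hν' hν1 hν1' hν2 hν2' ⟨(α y : P), hPS (α y).2⟩ h2
      rw [h4]; exact h3
    intro α hα y
    refine ⟨hone α hα y, fun h => ?_⟩
    have h1 := hone α⁻¹ (Subgroup.inv_mem _ hα) (α y) h
    rwa [MulAut.inv_apply_self] at h1

end CfsgLib.Fus21
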