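import Cfsg.Agent.LibRankTwo
import Cfsg.Agent.LibAlperinA

/-! Normal elementary abelian subgroups of order `p ^ 4`, `p` odd -/

set_option autoImplicit false

namespace CfsgLib.RankFour

open Subgroup CfsgLib.SolvBasic CfsgLib.SolvMin CfsgLib.SolvCoprime CfsgLib.SolvNilp CfsgLib.RankTwo Cfsg
open scoped commutatorElement Pointwise

universe u

variable {G : Type u} [Group G]

/-- normal subgroups of order `p` modulo a normal subgroup are central modulo it -/
theorem cent_mod [Finite G] {p : ℕ} [hp : Fact p.Prime] (hG : IsPGroup p G) {N M : Subgroup G} (hN : N.Normal)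
    (hM : M.Normal) (hNM : N ≤ M) (hc : Nat.card M ≤ Nat.card N * p) (m : G) (hm : m ∈ M) (g : G) :
    g * m * g⁻¹ * m⁻¹ ∈ N := by
  haveI : Group.IsNilpotent (G ⧸ N) := (hG.to_quotient N).isNilpotent
  have hQ : IsPGroup p (G ⧸ N) := hG.to_quotient N
  set U := M.map (QuotientGroup.mk' N) with hU
  have hUn : U.Normal := hM.map _ (QuotientGroup.mk'_surjective N)
  have hcard : Nat.card U ≤ p := by
    have h1 := card_map_mk'_mul_card_of_le N M hNM
    have h2 : Nat.card U * Nat.card N ≤ p * Nat.card N := by rw [h1, mul_comm p]; exact hc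
    exact Nat.le_of_mul_le_mul_right h2 Nat.card_pos
  have hUc : ⁅U, (⊤ : Subgroup (G ⧸ N))⁆ = ⊥ := by
    by_cases hb : U = ⊥
    · rw [hb]; exact commutator_bot_left _
    · have h1 := card_le_of_lt hQ (commutator_top_lt_of_nilpotent U hb)
      rw [← card_eq_one]
      have h2 : Nat.card (⁅U, (⊤ : Subgroup (G ⧸ N))⁆ : Subgroup (G ⧸ N)) * p ≤ 1 * p := by
        rw [one_mul]; exact h1.trans hcard
      have h3 := Nat.le_of_mul_le_mul_right h2 hp.out.pos
      have h4 := Nat.card_pos (α := (⁅U, (⊤ : Subgroup (G ⧸ N))⁆ : Subgroup (G ⧸ N)))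
      omega
  rw [commutator_top_right_eq_bot_iff_le_center] at hUc
  have h1 := mem_center_iff.mp (hUc ⟨m, hm, rfl⟩) (QuotientGroup.mk' N g)
  rw [← QuotientGroup.eq_one_iff]
  have h2 : QuotientGroup.mk' N (g * m * g⁻¹ * m⁻¹) = 1 := by
    rw [map_mul, map_mul, map_mul, map_inv, map_inv, h1]; group
  exact h2

/-- counting via commutation with a fixed element -/
theorem count [Finite G] (D B : Subgroup G) (a : G) (hB : ∀ b ∈ B, ∀ b' ∈ B, b * b' = b' * b)
    (h1 : ∀ d ∈ D, d * a * d⁻¹ * a⁻¹ ∈ B) (h2 : ∀ d ∈ D, ∀ b ∈ B, d * b = b * d) :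
    Nat.card D ≤ Nat.card (D ⊓ centralizer ({a} : Set G) : Subgroup G) * Nat.card B := by
  let f : D →* B := MonoidHom.mk' (fun k => ⟨k * a * (k : G)⁻¹ * a⁻¹, h1 k k.2⟩) (by
    intro k l
    apply Subtype.ext
    change (k : G) * l * a * ((k : G) * l)⁻¹ * a⁻¹ = (k * a * (k : G)⁻¹ * a⁻¹) * (l * a * (l : G)⁻¹ * a⁻¹)
    have h5 := hB _ (h1 k k.2) _ (h1 l l.2)
    have h6 := h2 k k.2 _ (h1 l l.2)
    calc (k : G) * l * a * ((k : G) * l)⁻¹ * a⁻¹
        = (k * (l * a * (l : G)⁻¹ * a⁻¹)) * (a * (k : G)⁻¹ * a⁻¹) := by group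
      _ = (l * a * (l : G)⁻¹ * a⁻¹) * (k * a * (k : G)⁻¹ * a⁻¹) := by rw [h6]; group
      _ = _ := h5.symm)
  have hker : Nat.card f.ker ≤ Nat.card (D ⊓ centralizer ({a} : Set G) : Subgroup G) := by
    have h3 : f.ker.map D.subtype ≤ D ⊓ centralizer ({a} : Set G) := by
      rintro _ ⟨k, hk, rfl⟩
      refine mem_inf.mpr ⟨k.2, ?_⟩
      rw [mem_centralizer_singleton_iff]
      have h5 : (k : G) * a * (k : G)⁻¹ * a⁻¹ = 1 := congrArg Subtype.val (MonoidHom.mem_ker.mp hk)
      rw [mul_inv_eq_one, mul_inv_eq_iff_eq_mul] at h5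
      exact h5
    have h4 := card_le_of_le h3
    rwa [card_map_of_injective D.subtype_injective] at h4
  calc Nat.card D ≤ Nat.card f.ker * Nat.card B := CfsgLib.MaxClass.hom_sub_le f
    _ ≤ _ := Nat.mul_le_mul_right _ hker

theorem normal_of_index_le [Finite G] {p : ℕ} [hp : Fact p.Prime] (hG : IsPGroup p G) {H : Subgroup G}
    (h : Nat.card G ≤ Nat.card H * p) : H.Normal := by
  haveI : Group.IsNilpotent G := hG.isNilpotent
  rw [← normalizer_eq_top_iff]
  by_contra hne
  have h1 : H < normalizer (H : Set G) := by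
    refine lt_of_le_of_ne le_normalizer ?_
    intro h2
    have h3 : H ≠ ⊤ := by rintro rfl; exact hne (by rw [← h2])
    have h4 := Group.normalizerCondition_of_isNilpotent (G := G) H (lt_top_iff_ne_top.mpr h3)
    exact h4.ne h2
  have h2 := card_le_of_lt hG h1
  have h3 := card_le_of_lt hG (lt_top_iff_ne_top.mpr hne)
  rw [card_top] at h3
  have h4 : Nat.card H * p * p ≤ Nat.card H * p := (Nat.mul_le_mul_right p h2).trans (h3.trans h)
  have h5 := Nat.card_pos (α := H)
  have h6 : Nat.card H * p * 1 < Nat.card H * p * p :=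
    Nat.mul_lt_mul_of_pos_left hp.out.one_lt (Nat.mul_pos h5 hp.out.pos)
  omega

/-- key step: `E` of order `p ^ 4` normal in a normal subgroup `M` -/
theorem core [Finite G] {p : ℕ} [hp : Fact p.Prime] (hp2 : p ≠ 2) (hG : IsPGroup p G) (E : Subgroup G)
    (hEcomm : ∀ a ∈ E, ∀ b ∈ E, a * b = b * a) (hEexp : ∀ a ∈ E, a ^ p = 1) (hEc : Nat.card E = p ^ 4)
    (M : Subgroup G) (hMn : M.Normal) (hEM : E ≤ M) (hMNE : M ≤ normalizer (E : Set G)) :
    ∃ A : Subgroup G, A.Normal ∧ IsElementaryAbelian p A ∧ Nat.card A = p ^ 4 := by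
  haveI : Group.IsNilpotent G := hG.isNilpotent
  have hppos := hp.out.pos
  have hp1 := hp.out.one_lt
  -- a maximal normal elementary abelian subgroup
  obtain ⟨A, hA⟩ : ∃ A, Maximal (· ∈ {A : Subgroup G | A.Normal ∧ IsElementaryAbelian p A}) A := by
    have hfin : ({A : Subgroup G | A.Normal ∧ IsElementaryAbelian p A}).Finite := Set.toFinite _
    exact hfin.exists_maximal ⟨⊥, inferInstance, inferInstance, fun a ha => by rw [mem_bot.mp ha, one_pow]⟩
  obtain ⟨⟨hAn, hAc, hAe⟩, hAmax⟩ := hA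
  have hAcomm : ∀ a ∈ A, ∀ b ∈ A, a * b = b * a := fun a ha b hb =>
    congrArg Subtype.val (hAc.is_comm.comm (⟨a, ha⟩ : A) ⟨b, hb⟩)
  obtain ⟨k, hk⟩ := card_pow hG A
  by_cases hk4 : 4 ≤ k
  · obtain ⟨A', h1, h2, h3⟩ := exists_normal_card_eq hp.out _ G rfl hG A 4 (by rw [hk]; exact pow_dvd_pow p hk4)
    refine ⟨A', h1, ⟨?_, fun a ha => hAe a (h2 ha)⟩, h3⟩
    constructor
    constructor
    intro a b
    exact Subtype.ext (hAcomm a (h2 a.2) b (h2 b.2))
  push Not at hk4
  -- elements of order `p` centralizing `A` lie in `A`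
  have hAlp : ∀ x ∈ centralizer (A : Set G), x ^ p = 1 → x ∈ A := by
    intro x hx hxp
    refine CfsgLib.AlperinA.alperin hG 1 (by rwa [pow_one]) A hAc (fun a ha => by rw [pow_one]; exact hAe a ha) ?_ x hx
      (by rwa [pow_one])
    intro B hB hBc hBe hAB
    have h1 : IsElementaryAbelian p B := ⟨hBc, fun b hb => by have := hBe b hb; rwa [pow_one] at this⟩
    exact le_antisymm (hAmax ⟨hB, h1⟩ hAB) hAB
  have hCE : ∀ x ∈ E, x ∈ centralizer (A : Set G) → x ∈ A := fun x hx hxC => hAlp x hxC (hEexp x hx)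
  -- `p ^ 4 ≤ p ^ j` impossible for small `j`
  have hlt : ∀ j : ℕ, p ^ 4 ≤ p ^ j → 4 ≤ j := fun j h => (Nat.pow_le_pow_iff_right hp1).mp h
  have hEA : ¬ E ≤ A := by
    intro h
    have := card_le_of_le h
    rw [hEc, hk] at this
    have := hlt k this
    omega
  -- the case of small `A`
  have hk3 : k = 3 := by
    by_contra hk3
    have hk2 : k ≤ 2 := by omega
    by_cases hk0 : k = 0
    · apply hEA
      intro x hx
      apply hCE x hx
      rw [hk0, pow_zero, card_eq_one] at hk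
      rw [hk, mem_centralizer_iff]
      intro y hy
      rw [mem_bot.mp hy, one_mul, mul_one]
    · obtain ⟨B, hBn, hBA, hBc⟩ := exists_normal_card_eq hp.out _ G rfl hG A (k - 1) (by rw [hk]; exact pow_dvd_pow p (by omega))
      have hBA' : B < A := by
        refine lt_of_le_of_ne hBA ?_
        intro h
        rw [h, hk] at hBc
        have := Nat.pow_right_injective hp.out.two_le hBc
        omega
      obtain ⟨a, haA, haB⟩ := SetLike.exists_of_lt hBA'
      have hBZ : ∀ m ∈ B, ∀ g : G, g * m = m * g := by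
        intro m hm g
        have h1 := cent_mod hG (N := ⊥) (M := B) inferInstance hBn bot_le (by
          rw [card_bot, one_mul, hBc]
          calc p ^ (k - 1) ≤ p ^ 1 := Nat.pow_le_pow_right hppos (by omega)
            _ = p := pow_one p) m hm g
        rw [mem_bot, mul_inv_eq_one, mul_inv_eq_iff_eq_mul] at h1
        exact h1
      have hcm := cent_mod hG (N := B) (M := A) hBn hAn hBA (by
        rw [hBc, hk, ← pow_succ]
        exact Nat.pow_le_pow_right hppos (by omega))
      have h1 := count E B a (fun b hb b' _ => (hBZ b hb b').symm) (fun d _ => hcm a haA d) (fun d _ b hb => hBZ b hb d)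
      have h2 : E ⊓ centralizer ({a} : Set G) ≤ A := by
        rintro x ⟨hx, hxa⟩
        apply hCE x hx
        have h3 : A ≤ centralizer ({x} : Set G) := by
          have h4 : B ⊔ zpowers a = A := by
            apply eq_of_le_of_card_ge (sup_le hBA (by rwa [zpowers_le]))
            have h5 : B < B ⊔ zpowers a := by
              refine lt_of_le_of_ne le_sup_left ?_
              intro h
              apply haB
              rw [h]
              exact mem_sup_right (mem_zpowers a)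
            have h6 := card_le_of_lt hG h5
            rw [hk]
            calc p ^ k ≤ p ^ (k - 1) * p := by rw [← pow_succ]; exact Nat.pow_le_pow_right hppos (by omega)
              _ ≤ _ := by rw [← hBc]; exact h6
          rw [← h4]
          apply sup_le
          · intro b hb
            rw [mem_centralizer_singleton_iff]
            exact (hBZ b hb x).symm
          · rw [zpowers_le, mem_centralizer_singleton_iff]
            exact (mem_centralizer_singleton_iff.mp hxa).symm
        rw [mem_centralizer_iff]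
        intro y hy
        exact mem_centralizer_singleton_iff.mp (h3 hy)
      have h3 := card_le_of_le h2
      have h4 : p ^ 4 ≤ p ^ (k + (k - 1)) := by
        rw [← hEc, pow_add, ← hk, ← hBc]
        exact h1.trans (Nat.mul_le_mul_right _ h3)
      have := hlt _ h4
      omega
  subst hk3
  -- the chain
  obtain ⟨A₂, hA₂n, hA₂A, hA₂c⟩ := exists_normal_card_eq hp.out _ G rfl hG A 2 (by rw [hk]; exact pow_dvd_pow p (by omega))
  obtain ⟨A₁, hA₁n, hA₁A, hA₁c⟩ := exists_normal_card_eq hp.out _ G rfl hG A₂ 1 (by rw [hA₂c]; exact pow_dvd_pow p (by omega))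
  rw [pow_one] at hA₁c
  have hA₁Z : ∀ m ∈ A₁, ∀ g : G, g * m = m * g := by
    intro m hm g
    have h1 := cent_mod hG (N := ⊥) (M := A₁) inferInstance hA₁n bot_le (by rw [card_bot, one_mul, hA₁c]) m hm g
    rw [mem_bot, mul_inv_eq_one, mul_inv_eq_iff_eq_mul] at h1
    exact h1
  have hc1 := cent_mod hG (N := A₁) (M := A₂) hA₁n hA₂n hA₁A (by rw [hA₂c, hA₁c, pow_two])
  have hc2 := cent_mod hG (N := A₂) (M := A) hA₂n hAn hA₂A (by rw [hk, hA₂c, ← pow_succ])
  have hA₁lt : A₁ < A₂ := by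
    refine lt_of_le_of_ne hA₁A ?_
    intro h
    rw [h, hA₂c, pow_two] at hA₁c
    have h2 : p * 1 < p * p := Nat.mul_lt_mul_of_pos_left hp1 hppos
    omega
  have hA₂lt : A₂ < A := by
    refine lt_of_le_of_ne hA₂A ?_
    intro h
    rw [h, hk] at hA₂c
    have := Nat.pow_right_injective hp.out.two_le hA₂c
    omega
  obtain ⟨a₂, ha₂, ha₂'⟩ := SetLike.exists_of_lt hA₁lt
  obtain ⟨a₃, ha₃, ha₃'⟩ := SetLike.exists_of_lt hA₂lt
  have hgen : ∀ {X Y : Subgroup G} {a : G}, X ≤ Y → Nat.card Y ≤ Nat.card X * p → a ∈ Y → a ∉ X → Y = X ⊔ zpowers a := by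
    intro X Y a hXY hc haY haX
    symm
    apply eq_of_le_of_card_ge (sup_le hXY (by rwa [zpowers_le]))
    have h5 : X < X ⊔ zpowers a := by
      refine lt_of_le_of_ne le_sup_left ?_
      intro h
      apply haX
      rw [h]
      exact mem_sup_right (mem_zpowers a)
    exact hc.trans (card_le_of_lt hG h5)
  have hA₂eq := hgen hA₁A (by rw [hA₂c, hA₁c, pow_two]) ha₂ ha₂'
  have hAeq := hgen hA₂A (by rw [hk, hA₂c, ← pow_succ]) ha₃ ha₃'
  -- centralizers
  have hcen : ∀ (X : Subgroup G) (a x : G), (∀ b ∈ X, x * b = b * x) → x * a = a * x →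
      ∀ y ∈ X ⊔ zpowers a, x * y = y * x := by
    intro X a x h1 h2
    have h3 : X ⊔ zpowers a ≤ centralizer ({x} : Set G) := by
      apply sup_le
      · intro b hb
        rw [mem_centralizer_singleton_iff]
        exact (h1 b hb).symm
      · rw [zpowers_le, mem_centralizer_singleton_iff]; exact h2.symm
    intro y hy
    exact (mem_centralizer_singleton_iff.mp (h3 hy)).symm
  set C := centralizer (A : Set G) with hC
  have hCn : C.Normal := by rw [hC]; infer_instance
  set C₂ := centralizer (A₂ : Set G) with hC₂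
  -- the index of `C`
  have hidx : Nat.card G ≤ Nat.card C * p ^ 3 := by
    have h1 := count ⊤ A₁ a₂ (fun b hb b' _ => (hA₁Z b hb b').symm) (fun d _ => hc1 a₂ ha₂ d) (fun d _ b hb => hA₁Z b hb d)
    rw [top_inf_eq, card_top, hA₁c] at h1
    have h2 : centralizer ({a₂} : Set G) ≤ C₂ := by
      intro x hx
      rw [hC₂, mem_centralizer_iff]
      intro y hy
      rw [SetLike.mem_coe, hA₂eq] at hy
      exact (hcen A₁ a₂ x (fun b hb => hA₁Z b hb x) (mem_centralizer_singleton_iff.mp hx) y hy).symm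
    have h3 := count C₂ A₂ a₃ (fun b hb b' hb' => hAcomm b (hA₂A hb) b' (hA₂A hb')) (fun d _ => hc2 a₃ ha₃ d)
      (fun d hd b hb => (mem_centralizer_iff.mp hd b hb).symm)
    rw [hA₂c] at h3
    have h4 : C₂ ⊓ centralizer ({a₃} : Set G) ≤ C := by
      rintro x ⟨hx, hxa⟩
      rw [hC, mem_centralizer_iff]
      intro y hy
      rw [SetLike.mem_coe, hAeq] at hy
      exact (hcen A₂ a₃ x (fun b hb => (mem_centralizer_iff.mp hx b hb).symm) (mem_centralizer_singleton_iff.mp hxa) y hy).symm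
    calc Nat.card G ≤ Nat.card (centralizer ({a₂} : Set G)) * p := h1
      _ ≤ Nat.card C₂ * p := Nat.mul_le_mul_right _ (card_le_of_le h2)
      _ ≤ (Nat.card (C₂ ⊓ centralizer ({a₃} : Set G) : Subgroup G) * p ^ 2) * p := Nat.mul_le_mul_right _ h3
      _ ≤ (Nat.card C * p ^ 2) * p := by gcongr; exact card_le_of_le h4
      _ = _ := by ring
  -- `W = E ∩ A`
  set W := E ⊓ A with hW
  have hEC : E ⊓ C = W := by
    apply le_antisymm
    · rintro x ⟨hx, hxC⟩
      exact ⟨hx, hCE x hx hxC⟩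
    · rintro x ⟨hx, hxA⟩
      refine mem_inf.mpr ⟨hx, ?_⟩
      rw [hC, mem_centralizer_iff]
      intro y hy
      exact hAcomm y hy x hxA
  have hWcard : p ^ 2 ≤ Nat.card W := by
    have h1 := count E A₁ a₂ (fun b hb b' _ => (hA₁Z b hb b').symm) (fun d _ => hc1 a₂ ha₂ d) (fun d _ b hb => hA₁Z b hb d)
    rw [hA₁c, hEc] at h1
    have h2 : E ⊓ centralizer ({a₂} : Set G) = E ⊓ C₂ := by
      apply le_antisymm
      · rintro x ⟨hx, hxa⟩
        refine mem_inf.mpr ⟨hx, ?_⟩
        rw [hC₂, mem_centralizer_iff]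
        intro y hy
        rw [SetLike.mem_coe, hA₂eq] at hy
        exact (hcen A₁ a₂ x (fun b hb => hA₁Z b hb x) (mem_centralizer_singleton_iff.mp hxa) y hy).symm
      · rintro x ⟨hx, hxa⟩
        refine mem_inf.mpr ⟨hx, ?_⟩
        rw [mem_centralizer_singleton_iff]
        exact (mem_centralizer_iff.mp hxa a₂ ha₂).symm
    rw [h2] at h1
    -- bound for a subgroup `B` of `A₂` containing all commutators
    have h3 : ∀ B : Subgroup G, B ≤ A₂ → (∀ d ∈ E ⊓ C₂, d * a₃ * d⁻¹ * a₃⁻¹ ∈ B) →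
        Nat.card (E ⊓ C₂ : Subgroup G) ≤ Nat.card W * Nat.card B := by
      intro B hB h
      have h4 := count (E ⊓ C₂) B a₃ (fun b hb b' hb' => hAcomm b (hA₂A (hB hb)) b' (hA₂A (hB hb'))) h
        (fun d hd b hb => (mem_centralizer_iff.mp hd.2 b (hB hb)).symm)
      refine h4.trans (Nat.mul_le_mul_right _ (card_le_of_le ?_))
      rintro x ⟨⟨hx, hxC₂⟩, hxa⟩
      rw [← hEC]
      refine mem_inf.mpr ⟨hx, ?_⟩
      rw [hC, mem_centralizer_iff]
      intro y hy
      rw [SetLike.mem_coe, hAeq] at hy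
      exact (hcen A₂ a₃ x (fun b hb => (mem_centralizer_iff.mp hxC₂ b hb).symm) (mem_centralizer_singleton_iff.mp hxa) y hy).symm
    by_cases hE2 : E ≤ C₂
    · have h4 := h3 A₂ le_rfl (fun d _ => hc2 a₃ ha₃ d)
      rw [inf_of_le_left hE2, hEc, hA₂c] at h4
      have h5 : p ^ 2 * p ^ 2 ≤ Nat.card W * p ^ 2 := by rw [← pow_add]; exact h4
      exact Nat.le_of_mul_le_mul_right h5 (by positivity)
    · obtain ⟨e, heE, heC₂⟩ := Set.not_subset.mp hE2
      have h4 := h3 (A₂ ⊓ centralizer ({e} : Set G)) inf_le_left (by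
        rintro d ⟨hd, hdC₂⟩
        refine mem_inf.mpr ⟨hc2 a₃ ha₃ d, ?_⟩
        rw [mem_centralizer_singleton_iff]
        -- `e` commutes with `[d, a₃]`
        have hb := hc2 a₃ ha₃ e
        obtain ⟨b, hbdef⟩ : ∃ b, b = e * a₃ * e⁻¹ * a₃⁻¹ := ⟨_, rfl⟩
        rw [← hbdef] at hb
        have h5 : e * a₃ * e⁻¹ = b * a₃ := by rw [hbdef]; group
        have h6 : e * d = d * e := hEcomm e heE d hd
        have h7 : b * d = d * b := mem_centralizer_iff.mp hdC₂ b hb
        have h8 : e * d * e⁻¹ = d := by rw [h6]; group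
        have h9 : e * (d * a₃ * d⁻¹ * a₃⁻¹) * e⁻¹ = d * a₃ * d⁻¹ * a₃⁻¹ := by
          calc e * (d * a₃ * d⁻¹ * a₃⁻¹) * e⁻¹
              = (e * d * e⁻¹) * (e * a₃ * e⁻¹) * (e * d * e⁻¹)⁻¹ * (e * a₃ * e⁻¹)⁻¹ := by group
            _ = (d * b) * a₃ * d⁻¹ * (a₃⁻¹ * b⁻¹) := by rw [h8, h5]; group
            _ = b * (d * a₃ * d⁻¹ * a₃⁻¹) * b⁻¹ := by rw [← h7]; group
            _ = d * a₃ * d⁻¹ * a₃⁻¹ := by
              have h10 : b * (d * a₃ * d⁻¹ * a₃⁻¹) = (d * a₃ * d⁻¹ * a₃⁻¹) * b :=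
                hAcomm _ (hA₂A hb) _ (hA₂A (hc2 a₃ ha₃ d))
              rw [h10]; group
        rw [mul_inv_eq_iff_eq_mul] at h9
        exact h9.symm)
      have h5 : A₂ ⊓ centralizer ({e} : Set G) < A₂ := by
        refine lt_of_le_of_ne inf_le_left ?_
        intro h
        apply heC₂
        rw [hC₂, SetLike.mem_coe, mem_centralizer_iff]
        intro y hy
        rw [SetLike.mem_coe, ← h] at hy
        exact mem_centralizer_singleton_iff.mp hy.2
      have h6 := card_le_of_lt hG h5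
      rw [hA₂c, pow_two] at h6
      have h7 := Nat.le_of_mul_le_mul_right h6 hppos
      have h8 : p ^ 2 * p ^ 2 ≤ Nat.card W * p ^ 2 := by
        calc p ^ 2 * p ^ 2 = p ^ 4 := by rw [← pow_add]
          _ ≤ Nat.card (E ⊓ C₂ : Subgroup G) * p := h1
          _ ≤ (Nat.card W * p) * p := by gcongr; exact h4.trans (Nat.mul_le_mul_left _ h7)
          _ = _ := by ring
      exact Nat.le_of_mul_le_mul_right h8 (by positivity)
  have hWA : W < A := by
    refine lt_of_le_of_ne inf_le_right ?_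
    intro h
    have h1 : A ≤ E := by rw [← h]; exact inf_le_left
    apply hEA
    intro x hx
    apply hCE x hx
    rw [mem_centralizer_iff]
    intro y hy
    exact hEcomm y (h1 hy) x hx
  have hWc : Nat.card W = p ^ 2 := by
    apply le_antisymm _ hWcard
    have h1 := card_le_of_lt hG hWA
    rw [hk, pow_succ] at h1
    exact Nat.le_of_mul_le_mul_right h1 hppos
  -- `W = C_A(E)`
  have hWcen : ∀ x ∈ A, (∀ e ∈ E, e * x = x * e) → x ∈ W := by
    intro x hxA hx
    by_contra hxW
    have h1 := hgen hWA.le (by rw [hk, hWc, ← pow_succ]) hxA hxW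
    apply hEA
    intro e he
    apply hCE e he
    rw [mem_centralizer_iff]
    intro y hy
    rw [SetLike.mem_coe, h1] at hy
    exact (hcen W x e (fun b hb => hEcomm e he b hb.1) (hx e he) y hy).symm
  -- `C E` is normal
  have hCE_card : Nat.card (C ⊔ E : Subgroup G) = Nat.card C * p ^ 2 := by
    have h1 := card_sup_of_normal C E
    rw [inf_comm, hEC, hWc, hEc] at h1
    have h2 : Nat.card (C ⊔ E : Subgroup G) * p ^ 2 = (Nat.card C * p ^ 2) * p ^ 2 := by rw [h1]; ring
    exact Nat.eq_of_mul_eq_mul_right (by positivity) h2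
  have hCEn : (C ⊔ E).Normal := by
    apply normal_of_index_le hG
    rw [hCE_card]
    calc Nat.card G ≤ Nat.card C * p ^ 3 := hidx
      _ = _ := by ring
  -- a conjugate of `E` equals `E`
  have key : ∀ g : G, MulAut.conj g • E = E := by
    intro g
    by_contra hne
    obtain ⟨E', hE'⟩ : ∃ E', E' = MulAut.conj g • E := ⟨_, rfl⟩
    rw [← hE'] at hne
    have hE'card : Nat.card E' = p ^ 4 := by rw [hE', card_conj_smul, hEc]
    have hE'comm : ∀ a ∈ E', ∀ b ∈ E', a * b = b * a := by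
      intro a ha b hb
      rw [hE', mem_conj_smul] at ha hb
      have h1 := hEcomm _ ha _ hb
      have h2 : a * b = g * ((g⁻¹ * a * g) * (g⁻¹ * b * g)) * g⁻¹ := by group
      have h3 : b * a = g * ((g⁻¹ * b * g) * (g⁻¹ * a * g)) * g⁻¹ := by group
      rw [h2, h3, h1]
    have hE'exp : ∀ a ∈ E', a ^ p = 1 := by
      intro a ha
      rw [hE', mem_conj_smul] at ha
      have h1 := hEexp _ ha
      have h2 : a = g * (g⁻¹ * a * g) * g⁻¹ := by group
      rw [h2, conj_pow, h1]; group
    have hMconj : MulAut.conj g • M = M := Normal.conj_smul_eq_self g M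
    have hE'M : E' ≤ M := by rw [hE', ← hMconj]; exact pointwise_smul_le_pointwise_smul_iff.mpr hEM
    have hMNE' : M ≤ normalizer (E' : Set G) := by
      rw [hE', normalizer_conj_smul, ← hMconj]
      exact pointwise_smul_le_pointwise_smul_iff.mpr hMNE
    have hE'CE : E' ≤ C ⊔ E := by
      have h1 : MulAut.conj g • (C ⊔ E) = C ⊔ E := Normal.conj_smul_eq_self g (C ⊔ E)
      rw [← h1, hE']
      exact pointwise_smul_le_pointwise_smul_iff.mpr le_sup_right
    set X := E ⊔ E' with hX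
    have hCX : C ⊔ X = C ⊔ E := le_antisymm (sup_le le_sup_left (sup_le le_sup_right hE'CE))
      (sup_le_sup_left le_sup_left C)
    have hXcard : Nat.card X = Nat.card (C ⊓ X : Subgroup G) * p ^ 2 := by
      have h1 := card_sup_of_normal C X
      rw [hCX, hCE_card] at h1
      have h2 : Nat.card C * (Nat.card (C ⊓ X : Subgroup G) * p ^ 2) = Nat.card C * Nat.card X := by rw [← h1]; ring
      exact (Nat.eq_of_mul_eq_mul_left Nat.card_pos h2).symm
    -- elements of `X`
    have hmul : ∀ x ∈ X, ∃ e ∈ E, ∃ e' ∈ E', x = e * e' := by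
      intro x hx
      have hXM : X ≤ M := sup_le hEM hE'M
      have h1 : (E'.subgroupOf M).Normal := (normal_subgroupOf_iff_le_normalizer hE'M).mpr hMNE'
      have h2 : (⟨x, hXM hx⟩ : M) ∈ E.subgroupOf M ⊔ E'.subgroupOf M := by
        rw [← subgroupOf_sup hEM hE'M, mem_subgroupOf]; exact hx
      rw [mem_sup_of_normal_right] at h2
      obtain ⟨y, hy, z, hz, hyz⟩ := h2
      exact ⟨y, hy, z, hz, (congrArg Subtype.val hyz).symm⟩
    have hCXA : C ⊓ X ≤ A := by
      rintro x ⟨hxC, hxX⟩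
      apply hAlp x hxC
      obtain ⟨e, he, e', he', rfl⟩ := hmul x hxX
      have hcE : ⁅e'⁻¹, e⁻¹⁆ ∈ E := by
        have h1 := (mem_normalizer_iff.mp (hMNE (inv_mem (hE'M he'))) _).mp (inv_mem he)
        have h2 : ⁅e'⁻¹, e⁻¹⁆ = (e'⁻¹ * e⁻¹ * (e'⁻¹)⁻¹) * e := by rw [commutatorElement_def]; group
        rw [h2]; exact mul_mem h1 he
      have hcE' : ⁅e'⁻¹, e⁻¹⁆ ∈ E' := by
        have h1 := (mem_normalizer_iff.mp (hMNE' (inv_mem (hEM he))) _).mp he'
        have h2 : ⁅e'⁻¹, e⁻¹⁆ = e'⁻¹ * (e⁻¹ * e' * (e⁻¹)⁻¹) := by rw [commutatorElement_def]; group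
        rw [h2]; exact mul_mem (inv_mem he') h1
      have h := CfsgLib.Collect.collect (x := e) (y := e') (c := ⁅e'⁻¹, e⁻¹⁆) (d := 1) (e := 1)
        (by rw [commutatorElement_def]; group) (by rw [hEcomm _ hcE _ he, mul_one])
        (by rw [hE'comm _ hcE' _ he', mul_one])
        (Commute.one_left _) (Commute.one_left _) (Commute.one_left _) (Commute.one_left _) (Commute.one_left _)
        (Commute.one_left _) (Commute.one_left _) p
      obtain ⟨k, hk⟩ := hp.out.dvd_choose_self (k := 2) (by norm_num) (lt_of_le_of_ne hp.out.two_le (Ne.symm hp2))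
      rw [h, hEexp e he, hE'exp e' he', hk, pow_mul, hEexp _ hcE]
      simp
    have hCXc : Nat.card (C ⊓ X : Subgroup G) ≤ p ^ 3 := by rw [← hk]; exact card_le_of_le hCXA
    have hEX : E < X := by
      refine lt_of_le_of_ne le_sup_left ?_
      intro h
      apply hne
      apply eq_of_le_of_card_ge
      · rw [h]; exact le_sup_right
      · rw [hEc, hE'card]
    have h5 := card_le_of_lt hG hEX
    rw [hEc, hXcard] at h5
    have hCXc' : p ^ 3 ≤ Nat.card (C ⊓ X : Subgroup G) := by
      have h6 : p ^ 3 * p ^ 2 ≤ Nat.card (C ⊓ X : Subgroup G) * p ^ 2 := by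
        rw [← pow_add]; rw [← pow_succ] at h5; exact h5
      exact Nat.le_of_mul_le_mul_right h6 (by positivity)
    have hAX : A ≤ X := by
      have h6 : C ⊓ X = A := eq_of_le_of_card_ge hCXA (by rw [hk]; exact hCXc')
      rw [← h6]; exact inf_le_right
    -- the intersection is small
    have hint : E ⊓ E' ≤ W := by
      rintro x ⟨hx, hx'⟩
      rw [← hEC]
      refine mem_inf.mpr ⟨hx, ?_⟩
      rw [hC, mem_centralizer_iff]
      have h6 : X ≤ centralizer ({x} : Set G) := by
        apply sup_le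
        · intro y hy
          rw [mem_centralizer_singleton_iff]; exact hEcomm y hy x hx
        · intro y hy
          rw [mem_centralizer_singleton_iff]; exact hE'comm y hy x hx'
      intro y hy
      exact mem_centralizer_singleton_iff.mp (h6 (hAX hy))
    have h7 := card_le_of_le hint
    rw [hWc] at h7
    have h8 : E'.relIndex E ≤ E'.relIndex X := relIndex_le_of_le_right le_sup_left index_ne_zero_of_finite
    have h9 : Nat.card E' * E'.relIndex X = Nat.card X := CfsgLib.SolvHall.card_eq_card_mul_relIndex le_sup_right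
    have h10 : Nat.card (E ⊓ E' : Subgroup G) * E'.relIndex E = Nat.card E := by
      have h11 := CfsgLib.SolvHall.card_eq_card_mul_relIndex (inf_le_left : E ⊓ E' ≤ E)
      rwa [inf_relIndex_left] at h11
    rw [hE'card, hXcard] at h9
    have h12 : E'.relIndex X ≤ p := by
      have h13 : p ^ 4 * E'.relIndex X ≤ p ^ 4 * p := by
        rw [h9, ← pow_succ]
        calc Nat.card (C ⊓ X : Subgroup G) * p ^ 2 ≤ p ^ 3 * p ^ 2 := Nat.mul_le_mul_right _ hCXc
          _ = _ := by rw [← pow_add]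
      exact Nat.le_of_mul_le_mul_left h13 (by positivity)
    have h14 : p ^ 4 ≤ p ^ 3 := by
      rw [← hEc, ← h10]
      calc Nat.card (E ⊓ E' : Subgroup G) * E'.relIndex E ≤ p ^ 2 * p := Nat.mul_le_mul h7 (h8.trans h12)
        _ = p ^ 3 := by ring
    have := hlt 3 h14
    omega
  refine ⟨E, ?_, ⟨?_, hEexp⟩, hEc⟩
  · rw [← normalizer_eq_top_iff, eq_top_iff]
    intro g _
    rw [mem_normalizer_iff_conj_smul]
    exact key g
  · constructor
    constructor
    intro a b
    exact Subtype.ext (hEcomm a a.2 b b.2)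

theorem main {p : ℕ} [hp : Fact p.Prime] (hp2 : p ≠ 2) (n : ℕ) : ∀ (G : Type u) [Group G] [Finite G], Nat.card G ≤ n →
    IsPGroup p G → ∀ E : Subgroup G, IsElementaryAbelian p E → Nat.card E = p ^ 4 →
      ∃ A : Subgroup G, A.Normal ∧ IsElementaryAbelian p A ∧ Nat.card A = p ^ 4 := by
  induction n with
  | zero => intro G _ _ h; exact absurd h (by have := Nat.card_pos (α := G); omega)
  | succ n ih =>
    intro G _ _ hcard hG E₀ hE₀ hE₀c
    haveI : Group.IsNilpotent G := hG.isNilpotent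
    by_cases hT : E₀ = ⊤
    · exact ⟨⊤, inferInstance, hT ▸ hE₀, hT ▸ hE₀c⟩
    -- a maximal subgroup containing `E₀`, replace `E₀` by a subgroup normal in it
    obtain ⟨M, hM, hEM⟩ : ∃ M, IsCoatom M ∧ E₀ ≤ M := (eq_top_or_exists_le_coatom _).resolve_left hT
    have hMn : M.Normal := (Group.normalizerCondition_of_isNilpotent (G := G)).normal_of_coatom M hM
    have hMc := card_lt_of_ne_top hM.1
    obtain ⟨E₁, hE₁n, hE₁e, hE₁c⟩ := ih M (by omega) (hG.to_subgroup M) (E₀.subgroupOf M) (by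
      obtain ⟨hc, he⟩ := hE₀
      refine ⟨inferInstance, ?_⟩
      intro a ha
      exact Subtype.ext (he a (mem_subgroupOf.mp ha))) (by rw [card_subgroupOf hEM, hE₀c])
    obtain ⟨E, hEdef⟩ : ∃ E, E = E₁.map M.subtype := ⟨_, rfl⟩
    have hEM : E ≤ M := by rw [hEdef]; exact map_subtype_le _
    have hMNE : M ≤ normalizer (E : Set G) := by
      rw [← normal_subgroupOf_iff_le_normalizer hEM]
      have h1 : E.subgroupOf M = E₁ := by
        rw [hEdef, Subgroup.subgroupOf, comap_map_eq_self_of_injective M.subtype_injective]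
      rw [h1]; exact hE₁n
    have hEc : Nat.card E = p ^ 4 := by rw [hEdef, card_map_of_injective M.subtype_injective, hE₁c]
    have hEcomm : ∀ a ∈ E, ∀ b ∈ E, a * b = b * a := by
      rw [hEdef]
      rintro _ ⟨a, ha, rfl⟩ _ ⟨b, hb, rfl⟩
      have h1 := hE₁e.1.is_comm.comm (⟨a, ha⟩ : E₁) ⟨b, hb⟩
      have h2 : a * b = b * a := congrArg Subtype.val h1
      rw [← map_mul, ← map_mul, h2]
    have hEexp : ∀ a ∈ E, a ^ p = 1 := by
      rw [hEdef]
      rintro _ ⟨a, ha, rfl⟩
      rw [← map_pow, hE₁e.2 a ha, map_one]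
    clear hE₁n hE₁e hE₁c hEdef E₁
    exact core hp2 hG E hEcomm hEexp hEc M hMn hEM hMNE

end CfsgLib.RankFour
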