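import Cfsg.Agent.LibFus21Ex2
import Cfsg.Agent.LibRankFour

set_option autoImplicit false

/-! Extraspecial subgroups of index `p`. -/

namespace CfsgLib.Fus21

open Cfsg Cfsg.FusionSystem

variable {Ω : Type*} [Group Ω] {S : Subgroup Ω}

structure ESpS (S Q : Subgroup Ω) (p : ℕ) (z : Ω) : Prop where
  zQ : z ∈ Q
  ord : orderOf z = p
  cen : ∀ s ∈ S, s * z = z * s
  cenQ : ∀ w, w ∈ Q ⊓ Subgroup.centralizer (Q : Set Ω) ↔ w ∈ Subgroup.zpowers z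
  comm : ∀ x ∈ Q, ∀ y ∈ Q, x * y * x⁻¹ * y⁻¹ ∈ Subgroup.zpowers z
  pow : ∀ x ∈ Q, x ^ p ∈ Subgroup.zpowers z
  nab : ∃ x ∈ Q, ∃ y ∈ Q, x * y ≠ y * x
  norm : ∀ s ∈ S, ∀ x ∈ Q, s * x * s⁻¹ ∈ Q

theorem exists_eSpS [Finite S] {p : ℕ} [hp : Fact p.Prime] (hS : IsPGroup p S) {Q : Subgroup Ω} (hQS : Q ≤ S)
    (hQ : Cfsg.IsExtraspecial p ↥Q) (hQi : (Q.subgroupOf S).index = p) : ∃ z, ESpS S Q p z := by
  obtain ⟨⟨hQp, hfr, hcm⟩, hcard⟩ := hQ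
  haveI : Finite Q := finite_of_le hQS
  obtain ⟨z0, hz0⟩ : ∃ z0 : Q, Subgroup.zpowers z0 = Subgroup.center Q := by
    haveI : IsCyclic (Subgroup.center Q) := isCyclic_of_prime_card hcard
    exact (Subgroup.isCyclic_iff_exists_zpowers_eq_top _).1 inferInstance
  have hoz0 : orderOf z0 = p := by rw [← Nat.card_zpowers, hz0, hcard]
  have hmemz : ∀ x (hx : x ∈ Q), x ∈ Subgroup.zpowers (z0 : Ω) ↔ (⟨x, hx⟩ : Q) ∈ Subgroup.center Q := by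
    intro x hx
    rw [← hz0]
    constructor
    · rintro ⟨n, hn⟩
      exact ⟨n, Subtype.ext hn⟩
    · rintro ⟨n, hn⟩
      exact ⟨n, congrArg Subtype.val hn⟩
  have hQn : (Q.subgroupOf S).Normal := by
    apply CfsgLib.RankFour.normal_of_index_le (p := p) hS
    rw [← (Q.subgroupOf S).card_mul_index, hQi]
  have hnorm : ∀ s ∈ S, ∀ x ∈ Q, s * x * s⁻¹ ∈ Q := fun s hs x hx => hQn.conj_mem ⟨x, hQS hx⟩ hx ⟨s, hs⟩
  refine ⟨z0, z0.2, by rw [Subgroup.orderOf_coe]; exact hoz0, ?_, ?_, ?_, ?_, ?_, hnorm⟩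
  · have hK : (((Subgroup.center Q).map Q.subtype).subgroupOf S).Normal := by
      refine ⟨?_⟩
      rintro ⟨_, hx⟩ ⟨x, hxc, rfl⟩ s
      refine ⟨⟨(s : Ω) * x * (s : Ω)⁻¹, hnorm s s.2 x x.2⟩, ?_, rfl⟩
      show (⟨(s : Ω) * x * (s : Ω)⁻¹, hnorm s s.2 x x.2⟩ : Q) ∈ Subgroup.center Q
      rw [Subgroup.mem_center_iff]
      intro y
      have h1 := hnorm _ (S.inv_mem s.2) y y.2
      have h2 := congrArg Subtype.val (Subgroup.mem_center_iff.1 hxc ⟨_, h1⟩)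
      have h3 : (s : Ω)⁻¹ * y * (s : Ω)⁻¹⁻¹ * x = x * ((s : Ω)⁻¹ * y * (s : Ω)⁻¹⁻¹) := h2
      apply Subtype.ext
      show (y : Ω) * ((s : Ω) * x * (s : Ω)⁻¹) = (s : Ω) * x * (s : Ω)⁻¹ * y
      calc (y : Ω) * ((s : Ω) * x * (s : Ω)⁻¹) = s * ((s : Ω)⁻¹ * y * (s : Ω)⁻¹⁻¹ * x) * (s : Ω)⁻¹ := by group
        _ = _ := by rw [h3]; group
    have hKS : (Subgroup.center Q).map Q.subtype ≤ S := (Subgroup.map_subtype_le _).trans hQS
    have h1 := CfsgLib.PCyc.le_center_of_card_eq hp.out hS (((Subgroup.center Q).map Q.subtype).subgroupOf S) (by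
      rw [Nat.card_congr (Subgroup.subgroupOfEquivOfLe hKS).toEquiv, Subgroup.card_map_of_injective Q.subtype_injective, hcard])
    intro s hs
    have h2 : (⟨z0, hQS z0.2⟩ : S) ∈ ((Subgroup.center Q).map Q.subtype).subgroupOf S := by
      refine ⟨z0, ?_, rfl⟩
      rw [← hz0]; exact Subgroup.mem_zpowers z0
    exact congrArg Subtype.val (Subgroup.mem_center_iff.1 (h1 h2) ⟨s, hs⟩)
  · intro w
    constructor
    · rintro ⟨hw, hwc⟩
      rw [hmemz w hw, Subgroup.mem_center_iff]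
      intro y
      exact Subtype.ext (Subgroup.mem_centralizer_iff.1 hwc y y.2)
    · intro hw
      have hwQ : w ∈ Q := (Subgroup.zpowers_le.2 z0.2) hw
      refine ⟨hwQ, Subgroup.mem_centralizer_iff.2 fun y hy => ?_⟩
      exact congrArg Subtype.val (Subgroup.mem_center_iff.1 ((hmemz w hwQ).1 hw) ⟨y, hy⟩)
  · intro x hx y hy
    rw [hmemz _ (Q.mul_mem (Q.mul_mem (Q.mul_mem hx hy) (Q.inv_mem hx)) (Q.inv_mem hy)), ← hcm]
    exact Subgroup.commutator_mem_commutator (g₁ := (⟨x, hx⟩ : Q)) (g₂ := ⟨y, hy⟩) (Subgroup.mem_top _) (Subgroup.mem_top _)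
  · intro x hx
    rw [hmemz _ (Q.pow_mem hx p), ← hfr]
    exact CfsgLib.LE.pow_mem_frattini hQp ⟨x, hx⟩
  · by_contra hno
    push Not at hno
    have h1 : commutator Q = ⊥ := by
      rw [commutator_eq_bot_iff_center_eq_top, Subgroup.eq_top_iff']
      intro x
      rw [Subgroup.mem_center_iff]
      intro y
      exact Subtype.ext (hno y y.2 x x.2)
    rw [hcm] at h1
    rw [h1, Subgroup.card_bot] at hcard
    exact hp.out.one_lt.ne hcard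

theorem center_eq_of_core [Finite S] {p : ℕ} [hp : Fact p.Prime] (hp2 : p ≠ 2) (hS : IsPGroup p S) {Q : Subgroup Ω} (hQS : Q ≤ S)
    (hQi : (Q.subgroupOf S).index = p) {z : Ω} (hE : ESpS S Q p z)
    {F : FusionSystem S} (hF : F.IsSaturated p) (hO : F.core = ⊥) :
    S ⊓ Subgroup.centralizer (S : Set Ω) = Q ⊓ Subgroup.centralizer (Q : Set Ω) := by
  have hZc : ∀ w ∈ Subgroup.zpowers z, ∀ s ∈ S, s * w = w * s := by
    rintro _ ⟨n, rfl⟩ s hs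
    exact ((show Commute s z from hE.cen s hs).zpow_right n).eq
  by_contra hne
  obtain ⟨ζ, hζS, hζc, hζQ⟩ : ∃ ζ, ζ ∈ S ∧ ζ ∈ Subgroup.centralizer (S : Set Ω) ∧ ζ ∉ Q := by
    by_contra hno
    push Not at hno
    apply hne
    apply le_antisymm
    · rintro x ⟨hx, hxc⟩
      exact ⟨hno x hx hxc, Subgroup.centralizer_le (show (Q : Set Ω) ⊆ S from hQS) hxc⟩
    · intro x hx
      rw [hE.cenQ] at hx
      exact ⟨hQS ((Subgroup.zpowers_le.2 hE.zQ) hx), Subgroup.mem_centralizer_iff.2 fun s hs => hZc x hx s hs⟩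
  haveI hQn : (Q.subgroupOf S).Normal := by
    refine ⟨fun x hx s => ?_⟩
    exact hE.norm s s.2 x hx
  have htop : Q.subgroupOf S ⊔ Subgroup.zpowers (⟨ζ, hζS⟩ : S) = ⊤ := by
    have h1 : (Q.subgroupOf S ⊔ Subgroup.zpowers (⟨ζ, hζS⟩ : S)).index ∣ p := by
      rw [← hQi]; exact Subgroup.index_dvd_of_le le_sup_left
    rcases (Nat.dvd_prime hp.out).1 h1 with h | h
    · exact Subgroup.index_eq_one.1 h
    · exfalso
      have h2 : Q.subgroupOf S = Q.subgroupOf S ⊔ Subgroup.zpowers (⟨ζ, hζS⟩ : S) := by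
        apply Subgroup.eq_of_le_of_card_ge le_sup_left
        have h3 := (Q.subgroupOf S).card_mul_index
        have h4 := (Q.subgroupOf S ⊔ Subgroup.zpowers (⟨ζ, hζS⟩ : S)).card_mul_index
        rw [hQi] at h3
        rw [h, ← h3] at h4
        exact (Nat.eq_of_mul_eq_mul_right hp.out.pos h4).le
      apply hζQ
      have h5 : (⟨ζ, hζS⟩ : S) ∈ Q.subgroupOf S := by
        rw [h2]; exact Subgroup.mem_sup_right (Subgroup.mem_zpowers _)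
      exact h5
  have hdec : ∀ s ∈ S, ∃ q ∈ Q, ∃ n : ℤ, s = q * ζ ^ n := by
    intro s hs
    obtain ⟨q, hq, _, ⟨n, rfl⟩, h⟩ := Subgroup.mem_sup_of_normal_left.1 (show (⟨s, hs⟩ : S) ∈ Q.subgroupOf S ⊔ Subgroup.zpowers (⟨ζ, hζS⟩ : S) by rw [htop]; trivial)
    exact ⟨q, hq, n, (congrArg Subtype.val h).symm⟩
  have hζcomm : ∀ s ∈ S, ∀ n : ℤ, Commute s (ζ ^ n) := fun s hs n =>
    (show Commute s ζ from Subgroup.mem_centralizer_iff.1 hζc s hs).zpow_right n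
  have hζp : ζ ^ p ∈ Subgroup.zpowers z := by
    rw [← hE.cenQ]
    have h1 := Subgroup.pow_index_mem (Q.subgroupOf S) (⟨ζ, hζS⟩ : S)
    rw [hQi] at h1
    exact ⟨h1, Subgroup.mem_centralizer_iff.2 fun y hy => ((show Commute y ζ from Subgroup.mem_centralizer_iff.1 hζc y (hQS hy)).pow_right p).eq⟩
  have hG : GEH S p z := by
    refine ⟨hQS hE.zQ, hE.ord, hE.cen, ?_, ?_⟩
    · intro x hx y hy
      obtain ⟨q, hq, n, rfl⟩ := hdec x hx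
      obtain ⟨r, hr, m, rfl⟩ := hdec y hy
      have hqS := hQS hq
      have hrS := hQS hr
      have h1 : q * ζ ^ n * (r * ζ ^ m) * (q * ζ ^ n)⁻¹ * (r * ζ ^ m)⁻¹ = q * r * q⁻¹ * r⁻¹ := by
        have c1 := (hζcomm r hrS n).eq
        have c2 := (hζcomm q⁻¹ (S.inv_mem hqS) m).eq
        have c3 := (hζcomm r⁻¹ (S.inv_mem hrS) n).eq
        have c4 : ζ ^ n * ζ ^ m = ζ ^ m * ζ ^ n := by rw [← zpow_add, ← zpow_add, add_comm]
        have c5 : ζ ^ n * r = r * ζ ^ n := c1.symm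
        have c6 : (q * ζ ^ n)⁻¹ = q⁻¹ * (ζ ^ n)⁻¹ := by
          rw [mul_inv_rev]
          exact ((hζcomm q⁻¹ (S.inv_mem hqS) n).inv_right).eq.symm
        have c7 : (r * ζ ^ m)⁻¹ = r⁻¹ * (ζ ^ m)⁻¹ := by
          rw [mul_inv_rev]
          exact ((hζcomm r⁻¹ (S.inv_mem hrS) m).inv_right).eq.symm
        have c8 : (ζ ^ n)⁻¹ * r⁻¹ = r⁻¹ * (ζ ^ n)⁻¹ := ((hζcomm r⁻¹ (S.inv_mem hrS) n).inv_right).eq.symm
        rw [c6, c7]
        calc q * ζ ^ n * (r * ζ ^ m) * (q⁻¹ * (ζ ^ n)⁻¹) * (r⁻¹ * (ζ ^ m)⁻¹)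
            = q * (ζ ^ n * r) * (ζ ^ m * q⁻¹) * ((ζ ^ n)⁻¹ * r⁻¹) * (ζ ^ m)⁻¹ := by group
          _ = q * r * (ζ ^ n * q⁻¹) * (ζ ^ m * r⁻¹) * (ζ ^ n)⁻¹ * (ζ ^ m)⁻¹ := by rw [c5, ← c2, c8]; group
          _ = q * r * (q⁻¹ * ζ ^ n) * (r⁻¹ * ζ ^ m) * (ζ ^ n)⁻¹ * (ζ ^ m)⁻¹ := by
              rw [(hζcomm q⁻¹ (S.inv_mem hqS) n).eq, (hζcomm r⁻¹ (S.inv_mem hrS) m).eq]
          _ = q * r * q⁻¹ * (ζ ^ n * r⁻¹) * (ζ ^ m * (ζ ^ n)⁻¹) * (ζ ^ m)⁻¹ := by group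
          _ = q * r * q⁻¹ * r⁻¹ * (ζ ^ n * ζ ^ m) * (ζ ^ n)⁻¹ * (ζ ^ m)⁻¹ := by rw [← c3]; group
          _ = q * r * q⁻¹ * r⁻¹ := by rw [c4]; group
      rw [h1]
      exact hE.comm q hq r hr
    · intro x hx
      obtain ⟨q, hq, n, rfl⟩ := hdec x hx
      rw [(hζcomm q (hQS hq) n).mul_pow]
      refine Subgroup.mul_mem _ (hE.pow q hq) ?_
      rw [← zpow_natCast, ← zpow_mul, mul_comm, zpow_mul, zpow_natCast]
      exact Subgroup.zpow_mem _ hζp n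
  have hchar : ∀ α : MulAut S, ∀ w : S, (w : Ω) ∈ Subgroup.zpowers z → ((α w : S) : Ω) ∈ Subgroup.zpowers z := by
    obtain ⟨x, hx, y, hy, hxy⟩ := hE.nab
    obtain ⟨c, hc⟩ : ∃ c, x * y * x⁻¹ * y⁻¹ = c := ⟨_, rfl⟩
    have hcz := hc ▸ hE.comm x hx y hy
    have hc1 : c ≠ 1 := by
      rintro rfl
      apply hxy
      rw [mul_inv_eq_one, mul_inv_eq_iff_eq_mul] at hc
      exact hc
    have hzc : z ∈ Subgroup.zpowers c := by
      have hle : Subgroup.zpowers c ≤ Subgroup.zpowers z := Subgroup.zpowers_le.2 hcz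
      haveI : Finite (Subgroup.zpowers z) := Nat.finite_of_card_ne_zero (by
        rw [Nat.card_zpowers, hE.ord]; exact hp.out.ne_zero)
      have h1 : Subgroup.zpowers c = Subgroup.zpowers z := by
        apply Subgroup.eq_of_le_of_card_ge hle
        rw [Nat.card_zpowers, Nat.card_zpowers, hE.ord, orderOf_eq_prime (hG.zpow hcz) hc1]
      rw [h1]; exact Subgroup.mem_zpowers z
    intro α w hw
    have hwc : (w : Ω) ∈ Subgroup.zpowers c := (Subgroup.zpowers_le.2 hzc) hw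
    obtain ⟨n, hn⟩ := hwc
    have hcS : c ∈ S := by rw [← hc]; exact S.mul_mem (S.mul_mem (S.mul_mem (hQS hx) (hQS hy)) (S.inv_mem (hQS hx))) (S.inv_mem (hQS hy))
    have h1 : w = ⟨c, hcS⟩ ^ n := Subtype.ext hn.symm
    rw [h1, map_zpow]
    apply Subgroup.zpow_mem
    have h2 : (⟨c, hcS⟩ : S) = ⟨x, hQS hx⟩ * ⟨y, hQS hy⟩ * ⟨x, hQS hx⟩⁻¹ * ⟨y, hQS hy⟩⁻¹ := Subtype.ext hc.symm
    rw [h2, map_mul, map_mul, map_mul, map_inv, map_inv]
    exact hG.comm _ (α ⟨x, hQS hx⟩).2 _ (α ⟨y, hQS hy⟩).2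
  have h1 := center_of_core_bot hp2 hS hF hO hG hchar hζS hζc
  exact hζQ ((Subgroup.zpowers_le.2 hE.zQ) h1)

end CfsgLib.Fus21
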