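import Cfsg.Agent.LibFus21Ex3
import Cfsg.Agent.LibFus21SE
import Cfsg.Agent.LibFus21Tv5

set_option autoImplicit false

/-! Essential subgroups of an extraspecial subgroup of index `p`. -/

namespace CfsgLib.Fus21

open Cfsg Cfsg.FusionSystem

theorem mem_normalizer_zpowers_of_commute {X : Type*} [Group X] {a b : X} (h : Commute a b) :
    b ∈ Subgroup.normalizer ((Subgroup.zpowers a : Subgroup X) : Set X) := by
  have key : ∀ x ∈ Subgroup.zpowers a, b * x * b⁻¹ = x := by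
    rintro _ ⟨n, rfl⟩
    have h1 : b * a ^ n = a ^ n * b := ((h.zpow_left n).eq).symm
    show b * a ^ n * b⁻¹ = a ^ n
    rw [h1, mul_inv_cancel_right]
  have key2 : ∀ x ∈ Subgroup.zpowers a, b⁻¹ * x * b = x := by
    intro x hx
    have h1 := key x hx
    calc b⁻¹ * x * b = b⁻¹ * (b * x * b⁻¹) * b := by rw [h1]
      _ = x := by group
  rw [Subgroup.mem_normalizer_iff]
  intro x
  constructor
  · intro hx
    rw [key x hx]; exact hx
  · intro hx
    have h1 := key2 _ hx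
    have h2 : b⁻¹ * (b * x * b⁻¹) * b = x := by group
    rw [h2] at h1
    rw [h1]; exact hx

/-- no strongly `p`-embedded subgroup in the presence of a well linked abelian `p`-subgroup -/
theorem no_spe_of_linked {X : Type*} [Group X] [Finite X] {p : ℕ} [hp : Fact p.Prime] {M : Subgroup X}
    (hM : IsStronglyPEmbedded p M) {A0 : Subgroup X} (hA0 : IsPGroup p A0) (hab : ∀ a ∈ A0, ∀ b ∈ A0, Commute a b)
    (hl : ∀ g : X, ∃ a ∈ A0, ∃ b ∈ A0, a ≠ 1 ∧ b ≠ 1 ∧ Commute a (g * b * g⁻¹)) : False := by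
  obtain ⟨-, hMne, P, hPM⟩ := hM
  have hnt : A0 ≠ ⊥ := by
    obtain ⟨a, ha, -, -, ha1, -⟩ := hl 1
    rintro rfl
    exact ha1 (Subgroup.mem_bot.1 ha)
  have hE : ∀ Q ≤ (P : Subgroup X), Q ≠ ⊥ → Subgroup.normalizer (Q : Set X) ≤ M := fun Q hQ hne =>
    (normalizer_le_kGen P.2 hQ hne).trans hPM
  obtain ⟨g0, hg0⟩ := exists_conj_le_sylow P hA0
  have hPne : (P : Subgroup X) ≠ ⊥ := by
    intro h
    rw [h, le_bot_iff, Subgroup.map_eq_bot_iff_of_injective _ (MulAut.conj g0).injective] at hg0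
    exact hnt hg0
  have hPE : (P : Subgroup X) ≤ M := Subgroup.le_normalizer.trans (hE P le_rfl hPne)
  have hPi : ¬ p ∣ (P : Subgroup X).relIndex M := by
    intro h
    exact P.not_dvd_index (h.trans (Subgroup.relIndex_dvd_index_of_le hPE))
  have step1 : ∀ Q : Subgroup X, IsPGroup p Q → Q ≤ M → Q ≠ ⊥ → Subgroup.normalizer (Q : Set X) ≤ M := by
    intro Q hQ hQE hQne
    obtain ⟨e, he, hle⟩ := exists_conj_le P.2 hPi hQE hQ
    have hne : Q.map (MulAut.conj e).toMonoidHom ≠ ⊥ := by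
      intro h
      rw [Subgroup.map_eq_bot_iff_of_injective _ (MulAut.conj e).injective] at h
      exact hQne h
    have h1 := hE _ hle hne
    rw [normalizer_conjMap] at h1
    intro y hy
    have h2 := h1 (conj_mem_conjMap.2 hy)
    have : y = e⁻¹ * (e * y * e⁻¹) * e := by group
    rw [this]
    exact M.mul_mem (M.mul_mem (M.inv_mem he) h2) he
  have hpow : ∀ a ∈ A0, ∀ g : X, IsPGroup p (Subgroup.zpowers (g * a * g⁻¹)) := by
    intro a ha g
    have h1 : Subgroup.zpowers (g * a * g⁻¹) = (Subgroup.zpowers a).map (MulAut.conj g).toMonoidHom := by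
      rw [MonoidHom.map_zpowers]; rfl
    rw [h1]
    exact (hA0.to_le (Subgroup.zpowers_le.2 ha)).map _
  have step2 : ∀ a ∈ A0, a ≠ 1 → ∀ g b : X, g * a * g⁻¹ ∈ M → Commute (g * a * g⁻¹) b → b ∈ M := by
    intro a ha ha1 g b hga hcom
    refine step1 _ (hpow a ha g) (Subgroup.zpowers_le.2 hga) ?_ (mem_normalizer_zpowers_of_commute hcom)
    rw [Ne, Subgroup.zpowers_eq_bot]
    intro h
    apply ha1
    have h2 : a = g⁻¹ * (g * a * g⁻¹) * g := by group
    rw [h2, h]; group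
  have step3 : ∀ g : X, ∀ c ∈ A0, g * c * g⁻¹ ∈ M := by
    intro g c hc
    obtain ⟨a, ha, b, hb, ha1, hb1, hcom⟩ := hl (g0⁻¹ * g)
    have h1 : Commute (g0 * a * g0⁻¹) (g * b * g⁻¹) := by
      have h2 := (MulAut.conj g0).toMonoidHom.map_mul a (g0⁻¹ * g * b * (g0⁻¹ * g)⁻¹)
      show g0 * a * g0⁻¹ * (g * b * g⁻¹) = g * b * g⁻¹ * (g0 * a * g0⁻¹)
      have h3 := hcom.eq
      calc g0 * a * g0⁻¹ * (g * b * g⁻¹) = g0 * (a * (g0⁻¹ * g * b * (g0⁻¹ * g)⁻¹)) * g0⁻¹ := by group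
        _ = g0 * ((g0⁻¹ * g * b * (g0⁻¹ * g)⁻¹) * a) * g0⁻¹ := by rw [h3]
        _ = _ := by group
    have h4 : g0 * a * g0⁻¹ ∈ M := hPE (hg0 ⟨a, ha, rfl⟩)
    have h5 : g * b * g⁻¹ ∈ M := step2 a ha ha1 g0 _ h4 h1
    refine step2 b hb hb1 g _ h5 ?_
    have h6 := (hab b hb c hc).eq
    show g * b * g⁻¹ * (g * c * g⁻¹) = g * c * g⁻¹ * (g * b * g⁻¹)
    calc g * b * g⁻¹ * (g * c * g⁻¹) = g * (b * c) * g⁻¹ := by group
      _ = g * (c * b) * g⁻¹ := by rw [h6]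
      _ = _ := by group
  obtain ⟨N, hN⟩ : ∃ N, Subgroup.normalClosure (A0 : Set X) = N := ⟨_, rfl⟩
  haveI hNn : N.Normal := by rw [← hN]; infer_instance
  have hNM : N ≤ M := by
    rw [← hN]
    refine (Subgroup.closure_le _).2 ?_
    intro x hx
    obtain ⟨a, ha, hax⟩ := Group.mem_conjugatesOfSet_iff.1 hx
    obtain ⟨c, rfl⟩ := _root_.isConj_iff.1 hax
    exact step3 c a ha
  have hAN : A0 ≤ N := by rw [← hN]; exact Subgroup.le_normalClosure
  obtain ⟨R, hR⟩ := (hA0.comap_of_injective N.subtype N.subtype_injective).exists_le_sylow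
  have h1 := Sylow.normalizer_sup_eq_top R
  have hAR : A0 ≤ (R : Subgroup N).map N.subtype := fun a ha => ⟨⟨a, hAN ha⟩, hR ha, rfl⟩
  have hRM : (R : Subgroup N).map N.subtype ≤ M := (Subgroup.map_subtype_le _).trans hNM
  have h2 := step1 _ (R.2.map _) hRM (fun h => hnt (le_bot_iff.1 (h ▸ hAR)))
  apply hMne
  rw [← top_le_iff, ← h1]
  exact sup_le h2 hNM

variable {Ω : Type*} [Group Ω] {S : Subgroup Ω}

theorem card_le_of_comm {H K : Subgroup Ω} [Finite K] (hHK : H ≤ K) {z w : Ω} {p : ℕ} (hz : orderOf z = p) (hp : p ≠ 0)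
    (h1 : ∀ x ∈ K, x * w * x⁻¹ * w⁻¹ ∈ Subgroup.zpowers z) (h2 : ∀ x ∈ K, x * w = w * x → x ∈ H) :
    Nat.card K ≤ p * Nat.card H := by
  have h3 : (H.subgroupOf K).index ≤ p := by
    haveI : Finite (Subgroup.zpowers z) := Nat.finite_of_card_ne_zero (by
      rw [Nat.card_zpowers, hz]; exact hp)
    rw [← hz, ← Nat.card_zpowers, Subgroup.index]
    refine Nat.card_le_card_of_injective (fun c : K ⧸ H.subgroupOf K => (⟨_, h1 c.out c.out.2⟩ : Subgroup.zpowers z)) ?_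
    intro c d hcd
    have h4 : (c.out : Ω) * w * (c.out : Ω)⁻¹ * w⁻¹ = (d.out : Ω) * w * (d.out : Ω)⁻¹ * w⁻¹ := congrArg Subtype.val hcd
    have h5 : (c.out : Ω) * w * (c.out : Ω)⁻¹ = (d.out : Ω) * w * (d.out : Ω)⁻¹ := mul_right_cancel h4
    rw [← QuotientGroup.out_eq' c, ← QuotientGroup.out_eq' d, QuotientGroup.eq, Subgroup.mem_subgroupOf]
    refine h2 _ (c.out⁻¹ * d.out).2 ?_
    rw [Subgroup.coe_mul, Subgroup.coe_inv]
    calc (c.out : Ω)⁻¹ * d.out * w = (c.out : Ω)⁻¹ * (d.out * w * (d.out : Ω)⁻¹) * d.out := by group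
      _ = w * ((c.out : Ω)⁻¹ * d.out) := by rw [← h5]; group
  rw [← Nat.card_congr (Subgroup.subgroupOfEquivOfLe hHK).toEquiv, ← (H.subgroupOf K).card_mul_index, mul_comm]
  exact Nat.mul_le_mul_right _ h3

/-- essential subgroups in an extraspecial subgroup of index `p` -/
theorem eq_of_essential_le [Finite S] {p : ℕ} [hp : Fact p.Prime] (hS : IsPGroup p S) {Q : Subgroup Ω} (hQS : Q ≤ S)
    (hQi : (Q.subgroupOf S).index = p) {z : Ω} (hG : ESpS S Q p z) (h5 : p ^ 6 ≤ Nat.card S)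
    {F : FusionSystem S} {E : Subgroup Ω} (hEQ : E ≤ Q) (hE : F.IsEssential p E) : E = Q := by
  by_contra hne
  have hZc : ∀ w ∈ Subgroup.zpowers z, ∀ s ∈ S, s * w = w * s := by
    rintro _ ⟨n, rfl⟩ s hs
    exact ((show Commute s z from hG.cen s hs).zpow_right n).eq
  have hES : E ≤ S := hEQ.trans hQS
  haveI : Finite E := finite_of_le hES
  have hcc := centric_centralizer_le hE.1
  have hzE : z ∈ E := hcc (mem_centralizerIn'.2 ⟨hQS hG.zQ, fun x hx => by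
    rw [← hG.cen x (hES hx), mul_inv_cancel_right]⟩)
  have hZE : Subgroup.zpowers z ≤ E := Subgroup.zpowers_le.2 hzE
  have hQN : ∀ q ∈ Q, q ∈ Subgroup.normalizer (E : Set Ω) := by
    have h1 : ∀ q ∈ Q, ∀ x ∈ E, q * x * q⁻¹ ∈ E := by
      intro q hq x hx
      have h2 : q * x * q⁻¹ = q * x * q⁻¹ * x⁻¹ * x := by group
      rw [h2]
      exact E.mul_mem (hZE (hG.comm q hq x (hEQ hx))) hx
    intro q hq
    rw [Subgroup.mem_normalizer_iff]
    refine fun x => ⟨h1 q hq x, fun hx => ?_⟩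
    have h2 := h1 q⁻¹ (Q.inv_mem hq) _ hx
    have h3 : q⁻¹ * (q * x * q⁻¹) * q⁻¹⁻¹ = x := by group
    rw [h3] at h2
    exact h2
  obtain ⟨q0, hq0, hq0E⟩ : ∃ q0 ∈ Q, q0 ∉ E := by
    by_contra hno
    push Not at hno
    exact hne (le_antisymm hEQ hno)
  have hconj : ∀ q ∈ Q, ∃ α ∈ F.autGroup E, ∀ x : E, ((α x : E) : Ω) = q * x * q⁻¹ := by
    intro q hq
    obtain ⟨α, hα⟩ := exists_conjAut (hQN q hq)
    exact ⟨α, autInducedBy_le_autGroup F hES (mem_autInducedBy.2 ⟨q, hQS hq, hα⟩), hα⟩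
  -- the centre is not invariant
  have hnoinv : ¬ ∀ α ∈ F.autGroup E, ∀ x ∈ (Subgroup.zpowers z).subgroupOf E, α x ∈ (Subgroup.zpowers z).subgroupOf E := by
    intro hinv
    obtain ⟨α, hαA, hα⟩ := hconj q0 hq0
    have h1 : α ∈ Inn E := by
      refine chain3_inn (hS.to_le hES) (essential_hrad hS hE) (R0 := ⊤) (V := (Subgroup.zpowers z).subgroupOf E) le_top
        (fun _ _ _ _ => Subgroup.mem_top _) hinv hαA (fun _ => Subgroup.mem_top _) ?_ ?_
      · intro x _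
        rw [Subgroup.mem_subgroupOf]
        have h2 : ((x⁻¹ * α x : E) : Ω) = (x : Ω)⁻¹ * q0 * (x : Ω) * q0⁻¹ := by
          rw [Subgroup.coe_mul, Subgroup.coe_inv, hα]; group
        rw [h2]
        have h3 := hG.comm _ (Q.inv_mem (hEQ x.2)) q0 hq0
        rw [inv_inv] at h3
        exact h3
      · intro x hx
        apply Subtype.ext
        rw [hα, hZc (x : Ω) hx q0 (hQS hq0), mul_inv_cancel_right]
    exact hq0E (mem_of_conjAut_inner hE.1 (hQS hq0) hα h1)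
  have hEab : ∀ x ∈ E, ∀ y ∈ E, x * y = y * x := by
    by_contra hno
    push Not at hno
    obtain ⟨x, hx, y, hy, hxy⟩ := hno
    apply hnoinv
    obtain ⟨c, hc⟩ : ∃ c, x * y * x⁻¹ * y⁻¹ = c := ⟨_, rfl⟩
    have hcz : c ∈ Subgroup.zpowers z := hc ▸ hG.comm x (hEQ hx) y (hEQ hy)
    have hc1 : c ≠ 1 := by
      rintro rfl
      apply hxy
      rw [mul_inv_eq_one, mul_inv_eq_iff_eq_mul] at hc
      exact hc
    have hzp : ∀ w ∈ Subgroup.zpowers z, w ^ p = 1 := by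
      rintro _ ⟨n, rfl⟩
      show (z ^ n) ^ p = 1
      rw [← zpow_natCast, ← zpow_mul, mul_comm, zpow_mul, zpow_natCast, ← hG.ord, pow_orderOf_eq_one, one_zpow]
    have hzc : Subgroup.zpowers c = Subgroup.zpowers z := by
      haveI : Finite (Subgroup.zpowers z) := Nat.finite_of_card_ne_zero (by
        rw [Nat.card_zpowers, hG.ord]; exact hp.out.ne_zero)
      apply Subgroup.eq_of_le_of_card_ge (Subgroup.zpowers_le.2 hcz)
      rw [Nat.card_zpowers, Nat.card_zpowers, hG.ord, orderOf_eq_prime (hzp c hcz) hc1]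
    intro α hα w hw
    rw [Subgroup.mem_subgroupOf, ← hzc] at hw
    obtain ⟨n, hn⟩ := hw
    have hcE : c ∈ E := hZE hcz
    have h1 : w = (⟨x, hx⟩ * ⟨y, hy⟩ * ⟨x, hx⟩⁻¹ * ⟨y, hy⟩⁻¹ : E) ^ n := by
      apply Subtype.ext
      rw [← hn, ← hc]
      rfl
    rw [h1, map_zpow]
    refine Subgroup.zpow_mem _ ?_ n
    rw [map_mul, map_mul, map_mul, map_inv, map_inv]
    exact hG.comm _ (hEQ (α ⟨x, hx⟩).2) _ (hEQ (α ⟨y, hy⟩).2)
  have hpE : IsPGroup p E := hS.to_le hES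
  -- (★)
  have hstar : ∀ w ∈ E, ∃ q ∈ Q, q ∉ E ∧ q * w = w * q := by
    intro w hw
    by_contra hno
    push Not at hno
    haveI : Finite Q := finite_of_le hQS
    have h1 : Nat.card Q ≤ p * Nat.card E := by
      refine card_le_of_comm hEQ hG.ord hp.out.ne_zero (fun x hx => hG.comm x hx w (hEQ hw)) ?_
      intro x hx hxw
      by_contra hxE
      exact hno x hx hxE hxw
    have h2 : Nat.card E ≤ p * Nat.card ↥(E ⊓ Subgroup.centralizer {q0}) := by
      refine card_le_of_comm inf_le_left hG.ord hp.out.ne_zero (fun x hx => hG.comm x (hEQ hx) q0 hq0) ?_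
      intro x hx hxw
      refine ⟨hx, Subgroup.mem_centralizer_iff.2 ?_⟩
      rintro _ rfl
      exact hxw.symm
    have h3 : E ⊓ Subgroup.centralizer {q0} ≤ Subgroup.zpowers z := by
      rintro d ⟨hd, hdq⟩
      rw [← hG.cenQ]
      refine ⟨hEQ hd, ?_⟩
      have hle : Q ⊓ Subgroup.centralizer {d} ≤ Q := inf_le_left
      have hEle : E ≤ Q ⊓ Subgroup.centralizer {d} := by
        intro e he
        refine ⟨hEQ he, Subgroup.mem_centralizer_iff.2 ?_⟩
        rintro _ rfl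
        exact hEab _ hd _ he
      have hq0d : q0 ∈ Q ⊓ Subgroup.centralizer {d} := by
        refine ⟨hq0, Subgroup.mem_centralizer_iff.2 ?_⟩
        rintro _ rfl
        exact (Subgroup.mem_centralizer_iff.1 hdq q0 rfl).symm
      haveI : Finite ↥(Q ⊓ Subgroup.centralizer {d}) := finite_of_le hle
      have hlt : Nat.card E < Nat.card ↥(Q ⊓ Subgroup.centralizer {d}) := by
        by_contra hge
        push Not at hge
        have h4 := Subgroup.eq_of_le_of_card_ge hEle hge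
        rw [← h4] at hq0d
        exact hq0E hq0d
      obtain ⟨a, ha⟩ := IsPGroup.iff_card.1 (hS.to_le (hle.trans hQS))
      obtain ⟨b, hb⟩ := IsPGroup.iff_card.1 hpE
      have h5 : Q ⊓ Subgroup.centralizer {d} = Q := by
        apply Subgroup.eq_of_le_of_card_ge hle
        refine h1.trans ?_
        rw [ha, hb] at hlt ⊢
        rw [← pow_succ']
        exact Nat.pow_le_pow_right hp.out.pos ((Nat.pow_lt_pow_iff_right hp.out.one_lt).1 hlt)
      refine Subgroup.mem_centralizer_iff.2 ?_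
      intro y hy
      have h6 : y ∈ Q ⊓ Subgroup.centralizer {d} := by rw [h5]; exact hy
      exact (Subgroup.mem_centralizer_iff.1 h6.2 d rfl).symm
    haveI : Finite (Subgroup.zpowers z) := Nat.finite_of_card_ne_zero (by
      rw [Nat.card_zpowers, hG.ord]; exact hp.out.ne_zero)
    have h4 : Nat.card ↥(E ⊓ Subgroup.centralizer {q0}) ≤ p := by
      have := Subgroup.card_le_of_le h3
      rwa [Nat.card_zpowers, hG.ord] at this
    have h6 : Nat.card S = p * Nat.card Q := by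
      rw [← (Q.subgroupOf S).card_mul_index, hQi, Nat.card_congr (Subgroup.subgroupOfEquivOfLe hQS).toEquiv, mul_comm]
    have h7 : Nat.card S ≤ p ^ 4 := by
      rw [h6]
      calc p * Nat.card Q ≤ p * (p * (p * p)) := by
            refine Nat.mul_le_mul_left _ (h1.trans (Nat.mul_le_mul_left _ (h2.trans (Nat.mul_le_mul_left _ h4))))
        _ = p ^ 4 := by ring
    have h8 : p ^ 4 < p ^ 6 := Nat.pow_lt_pow_right hp.out.one_lt (by norm_num)
    omega
  -- the linked subgroup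
  obtain ⟨hfn, hInnN, M, hM⟩ := hE.2
  haveI : Finite (F.autGroup E) := finite_autGroup F hES
  obtain ⟨π, hπ⟩ : ∃ π, QuotientGroup.mk' ((Inn E).subgroupOf (F.autGroup E)) = π := ⟨_, rfl⟩
  have hπ1 : ∀ a, π a = 1 ↔ (a : MulAut E) ∈ Inn E := by
    intro a
    rw [← hπ, QuotientGroup.mk'_apply, QuotientGroup.eq_one_iff]
    rfl
  have hne1 : ∀ q ∈ Q, q ∉ E → ∀ α (hα : α ∈ F.autGroup E), (∀ x : E, ((α x : E) : Ω) = q * x * q⁻¹) →
      π ⟨α, hα⟩ ≠ 1 := by
    intro q hq hqE α hα hx h1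
    rw [hπ1] at h1
    exact hqE (mem_of_conjAut_inner hE.1 (hQS hq) hx h1)
  refine no_spe_of_linked hM (A0 := ((autInducedBy Q E).subgroupOf (F.autGroup E)).map π) ?_ ?_ ?_
  · refine IsPGroup.map ?_ _
    have h1 : IsPGroup p (autInducedBy S E) := isPGroup_autInducedBy hS E
    have h2 : autInducedBy Q E ≤ autInducedBy S E := by
      intro α hα
      obtain ⟨g, hg, h⟩ := mem_autInducedBy.1 hα
      exact mem_autInducedBy.2 ⟨g, hQS hg, h⟩
    exact (h1.to_le h2).comap_of_injective (F.autGroup E).subtype (F.autGroup E).subtype_injective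
  · rintro _ ⟨a, ha, rfl⟩ _ ⟨b, hb, rfl⟩
    refine Commute.map ?_ π
    obtain ⟨q, hq, hqa⟩ := mem_autInducedBy.1 (show (a : MulAut E) ∈ autInducedBy Q E from ha)
    obtain ⟨r, hr, hrb⟩ := mem_autInducedBy.1 (show (b : MulAut E) ∈ autInducedBy Q E from hb)
    apply Subtype.ext
    show (a : MulAut E) * b = b * a
    ext x
    show (((a : MulAut E) ((b : MulAut E) x) : E) : Ω) = (((b : MulAut E) ((a : MulAut E) x) : E) : Ω)
    rw [hqa, hrb, hrb, hqa]
    have h1 := hZc _ (hG.comm _ (Q.inv_mem hq) _ (Q.inv_mem hr)) x (hES x.2)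
    rw [inv_inv, inv_inv] at h1
    calc q * (r * x * r⁻¹) * q⁻¹ = (r * q) * ((q⁻¹ * r⁻¹ * q * r) * x) * (r⁻¹ * q⁻¹) := by group
      _ = (r * q) * (x * (q⁻¹ * r⁻¹ * q * r)) * (r⁻¹ * q⁻¹) := by rw [h1]
      _ = r * (q * x * q⁻¹) * r⁻¹ := by group
  · intro g
    obtain ⟨γ, rfl⟩ : ∃ γ, π γ = g := by
      rw [← hπ]; exact QuotientGroup.mk'_surjective _ g
    obtain ⟨q1, hq1, hq1E, hc1⟩ := hstar _ ((γ : MulAut E) ⟨z, hzE⟩).2
    obtain ⟨q2, hq2, hq2E, hc2⟩ := hstar _ ((γ : MulAut E)⁻¹ ⟨z, hzE⟩).2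
    obtain ⟨α, hαA, hα⟩ := hconj q1 hq1
    obtain ⟨β, hβA, hβ⟩ := hconj q2 hq2
    refine ⟨π ⟨α, hαA⟩, ⟨⟨α, hαA⟩, mem_autInducedBy.2 ⟨q1, hq1, hα⟩, rfl⟩, π ⟨β, hβA⟩,
      ⟨⟨β, hβA⟩, mem_autInducedBy.2 ⟨q2, hq2, hβ⟩, rfl⟩, hne1 q1 hq1 hq1E α hαA hα, hne1 q2 hq2 hq2E β hβA hβ, ?_⟩
    rw [← map_mul, ← map_inv, ← map_mul]
    refine Commute.map ?_ π
    apply Subtype.ext
    show α * ((γ : MulAut E) * β * (γ : MulAut E)⁻¹) = ((γ : MulAut E) * β * (γ : MulAut E)⁻¹) * α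
    have hu : ∀ x : E, ∃ n : ℤ, α x = x * (⟨z, hzE⟩ : E) ^ n := by
      intro x
      obtain ⟨n, hn⟩ := hG.comm q1 hq1 x (hEQ x.2)
      have hn' : z ^ n = q1 * x * q1⁻¹ * (x : Ω)⁻¹ := hn
      refine ⟨n, Subtype.ext ?_⟩
      rw [hα, Subgroup.coe_mul, Subgroup.coe_zpow]
      show _ = (x : Ω) * z ^ n
      rw [hZc (z ^ n) ⟨n, rfl⟩ x (hES x.2), hn']
      group
    have hv : ∀ x : E, ∃ n : ℤ, β x = x * (⟨z, hzE⟩ : E) ^ n := by
      intro x
      obtain ⟨n, hn⟩ := hG.comm q2 hq2 x (hEQ x.2)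
      have hn' : z ^ n = q2 * x * q2⁻¹ * (x : Ω)⁻¹ := hn
      refine ⟨n, Subtype.ext ?_⟩
      rw [hβ, Subgroup.coe_mul, Subgroup.coe_zpow]
      show _ = (x : Ω) * z ^ n
      rw [hZc (z ^ n) ⟨n, rfl⟩ x (hES x.2), hn']
      group
    have hαz : α ((γ : MulAut E) ⟨z, hzE⟩) = (γ : MulAut E) ⟨z, hzE⟩ := by
      apply Subtype.ext
      rw [hα, hc1, mul_inv_cancel_right]
    have hβz : β ((γ : MulAut E)⁻¹ ⟨z, hzE⟩) = (γ : MulAut E)⁻¹ ⟨z, hzE⟩ := by
      apply Subtype.ext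
      rw [hβ, hc2, mul_inv_cancel_right]
    apply MulEquiv.ext
    intro x
    show α ((γ : MulAut E) (β ((γ : MulAut E)⁻¹ x))) = (γ : MulAut E) (β ((γ : MulAut E)⁻¹ (α x)))
    obtain ⟨m, hm⟩ := hu x
    obtain ⟨n, hn⟩ := hv ((γ : MulAut E)⁻¹ x)
    rw [hn, hm, map_mul, MulAut.apply_inv_self, map_zpow, map_mul, hm, map_zpow, hαz, map_mul, map_zpow, map_mul, hn,
      map_zpow, hβz, map_mul, map_mul, MulAut.apply_inv_self, map_zpow, map_zpow, MulAut.apply_inv_self]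
    have h1 : ∀ a b : E, a * b = b * a := fun a b => Subtype.ext (hEab a a.2 b b.2)
    rw [mul_assoc, mul_assoc, h1 ((⟨z, hzE⟩ : E) ^ m)]

end CfsgLib.Fus21
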