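import Cfsg.Agent.LibFus21GT1
import Cfsg.Agent.LibFus21Det
import Cfsg.Agent.LibFus21Hy5
import Cfsg.Agent.LibFus21Fro
import Cfsg.Agent.LibFT28

set_option autoImplicit false

/-! Semidirect product systems; extremely sparse systems. -/

namespace CfsgLib.Fus21

open Cfsg Cfsg.FusionSystem

universe v
variable {Ω : Type v} [Group Ω] {S : Subgroup Ω}

/-- the system of `P ⋊ A` on `P` -/
def sdSys (P : Subgroup Ω) (A : Subgroup (MulAut P)) : FusionSystem P :=
  subReal (SemidirectProduct.inl : P →* P ⋊[A.subtype] A) SemidirectProduct.inl_injective ⊤ le_top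

theorem mem_sdSys {P : Subgroup Ω} {A : Subgroup (MulAut P)} {R : Subgroup Ω} {φ : R →* Ω} :
    φ ∈ (sdSys P A).Hom R ↔ ∃ hR : R ≤ P, ∃ a ∈ A, ∃ u : P, ∀ x : R, φ x = u * (a ⟨x, hR x.2⟩ : P) * (u : Ω)⁻¹ := by
  have key : ∀ (u : P) (a : A) (x : P), (⟨u, a⟩ : P ⋊[A.subtype] A) * SemidirectProduct.inl x * (⟨u, a⟩ : P ⋊[A.subtype] A)⁻¹ =
      SemidirectProduct.inl (u * (a : MulAut P) x * u⁻¹) := by
    intro u a x
    rw [mul_inv_eq_iff_eq_mul]
    ext
    · simp
    · simp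
  constructor
  · rintro ⟨hR, hφ, g, -, hg⟩
    refine ⟨hR, g.right, g.right.2, g.left, fun x => ?_⟩
    have h1 := hg x
    have h2 : g = ⟨g.left, g.right⟩ := rfl
    rw [h2, key] at h1
    exact congrArg Subtype.val (SemidirectProduct.inl_injective h1)
  · rintro ⟨hR, a, ha, u, hu⟩
    have hφ : ∀ x : R, φ x ∈ P := fun x => by rw [hu]; exact (u * a ⟨x, hR x.2⟩ * u⁻¹ : P).2
    refine ⟨hR, hφ, ⟨u, ⟨a, ha⟩⟩, Subgroup.mem_top _, fun x => ?_⟩
    rw [key]
    congr 1
    exact Subtype.ext (hu x)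

theorem sdSys_saturated {P : Subgroup Ω} [Finite P] {p : ℕ} [hp : Fact p.Prime] (hP : IsPGroup p P) {A : Subgroup (MulAut P)}
    (hA : (Nat.card A).Coprime p) : (sdSys P A).IsSaturated p := by
  haveI : Finite (MulAut P) := inferInstance
  haveI : Finite (P ⋊[A.subtype] A) := Finite.of_equiv _ (SemidirectProduct.equivProd (φ := A.subtype)).symm
  have hrange : IsPGroup p (SemidirectProduct.inl : P →* P ⋊[A.subtype] A).range :=
    hP.of_surjective (SemidirectProduct.inl : P →* P ⋊[A.subtype] A).rangeRestrict (MonoidHom.rangeRestrict_surjective _)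
  have hidx : ¬ p ∣ (SemidirectProduct.inl : P →* P ⋊[A.subtype] A).range.index := by
    rw [SemidirectProduct.range_inl_eq_ker_rightHom, Subgroup.index_ker]
    rw [MonoidHom.range_eq_top.2 SemidirectProduct.rightHom_surjective, Subgroup.card_top]
    exact (hp.out.coprime_iff_not_dvd).1 hA.symm
  refine subReal_saturated _ _ (T := hrange.toSylow hidx) (IsPGroup.toSylow_coe hrange hidx) _ _

theorem sdSys_sub {F : FusionSystem S} {P : Subgroup Ω} (hPS : P ≤ S) {A : Subgroup (MulAut P)} (hA : A ≤ F.autGroup P) :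
    (sdSys P A).IsSubsystemOf F := by
  intro R φ hφ
  obtain ⟨hR, a, ha, u, hu⟩ := mem_sdSys.1 hφ
  have h1 := (mem_autGroup hPS).1 (hA ha)
  obtain ⟨γ, hγ⟩ := exists_conjAut (P := P) (Subgroup.le_normalizer u.2)
  have h2 : γ ∈ F.autGroup P := autInducedBy_le_autGroup F hPS (mem_autInducedBy.2 ⟨u, hPS u.2, hγ⟩)
  have h3 := (mem_autGroup hPS).1 (Subgroup.mul_mem _ h2 (hA ha))
  refine mem_congr (restrict_mem h3 hR) fun x => ?_
  rw [hu]
  exact (hγ (a ⟨x, hR x.2⟩)).symm

theorem exists_prime_elt {G : Type*} [Group G] [Finite G] {p : ℕ} [hp : Fact p.Prime] (h : ¬ IsPGroup p G) :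
    ∃ (q : ℕ) (g : G), q.Prime ∧ q ≠ p ∧ orderOf g = q := by
  by_contra hne
  push Not at hne
  apply h
  intro g
  obtain ⟨a, m, hm, hg⟩ := exists_ppow (p := p) g
  refine ⟨a, ?_⟩
  by_contra h1
  have ho : orderOf (g ^ p ^ a) ≠ 1 := fun h => h1 (orderOf_eq_one_iff.1 h)
  obtain ⟨q, hq, hqd⟩ := Nat.exists_prime_and_dvd ho
  refine hne q ((g ^ p ^ a) ^ (orderOf (g ^ p ^ a) / q)) hq ?_ ?_
  · rintro rfl
    have h2 := hqd.trans (orderOf_dvd_of_pow_eq_one hg)
    exact (hq.coprime_iff_not_dvd.1 hm.symm) h2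
  · rw [orderOf_pow_of_dvd, Nat.div_div_self hqd (orderOf_pos _).ne']
    · exact (Nat.div_pos (Nat.le_of_dvd (orderOf_pos _) hqd) hq.pos).ne'
    · exact Nat.div_dvd_of_dvd hqd

theorem extremely_sparse [Finite S] {p : ℕ} [hp : Fact p.Prime] (hS : IsPGroup p S) {F : FusionSystem S} (hF : F.IsSaturated p)
    (hne : ¬ (∀ P : Subgroup Ω, F.Hom P = (innerFusionSystem S).Hom P))
    (hxs : ∀ (T : Subgroup Ω) (E : FusionSystem T), E.IsSaturated p → E.IsSubsystemOf F →
      (T = S ∧ ∀ P : Subgroup Ω, E.Hom P = F.Hom P) ∨ (∀ P : Subgroup Ω, E.Hom P = (innerFusionSystem T).Hom P)) :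
    F.IsNormal S ∧ F.focalSubgroup = S ∧ F.hyperfocalSubgroup p = S ∧
      ∃ (q : ℕ) (β : MulAut ↥S), q.Prime ∧ q ≠ p ∧ β ∈ F.autGroup S ∧ orderOf β = q ∧
        (F.autGroup S : Subgroup (MulAut ↥S)) = Cfsg.Inn ↥S ⊔ Subgroup.zpowers β := by
  -- inner elements of a semidirect system
  have hinn : ∀ (P : Subgroup Ω), P ≤ S → ∀ β : MulAut P, (∀ R, (sdSys P (Subgroup.zpowers β)).Hom R = (innerFusionSystem P).Hom R) →
      ∀ m : ℕ, m.Coprime p → β ^ m = 1 → β = 1 := by
    intro P hPS β h m hm hβm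
    have h1 : P.subtype.comp β.toMonoidHom ∈ (sdSys P (Subgroup.zpowers β)).Hom P :=
      mem_sdSys.2 ⟨le_rfl, β, Subgroup.mem_zpowers β, 1, fun x => by simp⟩
    rw [h, mem_inner] at h1
    obtain ⟨-, g, hg, hgx⟩ := h1
    have hpP : IsPGroup p P := hS.to_le hPS
    obtain ⟨k, hk⟩ := hpP ⟨g, hg⟩
    have h2 : β = MulAut.conj ⟨g, hg⟩ := by
      apply MulEquiv.ext
      intro x
      apply Subtype.ext
      exact hgx x
    have h3 : β ^ p ^ k = 1 := by rw [h2, ← map_pow, hk, map_one]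
    have h5 := orderOf_dvd_of_pow_eq_one h3
    have h6 := orderOf_dvd_of_pow_eq_one hβm
    exact orderOf_eq_one_iff.1 (Nat.eq_one_of_dvd_coprimes (Nat.Coprime.pow_left k hm.symm) h5 h6)
  have hcop : ∀ (P : Subgroup Ω) (β : MulAut P) (m : ℕ), m.Coprime p → β ^ m = 1 → (Nat.card (Subgroup.zpowers β)).Coprime p := by
    intro P β m hm hβm
    rw [Nat.card_zpowers]
    exact Nat.Coprime.coprime_dvd_left (orderOf_dvd_of_pow_eq_one hβm) hm
  -- proper subgroups
  have hprop : ∀ P : Subgroup Ω, P ≤ S → P ≠ S → ∀ β ∈ F.autGroup P, ∀ m : ℕ, m.Coprime p → β ^ m = 1 → β = 1 := by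
    intro P hPS hPne β hβ m hm hβm
    haveI : Finite P := finite_of_le hPS
    rcases hxs P _ (sdSys_saturated (hS.to_le hPS) (hcop P β m hm hβm)) (sdSys_sub hPS (by rwa [Subgroup.zpowers_le])) with h | h
    · exact (hPne h.1).elim
    · exact hinn P hPS β h m hm hβm
  have hpP : ∀ P : Subgroup Ω, P ≤ S → P ≠ S → IsPGroup p (F.autGroup P) := by
    intro P hPS hPne β
    haveI : Finite (F.autGroup P) := finite_autGroup F hPS
    obtain ⟨a, m, hm, h⟩ := exists_ppow (p := p) β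
    exact ⟨a, Subtype.ext (hprop P hPS hPne _ (Subgroup.pow_mem _ β.2 (p ^ a)) m hm (congrArg Subtype.val h))⟩
  have hnorm : F.IsNormal S := by
    refine isNormal_of_radical hS hF ⟨le_rfl, fun _ _ _ hφ x => mem_S hφ x⟩ fun P hP => ?_
    have hlt := essential_lt hS hF hP
    refine le_of_radical hS hP.1 (essential_radical hS hP) le_rfl (hP.1.1.trans Subgroup.le_normalizer) (B := F.autGroup P) le_rfl
      (hpP P hP.1.1 hlt.ne) (fun a ha b hb => Subgroup.mul_mem _ (Subgroup.mul_mem _ ha hb) (Subgroup.inv_mem _ ha)) ?_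
    intro g hg α hα
    exact autInducedBy_le_autGroup F hP.1.1 (mem_autInducedBy.2 ⟨g, hg, hα⟩)
  -- the automorphism
  haveI : Finite (F.autGroup S) := finite_autGroup F le_rfl
  have hnp : ¬ IsPGroup p (F.autGroup S) := by
    intro h
    apply hne
    refine inner_of_essential hS hF fun P hP => ?_
    rcases hP with rfl | hP
    · exact h
    · exact hpP P hP.1.1 (essential_lt hS hF hP).ne
  obtain ⟨q, β, hq, hqp, hβq⟩ := exists_prime_elt hnp
  have hqc : q.Coprime p := (Nat.coprime_primes hq hp.out).2 hqp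
  have hβo : orderOf (β : MulAut S) = q := by rw [Subgroup.orderOf_coe, hβq]
  have hβ1 : (β : MulAut S) ^ q = 1 := by rw [← hβo, pow_orderOf_eq_one]
  have hβne : (β : MulAut S) ≠ 1 := by
    intro h
    rw [h, orderOf_one] at hβo
    exact hq.one_lt.ne hβo
  have hEF : ∀ P : Subgroup Ω, (sdSys S (Subgroup.zpowers (β : MulAut S))).Hom P = F.Hom P := by
    rcases hxs S _ (sdSys_saturated hS (hcop S β q hqc hβ1)) (sdSys_sub le_rfl (by rw [Subgroup.zpowers_le]; exact β.2)) with h | h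
    · exact h.2
    · exact (hβne (hinn S le_rfl β h q hqc hβ1)).elim
  have hhyp : F.hyperfocalSubgroup p = S := by
    have hle : F.hyperfocalSubgroup p ≤ S := hyp_le_focal.trans (CfsgLib.FT.focal_le_S F)
    by_contra hne'
    have hsc : F.StronglyClosed (F.hyperfocalSubgroup p) := CfsgLib.FT.hyp_stronglyClosed hS hF (CfsgLib.FT.hyp_normIn F p) CfsgLib.FT.hypLe_self
    set T := F.hyperfocalSubgroup p with hT
    haveI : Finite T := finite_of_le hle
    apply hβne
    obtain ⟨κ, hκ⟩ := exists_restrict_aut (P := S) hle (α := (β : MulAut S)) (fun x => (stronglyClosed_aut hsc le_rfl β.2 x).symm)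
    have hκF : κ ∈ F.autGroup T := by
      rw [mem_autGroup hle]
      exact mem_congr (restrict_mem ((mem_autGroup le_rfl).1 β.2) hle) fun x => hκ x
    have hκq : κ ^ q = 1 := by
      apply MulEquiv.ext
      intro x
      apply Subtype.ext
      have := pow_restrict_aut hle (fun x hx => hκ ⟨x, hx⟩) q x x.2
      rw [hβ1] at this
      exact this
    have hκ1 := hprop T hle hne' κ hκF q hqc hκq
    obtain ⟨k, hk⟩ := pow_p_of_two_chain hS (α := (β : MulAut S)) (T.subgroupOf S)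
      (fun x hx => by
        have := hκ ⟨x, hx⟩
        rw [hκ1] at this
        exact Subtype.ext this.symm)
      (fun x => hyp_mem le_rfl β.2 hqc hβ1 x)
    have h5 := orderOf_dvd_of_pow_eq_one hk
    have h6 := orderOf_dvd_of_pow_eq_one hβ1
    exact orderOf_eq_one_iff.1 (Nat.eq_one_of_dvd_coprimes (Nat.Coprime.pow_left k hqc.symm) h5 h6)
  refine ⟨hnorm, le_antisymm (CfsgLib.FT.focal_le_S F) (hhyp.symm.le.trans hyp_le_focal), hhyp, q, β, hq, hqp, β.2, hβo, ?_⟩
  apply le_antisymm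
  · intro α hα
    have h1 : S.subtype.comp α.toMonoidHom ∈ F.Hom S := (mem_autGroup le_rfl).1 hα
    rw [← hEF] at h1
    obtain ⟨_, a, ha, u, hu⟩ := mem_sdSys.1 h1
    have h2 : α = MulAut.conj u * a := by
      apply MulEquiv.ext
      intro x
      apply Subtype.ext
      exact hu x
    rw [h2]
    exact Subgroup.mul_mem _ (Subgroup.mem_sup_left ⟨u, rfl⟩) (Subgroup.mem_sup_right ha)
  · refine sup_le ?_ (by rw [Subgroup.zpowers_le]; exact β.2)
    rw [← autInducedBy_self]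
    exact autInducedBy_le_autGroup F le_rfl

end CfsgLib.Fus21
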