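import Cfsg.Agent.LibFus21PC
import Cfsg.Agent.LibFus21Sd
import Cfsg.Agent.LibFus21Inner

set_option autoImplicit false

/-! Supersoluble fusion systems. -/

namespace CfsgLib.Fus21

open Cfsg Cfsg.FusionSystem

variable {Ω : Type*} [Group Ω] {S : Subgroup Ω}

/-- a step of index dividing `p` between strongly closed subgroups -/
def PStep (F : FusionSystem S) (p : ℕ) (A B : Subgroup Ω) : Prop :=
  A ≤ B ∧ F.StronglyClosed A ∧ F.StronglyClosed B ∧ A.relIndex B ∣ p

theorem sc_normal_inst {F : FusionSystem S} {A : Subgroup Ω} (hA : F.StronglyClosed A) : (A.subgroupOf S).Normal := by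
  refine ⟨fun x hx s => ?_⟩
  rw [Subgroup.mem_subgroupOf] at hx ⊢
  exact (Subgroup.mem_normalizer_iff.1 (stronglyClosed_normal_S hA s.2) x).1 hx

theorem sup_zpowers_subgroupOf {A : Subgroup Ω} (hA : A ≤ S) [(A.subgroupOf S).Normal] (z : S) :
    (A ⊔ Subgroup.zpowers (z : Ω)).subgroupOf S = A.subgroupOf S ⊔ Subgroup.zpowers z := by
  rw [Subgroup.subgroupOf_sup hA (by rw [Subgroup.zpowers_le]; exact z.2)]
  congr 1
  ext y
  rw [Subgroup.mem_subgroupOf, Subgroup.mem_zpowers_iff, Subgroup.mem_zpowers_iff]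
  constructor
  · rintro ⟨k, hk⟩; exact ⟨k, Subtype.ext (by simpa using hk)⟩
  · rintro ⟨k, rfl⟩; exact ⟨k, by simp⟩

theorem mem_sup_zpowers {A : Subgroup Ω} (hA : A ≤ S) [(A.subgroupOf S).Normal] (y z : S) :
    (y : Ω) ∈ A ⊔ Subgroup.zpowers (z : Ω) ↔
      (y : S ⧸ A.subgroupOf S) ∈ Subgroup.zpowers (z : S ⧸ A.subgroupOf S) := by
  have h1 : (y : Ω) ∈ A ⊔ Subgroup.zpowers (z : Ω) ↔ y ∈ (A ⊔ Subgroup.zpowers (z : Ω)).subgroupOf S := Iff.rfl
  rw [h1, sup_zpowers_subgroupOf hA]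
  have h2 : (Subgroup.zpowers (z : S ⧸ A.subgroupOf S)).comap (QuotientGroup.mk' (A.subgroupOf S)) =
      A.subgroupOf S ⊔ Subgroup.zpowers z := by
    have : Subgroup.zpowers (z : S ⧸ A.subgroupOf S) = (Subgroup.zpowers z).map (QuotientGroup.mk' (A.subgroupOf S)) := by
      rw [MonoidHom.map_zpowers]; rfl
    rw [this, Subgroup.comap_map_eq, QuotientGroup.ker_mk', sup_comm]
  rw [← h2, Subgroup.mem_comap]
  rfl

theorem sup_zpowers_relIndex {A : Subgroup Ω} (hA : A ≤ S) [(A.subgroupOf S).Normal] {p : ℕ} {y : Ω} (hy : y ∈ S) (hyp : y ^ p ∈ A) :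
    A.relIndex (A ⊔ Subgroup.zpowers y) ∣ p := by
  have hle : A ⊔ Subgroup.zpowers y ≤ S := sup_le hA (by rw [Subgroup.zpowers_le]; exact hy)
  rw [← Subgroup.relIndex_subgroupOf hle]
  have := sup_zpowers_subgroupOf hA (⟨y, hy⟩ : S)
  rw [this, sup_comm, Subgroup.relIndex_sup_right, Subgroup.relIndex]
  have h1 : ((QuotientGroup.mk' (A.subgroupOf S)).comp (Subgroup.zpowers (⟨y, hy⟩ : S)).subtype).ker = (A.subgroupOf S).subgroupOf (Subgroup.zpowers (⟨y, hy⟩ : S)) := by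
    ext w; simp [Subgroup.mem_subgroupOf, MonoidHom.mem_ker]
  rw [← h1, Subgroup.index_ker, MonoidHom.range_comp, Subgroup.range_subtype, MonoidHom.map_zpowers, Nat.card_zpowers]
  apply orderOf_dvd_of_pow_eq_one
  rw [← map_pow]
  exact (QuotientGroup.eq_one_iff _).2 hyp

theorem sc_refine [Finite S] {p : ℕ} [hp : Fact p.Prime] (hS : IsPGroup p S) {F : FusionSystem S} {A : Subgroup Ω}
    (hA : F.StronglyClosed A) {x : Ω} (hx : x ∈ S) (hB : F.StronglyClosed (A ⊔ Subgroup.zpowers x)) (j : ℕ) :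
    F.StronglyClosed (A ⊔ Subgroup.zpowers (x ^ p ^ j)) := by
  haveI := sc_normal_inst hA
  have hAS := hA.1
  refine ⟨sup_le hAS (by rw [Subgroup.zpowers_le]; exact S.pow_mem hx _), fun R hR φ hφ r => ?_⟩
  obtain ⟨s, hs⟩ := IsPGroup.iff_orderOf.1 (hS.to_quotient (A.subgroupOf S)) ((⟨x, hx⟩ : S) : S ⧸ A.subgroupOf S)
  have hrS : (r : Ω) ∈ S := le_S hφ r.2
  have hφS := mem_S hφ r
  have h1 := (mem_sup_zpowers hAS ⟨r, hrS⟩ ⟨x ^ p ^ j, S.pow_mem hx _⟩).1 (hR r.2)
  have h2 : ((⟨x ^ p ^ j, S.pow_mem hx _⟩ : S) : S ⧸ A.subgroupOf S) = ((⟨x, hx⟩ : S) : S ⧸ A.subgroupOf S) ^ p ^ j := rfl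
  have h3 : φ r ∈ A ⊔ Subgroup.zpowers x := by
    refine hB.2 R (hR.trans ?_) φ hφ r
    apply sup_le_sup_left
    rw [Subgroup.zpowers_le]
    exact Subgroup.pow_mem _ (Subgroup.mem_zpowers x) _
  have h4 := (mem_sup_zpowers hAS ⟨φ r, hφS⟩ ⟨x, hx⟩).1 h3
  refine (mem_sup_zpowers hAS ⟨φ r, hφS⟩ ⟨x ^ p ^ j, S.pow_mem hx _⟩).2 ?_
  rw [h2] at h1 ⊢
  obtain ⟨k, hk⟩ := h4
  obtain ⟨l, hl⟩ := h1
  have hk' : ((⟨x, hx⟩ : S) : S ⧸ A.subgroupOf S) ^ k = ((⟨φ r, hφS⟩ : S) : S ⧸ A.subgroupOf S) := hk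
  have hl' : (((⟨x, hx⟩ : S) : S ⧸ A.subgroupOf S) ^ p ^ j) ^ l = ((⟨r, hrS⟩ : S) : S ⧸ A.subgroupOf S) := hl
  set xb := ((⟨x, hx⟩ : S) : S ⧸ A.subgroupOf S) with hxb
  have h5 : (r : Ω) ^ p ^ (s - j) ∈ A := by
    have h6 : ((⟨r, hrS⟩ : S) : S ⧸ A.subgroupOf S) ^ p ^ (s - j) = 1 := by
      rw [← hl', ← zpow_natCast, ← zpow_mul, mul_comm, zpow_mul, zpow_natCast, ← pow_mul, ← pow_add]
      have h7 : xb ^ p ^ (j + (s - j)) = 1 := by
        apply orderOf_dvd_iff_pow_eq_one.1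
        rw [hs]
        exact pow_dvd_pow p (by omega)
      rw [h7, one_zpow]
    have h8 : (((⟨r, hrS⟩ : S) ^ p ^ (s - j) : S) : S ⧸ A.subgroupOf S) = 1 := h6
    have h9 := (QuotientGroup.eq_one_iff (N := A.subgroupOf S) ((⟨r, hrS⟩ : S) ^ p ^ (s - j))).1 h8
    exact h9
  have h6 : (φ r) ^ p ^ (s - j) ∈ A := by
    have h7 := (stronglyClosed_mem_iff hA hφ (r ^ p ^ (s - j))).2 (by simpa using h5)
    rwa [map_pow] at h7
  have h7 : xb ^ (k * (p ^ (s - j) : ℕ)) = 1 := by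
    rw [zpow_mul, hk', zpow_natCast]
    have h8 : (((⟨φ r, hφS⟩ : S) ^ p ^ (s - j) : S) : S ⧸ A.subgroupOf S) = 1 := (QuotientGroup.eq_one_iff _).2 h6
    exact h8
  have h8 := orderOf_dvd_iff_zpow_eq_one.2 h7
  rw [hs] at h8
  rcases Nat.lt_or_ge s j with hsj | hsj
  · have : s - j = 0 := by omega
    rw [this, pow_zero, Nat.cast_one, mul_one] at h8
    obtain ⟨m, rfl⟩ := h8
    refine ⟨0, ?_⟩
    show (xb ^ p ^ j) ^ (0 : ℤ) = _
    rw [← hk', zpow_zero, zpow_mul, zpow_natCast, ← hs, pow_orderOf_eq_one, one_zpow]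
  · have h9 : ((p ^ j : ℕ) : ℤ) ∣ k := by
      have h10 : ((p ^ s : ℕ) : ℤ) = ((p ^ j : ℕ) : ℤ) * ((p ^ (s - j) : ℕ) : ℤ) := by
        rw [← Nat.cast_mul, ← pow_add]
        congr 2; omega
      rw [h10] at h8
      exact Int.dvd_of_mul_dvd_mul_right (by exact_mod_cast (pow_pos hp.out.pos (s - j)).ne') h8
    obtain ⟨m, rfl⟩ := h9
    refine ⟨m, ?_⟩
    show (xb ^ p ^ j) ^ m = _
    rw [← hk', zpow_mul, zpow_natCast]

theorem refine_steps [Finite S] {p : ℕ} [hp : Fact p.Prime] (hS : IsPGroup p S) {F : FusionSystem S} {A : Subgroup Ω}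
    (hA : F.StronglyClosed A) {x : Ω} (hx : x ∈ S) (hB : F.StronglyClosed (A ⊔ Subgroup.zpowers x)) :
    Relation.ReflTransGen (PStep F p) A (A ⊔ Subgroup.zpowers x) := by
  haveI := sc_normal_inst hA
  have hAS := hA.1
  have key : ∀ j : ℕ, Relation.ReflTransGen (PStep F p) (A ⊔ Subgroup.zpowers (x ^ p ^ j)) (A ⊔ Subgroup.zpowers x) := by
    intro j
    induction j with
    | zero => simpa using Relation.ReflTransGen.refl
    | succ j ih =>
      refine Relation.ReflTransGen.head ?_ ih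
      have h1 := sc_refine hS hA hx hB (j + 1)
      have h2 := sc_refine hS hA hx hB j
      haveI := sc_normal_inst h1
      have h3 : (A ⊔ Subgroup.zpowers (x ^ p ^ (j + 1))) ⊔ Subgroup.zpowers (x ^ p ^ j) = A ⊔ Subgroup.zpowers (x ^ p ^ j) := by
        rw [sup_assoc]
        congr 1
        rw [sup_eq_right, Subgroup.zpowers_le, pow_succ, pow_mul]
        exact Subgroup.pow_mem _ (Subgroup.mem_zpowers _) _
      refine ⟨?_, h1, h2, ?_⟩
      · rw [← h3]; exact le_sup_left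
      · have h4 := sup_zpowers_relIndex (p := p) h1.1 (S.pow_mem hx (p ^ j)) (y := x ^ p ^ j) (by
          apply Subgroup.mem_sup_right
          rw [← pow_mul, ← pow_succ]
          exact Subgroup.mem_zpowers _)
        rwa [h3] at h4
  obtain ⟨e, he⟩ := hS ⟨x, hx⟩
  have h1 := key e
  have h2 : x ^ p ^ e = 1 := congrArg Subtype.val he
  rwa [h2, Subgroup.zpowers_one_eq_bot, sup_bot_eq] at h1

/-- the chain, indexed by `ℕ` -/
theorem natChain_of {F : FusionSystem S} {p : ℕ} {A B : Subgroup Ω} (h : Relation.ReflTransGen (PStep F p) A B)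
    (hA : F.StronglyClosed A) : ∃ (n : ℕ) (c : ℕ → Subgroup Ω), c 0 = A ∧ c n = B ∧ Monotone c ∧
      (∀ i, F.StronglyClosed (c i)) ∧ ∀ i < n, (c i).relIndex (c (i + 1)) ∣ p := by
  induction h with
  | refl => exact ⟨0, fun _ => A, rfl, rfl, monotone_const, fun _ => hA, fun i hi => absurd hi (Nat.not_lt_zero i)⟩
  | @tail B C hAB hBC ih =>
    obtain ⟨n, c, h0, hn, hm, hsc, hidx⟩ := ih
    obtain ⟨hle, -, hC, hi⟩ := hBC
    refine ⟨n + 1, fun i => if i ≤ n then c i else C, ?_, ?_, ?_, ?_, ?_⟩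
    · simp [h0]
    · simp
    · refine monotone_nat_of_le_succ fun i => ?_
      by_cases h1 : i + 1 ≤ n
      · have h2 : i ≤ n := by omega
        simp only [h1, h2, if_true]
        exact hm (Nat.le_succ i)
      · by_cases h2 : i ≤ n
        · have : i = n := by omega
          subst this
          simp [hn, hle]
        · have h3 : ¬ i ≤ n := h2
          simp [h1, h3]
    · intro i
      by_cases h1 : i ≤ n
      · simp [h1, hsc]
      · simp [h1, hC]
    · intro i hi'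
      by_cases h1 : i + 1 ≤ n
      · have h2 : i ≤ n := by omega
        simp only [h1, h2, if_true]
        exact hidx i (by omega)
      · have h2 : i = n := by omega
        subst h2
        simp [hn, hi]

/-- the property of the statement -/
def SupSol (F : FusionSystem S) : Prop :=
  ∃ (m : ℕ) (c : Fin (m + 1) → Subgroup Ω), c 0 = ⊥ ∧ c (Fin.last m) = S ∧ (∀ i : Fin (m + 1), F.StronglyClosed (c i)) ∧
    ∀ i : Fin m, c i.castSucc ≤ c i.succ ∧ ∃ x ∈ S, c i.succ = c i.castSucc ⊔ Subgroup.zpowers x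

theorem steps_of_supSol [Finite S] {p : ℕ} [hp : Fact p.Prime] (hS : IsPGroup p S) {F : FusionSystem S} (h : SupSol F) :
    Relation.ReflTransGen (PStep F p) ⊥ S := by
  obtain ⟨m, c, h0, hm, hsc, hst⟩ := h
  have key : ∀ i : Fin (m + 1), Relation.ReflTransGen (PStep F p) ⊥ (c i) := by
    intro i
    induction i using Fin.induction with
    | zero => rw [h0]
    | succ i ih =>
      obtain ⟨hle, x, hx, hxe⟩ := hst i
      refine ih.trans ?_
      have := refine_steps (p := p) hS (hsc i.castSucc) hx (by rw [← hxe]; exact hsc _)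
      rwa [← hxe] at this
  have h1 := key (Fin.last m)
  have h2 : ∀ T, T = S → Relation.ReflTransGen (PStep F p) ⊥ T → Relation.ReflTransGen (PStep F p) ⊥ S := by
    intro T hT h
    exact Eq.mp (congrArg (fun T => Relation.ReflTransGen (PStep F p) ⊥ T) hT) h
  exact h2 _ hm h1

theorem supSol_of_steps [Finite S] {p : ℕ} [hp : Fact p.Prime] {F : FusionSystem S}
    (h : Relation.ReflTransGen (PStep F p) ⊥ S) : SupSol F := by
  suffices key : ∀ B, Relation.ReflTransGen (PStep F p) ⊥ B → ∃ (m : ℕ) (c : Fin (m + 1) → Subgroup Ω), c 0 = ⊥ ∧ c (Fin.last m) = B ∧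
      (∀ i : Fin (m + 1), F.StronglyClosed (c i)) ∧
      ∀ i : Fin m, c i.castSucc ≤ c i.succ ∧ ∃ x ∈ S, c i.succ = c i.castSucc ⊔ Subgroup.zpowers x from key S h
  intro B hB
  induction hB with
  | refl => exact ⟨0, fun _ => ⊥, rfl, rfl, fun _ => stronglyClosed_bot F, fun i => i.elim0⟩
  | @tail B C hAB hBC ih =>
    obtain ⟨m, c, h0, hm, hsc, hst⟩ := ih
    obtain ⟨hle, -, hC, hi⟩ := hBC
    have hfin : Finite C := finite_of_le hC.1
    refine ⟨m + 1, Fin.snoc c C, ?_, ?_, ?_, ?_⟩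
    · rw [← Fin.castSucc_zero, Fin.snoc_castSucc, h0]
    · rw [Fin.snoc_last]
    · intro i
      refine Fin.lastCases ?_ (fun j => ?_) i
      · rw [Fin.snoc_last]; exact hC
      · rw [Fin.snoc_castSucc]; exact hsc j
    · intro i
      refine Fin.lastCases ?_ (fun j => ?_) i
      · rw [Fin.succ_last, Fin.snoc_last, Fin.snoc_castSucc, hm]
        refine ⟨hle, ?_⟩
        by_cases hBC' : B = C
        · exact ⟨1, S.one_mem, by rw [Subgroup.zpowers_one_eq_bot, sup_bot_eq, hBC']⟩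
        · obtain ⟨x, hxC, hxB⟩ : ∃ x ∈ C, x ∉ B := by
            by_contra hno
            push Not at hno
            exact hBC' (le_antisymm hle hno)
          refine ⟨x, hC.1 hxC, ?_⟩
          have hle2 : B ⊔ Subgroup.zpowers x ≤ C := sup_le hle (by rw [Subgroup.zpowers_le]; exact hxC)
          have h1 : B.relIndex (B ⊔ Subgroup.zpowers x) * (B ⊔ Subgroup.zpowers x).relIndex C = B.relIndex C :=
            Subgroup.relIndex_mul_relIndex _ _ _ le_sup_left hle2
          have h2 : B.relIndex (B ⊔ Subgroup.zpowers x) ≠ 1 := fun h =>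
            hxB ((Subgroup.relIndex_eq_one.1 h) (Subgroup.mem_sup_right (Subgroup.mem_zpowers x)))
          have h3 : B.relIndex C = p := by
            rcases (Nat.dvd_prime hp.out).1 hi with h | h
            · exact absurd ((Subgroup.relIndex_eq_one.1 h) hxC) hxB
            · exact h
          rw [h3] at h1
          have h4 : (B ⊔ Subgroup.zpowers x).relIndex C = 1 := by
            rcases (Nat.dvd_prime hp.out).1 (Dvd.intro _ h1) with h | h
            · exact absurd h h2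
            · rw [h] at h1
              exact Nat.eq_of_mul_eq_mul_left hp.out.pos (by rw [h1, mul_one])
          exact le_antisymm (Subgroup.relIndex_eq_one.1 h4) hle2
      · rw [Fin.succ_castSucc, Fin.snoc_castSucc, Fin.snoc_castSucc]
        exact hst j

end CfsgLib.Fus21
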