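import Cfsg.Agent.LibFus21Tv7

set_option autoImplicit false

/-! Generalized extraspecial strongly closed subgroups: identification. -/

namespace CfsgLib.Fus21

open Cfsg Cfsg.FusionSystem

section ident

variable {G : Type*} [Group G] [Finite G] {p : ℕ} [hp : Fact p.Prime]

theorem card_eq_cube (hG : IsPGroup p G) (hle : Nat.card G ≤ p ^ 3) (hn : ∃ x y : G, x * y ≠ y * x) :
    Nat.card G = p ^ 3 := by
  obtain ⟨n, hn'⟩ := IsPGroup.iff_card.1 hG
  rw [hn'] at hle ⊢
  have h1 : n ≤ 3 := (Nat.pow_le_pow_iff_right hp.out.one_lt).1 hle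
  obtain ⟨x, y, hxy⟩ := hn
  interval_cases n
  · exfalso
    apply hxy
    haveI : Subsingleton G := (Nat.card_eq_one_iff_unique.1 (by rw [hn', pow_zero])).1
    exact Subsingleton.elim _ _
  · exfalso
    apply hxy
    haveI : IsCyclic G := isCyclic_of_prime_card (p := p) (by rw [hn', pow_one])
    letI := IsCyclic.commGroup (α := G)
    exact mul_comm x y
  · exfalso
    exact hxy (IsPGroup.commutative_of_card_eq_prime_sq hn' x y)
  · rfl

/-- the case `p = 2` -/
theorem ge_dihedral (hG2 : IsPGroup 2 G) {z z2 t : G} {R : Subgroup G} (hz : orderOf z = 2) (hzc : ∀ x, x * z = z * x)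
    (hcomm : commutator G = Subgroup.zpowers z) (hpow : ∀ x : G, x ^ 2 ∈ Subgroup.zpowers z)
    (hab : ∀ x ∈ R, ∀ y ∈ R, x * y = y * x) (hel : ∀ x ∈ R, x ^ 2 = 1)
    (hR : ∀ x, x ∈ R ↔ x * z2 = z2 * x) (ht : t ∉ R) :
    ∃ (A : Type) (_ : CommGroup A), (∀ a : A, a ^ 2 = 1) ∧ Nonempty (G ≃* DihedralGroup 4 × A) := by
  have hz1 : z ≠ 1 := by
    rintro rfl
    rw [orderOf_one] at hz
    exact absurd hz (by norm_num)
  have hz2 : z * z = 1 := by rw [← pow_two, ← hz, pow_orderOf_eq_one]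
  have hz2R : z2 ∈ R := (hR z2).2 rfl
  have hmz : ∀ w ∈ Subgroup.zpowers z, w = 1 ∨ w = z := by
    intro w hw
    by_cases h : w = 1
    · exact Or.inl h
    right
    obtain ⟨n, hn⟩ := hw
    have hn' : z ^ n = w := hn
    rcases Int.even_or_odd' n with ⟨k, hk | hk⟩
    · exfalso
      apply h
      rw [← hn', hk, zpow_mul, zpow_ofNat, pow_two, hz2, one_zpow]
    · rw [← hn', hk, zpow_add, zpow_mul, zpow_ofNat, pow_two, hz2, one_zpow, one_mul, zpow_one]
  have hcm : ∀ x y : G, x * y * x⁻¹ * y⁻¹ ∈ Subgroup.zpowers z := by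
    intro x y
    rw [← hcomm]
    exact Subgroup.commutator_mem_commutator (Subgroup.mem_top _) (Subgroup.mem_top _)
  have hc : ∀ s, s ∉ R → s * z2 * s⁻¹ * z2⁻¹ = z := by
    intro s hs
    rcases hmz _ (hcm s z2) with h | h
    · exfalso
      apply hs
      rw [hR]
      rw [mul_inv_eq_one, mul_inv_eq_iff_eq_mul] at h
      exact h
    · exact h
  have hz22 : z2 * z2 = 1 := by rw [← pow_two]; exact hel z2 hz2R
  obtain ⟨s, hs, hss⟩ : ∃ s, s ∉ R ∧ s * s = z := by
    rcases hmz _ (hpow t) with h | h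
    · refine ⟨t * z2, fun h1 => ht ?_, ?_⟩
      · have := R.mul_mem h1 (R.inv_mem hz2R)
        rwa [mul_inv_cancel_right] at this
      · have h1 : t⁻¹ = t := by rw [inv_eq_iff_mul_eq_one, ← pow_two]; exact h
        have h2 : z2⁻¹ = z2 := by rw [inv_eq_iff_mul_eq_one]; exact hz22
        have h3 := hc t ht
        rw [h1, h2] at h3
        rw [← mul_assoc]; exact h3
    · exact ⟨t, ht, by rw [← pow_two]; exact h⟩
  obtain ⟨A0, hA0c, hA0e, hd, hsup, -, -, -⟩ := ge_split (p := 2) hz hzc hcomm hpow hab hel hR hs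
  obtain ⟨e⟩ := equiv_prod hA0c hd hsup
  have hso : orderOf s = 4 := by
    have : orderOf s = 2 ^ (1 + 1) := by
      apply orderOf_eq_prime_pow
      · rw [pow_one, pow_two, hss]; exact hz1
      · show s ^ 4 = 1
        have : s ^ 4 = (s * s) * (s * s) := by rw [← pow_two s, ← pow_add]
        rw [this, hss, hz2]
    simpa using this
  obtain ⟨e1⟩ := CfsgLib.Dihedral.nonempty_equiv_dihedral (n := 4) (a := s) (b := z2) hso hz22 (by
    have h1 := hc s hs
    have h2 : z2 * s * z2⁻¹ = (s * z2 * s⁻¹ * z2⁻¹)⁻¹ * s := by group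
    rw [h2, h1]
    exact eq_inv_of_mul_eq_one_left (by rw [mul_assoc, hss, inv_mul_cancel])) (by
    rintro ⟨n, hn⟩
    apply hs
    rw [hR, ← (show s ^ n = z2 from hn)]
    exact ((Commute.refl s).zpow_right n).eq)
  obtain ⟨K, hK, ⟨e2⟩⟩ := exists_type_copy A0
  have hKc : ∀ a b : K, a * b = b * a := by
    intro a b
    have h1 : e2.symm (a * b) = e2.symm (b * a) := by
      rw [map_mul, map_mul]
      exact Subtype.ext (hA0c _ (e2.symm a).2 _)
    exact e2.symm.injective h1
  refine ⟨K, { hK with mul_comm := hKc }, ?_, ⟨?_⟩⟩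
  · intro a
    have h1 : (e2.symm a) ^ 2 = 1 := Subtype.ext (hA0e _ (e2.symm a).2)
    have h2 : e2.symm (a ^ 2) = e2.symm 1 := by rw [map_pow, h1, map_one]
    exact e2.symm.injective h2
  · exact e.trans (MulEquiv.prodCongr e1 e2)

/-- the case `p` odd -/
theorem ge_odd (hp2 : p ≠ 2) (hG : IsPGroup p G) {z z2 t : G} {R : Subgroup G} (hz : orderOf z = p) (hzc : ∀ x, x * z = z * x)
    (hcomm : commutator G = Subgroup.zpowers z) (hpow : ∀ x : G, x ^ p ∈ Subgroup.zpowers z)
    (hab : ∀ x ∈ R, ∀ y ∈ R, x * y = y * x) (hel : ∀ x ∈ R, x ^ p = 1)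
    (hR : ∀ x, x ∈ R ↔ x * z2 = z2 * x) (ht : t ∉ R) (htp : t ^ p = 1) :
    ∃ (E : Type) (_ : Group E) (A : Type) (_ : CommGroup A), Cfsg.IsExtraspecial p E ∧ Nat.card E = p ^ 3 ∧
      Monoid.exponent E = p ∧ (∀ a : A, a ^ p = 1) ∧ Nonempty (G ≃* E × A) := by
  have hz1 : z ≠ 1 := by
    rintro rfl
    rw [orderOf_one] at hz
    exact hp.out.one_lt.ne hz
  have hz2R : z2 ∈ R := (hR z2).2 rfl
  have hcm : ∀ x y : G, x * y * x⁻¹ * y⁻¹ ∈ Subgroup.zpowers z := by
    intro x y
    rw [← hcomm]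
    exact Subgroup.commutator_mem_commutator (Subgroup.mem_top _) (Subgroup.mem_top _)
  have hzz : ∀ w ∈ Subgroup.zpowers z, ∀ x, x * w = w * x := by
    rintro _ ⟨n, rfl⟩ x
    exact ((show Commute x z from hzc x).zpow_right n).eq
  have hzp : ∀ w ∈ Subgroup.zpowers z, w ^ p = 1 := by
    rintro _ ⟨n, rfl⟩
    show (z ^ n) ^ p = 1
    have h6 : z ^ p = 1 := by rw [← hz, pow_orderOf_eq_one]
    rw [← zpow_natCast, zpow_comm, zpow_natCast, h6, one_zpow]
  obtain ⟨A0, hA0c, hA0e, hd, hsup, hcent, hzE, hE0⟩ := ge_split (p := p) hz hzc hcomm hpow hab hel hR ht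
  obtain ⟨e⟩ := equiv_prod hA0c hd hsup
  -- exponent
  have hmulp : ∀ x y : G, x ^ p = 1 → y ^ p = 1 → (x * y) ^ p = 1 := by
    intro x y hx hy
    have hcz : x⁻¹ * (y * x * y⁻¹) ∈ Subgroup.zpowers z := by
      have := hcm x⁻¹ y
      rw [inv_inv] at this
      have h6 : x⁻¹ * y * x * y⁻¹ = x⁻¹ * (y * x * y⁻¹) := by group
      rwa [h6] at this
    have hcc := hzz _ hcz
    rw [class2_pow (r := x) (t := y) (c := x⁻¹ * (y * x * y⁻¹)) (by group) (by rw [hcc y, mul_inv_cancel_right]) (hcc x) p,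
      hx, hy, one_mul, mul_one]
    have h6 : p ∣ p * (p - 1) / 2 := by
      obtain ⟨m, hm'⟩ := hp.out.odd_of_ne_two hp2
      refine ⟨m, ?_⟩
      rw [hm', Nat.add_sub_cancel]
      have : (2 * m + 1) * (2 * m) = 2 * ((2 * m + 1) * m) := by ring
      rw [this, Nat.mul_div_cancel_left _ (by norm_num : 0 < 2)]
    obtain ⟨m, hm⟩ := h6
    rw [hm, pow_mul, hzp _ hcz, one_pow]
  have hexp : ∀ x ∈ Subgroup.closure ({t, z2} : Set G), x ^ p = 1 := by
    let O : Subgroup G :=
      { carrier := {x | x ^ p = 1}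
        one_mem' := one_pow p
        mul_mem' := fun {x y} hx hy => hmulp x y hx hy
        inv_mem' := fun {x} hx => by
          show x⁻¹ ^ p = 1
          rw [inv_pow, (show x ^ p = 1 from hx), inv_one] }
    have hle : Subgroup.closure ({t, z2} : Set G) ≤ O := by
      rw [Subgroup.closure_le]
      rintro _ (rfl | rfl)
      · exact htp
      · exact hel _ hz2R
    exact fun x hx => hle hx
  set E0 := Subgroup.closure ({t, z2} : Set G) with hE0d
  have htE : t ∈ E0 := Subgroup.subset_closure (Set.mem_insert _ _)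
  have hz2E : z2 ∈ E0 := Subgroup.subset_closure (Set.mem_insert_of_mem _ rfl)
  have hE0p : IsPGroup p E0 := hG.to_subgroup _
  have hnc : ∃ x y : E0, x * y ≠ y * x := by
    refine ⟨⟨t, htE⟩, ⟨z2, hz2E⟩, fun h => ht ?_⟩
    rw [hR]
    exact congrArg Subtype.val h
  have hcen : ∀ x : E0, x ∈ Subgroup.center E0 ↔ (x : G) ∈ Subgroup.zpowers z := by
    intro x
    rw [Subgroup.mem_center_iff]
    constructor
    · intro h
      refine hcent x x.2 fun y => ?_
      have h1 : y ∈ E0 ⊔ A0 := by rw [hsup]; exact Subgroup.mem_top _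
      haveI : A0.Normal := ⟨fun a ha g => by rw [← hA0c a ha g, mul_inv_cancel_right]; exact ha⟩
      rw [Subgroup.mem_sup_of_normal_right] at h1
      obtain ⟨a, ha, b, hb, rfl⟩ := h1
      have h2 : a * x = x * a := congrArg Subtype.val (h ⟨a, ha⟩)
      rw [← mul_assoc, ← h2, mul_assoc, ← hA0c b hb, ← mul_assoc]
    · intro h y
      exact Subtype.ext (hzz _ h y)
  have hccard : Nat.card (Subgroup.center E0) = p := by
    rw [← hz, ← Nat.card_zpowers]
    have h1 : (Subgroup.center E0).map E0.subtype = Subgroup.zpowers z := by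
      apply le_antisymm
      · rintro _ ⟨x, hx, rfl⟩
        exact (hcen x).1 hx
      · intro x hx
        exact ⟨⟨x, (Subgroup.zpowers_le.2 hzE) hx⟩, (hcen _).2 hx, rfl⟩
    rw [← h1, Subgroup.card_map_of_injective E0.subtype_injective]
  have hext : Cfsg.IsExtraspecial p E0 := by
    refine CfsgLib.ExtraH28.isExtraspecial_of hE0p hccard ?_ ?_ hnc
    · intro x
      rw [hcen]
      exact hpow x
    · intro x y
      rw [hcen]
      exact hcm x y
  have hcard : Nat.card E0 = p ^ 3 := by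
    refine card_eq_cube hE0p ?_ hnc
    let f : (Subgroup.zpowers t × Subgroup.zpowers z2) × Subgroup.zpowers z → G := fun q => (q.1.1 : G) * (q.1.2 : G) * (q.2 : G)
    have h1 : ∀ x : E0, ∃ q, f q = x := by
      intro x
      obtain ⟨m, n, w, hw, hx⟩ := hE0 x x.2
      exact ⟨((⟨t ^ m, m, rfl⟩, ⟨z2 ^ n, n, rfl⟩), ⟨w, hw⟩), hx.symm⟩
    choose g hg using h1
    have hgi : Function.Injective g := by
      intro a b hab
      apply Subtype.ext
      rw [← hg a, ← hg b, hab]
    have h2 := Nat.card_le_card_of_injective g hgi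
    rw [Nat.card_prod, Nat.card_prod, Nat.card_zpowers, Nat.card_zpowers, Nat.card_zpowers, hz] at h2
    have h3 : orderOf t ≤ p := Nat.le_of_dvd hp.out.pos (orderOf_dvd_of_pow_eq_one htp)
    have h4 : orderOf z2 ≤ p := Nat.le_of_dvd hp.out.pos (orderOf_dvd_of_pow_eq_one (hel _ hz2R))
    calc Nat.card E0 ≤ orderOf t * orderOf z2 * p := h2
      _ ≤ p * p * p := Nat.mul_le_mul (Nat.mul_le_mul h3 h4) le_rfl
      _ = p ^ 3 := by ring
  have hexpE : Monoid.exponent E0 = p := by
    have h1 : Monoid.exponent E0 ∣ p := Monoid.exponent_dvd_of_forall_pow_eq_one fun x => Subtype.ext (hexp x x.2)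
    rcases (Nat.dvd_prime hp.out).1 h1 with h | h
    · exfalso
      obtain ⟨x, y, hxy⟩ := hnc
      apply hxy
      have h2 : ∀ a : E0, a = 1 := by
        intro a
        have := Monoid.pow_exponent_eq_one a
        rwa [h, pow_one] at this
      rw [h2 x, h2 y]
    · exact h
  obtain ⟨K, hK, ⟨e2⟩⟩ := exists_type_copy A0
  obtain ⟨L, hL, ⟨e1⟩⟩ := exists_type_copy E0
  have hKc : ∀ a b : K, a * b = b * a := by
    intro a b
    have h1 : e2.symm (a * b) = e2.symm (b * a) := by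
      rw [map_mul, map_mul]
      exact Subtype.ext (hA0c _ (e2.symm a).2 _)
    exact e2.symm.injective h1
  refine ⟨L, hL, K, { hK with mul_comm := hKc }, CfsgLib.ExtraH28.isExtraspecial_congr e1 hext, ?_, ?_, ?_, ⟨?_⟩⟩
  · rw [← hcard]; exact Nat.card_congr e1.symm.toEquiv
  · rw [← hexpE]; exact Monoid.exponent_eq_of_mulEquiv e1.symm
  · intro a
    have h1 : (e2.symm a) ^ p = 1 := Subtype.ext (hA0e _ (e2.symm a).2)
    have h2 : e2.symm (a ^ p) = e2.symm 1 := by rw [map_pow, h1, map_one]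
    exact e2.symm.injective h2
  · exact e.trans (MulEquiv.prodCongr e1 e2)

end ident

end CfsgLib.Fus21
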