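import Mathlib
import Cfsg.Agent.LibPCyc
import Cfsg.Agent.LibDihedral

/-! `p`-groups of maximal class -/

set_option autoImplicit false
set_option linter.all false
open scoped commutatorElement

namespace CfsgLib.MaxClass

open CfsgLib.SolvBasic CfsgLib.SolvMin CfsgLib.SolvNilp CfsgLib.SolvMisc CfsgLib.PCyc

universe u

theorem hom_sub_le {G A : Type*} [Group G] [Finite G] [Group A] [Finite A] (f : G →* A) :
    Nat.card G ≤ Nat.card f.ker * Nat.card A := by
  have h1 := f.ker.card_mul_index
  rw [Subgroup.index_ker] at h1
  rw [← h1]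
  exact Nat.mul_le_mul_left _ (Nat.le_of_dvd Nat.card_pos (Subgroup.card_subgroup_dvd_card _))

/-- self-centralizing subgroups of order `p^2` force maximal class -/
theorem class_of_selfcent (p : ℕ) [hp : Fact p.Prime] (n : ℕ) : ∀ (X : Type u) [Group X] [Finite X],
    Nat.card X = p ^ n → ∀ A : Subgroup X, Nat.card A = p ^ 2 →
      Subgroup.centralizer (A : Set X) = A → Group.nilpotencyClass X = n - 1 := by
  induction n with
  | zero =>
    intro X _ _ hX A hA _
    have h1 : p ^ 2 ∣ p ^ 0 := by rw [← hX, ← hA]; exact Subgroup.card_subgroup_dvd_card _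
    have := (Nat.pow_dvd_pow_iff_le_right hp.out.one_lt).mp h1
    omega
  | succ n ih =>
    intro X _ _ hX A hA hC
    have hn1 : 2 ≤ n + 1 := by
      have h1 : p ^ 2 ∣ p ^ (n + 1) := by rw [← hX, ← hA]; exact Subgroup.card_subgroup_dvd_card _
      exact (Nat.pow_dvd_pow_iff_le_right hp.out.one_lt).mp h1
    have hXp : IsPGroup p X := IsPGroup.of_card hX
    have hnil := hXp.isNilpotent
    have hnt : Nontrivial X := by
      rw [← Finite.one_lt_card_iff_nontrivial, hX]
      exact Nat.one_lt_pow (by omega) hp.out.one_lt
    have hAc : IsMulCommutative A := Subgroup.le_centralizer_iff_isMulCommutative.mp hC.ge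
    rcases Nat.lt_or_ge n 2 with hn | hn
    · -- n = 1
      have hn' : n = 1 := by omega
      subst hn'
      have hAtop : A = ⊤ := Subgroup.eq_top_of_card_eq A (by rw [hA, hX])
      have hXc : IsMulCommutative X := by
        refine ⟨⟨fun a b => ?_⟩⟩
        have h1 := hAc.is_comm.comm (⟨a, by rw [hAtop]; trivial⟩ : A) ⟨b, by rw [hAtop]; trivial⟩
        exact congrArg Subtype.val h1
      have h1 := Group.IsNilpotent.nilpotencyClass_le_one_iff.mpr hXc
      have h2 : Group.nilpotencyClass X ≠ 0 := by
        rw [Ne, Group.nilpotencyClass_zero_iff_subsingleton]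
        exact not_subsingleton X
      omega
    · obtain ⟨Z, hZ⟩ : ∃ Z, Z = Subgroup.center X := ⟨_, rfl⟩
      have hZn : Z.Normal := by rw [hZ]; infer_instance
      have hZA : Z ≤ A := by rw [← hC, hZ]; exact Subgroup.center_le_centralizer _
      have hZA' : Z ≠ A := by
        intro h
        have h1 : Subgroup.centralizer (A : Set X) = ⊤ := by
          rw [← h, hZ, Subgroup.centralizer_eq_top_iff_subset]
        rw [hC] at h1
        rw [h1, Subgroup.card_top, hX] at hA
        have := Nat.pow_right_injective hp.out.two_le hA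
        omega
      have hZcard : Nat.card Z = p := by
        have h1 : Nat.card Z ∣ p ^ 2 := by rw [← hA]; exact Subgroup.card_dvd_of_le hZA
        obtain ⟨k, hk, hk'⟩ := (Nat.dvd_prime_pow hp.out).mp h1
        interval_cases k
        · exfalso
          have h2 : Nontrivial (Subgroup.center X) := hXp.center_nontrivial
          have h3 := Finite.one_lt_card_iff_nontrivial.mpr h2
          rw [← hZ, hk', pow_zero] at h3
          omega
        · rw [hk', pow_one]
        · exfalso
          exact hZA' (Subgroup.eq_of_le_of_card_ge hZA (by rw [hk', hA]))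
      -- the element a₀
      obtain ⟨a₀, ha₀, ha₀Z⟩ := SetLike.exists_of_lt (lt_of_le_of_ne hZA hZA')
      -- Abar
      obtain ⟨Ab, hAb⟩ : ∃ Ab, Ab = A.map (QuotientGroup.mk' Z) := ⟨_, rfl⟩
      have hAbcard : Nat.card Ab = p := by
        have h1 := card_map_mk'_mul_card_of_le Z A hZA
        rw [← hAb, hZcard, hA, sq] at h1
        exact Nat.eq_of_mul_eq_mul_right hp.out.pos h1
      obtain ⟨Bb, hBb⟩ : ∃ Bb, Bb = Subgroup.centralizer (Ab : Set (X ⧸ Z)) := ⟨_, rfl⟩
      have hXb : Nat.card (X ⧸ Z) = p ^ n := by
        have h1 := card_quotient_mul_card Z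
        rw [hZcard, hX, pow_succ] at h1
        exact Nat.eq_of_mul_eq_mul_right hp.out.pos h1
      have hAbc : IsMulCommutative Ab := by
        have : IsCyclic Ab := isCyclic_of_prime_card hAbcard
        exact IsCyclic.commutative
      have hAbBb : Ab ≤ Bb := by
        rw [hBb]; exact Subgroup.le_centralizer_iff_isMulCommutative.mpr hAbc
      have hne : Ab ≠ Bb := by
        intro h
        have h1 : Subgroup.center (X ⧸ Z) ≤ Ab := by
          rw [h, hBb]; exact Subgroup.center_le_centralizer _
        have hnt' : Nontrivial (X ⧸ Z) := by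
          rw [← Finite.one_lt_card_iff_nontrivial, hXb]
          exact Nat.one_lt_pow (by omega) hp.out.one_lt
        have h2 : Nontrivial (Subgroup.center (X ⧸ Z)) := (hXp.to_quotient Z).center_nontrivial
        have h3 := Finite.one_lt_card_iff_nontrivial.mpr h2
        have h4 : Nat.card (Subgroup.center (X ⧸ Z)) ∣ p := by
          rw [← hAbcard]; exact Subgroup.card_dvd_of_le h1
        have h5 : Nat.card (Subgroup.center (X ⧸ Z)) = p := by
          rcases (Nat.dvd_prime hp.out).mp h4 with h5 | h5
          · omega
          · exact h5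
        have h6 : Subgroup.center (X ⧸ Z) = Ab :=
          Subgroup.eq_of_le_of_card_ge h1 (by rw [h5, hAbcard])
        have h7 : Bb = ⊤ := by
          rw [hBb, ← h6, Subgroup.centralizer_eq_top_iff_subset]
        rw [← h] at h7
        rw [h7, Subgroup.card_top, hXb] at hAbcard
        have h8 : p ^ n = p ^ 1 := by rw [hAbcard, pow_one]
        have := Nat.pow_right_injective hp.out.two_le h8
        omega
      obtain ⟨B, hB⟩ : ∃ B, B = Bb.comap (QuotientGroup.mk' Z) := ⟨_, rfl⟩
      have hBmem : ∀ b ∈ B, b * a₀ * b⁻¹ * a₀⁻¹ ∈ Z := by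
        intro b hb
        rw [hB, Subgroup.mem_comap, hBb] at hb
        have h1 := Subgroup.mem_centralizer_iff.mp hb (QuotientGroup.mk' Z a₀)
          (by rw [hAb]; exact ⟨a₀, ha₀, rfl⟩)
        rw [← QuotientGroup.eq_one_iff]
        change QuotientGroup.mk' Z (b * a₀ * b⁻¹ * a₀⁻¹) = 1
        rw [map_mul, map_mul, map_mul, map_inv, map_inv, ← h1]
        group
      -- C_X(a₀) = A
      have hCa₀ : ∀ x, x * a₀ = a₀ * x → x ∈ A := by
        intro x hx
        rw [← hC, Subgroup.mem_centralizer_iff]
        have h1 : A ≤ Subgroup.centralizer ({x} : Set X) := by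
          -- Z ⊔ ⟨a₀⟩ = A
          have h2 : Z ⊔ Subgroup.zpowers a₀ = A := by
            have h3 : Z ⊔ Subgroup.zpowers a₀ ≤ A :=
              sup_le hZA (Subgroup.zpowers_le.mpr ha₀)
            have h4 : Z < Z ⊔ Subgroup.zpowers a₀ := by
              refine lt_of_le_of_ne le_sup_left (fun h => ha₀Z ?_)
              rw [h]; exact (le_sup_right : Subgroup.zpowers a₀ ≤ _) (Subgroup.mem_zpowers _)
            have h5 := card_lt_of_lt h4
            have h6 : Nat.card (Z ⊔ Subgroup.zpowers a₀ : Subgroup X) ∣ p ^ 2 := by
              rw [← hA]; exact Subgroup.card_dvd_of_le h3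
            obtain ⟨k, hk, hk'⟩ := (Nat.dvd_prime_pow hp.out).mp h6
            rw [hZcard, hk'] at h5
            apply Subgroup.eq_of_le_of_card_ge h3
            have h7 : p ^ 1 < p ^ k := by rwa [pow_one]
            have h8 := (Nat.pow_lt_pow_iff_right hp.out.one_lt).mp h7
            have h9 : k = 2 := by omega
            rw [hk', hA, h9]
          rw [← h2]
          apply sup_le
          · rw [hZ]; exact Subgroup.center_le_centralizer _
          · rw [Subgroup.zpowers_le, Subgroup.mem_centralizer_iff]
            rintro _ rfl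
            exact hx
        intro a ha
        exact (Subgroup.mem_centralizer_iff.mp (h1 ha) x rfl).symm
      have hZc : ∀ z ∈ Z, ∀ x, z * x = x * z := by
        intro z hz x
        rw [hZ] at hz
        exact (Subgroup.mem_center_iff.mp hz x).symm
      let f : B →* Z := MonoidHom.mk' (fun b => ⟨b * a₀ * b⁻¹ * a₀⁻¹, hBmem b b.2⟩) (by
        intro x y
        apply Subtype.ext
        change (x * y : X) * a₀ * (x * y : X)⁻¹ * a₀⁻¹ = (x * a₀ * (x : X)⁻¹ * a₀⁻¹) * (y * a₀ * (y : X)⁻¹ * a₀⁻¹)
        have h1 := hZc _ (hBmem y y.2) (a₀ * (x : X)⁻¹ * a₀⁻¹)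
        have h2 := hZc _ (hBmem y y.2) (x : X)
        calc (x * y : X) * a₀ * (x * y : X)⁻¹ * a₀⁻¹
            = x * ((y * a₀ * (y : X)⁻¹ * a₀⁻¹) * (a₀ * (x : X)⁻¹ * a₀⁻¹)) := by group
          _ = x * ((a₀ * (x : X)⁻¹ * a₀⁻¹) * (y * a₀ * (y : X)⁻¹ * a₀⁻¹)) := by rw [h1]
          _ = _ := by group)
      have hker : Nat.card f.ker ≤ p ^ 2 := by
        rw [← hA]
        let g : f.ker → A := fun b => ⟨((b : B) : X), by
          apply hCa₀
          have h1 : ((b : B) : X) * a₀ * ((b : B) : X)⁻¹ * a₀⁻¹ = 1 :=
            congrArg (fun z : Z => (z : X)) (MonoidHom.mem_ker.mp b.2)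
          have h2 := mul_inv_eq_one.mp h1
          exact mul_inv_eq_iff_eq_mul.mp h2⟩
        apply Nat.card_le_card_of_injective g
        intro x y hxy
        apply Subtype.ext
        apply Subtype.ext
        exact congrArg (fun a : A => (a : X)) hxy
      have hBcard : Nat.card B ≤ p ^ 3 := by
        refine (hom_sub_le f).trans ?_
        rw [hZcard, pow_succ p 2]
        exact Nat.mul_le_mul_right _ hker
      have hBbcard : Nat.card Bb = p ^ 2 := by
        have h1 := card_comap_mk' Z Bb
        rw [← hB, hZcard] at h1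
        have h2 : Nat.card Bb ≤ p ^ 2 := by
          have h3 : Nat.card Bb * p ≤ p ^ 2 * p := by rw [← h1, ← pow_succ]; exact hBcard
          exact Nat.le_of_mul_le_mul_right h3 hp.out.pos
        have h4 := card_lt_of_lt (lt_of_le_of_ne hAbBb hne)
        obtain ⟨k, hk⟩ := IsPGroup.iff_card.mp ((hXp.to_quotient Z).to_subgroup Bb)
        rw [hk] at h2 h4
        rw [hAbcard] at h4
        have h5 : p ^ 1 < p ^ k := by rwa [pow_one]
        have h6 := (Nat.pow_lt_pow_iff_right hp.out.one_lt).mp h5
        have h7 := (Nat.pow_le_pow_iff_right hp.out.one_lt).mp h2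
        have h8 : k = 2 := by omega
        rw [hk, h8]
      have hBbc : IsMulCommutative Bb := by
        have h1 := IsPGroup.commutative_of_card_eq_prime_sq hBbcard
        exact ⟨⟨fun a b => h1 a b⟩⟩
      have hcent : Subgroup.centralizer (Bb : Set (X ⧸ Z)) = Bb := by
        apply le_antisymm
        · conv_rhs => rw [hBb]
          exact Subgroup.centralizer_le hAbBb
        · exact Subgroup.le_centralizer_iff_isMulCommutative.mpr hBbc
      have h1 := ih (X ⧸ Z) hXb Bb hBbcard hcent
      have h2 : Group.nilpotencyClass X = Group.nilpotencyClass (X ⧸ Z) + 1 := by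
        subst hZ
        exact Group.nilpotencyClass_eq_quotient_center_plus_one
      rw [h2, h1]
      omega

/-- an abelian subgroup with `X = C⟨x⟩`: `|C| = |X'| |Z(X)|` -/
theorem card_abelian_normal {X : Type u} [Group X] [Finite X] (C : Subgroup X) [hCn : C.Normal]
    (hCc : ∀ a ∈ C, ∀ b ∈ C, a * b = b * a) (x : X) (hx : C ⊔ Subgroup.zpowers x = ⊤)
    (hZ : Subgroup.center X ≤ C) :
    Nat.card C = Nat.card (commutator X) * Nat.card (Subgroup.center X) := by
  have hmem : ∀ c ∈ C, c * x * c⁻¹ * x⁻¹ ∈ C := by
    intro c hc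
    have e : c * x * c⁻¹ * x⁻¹ = c * (x * c⁻¹ * x⁻¹) := by group
    rw [e]
    exact mul_mem hc (hCn.conj_mem _ (inv_mem hc) x)
  let f : C →* X := MonoidHom.mk' (fun c => (c : X) * x * (c : X)⁻¹ * x⁻¹) (by
    intro a b
    change (a * b : X) * x * (a * b : X)⁻¹ * x⁻¹ = (a * x * (a : X)⁻¹ * x⁻¹) * (b * x * (b : X)⁻¹ * x⁻¹)
    have h1 := hCc _ (hmem b b.2) _ (hCn.conj_mem _ (inv_mem a.2) x)
    calc (a * b : X) * x * (a * b : X)⁻¹ * x⁻¹
        = a * ((b * x * (b : X)⁻¹ * x⁻¹) * (x * (a : X)⁻¹ * x⁻¹)) := by group
      _ = a * ((x * (a : X)⁻¹ * x⁻¹) * (b * x * (b : X)⁻¹ * x⁻¹)) := by rw [h1]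
      _ = _ := by group)
  have hf : ∀ c : C, f c = (c : X) * x * (c : X)⁻¹ * x⁻¹ := fun _ => rfl
  have hfC : f.range ≤ C := by
    rintro _ ⟨c, rfl⟩
    exact hmem c c.2
  -- centralizing criterion
  have hcen : ∀ c ∈ C, c * x = x * c → c ∈ Subgroup.center X := by
    intro c hc hcx
    rw [Subgroup.mem_center_iff]
    have h1 : (⊤ : Subgroup X) ≤ Subgroup.centralizer {c} := by
      rw [← hx]
      apply sup_le
      · intro d hd
        rw [Subgroup.mem_centralizer_iff]
        rintro _ rfl
        exact hCc _ hc d hd
      · rw [Subgroup.zpowers_le, Subgroup.mem_centralizer_iff]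
        rintro _ rfl
        exact hcx
    intro g
    exact (Subgroup.mem_centralizer_iff.mp (h1 (Subgroup.mem_top g)) c rfl).symm
  have hker : Nat.card f.ker = Nat.card (Subgroup.center X) := by
    have h1 : f.ker.map C.subtype = Subgroup.center X := by
      ext y
      constructor
      · rintro ⟨c, hc, rfl⟩
        apply hcen c c.2
        have h2 := MonoidHom.mem_ker.mp hc
        rw [hf] at h2
        exact mul_inv_eq_iff_eq_mul.mp (mul_inv_eq_one.mp h2)
      · intro hy
        refine ⟨⟨y, hZ hy⟩, ?_, rfl⟩
        rw [SetLike.mem_coe, MonoidHom.mem_ker, hf]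
        change y * x * y⁻¹ * x⁻¹ = 1
        rw [← Subgroup.mem_center_iff.mp hy x]
        group
    rw [← h1, Subgroup.card_map_of_injective C.subtype_injective]
  have hrange : f.range = commutator X := by
    apply le_antisymm
    · rintro _ ⟨c, rfl⟩
      rw [hf, commutator_def]
      exact Subgroup.commutator_mem_commutator (Subgroup.mem_top _) (Subgroup.mem_top _)
    · have hn : f.range.Normal := by
        rw [← Subgroup.normalizer_eq_top_iff, eq_top_iff, ← hx]
        have hsub : ∀ y ∈ Subgroup.zpowers x ⊔ C, True := fun _ _ => trivial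
        apply sup_le
        · intro c hc
          rw [Subgroup.mem_normalizer_iff]
          intro y
          constructor
          · intro hy
            have h1 := hCc c hc y (hfC hy)
            rw [h1, mul_inv_cancel_right]; exact hy
          · intro hy
            have h1 := hCc c hc _ (hfC hy)
            have e : y = c⁻¹ * (c * y * c⁻¹) * c := by group
            have h2 : c⁻¹ * (c * y * c⁻¹) * c = c * y * c⁻¹ := by
              rw [mul_assoc, ← h1]; group
            rw [e, h2]; exact hy
        · rw [Subgroup.zpowers_le]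
          have key : ∀ y ∈ f.range, x * y * x⁻¹ ∈ f.range := by
            rintro _ ⟨c, rfl⟩
            refine ⟨⟨x * c * x⁻¹, hCn.conj_mem _ c.2 x⟩, ?_⟩
            rw [hf, hf]
            change (x * c * x⁻¹) * x * (x * c * x⁻¹)⁻¹ * x⁻¹ = x * (c * x * (c : X)⁻¹ * x⁻¹) * x⁻¹
            group
          have h2 : f.range.map (MulAut.conj x).toMonoidHom = f.range := by
            apply Subgroup.eq_of_le_of_card_ge
            · rintro _ ⟨y, hy, rfl⟩
              exact key y hy
            · rw [Subgroup.card_map_of_injective (MulAut.conj x).injective]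
          rw [mem_normalizer_iff_conj_smul]
          exact h2
      rw [commutator_def, Subgroup.commutator_le]
      -- the quotient is abelian
      have hxq : ∀ c ∈ C, QuotientGroup.mk' f.range c * QuotientGroup.mk' f.range x =
          QuotientGroup.mk' f.range x * QuotientGroup.mk' f.range c := by
        intro c hc
        rw [← map_mul, ← map_mul]
        rw [← mul_inv_eq_one, ← map_inv, ← map_mul]
        refine (QuotientGroup.eq_one_iff _).mpr ⟨⟨c, hc⟩, ?_⟩
        rw [hf]
        change c * x * c⁻¹ * x⁻¹ = c * x * (x * c)⁻¹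
        group
      have htop : ∀ a b : X, QuotientGroup.mk' f.range a * QuotientGroup.mk' f.range b =
          QuotientGroup.mk' f.range b * QuotientGroup.mk' f.range a := by
        have h3 : (⊤ : Subgroup X) ≤ (Subgroup.center (X ⧸ f.range)).comap (QuotientGroup.mk' f.range) := by
          have h4 : ∀ c ∈ C, QuotientGroup.mk' f.range c ∈ Subgroup.center (X ⧸ f.range) := by
            intro c hc
            have h5 : (⊤ : Subgroup X) ≤ (Subgroup.centralizer
              {QuotientGroup.mk' f.range c}).comap (QuotientGroup.mk' f.range) := by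
              rw [← hx]
              apply sup_le
              · intro d hd
                rw [Subgroup.mem_comap, Subgroup.mem_centralizer_iff]
                rintro _ rfl
                rw [← map_mul, ← map_mul, hCc c hc d hd]
              · rw [Subgroup.zpowers_le, Subgroup.mem_comap, Subgroup.mem_centralizer_iff]
                rintro _ rfl
                exact hxq c hc
            rw [Subgroup.mem_center_iff]
            intro g
            obtain ⟨y, rfl⟩ := QuotientGroup.mk'_surjective f.range g
            exact (Subgroup.mem_centralizer_iff.mp (h5 (Subgroup.mem_top y)) _ rfl).symm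
          rw [← hx]
          apply sup_le
          · intro c hc; exact h4 c hc
          · rw [Subgroup.zpowers_le, Subgroup.mem_comap, Subgroup.mem_center_iff]
            intro g
            obtain ⟨y, rfl⟩ := QuotientGroup.mk'_surjective f.range g
            have h5 : (⊤ : Subgroup X) ≤ (Subgroup.centralizer
              {QuotientGroup.mk' f.range x}).comap (QuotientGroup.mk' f.range) := by
              rw [← hx]
              apply sup_le
              · intro d hd
                rw [Subgroup.mem_comap, Subgroup.mem_centralizer_iff]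
                rintro _ rfl
                exact (hxq d hd).symm
              · rw [Subgroup.zpowers_le, Subgroup.mem_comap, Subgroup.mem_centralizer_iff]
                rintro _ rfl
                rfl
            exact (Subgroup.mem_centralizer_iff.mp (h5 (Subgroup.mem_top y)) _ rfl).symm
        intro a b
        exact (Subgroup.mem_center_iff.mp (h3 (Subgroup.mem_top b)) _)
      intro a _ b _
      rw [← QuotientGroup.eq_one_iff]
      change QuotientGroup.mk' f.range ⁅a, b⁆ = 1
      rw [map_commutatorElement, commutatorElement_eq_one_iff_mul_comm]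
      exact htop a b
  have h1 := f.ker.card_mul_index
  rw [Subgroup.index_ker, hker, hrange] at h1
  rw [← h1, mul_comm]

end CfsgLib.MaxClass
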