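import Cfsg.Agent.LibCollect
import Cfsg.Agent.LibMaxClass
import Cfsg.Agent.LibSolvFrat
import Cfsg.Agent.LibSolvNilp
import Cfsg.Prelude.Def_Transfer

/-! `p`-groups of rank at most two, `p > 3` -/

set_option autoImplicit false

namespace CfsgLib.RankTwo

open Subgroup CfsgLib.SolvBasic CfsgLib.SolvMin CfsgLib.SolvCoprime CfsgLib.SolvNilp Cfsg
open scoped commutatorElement

universe u

/-- rank at most two -/
def Rk2 (p : ℕ) (R : Type u) [Group R] : Prop := ∀ E : Subgroup R, IsElementaryAbelian p E → Nat.card E ≤ p ^ 2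

theorem Rk2.sub {p : ℕ} {R : Type u} [Group R] (h : Rk2 p R) (S : Subgroup R) : Rk2 p S := by
  intro E hE
  have h1 : IsElementaryAbelian p (E.map S.subtype) := by
    obtain ⟨hc, he⟩ := hE
    refine ⟨inferInstance, ?_⟩
    rintro _ ⟨x, hx, rfl⟩
    rw [← map_pow, he x hx, map_one]
  have h2 := h _ h1
  rwa [card_map_of_injective S.subtype_injective] at h2

variable {K : Type u} [Group K]

theorem card_pow [Finite K] {p : ℕ} [hp : Fact p.Prime] (hK : IsPGroup p K) (N : Subgroup K) :
    ∃ k, Nat.card N = p ^ k := IsPGroup.iff_card.mp (hK.to_subgroup N)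

theorem card_le_of_lt [Finite K] {p : ℕ} [hp : Fact p.Prime] (hK : IsPGroup p K) {M N : Subgroup K} (h : M < N) :
    Nat.card M * p ≤ Nat.card N := by
  obtain ⟨k, hk⟩ := card_pow hK M
  obtain ⟨l, hl⟩ := card_pow hK N
  have h1 := card_lt_of_lt h
  rw [hk, hl] at h1
  have h2 : k < l := (Nat.pow_lt_pow_iff_right hp.out.one_lt).mp h1
  rw [hk, hl, ← pow_succ]
  exact Nat.pow_le_pow_right hp.out.pos h2

/-- exponent `p` and rank at most two: order at most `p ^ 3` -/
theorem card_le_of_exp [Finite K] {p : ℕ} [hp : Fact p.Prime] (hK : IsPGroup p K) (hexp : ∀ x : K, x ^ p = 1)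
    (hrk : Rk2 p K) : Nat.card K ≤ p ^ 3 := by
  haveI : Group.IsNilpotent K := hK.isNilpotent
  obtain ⟨N, hN, hNc, -, hmax⟩ := exists_maximal_abelian_normal_ge (⊥ : Subgroup K) inferInstance inferInstance
  have hcent := centralizer_eq_of_maximal N hmax
  have hNe : IsElementaryAbelian p N := ⟨hNc, fun a _ => hexp a⟩
  have hNcard := hrk N hNe
  have hp3 : p ^ 2 ≤ p ^ 3 := Nat.pow_le_pow_right hp.out.pos (by norm_num)
  by_cases hB : ⁅N, (⊤ : Subgroup K)⁆ = ⊥
  · rw [commutator_top_right_eq_bot_iff_le_center] at hB
    have h1 : (⊤ : Subgroup K) ≤ N := by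
      rw [← hcent]
      intro x _
      rw [mem_centralizer_iff]
      intro y hy
      exact (mem_center_iff.mp (hB hy) x).symm
    have h2 : Nat.card K = Nat.card N := by rw [top_le_iff.mp h1, card_top]
    rw [h2]; exact hNcard.trans hp3
  · have hNb : N ≠ ⊥ := by
      rintro rfl
      exact hB (commutator_bot_left _)
    have h1 := commutator_top_lt_of_nilpotent N hNb
    have h2 := card_le_of_lt hK h1
    have h3 := commutator_top_lt_of_nilpotent (⁅N, (⊤ : Subgroup K)⁆) hB
    have h4 := card_le_of_lt hK h3
    set B := ⁅N, (⊤ : Subgroup K)⁆ with hBdef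
    have hppos := hp.out.pos
    have hBcard : Nat.card B ≤ p := by
      have : Nat.card B * p ≤ p * p := by rw [← pow_two]; exact h2.trans hNcard
      exact Nat.le_of_mul_le_mul_right this hppos
    have hBB : ⁅B, (⊤ : Subgroup K)⁆ = ⊥ := by
      rw [← card_eq_one]
      have h5 : Nat.card (⁅B, (⊤ : Subgroup K)⁆ : Subgroup K) * p ≤ 1 * p := by rw [one_mul]; exact h4.trans hBcard
      have h6 := Nat.le_of_mul_le_mul_right h5 hppos
      have h7 := Nat.card_pos (α := (⁅B, (⊤ : Subgroup K)⁆ : Subgroup K))
      omega
    rw [commutator_top_right_eq_bot_iff_le_center] at hBB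
    obtain ⟨a, haN, haB⟩ := SetLike.exists_of_lt h1
    -- `N = B ⟨a⟩`
    have hNBa : N ≤ B ⊔ zpowers a := by
      have h5 : B < B ⊔ zpowers a := by
        refine lt_of_le_of_ne le_sup_left ?_
        intro h
        apply haB
        rw [h]
        exact mem_sup_right (mem_zpowers a)
      have h6 := card_le_of_lt hK h5
      have hB1 : p ≤ Nat.card B := by
        have := card_le_of_lt hK (bot_lt_iff_ne_bot.mpr hB)
        rwa [card_bot, one_mul] at this
      have h7 : B ⊔ zpowers a ≤ N := sup_le h1.le (by rwa [zpowers_le])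
      have h8 : B ⊔ zpowers a = N := by
        apply eq_of_le_of_card_ge h7
        calc Nat.card N ≤ p ^ 2 := hNcard
          _ = p * p := pow_two p
          _ ≤ Nat.card B * p := Nat.mul_le_mul_right p hB1
          _ ≤ _ := h6
      rw [h8]
    have hcenta : centralizer ({a} : Set K) ≤ N := by
      intro x hx
      rw [← hcent, mem_centralizer_iff]
      rw [mem_centralizer_singleton_iff] at hx
      have h5 : B ⊔ zpowers a ≤ centralizer ({x} : Set K) := by
        apply sup_le
        · intro b hb
          rw [mem_centralizer_singleton_iff]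
          exact (mem_center_iff.mp (hBB hb) x).symm
        · rw [zpowers_le, mem_centralizer_singleton_iff]; exact hx.symm
      intro y hy
      exact mem_centralizer_singleton_iff.mp (h5 (hNBa hy))
    have hmem : ∀ k : K, k * a * k⁻¹ * a⁻¹ ∈ B := by
      intro k
      rw [hBdef, commutator_comm]
      exact commutator_mem_commutator (mem_top k) haN
    have hBc : ∀ b ∈ B, ∀ k : K, k * b = b * k := fun b hb k => mem_center_iff.mp (hBB hb) k
    let f : K →* B := MonoidHom.mk' (fun k => ⟨k * a * k⁻¹ * a⁻¹, hmem k⟩) (by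
      intro k l
      apply Subtype.ext
      change k * l * a * (k * l)⁻¹ * a⁻¹ = (k * a * k⁻¹ * a⁻¹) * (l * a * l⁻¹ * a⁻¹)
      have h5 := hBc _ (hmem l) (k * a * k⁻¹ * a⁻¹)
      have h6 := hBc _ (hmem l) k
      calc k * l * a * (k * l)⁻¹ * a⁻¹ = (k * (l * a * l⁻¹ * a⁻¹)) * (a * k⁻¹ * a⁻¹) := by group
        _ = (l * a * l⁻¹ * a⁻¹) * (k * a * k⁻¹ * a⁻¹) := by rw [h6]; group
        _ = _ := h5.symm)
    have hker : f.ker ≤ N := by
      intro k hk
      apply hcenta
      rw [mem_centralizer_singleton_iff]
      have h5 : k * a * k⁻¹ * a⁻¹ = 1 := congrArg Subtype.val (MonoidHom.mem_ker.mp hk)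
      rw [mul_inv_eq_one, mul_inv_eq_iff_eq_mul] at h5
      exact h5
    calc Nat.card K ≤ Nat.card f.ker * Nat.card B := CfsgLib.MaxClass.hom_sub_le f
      _ ≤ p ^ 2 * p := Nat.mul_le_mul ((card_le_of_le hker).trans hNcard) hBcard
      _ = p ^ 3 := (pow_succ p 2).symm

/-- class at most three for order at most `p ^ 4` -/
theorem class_le_three [Finite K] {p : ℕ} [hp : Fact p.Prime] (hK : IsPGroup p K) (hcard : Nat.card K ≤ p ^ 4) :
    ⁅⁅commutator K, (⊤ : Subgroup K)⁆, (⊤ : Subgroup K)⁆ = ⊥ := by
  haveI : Group.IsNilpotent K := hK.isNilpotent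
  by_contra hne
  have h3 : ⁅commutator K, (⊤ : Subgroup K)⁆ ≠ ⊥ := by
    intro h; rw [h] at hne; exact hne (commutator_bot_left _)
  have h2 : commutator K ≠ ⊥ := by
    intro h; rw [h] at h3; exact h3 (commutator_bot_left _)
  have e4 := card_le_of_lt hK (bot_lt_iff_ne_bot.mpr hne)
  have e3 := card_le_of_lt hK (commutator_top_lt_of_nilpotent _ h3)
  have e2 := card_le_of_lt hK (commutator_top_lt_of_nilpotent _ h2)
  rw [card_bot, one_mul] at e4
  -- the index of the commutator is at least `p ^ 2`
  have hcp : p ^ 3 ≤ Nat.card (commutator K) := by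
    calc p ^ 3 = p * p * p := by ring
      _ ≤ Nat.card (⁅⁅commutator K, (⊤ : Subgroup K)⁆, (⊤ : Subgroup K)⁆ : Subgroup K) * p * p := by gcongr
      _ ≤ Nat.card (⁅commutator K, (⊤ : Subgroup K)⁆ : Subgroup K) * p := by gcongr
      _ ≤ _ := e2
  have hidx : (commutator K).index ≤ p := by
    have h4 := (commutator K).card_mul_index
    by_contra hcon
    push Not at hcon
    have : p ^ 3 * p < Nat.card (commutator K) * (commutator K).index :=
      Nat.mul_lt_mul_of_le_of_lt hcp hcon (Nat.card_pos)
    rw [h4, ← pow_succ] at this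
    exact absurd hcard (not_le.mpr this)
  have hcyc : IsCyclic (K ⧸ commutator K) := by
    obtain ⟨j, hj⟩ := IsPGroup.iff_card.mp (hK.to_quotient (commutator K))
    have h5 : Nat.card (K ⧸ commutator K) = (commutator K).index := rfl
    rw [← h5, hj] at hidx
    have h6 : j ≤ 1 := by
      by_contra h7
      have : p ^ 2 ≤ p ^ j := Nat.pow_le_pow_right hp.out.pos (by omega)
      have h8 : p * 1 < p * p := Nat.mul_lt_mul_of_pos_left hp.out.one_lt hp.out.pos
      rw [pow_two] at this
      omega
    interval_cases j
    · rw [pow_zero] at hj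
      haveI : Subsingleton (K ⧸ commutator K) := (Nat.card_eq_one_iff_unique.mp hj).1
      infer_instance
    · rw [pow_one] at hj
      exact isCyclic_of_prime_card hj
  obtain ⟨g, hg⟩ := hcyc.exists_generator
  obtain ⟨x, rfl⟩ := QuotientGroup.mk'_surjective _ g
  have hsup : zpowers x ⊔ commutator K = ⊤ := by
    rw [eq_top_iff]
    intro y _
    obtain ⟨k, hk⟩ := mem_zpowers_iff.mp (hg (QuotientGroup.mk' _ y))
    rw [← map_zpow] at hk
    have h7 := (QuotientGroup.eq (s := commutator K)).mp hk
    have h8 : y = x ^ k * ((x ^ k)⁻¹ * y) := by group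
    rw [h8]
    exact mul_mem (mem_sup_left (zpow_mem (mem_zpowers x) k)) (mem_sup_right h7)
  have htop : zpowers x = ⊤ := by
    apply frattini_nongenerating
    rw [eq_top_iff, ← hsup]
    exact sup_le_sup_left (CfsgLib.SolvFrat.commutator_le_frattini hp.out hK) _
  apply h2
  rw [_root_.commutator_def, commutator_eq_bot_iff_le_centralizer]
  intro a _
  rw [mem_centralizer_iff]
  intro b _
  have ha : a ∈ zpowers x := by rw [htop]; trivial
  have hb : b ∈ zpowers x := by rw [htop]; trivial
  obtain ⟨i, rfl⟩ := mem_zpowers_iff.mp ha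
  obtain ⟨j, rfl⟩ := mem_zpowers_iff.mp hb
  rw [← zpow_add, ← zpow_add, add_comm]

theorem main {p : ℕ} [hp : Fact p.Prime] (hp3 : 3 < p) (n : ℕ) : ∀ (R : Type u) [Group R] [Finite R], Nat.card R ≤ n →
    IsPGroup p R → Rk2 p R → ∀ g ∈ closure {x : R | x ^ p = 1}, g ^ p = 1 := by
  induction n with
  | zero => intro R _ _ h; exact absurd h (by have := Nat.card_pos (α := R); omega)
  | succ n ih =>
    intro R _ _ hcard hR hrk g hg
    haveI : Group.IsNilpotent R := hR.isNilpotent
    induction hg using closure_induction with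
    | mem x hx => exact hx
    | one => exact one_pow _
    | inv x _ hx => rw [inv_pow, hx, inv_one]
    | mul x y _ _ hx hy =>
      by_cases hS : closure ({x, y} : Set R) = ⊤
      · by_cases hX : zpowers x = ⊤
        · have h1 : Nat.card R ∣ p := by
            rw [← card_top (G := R), ← hX, Nat.card_zpowers]
            exact orderOf_dvd_of_pow_eq_one hx
          obtain ⟨k, hk⟩ := h1
          have h2 : (x * y) ^ Nat.card R = 1 := pow_card_eq_one'
          rw [hk, pow_mul]
          have : (x * y) ^ Nat.card R = 1 := h2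
          rw [this, one_pow]
        · obtain ⟨M, hM, hxM⟩ : ∃ M, IsCoatom M ∧ zpowers x ≤ M := (eq_top_or_exists_le_coatom _).resolve_left hX
          have hMn : M.Normal := by
            have := Group.normalizerCondition_of_isNilpotent (G := R)
            exact this.normal_of_coatom M hM
          have hMc := card_lt_of_ne_top hM.1
          have hIH := ih M (by omega) (hR.to_subgroup M) (hrk.sub M)
          set K₀ : Subgroup M := closure {m : M | m ^ p = 1} with hK₀
          have hchar : K₀.Characteristic := by
            rw [characteristic_iff_map_le]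
            intro φ
            rw [hK₀, MonoidHom.map_closure, closure_le]
            rintro _ ⟨m, hm, rfl⟩
            apply Subgroup.subset_closure
            have hm' : m ^ p = 1 := hm
            change (φ m) ^ p = 1
            rw [← map_pow, hm', map_one]
          have hKn : (K₀.map M.subtype).Normal := inferInstance
          have hKexp : ∀ k : (K₀.map M.subtype : Subgroup R), k ^ p = 1 := by
            rintro ⟨_, k, hk, rfl⟩
            apply Subtype.ext
            have := hIH k hk
            have h9 := congrArg (fun m : M => (m : R)) this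
            exact h9
          have hKcard := card_le_of_exp (hR.to_subgroup _) hKexp (hrk.sub _)
          have hxK : x ∈ K₀.map M.subtype := by
            refine ⟨⟨x, hxM (mem_zpowers x)⟩, Subgroup.subset_closure ?_, rfl⟩
            exact Subtype.ext hx
          have hsup : K₀.map M.subtype ⊔ zpowers y = ⊤ := by
            rw [eq_top_iff, ← hS, closure_le]
            rintro z (rfl | rfl)
            · exact mem_sup_left hxK
            · exact mem_sup_right (mem_zpowers _)
          have hcard4 : Nat.card R ≤ p ^ 4 := by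
            have h1 := card_sup_of_normal (K₀.map M.subtype) (zpowers y)
            rw [hsup, card_top] at h1
            have h2 : Nat.card (zpowers y) ≤ p := by
              rw [Nat.card_zpowers]
              exact Nat.le_of_dvd hp.out.pos (orderOf_dvd_of_pow_eq_one hy)
            calc Nat.card R ≤ Nat.card R * Nat.card (K₀.map M.subtype ⊓ zpowers y : Subgroup R) :=
                  Nat.le_mul_of_pos_right _ Nat.card_pos
              _ = _ := h1
              _ ≤ p ^ 3 * p := Nat.mul_le_mul hKcard h2
              _ = p ^ 4 := (pow_succ p 3).symm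
          apply CfsgLib.Collect.pow_eq_one_of_class_three hp.out hp3 (class_le_three hR hcard4)
          exact mul_mem (Subgroup.subset_closure hx) (Subgroup.subset_closure hy)
      · have h1 := card_lt_of_ne_top hS
        have hxS : x ∈ closure ({x, y} : Set R) := Subgroup.subset_closure (by simp)
        have hyS : y ∈ closure ({x, y} : Set R) := Subgroup.subset_closure (by simp)
        have h2 := ih (closure ({x, y} : Set R)) (by omega) (hR.to_subgroup _) (hrk.sub _) (⟨x, hxS⟩ * ⟨y, hyS⟩)
          (mul_mem (Subgroup.subset_closure (Subtype.ext hx)) (Subgroup.subset_closure (Subtype.ext hy)))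
        exact congrArg Subtype.val h2

end CfsgLib.RankTwo
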