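import Cfsg.Agent.LibFus21E4
import Cfsg.Agent.LibFus21Sup1
import Cfsg.Agent.LibFus21Tv8
import Cfsg.Agent.LibExForm2
import Cfsg.Agent.LibRankTwo

set_option autoImplicit false

/-! Essential subgroups of order `p⁴`: group theory. -/

namespace CfsgLib.Fus21

open Cfsg Cfsg.FusionSystem
open scoped IsMulCommutative

section

variable {H : Type*} [Group H] [Finite H] {p : ℕ} [hp : Fact p.Prime]

theorem comm_of_center_index (hZ : (Subgroup.center H).index ≤ p) (hH : IsPGroup p H) (x y : H) : x * y = y * x := by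
  obtain ⟨k, hk⟩ := hH.index (Subgroup.center H)
  rw [hk] at hZ
  have hk1 : k < 2 := by
    apply (Nat.pow_lt_pow_iff_right hp.out.one_lt).1
    refine lt_of_le_of_lt hZ ?_
    rw [pow_two]
    have := hp.out.one_lt
    nlinarith
  have hcyc : IsCyclic (H ⧸ Subgroup.center H) := by
    rw [Subgroup.index_eq_card] at hk
    have : k = 0 ∨ k = 1 := by omega
    rcases this with rfl | rfl
    · have h1 : Subsingleton (H ⧸ Subgroup.center H) :=
        (Nat.card_eq_one_iff_unique.mp (by rw [hk]; norm_num)).1
      infer_instance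
    · exact isCyclic_of_prime_card (p := p) (by rw [hk]; norm_num)
  exact commutative_of_cyclic_center_quotient (QuotientGroup.mk' (Subgroup.center H)) (by rw [QuotientGroup.ker_mk']) x y

theorem card_quot_of {N : Subgroup H} {m k : ℕ} (h1 : Nat.card H = p ^ m) (h2 : N.index = p ^ k) (hk : k ≤ m) : Nat.card N = p ^ (m - k) := by
  have h3 := N.card_mul_index
  rw [h1, h2] at h3
  have h4 : Nat.card N * p ^ k = p ^ (m - k) * p ^ k := by rw [h3, ← pow_add]; congr 1; omega
  exact Nat.eq_of_mul_eq_mul_right (pow_pos hp.out.pos k) h4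

/-- the centralizer of a normal subgroup of order `p²` -/
theorem centralizer_index_le (hH : IsPGroup p H) {N : Subgroup H} [hN : N.Normal] (hc : Nat.card N = p ^ 2) :
    (Subgroup.centralizer (N : Set H)).index ≤ p := by
  by_cases hNZ : N ≤ Subgroup.center H
  · have : Subgroup.centralizer (N : Set H) = ⊤ := by
      rw [eq_top_iff]
      intro x _
      rw [Subgroup.mem_centralizer_iff]
      intro y hy
      exact (Subgroup.mem_center_iff.1 (hNZ hy) x).symm
    rw [this, Subgroup.index_top]
    exact hp.out.one_lt.le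
  · obtain ⟨φ, hφN, hφZ⟩ := SetLike.not_le_iff_exists.1 hNZ
    have hN1 : N ≠ ⊥ := by
      rintro rfl
      rw [Subgroup.card_bot] at hc
      have := Nat.one_lt_pow (n := 2) (by norm_num) hp.out.one_lt
      omega
    haveI : Group.IsNilpotent H := hH.isNilpotent
    have h1 := CfsgLib.SolvNilp.inf_center_ne_bot N hN1
    set N0 := N ⊓ Subgroup.center H with hN0
    haveI : N0.Normal := by rw [hN0]; infer_instance
    have hlt : N0 < N := lt_of_le_of_ne inf_le_left (fun h => hNZ (by rw [← h]; exact inf_le_right))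
    have hN0c : Nat.card N0 = p := by
      have h2 : Nat.card N0 ∣ p ^ 2 := by rw [← hc]; exact Subgroup.card_dvd_of_le inf_le_left
      obtain ⟨k, hk, hk'⟩ := (Nat.dvd_prime_pow hp.out).1 h2
      have h3 : k ≠ 0 := by
        rintro rfl
        exact h1 (Subgroup.card_eq_one.1 hk')
      have h4 : k ≠ 2 := by
        rintro rfl
        exact hlt.ne (Subgroup.eq_of_le_of_card_ge hlt.le (by rw [hk', hc]))
      have : k = 1 := by omega
      rw [hk', this, pow_one]
    -- commutators with φ lie in N0
    have hcm : ∀ h : H, h * φ * h⁻¹ * φ⁻¹ ∈ N0 := by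
      intro h
      have h2 : (N.map (QuotientGroup.mk' N0)) ≤ Subgroup.center (H ⧸ N0) := by
        haveI : (N.map (QuotientGroup.mk' N0)).Normal := hN.map _ (QuotientGroup.mk'_surjective _)
        apply CfsgLib.PCyc.le_center_of_card_eq hp.out (hH.to_quotient N0)
        have h3 : ((QuotientGroup.mk' N0).comp N.subtype).ker = N0.subgroupOf N := by
          ext y; simp [Subgroup.mem_subgroupOf, MonoidHom.mem_ker]
        have h4 : Nat.card (N.map (QuotientGroup.mk' N0)) = N0.relIndex N := by
          rw [Subgroup.relIndex, ← h3, Subgroup.index_ker, MonoidHom.range_comp, Subgroup.range_subtype]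
        have h5 : Nat.card N0 * N0.relIndex N = Nat.card N := by
          rw [← Subgroup.relIndex_bot_left, ← Subgroup.relIndex_bot_left]
          exact Subgroup.relIndex_mul_relIndex _ _ _ bot_le hlt.le
        rw [h4]
        rw [hN0c, hc, pow_two] at h5
        exact Nat.eq_of_mul_eq_mul_left hp.out.pos h5
      have h3 : (QuotientGroup.mk' N0) φ ∈ Subgroup.center (H ⧸ N0) := h2 ⟨φ, hφN, rfl⟩
      have h4 := Subgroup.mem_center_iff.1 h3 (QuotientGroup.mk' N0 h)
      have h5 : QuotientGroup.mk' N0 (h * φ * h⁻¹ * φ⁻¹) = 1 := by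
        rw [map_mul, map_mul, map_mul, map_inv, map_inv, h4]; group
      exact (QuotientGroup.eq_one_iff _).1 h5
    have hcz : ∀ h : H, h * φ * h⁻¹ * φ⁻¹ ∈ Subgroup.center H := fun h => (hcm h).2
    let f : H →* N0 := MonoidHom.mk' (fun h => ⟨h * φ * h⁻¹ * φ⁻¹, hcm h⟩) (fun a b => by
      apply Subtype.ext
      show a * b * φ * (a * b)⁻¹ * φ⁻¹ = (a * φ * a⁻¹ * φ⁻¹) * (b * φ * b⁻¹ * φ⁻¹)
      have h6 := Subgroup.mem_center_iff.1 (hcz b) a
      have h7 : a * b * φ * (a * b)⁻¹ * φ⁻¹ = a * (b * φ * b⁻¹ * φ⁻¹) * (φ * a⁻¹ * φ⁻¹) := by group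
      rw [h7, h6]
      have h8 := Subgroup.mem_center_iff.1 (hcz b) (a * φ * a⁻¹ * φ⁻¹)
      rw [h8]; group)
    have hker : f.ker ≤ Subgroup.centralizer (N : Set H) := by
      intro h hh
      have h6 : h * φ * h⁻¹ * φ⁻¹ = 1 := congrArg Subtype.val hh
      have h7 : h * φ = φ * h := CfsgLib.ExtraH28.comm_eq_one_iff.1 h6
      -- N = N0 ⊔ ⟨φ⟩
      have h8 : N0 ⊔ Subgroup.zpowers φ = N := by
        apply Subgroup.eq_of_le_of_card_ge
        · exact sup_le hlt.le (by rw [Subgroup.zpowers_le]; exact hφN)
        · have h9 : N0 < N0 ⊔ Subgroup.zpowers φ := by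
            refine lt_of_le_of_ne le_sup_left fun h => ?_
            have : φ ∈ N0 := by rw [h]; exact Subgroup.mem_sup_right (Subgroup.mem_zpowers φ)
            exact hφZ this.2
          have h10 := CfsgLib.RankTwo.card_le_of_lt hH h9
          rw [hN0c, ← pow_two] at h10
          rw [hc]; exact h10
      rw [Subgroup.mem_centralizer_iff]
      intro y hy
      have hy' : y ∈ N0 ⊔ Subgroup.zpowers φ := by rw [h8]; exact hy
      have h9 : N0 ⊔ Subgroup.zpowers φ ≤ Subgroup.centralizer {h} := by
        apply sup_le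
        · intro w hw
          rw [Subgroup.mem_centralizer_singleton_iff]
          exact (Subgroup.mem_center_iff.1 hw.2 h).symm
        · rw [Subgroup.zpowers_le, Subgroup.mem_centralizer_singleton_iff]
          exact h7.symm
      exact Subgroup.mem_centralizer_singleton_iff.1 (h9 hy')
    calc (Subgroup.centralizer (N : Set H)).index ≤ f.ker.index := Nat.le_of_dvd (Nat.pos_of_ne_zero Subgroup.FiniteIndex.index_ne_zero) (Subgroup.index_dvd_of_le hker)
      _ = Nat.card f.range := Subgroup.index_ker f
      _ ≤ Nat.card N0 := Nat.card_le_card_of_injective _ Subtype.val_injective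
      _ = p := hN0c

/-- the rank two case -/
theorem rank2_ab (hH : IsPGroup p H) (hcard : Nat.card H = p ^ 4) (hidx : (frattini H).index = p ^ 2)
    (hchar : ∀ D : Subgroup H, (∀ α : MulAut H, ∀ x ∈ D, α x ∈ D) → frattini H ≤ D → D = frattini H ∨ D = ⊤) :
    ∀ x y : H, x * y = y * x := by
  by_contra hno
  push Not at hno
  have h1p := hp.out.one_lt
  have hΦc : Nat.card (frattini H) = p ^ 2 := card_quot_of hcard hidx (by norm_num)
  have hpp : p < p ^ 2 := by rw [pow_two]; nlinarith
  have hcen : ∀ D : Subgroup H, D.Characteristic → ∀ α : MulAut H, ∀ x ∈ D, α x ∈ D := fun D hD α x hx =>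
    Subgroup.characteristic_iff_map_le.1 hD α ⟨x, hx, rfl⟩
  -- step 1
  have hΦZ : frattini H ≤ Subgroup.center H := by
    have hle : frattini H ≤ Subgroup.centralizer (frattini H : Set H) := by
      intro x hx
      rw [Subgroup.mem_centralizer_iff]
      intro y hy
      have := IsPGroup.commutative_of_card_eq_prime_sq hΦc ⟨y, hy⟩ ⟨x, hx⟩
      exact congrArg Subtype.val this
    have hCi := centralizer_index_le hH (N := frattini H) hΦc
    rcases hchar (Subgroup.centralizer (frattini H : Set H)) (by
      intro α x hx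
      rw [Subgroup.mem_centralizer_iff] at hx ⊢
      intro y hy
      obtain ⟨w, rfl⟩ := α.surjective y
      have hw : w ∈ frattini H := by
        have := hcen (frattini H) inferInstance α⁻¹ _ hy
        rwa [MulAut.inv_apply_self] at this
      rw [← map_mul, hx w hw, map_mul]) hle with h | h
    · rw [h, hidx] at hCi; omega
    · intro x hx
      rw [Subgroup.mem_center_iff]
      intro g
      have h2 : g ∈ Subgroup.centralizer (frattini H : Set H) := h ▸ trivial
      exact (Subgroup.mem_centralizer_iff.1 h2 x hx).symm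
  -- step 2
  have hZi : ¬ (Subgroup.center H).index ≤ p := by
    intro h
    obtain ⟨x, y, hxy⟩ := hno
    exact hxy (comm_of_center_index h hH x y)
  have hZΦ : frattini H = Subgroup.center H := by
    by_contra hne
    apply hZi
    obtain ⟨w, hw, hwn⟩ := SetLike.exists_of_lt (lt_of_le_of_ne hΦZ hne)
    have h2 : (Subgroup.center H).index ∣ p ^ 2 := by rw [← hidx]; exact Subgroup.index_dvd_of_le hΦZ
    obtain ⟨k, hk, hk'⟩ := (Nat.dvd_prime_pow hp.out).1 h2
    have h3 : (Subgroup.center H).index < (frattini H).index := by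
      have h4 := Subgroup.relIndex_mul_index hΦZ
      have h5 : (frattini H).relIndex (Subgroup.center H) ≠ 1 := fun h => hwn ((Subgroup.relIndex_eq_one.1 h) hw)
      have h6 : (frattini H).relIndex (Subgroup.center H) ≠ 0 := Subgroup.FiniteIndex.index_ne_zero
      have h7 : (Subgroup.center H).index ≠ 0 := Subgroup.FiniteIndex.index_ne_zero
      rw [← h4]
      have h8 : 2 ≤ (frattini H).relIndex (Subgroup.center H) := by omega
      have h9 : 0 < (Subgroup.center H).index := Nat.pos_of_ne_zero h7
      nlinarith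
    rw [hk', hidx] at h3
    have h4 : k < 2 := (Nat.pow_lt_pow_iff_right h1p).1 h3
    rw [hk']
    calc p ^ k ≤ p ^ 1 := Nat.pow_le_pow_right hp.out.pos (by omega)
      _ = p := pow_one p
  have hZidx : (Subgroup.center H).index = p ^ 2 := by rw [← hZΦ]; exact hidx
  -- step 3
  have hcm : ∀ x y : H, x * y * x⁻¹ * y⁻¹ ∈ Subgroup.center H := fun x y => hZΦ ▸ CfsgLib.ExtraH28.comm_mem_frattini hH x y
  have hpw : ∀ x : H, x ^ p ∈ Subgroup.center H := fun x => hZΦ ▸ CfsgLib.LE.pow_mem_frattini hH x
  obtain ⟨x0, y0, hxy0⟩ := hno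
  set c := CfsgLib.ExtraH28.commHom hcm with hcdef
  have hc : ∀ x y, ((c x y : Subgroup.center H) : H) = x * y * x⁻¹ * y⁻¹ := fun x y => rfl
  have hgen : Subgroup.closure {x0, y0} ⊔ Subgroup.center H = ⊤ := by
    set L := Subgroup.closure {x0, y0} ⊔ Subgroup.center H with hL
    have hx0L : x0 ∈ L := Subgroup.mem_sup_left (Subgroup.subset_closure (by simp))
    have hy0L : y0 ∈ L := Subgroup.mem_sup_left (Subgroup.subset_closure (by simp))
    by_contra hLt
    -- L/Z cyclic
    have hZL : Subgroup.center H ≤ L := le_sup_right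
    have h2 : L.index ∣ p ^ 2 := by rw [← hZidx]; exact Subgroup.index_dvd_of_le hZL
    obtain ⟨k, hk, hk'⟩ := (Nat.dvd_prime_pow hp.out).1 h2
    have hk0 : k ≠ 0 := by
      rintro rfl
      rw [pow_zero] at hk'
      exact hLt (Subgroup.index_eq_one.1 hk')
    have h3 := Subgroup.relIndex_mul_index hZL
    rw [hZidx, hk'] at h3
    have h4 : (Subgroup.center H).relIndex L ≤ p := by
      by_contra h5
      push Not at h5
      have h6 : p ≤ p ^ k := by
        calc p = p ^ 1 := (pow_one p).symm
          _ ≤ p ^ k := Nat.pow_le_pow_right hp.out.pos (by omega)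
      have h7 : p * p < (Subgroup.center H).relIndex L * p ^ k := by
        calc p * p ≤ p * p ^ k := Nat.mul_le_mul_left _ h6
          _ < (Subgroup.center H).relIndex L * p ^ k := Nat.mul_lt_mul_of_pos_right h5 (by positivity)
      rw [h3, pow_two] at h7
      exact lt_irrefl _ h7
    have h5 : (Subgroup.center H).subgroupOf L ≤ Subgroup.center L := by
      intro w hw
      rw [Subgroup.mem_center_iff]
      intro g
      exact Subtype.ext (Subgroup.mem_center_iff.1 hw (g : H))
    have h6 : (Subgroup.center L).index ≤ p := by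
      refine le_trans (Nat.le_of_dvd ?_ (Subgroup.index_dvd_of_le h5)) h4
      exact Nat.pos_of_ne_zero Subgroup.FiniteIndex.index_ne_zero
    have h7 := comm_of_center_index h6 (hH.to_subgroup L) ⟨x0, hx0L⟩ ⟨y0, hy0L⟩
    exact hxy0 (congrArg Subtype.val h7)
  obtain ⟨z0, hz0⟩ : ∃ z, z = c x0 y0 := ⟨_, rfl⟩
  set I := Subgroup.zpowers z0 with hI
  have hz0p : z0 ^ p = 1 := by
    rw [hz0, ← map_pow]
    apply Subtype.ext
    rw [hc]
    show x0 * y0 ^ p * x0⁻¹ * (y0 ^ p)⁻¹ = 1
    rw [Subgroup.mem_center_iff.1 (hpw y0) x0]; group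
  have hcc : ∀ z ∈ Subgroup.center H, ∀ y, c z y = 1 ∧ c y z = 1 := by
    intro z hz y
    constructor
    · apply Subtype.ext
      rw [hc, ← Subgroup.mem_center_iff.1 hz y]
      show y * z * z⁻¹ * y⁻¹ = 1
      group
    · apply Subtype.ext
      rw [hc, Subgroup.mem_center_iff.1 hz y]
      show z * y * y⁻¹ * z⁻¹ = 1
      group
  have hself : ∀ x, c x x = 1 := by
    intro x
    apply Subtype.ext
    rw [hc]
    show x * x * x⁻¹ * x⁻¹ = 1
    group
  have hskew : c y0 x0 ∈ I := by
    have : c y0 x0 = z0⁻¹ := by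
      rw [hz0]
      apply Subtype.ext
      rw [hc, Subgroup.coe_inv, hc]; group
    rw [this]
    exact Subgroup.inv_mem _ (Subgroup.mem_zpowers _)
  have hT : ∀ h : H, c x0 h ∈ I ∧ c y0 h ∈ I := by
    intro h
    have h2 : Subgroup.closure {x0, y0} ⊔ Subgroup.center H ≤ I.comap (c x0) ⊓ I.comap (c y0) := by
      apply sup_le
      · rw [Subgroup.closure_le]
        rintro w (rfl | rfl)
        · exact ⟨by show c w w ∈ I; rw [hself]; exact I.one_mem, hskew⟩
        · exact ⟨by show c x0 w ∈ I; rw [← hz0]; exact Subgroup.mem_zpowers _, by show c w w ∈ I; rw [hself]; exact I.one_mem⟩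
      · intro w hw
        exact ⟨by show c x0 w ∈ I; rw [(hcc w hw x0).2]; exact I.one_mem, by show c y0 w ∈ I; rw [(hcc w hw y0).2]; exact I.one_mem⟩
    rw [hgen] at h2
    exact h2 (trivial : h ∈ (⊤ : Subgroup H))
  have hT2 : ∀ g h : H, c g h ∈ I := by
    intro g h
    let e : H →* Subgroup.center H := MonoidHom.mk' (fun g => c g h) (fun a b => by rw [map_mul]; rfl)
    have h2 : Subgroup.closure {x0, y0} ⊔ Subgroup.center H ≤ I.comap e := by
      apply sup_le
      · rw [Subgroup.closure_le]
        rintro w (rfl | rfl)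
        · exact (hT h).1
        · exact (hT h).2
      · intro w hw
        show c w h ∈ I
        rw [(hcc w hw h).1]; exact I.one_mem
    rw [hgen] at h2
    exact h2 (trivial : g ∈ (⊤ : Subgroup H))
  -- step 4
  set J := I.map (Subgroup.center H).subtype with hJ
  have hJZ : J ≤ Subgroup.center H := by rintro _ ⟨w, -, rfl⟩; exact w.2
  haveI hJn : J.Normal := ⟨fun x hx g => by
    rw [Subgroup.mem_center_iff.1 (hJZ hx) g, mul_inv_cancel_right]; exact hx⟩
  have hJc : Nat.card J ≤ p := by
    rw [hJ, Subgroup.card_map_of_injective (Subgroup.subtype_injective _), hI, Nat.card_zpowers]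
    exact Nat.le_of_dvd hp.out.pos (orderOf_dvd_of_pow_eq_one hz0p)
  have hJcm : ∀ x y : H, x * y * x⁻¹ * y⁻¹ ∈ J := fun x y => ⟨c x y, hT2 x y, rfl⟩
  have hQc : ∀ x y : H ⧸ J, x * y = y * x := by
    intro x y
    obtain ⟨x, rfl⟩ := QuotientGroup.mk'_surjective J x
    obtain ⟨y, rfl⟩ := QuotientGroup.mk'_surjective J y
    rw [← CfsgLib.ExtraH28.comm_eq_one_iff, ← map_mul, ← map_inv, ← map_mul, ← map_inv, ← map_mul]
    exact (QuotientGroup.eq_one_iff _).2 (hJcm x y)
  set D := (torB hQc p).comap (QuotientGroup.mk' J) with hD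
  have hDm : ∀ x, x ∈ D ↔ x ^ p ∈ J := by
    intro x
    rw [hD, Subgroup.mem_comap, mem_torB, ← map_pow]
    exact QuotientGroup.eq_one_iff _
  have hcardJ := J.card_mul_index
  rw [hcard] at hcardJ
  have hpowle : Nat.card (powB hQc p) * Nat.card J ≤ p ^ 2 := by
    have h2 : powB hQc p ≤ (frattini H).map (QuotientGroup.mk' J) := by
      rintro _ ⟨q, rfl⟩
      obtain ⟨x, rfl⟩ := QuotientGroup.mk'_surjective J q
      exact ⟨x ^ p, CfsgLib.LE.pow_mem_frattini hH x, by rw [map_pow]⟩
    have h3 : ((QuotientGroup.mk' J).comp (frattini H).subtype).ker = J.subgroupOf (frattini H) := by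
      ext y; simp [Subgroup.mem_subgroupOf, MonoidHom.mem_ker]
    have h4 : Nat.card ((frattini H).map (QuotientGroup.mk' J)) = J.relIndex (frattini H) := by
      rw [Subgroup.relIndex, ← h3, Subgroup.index_ker, MonoidHom.range_comp, Subgroup.range_subtype]
    have hJΦ : J ≤ frattini H := by rw [hZΦ]; exact hJZ
    have h5 : Nat.card J * J.relIndex (frattini H) = Nat.card (frattini H) := by
      rw [← Subgroup.relIndex_bot_left, ← Subgroup.relIndex_bot_left]
      exact Subgroup.relIndex_mul_relIndex _ _ _ bot_le hJΦ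
    rw [hΦc] at h5
    rw [← h5, mul_comm]
    exact Nat.mul_le_mul_left _ (h4 ▸ Subgroup.card_le_of_le h2)
  have htp := card_tor_pow hQc p
  rw [← Subgroup.index_eq_card] at htp
  have hDcard : Nat.card D = Nat.card (torB hQc p) * Nat.card J := by
    have h2 := D.card_mul_index
    have h3 : D.index = (torB hQc p).index := Subgroup.index_comap_of_surjective _ (QuotientGroup.mk'_surjective J)
    have h4 := (torB hQc p).card_mul_index
    have h5 : 0 < (torB hQc p).index := Nat.pos_of_ne_zero Subgroup.FiniteIndex.index_ne_zero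
    rw [← Subgroup.index_eq_card] at h4
    rw [h3, hcard, ← hcardJ, ← h4] at h2
    apply Nat.eq_of_mul_eq_mul_right h5
    rw [h2]; ring
  have hDge : p ^ 2 * Nat.card J ≤ Nat.card D * 1 := by
    -- card tor * card pow = index J ; card J * index J = p^4
    have h2 : Nat.card (torB hQc p) * (Nat.card (powB hQc p) * Nat.card J) = p ^ 4 := by
      rw [← mul_assoc, htp, mul_comm, hcardJ]
    have h3 : p ^ 4 ≤ Nat.card (torB hQc p) * p ^ 2 := by
      rw [← h2]
      exact Nat.mul_le_mul_left _ hpowle
    have h4 : p ^ 2 ≤ Nat.card (torB hQc p) := by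
      have : p ^ 2 * p ^ 2 ≤ Nat.card (torB hQc p) * p ^ 2 := by rw [← pow_add]; exact h3
      exact Nat.le_of_mul_le_mul_right this (by positivity)
    rw [mul_one, hDcard]
    exact Nat.mul_le_mul_right _ h4
  have hJ1 : 1 < Nat.card J := by
    rw [hJ, Subgroup.card_map_of_injective (Subgroup.subtype_injective _), hI, Nat.card_zpowers]
    have : z0 ≠ 1 := by
      intro h
      apply hxy0
      rw [hz0] at h
      have h2 := congrArg Subtype.val h
      rw [hc] at h2
      exact CfsgLib.ExtraH28.comm_eq_one_iff.1 h2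
    have h2 : orderOf z0 ≠ 1 := fun h => this (orderOf_eq_one_iff.1 h)
    have h3 := orderOf_pos z0
    omega
  have hJp : Nat.card J = p := by
    rw [hJ, Subgroup.card_map_of_injective (Subgroup.subtype_injective _), hI, Nat.card_zpowers] at hJ1 ⊢
    rcases (Nat.dvd_prime hp.out).1 (orderOf_dvd_of_pow_eq_one hz0p) with h | h
    · omega
    · exact h
  rcases hchar D (by
    intro α x hx
    rw [hDm] at hx ⊢
    rw [← map_pow]
    -- J is characteristic: generated by commutators
    have hJchar : J = commutator H := by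
      apply le_antisymm
      · rintro _ ⟨w, hw, rfl⟩
        have h2 : I ≤ (commutator H).comap (Subgroup.center H).subtype := by
          rw [hI, Subgroup.zpowers_le]
          show ((z0 : Subgroup.center H) : H) ∈ commutator H
          rw [hz0, hc, _root_.commutator_def]
          exact Subgroup.commutator_mem_commutator trivial trivial
        exact h2 hw
      · rw [_root_.commutator_def, Subgroup.commutator_le]
        intro a _ b _
        exact hJcm a b
    rw [hJchar] at hx ⊢
    exact hcen _ inferInstance α _ hx) (by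
    intro x hx
    rw [hDm]
    -- Φ/J has order p
    have hJΦ : J ≤ frattini H := by rw [hZΦ]; exact hJZ
    have h5 : Nat.card J * J.relIndex (frattini H) = Nat.card (frattini H) := by
      rw [← Subgroup.relIndex_bot_left, ← Subgroup.relIndex_bot_left]
      exact Subgroup.relIndex_mul_relIndex _ _ _ bot_le hJΦ
    rw [hJp, hΦc, pow_two] at h5
    have h6 : (J.subgroupOf (frattini H)).index = p := Nat.eq_of_mul_eq_mul_left hp.out.pos h5
    haveI : (J.subgroupOf (frattini H)).Normal := inferInstance
    have h7 := Subgroup.pow_index_mem (J.subgroupOf (frattini H)) ⟨x, hx⟩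
    rw [h6] at h7
    exact h7) with h | h
  · rw [h, hΦc, hJp] at hDge
    have : p ^ 2 * 1 < p ^ 2 * p := Nat.mul_lt_mul_of_pos_left h1p (by positivity)
    omega
  · have h2 : frattini H ≤ J := CfsgLib.ExtraH28.frattini_le_of_elem J (fun x => (hDm x).1 (h ▸ trivial)) hJcm
    have h3 := Subgroup.card_le_of_le h2
    rw [hΦc, hJp] at h3
    omega

end

end CfsgLib.Fus21
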