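import Cfsg.Agent.LibFus21F1
import Cfsg.Agent.LibFus21E3

set_option autoImplicit false

/-! Essential subgroups of order `p⁴`: rank three. -/

namespace CfsgLib.Fus21

open Cfsg Cfsg.FusionSystem

section

variable {H : Type*} [Group H]

theorem aux6 {H : Type*} [CommGroup H] (a b c d e f : H) : (a * b) * (c * d) * (e * f) = (a * c * e) * (b * d * f) := by
  rw [mul_mul_mul_comm a b c d, mul_mul_mul_comm (a * c) (b * d) e f]

theorem ztriple (hc : ∀ x y : H, x * y = y * x) (n m k : ℕ) [NeZero n] [NeZero m] [NeZero k] {e1 e2 e3 : H} (h1 : e1 ^ n = 1)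
    (h2 : e2 ^ m = 1) (h3 : e3 ^ k = 1) :
    ∃ f : Multiplicative (ZMod n × ZMod m × ZMod k) →* H, ∀ a b c : ℕ,
      f (Multiplicative.ofAdd ((a : ZMod n), (b : ZMod m), (c : ZMod k))) = e1 ^ a * e2 ^ b * e3 ^ c := by
  have hv : ∀ {e : H} {n : ℕ} [NeZero n], e ^ n = 1 → ∀ a b : ZMod n, e ^ (a + b).val = e ^ a.val * e ^ b.val := by
    intro e n _ he a b
    rw [ZMod.val_add, pow_mod_of he, pow_add]
  letI : CommGroup H := { (inferInstance : Group H) with mul_comm := hc }
  refine ⟨MonoidHom.mk' (fun v => e1 ^ (Multiplicative.toAdd v).1.val * e2 ^ (Multiplicative.toAdd v).2.1.val * e3 ^ (Multiplicative.toAdd v).2.2.val) ?_, ?_⟩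
  · intro a b
    rw [toAdd_mul, Prod.fst_add, Prod.snd_add, Prod.fst_add, Prod.snd_add, hv h1, hv h2, hv h3]
    exact aux6 _ _ _ _ _ _
  · intro a b c
    rw [MonoidHom.mk'_apply, toAdd_ofAdd, ZMod.val_natCast, ZMod.val_natCast, ZMod.val_natCast, pow_mod_of h1, pow_mod_of h2, pow_mod_of h3]

end

section

variable {H : Type*} [Group H] [Finite H] {p : ℕ} [hp : Fact p.Prime]

theorem rank3_ab (hH : IsPGroup p H) (hc : ∀ x y : H, x * y = y * x) (hcard : Nat.card H = p ^ 4) (hΦ : Nat.card (frattini H) = p) :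
    Nonempty (H ≃* Multiplicative (ZMod (p ^ 2) × ZMod p × ZMod p)) := by
  have h1p := hp.out.one_lt
  have hfp := frattini_eq_pow hH hc
  have htc := card_tor_pow hc p
  rw [← hfp, hΦ, hcard] at htc
  have hT : Nat.card (torB hc p) = p ^ 3 := Nat.eq_of_mul_eq_mul_right hp.out.pos (by rw [htc]; ring)
  have hΦp : ∀ z ∈ frattini H, z ^ p = 1 := by
    intro z hz
    have h4 : (⟨z, hz⟩ : frattini H) ^ Nat.card (frattini H) = 1 := pow_card_eq_one'
    rw [hΦ] at h4
    exact congrArg Subtype.val h4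
  have hΦT : frattini H ≤ torB hc p := fun z hz => hΦp z hz
  obtain ⟨x, hx⟩ : ∃ x, x ∉ torB hc p := by
    by_contra hno
    push Not at hno
    have : torB hc p = ⊤ := (Subgroup.eq_top_iff' _).2 hno
    rw [this, Subgroup.card_top, hcard] at hT
    have := Nat.pow_lt_pow_right h1p (show 3 < 4 by norm_num)
    omega
  have hxp : x ^ p ≠ 1 := hx
  have hxΦ : x ^ p ∈ frattini H := CfsgLib.LE.pow_mem_frattini hH x
  have hx2 : x ^ p ^ 2 = 1 := by rw [pow_two, pow_mul]; exact hΦp _ hxΦ
  have hΦx : Subgroup.zpowers (x ^ p) = frattini H := by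
    apply Subgroup.eq_of_le_of_card_ge (Subgroup.zpowers_le.2 hxΦ)
    rw [hΦ, Nat.card_zpowers, orderOf_eq_prime (hΦp _ hxΦ) hxp]
  have hsup : ∀ (A : Subgroup H) (y : H), y ∉ A → Nat.card A * p ≤ Nat.card (A ⊔ Subgroup.zpowers y : Subgroup H) := by
    intro A y hy
    apply CfsgLib.RankTwo.card_le_of_lt hH
    refine lt_of_le_of_ne le_sup_left fun h => hy ?_
    rw [h]; exact Subgroup.mem_sup_right (Subgroup.mem_zpowers y)
  have hsup2 : ∀ (A : Subgroup H) (y : H), y ^ p = 1 → Nat.card (A ⊔ Subgroup.zpowers y : Subgroup H) ≤ Nat.card A * p := by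
    intro A y hy
    haveI : (A.subgroupOf (⊤ : Subgroup H)).Normal := ⟨fun z hz g => by
      have : g * z * g⁻¹ = z := Subtype.ext (by
        show (g : H) * z * (g : H)⁻¹ = z
        rw [hc g z, mul_inv_cancel_right])
      rw [this]; exact hz⟩
    have h1 := sup_zpowers_relIndex (S := (⊤ : Subgroup H)) (A := A) (p := p) le_top (y := y) trivial (by rw [hy]; exact A.one_mem)
    have h2 : Nat.card A * A.relIndex (A ⊔ Subgroup.zpowers y) = Nat.card (A ⊔ Subgroup.zpowers y : Subgroup H) := by
      rw [← Subgroup.relIndex_bot_left, ← Subgroup.relIndex_bot_left]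
      exact Subgroup.relIndex_mul_relIndex _ _ _ bot_le le_sup_left
    rw [← h2]
    exact Nat.mul_le_mul_left _ (Nat.le_of_dvd hp.out.pos h1)
  obtain ⟨y, hyT, hyΦ⟩ : ∃ y ∈ torB hc p, y ∉ frattini H := by
    by_contra hno
    push Not at hno
    have := Subgroup.card_le_of_le (show torB hc p ≤ frattini H from hno)
    rw [hT, hΦ] at this
    have h2 : p ^ 1 < p ^ 3 := Nat.pow_lt_pow_right h1p (by norm_num)
    rw [pow_one] at h2
    omega
  obtain ⟨w, hwT, hwL⟩ : ∃ w ∈ torB hc p, w ∉ frattini H ⊔ Subgroup.zpowers y := by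
    by_contra hno
    push Not at hno
    have := Subgroup.card_le_of_le (show torB hc p ≤ frattini H ⊔ Subgroup.zpowers y from hno)
    have h3 := hsup2 (frattini H) y hyT
    rw [hT] at this
    rw [hΦ] at h3
    have h2 : p ^ 2 < p ^ 3 := Nat.pow_lt_pow_right h1p (by norm_num)
    rw [pow_two] at h2
    omega
  have hL2 : (frattini H ⊔ Subgroup.zpowers y) ⊔ Subgroup.zpowers w = torB hc p := by
    apply Subgroup.eq_of_le_of_card_ge
    · exact sup_le (sup_le hΦT (by rw [Subgroup.zpowers_le]; exact hyT)) (by rw [Subgroup.zpowers_le]; exact hwT)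
    · have h1 := hsup _ y hyΦ
      have h2 := hsup _ w hwL
      rw [hΦ] at h1
      rw [hT]
      calc p ^ 3 = p * p * p := by ring
        _ ≤ _ := (Nat.mul_le_mul_right p h1).trans h2
  have htop : torB hc p ⊔ Subgroup.zpowers x = ⊤ := by
    apply Subgroup.eq_top_of_le_card
    have h1 := hsup _ x hx
    rw [hT] at h1
    rw [hcard]
    calc p ^ 4 = p ^ 3 * p := by ring
      _ ≤ _ := h1
  haveI : NeZero p := ⟨hp.out.ne_zero⟩
  haveI : NeZero (p ^ 2) := ⟨(pow_pos hp.out.pos 2).ne'⟩
  obtain ⟨f, hf⟩ := ztriple hc (p ^ 2) p p hx2 (show y ^ p = 1 from hyT) (show w ^ p = 1 from hwT)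
  have hsurj : Function.Surjective f := by
    rw [← MonoidHom.range_eq_top, eq_top_iff, ← htop, ← hL2, ← hΦx]
    have hxr : x ∈ f.range := ⟨_, by rw [hf 1 0 0]; simp⟩
    have hyr : y ∈ f.range := ⟨_, by rw [hf 0 1 0]; simp⟩
    have hwr : w ∈ f.range := ⟨_, by rw [hf 0 0 1]; simp⟩
    refine sup_le (sup_le (sup_le ?_ ?_) ?_) ?_
    · rw [Subgroup.zpowers_le]; exact Subgroup.pow_mem _ hxr _
    · rw [Subgroup.zpowers_le]; exact hyr
    · rw [Subgroup.zpowers_le]; exact hwr
    · rw [Subgroup.zpowers_le]; exact hxr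
  haveI : Finite (Multiplicative (ZMod (p ^ 2) × ZMod p × ZMod p)) := inferInstanceAs (Finite (ZMod (p ^ 2) × ZMod p × ZMod p))
  have hbij : Function.Bijective f := by
    rw [Nat.bijective_iff_surjective_and_card]
    refine ⟨hsurj, ?_⟩
    rw [Nat.card_congr Multiplicative.toAdd, Nat.card_prod, Nat.card_prod, Nat.card_zmod, Nat.card_zmod, hcard]
    ring
  exact ⟨(MulEquiv.ofBijective f hbij).symm⟩

theorem rank3_nonab (hH : IsPGroup p H) (hcard : Nat.card H = p ^ 4) (hn : ∃ x y : H, x * y ≠ y * x) (hΦ : Nat.card (frattini H) = p)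
    (hchain : Nat.card (Subgroup.center H) = p ^ 2 → ∀ D : Subgroup H, (∀ α : MulAut H, ∀ x ∈ D, α x ∈ D) →
      Subgroup.center H ≤ D → D.index ≠ p) :
    Nat.card (Subgroup.center H) = p ^ 2 ∧ (∀ x : H, x ^ p ^ 2 = 1) ∧ (IsCyclic (Subgroup.center H) ∨
      ∃ (E : Subgroup H) (c : H), Nat.card E = p ^ 3 ∧ (∃ x ∈ E, ∃ y ∈ E, x * y ≠ y * x) ∧ c ∉ E ∧ c ∈ Subgroup.center H ∧ c ^ p = 1 ∧
        frattini H ≤ E ∧ E ⊓ Subgroup.center H = frattini H ∧
        ((Odd p ∧ ∀ x : H, x ^ p = 1) ∨ (p = 2 ∧ ∀ x ∉ Subgroup.center H, x * x ≠ 1))) := by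
  have h1p := hp.out.one_lt
  have hΦZ : frattini H ≤ Subgroup.center H := CfsgLib.PCyc.le_center_of_card_eq hp.out hH (frattini H) hΦ
  have hcmΦ : ∀ x y : H, x * y * x⁻¹ * y⁻¹ ∈ frattini H := fun x y => CfsgLib.ExtraH28.comm_mem_frattini hH x y
  have hcm : ∀ x y : H, x * y * x⁻¹ * y⁻¹ ∈ Subgroup.center H := fun x y => hΦZ (hcmΦ x y)
  have hpwΦ : ∀ x : H, x ^ p ∈ frattini H := fun x => CfsgLib.LE.pow_mem_frattini hH x
  have hpw : ∀ x : H, x ^ p ∈ Subgroup.center H := fun x => hΦZ (hpwΦ x)
  have hΦp : ∀ z ∈ frattini H, z ^ p = 1 := by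
    intro z hz
    have h4 : (⟨z, hz⟩ : frattini H) ^ Nat.card (frattini H) = 1 := pow_card_eq_one'
    rw [hΦ] at h4
    exact congrArg Subtype.val h4
  have hΦi : (frattini H).index = p ^ 3 := by
    have h1 := (frattini H).card_mul_index
    rw [hΦ, hcard] at h1
    exact Nat.eq_of_mul_eq_mul_left hp.out.pos (by rw [h1]; ring)
  have hZc : Nat.card (Subgroup.center H) = p ^ 2 := by
    obtain ⟨k, hk⟩ := IsPGroup.iff_card.1 (hH.to_subgroup (Subgroup.center H))
    have h3 := (Subgroup.center H).card_mul_index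
    rw [hcard, hk] at h3
    have hk4 : k ≤ 4 := (Nat.pow_dvd_pow_iff_le_right h1p).1 ⟨_, h3.symm⟩
    have hind : (Subgroup.center H).index = p ^ (4 - k) := by
      have h4 : p ^ k * (Subgroup.center H).index = p ^ k * p ^ (4 - k) := by
        rw [h3, ← pow_add]; congr 1; omega
      exact Nat.eq_of_mul_eq_mul_left (pow_pos hp.out.pos k) h4
    have hk1 : 1 ≤ k := by
      have h4 := Subgroup.card_le_of_le hΦZ
      rw [hΦ, hk] at h4
      by_contra h
      have hk0 : k = 0 := by omega
      rw [hk0, pow_zero] at h4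
      omega
    have hk3 : k ≤ 2 := by
      by_contra h
      obtain ⟨x, y, hxy⟩ := hn
      apply hxy
      refine comm_of_center_index ?_ hH x y
      rw [hind]
      calc p ^ (4 - k) ≤ p ^ 1 := Nat.pow_le_pow_right hp.out.pos (by omega)
        _ = p := pow_one p
    have hk2 : k ≠ 1 := by
      rintro rfl
      rw [pow_one] at hk
      obtain ⟨n, -, hn'⟩ := CfsgLib.ExForm.extraspecial_card (CfsgLib.ExtraH28.isExtraspecial_of hH hk hpw hcm hn)
      rw [hcard] at hn'
      have := Nat.pow_right_injective hp.out.two_le hn'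
      omega
    have : k = 2 := by omega
    rw [hk, this]
  refine ⟨hZc, fun x => by rw [pow_two, pow_mul]; exact hΦp _ (hpwΦ x), ?_⟩
  by_cases hcyc : IsCyclic (Subgroup.center H)
  · exact Or.inl hcyc
  right
  have hchain' := hchain hZc
  have hexpZ : ∀ z ∈ Subgroup.center H, z ^ p = 1 := by
    intro z hz
    by_contra hne
    apply hcyc
    have h1 : orderOf (⟨z, hz⟩ : Subgroup.center H) = p ^ (1 + 1) := by
      apply orderOf_eq_prime_pow
      · rw [pow_one]; exact fun h => hne (congrArg Subtype.val h)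
      · have h2 : (⟨z, hz⟩ : Subgroup.center H) ^ Nat.card (Subgroup.center H) = 1 := pow_card_eq_one'
        rwa [hZc] at h2
    exact isCyclic_of_orderOf_eq_card _ (by rw [h1, hZc])
  -- pick x, y
  obtain ⟨x, y, hxy⟩ := hn
  have hcomm1 : ∀ a b : H, a * b ≠ b * a → Subgroup.zpowers (a * b * a⁻¹ * b⁻¹) = frattini H := by
    intro a b hab
    apply Subgroup.eq_of_le_of_card_ge (Subgroup.zpowers_le.2 (hcmΦ a b))
    rw [hΦ, Nat.card_zpowers, orderOf_eq_prime (hΦp _ (hcmΦ a b)) (fun h => hab (CfsgLib.ExtraH28.comm_eq_one_iff.1 h))]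
  set E := Subgroup.closure {x, y} with hE
  have hxE : x ∈ E := Subgroup.subset_closure (by simp)
  have hyE : y ∈ E := Subgroup.subset_closure (by simp)
  have hΦE : frattini H ≤ E := by
    rw [← hcomm1 x y hxy, Subgroup.zpowers_le]
    exact Subgroup.mul_mem _ (Subgroup.mul_mem _ (Subgroup.mul_mem _ hxE hyE) (Subgroup.inv_mem _ hxE)) (Subgroup.inv_mem _ hyE)
  have hEt : E ≠ ⊤ := by
    intro hEt
    have hnor : ∀ A : Subgroup H, frattini H ≤ A → (A.subgroupOf (⊤ : Subgroup H)).Normal := by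
      intro A hA
      refine ⟨fun z hz g => ?_⟩
      show (g : H) * z * (g : H)⁻¹ ∈ A
      have h1 : (g : H) * z * (g : H)⁻¹ = ((g : H) * z * (g : H)⁻¹ * (z : H)⁻¹) * z := by group
      rw [h1]
      exact A.mul_mem (hA (hcmΦ _ _)) hz
    haveI := hnor (frattini H) le_rfl
    haveI := hnor (frattini H ⊔ Subgroup.zpowers x) le_sup_left
    have h1 := sup_zpowers_relIndex (S := (⊤ : Subgroup H)) (A := frattini H) (p := p) le_top (y := x) trivial (hpwΦ x)
    have h2 := sup_zpowers_relIndex (S := (⊤ : Subgroup H)) (A := frattini H ⊔ Subgroup.zpowers x) (p := p) le_top (y := y) trivial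
      (Subgroup.mem_sup_left (hpwΦ y))
    have h3 : (frattini H ⊔ Subgroup.zpowers x) ⊔ Subgroup.zpowers y = ⊤ := by
      rw [eq_top_iff, ← hEt, hE, Subgroup.closure_le]
      rintro w (rfl | rfl)
      · exact Subgroup.mem_sup_left (Subgroup.mem_sup_right (Subgroup.mem_zpowers _))
      · exact Subgroup.mem_sup_right (Subgroup.mem_zpowers _)
    rw [h3, Subgroup.relIndex_top_right] at h2
    have h4 := Subgroup.relIndex_mul_index (le_sup_left : frattini H ≤ frattini H ⊔ Subgroup.zpowers x)
    rw [hΦi] at h4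
    have h5 := Nat.mul_le_mul (Nat.le_of_dvd hp.out.pos h1) (Nat.le_of_dvd hp.out.pos h2)
    rw [h4, ← pow_two] at h5
    have h6 : p ^ 2 < p ^ 3 := Nat.pow_lt_pow_right h1p (by norm_num)
    omega
  have hEc : Nat.card E = p ^ 3 := by
    refine card_eq_cube (hH.to_subgroup E) ?_ ⟨⟨x, hxE⟩, ⟨y, hyE⟩, fun h => hxy (congrArg Subtype.val h)⟩
    have h1 := CfsgLib.RankTwo.card_le_of_lt hH (lt_top_iff_ne_top.2 hEt)
    rw [Subgroup.card_top, hcard] at h1
    exact Nat.le_of_mul_le_mul_right (by rw [← pow_succ]; exact h1) hp.out.pos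
  have hEZ : E ⊓ Subgroup.center H = frattini H := by
    by_contra hne
    have h1 : frattini H < E ⊓ Subgroup.center H := lt_of_le_of_ne (le_inf hΦE hΦZ) (Ne.symm hne)
    have h2 := CfsgLib.RankTwo.card_le_of_lt hH h1
    rw [hΦ, ← pow_two] at h2
    have h3 : E ⊓ Subgroup.center H = Subgroup.center H := Subgroup.eq_of_le_of_card_ge inf_le_right (by rw [hZc]; exact h2)
    have h4 : Subgroup.center H ≤ E := by rw [← h3]; exact inf_le_left
    have h5 : (Subgroup.center H).subgroupOf E ≤ Subgroup.center E := by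
      intro w hw
      rw [Subgroup.mem_center_iff]
      intro g
      exact Subtype.ext (Subgroup.mem_center_iff.1 hw (g : H))
    have h6 : (Subgroup.center E).index ≤ p := by
      have h7 : Nat.card ((Subgroup.center H).subgroupOf E) = p ^ 2 := by
        rw [← hZc]
        exact Nat.card_congr (Subgroup.subgroupOfEquivOfLe h4).toEquiv
      have h8 := ((Subgroup.center H).subgroupOf E).card_mul_index
      rw [h7, hEc] at h8
      have h9 : ((Subgroup.center H).subgroupOf E).index = p :=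
        Nat.eq_of_mul_eq_mul_left (pow_pos hp.out.pos 2) (by rw [h8]; ring)
      rw [← h9]
      exact Nat.le_of_dvd (by rw [h9]; exact hp.out.pos) (Subgroup.index_dvd_of_le h5)
    have h7 := comm_of_center_index h6 (hH.to_subgroup E) ⟨x, hxE⟩ ⟨y, hyE⟩
    exact hxy (congrArg Subtype.val h7)
  obtain ⟨c, hcZ, hcΦ⟩ : ∃ c ∈ Subgroup.center H, c ∉ frattini H := by
    by_contra hno
    push Not at hno
    have := Subgroup.card_le_of_le (show Subgroup.center H ≤ frattini H from hno)
    rw [hZc, hΦ] at this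
    nlinarith
  refine ⟨E, c, hEc, ⟨x, hxE, y, hyE, hxy⟩, fun h => hcΦ (hEZ ▸ ⟨h, hcZ⟩), hcZ, hexpZ c hcZ, hΦE, hEZ, ?_⟩
  rcases hp.out.eq_two_or_odd' with h2 | hodd
  · right
    subst h2
    refine ⟨rfl, ?_⟩
    intro x hxZ hxx
    obtain ⟨w, hw⟩ : ∃ w, w * x ≠ x * w := by
      by_contra hno
      push Not at hno
      exact hxZ (Subgroup.mem_center_iff.2 hno)
    obtain ⟨zz, hzz⟩ : ∃ z, z = x * w * x⁻¹ * w⁻¹ := ⟨_, rfl⟩
    have hzzΦ : zz ∈ frattini H := hzz ▸ hcmΦ x w
    have hzzZ := hΦZ hzzΦ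
    have hzz1 : zz ≠ 1 := fun h => hw (CfsgLib.ExtraH28.comm_eq_one_iff.1 (hzz ▸ h)).symm
    have hzz2 : zz * zz = 1 := by rw [← pow_two]; exact hΦp zz hzzΦ
    have hzzc : ∀ g, g * zz = zz * g := Subgroup.mem_center_iff.1 hzzZ
    have hΦ2 : ∀ v ∈ frattini H, v = 1 ∨ v = zz := by
      intro v hv
      have h1 := hcomm1 x w (Ne.symm hw)
      rw [← h1, ← hzz] at hv
      obtain ⟨n, rfl⟩ := hv
      rcases Int.even_or_odd' n with ⟨k, hk | hk⟩
      · left
        show zz ^ n = 1
        rw [hk, zpow_mul, zpow_ofNat, pow_two, hzz2, one_zpow]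
      · right
        show zz ^ n = zz
        rw [hk, zpow_add, zpow_mul, zpow_ofNat, pow_two, hzz2, one_zpow, one_mul, zpow_one]
    have hsq : ∀ g : H, g * g = 1 ∨ g * g = zz := fun g => hΦ2 _ (by rw [← pow_two]; exact hpwΦ g)
    have hcommzz : ∀ a b : H, a * b ≠ b * a → a * b = zz * (b * a) := by
      intro a b hab
      have h1 := (hΦ2 _ (hcmΦ a b)).resolve_left (fun h => hab (CfsgLib.ExtraH28.comm_eq_one_iff.1 h))
      rw [← h1]; group
    obtain ⟨y, hxy, hyy⟩ : ∃ y, x * y ≠ y * x ∧ y * y = zz := by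
      rcases hsq w with h | h
      · refine ⟨x * w, ?_, ?_⟩
        · intro h3
          apply hw
          have h4 : x * (x * w) = x * (w * x) := by rw [h3]; group
          exact (mul_left_cancel h4).symm
        · have h3 := hcommzz x w (Ne.symm hw)
          calc x * w * (x * w) = zz * (w * x) * (x * w) := by rw [← h3]
            _ = zz * (w * (x * x) * w) := by group
            _ = zz := by rw [hxx, mul_one, h, mul_one]
      · exact ⟨w, Ne.symm hw, h⟩
    -- D = C(y)
    let f : H →* frattini H := MonoidHom.mk' (fun h => ⟨h * y * h⁻¹ * y⁻¹, hcmΦ h y⟩) (fun a b => by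
      apply Subtype.ext
      exact CfsgLib.ExtraH28.comm_mul_left (hcm b y))
    have hfk : f.ker = Subgroup.centralizer {y} := by
      ext g
      rw [MonoidHom.mem_ker, Subgroup.mem_centralizer_singleton_iff]
      constructor
      · intro h; exact CfsgLib.ExtraH28.comm_eq_one_iff.1 (congrArg Subtype.val h)
      · intro h; exact Subtype.ext (CfsgLib.ExtraH28.comm_eq_one_iff.2 h)
    have hxC : x ∉ Subgroup.centralizer {y} := fun h => hxy (Subgroup.mem_centralizer_singleton_iff.1 h)
    have hCi : (Subgroup.centralizer {y}).index = 2 := by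
      have h1 : (Subgroup.centralizer {y}).index ∣ 2 := by
        rw [← hfk, Subgroup.index_ker]
        conv_rhs => rw [← hΦ]
        exact Subgroup.card_subgroup_dvd_card _
      rcases (Nat.dvd_prime Nat.prime_two).1 h1 with h | h
      · exact absurd (Subgroup.index_eq_one.1 h ▸ trivial) hxC
      · exact h
    have hZC : Subgroup.center H ≤ Subgroup.centralizer {y} := fun z hz => by
      rw [Subgroup.mem_centralizer_singleton_iff]; exact (Subgroup.mem_center_iff.1 hz y).symm
    have hyC : y ∈ Subgroup.centralizer {y} := by rw [Subgroup.mem_centralizer_singleton_iff]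
    have hyZ : y ∉ Subgroup.center H := fun h => hxy (Subgroup.mem_center_iff.1 h x)
    have hZCi : ((Subgroup.center H).subgroupOf (Subgroup.centralizer {y})).index = 2 := by
      have h7 : Nat.card ((Subgroup.center H).subgroupOf (Subgroup.centralizer {y})) = 2 ^ 2 := by
        rw [← hZc]
        exact Nat.card_congr (Subgroup.subgroupOfEquivOfLe hZC).toEquiv
      have h8 := ((Subgroup.center H).subgroupOf (Subgroup.centralizer {y})).card_mul_index
      have h9 := (Subgroup.centralizer {y}).card_mul_index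
      rw [hCi, hcard] at h9
      rw [h7] at h8
      omega
    have hCd : ∀ g ∈ Subgroup.centralizer {y}, ∃ z ∈ Subgroup.center H, g = z ∨ g = z * y := by
      intro g hg
      by_cases hgZ : g ∈ Subgroup.center H
      · exact ⟨g, hgZ, Or.inl rfl⟩
      · have h1 : (⟨g, hg⟩ : Subgroup.centralizer {y}) * (⟨y, hyC⟩ : Subgroup.centralizer {y})⁻¹ ∈ (Subgroup.center H).subgroupOf (Subgroup.centralizer {y}) := by
          rw [Subgroup.mul_mem_iff_of_index_two hZCi, Subgroup.inv_mem_iff]
          exact iff_of_false (fun h => hgZ h) (fun h => hyZ h)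
        have h2 : g * y⁻¹ ∈ Subgroup.center H := h1
        exact ⟨_, h2, Or.inr (by group)⟩
    have hzsq : ∀ z ∈ Subgroup.center H, ∀ g, (z * g) * (z * g) = g * g := by
      intro z hz g
      have h1 : z * z = 1 := by rw [← pow_two]; exact hexpZ z hz
      calc z * g * (z * g) = z * (g * z) * g := by group
        _ = z * (z * g) * g := by rw [Subgroup.mem_center_iff.1 hz g]
        _ = (z * z) * (g * g) := by group
        _ = g * g := by rw [h1, one_mul]
    have hclaim : ∀ g : H, g * g ≠ 1 → ∃ z ∈ Subgroup.center H, g = z * y := by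
      intro g hg
      by_cases hgC : g ∈ Subgroup.centralizer {y}
      · obtain ⟨z, hz, h | h⟩ := hCd g hgC
        · exfalso
          apply hg
          rw [h, ← pow_two]; exact hexpZ z hz
        · exact ⟨z, hz, h⟩
      · exfalso
        have h1 : g * x⁻¹ ∈ Subgroup.centralizer {y} := by
          rw [Subgroup.mul_mem_iff_of_index_two hCi, Subgroup.inv_mem_iff]
          exact iff_of_false hgC hxC
        obtain ⟨z, hz, h | h⟩ := hCd _ h1
        · apply hg
          have h2 : g = z * x := by rw [← h]; group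
          rw [h2, hzsq z hz, hxx]
        · apply hg
          have h2 : g = z * (y * x) := by rw [← mul_assoc, ← h]; group
          rw [h2, hzsq z hz]
          have h3 := hcommzz x y hxy
          calc y * x * (y * x) = y * (x * y) * x := by group
            _ = y * (zz * (y * x)) * x := by rw [h3]
            _ = (y * zz) * y * (x * x) := by group
            _ = zz * (y * y) * (x * x) := by rw [hzzc y]; group
            _ = 1 := by rw [hyy, hxx, hzz2, mul_one]
    refine hchain' (Subgroup.centralizer {y}) ?_ hZC hCi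
    intro α g hg
    rw [Subgroup.mem_centralizer_singleton_iff] at hg ⊢
    have h1 : α y * α y ≠ 1 := by
      rw [← map_mul, hyy]
      intro h
      apply hzz1
      apply α.injective
      rw [h, map_one]
    obtain ⟨z, hz, hzy⟩ := hclaim _ h1
    have h2 : α g * α y = α y * α g := by rw [← map_mul, hg, map_mul]
    rw [hzy] at h2
    have h3 := Subgroup.mem_center_iff.1 hz (α g)
    have h4 : z * (α g * y) = z * (y * α g) := by
      calc z * (α g * y) = (z * α g) * y := by group
        _ = (α g * z) * y := by rw [h3]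
        _ = α g * (z * y) := by group
        _ = z * y * α g := h2
        _ = z * (y * α g) := by group
    exact mul_left_cancel h4
  · left
    refine ⟨hodd, ?_⟩
    have hp2 : p ≠ 2 := by rintro rfl; exact absurd hodd (by decide)
    have hmul := CfsgLib.PCyc.mul_pow_of_central hp.out hp2 hcm (fun x y => hΦp _ (hcmΦ x y))
    let f : H →* H := MonoidHom.mk' (fun x => x ^ p) hmul
    have hf : ∀ x, x ∈ f.ker ↔ x ^ p = 1 := fun x => Iff.rfl
    have hi : f.ker.index ∣ p := by
      rw [Subgroup.index_ker]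
      have h1 : f.range ≤ frattini H := by rintro _ ⟨x, rfl⟩; exact hpwΦ x
      conv_rhs => rw [← hΦ]
      exact Subgroup.card_dvd_of_le h1
    have h2 : f.ker = ⊤ := by
      rcases (Nat.dvd_prime hp.out).1 hi with h | h
      · exact Subgroup.index_eq_one.1 h
      · exfalso
        refine hchain' f.ker ?_ ?_ h
        · intro α x hx
          rw [hf] at hx ⊢
          rw [← map_pow, hx, map_one]
        · intro z hz
          rw [hf]; exact hexpZ z hz
    intro x
    rw [← hf, h2]
    trivial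

end

end CfsgLib.Fus21
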