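import Cfsg.Statements.S5187
import Cfsg.Agent.LibFus21E4

set_option autoImplicit false
universe u
open Cfsg

namespace Cfsg.Agent.S5187

open CfsgLib.Fus21 Cfsg Cfsg.FusionSystem



/-- Let F be a saturated fusion system over a finite p-group S and H an abelian essential subgroup that can be generated by two elements (its Frattini quotient has order at most p²). Then H is elementary abelian of order p², or p ≤ 3 and H is homocyclic of rank two, that is isomorphic to C_{pᵏ} × C_{pᵏ} for some k. -/
theorem result {Ω : Type u} [Group Ω] {S : Subgroup Ω} [Finite S] (p : ℕ) [Fact p.Prime] (hS : IsPGroup p S)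
    (F : Cfsg.FusionSystem S) (hF : F.IsSaturated p) (H : Subgroup Ω) (hH : F.IsEssential p H) (hab : IsMulCommutative ↥H) (hrk : (frattini ↥H).index ≤ p ^ 2) :
    (Cfsg.IsElementaryAbelian p H ∧ Nat.card H = p ^ 2) ∨
      (p ≤ 3 ∧ ∃ k : ℕ, Nonempty (↥H ≃* Multiplicative (ZMod (p ^ k) × ZMod (p ^ k)))) := by
    haveI : Finite H := finite_of_le hH.1.1
    have hpH : IsPGroup p H := hS.to_le hH.1.1
    have hc : ∀ x y : H, x * y = y * x := fun x y => hab.is_comm.comm x y
    obtain ⟨hidx, hirr, hker, τ, hτA, -, hτI, C, hΦC, hCi, h1, h2⟩ := ess2 hS hF hH hrk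
    have hInn : ∀ α ∈ Inn H, α = 1 := by
      intro α hα
      obtain ⟨g, rfl⟩ := hα
      ext x
      simp only [MulAut.conj_apply, MulAut.one_apply]
      rw [hc g x, mul_inv_cancel_right]
    obtain ⟨k, hk0, hiso, hexp, htor⟩ := homocyclic hpH hc hidx (by
      intro m
      refine ess2_char hS hF hH hrk (D := torB hc m ⊔ frattini H) ?_ le_sup_right
      intro α x hx
      have h3 : (torB hc m ⊔ frattini H).map α.toMonoidHom ≤ torB hc m ⊔ frattini H := by
        rw [Subgroup.map_sup]
        apply sup_le_sup
        · rintro _ ⟨y, hy, rfl⟩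
          show (α y) ^ m = 1
          rw [← map_pow, show y ^ m = 1 from hy, map_one]
        · exact (Subgroup.characteristic_iff_map_le.1 inferInstance α)
      exact h3 ⟨x, hx, rfl⟩)
    by_cases hk1 : k = 1
    · left
      subst hk1
      refine ⟨⟨hab, fun a ha => ?_⟩, ?_⟩
      · have := hexp ⟨a, ha⟩
        rw [pow_one] at this
        exact congrArg Subtype.val this
      · obtain ⟨e⟩ := hiso
        rw [Nat.card_congr e.toEquiv, Nat.card_congr Multiplicative.toAdd, Nat.card_prod, Nat.card_zmod, pow_one, pow_two]
    · right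
      refine ⟨?_, k, hiso⟩
      by_contra hp3
      have hp5 : 5 ≤ p := by
        by_contra hlt
        have hp4 : p = 4 := by omega
        have := (Fact.out : p.Prime)
        rw [hp4] at this
        exact absurd this (by norm_num)
      have htor1 := htor 1 (by omega)
      rw [pow_one] at htor1
      have hτp : τ ^ p = 1 := hInn _ (hker _ ((F.autGroup H).pow_mem hτA p) (tau_pow_mem hpH hc h1 h2))
      exact hτI (hker τ hτA (no_lift hpH hc hp5 hτp h1 h2 htor1))

end Cfsg.Agent.S5187
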