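import Cfsg.Agent.LibFus21F2
import Cfsg.Agent.S5187

set_option autoImplicit false

/-! Essential subgroups of order `p⁴`. -/

namespace CfsgLib.Fus21

open Cfsg Cfsg.FusionSystem

theorem prod_iso {H : Type*} [Group H] [Finite H] {p : ℕ} [hp : Fact p.Prime] (hcard : Nat.card H = p ^ 4) {E : Subgroup H}
    (hE : Nat.card E = p ^ 3) {c : H} (hcZ : c ∈ Subgroup.center H) (hcp : c ^ p = 1) (hcE : c ∉ E) :
    Nonempty (H ≃* E × Multiplicative (ZMod p)) := by
  haveI : NeZero p := ⟨hp.out.ne_zero⟩
  have hc1 : c ≠ 1 := by rintro rfl; exact hcE E.one_mem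
  have hco : Nat.card (Subgroup.zpowers c) = p := by rw [Nat.card_zpowers, orderOf_eq_prime hcp hc1]
  let f : E × Subgroup.zpowers c →* H := MonoidHom.noncommCoprod E.subtype (Subgroup.zpowers c).subtype (by
    rintro e ⟨_, n, rfl⟩
    show Commute (e : H) (c ^ n)
    exact Commute.zpow_right (show Commute (e : H) c from Subgroup.mem_center_iff.1 hcZ e) n)
  have hf : ∀ e w, f (e, w) = (e : H) * w := fun e w => rfl
  have hinj : Function.Injective f := by
    rw [injective_iff_map_eq_one]
    rintro ⟨e, w⟩ h
    rw [hf] at h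
    have h1 : (w : H) ∈ E := by
      have : (w : H) = (e : H)⁻¹ := eq_inv_of_mul_eq_one_right h
      rw [this]; exact E.inv_mem e.2
    have h2 : w = 1 := by
      by_contra hw
      apply hcE
      have h3 : (w : H) ≠ 1 := fun h => hw (Subtype.ext h)
      have h4 : (w : H) ^ p = 1 := by
        have : w ^ Nat.card (Subgroup.zpowers c) = 1 := pow_card_eq_one'
        rw [hco] at this
        exact congrArg Subtype.val this
      have h5 : Subgroup.zpowers (w : H) = Subgroup.zpowers c := by
        apply Subgroup.eq_of_le_of_card_ge (Subgroup.zpowers_le.2 w.2)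
        rw [hco, Nat.card_zpowers, orderOf_eq_prime h4 h3]
      have h6 : c ∈ Subgroup.zpowers (w : H) := by rw [h5]; exact Subgroup.mem_zpowers c
      exact (Subgroup.zpowers_le.2 h1) h6
    have h3 : e = 1 := by
      rw [h2] at h
      apply Subtype.ext
      simpa using h
    rw [h2, h3]; rfl
  have hbij : Function.Bijective f := by
    rw [Nat.bijective_iff_injective_and_card]
    refine ⟨hinj, ?_⟩
    rw [Nat.card_prod, hE, hco, hcard]; ring
  have e2 : Subgroup.zpowers c ≃* Multiplicative (ZMod p) := by
    haveI : Fact (Nat.Prime p) := hp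
    exact mulEquivOfPrimeCardEq (p := p) hco (by rw [Nat.card_congr Multiplicative.toAdd, Nat.card_zmod])
  exact ⟨(MulEquiv.ofBijective f hbij).symm.trans (MulEquiv.prodCongr (MulEquiv.refl E) e2)⟩

theorem essential_p4 {Ω : Type*} [Group Ω] {S : Subgroup Ω} [Finite S] {p : ℕ} [hp : Fact p.Prime] (hS : IsPGroup p S)
    {F : FusionSystem S} (hF : F.IsSaturated p) {H : Subgroup Ω} (hH : F.IsEssential p H) (hcard : Nat.card H = p ^ 4) :
    Cfsg.IsElementaryAbelian p H ∨
      Nonempty (↥H ≃* Multiplicative (ZMod (p ^ 2) × ZMod p × ZMod p)) ∨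
      ((p = 2 ∨ p = 3) ∧ Nonempty (↥H ≃* Multiplicative (ZMod (p ^ 2) × ZMod (p ^ 2)))) ∨
      (Odd p ∧ ∃ (E : Type) (_ : Group E) (_ : Finite E), Cfsg.IsExtraspecial p E ∧ Nat.card E = p ^ 3 ∧
        (∀ x : E, x ^ p = 1) ∧ Nonempty (↥H ≃* E × Multiplicative (ZMod p))) ∨
      (p = 2 ∧ Nonempty (↥H ≃* QuaternionGroup 2 × Multiplicative (ZMod 2))) ∨
      (¬ IsMulCommutative ↥H ∧ (∀ x ∈ H, x ^ (p ^ 2) = 1) ∧ IsCyclic ↥(Subgroup.center ↥H) ∧
        Nat.card (Subgroup.center ↥H) = p ^ 2) := by
  haveI : Finite H := finite_of_le hH.1.1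
  have hpH : IsPGroup p H := hS.to_le hH.1.1
  have hci := (frattini H).card_mul_index
  rw [hcard] at hci
  have hpp : 0 < p := hp.out.pos
  have h1p : 1 < p := hp.out.one_lt
  obtain ⟨j, hj4, hj⟩ := (Nat.dvd_prime_pow hp.out).1 ⟨Nat.card (frattini H), by rw [mul_comm]; exact hci.symm⟩
  have hcardΦ : Nat.card (frattini H) = p ^ (4 - j) := card_quot_of hcard hj hj4
  by_cases hj4' : j = 4
  · left
    subst hj4'
    have h2 : frattini H = ⊥ := Subgroup.card_eq_one.1 (by rw [hcardΦ]; norm_num)
    refine ⟨⟨⟨fun x y => ?_⟩⟩, fun a ha => ?_⟩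
    · have h3 := CfsgLib.ExtraH28.comm_mem_frattini hpH x y
      rw [h2, Subgroup.mem_bot] at h3
      exact CfsgLib.ExtraH28.comm_eq_one_iff.1 h3
    · have h3 := CfsgLib.LE.pow_mem_frattini hpH (⟨a, ha⟩ : H)
      rw [h2, Subgroup.mem_bot] at h3
      exact congrArg Subtype.val h3
  right
  by_cases hj3 : j = 3
  · subst hj3
    have hΦ : Nat.card (frattini H) = p := by rw [hcardΦ]; norm_num
    by_cases hab : ∀ x y : H, x * y = y * x
    · left
      exact rank3_ab hpH hab hcard hΦ
    right
    push Not at hab
    have hΦZ : frattini H ≤ Subgroup.center H := CfsgLib.PCyc.le_center_of_card_eq hp.out hpH (frattini H) hΦ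
    obtain ⟨hZc, hexp, hcase⟩ := rank3_nonab hpH hcard hab hΦ (by
      intro hZc D hDα hZD hDi
      have hcen : ∀ D : Subgroup H, D.Characteristic → ∀ α : MulAut H, ∀ x ∈ D, α x ∈ D := fun D hD α x hx =>
        Subgroup.characteristic_iff_map_le.1 hD α ⟨x, hx, rfl⟩
      have hDc : Nat.card D = p ^ 3 := by
        have := card_quot_of hcard (N := D) (k := 1) (by rw [hDi, pow_one]) (by norm_num)
        simpa using this
      have hrel : ∀ A B : Subgroup H, A ≤ B → Nat.card A * A.relIndex B = Nat.card B := by
        intro A B hAB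
        rw [← Subgroup.relIndex_bot_left, ← Subgroup.relIndex_bot_left]
        exact Subgroup.relIndex_mul_relIndex _ _ _ bot_le hAB
      have hDn : D.Normal := ⟨fun x hx g => hDα (MulAut.conj g) x hx⟩
      refine not_essential_of_pchain hS hF (c := fun i => if i = 0 then ⊥ else if i = 1 then frattini H else if i = 2 then Subgroup.center H
        else if i = 3 then D else ⊤) (n := 4) (by simp) (by simp) ?_ ?_ ?_ ?_ hH
      · refine monotone_nat_of_le_succ fun i => ?_
        rcases i with _ | _ | _ | _ | i
        · simp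
        · simpa using hΦZ
        · simpa using hZD
        · simp
        · simp
      · intro i
        rcases i with _ | _ | _ | _ | i
        · simp; try infer_instance
        · simp; try infer_instance
        · simp; try infer_instance
        · simpa using hDn
        · simp; try infer_instance
      · intro α _ i x hx
        rcases i with _ | _ | _ | _ | i
        · simp at hx ⊢; exact hx
        · simp at hx ⊢; exact hcen (frattini H) inferInstance α x hx
        · simp at hx ⊢; exact hcen (Subgroup.center H) inferInstance α x hx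
        · simp at hx ⊢; exact hDα α x hx
        · simp
      · intro i hi
        interval_cases i
        · simp only [if_true, if_false, zero_add, one_ne_zero]
          rw [Subgroup.relIndex_bot_left, hΦ]
        · have h1 := hrel _ _ hΦZ
          rw [hΦ, hZc, pow_two] at h1
          have h2 := Nat.eq_of_mul_eq_mul_left hpp h1
          simp [h2]
        · have h1 := hrel _ _ hZD
          rw [hDc, hZc, show p ^ 3 = p ^ 2 * p by ring] at h1
          have h2 := Nat.eq_of_mul_eq_mul_left (pow_pos hpp 2) h1
          simp [h2]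
        · simp [hDi])
    right
    rcases hcase with hcyc | ⟨E, c, hEc, ⟨x, hxE, y, hyE, hxy⟩, hcE, hcZ, hcp, hΦE, hEZ, hcase⟩
    · right; right
      refine ⟨fun hcm => ?_, fun x hx => congrArg Subtype.val (hexp ⟨x, hx⟩), hcyc, hZc⟩
      obtain ⟨x, y, hxy⟩ := hab
      exact hxy (hcm.is_comm.comm x y)
    · obtain ⟨iso⟩ := prod_iso hcard hEc hcZ hcp hcE
      rcases hcase with ⟨hodd, hexp⟩ | ⟨h2, hsq⟩
      · left
        refine ⟨hodd, ?_⟩
        obtain ⟨K, hK, ⟨e⟩⟩ := exists_type_copy E
        haveI : Finite K := Finite.of_equiv _ e.toEquiv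
        have hEexp : ∀ x : E, x ^ p = 1 := fun x => Subtype.ext (hexp x)
        have hEne : ∃ a b : E, a * b ≠ b * a := ⟨⟨x, hxE⟩, ⟨y, hyE⟩, fun h => hxy (congrArg Subtype.val h)⟩
        have hcmE : ∀ a b : E, a * b * a⁻¹ * b⁻¹ ∈ Subgroup.center E := by
          intro a b
          rw [Subgroup.mem_center_iff]
          intro g
          apply Subtype.ext
          exact Subgroup.mem_center_iff.1 (hΦZ (CfsgLib.ExtraH28.comm_mem_frattini hpH (a : H) (b : H))) (g : H)
        have hcE : Nat.card (Subgroup.center E) = p := by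
          obtain ⟨k, hk⟩ := IsPGroup.iff_card.1 ((hpH.to_subgroup E).to_subgroup (Subgroup.center E))
          have h3 := (Subgroup.center E).card_mul_index
          rw [hEc, hk] at h3
          have hk3 : k ≤ 3 := (Nat.pow_dvd_pow_iff_le_right h1p).1 ⟨_, h3.symm⟩
          have hind : (Subgroup.center E).index = p ^ (3 - k) := by
            have h4 : p ^ k * (Subgroup.center E).index = p ^ k * p ^ (3 - k) := by
              rw [h3, ← pow_add]; congr 1; omega
            exact Nat.eq_of_mul_eq_mul_left (pow_pos hpp k) h4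
          have hk1 : k ≠ 0 := by
            rintro rfl
            rw [pow_zero] at hk
            obtain ⟨a, b, hab'⟩ := hEne
            apply hab'
            have h5 := hcmE a b
            rw [Subgroup.card_eq_one.1 hk, Subgroup.mem_bot] at h5
            exact CfsgLib.ExtraH28.comm_eq_one_iff.1 h5
          have hk2 : k ≤ 1 := by
            by_contra h
            obtain ⟨a, b, hab'⟩ := hEne
            apply hab'
            refine comm_of_center_index ?_ (hpH.to_subgroup E) a b
            rw [hind]
            calc p ^ (3 - k) ≤ p ^ 1 := Nat.pow_le_pow_right hpp (by omega)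
              _ = p := pow_one p
          have : k = 1 := by omega
          rw [hk, this, pow_one]
        have hext : Cfsg.IsExtraspecial p E := CfsgLib.ExtraH28.isExtraspecial_of (hpH.to_subgroup E) hcE
          (fun x => by rw [hEexp]; exact Subgroup.one_mem _) hcmE hEne
        refine ⟨K, hK, inferInstance, CfsgLib.ExtraH28.isExtraspecial_congr e hext, ?_, ?_, ⟨iso.trans (MulEquiv.prodCongr e (MulEquiv.refl _))⟩⟩
        · rw [← hEc]; exact Nat.card_congr e.symm.toEquiv
        · intro a
          apply e.symm.injective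
          rw [map_pow, hEexp, map_one]
      · right; left
        subst h2
        refine ⟨rfl, ?_⟩
        have hE8 : Nat.card E = 8 := by rw [hEc]; norm_num
        -- z generator of Φ
        obtain ⟨z, hz⟩ : ∃ z, z = x * y * x⁻¹ * y⁻¹ := ⟨_, rfl⟩
        have hzΦ : z ∈ frattini H := hz ▸ CfsgLib.ExtraH28.comm_mem_frattini hpH x y
        have hz1 : z ≠ 1 := fun h => hxy (CfsgLib.ExtraH28.comm_eq_one_iff.1 (hz ▸ h))
        have hΦ2 : ∀ v ∈ frattini H, v = 1 ∨ v = z := by
          intro v hv
          rw [Nat.card_eq_two_iff] at hΦ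
          obtain ⟨a, b, hab', hall⟩ := hΦ
          have hall' : ∀ u : frattini H, u = a ∨ u = b := by
            intro u
            have hu : u ∈ ({a, b} : Set (frattini H)) := hall ▸ Set.mem_univ u
            simpa using hu
          have h4 := hall' 1
          have h5 := hall' ⟨z, hzΦ⟩
          have h6 := hall' ⟨v, hv⟩
          have h7 : (⟨z, hzΦ⟩ : frattini H) ≠ 1 := fun h => hz1 (congrArg Subtype.val h)
          by_contra hno
          push Not at hno
          have h8 : (⟨v, hv⟩ : frattini H) ≠ 1 := fun h => hno.1 (congrArg Subtype.val h)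
          have h9 : (⟨v, hv⟩ : frattini H) ≠ ⟨z, hzΦ⟩ := fun h => hno.2 (congrArg Subtype.val h)
          rcases h4 with h4 | h4 <;> rcases h5 with h5 | h5 <;> rcases h6 with h6 | h6 <;>
            first
            | exact h7 (h5.trans h4.symm)
            | exact h8 (h6.trans h4.symm)
            | exact h9 (h6.trans h5.symm)
        have hzz : z * z = 1 := by
          have h4 : (⟨z, hzΦ⟩ : frattini H) ^ Nat.card (frattini H) = 1 := pow_card_eq_one'
          rw [hΦ, pow_two] at h4
          exact congrArg Subtype.val h4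
        obtain ⟨q⟩ := Cfsg.Agent.H22.q8_equiv (H := E) hE8 ⟨z, hΦE hzΦ⟩ (fun h => hz1 (congrArg Subtype.val h))
          (Subtype.ext hzz) (by
            intro w hw1 hwz
            apply Subtype.ext
            have hwZ : (w : H) ∉ Subgroup.center H := by
              intro h
              have h5 : (w : H) ∈ frattini H := by rw [← hEZ]; exact ⟨w.2, h⟩
              rcases hΦ2 _ h5 with h6 | h6
              · exact hw1 (Subtype.ext h6)
              · exact hwz (Subtype.ext h6)
            have h6 : (w : H) * w ∈ frattini H := by rw [← pow_two]; exact CfsgLib.LE.pow_mem_frattini hpH _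
            exact (hΦ2 _ h6).resolve_left (hsq _ hwZ))
        exact ⟨iso.trans (MulEquiv.prodCongr q (MulEquiv.refl _))⟩
  · right; left
    have hrk : (frattini H).index ≤ p ^ 2 := by
      rw [hj]; exact Nat.pow_le_pow_right hpp (by omega)
    obtain ⟨hidx, -⟩ := ess2 hS hF hH hrk
    have hab := rank2_ab hpH hcard hidx (fun D hD hΦD => ess2_char hS hF hH hrk hD hΦD)
    rcases Cfsg.Agent.S5187.result p hS F hF H hH ⟨⟨hab⟩⟩ hrk with ⟨-, h⟩ | ⟨h3, k, ⟨e⟩⟩
    · exfalso
      rw [hcard] at h
      have := Nat.pow_lt_pow_right h1p (show 2 < 4 by norm_num)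
      omega
    · have hk : k = 2 := by
        have h1 : Nat.card H = p ^ (2 * k) := by
          rw [Nat.card_congr e.toEquiv, Nat.card_congr Multiplicative.toAdd, Nat.card_prod, Nat.card_zmod]; ring
        rw [hcard] at h1
        have := Nat.pow_right_injective hp.out.two_le h1
        omega
      subst hk
      refine ⟨?_, ⟨e⟩⟩
      omega

end CfsgLib.Fus21
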