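import Cfsg.Agent.LibFus21Sm5
import Cfsg.Agent.LibCoprime
import Cfsg.Agent.LibFT1

set_option autoImplicit false

/-! The focal subgroup of the centralizer system of the support of a normal subsystem. -/

namespace CfsgLib.Fus21

open Cfsg Cfsg.FusionSystem

universe u

variable {Ω : Type u} [Group Ω] {S T : Subgroup Ω}

open scoped Pointwise in
theorem coset_conj {Γ : Type u} [Group Γ] [Finite Γ] {G : Subgroup Γ} [hG : G.Normal] {x t : Γ}
    (hcop : (Nat.card G).Coprime (orderOf x)) (hcop' : (Nat.card G).Coprime (orderOf t)) (htx : t * x⁻¹ ∈ G) :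
    ∃ n ∈ G, n * x * n⁻¹ = t := by
  have hmt : QuotientGroup.mk' G t = QuotientGroup.mk' G x := by
    have h1 : QuotientGroup.mk' G (t * x⁻¹) = 1 := (QuotientGroup.eq_one_iff _).2 htx
    rw [map_mul, map_inv, mul_inv_eq_one] at h1
    exact h1
  have hinf : ∀ (w : Γ), (Nat.card G).Coprime (orderOf w) → ∀ z ∈ Subgroup.zpowers w, z ∈ G → z = 1 := by
    intro w hw z hz hzG
    have h1 : orderOf z ∣ Nat.card G := by
      have := orderOf_dvd_natCard (⟨z, hzG⟩ : G)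
      rwa [Subgroup.orderOf_mk] at this
    have h2 : orderOf z ∣ orderOf w := by
      rw [← Nat.card_zpowers w]
      have := orderOf_dvd_natCard (⟨z, hz⟩ : Subgroup.zpowers w)
      rwa [Subgroup.orderOf_mk] at this
    have h3 : orderOf z ∣ 1 := by
      rw [← hw]; exact Nat.dvd_gcd h1 h2
    exact orderOf_eq_one_iff.mp (Nat.dvd_one.mp h3)
  have ho : orderOf t = orderOf x := by
    apply Nat.dvd_antisymm
    · apply orderOf_dvd_of_pow_eq_one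
      apply hinf t hcop' _ (Subgroup.pow_mem _ (Subgroup.mem_zpowers t) _)
      rw [← QuotientGroup.eq_one_iff]
      have : QuotientGroup.mk' G (t ^ orderOf x) = 1 := by
        rw [map_pow, hmt, ← map_pow, pow_orderOf_eq_one, map_one]
      exact this
    · apply orderOf_dvd_of_pow_eq_one
      apply hinf x hcop _ (Subgroup.pow_mem _ (Subgroup.mem_zpowers x) _)
      rw [← QuotientGroup.eq_one_iff]
      have : QuotientGroup.mk' G (x ^ orderOf t) = 1 := by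
        rw [map_pow, ← hmt, ← map_pow, pow_orderOf_eq_one, map_one]
      exact this
  obtain ⟨n, hn, hconj⟩ := CfsgLib.Coprime.sz_conj (N := G) (H := Subgroup.zpowers x) (K := Subgroup.zpowers t)
    (by rw [Subgroup.normalizer_eq_top]; exact le_top) (by rw [Nat.card_zpowers]; exact hcop.symm)
    (Or.inl inferInstance) (by
      rw [Subgroup.zpowers_le]
      have : t = (t * x⁻¹) * x := by group
      rw [this]
      exact Subgroup.mul_mem_sup htx (Subgroup.mem_zpowers x))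
    (by rw [Nat.card_zpowers, Nat.card_zpowers, ho])
  have h1 : t ∈ MulAut.conj n • Subgroup.zpowers x := by rw [hconj]; exact Subgroup.mem_zpowers t
  rw [Subgroup.mem_smul_pointwise_iff_exists] at h1
  obtain ⟨z, hz, hzt⟩ := h1
  have hzt' : n * z * n⁻¹ = t := hzt
  have hzx : z = x := by
    have h2 : z * x⁻¹ = 1 := by
      apply hinf x hcop _ ((Subgroup.zpowers x).mul_mem hz ((Subgroup.zpowers x).inv_mem (Subgroup.mem_zpowers x)))
      rw [← QuotientGroup.eq_one_iff]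
      have h3 : QuotientGroup.mk' G z = QuotientGroup.mk' G x := by
        rw [← hmt, ← hzt', map_mul, map_mul]
        have : QuotientGroup.mk' G n = 1 := (QuotientGroup.eq_one_iff n).mpr hn
        rw [map_inv, this]; simp
      have : QuotientGroup.mk' G (z * x⁻¹) = 1 := by
        rw [map_mul, map_inv, h3, mul_inv_cancel]
      exact this
    exact mul_inv_eq_one.mp h2
  rw [hzx] at hzt'
  exact ⟨n, hn, hzt'⟩

theorem XSys_PPc [Finite S] {p : ℕ} [hp : Fact p.Prime] (hS : IsPGroup p S) {F : FusionSystem S} {E : FusionSystem T}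
    (hE : E.IsWeaklyNormalIn F p) (hTS : T ≤ S) : PPc E p (XSys E F hTS) := by
  refine ⟨fun P φ hφ => hφ.1, fun P hP => ?_⟩
  rw [OpP_eq, Subgroup.closure_le]
  rintro τ ⟨hτ, k, hk⟩
  show τ ∈ (XSys E F hTS).autGroup P
  rw [mem_autGroup hP.1, mem_iso, mem_XSys]
  exact ⟨(mem_autGroup hP.1).1 hτ, fun _ => opP_XX hS hE hP hτ hk⟩

theorem all_XX [Finite S] {p : ℕ} [hp : Fact p.Prime] (hS : IsPGroup p S) {F : FusionSystem S} {E : FusionSystem T}
    (hE : E.IsNormalIn F p) {P : Subgroup Ω} {φ : P →* Ω} (hφ : φ ∈ E.Hom P) (hP : E.IsCentric P) : XX F T P φ := by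
  have hEs := hE.1.1
  have hinv := hE.1.2.2
  have hTS : T ≤ S := hinv.2.1.1
  haveI : Finite T := finite_of_le hTS
  have hT := hS.to_le hTS
  have hmin : ppMin E p ≤ XSys E F hTS := ppMin_le (XSys_PPc hS hE.1 hTS)
  obtain ⟨α, hα, φ₀, hφ₀, hx⟩ := pp_decomp hT hEs (ppMin_PPc E p) hφ
  have hαX : T.subtype.comp α.toMonoidHom ∈ (XSys E F hTS).Hom T := by
    rw [mem_XSys]
    refine ⟨(mem_autGroup le_rfl).1 hα, fun _ => ?_⟩
    obtain ⟨β, hβ, h1, h2⟩ := hE.2 α hα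
    have hMS : T ⊔ centralizerIn S T ≤ S := sup_le hTS (cent_le S T)
    exact ⟨_, (mem_autGroup hMS).1 hβ, fun x hx hx' => h1 ⟨x, hx⟩, fun c hc hc' => (h2 ⟨c, hc'⟩ hc).1⟩
  exact (comp_mem' (hmin P hφ₀) hαX fun x => ⟨mem_S hφ₀ x, hx x _⟩).2 hP

theorem centHom_of {F : FusionSystem S} {P : Subgroup Ω} {φ : P →* Ω} (hPT : P ≤ T) (hφT : ∀ x, φ x ∈ T) {M : Subgroup Ω}
    {ψ : M →* Ω} (hψ : ψ ∈ F.Hom M) (hPM : P ≤ M) (hψφ : ∀ x (hx : x ∈ P), ψ ⟨x, hPM hx⟩ = φ ⟨x, hx⟩) {g : Ω}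
    (hgC : g ∈ centralizerIn S T) (hgM : g ∈ M) (hg : ψ ⟨g, hgM⟩ = g) (hTS : T ≤ S) :
    φ ∈ F.centralizerHom (Subgroup.zpowers g) P := by
  have hTC : ∀ x ∈ T, x ∈ centralizerIn S (Subgroup.zpowers g) := by
    intro x hx
    rw [mem_centralizerIn']
    refine ⟨hTS hx, fun y hy => ?_⟩
    obtain ⟨n, rfl⟩ := Subgroup.mem_zpowers_iff.1 hy
    have h1 := (mem_centralizerIn'.1 hgC).2 x hx
    have h2 : Commute x g := (mul_inv_eq_iff_eq_mul.1 h1).symm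
    rw [mul_inv_eq_iff_eq_mul]; exact (h2.zpow_right n)
  have hM : P ⊔ Subgroup.zpowers g ≤ M := sup_le hPM (Subgroup.zpowers_le.2 hgM)
  refine ⟨restrict_mem' hψ hPM (fun x => (hψφ x x.2).symm), fun x hx => hTC x (hPT hx), fun x => hTC _ (hφT x), _,
    restrict_mem hψ hM, fun x => hψφ x x.2, ?_⟩
  rintro ⟨y, hy⟩
  obtain ⟨n, hn⟩ := Subgroup.mem_zpowers_iff.1 hy
  show ψ ⟨y, _⟩ = y
  have h1 : (⟨y, hM (Subgroup.mem_sup_right hy)⟩ : M) = ⟨g, hgM⟩ ^ n := Subtype.ext hn.symm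
  rw [h1, map_zpow, hg, hn]

theorem good_of_centric [Finite S] {p : ℕ} [hp : Fact p.Prime] (hS : IsPGroup p S) {F : FusionSystem S} {E : FusionSystem T}
    (hTS : T ≤ S) (hEs : E.IsSaturated p) {X : Subgroup Ω} (hXS : X ≤ S) (hX : T ≤ centralizerIn S X)
    (h : ∀ P, E.IsCentric P → E.Hom P ⊆ F.centralizerHom X P) : ∀ P, E.Hom P ⊆ F.centralizerHom X P := by
  haveI : Finite T := finite_of_le hTS
  have hc := centSys_is F X hXS
  let E' : FusionSystem T :=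
    { Hom := fun P => {φ | φ ∈ E.Hom P ∧ φ ∈ (centSys F X hXS).Hom P}
      le_of_mem := fun h => E.le_of_mem h.1
      injective_of_mem := fun h => E.injective_of_mem h.1
      conj_mem := fun hP hg => ⟨E.conj_mem hP hg, (centSys F X hXS).conj_mem (hP.trans hX) (hX hg)⟩
      comp_mem := fun hφ hψ h => ⟨E.comp_mem hφ.1 hψ.1 h, (centSys F X hXS).comp_mem hφ.2 hψ.2 h⟩
      inv_mem := by
        intro P φ hφ
        obtain ⟨ψ, hψ, hψx⟩ := E.inv_mem hφ.1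
        obtain ⟨ψ', hψ', hψx'⟩ := (centSys F X hXS).inv_mem hφ.2
        have h1 : ψ = ψ' := by
          ext y
          obtain ⟨_, x, rfl⟩ := y
          rw [hψx, hψx']
        exact ⟨ψ, ⟨hψ, h1 ▸ hψ'⟩, hψx⟩ }
  have h1 : E ≤ E' := by
    refine alperin (hS.to_le hTS) hEs E' fun P hP α hα => ?_
    have hPc : E.IsCentric P := by
      rcases hP with rfl | hP
      · exact self_centric E
      · exact hP.1
    rw [mem_autGroup hPc.1] at hα ⊢
    exact ⟨hα, by rw [hc]; exact h P hPc hα⟩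
  intro P φ hφ
  rw [← hc]
  exact (h1 P hφ).2

theorem sup_decQ {R Q : Subgroup Ω} (hR : R ≤ T) (hQ : Q ≤ centralizerIn S T) {z : Ω} (hz : z ∈ R ⊔ Q) :
    ∃ x ∈ R, ∃ c ∈ Q, x * c = z := by
  refine sup_decomp (fun a ha b hb => ?_) hz
  have h := (mem_centralizerIn'.1 (hQ hb)).2 a (hR ha)
  have h3 : b * a = a * b := mul_inv_eq_iff_eq_mul.1 h
  have h2 : a * b * a⁻¹ = b := by rw [← h3]; group
  rw [h2]; exact hb

theorem exists_fR [Finite S] {F : FusionSystem S} {Q R : Subgroup Ω} (hR : R ≤ T) (hQC : Q ≤ centralizerIn S T)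
    {φ : MulAut Q} {ψT : ↥(Q ⊔ T) →* Ω} (hψT : ψT ∈ F.Hom (Q ⊔ T))
    (hψTQ : ∀ x (hx : x ∈ Q), ψT ⟨x, Subgroup.mem_sup_left hx⟩ = φ ⟨x, hx⟩)
    (hψTT : ∀ x (hx : x ∈ T), ψT ⟨x, Subgroup.mem_sup_right hx⟩ = x) {m : ℕ} (hφm : φ ^ m = 1)
    {M : Subgroup Ω} (hM : R ⊔ Q = M) :
    ∃ f ∈ F.autGroup M, (∀ (x : M) (hx : (x : Ω) ∈ Q ⊔ T), ((f x : M) : Ω) = ψT ⟨x, hx⟩) ∧ f ^ m = 1 := by
  have hRM : R ≤ M := hM ▸ le_sup_left
  have hQM : Q ≤ M := hM ▸ le_sup_right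
  have hle : M ≤ Q ⊔ T := by rw [← hM]; exact sup_le (hR.trans le_sup_right) le_sup_left
  have hval : ∀ r (hr : r ∈ R) q (hq : q ∈ Q) (h : r * q ∈ Q ⊔ T), ψT ⟨r * q, h⟩ = r * φ ⟨q, hq⟩ := by
    intro r hr q hq h
    have h1 : (⟨r * q, h⟩ : ↥(Q ⊔ T)) = ⟨r, Subgroup.mem_sup_right (hR hr)⟩ * ⟨q, Subgroup.mem_sup_left hq⟩ := rfl
    rw [h1, map_mul, hψTT r (hR hr), hψTQ q hq]
  have hmem : ∀ x, (ψT.comp (Subgroup.inclusion hle)) x ∈ M := by
    rintro ⟨z, hz'⟩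
    have hz := hz'
    rw [← hM] at hz
    obtain ⟨r, hr, q, hq, rfl⟩ := sup_decQ hR hQC hz
    show ψT ⟨r * q, _⟩ ∈ M
    rw [hval r hr q hq]
    exact M.mul_mem (hRM hr) (hQM (φ ⟨q, hq⟩).2)
  obtain ⟨f, hf, hfx⟩ := exists_aut_of_hom (restrict_mem hψT hle) hmem
  have hfx' : ∀ (x : M) (hx : (x : Ω) ∈ Q ⊔ T), ((f x : M) : Ω) = ψT ⟨x, hx⟩ := fun x hx => hfx x
  refine ⟨f, hf, hfx', ?_⟩
  have hpow : ∀ (j : ℕ) r (hr : r ∈ R) q (hq : q ∈ Q) (h : r * q ∈ M), (((f ^ j) ⟨r * q, h⟩ : M) : Ω) = r * (φ ^ j) ⟨q, hq⟩ := by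
    intro j
    induction j with
    | zero => intro r hr q hq h; rfl
    | succ j ih =>
      intro r hr q hq h
      have h1 : (f ^ (j + 1)) ⟨r * q, h⟩ = (f ^ j) (f ⟨r * q, h⟩) := by rw [pow_succ]; rfl
      have h2 : (φ ^ (j + 1)) ⟨q, hq⟩ = (φ ^ j) (φ ⟨q, hq⟩) := by rw [pow_succ]; rfl
      have h3 : f ⟨r * q, h⟩ = ⟨r * φ ⟨q, hq⟩, M.mul_mem (hRM hr) (hQM (φ ⟨q, hq⟩).2)⟩ := Subtype.ext (by
        rw [hfx' _ (hle h), hval r hr q hq])
      rw [h1, h2, h3]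
      exact ih r hr _ (φ ⟨q, hq⟩).2 _
  apply MulEquiv.ext
  rintro ⟨z, hz'⟩
  have hz := hz'
  rw [← hM] at hz
  obtain ⟨r, hr, q, hq, rfl⟩ := sup_decQ hR hQC hz
  apply Subtype.ext
  rw [hpow m r hr q hq, hφm]
  rfl

end CfsgLib.Fus21
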