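import Cfsg.Agent.LibFus21Fc1

set_option autoImplicit false

/-! The focal subgroup of the centralizer system of the support of a normal subsystem. -/

namespace CfsgLib.Fus21

open Cfsg Cfsg.FusionSystem

universe u

variable {Ω : Type u} [Group Ω] {S T : Subgroup Ω}

theorem key_foc [Finite S] {p : ℕ} [hp : Fact p.Prime] (hS : IsPGroup p S) {F : FusionSystem S} {E : FusionSystem T}
    (hE : E.IsNormalIn F p) {P : Subgroup Ω} (hP : E.IsCentric P) {ψ : P →* Ω} (hψ : ψ ∈ E.Hom P)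
    {Q : Subgroup Ω} (hQC : Q ≤ centralizerIn S T) {φ : MulAut Q} {ψT : ↥(Q ⊔ T) →* Ω} (hψT : ψT ∈ F.Hom (Q ⊔ T))
    (hψTQ : ∀ x (hx : x ∈ Q), ψT ⟨x, Subgroup.mem_sup_left hx⟩ = φ ⟨x, hx⟩)
    (hψTT : ∀ x (hx : x ∈ T), ψT ⟨x, Subgroup.mem_sup_right hx⟩ = x)
    {m : ℕ} (hm : ¬ p ∣ m) (hφm : φ ^ m = 1) :
    ∃ χ ∈ F.Hom (P ⊔ Q), (∀ x (hx : x ∈ P), χ ⟨x, Subgroup.mem_sup_left hx⟩ = ψ ⟨x, hx⟩) ∧
      ∀ x (hx : x ∈ Q) (hx' : x⁻¹ * φ ⟨x, hx⟩ ∈ P ⊔ Q), χ ⟨x⁻¹ * φ ⟨x, hx⟩, hx'⟩ = x⁻¹ * φ ⟨x, hx⟩ := by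
  have hinv := hE.1.2.2
  have hTc := hinv.2.1
  have hTS : T ≤ S := hTc.1
  have hTn := stronglyClosed_normal_S hTc
  have hPT := hP.1
  have hRc : E.IsCentric ψ.range := centric_conj ⟨ψ, hψ, rfl⟩ hP
  obtain ⟨R, hRd⟩ : ∃ R, ψ.range = R := ⟨_, rfl⟩
  rw [hRd] at hRc
  have hRT := hRc.1
  obtain ⟨ψ₁, hψ₁, hψ₁P, hψ₁C⟩ := all_XX hS hE hψ hP
  obtain ⟨M, hM⟩ : ∃ M, P ⊔ Q = M := ⟨_, rfl⟩
  obtain ⟨N, hN⟩ : ∃ N, R ⊔ Q = N := ⟨_, rfl⟩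
  have hPM : P ≤ M := hM ▸ le_sup_left
  have hQM : Q ≤ M := hM ▸ le_sup_right
  have hRN : R ≤ N := hN ▸ le_sup_left
  have hQN : Q ≤ N := hN ▸ le_sup_right
  have hMC : M ≤ P ⊔ centralizerIn S T := by rw [← hM]; exact sup_le_sup_left hQC _
  have hNS : N ≤ S := by rw [← hN]; exact sup_le (hRT.trans hTS) (hQC.trans (cent_le S T))
  have hMS : M ≤ S := by rw [← hM]; exact sup_le (hPT.trans hTS) (hQC.trans (cent_le S T))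
  have hMQT : M ≤ Q ⊔ T := by rw [← hM]; exact sup_le (hPT.trans le_sup_right) le_sup_left
  have hNQT : N ≤ Q ⊔ T := by rw [← hN]; exact sup_le (hRT.trans le_sup_right) le_sup_left
  obtain ⟨ψ₂, hψ₂d⟩ : ∃ ψ₂, ψ₁.comp (Subgroup.inclusion hMC) = ψ₂ := ⟨_, rfl⟩
  have hψ₂ : ψ₂ ∈ F.Hom M := hψ₂d ▸ restrict_mem hψ₁ hMC
  have hψ₂P : ∀ x (hx : x ∈ P), ψ₂ ⟨x, hPM hx⟩ = ψ ⟨x, hx⟩ := fun x hx => by rw [← hψ₂d]; exact hψ₁P x hx _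
  have hψ₂Q : ∀ x (hx : x ∈ Q), x⁻¹ * ψ₂ ⟨x, hQM hx⟩ ∈ R := fun x hx => by
    rw [← hRd]
    refine xx_mem (S := S) hPT hψ (by rw [hRd]; exact centric_centralizer_le hRc) hPM hψ₂P (hQC hx) (hQM hx) ?_
    rw [← hψ₂d]
    exact hψ₁C x (hQC hx) _
  -- values of `ψ₂`
  have hψ₂T : ∀ x : M, (x : Ω)⁻¹ * ψ₂ x ∈ T := by
    rintro ⟨z, hz'⟩
    have hz := hz'
    rw [← hM] at hz
    obtain ⟨x, hx, c, hc, rfl⟩ := sup_decQ hPT hQC hz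
    have h1 : (⟨x * c, hz'⟩ : M) = ⟨x, hPM hx⟩ * ⟨c, hQM hc⟩ := rfl
    show (x * c)⁻¹ * ψ₂ ⟨x * c, hz'⟩ ∈ T
    rw [h1, map_mul, hψ₂P x hx]
    have h2 : (x * c)⁻¹ * (ψ ⟨x, hx⟩ * ψ₂ ⟨c, hQM hc⟩) = (c⁻¹ * (x⁻¹ * ψ ⟨x, hx⟩) * c) * (c⁻¹ * ψ₂ ⟨c, hQM hc⟩) := by group
    rw [h2]
    refine T.mul_mem ?_ (hRT (hψ₂Q c hc))
    have h3 := (Subgroup.mem_normalizer_iff.1 (hTn (S.inv_mem (cent_le S T (hQC hc)))) (x⁻¹ * ψ ⟨x, hx⟩)).1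
      (T.mul_mem (T.inv_mem (hPT hx)) (mem_S hψ _))
    rwa [inv_inv] at h3
  have hr : ψ₂.range = N := by
    apply le_antisymm
    · rintro _ ⟨⟨z, hz'⟩, rfl⟩
      have hz := hz'
      rw [← hM] at hz
      obtain ⟨x, hx, c, hc, rfl⟩ := sup_decQ hPT hQC hz
      have h1 : (⟨x * c, hz'⟩ : M) = ⟨x, hPM hx⟩ * ⟨c, hQM hc⟩ := rfl
      rw [h1, map_mul, hψ₂P x hx]
      have h2 : ψ₂ ⟨c, hQM hc⟩ = c * (c⁻¹ * ψ₂ ⟨c, hQM hc⟩) := by group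
      rw [h2]
      refine N.mul_mem (hRN ?_) (N.mul_mem (hQN hc) (hRN (hψ₂Q c hc)))
      rw [← hRd]; exact ⟨_, rfl⟩
    · rw [← hN]
      have hRr : R ≤ ψ₂.range := by
        rw [← hRd]
        rintro _ ⟨x, rfl⟩
        exact ⟨⟨x, hPM x.2⟩, hψ₂P x x.2⟩
      refine sup_le hRr fun c hc => ?_
      have h2 : c = ψ₂ ⟨c, hQM hc⟩ * (c⁻¹ * ψ₂ ⟨c, hQM hc⟩)⁻¹ := by group
      rw [h2]
      exact Subgroup.mul_mem _ ⟨_, rfl⟩ (Subgroup.inv_mem _ (hRr (hψ₂Q c hc)))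
  obtain ⟨e, he, hev⟩ := exists_iso hψ₂ hr
  obtain ⟨fP, hfP, hfPv, hfPm⟩ := exists_fR hPT hQC hψT hψTQ hψTT hφm hM
  obtain ⟨fR, hfR, hfRv, hfRm⟩ := exists_fR hRT hQC hψT hψTQ hψTT hφm hN
  have hNT : ∀ x ∈ N, x ∈ T → x ∈ R := by
    intro x hx hxT
    rw [← hN] at hx
    obtain ⟨a, ha, c, hc, rfl⟩ := sup_decQ hRT hQC hx
    refine R.mul_mem ha (centric_centralizer_le hRc ?_)
    have hcT : c ∈ T := by
      have h1 := T.mul_mem (T.inv_mem (hRT ha)) hxT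
      rwa [inv_mul_cancel_left] at h1
    rw [mem_centralizerIn']
    exact ⟨hcT, fun y hy => (mem_centralizerIn'.1 (hQC hc)).2 y (hRT hy)⟩
  have hfPfix : ∀ x : M, (x : Ω) ∈ T → fP x = x := fun x hx => Subtype.ext (by
    rw [hfPv x (hMQT x.2)]; exact hψTT x hx)
  have hfRfix : ∀ x : N, (x : Ω) ∈ T → fR x = x := fun x hx => Subtype.ext (by
    rw [hfRv x (hNQT x.2)]; exact hψTT x hx)
  have hgF : autTransport e fP ∈ F.autGroup N := (autTransport_mem he).2 hfP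
  have hgm : (autTransport e fP) ^ m = 1 := by rw [← map_pow, hfPm, map_one]
  obtain ⟨B, hB, hBp, hBn, hBm⟩ := two_layer hS (P := N) hNS hTc
  have hfRi : ∀ y : N, (y : Ω) ∈ T → fR⁻¹ y = y := fun y hy => by
    conv_lhs => rw [← hfRfix y hy]
    rw [MulAut.inv_apply_self]
  have heT : ∀ y : N, (y : Ω) ∈ T → ((e.symm y : M) : Ω) ∈ T := by
    intro y hy
    have h1 := (stronglyClosed_mem_iff hTc he (e.symm y)).1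
    apply h1
    show ((e (e.symm y) : N) : Ω) ∈ T
    rw [MulEquiv.apply_symm_apply]; exact hy
  have hβB : autTransport e fP * fR⁻¹ ∈ B := by
    rw [hBm]
    refine ⟨Subgroup.mul_mem _ hgF (Subgroup.inv_mem _ hfR), fun y hy => ?_, fun y => ?_⟩
    · rw [MulAut.mul_apply, hfRi y hy, autTransport_apply, hfPfix _ (heT y hy), MulEquiv.apply_symm_apply]
    · rw [MulAut.mul_apply, autTransport_apply]
      obtain ⟨w, hw⟩ : ∃ w, e.symm (fR⁻¹ y) = w := ⟨_, rfl⟩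
      rw [hw]
      have hew : fR⁻¹ y = e w := by rw [← hw, MulEquiv.apply_symm_apply]
      have hy : fR (e w) = y := by rw [← hew, MulAut.apply_inv_self]
      -- `ψT w` and `ψT (e w)`
      have h1 : ((fP w : M) : Ω) = ψT ⟨w, hMQT w.2⟩ := hfPv w _
      have h2 : (y : Ω) = ψT ⟨(e w : N), hNQT (e w).2⟩ := by rw [← hfRv (e w), hy]
      have h3 : (w : Ω)⁻¹ * ((e w : N) : Ω) ∈ T := by rw [hev]; exact hψ₂T w
      have h4 : (y : Ω)⁻¹ * ((fP w : M) : Ω) ∈ T := by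
        rw [h1, h2, ← map_inv, ← map_mul]
        have h5 : (⟨((e w : N) : Ω), hNQT (e w).2⟩ : ↥(Q ⊔ T))⁻¹ * ⟨w, hMQT w.2⟩ =
            ⟨((w : Ω)⁻¹ * ((e w : N) : Ω))⁻¹, Subgroup.mem_sup_right (T.inv_mem h3)⟩ := Subtype.ext (by
          show ((e w : N) : Ω)⁻¹ * (w : Ω) = ((w : Ω)⁻¹ * ((e w : N) : Ω))⁻¹
          group)
        rw [h5, hψTT _ (T.inv_mem h3)]
        exact T.inv_mem h3
      have h6 : ((fP w : M) : Ω)⁻¹ * ((e (fP w) : N) : Ω) ∈ T := by rw [hev]; exact hψ₂T (fP w)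
      have h7 := T.mul_mem h4 h6
      rwa [mul_assoc, mul_inv_cancel_left] at h7
  -- conjugacy
  haveI : Finite N := finite_of_le hNS
  haveI : Finite (MulAut N) := Finite.of_injective _ DFunLike.coe_injective
  have hBn' : (B.subgroupOf (F.autGroup N)).Normal := ⟨fun b hb a => hBn a a.2 b hb⟩
  have hcardB : ∃ k, Nat.card (B.subgroupOf (F.autGroup N)) = p ^ k :=
    IsPGroup.iff_card.1 (hBp.comap_of_injective (F.autGroup N).subtype (F.autGroup N).subtype_injective)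
  obtain ⟨k, hk⟩ := hcardB
  have hcopm : ∀ z : F.autGroup N, (z : MulAut N) ^ m = 1 → (Nat.card (B.subgroupOf (F.autGroup N))).Coprime (orderOf z) := by
    intro z hz
    rw [hk]
    apply Nat.Coprime.pow_left
    rw [Nat.Prime.coprime_iff_not_dvd hp.out]
    intro hd
    exact hm (hd.trans (orderOf_dvd_of_pow_eq_one (Subtype.ext hz)))
  obtain ⟨b, hb, hbx⟩ := coset_conj (G := B.subgroupOf (F.autGroup N)) (x := ⟨fR, hfR⟩) (t := ⟨autTransport e fP, hgF⟩)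
    (hcopm _ hfRm) (hcopm _ hgm) (show autTransport e fP * fR⁻¹ ∈ B from hβB)
  have hbx' : (b : MulAut N) * fR * (b : MulAut N)⁻¹ = autTransport e fP := congrArg Subtype.val hbx
  obtain ⟨c, hc⟩ : ∃ c : MulAut N, (b : MulAut N)⁻¹ = c := ⟨_, rfl⟩
  have hcB : c ∈ B := hc ▸ B.inv_mem hb
  have hcm := (hBm c).1 hcB
  have hce : ∀ w : M, fR (c (e w)) = c (e (fP w)) := by
    intro w
    have h1 : autTransport e fP (e w) = e (fP w) := by rw [autTransport_apply, MulEquiv.symm_apply_apply]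
    rw [← h1, ← hbx', ← hc]
    show fR ((b : MulAut N)⁻¹ (e w)) = (b : MulAut N)⁻¹ ((b : MulAut N) (fR ((b : MulAut N)⁻¹ (e w))))
    rw [MulAut.inv_apply_self]
  have hχ : e.trans c ∈ Iso F M N := iso_trans he ((mem_autGroup hNS).1 hcm.1)
  subst hM
  refine ⟨_, hχ, fun x hx => ?_, fun x hx hx' => ?_⟩
  · show ((c (e ⟨x, _⟩) : N) : Ω) = ψ ⟨x, hx⟩
    have h1 : ((e ⟨x, hPM hx⟩ : N) : Ω) = ψ ⟨x, hx⟩ := by rw [hev]; exact hψ₂P x hx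
    rw [hcm.2.1 _ (by rw [h1]; exact mem_S hψ _), h1]
  · show ((c (e ⟨x⁻¹ * φ ⟨x, hx⟩, hx'⟩) : N) : Ω) = _
    have h0 : (⟨x⁻¹ * φ ⟨x, hx⟩, hx'⟩ : ↥(P ⊔ Q)) = (⟨x, hQM hx⟩)⁻¹ * fP ⟨x, hQM hx⟩ := Subtype.ext (by
      show x⁻¹ * ((φ ⟨x, hx⟩ : Q) : Ω) = x⁻¹ * ((fP ⟨x, hQM hx⟩ : ↥(P ⊔ Q)) : Ω)
      rw [hfPv ⟨x, hQM hx⟩ (Subgroup.mem_sup_left hx), hψTQ x hx])
    obtain ⟨y, hy⟩ : ∃ y, c (e ⟨x, hQM hx⟩) = y := ⟨_, rfl⟩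
    rw [h0, map_mul, map_mul, map_inv, map_inv, ← hce, hy]
    -- `y = x t`
    have ht : x⁻¹ * (y : Ω) ∈ T := by
      have h1 : ((e ⟨x, hQM hx⟩ : N) : Ω)⁻¹ * (y : Ω) ∈ T := by rw [← hy]; exact hcm.2.2 _
      have h2 : x⁻¹ * ((e ⟨x, hQM hx⟩ : N) : Ω) ∈ T := by rw [hev]; exact hψ₂T ⟨x, hQM hx⟩
      have h3 := T.mul_mem h2 h1
      rwa [mul_assoc, mul_inv_cancel_left] at h3
    obtain ⟨t, htd⟩ : ∃ t, x⁻¹ * (y : Ω) = t := ⟨_, rfl⟩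
    rw [htd] at ht
    have hyx : (y : Ω) = x * t := by rw [← htd]; group
    have h4 : ((fR y : N) : Ω) = φ ⟨x, hx⟩ * t := by
      rw [hfRv y (hNQT y.2)]
      have h5 : (⟨(y : Ω), hNQT y.2⟩ : ↥(Q ⊔ T)) = ⟨x, Subgroup.mem_sup_left hx⟩ * ⟨t, Subgroup.mem_sup_right ht⟩ := Subtype.ext hyx
      rw [h5, map_mul, hψTQ x hx, hψTT t ht]
    show (y : Ω)⁻¹ * ((fR y : N) : Ω) = x⁻¹ * φ ⟨x, hx⟩
    rw [h4, hyx]
    have h6 := (mem_centralizerIn'.1 (hQC (Q.mul_mem (Q.inv_mem hx) (φ ⟨x, hx⟩).2))).2 t ht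
    have h7 : x⁻¹ * ((φ ⟨x, hx⟩ : Q) : Ω) * t = t * (x⁻¹ * ((φ ⟨x, hx⟩ : Q) : Ω)) := mul_inv_eq_iff_eq_mul.1 h6
    calc (x * t)⁻¹ * (((φ ⟨x, hx⟩ : Q) : Ω) * t) = t⁻¹ * (x⁻¹ * ((φ ⟨x, hx⟩ : Q) : Ω) * t) := by group
      _ = x⁻¹ * ((φ ⟨x, hx⟩ : Q) : Ω) := by rw [h7]; group

end CfsgLib.Fus21
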