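import Cfsg.Agent.LibFus21Fc2

set_option autoImplicit false

/-! The focal subgroup of the centralizer system of the support of a normal subsystem. -/

namespace CfsgLib.Fus21

open Cfsg Cfsg.FusionSystem
open scoped commutatorElement

universe u

variable {Ω : Type u} [Group Ω] {S T : Subgroup Ω}

theorem mem_of_good [Finite S] {p : ℕ} [hp : Fact p.Prime] (hS : IsPGroup p S) {F : FusionSystem S} {E : FusionSystem T}
    (hTS : T ≤ S) (hEs : E.IsSaturated p) {g : Ω} (hg : g ∈ centralizerIn S T)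
    (h : ∀ P, E.IsCentric P → ∀ ψ ∈ E.Hom P, ∃ (M : Subgroup Ω) (χ : M →* Ω) (hPM : P ≤ M) (hgM : g ∈ M), χ ∈ F.Hom M ∧
      (∀ x (hx : x ∈ P), χ ⟨x, hPM hx⟩ = ψ ⟨x, hx⟩) ∧ χ ⟨g, hgM⟩ = g) :
    g ∈ sSup {X : Subgroup Ω | X ≤ centralizerIn S T ∧ ∀ P : Subgroup Ω, E.Hom P ⊆ F.centralizerHom X P} := by
  have hTC : T ≤ centralizerIn S (Subgroup.zpowers g) := by
    intro x hx
    rw [mem_centralizerIn']
    refine ⟨hTS hx, fun y hy => ?_⟩
    obtain ⟨n, rfl⟩ := Subgroup.mem_zpowers_iff.1 hy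
    have h1 := (mem_centralizerIn'.1 hg).2 x hx
    have h2 : Commute x g := (mul_inv_eq_iff_eq_mul.1 h1).symm
    rw [mul_inv_eq_iff_eq_mul]; exact (h2.zpow_right n)
  have hle : Subgroup.zpowers g ≤ centralizerIn S T := Subgroup.zpowers_le.2 hg
  have hmem : Subgroup.zpowers g ∈ {X : Subgroup Ω | X ≤ centralizerIn S T ∧ ∀ P : Subgroup Ω, E.Hom P ⊆ F.centralizerHom X P} := by
    refine ⟨hle, good_of_centric hS hTS hEs (hle.trans (cent_le S T)) hTC fun P hP ψ hψ => ?_⟩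
    obtain ⟨M, χ, hPM, hgM, hχ, h1, h2⟩ := h P hP ψ hψ
    exact centHom_of hP.1 (fun x => mem_S hψ x) hχ hPM h1 hg hgM h2 hTS
  exact (le_sSup hmem) (Subgroup.mem_zpowers g)

theorem focal_cent_le [Finite S] {p : ℕ} [hp : Fact p.Prime] (hS : IsPGroup p S) {F : FusionSystem S} {E : FusionSystem T}
    (hE : E.IsNormalIn F p) {D : FusionSystem (centralizerIn S T)} (hD : F.IsCentralizerSystem T D) :
    D.focalSubgroup ≤ sSup {X : Subgroup Ω | X ≤ centralizerIn S T ∧ ∀ P : Subgroup Ω, E.Hom P ⊆ F.centralizerHom X P} := by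
  have hEs := hE.1.1
  have hF := hE.1.2.1
  have hinv := hE.1.2.2
  have hTc := hinv.2.1
  have hTS : T ≤ S := hTc.1
  have hCS : centralizerIn S T ≤ S := cent_le S T
  haveI : Finite (centralizerIn S T) := finite_of_le hCS
  have hfc : F.IsFullyCentralized T := receptive_fullyCentralized (receptive_strong hS hF hTc)
  have hDs : D.IsSaturated p := by
    rw [centSys_unique hTS hD]
    exact centSys_saturated hS hF hfc
  obtain ⟨C, hC⟩ : ∃ C, sSup {X : Subgroup Ω | X ≤ centralizerIn S T ∧ ∀ P : Subgroup Ω, E.Hom P ⊆ F.centralizerHom X P} = C := ⟨_, rfl⟩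
  have hmemC : ∀ g ∈ centralizerIn S T, (∀ P, E.IsCentric P → ∀ ψ ∈ E.Hom P, ∃ (M : Subgroup Ω) (χ : M →* Ω) (hPM : P ≤ M)
      (hgM : g ∈ M), χ ∈ F.Hom M ∧ (∀ x (hx : x ∈ P), χ ⟨x, hPM hx⟩ = ψ ⟨x, hx⟩) ∧ χ ⟨g, hgM⟩ = g) → g ∈ C := by
    intro g hg h
    rw [← hC]
    exact mem_of_good hS hTS hEs hg h
  rw [hC, CfsgLib.FT.focal_eq (hS.to_le hCS) hDs]
  refine sup_le ?_ ?_
  · rw [FusionSystem.hyperfocalSubgroup, Subgroup.closure_le]
    rintro _ ⟨Q, α, x, hQ, hα, rfl⟩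
    have key : ∀ x : Q, (x : Ω)⁻¹ * (((α : MulAut Q) x : Q) : Ω) ∈ C := by
      clear x
      refine Subgroup.closure_induction (p := fun (α : D.autGroup Q) _ => ∀ x : Q, (x : Ω)⁻¹ * (((α : MulAut Q) x : Q) : Ω) ∈ C)
        ?_ ?_ ?_ ?_ hα
      · intro α hα x
        have h1 : (Q.subtype.comp (α : MulAut Q).toMonoidHom) ∈ F.centralizerHom T Q := by
          rw [← hD]
          exact (mem_autGroup hQ).1 α.2
        obtain ⟨-, -, -, ψT, hψT, h2, h3⟩ := h1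
        have hxC : (x : Ω)⁻¹ * (((α : MulAut Q) x : Q) : Ω) ∈ Q := Q.mul_mem (Q.inv_mem x.2) ((α : MulAut Q) x).2
        refine hmemC _ (hQ hxC) fun P hP ψ hψ => ?_
        have hm : ¬ p ∣ orderOf α := by
          intro hd
          have h4 : Nat.Coprime (orderOf α) p := hα
          exact hp.out.one_lt.ne' (Nat.eq_one_of_dvd_coprimes h4 hd dvd_rfl)
        have hαm : (α : MulAut Q) ^ orderOf α = 1 := congrArg Subtype.val (pow_orderOf_eq_one α)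
        obtain ⟨χ, hχ, h5, h6⟩ := key_foc hS hE hP hψ hQ hψT (fun x hx => h2 ⟨x, hx⟩) (fun x hx => h3 ⟨x, hx⟩) hm hαm
        exact ⟨P ⊔ Q, χ, le_sup_left, Subgroup.mem_sup_right hxC, hχ, h5, h6 x x.2 _⟩
      · intro x
        show (x : Ω)⁻¹ * (x : Ω) ∈ C
        rw [inv_mul_cancel]; exact C.one_mem
      · intro α β _ _ h1 h2 x
        have h3 : (x : Ω)⁻¹ * ((((α * β : D.autGroup Q) : MulAut Q) x : Q) : Ω) =
            ((x : Ω)⁻¹ * (((β : MulAut Q) x : Q) : Ω)) * ((((β : MulAut Q) x : Q) : Ω)⁻¹ * (((α : MulAut Q) ((β : MulAut Q) x) : Q) : Ω)) := by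
          show (x : Ω)⁻¹ * (((α : MulAut Q) ((β : MulAut Q) x) : Q) : Ω) = _
          group
        rw [h3]
        exact C.mul_mem (h2 x) (h1 _)
      · intro α _ h1 x
        have h2 := h1 ((α : MulAut Q)⁻¹ x)
        rw [MulAut.apply_inv_self] at h2
        have h3 := C.inv_mem h2
        rw [mul_inv_rev, inv_inv] at h3
        exact h3
    exact key x
  · rw [Subgroup.commutator_le]
    intro c hc d hd
    have hcd : ⁅c, d⁆ ∈ centralizerIn S T := by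
      rw [commutatorElement_def]
      exact Subgroup.mul_mem _ (Subgroup.mul_mem _ (Subgroup.mul_mem _ hc hd) (Subgroup.inv_mem _ hc)) (Subgroup.inv_mem _ hd)
    refine hmemC _ hcd fun P hP ψ hψ => ?_
    have hrc : E.IsCentric ψ.range := centric_conj ⟨ψ, hψ, rfl⟩ hP
    obtain ⟨ψ₁, hψ₁, hψ₁P, hψ₁C⟩ := all_XX hS hE hψ hP
    refine ⟨P ⊔ centralizerIn S T, ψ₁, le_sup_left, Subgroup.mem_sup_right hcd, hψ₁, fun x hx => hψ₁P x hx _, ?_⟩
    have hcM : c ∈ P ⊔ centralizerIn S T := Subgroup.mem_sup_right hc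
    have hdM : d ∈ P ⊔ centralizerIn S T := Subgroup.mem_sup_right hd
    have h1 : (⟨⁅c, d⁆, Subgroup.mem_sup_right hcd⟩ : ↥(P ⊔ centralizerIn S T)) = ⟨c, hcM⟩ * ⟨d, hdM⟩ * ⟨c, hcM⟩⁻¹ * ⟨d, hdM⟩⁻¹ := rfl
    rw [h1, map_mul, map_mul, map_mul, map_inv, map_inv]
    obtain ⟨a, ha⟩ : ∃ a, c⁻¹ * ψ₁ ⟨c, hcM⟩ = a := ⟨_, rfl⟩
    obtain ⟨b, hb⟩ : ∃ b, d⁻¹ * ψ₁ ⟨d, hdM⟩ = b := ⟨_, rfl⟩
    have haT : a ∈ T := ha ▸ hψ₁C c hc hcM
    have hbT : b ∈ T := hb ▸ hψ₁C d hd hdM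
    have hbR : b ∈ ψ.range := by
      rw [← hb]
      exact xx_mem hP.1 hψ (centric_centralizer_le hrc) le_sup_left (fun x hx => hψ₁P x hx _) hd hdM (hψ₁C d hd hdM)
    have hca : ψ₁ ⟨c, hcM⟩ = c * a := by rw [← ha]; group
    have hdb : ψ₁ ⟨d, hdM⟩ = d * b := by rw [← hb]; group
    have hcb : c * b = b * c := mul_inv_eq_iff_eq_mul.1 ((mem_centralizerIn'.1 hc).2 b hbT)
    have hda : d * a = a * d := mul_inv_eq_iff_eq_mul.1 ((mem_centralizerIn'.1 hd).2 a haT)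
    have hab : a * b = b * a := by
      obtain ⟨s, hs⟩ := hbR
      have h2 : (⟨c, hcM⟩ : ↥(P ⊔ centralizerIn S T)) * ⟨s, Subgroup.mem_sup_left s.2⟩ = ⟨s, Subgroup.mem_sup_left s.2⟩ * ⟨c, hcM⟩ :=
        Subtype.ext (mul_inv_eq_iff_eq_mul.1 ((mem_centralizerIn'.1 hc).2 s (hP.1 s.2)))
      have h3 := congrArg ψ₁ h2
      rw [map_mul, map_mul, hψ₁P s s.2, Subtype.coe_eta, hs, hca] at h3
      -- `c a b = b c a`
      have h4 : c * (a * b) = c * (b * a) := by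
        rw [← mul_assoc, h3, ← mul_assoc, ← hcb]
        group
      exact mul_left_cancel h4
    rw [hca, hdb, commutatorElement_def]
    calc c * a * (d * b) * (c * a)⁻¹ * (d * b)⁻¹ = c * (a * d) * b * a⁻¹ * c⁻¹ * b⁻¹ * d⁻¹ := by group
      _ = c * d * (a * b) * a⁻¹ * c⁻¹ * b⁻¹ * d⁻¹ := by rw [← hda]; group
      _ = c * d * b * c⁻¹ * b⁻¹ * d⁻¹ := by rw [hab]; group
      _ = c * d * c⁻¹ * (c * b) * c⁻¹ * b⁻¹ * d⁻¹ := by group
      _ = c * d * c⁻¹ * d⁻¹ := by rw [hcb]; group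

end CfsgLib.Fus21
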