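import Cfsg.Agent.LibFus21ZJ
import Cfsg.Agent.LibFus21J6
import Cfsg.Agent.LibFus21Sp
import Cfsg.Agent.LibNpcRed9
import Cfsg.Agent.LibH2Npc

set_option autoImplicit false

/-! Reduction of nilpotency criteria (odd primes) to groups with a maximal Sylow subgroup. -/

namespace CfsgLib.Fus21

open Cfsg Cfsg.FusionSystem CfsgLib.H2ZJ

universe u v

section

variable {Ω : Type*} [Group Ω] {S : Subgroup Ω} {G : Type*} [Group G]

/-- the system induced on `S` by a subgroup `H` containing the image of `ι` -/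
def subReal (ι : S →* G) (hinj : Function.Injective ι) (H : Subgroup G) (hH : ι.range ≤ H) : FusionSystem S where
  Hom P := {φ | ∃ (hP : P ≤ S) (hφ : ∀ x : P, φ x ∈ S), ∃ g ∈ H, ∀ x : P, ι ⟨φ x, hφ x⟩ = g * ι ⟨x, hP x.2⟩ * g⁻¹}
  le_of_mem := by
    rintro P φ ⟨hP, hφ, -⟩
    exact ⟨hP, hφ⟩
  injective_of_mem := by
    rintro P φ ⟨hP, hφ, g, hg, h⟩ x y hxy
    have h1 : (⟨φ x, hφ x⟩ : S) = ⟨φ y, hφ y⟩ := Subtype.ext hxy
    have h2 := h x
    rw [h1, h y] at h2
    have h3 := hinj (mul_left_cancel (mul_right_cancel h2))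
    have h4 : (y : Ω) = x := Subtype.mk.inj h3
    exact Subtype.ext h4.symm
  conj_mem := by
    intro P g hP hg
    refine ⟨hP, fun x => S.mul_mem (S.mul_mem hg (hP x.2)) (S.inv_mem hg), ι ⟨g, hg⟩, hH ⟨_, rfl⟩, fun x => ?_⟩
    rw [← map_inv, ← map_mul, ← map_mul]
    rfl
  comp_mem := by
    rintro P Q φ ψ ⟨hP, hφ, g, hg, h⟩ ⟨hQ, hψ, g', hg', h'⟩ hPQ
    refine ⟨hP, fun x => hψ _, g' * g, H.mul_mem hg' hg, fun x => ?_⟩
    have h1 := h' ⟨φ x, hPQ x⟩
    refine h1.trans ?_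
    have h2 := h x
    rw [h2]
    group
  inv_mem := by
    rintro P φ ⟨hP, hφ, g, hg, h⟩
    have hinjφ : Function.Injective φ := by
      intro x y hxy
      have h1 : (⟨φ x, hφ x⟩ : S) = ⟨φ y, hφ y⟩ := Subtype.ext hxy
      have h2 := h x
      rw [h1, h y] at h2
      have h3 := hinj (mul_left_cancel (mul_right_cancel h2))
      have h4 : (y : Ω) = x := Subtype.mk.inj h3
      exact Subtype.ext h4.symm
    let e := MonoidHom.ofInjective hinjφ
    refine ⟨P.subtype.comp e.symm.toMonoidHom, ⟨?_, fun y => hP (e.symm y).2, g⁻¹, H.inv_mem hg, ?_⟩, ?_⟩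
    · rintro _ ⟨x, rfl⟩
      exact hφ x
    · rintro ⟨_, x, rfl⟩
      have h1 : e.symm ⟨φ x, ⟨x, rfl⟩⟩ = x := e.symm_apply_apply x
      have h2 : (⟨(P.subtype.comp e.symm.toMonoidHom) ⟨φ x, ⟨x, rfl⟩⟩, hP (e.symm ⟨φ x, ⟨x, rfl⟩⟩).2⟩ : S) =
          ⟨x, hP x.2⟩ := by
        apply Subtype.ext
        show ((e.symm ⟨φ x, ⟨x, rfl⟩⟩ : P) : Ω) = x
        rw [h1]
      rw [h2, h x]
      group
    · intro x
      exact congrArg Subtype.val (e.symm_apply_apply x)

theorem subReal_realized (ι : S →* G) (hinj : Function.Injective ι) (H : Subgroup G) (hH : ι.range ≤ H) :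
    (subReal ι hinj H hH).IsRealizedBy (ι.codRestrict H fun s => hH ⟨s, rfl⟩) := by
  refine ⟨fun a b hab => hinj (congrArg Subtype.val hab), fun P hP φ hφ => ?_⟩
  constructor
  · rintro ⟨_, _, g, hg, h⟩
    exact ⟨⟨g, hg⟩, fun x => Subtype.ext (h x)⟩
  · rintro ⟨g, hg⟩
    exact ⟨hP, hφ, g, g.2, fun x => congrArg Subtype.val (hg x)⟩

theorem subReal_saturated [Finite G] {p : ℕ} [Fact p.Prime] (ι : S →* G) (hinj : Function.Injective ι)
    {T : Sylow p G} (hT : (T : Subgroup G) = ι.range) (H : Subgroup G) (hH : ι.range ≤ H) :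
    (subReal ι hinj H hH).IsSaturated p := by
  refine real_saturated (T := T.subtype (hT.trans_le hH)) (subReal_realized ι hinj H hH) ?_
  rw [Sylow.coe_subtype, hT]
  ext x
  rw [Subgroup.mem_subgroupOf]
  constructor
  · rintro ⟨s, hs⟩
    exact ⟨s, Subtype.ext hs⟩
  · rintro ⟨s, rfl⟩
    exact ⟨s, rfl⟩

theorem subReal_sub {F : FusionSystem S} {ι : S →* G} (hr : F.IsRealizedBy ι) (H : Subgroup G) (hH : ι.range ≤ H) :
    (subReal ι hr.1 H hH).IsSubsystemOf F := by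
  rintro P φ ⟨hP, hφ, g, hg, h⟩
  exact (hr.2 P hP φ hφ).2 ⟨g, h⟩

end

section

variable {Ω : Type*} [Group Ω] {S : Subgroup Ω} {G : Type*} [Group G]

/-- in a model of a sparse system the Sylow subgroup is a maximal subgroup -/
theorem coatom_of_sparse {p : ℕ} [hp : Fact p.Prime] {F : FusionSystem S}
    (hne : ¬ ∀ P : Subgroup Ω, F.Hom P = (innerFusionSystem S).Hom P)
    (hsp : ∀ E : FusionSystem S, E.IsSaturated p → E.IsSubsystemOf F → (∀ P : Subgroup Ω, E.Hom P = F.Hom P) ∨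
      (∀ P : Subgroup Ω, E.Hom P = (innerFusionSystem S).Hom P)) {ι : S →* G} (hm : F.IsModel p G ι)
    {T : Sylow p G} (hT : (T : Subgroup G) = ι.range) : IsCoatom (T : Subgroup G) := by
  obtain ⟨hfG, hr, -, hC⟩ := id hm
  have hQT : pCore p G ≤ ι.range := by rw [← hT]; exact CfsgLib.Cores.pCore_le_sylow T
  set P := preS ι (pCore p G) with hP
  have hPS : P ≤ S := preS_le _ _
  have hPι : ∀ x (hx : x ∈ P), ι ⟨x, hPS hx⟩ ∈ pCore p G := fun x hx => (mem_preS.1 hx).2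
  -- elements inducing the same automorphism of `O_p(G)`
  have hcen : ∀ g h : G, (∀ x (hx : x ∈ P), g * ι ⟨x, hPS hx⟩ * g⁻¹ = h * ι ⟨x, hPS hx⟩ * h⁻¹) →
      h⁻¹ * g ∈ (T : Subgroup G) := by
    intro g h hgh
    rw [hT]
    apply hQT
    apply hC
    rw [Subgroup.mem_centralizer_iff]
    intro y hy
    obtain ⟨s, rfl⟩ := hQT hy
    have h1 := hgh s (mem_preS.2 ⟨s.2, hy⟩)
    have h2 : g * ι s * g⁻¹ = h * ι s * h⁻¹ := h1
    calc ι s * (h⁻¹ * g) = h⁻¹ * (h * ι s * h⁻¹) * g := by group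
      _ = h⁻¹ * (g * ι s * g⁻¹) * g := by rw [h2]
      _ = h⁻¹ * g * ι s := by group
  have hFP : ∀ g : G, ∃ φ ∈ F.Hom P, ∀ x (hx : x ∈ P), ∃ hφ : φ ⟨x, hx⟩ ∈ S, ι ⟨φ ⟨x, hx⟩, hφ⟩ = g * ι ⟨x, hPS hx⟩ * g⁻¹ := by
    intro g
    exact real_conj hr hPS g fun x hx => hQT ((inferInstance : (pCore p G).Normal).conj_mem _ (hPι x hx) g)
  constructor
  · intro htop
    apply hne
    intro Q
    refine Set.Subset.antisymm (fun φ hφ => ?_) (inner_le F Q)
    obtain ⟨g, hg⟩ := real_of_mem hr hφ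
    have hgT : g ∈ (T : Subgroup G) := by rw [htop]; trivial
    rw [hT] at hgT
    obtain ⟨s, rfl⟩ := hgT
    refine ⟨le_S hφ, s, s.2, fun x => ?_⟩
    have h1 := hg x x.2
    rw [← map_inv, ← map_mul, ← map_mul] at h1
    exact congrArg Subtype.val (hr.1 h1)
  · intro H hH
    have hHr : ι.range ≤ H := by rw [← hT]; exact hH.le
    rcases hsp _ (subReal_saturated ι hr.1 hT H hHr) (subReal_sub hr H hHr) with h | h
    · rw [eq_top_iff]
      intro g _
      obtain ⟨φ, hφ, hφg⟩ := hFP g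
      rw [← h P] at hφ
      obtain ⟨h1, h2, k, hk, h3⟩ := hφ
      have h4 := hcen g k fun x hx => by
        obtain ⟨h5, h6⟩ := hφg x hx
        rw [← h6]
        exact h3 ⟨x, hx⟩
      have h5 := H.mul_mem hk (hH.le h4)
      rwa [mul_inv_cancel_left] at h5
    · exfalso
      apply hH.not_ge
      intro g hg
      obtain ⟨φ, hφ, hφg⟩ := hFP g
      have h0 : φ ∈ (subReal ι hr.1 H hHr).Hom P :=
        ⟨hPS, fun x => (hφg x x.2).1, g, hg, fun x => (hφg x x.2).2⟩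
      rw [h P] at h0
      obtain ⟨-, s, hs, h3⟩ := h0
      have h4 := hcen g (ι ⟨s, hs⟩) fun x hx => by
        obtain ⟨h5, h6⟩ := hφg x hx
        rw [← h6, ← map_inv, ← map_mul, ← map_mul]
        congr 1
        exact Subtype.ext (h3 ⟨x, hx⟩)
      have h5 : ι ⟨s, hs⟩ ∈ (T : Subgroup G) := by rw [hT]; exact ⟨_, rfl⟩
      have h6 := (T : Subgroup G).mul_mem h5 h4
      rwa [mul_inv_cancel_left] at h6

end

section

theorem hnpc_of_pgroup {N : Type*} [Group N] {p : ℕ} (h : IsPGroup p N) : HasNormalPComplement p N := by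
  refine ⟨{ (⊤ : Subgroup N) with
    isPGroup' := h.to_subgroup ⊤
    is_maximal' := fun _ h => (top_le_iff.1 h) }, ⊥, inferInstance, ?_⟩
  exact Subgroup.isComplement'_bot_top

theorem hnpc_of_sylow_bot {N : Type*} [Group N] {p : ℕ} {T : Sylow p N} (h : (T : Subgroup N) = ⊥) :
    HasNormalPComplement p N := by
  refine ⟨T, ⊤, inferInstance, ?_⟩
  rw [h]
  exact Subgroup.isComplement'_top_bot

theorem hnpc_quot_of_coatom {G : Type u} [Group G] [Finite G] {p : ℕ} [hp : Fact p.Prime] (hp2 : p ≠ 2) (T : Sylow p G)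
    (hT : IsCoatom (T : Subgroup G)) : HasNormalPComplement p (G ⧸ pCore p G) := by
  have hQT : pCore p G ≤ (T : Subgroup G) := CfsgLib.Cores.pCore_le_sylow T
  have hsurj : Function.Surjective (QuotientGroup.mk' (pCore p G)) := QuotientGroup.mk'_surjective _
  obtain ⟨T', hT'⟩ : ∃ T' : Sylow p (G ⧸ pCore p G), T' = T.mapSurjective hsurj := ⟨_, rfl⟩
  have hT'c : (T' : Subgroup (G ⧸ pCore p G)) = (T : Subgroup G).map (QuotientGroup.mk' (pCore p G)) := by rw [hT']; rfl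
  have hco : IsCoatom (T' : Subgroup (G ⧸ pCore p G)) := by
    rw [hT'c]; exact CfsgLib.NpcRed9.coatom_map hT hQT
  by_cases hT0 : (T' : Subgroup (G ⧸ pCore p G)) = ⊥
  · exact hnpc_of_sylow_bot hT0
  refine CfsgLib.H2Npc.npc_of_ZJA hp2 T' ?_
  have hne := CfsgLib.H2Loc.centerThompsonAOf_ne_bot T'.isPGroup' hT0
  have hTN : (T' : Subgroup (G ⧸ pCore p G)) ≤
      Subgroup.normalizer (centerThompsonAOf (T' : Subgroup (G ⧸ pCore p G)) : Set (G ⧸ pCore p G)) := by
    rw [centerThompsonAOf_eq]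
    exact Subgroup.le_normalizer.trans (normalizer_le_IQ (fun g A => comm_aut _ A) _)
  rcases hTN.lt_or_eq with h | h
  · exfalso
    have h1 := hco.2 _ h
    have h2 : (centerThompsonAOf (T' : Subgroup (G ⧸ pCore p G))).Normal := Subgroup.normalizer_eq_top_iff.1 h1
    apply hne
    have h3 : centerThompsonAOf (T' : Subgroup (G ⧸ pCore p G)) ≤ pCore p (G ⧸ pCore p G) := by
      apply CfsgLib.Cores.le_pCore h2
      exact T'.isPGroup'.to_le (ZJ_le _)
    rw [CfsgLib.Cores.pCore_quotient_pCore] at h3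
    exact le_bot_iff.1 h3
  · rw [← h]
    exact hnpc_of_pgroup T'.isPGroup'

theorem pstable_of_coatom {G : Type u} [Group G] [Finite G] {p : ℕ} [hp : Fact p.Prime] (hp2 : p ≠ 2) (T : Sylow p G)
    (hT : IsCoatom (T : Subgroup G)) (V : Subgroup G) [V.Normal] (hV : IsPGroup p V) : IsPStableOn p V := by
  have hNQ := CfsgLib.H2PSt2.noQuad_all_of_sylAb hp2 (CfsgLib.H2Npc.sylAb_of_ablen hp2
    (CfsgLib.NpcRed9.ablen_of_coatom T hT (hnpc_quot_of_coatom hp2 T hT)))
  exact CfsgLib.H2PSt2.isPStableOn_of_noQuad hNQ V hV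

end

section

variable {Ω : Type*} [Group Ω] {S : Subgroup Ω}

theorem mem_normSys_of_isNormal {F : FusionSystem S} {W : Subgroup Ω} (hW : F.IsNormal W) {P : Subgroup Ω}
    {φ : P →* Ω} (hφ : φ ∈ F.Hom P) : φ ∈ (normSys F W hW.1).Hom P := by
  obtain ⟨ψ, hψ, h1, κ, h2⟩ := normal_aut hW hφ
  have hPn : P ≤ normalizerIn S W := (le_S hφ).trans (le_inf le_rfl (S_le_normalizer hW))
  exact mem_normSys_of hPn hψ le_sup_left le_sup_right h1 κ h2

theorem normSys_mono {E F : FusionSystem S} (h : E.IsSubsystemOf F) {W : Subgroup Ω} {hW : W ≤ S} {P : Subgroup Ω}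
    {φ : P →* Ω} (hφ : φ ∈ (normSys E W hW).Hom P) : φ ∈ (normSys F W hW).Hom P := by
  obtain ⟨ψ, hψ, h1, κ, h2⟩ := normSys_ext hφ
  exact mem_normSys_of (le_S hφ) (h _ hψ) le_sup_left le_sup_right h1 κ h2

end

variable {Ω : Type u} [Group Ω] {S : Subgroup Ω}

/-- the general reduction -/
theorem gtx_key [Finite S] {p : ℕ} [hp : Fact p.Prime] (hp2 : p ≠ 2) (hS : IsPGroup p S) {W : Subgroup Ω} (hWS : W ≤ S)
    (Hyp : FusionSystem S → Prop) (hmono : ∀ E F : FusionSystem S, E.IsSubsystemOf F → Hyp F → Hyp E)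
    (hloc : ∀ F : FusionSystem S, F.IsSaturated p → Hyp F → ∀ (G : Type u) [Group G] (ι : S →* G), F.IsModel p G ι →
      (∀ (V : Subgroup G) [V.Normal], IsPGroup p V → IsPStableOn p V) → F.IsNormal W) :
    ∀ (n : ℕ) (F : FusionSystem S), mm F = n → F.IsSaturated p → Hyp F →
      (∀ P, (normSys F W hWS).Hom P ⊆ (innerFusionSystem S).Hom P) → ∀ P, F.Hom P ⊆ (innerFusionSystem S).Hom P := by
  intro n
  induction n using Nat.strong_induction_on with
  | _ n ih =>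
  intro F hn hF hH hN
  by_contra hne
  have hne' : ¬ ∀ P : Subgroup Ω, F.Hom P = (innerFusionSystem S).Hom P := fun h => hne fun P => (h P).subset
  have hsp : ∀ E : FusionSystem S, E.IsSaturated p → E.IsSubsystemOf F → (∀ P : Subgroup Ω, E.Hom P = F.Hom P) ∨
      (∀ P : Subgroup Ω, E.Hom P = (innerFusionSystem S).Hom P) := by
    intro E hE hEF
    by_cases h : ∀ P, F.Hom P ⊆ E.Hom P
    · exact Or.inl fun P => Set.Subset.antisymm (hEF P) (h P)
    · right
      have hlt := mm_lt hEF h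
      have h1 := ih _ (hn ▸ hlt) E rfl hE (hmono E F hEF hH) (fun P φ hφ => hN P ?_)
      · exact fun P => Set.Subset.antisymm (h1 P) (inner_le E P)
      · exact normSys_mono hEF hφ
  have hc := sparse_constrained hS hF hne' hsp (Or.inl hp2)
  obtain ⟨G, _, ι, hm⟩ := model_exists hS hc
  obtain ⟨hfG, hr, ⟨T, hT⟩, hC⟩ := id hm
  have hco := coatom_of_sparse hne' hsp hm hT
  have hWn := hloc F hF hH G ι hm fun V _ hV => pstable_of_coatom hp2 T hco V hV
  apply hne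
  intro P φ hφ
  exact hN P (mem_normSys_of_isNormal hWn hφ)

end CfsgLib.Fus21
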