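import Cfsg.Agent.LibFus21GT1

set_option autoImplicit false

/-! The axiomatic `ZJ`-theorem for a family of abelian subgroups. -/

namespace CfsgLib.F21GT2

open Subgroup Cfsg MulAction CfsgLib.Cores CfsgLib.Coprime CfsgLib.H2Misc CfsgLib.H2Solv CfsgLib.H2Subn CfsgLib.H2Quad CfsgLib.H2Gen CfsgLib.H2Gen2 CfsgLib.H2Thomp CfsgLib.H2Lift CfsgLib.H2PG CfsgLib.H2Repl CfsgLib.H2Glaub CfsgLib.H2ZJ
open scoped Pointwise commutatorElement

universe u

variable {G : Type u} [Group G]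

/-- the intersection of the members of the family inside `Q` -/
def II (𝒜 : Set (Subgroup G)) (Q : Subgroup G) : Subgroup G := sInf {A | A ∈ 𝒜 ∧ A ≤ Q}

theorem II_le {𝒜 : Set (Subgroup G)} {Q A : Subgroup G} (hA : A ∈ 𝒜) (hAQ : A ≤ Q) : II 𝒜 Q ≤ A := sInf_le ⟨hA, hAQ⟩

theorem II_anti {𝒜 : Set (Subgroup G)} {Q R : Subgroup G} (h : Q ≤ R) : II 𝒜 R ≤ II 𝒜 Q :=
  le_sInf fun _ hA => II_le hA.1 (hA.2.trans h)

/-- The inductive core of the axiomatic ZJ-theorem. -/
theorem inter_normal' [Finite G] {p : ℕ} [hp : Fact p.Prime] {𝒜 : Set (Subgroup G)} (S : Sylow p G)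
    (hst : ∀ (P : Subgroup G) [P.Normal], IsPGroup p P → IsPStableOn p P)
    (h𝒜 : ∀ A ∈ 𝒜, A ≤ (S : Subgroup G) ∧ IsMulCommutative A) (hne : 𝒜.Nonempty)
    (hinv : ∀ T : Subgroup G, T ≤ S → (∃ A ∈ 𝒜, A ≤ T) → normalizer (T : Set G) ≤ normalizer (II 𝒜 T : Set G))
    (hrep : ∀ B : Subgroup G, B.Normal → B ≤ S → B = normalClosure ((II 𝒜 (S : Subgroup G) ⊓ B : Subgroup G) : Set G) →
      ⁅⁅B, B⁆, B⁆ = ⊥ → (∃ U ∈ 𝒜, ⁅B, B⁆ ≤ U ∧ ¬ B ≤ U) →
      ∃ A ∈ 𝒜, ⁅B, B⁆ ≤ A ∧ ¬ B ≤ A ∧ B ≤ normalizer (A : Set G)) :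
    ∀ (n : ℕ) (B : Subgroup G), Nat.card B ≤ n → B.Normal → IsPGroup p B →
      (II 𝒜 (S : Subgroup G) ⊓ B).Normal := by
  set Z := II 𝒜 (S : Subgroup G) with hZ
  obtain ⟨A₀, hA₀⟩ := id hne
  have hZA : ∀ A ∈ 𝒜, Z ≤ A := fun A hA => II_le hA (h𝒜 A hA).1
  have hZc : ∀ x ∈ Z, ∀ y ∈ Z, x * y = y * x := fun x hx y hy =>
    comm_of_mulComm (h𝒜 A₀ hA₀).2 x (hZA A₀ hA₀ hx) y (hZA A₀ hA₀ hy)
  have hSZ : (S : Subgroup G) ≤ normalizer (Z : Set G) := le_normalizer.trans (hinv _ le_rfl ⟨A₀, hA₀, (h𝒜 A₀ hA₀).1⟩)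
  intro n
  induction n with
  | zero =>
    intro B h
    exact absurd h (by simpa using Nat.card_pos.ne')
  | succ n ih =>
    intro B hBn hB hBp
    haveI := hB
    have hBS : B ≤ S := normal_le_sylow hB hBp S
    by_cases hB0 : B = ⊥
    · rw [hB0, inf_bot_eq]; infer_instance
    set B₁ := normalClosure ((Z ⊓ B : Subgroup G) : Set G) with hB1
    have hB1B : B₁ ≤ B := normalClosure_le_normal inf_le_right
    have hZB1 : Z ⊓ B ≤ B₁ := subset_normalClosure
    by_cases hlt : B₁ = B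
    swap
    · have h1 : Nat.card B₁ ≤ n := by
        have := card_lt_of_lt (lt_of_le_of_ne hB1B hlt)
        omega
      have h2 := ih B₁ h1 inferInstance (hBp.to_le hB1B)
      have h3 : Z ⊓ B = Z ⊓ B₁ := le_antisymm (le_inf inf_le_left hZB1) (inf_le_inf_left _ hB1B)
      rw [h3]; exact h2
    set D := ⁅B, B⁆ with hD
    haveI hDn : D.Normal := inferInstance
    have hDB : D ≤ B := commutator_le_self B
    have hDlt : D < B := by
      refine lt_of_le_of_ne hDB ?_
      intro h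
      apply hB0
      apply eq_bot_of_le_commutator (p := p) (V := B) (W := B) (A := B) hBp
      · intro a ha
        obtain ⟨k, hk⟩ := hBp ⟨a, ha⟩
        have : a ^ p ^ k = 1 := congrArg Subtype.val hk
        exact ⟨k, by rw [this]; exact one_mem _⟩
      · exact le_normalizer
      · exact le_rfl
      · exact h.ge
    haveI hZD : (Z ⊓ D).Normal := ih D (by have := card_lt_of_lt hDlt; omega) inferInstance (hBp.to_le hDB)
    have hcomm : ⁅B, Z ⊓ B⁆ ≤ Z ⊓ D := by
      apply le_inf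
      · rw [commutator_comm]
        exact (commutator_mono inf_le_left hBS).trans (le_normalizer_iff_commutator_le_left.mp hSZ)
      · exact commutator_mono le_rfl inf_le_right
    have hDZ : D ≤ Z := by
      have h1 : D ≤ Z ⊓ D := by
        have h2 : B ≤ stabOn B (Z ⊓ D) := by
          nth_rewrite 1 [← hlt]
          apply normalClosure_le_of
          intro g
          rintro _ ⟨x, hx, rfl⟩
          have hx' : x ∈ stabOn B (Z ⊓ D) := by
            refine ⟨?_, ?_, fun v hv => hcomm (commutator_mem_commutator hv hx)⟩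
            · rw [normalizer_eq_top]; trivial
            · rw [normalizer_eq_top]; trivial
          exact stabOn_normalized (by rw [normalizer_eq_top]; trivial) (by rw [normalizer_eq_top]; trivial) hx'
        exact (le_stabOn_iff.mp h2).2.2
      exact h1.trans inf_le_left
    have hDc : ⁅D, B⁆ = ⊥ := by
      rw [commutator_comm, commutator_eq_bot_iff_le_centralizer, ← hlt]
      apply normalClosure_le_normal
      intro x hx
      rw [SetLike.mem_coe, mem_centralizer_iff]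
      intro y hy
      exact hZc y (hDZ hy) x hx.1
    by_cases hall : ∀ A ∈ 𝒜, B ≤ A
    · have : B ≤ Z := le_sInf fun A hA => hall A hA.1
      rw [inf_eq_right.mpr this]
      exact hB
    exfalso
    push Not at hall
    obtain ⟨U, hU, hBU⟩ := hall
    obtain ⟨A, hA, hDA, hBA, hBNA⟩ := hrep B hB hBS hlt.symm hDc ⟨U, hU, hDZ.trans (hZA U hU), hBU⟩
    have hAc : IsMulCommutative A := (h𝒜 A hA).2
    have hquad : ⁅⁅B, A⁆, A⁆ = ⊥ := by
      rw [commutator_eq_bot_iff_le_centralizer]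
      have h1 : ⁅B, A⁆ ≤ A := by
        rw [commutator_comm]; exact le_normalizer_iff_commutator_le_left.mp hBNA
      exact h1.trans (isMulCommutative_iff_le_centralizer.mp hAc)
    set C := centralizer (B : Set G) with hC
    haveI : C.Normal := inferInstance
    set L := (pCore p (G ⧸ C)).comap (QuotientGroup.mk' C) with hL
    haveI : L.Normal := (inferInstance : (pCore p (G ⧸ C)).Normal).comap _
    have hCL : C ≤ L := by
      intro x hx
      rw [hL, mem_comap, QuotientGroup.mk'_apply, (QuotientGroup.eq_one_iff x).mpr hx]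
      exact one_mem _
    have hAL : A ≤ L := by
      intro a ha
      have hza : zpowers a ≤ A := zpowers_le.mpr ha
      have h1 := hst B hBp a (by
        rw [eq_bot_iff, ← hquad]
        exact commutator_mono (commutator_mono le_rfl hza) hza)
      exact h1
    set T := (S : Subgroup G) ⊓ L with hT
    have hLT : L = C ⊔ T := eq_sup_sylow_inf S hCL (relIndex_comap_pCore C)
    obtain ⟨R, hR⟩ := exists_sylow_inf_normal S L
    have h1 := Sylow.normalizer_sup_eq_top (N := L) R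
    have h2 : (R : Subgroup L).map L.subtype = T := by rw [hR, subgroupOf_map_subtype]
    rw [h2] at h1
    have h3 : C ⊔ normalizer (T : Set G) = ⊤ := by
      rw [eq_top_iff, ← h1, hLT]
      exact sup_le le_sup_right (sup_le le_sup_left (le_normalizer.trans le_sup_right))
    have hAT : A ≤ T := le_inf (h𝒜 A hA).1 hAL
    have hZ1 : Z ≤ II 𝒜 T := II_anti inf_le_left
    have hBZ1 : B ≤ II 𝒜 T := by
      nth_rewrite 1 [← hlt]
      apply normalClosure_le_of
      intro g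
      have hg : g ∈ C ⊔ normalizer (T : Set G) := by rw [h3]; trivial
      rw [sup_comm, ← SetLike.mem_coe, Subgroup.mul_normal] at hg
      obtain ⟨m, hm, c, hc, rfl⟩ := hg
      rintro _ ⟨x, hx, rfl⟩
      change (m * c) * x * (m * c)⁻¹ ∈ II 𝒜 T
      have h4 : x * c = c * x := mem_centralizer_iff.mp hc x hx.2
      have h5 : (m * c) * x * (m * c)⁻¹ = m * x * m⁻¹ := by
        calc (m * c) * x * (m * c)⁻¹ = m * (c * x) * c⁻¹ * m⁻¹ := by group
          _ = m * (x * c) * c⁻¹ * m⁻¹ := by rw [h4]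
          _ = m * x * m⁻¹ := by group
      rw [h5]
      exact (mem_normalizer_iff.mp (hinv T inf_le_left ⟨A, hA, hAT⟩ hm) x).mp (hZ1 hx.1)
    exact hBA (hBZ1.trans (II_le hA hAT))

/-- Axiomatic ZJ-theorem. -/
theorem II_normal [Finite G] {p : ℕ} [hp : Fact p.Prime] {𝒜 : Set (Subgroup G)} (S : Sylow p G)
    (hc : centralizer (pCore p G : Set G) ≤ pCore p G)
    (hst : ∀ (P : Subgroup G) [P.Normal], IsPGroup p P → IsPStableOn p P)
    (h𝒜 : ∀ A ∈ 𝒜, A ≤ (S : Subgroup G) ∧ IsMulCommutative A) (hne : 𝒜.Nonempty)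
    (hinv : ∀ T : Subgroup G, T ≤ S → (∃ A ∈ 𝒜, A ≤ T) → normalizer (T : Set G) ≤ normalizer (II 𝒜 T : Set G))
    (hrep : ∀ B : Subgroup G, B.Normal → B ≤ S → B = normalClosure ((II 𝒜 (S : Subgroup G) ⊓ B : Subgroup G) : Set G) →
      ⁅⁅B, B⁆, B⁆ = ⊥ → (∃ U ∈ 𝒜, ⁅B, B⁆ ≤ U ∧ ¬ B ≤ U) →
      ∃ A ∈ 𝒜, ⁅B, B⁆ ≤ A ∧ ¬ B ≤ A ∧ B ≤ normalizer (A : Set G)) :
    (II 𝒜 (S : Subgroup G)).Normal := by
  have h1 := inter_normal' S hst h𝒜 hne hinv hrep _ (pCore p G) le_rfl inferInstance (pCore_isPGroup p)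
  set Z := II 𝒜 (S : Subgroup G) with hZ
  obtain ⟨A₀, hA₀⟩ := id hne
  have hZA : ∀ A ∈ 𝒜, Z ≤ A := fun A hA => II_le hA (h𝒜 A hA).1
  have hZc : ∀ x ∈ Z, ∀ y ∈ Z, x * y = y * x := fun x hx y hy =>
    comm_of_mulComm (h𝒜 A₀ hA₀).2 x (hZA A₀ hA₀ hx) y (hZA A₀ hA₀ hy)
  have hSZ : (S : Subgroup G) ≤ normalizer (Z : Set G) := le_normalizer.trans (hinv _ le_rfl ⟨A₀, hA₀, (h𝒜 A₀ hA₀).1⟩)
  have hZO : Z ≤ pCore p G := by
    intro z hz
    have hzZ : zpowers z ≤ Z := zpowers_le.mpr hz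
    have h2 : ⁅⁅pCore p G, zpowers z⁆, zpowers z⁆ = ⊥ := by
      rw [commutator_eq_bot_iff_le_centralizer]
      have h3 : ⁅pCore p G, zpowers z⁆ ≤ Z := by
        rw [commutator_comm]
        exact (commutator_mono hzZ (pCore_le_sylow S)).trans (le_normalizer_iff_commutator_le_left.mp hSZ)
      exact h3.trans ((le_centralizer_of_comm hZc).trans (centralizer_le hzZ))
    have h4 := hst (pCore p G) (pCore_isPGroup p) z h2
    have h5 : (pCore p (G ⧸ centralizer (pCore p G : Set G))).comap (QuotientGroup.mk' _) ≤ pCore p G := by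
      apply le_pCore ((inferInstance : (pCore p (G ⧸ centralizer (pCore p G : Set G))).Normal).comap _)
      exact comap_mk_isPGroup _ ((pCore_isPGroup p).to_le hc) _ (pCore_isPGroup p)
    exact h5 h4
  rwa [inf_eq_left.mpr hZO] at h1

end CfsgLib.F21GT2
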