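import Cfsg.Agent.LibFus21GT2

set_option autoImplicit false

/-! Nilpotency criteria (odd primes) for fusion systems: the axiomatic version and the relative one. -/

namespace CfsgLib.Fus21

open Cfsg Cfsg.FusionSystem CfsgLib.H2ZJ CfsgLib.F21GT2 CfsgLib.H2Thomp
open scoped commutatorElement

universe u

section

variable {Ω : Type*} [Group Ω] {S : Subgroup Ω} {G : Type*} [Group G] {ι : S →* G}

theorem img_le_iff (hinj : Function.Injective ι) {X Y : Subgroup Ω} (hX : X ≤ S) (hY : Y ≤ S) :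
    img ι X ≤ img ι Y ↔ X ≤ Y := by
  constructor
  · intro h x hx
    have h1 := h (mem_img_of (ι := ι) hX hx)
    exact (mem_img_iff (ι := ι) hinj (hX hx)).1 h1
  · rintro h _ ⟨x, hx, rfl⟩
    exact ⟨x, Subgroup.mem_subgroupOf.2 (h (Subgroup.mem_subgroupOf.1 hx)), rfl⟩

theorem img_le_range (Y : Subgroup Ω) : img ι Y ≤ ι.range := by
  rintro _ ⟨x, hx, rfl⟩
  exact ⟨x, rfl⟩

theorem img_commutator {X Y : Subgroup Ω} (hX : X ≤ S) (hY : Y ≤ S) :
    img ι ⁅X, Y⁆ = ⁅img ι X, img ι Y⁆ := by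
  show (⁅X, Y⁆.subgroupOf S).map ι = ⁅(X.subgroupOf S).map ι, (Y.subgroupOf S).map ι⁆
  rw [← Subgroup.map_commutator]
  congr 1
  have h1 : (⁅X.subgroupOf S, Y.subgroupOf S⁆ : Subgroup S).map S.subtype = ⁅X, Y⁆ := by
    rw [Subgroup.map_commutator, Subgroup.map_subgroupOf_eq_of_le hX, Subgroup.map_subgroupOf_eq_of_le hY]
  rw [← h1, Subgroup.subgroupOf, Subgroup.comap_map_eq_self_of_injective S.subtype_injective]

theorem img_bot' : img ι (⊥ : Subgroup Ω) = ⊥ := by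
  rw [eq_bot_iff]
  rintro _ ⟨x, hx, rfl⟩
  have h1 : (x : Ω) = 1 := Subgroup.mem_bot.1 (Subgroup.mem_subgroupOf.1 hx)
  have h2 : x = 1 := Subtype.ext h1
  rw [h2, map_one]
  exact Subgroup.one_mem _

theorem eq_bot_of_img (hinj : Function.Injective ι) {X : Subgroup Ω} (hX : X ≤ S) (h : img ι X = ⊥) : X = ⊥ := by
  rw [eq_bot_iff, ← img_le_iff (ι := ι) hinj hX bot_le, h]
  exact bot_le

theorem img_normalizer {X A : Subgroup Ω} (hX : X ≤ S) (hA : A ≤ S) (h : X ≤ Subgroup.normalizer (A : Set Ω)) :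
    img ι X ≤ Subgroup.normalizer (img ι A : Set G) := by
  have hconj : ∀ s : S, (s : Ω) ∈ Subgroup.normalizer (A : Set Ω) → ∀ y ∈ img ι A, ι s * y * (ι s)⁻¹ ∈ img ι A := by
    rintro s hs _ ⟨w, hw, rfl⟩
    rw [← map_inv, ← map_mul, ← map_mul]
    refine ⟨s * w * s⁻¹, Subgroup.mem_subgroupOf.2 ?_, rfl⟩
    exact ((Subgroup.mem_normalizer_iff.1 hs) w).1 (Subgroup.mem_subgroupOf.1 hw)
  rintro _ ⟨s, hs, rfl⟩
  have hs' := h (Subgroup.mem_subgroupOf.1 hs)
  rw [Subgroup.mem_normalizer_iff]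
  intro y
  constructor
  · exact hconj s hs' y
  · intro hy
    have h1 := hconj s⁻¹ (Subgroup.inv_mem _ hs') _ hy
    rw [map_inv] at h1
    have h2 : (ι s)⁻¹ * (ι s * y * (ι s)⁻¹) * (ι s)⁻¹⁻¹ = y := by group
    rwa [h2] at h1

theorem of_img_normalizer (hinj : Function.Injective ι) {X A : Subgroup Ω} (hX : X ≤ S) (hA : A ≤ S)
    (h : img ι X ≤ Subgroup.normalizer (img ι A : Set G)) : X ≤ Subgroup.normalizer (A : Set Ω) := by
  intro x hx
  have hx' := h (mem_img_of (ι := ι) hX hx)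
  rw [Subgroup.mem_normalizer_iff] at hx' ⊢
  intro y
  constructor
  · intro hy
    have h1 := (hx' _).1 (mem_img_of (ι := ι) hA hy)
    rw [← map_inv, ← map_mul, ← map_mul] at h1
    exact (mem_img_iff (ι := ι) hinj (S.mul_mem (S.mul_mem (hX hx) (hA hy)) (S.inv_mem (hX hx)))).1 h1
  · intro hy
    have hyS : y ∈ S := by
      have h3 := S.mul_mem (S.mul_mem (S.inv_mem (hX hx)) (hA hy)) (hX hx)
      have h4 : x⁻¹ * (x * y * x⁻¹) * x = y := by group
      rwa [h4] at h3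
    rw [← mem_img_iff (ι := ι) hinj hyS]
    apply (hx' _).2
    rw [← map_inv, ← map_mul, ← map_mul]
    exact mem_img_of (ι := ι) hA hy

theorem normSys_inner_of_inner' [Finite S] {F : FusionSystem S} (h : ∀ P : Subgroup Ω, F.Hom P = (innerFusionSystem S).Hom P)
    {W : Subgroup Ω} (hW : W ≤ S) (P : Subgroup Ω) :
    (normSys F W hW).Hom P = (innerFusionSystem (normalizerIn S W)).Hom P := by
  apply Set.Subset.antisymm
  · intro φ hφ
    obtain ⟨ψ, hψ, h1, κ, h2⟩ := normSys_ext hφ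
    rw [h] at hψ
    obtain ⟨hP, g, hg, hgx⟩ := hψ
    have hgW : ∀ w (hw : w ∈ W), g * w * g⁻¹ = κ ⟨w, hw⟩ := fun w hw => by
      rw [← h2 w hw, hgx]
    refine ⟨le_S hφ, g, mem_normalizerIn.2 ⟨hg, ?_⟩, fun x => ?_⟩
    · intro y
      constructor
      · intro hy
        rw [hgW y hy]; exact (κ _).2
      · intro hy
        obtain ⟨w, hw⟩ := κ.surjective ⟨_, hy⟩
        have h3 : g * w * g⁻¹ = g * y * g⁻¹ := by
          rw [hgW w w.2, show (⟨(w : Ω), w.2⟩ : W) = w from rfl, hw]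
        have h4 := mul_left_cancel (mul_right_cancel h3)
        rw [← h4]; exact w.2
    · rw [← hgx ⟨x, _⟩]
      exact (h1 x x.2).symm
  · exact inner_le _ P

end

section

variable {Ω : Type u} [Group Ω] {S : Subgroup Ω}

/-- the family transported to a model -/
def imgFam {G : Type*} [Group G] (ι : S →* G) (𝒜 : Set (Subgroup Ω)) : Set (Subgroup G) := {B | ∃ A ∈ 𝒜, B = img ι A}

theorem II_img {G : Type*} [Group G] {ι : S →* G} (hinj : Function.Injective ι) {𝒜 : Set (Subgroup Ω)}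
    (h𝒜 : ∀ A ∈ 𝒜, A ≤ S) {Q : Subgroup Ω} (hQ : Q ≤ S) (hex : ∃ A ∈ 𝒜, A ≤ Q) :
    II (imgFam ι 𝒜) (img ι Q) = img ι (II 𝒜 Q) := by
  obtain ⟨A₀, hA₀, hA₀Q⟩ := hex
  have hIS : II 𝒜 Q ≤ S := (II_le hA₀ hA₀Q).trans (h𝒜 A₀ hA₀)
  apply le_antisymm
  · intro y hy
    have h1 : y ∈ img ι A₀ := by
      have := Subgroup.mem_sInf.1 hy (img ι A₀) ⟨⟨A₀, hA₀, rfl⟩, (img_le_iff hinj (h𝒜 A₀ hA₀) hQ).2 hA₀Q⟩
      exact this
    obtain ⟨s, hs, rfl⟩ := h1
    refine ⟨s, Subgroup.mem_subgroupOf.2 (Subgroup.mem_sInf.2 ?_), rfl⟩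
    rintro A ⟨hA, hAQ⟩
    have h2 := Subgroup.mem_sInf.1 hy (img ι A) ⟨⟨A, hA, rfl⟩, (img_le_iff hinj (h𝒜 A hA) hQ).2 hAQ⟩
    exact (mem_img_iff (ι := ι) hinj s.2).1 h2
  · apply le_sInf
    rintro _ ⟨⟨A, hA, rfl⟩, hAQ⟩
    rw [img_le_iff hinj (h𝒜 A hA) hQ] at hAQ
    exact (img_le_iff hinj hIS (h𝒜 A hA)).2 (II_le hA hAQ)

/-- the axiomatic Glauberman--Thompson criterion -/
theorem gt_axiomatic [Finite S] {p : ℕ} [hp : Fact p.Prime] (hp2 : p ≠ 2) (hS : IsPGroup p S) {F : FusionSystem S}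
    (hF : F.IsSaturated p) {𝒜 : Set (Subgroup Ω)} (h𝒜 : ∀ A ∈ 𝒜, A ≤ S ∧ IsMulCommutative ↥A) (hne : 𝒜.Nonempty)
    (hinv : ∀ Q : Subgroup Ω, Q ≤ S → (∃ A ∈ 𝒜, A ≤ Q) → ∀ α ∈ F.autGroup Q, ∀ x : ↥Q, (x : Ω) ∈ II 𝒜 Q →
      (((α : MulAut ↥Q) x : ↥Q) : Ω) ∈ II 𝒜 Q)
    (hrep : ∀ B : Subgroup Ω, B ≤ S → ⁅⁅B, B⁆, B⁆ = ⊥ → (∃ A ∈ 𝒜, ⁅B, B⁆ ≤ A ∧ ¬ B ≤ A) →
      ∃ A ∈ 𝒜, ⁅B, B⁆ ≤ A ∧ ¬ B ≤ A ∧ B ≤ Subgroup.normalizer (A : Set Ω)) (hWS : II 𝒜 S ≤ S)
    (hN : ∀ P, (normSys F (II 𝒜 S) hWS).Hom P ⊆ (innerFusionSystem S).Hom P) (P : Subgroup Ω) :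
    F.Hom P ⊆ (innerFusionSystem S).Hom P := by
  refine gtx_key hp2 hS hWS (fun E => ∀ Q : Subgroup Ω, Q ≤ S → (∃ A ∈ 𝒜, A ≤ Q) → ∀ α ∈ E.autGroup Q, ∀ x : ↥Q,
    (x : Ω) ∈ II 𝒜 Q → (((α : MulAut ↥Q) x : ↥Q) : Ω) ∈ II 𝒜 Q) ?_ ?_ _ F rfl hF hinv hN P
  · intro E F hEF hH Q hQ hex α hα x hx
    refine hH Q hQ hex α ?_ x hx
    rw [mem_autGroup hQ] at hα ⊢
    exact hEF _ hα
  · intro F hF hH G _ ι hm hst
    obtain ⟨hfG, hr, ⟨T, hT⟩, hC⟩ := id hm
    have hinj := hr.1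
    obtain ⟨A₀, hA₀⟩ := id hne
    have hex : ∃ A ∈ 𝒜, A ≤ S := ⟨A₀, hA₀, (h𝒜 A₀ hA₀).1⟩
    have hSimg : img ι S = ι.range := by
      apply le_antisymm (img_le_range S)
      rintro _ ⟨s, rfl⟩
      exact ⟨s, Subgroup.mem_subgroupOf.2 s.2, rfl⟩
    have hTS : (T : Subgroup G) = img ι S := hT.trans hSimg.symm
    have hIImg : II (imgFam ι 𝒜) (T : Subgroup G) = img ι (II 𝒜 S) := by
      rw [hTS]; exact II_img hinj (fun A hA => (h𝒜 A hA).1) le_rfl hex
    have key : (II (imgFam ι 𝒜) (T : Subgroup G)).Normal := by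
      refine II_normal T hC hst ?_ ?_ ?_ ?_
      · rintro _ ⟨A, hA, rfl⟩
        refine ⟨by rw [hT]; exact img_le_range A, ?_⟩
        have hAc := (h𝒜 A hA).2
        constructor
        constructor
        rintro ⟨_, x, hx, rfl⟩ ⟨_, y, hy, rfl⟩
        apply Subtype.ext
        show ι x * ι y = ι y * ι x
        rw [← map_mul, ← map_mul]
        congr 1
        apply Subtype.ext
        have h0 : (⟨(x : Ω), Subgroup.mem_subgroupOf.1 hx⟩ : A) * ⟨(y : Ω), Subgroup.mem_subgroupOf.1 hy⟩ =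
            ⟨(y : Ω), Subgroup.mem_subgroupOf.1 hy⟩ * ⟨(x : Ω), Subgroup.mem_subgroupOf.1 hx⟩ := hAc.is_comm.comm _ _
        exact Subtype.mk.inj h0
      · exact ⟨_, A₀, hA₀, rfl⟩
      · intro T' hT' hexT'
        have hT'r : T' ≤ ι.range := by rw [← hT]; exact hT'
        set Q := preS ι T' with hQ
        have hQS : Q ≤ S := preS_le _ _
        have hQi : img ι Q = T' := img_preS hT'r
        have hexQ : ∃ A ∈ 𝒜, A ≤ Q := by
          obtain ⟨_, ⟨A, hA, rfl⟩, hAT⟩ := hexT'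
          refine ⟨A, hA, ?_⟩
          rw [← hQi, img_le_iff hinj (h𝒜 A hA).1 hQS] at hAT
          exact hAT
        have hII : II (imgFam ι 𝒜) T' = img ι (II 𝒜 Q) := by
          rw [← hQi]
          exact II_img hinj (fun A hA => (h𝒜 A hA).1) hQS hexQ
        have hIQ : II 𝒜 Q ≤ Q := by
          obtain ⟨A, hA, hAQ⟩ := hexQ
          exact (II_le hA hAQ).trans hAQ
        have hone : ∀ g ∈ Subgroup.normalizer (T' : Set G), ∀ y ∈ II (imgFam ι 𝒜) T', g * y * g⁻¹ ∈ II (imgFam ι 𝒜) T' := by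
          intro g hg y hy
          rw [hII] at hy ⊢
          obtain ⟨s, hs, rfl⟩ := hy
          have hs' : (s : Ω) ∈ II 𝒜 Q := Subgroup.mem_subgroupOf.1 hs
          have hgQ : ∀ x (hx : x ∈ Q), g * ι ⟨x, hQS hx⟩ * g⁻¹ ∈ T' := by
            intro x hx
            exact (Subgroup.mem_normalizer_iff.1 hg _).1 (mem_preS.1 hx).2
          obtain ⟨φ, hφ, hφe⟩ := real_conj hr hQS g (fun x hx => hT'r (hgQ x hx))
          have hφQ : ∀ x (hx : x ∈ Q), φ ⟨x, hx⟩ ∈ Q := by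
            intro x hx
            obtain ⟨h1, h2⟩ := hφe x hx
            refine mem_preS.2 ⟨h1, ?_⟩
            rw [h2]; exact hgQ x hx
          haveI : Finite Q := finite_of_le hQS
          obtain ⟨κ, hκ⟩ := exists_aut_of_maps hφ le_rfl hφQ
          have hκm : κ ∈ F.autGroup Q := by
            rw [mem_autGroup hQS]
            exact mem_congr hφ fun x => (hκ x x.2).symm
          have h3 := hH Q hQS hexQ κ hκm ⟨s, hIQ hs'⟩ hs'
          obtain ⟨h4, h5⟩ := hφe s (hIQ hs')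
          have h6 : ι s = ι ⟨(s : Ω), hQS (hIQ hs')⟩ := rfl
          rw [h6, ← h5]
          refine ⟨_, Subgroup.mem_subgroupOf.2 ?_, rfl⟩
          show φ ⟨(s : Ω), hIQ hs'⟩ ∈ II 𝒜 Q
          rw [hκ s (hIQ hs')]
          exact h3
        intro g hg
        rw [Subgroup.mem_normalizer_iff]
        intro y
        refine ⟨hone g hg y, fun hy => ?_⟩
        have h1 := hone g⁻¹ (Subgroup.inv_mem _ hg) _ hy
        have h2 : g⁻¹ * (g * y * g⁻¹) * g⁻¹⁻¹ = y := by group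
        rwa [h2] at h1
      · intro B hB hBT _ hBc hU
        have hBr : B ≤ ι.range := by rw [← hT]; exact hBT
        set B₀ := preS ι B with hB₀
        have hB₀S : B₀ ≤ S := preS_le _ _
        have hBi : img ι B₀ = B := img_preS hBr
        have hcS : ⁅B₀, B₀⁆ ≤ S := (Subgroup.commutator_le_self B₀).trans hB₀S
        have hci : img ι ⁅B₀, B₀⁆ = ⁅B, B⁆ := by rw [img_commutator hB₀S hB₀S, hBi]
        have hc3 : ⁅⁅B₀, B₀⁆, B₀⁆ = ⊥ := by
          refine eq_bot_of_img hinj ((Subgroup.commutator_mono (Subgroup.commutator_le_self B₀) le_rfl).trans hcS) ?_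
          rw [img_commutator hcS hB₀S, hci, hBi]; exact hBc
        obtain ⟨_, ⟨U, hU, rfl⟩, hU1, hU2⟩ := hU
        have hUS := (h𝒜 U hU).1
        rw [← hci, img_le_iff hinj hcS hUS] at hU1
        rw [← hBi, img_le_iff hinj hB₀S hUS] at hU2
        obtain ⟨A, hA, h1, h2, h3⟩ := hrep B₀ hB₀S hc3 ⟨U, hU, hU1, hU2⟩
        have hAS := (h𝒜 A hA).1
        refine ⟨img ι A, ⟨A, hA, rfl⟩, ?_, ?_, ?_⟩
        · rw [← hci, img_le_iff hinj hcS hAS]; exact h1
        · rw [← hBi, img_le_iff hinj hB₀S hAS]; exact h2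
        · rw [← hBi]; exact img_normalizer hB₀S hAS h3
    rw [hIImg] at key
    have h1 := isNormal_preS hr key (img_le_range _)
    rwa [preS_img hinj hWS] at h1

/-- the criterion relative to a strongly closed subgroup -/
theorem gt_relative [Finite S] {p : ℕ} [hp : Fact p.Prime] (hp2 : p ≠ 2) (hS : IsPGroup p S) {F : FusionSystem S}
    (hF : F.IsSaturated p) {D : Subgroup Ω} (hD : F.StronglyClosed D) (hWS : centerThompsonAOf D ≤ S)
    (hN : ∀ P, (normSys F (centerThompsonAOf D) hWS).Hom P ⊆ (innerFusionSystem S).Hom P) (P : Subgroup Ω) :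
    F.Hom P ⊆ (innerFusionSystem S).Hom P := by
  refine gtx_key hp2 hS hWS (fun E => E.StronglyClosed D) ?_ ?_ _ F rfl hF hD hN P
  · intro E F hEF hD
    exact ⟨hD.1, fun R hR φ hφ x => hD.2 R hR φ (hEF _ hφ) x⟩
  · intro F hF hD G _ ι hm hst
    obtain ⟨hfG, hr, ⟨T, hT⟩, hC⟩ := id hm
    have hinj := hr.1
    have hDS := hD.1
    set D' := img ι D with hD'
    have hD'T : D' ≤ T := by rw [hT]; exact img_le_range D
    have hD'p : IsPGroup p D' := T.isPGroup'.to_le hD'T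
    -- strong closure
    have hsc : ∀ g : G, ∀ x ∈ D', g * x * g⁻¹ ∈ (T : Subgroup G) → g * x * g⁻¹ ∈ D' := by
      rintro g _ ⟨s, hs, rfl⟩ hg
      have hs' : (s : Ω) ∈ D := Subgroup.mem_subgroupOf.1 hs
      have hz : Subgroup.zpowers (s : Ω) ≤ S := Subgroup.zpowers_le.2 s.2
      rw [hT] at hg
      obtain ⟨φ, hφ, hφe⟩ := real_conj hr hz g (by
        rintro x ⟨n, rfl⟩
        have h1 : ι ⟨(fun n : ℤ => (s : Ω) ^ n) n, hz ⟨n, rfl⟩⟩ = (ι s) ^ n := by
          rw [← map_zpow]; rfl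
        rw [h1, ← conj_zpow]
        exact Subgroup.zpow_mem _ hg n)
      have hsz : (s : Ω) ∈ Subgroup.zpowers (s : Ω) := Subgroup.mem_zpowers _
      obtain ⟨h1, h2⟩ := hφe s hsz
      have h3 := hD.2 _ (Subgroup.zpowers_le.2 hs') φ hφ ⟨s, hsz⟩
      have h4 : ι s = ι ⟨(s : Ω), hz hsz⟩ := rfl
      rw [h4, ← h2]
      exact ⟨_, Subgroup.mem_subgroupOf.2 h3, rfl⟩
    have hcT : centerThompsonAOf D' = img ι (centerThompsonAOf D) := by
      have h1 : D = (D.subgroupOf S).map S.subtype := (Subgroup.map_subgroupOf_eq_of_le hDS).symm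
      have h2 : centerThompsonAOf D = (centerThompsonAOf (D.subgroupOf S)).map S.subtype := by
        nth_rewrite 1 [h1]
        exact thompson_map S
      have h3 : (centerThompsonAOf D).subgroupOf S = centerThompsonAOf (D.subgroupOf S) := by
        rw [h2, Subgroup.subgroupOf, Subgroup.comap_map_eq_self_of_injective S.subtype_injective]
      show centerThompsonAOf ((D.subgroupOf S).map ι) = ((centerThompsonAOf D).subgroupOf S).map ι
      rw [h3]
      have h4 : thompsonSubgroupAOf ((D.subgroupOf S).map ι) = (thompsonSubgroupAOf (D.subgroupOf S)).map ι := by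
        rw [thompsonSubgroupAOf_eq, thompsonSubgroupAOf_eq]
        exact Ja_map _ hinj.injOn
      rw [centerThompsonAOf, centerThompsonAOf, h4]
      exact (CfsgLib.H2Npc.center_map ι hinj.injOn).symm
    set 𝒜 := maxIn (fun A : Subgroup G => IsMulCommutative A) D' with h𝒜
    have hIT : II 𝒜 (T : Subgroup G) = centerThompsonAOf D' := by
      rw [centerThompsonAOf_eq, II, IQ]
      congr 1
      ext A
      exact ⟨fun h => h.1, fun h => ⟨h, h.1.trans hD'T⟩⟩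
    have key : (II 𝒜 (T : Subgroup G)).Normal := by
      refine II_normal T hC hst ?_ ?_ ?_ ?_
      · intro A hA
        exact ⟨hA.1.trans hD'T, hA.2.1⟩
      · exact exists_maxIn bot_le comm_bot
      · intro T' hT' hex
        obtain ⟨A, hA, hAT'⟩ := hex
        have h1 := maxIn_of_le (Q := fun A : Subgroup G => IsMulCommutative A) (inf_le_left : D' ⊓ T' ≤ D') hA (le_inf hA.1 hAT')
        have h2 : II 𝒜 T' = IQ (fun A : Subgroup G => IsMulCommutative A) (D' ⊓ T') := by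
          rw [II, IQ, h1]
          congr 1
          ext B
          exact ⟨fun h => ⟨h.1, le_inf h.1.1 h.2⟩, fun h => ⟨h.1, h.2.trans inf_le_right⟩⟩
        rw [h2]
        refine le_trans ?_ (normalizer_le_IQ (fun g A => comm_aut _ A) _)
        have hone : ∀ g ∈ Subgroup.normalizer (T' : Set G), ∀ y ∈ D' ⊓ T', g * y * g⁻¹ ∈ D' ⊓ T' := by
          rintro g hg y ⟨hy1, hy2⟩
          have h3 := (Subgroup.mem_normalizer_iff.1 hg y).1 hy2
          exact ⟨hsc g y hy1 (hT' h3), h3⟩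
        intro g hg
        rw [Subgroup.mem_normalizer_iff]
        intro y
        refine ⟨hone g hg y, fun hy => ?_⟩
        have h1 := hone g⁻¹ (Subgroup.inv_mem _ hg) _ hy
        have h2 : g⁻¹ * (g * y * g⁻¹) * g⁻¹⁻¹ = y := by group
        rwa [h2] at h1
      · intro B hB hBT hBgen hBc hU
        have hBD : B ≤ D' := by
          rw [hBgen]
          apply normalClosure_le_of
          intro g
          rintro _ ⟨x, hx, rfl⟩
          change g * x * g⁻¹ ∈ D'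
          have hx1 : x ∈ D' := by
            have := hx.1
            rw [hIT] at this
            exact ZJ_le _ this
          exact hsc g x hx1 (hBT (hB.conj_mem x hx.2 g))
        exact rep_comm hp2 hD'p B hBD (by rw [Subgroup.normalizer_eq_top]; exact le_top) hBc hU
    rw [hIT, hcT] at key
    have h1 := isNormal_preS hr key (img_le_range _)
    rwa [preS_img hinj hWS] at h1

end

end CfsgLib.Fus21
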