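import Cfsg.Agent.LibFus21Hei
import Mathlib.LinearAlgebra.Matrix.GeneralLinearGroup.Card
import Mathlib.LinearAlgebra.Matrix.SpecialLinearGroup
import Mathlib.FieldTheory.Finite.Basic

set_option autoImplicit false

/-! Sylow subgroups of `SL₃(q)` in characteristic `p`. -/

namespace CfsgLib.Fus21

open Cfsg Cfsg.FusionSystem Matrix

section sl3

variable {K : Type*} [Field K]

/-- upper unitriangular matrices -/
def um (a b c : K) : SpecialLinearGroup (Fin 3) K :=
  ⟨!![1, a, c; 0, 1, b; 0, 0, 1], by rw [Matrix.det_fin_three]; simp⟩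

theorem um_coe (a b c : K) : ((um a b c : SpecialLinearGroup (Fin 3) K) : Matrix (Fin 3) (Fin 3) K) = !![1, a, c; 0, 1, b; 0, 0, 1] := rfl

theorem um_mul (a b c a' b' c' : K) : um a b c * um a' b' c' = um (a + a') (b + b') (c' + a * b' + c) := by
  apply Subtype.ext
  show (um a b c : Matrix (Fin 3) (Fin 3) K) * (um a' b' c' : Matrix (Fin 3) (Fin 3) K) = (um (a + a') (b + b') (c' + a * b' + c) : Matrix (Fin 3) (Fin 3) K)
  rw [um_coe, um_coe, um_coe]
  ext i j
  fin_cases i <;> fin_cases j <;> simp [Matrix.mul_apply, Fin.sum_univ_three, add_comm]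

theorem um_zero : um (0 : K) 0 0 = 1 := by
  apply Subtype.ext
  show (um (0 : K) 0 0 : Matrix (Fin 3) (Fin 3) K) = 1
  rw [um_coe]
  ext i j
  fin_cases i <;> fin_cases j <;> simp

theorem um_inj {a b c a' b' c' : K} (h : um a b c = um a' b' c') : a = a' ∧ b = b' ∧ c = c' := by
  have h1 : (!![1, a, c; 0, 1, b; 0, 0, 1] : Matrix (Fin 3) (Fin 3) K) = !![1, a', c'; 0, 1, b'; 0, 0, 1] := congrArg Subtype.val h
  refine ⟨?_, ?_, ?_⟩
  · simpa using congrFun (congrFun h1 0) 1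
  · simpa using congrFun (congrFun h1 1) 2
  · simpa using congrFun (congrFun h1 0) 2

theorem um_inv (a b c : K) : (um a b c)⁻¹ = um (-a) (-b) (a * b - c) := by
  rw [inv_eq_iff_mul_eq_one, um_mul, ← um_zero]
  congr 1 <;> ring

def UM (K : Type*) [Field K] : Subgroup (SpecialLinearGroup (Fin 3) K) where
  carrier := {g | ∃ a b c : K, g = um a b c}
  one_mem' := ⟨0, 0, 0, um_zero.symm⟩
  mul_mem' := by
    rintro _ _ ⟨a, b, c, rfl⟩ ⟨a', b', c', rfl⟩
    exact ⟨_, _, _, um_mul _ _ _ _ _ _⟩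
  inv_mem' := by
    rintro _ ⟨a, b, c, rfl⟩
    exact ⟨_, _, _, um_inv _ _ _⟩

theorem um_mem (a b c : K) : um a b c ∈ UM K := ⟨a, b, c, rfl⟩

theorem UM_card : Nat.card (UM K) = Nat.card K ^ 3 := by
  have e : (K × K × K) ≃ UM K := Equiv.ofBijective (fun t => ⟨um t.1 t.2.1 t.2.2, um_mem _ _ _⟩) (by
    constructor
    · rintro ⟨a, b, c⟩ ⟨a', b', c'⟩ h
      obtain ⟨h1, h2, h3⟩ := um_inj (congrArg Subtype.val h)
      simp only at h1 h2 h3
      rw [h1, h2, h3]
    · rintro ⟨_, a, b, c, rfl⟩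
      exact ⟨(a, b, c), rfl⟩)
  rw [← Nat.card_congr e, Nat.card_prod, Nat.card_prod]
  ring

theorem UM_center {a b c : K} : (⟨um a b c, um_mem a b c⟩ : UM K) ∈ Subgroup.center (UM K) ↔ a = 0 ∧ b = 0 := by
  rw [Subgroup.mem_center_iff]
  constructor
  · intro h
    constructor
    · have h1 := congrArg Subtype.val (h ⟨um 0 1 0, um_mem _ _ _⟩)
      have h2 : um (0 : K) 1 0 * um a b c = um a b c * um 0 1 0 := h1
      rw [um_mul, um_mul] at h2
      have h3 := (um_inj h2).2.2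
      simpa using h3.symm
    · have h1 := congrArg Subtype.val (h ⟨um 1 0 0, um_mem _ _ _⟩)
      have h2 : um (1 : K) 0 0 * um a b c = um a b c * um 1 0 0 := h1
      rw [um_mul, um_mul] at h2
      have h3 := (um_inj h2).2.2
      simpa using h3
  · rintro ⟨rfl, rfl⟩ ⟨_, a', b', c', rfl⟩
    apply Subtype.ext
    show um a' b' c' * um 0 0 c = um 0 0 c * um a' b' c'
    rw [um_mul, um_mul]
    congr 1 <;> ring

theorem heis_UM : Heis (UM K) := by
  refine ⟨?_, ?_, ?_⟩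
  · rintro ⟨_, a, b, c, rfl⟩ ⟨_, a', b', c', rfl⟩
    have h1 : (⟨um a b c, um_mem _ _ _⟩ * ⟨um a' b' c', um_mem _ _ _⟩ * ⟨um a b c, um_mem _ _ _⟩⁻¹ * ⟨um a' b' c', um_mem _ _ _⟩⁻¹ : UM K) =
        ⟨um 0 0 (a * b' - a' * b), um_mem _ _ _⟩ := by
      apply Subtype.ext
      show um a b c * um a' b' c' * (um a b c)⁻¹ * (um a' b' c')⁻¹ = _
      rw [um_inv, um_inv, um_mul, um_mul, um_mul]
      congr 1 <;> ring
    rw [h1, UM_center]
    exact ⟨rfl, rfl⟩
  · rintro ⟨_, a, b, c, rfl⟩ hx ⟨_, a1, b1, c1, rfl⟩ ⟨_, a2, b2, c2, rfl⟩ h1 h2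
    rw [UM_center] at hx
    have h1' : um a1 b1 c1 * um a b c = um a b c * um a1 b1 c1 := congrArg Subtype.val h1
    have h2' : um a2 b2 c2 * um a b c = um a b c * um a2 b2 c2 := congrArg Subtype.val h2
    rw [um_mul, um_mul] at h1' h2'
    have e1 := (um_inj h1').2.2
    have e2 := (um_inj h2').2.2
    have e1' : a1 * b = a * b1 := by linear_combination e1
    have e2' : a2 * b = a * b2 := by linear_combination e2
    have key : a1 * b2 = a2 * b1 := by
      by_cases ha : a = 0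
      · have hb : b ≠ 0 := fun hb => hx ⟨ha, hb⟩
        rw [ha, zero_mul] at e1' e2'
        rw [(mul_eq_zero.1 e1').resolve_right hb, (mul_eq_zero.1 e2').resolve_right hb]
        ring
      · apply mul_left_cancel₀ ha
        linear_combination a2 * e1' - a1 * e2'
    apply Subtype.ext
    show um a1 b1 c1 * um a2 b2 c2 = um a2 b2 c2 * um a1 b1 c1
    rw [um_mul, um_mul]
    congr 1
    · ring
    · ring
    · linear_combination key
  · rintro ⟨_, a, b, c, rfl⟩ hx ⟨_, a', b', c', rfl⟩ hz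
    rw [UM_center] at hx hz
    obtain ⟨rfl, rfl⟩ := hz
    have key : ∃ s t : K, s * b - a * t = c' := by
      by_cases ha : a = 0
      · have hb : b ≠ 0 := fun hb => hx ⟨ha, hb⟩
        exact ⟨c' / b, 0, by field_simp; ring⟩
      · exact ⟨0, -c' / a, by field_simp; ring⟩
    obtain ⟨s, t, hst⟩ := key
    refine ⟨⟨um s t 0, um_mem _ _ _⟩, ?_⟩
    rw [mul_inv_eq_iff_eq_mul]
    apply Subtype.ext
    show um s t 0 * um a b c = um a b c * um 0 0 c' * um s t 0
    rw [um_mul, um_mul, um_mul]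
    congr 1
    · ring
    · ring
    · linear_combination hst

theorem UM_sylow [Fintype K] {p : ℕ} [hp : Fact p.Prime] [CharP K p] : IsPGroup p (UM K) ∧ ¬ p ∣ (UM K).index := by
  classical
  obtain ⟨f, hpf, hf⟩ := FiniteField.card K p
  have hcard : Nat.card K = p ^ (f : ℕ) := by rw [Nat.card_eq_fintype_card, hf]
  set q := Nat.card K with hq
  have hq' : Fintype.card K = q := by rw [hq, Nat.card_eq_fintype_card]
  have hqp : p ∣ q := by rw [hcard]; exact dvd_pow_self p f.pos.ne'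
  have hq1 : 1 < q := by rw [hq, Nat.card_eq_fintype_card]; exact Fintype.one_lt_card
  refine ⟨IsPGroup.iff_card.2 ⟨f * 3, by rw [UM_card, ← hq, hcard, pow_mul]⟩, ?_⟩
  intro hdvd
  -- `|SL₃|` divides `|GL₃|`
  have h1 : Nat.card (SpecialLinearGroup (Fin 3) K) ∣ Nat.card (GL (Fin 3) K) := by
    have hinj : Function.Injective (SpecialLinearGroup.toGL : SpecialLinearGroup (Fin 3) K →* GL (Fin 3) K) := by
      intro a b hab
      apply Subtype.ext
      exact congrArg (fun g : GL (Fin 3) K => (g : Matrix (Fin 3) (Fin 3) K)) hab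
    exact Subgroup.card_dvd_of_injective _ hinj
  have h2 : Nat.card (GL (Fin 3) K) = q ^ 3 * ((q ^ 3 - 1) * ((q ^ 2 - 1) * (q - 1))) := by
    have h3 := Matrix.card_GL_field (𝔽 := K) 3
    rw [hq'] at h3
    rw [h3]
    have e1 : ∏ i : Fin 3, (q ^ 3 - q ^ (i : ℕ)) = (q ^ 3 - q ^ 0) * (q ^ 3 - q ^ 1) * (q ^ 3 - q ^ 2) := by
      rw [Fin.prod_univ_three]; rfl
    rw [e1]
    have e2 : q ^ 3 - q ^ 1 = q * (q ^ 2 - 1) := by rw [Nat.mul_sub, mul_one, pow_one, ← pow_succ']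
    have e3 : q ^ 3 - q ^ 2 = q ^ 2 * (q - 1) := by rw [Nat.mul_sub, mul_one, ← pow_succ]
    rw [e2, e3, pow_zero]
    ring
  have h3 := Subgroup.card_mul_index (UM K)
  rw [UM_card, ← hq] at h3
  rw [← h3, h2] at h1
  have h4 : (UM K).index ∣ (q ^ 3 - 1) * ((q ^ 2 - 1) * (q - 1)) :=
    Nat.dvd_of_mul_dvd_mul_left (pow_pos (by omega) 3) h1
  have h5 := hdvd.trans h4
  have hpp := hp.out
  have key : ∀ k : ℕ, 0 < k → ¬ p ∣ q ^ k - 1 := by
    intro k hk h
    have h6 : p ∣ q ^ k := dvd_pow hqp hk.ne'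
    have h7 : 1 ≤ q ^ k := Nat.one_le_pow _ _ (by omega)
    have h8 : p ∣ q ^ k - (q ^ k - 1) := Nat.dvd_sub h6 h
    have h9 : q ^ k - (q ^ k - 1) = 1 := by omega
    rw [h9] at h8
    exact hpp.one_lt.ne' (Nat.dvd_one.1 h8)
  rcases hpp.dvd_mul.1 h5 with h6 | h6
  · exact key 3 (by norm_num) h6
  · rcases hpp.dvd_mul.1 h6 with h7 | h7
    · exact key 2 (by norm_num) h7
    · exact key 1 (by norm_num) (by rwa [pow_one])

theorem heis_sylow [Fintype K] {p : ℕ} [hp : Fact p.Prime] [CharP K p] (T : Sylow p (SpecialLinearGroup (Fin 3) K)) :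
    Heis (T : Subgroup (SpecialLinearGroup (Fin 3) K)) := by
  classical
  obtain ⟨h1, h2⟩ := UM_sylow (K := K) (p := p)
  let P : Sylow p (SpecialLinearGroup (Fin 3) K) := h1.toSylow h2
  have hP : (P : Subgroup (SpecialLinearGroup (Fin 3) K)) = UM K := rfl
  have e : (T : Subgroup (SpecialLinearGroup (Fin 3) K)) ≃* (P : Subgroup (SpecialLinearGroup (Fin 3) K)) := Sylow.equiv T P
  rw [hP] at e
  exact Heis.of_equiv e heis_UM

end sl3

end CfsgLib.Fus21
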