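import Cfsg.Agent.LibFus21Hy5

set_option autoImplicit false

/-! Fusion systems on `p`-groups with centre of index at most `p²`. -/

namespace CfsgLib.Fus21

open Cfsg Cfsg.FusionSystem

variable {Ω : Type*} [Group Ω] {S : Subgroup Ω}

theorem centerIndex_eq (S : Subgroup Ω) :
    (S ⊓ Subgroup.centralizer (S : Set Ω)).relIndex S = (Subgroup.center S).index := by
  have h1 : (S ⊓ Subgroup.centralizer (S : Set Ω)).subgroupOf S = Subgroup.center S := by
    ext z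
    rw [Subgroup.mem_subgroupOf, mem_ZS, Subgroup.mem_center_iff]
    constructor
    · intro h s
      exact Subtype.ext (h.2 s s.2)
    · intro h
      exact ⟨z.2, fun s hs => congrArg Subtype.val (h ⟨s, hs⟩)⟩
  rw [← h1]; rfl

theorem ZS_inv {F : FusionSystem S} : ∀ β ∈ F.autGroup S, ∀ x : S, (x : Ω) ∈ S ⊓ Subgroup.centralizer (S : Set Ω) →
    ((β x : S) : Ω) ∈ S ⊓ Subgroup.centralizer (S : Set Ω) := by
  intro β _ x hx
  rw [mem_ZS] at hx ⊢
  refine ⟨(β x).2, fun s hs => ?_⟩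
  obtain ⟨s', hs'⟩ := β.surjective ⟨s, hs⟩
  have h1 : β (s' * x) = β (x * s') := by
    congr 1
    exact Subtype.ext (hx.2 s' s'.2)
  rw [map_mul, map_mul, hs'] at h1
  exact congrArg Subtype.val h1

theorem comm_inv {F : FusionSystem S} : ∀ β ∈ F.autGroup S, ∀ x : S,
    (x : Ω) ∈ (S ⊓ Subgroup.centralizer (S : Set Ω)) ⊓ (commutator S).map S.subtype →
    ((β x : S) : Ω) ∈ (S ⊓ Subgroup.centralizer (S : Set Ω)) ⊓ (commutator S).map S.subtype := by
  rintro β hβ x ⟨hx1, hx2⟩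
  refine ⟨ZS_inv β hβ x hx1, ?_⟩
  obtain ⟨y, hy, hyx⟩ := hx2
  have hyx' : y = x := Subtype.ext hyx
  rw [hyx'] at hy
  exact ⟨β x, (Subgroup.characteristic_iff_le_comap.1 (inferInstance : (commutator S).Characteristic) β) hy, rfl⟩

theorem one_lt_relIndex [Finite S] {p : ℕ} [hp : Fact p.Prime] (hS : IsPGroup p S) {H K : Subgroup Ω} (hK : K ≤ S)
    (hne : H.relIndex K ≠ 1) : p ≤ H.relIndex K := by
  haveI : Finite K := finite_of_le hK
  obtain ⟨k, hk⟩ := (hS.to_le hK).index (H.subgroupOf K)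
  have hk' : H.relIndex K = p ^ k := hk
  rw [hk'] at hne ⊢
  rcases k with _ | k
  · exact absurd (pow_zero p) hne
  · exact Nat.le_self_pow (Nat.succ_ne_zero k) p

theorem sq_cfg [Finite S] {p : ℕ} [hp : Fact p.Prime] (hS : IsPGroup p S) {F : FusionSystem S}
    (hF : F.IsSaturated p) (hS1 : S ≠ ⊥) (hcore : F.core = ⊥) (hZ : (Subgroup.center S).index ≤ p ^ 2) :
    (∃ x ∈ S, ∃ y ∈ S, x * y ≠ y * x) ∧ (S ⊓ Subgroup.centralizer (S : Set Ω)).relIndex S = p ^ 2 ∧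
    Nat.card ↥((S ⊓ Subgroup.centralizer (S : Set Ω)) ⊓ (commutator S).map S.subtype) = p ∧
    (∀ s ∈ S, ∀ t ∈ S, s * t * s⁻¹ * t⁻¹ ∈ (S ⊓ Subgroup.centralizer (S : Set Ω)) ⊓ (commutator S).map S.subtype) ∧
    (∀ E, F.IsEssential p E → S ⊓ Subgroup.centralizer (S : Set Ω) ≤ E ∧
      TypeH S (S ⊓ Subgroup.centralizer (S : Set Ω))
        ((S ⊓ Subgroup.centralizer (S : Set Ω)) ⊓ (commutator S).map S.subtype) E p ∧
      S ≤ Subgroup.normalizer (E : Set Ω) ∧ E.relIndex S = p) ∧ ∃ E, F.IsEssential p E := by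
  obtain ⟨E0, hE0⟩ : ∃ E, F.IsEssential p E := by
    by_contra hno
    push Not at hno
    have h1 := isNormal_S_of_no_essential hS hF hno
    have h2 := le_core h1
    rw [hcore, le_bot_iff] at h2
    exact hS1 h2
  have hna : ∃ x ∈ S, ∃ y ∈ S, x * y ≠ y * x := by
    by_contra hno
    push Not at hno
    refine (essential_lt hS hF hE0).not_ge fun s hs => ?_
    apply centric_centralizer_le hE0.1
    rw [mem_centralizerIn']
    exact ⟨hs, fun x hx => by rw [hno s hs x (hE0.1.1 hx), mul_inv_cancel_right]⟩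
  set Z := S ⊓ Subgroup.centralizer (S : Set Ω) with hZd
  have hZS : Z ≤ S := inf_le_left
  have hZi : Z.relIndex S ≤ p ^ 2 := by rw [hZd, centerIndex_eq]; exact hZ
  have hZc : ∀ s ∈ S, ∀ z ∈ Z, s * z = z * s := fun s hs z hz => (mem_ZS.1 hz).2 s hs
  have hidx : ∀ E, F.IsEssential p E → Z ≤ E ∧ Z.relIndex E = p ∧ E.relIndex S = p := by
    intro E hE
    have hES := hE.1.1
    have hZE : Z ≤ E := AbCfg.Z_le_ess hE
    have h1 := Subgroup.relIndex_mul_relIndex Z E S hZE hES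
    have h2 : Z.relIndex E ≠ 1 := by
      intro h3
      rw [Subgroup.relIndex_eq_one] at h3
      refine (essential_lt hS hF hE).not_ge fun s hs => ?_
      apply centric_centralizer_le hE.1
      rw [mem_centralizerIn']
      exact ⟨hs, fun x hx => by rw [hZc s hs x (h3 hx), mul_inv_cancel_right]⟩
    have h3 : E.relIndex S ≠ 1 := by
      intro h4
      rw [Subgroup.relIndex_eq_one] at h4
      exact (essential_lt hS hF hE).not_ge h4
    have h4 := one_lt_relIndex hS hES h2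
    have h5 := one_lt_relIndex hS le_rfl h3
    have h6 : Z.relIndex E * E.relIndex S ≤ p * p := by rw [h1, ← pow_two]; exact hZi
    have hpos := hp.out.pos
    refine ⟨hZE, le_antisymm ?_ h4, le_antisymm ?_ h5⟩
    · by_contra h7
      push Not at h7
      have : p * p < Z.relIndex E * E.relIndex S := Nat.mul_lt_mul_of_lt_of_le h7 h5 (lt_of_lt_of_le hpos h5)
      omega
    · by_contra h7
      push Not at h7
      have : p * p < Z.relIndex E * E.relIndex S := Nat.mul_lt_mul_of_le_of_lt h4 h7 (lt_of_lt_of_le hpos h4)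
      omega
  have hZi2 : Z.relIndex S = p ^ 2 := by
    obtain ⟨h1, h2, h3⟩ := hidx E0 hE0
    rw [← Subgroup.relIndex_mul_relIndex Z E0 S h1 hE0.1.1, h2, h3, pow_two]
  -- commutators are central
  have hcommZ : ∀ s ∈ S, ∀ t ∈ S, s * t * s⁻¹ * t⁻¹ ∈ Z := by
    have h1 : Nat.card (S ⧸ Subgroup.center S) = p ^ 2 := by
      rw [← Subgroup.index_eq_card, ← centerIndex_eq]; exact hZi2
    intro s hs t ht
    have h2 := IsPGroup.commutative_of_card_eq_prime_sq h1 (QuotientGroup.mk ⟨s, hs⟩) (QuotientGroup.mk ⟨t, ht⟩)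
    have h3 : (⟨s, hs⟩ * ⟨t, ht⟩ * (⟨s, hs⟩ : S)⁻¹ * (⟨t, ht⟩ : S)⁻¹ : S) ∈ Subgroup.center S := by
      rw [← QuotientGroup.eq_one_iff]
      show (QuotientGroup.mk ⟨s, hs⟩ : S ⧸ Subgroup.center S) * QuotientGroup.mk ⟨t, ht⟩ * (QuotientGroup.mk ⟨s, hs⟩)⁻¹ *
        (QuotientGroup.mk ⟨t, ht⟩)⁻¹ = 1
      rw [h2]; group
    rw [hZd, mem_ZS]
    refine ⟨S.mul_mem (S.mul_mem (S.mul_mem hs ht) (S.inv_mem hs)) (S.inv_mem ht), fun u hu => ?_⟩
    exact congrArg Subtype.val (Subgroup.mem_center_iff.1 h3 ⟨u, hu⟩)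
  have hcommC : ∀ s ∈ S, ∀ t ∈ S, s * t * s⁻¹ * t⁻¹ ∈ Z ⊓ (commutator S).map S.subtype := by
    intro s hs t ht
    exact ⟨hcommZ s hs t ht, ⟨⟨s, hs⟩ * ⟨t, ht⟩ * ⟨s, hs⟩⁻¹ * ⟨t, ht⟩⁻¹,
      Subgroup.commutator_mem_commutator (Subgroup.mem_top _) (Subgroup.mem_top _), rfl⟩⟩
  have hab : ∀ E, F.IsEssential p E → ∀ x ∈ E, ∀ y ∈ E, x * y = y * x := by
    intro E hE
    obtain ⟨hZE, hZEi, -⟩ := hidx E hE
    have hES := hE.1.1
    haveI : Finite E := finite_of_le hES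
    intro x hx
    by_cases hxZ : x ∈ Z
    · intro y hy
      exact (hZc y (hES hy) x hxZ).symm
    · have h1 := eq_of_relIndex' hZEi (H := E ⊓ Subgroup.centralizer {x}) (le_inf hZE fun z hz => by
        rw [Subgroup.mem_centralizer_singleton_iff]; exact (hZc x (hES hx) z hz).symm) inf_le_left (x := x)
        ⟨hx, by
          show x ∈ Subgroup.centralizer {x}
          rw [Subgroup.mem_centralizer_singleton_iff]⟩ hxZ
      intro y hy
      rw [← h1] at hy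
      exact (Subgroup.mem_centralizer_singleton_iff.1 hy.2).symm
  have hcfg : ∀ E, F.IsEssential p E → AbCfg p S E := fun E hE =>
    ⟨hS, hE.1.1, hab E hE, (hidx E hE).2.2, hna⟩
  refine ⟨hna, hZi2, ?_, hcommC, fun E hE => ⟨(hidx E hE).1, ⟨hab E hE, (hidx E hE).2.1, ?_⟩, (hcfg E hE).norm,
    (hidx E hE).2.2⟩, E0, hE0⟩
  · apply (hcfg E0 hE0).card_Z_inf
    have h1 : E0 ≤ (Subgroup.upperCentralSeries S 2).map S.subtype := by
      intro e he
      rw [mem_Z2]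
      exact ⟨hE0.1.1 he, fun s hs => hcommZ e (hE0.1.1 he) s hs⟩
    rw [inf_eq_left.2 h1]
    have h2 := AbCfg.card_relIndex (hidx E0 hE0).1
    rw [(hidx E0 hE0).2.1] at h2
    rw [← h2, mul_comm]
  · intro s hs _ x hx
    have h2 : x⁻¹ * (s * x * s⁻¹) = x⁻¹ * s * x⁻¹⁻¹ * s⁻¹ := by group
    rw [h2]
    exact hcommC _ (S.inv_mem (hE.1.1 hx)) s hs

/-- `p` odd -/
theorem center_odd [Finite S] {p : ℕ} [hp : Fact p.Prime] (hp2 : p ≠ 2) (hS : IsPGroup p S) {F : FusionSystem S}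
    (hF : F.IsSaturated p) (hS1 : S ≠ ⊥) (hcore : F.core = ⊥) (hZ : (Subgroup.center S).index ≤ p ^ 2) :
    Nat.card ↥(S ⊓ Subgroup.centralizer (S : Set Ω)) = p := by
  obtain ⟨hna, hZi, hC, hcomm, hess, E0, hE0⟩ := sq_cfg hS hF hS1 hcore hZ
  obtain ⟨W, hWZ, hWi, hWn⟩ := odd_normal hp2 hS hF inf_le_left (fun s hs z hz => (mem_ZS.1 hz).2 s hs) inf_le_left hC
    comm_inv ZS_inv (fun E hE => ⟨(hess E hE).1, Or.inr (hess E hE).2.1⟩) ⟨E0, hE0, (hess E0 hE0).2.1⟩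
  have h1 := le_core hWn
  rw [hcore, le_bot_iff] at h1
  rw [h1, Subgroup.relIndex_bot_left] at hWi
  exact hWi

theorem idx_two {H K : Subgroup Ω} (h : H.relIndex K = 2) {a b : Ω} (ha : a ∈ K) (hb : b ∈ K) :
    a * b ∈ H ↔ (a ∈ H ↔ b ∈ H) :=
  Subgroup.mul_mem_iff_of_index_two (H := H.subgroupOf K) h (a := ⟨a, ha⟩) (b := ⟨b, hb⟩)

end CfsgLib.Fus21
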