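import Cfsg.Agent.LibFus21Hy6

set_option autoImplicit false

/-! Fusion systems on `2`-groups with centre of index at most `4`. -/

namespace CfsgLib.Fus21

open Cfsg Cfsg.FusionSystem

variable {Ω : Type*} [Group Ω] {S : Subgroup Ω}

theorem center_two [Finite S] (hS : IsPGroup 2 S) {F : FusionSystem S}
    (hF : F.IsSaturated 2) (hS1 : S ≠ ⊥) (hcore : F.core = ⊥) (hhyp : F.hyperfocalSubgroup 2 = S)
    (hZ : (Subgroup.center S).index ≤ 2 ^ 2) :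
    Nat.card ↥(S ⊓ Subgroup.centralizer (S : Set Ω)) = 2 := by
  haveI : Fact (Nat.Prime 2) := ⟨Nat.prime_two⟩
  obtain ⟨hna, hZi, hCc, hcomm, hess, E1, hE1⟩ := sq_cfg hS hF hS1 hcore hZ
  set Z := S ⊓ Subgroup.centralizer (S : Set Ω) with hZd
  set C := Z ⊓ (commutator S).map S.subtype with hCd
  have hZS : Z ≤ S := inf_le_left
  have hCZ : C ≤ Z := inf_le_left
  have hZc : ∀ s ∈ S, ∀ z ∈ Z, s * z = z * s := fun s hs z hz => (mem_ZS.1 hz).2 s hs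
  have hnoNorm : ∀ Q : Subgroup Ω, F.IsNormal Q → Q = ⊥ := fun Q hQ => by
    have := le_core hQ
    rwa [hcore, le_bot_iff] at this
  have hCsq : ∀ c ∈ C, c * c = 1 := by
    intro c hc
    have := pow_card_eq_one' (x := (⟨c, hc⟩ : C))
    rw [hCc, pow_two] at this
    exact congrArg Subtype.val this
  have hC2 : ∀ c ∈ C, ∀ d ∈ C, c ≠ 1 → d ≠ 1 → c = d := by
    intro c hc d hd hc1 hd1
    have hof : Nat.card C = 2 := hCc
    have h1 := (Nat.card_eq_two_iff' (1 : C)).1 hof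
    obtain ⟨e, -, he⟩ := h1
    have h2 := he ⟨c, hc⟩ (fun h => hc1 (congrArg Subtype.val h))
    have h3 := he ⟨d, hd⟩ (fun h => hd1 (congrArg Subtype.val h))
    exact congrArg Subtype.val (h2.trans h3.symm)
  have hdata := fun (E : Subgroup Ω) (hE : F.IsEssential 2 E) =>
    type2_data hS hF hE (hess E hE).2.1.1 (hess E hE).2.2.1 (hess E hE).1 hZc (hess E hE).2.1.2.1 hCZ hCc (hess E hE).2.1.2.2
  -- `c` is not a square in `Z`
  have hsq : ∀ z ∈ Z, z * z ∈ C → z * z = 1 := by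
    obtain ⟨W, hWZ, -, hCW, hZCW, -⟩ := hdata E1 hE1
    intro z hz hzC
    obtain ⟨c, hc, w, hw, rfl⟩ := hZCW z hz
    apply hCW _ hzC
    have h1 : c * w * (c * w) = (c * c) * (w * w) := by
      have h2 := hZc w (hZS (hWZ hw)) c (hCZ hc)
      calc c * w * (c * w) = c * (w * c) * w := by group
        _ = c * (c * w) * w := by rw [h2]
        _ = (c * c) * (w * w) := by group
    rw [h1, hCsq c hc, one_mul]
    exact W.mul_mem hw hw
  -- essentials are determined by a noncentral element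
  have hEeq : ∀ E, Z ≤ E → Z.relIndex E = 2 → E ≤ S → ∀ x ∈ E, x ∉ Z → ∀ E', Z ≤ E' → x ∈ E' → E ≤ E' := by
    intro E hZE hEi hES x hx hxZ E' hZE' hx'
    haveI : Finite E := finite_of_le hES
    have h1 := eq_of_relIndex' hEi (H := E ⊓ E') (le_inf hZE hZE') inf_le_left ⟨hx, hx'⟩ hxZ
    rw [← h1]; exact inf_le_right
  -- noncentral involutions
  have hinvol : ∀ E, F.IsEssential 2 E → ∀ v' ∈ S, v' ∉ E → v' * v' = 1 → ∀ x ∈ S, x ∉ Z → x * x = 1 →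
      x ∈ E ∨ ∃ z ∈ Z, x = v' * z := by
    intro E hE v' hv' hv'E hv'v' x hx hxZ hxx
    obtain ⟨W, hWZ, -, -, -, -, v, hv, hvZ, hvv, -⟩ := hdata E hE
    by_cases hxE : x ∈ E
    · exact Or.inl hxE
    right
    have hES := hE.1.1
    obtain ⟨hZE, ⟨hEab, hZEi, -⟩, hEn, hEi⟩ := hess E hE
    have h1 : v'⁻¹ * x ∈ E := by
      rw [idx_two hEi (S.inv_mem hv') hx]
      exact ⟨fun h => absurd (by rw [← inv_inv v']; exact E.inv_mem h) hv'E, fun h => absurd h hxE⟩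
    by_cases h2 : v'⁻¹ * x ∈ Z
    · exact ⟨v'⁻¹ * x, h2, by rw [mul_inv_cancel_left]⟩
    exfalso
    set e := v'⁻¹ * x with he
    have hxe : x = v' * e := by rw [he, mul_inv_cancel_left]
    -- `e = v z`
    have h3 : v⁻¹ * e ∈ Z := by
      rw [idx_two hZEi (E.inv_mem hv) h1]
      exact ⟨fun h => absurd (by rw [← inv_inv v]; exact Z.inv_mem h) hvZ, fun h => absurd h h2⟩
    set z := v⁻¹ * e with hz
    have hez : e = v * z := by rw [hz, mul_inv_cancel_left]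
    have hvi : v⁻¹ = v := inv_eq_of_mul_eq_one_left hvv
    have hv'i : v'⁻¹ = v' := inv_eq_of_mul_eq_one_left hv'v'
    have hzc := fun s hs => hZc s hs z h3
    have h4 : x * x = (v' * v * v'⁻¹ * v⁻¹) * (z * z) := by
      rw [hxe, hez, hvi, hv'i]
      calc v' * (v * z) * (v' * (v * z)) = v' * v * (z * v') * v * z := by group
        _ = v' * v * (v' * z) * v * z := by rw [hzc v' hv']
        _ = v' * v * v' * (z * v) * z := by group
        _ = v' * v * v' * (v * z) * z := by rw [hzc v (hES hv)]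
        _ = v' * v * v' * v * (z * z) := by group
    set k := v' * v * v'⁻¹ * v⁻¹ with hk
    have hkC : k ∈ C := hcomm v' hv' v (hES hv)
    have hk1 : k ≠ 1 := by
      intro h5
      rw [hk, mul_inv_eq_one, mul_inv_eq_iff_eq_mul] at h5
      -- `v'` commutes with `v`, hence with `E`; then `v ∈ Z`
      apply hvZ
      rw [hZd, mem_ZS]
      refine ⟨hES hv, ?_⟩
      have h6 : E ≤ S ⊓ Subgroup.centralizer {v} := le_inf hES fun y hy => by
        rw [Subgroup.mem_centralizer_singleton_iff]; exact hEab y hy v hv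
      have h7 := eq_of_relIndex' (p := 2) hEi h6 inf_le_left (x := v') ⟨hv', by
        show v' ∈ Subgroup.centralizer {v}
        rw [Subgroup.mem_centralizer_singleton_iff]; exact h5⟩ hv'E
      intro s hs
      rw [← h7] at hs
      exact Subgroup.mem_centralizer_singleton_iff.1 hs.2
    have h5 : z * z = k⁻¹ := by
      rw [h4] at hxx
      exact eq_inv_of_mul_eq_one_right hxx
    have h6 := hsq z h3 (by rw [h5]; exact C.inv_mem hkC)
    rw [h6] at h5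
    exact hk1 (inv_eq_one.1 h5.symm)
  -- automorphisms of `S` preserve the essential subgroups
  have hZinv := ZS_inv (F := F)
  have hZinv' : ∀ β ∈ F.autGroup S, ∀ x : S, ((β x : S) : Ω) ∈ Z → (x : Ω) ∈ Z := fun β hβ x hx =>
    (iff_of_imp hZinv β hβ x).2 hx
  have hpres : ∀ β ∈ F.autGroup S, ∀ E, F.IsEssential 2 E → ∀ x : S, (x : Ω) ∈ E → ((β x : S) : Ω) ∈ E := by
    intro β hβ E hE
    obtain ⟨W, hWZ, -, -, -, -, v, hv, hvZ, hvv, -⟩ := hdata E hE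
    have hES := hE.1.1
    obtain ⟨hZE, ⟨hEab, hZEi, -⟩, hEn, hEi⟩ := hess E hE
    have key : ∀ γ ∈ F.autGroup S, ((γ ⟨v, hES hv⟩ : S) : Ω) ∈ E → ∀ x : S, (x : Ω) ∈ E → ((γ x : S) : Ω) ∈ E := by
      intro γ hγ h1 x hx
      by_cases hxZ : (x : Ω) ∈ Z
      · exact hZE (hZinv γ hγ x hxZ)
      · have h2 : v⁻¹ * (x : Ω) ∈ Z := by
          rw [idx_two hZEi (E.inv_mem hv) hx]
          exact ⟨fun h => absurd (by rw [← inv_inv v]; exact Z.inv_mem h) hvZ, fun h => absurd h hxZ⟩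
        have h3 : ((γ (⟨v, hES hv⟩⁻¹ * x) : S) : Ω) ∈ Z := hZinv γ hγ _ h2
        have h4 : γ x = γ ⟨v, hES hv⟩ * γ (⟨v, hES hv⟩⁻¹ * x) := by rw [← map_mul, mul_inv_cancel_left]
        rw [h4]
        exact E.mul_mem h1 (hZE h3)
    apply key β hβ
    by_contra hno
    set v' := β ⟨v, hES hv⟩ with hv'
    have hv'v' : (v' : Ω) * v' = 1 := by
      have h1 : v' * v' = 1 := by
        rw [hv', ← map_mul, show (⟨v, hES hv⟩ * ⟨v, hES hv⟩ : S) = 1 from Subtype.ext hvv, map_one]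
      exact congrArg Subtype.val h1
    have hv'Z : (v' : Ω) ∉ Z := fun h => hno (hZE h)
    have hv''Z : ((β v' : S) : Ω) ∉ Z := fun h => hv'Z (hZinv' β hβ v' h)
    have hv''2 : ((β v' : S) : Ω) * (β v' : S) = 1 := by
      have h1 : β v' * β v' = 1 := by
        rw [← map_mul, show v' * v' = 1 from Subtype.ext hv'v', map_one]
      exact congrArg Subtype.val h1
    have h2 : ((β v' : S) : Ω) ∈ E := by
      rcases hinvol E hE v' v'.2 hno hv'v' (β v') (β v').2 hv''Z hv''2 with h | ⟨z, hz, h⟩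
      · exact h
      · exfalso
        have h3 : β (⟨v, hES hv⟩⁻¹ * v') = ⟨z, hZS hz⟩ := by
          rw [map_mul, map_inv, ← hv']
          apply Subtype.ext
          show (v' : Ω)⁻¹ * (β v' : S) = z
          rw [h, inv_mul_cancel_left]
        have h4 := hZinv' β hβ (⟨v, hES hv⟩⁻¹ * v') (by rw [h3]; exact hz)
        apply hno
        have h5 : (v' : Ω) = v * (v⁻¹ * v') := by rw [mul_inv_cancel_left]
        rw [h5]
        exact E.mul_mem hv (hZE h4)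
    have h3 : ∀ x : S, (x : Ω) ∈ E → (((β * β) x : S) : Ω) ∈ E := key (β * β) (Subgroup.mul_mem _ hβ hβ) h2
    have h4 : ∀ j : ℕ, ∀ x : S, (x : Ω) ∈ E → ((((β * β) ^ j) x : S) : Ω) ∈ E := by
      intro j
      induction j with
      | zero => intro x hx; exact hx
      | succ j ih =>
        intro x hx
        rw [pow_succ']
        exact h3 _ (ih x hx)
    -- `β` moves the noncentral elements of `E` out of `E`
    have h5 : ∀ x : S, (x : Ω) ∈ E → (x : Ω) ∉ Z → ((β x : S) : Ω) ∉ E := by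
      intro x hx hxZ h6
      have h2 : v⁻¹ * (x : Ω) ∈ Z := by
        rw [idx_two hZEi (E.inv_mem hv) hx]
        exact ⟨fun h => absurd (by rw [← inv_inv v]; exact Z.inv_mem h) hvZ, fun h => absurd h hxZ⟩
      have h7 : ((β (⟨v, hES hv⟩⁻¹ * x) : S) : Ω) ∈ Z := hZinv β hβ _ h2
      have h8 : v' = β x * (β (⟨v, hES hv⟩⁻¹ * x))⁻¹ := by
        rw [← map_inv, ← map_mul, hv']
        congr 1
        group
      apply hno
      rw [h8]
      exact E.mul_mem h6 (E.inv_mem (hZE h7))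
    have hn : orderOf β ≠ 0 := (orderOf_pos β).ne'
    obtain ⟨a, m, hm, hom⟩ := Nat.exists_eq_pow_mul_and_not_dvd hn 2 (by norm_num)
    obtain ⟨j, hj⟩ : ∃ j, m = 2 * j + 1 := by
      rcases Nat.even_or_odd' m with ⟨j, h | h⟩
      · exact absurd ⟨j, h⟩ hm
      · exact ⟨j, h⟩
    have h6 : β ^ m = β * (β * β) ^ j := by
      rw [hj, pow_succ', pow_mul, pow_two]
    have h7 : (β ^ m) ^ 2 ^ a = 1 := by
      rw [← pow_mul, mul_comm, ← hom, pow_orderOf_eq_one]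
    obtain ⟨s, hs, h8⟩ := inner_of_pelt hS hF (Subgroup.pow_mem _ hβ m) h7
    have h9 : (((β ^ m) ⟨v, hES hv⟩ : S) : Ω) ∈ E := by
      rw [h8]
      exact (Subgroup.mem_normalizer_iff.1 (hEn hs) v).1 hv
    rw [h6] at h9
    refine h5 _ (h4 j ⟨v, hES hv⟩ hv) ?_ h9
    intro h10
    have h11 : ∀ j : ℕ, ∀ x : S, ((((β * β) ^ j) x : S) : Ω) ∈ Z → (x : Ω) ∈ Z := fun j x hx =>
      hZinv' _ (Subgroup.pow_mem _ (Subgroup.mul_mem _ hβ hβ) j) x hx
    exact hvZ (h11 j _ h10)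
  -- restriction to the essential subgroups
  have hrestr : ∀ β ∈ F.autGroup S, ∀ E (hE : F.IsEssential 2 E), ∃ κ ∈ F.autGroup E, ∀ x : E,
      ((κ x : E) : Ω) = β ⟨x, hE.1.1 x.2⟩ := by
    intro β hβ E hE
    obtain ⟨κ, hκ⟩ := exists_restrict_aut hE.1.1 (iff_of_imp (fun β hβ x hx => hpres β hβ E hE x hx) β hβ)
    exact ⟨κ, restrict_autGroup le_rfl hE.1.1 hβ hκ, hκ⟩
  obtain ⟨W1, hW1Z, hW1i, hCW1, hZCW1, hW1A, v1, hv1, hv1Z, hv1v1, hN1⟩ := hdata E1 hE1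
  obtain ⟨hZE1, ⟨hE1ab, hZE1i, -⟩, hE1n, hE1i⟩ := hess E1 hE1
  have hE1S := hE1.1.1
  -- a second essential subgroup
  obtain ⟨E2, hE2, hE21⟩ : ∃ E2, F.IsEssential 2 E2 ∧ E2 ≠ E1 := by
    by_contra hno
    push Not at hno
    have h1 : F.IsNormal E1 := by
      refine isNormal_of_essential hS hF ?_
      rintro Q (rfl | hQ)
      · exact ⟨hE1S, iff_of_imp (fun β hβ x hx => hpres β hβ E1 hE1 x hx)⟩
      · rw [hno Q hQ]
        exact ⟨le_rfl, iff_of_imp (fun α _ x _ => (α x).2)⟩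
    have h2 := hnoNorm E1 h1
    rw [h2, Subgroup.mem_bot] at hv1
    exact hv1Z (by rw [hv1]; exact Z.one_mem)
  obtain ⟨W2, hW2Z, hW2i, hCW2, hZCW2, hW2A, v2, hv2, hv2Z, hv2v2, hN2⟩ := hdata E2 hE2
  obtain ⟨hZE2, ⟨hE2ab, hZE2i, -⟩, hE2n, hE2i⟩ := hess E2 hE2
  have hE2S := hE2.1.1
  have hv21 : v2 ∉ E1 := by
    intro h
    apply hE21
    exact le_antisymm (hEeq E2 hZE2 hZE2i hE2S v2 hv2 hv2Z E1 hZE1 h) (hEeq E1 hZE1 hZE1i hE1S v2 h hv2Z E2 hZE2 hv2)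
  have hthird : ∀ Q, F.IsEssential 2 Q → Q = E1 ∨ Q = E2 := by
    intro Q hQ
    obtain ⟨W, -, -, -, -, -, v, hv, hvZ, hvv, -⟩ := hdata Q hQ
    obtain ⟨hZQ, ⟨-, hZQi, -⟩, -, -⟩ := hess Q hQ
    have hQS := hQ.1.1
    rcases hinvol E1 hE1 v2 (hE2S hv2) hv21 hv2v2 v (hQS hv) hvZ hvv with h | ⟨z, hz, h⟩
    · left
      exact le_antisymm (hEeq Q hZQ hZQi hQS v hv hvZ E1 hZE1 h) (hEeq E1 hZE1 hZE1i hE1S v h hvZ Q hZQ hv)
    · right
      have h' : v ∈ E2 := by rw [h]; exact E2.mul_mem hv2 (hZE2 hz)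
      exact le_antisymm (hEeq Q hZQ hZQi hQS v hv hvZ E2 hZE2 h') (hEeq E2 hZE2 hZE2i hE2S v h' hvZ Q hZQ hv)
  -- `M = [Z, Aut_F(S)]`
  set M : Subgroup Ω := Subgroup.closure {y | ∃ β ∈ F.autGroup S, ∃ x : S, (x : Ω) ∈ Z ∧ y = (x : Ω)⁻¹ * ((β x : S) : Ω)} with hM
  have hMgen : ∀ β ∈ F.autGroup S, ∀ x : S, (x : Ω) ∈ Z → (x : Ω)⁻¹ * ((β x : S) : Ω) ∈ M :=
    fun β hβ x hx => Subgroup.subset_closure ⟨β, hβ, x, hx, rfl⟩
  have hMW : ∀ E (hE : F.IsEssential 2 E) (W : Subgroup Ω), W ≤ Z → (∀ z ∈ Z, ∃ c ∈ C, ∃ w ∈ W, z = c * w) →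
      (∀ α ∈ F.autGroup E, ∀ x : E, (x : Ω) ∈ W → ((α x : E) : Ω) ∈ W) → M ≤ W := by
    intro E hE W hWZ hZCW hWA
    rw [hM, Subgroup.closure_le]
    rintro _ ⟨β, hβ, x, hx, rfl⟩
    obtain ⟨c, hc, w, hw, hxe⟩ := hZCW x hx
    have h1 : x = ⟨c, hZS (hCZ hc)⟩ * ⟨w, hZS (hWZ hw)⟩ := Subtype.ext hxe
    have h2 : β ⟨c, hZS (hCZ hc)⟩ = ⟨c, hZS (hCZ hc)⟩ := by
      by_cases hc1 : c = 1
      · have : (⟨c, hZS (hCZ hc)⟩ : S) = 1 := Subtype.ext hc1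
        rw [this, map_one]
      · apply Subtype.ext
        refine hC2 _ (comm_inv β hβ _ hc) c hc (fun h3 => hc1 ?_) hc1
        have h4 : β ⟨c, hZS (hCZ hc)⟩ = β 1 := by rw [map_one]; exact Subtype.ext h3
        exact congrArg Subtype.val (β.injective h4)
    obtain ⟨κ, hκ, hκβ⟩ := hrestr β hβ E hE
    have hwE : w ∈ E := (hess E hE).1 (hWZ hw)
    have h3 : ((β ⟨w, hZS (hWZ hw)⟩ : S) : Ω) ∈ W := by
      rw [← hκβ ⟨w, hwE⟩]
      exact hWA κ hκ ⟨w, hwE⟩ hw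
    have h4 : (x : Ω)⁻¹ * ((β x : S) : Ω) = w⁻¹ * ((β ⟨w, hZS (hWZ hw)⟩ : S) : Ω) := by
      rw [h1, map_mul, h2]
      show (c * w)⁻¹ * (c * ((β ⟨w, hZS (hWZ hw)⟩ : S) : Ω)) = _
      group
    rw [SetLike.mem_coe, h4]
    exact W.mul_mem (W.inv_mem hw) h3
  have hMW1 := hMW E1 hE1 W1 hW1Z hZCW1 hW1A
  have hMW2 := hMW E2 hE2 W2 hW2Z hZCW2 hW2A
  have hMZ : M ≤ Z := hMW1.trans hW1Z
  set T := C ⊔ M with hT
  have hTZ : T ≤ Z := sup_le hCZ hMZ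
  set N := Subgroup.closure ({v1, v2} : Set Ω) ⊔ T with hN
  have hTN : T ≤ N := le_sup_right
  have hCN : C ≤ N := le_sup_left.trans hTN
  have hMN : M ≤ N := le_sup_right.trans hTN
  have hv1N : v1 ∈ N := Subgroup.mem_sup_left (Subgroup.subset_closure (Set.mem_insert _ _))
  have hv2N : v2 ∈ N := Subgroup.mem_sup_left (Subgroup.subset_closure (Set.mem_insert_of_mem _ rfl))
  have hNS : N ≤ S := by
    refine sup_le ?_ (hTZ.trans hZS)
    rw [Subgroup.closure_le]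
    rintro _ (rfl | rfl)
    · exact hE1S hv1
    · exact hE2S hv2
  have hNn : ∀ s ∈ S, ∀ n ∈ N, s * n * s⁻¹ ∈ N := by
    intro s hs n hn
    have h1 := N.mul_mem (hCN (hcomm s hs n (hNS hn))) hn
    rwa [inv_mul_cancel_right] at h1
  have hd1 : ∀ β ∈ F.autGroup E1, ∀ x : E1, (x : Ω)⁻¹ * ((β x : E1) : Ω) ∈ N :=
    hN1 N hCN hv1N (fun β hβ x hx => hMN (hMgen β hβ x hx))
  have hd2 : ∀ β ∈ F.autGroup E2, ∀ x : E2, (x : Ω)⁻¹ * ((β x : E2) : Ω) ∈ N :=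
    hN2 N hCN hv2N (fun β hβ x hx => hMN (hMgen β hβ x hx))
  have hdS : ∀ β ∈ F.autGroup S, ∀ x : S, (x : Ω)⁻¹ * ((β x : S) : Ω) ∈ N := by
    intro β hβ
    let K : Subgroup Ω :=
      { carrier := {x | ∃ hx : x ∈ S, x⁻¹ * ((β ⟨x, hx⟩ : S) : Ω) ∈ N}
        one_mem' := ⟨S.one_mem, by
          rw [show (⟨1, S.one_mem⟩ : S) = 1 from rfl, map_one]; simp⟩
        mul_mem' := by
          rintro a b ⟨ha, ha'⟩ ⟨hb, hb'⟩
          refine ⟨S.mul_mem ha hb, ?_⟩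
          have h1 : (⟨a * b, S.mul_mem ha hb⟩ : S) = ⟨a, ha⟩ * ⟨b, hb⟩ := rfl
          rw [h1, map_mul]
          show (a * b)⁻¹ * (((β ⟨a, ha⟩ : S) : Ω) * ((β ⟨b, hb⟩ : S) : Ω)) ∈ N
          have h2 : (a * b)⁻¹ * (((β ⟨a, ha⟩ : S) : Ω) * ((β ⟨b, hb⟩ : S) : Ω)) =
            (b⁻¹ * (a⁻¹ * ((β ⟨a, ha⟩ : S) : Ω)) * b⁻¹⁻¹) * (b⁻¹ * ((β ⟨b, hb⟩ : S) : Ω)) := by group
          rw [h2]
          exact N.mul_mem (hNn _ (S.inv_mem hb) _ ha') hb'
        inv_mem' := by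
          rintro a ⟨ha, ha'⟩
          refine ⟨S.inv_mem ha, ?_⟩
          have h1 : (⟨a⁻¹, S.inv_mem ha⟩ : S) = (⟨a, ha⟩ : S)⁻¹ := rfl
          rw [h1, map_inv]
          show a⁻¹⁻¹ * ((β ⟨a, ha⟩ : S) : Ω)⁻¹ ∈ N
          have h2 : a⁻¹⁻¹ * ((β ⟨a, ha⟩ : S) : Ω)⁻¹ = a * (a⁻¹ * ((β ⟨a, ha⟩ : S) : Ω))⁻¹ * a⁻¹ := by group
          rw [h2]
          exact hNn a ha _ (N.inv_mem ha') }
    have hE1K : E1 ≤ K := by
      intro x hx
      obtain ⟨κ, hκ, hκβ⟩ := hrestr β hβ E1 hE1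
      refine ⟨hE1S hx, ?_⟩
      have := hd1 κ hκ ⟨x, hx⟩
      rwa [hκβ] at this
    have hv2K : v2 ∈ K := by
      obtain ⟨κ, hκ, hκβ⟩ := hrestr β hβ E2 hE2
      refine ⟨hE2S hv2, ?_⟩
      have := hd2 κ hκ ⟨v2, hv2⟩
      rwa [hκβ] at this
    have hKS : K = S := eq_of_relIndex' (p := 2) hE1i hE1K (fun x hx => hx.1) hv2K hv21
    intro x
    have hx : (x : Ω) ∈ K := by rw [hKS]; exact x.2
    exact hx.2
  have hfoc : F.focalSubgroup ≤ N := by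
    refine focal_le_of_essential hS hF (fun s hs x hx => ?_) ?_
    · have h2 : x⁻¹ * (s * x * s⁻¹) = x⁻¹ * s * x⁻¹⁻¹ * s⁻¹ := by group
      rw [h2]
      exact hCN (hcomm _ (S.inv_mem hx) s hs)
    · rintro Q (rfl | hQ)
      · exact hdS
      · rcases hthird Q hQ with rfl | rfl
        · exact hd1
        · exact hd2
  have hSN : S ≤ N := by
    have h1 := CfsgLib.FT.focal_eq hS hF
    have h2 : F.hyperfocalSubgroup 2 ≤ F.focalSubgroup := by rw [h1]; exact le_sup_left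
    rw [hhyp] at h2
    exact h2.trans hfoc
  -- `Z ≤ T`
  have hZT : Z ≤ T := by
    intro z hz
    have hTn : ∀ τ ∈ T, ∀ s ∈ S, s * τ = τ * s := fun τ hτ s hs => hZc s hs τ (hTZ hτ)
    -- normal form
    have hform : ∀ x ∈ N, ∃ m n : ℤ, ∃ τ ∈ T, x = v1 ^ m * v2 ^ n * τ := by
      intro x hx
      have hx' : x ∈ Subgroup.closure (({v1, v2} : Set Ω) ∪ (T : Set Ω)) := by
        rw [Subgroup.closure_union, Subgroup.closure_eq]; exact hx
      have hv1S := hE1S hv1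
      have hv2S := hE2S hv2
      have hsw : ∀ m n : ℤ, ∃ τ ∈ T, v2 ^ n * v1 ^ m = v1 ^ m * v2 ^ n * τ := by
        intro m n
        have h1 := hcomm (v2 ^ n) (S.zpow_mem hv2S n) (v1 ^ m) (S.zpow_mem hv1S m)
        refine ⟨_, (le_sup_left : C ≤ T) h1, ?_⟩
        have h2 := hZc (v1 ^ m * v2 ^ n) (S.mul_mem (S.zpow_mem hv1S m) (S.zpow_mem hv2S n)) _ (hCZ h1)
        rw [h2]; group
      refine Subgroup.closure_induction (p := fun x _ => ∃ m n : ℤ, ∃ τ ∈ T, x = v1 ^ m * v2 ^ n * τ) ?_ ?_ ?_ ?_ hx'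
      · rintro x ((rfl | rfl) | hx)
        · exact ⟨1, 0, 1, T.one_mem, by simp⟩
        · exact ⟨0, 1, 1, T.one_mem, by simp⟩
        · exact ⟨0, 0, x, hx, by simp⟩
      · exact ⟨0, 0, 1, T.one_mem, by simp⟩
      · rintro _ _ _ _ ⟨m, n, τ, hτ, rfl⟩ ⟨m', n', τ', hτ', rfl⟩
        obtain ⟨σ, hσ, hσe⟩ := hsw m' n
        refine ⟨m + m', n + n', σ * τ * τ', T.mul_mem (T.mul_mem hσ hτ) hτ', ?_⟩
        have e1 := hTn τ hτ (v1 ^ m' * v2 ^ n') (S.mul_mem (S.zpow_mem hv1S _) (S.zpow_mem hv2S _))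
        have e2 := hTn σ hσ (v2 ^ n') (S.zpow_mem hv2S _)
        calc v1 ^ m * v2 ^ n * τ * (v1 ^ m' * v2 ^ n' * τ') = v1 ^ m * v2 ^ n * (τ * (v1 ^ m' * v2 ^ n')) * τ' := by group
          _ = v1 ^ m * (v2 ^ n * v1 ^ m') * v2 ^ n' * τ * τ' := by rw [← e1]; group
          _ = v1 ^ m * (v1 ^ m' * v2 ^ n * σ) * v2 ^ n' * τ * τ' := by rw [hσe]
          _ = v1 ^ (m + m') * v2 ^ n * (σ * v2 ^ n') * τ * τ' := by rw [zpow_add]; group
          _ = v1 ^ (m + m') * v2 ^ (n + n') * (σ * τ * τ') := by rw [← e2, zpow_add v2]; group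
      · rintro _ _ ⟨m, n, τ, hτ, rfl⟩
        obtain ⟨σ, hσ, hσe⟩ := hsw (-m) (-n)
        refine ⟨-m, -n, σ * τ⁻¹, T.mul_mem hσ (T.inv_mem hτ), ?_⟩
        have e1 := hTn τ⁻¹ (T.inv_mem hτ) (v2 ^ (-n) * v1 ^ (-m)) (S.mul_mem (S.zpow_mem hv2S _) (S.zpow_mem hv1S _))
        calc (v1 ^ m * v2 ^ n * τ)⁻¹ = τ⁻¹ * (v2 ^ (-n) * v1 ^ (-m)) := by group
          _ = (v2 ^ (-n) * v1 ^ (-m)) * τ⁻¹ := by rw [e1]
          _ = v1 ^ (-m) * v2 ^ (-n) * (σ * τ⁻¹) := by rw [hσe]; group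
    obtain ⟨m, n, τ, hτ, hze⟩ := hform z (hSN (hZS hz))
    have h1 : v1 ^ m * v2 ^ n ∈ Z := by
      have h2 : v1 ^ m * v2 ^ n = z * τ⁻¹ := by rw [hze, mul_inv_cancel_right]
      rw [h2]; exact Z.mul_mem hz (Z.inv_mem (hTZ hτ))
    have h2 : v2 ^ n = 1 := by
      rcases Int.even_or_odd' n with ⟨k, hk | hk⟩
      · rw [hk, zpow_mul, zpow_ofNat, pow_two, hv2v2, one_zpow]
      · exfalso
        have h3 : v2 ^ n = v2 := by
          rw [hk, zpow_add, zpow_mul, zpow_ofNat, pow_two, hv2v2, one_zpow, one_mul, zpow_one]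
        rw [h3] at h1
        apply hv21
        have h4 := E1.mul_mem (E1.inv_mem (E1.zpow_mem hv1 m)) (hZE1 h1)
        rwa [inv_mul_cancel_left] at h4
    rw [h2, mul_one] at h1 hze
    have h3 : v1 ^ m = 1 := by
      rcases Int.even_or_odd' m with ⟨k, hk | hk⟩
      · rw [hk, zpow_mul, zpow_ofNat, pow_two, hv1v1, one_zpow]
      · exfalso
        have h3 : v1 ^ m = v1 := by
          rw [hk, zpow_add, zpow_mul, zpow_ofNat, pow_two, hv1v1, one_zpow, one_mul, zpow_one]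
        rw [h3] at h1
        exact hv1Z h1
    rw [h3, one_mul] at hze
    rw [hze]; exact hτ
  -- `W1 = M = W2`
  have hWM : ∀ W : Subgroup Ω, W ≤ Z → (∀ x ∈ C, x ∈ W → x = 1) → M ≤ W → W ≤ M := by
    intro W hWZ hCW hMW w hw
    have h1 := hZT (hWZ hw)
    have h2 : ∃ c ∈ C, ∃ m ∈ M, c * m = w := by
      have hx' : w ∈ Subgroup.closure ((C : Set Ω) ∪ (M : Set Ω)) := by
        rw [Subgroup.closure_union, Subgroup.closure_eq, Subgroup.closure_eq]; exact h1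
      refine Subgroup.closure_induction (p := fun x _ => ∃ c ∈ C, ∃ m ∈ M, c * m = x) ?_ ?_ ?_ ?_ hx'
      · rintro x (hx | hx)
        · exact ⟨x, hx, 1, M.one_mem, mul_one x⟩
        · exact ⟨1, C.one_mem, x, hx, one_mul x⟩
      · exact ⟨1, C.one_mem, 1, M.one_mem, mul_one 1⟩
      · rintro _ _ _ _ ⟨c, hc, m, hm, rfl⟩ ⟨c', hc', m', hm', rfl⟩
        refine ⟨c * c', C.mul_mem hc hc', m * m', M.mul_mem hm hm', ?_⟩
        have e1 := hZc c' (hZS (hCZ hc')) m (hMZ hm)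
        calc c * c' * (m * m') = c * (c' * m) * m' := by group
          _ = c * (m * c') * m' := by rw [e1]
          _ = c * m * (c' * m') := by group
      · rintro _ _ ⟨c, hc, m, hm, rfl⟩
        refine ⟨c⁻¹, C.inv_mem hc, m⁻¹, M.inv_mem hm, ?_⟩
        have e1 := hZc c⁻¹ (S.inv_mem (hZS (hCZ hc))) m⁻¹ (M.inv_mem hm |> fun h => hMZ h)
        rw [mul_inv_rev]; exact e1
    obtain ⟨c, hc, m, hm, h3⟩ := h2
    have h4 : c ∈ W := by
      have h5 : c = w * m⁻¹ := by rw [← h3, mul_inv_cancel_right]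
      rw [h5]; exact W.mul_mem hw (W.inv_mem (hMW hm))
    rw [hCW c hc h4, one_mul] at h3
    rw [← h3]; exact hm
  have hW1M : W1 = M := le_antisymm (hWM W1 hW1Z hCW1 hMW1) hMW1
  have hW2M : W2 = M := le_antisymm (hWM W2 hW2Z hCW2 hMW2) hMW2
  have hMn : F.IsNormal M := by
    refine isNormal_of_essential hS hF ?_
    rintro Q (rfl | hQ)
    · refine ⟨hMZ.trans hZS, iff_of_imp ?_⟩
      intro β hβ x hx
      obtain ⟨κ, hκ, hκβ⟩ := hrestr β hβ E1 hE1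
      have h1 := hW1A κ hκ ⟨x, hZE1 (hMZ hx)⟩ (by rw [hW1M]; exact hx)
      rw [hκβ, hW1M] at h1
      exact h1
    · rcases hthird Q hQ with rfl | rfl
      · refine ⟨hMZ.trans hZE1, iff_of_imp ?_⟩
        rw [← hW1M]; exact hW1A
      · refine ⟨hMZ.trans hZE2, iff_of_imp ?_⟩
        rw [← hW2M]; exact hW2A
  have h1 := hnoNorm M hMn
  rw [hW1M, h1, Subgroup.relIndex_bot_left] at hW1i
  exact hW1i

end CfsgLib.Fus21
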