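import Cfsg.Agent.LibFus21Slv

set_option autoImplicit false

/-! Solvability of a system in terms of a normal subsystem and the factor system. -/

namespace CfsgLib.Fus21

open Cfsg Cfsg.FusionSystem
open scoped Pointwise commutatorElement

universe v w

variable {Ω : Type v} [Group Ω] {S T : Subgroup Ω} {Ω' : Type w} [Group Ω'] {S' : Subgroup Ω'}

/-- the image of a subgroup of `T` under an automorphism of `T` -/
def amap (α : MulAut T) (K : Subgroup Ω) : Subgroup Ω := (K.subgroupOf T).map (T.subtype.comp α.toMonoidHom)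

theorem mem_amap {α : MulAut T} {K : Subgroup Ω} {y : Ω} : y ∈ amap α K ↔ ∃ x : T, (x : Ω) ∈ K ∧ ((α x : T) : Ω) = y := by
  constructor
  · rintro ⟨x, hx, rfl⟩; exact ⟨x, hx, rfl⟩
  · rintro ⟨x, hx, rfl⟩; exact ⟨x, hx, rfl⟩

theorem amap_le (α : MulAut T) (K : Subgroup Ω) : amap α K ≤ T := by
  intro y hy
  obtain ⟨x, -, rfl⟩ := mem_amap.1 hy
  exact (α x).2

theorem inv_sc {F : FusionSystem S} {E : FusionSystem T} (hE : E.IsInvariantIn F) {α : MulAut T} (hα : α ∈ F.autGroup T)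
    {K : Subgroup Ω} (hK : E.StronglyClosed K) : E.StronglyClosed (amap α K) := by
  refine ⟨amap_le α K, fun P' hP' φ' hφ' y => ?_⟩
  obtain ⟨χ, hχ, hχv⟩ := hE.2.2.1 P' (hP'.trans (amap_le α K)) φ' hφ' α⁻¹ (Subgroup.inv_mem _ hα)
  have hφT : φ' y ∈ T := mem_S hφ' y
  have hyT : (y : Ω) ∈ T := le_S hφ' y.2
  have hle : (P'.subgroupOf T).map (T.subtype.comp (α⁻¹ : MulAut T).toMonoidHom) ≤ K := by
    rintro _ ⟨x, hx, rfl⟩
    obtain ⟨z, hz, hzx⟩ := mem_amap.1 (hP' hx)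
    have : α z = x := Subtype.ext hzx
    subst this
    show (((α⁻¹ : MulAut T) (α z) : T) : Ω) ∈ K
    rw [MulAut.inv_apply_self]; exact hz
  have hmem : (((α⁻¹ : MulAut T) ⟨y, hyT⟩ : T) : Ω) ∈ (P'.subgroupOf T).map (T.subtype.comp (α⁻¹ : MulAut T).toMonoidHom) :=
    ⟨⟨y, hyT⟩, y.2, rfl⟩
  have h1 := hχv y hφT hmem
  have h2 := hK.2 _ hle χ hχ ⟨_, hmem⟩
  rw [h1] at h2
  refine mem_amap.2 ⟨_, h2, ?_⟩
  rw [MulAut.apply_inv_self]

theorem sc_of_inv {F : FusionSystem S} {E : FusionSystem T} (hE : E.IsInvariantIn F) {K : Subgroup Ω} (hK : E.StronglyClosed K)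
    (h : ∀ α ∈ F.autGroup T, ∀ x : T, (x : Ω) ∈ K → ((α x : T) : Ω) ∈ K) : F.StronglyClosed K := by
  refine ⟨hK.1.trans hE.2.1.1, fun P hP φ hφ x => ?_⟩
  obtain ⟨α, hα, φ₀, hφ₀, hv⟩ := hE.2.2.2 P (hP.trans hK.1) φ hφ
  have h1 := hK.2 P hP φ₀ hφ₀ x
  rw [hv x (hK.1 h1)]
  exact h α hα _ h1

theorem imageAlong_sup {θ : S →* Ω'} {K L : Subgroup Ω} (hK : K ≤ S) (hL : L ≤ S) :
    imageAlong θ (K ⊔ L) = imageAlong θ K ⊔ imageAlong θ L := by
  unfold imageAlong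
  rw [Subgroup.subgroupOf_sup hK hL, Subgroup.map_sup]

theorem exists_mid {F : FusionSystem S} [Finite S] {p : ℕ} [hp : Fact p.Prime] (hS : IsPGroup p S) {E : FusionSystem T}
    (hE : E.IsInvariantIn F) (hEs : E.IsSaturated p) (hsolv : E.IsSolvableSystem) {R₀ : Subgroup Ω} (hR₀ : F.StronglyClosed R₀)
    (hRT : R₀ ≤ T) (hne : R₀ ≠ T) : ∃ K, F.StronglyClosed K ∧ K ≤ T ∧ R₀ < K ∧ ⁅K, K⁆ ≤ R₀ := by
  have hTS : T ≤ S := hE.2.1.1
  have hT : IsPGroup p T := hS.to_le hTS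
  haveI : Finite T := finite_of_le hTS
  have hR₀E : E.StronglyClosed R₀ := ⟨hRT, fun P hP φ hφ x => hR₀.2 P hP φ (hE.1 _ hφ) x⟩
  haveI hn := sc_quot_normal hR₀E
  obtain ⟨D, hD, hDs⟩ := exists_factor hT hEs hR₀E hn
  haveI := factor_finite hD
  have hp' := factor_pgroup hT hD
  set θ := QuotientGroup.mk' (R₀.subgroupOf T) with hθ
  let 𝒦 : Set (Subgroup Ω) := {K | E.StronglyClosed K ∧ R₀ ≤ K ∧ ⁅K, K⁆ ≤ R₀}
  have h𝒦n : ∀ K ∈ 𝒦, D.IsNormal (imageAlong θ K) := fun K hK =>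
    normal_of_abelian hp' hDs (sc_image hT hEs hD hK.1) (image_comm hD.2.1 hK.2.2)
  have h𝒦α : ∀ α ∈ F.autGroup T, ∀ K ∈ 𝒦, amap α K ∈ 𝒦 := by
    intro α hα K hK
    refine ⟨inv_sc hE hα hK.1, fun x hx => ?_, ?_⟩
    · have hxT := hRT hx
      refine mem_amap.2 ⟨α⁻¹ ⟨x, hxT⟩, hK.2.1 ?_, by rw [MulAut.apply_inv_self]⟩
      exact (stronglyClosed_aut hR₀ hTS (Subgroup.inv_mem _ hα) ⟨x, hxT⟩).2 hx
    · rw [Subgroup.commutator_le]
      intro x hx y hy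
      obtain ⟨a, ha, rfl⟩ := mem_amap.1 hx
      obtain ⟨b, hb, rfl⟩ := mem_amap.1 hy
      have h1 : ⁅(a : Ω), (b : Ω)⁆ ∈ R₀ := hK.2.2 (Subgroup.commutator_mem_commutator ha hb)
      have h2 := (stronglyClosed_aut hR₀ hTS hα ⁅a, b⁆).2 h1
      rw [map_commutatorElement] at h2
      exact h2
  -- the join
  obtain ⟨J, ⟨hJR, hJT, hJn, hJ𝒦⟩, hmax⟩ := exists_max_nat (P := fun J : Subgroup Ω => R₀ ≤ J ∧ J ≤ T ∧ D.IsNormal (imageAlong θ J) ∧ J ≤ sSup 𝒦)
    (fun Q => Nat.card Q) (Nat.card T) (fun Q hQ => card_le_card_S hQ.2.1)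
    ⟨R₀, le_rfl, hRT, h𝒦n R₀ ⟨hR₀E, le_rfl, Subgroup.commutator_le_self _⟩, le_sSup ⟨hR₀E, le_rfl, Subgroup.commutator_le_self _⟩⟩
  have hJeq : J = sSup 𝒦 := by
    refine le_antisymm hJ𝒦 (sSup_le fun K hK => ?_)
    have h1 := hmax (J ⊔ K) ⟨hJR.trans le_sup_left, sup_le hJT hK.1.1, by
      rw [imageAlong_sup hJT hK.1.1]; exact isNormal_sup hJn (h𝒦n K hK), sup_le hJ𝒦 (le_sSup hK)⟩
    have hfin : Finite ↥(J ⊔ K) := finite_of_le (sup_le hJT hK.1.1)
    have h2 := Subgroup.eq_of_le_of_card_ge (le_sup_left : J ≤ J ⊔ K) h1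
    rw [h2]; exact le_sup_right
  have hJα : ∀ α ∈ F.autGroup T, ∀ x : T, (x : Ω) ∈ J → ((α x : T) : Ω) ∈ J := by
    intro α hα
    have : J ≤ amap α⁻¹ J := by
      conv_lhs => rw [hJeq]
      refine sSup_le fun K hK x hx => ?_
      have h1 : amap α K ≤ J := hJeq ▸ le_sSup (h𝒦α α hα K hK)
      have hxT := hK.1.1 hx
      exact mem_amap.2 ⟨α ⟨x, hxT⟩, h1 (mem_amap.2 ⟨⟨x, hxT⟩, hx, rfl⟩), by rw [MulAut.inv_apply_self]⟩
    intro x hx
    obtain ⟨y, hy, hyx⟩ := mem_amap.1 (this hx)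
    have : α⁻¹ y = x := Subtype.ext hyx
    rw [← this, MulAut.apply_inv_self]; exact hy
  -- the centre
  have hTR : ¬ T ≤ R₀ := fun h => hne (le_antisymm hRT h)
  obtain ⟨K₁, hK₁, hRK₁, -, hKK₁⟩ := step_of_chain hT hEs ((solv_iff_chain hT hEs).1 hsolv) R₀ T hR₀E (sc_self E) hTR
  have hK₁J : K₁ ≤ J := hJeq ▸ le_sSup ⟨hK₁, hRK₁.le, hKK₁⟩
  set Q := imageAlong θ J with hQ
  haveI : Finite Q := finite_of_le hJn.1
  have hQne : Q ≠ ⊥ := by
    intro h0
    obtain ⟨x, hxK, hxR⟩ := SetLike.exists_of_lt hRK₁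
    have h1 : θ ⟨x, hK₁.1 hxK⟩ ∈ Q := mem_imageAlong.2 ⟨x, hK₁.1 hxK, hK₁J hxK, rfl⟩
    rw [h0, Subgroup.mem_bot] at h1
    exact hxR ((hD.2.1 _).1 h1)
  set Z : Subgroup (T ⧸ R₀.subgroupOf T) := (Subgroup.center Q).map Q.subtype with hZ
  have hZQ : Z ≤ Q := by rintro _ ⟨x, -, rfl⟩; exact x.2
  have hZsub : Z.subgroupOf Q = Subgroup.center Q := by
    rw [hZ]
    exact Subgroup.comap_map_eq_self_of_injective Q.subtype_injective _
  have hZn : D.IsNormal Z := isNormal_of_characteristic hJn hZQ (by rw [hZsub]; infer_instance)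
  have hZne : Z ≠ ⊥ := by
    intro h0
    have h1 : Subgroup.center Q = ⊥ := by
      rw [← hZsub, h0, Subgroup.bot_subgroupOf]
    have hnt : Nontrivial Q := (Subgroup.nontrivial_iff_ne_bot Q).2 hQne
    have h2 := (hp'.to_le hJn.1).center_nontrivial
    exact (Subgroup.nontrivial_iff_ne_bot _).1 h2 h1
  have hZmem : ∀ z, z ∈ Z ↔ z ∈ Q ∧ ∀ w ∈ Q, z * w = w * z := by
    intro z
    constructor
    · rintro ⟨z, hz, rfl⟩
      exact ⟨z.2, fun w hw => congrArg Subtype.val (Subgroup.mem_center_iff.1 hz ⟨w, hw⟩).symm⟩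
    · rintro ⟨hz, hc⟩
      exact ⟨⟨z, hz⟩, Subgroup.mem_center_iff.2 fun w => Subtype.ext (hc w w.2).symm, rfl⟩
  have hK₀mem : ∀ x : T, (x : Ω) ∈ preimageAlong θ Z ↔ (x : Ω) ∈ J ∧ ∀ y : T, (y : Ω) ∈ J → ((⁅x, y⁆ : T) : Ω) ∈ R₀ := by
    intro x
    have hker : ∀ s : T, θ s = 1 → (s : Ω) ∈ J := fun s hs => hJR ((hD.2.1 s).1 hs)
    have hJpre := preimageAlong_imageAlong_eq (α := θ) hJT hker
    have h1 : (x : Ω) ∈ J ↔ θ x ∈ Q := by
      conv_lhs => rw [← hJpre]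
      rw [mem_preimageAlong]
      exact ⟨fun h => h.2, fun h => ⟨x.2, h⟩⟩
    rw [mem_preimageAlong]
    constructor
    · rintro ⟨_, h⟩
      obtain ⟨h2, h3⟩ := (hZmem _).1 h
      refine ⟨h1.2 h2, fun y hy => ?_⟩
      rw [← hD.2.1, map_commutatorElement, commutatorElement_eq_one_iff_mul_comm]
      exact h3 _ (mem_imageAlong.2 ⟨y, y.2, hy, rfl⟩)
    · rintro ⟨h2, h3⟩
      refine ⟨x.2, (hZmem _).2 ⟨h1.1 h2, fun w hw => ?_⟩⟩
      obtain ⟨y, hyT, hyJ, rfl⟩ := mem_imageAlong.1 hw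
      have h4 := h3 ⟨y, hyT⟩ hyJ
      rw [← hD.2.1, map_commutatorElement, commutatorElement_eq_one_iff_mul_comm] at h4
      exact h4
  refine ⟨preimageAlong θ Z, sc_of_inv hE (sc_preimage hT hEs hR₀E hD (normal_stronglyClosed hZn)) ?_, preimageAlong_le _ _, ?_, ?_⟩
  · intro α hα x hx
    rw [hK₀mem] at hx ⊢
    refine ⟨hJα α hα x hx.1, fun y hy => ?_⟩
    have h1 := hx.2 (α⁻¹ y) (hJα _ (Subgroup.inv_mem _ hα) y hy)
    have h2 := (stronglyClosed_aut hR₀ hTS hα _).2 h1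
    rw [map_commutatorElement, MulAut.apply_inv_self] at h2
    exact h2
  · refine lt_of_le_of_ne (fun x hx => mem_preimageAlong.2 ⟨hRT hx, ?_⟩) fun he => hZne ?_
    · rw [(hD.2.1 ⟨x, hRT hx⟩).2 hx]; exact Subgroup.one_mem _
    · rw [eq_bot_iff]
      intro y hy
      obtain ⟨s, rfl⟩ := QuotientGroup.mk'_surjective (R₀.subgroupOf T) y
      have h1 : (s : Ω) ∈ preimageAlong θ Z := mem_preimageAlong.2 ⟨s.2, hy⟩
      rw [← he] at h1
      exact Subgroup.mem_bot.2 ((hD.2.1 s).2 h1)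
  · rw [Subgroup.commutator_le]
    intro x hx y hy
    have hxT := preimageAlong_le _ _ hx
    have hyT := preimageAlong_le _ _ hy
    exact ((hK₀mem ⟨x, hxT⟩).1 hx).2 ⟨y, hyT⟩ ((hK₀mem ⟨y, hyT⟩).1 hy).1

theorem solv_iff_normal_factor [Finite S] {p : ℕ} [hp : Fact p.Prime] (hS : IsPGroup p S) {F : FusionSystem S} (hF : F.IsSaturated p)
    {E : FusionSystem T} (hE : E.IsInvariantIn F) (hEs : E.IsSaturated p) {θ : S →* Ω'} {D : FusionSystem S'}
    (hD : F.IsFactorSystem T θ D) : F.IsSolvableSystem ↔ (E.IsSolvableSystem ∧ D.IsSolvableSystem) := by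
  have hTS : T ≤ S := hE.2.1.1
  have hT : IsPGroup p T := hS.to_le hTS
  haveI : Finite T := finite_of_le hTS
  haveI := factor_finite hD
  have hp' := factor_pgroup hS hD
  have hTsc := hE.2.1
  have hsurj := factor_surjective hS hF hTsc hD
  have hDs := saturated_of_surjective hS hF hsurj
  have hr := hD.2.2.1
  rw [solv_iff_chain hS hF]
  constructor
  · rintro ⟨n, A, h0, hn, hmono, hsc, hcomm⟩
    constructor
    · rw [solv_iff_chain hT hEs]
      refine ⟨n, fun i => A i ⊓ T, by show A 0 ⊓ T = ⊥; rw [h0, bot_inf_eq], by show A (Fin.last n) ⊓ T = T; rw [hn, inf_eq_right.2 hTS],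
        fun i j hij => inf_le_inf_right T (hmono hij), fun i => ⟨inf_le_right, fun P hP φ hφ x => ⟨(hsc i).2 P (hP.trans inf_le_left) φ (hE.1 _ hφ) x, mem_S hφ x⟩⟩, fun i => ?_⟩
      refine le_inf ((Subgroup.commutator_mono inf_le_left inf_le_left).trans (hcomm i)) ?_
      exact (Subgroup.commutator_mono inf_le_right inf_le_right).trans (Subgroup.commutator_le_self T)
    · rw [solv_iff_chain hp' hDs]
      refine ⟨n, fun i => imageAlong θ (A i), ?_, ?_, fun i j hij => imageAlong_mono (hmono hij), fun i => sc_image hS hF hD (hsc i), fun i => ?_⟩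
      · show imageAlong θ (A 0) = ⊥
        rw [h0, imageAlong, Subgroup.bot_subgroupOf, Subgroup.map_bot]
      · show imageAlong θ (A (Fin.last n)) = S'
        rw [hn, imageAlong, Subgroup.subgroupOf_self, ← MonoidHom.range_eq_map, hr]
      · show ⁅imageAlong θ (A i.succ), imageAlong θ (A i.succ)⁆ ≤ imageAlong θ (A i.castSucc)
        rw [Subgroup.commutator_le]
        intro x hx y hy
        obtain ⟨a, ha, haK, rfl⟩ := mem_imageAlong.1 hx
        obtain ⟨b, hb, hbK, rfl⟩ := mem_imageAlong.1 hy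
        rw [← map_commutatorElement]
        let a' : S := ⟨a, ha⟩
        let b' : S := ⟨b, hb⟩
        exact mem_imageAlong.2 ⟨⁅a, b⁆, (⁅a', b'⁆).2, hcomm i (Subgroup.commutator_mem_commutator haK hbK), rfl⟩
  · rintro ⟨h1, h2⟩
    have hstep := step_of_chain hp' hDs ((solv_iff_chain hp' hDs).1 h2)
    refine chain_of_step fun R hR hRS => ?_
    by_cases hTR : T ≤ R
    · have hker : ∀ s : S, θ s = 1 → (s : Ω) ∈ R := fun s hs => hTR ((hD.2.1 s).1 hs)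
      have hpre := preimageAlong_imageAlong_eq (α := θ) hR.1 hker
      obtain ⟨K, hK, hRK, -, hKK⟩ := hstep (imageAlong θ R) S' (sc_image hS hF hD hR) (sc_self D) (by
        intro h
        apply hRS
        refine le_antisymm hR.1 ?_
        rw [← hpre]
        intro x hx
        exact mem_preimageAlong.2 ⟨hx, h (hr ▸ ⟨⟨x, hx⟩, rfl⟩)⟩)
      refine ⟨preimageAlong θ K, sc_preimage hS hF hTsc hD hK, lt_of_le_of_ne ?_ ?_, ?_⟩
      · rw [← hpre]; exact preimageAlong_mono hRK.le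
      · intro he
        apply hRK.ne
        rw [he, imageAlong_preimageAlong (hr.symm ▸ hK.1)]
      · rw [Subgroup.commutator_le]
        intro x hx y hy
        obtain ⟨hxS, hx⟩ := mem_preimageAlong.1 hx
        obtain ⟨hyS, hy⟩ := mem_preimageAlong.1 hy
        rw [← hpre]
        let x' : S := ⟨x, hxS⟩
        let y' : S := ⟨y, hyS⟩
        refine mem_preimageAlong.2 ⟨(⁅x', y'⁆).2, ?_⟩
        have : θ ⁅x', y'⁆ ∈ imageAlong θ R := by
          rw [map_commutatorElement]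
          exact hKK (Subgroup.commutator_mem_commutator hx hy)
        exact this
    · have hne : R ⊓ T ≠ T := fun h => hTR (h ▸ inf_le_left)
      obtain ⟨K, hK, hKT, hRK, hKK⟩ := exists_mid hS hE hEs h1 (sc_inf hR hTsc) inf_le_right hne
      refine ⟨K ⊔ R, sc_sup hS hF hK hR, lt_of_le_of_ne le_sup_right ?_, comm_sup_le (hK.1.trans (stronglyClosed_normal_S hR)) (hKK.trans inf_le_left)⟩
      intro he
      exact hRK.not_ge (le_inf (le_sup_left.trans he.ge) hKT)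

end CfsgLib.Fus21
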