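import Cfsg.Agent.LibFus21Mor3
import Cfsg.Agent.LibFus21Slv2

set_option autoImplicit false

/-! Transport of structure along an isomorphism of fusion systems. -/

namespace CfsgLib.Fus21

open Cfsg Cfsg.FusionSystem

universe u v

variable {Ω : Type u} [Group Ω] {S : Subgroup Ω} {Ω' : Type v} [Group Ω'] {S' : Subgroup Ω'}

/-- corresponding subgroups -/
def SR (e : S ≃* S') (P : Subgroup Ω) (P' : Subgroup Ω') : Prop :=
  P ≤ S ∧ P' ≤ S' ∧ ∀ x : S, (x : Ω) ∈ P ↔ ((e x : S') : Ω') ∈ P'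

/-- corresponding homomorphisms -/
def HR (e : S ≃* S') {P : Subgroup Ω} {P' : Subgroup Ω'} (φ : P →* Ω) (φ' : P' →* Ω') : Prop :=
  ∀ (x : S) (hx : (x : Ω) ∈ P) (hx' : ((e x : S') : Ω') ∈ P'), ∃ y : S, φ ⟨x, hx⟩ = y ∧ φ' ⟨((e x : S') : Ω'), hx'⟩ = e y

/-- corresponding systems -/
def FR (e : S ≃* S') {R : Subgroup Ω} {R' : Subgroup Ω'} (D : FusionSystem R) (D' : FusionSystem R') : Prop :=
  SR e R R' ∧ ∀ (P : Subgroup Ω) (P' : Subgroup Ω') (φ : P →* Ω) (φ' : P' →* Ω'), SR e P P' → HR e φ φ' →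
    (φ ∈ D.Hom P ↔ φ' ∈ D'.Hom P')

variable {e : S ≃* S'}

theorem SR.symm {P : Subgroup Ω} {P' : Subgroup Ω'} (h : SR e P P') : SR e.symm P' P := by
  refine ⟨h.2.1, h.1, fun x => ?_⟩
  have := h.2.2 (e.symm x)
  rw [MulEquiv.apply_symm_apply] at this
  exact this.symm

theorem HR.symm {P : Subgroup Ω} {P' : Subgroup Ω'} {φ : P →* Ω} {φ' : P' →* Ω'} (h : HR e φ φ') :
    HR e.symm φ' φ := by
  intro x hx hx'
  have hx1 : ((e (e.symm x) : S') : Ω') ∈ P' := by rw [MulEquiv.apply_symm_apply]; exact hx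
  obtain ⟨y, hy, hy'⟩ := h (e.symm x) hx' hx1
  refine ⟨e y, ?_, by rw [MulEquiv.symm_apply_apply]; exact hy⟩
  rw [← hy']
  have h1 : (⟨(x : Ω'), hx⟩ : P') = ⟨((e (e.symm x) : S') : Ω'), hx1⟩ := by
    apply Subtype.ext
    show (x : Ω') = ((e (e.symm x) : S') : Ω')
    rw [MulEquiv.apply_symm_apply]
  rw [h1]

theorem FR.symm {R : Subgroup Ω} {R' : Subgroup Ω'} {D : FusionSystem R} {D' : FusionSystem R'} (h : FR e D D') :
    FR e.symm D' D := by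
  refine ⟨h.1.symm, fun P' P φ' φ hP hφ => ?_⟩
  have h1 : SR e P P' := hP.symm
  have h2 : HR e φ φ' := hφ.symm
  exact (h.2 P P' φ φ' h1 h2).symm

theorem exists_SR (e : S ≃* S') {P : Subgroup Ω} (hP : P ≤ S) : ∃ P' : Subgroup Ω', SR e P P' := by
  refine ⟨(P.subgroupOf S).map (S'.subtype.comp e.toMonoidHom), hP, ?_, fun x => ?_⟩
  · rintro _ ⟨x, -, rfl⟩
    exact (e x).2
  · constructor
    · intro hx
      exact ⟨x, hx, rfl⟩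
    · rintro ⟨y, hy, hyx⟩
      have : e y = e x := Subtype.ext hyx
      rw [← e.injective this]
      exact hy

theorem exists_SR' (e : S ≃* S') {P' : Subgroup Ω'} (hP' : P' ≤ S') : ∃ P : Subgroup Ω, SR e P P' := by
  obtain ⟨P, hP⟩ := exists_SR e.symm hP'
  exact ⟨P, hP.symm⟩

theorem SR.unique {P : Subgroup Ω} {P' P'' : Subgroup Ω'} (h : SR e P P') (h' : SR e P P'') : P' = P'' := by
  ext y
  constructor
  · intro hy
    have h1 := (h.2.2 (e.symm ⟨y, h.2.1 hy⟩)).2 (by rw [MulEquiv.apply_symm_apply]; exact hy)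
    have h2 := (h'.2.2 _).1 h1
    rw [MulEquiv.apply_symm_apply] at h2
    exact h2
  · intro hy
    have h1 := (h'.2.2 (e.symm ⟨y, h'.2.1 hy⟩)).2 (by rw [MulEquiv.apply_symm_apply]; exact hy)
    have h2 := (h.2.2 _).1 h1
    rw [MulEquiv.apply_symm_apply] at h2
    exact h2

theorem SR.unique' {P P₁ : Subgroup Ω} {P' : Subgroup Ω'} (h : SR e P P') (h' : SR e P₁ P') : P = P₁ :=
  SR.unique h.symm h'.symm

theorem SR_self (e : S ≃* S') : SR e S S' := ⟨le_rfl, le_rfl, fun x => ⟨fun _ => (e x).2, fun _ => x.2⟩⟩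

theorem SR_bot (e : S ≃* S') : SR e ⊥ ⊥ := by
  refine ⟨bot_le, bot_le, fun x => ?_⟩
  rw [Subgroup.mem_bot, Subgroup.mem_bot]
  constructor
  · intro h
    have : x = 1 := Subtype.ext h
    rw [this, map_one]; rfl
  · intro h
    have h1 : e x = 1 := Subtype.ext h
    have : x = 1 := by simpa using h1
    rw [this]; rfl

/-- the isomorphism of corresponding subgroups -/
theorem SR.equiv {P : Subgroup Ω} {P' : Subgroup Ω'} (h : SR e P P') :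
    ∃ f : P ≃* P', ∀ (x : S) (hx : (x : Ω) ∈ P), ((f ⟨x, hx⟩ : P') : Ω') = e x := by
  refine ⟨{ toFun := fun x => ⟨e ⟨x, h.1 x.2⟩, (h.2.2 _).1 x.2⟩
            invFun := fun y => ⟨e.symm ⟨y, h.2.1 y.2⟩, (h.2.2 _).2 (by rw [MulEquiv.apply_symm_apply]; exact y.2)⟩
            left_inv := fun x => by ext; simp
            right_inv := fun x => by ext; simp
            map_mul' := fun x y => ?_ }, fun x hx => rfl⟩
  apply Subtype.ext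
  show ((e ⟨((x * y : P) : Ω), _⟩ : S') : Ω') = ((e _ : S') : Ω') * ((e _ : S') : Ω')
  rw [← Subgroup.coe_mul, ← map_mul]
  rfl

theorem SR.le {P Q : Subgroup Ω} {P' Q' : Subgroup Ω'} (h : SR e P P') (h' : SR e Q Q') (hle : P ≤ Q) : P' ≤ Q' := by
  intro y hy
  have h1 := (h.2.2 (e.symm ⟨y, h.2.1 hy⟩)).2 (by rw [MulEquiv.apply_symm_apply]; exact hy)
  have h2 := (h'.2.2 _).1 (hle h1)
  rw [MulEquiv.apply_symm_apply] at h2
  exact h2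

/-- for elements -/
theorem SR.exists_mem {P : Subgroup Ω} {P' : Subgroup Ω'} (h : SR e P P') {y : Ω'} (hy : y ∈ P') :
    ∃ x : S, (x : Ω) ∈ P ∧ ((e x : S') : Ω') = y :=
  ⟨e.symm ⟨y, h.2.1 hy⟩, (h.2.2 _).2 (by rw [MulEquiv.apply_symm_apply]; exact hy), by rw [MulEquiv.apply_symm_apply]⟩

theorem exists_HR {P : Subgroup Ω} {P' : Subgroup Ω'} (h : SR e P P') (φ : P →* Ω) (hφ : ∀ x, φ x ∈ S) :
    ∃ φ' : P' →* Ω', HR e φ φ' ∧ ∀ x, φ' x ∈ S' := by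
  obtain ⟨f, hf⟩ := h.equiv
  refine ⟨(S'.subtype.comp e.toMonoidHom).comp ((φ.comp f.symm.toMonoidHom).codRestrict S (fun x => hφ _)), ?_,
    fun x => (e _).2⟩
  intro x hx hx'
  refine ⟨⟨φ ⟨x, hx⟩, hφ _⟩, rfl, ?_⟩
  show ((e ⟨φ (f.symm _), _⟩ : S') : Ω') = _
  have h1 : f.symm ⟨((e x : S') : Ω'), hx'⟩ = ⟨x, hx⟩ := by
    rw [MulEquiv.symm_apply_eq]
    exact Subtype.ext (hf x hx).symm
  congr 2
  apply Subtype.ext
  show φ _ = φ _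
  rw [h1]

theorem exists_HR' {P : Subgroup Ω} {P' : Subgroup Ω'} (h : SR e P P') (φ' : P' →* Ω') (hφ' : ∀ x, φ' x ∈ S') :
    ∃ φ : P →* Ω, HR e φ φ' ∧ ∀ x, φ x ∈ S := by
  obtain ⟨φ, h1, h2⟩ := exists_HR h.symm φ' hφ'
  exact ⟨φ, h1.symm, h2⟩

theorem HR.unique {P : Subgroup Ω} {P' : Subgroup Ω'} (h : SR e P P') {φ : P →* Ω} {φ' φ'' : P' →* Ω'}
    (h1 : HR e φ φ') (h2 : HR e φ φ'') : φ' = φ'' := by
  apply MonoidHom.ext
  rintro ⟨y, hy⟩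
  obtain ⟨x, hx, rfl⟩ := h.exists_mem hy
  obtain ⟨z, hz, hz'⟩ := h1 x hx hy
  obtain ⟨w, hw, hw'⟩ := h2 x hx hy
  rw [hz', hw']
  have : z = w := Subtype.ext (by rw [← hz, hw])
  rw [this]

theorem HR.val {P : Subgroup Ω} {P' : Subgroup Ω'} {φ : P →* Ω} {φ' : P' →* Ω'} (h : HR e φ φ') (x : S) (hx : (x : Ω) ∈ P)
    (hx' : ((e x : S') : Ω') ∈ P') (hy : φ ⟨x, hx⟩ ∈ S) : φ' ⟨((e x : S') : Ω'), hx'⟩ = e ⟨φ ⟨x, hx⟩, hy⟩ := by
  obtain ⟨y, h1, h2⟩ := h x hx hx'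
  rw [h2]
  congr 2
  exact Subtype.ext h1.symm

theorem HR.mk {P : Subgroup Ω} {P' : Subgroup Ω'} {φ : P →* Ω} {φ' : P' →* Ω'}
    (h : ∀ (x : S) (hx : (x : Ω) ∈ P) (hx' : ((e x : S') : Ω') ∈ P'), ∃ hy : φ ⟨x, hx⟩ ∈ S,
      φ' ⟨((e x : S') : Ω'), hx'⟩ = e ⟨φ ⟨x, hx⟩, hy⟩) : HR e φ φ' := by
  intro x hx hx'
  obtain ⟨hy, h1⟩ := h x hx hx'
  exact ⟨⟨_, hy⟩, rfl, h1⟩

/-- composition -/
theorem HR.comp {P Q : Subgroup Ω} {P' Q' : Subgroup Ω'} (hQ : SR e Q Q')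
    {φ : P →* Ω} {φ' : P' →* Ω'} {ψ : Q →* Ω} {ψ' : Q' →* Ω'} (h : HR e φ φ') (h' : HR e ψ ψ')
    (hm : ∀ x, φ x ∈ Q) (hm' : ∀ x, φ' x ∈ Q') :
    HR e (ψ.comp (φ.codRestrict Q hm)) (ψ'.comp (φ'.codRestrict Q' hm')) := by
  intro x hx hx'
  obtain ⟨y, h1, h2⟩ := h x hx hx'
  have hyQ : (y : Ω) ∈ Q := by rw [← h1]; exact hm _
  have hyQ' : ((e y : S') : Ω') ∈ Q' := by rw [← h2]; exact hm' _
  obtain ⟨z, h3, h4⟩ := h' y hyQ hyQ'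
  refine ⟨z, ?_, ?_⟩
  · show ψ ⟨φ ⟨x, hx⟩, _⟩ = z
    rw [← h3]
    congr 1
    exact Subtype.ext h1
  · show ψ' ⟨φ' _, _⟩ = _
    rw [← h4]
    congr 1
    exact Subtype.ext h2

/-- the range -/
theorem HR.range {P : Subgroup Ω} {P' : Subgroup Ω'} (hP : SR e P P') {φ : P →* Ω} {φ' : P' →* Ω'} (h : HR e φ φ') :
    SR e φ.range φ'.range := by
  refine ⟨?_, ?_, fun x => ?_⟩
  · rintro _ ⟨x, rfl⟩
    obtain ⟨y, h1, -⟩ := h ⟨x, hP.1 x.2⟩ x.2 ((hP.2.2 _).1 x.2)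
    have h2 : φ x = y := h1
    rw [h2]; exact y.2
  · rintro _ ⟨⟨x, hx⟩, rfl⟩
    obtain ⟨z, hz, rfl⟩ := hP.exists_mem hx
    obtain ⟨y, -, h2⟩ := h z hz hx
    rw [h2]; exact (e y).2
  · constructor
    · rintro ⟨z, hz⟩
      obtain ⟨y, h1, h2⟩ := h ⟨z, hP.1 z.2⟩ z.2 ((hP.2.2 _).1 z.2)
      have h3 : y = x := Subtype.ext (by rw [← h1]; exact hz)
      subst h3
      exact ⟨_, h2⟩
    · rintro ⟨⟨z, hz⟩, hzx⟩
      obtain ⟨w, hw, rfl⟩ := hP.exists_mem hz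
      obtain ⟨y, h1, h2⟩ := h w hw hz
      have h3 : e y = e x := Subtype.ext (by rw [← h2]; exact hzx)
      have h4 := e.injective h3
      subst h4
      exact ⟨_, h1⟩

/-- the transported system -/
theorem exists_FR (e : S ≃* S') {R : Subgroup Ω} (hR : R ≤ S) (D : FusionSystem R) :
    ∃ (R' : Subgroup Ω') (D' : FusionSystem R'), FR e D D' := by
  obtain ⟨R', hR'⟩ := exists_SR e hR
  refine ⟨R', {
    Hom := fun P' => {φ' | ∃ (P : Subgroup Ω) (φ : P →* Ω), SR e P P' ∧ HR e φ φ' ∧ φ ∈ D.Hom P}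
    le_of_mem := ?_
    injective_of_mem := ?_
    conj_mem := ?_
    comp_mem := ?_
    inv_mem := ?_ }, hR', ?_⟩
  · rintro P' φ' ⟨P, φ, hP, hφ, hD⟩
    refine ⟨hP.le hR' (le_S hD), ?_⟩
    rintro ⟨y, hy⟩
    obtain ⟨x, hx, rfl⟩ := hP.exists_mem hy
    obtain ⟨z, h1, h2⟩ := hφ x hx hy
    rw [h2]
    refine (hR'.2.2 z).1 ?_
    rw [← h1]; exact mem_S hD _
  · rintro P' φ' ⟨P, φ, hP, hφ, hD⟩ ⟨y, hy⟩ ⟨w, hw⟩ heq
    obtain ⟨x, hx, rfl⟩ := hP.exists_mem hy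
    obtain ⟨z, hz, rfl⟩ := hP.exists_mem hw
    obtain ⟨a, h1, h2⟩ := hφ x hx hy
    obtain ⟨b, h3, h4⟩ := hφ z hz hw
    rw [h2, h4] at heq
    have h5 := e.injective (Subtype.ext heq)
    rw [← h5, ← h1] at h3
    have h6 := inj hD h3
    have h7 : z = x := Subtype.ext (congrArg (fun w : P => (w : Ω)) h6)
    subst h7
    rfl
  · intro P' g' hP' hg'
    obtain ⟨P, hP⟩ := exists_SR' e (hP'.trans hR'.2.1)
    obtain ⟨g, hg, rfl⟩ := hR'.exists_mem hg'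
    refine ⟨P, conjHom P g, hP, fun x hx hx' => ⟨g * x * g⁻¹, rfl, ?_⟩, D.conj_mem (hP.symm.le hR'.symm hP') hg⟩
    show _ = ((e (g * x * g⁻¹) : S') : Ω')
    rw [map_mul, map_mul, map_inv]
    rfl
  · rintro P' Q' φ' ψ' ⟨P, φ, hP, hφ, hD⟩ ⟨Q, ψ, hQ, hψ, hD'⟩ hm'
    have hm : ∀ x, φ x ∈ Q := by
      rintro ⟨x, hx⟩
      obtain ⟨y, h1, h2⟩ := hφ ⟨x, hP.1 hx⟩ hx ((hP.2.2 _).1 hx)
      have h3 : φ ⟨x, hx⟩ = y := h1
      rw [h3]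
      refine (hQ.2.2 y).2 ?_
      rw [← h2]
      exact hm' _
    exact ⟨P, _, hP, hφ.comp hQ hψ hm hm', D.comp_mem hD hD' hm⟩
  · rintro P' φ' ⟨P, φ, hP, hφ, hD⟩
    obtain ⟨ψ, hψ, hψv⟩ := D.inv_mem hD
    have hr := hφ.range hP
    obtain ⟨ψ', hψ', -⟩ := exists_HR hr ψ (fun x => hR (mem_S hψ x))
    refine ⟨ψ', ⟨_, ψ, hr, hψ', hψ⟩, ?_⟩
    rintro ⟨y, hy⟩
    obtain ⟨x, hx, rfl⟩ := hP.exists_mem hy
    obtain ⟨a, h1, h2⟩ := hφ x hx hy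
    have ha : (a : Ω) ∈ φ.range := ⟨_, h1⟩
    obtain ⟨b, h3, h4⟩ := hψ' a ha ((hr.2.2 a).1 ha)
    have h5 : (⟨(a : Ω), ha⟩ : φ.range) = ⟨φ ⟨x, hx⟩, ⟨_, rfl⟩⟩ := Subtype.ext h1.symm
    rw [h5, hψv] at h3
    have h6 : x = b := Subtype.ext h3
    subst h6
    show _ = ((e x : S') : Ω')
    refine Eq.trans ?_ h4
    congr 1
    exact Subtype.ext h2
  · intro P P' φ φ' hP hφ
    constructor
    · intro h
      exact ⟨P, φ, hP, hφ, h⟩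
    · rintro ⟨P₁, φ₁, hP₁, hφ₁, h⟩
      have h1 := hP₁.unique' hP
      subst h1
      have h2 : φ₁ = φ := HR.unique hP.symm hφ₁.symm hφ.symm
      subst h2
      exact h

theorem FR.unique {R : Subgroup Ω} {R' : Subgroup Ω'} {D : FusionSystem R} {D' D'' : FusionSystem R'} (h : FR e D D')
    (h' : FR e D D'') : D' = D'' := by
  apply fusionSystem_ext
  intro P'
  ext φ'
  constructor
  · intro hφ'
    obtain ⟨P, hP⟩ := exists_SR' e ((le_S hφ').trans h.1.2.1)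
    obtain ⟨φ, hφ, -⟩ := exists_HR' hP φ' (fun x => h.1.2.1 (mem_S hφ' x))
    exact (h'.2 _ _ _ _ hP hφ).1 ((h.2 _ _ _ _ hP hφ).2 hφ')
  · intro hφ'
    obtain ⟨P, hP⟩ := exists_SR' e ((le_S hφ').trans h.1.2.1)
    obtain ⟨φ, hφ, -⟩ := exists_HR' hP φ' (fun x => h.1.2.1 (mem_S hφ' x))
    exact (h.2 _ _ _ _ hP hφ).1 ((h'.2 _ _ _ _ hP hφ).2 hφ')

end CfsgLib.Fus21
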