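import Cfsg.Agent.LibFus21Iso1

set_option autoImplicit false

/-! Transport of structure along an isomorphism of fusion systems: saturation, invariance, normality, simplicity. -/

namespace CfsgLib.Fus21

open Cfsg Cfsg.FusionSystem

universe u v

variable {Ω : Type u} [Group Ω] {S : Subgroup Ω} {Ω' : Type v} [Group Ω'] {S' : Subgroup Ω'}
variable {e : S ≃* S'} {R U T : Subgroup Ω} {R' U' T' : Subgroup Ω'}

theorem FR.lift' {D : FusionSystem R} {D' : FusionSystem R'} (h : FR e D D') {P' : Subgroup Ω'} {φ' : P' →* Ω'}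
    (hφ' : φ' ∈ D'.Hom P') : ∃ (P : Subgroup Ω) (φ : P →* Ω), SR e P P' ∧ HR e φ φ' ∧ φ ∈ D.Hom P := by
  obtain ⟨P, hP⟩ := exists_SR' e ((le_S hφ').trans h.1.2.1)
  obtain ⟨φ, hφ, -⟩ := exists_HR' hP φ' (fun x => h.1.2.1 (mem_S hφ' x))
  exact ⟨P, φ, hP, hφ, (h.2 _ _ _ _ hP hφ).2 hφ'⟩

theorem FR.lift {D : FusionSystem R} {D' : FusionSystem R'} (h : FR e D D') {P : Subgroup Ω} {φ : P →* Ω}
    (hφ : φ ∈ D.Hom P) : ∃ (P' : Subgroup Ω') (φ' : P' →* Ω'), SR e P P' ∧ HR e φ φ' ∧ φ' ∈ D'.Hom P' := by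
  obtain ⟨P', φ', h1, h2, h3⟩ := h.symm.lift' hφ
  exact ⟨P', φ', h1.symm, h2.symm, h3⟩

/-- push a map to a prescribed image subgroup -/
theorem FR.push {D : FusionSystem R} {D' : FusionSystem R'} (h : FR e D D') {P : Subgroup Ω} {P' : Subgroup Ω'}
    (hP : SR e P P') {φ : P →* Ω} (hφ : φ ∈ D.Hom P) : ∃ φ' : P' →* Ω', HR e φ φ' ∧ φ' ∈ D'.Hom P' := by
  obtain ⟨P₁, φ', h1, h2, h3⟩ := h.lift hφ
  have := h1.unique hP
  subst this
  exact ⟨φ', h2, h3⟩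

theorem FR.sub {D : FusionSystem R} {D' : FusionSystem R'} {F : FusionSystem U} {F' : FusionSystem U'}
    (hD : FR e D D') (hF : FR e F F') (h : D.IsSubsystemOf F) : D'.IsSubsystemOf F' := by
  intro P' φ' hφ'
  obtain ⟨P, φ, h1, h2, h3⟩ := hD.lift' hφ'
  exact (hF.2 _ _ _ _ h1 h2).1 (h _ h3)

theorem FR.sc {F : FusionSystem U} {F' : FusionSystem U'} (hF : FR e F F') (hT : SR e T T') (h : F.StronglyClosed T) :
    F'.StronglyClosed T' := by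
  refine ⟨hT.le hF.1 h.1, fun P' hP' φ' hφ' y => ?_⟩
  obtain ⟨P, φ, h1, h2, h3⟩ := hF.lift' hφ'
  obtain ⟨y, hy⟩ := y
  obtain ⟨x, hx, rfl⟩ := h1.exists_mem hy
  obtain ⟨z, hz, hz'⟩ := h2 x hx hy
  rw [hz']
  refine (hT.2.2 z).1 ?_
  rw [← hz]
  exact h.2 P (h1.symm.le hT.symm hP') φ h3 _

theorem mc_apply {P : Subgroup Ω} {P' : Subgroup Ω'} (f : P ≃* P') (α : MulAut P) (y : P') :
    MulAut.congr f α y = f (α (f.symm y)) := rfl

theorem HR_aut {P : Subgroup Ω} {P' : Subgroup Ω'} (hP : SR e P P') {f : P ≃* P'}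
    (hf : ∀ (x : S) (hx : (x : Ω) ∈ P), ((f ⟨x, hx⟩ : P') : Ω') = e x) (α : MulAut P) :
    HR e (P.subtype.comp α.toMonoidHom) (P'.subtype.comp (MulAut.congr f α).toMonoidHom) := by
  intro x hx hx'
  refine ⟨⟨α ⟨x, hx⟩, hP.1 (α ⟨x, hx⟩).2⟩, rfl, ?_⟩
  have h1 : f.symm ⟨((e x : S') : Ω'), hx'⟩ = ⟨x, hx⟩ := by
    rw [MulEquiv.symm_apply_eq]
    exact Subtype.ext (hf x hx).symm
  show ((f (α (f.symm ⟨((e x : S') : Ω'), hx'⟩)) : P') : Ω') = _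
  rw [h1]
  exact hf ⟨α ⟨x, hx⟩, hP.1 (α ⟨x, hx⟩).2⟩ (α ⟨x, hx⟩).2

theorem FR.aut {D : FusionSystem R} {D' : FusionSystem R'} (h : FR e D D') {P : Subgroup Ω} {P' : Subgroup Ω'}
    (hP : SR e P P') (hPR : P ≤ R) {f : P ≃* P'}
    (hf : ∀ (x : S) (hx : (x : Ω) ∈ P), ((f ⟨x, hx⟩ : P') : Ω') = e x) {α : MulAut P} :
    MulAut.congr f α ∈ D'.autGroup P' ↔ α ∈ D.autGroup P := by
  rw [mem_autGroup hPR, mem_autGroup (hP.le h.1 hPR)]
  exact (h.2 _ _ _ _ hP (HR_aut hP hf α)).symm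

/-- the isomorphism as a surjective morphism -/
theorem FR.surj {D : FusionSystem R} {D' : FusionSystem R'} (h : FR e D D') :
    D.IsSurjectiveMorphism D' ((S'.subtype.comp e.toMonoidHom).comp (Subgroup.inclusion h.1.1)) := by
  set θ : R →* Ω' := (S'.subtype.comp e.toMonoidHom).comp (Subgroup.inclusion h.1.1) with hθ
  have hθv : ∀ x (hx : x ∈ R), θ ⟨x, hx⟩ = ((e ⟨x, h.1.1 hx⟩ : S') : Ω') := fun x hx => rfl
  refine ⟨⟨fun s => (h.1.2.2 ⟨s, h.1.1 s.2⟩).1 s.2, fun P φ hφ => ?_⟩, ?_, fun P' hP' φ' hφ' => ?_⟩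
  · have hP : SR e P (imageAlong θ P) := by
      refine ⟨(le_S hφ).trans h.1.1, ?_, fun x => ?_⟩
      · rintro _ ⟨x, -, rfl⟩
        exact (e _).2
      · constructor
        · intro hx
          exact ⟨⟨x, le_S hφ hx⟩, hx, rfl⟩
        · rintro ⟨z, hz, hzx⟩
          have h1 : e ⟨z, h.1.1 z.2⟩ = e x := Subtype.ext hzx
          rw [← e.injective h1]
          exact hz
    obtain ⟨φ', h1, h2⟩ := h.push hP hφ
    refine ⟨φ', h2, induced_mk (le_S hφ) (fun x => mem_S hφ x) (fun x hx => ?_) fun x hx => ?_⟩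
    · exact (hP.2.2 ⟨x, hP.1 hx⟩).1 hx
    · exact h1.val ⟨x, hP.1 hx⟩ hx _ (h.1.1 (mem_S hφ _))
  · ext y
    constructor
    · rintro ⟨x, rfl⟩
      exact (h.1.2.2 ⟨x, h.1.1 x.2⟩).1 x.2
    · intro hy
      obtain ⟨x, hx, rfl⟩ := h.1.exists_mem hy
      exact ⟨⟨x, hx⟩, rfl⟩
  · have hP : SR e (preimageAlong θ P') P' := by
      refine ⟨(preimageAlong_le _ _).trans h.1.1, hP'.trans h.1.2.1, fun x => ?_⟩
      rw [mem_preimageAlong]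
      constructor
      · rintro ⟨hx, h1⟩
        exact h1
      · intro hx
        exact ⟨(h.1.2.2 x).2 (hP' hx), hx⟩
    obtain ⟨φ, h1, h2⟩ := h.symm.push hP.symm hφ'
    refine ⟨φ, h2, induced_mk (preimageAlong_le _ _) (fun x => mem_S h2 x) (fun x hx => (mem_preimageAlong.1 hx).2)
      fun x hx => ?_⟩
    exact h1.symm.val ⟨x, hP.1 hx⟩ hx _ (h.1.1 (mem_S h2 _))

theorem FR.sat [Finite S] {p : ℕ} [Fact p.Prime] (hS : IsPGroup p S) {D : FusionSystem R} {D' : FusionSystem R'} (h : FR e D D')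
    (hD : D.IsSaturated p) : D'.IsSaturated p := by
  have hf : Finite R := finite_of_le h.1.1
  exact saturated_of_surjective (hS.to_le h.1.1) hD h.surj

theorem SR.sup {P Q : Subgroup Ω} {P' Q' : Subgroup Ω'} (h : SR e P P') (h' : SR e Q Q') : SR e (P ⊔ Q) (P' ⊔ Q') := by
  obtain ⟨W', hW'⟩ := exists_SR e (sup_le h.1 h'.1)
  obtain ⟨W, hW⟩ := exists_SR' e (sup_le h.2.1 h'.2.1)
  have h1 : P' ⊔ Q' ≤ W' := sup_le (h.le hW' le_sup_left) (h'.le hW' le_sup_right)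
  have h2 : P ⊔ Q ≤ W := sup_le (h.symm.le hW.symm le_sup_left) (h'.symm.le hW.symm le_sup_right)
  have h3 : W' ≤ P' ⊔ Q' := hW'.le hW h2
  rw [le_antisymm h1 h3]
  exact hW'

theorem SR.inf {P Q : Subgroup Ω} {P' Q' : Subgroup Ω'} (h : SR e P P') (h' : SR e Q Q') : SR e (P ⊓ Q) (P' ⊓ Q') := by
  refine ⟨inf_le_left.trans h.1, inf_le_left.trans h.2.1, fun x => ?_⟩
  rw [Subgroup.mem_inf, Subgroup.mem_inf, h.2.2, h'.2.2]

theorem SR.cent (hU : SR e U U') (hT : SR e T T') : SR e (centralizerIn U T) (centralizerIn U' T') := by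
  refine ⟨(centralizerIn_le _ _).trans hU.1, (centralizerIn_le _ _).trans hU.2.1, fun x => ?_⟩
  rw [mem_centralizerIn', mem_centralizerIn', hU.2.2]
  refine and_congr_right fun _ => ?_
  constructor
  · intro h y hy
    obtain ⟨z, hz, rfl⟩ := hT.exists_mem hy
    have h1 := h z hz
    have h2 : x * z * x⁻¹ = z := Subtype.ext h1
    have h3 := congrArg e h2
    rw [map_mul, map_mul, map_inv] at h3
    exact congrArg Subtype.val h3
  · intro h y hy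
    have h1 := h _ ((hT.2.2 ⟨y, hT.1 hy⟩).1 hy)
    have h2 : e x * e ⟨y, hT.1 hy⟩ * (e x)⁻¹ = e ⟨y, hT.1 hy⟩ := Subtype.ext h1
    rw [← map_inv, ← map_mul, ← map_mul] at h2
    exact congrArg Subtype.val (e.injective h2)

/-- invariance -/
theorem FR.inv {E : FusionSystem T} {E' : FusionSystem T'} {F : FusionSystem U} {F' : FusionSystem U'}
    (hE : FR e E E') (hF : FR e F F') (h : E.IsInvariantIn F) : E'.IsInvariantIn F' := by
  have hT := hE.1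
  have hTU : T ≤ U := h.2.1.1
  have hTU' : T' ≤ U' := hT.le hF.1 hTU
  obtain ⟨f, hf⟩ := hT.equiv
  have hfe : ∀ (x : T), ((f x : T') : Ω') = e ⟨x, hT.1 x.2⟩ := fun x => hf ⟨x, hT.1 x.2⟩ x.2
  have hfs : ∀ (x : S) (hx : ((e x : S') : Ω') ∈ T'), ((f.symm ⟨((e x : S') : Ω'), hx⟩ : T) : Ω) = x := by
    intro x hx
    have h1 : (x : Ω) ∈ T := (hT.2.2 x).2 hx
    have h2 : f.symm ⟨((e x : S') : Ω'), hx⟩ = ⟨x, h1⟩ := by
      rw [MulEquiv.symm_apply_eq]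
      exact Subtype.ext (hf x h1).symm
    rw [h2]
  have haut : ∀ α : MulAut T, α ∈ F.autGroup T → MulAut.congr f α ∈ F'.autGroup T' := fun α hα => (hF.aut hT hTU hf).2 hα
  have hval : ∀ (α : MulAut T) (x : T) (h1 : ((e ⟨x, hT.1 x.2⟩ : S') : Ω') ∈ T'),
      ((MulAut.congr f α ⟨((e ⟨x, hT.1 x.2⟩ : S') : Ω'), h1⟩ : T') : Ω') = e ⟨α x, hT.1 (α x).2⟩ := by
    intro α x h1
    rw [mc_apply, hfe]
    congr 2
    apply Subtype.ext
    show ((α (f.symm _) : T) : Ω) = ((α x : T) : Ω)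
    congr 2
    exact Subtype.ext (hfs _ h1)
  refine ⟨hE.sub hF h.1, hF.sc hT h.2.1, ?_, ?_⟩
  · intro P' hP'T φ' hφ' α' hα'
    obtain ⟨α, rfl⟩ := (MulAut.congr f).surjective α'
    have hα : α ∈ F.autGroup T := (hF.aut hT hTU hf).1 hα'
    obtain ⟨P, φ, hP, hφ, hφE⟩ := hE.lift' hφ'
    have hPT := hP.symm.le hT.symm hP'T
    obtain ⟨χ, hχ, hχv⟩ := h.2.2.1 P hPT φ hφE α hα
    have hA : SR e ((P.subgroupOf T).map (T.subtype.comp α.toMonoidHom))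
        ((P'.subgroupOf T').map (T'.subtype.comp (MulAut.congr f α).toMonoidHom)) := by
      refine ⟨?_, ?_, fun x => ?_⟩
      · rintro _ ⟨x, -, rfl⟩; exact hT.1 (α x).2
      · rintro _ ⟨x, -, rfl⟩; exact hT.2.1 (MulAut.congr f α x).2
      · constructor
        · rintro ⟨z, hz, hzx⟩
          have hz1 : ((e ⟨z, hT.1 z.2⟩ : S') : Ω') ∈ P' := (hP.2.2 _).1 hz
          refine ⟨⟨_, hP'T hz1⟩, hz1, ?_⟩
          show ((MulAut.congr f α ⟨((e ⟨z, hT.1 z.2⟩ : S') : Ω'), _⟩ : T') : Ω') = _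
          rw [hval α z (hP'T hz1)]
          congr 2
          exact Subtype.ext hzx
        · rintro ⟨⟨z, hz⟩, hz', hzx⟩
          obtain ⟨w, hw, rfl⟩ := hT.exists_mem hz
          have hwP : (w : Ω) ∈ P := (hP.2.2 w).2 hz'
          refine ⟨⟨w, hw⟩, hwP, ?_⟩
          have h1 : ((MulAut.congr f α ⟨((e w : S') : Ω'), hz⟩ : T') : Ω') = ((e x : S') : Ω') := hzx
          have h2 := hval α ⟨w, hw⟩ hz
          have h3 : ((e ⟨α ⟨w, hw⟩, hT.1 (α ⟨w, hw⟩).2⟩ : S') : Ω') = ((e x : S') : Ω') := h2.symm.trans h1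
          have h4 := e.injective (Subtype.ext h3)
          exact congrArg Subtype.val h4
    obtain ⟨χ', hχ', hχE⟩ := hE.push hA hχ
    refine ⟨χ', hχE, ?_⟩
    rintro ⟨y, hy⟩ hφy hαy
    obtain ⟨x, hx, rfl⟩ := hP.exists_mem hy
    have hxT : (x : Ω) ∈ T := hPT hx
    obtain ⟨w, hw, hw'⟩ := hφ x hx hy
    have hφx : φ ⟨x, hx⟩ ∈ T := mem_S hφE _
    have hαx : ((α ⟨x, hxT⟩ : T) : Ω) ∈ (P.subgroupOf T).map (T.subtype.comp α.toMonoidHom) := ⟨⟨x, hxT⟩, hx, rfl⟩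
    have h1 := hχv ⟨x, hx⟩ hφx hαx
    have hv := hval α ⟨x, hxT⟩ (hP'T hy)
    have hαx' : ((e ⟨α ⟨x, hxT⟩, hT.1 (α ⟨x, hxT⟩).2⟩ : S') : Ω') ∈
        (P'.subgroupOf T').map (T'.subtype.comp (MulAut.congr f α).toMonoidHom) := (hA.2.2 _).1 hαx
    have h2 := hχ'.val ⟨α ⟨x, hxT⟩, hT.1 (α ⟨x, hxT⟩).2⟩ hαx hαx' (hT.1 (mem_S hχ _))
    have h3 : (⟨((MulAut.congr f α ⟨((e x : S') : Ω'), hP'T hy⟩ : T') : Ω'), hαy⟩ :
        ↥((P'.subgroupOf T').map (T'.subtype.comp (MulAut.congr f α).toMonoidHom))) =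
        ⟨((e ⟨α ⟨x, hxT⟩, hT.1 (α ⟨x, hxT⟩).2⟩ : S') : Ω'), hαx'⟩ := Subtype.ext hv
    rw [h3]
    refine h2.trans ?_
    have hwT : (w : Ω) ∈ T := by rw [← hw]; exact hφx
    have h4 := hval α ⟨w, hwT⟩ ((hT.2.2 w).1 hwT)
    have h5 : (⟨φ' ⟨((e x : S') : Ω'), hy⟩, hφy⟩ : T') = ⟨((e w : S') : Ω'), (hT.2.2 w).1 hwT⟩ := Subtype.ext hw'
    rw [h5]
    refine Eq.trans ?_ h4.symm
    congr 2
    apply Subtype.ext
    refine h1.trans ?_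
    congr 2
    exact Subtype.ext hw
  · intro P' hP'T φ' hφ'
    obtain ⟨P, φ, hP, hφ, hφF⟩ := hF.lift' hφ'
    have hPT := hP.symm.le hT.symm hP'T
    obtain ⟨α, hα, φ₀, hφ₀, hv⟩ := h.2.2.2 P hPT φ hφF
    obtain ⟨φ₀', h1, h2⟩ := hE.push hP hφ₀
    refine ⟨MulAut.congr f α, haut α hα, φ₀', h2, ?_⟩
    rintro ⟨y, hy⟩ hyT
    obtain ⟨x, hx, rfl⟩ := hP.exists_mem hy
    have hφ₀T : φ₀ ⟨x, hx⟩ ∈ T := mem_S hφ₀ _
    have h3 := hv ⟨x, hx⟩ hφ₀T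
    have h4 := h1.val x hx hy (hT.1 hφ₀T)
    have h5 := hval α ⟨φ₀ ⟨x, hx⟩, hφ₀T⟩ ((hT.2.2 _).1 hφ₀T)
    have h6 := hφ.val x hx hy (by rw [h3]; exact hT.1 (α _).2)
    rw [h6]
    have h7 : (⟨φ₀' ⟨((e x : S') : Ω'), hy⟩, hyT⟩ : T') = ⟨((e ⟨φ₀ ⟨x, hx⟩, hT.1 hφ₀T⟩ : S') : Ω'), (hT.2.2 _).1 hφ₀T⟩ :=
      Subtype.ext h4
    rw [h7]
    refine Eq.trans ?_ h5.symm
    congr 2
    exact Subtype.ext h3

end CfsgLib.Fus21
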