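import Cfsg.Agent.LibFus21Iso2
import Cfsg.Agent.LibFus21Thm

set_option autoImplicit false

/-! Transport of structure along an isomorphism of fusion systems: normality, simplicity, subnormality. -/

namespace CfsgLib.Fus21

open Cfsg Cfsg.FusionSystem

universe u v

variable {Ω : Type u} [Group Ω] {S : Subgroup Ω} {Ω' : Type v} [Group Ω'] {S' : Subgroup Ω'}
variable {e : S ≃* S'} {R U T : Subgroup Ω} {R' U' T' : Subgroup Ω'}

theorem congr_val {P : Subgroup Ω} {P' : Subgroup Ω'} (hP : SR e P P') {f : P ≃* P'}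
    (hf : ∀ (x : S) (hx : (x : Ω) ∈ P), ((f ⟨x, hx⟩ : P') : Ω') = e x) (α : MulAut P) (x : S) (hx : (x : Ω) ∈ P)
    (hx' : ((e x : S') : Ω') ∈ P') :
    ((MulAut.congr f α ⟨((e x : S') : Ω'), hx'⟩ : P') : Ω') = e ⟨α ⟨x, hx⟩, hP.1 (α ⟨x, hx⟩).2⟩ :=
  (HR_aut hP hf α).val x hx hx' (hP.1 (α ⟨x, hx⟩).2)

theorem FR.normal [Finite S] {p : ℕ} [Fact p.Prime] (hS : IsPGroup p S) {E : FusionSystem T} {E' : FusionSystem T'}
    {F : FusionSystem U} {F' : FusionSystem U'} (hE : FR e E E') (hF : FR e F F') (h : E.IsNormalIn F p) :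
    E'.IsNormalIn F' p := by
  have hT := hE.1
  have hTU : T ≤ U := h.1.2.2.2.1.1
  have hTU' : T' ≤ U' := hT.le hF.1 hTU
  refine ⟨⟨hE.sat hS h.1.1, hF.sat hS h.1.2.1, hE.inv hF h.1.2.2⟩, fun α' hα' => ?_⟩
  obtain ⟨f, hf⟩ := hT.equiv
  obtain ⟨α, rfl⟩ := (MulAut.congr f).surjective α'
  have hα : α ∈ E.autGroup T := (hE.aut hT le_rfl hf).1 hα'
  obtain ⟨β, hβ, hβ1, hβ2⟩ := h.2 α hα
  have hW : SR e (T ⊔ centralizerIn U T) (T' ⊔ centralizerIn U' T') := hT.sup (hF.1.cent hT)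
  have hWU : T ⊔ centralizerIn U T ≤ U := sup_le hTU (centralizerIn_le _ _)
  obtain ⟨g, hg⟩ := hW.equiv
  refine ⟨MulAut.congr g β, (hF.aut hW hWU hg).2 hβ, ?_, ?_⟩
  · rintro ⟨y, hy⟩
    obtain ⟨x, hx, rfl⟩ := hT.exists_mem hy
    have hxW : (x : Ω) ∈ T ⊔ centralizerIn U T := (le_sup_left : T ≤ _) hx
    have h1 := congr_val hT hf α x hx hy
    have h2 := congr_val hW hg β x hxW ((hW.2.2 x).1 hxW)
    rw [h1]
    refine Eq.trans h2 ?_
    congr 2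
    exact Subtype.ext (hβ1 ⟨x, hx⟩)
  · rintro ⟨c, hc⟩ hcc
    obtain ⟨x, hx, rfl⟩ := hW.exists_mem hc
    have hxC : (x : Ω) ∈ centralizerIn U T := ((hF.1.cent hT).2.2 x).2 hcc
    have h1 := hβ2 ⟨x, hx⟩ hxC
    have h2 := congr_val hW hg β x hx hc
    have h3 : ((x⁻¹ * ⟨β ⟨x, hx⟩, hW.1 (β ⟨x, hx⟩).2⟩ : S) : Ω) ∈ centralizerIn T T := h1
    have h4 := ((hT.cent hT).2.2 _).1 h3
    rw [map_mul, map_inv] at h4
    show ((e x : S') : Ω')⁻¹ * ((MulAut.congr g β ⟨((e x : S') : Ω'), hc⟩ : ↥(T' ⊔ centralizerIn U' T')) : Ω') ∈ _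
    rw [h2]
    exact h4

theorem FR.simple [Finite S] {p : ℕ} [Fact p.Prime] (hS : IsPGroup p S) {F : FusionSystem S} {F' : FusionSystem S'}
    (hF : FR e F F') (h : F.IsSimple p) : F'.IsSimple p := by
  have hfS' : Finite S' := Finite.of_equiv S e.toEquiv
  have hS' : IsPGroup p S' := hS.of_equiv e
  refine ⟨hF.sat hS h.1, ?_, fun T' E' hE' => ?_⟩
  · intro hb
    apply h.2.1
    subst hb
    exact (SR_self e).unique' (SR_bot e)
  · have hT'S : T' ≤ S' := hE'.1.2.2.2.1.1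
    obtain ⟨T, E, hE⟩ := exists_FR e.symm hT'S E'
    have h1 : E.IsNormalIn F p := hE.normal hS' hF.symm hE'
    have hE2 : FR e E E' := hE.symm
    rcases h.2.2 T E h1 with rfl | ⟨rfl, h2⟩
    · left
      exact hE2.1.unique (SR_bot e)
    · right
      have h3 : T' = S' := hE2.1.unique (SR_self e)
      subst h3
      have h4 : E = F := fusionSystem_ext h2
      subst h4
      have h5 := FR.unique hE2 hF
      subst h5
      exact ⟨rfl, fun _ => rfl⟩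

theorem subnormal_le {T U : Subgroup Ω} {C : FusionSystem T} {F : FusionSystem U} {p : ℕ} (h : IsSubnormalIn C F p) :
    C.IsSubsystemOf F ∧ T ≤ U := by
  induction h with
  | refl F p => exact ⟨fun _ _ h => h, le_rfl⟩
  | step _ h2 ih => exact ⟨fun P φ hφ => h2.1.2.2.1 _ (ih.1 _ hφ), ih.2.trans h2.1.2.2.2.1.1⟩

theorem FR.subnormal [Finite S] {p : ℕ} {C : FusionSystem T} {F : FusionSystem U}
    (h : IsSubnormalIn C F p) : ∀ (_ : Fact p.Prime) (_ : IsPGroup p S) {U' : Subgroup Ω'} {F' : FusionSystem U'}, FR e F F' →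
      ∃ (T' : Subgroup Ω') (C' : FusionSystem T'), FR e C C' ∧ IsSubnormalIn C' F' p := by
  induction h with
  | refl F p =>
    intro _ _ U' F' hF
    exact ⟨U', F', hF, IsSubnormalIn.refl F' p⟩
  | @step U₁ S₁ E D F p h1 h2 ih =>
    intro hp hS U' F' hF
    obtain ⟨R', D', hD⟩ := exists_FR e (h2.1.2.2.2.1.1.trans hF.1.1) D
    obtain ⟨T', C', hC, hsub⟩ := ih hp hS hD
    exact ⟨T', C', hC, IsSubnormalIn.step hsub (hD.normal hS hF h2)⟩

theorem FR.subnormal' [Finite S] {p : ℕ} [Fact p.Prime] (hS : IsPGroup p S) {C : FusionSystem T} {F : FusionSystem U}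
    {C' : FusionSystem T'} {F' : FusionSystem U'} (hC : FR e C C') (hF : FR e F F')
    (h : IsSubnormalIn C F p) : IsSubnormalIn C' F' p := by
  obtain ⟨T₁, C₁, h1, h2⟩ := FR.subnormal h inferInstance hS hF
  have := h1.1.unique hC.1
  subst this
  have := h1.unique hC
  subst this
  exact h2

/-! restriction of the isomorphism -/

theorem SR.res {P : Subgroup Ω} {P' : Subgroup Ω'} {R : Subgroup Ω} {R' : Subgroup Ω'} (hR : SR e R R') {f : R ≃* R'}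
    (hf : ∀ (x : S) (hx : (x : Ω) ∈ R), ((f ⟨x, hx⟩ : R') : Ω') = e x) : SR f P P' ↔ SR e P P' ∧ P ≤ R ∧ P' ≤ R' := by
  have hf' : ∀ x : R, ((f x : R') : Ω') = e ⟨x, hR.1 x.2⟩ := fun x => hf ⟨x, hR.1 x.2⟩ x.2
  constructor
  · rintro ⟨h1, h2, h3⟩
    refine ⟨⟨h1.trans hR.1, h2.trans hR.2.1, fun x => ?_⟩, h1, h2⟩
    constructor
    · intro hx
      have := (h3 ⟨x, h1 hx⟩).1 hx
      rw [hf'] at this
      exact this
    · intro hx
      have hxR : (x : Ω) ∈ R := (hR.2.2 x).2 (h2 hx)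
      have := (h3 ⟨x, hxR⟩).2 (by rw [hf']; exact hx)
      exact this
  · rintro ⟨h1, h2, h3⟩
    refine ⟨h2, h3, fun x => ?_⟩
    rw [hf']
    exact h1.2.2 ⟨x, hR.1 x.2⟩

theorem FR.res {D : FusionSystem R} {D' : FusionSystem R'} (h : FR e D D') {f : R ≃* R'}
    (hf : ∀ (x : S) (hx : (x : Ω) ∈ R), ((f ⟨x, hx⟩ : R') : Ω') = e x) : FR f D D' := by
  have hf' : ∀ x : R, ((f x : R') : Ω') = e ⟨x, h.1.1 x.2⟩ := fun x => hf ⟨x, h.1.1 x.2⟩ x.2
  refine ⟨SR_self f, fun P P' φ φ' hP hφ => ?_⟩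
  obtain ⟨h1, h2, h3⟩ := (SR.res h.1 hf).1 hP
  refine h.2 P P' φ φ' h1 fun x hx hx' => ?_
  have hx1 : ((f ⟨x, h2 hx⟩ : R') : Ω') ∈ P' := by rw [hf']; exact hx'
  obtain ⟨y, hy, hy'⟩ := hφ ⟨x, h2 hx⟩ hx hx1
  refine ⟨⟨y, h.1.1 y.2⟩, hy, ?_⟩
  rw [← hf', ← hy']
  congr 1
  exact Subtype.ext (hf' ⟨x, h2 hx⟩).symm

end CfsgLib.Fus21
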