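import Cfsg.Agent.LibFus21Iso3

set_option autoImplicit false

/-! Transport of structure along an isomorphism of fusion systems: quasisimple systems and components. -/

namespace CfsgLib.Fus21

open Cfsg Cfsg.FusionSystem

universe u v w z

variable {Ω : Type u} [Group Ω] {S : Subgroup Ω} {Ω' : Type v} [Group Ω'] {S' : Subgroup Ω'}
variable {e : S ≃* S'} {R U T : Subgroup Ω} {R' U' T' : Subgroup Ω'}

theorem hyp_le_self (F : FusionSystem S) (p : ℕ) : F.hyperfocalSubgroup p ≤ S := by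
  unfold FusionSystem.hyperfocalSubgroup
  rw [Subgroup.closure_le]
  rintro _ ⟨P, α, x, hP, -, rfl⟩
  exact S.mul_mem (S.inv_mem (hP x.2)) (hP ((α : MulAut P) x).2)

theorem pResidual_map {A B : Type*} [Group A] [Group B] (p : ℕ) (Φ : A →* B) : (pResidual p A).map Φ ≤ pResidual p B := by
  unfold pResidual
  rw [MonoidHom.map_closure, Subgroup.closure_le]
  rintro _ ⟨g, hg, rfl⟩
  exact Subgroup.subset_closure (Nat.Coprime.coprime_dvd_left (orderOf_map_dvd Φ g) hg)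

theorem FR.hyp_le {D : FusionSystem R} {D' : FusionSystem R'} (h : FR e D D') {p : ℕ} {H : Subgroup Ω}
    (hH : SR e H (D'.hyperfocalSubgroup p)) : D.hyperfocalSubgroup p ≤ H := by
  unfold FusionSystem.hyperfocalSubgroup
  rw [Subgroup.closure_le]
  rintro _ ⟨P, α, x, hP, hα, rfl⟩
  obtain ⟨P', hP'⟩ := exists_SR e (hP.trans h.1.1)
  obtain ⟨f, hf⟩ := hP'.equiv
  have hPR' : P' ≤ R' := hP'.le h.1 hP
  have hx : (x : Ω) ∈ S := hP'.1 x.2
  have hxα : (((α : MulAut P) x : P) : Ω) ∈ S := hP'.1 ((α : MulAut P) x).2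
  have key : (((⟨x, hx⟩⁻¹ * ⟨((α : MulAut P) x : P), hxα⟩ : S)) : Ω) ∈ H := by
    rw [hH.2.2]
    refine Subgroup.subset_closure ?_
    let Φ : D.autGroup P →* D'.autGroup P' := ((MulAut.congr f).toMonoidHom.comp (D.autGroup P).subtype).codRestrict
      (D'.autGroup P') (fun a => (h.aut hP' hP hf).2 a.2)
    refine ⟨P', Φ α, f x, hPR', pResidual_map p Φ ⟨α, hα, rfl⟩, ?_⟩
    rw [map_mul, map_inv]
    have h1 := hf ⟨x, hx⟩ x.2
    have h2 := hf ⟨((α : MulAut P) x : P), hxα⟩ ((α : MulAut P) x).2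
    show ((e ⟨x, hx⟩ : S') : Ω')⁻¹ * ((e ⟨((α : MulAut P) x : P), hxα⟩ : S') : Ω') = ((f x : P') : Ω')⁻¹ *
      ((MulAut.congr f (α : MulAut P) (f x) : P') : Ω')
    rw [mc_apply, MulEquiv.symm_apply_apply, ← h1, ← h2]
  exact key

theorem FR.hyp {D : FusionSystem R} {D' : FusionSystem R'} (h : FR e D D') (p : ℕ) :
    SR e (D.hyperfocalSubgroup p) (D'.hyperfocalSubgroup p) := by
  obtain ⟨H, hH⟩ := exists_SR' e ((hyp_le_self D' p).trans h.1.2.1)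
  obtain ⟨H', hH'⟩ := exists_SR e ((hyp_le_self D p).trans h.1.1)
  have h1 := h.hyp_le hH
  have h2 := h.symm.hyp_le hH'.symm
  have h3 : H' ≤ D'.hyperfocalSubgroup p := hH'.le hH h1
  rw [le_antisymm h2 h3]
  exact hH'

theorem FR.central {D : FusionSystem R} {D' : FusionSystem R'} (h : FR e D D') {Q : Subgroup Ω} {Q' : Subgroup Ω'}
    (hQ : SR e Q Q') (hc : D.IsCentral Q) : D'.IsCentral Q' := by
  refine ⟨hQ.le h.1 hc.1, fun P' φ' hφ' => ?_⟩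
  obtain ⟨P, φ, hP, hφ, hφD⟩ := h.lift' hφ'
  obtain ⟨ψ, hψ, h1, h2⟩ := hc.2 P φ hφD
  have hW := hP.sup hQ
  obtain ⟨ψ', hψ', hψD⟩ := h.push hW hψ
  refine ⟨ψ', hψD, ?_, ?_⟩
  · rintro ⟨y, hy⟩
    obtain ⟨x, hx, rfl⟩ := hP.exists_mem hy
    have hxW : (x : Ω) ∈ P ⊔ Q := (le_sup_left : P ≤ _) hx
    have h3 := hψ'.val x hxW ((hW.2.2 x).1 hxW) (h.1.1 (mem_S hψ _))
    have h4 := hφ.val x hx hy (h.1.1 (mem_S hφD _))
    rw [h4]
    refine Eq.trans h3 ?_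
    congr 2
    exact Subtype.ext (h1 ⟨x, hx⟩)
  · rintro ⟨y, hy⟩
    obtain ⟨x, hx, rfl⟩ := hQ.exists_mem hy
    have hxW : (x : Ω) ∈ P ⊔ Q := (le_sup_right : Q ≤ _) hx
    have h3 := hψ'.val x hxW ((hW.2.2 x).1 hxW) (h.1.1 (mem_S hψ _))
    refine Eq.trans h3 ?_
    show _ = ((e x : S') : Ω')
    congr 2
    exact Subtype.ext (h2 ⟨x, hx⟩)

theorem center_le_self (F : FusionSystem S) : F.center ≤ S := sSup_le fun _ h => h.1

theorem FR.center_le {D : FusionSystem R} {D' : FusionSystem R'} (h : FR e D D') {H : Subgroup Ω}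
    (hH : SR e H D'.center) : D.center ≤ H := by
  refine sSup_le fun Q hQ => ?_
  obtain ⟨Q', hQ'⟩ := exists_SR e (hQ.1.trans h.1.1)
  have h1 : Q' ≤ D'.center := le_sSup (h.central hQ' hQ)
  exact hQ'.symm.le hH.symm h1

theorem FR.center {D : FusionSystem R} {D' : FusionSystem R'} (h : FR e D D') : SR e D.center D'.center := by
  obtain ⟨H, hH⟩ := exists_SR' e ((center_le_self D').trans h.1.2.1)
  obtain ⟨H', hH'⟩ := exists_SR e ((center_le_self D).trans h.1.1)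
  have h1 := h.center_le hH
  have h2 := h.symm.center_le hH'.symm
  have h3 : H' ≤ D'.center := hH'.le hH h1
  rw [le_antisymm h2 h3]
  exact hH'

section factor

variable {Γ : Type w} [Group Γ] {Γ' : Type z} [Group Γ']

theorem factor_dir {F : FusionSystem S} {F' : FusionSystem S'} (hF : FR e F F') {θ : S →* Γ} {θ' : S' →* Γ'}
    {q : θ.range ≃* θ'.range} (hq : ∀ x : S, ((q ⟨θ x, ⟨x, rfl⟩⟩ : θ'.range) : Γ') = θ' (e x)) {P : Subgroup Γ} {P' : Subgroup Γ'}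
    (hP : SR q P P') {φ : P →* Γ} {φ' : P' →* Γ'} (hφ : HR q φ φ')
    (h : ∃ ψ ∈ F.Hom (preimageAlong θ P), InducedAlong θ ψ φ) : ∃ ψ ∈ F'.Hom (preimageAlong θ' P'), InducedAlong θ' ψ φ' := by
  obtain ⟨ψ, hψ, hind⟩ := h
  have hpre : SR e (preimageAlong θ P) (preimageAlong θ' P') := by
    refine ⟨preimageAlong_le _ _, preimageAlong_le _ _, fun x => ?_⟩
    rw [mem_preimageAlong, mem_preimageAlong]
    have h1 := hP.2.2 ⟨θ x, ⟨x, rfl⟩⟩
    rw [hq] at h1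
    constructor
    · rintro ⟨_, h2⟩
      exact ⟨(e x).2, h1.1 h2⟩
    · rintro ⟨_, h2⟩
      exact ⟨x.2, h1.2 h2⟩
  obtain ⟨ψ', hψ', hψF⟩ := hF.push hpre hψ
  refine ⟨ψ', hψF, induced_mk (preimageAlong_le _ _) (fun x => mem_S hψF x) (fun x hx => (mem_preimageAlong.1 hx).2)
    fun y hy => ?_⟩
  obtain ⟨x, hx, rfl⟩ := hpre.exists_mem hy
  obtain ⟨hx0, hxP⟩ := mem_preimageAlong.1 hx
  have h1 := induced_apply hind hx x.2 (mem_S hψ _) hxP
  have h2 := hψ'.val x hx hy (mem_S hψ _)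
  have hxP' : ((q ⟨θ x, ⟨x, rfl⟩⟩ : θ'.range) : Γ') ∈ P' := (hP.2.2 ⟨θ x, ⟨x, rfl⟩⟩).1 hxP
  have h3 := hφ.val ⟨θ x, ⟨x, rfl⟩⟩ hxP hxP' (by
    have : φ ⟨θ x, hxP⟩ = θ ⟨ψ ⟨x, hx⟩, mem_S hψ _⟩ := h1
    rw [this]; exact ⟨_, rfl⟩)
  have h4 : (⟨θ' ⟨((e x : S') : Ω'), preimageAlong_le _ _ hy⟩, (mem_preimageAlong.1 hy).2⟩ : P') =
      ⟨((q ⟨θ x, ⟨x, rfl⟩⟩ : θ'.range) : Γ'), hxP'⟩ := Subtype.ext (hq x).symm
  rw [h4, h3]
  have h5 : (⟨φ ⟨θ x, hxP⟩, by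
    have : φ ⟨θ x, hxP⟩ = θ ⟨ψ ⟨x, hx⟩, mem_S hψ _⟩ := h1
    rw [this]; exact ⟨_, rfl⟩⟩ : θ.range) = ⟨θ ⟨ψ ⟨x, hx⟩, mem_S hψ _⟩, ⟨_, rfl⟩⟩ := Subtype.ext h1
  rw [h5, hq]
  congr 1
  exact Subtype.ext h2.symm

theorem exists_factor_iso {F : FusionSystem S} {F' : FusionSystem S'} (hF : FR e F F') {K : Subgroup Ω} {K' : Subgroup Ω'}
    (hK : SR e K K') {Γ₀ : Subgroup Γ} {Γ₀' : Subgroup Γ'} {θ : S →* Γ} {θ' : S' →* Γ'} {E : FusionSystem Γ₀}
    {E' : FusionSystem Γ₀'} (hE : F.IsFactorSystem K θ E) (hE' : F'.IsFactorSystem K' θ' E') :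
    ∃ q : Γ₀ ≃* Γ₀', FR q E E' := by
  obtain ⟨hK1, hker, hr, hH⟩ := hE
  obtain ⟨hK1', hker', hr', hH'⟩ := hE'
  subst hr hr'
  have hmap : θ.ker.map (e : S →* S') = θ'.ker := by
    ext y
    constructor
    · rintro ⟨x, hx, rfl⟩
      exact (hker' _).2 ((hK.2.2 x).1 ((hker x).1 hx))
    · intro hy
      refine ⟨e.symm y, ?_, e.apply_symm_apply y⟩
      exact (hker _).2 ((hK.2.2 _).2 (by rw [MulEquiv.apply_symm_apply]; exact (hker' y).1 hy))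
  let q : θ.range ≃* θ'.range := (QuotientGroup.quotientKerEquivRange θ).symm.trans
    ((QuotientGroup.congr θ.ker θ'.ker e hmap).trans (QuotientGroup.quotientKerEquivRange θ'))
  have hq : ∀ x : S, ((q ⟨θ x, ⟨x, rfl⟩⟩ : θ'.range) : Γ') = θ' (e x) := by
    intro x
    have h1 : (QuotientGroup.quotientKerEquivRange θ).symm ⟨θ x, ⟨x, rfl⟩⟩ = (x : S ⧸ θ.ker) := by
      rw [MulEquiv.symm_apply_eq]
      rfl
    show ((QuotientGroup.quotientKerEquivRange θ' (QuotientGroup.congr θ.ker θ'.ker e hmap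
      ((QuotientGroup.quotientKerEquivRange θ).symm ⟨θ x, ⟨x, rfl⟩⟩)) : θ'.range) : Γ') = _
    rw [h1]
    rfl
  have hq' : ∀ y : S', ((q.symm ⟨θ' y, ⟨y, rfl⟩⟩ : θ.range) : Γ) = θ (e.symm y) := by
    intro y
    have h1 : q ⟨θ (e.symm y), ⟨_, rfl⟩⟩ = ⟨θ' y, ⟨y, rfl⟩⟩ := by
      apply Subtype.ext
      rw [hq, MulEquiv.apply_symm_apply]
    rw [← h1, MulEquiv.symm_apply_apply]
  refine ⟨q, SR_self q, fun P P' φ φ' hP hφ => ?_⟩
  rw [hH, hH']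
  constructor
  · rintro ⟨-, h⟩
    exact ⟨hP.2.1, factor_dir hF hq hP hφ h⟩
  · rintro ⟨-, h⟩
    exact ⟨hP.1, factor_dir hF.symm hq' hP.symm hφ.symm h⟩

end factor

theorem FR.quasisimple [Finite S] {p : ℕ} [hp : Fact p.Prime] (hS : IsPGroup p S) {D : FusionSystem R} {D' : FusionSystem R'}
    (h : FR e D D') (hD : D.Quasisimple p) : D'.Quasisimple p := by
  have hfR : Finite R := finite_of_le h.1.1
  have hR : IsPGroup p R := hS.to_le h.1.1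
  refine ⟨h.sat hS hD.1, ?_, fun E' hE' => ?_⟩
  · have h1 := h.hyp p
    rw [hD.2.1] at h1
    exact h1.unique h.1
  · obtain ⟨f, hf⟩ := h.1.equiv
    have h1 := h.res hf
    have h2 := h1.center
    have hc : D.StronglyClosed D.center := normal_stronglyClosed (central_isNormal (isCentral_center D))
    obtain ⟨E, hE, hEs⟩ := exists_factor hR hD.1 hc inferInstance
    obtain ⟨q, hq⟩ := exists_factor_iso h1 h2 hE hE'
    have hfq : Finite (⊤ : Subgroup (R ⧸ (D.center).subgroupOf R)) := inferInstance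
    have hpq : IsPGroup p (⊤ : Subgroup (R ⧸ (D.center).subgroupOf R)) :=
      (hR.to_quotient _).to_subgroup ⊤
    exact hq.simple hpq (hD.2.2 E hE)

theorem FR.component [Finite S] {p : ℕ} [hp : Fact p.Prime] (hS : IsPGroup p S) {C : FusionSystem T} {C' : FusionSystem T'}
    {F : FusionSystem U} {F' : FusionSystem U'} (hC : FR e C C') (hF : FR e F F') (h : C.IsComponentIn F p) :
    C'.IsComponentIn F' p :=
  ⟨FR.subnormal' hS hC hF h.1, hC.quasisimple hS h.2⟩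

end CfsgLib.Fus21
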