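import Cfsg.Agent.LibFus21Iso4

set_option autoImplicit false

/-! Conjugates of components; the layer is characteristic. -/

namespace CfsgLib.Fus21

open Cfsg Cfsg.FusionSystem

universe u v w

variable {Ω : Type u} [Group Ω] {S : Subgroup Ω} {Ω' : Type v} [Group Ω'] {S' : Subgroup Ω'}
  {Ω'' : Type w} [Group Ω''] {S'' : Subgroup Ω''}
variable {e : S ≃* S'} {R U T : Subgroup Ω} {R' U' T' : Subgroup Ω'}

theorem HR.mem {P : Subgroup Ω} {P' : Subgroup Ω'} (hP : SR e P P') {φ : P →* Ω} {φ' : P' →* Ω'} (h : HR e φ φ') (x : P) :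
    φ x ∈ S := by
  obtain ⟨y, h1, -⟩ := h ⟨x, hP.1 x.2⟩ x.2 ((hP.2.2 _).1 x.2)
  have h2 : φ x = y := h1
  rw [h2]; exact y.2

theorem SR.comp {e' : S' ≃* S''} {P : Subgroup Ω} {P' : Subgroup Ω'} {P'' : Subgroup Ω''} (h : SR e P P') (h' : SR e' P' P'') :
    SR (e.trans e') P P'' :=
  ⟨h.1, h'.2.1, fun x => (h.2.2 x).trans (h'.2.2 (e x))⟩

theorem FR.comp {e' : S' ≃* S''} {R'' : Subgroup Ω''} {D : FusionSystem R} {D' : FusionSystem R'} {D'' : FusionSystem R''}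
    (h : FR e D D') (h' : FR e' D' D'') : FR (e.trans e') D D'' := by
  refine ⟨h.1.comp h'.1, fun P P'' φ φ'' hP hφ => ?_⟩
  obtain ⟨P', hP'⟩ := exists_SR e hP.1
  obtain ⟨φ', hφ', -⟩ := exists_HR hP' φ (hφ.mem hP)
  have hP'' : SR e' P' P'' := by
    obtain ⟨Q, hQ⟩ := exists_SR e' hP'.2.1
    have := (hP'.comp hQ).unique hP
    subst this
    exact hQ
  have hφ'' : HR e' φ' φ'' := by
    intro x hx hx'
    obtain ⟨w, hw, hwx⟩ := hP'.exists_mem hx
    have hwx' : e w = x := Subtype.ext hwx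
    subst hwx'
    obtain ⟨y, h1, h2⟩ := hφ w hw hx'
    obtain ⟨z, h3, h4⟩ := hφ' w hw hx
    have : z = y := Subtype.ext (by rw [← h3, ← h1])
    subst this
    exact ⟨e z, h4, h2⟩
  exact (h.2 _ _ _ _ hP' hφ').trans (h'.2 _ _ _ _ hP'' hφ'')

/-- one direction -/
theorem morph_dir {F : FusionSystem S} {F' : FusionSystem S'} (h : F.IsMorphism F' (S'.subtype.comp e.toMonoidHom))
    {P : Subgroup Ω} {P' : Subgroup Ω'} {φ : P →* Ω} {φ' : P' →* Ω'} (hP : SR e P P') (hφ : HR e φ φ') (hF : φ ∈ F.Hom P) :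
    φ' ∈ F'.Hom P' := by
  obtain ⟨φ₁, h1, h2⟩ := h.2 P φ hF
  have hP1 : SR e P (imageAlong (S'.subtype.comp e.toMonoidHom) P) := by
    refine ⟨le_S hF, ?_, fun x => ?_⟩
    · rintro _ ⟨x, -, rfl⟩
      exact (e _).2
    · constructor
      · intro hx
        exact ⟨x, hx, rfl⟩
      · rintro ⟨z, hz, hzx⟩
        have h1 : e z = e x := Subtype.ext hzx
        rw [← e.injective h1]
        exact hz
  have := hP1.unique hP
  subst this
  have h3 : HR e φ φ₁ := by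
    intro x hx hx'
    exact ⟨⟨φ ⟨x, hx⟩, mem_S hF _⟩, rfl, induced_apply h2 hx x.2 (mem_S hF _) hx'⟩
  have := HR.unique hP1 h3 hφ
  subst this
  exact h1

theorem FR_of_morph {F : FusionSystem S} {F' : FusionSystem S'} (h : F.IsMorphism F' (S'.subtype.comp e.toMonoidHom))
    (h' : F'.IsMorphism F (S.subtype.comp e.symm.toMonoidHom)) : FR e F F' :=
  ⟨SR_self e, fun _ _ _ _ hP hφ => ⟨fun hF => morph_dir h hP hφ hF, fun hF => morph_dir h' hP.symm hφ.symm hF⟩⟩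

/-- The layer is characteristic. -/
theorem layer_char [Finite S] {p : ℕ} [Fact p.Prime] (hS : IsPGroup p S) {F : FusionSystem S} {α : S ≃* S}
    (hα : FR α F F) {T : Subgroup Ω} {E : FusionSystem T} (hE : E.IsLayerOf F p) :
    ∃ E' : FusionSystem T, FR α E E' ∧ E'.IsSubsystemOf E := by
  have hTS : T ≤ S := hE.1.1.2.2.2.1.1
  have key : ∀ β : S ≃* S, FR β F F → ∀ (T' : Subgroup Ω) (E' : FusionSystem T'), FR β E E' → E.IsSubsystemOf E' := by
    intro β hβ T' E' hE'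
    refine hE.2.2 T' E' (hE'.normal hS hβ hE.1) fun U' C' hC' => ?_
    have hU' : U' ≤ S := (subnormal_le hC'.1).2
    obtain ⟨U, C, hC⟩ := exists_FR β.symm hU' C'
    have h1 : C.IsComponentIn F p := hC.component hS hβ.symm hC'
    exact FR.sub hC.symm hE' (hE.2.1 U C h1)
  obtain ⟨T', E', hE'⟩ := exists_FR α hTS E
  obtain ⟨T'', E'', hE''⟩ := exists_FR α.symm hTS E
  have h1 := key α hα T' E' hE'
  have h2 := key α.symm hα.symm T'' E'' hE''
  have h3 : E'.IsSubsystemOf E := FR.sub hE' hE''.symm h2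
  have h4 : T ≤ T' := le_S (h1 T (incl_mem E le_rfl))
  have h5 : T' ≤ T := le_S (h3 T' (incl_mem E' le_rfl))
  have := le_antisymm h5 h4
  subst this
  exact ⟨E', hE', h3⟩

/-! ### conjugation by maps -/

theorem FR_of_factor_bot {C : FusionSystem T} {γ : T →* Ω} (hγ : Function.Injective γ) {E : FusionSystem γ.range}
    (hE : C.IsFactorSystem ⊥ γ E) : FR (MonoidHom.ofInjective hγ) C E := by
  obtain ⟨-, -, -, hH⟩ := hE
  have hval : ∀ x : T, ((MonoidHom.ofInjective hγ x : γ.range) : Ω) = γ x := fun x => rfl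
  refine ⟨SR_self _, fun P P' φ φ' hP hφ => ?_⟩
  have hpre : preimageAlong γ P' = P := by
    ext x
    rw [mem_preimageAlong]
    constructor
    · rintro ⟨hx, h⟩
      exact (hP.2.2 ⟨x, hx⟩).2 h
    · intro hx
      exact ⟨hP.1 hx, (hP.2.2 ⟨x, hP.1 hx⟩).1 hx⟩
  rw [hH, hpre]
  constructor
  · intro h
    refine ⟨hP.2.1, φ, h, induced_mk hP.1 (fun x => mem_S h x) (fun x hx => (hP.2.2 ⟨x, hP.1 hx⟩).1 hx) fun x hx => ?_⟩
    exact hφ.val ⟨x, hP.1 hx⟩ hx _ (mem_S h _)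
  · rintro ⟨-, ψ, hψ, hind⟩
    have h1 : HR (MonoidHom.ofInjective hγ) ψ φ' := by
      intro x hx hx'
      exact ⟨⟨ψ ⟨x, hx⟩, mem_S hψ _⟩, rfl, induced_apply hind hx x.2 (mem_S hψ _) hx'⟩
    have h2 : ψ = φ := HR.unique hP.symm h1.symm hφ.symm
    rw [← h2]
    exact hψ

theorem FR_inv {D : FusionSystem U} {F : FusionSystem S} (h : D.IsInvariantIn F) {α : MulAut U} (hα : α ∈ F.autGroup U) :
    FR (α : U ≃* U) D D := by
  have key : ∀ β : MulAut U, β ∈ F.autGroup U → ∀ (P P' : Subgroup Ω) (φ : P →* Ω) (φ' : P' →* Ω), SR (β : U ≃* U) P P' →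
      HR (β : U ≃* U) φ φ' → φ ∈ D.Hom P → φ' ∈ D.Hom P' := by
    intro β hβ P P' φ φ' hP hφ hD
    obtain ⟨χ, hχ, hχv⟩ := h.2.2.1 P (le_S hD) φ hD β hβ
    have hP1 : SR (β : U ≃* U) P ((P.subgroupOf U).map (U.subtype.comp β.toMonoidHom)) := by
      refine ⟨hP.1, ?_, fun x => ?_⟩
      · rintro _ ⟨x, -, rfl⟩; exact (β x).2
      · constructor
        · intro hx
          exact ⟨x, hx, rfl⟩
        · rintro ⟨z, hz, hzx⟩
          have h1 : β z = β x := Subtype.ext hzx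
          rw [← β.injective h1]
          exact hz
    have := hP1.unique hP
    subst this
    have h3 : HR (β : U ≃* U) φ χ := by
      intro x hx hx'
      exact ⟨⟨φ ⟨x, hx⟩, mem_S hD _⟩, rfl, hχv ⟨x, hx⟩ (mem_S hD _) hx'⟩
    have := HR.unique hP1 h3 hφ
    subst this
    exact hχ
  exact ⟨SR_self _, fun P P' φ φ' hP hφ => ⟨key α hα P P' φ φ' hP hφ,
    key α⁻¹ (Subgroup.inv_mem _ hα) P' P φ' φ hP.symm hφ.symm⟩⟩

theorem FR_aut_self {F : FusionSystem S} {α : MulAut S} (hα : α ∈ F.autGroup S) : FR (α : S ≃* S) F F := by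
  have key : ∀ β : MulAut S, β ∈ F.autGroup S → ∀ (P P' : Subgroup Ω) (φ : P →* Ω) (φ' : P' →* Ω), SR (β : S ≃* S) P P' →
      HR (β : S ≃* S) φ φ' → φ ∈ F.Hom P → φ' ∈ F.Hom P' := by
    intro β hβ P P' φ φ' hP hφ hD
    obtain ⟨f, hf⟩ := hP.equiv
    have h1 : f ∈ Iso F P P' := iso_of_hom (restrict_mem ((mem_autGroup le_rfl).1 hβ) hP.1) fun x => hf ⟨x, hP.1 x.2⟩ x.2
    have h2 := F.comp_mem (iso_symm h1) hD (fun x => (f.symm x).2)
    have h3 := F.comp_mem h2 ((mem_autGroup le_rfl).1 hβ) (fun x => mem_S h2 x)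
    refine mem_congr h3 fun y => ?_
    obtain ⟨y, hy⟩ := y
    obtain ⟨x, hx, hxy⟩ := hP.exists_mem hy
    subst hxy
    have h4 := hφ.val x hx hy (mem_S hD _)
    rw [h4]
    have h5 : f.symm ⟨(((β : S ≃* S) x : S) : Ω), hy⟩ = ⟨x, hx⟩ := by
      rw [MulEquiv.symm_apply_eq]
      exact Subtype.ext (hf x hx).symm
    show ((β ⟨φ ⟨x, hx⟩, _⟩ : S) : Ω) = ((β ⟨φ (f.symm _), _⟩ : S) : Ω)
    congr 2
    apply Subtype.ext
    show φ _ = φ _
    rw [h5]
  exact ⟨SR_self _, fun P P' φ φ' hP hφ => ⟨key α hα P P' φ φ' hP hφ,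
    key α⁻¹ (Subgroup.inv_mem _ hα) P' P φ' φ hP.symm hφ.symm⟩⟩

theorem subnormal_conj {C : FusionSystem T} {F : FusionSystem U} {p : ℕ} (h : IsSubnormalIn C F p) :
    ∀ (_ : Fact p.Prime) (_ : Finite U) (_ : IsPGroup p U) (γ : T →* Ω), γ ∈ F.Hom T → ∀ (R : Subgroup Ω) (E : FusionSystem R)
      (g : T ≃* R), (∀ x : T, ((g x : R) : Ω) = γ x) → FR g C E → IsSubnormalIn E F p := by
  induction h with
  | refl F p =>
    intro hp hf hU γ hγ R E g hg hE
    have h1 : γ.range = R := by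
      ext y
      constructor
      · rintro ⟨x, rfl⟩
        rw [← hg]; exact (g x).2
      · intro hy
        exact ⟨g.symm ⟨y, hy⟩, by rw [← hg, MulEquiv.apply_symm_apply]⟩
    have h2 : R ≤ T := by rw [← h1]; exact range_le hγ
    have h3 : R = T := Subgroup.eq_of_le_of_card_ge h2 (Nat.card_congr g.toEquiv).le
    subst h3
    have h4 : (g : MulAut R) ∈ F.autGroup R := aut_mem_of_hom hγ hg
    have h5 := FR.unique hE (FR_aut_self h4)
    subst h5
    exact IsSubnormalIn.refl _ _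
  | @step U₁ S₁ E₁ D F p h1 h2 ih =>
    intro hp hf hU γ hγ R E g hg hE
    have hle := (subnormal_le h1).2
    have hU1 : U₁ ≤ S₁ := h2.1.2.2.2.1.1
    have hfU1 : Finite U₁ := finite_of_le hU1
    obtain ⟨α, hα, φ₀, hφ₀, hv⟩ := h2.1.2.2.2.2.2 T hle γ hγ
    obtain ⟨R₀, C₀, hC₀⟩ := exists_FR (MonoidHom.ofInjective (inj hφ₀)) le_rfl E₁
    have hR₀ : R₀ = φ₀.range := hC₀.1.unique (SR_self _)
    subst hR₀
    have hsub := ih hp hfU1 (hU.to_le hU1) φ₀ hφ₀ _ C₀ (MonoidHom.ofInjective (inj hφ₀)) (fun x => rfl) hC₀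
    have hαD := FR_inv h2.1.2.2 hα
    obtain ⟨R₁, E', hE'⟩ := exists_FR (α : U₁ ≃* U₁) (range_le hφ₀) C₀
    have hsub' : IsSubnormalIn E' D p := FR.subnormal' (hU.to_le hU1) hE' hαD hsub
    obtain ⟨f, hf'⟩ := hE'.1.equiv
    have h3 := hC₀.comp (hE'.res hf')
    have hgv : ∀ x : T, ((((MonoidHom.ofInjective (inj hφ₀)).trans f) x : R₁) : Ω) = γ x := by
      intro x
      rw [hv x (mem_S hφ₀ x)]
      exact hf' ⟨φ₀ x, mem_S hφ₀ x⟩ ⟨x, rfl⟩
    have hR : R₁ = R := by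
      ext y
      constructor
      · intro hy
        have h5 := hgv (((MonoidHom.ofInjective (inj hφ₀)).trans f).symm ⟨y, hy⟩)
        rw [MulEquiv.apply_symm_apply] at h5
        have h6 : y = γ _ := h5
        rw [h6, ← hg]
        exact (g _).2
      · intro hy
        have h5 := hg (g.symm ⟨y, hy⟩)
        rw [MulEquiv.apply_symm_apply] at h5
        have h6 : y = γ _ := h5
        rw [h6, ← hgv]
        exact (((MonoidHom.ofInjective (inj hφ₀)).trans f) _).2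
    subst hR
    have hgf : (MonoidHom.ofInjective (inj hφ₀)).trans f = g := MulEquiv.ext fun x => Subtype.ext (by rw [hgv, hg])
    rw [hgf] at h3
    have := FR.unique h3 hE
    subst this
    exact IsSubnormalIn.step hsub' h2

end CfsgLib.Fus21
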