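import Cfsg.Agent.LibFus21Iso5
import Cfsg.Agent.LibFus21RQ
import Cfsg.Agent.LibFus21Nrm1

set_option autoImplicit false

/-! A simple realizable system is realized by a simple group. -/

namespace CfsgLib.Fus21

open Cfsg Cfsg.FusionSystem

universe u v

variable {Ω : Type u} [Group Ω] {S : Subgroup Ω}

section

variable {G : Type v} [Group G] {F : FusionSystem S} {ι : S →* G} {T : Subgroup G}

theorem exists_real_equiv (h : F.IsRealizedBy ι) (hT : T = ι.range) :
    ∃ e : S ≃* T, (∀ x : S, ((e x : T) : G) = ι x) ∧ FR e F (groupFusionSystem T) := by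
  subst hT
  refine ⟨MonoidHom.ofInjective h.1, fun x => rfl, SR_self _, fun P P' φ φ' hP hφ => ?_⟩
  have hval : ∀ x (hx : x ∈ S), ((MonoidHom.ofInjective h.1 ⟨x, hx⟩ : ι.range) : G) = ι ⟨x, hx⟩ := fun x hx => rfl
  have hmem := hφ.mem hP
  rw [h.2 P hP.1 φ hmem, mem_groupFS]
  constructor
  · rintro ⟨g, hg⟩
    refine ⟨hP.2.1, ?_, g, ?_⟩
    · rintro ⟨y, hy⟩
      obtain ⟨x, hx, rfl⟩ := hP.exists_mem hy
      rw [hφ.val x hx hy (hmem _)]
      exact (MonoidHom.ofInjective h.1 _).2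
    · rintro ⟨y, hy⟩
      obtain ⟨x, hx, rfl⟩ := hP.exists_mem hy
      rw [hφ.val x hx hy (hmem _)]
      exact hg ⟨x, hx⟩
  · rintro ⟨-, -, g, hg⟩
    refine ⟨g, ?_⟩
    rintro ⟨x, hx⟩
    have hx' := (hP.2.2 ⟨x, hP.1 hx⟩).1 hx
    have h1 := hφ.val ⟨x, hP.1 hx⟩ hx hx' (hmem _)
    have h2 := hg ⟨_, hx'⟩
    rw [h1] at h2
    exact h2

end

theorem simple_realized [Finite S] {p : ℕ} [hp : Fact p.Prime] (hS : IsPGroup p S) {F : FusionSystem S}
    (hsimple : F.IsSimple p) (hreal : F.IsRealizable p) :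
    ∃ (G : Type u) (_ : Group G) (_ : Finite G) (_ : IsSimpleGroup G) (ι : ↥S →* G),
      F.IsRealizedBy ι ∧ ∃ T : Sylow p G, (T : Subgroup G) = ι.range := by
  classical
  have hex : ∃ n : ℕ, ∃ (G : Type u) (_ : Group G) (_ : Finite G) (ι : S →* G),
      F.IsRealizedBy ι ∧ (∃ T : Sylow p G, (T : Subgroup G) = ι.range) ∧ Nat.card G = n := by
    obtain ⟨G, hG, hf, ι, h1, h2⟩ := hreal
    exact ⟨Nat.card G, G, hG, hf, ι, h1, h2, rfl⟩
  obtain ⟨G, hG, hf, ι, hι, ⟨T, hT⟩, hn⟩ := Nat.find_spec hex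
  have hmin : ∀ (G' : Type u) (_ : Group G') (_ : Finite G') (ι' : S →* G'), F.IsRealizedBy ι' →
      (∃ T : Sylow p G', (T : Subgroup G') = ι'.range) → Nat.card G ≤ Nat.card G' := by
    intro G' hG' hf' ι' h1 h2
    rw [hn]
    exact Nat.find_min' hex ⟨G', hG', hf', ι', h1, h2, rfl⟩
  obtain ⟨e, hev, heF⟩ := exists_real_equiv hι hT
  have hfT : Finite (T : Subgroup G) := inferInstance
  have hSne : S ≠ ⊥ := hsimple.2.1
  refine ⟨G, hG, hf, ?_, ι, hι, T, hT⟩
  have hnt : Nontrivial G := by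
    by_contra hne
    rw [not_nontrivial_iff_subsingleton] at hne
    apply hSne
    rw [Subgroup.eq_bot_iff_forall]
    intro x hx
    have h1 : (⟨x, hx⟩ : S) = 1 := hι.1 (Subsingleton.elim _ _)
    exact congrArg Subtype.val h1
  refine IsSimpleGroup.mk fun N hN => ?_
  have hgn := group_normal p T N
  obtain ⟨T₀, E, hE⟩ := exists_FR e.symm (inf_le_left : (T : Subgroup G) ⊓ N ≤ T) (fusionSystemOfSubgroup N ((T : Subgroup G) ⊓ N) inf_le_right)
  have hEn : E.IsNormalIn F p := hE.normal T.2 heF.symm hgn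
  rcases hsimple.2.2 T₀ E hEn with h0 | ⟨h0, hHom⟩
  · left
    subst h0
    have hTN : (T : Subgroup G) ⊓ N = ⊥ := hE.1.symm.unique (SR_bot e)
    obtain ⟨Q, hQ⟩ := CfsgLib.H2Misc.exists_sylow_inf_normal T N
    have hQ1 : (Q : Subgroup N) = ⊥ := by
      rw [Subgroup.eq_bot_iff_forall]
      intro x hx
      have h1 : ((x : N) : G) ∈ (T : Subgroup G) ⊓ N := by
        rw [hQ] at hx
        exact ⟨hx, x.2⟩
      rw [hTN, Subgroup.mem_bot] at h1
      exact Subtype.ext h1
    have hc : (Nat.card N).Coprime p := by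
      rw [Nat.coprime_comm, hp.out.coprime_iff_not_dvd]
      intro hd
      have h1 := Q.card_eq_multiplicity
      rw [hQ1, Subgroup.card_bot] at h1
      have h2 : 0 < (Nat.card N).factorization p := hp.out.factorization_pos_of_dvd Nat.card_pos.ne' hd
      have h3 : p ^ 1 ≤ p ^ (Nat.card N).factorization p := Nat.pow_le_pow_right hp.out.pos h2
      rw [← h1, pow_one] at h3
      exact absurd hp.out.two_le (by omega)
    obtain ⟨h1, h2⟩ := real_quot_pprime hι hT N hc
    have h3 := hmin (G ⧸ N) _ inferInstance _ h1 h2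
    have h4 := Subgroup.card_eq_card_quotient_mul_card_subgroup N
    have h5 : 0 < Nat.card (G ⧸ N) := Nat.card_pos
    have h6 : Nat.card N ≤ 1 := by
      by_contra hlt
      have h7 : 2 ≤ Nat.card N := by omega
      have h8 : Nat.card (G ⧸ N) * 2 ≤ Nat.card (G ⧸ N) * Nat.card N := Nat.mul_le_mul_left _ h7
      omega
    exact Subgroup.eq_bot_of_card_le N h6
  · right
    subst h0
    have hTN : (T : Subgroup G) ⊓ N = (T : Subgroup G) := hE.1.symm.unique (SR_self e)
    have hle : (T : Subgroup G) ≤ N := inf_eq_left.1 hTN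
    have hιN : ∀ s, ι s ∈ N := fun s => hle (by rw [hT]; exact ⟨s, rfl⟩)
    have hreal' : F.IsRealizedBy (ι.codRestrict N hιN) := by
      refine ⟨fun x y hxy => hι.1 (congrArg Subtype.val hxy), fun P hP φ hφ => ?_⟩
      obtain ⟨P', hP'⟩ := exists_SR e hP
      obtain ⟨φ', hφ', -⟩ := exists_HR hP' φ hφ
      rw [← hHom P, ← hE.2 P' P φ' φ hP'.symm hφ'.symm]
      constructor
      · rintro ⟨-, -, g, hg, hgx⟩
        refine ⟨⟨g, hg⟩, ?_⟩
        rintro ⟨x, hx⟩
        apply Subtype.ext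
        have hx' := (hP'.2.2 ⟨x, hP hx⟩).1 hx
        have h1 := hφ'.val ⟨x, hP hx⟩ hx hx' (hφ _)
        have h2 := hgx ⟨_, hx'⟩
        rw [h1, hev] at h2
        refine h2.trans ?_
        show g * ((e ⟨x, hP hx⟩ : (T : Subgroup G)) : G) * g⁻¹ = _
        rw [hev]; rfl
      · rintro ⟨g, hg⟩
        refine ⟨?_, ?_, g, g.2, ?_⟩
        · rw [hTN]; exact hP'.2.1
        · rintro ⟨y, hy⟩
          rw [hTN]
          obtain ⟨x, hx, rfl⟩ := hP'.exists_mem hy
          rw [hφ'.val x hx hy (hφ _)]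
          exact (e _).2
        · rintro ⟨y, hy⟩
          obtain ⟨x, hx, rfl⟩ := hP'.exists_mem hy
          rw [hφ'.val x hx hy (hφ _), hev]
          have h1 := congrArg Subtype.val (hg ⟨x, hx⟩)
          refine h1.trans ?_
          show (g : G) * ι ⟨x, _⟩ * (g : G)⁻¹ = (g : G) * ((e x : (T : Subgroup G)) : G) * (g : G)⁻¹
          rw [hev]
    have hsyl : ∃ T' : Sylow p N, (T' : Subgroup N) = (ι.codRestrict N hιN).range := by
      refine ⟨T.subtype hle, ?_⟩
      ext x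
      rw [Sylow.coe_subtype, Subgroup.mem_subgroupOf, hT]
      constructor
      · rintro ⟨s, hs⟩
        exact ⟨s, Subtype.ext hs⟩
      · rintro ⟨s, hs⟩
        exact ⟨s, congrArg Subtype.val hs⟩
    have h1 := hmin N _ inferInstance _ hreal' hsyl
    exact Subgroup.eq_top_of_le_card N h1

end CfsgLib.Fus21
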