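import Cfsg.Agent.LibFus21Tv4
import Cfsg.Agent.LibDihedral

set_option autoImplicit false

/-! Odd order automorphisms of metacyclic 2-groups. -/

namespace CfsgLib.Fus21

open Cfsg

/-- `z ^ k = 1` with `k` odd and `z` of 2-power order -/
theorem eq_one_of_odd_zpow {R : Type*} [Group R] (hR : IsPGroup 2 R) {z : R} {k : ℤ} (hk : Odd k) (h : z ^ k = 1) : z = 1 := by
  obtain ⟨n, hn⟩ := hR z
  have hc : IsCoprime k ((2 ^ n : ℕ) : ℤ) := by
    push_cast
    refine IsCoprime.pow_right ?_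
    rw [Int.isCoprime_iff_gcd_eq_one]
    obtain ⟨m, rfl⟩ := hk
    have : Int.gcd (2 * m + 1) 2 = Int.gcd 1 2 := by
      rw [show (2 * m + 1 : ℤ) = 1 + 2 * m by ring, Int.gcd_add_mul_left_left]
    rw [this]; rfl
  obtain ⟨u, v, huv⟩ := hc
  have : z ^ (u * k + v * ((2 ^ n : ℕ) : ℤ)) = z := by rw [huv, zpow_one]
  rw [← this, zpow_add, mul_comm u, mul_comm v, zpow_mul, zpow_mul, h, zpow_natCast, hn, one_zpow, one_zpow, one_mul]

/-- an automorphism of odd order of a cyclic 2-group is trivial -/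
theorem odd_aut_cyclic {R : Type*} [Group R] (hR : IsPGroup 2 R) {ρ : MulAut R} {m : ℕ} (hm : Odd m) (hρ : ρ ^ m = 1)
    {D : Subgroup R} (hD : D.map ρ.toMonoidHom = D) {d : R} (hd : D = Subgroup.zpowers d) : ρ d = d := by
  have hdD : d ∈ D := hd ▸ Subgroup.mem_zpowers d
  have h1 : ρ d ∈ D := by
    rw [← hD]; exact ⟨d, hdD, rfl⟩
  rw [hd, Subgroup.mem_zpowers_iff] at h1
  obtain ⟨i, hi⟩ := h1
  have hpow : ∀ k : ℕ, (ρ ^ k) d = d ^ (i ^ k) := by
    intro k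
    induction k with
    | zero => simp
    | succ k ih =>
      rw [pow_succ', MulAut.mul_apply, ih, map_zpow, ← hi, ← zpow_mul, pow_succ']
  have h2 := hpow m
  rw [hρ, MulAut.one_apply] at h2
  -- d^(i^m - 1) = 1
  have h3 : d ^ (i ^ m - 1) = 1 := by
    rw [zpow_sub, ← h2, zpow_one, mul_inv_cancel]
  by_cases hiodd : Odd i
  · have h4 : i ^ m - 1 = (i - 1) * ∑ j ∈ Finset.range m, i ^ j := by
      rw [mul_comm]; exact (geom_sum_mul i m).symm
    have h50 : ∀ k : ℕ, Even ((∑ j ∈ Finset.range k, i ^ j) - (k : ℤ)) := by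
      intro k
      induction k with
      | zero => simp
      | succ k ih =>
        rw [Finset.sum_range_succ, Nat.cast_succ]
        have h51 : Even (i ^ k - 1) := (hiodd.pow).sub_odd odd_one
        obtain ⟨u, hu⟩ := ih.add h51
        exact ⟨u, by rw [← hu]; abel⟩
    have h5 : Odd (∑ j ∈ Finset.range m, i ^ j) := by
      have h51 : Odd (m : ℤ) := by exact_mod_cast hm
      have := (h50 m).add_odd h51
      simpa using this
    rw [h4, zpow_mul] at h3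
    have h6 := eq_one_of_odd_zpow hR h5 h3
    rw [← hi, ← mul_inv_eq_one, ← zpow_sub_one, h6]
  · have h7 : Odd (i ^ m - 1) := by
      rw [Int.not_odd_iff_even] at hiodd
      have : Even (i ^ m) := hiodd.pow_of_ne_zero hm.pos.ne'
      exact Even.sub_odd this odd_one
    have h8 := eq_one_of_odd_zpow hR h7 h3
    rw [h8, map_one]

theorem mem_zpowers_inf {R : Type*} [Group R] (hR : IsPGroup 2 R) (a : R) (M : Subgroup R) :
    ∃ s : ℕ, Subgroup.zpowers a ⊓ M = Subgroup.zpowers (a ^ 2 ^ s) := by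
  classical
  have hex : ∃ s : ℕ, a ^ 2 ^ s ∈ M := by
    obtain ⟨n, hn⟩ := hR a
    exact ⟨n, by rw [hn]; exact M.one_mem⟩
  refine ⟨Nat.find hex, le_antisymm ?_ ?_⟩
  · rintro x ⟨hx, hxM⟩
    obtain ⟨k, rfl⟩ := Subgroup.mem_zpowers_iff.1 hx
    -- gcd(k, 2^n)
    obtain ⟨n, hn⟩ := hR a
    obtain ⟨r, hr, hr2⟩ := (Nat.dvd_prime_pow Nat.prime_two).1 (show Int.gcd k ((2 ^ n : ℕ) : ℤ) ∣ 2 ^ n by
      have := Int.gcd_dvd_right k ((2 ^ n : ℕ) : ℤ)
      exact_mod_cast this)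
    have hmem : a ^ 2 ^ r ∈ M := by
      have h1 : ((2 ^ r : ℕ) : ℤ) = k * Int.gcdA k ((2 ^ n : ℕ) : ℤ) + ((2 ^ n : ℕ) : ℤ) * Int.gcdB k ((2 ^ n : ℕ) : ℤ) := by
        rw [← Int.gcd_eq_gcd_ab, hr2]
      rw [← zpow_natCast, h1, zpow_add, zpow_mul, zpow_mul, zpow_natCast a, hn, one_zpow, mul_one]
      exact M.zpow_mem hxM _
    have hle : Nat.find hex ≤ r := Nat.find_le hmem
    have hdvd : ((2 ^ Nat.find hex : ℕ) : ℤ) ∣ k := by
      refine dvd_trans ?_ (Int.gcd_dvd_left k ((2 ^ n : ℕ) : ℤ))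
      rw [hr2]
      exact_mod_cast Nat.pow_dvd_pow 2 hle
    obtain ⟨l, rfl⟩ := hdvd
    rw [zpow_mul, zpow_natCast]
    exact Subgroup.zpow_mem_zpowers _ _
  · rw [Subgroup.zpowers_le]
    exact ⟨Subgroup.pow_mem _ (Subgroup.mem_zpowers a) _, Nat.find_spec hex⟩

end CfsgLib.Fus21
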