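import Cfsg.Agent.LibFus21Mc1

set_option autoImplicit false

/-! Odd order automorphisms of metacyclic 2-groups, main theorem. -/

namespace CfsgLib.Fus21

open Cfsg

/-- in a finite cyclic group a subgroup is determined by its order -/
theorem cyc_eq_of_card {G : Type*} [Group G] [Finite G] [hC : IsCyclic G] {A B : Subgroup G}
    (h : Nat.card A = Nat.card B) : A = B := by
  classical
  haveI := Fintype.ofFinite G
  have key : ∀ S : Subgroup G, Finset.univ.filter (fun x : G => x ∈ S)
      = Finset.univ.filter (fun x : G => x ^ Nat.card S = 1) := by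
    intro S
    apply Finset.eq_of_subset_of_card_le
    · intro x hx
      simp only [Finset.mem_filter, Finset.mem_univ, true_and] at hx ⊢
      exact orderOf_dvd_iff_pow_eq_one.mp (by
        rw [← Nat.card_zpowers]
        exact Subgroup.card_dvd_of_le (by rwa [Subgroup.zpowers_le]))
    · refine (IsCyclic.card_pow_eq_one_le (α := G) Nat.card_pos).trans ?_
      rw [Nat.card_eq_fintype_card, Fintype.card_subtype]
  ext x
  have h1 := key A
  rw [h, ← key B] at h1
  have h2 := Finset.ext_iff.mp h1 x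
  simpa using h2

/-- **MC1** a metacyclic 2-group with an odd order automorphism without fixed points on the Frattini quotient -/
theorem metac_odd_aut {R : Type*} [Group R] [Finite R] (hR : IsPGroup 2 R) (hmc : Cfsg.IsMetacyclic R)
    {ρ : MulAut R} {m : ℕ} (hm : Odd m) (hρ : ρ ^ m = 1) (hidx : (frattini R).index = 4)
    (hfp : ∀ x, x⁻¹ * ρ x ∈ frattini R → x ∈ frattini R) :
    (∃ a b : R, orderOf a = 4 ∧ b * b = a ^ 2 ∧ b * a * b⁻¹ = a⁻¹ ∧ b ∉ Subgroup.zpowers a ∧
      Subgroup.closure ({a, b} : Set R) = ⊤) ∨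
    (∃ (n : ℕ) (a b : R), orderOf a = 2 ^ n ∧ orderOf b = 2 ^ n ∧ a * b = b * a ∧
      Subgroup.zpowers a ⊓ Subgroup.zpowers b = ⊥ ∧ Subgroup.zpowers a ⊔ Subgroup.zpowers b = ⊤) := by
  haveI : Fact (Nat.Prime 2) := ⟨Nat.prime_two⟩
  obtain ⟨N, hN, hNc, hqc⟩ := hmc
  obtain ⟨⟨a, haN⟩, hgen⟩ := hNc.exists_generator
  have hNa : N = Subgroup.zpowers a := by
    apply le_antisymm
    · intro x hx
      obtain ⟨k, hk⟩ := Subgroup.mem_zpowers_iff.1 (hgen ⟨x, hx⟩)
      exact Subgroup.mem_zpowers_iff.2 ⟨k, congrArg Subtype.val hk⟩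
    · rw [Subgroup.zpowers_le]; exact haN
  clear hgen
  have hsqΦ : ∀ x : R, x ^ 2 ∈ frattini R := fun x => CfsgLib.LE.pow_mem_frattini hR x
  set π := QuotientGroup.mk' (frattini R) with hπ
  have hπ1 : ∀ x, π x = 1 ↔ x ∈ frattini R := by
    intro x; rw [hπ, QuotientGroup.mk'_apply, QuotientGroup.eq_one_iff]
  have hsq : ∀ v : R ⧸ frattini R, v * v = 1 := by
    intro v
    obtain ⟨x, rfl⟩ := QuotientGroup.mk'_surjective _ v
    rw [← map_mul, ← pow_two]
    exact (hπ1 _).2 (hsqΦ x)
  have hinv : ∀ v : R ⧸ frattini R, v⁻¹ = v := fun v => inv_eq_of_mul_eq_one_right (hsq v)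
  have hcm : ∀ v w : R ⧸ frattini R, v * w = w * v := by
    intro v w
    have := hinv (v * w)
    rw [mul_inv_rev, hinv, hinv] at this
    exact this.symm
  have hρΦ : ∀ x, ρ x ∈ frattini R ↔ x ∈ frattini R := by
    intro x
    have hch : (frattini R).map ρ.toMonoidHom = frattini R :=
      Subgroup.characteristic_iff_map_eq.1 inferInstance ρ
    constructor
    · intro h
      rw [← hch] at h
      obtain ⟨y, hy, hyx⟩ := h
      have : y = x := ρ.injective hyx
      rwa [← this]
    · intro h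
      rw [← hch]
      exact ⟨x, h, rfl⟩
  have hfp' : ∀ x, π (ρ x) = π x → x ∈ frattini R := by
    intro x h
    refine hfp x ?_
    rw [← hπ1, map_mul, map_inv, h, inv_mul_cancel]
  have hρcong : ∀ x y, π x = π y → π (ρ x) = π (ρ y) := by
    intro x y h
    have h1 : x⁻¹ * y ∈ frattini R := by
      rw [← hπ1, map_mul, map_inv, h, inv_mul_cancel]
    have h2 := (hρΦ _).2 h1
    rw [← hπ1, map_mul, map_inv, map_mul, map_inv, inv_mul_eq_one] at h2
    exact h2
  -- a ∉ Φ
  have haΦ : a ∉ frattini R := by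
    intro ha
    have hNle : N ≤ frattini R := by rw [hNa, Subgroup.zpowers_le]; exact ha
    haveI : IsCyclic (R ⧸ frattini R) := by
      haveI := hqc
      refine isCyclic_of_surjective (QuotientGroup.map N (frattini R) (MonoidHom.id R) hNle) ?_
      intro v
      obtain ⟨x, rfl⟩ := QuotientGroup.mk'_surjective _ v
      exact ⟨QuotientGroup.mk' N x, rfl⟩
    have := cyclic_card_le (V := R ⧸ frattini R) two_pos (fun v => by rw [pow_two]; exact hsq v)
    rw [← Subgroup.index_eq_card, hidx] at this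
    omega
  set b := ρ a with hb
  set c := ρ b with hc
  have hbΦ : b ∉ frattini R := fun h => haΦ ((hρΦ a).1 h)
  have hcΦ : c ∉ frattini R := fun h => hbΦ ((hρΦ b).1 h)
  have hab : π a ≠ π b := fun h => haΦ (hfp' a h.symm)
  have hbc : π b ≠ π c := fun h => hbΦ (hfp' b h.symm)
  have hac : π a ≠ π c := by
    intro h
    have h1 : a * b ∈ frattini R := by
      apply hfp'
      rw [map_mul ρ, ← hb, ← hc, map_mul, map_mul, ← h, hcm]
    rw [← hπ1, map_mul, mul_eq_one_iff_eq_inv, hinv] at h1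
    exact hab h1
  -- normality
  have hMn : (Subgroup.zpowers b).Normal := by
    have h1 : (N.map ρ.toMonoidHom).Normal := hN.map _ ρ.surjective
    rw [hNa, MonoidHom.map_zpowers] at h1
    exact h1
  have hNn : (Subgroup.zpowers a).Normal := hNa ▸ hN
  -- generation
  have htop : Subgroup.zpowers a ⊔ Subgroup.zpowers b = ⊤ := by
    apply frattini_nongenerating
    set H1 := frattini R ⊔ Subgroup.zpowers a with hH1
    set H2 := Subgroup.zpowers a ⊔ Subgroup.zpowers b ⊔ frattini R with hH2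
    have h01 : frattini R ≤ H1 := le_sup_left
    have h12 : H1 ≤ H2 := sup_le le_sup_right (le_sup_left.trans le_sup_left)
    have haH1 : a ∈ H1 := (le_sup_right : _ ≤ H1) (Subgroup.mem_zpowers a)
    have hbH2 : b ∈ H2 := (le_sup_left : _ ≤ H2) ((le_sup_right : Subgroup.zpowers b ≤ _) (Subgroup.mem_zpowers b))
    have hbH1 : b ∉ H1 := by
      intro h
      have h1 : (b : R) ∈ ((frattini R ⊔ Subgroup.zpowers a : Subgroup R) : Set R) := h
      rw [Subgroup.normal_mul] at h1
      obtain ⟨f, hf, y, hy, hfy⟩ := Set.mem_mul.1 h1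
      obtain ⟨k, rfl⟩ := Subgroup.mem_zpowers_iff.1 hy
      have h2 : π b = π a ^ k := by
        rw [← hfy, map_mul, (hπ1 f).2 hf, one_mul, map_zpow]
      rcases Int.even_or_odd' k with ⟨l, rfl | rfl⟩
      · rw [zpow_mul, zpow_two, hsq, one_zpow, hπ1] at h2
        exact hbΦ h2
      · rw [zpow_add, zpow_mul, zpow_two, hsq, one_zpow, one_mul, zpow_one] at h2
        exact hab h2.symm
    have e1 := Subgroup.relIndex_mul_relIndex _ _ _ h01 h12
    have e2 := Subgroup.relIndex_mul_index (h01.trans h12)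
    rw [hidx, ← e1] at e2
    have h3 : (frattini R).relIndex H1 ≠ 1 := by
      intro h
      rw [Subgroup.relIndex_eq_one] at h
      exact haΦ (h haH1)
    have h4 : H1.relIndex H2 ≠ 1 := by
      intro h
      rw [Subgroup.relIndex_eq_one] at h
      exact hbH1 (h hbH2)
    rw [← Subgroup.index_eq_one]
    have h5 : (frattini R).relIndex H1 ≠ 0 := by
      intro h; rw [h] at e2; omega
    have h6 : H1.relIndex H2 ≠ 0 := by
      intro h; rw [h] at e2; omega
    have h7 : 2 ≤ (frattini R).relIndex H1 := by omega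
    have h8 : 2 ≤ H1.relIndex H2 := by omega
    have h9 : 4 ≤ (frattini R).relIndex H1 * H1.relIndex H2 := Nat.mul_le_mul h7 h8
    have h10 : H2.index ≤ 1 := by
      by_contra h
      push Not at h
      have : 4 * 2 ≤ (frattini R).relIndex H1 * H1.relIndex H2 * H2.index := Nat.mul_le_mul h9 h
      omega
    have h11 : H2.index ≠ 0 := Subgroup.index_ne_zero_of_finite
    omega
  have hclos : Subgroup.closure ({a, b} : Set R) = ⊤ := by
    rw [eq_top_iff, ← htop, sup_le_iff, Subgroup.zpowers_le, Subgroup.zpowers_le]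
    exact ⟨Subgroup.subset_closure (by simp), Subgroup.subset_closure (by simp)⟩
  -- the intersection
  obtain ⟨s, hs⟩ := mem_zpowers_inf hR a (Subgroup.zpowers b)
  set z := a ^ 2 ^ s with hz
  have hzD : z ∈ Subgroup.zpowers a ⊓ Subgroup.zpowers b := by rw [hs]; exact Subgroup.mem_zpowers z
  have hzc : ∀ x, x * z = z * x := by
    have hcen : Subgroup.centralizer ({z} : Set R) = ⊤ := by
      rw [eq_top_iff, ← htop, sup_le_iff, Subgroup.zpowers_le, Subgroup.zpowers_le]
      constructor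
      · rw [Subgroup.mem_centralizer_singleton_iff]
        obtain ⟨k, hk⟩ := Subgroup.mem_zpowers_iff.1 hzD.1
        rw [← hk]; exact (Commute.self_zpow a k).eq
      · rw [Subgroup.mem_centralizer_singleton_iff]
        obtain ⟨k, hk⟩ := Subgroup.mem_zpowers_iff.1 hzD.2
        rw [← hk]; exact (Commute.self_zpow b k).eq
    intro x
    have : x ∈ Subgroup.centralizer ({z} : Set R) := by rw [hcen]; trivial
    rw [Subgroup.mem_centralizer_singleton_iff] at this
    exact this
  -- D is invariant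
  have hDmap : (Subgroup.zpowers a ⊓ Subgroup.zpowers b).map ρ.toMonoidHom =
      Subgroup.zpowers a ⊓ Subgroup.zpowers b := by
    have h1 : (Subgroup.zpowers a ⊓ Subgroup.zpowers b).map ρ.toMonoidHom ≤ Subgroup.zpowers b := by
      rintro _ ⟨x, ⟨hx, -⟩, rfl⟩
      obtain ⟨k, rfl⟩ := Subgroup.mem_zpowers_iff.1 hx
      rw [Subgroup.mem_zpowers_iff]
      exact ⟨k, by rw [hb]; exact (map_zpow ρ a k).symm⟩
    have h2 : Nat.card ((Subgroup.zpowers a ⊓ Subgroup.zpowers b).map ρ.toMonoidHom : Subgroup R) =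
        Nat.card (Subgroup.zpowers a ⊓ Subgroup.zpowers b : Subgroup R) :=
      Nat.card_congr (Subgroup.equivMapOfInjective _ _ ρ.injective).toEquiv.symm
    -- uniqueness in cyclic group
    have h3 : ∀ A B : Subgroup R, A ≤ Subgroup.zpowers b → B ≤ Subgroup.zpowers b → Nat.card A = Nat.card B → A = B := by
      intro A B hA hB hAB
      have h4 : A.subgroupOf (Subgroup.zpowers b) = B.subgroupOf (Subgroup.zpowers b) := by
        apply cyc_eq_of_card
        rw [Nat.card_congr (Subgroup.subgroupOfEquivOfLe hA).toEquiv,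
          Nat.card_congr (Subgroup.subgroupOfEquivOfLe hB).toEquiv, hAB]
      have h5 := congrArg (Subgroup.map (Subgroup.zpowers b).subtype) h4
      rwa [Subgroup.map_subgroupOf_eq_of_le hA, Subgroup.map_subgroupOf_eq_of_le hB] at h5
    exact h3 _ _ h1 inf_le_right h2
  have hρz : ρ z = z := odd_aut_cyclic hR hm hρ hDmap hs
  have hbz : b ^ 2 ^ s = z := by
    rw [hb, ← map_pow, ← hz, hρz]
  have hcz : c ^ 2 ^ s = z := by
    rw [hc, ← map_pow, hbz, hρz]
  -- write c
  have hcmem : (c : R) ∈ ((Subgroup.zpowers a ⊔ Subgroup.zpowers b : Subgroup R) : Set R) := by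
    rw [htop]; trivial
  rw [Subgroup.normal_mul] at hcmem
  obtain ⟨r, hr, t, ht, hrt⟩ := Set.mem_mul.1 hcmem
  obtain ⟨i, hi⟩ := Subgroup.mem_zpowers_iff.1 hr
  obtain ⟨j, hj⟩ := Subgroup.mem_zpowers_iff.1 ht
  have hπc : π c = π a ^ i * π b ^ j := by
    rw [← hrt, map_mul, ← hi, ← hj, map_zpow, map_zpow]
  have hodd : ∀ (v : R ⧸ frattini R) (k : ℤ), Odd k → v ^ k = v := by
    rintro v _ ⟨l, rfl⟩
    rw [zpow_add, zpow_mul, zpow_two, hsq, one_zpow, one_mul, zpow_one]
  have heven : ∀ (v : R ⧸ frattini R) (k : ℤ), Even k → v ^ k = 1 := by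
    rintro v _ ⟨l, rfl⟩
    rw [← two_mul, zpow_mul, zpow_two, hsq, one_zpow]
  have hiodd : Odd i := by
    by_contra h
    rw [Int.not_odd_iff_even] at h
    rw [heven _ _ h, one_mul] at hπc
    rcases Int.even_or_odd j with h' | h'
    · rw [heven _ _ h', hπ1] at hπc; exact hcΦ hπc
    · rw [hodd _ _ h'] at hπc; exact hbc hπc.symm
  have hjodd : Odd j := by
    by_contra h
    rw [Int.not_odd_iff_even] at h
    rw [heven _ _ h, mul_one, hodd _ _ hiodd] at hπc
    exact hac hπc.symm
  -- the commutator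
  set d := r⁻¹ * (t * r * t⁻¹) with hd
  have hd1 : t * r * t⁻¹ = r * d := by rw [hd]; group
  have hdD : d ∈ Subgroup.zpowers a ⊓ Subgroup.zpowers b := by
    constructor
    · exact Subgroup.mul_mem _ (Subgroup.inv_mem _ hr) (hNn.conj_mem r hr t)
    · have : d = (r⁻¹ * t * r⁻¹⁻¹) * t⁻¹ := by rw [hd]; group
      rw [this]
      exact Subgroup.mul_mem _ (hMn.conj_mem t ht _) (Subgroup.inv_mem _ ht)
  have hdz : ∃ k : ℤ, d = z ^ k := by
    rw [hs, Subgroup.mem_zpowers_iff] at hdD
    obtain ⟨k, hk⟩ := hdD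
    exact ⟨k, hk.symm⟩
  obtain ⟨k, hk⟩ := hdz
  have hdc : ∀ x, x * d = d * x := by
    intro x; rw [hk]; exact ((show Commute x z from hzc x).zpow_right k).eq
  have hrq : r ^ 2 ^ s = z ^ i := by
    rw [← hi, ← zpow_natCast, ← zpow_mul, mul_comm, zpow_mul, zpow_natCast]
  have htq : t ^ 2 ^ s = z ^ j := by
    rw [← hj, ← zpow_natCast, ← zpow_mul, mul_comm, zpow_mul, zpow_natCast, hbz]
  have hdq : d ^ 2 ^ s = 1 := by
    have h1 : t * r ^ 2 ^ s * t⁻¹ = r ^ 2 ^ s * d ^ 2 ^ s := by
      have h2 : t * r ^ 2 ^ s * t⁻¹ = (t * r * t⁻¹) ^ 2 ^ s := by rw [conj_pow]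
      rw [h2, hd1]
      exact (show Commute r d from hdc r).mul_pow _
    have h3 : t * r ^ 2 ^ s * t⁻¹ = r ^ 2 ^ s := by
      rw [hrq, ((show Commute t z from hzc t).zpow_right i).eq, mul_inv_cancel_right]
    rw [h3] at h1
    exact (mul_eq_left.1 h1.symm)
  have hcq : z ^ i * d ^ (2 ^ s * (2 ^ s - 1) / 2) * z ^ j = z := by
    have := class2_pow hd1 (by rw [hdc t, mul_inv_cancel_right]) (hdc r) (2 ^ s)
    rw [hrt, hcz, hrq, htq] at this
    exact this.symm
  have hmain : z ^ (i + j - 1) * d ^ (2 ^ s * (2 ^ s - 1) / 2) = 1 := by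
    have h1 : Commute (d ^ (2 ^ s * (2 ^ s - 1) / 2)) (z ^ j) :=
      ((show Commute z d from hdc z).symm.pow_left _).zpow_right _
    have h2 : z ^ (i + j - 1) * d ^ (2 ^ s * (2 ^ s - 1) / 2) =
        z⁻¹ * (z ^ i * d ^ (2 ^ s * (2 ^ s - 1) / 2) * z ^ j) := by
      rw [mul_assoc (z ^ i), h1.eq]
      have : z ^ (i + j - 1) = z⁻¹ * (z ^ i * z ^ j) := by
        rw [← zpow_add, ← zpow_neg_one, ← zpow_add]; congr 1; ring
      rw [this]; group
    rw [h2, hcq, inv_mul_cancel]
  have hijodd : Odd (i + j - 1) := by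
    have := hiodd.add_odd hjodd
    exact this.sub_odd odd_one
  -- if z = 1 we are in the homocyclic case
  have hcase1 : z = 1 → Subgroup.zpowers a ⊓ Subgroup.zpowers b = ⊥ := by
    intro h; rw [hs, h, Subgroup.zpowers_one_eq_bot]
  have hfin : z = 1 → (∃ (n : ℕ) (a b : R), orderOf a = 2 ^ n ∧ orderOf b = 2 ^ n ∧ a * b = b * a ∧
      Subgroup.zpowers a ⊓ Subgroup.zpowers b = ⊥ ∧ Subgroup.zpowers a ⊔ Subgroup.zpowers b = ⊤) := by
    intro h
    obtain ⟨n, hn⟩ := (IsPGroup.iff_orderOf.1 hR) a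
    refine ⟨n, a, b, hn, ?_, ?_, hcase1 h, htop⟩
    · rw [hb, ← hn]; exact orderOf_injective ρ.toMonoidHom ρ.injective a
    · have h1 : a * b * a⁻¹ * b⁻¹ ∈ Subgroup.zpowers a ⊓ Subgroup.zpowers b := by
        constructor
        · have : a * b * a⁻¹ * b⁻¹ = a * (b * a⁻¹ * b⁻¹) := by group
          rw [this]
          exact mul_mem (Subgroup.mem_zpowers a) (hNn.conj_mem _ (Subgroup.inv_mem _ (Subgroup.mem_zpowers a)) b)
        · exact mul_mem (hMn.conj_mem _ (Subgroup.mem_zpowers b) a) (Subgroup.inv_mem _ (Subgroup.mem_zpowers b))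
      rw [hcase1 h, Subgroup.mem_bot] at h1
      have h2 : a * b = (a * b * a⁻¹ * b⁻¹) * (b * a) := by group
      rw [h2, h1, one_mul]
  rcases Nat.lt_or_ge s 2 with hs2 | hs2
  · interval_cases s
    · -- s = 0
      exfalso
      rw [pow_zero, pow_one] at hz
      rw [hz] at hzD
      obtain ⟨k, hk⟩ := Subgroup.mem_zpowers_iff.1 hzD.2
      have h1 : π a = π b ^ k := by rw [← hk, map_zpow]
      rcases Int.even_or_odd k with h' | h'
      · rw [heven _ _ h', hπ1] at h1; exact haΦ h1
      · rw [hodd _ _ h'] at h1; exact hab h1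
    · -- s = 1
      have hd2 : d ^ 2 = 1 := by simpa using hdq
      have he : 2 ^ 1 * (2 ^ 1 - 1) / 2 = 1 := by norm_num
      rw [he, pow_one] at hmain
      have hz2 : z ^ 2 = 1 := by
        apply eq_one_of_odd_zpow hR hijodd
        have h1 : z ^ (i + j - 1) = d⁻¹ := eq_inv_of_mul_eq_one_left hmain
        rw [← zpow_natCast, ← zpow_mul, mul_comm, zpow_mul, h1]
        rw [zpow_natCast, inv_pow, hd2, inv_one]
      by_cases hz1 : z = 1
      · exact Or.inr (hfin hz1)
      · left
        rw [pow_one] at hz hbz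
        have hz3 : z ^ (i + j - 1) = z := by
          obtain ⟨l, hl⟩ := hijodd
          rw [hl, zpow_add, zpow_mul, zpow_one, show z ^ (2 : ℤ) = 1 by exact_mod_cast hz2, one_zpow, one_mul]
        rw [hz3] at hmain
        have hdz : d = z := by
          have h1 : d = z⁻¹ := eq_inv_of_mul_eq_one_right hmain
          rw [h1, inv_eq_iff_mul_eq_one, ← pow_two, hz2]
        have ha4 : a ^ 4 = 1 := by rw [show 4 = 2 * 2 by norm_num, pow_mul, ← hz, hz2]
        -- t a t⁻¹ = a z
        have hta : t * a * t⁻¹ = a * z := by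
          obtain ⟨l, hl⟩ := hiodd
          have hra : r = a * z ^ l := by
            rw [← hi, hl, zpow_add, zpow_one, zpow_mul, show a ^ (2 : ℤ) = z by rw [hz]; exact_mod_cast rfl]
            exact ((show Commute a z from hzc a).zpow_right l).eq.symm
          have h1 := hd1
          rw [hra, hdz] at h1
          have h2 : t * (a * z ^ l) * t⁻¹ = (t * a * t⁻¹) * z ^ l := by
            have h3 : z ^ l * t⁻¹ = t⁻¹ * z ^ l := ((show Commute t⁻¹ z from hzc t⁻¹).zpow_right l).eq.symm
            rw [← mul_assoc, mul_assoc _ (z ^ l), h3]; group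
          rw [h2] at h1
          have h4 : a * z ^ l * z = a * z * z ^ l := by
            rw [mul_assoc, mul_assoc, ← zpow_add_one, ← zpow_one_add, add_comm]
          rw [h4] at h1
          exact mul_right_cancel h1
        have hba : b * a * b⁻¹ = a * z := by
          obtain ⟨l, hl⟩ := hjodd
          have htb : t = z ^ l * b := by
            rw [← hj, hl, zpow_add, zpow_one, zpow_mul, show b ^ (2 : ℤ) = z by rw [← hbz]; exact_mod_cast rfl]
          rw [htb] at hta
          have h2 : z ^ l * b * a * (z ^ l * b)⁻¹ = z ^ l * (b * a * b⁻¹) * (z ^ l)⁻¹ := by group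
          rw [h2, ← ((show Commute (b * a * b⁻¹) z from hzc _).zpow_right l).eq, mul_inv_cancel_right] at hta
          exact hta
        have hoa : orderOf a = 4 := by
          have h1 : orderOf a = 2 ^ (1 + 1) := by
            apply orderOf_eq_prime_pow
            · rw [pow_one, ← hz]; exact hz1
            · rw [show 2 ^ (1 + 1) = 4 by norm_num]; exact ha4
          rw [h1]; norm_num
        refine ⟨a, b, hoa, ?_, ?_, ?_, hclos⟩
        · rw [← pow_two, hbz, hz]
        · rw [hba, hz]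
          rw [eq_inv_iff_mul_eq_one, ← ha4]
          group
        · intro h
          obtain ⟨k, hk⟩ := Subgroup.mem_zpowers_iff.1 h
          have h1 : π b = π a ^ k := by rw [← hk, map_zpow]
          rcases Int.even_or_odd k with h' | h'
          · rw [heven _ _ h', hπ1] at h1; exact hbΦ h1
          · rw [hodd _ _ h'] at h1; exact hab h1.symm
  · -- s ≥ 2
    right
    apply hfin
    obtain ⟨s', rfl⟩ := Nat.exists_eq_add_of_le hs2
    have he : 2 ^ (2 + s') * (2 ^ (2 + s') - 1) / 2 = 2 * (2 ^ s' * (2 ^ (2 + s') - 1)) := by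
      rw [show 2 ^ (2 + s') * (2 ^ (2 + s') - 1) = (2 * (2 ^ s' * (2 ^ (2 + s') - 1))) * 2 by ring]
      exact Nat.mul_div_cancel _ two_pos
    -- z ^ 2 = 1
    have hd3 : (d ^ (2 ^ (2 + s') * (2 ^ (2 + s') - 1) / 2)) ^ 2 = 1 := by
      rw [he, ← pow_mul, show 2 * (2 ^ s' * (2 ^ (2 + s') - 1)) * 2 = 2 ^ (2 + s') * (2 ^ (2 + s') - 1) by ring,
        pow_mul, hdq, one_pow]
    have hz2 : z ^ 2 = 1 := by
      apply eq_one_of_odd_zpow hR hijodd
      have h1 : z ^ (i + j - 1) = (d ^ (2 ^ (2 + s') * (2 ^ (2 + s') - 1) / 2))⁻¹ := eq_inv_of_mul_eq_one_left hmain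
      rw [← zpow_natCast, ← zpow_mul, mul_comm, zpow_mul, h1, zpow_natCast, inv_pow, hd3, inv_one]
    have hd2 : d ^ 2 = 1 := by
      rw [hk, ← zpow_natCast, ← zpow_mul, mul_comm, zpow_mul, zpow_natCast, hz2, one_zpow]
    rw [he, pow_mul, hd2, one_pow, mul_one] at hmain
    exact eq_one_of_odd_zpow hR hijodd hmain

end CfsgLib.Fus21
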