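import Cfsg.Agent.LibMaxClass3
import Cfsg.Agent.LibMaxClass
import Cfsg.Agent.LibCycNorm
import Cfsg.Agent.LibDihedral
import Cfsg.Prelude.Def_CaseTheorems

set_option autoImplicit false

/-! 2-groups of maximal class are dihedral, generalized quaternion or quasi-dihedral. -/

namespace CfsgLib.Fus21

open Cfsg

/-- **classification of the 2-groups of maximal class** -/
theorem maxClass_two {P : Type*} [Group P] [Finite P] {n : ℕ} (hn : 3 ≤ n) (hP : Nat.card P = 2 ^ n)
    (hi : (commutator P).index = 4) :
    (∃ m : ℕ, Nonempty (P ≃* DihedralGroup m)) ∨ (∃ m : ℕ, Nonempty (P ≃* QuaternionGroup m)) ∨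
      Cfsg.IsQuasiDihedral P := by
  haveI : Fact (Nat.Prime 2) := ⟨Nat.prime_two⟩
  have hPp : IsPGroup 2 P := IsPGroup.of_card hP
  obtain ⟨c, hc⟩ := CfsgLib.MaxClass.exists_cyclic n P hP hn hi
  have hcardc : orderOf c = 2 ^ (n - 1) := by
    have h1 := (Subgroup.zpowers c).card_mul_index
    rw [hc, hP, Nat.card_zpowers] at h1
    obtain ⟨k, rfl⟩ : ∃ k, n = k + 1 := ⟨n - 1, by omega⟩
    rw [Nat.add_sub_cancel]
    rw [pow_succ] at h1
    exact Nat.eq_of_mul_eq_mul_right two_pos h1
  have hgen : ∀ (a b : P), (Subgroup.zpowers a).index = 2 → b ∉ Subgroup.zpowers a →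
      Subgroup.closure ({a, b} : Set P) = ⊤ := by
    intro a b ha hb
    rw [eq_top_iff, ← CfsgLib.MaxClass.sup_zpowers_of_index_two ha hb, sup_le_iff, Subgroup.zpowers_le, Subgroup.zpowers_le]
    exact ⟨Subgroup.subset_closure (by simp), Subgroup.subset_closure (by simp)⟩
  have hcn : (Subgroup.zpowers c).Normal := Subgroup.normal_of_index_eq_two hc
  have hcomm_le : commutator P ≤ Subgroup.zpowers c := by
    haveI := hcn
    rw [← Subgroup.Normal.quotient_commutative_iff_commutator_le]
    haveI : IsCyclic (P ⧸ Subgroup.zpowers c) := by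
      haveI : Fact (Nat.card (P ⧸ Subgroup.zpowers c)).Prime := ⟨by
        rw [← Subgroup.index_eq_card, hc]; exact Nat.prime_two⟩
      exact isCyclic_of_prime_card rfl
    exact IsCyclic.commutative (α := P ⧸ Subgroup.zpowers c)
  rcases Nat.lt_or_ge n 4 with h4 | h4
  · -- n = 3
    have hn3 : n = 3 := by omega
    subst hn3
    obtain ⟨b, hb⟩ := CfsgLib.MaxClass.exists_not_mem_of_index_two hc
    have hc4 : c ^ 4 = 1 := by rw [← orderOf_dvd_iff_pow_eq_one, hcardc]; norm_num
    have hpow : ∀ y ∈ Subgroup.zpowers c, y = 1 ∨ y = c ∨ y = c ^ 2 ∨ y = c⁻¹ := by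
      intro y hy
      obtain ⟨k, rfl⟩ := Subgroup.mem_zpowers_iff.1 hy
      have h1 : c ^ k = c ^ (k % 4) := by
        conv_lhs => rw [← Int.emod_add_mul_ediv k 4, zpow_add, zpow_mul, show c ^ (4 : ℤ) = 1 by exact_mod_cast hc4,
          one_zpow, mul_one]
      have h2 : 0 ≤ k % 4 := Int.emod_nonneg _ (by norm_num)
      have h3 : k % 4 < 4 := Int.emod_lt_of_pos _ (by norm_num)
      rw [h1]
      interval_cases (k % 4)
      · left; simp
      · right; left; simp
      · right; right; left; exact_mod_cast rfl
      · right; right; right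
        rw [eq_inv_iff_mul_eq_one, ← hc4]; exact_mod_cast (pow_succ c 3).symm
    have hbc : b * c * b⁻¹ = c⁻¹ := by
      have hne1 : c ≠ 1 := by rintro rfl; rw [orderOf_one] at hcardc; norm_num at hcardc
      have hne2 : c ^ 2 ≠ 1 := by
        intro h
        have := orderOf_dvd_of_pow_eq_one h
        rw [hcardc] at this; norm_num at this
      rcases hpow _ (hcn.conj_mem c (Subgroup.mem_zpowers c) b) with h | h | h | h
      · exact absurd (conj_eq_one_iff.1 h) hne1
      · -- abelian: contradiction with index
        exfalso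
        have hab : commutator P = ⊥ := by
          rw [commutator_eq_bot_iff_center_eq_top, eq_top_iff, ← hgen c b hc hb, Subgroup.closure_le]
          have hcc : ∀ g : P, g ∈ Subgroup.centralizer ({c, b} : Set P) → g ∈ Subgroup.center P := by
            intro g hg
            rw [Subgroup.mem_center_iff]
            intro x
            have hx : x ∈ Subgroup.closure ({c, b} : Set P) := by rw [hgen c b hc hb]; trivial
            rw [← Subgroup.centralizer_closure] at hg
            exact (Subgroup.mem_centralizer_iff.1 hg x hx)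
          have hbc' : b * c = c * b := mul_inv_eq_iff_eq_mul.1 h
          rintro g (rfl | rfl)
          · apply hcc
            rw [Subgroup.mem_centralizer_iff]
            rintro x (rfl | rfl)
            · rfl
            · exact hbc'
          · apply hcc
            rw [Subgroup.mem_centralizer_iff]
            rintro x (rfl | rfl)
            · exact hbc'.symm
            · rfl
        rw [hab, Subgroup.index_bot, hP] at hi
        norm_num at hi
      · exfalso
        have h5 : (b * c * b⁻¹) ^ 2 = 1 := by rw [h, ← pow_mul]; exact hc4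
        rw [conj_pow, conj_eq_one_iff] at h5
        exact hne2 h5
      · exact h
    have hbb : b * b ∈ Subgroup.zpowers c := Subgroup.mul_self_mem_of_index_two hc b
    have hbb2 : b * (b * b) * b⁻¹ = b * b := by group
    rcases hpow _ hbb with h | h | h | h
    · left
      exact ⟨4, CfsgLib.Dihedral.nonempty_equiv_dihedral_top (a := c) (b := b) (by rw [hcardc]; norm_num) h hbc hb (hgen c b hc hb)⟩
    · exfalso
      rw [h, hbc] at hbb2
      have h6 : c ^ 2 = 1 := by rw [pow_two]; nth_rewrite 1 [← hbb2]; rw [inv_mul_cancel]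
      have := orderOf_dvd_of_pow_eq_one h6
      rw [hcardc] at this; norm_num at this
    · right; left
      exact ⟨2, CfsgLib.Dihedral.nonempty_equiv_quaternion_top (a := c) (b := b) (by rw [hcardc]; norm_num) h hbc hb (hgen c b hc hb)⟩
    · exfalso
      rw [h] at hbb2
      have h7 : b * c⁻¹ * b⁻¹ = c := by
        have : b * c⁻¹ * b⁻¹ = (b * c * b⁻¹)⁻¹ := by group
        rw [this, hbc, inv_inv]
      rw [h7] at hbb2
      have h6 : c ^ 2 = 1 := by rw [pow_two]; nth_rewrite 1 [hbb2]; rw [inv_mul_cancel]
      have := orderOf_dvd_of_pow_eq_one h6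
      rw [hcardc] at this; norm_num at this
  · -- n ≥ 4: abelian normal subgroups are cyclic
    have hcen : Nat.card (Subgroup.center P) = 2 := CfsgLib.MaxClass.card_center hn hP hi
    have hnorm : ∀ A : Subgroup P, A.Normal → IsMulCommutative A → IsCyclic A := by
      intro A hA hAc
      by_contra hncyc
      have hAle : ¬ A ≤ Subgroup.zpowers c := by
        intro h
        apply hncyc
        exact isCyclic_of_injective (Subgroup.inclusion h) (Subgroup.inclusion_injective h)
      obtain ⟨a, haA, hac⟩ := Set.not_subset.1 hAle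
      have htop : Subgroup.zpowers c ⊔ A = ⊤ := by
        rw [eq_top_iff, ← CfsgLib.MaxClass.sup_zpowers_of_index_two hc hac]
        exact sup_le_sup_left (by rw [Subgroup.zpowers_le]; exact haA) _
      have hle2 : commutator P ≤ A := by
        rw [← Subgroup.Normal.quotient_commutative_iff_commutator_le]
        have hsurj : Function.Surjective ((QuotientGroup.mk' A).comp (Subgroup.zpowers c).subtype) := by
          intro v
          obtain ⟨x, rfl⟩ := QuotientGroup.mk'_surjective _ v
          have hx : x ∈ ((Subgroup.zpowers c ⊔ A : Subgroup P) : Set P) := by rw [htop]; trivial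
          rw [Subgroup.mul_normal] at hx
          obtain ⟨y, hy, z, hz, rfl⟩ := Set.mem_mul.1 hx
          refine ⟨⟨y, hy⟩, ?_⟩
          rw [MonoidHom.comp_apply, map_mul, (QuotientGroup.eq_one_iff z).2 hz |> (show QuotientGroup.mk' A z = 1 from ·), mul_one]
          rfl
        haveI := isCyclic_of_surjective _ hsurj
        exact IsCyclic.commutative (α := P ⧸ A)
      have hle3 : commutator P ≤ Subgroup.center P := by
        intro g hg
        rw [Subgroup.mem_center_iff]
        intro x
        have hx : x ∈ Subgroup.centralizer ({g} : Set P) := by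
          have : (⊤ : Subgroup P) ≤ Subgroup.centralizer ({g} : Set P) := by
            rw [← htop, sup_le_iff]
            constructor
            · rw [Subgroup.zpowers_le, Subgroup.mem_centralizer_singleton_iff]
              obtain ⟨k, hk⟩ := Subgroup.mem_zpowers_iff.1 (hcomm_le hg)
              rw [← hk]; exact (Commute.self_zpow c k).eq
            · intro y hy
              rw [Subgroup.mem_centralizer_singleton_iff]
              exact congrArg Subtype.val (hAc.is_comm.comm ⟨y, hy⟩ ⟨g, hle2 hg⟩)
          exact this trivial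
        rw [Subgroup.mem_centralizer_singleton_iff] at hx
        exact hx
      have h5 := Subgroup.card_le_of_le hle3
      rw [CfsgLib.MaxClass.card_commutator hn hP hi, hcen] at h5
      have h6 : 2 ^ 2 ≤ 2 ^ (n - 2) := Nat.pow_le_pow_right two_pos (by omega)
      omega
    rcases CfsgLib.CycNorm.structure_thm hPp hnorm with h | ⟨k, a, b, hk2, ha, hb, hidx, h⟩
    · exfalso
      have hab : commutator P = ⊥ := by
        rw [commutator_eq_bot_iff_center_eq_top, eq_top_iff]
        intro x _
        rw [Subgroup.mem_center_iff]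
        intro y
        exact (IsCyclic.commutative (α := P)).is_comm.comm y x
      rw [hab, Subgroup.index_bot, hP] at hi
      have h6 : 2 ^ 3 ≤ 2 ^ n := Nat.pow_le_pow_right two_pos hn
      omega
    have hidx2 : (Subgroup.zpowers a).index = 2 := by
      rw [Subgroup.index_eq_two_iff]
      refine ⟨b⁻¹, fun g => ?_⟩
      by_cases hg : g ∈ Subgroup.zpowers a
      · right
        refine ⟨hg, fun h' => hb ?_⟩
        have h2 := (Subgroup.mul_mem_cancel_left _ hg).mp h'
        rwa [inv_mem_iff] at h2
      · left; exact ⟨hidx g hg, hg⟩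
    have htop := hgen a b hidx2 hb
    have hcard : Nat.card P = 2 ^ (k + 1) := by
      rw [← Subgroup.card_mul_index (Subgroup.zpowers a), hidx2, Nat.card_zpowers, ha, pow_succ]
    rcases h with ⟨h1, h2⟩ | ⟨h1, h2, h3⟩ | ⟨h1, h2, h3⟩
    · right; left
      refine ⟨2 ^ (k - 1), CfsgLib.Dihedral.nonempty_equiv_quaternion_top (a := a) (b := b) ?_ h1 h2 hb htop⟩
      rw [ha, ← pow_succ']; congr 1; omega
    · left
      exact ⟨2 ^ k, CfsgLib.Dihedral.nonempty_equiv_dihedral_top (a := a) (b := b) ha h2 h3 hb htop⟩
    · right; right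
      refine ⟨k, h1, hcard, a, b, ha, ?_, h3⟩
      exact orderOf_eq_prime (by rw [pow_two, h2]) (by rintro rfl; exact hb (one_mem _))

end CfsgLib.Fus21
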