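import Mathlib
import Cfsg.Agent.LibH6Basic

/-! `p`-groups of maximal class: Suzuki's criterion. -/

set_option autoImplicit false

namespace CfsgLib.H6

open Subgroup

universe u

theorem card_centralizer_of_nonabelian_cube {X : Type*} [Group X] [Finite X] {p : ℕ} [hp : Fact p.Prime]
    (B : Subgroup X) (hB : Nat.card B = p ^ 3) (hBna : ¬ IsMulCommutative B)
    (hC : centralizer (B : Set X) ≤ B) : Nat.card (centralizer (B : Set X)) ≤ p := by
  by_contra hcon
  push Not at hcon
  have h1 : Nat.card (centralizer (B : Set X)) ∣ p ^ 3 := by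
    rw [← hB]; exact Subgroup.card_dvd_of_le hC
  obtain ⟨k, hk, hk2⟩ := (Nat.dvd_prime_pow hp.out).mp h1
  have hk3 : 2 ≤ k := by
    by_contra hlt
    have : k = 0 ∨ k = 1 := by omega
    rcases this with rfl | rfl
    · rw [hk2, pow_zero] at hcon
      exact absurd hcon (not_lt.mpr hp.out.one_lt.le)
    · rw [hk2, pow_one] at hcon
      exact lt_irrefl _ hcon
  apply hBna
  -- B / Z(B) is cyclic
  have hsub : ∀ c ∈ centralizer (B : Set X), ∀ hc : c ∈ B, (⟨c, hc⟩ : B) ∈ center B := by
    intro c hc hcB
    rw [Subgroup.mem_center_iff]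
    intro g
    exact Subtype.ext (Subgroup.mem_centralizer_iff.mp hc g g.2)
  have h2 : p ^ 2 ∣ Nat.card (center B) := by
    have h3 : Nat.card (centralizer (B : Set X)) ∣ Nat.card (center B) := by
      have h4 : (centralizer (B : Set X)).subgroupOf B ≤ center B := by
        intro c hc
        exact hsub c hc c.2
      have h5 := Subgroup.card_dvd_of_le h4
      rwa [Nat.card_congr (Subgroup.subgroupOfEquivOfLe hC).toEquiv] at h5
    exact (pow_dvd_pow p hk3).trans (hk2 ▸ h3)
  have h3 : Nat.card (B ⧸ center B) ∣ p := by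
    have h4 := Subgroup.card_eq_card_quotient_mul_card_subgroup (center B)
    rw [hB] at h4
    obtain ⟨c, hc⟩ := h2
    rw [hc, show p ^ 3 = p * p ^ 2 by ring] at h4
    refine ⟨c, ?_⟩
    have h5 : p ^ 2 * p = p ^ 2 * (Nat.card (B ⧸ center B) * c) := by
      rw [mul_comm (p ^ 2) p, h4]; ring
    exact Nat.eq_of_mul_eq_mul_left (pow_pos hp.out.pos 2) h5
  have hcyc : IsCyclic (B ⧸ center B) := by
    rcases (Nat.dvd_prime hp.out).mp h3 with h | h
    · have : Subsingleton (B ⧸ center B) := (Nat.card_eq_one_iff_unique.mp h).1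
      infer_instance
    · exact isCyclic_of_prime_card h
  exact MonoidHom.isMulCommutative_of_isCyclic_of_ker_le_center (QuotientGroup.mk' (center B))
    (QuotientGroup.ker_mk' _).le

theorem maxClass_step {X : Type u} [Group X] [Finite X] {p : ℕ} [hp : Fact p.Prime] (n : ℕ)
    (IH : ∀ (X : Type u) [Group X] [Finite X], Nat.card X = p ^ n → ∀ A : Subgroup X,
      Nat.card A = p ^ 2 → centralizer (A : Set X) ≤ A → Group.nilpotencyClass X = n - 1)
    (hX : Nat.card X = p ^ (n + 1)) (B : Subgroup X) (hB : Nat.card B = p ^ 3)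
    (hBna : ¬ IsMulCommutative B) (hC : centralizer (B : Set X) ≤ B) :
    Group.nilpotencyClass X = n := by
  classical
  have hXp : IsPGroup p X := IsPGroup.of_card hX
  have hn : 3 ≤ n + 1 := by
    have := Subgroup.card_subgroup_dvd_card B
    rw [hB, hX] at this
    exact (Nat.pow_dvd_pow_iff_le_right hp.out.one_lt).mp this
  have hnt : Nontrivial X := by
    rw [← Finite.one_lt_card_iff_nontrivial, hX]
    exact Nat.one_lt_pow (by omega) hp.out.one_lt
  have hCcard := card_centralizer_of_nonabelian_cube B hB hBna hC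
  have hZC : center X ≤ centralizer (B : Set X) := Subgroup.center_le_centralizer _
  have hZnt : Nontrivial (center X) := hXp.center_nontrivial
  have hZcard : Nat.card (center X) = p := by
    have h1 : Nat.card (center X) ≤ p := (Subgroup.card_le_of_le hZC).trans hCcard
    obtain ⟨k, hk⟩ := IsPGroup.iff_card.mp (hXp.to_subgroup (center X))
    have hk0 : k ≠ 0 := by
      rintro rfl
      rw [pow_zero] at hk
      have := Finite.one_lt_card_iff_nontrivial.mpr hZnt
      omega
    have h2 : p ≤ p ^ k := Nat.le_self_pow hk0 p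
    omega
  have hZeq : center X = centralizer (B : Set X) :=
    Subgroup.eq_of_le_of_card_ge hZC (hZcard ▸ hCcard)
  have hZB : center X ≤ B := hZC.trans hC
  -- quotient
  set q := QuotientGroup.mk' (center X) with hq
  have hqcard : Nat.card (X ⧸ center X) = p ^ n := by
    have h4 := Subgroup.card_eq_card_quotient_mul_card_subgroup (center X)
    rw [hX, hZcard, pow_succ] at h4
    exact (Nat.eq_of_mul_eq_mul_right hp.out.pos h4).symm
  have hBq : Nat.card (B.map q) = p ^ 2 := by
    have h1 := Subgroup.relIndex_ker (K := B) q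
    rw [hq, QuotientGroup.ker_mk'] at h1
    have h2 := Subgroup.relIndex_mul_relIndex ⊥ (center X) B bot_le hZB
    rw [Subgroup.relIndex_bot_left, Subgroup.relIndex_bot_left, hZcard, h1, hB] at h2
    rw [show p ^ 3 = p * p ^ 2 by ring] at h2
    exact Nat.eq_of_mul_eq_mul_left hp.out.pos h2
  have hcl : centralizer ((B.map q : Subgroup (X ⧸ center X)) : Set (X ⧸ center X)) ≤ B.map q := by
    -- two non-commuting elements
    obtain ⟨x, hx, y, hy, hxy⟩ : ∃ x ∈ B, ∃ y ∈ B, x * y ≠ y * x := by
      by_contra hno
      push Not at hno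
      exact hBna ⟨⟨fun a b => Subtype.ext (hno a a.2 b b.2)⟩⟩
    set K := closure ({x, y} : Set X) with hK
    have hxK : x ∈ K := subset_closure (by simp)
    have hyK : y ∈ K := subset_closure (by simp)
    have hKB : K ≤ B := by
      rw [hK, closure_le]
      rintro z (rfl | rfl)
      · exact hx
      · exact hy
    have hKeq : K = B := by
      have h1 : Nat.card K ∣ p ^ 3 := by rw [← hB]; exact Subgroup.card_dvd_of_le hKB
      obtain ⟨j, hj, hj2⟩ := (Nat.dvd_prime_pow hp.out).mp h1
      have hj3 : j = 3 := by
        by_contra hj3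
        have hcomm : ∀ (_ : IsMulCommutative K), False := fun h =>
          hxy (congrArg Subtype.val (h.is_comm.comm ⟨x, hxK⟩ ⟨y, hyK⟩))
        have : j = 0 ∨ j = 1 ∨ j = 2 := by omega
        rcases this with rfl | rfl | rfl
        · have h2 : Subsingleton K := (Nat.card_eq_one_iff_unique.mp (by simpa using hj2)).1
          exact hcomm ⟨⟨fun a b => Subsingleton.elim _ _⟩⟩
        · have h2 : IsCyclic K := isCyclic_of_prime_card (p := p) (by simpa using hj2)
          exact hcomm inferInstance
        · exact hcomm (IsPGroup.isMulCommutative_of_card_eq_prime_sq hj2)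
      rw [hj3] at hj2
      exact Subgroup.eq_of_le_of_card_ge hKB (by rw [hj2, hB])
    have hCxy : ∀ g : X, g * x = x * g → g * y = y * g → g ∈ centralizer (B : Set X) := by
      intro g h1 h2
      rw [← hKeq, hK, Subgroup.centralizer_closure, Subgroup.mem_centralizer_iff]
      rintro z (rfl | rfl)
      · exact h1.symm
      · exact h2.symm
    set D := (centralizer ((B.map q : Subgroup (X ⧸ center X)) : Set (X ⧸ center X))).comap q with hD
    have hDcomm : ∀ g ∈ D, ∀ b ∈ B, g * b * g⁻¹ * b⁻¹ ∈ center X := by
      intro g hg b hb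
      have h1 := Subgroup.mem_centralizer_iff.mp hg (q b) (Subgroup.mem_map_of_mem q hb)
      rw [← QuotientGroup.ker_mk' (center X), MonoidHom.mem_ker]
      change q (g * b * g⁻¹ * b⁻¹) = 1
      rw [map_mul, map_mul, map_mul, map_inv, map_inv, ← h1]
      group
    have hBD : B ≤ D := by
      intro b hb
      change q b ∈ centralizer _
      rw [Subgroup.mem_centralizer_iff]
      rintro _ ⟨c, hc, rfl⟩
      -- B / Z is abelian since it has order p^2
      have h1 : IsMulCommutative (B.map q) := IsPGroup.isMulCommutative_of_card_eq_prime_sq hBq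
      exact congrArg Subtype.val (h1.is_comm.comm ⟨q c, Subgroup.mem_map_of_mem q hc⟩ ⟨q b, Subgroup.mem_map_of_mem q hb⟩)
    let C' := (centralizer (B : Set X)).subgroupOf D
    let F : (D ⧸ C') → center X × center X := fun c =>
      (⟨(c.out : X) * x * (c.out : X)⁻¹ * x⁻¹, hDcomm _ c.out.2 x hx⟩,
       ⟨(c.out : X) * y * (c.out : X)⁻¹ * y⁻¹, hDcomm _ c.out.2 y hy⟩)
    have hF : Function.Injective F := by
      intro c c' hcc
      have h1 : (c.out : X) * x * (c.out : X)⁻¹ * x⁻¹ = (c'.out : X) * x * (c'.out : X)⁻¹ * x⁻¹ :=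
        congrArg (fun z : center X × center X => (z.1 : X)) hcc
      have h2 : (c.out : X) * y * (c.out : X)⁻¹ * y⁻¹ = (c'.out : X) * y * (c'.out : X)⁻¹ * y⁻¹ :=
        congrArg (fun z : center X × center X => (z.2 : X)) hcc
      have h1' := mul_right_cancel h1
      have h2' := mul_right_cancel h2
      have h3 : c.out⁻¹ * c'.out ∈ C' := by
        rw [Subgroup.mem_subgroupOf]
        apply hCxy
        · push_cast
          calc (c.out : X)⁻¹ * c'.out * x = (c.out : X)⁻¹ * (c'.out * x * (c'.out : X)⁻¹) * c'.out := by group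
            _ = (c.out : X)⁻¹ * (c.out * x * (c.out : X)⁻¹) * c'.out := by rw [h1']
            _ = _ := by group
        · push_cast
          calc (c.out : X)⁻¹ * c'.out * y = (c.out : X)⁻¹ * (c'.out * y * (c'.out : X)⁻¹) * c'.out := by group
            _ = (c.out : X)⁻¹ * (c.out * y * (c.out : X)⁻¹) * c'.out := by rw [h2']
            _ = _ := by group
      rw [← QuotientGroup.out_eq' c, ← QuotientGroup.out_eq' c']
      exact QuotientGroup.eq.mpr h3
    have h1 := Nat.card_le_card_of_injective F hF
    rw [Nat.card_prod, hZcard] at h1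
    have h2 : Nat.card D = Nat.card (D ⧸ C') * Nat.card C' := Subgroup.card_eq_card_quotient_mul_card_subgroup C'
    have h3 : Nat.card C' ≤ p := by
      have h4 : Nat.card C' = Nat.card (centralizer (B : Set X)) :=
        Nat.card_congr (Subgroup.subgroupOfEquivOfLe (hC.trans hBD)).toEquiv
      rw [h4]; exact hCcard
    have h4 : Nat.card D ≤ Nat.card B := by
      rw [h2, hB, show p ^ 3 = (p * p) * p by ring]
      exact Nat.mul_le_mul h1 h3
    have h5 : B = D := Subgroup.eq_of_le_of_card_ge hBD h4
    intro z hz
    obtain ⟨g, rfl⟩ := QuotientGroup.mk'_surjective (center X) z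
    have h6 : g ∈ D := hz
    rw [← h5] at h6
    exact Subgroup.mem_map_of_mem q h6
  have h1 := IH (X ⧸ center X) hqcard (B.map q) hBq hcl
  have hnil : Group.IsNilpotent X := hXp.isNilpotent
  have h2 := Group.nilpotencyClass_eq_quotient_center_plus_one (G := X)
  omega

/-- Suzuki: a `p`-group with a self-centralizing subgroup of order `p²` (or a nonabelian one of
order `p³`) has maximal class. -/
theorem maxClass_main {p : ℕ} [hp : Fact p.Prime] (n : ℕ) :
    (∀ (X : Type u) [Group X] [Finite X], Nat.card X = p ^ n → ∀ A : Subgroup X,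
      Nat.card A = p ^ 2 → centralizer (A : Set X) ≤ A → Group.nilpotencyClass X = n - 1) ∧
    (∀ (X : Type u) [Group X] [Finite X], Nat.card X = p ^ n → ∀ B : Subgroup X,
      Nat.card B = p ^ 3 → ¬ IsMulCommutative B → centralizer (B : Set X) ≤ B →
      Group.nilpotencyClass X = n - 1) := by
  induction n with
  | zero =>
    constructor
    · intro X _ _ hX A hA _
      have h1 := Subgroup.card_subgroup_dvd_card A
      rw [hA, hX] at h1
      have := (Nat.pow_dvd_pow_iff_le_right hp.out.one_lt).mp h1
      omega
    · intro X _ _ hX A hA _ _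
      have h1 := Subgroup.card_subgroup_dvd_card A
      rw [hA, hX] at h1
      have := (Nat.pow_dvd_pow_iff_le_right hp.out.one_lt).mp h1
      omega
  | succ n ih =>
    have h2 : ∀ (X : Type u) [Group X] [Finite X], Nat.card X = p ^ (n + 1) → ∀ B : Subgroup X,
      Nat.card B = p ^ 3 → ¬ IsMulCommutative B → centralizer (B : Set X) ≤ B →
      Group.nilpotencyClass X = n + 1 - 1 := by
      intro X _ _ hX B hB hBna hC
      exact maxClass_step n ih.1 hX B hB hBna hC
    refine ⟨?_, h2⟩
    intro X _ _ hX A hA hC
    have hXp : IsPGroup p X := IsPGroup.of_card hX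
    have hnil : Group.IsNilpotent X := hXp.isNilpotent
    have h1 := Subgroup.card_subgroup_dvd_card A
    rw [hA, hX] at h1
    have h3 := (Nat.pow_dvd_pow_iff_le_right hp.out.one_lt).mp h1
    by_cases hn : n + 1 = 2
    · -- X abelian of order p^2
      have hc : IsMulCommutative X := IsPGroup.isMulCommutative_of_card_eq_prime_sq (p := p) (by rw [hX, hn])
      have h4 := Group.IsNilpotent.nilpotencyClass_le_one_iff.mpr hc
      have h5 : Group.nilpotencyClass X ≠ 0 := by
        intro h
        rw [Group.nilpotencyClass_zero_iff_subsingleton] at h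
        have : Nat.card X = 1 := Nat.card_of_subsingleton 1
        rw [hX] at this
        have := Nat.pow_eq_one.mp this
        have := hp.out.one_lt
        omega
      omega
    · obtain ⟨N, hN, hAN⟩ := Sylow.exists_subgroup_card_pow_succ (p := p) (n := 2)
        (by rw [hX]; exact pow_dvd_pow p (by omega)) hA
      apply h2 X hX N hN
      · intro hNc
        have h4 : N ≤ A := by
          intro x hx
          apply hC
          rw [Subgroup.mem_centralizer_iff]
          intro a ha
          exact congrArg Subtype.val (hNc.is_comm.comm ⟨a, hAN ha⟩ ⟨x, hx⟩)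
        have h5 := Subgroup.card_le_of_le h4
        rw [hN, hA] at h5
        have := (Nat.pow_le_pow_iff_right hp.out.one_lt).mp h5
        omega
      · exact (Subgroup.centralizer_le hAN).trans (hC.trans hAN)

end CfsgLib.H6
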