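import Cfsg.Agent.LibFus21Mc2
import Cfsg.Agent.LibFus21Mc3
import Cfsg.Agent.LibH6MaxClass

set_option autoImplicit false

/-! Strongly closed metacyclic subgroups, `p = 2`: abstract parts. -/

namespace CfsgLib.Fus21

open Cfsg

/-- **MC2** -/
theorem metac_no_homocyclic {G : Type*} [Group G] (hmc : Cfsg.IsMetacyclic G) {R D : Subgroup G} {t : G}
    (htR : t ∉ R) (hR2 : ∀ g, g ∈ R ∨ g * t⁻¹ ∈ R) (hRt : ∀ x ∈ R, t * x * t⁻¹ ∈ R) (ht2 : t * t ∈ R)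
    (hab : ∀ x ∈ R, ∀ y ∈ R, x * y = y * x) (hsq : ∀ x ∈ R, x * x ∈ D)
    (hinv : ∀ w ∈ R, w * w = 1 → w ∈ D) : ∀ x ∈ R, x⁻¹ * (t * x * t⁻¹) ∈ D := by
  by_contra hcon
  push Not at hcon
  obtain ⟨x, hxR, hwD⟩ := hcon
  set w := x⁻¹ * (t * x * t⁻¹) with hw
  have hwR : w ∈ R := R.mul_mem (R.inv_mem hxR) (hRt x hxR)
  obtain ⟨N, hN, hNc, hqc⟩ := hmc
  obtain ⟨⟨g, hgN⟩, hgen⟩ := hNc.exists_generator
  have hNg : N = Subgroup.zpowers g := by
    apply le_antisymm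
    · intro y hy
      obtain ⟨k, hk⟩ := Subgroup.mem_zpowers_iff.1 (hgen ⟨y, hy⟩)
      exact Subgroup.mem_zpowers_iff.2 ⟨k, congrArg Subtype.val hk⟩
    · rw [Subgroup.zpowers_le]; exact hgN
  clear hgen
  have htw : t * w * t⁻¹ = w⁻¹ := by
    have h1 : t * w * t⁻¹ = (t * x * t⁻¹)⁻¹ * ((t * t) * x * (t * t)⁻¹) := by rw [hw]; group
    rw [h1, hab _ ht2 _ hxR, mul_inv_cancel_right, hw]
    group
  have hwN : w ∈ N := by
    rw [← QuotientGroup.eq_one_iff]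
    have h1 : ((w : G) : G ⧸ N) = (x : G ⧸ N)⁻¹ * ((t : G ⧸ N) * (x : G ⧸ N) * (t : G ⧸ N)⁻¹) := by
      rw [hw]; rfl
    have h2 : (t : G ⧸ N) * (x : G ⧸ N) = (x : G ⧸ N) * (t : G ⧸ N) :=
      (IsCyclic.commutative (α := G ⧸ N)).is_comm.comm _ _
    rw [h1, h2, mul_inv_cancel_right, inv_mul_cancel]
  obtain ⟨k, hk⟩ := Subgroup.mem_zpowers_iff.1 (hNg ▸ hwN)
  by_cases hgR : g ∈ R
  · -- g ∈ R
    obtain ⟨hq, hhgen⟩ := hqc.exists_generator
    obtain ⟨h, rfl⟩ := QuotientGroup.mk'_surjective N hq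
    have hrep : ∀ y : G, ∃ i j : ℤ, y = h ^ i * g ^ j := by
      intro y
      obtain ⟨i, hi⟩ := Subgroup.mem_zpowers_iff.1 (hhgen (QuotientGroup.mk' N y))
      have h1 : (h ^ i)⁻¹ * y ∈ N := by
        rw [← QuotientGroup.eq, ← QuotientGroup.mk'_apply, ← QuotientGroup.mk'_apply, map_zpow]
        exact hi
      obtain ⟨j, hj⟩ := Subgroup.mem_zpowers_iff.1 (hNg ▸ h1)
      exact ⟨i, j, by rw [hj]; group⟩
    have hhR : h ∉ R := by
      intro hh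
      obtain ⟨i, j, hij⟩ := hrep t
      exact htR (hij ▸ R.mul_mem (R.zpow_mem hh i) (R.zpow_mem hgR j))
    have hht : h * t⁻¹ ∈ R := (hR2 h).resolve_left hhR
    have hconj : ∀ y ∈ R, h * y * h⁻¹ = t * y * t⁻¹ := by
      intro y hy
      have h1 : h * y * h⁻¹ = (h * t⁻¹) * (t * y * t⁻¹) * (h * t⁻¹)⁻¹ := by group
      rw [h1, hab _ hht _ (hRt y hy), mul_inv_cancel_right]
    have hh2 : h ^ (2 : ℤ) ∈ R := by
      have h1 : h ^ (2 : ℤ) = (h * t⁻¹) * (t * (h * t⁻¹) * t⁻¹) * (t * t) := by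
        rw [zpow_two]; group
      rw [h1]
      exact R.mul_mem (R.mul_mem hht (hRt _ hht)) ht2
    obtain ⟨i, j, hij⟩ := hrep x
    have hieven : ∃ l, i = 2 * l := by
      rcases Int.even_or_odd' i with ⟨l, h1 | h1⟩
      · exact ⟨l, h1⟩
      · exfalso
        apply hhR
        have h2 : h = (h ^ (2 : ℤ)) ^ (-l) * (x * (g ^ j)⁻¹) := by
          rw [hij, mul_inv_cancel_right, h1, ← zpow_mul, ← zpow_add]
          have : 2 * -l + (2 * l + 1) = 1 := by ring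
          rw [this, zpow_one]
        rw [h2]
        exact R.mul_mem (R.zpow_mem hh2 _) (R.mul_mem hxR (R.inv_mem (R.zpow_mem hgR _)))
    obtain ⟨l, rfl⟩ := hieven
    obtain ⟨e, he⟩ := Subgroup.mem_zpowers_iff.1 (hNg ▸ hN.conj_mem g hgN h)
    have hwval : w = g ^ (j * (e - 1)) := by
      rw [hw, ← hconj x hxR, hij]
      have h1 : h * (h ^ (2 * l) * g ^ j) * h⁻¹ = h ^ (2 * l) * (h * g * h⁻¹) ^ j := by
        rw [conj_zpow]; group
      rw [h1, ← he, ← zpow_mul, mul_inv_rev]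
      have h2 : (g ^ j)⁻¹ * (h ^ (2 * l))⁻¹ * (h ^ (2 * l) * g ^ (e * j)) = (g ^ j)⁻¹ * g ^ (e * j) := by group
      rw [h2, ← zpow_neg, ← zpow_add]
      congr 1; ring
    rcases Int.even_or_odd' e with ⟨f, hf | hf⟩
    · -- e even
      have h1 : h * g * h⁻¹ ∈ D := by
        rw [← he, hf, mul_comm, zpow_mul, zpow_two]
        exact hsq _ (R.zpow_mem hgR _)
      have h2 : w⁻¹ ∈ D := by
        rw [← htw, ← hconj w hwR, ← hk, ← conj_zpow]
        exact D.zpow_mem h1 k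
      exact hwD (by have := D.inv_mem h2; rwa [inv_inv] at this)
    · apply hwD
      rw [hwval, hf, show j * (2 * f + 1 - 1) = (j * f) * 2 by ring, zpow_mul, zpow_two]
      exact hsq _ (R.zpow_mem hgR _)
  · -- g ∉ R
    have hgt : g * t⁻¹ ∈ R := (hR2 g).resolve_left hgR
    have h1 : g * w * g⁻¹ = w⁻¹ := by
      have h2 : g * w * g⁻¹ = (g * t⁻¹) * (t * w * t⁻¹) * (g * t⁻¹)⁻¹ := by group
      rw [h2, htw, hab _ hgt _ (R.inv_mem hwR), mul_inv_cancel_right]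
    have h3 : g * w * g⁻¹ = w := by
      rw [← hk, (Commute.self_zpow g k).eq, mul_inv_cancel_right]
    rw [h3] at h1
    exact hwD (hinv w hwR (by nth_rewrite 2 [h1]; rw [mul_inv_cancel]))

/-- existence of odd order elements without fixed points -/
theorem exists_odd_fpf {E : Type*} [Group E] [Finite E] {A : Subgroup (MulAut E)} {R0 C D0 : Subgroup E}
    [hD0n : D0.Normal] (hsq : ∀ x ∈ R0, x * x ∈ D0) (hD0A : ∀ α ∈ A, ∀ x ∈ D0, α x ∈ D0) (hR0A : ∀ α ∈ A, ∀ x ∈ R0, α x ∈ R0)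
    (hirr : ∀ D1 : Subgroup E, D0 ≤ D1 → D1 ≤ R0 → (∀ α ∈ A, ∀ x ∈ D1, α x ∈ D1) → D1 = D0 ∨ D1 = R0)
    (h0C : D0 ≤ C) (hCR : C ≤ R0) (hi1 : C.relIndex R0 = 2) (hi2 : D0.relIndex C = 2)
    {τ : MulAut E} (hτA : τ ∈ A) (hτC : ∀ x ∈ C, x⁻¹ * τ x ∈ D0) (hτR : ∀ x ∈ R0, x⁻¹ * τ x ∈ C)
    (hτn : ¬ ∀ x ∈ R0, x⁻¹ * τ x ∈ D0) :
    ∃ ρ ∈ A, ∃ m : ℕ, Odd m ∧ ρ ^ m = 1 ∧ ∀ x ∈ R0, x⁻¹ * ρ x ∈ D0 → x ∈ D0 := by
  classical
  set π := QuotientGroup.mk' D0 with hπ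
  have hπ1 : ∀ x, π x = 1 ↔ x ∈ D0 := by
    intro x; rw [hπ, QuotientGroup.mk'_apply, QuotientGroup.eq_one_iff]
  have hπe : ∀ x y, π x = π y ↔ x⁻¹ * y ∈ D0 := by
    intro x y; rw [← hπ1, map_mul, map_inv, inv_mul_eq_one]
  have hcong : ∀ α ∈ A, ∀ x y, π x = π y → π (α x) = π (α y) := by
    intro α hα x y h
    rw [hπe] at h ⊢
    have := hD0A α hα _ h
    rwa [map_mul, map_inv] at this
  -- C not invariant
  have hne1 : C ≠ D0 := by
    rintro rfl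
    rw [Subgroup.relIndex_self] at hi2; omega
  have hne2 : C ≠ R0 := by
    rintro rfl
    rw [Subgroup.relIndex_self] at hi1; omega
  have hninv : ∃ α ∈ A, ∃ x ∈ C, α x ∉ C := by
    by_contra h
    push Not at h
    rcases hirr C h0C hCR h with h1 | h1
    · exact hne1 h1
    · exact hne2 h1
  obtain ⟨α, hα, x0, hx0, hαx0⟩ := hninv
  have hx0D : x0 ∉ D0 := fun h => hαx0 (h0C (hD0A α hα x0 h))
  set y0 := α x0 with hy0
  have hx0R := hCR hx0
  have hy0R : y0 ∈ R0 := hR0A α hα x0 hx0R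
  have hCrep : ∀ c ∈ C, c ∈ D0 ∨ x0⁻¹ * c ∈ D0 := by
    intro c hc
    by_cases h : c ∈ D0
    · exact Or.inl h
    · right
      have h1 := Subgroup.mul_mem_iff_of_index_two (H := D0.subgroupOf C) hi2
        (a := (⟨x0, hx0⟩ : C)⁻¹) (b := ⟨c, hc⟩)
      have h2 : (⟨x0, hx0⟩ : C)⁻¹ * ⟨c, hc⟩ ∈ D0.subgroupOf C := by
        rw [h1]
        refine iff_of_false ?_ ?_
        · rw [inv_mem_iff, Subgroup.mem_subgroupOf]; exact hx0D
        · rw [Subgroup.mem_subgroupOf]; exact h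
      exact h2
  have hRrep : ∀ r ∈ R0, r ∈ C ∨ y0⁻¹ * r ∈ C := by
    intro r hr
    by_cases h : r ∈ C
    · exact Or.inl h
    · right
      have h1 := Subgroup.mul_mem_iff_of_index_two (H := C.subgroupOf R0) hi1
        (a := (⟨y0, hy0R⟩ : R0)⁻¹) (b := ⟨r, hr⟩)
      have h2 : (⟨y0, hy0R⟩ : R0)⁻¹ * ⟨r, hr⟩ ∈ C.subgroupOf R0 := by
        rw [h1]
        refine iff_of_false ?_ ?_
        · rw [inv_mem_iff, Subgroup.mem_subgroupOf]; exact hαx0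
        · rw [Subgroup.mem_subgroupOf]; exact h
      exact h2
  set X := π x0 with hX
  set Y := π y0 with hY
  have hC' : ∀ c ∈ C, π c = 1 ∨ π c = X := by
    intro c hc
    rcases hCrep c hc with h | h
    · exact Or.inl ((hπ1 c).2 h)
    · exact Or.inr ((hπe _ _).2 h).symm
  have hR' : ∀ r ∈ R0, π r = 1 ∨ π r = X ∨ π r = Y ∨ π r = Y * X := by
    intro r hr
    rcases hRrep r hr with h | h
    · rcases hC' r h with h1 | h1
      · exact Or.inl h1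
      · exact Or.inr (Or.inl h1)
    · rcases hC' _ h with h1 | h1
      · right; right; left
        rw [map_mul, map_inv, inv_mul_eq_one] at h1
        exact h1.symm
      · right; right; right
        rw [map_mul, map_inv, inv_mul_eq_iff_eq_mul] at h1
        exact h1
  have hXX : X * X = 1 := by rw [hX, ← map_mul, hπ1]; exact hsq _ hx0R
  have hYY : Y * Y = 1 := by rw [hY, ← map_mul, hπ1]; exact hsq _ hy0R
  have hXYXY : X * Y * (X * Y) = 1 := by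
    rw [hX, hY, ← map_mul, ← map_mul, hπ1]; exact hsq _ (R0.mul_mem hx0R hy0R)
  have hXi : X⁻¹ = X := inv_eq_of_mul_eq_one_right hXX
  have hYi : Y⁻¹ = Y := inv_eq_of_mul_eq_one_right hYY
  have hXY : X * Y = Y * X := by
    have := inv_eq_of_mul_eq_one_right hXYXY
    rw [mul_inv_rev, hXi, hYi] at this
    exact this.symm
  have hX1 : X ≠ 1 := fun h => hx0D ((hπ1 _).1 h)
  have hYC : ∀ c ∈ C, Y ≠ π c := by
    intro c hc h
    apply hαx0
    have h1 : c⁻¹ * y0 ∈ D0 := (hπe _ _).1 h.symm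
    have := C.mul_mem hc (h0C h1)
    rwa [mul_inv_cancel_left] at this
  have hY1 : Y ≠ 1 := by
    have := hYC 1 C.one_mem; rwa [map_one] at this
  have hYX : Y ≠ X := hYC x0 hx0
  -- τ
  have hτx : π (τ x0) = X := ((hπe _ _).2 (hτC x0 hx0)).symm
  have htriv : ∀ β ∈ A, π (β x0) = X → π (β y0) = Y → ∀ r ∈ R0, r⁻¹ * β r ∈ D0 := by
    intro β hβ h1 h2 r hr
    rw [← hπe]
    rcases hR' r hr with h | h | h | h
    · rw [h, hcong β hβ r 1 (by rw [h, map_one]), map_one, map_one]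
    · rw [h, hcong β hβ r x0 h, h1]
    · rw [h, hcong β hβ r y0 h, h2]
    · rw [h, hcong β hβ r (y0 * x0) (by rw [h, map_mul]), map_mul, map_mul, h1, h2]
  have hτy : π (τ y0) = Y * X := by
    have h1 := hC' _ (hτR y0 hy0R)
    rw [map_mul, map_inv, inv_mul_eq_one, inv_mul_eq_iff_eq_mul] at h1
    rcases h1 with h1 | h1
    · exact absurd (htriv τ hτA hτx h1.symm) hτn
    · exact h1
  -- τ'
  set τ' := α * τ * α⁻¹ with hτ'
  have hτ'A : τ' ∈ A := A.mul_mem (A.mul_mem hα hτA) (A.inv_mem hα)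
  have hτ'app : ∀ x, τ' (α x) = α (τ x) := by
    intro x; rw [hτ', MulAut.mul_apply, MulAut.mul_apply, MulAut.inv_apply_self]
  have hτ'y : π (τ' y0) = Y := by
    have h1 : π (τ' y0) = π (α (τ x0)) := by rw [hy0, hτ'app]
    rw [h1]
    exact hcong α hα (τ x0) x0 hτx
  have hτ'x : π (τ' x0) = X * Y := by
    -- x1 = α⁻¹ x0
    set x1 := α⁻¹ x0 with hx1
    have hαx1 : α x1 = x0 := by rw [hx1, MulAut.apply_inv_self]
    have hx1R : x1 ∈ R0 := hR0A _ (A.inv_mem hα) _ hx0R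
    have h1 : x0⁻¹ * τ' x0 = α (x1⁻¹ * τ x1) := by
      rw [map_mul, map_inv, ← hτ'app, hαx1]
    have h2 : π (x0⁻¹ * τ' x0) = 1 ∨ π (x0⁻¹ * τ' x0) = Y := by
      rw [h1]
      rcases hC' _ (hτR x1 hx1R) with h | h
      · left
        rw [hcong α hα _ 1 (by rw [h, map_one]), map_one, map_one]
      · right
        rw [hcong α hα _ x0 h]
    rw [map_mul, map_inv, inv_mul_eq_one, inv_mul_eq_iff_eq_mul] at h2
    rcases h2 with h2 | h2
    · exfalso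
      apply hτn
      -- τ' trivial hence τ trivial
      have h3 := htriv τ' hτ'A h2.symm hτ'y
      intro r hr
      have h4 := h3 (α r) (hR0A α hα r hr)
      rw [hτ'app, ← map_inv, ← map_mul] at h4
      have h5 := hD0A _ (A.inv_mem hα) _ h4
      rwa [MulAut.inv_apply_self] at h5
    · exact h2
  set ρ0 := τ * τ' with hρ0
  have hρ0A : ρ0 ∈ A := A.mul_mem hτA hτ'A
  have hρx : π (ρ0 x0) = Y := by
    rw [hρ0, MulAut.mul_apply, hcong τ hτA _ (x0 * y0) (by rw [hτ'x, map_mul]), map_mul, map_mul, hτx, hτy,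
      ← mul_assoc, hXY, mul_assoc, hXX, mul_one]
  have hρy : π (ρ0 y0) = Y * X := by
    rw [hρ0, MulAut.mul_apply, hcong τ hτA _ y0 hτ'y, hτy]
  have hρyx : π (ρ0 (y0 * x0)) = X := by
    rw [map_mul, map_mul, hρx, hρy, mul_assoc, hXY, ← mul_assoc, hYY, one_mul]
  -- the stabilizers
  let K : E → Subgroup (MulAut E) := fun r =>
    { carrier := {β | β ∈ A ∧ r⁻¹ * β r ∈ D0}
      mul_mem' := by
        rintro β γ ⟨hβ, h1⟩ ⟨hγ, h2⟩
        refine ⟨A.mul_mem hβ hγ, ?_⟩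
        have : r⁻¹ * (β * γ) r = (r⁻¹ * β r) * β (r⁻¹ * γ r) := by
          rw [map_mul, map_inv, MulAut.mul_apply]; group
        rw [this]
        exact D0.mul_mem h1 (hD0A β hβ _ h2)
      one_mem' := ⟨A.one_mem, by rw [MulAut.one_apply, inv_mul_cancel]; exact D0.one_mem⟩
      inv_mem' := by
        rintro β ⟨hβ, h1⟩
        refine ⟨A.inv_mem hβ, ?_⟩
        have h3 : r⁻¹ * β⁻¹ r = β⁻¹ ((r⁻¹ * β r)⁻¹) := by
          rw [map_inv, map_mul, map_inv, MulAut.inv_apply_self]; group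
        rw [h3]
        exact hD0A _ (A.inv_mem hβ) _ (D0.inv_mem h1) }
  have hKmem : ∀ r β, β ∈ K r ↔ β ∈ A ∧ r⁻¹ * β r ∈ D0 := fun r β => Iff.rfl
  have h3K : ∀ r ∈ R0, ρ0 ^ 3 ∈ K r := by
    intro r hr
    refine ⟨A.pow_mem hρ0A 3, ?_⟩
    rw [← hπe]
    have e3 : (ρ0 ^ 3) r = ρ0 (ρ0 (ρ0 r)) := rfl
    rw [e3]
    rcases hR' r hr with h | h | h | h
    · have h1 : π (ρ0 r) = π 1 := by rw [hcong ρ0 hρ0A r 1 (by rw [h, map_one]), map_one]
      have h2 : π (ρ0 (ρ0 r)) = π 1 := by rw [hcong ρ0 hρ0A _ _ h1, map_one]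
      rw [hcong ρ0 hρ0A _ _ h2, map_one, h, map_one]
    · rw [hcong ρ0 hρ0A _ (y0 * x0) (by rw [hcong ρ0 hρ0A _ y0 (by rw [hcong ρ0 hρ0A r x0 h, hρx]), hρy, map_mul]), hρyx, h]
    · rw [hcong ρ0 hρ0A _ x0 (by rw [hcong ρ0 hρ0A _ (y0 * x0) (by rw [hcong ρ0 hρ0A r y0 h, hρy, map_mul]), hρyx]), hρx, h]
    · rw [hcong ρ0 hρ0A _ y0 (by rw [hcong ρ0 hρ0A _ x0 (by rw [hcong ρ0 hρ0A r (y0 * x0) (by rw [h, map_mul]), hρyx]), hρx]), hρy, h]
  have hfp0 : ∀ r ∈ R0, ρ0 ∈ K r → r ∈ D0 := by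
    intro r hr hK
    have h1 := (hπe _ _).2 hK.2
    rcases hR' r hr with h | h | h | h
    · exact (hπ1 r).1 h
    · exfalso
      rw [hcong ρ0 hρ0A r x0 h, hρx, h] at h1
      exact hYX h1.symm
    · exfalso
      rw [hcong ρ0 hρ0A r y0 h, hρy, h] at h1
      exact hX1 (mul_eq_left.1 h1.symm)
    · exfalso
      rw [hcong ρ0 hρ0A r (y0 * x0) (by rw [h, map_mul]), hρyx, h] at h1
      exact hY1 (mul_eq_right.1 h1)
  -- 2-part
  obtain ⟨e, m, hm, hem⟩ := Nat.exists_eq_two_pow_mul_odd (n := orderOf ρ0) (orderOf_pos ρ0).ne'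
  refine ⟨ρ0 ^ 2 ^ e, A.pow_mem hρ0A _, m, hm, ?_, ?_⟩
  · rw [← pow_mul, ← hem, pow_orderOf_eq_one]
  · intro r hr h
    apply hfp0 r hr
    have h1 : ρ0 ^ 2 ^ e ∈ K r := ⟨A.pow_mem hρ0A _, h⟩
    have h2 := h3K r hr
    have hc : IsCoprime ((2 ^ e : ℕ) : ℤ) ((3 : ℕ) : ℤ) := by
      rw [Nat.isCoprime_iff_coprime]
      exact Nat.Coprime.pow_left e (by norm_num)
    obtain ⟨u, v, huv⟩ := hc
    have h3 : ρ0 = (ρ0 ^ 2 ^ e) ^ u * (ρ0 ^ 3) ^ v := by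
      rw [← zpow_natCast, ← zpow_natCast, ← zpow_mul, ← zpow_mul, ← zpow_add, mul_comm _ u, mul_comm _ v, huv, zpow_one]
    rw [h3]
    exact (K r).mul_mem ((K r).zpow_mem h1 u) ((K r).zpow_mem h2 v)

/-- self-centralizing four-groups and quaternion groups -/
theorem selfcent_small {P : Type*} [Group P] [Finite P] (hP : IsPGroup 2 P) {R : Subgroup P}
    (hC : Subgroup.centralizer (R : Set P) ≤ R) (hRt : R ≠ ⊤)
    (h : (Nat.card R = 4 ∧ ∀ x ∈ R, ∀ y ∈ R, x * y = y * x) ∨ (Nat.card R = 8 ∧ ¬ ∀ x ∈ R, ∀ y ∈ R, x * y = y * x)) :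
    (∃ m : ℕ, Nonempty (P ≃* DihedralGroup m)) ∨ (∃ m : ℕ, Nonempty (P ≃* QuaternionGroup m)) ∨
      Cfsg.IsQuasiDihedral P := by
  haveI : Fact (Nat.Prime 2) := ⟨Nat.prime_two⟩
  obtain ⟨n, hn⟩ := hP.exists_card_eq
  have hlt : Nat.card R < Nat.card P := by
    refine lt_of_le_of_ne (Nat.le_of_dvd Nat.card_pos R.card_subgroup_dvd_card) fun he => hRt ?_
    exact Subgroup.eq_top_of_card_eq _ he
  have hn3 : 3 ≤ n := by
    by_contra hlt'
    have h1 : 2 ^ n ≤ 2 ^ 2 := Nat.pow_le_pow_right two_pos (by omega)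
    rcases h with h | h
    · rw [hn, h.1] at hlt; omega
    · rw [hn, h.1] at hlt; omega
  have hcl : Group.nilpotencyClass P = n - 1 := by
    rcases h with ⟨h1, h2⟩ | ⟨h1, h2⟩
    · refine CfsgLib.MaxClass.class_of_selfcent 2 n P hn R (by rw [h1]; norm_num) ?_
      apply le_antisymm hC
      intro x hx
      rw [Subgroup.mem_centralizer_iff]
      intro y hy
      exact h2 y hy x hx
    · refine (CfsgLib.H6.maxClass_main n).2 P hn R (by rw [h1]; norm_num) ?_ hC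
      intro hm
      apply h2
      intro x hx y hy
      exact congrArg Subtype.val (hm.is_comm.comm ⟨x, hx⟩ ⟨y, hy⟩)
  exact maxClass_two hn3 hn (CfsgLib.MaxClass.index_of_class_eq n P hn hn3 hcl)

end CfsgLib.Fus21
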