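import Cfsg.Agent.LibFus21Mc4
import Cfsg.Agent.LibFus21Fro

set_option autoImplicit false

/-! Strongly closed metacyclic subgroups, `p = 2`. -/

namespace CfsgLib.Fus21

open Cfsg Cfsg.FusionSystem

/-- restriction of an automorphism to an invariant subgroup, as an automorphism of the subgroup -/
theorem exists_res_mulAut {E : Type*} [Group E] {R0 : Subgroup E} {ρ : MulAut E} (h : ∀ x, x ∈ R0 ↔ ρ x ∈ R0) :
    ∃ κ : MulAut R0, (∀ x : R0, ((κ x : R0) : E) = ρ x) ∧ ∀ m : ℕ, ρ ^ m = 1 → κ ^ m = 1 := by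
  let κ : MulAut R0 :=
    { toFun := fun x => ⟨ρ x, (h x).1 x.2⟩
      invFun := fun x => ⟨ρ.symm x, (h _).2 (by rw [MulEquiv.apply_symm_apply]; exact x.2)⟩
      left_inv := fun x => Subtype.ext (ρ.symm_apply_apply x)
      right_inv := fun x => Subtype.ext (ρ.apply_symm_apply x)
      map_mul' := fun x y => Subtype.ext (map_mul ρ (x : E) y) }
  have hκ : ∀ x : R0, ((κ x : R0) : E) = ρ x := fun x => rfl
  refine ⟨κ, hκ, fun m hm => ?_⟩
  have hpow : ∀ (k : ℕ) (x : R0), (((κ ^ k) x : R0) : E) = (ρ ^ k) x := by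
    intro k
    induction k with
    | zero => intro x; rfl
    | succ k ih => intro x; rw [pow_succ', pow_succ', MulAut.mul_apply, MulAut.mul_apply, hκ, ih]
  apply MulEquiv.ext
  intro x
  apply Subtype.ext
  rw [hpow, hm]; rfl

/-- in a homocyclic group of rank two and order at least 16 involutions are squares -/
theorem homocyclic_inv {R : Type*} [Group R] [Finite R] {n : ℕ} {a b : R} (ha : orderOf a = 2 ^ n) (hb : orderOf b = 2 ^ n)
    (hab : a * b = b * a) (hd : Subgroup.zpowers a ⊓ Subgroup.zpowers b = ⊥)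
    (ht : Subgroup.zpowers a ⊔ Subgroup.zpowers b = ⊤) :
    (∀ x y : R, x * y = y * x) ∧ (∀ x : R, ∃ i j : ℤ, x = a ^ i * b ^ j) ∧
      (Nat.card R ≤ 4 ∨ ∀ w : R, w * w = 1 → ∃ v, w = v * v) := by
  have hcomm : ∀ x y : R, x * y = y * x := by
    have hmc : Subgroup.center R = ⊤ := by
      rw [eq_top_iff]
      have hca : ∀ g : R, a * g = g * a → b * g = g * b → g ∈ Subgroup.center R := by
        intro g h1 h2
        rw [Subgroup.mem_center_iff]
        intro x
        have hx : x ∈ Subgroup.centralizer ({g} : Set R) := by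
          have : (⊤ : Subgroup R) ≤ Subgroup.centralizer ({g} : Set R) := by
            rw [← ht, sup_le_iff, Subgroup.zpowers_le, Subgroup.zpowers_le, Subgroup.mem_centralizer_singleton_iff,
              Subgroup.mem_centralizer_singleton_iff]
            exact ⟨h1, h2⟩
          exact this trivial
        rw [Subgroup.mem_centralizer_singleton_iff] at hx
        exact hx
      rw [← ht, sup_le_iff, Subgroup.zpowers_le, Subgroup.zpowers_le]
      exact ⟨hca a rfl hab.symm, hca b hab rfl⟩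
    intro x y
    have : y ∈ Subgroup.center R := by rw [hmc]; trivial
    exact Subgroup.mem_center_iff.1 this x
  have hrep : ∀ x : R, ∃ i j : ℤ, x = a ^ i * b ^ j := by
    intro x
    have hx : x ∈ ((Subgroup.zpowers a ⊔ Subgroup.zpowers b : Subgroup R) : Set R) := by rw [ht]; trivial
    haveI : (Subgroup.zpowers a).Normal := ⟨fun y hy g => by rw [hcomm g y, mul_inv_cancel_right]; exact hy⟩
    rw [Subgroup.normal_mul] at hx
    obtain ⟨y, hy, z, hz, rfl⟩ := Set.mem_mul.1 hx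
    obtain ⟨i, rfl⟩ := Subgroup.mem_zpowers_iff.1 hy
    obtain ⟨j, rfl⟩ := Subgroup.mem_zpowers_iff.1 hz
    exact ⟨i, j, rfl⟩
  refine ⟨hcomm, hrep, ?_⟩
  rcases Nat.lt_or_ge n 2 with hn | hn
  · left
    have hsurj : Function.Surjective (fun z : Subgroup.zpowers a × Subgroup.zpowers b => (z.1 : R) * z.2) := by
      intro x
      obtain ⟨i, j, rfl⟩ := hrep x
      exact ⟨(⟨a ^ i, i, rfl⟩, ⟨b ^ j, j, rfl⟩), rfl⟩
    have h1 := Nat.card_le_card_of_surjective _ hsurj
    rw [Nat.card_prod, Nat.card_zpowers, Nat.card_zpowers, ha, hb] at h1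
    have h2 : 2 ^ n ≤ 2 ^ 1 := Nat.pow_le_pow_right two_pos (by omega)
    calc Nat.card R ≤ 2 ^ n * 2 ^ n := h1
      _ ≤ 2 ^ 1 * 2 ^ 1 := Nat.mul_le_mul h2 h2
      _ = 4 := by norm_num
  · right
    intro w hw
    obtain ⟨i, j, rfl⟩ := hrep w
    have h1 : a ^ (2 * i) * b ^ (2 * j) = 1 := by
      have : a ^ (2 * i) * b ^ (2 * j) = a ^ i * b ^ j * (a ^ i * b ^ j) := by
        rw [Commute.mul_mul_mul_comm (show Commute (b ^ j) (a ^ i) from hcomm _ _), ← zpow_add, ← zpow_add, two_mul, two_mul]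
      rw [this, hw]
    have h2 : a ^ (2 * i) ∈ Subgroup.zpowers a ⊓ Subgroup.zpowers b := by
      refine ⟨⟨_, rfl⟩, ?_⟩
      rw [eq_inv_of_mul_eq_one_left h1]
      exact Subgroup.inv_mem _ ⟨_, rfl⟩
    rw [hd, Subgroup.mem_bot] at h2
    rw [h2, one_mul] at h1
    have key : ∀ (c : R) (k : ℤ), orderOf c = 2 ^ n → c ^ (2 * k) = 1 → ∃ l : ℤ, k = l + l := by
      intro c k hc hk
      have h3 := orderOf_dvd_iff_zpow_eq_one.2 hk
      rw [hc] at h3
      obtain ⟨n', rfl⟩ := Nat.exists_eq_add_of_le hn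
      have h4 : ((2 ^ (2 + n') : ℕ) : ℤ) = 2 * (2 * 2 ^ n') := by push_cast; ring
      rw [h4] at h3
      obtain ⟨l, hl⟩ := Int.dvd_of_mul_dvd_mul_left (by norm_num : (2 : ℤ) ≠ 0) h3
      exact ⟨2 ^ n' * l, by rw [hl]; ring⟩
    obtain ⟨k, rfl⟩ := key a i ha h2
    obtain ⟨l, rfl⟩ := key b j hb h1
    refine ⟨a ^ k * b ^ l, ?_⟩
    rw [Commute.mul_mul_mul_comm (show Commute (b ^ l) (a ^ k) from hcomm _ _), ← zpow_add, ← zpow_add]

end CfsgLib.Fus21
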