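import Cfsg.Agent.LibFus21Mc5

set_option autoImplicit false

/-! Strongly closed metacyclic subgroups, `p = 2`: the theorem. -/

namespace CfsgLib.Fus21

open Cfsg Cfsg.FusionSystem

variable {Ω : Type*} [Group Ω] {S : Subgroup Ω}

/-- a strongly closed metacyclic subgroup of a 2-group not contained in some essential subgroup is dihedral,
generalized quaternion or quasi-dihedral -/
theorem metac_two [hp : Fact (Nat.Prime 2)] [Finite S] (hS : IsPGroup 2 S) {F : FusionSystem S}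
    (hF : F.IsSaturated 2) {E P : Subgroup Ω} (hE : F.IsEssential 2 E) (hP : F.StronglyClosed P)
    (hm : Cfsg.IsMetacyclic P) (hn : ¬ P ≤ E) :
    (∃ m : ℕ, Nonempty (P ≃* DihedralGroup m)) ∨ (∃ m : ℕ, Nonempty (P ≃* QuaternionGroup m)) ∨
      Cfsg.IsQuasiDihedral P := by
  have hES := hE.1.1
  haveI : Finite E := finite_of_le hES
  haveI : Finite P := finite_of_le hP.1
  have hPn := stronglyClosed_normal_S hP
  obtain ⟨t, htP, htN, htE⟩ := exists_sc_elt hS hES hP hn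
  have htS := hP.1 htP
  -- rank
  have hmR : Cfsg.IsMetacyclic ((P ⊓ E).subgroupOf E) := by
    have h1 : Cfsg.IsMetacyclic ((P ⊓ E).subgroupOf P) := metac_subgroup hm _
    have e1 := Subgroup.subgroupOfEquivOfLe (inf_le_left : P ⊓ E ≤ P)
    have e2 := Subgroup.subgroupOfEquivOfLe (inf_le_right : P ⊓ E ≤ E)
    exact metac_equiv (e1.trans e2.symm) h1
  have hrk : (frattini ((P ⊓ E).subgroupOf E)).index ≤ 2 ^ 2 := metac_frattini ((hS.to_le hES).to_subgroup _) hmR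
  obtain ⟨τ, hτ⟩ := exists_conjAut htN
  obtain ⟨hτA, D0, hD0, hD0i, hD0A, hD0I, hD0irr, ⟨C, hDC, hCR, hCi, hCi2, hC1, hC2⟩, -⟩ := fus_config hS hE hP htP htE hτ hrk
  set R0 := (P ⊓ E).subgroupOf E with hR0
  have hD0R : D0 ≤ R0 := by rw [hD0]; exact Subgroup.map_subtype_le _
  have hR0p : IsPGroup 2 R0 := (hS.to_le hES).to_subgroup _
  have hmemD0 : ∀ x : R0, (x : E) ∈ D0 ↔ x ∈ frattini R0 := by
    intro x
    rw [hD0]
    constructor
    · rintro ⟨y, hy, hyx⟩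
      rwa [← show y = x from Subtype.ext hyx]
    · intro h; exact ⟨x, h, rfl⟩
  have hsq : ∀ x ∈ R0, x * x ∈ D0 := by
    intro x hx
    have := (hmemD0 (⟨x, hx⟩ ^ 2)).2 (CfsgLib.LE.pow_mem_frattini hR0p ⟨x, hx⟩)
    rwa [pow_two] at this
  have hR0A : ∀ α ∈ F.autGroup E, ∀ x, x ∈ R0 ↔ α x ∈ R0 := by
    intro α hα x
    rw [hR0, mem_sub_PE, mem_sub_PE]
    exact (stronglyClosed_aut hP hES hα x).symm
  have hD0A' : ∀ α ∈ F.autGroup E, ∀ x ∈ D0, α x ∈ D0 := fun α hα x hx => hD0A ⟨α, hα⟩ x hx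
  -- elements normalizing E in P
  have hconjR : ∀ g : Ω, g ∈ P → ∀ {γ : MulAut E}, (∀ x : E, ((γ x : E) : Ω) = g * x * g⁻¹) → ∀ x : E, x⁻¹ * γ x ∈ R0 := by
    intro g hg γ hγ x
    rw [hR0, mem_sub_PE]
    have h1 : (((x⁻¹ * γ x : E)) : Ω) = ((x : Ω)⁻¹ * g * (x : Ω)⁻¹⁻¹) * g⁻¹ := by
      rw [Subgroup.coe_mul, Subgroup.coe_inv, hγ]; group
    rw [h1]
    exact P.mul_mem ((Subgroup.mem_normalizer_iff.1 (hPn (S.inv_mem (hES x.2))) g).1 hg) (P.inv_mem hg)
  have hinn : ∀ g : Ω, g ∈ P → ∀ {γ : MulAut E}, (∀ x : E, ((γ x : E) : Ω) = g * x * g⁻¹) →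
      (∀ x ∈ R0, x⁻¹ * γ x ∈ D0) → g ∈ E := by
    intro g hg γ hγ h
    have hγA : γ ∈ F.autGroup E := autInducedBy_le_autGroup F hES (mem_autInducedBy.2 ⟨g, hP.1 hg, hγ⟩)
    exact mem_of_conjAut_inner hE.1 (hP.1 hg) hγ (hD0I ⟨γ, hγA⟩ (hconjR g hg hγ) h)
  have hτn : ¬ ∀ x ∈ R0, x⁻¹ * τ x ∈ D0 := fun h => htE (hinn t htP hτ h)
  haveI hD0n : D0.Normal := by
    refine ⟨fun x hx g => ?_⟩
    obtain ⟨γ, hγ⟩ := exists_conjAut (P := E) (Subgroup.le_normalizer g.2)
    have hγA : γ ∈ F.autGroup E := autInducedBy_le_autGroup F hES (mem_autInducedBy.2 ⟨g, hES g.2, hγ⟩)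
    have h1 : g * x * g⁻¹ = γ x := Subtype.ext (hγ x).symm
    rw [h1]
    exact hD0A' γ hγA x hx
  -- t ^ 2 ∈ E
  have ht2 : t * t ∈ E := by
    refine hinn (t * t) (P.mul_mem htP htP) (γ := τ * τ) ?_ ?_
    · intro x
      rw [MulAut.mul_apply, hτ, hτ]; group
    · intro x hx
      have h1 : x⁻¹ * (τ * τ) x = ((x⁻¹ * τ x) * (x⁻¹ * τ x)) * ((x⁻¹ * τ x)⁻¹ * τ (x⁻¹ * τ x)) := by
        rw [MulAut.mul_apply, map_mul, map_inv]; group
      rw [h1]
      have h2 := hC2 x hx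
      exact D0.mul_mem (hsq _ (hCR h2)) (hC1 _ h2)
  -- odd order element
  obtain ⟨ρ, hρA, m, hmo, hρm, hρfp⟩ := exists_odd_fpf (A := F.autGroup E) (R0 := R0) (C := C) (D0 := D0) hsq hD0A'
    (fun α hα x hx => (hR0A α hα x).1 hx) (fun D1 h1 h2 h3 => hD0irr D1 h1 h2 (fun α x hx => h3 α α.2 x hx))
    hDC hCR hCi hCi2 hτA hC1 hC2 hτn
  obtain ⟨κ, hκ, hκm⟩ := exists_res_mulAut (hR0A ρ hρA)
  have hidx : (frattini R0).index = 4 := by
    have h1 : D0.subgroupOf R0 = frattini R0 := by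
      ext x; rw [Subgroup.mem_subgroupOf]; exact hmemD0 x
    have h2 : D0.relIndex R0 = (D0.subgroupOf R0).index := rfl
    rw [h1, hD0i] at h2
    rw [← h2]; norm_num
  have hfp : ∀ x : R0, x⁻¹ * κ x ∈ frattini R0 → x ∈ frattini R0 := by
    intro x hx
    rw [← hmemD0] at hx ⊢
    rw [Subgroup.coe_mul, Subgroup.coe_inv, hκ] at hx
    exact hρfp x x.2 hx
  have hR0n : ∀ (x : E), x ∈ R0 → τ x ∈ R0 := fun x hx => (hR0A τ hτA x).1 hx
  -- C_P(P ⊓ E) ≤ E
  have hcent : P ⊓ Subgroup.centralizer ((P ⊓ E : Subgroup Ω) : Set Ω) ≤ E := by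
    apply le_of_normalizer_le hS hES (inf_le_left.trans hP.1)
    · intro g hg
      rw [Subgroup.mem_normalizer_iff]
      have hn1 := hPn (hES hg)
      have hn2 : g ∈ Subgroup.normalizer ((P ⊓ E : Subgroup Ω) : Set Ω) := by
        rw [Subgroup.mem_normalizer_iff]
        intro x
        rw [Subgroup.mem_inf, Subgroup.mem_inf, ← Subgroup.mem_normalizer_iff.1 hn1 x,
          ← Subgroup.mem_normalizer_iff.1 (Subgroup.le_normalizer hg) x]
      have key : ∀ g : Ω, g ∈ Subgroup.normalizer ((P ⊓ E : Subgroup Ω) : Set Ω) → ∀ x,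
          x ∈ Subgroup.centralizer ((P ⊓ E : Subgroup Ω) : Set Ω) →
          g * x * g⁻¹ ∈ Subgroup.centralizer ((P ⊓ E : Subgroup Ω) : Set Ω) := by
        intro g hg x hx
        rw [Subgroup.mem_centralizer_iff] at hx ⊢
        intro y hy
        have h1 : g⁻¹ * y * g ∈ (P ⊓ E : Subgroup Ω) := by
          rw [Subgroup.mem_normalizer_iff.1 hg]
          have : g * (g⁻¹ * y * g) * g⁻¹ = y := by group
          rw [this]; exact hy
        have h2 := hx _ h1
        have h3 : y * (g * x * g⁻¹) = g * ((g⁻¹ * y * g) * x) * g⁻¹ := by group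
        rw [h3, h2]; group
      intro x
      rw [Subgroup.mem_inf, Subgroup.mem_inf, ← Subgroup.mem_normalizer_iff.1 hn1 x]
      constructor
      · rintro ⟨h1, h2⟩; exact ⟨h1, key g hn2 x h2⟩
      · rintro ⟨h1, h2⟩
        refine ⟨h1, ?_⟩
        have := key g⁻¹ (Subgroup.inv_mem _ hn2) _ h2
        have e : g⁻¹ * (g * x * g⁻¹) * g⁻¹⁻¹ = x := by group
        rwa [e] at this
    · rintro g ⟨hgP, hgC⟩ hgN
      obtain ⟨γ, hγ⟩ := exists_conjAut hgN
      refine hinn g hgP hγ ?_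
      intro x hx
      have h1 : γ x = x := by
        apply Subtype.ext
        rw [hγ, ← Subgroup.mem_centralizer_iff.1 hgC (x : Ω) ⟨mem_sub_PE.1 hx, x.2⟩, mul_inv_cancel_right]
      rw [h1, inv_mul_cancel]
      exact D0.one_mem
  -- transport to P
  set R' : Subgroup P := (P ⊓ E).subgroupOf P with hR'
  have hmemR' : ∀ x : P, x ∈ R' ↔ (x : Ω) ∈ E := by
    intro x
    rw [hR', Subgroup.mem_subgroupOf, Subgroup.mem_inf]
    exact ⟨fun h => h.2, fun h => ⟨x.2, h⟩⟩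
  have hR't : R' ≠ ⊤ := by
    intro h
    apply htE
    exact (hmemR' ⟨t, htP⟩).1 (by rw [h]; trivial)
  have hR'C : Subgroup.centralizer (R' : Set P) ≤ R' := by
    intro x hx
    rw [hmemR']
    apply hcent
    refine Subgroup.mem_inf.2 ⟨x.2, ?_⟩
    rw [Subgroup.mem_centralizer_iff]
    rintro y ⟨hy1, hy2⟩
    exact congrArg Subtype.val (Subgroup.mem_centralizer_iff.1 hx ⟨y, hy1⟩ ((hmemR' ⟨y, hy1⟩).2 hy2))
  have e1 := Subgroup.subgroupOfEquivOfLe (inf_le_left : P ⊓ E ≤ P)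
  have e2 := Subgroup.subgroupOfEquivOfLe (inf_le_right : P ⊓ E ≤ E)
  have hcardR : Nat.card R' = Nat.card R0 := Nat.card_congr (e1.trans e2.symm).toEquiv
  have hcommR : (∀ x ∈ R', ∀ y ∈ R', x * y = y * x) ↔ ∀ x y : R0, x * y = y * x := by
    constructor
    · intro h x y
      have h1 := h ⟨((x : E) : Ω), mem_sub_PE.1 x.2⟩ ((hmemR' _).2 (x : E).2) ⟨((y : E) : Ω), mem_sub_PE.1 y.2⟩
        ((hmemR' _).2 (y : E).2)
      have h2 := congrArg (fun z : P => (z : Ω)) h1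
      exact Subtype.ext (Subtype.ext h2)
    · intro h x hx y hy
      have h1 := h ⟨⟨(x : Ω), (hmemR' x).1 hx⟩, mem_sub_PE.2 x.2⟩ ⟨⟨(y : Ω), (hmemR' y).1 hy⟩, mem_sub_PE.2 y.2⟩
      exact Subtype.ext (congrArg (fun z : R0 => ((z : E) : Ω)) h1)
  rcases metac_odd_aut hR0p hmR hmo (hκm m hρm) hidx hfp with ⟨a, b, ha, hb, hab, hba, htop⟩ | ⟨n, a, b, ha, hb, hab, hd, htop⟩
  · -- quaternion
    have hcard8 : Nat.card R0 = 8 := by
      obtain ⟨e⟩ := CfsgLib.Dihedral.nonempty_equiv_quaternion_top (n := 2) (a := a) (b := b) (by rw [ha]) hb hab hba htop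
      rw [Nat.card_congr e.toEquiv, Nat.card_eq_fintype_card, QuaternionGroup.card]
    refine selfcent_small (hS.to_le hP.1) hR'C hR't (Or.inr ⟨by rw [hcardR, hcard8], ?_⟩)
    rw [hcommR]
    intro h
    have h1 : b * a * b⁻¹ = a := by rw [h b a, mul_inv_cancel_right]
    rw [h1] at hab
    have h2 : a ^ 2 = 1 := by rw [pow_two]; nth_rewrite 1 [hab]; rw [inv_mul_cancel]
    have := orderOf_dvd_of_pow_eq_one h2
    rw [ha] at this
    norm_num at this
  · -- homocyclic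
    obtain ⟨hcomm, hrep, hcase⟩ := homocyclic_inv ha hb hab hd htop
    have hcard4 : 4 ≤ Nat.card R0 := by
      rw [← hidx]
      exact Nat.le_of_dvd Nat.card_pos (Subgroup.index_dvd_card _)
    rcases hcase with hcase | hcase
    · refine selfcent_small (hS.to_le hP.1) hR'C hR't (Or.inl ⟨by rw [hcardR]; omega, ?_⟩)
      rw [hcommR]; exact hcomm
    · -- contradiction
      exfalso
      -- the group R ⟨t⟩
      have htR : ∀ x, x ∈ P ⊓ E → t * x * t⁻¹ ∈ P ⊓ E := fun x hx =>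
        ⟨P.mul_mem (P.mul_mem htP hx.1) (P.inv_mem htP), (Subgroup.mem_normalizer_iff.1 htN x).1 hx.2⟩
      have htR' : ∀ x, x ∈ P ⊓ E → t⁻¹ * x * t ∈ P ⊓ E := fun x hx =>
        ⟨P.mul_mem (P.mul_mem (P.inv_mem htP) hx.1) htP, by
          have h0 : t * (t⁻¹ * x * t) * t⁻¹ = x := by group
          refine (Subgroup.mem_normalizer_iff.1 htN (t⁻¹ * x * t)).2 ?_
          rw [h0]; exact hx.2⟩
      have ht2' : t * t ∈ P ⊓ E := ⟨P.mul_mem htP htP, ht2⟩
      let H : Subgroup Ω :=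
        { carrier := {g | g ∈ P ⊓ E ∨ g * t⁻¹ ∈ P ⊓ E}
          mul_mem' := by
            rintro g h (hg | hg) (hh | hh)
            · exact Or.inl ((P ⊓ E).mul_mem hg hh)
            · right; rw [mul_assoc]; exact (P ⊓ E).mul_mem hg hh
            · right
              have : g * h * t⁻¹ = (g * t⁻¹) * (t * h * t⁻¹) := by group
              rw [this]; exact (P ⊓ E).mul_mem hg (htR h hh)
            · left
              have : g * h = (g * t⁻¹) * (t * (h * t⁻¹) * t⁻¹) * (t * t) := by group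
              rw [this]; exact (P ⊓ E).mul_mem ((P ⊓ E).mul_mem hg (htR _ hh)) ht2'
          one_mem' := Or.inl (P ⊓ E).one_mem
          inv_mem' := by
            rintro g (hg | hg)
            · exact Or.inl ((P ⊓ E).inv_mem hg)
            · right
              have : g⁻¹ * t⁻¹ = (t⁻¹ * (g * t⁻¹) * t)⁻¹ * (t * t)⁻¹ := by group
              rw [this]
              exact (P ⊓ E).mul_mem ((P ⊓ E).inv_mem (htR' _ hg)) ((P ⊓ E).inv_mem ht2') }
      have hHP : H ≤ P := by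
        rintro g (hg | hg)
        · exact hg.1
        · have := P.mul_mem hg.1 htP
          rwa [inv_mul_cancel_right] at this
      have htH : t ∈ H := Or.inr (by rw [mul_inv_cancel]; exact (P ⊓ E).one_mem)
      have hHm : Cfsg.IsMetacyclic H := metac_equiv (Subgroup.subgroupOfEquivOfLe hHP) (metac_subgroup hm _)
      have hRH : ∀ x, x ∈ P ⊓ E → x ∈ H := fun x hx => Or.inl hx
      have hcommΩ : ∀ x ∈ P ⊓ E, ∀ y ∈ P ⊓ E, x * y = y * x := by
        intro x hx y hy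
        have h1 := hcomm ⟨⟨x, hx.2⟩, mem_sub_PE.2 hx.1⟩ ⟨⟨y, hy.2⟩, mem_sub_PE.2 hy.1⟩
        exact congrArg (fun z : R0 => ((z : E) : Ω)) h1
      have hfin := metac_no_homocyclic hHm (R := (P ⊓ E).subgroupOf H) (D := (D0.map E.subtype).subgroupOf H) (t := ⟨t, htH⟩)
        (by rw [Subgroup.mem_subgroupOf]; exact fun h => htE h.2)
        (by
          rintro ⟨g, hg⟩
          exact hg)
        (by
          intro x hx
          exact htR x hx)
        ht2'
        (by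
          intro x hx y hy
          exact Subtype.ext (hcommΩ x hx y hy))
        (by
          intro x hx
          have hx' : (x : Ω) ∈ P ⊓ E := hx
          exact ⟨_, hsq ⟨x, hx'.2⟩ (mem_sub_PE.2 hx'.1), rfl⟩)
        (by
          intro w hw hw2
          have hw' : (w : Ω) ∈ P ⊓ E := hw
          have hw3 : (w : Ω) * w = 1 := congrArg (fun z : H => (z : Ω)) hw2
          obtain ⟨v, hv⟩ := hcase ⟨⟨w, hw'.2⟩, mem_sub_PE.2 hw'.1⟩ (Subtype.ext (Subtype.ext hw3))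
          refine ⟨⟨w, hw'.2⟩, ?_, rfl⟩
          have h1 : (⟨(w : Ω), hw'.2⟩ : E) = (v : E) * v := congrArg (fun z : R0 => (z : E)) hv
          rw [h1]
          exact hsq _ v.2)
      apply hτn
      intro x hx
      have hx' : (x : Ω) ∈ P ⊓ E := ⟨mem_sub_PE.1 hx, x.2⟩
      have h1 := hfin ⟨x, hRH x hx'⟩ hx'
      obtain ⟨y, hy, hyx⟩ := h1
      have h2 : x⁻¹ * τ x = y := by
        apply Subtype.ext
        rw [Subgroup.coe_mul, Subgroup.coe_inv, hτ]
        exact hyx.symm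
      rw [h2]; exact hy

end CfsgLib.Fus21
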