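import Cfsg.Agent.EqBase
import Mathlib
import Cfsg.Prelude.Def_CaseTheorems
import Cfsg.Agent.LibCoprime
import Cfsg.Agent.LibSolvNilp
import Cfsg.Agent.LibLE10

set_option autoImplicit false
set_option linter.unusedSectionVars false

/-!
Sectional rank of `p`-groups.
-/

namespace CfsgLib.H7Sec

open Subgroup Cfsg
open scoped Pointwise commutatorElement

theorem sec_bound {p k : ℕ} {S : Type*} [Group S] (hr : SectionalPRankLE p k S) {H : Subgroup S} {L : Type*}
    [Group L] (f : H →* L) (hf : Function.Surjective f) (E : Subgroup L) (hE : IsMulCommutative E)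
    (hEp : ∀ a ∈ E, a ^ p = 1) : Nat.card E ≤ p ^ k := by
  let e : H ⧸ f.ker ≃* L := QuotientGroup.quotientKerEquivOfSurjective f hf
  have h1 := hr H f.ker (E.map e.symm.toMonoidHom) (by
    refine ⟨⟨?_⟩⟩
    rintro ⟨_, a, ha, rfl⟩ ⟨_, b, hb, rfl⟩
    apply Subtype.ext
    change e.symm a * e.symm b = e.symm b * e.symm a
    rw [← map_mul, ← map_mul]
    congr 1
    exact congrArg Subtype.val (hE.is_comm.comm ⟨a, ha⟩ ⟨b, hb⟩)) (by
    rintro _ ⟨a, ha, rfl⟩
    change (e.symm a) ^ p = 1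
    rw [← map_pow, hEp a ha, map_one])
  rwa [Subgroup.card_map_of_injective e.symm.injective] at h1

theorem sec_inj {p k : ℕ} {S T : Type*} [Group S] [Group T] (hr : SectionalPRankLE p k S) (φ : T →* S)
    (hφ : Function.Injective φ) : SectionalPRankLE p k T := by
  intro H N hN A hA1 hA2
  let e : H ≃* H.map φ := H.equivMapOfInjective φ hφ
  refine sec_bound hr (H := H.map φ) ((QuotientGroup.mk' N).comp e.symm.toMonoidHom) ?_ A hA1 hA2
  exact (QuotientGroup.mk'_surjective N).comp e.symm.surjective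

theorem sec_sub {p k : ℕ} {S : Type*} [Group S] (hr : SectionalPRankLE p k S) (T : Subgroup S) :
    SectionalPRankLE p k T := sec_inj hr T.subtype T.subtype_injective

theorem sec_quot {p k : ℕ} {S : Type*} [Group S] (hr : SectionalPRankLE p k S) (N : Subgroup S) [N.Normal] :
    SectionalPRankLE p k (S ⧸ N) := by
  intro H M hM A hA1 hA2
  let g : H.comap (QuotientGroup.mk' N) →* H := (QuotientGroup.mk' N).subgroupComap H
  have hg : Function.Surjective g := by
    rintro ⟨y, hy⟩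
    obtain ⟨x, rfl⟩ := QuotientGroup.mk'_surjective N y
    exact ⟨⟨x, hy⟩, rfl⟩
  exact sec_bound hr ((QuotientGroup.mk' M).comp g) ((QuotientGroup.mk'_surjective M).comp hg) A hA1 hA2

/-- The relative index of a normal subgroup `K` in `H` is bounded when `H/K` is elementary abelian. -/
theorem relIndex_le {p k : ℕ} {S : Type*} [Group S] (hr : SectionalPRankLE p k S) (K H : Subgroup S) [K.Normal]
    (hc : ∀ a ∈ H, ∀ b ∈ H, a * b * a⁻¹ * b⁻¹ ∈ K) (hp : ∀ a ∈ H, a ^ p ∈ K) : K.relIndex H ≤ p ^ k := by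
  have h1 := sec_bound (sec_quot hr K) (H := ⊤) (L := S ⧸ K)
    (Subgroup.topEquiv : (⊤ : Subgroup (S ⧸ K)) ≃* (S ⧸ K)).toMonoidHom
    (Subgroup.topEquiv : (⊤ : Subgroup (S ⧸ K)) ≃* (S ⧸ K)).surjective (H.map (QuotientGroup.mk' K)) (by
      refine ⟨⟨?_⟩⟩
      rintro ⟨_, a, ha, rfl⟩ ⟨_, b, hb, rfl⟩
      apply Subtype.ext
      change QuotientGroup.mk' K a * QuotientGroup.mk' K b = QuotientGroup.mk' K b * QuotientGroup.mk' K a
      have h2 : QuotientGroup.mk' K (a * b * a⁻¹ * b⁻¹) = 1 := (QuotientGroup.eq_one_iff _).2 (hc a ha b hb)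
      rw [map_mul, map_mul, map_mul, map_inv, map_inv, mul_inv_eq_one, mul_inv_eq_iff_eq_mul] at h2
      exact h2) (by
      rintro _ ⟨a, ha, rfl⟩
      rw [← map_pow]
      exact (QuotientGroup.eq_one_iff _).2 (hp a ha))
  rwa [← relIndex_ker, QuotientGroup.ker_mk'] at h1

/-- A group generated by pairwise commuting elements of order dividing `p` modulo `K`. -/
theorem closure_elem {S : Type*} [Group S] (K : Subgroup S) [K.Normal] {p : ℕ} (T : Set S)
    (hc : ∀ a ∈ T, ∀ b ∈ T, a * b * a⁻¹ * b⁻¹ ∈ K) (hp : ∀ a ∈ T, a ^ p ∈ K) :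
    (∀ a ∈ closure T, ∀ b ∈ closure T, a * b * a⁻¹ * b⁻¹ ∈ K) ∧ ∀ a ∈ closure T, a ^ p ∈ K := by
  have hmk : ∀ a b : S, a * b * a⁻¹ * b⁻¹ ∈ K ↔
      Commute (QuotientGroup.mk' K a) (QuotientGroup.mk' K b) := by
    intro a b
    rw [← QuotientGroup.eq_one_iff]
    change QuotientGroup.mk' K (a * b * a⁻¹ * b⁻¹) = 1 ↔ _
    rw [map_mul, map_mul, map_mul, map_inv, map_inv, mul_inv_eq_one, mul_inv_eq_iff_eq_mul]
    rfl
  have h1 : ∀ b ∈ T, ∀ a ∈ closure T, Commute (QuotientGroup.mk' K a) (QuotientGroup.mk' K b) := by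
    intro b hb a ha
    induction ha using closure_induction with
    | mem x hx => exact (hmk x b).1 (hc x hx b hb)
    | one => rw [map_one]; exact Commute.one_left _
    | mul x y _ _ hx hy => rw [map_mul]; exact hx.mul_left hy
    | inv x _ hx => rw [map_inv]; exact hx.inv_left
  have h2 : ∀ a ∈ closure T, ∀ b ∈ closure T, Commute (QuotientGroup.mk' K a) (QuotientGroup.mk' K b) := by
    intro a ha b hb
    induction hb using closure_induction with
    | mem x hx => exact h1 x hx a ha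
    | one => rw [map_one]; exact Commute.one_right _
    | mul x y _ _ hx hy => rw [map_mul]; exact hx.mul_right hy
    | inv x _ hx => rw [map_inv]; exact hx.inv_right
  refine ⟨fun a ha b hb => (hmk a b).2 (h2 a ha b hb), fun a ha => ?_⟩
  rw [← QuotientGroup.eq_one_iff]
  change QuotientGroup.mk' K (a ^ p) = 1
  rw [map_pow]
  induction ha using closure_induction with
  | mem x hx =>
    have := (QuotientGroup.eq_one_iff _).2 (hp x hx)
    rw [← map_pow]; exact this
  | one => rw [map_one, one_pow]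
  | mul x y hx' hy' hx hy => rw [map_mul, (h2 x hx' y hy').mul_pow, hx, hy, one_mul]
  | inv x _ hx => rw [map_inv, inv_pow, hx, inv_one]

section
variable {S : Type*} [Group S] [Finite S] {p : ℕ} [hp : Fact p.Prime]

theorem isCyclic_of_index_frattini {P : Type*} [Group P] [Finite P] (hP : IsPGroup p P)
    (h : (frattini P).index < p ^ 2) : IsCyclic P := by
  obtain ⟨k, hk⟩ := IsPGroup.iff_card.1 hP
  obtain ⟨j, hj, hidx⟩ := (Nat.dvd_prime_pow hp.out).1 (hk ▸ (frattini P).index_dvd_card)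
  have hj2 : j < 2 := by
    rw [hidx] at h
    exact (Nat.pow_lt_pow_iff_right hp.out.one_lt).1 h
  obtain ⟨g, hg⟩ : ∃ g : P, zpowers g ⊔ frattini P = ⊤ := by
    interval_cases j
    · rw [pow_zero, index_eq_one] at hidx
      exact ⟨1, by rw [hidx, sup_top_eq]⟩
    · rw [pow_one] at hidx
      have hne : frattini P ≠ ⊤ := by
        intro h1
        rw [h1, index_top] at hidx
        exact hp.out.one_lt.ne hidx
      obtain ⟨g, -, hg⟩ := SetLike.exists_of_lt (lt_top_iff_ne_top.2 hne)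
      refine ⟨g, ?_⟩
      have h2 : frattini P < zpowers g ⊔ frattini P :=
        lt_of_le_of_ne le_sup_right (fun h => hg (h ▸ mem_sup_left (mem_zpowers g)))
      have h3 := relIndex_mul_index h2.le
      rw [hidx] at h3
      rcases (Nat.dvd_prime hp.out).1 (Dvd.intro_left _ h3) with h4 | h4
      · exact index_eq_one.1 h4
      · exfalso
        rw [h4] at h3
        have h5 : (frattini P).relIndex (zpowers g ⊔ frattini P) = 1 :=
          Nat.eq_of_mul_eq_mul_right hp.out.pos (by rw [h3, one_mul])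
        exact h2.not_ge (relIndex_eq_one.1 h5)
  have hg' := frattini_nongenerating hg
  exact ⟨g, fun x => by
    have : x ∈ zpowers g := by rw [hg']; trivial
    exact this⟩

theorem index_frattini_ge {P : Subgroup S} (hP : IsPGroup p P) (h : ¬ IsMulCommutative P) :
    p ^ 2 ≤ (frattini P).index := by
  by_contra hlt
  have := isCyclic_of_index_frattini hP (not_le.1 hlt)
  exact h (IsCyclic.commutative (α := P))

/-- In a nonabelian `p`-group with centre of order `p` the centre lies in the Frattini subgroup. -/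
theorem center_le_frattini {P : Subgroup S} (hP : IsPGroup p P) (h : ¬ IsMulCommutative P)
    (hZ : Nat.card (center P) = p) : center P ≤ frattini P := by
  haveI := hP.isNilpotent
  have h1 : commutator P ≠ ⊥ := by
    intro h1
    apply h
    refine ⟨⟨fun a b => ?_⟩⟩
    have h5 : ⁅a, b⁆ ∈ commutator P := Subgroup.commutator_mem_commutator (mem_top a) (mem_top b)
    rw [h1, mem_bot] at h5
    exact commutatorElement_eq_one_iff_mul_comm.mp h5
  have h2 := CfsgLib.SolvNilp.inf_center_ne_bot (commutator P) h1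
  have h3 : commutator P ⊓ center P = center P := by
    haveI : Fact (Nat.card (center P)).Prime := ⟨by rw [hZ]; exact hp.out⟩
    have h4 : Nat.card ↥(commutator P ⊓ center P) ∣ p := by
      rw [← hZ]; exact Subgroup.card_dvd_of_le inf_le_right
    rcases (Nat.dvd_prime hp.out).1 h4 with h5 | h5
    · exact absurd ((Subgroup.card_eq_one).1 h5) h2
    · exact Subgroup.eq_of_le_of_card_ge inf_le_right (by rw [h5, hZ])
  exact (inf_eq_right.1 h3).trans (CfsgLib.LE.commutator_le_frattini hP)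

/-- Normal subgroups with distinct centres of order `p`. -/
theorem inf_eq_bot {P Q : Subgroup S} (hS : IsPGroup p S) [P.Normal] [Q.Normal]
    (hZP : Nat.card ↥(center ↥P) = p) (hZQ : Nat.card ↥(center ↥Q) = p)
    (hne : (center ↥P).map P.subtype ≠ (center ↥Q).map Q.subtype) : P ⊓ Q = ⊥ := by
  by_contra h
  haveI := hS.isNilpotent
  have h2 := CfsgLib.SolvNilp.inf_center_ne_bot (P ⊓ Q) h
  have h3 : IsPGroup p (↥(P ⊓ Q ⊓ center S)) := hS.to_subgroup _
  obtain ⟨n, hn⟩ := IsPGroup.iff_card.1 h3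
  have h4 : p ∣ Nat.card (↥(P ⊓ Q ⊓ center S)) := by
    rw [hn]
    refine dvd_pow_self p ?_
    rintro rfl
    apply h2
    rw [← Subgroup.card_eq_one, hn, pow_zero]
  obtain ⟨w0, hw⟩ := exists_prime_orderOf_dvd_card' p h4
  obtain ⟨w, hw0⟩ : ∃ w : S, w = w0 := ⟨_, rfl⟩
  have hwP : w ∈ P := by rw [hw0]; exact w0.2.1.1
  have hwQ : w ∈ Q := by rw [hw0]; exact w0.2.1.2
  have hwc : w ∈ center S := by rw [hw0]; exact w0.2.2
  rw [← Subgroup.orderOf_coe, ← hw0] at hw
  have key : ∀ R : Subgroup S, Nat.card ↥(center ↥R) = p → w ∈ R → (center ↥R).map R.subtype = zpowers w := by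
    intro R hR hwR
    symm
    apply Subgroup.eq_of_le_of_card_ge
    · rw [zpowers_le]
      refine ⟨⟨w, hwR⟩, ?_, rfl⟩
      rw [SetLike.mem_coe, mem_center_iff]
      intro g
      exact Subtype.ext (mem_center_iff.1 hwc g)
    · rw [Subgroup.card_map_of_injective R.subtype_injective, hR, Nat.card_zpowers, hw]
  exact hne (by rw [key P hZP hwP, key Q hZQ hwQ])

theorem commutator_bot {P Q : Subgroup S} [P.Normal] [Q.Normal] (h : P ⊓ Q = ⊥) : ⁅P, Q⁆ = ⊥ := by
  rw [eq_bot_iff, ← h]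
  exact Subgroup.commutator_le_inf P Q

end

section two
variable {S : Type*} [Group S] [Finite S]

/-- The product of two disjoint normal nonabelian subgroups with centre of order `2`. -/
theorem centralizer_le {P Q : Subgroup S} (h2 : IsPGroup 2 S) (hr : SectionalPRankLE 2 4 S)
    [P.Normal] [Q.Normal] (hP : ¬ IsMulCommutative ↥P) (hQ : ¬ IsMulCommutative ↥Q)
    (hZP : Nat.card ↥(center ↥P) = 2) (hZQ : Nat.card ↥(center ↥Q) = 2) (hPQ : P ⊓ Q = ⊥) :
    centralizer ((P ⊔ Q : Subgroup S) : Set S) ≤ P ⊔ Q := by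
  haveI : Fact (Nat.Prime 2) := ⟨Nat.prime_two⟩
  by_contra hcon
  obtain ⟨x0, hx0, hx0'⟩ := SetLike.not_le_iff_exists.1 hcon
  -- choose x with x ^ 2 ∈ P Q
  obtain ⟨x, hx, hx', hx2⟩ : ∃ x ∈ centralizer ((P ⊔ Q : Subgroup S) : Set S), x ∉ P ⊔ Q ∧ x ^ 2 ∈ P ⊔ Q := by
    have hex : ∃ i : ℕ, x0 ^ 2 ^ i ∈ P ⊔ Q := by
      obtain ⟨k, hk⟩ := h2 x0
      exact ⟨k, by rw [hk]; exact one_mem _⟩
    classical
    have h1 := Nat.find_spec hex
    have h3 : Nat.find hex ≠ 0 := by
      intro h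
      rw [h, pow_zero, pow_one] at h1
      exact hx0' h1
    obtain ⟨j, hj⟩ := Nat.exists_eq_succ_of_ne_zero h3
    refine ⟨x0 ^ 2 ^ j, pow_mem hx0 _, Nat.find_min hex (by omega), ?_⟩
    rw [← pow_mul, ← pow_succ, ← Nat.succ_eq_add_one, ← hj]
    exact h1
  have hcomm : ∀ a ∈ P, ∀ b ∈ Q, a * b = b * a := by
    intro a ha b hb
    have h1 : ⁅a, b⁆ ∈ ⁅P, Q⁆ := commutator_mem_commutator ha hb
    rw [commutator_bot hPQ, mem_bot] at h1
    exact commutatorElement_eq_one_iff_mul_comm.1 h1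
  have hPp : IsPGroup 2 P := h2.to_subgroup _
  have hQp : IsPGroup 2 Q := h2.to_subgroup _
  -- the subgroup K
  set A := (frattini P).map P.subtype with hA
  set B := (frattini Q).map Q.subtype with hB
  have hAn : A.Normal := ConjAct.normal_of_characteristic_of_normal
  have hBn : B.Normal := ConjAct.normal_of_characteristic_of_normal
  have hAP : A ≤ P := map_subtype_le _
  have hBQ : B ≤ Q := map_subtype_le _
  set K := A ⊔ B with hK
  have hKn : K.Normal := inferInstance
  -- x ^ 2 ∈ K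
  have hx2K : x ^ 2 ∈ K := by
    rw [← SetLike.mem_coe, normal_mul] at hx2
    obtain ⟨a, ha, b, hb, hab⟩ := hx2
    have hab' : a * b = x ^ 2 := hab
    have hxc : ∀ y ∈ P ⊔ Q, y * x ^ 2 = x ^ 2 * y := fun y hy =>
      (mem_centralizer_iff.1 (pow_mem hx 2)) y hy
    have ha1 : (⟨a, ha⟩ : P) ∈ center P := by
      rw [mem_center_iff]
      rintro ⟨c, hc⟩
      apply Subtype.ext
      change c * a = a * c
      have h1 := hxc c (mem_sup_left hc)
      rw [← hab', ← mul_assoc, mul_assoc a b c, ← hcomm c hc b hb, ← mul_assoc] at h1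
      exact mul_right_cancel h1
    have hb1 : (⟨b, hb⟩ : Q) ∈ center Q := by
      rw [mem_center_iff]
      rintro ⟨c, hc⟩
      apply Subtype.ext
      change c * b = b * c
      have h1 := hxc c (mem_sup_right hc)
      rw [← hab', ← mul_assoc, ← hcomm a ha c hc, mul_assoc, mul_assoc] at h1
      exact mul_left_cancel h1
    rw [← hab']
    exact mul_mem (mem_sup_left ⟨⟨a, ha⟩, center_le_frattini hPp hP hZP ha1, rfl⟩)
      (mem_sup_right ⟨⟨b, hb⟩, center_le_frattini hQp hQ hZQ hb1, rfl⟩)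
  -- H = P Q ⟨x⟩
  set T : Set S := (P : Set S) ∪ (Q : Set S) ∪ {x} with hT
  have hPel : ∀ a ∈ P, ∀ b ∈ P, a * b * a⁻¹ * b⁻¹ ∈ K := by
    intro a ha b hb
    refine mem_sup_left ⟨⟨a, ha⟩ * ⟨b, hb⟩ * (⟨a, ha⟩ : P)⁻¹ * (⟨b, hb⟩ : P)⁻¹, ?_, rfl⟩
    exact CfsgLib.LE.commutator_le_frattini hPp (commutator_mem_commutator (mem_top (⟨a, ha⟩ : P)) (mem_top (⟨b, hb⟩ : P)))
  have hQel : ∀ a ∈ Q, ∀ b ∈ Q, a * b * a⁻¹ * b⁻¹ ∈ K := by
    intro a ha b hb
    refine mem_sup_right ⟨⟨a, ha⟩ * ⟨b, hb⟩ * (⟨a, ha⟩ : Q)⁻¹ * (⟨b, hb⟩ : Q)⁻¹, ?_, rfl⟩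
    exact CfsgLib.LE.commutator_le_frattini hQp (commutator_mem_commutator (mem_top (⟨a, ha⟩ : Q)) (mem_top (⟨b, hb⟩ : Q)))
  have hone : ∀ a b : S, a * b = b * a → a * b * a⁻¹ * b⁻¹ ∈ K := by
    intro a b h
    have : a * b * a⁻¹ * b⁻¹ = 1 := by rw [h]; group
    rw [this]; exact K.one_mem
  have hxP : ∀ a ∈ P, a * x = x * a := fun a ha => (mem_centralizer_iff.1 hx) a (mem_sup_left ha)
  have hxQ : ∀ a ∈ Q, a * x = x * a := fun a ha => (mem_centralizer_iff.1 hx) a (mem_sup_right ha)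
  have hTc : ∀ a ∈ T, ∀ b ∈ T, a * b * a⁻¹ * b⁻¹ ∈ K := by
    rintro a ((ha | ha) | ha) b ((hb | hb) | hb)
    · exact hPel a ha b hb
    · exact hone a b (hcomm a ha b hb)
    · rw [Set.mem_singleton_iff] at hb
      rw [hb]; exact hone a x (hxP a ha)
    · exact hone a b (hcomm b hb a ha).symm
    · exact hQel a ha b hb
    · rw [Set.mem_singleton_iff] at hb
      rw [hb]; exact hone a x (hxQ a ha)
    · rw [Set.mem_singleton_iff] at ha
      rw [ha]; exact hone x b (hxP b hb).symm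
    · rw [Set.mem_singleton_iff] at ha
      rw [ha]; exact hone x b (hxQ b hb).symm
    · rw [Set.mem_singleton_iff] at ha hb
      rw [ha, hb]; exact hone x x rfl
  have hTp : ∀ a ∈ T, a ^ 2 ∈ K := by
    rintro a ((ha | ha) | ha)
    · exact mem_sup_left ⟨(⟨a, ha⟩ : P) ^ 2, CfsgLib.LE.pow_mem_frattini hPp _, rfl⟩
    · exact mem_sup_right ⟨(⟨a, ha⟩ : Q) ^ 2, CfsgLib.LE.pow_mem_frattini hQp _, rfl⟩
    · rw [Set.mem_singleton_iff] at ha
      rw [ha]; exact hx2K
  obtain ⟨h3, h4⟩ := closure_elem K T hTc hTp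
  have h5 := relIndex_le hr K (closure T) h3 h4
  -- lower bound
  have hPQT : P ⊔ Q < closure T := by
    refine lt_of_le_of_ne (sup_le ?_ ?_) ?_
    · exact fun a ha => subset_closure (Or.inl (Or.inl ha))
    · exact fun a ha => subset_closure (Or.inl (Or.inr ha))
    · intro h
      apply hx'
      rw [h]
      exact subset_closure (Or.inr rfl)
  have hKle : K ≤ P ⊔ Q := sup_le_sup hAP hBQ
  have h6 := relIndex_mul_relIndex K (P ⊔ Q) (closure T) hKle hPQT.le
  have h7 : 2 ≤ (P ⊔ Q).relIndex (closure T) := by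
    by_contra h
    have h8 : (P ⊔ Q).relIndex (closure T) ≠ 0 := Subgroup.index_ne_zero_of_finite
    have h9 : (P ⊔ Q).relIndex (closure T) = 1 := by omega
    exact hPQT.not_ge (relIndex_eq_one.1 h9)
  have h8 : 16 ≤ K.relIndex (P ⊔ Q) := by
    have e1 := CfsgLib.Coprime.card_mul_relIndex hKle
    have e2 := CfsgLib.Coprime.card_sup_mul_card_inf (N := Q) (H := P) (by rw [normalizer_eq_top]; exact le_top)
    rw [hPQ, card_bot, mul_one] at e2
    have e3 := CfsgLib.Coprime.card_sup_mul_card_inf (N := B) (H := A) (by rw [normalizer_eq_top]; exact le_top)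
    have e4 : A ⊓ B = ⊥ := by
      rw [eq_bot_iff, ← hPQ]; exact inf_le_inf hAP hBQ
    rw [e4, card_bot, mul_one, ← hK] at e3
    have e5 := (frattini P).card_mul_index
    have e6 := (frattini Q).card_mul_index
    have e7 := index_frattini_ge hPp hP
    have e8 := index_frattini_ge hQp hQ
    have e9 : Nat.card A = Nat.card (frattini P) := Subgroup.card_map_of_injective P.subtype_injective
    have e10 : Nat.card B = Nat.card (frattini Q) := Subgroup.card_map_of_injective Q.subtype_injective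
    rw [e3, e2, e9, e10, ← e5, ← e6] at e1
    have e11 : K.relIndex (P ⊔ Q) = (frattini P).index * (frattini Q).index := by
      have hpos : 0 < Nat.card (frattini P) * Nat.card (frattini Q) := Nat.mul_pos Nat.card_pos Nat.card_pos
      apply Nat.eq_of_mul_eq_mul_left hpos
      rw [e1]; ring
    rw [e11]
    calc 16 = 2 ^ 2 * 2 ^ 2 := by norm_num
      _ ≤ _ := Nat.mul_le_mul e7 e8
  have h9 : 16 * 2 ≤ K.relIndex (closure T) := by
    rw [← h6]; exact Nat.mul_le_mul h8 h7
  omega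

theorem isMulCommutative_congr {A B : Type*} [Group A] [Group B] (e : A ≃* B) (h : IsMulCommutative A) :
    IsMulCommutative B := by
  refine ⟨⟨fun a b => ?_⟩⟩
  apply e.symm.injective
  rw [map_mul, map_mul]
  exact h.is_comm.comm _ _

theorem card_center_congr {A B : Type*} [Group A] [Group B] (e : A ≃* B) :
    Nat.card (center A) = Nat.card (center B) := by
  refine Nat.card_congr (Equiv.subtypeEquiv e.toEquiv fun a => ?_)
  rw [mem_center_iff, mem_center_iff]
  constructor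
  · intro h b
    obtain ⟨c, rfl⟩ := e.surjective b
    change e c * e a = e a * e c
    rw [← map_mul, ← map_mul, h]
  · intro h c
    apply e.injective
    rw [map_mul, map_mul]
    exact h (e c)

/-- relative version -/
theorem rel {P Q T : Subgroup S} (h2 : IsPGroup 2 S) (hr : SectionalPRankLE 2 4 S)
    (hPT : P ≤ T) (hQT : Q ≤ T) (hTP : ∀ t ∈ T, ∀ x ∈ P, t * x * t⁻¹ ∈ P) (hTQ : ∀ t ∈ T, ∀ x ∈ Q, t * x * t⁻¹ ∈ Q)
    (hP : ¬ IsMulCommutative ↥P) (hQ : ¬ IsMulCommutative ↥Q)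
    (hZP : Nat.card ↥(center ↥P) = 2) (hZQ : Nat.card ↥(center ↥Q) = 2)
    (hne : (center ↥P).map P.subtype ≠ (center ↥Q).map Q.subtype) :
    P ⊓ Q = ⊥ ∧ (∀ a ∈ P, ∀ b ∈ Q, a * b = b * a) ∧
      ∀ x ∈ T, (∀ a ∈ P, a * x = x * a) → (∀ b ∈ Q, b * x = x * b) → x ∈ P ⊔ Q := by
  haveI : Fact (Nat.Prime 2) := ⟨Nat.prime_two⟩
  set P' := P.subgroupOf T with hP'
  set Q' := Q.subgroupOf T with hQ'
  have hPn : P'.Normal := by
    refine ⟨fun x hx t => ?_⟩
    exact hTP t t.2 x hx
  have hQn : Q'.Normal := by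
    refine ⟨fun x hx t => ?_⟩
    exact hTQ t t.2 x hx
  have eP : P' ≃* P := Subgroup.subgroupOfEquivOfLe hPT
  have eQ : Q' ≃* Q := Subgroup.subgroupOfEquivOfLe hQT
  have hne' : (center ↥P').map P'.subtype ≠ (center ↥Q').map Q'.subtype := by
    intro h
    apply hne
    have key : ∀ R : Subgroup S, R ≤ T →
        ((center ↥(R.subgroupOf T)).map (R.subgroupOf T).subtype).map T.subtype = (center ↥R).map R.subtype := by
      intro R hRT
      ext x
      constructor
      · rintro ⟨_, ⟨y, hy, rfl⟩, rfl⟩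
        refine ⟨⟨y, y.2⟩, ?_, rfl⟩
        rw [SetLike.mem_coe, mem_center_iff] at hy ⊢
        rintro ⟨g, hg⟩
        have := hy ⟨⟨g, hRT hg⟩, hg⟩
        exact Subtype.ext (congrArg (fun z : R.subgroupOf T => ((z : T) : S)) this)
      · rintro ⟨y, hy, rfl⟩
        refine ⟨⟨y, hRT y.2⟩, ⟨⟨⟨y, hRT y.2⟩, y.2⟩, ?_, rfl⟩, rfl⟩
        rw [SetLike.mem_coe, mem_center_iff] at hy ⊢
        rintro ⟨⟨g, hgT⟩, hg⟩
        have := hy ⟨g, hg⟩
        exact Subtype.ext (Subtype.ext (congrArg (fun z : R => (z : S)) this))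
    rw [← key P hPT, ← key Q hQT, ← hP', ← hQ', h]
  have h2T : IsPGroup 2 T := h2.to_subgroup T
  have hPc : ¬ IsMulCommutative ↥P' := fun h => hP (isMulCommutative_congr eP h)
  have hQc : ¬ IsMulCommutative ↥Q' := fun h => hQ (isMulCommutative_congr eQ h)
  have hZP' : Nat.card ↥(center ↥P') = 2 := by rw [card_center_congr eP]; exact hZP
  have hZQ' : Nat.card ↥(center ↥Q') = 2 := by rw [card_center_congr eQ]; exact hZQ
  have h1 : P' ⊓ Q' = ⊥ := inf_eq_bot h2T hZP' hZQ' hne'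
  have h3 := commutator_bot h1
  have h4 := centralizer_le h2T (sec_sub hr T) hPc hQc hZP' hZQ' h1
  refine ⟨?_, ?_, ?_⟩
  · rw [eq_bot_iff]
    intro x hx
    have : (⟨x, hPT hx.1⟩ : T) ∈ P' ⊓ Q' := ⟨hx.1, hx.2⟩
    rw [h1, mem_bot] at this
    exact congrArg Subtype.val this
  · intro a ha b hb
    have h5 : ⁅(⟨a, hPT ha⟩ : T), (⟨b, hQT hb⟩ : T)⁆ ∈ ⁅P', Q'⁆ :=
      commutator_mem_commutator (show _ ∈ P' from ha) (show _ ∈ Q' from hb)
    rw [h3, mem_bot] at h5
    exact congrArg Subtype.val (commutatorElement_eq_one_iff_mul_comm.1 h5)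
  · intro x hx hxP hxQ
    have h5 : (⟨x, hx⟩ : T) ∈ centralizer ((P' ⊔ Q' : Subgroup T) : Set T) := by
      have h6 : P' ⊔ Q' ≤ centralizer ({(⟨x, hx⟩ : T)} : Set T) := by
        refine sup_le ?_ ?_
        · intro y hy
          rw [mem_centralizer_singleton_iff]
          exact Subtype.ext (hxP y hy)
        · intro y hy
          rw [mem_centralizer_singleton_iff]
          exact Subtype.ext (hxQ y hy)
      rw [mem_centralizer_iff]
      intro y hy
      exact mem_centralizer_singleton_iff.1 (h6 hy)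
    have h6 := h4 h5
    have h7 : P' ⊔ Q' = (P ⊔ Q).subgroupOf T := (Subgroup.subgroupOf_sup hPT hQT).symm
    rw [h7] at h6
    exact h6

end two

end CfsgLib.H7Sec
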