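import Mathlib
import Cfsg.Agent.LibSolvFrat

/-! Generating tuples of finite `p`-groups and free actions. -/

set_option autoImplicit false

namespace CfsgLib.H6

open Subgroup

theorem card_dvd_of_free {A X : Type*} [Group A] [MulAction A X]
    (h : ∀ a : A, ∀ x : X, a • x = x → a = 1) : Nat.card A ∣ Nat.card X := by
  classical
  have h1 : ∀ b : X, MulAction.stabilizer A b = ⊥ := by
    intro b
    rw [eq_bot_iff]
    intro a ha
    exact Subgroup.mem_bot.mpr (h a b ha)
  rw [Nat.card_congr (MulAction.selfEquivOrbitsQuotientProd h1), Nat.card_prod]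
  exact Dvd.intro_left _ rfl

theorem card_fiber {P : Type*} [Group P] [Finite P] (N : Subgroup P) {r : ℕ} (v : Fin r → P ⧸ N) :
    Nat.card {s : Fin r → P // ∀ i, (QuotientGroup.mk (s i) : P ⧸ N) = v i} = Nat.card N ^ r := by
  classical
  have e1 : {s : Fin r → P // ∀ i, (QuotientGroup.mk (s i) : P ⧸ N) = v i} ≃
      ((i : Fin r) → {x : P // (QuotientGroup.mk x : P ⧸ N) = v i}) :=
    Equiv.subtypePiEquivPi (p := fun i (x : P) => (QuotientGroup.mk x : P ⧸ N) = v i)
  rw [Nat.card_congr e1, Nat.card_pi]
  have h2 : ∀ i : Fin r, Nat.card {x : P // (QuotientGroup.mk x : P ⧸ N) = v i} = Nat.card N := by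
    intro i
    obtain ⟨x0, hx0⟩ := QuotientGroup.mk_surjective (v i)
    apply Nat.card_congr
    refine ⟨fun x => ⟨x0⁻¹ * x.1, ?_⟩, fun n => ⟨x0 * n.1, ?_⟩, ?_, ?_⟩
    · rw [← QuotientGroup.eq, hx0, x.2]
    · rw [QuotientGroup.mk_mul_of_mem _ n.2, hx0]
    · intro x; apply Subtype.ext; simp
    · intro n; apply Subtype.ext; simp
  rw [Finset.prod_congr rfl (fun i _ => h2 i), Finset.prod_const, Finset.card_univ, Fintype.card_fin]

theorem card_generating_mod {V : Type*} {p : ℕ} [Fact p.Prime] [AddCommGroup V] [Module (ZMod p) V] [Finite V]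
    {r : ℕ} (hr : Nat.card V = p ^ r) :
    Nat.card {s : Fin r → V // AddSubgroup.closure (Set.range s) = ⊤} =
      (∏ i ∈ Finset.range r, (p ^ r - p ^ i)) := by
  classical
  have hpp : p.Prime := Fact.out
  have hfr : Module.finrank (ZMod p) V = r := by
    have h1 := FiniteField.pow_finrank_eq_natCard p V
    rw [hr] at h1
    exact Nat.pow_right_injective hpp.two_le h1
  have hiff : ∀ s : Fin r → V, AddSubgroup.closure (Set.range s) = ⊤ ↔ LinearIndependent (ZMod p) s := by
    intro s
    have hmap : ∀ x ∈ AddSubgroup.closure (Set.range s), x ∈ Submodule.span (ZMod p) (Set.range s) := by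
      intro x hx
      induction hx using AddSubgroup.closure_induction with
      | mem x hx => exact Submodule.subset_span hx
      | zero => exact zero_mem _
      | add x y _ _ hx hy => exact add_mem hx hy
      | neg x _ hx => exact neg_mem hx
    constructor
    · intro h
      apply linearIndependent_of_top_le_span_of_card_eq_finrank
      · intro v _
        exact hmap v (by rw [h]; trivial)
      · rw [Fintype.card_fin, hfr]
    · intro h
      have hspan := h.span_eq_top_of_card_eq_finrank' (by rw [Fintype.card_fin, hfr])
      rw [eq_top_iff]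
      intro x _
      have hx : x ∈ Submodule.span (ZMod p) (Set.range s) := by
        rw [hspan]; exact Submodule.mem_top
      have key : ∀ v : V, v ∈ Submodule.span (ZMod p) (Set.range s) → v ∈ AddSubgroup.closure (Set.range s) := by
        intro v hv
        induction hv using Submodule.span_induction with
        | mem v hv => exact AddSubgroup.subset_closure hv
        | zero => exact zero_mem _
        | add v w _ _ hv hw => exact add_mem hv hw
        | smul c v _ hv =>
          have h2 : c • v = c.val • v := by
            conv_lhs => rw [← ZMod.natCast_zmod_val c]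
            rw [Nat.cast_smul_eq_nsmul]
          rw [h2]
          exact nsmul_mem hv c.val
      exact key _ hx
  have h3 := card_linearIndependent (K := ZMod p) (V := V) (k := r) (by rw [hfr])
  rw [hfr, ZMod.card, ← Finset.prod_range (fun i => p ^ r - p ^ i)] at h3
  rw [← h3]
  exact Nat.card_congr (Equiv.subtypeEquiv (Equiv.refl _) hiff)

/-- number of generating `r`-tuples of an elementary abelian group of order `p^r`. -/
theorem card_generating_elab {Q : Type*} [CommGroup Q] [Finite Q] {p : ℕ} [Fact p.Prime]
    (hexp : ∀ x : Q, x ^ p = 1) {r : ℕ} (hr : Nat.card Q = p ^ r) :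
    Nat.card {s : Fin r → Q // Subgroup.closure (Set.range s) = ⊤} =
      (∏ i ∈ Finset.range r, (p ^ r - p ^ i)) := by
  classical
  have h1 := @card_generating_mod (Additive Q) p _ _ (AddCommGroup.zmodModule (n := p) (by
    intro x
    exact congrArg Additive.ofMul (hexp x.toMul))) _ r hr
  rw [← h1]
  apply Nat.card_congr
  refine Equiv.subtypeEquiv (Equiv.refl _) ?_
  intro s
  have h2 : ∀ x : Q, x ∈ Subgroup.closure (Set.range s) ↔
      Additive.ofMul x ∈ AddSubgroup.closure (Set.range (fun i => Additive.ofMul (s i))) := by
    intro x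
    constructor
    · intro hx
      induction hx using Subgroup.closure_induction with
      | mem x hx =>
        obtain ⟨i, rfl⟩ := hx
        exact AddSubgroup.subset_closure ⟨i, rfl⟩
      | one => exact zero_mem _
      | mul x y _ _ hx hy => exact add_mem hx hy
      | inv x _ hx => exact neg_mem hx
    · intro hx
      have key : ∀ v : Additive Q, v ∈ AddSubgroup.closure (Set.range (fun i => Additive.ofMul (s i))) →
          v.toMul ∈ Subgroup.closure (Set.range s) := by
        intro v hv
        induction hv using AddSubgroup.closure_induction with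
        | mem x hx =>
          obtain ⟨i, rfl⟩ := hx
          exact Subgroup.subset_closure ⟨i, rfl⟩
        | zero => exact one_mem _
        | add x y _ _ hx hy => exact mul_mem hx hy
        | neg x _ hx => exact inv_mem hx
      exact key _ hx
  show Subgroup.closure (Set.range s) = ⊤ ↔ AddSubgroup.closure (Set.range (fun i => Additive.ofMul (s i))) = ⊤
  constructor
  · intro h
    rw [eq_top_iff]
    intro v _
    exact (h2 v.toMul).mp (by rw [h]; trivial)
  · intro h
    rw [eq_top_iff]
    intro x _
    exact (h2 x).mpr (by rw [h]; trivial)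

section pgroup

variable {P : Type*} [Group P] [Finite P] {p : ℕ} [Fact p.Prime]

/-- the commutative group structure on `P/Φ(P)` -/
@[reducible] noncomputable def frattiniQuotCommGroup (hP : IsPGroup p P) : CommGroup (P ⧸ frattini P) :=
  { (inferInstance : Group (P ⧸ frattini P)) with
    mul_comm := by
      intro a b
      induction a using QuotientGroup.induction_on with
      | H a =>
        induction b using QuotientGroup.induction_on with
        | H b =>
          have h1 := CfsgLib.SolvFrat.commutator_le_frattini (Fact.out : p.Prime) hP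
          have h2 : (b * a)⁻¹ * (a * b) ∈ frattini P := by
            apply h1
            have : (b * a)⁻¹ * (a * b) = a⁻¹ * b⁻¹ * a⁻¹⁻¹ * b⁻¹⁻¹ := by group
            rw [this]
            exact Subgroup.commutator_mem_commutator (G := P) (H₁ := ⊤) (H₂ := ⊤) trivial trivial
          exact (QuotientGroup.eq.mpr h2).symm }

theorem frattiniQuot_pow (hP : IsPGroup p P) (x : P ⧸ frattini P) : x ^ p = 1 := by
  induction x using QuotientGroup.induction_on with
  | H a =>
    rw [← QuotientGroup.mk_pow, QuotientGroup.eq_one_iff]
    exact CfsgLib.SolvFrat.pow_mem_frattini (Fact.out : p.Prime) hP a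

/-- number of generating `r`-tuples, where `p^r = |P/Φ(P)|`. -/
theorem card_generating (hP : IsPGroup p P) {r : ℕ} (hr : (frattini P).index = p ^ r) :
    Nat.card {s : Fin r → P // Subgroup.closure (Set.range s) = ⊤} =
      (∏ i ∈ Finset.range r, (p ^ r - p ^ i)) * Nat.card (frattini P) ^ r := by
  classical
  have hpp : p.Prime := Fact.out
  have hcount : Nat.card {s : Fin r → P ⧸ frattini P // Subgroup.closure (Set.range s) = ⊤} =
      (∏ i ∈ Finset.range r, (p ^ r - p ^ i)) := by
    letI : CommGroup (P ⧸ frattini P) := frattiniQuotCommGroup hP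
    exact card_generating_elab (frattiniQuot_pow hP) hr
  let π := QuotientGroup.mk' (frattini P)
  have hiff : ∀ s : Fin r → P, Subgroup.closure (Set.range s) = ⊤ ↔
      Subgroup.closure (Set.range (fun i => (QuotientGroup.mk (s i) : P ⧸ frattini P))) = ⊤ := by
    intro s
    have h1 : Subgroup.closure (Set.range (fun i => (QuotientGroup.mk (s i) : P ⧸ frattini P))) =
        (Subgroup.closure (Set.range s)).map π := by
      rw [MonoidHom.map_closure, ← Set.range_comp]; rfl
    rw [h1]
    constructor
    · intro h
      rw [h]
      exact Subgroup.map_top_of_surjective _ (QuotientGroup.mk'_surjective _)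
    · intro h
      apply frattini_nongenerating
      have h2 := congrArg (Subgroup.comap π) h
      rw [Subgroup.comap_map_eq, QuotientGroup.ker_mk', Subgroup.comap_top] at h2
      exact h2
  -- count
  let X := {s : Fin r → P // Subgroup.closure (Set.range s) = ⊤}
  let Y := {v : Fin r → P ⧸ frattini P // Subgroup.closure (Set.range v) = ⊤}
  have e : X ≃ Σ v : Y, {s : Fin r → P // ∀ i, (QuotientGroup.mk (s i) : P ⧸ frattini P) = v.1 i} := by
    refine ⟨fun s => ⟨⟨fun i => QuotientGroup.mk (s.1 i), (hiff s.1).mp s.2⟩, ⟨s.1, fun i => rfl⟩⟩, fun z => ⟨z.2.1, ?_⟩, ?_, ?_⟩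
    · rw [hiff]
      have : (fun i => (QuotientGroup.mk (z.2.1 i) : P ⧸ frattini P)) = z.1.1 := by
        funext i
        exact z.2.2 i
      rw [this]; exact z.1.2
    · intro s; rfl
    · rintro ⟨⟨v, hv⟩, ⟨s, hs⟩⟩
      have : (fun i => (QuotientGroup.mk (s i) : P ⧸ frattini P)) = v := by
        funext i
        exact hs i
      subst this
      rfl
  haveI : Fintype Y := Fintype.ofFinite _
  rw [Nat.card_congr e, Nat.card_sigma, Finset.sum_congr rfl (fun v _ => card_fiber (frattini P) v.1),
    Finset.sum_const, smul_eq_mul, Finset.card_univ, ← Nat.card_eq_fintype_card]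
  congr 1

theorem exists_generating (hP : IsPGroup p P) {r : ℕ} (hr : (frattini P).index = p ^ r) :
    ∃ s : Fin r → P, Subgroup.closure (Set.range s) = ⊤ := by
  classical
  have hpp : p.Prime := Fact.out
  have h1 := card_generating hP hr
  have h2 : 0 < Nat.card {s : Fin r → P // Subgroup.closure (Set.range s) = ⊤} := by
    rw [h1]
    apply Nat.mul_pos
    · apply Finset.prod_pos
      intro i hi
      rw [Finset.mem_range] at hi
      exact Nat.sub_pos_of_lt (Nat.pow_lt_pow_right hpp.one_lt hi)
    · exact pow_pos Nat.card_pos r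
  obtain ⟨⟨s, hs⟩⟩ := (Nat.card_pos_iff.mp h2).1
  exact ⟨s, hs⟩

end pgroup

end CfsgLib.H6
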