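import Cfsg.Statements.S4207
import Mathlib
import Cfsg.Agent.LibH6Gen

set_option autoImplicit false
open Cfsg

namespace Cfsg.Agent.S4207

/-- Let `P` be a group of order `p^n` whose Frattini subgroup has index `p^r`. Then any group of automorphisms of `P` each of which induces the identity on the Frattini quotient has order dividing `p^(r(n-r))`; in particular it is a `p`-group. -/
theorem result {P : Type*} [Group P] [Finite P] {p n r : ℕ} [Fact p.Prime] (hP : Nat.card P = p ^ n) (hr : (frattini P).index = p ^ r) (A : Subgroup (MulAut P)) (hA : ∀ α ∈ A, ∀ x : P, α x * x⁻¹ ∈ frattini P) : Nat.card A ∣ p ^ (r * (n - r)) := by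
  classical
  have hPp : IsPGroup p P := IsPGroup.of_card hP
  obtain ⟨t, ht⟩ := CfsgLib.H6.exists_generating hPp hr
  let X := {s : Fin r → P // ∀ i, (QuotientGroup.mk (s i) : P ⧸ frattini P) = QuotientGroup.mk (t i)}
  have hgen : ∀ s : X, Subgroup.closure (Set.range s.1) = ⊤ := by
    intro s
    apply frattini_nongenerating
    rw [eq_top_iff, ← ht, Subgroup.closure_le]
    rintro _ ⟨i, rfl⟩
    have h1 := s.2 i
    rw [QuotientGroup.eq] at h1
    have h2 := mul_mem (le_sup_left (a := Subgroup.closure (Set.range s.1)) (b := frattini P) (Subgroup.subset_closure ⟨i, rfl⟩))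
      (le_sup_right (a := Subgroup.closure (Set.range s.1)) h1)
    rwa [mul_inv_cancel_left] at h2
  letI act : MulAction A X :=
    { smul := fun α s => ⟨fun i => (α : MulAut P) (s.1 i), by
        intro i
        rw [← s.2 i, eq_comm, QuotientGroup.eq]
        have h1 := hA α α.2 (s.1 i)
        have h2 := Subgroup.Normal.conj_mem (inferInstance : (frattini P).Normal) _ h1 (s.1 i)⁻¹
        have e : (s.1 i)⁻¹ * ((α : MulAut P) (s.1 i) * (s.1 i)⁻¹) * (s.1 i)⁻¹⁻¹ = (s.1 i)⁻¹ * (α : MulAut P) (s.1 i) := by group
        rwa [e] at h2⟩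
      one_smul := fun s => rfl
      mul_smul := fun α β s => rfl }
  have h2 := CfsgLib.H6.card_dvd_of_free (A := A) (X := X) (by
    intro α s hs
    apply Subtype.ext
    apply MulEquiv.ext
    intro x
    have hx : x ∈ Subgroup.closure (Set.range s.1) := by rw [hgen s]; trivial
    have h3 : ∀ i, (α : MulAut P) (s.1 i) = s.1 i := fun i => congrFun (congrArg Subtype.val hs) i
    induction hx using Subgroup.closure_induction with
    | mem x hx => obtain ⟨i, rfl⟩ := hx; exact h3 i
    | one => exact map_one _
    | mul x y _ _ hx hy => rw [map_mul, hx, hy]; rfl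
    | inv x _ hx => rw [map_inv, hx]; rfl)
  rw [CfsgLib.H6.card_fiber] at h2
  have h3 : Nat.card (frattini P) = p ^ (n - r) := by
    have h4 := Subgroup.card_mul_index (frattini P)
    rw [hr, hP] at h4
    have hpos : 0 < p ^ r := pow_pos (Fact.out : p.Prime).pos r
    have hle : r ≤ n := by
      by_contra hlt
      push Not at hlt
      have h5 : p ^ n < p ^ r := Nat.pow_lt_pow_right (Fact.out : p.Prime).one_lt hlt
      have h6 : p ^ r ≤ p ^ n := by
        rw [← h4]
        exact Nat.le_mul_of_pos_left _ Nat.card_pos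
      omega
    apply Nat.eq_of_mul_eq_mul_right hpos
    rw [h4, ← pow_add]
    congr 1; omega
  rw [h3, ← pow_mul, mul_comm (n - r) r] at h2
  exact h2

end Cfsg.Agent.S4207
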