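import Cfsg.Agent.LibFus21Mc6
import Cfsg.Agent.LibH7Sec
import Cfsg.Agent.S4207

set_option autoImplicit false

/-! Metacyclic 2-groups: automorphisms of odd order. -/

namespace CfsgLib.Fus21

open Cfsg Cfsg.FusionSystem

theorem exists_zmod_equiv {G : Type*} [Group G] [hc : IsCyclic G] {k : ℕ} (hk : Nat.card G = k) :
    Nonempty (Multiplicative (ZMod k) ≃* G) := by
  subst hk
  exact ⟨zmodCyclicMulEquiv hc⟩

theorem homocyclic_equiv {R : Type*} [Group R] [Finite R] {n : ℕ} {a b : R} (ha : orderOf a = 2 ^ n) (hb : orderOf b = 2 ^ n)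
    (hab : a * b = b * a) (hd : Subgroup.zpowers a ⊓ Subgroup.zpowers b = ⊥)
    (ht : Subgroup.zpowers a ⊔ Subgroup.zpowers b = ⊤) :
    Nonempty (R ≃* Multiplicative (Fin 2 → ZMod (2 ^ n))) := by
  obtain ⟨hcomm, hrep, -⟩ := homocyclic_inv ha hb hab hd ht
  obtain ⟨e1⟩ := exists_zmod_equiv (G := Subgroup.zpowers a) (k := 2 ^ n) (by rw [Nat.card_zpowers, ha])
  obtain ⟨e2⟩ := exists_zmod_equiv (G := Subgroup.zpowers b) (k := 2 ^ n) (by rw [Nat.card_zpowers, hb])
  let f : Multiplicative (Fin 2 → ZMod (2 ^ n)) →* R :=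
    { toFun := fun v => (e1 (Multiplicative.ofAdd (Multiplicative.toAdd v 0)) : R) * e2 (Multiplicative.ofAdd (Multiplicative.toAdd v 1))
      map_one' := by
        have h1 : e1 (Multiplicative.ofAdd (Multiplicative.toAdd (1 : Multiplicative (Fin 2 → ZMod (2 ^ n))) 0)) = 1 := map_one e1
        have h2 : e2 (Multiplicative.ofAdd (Multiplicative.toAdd (1 : Multiplicative (Fin 2 → ZMod (2 ^ n))) 1)) = 1 := map_one e2
        rw [h1, h2, Subgroup.coe_one, Subgroup.coe_one, one_mul]
      map_mul' := by
        intro v w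
        have h1 : e1 (Multiplicative.ofAdd (Multiplicative.toAdd (v * w) 0)) =
          e1 (Multiplicative.ofAdd (Multiplicative.toAdd v 0)) * e1 (Multiplicative.ofAdd (Multiplicative.toAdd w 0)) :=
          map_mul e1 _ _
        have h2 : e2 (Multiplicative.ofAdd (Multiplicative.toAdd (v * w) 1)) =
          e2 (Multiplicative.ofAdd (Multiplicative.toAdd v 1)) * e2 (Multiplicative.ofAdd (Multiplicative.toAdd w 1)) :=
          map_mul e2 _ _
        rw [h1, h2, Subgroup.coe_mul, Subgroup.coe_mul]
        exact Commute.mul_mul_mul_comm (hcomm _ _) _ _ }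
  have hbij : Function.Bijective f := by
    constructor
    · rw [injective_iff_map_eq_one]
      intro v hv
      have hv' : (e1 (Multiplicative.ofAdd (Multiplicative.toAdd v 0)) : R) * e2 (Multiplicative.ofAdd (Multiplicative.toAdd v 1)) = 1 := hv
      have h1 : (e1 (Multiplicative.ofAdd (Multiplicative.toAdd v 0)) : R) ∈ Subgroup.zpowers a ⊓ Subgroup.zpowers b := by
        refine ⟨(e1 _).2, ?_⟩
        rw [eq_inv_of_mul_eq_one_left hv']
        exact Subgroup.inv_mem _ (e2 _).2
      rw [hd, Subgroup.mem_bot] at h1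
      rw [h1, one_mul] at hv'
      have h2 : e1 (Multiplicative.ofAdd (Multiplicative.toAdd v 0)) = 1 := Subtype.ext h1
      have h3 : e2 (Multiplicative.ofAdd (Multiplicative.toAdd v 1)) = 1 := Subtype.ext hv'
      rw [map_eq_one_iff e1 e1.injective] at h2
      rw [map_eq_one_iff e2 e2.injective] at h3
      have h4 : Multiplicative.toAdd v 0 = 0 := h2
      have h5 : Multiplicative.toAdd v 1 = 0 := h3
      apply Multiplicative.toAdd.injective
      funext i
      fin_cases i
      · exact h4
      · exact h5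
    · intro x
      obtain ⟨i, j, rfl⟩ := hrep x
      refine ⟨Multiplicative.ofAdd ![Multiplicative.toAdd (e1.symm ⟨a ^ i, i, rfl⟩), Multiplicative.toAdd (e2.symm ⟨b ^ j, j, rfl⟩)], ?_⟩
      show (e1 (e1.symm ⟨a ^ i, i, rfl⟩) : R) * e2 (e2.symm ⟨b ^ j, j, rfl⟩) = _
      rw [MulEquiv.apply_symm_apply, MulEquiv.apply_symm_apply]
  exact ⟨(MulEquiv.ofBijective f hbij).symm⟩

theorem cyclic_equiv_fin {R : Type*} [Group R] [Finite R] [hc : IsCyclic R] {k : ℕ} (hk : Nat.card R = k) :
    Nonempty (R ≃* Multiplicative (Fin 1 → ZMod k)) := by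
  obtain ⟨e⟩ := exists_zmod_equiv hk
  let f : Multiplicative (ZMod k) ≃* Multiplicative (Fin 1 → ZMod k) :=
    AddEquiv.toMultiplicative (AddEquiv.mk (Equiv.funUnique (Fin 1) (ZMod k)).symm (fun _ _ => rfl))
  exact ⟨e.symm.trans f⟩

/-- automorphisms of odd order of metacyclic 2-groups -/
theorem metac_no_odd {R : Type*} [Group R] [Finite R] (hR : IsPGroup 2 R) (hm : Cfsg.IsMetacyclic R)
    (hh : ¬ ∃ n k : ℕ, Nonempty (R ≃* Multiplicative (Fin k → ZMod (2 ^ n))))
    (hq : ¬ ∃ m : ℕ, Nonempty (R ≃* QuaternionGroup m)) {ρ : MulAut R} {m : ℕ} (hmo : Odd m) (hρ : ρ ^ m = 1) : ρ = 1 := by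
  haveI : Fact (Nat.Prime 2) := ⟨Nat.prime_two⟩
  obtain ⟨N, hN⟩ := hR.exists_card_eq
  have hncyc : ¬ IsCyclic R := by
    intro hc
    exact hh ⟨N, 1, cyclic_equiv_fin hN⟩
  have hidx : (frattini R).index = 4 := by
    have h1 : (frattini R).index ≤ 2 ^ 2 := metac_frattini hR hm
    have h2 : ¬ (frattini R).index < 2 ^ 2 := fun h => hncyc (CfsgLib.H7Sec.isCyclic_of_index_frattini hR h)
    omega
  have hsqΦ : ∀ x : R, x * x ∈ frattini R := fun x => by
    have := CfsgLib.LE.pow_mem_frattini hR x
    rwa [pow_two] at this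
  have hρΦ : ∀ x ∈ frattini R, ρ x ∈ frattini R := by
    intro x hx
    have hch : (frattini R).map ρ.toMonoidHom = frattini R := Subgroup.characteristic_iff_map_eq.1 inferInstance ρ
    rw [← hch]; exact ⟨x, hx, rfl⟩
  -- trivial action on the Frattini quotient
  have htrivial : ∀ β ∈ Subgroup.zpowers ρ, (∀ x, x⁻¹ * β x ∈ frattini R) → β = 1 := by
    intro β hβ h
    have hcardA := Cfsg.Agent.S4207.result (P := R) (p := 2) (n := N) (r := 2) hN (by rw [hidx]; norm_num) (Subgroup.zpowers β) (by
      rintro _ ⟨k, rfl⟩ x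
      show (β ^ k) x * x⁻¹ ∈ frattini R
      -- the subgroup of automorphisms trivial on the quotient
      have hβΦ : ∀ γ ∈ Subgroup.zpowers ρ, ∀ x ∈ frattini R, γ x ∈ frattini R := by
        intro γ _ x hx
        have hch : (frattini R).map γ.toMonoidHom = frattini R := Subgroup.characteristic_iff_map_eq.1 inferInstance γ
        rw [← hch]; exact ⟨x, hx, rfl⟩
      let K : Subgroup (MulAut R) :=
        { carrier := {γ | γ ∈ Subgroup.zpowers ρ ∧ ∀ x, γ x * x⁻¹ ∈ frattini R}
          mul_mem' := by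
            rintro γ δ ⟨h1, h2⟩ ⟨h3, h4⟩
            refine ⟨Subgroup.mul_mem _ h1 h3, fun x => ?_⟩
            have : (γ * δ) x * x⁻¹ = (γ (δ x) * (δ x)⁻¹) * (δ x * x⁻¹) := by rw [MulAut.mul_apply]; group
            rw [this]; exact (frattini R).mul_mem (h2 _) (h4 _)
          one_mem' := ⟨Subgroup.one_mem _, fun x => by rw [MulAut.one_apply, mul_inv_cancel]; exact (frattini R).one_mem⟩
          inv_mem' := by
            rintro γ ⟨h1, h2⟩
            refine ⟨Subgroup.inv_mem _ h1, fun x => ?_⟩
            have := h2 (γ⁻¹ x)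
            rw [MulAut.apply_inv_self] at this
            have h3 := (frattini R).inv_mem this
            rwa [mul_inv_rev, inv_inv] at h3 }
      have hβK : β ∈ K := by
        refine ⟨hβ, fun x => ?_⟩
        have h1 := (inferInstance : (frattini R).Normal).conj_mem _ (h x) x
        have h2 : x * (x⁻¹ * β x) * x⁻¹ = β x * x⁻¹ := by group
        rwa [h2] at h1
      exact (K.zpow_mem hβK k).2 x)
    rw [Nat.card_zpowers] at hcardA
    obtain ⟨j, -, hj⟩ := (Nat.dvd_prime_pow Nat.prime_two).1 hcardA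
    obtain ⟨i, rfl⟩ := Subgroup.mem_zpowers_iff.1 hβ
    have h2 : (ρ ^ i) ^ m = 1 := by
      rw [← zpow_natCast, ← zpow_mul, mul_comm, zpow_mul, zpow_natCast, hρ, one_zpow]
    have h3 := orderOf_dvd_of_pow_eq_one h2
    rw [hj] at h3
    have h4 : j = 0 := by
      by_contra h5
      have h6 : 2 ∣ m := (dvd_pow_self 2 h5).trans h3
      obtain ⟨l, hl⟩ := hmo
      omega
    rw [h4, pow_zero, orderOf_eq_one_iff] at hj
    exact hj
  by_contra hne
  have hfp : ∀ x, x⁻¹ * ρ x ∈ frattini R → x ∈ frattini R := by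
    intro x hx
    by_contra hxΦ
    -- ρ² acts trivially
    apply hne
    have hρ2 : ρ ^ 2 = 1 := by
      apply htrivial _ ⟨2, rfl⟩
      -- representatives
      set π := QuotientGroup.mk' (frattini R) with hπ
      have hπ1 : ∀ x, π x = 1 ↔ x ∈ frattini R := by
        intro x; rw [hπ, QuotientGroup.mk'_apply, QuotientGroup.eq_one_iff]
      have hπe : ∀ x y, π x = π y ↔ x⁻¹ * y ∈ frattini R := by
        intro x y; rw [← hπ1, map_mul, map_inv, inv_mul_eq_one]
      have hcong : ∀ x y, π x = π y ↔ π (ρ x) = π (ρ y) := by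
        intro x y
        rw [hπe, hπe, ← map_inv, ← map_mul]
        constructor
        · exact hρΦ _
        · intro h
          have hch : (frattini R).map ρ⁻¹.toMonoidHom = frattini R := Subgroup.characteristic_iff_map_eq.1 inferInstance _
          rw [← hch]; exact ⟨_, h, ρ.symm_apply_apply _⟩
      have hsq : ∀ v : R ⧸ frattini R, v * v = 1 := by
        intro v
        obtain ⟨x, rfl⟩ := QuotientGroup.mk'_surjective _ v
        rw [← map_mul]
        exact (hπ1 _).2 (hsqΦ x)
      have hinv : ∀ v : R ⧸ frattini R, v⁻¹ = v := fun v => inv_eq_of_mul_eq_one_right (hsq v)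
      have hcm : ∀ v w : R ⧸ frattini R, v * w = w * v := by
        intro v w
        have := hinv (v * w)
        rw [mul_inv_rev, hinv, hinv] at this
        exact this.symm
      set X := π x with hX
      have hρX : π (ρ x) = X := ((hπe _ _).2 hx).symm
      have hX1 : X ≠ 1 := fun h => hxΦ ((hπ1 _).1 h)
      intro y
      rw [← hπe]
      show π y = π (ρ (ρ y))
      -- V = {1, X, Y, XY}
      by_cases hy1 : π y = 1
      · have h1 : π (ρ y) = 1 := by
          have := (hcong y 1).1 (by rw [hy1, map_one]); rwa [map_one, map_one] at this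
        have h2 : π (ρ (ρ y)) = 1 := by
          have := (hcong (ρ y) 1).1 (by rw [h1, map_one]); rwa [map_one, map_one] at this
        rw [hy1, h2]
      by_cases hyX : π y = X
      · have h1 : π (ρ y) = X := by rw [← hρX]; exact (hcong y x).1 hyX
        have h2 : π (ρ (ρ y)) = X := by
          have := (hcong (ρ y) x).1 h1; rwa [hρX] at this
        rw [hyX, h2]
      set Y := π y with hY
      have hcardV : Nat.card (R ⧸ frattini R) = 4 := by rw [← Subgroup.index_eq_card, hidx]
      have hall : ∀ v : R ⧸ frattini R, v = 1 ∨ v = X ∨ v = Y ∨ v = X * Y := by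
        classical
        haveI := Fintype.ofFinite (R ⧸ frattini R)
        have h1 : ({1, X, Y, X * Y} : Finset (R ⧸ frattini R)) = Finset.univ := by
          apply Finset.eq_univ_of_card
          rw [← Nat.card_eq_fintype_card, hcardV]
          have n1 : X * Y ≠ 1 := by
            intro h
            apply hyX
            rw [← hinv X]
            exact (inv_eq_of_mul_eq_one_right h).symm
          have n2 : X * Y ≠ X := fun h => hy1 (mul_eq_left.1 h)
          have n3 : X * Y ≠ Y := fun h => hX1 (mul_eq_right.1 h)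
          rw [Finset.card_insert_of_notMem, Finset.card_insert_of_notMem, Finset.card_insert_of_notMem, Finset.card_singleton]
          · rw [Finset.mem_singleton]; exact n3.symm
          · rw [Finset.mem_insert, Finset.mem_singleton, not_or]; exact ⟨fun h => hyX h.symm, n2.symm⟩
          · rw [Finset.mem_insert, Finset.mem_insert, Finset.mem_singleton, not_or, not_or]
            exact ⟨hX1.symm, fun h => hy1 h.symm, n1.symm⟩
        intro v
        have h2 : v ∈ ({1, X, Y, X * Y} : Finset (R ⧸ frattini R)) := by rw [h1]; exact Finset.mem_univ _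
        simpa using h2
      rcases hall (π (ρ y)) with h | h | h | h
      · exact absurd (by have := (hcong y 1).2 (by rw [h, map_one, map_one]); rwa [map_one] at this) hy1
      · exact absurd ((hcong y x).2 (by rw [h, hρX])) hyX
      · rw [(hcong (ρ y) y).1 h, h]
      · have h1 : π (ρ y) = π (x * y) := by rw [h, map_mul]
        rw [(hcong (ρ y) (x * y)).1 h1, map_mul, map_mul, hρX, h, ← mul_assoc, hsq, one_mul]
    obtain ⟨l, hl⟩ := hmo
    rw [hl, pow_add, pow_mul, hρ2, one_pow, one_mul, pow_one] at hρ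
    exact hρ
  rcases metac_odd_aut hR hm hmo hρ hidx hfp with ⟨a, b, ha, hb, hab, hba, htop⟩ | ⟨n, a, b, ha, hb, hab, hd, htop⟩
  · exact hq ⟨2, CfsgLib.Dihedral.nonempty_equiv_quaternion_top (n := 2) (a := a) (b := b) (by rw [ha]) hb hab hba htop⟩
  · exact hh ⟨n, 2, homocyclic_equiv ha hb hab hd htop⟩

end CfsgLib.Fus21
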