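import Cfsg.Agent.LibH2Max
import Cfsg.Agent.LibCores
import Cfsg.Agent.LibFus21Ab2

set_option autoImplicit false

/-! `p`-groups of maximal class: centre and second centre. -/

namespace CfsgLib.Fus21

open Cfsg Cfsg.FusionSystem

theorem maxClass_center {G : Type*} [Group G] [Finite G] {p : ℕ} [hp : Fact p.Prime] {n : ℕ} (hn : 3 ≤ n)
    (hc : Nat.card G = p ^ n) (hcl : Group.nilpotencyClass G = n - 1) : Nat.card (Subgroup.center G) = p := by
  have hG : IsPGroup p G := IsPGroup.of_card hc
  have hnil := hG.isNilpotent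
  obtain ⟨r, hrn, hr⟩ := (Nat.dvd_prime_pow hp.out).1 (hc ▸ (Subgroup.center G).index_dvd_card)
  have hcard : Nat.card (Subgroup.center G) = p ^ (n - r) := by
    have h1 := (Subgroup.center G).card_mul_index
    rw [hr, hc] at h1
    have h2 : p ^ n = p ^ (n - r) * p ^ r := by rw [← pow_add]; congr 1; omega
    rw [h2] at h1
    exact Nat.eq_of_mul_eq_mul_right (pow_pos hp.out.pos r) h1
  have hr2 : 2 ≤ r := by
    by_contra h
    have hcyc : IsCyclic (G ⧸ Subgroup.center G) := by
      have hq : Nat.card (G ⧸ Subgroup.center G) = p ^ r := by rw [← Subgroup.index_eq_card, hr]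
      have hr01 : r = 0 ∨ r = 1 := by omega
      rcases hr01 with rfl | rfl
      · have : Subsingleton (G ⧸ Subgroup.center G) := (Nat.card_eq_one_iff_unique.mp (by simpa using hq)).1
        infer_instance
      · exact isCyclic_of_prime_card (p := p) (by simpa using hq)
    have hcomm : (⊤ : Subgroup G).lowerCentralSeries 1 = ⊥ := by
      rw [Subgroup.top_lowerCentralSeries_one, commutator_eq_bot_iff_center_eq_top]
      letI : CommGroup G := commGroupOfCyclicCenterQuotient (QuotientGroup.mk' (Subgroup.center G)) (by rw [QuotientGroup.ker_mk'])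
      exact CommGroup.center_eq_top
    rw [Subgroup.lowerCentralSeries_eq_bot_iff_nilpotencyClass_le, hcl] at hcomm
    omega
  have hZ := CfsgLib.H2Max.normal_eq_lcs hn hc hcl (Subgroup.center G) r hr2 hr
  have h3 : (⊤ : Subgroup G).lowerCentralSeries r = ⊥ := by
    have h4 : r = (r - 1) + 1 := by omega
    rw [h4, Subgroup.lowerCentralSeries_succ, ← hZ, Subgroup.commutator_eq_bot_iff_le_centralizer]
    intro x hx
    rw [Subgroup.mem_centralizer_iff]
    intro y _
    exact Subgroup.mem_center_iff.1 hx y
  rw [Subgroup.lowerCentralSeries_eq_bot_iff_nilpotencyClass_le, hcl] at h3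
  have h5 : r ≠ n := by
    rintro rfl
    haveI : Nontrivial G := by
      rw [← Finite.one_lt_card_iff_nontrivial, hc]
      exact Nat.one_lt_pow (by omega) hp.out.one_lt
    have h6 := hG.bot_lt_center
    rw [Nat.sub_self, pow_zero] at hcard
    rw [Subgroup.card_eq_one] at hcard
    rw [hcard] at h6
    exact lt_irrefl _ h6
  have h7 : n - r = 1 := by omega
  rw [hcard, h7, pow_one]

theorem maxClass_Z2 {G : Type*} [Group G] [Finite G] {p : ℕ} [hp : Fact p.Prime] {n : ℕ} (hn : 4 ≤ n)
    (hc : Nat.card G = p ^ n) (hcl : Group.nilpotencyClass G = n - 1) :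
    Nat.card (Subgroup.upperCentralSeries G 2) = p ^ 2 := by
  have hG : IsPGroup p G := IsPGroup.of_card hc
  have hnil := hG.isNilpotent
  have hZ := maxClass_center (by omega) hc hcl
  have hq : Nat.card (G ⧸ Subgroup.center G) = p ^ (n - 1) := by
    have h1 := Subgroup.card_eq_card_quotient_mul_card_subgroup (Subgroup.center G)
    rw [hZ, hc] at h1
    have h2 : p ^ n = p ^ (n - 1) * p := by rw [← pow_succ]; congr 1; omega
    rw [h2] at h1
    exact (Nat.eq_of_mul_eq_mul_right hp.out.pos h1).symm
  haveI : Nontrivial G := by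
    rw [← Finite.one_lt_card_iff_nontrivial, hc]
    exact Nat.one_lt_pow (by omega) hp.out.one_lt
  have hcl' : Group.nilpotencyClass (G ⧸ Subgroup.center G) = n - 1 - 1 := by
    have := Group.nilpotencyClass_eq_quotient_center_plus_one (G := G)
    omega
  have h3 := maxClass_center (by omega) hq hcl'
  have h4 := Subgroup.comap_upperCentralSeries_quotient_center (G := G) 1
  rw [Subgroup.upperCentralSeries_one] at h4
  rw [← h4, CfsgLib.Cores.card_comap_mk, hZ, h3, pow_two]

/-- the centralizer of the second centre has index `p` -/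
theorem maxClass_C {G : Type*} [Group G] [Finite G] {p : ℕ} [hp : Fact p.Prime] {n : ℕ} (hn : 4 ≤ n)
    (hc : Nat.card G = p ^ n) (hcl : Group.nilpotencyClass G = n - 1) :
    (Subgroup.centralizer ((Subgroup.upperCentralSeries G 2 : Subgroup G) : Set G)).index = p := by
  have hZ := maxClass_center (by omega) hc hcl
  have hZ2 := maxClass_Z2 hn hc hcl
  have hle : Subgroup.center G ≤ Subgroup.upperCentralSeries G 2 := by
    have := Subgroup.upperCentralSeries_mono G (show 1 ≤ 2 by norm_num)
    rwa [Subgroup.upperCentralSeries_one] at this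
  obtain ⟨y, hy, hyZ⟩ : ∃ y ∈ Subgroup.upperCentralSeries G 2, y ∉ Subgroup.center G := by
    by_contra h
    push Not at h
    have h1 := Subgroup.card_le_of_le (show Subgroup.upperCentralSeries G 2 ≤ Subgroup.center G from h)
    rw [hZ2, hZ] at h1
    have := hp.out.one_lt
    nlinarith
  have hyc : ∀ s : G, s * y * s⁻¹ * y⁻¹ ∈ Subgroup.center G := by
    intro s
    have h1 := (Subgroup.mem_upperCentralSeries_succ_iff.1 hy) s
    rw [Subgroup.upperCentralSeries_one] at h1
    have h2 := (Subgroup.center G).inv_mem h1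
    have h3 : (y * s * y⁻¹ * s⁻¹)⁻¹ = s * y * s⁻¹ * y⁻¹ := by group
    rw [← h3]; exact h2
  let φ : G →* Subgroup.center G :=
    { toFun := fun s => ⟨s * y * s⁻¹ * y⁻¹, hyc s⟩
      map_one' := Subtype.ext (by simp)
      map_mul' := by
        intro s t
        apply Subtype.ext
        show s * t * y * (s * t)⁻¹ * y⁻¹ = (s * y * s⁻¹ * y⁻¹) * (t * y * t⁻¹ * y⁻¹)
        have h1 : s * t * y * (s * t)⁻¹ * y⁻¹ = s * (t * y * t⁻¹ * y⁻¹) * s⁻¹ * (s * y * s⁻¹ * y⁻¹) := by group
        rw [h1, Subgroup.mem_center_iff.1 (hyc t) s, mul_inv_cancel_right, Subgroup.mem_center_iff.1 (hyc s)] }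
  have hker : φ.ker = Subgroup.centralizer ((Subgroup.upperCentralSeries G 2 : Subgroup G) : Set G) := by
    ext s
    rw [MonoidHom.mem_ker]
    constructor
    · intro h
      have h1 : s * y * s⁻¹ * y⁻¹ = 1 := congrArg Subtype.val h
      have h2 : s * y = y * s := by
        rw [mul_inv_eq_one, mul_inv_eq_iff_eq_mul] at h1
        exact h1
      -- the centralizer of s in Z2
      have h3 : Subgroup.upperCentralSeries G 2 ≤ Subgroup.centralizer ({s} : Set G) := by
        set K := Subgroup.upperCentralSeries G 2 ⊓ Subgroup.centralizer ({s} : Set G) with hK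
        have hZK : Subgroup.center G ≤ K := le_inf hle (Subgroup.center_le_centralizer _)
        have hyK : y ∈ K := ⟨hy, by
          show y ∈ Subgroup.centralizer ({s} : Set G)
          rw [Subgroup.mem_centralizer_singleton_iff]; exact h2.symm⟩
        have h4 : Nat.card K ∣ p ^ 2 := hZ2 ▸ Subgroup.card_dvd_of_le inf_le_left
        obtain ⟨k, hk2, hk⟩ := (Nat.dvd_prime_pow hp.out).1 h4
        have h5 : Nat.card (Subgroup.center G) < Nat.card K := by
          refine lt_of_le_of_ne (Subgroup.card_le_of_le hZK) fun he => hyZ ?_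
          rw [Subgroup.eq_of_le_of_card_ge hZK he.ge]
          exact hyK
        rw [hZ, hk] at h5
        have h6 : k = 2 := by
          by_contra hne
          have h7 : p ^ k ≤ p ^ 1 := Nat.pow_le_pow_right hp.out.pos (by omega)
          rw [pow_one] at h7
          omega
        have h8 : K = Subgroup.upperCentralSeries G 2 :=
          Subgroup.eq_of_le_of_card_ge inf_le_left (by rw [hZ2, hk, h6])
        rw [← h8]; exact inf_le_right
      rw [Subgroup.mem_centralizer_iff]
      intro z hz
      exact Subgroup.mem_centralizer_singleton_iff.1 (h3 hz)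
    · intro h
      apply Subtype.ext
      show s * y * s⁻¹ * y⁻¹ = 1
      rw [mul_inv_eq_one, mul_inv_eq_iff_eq_mul]
      exact (Subgroup.mem_centralizer_iff.1 h y hy).symm
  rw [← hker, Subgroup.index_ker]
  have h1 : Nat.card φ.range ∣ p := hZ ▸ Subgroup.card_subgroup_dvd_card _
  rcases (Nat.dvd_prime hp.out).1 h1 with h | h
  · exfalso
    apply hyZ
    rw [Subgroup.mem_center_iff]
    intro s
    rw [Subgroup.card_eq_one, MonoidHom.range_eq_bot_iff] at h
    have h2 : φ s = 1 := by rw [h]; rfl
    have h3 : s * y * s⁻¹ * y⁻¹ = 1 := congrArg Subtype.val h2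
    rw [mul_inv_eq_one, mul_inv_eq_iff_eq_mul] at h3
    exact h3
  · exact h

variable {Ω : Type*} [Group Ω] {S : Subgroup Ω}

theorem amb_class [Finite S] {p : ℕ} [hp : Fact p.Prime] {n : ℕ} (hn : 3 ≤ n) (hc : Nat.card S = p ^ n)
    (hmax : Subgroup.lowerCentralSeries S (n - 2) ≠ ⊥) : Group.nilpotencyClass S = n - 1 := by
  have hS : IsPGroup p S := IsPGroup.of_card hc
  have hnil := hS.isNilpotent
  have h1 : ∀ k, Subgroup.lowerCentralSeries S k = ((⊤ : Subgroup S).lowerCentralSeries k).map S.subtype := by
    intro k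
    rw [Subgroup.map_lowerCentralSeries, ← MonoidHom.range_eq_map, Subgroup.range_subtype]
  apply le_antisymm
  · rw [← Subgroup.lowerCentralSeries_eq_bot_iff_nilpotencyClass_le, ← Subgroup.card_eq_one]
    have h2 := CfsgLib.H2Max.card_lcs_le (by omega) hc (n - 1) (by omega) le_rfl
    rw [Nat.sub_self, pow_zero] at h2
    have : 0 < Nat.card ((⊤ : Subgroup S).lowerCentralSeries (n - 1)) := Nat.card_pos
    omega
  · by_contra h
    apply hmax
    rw [h1, (Subgroup.lowerCentralSeries_eq_bot_iff_nilpotencyClass_le (n := n - 2)).2 (by omega), Subgroup.map_bot]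

end CfsgLib.Fus21
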