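import Cfsg.Agent.LibFus21Mx1
import Cfsg.Agent.LibFus21Hy3
import Cfsg.Agent.LibFus21Alp2

set_option autoImplicit false

/-! `p`-groups of maximal class: the centralizer of the second centre is essential. -/

namespace CfsgLib.Fus21

open Cfsg Cfsg.FusionSystem

variable {Ω : Type*} [Group Ω] {S : Subgroup Ω}

theorem maxClass_C_amb [Finite S] {p : ℕ} [hp : Fact p.Prime] {n : ℕ} (hn : 4 ≤ n) (hc : Nat.card S = p ^ n)
    (hmax : Subgroup.lowerCentralSeries S (n - 2) ≠ ⊥) :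
    ((S ⊓ Subgroup.centralizer (((Subgroup.upperCentralSeries ↥S 2).map S.subtype : Subgroup Ω) : Set Ω)).subgroupOf S).index = p := by
  have h1 := maxClass_C hn hc (amb_class (by omega) hc hmax)
  convert h1 using 2
  ext x
  rw [Subgroup.mem_subgroupOf, Subgroup.mem_inf, Subgroup.mem_centralizer_iff, Subgroup.mem_centralizer_iff]
  constructor
  · rintro ⟨-, h⟩ y hy
    exact Subtype.ext (h y ⟨y, hy, rfl⟩)
  · intro h
    refine ⟨x.2, ?_⟩
    rintro _ ⟨y, hy, rfl⟩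
    exact congrArg Subtype.val (h y hy)

theorem conj_mem_map_subtype {N : Subgroup S} (hN : N.Normal) {s x : Ω} (hs : s ∈ S) (hx : x ∈ N.map S.subtype) :
    s * x * s⁻¹ ∈ N.map S.subtype := by
  obtain ⟨y, hy, rfl⟩ := Subgroup.mem_map.1 hx
  refine Subgroup.mem_map.2 ⟨⟨s, hs⟩ * y * (⟨s, hs⟩ : S)⁻¹, hN.conj_mem y hy ⟨s, hs⟩, ?_⟩
  simp

/-- over a group of maximal class, if `Aut_F(Z₂(S))` moves `Z(S)` then `C_S(Z₂(S))` is essential -/
theorem maxClass_essential [Finite S] {p : ℕ} [hp : Fact p.Prime] (hS : IsPGroup p S) {n : ℕ} (hn : 4 ≤ n) (hc : Nat.card S = p ^ n)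
    (hmax : Subgroup.lowerCentralSeries S (n - 2) ≠ ⊥) {F : FusionSystem S} (hF : F.IsSaturated p)
    {Z2 : Subgroup Ω} (hZ2 : Z2 = (Subgroup.upperCentralSeries ↥S 2).map S.subtype)
    {φ : ↥Z2 →* Ω} (hφ : φ ∈ F.Hom Z2) (hφZ : φ.range = Z2)
    {z : Ω} (hz : z ∈ Z2) (hzZ : z ∈ (Subgroup.center ↥S).map S.subtype)
    (hmove : φ ⟨z, hz⟩ ∉ (Subgroup.center ↥S).map S.subtype) :
    F.IsEssential p (S ⊓ Subgroup.centralizer (Z2 : Set Ω)) := by
  set C := S ⊓ Subgroup.centralizer (Z2 : Set Ω) with hC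
  have hZ2S : Z2 ≤ S := by rw [hZ2]; exact Subgroup.map_subtype_le _
  have hCS : C ≤ S := inf_le_left
  have hidx : (C.subgroupOf S).index = p := by rw [hC, hZ2]; exact maxClass_C_amb hn hc hmax
  have hlt : C < S := by
    refine lt_of_le_of_ne hCS fun h => ?_
    rw [h, Subgroup.subgroupOf_self, Subgroup.index_top] at hidx
    exact hp.out.one_lt.ne hidx
  -- normality
  have hSN2 : ∀ s ∈ S, ∀ x ∈ Z2, s * x * s⁻¹ ∈ Z2 := by
    intro s hs x hx
    rw [hZ2] at hx ⊢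
    exact conj_mem_map_subtype (inferInstance : (Subgroup.upperCentralSeries ↥S 2).Normal) hs hx
  have hSN2' : S ≤ Subgroup.normalizer (Z2 : Set Ω) := by
    intro s hs
    rw [Subgroup.mem_normalizer_iff]
    intro x
    refine ⟨hSN2 s hs x, fun h => ?_⟩
    have := hSN2 s⁻¹ (S.inv_mem hs) _ h
    have e : s⁻¹ * (s * x * s⁻¹) * s⁻¹⁻¹ = x := by group
    rwa [e] at this
  have hSC : ∀ s ∈ S, ∀ x ∈ C, s * x * s⁻¹ ∈ C := by
    intro s hs x hx
    refine Subgroup.mem_inf.2 ⟨S.mul_mem (S.mul_mem hs hx.1) (S.inv_mem hs), ?_⟩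
    rw [Subgroup.mem_centralizer_iff]
    intro y hy
    have h1 := hSN2 s⁻¹ (S.inv_mem hs) y hy
    have h2 := Subgroup.mem_centralizer_iff.1 (Subgroup.mem_inf.1 hx).2 _ h1
    have h3 : y * (s * x * s⁻¹) = s * ((s⁻¹ * y * s⁻¹⁻¹) * x) * s⁻¹ := by group
    rw [h3, h2]; group
  have hSNC : S ≤ Subgroup.normalizer (C : Set Ω) := by
    intro s hs
    rw [Subgroup.mem_normalizer_iff]
    intro x
    refine ⟨hSC s hs x, fun h => ?_⟩
    have := hSC s⁻¹ (S.inv_mem hs) _ h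
    have e : s⁻¹ * (s * x * s⁻¹) * s⁻¹⁻¹ = x := by group
    rwa [e] at this
  have hCfn : F.IsFullyNormalized C := fn_of_normalized hCS hSNC
  have hZ2fn : F.IsFullyNormalized Z2 := fn_of_normalized hZ2S hSN2'
  rcases essential_or_closure hS hF hlt hCfn with h | h
  · exact h
  exfalso
  -- Z(S)
  set Z := (Subgroup.center ↥S).map S.subtype with hZdef
  have hZmem : ∀ x, x ∈ Z ↔ x ∈ S ∧ ∀ s ∈ S, s * x = x * s := by
    intro x
    constructor
    · rintro ⟨y, hy, rfl⟩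
      exact ⟨y.2, fun s hs => congrArg Subtype.val (Subgroup.mem_center_iff.1 hy ⟨s, hs⟩)⟩
    · rintro ⟨h1, h2⟩
      exact ⟨⟨x, h1⟩, Subgroup.mem_center_iff.2 fun s => Subtype.ext (h2 s s.2), rfl⟩
  have hZC : Z ≤ C := by
    intro x hx
    rw [hZmem] at hx
    refine Subgroup.mem_inf.2 ⟨hx.1, ?_⟩
    rw [Subgroup.mem_centralizer_iff]
    intro y hy
    exact hx.2 y (hZ2S hy)
  -- elements of autGroup C preserve Z
  have hpres : ∀ α ∈ F.autGroup C, ∀ x : C, (x : Ω) ∈ Z → ((α x : C) : Ω) ∈ Z := by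
    rw [← h]
    intro α hα
    induction hα using Subgroup.closure_induction with
    | mem α hα =>
      intro x hx
      obtain ⟨Q, hCQ, ψ, hψ, hext⟩ := hα
      have hQS : Q = S := by
        have hQS := le_S hψ
        have e1 := Subgroup.relIndex_mul_relIndex C Q S hCQ.le hQS
        have e2 : C.relIndex S = p := hidx
        rw [e2] at e1
        have e3 : C.relIndex Q ∣ p := Dvd.intro _ e1
        rcases (Nat.dvd_prime hp.out).1 e3 with e4 | e4
        · rw [Subgroup.relIndex_eq_one] at e4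
          exact absurd e4 hCQ.not_ge
        · rw [e4] at e1
          have e5 : Q.relIndex S = 1 := Nat.eq_of_mul_eq_mul_left hp.out.pos (by rw [e1, mul_one])
          rw [Subgroup.relIndex_eq_one] at e5
          exact le_antisymm hQS e5
      subst hQS
      have hsurj : ∀ y ∈ Q, ∃ x, ψ x = y := by
        intro y hy
        have h1 := range_le hψ
        have h2 : ψ.range = Q := by
          apply Subgroup.eq_of_le_of_card_ge h1
          rw [← Nat.card_congr (MonoidHom.ofInjective (inj hψ)).toEquiv]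
        rw [← h2] at hy
        exact hy
      have h1 : ((α x : C) : Ω) = ψ ⟨x, hCQ.le x.2⟩ := (hext x).symm
      rw [h1, hZmem]
      refine ⟨mem_S hψ _, fun s hs => ?_⟩
      obtain ⟨t, rfl⟩ := hsurj s hs
      rw [← map_mul, ← map_mul]
      congr 1
      exact Subtype.ext (((hZmem _).1 hx).2 t t.2)
    | one => intro x hx; exact hx
    | mul α β _ _ h1 h2 => intro x hx; exact h1 _ (h2 x hx)
    | inv α _ h1 =>
      intro x hx
      -- finite: use cardinality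
      haveI : Finite C := finite_of_le hCS
      have hinj : Function.Injective (fun y : Z.subgroupOf C => (⟨α y, h1 y y.2⟩ : Z.subgroupOf C)) := by
        intro y y' hyy
        exact Subtype.ext (α.injective (congrArg Subtype.val hyy))
      obtain ⟨y, hy⟩ := (Finite.surjective_of_injective hinj) ⟨x, hx⟩
      have h2 : α y = x := congrArg Subtype.val hy
      have h3 : α⁻¹ x = y := by rw [← h2]; exact α.symm_apply_apply _
      rw [h3]; exact y.2
  -- extend φ
  obtain ⟨e, he, heφ⟩ := exists_iso hφ hφZ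
  have hle : C ⊔ Z2 ≤ extender S Z2 (Z2.subtype.comp e.toMonoidHom) := by
    refine sup_le ?_ (le_extender hZ2S fun x => hZ2S (e x).2)
    exact centralizerIn_le_extender S _
  obtain ⟨ψ, hψ, hψe⟩ := receptive_extend (sat_fn_receptive hS hF hZ2fn) he (le_sup_left.trans hle : C ≤ _)
  have hψZ2 : ∀ x (hx : x ∈ C ⊔ Z2), True := fun _ _ => trivial
  -- extension to C ⊔ Z2
  obtain ⟨χ, hχ, hχe⟩ := receptive_extend (sat_fn_receptive hS hF hZ2fn) he hle
  have hχC : ∀ x (hx : x ∈ C), χ ⟨x, (le_sup_left : C ≤ C ⊔ Z2) hx⟩ ∈ C := by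
    intro x hx
    have h1 := map_centralizer hχ (le_sup_right : Z2 ≤ C ⊔ Z2) (P := Z2) (fun y hy => by
      obtain ⟨x, hx⟩ := e.surjective ⟨y, hy⟩
      exact ⟨x, x.2, by rw [hχe x x.2 ((le_sup_right : Z2 ≤ C ⊔ Z2) x.2)]; exact congrArg Subtype.val hx⟩)
      (g := x) (show x ∈ centralizerIn S Z2 from hx) ((le_sup_left : C ≤ C ⊔ Z2) hx)
    exact h1
  haveI : Finite C := finite_of_le hCS
  let f : C →* C :=
    { toFun := fun x => ⟨χ ⟨x, (le_sup_left : C ≤ C ⊔ Z2) x.2⟩, hχC x x.2⟩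
      map_one' := Subtype.ext (map_one χ)
      map_mul' := fun x y => Subtype.ext (map_mul χ ⟨x, (le_sup_left : C ≤ C ⊔ Z2) x.2⟩ ⟨y, (le_sup_left : C ≤ C ⊔ Z2) y.2⟩) }
  have hfinj : Function.Injective f := by
    intro x y hxy
    have h1 : χ ⟨x, (le_sup_left : C ≤ C ⊔ Z2) x.2⟩ = χ ⟨y, (le_sup_left : C ≤ C ⊔ Z2) y.2⟩ := congrArg Subtype.val hxy
    have h2 := inj hχ h1
    exact Subtype.ext (congrArg (fun w : ↥(C ⊔ Z2) => (w : Ω)) h2)
  let α : MulAut C := MulEquiv.ofBijective f (Finite.injective_iff_bijective.1 hfinj)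
  have hα : α ∈ F.autGroup C :=
    aut_mem_of_hom (restrict_mem hχ (le_sup_left : C ≤ C ⊔ Z2)) fun x => rfl
  have h1 := hpres α hα ⟨z, hZC hzZ⟩ hzZ
  apply hmove
  have h2 : ((α ⟨z, hZC hzZ⟩ : C) : Ω) = χ ⟨z, (le_sup_left : C ≤ C ⊔ Z2) (hZC hzZ)⟩ := rfl
  rw [h2] at h1
  have h3 := hχe z hz ((le_sup_left : C ≤ C ⊔ Z2) (hZC hzZ))
  rw [h3] at h1
  rwa [← heφ ⟨z, hz⟩]

end CfsgLib.Fus21
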