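import Cfsg.Agent.LibFus21Cst
import Cfsg.Agent.LibFus21Uniq

set_option autoImplicit false

/-! Subgroups fully normalized in `F` and subsystems; centric subgroups with non-centric intersection. -/

namespace CfsgLib.Fus21

open Cfsg Cfsg.FusionSystem

variable {Ω : Type*} [Group Ω] {S T : Subgroup Ω}

theorem fn_sub [Finite S] {p : ℕ} [hp : Fact p.Prime] (hS : IsPGroup p S) {F : FusionSystem S} (hF : F.IsSaturated p)
    {E : FusionSystem T} (hEF : E.IsSubsystemOf F) (hT : F.StronglyClosed T) {P : Subgroup Ω} (hPT : P ≤ T)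
    (hP : F.IsFullyNormalized P) : E.IsFullyNormalized P := by
  refine ⟨hPT, fun Q hQ => ?_⟩
  have hQF : F.IsConj Q P := conj_symm (by
    obtain ⟨φ, hφ, hr⟩ := hQ
    exact ⟨φ, hEF _ hφ, hr⟩)
  obtain ⟨φ, hφ, e, he, hφe, hφN⟩ := exists_map_normalizer hS (sat_fn hS hF hP).2 (sat_fn_receptive hS hF hP) hQF
  haveI : Finite S := inferInstance
  haveI : Finite T := finite_of_le hT.1
  haveI : Finite (normalizerIn T P) := finite_of_le (normalizerIn_le T P)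
  have hle : normalizerIn T Q ≤ normalizerIn S Q := inf_le_inf_right _ hT.1
  refine Nat.card_le_card_of_injective (fun x : normalizerIn T Q => (⟨φ ⟨x, hle x.2⟩, ?_, (hφN ⟨x, hle x.2⟩).2⟩ : normalizerIn T P)) ?_
  · exact (stronglyClosed_mem_iff hT hφ ⟨x, hle x.2⟩).2 x.2.1
  · intro x y hxy
    have h1 : φ ⟨x, hle x.2⟩ = φ ⟨y, hle y.2⟩ := congrArg Subtype.val hxy
    have h2 := inj hφ h1
    exact Subtype.ext (congrArg (fun z : normalizerIn S Q => (z : Ω)) h2)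

/-- automorphisms of `P` trivial on `P ∩ T` and modulo `T` -/
theorem two_layer [Finite S] {p : ℕ} [hp : Fact p.Prime] (hS : IsPGroup p S) {F : FusionSystem S} {P : Subgroup Ω} (hPS : P ≤ S)
    (hT : F.StronglyClosed T) : ∃ B : Subgroup (MulAut P), B ≤ F.autGroup P ∧ IsPGroup p B ∧
      (∀ a ∈ F.autGroup P, ∀ b ∈ B, a * b * a⁻¹ ∈ B) ∧
      ∀ β, β ∈ B ↔ β ∈ F.autGroup P ∧ (∀ y : P, (y : Ω) ∈ T → β y = y) ∧ ∀ y : P, (y : Ω)⁻¹ * ((β y : P) : Ω) ∈ T := by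
  haveI : Finite P := finite_of_le hPS
  let B : Subgroup (MulAut P) :=
    { carrier := {β | β ∈ F.autGroup P ∧ (∀ y : P, (y : Ω) ∈ T → β y = y) ∧ ∀ y : P, (y : Ω)⁻¹ * ((β y : P) : Ω) ∈ T}
      one_mem' := ⟨Subgroup.one_mem _, fun y _ => rfl, fun y => by
        show (y : Ω)⁻¹ * (y : Ω) ∈ T
        rw [inv_mul_cancel]; exact T.one_mem⟩
      mul_mem' := by
        rintro β γ ⟨h1, h2, h3⟩ ⟨h4, h5, h6⟩
        refine ⟨Subgroup.mul_mem _ h1 h4, fun y hy => ?_, fun y => ?_⟩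
        · rw [MulAut.mul_apply, h5 y hy, h2 y hy]
        · have e : (y : Ω)⁻¹ * (((β * γ) y : P) : Ω) = ((y : Ω)⁻¹ * ((γ y : P) : Ω)) * (((γ y : P) : Ω)⁻¹ * ((β (γ y) : P) : Ω)) := by
            rw [MulAut.mul_apply]; group
          rw [e]; exact T.mul_mem (h6 y) (h3 _)
      inv_mem' := by
        rintro β ⟨h1, h2, h3⟩
        refine ⟨Subgroup.inv_mem _ h1, fun y hy => ?_, fun y => ?_⟩
        · have h4 := h2 y hy
          conv_lhs => rw [← h4]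
          rw [MulAut.inv_apply_self]
        · have h4 := T.inv_mem (h3 (β⁻¹ y))
          rw [MulAut.apply_inv_self, mul_inv_rev, inv_inv] at h4
          exact h4 }
  refine ⟨B, fun β hβ => hβ.1, ?_, ?_, fun β => Iff.rfl⟩
  · rintro ⟨β, hβ⟩
    obtain ⟨k, hk⟩ := pow_p_of_two_chain (hS.to_le hPS) (α := β) (T.subgroupOf P) (fun y hy => hβ.2.1 y hy)
      (fun y => hβ.2.2 y)
    exact ⟨k, Subtype.ext hk⟩
  · rintro a ha b ⟨h1, h2, h3⟩
    refine ⟨Subgroup.mul_mem _ (Subgroup.mul_mem _ ha h1) (Subgroup.inv_mem _ ha), fun y hy => ?_, fun y => ?_⟩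
    · have h4 := (stronglyClosed_aut hT hPS (Subgroup.inv_mem _ ha) y).2 hy
      rw [MulAut.mul_apply, MulAut.mul_apply, h2 _ h4, MulAut.apply_inv_self]
    · have h4 := (stronglyClosed_aut hT hPS ha ((a⁻¹ y)⁻¹ * b (a⁻¹ y))).2 (h3 (a⁻¹ y))
      rw [map_mul, map_inv, MulAut.apply_inv_self] at h4
      exact h4

theorem noncentric_inf [Finite S] {p : ℕ} [hp : Fact p.Prime] (hS : IsPGroup p S) {F : FusionSystem S} (hF : F.IsSaturated p)
    {E : FusionSystem T} (hEF : E.IsSubsystemOf F) (hT : F.StronglyClosed T) {P : Subgroup Ω} (hP : F.IsCentric P)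
    (hPT : ¬ E.IsCentric (P ⊓ T)) :
    ∃ φ ∈ F.Hom P, ∃ x ∈ S ⊓ Subgroup.normalizer (φ.range : Set Ω), x ∉ φ.range ∧
      ∃ α : MulAut φ.range, α ∈ F.autGroup φ.range ∧ (∀ y : φ.range, ((α y : φ.range) : Ω) = x * (y : Ω) * x⁻¹) ∧
        (∀ y : φ.range, (y : Ω) ∈ T → α y = y) ∧ ∀ y : φ.range, (y : Ω)⁻¹ * ((α y : φ.range) : Ω) ∈ T := by
  have hPS := hP.1
  have hTS := hT.1
  have hTn := stronglyClosed_normal_S hT
  set P₀ := P ⊓ T with hP₀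
  have hP₀S : P₀ ≤ S := inf_le_left.trans hPS
  obtain ⟨Q₀, hQ₀c, hQ₀⟩ := exists_fullyNormalized F hP₀S
  have hQ₀S := hQ₀.1
  have hFA := (sat_fn hS hF hQ₀).2
  have hRe := sat_fn_receptive hS hF hQ₀
  obtain ⟨θ, hθ, e₀, he₀, hθe, hθN⟩ := exists_map_normalizer hS hFA hRe hQ₀c
  have hPN : P ≤ normalizerIn S P₀ := by
    intro x hx
    refine ⟨hPS hx, ?_⟩
    show x ∈ Subgroup.normalizer (P₀ : Set Ω)
    rw [Subgroup.mem_normalizer_iff]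
    intro y
    constructor
    · rintro ⟨h1, h2⟩
      exact ⟨P.mul_mem (P.mul_mem hx h1) (P.inv_mem hx), (Subgroup.mem_normalizer_iff.1 (hTn (hPS hx)) y).1 h2⟩
    · rintro ⟨h1, h2⟩
      refine ⟨?_, (Subgroup.mem_normalizer_iff.1 (hTn (hPS hx)) y).2 h2⟩
      have : y = x⁻¹ * (x * y * x⁻¹) * x := by group
      rw [this]; exact P.mul_mem (P.mul_mem (P.inv_mem hx) h1) hx
  have hφ := restrict_mem hθ hPN
  set φ := θ.comp (Subgroup.inclusion hPN) with hφdef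
  have hφv : ∀ x (hx : x ∈ P), φ ⟨x, hx⟩ = θ ⟨x, hPN hx⟩ := fun _ _ => rfl
  set P' := φ.range with hP'
  have hP'S : P' ≤ S := by rintro _ ⟨x, rfl⟩; exact mem_S hφ x
  have hinf : ∀ y, y ∈ P' → y ∈ T → y ∈ Q₀ := by
    rintro _ ⟨x, rfl⟩ hx
    have h1 : (x : Ω) ∈ T := (stronglyClosed_mem_iff hT hφ x).1 hx
    have h2 : (x : Ω) ∈ P₀ := ⟨x.2, h1⟩
    have h3 : φ x = e₀ ⟨x, h2⟩ := hθe ⟨x, h2⟩ _
    rw [h3]; exact (e₀ _).2
  have hQ₀P' : Q₀ ≤ P' := by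
    intro y hy
    refine ⟨⟨(e₀.symm ⟨y, hy⟩ : P₀), (e₀.symm ⟨y, hy⟩).2.1⟩, ?_⟩
    have h3 := hθe (e₀.symm ⟨y, hy⟩) (hPN (e₀.symm ⟨y, hy⟩).2.1)
    rw [hφv, h3, MulEquiv.apply_symm_apply]
  have hQ₀T : Q₀ ≤ T := by
    intro y hy
    have h3 := hθe (e₀.symm ⟨y, hy⟩) (hPN (e₀.symm ⟨y, hy⟩).2.1)
    have h4 := (stronglyClosed_mem_iff hT hθ ⟨_, hPN (e₀.symm ⟨y, hy⟩).2.1⟩).2 (e₀.symm ⟨y, hy⟩).2.2
    rw [h3, MulEquiv.apply_symm_apply] at h4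
    exact h4
  -- the centralizer in T of Q₀
  have hC : ¬ centralizerIn T Q₀ ≤ P' := by
    intro hle
    apply hPT
    refine ⟨inf_le_right, fun Q₁ hQ₁ => ?_⟩
    have hQ₁F : F.IsConj Q₁ Q₀ := by
      obtain ⟨φ, hφ, hr⟩ := hQ₁
      exact conj_trans (conj_symm ⟨φ, hEF _ hφ, hr⟩) hQ₀c
    obtain ⟨ψ, hψ, e₁, he₁, hψe, hψN⟩ := exists_map_normalizer hS hFA hRe hQ₁F
    intro c hc
    have hcT : c ∈ T := hc.1
    have hcN : c ∈ normalizerIn S Q₁ := centralizerIn_le_normalizerIn S Q₁ ⟨hTS hc.1, hc.2⟩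
    have hd : ψ ⟨c, hcN⟩ ∈ centralizerIn T Q₀ := by
      refine ⟨(stronglyClosed_mem_iff hT hψ ⟨c, hcN⟩).2 hcT, ?_⟩
      show _ ∈ Subgroup.centralizer (Q₀ : Set Ω)
      rw [Subgroup.mem_centralizer_iff]
      intro y hy
      have hqN : ((e₁.symm ⟨y, hy⟩ : Q₁) : Ω) ∈ normalizerIn S Q₁ := le_normalizerIn (iso_le_left he₁) (e₁.symm ⟨y, hy⟩).2
      have h3 : ψ ⟨_, hqN⟩ = y := by rw [hψe (e₁.symm ⟨y, hy⟩) hqN, MulEquiv.apply_symm_apply]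
      rw [← h3, ← map_mul, ← map_mul]
      congr 1
      exact Subtype.ext (Subgroup.mem_centralizer_iff.1 hc.2 _ (e₁.symm ⟨y, hy⟩).2)
    have hdQ : ψ ⟨c, hcN⟩ ∈ Q₀ := hinf _ (hle hd) hd.1
    have hqN : ((e₁.symm ⟨_, hdQ⟩ : Q₁) : Ω) ∈ normalizerIn S Q₁ := le_normalizerIn (iso_le_left he₁) (e₁.symm ⟨_, hdQ⟩).2
    have h3 : ψ ⟨_, hqN⟩ = ψ ⟨c, hcN⟩ := by rw [hψe (e₁.symm ⟨_, hdQ⟩) hqN, MulEquiv.apply_symm_apply]
    have h4 := congrArg Subtype.val (inj hψ h3)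
    have h5 : ((e₁.symm ⟨_, hdQ⟩ : Q₁) : Ω) = c := h4
    rw [← h5]; exact (e₁.symm ⟨_, hdQ⟩).2
  -- a normalizing element
  have hP'C : P' ≤ Subgroup.normalizer ((centralizerIn T Q₀ : Subgroup Ω) : Set Ω) := by
    have key : ∀ u ∈ P', ∀ c ∈ centralizerIn T Q₀, u * c * u⁻¹ ∈ centralizerIn T Q₀ := by
      intro u hu c hc
      refine ⟨(Subgroup.mem_normalizer_iff.1 (hTn (hP'S hu)) c).1 hc.1, ?_⟩
      show _ ∈ Subgroup.centralizer (Q₀ : Set Ω)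
      rw [Subgroup.mem_centralizer_iff]
      intro y hy
      have h1 : u⁻¹ * y * u ∈ Q₀ := by
        refine hinf _ (P'.mul_mem (P'.mul_mem (P'.inv_mem hu) (hQ₀P' hy)) hu) ?_
        have := (Subgroup.mem_normalizer_iff.1 (hTn (hP'S (P'.inv_mem hu))) y).1 (hQ₀T hy)
        rwa [inv_inv] at this
      have h2 := Subgroup.mem_centralizer_iff.1 hc.2 _ h1
      calc y * (u * c * u⁻¹) = u * ((u⁻¹ * y * u) * c) * u⁻¹ := by group
        _ = u * (c * (u⁻¹ * y * u)) * u⁻¹ := by rw [h2]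
        _ = u * c * u⁻¹ * y := by group
    intro u hu
    rw [Subgroup.mem_normalizer_iff]
    intro c
    refine ⟨key u hu c, fun h => ?_⟩
    have := key u⁻¹ (P'.inv_mem hu) _ h
    have e : u⁻¹ * (u * c * u⁻¹) * u⁻¹⁻¹ = c := by group
    rwa [e] at this
  have hex : ∃ g ∈ centralizerIn T Q₀, g ∈ Subgroup.normalizer (P' : Set Ω) ∧ g ∉ P' := by
    by_contra hne
    push Not at hne
    exact hC (le_of_normalizer_le hS hP'S ((centralizerIn_le T Q₀).trans hTS) hP'C hne)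
  obtain ⟨g, hgC, hgN, hgP⟩ := hex
  have hgT : g ∈ T := hgC.1
  have hgS : g ∈ S := hTS hgT
  obtain ⟨α, hα⟩ := exists_conjAut hgN
  refine ⟨φ, hφ, g, ⟨hgS, hgN⟩, hgP, α, autInducedBy_le_autGroup F hP'S (mem_autInducedBy.2 ⟨g, hgS, hα⟩), hα, fun y hy => ?_, fun y => ?_⟩
  · apply Subtype.ext
    rw [hα, mul_inv_eq_iff_eq_mul]
    exact (Subgroup.mem_centralizer_iff.1 hgC.2 _ (hinf y y.2 hy)).symm
  · rw [hα]
    have e : (y : Ω)⁻¹ * (g * (y : Ω) * g⁻¹) = ((y : Ω)⁻¹ * g * (y : Ω)⁻¹⁻¹) * g⁻¹ := by group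
    rw [e]
    exact T.mul_mem ((Subgroup.mem_normalizer_iff.1 (hTn (hP'S (P'.inv_mem y.2))) g).1 hgT) (T.inv_mem hgT)

theorem noncentric_inf_radical [Finite S] {p : ℕ} [hp : Fact p.Prime] (hS : IsPGroup p S) {F : FusionSystem S} (hF : F.IsSaturated p)
    {E : FusionSystem T} (hEF : E.IsSubsystemOf F) (hT : F.StronglyClosed T) {P : Subgroup Ω} (hP : F.IsCentric P)
    (hPT : ¬ E.IsCentric (P ⊓ T)) :
    (∃ φ ∈ F.Hom P, ∃ x ∈ S ⊓ Subgroup.normalizer (φ.range : Set Ω), x ∉ φ.range ∧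
      ∃ α ∈ ((Cfsg.pCore p ↥(F.autGroup φ.range)).map (F.autGroup φ.range).subtype : Subgroup (MulAut ↥φ.range)),
        ∀ y : ↥φ.range, ((α y : ↥φ.range) : Ω) = x * (y : Ω) * x⁻¹) ∧ ¬ F.IsRadical p P := by
  obtain ⟨φ, hφ, x, hx, hxn, α, hαF, hα, hα1, hα2⟩ := noncentric_inf hS hF hEF hT hP hPT
  have hP'S : φ.range ≤ S := by rintro _ ⟨x, rfl⟩; exact mem_S hφ x
  refine ⟨⟨φ, hφ, x, hx, hxn, α, ?_, hα⟩, fun hR => hxn ?_⟩
  · obtain ⟨B, hBA, hBp, hBn, hB⟩ := two_layer hS hP'S hT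
    exact le_pCore_sub hBA hBp hBn ((hB α).2 ⟨hαF, hα1, hα2⟩)
  · obtain ⟨e, he, hev⟩ := exists_iso hφ rfl
    obtain ⟨B, hBA, hBp, hBn, hB⟩ := two_layer hS hP.1 hT
    let β : MulAut P := (e.trans α).trans e.symm
    have hβv : ∀ y : P, e (β y) = α (e y) := fun y => by
      show e (e.symm (α (e y))) = _
      rw [MulEquiv.apply_symm_apply]
    have hβF : β ∈ F.autGroup P := by
      have h1 : e.symm ∈ Iso F φ.range P := iso_symm he
      have h2 : α ∈ Iso F φ.range φ.range := (mem_autGroup hP'S).1 hαF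
      exact (mem_autGroup hP.1).2 (iso_trans (iso_trans he h2) h1)
    have hmem : ∀ y : P, ((e y : φ.range) : Ω) ∈ T ↔ (y : Ω) ∈ T := fun y => by
      rw [hev]; exact stronglyClosed_mem_iff hT hφ y
    have hβB : β ∈ B := by
      refine (hB β).2 ⟨hβF, fun y hy => ?_, fun y => ?_⟩
      · apply e.injective
        rw [hβv, hα1 _ ((hmem y).2 hy)]
      · have h1 := hα2 (e y)
        rw [← hβv] at h1
        have h2 : ((e (y⁻¹ * β y) : φ.range) : Ω) ∈ T := by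
          rw [map_mul, map_inv]; exact h1
        exact (hmem _).1 h2
    obtain ⟨u, hu, huv⟩ := mem_Inn.1 (radical_le hR hBA hBp hBn hβB)
    -- `α` is conjugation by `e u`
    refine mem_of_conjAut_inner (centric_conj ⟨φ, hφ, rfl⟩ hP) hx.1 hα (mem_Inn.2 ⟨(e ⟨u, hu⟩ : φ.range), (e ⟨u, hu⟩).2, fun y => ?_⟩)
    obtain ⟨z, rfl⟩ := e.surjective y
    rw [← hβv]
    have h3 : β z = ⟨u, hu⟩ * z * ⟨u, hu⟩⁻¹ := Subtype.ext (huv z)
    rw [h3, map_mul, map_mul, map_inv]; rfl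

end CfsgLib.Fus21
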