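import Cfsg.Agent.LibFus21Gr1
import Cfsg.Agent.LibFus21Ctl2
import Cfsg.Agent.LibFus21CtlE

set_option autoImplicit false

/-! The norm map, and the centre as a direct factor of `Z(S)`. -/

namespace CfsgLib.Fus21

open Cfsg Cfsg.FusionSystem

theorem exists_norm {Γ V : Type*} [Group Γ] [Finite Γ] [CommGroup V] (act : Γ →* MulAut V) (P : Subgroup Γ) :
    ∃ N : V →* V, (∀ v, (∀ g ∈ P, act g v = v) → ∀ g, act g (N v) = N v) ∧ ∀ v, (∀ g, act g v = v) → N v = v ^ P.index := by
  classical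
  letI : Fintype (Γ ⧸ P) := Fintype.ofFinite _
  refine ⟨{ toFun := fun v => ∏ q : Γ ⧸ P, act q.out v
            map_one' := by simp
            map_mul' := fun a b => by simp [Finset.prod_mul_distrib] }, ?_, ?_⟩
  · intro v hv g
    show act g (∏ q : Γ ⧸ P, act q.out v) = ∏ q : Γ ⧸ P, act q.out v
    rw [map_prod]
    refine Fintype.prod_equiv (MulAction.toPerm g) _ _ fun q => ?_
    show act g (act q.out v) = act (g • q).out v
    obtain ⟨h, hh⟩ := QuotientGroup.mk_out_eq_mul P (g * q.out)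
    have e : (g • q) = ((g * q.out : Γ) : Γ ⧸ P) := by
      conv_lhs => rw [← QuotientGroup.out_eq' q]
      rfl
    rw [e, hh, map_mul, map_mul, MulAut.mul_apply, MulAut.mul_apply, hv h h.2]
  · intro v hv
    show ∏ q : Γ ⧸ P, act q.out v = v ^ P.index
    rw [Finset.prod_congr rfl (fun q _ => hv q.out), Finset.prod_const, Finset.card_univ, ← Nat.card_eq_fintype_card]
    rfl

variable {Ω : Type*} [Group Ω] {S : Subgroup Ω}

/-- restriction to the centre -/
def centerRes (Q : Type*) [Group Q] : MulAut Q →* MulAut (Subgroup.center Q) where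
  toFun a :=
    { toFun := fun z => ⟨a z, by
        rw [Subgroup.mem_center_iff]
        intro g
        have := Subgroup.mem_center_iff.1 z.2 (a.symm g)
        have h2 := congrArg a this
        rw [map_mul, map_mul, MulEquiv.apply_symm_apply] at h2
        exact h2⟩
      invFun := fun z => ⟨a.symm z, by
        rw [Subgroup.mem_center_iff]
        intro g
        have := Subgroup.mem_center_iff.1 z.2 (a g)
        have h2 := congrArg a.symm this
        rw [map_mul, map_mul, MulEquiv.symm_apply_apply] at h2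
        exact h2⟩
      left_inv := fun z => Subtype.ext (a.symm_apply_apply z)
      right_inv := fun z => Subtype.ext (a.apply_symm_apply z)
      map_mul' := fun x y => Subtype.ext (map_mul a x.1 y.1) }
  map_one' := by ext z; rfl
  map_mul' a b := by ext z; rfl

theorem center_factor [Finite S] {p : ℕ} [hp : Fact p.Prime] (hS : IsPGroup p S) {F : FusionSystem S}
    (hF : F.IsSaturated p) (hZ : (S ⊓ Subgroup.centralizer (S : Set Ω)) ≤ F.core) :
    ∃ K : Subgroup Ω, K ≤ (S ⊓ Subgroup.centralizer (S : Set Ω)) ∧ F.center ⊓ K = ⊥ ∧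
      F.center ⊔ K = (S ⊓ Subgroup.centralizer (S : Set Ω)) := by
  set V := S ⊓ Subgroup.centralizer (S : Set Ω) with hV
  set Q := F.core with hQdef
  have hQn : F.IsNormal Q := isNormal_core F
  have hQS := hQn.1
  haveI : Finite Q := finite_of_le hQS
  haveI : Finite (F.autGroup Q) := finite_autGroup F hQS
  have hVS : V ≤ S := inf_le_left
  have hVc : ∀ v ∈ V, ∀ s ∈ S, s * v = v * s := fun v hv s hs => Subgroup.mem_centralizer_iff.1 hv.2 s hs
  -- Sylow
  have hQfn : F.IsFullyNormalized Q := fn_of_normal hQn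
  have hQa := ((fullyAutomized_iff hS).1 (sat_fn hS hF hQfn).2).2
  set PA := (autInducedBy S Q).subgroupOf (F.autGroup Q) with hPA
  have hidx : PA.index.Coprime p := by
    rw [hPA]
    exact ((hp.out.coprime_iff_not_dvd).2 hQa).symm
  letI : CommGroup (Subgroup.center Q) :=
    { (inferInstance : Group (Subgroup.center Q)) with
      mul_comm := fun a b => Subtype.ext (Subgroup.mem_center_iff.1 b.2 a) }
  let act : F.autGroup Q →* MulAut (Subgroup.center Q) := (centerRes Q).comp (F.autGroup Q).subtype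
  obtain ⟨N, hN1, hN2⟩ := exists_norm (V := Subgroup.center Q) act PA
  have hact : ∀ (g : F.autGroup Q) (v : Subgroup.center Q), ((act g v : Subgroup.center Q) : Q) = (g : MulAut Q) v := fun g v => rfl
  -- elements of V as elements of the centre
  have hVQ : ∀ v ∈ V, ∃ w : Subgroup.center Q, ((w : Q) : Ω) = v ∧ ∀ g ∈ PA, act g w = w := by
    intro v hv
    refine ⟨⟨⟨v, hZ hv⟩, ?_⟩, rfl, ?_⟩
    · rw [Subgroup.mem_center_iff]
      intro g
      exact Subtype.ext (hVc v hv g (hQS g.2))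
    · intro g hg
      obtain ⟨s, hs, h⟩ := mem_autInducedBy.1 hg
      apply Subtype.ext
      apply Subtype.ext
      rw [hact]
      refine (h ⟨v, hZ hv⟩).trans ?_
      show s * v * s⁻¹ = v
      rw [hVc v hv s hs, mul_inv_cancel_right]
  have hfixS : ∀ w : Subgroup.center Q, (∀ g ∈ PA, act g w = w) → ((w : Q) : Ω) ∈ V := by
    intro w hw
    refine ⟨hQS (w : Q).2, ?_⟩
    show ((w : Q) : Ω) ∈ Subgroup.centralizer (S : Set Ω)
    rw [Subgroup.mem_centralizer_iff]
    intro s hs
    obtain ⟨γ, hγ⟩ := exists_conjAut (P := Q) (S_le_normalizer hQn hs)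
    have hγA : γ ∈ F.autGroup Q := autInducedBy_le_autGroup F hQS (mem_autInducedBy.2 ⟨s, hs, hγ⟩)
    have h1 := hw ⟨γ, hγA⟩ (mem_autInducedBy.2 ⟨s, hs, hγ⟩)
    have h2 : ((γ (w : Q) : Q) : Ω) = (w : Q) := congrArg (fun z : Subgroup.center Q => ((z : Q) : Ω)) h1
    rw [hγ] at h2
    exact mul_inv_eq_iff_eq_mul.1 h2
  have hCle : F.center ≤ V := by
    have hc := isCentral_center F
    intro z hz
    refine ⟨hc.1 hz, ?_⟩
    show z ∈ Subgroup.centralizer (S : Set Ω)
    rw [Subgroup.mem_centralizer_iff]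
    intro s hs
    have h1 := central_fixed hc (F.conj_mem le_rfl hs) (hc.1 hz) hz
    exact mul_inv_eq_iff_eq_mul.1 h1
  have hCfix : ∀ w : Subgroup.center Q, ((w : Q) : Ω) ∈ F.center → ∀ g, act g w = w := by
    intro w hw g
    apply Subtype.ext
    apply Subtype.ext
    rw [hact]
    exact central_fixed (isCentral_center F) ((mem_autGroup hQS).1 g.2) (w : Q).2 hw
  have hfixC : ∀ w : Subgroup.center Q, (∀ g, act g w = w) → ((w : Q) : Ω) ∈ F.center := by
    intro w hw
    have hle : Subgroup.zpowers ((w : Q) : Ω) ≤ F.center := by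
      refine le_center_of_fix hS hF (by rw [Subgroup.zpowers_le]; exact hQS (w : Q).2) fun P φ hφ x hx hxw => ?_
      obtain ⟨k, rfl⟩ := Subgroup.mem_zpowers_iff.1 hxw
      obtain ⟨ψ, hψ, h3, κ, h4⟩ := normal_aut hQn hφ
      have hxQ : ((w : Q) : Ω) ^ k ∈ Q := Q.zpow_mem (w : Q).2 k
      have hκA : κ ∈ F.autGroup Q := by
        rw [mem_autGroup hQS]
        exact restrict_mem' hψ le_sup_right (fun x => (h4 x x.2).symm)
      have h5 := congrArg (fun z : Subgroup.center Q => ((z : Q) : Ω)) (hw ⟨κ, hκA⟩)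
      have h6 : ((κ (w : Q) : Q) : Ω) = (w : Q) := h5
      have h7 := h3 _ hx
      rw [← h7]
      have h8 := h4 _ hxQ
      rw [show (⟨((w : Q) : Ω) ^ k, _⟩ : ↥(P ⊔ Q)) = ⟨((w : Q) : Ω) ^ k, Subgroup.mem_sup_right hxQ⟩ from rfl, h8]
      have h9 : (⟨((w : Q) : Ω) ^ k, hxQ⟩ : Q) = (w : Q) ^ k := Subtype.ext (by simp)
      rw [h9, map_zpow, Subgroup.coe_zpow, h6]
    exact hle (Subgroup.mem_zpowers _)
  let K : Subgroup Ω :=
    { carrier := {x | ∃ w : Subgroup.center Q, ((w : Q) : Ω) = x ∧ (∀ g ∈ PA, act g w = w) ∧ N w = 1}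
      one_mem' := ⟨1, rfl, fun g _ => map_one _, map_one _⟩
      mul_mem' := by
        rintro a b ⟨v, rfl, h1, h2⟩ ⟨w, rfl, h3, h4⟩
        exact ⟨v * w, rfl, fun g hg => by rw [map_mul, h1 g hg, h3 g hg], by rw [map_mul, h2, h4, one_mul]⟩
      inv_mem' := by
        rintro a ⟨v, rfl, h1, h2⟩
        exact ⟨v⁻¹, rfl, fun g hg => by rw [map_inv, h1 g hg], by rw [map_inv, h2, inv_one]⟩ }
  have hord : ∀ w : Subgroup.center Q, ∃ k : ℕ, w ^ p ^ k = 1 := by
    intro w
    obtain ⟨k, hk⟩ := (hS.to_le hQS) (w : Q)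
    exact ⟨k, Subtype.ext hk⟩
  refine ⟨K, ?_, ?_, ?_⟩
  · rintro _ ⟨w, rfl, h1, -⟩
    exact hfixS w h1
  · rw [eq_bot_iff]
    rintro _ ⟨hx, ⟨w, rfl, h1, h2⟩⟩
    rw [hN2 w (hCfix w hx)] at h2
    obtain ⟨k, hk⟩ := hord w
    have h3 := orderOf_dvd_of_pow_eq_one h2
    have h4 := orderOf_dvd_of_pow_eq_one hk
    have h5 := Nat.eq_one_of_dvd_coprimes (Nat.Coprime.pow_left k hidx.symm) h4 h3
    rw [orderOf_eq_one_iff] at h5
    rw [h5]; rfl
  · apply le_antisymm
    · refine sup_le hCle ?_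
      rintro _ ⟨w, rfl, h1, -⟩
      exact hfixS w h1
    · intro v hv
      obtain ⟨w, rfl, hw⟩ := hVQ v hv
      have h1 := hN1 w hw
      have h2 := hfixC _ h1
      obtain ⟨k, hk⟩ := hord (N w)
      obtain ⟨j, hj⟩ := exists_pow_eq_self_of_coprime (x := N w) (n := PA.index) (by
        obtain ⟨i, -, hi⟩ := (Nat.dvd_prime_pow hp.out).1 (orderOf_dvd_of_pow_eq_one hk)
        rw [hi]; exact Nat.Coprime.pow_right i hidx)
      -- z = (N w)^j, z^e = N w
      set z := N w ^ j with hz
      have hze : z ^ PA.index = N w := by rw [hz, ← pow_mul, mul_comm, pow_mul]; exact hj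
      have hzfix : ∀ g, act g z = z := fun g => by rw [hz, map_pow, h1 g]
      have e : ((w : Q) : Ω) = ((z : Q) : Ω) * (((w * z⁻¹ : Subgroup.center Q) : Q) : Ω) := by
        have : w = z * (w * z⁻¹) := by rw [mul_comm w, mul_inv_cancel_left]
        exact congrArg (fun z : Subgroup.center Q => ((z : Q) : Ω)) this
      rw [e]
      refine Subgroup.mul_mem _ (Subgroup.mem_sup_left (hfixC z hzfix)) (Subgroup.mem_sup_right ⟨w * z⁻¹, rfl, ?_, ?_⟩)
      · intro g hg
        rw [map_mul, map_inv, hw g hg, hzfix g]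
      · rw [map_mul, map_inv, hN2 z hzfix, hze, mul_inv_cancel]

end CfsgLib.Fus21
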