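import Cfsg.Agent.LibFus21Slv
import Cfsg.Agent.LibFus21Det
import Cfsg.Agent.LibLE7

set_option autoImplicit false

/-! Normality of strongly closed subgroups through `Ω₁` (odd primes). -/

namespace CfsgLib.Fus21

open Cfsg Cfsg.FusionSystem
open scoped commutatorElement

universe v
variable {Ω : Type v} [Group Ω] {S : Subgroup Ω}

theorem normal_of_omega_chain [Finite S] {p : ℕ} [hp : Fact p.Prime] (hS : IsPGroup p S) {F : FusionSystem S} (hF : F.IsSaturated p)
    (hp2 : p ≠ 2) {P : Subgroup Ω} (hP : F.StronglyClosed P) {c : ℕ → Subgroup Ω} (hc0 : c 0 = ⊥) {n : ℕ} (hcn : c n = omegaOne p P)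
    (hcm : Monotone c) (hsc : ∀ i, F.StronglyClosed (c i)) (hcc : ∀ i, ∀ g ∈ P, ∀ x ∈ c (i + 1), x⁻¹ * (g * x * g⁻¹) ∈ c i) :
    F.IsNormal P := by
  have hPn := stronglyClosed_normal_S hP
  refine isNormal_of_radical hS hF hP fun R hR => ?_
  have hRS := hR.1.1
  haveI : Finite R := finite_of_le hRS
  haveI : Finite (F.autGroup R) := finite_autGroup F hRS
  have hinv : ∀ {Q : Subgroup Ω}, F.StronglyClosed Q → ∀ α ∈ F.autGroup R, ∀ x : R, (x : Ω) ∈ Q → ((α x : R) : Ω) ∈ Q :=
    fun hQ α hα x hx => (stronglyClosed_aut hQ hRS hα x).2 hx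
  have hcj : ∀ {Q : Subgroup Ω}, F.StronglyClosed Q → ∀ x ∈ R, ∀ y ∈ Q, x * y * x⁻¹ ∈ Q := fun hQ x hx y hy =>
    (Subgroup.mem_normalizer_iff.1 (stronglyClosed_normal_S hQ (hRS hx)) y).1 hy
  let c₁ : ℕ → Subgroup R := fun i => (c i).subgroupOf R
  let c₂ : ℕ → Subgroup R := fun i => if i = 0 then P.subgroupOf R else ⊤
  set B₁ := chainStab (F.autGroup R) c₁ (fun i j hij => Subgroup.comap_mono (hcm hij)) (fun α hα i x hx => hinv (hsc i) α hα x hx)
    (fun i x _ y hy => hcj (hsc i) x x.2 y hy) with hB₁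
  have hm₂ : Monotone c₂ := by
    refine monotone_nat_of_le_succ fun i => ?_
    rcases i with _ | i <;> simp [c₂]
  set B₂ := chainStab (F.autGroup R) c₂ hm₂ (fun α hα i x hx => by
      rcases i with _ | i
      · exact hinv hP α hα x hx
      · simp [c₂])
    (fun i x _ y hy => by
      rcases i with _ | i
      · exact hcj hP x x.2 y hy
      · simp [c₂]) with hB₂
  refine le_of_radical hS hR.1 (essential_radical hS hR) hP.1 (hRS.trans hPn) (B := B₁ ⊓ B₂) (fun α hα => hα.1.1) ?_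
    (fun a ha b hb => ⟨chainStab_conj a ha b hb.1, chainStab_conj a ha b hb.2⟩) ?_
  · rintro ⟨β, hβ⟩
    obtain ⟨a, m, hm, hβm⟩ := exists_ppow (p := p) (⟨β, hβ.1.1⟩ : F.autGroup R)
    have hβm' : (β ^ p ^ a) ^ m = 1 := congrArg Subtype.val hβm
    have hγB : β ^ p ^ a ∈ B₁ ⊓ B₂ := Subgroup.pow_mem _ hβ _
    refine ⟨a, Subtype.ext ?_⟩
    show β ^ p ^ a = 1
    set γ := β ^ p ^ a with hγ
    obtain ⟨⟨hγA, hγ1⟩, -, hγ2⟩ := hγB
    -- trivial on Ω₁(P) ∩ R
    have hOm : F.StronglyClosed (omegaOne p P) := hcn ▸ hsc n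
    have hfix : ∀ x : R, (x : Ω) ∈ R ⊓ omegaOne p P → γ x = x := by
      refine chain_trivial hS hRS (D := R ⊓ omegaOne p P) inf_le_left hc0 hcm (n := n) (by rw [hcn]; exact inf_le_right)
        (fun x => ?_) (fun i x hxD hxi => hγ1 i x hxi) hm hβm'
      rw [Subgroup.mem_inf, Subgroup.mem_inf, stronglyClosed_aut hOm hRS hγA x]
      exact ⟨fun h => ⟨(γ x).2, h.2⟩, fun h => ⟨x.2, h.2⟩⟩
    -- on K
    set K := R ⊓ P with hK
    have hKR : K ≤ R := inf_le_left
    haveI : Finite K := finite_of_le (hKR.trans hRS)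
    obtain ⟨D0, h1, h2, h3⟩ := exists_small_char (hS.to_le (hKR.trans hRS))
    have hinvK : ∀ x : R, (x : Ω) ∈ K ↔ ((γ x : R) : Ω) ∈ K := by
      intro x
      rw [hK, Subgroup.mem_inf, Subgroup.mem_inf, stronglyClosed_aut hP hRS hγA x]
      exact ⟨fun h => ⟨(γ x).2, h.2⟩, fun h => ⟨x.2, h.2⟩⟩
    obtain ⟨κ, hκ⟩ := exists_restrict_aut hKR hinvK
    have hκm : κ ^ m = 1 := by
      apply MulEquiv.ext
      intro x
      apply Subtype.ext
      have := pow_restrict_aut hKR (fun x hx => hκ ⟨x, hx⟩) m x x.2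
      rw [hβm'] at this
      exact this
    have hκ1 := h3 κ m hm hκm (fun x hx => by
      apply Subtype.ext
      rw [hκ]
      have h4 := h2 x hx
      rw [if_neg hp2] at h4
      have h5 : (x : Ω) ∈ omegaOne p P := Subgroup.subset_closure ⟨x.2.2, congrArg Subtype.val h4⟩
      exact congrArg Subtype.val (hfix ⟨x, hKR x.2⟩ ⟨hKR x.2, h5⟩))
    obtain ⟨k, hk⟩ := pow_p_of_two_chain (hS.to_le hRS) (α := γ) (K.subgroupOf R)
      (fun x hx => by
        have := hκ ⟨x, hx⟩
        rw [hκ1] at this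
        exact Subtype.ext this.symm)
      (fun x => by
        have h4 := hγ2 0 x (by simp [c₂])
        exact Subgroup.mem_inf.2 ⟨(x⁻¹ * γ x : R).2, h4⟩)
    have h5 := orderOf_dvd_of_pow_eq_one hk
    have h6 := orderOf_dvd_of_pow_eq_one hβm'
    have h7 : Nat.Coprime (p ^ k) m := Nat.Coprime.pow_left k hm.symm
    have h8 := Nat.eq_one_of_dvd_coprimes h7 h5 h6
    exact orderOf_eq_one_iff.1 h8
  · intro g hg α hα
    have hgS := hP.1 hg
    have hαA : α ∈ F.autGroup R := autInducedBy_le_autGroup F hRS (mem_autInducedBy.2 ⟨g, hgS, hα⟩)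
    refine ⟨⟨hαA, fun i x hx => ?_⟩, hαA, fun i x hx => ?_⟩
    · show (((x⁻¹ * α x : R)) : Ω) ∈ c i
      rw [Subgroup.coe_mul, Subgroup.coe_inv, hα]
      exact hcc i g hg x hx
    · rcases i with _ | i
      · show (((x⁻¹ * α x : R)) : Ω) ∈ P
        rw [Subgroup.coe_mul, Subgroup.coe_inv, hα]
        have e : (x : Ω)⁻¹ * (g * (x : Ω) * g⁻¹) = ((x : Ω)⁻¹ * g * (x : Ω)⁻¹⁻¹) * g⁻¹ := by group
        rw [e]
        exact P.mul_mem (hcj hP _ (R.inv_mem x.2) g hg) (P.inv_mem hg)
      · simp [c₂]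

theorem omega_char {p : ℕ} (P : Subgroup Ω) : ((omegaOne p P).subgroupOf P).Characteristic := by
  have hle : omegaOne p P ≤ P := (Subgroup.closure_le _).2 fun x hx => hx.1
  have key : (omegaOne p P).subgroupOf P = Subgroup.closure {x : P | x ^ p = 1} := by
    have h1 : omegaOne p P = (Subgroup.closure {x : P | x ^ p = 1}).map P.subtype := by
      rw [MonoidHom.map_closure]
      unfold omegaOne
      congr 1
      ext x
      constructor
      · rintro ⟨hx, h⟩; exact ⟨⟨x, hx⟩, Subtype.ext h, rfl⟩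
      · rintro ⟨y, hy, rfl⟩; exact ⟨y.2, congrArg Subtype.val hy⟩
    rw [h1]
    exact Subgroup.comap_map_eq_self_of_injective P.subtype_injective _
  rw [key, Subgroup.characteristic_iff_map_le]
  intro α
  rw [MonoidHom.map_closure]
  refine Subgroup.closure_mono ?_
  rintro _ ⟨x, hx, rfl⟩
  show (α.toMonoidHom x) ^ p = 1
  rw [← map_pow, show x ^ p = 1 from hx, map_one]

theorem omega_normal_iff [Finite S] {p : ℕ} [hp : Fact p.Prime] (hS : IsPGroup p S) {F : FusionSystem S} (hF : F.IsSaturated p)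
    (hp2 : p ≠ 2) {P : Subgroup Ω} (hP : F.StronglyClosed P) :
    F.IsNormal P ↔ ∃ (n : ℕ) (Q : Fin (n + 1) → Subgroup Ω), Q 0 = ⊥ ∧ Q (Fin.last n) = Cfsg.omegaOne p P ∧ Monotone Q ∧
      (∀ i : Fin (n + 1), F.StronglyClosed (Q i)) ∧ ∀ i : Fin n, ⁅Q i.succ, P⁆ ≤ Q i.castSucc := by
  have hOP : omegaOne p P ≤ P := (Subgroup.closure_le _).2 fun x hx => hx.1
  constructor
  · intro h
    obtain ⟨n, hn⟩ := exists_ucs_eq hS h.1
    have hO : F.IsNormal (omegaOne p P) := isNormal_of_characteristic h hOP (omega_char P)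
    have hnorm : ∀ i, F.StronglyClosed (ucs P i) := fun i =>
      normal_stronglyClosed (isNormal_of_characteristic h (ucs_le P i) (by rw [ucs_subgroupOf]; infer_instance))
    have hOsc := normal_stronglyClosed hO
    refine ⟨n, fun i => ucs P i ⊓ omegaOne p P, by show ucs P 0 ⊓ _ = ⊥; rw [ucs_zero, bot_inf_eq], ?_, fun i j hij => inf_le_inf_right _ (ucs_mono P hij),
      fun i => sc_inf (hnorm i) hOsc, fun i => ?_⟩
    · show ucs P (Fin.last n : ℕ) ⊓ omegaOne p P = omegaOne p P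
      rw [Fin.val_last, hn]; exact inf_eq_right.2 hOP
    · refine le_inf ?_ ?_
      · refine (Subgroup.commutator_mono inf_le_left le_rfl).trans ?_
        rw [Subgroup.commutator_comm]
        simpa using ucs_comm P i
      · rw [Subgroup.commutator_le]
        intro x hx y hy
        have h1 := (Subgroup.mem_normalizer_iff.1 (stronglyClosed_normal_S hOsc (hP.1 hy)) (x⁻¹)).1 (Subgroup.inv_mem _ hx.2)
        have e : ⁅x, y⁆ = x * (y * x⁻¹ * y⁻¹) := by rw [commutatorElement_def]; group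
        rw [e]
        exact Subgroup.mul_mem _ hx.2 h1
  · rintro ⟨n, C, h0, hn, hm, hsc, hcom⟩
    set c : ℕ → Subgroup Ω := fun i => C ⟨min i n, by omega⟩ with hc
    have hc0 : c 0 = ⊥ := by
      have : (⟨min 0 n, by omega⟩ : Fin (n + 1)) = 0 := by ext; simp
      simp only [hc, this, h0]
    have hcn : c n = omegaOne p P := by
      have : (⟨min n n, by omega⟩ : Fin (n + 1)) = Fin.last n := by ext; simp
      simp only [hc, this, hn]
    have hcm : Monotone c := by
      intro i j hij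
      refine hm ?_
      show min i n ≤ min j n
      omega
    have hcP : ∀ i, c i ≤ P := fun i => by
      refine le_trans (hm (Fin.le_last _)) ?_
      rw [hn]; exact hOP
    have hcO : ∀ i, c i ≤ c n := fun i => by
      refine hm ?_
      show min i n ≤ min n n
      omega
    refine normal_of_omega_chain hS hF hp2 hP hc0 hcn hcm (fun i => hsc _) fun i g hg x hx => ?_
    by_cases hi : i < n
    · have h1 := hcom ⟨i, hi⟩
      have e1 : (⟨min (i + 1) n, by omega⟩ : Fin (n + 1)) = (⟨i, hi⟩ : Fin n).succ := by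
        ext; simp; omega
      have e2 : (⟨min i n, by omega⟩ : Fin (n + 1)) = Fin.castSucc (⟨i, hi⟩ : Fin n) := by
        ext; simp; omega
      simp only [hc, e1] at hx
      simp only [hc, e2]
      have h2 := h1 (Subgroup.commutator_mem_commutator (Subgroup.inv_mem _ hx) hg)
      have e : x⁻¹ * (g * x * g⁻¹) = ⁅x⁻¹, g⁆ := by rw [commutatorElement_def, inv_inv]; group
      rw [e]; exact h2
    · have hin : c i = c n := by
        simp only [hc]; congr 1; ext; simp; omega
      have hxn : x ∈ c n := hcO _ hx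
      rw [hin]
      have h1 := (Subgroup.mem_normalizer_iff.1 (stronglyClosed_normal_S (hsc ⟨min n n, by omega⟩) (hP.1 hg)) x).1 hxn
      exact Subgroup.mul_mem _ (Subgroup.inv_mem _ hxn) h1

end CfsgLib.Fus21
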