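import Cfsg.Agent.LibFus21Norm2
import Cfsg.Agent.LibFus21Alp2
import Cfsg.Agent.LibFus21Tv4

set_option autoImplicit false

/-! Essential subgroups and characteristic chains with factors of order `p`. -/

namespace CfsgLib.Fus21

open Cfsg Cfsg.FusionSystem

theorem order_p_layer {P : Type*} [Group P] [Finite P] {p : ℕ} [hp : Fact p.Prime] {A B : Subgroup P} (hAB : A ≤ B) [hA : A.Normal]
    (hidx : A.relIndex B ∣ p) {α : MulAut P} (hAα : ∀ x ∈ A, α x ∈ A) (hBα : ∀ x ∈ B, α x ∈ B) {k : ℕ} (hk : α ^ p ^ k = 1) :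
    ∀ x ∈ B, x⁻¹ * α x ∈ A := by
  intro x hx
  let f : P ⧸ A →* P ⧸ A := QuotientGroup.map A A α.toMonoidHom hAα
  have hf : ∀ y : P, f (y : P ⧸ A) = ((α y : P) : P ⧸ A) := fun y => rfl
  set v : P ⧸ A := (x : P ⧸ A) with hv
  rw [← QuotientGroup.eq]
  by_cases hv1 : v = 1
  · rw [← hv, hv1, eq_comm, ← hf, ← hv, hv1, map_one]
  -- the image of B
  set Bb := B.map (QuotientGroup.mk' A) with hBb
  have hcard : Nat.card Bb = A.relIndex B := by
    rw [hBb, Subgroup.relIndex]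
    have : ((QuotientGroup.mk' A).comp B.subtype).ker = A.subgroupOf B := by
      ext y; simp [Subgroup.mem_subgroupOf, MonoidHom.mem_ker]
    rw [← this, Subgroup.index_ker, MonoidHom.range_comp, Subgroup.range_subtype]
  have hvB : v ∈ Bb := ⟨x, hx, rfl⟩
  have hcp : Nat.card Bb = p := by
    rcases (Nat.dvd_prime hp.out).1 (hcard ▸ hidx) with h | h
    · exfalso
      have : (⟨v, hvB⟩ : Bb) = 1 := by
        haveI := (Nat.card_eq_one_iff_unique.1 h).1
        exact Subsingleton.elim _ _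
      exact hv1 (congrArg Subtype.val this)
    · exact h
  have hov : orderOf v = p := by
    have h1 : orderOf (⟨v, hvB⟩ : Bb) ∣ p := hcp ▸ orderOf_dvd_natCard _
    rw [Subgroup.orderOf_mk] at h1
    rcases (Nat.dvd_prime hp.out).1 h1 with h | h
    · exact (hv1 (orderOf_eq_one_iff.1 h)).elim
    · exact h
  have hBz : Bb = Subgroup.zpowers v := by
    refine (Subgroup.eq_of_le_of_card_ge (by rw [Subgroup.zpowers_le]; exact hvB) ?_).symm
    rw [hcp, Nat.card_zpowers, hov]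
  have hfv : f v ∈ Bb := by rw [hv, hf]; exact ⟨_, hBα x hx, rfl⟩
  rw [hBz] at hfv
  obtain ⟨j, hj⟩ := Subgroup.mem_zpowers_iff.1 hfv
  have key : ∀ m : ℕ, (((α ^ m) x : P) : P ⧸ A) = v ^ (j ^ m) := by
    intro m
    induction m with
    | zero => simp [hv]
    | succ m ih =>
      rw [pow_succ', MulAut.mul_apply, ← hf, ih, map_zpow, ← hj, ← zpow_mul]
      congr 1; ring
  have h1 := key (p ^ k)
  rw [hk] at h1
  have h2 : v ^ (j ^ p ^ k - 1) = 1 := by
    rw [zpow_sub, ← h1]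
    show v * (v ^ (1 : ℤ))⁻¹ = 1
    rw [zpow_one, mul_inv_cancel]
  have h3 : (p : ℤ) ∣ j ^ p ^ k - 1 := by
    have h9 := orderOf_dvd_iff_zpow_eq_one.2 h2
    rwa [hov] at h9
  have h4 : (p : ℤ) ∣ j - 1 := by
    have h5 : ((j ^ p ^ k - 1 : ℤ) : ZMod p) = 0 := (ZMod.intCast_zmod_eq_zero_iff_dvd _ p).2 h3
    have h6 : ((j - 1 : ℤ) : ZMod p) = 0 := by
      push_cast at h5 ⊢
      rw [ZMod.pow_card_pow] at h5
      exact h5
    exact (ZMod.intCast_zmod_eq_zero_iff_dvd _ p).1 h6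
  have h7 : v ^ j = v := by
    have h8 : v ^ (j - 1) = 1 := by
      rw [← hov] at h4; exact orderOf_dvd_iff_zpow_eq_one.1 h4
    have e : j = (j - 1) + 1 := by ring
    rw [e, zpow_add, h8, one_mul, zpow_one]
  rw [← hf, ← hv, ← hj, h7]

variable {Ω : Type*} [Group Ω] {S : Subgroup Ω}

theorem conj_pow_aut {H : Subgroup Ω} {g : Ω} {α : MulAut H} (h : ∀ x : H, ((α x : H) : Ω) = g * x * g⁻¹) (m : ℕ) (x : H) :
    (((α ^ m) x : H) : Ω) = g ^ m * x * (g ^ m)⁻¹ := by
  induction m generalizing x with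
  | zero => simp
  | succ m ih =>
    rw [pow_succ, MulAut.mul_apply, ih, h]
    rw [pow_succ]; group

theorem not_essential_of_pchain [Finite S] {p : ℕ} [hp : Fact p.Prime] (hS : IsPGroup p S) {F : FusionSystem S} (hF : F.IsSaturated p)
    {H : Subgroup Ω} {c : ℕ → Subgroup H} {n : ℕ} (h0 : c 0 = ⊥) (hn : c n = ⊤) (hm : Monotone c) (hnor : ∀ i, (c i).Normal)
    (hinv : ∀ α ∈ F.autGroup H, ∀ i, ∀ x ∈ c i, α x ∈ c i) (hidx : ∀ i < n, (c i).relIndex (c (i + 1)) ∣ p) :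
    ¬ F.IsEssential p H := by
  intro hH
  have hHS := hH.1.1
  haveI : Finite H := finite_of_le hHS
  refine (essential_lt hS hF hH).not_ge ?_
  have hnc : ∀ i, ∀ x ∈ c (i + 1), ∀ y ∈ c i, x * y * x⁻¹ ∈ c i := fun i x _ y hy => (hnor i).conj_mem y hy x
  refine le_of_radical hS hH.1 (essential_radical hS hH) le_rfl (hHS.trans Subgroup.le_normalizer) (B := chainStab (F.autGroup H) c hm hinv hnc)
    (fun α hα => hα.1) (chainStab_isPGroup (hS.to_le hHS) h0 hn) chainStab_conj fun g hg α hα => ?_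
  have hαA : α ∈ F.autGroup H := autInducedBy_le_autGroup F hHS (mem_autInducedBy.2 ⟨g, hg, hα⟩)
  refine ⟨hαA, fun i x hx => ?_⟩
  by_cases hi : i < n
  · obtain ⟨k, hk⟩ := hS ⟨g, hg⟩
    have hk' : g ^ p ^ k = 1 := congrArg Subtype.val hk
    haveI := hnor i
    refine order_p_layer (hm (Nat.le_succ i)) (hidx i hi) (hinv α hαA i) (hinv α hαA (i + 1)) (k := k) ?_ x hx
    apply MulEquiv.ext
    intro y
    apply Subtype.ext
    rw [conj_pow_aut hα, hk']
    simp
  · have h1 : c i = ⊤ := eq_top_iff.2 (hn ▸ hm (not_lt.1 hi))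
    rw [h1]; trivial

end CfsgLib.Fus21
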