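import Cfsg.Agent.LibFus21Pp5
import Cfsg.Agent.LibFus21NE

set_option autoImplicit false

/-! Subsystems of index prime to `p`: a version for a family of subgroups. -/

namespace CfsgLib.Fus21

open Cfsg Cfsg.FusionSystem

universe u

variable {Ω : Type u} [Group Ω] {S : Subgroup Ω}

/-- subsystems containing `O^{p'}` of all automizers of centric subgroups -/
def PPh (ℋ : Set (Subgroup Ω)) (F : FusionSystem S) (p : ℕ) (E : FusionSystem S) : Prop :=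
  E.IsSubsystemOf F ∧ ∀ P, P ∈ ℋ → P ≤ S → OpP F p P ≤ E.autGroup P

theorem PPh_self (ℋ : Set (Subgroup Ω)) (F : FusionSystem S) (p : ℕ) : PPh ℋ F p F := ⟨fun _ _ h => h, fun P _ _ => OpP_le F p P⟩

/-- the smallest such subsystem -/
def ppMinH (ℋ : Set (Subgroup Ω)) (F : FusionSystem S) (p : ℕ) : FusionSystem S where
  Hom P := {φ | ∀ E : FusionSystem S, PPh ℋ F p E → φ ∈ E.Hom P}
  le_of_mem h := (h F (PPh_self ℋ F p) |> F.le_of_mem)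
  injective_of_mem h := (h F (PPh_self ℋ F p) |> F.injective_of_mem)
  conj_mem hP hg E _ := E.conj_mem hP hg
  comp_mem hφ hψ h E hE := E.comp_mem (hφ E hE) (hψ E hE) h
  inv_mem := by
    intro P φ hφ
    obtain ⟨ψ, hψ, h⟩ := F.inv_mem (hφ F (PPh_self ℋ F p))
    refine ⟨ψ, fun E hE => ?_, h⟩
    obtain ⟨ψ', hψ', h'⟩ := E.inv_mem (hφ E hE)
    refine mem_congr hψ' fun y => ?_
    obtain ⟨x, hx⟩ := y.2
    have h1 : y = ⟨φ x, ⟨x, rfl⟩⟩ := Subtype.ext hx.symm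
    rw [h1, h, h']

theorem ppMinH_le {ℋ : Set (Subgroup Ω)} {F : FusionSystem S} {p : ℕ} {E : FusionSystem S} (hE : PPh ℋ F p E) : ppMinH ℋ F p ≤ E :=
  fun _ _ h => h E hE

theorem ppMinH_PPh (ℋ : Set (Subgroup Ω)) (F : FusionSystem S) (p : ℕ) : PPh ℋ F p (ppMinH ℋ F p) := by
  refine ⟨fun P φ h => h F (PPh_self ℋ F p), fun P hP hPS α hα => ?_⟩
  rw [mem_autGroup hPS]
  intro E hE
  exact (mem_autGroup hPS).1 (hE.2 P hP hPS hα)

theorem conjSys_PPh [Finite S] {ℋ : Set (Subgroup Ω)} {F : FusionSystem S} {p : ℕ} {E : FusionSystem S}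
    (hconj : ∀ P ∈ ℋ, ∀ Q, F.IsConj P Q → Q ∈ ℋ) (hE : PPh ℋ F p E) {γ : MulAut S}
    (hγ : γ ∈ F.autGroup S) : PPh ℋ F p (conjSys E γ) := by
  constructor
  · intro P φ hφ
    obtain ⟨hP, φ₀, hφ₀, hind⟩ := mem_conjSys.1 hφ
    obtain ⟨e, he, hev⟩ := exists_iso_pre hγ hP
    have h1 := iso_symm he
    have h2 := F.comp_mem h1 (hE.1 _ hφ₀) (fun x => (e.symm x).2)
    have h3 := F.comp_mem h2 ((mem_autGroup le_rfl).1 hγ) (fun x => mem_S h2 x)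
    refine mem_congr h3 fun x => ?_
    have hxS : ((e.symm x : ↥(preimageAlong _ P)) : Ω) ∈ S := preimageAlong_le _ _ (e.symm x).2
    have h4 := induced_apply hind (e.symm x).2 hxS (mem_S hφ₀ _) (mem_preimageAlong.1 (e.symm x).2).2
    have h5 : (⟨(S.subtype.comp γ.toMonoidHom) ⟨_, hxS⟩, (mem_preimageAlong.1 (e.symm x).2).2⟩ : P) = x := by
      apply Subtype.ext
      have := hev _ hxS (e.symm x).2
      rw [Subtype.coe_eta, MulEquiv.apply_symm_apply] at this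
      exact this.symm
    rw [h5] at h4
    exact h4
  · intro P hP hPS α hα
    obtain ⟨e, he, hev⟩ := exists_iso_pre hγ hPS
    have hPc : preimageAlong (S.subtype.comp γ.toMonoidHom) P ∈ ℋ := hconj P hP _ (isConj_iff.2 ⟨_, iso_symm he⟩)
    have hPc1 : preimageAlong (S.subtype.comp γ.toMonoidHom) P ≤ S := preimageAlong_le _ _
    have h1 := hE.2 _ hPc hPc1 (OpP_transport (iso_symm he) hα)
    rw [mem_autGroup hPS, mem_iso, mem_conjSys]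
    refine ⟨hPS, _, (mem_autGroup hPc1).1 h1, induced_mk (preimageAlong_le _ _)
      (fun x => preimageAlong_le _ _ (autTransport e.symm α x).2) (fun x hx => (mem_preimageAlong.1 hx).2) fun x hx => ?_⟩
    have hxS := preimageAlong_le _ _ hx
    have h5 : (⟨(S.subtype.comp γ.toMonoidHom) ⟨x, hxS⟩, (mem_preimageAlong.1 hx).2⟩ : P) = e ⟨x, hx⟩ :=
      Subtype.ext (hev x hxS hx).symm
    show ((α _ : P) : Ω) = ((γ _ : S) : Ω)
    rw [h5]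
    have h6 : ((e.symm (α (e ⟨x, hx⟩)) : ↥(preimageAlong _ P)) : Ω) ∈ S := preimageAlong_le _ _ (e.symm _).2
    have h7 := hev _ h6 (e.symm (α (e ⟨x, hx⟩))).2
    rw [Subtype.coe_eta, MulEquiv.apply_symm_apply] at h7
    exact h7

/-- invariance of the smallest subsystem under `Aut_F(S)` -/
theorem ppMinH_inv [Finite S] {ℋ : Set (Subgroup Ω)} {F : FusionSystem S} {p : ℕ} (hconj : ∀ P ∈ ℋ, ∀ Q, F.IsConj P Q → Q ∈ ℋ)
    {γ : MulAut S} (hγ : γ ∈ F.autGroup S) {P : Subgroup Ω}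
    {φ : P →* Ω} (hφ : φ ∈ (ppMinH ℋ F p).Hom P) : ∃ φ₀ ∈ (ppMinH ℋ F p).Hom (preimageAlong (S.subtype.comp γ.toMonoidHom) P),
      ∀ x (hxS : x ∈ S) (h : x ∈ preimageAlong (S.subtype.comp γ.toMonoidHom) P) (hx : ((γ ⟨x, hxS⟩ : S) : Ω) ∈ P)
        (hy : φ₀ ⟨x, h⟩ ∈ S), φ ⟨((γ ⟨x, hxS⟩ : S) : Ω), hx⟩ = ((γ ⟨φ₀ ⟨x, h⟩, hy⟩ : S) : Ω) := by
  obtain ⟨-, φ₀, hφ₀, hind⟩ := mem_conjSys.1 (ppMinH_le (conjSys_PPh hconj (ppMinH_PPh ℋ F p) hγ) P hφ)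
  exact ⟨φ₀, hφ₀, fun x hxS h hx hy => induced_apply hind h hxS hy hx⟩

/-- maps `α ∘ φ₀` -/
def ppGH [Finite S] (ℋ : Set (Subgroup Ω)) (F : FusionSystem S) (p : ℕ) (hconj : ∀ P ∈ ℋ, ∀ Q, F.IsConj P Q → Q ∈ ℋ) : FusionSystem S where
  Hom P := {φ | ∃ α ∈ F.autGroup S, ∃ φ₀, ∃ h₀ : φ₀ ∈ (ppMinH ℋ F p).Hom P, ∀ x : P, φ x = ((α ⟨φ₀ x, mem_S h₀ x⟩ : S) : Ω)}
  le_of_mem := by
    rintro P φ ⟨α, hα, φ₀, h₀, hx⟩
    exact ⟨le_S h₀, fun x => by rw [hx]; exact (α _).2⟩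
  injective_of_mem := by
    rintro P φ ⟨α, hα, φ₀, h₀, hx⟩ x y hxy
    rw [hx, hx] at hxy
    have h1 := α.injective (Subtype.ext hxy)
    exact inj h₀ (congrArg Subtype.val h1)
  conj_mem := by
    intro P g hP hg
    exact ⟨1, Subgroup.one_mem _, _, (ppMinH ℋ F p).conj_mem hP hg, fun x => rfl⟩
  comp_mem := by
    rintro P Q φ ψ ⟨α, hα, φ₀, h₀, hx⟩ ⟨β, hβ, ψ₀, k₀, hy⟩ h
    obtain ⟨χ, hχ, hχv⟩ := ppMinH_inv hconj hα k₀
    have hmem : ∀ x : P, φ₀ x ∈ preimageAlong (S.subtype.comp α.toMonoidHom) Q := fun x =>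
      mem_preimageAlong.2 ⟨mem_S h₀ x, by
        have := h x
        rw [hx] at this
        exact this⟩
    refine ⟨β * α, Subgroup.mul_mem _ hβ hα, _, (ppMinH ℋ F p).comp_mem h₀ hχ hmem, fun x => ?_⟩
    have hxQ : ((α ⟨φ₀ x, mem_S h₀ x⟩ : S) : Ω) ∈ Q := by rw [← hx]; exact h x
    have h1 := hχv (φ₀ x) (mem_S h₀ x) (hmem x) hxQ (mem_S hχ _)
    show ψ ⟨φ x, h x⟩ = ((β (α ⟨χ ⟨φ₀ x, hmem x⟩, _⟩) : S) : Ω)
    have h2 : (⟨φ x, h x⟩ : Q) = ⟨((α ⟨φ₀ x, mem_S h₀ x⟩ : S) : Ω), hxQ⟩ := Subtype.ext (hx x)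
    rw [h2, hy]
    congr 2
    exact Subtype.ext h1
  inv_mem := by
    rintro P φ ⟨α, hα, φ₀, h₀, hx⟩
    obtain ⟨ψ₀, k₀, hψ₀⟩ := (ppMinH ℋ F p).inv_mem h₀
    obtain ⟨χ, hχ, hχv⟩ := ppMinH_inv hconj (Subgroup.inv_mem _ hα) k₀
    have hinv : ∀ x : P, (((α⁻¹ : MulAut S) ⟨φ x, by rw [hx]; exact (α _).2⟩ : S) : Ω) = φ₀ x := by
      intro x
      have h1 : (⟨φ x, by rw [hx]; exact (α _).2⟩ : S) = α ⟨φ₀ x, mem_S h₀ x⟩ := Subtype.ext (hx x)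
      rw [h1, MulAut.inv_apply_self]
    have hle : φ.range ≤ preimageAlong (S.subtype.comp (α⁻¹ : MulAut S).toMonoidHom) φ₀.range := by
      rintro _ ⟨x, rfl⟩
      have hxS : φ x ∈ S := by rw [hx]; exact (α _).2
      exact mem_preimageAlong.2 ⟨hxS, ⟨x, (hinv x).symm⟩⟩
    have hχ' := restrict_mem hχ hle
    have hval : ∀ x : P, ((((α⁻¹ : MulAut S) ⟨χ.comp (Subgroup.inclusion hle) ⟨φ x, ⟨x, rfl⟩⟩, mem_S hχ' _⟩ : S)) : Ω) = x := by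
      intro x
      have hxS : φ x ∈ S := by rw [hx]; exact (α _).2
      have hr : (((α⁻¹ : MulAut S) ⟨φ x, hxS⟩ : S) : Ω) ∈ φ₀.range := ⟨x, (hinv x).symm⟩
      have h1 := hχv (φ x) hxS (hle ⟨x, rfl⟩) hr (mem_S hχ _)
      have h2 : (⟨(((α⁻¹ : MulAut S) ⟨φ x, hxS⟩ : S) : Ω), hr⟩ : φ₀.range) = ⟨φ₀ x, ⟨x, rfl⟩⟩ := Subtype.ext (hinv x)
      rw [h2, hψ₀] at h1
      exact h1.symm
    refine ⟨(S.subtype.comp (α⁻¹ : MulAut S).toMonoidHom).comp ((χ.comp (Subgroup.inclusion hle)).codRestrict S (fun x => mem_S hχ' x)),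
      ⟨α⁻¹, Subgroup.inv_mem _ hα, _, hχ', fun x => rfl⟩, hval⟩

theorem mem_ppGH [Finite S] {ℋ : Set (Subgroup Ω)} {F : FusionSystem S} {p : ℕ} {hconj : ∀ P ∈ ℋ, ∀ Q, F.IsConj P Q → Q ∈ ℋ}
    {P : Subgroup Ω} {φ : P →* Ω} : φ ∈ (ppGH ℋ F p hconj).Hom P ↔
    ∃ α ∈ F.autGroup S, ∃ φ₀, ∃ h₀ : φ₀ ∈ (ppMinH ℋ F p).Hom P, ∀ x : P, φ x = ((α ⟨φ₀ x, mem_S h₀ x⟩ : S) : Ω) := Iff.rfl

theorem ppMinH_le_ppGH [Finite S] (ℋ : Set (Subgroup Ω)) (F : FusionSystem S) (p : ℕ) (hconj : ∀ P ∈ ℋ, ∀ Q, F.IsConj P Q → Q ∈ ℋ) :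
    ppMinH ℋ F p ≤ ppGH ℋ F p hconj := fun P φ hφ =>
  ⟨1, Subgroup.one_mem _, φ, hφ, fun x => rfl⟩

theorem le_ppGH [Finite S] {p : ℕ} [hp : Fact p.Prime] (hS : IsPGroup p S) {F : FusionSystem S} (hF : F.IsSaturated p)
    {ℋ : Set (Subgroup Ω)} (hconj : ∀ P ∈ ℋ, ∀ Q, F.IsConj P Q → Q ∈ ℋ) (hess0 : ∀ P, F.IsEssential p P → P ∈ ℋ) :
    F ≤ ppGH ℋ F p hconj := by
  refine alperin_ind hS hF _ fun P hP ih => ?_
  rcases hP with rfl | hess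
  · intro α hα
    have h0 : P.subtype.comp α.toMonoidHom ∈ (ppGH ℋ F p hconj).Hom P := ⟨α, hα, P.subtype, incl_mem _ le_rfl, fun x => rfl⟩
    exact aut_mem_of_hom h0 fun x => rfl
  · have hc := hess.1
    have hfn := hess.2.1
    have hlt : P < S := essential_lt hS hF hess
    have hA := (sat_fn hS hF hfn).2
    have hrec := sat_fn_receptive hS hF hfn
    intro β hβ
    obtain ⟨τ, hτ, hnorm⟩ := frattini_OpP hS hA hβ
    have hτG : τ ∈ (ppGH ℋ F p hconj).autGroup P := by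
      have h1 := (ppMinH_PPh ℋ F p).2 P (hess0 P hess) hc.1 hτ
      rw [mem_autGroup hc.1] at h1 ⊢
      exact ppMinH_le_ppGH ℋ F p hconj P h1
    have hν : τ * β ∈ F.autGroup P := Subgroup.mul_mem _ (OpP_le F p P hτ) hβ
    have hνG : τ * β ∈ (ppGH ℋ F p hconj).autGroup P := by
      have hle : normalizerIn S P ≤ extender S P (P.subtype.comp (τ * β).toMonoidHom) := by
        intro g hg
        rw [mem_extender_iso]
        obtain ⟨α, hα⟩ := exists_conjAut hg.2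
        refine ⟨hg.1, α, hα, ?_⟩
        have h1 : α ∈ autInducedBy S P := mem_autInducedBy.2 ⟨g, hg.1, hα⟩
        exact hnorm α h1
      obtain ⟨χ, hχ, hχe⟩ := receptive_extend hrec ((mem_autGroup hc.1).1 hν) hle
      have hPN : P < normalizerIn S P := lt_normalizer_inf hS hlt
      have hfN : Finite (normalizerIn S P) := finite_of_le (normalizerIn_le S P)
      have hcard : Nat.card P < Nat.card (normalizerIn S P) :=
        lt_of_le_of_ne (Subgroup.card_le_of_le hPN.le) fun h => hPN.ne (Subgroup.eq_of_le_of_card_ge hPN.le h.ge)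
      have h2 := ih _ hcard hχ
      exact aut_mem_of_hom (restrict_mem h2 hPN.le) fun x => (hχe x x.2 (hPN.le x.2)).symm
    have h3 : β = τ⁻¹ * (τ * β) := by group
    rw [h3]
    exact Subgroup.mul_mem _ (Subgroup.inv_mem _ hτG) hνG

/-- every map of `F` is an element of `Aut_F(S)` composed with a map of the smallest subsystem -/
theorem pph_decomp [Finite S] {p : ℕ} [hp : Fact p.Prime] (hS : IsPGroup p S) {F : FusionSystem S} (hF : F.IsSaturated p)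
    {ℋ : Set (Subgroup Ω)} (hconj : ∀ P ∈ ℋ, ∀ Q, F.IsConj P Q → Q ∈ ℋ) (hess0 : ∀ P, F.IsEssential p P → P ∈ ℋ)
    {E : FusionSystem S} (hE : PPh ℋ F p E) {P : Subgroup Ω} {φ : P →* Ω} (hφ : φ ∈ F.Hom P) :
    ∃ α ∈ F.autGroup S, ∃ φ₀ ∈ E.Hom P, ∀ (x : P) (hx : φ₀ x ∈ S), φ x = ((α ⟨φ₀ x, hx⟩ : S) : Ω) := by
  obtain ⟨α, hα, φ₀, h₀, h⟩ := le_ppGH hS hF hconj hess0 P hφ
  exact ⟨α, hα, φ₀, ppMinH_le hE P h₀, fun x hx => h x⟩

/-- all subgroups -/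
theorem pph_all [Finite S] {p : ℕ} [hp : Fact p.Prime] (hS : IsPGroup p S) {F : FusionSystem S} (hF : F.IsSaturated p)
    {ℋ : Set (Subgroup Ω)} (hconj : ∀ P ∈ ℋ, ∀ Q, F.IsConj P Q → Q ∈ ℋ) (hess0 : ∀ P, F.IsEssential p P → P ∈ ℋ)
    {E : FusionSystem S} (hE : PPh ℋ F p E) {P : Subgroup Ω} (hP : P ≤ S) : OpP F p P ≤ E.autGroup P := by
  rw [OpP_eq, Subgroup.closure_le]
  rintro τ ⟨hτ, k, hk⟩
  obtain ⟨R, hPR, hR⟩ := exists_fullyNormalized F hP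
  obtain ⟨e, he⟩ := isConj_iff.1 hPR
  have hRS := hR.1
  have hA := (sat_fn hS hF hR).2
  have hfA := finite_autGroup F hRS
  have hτR : autTransport e τ ∈ F.autGroup R := (autTransport_mem he).2 hτ
  have hK : IsPGroup p (Subgroup.zpowers (autTransport e τ)) := by
    refine IsPGroup.of_card (n := k) ?_
    rw [Nat.card_zpowers, ← hk]
    exact orderOf_injective (autTransport e).toMonoidHom (autTransport e).injective τ
  obtain ⟨c, hc, hle⟩ := exists_conj_le (isPGroup_autInducedBy hS R) ((fullyAutomized_iff hS).1 hA).2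
    (Subgroup.zpowers_le.2 hτR) hK
  have h1 : c * autTransport e τ * c⁻¹ ∈ autInducedBy S R := by
    apply hle
    exact ⟨_, Subgroup.mem_zpowers _, rfl⟩
  have he' : e.trans c ∈ Iso F P R := iso_trans he ((mem_autGroup hRS).1 hc)
  obtain ⟨g, hg, hgx⟩ := mem_autInducedBy.1 h1
  obtain ⟨α, hα, φ₀, hφ₀, hx⟩ := pph_decomp hS hF hconj hess0 hE he'
  -- for `x ∈ P` : `φ₀ (τ x) = h φ₀(x) h⁻¹`
  set h : S := (α⁻¹ : MulAut S) ⟨g, hg⟩ with hh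
  have key : ∀ x : P, φ₀ (τ x) = (h : Ω) * φ₀ x * (h : Ω)⁻¹ := by
    intro x
    have h2 : ((c (e (τ x)) : R) : Ω) = g * ((c (e x) : R) : Ω) * g⁻¹ := by
      rw [← hgx (c (e x))]
      show _ = ((c ((autTransport e τ) (c⁻¹ (c (e x)))) : R) : Ω)
      rw [MulAut.inv_apply_self, autTransport_apply, MulEquiv.symm_apply_apply]
    have h3 := hx (τ x) (mem_S hφ₀ _)
    have h4 := hx x (mem_S hφ₀ _)
    have h5 : α ⟨φ₀ (τ x), mem_S hφ₀ _⟩ = ⟨g, hg⟩ * α ⟨φ₀ x, mem_S hφ₀ _⟩ * (⟨g, hg⟩ : S)⁻¹ := by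
      apply Subtype.ext
      rw [← h3]
      show ((c (e (τ x)) : R) : Ω) = g * ((α ⟨φ₀ x, mem_S hφ₀ _⟩ : S) : Ω) * g⁻¹
      rw [← h4]
      exact h2
    have h6 := congrArg (α⁻¹ : MulAut S) h5
    rw [map_mul, map_mul, map_inv, MulAut.inv_apply_self, MulAut.inv_apply_self] at h6
    exact congrArg Subtype.val h6
  obtain ⟨ψ₀, hψ₀, hψv⟩ := E.inv_mem hφ₀
  have hmem : ∀ x : P, ((conjHom φ₀.range (h : Ω)).comp (φ₀.codRestrict φ₀.range fun x => ⟨x, rfl⟩)) x ∈ φ₀.range := by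
    intro x
    exact ⟨τ x, key x⟩
  have h7 := E.comp_mem hφ₀ (E.conj_mem (range_le hφ₀) h.2) (fun x => ⟨x, rfl⟩)
  have h8 := E.comp_mem h7 hψ₀ hmem
  refine aut_mem_of_hom h8 fun x => ?_
  show ((τ x : P) : Ω) = ψ₀ ⟨(h : Ω) * φ₀ x * (h : Ω)⁻¹, _⟩
  rw [← hψv (τ x)]
  congr 1
  exact Subtype.ext (key x)


theorem PPc_of_PPh [Finite S] {p : ℕ} [hp : Fact p.Prime] (hS : IsPGroup p S) {F : FusionSystem S} (hF : F.IsSaturated p)
    {ℋ : Set (Subgroup Ω)} (hconj : ∀ P ∈ ℋ, ∀ Q, F.IsConj P Q → Q ∈ ℋ) (hess0 : ∀ P, F.IsEssential p P → P ∈ ℋ)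
    {E : FusionSystem S} (hE : PPh ℋ F p E) : PPc F p E :=
  ⟨hE.1, fun _ hP => pph_all hS hF hconj hess0 hE hP.1⟩

end CfsgLib.Fus21
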