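import Cfsg.Agent.LibFus21Ph1

set_option autoImplicit false

/-! Saturation of subsystems generated by maps on a family containing the centric radical subgroups. -/

namespace CfsgLib.Fus21

open Cfsg Cfsg.FusionSystem

universe u

variable {Ω : Type u} [Group Ω] {S : Subgroup Ω}

theorem fc_receptive_local [Finite S] {p : ℕ} [Fact p.Prime] (hS : IsPGroup p S) {F : FusionSystem S}
    {P Q : Subgroup Ω} (hP : F.IsFullyCentralized P) (hPQ : F.IsConj P Q) (hA : F.IsFullyAutomized p Q)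
    (hR : F.IsReceptive Q) : F.IsReceptive P := by
  have hQS := hA.1
  obtain ⟨φ, hφ, e, he, hφe, hφN⟩ := exists_map_normalizer hS hA hR hPQ
  have hle : P ≤ normalizerIn S P := le_normalizerIn hP.1
  have hφe' : ∀ x (hx : x ∈ P), φ ⟨x, hle hx⟩ = e ⟨x, hx⟩ := fun x hx => hφe ⟨x, hx⟩ (hle hx)
  have honto : ∀ y ∈ Q, ∃ x, ∃ hx : x ∈ P, φ ⟨x, hle hx⟩ = y := by
    intro y hy
    refine ⟨(e.symm ⟨y, hy⟩ : P), (e.symm ⟨y, hy⟩).2, ?_⟩
    rw [hφe' _ (e.symm ⟨y, hy⟩).2]; simp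
  have hC1 : ∀ x (hx : x ∈ centralizerIn S P), φ ⟨x, centralizerIn_le_normalizerIn S P hx⟩ ∈ centralizerIn S Q :=
    fun x hx => map_centralizer hφ hle honto hx _
  have hC2 := eq_of_map_of_card_le hφ (centralizerIn_le_normalizerIn S P) (centralizerIn_le S Q) hC1
    (hP.2 Q hPQ)
  rw [isReceptive_iff]
  refine ⟨hP.1, fun R f hf => ?_⟩
  set N := extender S R (P.subtype.comp f.toMonoidHom) with hN
  have hRS := iso_le_left hf
  have hRN : R ≤ N := le_extender hRS fun x => mem_S hf x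
  -- elements of N
  have key : ∀ g, g ∈ N → ∃ h, ∃ hh : h ∈ normalizerIn S P, ∀ (x : R) (hx : g * (x : Ω) * g⁻¹ ∈ R),
      ((f ⟨g * x * g⁻¹, hx⟩ : P) : Ω) = h * f x * h⁻¹ := by
    intro g hg
    obtain ⟨hgS, α, hα, hα'⟩ := (mem_extender_iso f).1 hg
    obtain ⟨h, hh, hy⟩ := mem_autInducedBy.1 hα'
    refine ⟨h, ⟨hh, mem_normalizer_of_conjAut hy⟩, fun x hx => ?_⟩
    have h3 : (⟨g * (x : Ω) * g⁻¹, hx⟩ : R) = α x := by
      ext; rw [hα]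
    rw [h3]
    have := hy (f x)
    rw [autTransport_apply] at this
    simpa using this
  have hNle : N ≤ extender S R (Q.subtype.comp (f.trans e).toMonoidHom) := by
    intro g hg
    obtain ⟨h, hh, hx⟩ := key g hg
    refine mem_extender.2 ⟨extender_le _ _ hg, extender_le_normalizer _ _ hg, φ ⟨h, hh⟩, mem_S hφ _,
      fun x hxR => ?_⟩
    show ((e (f ⟨g * x * g⁻¹, hxR⟩) : Q) : Ω) = φ ⟨h, hh⟩ * ((e (f x) : Q) : Ω) * (φ ⟨h, hh⟩)⁻¹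
    have e1 : ((e (f ⟨g * x * g⁻¹, hxR⟩) : Q) : Ω) = φ ⟨_, hle (f ⟨g * x * g⁻¹, hxR⟩).2⟩ := by
      rw [hφe']
    have e2 : ((e (f x) : Q) : Ω) = φ ⟨_, hle (f x).2⟩ := (hφe' _ (f x).2).symm
    rw [e1, e2, ← map_mul, ← map_inv, ← map_mul]
    congr 1
    ext
    exact hx x hxR
  obtain ⟨χ, hχ, hχe⟩ := receptive_extend hR (iso_trans hf he) hNle
  -- the image of χ lies in the image of φ
  have hin : ∀ g : N, χ g ∈ φ.range := by
    intro g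
    obtain ⟨h, hh, hx⟩ := key g g.2
    have hc : (φ ⟨h, hh⟩)⁻¹ * χ g ∈ centralizerIn S Q := by
      rw [mem_centralizerIn']
      refine ⟨S.mul_mem (S.inv_mem (mem_S hφ _)) (mem_S hχ _), fun y hy => ?_⟩
      obtain ⟨x, hx'⟩ : ∃ x : R, (f.trans e) x = ⟨y, hy⟩ := (f.trans e).surjective _
      have hgx : (g : Ω) * x * (g : Ω)⁻¹ ∈ R :=
        (Subgroup.mem_normalizer_iff.1 (extender_le_normalizer _ _ g.2) _).1 x.2
      have e1 : χ ⟨(x : Ω), hRN x.2⟩ = y := by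
        rw [hχe _ x.2]; exact congrArg Subtype.val hx'
      have e2 : χ g * y * (χ g)⁻¹ = ((e (f ⟨(g : Ω) * x * (g : Ω)⁻¹, hgx⟩) : Q) : Ω) := by
        rw [← e1, ← map_mul, ← map_inv, ← map_mul]
        exact hχe _ hgx _
      have e3 : ((e (f ⟨(g : Ω) * x * (g : Ω)⁻¹, hgx⟩) : Q) : Ω) =
          φ ⟨h, hh⟩ * y * (φ ⟨h, hh⟩)⁻¹ := by
        have e4 : ((e (f ⟨(g : Ω) * x * (g : Ω)⁻¹, hgx⟩) : Q) : Ω) = φ ⟨_, hle (f ⟨_, hgx⟩).2⟩ := by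
          rw [hφe']
        have e5 : y = φ ⟨_, hle (f x).2⟩ := by
          rw [hφe']; exact (congrArg Subtype.val hx').symm
        rw [e4, e5, ← map_mul, ← map_inv, ← map_mul]
        congr 1
        ext
        exact hx x hgx
      calc (φ ⟨h, hh⟩)⁻¹ * χ g * y * ((φ ⟨h, hh⟩)⁻¹ * χ g)⁻¹
          = (φ ⟨h, hh⟩)⁻¹ * (χ g * y * (χ g)⁻¹) * φ ⟨h, hh⟩ := by group
        _ = y := by rw [e2, e3]; group
    obtain ⟨c, hc1, hc2⟩ := hC2 _ hc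
    refine ⟨⟨h, hh⟩ * ⟨c, centralizerIn_le_normalizerIn S P hc1⟩, ?_⟩
    rw [map_mul, hc2]; group
  obtain ⟨ε, hε, hεφ⟩ := exists_iso hφ rfl
  have hε' := iso_symm hε
  let ψ : N →* Ω := ((normalizerIn S P).subtype.comp ε.symm.toMonoidHom).comp (χ.codRestrict _ hin)
  refine ⟨ψ, comp_mem' hχ hε' fun x => ⟨hin x, rfl⟩, fun x hxR hxN => ?_⟩
  show ((ε.symm ⟨χ ⟨x, hxN⟩, _⟩ : normalizerIn S P) : Ω) = _
  have : (⟨χ ⟨x, hxN⟩, hin ⟨x, hxN⟩⟩ : φ.range) = ε ⟨_, hle (f ⟨x, hxR⟩).2⟩ := by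
    ext
    rw [hεφ, hφe']
    exact hχe x hxR hxN
  rw [this]; simp


theorem centric_fc {F : FusionSystem S} {Q : Subgroup Ω} (hQ : F.IsCentric Q) : F.IsFullyCentralized Q := by
  have hQ'S := hQ.1
  refine ⟨hQ'S, fun R' hR' => ?_⟩
  obtain ⟨f, hf⟩ := isConj_iff.1 hR'
  have h1 : centralizerIn S R' ≤ R' := hQ.2 R' (isConj_iff.2 ⟨f, hf⟩)
  have h2 : centralizerIn S Q ≤ Q := centric_centralizer_le hQ
  have h3 : ∀ x : Q, (x : Ω) ∈ centralizerIn S Q ↔ ((f x : R') : Ω) ∈ centralizerIn S R' := by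
    intro x
    rw [mem_centralizerIn', mem_centralizerIn']
    constructor
    · rintro ⟨-, h⟩
      refine ⟨conj_le_right hR' (f x).2, fun y hy => ?_⟩
      have h4 := h (f.symm ⟨y, hy⟩) (f.symm ⟨y, hy⟩).2
      have h5 : x * f.symm ⟨y, hy⟩ * x⁻¹ = f.symm ⟨y, hy⟩ := Subtype.ext h4
      have h6 := congrArg f h5
      rw [map_mul, map_mul, map_inv, MulEquiv.apply_symm_apply] at h6
      exact congrArg Subtype.val h6
    · rintro ⟨-, h⟩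
      refine ⟨hQ'S x.2, fun y hy => ?_⟩
      have h4 := h (f ⟨y, hy⟩) (f ⟨y, hy⟩).2
      have h5 : f x * f ⟨y, hy⟩ * (f x)⁻¹ = f ⟨y, hy⟩ := Subtype.ext h4
      rw [← map_inv, ← map_mul, ← map_mul] at h5
      exact congrArg Subtype.val (f.injective h5)
  obtain ⟨g, hg, -⟩ := iso_restrict hf h2 h1 h3
  exact (Nat.card_congr g.toEquiv).ge

/-- `O_p(Aut_F(P))` -/
def Kp (F : FusionSystem S) (p : ℕ) (P : Subgroup Ω) : Subgroup (MulAut P) :=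
  (Cfsg.pCore p ↥(F.autGroup P)).map (F.autGroup P).subtype

theorem Kp_le (F : FusionSystem S) (p : ℕ) (P : Subgroup Ω) : Kp F p P ≤ F.autGroup P := Subgroup.map_subtype_le _

theorem Kp_p [Finite S] (F : FusionSystem S) (p : ℕ) {P : Subgroup Ω} (hP : P ≤ S) : IsPGroup p (Kp F p P) := by
  haveI := finite_autGroup F hP
  exact (CfsgLib.Cores.pCore_isPGroup p).map _

theorem Kp_normal (F : FusionSystem S) (p : ℕ) (P : Subgroup Ω) :
    ∀ a ∈ F.autGroup P, ∀ b ∈ Kp F p P, a * b * a⁻¹ ∈ Kp F p P := by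
  rintro a ha _ ⟨b, hb, rfl⟩
  have hn : (Cfsg.pCore p ↥(F.autGroup P)).Normal := inferInstance
  exact ⟨⟨a, ha⟩ * b * ⟨a, ha⟩⁻¹, hn.conj_mem b hb ⟨a, ha⟩, rfl⟩

theorem Kp_map_le [Finite S] {F : FusionSystem S} {p : ℕ} {P Q : Subgroup Ω} {e : P ≃* Q} (he : e ∈ Iso F P Q) :
    (Kp F p P).map (autTransport e).toMonoidHom ≤ Kp F p Q := by
  have hP := iso_le_left he
  refine le_pCore_sub ?_ ((Kp_p F p hP).map _) ?_
  · rw [← map_autTransport he]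
    exact Subgroup.map_mono (Kp_le F p P)
  · rintro a ha _ ⟨b, hb, rfl⟩
    rw [← map_autTransport he] at ha
    obtain ⟨a', ha', rfl⟩ := ha
    refine ⟨a' * b * a'⁻¹, Kp_normal F p P a' ha' b hb, ?_⟩
    rw [map_mul, map_mul, map_inv]

theorem Kp_map [Finite S] {F : FusionSystem S} {p : ℕ} {P Q : Subgroup Ω} {e : P ≃* Q} (he : e ∈ Iso F P Q) :
    (Kp F p P).map (autTransport e).toMonoidHom = Kp F p Q := by
  refine le_antisymm (Kp_map_le he) ?_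
  intro κ hκ
  have h1 := Kp_map_le (p := p) (iso_symm he)
  refine ⟨autTransport e.symm κ, h1 ⟨κ, hκ, rfl⟩, ?_⟩
  show autTransport e (autTransport e.symm κ) = κ
  ext y
  rw [autTransport_apply, autTransport_apply]
  simp

theorem Inn_le_Kp {F : FusionSystem S} {p : ℕ} {P : Subgroup Ω} (hS : IsPGroup p S) (hP : P ≤ S) : Inn P ≤ Kp F p P := by
  have h1 : IsPGroup p (Inn P) := by
    rw [← autInducedBy_self]
    exact isPGroup_autInducedBy (hS.to_le hP) P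
  refine le_pCore_sub ((Inn_le_autInducedBy hP).trans (autInducedBy_le_autGroup F hP)) h1 ?_
  intro a ha b hb
  obtain ⟨g, hg, hx⟩ := mem_Inn.1 hb
  refine mem_Inn.2 ⟨a ⟨g, hg⟩, (a _).2, fun x => ?_⟩
  have h2 : b (a⁻¹ x) = ⟨g, hg⟩ * a⁻¹ x * ⟨g, hg⟩⁻¹ := Subtype.ext (hx _)
  show ((a (b (a⁻¹ x)) : P) : Ω) = _
  rw [h2, map_mul, map_mul, map_inv, MulAut.apply_inv_self]
  rfl

/-- the preimage of `O_p(Aut_F(P))` in `N_S(P)` -/
def Ph (F : FusionSystem S) (p : ℕ) (P : Subgroup Ω) : Subgroup Ω := nK S P (Kp F p P)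

theorem Ph_le (F : FusionSystem S) (p : ℕ) (P : Subgroup Ω) : Ph F p P ≤ normalizerIn S P := nK_le_normalizerIn _ _ _

theorem cent_le_Ph (F : FusionSystem S) (p : ℕ) (P : Subgroup Ω) : centralizerIn S P ≤ Ph F p P := centralizerIn_le_nK _ _ _

theorem le_Ph {F : FusionSystem S} {p : ℕ} {P : Subgroup Ω} (hS : IsPGroup p S) (hP : P ≤ S) : P ≤ Ph F p P := by
  intro g hg
  have h1 : MulAut.conj (⟨g, hg⟩ : P) ∈ Inn P := mem_Inn.2 ⟨g, hg, fun x => rfl⟩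
  exact ⟨hP hg, _, Inn_le_Kp hS hP h1, fun x => rfl⟩

theorem Ph_norm {F : FusionSystem S} {p : ℕ} {P : Subgroup Ω} (hP : P ≤ S) {g : Ω} (hg : g ∈ normalizerIn S P) :
    g ∈ Subgroup.normalizer ((Ph F p P : Subgroup Ω) : Set Ω) := by
  have key : ∀ g ∈ normalizerIn S P, ∀ h ∈ Ph F p P, g * h * g⁻¹ ∈ Ph F p P := by
    rintro g hg h ⟨hhS, κ, hκ, hx⟩
    obtain ⟨α, hα⟩ := exists_conjAut hg.2
    have hαF : α ∈ F.autGroup P := autInducedBy_le_autGroup F hP (mem_autInducedBy.2 ⟨g, hg.1, hα⟩)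
    refine ⟨S.mul_mem (S.mul_mem hg.1 hhS) (S.inv_mem hg.1), _, Kp_normal F p P α hαF κ hκ, fun x => ?_⟩
    show ((α (κ (α⁻¹ x)) : P) : Ω) = _
    rw [hα, hx]
    have h1 := hα (α⁻¹ x)
    rw [MulAut.apply_inv_self] at h1
    rw [h1]; group
  rw [Subgroup.mem_normalizer_iff]
  refine fun h => ⟨key g hg h, fun hh => ?_⟩
  have h1 := key g⁻¹ (Subgroup.inv_mem _ hg) _ hh
  have h2 : g⁻¹ * (g * h * g⁻¹) * g⁻¹⁻¹ = h := by group
  rw [h2] at h1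
  exact h1

theorem Ph_map [Finite S] {F : FusionSystem S} {p : ℕ} {P Q R : Subgroup Ω} {e : P ≃* Q} (he : e ∈ Iso F P Q)
    {E : FusionSystem S} {ψ : R →* Ω} (hψ : ψ ∈ E.Hom R) (hPR : P ≤ R) (hψe : ∀ x (hx : x ∈ P), ψ ⟨x, hPR hx⟩ = e ⟨x, hx⟩)
    {g : Ω} (hg : g ∈ Ph F p P) (hgR : g ∈ R) : ψ ⟨g, hgR⟩ ∈ Ph F p Q := by
  have h1 := nK_map hψ hPR e (fun x => hψe x x.2) hg hgR
  rw [Kp_map he] at h1
  exact h1

theorem card_Ph_le [Finite S] {p : ℕ} [hp : Fact p.Prime] (hS : IsPGroup p S) {F : FusionSystem S} (hF : F.IsSaturated p)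
    {P Q : Subgroup Ω} (hQ : F.IsFullyNormalized Q) {e : P ≃* Q} (he : e ∈ Iso F P Q) :
    Nat.card (Ph F p P) ≤ Nat.card (Ph F p Q) := by
  obtain ⟨φ, hφ, e', he', hφe, hφN⟩ := exists_map_normalizer hS (sat_fn hS hF hQ).2 (sat_fn_receptive hS hF hQ)
    (isConj_iff.2 ⟨e, he⟩)
  have h1 := card_nK_le hφ (le_normalizerIn (iso_le_left he)) (Ph_le F p P) e' (fun x => hφe x _)
  rw [Kp_map he'] at h1
  exact h1

theorem Kp_le_auto [Finite S] {p : ℕ} [hp : Fact p.Prime] (hS : IsPGroup p S) {F : FusionSystem S} (hF : F.IsSaturated p)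
    {Q : Subgroup Ω} (hQ : F.IsFullyNormalized Q) : Kp F p Q ≤ autInducedBy S Q := by
  haveI := finite_autGroup F hQ.1
  obtain ⟨c, hc, hle⟩ := exists_conj_le (isPGroup_autInducedBy hS Q) ((fullyAutomized_iff hS).1 (sat_fn hS hF hQ).2).2
    (Kp_le F p Q) (Kp_p F p hQ.1)
  intro κ hκ
  have h1 := Kp_normal F p Q c⁻¹ (Subgroup.inv_mem _ hc) κ hκ
  have h2 := hle ⟨_, h1, rfl⟩
  have h3 : (MulAut.conj c).toMonoidHom (c⁻¹ * κ * c⁻¹⁻¹) = κ := by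
    show c * (c⁻¹ * κ * c⁻¹⁻¹) * c⁻¹ = κ
    group
  rw [h3] at h2
  exact h2

theorem Ph_le_extender [Finite S] {p : ℕ} [hp : Fact p.Prime] (hS : IsPGroup p S) {F : FusionSystem S} (hF : F.IsSaturated p)
    {P Q : Subgroup Ω} (hQ : F.IsFullyNormalized Q) {e : P ≃* Q} (he : e ∈ Iso F P Q) :
    Ph F p P ≤ extender S P (Q.subtype.comp e.toMonoidHom) := by
  rintro g ⟨hgS, κ, hκ, hx⟩
  rw [mem_extender_iso]
  exact ⟨hgS, κ, hx, Kp_le_auto hS hF hQ (Kp_map_le he ⟨κ, hκ, rfl⟩)⟩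

theorem not_Ph_le [Finite S] {p : ℕ} [hp : Fact p.Prime] (hS : IsPGroup p S) {F : FusionSystem S} (hF : F.IsSaturated p)
    {P : Subgroup Ω} (hP : F.IsFullyNormalized P) (hn : ¬ (F.IsCentric P ∧ F.IsRadical p P)) : ¬ Ph F p P ≤ P := by
  intro hle
  apply hn
  refine ⟨centric_of_fc (sat_fn hS hF hP).1 ((cent_le_Ph F p P).trans hle), hP.1, ?_⟩
  refine le_antisymm ?_ (Inn_le_Kp hS hP.1)
  intro κ hκ
  obtain ⟨g, hg, hx⟩ := mem_autInducedBy.1 (Kp_le_auto hS hF hP hκ)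
  exact mem_Inn.2 ⟨g, hle ⟨hg, κ, hκ, hx⟩, hx⟩

theorem Ph_centric [Finite S] {p : ℕ} [hp : Fact p.Prime] (hS : IsPGroup p S) {F : FusionSystem S} (hF : F.IsSaturated p)
    {P : Subgroup Ω} (hP : F.IsFullyNormalized P) : F.IsCentric (Ph F p P) :=
  centric_mono (sup_le (le_Ph hS hP.1) (cent_le_Ph F p P)) ((Ph_le F p P).trans (normalizerIn_le _ _))
    (centric_sup_of_fc (sat_fn hS hF hP).1)

/-- good isomorphisms -/
def GdH (F : FusionSystem S) (p : ℕ) (E : FusionSystem S) {P Q : Subgroup Ω} (e : P ≃* Q) : Prop :=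
  e ∈ Iso E P Q ∧ ∃ ψ ∈ E.Hom (Ph F p P), ∀ x (hx : x ∈ P) (hx' : x ∈ Ph F p P), ψ ⟨x, hx'⟩ = e ⟨x, hx⟩

theorem GdH_trans [Finite S] {p : ℕ} {F E : FusionSystem S} (hEF : ∀ P, E.Hom P ⊆ F.Hom P) (hS : IsPGroup p S)
    {P Q R : Subgroup Ω} {e : P ≃* Q} {f : Q ≃* R} (he : GdH F p E e) (hf : GdH F p E f) :
    GdH F p E (e.trans f) := by
  obtain ⟨he, ψ, hψ, hψe⟩ := he
  obtain ⟨hf, χ, hχ, hχf⟩ := hf
  have hPP := le_Ph (F := F) hS (iso_le_left he)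
  have hQQ := le_Ph (F := F) hS (iso_le_left hf)
  have hm : ∀ x, ψ x ∈ Ph F p Q := fun x => Ph_map (hEF _ he : e ∈ Iso F P Q) hψ hPP (fun x hx => hψe x hx _) x.2 x.2
  refine ⟨iso_trans he hf, _, E.comp_mem hψ hχ hm, fun x hx hx' => ?_⟩
  show χ ⟨ψ ⟨x, _⟩, _⟩ = f (e ⟨x, hx⟩)
  rw [← hχf _ (e ⟨x, hx⟩).2 (hQQ (e ⟨x, hx⟩).2)]
  congr 1
  exact Subtype.ext (hψe x hx _)

theorem GdH_symm [Finite S] {p : ℕ} {F E : FusionSystem S} (hEF : ∀ P, E.Hom P ⊆ F.Hom P) (hS : IsPGroup p S)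
    {P Q : Subgroup Ω} {e : P ≃* Q} (he : GdH F p E e)
    (hc : Nat.card (Ph F p Q) ≤ Nat.card (Ph F p P)) : GdH F p E e.symm := by
  obtain ⟨he, ψ, hψ, hψe⟩ := he
  have hPP := le_Ph (F := F) hS (iso_le_left he)
  have hm : ∀ x, ψ x ∈ Ph F p Q := fun x => Ph_map (hEF _ he : e ∈ Iso F P Q) hψ hPP (fun x hx => hψe x hx _) x.2 x.2
  obtain ⟨χ, hχ, hχv⟩ := E.inv_mem hψ
  haveI : Finite (Ph F p Q) := finite_of_le ((Ph_le F p Q).trans (normalizerIn_le _ _))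
  have hr : ψ.range = Ph F p Q := by
    apply Subgroup.eq_of_le_of_card_ge
    · rintro _ ⟨x, rfl⟩; exact hm x
    · exact hc.trans (Nat.card_congr (MonoidHom.ofInjective (inj hψ)).toEquiv).le
  refine ⟨iso_symm he, _, restrict_mem hχ hr.ge, fun y hy hy' => ?_⟩
  have h3 := hψe (e.symm ⟨y, hy⟩) (e.symm ⟨y, hy⟩).2 (hPP (e.symm ⟨y, hy⟩).2)
  have h4 := hχv ⟨(e.symm ⟨y, hy⟩ : P), hPP (e.symm ⟨y, hy⟩).2⟩
  show χ ⟨y, _⟩ = (e.symm ⟨y, hy⟩ : P)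
  refine Eq.trans ?_ h4
  congr 1
  apply Subtype.ext
  show y = ψ _
  rw [h3]
  show y = ((e (e.symm ⟨y, hy⟩) : Q) : Ω)
  rw [MulEquiv.apply_symm_apply]

/-- maps extending beyond `P` are good -/
theorem good_of_extH [Finite S] {p : ℕ} [hp : Fact p.Prime] (hS : IsPGroup p S) {F : FusionSystem S} (hF : F.IsSaturated p)
    {E : FusionSystem S} (hE : PPc F p E) {n : ℕ} (hIH : ∀ R, F.IsFullyNormalized R → n < Nat.card R → E.IsReceptive R) :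
    ∀ (k : ℕ) (P Q M : Subgroup Ω) (e : P ≃* Q), Nat.card S - Nat.card M = k → F.IsFullyNormalized P →
      F.IsFullyNormalized Q → Nat.card P = n → e ∈ Iso E P Q → P < M → M ≤ normalizerIn S P →
      ∀ ζ ∈ E.Hom M, (∀ x (hx : x ∈ P) (hx' : x ∈ M), ζ ⟨x, hx'⟩ = e ⟨x, hx⟩) → GdH F p E e := by
  intro k
  induction k using Nat.strong_induction_on with
  | _ k ih =>
  intro P Q M e hk hP hQ hn he hPM hMN ζ hζ hζe
  have hPS := hP.1
  have hQS := hQ.1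
  by_cases hCM : Ph F p P ≤ M
  · exact ⟨he, ζ.comp (Subgroup.inclusion hCM), restrict_mem hζ _, fun x hx hx' => hζe x hx _⟩
  obtain ⟨N, hN⟩ : ∃ N, M ⊔ Ph F p P = N := ⟨_, rfl⟩
  have hMN' : M ≤ N := hN ▸ le_sup_left
  have hMS : M ≤ S := le_S hζ
  have hNP : N ≤ normalizerIn S P := hN ▸ sup_le hMN (Ph_le F p P)
  have hNS : N ≤ S := hNP.trans (normalizerIn_le S P)
  have hMltN : M < N := by
    refine lt_of_le_of_ne hMN' fun h => hCM ?_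
    rw [h, ← hN]; exact le_sup_right
  have hPN : P ≤ N := hPM.le.trans hMN'
  have hext : N ≤ extender S P (Q.subtype.comp e.toMonoidHom) := by
    rw [← hN]
    refine sup_le (fun g hg => ?_) fun g hg => ?_
    · rw [mem_extender]
      refine ⟨hMS hg, (hMN hg).2, ζ ⟨g, hg⟩, mem_S hζ _, fun x hx => ?_⟩
      show ((e ⟨g * x * g⁻¹, hx⟩ : Q) : Ω) = ζ ⟨g, hg⟩ * (e x : Q) * (ζ ⟨g, hg⟩)⁻¹
      rw [← hζe _ hx (hPM.le hx), ← hζe x x.2 (hPM.le x.2), ← map_inv, ← map_mul, ← map_mul]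
      rfl
    · exact Ph_le_extender hS hF hQ (hE.1 _ he : e ∈ Iso F P Q) hg
  obtain ⟨φ, hφ, hφe⟩ := receptive_extend (sat_fn_receptive hS hF hQ) (hE.1 _ he : e ∈ Iso F P Q) hext
  have hsurj : ∀ y ∈ Q, ∃ x, ∃ hx : x ∈ P, ((e ⟨x, hx⟩ : Q) : Ω) = y := fun y hy =>
    ⟨e.symm ⟨y, hy⟩, (e.symm ⟨y, hy⟩).2, by
      show ((e (e.symm ⟨y, hy⟩) : Q) : Ω) = y
      rw [MulEquiv.apply_symm_apply]⟩
  have hφN : ∀ x, φ x ∈ normalizerIn S Q := fun x => by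
    refine map_normalizer hφ hPN (fun y hy => ?_) (fun y hy => ?_) (hNP x.2) x.2
    · rw [hφe y hy]; exact (e _).2
    · obtain ⟨x, hx, h⟩ := hsurj y hy
      exact ⟨x, hx, by rw [hφe x hx]; exact h⟩
  have hζN : ∀ x, ζ x ∈ normalizerIn S Q := fun x => by
    refine map_normalizer hζ hPM.le (fun y hy => ?_) (fun y hy => ?_) (hMN x.2) x.2
    · rw [hζe y hy]; exact (e _).2
    · obtain ⟨x, hx, h⟩ := hsurj y hy
      exact ⟨x, hx, by rw [hζe x hx]; exact h⟩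
  obtain ⟨φ', hφ', hφ'N, hφ'ζ, hφ'E⟩ := stepA hS hF hE hQ hPM.le hMN' hφ hφN hζ hζN
    (fun x hx hx' => by rw [hζe x hx]; exact (e _).2)
    (fun y hy => by
      obtain ⟨x, hx, h⟩ := hsurj y hy
      exact ⟨x, hx, by rw [hζe x hx]; exact h⟩)
    (fun x hx => by rw [hφe x hx, hζe x hx])
  have hφ'e : ∀ x (hx : x ∈ P), φ' ⟨x, hPN hx⟩ = e ⟨x, hx⟩ := fun x hx => by
    rw [hφ'ζ x hx, hζe x hx]
  obtain ⟨M3, hM3⟩ : ∃ M3, N ⊓ Subgroup.normalizer (M : Set Ω) = M3 := ⟨_, rfl⟩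
  haveI : Finite N := finite_of_le hNS
  have hMM3 : M < M3 := hM3 ▸ lt_normalizer_inf (hS.to_le hNS) hMltN
  have hM3N : M3 ≤ N := hM3 ▸ inf_le_left
  have hM3n : M3 ≤ normalizerIn S M := by
    rw [← hM3]; exact inf_le_inf hNS le_rfl
  haveI : Finite M3 := finite_of_le (hM3N.trans hNS)
  haveI : Finite M := finite_of_le hMS
  have hcM : Nat.card M < Nat.card M3 := lt_of_le_of_ne (Subgroup.card_le_of_le hMM3.le) fun h =>
    hMM3.ne (Subgroup.eq_of_le_of_card_ge hMM3.le h.ge)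
  have hcM3 : Nat.card M3 ≤ Nat.card S := Subgroup.card_le_of_le (hM3N.trans hNS)
  have hcP : Nat.card P < Nat.card M := lt_of_le_of_ne (Subgroup.card_le_of_le hPM.le) fun h =>
    hPM.ne (Subgroup.eq_of_le_of_card_ge hPM.le h.ge)
  obtain ⟨M', hM'⟩ : ∃ M', (φ'.comp (Subgroup.inclusion hMN')).range = M' := ⟨_, rfl⟩
  obtain ⟨f, hf, hfv⟩ := exists_iso hφ'E hM'
  have hfv' : ∀ x (hx : x ∈ M), ((f ⟨x, hx⟩ : M') : Ω) = φ' ⟨x, hMN' hx⟩ := fun x hx => hfv ⟨x, hx⟩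
  have hM'S : M' ≤ S := iso_le_right hf
  obtain ⟨M2, hM2, f2, hf2, χ, hχ, hχf, hχN⟩ := pp_transport hS hF hE hM'S
  have hcM' : Nat.card M' = Nat.card M := (Nat.card_congr f.toEquiv).symm
  have hcM2 : Nat.card M2 = Nat.card M := (Nat.card_congr (f.trans f2).toEquiv).symm
  have hrec := hIH M2 hM2 (by rw [hcM2, ← hn]; exact hcP)
  have hM'N : M' ≤ normalizerIn S M' := le_normalizerIn hM'S
  have hφ'M3 : ∀ g (hg : g ∈ M3), φ' ⟨g, hM3N hg⟩ ∈ normalizerIn S M' := by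
    intro g hg
    refine map_normalizer hφ' hMN' (fun y hy => ?_) (fun y hy => ?_) (hM3n hg) (hM3N hg)
    · rw [← hfv' y hy]; exact (f _).2
    · refine ⟨f.symm ⟨y, hy⟩, (f.symm ⟨y, hy⟩).2, ?_⟩
      rw [← hfv' _ (f.symm ⟨y, hy⟩).2]
      show ((f (f.symm ⟨y, hy⟩) : M') : Ω) = y
      rw [MulEquiv.apply_symm_apply]
  have hgv : ∀ x (hx : x ∈ M) (h' : φ' ⟨x, hMN' hx⟩ ∈ normalizerIn S M'), (((f.trans f2) ⟨x, hx⟩ : M2) : Ω) = χ ⟨φ' ⟨x, hMN' hx⟩, h'⟩ := by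
    intro x hx h'
    show ((f2 (f ⟨x, hx⟩) : M2) : Ω) = _
    rw [← hχf _ (f ⟨x, hx⟩).2 (hM'N (f ⟨x, hx⟩).2)]
    congr 1
    exact Subtype.ext (hfv' x hx)
  have hM3ext : M3 ≤ extender S M (M2.subtype.comp (f.trans f2).toMonoidHom) := by
    intro g hg
    rw [mem_extender]
    refine ⟨(hM3n hg).1, (hM3n hg).2, χ ⟨_, hφ'M3 g hg⟩, mem_S hχ _, fun x hx => ?_⟩
    show (((f.trans f2) ⟨g * x * g⁻¹, hx⟩ : M2) : Ω) = χ ⟨_, hφ'M3 g hg⟩ * ((f.trans f2) x : M2) * (χ ⟨_, hφ'M3 g hg⟩)⁻¹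
    have h1 : ∀ y (hy : y ∈ M), φ' ⟨y, hMN' hy⟩ ∈ normalizerIn S M' := fun y hy => hφ'M3 y (hMM3.le hy)
    rw [hgv _ hx (h1 _ hx), show (f.trans f2) x = (f.trans f2) ⟨x, x.2⟩ from rfl, hgv _ x.2 (h1 _ x.2), ← map_inv, ← map_mul, ← map_mul]
    congr 1
    apply Subtype.ext
    show φ' ⟨g * x * g⁻¹, _⟩ = φ' ⟨g, _⟩ * φ' ⟨x, _⟩ * (φ' ⟨g, _⟩)⁻¹
    rw [← map_inv, ← map_mul, ← map_mul]
    rfl
  obtain ⟨ζ2, hζ2, hζ2g⟩ := receptive_extend hrec (iso_trans hf hf2) hM3ext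
  -- the images of P and Q
  have hPM3 : P ≤ M3 := hPM.le.trans hMM3.le
  obtain ⟨P2, hP2⟩ : ∃ P2, (ζ2.comp (Subgroup.inclusion hPM3)).range = P2 := ⟨_, rfl⟩
  obtain ⟨a0, ha0, ha0v⟩ := exists_iso (restrict_mem hζ2 hPM3) hP2
  have ha0v' : ∀ x (hx : x ∈ P), ((a0 ⟨x, hx⟩ : P2) : Ω) = ζ2 ⟨x, hPM3 hx⟩ := fun x hx => ha0v ⟨x, hx⟩
  have hP2S : P2 ≤ S := iso_le_right ha0
  obtain ⟨Q1, hQ1, c, hc, ξ, hξ, hξc, hξN⟩ := pp_transport hS hF hE hP2S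
  have hQN : Q ≤ normalizerIn S M' := by
    intro y hy
    obtain ⟨x, hx, rfl⟩ := hsurj y hy
    rw [← hφ'e x hx]
    exact hφ'M3 x (hPM3 hx)
  have hχa0 : ∀ x (hx : x ∈ P), χ ⟨e ⟨x, hx⟩, hQN (e _).2⟩ = a0 ⟨x, hx⟩ := by
    intro x hx
    rw [ha0v' x hx, hζ2g x (hPM.le hx), hgv x (hPM.le hx) (hφ'M3 x (hPM3 hx))]
    congr 1
    exact Subtype.ext (hφ'e x hx).symm
  have hga : GdH F p E (a0.trans c) := by
    have hmem : ∀ x, ζ2 x ∈ normalizerIn S P2 := by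
      intro x
      refine map_normalizer hζ2 hPM3 (fun y hy => ?_) (fun y hy => ?_) (hNP (hM3N x.2)) x.2
      · rw [← ha0v' y hy]; exact (a0 _).2
      · refine ⟨a0.symm ⟨y, hy⟩, (a0.symm ⟨y, hy⟩).2, ?_⟩
        rw [← ha0v' _ (a0.symm ⟨y, hy⟩).2]
        show ((a0 (a0.symm ⟨y, hy⟩) : P2) : Ω) = y
        rw [MulEquiv.apply_symm_apply]
    refine ih (Nat.card S - Nat.card M3) (by omega) P Q1 M3 (a0.trans c) rfl hP hQ1 hn (iso_trans ha0 hc)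
      (lt_of_lt_of_le hPM hMM3.le) (hM3N.trans hNP) _ (E.comp_mem hζ2 hξ hmem) fun x hx hx' => ?_
    show ξ ⟨ζ2 ⟨x, hx'⟩, _⟩ = c (a0 ⟨x, hx⟩)
    rw [← hξc _ (a0 ⟨x, hx⟩).2 (le_normalizerIn hP2S (a0 ⟨x, hx⟩).2)]
    congr 1
    exact Subtype.ext (ha0v' x hx).symm
  have hgb : GdH F p E ((e.symm.trans a0).trans c) := by
    have hM'Q : M' ≤ normalizerIn S Q := by
      rw [← hM']
      rintro _ ⟨x, rfl⟩
      exact hφ'N _
    haveI : Finite (normalizerIn S Q) := finite_of_le (normalizerIn_le S Q)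
    haveI : Finite (normalizerIn S P) := finite_of_le (normalizerIn_le S P)
    have hlt : M' < normalizerIn S Q := by
      refine lt_of_le_of_ne hM'Q fun h => ?_
      have h1 := card_eq_of_fn hP hQ (hE.1 _ he : e ∈ Iso F P Q)
      rw [← h, hcM'] at h1
      have h2 : Nat.card N ≤ Nat.card (normalizerIn S P) := Subgroup.card_le_of_le hNP
      have h3 : Nat.card M3 ≤ Nat.card N := Subgroup.card_le_of_le hM3N
      omega
    obtain ⟨M4, hM4⟩ : ∃ M4, normalizerIn S Q ⊓ Subgroup.normalizer (M' : Set Ω) = M4 := ⟨_, rfl⟩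
    have hM'M4 : M' < M4 := hM4 ▸ lt_normalizer_inf (hS.to_le (normalizerIn_le S Q)) hlt
    have hM4Q : M4 ≤ normalizerIn S Q := hM4 ▸ inf_le_left
    have hM4N : M4 ≤ normalizerIn S M' := by
      rw [← hM4]; exact inf_le_inf (normalizerIn_le S Q) le_rfl
    haveI : Finite M4 := finite_of_le (hM4Q.trans (normalizerIn_le S Q))
    have hcM4 : Nat.card M' < Nat.card M4 := lt_of_le_of_ne (Subgroup.card_le_of_le hM'M4.le) fun h =>
      hM'M4.ne (Subgroup.eq_of_le_of_card_ge hM'M4.le h.ge)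
    have hcM4S : Nat.card M4 ≤ Nat.card S := Subgroup.card_le_of_le (hM4Q.trans (normalizerIn_le S Q))
    have hQM' : Q ≤ M' := by
      intro y hy
      obtain ⟨x, hx, rfl⟩ := hsurj y hy
      rw [← hφ'e x hx, ← hM']
      exact ⟨⟨x, hPM.le hx⟩, rfl⟩
    have hcQ : Nat.card Q = n := by rw [← hn]; exact (Nat.card_congr e.toEquiv).symm
    have hQltM' : Q < M' := lt_of_le_of_ne hQM' fun h => by
      have h1 : Nat.card Q = Nat.card M' := by rw [h]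
      omega
    have hmem : ∀ x : M4, (χ.comp (Subgroup.inclusion hM4N)) x ∈ normalizerIn S P2 := by
      intro x
      refine map_normalizer hχ hQN (fun y hy => ?_) (fun y hy => ?_) (hM4Q x.2) (hM4N x.2)
      · obtain ⟨x, hx, rfl⟩ := hsurj y hy
        rw [hχa0 x hx]; exact (a0 _).2
      · have h1 := hχa0 (a0.symm ⟨y, hy⟩) (a0.symm ⟨y, hy⟩).2
        refine ⟨_, (e (a0.symm ⟨y, hy⟩)).2, h1.trans ?_⟩
        show ((a0 (a0.symm ⟨y, hy⟩) : P2) : Ω) = y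
        rw [MulEquiv.apply_symm_apply]
    refine ih (Nat.card S - Nat.card M4) (by omega) Q Q1 M4 ((e.symm.trans a0).trans c) rfl hQ hQ1 hcQ
      (iso_trans (iso_trans (iso_symm he) ha0) hc) (hQltM'.trans hM'M4) hM4Q _
      (E.comp_mem (restrict_mem hχ hM4N) hξ hmem) fun y hy hy' => ?_
    show ξ ⟨χ ⟨y, _⟩, _⟩ = c (a0 (e.symm ⟨y, hy⟩))
    rw [← hξc _ (a0 (e.symm ⟨y, hy⟩)).2 (le_normalizerIn hP2S (a0 _).2)]
    congr 1
    apply Subtype.ext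
    show χ ⟨y, _⟩ = a0 (e.symm ⟨y, hy⟩)
    have h1 := hχa0 (e.symm ⟨y, hy⟩) (e.symm ⟨y, hy⟩).2
    refine Eq.trans ?_ h1
    congr 1
    apply Subtype.ext
    show y = ((e (e.symm ⟨y, hy⟩) : Q) : Ω)
    rw [MulEquiv.apply_symm_apply]
  have hb := GdH_symm hE.1 hS hgb (card_Ph_le hS hF hQ (iso_symm (hE.1 _ hgb.1 : _ ∈ Iso F Q Q1)))
  have hfin := GdH_trans hE.1 hS hga hb
  have heq : (a0.trans c).trans ((e.symm.trans a0).trans c).symm = e := by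
    ext x
    simp
  rw [heq] at hfin
  exact hfin

end CfsgLib.Fus21
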