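import Mathlib.Algebra.Group.Subgroup.Finite
import Mathlib.GroupTheory.GroupAction.Quotient
import Mathlib.GroupTheory.Coset.Card
import Mathlib.GroupTheory.Index
import Mathlib.Data.Set.Card
import Mathlib.Data.Set.Finite.Lemmas
import Mathlib.SetTheory.Cardinal.Finite
import Mathlib.Data.Fintype.BigOperators

set_option autoImplicit false

/-! Finite `A`-sets with the same marks are isomorphic. -/

namespace CfsgLib.Fus21

universe u v w

variable {A : Type u} [Group A]

/-- the fixed points of `H` -/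
def fxs {X : Type v} (ρ : A →* Equiv.Perm X) (H : Subgroup A) : Set X := {x | ∀ a ∈ H, ρ a x = x}

/-- the stabilizer of `x` -/
def stb {X : Type v} (ρ : A →* Equiv.Perm X) (x : X) : Subgroup A where
  carrier := {a | ρ a x = x}
  one_mem' := by simp
  mul_mem' := by
    intro a b ha hb
    show ρ (a * b) x = x
    rw [map_mul, Equiv.Perm.mul_apply, show ρ b x = x from hb, show ρ a x = x from ha]
  inv_mem' := by
    intro a ha
    show ρ a⁻¹ x = x
    rw [map_inv, Equiv.Perm.inv_eq_iff_eq]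
    exact (show ρ a x = x from ha).symm

theorem mem_stb {X : Type v} {ρ : A →* Equiv.Perm X} {x : X} {a : A} : a ∈ stb ρ x ↔ ρ a x = x := Iff.rfl

theorem mem_fxs {X : Type v} {ρ : A →* Equiv.Perm X} {H : Subgroup A} {x : X} : x ∈ fxs ρ H ↔ H ≤ stb ρ x := Iff.rfl

theorem ρ_mul {X : Type v} (ρ : A →* Equiv.Perm X) (a b : A) (x : X) : ρ (a * b) x = ρ a (ρ b x) := by
  rw [map_mul, Equiv.Perm.mul_apply]

theorem ρ_inv {X : Type v} (ρ : A →* Equiv.Perm X) (a : A) (x : X) : ρ a⁻¹ (ρ a x) = x := by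
  rw [← ρ_mul, inv_mul_cancel, map_one]; rfl

theorem ρ_inv' {X : Type v} (ρ : A →* Equiv.Perm X) (a : A) (x : X) : ρ a (ρ a⁻¹ x) = x := by
  rw [← ρ_mul, mul_inv_cancel, map_one]; rfl

/-- orbits -/
def orb {X : Type v} (ρ : A →* Equiv.Perm X) (x : X) : Set X := {y | ∃ a, ρ a x = y}

theorem burnside_aux [Finite A] {X : Type v} {Y : Type w} [Finite X] [Finite Y] [Nonempty Y] (ρ : A →* Equiv.Perm X) (σ : A →* Equiv.Perm Y) :
    ∀ (n : ℕ) (U : Set X) (V : Set Y), U.ncard = n → (∀ a, ∀ x ∈ U, ρ a x ∈ U) → (∀ a, ∀ y ∈ V, σ a y ∈ V) →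
      (∀ H : Subgroup A, (U ∩ fxs ρ H).ncard = (V ∩ fxs σ H).ncard) →
      ∃ f : X → Y, Set.BijOn f U V ∧ ∀ a, ∀ x ∈ U, f (ρ a x) = σ a (f x) := by
  classical
  intro n
  induction n using Nat.strong_induction_on with
  | _ n ih =>
    intro U V hn hU hV hm
    rcases U.eq_empty_or_nonempty with rfl | hne
    · have h1 := hm ⊥
      have h2 : fxs σ (⊥ : Subgroup A) = Set.univ := by
        ext y
        simp [fxs]
      rw [Set.empty_inter, Set.ncard_empty, h2, Set.inter_univ] at h1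
      have h3 : V = ∅ := (Set.ncard_eq_zero (Set.toFinite V)).1 h1.symm
      subst h3
      refine ⟨fun _ => Classical.arbitrary Y, ?_, fun a x hx => hx.elim⟩
      exact ⟨fun x hx => hx.elim, fun x hx => hx.elim, fun x hx => hx.elim⟩
    · -- a point with maximal stabilizer
      obtain ⟨x, hxU, hxmax⟩ := Set.exists_max_image U (fun x => Nat.card (stb ρ x)) (Set.toFinite U) hne
      have h1 : (U ∩ fxs ρ (stb ρ x)).Nonempty := ⟨x, hxU, mem_fxs.2 le_rfl⟩
      have h2 : (V ∩ fxs σ (stb ρ x)).Nonempty := by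
        rw [← Set.ncard_pos (Set.toFinite _), ← hm, Set.ncard_pos (Set.toFinite _)]; exact h1
      obtain ⟨y, hyV, hy⟩ := h2
      have hle : stb ρ x ≤ stb σ y := hy
      have h3 : (U ∩ fxs ρ (stb σ y)).Nonempty := by
        rw [← Set.ncard_pos (Set.toFinite _), hm, Set.ncard_pos (Set.toFinite _)]
        exact ⟨y, hyV, mem_fxs.2 le_rfl⟩
      obtain ⟨x', hx'U, hx'⟩ := h3
      have hle' : stb σ y ≤ stb ρ x' := hx'
      have heq : stb ρ x = stb σ y := by
        refine Subgroup.eq_of_le_of_card_ge hle ?_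
        exact (Nat.card_le_card_of_injective _ (Subgroup.inclusion_injective hle')).trans (hxmax x' hx'U)
      -- the bijection of orbits
      have hkey : ∀ a b : A, ρ a x = ρ b x ↔ σ a y = σ b y := by
        intro a b
        have e1 : ρ a x = ρ b x ↔ b⁻¹ * a ∈ stb ρ x := by
          rw [mem_stb, ρ_mul]
          constructor
          · intro h; rw [h, ρ_inv]
          · intro h
            have := congrArg (ρ b) h
            rwa [ρ_inv'] at this
        have e2 : σ a y = σ b y ↔ b⁻¹ * a ∈ stb σ y := by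
          rw [mem_stb, ρ_mul]
          constructor
          · intro h; rw [h, ρ_inv]
          · intro h
            have := congrArg (σ b) h
            rwa [ρ_inv'] at this
        rw [e1, e2, heq]
      let g : X → Y := fun z => if h : ∃ a, ρ a x = z then σ (Classical.choose h) y else Classical.arbitrary Y
      have hg : ∀ a, g (ρ a x) = σ a y := by
        intro a
        have h : ∃ b, ρ b x = ρ a x := ⟨a, rfl⟩
        have h4 : g (ρ a x) = σ (Classical.choose h) y := dif_pos h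
        rw [h4]
        exact (hkey _ _).1 (Classical.choose_spec h)
      have hgb : Set.BijOn g (orb ρ x) (orb σ y) := by
        refine ⟨?_, ?_, ?_⟩
        · rintro _ ⟨a, rfl⟩; exact ⟨a, (hg a).symm⟩
        · rintro _ ⟨a, rfl⟩ _ ⟨b, rfl⟩ h
          rw [hg, hg] at h
          exact (hkey a b).2 h
        · rintro _ ⟨a, rfl⟩; exact ⟨ρ a x, ⟨a, rfl⟩, hg a⟩
      have horbU : orb ρ x ⊆ U := by rintro _ ⟨a, rfl⟩; exact hU a x hxU
      have horbV : orb σ y ⊆ V := by rintro _ ⟨a, rfl⟩; exact hV a y hyV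
      have horbm : ∀ H : Subgroup A, (orb ρ x ∩ fxs ρ H).ncard = (orb σ y ∩ fxs σ H).ncard := by
        intro H
        have : g '' (orb ρ x ∩ fxs ρ H) = orb σ y ∩ fxs σ H := by
          ext z
          constructor
          · rintro ⟨_, ⟨⟨a, rfl⟩, h⟩, rfl⟩
            rw [hg]
            refine ⟨⟨a, rfl⟩, fun b hb => ?_⟩
            rw [← ρ_mul]
            refine (hkey _ _).1 ?_
            rw [ρ_mul]; exact h b hb
          · rintro ⟨⟨a, rfl⟩, h⟩
            refine ⟨ρ a x, ⟨⟨a, rfl⟩, fun b hb => ?_⟩, hg a⟩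
            rw [← ρ_mul]
            refine (hkey _ _).2 ?_
            rw [ρ_mul]; exact h b hb
        rw [← this, Set.ncard_image_of_injOn (hgb.2.1.mono Set.inter_subset_left)]
      -- the rest
      have hm' : ∀ H : Subgroup A, ((U \ orb ρ x) ∩ fxs ρ H).ncard = ((V \ orb σ y) ∩ fxs σ H).ncard := by
        intro H
        have e1 : (U \ orb ρ x) ∩ fxs ρ H = (U ∩ fxs ρ H) \ (orb ρ x ∩ fxs ρ H) := by
          ext z; simp only [Set.mem_inter_iff, Set.mem_diff]; tauto
        have e2 : (V \ orb σ y) ∩ fxs σ H = (V ∩ fxs σ H) \ (orb σ y ∩ fxs σ H) := by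
          ext z; simp only [Set.mem_inter_iff, Set.mem_diff]; tauto
        rw [e1, e2, Set.ncard_diff (Set.inter_subset_inter_left _ horbU), Set.ncard_diff (Set.inter_subset_inter_left _ horbV), hm, horbm]
      have hlt : (U \ orb ρ x).ncard < n := by
        rw [← hn]
        refine Set.ncard_lt_ncard ⟨Set.sdiff_subset, fun h => ?_⟩ (Set.toFinite U)
        exact (h hxU).2 ⟨1, by rw [map_one]; rfl⟩
      have horbinv : ∀ a z, z ∈ orb ρ x ↔ ρ a z ∈ orb ρ x := by
        intro a z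
        constructor
        · rintro ⟨b, rfl⟩; exact ⟨a * b, ρ_mul ρ a b x⟩
        · rintro ⟨b, hb⟩; exact ⟨a⁻¹ * b, by rw [ρ_mul, hb, ρ_inv]⟩
      have horbinv' : ∀ a z, z ∈ orb σ y ↔ σ a z ∈ orb σ y := by
        intro a z
        constructor
        · rintro ⟨b, rfl⟩; exact ⟨a * b, ρ_mul σ a b y⟩
        · rintro ⟨b, hb⟩; exact ⟨a⁻¹ * b, by rw [ρ_mul, hb, ρ_inv]⟩
      obtain ⟨f, hf, hfe⟩ := ih _ hlt (U \ orb ρ x) (V \ orb σ y) rfl
        (fun a z hz => ⟨hU a z hz.1, fun h => hz.2 ((horbinv a z).2 h)⟩)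
        (fun a z hz => ⟨hV a z hz.1, fun h => hz.2 ((horbinv' a z).2 h)⟩) hm'
      let F : X → Y := fun z => if z ∈ orb ρ x then g z else f z
      have hF1 : ∀ z ∈ orb ρ x, F z = g z := fun z hz => if_pos hz
      have hF2 : ∀ z, z ∉ orb ρ x → F z = f z := fun z hz => if_neg hz
      refine ⟨F, ⟨?_, ?_, ?_⟩, ?_⟩
      · intro z hz
        by_cases h : z ∈ orb ρ x
        · rw [hF1 z h]; exact horbV (hgb.1 h)
        · rw [hF2 z h]; exact (hf.1 ⟨hz, h⟩).1
      · intro z hz z' hz' he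
        by_cases h : z ∈ orb ρ x
        · by_cases h' : z' ∈ orb ρ x
          · rw [hF1 z h, hF1 z' h'] at he; exact hgb.2.1 h h' he
          · rw [hF1 z h, hF2 z' h'] at he
            exact ((hf.1 ⟨hz', h'⟩).2 (he ▸ hgb.1 h)).elim
        · by_cases h' : z' ∈ orb ρ x
          · rw [hF2 z h, hF1 z' h'] at he
            exact ((hf.1 ⟨hz, h⟩).2 (he ▸ hgb.1 h')).elim
          · rw [hF2 z h, hF2 z' h'] at he; exact hf.2.1 ⟨hz, h⟩ ⟨hz', h'⟩ he
      · intro z hz
        by_cases h : z ∈ orb σ y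
        · obtain ⟨t, ht, rfl⟩ := hgb.2.2 h
          exact ⟨t, horbU ht, hF1 t ht⟩
        · obtain ⟨t, ht, rfl⟩ := hf.2.2 ⟨hz, h⟩
          exact ⟨t, ht.1, hF2 t ht.2⟩
      · intro a z hz
        by_cases h : z ∈ orb ρ x
        · rw [hF1 _ ((horbinv a z).1 h), hF1 z h]
          obtain ⟨b, rfl⟩ := h
          rw [← ρ_mul, hg, hg, ρ_mul]
        · rw [hF2 _ (fun h' => h ((horbinv a z).2 h')), hF2 z h]
          exact hfe a z ⟨hz, h⟩

theorem burnside [Finite A] {X : Type v} {Y : Type w} [Finite X] [Finite Y] (ρ : A →* Equiv.Perm X) (σ : A →* Equiv.Perm Y)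
    (hm : ∀ H : Subgroup A, (fxs ρ H).ncard = (fxs σ H).ncard) : ∃ e : X ≃ Y, ∀ a x, e (ρ a x) = σ a (e x) := by
  rcases isEmpty_or_nonempty Y with hY | hY
  · have h1 := hm ⊥
    have h2 : fxs ρ (⊥ : Subgroup A) = Set.univ := by
      ext y
      simp [fxs]
    have h3 : fxs σ (⊥ : Subgroup A) = ∅ := Set.eq_empty_of_isEmpty _
    rw [h2, h3, Set.ncard_empty, Set.ncard_univ] at h1
    haveI : IsEmpty X := (Nat.card_eq_zero.1 h1).resolve_right (fun h => h.not_finite inferInstance)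
    exact ⟨Equiv.equivOfIsEmpty X Y, fun a x => (this.false x).elim⟩
  · obtain ⟨f, hf, hfe⟩ := burnside_aux ρ σ _ Set.univ Set.univ rfl (fun _ _ _ => trivial) (fun _ _ _ => trivial)
      (fun H => by rw [Set.univ_inter, Set.univ_inter]; exact hm H)
    exact ⟨Equiv.ofBijective f (Set.bijOn_univ.1 hf), fun a x => hfe a x trivial⟩

end CfsgLib.Fus21
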