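import Cfsg.Agent.LibFus21Pk1
import Mathlib.Tactic

set_option autoImplicit false

/-! A finite `A`-set with constant marks. -/

namespace CfsgLib.Fus21

universe u

variable {A : Type u} [Group A]

open scoped Pointwise

/-- the conjugate `g⁻¹ H g` -/
def cjg (g : A) (H : Subgroup A) : Subgroup A := H.map (MulAut.conj g⁻¹).toMonoidHom

theorem mem_cjg {g : A} {H : Subgroup A} {x : A} : x ∈ cjg g H ↔ g * x * g⁻¹ ∈ H := by
  constructor
  · rintro ⟨y, hy, rfl⟩
    have e : g * (g⁻¹ * y * g⁻¹⁻¹) * g⁻¹ = y := by group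
    show g * (g⁻¹ * y * g⁻¹⁻¹) * g⁻¹ ∈ H
    rw [e]; exact hy
  · intro h
    refine ⟨_, h, ?_⟩
    show g⁻¹ * (g * x * g⁻¹) * g⁻¹⁻¹ = x
    group

theorem card_cjg (g : A) (H : Subgroup A) : Nat.card (cjg g H) = Nat.card H :=
  (Nat.card_congr (H.equivMapOfInjective (MulAut.conj g⁻¹).toMonoidHom (MulAut.conj g⁻¹).injective).toEquiv).symm

/-- the permutation action on cosets -/
def cosρ (H : Subgroup A) : A →* Equiv.Perm (A ⧸ H) := MulAction.toPermHom A (A ⧸ H)

theorem stb_cos (H : Subgroup A) (g : A) : stb (cosρ H) (g : A ⧸ H) = cjg g⁻¹ H := by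
  ext a
  rw [mem_stb, mem_cjg]
  show a • (g : A ⧸ H) = g ↔ _
  rw [MulAction.Quotient.smul_coe, eq_comm, QuotientGroup.eq, inv_inv, smul_eq_mul, mul_assoc]

/-- the number of fixed points of `H` on `A/K` for `|H| = |K|` -/
theorem card_fix_cos [Finite A] {H K : Subgroup A} (hc : Nat.card K = Nat.card H) :
    Nat.card K * (fxs (cosρ K) H).ncard = {g : A | cjg g H = K}.ncard := by
  have h1 : (QuotientGroup.mk ⁻¹' (fxs (cosρ K) H) : Set A) = {g : A | cjg g H = K} := by
    ext g
    rw [Set.mem_preimage, mem_fxs, stb_cos]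
    constructor
    · intro h
      refine Subgroup.eq_of_le_of_card_ge ?_ (by rw [card_cjg, hc])
      intro x hx
      have h2 := h (mem_cjg.1 hx)
      rw [mem_cjg] at h2
      have e : g⁻¹ * (g * x * g⁻¹) * g⁻¹⁻¹ = x := by group
      rwa [e] at h2
    · intro h x hx
      rw [mem_cjg, ← (show cjg g H = K from h), mem_cjg]
      have e : g * (g⁻¹ * x * g⁻¹⁻¹) * g⁻¹ = x := by group
      rwa [e]
  rw [← h1, ← Nat.card_coe_set_eq, ← Nat.card_coe_set_eq, Nat.card_congr (QuotientGroup.preimageMkEquivSubgroupProdSet K (fxs (cosρ K) H)),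
    Nat.card_prod]

theorem no_fix_cos [Finite A] {H K : Subgroup A} (hc : Nat.card K < Nat.card H) : (fxs (cosρ K) H).ncard = 0 := by
  rw [Set.ncard_eq_zero (Set.toFinite _), Set.eq_empty_iff_forall_notMem]
  intro q hq
  obtain ⟨g, rfl⟩ := QuotientGroup.mk_surjective q
  rw [mem_fxs, stb_cos] at hq
  have := Nat.card_le_card_of_injective _ (Subgroup.inclusion_injective hq)
  rw [card_cjg] at this
  omega

/-- a disjoint union of `A`-sets -/
def sgρ {I : Type u} {X : I → Type u} (ρ : ∀ i, A →* Equiv.Perm (X i)) : A →* Equiv.Perm (Σ i, X i) where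
  toFun a := Equiv.sigmaCongrRight fun i => ρ i a
  map_one' := by
    apply Equiv.ext
    rintro ⟨i, x⟩
    show (⟨i, ρ i 1 x⟩ : Σ i, X i) = ⟨i, x⟩
    rw [map_one]; rfl
  map_mul' a b := by
    apply Equiv.ext
    rintro ⟨i, x⟩
    show (⟨i, ρ i (a * b) x⟩ : Σ i, X i) = ⟨i, ρ i a (ρ i b x)⟩
    rw [ρ_mul]

theorem sgρ_apply {I : Type u} {X : I → Type u} (ρ : ∀ i, A →* Equiv.Perm (X i)) (a : A) (i : I) (x : X i) :
    sgρ ρ a ⟨i, x⟩ = ⟨i, ρ i a x⟩ := rfl

theorem stb_sg {I : Type u} {X : I → Type u} (ρ : ∀ i, A →* Equiv.Perm (X i)) (i : I) (x : X i) :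
    stb (sgρ ρ) ⟨i, x⟩ = stb (ρ i) x := by
  ext a
  rw [mem_stb, mem_stb, sgρ_apply]
  constructor
  · intro h
    simpa using h
  · intro h; rw [h]

theorem card_fix_sg {I : Type u} [Fintype I] {X : I → Type u} [∀ i, Finite (X i)] (ρ : ∀ i, A →* Equiv.Perm (X i)) (H : Subgroup A) :
    (fxs (sgρ ρ) H).ncard = ∑ i, (fxs (ρ i) H).ncard := by
  rw [← Nat.card_coe_set_eq]
  let e : (fxs (sgρ ρ) H) ≃ Σ i, (fxs (ρ i) H) :=
    { toFun := fun x => ⟨x.1.1, x.1.2, fun a ha => by
        have := x.2 a ha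
        rcases x with ⟨⟨i, x⟩, h⟩
        simpa [sgρ_apply] using this⟩
      invFun := fun y => ⟨⟨y.1, y.2.1⟩, fun a ha => by rw [sgρ_apply, y.2.2 a ha]⟩
      left_inv := fun x => rfl
      right_inv := fun y => rfl }
  rw [Nat.card_congr e, Nat.card_sigma]
  simp only [Nat.card_coe_set_eq]

theorem balanced [Finite A] (𝒞 : Set (Subgroup A)) (hconj : ∀ H ∈ 𝒞, ∀ g, cjg g H ∈ 𝒞) :
    ∀ j : ℕ, ∃ (X : Type u) (_ : Finite X) (ρ : A →* Equiv.Perm X) (m : ℕ → ℕ), (∀ x, stb ρ x ∈ 𝒞) ∧
      (∀ H ∈ 𝒞, Nat.card A + 1 ≤ Nat.card H + j → (fxs ρ H).ncard = m (Nat.card H)) ∧ ∀ i, 0 < m i := by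
  classical
  intro j
  induction j with
  | zero =>
    refine ⟨PEmpty, inferInstance, 1, fun _ => 1, fun x => x.elim, fun H _ h => ?_, fun _ => one_pos⟩
    have := Subgroup.card_le_card_group H
    omega
  | succ j ih =>
    obtain ⟨X, hX, ρ, m, h1, h2, h3⟩ := ih
    -- the subgroups of order k
    set k := Nat.card A - j with hk
    by_cases hkj : Nat.card A ≤ j
    · refine ⟨X, hX, ρ, m, h1, fun H hH _ => h2 H hH ?_, h3⟩
      have : 0 < Nat.card H := Nat.card_pos
      omega
    have hkpos : 0 < k := by omega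
    let D := {H : Subgroup A // H ∈ 𝒞 ∧ Nat.card H = k}
    haveI : Finite D := inferInstance
    haveI : Fintype D := Fintype.ofFinite D
    obtain ⟨B, hB⟩ : ∃ B : ℕ, ∀ H : Subgroup A, (fxs ρ H).ncard ≤ B := ⟨Nat.card X, fun H => by
      rw [← Set.ncard_univ]; exact Set.ncard_le_ncard (Set.subset_univ _) (Set.toFinite _)⟩
    let c : D → ℕ := fun H => k * (B + 1 - (fxs ρ H.1).ncard)
    -- the index type: copies of X, and copies of cosets
    let I := ULift.{u} (Fin (Nat.card A)) ⊕ Σ H : D, ULift.{u} (Fin (c H))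
    let Y : I → Type u := fun i => match i with
      | Sum.inl _ => X
      | Sum.inr t => A ⧸ t.1.1
    haveI hYfin : ∀ i, Finite (Y i) := fun i => match i with
      | Sum.inl _ => hX
      | Sum.inr t => (inferInstance : Finite (A ⧸ t.1.1))
    let τ : ∀ i, A →* Equiv.Perm (Y i) := fun i => match i with
      | Sum.inl _ => ρ
      | Sum.inr t => cosρ t.1.1
    -- class function
    have hcl : ∀ (H : Subgroup A) (g : A), (fxs ρ (cjg g H)).ncard = (fxs ρ H).ncard := by
      intro H g
      have : (fxs ρ (cjg g H)) = (ρ g⁻¹) '' (fxs ρ H) := by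
        ext x
        constructor
        · intro h
          refine ⟨ρ g x, fun a ha => ?_, ρ_inv ρ g x⟩
          have e := h (g⁻¹ * a * g) (mem_cjg.2 (by
            have e : g * (g⁻¹ * a * g) * g⁻¹ = a := by group
            rw [e]; exact ha))
          rw [← ρ_mul]
          have e2 : a * g = g * (g⁻¹ * a * g) := by group
          rw [e2, ρ_mul, e]
        · rintro ⟨y, hy, rfl⟩ a ha
          have e := hy _ (mem_cjg.1 ha)
          rw [← ρ_mul]
          have e2 : a * g⁻¹ = g⁻¹ * (g * a * g⁻¹) := by group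
          rw [e2, ρ_mul, e]
      rw [this, Set.ncard_image_of_injective _ (ρ g⁻¹).injective]
    have hsum : ∀ H : Subgroup A, (fxs (sgρ τ) H).ncard = Nat.card A * (fxs ρ H).ncard + ∑ K : D, c K * (fxs (cosρ K.1) H).ncard := by
      intro H
      rw [card_fix_sg, Fintype.sum_sum_type, Fintype.sum_sigma]
      congr 1
      · show ∑ _ : ULift (Fin (Nat.card A)), (fxs ρ H).ncard = _
        rw [Finset.sum_const, Finset.card_univ, Fintype.card_ulift, Fintype.card_fin, smul_eq_mul]
      · refine Finset.sum_congr rfl fun K _ => ?_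
        show ∑ _ : ULift (Fin (c K)), (fxs (cosρ K.1) H).ncard = _
        rw [Finset.sum_const, Finset.card_univ, Fintype.card_ulift, Fintype.card_fin, smul_eq_mul]
    refine ⟨Σ i, Y i, inferInstance, sgρ τ, fun i => if i = k then Nat.card A * (B + 1) else Nat.card A * m i, ?_, ?_, ?_⟩
    · rintro ⟨i, x⟩
      rw [stb_sg]
      rcases i with i | ⟨K, i⟩
      · exact h1 x
      · obtain ⟨g, rfl⟩ := QuotientGroup.mk_surjective (s := K.1) x
        show stb (cosρ K.1) (g : A ⧸ K.1) ∈ 𝒞
        rw [stb_cos]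
        exact hconj _ K.2.1 _
    · intro H hH hle
      rw [hsum]
      show _ = if Nat.card H = k then Nat.card A * (B + 1) else Nat.card A * m (Nat.card H)
      by_cases hHk : Nat.card H = k
      · rw [if_pos hHk]
        -- count
        have hAk : 0 < Nat.card A := Nat.card_pos
        refine Nat.eq_of_mul_eq_mul_left hkpos ?_
        rw [Nat.mul_add, Finset.mul_sum]
        have e1 : ∀ K : D, k * (c K * (fxs (cosρ K.1) H).ncard) = (k * (B + 1 - (fxs ρ H).ncard)) * {g : A | cjg g H = K.1}.ncard := by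
          intro K
          rw [← card_fix_cos (hc := K.2.2.trans hHk.symm), K.2.2]
          by_cases hz : (fxs (cosρ K.1) H).ncard = 0
          · rw [hz]; simp
          · obtain ⟨q, hq⟩ := (Set.ncard_pos (Set.toFinite _)).1 (Nat.pos_of_ne_zero hz)
            obtain ⟨g, rfl⟩ := QuotientGroup.mk_surjective (s := K.1) q
            have hq' : H ≤ stb (cosρ K.1) (g : A ⧸ K.1) := hq
            rw [stb_cos] at hq'
            have h4 : H = cjg g⁻¹ K.1 := Subgroup.eq_of_le_of_card_ge hq' (by rw [card_cjg, K.2.2, hHk])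
            have h5 : (fxs ρ H).ncard = (fxs ρ K.1).ncard := by rw [h4, hcl]
            rw [h5]
            show k * (k * (B + 1 - (fxs ρ K.1).ncard) * _) = _
            ring
        rw [Finset.sum_congr rfl fun K _ => e1 K, ← Finset.mul_sum]
        have e2 : ∑ K : D, {g : A | cjg g H = K.1}.ncard = Nat.card A := by
          haveI : Fintype A := Fintype.ofFinite A
          have hmaps : ∀ g : A, cjg g H ∈ 𝒞 ∧ Nat.card (cjg g H) = k := fun g => ⟨hconj H hH g, (card_cjg g H).trans hHk⟩
          have e3 := Finset.card_eq_sum_card_fiberwise (s := (Finset.univ : Finset A)) (t := (Finset.univ : Finset D))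
            (f := fun g => (⟨cjg g H, hmaps g⟩ : D)) (fun _ _ => Finset.mem_univ _)
          rw [Nat.card_eq_fintype_card, ← Finset.card_univ, e3]
          refine Finset.sum_congr rfl fun K _ => ?_
          rw [← Set.ncard_coe_finset]
          congr 1
          ext g
          simp only [Set.mem_setOf_eq, Finset.coe_filter, Finset.mem_univ, true_and]
          exact ⟨fun h => Subtype.ext h, fun h => congrArg Subtype.val h⟩
        rw [e2]
        have h6 := hB H
        obtain ⟨d, hd⟩ : ∃ d, B + 1 = (fxs ρ H).ncard + d := ⟨B + 1 - (fxs ρ H).ncard, by omega⟩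
        rw [hd, Nat.add_sub_cancel_left]
        ring
      · rw [if_neg hHk]
        have hlt : k < Nat.card H := by omega
        have e1 : ∑ K : D, c K * (fxs (cosρ K.1) H).ncard = 0 := by
          refine Finset.sum_eq_zero fun K _ => ?_
          rw [no_fix_cos (by rw [K.2.2]; exact hlt), mul_zero]
        rw [e1, add_zero, h2 H hH (by omega)]
    · intro i
      have hAk : 0 < Nat.card A := Nat.card_pos
      show 0 < if i = k then _ else _
      split_ifs
      · exact Nat.mul_pos hAk (Nat.succ_pos B)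
      · exact Nat.mul_pos hAk (h3 i)

end CfsgLib.Fus21
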