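import Cfsg.Agent.LibFus21Pk2
import Cfsg.Agent.LibFus21Basic

set_option autoImplicit false

/-! Park: every fusion system is realized inside a finite group. -/

namespace CfsgLib.Fus21

open Cfsg Cfsg.FusionSystem

universe u

variable {Ω : Type u} [Group Ω] {S : Subgroup Ω}

/-- graphs of maps of the system -/
def Gr (F : FusionSystem S) : Set (Subgroup (S × S)) :=
  {H | ∃ (Q : Subgroup Ω) (ψ : Q →* Ω), ψ ∈ F.Hom Q ∧ ∀ x : S × S, x ∈ H ↔ ∃ hq : (x.1 : Ω) ∈ Q, ψ ⟨x.1, hq⟩ = x.2}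

theorem Gr_conj (F : FusionSystem S) : ∀ H ∈ Gr F, ∀ g, cjg g H ∈ Gr F := by
  rintro H ⟨Q, ψ, hψ, hH⟩ ⟨g, k⟩
  have hQS := le_S hψ
  -- conj by g⁻¹ on the source, by k⁻¹ on the target
  set Q' : Subgroup Ω := Q.map (MulAut.conj (g : Ω)⁻¹).toMonoidHom with hQ'
  have hmem : ∀ x, x ∈ Q' ↔ (g : Ω) * x * (g : Ω)⁻¹ ∈ Q := by
    intro x
    constructor
    · rintro ⟨y, hy, rfl⟩
      have e : (g : Ω) * ((g : Ω)⁻¹ * y * (g : Ω)⁻¹⁻¹) * (g : Ω)⁻¹ = y := by group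
      show (g : Ω) * ((g : Ω)⁻¹ * y * (g : Ω)⁻¹⁻¹) * (g : Ω)⁻¹ ∈ Q
      rw [e]; exact hy
    · intro h
      refine ⟨_, h, ?_⟩
      show (g : Ω)⁻¹ * ((g : Ω) * x * (g : Ω)⁻¹) * (g : Ω)⁻¹⁻¹ = x
      group
  have hQ'S : Q' ≤ S := fun x hx => by
    have h1 := hQS ((hmem x).1 hx)
    have e : x = (g : Ω)⁻¹ * ((g : Ω) * x * (g : Ω)⁻¹) * g := by group
    rw [e]; exact S.mul_mem (S.mul_mem (S.inv_mem g.2) h1) g.2
  have h1 : conjHom Q' (g : Ω) ∈ F.Hom Q' := F.conj_mem hQ'S g.2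
  have h2 := F.comp_mem h1 hψ (fun x => (hmem x).1 x.2)
  have h3 : conjHom S (k : Ω)⁻¹ ∈ F.Hom S := F.conj_mem le_rfl (S.inv_mem k.2)
  have h4 := F.comp_mem h2 h3 (fun x => mem_S hψ _)
  refine ⟨Q', _, h4, ?_⟩
  rintro ⟨x, y⟩
  rw [mem_cjg]
  show (g, k) * (x, y) * (g, k)⁻¹ ∈ H ↔ _
  rw [hH]
  constructor
  · rintro ⟨hq, h⟩
    refine ⟨(hmem x).2 hq, ?_⟩
    show (k : Ω)⁻¹ * ψ ⟨(g : Ω) * x * (g : Ω)⁻¹, _⟩ * (k : Ω)⁻¹⁻¹ = y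
    have h' : ψ ⟨(g : Ω) * x * (g : Ω)⁻¹, hq⟩ = (k : Ω) * y * (k : Ω)⁻¹ := h
    rw [h']; group
  · rintro ⟨hq, h⟩
    have h' : (k : Ω)⁻¹ * ψ ⟨(g : Ω) * x * (g : Ω)⁻¹, (hmem x).1 hq⟩ * (k : Ω)⁻¹⁻¹ = y := h
    refine ⟨(hmem x).1 hq, ?_⟩
    show ψ ⟨(g : Ω) * x * (g : Ω)⁻¹, _⟩ = (k : Ω) * y * (k : Ω)⁻¹
    rw [← h']; group

theorem Gr_sub (F : FusionSystem S) {H K : Subgroup (S × S)} (hH : H ∈ Gr F) (hK : K ≤ H) : K ∈ Gr F := by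
  obtain ⟨Q, ψ, hψ, hH⟩ := hH
  set Q' : Subgroup Ω := (K.map (MonoidHom.fst S S)).map S.subtype with hQ'
  have hQ'Q : Q' ≤ Q := by
    rintro _ ⟨_, ⟨x, hx, rfl⟩, rfl⟩
    exact ((hH x).1 (hK hx)).1
  refine ⟨Q', _, restrict_mem hψ hQ'Q, fun x => ?_⟩
  constructor
  · intro hx
    exact ⟨⟨x.1, ⟨x, hx, rfl⟩, rfl⟩, ((hH x).1 (hK hx)).2⟩
  · rintro ⟨⟨_, ⟨y, hy, rfl⟩, hyx⟩, h⟩
    obtain ⟨h1, h2⟩ := (hH y).1 (hK hy)
    have e1 : x.1 = y.1 := Subtype.ext hyx.symm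
    have e2 : x.2 = y.2 := by
      apply Subtype.ext
      rw [← h, ← h2]
      show ψ ⟨x.1, _⟩ = ψ ⟨y.1, _⟩
      congr 1
      exact Subtype.ext (congrArg (fun z : S => (z : Ω)) e1)
    have : x = y := Prod.ext e1 e2
    rw [this]; exact hy

theorem park [Finite S] (F : FusionSystem S) : ∃ (G : Type u) (_ : Group G) (_ : Finite G) (ι : ↥S →* G), F.IsRealizedBy ι := by
  classical
  obtain ⟨X, hX, ρ, m, h1, h2, h3⟩ := balanced (A := S × S) (Gr F) (Gr_conj F) (Nat.card (S × S))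
  have h2' : ∀ H ∈ Gr F, (fxs ρ H).ncard = m (Nat.card H) := fun H hH => h2 H hH (by
    have : 0 < Nat.card H := Nat.card_pos
    omega)
  have hfx0 : ∀ H : Subgroup (S × S), H ∉ Gr F → (fxs ρ H).ncard = 0 := by
    intro H hH
    rw [Set.ncard_eq_zero (Set.toFinite _), Set.eq_empty_iff_forall_notMem]
    intro x hx
    exact hH (Gr_sub F (h1 x) hx)
  -- the group
  let G : Subgroup (Equiv.Perm X) :=
    { carrier := {σ | ∀ (s : S) (x : X), σ (ρ (1, s) x) = ρ (1, s) (σ x)}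
      one_mem' := fun s x => rfl
      mul_mem' := by
        intro a b ha hb s x
        rw [Equiv.Perm.mul_apply, hb, ha]; rfl
      inv_mem' := by
        intro a ha s x
        rw [Equiv.Perm.inv_eq_iff_eq, ha]
        simp }
  let ι : S →* G :=
    { toFun := fun s => ⟨ρ (s, 1), fun t x => by rw [← ρ_mul, ← ρ_mul]; simp⟩
      map_one' := Subtype.ext (by show ρ (1, 1) = 1; rw [← map_one ρ]; rfl)
      map_mul' := fun a b => Subtype.ext (by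
        show ρ (a * b, 1) = ρ (a, 1) * ρ (b, 1)
        rw [← map_mul]; simp) }
  have hι : ∀ s x, (ι s : Equiv.Perm X) x = ρ (s, 1) x := fun _ _ => rfl
  -- the diagonal
  have hdiag : ∃ Δ ∈ Gr F, ∀ x : S × S, x ∈ Δ ↔ x.1 = x.2 := by
    refine ⟨(MonoidHom.eqLocus (MonoidHom.fst S S) (MonoidHom.snd S S)), ⟨S, S.subtype, ?_, fun x => ?_⟩, fun x => Iff.rfl⟩
    · exact incl_mem F le_rfl
    · show x.1 = x.2 ↔ _
      exact ⟨fun h => ⟨x.1.2, congrArg Subtype.val h⟩, fun ⟨_, h⟩ => Subtype.ext h⟩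
  obtain ⟨Δ, hΔ, hΔm⟩ := hdiag
  obtain ⟨x₀, hx₀⟩ : (fxs ρ Δ).Nonempty := by
    rw [← Set.ncard_pos (Set.toFinite _), h2' Δ hΔ]; exact h3 _
  refine ⟨G, inferInstance, inferInstance, ι, ?_, fun P hP φ hφ => ⟨fun hφF => ?_, ?_⟩⟩
  · rw [injective_iff_map_eq_one]
    intro s hs
    have h4 : (s, (1 : S)) ∈ stb ρ x₀ := by
      rw [mem_stb, ← hι, hs]; rfl
    obtain ⟨Q, ψ, hψ, hQ⟩ := h1 x₀
    obtain ⟨hq, h5⟩ := (hQ _).1 h4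
    have h6 : (⟨(s : Ω), hq⟩ : Q) = 1 := inj hψ (by rw [map_one]; exact h5)
    have h7 : (s : Ω) = 1 := congrArg (fun z : Q => (z : Ω)) h6
    exact Subtype.ext h7
  · -- realize φ
    let f₁ : P × S →* S × S := MonoidHom.prodMap (Subgroup.inclusion hP) (MonoidHom.id S)
    let f₂ : P × S →* S × S := MonoidHom.prodMap (φ.codRestrict S hφ) (MonoidHom.id S)
    haveI : Finite P := Finite.of_injective _ (Subgroup.inclusion_injective hP)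
    have hf₁ : Function.Injective f₁ := by
      rintro ⟨a, b⟩ ⟨c, d⟩ h
      have e1 := Subgroup.inclusion_injective hP (congrArg Prod.fst h)
      have e2 : b = d := congrArg Prod.snd h
      exact Prod.ext e1 e2
    have hf₂ : Function.Injective f₂ := by
      rintro ⟨a, b⟩ ⟨c, d⟩ h
      have e1 : a = c := inj hφF (congrArg Subtype.val (congrArg Prod.fst h))
      have e2 : b = d := congrArg Prod.snd h
      exact Prod.ext e1 e2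
    have hmark : ∀ (f : P × S →* S × S) (L : Subgroup (P × S)), (fxs (ρ.comp f) L) = fxs ρ (L.map f) := by
      intro f L
      ext x
      constructor
      · rintro h _ ⟨a, ha, rfl⟩; exact h a ha
      · intro h a ha; exact h _ ⟨a, ha, rfl⟩
    have hcard : ∀ (f : P × S →* S × S) (_ : Function.Injective f) (L : Subgroup (P × S)), Nat.card (L.map f) = Nat.card L :=
      fun f hf L => (Nat.card_congr (L.equivMapOfInjective f hf).toEquiv).symm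
    obtain ⟨χ, hχ, hχv⟩ := F.inv_mem hφF
    have hGr : ∀ L : Subgroup (P × S), L.map f₁ ∈ Gr F ↔ L.map f₂ ∈ Gr F := by
      intro L
      constructor
      · rintro ⟨Q, ψ, hψ, hQ⟩
        -- the graph of ψ φ⁻¹
        set Q' : Subgroup Ω := ((L.map f₂).map (MonoidHom.fst S S)).map S.subtype with hQ'
        have hQ'r : Q' ≤ φ.range := by
          rintro _ ⟨_, ⟨_, ⟨x, hx, rfl⟩, rfl⟩, rfl⟩
          exact ⟨x.1, rfl⟩
        have hmaps : ∀ y (hy : y ∈ Q'), χ ⟨y, hQ'r hy⟩ ∈ Q := by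
          rintro _ ⟨_, ⟨_, ⟨x, hx, rfl⟩, rfl⟩, rfl⟩
          have e : χ ⟨φ x.1, ⟨x.1, rfl⟩⟩ = x.1 := hχv x.1
          show χ ⟨φ x.1, _⟩ ∈ Q
          rw [e]
          exact ((hQ (f₁ x)).1 ⟨x, hx, rfl⟩).1
        refine ⟨Q', _, F.comp_mem (restrict_mem hχ hQ'r) hψ (fun y => hmaps y y.2), fun y => ?_⟩
        constructor
        · rintro ⟨x, hx, rfl⟩
          refine ⟨⟨_, ⟨_, ⟨x, hx, rfl⟩, rfl⟩, rfl⟩, ?_⟩
          obtain ⟨h4, h5⟩ := (hQ (f₁ x)).1 ⟨x, hx, rfl⟩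
          show ψ ⟨χ ⟨φ x.1, _⟩, _⟩ = x.2
          have e : χ ⟨φ x.1, ⟨x.1, rfl⟩⟩ = x.1 := hχv x.1
          have e2 : (⟨χ ⟨φ x.1, ⟨x.1, rfl⟩⟩, e ▸ h4⟩ : Q) = ⟨x.1, h4⟩ := Subtype.ext e
          rw [e2]; exact h5
        · rintro ⟨⟨_, ⟨_, ⟨x, hx, rfl⟩, rfl⟩, hxy⟩, h⟩
          obtain ⟨h4, h5⟩ := (hQ (f₁ x)).1 ⟨x, hx, rfl⟩
          have e1 : y.1 = ⟨φ x.1, hφ x.1⟩ := Subtype.ext hxy.symm
          have e : χ ⟨φ x.1, ⟨x.1, rfl⟩⟩ = x.1 := hχv x.1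
          have h' : ψ ⟨χ ⟨y.1, hQ'r ⟨_, ⟨_, ⟨x, hx, rfl⟩, rfl⟩, hxy⟩⟩, hmaps _ ⟨_, ⟨_, ⟨x, hx, rfl⟩, rfl⟩, hxy⟩⟩ = y.2 := h
          have e2 : (⟨χ ⟨y.1, hQ'r ⟨_, ⟨_, ⟨x, hx, rfl⟩, rfl⟩, hxy⟩⟩, hmaps _ ⟨_, ⟨_, ⟨x, hx, rfl⟩, rfl⟩, hxy⟩⟩ : Q) = ⟨x.1, h4⟩ := by
            apply Subtype.ext
            show χ ⟨y.1, _⟩ = x.1
            rw [← e]
            congr 1
            exact Subtype.ext hxy.symm
          rw [e2] at h'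
          have e3 : y.2 = x.2 := Subtype.ext (h'.symm.trans h5)
          refine ⟨x, hx, ?_⟩
          exact Prod.ext e1.symm e3.symm
      · rintro ⟨Q, ψ, hψ, hQ⟩
        set Q' : Subgroup Ω := ((L.map f₁).map (MonoidHom.fst S S)).map S.subtype with hQ'
        have hQ'P : Q' ≤ P := by
          rintro _ ⟨_, ⟨_, ⟨x, hx, rfl⟩, rfl⟩, rfl⟩
          exact x.1.2
        have hmaps : ∀ y (hy : y ∈ Q'), φ ⟨y, hQ'P hy⟩ ∈ Q := by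
          rintro _ ⟨_, ⟨_, ⟨x, hx, rfl⟩, rfl⟩, rfl⟩
          exact ((hQ (f₂ x)).1 ⟨x, hx, rfl⟩).1
        refine ⟨Q', _, F.comp_mem (restrict_mem hφF hQ'P) hψ (fun y => hmaps y y.2), fun y => ?_⟩
        constructor
        · rintro ⟨x, hx, rfl⟩
          exact ⟨⟨_, ⟨_, ⟨x, hx, rfl⟩, rfl⟩, rfl⟩, ((hQ (f₂ x)).1 ⟨x, hx, rfl⟩).2⟩
        · rintro ⟨⟨_, ⟨_, ⟨x, hx, rfl⟩, rfl⟩, hxy⟩, h⟩
          obtain ⟨h4, h5⟩ := (hQ (f₂ x)).1 ⟨x, hx, rfl⟩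
          have e1 : y.1 = ⟨x.1, hP x.1.2⟩ := Subtype.ext hxy.symm
          have h' : ψ ⟨φ ⟨y.1, hQ'P ⟨_, ⟨_, ⟨x, hx, rfl⟩, rfl⟩, hxy⟩⟩, hmaps _ ⟨_, ⟨_, ⟨x, hx, rfl⟩, rfl⟩, hxy⟩⟩ = y.2 := h
          have e2 : (⟨φ ⟨y.1, hQ'P ⟨_, ⟨_, ⟨x, hx, rfl⟩, rfl⟩, hxy⟩⟩, hmaps _ ⟨_, ⟨_, ⟨x, hx, rfl⟩, rfl⟩, hxy⟩⟩ : Q) = ⟨φ x.1, h4⟩ := by
            apply Subtype.ext
            show φ ⟨y.1, _⟩ = φ x.1
            congr 1
            exact Subtype.ext hxy.symm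
          rw [e2] at h'
          have e3 : y.2 = x.2 := Subtype.ext (h'.symm.trans h5)
          refine ⟨x, hx, ?_⟩
          exact Prod.ext e1.symm e3.symm
    obtain ⟨e, he⟩ := burnside (ρ.comp f₁) (ρ.comp f₂) (fun L => by
      rw [hmark, hmark]
      by_cases hL : L.map f₁ ∈ Gr F
      · rw [h2' _ hL, h2' _ ((hGr L).1 hL), hcard f₁ hf₁, hcard f₂ hf₂]
      · rw [hfx0 _ hL, hfx0 _ (fun h => hL ((hGr L).2 h))])
    have he' : ∀ (u : P) (s : S) (x : X), e (ρ (⟨u, hP u.2⟩, s) x) = ρ (⟨φ u, hφ u⟩, s) (e x) := fun u s x => he (u, s) x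
    refine ⟨⟨e, fun s x => ?_⟩, fun u => ?_⟩
    · have := he' 1 s x
      have e1 : ((⟨φ 1, hφ 1⟩ : S), s) = (1, s) := by
        congr 1
        exact Subtype.ext (map_one φ)
      rw [e1] at this
      exact this
    · apply Subtype.ext
      apply Equiv.ext
      intro x
      rw [hι]
      have := he' u 1 (e.symm x)
      rw [Equiv.apply_symm_apply] at this
      exact this.symm
  · rintro ⟨g, hg⟩
    have hg' : ∀ (u : P) (x : X), ρ (⟨φ u, hφ u⟩, 1) ((g : Equiv.Perm X) x) = (g : Equiv.Perm X) (ρ (⟨u, hP u.2⟩, 1) x) := by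
      intro u x
      have h4 := congrArg (fun t : G => (t : Equiv.Perm X) ((g : Equiv.Perm X) x)) (hg u)
      have h5 : ρ (⟨φ u, hφ u⟩, 1) ((g : Equiv.Perm X) x) = (g : Equiv.Perm X) ((ι ⟨u, hP u.2⟩ : Equiv.Perm X) (((g : Equiv.Perm X)⁻¹) ((g : Equiv.Perm X) x))) := h4
      have h6 : ((g : Equiv.Perm X)⁻¹) ((g : Equiv.Perm X) x) = x := Equiv.symm_apply_apply _ _
      rw [h6] at h5
      exact h5
    have hstab : ∀ u : P, ((⟨φ u, hφ u⟩ : S), (⟨u, hP u.2⟩ : S)) ∈ stb ρ ((g : Equiv.Perm X) x₀) := by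
      intro u
      rw [mem_stb]
      have e1 : ((⟨φ u, hφ u⟩ : S), (⟨u, hP u.2⟩ : S)) = ((⟨φ u, hφ u⟩ : S), 1) * (1, (⟨u, hP u.2⟩ : S)) := by simp
      rw [e1, ρ_mul, ← g.2 ⟨u, hP u.2⟩ x₀, hg', ← ρ_mul]
      have e2 : ((⟨u, hP u.2⟩ : S), (1 : S)) * ((1 : S), (⟨u, hP u.2⟩ : S)) = (⟨u, hP u.2⟩, ⟨u, hP u.2⟩) := by simp
      rw [e2]
      congr 1
      exact hx₀ _ ((hΔm _).2 rfl)
    obtain ⟨Q, ψ, hψ, hQ⟩ := h1 ((g : Equiv.Perm X) x₀)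
    have hq : ∀ u : P, ∃ hq : φ u ∈ Q, ψ ⟨φ u, hq⟩ = u := fun u => (hQ _).1 (hstab u)
    -- the inverse of ψ on φ(P)
    have hr : φ.range ≤ Q := by rintro _ ⟨u, rfl⟩; exact (hq u).1
    have h4 := restrict_mem hψ hr
    obtain ⟨χ, hχ, hχv⟩ := F.inv_mem h4
    have hPr : P ≤ (ψ.comp (Subgroup.inclusion hr)).range := by
      intro u hu
      exact ⟨⟨φ ⟨u, hu⟩, ⟨_, rfl⟩⟩, (hq ⟨u, hu⟩).2⟩
    refine restrict_mem' hχ hPr fun u => ?_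
    have h5 := hχv ⟨φ u, ⟨u, rfl⟩⟩
    have e : (⟨(u : Ω), hPr u.2⟩ : (ψ.comp (Subgroup.inclusion hr)).range) = ⟨(ψ.comp (Subgroup.inclusion hr)) ⟨φ u, ⟨u, rfl⟩⟩, ⟨_, rfl⟩⟩ :=
      Subtype.ext (hq u).2.symm
    rw [e]; exact h5.symm

end CfsgLib.Fus21
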