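import Cfsg.Agent.LibFus21Slv2
import Cfsg.Agent.LibFus21Alp3

set_option autoImplicit false

/-! Subsystems of index prime to `p`. -/

namespace CfsgLib.Fus21

open Cfsg Cfsg.FusionSystem

universe u

variable {Ω : Type u} [Group Ω] {S : Subgroup Ω}

/-- `O^{p'}(Aut_F(P))` as a subgroup of `Aut(P)` -/
def OpP (F : FusionSystem S) (p : ℕ) (P : Subgroup Ω) : Subgroup (MulAut P) :=
  (Subgroup.closure {α : ↥(F.autGroup P) | ∃ k : ℕ, orderOf α = p ^ k}).map (F.autGroup P).subtype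

theorem OpP_eq (F : FusionSystem S) (p : ℕ) (P : Subgroup Ω) :
    OpP F p P = Subgroup.closure {α : MulAut P | α ∈ F.autGroup P ∧ ∃ k : ℕ, orderOf α = p ^ k} := by
  unfold OpP
  rw [MonoidHom.map_closure]
  congr 1
  ext α
  constructor
  · rintro ⟨β, ⟨k, hk⟩, rfl⟩
    exact ⟨β.2, k, by rw [← hk]; exact Subgroup.orderOf_coe β⟩
  · rintro ⟨h, k, hk⟩
    exact ⟨⟨α, h⟩, ⟨k, by rw [← hk]; exact (Subgroup.orderOf_coe (⟨α, h⟩ : F.autGroup P)).symm⟩, rfl⟩

theorem OpP_le (F : FusionSystem S) (p : ℕ) (P : Subgroup Ω) : OpP F p P ≤ F.autGroup P :=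
  Subgroup.map_subtype_le _

theorem OpP_transport {F : FusionSystem S} {p : ℕ} {P Q : Subgroup Ω} {e : P ≃* Q} (he : e ∈ Iso F P Q)
    {α : MulAut P} (hα : α ∈ OpP F p P) : autTransport e α ∈ OpP F p Q := by
  rw [OpP_eq] at hα ⊢
  have h1 : (Subgroup.closure {α : MulAut P | α ∈ F.autGroup P ∧ ∃ k : ℕ, orderOf α = p ^ k}).map
      (autTransport e).toMonoidHom ≤ Subgroup.closure {α : MulAut Q | α ∈ F.autGroup Q ∧ ∃ k : ℕ, orderOf α = p ^ k} := by
    rw [MonoidHom.map_closure, Subgroup.closure_le]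
    rintro _ ⟨β, ⟨hβ, k, hk⟩, rfl⟩
    refine Subgroup.subset_closure ⟨(autTransport_mem he).2 hβ, k, ?_⟩
    rw [← hk]
    exact orderOf_injective (autTransport e).toMonoidHom (autTransport e).injective β
  exact h1 ⟨α, hα, rfl⟩

/-- subsystems containing `O^{p'}` of all automizers of centric subgroups -/
def PPc (F : FusionSystem S) (p : ℕ) (E : FusionSystem S) : Prop :=
  E.IsSubsystemOf F ∧ ∀ P, F.IsCentric P → OpP F p P ≤ E.autGroup P

theorem PPc_self (F : FusionSystem S) (p : ℕ) : PPc F p F := ⟨fun _ _ h => h, fun P _ => OpP_le F p P⟩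

/-- the smallest such subsystem -/
def ppMin (F : FusionSystem S) (p : ℕ) : FusionSystem S where
  Hom P := {φ | ∀ E : FusionSystem S, PPc F p E → φ ∈ E.Hom P}
  le_of_mem h := (h F (PPc_self F p) |> F.le_of_mem)
  injective_of_mem h := (h F (PPc_self F p) |> F.injective_of_mem)
  conj_mem hP hg E _ := E.conj_mem hP hg
  comp_mem hφ hψ h E hE := E.comp_mem (hφ E hE) (hψ E hE) h
  inv_mem := by
    intro P φ hφ
    obtain ⟨ψ, hψ, h⟩ := F.inv_mem (hφ F (PPc_self F p))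
    refine ⟨ψ, fun E hE => ?_, h⟩
    obtain ⟨ψ', hψ', h'⟩ := E.inv_mem (hφ E hE)
    refine mem_congr hψ' fun y => ?_
    obtain ⟨x, hx⟩ := y.2
    have h1 : y = ⟨φ x, ⟨x, rfl⟩⟩ := Subtype.ext hx.symm
    rw [h1, h, h']

theorem ppMin_le {F : FusionSystem S} {p : ℕ} {E : FusionSystem S} (hE : PPc F p E) : ppMin F p ≤ E :=
  fun _ _ h => h E hE

theorem ppMin_PPc (F : FusionSystem S) (p : ℕ) : PPc F p (ppMin F p) := by
  refine ⟨fun P φ h => h F (PPc_self F p), fun P hP α hα => ?_⟩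
  rw [mem_autGroup hP.1]
  intro E hE
  exact (mem_autGroup hP.1).1 (hE.2 P hP hα)

theorem conj_bot {E : FusionSystem S} (γ : MulAut S) :
    E.StronglyClosed (preimageAlong (S.subtype.comp γ.toMonoidHom) ⊥) := by
  have h : preimageAlong (S.subtype.comp γ.toMonoidHom) (⊥ : Subgroup Ω) = ⊥ := by
    refine preimageAlong_bot_eq bot_le fun s => ?_
    show ((γ s : S) : Ω) = 1 ↔ _
    rw [Subgroup.mem_bot]
    constructor
    · intro h
      have h1 : γ s = 1 := Subtype.ext h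
      have h2 : s = 1 := by simpa using h1
      rw [h2]; rfl
    · intro h
      have h1 : s = 1 := Subtype.ext h
      rw [h1, map_one]; rfl
  rw [h]
  refine ⟨bot_le, fun R hR φ hφ x => ?_⟩
  have h1 : (x : Ω) = 1 := Subgroup.mem_bot.1 (hR x.2)
  have h2 : x = 1 := Subtype.ext h1
  rw [h2, map_one]
  exact Subgroup.one_mem _

theorem conj_range (γ : MulAut S) : (S.subtype.comp γ.toMonoidHom).range = S := by
  ext y
  constructor
  · rintro ⟨x, rfl⟩
    exact (γ x).2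
  · intro hy
    exact ⟨γ⁻¹ ⟨y, hy⟩, by
      show ((γ (γ⁻¹ ⟨y, hy⟩) : S) : Ω) = y
      rw [MulAut.apply_inv_self]⟩

/-- conjugate system -/
def conjSys [Finite S] (E : FusionSystem S) (γ : MulAut S) : FusionSystem S :=
  factSys E (S.subtype.comp γ.toMonoidHom) (conj_bot γ) (conj_range γ)

theorem mem_conjSys [Finite S] {E : FusionSystem S} {γ : MulAut S} {P : Subgroup Ω} {φ : P →* Ω} :
    φ ∈ (conjSys E γ).Hom P ↔ P ≤ S ∧ ∃ φ₀ ∈ E.Hom (preimageAlong (S.subtype.comp γ.toMonoidHom) P),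
      InducedAlong (S.subtype.comp γ.toMonoidHom) φ₀ φ := Iff.rfl

theorem exists_iso_pre [Finite S] {F : FusionSystem S} {γ : MulAut S} (hγ : γ ∈ F.autGroup S) {P : Subgroup Ω} (hP : P ≤ S) :
    ∃ e : ↥(preimageAlong (S.subtype.comp γ.toMonoidHom) P) ≃* P, e ∈ Iso F _ P ∧
      ∀ x (hx : x ∈ S) (h : x ∈ preimageAlong (S.subtype.comp γ.toMonoidHom) P), ((e ⟨x, h⟩ : P) : Ω) = γ ⟨x, hx⟩ := by
  set P0 := preimageAlong (S.subtype.comp γ.toMonoidHom) P with hP0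
  have hP0S : P0 ≤ S := preimageAlong_le _ _
  have h1 : (S.subtype.comp γ.toMonoidHom).comp (Subgroup.inclusion hP0S) ∈ F.Hom P0 :=
    restrict_mem ((mem_autGroup le_rfl).1 hγ) hP0S
  obtain ⟨e, he, hx⟩ := exists_iso h1 (Q := P) (by
    ext y
    constructor
    · rintro ⟨x, rfl⟩
      exact (mem_preimageAlong.1 x.2).2
    · intro hy
      have h2 : ((γ⁻¹ ⟨y, hP hy⟩ : S) : Ω) ∈ P0 := mem_preimageAlong.2 ⟨(γ⁻¹ ⟨y, hP hy⟩).2, by
        show ((γ (γ⁻¹ ⟨y, hP hy⟩) : S) : Ω) ∈ P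
        rw [MulAut.apply_inv_self]; exact hy⟩
      refine ⟨⟨_, h2⟩, ?_⟩
      show ((γ (γ⁻¹ ⟨y, hP hy⟩) : S) : Ω) = y
      rw [MulAut.apply_inv_self])
  exact ⟨e, he, fun x hxS h => hx ⟨x, h⟩⟩

theorem conjSys_PPc [Finite S] {F : FusionSystem S} {p : ℕ} {E : FusionSystem S} (hE : PPc F p E) {γ : MulAut S}
    (hγ : γ ∈ F.autGroup S) : PPc F p (conjSys E γ) := by
  constructor
  · intro P φ hφ
    obtain ⟨hP, φ₀, hφ₀, hind⟩ := mem_conjSys.1 hφ
    obtain ⟨e, he, hev⟩ := exists_iso_pre hγ hP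
    have h1 := iso_symm he
    have h2 := F.comp_mem h1 (hE.1 _ hφ₀) (fun x => (e.symm x).2)
    have h3 := F.comp_mem h2 ((mem_autGroup le_rfl).1 hγ) (fun x => mem_S h2 x)
    refine mem_congr h3 fun x => ?_
    have hxS : ((e.symm x : ↥(preimageAlong _ P)) : Ω) ∈ S := preimageAlong_le _ _ (e.symm x).2
    have h4 := induced_apply hind (e.symm x).2 hxS (mem_S hφ₀ _) (mem_preimageAlong.1 (e.symm x).2).2
    have h5 : (⟨(S.subtype.comp γ.toMonoidHom) ⟨_, hxS⟩, (mem_preimageAlong.1 (e.symm x).2).2⟩ : P) = x := by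
      apply Subtype.ext
      have := hev _ hxS (e.symm x).2
      rw [Subtype.coe_eta, MulEquiv.apply_symm_apply] at this
      exact this.symm
    rw [h5] at h4
    exact h4
  · intro P hP α hα
    obtain ⟨e, he, hev⟩ := exists_iso_pre hγ hP.1
    have hPc : F.IsCentric (preimageAlong (S.subtype.comp γ.toMonoidHom) P) := centric_conj (isConj_iff.2 ⟨_, iso_symm he⟩) hP
    have h1 := hE.2 _ hPc (OpP_transport (iso_symm he) hα)
    rw [mem_autGroup hP.1, mem_iso, mem_conjSys]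
    refine ⟨hP.1, _, (mem_autGroup hPc.1).1 h1, induced_mk (preimageAlong_le _ _)
      (fun x => preimageAlong_le _ _ (autTransport e.symm α x).2) (fun x hx => (mem_preimageAlong.1 hx).2) fun x hx => ?_⟩
    have hxS := preimageAlong_le _ _ hx
    have h5 : (⟨(S.subtype.comp γ.toMonoidHom) ⟨x, hxS⟩, (mem_preimageAlong.1 hx).2⟩ : P) = e ⟨x, hx⟩ :=
      Subtype.ext (hev x hxS hx).symm
    show ((α _ : P) : Ω) = ((γ _ : S) : Ω)
    rw [h5]
    have h6 : ((e.symm (α (e ⟨x, hx⟩)) : ↥(preimageAlong _ P)) : Ω) ∈ S := preimageAlong_le _ _ (e.symm _).2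
    have h7 := hev _ h6 (e.symm (α (e ⟨x, hx⟩))).2
    rw [Subtype.coe_eta, MulEquiv.apply_symm_apply] at h7
    exact h7

/-- invariance of the smallest subsystem under `Aut_F(S)` -/
theorem ppMin_inv [Finite S] {F : FusionSystem S} {p : ℕ} {γ : MulAut S} (hγ : γ ∈ F.autGroup S) {P : Subgroup Ω}
    {φ : P →* Ω} (hφ : φ ∈ (ppMin F p).Hom P) : ∃ φ₀ ∈ (ppMin F p).Hom (preimageAlong (S.subtype.comp γ.toMonoidHom) P),
      ∀ x (hxS : x ∈ S) (h : x ∈ preimageAlong (S.subtype.comp γ.toMonoidHom) P) (hx : ((γ ⟨x, hxS⟩ : S) : Ω) ∈ P)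
        (hy : φ₀ ⟨x, h⟩ ∈ S), φ ⟨((γ ⟨x, hxS⟩ : S) : Ω), hx⟩ = ((γ ⟨φ₀ ⟨x, h⟩, hy⟩ : S) : Ω) := by
  obtain ⟨-, φ₀, hφ₀, hind⟩ := mem_conjSys.1 (ppMin_le (conjSys_PPc (ppMin_PPc F p) hγ) P hφ)
  exact ⟨φ₀, hφ₀, fun x hxS h hx hy => induced_apply hind h hxS hy hx⟩

end CfsgLib.Fus21
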