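import Cfsg.Agent.LibFus21Pp1

set_option autoImplicit false

/-! Decomposition of the maps of `F` over the smallest subsystem of index prime to `p`. -/

namespace CfsgLib.Fus21

open Cfsg Cfsg.FusionSystem

universe u

variable {Ω : Type u} [Group Ω] {S : Subgroup Ω}

/-- maps `α ∘ φ₀` -/
def ppG [Finite S] (F : FusionSystem S) (p : ℕ) : FusionSystem S where
  Hom P := {φ | ∃ α ∈ F.autGroup S, ∃ φ₀, ∃ h₀ : φ₀ ∈ (ppMin F p).Hom P, ∀ x : P, φ x = ((α ⟨φ₀ x, mem_S h₀ x⟩ : S) : Ω)}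
  le_of_mem := by
    rintro P φ ⟨α, hα, φ₀, h₀, hx⟩
    exact ⟨le_S h₀, fun x => by rw [hx]; exact (α _).2⟩
  injective_of_mem := by
    rintro P φ ⟨α, hα, φ₀, h₀, hx⟩ x y hxy
    rw [hx, hx] at hxy
    have h1 := α.injective (Subtype.ext hxy)
    exact inj h₀ (congrArg Subtype.val h1)
  conj_mem := by
    intro P g hP hg
    exact ⟨1, Subgroup.one_mem _, _, (ppMin F p).conj_mem hP hg, fun x => rfl⟩
  comp_mem := by
    rintro P Q φ ψ ⟨α, hα, φ₀, h₀, hx⟩ ⟨β, hβ, ψ₀, k₀, hy⟩ h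
    obtain ⟨χ, hχ, hχv⟩ := ppMin_inv hα k₀
    have hmem : ∀ x : P, φ₀ x ∈ preimageAlong (S.subtype.comp α.toMonoidHom) Q := fun x =>
      mem_preimageAlong.2 ⟨mem_S h₀ x, by
        have := h x
        rw [hx] at this
        exact this⟩
    refine ⟨β * α, Subgroup.mul_mem _ hβ hα, _, (ppMin F p).comp_mem h₀ hχ hmem, fun x => ?_⟩
    have hxQ : ((α ⟨φ₀ x, mem_S h₀ x⟩ : S) : Ω) ∈ Q := by rw [← hx]; exact h x
    have h1 := hχv (φ₀ x) (mem_S h₀ x) (hmem x) hxQ (mem_S hχ _)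
    show ψ ⟨φ x, h x⟩ = ((β (α ⟨χ ⟨φ₀ x, hmem x⟩, _⟩) : S) : Ω)
    have h2 : (⟨φ x, h x⟩ : Q) = ⟨((α ⟨φ₀ x, mem_S h₀ x⟩ : S) : Ω), hxQ⟩ := Subtype.ext (hx x)
    rw [h2, hy]
    congr 2
    exact Subtype.ext h1
  inv_mem := by
    rintro P φ ⟨α, hα, φ₀, h₀, hx⟩
    obtain ⟨ψ₀, k₀, hψ₀⟩ := (ppMin F p).inv_mem h₀
    obtain ⟨χ, hχ, hχv⟩ := ppMin_inv (Subgroup.inv_mem _ hα) k₀
    have hinv : ∀ x : P, (((α⁻¹ : MulAut S) ⟨φ x, by rw [hx]; exact (α _).2⟩ : S) : Ω) = φ₀ x := by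
      intro x
      have h1 : (⟨φ x, by rw [hx]; exact (α _).2⟩ : S) = α ⟨φ₀ x, mem_S h₀ x⟩ := Subtype.ext (hx x)
      rw [h1, MulAut.inv_apply_self]
    have hle : φ.range ≤ preimageAlong (S.subtype.comp (α⁻¹ : MulAut S).toMonoidHom) φ₀.range := by
      rintro _ ⟨x, rfl⟩
      have hxS : φ x ∈ S := by rw [hx]; exact (α _).2
      exact mem_preimageAlong.2 ⟨hxS, ⟨x, (hinv x).symm⟩⟩
    have hχ' := restrict_mem hχ hle
    have hval : ∀ x : P, ((((α⁻¹ : MulAut S) ⟨χ.comp (Subgroup.inclusion hle) ⟨φ x, ⟨x, rfl⟩⟩, mem_S hχ' _⟩ : S)) : Ω) = x := by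
      intro x
      have hxS : φ x ∈ S := by rw [hx]; exact (α _).2
      have hr : (((α⁻¹ : MulAut S) ⟨φ x, hxS⟩ : S) : Ω) ∈ φ₀.range := ⟨x, (hinv x).symm⟩
      have h1 := hχv (φ x) hxS (hle ⟨x, rfl⟩) hr (mem_S hχ _)
      have h2 : (⟨(((α⁻¹ : MulAut S) ⟨φ x, hxS⟩ : S) : Ω), hr⟩ : φ₀.range) = ⟨φ₀ x, ⟨x, rfl⟩⟩ := Subtype.ext (hinv x)
      rw [h2, hψ₀] at h1
      exact h1.symm
    refine ⟨(S.subtype.comp (α⁻¹ : MulAut S).toMonoidHom).comp ((χ.comp (Subgroup.inclusion hle)).codRestrict S (fun x => mem_S hχ' x)),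
      ⟨α⁻¹, Subgroup.inv_mem _ hα, _, hχ', fun x => rfl⟩, hval⟩

theorem mem_ppG [Finite S] {F : FusionSystem S} {p : ℕ} {P : Subgroup Ω} {φ : P →* Ω} : φ ∈ (ppG F p).Hom P ↔
    ∃ α ∈ F.autGroup S, ∃ φ₀, ∃ h₀ : φ₀ ∈ (ppMin F p).Hom P, ∀ x : P, φ x = ((α ⟨φ₀ x, mem_S h₀ x⟩ : S) : Ω) := Iff.rfl

theorem ppMin_le_ppG [Finite S] (F : FusionSystem S) (p : ℕ) : ppMin F p ≤ ppG F p := fun P φ hφ =>
  ⟨1, Subgroup.one_mem _, φ, hφ, fun x => rfl⟩

/-- Frattini argument in `Aut_F(P)`. -/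
theorem frattini_OpP [Finite S] {p : ℕ} [hp : Fact p.Prime] (hS : IsPGroup p S) {F : FusionSystem S} {P : Subgroup Ω}
    (hA : F.IsFullyAutomized p P) {β : MulAut P} (hβ : β ∈ F.autGroup P) :
    ∃ τ ∈ OpP F p P, ∀ x ∈ autInducedBy S P, (τ * β) * x * (τ * β)⁻¹ ∈ autInducedBy S P := by
  have hP := hA.1
  have hfA := finite_autGroup F hP
  obtain ⟨-, R, hR⟩ := hA
  set N : Subgroup (F.autGroup P) := Subgroup.closure {α : ↥(F.autGroup P) | ∃ k : ℕ, orderOf α = p ^ k} with hN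
  -- the conjugate of the Sylow subgroup is generated by elements of p-power order, hence inside N
  have hpN : ∀ K : Subgroup (F.autGroup P), IsPGroup p K → K ≤ N := by
    intro K hK x hx
    obtain ⟨k, hk⟩ := (IsPGroup.iff_orderOf.1 hK) ⟨x, hx⟩
    exact Subgroup.subset_closure ⟨k, by rw [← hk]; exact (Subgroup.orderOf_coe (⟨x, hx⟩ : K))⟩
  set b : F.autGroup P := ⟨β, hβ⟩ with hb
  have hRN : (R : Subgroup (F.autGroup P)) ≤ N := hpN _ R.2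
  have hR'N : ((b • R : Sylow p (F.autGroup P)) : Subgroup (F.autGroup P)) ≤ N := hpN _ (b • R).2
  obtain ⟨τ, hτ⟩ := MulAction.exists_smul_eq N ((b • R).subtype hR'N) (R.subtype hRN)
  refine ⟨(τ : F.autGroup P), ⟨_, τ.2, rfl⟩, ?_⟩
  have hkey : (((τ : F.autGroup P) * b) • R : Sylow p (F.autGroup P)) = R := by
    rw [mul_smul]
    have h1 : ((b • R).subtype hR'N) = ((b • R).subtype hR'N) := rfl
    have h2 : (τ • ((b • R).subtype hR'N) : Sylow p N) = (((τ : F.autGroup P) • (b • R)).subtype (by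
        exact hpN _ ((τ : F.autGroup P) • (b • R)).2)) := Sylow.smul_subtype _ _
    rw [h2] at hτ
    exact Sylow.subtype_injective hτ
  intro x hx
  have hxA : x ∈ F.autGroup P := autInducedBy_le_autGroup F hP hx
  have hxR : (⟨x, hxA⟩ : F.autGroup P) ∈ (R : Subgroup (F.autGroup P)) := by
    rw [hR]; exact hx
  have h3 : ((τ : F.autGroup P) * b) * ⟨x, hxA⟩ * ((τ : F.autGroup P) * b)⁻¹ ∈ (R : Subgroup (F.autGroup P)) := by
    rw [← hkey]
    exact ⟨_, hxR, rfl⟩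
  rw [hR] at h3
  exact h3

theorem le_ppG [Finite S] {p : ℕ} [hp : Fact p.Prime] (hS : IsPGroup p S) {F : FusionSystem S} (hF : F.IsSaturated p) :
    F ≤ ppG F p := by
  refine alperin_ind hS hF _ fun P hP ih => ?_
  rcases hP with rfl | hess
  · intro α hα
    have h0 : P.subtype.comp α.toMonoidHom ∈ (ppG F p).Hom P := ⟨α, hα, P.subtype, incl_mem _ le_rfl, fun x => rfl⟩
    exact aut_mem_of_hom h0 fun x => rfl
  · have hc := hess.1
    have hfn := hess.2.1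
    have hlt : P < S := essential_lt hS hF hess
    have hA := (sat_fn hS hF hfn).2
    have hrec := sat_fn_receptive hS hF hfn
    intro β hβ
    obtain ⟨τ, hτ, hnorm⟩ := frattini_OpP hS hA hβ
    have hτG : τ ∈ (ppG F p).autGroup P := by
      have h1 := (ppMin_PPc F p).2 P hc hτ
      rw [mem_autGroup hc.1] at h1 ⊢
      exact ppMin_le_ppG F p P h1
    have hν : τ * β ∈ F.autGroup P := Subgroup.mul_mem _ (OpP_le F p P hτ) hβ
    have hνG : τ * β ∈ (ppG F p).autGroup P := by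
      have hle : normalizerIn S P ≤ extender S P (P.subtype.comp (τ * β).toMonoidHom) := by
        intro g hg
        rw [mem_extender_iso]
        obtain ⟨α, hα⟩ := exists_conjAut hg.2
        refine ⟨hg.1, α, hα, ?_⟩
        have h1 : α ∈ autInducedBy S P := mem_autInducedBy.2 ⟨g, hg.1, hα⟩
        exact hnorm α h1
      obtain ⟨χ, hχ, hχe⟩ := receptive_extend hrec ((mem_autGroup hc.1).1 hν) hle
      have hPN : P < normalizerIn S P := lt_normalizer_inf hS hlt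
      have hfN : Finite (normalizerIn S P) := finite_of_le (normalizerIn_le S P)
      have hcard : Nat.card P < Nat.card (normalizerIn S P) :=
        lt_of_le_of_ne (Subgroup.card_le_of_le hPN.le) fun h => hPN.ne (Subgroup.eq_of_le_of_card_ge hPN.le h.ge)
      have h2 := ih _ hcard hχ
      exact aut_mem_of_hom (restrict_mem h2 hPN.le) fun x => (hχe x x.2 (hPN.le x.2)).symm
    have h3 : β = τ⁻¹ * (τ * β) := by group
    rw [h3]
    exact Subgroup.mul_mem _ (Subgroup.inv_mem _ hτG) hνG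

/-- every map of `F` is an element of `Aut_F(S)` composed with a map of the smallest subsystem -/
theorem pp_decomp [Finite S] {p : ℕ} [hp : Fact p.Prime] (hS : IsPGroup p S) {F : FusionSystem S} (hF : F.IsSaturated p)
    {E : FusionSystem S} (hE : PPc F p E) {P : Subgroup Ω} {φ : P →* Ω} (hφ : φ ∈ F.Hom P) :
    ∃ α ∈ F.autGroup S, ∃ φ₀ ∈ E.Hom P, ∀ (x : P) (hx : φ₀ x ∈ S), φ x = ((α ⟨φ₀ x, hx⟩ : S) : Ω) := by
  obtain ⟨α, hα, φ₀, h₀, h⟩ := le_ppG hS hF P hφ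
  exact ⟨α, hα, φ₀, ppMin_le hE P h₀, fun x hx => h x⟩

theorem pp_centric [Finite S] {p : ℕ} [hp : Fact p.Prime] (hS : IsPGroup p S) {F : FusionSystem S} (hF : F.IsSaturated p)
    {E : FusionSystem S} (hE : PPc F p E) {P : Subgroup Ω} : E.IsCentric P ↔ F.IsCentric P := by
  constructor
  · rintro ⟨hP, h⟩
    refine ⟨hP, ?_⟩
    rintro _ ⟨φ, hφ, rfl⟩
    obtain ⟨α, hα, φ₀, hφ₀, hx⟩ := pp_decomp hS hF hE hφ
    have h1 := h φ₀.range ⟨φ₀, hφ₀, rfl⟩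
    intro z hz
    obtain ⟨hzS, hz2⟩ := mem_centralizerIn.1 hz
    have h2 : (((α⁻¹ : MulAut S) ⟨z, hzS⟩ : S) : Ω) ∈ centralizerIn S φ₀.range := by
      rw [mem_centralizerIn']
      refine ⟨((α⁻¹ : MulAut S) _).2, ?_⟩
      rintro _ ⟨x, rfl⟩
      have h3 : z * φ x * z⁻¹ = φ x := (mem_centralizerIn'.1 hz).2 (φ x) ⟨x, rfl⟩
      have h4 : (⟨z, hzS⟩ : S) * α ⟨φ₀ x, mem_S hφ₀ x⟩ * (⟨z, hzS⟩ : S)⁻¹ = α ⟨φ₀ x, mem_S hφ₀ x⟩ := by
        apply Subtype.ext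
        have h5 := hx x (mem_S hφ₀ x)
        rw [h5] at h3
        exact h3
      have h6 := congrArg (α⁻¹ : MulAut S) h4
      rw [map_mul, map_mul, map_inv, MulAut.inv_apply_self] at h6
      exact congrArg Subtype.val h6
    obtain ⟨x, hx2⟩ := h1 h2
    refine ⟨x, ?_⟩
    rw [hx x (mem_S hφ₀ x)]
    have h7 : (⟨φ₀ x, mem_S hφ₀ x⟩ : S) = (α⁻¹ : MulAut S) ⟨z, hzS⟩ := Subtype.ext hx2
    rw [h7, MulAut.apply_inv_self]
  · rintro ⟨hP, h⟩
    refine ⟨hP, ?_⟩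
    rintro _ ⟨φ, hφ, rfl⟩
    exact h _ ⟨φ, hE.1 P hφ, rfl⟩

/-- all subgroups -/
theorem pp_all [Finite S] {p : ℕ} [hp : Fact p.Prime] (hS : IsPGroup p S) {F : FusionSystem S} (hF : F.IsSaturated p)
    {E : FusionSystem S} (hE : PPc F p E) {P : Subgroup Ω} (hP : P ≤ S) : OpP F p P ≤ E.autGroup P := by
  rw [OpP_eq, Subgroup.closure_le]
  rintro τ ⟨hτ, k, hk⟩
  obtain ⟨R, hPR, hR⟩ := exists_fullyNormalized F hP
  obtain ⟨e, he⟩ := isConj_iff.1 hPR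
  have hRS := hR.1
  have hA := (sat_fn hS hF hR).2
  have hfA := finite_autGroup F hRS
  have hτR : autTransport e τ ∈ F.autGroup R := (autTransport_mem he).2 hτ
  have hK : IsPGroup p (Subgroup.zpowers (autTransport e τ)) := by
    refine IsPGroup.of_card (n := k) ?_
    rw [Nat.card_zpowers, ← hk]
    exact orderOf_injective (autTransport e).toMonoidHom (autTransport e).injective τ
  obtain ⟨c, hc, hle⟩ := exists_conj_le (isPGroup_autInducedBy hS R) ((fullyAutomized_iff hS).1 hA).2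
    (Subgroup.zpowers_le.2 hτR) hK
  have h1 : c * autTransport e τ * c⁻¹ ∈ autInducedBy S R := by
    apply hle
    exact ⟨_, Subgroup.mem_zpowers _, rfl⟩
  have he' : e.trans c ∈ Iso F P R := iso_trans he ((mem_autGroup hRS).1 hc)
  obtain ⟨g, hg, hgx⟩ := mem_autInducedBy.1 h1
  obtain ⟨α, hα, φ₀, hφ₀, hx⟩ := pp_decomp hS hF hE he'
  -- for `x ∈ P` : `φ₀ (τ x) = h φ₀(x) h⁻¹`
  set h : S := (α⁻¹ : MulAut S) ⟨g, hg⟩ with hh
  have key : ∀ x : P, φ₀ (τ x) = (h : Ω) * φ₀ x * (h : Ω)⁻¹ := by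
    intro x
    have h2 : ((c (e (τ x)) : R) : Ω) = g * ((c (e x) : R) : Ω) * g⁻¹ := by
      rw [← hgx (c (e x))]
      show _ = ((c ((autTransport e τ) (c⁻¹ (c (e x)))) : R) : Ω)
      rw [MulAut.inv_apply_self, autTransport_apply, MulEquiv.symm_apply_apply]
    have h3 := hx (τ x) (mem_S hφ₀ _)
    have h4 := hx x (mem_S hφ₀ _)
    have h5 : α ⟨φ₀ (τ x), mem_S hφ₀ _⟩ = ⟨g, hg⟩ * α ⟨φ₀ x, mem_S hφ₀ _⟩ * (⟨g, hg⟩ : S)⁻¹ := by
      apply Subtype.ext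
      rw [← h3]
      show ((c (e (τ x)) : R) : Ω) = g * ((α ⟨φ₀ x, mem_S hφ₀ _⟩ : S) : Ω) * g⁻¹
      rw [← h4]
      exact h2
    have h6 := congrArg (α⁻¹ : MulAut S) h5
    rw [map_mul, map_mul, map_inv, MulAut.inv_apply_self, MulAut.inv_apply_self] at h6
    exact congrArg Subtype.val h6
  obtain ⟨ψ₀, hψ₀, hψv⟩ := E.inv_mem hφ₀
  have hmem : ∀ x : P, ((conjHom φ₀.range (h : Ω)).comp (φ₀.codRestrict φ₀.range fun x => ⟨x, rfl⟩)) x ∈ φ₀.range := by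
    intro x
    exact ⟨τ x, key x⟩
  have h7 := E.comp_mem hφ₀ (E.conj_mem (range_le hφ₀) h.2) (fun x => ⟨x, rfl⟩)
  have h8 := E.comp_mem h7 hψ₀ hmem
  refine aut_mem_of_hom h8 fun x => ?_
  show ((τ x : P) : Ω) = ψ₀ ⟨(h : Ω) * φ₀ x * (h : Ω)⁻¹, _⟩
  rw [← hψv (τ x)]
  congr 1
  exact Subtype.ext (key x)

end CfsgLib.Fus21
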