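import Cfsg.Agent.LibFus21Pp2
import Cfsg.Agent.LibFus21NK4

set_option autoImplicit false

/-! Saturation of subsystems generated by centric maps. -/

namespace CfsgLib.Fus21

open Cfsg Cfsg.FusionSystem

theorem exists_pow_pelt {A B : Type*} [Group A] [Group B] (f : A →* B) {p : ℕ} [hp : Fact p.Prime] {a : A}
    (ha : orderOf a ≠ 0) {k : ℕ} (hk : orderOf (f a) = p ^ k) : ∃ n : ℕ, (∃ j, orderOf (a ^ n) = p ^ j) ∧ f (a ^ n) = f a := by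
  obtain ⟨j, m, hm, hjm⟩ := Nat.exists_eq_pow_mul_and_not_dvd ha p hp.out.ne_one
  have hcop : Nat.Coprime m (p ^ k) := (Nat.Coprime.pow_left k ((Nat.Prime.coprime_iff_not_dvd hp.out).2 hm)).symm
  obtain ⟨n, hn0, hn1⟩ := Nat.chineseRemainder hcop 0 1
  refine ⟨n, ?_, ?_⟩
  · have h1 : (a ^ n) ^ p ^ j = 1 := by
      rw [← pow_mul]
      obtain ⟨c, hc⟩ := (Nat.modEq_zero_iff_dvd.1 hn0)
      rw [hc]
      have : m * c * p ^ j = orderOf a * c := by rw [hjm]; ring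
      rw [this, pow_mul, pow_orderOf_eq_one, one_pow]
    obtain ⟨i, -, hi⟩ := (Nat.dvd_prime_pow hp.out).1 (orderOf_dvd_of_pow_eq_one h1)
    exact ⟨i, hi⟩
  · rw [map_pow]
    rw [← hk] at hn1
    have h2 := (pow_eq_pow_iff_modEq (x := f a)).2 hn1
    rw [h2, pow_one]

universe u

variable {Ω : Type u} [Group Ω] {S : Subgroup Ω}

theorem PPc_nKSys [Finite S] {p : ℕ} [hp : Fact p.Prime] (hS : IsPGroup p S) {F : FusionSystem S} (hF : F.IsSaturated p)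
    {E : FusionSystem S} (hE : PPc F p E) {Q : Subgroup Ω} (hQ : Q ≤ S) {K : Subgroup (MulAut Q)} {T : Subgroup Ω}
    (hT : T = nK S Q K) : PPc (nKSys F Q hQ K T hT) p (nKSys E Q hQ K T hT) := by
  constructor
  · intro P φ hφ
    rw [mem_nKSys] at hφ ⊢
    obtain ⟨h1, h2, h3, ψ, hψ, h4⟩ := hφ
    exact ⟨hE.1 _ h1, h2, h3, ψ, hE.1 _ hψ, h4⟩
  · intro P hPc
    have hPT := hPc.1
    have hPS : P ≤ S := by
      have : T ≤ S := hT ▸ nK_le _ _ _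
      exact hPT.trans this
    have hPQ : P ⊔ Q ≤ S := sup_le hPS hQ
    rw [OpP_eq, Subgroup.closure_le]
    rintro α ⟨hα, k, hk⟩
    rw [← autGroup_nKSys hPT] at hα
    obtain ⟨β, hβ, hβα⟩ := hα
    haveI : Finite ↥(P ⊔ Q) := finite_of_le hPQ
    haveI : Finite (MulAut ↥(P ⊔ Q)) := Finite.of_injective _ DFunLike.coe_injective
    have hβα' : resKP le_sup_left le_sup_right K β = α := hβα
    obtain ⟨n, ⟨j, hj⟩, hn⟩ := exists_pow_pelt (resKP le_sup_left le_sup_right K) (a := β) (orderOf_pos β).ne' (k := k) (by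
      rw [hβα']; exact hk)
    show α ∈ (nKSys E Q hQ K T hT).autGroup P
    rw [← autGroup_nKSys hPT]
    refine ⟨β ^ n, ?_, ?_⟩
    · refine pp_all hS hF hE hPQ ?_
      rw [OpP_eq]
      refine Subgroup.subset_closure ⟨Subgroup.pow_mem _ hβ n, j, ?_⟩
      rw [← hj]
      exact Subgroup.orderOf_coe (β ^ n)
    · show resKP le_sup_left le_sup_right K (β ^ n) = α
      rw [hn, hβα']

/-- `N_S(Q) = N_S^K(Q)` for `K = Aut_S(Q)` -/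
theorem nK_autInducedBy (S Q : Subgroup Ω) : normalizerIn S Q = nK S Q (autInducedBy S Q) := by
  refine le_antisymm ?_ (nK_le_normalizerIn _ _ _)
  rintro g ⟨hg, hN⟩
  obtain ⟨α, hα⟩ := exists_conjAut hN
  exact ⟨hg, α, mem_autInducedBy.2 ⟨g, hg, hα⟩, hα⟩

theorem fkn_autInducedBy {F : FusionSystem S} {Q : Subgroup Ω} [Finite S] (hQ : F.IsFullyNormalized Q) : FKN F Q (autInducedBy S Q) := by
  refine ⟨hQ.1, fun R e he => ?_⟩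
  rw [← nK_autInducedBy]
  have hfin : Finite (normalizerIn S R) := finite_of_le (normalizerIn_le S R)
  exact (Subgroup.card_le_of_le (nK_le_normalizerIn _ _ _)).trans (hQ.2 R (isConj_iff.2 ⟨e, he⟩))

/-- Modify an extension in `F` so that it restricts to a map of `E` on `M`. -/
theorem stepA [Finite S] {p : ℕ} [hp : Fact p.Prime] (hS : IsPGroup p S) {F : FusionSystem S} (hF : F.IsSaturated p)
    {E : FusionSystem S} (hE : PPc F p E) {P Q M N : Subgroup Ω} (hQ : F.IsFullyNormalized Q) (hPM : P ≤ M) (hMN : M ≤ N)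
    {φ : N →* Ω} (hφ : φ ∈ F.Hom N) (hφN : ∀ x, φ x ∈ normalizerIn S Q) {ζ : M →* Ω} (hζ : ζ ∈ E.Hom M)
    (hζN : ∀ x, ζ x ∈ normalizerIn S Q) (hζP : ∀ x ∈ P, ∀ hx : x ∈ M, ζ ⟨x, hx⟩ ∈ Q)
    (hζP' : ∀ y ∈ Q, ∃ x, ∃ hx : x ∈ P, ζ ⟨x, hPM hx⟩ = y)
    (hag : ∀ x (hx : x ∈ P), φ ⟨x, hMN (hPM hx)⟩ = ζ ⟨x, hPM hx⟩) :
    ∃ φ' ∈ F.Hom N, (∀ x, φ' x ∈ normalizerIn S Q) ∧ (∀ x (hx : x ∈ P), φ' ⟨x, hMN (hPM hx)⟩ = ζ ⟨x, hPM hx⟩) ∧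
      φ'.comp (Subgroup.inclusion hMN) ∈ E.Hom M := by
  have hQS := hQ.1
  obtain ⟨K, hK⟩ : ∃ K, autInducedBy S Q = K := ⟨_, rfl⟩
  obtain ⟨T, hTd⟩ : ∃ T, normalizerIn S Q = T := ⟨_, rfl⟩
  have hT : T = nK S Q K := by rw [← hTd, ← hK]; exact nK_autInducedBy S Q
  have hTS : T ≤ S := hTd ▸ normalizerIn_le S Q
  have hsat : (nKSys F Q hQS K T hT).IsSaturated p := saturated_nKSys hS hF hQS (hK ▸ fkn_autInducedBy hQ) hT
  haveI : Finite T := finite_of_le hTS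
  have hpc : PPc (nKSys F Q hQS K T hT) p (nKSys E Q hQS K T hT) := PPc_nKSys hS hF hE hQS hT
  -- the map θ
  obtain ⟨ρ, hρ, hρv⟩ := E.inv_mem hζ
  have hρF := hE.1 _ hρ
  have hρM : ∀ y, ρ y ∈ M := by
    rintro ⟨_, x, rfl⟩
    rw [hρv]; exact x.2
  have hθ := F.comp_mem hρF (restrict_mem hφ hMN) hρM
  have hQr : Q ≤ ζ.range := by
    intro y hy
    obtain ⟨x, hx, rfl⟩ := hζP' y hy
    exact ⟨_, rfl⟩
  have hrT : ζ.range ≤ T := by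
    rintro _ ⟨x, rfl⟩
    rw [← hTd]; exact hζN x
  have hθv : ∀ x : M, ((φ.comp (Subgroup.inclusion hMN)).comp (ρ.codRestrict M hρM)) ⟨ζ x, ⟨x, rfl⟩⟩ = φ ⟨x, hMN x.2⟩ := by
    intro x
    show φ ⟨ρ ⟨ζ x, _⟩, _⟩ = _
    congr 1
    exact Subtype.ext (hρv x)
  have hθN : (φ.comp (Subgroup.inclusion hMN)).comp (ρ.codRestrict M hρM) ∈ (nKSys F Q hQS K T hT).Hom ζ.range := by
    refine mem_nKSys_of hrT hθ le_rfl hQr (fun x hx => rfl) (κ := 1) (Subgroup.one_mem _) ?_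
    intro y hy
    obtain ⟨x, hx, rfl⟩ := hζP' y hy
    have h1 := hθv ⟨x, hPM hx⟩
    rw [hag x hx] at h1
    exact h1
  obtain ⟨α, hα, φ₀, hφ₀, hdec⟩ := pp_decomp (hS.to_le hTS) hsat hpc hθN
  -- α on Q
  rw [mem_autGroup le_rfl, mem_iso, mem_nKSys] at hα
  obtain ⟨hαF, -, -, ψ, hψ, hψα, κ, hκ, hψκ⟩ := hα
  have hQT : Q ≤ T := hTd ▸ le_normalizerIn hQS
  rw [← hK] at hκ
  obtain ⟨y, hy, hyκ⟩ := mem_autInducedBy.1 hκ
  have hαQ : ∀ q (hq : q ∈ Q), ((α ⟨q, hQT hq⟩ : T) : Ω) = y * q * y⁻¹ := by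
    intro q hq
    have h1 := hψκ ⟨q, hq⟩
    have h2 := hψα ⟨q, hQT hq⟩
    have h3 : (Subgroup.inclusion le_sup_left (⟨q, hQT hq⟩ : T) : ↥(T ⊔ Q)) = Subgroup.inclusion le_sup_right (⟨q, hq⟩ : Q) := rfl
    rw [h3, h1, hyκ] at h2
    exact h2.symm
  have hyN : y ∈ normalizerIn S Q := ⟨hy, mem_normalizer_of_conjAut hyκ⟩
  have hφT : ∀ x, φ x ∈ T := fun x => hTd ▸ hφN x
  have hαF' : (α⁻¹ : MulAut T) ∈ F.autGroup T := Subgroup.inv_mem _ ((mem_autGroup hTS).2 hαF)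
  have hαinv := (mem_autGroup hTS).1 hαF'
  have c1 := F.comp_mem hφ hαinv hφT
  have c2 := F.comp_mem c1 (F.conj_mem hTS hy) (fun x => ((α⁻¹ : MulAut T) ⟨φ x, hφT x⟩).2)
  have hval : ∀ x : N, ((conjHom T y).comp (((T.subtype.comp (α⁻¹ : MulAut T).toMonoidHom).comp (φ.codRestrict T hφT)).codRestrict T
      (fun x => ((α⁻¹ : MulAut T) ⟨φ x, hφT x⟩).2))) x = y * (((α⁻¹ : MulAut T) ⟨φ x, hφT x⟩ : T) : Ω) * y⁻¹ := fun x => rfl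
  refine ⟨_, c2, fun x => ?_, fun x hx => ?_, ?_⟩
  · rw [hval]
    have h1 : (((α⁻¹ : MulAut T) ⟨φ x, hφT x⟩ : T) : Ω) ∈ normalizerIn S Q := by rw [hTd]; exact ((α⁻¹ : MulAut T) _).2
    exact Subgroup.mul_mem _ (Subgroup.mul_mem _ hyN h1) (Subgroup.inv_mem _ hyN)
  · rw [hval]
    have hq : φ ⟨x, hMN (hPM hx)⟩ ∈ Q := by rw [hag x hx]; exact hζP x hx _
    have hyq : y⁻¹ * φ ⟨x, hMN (hPM hx)⟩ * y ∈ Q := by
      have h1 := (mem_normalizerIn.1 (Subgroup.inv_mem _ hyN)).2 (φ ⟨x, hMN (hPM hx)⟩)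
      rw [inv_inv] at h1
      exact h1.1 hq
    have h2 : α ⟨y⁻¹ * φ ⟨x, hMN (hPM hx)⟩ * y, hQT hyq⟩ = ⟨φ ⟨x, hMN (hPM hx)⟩, hφT _⟩ := by
      apply Subtype.ext
      rw [hαQ _ hyq]; group
    rw [← h2, MulAut.inv_apply_self, ← hag x hx]
    show y * (y⁻¹ * φ ⟨x, hMN (hPM hx)⟩ * y) * y⁻¹ = _
    group
  · have hφ₀E : φ₀ ∈ E.Hom ζ.range := (mem_nKSys.1 hφ₀).1
    have d1 := E.comp_mem hζ hφ₀E (fun x => ⟨x, rfl⟩)
    have hφ₀T : ∀ z, φ₀ z ∈ T := fun z => mem_S hφ₀ z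
    have d2 := E.comp_mem d1 (E.conj_mem hTS hy) (fun x => hφ₀T _)
    refine mem_congr d2 fun x => ?_
    show y * (((α⁻¹ : MulAut T) ⟨φ ⟨x, hMN x.2⟩, hφT _⟩ : T) : Ω) * y⁻¹ = y * φ₀ ⟨ζ x, ⟨x, rfl⟩⟩ * y⁻¹
    have h3 := hdec ⟨ζ x, ⟨x, rfl⟩⟩ (hφ₀T _)
    rw [hθv] at h3
    have h4 : (⟨φ ⟨x, hMN x.2⟩, hφT _⟩ : T) = α ⟨φ₀ ⟨ζ x, ⟨x, rfl⟩⟩, hφ₀T _⟩ := Subtype.ext h3
    rw [h4, MulAut.inv_apply_self]

end CfsgLib.Fus21
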