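import Cfsg.Agent.LibFus21Pp3

set_option autoImplicit false

/-! Saturation of subsystems generated by centric maps: good maps. -/

namespace CfsgLib.Fus21

open Cfsg Cfsg.FusionSystem

universe u

variable {Ω : Type u} [Group Ω] {S : Subgroup Ω}

/-- subsystems generated by their maps on centric subgroups -/
structure CG (F E : FusionSystem S) (p : ℕ) : Prop where
  pp : PPc F p E
  gen : ∀ E' : FusionSystem S, (∀ P, F.IsCentric P → E.Hom P ⊆ E'.Hom P) → E ≤ E'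
  ext : ∀ (P R : Subgroup Ω) (hPR : P ≤ R), F.IsCentric P → ∀ ψ ∈ F.Hom R, ψ.comp (Subgroup.inclusion hPR) ∈ E.Hom P →
    ψ ∈ E.Hom R

theorem pp_transport [Finite S] {p : ℕ} [hp : Fact p.Prime] (hS : IsPGroup p S) {F : FusionSystem S} (hF : F.IsSaturated p)
    {E : FusionSystem S} (hE : PPc F p E) {P : Subgroup Ω} (hP : P ≤ S) :
    ∃ Q, F.IsFullyNormalized Q ∧ ∃ e ∈ Iso E P Q, ∃ χ ∈ E.Hom (normalizerIn S P),
      (∀ x (hx : x ∈ P) (hx' : x ∈ normalizerIn S P), χ ⟨x, hx'⟩ = e ⟨x, hx⟩) ∧ ∀ x, χ x ∈ normalizerIn S Q := by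
  obtain ⟨Q', hPQ', hQ'⟩ := exists_fullyNormalized F hP
  obtain ⟨φ, hφ, e', he', hφe, hφN⟩ := exists_map_normalizer hS (sat_fn hS hF hQ').2 (sat_fn_receptive hS hF hQ') hPQ'
  obtain ⟨α, hα, φ₀, hφ₀, hx⟩ := pp_decomp hS hF hE hφ
  have hPN := le_normalizerIn hP
  obtain ⟨Q, hQ⟩ : ∃ Q, (φ₀.comp (Subgroup.inclusion hPN)).range = Q := ⟨_, rfl⟩
  obtain ⟨e, he, hev⟩ := exists_iso (restrict_mem hφ₀ hPN) hQ
  have hQS : Q ≤ S := iso_le_right he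
  have hvS : ∀ x, φ₀ x ∈ S := fun x => mem_S hφ₀ x
  -- α⁻¹ maps Q' to Q
  have hαi : (α⁻¹ : MulAut S) ∈ F.autGroup S := Subgroup.inv_mem _ hα
  have hαm := (mem_autGroup le_rfl).1 hαi
  have hkey : ∀ x (hxP : x ∈ P), (((α⁻¹ : MulAut S) ⟨e' ⟨x, hxP⟩, hQ'.1 (e' _).2⟩ : S) : Ω) = e ⟨x, hxP⟩ := by
    intro x hxP
    have h1 := hφe ⟨x, hxP⟩ (hPN hxP)
    rw [hx _ (hvS _)] at h1
    have h2 : (⟨e' ⟨x, hxP⟩, hQ'.1 (e' _).2⟩ : S) = α ⟨φ₀ ⟨x, hPN hxP⟩, hvS _⟩ := Subtype.ext h1.symm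
    rw [h2, MulAut.inv_apply_self, hev]
    rfl
  have hcard : Nat.card (normalizerIn S Q') ≤ Nat.card (normalizerIn S Q) := by
    haveI : Finite (normalizerIn S Q) := finite_of_le (normalizerIn_le S Q)
    have h1 : ∀ g (hg : g ∈ normalizerIn S Q'), (((α⁻¹ : MulAut S) ⟨g, hg.1⟩ : S) : Ω) ∈ normalizerIn S Q := by
      intro g hg
      refine map_normalizer hαm hQ'.1 ?_ ?_ hg hg.1
      · intro y hy
        show (((α⁻¹ : MulAut S) ⟨y, _⟩ : S) : Ω) ∈ Q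
        have h2 := hkey (e'.symm ⟨y, hy⟩) (e'.symm ⟨y, hy⟩).2
        have h3 : (⟨e' ⟨(e'.symm ⟨y, hy⟩ : P), (e'.symm ⟨y, hy⟩).2⟩, hQ'.1 (e' _).2⟩ : S) = ⟨y, hQ'.1 hy⟩ := by
          apply Subtype.ext
          show ((e' (e'.symm ⟨y, hy⟩) : Q') : Ω) = y
          rw [MulEquiv.apply_symm_apply]
        rw [h3] at h2
        rw [h2]; exact (e _).2
      · intro y hy
        refine ⟨e' (e.symm ⟨y, hy⟩), (e' _).2, ?_⟩
        have h2 := hkey (e.symm ⟨y, hy⟩) (e.symm ⟨y, hy⟩).2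
        show (((α⁻¹ : MulAut S) ⟨(e' (e.symm ⟨y, hy⟩) : Q'), _⟩ : S) : Ω) = y
        have h3 : ((e ⟨(e.symm ⟨y, hy⟩ : P), (e.symm ⟨y, hy⟩).2⟩ : Q) : Ω) = y := by
          show ((e (e.symm ⟨y, hy⟩) : Q) : Ω) = y
          rw [MulEquiv.apply_symm_apply]
        rw [h3] at h2
        exact h2
    refine Nat.card_le_card_of_injective (fun g : normalizerIn S Q' => (⟨_, h1 g g.2⟩ : normalizerIn S Q)) ?_
    intro a b hab
    have h2 := congrArg Subtype.val hab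
    have h3 := (α⁻¹ : MulAut S).injective (Subtype.ext h2)
    have h4 : (a : Ω) = b := Subtype.mk.inj h3
    exact Subtype.ext h4
  have hPQF : F.IsConj P Q := isConj_iff.2 ⟨e, hE.1 _ he⟩
  refine ⟨Q, ⟨hQS, fun R hR => ?_⟩, e, he, φ₀, hφ₀, fun x hxP hx' => (hev ⟨x, hxP⟩).symm, fun x => ?_⟩
  · refine (hQ'.2 R ?_).trans hcard
    obtain ⟨f, hf⟩ := isConj_iff.1 hR
    exact isConj_iff.2 ⟨(e'.symm.trans e).trans f, iso_trans (iso_trans (iso_symm he') (hE.1 _ he)) hf⟩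
  · refine map_normalizer hφ₀ hPN ?_ ?_ x.2 x.2
    · intro y hy
      have := hev ⟨y, hy⟩
      show φ₀ ⟨y, _⟩ ∈ Q
      have h2 : φ₀ ⟨y, hPN hy⟩ = e ⟨y, hy⟩ := this.symm
      rw [h2]; exact (e _).2
    · intro y hy
      refine ⟨e.symm ⟨y, hy⟩, (e.symm _).2, ?_⟩
      have h2 := hev (e.symm ⟨y, hy⟩)
      rw [MulEquiv.apply_symm_apply] at h2
      exact h2.symm

/-- good isomorphisms -/
def Gd (E : FusionSystem S) {P Q : Subgroup Ω} (e : P ≃* Q) : Prop :=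
  e ∈ Iso E P Q ∧ ∃ ψ ∈ E.Hom (P ⊔ centralizerIn S P), ∀ x (hx : x ∈ P), ψ ⟨x, Subgroup.mem_sup_left hx⟩ = e ⟨x, hx⟩

theorem map_PC {E : FusionSystem S} {P Q : Subgroup Ω} {e : P ≃* Q} {ψ : ↥(P ⊔ centralizerIn S P) →* Ω}
    (hψ : ψ ∈ E.Hom (P ⊔ centralizerIn S P)) (he : ∀ x (hx : x ∈ P), ψ ⟨x, Subgroup.mem_sup_left hx⟩ = e ⟨x, hx⟩) :
    (∀ c (hc : c ∈ centralizerIn S P), ψ ⟨c, Subgroup.mem_sup_right hc⟩ ∈ centralizerIn S Q) ∧
    ∀ x, ψ x ∈ Q ⊔ centralizerIn S Q := by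
  have h1 : ∀ c (hc : c ∈ centralizerIn S P), ψ ⟨c, Subgroup.mem_sup_right hc⟩ ∈ centralizerIn S Q := by
    intro c hc
    rw [mem_centralizerIn']
    refine ⟨mem_S hψ _, fun y hy => ?_⟩
    have h2 := he (e.symm ⟨y, hy⟩) (e.symm ⟨y, hy⟩).2
    have h3 : ((e ⟨(e.symm ⟨y, hy⟩ : P), (e.symm ⟨y, hy⟩).2⟩ : Q) : Ω) = y := by
      show ((e (e.symm ⟨y, hy⟩) : Q) : Ω) = y
      rw [MulEquiv.apply_symm_apply]
    rw [h3] at h2
    rw [← h2, ← map_inv, ← map_mul, ← map_mul]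
    congr 1
    exact Subtype.ext ((mem_centralizerIn'.1 hc).2 _ (e.symm ⟨y, hy⟩).2)
  refine ⟨h1, ?_⟩
  rintro ⟨x, hx⟩
  obtain ⟨a, ha, c, hc, rfl⟩ := mem_sup_comm (fun a ha c hc => (by
    have := (mem_centralizerIn'.1 hc).2 a ha
    rw [mul_inv_eq_iff_eq_mul] at this
    exact this.symm)) hx
  have h2 : (⟨a * c, hx⟩ : ↥(P ⊔ centralizerIn S P)) = ⟨a, Subgroup.mem_sup_left ha⟩ * ⟨c, Subgroup.mem_sup_right hc⟩ := rfl
  rw [h2, map_mul, he a ha]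
  exact Subgroup.mul_mem _ (Subgroup.mem_sup_left (e _).2) (Subgroup.mem_sup_right (h1 c hc))

theorem Gd_trans {E : FusionSystem S} {P Q R : Subgroup Ω} {e : P ≃* Q} {f : Q ≃* R} (he : Gd E e) (hf : Gd E f) :
    Gd E (e.trans f) := by
  obtain ⟨he, ψ, hψ, hψe⟩ := he
  obtain ⟨hf, χ, hχ, hχf⟩ := hf
  refine ⟨iso_trans he hf, _, E.comp_mem hψ hχ (map_PC hψ hψe).2, fun x hx => ?_⟩
  show χ ⟨ψ ⟨x, _⟩, _⟩ = f (e ⟨x, hx⟩)
  rw [← hχf]
  congr 1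
  exact Subtype.ext (hψe x hx)

theorem Gd_symm [Finite S] {E : FusionSystem S} {P Q : Subgroup Ω} {e : P ≃* Q} (he : Gd E e)
    (hc : Nat.card (centralizerIn S Q) ≤ Nat.card (centralizerIn S P)) : Gd E e.symm := by
  obtain ⟨he, ψ, hψ, hψe⟩ := he
  obtain ⟨h1, h2⟩ := map_PC hψ hψe
  obtain ⟨χ, hχ, hχv⟩ := E.inv_mem hψ
  haveI : Finite (centralizerIn S Q) := finite_of_le (centralizerIn_le S Q)
  haveI : Finite (centralizerIn S P) := finite_of_le (centralizerIn_le S P)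
  have hsur : ∀ c ∈ centralizerIn S Q, ∃ d, ∃ hd : d ∈ centralizerIn S P, ψ ⟨d, Subgroup.mem_sup_right hd⟩ = c := by
    have hinj : Function.Injective (fun d : centralizerIn S P => (⟨_, h1 d d.2⟩ : centralizerIn S Q)) := by
      intro a b hab
      have h3 := inj hψ (congrArg Subtype.val hab)
      have h4 : (a : Ω) = b := Subtype.mk.inj h3
      exact Subtype.ext h4
    have hb := ((Nat.bijective_iff_injective_and_card _).2 ⟨hinj, le_antisymm (Nat.card_le_card_of_injective _ hinj) hc⟩).2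
    intro c hc
    obtain ⟨d, hd⟩ := hb ⟨c, hc⟩
    exact ⟨d, d.2, congrArg Subtype.val hd⟩
  have hle : Q ⊔ centralizerIn S Q ≤ ψ.range := by
    refine sup_le (fun y hy => ?_) fun y hy => ?_
    · have h3 := hψe (e.symm ⟨y, hy⟩) (e.symm ⟨y, hy⟩).2
      refine ⟨_, h3.trans ?_⟩
      show ((e (e.symm ⟨y, hy⟩) : Q) : Ω) = y
      rw [MulEquiv.apply_symm_apply]
    · obtain ⟨d, hd, h3⟩ := hsur y hy
      exact ⟨_, h3⟩
  refine ⟨iso_symm he, _, restrict_mem hχ hle, fun y hy => ?_⟩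
  have h3 := hψe (e.symm ⟨y, hy⟩) (e.symm ⟨y, hy⟩).2
  have h4 := hχv ⟨(e.symm ⟨y, hy⟩ : P), Subgroup.mem_sup_left (e.symm ⟨y, hy⟩).2⟩
  show χ ⟨y, _⟩ = (e.symm ⟨y, hy⟩ : P)
  refine Eq.trans ?_ h4
  congr 1
  apply Subtype.ext
  show y = ψ _
  rw [h3]
  show y = ((e (e.symm ⟨y, hy⟩) : Q) : Ω)
  rw [MulEquiv.apply_symm_apply]

theorem card_eq_of_fn {F : FusionSystem S} {P Q : Subgroup Ω} (hP : F.IsFullyNormalized P) (hQ : F.IsFullyNormalized Q)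
    {e : P ≃* Q} (he : e ∈ Iso F P Q) : Nat.card (normalizerIn S P) = Nat.card (normalizerIn S Q) :=
  le_antisymm (hQ.2 P (isConj_iff.2 ⟨_, iso_symm he⟩)) (hP.2 Q (isConj_iff.2 ⟨_, he⟩))

theorem card_eq_of_fc {F : FusionSystem S} {P Q : Subgroup Ω} (hP : F.IsFullyCentralized P) (hQ : F.IsFullyCentralized Q)
    {e : P ≃* Q} (he : e ∈ Iso F P Q) : Nat.card (centralizerIn S P) = Nat.card (centralizerIn S Q) :=
  le_antisymm (hQ.2 P (isConj_iff.2 ⟨_, iso_symm he⟩)) (hP.2 Q (isConj_iff.2 ⟨_, he⟩))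

/-- maps extending beyond `P` are good -/
theorem good_of_ext [Finite S] {p : ℕ} [hp : Fact p.Prime] (hS : IsPGroup p S) {F : FusionSystem S} (hF : F.IsSaturated p)
    {E : FusionSystem S} (hE : PPc F p E) {n : ℕ} (hIH : ∀ R, F.IsFullyNormalized R → n < Nat.card R → E.IsReceptive R) :
    ∀ (k : ℕ) (P Q M : Subgroup Ω) (e : P ≃* Q), Nat.card S - Nat.card M = k → F.IsFullyNormalized P →
      F.IsFullyNormalized Q → Nat.card P = n → e ∈ Iso E P Q → P < M → M ≤ normalizerIn S P →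
      ∀ ζ ∈ E.Hom M, (∀ x (hx : x ∈ P) (hx' : x ∈ M), ζ ⟨x, hx'⟩ = e ⟨x, hx⟩) → Gd E e := by
  intro k
  induction k using Nat.strong_induction_on with
  | _ k ih =>
  intro P Q M e hk hP hQ hn he hPM hMN ζ hζ hζe
  have hPS := hP.1
  have hQS := hQ.1
  by_cases hCM : centralizerIn S P ≤ M
  · exact ⟨he, ζ.comp (Subgroup.inclusion (sup_le hPM.le hCM)), restrict_mem hζ _, fun x hx => hζe x hx _⟩
  obtain ⟨N, hN⟩ : ∃ N, M ⊔ centralizerIn S P = N := ⟨_, rfl⟩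
  have hMN' : M ≤ N := hN ▸ le_sup_left
  have hMS : M ≤ S := le_S hζ
  have hNP : N ≤ normalizerIn S P := hN ▸ sup_le hMN (centralizerIn_le_normalizerIn S P)
  have hNS : N ≤ S := hNP.trans (normalizerIn_le S P)
  have hMltN : M < N := by
    refine lt_of_le_of_ne hMN' fun h => hCM ?_
    rw [h, ← hN]; exact le_sup_right
  have hPN : P ≤ N := hPM.le.trans hMN'
  have hext : N ≤ extender S P (Q.subtype.comp e.toMonoidHom) := by
    rw [← hN]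
    refine sup_le (fun g hg => ?_) fun g hg => ?_
    · rw [mem_extender]
      refine ⟨hMS hg, (hMN hg).2, ζ ⟨g, hg⟩, mem_S hζ _, fun x hx => ?_⟩
      show ((e ⟨g * x * g⁻¹, hx⟩ : Q) : Ω) = ζ ⟨g, hg⟩ * (e x : Q) * (ζ ⟨g, hg⟩)⁻¹
      rw [← hζe _ hx (hPM.le hx), ← hζe x x.2 (hPM.le x.2), ← map_inv, ← map_mul, ← map_mul]
      rfl
    · rw [mem_extender]
      refine ⟨hg.1, Subgroup.centralizer_le_normalizer _ hg.2, 1, S.one_mem, fun x hx => ?_⟩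
      show ((e ⟨g * x * g⁻¹, hx⟩ : Q) : Ω) = 1 * (e x : Q) * 1⁻¹
      rw [one_mul, inv_one, mul_one]
      congr 2
      exact Subtype.ext ((mem_centralizerIn'.1 hg).2 x x.2)
  obtain ⟨φ, hφ, hφe⟩ := receptive_extend (sat_fn_receptive hS hF hQ) (hE.1 _ he : e ∈ Iso F P Q) hext
  have hsurj : ∀ y ∈ Q, ∃ x, ∃ hx : x ∈ P, ((e ⟨x, hx⟩ : Q) : Ω) = y := fun y hy =>
    ⟨e.symm ⟨y, hy⟩, (e.symm ⟨y, hy⟩).2, by
      show ((e (e.symm ⟨y, hy⟩) : Q) : Ω) = y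
      rw [MulEquiv.apply_symm_apply]⟩
  have hφN : ∀ x, φ x ∈ normalizerIn S Q := fun x => by
    refine map_normalizer hφ hPN (fun y hy => ?_) (fun y hy => ?_) (hNP x.2) x.2
    · rw [hφe y hy]; exact (e _).2
    · obtain ⟨x, hx, h⟩ := hsurj y hy
      exact ⟨x, hx, by rw [hφe x hx]; exact h⟩
  have hζN : ∀ x, ζ x ∈ normalizerIn S Q := fun x => by
    refine map_normalizer hζ hPM.le (fun y hy => ?_) (fun y hy => ?_) (hMN x.2) x.2
    · rw [hζe y hy]; exact (e _).2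
    · obtain ⟨x, hx, h⟩ := hsurj y hy
      exact ⟨x, hx, by rw [hζe x hx]; exact h⟩
  obtain ⟨φ', hφ', hφ'N, hφ'ζ, hφ'E⟩ := stepA hS hF hE hQ hPM.le hMN' hφ hφN hζ hζN
    (fun x hx hx' => by rw [hζe x hx]; exact (e _).2)
    (fun y hy => by
      obtain ⟨x, hx, h⟩ := hsurj y hy
      exact ⟨x, hx, by rw [hζe x hx]; exact h⟩)
    (fun x hx => by rw [hφe x hx, hζe x hx])
  have hφ'e : ∀ x (hx : x ∈ P), φ' ⟨x, hPN hx⟩ = e ⟨x, hx⟩ := fun x hx => by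
    rw [hφ'ζ x hx, hζe x hx]
  obtain ⟨M3, hM3⟩ : ∃ M3, N ⊓ Subgroup.normalizer (M : Set Ω) = M3 := ⟨_, rfl⟩
  haveI : Finite N := finite_of_le hNS
  have hMM3 : M < M3 := hM3 ▸ lt_normalizer_inf (hS.to_le hNS) hMltN
  have hM3N : M3 ≤ N := hM3 ▸ inf_le_left
  have hM3n : M3 ≤ normalizerIn S M := by
    rw [← hM3]; exact inf_le_inf hNS le_rfl
  haveI : Finite M3 := finite_of_le (hM3N.trans hNS)
  haveI : Finite M := finite_of_le hMS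
  have hcM : Nat.card M < Nat.card M3 := lt_of_le_of_ne (Subgroup.card_le_of_le hMM3.le) fun h =>
    hMM3.ne (Subgroup.eq_of_le_of_card_ge hMM3.le h.ge)
  have hcM3 : Nat.card M3 ≤ Nat.card S := Subgroup.card_le_of_le (hM3N.trans hNS)
  have hcP : Nat.card P < Nat.card M := lt_of_le_of_ne (Subgroup.card_le_of_le hPM.le) fun h =>
    hPM.ne (Subgroup.eq_of_le_of_card_ge hPM.le h.ge)
  obtain ⟨M', hM'⟩ : ∃ M', (φ'.comp (Subgroup.inclusion hMN')).range = M' := ⟨_, rfl⟩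
  obtain ⟨f, hf, hfv⟩ := exists_iso hφ'E hM'
  have hfv' : ∀ x (hx : x ∈ M), ((f ⟨x, hx⟩ : M') : Ω) = φ' ⟨x, hMN' hx⟩ := fun x hx => hfv ⟨x, hx⟩
  have hM'S : M' ≤ S := iso_le_right hf
  obtain ⟨M2, hM2, f2, hf2, χ, hχ, hχf, hχN⟩ := pp_transport hS hF hE hM'S
  have hcM' : Nat.card M' = Nat.card M := (Nat.card_congr f.toEquiv).symm
  have hcM2 : Nat.card M2 = Nat.card M := (Nat.card_congr (f.trans f2).toEquiv).symm
  have hrec := hIH M2 hM2 (by rw [hcM2, ← hn]; exact hcP)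
  have hM'N : M' ≤ normalizerIn S M' := le_normalizerIn hM'S
  have hφ'M3 : ∀ g (hg : g ∈ M3), φ' ⟨g, hM3N hg⟩ ∈ normalizerIn S M' := by
    intro g hg
    refine map_normalizer hφ' hMN' (fun y hy => ?_) (fun y hy => ?_) (hM3n hg) (hM3N hg)
    · rw [← hfv' y hy]; exact (f _).2
    · refine ⟨f.symm ⟨y, hy⟩, (f.symm ⟨y, hy⟩).2, ?_⟩
      rw [← hfv' _ (f.symm ⟨y, hy⟩).2]
      show ((f (f.symm ⟨y, hy⟩) : M') : Ω) = y
      rw [MulEquiv.apply_symm_apply]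
  have hgv : ∀ x (hx : x ∈ M) (h' : φ' ⟨x, hMN' hx⟩ ∈ normalizerIn S M'), (((f.trans f2) ⟨x, hx⟩ : M2) : Ω) = χ ⟨φ' ⟨x, hMN' hx⟩, h'⟩ := by
    intro x hx h'
    show ((f2 (f ⟨x, hx⟩) : M2) : Ω) = _
    rw [← hχf _ (f ⟨x, hx⟩).2 (hM'N (f ⟨x, hx⟩).2)]
    congr 1
    exact Subtype.ext (hfv' x hx)
  have hM3ext : M3 ≤ extender S M (M2.subtype.comp (f.trans f2).toMonoidHom) := by
    intro g hg
    rw [mem_extender]
    refine ⟨(hM3n hg).1, (hM3n hg).2, χ ⟨_, hφ'M3 g hg⟩, mem_S hχ _, fun x hx => ?_⟩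
    show (((f.trans f2) ⟨g * x * g⁻¹, hx⟩ : M2) : Ω) = χ ⟨_, hφ'M3 g hg⟩ * ((f.trans f2) x : M2) * (χ ⟨_, hφ'M3 g hg⟩)⁻¹
    have h1 : ∀ y (hy : y ∈ M), φ' ⟨y, hMN' hy⟩ ∈ normalizerIn S M' := fun y hy => hφ'M3 y (hMM3.le hy)
    rw [hgv _ hx (h1 _ hx), show (f.trans f2) x = (f.trans f2) ⟨x, x.2⟩ from rfl, hgv _ x.2 (h1 _ x.2), ← map_inv, ← map_mul, ← map_mul]
    congr 1
    apply Subtype.ext
    show φ' ⟨g * x * g⁻¹, _⟩ = φ' ⟨g, _⟩ * φ' ⟨x, _⟩ * (φ' ⟨g, _⟩)⁻¹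
    rw [← map_inv, ← map_mul, ← map_mul]
    rfl
  obtain ⟨ζ2, hζ2, hζ2g⟩ := receptive_extend hrec (iso_trans hf hf2) hM3ext
  -- the images of P and Q
  have hPM3 : P ≤ M3 := hPM.le.trans hMM3.le
  obtain ⟨P2, hP2⟩ : ∃ P2, (ζ2.comp (Subgroup.inclusion hPM3)).range = P2 := ⟨_, rfl⟩
  obtain ⟨a0, ha0, ha0v⟩ := exists_iso (restrict_mem hζ2 hPM3) hP2
  have ha0v' : ∀ x (hx : x ∈ P), ((a0 ⟨x, hx⟩ : P2) : Ω) = ζ2 ⟨x, hPM3 hx⟩ := fun x hx => ha0v ⟨x, hx⟩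
  have hP2S : P2 ≤ S := iso_le_right ha0
  obtain ⟨Q1, hQ1, c, hc, ξ, hξ, hξc, hξN⟩ := pp_transport hS hF hE hP2S
  have hQN : Q ≤ normalizerIn S M' := by
    intro y hy
    obtain ⟨x, hx, rfl⟩ := hsurj y hy
    rw [← hφ'e x hx]
    exact hφ'M3 x (hPM3 hx)
  have hχa0 : ∀ x (hx : x ∈ P), χ ⟨e ⟨x, hx⟩, hQN (e _).2⟩ = a0 ⟨x, hx⟩ := by
    intro x hx
    rw [ha0v' x hx, hζ2g x (hPM.le hx), hgv x (hPM.le hx) (hφ'M3 x (hPM3 hx))]
    congr 1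
    exact Subtype.ext (hφ'e x hx).symm
  have hga : Gd E (a0.trans c) := by
    have hmem : ∀ x, ζ2 x ∈ normalizerIn S P2 := by
      intro x
      refine map_normalizer hζ2 hPM3 (fun y hy => ?_) (fun y hy => ?_) (hNP (hM3N x.2)) x.2
      · rw [← ha0v' y hy]; exact (a0 _).2
      · refine ⟨a0.symm ⟨y, hy⟩, (a0.symm ⟨y, hy⟩).2, ?_⟩
        rw [← ha0v' _ (a0.symm ⟨y, hy⟩).2]
        show ((a0 (a0.symm ⟨y, hy⟩) : P2) : Ω) = y
        rw [MulEquiv.apply_symm_apply]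
    refine ih (Nat.card S - Nat.card M3) (by omega) P Q1 M3 (a0.trans c) rfl hP hQ1 hn (iso_trans ha0 hc)
      (lt_of_lt_of_le hPM hMM3.le) (hM3N.trans hNP) _ (E.comp_mem hζ2 hξ hmem) fun x hx hx' => ?_
    show ξ ⟨ζ2 ⟨x, hx'⟩, _⟩ = c (a0 ⟨x, hx⟩)
    rw [← hξc _ (a0 ⟨x, hx⟩).2 (le_normalizerIn hP2S (a0 ⟨x, hx⟩).2)]
    congr 1
    exact Subtype.ext (ha0v' x hx).symm
  have hgb : Gd E ((e.symm.trans a0).trans c) := by
    have hM'Q : M' ≤ normalizerIn S Q := by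
      rw [← hM']
      rintro _ ⟨x, rfl⟩
      exact hφ'N _
    haveI : Finite (normalizerIn S Q) := finite_of_le (normalizerIn_le S Q)
    haveI : Finite (normalizerIn S P) := finite_of_le (normalizerIn_le S P)
    have hlt : M' < normalizerIn S Q := by
      refine lt_of_le_of_ne hM'Q fun h => ?_
      have h1 := card_eq_of_fn hP hQ (hE.1 _ he : e ∈ Iso F P Q)
      rw [← h, hcM'] at h1
      have h2 : Nat.card N ≤ Nat.card (normalizerIn S P) := Subgroup.card_le_of_le hNP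
      have h3 : Nat.card M3 ≤ Nat.card N := Subgroup.card_le_of_le hM3N
      omega
    obtain ⟨M4, hM4⟩ : ∃ M4, normalizerIn S Q ⊓ Subgroup.normalizer (M' : Set Ω) = M4 := ⟨_, rfl⟩
    have hM'M4 : M' < M4 := hM4 ▸ lt_normalizer_inf (hS.to_le (normalizerIn_le S Q)) hlt
    have hM4Q : M4 ≤ normalizerIn S Q := hM4 ▸ inf_le_left
    have hM4N : M4 ≤ normalizerIn S M' := by
      rw [← hM4]; exact inf_le_inf (normalizerIn_le S Q) le_rfl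
    haveI : Finite M4 := finite_of_le (hM4Q.trans (normalizerIn_le S Q))
    have hcM4 : Nat.card M' < Nat.card M4 := lt_of_le_of_ne (Subgroup.card_le_of_le hM'M4.le) fun h =>
      hM'M4.ne (Subgroup.eq_of_le_of_card_ge hM'M4.le h.ge)
    have hcM4S : Nat.card M4 ≤ Nat.card S := Subgroup.card_le_of_le (hM4Q.trans (normalizerIn_le S Q))
    have hQM' : Q ≤ M' := by
      intro y hy
      obtain ⟨x, hx, rfl⟩ := hsurj y hy
      rw [← hφ'e x hx, ← hM']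
      exact ⟨⟨x, hPM.le hx⟩, rfl⟩
    have hcQ : Nat.card Q = n := by rw [← hn]; exact (Nat.card_congr e.toEquiv).symm
    have hQltM' : Q < M' := lt_of_le_of_ne hQM' fun h => by
      have h1 : Nat.card Q = Nat.card M' := by rw [h]
      omega
    have hmem : ∀ x : M4, (χ.comp (Subgroup.inclusion hM4N)) x ∈ normalizerIn S P2 := by
      intro x
      refine map_normalizer hχ hQN (fun y hy => ?_) (fun y hy => ?_) (hM4Q x.2) (hM4N x.2)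
      · obtain ⟨x, hx, rfl⟩ := hsurj y hy
        rw [hχa0 x hx]; exact (a0 _).2
      · have h1 := hχa0 (a0.symm ⟨y, hy⟩) (a0.symm ⟨y, hy⟩).2
        refine ⟨_, (e (a0.symm ⟨y, hy⟩)).2, h1.trans ?_⟩
        show ((a0 (a0.symm ⟨y, hy⟩) : P2) : Ω) = y
        rw [MulEquiv.apply_symm_apply]
    refine ih (Nat.card S - Nat.card M4) (by omega) Q Q1 M4 ((e.symm.trans a0).trans c) rfl hQ hQ1 hcQ
      (iso_trans (iso_trans (iso_symm he) ha0) hc) (hQltM'.trans hM'M4) hM4Q _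
      (E.comp_mem (restrict_mem hχ hM4N) hξ hmem) fun y hy hy' => ?_
    show ξ ⟨χ ⟨y, _⟩, _⟩ = c (a0 (e.symm ⟨y, hy⟩))
    rw [← hξc _ (a0 (e.symm ⟨y, hy⟩)).2 (le_normalizerIn hP2S (a0 _).2)]
    congr 1
    apply Subtype.ext
    show χ ⟨y, _⟩ = a0 (e.symm ⟨y, hy⟩)
    have h1 := hχa0 (e.symm ⟨y, hy⟩) (e.symm ⟨y, hy⟩).2
    refine Eq.trans ?_ h1
    congr 1
    apply Subtype.ext
    show y = ((e (e.symm ⟨y, hy⟩) : Q) : Ω)
    rw [MulEquiv.apply_symm_apply]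
  have hfc1 : F.IsFullyCentralized Q := (sat_fn hS hF hQ).1
  have hfc2 : F.IsFullyCentralized Q1 := (sat_fn hS hF hQ1).1
  have hb := Gd_symm hgb (card_eq_of_fc hfc1 hfc2 (hE.1 _ hgb.1 : _ ∈ Iso F Q Q1)).ge
  have hfin := Gd_trans hga hb
  have heq : (a0.trans c).trans ((e.symm.trans a0).trans c).symm = e := by
    ext x
    simp
  rw [heq] at hfin
  exact hfin

end CfsgLib.Fus21
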