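import Cfsg.Agent.LibFus21Pp4

set_option autoImplicit false

/-! Saturation of subsystems generated by centric maps. -/

namespace CfsgLib.Fus21

open Cfsg Cfsg.FusionSystem

universe u

variable {Ω : Type u} [Group Ω] {S : Subgroup Ω}

theorem self_centric [Finite S] (F : FusionSystem S) : F.IsCentric S := by
  refine ⟨le_rfl, ?_⟩
  rintro _ ⟨ρ, hρ, rfl⟩
  have h1 : ρ.range = S := by
    apply Subgroup.eq_of_le_of_card_ge (range_le hρ)
    exact (Nat.card_congr (MonoidHom.ofInjective (inj hρ)).toEquiv).le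
  rw [h1]
  exact centralizerIn_le S S

/-- isomorphisms extending to the normalizer -/
def NExt (E : FusionSystem S) {P P1 : Subgroup Ω} (e1 : P ≃* P1) : Prop :=
  e1 ∈ Iso E P P1 ∧ ∃ χ ∈ E.Hom (normalizerIn S P), ∀ x (hx : x ∈ P) (hx' : x ∈ normalizerIn S P), χ ⟨x, hx'⟩ = e1 ⟨x, hx⟩

/-- isomorphisms that become good between fully normalized subgroups -/
def Gn (F E : FusionSystem S) {P Q : Subgroup Ω} (e : P ≃* Q) : Prop :=
  e ∈ Iso E P Q ∧ ∀ (P1 P2 : Subgroup Ω) (e1 : P ≃* P1) (e2 : Q ≃* P2), F.IsFullyNormalized P1 → F.IsFullyNormalized P2 →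
    NExt E e1 → NExt E e2 → Gd E (e1.symm.trans (e.trans e2))

theorem Gn_trans [Finite S] {p : ℕ} [hp : Fact p.Prime] (hS : IsPGroup p S) {F : FusionSystem S} (hF : F.IsSaturated p)
    {E : FusionSystem S} (hE : PPc F p E) {P Q R : Subgroup Ω} {e : P ≃* Q} {f : Q ≃* R} (he : Gn F E e) (hf : Gn F E f) :
    Gn F E (e.trans f) := by
  refine ⟨iso_trans he.1 hf.1, fun P1 P2 e1 e2 hP1 hP2 h1 h2 => ?_⟩
  obtain ⟨Q1, hQ1, q, hq, χ, hχ, hχq, -⟩ := pp_transport hS hF hE (iso_le_right he.1)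
  have hq' : NExt E q := ⟨hq, χ, hχ, hχq⟩
  have g1 := he.2 P1 Q1 e1 q hP1 hQ1 h1 hq'
  have g2 := hf.2 Q1 P2 q e2 hQ1 hP2 hq' h2
  have g3 := Gd_trans g1 g2
  have heq : (e1.symm.trans (e.trans q)).trans (q.symm.trans (f.trans e2)) = e1.symm.trans ((e.trans f).trans e2) := by
    ext x
    simp
  rw [heq] at g3
  exact g3

theorem Gn_symm [Finite S] {p : ℕ} [hp : Fact p.Prime] (hS : IsPGroup p S) {F : FusionSystem S} (hF : F.IsSaturated p)
    {E : FusionSystem S} (hE : PPc F p E) {P Q : Subgroup Ω} {e : P ≃* Q} (he : Gn F E e) : Gn F E e.symm := by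
  refine ⟨iso_symm he.1, fun P1 P2 e1 e2 hP1 hP2 h1 h2 => ?_⟩
  have g1 := he.2 P2 P1 e2 e1 hP2 hP1 h2 h1
  have hfc1 : F.IsFullyCentralized P1 := (sat_fn hS hF hP1).1
  have hfc2 : F.IsFullyCentralized P2 := (sat_fn hS hF hP2).1
  have g2 := Gd_symm g1 (card_eq_of_fc hfc2 hfc1 (hE.1 _ g1.1 : _ ∈ Iso F P2 P1)).ge
  have heq : (e2.symm.trans (e.trans e1)).symm = e1.symm.trans (e.symm.trans e2) := by
    ext x
    simp
  rw [heq] at g2
  exact g2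

theorem Gn_of_centric [Finite S] {p : ℕ} [hp : Fact p.Prime] (hS : IsPGroup p S) {F : FusionSystem S} (hF : F.IsSaturated p)
    {E : FusionSystem S} (hE : PPc F p E) {n : ℕ} (hIH : ∀ R, F.IsFullyNormalized R → n < Nat.card R → E.IsReceptive R)
    {R : Subgroup Ω} (hR : F.IsCentric R) {φ : R →* Ω} (hφ : φ ∈ E.Hom R) {P Q : Subgroup Ω} (hPR : P ≤ R)
    (hn : Nat.card P = n) {e : P ≃* Q} (he : ∀ x (hx : x ∈ P), ((e ⟨x, hx⟩ : Q) : Ω) = φ ⟨x, hPR hx⟩) : Gn F E e := by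
  have heE : e ∈ Iso E P Q := by
    rw [mem_iso]
    exact restrict_mem' hφ hPR fun x => he x x.2
  refine ⟨heE, fun P1 P2 e1 e2 hP1 hP2 h1 h2 => ?_⟩
  obtain ⟨h1E, χ1, hχ1, hχ1e⟩ := h1
  obtain ⟨h2E, χ2, hχ2, hχ2e⟩ := h2
  have hgE : e1.symm.trans (e.trans e2) ∈ Iso E P1 P2 := iso_trans (iso_symm h1E) (iso_trans heE h2E)
  have hPS := iso_le_left heE
  have hQS := iso_le_right heE
  have hRS := hR.1
  rcases hPR.eq_or_lt with rfl | hlt
  · have hP1c : F.IsCentric P1 := centric_conj (isConj_iff.2 ⟨e1, hE.1 _ h1E⟩) hR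
    have hle : P1 ⊔ centralizerIn S P1 ≤ P1 := sup_le le_rfl (centric_centralizer_le hP1c)
    exact ⟨hgE, _, restrict_mem hgE hle, fun x hx => rfl⟩
  · obtain ⟨N, hN⟩ : ∃ N, R ⊓ Subgroup.normalizer (P : Set Ω) = N := ⟨_, rfl⟩
    haveI : Finite R := finite_of_le hRS
    have hPN : P < N := hN ▸ lt_normalizer_inf (hS.to_le hRS) hlt
    have hNR : N ≤ R := hN ▸ inf_le_left
    have hNS : N ≤ normalizerIn S P := by rw [← hN]; exact inf_le_inf hRS le_rfl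
    haveI : Finite N := finite_of_le (hNR.trans hRS)
    have hsurj : ∀ {A B : Subgroup Ω} (e : A ≃* B), ∀ y ∈ B, ∃ x, ∃ hx : x ∈ A, ((e ⟨x, hx⟩ : B) : Ω) = y := fun e y hy =>
      ⟨e.symm ⟨y, hy⟩, (e.symm ⟨y, hy⟩).2, by
        show ((e (e.symm ⟨y, hy⟩) : _) : Ω) = y
        rw [MulEquiv.apply_symm_apply]⟩
    -- the image M of N
    obtain ⟨M, hM⟩ : ∃ M, (χ1.comp (Subgroup.inclusion hNS)).range = M := ⟨_, rfl⟩
    obtain ⟨f, hf, hfv⟩ := exists_iso (restrict_mem hχ1 hNS) hM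
    have hfv' : ∀ x (hx : x ∈ N), ((f ⟨x, hx⟩ : M) : Ω) = χ1 ⟨x, hNS hx⟩ := fun x hx => hfv ⟨x, hx⟩
    have hfe : ∀ x (hx : x ∈ P), ((f ⟨x, hPN.le hx⟩ : M) : Ω) = e1 ⟨x, hx⟩ := fun x hx => by
      rw [hfv', hχ1e x hx]
    have hP1M : P1 ≤ M := by
      intro y hy
      obtain ⟨x, hx, rfl⟩ := hsurj e1 y hy
      rw [← hfe x hx]; exact (f _).2
    have hcM : Nat.card M = Nat.card N := (Nat.card_congr f.toEquiv).symm
    have hcP1 : Nat.card P1 = n := by rw [← hn]; exact (Nat.card_congr e1.toEquiv).symm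
    have hcN : Nat.card P < Nat.card N := lt_of_le_of_ne (Subgroup.card_le_of_le hPN.le) fun h =>
      hPN.ne (Subgroup.eq_of_le_of_card_ge hPN.le h.ge)
    have hP1lt : P1 < M := lt_of_le_of_ne hP1M fun h => by
      have h3 : Nat.card P1 = Nat.card M := by rw [h]
      omega
    have hMN : M ≤ normalizerIn S P1 := by
      rw [← hM]
      rintro _ ⟨x, rfl⟩
      refine map_normalizer hχ1 (le_normalizerIn hPS) (fun y hy => ?_) (fun y hy => ?_) (hNS x.2) (hNS x.2)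
      · rw [hχ1e y hy]; exact (e1 _).2
      · obtain ⟨x, hx, h⟩ := hsurj e1 y hy
        exact ⟨x, hx, by rw [hχ1e x hx]; exact h⟩
    have hsym := iso_symm hf
    -- N → N_S(Q)
    have hφN : ∀ x : N, (φ.comp (Subgroup.inclusion hNR)) x ∈ normalizerIn S Q := by
      intro x
      refine map_normalizer hφ hPR (fun y hy => ?_) (fun y hy => ?_) (hNS x.2) (hNR x.2)
      · rw [← he y hy]; exact (e _).2
      · obtain ⟨x, hx, h⟩ := hsurj e y hy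
        exact ⟨x, hx, by rw [← he x hx]; exact h⟩
    have d1 := E.comp_mem (restrict_mem hφ hNR) hχ2 hφN
    have d2 := E.comp_mem hsym d1 (fun x => (f.symm x).2)
    refine good_of_ext hS hF hE hIH _ P1 P2 M _ rfl hP1 hP2 hcP1 hgE hP1lt hMN _ d2 fun x hx hx' => ?_
    obtain ⟨w, hw, rfl⟩ := hsurj e1 x hx
    have h3 : f.symm ⟨((e1 ⟨w, hw⟩ : P1) : Ω), hx'⟩ = ⟨w, hPN.le hw⟩ := by
      rw [MulEquiv.symm_apply_eq]
      exact Subtype.ext (hfe w hw).symm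
    have h4 : (e1.symm.trans (e.trans e2)) ⟨((e1 ⟨w, hw⟩ : P1) : Ω), hx⟩ = e2 (e ⟨w, hw⟩) := by
      show e2 (e (e1.symm (e1 ⟨w, hw⟩))) = _
      rw [MulEquiv.symm_apply_apply]
    rw [h4, ← hχ2e _ (e ⟨w, hw⟩).2 (le_normalizerIn hQS (e _).2)]
    show χ2 ⟨φ ⟨(f.symm ⟨((e1 ⟨w, hw⟩ : P1) : Ω), hx'⟩ : N), _⟩, _⟩ = _
    congr 1
    apply Subtype.ext
    show φ ⟨(f.symm ⟨((e1 ⟨w, hw⟩ : P1) : Ω), hx'⟩ : N), _⟩ = e ⟨w, hw⟩
    rw [he]
    congr 1
    apply Subtype.ext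
    exact congrArg (fun t : N => (t : Ω)) h3

/-- the fusion system of maps all of whose restrictions to subgroups of order `n` are fine -/
def gnSys [Finite S] {p : ℕ} [hp : Fact p.Prime] (hS : IsPGroup p S) {F : FusionSystem S} (hF : F.IsSaturated p)
    {E : FusionSystem S} (hE : PPc F p E) {n : ℕ} (hIH : ∀ R, F.IsFullyNormalized R → n < Nat.card R → E.IsReceptive R) :
    FusionSystem S where
  Hom P := {φ | φ ∈ E.Hom P ∧ ∀ (P0 : Subgroup Ω) (hP0 : P0 ≤ P), Nat.card P0 = n → ∀ (Q0 : Subgroup Ω) (e : P0 ≃* Q0),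
    (∀ x (hx : x ∈ P0), ((e ⟨x, hx⟩ : Q0) : Ω) = φ ⟨x, hP0 hx⟩) → Gn F E e}
  le_of_mem h := E.le_of_mem h.1
  injective_of_mem h := E.injective_of_mem h.1
  conj_mem := by
    intro P g hP hg
    refine ⟨E.conj_mem hP hg, fun P0 hP0 hn Q0 e he => ?_⟩
    exact Gn_of_centric hS hF hE hIH (self_centric F) (E.conj_mem le_rfl hg) (hP0.trans hP) hn he
  comp_mem := by
    rintro P Q φ ψ ⟨hφ, hφ2⟩ ⟨hψ, hψ2⟩ h
    refine ⟨E.comp_mem hφ hψ h, fun P0 hP0 hn R0 e he => ?_⟩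
    obtain ⟨Q0, hQ0⟩ : ∃ Q0, (φ.comp (Subgroup.inclusion hP0)).range = Q0 := ⟨_, rfl⟩
    obtain ⟨f, hf, hfv⟩ := exists_iso (restrict_mem hφ hP0) hQ0
    have hfv' : ∀ x (hx : x ∈ P0), ((f ⟨x, hx⟩ : Q0) : Ω) = φ ⟨x, hP0 hx⟩ := fun x hx => hfv ⟨x, hx⟩
    have hQ0Q : Q0 ≤ Q := by
      rw [← hQ0]
      rintro _ ⟨x, rfl⟩
      exact h _
    have g1 : Gn F E f := hφ2 P0 hP0 hn Q0 f hfv'
    have g2 : Gn F E (f.symm.trans e) := by
      refine hψ2 Q0 hQ0Q (by rw [← hn]; exact (Nat.card_congr f.toEquiv).symm) R0 _ fun y hy => ?_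
      show ((e (f.symm ⟨y, hy⟩) : R0) : Ω) = _
      have h3 := he (f.symm ⟨y, hy⟩) (f.symm ⟨y, hy⟩).2
      refine Eq.trans h3 ?_
      show ψ ⟨φ ⟨(f.symm ⟨y, hy⟩ : P0), _⟩, _⟩ = ψ ⟨y, _⟩
      congr 1
      apply Subtype.ext
      show φ ⟨(f.symm ⟨y, hy⟩ : P0), _⟩ = y
      rw [← hfv' _ (f.symm ⟨y, hy⟩).2]
      show ((f (f.symm ⟨y, hy⟩) : Q0) : Ω) = y
      rw [MulEquiv.apply_symm_apply]
    have g3 := Gn_trans hS hF hE g1 g2
    have heq : f.trans (f.symm.trans e) = e := by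
      ext x
      simp
    rw [heq] at g3
    exact g3
  inv_mem := by
    rintro P φ ⟨hφ, hφ2⟩
    obtain ⟨ψ, hψ, hψv⟩ := E.inv_mem hφ
    refine ⟨ψ, ⟨hψ, fun P0 hP0 hn Q0 e he => ?_⟩, hψv⟩
    have hQ0P : Q0 ≤ P := by
      intro y hy
      have h3 := he (e.symm ⟨y, hy⟩) (e.symm ⟨y, hy⟩).2
      have h4 : ((e ⟨(e.symm ⟨y, hy⟩ : P0), (e.symm ⟨y, hy⟩).2⟩ : Q0) : Ω) = y := by
        show ((e (e.symm ⟨y, hy⟩) : Q0) : Ω) = y
        rw [MulEquiv.apply_symm_apply]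
      rw [h4] at h3
      obtain ⟨x, hx⟩ := hP0 (e.symm ⟨y, hy⟩).2
      rw [h3]
      have h5 : (⟨(e.symm ⟨y, hy⟩ : P0), hP0 (e.symm ⟨y, hy⟩).2⟩ : φ.range) = ⟨φ x, ⟨x, rfl⟩⟩ := Subtype.ext hx.symm
      rw [h5, hψv]
      exact x.2
    have g1 : Gn F E e.symm := by
      refine hφ2 Q0 hQ0P (by rw [← hn]; exact (Nat.card_congr e.toEquiv).symm) P0 _ fun y hy => ?_
      have h3 := he (e.symm ⟨y, hy⟩) (e.symm ⟨y, hy⟩).2
      have h4 : ((e ⟨(e.symm ⟨y, hy⟩ : P0), (e.symm ⟨y, hy⟩).2⟩ : Q0) : Ω) = y := by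
        show ((e (e.symm ⟨y, hy⟩) : Q0) : Ω) = y
        rw [MulEquiv.apply_symm_apply]
      rw [h4] at h3
      obtain ⟨x, hx⟩ := hP0 (e.symm ⟨y, hy⟩).2
      have h5 : (⟨(e.symm ⟨y, hy⟩ : P0), hP0 (e.symm ⟨y, hy⟩).2⟩ : φ.range) = ⟨φ x, ⟨x, rfl⟩⟩ := Subtype.ext hx.symm
      rw [h5, hψv] at h3
      rw [← hx]
      congr 1
      exact Subtype.ext h3.symm
    have g2 := Gn_symm hS hF hE g1
    rw [MulEquiv.symm_symm] at g2
    exact g2

theorem cg_good [Finite S] {p : ℕ} [hp : Fact p.Prime] (hS : IsPGroup p S) {F : FusionSystem S} (hF : F.IsSaturated p)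
    {E : FusionSystem S} (hE : CG F E p) {n : ℕ} (hIH : ∀ R, F.IsFullyNormalized R → n < Nat.card R → E.IsReceptive R)
    {P Q : Subgroup Ω} {e : P ≃* Q} (he : e ∈ Iso E P Q) (hn : Nat.card P = n) (hP : F.IsFullyNormalized P)
    (hQ : F.IsFullyNormalized Q) : Gd E e := by
  have h1 : E ≤ gnSys hS hF hE.pp hIH := by
    refine hE.gen _ fun R hR φ hφ => ⟨hφ, fun P0 hP0 hn Q0 e he => ?_⟩
    exact Gn_of_centric hS hF hE.pp hIH hR hφ hP0 hn he
  have h2 := h1 P he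
  have h3 := h2.2 P le_rfl hn Q e fun x hx => rfl
  have hid : ∀ R : Subgroup Ω, R ≤ S → NExt E (MulEquiv.refl R) := fun R hR =>
    ⟨inclusion_mem E hR fun x => rfl, _, incl_mem E (normalizerIn_le S R), fun x hx hx' => rfl⟩
  have h4 := h3.2 P Q (MulEquiv.refl P) (MulEquiv.refl Q) hP hQ (hid P hP.1) (hid Q hQ.1)
  have heq : (MulEquiv.refl P).symm.trans (e.trans (MulEquiv.refl Q)) = e := by
    ext x
    simp
  rw [heq] at h4
  exact h4

theorem centric_sup_of_fc [Finite S] {F : FusionSystem S} {Q : Subgroup Ω} (hQ : F.IsFullyCentralized Q) :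
    F.IsCentric (Q ⊔ centralizerIn S Q) := by
  have hQS := hQ.1
  have hRS : Q ⊔ centralizerIn S Q ≤ S := sup_le hQS (centralizerIn_le _ _)
  refine ⟨hRS, ?_⟩
  rintro _ ⟨ρ, hρ, rfl⟩
  obtain ⟨Q1, hQ1⟩ : ∃ Q1, (ρ.comp (Subgroup.inclusion (le_sup_left : Q ≤ Q ⊔ centralizerIn S Q))).range = Q1 := ⟨_, rfl⟩
  obtain ⟨e, he, hev⟩ := exists_iso (restrict_mem hρ (le_sup_left : Q ≤ Q ⊔ centralizerIn S Q)) hQ1
  have h1 := (map_PC (e := e) hρ (fun x hx => (hev ⟨x, hx⟩).symm)).1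
  have hcard := hQ.2 Q1 (isConj_iff.2 ⟨e, he⟩)
  haveI : Finite (centralizerIn S Q1) := finite_of_le (centralizerIn_le S Q1)
  haveI : Finite (centralizerIn S Q) := finite_of_le (centralizerIn_le S Q)
  have hinj : Function.Injective (fun d : centralizerIn S Q => (⟨_, h1 d d.2⟩ : centralizerIn S Q1)) := by
    intro a b hab
    have h3 := inj hρ (congrArg Subtype.val hab)
    have h4 : (a : Ω) = b := Subtype.mk.inj h3
    exact Subtype.ext h4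
  have hb := ((Nat.bijective_iff_injective_and_card _).2 ⟨hinj, le_antisymm (Nat.card_le_card_of_injective _ hinj) hcard⟩).2
  intro c hc
  have hc1 : c ∈ centralizerIn S Q1 := by
    rw [mem_centralizerIn'] at hc ⊢
    refine ⟨hc.1, fun y hy => hc.2 y ?_⟩
    rw [← hQ1] at hy
    obtain ⟨x, rfl⟩ := hy
    exact ⟨_, rfl⟩
  obtain ⟨d, hd⟩ := hb ⟨c, hc1⟩
  exact ⟨_, congrArg Subtype.val hd⟩

/-- subsystems generated by centric maps are saturated -/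
theorem cg_saturated [Finite S] {p : ℕ} [hp : Fact p.Prime] (hS : IsPGroup p S) {F : FusionSystem S} (hF : F.IsSaturated p)
    {E : FusionSystem S} (hE : CG F E p) : E.IsSaturated p := by
  have key : ∀ (k : ℕ) (Q : Subgroup Ω), Nat.card S - Nat.card Q = k → F.IsFullyNormalized Q → E.IsReceptive Q := by
    intro k
    induction k using Nat.strong_induction_on with
    | _ k ih =>
    intro Q hk hQ
    have hQS := hQ.1
    have hIH : ∀ R, F.IsFullyNormalized R → Nat.card Q < Nat.card R → E.IsReceptive R := by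
      intro R hR hlt
      have : Nat.card R ≤ Nat.card S := Subgroup.card_le_of_le hR.1
      exact ih (Nat.card S - Nat.card R) (by omega) R rfl hR
    refine ⟨hQS, fun P φ hφ hφQ => ?_⟩
    obtain ⟨f, hf, hfv⟩ := exists_iso hφ hφQ
    have hPS := le_S hφ
    obtain ⟨P1, hP1, e1, he1, χ, hχ, hχe, hχN⟩ := pp_transport hS hF hE.pp hPS
    have heE : e1.symm.trans f ∈ Iso E P1 Q := iso_trans (iso_symm he1) hf
    have hc1 : Nat.card P1 = Nat.card Q := Nat.card_congr (e1.symm.trans f).toEquiv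
    have hgd := cg_good hS hF hE hIH heE hc1 hP1 hQ
    obtain ⟨-, ζ, hζ, hζe⟩ := hgd
    obtain ⟨e, hee⟩ : ∃ e, e1.symm.trans f = e := ⟨_, rfl⟩
    rw [hee] at heE
    have hζe' : ∀ x (hx : x ∈ P1), ζ ⟨x, Subgroup.mem_sup_left hx⟩ = e ⟨x, hx⟩ := by rw [← hee]; exact hζe
    have hsurj : ∀ y ∈ Q, ∃ x, ∃ hx : x ∈ P1, ((e ⟨x, hx⟩ : Q) : Ω) = y := fun y hy =>
      ⟨e.symm ⟨y, hy⟩, (e.symm ⟨y, hy⟩).2, by
        show ((e (e.symm ⟨y, hy⟩) : _) : Ω) = y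
        rw [MulEquiv.apply_symm_apply]⟩
    obtain ⟨N, hN⟩ : ∃ N, extender S P1 (Q.subtype.comp e.toMonoidHom) = N := ⟨_, rfl⟩
    have hNn : N ≤ normalizerIn S P1 := by
      rw [← hN]
      intro g hg
      have := mem_extender.1 hg
      exact ⟨this.1, this.2.1⟩
    have hMn : P1 ⊔ centralizerIn S P1 ≤ normalizerIn S P1 := sup_le (le_normalizerIn hP1.1) (centralizerIn_le_normalizerIn _ _)
    have hMN : P1 ⊔ centralizerIn S P1 ≤ N := by
      rw [← hN]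
      refine sup_le (fun g hg => ?_) fun g hg => ?_
      · rw [mem_extender]
        refine ⟨hP1.1 hg, Subgroup.le_normalizer hg, e ⟨g, hg⟩, hQS (e _).2, fun x hx => ?_⟩
        show ((e ⟨g * x * g⁻¹, hx⟩ : Q) : Ω) = (e ⟨g, hg⟩ : Q) * (e x : Q) * ((e ⟨g, hg⟩ : Q) : Ω)⁻¹
        have h3 : (⟨g * x * g⁻¹, hx⟩ : P1) = ⟨g, hg⟩ * x * ⟨g, hg⟩⁻¹ := rfl
        rw [h3, map_mul, map_mul, map_inv]
        rfl
      · rw [mem_extender]
        refine ⟨hg.1, Subgroup.centralizer_le_normalizer _ hg.2, 1, S.one_mem, fun x hx => ?_⟩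
        show ((e ⟨g * x * g⁻¹, hx⟩ : Q) : Ω) = 1 * (e x : Q) * 1⁻¹
        rw [one_mul, inv_one, mul_one]
        congr 2
        exact Subtype.ext ((mem_centralizerIn'.1 hg).2 x x.2)
    have hPN : P1 ≤ N := le_sup_left.trans hMN
    obtain ⟨φ1, hφ1, hφ1e⟩ := receptive_extend (sat_fn_receptive hS hF hQ) (hE.pp.1 _ heE : e ∈ Iso F P1 Q) hN.ge
    have hφ1N : ∀ x, φ1 x ∈ normalizerIn S Q := fun x => by
      refine map_normalizer hφ1 hPN (fun y hy => ?_) (fun y hy => ?_) (hNn x.2) x.2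
      · rw [hφ1e y hy]; exact (e _).2
      · obtain ⟨x, hx, h⟩ := hsurj y hy
        exact ⟨x, hx, by rw [hφ1e x hx]; exact h⟩
    have hζN : ∀ x, ζ x ∈ normalizerIn S Q := fun x => by
      refine map_normalizer hζ le_sup_left (fun y hy => ?_) (fun y hy => ?_) (hMn x.2) x.2
      · rw [hζe' y hy]; exact (e _).2
      · obtain ⟨x, hx, h⟩ := hsurj y hy
        exact ⟨x, hx, by rw [hζe' x hx]; exact h⟩
    obtain ⟨φ2, hφ2, hφ2N, hφ2ζ, hφ2E⟩ := stepA hS hF hE.pp hQ (P := P1) le_sup_left hMN hφ1 hφ1N hζ hζN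
      (fun x hx hx' => by rw [hζe' x hx]; exact (e _).2)
      (fun y hy => by
        obtain ⟨x, hx, h⟩ := hsurj y hy
        exact ⟨x, hx, by rw [hζe' x hx]; exact h⟩)
      (fun x hx => by rw [hφ1e x hx, hζe' x hx])
    have hφ2E' : φ2 ∈ E.Hom N := hE.ext _ _ hMN (centric_sup_of_fc (sat_fn hS hF hP1).1) φ2 hφ2 hφ2E
    -- compose with χ
    have hle : extender S P φ ≤ normalizerIn S P := by
      intro g hg
      have := mem_extender.1 hg
      exact ⟨this.1, this.2.1⟩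
    have hmem : ∀ x : extender S P φ, (χ.comp (Subgroup.inclusion hle)) x ∈ N := by
      rintro ⟨g, hg⟩
      obtain ⟨hgS, hgn, h, hhS, hh⟩ := mem_extender.1 hg
      rw [← hN, mem_extender]
      have hgN : g ∈ normalizerIn S P := hle hg
      refine ⟨mem_S hχ _, ?_, h, hhS, ?_⟩
      · refine (map_normalizer hχ (le_normalizerIn hPS) (fun y hy => ?_) (fun y hy => ?_) hgN hgN).2
        · rw [hχe y hy]; exact (e1 _).2
        · refine ⟨e1.symm ⟨y, hy⟩, (e1.symm ⟨y, hy⟩).2, ?_⟩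
          rw [hχe _ (e1.symm ⟨y, hy⟩).2]
          show ((e1 (e1.symm ⟨y, hy⟩) : P1) : Ω) = y
          rw [MulEquiv.apply_symm_apply]
      · intro y hy
        obtain ⟨x, rfl⟩ := e1.surjective y
        have hgx : g * x * g⁻¹ ∈ P := ((mem_normalizerIn.1 hgN).2 x).1 x.2
        have h3 : (⟨χ ⟨g, hgN⟩ * (e1 x : P1) * (χ ⟨g, hgN⟩)⁻¹, hy⟩ : P1) = e1 ⟨g * x * g⁻¹, hgx⟩ := by
          apply Subtype.ext
          show χ ⟨g, hgN⟩ * (e1 x : P1) * (χ ⟨g, hgN⟩)⁻¹ = e1 ⟨g * x * g⁻¹, hgx⟩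
          have h4 := hχe x x.2 (le_normalizerIn hPS x.2)
          have h5 : (e1 ⟨(x : Ω), x.2⟩ : P1) = e1 x := rfl
          rw [h5] at h4
          rw [← h4, ← hχe _ hgx (le_normalizerIn hPS hgx), ← map_inv, ← map_mul, ← map_mul]
          rfl
        show ((e ⟨χ ⟨g, hgN⟩ * (e1 x : P1) * (χ ⟨g, hgN⟩)⁻¹, hy⟩ : Q) : Ω) = h * (e (e1 x) : Q) * h⁻¹
        have h6 : ∀ w : P, ((e (e1 w) : Q) : Ω) = φ w := by
          intro w
          rw [← hee]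
          show ((f (e1.symm (e1 w)) : Q) : Ω) = _
          rw [MulEquiv.symm_apply_apply, hfv]
        rw [h3, h6, h6]
        exact hh x hgx
    refine ⟨_, E.comp_mem (restrict_mem hχ hle) hφ2E' hmem, fun x hxP hxN => ?_⟩
    show φ2 ⟨χ ⟨x, hle hxN⟩, _⟩ = φ ⟨x, hxP⟩
    have h1 := hφ2ζ (e1 ⟨x, hxP⟩) (e1 ⟨x, hxP⟩).2
    rw [hζe' _ (e1 ⟨x, hxP⟩).2] at h1
    have h2 : ((e (e1 ⟨x, hxP⟩) : Q) : Ω) = φ ⟨x, hxP⟩ := by
      rw [← hee]
      show ((f (e1.symm (e1 ⟨x, hxP⟩)) : Q) : Ω) = _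
      rw [MulEquiv.symm_apply_apply, hfv]
    refine Eq.trans ?_ (h1.trans h2)
    congr 1
    exact Subtype.ext (hχe x hxP _)
  intro P hP
  obtain ⟨Q, hQ, e, he, -⟩ := pp_transport hS hF hE.pp hP
  refine ⟨Q, isConj_iff.2 ⟨e, he⟩, ?_, key _ Q rfl hQ⟩
  have hA := ((fullyAutomized_iff hS).1 (sat_fn hS hF hQ).2)
  rw [fullyAutomized_iff hS]
  have hsub : E.autGroup Q ≤ F.autGroup Q := by
    intro α hα
    rw [mem_autGroup hQ.1] at hα ⊢
    exact hE.pp.1 _ hα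
  exact ⟨hQ.1, fun h => hA.2 (h.trans (Dvd.intro _ (Subgroup.relIndex_mul_relIndex _ _ _ (autInducedBy_le_autGroup E hQ.1) hsub)))⟩

end CfsgLib.Fus21
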