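import Cfsg.Agent.LibFus21Pp5

set_option autoImplicit false

/-! The `p'`-residual subsystem. -/

namespace CfsgLib.Fus21

open Cfsg Cfsg.FusionSystem

universe u

variable {Ω : Type u} [Group Ω] {S : Subgroup Ω}

/-- intersection of a family of subsystems (inside `F`) -/
def interSys (F : FusionSystem S) (D : FusionSystem S → Prop) : FusionSystem S where
  Hom P := {φ | φ ∈ F.Hom P ∧ ∀ E : FusionSystem S, D E → φ ∈ E.Hom P}
  le_of_mem h := F.le_of_mem h.1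
  injective_of_mem h := F.injective_of_mem h.1
  conj_mem hP hg := ⟨F.conj_mem hP hg, fun E _ => E.conj_mem hP hg⟩
  comp_mem hφ hψ h := ⟨F.comp_mem hφ.1 hψ.1 h, fun E hE => E.comp_mem (hφ.2 E hE) (hψ.2 E hE) h⟩
  inv_mem := by
    intro P φ hφ
    obtain ⟨ψ, hψ, h⟩ := F.inv_mem hφ.1
    refine ⟨ψ, ⟨hψ, fun E hE => ?_⟩, h⟩
    obtain ⟨ψ', hψ', h'⟩ := E.inv_mem (hφ.2 E hE)
    refine mem_congr hψ' fun y => ?_
    obtain ⟨x, hx⟩ := y.2
    have h1 : y = ⟨φ x, ⟨x, rfl⟩⟩ := Subtype.ext hx.symm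
    rw [h1, h, h']

/-- the system generated by the centric maps of `K` -/
def genCent (F K : FusionSystem S) : FusionSystem S :=
  interSys K (fun E => ∀ R, F.IsCentric R → K.Hom R ⊆ E.Hom R)

theorem cg_genCent {F K : FusionSystem S} {p : ℕ} (hK : ∀ P, K.Hom P ⊆ F.Hom P)
    (hO : ∀ P, F.IsCentric P → OpP F p P ≤ K.autGroup P)
    (hext : ∀ (P R : Subgroup Ω) (hPR : P ≤ R), F.IsCentric P → ∀ ψ ∈ F.Hom R, ψ.comp (Subgroup.inclusion hPR) ∈ K.Hom P →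
      ψ ∈ K.Hom R) : CG F (genCent F K) p := by
  have hc : ∀ R, F.IsCentric R → K.Hom R ⊆ (genCent F K).Hom R := fun R hR φ hφ => ⟨hφ, fun E hE => hE R hR hφ⟩
  refine ⟨⟨fun P φ hφ => hK P hφ.1, fun P hP α hα => ?_⟩, fun E' hE' P φ hφ => ?_, fun P R hPR hP ψ hψ hψP => ?_⟩
  · rw [mem_autGroup hP.1]
    exact hc P hP ((mem_autGroup hP.1).1 (hO P hP hα))
  · exact hφ.2 E' fun R hR χ hχ => hE' R hR (hc R hR hχ)
  · exact hc R (centric_mono hPR (le_S hψ) hP) (hext P R hPR hP ψ hψ hψP.1)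

theorem exists_ppResidual [Finite S] {p : ℕ} [hp : Fact p.Prime] (hS : IsPGroup p S) {F : FusionSystem S}
    (hF : F.IsSaturated p) : ∃ E : FusionSystem S, F.IsPPrimeResidual p E := by
  have hcg : CG F (genCent F (interSys F (fun D => D.IsSaturated p ∧ D.HasPrimeToPIndexIn F p))) p := by
    refine cg_genCent (fun P φ hφ => hφ.1) (fun P hP α hα => ?_) (fun P R hPR hP ψ hψ hψP => ?_)
    · rw [mem_autGroup hP.1]
      exact ⟨(mem_autGroup hP.1).1 (OpP_le F p P hα), fun D hD => (mem_autGroup hP.1).1 (hD.2.2 P hP.1 hα)⟩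
    · exact ⟨hψ, fun D hD => mem_of_restrict_centric hS hF hD.1 hD.2.1 hPR hP hψ (hψP.2 D hD)⟩
  refine ⟨_, cg_saturated hS hF hcg, ⟨hcg.pp.1, fun P hP => pp_all hS hF hcg.pp hP⟩, fun D hD hDF P φ hφ => ?_⟩
  exact hφ.1.2 D ⟨hD, hDF⟩

end CfsgLib.Fus21
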