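import Cfsg.Agent.LibFus21Sn4

set_option autoImplicit false

/-! The `p'`-residual of a normal subsystem is the least normal subsystem over `T`. -/

namespace CfsgLib.Fus21

open Cfsg Cfsg.FusionSystem

universe u

variable {Ω : Type u} [Group Ω] {S T : Subgroup Ω}

theorem kd_mem0 [Finite S] {p : ℕ} [hp : Fact p.Prime] (hS : IsPGroup p S) {F : FusionSystem S} {E : FusionSystem T}
    (hEs : E.IsSaturated p) (hinv : E.IsInvariantIn F) {K : Subgroup (MulAut T)} (hK : KD p F E K) :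
    ∀ (n : ℕ) (A : Subgroup Ω), Nat.card T - Nat.card A = n → E.IsCentric A → ∀ γ ∈ F.autGroup T, ∀ φ ∈ E.Hom A,
      (∀ x (hx : x ∈ A) (hT : x ∈ T), φ ⟨x, hx⟩ = ((γ ⟨x, hT⟩ : T) : Ω)) → γ ∈ K := by
  have hTS : T ≤ S := hinv.2.1.1
  haveI : Finite T := finite_of_le hTS
  intro n
  induction n using Nat.strong_induction_on with
  | _ n ih =>
  intro A hn hA γ hγ φ hφ hφγ
  have hAT := hA.1
  by_cases hAT' : A = T
  · refine hK.aut (aut_mem_of_hom (restrict_mem hφ hAT'.ge) fun x => ?_)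
    exact (hφγ x (hAT'.ge x.2) x.2).symm
  have hlt : A < T := lt_of_le_of_ne hAT hAT'
  obtain ⟨N, hN⟩ : ∃ N, T ⊓ Subgroup.normalizer (A : Set Ω) = N := ⟨_, rfl⟩
  have hAN : A < N := hN ▸ lt_normalizer_inf (hS.to_le hTS) hlt
  have hNT : N ≤ T := hN ▸ inf_le_left
  have hNn : ∀ g ∈ N, g ∈ Subgroup.normalizer (A : Set Ω) := by
    intro g hg; rw [← hN] at hg; exact hg.2
  haveI : Finite N := finite_of_le hNT
  haveI : Finite A := finite_of_le hAT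
  have hcN : Nat.card A < Nat.card N := lt_of_le_of_ne (Subgroup.card_le_of_le hAN.le) fun h =>
    hAN.ne (Subgroup.eq_of_le_of_card_ge hAN.le h.ge)
  have hcNT : Nat.card N ≤ Nat.card T := Subgroup.card_le_of_le hNT
  have hNc : E.IsCentric N := centric_mono hAN.le hNT hA
  obtain ⟨e, he, hev⟩ := exists_iso hφ rfl
  have hA'c : E.IsCentric φ.range := centric_conj ⟨φ, hφ, rfl⟩ hA
  have hrec := sat_fc_receptive (hS.to_le hTS) hEs (centric_fc hA'c)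
  have hext : N ≤ extender T A (φ.range.subtype.comp e.toMonoidHom) := by
    intro g hg
    rw [mem_extender]
    refine ⟨hNT hg, hNn g hg, γ ⟨g, hNT hg⟩, (γ _).2, fun x hx => ?_⟩
    show ((e ⟨g * x * g⁻¹, hx⟩ : φ.range) : Ω) = (γ ⟨g, hNT hg⟩ : T) * (e x : φ.range) * ((γ ⟨g, hNT hg⟩ : T) : Ω)⁻¹
    rw [hev, hev, hφγ _ hx (hAT hx), show φ x = φ ⟨x, x.2⟩ from rfl, hφγ _ x.2 (hAT x.2)]
    have h1 : (⟨g * x * g⁻¹, hAT hx⟩ : T) = ⟨g, hNT hg⟩ * ⟨x, hAT x.2⟩ * ⟨g, hNT hg⟩⁻¹ := rfl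
    rw [h1, map_mul, map_mul, map_inv]
    rfl
  obtain ⟨ζ, hζ, hζe⟩ := receptive_extend hrec he hext
  have hζγ : ∀ x (hx : x ∈ A), ζ ⟨x, hAN.le hx⟩ = ((γ ⟨x, hAT hx⟩ : T) : Ω) := fun x hx => by
    rw [hζe x hx, hev, hφγ]
  have hγi : (γ⁻¹ : MulAut T) ∈ F.autGroup T := Subgroup.inv_mem _ hγ
  have hθ0 := F.comp_mem (hinv.1 _ hζ) ((mem_autGroup hTS).1 hγi) (fun x => mem_S hζ x)
  obtain ⟨θ0, hθ0d⟩ : ∃ θ0, (T.subtype.comp (γ⁻¹ : MulAut T).toMonoidHom).comp (ζ.codRestrict T fun x => mem_S hζ x) = θ0 := ⟨_, rfl⟩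
  have hθ0v : ∀ x : N, θ0 x = (((γ⁻¹ : MulAut T) ⟨ζ x, mem_S hζ x⟩ : T) : Ω) := fun x => by rw [← hθ0d]; rfl
  have hθ0F : θ0 ∈ F.Hom N := hθ0d ▸ hθ0
  have hid : ∀ x (hx : x ∈ A), θ0 ⟨x, hAN.le hx⟩ = x := by
    intro x hx
    rw [hθ0v]
    have h1 : (⟨ζ ⟨x, hAN.le hx⟩, mem_S hζ _⟩ : T) = γ ⟨x, hAT hx⟩ := Subtype.ext (hζγ x hx)
    rw [h1, MulAut.inv_apply_self]
  have hθT : ∀ x, θ0 x ∈ T := fun x => by rw [hθ0v]; exact ((γ⁻¹ : MulAut T) _).2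
  have hc : ∀ g : N, (g : Ω)⁻¹ * θ0 g ∈ A := by
    intro g
    apply centric_centralizer_le hA
    rw [mem_centralizerIn']
    refine ⟨T.mul_mem (T.inv_mem (hNT g.2)) (hθT g), fun x hx => ?_⟩
    have hgx : (g : Ω) * x * (g : Ω)⁻¹ ∈ A := (Subgroup.mem_normalizer_iff.1 (hNn g g.2) x).1 hx
    have h1 := hid _ hgx
    have h2 : (⟨(g : Ω) * x * (g : Ω)⁻¹, hAN.le hgx⟩ : N) = g * ⟨x, hAN.le hx⟩ * g⁻¹ := rfl
    rw [h2, map_mul, map_mul, map_inv, hid x hx] at h1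
    calc (g : Ω)⁻¹ * θ0 g * x * ((g : Ω)⁻¹ * θ0 g)⁻¹ = (g : Ω)⁻¹ * (θ0 g * x * (θ0 g)⁻¹) * g := by group
      _ = x := by rw [h1]; group
  have hθN : ∀ x, θ0 x ∈ N := by
    intro g
    have h1 : θ0 g = g * ((g : Ω)⁻¹ * θ0 g) := by group
    rw [h1]
    exact N.mul_mem g.2 (hAN.le (hc g))
  obtain ⟨θ, hθ, hθv⟩ := exists_aut_of_hom hθ0F hθN
  obtain ⟨k, hk⟩ := IsPGroup.iff_card.1 (hS.to_le (hAT.trans hTS))
  have hθpow : ∀ (j : ℕ) (g : N), (((θ ^ j) g : N) : Ω) = g * ((g : Ω)⁻¹ * θ0 g) ^ j := by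
    intro j
    induction j with
    | zero => intro g; simp
    | succ j ihj =>
      intro g
      have h1 : (θ ^ (j + 1)) g = (θ ^ j) (θ g) := by rw [pow_succ]; rfl
      rw [h1, ihj (θ g)]
      have h2 : ((θ g : N) : Ω)⁻¹ * θ0 (θ g) = (g : Ω)⁻¹ * θ0 g := by
        have h3 : θ g = g * ⟨(g : Ω)⁻¹ * θ0 g, hAN.le (hc g)⟩ := by
          apply Subtype.ext
          rw [hθv]
          show θ0 g = g * ((g : Ω)⁻¹ * θ0 g)
          group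
        have h4 : θ0 (θ g) = θ0 g * ((g : Ω)⁻¹ * θ0 g) := by
          conv_lhs => rw [h3]
          rw [map_mul, hid _ (hc g)]
        rw [h4, hθv]; group
      rw [h2, hθv, pow_succ', ← mul_assoc (g : Ω)]
      congr 1
      group
  have hθ1 : θ ^ p ^ k = 1 := by
    apply MulEquiv.ext
    intro g
    apply Subtype.ext
    rw [hθpow, ← hk]
    have h1 : (⟨(g : Ω)⁻¹ * θ0 g, hc g⟩ : A) ^ Nat.card A = 1 := pow_card_eq_one'
    have h2 : ((g : Ω)⁻¹ * θ0 g) ^ Nat.card A = 1 := congrArg Subtype.val h1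
    rw [h2, mul_one]
    rfl
  obtain ⟨δ, hδ, φ₁, hφ₁, hδφ⟩ := hinv.2.2.2 N hNT θ0 hθ0F
  have hδφ' : ∀ x : N, ((θ x : N) : Ω) = ((δ ⟨φ₁ x, mem_S hφ₁ x⟩ : T) : Ω) := fun x => by
    rw [hθv]; exact hδφ x _
  obtain ⟨φm, hm, hmv⟩ := pow_decomp hinv hNT hδ hφ₁ hδφ' (p ^ k)
  have hδm : ((δ ^ p ^ k)⁻¹ : MulAut T) ∈ K := by
    refine ih (Nat.card T - Nat.card N) (by omega) N rfl hNc _ (Subgroup.inv_mem _ (Subgroup.pow_mem _ hδ _)) φm hm ?_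
    intro x hx hxT
    have h1 := hmv ⟨x, hx⟩
    rw [hθ1] at h1
    have h2 : (⟨x, hxT⟩ : T) = (δ ^ p ^ k) ⟨φm ⟨x, hx⟩, mem_S hm _⟩ := Subtype.ext h1
    rw [h2, MulAut.inv_apply_self]
  have hδK : δ ∈ K := hK.root δ hδ k (by
    have := K.inv_mem hδm
    rwa [inv_inv] at this)
  obtain ⟨ρ, hρ, hρv⟩ := E.inv_mem hφ₁
  have hρN : ∀ y, ρ y ∈ N := by
    rintro ⟨_, x, rfl⟩
    rw [hρv]; exact x.2
  have hBc : E.IsCentric φ₁.range := centric_conj ⟨φ₁, hφ₁, rfl⟩ hNc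
  have hcB : Nat.card φ₁.range = Nat.card N := (Nat.card_congr (MonoidHom.ofInjective (inj hφ₁)).toEquiv).symm
  have hγδ : γ * δ ∈ K := by
    refine ih (Nat.card T - Nat.card φ₁.range) (by omega) φ₁.range rfl hBc _ (Subgroup.mul_mem _ hγ hδ) _
      (E.comp_mem hρ hζ hρN) ?_
    rintro _ ⟨x, rfl⟩ hT
    show ζ ⟨ρ ⟨φ₁ x, _⟩, _⟩ = ((γ (δ ⟨φ₁ x, hT⟩) : T) : Ω)
    have h1 : (⟨ρ ⟨φ₁ x, ⟨x, rfl⟩⟩, hρN _⟩ : N) = x := Subtype.ext (hρv x)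
    rw [h1]
    have h2 := hδφ x hT
    rw [hθ0v] at h2
    have h3 : (γ⁻¹ : MulAut T) ⟨ζ x, mem_S hζ x⟩ = δ ⟨φ₁ x, hT⟩ := Subtype.ext h2
    rw [← h3, MulAut.apply_inv_self]
  have h9 : γ = γ * δ * δ⁻¹ := by group
  rw [h9]
  exact K.mul_mem hγδ (K.inv_mem hδK)


theorem inv_aut_transport {E : FusionSystem T} {F : FusionSystem S} (h : E.IsInvariantIn F)
    {P Q : Subgroup Ω} (hPT : P ≤ T) {e : P ≃* Q} (he : e ∈ Iso F P Q) {α : MulAut P} (hα : α ∈ E.autGroup P) :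
    autTransport e α ∈ E.autGroup Q := by
  obtain ⟨γ, hγ, φ₀, hφ₀, hT, hx⟩ := invariant_frattini h hPT (φ := Q.subtype.comp e.toMonoidHom) he
  obtain ⟨ψ, hψ, hψx⟩ := E.inv_mem hφ₀
  have hα' := (mem_autGroup hPT).1 hα
  have hψP : ∀ y, ψ y ∈ P := by
    rintro ⟨_, x, rfl⟩
    rw [hψx]; exact x.2
  have h1 := E.comp_mem hψ hα' hψP
  have h2 := E.comp_mem h1 hφ₀ (fun y => (α _).2)
  obtain ⟨χ, hχ, hχx⟩ := invariant_transport h h2 hγ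
  have hx' : ∀ x : P, ((e x : Q) : Ω) = ((γ ⟨φ₀ x, hT _⟩ : T) : Ω) := fun x => hx x
  have hle : Q ≤ himg (aHom γ) φ₀.range := by
    intro y hy
    have h3 := hx' (e.symm ⟨y, hy⟩)
    rw [MulEquiv.apply_symm_apply] at h3
    exact mem_himg.2 ⟨φ₀ (e.symm ⟨y, hy⟩), hT _, ⟨_, rfl⟩, h3.symm⟩
  refine aut_mem_of_hom (restrict_mem hχ hle) fun y => ?_
  have h3 := hx' (e.symm y)
  rw [MulEquiv.apply_symm_apply] at h3
  have h5 := hχx (φ₀ (e.symm y)) ⟨_, rfl⟩ (hT _) (by rw [← h3]; exact hle y.2)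
  show ((autTransport e α y : Q) : Ω) = χ ⟨(y : Ω), hle y.2⟩
  rw [autTransport_apply, hx' (α (e.symm y))]
  have h7 : (⟨(y : Ω), hle y.2⟩ : himg (aHom γ) φ₀.range) = ⟨((γ ⟨φ₀ (e.symm y), hT _⟩ : T) : Ω), by
    rw [← h3]; exact hle y.2⟩ := Subtype.ext h3
  rw [h7, h5]
  congr 3
  show φ₀ (α (e.symm y)) = φ₀ (α ⟨ψ ⟨φ₀ (e.symm y), _⟩, _⟩)
  congr 2
  exact Subtype.ext (hψx _).symm

theorem opP_sub [Finite S] {p : ℕ} [hp : Fact p.Prime] (hS : IsPGroup p S) {F : FusionSystem S} {E G : FusionSystem T}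
    (hE : E.IsWeaklyNormalIn F p) (hG : G.IsWeaklyNormalIn F p) {P : Subgroup Ω} (hPT : P ≤ T) {τ : MulAut P}
    (hτ : τ ∈ E.autGroup P) {k : ℕ} (hk : orderOf τ = p ^ k) : τ ∈ G.autGroup P := by
  obtain ⟨hEs, hF, hinv⟩ := hE
  have hTS : T ≤ S := hinv.2.1.1
  haveI : Finite T := finite_of_le hTS
  obtain ⟨Q, hPQ, hQ⟩ := exists_fullyNormalized F (hPT.trans hTS)
  obtain ⟨e, he⟩ := isConj_iff.1 hPQ
  have hQT : Q ≤ T := by
    intro y hy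
    have h1 := hinv.2.1.2 P hPT _ he (e.symm ⟨y, hy⟩)
    have h2 : (Q.subtype.comp e.toMonoidHom) (e.symm ⟨y, hy⟩) = y := by
      show ((e (e.symm ⟨y, hy⟩) : Q) : Ω) = y
      rw [MulEquiv.apply_symm_apply]
    rw [h2] at h1
    exact h1
  have hτQ := inv_aut_transport hinv hPT he hτ
  have hQE := fn_sub hS hF hinv.1 hinv.2.1 hQT hQ
  haveI := finite_autGroup E hQT
  have hA := ((fullyAutomized_iff (hS.to_le hTS)).1 (sat_fn (hS.to_le hTS) hEs hQE).2).2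
  have hK : IsPGroup p (Subgroup.zpowers (autTransport e τ)) := by
    refine IsPGroup.of_card (n := k) ?_
    rw [Nat.card_zpowers, ← hk]
    exact orderOf_injective (autTransport e).toMonoidHom (autTransport e).injective τ
  obtain ⟨c, hc, hle⟩ := exists_conj_le (isPGroup_autInducedBy (hS.to_le hTS) Q) hA (Subgroup.zpowers_le.2 hτQ) hK
  have hcF : c ∈ Iso F Q Q := hinv.1 _ ((mem_autGroup hQT).1 hc)
  have he' : e.trans c ∈ Iso F P Q := iso_trans he hcF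
  have h1 : autTransport (e.trans c) τ ∈ G.autGroup Q := by
    refine autInducedBy_le_autGroup G hQT (hle ?_)
    refine ⟨_, Subgroup.mem_zpowers _, ?_⟩
    ext y
    show ((c (autTransport e τ (c⁻¹ y)) : Q) : Ω) = _
    rw [autTransport_apply, autTransport_apply]
    rfl
  have h2 := inv_aut_transport hG.2.2 hQT (iso_symm he') h1
  have h3 : autTransport (e.trans c).symm (autTransport (e.trans c) τ) = τ := by
    ext y
    rw [autTransport_apply, autTransport_apply]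
    simp
  rw [h3] at h2
  exact h2

theorem OpP_transport_inv {E : FusionSystem T} {F : FusionSystem S} (h : E.IsInvariantIn F) {p : ℕ}
    {P Q : Subgroup Ω} (hPT : P ≤ T) {e : P ≃* Q} (he : e ∈ Iso F P Q)
    {α : MulAut P} (hα : α ∈ OpP E p P) : autTransport e α ∈ OpP E p Q := by
  rw [OpP_eq] at hα ⊢
  have h1 : (Subgroup.closure {α : MulAut P | α ∈ E.autGroup P ∧ ∃ k : ℕ, orderOf α = p ^ k}).map
      (autTransport e).toMonoidHom ≤ Subgroup.closure {α : MulAut Q | α ∈ E.autGroup Q ∧ ∃ k : ℕ, orderOf α = p ^ k} := by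
    rw [MonoidHom.map_closure, Subgroup.closure_le]
    rintro _ ⟨β, ⟨hβ, k, hk⟩, rfl⟩
    refine Subgroup.subset_closure ⟨inv_aut_transport h hPT he hβ, k, ?_⟩
    rw [← hk]
    exact orderOf_injective (autTransport e).toMonoidHom (autTransport e).injective β
  exact h1 ⟨α, hα, rfl⟩

/-- conjugates of subsystems of index prime to `p` -/
theorem conjSys_PPc_inv [Finite T] {F E D : FusionSystem T} {p : ℕ} (hinv : E.IsInvariantIn F) (hD : PPc E p D)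
    {γ : MulAut T} (hγ : γ ∈ F.autGroup T) : PPc E p (conjSys D γ) := by
  constructor
  · intro P φ hφ
    obtain ⟨hP, φ₀, hφ₀, hind⟩ := mem_conjSys.1 hφ
    obtain ⟨χ, hχ, hχv⟩ := hinv.2.2.1 _ (preimageAlong_le _ _) φ₀ (hD.1 _ hφ₀) γ hγ
    have hpre : ∀ x (hx : x ∈ P), (((γ⁻¹ : MulAut T) ⟨x, hP hx⟩ : T) : Ω) ∈ preimageAlong (T.subtype.comp γ.toMonoidHom) P := by
      intro x hx
      refine mem_preimageAlong.2 ⟨((γ⁻¹ : MulAut T) _).2, ?_⟩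
      show ((γ ((γ⁻¹ : MulAut T) ⟨x, hP hx⟩) : T) : Ω) ∈ P
      rw [MulAut.apply_inv_self]; exact hx
    have hle : P ≤ ((preimageAlong (T.subtype.comp γ.toMonoidHom) P).subgroupOf T).map (T.subtype.comp γ.toMonoidHom) := by
      intro x hx
      rw [mem_amapK]
      refine ⟨_, ((γ⁻¹ : MulAut T) ⟨x, hP hx⟩).2, hpre x hx, ?_⟩
      show ((γ ((γ⁻¹ : MulAut T) ⟨x, hP hx⟩) : T) : Ω) = x
      rw [MulAut.apply_inv_self]
    refine restrict_mem' hχ hle fun x => ?_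
    obtain ⟨y, hy⟩ : ∃ y, (γ⁻¹ : MulAut T) ⟨x, hP x.2⟩ = y := ⟨_, rfl⟩
    have hyp : (y : Ω) ∈ preimageAlong (T.subtype.comp γ.toMonoidHom) P := hy ▸ hpre x x.2
    have hγy : ((γ y : T) : Ω) = x := by rw [← hy, MulAut.apply_inv_self]
    have h1 := induced_apply hind hyp y.2 (mem_S hφ₀ _) (show (T.subtype.comp γ.toMonoidHom) ⟨y, y.2⟩ ∈ P from by
      show ((γ y : T) : Ω) ∈ P
      rw [hγy]; exact x.2)
    have h2 := hχv ⟨y, hyp⟩ (mem_S hφ₀ _) (show ((γ ⟨y, _⟩ : T) : Ω) ∈ _ from by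
      show ((γ y : T) : Ω) ∈ _
      rw [hγy]; exact hle x.2)
    have h3 : φ x = φ ⟨(T.subtype.comp γ.toMonoidHom) ⟨y, y.2⟩, by
      show ((γ y : T) : Ω) ∈ P
      rw [hγy]; exact x.2⟩ := by
      congr 1
      exact Subtype.ext hγy.symm
    rw [h3, h1]
    refine Eq.trans h2.symm ?_
    congr 1
    exact Subtype.ext hγy
  · intro P hP α hα
    obtain ⟨e, he, hev⟩ := exists_iso_pre hγ hP.1
    have hPc : E.IsCentric (preimageAlong (T.subtype.comp γ.toMonoidHom) P) := inv_centric hinv hP (isConj_iff.2 ⟨_, iso_symm he⟩)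
    have h1 := hD.2 _ hPc (OpP_transport_inv hinv hP.1 (iso_symm he) hα)
    rw [mem_autGroup hP.1, mem_iso, mem_conjSys]
    refine ⟨hP.1, _, (mem_autGroup hPc.1).1 h1, induced_mk (preimageAlong_le _ _)
      (fun x => preimageAlong_le _ _ (autTransport e.symm α x).2) (fun x hx => (mem_preimageAlong.1 hx).2) fun x hx => ?_⟩
    have hxS := preimageAlong_le _ _ hx
    have h5 : (⟨(T.subtype.comp γ.toMonoidHom) ⟨x, hxS⟩, (mem_preimageAlong.1 hx).2⟩ : P) = e ⟨x, hx⟩ :=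
      Subtype.ext (hev x hxS hx).symm
    show ((α _ : P) : Ω) = ((γ _ : T) : Ω)
    rw [h5]
    have h6 : ((e.symm (α (e ⟨x, hx⟩)) : ↥(preimageAlong _ P)) : Ω) ∈ T := preimageAlong_le _ _ (e.symm _).2
    have h7 := hev _ h6 (e.symm (α (e ⟨x, hx⟩))).2
    rw [Subtype.coe_eta, MulEquiv.apply_symm_apply] at h7
    exact h7

theorem autInv_of_conj [Finite T] {D : FusionSystem T} {K : Subgroup (MulAut T)} (h : ∀ γ ∈ K, D ≤ conjSys D γ) : AutInvK D K := by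
  intro P hP φ hφ α hα
  obtain ⟨-, φ₀, hφ₀, hind⟩ := mem_conjSys.1 (h α⁻¹ (K.inv_mem hα) P hφ)
  have hle : (P.subgroupOf T).map (T.subtype.comp α.toMonoidHom) ≤ preimageAlong (T.subtype.comp (α⁻¹ : MulAut T).toMonoidHom) P := by
    intro y hy
    obtain ⟨x, hx, hxP, rfl⟩ := mem_amapK.1 hy
    refine mem_preimageAlong.2 ⟨(α _).2, ?_⟩
    show (((α⁻¹ : MulAut T) (α ⟨x, hx⟩) : T) : Ω) ∈ P
    rw [MulAut.inv_apply_self]
    exact hxP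
  refine ⟨_, restrict_mem hφ₀ hle, fun x hφx hαx => ?_⟩
  have h0 : (((α⁻¹ : MulAut T) ⟨((α ⟨x, hP x.2⟩ : T) : Ω), (α ⟨x, hP x.2⟩).2⟩ : T) : Ω) = x := by
    show (((α⁻¹ : MulAut T) (α ⟨x, hP x.2⟩) : T) : Ω) = x
    rw [MulAut.inv_apply_self]
  have h1 := induced_apply hind (hle hαx) (α ⟨x, hP x.2⟩).2 (mem_S hφ₀ _) (by
    show (((α⁻¹ : MulAut T) ⟨((α ⟨x, hP x.2⟩ : T) : Ω), _⟩ : T) : Ω) ∈ P
    rw [h0]; exact x.2)
  have h2 : φ x = (((α⁻¹ : MulAut T) ⟨φ₀ ⟨((α ⟨x, hP x.2⟩ : T) : Ω), hle hαx⟩, mem_S hφ₀ _⟩ : T) : Ω) := by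
    refine Eq.trans ?_ h1
    congr 1
    exact Subtype.ext h0.symm
  show φ₀ ⟨((α ⟨x, hP x.2⟩ : T) : Ω), hle hαx⟩ = _
  have h3 : (⟨φ x, hφx⟩ : T) = (α⁻¹ : MulAut T) ⟨φ₀ ⟨((α ⟨x, hP x.2⟩ : T) : Ω), hle hαx⟩, mem_S hφ₀ _⟩ := Subtype.ext h2
  rw [h3, MulAut.apply_inv_self]

theorem ppMin_autInv [Finite T] {F E : FusionSystem T} {p : ℕ} (hinv : E.IsInvariantIn F) : AutInvK (ppMin E p) (F.autGroup T) :=
  autInv_of_conj fun _ hγ => ppMin_le (conjSys_PPc_inv hinv (ppMin_PPc E p) hγ)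

theorem rst_autGroup {F : FusionSystem S} (hT : F.StronglyClosed T) {α : MulAut T} : α ∈ (rstSys F hT.1).autGroup T ↔ α ∈ F.autGroup T := by
  rw [mem_autGroup le_rfl, mem_autGroup hT.1]
  exact ⟨fun h => h.2.2, fun h => ⟨le_rfl, fun x => (α x).2, h⟩⟩

theorem inv_rst {F : FusionSystem S} {E : FusionSystem T} (hinv : E.IsInvariantIn F) : E.IsInvariantIn (rstSys F hinv.2.1.1) := by
  refine ⟨fun P φ hφ => ⟨le_S hφ, fun x => mem_S hφ x, hinv.1 P hφ⟩, ⟨le_rfl, fun R hR φ hφ x => hφ.2.1 x⟩,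
    fun P hP φ hφ α hα => hinv.2.2.1 P hP φ hφ α ((rst_autGroup hinv.2.1).1 hα), fun P hP φ hφ => ?_⟩
  obtain ⟨α, hα, φ₀, hφ₀, hx⟩ := hinv.2.2.2 P hP φ hφ.2.2
  exact ⟨α, (rst_autGroup hinv.2.1).2 hα, φ₀, hφ₀, hx⟩

end CfsgLib.Fus21
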