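import Cfsg.Agent.LibFus21Sm1

set_option autoImplicit false

/-! The `p'`-residual of a normal subsystem is the least normal subsystem over `T`. -/

namespace CfsgLib.Fus21

open Cfsg Cfsg.FusionSystem

universe u

variable {Ω : Type u} [Group Ω] {S T : Subgroup Ω}

theorem facK_mono {E : FusionSystem T} {K : Subgroup (MulAut T)} {hinv : AutInvK E K} : E ≤ facKSys E K hinv := fun P φ hφ =>
  mem_facKSys.2 ⟨le_S hφ, fun x => mem_S hφ x, 1, K.one_mem, φ, hφ, fun x _ => rfl⟩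

theorem facK_aut {E : FusionSystem T} {K : Subgroup (MulAut T)} {hinv : AutInvK E K} : K ≤ (facKSys E K hinv).autGroup T := by
  intro α hα
  have h : T.subtype.comp α.toMonoidHom ∈ (facKSys E K hinv).Hom T :=
    mem_facKSys.2 ⟨le_rfl, fun x => (α x).2, α, hα, T.subtype, incl_mem E le_rfl, fun x _ => rfl⟩
  exact aut_mem_of_hom h fun x => rfl

theorem facK_aut_le [Finite T] {E : FusionSystem T} {K : Subgroup (MulAut T)} {hinv : AutInvK E K} (hE : E.autGroup T ≤ K) :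
    (facKSys E K hinv).autGroup T ≤ K := by
  intro α hα
  obtain ⟨-, -, δ, hδ, φ₀, hφ₀, hx⟩ := mem_facKSys.1 (show T.subtype.comp α.toMonoidHom ∈ (facKSys E K hinv).Hom T from (mem_autGroup le_rfl).1 hα)
  obtain ⟨β, hβ, hβv⟩ := exists_aut_of_hom hφ₀ (fun x => mem_S hφ₀ x)
  have h1 : α = δ * β := by
    apply MulEquiv.ext
    intro x
    apply Subtype.ext
    have h2 := hx x (mem_S hφ₀ x)
    have h3 : (⟨φ₀ x, mem_S hφ₀ x⟩ : T) = β x := Subtype.ext (hβv x).symm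
    rw [h3] at h2
    exact h2
  rw [h1]
  exact K.mul_mem hδ (hE hβ)

theorem root_of_sylow {A : Type*} [Group A] {p : ℕ} [hp : Fact p.Prime] {x : A} {N : Subgroup A} (hx : orderOf x ≠ 0)
    (hN : ∀ m : ℕ, (∃ j, orderOf (x ^ m) = p ^ j) → x ^ m ∈ N) {k : ℕ} (hk : x ^ p ^ k ∈ N) : x ∈ N := by
  obtain ⟨j, m, hm, hjm⟩ := Nat.exists_eq_pow_mul_and_not_dvd hx p hp.out.ne_one
  have h1 : x ^ m ∈ N := by
    apply hN
    have h2 : (x ^ m) ^ p ^ j = 1 := by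
      rw [← pow_mul, mul_comm, ← hjm, pow_orderOf_eq_one]
    obtain ⟨i, -, hi⟩ := (Nat.dvd_prime_pow hp.out).1 (orderOf_dvd_of_pow_eq_one h2)
    exact ⟨i, hi⟩
  have hcop : Nat.Coprime (p ^ k) m := Nat.Coprime.pow_left k ((Nat.Prime.coprime_iff_not_dvd hp.out).2 hm)
  have h3 : ((p ^ k : ℕ) : ℤ) * Nat.gcdA (p ^ k) m + (m : ℤ) * Nat.gcdB (p ^ k) m = 1 := by
    have := Nat.gcd_eq_gcd_ab (p ^ k) m
    rw [hcop.gcd_eq_one] at this
    exact_mod_cast this.symm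
  have h4 : x = (x ^ p ^ k) ^ Nat.gcdA (p ^ k) m * (x ^ m) ^ Nat.gcdB (p ^ k) m := by
    rw [← zpow_natCast, ← zpow_natCast, ← zpow_mul, ← zpow_mul, ← zpow_add, h3, zpow_one]
  rw [h4]
  exact N.mul_mem (N.zpow_mem hk _) (N.zpow_mem h1 _)

theorem sup_decomp {X : Type*} [Group X] {A B : Subgroup X} (h : ∀ a ∈ A, ∀ b ∈ B, a * b * a⁻¹ ∈ B) {z : X} (hz : z ∈ A ⊔ B) :
    ∃ x ∈ A, ∃ y ∈ B, x * y = z := by
  rw [Subgroup.sup_eq_closure] at hz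
  induction hz using Subgroup.closure_induction with
  | mem x hx =>
    rcases hx with hx | hx
    · exact ⟨x, hx, 1, Subgroup.one_mem _, by rw [mul_one]⟩
    · exact ⟨1, Subgroup.one_mem _, x, hx, by rw [one_mul]⟩
  | one => exact ⟨1, Subgroup.one_mem _, 1, Subgroup.one_mem _, by rw [mul_one]⟩
  | mul x y _ _ h1 h2 =>
    obtain ⟨a, ha, b, hb, rfl⟩ := h1
    obtain ⟨c, hc, d, hd, rfl⟩ := h2
    refine ⟨a * c, A.mul_mem ha hc, c⁻¹ * b * c⁻¹⁻¹ * d, B.mul_mem (h _ (A.inv_mem hc) _ hb) hd, by group⟩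
  | inv x _ h1 =>
    obtain ⟨a, ha, b, hb, rfl⟩ := h1
    exact ⟨a⁻¹, A.inv_mem ha, a * b⁻¹ * a⁻¹, h _ ha _ (B.inv_mem hb), by group⟩

theorem pow_decomp_sup {X : Type*} [Group X] {A B : Subgroup X} (h : ∀ a ∈ A, ∀ b ∈ B, a * b * a⁻¹ ∈ B) {x y : X} (hx : x ∈ A)
    (hy : y ∈ B) (m : ℕ) : ∃ g ∈ B, (x * y) ^ m = x ^ m * g := by
  induction m with
  | zero => exact ⟨1, B.one_mem, by simp⟩
  | succ m ih =>
    obtain ⟨g, hg, hm⟩ := ih
    refine ⟨x⁻¹ * g * x⁻¹⁻¹ * y, B.mul_mem (h _ (A.inv_mem hx) _ hg) hy, ?_⟩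
    rw [pow_succ, hm, pow_succ]
    group

theorem cg_facK [Finite T] {p : ℕ} [hp : Fact p.Prime] (hT : IsPGroup p T) {E : FusionSystem T} (hEs : E.IsSaturated p)
    {D : FusionSystem T} (hD : PPc E p D) {K : Subgroup (MulAut T)} (hKE : K ≤ E.autGroup T) (hinv : AutInvK D K)
    (hgen : ∀ E' : FusionSystem T, (∀ P, E.IsCentric P → D.Hom P ⊆ E'.Hom P) → D ≤ E')
    (hkey : ∀ B, E.IsCentric B → ∀ γ ∈ E.autGroup T, ∀ φ ∈ D.Hom B, (∀ x (hx : x ∈ B) (hT : x ∈ T),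
      φ ⟨x, hx⟩ = ((γ ⟨x, hT⟩ : T) : Ω)) → γ ∈ K) : CG E (facKSys D K hinv) p := by
  refine ⟨⟨fun P φ hφ => ?_, fun P hP α hα => ?_⟩, fun E' hE' => ?_, fun P R hPR hP ψ hψ hψP => ?_⟩
  · obtain ⟨hP, hφT, δ, hδ, φ₀, hφ₀, hx⟩ := mem_facKSys.1 hφ
    refine comp_mem' (hD.1 _ hφ₀) ((mem_autGroup le_rfl).1 (hKE hδ)) fun x => ⟨mem_S hφ₀ x, hx x _⟩
  · rw [mem_autGroup hP.1]
    exact facK_mono (hinv := hinv) P ((mem_autGroup hP.1).1 (hD.2 P hP hα))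
  · have h1 : D ≤ E' := hgen E' fun P hP φ hφ => hE' P hP (facK_mono P hφ)
    intro P φ hφ
    obtain ⟨hP, hφT, δ, hδ, φ₀, hφ₀, hx⟩ := mem_facKSys.1 hφ
    have h2 := hE' T (self_centric E) ((mem_autGroup le_rfl).1 (facK_aut (hinv := hinv) hδ))
    exact comp_mem' (h1 P hφ₀) h2 fun x => ⟨mem_S hφ₀ x, hx x _⟩
  · obtain ⟨β, hβ, ψ₀, hψ₀, hx⟩ := pp_decomp hT hEs hD hψ
    obtain ⟨-, -, α, hα, φ₀, hφ₀, hy⟩ := mem_facKSys.1 hψP
    have hψ₀r := restrict_mem hψ₀ hPR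
    obtain ⟨ρ, hρ, hρv⟩ := D.inv_mem hψ₀r
    have hρP : ∀ y, ρ y ∈ P := by
      rintro ⟨_, x, rfl⟩
      rw [hρv]; exact x.2
    have hBc : E.IsCentric (ψ₀.comp (Subgroup.inclusion hPR)).range := centric_conj ⟨_, hD.1 _ hψ₀r, rfl⟩ hP
    have hγ : α⁻¹ * β ∈ K := by
      refine hkey _ hBc _ (Subgroup.mul_mem _ (Subgroup.inv_mem _ (hKE hα)) hβ) _ (D.comp_mem hρ hφ₀ hρP) ?_
      rintro _ ⟨x, rfl⟩ hT'
      show φ₀ ⟨ρ ⟨(ψ₀.comp (Subgroup.inclusion hPR)) x, _⟩, _⟩ = (((α⁻¹ : MulAut T) (β ⟨ψ₀ ⟨x, hPR x.2⟩, hT'⟩) : T) : Ω)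
      have h1 : (⟨ρ ⟨(ψ₀.comp (Subgroup.inclusion hPR)) x, ⟨x, rfl⟩⟩, hρP _⟩ : P) = x := Subtype.ext (hρv x)
      rw [h1]
      have h2 := hx ⟨x, hPR x.2⟩ hT'
      have h3 := hy x (mem_S hφ₀ x)
      have h4 : (ψ.comp (Subgroup.inclusion hPR)) x = ψ ⟨x, hPR x.2⟩ := rfl
      rw [h4, h2] at h3
      have h5 : β ⟨ψ₀ ⟨x, hPR x.2⟩, hT'⟩ = α ⟨φ₀ x, mem_S hφ₀ x⟩ := Subtype.ext h3
      rw [h5, MulAut.inv_apply_self]
    have hβK : β ∈ K := by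
      have h9 : β = α * (α⁻¹ * β) := by group
      rw [h9]; exact K.mul_mem hα hγ
    exact mem_facKSys.2 ⟨le_S hψ, fun x => mem_S hψ x, β, hβK, ψ₀, hψ₀, hx⟩

theorem ppMin_gen {E : FusionSystem T} {p : ℕ} (E' : FusionSystem T) (h : ∀ P, E.IsCentric P → (ppMin E p).Hom P ⊆ E'.Hom P) :
    ppMin E p ≤ E' := by
  have h1 : PPc E p (interSys E (fun D => D = E')) := by
    refine ⟨fun P φ hφ => hφ.1, fun P hP α hα => ?_⟩
    have h2 := (ppMin_PPc E p).2 P hP hα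
    rw [mem_autGroup hP.1] at h2 ⊢
    exact ⟨(ppMin_PPc E p).1 _ h2, fun D hD => hD ▸ h P hP h2⟩
  intro P φ hφ
  exact (ppMin_le h1 P hφ).2 E' rfl

theorem centric_of_inv {E G : FusionSystem T} {F : FusionSystem S} (hE : E.IsInvariantIn F) (hG : G.IsInvariantIn F) {P : Subgroup Ω}
    (hP : E.IsCentric P) : G.IsCentric P := by
  refine ⟨hP.1, fun Q hQ => ?_⟩
  obtain ⟨f, hf⟩ := isConj_iff.1 hQ
  exact centric_centralizer_le (inv_centric hE hP (isConj_iff.2 ⟨f, hG.1 _ hf⟩))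

theorem residual_le [Finite S] {p : ℕ} [hp : Fact p.Prime] (hS : IsPGroup p S) {F : FusionSystem S} {E G : FusionSystem T}
    (hE : E.IsWeaklyNormalIn F p) (hG : G.IsWeaklyNormalIn F p) {D : FusionSystem T} (hD : E.IsPPrimeResidual p D) :
    D.IsSubsystemOf G := by
  have hEs := hE.1
  have hGs := hG.1
  have hF := hE.2.1
  have hTS : T ≤ S := hE.2.2.2.1.1
  haveI : Finite T := finite_of_le hTS
  have hT := hS.to_le hTS
  have hE1 := inv_rst hE.2.2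
  have hG1 := inv_rst hG.2.2
  obtain ⟨F1, hF1⟩ : ∃ F1, rstSys F hTS = F1 := ⟨_, rfl⟩
  rw [show rstSys F hE.2.2.2.1.1 = F1 from hF1] at hE1
  rw [show rstSys F hG.2.2.2.1.1 = F1 from hF1] at hG1
  have hPinv := ppMin_autInv (p := p) hE1
  have hPPE := ppMin_PPc E p
  obtain ⟨Dm, hDm⟩ : ∃ Dm, ppMin E p = Dm := ⟨_, rfl⟩
  have hgen : ∀ E' : FusionSystem T, (∀ P, E.IsCentric P → Dm.Hom P ⊆ E'.Hom P) → Dm ≤ E' := by
    rw [← hDm]; exact fun E' h => ppMin_gen E' h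
  rw [hDm] at hPinv hPPE
  have hPG : Dm ≤ G := by
    have h1 : PPc E p (interSys E (fun D => D = G)) := by
      refine ⟨fun P φ hφ => hφ.1, fun P hP α hα => ?_⟩
      have h2 : OpP E p P ≤ G.autGroup P := by
        rw [OpP_eq, Subgroup.closure_le]
        rintro τ ⟨hτ, k, hk⟩
        exact opP_sub hS hE hG hP.1 hτ hk
      have h3 := h2 hα
      have h4 := OpP_le E p P hα
      rw [mem_autGroup hP.1] at h3 h4 ⊢
      exact ⟨h4, fun D hD => hD ▸ h3⟩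
    intro P φ hφ
    rw [← hDm] at hφ
    exact (ppMin_le h1 P hφ).2 G rfl
  have hPPG : PPc G p Dm := by
    refine ⟨hPG, fun P hP => ?_⟩
    refine le_trans ?_ (pp_all hT hEs hPPE hP.1)
    rw [OpP_eq, OpP_eq, Subgroup.closure_le]
    rintro τ ⟨hτ, k, hk⟩
    exact Subgroup.subset_closure ⟨opP_sub hS hG hE hP.1 hτ hk, k, hk⟩
  have hAE : E.autGroup T ≤ F1.autGroup T := by
    intro α hα
    rw [mem_autGroup le_rfl] at hα ⊢
    exact hE1.1 _ hα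
  have hAG : G.autGroup T ≤ F1.autGroup T := by
    intro α hα
    rw [mem_autGroup le_rfl] at hα ⊢
    exact hG1.1 _ hα
  have hsup : E.autGroup T ⊔ G.autGroup T ≤ F1.autGroup T := sup_le hAE hAG
  have hPA : Dm.autGroup T ≤ E.autGroup T ⊔ G.autGroup T := by
    refine le_trans ?_ le_sup_left
    intro α hα
    rw [mem_autGroup le_rfl] at hα ⊢
    exact hPPE.1 _ hα
  have hinvK : AutInvK Dm (E.autGroup T ⊔ G.autGroup T) := fun P hP φ hφ α hα => hPinv P hP φ hφ α (hsup hα)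
  obtain ⟨F2, hF2⟩ : ∃ F2, facKSys Dm (E.autGroup T ⊔ G.autGroup T) hinvK = F2 := ⟨_, rfl⟩
  have hF2a : F2.autGroup T ≤ E.autGroup T ⊔ G.autGroup T := by rw [← hF2]; exact facK_aut_le hPA
  have hF2b : E.autGroup T ⊔ G.autGroup T ≤ F2.autGroup T := by rw [← hF2]; exact facK_aut
  have hGF2 : G.IsInvariantIn F2 := by
    refine ⟨fun P φ hφ => ?_, ⟨le_rfl, fun R hR φ hφ x => mem_S hφ x⟩,
      fun P hP φ hφ α hα => hG1.2.2.1 P hP φ hφ α (hsup (hF2a hα)), fun P hP φ hφ => ?_⟩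
    · obtain ⟨α, hα, φ₀, hφ₀, hx⟩ := pp_decomp hT hGs hPPG hφ
      rw [← hF2]
      exact mem_facKSys.2 ⟨le_S hφ, fun x => mem_S hφ x, α, Subgroup.mem_sup_right hα, φ₀, hφ₀, hx⟩
    · rw [← hF2] at hφ
      obtain ⟨-, -, α, hα, φ₀, hφ₀, hx⟩ := mem_facKSys.1 hφ
      exact ⟨α, hF2b hα, φ₀, hPG P hφ₀, hx⟩
  have hGnor : ∀ a ∈ F1.autGroup T, ∀ b ∈ G.autGroup T, a * b * a⁻¹ ∈ G.autGroup T := by
    intro a ha b hb
    have h1 := inv_aut_transport hG1 le_rfl ((mem_autGroup le_rfl).1 ha) hb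
    have h2 : autTransport a b = a * b * a⁻¹ := by
      ext y
      rw [autTransport_apply]
      rfl
    rw [h2] at h1
    exact h1
  haveI hfA : Finite (MulAut T) := Finite.of_injective _ DFunLike.coe_injective
  have hKD : KD p F2 G (G.autGroup T) := by
    refine ⟨le_sup_right.trans hF2b, fun a ha b hb => hGnor a (hsup (hF2a ha)) b hb, le_rfl, fun a ha k hk => ?_⟩
    have ha' := hF2a ha
    have hnor : ∀ a ∈ E.autGroup T, ∀ b ∈ G.autGroup T, a * b * a⁻¹ ∈ G.autGroup T := fun a ha b hb => hGnor a (hAE ha) b hb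
    obtain ⟨x, hx, y, hy, rfl⟩ := sup_decomp hnor ha'
    obtain ⟨g, hg, hgm⟩ := pow_decomp_sup hnor hx hy (p ^ k)
    have hxk : x ^ p ^ k ∈ G.autGroup T := by
      have h1 : x ^ p ^ k = (x * y) ^ p ^ k * g⁻¹ := by rw [hgm]; group
      rw [h1]
      exact Subgroup.mul_mem _ hk (Subgroup.inv_mem _ hg)
    refine Subgroup.mul_mem _ (root_of_sylow (orderOf_pos x).ne' (fun m hm => ?_) hxk) hy
    obtain ⟨j, hj⟩ := hm
    exact opP_sub hS hE hG le_rfl (Subgroup.pow_mem _ hx m) hj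
  have hinvK2 : AutInvK Dm (E.autGroup T ⊓ G.autGroup T) := fun P hP φ hφ α hα => hPinv P hP φ hφ α (hAE hα.1)
  have hcg : CG E (facKSys Dm (E.autGroup T ⊓ G.autGroup T) hinvK2) p := by
    refine cg_facK hT hEs hPPE inf_le_left hinvK2 hgen fun B hB γ hγ φ hφ hφγ => ?_
    refine ⟨hγ, ?_⟩
    exact kd_mem0 hT hGs hGF2 hKD _ B rfl (centric_of_inv hE1 hG1 hB) γ (hF2b (Subgroup.mem_sup_left hγ)) φ (hPG B hφ) hφγ
  have hsat := cg_saturated hT hEs hcg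
  have hle := hD.2.2 _ hsat ⟨hcg.pp.1, fun P hP => pp_all hT hEs hcg.pp hP⟩
  intro P φ hφ
  obtain ⟨-, -, α, hα, φ₀, hφ₀, hx⟩ := mem_facKSys.1 (hle P hφ)
  exact comp_mem' (hPG P hφ₀) ((mem_autGroup le_rfl).1 hα.2) fun x => ⟨mem_S hφ₀ x, hx x _⟩

end CfsgLib.Fus21
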