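import Cfsg.Agent.LibFus21Sm2

set_option autoImplicit false

/-! The `p'`-residual of a weakly normal subsystem is normal. -/

namespace CfsgLib.Fus21

open Cfsg Cfsg.FusionSystem

universe u

variable {Ω : Type u} [Group Ω] {S T : Subgroup Ω}

/-- extension to the centralizer of `T` -/
def XX (F : FusionSystem S) (T P : Subgroup Ω) (φ : P →* Ω) : Prop :=
  ∃ ψ ∈ F.Hom (P ⊔ centralizerIn S T), (∀ x (hx : x ∈ P) (hx' : x ∈ P ⊔ centralizerIn S T), ψ ⟨x, hx'⟩ = φ ⟨x, hx⟩) ∧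
    ∀ c (_ : c ∈ centralizerIn S T) (hc' : c ∈ P ⊔ centralizerIn S T), c⁻¹ * ψ ⟨c, hc'⟩ ∈ T

theorem cent_le (S T : Subgroup Ω) : centralizerIn S T ≤ S := fun _ h => (mem_centralizerIn'.1 h).1

theorem sup_cent {P : Subgroup Ω} (hP : P ≤ T) {z : Ω} (hz : z ∈ P ⊔ centralizerIn S T) :
    ∃ x ∈ P, ∃ c ∈ centralizerIn S T, x * c = z := by
  refine sup_decomp (fun a ha b hb => ?_) hz
  have h := (mem_centralizerIn'.1 hb).2 a (hP ha)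
  have h3 : b * a = a * b := mul_inv_eq_iff_eq_mul.1 h
  have h2 : a * b * a⁻¹ = b := by rw [← h3]; group
  rw [h2]; exact hb

theorem xx_mem {E : FusionSystem T} {P : Subgroup Ω} (hPT : P ≤ T) {φ : P →* Ω} (hφ : φ ∈ E.Hom P)
    (hc : centralizerIn T φ.range ≤ φ.range) {M : Subgroup Ω} {ψ : M →* Ω} (hPM : P ≤ M)
    (hψ : ∀ x (hx : x ∈ P), ψ ⟨x, hPM hx⟩ = φ ⟨x, hx⟩) {c : Ω} (hcC : c ∈ centralizerIn S T) (hcM : c ∈ M)
    (ht : c⁻¹ * ψ ⟨c, hcM⟩ ∈ T) : c⁻¹ * ψ ⟨c, hcM⟩ ∈ φ.range := by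
  apply hc
  rw [mem_centralizerIn']
  refine ⟨ht, ?_⟩
  rintro _ ⟨x, rfl⟩
  have h1 := (mem_centralizerIn'.1 hcC).2 x (hPT x.2)
  have h2 := (mem_centralizerIn'.1 hcC).2 (φ x) (mem_S hφ x)
  have h3 : ψ ⟨c, hcM⟩ * φ x * (ψ ⟨c, hcM⟩)⁻¹ = φ x := by
    have h4 : (⟨c, hcM⟩ : M) * ⟨x, hPM x.2⟩ * (⟨c, hcM⟩ : M)⁻¹ = ⟨x, hPM x.2⟩ := Subtype.ext h1
    have h5 := congrArg ψ h4
    rw [map_mul, map_mul, map_inv, hψ x x.2] at h5
    exact h5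
  calc c⁻¹ * ψ ⟨c, hcM⟩ * φ x * (c⁻¹ * ψ ⟨c, hcM⟩)⁻¹ = c⁻¹ * (ψ ⟨c, hcM⟩ * φ x * (ψ ⟨c, hcM⟩)⁻¹) * c := by group
    _ = φ x := by
      rw [h3]
      calc c⁻¹ * φ x * c = c⁻¹ * (c * φ x * c⁻¹) * c := by rw [h2]
        _ = φ x := by group

/-- the system of maps of `E` which extend -/
def XSys (E : FusionSystem T) (F : FusionSystem S) (hTS : T ≤ S) : FusionSystem T where
  Hom P := {φ | φ ∈ E.Hom P ∧ (E.IsCentric P → XX F T P φ)}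
  le_of_mem h := E.le_of_mem h.1
  injective_of_mem h := E.injective_of_mem h.1
  conj_mem := by
    intro P g hP hg
    refine ⟨E.conj_mem hP hg, fun _ => ⟨conjHom _ g, F.conj_mem (sup_le (hP.trans hTS) (cent_le S T)) (hTS hg),
      fun x hx hx' => rfl, fun c hc hc' => ?_⟩⟩
    have h1 := (mem_centralizerIn'.1 hc).2 g hg
    show c⁻¹ * (g * c * g⁻¹) ∈ T
    have h3 : c * g = g * c := mul_inv_eq_iff_eq_mul.1 h1
    have h2 : c⁻¹ * (g * c * g⁻¹) = 1 := by rw [← h3]; group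
    rw [h2]; exact T.one_mem
  comp_mem := by
    rintro P Q φ ψ ⟨hφ, hφX⟩ ⟨hψ, hψX⟩ h
    refine ⟨E.comp_mem hφ hψ h, fun hP => ?_⟩
    have hPT := le_S hφ
    have hrc : E.IsCentric φ.range := centric_conj ⟨φ, hφ, rfl⟩ hP
    have hrQ : φ.range ≤ Q := by rintro _ ⟨x, rfl⟩; exact h x
    obtain ⟨φ', h1, h2, h3⟩ := hφX hP
    obtain ⟨ψ', h4, h5, h6⟩ := hψX (centric_mono hrQ (le_S hψ) hrc)
    have hcr : ∀ c (hc : c ∈ centralizerIn S T) (hc' : c ∈ P ⊔ centralizerIn S T), c⁻¹ * φ' ⟨c, hc'⟩ ∈ φ.range := fun c hc hc' =>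
      xx_mem hPT hφ (centric_centralizer_le hrc) le_sup_left (fun x hx => h2 x hx _) hc hc' (h3 c hc hc')
    have hQ' : ∀ z, φ' z ∈ Q ⊔ centralizerIn S T := by
      rintro ⟨z, hz⟩
      obtain ⟨x, hx, c, hc, rfl⟩ := sup_cent hPT hz
      have e1 : (⟨x * c, hz⟩ : ↥(P ⊔ centralizerIn S T)) = ⟨x, Subgroup.mem_sup_left hx⟩ * ⟨c, Subgroup.mem_sup_right hc⟩ := rfl
      rw [e1, map_mul, h2 x hx]
      have e2 : φ' ⟨c, Subgroup.mem_sup_right hc⟩ = c * (c⁻¹ * φ' ⟨c, Subgroup.mem_sup_right hc⟩) := by group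
      rw [e2]
      exact Subgroup.mul_mem _ (Subgroup.mem_sup_left (h ⟨x, hx⟩))
        (Subgroup.mul_mem _ (Subgroup.mem_sup_right hc) (Subgroup.mem_sup_left (hrQ (hcr c hc _))))
    refine ⟨_, F.comp_mem h1 h4 hQ', fun x hx hx' => ?_, fun c hc hc' => ?_⟩
    · show ψ' ⟨φ' ⟨x, hx'⟩, _⟩ = ψ ⟨φ ⟨x, hx⟩, _⟩
      rw [← h5 _ (h ⟨x, hx⟩) (Subgroup.mem_sup_left (h ⟨x, hx⟩))]
      congr 1
      exact Subtype.ext (h2 x hx hx')
    · show c⁻¹ * ψ' ⟨φ' ⟨c, hc'⟩, _⟩ ∈ T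
      have e3 : (⟨φ' ⟨c, hc'⟩, hQ' _⟩ : ↥(Q ⊔ centralizerIn S T)) = ⟨c, Subgroup.mem_sup_right hc⟩ *
          ⟨c⁻¹ * φ' ⟨c, hc'⟩, Subgroup.mem_sup_left (hrQ (hcr c hc hc'))⟩ := Subtype.ext (by
        show _ = c * (c⁻¹ * φ' ⟨c, hc'⟩)
        group)
      rw [e3, map_mul, h5 _ (hrQ (hcr c hc hc')), ← mul_assoc]
      exact T.mul_mem (h6 c hc _) (mem_S hψ _)
  inv_mem := by
    rintro P φ ⟨hφ, hφX⟩
    obtain ⟨ψ, hψ, hψx⟩ := E.inv_mem hφ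
    refine ⟨ψ, ⟨hψ, fun hrc => ?_⟩, hψx⟩
    have hPT := le_S hφ
    have hP : E.IsCentric P := centric_conj (conj_symm ⟨φ, hφ, rfl⟩) hrc
    obtain ⟨φ', h1, h2, h3⟩ := hφX hP
    have hcr : ∀ c (hc : c ∈ centralizerIn S T) (hc' : c ∈ P ⊔ centralizerIn S T), c⁻¹ * φ' ⟨c, hc'⟩ ∈ φ.range := fun c hc hc' =>
      xx_mem hPT hφ (centric_centralizer_le hrc) le_sup_left (fun x hx => h2 x hx _) hc hc' (h3 c hc hc')
    obtain ⟨ρ, hρ, hρx⟩ := F.inv_mem h1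
    have hle : φ.range ⊔ centralizerIn S T ≤ φ'.range := by
      refine sup_le ?_ ?_
      · rintro _ ⟨x, rfl⟩; exact ⟨⟨x, Subgroup.mem_sup_left x.2⟩, h2 x x.2 _⟩
      · intro c hc
        obtain ⟨s, hs⟩ := hcr c hc (Subgroup.mem_sup_right hc)
        refine ⟨⟨c, Subgroup.mem_sup_right hc⟩ * ⟨s, Subgroup.mem_sup_left s.2⟩⁻¹, ?_⟩
        rw [map_mul, map_inv, h2 s s.2, Subtype.coe_eta, hs]; group
    refine ⟨_, restrict_mem hρ hle, ?_, ?_⟩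
    · rintro _ ⟨x, rfl⟩ hx'
      show ρ ⟨φ x, _⟩ = ψ ⟨φ x, _⟩
      rw [hψx]
      refine Eq.trans ?_ (hρx ⟨x, Subgroup.mem_sup_left x.2⟩)
      congr 1
      exact Subtype.ext (h2 x x.2 _).symm
    · intro c hc hc'
      obtain ⟨s, hs⟩ := hcr c hc (Subgroup.mem_sup_right hc)
      have e := hρx (⟨c, Subgroup.mem_sup_right hc⟩ * ⟨s, Subgroup.mem_sup_left s.2⟩⁻¹)
      have e2 : φ' (⟨c, Subgroup.mem_sup_right hc⟩ * ⟨s, Subgroup.mem_sup_left s.2⟩⁻¹) = c := by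
        rw [map_mul, map_inv, h2 s s.2, Subtype.coe_eta, hs]; group
      have e3 : ρ ⟨c, hle hc'⟩ = c * (s : Ω)⁻¹ := Eq.trans (congrArg ρ (Subtype.ext e2.symm)) e
      show c⁻¹ * ρ ⟨c, _⟩ ∈ T
      rw [e3, inv_mul_cancel_left]
      exact T.inv_mem (hPT s.2)

theorem mem_XSys {E : FusionSystem T} {F : FusionSystem S} {hTS : T ≤ S} {P : Subgroup Ω} {φ : P →* Ω} :
    φ ∈ (XSys E F hTS).Hom P ↔ φ ∈ E.Hom P ∧ (E.IsCentric P → XX F T P φ) := Iff.rfl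

theorem exists_quot [Finite S] {F : FusionSystem S} {M : Subgroup Ω} {ζ η : M →* Ω} (hζ : ζ ∈ F.Hom M) (hη : η ∈ F.Hom M)
    (h : ∀ x, η x ∈ ζ.range) : ∃ κ ∈ F.autGroup M, ∀ x, ζ (κ x) = η x := by
  obtain ⟨ρ, hρ, hρx⟩ := F.inv_mem hζ
  have h1 := F.comp_mem hη hρ h
  have h0 : ∀ x y, ζ y = η x → (ρ.comp (η.codRestrict ζ.range h)) x = y := by
    intro x y hy
    refine Eq.trans ?_ (hρx y)
    show ρ ⟨η x, _⟩ = _
    congr 1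
    exact Subtype.ext hy.symm
  have h2 : ∀ x, (ρ.comp (η.codRestrict ζ.range h)) x ∈ M := by
    intro x
    obtain ⟨y, hy⟩ := h x
    rw [h0 x y hy]; exact y.2
  obtain ⟨κ, hκ, hκx⟩ := exists_aut_of_hom h1 h2
  refine ⟨κ, hκ, fun x => ?_⟩
  obtain ⟨y, hy⟩ := h x
  have h3 : κ x = y := Subtype.ext (by rw [hκx]; exact h0 x y hy)
  rw [h3, hy]

theorem opP_XX [Finite S] {p : ℕ} [hp : Fact p.Prime] (hS : IsPGroup p S) {F : FusionSystem S} {E : FusionSystem T}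
    (hE : E.IsWeaklyNormalIn F p) {P : Subgroup Ω} (hP : E.IsCentric P) {τ : MulAut P} (hτ : τ ∈ E.autGroup P) {k : ℕ}
    (hk : orderOf τ = p ^ k) : XX F T P (P.subtype.comp τ.toMonoidHom) := by
  obtain ⟨hEs, hF, hinv⟩ := hE
  have hTS : T ≤ S := hinv.2.1.1
  have hPT := hP.1
  haveI : Finite T := finite_of_le hTS
  obtain ⟨Q, hPQ, hQ⟩ := exists_fullyNormalized F (hPT.trans hTS)
  obtain ⟨e, he⟩ := isConj_iff.1 hPQ
  have hQT : Q ≤ T := stronglyClosed_of_le_eq hinv.2.1 hPT hPQ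
  have hQc : E.IsCentric Q := inv_centric hinv hP hPQ
  have hτQ := inv_aut_transport hinv hPT he hτ
  have hQE := fn_sub hS hF hinv.1 hinv.2.1 hQT hQ
  haveI := finite_autGroup E hQT
  have hA := ((fullyAutomized_iff (hS.to_le hTS)).1 (sat_fn (hS.to_le hTS) hEs hQE).2).2
  have hK : IsPGroup p (Subgroup.zpowers (autTransport e τ)) := by
    refine IsPGroup.of_card (n := k) ?_
    rw [Nat.card_zpowers, ← hk]
    exact orderOf_injective (autTransport e).toMonoidHom (autTransport e).injective τ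
  obtain ⟨c, hc, hle⟩ := exists_conj_le (isPGroup_autInducedBy (hS.to_le hTS) Q) hA (Subgroup.zpowers_le.2 hτQ) hK
  have hcF : c ∈ Iso F Q Q := hinv.1 _ ((mem_autGroup hQT).1 hc)
  obtain ⟨f, hf⟩ : ∃ f, e.trans c = f := ⟨_, rfl⟩
  have he' : f ∈ Iso F P Q := hf ▸ iso_trans he hcF
  have h1 : autTransport f τ ∈ autInducedBy T Q := by
    refine hle ?_
    refine ⟨_, Subgroup.mem_zpowers _, ?_⟩
    ext y
    show ((c (autTransport e τ (c⁻¹ y)) : Q) : Ω) = _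
    rw [← hf, autTransport_apply, autTransport_apply]
    rfl
  obtain ⟨t, ht, htx⟩ := mem_autInducedBy.1 h1
  have hR := sat_fn_receptive hS hF hQ
  have hfS : ∀ x, (Q.subtype.comp f.toMonoidHom) x ∈ S := fun x => hTS (hQT (f x).2)
  have hM : P ⊔ centralizerIn S T ≤ extender S P (Q.subtype.comp f.toMonoidHom) := by
    refine sup_le (le_extender (hPT.trans hTS) hfS) (le_trans ?_ (centralizerIn_le_extender S _))
    intro g hg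
    rw [mem_centralizerIn'] at hg ⊢
    exact ⟨hg.1, fun x hx => hg.2 x (hPT hx)⟩
  obtain ⟨ζ, hζ, hζx⟩ := receptive_extend hR he' hM
  have hMS : P ⊔ centralizerIn S T ≤ S := le_S hζ
  have htQ : ∀ x : P, t * ζ ⟨x, Subgroup.mem_sup_left x.2⟩ * t⁻¹ = ζ ⟨τ x, Subgroup.mem_sup_left (τ x).2⟩ := by
    intro x
    rw [hζx x x.2, hζx (τ x) (τ x).2]
    have h2 := htx (f x)
    rw [autTransport_apply, MulEquiv.symm_apply_apply] at h2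
    exact h2.symm
  have hTn := stronglyClosed_normal_S hinv.2.1
  have hz : ∀ c (hc : c ∈ centralizerIn S T), (ζ ⟨c, Subgroup.mem_sup_right hc⟩)⁻¹ * (t * ζ ⟨c, Subgroup.mem_sup_right hc⟩ * t⁻¹) ∈ Q := by
    intro c hc
    obtain ⟨w, hw⟩ : ∃ w, ζ ⟨c, Subgroup.mem_sup_right hc⟩ = w := ⟨_, rfl⟩
    rw [hw]
    have hwS : w ∈ S := hw ▸ mem_S hζ _
    have hwQ : ∀ q ∈ Q, w * q * w⁻¹ = q := by
      intro q hq
      obtain ⟨x, hx⟩ : ∃ x : P, ((f x : Q) : Ω) = q := ⟨f.symm ⟨q, hq⟩, by rw [MulEquiv.apply_symm_apply]⟩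
      have h2 := (mem_centralizerIn'.1 hc).2 x (hPT x.2)
      have h3 : (⟨c, Subgroup.mem_sup_right hc⟩ : ↥(P ⊔ centralizerIn S T)) * ⟨x, Subgroup.mem_sup_left x.2⟩ * ⟨c, Subgroup.mem_sup_right hc⟩⁻¹ =
        ⟨x, Subgroup.mem_sup_left x.2⟩ := Subtype.ext h2
      have h4 := congrArg ζ h3
      rw [map_mul, map_mul, map_inv, hζx x x.2, hw, Subtype.coe_eta, hx] at h4
      exact h4
    apply centric_centralizer_le hQc
    rw [mem_centralizerIn']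
    refine ⟨?_, fun q hq => ?_⟩
    · have h2 : w⁻¹ * t * w ∈ T := by
        have := (Subgroup.mem_normalizer_iff.1 (hTn (S.inv_mem hwS)) t).1 ht
        rwa [inv_inv] at this
      have h3 : w⁻¹ * (t * w * t⁻¹) = (w⁻¹ * t * w) * t⁻¹ := by group
      rw [h3]; exact T.mul_mem h2 (T.inv_mem ht)
    · -- `t⁻¹ q t ∈ Q`
      obtain ⟨y, hy⟩ := (autTransport f τ).surjective ⟨q, hq⟩
      have h2 : t * y * t⁻¹ = q := by rw [← htx y, hy]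
      have h3 : w⁻¹ * (t * w * t⁻¹) * q * (w⁻¹ * (t * w * t⁻¹))⁻¹ = w⁻¹ * (t * (w * y * w⁻¹) * t⁻¹) * w := by
        rw [← h2]; group
      rw [h3, hwQ y y.2, h2]
      have h4 := hwQ q hq
      calc w⁻¹ * q * w = w⁻¹ * (w * q * w⁻¹) * w := by rw [h4]
        _ = q := by group
  have hη := F.comp_mem hζ (F.conj_mem (range_le hζ) (hTS ht)) (fun x => ⟨x, rfl⟩)
  have hηr : ∀ x, ((conjHom ζ.range t).comp (ζ.codRestrict ζ.range (fun x => ⟨x, rfl⟩))) x ∈ ζ.range := by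
    rintro ⟨z, hz'⟩
    obtain ⟨x, hx, c, hc, rfl⟩ := sup_cent hPT hz'
    show t * ζ ⟨x * c, hz'⟩ * t⁻¹ ∈ ζ.range
    have e1 : (⟨x * c, hz'⟩ : ↥(P ⊔ centralizerIn S T)) = ⟨x, Subgroup.mem_sup_left hx⟩ * ⟨c, Subgroup.mem_sup_right hc⟩ := rfl
    have e2 : t * ζ ⟨x * c, hz'⟩ * t⁻¹ = (t * ζ ⟨x, Subgroup.mem_sup_left hx⟩ * t⁻¹) * (ζ ⟨c, Subgroup.mem_sup_right hc⟩ *
        ((ζ ⟨c, Subgroup.mem_sup_right hc⟩)⁻¹ * (t * ζ ⟨c, Subgroup.mem_sup_right hc⟩ * t⁻¹))) := by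
      rw [e1, map_mul]; group
    rw [e2]
    refine Subgroup.mul_mem _ (by rw [htQ ⟨x, hx⟩]; exact ⟨_, rfl⟩) (Subgroup.mul_mem _ ⟨_, rfl⟩ ?_)
    refine ⟨⟨f.symm ⟨_, hz c hc⟩, Subgroup.mem_sup_left (f.symm _).2⟩, ?_⟩
    rw [hζx _ (f.symm _).2, Subtype.coe_eta, MulEquiv.apply_symm_apply]
  obtain ⟨κ, hκ, hκx⟩ := exists_quot hζ hη hηr
  have hκx' : ∀ x, ζ (κ x) = t * ζ x * t⁻¹ := hκx
  refine ⟨_, (mem_autGroup hMS).1 hκ, fun x hx hx' => ?_, fun c hc hc' => ?_⟩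
  · have h2 : κ ⟨x, hx'⟩ = ⟨τ ⟨x, hx⟩, Subgroup.mem_sup_left (τ ⟨x, hx⟩).2⟩ := by
      apply inj hζ
      rw [hκx']
      exact htQ ⟨x, hx⟩
    exact congrArg Subtype.val h2
  · have h2 : κ ⟨c, hc'⟩ = ⟨c, hc'⟩ * ⟨f.symm ⟨_, hz c hc⟩, Subgroup.mem_sup_left (f.symm _).2⟩ := by
      apply inj hζ
      rw [hκx', map_mul, hζx _ (f.symm _).2, Subtype.coe_eta, MulEquiv.apply_symm_apply]
      group
    show c⁻¹ * ((κ ⟨c, hc'⟩ : ↥(P ⊔ centralizerIn S T)) : Ω) ∈ T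
    rw [h2]
    show c⁻¹ * (c * ((f.symm ⟨_, hz c hc⟩ : P) : Ω)) ∈ T
    rw [inv_mul_cancel_left]
    exact hPT (f.symm _).2

end CfsgLib.Fus21
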