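import Cfsg.Agent.LibFus21Sm3

set_option autoImplicit false

/-! The `p'`-residual of a weakly normal subsystem is normal: extending automorphisms trivial on a centric subgroup. -/

namespace CfsgLib.Fus21

open Cfsg Cfsg.FusionSystem

universe u

variable {Ω : Type u} [Group Ω] {S T : Subgroup Ω}

/-- a normal `p`-subgroup of `Aut_F(R)` is contained in `Aut_S(R)` -/
theorem normal_le_autS [Finite S] {p : ℕ} [hp : Fact p.Prime] (hS : IsPGroup p S) {F : FusionSystem S} {R : Subgroup Ω}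
    (hR : F.IsFullyAutomized p R) {B : Subgroup (MulAut R)} (hB : B ≤ F.autGroup R) (hBp : IsPGroup p B)
    (hn : ∀ a ∈ F.autGroup R, ∀ b ∈ B, a * b * a⁻¹ ∈ B) : B ≤ autInducedBy S R := by
  haveI := finite_autGroup F hR.1
  obtain ⟨g, hg, hle⟩ := exists_conj_le (isPGroup_autInducedBy hS R) ((fullyAutomized_iff hS).1 hR).2 hB hBp
  intro b hb
  have h1 := hn g⁻¹ (Subgroup.inv_mem _ hg) b hb
  have h2 := hle ⟨_, h1, rfl⟩
  have h3 : (MulAut.conj g).toMonoidHom (g⁻¹ * b * g⁻¹⁻¹) = b := by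
    show g * (g⁻¹ * b * g⁻¹⁻¹) * g⁻¹ = b
    group
  rw [h3] at h2
  exact h2

theorem ext_step [Finite S] {p : ℕ} [hp : Fact p.Prime] (hS : IsPGroup p S) {F : FusionSystem S} {E : FusionSystem T}
    (hF : F.IsSaturated p) (hinv : E.IsInvariantIn F) {Q N : Subgroup Ω} (hQ : E.IsCentric Q) (hQN : Q ≤ N) (hNT : N ≤ T)
    (hNn : ∀ g ∈ N, g ∈ Subgroup.normalizer (Q : Set Ω)) {M M' : Subgroup Ω} (hM : Q ⊔ centralizerIn S T = M)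
    (hM' : N ⊔ centralizerIn S T = M') {κ : MulAut M} (hκ : κ ∈ F.autGroup M)
    (hκQ : ∀ x (_ : x ∈ Q) (hx' : x ∈ M), κ ⟨x, hx'⟩ = ⟨x, hx'⟩) :
    ∃ κ' ∈ F.autGroup M', (∀ x (hx : x ∈ M) (hx' : x ∈ M'), ((κ' ⟨x, hx'⟩ : M') : Ω) = κ ⟨x, hx⟩) ∧
      ∀ g (_ : g ∈ N) (hg' : g ∈ M'), g⁻¹ * ((κ' ⟨g, hg'⟩ : M') : Ω) ∈ Q := by
  have hTS : T ≤ S := hinv.2.1.1
  have hQT := hQ.1
  have hCM : centralizerIn S T ≤ M := hM ▸ le_sup_right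
  have hCM' : centralizerIn S T ≤ M' := hM' ▸ le_sup_right
  have hQM : Q ≤ M := hM ▸ le_sup_left
  have hNM' : N ≤ M' := hM' ▸ le_sup_left
  have hMM' : M ≤ M' := by rw [← hM]; exact sup_le (hQN.trans hNM') hCM'
  have hM'S : M' ≤ S := by rw [← hM']; exact sup_le (hNT.trans hTS) (cent_le S T)
  have hMS : M ≤ S := hMM'.trans hM'S
  have hTn := stronglyClosed_normal_S hinv.2.1
  have hMT : ∀ x ∈ M, x ∈ T → x ∈ Q := by
    intro x hx hxT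
    rw [← hM] at hx
    obtain ⟨a, ha, c, hc, rfl⟩ := sup_cent hQT hx
    refine Q.mul_mem ha (centric_centralizer_le hQ ?_)
    have hcT : c ∈ T := by
      have h1 := T.mul_mem (T.inv_mem (hQT ha)) hxT
      rwa [inv_mul_cancel_left] at h1
    rw [mem_centralizerIn']
    exact ⟨hcT, fun y hy => (mem_centralizerIn'.1 hc).2 y (hQT hy)⟩
  have hNC : ∀ g ∈ N, ∀ c ∈ centralizerIn S T, g * c * g⁻¹ = c := by
    intro g hg c hc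
    have h3 : c * g = g * c := mul_inv_eq_iff_eq_mul.1 ((mem_centralizerIn'.1 hc).2 g (hNT hg))
    rw [← h3]; group
  have hNle : ∀ g ∈ N, ∀ x ∈ M, g * x * g⁻¹ ∈ M := by
    intro g hg x hx
    rw [← hM] at hx
    obtain ⟨a, ha, c, hc, rfl⟩ := sup_cent hQT hx
    have h1 : g * (a * c) * g⁻¹ = (g * a * g⁻¹) * (g * c * g⁻¹) := by group
    rw [h1, hNC g hg c hc]
    exact M.mul_mem (hQM ((Subgroup.mem_normalizer_iff.1 (hNn g hg) a).1 ha)) (hCM hc)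
  have hNnor : ∀ g ∈ N, g ∈ normalizerIn S M := by
    intro g hg
    rw [mem_normalizerIn]
    refine ⟨hTS (hNT hg), fun x => ⟨fun hx => hNle g hg x hx, fun hx => ?_⟩⟩
    have h1 := hNle g⁻¹ (N.inv_mem hg) _ hx
    have h2 : g⁻¹ * (g * x * g⁻¹) * g⁻¹⁻¹ = x := by group
    rwa [h2] at h1
  have hM'N : M' ≤ normalizerIn S M := by
    rw [← hM']
    exact sup_le hNnor (hCM.trans (le_normalizerIn hMS))
  obtain ⟨R, hMR, hR⟩ := exists_fullyNormalized F hMS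
  obtain ⟨φ, hφ, e, he, hφe, hφN⟩ := exists_map_normalizer hS (sat_fn hS hF hR).2 (sat_fn_receptive hS hF hR) hMR
  have hRS : R ≤ S := hR.1
  obtain ⟨B, hB, hBp, hBn, hBm⟩ := two_layer hS (P := R) hRS hinv.2.1
  have hBS := normal_le_autS hS (sat_fn hS hF hR).2 hB hBp hBn
  obtain ⟨ζ, hζd⟩ : ∃ ζ, φ.comp (Subgroup.inclusion hM'N) = ζ := ⟨_, rfl⟩
  have hζ : ζ ∈ F.Hom M' := hζd ▸ restrict_mem hφ hM'N
  have hζφ : ∀ x (hx : x ∈ M'), ζ ⟨x, hx⟩ = φ ⟨x, hM'N hx⟩ := fun x hx => by rw [← hζd]; rfl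
  have hζe : ∀ x (hx : x ∈ M) (hx' : x ∈ M'), ζ ⟨x, hx'⟩ = e ⟨x, hx⟩ := fun x hx hx' => by
    rw [hζφ]; exact hφe ⟨x, hx⟩ _
  have hκi : κ⁻¹ ∈ F.autGroup M := Subgroup.inv_mem _ hκ
  have hext : M' ≤ extender S M (R.subtype.comp (κ.trans e).toMonoidHom) := by
    have hM'1 : M ≤ extender S M (R.subtype.comp (κ.trans e).toMonoidHom) := le_extender hMS fun x => hRS (e (κ x)).2
    rw [← hM']
    refine sup_le ?_ (hCM.trans hM'1)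
    intro g hg
    obtain ⟨cg, hcgd⟩ : ∃ cg, nHom S M ⟨g, hNnor g hg⟩ = cg := ⟨_, rfl⟩
    have hcg : ∀ x : M, ((cg x : M) : Ω) = g * x * g⁻¹ := fun x => by rw [← hcgd]; rfl
    have hcgi : ∀ x : M, ((cg⁻¹ x : M) : Ω) = g⁻¹ * x * g := by
      intro x
      have h1 := hcg (cg⁻¹ x)
      rw [MulAut.apply_inv_self] at h1
      rw [h1]; group
    have hcgF : cg ∈ F.autGroup M := by
      refine autInducedBy_le_autGroup F hMS ?_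
      rw [mem_autInducedBy]
      exact ⟨g, hTS (hNT hg), hcg⟩
    obtain ⟨β, hβd⟩ : ∃ β, κ * cg * κ⁻¹ * cg⁻¹ = β := ⟨_, rfl⟩
    have hβF : β ∈ F.autGroup M := by
      rw [← hβd]
      exact Subgroup.mul_mem _ (Subgroup.mul_mem _ (Subgroup.mul_mem _ hκ hcgF) hκi) (Subgroup.inv_mem _ hcgF)
    have hβQ : ∀ x : M, (x : Ω) ∈ Q → β x = x := by
      intro x hx
      have h1 : ((cg⁻¹ x : M) : Ω) ∈ Q := by
        rw [hcgi]
        have h2 := (Subgroup.mem_normalizer_iff.1 (hNn g⁻¹ (N.inv_mem hg)) x).1 hx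
        rwa [inv_inv] at h2
      have hfix : ∀ y : M, (y : Ω) ∈ Q → κ⁻¹ y = y := by
        intro y hy
        have h2 : κ y = y := hκQ y hy y.2
        conv_lhs => rw [← h2]
        rw [MulAut.inv_apply_self]
      rw [← hβd]
      show κ (cg (κ⁻¹ (cg⁻¹ x))) = x
      rw [hfix _ h1, MulAut.apply_inv_self]
      exact hκQ x hx x.2
    have hβT : ∀ x : M, (x : Ω)⁻¹ * ((β x : M) : Ω) ∈ T := by
      intro x
      obtain ⟨u, hu⟩ : ∃ u, cg⁻¹ x = u := ⟨_, rfl⟩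
      obtain ⟨v, hv⟩ : ∃ v, κ⁻¹ u = v := ⟨_, rfl⟩
      have hκv : κ v = u := by rw [← hv, MulAut.apply_inv_self]
      have h1 : (x : Ω)⁻¹ * u ∈ T := by
        rw [← hu, hcgi]
        have h2 := (Subgroup.mem_normalizer_iff.1 (hTn (S.inv_mem (hMS x.2))) g⁻¹).1 (T.inv_mem (hNT hg))
        rw [inv_inv] at h2
        have h3 : (x : Ω)⁻¹ * (g⁻¹ * x * g) = ((x : Ω)⁻¹ * g⁻¹ * x) * g := by group
        rw [h3]; exact T.mul_mem h2 (hNT hg)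
      have h2 : (((v⁻¹ * cg v : M)) : Ω) ∈ T := by
        show (v : Ω)⁻¹ * ((cg v : M) : Ω) ∈ T
        rw [hcg]
        have h2 := (Subgroup.mem_normalizer_iff.1 (hTn (S.inv_mem (hMS v.2))) g).1 (hNT hg)
        rw [inv_inv] at h2
        have h3 : (v : Ω)⁻¹ * (g * v * g⁻¹) = ((v : Ω)⁻¹ * g * v) * g⁻¹ := by group
        rw [h3]; exact T.mul_mem h2 (T.inv_mem (hNT hg))
      have h3 := (stronglyClosed_aut hinv.2.1 hMS hκ _).2 h2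
      rw [map_mul, map_inv, hκv] at h3
      have h4 : β x = κ (cg v) := by rw [← hβd, ← hv, ← hu]; rfl
      rw [h4]
      have h5 : (x : Ω)⁻¹ * ((κ (cg v) : M) : Ω) = ((x : Ω)⁻¹ * u) * ((u⁻¹ * κ (cg v) : M) : Ω) := by
        show _ = ((x : Ω)⁻¹ * u) * ((u : Ω)⁻¹ * ((κ (cg v) : M) : Ω))
        group
      rw [h5]; exact T.mul_mem h1 h3
    have hβB : autTransport e β ∈ B := by
      rw [hBm]
      refine ⟨(autTransport_mem he).2 hβF, fun y hy => ?_, fun y => ?_⟩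
      · have h1 : ((e.symm y : M) : Ω) ∈ T := by
          rw [← stronglyClosed_mem_iff hinv.2.1 he (e.symm y)]
          show ((e (e.symm y) : R) : Ω) ∈ T
          rw [MulEquiv.apply_symm_apply]; exact hy
        rw [autTransport_apply, hβQ _ (hMT _ (e.symm y).2 h1), MulEquiv.apply_symm_apply]
      · have h1 : (((e.symm y)⁻¹ * β (e.symm y) : M) : Ω) ∈ T := hβT _
        have h2 := (stronglyClosed_mem_iff hinv.2.1 he _).2 h1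
        rw [autTransport_apply]
        have h3 : (R.subtype.comp e.toMonoidHom) ((e.symm y)⁻¹ * β (e.symm y)) = (y : Ω)⁻¹ * ((e (β (e.symm y)) : R) : Ω) := by
          show ((e ((e.symm y)⁻¹ * β (e.symm y)) : R) : Ω) = _
          rw [map_mul, map_inv, MulEquiv.apply_symm_apply]
          rfl
        rw [h3] at h2
        exact h2
    obtain ⟨s, hs, hsx⟩ := mem_autInducedBy.1 (hBS hβB)
    refine mem_extender.2 ⟨hTS (hNT hg), (Subgroup.mem_inf.1 (hNnor g hg)).2, s * ζ ⟨g, hNM' hg⟩,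
      S.mul_mem hs (mem_S hζ _), fun x hx => ?_⟩
    show ((e (κ ⟨g * x * g⁻¹, hx⟩) : R) : Ω) = s * ζ ⟨g, hNM' hg⟩ * ((e (κ x) : R) : Ω) * (s * ζ ⟨g, hNM' hg⟩)⁻¹
    have h1 : (⟨g * x * g⁻¹, hx⟩ : M) = cg x := Subtype.ext (hcg x).symm
    have h2 : κ (cg x) = β (cg (κ x)) := by
      rw [← hβd]
      show κ (cg x) = κ (cg (κ⁻¹ (cg⁻¹ (cg (κ x)))))
      rw [MulAut.inv_apply_self, MulAut.inv_apply_self]
    have h3 := hsx (e (cg (κ x)))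
    rw [autTransport_apply, MulEquiv.symm_apply_apply] at h3
    rw [h1, h2, h3]
    have h4 : ((e (cg (κ x)) : R) : Ω) = ζ ⟨g, hNM' hg⟩ * ((e (κ x) : R) : Ω) * (ζ ⟨g, hNM' hg⟩)⁻¹ := by
      have h5 := hζe (cg (κ x)) (cg (κ x)).2 (hMM' (cg (κ x)).2)
      have h6 := hζe (κ x) (κ x).2 (hMM' (κ x).2)
      rw [Subtype.coe_eta] at h5 h6
      rw [← h5, ← h6, ← map_inv, ← map_mul, ← map_mul]
      congr 1
      exact Subtype.ext (hcg _)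
    rw [h4]; group
  have hκe : κ.trans e ∈ Iso F M R := iso_trans ((mem_autGroup hMS).1 hκ) he
  obtain ⟨η, hη, hηx⟩ := receptive_extend (sat_fn_receptive hS hF hR) hκe hext
  have hηe : ∀ x (hx : x ∈ M) (hx' : x ∈ M'), η ⟨x, hx'⟩ = e (κ ⟨x, hx⟩) := fun x hx hx' => hηx x hx hx'
  have hQM' : Q ≤ M' := hQM.trans hMM'
  have hζQ : ζ.comp (Subgroup.inclusion hQM') ∈ F.Hom Q := restrict_mem hζ hQM'
  have hrc := centric_centralizer_le (inv_centric hinv hQ ⟨_, hζQ, rfl⟩)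
  have hN1 : ∀ g (hg : g ∈ N), ∃ q, ∃ hq : q ∈ Q, ζ ⟨q, hQM' hq⟩ = (ζ ⟨g, hNM' hg⟩)⁻¹ * η ⟨g, hNM' hg⟩ := by
    intro g hg
    have h1 : (ζ ⟨g, hNM' hg⟩)⁻¹ * η ⟨g, hNM' hg⟩ ∈ (ζ.comp (Subgroup.inclusion hQM')).range := by
      apply hrc
      rw [mem_centralizerIn']
      refine ⟨T.mul_mem (T.inv_mem ((stronglyClosed_mem_iff hinv.2.1 hζ _).2 (hNT hg)))
        ((stronglyClosed_mem_iff hinv.2.1 hη _).2 (hNT hg)), ?_⟩
      rintro _ ⟨q, rfl⟩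
      show (ζ ⟨g, hNM' hg⟩)⁻¹ * η ⟨g, hNM' hg⟩ * ζ ⟨q, hQM' q.2⟩ * ((ζ ⟨g, hNM' hg⟩)⁻¹ * η ⟨g, hNM' hg⟩)⁻¹ = ζ ⟨q, hQM' q.2⟩
      have hζη : ∀ y (hy : y ∈ Q), η ⟨y, hQM' hy⟩ = ζ ⟨y, hQM' hy⟩ := by
        intro y hy
        rw [hηe y (hQM hy), hζe y (hQM hy), hκQ y hy]
      have hgq : g * q * g⁻¹ ∈ Q := (Subgroup.mem_normalizer_iff.1 (hNn g hg) q).1 q.2
      have h2 := hζη _ hgq
      have h3 : (⟨g * q * g⁻¹, hQM' hgq⟩ : M') = ⟨g, hNM' hg⟩ * ⟨q, hQM' q.2⟩ * ⟨g, hNM' hg⟩⁻¹ := rfl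
      rw [h3, map_mul, map_mul, map_inv, map_mul, map_mul, map_inv, hζη q q.2] at h2
      have h4 : (ζ ⟨g, hNM' hg⟩)⁻¹ * η ⟨g, hNM' hg⟩ * ζ ⟨q, hQM' q.2⟩ * ((ζ ⟨g, hNM' hg⟩)⁻¹ * η ⟨g, hNM' hg⟩)⁻¹ =
        (ζ ⟨g, hNM' hg⟩)⁻¹ * (η ⟨g, hNM' hg⟩ * ζ ⟨q, hQM' q.2⟩ * (η ⟨g, hNM' hg⟩)⁻¹) * ζ ⟨g, hNM' hg⟩ := by group
      rw [h4, h2]; group
    obtain ⟨q, hq⟩ := h1
    exact ⟨q, q.2, hq⟩
  have hηr : ∀ x, η x ∈ ζ.range := by
    rintro ⟨z, hz'⟩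
    have hz := hz'
    rw [← hM'] at hz
    obtain ⟨g, hg, c, hc, rfl⟩ := sup_cent hNT hz
    obtain ⟨q, hq, hqx⟩ := hN1 g hg
    have h1 : (⟨g * c, hz'⟩ : M') = ⟨g, hNM' hg⟩ * ⟨c, hCM' hc⟩ := rfl
    have h2 : η ⟨g, hNM' hg⟩ = ζ ⟨g, hNM' hg⟩ * ζ ⟨q, hQM' hq⟩ := by rw [hqx]; group
    rw [h1, map_mul, h2, hηe c (hCM hc), ← Subtype.coe_eta (κ ⟨c, hCM hc⟩) (κ ⟨c, hCM hc⟩).2,
      ← hζe _ (κ ⟨c, hCM hc⟩).2 (hMM' (κ ⟨c, hCM hc⟩).2)]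
    exact Subgroup.mul_mem _ (Subgroup.mul_mem _ ⟨_, rfl⟩ ⟨_, rfl⟩) ⟨_, rfl⟩
  obtain ⟨κ', hκ', hκ'x⟩ := exists_quot hζ hη hηr
  refine ⟨κ', hκ', fun x hx hx' => ?_, fun g hg hg' => ?_⟩
  · have h1 : κ' ⟨x, hx'⟩ = ⟨κ ⟨x, hx⟩, hMM' (κ ⟨x, hx⟩).2⟩ := by
      apply inj hζ
      rw [hκ'x, hηe x hx, hζe _ (κ ⟨x, hx⟩).2]
    exact congrArg Subtype.val h1
  · obtain ⟨q, hq, hqx⟩ := hN1 g hg
    have h1 : κ' ⟨g, hg'⟩ = ⟨g, hg'⟩ * ⟨q, hQM' hq⟩ := by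
      apply inj hζ
      rw [hκ'x, map_mul, hqx]
      group
    rw [h1]
    show g⁻¹ * (g * q) ∈ Q
    rw [inv_mul_cancel_left]; exact hq

end CfsgLib.Fus21
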