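import Cfsg.Agent.LibFus21Sm4

set_option autoImplicit false

/-! The `p'`-residual of a weakly normal subsystem is normal: extending `p'`-automorphisms trivial on a centric subgroup. -/

namespace CfsgLib.Fus21

open Cfsg Cfsg.FusionSystem

universe u

variable {Ω : Type u} [Group Ω] {S T : Subgroup Ω}

theorem ext_full [Finite S] {p : ℕ} [hp : Fact p.Prime] (hS : IsPGroup p S) {F : FusionSystem S} {E : FusionSystem T}
    (hF : F.IsSaturated p) (hinv : E.IsInvariantIn F) {M₀ : Subgroup Ω} (hM₀ : T ⊔ centralizerIn S T = M₀) {m : ℕ} (hm : ¬ p ∣ m) :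
    ∀ (n : ℕ) (Q : Subgroup Ω), Nat.card T - Nat.card Q = n → E.IsCentric Q → ∀ M : Subgroup Ω, Q ⊔ centralizerIn S T = M →
      ∀ κ ∈ F.autGroup M, (∀ x (_ : x ∈ Q) (hx' : x ∈ M), κ ⟨x, hx'⟩ = ⟨x, hx'⟩) → κ ^ m = 1 →
      ∃ lam ∈ F.autGroup M₀, (∀ x (_ : x ∈ T) (hx' : x ∈ M₀), lam ⟨x, hx'⟩ = ⟨x, hx'⟩) ∧
        ∀ x (hx : x ∈ M) (hx' : x ∈ M₀), ((lam ⟨x, hx'⟩ : M₀) : Ω) = κ ⟨x, hx⟩ := by
  have hTS : T ≤ S := hinv.2.1.1
  haveI : Finite T := finite_of_le hTS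
  intro n
  induction n using Nat.strong_induction_on with
  | _ n ih =>
  intro Q hn hQ M hM κ hκ hκQ hκm
  have hQT := hQ.1
  by_cases hQT' : Q = T
  · obtain rfl : M = M₀ := by rw [← hM, ← hM₀, hQT']
    exact ⟨κ, hκ, fun x hx hx' => hκQ x (hQT'.ge hx) hx', fun x hx hx' => rfl⟩
  have hlt : Q < T := lt_of_le_of_ne hQT hQT'
  obtain ⟨N, hN⟩ : ∃ N, T ⊓ Subgroup.normalizer (Q : Set Ω) = N := ⟨_, rfl⟩
  have hQN : Q < N := hN ▸ lt_normalizer_inf (hS.to_le hTS) hlt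
  have hNT : N ≤ T := hN ▸ inf_le_left
  have hNn : ∀ g ∈ N, g ∈ Subgroup.normalizer (Q : Set Ω) := by
    intro g hg; rw [← hN] at hg; exact hg.2
  haveI : Finite N := finite_of_le hNT
  haveI : Finite Q := finite_of_le hQT
  have hcN : Nat.card Q < Nat.card N := lt_of_le_of_ne (Subgroup.card_le_of_le hQN.le) fun h =>
    hQN.ne (Subgroup.eq_of_le_of_card_ge hQN.le h.ge)
  have hcNT : Nat.card N ≤ Nat.card T := Subgroup.card_le_of_le hNT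
  have hNc : E.IsCentric N := centric_mono hQN.le hNT hQ
  obtain ⟨M', hM'⟩ : ∃ M', N ⊔ centralizerIn S T = M' := ⟨_, rfl⟩
  obtain ⟨κ', hκ', hκ'x, hκ'g⟩ := ext_step hS hF hinv hQ hQN.le hNT hNn hM hM' hκ hκQ
  have hCM : centralizerIn S T ≤ M := hM ▸ le_sup_right
  have hCM' : centralizerIn S T ≤ M' := hM' ▸ le_sup_right
  have hQM : Q ≤ M := hM ▸ le_sup_left
  have hNM' : N ≤ M' := hM' ▸ le_sup_left
  have hMM' : M ≤ M' := by rw [← hM]; exact sup_le (hQN.le.trans hNM') hCM'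
  have hM'M₀ : M' ≤ M₀ := by rw [← hM', ← hM₀]; exact sup_le_sup_right hNT _
  obtain ⟨k, hk⟩ := IsPGroup.iff_card.1 (hS.to_le (hQT.trans hTS))
  have hpow : ∀ (j : ℕ) x (hx : x ∈ M) (hx' : x ∈ M'), (((κ' ^ j) ⟨x, hx'⟩ : M') : Ω) = (κ ^ j) ⟨x, hx⟩ := by
    intro j
    induction j with
    | zero => intro x hx hx'; rfl
    | succ j ihj =>
      intro x hx hx'
      have h1 : (κ' ^ (j + 1)) ⟨x, hx'⟩ = (κ' ^ j) (κ' ⟨x, hx'⟩) := by rw [pow_succ]; rfl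
      have h2 : (κ ^ (j + 1)) ⟨x, hx⟩ = (κ ^ j) (κ ⟨x, hx⟩) := by rw [pow_succ]; rfl
      have h3 : κ' ⟨x, hx'⟩ = ⟨κ ⟨x, hx⟩, hMM' (κ ⟨x, hx⟩).2⟩ := Subtype.ext (hκ'x x hx hx')
      rw [h1, h2, h3]
      exact ihj _ (κ ⟨x, hx⟩).2 _
  have hpowN : ∀ (y q : M'), κ' y = y * q → κ' q = q → ∀ j : ℕ, (κ' ^ j) y = y * q ^ j := by
    intro y q hy hq j
    induction j with
    | zero => rw [pow_zero, pow_zero, mul_one]; rfl
    | succ j ihj =>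
      have h1 : (κ' ^ (j + 1)) y = κ' ((κ' ^ j) y) := by rw [pow_succ']; rfl
      rw [h1, ihj, map_mul, map_pow, hy, hq, mul_assoc, ← pow_succ']
  have hfixN : ∀ (i : ℕ) g (_ : g ∈ N) (hg' : g ∈ M'), (κ' ^ (p ^ k * i)) ⟨g, hg'⟩ = ⟨g, hg'⟩ := by
    intro i g hg hg'
    obtain ⟨q, hq⟩ : ∃ q, g⁻¹ * ((κ' ⟨g, hg'⟩ : M') : Ω) = q := ⟨_, rfl⟩
    have hqQ : q ∈ Q := hq ▸ hκ'g g hg hg'
    have h2 : κ' ⟨g, hg'⟩ = ⟨g, hg'⟩ * ⟨q, hMM' (hQM hqQ)⟩ := Subtype.ext (by show _ = g * q; rw [← hq]; group)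
    have h3 : κ' ⟨q, hMM' (hQM hqQ)⟩ = ⟨q, hMM' (hQM hqQ)⟩ := Subtype.ext (by rw [hκ'x q (hQM hqQ), hκQ q hqQ])
    rw [hpowN _ _ h2 h3]
    have h4 : (⟨q, hqQ⟩ : Q) ^ Nat.card Q = 1 := pow_card_eq_one'
    have h5 : q ^ Nat.card Q = 1 := congrArg Subtype.val h4
    have h6 : (⟨q, hMM' (hQM hqQ)⟩ : M') ^ (p ^ k * i) = 1 := by
      apply Subtype.ext
      show q ^ (p ^ k * i) = 1
      rw [pow_mul, ← hk, h5, one_pow]
    rw [h6, mul_one]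
  have hcop : Nat.Coprime (p ^ k) m := Nat.Coprime.pow_left k ((Nat.Prime.coprime_iff_not_dvd hp.out).2 hm)
  obtain ⟨u, hu1, hu2⟩ := Nat.chineseRemainder hcop 0 1
  have hκu : κ ^ u = κ := by rw [pow_eq_pow_of_modEq hu2 hκm, pow_one]
  obtain ⟨w, rfl⟩ := (Nat.modEq_zero_iff_dvd).1 hu1
  have hκ''m : (κ' ^ (p ^ k * w)) ^ m = 1 := by
    apply MulEquiv.ext
    rintro ⟨z, hz'⟩
    have hz := hz'
    rw [← hM'] at hz
    obtain ⟨g, hg, c, hc, rfl⟩ := sup_cent hNT hz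
    have h1 : (⟨g * c, hz'⟩ : M') = ⟨g, hNM' hg⟩ * ⟨c, hCM' hc⟩ := rfl
    rw [← pow_mul, h1, map_mul, map_mul, mul_assoc (p ^ k), hfixN (w * m) g hg (hNM' hg)]
    congr 1
    apply Subtype.ext
    rw [hpow _ c (hCM hc), ← mul_assoc, pow_mul, hκu, hκm]
    rfl
  obtain ⟨lam, hlam, h1, h2⟩ := ih (Nat.card T - Nat.card N) (by omega) N rfl hNc M' hM' _ (Subgroup.pow_mem _ hκ' (p ^ k * w))
    (hfixN w) hκ''m
  refine ⟨lam, hlam, h1, fun x hx hx' => ?_⟩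
  rw [h2 x (hMM' hx) hx', hpow _ x hx, hκu]

theorem receptive_strong [Finite S] {p : ℕ} [hp : Fact p.Prime] (hS : IsPGroup p S) {F : FusionSystem S} (hF : F.IsSaturated p)
    (hT : F.StronglyClosed T) : F.IsReceptive T := by
  obtain ⟨Q, hTQ, hQ⟩ := exists_fullyNormalized F hT.1
  have hQT := stronglyClosed_of_le_eq hT le_rfl hTQ
  have h : Q = T := by
    obtain ⟨e, he⟩ := isConj_iff.1 hTQ
    haveI : Finite T := finite_of_le hT.1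
    exact Subgroup.eq_of_le_of_card_ge hQT (Nat.card_congr e.toEquiv).le
  exact h ▸ sat_fn_receptive hS hF hQ

theorem hom_cent [Finite S] {F : FusionSystem S} (hT : F.StronglyClosed T) {M : Subgroup Ω} (hTM : T ≤ M) {ψ : M →* Ω}
    (hψ : ψ ∈ F.Hom M) {c : Ω} (hc : c ∈ centralizerIn S T) (hcM : c ∈ M) : ψ ⟨c, hcM⟩ ∈ centralizerIn S T := by
  haveI : Finite T := finite_of_le hT.1
  obtain ⟨α, hα, hαx⟩ := exists_aut_of_hom (restrict_mem hψ hTM)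
    (fun x => (stronglyClosed_mem_iff hT (restrict_mem hψ hTM) x).2 x.2)
  rw [mem_centralizerIn']
  refine ⟨mem_S hψ _, fun t ht => ?_⟩
  obtain ⟨s, hs⟩ := α.surjective ⟨t, ht⟩
  have h1 : ψ ⟨s, hTM s.2⟩ = t := by
    have := hαx s
    rw [hs] at this
    exact this.symm
  have h2 : (⟨c, hcM⟩ : M) * ⟨s, hTM s.2⟩ * ⟨c, hcM⟩⁻¹ = ⟨s, hTM s.2⟩ := Subtype.ext ((mem_centralizerIn'.1 hc).2 s s.2)
  have h3 := congrArg ψ h2
  rw [map_mul, map_mul, map_inv, h1] at h3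
  exact h3

theorem XX_iff {F : FusionSystem S} {P M : Subgroup Ω} {φ : P →* Ω} (hM : P ⊔ centralizerIn S T = M) :
    XX F T P φ ↔ ∃ ψ ∈ F.Hom M, (∀ x (hx : x ∈ P) (hx' : x ∈ M), ψ ⟨x, hx'⟩ = φ ⟨x, hx⟩) ∧
      ∀ c (_ : c ∈ centralizerIn S T) (hc' : c ∈ M), c⁻¹ * ψ ⟨c, hc'⟩ ∈ T := by
  subst hM; rfl

theorem key_XX [Finite S] {p : ℕ} [hp : Fact p.Prime] (hS : IsPGroup p S) {F : FusionSystem S} {E : FusionSystem T}
    (hE : E.IsWeaklyNormalIn F p) {P : Subgroup Ω} (hP : E.IsCentric P) {α : MulAut T} (hα : α ∈ E.autGroup T)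
    {φ : P →* Ω} (hφα : ∀ x : P, φ x = ((α ⟨x, hP.1 x.2⟩ : T) : Ω)) (hX : XX F T P φ) (hTS : T ≤ S) :
    α ∈ (XSys E F hTS).autGroup T := by
  have hF := hE.2.1
  have hinv := hE.2.2
  have hTc := hinv.2.1
  haveI : Finite T := finite_of_le hTS
  have hPT := hP.1
  have hTn := stronglyClosed_normal_S hTc
  obtain ⟨M₀, hM₀⟩ : ∃ M₀, T ⊔ centralizerIn S T = M₀ := ⟨_, rfl⟩
  have hTM₀ : T ≤ M₀ := hM₀ ▸ le_sup_left
  have hCM₀ : centralizerIn S T ≤ M₀ := hM₀ ▸ le_sup_right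
  have hM₀S : M₀ ≤ S := by rw [← hM₀]; exact sup_le hTS (cent_le S T)
  have hαF : α ∈ Iso F T T := hinv.1 _ ((mem_autGroup le_rfl).1 hα)
  have hM : M₀ ≤ extender S T (T.subtype.comp α.toMonoidHom) := by
    rw [← hM₀]
    exact sup_le (le_extender hTS fun x => hTS (α x).2) (centralizerIn_le_extender S _)
  obtain ⟨ψ, hψ, hψx⟩ := receptive_extend (receptive_strong hS hF hTc) hαF hM
  have hψM : ∀ x, ψ x ∈ M₀ := by
    rintro ⟨z, hz'⟩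
    have hz := hz'
    rw [← hM₀] at hz
    obtain ⟨t, ht, c, hc, rfl⟩ := sup_cent le_rfl hz
    have h1 : (⟨t * c, hz'⟩ : M₀) = ⟨t, hTM₀ ht⟩ * ⟨c, hCM₀ hc⟩ := rfl
    rw [h1, map_mul]
    exact M₀.mul_mem (hTM₀ ((stronglyClosed_mem_iff hTc hψ _).2 ht)) (hCM₀ (hom_cent hTc hTM₀ hψ hc _))
  obtain ⟨a, ha, hax⟩ := exists_aut_of_hom hψ hψM
  have haT : ∀ x (hx : x ∈ T) (hx' : x ∈ M₀), ((a ⟨x, hx'⟩ : M₀) : Ω) = α ⟨x, hx⟩ := fun x hx hx' => by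
    rw [hax]; exact hψx x hx hx'
  have haC : ∀ c (hc : c ∈ centralizerIn S T) (hc' : c ∈ M₀), ((a ⟨c, hc'⟩ : M₀) : Ω) ∈ centralizerIn S T := fun c hc hc' => by
    rw [hax]; exact hom_cent hTc hTM₀ hψ hc _
  obtain ⟨M, hM1⟩ : ∃ M, P ⊔ centralizerIn S T = M := ⟨_, rfl⟩
  obtain ⟨η, hη, hηP, hηC⟩ := (XX_iff hM1).1 hX
  have hPM : P ≤ M := hM1 ▸ le_sup_left
  have hCM : centralizerIn S T ≤ M := hM1 ▸ le_sup_right
  have hMM₀ : M ≤ M₀ := by rw [← hM1]; exact sup_le (hPT.trans hTM₀) hCM₀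
  have hMS := hMM₀.trans hM₀S
  have hφE : φ ∈ E.Hom P := restrict_mem' ((mem_autGroup le_rfl).1 hα) hPT hφα
  have hrc : E.IsCentric φ.range := centric_conj ⟨φ, hφE, rfl⟩ hP
  have hηr : ∀ c ∈ centralizerIn S T, c ∈ η.range := by
    intro c hc
    obtain ⟨s, hs⟩ := xx_mem hPT hφE (centric_centralizer_le hrc) hPM (fun x hx => hηP x hx _) hc (hCM hc) (hηC c hc _)
    refine ⟨⟨c, hCM hc⟩ * ⟨s, hPM s.2⟩⁻¹, ?_⟩
    rw [map_mul, map_inv, hηP s s.2, Subtype.coe_eta, hs]; group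
  have hηT : ∀ x : M, (x : Ω)⁻¹ * η x ∈ T := by
    rintro ⟨z, hz'⟩
    have hz := hz'
    rw [← hM1] at hz
    obtain ⟨x, hx, c, hc, rfl⟩ := sup_cent hPT hz
    have h1 : (⟨x * c, hz'⟩ : M) = ⟨x, hPM hx⟩ * ⟨c, hCM hc⟩ := rfl
    show (x * c)⁻¹ * η ⟨x * c, hz'⟩ ∈ T
    rw [h1, map_mul, hηP x hx]
    have h2 : (x * c)⁻¹ * (φ ⟨x, hx⟩ * η ⟨c, hCM hc⟩) = (c⁻¹ * (x⁻¹ * φ ⟨x, hx⟩) * c) * (c⁻¹ * η ⟨c, hCM hc⟩) := by group
    rw [h2]
    refine T.mul_mem ?_ (hηC c hc _)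
    have h3 := (Subgroup.mem_normalizer_iff.1 (hTn (S.inv_mem (cent_le S T hc))) (x⁻¹ * φ ⟨x, hx⟩)).1
      (T.mul_mem (T.inv_mem (hPT hx)) (mem_S hφE _))
    rwa [inv_inv] at h3
  have haM : (M₀.subtype.comp a.toMonoidHom).comp (Subgroup.inclusion hMM₀) ∈ F.Hom M :=
    restrict_mem ((mem_autGroup hM₀S).1 ha) hMM₀
  have har : ∀ x, ((M₀.subtype.comp a.toMonoidHom).comp (Subgroup.inclusion hMM₀)) x ∈ η.range := by
    rintro ⟨z, hz'⟩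
    have hz := hz'
    rw [← hM1] at hz
    obtain ⟨x, hx, c, hc, rfl⟩ := sup_cent hPT hz
    have h1 : (⟨x * c, hz'⟩ : M) = ⟨x, hPM hx⟩ * ⟨c, hCM hc⟩ := rfl
    rw [h1, map_mul]
    refine Subgroup.mul_mem _ ⟨⟨x, hPM hx⟩, ?_⟩ (hηr _ (haC c hc (hCM₀ hc)))
    rw [hηP x hx, hφα]
    exact (haT x (hPT hx) _).symm
  obtain ⟨κ, hκ, hκx⟩ := exists_quot hη haM har
  have hκx' : ∀ x (hx : x ∈ M) (hx' : x ∈ M₀), η (κ ⟨x, hx⟩) = ((a ⟨x, hx'⟩ : M₀) : Ω) := fun x hx hx' => hκx ⟨x, hx⟩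
  have hκP : ∀ (i : ℕ) x (_ : x ∈ P) (hx' : x ∈ M), (κ ^ i) ⟨x, hx'⟩ = ⟨x, hx'⟩ := by
    intro i x hx hx'
    have h0 : κ ⟨x, hx'⟩ = ⟨x, hx'⟩ := by
      apply inj hη
      rw [hκx' x hx' (hMM₀ hx'), haT x (hPT hx), hηP x hx, hφα]
    induction i with
    | zero => rfl
    | succ i ihi =>
      rw [pow_succ]
      show (κ ^ i) (κ ⟨x, hx'⟩) = _
      rw [h0, ihi]
  haveI : Finite M := finite_of_le hMS
  haveI : Finite (MulAut M) := Finite.of_injective _ DFunLike.coe_injective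
  obtain ⟨j, m, hm, hjm⟩ := Nat.exists_eq_pow_mul_and_not_dvd (orderOf_pos κ).ne' p hp.out.ne_one
  have hκm : (κ ^ p ^ j) ^ m = 1 := by rw [← pow_mul, ← hjm, pow_orderOf_eq_one]
  obtain ⟨lam, hlam, hlamT, hlamM⟩ := ext_full hS hF hinv hM₀ hm _ P rfl hP M hM1 (κ ^ p ^ j) (Subgroup.pow_mem _ hκ _)
    (hκP _) hκm
  have hstep : ∀ (i : ℕ) c (hc : c ∈ centralizerIn S T),
      (((κ ^ i) ⟨c, hCM hc⟩ : M) : Ω)⁻¹ * (((a ^ i) ⟨c, hCM₀ hc⟩ : M₀) : Ω) ∈ T := by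
    intro i
    induction i with
    | zero =>
      intro c hc
      show c⁻¹ * c ∈ T
      rw [inv_mul_cancel]; exact T.one_mem
    | succ i ihi =>
      intro c hc
      obtain ⟨c', hc'⟩ : ∃ c', ((a ⟨c, hCM₀ hc⟩ : M₀) : Ω) = c' := ⟨_, rfl⟩
      have hc'C : c' ∈ centralizerIn S T := hc' ▸ haC c hc _
      have h1 := ihi c' hc'C
      have h2 : ((κ ⟨c, hCM hc⟩ : M) : Ω)⁻¹ * c' ∈ T := by
        have h3 := hηT (κ ⟨c, hCM hc⟩)
        rw [hκx' c (hCM hc) (hCM₀ hc), hc'] at h3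
        exact h3
      have h3 : (((κ ⟨c, hCM hc⟩)⁻¹ * ⟨c', hCM hc'C⟩ : M) : Ω) ∈ T := h2
      have h4 := (stronglyClosed_aut hTc hMS (Subgroup.pow_mem _ hκ i) _).2 h3
      rw [map_mul, map_inv] at h4
      have h4' : (((κ ^ i) (κ ⟨c, hCM hc⟩) : M) : Ω)⁻¹ * (((κ ^ i) ⟨c', hCM hc'C⟩ : M) : Ω) ∈ T := h4
      have h5 : (κ ^ (i + 1)) ⟨c, hCM hc⟩ = (κ ^ i) (κ ⟨c, hCM hc⟩) := by rw [pow_succ]; rfl
      have h6 : (a ^ (i + 1)) ⟨c, hCM₀ hc⟩ = (a ^ i) ⟨c', hCM₀ hc'C⟩ := by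
        rw [pow_succ]
        show (a ^ i) (a ⟨c, _⟩) = _
        congr 1
        exact Subtype.ext hc'
      rw [h5, h6]
      have h7 := T.mul_mem h4' h1
      rwa [mul_assoc, mul_inv_cancel_left] at h7
  have hpow : α ^ p ^ j ∈ (XSys E F hTS).autGroup T := by
    rw [mem_autGroup le_rfl, mem_iso, mem_XSys]
    refine ⟨(mem_autGroup le_rfl).1 (Subgroup.pow_mem _ hα _), fun _ => ?_⟩
    rw [XX_iff hM₀]
    have hb : lam⁻¹ * a ^ p ^ j ∈ F.autGroup M₀ := Subgroup.mul_mem _ (Subgroup.inv_mem _ hlam) (Subgroup.pow_mem _ ha _)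
    refine ⟨_, (mem_autGroup hM₀S).1 hb, fun x hx hx' => ?_, fun c hc hc' => ?_⟩
    · show ((lam⁻¹ ((a ^ p ^ j) ⟨x, hx'⟩) : M₀) : Ω) = (((α ^ p ^ j) ⟨x, hx⟩ : T) : Ω)
      have hai : ∀ i : ℕ, (a ^ i) ⟨x, hx'⟩ = ⟨((α ^ i) ⟨x, hx⟩ : T), hTM₀ ((α ^ i) ⟨x, hx⟩).2⟩ := by
        intro i
        induction i with
        | zero => rfl
        | succ i ihi =>
          have e1 : (a ^ (i + 1)) ⟨x, hx'⟩ = a ((a ^ i) ⟨x, hx'⟩) := by rw [pow_succ']; rfl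
          have e2 : (α ^ (i + 1)) ⟨x, hx⟩ = α ((α ^ i) ⟨x, hx⟩) := by rw [pow_succ']; rfl
          apply Subtype.ext
          rw [e1, ihi]
          show _ = (((α ^ (i + 1)) ⟨x, hx⟩ : T) : Ω)
          rw [e2]
          exact haT _ ((α ^ i) ⟨x, hx⟩).2 _
      rw [hai]
      have h2 := hlamT _ ((α ^ p ^ j) ⟨x, hx⟩).2 (hTM₀ ((α ^ p ^ j) ⟨x, hx⟩).2)
      have h3 : lam⁻¹ (⟨((α ^ p ^ j) ⟨x, hx⟩ : T), hTM₀ ((α ^ p ^ j) ⟨x, hx⟩).2⟩ : M₀) =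
          ⟨((α ^ p ^ j) ⟨x, hx⟩ : T), hTM₀ ((α ^ p ^ j) ⟨x, hx⟩).2⟩ := by
        conv_lhs => rw [← h2]
        rw [MulAut.inv_apply_self]
      rw [h3]
    · show c⁻¹ * ((lam⁻¹ ((a ^ p ^ j) ⟨c, hc'⟩) : M₀) : Ω) ∈ T
      have h1 := hstep (p ^ j) c hc
      rw [← hlamM c (hCM hc) (hCM₀ hc)] at h1
      have h2 : (((lam ⟨c, hCM₀ hc⟩)⁻¹ * (a ^ p ^ j) ⟨c, hCM₀ hc⟩ : M₀) : Ω) ∈ T := h1
      have h3 := (stronglyClosed_aut hTc hM₀S (Subgroup.inv_mem _ hlam) _).2 h2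
      rw [map_mul, map_inv, MulAut.inv_apply_self] at h3
      exact h3
  haveI : Finite (MulAut T) := Finite.of_injective _ DFunLike.coe_injective
  refine root_of_sylow (orderOf_pos α).ne' (fun i hi => ?_) hpow
  obtain ⟨l, hl⟩ := hi
  rw [mem_autGroup le_rfl, mem_iso, mem_XSys]
  exact ⟨(mem_autGroup le_rfl).1 (Subgroup.pow_mem _ hα _),
    fun _ => opP_XX hS hE (self_centric E) (Subgroup.pow_mem _ hα _) hl⟩

theorem residual_normal [Finite S] {p : ℕ} [hp : Fact p.Prime] (hS : IsPGroup p S) {F : FusionSystem S} {E : FusionSystem T}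
    (hE : E.IsWeaklyNormalIn F p) {D : FusionSystem T} (hD : E.IsPPrimeResidual p D) : D.IsNormalIn F p := by
  have hEs := hE.1
  have hF := hE.2.1
  have hinv := hE.2.2
  have hTc := hinv.2.1
  have hTS : T ≤ S := hTc.1
  haveI : Finite T := finite_of_le hTS
  have hT := hS.to_le hTS
  have hDP : PPc E p D := ⟨hD.2.1.1, fun P hP => hD.2.1.2 P hP.1⟩
  have hE1 := inv_rst hinv
  have hconj : ∀ γ ∈ F.autGroup T, D ≤ conjSys D γ := by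
    intro γ hγ
    have hγ1 : γ ∈ (rstSys F hTc.1).autGroup T := (rst_autGroup hTc).2 hγ
    have h1 := conjSys_PPc_inv hE1 hDP hγ1
    have hsat : (conjSys D γ).IsSaturated p := by
      refine saturated_of_surjective hT hD.1 (α := T.subtype.comp γ.toMonoidHom) ?_
      refine factor_surjective hT hD.1 (stronglyClosed_bot D) (factSys_is D _ (conj_bot γ) (conj_range γ) bot_le fun s => ?_)
      rw [Subgroup.mem_bot]
      constructor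
      · intro h
        have h2 : γ s = 1 := Subtype.ext h
        have h3 : s = 1 := by rw [← map_one γ] at h2; exact γ.injective h2
        rw [h3]; rfl
      · intro h
        have h3 : s = 1 := Subtype.ext h
        rw [h3, map_one]
    exact hD.2.2 _ hsat ⟨h1.1, fun P hP => pp_all hT hEs h1 hP⟩
  have hainv : AutInvK D (F.autGroup T) := autInv_of_conj hconj
  have hAE : E.autGroup T ≤ F.autGroup T := by
    intro α hα
    rw [mem_autGroup le_rfl] at hα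
    rw [mem_autGroup hTS]
    exact hinv.1 _ hα
  have hwn : D.IsWeaklyNormalIn F p := by
    refine ⟨hD.1, hF, fun P φ hφ => hinv.1 _ (hDP.1 _ hφ), hTc, hainv, fun P hP φ hφ => ?_⟩
    obtain ⟨α, hα, φ₀, hφ₀, hx⟩ := hinv.2.2.2 P hP φ hφ
    obtain ⟨β, hβ, φ₁, hφ₁, hy⟩ := pp_decomp hT hEs hDP hφ₀
    refine ⟨α * β, Subgroup.mul_mem _ hα (hAE hβ), φ₁, hφ₁, fun x hx1 => ?_⟩
    rw [hx x (mem_S hφ₀ x)]
    show _ = ((α (β ⟨φ₁ x, hx1⟩) : T) : Ω)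
    congr 2
    exact Subtype.ext (hy x hx1)
  refine ⟨hwn, fun α hα => ?_⟩
  have hX : PPc E p (XSys E F hTS) := by
    refine ⟨fun P φ hφ => hφ.1, fun P hP => ?_⟩
    rw [OpP_eq, Subgroup.closure_le]
    rintro τ ⟨hτ, k, hk⟩
    show τ ∈ (XSys E F hTS).autGroup P
    rw [mem_autGroup hP.1, mem_iso, mem_XSys]
    exact ⟨(mem_autGroup hP.1).1 hτ, fun _ => opP_XX hS hE hP hτ hk⟩
  have hmin : ppMin E p ≤ XSys E F hTS := ppMin_le hX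
  have hPinv := ppMin_autInv (p := p) hE1
  have hKE : (XSys E F hTS).autGroup T ≤ E.autGroup T := by
    intro β hβ
    rw [mem_autGroup le_rfl] at hβ ⊢
    exact hβ.1
  have hinvK : AutInvK (ppMin E p) ((XSys E F hTS).autGroup T) := fun P hP φ hφ β hβ =>
    hPinv P hP φ hφ β ((rst_autGroup hTc).2 (hAE (hKE hβ)))
  have hcg : CG E (facKSys (ppMin E p) ((XSys E F hTS).autGroup T) hinvK) p := by
    refine cg_facK hT hEs (ppMin_PPc E p) hKE hinvK (fun E' h => ppMin_gen E' h) fun B hB γ hγ φ hφ hφγ => ?_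
    exact key_XX hS hE hB hγ (fun x => hφγ x x.2 _) ((hmin B hφ).2 hB) hTS
  have hsat := cg_saturated hT hEs hcg
  have hle := hD.2.2 _ hsat ⟨hcg.pp.1, fun P hP => pp_all hT hEs hcg.pp hP⟩
  have hαK : α ∈ (XSys E F hTS).autGroup T := by
    have h1 : (ppMin E p).autGroup T ≤ (XSys E F hTS).autGroup T := by
      intro β hβ
      rw [mem_autGroup le_rfl] at hβ ⊢
      exact hmin T hβ
    refine facK_aut_le (hinv := hinvK) h1 ?_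
    rw [mem_autGroup le_rfl] at hα ⊢
    exact hle T hα
  rw [mem_autGroup le_rfl, mem_iso, mem_XSys] at hαK
  obtain ⟨ψ, hψ, hψT, hψC⟩ := hαK.2 (self_centric E)
  have hψM : ∀ x, ψ x ∈ T ⊔ centralizerIn S T := by
    rintro ⟨z, hz⟩
    obtain ⟨t, ht, c, hc, rfl⟩ := sup_cent le_rfl hz
    have h1 : (⟨t * c, hz⟩ : ↥(T ⊔ centralizerIn S T)) = ⟨t, Subgroup.mem_sup_left ht⟩ * ⟨c, Subgroup.mem_sup_right hc⟩ := rfl
    rw [h1, map_mul]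
    exact Subgroup.mul_mem _ (Subgroup.mem_sup_left ((stronglyClosed_mem_iff hTc hψ _).2 ht))
      (Subgroup.mem_sup_right (hom_cent hTc le_sup_left hψ hc _))
  obtain ⟨β, hβ, hβx⟩ := exists_aut_of_hom hψ hψM
  refine ⟨β, hβ, fun x => ?_, fun c hc => ?_⟩
  · rw [hβx]
    exact hψT x x.2 _
  · rw [hβx]
    refine ⟨hψC c hc c.2, ?_⟩
    have h1 : (c : Ω)⁻¹ * ψ c ∈ centralizerIn S T :=
      Subgroup.mul_mem _ (Subgroup.inv_mem _ hc) (hom_cent hTc le_sup_left hψ hc c.2)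
    exact (Subgroup.mem_inf.1 h1).2

end CfsgLib.Fus21
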