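import Cfsg.Agent.LibFus21Ph3



set_option autoImplicit false

/-! Normal subsystems defined by characters of `Aut_F(T)`. -/

namespace CfsgLib.Fus21

open Cfsg Cfsg.FusionSystem

universe u

variable {Ω : Type u} [Group Ω] {S T : Subgroup Ω}

theorem mem_amapK {P : Subgroup Ω} {α : MulAut T} {y : Ω} :
    y ∈ (P.subgroupOf T).map (T.subtype.comp α.toMonoidHom) ↔ ∃ x, ∃ hx : x ∈ T, x ∈ P ∧ ((α ⟨x, hx⟩ : T) : Ω) = y := by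
  constructor
  · rintro ⟨x, hx, rfl⟩; exact ⟨x, x.2, hx, rfl⟩
  · rintro ⟨x, hx, hxP, rfl⟩; exact ⟨⟨x, hx⟩, hxP, rfl⟩

/-- invariance under a group of automorphisms -/
def AutInvK (E : FusionSystem T) (K : Subgroup (MulAut T)) : Prop :=
  ∀ (P : Subgroup Ω) (hPT : P ≤ T) (φ : P →* Ω), φ ∈ E.Hom P → ∀ α ∈ K,
    ∃ χ ∈ E.Hom ((P.subgroupOf T).map (T.subtype.comp α.toMonoidHom)),
      ∀ (x : P) (hφx : φ x ∈ T)
        (hαx : ((α ⟨x, hPT x.2⟩ : T) : Ω) ∈ (P.subgroupOf T).map (T.subtype.comp α.toMonoidHom)),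
        χ ⟨(α ⟨x, hPT x.2⟩ : T), hαx⟩ = ((α ⟨φ x, hφx⟩ : T) : Ω)

/-- the maps which factor -/
def facKHom (E : FusionSystem T) (K : Subgroup (MulAut T)) (P : Subgroup Ω) : Set (P →* Ω) :=
  {φ | P ≤ T ∧ (∀ x : P, φ x ∈ T) ∧ ∃ α ∈ K, ∃ φ₀ ∈ E.Hom P, ∀ (x : P) (hx : φ₀ x ∈ T), φ x = ((α ⟨φ₀ x, hx⟩ : T) : Ω)}

def facKSys (E : FusionSystem T) (K : Subgroup (MulAut T)) (hinv : AutInvK E K) : FusionSystem T where
  Hom P := facKHom E K P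
  le_of_mem h := ⟨h.1, h.2.1⟩
  injective_of_mem := by
    rintro P φ ⟨h1, h2, α, hα, φ₀, hφ₀, h3⟩ x y hxy
    rw [h3 x (mem_S hφ₀ x), h3 y (mem_S hφ₀ y)] at hxy
    have h4 := α.injective (Subtype.ext hxy)
    exact inj hφ₀ (congrArg Subtype.val h4)
  conj_mem := by
    intro P g hP hg
    refine ⟨hP, fun x => T.mul_mem (T.mul_mem hg (hP x.2)) (T.inv_mem hg), 1, Subgroup.one_mem _, _, E.conj_mem hP hg, fun x hx => rfl⟩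
  comp_mem := by
    rintro P Q φ ψ ⟨hP, hφT, α, hα, φ₀, hφ₀, hφ⟩ ⟨hQ, hψT, β, hβ, ψ₀, hψ₀, hψ⟩ h
    refine ⟨hP, fun x => hψT _, β * α, Subgroup.mul_mem _ hβ hα, ?_⟩
    obtain ⟨χ, hχ, hχx⟩ := hinv Q hQ ψ₀ hψ₀ α⁻¹ (Subgroup.inv_mem _ hα)
    have hmem : ∀ x : P, φ₀ x ∈ (Q.subgroupOf T).map (T.subtype.comp (α⁻¹).toMonoidHom) := by
      intro x
      rw [mem_amapK]
      refine ⟨φ x, hφT x, h x, ?_⟩
      have h1 := hφ x (mem_S hφ₀ x)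
      have h2 : (⟨φ x, hφT x⟩ : T) = α ⟨φ₀ x, mem_S hφ₀ x⟩ := Subtype.ext h1
      rw [h2, MulAut.inv_apply_self]
    refine ⟨_, E.comp_mem hφ₀ hχ hmem, fun x hx => ?_⟩
    show ψ ⟨φ x, h x⟩ = ((β (α ⟨χ ⟨φ₀ x, hmem x⟩, _⟩) : T) : Ω)
    have h2 : (⟨φ x, hφT x⟩ : T) = α ⟨φ₀ x, mem_S hφ₀ x⟩ := Subtype.ext (hφ x (mem_S hφ₀ x))
    have h3 : ((α⁻¹ ⟨φ x, hφT x⟩ : T) : Ω) = φ₀ x := by rw [h2, MulAut.inv_apply_self]
    have h4 := hχx ⟨φ x, h x⟩ (mem_S hψ₀ _) (by rw [show (⟨((⟨φ x, h x⟩ : Q) : Ω), hQ (h x)⟩ : T) = ⟨φ x, hφT x⟩ from rfl, h3]; exact hmem x)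
    have h5 : χ ⟨φ₀ x, hmem x⟩ = ((α⁻¹ ⟨ψ₀ ⟨φ x, h x⟩, mem_S hψ₀ _⟩ : T) : Ω) := by
      rw [← h4]
      congr 1
      exact Subtype.ext h3.symm
    have h6 : (⟨χ ⟨φ₀ x, hmem x⟩, mem_S hχ _⟩ : T) = α⁻¹ ⟨ψ₀ ⟨φ x, h x⟩, mem_S hψ₀ _⟩ := Subtype.ext h5
    rw [hψ ⟨φ x, h x⟩ (mem_S hψ₀ _), h6, MulAut.apply_inv_self]
  inv_mem := by
    rintro P φ ⟨hP, hφT, α, hα, φ₀, hφ₀, hφ⟩
    obtain ⟨ψ, hψ, hψx⟩ := E.inv_mem hφ₀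
    have hr : φ₀.range ≤ T := range_le hφ₀
    obtain ⟨χ, hχ, hχx⟩ := hinv _ hr ψ hψ α hα
    have hmem : ∀ y : φ.range, (y : Ω) ∈ (φ₀.range.subgroupOf T).map (T.subtype.comp α.toMonoidHom) := by
      rintro ⟨_, x, rfl⟩
      rw [mem_amapK]
      exact ⟨φ₀ x, mem_S hφ₀ x, ⟨x, rfl⟩, (hφ x _).symm⟩
    have hle : φ.range ≤ (φ₀.range.subgroupOf T).map (T.subtype.comp α.toMonoidHom) := fun y hy => hmem ⟨y, hy⟩
    have hχ' : χ.comp (Subgroup.inclusion hle) ∈ E.Hom φ.range := restrict_mem hχ hle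
    have hval : ∀ x : P, χ ⟨φ x, hle ⟨x, rfl⟩⟩ = ((α ⟨x, hP x.2⟩ : T) : Ω) := by
      intro x
      have h4 := hχx ⟨φ₀ x, ⟨x, rfl⟩⟩ (by rw [hψx]; exact hP x.2) (by
        rw [mem_amapK]; exact ⟨φ₀ x, mem_S hφ₀ x, ⟨x, rfl⟩, rfl⟩)
      have h5 : (⟨φ x, hle ⟨x, rfl⟩⟩ : ↥((φ₀.range.subgroupOf T).map (T.subtype.comp α.toMonoidHom))) =
        ⟨((α ⟨φ₀ x, mem_S hφ₀ x⟩ : T) : Ω), by rw [mem_amapK]; exact ⟨φ₀ x, mem_S hφ₀ x, ⟨x, rfl⟩, rfl⟩⟩ := Subtype.ext (hφ x _)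
      rw [h5]
      refine h4.trans ?_
      congr 2
      exact Subtype.ext (hψx x)
    have hχT : ∀ y : φ.range, χ ⟨y, hle y.2⟩ ∈ T := fun y => mem_S hχ _
    refine ⟨T.subtype.comp ((α⁻¹ : MulAut T).toMonoidHom.comp ((χ.comp (Subgroup.inclusion hle)).codRestrict T hχT)), ?_, ?_⟩
    · refine ⟨?_, fun y => (α⁻¹ _ : T).2, α⁻¹, Subgroup.inv_mem _ hα, _, hχ', fun y hy => rfl⟩
      rintro _ ⟨x, rfl⟩; exact hφT x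
    · intro x
      show ((α⁻¹ ⟨χ ⟨φ x, _⟩, _⟩ : T) : Ω) = x
      have : (⟨χ ⟨φ x, hle ⟨x, rfl⟩⟩, hχT ⟨φ x, ⟨x, rfl⟩⟩⟩ : T) = α ⟨x, hP x.2⟩ := Subtype.ext (hval x)
      rw [this, MulAut.inv_apply_self]


theorem mem_facKSys {E : FusionSystem T} {K : Subgroup (MulAut T)} {hinv : AutInvK E K} {P : Subgroup Ω} {φ : P →* Ω} :
    φ ∈ (facKSys E K hinv).Hom P ↔ P ≤ T ∧ (∀ x : P, φ x ∈ T) ∧ ∃ α ∈ K, ∃ φ₀ ∈ E.Hom P,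
      ∀ (x : P) (hx : φ₀ x ∈ T), φ x = ((α ⟨φ₀ x, hx⟩ : T) : Ω) := Iff.rfl

theorem inv_centric {F : FusionSystem S} {E : FusionSystem T} (hinv : E.IsInvariantIn F) {A B : Subgroup Ω}
    (hA : E.IsCentric A) (hAB : F.IsConj A B) : E.IsCentric B := by
  have hAT := hA.1
  have key : ∀ φ ∈ F.Hom A, ∀ c ∈ centralizerIn T φ.range, c ∈ φ.range := by
    intro φ hφ c hc
    obtain ⟨α, hα, φ₀, hφ₀, hx⟩ := hinv.2.2.2 A hAT φ hφ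
    obtain ⟨hcT, hc2⟩ := mem_centralizerIn'.1 hc
    have h2 : (((α⁻¹ : MulAut T) ⟨c, hcT⟩ : T) : Ω) ∈ centralizerIn T φ₀.range := by
      rw [mem_centralizerIn']
      refine ⟨((α⁻¹ : MulAut T) _).2, ?_⟩
      rintro _ ⟨x, rfl⟩
      have h3 : c * φ x * c⁻¹ = φ x := hc2 (φ x) ⟨x, rfl⟩
      have h4 : (⟨c, hcT⟩ : T) * α ⟨φ₀ x, mem_S hφ₀ x⟩ * (⟨c, hcT⟩ : T)⁻¹ = α ⟨φ₀ x, mem_S hφ₀ x⟩ := by
        apply Subtype.ext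
        have h5 := hx x (mem_S hφ₀ x)
        rw [h5] at h3
        exact h3
      have h6 := congrArg (α⁻¹ : MulAut T) h4
      rw [map_mul, map_mul, map_inv, MulAut.inv_apply_self] at h6
      exact congrArg Subtype.val h6
    obtain ⟨x, hx2⟩ := hA.2 φ₀.range ⟨φ₀, hφ₀, rfl⟩ h2
    refine ⟨x, ?_⟩
    rw [hx x (mem_S hφ₀ x)]
    have h7 : (⟨φ₀ x, mem_S hφ₀ x⟩ : T) = (α⁻¹ : MulAut T) ⟨c, hcT⟩ := Subtype.ext hx2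
    rw [h7, MulAut.apply_inv_self]
  refine ⟨?_, fun Q hQ => ?_⟩
  · obtain ⟨φ, hφ, rfl⟩ := hAB
    rintro _ ⟨x, rfl⟩
    exact hinv.2.1.2 A hAT φ hφ x
  · obtain ⟨f, hf⟩ := isConj_iff.1 hQ
    obtain ⟨φ, hφ, hr⟩ := conj_trans hAB (isConj_iff.2 ⟨f, hinv.1 _ hf⟩)
    rw [← hr]
    exact key φ hφ

theorem pow_decomp {F : FusionSystem S} {E : FusionSystem T} (hinv : E.IsInvariantIn F) {N : Subgroup Ω} (hN : N ≤ T)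
    {θ : MulAut N} {δ : MulAut T} (hδ : δ ∈ F.autGroup T) {φ : N →* Ω} (hφ : φ ∈ E.Hom N)
    (h : ∀ x : N, ((θ x : N) : Ω) = ((δ ⟨φ x, mem_S hφ x⟩ : T) : Ω)) (m : ℕ) :
    ∃ φm, ∃ hm : φm ∈ E.Hom N, ∀ x : N, (((θ ^ m) x : N) : Ω) = (((δ ^ m) ⟨φm x, mem_S hm x⟩ : T) : Ω) := by
  induction m with
  | zero => exact ⟨N.subtype, incl_mem E hN, fun x => rfl⟩
  | succ m ih =>
    obtain ⟨φm, hm, hmv⟩ := ih
    obtain ⟨χ, hχ, hχv⟩ := hinv.2.2.1 N hN φm hm δ⁻¹ (Subgroup.inv_mem _ hδ)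
    have hφθ : ∀ y : N, φ y = (((δ⁻¹ : MulAut T) ⟨θ y, hN (θ y).2⟩ : T) : Ω) := by
      intro y
      have h1 : (⟨θ y, hN (θ y).2⟩ : T) = δ ⟨φ y, mem_S hφ y⟩ := Subtype.ext (h y)
      rw [h1, MulAut.inv_apply_self]
    have hmem : ∀ y : N, φ y ∈ (N.subgroupOf T).map (T.subtype.comp (δ⁻¹ : MulAut T).toMonoidHom) := by
      intro y
      rw [mem_amapK]
      exact ⟨θ y, hN (θ y).2, (θ y).2, (hφθ y).symm⟩
    refine ⟨_, E.comp_mem hφ hχ hmem, fun y => ?_⟩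
    have h1 : (θ ^ (m + 1)) y = (θ ^ m) (θ y) := by rw [pow_succ]; rfl
    have h2 : ∀ z : T, (δ ^ (m + 1)) z = (δ ^ m) (δ z) := fun z => by rw [pow_succ]; rfl
    rw [h1, hmv, h2]
    congr 2
    have h3 := hχv (θ y) (mem_S hm _) (by
      have := hmem y
      rw [hφθ] at this
      exact this)
    have h4 : (⟨(((δ⁻¹ : MulAut T) ⟨θ y, hN (θ y).2⟩ : T) : Ω), by
        have := hmem y
        rw [hφθ] at this
        exact this⟩ : ↥((N.subgroupOf T).map (T.subtype.comp (δ⁻¹ : MulAut T).toMonoidHom))) = ⟨φ y, hmem y⟩ :=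
      Subtype.ext (hφθ y).symm
    rw [h4] at h3
    have h5 : (⟨χ ⟨φ y, hmem y⟩, mem_S hχ _⟩ : T) = (δ⁻¹ : MulAut T) ⟨φm (θ y), mem_S hm _⟩ := Subtype.ext h3
    show _ = δ ⟨χ ⟨φ y, hmem y⟩, mem_S hχ _⟩
    rw [h5, MulAut.apply_inv_self]

/-- the kernel of a `p'`-character of `Aut_F(T)` containing `Aut_E(T)` -/
structure KD (p : ℕ) (F : FusionSystem S) (E : FusionSystem T) (K : Subgroup (MulAut T)) : Prop where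
  le : K ≤ F.autGroup T
  nor : ∀ a ∈ F.autGroup T, ∀ b ∈ K, a * b * a⁻¹ ∈ K
  aut : E.autGroup T ≤ K
  root : ∀ a ∈ F.autGroup T, ∀ k : ℕ, a ^ p ^ k ∈ K → a ∈ K

theorem kd_mem [Finite S] {p : ℕ} [hp : Fact p.Prime] (hS : IsPGroup p S) {F : FusionSystem S} {E : FusionSystem T}
    (hE : E.IsWeaklyNormalIn F p) {K : Subgroup (MulAut T)} (hK : KD p F E K) :
    ∀ (n : ℕ) (A : Subgroup Ω), Nat.card T - Nat.card A = n → E.IsCentric A → ∀ γ ∈ F.autGroup T, ∀ φ ∈ E.Hom A,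
      (∀ x (hx : x ∈ A) (hT : x ∈ T), φ ⟨x, hx⟩ = ((γ ⟨x, hT⟩ : T) : Ω)) → γ ∈ K := by
  obtain ⟨hEs, hF, hinv⟩ := hE
  have hTS : T ≤ S := hinv.2.1.1
  haveI : Finite T := finite_of_le hTS
  intro n
  induction n using Nat.strong_induction_on with
  | _ n ih =>
  intro A hn hA γ hγ φ hφ hφγ
  have hAT := hA.1
  by_cases hAT' : A = T
  · refine hK.aut (aut_mem_of_hom (restrict_mem hφ hAT'.ge) fun x => ?_)
    exact (hφγ x (hAT'.ge x.2) x.2).symm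
  have hlt : A < T := lt_of_le_of_ne hAT hAT'
  obtain ⟨N, hN⟩ : ∃ N, T ⊓ Subgroup.normalizer (A : Set Ω) = N := ⟨_, rfl⟩
  have hAN : A < N := hN ▸ lt_normalizer_inf (hS.to_le hTS) hlt
  have hNT : N ≤ T := hN ▸ inf_le_left
  have hNn : ∀ g ∈ N, g ∈ Subgroup.normalizer (A : Set Ω) := by
    intro g hg; rw [← hN] at hg; exact hg.2
  haveI : Finite N := finite_of_le hNT
  haveI : Finite A := finite_of_le hAT
  have hcN : Nat.card A < Nat.card N := lt_of_le_of_ne (Subgroup.card_le_of_le hAN.le) fun h =>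
    hAN.ne (Subgroup.eq_of_le_of_card_ge hAN.le h.ge)
  have hcNT : Nat.card N ≤ Nat.card T := Subgroup.card_le_of_le hNT
  have hNc : E.IsCentric N := centric_mono hAN.le hNT hA
  obtain ⟨e, he, hev⟩ := exists_iso hφ rfl
  have hA'c : E.IsCentric φ.range := centric_conj ⟨φ, hφ, rfl⟩ hA
  have hrec := sat_fc_receptive (hS.to_le hTS) hEs (centric_fc hA'c)
  have hext : N ≤ extender T A (φ.range.subtype.comp e.toMonoidHom) := by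
    intro g hg
    rw [mem_extender]
    refine ⟨hNT hg, hNn g hg, γ ⟨g, hNT hg⟩, (γ _).2, fun x hx => ?_⟩
    show ((e ⟨g * x * g⁻¹, hx⟩ : φ.range) : Ω) = (γ ⟨g, hNT hg⟩ : T) * (e x : φ.range) * ((γ ⟨g, hNT hg⟩ : T) : Ω)⁻¹
    rw [hev, hev, hφγ _ hx (hAT hx), show φ x = φ ⟨x, x.2⟩ from rfl, hφγ _ x.2 (hAT x.2)]
    have h1 : (⟨g * x * g⁻¹, hAT hx⟩ : T) = ⟨g, hNT hg⟩ * ⟨x, hAT x.2⟩ * ⟨g, hNT hg⟩⁻¹ := rfl
    rw [h1, map_mul, map_mul, map_inv]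
    rfl
  obtain ⟨ζ, hζ, hζe⟩ := receptive_extend hrec he hext
  have hζγ : ∀ x (hx : x ∈ A), ζ ⟨x, hAN.le hx⟩ = ((γ ⟨x, hAT hx⟩ : T) : Ω) := fun x hx => by
    rw [hζe x hx, hev, hφγ]
  have hγi : (γ⁻¹ : MulAut T) ∈ F.autGroup T := Subgroup.inv_mem _ hγ
  have hθ0 := F.comp_mem (hinv.1 _ hζ) ((mem_autGroup hTS).1 hγi) (fun x => mem_S hζ x)
  obtain ⟨θ0, hθ0d⟩ : ∃ θ0, (T.subtype.comp (γ⁻¹ : MulAut T).toMonoidHom).comp (ζ.codRestrict T fun x => mem_S hζ x) = θ0 := ⟨_, rfl⟩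
  have hθ0v : ∀ x : N, θ0 x = (((γ⁻¹ : MulAut T) ⟨ζ x, mem_S hζ x⟩ : T) : Ω) := fun x => by rw [← hθ0d]; rfl
  have hθ0F : θ0 ∈ F.Hom N := hθ0d ▸ hθ0
  have hid : ∀ x (hx : x ∈ A), θ0 ⟨x, hAN.le hx⟩ = x := by
    intro x hx
    rw [hθ0v]
    have h1 : (⟨ζ ⟨x, hAN.le hx⟩, mem_S hζ _⟩ : T) = γ ⟨x, hAT hx⟩ := Subtype.ext (hζγ x hx)
    rw [h1, MulAut.inv_apply_self]
  have hθT : ∀ x, θ0 x ∈ T := fun x => by rw [hθ0v]; exact ((γ⁻¹ : MulAut T) _).2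
  have hc : ∀ g : N, (g : Ω)⁻¹ * θ0 g ∈ A := by
    intro g
    apply centric_centralizer_le hA
    rw [mem_centralizerIn']
    refine ⟨T.mul_mem (T.inv_mem (hNT g.2)) (hθT g), fun x hx => ?_⟩
    have hgx : (g : Ω) * x * (g : Ω)⁻¹ ∈ A := (Subgroup.mem_normalizer_iff.1 (hNn g g.2) x).1 hx
    have h1 := hid _ hgx
    have h2 : (⟨(g : Ω) * x * (g : Ω)⁻¹, hAN.le hgx⟩ : N) = g * ⟨x, hAN.le hx⟩ * g⁻¹ := rfl
    rw [h2, map_mul, map_mul, map_inv, hid x hx] at h1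
    calc (g : Ω)⁻¹ * θ0 g * x * ((g : Ω)⁻¹ * θ0 g)⁻¹ = (g : Ω)⁻¹ * (θ0 g * x * (θ0 g)⁻¹) * g := by group
      _ = x := by rw [h1]; group
  have hθN : ∀ x, θ0 x ∈ N := by
    intro g
    have h1 : θ0 g = g * ((g : Ω)⁻¹ * θ0 g) := by group
    rw [h1]
    exact N.mul_mem g.2 (hAN.le (hc g))
  obtain ⟨θ, hθ, hθv⟩ := exists_aut_of_hom hθ0F hθN
  obtain ⟨k, hk⟩ := IsPGroup.iff_card.1 (hS.to_le (hAT.trans hTS))
  have hθpow : ∀ (j : ℕ) (g : N), (((θ ^ j) g : N) : Ω) = g * ((g : Ω)⁻¹ * θ0 g) ^ j := by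
    intro j
    induction j with
    | zero => intro g; simp
    | succ j ihj =>
      intro g
      have h1 : (θ ^ (j + 1)) g = (θ ^ j) (θ g) := by rw [pow_succ]; rfl
      rw [h1, ihj (θ g)]
      have h2 : ((θ g : N) : Ω)⁻¹ * θ0 (θ g) = (g : Ω)⁻¹ * θ0 g := by
        have h3 : θ g = g * ⟨(g : Ω)⁻¹ * θ0 g, hAN.le (hc g)⟩ := by
          apply Subtype.ext
          rw [hθv]
          show θ0 g = g * ((g : Ω)⁻¹ * θ0 g)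
          group
        have h4 : θ0 (θ g) = θ0 g * ((g : Ω)⁻¹ * θ0 g) := by
          conv_lhs => rw [h3]
          rw [map_mul, hid _ (hc g)]
        rw [h4, hθv]; group
      rw [h2, hθv, pow_succ', ← mul_assoc (g : Ω)]
      congr 1
      group
  have hθ1 : θ ^ p ^ k = 1 := by
    apply MulEquiv.ext
    intro g
    apply Subtype.ext
    rw [hθpow, ← hk]
    have h1 : (⟨(g : Ω)⁻¹ * θ0 g, hc g⟩ : A) ^ Nat.card A = 1 := pow_card_eq_one'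
    have h2 : ((g : Ω)⁻¹ * θ0 g) ^ Nat.card A = 1 := congrArg Subtype.val h1
    rw [h2, mul_one]
    rfl
  obtain ⟨δ, hδ, φ₁, hφ₁, hδφ⟩ := hinv.2.2.2 N hNT θ0 hθ0F
  have hδφ' : ∀ x : N, ((θ x : N) : Ω) = ((δ ⟨φ₁ x, mem_S hφ₁ x⟩ : T) : Ω) := fun x => by
    rw [hθv]; exact hδφ x _
  obtain ⟨φm, hm, hmv⟩ := pow_decomp hinv hNT hδ hφ₁ hδφ' (p ^ k)
  have hδm : ((δ ^ p ^ k)⁻¹ : MulAut T) ∈ K := by
    refine ih (Nat.card T - Nat.card N) (by omega) N rfl hNc _ (Subgroup.inv_mem _ (Subgroup.pow_mem _ hδ _)) φm hm ?_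
    intro x hx hxT
    have h1 := hmv ⟨x, hx⟩
    rw [hθ1] at h1
    have h2 : (⟨x, hxT⟩ : T) = (δ ^ p ^ k) ⟨φm ⟨x, hx⟩, mem_S hm _⟩ := Subtype.ext h1
    rw [h2, MulAut.inv_apply_self]
  have hδK : δ ∈ K := hK.root δ hδ k (by
    have := K.inv_mem hδm
    rwa [inv_inv] at this)
  obtain ⟨ρ, hρ, hρv⟩ := E.inv_mem hφ₁
  have hρN : ∀ y, ρ y ∈ N := by
    rintro ⟨_, x, rfl⟩
    rw [hρv]; exact x.2
  have hBc : E.IsCentric φ₁.range := centric_conj ⟨φ₁, hφ₁, rfl⟩ hNc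
  have hcB : Nat.card φ₁.range = Nat.card N := (Nat.card_congr (MonoidHom.ofInjective (inj hφ₁)).toEquiv).symm
  have hγδ : γ * δ ∈ K := by
    refine ih (Nat.card T - Nat.card φ₁.range) (by omega) φ₁.range rfl hBc _ (Subgroup.mul_mem _ hγ hδ) _
      (E.comp_mem hρ hζ hρN) ?_
    rintro _ ⟨x, rfl⟩ hT
    show ζ ⟨ρ ⟨φ₁ x, _⟩, _⟩ = ((γ (δ ⟨φ₁ x, hT⟩) : T) : Ω)
    have h1 : (⟨ρ ⟨φ₁ x, ⟨x, rfl⟩⟩, hρN _⟩ : N) = x := Subtype.ext (hρv x)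
    rw [h1]
    have h2 := hδφ x hT
    rw [hθ0v] at h2
    have h3 : (γ⁻¹ : MulAut T) ⟨ζ x, mem_S hζ x⟩ = δ ⟨φ₁ x, hT⟩ := Subtype.ext h2
    rw [← h3, MulAut.apply_inv_self]
  have h9 : γ = γ * δ * δ⁻¹ := by group
  rw [h9]
  exact K.mul_mem hγδ (K.inv_mem hδK)

end CfsgLib.Fus21
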