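import Cfsg.Agent.LibFus21Sn1
import Cfsg.Agent.LibFus21Pp6

set_option autoImplicit false

/-! Normal subsystems defined by characters of `Aut_F(T)`: the system. -/

namespace CfsgLib.Fus21

open Cfsg Cfsg.FusionSystem

universe u

variable {Ω : Type u} [Group Ω] {S T : Subgroup Ω}

theorem kd_inv {p : ℕ} {F : FusionSystem S} {E : FusionSystem T} {K : Subgroup (MulAut T)} (hinv : E.IsInvariantIn F)
    (hK : KD p F E K) : AutInvK E K :=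
  fun P hP φ hφ α hα => hinv.2.2.1 P hP φ hφ α (hK.le hα)

/-- intersection with `T` under maps -/
theorem inf_conj {F : FusionSystem S} (hT : F.StronglyClosed T) {P : Subgroup Ω} {φ : P →* Ω} (hφ : φ ∈ F.Hom P) :
    F.IsConj (P ⊓ T) (φ.range ⊓ T) := by
  refine ⟨_, restrict_mem hφ inf_le_left, ?_⟩
  ext y
  constructor
  · rintro ⟨x, rfl⟩
    exact ⟨⟨_, rfl⟩, (stronglyClosed_mem_iff hT hφ ⟨x, x.2.1⟩).2 x.2.2⟩
  · rintro ⟨⟨x, rfl⟩, hy⟩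
    exact ⟨⟨x, x.2, (stronglyClosed_mem_iff hT hφ x).1 hy⟩, rfl⟩

theorem cent_of_map {F : FusionSystem S} {E : FusionSystem T} (hinv : E.IsInvariantIn F) {P Q : Subgroup Ω} {φ : P →* Ω}
    (hφ : φ ∈ F.Hom P) (h : ∀ x, φ x ∈ Q) (hc : E.IsCentric (P ⊓ T)) : E.IsCentric (Q ⊓ T) := by
  have h1 := inv_centric hinv hc (inf_conj hinv.2.1 hφ)
  refine centric_mono ?_ inf_le_right h1
  exact inf_le_inf_right _ (by rintro _ ⟨x, rfl⟩; exact h x)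

/-- the maps of `F` lying over the kernel -/
def kSys [Finite S] {p : ℕ} [hp : Fact p.Prime] (hS : IsPGroup p S) (F : FusionSystem S) (E : FusionSystem T)
    (K : Subgroup (MulAut T)) (hinv : E.IsInvariantIn F) (hK : KD p F E K) : FusionSystem S where
  Hom P := {φ | φ ∈ F.Hom P ∧ (E.IsCentric (P ⊓ T) →
    φ.comp (Subgroup.inclusion inf_le_left) ∈ (facKSys E K (kd_inv hinv hK)).Hom (P ⊓ T))}
  le_of_mem h := F.le_of_mem h.1
  injective_of_mem h := F.injective_of_mem h.1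
  conj_mem := by
    intro P g hP hg
    refine ⟨F.conj_mem hP hg, fun hc => ?_⟩
    have hTn := stronglyClosed_normal_S hinv.2.1 hg
    obtain ⟨δ, hδ⟩ := exists_conjAut hTn
    have hδF : δ ∈ F.autGroup T := autInducedBy_le_autGroup F hinv.2.1.1 (mem_autInducedBy.2 ⟨g, hg, hδ⟩)
    have hδK : δ ∈ K := by
      obtain ⟨k, hk⟩ := hS ⟨g, hg⟩
      have hgk : g ^ p ^ k = 1 := congrArg Subtype.val hk
      refine hK.root δ hδF k ?_
      have h1 : ∀ (m : ℕ) (x : T), (((δ ^ m) x : T) : Ω) = g ^ m * x * (g ^ m)⁻¹ := by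
        intro m
        induction m with
        | zero => intro x; simp
        | succ m ih =>
          intro x
          have h2 : (δ ^ (m + 1)) x = (δ ^ m) (δ x) := by rw [pow_succ]; rfl
          rw [h2, ih, hδ, pow_succ]
          group
      have h3 : δ ^ p ^ k = 1 := by
        apply MulEquiv.ext
        intro x
        apply Subtype.ext
        rw [h1, hgk]; simp
      rw [h3]; exact K.one_mem
    refine mem_facKSys.2 ⟨inf_le_right, fun x => ?_, δ, hδK, _, incl_mem E inf_le_right, fun x hx => ?_⟩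
    · have := (δ ⟨x, x.2.2⟩).2
      rw [hδ] at this
      exact this
    · rw [hδ]; rfl
  comp_mem := by
    rintro P Q φ ψ ⟨hφ, hφc⟩ ⟨hψ, hψc⟩ h
    refine ⟨F.comp_mem hφ hψ h, fun hc => ?_⟩
    have hm : ∀ x, (φ.comp (Subgroup.inclusion (inf_le_left : P ⊓ T ≤ P))) x ∈ Q ⊓ T := fun x =>
      ⟨h _, (stronglyClosed_mem_iff hinv.2.1 hφ ⟨x, x.2.1⟩).2 x.2.2⟩
    exact (facKSys E K (kd_inv hinv hK)).comp_mem (hφc hc) (hψc (cent_of_map hinv hφ h hc)) hm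
  inv_mem := by
    rintro P φ ⟨hφ, hφc⟩
    obtain ⟨ψ, hψ, hψv⟩ := F.inv_mem hφ
    refine ⟨ψ, ⟨hψ, fun hc => ?_⟩, hψv⟩
    have hψP : ∀ y, ψ y ∈ P := by
      rintro ⟨_, x, rfl⟩
      rw [hψv]; exact x.2
    have hc' := cent_of_map hinv hψ hψP hc
    obtain ⟨χ, hχ, hχv⟩ := (facKSys E K (kd_inv hinv hK)).inv_mem (hφc hc')
    have hle : φ.range ⊓ T ≤ (φ.comp (Subgroup.inclusion (inf_le_left : P ⊓ T ≤ P))).range := by
      rintro _ ⟨⟨x, rfl⟩, hy⟩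
      exact ⟨⟨x, x.2, (stronglyClosed_mem_iff hinv.2.1 hφ x).1 hy⟩, rfl⟩
    refine restrict_mem' hχ hle ?_
    rintro ⟨_, ⟨x, rfl⟩, hy⟩
    have hxT : (x : Ω) ∈ T := (stronglyClosed_mem_iff hinv.2.1 hφ x).1 hy
    show ψ ⟨φ x, _⟩ = χ ⟨φ x, _⟩
    rw [hψv]
    exact (hχv ⟨x, x.2, hxT⟩).symm

variable [Finite S] {p : ℕ} [hp : Fact p.Prime]

theorem mem_kSys {hS : IsPGroup p S} {F : FusionSystem S} {E : FusionSystem T} {K : Subgroup (MulAut T)}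
    {hinv : E.IsInvariantIn F} {hK : KD p F E K} {P : Subgroup Ω} {φ : P →* Ω} : φ ∈ (kSys hS F E K hinv hK).Hom P ↔
    φ ∈ F.Hom P ∧ (E.IsCentric (P ⊓ T) →
    φ.comp (Subgroup.inclusion inf_le_left) ∈ (facKSys E K (kd_inv hinv hK)).Hom (P ⊓ T)) := Iff.rfl

theorem kSys_OpP (hS : IsPGroup p S) {F : FusionSystem S} {E : FusionSystem T}
    (hE : E.IsWeaklyNormalIn F p) {K : Subgroup (MulAut T)} (hK : KD p F E K) {P : Subgroup Ω} (hc : E.IsCentric (P ⊓ T))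
    (hP : P ≤ S) : OpP F p P ≤ (kSys hS F E K hE.2.2 hK).autGroup P := by
  have hinv := hE.2.2
  have hTS := hinv.2.1.1
  rw [OpP_eq, Subgroup.closure_le]
  rintro τ ⟨hτ, k, hk⟩
  show τ ∈ (kSys hS F E K hE.2.2 hK).autGroup P
  rw [mem_autGroup hP, mem_iso, mem_kSys]
  have hτF := (mem_autGroup hP).1 hτ
  refine ⟨hτF, fun _ => ?_⟩
  have hr := restrict_mem hτF (inf_le_left : P ⊓ T ≤ P)
  have hmem : ∀ x, ((P.subtype.comp τ.toMonoidHom).comp (Subgroup.inclusion (inf_le_left : P ⊓ T ≤ P))) x ∈ P ⊓ T := fun x =>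
    ⟨(τ _).2, (stronglyClosed_mem_iff hinv.2.1 hτF ⟨x, x.2.1⟩).2 x.2.2⟩
  obtain ⟨θ, hθ, hθv⟩ := exists_aut_of_hom hr hmem
  have hθv' : ∀ x : ↥(P ⊓ T), ((θ x : ↥(P ⊓ T)) : Ω) = (τ ⟨x, x.2.1⟩ : P) := fun x => hθv x
  have hθpow : ∀ (m : ℕ) (x : ↥(P ⊓ T)), (((θ ^ m) x : ↥(P ⊓ T)) : Ω) = ((τ ^ m) ⟨x, x.2.1⟩ : P) := by
    intro m
    induction m with
    | zero => intro x; rfl
    | succ m ih =>
      intro x
      have h1 : (θ ^ (m + 1)) x = (θ ^ m) (θ x) := by rw [pow_succ]; rfl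
      have h2 : (τ ^ (m + 1)) ⟨x, x.2.1⟩ = (τ ^ m) (τ ⟨x, x.2.1⟩) := by rw [pow_succ]; rfl
      rw [h1, h2, ih]
      congr 2
      exact Subtype.ext (hθv' x)
  obtain ⟨δ, hδ, φ₁, hφ₁, hδφ⟩ := hinv.2.2.2 (P ⊓ T) inf_le_right _ hr
  have hδφ' : ∀ x : ↥(P ⊓ T), ((θ x : ↥(P ⊓ T)) : Ω) = ((δ ⟨φ₁ x, mem_S hφ₁ x⟩ : T) : Ω) := fun x => by
    rw [hθv]; exact hδφ x _
  obtain ⟨φm, hm, hmv⟩ := pow_decomp hinv inf_le_right hδ hφ₁ hδφ' (p ^ k)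
  have hδm : ((δ ^ p ^ k)⁻¹ : MulAut T) ∈ K := by
    refine kd_mem hS hE hK _ (P ⊓ T) rfl hc _ (Subgroup.inv_mem _ (Subgroup.pow_mem _ hδ _)) φm hm ?_
    intro x hx hxT
    have h1 := hmv ⟨x, hx⟩
    rw [hθpow, ← hk, pow_orderOf_eq_one] at h1
    rw [← hk]
    have h2 : (⟨x, hxT⟩ : T) = (δ ^ orderOf τ) ⟨φm ⟨x, hx⟩, mem_S hm _⟩ := Subtype.ext h1
    rw [h2, MulAut.inv_apply_self]
  have hδK : δ ∈ K := hK.root δ hδ k (by
    have := K.inv_mem hδm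
    rwa [inv_inv] at this)
  exact mem_facKSys.2 ⟨inf_le_right, fun x => (hmem x).2, δ, hδK, φ₁, hφ₁, hδφ⟩

theorem kSys_ext (hS : IsPGroup p S) {F : FusionSystem S} {E : FusionSystem T}
    (hE : E.IsWeaklyNormalIn F p) {K : Subgroup (MulAut T)} (hK : KD p F E K) {P R : Subgroup Ω} (hPR : P ≤ R)
    (hc : E.IsCentric (P ⊓ T)) {ψ : R →* Ω} (hψ : ψ ∈ F.Hom R)
    (hψP : ψ.comp (Subgroup.inclusion hPR) ∈ (kSys hS F E K hE.2.2 hK).Hom P) : ψ ∈ (kSys hS F E K hE.2.2 hK).Hom R := by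
  have hinv := hE.2.2
  have hTS := hinv.2.1.1
  rw [mem_kSys]
  refine ⟨hψ, fun _ => ?_⟩
  have hr := restrict_mem hψ (inf_le_left : R ⊓ T ≤ R)
  obtain ⟨δ, hδ, φ₁, hφ₁, hδφ⟩ := hinv.2.2.2 (R ⊓ T) inf_le_right _ hr
  obtain ⟨-, -, α, hα, φ₀, hφ₀, hαφ⟩ := mem_facKSys.1 ((mem_kSys.1 hψP).2 hc)
  have hle : P ⊓ T ≤ R ⊓ T := inf_le_inf_right _ hPR
  have hφ₁r := restrict_mem hφ₁ hle
  obtain ⟨ρ, hρ, hρv⟩ := E.inv_mem hφ₁r
  have hρN : ∀ y, ρ y ∈ P ⊓ T := by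
    rintro ⟨_, x, rfl⟩
    rw [hρv]; exact x.2
  have hBc : E.IsCentric (φ₁.comp (Subgroup.inclusion hle)).range := centric_conj ⟨_, hφ₁r, rfl⟩ hc
  have hmem : ∀ x : ↥(R ⊓ T), (ψ.comp (Subgroup.inclusion (inf_le_left : R ⊓ T ≤ R))) x ∈ T := fun x =>
    (stronglyClosed_mem_iff hinv.2.1 hψ ⟨x, x.2.1⟩).2 x.2.2
  have hαδ : α⁻¹ * δ ∈ K := by
    refine kd_mem hS hE hK _ _ rfl hBc _ (Subgroup.mul_mem _ (Subgroup.inv_mem _ (hK.le hα)) hδ) _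
      (E.comp_mem hρ hφ₀ hρN) ?_
    rintro _ ⟨x, rfl⟩ hT
    show φ₀ ⟨ρ ⟨(φ₁.comp (Subgroup.inclusion hle)) x, _⟩, _⟩ = (((α⁻¹ : MulAut T) (δ ⟨φ₁ ⟨x, hle x.2⟩, hT⟩) : T) : Ω)
    have h1 : (⟨ρ ⟨(φ₁.comp (Subgroup.inclusion hle)) x, ⟨x, rfl⟩⟩, hρN _⟩ : ↥(P ⊓ T)) = x := Subtype.ext (hρv x)
    rw [h1]
    have h2 := hδφ ⟨x, hle x.2⟩ hT
    have h3 := hαφ x (mem_S hφ₀ x)
    have h4 : (ψ.comp (Subgroup.inclusion (inf_le_left : R ⊓ T ≤ R))) ⟨x, hle x.2⟩ =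
      ((ψ.comp (Subgroup.inclusion hPR)).comp (Subgroup.inclusion (inf_le_left : P ⊓ T ≤ P))) x := rfl
    rw [h4, h3] at h2
    have h5 : α ⟨φ₀ x, mem_S hφ₀ x⟩ = δ ⟨φ₁ ⟨x, hle x.2⟩, hT⟩ := Subtype.ext h2
    rw [← h5, MulAut.inv_apply_self]
  have hδK : δ ∈ K := by
    have h9 : δ = α * (α⁻¹ * δ) := by group
    rw [h9]; exact K.mul_mem hα hαδ
  exact mem_facKSys.2 ⟨inf_le_right, hmem, δ, hδK, φ₁, hφ₁, hδφ⟩

/-- the family of subgroups -/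
def hFam (E : FusionSystem T) : Set (Subgroup Ω) := {P | E.IsCentric (P ⊓ T)}

/-- the subsystem attached to the kernel -/
def nSys (hS : IsPGroup p S) (F : FusionSystem S) (E : FusionSystem T)
    (K : Subgroup (MulAut T)) (hinv : E.IsInvariantIn F) (hK : KD p F E K) : FusionSystem S :=
  interSys (kSys hS F E K hinv hK) (fun E' => ∀ R ∈ hFam E, R ≤ S → (kSys hS F E K hinv hK).Hom R ⊆ E'.Hom R)

theorem nSys_sub (hS : IsPGroup p S) {F : FusionSystem S} {E : FusionSystem T} {K : Subgroup (MulAut T)}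
    {hinv : E.IsInvariantIn F} {hK : KD p F E K} {R : Subgroup Ω} (hR : R ∈ hFam E) (hRS : R ≤ S) :
    (kSys hS F E K hinv hK).Hom R ⊆ (nSys hS F E K hinv hK).Hom R := fun _ hφ => ⟨hφ, fun _ hE => hE R hR hRS hφ⟩

theorem nSys_ch (hS : IsPGroup p S) {F : FusionSystem S} {E : FusionSystem T}
    (hE : E.IsWeaklyNormalIn F p) {K : Subgroup (MulAut T)} (hK : KD p F E K) : CH (hFam E) F (nSys hS F E K hE.2.2 hK) p := by
  have hF := hE.2.1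
  have hinv := hE.2.2
  have hconj : ∀ P ∈ hFam E, ∀ Q, F.IsConj P Q → Q ∈ hFam E := by
    rintro P hP Q ⟨φ, hφ, rfl⟩
    exact inv_centric hinv hP (inf_conj hinv.2.1 hφ)
  have hrad : ∀ P, P ∉ hFam E → ¬ (F.IsCentric P ∧ F.IsRadical p P) := by
    rintro P hPH ⟨hPc, hPr⟩
    exact (noncentric_inf_radical hS hF hinv.1 hinv.2.1 hPc hPH).2 hPr
  have hess : ∀ P, F.IsEssential p P → P ∈ hFam E := by
    intro P hP
    by_contra hPH
    exact hrad P hPH ⟨hP.1, essential_radical hS hP⟩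
  refine ⟨PPc_of_PPh hS hF hconj hess ⟨fun P φ hφ => hφ.1.1, fun P hP hPS α hα => ?_⟩, hconj, fun P _ => hrad P,
    fun E' hE' P φ hφ => ?_, fun P R hPR hP ψ hψ hψP => ?_⟩
  · rw [mem_autGroup hPS]
    exact nSys_sub hS hP hPS ((mem_autGroup hPS).1 (kSys_OpP hS hE hK hP hPS hα))
  · exact hφ.2 E' fun R hR hRS χ hχ => hE' R hR hRS (nSys_sub hS hR hRS hχ)
  · have hRH : R ∈ hFam E := centric_mono (inf_le_inf_right _ hPR) inf_le_right hP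
    exact nSys_sub hS hRH (le_S hψ) (kSys_ext hS hE hK hPR hP hψ hψP.1)

theorem S_hFam {F : FusionSystem S} {E : FusionSystem T} (hinv : E.IsInvariantIn F) : S ∈ hFam E := by
  haveI : Finite T := finite_of_le hinv.2.1.1
  show E.IsCentric (S ⊓ T)
  rw [inf_eq_right.2 hinv.2.1.1]
  exact self_centric E

end CfsgLib.Fus21
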