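import Cfsg.Agent.LibFus21Sn2

set_option autoImplicit false

/-! Normal subsystems defined by characters of `Aut_F(T)`: properties. -/

namespace CfsgLib.Fus21

open Cfsg Cfsg.FusionSystem

universe u

variable {Ω : Type u} [Group Ω] {S T : Subgroup Ω} [Finite S] {p : ℕ} [hp : Fact p.Prime]

/-- restriction of an automorphism of `S` to the strongly closed `T` -/
theorem exists_resT {F : FusionSystem S} (hT : F.StronglyClosed T) {α : MulAut S} (hα : α ∈ F.autGroup S) :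
    ∃ β ∈ F.autGroup T, ∀ t (ht : t ∈ T), ((β ⟨t, ht⟩ : T) : Ω) = ((α ⟨t, hT.1 ht⟩ : S) : Ω) := by
  have hαm := (mem_autGroup le_rfl).1 hα
  have hr := restrict_mem hαm hT.1
  have hm : ∀ x, ((S.subtype.comp α.toMonoidHom).comp (Subgroup.inclusion hT.1)) x ∈ T := fun x =>
    hT.2 T le_rfl _ hr x
  obtain ⟨β, hβ, hβv⟩ := exists_aut_of_hom hr hm
  exact ⟨β, hβ, fun t ht => hβv ⟨t, ht⟩⟩

theorem nSys_aut (hS : IsPGroup p S) {F : FusionSystem S} {E : FusionSystem T}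
    (hE : E.IsWeaklyNormalIn F p) {K : Subgroup (MulAut T)} (hK : KD p F E K) {α : MulAut S} (hα : α ∈ F.autGroup S) :
    α ∈ (nSys hS F E K hE.2.2 hK).autGroup S ↔ ∃ β ∈ K, ∀ t (ht : t ∈ T), ((β ⟨t, ht⟩ : T) : Ω) = ((α ⟨t, hE.2.2.2.1.1 ht⟩ : S) : Ω) := by
  have hinv := hE.2.2
  have hTS := hinv.2.1.1
  haveI : Finite T := finite_of_le hTS
  have hSH : S ∈ hFam E := S_hFam hinv
  have hαm := (mem_autGroup le_rfl).1 hα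
  constructor
  · intro h
    rw [mem_autGroup le_rfl, mem_iso] at h
    obtain ⟨-, -, δ, hδ, φ₀, hφ₀, hx⟩ := mem_facKSys.1 ((mem_kSys.1 h.1).2 hSH)
    obtain ⟨β, hβ, hβv⟩ := exists_resT hinv.2.1 hα
    refine ⟨β, ?_, hβv⟩
    have h1 : δ⁻¹ * β ∈ K := by
      refine kd_mem hS hE hK _ (S ⊓ T) rfl hSH _ (Subgroup.mul_mem _ (Subgroup.inv_mem _ (hK.le hδ)) hβ) φ₀ hφ₀ ?_
      intro x hxST hxT
      show _ = (((δ⁻¹ : MulAut T) (β ⟨x, hxT⟩) : T) : Ω)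
      have h2 := hx ⟨x, hxST⟩ (mem_S hφ₀ _)
      have h3 : ((α ⟨x, hTS hxT⟩ : S) : Ω) = ((δ ⟨φ₀ ⟨x, hxST⟩, mem_S hφ₀ _⟩ : T) : Ω) := h2
      have h4 : β ⟨x, hxT⟩ = δ ⟨φ₀ ⟨x, hxST⟩, mem_S hφ₀ _⟩ := Subtype.ext ((hβv x hxT).trans h3)
      rw [h4, MulAut.inv_apply_self]
    have h9 : β = δ * (δ⁻¹ * β) := by group
    rw [h9]; exact K.mul_mem hδ h1
  · rintro ⟨β, hβ, hβv⟩
    rw [mem_autGroup le_rfl, mem_iso]
    refine nSys_sub hS hSH le_rfl (mem_kSys.2 ⟨hαm, fun _ => mem_facKSys.2 ⟨inf_le_right, fun x => ?_, β, hβ, _,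
      incl_mem E inf_le_right, fun x hx => ?_⟩⟩)
    · exact hinv.2.1.2 _ inf_le_right _ (restrict_mem hαm (inf_le_left : S ⊓ T ≤ S)) x
    · exact (hβv x x.2.2).symm

theorem nSys_conj (hS : IsPGroup p S) {F : FusionSystem S} {E : FusionSystem T}
    (hE : E.IsWeaklyNormalIn F p) {K : Subgroup (MulAut T)} (hK : KD p F E K) {γ : MulAut S} (hγ : γ ∈ F.autGroup S) :
    nSys hS F E K hE.2.2 hK ≤ conjSys (nSys hS F E K hE.2.2 hK) γ := by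
  have hinv := hE.2.2
  have hTS := hinv.2.1.1
  have hch := nSys_ch hS hE hK
  have hγi : (γ⁻¹ : MulAut S) ∈ F.autGroup S := Subgroup.inv_mem _ hγ
  have hγm := (mem_autGroup le_rfl).1 hγi
  obtain ⟨g, hg, hgv⟩ := exists_resT hinv.2.1 hγ
  refine hch.gen _ fun R hR hRS φ hφ => ?_
  rw [mem_conjSys]
  obtain ⟨e, he, hev⟩ := exists_iso_pre hγ hRS
  have hR'S : preimageAlong (S.subtype.comp γ.toMonoidHom) R ≤ S := preimageAlong_le _ _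
  have hR'H := hch.conj R hR _ (isConj_iff.2 ⟨_, iso_symm he⟩)
  have hφF : φ ∈ F.Hom R := hφ.1.1
  have c1 := F.comp_mem he hφF (fun x => (e x).2)
  have c2 := F.comp_mem c1 hγm (fun x => mem_S hφF _)
  have hgi : ∀ z (hz : z ∈ T), (((g⁻¹ : MulAut T) ⟨z, hz⟩ : T) : Ω) = (((γ⁻¹ : MulAut S) ⟨z, hTS hz⟩ : S) : Ω) := by
    intro z hz
    have h1 := hgv _ ((g⁻¹ : MulAut T) ⟨z, hz⟩).2
    have h2 : g ⟨((g⁻¹ : MulAut T) ⟨z, hz⟩ : T), ((g⁻¹ : MulAut T) ⟨z, hz⟩).2⟩ = ⟨z, hz⟩ := by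
      show g ((g⁻¹ : MulAut T) ⟨z, hz⟩) = _
      rw [MulAut.apply_inv_self]
    rw [h2] at h1
    have h3 : (⟨z, hTS hz⟩ : S) = γ ⟨((g⁻¹ : MulAut T) ⟨z, hz⟩ : T), hTS ((g⁻¹ : MulAut T) ⟨z, hz⟩).2⟩ := Subtype.ext h1
    rw [h3, MulAut.inv_apply_self]
  refine ⟨hRS, _, nSys_sub hS hR'H hR'S (mem_kSys.2 ⟨c2, fun _ => ?_⟩), induced_mk hR'S (fun x => mem_S c2 x)
    (fun x hx => (mem_preimageAlong.1 hx).2) fun x hx => ?_⟩
  · obtain ⟨-, hφT, δ, hδ, φ₁, hφ₁, hx⟩ := mem_facKSys.1 (hφ.1.2 hR)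
    obtain ⟨χ₁, hχ₁, hχ₁v⟩ := hinv.2.2.1 (R ⊓ T) inf_le_right φ₁ hφ₁ g⁻¹ (Subgroup.inv_mem _ hg)
    have hgR : ∀ y (hy : y ∈ preimageAlong (S.subtype.comp γ.toMonoidHom) R ⊓ T), ((g ⟨y, hy.2⟩ : T) : Ω) ∈ R ⊓ T := by
      intro y hy
      refine ⟨?_, (g _).2⟩
      rw [hgv]
      exact (mem_preimageAlong.1 hy.1).2
    have hle : preimageAlong (S.subtype.comp γ.toMonoidHom) R ⊓ T ≤ ((R ⊓ T).subgroupOf T).map (T.subtype.comp (g⁻¹ : MulAut T).toMonoidHom) := by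
      intro y hy
      rw [mem_amapK]
      exact ⟨g ⟨y, hy.2⟩, (g _).2, hgR y hy, by
        show (((g⁻¹ : MulAut T) (g ⟨y, hy.2⟩) : T) : Ω) = y
        rw [MulAut.inv_apply_self]⟩
    have hval : ∀ y : ↥(preimageAlong (S.subtype.comp γ.toMonoidHom) R ⊓ T),
        (((T.subtype.comp (g⁻¹ : MulAut T).toMonoidHom)) ⟨φ ⟨g ⟨y, y.2.2⟩, (hgR y y.2).1⟩, hφT ⟨_, hgR y y.2⟩⟩ : Ω) =
        (((S.subtype.comp (γ⁻¹ : MulAut S).toMonoidHom).comp (((φ.comp ((R.subtype.comp e.toMonoidHom).codRestrict R (fun x => (e x).2)))).codRestrict S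
          (fun x => mem_S hφF _))).comp (Subgroup.inclusion inf_le_left)) y := by
      intro y
      have h1 : (e ⟨y, y.2.1⟩ : R) = ⟨g ⟨y, y.2.2⟩, (hgR y y.2).1⟩ := by
        apply Subtype.ext
        rw [hev y (hR'S y.2.1) y.2.1, hgv]
      show (((g⁻¹ : MulAut T) ⟨φ ⟨g ⟨y, y.2.2⟩, (hgR y y.2).1⟩, _⟩ : T) : Ω) = (((γ⁻¹ : MulAut S) ⟨φ (e ⟨y, y.2.1⟩), _⟩ : S) : Ω)
      refine (hgi _ (hφT ⟨_, hgR y y.2⟩)).trans ?_
      congr 2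
      apply Subtype.ext
      exact congrArg φ h1.symm
    refine mem_facKSys.2 ⟨inf_le_right, fun y => ?_, g⁻¹ * δ * g, ?_, _, restrict_mem hχ₁ hle, fun y hy => ?_⟩
    · rw [← hval]
      exact ((g⁻¹ : MulAut T) _).2
    · have := hK.nor g⁻¹ (Subgroup.inv_mem _ hg) δ hδ
      rwa [inv_inv] at this
    · rw [← hval]
      have h1 := hχ₁v ⟨g ⟨y, y.2.2⟩, hgR y y.2⟩ (mem_S hφ₁ _) (by
        have h2 : (g⁻¹ : MulAut T) ⟨(g ⟨y, y.2.2⟩ : T), (g ⟨(y : Ω), y.2.2⟩).2⟩ = ⟨y, y.2.2⟩ := by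
          show (g⁻¹ : MulAut T) (g ⟨y, y.2.2⟩) = _
          rw [MulAut.inv_apply_self]
        rw [h2]
        exact hle y.2)
      have h3 : χ₁ ⟨y, hle y.2⟩ = (((g⁻¹ : MulAut T) ⟨φ₁ ⟨g ⟨y, y.2.2⟩, hgR y y.2⟩, mem_S hφ₁ _⟩ : T) : Ω) := by
        rw [← h1]
        congr 1
        apply Subtype.ext
        show (y : Ω) = (((g⁻¹ : MulAut T) (g ⟨y, y.2.2⟩) : T) : Ω)
        rw [MulAut.inv_apply_self]
      have h4 : (⟨χ₁ ⟨y, hle y.2⟩, mem_S hχ₁ _⟩ : T) = (g⁻¹ : MulAut T) ⟨φ₁ ⟨g ⟨y, y.2.2⟩, hgR y y.2⟩, mem_S hφ₁ _⟩ := Subtype.ext h3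
      show (((g⁻¹ : MulAut T) ⟨φ ⟨g ⟨y, y.2.2⟩, (hgR y y.2).1⟩, _⟩ : T) : Ω) = (((g⁻¹ : MulAut T) (δ (g ⟨χ₁ ⟨y, hle y.2⟩, _⟩)) : T) : Ω)
      rw [h4, MulAut.apply_inv_self]
      congr 2
      apply Subtype.ext
      exact hx ⟨g ⟨y, y.2.2⟩, hgR y y.2⟩ (mem_S hφ₁ _)
  · have hxS := hR'S hx
    have h1 : (⟨(S.subtype.comp γ.toMonoidHom) ⟨x, hxS⟩, (mem_preimageAlong.1 hx).2⟩ : R) = e ⟨x, hx⟩ :=
      Subtype.ext (hev x hxS hx).symm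
    rw [h1]
    show φ (e ⟨x, hx⟩) = ((γ ((γ⁻¹ : MulAut S) ⟨φ (e ⟨x, hx⟩), _⟩) : S) : Ω)
    rw [MulAut.apply_inv_self]

theorem nSys_autInv (hS : IsPGroup p S) {F : FusionSystem S} {E : FusionSystem T}
    (hE : E.IsWeaklyNormalIn F p) {K : Subgroup (MulAut T)} (hK : KD p F E K) (P : Subgroup Ω) (hP : P ≤ S) (φ : P →* Ω)
    (hφ : φ ∈ (nSys hS F E K hE.2.2 hK).Hom P) (α : MulAut S) (hα : α ∈ F.autGroup S) :
    ∃ χ ∈ (nSys hS F E K hE.2.2 hK).Hom ((P.subgroupOf S).map (S.subtype.comp α.toMonoidHom)),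
      ∀ (x : P) (hφx : φ x ∈ S)
        (hαx : ((α ⟨x, hP x.2⟩ : S) : Ω) ∈ (P.subgroupOf S).map (S.subtype.comp α.toMonoidHom)),
        χ ⟨(α ⟨x, hP x.2⟩ : S), hαx⟩ = ((α ⟨φ x, hφx⟩ : S) : Ω) := by
  obtain ⟨-, φ₀, hφ₀, hind⟩ := mem_conjSys.1 (nSys_conj hS hE hK (Subgroup.inv_mem _ hα) P hφ)
  have hle : (P.subgroupOf S).map (S.subtype.comp α.toMonoidHom) ≤ preimageAlong (S.subtype.comp (α⁻¹ : MulAut S).toMonoidHom) P := by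
    intro y hy
    obtain ⟨x, hx, hxP, rfl⟩ := mem_amapK.1 hy
    refine mem_preimageAlong.2 ⟨(α _).2, ?_⟩
    show (((α⁻¹ : MulAut S) (α ⟨x, hx⟩) : S) : Ω) ∈ P
    rw [MulAut.inv_apply_self]
    exact hxP
  refine ⟨_, restrict_mem hφ₀ hle, fun x hφx hαx => ?_⟩
  have h0 : (((α⁻¹ : MulAut S) ⟨((α ⟨x, hP x.2⟩ : S) : Ω), (α ⟨x, hP x.2⟩).2⟩ : S) : Ω) = x := by
    show (((α⁻¹ : MulAut S) (α ⟨x, hP x.2⟩) : S) : Ω) = x
    rw [MulAut.inv_apply_self]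
  have h1 := induced_apply hind (hle hαx) (α ⟨x, hP x.2⟩).2 (mem_S hφ₀ _) (by
    show (((α⁻¹ : MulAut S) ⟨((α ⟨x, hP x.2⟩ : S) : Ω), _⟩ : S) : Ω) ∈ P
    rw [h0]; exact x.2)
  have h2 : φ x = (((α⁻¹ : MulAut S) ⟨φ₀ ⟨((α ⟨x, hP x.2⟩ : S) : Ω), hle hαx⟩, mem_S hφ₀ _⟩ : S) : Ω) := by
    refine Eq.trans ?_ h1
    congr 1
    exact Subtype.ext h0.symm
  show φ₀ ⟨((α ⟨x, hP x.2⟩ : S) : Ω), hle hαx⟩ = _
  have h3 : (⟨φ x, hφx⟩ : S) = (α⁻¹ : MulAut S) ⟨φ₀ ⟨((α ⟨x, hP x.2⟩ : S) : Ω), hle hαx⟩, mem_S hφ₀ _⟩ := Subtype.ext h2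
  rw [h3, MulAut.apply_inv_self]

/-- systems of index prime to `p`, invariant under `Aut_F(S)`, are normal -/
theorem nSys_normal (hS : IsPGroup p S) {F : FusionSystem S} {E : FusionSystem T}
    (hE : E.IsWeaklyNormalIn F p) {K : Subgroup (MulAut T)} (hK : KD p F E K) :
    (nSys hS F E K hE.2.2 hK).IsNormalIn F p := by
  have hF := hE.2.1
  have hinv := hE.2.2
  have hch := nSys_ch hS hE hK
  have hsat := ch_saturated hS hF hch (S_hFam hinv)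
  refine ⟨⟨hsat, hF, hch.pp.1, ⟨le_rfl, fun R hR φ hφ x => mem_S hφ x⟩, nSys_autInv hS hE hK, fun P hP φ hφ => ?_⟩,
    fun α hα => ?_⟩
  · exact pp_decomp hS hF hch.pp hφ
  · have hle : S ⊔ centralizerIn S S ≤ S := sup_le le_rfl (centralizerIn_le S S)
    have hαF : α ∈ F.autGroup S := by
      rw [mem_autGroup le_rfl] at hα ⊢
      exact hch.pp.1 _ hα
    have hr := restrict_mem ((mem_autGroup le_rfl).1 hαF) hle
    obtain ⟨β, hβ, hβv⟩ := exists_aut_of_hom hr (fun x => Subgroup.mem_sup_left (α _).2)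
    refine ⟨β, hβ, fun x => hβv _, fun c hc => ?_⟩
    rw [hβv]
    show (c : Ω)⁻¹ * ((α ⟨c, hle c.2⟩ : S) : Ω) ∈ _
    refine ⟨S.mul_mem (S.inv_mem (hle c.2)) (α _).2, Subgroup.mem_centralizer_iff.2 fun s hs => ?_⟩
    have h1 : ∀ s ∈ S, s * c = c * s := fun s hs => by
      have := (mem_centralizerIn'.1 hc).2 s hs
      rw [mul_inv_eq_iff_eq_mul] at this
      exact this.symm
    have h2 : ∀ s (hs : s ∈ S), s * (α ⟨c, hle c.2⟩ : S) = (α ⟨c, hle c.2⟩ : S) * s := by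
      intro s hs
      obtain ⟨r, hr⟩ := α.surjective ⟨s, hs⟩
      have h3 : r * ⟨c, hle c.2⟩ = ⟨c, hle c.2⟩ * r := Subtype.ext (h1 r r.2)
      have h4 := congrArg α h3
      rw [map_mul, map_mul, hr] at h4
      exact congrArg Subtype.val h4
    have h5 : s * (c : Ω)⁻¹ = (c : Ω)⁻¹ * s := ((show Commute s (c : Ω) from h1 s hs).inv_right).eq
    rw [← mul_assoc, h5, mul_assoc, h2 s hs, mul_assoc]

end CfsgLib.Fus21
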