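import Cfsg.Agent.LibFus21Sn3

set_option autoImplicit false

/-! Normal subsystems defined by characters of `Aut_F(T)`: the main theorem. -/

namespace CfsgLib.Fus21

open Cfsg Cfsg.FusionSystem

universe u

variable {Ω : Type u} [Group Ω] {S T : Subgroup Ω} [Finite S] {p : ℕ} [hp : Fact p.Prime]

/-- restriction to a strongly closed subgroup -/
def rstSys (D : FusionSystem S) (hTS : T ≤ S) : FusionSystem T where
  Hom P := {φ | P ≤ T ∧ (∀ x, φ x ∈ T) ∧ φ ∈ D.Hom P}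
  le_of_mem h := ⟨h.1, h.2.1⟩
  injective_of_mem h := D.injective_of_mem h.2.2
  conj_mem hP hg := ⟨hP, fun x => T.mul_mem (T.mul_mem hg (hP x.2)) (T.inv_mem hg), D.conj_mem (hP.trans hTS) (hTS hg)⟩
  comp_mem hφ hψ h := ⟨hφ.1, fun _ => hψ.2.1 _, D.comp_mem hφ.2.2 hψ.2.2 h⟩
  inv_mem := by
    rintro P φ ⟨hP, hφT, hφ⟩
    obtain ⟨ψ, hψ, hψv⟩ := D.inv_mem hφ
    refine ⟨ψ, ⟨?_, ?_, hψ⟩, hψv⟩
    · rintro _ ⟨x, rfl⟩; exact hφT x
    · rintro ⟨_, x, rfl⟩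
      rw [hψv]; exact hP x.2

theorem E_le_nSys (hS : IsPGroup p S) {F : FusionSystem S} {E : FusionSystem T}
    (hE : E.IsWeaklyNormalIn F p) {K : Subgroup (MulAut T)} (hK : KD p F E K) :
    E.IsSubsystemOf (nSys hS F E K hE.2.2 hK) := by
  have hinv := hE.2.2
  have hTS := hinv.2.1.1
  haveI : Finite T := finite_of_le hTS
  have h1 : E ≤ rstSys (nSys hS F E K hE.2.2 hK) hTS := by
    refine alperin_ind (hS.to_le hTS) hE.1 _ fun P hP _ α hα => ?_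
    have hPc : E.IsCentric P := by
      rcases hP with rfl | hP
      · exact self_centric E
      · exact hP.1
    have hPT := hPc.1
    have hPH : P ∈ hFam E := by
      show E.IsCentric (P ⊓ T)
      rw [inf_eq_left.2 hPT]; exact hPc
    have hαE := (mem_autGroup hPT).1 hα
    have h2 : P.subtype.comp α.toMonoidHom ∈ (nSys hS F E K hE.2.2 hK).Hom P := by
      refine nSys_sub hS hPH (hPT.trans hTS) (mem_kSys.2 ⟨hinv.1 _ hαE, fun _ => mem_facKSys.2 ⟨inf_le_right, fun x => ?_,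
        1, K.one_mem, _, restrict_mem hαE inf_le_left, fun x hx => rfl⟩⟩)
      exact hPT (α _).2
    have h3 : P.subtype.comp α.toMonoidHom ∈ (rstSys (nSys hS F E K hE.2.2 hK) hTS).Hom P :=
      ⟨hPT, fun x => hPT (α x).2, h2⟩
    exact aut_mem_of_hom h3 fun x => rfl
  exact fun P φ hφ => (h1 P hφ).2.2

theorem exists_ext_outside (hS : IsPGroup p S) {F : FusionSystem S} {E : FusionSystem T}
    (hE : E.IsWeaklyNormalIn F p) {K : Subgroup (MulAut T)} (hK : KD p F E K) {γ : MulAut T} (hγ : γ ∈ F.autGroup T)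
    (hγK : γ ∉ K) : ∃ ν ∈ F.autGroup S, ν ∉ (nSys hS F E K hE.2.2 hK).autGroup S := by
  have hF := hE.2.1
  have hinv := hE.2.2
  have hTS := hinv.2.1.1
  have hTn : ∀ g ∈ S, g ∈ normalizerIn S T := fun g hg => ⟨hg, stronglyClosed_normal_S hinv.2.1 hg⟩
  have hfn : F.IsFullyNormalized T := by
    refine ⟨hTS, fun R _ => ?_⟩
    haveI : Finite (normalizerIn S T) := finite_of_le (normalizerIn_le S T)
    exact Subgroup.card_le_of_le ((normalizerIn_le S R).trans hTn)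
  have hA := (sat_fn hS hF hfn).2
  have hrec := sat_fn_receptive hS hF hfn
  obtain ⟨τ, hτ, hnorm⟩ := frattini_OpP hS hA hγ
  have hτK : τ ∈ K := by
    have h1 : OpP F p T ≤ K := by
      rw [OpP_eq, Subgroup.closure_le]
      rintro β ⟨hβ, k, hk⟩
      refine hK.root β hβ k ?_
      rw [← hk, pow_orderOf_eq_one]
      exact K.one_mem
    exact h1 hτ
  have hν : τ * γ ∈ F.autGroup T := Subgroup.mul_mem _ (OpP_le F p T hτ) hγ
  have hle : S ≤ extender S T (T.subtype.comp (τ * γ).toMonoidHom) := by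
    intro g hg
    rw [mem_extender_iso]
    obtain ⟨α, hα⟩ := exists_conjAut (hTn g hg).2
    refine ⟨hg, α, hα, ?_⟩
    exact hnorm α (mem_autInducedBy.2 ⟨g, hg, hα⟩)
  obtain ⟨χ, hχ, hχe⟩ := receptive_extend hrec ((mem_autGroup hTS).1 hν) hle
  obtain ⟨ν, hνF, hνv⟩ := exists_aut_of_hom hχ (fun x => mem_S hχ x)
  refine ⟨ν, hνF, fun h => hγK ?_⟩
  obtain ⟨β, hβ, hβv⟩ := (nSys_aut hS hE hK hνF).1 h
  have h1 : β = τ * γ := by
    apply MulEquiv.ext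
    rintro ⟨t, ht⟩
    apply Subtype.ext
    rw [hβv, hνv, hχe t ht]
  rw [h1] at hβ
  have h9 : γ = τ⁻¹ * (τ * γ) := by group
  rw [h9]; exact K.mul_mem (K.inv_mem hτK) hβ

theorem exists_kernel_system (hS : IsPGroup p S) {F : FusionSystem S} (hF : F.IsSaturated p) (hTS : T ≤ S)
    {E : FusionSystem T} (hE : E.IsNormalIn F p) {Δ : Type*} [Group Δ] [Finite Δ] [Nontrivial Δ]
    (hΔ : (Nat.card Δ).Coprime p) (χ : ↥(F.autGroup T) →* Δ) (hχ : Function.Surjective χ)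
    (hker : (E.autGroup T).subgroupOf (F.autGroup T) ≤ χ.ker) :
    ∃ F₀ : FusionSystem S, F₀.IsNormalIn F p ∧ ¬ (∀ P : Subgroup Ω, F₀.Hom P = F.Hom P) ∧ E.IsSubsystemOf F₀ ∧
      (∀ α : MulAut ↥S, α ∈ F₀.autGroup S ↔ α ∈ F.autGroup S ∧ ∃ β : ↥(F.autGroup T), χ β = 1 ∧
        ∀ t : ↥T, (((β : MulAut ↥T) t : ↥T) : Ω) = ((α ⟨(t : Ω), hTS t.2⟩ : ↥S) : Ω)) ∧
      ∀ R : FusionSystem S, F.IsPPrimeResidual p R → R.IsSubsystemOf F₀ := by
  have hEw := hE.1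
  have hK : KD p F E (χ.ker.map (F.autGroup T).subtype) := by
    refine ⟨Subgroup.map_subtype_le _, ?_, ?_, ?_⟩
    · rintro a ha _ ⟨b, hb, rfl⟩
      refine ⟨⟨a, ha⟩ * b * ⟨a, ha⟩⁻¹, ?_, rfl⟩
      exact (inferInstance : χ.ker.Normal).conj_mem b hb ⟨a, ha⟩
    · intro α hα
      have hαF : α ∈ F.autGroup T := by
        rw [mem_autGroup le_rfl] at hα
        rw [mem_autGroup hTS]
        exact hEw.2.2.1 _ hα
      exact ⟨⟨α, hαF⟩, hker hα, rfl⟩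
    · rintro a ha k ⟨b, hb, hba⟩
      have hb' : b = (⟨a, ha⟩ : F.autGroup T) ^ p ^ k := Subtype.ext hba
      have h1 : χ ⟨a, ha⟩ ^ p ^ k = 1 := by
        rw [← map_pow, ← hb']; exact hb
      have h2 : orderOf (χ ⟨a, ha⟩) ∣ p ^ k := orderOf_dvd_of_pow_eq_one h1
      have h3 : orderOf (χ ⟨a, ha⟩) ∣ Nat.card Δ := orderOf_dvd_natCard _
      have h4 : orderOf (χ ⟨a, ha⟩) ∣ 1 := by
        rw [← (Nat.Coprime.pow_right k hΔ).gcd_eq_one]
        exact Nat.dvd_gcd h3 h2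
      exact ⟨⟨a, ha⟩, orderOf_eq_one_iff.1 (Nat.dvd_one.1 h4), rfl⟩
  have hch := nSys_ch hS hEw hK
  have hsat := ch_saturated hS hF hch (S_hFam hEw.2.2)
  refine ⟨nSys hS F E _ hEw.2.2 hK, nSys_normal hS hEw hK, fun h => ?_, E_le_nSys hS hEw hK, fun α => ?_, fun R hR => ?_⟩
  · obtain ⟨d, hd⟩ := exists_ne (1 : Δ)
    obtain ⟨γ, hγ⟩ := hχ d
    obtain ⟨ν, hν, hν'⟩ := exists_ext_outside hS hEw hK γ.2 (by
      rintro ⟨b, hb, hbγ⟩
      have h1 : b = γ := Subtype.ext hbγ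
      rw [h1] at hb
      exact hd (hγ ▸ hb))
    apply hν'
    rw [mem_autGroup le_rfl, mem_iso] at hν ⊢
    rw [h]
    exact hν
  · constructor
    · intro hα
      have hαF : α ∈ F.autGroup S := by
        rw [mem_autGroup le_rfl] at hα ⊢
        exact hch.pp.1 _ hα
      obtain ⟨β, ⟨b, hb, rfl⟩, hβv⟩ := (nSys_aut hS hEw hK hαF).1 hα
      exact ⟨hαF, b, hb, fun t => hβv t t.2⟩
    · rintro ⟨hαF, b, hb, hbv⟩
      exact (nSys_aut hS hEw hK hαF).2 ⟨b, ⟨b, hb, rfl⟩, fun t ht => hbv ⟨t, ht⟩⟩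
  · exact hR.2.2 _ hsat ⟨hch.pp.1, fun P hP => pp_all hS hF hch.pp hP⟩

end CfsgLib.Fus21
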