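import Cfsg.Agent.LibFus21J7
import Cfsg.Agent.LibFus21Loc

set_option autoImplicit false

/-! The centre of a fusion system at an odd prime is a direct factor of `Z(S)`. -/

namespace CfsgLib.Fus21

open Cfsg Cfsg.FusionSystem

universe u

section grp

variable {G : Type*} [Group G]

theorem center_split [Finite G] {p : ℕ} [hp : Fact p.Prime] (T : Sylow p G) {U : Subgroup G} [hUn : U.Normal]
    (hUT : U ≤ T) (hUab : ∀ x ∈ U, ∀ y ∈ U, x * y = y * x) :
    ∃ K : Subgroup G, (∀ x ∈ K, x ∈ U) ∧ (∀ x ∈ K, ∀ t ∈ (T : Subgroup G), t * x * t⁻¹ = x) ∧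
      (∀ x ∈ K, x ∈ Subgroup.center G → x = 1) ∧
      ∀ x ∈ U, (∀ t ∈ (T : Subgroup G), t * x * t⁻¹ = x) → ∃ c ∈ Subgroup.center G, ∃ k ∈ K, x = c * k := by
  classical
  letI : CommGroup U := { (inferInstance : Group U) with mul_comm := fun a b => Subtype.ext (hUab a a.2 b b.2) }
  haveI : Fintype (G ⧸ (T : Subgroup G)) := Fintype.ofFinite _
  let act : G → U → U := fun g u => ⟨g * u * g⁻¹, hUn.conj_mem u u.2 g⟩
  have act_val : ∀ g u, ((act g u : U) : G) = g * u * g⁻¹ := fun _ _ => rfl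
  have act_mul : ∀ g h u, act (g * h) u = act g (act h u) := by
    intro g h u
    apply Subtype.ext
    rw [act_val, act_val, act_val]; group
  have act_mulr : ∀ g u v, act g (u * v) = act g u * act g v := by
    intro g u v
    apply Subtype.ext
    show g * (u * v) * g⁻¹ = (g * u * g⁻¹) * (g * v * g⁻¹)
    group
  let actH : G → (U →* U) := fun g => { toFun := act g, map_one' := Subtype.ext (by show g * 1 * g⁻¹ = 1; group), map_mul' := act_mulr g }
  let C : Subgroup U :=
    { carrier := {u | ∀ t ∈ (T : Subgroup G), act t u = u}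
      one_mem' := fun t _ => (actH t).map_one
      mul_mem' := fun {a b} ha hb t ht => by rw [act_mulr, ha t ht, hb t ht]
      inv_mem' := fun {a} ha t ht => by
        show actH t a⁻¹ = a⁻¹
        rw [map_inv]
        exact congrArg _ (ha t ht) }
  have hCm : ∀ u : U, u ∈ C ↔ ∀ t ∈ (T : Subgroup G), act t u = u := fun _ => Iff.rfl
  let f : C → (G ⧸ (T : Subgroup G)) → U := fun u q => Quotient.liftOn' q (fun g => act g u) (by
    intro a b hab
    have h1 : a⁻¹ * b ∈ (T : Subgroup G) := QuotientGroup.leftRel_apply.1 hab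
    show act a u = act b u
    have h2 := u.2 _ h1
    have h3 : b = a * (a⁻¹ * b) := by group
    rw [h3, act_mul, h2])
  have hf : ∀ (u : C) (g : G), f u (g : G ⧸ (T : Subgroup G)) = act g u := fun _ _ => rfl
  let N : C →* U :=
    { toFun := fun u => ∏ q, f u q
      map_one' := by
        apply Finset.prod_eq_one
        intro q _
        obtain ⟨g, rfl⟩ := QuotientGroup.mk_surjective q
        rw [hf]; exact (actH g).map_one
      map_mul' := by
        intro u v
        rw [← Finset.prod_mul_distrib]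
        apply Finset.prod_congr rfl
        intro q _
        obtain ⟨g, rfl⟩ := QuotientGroup.mk_surjective q
        rw [hf, hf, hf]; exact act_mulr g u v }
  have hN : ∀ u, N u = ∏ q, f u q := fun _ => rfl
  have hNc : ∀ u g, act g (N u) = N u := by
    intro u g
    show actH g (N u) = N u
    rw [hN, map_prod]
    have h1 : ∀ q, (actH g) (f u q) = f u (MulAction.toPerm g q) := by
      intro q
      obtain ⟨h, rfl⟩ := QuotientGroup.mk_surjective q
      rw [hf]
      show act g (act h u) = f u (g • (h : G ⧸ (T : Subgroup G)))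
      rw [← act_mul]; rfl
    rw [Finset.prod_congr rfl fun q _ => h1 q]
    exact Equiv.prod_comp (MulAction.toPerm g) (f u)
  have hNcen : ∀ u, ((N u : U) : G) ∈ Subgroup.center G := by
    intro u
    rw [Subgroup.mem_center_iff]
    intro g
    exact mul_inv_eq_iff_eq_mul.1 (congrArg Subtype.val (hNc u g))
  have hNC : ∀ u, N u ∈ C := fun u t _ => hNc u t
  set m := Fintype.card (G ⧸ (T : Subgroup G)) with hm
  have hNpow : ∀ u : C, ((u : U) : G) ∈ Subgroup.center G → N u = (u : U) ^ m := by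
    intro u hu
    rw [hN]
    have h1 : ∀ q, f u q = (u : U) := by
      intro q
      obtain ⟨g, rfl⟩ := QuotientGroup.mk_surjective q
      rw [hf]
      apply Subtype.ext
      rw [act_val, Subgroup.mem_center_iff.1 hu g, mul_inv_cancel_right]
    rw [Finset.prod_congr rfl fun q _ => h1 q, Finset.prod_const, Finset.card_univ]
  have hmp : ¬ p ∣ m := by
    have h1 := T.not_dvd_index
    rwa [Subgroup.index_eq_card, Nat.card_eq_fintype_card] at h1
  have hUp : IsPGroup p U := T.2.to_le hUT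
  have hmU : (Nat.card U).Coprime m := by
    obtain ⟨k, hk⟩ := (IsPGroup.iff_card.1 hUp)
    rw [hk]
    exact Nat.Coprime.pow_left _ ((Nat.Prime.coprime_iff_not_dvd hp.out).2 hmp)
  haveI : Fintype U := Fintype.ofFinite U
  have hpow_inj : ∀ u : U, u ^ m = 1 → u = 1 := by
    intro u hu
    have h1 : orderOf u ∣ m := orderOf_dvd_of_pow_eq_one hu
    have h2 : orderOf u ∣ Nat.card U := orderOf_dvd_natCard u
    have h3 := Nat.eq_one_of_dvd_coprimes hmU h2 h1
    exact orderOf_eq_one_iff.1 h3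
  refine ⟨(N.ker.map C.subtype).map U.subtype, ?_, ?_, ?_, ?_⟩
  · rintro _ ⟨_, ⟨y, hy, rfl⟩, rfl⟩
    exact (y : U).2
  · rintro _ ⟨_, ⟨y, hy, rfl⟩, rfl⟩ t ht
    exact congrArg Subtype.val (y.2 t ht)
  · rintro _ ⟨_, ⟨y, hy, rfl⟩, rfl⟩ hc
    have h1 := hNpow y hc
    rw [MonoidHom.mem_ker.1 hy] at h1
    exact congrArg Subtype.val (hpow_inj _ h1.symm)
  · intro x hxU hxT
    have hxC : (⟨x, hxU⟩ : U) ∈ C := fun t ht => Subtype.ext (hxT t ht)
    -- surjectivity of the power map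
    have hpi : Function.Injective (fun u : U => u ^ m) := by
      intro a b hab
      have h1 : (a * b⁻¹) ^ m = 1 := by
        rw [mul_pow, inv_pow]
        have : a ^ m = b ^ m := hab
        rw [this, mul_inv_cancel]
      exact mul_inv_eq_one.1 (hpow_inj _ h1)
    -- `c` with `c ^ m = N x`, a power of `N x`
    obtain ⟨m', hm'⟩ : ∃ m' : ℤ, ∀ u : U, (u ^ m') ^ m = u :=
      ⟨(Nat.card U).gcdB m, fun u => (powCoprime hmU).right_inv u⟩
    set c : U := N ⟨_, hxC⟩ ^ m' with hc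
    have hcC : c ∈ C := C.zpow_mem (hNC _) _
    have hcc : (c : G) ∈ Subgroup.center G := Subgroup.zpow_mem _ (hNcen _) _
    refine ⟨c, hcc, (c : G)⁻¹ * x, ?_, by group⟩
    refine ⟨c⁻¹ * ⟨x, hxU⟩, ⟨(⟨c, hcC⟩ : C)⁻¹ * ⟨_, hxC⟩, ?_, rfl⟩, rfl⟩
    rw [SetLike.mem_coe, MonoidHom.mem_ker, map_mul, map_inv, hNpow ⟨c, hcC⟩ hcc]
    show (c ^ m)⁻¹ * N ⟨_, hxC⟩ = 1
    rw [hc, hm', inv_mul_cancel]

end grp

variable {Ω : Type u} [Group Ω] {S : Subgroup Ω}

theorem exists_ma_fin (S : Subgroup Ω) [Finite S] : ∃ A, MA S A := by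
  obtain ⟨A, hA⟩ := exists_ma (⊤ : Subgroup S)
  have h1 := ma_iff_maxIn.1 hA
  rw [CfsgLib.H2Thomp.maxIn_top_comm] at h1
  exact ⟨_, ma_map h1⟩

/-- an abelian subgroup of largest order is self-centralizing, so `J(S)` is centric -/
theorem J_self [Finite S] : centralizerIn S (thompsonSubgroupAOf S) ≤ thompsonSubgroupAOf S := by
  intro x hx
  rw [mem_centralizerIn'] at hx
  obtain ⟨A, hA⟩ := exists_ma_fin S
  have hAJ : A ≤ thompsonSubgroupAOf S := by
    rw [thompson_eq_sSup]; exact le_sSup hA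
  exact hAJ (ma_self hA hx.1 fun a ha => (mul_inv_eq_iff_eq_mul.1 (hx.2 a (hAJ ha))).symm)

theorem center_direct_factor [Finite S] {p : ℕ} [hp : Fact p.Prime] (hS : IsPGroup p S) {F : FusionSystem S}
    (hF : F.IsSaturated p) (hp : p ≠ 2 ∨ F.IsSectionFree p (Equiv.Perm (Fin 4))) :
    ∃ K : Subgroup Ω, K ≤ centralizerIn S S ∧ F.center ⊓ K = ⊥ ∧ F.center ⊔ K = centralizerIn S S := by
  have hJS : thompsonSubgroupAOf S ≤ S := Subgroup.map_subtype_le _
  have hJn := J_fn hS F
  have hJc : F.IsCentric (thompsonSubgroupAOf S) := centric_of_fc (sat_fn hS hF hJn).1 J_self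
  have hcon := normSys_constrained hS hF hJn hJc
  have hNS : normalizerIn S (thompsonSubgroupAOf S) = S := J_normalizer hS F
  obtain ⟨E, hE, hEe, hEcen⟩ : ∃ E : FusionSystem S, E.IsConstrained p ∧ (∀ P, E.Hom P ⊆ F.Hom P) ∧ E.center = F.center := by
    have key : ∀ (T : Subgroup Ω) (_ : T = S) (E : FusionSystem T) (_ : E.IsConstrained p) (_ : ∀ P, E.Hom P ⊆ F.Hom P)
      (_ : E.center = F.center), ∃ E : FusionSystem S, E.IsConstrained p ∧ (∀ P, E.Hom P ⊆ F.Hom P) ∧ E.center = F.center := by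
      rintro T rfl E h1 h2 h3
      exact ⟨E, h1, h2, h3⟩
    exact key _ hNS _ hcon (fun P φ h => normSys_le h) (J_center_eq hS hF hp)
  obtain ⟨G, hGg, ι, hm⟩ := model_exists hS hE
  obtain ⟨hf, hr, ⟨T, hT⟩, hCG⟩ := id hm
  have hZR : ∀ x (hx : x ∈ centralizerIn S S), ι ⟨x, hx.1⟩ ∈ pCore p G ⊓ Subgroup.centralizer (pCore p G : Set G) := by
    intro x hx
    refine ⟨model_Z_core hm hx, Subgroup.mem_centralizer_iff.2 ?_⟩
    intro y hy
    obtain ⟨s, rfl⟩ := model_core_le hm hy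
    rw [← map_mul, ← map_mul]
    congr 1
    exact Subtype.ext ((mem_centralizerIn.1 hx).2 s s.2)
  have hUn : (pCore p G ⊓ Subgroup.centralizer (pCore p G : Set G) : Subgroup G).Normal := inferInstance
  have hcP : pCore p G ≤ T := CfsgLib.Cores.pCore_le_sylow _
  obtain ⟨K, hK1, hK2, hK3, hK4⟩ := center_split T (U := pCore p G ⊓ Subgroup.centralizer (pCore p G : Set G))
    (inf_le_left.trans hcP) (fun x hx y hy => (Subgroup.mem_centralizer_iff.1 hx.2 y hy.1).symm)
  have hKr : K ≤ ι.range := by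
    rw [← hT]; exact fun x hx => hcP (hK1 x hx).1
  have hKZ : preS ι K ≤ centralizerIn S S := by
    intro x hx
    obtain ⟨hxS, hxK⟩ := mem_preS.1 hx
    rw [mem_centralizerIn]
    refine ⟨hxS, fun s hs => ?_⟩
    have h1 := hK2 _ hxK (ι ⟨s, hs⟩) (hT ▸ ⟨_, rfl⟩)
    rw [mul_inv_eq_iff_eq_mul, ← map_mul, ← map_mul] at h1
    exact congrArg Subtype.val (hr.1 h1)
  refine ⟨preS ι K, hKZ, ?_, ?_⟩
  · rw [eq_bot_iff]
    rintro x ⟨hx1, hx2⟩
    have hx1' : x ∈ F.center := hx1
    rw [← hEcen, mem_center_model hS hE.1 hm] at hx1'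
    obtain ⟨hxS, hxc⟩ := hx1'
    obtain ⟨_, hxK⟩ := mem_preS.1 hx2
    have h1 := hK3 _ hxK hxc
    rw [← map_one ι] at h1
    rw [Subgroup.mem_bot]
    exact congrArg Subtype.val (hr.1 h1)
  · apply le_antisymm
    · refine sup_le ?_ hKZ
      rw [← hEcen]; exact center_le_Z E
    · intro x hx
      obtain ⟨c, hc, k, hk, hck⟩ := hK4 _ (hZR x hx) (by
        intro t ht
        rw [hT] at ht
        obtain ⟨s, rfl⟩ := ht
        rw [mul_inv_eq_iff_eq_mul, ← map_mul, ← map_mul]
        congr 1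
        exact Subtype.ext ((mem_centralizerIn.1 hx).2 s s.2))
      obtain ⟨k', rfl⟩ := hKr hk
      have hc' : c = ι (⟨x, hx.1⟩ * k'⁻¹) := by
        rw [map_mul, map_inv, hck, mul_inv_cancel_right]
      have h1 : ((⟨x, hx.1⟩ * k'⁻¹ : S) : Ω) ∈ F.center := by
        rw [← hEcen, mem_center_model hS hE.1 hm]
        refine ⟨Subtype.mem _, ?_⟩
        rw [← hc'] ; exact hc
      have h2 : (k' : Ω) ∈ preS ι K := mem_preS.2 ⟨k'.2, hk⟩
      have h3 : x = ((⟨x, hx.1⟩ * k'⁻¹ : S) : Ω) * (k' : Ω) := by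
        show x = (x * (k' : Ω)⁻¹) * k'
        group
      rw [h3]
      exact Subgroup.mul_mem_sup h1 h2

end CfsgLib.Fus21
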