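import Cfsg.Agent.LibFus21Sup1

set_option autoImplicit false

/-! Supersoluble fusion systems: necessary conditions. -/

namespace CfsgLib.Fus21

open Cfsg Cfsg.FusionSystem

variable {Ω : Type*} [Group Ω] {S : Subgroup Ω}

theorem isNormal_of_steps [Finite S] {p : ℕ} [hp : Fact p.Prime] (hS : IsPGroup p S) {F : FusionSystem S} (hF : F.IsSaturated p)
    (h : Relation.ReflTransGen (PStep F p) ⊥ S) : F.IsNormal S := by
  refine isNormal_S_of_no_essential hS hF fun P hP => ?_
  obtain ⟨n, c, h0, hn, hm, hsc, hidx⟩ := natChain_of h (stronglyClosed_bot F)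
  have hPS := hP.1.1
  haveI : Finite P := finite_of_le hPS
  refine not_essential_of_pchain hS hF (c := fun i => (c i).subgroupOf P) (n := n) ?_ ?_ ?_ ?_ ?_ ?_ hP
  · rw [h0]; simp
  · rw [hn, Subgroup.subgroupOf_eq_top]; exact hPS
  · intro i j hij x hx
    exact hm hij hx
  · intro i
    refine ⟨fun x hx g => ?_⟩
    rw [Subgroup.mem_subgroupOf] at hx ⊢
    exact (Subgroup.mem_normalizer_iff.1 (stronglyClosed_normal_S (hsc i) (hPS g.2)) x).1 hx
  · intro α hα i x hx
    exact (stronglyClosed_aut (hsc i) hPS hα x).2 hx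
  · intro i hi
    -- index
    show ((c i).subgroupOf P).relIndex ((c (i + 1)).subgroupOf P) ∣ p
    refine dvd_trans ?_ (hidx i hi)
    have h1 : ((c i).subgroupOf P).relIndex ((c (i + 1)).subgroupOf P) = (c i).relIndex (c (i + 1) ⊓ P) := by
      have h2 : ((c (i + 1)).subgroupOf P).map P.subtype = c (i + 1) ⊓ P := by
        rw [Subgroup.subgroupOf_map_subtype]
      rw [← h2, ← Subgroup.relIndex_comap]
      rfl
    rw [h1]
    haveI : ((c i).subgroupOf (c (i + 1))).Normal := by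
      refine ⟨fun x hx g => ?_⟩
      rw [Subgroup.mem_subgroupOf] at hx ⊢
      exact (Subgroup.mem_normalizer_iff.1 (stronglyClosed_normal_S (hsc i) ((hsc (i + 1)).1 g.2)) x).1 hx
    have h3 := Subgroup.relIndex_dvd_index_of_normal ((c i).subgroupOf (c (i + 1))) ((c (i + 1) ⊓ P).subgroupOf (c (i + 1)))
    rw [Subgroup.relIndex_subgroupOf inf_le_left] at h3
    exact h3

/-- an automorphism acts on a layer of order `p` as a power -/
theorem layer_power {P : Type*} [Group P] [Finite P] {p : ℕ} [hp : Fact p.Prime] {A B : Subgroup P} (hAB : A ≤ B) [hA : A.Normal]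
    (hidx : A.relIndex B ∣ p) {α : MulAut P} (hAα : ∀ x ∈ A, α x ∈ A) (hBα : ∀ x ∈ B, α x ∈ B) :
    ∃ j : ℤ, ∀ x ∈ B, ((α x : P) : P ⧸ A) = (x : P ⧸ A) ^ j := by
  set Bb := B.map (QuotientGroup.mk' A) with hBb
  have hcard : Nat.card Bb = A.relIndex B := by
    rw [hBb, Subgroup.relIndex]
    have : ((QuotientGroup.mk' A).comp B.subtype).ker = A.subgroupOf B := by
      ext y; simp [Subgroup.mem_subgroupOf, MonoidHom.mem_ker]
    rw [← this, Subgroup.index_ker, MonoidHom.range_comp, Subgroup.range_subtype]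
  haveI hcyc : IsCyclic Bb := by
    rcases (Nat.dvd_prime hp.out).1 (hcard ▸ hidx) with h | h
    · haveI := (Nat.card_eq_one_iff_unique.1 h).1
      infer_instance
    · exact isCyclic_of_prime_card h
  let f : P ⧸ A →* P ⧸ A := QuotientGroup.map A A α.toMonoidHom hAα
  have hf : ∀ y : P, f (y : P ⧸ A) = ((α y : P) : P ⧸ A) := fun y => rfl
  have hfB : ∀ y : Bb, f y ∈ Bb := by
    rintro ⟨_, x, hx, rfl⟩
    exact ⟨α x, hBα x hx, rfl⟩
  obtain ⟨m, hm⟩ := MonoidHom.map_cyclic (G := Bb) ((f.comp Bb.subtype).codRestrict Bb hfB)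
  refine ⟨m, fun x hx => ?_⟩
  have h1 := hm ⟨(x : P ⧸ A), x, hx, rfl⟩
  exact congrArg Subtype.val h1

theorem zpow_int_card_sub_one {G : Type*} [Group G] {p : ℕ} [hp : Fact p.Prime] {y : G} (hy : y ^ p = 1) {j : ℤ}
    (hj : y ^ j = 1 → y = 1) : y ^ (j ^ (p - 1)) = y := by
  by_cases hy1 : y = 1
  · rw [hy1, one_zpow]
  have ho : orderOf y = p := orderOf_eq_prime hy hy1
  have hnd : ¬ (p : ℤ) ∣ j := by
    intro h
    apply hy1
    apply hj
    rw [← ho] at h
    exact orderOf_dvd_iff_zpow_eq_one.1 h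
  have h1 : (p : ℤ) ∣ j ^ (p - 1) - 1 := by
    have h2 : ((j : ℤ) : ZMod p) ≠ 0 := by
      intro h
      exact hnd ((ZMod.intCast_zmod_eq_zero_iff_dvd _ p).1 h)
    have h3 := ZMod.pow_card_sub_one_eq_one h2
    have h4 : ((j ^ (p - 1) - 1 : ℤ) : ZMod p) = 0 := by
      push_cast
      rw [h3, sub_self]
    exact (ZMod.intCast_zmod_eq_zero_iff_dvd _ p).1 h4
  have h5 : y ^ (j ^ (p - 1) - 1) = 1 := by
    rw [← ho] at h1
    exact orderOf_dvd_iff_zpow_eq_one.1 (by rwa [ho] at h1 ⊢)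
  rw [zpow_sub, zpow_one, mul_inv_eq_one] at h5
  exact h5

/-- a `p'`-group of automorphisms preserving a chain with factors of order dividing `p` -/
theorem abelian_of_pchain {P : Type*} [Group P] [Finite P] {p : ℕ} [hp : Fact p.Prime] (hP : IsPGroup p P)
    {H : Subgroup (MulAut P)} (hH : (Nat.card H).Coprime p) {c : ℕ → Subgroup P} {n : ℕ} (h0 : c 0 = ⊥) (hn : c n = ⊤) (hm : Monotone c)
    (hnor : ∀ i, (c i).Normal) (hinv : ∀ α ∈ H, ∀ i, ∀ x ∈ c i, α x ∈ c i) (hidx : ∀ i < n, (c i).relIndex (c (i + 1)) ∣ p) :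
    IsMulCommutative H ∧ ∀ h ∈ H, h ^ (p - 1) = 1 := by
  have key : ∀ α ∈ H, (∀ i < n, ∀ x ∈ c (i + 1), x⁻¹ * α x ∈ c i) → α = 1 := by
    intro α hα h
    obtain ⟨k, hk⟩ := pow_p_of_chain hP n c h0 hn hm h
    have h9 : orderOf (⟨α, hα⟩ : H) ∣ Nat.card H := orderOf_dvd_natCard _
    have h10 : orderOf (⟨α, hα⟩ : H) ∣ p ^ k := by
      apply orderOf_dvd_of_pow_eq_one
      exact Subtype.ext hk
    have h12 : orderOf (⟨α, hα⟩ : H) = 1 := Nat.eq_one_of_dvd_coprimes (Nat.Coprime.pow_right k hH) h9 h10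
    exact congrArg Subtype.val (orderOf_eq_one_iff.1 h12)
  have hcongr : ∀ α ∈ H, ∀ i, ∀ x y : P, (x : P ⧸ c i) = y → ((α x : P) : P ⧸ c i) = ((α y : P) : P ⧸ c i) := by
    intro α hα i x y hxy
    rw [QuotientGroup.eq] at hxy ⊢
    rw [← map_inv, ← map_mul]
    exact hinv α hα i _ hxy
  refine ⟨⟨⟨fun a b => ?_⟩⟩, fun h hh => ?_⟩
  · -- commutativity
    have h1 : (b * a)⁻¹ * (a * b) = 1 := by
      apply Subtype.ext
      refine key _ ((b * a)⁻¹ * (a * b)).2 fun i hi x hx => ?_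
      haveI := hnor i
      obtain ⟨j, hj⟩ := layer_power (hm (Nat.le_succ i)) (hidx i hi) (hinv a a.2 i) (hinv a a.2 (i + 1))
      obtain ⟨k, hk⟩ := layer_power (hm (Nat.le_succ i)) (hidx i hi) (hinv b b.2 i) (hinv b b.2 (i + 1))
      have h2 : (((a : MulAut P) ((b : MulAut P) x) : P) : P ⧸ c i) = (((b : MulAut P) ((a : MulAut P) x) : P) : P ⧸ c i) := by
        rw [hj _ (hinv b b.2 _ x hx), hk _ hx, hk _ (hinv a a.2 _ x hx), hj _ hx, ← zpow_mul, ← zpow_mul, mul_comm]
      have h3 := hcongr ((b * a)⁻¹ : H) ((b * a)⁻¹ : H).2 i _ _ h2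
      rw [← QuotientGroup.eq, eq_comm]
      have h4 : (((b * a)⁻¹ * (a * b) : H) : MulAut P) x = (((b * a)⁻¹ : H) : MulAut P) ((a : MulAut P) ((b : MulAut P) x)) := rfl
      have h5 : (((b * a)⁻¹ : H) : MulAut P) ((b : MulAut P) ((a : MulAut P) x)) = x := by
        show ((b * a : H) : MulAut P)⁻¹ (((b * a : H) : MulAut P) x) = x
        rw [MulAut.inv_apply_self]
      rw [h4, h3, h5]
    have h2 : a * b = b * a := by
      rw [inv_mul_eq_one] at h1
      exact h1.symm
    exact h2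
  · refine key _ (H.pow_mem hh _) fun i hi x hx => ?_
    haveI := hnor i
    obtain ⟨j, hj⟩ := layer_power (hm (Nat.le_succ i)) (hidx i hi) (hinv h hh i) (hinv h hh (i + 1))
    have h2 : ∀ m : ℕ, (((h ^ m) x : P) : P ⧸ c i) = (x : P ⧸ c i) ^ (j ^ m) := by
      intro m
      induction m with
      | zero => simp
      | succ m ih =>
        have h3 : (h ^ (m + 1)) x = h ((h ^ m) x) := by rw [pow_succ']; rfl
        rw [h3, hj _ (hinv _ (H.pow_mem hh m) _ x hx), ih, ← zpow_mul, pow_succ]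
    rw [← QuotientGroup.eq, h2]
    symm
    apply zpow_int_card_sub_one
    · -- x^p ∈ c i
      have h3 : x ^ p ∈ c i := by
        have h4 := hidx i hi
        rcases (Nat.dvd_prime hp.out).1 h4 with h5 | h5
        · exact (c i).pow_mem ((Subgroup.relIndex_eq_one.1 h5) hx) _
        · have h6 : ((⟨x, hx⟩ : c (i + 1)) ^ ((c i).subgroupOf (c (i + 1))).index) ∈ (c i).subgroupOf (c (i + 1)) := by
            haveI : ((c i).subgroupOf (c (i + 1))).Normal := inferInstance
            exact Subgroup.pow_index_mem _ _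
          have h7 : ((c i).subgroupOf (c (i + 1))).index = p := h5
          rw [h7] at h6
          exact h6
      rw [← QuotientGroup.mk_pow]
      exact (QuotientGroup.eq_one_iff _).2 h3
    · intro h3
      have h4 : ((h x : P) : P ⧸ c i) = 1 := by rw [hj x hx]; exact h3
      have h5 : h x ∈ c i := (QuotientGroup.eq_one_iff _).1 h4
      have h6 := hinv h⁻¹ (H.inv_mem hh) i _ h5
      rw [MulAut.inv_apply_self] at h6
      exact (QuotientGroup.eq_one_iff _).2 h6

end CfsgLib.Fus21
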