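import Cfsg.Agent.LibFus21Sup2

set_option autoImplicit false

/-! Supersoluble fusion systems: sufficient conditions. -/

namespace CfsgLib.Fus21

open Cfsg Cfsg.FusionSystem

open Polynomial in
theorem eig {V : Type*} [Group V] [Finite V] [Nontrivial V] {p : ℕ} [hp : Fact p.Prime] (hc : ∀ x y : V, x * y = y * x)
    (hexp : ∀ x : V, x ^ p = 1) (f : MulAut V) (hf : f ^ (p - 1) = 1) : ∃ a : ℕ, ∃ v : V, v ≠ 1 ∧ f v = v ^ a := by
  letI : CommGroup V := { (inferInstance : Group V) with mul_comm := hc }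
  letI : Module (ZMod p) (Additive V) := AddCommGroup.zmodModule (n := p) (fun x => hexp (Additive.toMul x))
  let T : Additive V →ₗ[ZMod p] Additive V := (MonoidHom.toAdditive f.toMonoidHom).toZModLinearMap p
  have hT : ∀ x : V, T (Additive.ofMul x) = Additive.ofMul (f x) := fun x => rfl
  have hTn : ∀ n : ℕ, ∀ x : V, (T ^ n) (Additive.ofMul x) = Additive.ofMul ((f ^ n) x) := by
    intro n
    induction n with
    | zero => intro x; rfl
    | succ n ih =>
      intro x
      rw [pow_succ', pow_succ']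
      show T ((T ^ n) (Additive.ofMul x)) = _
      rw [ih]
      rfl
  have hTp : T ^ (p - 1) = 1 := by
    apply LinearMap.ext
    intro x
    have := hTn (p - 1) (Additive.toMul x)
    rw [hf] at this
    exact this
  haveI : Module.Finite (ZMod p) (Additive V) := Module.Finite.of_finite
  have hint : IsIntegral (ZMod p) T := Algebra.IsIntegral.isIntegral T
  have haev : Polynomial.aeval T (X ^ p - X : (ZMod p)[X]) = 0 := by
    rw [map_sub, map_pow, aeval_X]
    have : T ^ p = T ^ (p - 1) * T := by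
      rw [← pow_succ]
      congr 1
      have := hp.out.one_lt
      omega
    rw [this, hTp, one_mul, sub_self]
  have hdvd := minpoly.dvd (ZMod p) T haev
  have hne : (X ^ p - X : (ZMod p)[X]) ≠ 0 := FiniteField.X_pow_card_sub_X_ne_zero (ZMod p) hp.out.one_lt
  have hspl : Splits (X ^ p - X : (ZMod p)[X]) := by
    rw [splits_iff_card_roots, FiniteField.X_pow_card_sub_X_natDegree_eq _ hp.out.one_lt]
    have h1 := FiniteField.roots_X_pow_card_sub_X (ZMod p)
    rw [ZMod.card] at h1
    rw [h1]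
    show Multiset.card Finset.univ.val = p
    rw [Finset.card_val, Finset.card_univ, ZMod.card]
  have hs2 : Splits (minpoly (ZMod p) T) := hspl.of_dvd hne hdvd
  have hdeg : (minpoly (ZMod p) T).degree ≠ 0 := (minpoly.degree_pos hint).ne'
  obtain ⟨μ, hμ⟩ := hs2.exists_eval_eq_zero hdeg
  have hev : Module.End.HasEigenvalue T μ := Module.End.hasEigenvalue_of_isRoot hμ
  obtain ⟨v, hv⟩ := hev.exists_hasEigenvector
  refine ⟨μ.val, Additive.toMul v, ?_, ?_⟩
  · intro h
    exact hv.2 h
  · have h1 := hv.apply_eq_smul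
    have h2 : μ • v = μ.val • v := by
      conv_lhs => rw [← ZMod.natCast_zmod_val μ]
      rw [Nat.cast_smul_eq_nsmul]
    rw [h2] at h1
    exact h1

theorem exists_step {P : Type*} [Group P] [Finite P] {p : ℕ} [hp : Fact p.Prime] (hP : IsPGroup p P) {A H : Subgroup (MulAut P)}
    (hInn : ∀ g : P, MulAut.conj g ∈ A) (hHA : H ≤ A) (hA : ∀ α ∈ A, ∃ g : P, ∃ h ∈ H, α = MulAut.conj g * h)
    (hHc : ∀ h ∈ H, ∀ k ∈ H, h * k = k * h) (hHe : ∀ h ∈ H, h ^ (p - 1) = 1) {N : Subgroup P} (hN : ∀ α ∈ A, ∀ x ∈ N, α x ∈ N)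
    (hNt : N ≠ ⊤) : ∃ M : Subgroup P, N ≤ M ∧ N ≠ M ∧ (∀ α ∈ A, ∀ x ∈ M, α x ∈ M) ∧ N.relIndex M ∣ p := by
  haveI hNn : N.Normal := ⟨fun x hx g => hN _ (hInn g) x hx⟩
  let 𝒮 : Set (Subgroup P) := {W | N < W ∧ ∀ α ∈ A, ∀ x ∈ W, α x ∈ W}
  obtain ⟨W, ⟨hNW, hWA⟩, hmin⟩ := (measure (fun W : Subgroup P => Nat.card W)).wf.has_min 𝒮 ⟨⊤, lt_top_iff_ne_top.2 hNt, fun _ _ _ _ => trivial⟩
  have hmin' : ∀ W' : Subgroup P, N < W' → W' ≤ W → (∀ α ∈ A, ∀ x ∈ W', α x ∈ W') → W' = W := by
    intro W' h1 h2 h3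
    have h4 := hmin W' ⟨h1, h3⟩
    have h5 : ¬ Nat.card W' < Nat.card W := h4
    exact Subgroup.eq_of_le_of_card_ge h2 (not_lt.1 h5)
  haveI hWn : W.Normal := ⟨fun x hx g => hWA _ (hInn g) x hx⟩
  set q := QuotientGroup.mk' N with hq
  have hqs : Function.Surjective q := QuotientGroup.mk'_surjective N
  have hq1 : ∀ x, q x = 1 ↔ x ∈ N := fun x => QuotientGroup.eq_one_iff x
  have hpQ : IsPGroup p (P ⧸ N) := hP.to_quotient N
  -- the induced automorphisms
  have hind : ∀ α ∈ A, ∃ αb : MulAut (P ⧸ N), ∀ x, αb (q x) = q (α x) := by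
    intro α hα
    have h1 : N.map α.toMonoidHom = N := by
      apply le_antisymm
      · rintro _ ⟨x, hx, rfl⟩; exact hN α hα x hx
      · intro x hx
        exact ⟨α⁻¹ x, hN _ (A.inv_mem hα) x hx, MulAut.apply_inv_self _ α x⟩
    exact ⟨QuotientGroup.congr N N α h1, fun x => rfl⟩
  -- step (i)
  let Zt : Subgroup (P ⧸ N) :=
    { carrier := {z | z ∈ Subgroup.center (P ⧸ N) ∧ z ^ p = 1}
      one_mem' := ⟨Subgroup.one_mem _, one_pow p⟩
      mul_mem' := by
        rintro x y ⟨hx, hx'⟩ ⟨hy, hy'⟩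
        refine ⟨Subgroup.mul_mem _ hx hy, ?_⟩
        rw [(show Commute x y from Subgroup.mem_center_iff.1 hy x).mul_pow, hx', hy', one_mul]
      inv_mem' := by
        rintro x ⟨hx, hx'⟩
        exact ⟨Subgroup.inv_mem _ hx, by rw [inv_pow, hx', inv_one]⟩ }
  have hZt : ∀ z, z ∈ Zt ↔ z ∈ Subgroup.center (P ⧸ N) ∧ z ^ p = 1 := fun z => Iff.rfl
  have hU : Zt.comap q ⊓ W = W := by
    apply hmin' _ _ inf_le_right
    · intro α hα x hx
      refine ⟨?_, hWA α hα x hx.2⟩
      obtain ⟨αb, hαb⟩ := hind α hα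
      show q (α x) ∈ Zt
      rw [← hαb, hZt]
      obtain ⟨h1, h2⟩ := (hZt (q x)).1 hx.1
      refine ⟨?_, by rw [← map_pow, h2, map_one]⟩
      rw [Subgroup.mem_center_iff]
      intro g
      obtain ⟨g', rfl⟩ := αb.surjective g
      rw [← map_mul, ← map_mul, Subgroup.mem_center_iff.1 h1]
    · refine lt_of_le_of_ne ?_ ?_
      · intro x hx
        refine ⟨?_, hNW.le hx⟩
        show q x ∈ Zt
        rw [(hq1 x).2 hx]
        exact Zt.one_mem
      · intro heq
        -- W̄ ∩ Z(Q) ≠ 1
        have hWb : W.map q ≠ ⊥ := by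
          intro h
          rw [Subgroup.map_eq_bot_iff, hq, QuotientGroup.ker_mk'] at h
          exact hNW.not_ge h
        haveI : (W.map q).Normal := hWn.map q hqs
        haveI : Group.IsNilpotent (P ⧸ N) := hpQ.isNilpotent
        have h1 := CfsgLib.SolvNilp.inf_center_ne_bot (W.map q) hWb
        have hpI : IsPGroup p (W.map q ⊓ Subgroup.center (P ⧸ N) : Subgroup (P ⧸ N)) := hpQ.to_subgroup _
        haveI : Nontrivial (W.map q ⊓ Subgroup.center (P ⧸ N) : Subgroup (P ⧸ N)) := (Subgroup.nontrivial_iff_ne_bot _).2 h1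
        obtain ⟨k, hk, hkc⟩ := hpI.nontrivial_iff_card.1 inferInstance
        obtain ⟨z, hz⟩ := exists_prime_orderOf_dvd_card' (G := (W.map q ⊓ Subgroup.center (P ⧸ N) : Subgroup (P ⧸ N))) p (by
          rw [hkc]; exact dvd_pow_self p hk.ne')
        obtain ⟨⟨w, hw, hwz⟩, hzc⟩ := z.2
        have hz1 : (z : P ⧸ N) ≠ 1 := by
          intro h
          have : z = 1 := Subtype.ext h
          rw [this, orderOf_one] at hz
          exact hp.out.one_lt.ne hz
        have hzp : (z : P ⧸ N) ^ p = 1 := by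
          have := pow_orderOf_eq_one z
          rw [hz] at this
          exact congrArg Subtype.val this
        have hwU : w ∈ Zt.comap q ⊓ W := by
          refine ⟨?_, hw⟩
          show q w ∈ Zt
          rw [hwz]
          exact ⟨hzc, hzp⟩
        rw [← heq] at hwU
        apply hz1
        rw [← hwz]
        exact (hq1 w).2 hwU
  have hWc : ∀ w ∈ W, q w ∈ Subgroup.center (P ⧸ N) ∧ (q w) ^ p = 1 := by
    intro w hw
    rw [← hU] at hw
    exact hw.1
  -- step (ii)
  have hsc : ∀ h ∈ H, ∃ a : ℕ, ∀ w ∈ W, q (h w) = (q w) ^ a := by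
    intro h hh
    obtain ⟨hb, hhb⟩ := hind h (hHA hh)
    have hVh : ∀ y ∈ W.map q, hb y ∈ W.map q := by
      rintro _ ⟨w, hw, rfl⟩
      rw [hhb]
      exact ⟨_, hWA h (hHA hh) w hw, rfl⟩
    have hVh' : ∀ y ∈ W.map q, hb⁻¹ y ∈ W.map q := by
      rintro _ ⟨w, hw, rfl⟩
      have h1 : q w = hb (q (h⁻¹ w)) := by rw [hhb, MulAut.apply_inv_self]
      rw [h1, MulAut.inv_apply_self]
      exact ⟨_, hWA h⁻¹ (A.inv_mem (hHA hh)) w hw, rfl⟩
    let f : MulAut (W.map q) :=
      { toFun := fun y => ⟨hb y, hVh y y.2⟩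
        invFun := fun y => ⟨hb⁻¹ y, hVh' y y.2⟩
        left_inv := fun y => Subtype.ext (MulAut.inv_apply_self _ hb y)
        right_inv := fun y => Subtype.ext (MulAut.apply_inv_self _ hb y)
        map_mul' := fun x y => Subtype.ext (map_mul hb _ _) }
    have hfy : ∀ y : W.map q, ((f y : W.map q) : P ⧸ N) = hb y := fun y => rfl
    have hfn : ∀ n : ℕ, ∀ y : W.map q, (((f ^ n) y : W.map q) : P ⧸ N) = (hb ^ n) y := by
      intro n
      induction n with
      | zero => intro y; rfl
      | succ n ih =>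
        intro y
        rw [pow_succ', pow_succ']
        show hb (((f ^ n) y : W.map q) : P ⧸ N) = hb ((hb ^ n) y)
        rw [ih]
    have hbn : ∀ n : ℕ, ∀ x, (hb ^ n) (q x) = q ((h ^ n) x) := by
      intro n
      induction n with
      | zero => intro y; rfl
      | succ n ih =>
        intro y
        rw [pow_succ', pow_succ']
        show hb ((hb ^ n) (q y)) = q (h ((h ^ n) y))
        rw [ih, hhb]
    haveI : Nontrivial (W.map q) := by
      rw [Subgroup.nontrivial_iff_ne_bot]
      intro h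
      rw [Subgroup.map_eq_bot_iff, hq, QuotientGroup.ker_mk'] at h
      exact hNW.not_ge h
    obtain ⟨a, v, hv1, hv⟩ := eig (p := p) (V := W.map q) (by
      rintro ⟨_, x, hx, rfl⟩ y
      apply Subtype.ext
      exact (Subgroup.mem_center_iff.1 (hWc x hx).1 y).symm) (by
      rintro ⟨_, x, hx, rfl⟩
      exact Subtype.ext (hWc x hx).2) f (by
      apply MulEquiv.ext
      rintro ⟨_, x, hx, rfl⟩
      apply Subtype.ext
      rw [hfn]
      show (hb ^ (p - 1)) (q x) = q x
      rw [hbn, hHe h hh]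
      rfl)
    refine ⟨a, ?_⟩
    let Ua : Subgroup P :=
      { carrier := {w | w ∈ W ∧ q (h w) = (q w) ^ a}
        one_mem' := ⟨W.one_mem, by simp⟩
        mul_mem' := by
          rintro x y ⟨hx, hx'⟩ ⟨hy, hy'⟩
          refine ⟨W.mul_mem hx hy, ?_⟩
          rw [map_mul, map_mul, hx', hy', map_mul, (show Commute (q x) (q y) from Subgroup.mem_center_iff.1 (hWc y hy).1 _).mul_pow]
        inv_mem' := by
          rintro x ⟨hx, hx'⟩
          refine ⟨W.inv_mem hx, ?_⟩
          rw [map_inv, map_inv, hx', map_inv, inv_pow] }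
    have hUaW : Ua ≤ W := fun x hx => hx.1
    have hUa : Ua = W := by
      refine hmin' Ua ?_ hUaW ?_
      rotate_left
      · rintro α hα x ⟨hx1, hx2⟩
        refine ⟨hWA α hα x hx1, ?_⟩
        obtain ⟨g, k, hk, rfl⟩ := hA α hα
        have hinner : ∀ y ∈ W, q (MulAut.conj g y) = q y := by
          intro y hy
          rw [MulAut.conj_apply, map_mul, map_mul, Subgroup.mem_center_iff.1 (hWc y hy).1 (q g), mul_assoc, ← map_mul,
            mul_inv_cancel, map_one, mul_one]
        have hkx := hWA k (hHA hk) x hx1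
        have h1 : (MulAut.conj g * k) x = MulAut.conj g (k x) := rfl
        obtain ⟨kb, hkb⟩ := hind k (hHA hk)
        -- h (conj g (k x)) = conj (h g) (h (k x))
        have h2 : h (MulAut.conj g (k x)) = MulAut.conj (h g) (h (k x)) := by
          rw [MulAut.conj_apply, MulAut.conj_apply, map_mul, map_mul, map_inv]
        have hinner2 : ∀ y ∈ W, q (MulAut.conj (h g) y) = q y := by
          intro y hy
          rw [MulAut.conj_apply, map_mul, map_mul, Subgroup.mem_center_iff.1 (hWc y hy).1 (q (h g)), mul_assoc, ← map_mul,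
            mul_inv_cancel, map_one, mul_one]
        have h3 : h (k x) = k (h x) := by
          have := congrArg (fun γ : MulAut P => γ x) (hHc h hh k hk)
          exact this
        rw [h1, h2, hinner2 _ (hWA h (hHA hh) _ hkx), hinner _ hkx, h3, ← hkb, hx2, map_pow, hkb]
      · refine lt_of_le_of_ne ?_ ?_
        · intro x hx
          refine ⟨hNW.le hx, ?_⟩
          rw [(hq1 x).2 hx, one_pow]
          exact (hq1 _).2 (hN h (hHA hh) x hx)
        · intro heq
          obtain ⟨w, hw, hwv⟩ := v.2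
          have h4 : w ∈ Ua := by
            refine ⟨hw, ?_⟩
            have h5 := congrArg Subtype.val hv
            have h6 : hb (v : P ⧸ N) = (v : P ⧸ N) ^ a := h5
            rw [← hwv, hhb] at h6
            exact h6
          rw [← heq] at h4
          apply hv1
          apply Subtype.ext
          rw [← hwv]
          exact (hq1 w).2 h4
    intro w hw
    rw [← hUa] at hw
    exact hw.2
  -- step (iii)
  obtain ⟨w0, hw0, hw0N⟩ : ∃ w ∈ W, w ∉ N := by
    by_contra hno
    push Not at hno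
    exact hNW.not_ge hno
  have hM : N ⊔ Subgroup.zpowers w0 = W := by
    have hmem : ∀ y, y ∈ N ⊔ Subgroup.zpowers w0 ↔ q y ∈ Subgroup.zpowers (q w0) := by
      intro y
      have h2 : (Subgroup.zpowers (q w0)).comap q = N ⊔ Subgroup.zpowers w0 := by
        rw [← MonoidHom.map_zpowers, Subgroup.comap_map_eq, hq, QuotientGroup.ker_mk', sup_comm]
      rw [← h2, Subgroup.mem_comap]
    apply hmin'
    · refine lt_of_le_of_ne le_sup_left ?_
      intro heq
      exact hw0N (heq ▸ Subgroup.mem_sup_right (Subgroup.mem_zpowers w0))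
    · exact sup_le hNW.le (by rw [Subgroup.zpowers_le]; exact hw0)
    · intro α hα x hx
      have hxW : x ∈ W := (sup_le hNW.le (by rw [Subgroup.zpowers_le]; exact hw0) : N ⊔ Subgroup.zpowers w0 ≤ W) hx
      obtain ⟨g, k, hk, rfl⟩ := hA α hα
      obtain ⟨a, ha⟩ := hsc k hk
      have hkx := hWA k (hHA hk) x hxW
      rw [hmem] at hx ⊢
      have h1 : (MulAut.conj g * k) x = MulAut.conj g (k x) := rfl
      have h2 : q (MulAut.conj g (k x)) = q (k x) := by
        rw [MulAut.conj_apply, map_mul, map_mul, Subgroup.mem_center_iff.1 (hWc _ hkx).1 (q g), mul_assoc, ← map_mul,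
          mul_inv_cancel, map_one, mul_one]
      rw [h1, h2, ha x hxW]
      exact Subgroup.pow_mem _ hx a
  refine ⟨W, hNW.le, hNW.ne, hWA, ?_⟩
  rw [← hM]
  haveI : (N.subgroupOf (⊤ : Subgroup P)).Normal := inferInstance
  exact sup_zpowers_relIndex (S := ⊤) le_top trivial ((hq1 _).1 (by rw [map_pow]; exact (hWc w0 hw0).2))

end CfsgLib.Fus21
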