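import Cfsg.Agent.LibFus21Sup3

set_option autoImplicit false

/-! Supersoluble fusion systems: the criterion. -/

namespace CfsgLib.Fus21

open Cfsg Cfsg.FusionSystem

variable {Ω : Type*} [Group Ω] {S : Subgroup Ω}

theorem sc_of_aut {F : FusionSystem S} (hSn : F.IsNormal S) {K : Subgroup Ω} (hK : K ≤ S)
    (h : ∀ α ∈ F.autGroup S, ∀ x : S, (x : Ω) ∈ K → ((α x : S) : Ω) ∈ K) : F.StronglyClosed K := by
  refine ⟨hK, fun R hR φ hφ x => ?_⟩
  obtain ⟨ψ, hψ, h1, κ, hκ⟩ := normal_aut hSn hφ
  have hκA : κ ∈ F.autGroup S := aut_mem_of_hom (restrict_mem hψ (le_sup_right : S ≤ R ⊔ S)) fun x => (hκ x x.2).symm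
  have hxS : (x : Ω) ∈ S := hK (hR x.2)
  rw [← h1 x x.2]
  rw [show ψ ⟨(x : Ω), Subgroup.mem_sup_left x.2⟩ = κ ⟨x, hxS⟩ from hκ x hxS]
  exact h κ hκA ⟨x, hxS⟩ (hR x.2)

theorem steps_of_resistant [Finite S] {p : ℕ} [hp : Fact p.Prime] (hS : IsPGroup p S) {F : FusionSystem S} (hF : F.IsSaturated p)
    (hSn : F.IsNormal S) (hH : ∀ H : Subgroup (MulAut S), (Nat.card H).Coprime p → IsMulCommutative H ∧ ∀ h ∈ H, h ^ (p - 1) = 1) :
    Relation.ReflTransGen (PStep F p) ⊥ S := by
  set A := F.autGroup S with hA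
  have hInn : Inn S ≤ A := Inn_le_autGroup F le_rfl
  haveI : Finite A := finite_autGroup F (le_refl S)
  haveI hNn : ((Inn S).subgroupOf A).Normal := by
    refine ⟨?_⟩
    rintro ⟨x, hx⟩ ⟨g, hg⟩ a
    have hg' : MulAut.conj g = x := hg
    refine ⟨(a : MulAut S) g, ?_⟩
    apply MulEquiv.ext
    intro y
    show (a : MulAut S) g * y * ((a : MulAut S) g)⁻¹ = (a : MulAut S) (x ((a : MulAut S)⁻¹ y))
    rw [← hg', MulAut.conj_apply, map_mul, map_mul, map_inv, MulAut.apply_inv_self]
  have h8 := (fullyAutomized_iff hS).1 (sat_fn hS hF (fullyNormalized_S F)).2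
  rw [autInducedBy_self] at h8
  have hpN : IsPGroup p ((Inn S).subgroupOf A) := by
    have h1 : IsPGroup p (Inn S) := hS.of_surjective (MulAut.conj : S →* MulAut S).rangeRestrict (MonoidHom.rangeRestrict_surjective _)
    exact h1.comap_subtype
  have hcop : (Nat.card ((Inn S).subgroupOf A)).Coprime ((Inn S).subgroupOf A).index := by
    obtain ⟨k, hk⟩ := IsPGroup.iff_card.1 hpN
    rw [hk]
    exact Nat.Coprime.pow_left k ((Nat.Prime.coprime_iff_not_dvd hp.out).2 h8.2)
  obtain ⟨K, hK⟩ := Subgroup.exists_right_complement'_of_coprime hcop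
  have hKc : (Nat.card (K.map A.subtype)).Coprime p := by
    rw [Subgroup.card_map_of_injective A.subtype_injective, ← hK.symm.index_eq_card]
    exact ((Nat.Prime.coprime_iff_not_dvd hp.out).2 h8.2).symm
  obtain ⟨hHc, hHe⟩ := hH _ hKc
  have hdec : ∀ α ∈ A, ∃ g : S, ∃ h ∈ K.map A.subtype, α = MulAut.conj g * h := by
    intro α hα
    have h1 : (⟨α, hα⟩ : A) ∈ ((Inn S).subgroupOf A) ⊔ K := by rw [hK.sup_eq_top]; trivial
    obtain ⟨n, hn, k, hk, hnk⟩ := Subgroup.mem_sup_of_normal_left.1 h1
    obtain ⟨g, hg⟩ := hn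
    refine ⟨g, k, ⟨k, hk, rfl⟩, ?_⟩
    have h2 := congrArg Subtype.val hnk
    have hg' : MulAut.conj g = (n : MulAut S) := hg
    rw [hg']
    exact h2.symm
  have key : ∀ n : ℕ, ∀ N : Subgroup Ω, F.StronglyClosed N → (N.subgroupOf S).index ≤ n → Relation.ReflTransGen (PStep F p) N S := by
    intro n
    induction n with
    | zero =>
      intro N hN h
      have : (N.subgroupOf S).index ≠ 0 := Subgroup.FiniteIndex.index_ne_zero
      omega
    | succ n ih =>
      intro N hN h
      by_cases hNS : N = S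
      · have h2 : ∀ T, T = S → Relation.ReflTransGen (PStep F p) T S := by
          intro T hT
          exact Eq.mpr (congrArg (fun T => Relation.ReflTransGen (PStep F p) T S) hT) Relation.ReflTransGen.refl
        exact h2 N hNS
      · have hNt : N.subgroupOf S ≠ ⊤ := by
          intro h1
          rw [Subgroup.subgroupOf_eq_top] at h1
          exact hNS (le_antisymm hN.1 h1)
        obtain ⟨M, hNM, hne, hMA, hidx⟩ := exists_step hS (A := A) (H := K.map A.subtype) (fun g => hInn ⟨g, rfl⟩) (by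
          rintro _ ⟨k, -, rfl⟩; exact k.2) hdec (fun h hh k hk => congrArg Subtype.val (hHc.is_comm.comm (⟨h, hh⟩ : K.map A.subtype) ⟨k, hk⟩))
          hHe (N := N.subgroupOf S) (fun α hα x hx => (stronglyClosed_aut hN le_rfl hα x).2 hx) hNt
        have hMS : M.map S.subtype ≤ S := by rintro _ ⟨x, -, rfl⟩; exact x.2
        have hMs : (M.map S.subtype).subgroupOf S = M := Subgroup.comap_map_eq_self_of_injective S.subtype_injective M
        have hMsc : F.StronglyClosed (M.map S.subtype) := by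
          refine sc_of_aut hSn hMS fun α hα x hx => ?_
          have hx' : x ∈ M := by rw [← hMs]; exact hx
          exact ⟨_, hMA α hα x hx', rfl⟩
        have hNM' : N ≤ M.map S.subtype := by
          intro x hx
          exact ⟨⟨x, hN.1 hx⟩, hNM hx, rfl⟩
        refine Relation.ReflTransGen.head (b := M.map S.subtype) ⟨hNM', hN, hMsc, ?_⟩ (ih _ hMsc ?_)
        · rw [← Subgroup.relIndex_subgroupOf hMS, hMs]; exact hidx
        · rw [hMs]
          obtain ⟨w, hw, hwN⟩ : ∃ w ∈ M, w ∉ N.subgroupOf S := by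
            by_contra hno
            push Not at hno
            exact hne (le_antisymm hNM hno)
          have h3 := Subgroup.relIndex_mul_index hNM
          have h4 : (N.subgroupOf S).relIndex M ≠ 1 := fun h => hwN ((Subgroup.relIndex_eq_one.1 h) hw)
          have h5 : (N.subgroupOf S).relIndex M ≠ 0 := Subgroup.FiniteIndex.index_ne_zero
          have h6 : M.index ≠ 0 := Subgroup.FiniteIndex.index_ne_zero
          have h7 : 2 ≤ (N.subgroupOf S).relIndex M := by omega
          have h9 : 0 < M.index := Nat.pos_of_ne_zero h6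
          nlinarith
  exact key _ ⊥ (stronglyClosed_bot F) le_rfl

theorem supSol_iff [Finite S] {p : ℕ} [hp : Fact p.Prime] (hS : IsPGroup p S) :
    (∀ F : FusionSystem S, F.IsSaturated p → SupSol F) ↔ (∀ F : FusionSystem S, F.IsSaturated p → F.IsNormal S) ∧
      ∀ H : Subgroup (MulAut S), (Nat.card H).Coprime p → IsMulCommutative H ∧ ∀ h ∈ H, h ^ (p - 1) = 1 := by
  constructor
  · intro h
    refine ⟨fun F hF => isNormal_of_steps hS hF (steps_of_supSol hS (h F hF)), fun H hH => ?_⟩
    have hsat := sdSys_saturated hS hH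
    obtain ⟨n, c, h0, hn, hm, hsc, hidx⟩ := natChain_of (steps_of_supSol hS (h _ hsat)) (stronglyClosed_bot _)
    refine abelian_of_pchain hS hH (c := fun i => (c i).subgroupOf S) (n := n) ?_ ?_ ?_ ?_ ?_ ?_
    · rw [h0]; simp
    · rw [hn, Subgroup.subgroupOf_self]
    · intro i j hij x hx
      exact hm hij hx
    · intro i
      exact sc_normal_inst (hsc i)
    · intro α hα i x hx
      have h1 : S.subtype.comp α.toMonoidHom ∈ (sdSys S H).Hom S := by
        rw [mem_sdSys]
        refine ⟨le_rfl, α, hα, 1, fun x => ?_⟩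
        simp
      exact (stronglyClosed_mem_iff (hsc i) h1 x).2 hx
    · intro i hi
      show ((c i).subgroupOf S).relIndex ((c (i + 1)).subgroupOf S) ∣ p
      rw [Subgroup.relIndex_subgroupOf (hsc (i + 1)).1]
      exact hidx i hi
  · rintro ⟨h1, h2⟩ F hF
    exact supSol_of_steps (steps_of_resistant hS hF (h1 F hF) h2)

end CfsgLib.Fus21
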