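import Cfsg.Agent.LibFus21Sup4
import Cfsg.Agent.LibFus21E4

set_option autoImplicit false

/-! Supersoluble fusion systems over abelian groups. -/

namespace CfsgLib.Fus21

open Cfsg Cfsg.FusionSystem

/-- the rank condition -/
def RankOne (P : Type*) [Group P] (p : ℕ) : Prop :=
  ∀ (j : ℕ) (x y : P), x ^ p = 1 → y ^ p = 1 → (∃ a, a ^ p ^ j = x) → (∃ b, b ^ p ^ j = y) → (¬ ∃ c, c ^ p ^ (j + 1) = x) →
    ∃ m : ℤ, ∃ d, d ^ p ^ (j + 1) = y * x ^ m

theorem RankOne.congr {P Q : Type*} [Group P] [Group Q] {p : ℕ} (e : P ≃* Q) (h : RankOne P p) : RankOne Q p := by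
  intro j x y hx hy hxj hyj hxn
  obtain ⟨a, ha⟩ := hxj
  obtain ⟨b, hb⟩ := hyj
  obtain ⟨m, d, hd⟩ := h j (e.symm x) (e.symm y) (by rw [← map_pow, hx, map_one]) (by rw [← map_pow, hy, map_one])
    ⟨e.symm a, by rw [← map_pow, ha]⟩ ⟨e.symm b, by rw [← map_pow, hb]⟩ (by
      rintro ⟨c, hc⟩
      apply hxn
      exact ⟨e c, by rw [← map_pow, hc, MulEquiv.apply_symm_apply]⟩)
  refine ⟨m, e d, ?_⟩
  rw [← map_pow, hd, map_mul, map_zpow, MulEquiv.apply_symm_apply, MulEquiv.apply_symm_apply]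

theorem cyc_root {C : Type*} [Group C] [IsCyclic C] [Finite C] {m k : ℕ} (hC : Nat.card C = m * k) {w : C} (hw : w ^ m = 1) :
    ∃ u, u ^ k = w := by
  obtain ⟨g, hg⟩ := IsCyclic.exists_generator (α := C)
  obtain ⟨n, rfl⟩ := hg w
  have ho : orderOf g = m * k := by rw [← hC]; exact orderOf_eq_card_of_forall_mem_zpowers hg
  have hmk : m * k ≠ 0 := by rw [← hC]; exact Nat.card_pos.ne'
  have h1 : g ^ (n * (m : ℤ)) = 1 := by
    rw [zpow_mul]; simpa using hw
  have h2 := orderOf_dvd_iff_zpow_eq_one.2 h1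
  rw [ho] at h2
  have h3 : (k : ℤ) ∣ n := by
    rw [Nat.cast_mul, mul_comm (m : ℤ)] at h2
    exact Int.dvd_of_mul_dvd_mul_right (by
      have : m ≠ 0 := fun h => hmk (by rw [h, zero_mul])
      exact_mod_cast this) h2
  obtain ⟨t, rfl⟩ := h3
  refine ⟨g ^ t, ?_⟩
  show (g ^ t) ^ k = g ^ ((k : ℤ) * t)
  rw [mul_comm, zpow_mul, zpow_natCast]

theorem cyc_prime {C : Type*} [Group C] [IsCyclic C] [Finite C] {p : ℕ} [hp : Fact p.Prime] {x y : C} (hx : x ^ p = 1) (hy : y ^ p = 1)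
    (hx1 : x ≠ 1) : y ∈ Subgroup.zpowers x := by
  have ho : orderOf x = p := orderOf_eq_prime hx hx1
  classical
  by_contra hno
  have hcard : Nat.card (Subgroup.zpowers x) = p := by rw [Nat.card_zpowers, ho]
  haveI : Fintype C := Fintype.ofFinite C
  have h2 : (insert y ((Subgroup.zpowers x : Set C).toFinite.toFinset)).card ≤ p := by
    refine le_trans (Finset.card_le_card ?_) (IsCyclic.card_pow_eq_one_le (α := C) (n := p) hp.out.pos)
    intro z hz
    rw [Finset.mem_insert] at hz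
    rw [Finset.mem_filter]
    refine ⟨Finset.mem_univ _, ?_⟩
    rcases hz with rfl | hz
    · exact hy
    · rw [Set.Finite.mem_toFinset] at hz
      obtain ⟨n, rfl⟩ := hz
      show (x ^ n) ^ p = 1
      rw [← zpow_natCast, ← zpow_mul, mul_comm, zpow_mul, zpow_natCast, hx, one_zpow]
  rw [Finset.card_insert_of_notMem (by rw [Set.Finite.mem_toFinset]; exact hno)] at h2
  have h3 : ((Subgroup.zpowers x : Set C).toFinite.toFinset).card = p := by
    rw [← Set.ncard_eq_toFinset_card, ← Nat.card_coe_set_eq]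
    exact hcard
  omega

theorem rankOne_pi {p : ℕ} [hp : Fact p.Prime] {ι : Type*} (M : ι → Type*) [∀ i, Group (M i)] [∀ i, IsCyclic (M i)] [∀ i, Finite (M i)]
    (e : ι → ℕ) (he : Function.Injective e) (hcard : ∀ i, Nat.card (M i) = p ^ e i) : RankOne ((i : ι) → M i) p := by
  classical
  intro j x y hx hy hxj hyj hxn
  obtain ⟨a, ha⟩ := hxj
  obtain ⟨b, hb⟩ := hyj
  -- coordinates away from e i = j + 1
  have key : ∀ i, e i ≠ j + 1 → ∀ w : M i, (w ^ p ^ j) ^ p = 1 → ∃ u : M i, u ^ p ^ (j + 1) = w ^ p ^ j := by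
    intro i hi w hw
    rcases Nat.lt_or_ge (e i) (j + 1) with h | h
    · refine ⟨1, ?_⟩
      have h1 : w ^ p ^ e i = 1 := by rw [← hcard i]; exact pow_card_eq_one'
      have h2 : p ^ j = p ^ e i * p ^ (j - e i) := by rw [← pow_add]; congr 1; omega
      rw [h2, pow_mul, h1, one_pow, one_pow]
    · have h2 : e i = (j + 1) + (e i - (j + 1)) := by omega
      have h3 : Nat.card (M i) = p ^ (j + 1) * p ^ (e i - (j + 1)) := by rw [hcard, ← pow_add, ← h2]
      obtain ⟨u, hu⟩ := cyc_root h3 (w := w) (by rw [pow_succ, pow_mul]; exact hw)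
      have h4 : e i - (j + 1) = (e i - (j + 1) - 1) + 1 := by omega
      refine ⟨u ^ p ^ (e i - (j + 1) - 1), ?_⟩
      rw [← hu, ← pow_mul, ← pow_mul, ← pow_add, ← pow_add]
      congr 2; omega
  have hxi : ∀ i, x i = (a i) ^ p ^ j := fun i => by rw [← ha]; rfl
  have hyi : ∀ i, y i = (b i) ^ p ^ j := fun i => by rw [← hb]; rfl
  have hxp : ∀ i, (x i) ^ p = 1 := fun i => congrFun hx i
  have hyp : ∀ i, (y i) ^ p = 1 := fun i => congrFun hy i
  have hex : ∃ i, ¬ ∃ u : M i, u ^ p ^ (j + 1) = x i := by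
    by_contra hno
    push Not at hno
    choose u hu using hno
    exact hxn ⟨u, funext hu⟩
  obtain ⟨i0, hi0⟩ := hex
  have he0 : e i0 = j + 1 := by
    by_contra h
    apply hi0
    obtain ⟨u, hu⟩ := key i0 h (a i0) (by rw [← hxi, hxp])
    exact ⟨u, by rw [hu, ← hxi]⟩
  have hx1 : x i0 ≠ 1 := fun h => hi0 ⟨1, by rw [one_pow, h]⟩
  obtain ⟨m, hm⟩ := cyc_prime (hxp i0) (hyp i0) hx1
  have hm' : x i0 ^ m = y i0 := hm
  refine ⟨-m, ?_⟩
  have hall : ∀ i, ∃ d : M i, d ^ p ^ (j + 1) = (y * x ^ (-m)) i := by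
    intro i
    by_cases h : e i = j + 1
    · have : i = i0 := he (h.trans he0.symm)
      subst this
      refine ⟨1, ?_⟩
      show _ = y i * (x i) ^ (-m)
      rw [zpow_neg, hm', mul_inv_cancel, one_pow]
    · obtain ⟨u, hu⟩ := key i h (a i) (by rw [← hxi, hxp])
      obtain ⟨v, hv⟩ := key i h (b i) (by rw [← hyi, hyp])
      letI := IsCyclic.commGroup (α := M i)
      refine ⟨v * u ^ (-m), ?_⟩
      show _ = y i * (x i) ^ (-m)
      rw [mul_pow, hv, ← hyi]
      congr 1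
      rw [hxi, ← hu]
      have h5 : (u ^ (-m)) ^ p ^ (j + 1) = (u ^ p ^ (j + 1)) ^ (-m) := by
        rw [← zpow_natCast, ← zpow_mul, ← zpow_natCast, ← zpow_mul, mul_comm]
      exact h5
  choose d hd using hall
  exact ⟨d, funext hd⟩

section chain

variable {P : Type*} [Group P] {p : ℕ}

/-- the layers -/
def Wl (hc : ∀ x y : P, x * y = y * x) (p k j : ℕ) : Subgroup P where
  carrier := {x | x ^ p ^ (k + 1) = 1 ∧ ∃ a, a ^ p ^ j = x ^ p ^ k}
  one_mem' := ⟨one_pow _, 1, by rw [one_pow, one_pow]⟩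
  mul_mem' := by
    rintro x y ⟨hx, a, ha⟩ ⟨hy, b, hb⟩
    have h1 : Commute x y := hc x y
    have h2 : Commute a b := hc a b
    exact ⟨by rw [h1.mul_pow, hx, hy, one_mul], a * b, by rw [h2.mul_pow, h1.mul_pow, ha, hb]⟩
  inv_mem' := by
    rintro x ⟨hx, a, ha⟩
    exact ⟨by rw [inv_pow, hx, inv_one], a⁻¹, by rw [inv_pow, ha, inv_pow]⟩

theorem mem_Wl {hc : ∀ x y : P, x * y = y * x} {k j : ℕ} {x : P} :
    x ∈ Wl hc p k j ↔ x ^ p ^ (k + 1) = 1 ∧ ∃ a, a ^ p ^ j = x ^ p ^ k := Iff.rfl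

theorem Wl_zero {hc : ∀ x y : P, x * y = y * x} {k : ℕ} {x : P} : x ∈ Wl hc p k 0 ↔ x ^ p ^ (k + 1) = 1 := by
  rw [mem_Wl]
  constructor
  · exact fun h => h.1
  · exact fun h => ⟨h, x ^ p ^ k, by rw [pow_zero, pow_one]⟩

theorem Wl_top {hc : ∀ x y : P, x * y = y * x} {k e : ℕ} (he : ∀ x : P, x ^ p ^ e = 1) {x : P} : x ∈ Wl hc p k e ↔ x ^ p ^ k = 1 := by
  rw [mem_Wl]
  constructor
  · rintro ⟨-, a, ha⟩
    rw [← ha, he]
  · intro h
    exact ⟨by rw [pow_succ, pow_mul, h, one_pow], 1, by rw [one_pow, h]⟩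

theorem Wl_char {hc : ∀ x y : P, x * y = y * x} {k j : ℕ} (α : MulAut P) {x : P} (hx : x ∈ Wl hc p k j) : α x ∈ Wl hc p k j := by
  obtain ⟨h1, a, ha⟩ := hx
  exact ⟨by rw [← map_pow, h1, map_one], α a, by rw [← map_pow, ha, map_pow]⟩

theorem Wl_le {hc : ∀ x y : P, x * y = y * x} {k j : ℕ} : Wl hc p k (j + 1) ≤ Wl hc p k j := by
  rintro x ⟨h1, a, ha⟩
  exact ⟨h1, a ^ p, by rw [← pow_mul, mul_comm, ← pow_succ, ha]⟩

theorem Wl_index [Finite P] [hp : Fact p.Prime] {hc : ∀ x y : P, x * y = y * x} (hR : RankOne P p) (k j : ℕ) :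
    (Wl hc p k (j + 1)).relIndex (Wl hc p k j) ∣ p := by
  by_cases h : ∀ x ∈ Wl hc p k j, x ∈ Wl hc p k (j + 1)
  · rw [Subgroup.relIndex_eq_one.2 h]; exact one_dvd _
  · push Not at h
    obtain ⟨x, hx, hxn⟩ := h
    obtain ⟨hx1, a, ha⟩ := hx
    have hxn' : ¬ ∃ c, c ^ p ^ (j + 1) = x ^ p ^ k := fun ⟨c, hc'⟩ => hxn ⟨hx1, c, hc'⟩
    have hle : Wl hc p k (j + 1) ⊔ Subgroup.zpowers x = Wl hc p k j := by
      apply le_antisymm
      · exact sup_le Wl_le (by rw [Subgroup.zpowers_le]; exact ⟨hx1, a, ha⟩)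
      · rintro y ⟨hy1, b, hb⟩
        obtain ⟨m, d, hd⟩ := hR j (x ^ p ^ k) (y ^ p ^ k) (by rw [← pow_mul, ← pow_succ]; exact hx1)
          (by rw [← pow_mul, ← pow_succ]; exact hy1) ⟨a, ha⟩ ⟨b, hb⟩ hxn'
        have h1 : y * x ^ m ∈ Wl hc p k (j + 1) := by
          have hcm : Commute y (x ^ m) := hc _ _
          refine ⟨?_, d, ?_⟩
          · rw [hcm.mul_pow, hy1, one_mul, ← zpow_natCast, ← zpow_mul, mul_comm, zpow_mul, zpow_natCast, hx1, one_zpow]
          · rw [hd, hcm.mul_pow]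
            congr 1
            rw [← zpow_natCast, ← zpow_mul, ← zpow_natCast, ← zpow_mul, mul_comm]
        have h2 : y = (y * x ^ m) * (x ^ m)⁻¹ := by group
        rw [h2]
        exact Subgroup.mul_mem _ (Subgroup.mem_sup_left h1) (Subgroup.inv_mem _ (Subgroup.mem_sup_right (Subgroup.zpow_mem _ (Subgroup.mem_zpowers x) _)))
    rw [← hle]
    haveI : ((Wl hc p k (j + 1)).subgroupOf (⊤ : Subgroup P)).Normal := ⟨fun z hz g => by
      have : g * z * g⁻¹ = z := Subtype.ext (by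
        show (g : P) * z * (g : P)⁻¹ = z
        rw [hc g z, mul_inv_cancel_right])
      rw [this]; exact hz⟩
    refine sup_zpowers_relIndex (S := ⊤) le_top trivial ⟨?_, 1, ?_⟩
    · rw [← pow_mul, mul_comm, pow_mul, hx1, one_pow]
    · rw [one_pow, ← pow_mul, ← pow_succ', hx1]

end chain

theorem steps_of_rankOne {Ω : Type*} [Group Ω] {S : Subgroup Ω} [Finite S] {p : ℕ} [hp : Fact p.Prime] (hS : IsPGroup p S)
    (hab : ∀ x y : S, x * y = y * x) (hR : RankOne S p) {F : FusionSystem S} (hSn : F.IsNormal S) :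
    Relation.ReflTransGen (PStep F p) ⊥ S := by
  obtain ⟨e, he⟩ : ∃ e, ∀ x : S, x ^ p ^ e = 1 := by
    obtain ⟨n, hn⟩ := IsPGroup.iff_card.1 hS
    exact ⟨n, fun x => by rw [← hn]; exact pow_card_eq_one'⟩
  let U : ℕ → ℕ → Subgroup Ω := fun k j => (Wl hab p k j).map S.subtype
  have hUS : ∀ k j, U k j ≤ S := by rintro k j _ ⟨x, -, rfl⟩; exact x.2
  have hUs : ∀ k j, (U k j).subgroupOf S = Wl hab p k j := fun k j => Subgroup.comap_map_eq_self_of_injective S.subtype_injective _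
  have hsc : ∀ k j, F.StronglyClosed (U k j) := by
    intro k j
    refine sc_of_aut hSn (hUS k j) fun α hα x hx => ?_
    have hx' : x ∈ Wl hab p k j := by rw [← hUs]; exact hx
    exact ⟨_, Wl_char α hx', rfl⟩
  have hstep : ∀ k j, PStep F p (U k (j + 1)) (U k j) := by
    intro k j
    refine ⟨Subgroup.map_mono Wl_le, hsc _ _, hsc _ _, ?_⟩
    rw [← Subgroup.relIndex_subgroupOf (hUS k j), hUs, hUs]
    exact Wl_index hR k j
  have hrow : ∀ k j, Relation.ReflTransGen (PStep F p) (U k j) (U k 0) := by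
    intro k j
    induction j with
    | zero => exact Relation.ReflTransGen.refl
    | succ j ih => exact Relation.ReflTransGen.head (hstep k j) ih
  have hlink : ∀ k, U (k + 1) e = U k 0 := by
    intro k
    show (Wl hab p (k + 1) e).map _ = (Wl hab p k 0).map _
    congr 1
    ext x
    rw [Wl_top he, Wl_zero]
  have hall : ∀ k, Relation.ReflTransGen (PStep F p) (U 0 e) (U k 0) := by
    intro k
    induction k with
    | zero => exact hrow 0 e
    | succ k ih =>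
      refine ih.trans ?_
      rw [← hlink]
      exact hrow _ _
  have h0 : U 0 e = ⊥ := by
    rw [eq_bot_iff]
    rintro _ ⟨x, hx, rfl⟩
    have := (Wl_top he).1 hx
    rw [pow_zero, pow_one] at this
    rw [this]
    exact Subgroup.one_mem _
  have hS' : U e 0 = S := by
    apply le_antisymm (hUS _ _)
    intro x hx
    refine ⟨⟨x, hx⟩, Wl_zero.2 ?_, rfl⟩
    rw [pow_succ, pow_mul, he, one_pow]
  have h1 := hall e
  rw [h0] at h1
  have h2 : ∀ T, T = S → Relation.ReflTransGen (PStep F p) ⊥ T → Relation.ReflTransGen (PStep F p) ⊥ S := by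
    intro T hT h
    exact Eq.mp (congrArg (fun T => Relation.ReflTransGen (PStep F p) ⊥ T) hT) h
  exact h2 _ hS' h1

end CfsgLib.Fus21
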