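import Cfsg.Agent.LibFus21Sup5

set_option autoImplicit false

/-! Supersoluble fusion systems over abelian groups: the classification. -/

namespace CfsgLib.Fus21

open Cfsg Cfsg.FusionSystem

theorem rankOne_of_not {P : Type*} [Group P] [Finite P] {p : ℕ} [hp : Fact p.Prime] (hP : IsPGroup p P)
    (hc : ∀ x y : P, x * y = y * x)
    (h : ¬ ∃ (n : ℕ) (H : Type) (_ : CommGroup H), 0 < n ∧ Nonempty (P ≃* (Multiplicative (ZMod (p ^ n)) × Multiplicative (ZMod (p ^ n))) × H)) :
    RankOne P p := by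
  classical
  letI : CommGroup P := { (inferInstance : Group P) with mul_comm := hc }
  obtain ⟨ι, _, n, hn, ⟨iso⟩⟩ := CommGroup.equiv_prod_multiplicative_zmod_of_finite P
  haveI : ∀ i, NeZero (n i) := fun i => ⟨by have := hn i; omega⟩
  haveI : ∀ i, Finite (Multiplicative (ZMod (n i))) := fun i => inferInstanceAs (Finite (ZMod (n i)))
  obtain ⟨m, hm⟩ := IsPGroup.iff_card.1 hP
  have hcardpi : Nat.card P = ∏ i, n i := by
    rw [Nat.card_congr iso.toEquiv, Nat.card_pi]
    refine Finset.prod_congr rfl fun i _ => ?_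
    rw [Nat.card_congr Multiplicative.toAdd, Nat.card_zmod]
  have hpe : ∀ i, ∃ e, n i = p ^ e := by
    intro i
    have h1 : n i ∣ p ^ m := by
      rw [← hm, hcardpi]
      exact Finset.dvd_prod_of_mem n (Finset.mem_univ i)
    obtain ⟨e, -, he⟩ := (Nat.dvd_prime_pow hp.out).1 h1
    exact ⟨e, he⟩
  choose e he using hpe
  by_cases hinj : Function.Injective e
  · refine RankOne.congr iso.symm ?_
    exact rankOne_pi (fun i => Multiplicative (ZMod (n i))) e hinj fun i => by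
      rw [Nat.card_congr Multiplicative.toAdd, Nat.card_zmod, he]
  · exfalso
    apply h
    unfold Function.Injective at hinj
    push Not at hinj
    obtain ⟨i0, i1, hee, hne⟩ := hinj
    have he0 : 0 < e i0 := by
      rcases Nat.eq_zero_or_pos (e i0) with h0 | h0
      · have := hn i0
        rw [he, h0, pow_zero] at this
        omega
      · exact h0
    refine ⟨e i0, (i : {i // i ≠ i0 ∧ i ≠ i1}) → Multiplicative (ZMod (n i)), inferInstance, he0, ⟨iso.trans ?_⟩⟩
    have c0 : Multiplicative (ZMod (n i0)) ≃* Multiplicative (ZMod (p ^ e i0)) :=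
      AddEquiv.toMultiplicative (ZMod.ringEquivCongr (he i0)).toAddEquiv
    have c1 : Multiplicative (ZMod (n i1)) ≃* Multiplicative (ZMod (p ^ e i0)) :=
      AddEquiv.toMultiplicative (ZMod.ringEquivCongr (by rw [he i1, hee])).toAddEquiv
    let f : ((i : ι) → Multiplicative (ZMod (n i))) →* (Multiplicative (ZMod (p ^ e i0)) × Multiplicative (ZMod (p ^ e i0))) ×
        ((i : {i // i ≠ i0 ∧ i ≠ i1}) → Multiplicative (ZMod (n i))) :=
      { toFun := fun g => ((c0 (g i0), c1 (g i1)), fun i => g i)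
        map_one' := by
          show ((c0 1, c1 1), fun i : {i // i ≠ i0 ∧ i ≠ i1} => (1 : Multiplicative (ZMod (n i)))) = 1
          rw [map_one, map_one]
          rfl
        map_mul' := by
          intro g g'
          show ((c0 (g i0 * g' i0), c1 (g i1 * g' i1)), fun i : {i // i ≠ i0 ∧ i ≠ i1} => g i * g' i) = _
          rw [map_mul, map_mul]
          rfl }
    have hf : ∀ g, f g = ((c0 (g i0), c1 (g i1)), fun i : {i // i ≠ i0 ∧ i ≠ i1} => g i) := fun g => rfl
    refine MulEquiv.ofBijective f ⟨?_, ?_⟩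
    · intro g g' hgg
      rw [hf, hf] at hgg
      obtain ⟨h1, h2⟩ := Prod.mk.inj hgg
      obtain ⟨h3, h4⟩ := Prod.mk.inj h1
      funext i
      by_cases hi0 : i = i0
      · subst hi0; exact c0.injective h3
      by_cases hi1 : i = i1
      · subst hi1; exact c1.injective h4
      exact congrFun h2 ⟨i, hi0, hi1⟩
    · rintro ⟨⟨u, v⟩, w⟩
      let g0 : (i : ι) → Multiplicative (ZMod (n i)) := fun i => if h : i ≠ i0 ∧ i ≠ i1 then w ⟨i, h⟩ else 1
      refine ⟨Function.update (Function.update g0 i0 (c0.symm u)) i1 (c1.symm v), ?_⟩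
      rw [hf]
      congr 1
      · congr 1
        · rw [Function.update_of_ne hne, Function.update_self, MulEquiv.apply_symm_apply]
        · rw [Function.update_self, MulEquiv.apply_symm_apply]
      · funext i
        rw [Function.update_of_ne i.2.2, Function.update_of_ne i.2.1]
        show (if h : (i : ι) ≠ i0 ∧ (i : ι) ≠ i1 then w ⟨i, h⟩ else 1) = w i
        rw [dif_pos i.2]

section swap

variable {C : Type*} [CommGroup C]

/-- `(x, y) ↦ (y, (xy)⁻¹)` -/
def sig3 : MulAut (C × C) where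
  toFun v := (v.2, (v.1 * v.2)⁻¹)
  invFun v := ((v.1 * v.2)⁻¹, v.1)
  left_inv v := by
    apply Prod.ext
    · show (v.2 * (v.1 * v.2)⁻¹)⁻¹ = v.1
      group
    · rfl
  right_inv v := by
    apply Prod.ext
    · rfl
    · show ((v.1 * v.2)⁻¹ * v.1)⁻¹ = v.2
      rw [mul_inv_rev, inv_inv, inv_mul_cancel_left]
  map_mul' v w := by
    apply Prod.ext
    · rfl
    · show (v.1 * w.1 * (v.2 * w.2))⁻¹ = (v.1 * v.2)⁻¹ * (w.1 * w.2)⁻¹
      rw [← mul_inv, mul_mul_mul_comm]

theorem sig3_pow : (sig3 : MulAut (C × C)) ^ 3 = 1 := by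
  apply MulEquiv.ext
  rintro ⟨x, y⟩
  show sig3 (sig3 (sig3 (x, y))) = (x, y)
  show ((((y * (x * y)⁻¹)⁻¹) : C), (((x * y)⁻¹ * (y * (x * y)⁻¹)⁻¹)⁻¹ : C)) = (x, y)
  apply Prod.ext
  · show (y * (x * y)⁻¹)⁻¹ = x
    group
  · show ((x * y)⁻¹ * (y * (x * y)⁻¹)⁻¹)⁻¹ = y
    group

/-- swap -/
def swp : MulAut (C × C) where
  toFun v := (v.2, v.1)
  invFun v := (v.2, v.1)
  left_inv _ := rfl
  right_inv _ := rfl
  map_mul' _ _ := rfl

def inv1 : MulAut (C × C) where
  toFun v := (v.1⁻¹, v.2)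
  invFun v := (v.1⁻¹, v.2)
  left_inv v := by simp
  right_inv v := by simp
  map_mul' v w := by
    apply Prod.ext
    · show (v.1 * w.1)⁻¹ = v.1⁻¹ * w.1⁻¹
      rw [mul_inv]
    · rfl

def inv2 : MulAut (C × C) where
  toFun v := (v.1, v.2⁻¹)
  invFun v := (v.1, v.2⁻¹)
  left_inv v := by simp
  right_inv v := by simp
  map_mul' v w := by
    apply Prod.ext
    · rfl
    · show (v.2 * w.2)⁻¹ = v.2⁻¹ * w.2⁻¹
      rw [mul_inv]

theorem isPGroup_zpowers_two {G : Type*} [Group G] {g : G} (hg : g ^ 2 = 1) : IsPGroup 2 (Subgroup.zpowers g) := by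
  rintro ⟨_, n, rfl⟩
  refine ⟨1, Subtype.ext ?_⟩
  show (g ^ n) ^ 2 ^ 1 = 1
  rw [pow_one, ← zpow_natCast, ← zpow_mul, mul_comm, zpow_mul, zpow_natCast, hg, one_zpow]

theorem two_group_of {G : Type*} [Group G] {s a b : G} (h1 : a ^ 2 = 1) (h2 : b ^ 2 = 1) (h3 : s ^ 2 = 1) (h12 : a * b = b * a)
    (hs1 : s * a * s⁻¹ = b) (hs2 : s * b * s⁻¹ = a) : ∃ K : Subgroup G, s ∈ K ∧ a ∈ K ∧ IsPGroup 2 K := by
  set B := Subgroup.zpowers a ⊔ Subgroup.zpowers b with hB
  have hBp : IsPGroup 2 B := by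
    refine IsPGroup.to_sup_of_normal_right' (isPGroup_zpowers_two h1) (isPGroup_zpowers_two h2) ?_
    rw [Subgroup.zpowers_le]
    apply Subgroup.centralizer_le_normalizer
    rw [Subgroup.mem_centralizer_iff]
    rintro _ ⟨n, rfl⟩
    exact ((show Commute a b from h12).zpow_right n).eq.symm
  have hnB : Subgroup.zpowers s ≤ Subgroup.normalizer (B : Set G) := by
    rw [Subgroup.zpowers_le]
    have hmap : B.map (MulAut.conj s).toMonoidHom = B := by
      rw [hB, Subgroup.map_sup, MonoidHom.map_zpowers, MonoidHom.map_zpowers]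
      show Subgroup.zpowers (s * a * s⁻¹) ⊔ Subgroup.zpowers (s * b * s⁻¹) = _
      rw [hs1, hs2, sup_comm]
    rw [Subgroup.mem_normalizer_iff]
    intro x
    constructor
    · intro hx
      rw [← hmap]
      exact ⟨x, hx, rfl⟩
    · intro hx
      rw [← hmap] at hx
      obtain ⟨y, hy, hyx⟩ := hx
      have : y = x := (MulAut.conj s).injective hyx
      rwa [← this]
  refine ⟨Subgroup.zpowers s ⊔ B, Subgroup.mem_sup_left (Subgroup.mem_zpowers _),
    Subgroup.mem_sup_right (Subgroup.mem_sup_left (Subgroup.mem_zpowers _)), ?_⟩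
  exact IsPGroup.to_sup_of_normal_right' (isPGroup_zpowers_two h3) hBp hnB

/-- the group of signed permutations -/
theorem signed_two_group : ∃ K : Subgroup (MulAut (C × C)), swp ∈ K ∧ inv1 ∈ K ∧ IsPGroup 2 K := by
  have h1 : (inv1 : MulAut (C × C)) ^ 2 = 1 := by
    apply MulEquiv.ext; rintro ⟨x, y⟩
    show (x⁻¹⁻¹, y) = (x, y)
    rw [inv_inv]
  have h2 : (inv2 : MulAut (C × C)) ^ 2 = 1 := by
    apply MulEquiv.ext; rintro ⟨x, y⟩
    show (x, y⁻¹⁻¹) = (x, y)
    rw [inv_inv]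
  have h3 : (swp : MulAut (C × C)) ^ 2 = 1 := by
    apply MulEquiv.ext; rintro ⟨x, y⟩; rfl
  have h12 : (inv1 : MulAut (C × C)) * inv2 = inv2 * inv1 := by
    apply MulEquiv.ext; rintro ⟨x, y⟩; rfl
  have hs1 : (swp : MulAut (C × C)) * inv1 * swp⁻¹ = inv2 := by
    rw [mul_inv_eq_iff_eq_mul]
    apply MulEquiv.ext; rintro ⟨x, y⟩; rfl
  have hs2 : (swp : MulAut (C × C)) * inv2 * swp⁻¹ = inv1 := by
    rw [mul_inv_eq_iff_eq_mul]
    apply MulEquiv.ext; rintro ⟨x, y⟩; rfl
  exact two_group_of h1 h2 h3 h12 hs1 hs2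

end swap

theorem not_homocyclic {P : Type*} [Group P] [Finite P] {p : ℕ} [hp : Fact p.Prime]
    (hH : ∀ K : Subgroup (MulAut P), (Nat.card K).Coprime p → IsMulCommutative K ∧ ∀ h ∈ K, h ^ (p - 1) = 1) :
    ¬ ∃ (n : ℕ) (H : Type) (_ : CommGroup H), 0 < n ∧ Nonempty (P ≃* (Multiplicative (ZMod (p ^ n)) × Multiplicative (ZMod (p ^ n))) × H) := by
  rintro ⟨n, H, _, hn, ⟨e⟩⟩
  haveI : NeZero (p ^ n) := ⟨(pow_pos hp.out.pos n).ne'⟩
  haveI : Finite (Multiplicative (ZMod (p ^ n))) := inferInstanceAs (Finite (ZMod (p ^ n)))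
  -- the transport
  let t : MulAut (Multiplicative (ZMod (p ^ n)) × Multiplicative (ZMod (p ^ n))) →*
      MulAut ((Multiplicative (ZMod (p ^ n)) × Multiplicative (ZMod (p ^ n))) × H) :=
    MonoidHom.mk' (fun β => MulEquiv.prodCongr β (MulEquiv.refl H)) (fun β γ => by
      apply MulEquiv.ext; rintro ⟨x, y⟩; rfl)
  have ht : Function.Injective t := by
    intro β γ h
    apply MulEquiv.ext
    intro x
    have h1 := congrArg (fun δ : MulAut ((Multiplicative (ZMod (p ^ n)) × Multiplicative (ZMod (p ^ n))) × H) => (δ (x, 1)).1) h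
    exact h1
  let T := (MulAut.congr e.symm).toMonoidHom.comp t
  have hT : Function.Injective T := (MulAut.congr e.symm).injective.comp ht
  have key : ∀ K : Subgroup (MulAut (Multiplicative (ZMod (p ^ n)) × Multiplicative (ZMod (p ^ n)))), (Nat.card K).Coprime p →
      (∀ a ∈ K, ∀ b ∈ K, a * b = b * a) ∧ ∀ h ∈ K, h ^ (p - 1) = 1 := by
    intro K hK
    obtain ⟨h1, h2⟩ := hH (K.map T) (by rw [Subgroup.card_map_of_injective hT]; exact hK)
    refine ⟨fun a ha b hb => hT ?_, fun a ha => hT ?_⟩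
    · rw [map_mul, map_mul]
      exact congrArg Subtype.val (h1.is_comm.comm (⟨T a, a, ha, rfl⟩ : K.map T) ⟨T b, b, hb, rfl⟩)
    · rw [map_pow, map_one]
      exact h2 _ ⟨a, ha, rfl⟩
  -- a generator
  obtain ⟨c, hc⟩ : ∃ c : Multiplicative (ZMod (p ^ n)), orderOf c = p ^ n := by
    refine ⟨Multiplicative.ofAdd 1, ?_⟩
    rw [orderOf_ofAdd_eq_addOrderOf, ZMod.addOrderOf_one]
  have hpn : 1 < p ^ n := Nat.one_lt_pow hn.ne' hp.out.one_lt
  rcases hp.out.eq_two_or_odd' with h2 | hodd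
  · subst h2
    obtain ⟨-, h1⟩ := key (Subgroup.zpowers sig3) (by
      rw [Nat.card_zpowers]
      have : orderOf (sig3 : MulAut (Multiplicative (ZMod (2 ^ n)) × Multiplicative (ZMod (2 ^ n)))) ∣ 3 := orderOf_dvd_of_pow_eq_one sig3_pow
      exact Nat.Coprime.coprime_dvd_left this (by norm_num))
    have h3 := h1 _ (Subgroup.mem_zpowers _)
    have h4 := congrArg (fun δ : MulAut (Multiplicative (ZMod (2 ^ n)) × Multiplicative (ZMod (2 ^ n))) => (δ (c, 1)).1) h3
    have h5 : (1 : Multiplicative (ZMod (2 ^ n))) = c := h4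
    rw [← h5, orderOf_one] at hc
    omega
  · obtain ⟨K, hs, hi, hK⟩ := signed_two_group (C := Multiplicative (ZMod (p ^ n)))
    obtain ⟨h1, -⟩ := key K (by
      obtain ⟨k, hk⟩ := IsPGroup.iff_card.1 hK
      rw [hk]
      exact Nat.Coprime.pow_left k (Nat.coprime_two_left.2 hodd))
    have h3 := h1 _ hs _ hi
    have h4 := congrArg (fun δ : MulAut (Multiplicative (ZMod (p ^ n)) × Multiplicative (ZMod (p ^ n))) => (δ (c, 1)).2) h3
    have h5 : c⁻¹ = c := h4
    have h6 : c ^ 2 = 1 := by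
      rw [pow_two]
      exact inv_eq_iff_mul_eq_one.1 h5
    have h7 : p ^ n ∣ 2 := by rw [← hc]; exact orderOf_dvd_of_pow_eq_one h6
    have h8 : p ∣ 2 := (dvd_pow_self p hn.ne').trans h7
    have h9 : p = 2 := (Nat.prime_dvd_prime_iff_eq hp.out Nat.prime_two).1 h8
    rw [h9] at hodd
    exact absurd hodd (by decide)

theorem supSol_abelian {Ω : Type*} [Group Ω] {S : Subgroup Ω} [Finite S] {p : ℕ} [hp : Fact p.Prime] (hS : IsPGroup p S)
    (hab : ∀ x y : S, x * y = y * x) : (∀ F : FusionSystem S, F.IsSaturated p → SupSol F) ↔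
      ¬ ∃ (n : ℕ) (H : Type) (_ : CommGroup H), 0 < n ∧ Nonempty (S ≃* (Multiplicative (ZMod (p ^ n)) × Multiplicative (ZMod (p ^ n))) × H) := by
  constructor
  · intro h
    exact not_homocyclic ((supSol_iff hS).1 h).2
  · intro h F hF
    have hSn : F.IsNormal S := isNormal_of_abelian hS hF ⟨le_rfl, fun R _ φ hφ x => mem_S hφ x⟩ (by
      rw [Subgroup.commutator_eq_bot_iff_le_centralizer]
      intro x hx
      rw [Subgroup.mem_centralizer_iff]
      intro y hy
      exact congrArg Subtype.val (hab ⟨y, hy⟩ ⟨x, hx⟩))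
    exact supSol_of_steps (steps_of_rankOne hS hab (rankOne_of_not hS hab h) hSn)

end CfsgLib.Fus21
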