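import Cfsg.Agent.EqBase
import Mathlib
import Cfsg.Agent.LibCoprime

set_option autoImplicit false
set_option linter.unusedSectionVars false

/-!
Coprime action in external form: Maschke's theorem for elementary abelian groups, invariant Sylow subgroups,
actions on quotients.
-/

namespace CfsgLib.H7Masch

open Subgroup

/-- a retraction onto a subgroup of an elementary abelian group -/
theorem exists_retract {V : Type*} [CommGroup V] {p : ℕ} [hp : Fact p.Prime] (hV : ∀ v : V, v ^ p = 1)
    (W : Subgroup V) : ∃ π : V →* V, (∀ v, π v ∈ W) ∧ ∀ w ∈ W, π w = w := by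
  letI : Module (ZMod p) (Additive V) := AddCommGroup.zmodModule (fun x => hV x)
  let W' : Submodule (ZMod p) (Additive V) := AddSubgroup.toZModSubmodule p (Subgroup.toAddSubgroup W)
  obtain ⟨U, hU⟩ := Submodule.exists_isCompl W'
  refine ⟨AddMonoidHom.toMultiplicative (Submodule.projection W' U hU).toAddMonoidHom, ?_, ?_⟩
  · intro v
    exact Submodule.projection_apply_mem hU (Additive.ofMul v)
  · intro w hw
    exact (Submodule.projection_apply_left hU ⟨Additive.ofMul w, hw⟩)

/-- **Maschke** for elementary abelian groups -/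
theorem maschke {A V : Type*} [Group A] [Finite A] [CommGroup V] [MulDistribMulAction A V] {p : ℕ}
    [hp : Fact p.Prime] (hV : ∀ v : V, v ^ p = 1) (hcop : (Nat.card A).Coprime p) (W : Subgroup V)
    (hW : ∀ a : A, ∀ w ∈ W, a • w ∈ W) :
    ∃ U : Subgroup V, (∀ a : A, ∀ u ∈ U, a • u ∈ U) ∧ W ⊓ U = ⊥ ∧ W ⊔ U = ⊤ := by
  classical
  obtain ⟨π, hπ1, hπ2⟩ := exists_retract hV W
  letI : Fintype A := Fintype.ofFinite A
  let c : A → (V →* V) := fun a =>
    (MulDistribMulAction.toMonoidHom V a).comp (π.comp (MulDistribMulAction.toMonoidHom V a⁻¹))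
  have hc : ∀ a v, c a v = a • π (a⁻¹ • v) := fun a v => rfl
  let e : V →* V := ∏ a : A, c a
  have he : ∀ v, e v = ∏ a : A, a • π (a⁻¹ • v) := fun v => by simp [e, hc]
  have heW : ∀ v, e v ∈ W := by
    intro v
    rw [he]
    exact prod_mem fun a _ => hW a _ (hπ1 _)
  have hew : ∀ w ∈ W, e w = w ^ Nat.card A := by
    intro w hw
    rw [he, Finset.prod_congr rfl (g := fun _ => w) (fun a _ => by
      rw [hπ2 _ (hW a⁻¹ w hw), smul_inv_smul]), Finset.prod_const, Finset.card_univ, Nat.card_eq_fintype_card]
  have hea : ∀ (b : A) (v : V), e (b • v) = b • e v := by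
    intro b v
    rw [he, he, Finset.smul_prod']
    symm
    apply Fintype.prod_equiv (Equiv.mulLeft b)
    intro a
    change b • a • π (a⁻¹ • v) = (b * a) • π ((b * a)⁻¹ • b • v)
    rw [mul_smul, mul_inv_rev, mul_smul, inv_smul_smul]
  obtain ⟨m, hm⟩ : ∃ m : ℕ, Nat.card A * m ≡ 1 [MOD p] := by
    have h1 := Nat.exists_mul_mod_eq_one_of_coprime hcop hp.out.one_lt
    obtain ⟨m, -, hm⟩ := h1
    exact ⟨m, by rw [Nat.ModEq, hm, Nat.mod_eq_of_lt hp.out.one_lt]⟩
  have hpow : ∀ w : V, w ^ (Nat.card A * m) = w := by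
    intro w
    have h1 : orderOf w ∣ p := orderOf_dvd_of_pow_eq_one (hV w)
    have h2 : Nat.card A * m ≡ 1 [MOD orderOf w] := hm.of_dvd h1
    have h3 := pow_eq_pow_iff_modEq.2 h2
    rwa [pow_one] at h3
  refine ⟨e.ker, ?_, ?_, ?_⟩
  · intro a u hu
    rw [MonoidHom.mem_ker] at hu ⊢
    rw [hea, hu, smul_one]
  · rw [eq_bot_iff]
    rintro w ⟨hw1, hw2⟩
    rw [mem_bot]
    have h1 : e w = 1 := hw2
    rw [hew w hw1] at h1
    rw [← hpow w, pow_mul, h1, one_pow]
  · rw [eq_top_iff]
    intro v _
    have h1 : v = (e v) ^ m * ((e v) ^ m)⁻¹ * v := by rw [mul_inv_cancel, one_mul]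
    rw [h1, mul_assoc]
    refine mul_mem (mem_sup_left (pow_mem (heW v) m)) (mem_sup_right ?_)
    rw [MonoidHom.mem_ker, map_mul, map_inv, map_pow, hew _ (heW v), ← pow_mul, hpow, inv_mul_cancel]

/-- the action on a quotient by an invariant normal subgroup -/
@[reducible] def quotAct {A G : Type*} [Group A] [Group G] [MulDistribMulAction A G] (N : Subgroup G) [N.Normal]
    (hN : ∀ a : A, ∀ x ∈ N, a • x ∈ N) : MulDistribMulAction A (G ⧸ N) where
  smul a := QuotientGroup.map N N (MulDistribMulAction.toMonoidHom G a) (fun x hx => hN a x hx)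
  one_smul x := by
    obtain ⟨x, rfl⟩ := QuotientGroup.mk'_surjective N x
    change QuotientGroup.mk' N ((1 : A) • x) = _
    rw [one_smul]
  mul_smul a b x := by
    obtain ⟨x, rfl⟩ := QuotientGroup.mk'_surjective N x
    change QuotientGroup.mk' N ((a * b) • x) = QuotientGroup.mk' N (a • b • x)
    rw [mul_smul]
  smul_one a := by
    change QuotientGroup.mk' N (a • (1 : G)) = 1
    rw [smul_one, map_one]
  smul_mul a x y := by
    obtain ⟨x, rfl⟩ := QuotientGroup.mk'_surjective N x
    obtain ⟨y, rfl⟩ := QuotientGroup.mk'_surjective N y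
    change QuotientGroup.mk' N (a • (x * y)) = QuotientGroup.mk' N (a • x) * QuotientGroup.mk' N (a • y)
    rw [smul_mul', map_mul]

theorem exists_sylow {A G : Type*} [Group A] [Finite A] [Group G] [Finite G] [MulDistribMulAction A G]
    (hcop : (Nat.card A).Coprime (Nat.card G)) (hsol : Group.IsSolvable A ∨ Group.IsSolvable G) (p : ℕ)
    [Fact p.Prime] :
    ∃ R : Subgroup G, (∀ a : A, ∀ x ∈ R, a • x ∈ R) ∧ Nat.card R = p ^ (Nat.card G).factorization p := by
  let φ : A →* MulAut G := MulDistribMulAction.toMulAut A G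
  let i : G →* G ⋊[φ] A := SemidirectProduct.inl
  let j : A →* G ⋊[φ] A := SemidirectProduct.inr
  haveI : Finite (G ⋊[φ] A) := Finite.of_equiv _ SemidirectProduct.equivProd.symm
  have hi : Function.Injective i := SemidirectProduct.inl_injective
  have hj : Function.Injective j := SemidirectProduct.inr_injective
  have hij : ∀ (a : A) (x : G), j a * i x * (j a)⁻¹ = i (a • x) := by
    intro a x
    rw [← map_inv]
    exact (SemidirectProduct.inl_aut (φ := φ) a x).symm
  have hcG : Nat.card i.range = Nat.card G := Nat.card_congr (MonoidHom.ofInjective hi).symm.toEquiv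
  have hcA : Nat.card j.range = Nat.card A := Nat.card_congr (MonoidHom.ofInjective hj).symm.toEquiv
  have hAK : j.range ≤ normalizer (i.range : Set (G ⋊[φ] A)) := by
    have : i.range.Normal := by
      rw [SemidirectProduct.range_inl_eq_ker_rightHom]; infer_instance
    rw [normalizer_eq_top]; exact le_top
  obtain ⟨P, hP⟩ := CfsgLib.Coprime.exists_invariant_sylow (A := j.range) (K := i.range) hAK
    (by rw [hcG, hcA]; exact hcop) (by
      rcases hsol with h | h
      · left
        exact Group.isSolvable_of_surjective (f := j.rangeRestrict) j.rangeRestrict_surjective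
      · right
        exact Group.isSolvable_of_surjective (f := i.rangeRestrict) i.rangeRestrict_surjective) p
  refine ⟨((P : Subgroup i.range).map i.range.subtype).comap i, ?_, ?_⟩
  · intro a x hx
    rw [mem_comap] at hx ⊢
    rw [← hij]
    exact (mem_normalizer_iff.1 (hP ⟨a, rfl⟩) (i x)).1 hx
  · have h1 : (((P : Subgroup i.range).map i.range.subtype).comap i).map i = (P : Subgroup i.range).map i.range.subtype := by
      rw [map_comap_eq, inf_eq_right]
      exact map_subtype_le _
    rw [← Subgroup.card_map_of_injective hi, h1, Subgroup.card_map_of_injective i.range.subtype_injective,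
      P.card_eq_multiplicity, hcG]

end CfsgLib.H7Masch
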