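import Cfsg.Agent.EqBase
import Mathlib
/-!
# Suzuki 2-groups I: additive maps of finite fields of characteristic two (helper16)
-/
set_option autoImplicit false
set_option linter.all false
namespace CfsgLib.Szk

universe u v

section field
variable {F : Type u} [Field F] [Finite F] [Algebra (ZMod 2) F]

noncomputable instance autFintype : Fintype (F ≃ₐ[ZMod 2] F) := Fintype.ofFinite _

theorem two_zero : (2 : F) = 0 := by
  have : (algebraMap (ZMod 2) F) 2 = 0 := by
    have h : (2 : ZMod 2) = 0 := rfl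
    rw [h, map_zero]
  rw [map_ofNat] at this
  exact this

theorem add_self (x : F) : x + x = 0 := by rw [← two_mul, two_zero, zero_mul]

theorem neg_eq (x : F) : -x = x := by rw [neg_eq_iff_add_eq_zero]; exact add_self x

theorem eq_of_add {x y : F} (h : x + y = 0) : x = y := by rw [add_eq_zero_iff_eq_neg, neg_eq] at h; exact h

/-- Dedekind independence -/
theorem sum_unique {c : (F ≃ₐ[ZMod 2] F) → F} (h : ∀ x : F, ∑ σ, c σ * σ x = 0) : c = 0 := by
  have h1 := (linearIndependent_monoidHom F F).comp (fun σ : F ≃ₐ[ZMod 2] F => ((σ : F →+* F) : F →* F)) (by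
    intro σ τ hst
    ext x
    exact congrArg (fun f : F →* F => f x) hst)
  rw [Fintype.linearIndependent_iff] at h1
  funext σ
  apply h1 c
  funext x
  have h2 := h x
  simp only [Finset.sum_apply, Pi.smul_apply, Function.comp, smul_eq_mul]
  exact h2

/-- additive maps are combinations of automorphisms -/
theorem exists_coeff (f : F → F) (hf : ∀ x y, f (x + y) = f x + f y) : ∃ c : (F ≃ₐ[ZMod 2] F) → F, ∀ x, f x = ∑ σ, c σ * σ x := by
  classical
  haveI : Module.Finite (ZMod 2) F := Module.Finite.of_finite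
  have hli : LinearIndependent F (fun σ : F ≃ₐ[ZMod 2] F => (σ : F →ₐ[ZMod 2] F).toLinearMap) :=
    (linearIndependent_toLinearMap (ZMod 2) F F).comp (fun σ : F ≃ₐ[ZMod 2] F => (σ : F →ₐ[ZMod 2] F)) (by
      intro σ τ hst
      ext x
      exact congrArg (fun f : F →ₐ[ZMod 2] F => f x) hst)
  have hcard : Fintype.card (F ≃ₐ[ZMod 2] F) = Module.finrank F (F →ₗ[ZMod 2] F) := by
    rw [Module.finrank_linearMap_self, ← Nat.card_eq_fintype_card, IsGalois.card_aut_eq_finrank]
  let B := basisOfLinearIndependentOfCardEqFinrank hli hcard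
  have hB : ∀ σ, B σ = (σ : F →ₐ[ZMod 2] F).toLinearMap := fun σ => by
    rw [coe_basisOfLinearIndependentOfCardEqFinrank]
  let f' : F →+ F := AddMonoidHom.mk' f hf
  let g : F →ₗ[ZMod 2] F := AddMonoidHom.toZModLinearMap 2 f'
  refine ⟨fun σ => B.repr g σ, fun x => ?_⟩
  have h1 := B.sum_repr g
  have h2 := congrArg (fun h : F →ₗ[ZMod 2] F => h x) h1
  simp only [LinearMap.coe_sum, Finset.sum_apply, LinearMap.smul_apply, smul_eq_mul, hB] at h2
  exact h2.symm

theorem coeff_unique {c d : (F ≃ₐ[ZMod 2] F) → F} (h : ∀ x : F, ∑ σ, c σ * σ x = ∑ σ, d σ * σ x) : c = d := by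
  have h1 : c - d = 0 := sum_unique (fun x => by
    simp only [Pi.sub_apply, sub_mul, Finset.sum_sub_distrib, h x, sub_self])
  exact sub_eq_zero.mp h1

/-- four-term independence -/
theorem four {σ τ σ' τ' : F ≃ₐ[ZMod 2] F} {a b a' b' : F} (h : ∀ x : F, a * σ x + b * τ x + (a' * σ' x + b' * τ' x) = 0) (hτ : σ ≠ τ) (h1 : σ ≠ σ') (h2 : σ ≠ τ') :
    a = 0 := by
  classical
  have h3 := sum_unique (c := fun ρ => (if ρ = σ then a else 0) + (if ρ = τ then b else 0) + ((if ρ = σ' then a' else 0) + (if ρ = τ' then b' else 0))) (by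
    intro x
    simp only [add_mul, ite_mul, zero_mul, Finset.sum_add_distrib, Finset.sum_ite_eq', Finset.mem_univ, if_true]
    exact h x)
  have h4 := congrFun h3 σ
  simp only [if_true, if_neg hτ, if_neg h1, if_neg h2, add_zero, Pi.zero_apply] at h4
  exact h4

theorem polar {σ τ σ' τ' : F ≃ₐ[ZMod 2] F} (h : ∀ x : F, σ x * τ x = σ' x * τ' x) (x y : F) :
    τ y * σ x + σ y * τ x + (τ' y * σ' x + σ' y * τ' x) = 0 := by
  have h1 := h (x + y)
  rw [map_add, map_add, map_add, map_add] at h1
  have h2 : (2 : F) = 0 := two_zero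
  linear_combination h1 - h x - h y + (τ' y * σ' x + σ' y * τ' x) * h2

/-- products of two automorphisms determine the factors -/
theorem prod_unique {σ τ σ' τ' : F ≃ₐ[ZMod 2] F} (h : ∀ x : F, σ x * τ x = σ' x * τ' x) : (σ = σ' ∧ τ = τ') ∨ (σ = τ' ∧ τ = σ') := by
  have key : σ = σ' ∨ σ = τ' := by
    by_contra hcon
    push Not at hcon
    obtain ⟨h1, h2⟩ := hcon
    by_cases hτ : σ = τ
    · subst hτ
      by_cases hst : σ' = τ'
      · subst hst
        apply h1
        ext x
        have h3 := h x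
        have h4 : (σ x + σ' x) * (σ x + σ' x) = 0 := by
          have h2 : (2 : F) = 0 := two_zero
          linear_combination h3 + (σ x * σ' x + σ' x * σ' x) * h2
        exact eq_of_add (mul_self_eq_zero.mp h4)
      · have h3 : (τ' 1 : F) = 0 := four (σ := σ') (τ := τ') (σ' := σ) (τ' := σ) (a := τ' 1) (b := σ' 1) (a' := σ 1) (b' := σ 1) (fun x => by
          have := polar h x 1
          linear_combination this) hst (Ne.symm h1) (Ne.symm h1)
        rw [map_one] at h3
        exact one_ne_zero h3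
    · have h3 : (τ 1 : F) = 0 := four (fun x => polar h x 1) hτ h1 h2
      rw [map_one] at h3
      exact one_ne_zero h3
  have cancel : ∀ {α β γ : F ≃ₐ[ZMod 2] F}, (∀ x : F, α x * β x = α x * γ x) → β = γ := by
    intro α β γ h
    ext x
    by_cases hx : x = 0
    · rw [hx, map_zero, map_zero]
    · exact mul_left_cancel₀ ((map_ne_zero α).mpr hx) (h x)
  rcases key with rfl | rfl
  · exact Or.inl ⟨rfl, cancel h⟩
  · exact Or.inr ⟨rfl, cancel fun x => by rw [h x, mul_comm]⟩

/-- additive and multiplicative maps are automorphisms -/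
theorem exists_aut (f : F → F) (h1 : f 1 = 1) (hm : ∀ x y, f (x * y) = f x * f y) (ha : ∀ x y, f (x + y) = f x + f y) :
    ∃ σ : F ≃ₐ[ZMod 2] F, ∀ x, f x = σ x := by
  have h0 : f 0 = 0 := by
    have := ha 0 0
    rw [add_zero] at this
    exact (left_eq_add.mp this)
  let g : F →+* F := { toFun := f, map_one' := h1, map_mul' := hm, map_zero' := h0, map_add' := ha }
  let g' : F →ₐ[ZMod 2] F := { g with commutes' := fun r => congrArg (fun f : ZMod 2 →+* F => f r) (RingHom.ext_zmod (g.comp (algebraMap (ZMod 2) F)) (algebraMap (ZMod 2) F)) }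
  have hg : Function.Bijective g' := Finite.injective_iff_bijective.mp g.injective
  exact ⟨AlgEquiv.ofBijective g' hg, fun x => rfl⟩

end field
end CfsgLib.Szk
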