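import Cfsg.Agent.EqBase
/-!
# Zassenhaus groups XVI: a field from an irreducible commutative action (helper16)
-/
set_option autoImplicit false
set_option linter.all false
namespace CfsgLib.Zas

universe u v

theorem exists_field {A : Type u} [AddCommGroup A] [Finite A] {E : Type v} [Group E] (ρ : E →* AddMonoid.End A)
    (hcomm : ∀ x y : E, x * y = y * x) (hirr : ∀ B : AddSubgroup A, (∀ x : E, ∀ b ∈ B, ρ x b ∈ B) → B = ⊥ ∨ B = ⊤) (a₀ : A) (ha₀ : a₀ ≠ 0) :
    ∃ (F : Type) (_ : Field F) (_ : Fintype F) (φ : F ≃+ A) (κ : E →* F), φ 1 = a₀ ∧ ∀ x : E, ∀ z : F, ρ x (φ z) = φ (κ x * z) := by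
  classical
  let S : Subring (AddMonoid.End A) := Subring.closure (Set.range ρ)
  have hScomm : ∀ x ∈ S, ∀ y ∈ S, x * y = y * x := by
    intro x hx y hy
    have h1 := Subring.closure_le_centralizer_centralizer (Set.range ρ) hx
    rw [Subring.mem_centralizer_iff] at h1
    have h2 : y ∈ Subring.centralizer (Set.range ρ) := by
      have h3 : Set.range ρ ⊆ Subring.centralizer (Set.range ρ) := by
        rintro _ ⟨e, rfl⟩
        show ρ e ∈ Subring.centralizer (Set.range ρ)
        rw [Subring.mem_centralizer_iff]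
        rintro _ ⟨f, rfl⟩
        rw [← map_mul, ← map_mul, hcomm]
      exact Subring.closure_le.mpr h3 hy
    exact (h1 y h2).symm
  have hmem : ∀ x : E, ρ x ∈ S := fun x => Subring.subset_closure ⟨x, rfl⟩
  have hinj : ∀ r ∈ S, r ≠ 0 → Function.Injective r := by
    intro r hr hr0
    rcases hirr (AddMonoidHom.ker r) (by
      intro x b hb
      have hb' : r b = 0 := hb
      show r (ρ x b) = 0
      have h1 := congrArg (fun f : AddMonoid.End A => f b) (hScomm r hr _ (hmem x))
      have h2 : r (ρ x b) = ρ x (r b) := h1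
      rw [h2, hb', map_zero]) with h | h
    · exact (AddMonoidHom.ker_eq_bot_iff r).mp h
    · exfalso
      apply hr0
      ext b
      have : b ∈ AddMonoidHom.ker r := by rw [h]; trivial
      exact this
  haveI : Finite (AddMonoid.End A) := Finite.of_injective (fun f : AddMonoid.End A => (f : A → A)) DFunLike.coe_injective
  haveI : Finite S := Subtype.finite
  letI cr : CommRing S := { (inferInstance : Ring S) with mul_comm := fun x y => Subtype.ext (hScomm x x.2 y y.2) }
  haveI hnt : Nontrivial S := ⟨0, 1, fun h => by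
    have h1 : (0 : AddMonoid.End A) = 1 := congrArg Subtype.val h
    have h2 := congrArg (fun f : AddMonoid.End A => f a₀) h1
    exact ha₀ h2.symm⟩
  haveI hnz : NoZeroDivisors S := ⟨by
    intro x y hxy
    by_cases hx : x = 0
    · exact Or.inl hx
    · right
      have h1 := hinj x x.2 (fun h => hx (Subtype.ext h))
      apply Subtype.ext
      ext b
      apply h1
      have h2 : (x : AddMonoid.End A) * y = 0 := congrArg Subtype.val hxy
      have h3 := congrArg (fun f : AddMonoid.End A => f b) h2
      have h4 : (x : AddMonoid.End A) ((y : AddMonoid.End A) b) = 0 := h3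
      show (x : AddMonoid.End A) ((y : AddMonoid.End A) b) = (x : AddMonoid.End A) ((0 : AddMonoid.End A) b)
      rw [h4]
      exact (map_zero (x : AddMonoid.End A)).symm⟩
  haveI hdom : IsDomain S := NoZeroDivisors.to_isDomain S
  letI fl : Field S := (Finite.isField_of_domain S).toField
  letI : Fintype S := Fintype.ofFinite S
  obtain ⟨p, hchar⟩ := CharP.exists S
  obtain ⟨n, hp, hcard⟩ := FiniteField.card S p
  haveI : Fact p.Prime := ⟨hp⟩
  letI : Fintype (GaloisField p n) := Fintype.ofFinite _
  have hcg : Fintype.card (GaloisField p n) = p ^ (n : ℕ) := by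
    rw [← Nat.card_eq_fintype_card]
    exact GaloisField.card (p) n n.pos.ne'
  let θ : S ≃+* GaloisField p n := FiniteField.ringEquivOfCardEq (hcard.trans hcg.symm)
  let φ₀ : GaloisField p n →+ A :=
    { toFun := fun z => ((θ.symm z : S) : AddMonoid.End A) a₀
      map_zero' := by rw [map_zero]; rfl
      map_add' := fun x y => by rw [map_add]; rfl }
  have hφ₀ : ∀ z, φ₀ z = ((θ.symm z : S) : AddMonoid.End A) a₀ := fun z => rfl
  have hφi : Function.Injective φ₀ := by
    rw [injective_iff_map_eq_zero]
    intro z hz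
    by_contra hz0
    have h1 : ((θ.symm z : S) : AddMonoid.End A) ≠ 0 := by
      intro h
      apply hz0
      have h2 : θ.symm z = 0 := Subtype.ext h
      rwa [map_eq_zero] at h2
    have h2 := hinj _ (θ.symm z).2 h1
    apply ha₀
    apply h2
    rw [map_zero]; exact hz
  have hrho : ∀ x : E, ∀ z, ρ x (φ₀ z) = φ₀ (θ ⟨ρ x, hmem x⟩ * z) := by
    intro x z
    rw [hφ₀, hφ₀, map_mul, RingEquiv.symm_apply_apply]
    rfl
  have hφs : Function.Surjective φ₀ := by
    rw [← AddMonoidHom.range_eq_top]
    rcases hirr φ₀.range (by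
      rintro x _ ⟨z, rfl⟩
      exact ⟨_, (hrho x z).symm⟩) with h | h
    · exfalso
      apply ha₀
      have h1 : a₀ ∈ φ₀.range := ⟨1, by rw [hφ₀, map_one]; rfl⟩
      rw [h] at h1
      exact h1
    · exact h
  refine ⟨GaloisField p n, inferInstance, inferInstance, AddEquiv.ofBijective φ₀ ⟨hφi, hφs⟩,
    { toFun := fun x => θ ⟨ρ x, hmem x⟩
      map_one' := by
        have : (⟨ρ 1, hmem 1⟩ : S) = 1 := Subtype.ext (map_one ρ)
        rw [this, map_one]
      map_mul' := fun x y => by
        rw [← map_mul]
        congr 1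
        exact Subtype.ext (map_mul ρ x y) }, ?_, fun x z => hrho x z⟩
  show φ₀ 1 = a₀
  rw [hφ₀, map_one]; rfl

end CfsgLib.Zas
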