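import Cfsg.Agent.EqBase
import Cfsg.Agent.LibSzk1
import Cfsg.Agent.LibZas16
import Cfsg.Agent.LibSolvNilp
/-!
# Suzuki 2-groups II: basic structure and field coordinates for the involutions (helper16)
-/
set_option autoImplicit false
set_option linter.all false
namespace CfsgLib.Szk

universe u v

/-- a 2-group with a commutative fixed-point-free automorphism group transitive on the involutions -/
structure Suz (P : Type u) (K : Type v) [Group P] [CommGroup K] [MulDistribMulAction K P] : Prop where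
  two : IsPGroup 2 P
  fpf : ∀ (k : K) (x : P), k • x = x → k = 1 ∨ x = 1
  trans : ∀ x y : P, x ≠ 1 → x * x = 1 → y ≠ 1 → y * y = 1 → ∃ k : K, k • x = y
  nt : ∃ k : K, k ≠ 1
  pt : ∃ x : P, x ≠ 1

/-- invariance -/
def KInv (K : Type v) {P : Type u} [Group P] [CommGroup K] [MulDistribMulAction K P] (X : Subgroup P) : Prop := ∀ k : K, ∀ x ∈ X, k • x ∈ X

section
variable {P : Type u} {K : Type v} [Group P] [Finite P] [CommGroup K] [MulDistribMulAction K P]

theorem smul_mem_iff {X : Subgroup P} (hX : KInv K X) (k : K) (x : P) : k • x ∈ X ↔ x ∈ X := by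
  constructor
  · intro h
    have := hX k⁻¹ _ h
    rwa [inv_smul_smul] at this
  · exact hX k x

theorem KInv.inf {X Y : Subgroup P} (hX : KInv K X) (hY : KInv K Y) : KInv K (X ⊓ Y) := fun k x hx => ⟨hX k x hx.1, hY k x hx.2⟩

theorem KInv.sup {X Y : Subgroup P} (hX : KInv K X) (hY : KInv K Y) : KInv K (X ⊔ Y) := by
  intro k x hx
  have h1 : X ⊔ Y ≤ (X ⊔ Y).comap (MulDistribMulAction.toMonoidHom P k) := by
    apply sup_le
    · intro y hy; exact Subgroup.mem_sup_left (hX k y hy)
    · intro y hy; exact Subgroup.mem_sup_right (hY k y hy)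
  exact h1 hx

theorem KInv.top : KInv K (⊤ : Subgroup P) := fun _ _ _ => trivial
theorem KInv.bot : KInv K (⊥ : Subgroup P) := fun k x hx => by
  rw [Subgroup.mem_bot] at hx ⊢; rw [hx, smul_one]

theorem KInv.sup_set {S : Set (Subgroup P)} (hS : ∀ X ∈ S, KInv K X) : KInv K (sSup S) := by
  intro k x hx
  have h1 : sSup S ≤ (sSup S).comap (MulDistribMulAction.toMonoidHom P k) := by
    apply sSup_le
    intro X hX y hy
    exact (le_sSup hX) (hS X hX k y hy)
  exact h1 hx

theorem KInv.centralizer {X : Subgroup P} (hX : KInv K X) : KInv K (Subgroup.centralizer (X : Set P)) := by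
  intro k x hx
  rw [Subgroup.mem_centralizer_iff] at hx ⊢
  intro y hy
  have h1 := hx _ (hX k⁻¹ y hy)
  have h2 := congrArg (fun z => k • z) h1
  simp only [smul_mul', smul_inv_smul] at h2
  exact h2

/-- an involution in a non-trivial subgroup of a 2-group -/
theorem exists_inv (h2 : IsPGroup 2 P) {X : Subgroup P} (hX : X ≠ ⊥) : ∃ x ∈ X, x ≠ 1 ∧ x * x = 1 := by
  haveI := Fact.mk Nat.prime_two
  obtain ⟨x, hx, hx1⟩ := (Subgroup.bot_or_exists_ne_one X).resolve_left hX
  obtain ⟨m, hm⟩ := (IsPGroup.iff_orderOf.mp h2) x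
  have hm0 : m ≠ 0 := by
    rintro rfl
    rw [pow_zero, orderOf_eq_one_iff] at hm
    exact hx1 hm
  obtain ⟨n, rfl⟩ := Nat.exists_eq_succ_of_ne_zero hm0
  refine ⟨x ^ 2 ^ n, X.pow_mem hx _, ?_, ?_⟩
  · intro h
    have := orderOf_dvd_of_pow_eq_one h
    rw [hm] at this
    exact absurd (Nat.le_of_dvd (by positivity) this) (not_le.mpr (Nat.pow_lt_pow_right (by norm_num) (Nat.lt_succ_self n)))
  · rw [← pow_two, ← pow_mul, ← pow_succ, ← hm, pow_orderOf_eq_one]

namespace Suz
variable (S : Suz P K)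
include S

theorem central {x : P} (hx : x * x = 1) (y : P) : x * y = y * x := by
  by_cases hx1 : x = 1
  · rw [hx1, one_mul, mul_one]
  haveI := Fact.mk Nat.prime_two
  haveI : Nontrivial P := ⟨_, _, S.pt.choose_spec⟩
  have hc : Subgroup.center P ≠ ⊥ := S.two.bot_lt_center.ne'
  obtain ⟨z, hz, hz1, hzz⟩ := exists_inv S.two hc
  obtain ⟨k, rfl⟩ := S.trans z x hz1 hzz hx1 hx
  have h1 := (Subgroup.mem_center_iff.mp hz) (k⁻¹ • y)
  have h2 := congrArg (fun z => k • z) h1
  simp only [smul_mul', smul_inv_smul] at h2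
  exact h2.symm

/-- the subgroup of involutions -/
def Z : Subgroup P where
  carrier := {x | x * x = 1}
  one_mem' := mul_one 1
  mul_mem' := by
    intro x y hx hy
    show x * y * (x * y) = 1
    have h1 := S.central hx y
    calc x * y * (x * y) = x * (y * x) * y := by group
      _ = x * (x * y) * y := by rw [h1]
      _ = (x * x) * (y * y) := by group
      _ = 1 := by rw [show x * x = 1 from hx, show y * y = 1 from hy, one_mul]
  inv_mem' := by
    intro x hx
    show x⁻¹ * x⁻¹ = 1
    rw [← mul_inv_rev, show x * x = 1 from hx, inv_one]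

theorem mem_Z {x : P} : x ∈ S.Z ↔ x * x = 1 := Iff.rfl

theorem Z_inv : KInv K S.Z := by
  intro k x hx
  rw [mem_Z] at hx ⊢
  rw [← smul_mul', hx, smul_one]

theorem Z_comm {z : P} (hz : z ∈ S.Z) (y : P) : z * y = y * z := S.central hz y

theorem Z_le {X : Subgroup P} (hX : KInv K X) (h1 : X ≠ ⊥) : S.Z ≤ X := by
  intro z hz
  by_cases hz1 : z = 1
  · rw [hz1]; exact X.one_mem
  obtain ⟨x, hx, hx1, hxx⟩ := exists_inv S.two h1
  obtain ⟨k, rfl⟩ := S.trans x z hx1 hxx hz1 hz
  exact hX k x hx

theorem Z_ne_bot : S.Z ≠ ⊥ := by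
  obtain ⟨x, hx⟩ := S.pt
  obtain ⟨z, -, hz1, hzz⟩ := exists_inv S.two (X := ⊤) (fun h => hx (by
    have : x ∈ (⊤ : Subgroup P) := trivial
    rw [h] at this; exact this))
  intro h
  have : z ∈ S.Z := hzz
  rw [h] at this
  exact hz1 this

/-- fixed-point-freeness modulo invariant subgroups -/
theorem fq {X : Subgroup P} (hX : KInv K X) {k : K} (hk : k ≠ 1) {x : P} (hx : x⁻¹ * (k • x) ∈ X) : x ∈ X := by
  have hinj : ∀ y z : P, y⁻¹ * (k • y) = z⁻¹ * (k • z) → y = z := by
    intro y z h
    have h1 : k • (y * z⁻¹) = y * z⁻¹ := by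
      rw [smul_mul', smul_inv']
      have h2 : k • y = y * (z⁻¹ * (k • z)) := by rw [← h, mul_inv_cancel_left]
      rw [h2]; group
    rcases S.fpf k _ h1 with h2 | h2
    · exact absurd h2 hk
    · exact mul_inv_eq_one.mp h2
  let f : X → X := fun y => ⟨(y : P)⁻¹ * (k • (y : P)), X.mul_mem (X.inv_mem y.2) (hX k y y.2)⟩
  have hf : Function.Injective f := fun y z h => Subtype.ext (hinj y z (congrArg Subtype.val h))
  obtain ⟨y, hy⟩ := (Finite.injective_iff_surjective.mp hf) ⟨_, hx⟩
  have h2 := hinj y x (congrArg Subtype.val hy)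
  rw [← h2]; exact y.2

theorem faithful {k : K} (h : ∀ z ∈ S.Z, k • z = z) : k = 1 := by
  obtain ⟨z, hz, hz1⟩ := (Subgroup.bot_or_exists_ne_one S.Z).resolve_left S.Z_ne_bot
  exact (S.fpf k z (h z hz)).resolve_right hz1

end Suz

/-- field coordinates for the subgroup of involutions -/
structure Crd (P : Type u) (K : Type v) [Group P] [CommGroup K] [MulDistribMulAction K P] (F : Type) [Field F] where
  φ : F → P
  κ : K →* F
  sq : ∀ z, φ z * φ z = 1
  surj : ∀ u : P, u * u = 1 → ∃ z, φ z = u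
  inj : Function.Injective φ
  add : ∀ x y, φ (x + y) = φ x * φ y
  smul : ∀ (k : K) (z : F), k • φ z = φ (κ k * z)
  κi : Function.Injective κ
  κs : ∀ z : F, z ≠ 0 → ∃ k, κ k = z

theorem Suz.exists_crd (S : Suz P K) : ∃ (F : Type) (_ : Field F) (_ : Fintype F) (_ : Algebra (ZMod 2) F), Nonempty (Crd P K F) := by
  classical
  letI cg : CommGroup S.Z := { (inferInstance : Group S.Z) with mul_comm := fun x y => Subtype.ext (S.Z_comm x.2 y) }
  let ρ : K →* AddMonoid.End (Additive S.Z) :=
    { toFun := fun k =>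
        { toFun := fun u => Additive.ofMul ⟨k • (u.toMul : P), S.Z_inv k _ u.toMul.2⟩
          map_zero' := by
            apply Additive.toMul.injective
            apply Subtype.ext
            show k • (1 : P) = 1
            rw [smul_one]
          map_add' := fun u w => by
            apply Additive.toMul.injective
            apply Subtype.ext
            show k • ((u.toMul : P) * (w.toMul : P)) = (k • (u.toMul : P)) * (k • (w.toMul : P))
            rw [smul_mul'] }
      map_one' := by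
        apply AddMonoidHom.ext
        intro u
        apply Additive.toMul.injective
        apply Subtype.ext
        show (1 : K) • (u.toMul : P) = u.toMul
        rw [one_smul]
      map_mul' := fun x y => by
        apply AddMonoidHom.ext
        intro u
        apply Additive.toMul.injective
        apply Subtype.ext
        show (x * y) • (u.toMul : P) = x • y • (u.toMul : P)
        rw [mul_smul] }
  have hρ : ∀ (x : K) (u : S.Z), (((ρ x (Additive.ofMul u)).toMul : S.Z) : P) = x • (u : P) := fun x u => rfl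
  obtain ⟨v, hv, hv1⟩ := (Subgroup.bot_or_exists_ne_one S.Z).resolve_left S.Z_ne_bot
  have hirr : ∀ B : AddSubgroup (Additive S.Z), (∀ x : K, ∀ u ∈ B, ρ x u ∈ B) → B = ⊥ ∨ B = ⊤ := by
    intro B hB
    by_cases hB0 : B = ⊥
    · exact Or.inl hB0
    right
    obtain ⟨u, hu, hu0⟩ := (AddSubgroup.bot_or_exists_ne_zero B).resolve_left hB0
    rw [eq_top_iff]
    intro w _
    by_cases hw : w = 0
    · rw [hw]; exact B.zero_mem
    have h1 : ((u.toMul : S.Z) : P) ≠ 1 := fun h => hu0 (Additive.toMul.injective (Subtype.ext h))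
    have h2 : ((w.toMul : S.Z) : P) ≠ 1 := fun h => hw (Additive.toMul.injective (Subtype.ext h))
    obtain ⟨k, hk⟩ := S.trans _ _ h1 u.toMul.2 h2 w.toMul.2
    have h3 : ρ k u = w := Additive.toMul.injective (Subtype.ext hk)
    rw [← h3]
    exact hB k u hu
  have ha₀ : (Additive.ofMul (⟨v, hv⟩ : S.Z)) ≠ 0 := fun h => hv1 (congrArg (fun x : Additive S.Z => ((x.toMul : S.Z) : P)) h)
  obtain ⟨F, iF, iFF, φ, κ, -, h⟩ := CfsgLib.Zas.exists_field ρ mul_comm hirr _ ha₀
  have hφ : ∀ (k : K) (z : F), k • (((φ z).toMul : S.Z) : P) = (((φ (κ k * z)).toMul : S.Z) : P) := fun k z => by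
    rw [← h k z]; rfl
  have hκ0 : ∀ k, κ k ≠ 0 := by
    intro k h0
    have h1 : κ k * κ k⁻¹ = 1 := by rw [← map_mul, mul_inv_cancel, map_one]
    rw [h0, zero_mul] at h1
    exact zero_ne_one h1
  have hκi : Function.Injective κ := by
    intro k l hkl
    have h1 : ∀ z ∈ S.Z, (k⁻¹ * l) • z = z := by
      intro z hz
      obtain ⟨w, hw⟩ := φ.surjective (Additive.ofMul ⟨z, hz⟩)
      have hw' : (((φ w).toMul : S.Z) : P) = z := congrArg (fun x : Additive S.Z => ((x.toMul : S.Z) : P)) hw
      have hκ1 : κ (k⁻¹ * l) = 1 := by rw [map_mul κ, ← hkl, ← map_mul κ, inv_mul_cancel, map_one]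
      rw [← hw', hφ, hκ1, one_mul]
    exact (inv_mul_eq_one.mp (S.faithful h1))
  have h20 : (2 : F) = 0 := by
    have h1 : φ (1 + 1) = 0 := by
      rw [map_add]
      exact Additive.toMul.injective (Subtype.ext (φ 1).toMul.2)
    rw [← map_zero φ] at h1
    have h2 := φ.injective h1
    rw [← one_add_one_eq_two]; exact h2
  haveI : CharP F 2 := CharTwo.of_one_ne_zero_of_two_eq_zero one_ne_zero h20
  refine ⟨F, iF, iFF, ZMod.algebra F 2, ⟨{ φ := fun z => (((φ z).toMul : S.Z) : P), κ := κ, sq := fun z => (φ z).toMul.2, surj := ?_, inj := ?_, add := ?_, smul := hφ, κi := hκi, κs := ?_ }⟩⟩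
  · intro u hu
    obtain ⟨w, hw⟩ := φ.surjective (Additive.ofMul ⟨u, hu⟩)
    exact ⟨w, congrArg (fun x : Additive S.Z => ((x.toMul : S.Z) : P)) hw⟩
  · intro x y hxy
    exact φ.injective (Additive.toMul.injective (Subtype.ext hxy))
  · intro x y
    rw [map_add]; rfl
  · intro z hz
    have h1 : (((φ 1).toMul : S.Z) : P) ≠ 1 := by
      intro h
      have h2 : φ 1 = 0 := Additive.toMul.injective (Subtype.ext h)
      rw [← map_zero φ] at h2
      exact one_ne_zero (φ.injective h2)
    have h2 : (((φ z).toMul : S.Z) : P) ≠ 1 := by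
      intro h
      have h2 : φ z = 0 := Additive.toMul.injective (Subtype.ext h)
      rw [← map_zero φ] at h2
      exact hz (φ.injective h2)
    obtain ⟨k, hk⟩ := S.trans _ _ h1 (φ 1).toMul.2 h2 (φ z).toMul.2
    rw [hφ, mul_one] at hk
    exact ⟨k, φ.injective (Additive.toMul.injective (Subtype.ext hk))⟩

end
end CfsgLib.Szk
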