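import Cfsg.Agent.EqBase
import Cfsg.Agent.LibSzk2
/-!
# Suzuki 2-groups III: equivariant families of additive maps (helper16)
-/
set_option autoImplicit false
set_option linter.all false
namespace CfsgLib.Szk

universe u v

variable {P : Type u} {K : Type v} [Group P] [Finite P] [CommGroup K] [MulDistribMulAction K P]
variable {F : Type} [Field F] [Finite F] [Algebra (ZMod 2) F]

/-- equivariant families of additive maps are monomial on irreducible sections -/
theorem lin (S : Suz P K) (C : Crd P K F) {M N : Subgroup P} (hM : KInv K M) (hN : KInv K N) (hNM : N ≤ M)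
    (hirr : ∀ X : Subgroup P, KInv K X → N ≤ X → X ≤ M → X = N ∨ X = M) (hne : N ≠ M)
    (T : P → F → F) (hadd : ∀ x ∈ M, ∀ v w, T x (v + w) = T x v + T x w)
    (hmul : ∀ x ∈ M, ∀ y ∈ M, ∀ w, T (x * y) w = T x w + T y w)
    (heq : ∀ k : K, ∀ x ∈ M, ∀ w, T (k • x) (C.κ k * w) = C.κ k * T x w)
    (hker : ∀ x ∈ M, x ∈ N ↔ ∀ w, T x w = 0) :
    ∃ (σ : F ≃ₐ[ZMod 2] F) (t : P → F), (∀ x ∈ M, ∀ w, T x w = t x * σ w) ∧ (∀ x ∈ M, t x = 0 ↔ x ∈ N) ∧
      (∀ w : F, w ≠ 0 → σ w = w → w = 1) := by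
  classical
  obtain ⟨x₀, hx₀, hx₀N⟩ : ∃ x ∈ M, x ∉ N := by
    by_contra hcon
    push Not at hcon
    exact hne (le_antisymm hNM hcon)
  -- coefficients
  let t : (F ≃ₐ[ZMod 2] F) → P → F := fun σ x => if hx : x ∈ M then (exists_coeff (T x) (hadd x hx)).choose σ else 0
  have ht : ∀ x ∈ M, ∀ w, T x w = ∑ σ, t σ x * σ w := by
    intro x hx w
    have h1 := (exists_coeff (T x) (hadd x hx)).choose_spec w
    rw [h1]
    apply Finset.sum_congr rfl
    intro σ _
    show _ = (if hx : x ∈ M then (exists_coeff (T x) (hadd x hx)).choose σ else 0) * σ w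
    rw [dif_pos hx]
  have tmul : ∀ x ∈ M, ∀ y ∈ M, ∀ σ, t σ (x * y) = t σ x + t σ y := by
    intro x hx y hy σ
    have h1 : (fun σ => t σ (x * y)) = fun σ => t σ x + t σ y := coeff_unique (fun w => by
      rw [← ht _ (M.mul_mem hx hy), hmul x hx y hy, ht x hx, ht y hy, ← Finset.sum_add_distrib]
      exact Finset.sum_congr rfl fun σ _ => by ring)
    exact congrFun h1 σ
  have hκ0 : ∀ k, C.κ k ≠ 0 := by
    intro k h0
    have h1 : C.κ k * C.κ k⁻¹ = 1 := by rw [← map_mul, mul_inv_cancel, map_one]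
    rw [h0, zero_mul] at h1
    exact zero_ne_one h1
  have tsmul : ∀ x ∈ M, ∀ (k : K) σ, t σ (k • x) = C.κ k * (σ (C.κ k))⁻¹ * t σ x := by
    intro x hx k σ
    have h1 : (fun σ => t σ (k • x)) = fun σ => C.κ k * (σ (C.κ k))⁻¹ * t σ x := coeff_unique (fun w => by
      rw [← ht _ (hM k x hx)]
      have h2 : w = C.κ k * ((C.κ k)⁻¹ * w) := by rw [mul_inv_cancel_left₀ (hκ0 k)]
      conv_lhs => rw [h2]
      rw [heq k x hx, ht x hx, Finset.mul_sum]
      refine Finset.sum_congr rfl fun σ _ => ?_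
      rw [map_mul, map_inv₀]; ring)
    exact congrFun h1 σ
  have tN : ∀ x ∈ N, ∀ σ, t σ x = 0 := by
    intro x hx σ
    have h1 : (fun σ => t σ x) = 0 := sum_unique (fun w => by
      rw [← ht x (hNM hx)]
      exact (hker x (hNM hx)).mp hx w)
    exact congrFun h1 σ
  have t1 : ∀ σ, t σ 1 = 0 := fun σ => tN 1 N.one_mem σ
  -- kernels of the coefficients
  have kerσ : ∀ x₀ ∈ M, ∀ σ, t σ x₀ ≠ 0 → ∀ x ∈ M, t σ x = 0 → x ∈ N := by
    intro x₀ hx₀ σ hσ x hx hx0
    let X : Subgroup P :=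
      { carrier := {x | x ∈ M ∧ t σ x = 0}
        one_mem' := ⟨M.one_mem, t1 σ⟩
        mul_mem' := by
          rintro x y ⟨hx, hx'⟩ ⟨hy, hy'⟩
          exact ⟨M.mul_mem hx hy, by rw [tmul x hx y hy, hx', hy', add_zero]⟩
        inv_mem' := by
          rintro x ⟨hx, hx'⟩
          refine ⟨M.inv_mem hx, ?_⟩
          have h1 := tmul x hx x⁻¹ (M.inv_mem hx) σ
          rw [mul_inv_cancel, t1, hx', zero_add] at h1
          exact h1.symm }
    have hXi : KInv K X := by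
      rintro k x ⟨hx, hx'⟩
      exact ⟨hM k x hx, by rw [tsmul x hx, hx', mul_zero]⟩
    rcases hirr X hXi (fun x hx => ⟨hNM hx, tN x hx σ⟩) (fun x hx => hx.1) with h | h
    · have : x ∈ X := ⟨hx, hx0⟩
      rw [h] at this
      exact this
    · exfalso
      have : x₀ ∈ X := by rw [h]; exact hx₀
      exact hσ this.2
  -- no fixed points
  have fixσ : ∀ x₀ ∈ M, x₀ ∉ N → ∀ σ, t σ x₀ ≠ 0 → ∀ w : F, w ≠ 0 → σ w = w → w = 1 := by
    intro x₀ hx₀ hx₀N σ hσ w hw hσw
    obtain ⟨k, rfl⟩ := C.κs w hw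
    by_cases hk : k = 1
    · rw [hk, map_one]
    exfalso
    apply hx₀N
    apply S.fq hN hk
    apply kerσ x₀ hx₀ σ hσ _ (M.mul_mem (M.inv_mem hx₀) (hM k _ hx₀))
    have h1 := tmul x₀ hx₀ _ (M.mul_mem (M.inv_mem hx₀) (hM k _ hx₀)) σ
    rw [mul_inv_cancel_left, tsmul x₀ hx₀, hσw, mul_inv_cancel₀ (hκ0 k), one_mul] at h1
    exact (left_eq_add.mp h1)
  -- uniqueness
  have uniq : ∀ x₀ ∈ M, x₀ ∉ N → ∀ σ τ, t σ x₀ ≠ 0 → t τ x₀ ≠ 0 → σ = τ := by
    intro x₀ hx₀ hx₀N σ τ hσ hτ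
    let α : (F ≃ₐ[ZMod 2] F) → F → F := fun σ w => w * (σ w)⁻¹
    have hα0 : ∀ σ, α σ 0 = 0 := fun σ => zero_mul _
    have hα1 : ∀ σ, α σ 1 = 1 := fun σ => by show (1 : F) * (σ 1)⁻¹ = 1; rw [map_one, inv_one, one_mul]
    have hαm : ∀ σ v w, α σ (v * w) = α σ v * α σ w := fun σ v w => by
      show v * w * (σ (v * w))⁻¹ = v * (σ v)⁻¹ * (w * (σ w)⁻¹)
      rw [map_mul, mul_inv]; ring
    have hαn : ∀ σ w, α σ w = 0 → w = 0 := by
      intro σ w h
      rcases mul_eq_zero.mp h with h1 | h1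
      · exact h1
      · exact (map_eq_zero σ).mp (inv_eq_zero.mp h1)
    let y : F → P := fun w => if hw : w = 0 then 1 else (C.κs w hw).choose • x₀
    have hyM : ∀ w, y w ∈ M := by
      intro w
      show (if hw : w = 0 then 1 else (C.κs w hw).choose • x₀) ∈ M
      split_ifs with hw
      · exact M.one_mem
      · exact hM _ _ hx₀
    have hy : ∀ w σ, t σ (y w) = α σ w * t σ x₀ := by
      intro w σ
      by_cases hw : w = 0
      · have : y w = 1 := dif_pos hw
        rw [this, hw, hα0, zero_mul, t1]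
      · have : y w = (C.κs w hw).choose • x₀ := dif_neg hw
        rw [this, tsmul x₀ hx₀, (C.κs w hw).choose_spec]
    have hαi : Function.Injective (α σ) := by
      intro v w hvw
      by_cases hw : w = 0
      · rw [hw, hα0] at hvw
        rw [hw, hαn σ v hvw]
      have h1 : α σ (v * w⁻¹) = 1 := by
        have h2 : α σ (v * w⁻¹) * α σ w = α σ v := by rw [← hαm, inv_mul_cancel_right₀ hw]
        have h3 : α σ w ≠ 0 := fun h => hw (hαn σ w h)
        rw [hvw] at h2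
        exact mul_right_cancel₀ h3 (h2.trans (one_mul _).symm)
      have h2 : v * w⁻¹ ≠ 0 := by
        intro h
        rw [h, hα0] at h1
        exact zero_ne_one h1
      have h3 : σ (v * w⁻¹) = v * w⁻¹ := by
        have h4 : v * w⁻¹ * (σ (v * w⁻¹))⁻¹ = 1 := h1
        exact ((mul_inv_eq_one₀ ((map_ne_zero σ).mpr h2)).mp h4).symm
      have h4 := fixσ x₀ hx₀ hx₀N σ hσ _ h2 h3
      exact (mul_inv_eq_one₀ hw).mp h4
    have hαs : Function.Surjective (α σ) := Finite.injective_iff_surjective.mp hαi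
    let g : F → F := Function.surjInv hαs
    have hg : ∀ w, α σ (g w) = w := Function.surjInv_eq hαs
    have hg' : ∀ w, g (α σ w) = w := fun w => hαi (hg _)
    obtain ⟨ρ, hρ⟩ := exists_aut (fun w => α τ (g w)) (by
      show α τ (g 1) = 1
      have : g 1 = 1 := by rw [← hα1 σ, hg', hα1]
      rw [this, hα1]) (by
      intro v w
      show α τ (g (v * w)) = α τ (g v) * α τ (g w)
      rw [← hαm]
      congr 1
      apply hαi
      rw [hg, hαm, hg, hg]) (by
      intro v w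
      show α τ (g (v + w)) = α τ (g v) + α τ (g w)
      have h1 : t σ (y (g v) * y (g w) * y (g (v + w))) = 0 := by
        rw [tmul _ (M.mul_mem (hyM _) (hyM _)) _ (hyM _), tmul _ (hyM _) _ (hyM _), hy, hy, hy, hg, hg, hg]
        have h2 : (2 : F) = 0 := two_zero
        linear_combination ((v + w) * t σ x₀) * h2
      have h2 := kerσ x₀ hx₀ σ hσ _ (M.mul_mem (M.mul_mem (hyM _) (hyM _)) (hyM _)) h1
      have h3 := tN _ h2 τ
      rw [tmul _ (M.mul_mem (hyM _) (hyM _)) _ (hyM _), tmul _ (hyM _) _ (hyM _), hy, hy, hy, ← add_mul, ← add_mul] at h3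
      have h4 := (mul_eq_zero.mp h3).resolve_right hτ
      exact (eq_of_add h4).symm)
    have h5 : ∀ w, ρ w * τ w = (AlgEquiv.refl : F ≃ₐ[ZMod 2] F) w * (σ.trans ρ) w := by
      intro w
      by_cases hw : w = 0
      · rw [hw]; simp
      have h6 := hρ (α σ w)
      have h7 : α τ (g (α σ w)) = ρ (α σ w) := h6
      rw [hg'] at h7
      have h8 : w * (τ w)⁻¹ = ρ w * (ρ (σ w))⁻¹ := by
        have : α τ w = w * (τ w)⁻¹ := rfl
        rw [← this, h7]
        show ρ (w * (σ w)⁻¹) = _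
        rw [map_mul, map_inv₀]
      have h9 : τ w ≠ 0 := (map_ne_zero τ).mpr hw
      have h10 : ρ (σ w) ≠ 0 := (map_ne_zero ρ).mpr ((map_ne_zero σ).mpr hw)
      show ρ w * τ w = w * ρ (σ w)
      field_simp at h8
      linear_combination -h8
    rcases prod_unique h5 with ⟨h6, h7⟩ | ⟨h6, h7⟩
    · rw [h7, h6]; rfl
    · rw [h7]
      ext w
      have h8 : ρ w = ρ (σ w) := congrArg (fun f : F ≃ₐ[ZMod 2] F => f w) h6
      exact (ρ.injective h8).symm
  obtain ⟨σ, hσ⟩ : ∃ σ, t σ x₀ ≠ 0 := by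
    by_contra hcon
    push Not at hcon
    apply hx₀N
    rw [hker x₀ hx₀]
    intro w
    rw [ht x₀ hx₀]
    exact Finset.sum_eq_zero fun σ _ => by rw [hcon, zero_mul]
  refine ⟨σ, t σ, ?_, ?_, fixσ x₀ hx₀ hx₀N σ hσ⟩
  · intro x hx w
    rw [ht x hx]
    apply Finset.sum_eq_single
    · intro τ _ hτ
      by_cases hxN : x ∈ N
      · rw [tN x hxN, zero_mul]
      have h1 : t σ x ≠ 0 := fun h => hxN (kerσ x₀ hx₀ σ hσ x hx h)
      have h2 : t τ x = 0 := by
        by_contra h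
        exact hτ (uniq x hx hxN τ σ h h1)
      rw [h2, zero_mul]
    · intro h
      exact absurd (Finset.mem_univ _) h
  · intro x hx
    exact ⟨kerσ x₀ hx₀ σ hσ x hx, fun h => tN x h σ⟩

end CfsgLib.Szk
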