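import Cfsg.Agent.EqBase
import Cfsg.Agent.LibSzk3
/-!
# Suzuki 2-groups IV: minimal invariant sections, homocyclic subgroups (helper16)
-/
set_option autoImplicit false
set_option linter.all false
namespace CfsgLib.Szk

universe u v

/-- commutator `x⁻¹ y⁻¹ x y` -/
def cm {P : Type u} [Group P] (x y : P) : P := x⁻¹ * y⁻¹ * x * y

section basic
variable {P : Type u} [Group P]

theorem cm_def (x y : P) : cm x y = x⁻¹ * y⁻¹ * x * y := rfl
theorem cm_eq_one {x y : P} : cm x y = 1 ↔ x * y = y * x := by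
  rw [cm_def]
  constructor
  · intro h
    have h1 : x⁻¹ * y⁻¹ * x * y = (y * x)⁻¹ * (x * y) := by group
    rw [h1] at h
    exact (inv_mul_eq_one.mp h).symm
  · intro h
    have h1 : x⁻¹ * y⁻¹ * x * y = (y * x)⁻¹ * (x * y) := by group
    rw [h1, h, inv_mul_cancel]
theorem cm_self (x : P) : cm x x = 1 := cm_eq_one.mpr rfl
theorem cm_mul_left (x y g : P) : cm (x * y) g = y⁻¹ * cm x g * y * cm y g := by simp only [cm_def]; group
theorem cm_mul_right (a x y : P) : cm a (x * y) = cm a y * (y⁻¹ * cm a x * y) := by simp only [cm_def]; group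
theorem cm_inv (x y : P) : (cm x y)⁻¹ = cm y x := by simp only [cm_def]; group
theorem conj_eq (x g : P) : g⁻¹ * x * g = x * cm x g := by simp only [cm_def]; group
theorem mul_sq (x y : P) : (x * y) * (x * y) = (x * x) * (y * y) * ((y * y)⁻¹ * cm x y⁻¹ * (y * y)) := by simp only [cm_def]; group
theorem mul_sq' (x y : P) : (x * y) * (x * y) = (x * x) * cm x y⁻¹ * (y * y) := by simp only [cm_def]; group
end basic

section
variable {P : Type u} {K : Type v} [Group P] [Finite P] [CommGroup K] [MulDistribMulAction K P]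

theorem smul_cm (k : K) (x y : P) : k • cm x y = cm (k • x) (k • y) := by
  simp only [cm_def, smul_mul', smul_inv']

/-- an involution-like element of a normal section, central in the quotient -/
theorem exists_central (h2 : IsPGroup 2 P) {A C : Subgroup P} (hAn : A.Normal) (hCn : C.Normal) (hAC : A < C) :
    ∃ x ∈ C, x ∉ A ∧ (∀ g, cm x g ∈ A) ∧ x * x ∈ A := by
  classical
  haveI := Fact.mk Nat.prime_two
  haveI : Group.IsNilpotent (P ⧸ A) := (h2.to_quotient A).isNilpotent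
  have h3 : C.map (QuotientGroup.mk' A) ≠ ⊥ := by
    intro h
    apply hAC.not_ge
    intro x hx
    have h1 : QuotientGroup.mk' A x ∈ C.map (QuotientGroup.mk' A) := ⟨x, hx, rfl⟩
    rw [h, Subgroup.mem_bot] at h1
    exact (QuotientGroup.eq_one_iff x).mp h1
  haveI : (C.map (QuotientGroup.mk' A)).Normal := hCn.map _ (QuotientGroup.mk'_surjective A)
  have h4 := CfsgLib.SolvNilp.inf_center_ne_bot _ h3
  obtain ⟨y, ⟨hy1, hy2⟩, hy3, hy4⟩ := exists_inv (h2.to_quotient A) h4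
  obtain ⟨x, hx, rfl⟩ := hy1
  refine ⟨x, hx, fun h => hy3 ((QuotientGroup.eq_one_iff x).mpr h), fun g => ?_, ?_⟩
  · have h5 := (Subgroup.mem_center_iff.mp hy2) (QuotientGroup.mk' A g)
    rw [← QuotientGroup.eq_one_iff]
    have h6 : (QuotientGroup.mk' A) (cm x g) = 1 := by
      rw [cm_def, map_mul, map_mul, map_mul, map_inv, map_inv]
      have : ((QuotientGroup.mk' A) x)⁻¹ * ((QuotientGroup.mk' A) g)⁻¹ * (QuotientGroup.mk' A) x * (QuotientGroup.mk' A) g =
        ((QuotientGroup.mk' A) g * (QuotientGroup.mk' A) x)⁻¹ * ((QuotientGroup.mk' A) x * (QuotientGroup.mk' A) g) := by group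
      rw [this, h5, inv_mul_cancel]
    exact h6
  · rw [← QuotientGroup.eq_one_iff]
    exact hy4

/-- minimal invariant sections -/
theorem exists_min (h2 : IsPGroup 2 P) {A C : Subgroup P} (hA : KInv K A) (hAn : A.Normal) (hC : KInv K C) (hCn : C.Normal) (hAC : A < C) :
    ∃ M : Subgroup P, KInv K M ∧ A < M ∧ M ≤ C ∧ (∀ m ∈ M, ∀ g : P, cm m g ∈ A) ∧ (∀ m ∈ M, m * m ∈ A) ∧
      (∀ X : Subgroup P, KInv K X → A ≤ X → X ≤ M → X = A ∨ X = M) := by
  classical
  obtain ⟨x, hxC, hxA, hxg, hxx⟩ := exists_central h2 hAn hCn hAC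
  let C' : Subgroup P :=
    { carrier := {x | x ∈ C ∧ (∀ g, cm x g ∈ A) ∧ x * x ∈ A}
      one_mem' := ⟨C.one_mem, fun g => by rw [cm_eq_one.mpr (by rw [one_mul, mul_one])]; exact A.one_mem, by rw [one_mul]; exact A.one_mem⟩
      mul_mem' := by
        rintro x y ⟨h1, h2, h3⟩ ⟨h1', h2', h3'⟩
        refine ⟨C.mul_mem h1 h1', fun g => ?_, ?_⟩
        · rw [cm_mul_left]
          have h4 := hAn.conj_mem _ (h2 g) y⁻¹
          rw [inv_inv] at h4
          exact A.mul_mem h4 (h2' g)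
        · rw [mul_sq']
          exact A.mul_mem (A.mul_mem h3 (h2 _)) h3'
      inv_mem' := by
        rintro x ⟨h1, h2, h3⟩
        refine ⟨C.inv_mem h1, fun g => ?_, ?_⟩
        · have h4 : cm x⁻¹ g = x * (cm x g)⁻¹ * x⁻¹ := by simp only [cm_def]; group
          rw [h4]
          exact hAn.conj_mem _ (A.inv_mem (h2 g)) x
        · have h4 : x⁻¹ * x⁻¹ = (x * x)⁻¹ := by group
          rw [h4]; exact A.inv_mem h3 }
  have hC'i : KInv K C' := by
    rintro k x ⟨h1, h2, h3⟩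
    refine ⟨hC k x h1, fun g => ?_, ?_⟩
    · have h4 := hA k _ (h2 (k⁻¹ • g))
      rw [smul_cm, smul_inv_smul] at h4
      exact h4
    · rw [← smul_mul']; exact hA k _ h3
  have hAC' : A < C' := by
    refine lt_of_le_of_ne (fun a ha => ⟨hAC.le ha, fun g => ?_, A.mul_mem ha ha⟩) ?_
    · have h4 := hAn.conj_mem a ha g⁻¹
      rw [inv_inv, conj_eq] at h4
      have h5 := A.mul_mem (A.inv_mem ha) h4
      rwa [inv_mul_cancel_left] at h5
    · intro h
      apply hxA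
      rw [h]
      exact ⟨hxC, hxg, hxx⟩
  obtain ⟨M, ⟨hM1, hM2, hM3⟩, hM4⟩ := (wellFounded_lt (α := Subgroup P)).has_min {M | KInv K M ∧ A < M ∧ M ≤ C'} ⟨C', hC'i, hAC', le_rfl⟩
  refine ⟨M, hM1, hM2, fun m hm => (hM3 hm).1, fun m hm => (hM3 hm).2.1, fun m hm => (hM3 hm).2.2, fun X hX hAX hXM => ?_⟩
  by_contra hcon
  push Not at hcon
  exact hM4 X ⟨hX, lt_of_le_of_ne hAX (Ne.symm hcon.1), hXM.trans hM3⟩ (lt_of_le_of_ne hXM hcon.2)

end

section log
variable {P : Type u} {K : Type v} [Group P] [Finite P] [CommGroup K] [MulDistribMulAction K P]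
variable {F : Type} [Field F] [Finite F] [Algebra (ZMod 2) F]
namespace Crd
variable (C : Crd P K F)

open Classical in
/-- logarithm of an involution -/
noncomputable def log (u : P) : F := if hu : u * u = 1 then (C.surj u hu).choose else 0

theorem φ_log {u : P} (hu : u * u = 1) : C.φ (C.log u) = u := by
  unfold log
  rw [dif_pos hu]
  exact (C.surj u hu).choose_spec

theorem log_φ (x : F) : C.log (C.φ x) = x := C.inj (C.φ_log (C.sq x))

omit [Finite P] [Finite F] [Algebra (ZMod 2) F] in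
theorem φ_zero : C.φ 0 = 1 := by
  have h := C.add 0 0
  rw [add_zero] at h
  exact (left_eq_mul.mp h)

theorem log_one : C.log 1 = 0 := by rw [← C.φ_zero, C.log_φ]

theorem log_eq_zero {u : P} (hu : u * u = 1) : C.log u = 0 ↔ u = 1 := by
  constructor
  · intro h
    rw [← C.φ_log hu, h, C.φ_zero]
  · rintro rfl
    exact C.log_one

theorem log_mul {u v : P} (hu : u * u = 1) (hv : v * v = 1) : C.log (u * v) = C.log u + C.log v := by
  have h : u * v = C.φ (C.log u + C.log v) := by rw [C.add, C.φ_log hu, C.φ_log hv]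
  rw [h, C.log_φ]

theorem log_smul (k : K) {u : P} (hu : u * u = 1) : C.log (k • u) = C.κ k * C.log u := by
  have h : k • u = C.φ (C.κ k * C.log u) := by rw [← C.smul, C.φ_log hu]
  rw [h, C.log_φ]

theorem log_inv {u : P} (hu : u * u = 1) : C.log u⁻¹ = C.log u := by
  rw [inv_eq_of_mul_eq_one_left hu]

theorem log_inj {u v : P} (hu : u * u = 1) (hv : v * v = 1) (h : C.log u = C.log v) : u = v := by
  rw [← C.φ_log hu, h, C.φ_log hv]

theorem κ_ne (k : K) : C.κ k ≠ 0 := by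
  intro h0
  have h1 : C.κ k * C.κ k⁻¹ = 1 := by rw [← map_mul, mul_inv_cancel, map_one]
  rw [h0, zero_mul] at h1
  exact zero_ne_one h1
end Crd
end log

/-- homocyclic data: an invariant abelian subgroup of exponent `2 ^ (s+1)` -/
structure Hom {P : Type u} {K : Type v} [Group P] [CommGroup K] [MulDistribMulAction K P] (A : Subgroup P) (s : ℕ) : Prop where
  inv : KInv K A
  comm : ∀ a ∈ A, ∀ b ∈ A, a * b = b * a
  exp : ∀ a ∈ A, a ^ 2 ^ (s + 1) = 1
  ne : ∃ a ∈ A, a ^ 2 ^ s ≠ 1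

section
variable {P : Type u} {K : Type v} [Group P] [Finite P] [CommGroup K] [MulDistribMulAction K P]

theorem mul_pow_of_comm {A : Subgroup P} (hc : ∀ a ∈ A, ∀ b ∈ A, a * b = b * a) {a b : P} (ha : a ∈ A) (hb : b ∈ A) (n : ℕ) : (a * b) ^ n = a ^ n * b ^ n :=
  (show Commute a b from hc a ha b hb).mul_pow n

/-- the subgroup of `n`-th powers -/
def pw {A : Subgroup P} (hc : ∀ a ∈ A, ∀ b ∈ A, a * b = b * a) (n : ℕ) : Subgroup P where
  carrier := {x | ∃ a ∈ A, a ^ n = x}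
  one_mem' := ⟨1, A.one_mem, one_pow n⟩
  mul_mem' := by
    rintro _ _ ⟨a, ha, rfl⟩ ⟨b, hb, rfl⟩
    exact ⟨a * b, A.mul_mem ha hb, mul_pow_of_comm hc ha hb n⟩
  inv_mem' := by
    rintro _ ⟨a, ha, rfl⟩
    exact ⟨a⁻¹, A.inv_mem ha, inv_pow a n⟩

theorem pw_le {A : Subgroup P} (hc : ∀ a ∈ A, ∀ b ∈ A, a * b = b * a) (n : ℕ) : pw hc n ≤ A := by
  rintro _ ⟨a, ha, rfl⟩
  exact A.pow_mem ha n

theorem pw_inv {A : Subgroup P} (hc : ∀ a ∈ A, ∀ b ∈ A, a * b = b * a) (hA : KInv K A) (n : ℕ) : KInv K (pw hc n) := by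
  rintro k _ ⟨a, ha, rfl⟩
  exact ⟨k • a, hA k a ha, by rw [smul_pow']⟩

theorem pw_normal {A : Subgroup P} (hc : ∀ a ∈ A, ∀ b ∈ A, a * b = b * a) (hA : A.Normal) (n : ℕ) : (pw hc n).Normal := by
  refine ⟨?_⟩
  rintro _ ⟨a, ha, rfl⟩ g
  exact ⟨g * a * g⁻¹, hA.conj_mem a ha g, by rw [conj_pow]⟩

/-- existence of the exponent -/
theorem exists_exp (h2 : IsPGroup 2 P) {A : Subgroup P} (hi : KInv K A) (hc : ∀ a ∈ A, ∀ b ∈ A, a * b = b * a) (hne : A ≠ ⊥) :
    ∃ s, Hom (K := K) A s := by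
  classical
  haveI := Fact.mk Nat.prime_two
  have h1 : ∃ n, ∀ a ∈ A, a ^ 2 ^ n = 1 := by
    obtain ⟨n, hn⟩ := IsPGroup.iff_card.mp h2
    exact ⟨n, fun a _ => by rw [← hn]; exact pow_card_eq_one'⟩
  have h3 := Nat.find_spec h1
  have h4 : Nat.find h1 ≠ 0 := by
    intro h0
    rw [h0] at h3
    obtain ⟨a, ha, ha1⟩ := (Subgroup.bot_or_exists_ne_one A).resolve_left hne
    apply ha1
    have := h3 a ha
    rwa [pow_zero, pow_one] at this
  obtain ⟨s, hs⟩ := Nat.exists_eq_succ_of_ne_zero h4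
  refine ⟨s, hi, hc, ?_, ?_⟩
  · rw [hs] at h3; exact h3
  · have h5 := Nat.find_min h1 (m := s) (by omega)
    push Not at h5
    exact h5

namespace Hom
variable {A : Subgroup P} {s : ℕ} (H : Hom (K := K) A s) (S : Suz P K)
include H

theorem ne_bot : A ≠ ⊥ := by
  obtain ⟨a, ha, ha1⟩ := H.ne
  rintro rfl
  rw [Subgroup.mem_bot] at ha
  exact ha1 (by rw [ha, one_pow])

theorem sq_pow {a : P} (ha : a ∈ A) : a ^ 2 ^ s * a ^ 2 ^ s = 1 := by
  rw [← pow_add, ← two_mul, ← pow_succ', H.exp a ha]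

include S

theorem Z_le : S.Z ≤ A := S.Z_le H.inv H.ne_bot

theorem surj {z : P} (hz : z * z = 1) : ∃ a ∈ A, a ^ 2 ^ s = z := by
  have h1 : pw H.comm (2 ^ s) ≠ ⊥ := by
    obtain ⟨a, ha, ha1⟩ := H.ne
    intro h
    have : a ^ 2 ^ s ∈ pw H.comm (2 ^ s) := ⟨a, ha, rfl⟩
    rw [h] at this
    exact ha1 this
  exact S.Z_le (pw_inv H.comm H.inv _) h1 hz

/-- elements of small order are powers -/
theorem divisible (j : ℕ) : ∀ i, i + j = s + 1 → ∀ a ∈ A, a ^ 2 ^ j = 1 → ∃ b ∈ A, b ^ 2 ^ i = a := by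
  induction j with
  | zero =>
    intro i _ a _ h
    rw [pow_zero, pow_one] at h
    exact ⟨1, A.one_mem, by rw [one_pow, h]⟩
  | succ j ih =>
    intro i hi a ha h
    have h1 : a ^ 2 ^ j * a ^ 2 ^ j = 1 := by rw [← pow_add, ← two_mul, ← pow_succ', h]
    obtain ⟨c, hc, hcz⟩ := H.surj S h1
    have h2 : (a * (c ^ 2 ^ i)⁻¹) ^ 2 ^ j = 1 := by
      rw [mul_pow_of_comm H.comm ha (A.inv_mem (A.pow_mem hc _)), inv_pow, ← pow_mul, ← pow_add, show i + j = s by omega, hcz, mul_inv_cancel]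
    obtain ⟨b, hb, hbb⟩ := ih (i + 1) (by omega) _ (A.mul_mem ha (A.inv_mem (A.pow_mem hc _))) h2
    refine ⟨b ^ 2 * c, A.mul_mem (A.pow_mem hb _) hc, ?_⟩
    rw [mul_pow_of_comm H.comm (A.pow_mem hb _) hc, ← pow_mul, ← pow_succ', hbb, inv_mul_cancel_right]

/-- squares -/
theorem sq_of {a : P} (ha : a ∈ A) (h : a ^ 2 ^ s = 1) : ∃ b ∈ A, b * b = a := by
  obtain ⟨b, hb, hbb⟩ := H.divisible S s 1 (by omega) a ha h
  exact ⟨b, hb, by rw [← hbb]; rw [pow_one, pow_two]⟩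

/-- commutators with elements of an invariant normal abelian subgroup are squares -/
theorem cm_pow (hn : A.Normal) {F : Type} [Field F] [Finite F] [Algebra (ZMod 2) F] (C : Crd P K F) {a : P} (ha : a ∈ A) (g : P) : (cm a g) ^ 2 ^ s = 1 := by
  have hlt : pw H.comm 2 < A := by
    refine lt_of_le_of_ne (pw_le _ _) ?_
    intro h
    obtain ⟨a, ha, ha1⟩ := H.ne
    rw [← h] at ha
    obtain ⟨b, hb, rfl⟩ := ha
    apply ha1
    rw [← pow_mul, ← pow_succ', H.exp b hb]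
  obtain ⟨M, hM1, hM2, hM3, hM4, -, -⟩ := exists_min S.two (pw_inv H.comm H.inv 2) (pw_normal H.comm hn 2) H.inv hn hlt
  have hMA : M = A := by
    apply le_antisymm hM3
    intro a ha
    obtain ⟨m, hm, hm2⟩ : ∃ m ∈ M, m ∉ pw H.comm 2 := by
      by_contra hcon
      push Not at hcon
      exact hM2.not_ge hcon
    have hmA := hM3 hm
    have hlm : C.log (m ^ 2 ^ s) ≠ 0 := by
      intro h
      rw [C.log_eq_zero (H.sq_pow hmA)] at h
      obtain ⟨b, hb, hbb⟩ := H.sq_of S hmA h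
      exact hm2 ⟨b, hb, by rw [pow_two, hbb]⟩
    by_cases ha0 : a ^ 2 ^ s = 1
    · obtain ⟨b, hb, hbb⟩ := H.sq_of S ha ha0
      exact hM2.le ⟨b, hb, by rw [pow_two, hbb]⟩
    have hla : C.log (a ^ 2 ^ s) ≠ 0 := fun h => ha0 ((C.log_eq_zero (H.sq_pow ha)).mp h)
    obtain ⟨k, hk⟩ := C.κs (C.log (a ^ 2 ^ s) * (C.log (m ^ 2 ^ s))⁻¹) (mul_ne_zero hla (inv_ne_zero hlm))
    have h1 : (k • m) ^ 2 ^ s = a ^ 2 ^ s := by
      apply C.log_inj (H.sq_pow (H.inv k m hmA)) (H.sq_pow ha)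
      rw [← smul_pow', C.log_smul k (H.sq_pow hmA), hk, inv_mul_cancel_right₀ hlm]
    have h2 : ((k • m)⁻¹ * a) ^ 2 ^ s = 1 := by
      rw [mul_pow_of_comm H.comm (A.inv_mem (H.inv k m hmA)) ha, inv_pow, h1, inv_mul_cancel]
    obtain ⟨b, hb, hbb⟩ := H.sq_of S (A.mul_mem (A.inv_mem (H.inv k m hmA)) ha) h2
    have h3 : (k • m)⁻¹ * a ∈ M := hM2.le ⟨b, hb, by rw [pow_two, hbb]⟩
    have h4 := M.mul_mem (hM1 k m hm) h3
    rwa [mul_inv_cancel_left] at h4
  rw [← hMA] at ha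
  obtain ⟨b, hb, hbb⟩ := hM4 a ha g
  rw [← hbb, ← pow_mul, ← pow_succ', H.exp b hb]

end Hom
end
end CfsgLib.Szk
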