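import Cfsg.Agent.EqBase
import Cfsg.Agent.LibSzk4
/-!
# Suzuki 2-groups V: maximal abelian invariant subgroups (helper16)
-/
set_option autoImplicit false
set_option linter.all false
namespace CfsgLib.Szk

universe u v

variable {P : Type u} {K : Type v} [Group P] [Finite P] [CommGroup K] [MulDistribMulAction K P]
variable {F : Type} [Field F] [Finite F] [Algebra (ZMod 2) F]

theorem cm_one_left (g : P) : cm (1 : P) g = 1 := cm_eq_one.mpr (by rw [one_mul, mul_one])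

theorem pow_two_pow_succ (x : P) (n : ℕ) : x ^ 2 ^ (n + 1) = (x * x) ^ 2 ^ n := by
  rw [pow_succ', pow_mul, pow_two]

/-- maximal invariant normal abelian subgroups of exponent at least 4 are self-centralizing -/
theorem self_cent (S : Suz P K) (C : Crd P K F) {A : Subgroup P} {s : ℕ} (H : Hom (K := K) A s) (hs : 1 ≤ s) (hn : A.Normal)
    (hmax : ∀ B : Subgroup P, KInv K B → B.Normal → (∀ a ∈ B, ∀ b ∈ B, a * b = b * a) → A ≤ B → B = A) {x : P} (hx : ∀ a ∈ A, a * x = x * a) : x ∈ A := by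
  classical
  by_contra hxA
  have hCn : (Subgroup.centralizer (A : Set P)).Normal := by
    haveI := hn
    infer_instance
  have hAC : A ≤ Subgroup.centralizer (A : Set P) := by
    intro a ha
    rw [Subgroup.mem_centralizer_iff]
    exact fun b hb => H.comm b hb a ha
  have hlt : A < Subgroup.centralizer (A : Set P) := by
    refine lt_of_le_of_ne hAC ?_
    intro h
    apply hxA
    rw [h, Subgroup.mem_centralizer_iff]
    exact hx
  obtain ⟨M, hMi, hAM, hMC, hMcm, hMsq, hirr⟩ := exists_min S.two H.inv hn H.inv.centralizer hCn hlt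
  have hMA : ∀ m ∈ M, ∀ a ∈ A, a * m = m * a := fun m hm a ha => (Subgroup.mem_centralizer_iff.mp (hMC hm)) a ha
  -- commutators are involutions
  have hc1 : ∀ m ∈ M, ∀ x ∈ M, cm m x * cm m x = 1 := by
    intro m hm x hx
    have h1 : cm (m * m) x = 1 := cm_eq_one.mpr (hMA x hx _ (hMsq m hm))
    rw [cm_mul_left] at h1
    have h2 : m⁻¹ * cm m x * m = cm m x := by
      rw [mul_assoc, hMA m hm _ (hMcm m hm x)]; group
    rwa [h2] at h1
  have hc2 : ∀ m ∈ M, ∀ x ∈ M, cm m x ^ 2 ^ s = 1 := by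
    intro m hm x hx
    obtain ⟨n, rfl⟩ : ∃ n, s = n + 1 := ⟨s - 1, by omega⟩
    rw [pow_two_pow_succ, hc1 m hm x hx, one_pow]
  -- logarithm of squares
  let Λ : P → F := fun m => C.log ((m * m) ^ 2 ^ s)
  have hΛA : ∀ a ∈ A, Λ a = 0 := by
    intro a ha
    show C.log ((a * a) ^ 2 ^ s) = 0
    rw [← pow_two_pow_succ, H.exp a ha, C.log_one]
  have hΛmul : ∀ m ∈ M, ∀ x ∈ M, Λ (m * x) = Λ m + Λ x := by
    intro m hm x hx
    show C.log ((m * x * (m * x)) ^ 2 ^ s) = C.log ((m * m) ^ 2 ^ s) + C.log ((x * x) ^ 2 ^ s)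
    rw [mul_sq', mul_pow_of_comm H.comm (A.mul_mem (hMsq m hm) (hMcm m hm _)) (hMsq x hx), mul_pow_of_comm H.comm (hMsq m hm) (hMcm m hm _),
      hc2 m hm _ (M.inv_mem hx), mul_one, C.log_mul (H.sq_pow (hMsq m hm)) (H.sq_pow (hMsq x hx))]
  have hΛ1 : Λ 1 = 0 := hΛA 1 A.one_mem
  have hΛinv : ∀ m ∈ M, Λ m⁻¹ = Λ m := by
    intro m hm
    have h1 := hΛmul m hm _ (M.inv_mem hm)
    rw [mul_inv_cancel, hΛ1] at h1
    exact (eq_of_add h1.symm).symm
  have hΛsmul : ∀ (k : K), ∀ m ∈ M, Λ (k • m) = C.κ k * Λ m := by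
    intro k m hm
    show C.log ((k • m * k • m) ^ 2 ^ s) = C.κ k * C.log ((m * m) ^ 2 ^ s)
    rw [← smul_mul', ← smul_pow', C.log_smul k (H.sq_pow (hMsq m hm))]
  have hΛ0 : ∀ m ∈ M, Λ m = 0 → m ∈ A := by
    intro m hm h0
    have h1 : (m * m) ^ 2 ^ s = 1 := (C.log_eq_zero (H.sq_pow (hMsq m hm))).mp h0
    obtain ⟨b, hb, hbb⟩ := H.sq_of S (hMsq m hm) h1
    have h2 : (m * b⁻¹) * (m * b⁻¹) = 1 := by
      have h3 := hMA m hm _ (A.inv_mem hb)
      calc m * b⁻¹ * (m * b⁻¹) = m * (b⁻¹ * m) * b⁻¹ := by group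
        _ = m * (m * b⁻¹) * b⁻¹ := by rw [h3]
        _ = (m * m) * (b * b)⁻¹ := by group
        _ = 1 := by rw [hbb, mul_inv_cancel]
    have h3 := H.Z_le S h2
    have h4 := A.mul_mem h3 hb
    rwa [inv_mul_cancel_right] at h4
  obtain ⟨m₀, hm₀, hm₀A⟩ : ∃ m ∈ M, m ∉ A := by
    by_contra hcon
    push Not at hcon
    exact hAM.not_ge hcon
  have hm₀Λ : Λ m₀ ≠ 0 := fun h => hm₀A (hΛ0 m₀ hm₀ h)
  have hsurj : ∀ w : F, ∃ m ∈ M, Λ m = w := by
    intro w
    by_cases hw : w = 0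
    · exact ⟨1, M.one_mem, by rw [hΛ1, hw]⟩
    obtain ⟨k, hk⟩ := C.κs (w * (Λ m₀)⁻¹) (mul_ne_zero hw (inv_ne_zero hm₀Λ))
    exact ⟨k • m₀, hMi k _ hm₀, by rw [hΛsmul k m₀ hm₀, hk, inv_mul_cancel_right₀ hm₀Λ]⟩
  let T : P → F → F := fun x w => C.log (cm (hsurj w).choose x)
  have hT : ∀ x ∈ M, ∀ m ∈ M, T x (Λ m) = C.log (cm m x) := by
    intro x hx m hm
    show C.log (cm (hsurj (Λ m)).choose x) = _
    obtain ⟨h1, h2⟩ := (hsurj (Λ m)).choose_spec
    set m' := (hsurj (Λ m)).choose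
    have h3 : m⁻¹ * m' ∈ A := hΛ0 _ (M.mul_mem (M.inv_mem hm) h1) (by
      rw [hΛmul _ (M.inv_mem hm) _ h1, hΛinv m hm, h2]; exact add_self _)
    have h4 : m' = m * (m⁻¹ * m') := by group
    rw [h4, cm_mul_left, cm_eq_one.mpr (hMA x hx _ h3), mul_one]
    congr 1
    rw [mul_assoc, H.comm _ (hMcm m hm x) _ h3, ← mul_assoc, inv_mul_cancel, one_mul]
  have hMab : ¬ ∀ a ∈ M, ∀ b ∈ M, a * b = b * a := by
    intro h
    have hMn : M.Normal := by
      refine ⟨fun m hm g => ?_⟩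
      have h1 := conj_eq m g⁻¹
      rw [inv_inv] at h1
      rw [h1]
      exact M.mul_mem hm (hAM.le (hMcm m hm _))
    exact hAM.ne (hmax M hMi hMn h hAM.le).symm
  let Y : Subgroup P :=
    { carrier := {x | x ∈ M ∧ ∀ m ∈ M, cm m x = 1}
      one_mem' := ⟨M.one_mem, fun m _ => cm_eq_one.mpr (by rw [mul_one, one_mul])⟩
      mul_mem' := by
        rintro x y ⟨hx, hx'⟩ ⟨hy, hy'⟩
        refine ⟨M.mul_mem hx hy, fun m hm => ?_⟩
        rw [cm_mul_right, hx' m hm, hy' m hm]; group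
      inv_mem' := by
        rintro x ⟨hx, hx'⟩
        refine ⟨M.inv_mem hx, fun m hm => ?_⟩
        rw [cm_eq_one]
        have h1 := cm_eq_one.mp (hx' m hm)
        have h2 : x⁻¹ * (m * x) * x⁻¹ = x⁻¹ * (x * m) * x⁻¹ := by rw [h1]
        have h3 : x⁻¹ * (m * x) * x⁻¹ = x⁻¹ * m := by group
        have h4 : x⁻¹ * (x * m) * x⁻¹ = m * x⁻¹ := by group
        rw [h3, h4] at h2
        exact h2.symm }
  have hYi : KInv K Y := by
    rintro k x ⟨hx, hx'⟩
    refine ⟨hMi k x hx, fun m hm => ?_⟩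
    have h1 := congrArg (fun z => k • z) (hx' (k⁻¹ • m) (hMi k⁻¹ m hm))
    simp only [smul_cm, smul_inv_smul, smul_one] at h1
    exact h1
  have hYA : Y = A := by
    rcases hirr Y hYi (fun a ha => ⟨hAM.le ha, fun m hm => cm_eq_one.mpr (hMA m hm a ha).symm⟩) (fun x hx => hx.1) with h | h
    · exact h
    · exfalso
      apply hMab
      intro a ha b hb
      have : b ∈ Y := by rw [h]; exact hb
      exact cm_eq_one.mp (this.2 a ha)
  obtain ⟨σ, t, h1, h2, h3⟩ := lin S C hMi H.inv hAM.le hirr hAM.ne T (by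
      intro x hx v w
      obtain ⟨m, hm, rfl⟩ := hsurj v
      obtain ⟨m', hm', rfl⟩ := hsurj w
      rw [← hΛmul m hm m' hm', hT x hx _ (M.mul_mem hm hm'), hT x hx m hm, hT x hx m' hm', cm_mul_left]
      have h4 : m'⁻¹ * cm m x * m' = cm m x := by
        rw [mul_assoc, hMA m' hm' _ (hMcm m hm x)]; group
      rw [h4, C.log_mul (hc1 m hm x hx) (hc1 m' hm' x hx)]) (by
      intro x hx y hy w
      obtain ⟨m, hm, rfl⟩ := hsurj w
      rw [hT _ (M.mul_mem hx hy) m hm, hT x hx m hm, hT y hy m hm, cm_mul_right]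
      have h4 : y⁻¹ * cm m x * y = cm m x := by
        rw [mul_assoc, hMA y hy _ (hMcm m hm x)]; group
      rw [h4, C.log_mul (hc1 m hm y hy) (hc1 m hm x hx), add_comm]) (by
      intro k x hx w
      obtain ⟨m, hm, rfl⟩ := hsurj w
      rw [← hΛsmul k m hm, hT _ (hMi k x hx) _ (hMi k m hm), hT x hx m hm, ← smul_cm, C.log_smul k (hc1 m hm x hx)]) (by
      intro x hx
      constructor
      · intro hxA w
        obtain ⟨m, hm, rfl⟩ := hsurj w
        rw [hT x hx m hm, cm_eq_one.mpr (hMA m hm x hxA).symm, C.log_one]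
      · intro h
        rw [← hYA]
        refine ⟨hx, fun m hm => ?_⟩
        have h4 := h (Λ m)
        rw [hT x hx m hm] at h4
        exact (C.log_eq_zero (hc1 m hm x hx)).mp h4)
  have h4 := h1 m₀ hm₀ (Λ m₀)
  rw [hT m₀ hm₀ m₀ hm₀, cm_self, C.log_one] at h4
  rcases mul_eq_zero.mp h4.symm with h5 | h5
  · exact hm₀A ((h2 m₀ hm₀).mp h5)
  · exact hm₀Λ ((map_eq_zero σ).mp h5)

end CfsgLib.Szk
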