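import Cfsg.Agent.EqBase
import Cfsg.Agent.LibSzk5
/-!
# Suzuki 2-groups VI: irreducible sections above a self-centralizing homocyclic subgroup (helper16)
-/
set_option autoImplicit false
set_option linter.all false
namespace CfsgLib.Szk

universe u v

variable {P : Type u} {K : Type v} [Group P] [Finite P] [CommGroup K] [MulDistribMulAction K P]
variable {F : Type} [Field F] [Finite F] [Algebra (ZMod 2) F]

/-- the irreducible sections -/
theorem irr_section (S : Suz P K) (C : Crd P K F) {A : Subgroup P} {s : ℕ} (H : Hom (K := K) A s) (hs : 1 ≤ s) (hn : A.Normal)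
    (hsc : ∀ x : P, (∀ a ∈ A, cm a x = 1) → x ∈ A) {M : Subgroup P} (hMi : KInv K M) (hAM : A < M) (hMsq : ∀ m ∈ M, m * m ∈ A)
    (hirr : ∀ X : Subgroup P, KInv K X → A ≤ X → X ≤ M → X = A ∨ X = M) :
    s = 1 ∧ (∀ m ∈ M, (m * m) * (m * m) = 1) ∧ ∃ (σ : F ≃ₐ[ZMod 2] F) (t : P → F), (∀ x ∈ M, ∀ a ∈ A, C.log (cm a x) = t x * σ (C.log (a ^ 2 ^ s))) ∧
      (∀ x ∈ M, t x = 0 ↔ x ∈ A) ∧ (∀ w : F, w ≠ 0 → σ w = w → w = 1) ∧ (∀ x ∈ M, ∀ a ∈ A, cm a x * cm a x = 1) := by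
  classical
  have hcA : ∀ a ∈ A, ∀ g, cm a g ∈ A := by
    intro a ha g
    have h4 := hn.conj_mem a ha g⁻¹
    rw [inv_inv, conj_eq] at h4
    have h5 := A.mul_mem (A.inv_mem ha) h4
    rwa [inv_mul_cancel_left] at h5
  have hcl : ∀ a ∈ A, ∀ b ∈ A, ∀ g, cm (a * b) g = cm a g * cm b g := by
    intro a ha b hb g
    rw [cm_mul_left, H.comm _ (A.inv_mem hb) _ (hcA a ha g), inv_mul_cancel_right]
  have hcpow : ∀ a ∈ A, ∀ g, ∀ n : ℕ, cm (a ^ n) g = (cm a g) ^ n := by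
    intro a ha g n
    induction n with
    | zero => rw [pow_zero, pow_zero]; exact cm_one_left g
    | succ n ih => rw [pow_succ, hcl _ (A.pow_mem ha n) _ ha, ih, pow_succ]
  -- minimal exponent of the commutators
  have hex : ∃ r, ∀ a ∈ A, ∀ x ∈ M, (cm a x) ^ 2 ^ r = 1 := ⟨s, fun a ha x _ => H.cm_pow S hn C ha x⟩
  have hrs : Nat.find hex ≤ s := Nat.find_min' hex (fun a ha x _ => H.cm_pow S hn C ha x)
  have hr := Nat.find_spec hex
  have hr0 : Nat.find hex ≠ 0 := by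
    intro h0
    rw [h0] at hr
    apply hAM.not_ge
    intro x hx
    apply hsc
    intro a ha
    have := hr a ha x hx
    rwa [pow_zero, pow_one] at this
  obtain ⟨r, hrr⟩ := Nat.exists_eq_succ_of_ne_zero hr0
  rw [hrr] at hr hrs
  have hmin : ∃ a ∈ A, ∃ x ∈ M, (cm a x) ^ 2 ^ r ≠ 1 := by
    have h5 := Nat.find_min hex (m := r) (by omega)
    push Not at h5
    exact h5
  have hr' : ∀ a ∈ A, ∀ x ∈ M, (cm a x) ^ 2 ^ r * (cm a x) ^ 2 ^ r = 1 := by
    intro a ha x hx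
    rw [← pow_add, ← two_mul, ← pow_succ']
    exact hr a ha x hx
  -- the logarithm
  let L : P → F := fun a => C.log (a ^ 2 ^ s)
  have hLmul : ∀ a ∈ A, ∀ b ∈ A, L (a * b) = L a + L b := by
    intro a ha b hb
    show C.log ((a * b) ^ 2 ^ s) = _
    rw [mul_pow_of_comm H.comm ha hb, C.log_mul (H.sq_pow ha) (H.sq_pow hb)]
  have hL0 : ∀ a ∈ A, L a = 0 → ∃ b ∈ A, b * b = a := by
    intro a ha h
    exact H.sq_of S ha ((C.log_eq_zero (H.sq_pow ha)).mp h)
  have hLs : ∀ w : F, ∃ a ∈ A, L a = w := by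
    intro w
    obtain ⟨a, ha, haw⟩ := H.surj S (C.sq w)
    exact ⟨a, ha, by show C.log (a ^ 2 ^ s) = w; rw [haw, C.log_φ]⟩
  have hLk : ∀ (k : K), ∀ a ∈ A, L (k • a) = C.κ k * L a := by
    intro k a ha
    show C.log ((k • a) ^ 2 ^ s) = _
    rw [← smul_pow', C.log_smul k (H.sq_pow ha)]
  have hLinv : ∀ a ∈ A, L a⁻¹ = L a := by
    intro a ha
    have h1 := hLmul a ha _ (A.inv_mem ha)
    rw [mul_inv_cancel] at h1
    have h2 : L 1 = 0 := by show C.log ((1 : P) ^ 2 ^ s) = 0; rw [one_pow, C.log_one]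
    rw [h2] at h1
    exact (eq_of_add h1.symm).symm
  let T : P → F → F := fun x w => C.log ((cm (hLs w).choose x) ^ 2 ^ r)
  have hT : ∀ x ∈ M, ∀ a ∈ A, T x (L a) = C.log ((cm a x) ^ 2 ^ r) := by
    intro x hx a ha
    show C.log ((cm (hLs (L a)).choose x) ^ 2 ^ r) = _
    obtain ⟨h1, h2⟩ := (hLs (L a)).choose_spec
    set a' := (hLs (L a)).choose
    obtain ⟨b, hb, hbb⟩ := hL0 (a⁻¹ * a') (A.mul_mem (A.inv_mem ha) h1) (by
      rw [hLmul _ (A.inv_mem ha) _ h1, hLinv a ha, h2]; exact add_self _)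
    have h4 : a' = a * (b * b) := by rw [hbb]; group
    rw [h4, hcl a ha _ (A.mul_mem hb hb), hcl b hb b hb, mul_pow_of_comm H.comm (hcA a ha x) (A.mul_mem (hcA b hb x) (hcA b hb x)),
      mul_pow_of_comm H.comm (hcA b hb x) (hcA b hb x), hr' b hb x hx, mul_one]
  let Y : Subgroup P :=
    { carrier := {x | x ∈ M ∧ ∀ a ∈ A, (cm a x) ^ 2 ^ r = 1}
      one_mem' := ⟨M.one_mem, fun m _ => by rw [cm_eq_one.mpr (by rw [mul_one, one_mul]), one_pow]⟩
      mul_mem' := by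
        rintro x y ⟨hx, hx'⟩ ⟨hy, hy'⟩
        refine ⟨M.mul_mem hx hy, fun a ha => ?_⟩
        have h4 : y⁻¹ * cm a x * y ∈ A := by
          have := hn.conj_mem _ (hcA a ha x) y⁻¹
          rwa [inv_inv] at this
        have h5 : (y⁻¹ * cm a x * y) ^ 2 ^ r = y⁻¹ * (cm a x) ^ 2 ^ r * y := by
          have := conj_pow (a := y⁻¹) (b := cm a x) (i := 2 ^ r)
          rwa [inv_inv] at this
        rw [cm_mul_right, mul_pow_of_comm H.comm (hcA a ha y) h4, hy' a ha, h5, hx' a ha]; group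
      inv_mem' := by
        rintro x ⟨hx, hx'⟩
        refine ⟨M.inv_mem hx, fun a ha => ?_⟩
        have h4 : cm a x⁻¹ = x * (cm a x)⁻¹ * x⁻¹ := by simp only [cm_def]; group
        rw [h4, conj_pow, inv_pow, hx' a ha]; group }
  have hYi : KInv K Y := by
    rintro k x ⟨hx, hx'⟩
    refine ⟨hMi k x hx, fun a ha => ?_⟩
    have h1 := congrArg (fun z => k • z) (hx' (k⁻¹ • a) (H.inv k⁻¹ a ha))
    simp only [smul_pow', smul_cm, smul_inv_smul, smul_one] at h1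
    exact h1
  have hYA : Y = A := by
    rcases hirr Y hYi (fun a ha => ⟨hAM.le ha, fun b hb => by rw [cm_eq_one.mpr (H.comm b hb a ha), one_pow]⟩) (fun x hx => hx.1) with h | h
    · exact h
    · exfalso
      obtain ⟨a, ha, x, hx, hax⟩ := hmin
      have : x ∈ Y := by rw [h]; exact hx
      exact hax (this.2 a ha)
  obtain ⟨σ, t, h1, h2, h3⟩ := lin S C hMi H.inv hAM.le hirr hAM.ne T (by
      intro x hx v w
      obtain ⟨a, ha, rfl⟩ := hLs v
      obtain ⟨b, hb, rfl⟩ := hLs w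
      rw [← hLmul a ha b hb, hT x hx _ (A.mul_mem ha hb), hT x hx a ha, hT x hx b hb, hcl a ha b hb, mul_pow_of_comm H.comm (hcA a ha x) (hcA b hb x),
        C.log_mul (hr' a ha x hx) (hr' b hb x hx)]) (by
      intro x hx y hy w
      obtain ⟨a, ha, rfl⟩ := hLs w
      have h4 : y⁻¹ * cm a x * y ∈ A := by
        have := hn.conj_mem _ (hcA a ha x) y⁻¹
        rwa [inv_inv] at this
      have h5 : (y⁻¹ * cm a x * y) ^ 2 ^ r = y⁻¹ * (cm a x) ^ 2 ^ r * y := by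
        have := conj_pow (a := y⁻¹) (b := cm a x) (i := 2 ^ r)
        rwa [inv_inv] at this
      rw [hT _ (M.mul_mem hx hy) a ha, hT x hx a ha, hT y hy a ha, cm_mul_right, mul_pow_of_comm H.comm (hcA a ha y) h4, h5]
      have h6 : y⁻¹ * (cm a x) ^ 2 ^ r * y = (cm a x) ^ 2 ^ r := by
        rw [mul_assoc, S.central (hr' a ha x hx) y]; group
      rw [h6, C.log_mul (hr' a ha y hy) (hr' a ha x hx), add_comm]) (by
      intro k x hx w
      obtain ⟨a, ha, rfl⟩ := hLs w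
      rw [← hLk k a ha, hT _ (hMi k x hx) _ (H.inv k a ha), hT x hx a ha, ← smul_cm, ← smul_pow', C.log_smul k (hr' a ha x hx)]) (by
      intro x hx
      constructor
      · intro hxA w
        obtain ⟨a, ha, rfl⟩ := hLs w
        rw [hT x hx a ha, cm_eq_one.mpr (H.comm a ha x hxA), one_pow, C.log_one]
      · intro h
        rw [← hYA]
        refine ⟨hx, fun a ha => ?_⟩
        have h4 := h (L a)
        rw [hT x hx a ha] at h4
        exact (C.log_eq_zero (hr' a ha x hx)).mp h4)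
  obtain ⟨m₀, hm₀, hm₀A⟩ : ∃ m ∈ M, m ∉ A := by
    by_contra hcon
    push Not at hcon
    exact hAM.not_ge hcon
  have ht0 : t m₀ ≠ 0 := fun h => hm₀A ((h2 m₀ hm₀).mp h)
  have hT0 : ∀ x ∈ M, x ∉ A → ∀ w, w ≠ 0 → T x w ≠ 0 := by
    intro x hx hxA w hw
    rw [h1 x hx]
    exact mul_ne_zero (fun h => hxA ((h2 x hx).mp h)) ((map_ne_zero σ).mpr hw)
  -- the basic identity
  have hid : ∀ a ∈ A, ∀ x ∈ M, cm (cm a x) x = (cm a x * cm a x)⁻¹ := by
    intro a ha x hx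
    have h4 : cm a (x * x) = 1 := cm_eq_one.mpr (H.comm a ha _ (hMsq x hx))
    rw [cm_mul_right, conj_eq, ← mul_assoc] at h4
    exact (eq_inv_of_mul_eq_one_right h4)
  -- `r = 0`
  have hr0 : r = 0 := by
    by_contra hne
    obtain ⟨n, rfl⟩ := Nat.exists_eq_succ_of_ne_zero hne
    have key : ∀ x ∈ M, x ∉ A → ∀ a ∈ A, ∃ d ∈ A, d ^ 2 ^ (s - n - 1) = cm a x ∧ ((cm d x) ^ 2 ^ (s - 1) = ((cm a x) ^ 2 ^ (n + 1))⁻¹) := by
      intro x hx hxA a ha
      obtain ⟨d, hd, hdd⟩ := H.divisible S (n + 2) (s - n - 1) (by omega) _ (hcA a ha x) (hr a ha x hx)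
      refine ⟨d, hd, hdd, ?_⟩
      have h4 : (cm (cm a x) x) ^ 2 ^ n = ((cm a x) ^ 2 ^ (n + 1))⁻¹ := by
        rw [hid a ha x hx, inv_pow, ← pow_two_pow_succ]
      rw [← h4, ← hdd, hcpow d hd, ← pow_mul, ← pow_add]
      congr 2
      omega
    by_cases hlt : n + 2 < s
    · obtain ⟨a, ha, x, hx, hax⟩ := hmin
      have hxA : x ∉ A := fun h => hax (by rw [cm_eq_one.mpr (H.comm a ha x h), one_pow])
      obtain ⟨d, hd, -, h5⟩ := key x hx hxA a ha
      apply hax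
      have h6 : (cm d x) ^ 2 ^ (s - 1) = 1 := by
        obtain ⟨j, hj⟩ := Nat.exists_eq_add_of_le (show n + 2 ≤ s - 1 by omega)
        rw [hj, pow_add, pow_mul, hr d hd x hx, one_pow]
      rw [h6] at h5
      exact (inv_eq_one.mp h5.symm)
    · have hsn : s = n + 2 := by omega
      have hidem : ∀ x ∈ M, x ∉ A → ∀ w, T x (T x w) = T x w := by
        intro x hx hxA w
        obtain ⟨a, ha, rfl⟩ := hLs w
        obtain ⟨d, hd, h4, h5⟩ := key x hx hxA a ha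
        have h6 : T x (L a) = L d := by
          rw [hT x hx a ha]
          show _ = C.log (d ^ 2 ^ s)
          rw [← h4, ← pow_mul, ← pow_add]
          congr 3
          omega
        rw [h6, hT x hx d hd, ← h6, hT x hx a ha]
        have h7 : s - 1 = n + 1 := by omega
        rw [h7] at h5
        rw [h5, C.log_inv (hr' a ha x hx)]
      have hone : ∀ x ∈ M, x ∉ A → t x = 1 := by
        intro x hx hxA
        have h4 := hidem x hx hxA 1
        rw [h1 x hx, h1 x hx, map_one, mul_one] at h4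
        have h5 : t x ≠ 0 := fun h => hxA ((h2 x hx).mp h)
        have h6 : σ (t x) = 1 := mul_left_cancel₀ h5 (h4.trans (mul_one _).symm)
        rw [← map_one σ] at h6
        exact σ.injective h6
      obtain ⟨k, hk⟩ := S.nt
      have h4 : T (k • m₀) (C.κ k * 1) = C.κ k * T m₀ 1 := by
        obtain ⟨a, ha, haw⟩ := hLs 1
        rw [← haw, ← hLk k a ha, hT _ (hMi k m₀ hm₀) _ (H.inv k a ha), hT m₀ hm₀ a ha, ← smul_cm, ← smul_pow', C.log_smul k (hr' a ha m₀ hm₀)]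
      rw [mul_one, h1 m₀ hm₀, h1 _ (hMi k m₀ hm₀), hone m₀ hm₀ hm₀A, hone _ (hMi k m₀ hm₀) (fun h => hm₀A ((smul_mem_iff H.inv k m₀).mp h)), map_one, one_mul, mul_one, mul_one] at h4
      have h5 := h3 _ (C.κ_ne k) h4
      apply hk
      apply C.κi
      rw [h5, map_one]
  subst hr0
  have hc2 : ∀ x ∈ M, ∀ a ∈ A, cm a x * cm a x = 1 := by
    intro x hx a ha
    have := hr' a ha x hx
    rwa [pow_zero, pow_one] at this
  -- squares
  have hsq : ∀ m ∈ M, (m * m) ^ 2 ^ s = 1 := by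
    intro m hm
    by_cases hmA : m ∈ A
    · rw [← pow_two_pow_succ, H.exp m hmA]
    have h4 := hT m hm _ (hMsq m hm)
    rw [cm_eq_one.mpr (show m * m * m = m * (m * m) by group), one_pow, C.log_one] at h4
    have h5 : L (m * m) = 0 := by
      by_contra h6
      exact hT0 m hm hmA _ h6 h4
    exact (C.log_eq_zero (H.sq_pow (hMsq m hm))).mp h5
  have hs1 : s = 1 := by
    by_contra hne
    obtain ⟨n, hsn⟩ : ∃ n, s = n + 2 := ⟨s - 2, by omega⟩
    obtain ⟨b, hb, hbb⟩ := H.sq_of S (hMsq m₀ hm₀) (hsq m₀ hm₀)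
    have hyM : m₀ * b⁻¹ ∈ M := M.mul_mem hm₀ (hAM.le (A.inv_mem hb))
    have hz : (m₀ * b⁻¹) * (m₀ * b⁻¹) = (cm b m₀)⁻¹ := by
      rw [mul_sq', inv_inv, ← hbb]
      have h4 : cm m₀ b = (cm b m₀)⁻¹ := (cm_inv b m₀).symm
      rw [h4]
      have h5 := H.comm (b * b) (A.mul_mem hb hb) ((cm b m₀)⁻¹) (A.inv_mem (hcA b hb m₀))
      rw [h5]; group
    have hzz : (m₀ * b⁻¹) * (m₀ * b⁻¹) * ((m₀ * b⁻¹) * (m₀ * b⁻¹)) = 1 := by
      rw [hz, ← mul_inv_rev, hc2 m₀ hm₀ b hb, inv_one]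
    obtain ⟨d, hd, hdz⟩ := H.surj S hzz
    set y := m₀ * b⁻¹ with hy
    have h5 : (y * (d ^ 2 ^ (n + 1))) * (y * (d ^ 2 ^ (n + 1))) = 1 := by
      have h6 : cm y (d ^ 2 ^ (n + 1))⁻¹ = 1 := by
        rw [← inv_pow]
        have h7 : cm (d⁻¹ ^ 2 ^ (n + 1)) y = 1 := by
          rw [hcpow _ (A.inv_mem hd), pow_two_pow_succ, hc2 y hyM _ (A.inv_mem hd), one_pow]
        rw [cm_eq_one] at h7 ⊢
        exact h7.symm
      rw [mul_sq', h6, mul_one, ← pow_add, ← two_mul, ← pow_succ', ← hsn, hdz, hzz]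
    have h6 := H.Z_le S h5
    apply hm₀A
    have h7 := A.mul_mem (A.mul_mem h6 (A.inv_mem (A.pow_mem hd (2 ^ (n + 1))))) hb
    have h8 : y * d ^ 2 ^ (n + 1) * (d ^ 2 ^ (n + 1))⁻¹ * b = m₀ := by rw [hy]; group
    rwa [h8] at h7
  refine ⟨hs1, ?_, σ, t, ?_, h2, h3, hc2⟩
  · intro m hm
    have := hsq m hm
    rw [hs1, pow_one, pow_two] at this
    exact this
  · intro x hx a ha
    have h4 := hT x hx a ha
    rw [h1 x hx, pow_zero, pow_one] at h4
    exact h4.symm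

end CfsgLib.Szk
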