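import Cfsg.Agent.EqBase
import Cfsg.Agent.LibSzk6
import Cfsg.Agent.LibH7Masch
/-!
# Suzuki 2-groups VII: Higman's theorem, squares are central involutions (helper16)
-/
set_option autoImplicit false
set_option linter.all false
namespace CfsgLib.Szk

universe u v

variable {P : Type u} {K : Type v} [Group P] [Finite P] [CommGroup K] [MulDistribMulAction K P]
variable {F : Type} [Field F] [Finite F] [Algebra (ZMod 2) F]

theorem card_K_odd (S : Suz P K) (C : Crd P K F) : Odd (Nat.card K) ∧ Finite K := by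
  classical
  haveI : Fintype F := Fintype.ofFinite F
  haveI hfin : Finite K := Finite.of_injective _ C.κi
  refine ⟨?_, hfin⟩
  have e : K ≃ Fˣ := Equiv.ofBijective C.κ.toHomUnits (by
    constructor
    · intro k l h
      exact C.κi (congrArg (fun z : Fˣ => (z : F)) h)
    · intro z
      obtain ⟨k, hk⟩ := C.κs z z.ne_zero
      exact ⟨k, Units.ext hk⟩)
  rw [Nat.card_congr e, Nat.card_eq_fintype_card, Fintype.card_units]
  have h2 : CharP F 2 := CharTwo.of_one_ne_zero_of_two_eq_zero one_ne_zero two_zero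
  have h3 : Even (Fintype.card F) := by
    rw [Nat.even_iff]
    exact FiniteField.even_card_iff_char_two.mp (ringChar.eq_iff.mpr h2)
  have h4 : 0 < Fintype.card F := Fintype.card_pos
  obtain ⟨m, hm⟩ := h3
  exact ⟨m - 1, by omega⟩

/-- relative Maschke theorem -/
theorem exists_compl (hodd : Odd (Nat.card K)) [Finite K] {A J : Subgroup P} [hn : A.Normal] (hA : KInv K A) (hsq : ∀ x : P, x * x ∈ A) (hJ : KInv K J) (hAJ : A ≤ J) :
    ∃ Y : Subgroup P, KInv K Y ∧ A ≤ Y ∧ J ⊓ Y = A ∧ J ⊔ Y = ⊤ := by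
  classical
  haveI := Fact.mk Nat.prime_two
  have hv : ∀ v : P ⧸ A, v * v = 1 := by
    intro v
    obtain ⟨x, rfl⟩ := QuotientGroup.mk'_surjective A v
    rw [← map_mul]
    exact (QuotientGroup.eq_one_iff _).mpr (hsq x)
  letI cg : CommGroup (P ⧸ A) := { (inferInstance : Group (P ⧸ A)) with
    mul_comm := fun v w => by
      have h1 := hv (v * w)
      have h2 : (v * w) * (v * w) * (w * v) = v * w * (v * (w * w) * v) := by group
      rw [h1, hv w, mul_one, hv v, one_mul, mul_one] at h2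
      exact h2.symm }
  letI act : MulDistribMulAction K (P ⧸ A) := CfsgLib.H7Masch.quotAct A hA
  have hact : ∀ (k : K) (x : P), k • (QuotientGroup.mk' A x) = QuotientGroup.mk' A (k • x) := fun k x => rfl
  obtain ⟨U, hU1, hU2, hU3⟩ := CfsgLib.H7Masch.maschke (A := K) (V := P ⧸ A) (p := 2) (fun v => by rw [pow_two, hv])
    ((Nat.coprime_two_right).mpr hodd) (J.map (QuotientGroup.mk' A)) (by
      rintro k _ ⟨x, hx, rfl⟩
      exact ⟨k • x, hJ k x hx, rfl⟩)
  have hmem : ∀ x, x ∈ U.comap (QuotientGroup.mk' A) ↔ QuotientGroup.mk' A x ∈ U := fun x => Iff.rfl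
  have hAY : A ≤ U.comap (QuotientGroup.mk' A) := by
    intro a ha
    rw [hmem]
    have : QuotientGroup.mk' A a = 1 := (QuotientGroup.eq_one_iff a).mpr ha
    rw [this]; exact U.one_mem
  refine ⟨U.comap (QuotientGroup.mk' A), ?_, hAY, ?_, ?_⟩
  · intro k x hx
    rw [hmem] at hx ⊢
    exact hU1 k _ hx
  · apply le_antisymm _ (le_inf hAJ hAY)
    rintro x ⟨hx1, hx2⟩
    have h1 : QuotientGroup.mk' A x ∈ J.map (QuotientGroup.mk' A) ⊓ U := ⟨⟨x, hx1, rfl⟩, hx2⟩
    rw [hU2, Subgroup.mem_bot] at h1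
    exact (QuotientGroup.eq_one_iff x).mp h1
  · rw [eq_top_iff]
    intro x _
    have h1 : QuotientGroup.mk' A x ∈ J.map (QuotientGroup.mk' A) ⊔ U := by rw [hU3]; trivial
    obtain ⟨v, ⟨j, hj, rfl⟩, w, hw, hvw⟩ := Subgroup.mem_sup.mp h1
    obtain ⟨y, rfl⟩ := QuotientGroup.mk'_surjective A w
    rw [← map_mul] at hvw
    have h2 : (j * y)⁻¹ * x ∈ A := QuotientGroup.eq.mp hvw
    have h3 : x = j * (y * ((j * y)⁻¹ * x)) := by group
    rw [h3]
    exact Subgroup.mul_mem_sup hj (Subgroup.mul_mem _ hw (hAY h2))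

/-- squares modulo a subgroup with exponent-two quotient -/
theorem cm_mem_of_sq {A : Subgroup P} (hn : A.Normal) (hsq : ∀ x : P, x * x ∈ A) (x y : P) : cm x y ∈ A := by
  have h1 : cm x y = (x⁻¹ * x⁻¹) * ((x * y⁻¹) * (x * y⁻¹)) * (y * y) := by simp only [cm_def]; group
  rw [h1]
  exact A.mul_mem (A.mul_mem (hsq _) (hsq _)) (hsq _)

/-- homocyclic self-centralizing subgroup of exponent 4 -/
theorem step_four (S : Suz P K) (C : Crd P K F) {A : Subgroup P} {s : ℕ} (H : Hom (K := K) A s) (hs : 1 ≤ s) (hn : A.Normal)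
    (hsc : ∀ x : P, (∀ a ∈ A, cm a x = 1) → x ∈ A) (hAtop : A ≠ ⊤) : ∀ x : P, (x * x) * (x * x) = 1 := by
  classical
  obtain ⟨hodd, hfin⟩ := card_K_odd S C
  have hcA : ∀ a ∈ A, ∀ g, cm a g ∈ A := by
    intro a ha g
    have h4 := hn.conj_mem a ha g⁻¹
    rw [inv_inv, conj_eq] at h4
    have h5 := A.mul_mem (A.inv_mem ha) h4
    rwa [inv_mul_cancel_left] at h5
  have hs1 : s = 1 := by
    obtain ⟨M, hMi, hAM, -, -, hMsq, hirr⟩ := exists_min S.two H.inv hn (KInv.top (K := K)) inferInstance (lt_top_iff_ne_top.mpr hAtop)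
    exact (irr_section S C H hs hn hsc hMi hAM hMsq hirr).1
  subst hs1
  have hcm2 : ∀ a ∈ A, ∀ g, cm a g * cm a g = 1 := by
    intro a ha g
    have := H.cm_pow S hn C ha g
    rwa [pow_one, pow_two] at this
  have hsq : ∀ x : P, x * x ∈ A := by
    intro x
    apply hsc
    intro a ha
    rw [cm_mul_right]
    have h6 : x⁻¹ * cm a x * x = cm a x := by
      rw [mul_assoc, S.central (hcm2 a ha x) x]; group
    rw [h6, hcm2 a ha x]
  have hcA' : ∀ x y : P, cm x y ∈ A := cm_mem_of_sq hn hsq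
  have hirrsec : ∀ M : Subgroup P, KInv K M → A < M → (∀ X : Subgroup P, KInv K X → A ≤ X → X ≤ M → X = A ∨ X = M) →
      (∀ m ∈ M, (m * m) * (m * m) = 1) ∧ ∃ (σ : F ≃ₐ[ZMod 2] F) (t : P → F), (∀ x ∈ M, ∀ a ∈ A, C.log (cm a x) = t x * σ (C.log (a ^ 2 ^ 1))) ∧
      (∀ x ∈ M, t x = 0 ↔ x ∈ A) ∧ (∀ w : F, w ≠ 0 → σ w = w → w = 1) := by
    intro M hMi hAM hirr
    obtain ⟨-, h1, σ, t, h2, h3, h4, -⟩ := irr_section S C H hs hn hsc hMi hAM (fun m _ => hsq m) hirr
    exact ⟨h1, σ, t, h2, h3, h4⟩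
  -- the logarithm on commutators
  let L : P → F := fun a => C.log (a ^ 2 ^ 1)
  have hsqa : ∀ a ∈ A, a ^ 2 ^ 1 * a ^ 2 ^ 1 = 1 := fun a ha => H.sq_pow ha
  have hLmul : ∀ a ∈ A, ∀ b ∈ A, L (a * b) = L a + L b := by
    intro a ha b hb
    show C.log ((a * b) ^ 2 ^ 1) = _
    rw [mul_pow_of_comm H.comm ha hb, C.log_mul (hsqa a ha) (hsqa b hb)]
  have hLinv : ∀ a ∈ A, L a⁻¹ = L a := by
    intro a ha
    show C.log (a⁻¹ ^ 2 ^ 1) = C.log (a ^ 2 ^ 1)
    rw [inv_pow, C.log_inv (hsqa a ha)]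
  have hLconj : ∀ a ∈ A, ∀ g, L (g⁻¹ * a * g) = L a := by
    intro a ha g
    have h1 : L (cm a g) = 0 := by
      show C.log ((cm a g) ^ 2 ^ 1) = 0
      rw [pow_one, pow_two, hcm2 a ha g, C.log_one]
    rw [conj_eq, hLmul a ha _ (hcA a ha g), h1, add_zero]
  have hpair : ∀ V₁ V₂ : Subgroup P, (KInv K V₁ ∧ A < V₁ ∧ (∀ X : Subgroup P, KInv K X → A ≤ X → X ≤ V₁ → X = A ∨ X = V₁)) →
      (KInv K V₂ ∧ A < V₂ ∧ (∀ X : Subgroup P, KInv K X → A ≤ X → X ≤ V₂ → X = A ∨ X = V₂)) → ∀ x ∈ V₁, ∀ y ∈ V₂, cm x y * cm x y = 1 := by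
    rintro V₁ V₂ ⟨hV₁, hAV₁, hirr₁⟩ ⟨hV₂, hAV₂, hirr₂⟩ x₀ hx₀ y₀ hy₀
    obtain ⟨hsq₁, σ, t, hT₁, ht₁, hσ₁⟩ := hirrsec V₁ hV₁ hAV₁ hirr₁
    obtain ⟨hsq₂, τ, r, hT₂, ht₂, hτ₂⟩ := hirrsec V₂ hV₂ hAV₂ hirr₂
    -- fixed vectors
    have hfix : ∀ (x y : P), (x * x) * (x * x) = 1 → C.log (cm (cm x y) x) = L (cm x y) := by
      intro x y hxx
      have h1 : cm (x * x) y = 1 := cm_eq_one.mpr (S.central hxx y)
      rw [cm_mul_left, conj_eq] at h1
      have h2 : cm x y * cm (cm x y) x * cm x y = (cm x y * cm x y) * cm (cm x y) x := by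
        rw [mul_assoc, H.comm _ (hcA _ (hcA' x y) x) _ (hcA' x y), ← mul_assoc]
      rw [h2] at h1
      have h3 : cm (cm x y) x = (cm x y * cm x y)⁻¹ := eq_inv_of_mul_eq_one_right h1
      have h4 : (cm x y * cm x y) * (cm x y * cm x y) = 1 := by
        have := hsqa _ (hcA' x y)
        rwa [pow_one, pow_two] at this
      rw [h3, C.log_inv h4]
      show _ = C.log ((cm x y) ^ 2 ^ 1)
      rw [pow_one, pow_two]
    have hf₁ : ∀ x ∈ V₁, ∀ y, t x * σ (L (cm x y)) = L (cm x y) := by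
      intro x hx y
      conv_rhs => rw [← hfix x y (hsq₁ x hx), hT₁ x hx _ (hcA' x y)]
    have hf₂ : ∀ y ∈ V₂, ∀ x, r y * τ (L (cm x y)) = L (cm x y) := by
      intro y hy x
      have h1 : L (cm x y) = L (cm y x) := by rw [← cm_inv y x, hLinv _ (hcA' y x)]
      rw [h1]
      conv_rhs => rw [← hfix y x (hsq₂ y hy), hT₂ y hy _ (hcA' y x)]
    by_contra hne
    have hγ : L (cm x₀ y₀) ≠ 0 := by
      intro h
      apply hne
      have h1 := (C.log_eq_zero (hsqa _ (hcA' x₀ y₀))).mp h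
      rwa [pow_one, pow_two] at h1
    set γ := L (cm x₀ y₀) with hγd
    have hy₀A : y₀ ∉ A := by
      intro h
      apply hne
      have h1 := hcm2 y₀ h x₀
      rw [← cm_inv y₀ x₀, ← mul_inv_rev, h1, inv_one]
    have hval : ∀ y, L (cm x₀ y) = 0 ∨ L (cm x₀ y) = γ := by
      intro y
      by_cases h0 : L (cm x₀ y) = 0
      · exact Or.inl h0
      right
      have h1 := hf₁ x₀ hx₀ y
      have h2 := hf₁ x₀ hx₀ y₀
      rw [← hγd] at h2
      have h3 : σ (L (cm x₀ y) * γ⁻¹) = L (cm x₀ y) * γ⁻¹ := by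
        rw [map_mul, map_inv₀]
        have h4 : σ γ ≠ 0 := (map_ne_zero σ).mpr hγ
        have h5 : t x₀ ≠ 0 := by
          intro h
          rw [h, zero_mul] at h2
          exact hγ h2.symm
        field_simp
        apply mul_left_cancel₀ h5
        linear_combination γ * h1 - L (cm x₀ y) * h2
      have h4 := hσ₁ _ (mul_ne_zero h0 (inv_ne_zero hγ)) h3
      exact (mul_inv_eq_one₀ hγ).mp h4
    obtain ⟨k, hk⟩ := S.nt
    have hadd : ∀ y y', L (cm x₀ (y * y')) = L (cm x₀ y') + L (cm x₀ y) := by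
      intro y y'
      have h1 : y'⁻¹ * cm x₀ y * y' ∈ A := by
        have := hn.conj_mem _ (hcA' x₀ y) y'⁻¹
        rwa [inv_inv] at this
      rw [cm_mul_right, hLmul _ (hcA' _ _) _ h1, hLconj _ (hcA' _ _)]
    obtain ⟨y', hy', hy'A, hy'0⟩ : ∃ y' ∈ V₂, y' ∉ A ∧ L (cm x₀ y') = 0 := by
      rcases hval (k • y₀) with h | h
      · exact ⟨k • y₀, hV₂ k _ hy₀, fun h' => hy₀A ((smul_mem_iff H.inv k y₀).mp h'), h⟩
      · refine ⟨y₀ * (k • y₀), V₂.mul_mem hy₀ (hV₂ k _ hy₀), ?_, ?_⟩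
        · intro h'
          apply hy₀A
          apply S.fq H.inv hk
          have h1 : y₀⁻¹ * (k • y₀) = (y₀ * y₀)⁻¹ * (y₀ * (k • y₀)) := by group
          rw [h1]
          exact A.mul_mem (A.inv_mem (hsq y₀)) h'
        · rw [hadd, h, ← hγd]; exact add_self _
    have h5 : L (cm x₀ (y₀ * y')) = γ := by rw [hadd, hy'0, zero_add]
    have h6 := hf₂ _ (V₂.mul_mem hy₀ hy') x₀
    rw [h5] at h6
    have h7 := hf₂ y₀ hy₀ x₀
    rw [← hγd] at h7
    -- additivity of `r`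
    obtain ⟨a, ha, haγ⟩ := H.surj S (C.sq γ)
    have haL : C.log (a ^ 2 ^ 1) = γ := by rw [haγ, C.log_φ]
    have h8 := hT₂ _ (V₂.mul_mem hy₀ hy') a ha
    have h9 := hT₂ y₀ hy₀ a ha
    have h10 := hT₂ y' hy' a ha
    rw [haL] at h8 h9 h10
    have h11 : C.log (cm a (y₀ * y')) = C.log (cm a y') + C.log (cm a y₀) := by
      rw [cm_mul_right]
      have h6 : y'⁻¹ * cm a y₀ * y' = cm a y₀ := by
        rw [mul_assoc, S.central (hcm2 a ha y₀) y']; group
      rw [h6, C.log_mul (hcm2 a ha _) (hcm2 a ha _)]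
    rw [h8, h9, h10, h6, h7] at h11
    have h12 : r y' * τ γ = 0 := by
      have h2 : (2 : F) = 0 := two_zero
      linear_combination -h11
    rcases mul_eq_zero.mp h12 with h13 | h13
    · exact hy'A ((ht₂ y' hy').mp h13)
    · exact hγ ((map_eq_zero τ).mp h13)
  -- the join of the irreducible sections
  let 𝒱 : Set (Subgroup P) := {V | KInv K V ∧ A < V ∧ (∀ X : Subgroup P, KInv K X → A ≤ X → X ≤ V → X = A ∨ X = V)}
  have hne : ∃ V, V ∈ 𝒱 := by
    obtain ⟨M, hMi, hAM, -, -, -, hirr⟩ := exists_min S.two H.inv hn (KInv.top (K := K)) inferInstance (lt_top_iff_ne_top.mpr hAtop)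
    exact ⟨M, hMi, hAM, hirr⟩
  have hJ : sSup 𝒱 = ⊤ := by
    by_contra hJ
    haveI := hn
    have hJi : KInv K (sSup 𝒱) := KInv.sup_set fun V hV => hV.1
    obtain ⟨V₀, hV₀⟩ := hne
    have hAJ : A ≤ sSup 𝒱 := hV₀.2.1.le.trans (le_sSup hV₀)
    obtain ⟨Y, hYi, hAY, h1, h2⟩ := exists_compl hodd H.inv hsq hJi hAJ
    have hYA : A < Y := by
      refine lt_of_le_of_ne hAY ?_
      rintro rfl
      rw [sup_eq_left.mpr hAJ] at h2
      exact hJ h2
    obtain ⟨V, ⟨hV1, hV2, hV3⟩, hV4⟩ := (wellFounded_lt (α := Subgroup P)).has_min {M | KInv K M ∧ A < M ∧ M ≤ Y} ⟨Y, hYi, hYA, le_rfl⟩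
    have hVm : V ∈ 𝒱 := by
      refine ⟨hV1, hV2, fun X hX hAX hXV => ?_⟩
      by_contra hcon
      push Not at hcon
      exact hV4 X ⟨hX, lt_of_le_of_ne hAX (Ne.symm hcon.1), hXV.trans hV3⟩ (lt_of_le_of_ne hXV hcon.2)
    have h3 : V ≤ A := by rw [← h1]; exact le_inf (le_sSup hVm) hV3
    exact hV2.not_ge h3
  -- all commutators are involutions
  have hZc : ∀ z : P, z * z = 1 → ∀ g, g⁻¹ * z * g = z := fun z hz g => by rw [mul_assoc, S.central hz g]; group
  have hstep1 : ∀ V ∈ 𝒱, ∀ x ∈ V, ∀ y : P, cm x y * cm x y = 1 := by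
    intro V hV x hx
    let Y : Subgroup P :=
      { carrier := {y | cm x y * cm x y = 1}
        one_mem' := by show cm x 1 * cm x 1 = 1; rw [cm_eq_one.mpr (by rw [mul_one, one_mul]), one_mul]
        mul_mem' := by
          intro y y' hy hy'
          show cm x (y * y') * cm x (y * y') = 1
          rw [cm_mul_right, hZc _ hy y']
          exact S.Z.mul_mem hy' hy
        inv_mem' := by
          intro y hy
          show cm x y⁻¹ * cm x y⁻¹ = 1
          have h4 : cm x y⁻¹ = y * (cm x y)⁻¹ * y⁻¹ := by simp only [cm_def]; group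
          rw [h4]
          have h5 : y * (cm x y)⁻¹ * y⁻¹ * (y * (cm x y)⁻¹ * y⁻¹) = y * (cm x y * cm x y)⁻¹ * y⁻¹ := by group
          rw [h5, hy]; group }
    have hYt : Y = ⊤ := by
      rw [eq_top_iff, ← hJ]
      apply sSup_le
      intro V' hV' y hy
      exact hpair V V' hV hV' x hx y hy
    intro y
    have : y ∈ Y := by rw [hYt]; trivial
    exact this
  have hstep2 : ∀ x y : P, cm x y * cm x y = 1 := by
    let Y : Subgroup P :=
      { carrier := {x | ∀ y, cm x y * cm x y = 1}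
        one_mem' := fun y => by rw [cm_one_left, one_mul]
        mul_mem' := by
          intro x x' hx hx' y
          rw [cm_mul_left, hZc _ (hx y) x']
          exact S.Z.mul_mem (hx y) (hx' y)
        inv_mem' := by
          intro x hx y
          have h4 : cm x⁻¹ y = x * (cm x y)⁻¹ * x⁻¹ := by simp only [cm_def]; group
          rw [h4]
          have h5 : x * (cm x y)⁻¹ * x⁻¹ * (x * (cm x y)⁻¹ * x⁻¹) = x * (cm x y * cm x y)⁻¹ * x⁻¹ := by group
          rw [h5, hx y]; group }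
    have hYt : Y = ⊤ := by
      rw [eq_top_iff, ← hJ]
      apply sSup_le
      intro V' hV' x hx y
      exact hstep1 V' hV' x hx y
    intro x
    have : x ∈ Y := by rw [hYt]; trivial
    exact this
  let Y : Subgroup P :=
    { carrier := {x | (x * x) * (x * x) = 1}
      one_mem' := by show (1 * 1 : P) * (1 * 1) = 1; simp
      mul_mem' := by
        intro x y hx hy
        show (x * y * (x * y)) * (x * y * (x * y)) = 1
        have h1 : x * y * (x * y) ∈ S.Z := by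
          rw [mul_sq']
          exact S.Z.mul_mem (S.Z.mul_mem hx (hstep2 x y⁻¹)) hy
        exact h1
      inv_mem' := by
        intro x hx
        show x⁻¹ * x⁻¹ * (x⁻¹ * x⁻¹) = 1
        have h5 : x⁻¹ * x⁻¹ * (x⁻¹ * x⁻¹) = (x * x * (x * x))⁻¹ := by group
        rw [h5, hx, inv_one] }
  have hYt : Y = ⊤ := by
    rw [eq_top_iff, ← hJ]
    apply sSup_le
    intro V' hV' x hx
    exact (hirrsec V' hV'.1 hV'.2.1 hV'.2.2).1 x hx
  intro x
  have : x ∈ Y := by rw [hYt]; trivial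
  exact this

/-- the subgroup of involutions as a maximal abelian invariant normal subgroup -/
theorem step_two (S : Suz P K) (hmax : ∀ B : Subgroup P, KInv K B → B.Normal → (∀ a ∈ B, ∀ b ∈ B, a * b = b * a) → S.Z ≤ B → B = S.Z) :
    ∀ x : P, (x * x) * (x * x) = 1 := by
  classical
  have hZn : S.Z.Normal := by
    refine ⟨fun z hz g => ?_⟩
    rw [mul_assoc, S.Z_comm hz g⁻¹, mul_inv_cancel_left]
    exact hz
  by_cases htop : S.Z = ⊤
  · intro x
    have : x * x ∈ S.Z := by rw [htop]; trivial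
    exact this
  obtain ⟨M, hMi, hZM, -, hMcm, hMsq, hirr⟩ := exists_min S.two S.Z_inv hZn (KInv.top (K := K)) inferInstance (lt_top_iff_ne_top.mpr htop)
  have hMn : M.Normal := by
    refine ⟨fun m hm g => ?_⟩
    have h1 := conj_eq m g⁻¹
    rw [inv_inv] at h1
    rw [h1]
    exact M.mul_mem hm (hZM.le (hMcm m hm _))
  have hMab : ¬ ∀ a ∈ M, ∀ b ∈ M, a * b = b * a := fun h => hZM.ne (hmax M hMi hMn h hZM.le).symm
  -- the centralizer of `M`
  have hC : Subgroup.centralizer (M : Set P) ≤ S.Z := by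
    by_contra hcon
    have hCn : (Subgroup.centralizer (M : Set P)).Normal := by
      haveI := hMn
      infer_instance
    have hZC : S.Z ≤ Subgroup.centralizer (M : Set P) := by
      intro z hz
      rw [Subgroup.mem_centralizer_iff]
      exact fun m _ => (S.Z_comm hz m).symm
    have hlt : S.Z < Subgroup.centralizer (M : Set P) := lt_of_le_of_ne hZC (fun h => hcon h.ge)
    obtain ⟨M₂, hM₂i, hZM₂, hM₂C, -, hM₂sq, -⟩ := exists_min S.two S.Z_inv hZn hMi.centralizer hCn hlt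
    obtain ⟨y, hy, hyZ⟩ : ∃ m ∈ M₂, m ∉ S.Z := by
      by_contra hcon
      push Not at hcon
      exact hZM₂.not_ge hcon
    apply hMab
    have key : ∀ m ∈ M, m ∈ Subgroup.centralizer (M : Set P) := by
      intro m hm
      by_cases hmZ : m ∈ S.Z
      · exact hZC hmZ
      obtain ⟨k, hk⟩ := S.trans (y * y) (m * m) hyZ (hM₂sq y hy) hmZ (hMsq m hm)
      have h1 : k • y ∈ Subgroup.centralizer (M : Set P) := hM₂C (hM₂i k y hy)
      have h2 := (Subgroup.mem_centralizer_iff.mp h1) m hm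
      have h3 : (m * (k • y)⁻¹) * (m * (k • y)⁻¹) = 1 := by
        have h4 : (k • y)⁻¹ * m = m * (k • y)⁻¹ := by
          have h5 : (k • y)⁻¹ * (m * (k • y)) * (k • y)⁻¹ = (k • y)⁻¹ * ((k • y) * m) * (k • y)⁻¹ := by rw [h2]
          have h6 : (k • y)⁻¹ * (m * (k • y)) * (k • y)⁻¹ = (k • y)⁻¹ * m := by group
          have h7 : (k • y)⁻¹ * ((k • y) * m) * (k • y)⁻¹ = m * (k • y)⁻¹ := by group
          rw [h6, h7] at h5
          exact h5
        calc (m * (k • y)⁻¹) * (m * (k • y)⁻¹) = m * ((k • y)⁻¹ * m) * (k • y)⁻¹ := by group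
          _ = m * (m * (k • y)⁻¹) * (k • y)⁻¹ := by rw [h4]
          _ = (m * m) * (k • y * k • y)⁻¹ := by group
          _ = 1 := by rw [← smul_mul', hk, mul_inv_cancel]
      have h4 := Subgroup.mul_mem _ (hZC h3) h1
      rwa [inv_mul_cancel_right] at h4
    intro a ha b hb
    exact (Subgroup.mem_centralizer_iff.mp (key b hb)) a ha
  intro g
  have h1 : g * g ∈ Subgroup.centralizer (M : Set P) := by
    rw [Subgroup.mem_centralizer_iff]
    intro m hm
    rw [← cm_eq_one, cm_mul_right, mul_assoc, S.Z_comm (hMcm m hm g) g, inv_mul_cancel_left]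
    exact hMcm m hm g
  exact hC h1

/-- **Higman's theorem** on Suzuki 2-groups, first part -/
theorem Suz.higman (S : Suz P K) : (∀ x y : P, x * y = y * x) ∨ ∀ x : P, (x * x) * (x * x) = 1 := by
  classical
  obtain ⟨F, iF, iFF, iA, ⟨C⟩⟩ := S.exists_crd
  obtain ⟨A, ⟨hA1, hA2, hA3, hA4⟩, hA5⟩ := (wellFounded_gt (α := Subgroup P)).has_min
    {B | KInv K B ∧ B.Normal ∧ (∀ a ∈ B, ∀ b ∈ B, a * b = b * a) ∧ S.Z ≤ B} ⟨S.Z, S.Z_inv, ⟨fun z hz g => by
      rw [mul_assoc, S.Z_comm hz g⁻¹, mul_inv_cancel_left]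
      exact hz⟩, fun a ha b _ => S.Z_comm ha b, le_rfl⟩
  have hmax : ∀ B : Subgroup P, KInv K B → B.Normal → (∀ a ∈ B, ∀ b ∈ B, a * b = b * a) → A ≤ B → B = A := by
    intro B h1 h2 h3 h4
    by_contra hne
    exact hA5 B ⟨h1, h2, h3, hA4.trans h4⟩ (lt_of_le_of_ne h4 (Ne.symm hne))
  obtain ⟨s, H⟩ := exists_exp S.two hA1 hA3 (fun h => S.Z_ne_bot (by rw [h] at hA4; exact le_bot_iff.mp hA4))
  by_cases htop : A = ⊤
  · left
    intro x y
    exact hA3 x (by rw [htop]; trivial) y (by rw [htop]; trivial)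
  right
  rcases Nat.eq_zero_or_pos s with rfl | hs
  · have hAZ : A = S.Z := by
      apply le_antisymm _ hA4
      intro a ha
      have := H.exp a ha
      rw [zero_add, pow_one, pow_two] at this
      exact this
    apply step_two S
    intro B h1 h2 h3 h4
    rw [← hAZ] at h4 ⊢
    exact hmax B h1 h2 h3 h4
  · exact step_four S C H hs hA2 (fun x hx => self_cent S C H hs hA2 hmax (fun a ha => cm_eq_one.mp (hx a ha))) htop

end CfsgLib.Szk
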