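import Cfsg.Agent.EqBase
import Cfsg.Agent.LibSzk7
/-!
# Suzuki 2-groups VIII: the center and the order (helper16)
-/
set_option autoImplicit false
set_option linter.all false
namespace CfsgLib.Szk

universe u v

/-- sums of sign characters -/
theorem sum_hom {R : Type u} [Group R] [Fintype R] (h : R → ℤ) (hm : ∀ x y, h (x * y) = h x * h y) (h1 : h 1 = 1) :
    ∑ x, h x = Fintype.card R ∨ ∑ x, h x = 0 := by
  by_cases hh : ∀ x, h x = 1
  · left
    rw [Finset.sum_congr rfl fun x _ => hh x]; simp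
  · right
    push Not at hh
    obtain ⟨r, hr⟩ := hh
    have h2 : ∑ x, h x = h r * ∑ x, h x := by
      rw [Finset.mul_sum]
      symm
      apply Fintype.sum_equiv (Equiv.mulLeft r)
      intro x
      exact (hm r x).symm
    have h3 : (1 - h r) * ∑ x, h x = 0 := by linear_combination h2
    rcases mul_eq_zero.mp h3 with h4 | h4
    · exact absurd (by linarith) hr
    · exact h4

/-- signs -/
def sgn (a : ZMod 2) : ℤ := if a = 0 then 1 else -1
theorem sgn_add : ∀ a b : ZMod 2, sgn (a + b) = sgn a * sgn b := by decide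
theorem sgn_zero : sgn 0 = 1 := rfl

theorem exists_sgn (F : Type) [Field F] [Fintype F] [Algebra (ZMod 2) F] : ∃ χ : F → ℤ, (∀ x y, χ (x + y) = χ x * χ y) ∧ χ 0 = 1 ∧ ∑ x, χ x = 0 := by
  obtain ⟨f, hf⟩ : ∃ f : Module.Dual (ZMod 2) F, f 1 ≠ 0 := by
    by_contra hcon
    push Not at hcon
    exact one_ne_zero ((Module.forall_dual_apply_eq_zero_iff (ZMod 2) (1 : F)).mp hcon)
  refine ⟨fun x => sgn (f x), fun x y => by simp only [map_add, sgn_add], by simp only [map_zero]; exact sgn_zero, ?_⟩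
  have h1 : sgn (f 1) = -1 := if_neg hf
  have h2 : ∑ x : F, sgn (f x) = sgn (f 1) * ∑ x : F, sgn (f x) := by
    rw [Finset.mul_sum]
    symm
    apply Fintype.sum_equiv (Equiv.addLeft (1 : F))
    intro x
    show sgn (f 1) * sgn (f x) = sgn (f (1 + x))
    rw [map_add, sgn_add]
  rw [h1] at h2
  linarith

variable {P : Type u} {K : Type v} [Group P] [Finite P] [CommGroup K] [MulDistribMulAction K P]

section
variable (S : Suz P K) (hna : ∃ x y : P, x * y ≠ y * x)
include S hna

theorem Suz.sq_mem (x : P) : x * x ∈ S.Z := by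
  rcases S.higman with h | h
  · obtain ⟨x, y, hxy⟩ := hna
    exact absurd (h x y) hxy
  · exact h x

theorem Suz.Z_normal : S.Z.Normal := ⟨fun z hz g => by
  rw [mul_assoc, S.Z_comm hz g⁻¹, mul_inv_cancel_left]
  exact hz⟩

theorem Suz.cm_mem (x y : P) : cm x y ∈ S.Z := cm_mem_of_sq (S.Z_normal hna) (S.sq_mem hna) x y

theorem Suz.center_eq : Subgroup.center P = S.Z := by
  apply le_antisymm
  · intro z hz
    by_contra hzZ
    obtain ⟨x, y, hxy⟩ := hna
    apply hxy
    have key : ∀ y : P, y ∈ Subgroup.center P := by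
      intro y
      have hZc : S.Z ≤ Subgroup.center P := fun w hw => by
        rw [Subgroup.mem_center_iff]
        exact fun g => (S.Z_comm hw g).symm
      by_cases hy : y ∈ S.Z
      · exact hZc hy
      obtain ⟨k, hk⟩ := S.trans (z * z) (y * y) hzZ (S.sq_mem ⟨x, _, hxy⟩ z) hy (S.sq_mem ⟨x, _, hxy⟩ y)
      have hkz : k • z ∈ Subgroup.center P := by
        rw [Subgroup.mem_center_iff] at hz ⊢
        intro g
        have h1 := congrArg (fun w => k • w) (hz (k⁻¹ • g))
        simp only [smul_mul', smul_inv_smul] at h1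
        exact h1
      have h1 := (Subgroup.mem_center_iff.mp hkz) y⁻¹
      have h3 : (y⁻¹ * (k • z)) * (y⁻¹ * (k • z)) = 1 := by
        calc (y⁻¹ * (k • z)) * (y⁻¹ * (k • z)) = y⁻¹ * ((k • z) * y⁻¹) * (k • z) := by group
          _ = y⁻¹ * (y⁻¹ * (k • z)) * (k • z) := by rw [h1]
          _ = (y * y)⁻¹ * (k • z * k • z) := by group
          _ = 1 := by rw [← smul_mul', hk, inv_mul_cancel]
      have h4 := (Subgroup.center P).mul_mem hkz ((Subgroup.center P).inv_mem (hZc h3))
      have h5 : (k • z) * (y⁻¹ * (k • z))⁻¹ = y := by group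
      rwa [h5] at h4
    exact (Subgroup.mem_center_iff.mp (key y)) x
  · intro w hw
    rw [Subgroup.mem_center_iff]
    exact fun g => (S.Z_comm hw g).symm

/-- the exponential sum -/
theorem Suz.sum_identity : ∃ s : ℤ, ((Nat.card S.Z : ℤ) - 1) * s = (Nat.card S.Z : ℤ) ^ 2 - Nat.card P ∧ (s = 0 ∨ ∃ j : ℕ, s ^ 2 = 2 ^ j) := by
  classical
  obtain ⟨F, iF, iFF, iA, ⟨C⟩⟩ := S.exists_crd
  obtain ⟨χ, hχ, hχ0, hχs⟩ := exists_sgn F
  haveI := Fintype.ofFinite P
  obtain ⟨-, hfin⟩ := card_K_odd S C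
  haveI := Fintype.ofFinite K
  let e : P → ℤ := fun u => χ (C.log u)
  have he : ∀ u ∈ S.Z, ∀ v ∈ S.Z, e (u * v) = e u * e v := fun u hu v hv => by
    show χ (C.log (u * v)) = _
    rw [C.log_mul hu hv, hχ]
  have he1 : e 1 = 1 := by show χ (C.log 1) = 1; rw [C.log_one, hχ0]
  have hee : ∀ u ∈ S.Z, e u * e u = 1 := fun u hu => by rw [← he u hu u hu, show u * u = 1 from hu, he1]
  have hcardF : Fintype.card F = Nat.card S.Z := by
    rw [← Nat.card_eq_fintype_card]
    exact Nat.card_congr (Equiv.ofBijective (fun z => (⟨C.φ z, C.sq z⟩ : S.Z)) ⟨fun x y h => C.inj (congrArg Subtype.val h),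
      fun u => by obtain ⟨z, hz⟩ := C.surj u u.2; exact ⟨z, Subtype.ext hz⟩⟩)
  let eK : K ≃ {z : F // z ≠ 0} := Equiv.ofBijective (fun k => ⟨C.κ k, C.κ_ne k⟩) ⟨fun k l h => C.κi (congrArg Subtype.val h),
    fun z => by obtain ⟨k, hk⟩ := C.κs z z.2; exact ⟨k, Subtype.ext hk⟩⟩
  have hcardK : (Fintype.card K : ℤ) = Nat.card S.Z - 1 := by
    have h1 : Fintype.card K + 1 = Fintype.card F := by
      rw [Fintype.card_congr eK, Fintype.card_subtype_compl, Fintype.card_subtype_eq]
      have : 0 < Fintype.card F := Fintype.card_pos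
      omega
    rw [← hcardF, ← h1]; push_cast; ring
  -- sums over `K`
  have hsumK : ∀ u ∈ S.Z, u ≠ 1 → ∑ k : K, e (k • u) = -1 := by
    intro u hu hu1
    have hv : C.log u ≠ 0 := fun h => hu1 ((C.log_eq_zero hu).mp h)
    have h1 : ∑ k : K, e (k • u) = ∑ z : {z : F // z ≠ 0}, χ z := by
      have h2 : ∑ k : K, e (k • u) = ∑ k : K, χ ((eK k : F) * C.log u) := by
        refine Finset.sum_congr rfl fun k _ => ?_
        show χ (C.log (k • u)) = χ (C.κ k * C.log u)
        rw [C.log_smul k hu]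
      rw [h2, Fintype.sum_equiv eK (fun k => χ ((eK k : F) * C.log u)) (fun z => χ ((z : F) * C.log u)) (fun k => rfl)]
      let m : {z : F // z ≠ 0} ≃ {z : F // z ≠ 0} :=
        { toFun := fun z => ⟨(z : F) * C.log u, mul_ne_zero z.2 hv⟩
          invFun := fun z => ⟨(z : F) * (C.log u)⁻¹, mul_ne_zero z.2 (inv_ne_zero hv)⟩
          left_inv := fun z => Subtype.ext (mul_inv_cancel_right₀ hv _)
          right_inv := fun z => Subtype.ext (inv_mul_cancel_right₀ hv _) }
      exact Fintype.sum_equiv m _ _ (fun z => rfl)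
    rw [h1]
    have h2 : ∑ x : F, χ x = χ 0 + ∑ z : {z : F // z ≠ 0}, χ z := by
      rw [← Finset.add_sum_erase Finset.univ χ (Finset.mem_univ 0)]
      congr 1
      rw [← Finset.sum_subtype (Finset.univ.erase 0) (fun x => by simp) χ]
    rw [hχs, hχ0] at h2
    linarith
  let s : ℤ := ∑ x : P, e (x * x)
  have hk : ∀ k : K, ∑ x : P, e (k • (x * x)) = s := by
    intro k
    apply Fintype.sum_equiv (MulAction.toPerm k : Equiv.Perm P)
    intro x
    show e (k • (x * x)) = e (k • x * k • x)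
    rw [smul_mul']
  have hfst : ((Nat.card S.Z : ℤ) - 1) * s = (Nat.card S.Z : ℤ) ^ 2 - Nat.card P := by
    have h1 : (Fintype.card K : ℤ) * s = ∑ x : P, ∑ k : K, e (k • (x * x)) := by
      rw [Finset.sum_comm, Finset.sum_congr rfl fun k _ => hk k, Finset.sum_const, Finset.card_univ, nsmul_eq_mul]
    have h2 : ∀ x : P, ∑ k : K, e (k • (x * x)) = if x ∈ S.Z then (Fintype.card K : ℤ) else -1 := by
      intro x
      split_ifs with hx
      · have h3 : x * x = 1 := hx
        rw [h3, Finset.sum_congr rfl fun k _ => by rw [smul_one, he1]]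
        simp
      · exact hsumK _ (S.sq_mem hna x) hx
    rw [Finset.sum_congr rfl fun x _ => h2 x, Finset.sum_ite, Finset.sum_const, Finset.sum_const] at h1
    have h3 : (Finset.univ.filter fun x => x ∈ S.Z).card = Nat.card S.Z := by
      rw [Nat.card_eq_fintype_card, Fintype.card_subtype]
    have h4 : (Finset.univ.filter fun x => x ∈ S.Z).card + (Finset.univ.filter fun x => x ∉ S.Z).card = Nat.card P := by
      rw [Nat.card_eq_fintype_card, ← Finset.card_univ]
      exact Finset.card_filter_add_card_filter_not (s := Finset.univ) (fun x => x ∈ S.Z)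
    rw [h3] at h4 h1
    simp only [nsmul_eq_mul] at h1
    rw [hcardK] at h1
    have h5 : ((Finset.univ.filter fun x => x ∉ S.Z).card : ℤ) = Nat.card P - Nat.card S.Z := by
      have : (Nat.card S.Z : ℤ) + (Finset.univ.filter fun x => x ∉ S.Z).card = Nat.card P := by exact_mod_cast h4
      linarith
    rw [h5] at h1
    linear_combination h1
  refine ⟨s, hfst, ?_⟩
  -- the square of the sum
  have hZc : ∀ z ∈ S.Z, ∀ g, g⁻¹ * z * g = z := fun z hz g => by rw [mul_assoc, S.Z_comm hz g]; group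
  have hcmz : ∀ x y z : P, cm (x * y) z = cm x z * cm y z := fun x y z => by
    rw [cm_mul_left, hZc _ (S.cm_mem hna x z) y]
  have hcmr : ∀ x y z : P, cm x (y * z) = cm x y * cm x z := fun x y z => by
    rw [cm_mul_right, hZc _ (S.cm_mem hna x y) z, S.Z_comm (S.cm_mem hna x z)]
  have hsq : s ^ 2 = ∑ y : P, e (y * y) * ∑ x : P, e (cm x y⁻¹) := by
    have h1 : s ^ 2 = ∑ x : P, ∑ y : P, e (x * x) * e (y * y) := by
      rw [pow_two, Finset.sum_mul_sum]
    have h2 : ∀ x : P, ∑ y : P, e (x * x) * e (y * y) = ∑ y : P, e (y * y) * e (cm x y⁻¹) := by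
      intro x
      symm
      apply Fintype.sum_equiv (Equiv.mulLeft x)
      intro y
      show e (y * y) * e (cm x y⁻¹) = e (x * x) * e (x * y * (x * y))
      have h3 : e (x * y * (x * y)) = e (x * x) * e (cm x y⁻¹) * e (y * y) := by
        rw [mul_sq', he _ (S.Z.mul_mem (S.sq_mem hna x) (S.cm_mem hna x _)) _ (S.sq_mem hna y), he _ (S.sq_mem hna x) _ (S.cm_mem hna x _)]
      rw [h3]
      linear_combination (- e (cm x y⁻¹) * e (y * y)) * hee _ (S.sq_mem hna x)
    rw [h1, Finset.sum_congr rfl fun x _ => h2 x, Finset.sum_comm]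
    exact Finset.sum_congr rfl fun y _ => by rw [Finset.mul_sum]
  let R : Subgroup P :=
    { carrier := {y | ∀ x, e (cm x y) = 1}
      one_mem' := fun x => by rw [cm_eq_one.mpr (by rw [mul_one, one_mul]), he1]
      mul_mem' := by
        intro y z hy hz x
        rw [hcmr, he _ (S.cm_mem hna _ _) _ (S.cm_mem hna _ _), hy x, hz x, one_mul]
      inv_mem' := by
        intro y hy x
        have h1 := hcmr x y y⁻¹
        rw [mul_inv_cancel, cm_eq_one.mpr (by rw [mul_one, one_mul])] at h1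
        have h2 := he _ (S.cm_mem hna x y) _ (S.cm_mem hna x y⁻¹)
        rw [← h1, he1, hy x, one_mul] at h2
        exact h2.symm }
  have hinner : ∀ y : P, ∑ x : P, e (cm x y⁻¹) = if y ∈ R then (Fintype.card P : ℤ) else 0 := by
    intro y
    split_ifs with hy
    · rw [Finset.sum_congr rfl fun x _ => (R.inv_mem hy) x]; simp
    · rcases sum_hom (fun x => e (cm x y⁻¹)) (fun x z => by
        show e (cm (x * z) y⁻¹) = e (cm x y⁻¹) * e (cm z y⁻¹)
        rw [hcmz, he _ (S.cm_mem hna _ _) _ (S.cm_mem hna _ _)]) (by show e (cm 1 y⁻¹) = 1; rw [cm_one_left, he1]) with h | h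
      · exfalso
        apply hy
        rw [← inv_inv y]
        apply R.inv_mem
        intro x
        -- all values are one
        by_contra hx
        have h2 : ∀ x, e (cm x y⁻¹) ≤ 1 := by
          intro x
          have := hee _ (S.cm_mem hna x y⁻¹)
          nlinarith
        have h3 : ∑ x : P, e (cm x y⁻¹) < ∑ x : P, (1 : ℤ) :=
          Finset.sum_lt_sum (fun x _ => h2 x) ⟨x, Finset.mem_univ _, lt_of_le_of_ne (h2 x) hx⟩
        rw [h] at h3
        simp at h3
      · exact h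
  have hRsum : ∑ y : R, e ((y : P) * y) = Fintype.card R ∨ ∑ y : R, e ((y : P) * y) = 0 := by
    apply sum_hom (fun y : R => e ((y : P) * y))
    · intro x y
      show e ((x : P) * y * ((x : P) * y)) = e ((x : P) * x) * e ((y : P) * y)
      rw [mul_sq', he _ (S.Z.mul_mem (S.sq_mem hna _) (S.cm_mem hna _ _)) _ (S.sq_mem hna _), he _ (S.sq_mem hna _) _ (S.cm_mem hna _ _),
        (R.inv_mem y.2) x, mul_one]
    · show e ((1 : P) * 1) = 1
      rw [one_mul, he1]
  have hfinal : s ^ 2 = Fintype.card P * ∑ y : R, e ((y : P) * y) := by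
    rw [hsq, Finset.sum_congr rfl fun y _ => by rw [hinner y]]
    have h1 : ∀ y : P, (e (y * y) * if y ∈ R then (Fintype.card P : ℤ) else 0) = if y ∈ R then (Fintype.card P : ℤ) * e (y * y) else 0 := by
      intro y
      split_ifs <;> ring
    rw [Finset.sum_congr rfl fun y _ => h1 y, ← Finset.sum_filter, Finset.mul_sum]
    rw [← Finset.sum_subtype (Finset.univ.filter fun y => y ∈ R) (fun x => by simp) (fun y => (Fintype.card P : ℤ) * e (y * y))]
  haveI := Fact.mk Nat.prime_two
  rcases hRsum with h | h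
  · right
    rw [h] at hfinal
    obtain ⟨a, ha⟩ := IsPGroup.iff_card.mp S.two
    obtain ⟨b, hb⟩ := IsPGroup.iff_card.mp (S.two.to_subgroup R)
    refine ⟨a + b, ?_⟩
    rw [hfinal, ← Nat.card_eq_fintype_card, ← Nat.card_eq_fintype_card, ha, hb]
    push_cast; ring
  · left
    rw [h, mul_zero] at hfinal
    exact pow_eq_zero_iff (two_ne_zero) |>.mp hfinal

theorem Suz.card_eq : Nat.card P = Nat.card S.Z ^ 2 ∨ Nat.card P = Nat.card S.Z ^ 3 := by
  classical
  haveI := Fact.mk Nat.prime_two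
  obtain ⟨s, h1, h2⟩ := S.sum_identity hna
  obtain ⟨a, ha⟩ := IsPGroup.iff_card.mp S.two
  obtain ⟨n, hn⟩ := IsPGroup.iff_card.mp (S.two.to_subgroup S.Z)
  have hn0 : n ≠ 0 := by
    rintro rfl
    rw [pow_zero] at hn
    exact S.Z_ne_bot (Subgroup.card_eq_one.mp hn)
  have hlt : n < a := by
    rcases Nat.lt_or_ge n a with h | h
    · exact h
    exfalso
    have h3 : Nat.card P ≤ Nat.card S.Z := by rw [ha, hn]; exact Nat.pow_le_pow_right (by norm_num) h
    have h4 := Subgroup.eq_top_of_le_card S.Z h3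
    obtain ⟨x, y, hxy⟩ := hna
    exact hxy (S.Z_comm (by rw [h4]; trivial) y)
  rw [ha, hn] at h1
  push_cast at h1
  rw [ha, hn, ← pow_mul, ← pow_mul]
  rcases h2 with h2 | ⟨j, hj⟩
  · left
    rw [h2, mul_zero] at h1
    have h3 : ((2 : ℤ) ^ a) = 2 ^ (n * 2) := by rw [pow_mul]; linarith
    exact_mod_cast h3
  · right
    -- `s = ± 2 ^ i`
    obtain ⟨i, hi⟩ : ∃ i : ℕ, s.natAbs = 2 ^ i := by
      have h3 : s.natAbs ^ 2 = 2 ^ j := by
        have h4 : ((s.natAbs ^ 2 : ℕ) : ℤ) = ((2 ^ j : ℕ) : ℤ) := by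
          push_cast
          rw [← hj, sq_abs]
        exact_mod_cast h4
      have h4 : s.natAbs ∣ 2 ^ j := ⟨s.natAbs, by rw [← h3, pow_two]⟩
      obtain ⟨i, -, hi⟩ := (Nat.dvd_prime_pow Nat.prime_two).mp h4
      exact ⟨i, hi⟩
    have hpar : ∀ m : ℕ, m ≠ 0 → ¬ (2 ∣ 2 ^ m - 1) := by
      intro m hm h
      have h5 : 2 ∣ 2 ^ m := dvd_pow_self 2 hm
      have h6 : 0 < 2 ^ m := by positivity
      omega
    have huniq : ∀ i j u v : ℕ, ¬ 2 ∣ u → ¬ 2 ∣ v → 2 ^ i * u = 2 ^ j * v → i = j ∧ u = v := by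
      intro i j u v hu hv h
      have h5 : i = j := by
        rcases lt_trichotomy i j with h6 | h6 | h6
        · exfalso
          obtain ⟨k, rfl⟩ := Nat.exists_eq_add_of_lt h6
          rw [show i + k + 1 = i + (k + 1) by ring, pow_add, mul_assoc] at h
          have h7 := Nat.eq_of_mul_eq_mul_left (by positivity) h
          exact hu ⟨2 ^ k * v, by rw [h7, pow_succ]; ring⟩
        · exact h6
        · exfalso
          obtain ⟨k, rfl⟩ := Nat.exists_eq_add_of_lt h6
          rw [show j + k + 1 = j + (k + 1) by ring, pow_add, mul_assoc] at h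
          have h7 := Nat.eq_of_mul_eq_mul_left (by positivity) h
          exact hv ⟨2 ^ k * u, by rw [← h7, pow_succ]; ring⟩
      subst h5
      exact ⟨rfl, Nat.eq_of_mul_eq_mul_left (by positivity) h⟩
    have hq1 : 1 ≤ 2 ^ n := Nat.one_le_two_pow
    rcases Int.natAbs_eq s with hs | hs
    · -- `s > 0`: `|P| < q²`
      exfalso
      rw [hs, hi] at h1
      push_cast at h1
      have h3 : (2 ^ n - 1) * 2 ^ i + 2 ^ a = 2 ^ (n * 2) := by
        have : (((2 ^ n - 1) * 2 ^ i + 2 ^ a : ℕ) : ℤ) = ((2 ^ (n * 2) : ℕ) : ℤ) := by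
          push_cast [Nat.cast_sub hq1]
          rw [pow_mul]; linarith
        exact_mod_cast this
      have h4 : a < n * 2 := by
        apply (Nat.pow_lt_pow_iff_right (show 1 < 2 by norm_num)).mp
        have : 0 < (2 ^ n - 1) * 2 ^ i := by
          have : 2 ^ 1 ≤ 2 ^ n := Nat.pow_le_pow_right (by norm_num) (by omega)
          have h5 : 0 < 2 ^ n - 1 := by omega
          positivity
        omega
      obtain ⟨k, hk⟩ := Nat.exists_eq_add_of_lt h4
      have h5 : 2 ^ i * (2 ^ n - 1) = 2 ^ a * (2 ^ (k + 1) - 1) := by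
        rw [hk, show a + k + 1 = a + (k + 1) by ring, pow_add 2 a] at h3
        rw [Nat.mul_sub (2 ^ a), mul_one]
        have : 2 ^ i * (2 ^ n - 1) = (2 ^ n - 1) * 2 ^ i := mul_comm _ _
        omega
      obtain ⟨h6, h7⟩ := huniq _ _ _ _ (hpar n hn0) (hpar (k + 1) (by omega)) h5
      have h8 : 2 ^ n = 2 ^ (k + 1) := by
        have : 1 ≤ 2 ^ (k + 1) := Nat.one_le_two_pow
        omega
      have h9 := Nat.pow_right_injective (le_refl 2) h8
      omega
    · rw [hs, hi] at h1
      push_cast at h1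
      have h3 : (2 ^ n - 1) * 2 ^ i + 2 ^ (n * 2) = 2 ^ a := by
        have : (((2 ^ n - 1) * 2 ^ i + 2 ^ (n * 2) : ℕ) : ℤ) = ((2 ^ a : ℕ) : ℤ) := by
          push_cast [Nat.cast_sub hq1]
          rw [pow_mul]; linarith
        exact_mod_cast this
      have h4 : n * 2 < a := by
        apply (Nat.pow_lt_pow_iff_right (show 1 < 2 by norm_num)).mp
        have : 0 < (2 ^ n - 1) * 2 ^ i := by
          have : 2 ^ 1 ≤ 2 ^ n := Nat.pow_le_pow_right (by norm_num) (by omega)
          have h5 : 0 < 2 ^ n - 1 := by omega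
          positivity
        omega
      obtain ⟨k, hk⟩ := Nat.exists_eq_add_of_lt h4
      have h5 : 2 ^ i * (2 ^ n - 1) = 2 ^ (n * 2) * (2 ^ (k + 1) - 1) := by
        rw [hk, show n * 2 + k + 1 = n * 2 + (k + 1) by ring, pow_add (2 : ℕ) (n * 2)] at h3
        rw [Nat.mul_sub (2 ^ (n * 2)), mul_one]
        have : 2 ^ i * (2 ^ n - 1) = (2 ^ n - 1) * 2 ^ i := mul_comm _ _
        omega
      obtain ⟨h6, h7⟩ := huniq _ _ _ _ (hpar n hn0) (hpar (k + 1) (by omega)) h5
      have h8 : 2 ^ n = 2 ^ (k + 1) := by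
        have : 1 ≤ 2 ^ (k + 1) := Nat.one_le_two_pow
        omega
      have h9 := Nat.pow_right_injective (le_refl 2) h8
      have h10 : n = k + 1 := h9
      rw [hk, h10]
      congr 1

end
end CfsgLib.Szk
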