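import Cfsg.Agent.EqBase
import Cfsg.Agent.LibSzk8
/-!
# Suzuki 2-groups IX: the predicate `IsSuzukiTwoGroup` (helper16)
-/
set_option autoImplicit false
set_option linter.all false
namespace CfsgLib.Szk

universe u v

/-- fixed-point-freeness from regularity on the involutions -/
theorem fpf_of_reg {P : Type u} {K : Type v} [Group P] [Finite P] [CommGroup K] [MulDistribMulAction K P] (h2 : IsPGroup 2 P)
    (hreg : ∀ (k : K) (x : P), x ≠ 1 → x * x = 1 → k • x = x → k = 1) (k : K) (x : P) (hx : k • x = x) : k = 1 ∨ x = 1 := by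
  by_cases hx1 : x = 1
  · exact Or.inr hx1
  left
  let X : Subgroup P :=
    { carrier := {y | k • y = y}
      one_mem' := smul_one k
      mul_mem' := by
        intro y z hy hz
        show k • (y * z) = y * z
        rw [smul_mul', show k • y = y from hy, show k • z = z from hz]
      inv_mem' := by
        intro y hy
        show k • y⁻¹ = y⁻¹
        rw [smul_inv', show k • y = y from hy] }
  have hX : X ≠ ⊥ := by
    intro h
    have : x ∈ X := hx
    rw [h] at this
    exact hx1 this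
  obtain ⟨y, hy, hy1, hyy⟩ := exists_inv h2 hX
  exact hreg k y hy1 hyy hy

theorem exists_suz {P : Type u} [Group P] (hP : Cfsg.IsSuzukiTwoGroup P) : Finite P ∧ (∃ x y : P, x * y ≠ y * x) ∧ ∃ (K : Type u) (_ : CommGroup K) (_ : MulDistribMulAction K P), Suz P K := by
  classical
  obtain ⟨hfin, h2, hna, ⟨x, y, hxy, hx1, hxx, hy1, hyy⟩, K, hK, hreg⟩ := hP
  refine ⟨hfin, hna, K, IsCyclic.commGroup, inferInstanceAs (MulDistribMulAction K P), ?_⟩
  letI : CommGroup K := IsCyclic.commGroup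
  have hsm : ∀ (k : K) (x : P), k • x = (k : MulAut P) x := fun k x => rfl
  refine ⟨h2, ?_, ?_, ?_, ⟨x, hx1⟩⟩
  · apply fpf_of_reg h2
    intro k x hx1 hxx hkx
    obtain ⟨l, -, hl⟩ := hreg x x hx1 hxx hx1 hxx
    rw [hl k hkx, hl 1 rfl]
  · intro x y hx1 hxx hy1 hyy
    obtain ⟨k, hk, -⟩ := hreg x y hx1 hxx hy1 hyy
    exact ⟨k, hk⟩
  · obtain ⟨k, hk, -⟩ := hreg x y hx1 hxx hy1 hyy
    refine ⟨k, ?_⟩
    rintro rfl
    exact hxy hk

end CfsgLib.Szk
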