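import Cfsg.Agent.LibFus21NE
import Cfsg.Agent.LibFus21Norm2
import Cfsg.Agent.LibSzk9

set_option autoImplicit false

/-! Suzuki 2-groups are resistant. -/

namespace CfsgLib.Fus21

open Cfsg Cfsg.FusionSystem

variable {Ω : Type*} [Group Ω] {S T : Subgroup Ω}

theorem suzuki_resistant [Finite S] (hS : IsPGroup 2 S) (F : FusionSystem S) (hF : F.IsSaturated 2)
    (hsz : Cfsg.IsSuzukiTwoGroup ↥S) : F.IsNormal S := by
  haveI : Fact (Nat.Prime 2) := ⟨Nat.prime_two⟩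
  obtain ⟨-, hna, K, _, _, U⟩ := CfsgLib.Szk.exists_suz hsz
  -- the subgroup of involutions
  set T : Subgroup Ω := U.Z.map S.subtype with hT
  have hmemT : ∀ x, x ∈ T ↔ x ∈ S ∧ x * x = 1 := by
    intro x
    constructor
    · rintro ⟨y, hy, rfl⟩
      exact ⟨y.2, congrArg Subtype.val (U.mem_Z.1 hy)⟩
    · rintro ⟨h1, h2⟩
      exact ⟨⟨x, h1⟩, U.mem_Z.2 (Subtype.ext h2), rfl⟩
  have hTsc : F.StronglyClosed T := by
    refine ⟨fun x hx => ((hmemT x).1 hx).1, fun P hP φ hφ x => ?_⟩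
    refine (hmemT _).2 ⟨mem_S hφ x, ?_⟩
    rw [← map_mul]
    have h1 : x * x = 1 := Subtype.ext ((hmemT _).1 (hP x.2)).2
    rw [h1, map_one]
  refine isNormal_of_radical hS hF (⟨le_rfl, fun _ _ _ hφ x => mem_S hφ x⟩) fun P hP => ?_
  have hPS := hP.1.1
  have hR := essential_radical hS hP
  obtain ⟨B, hBA, hBp, hBn, hB⟩ := two_layer hS hPS hTsc
  refine le_of_radical hS hP.1 hR le_rfl (hPS.trans Subgroup.le_normalizer) hBA hBp hBn fun g hg α hα => ?_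
  refine (hB α).2 ⟨autInducedBy_le_autGroup F hPS (mem_autInducedBy.2 ⟨g, hg, hα⟩), fun y hy => ?_, fun y => ?_⟩
  · apply Subtype.ext
    rw [hα, mul_inv_eq_iff_eq_mul]
    obtain ⟨z, hz, hzy⟩ := hy
    have h1 := U.Z_comm hz ⟨g, hg⟩
    have h2 : (z : Ω) * g = g * z := congrArg Subtype.val h1
    have h3 : (z : Ω) = y := hzy
    rw [← h3]; exact h2.symm
  · rw [hα]
    have h1 := CfsgLib.Szk.Suz.cm_mem U hna ⟨y, hPS y.2⟩ (⟨g, hg⟩⁻¹)
    refine ⟨_, h1, ?_⟩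
    show (y : Ω)⁻¹ * g⁻¹⁻¹ * (y : Ω) * g⁻¹ = _
    group

end CfsgLib.Fus21
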