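import Cfsg.Agent.LibFus21Tv5
import Cfsg.Agent.LibPCyc
import Cfsg.Agent.LibExtraH28
import Cfsg.Agent.LibDihedral

set_option autoImplicit false

/-! Generalized extraspecial strongly closed subgroups. -/

namespace CfsgLib.Fus21

open Cfsg Cfsg.FusionSystem

section split

variable {G : Type*} [Group G] [Finite G] {p : ℕ} [hp : Fact p.Prime]

/-- splitting off an elementary abelian central factor -/
theorem ge_split {z z2 t : G} {R : Subgroup G} (hz : orderOf z = p) (hzc : ∀ x, x * z = z * x)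
    (hcomm : commutator G = Subgroup.zpowers z) (hpow : ∀ x : G, x ^ p ∈ Subgroup.zpowers z)
    (hab : ∀ x ∈ R, ∀ y ∈ R, x * y = y * x) (hel : ∀ x ∈ R, x ^ p = 1)
    (hR : ∀ x, x ∈ R ↔ x * z2 = z2 * x) (ht : t ∉ R) :
    ∃ A0 : Subgroup G, (∀ a ∈ A0, ∀ x, a * x = x * a) ∧ (∀ a ∈ A0, a ^ p = 1) ∧
      Disjoint (Subgroup.closure {t, z2}) A0 ∧ Subgroup.closure {t, z2} ⊔ A0 = ⊤ ∧
      (∀ x ∈ Subgroup.closure {t, z2}, (∀ y, x * y = y * x) → x ∈ Subgroup.zpowers z) ∧
      z ∈ Subgroup.closure ({t, z2} : Set G) ∧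
      ∀ x ∈ Subgroup.closure ({t, z2} : Set G), ∃ m n : ℤ, ∃ w ∈ Subgroup.zpowers z, x = t ^ m * z2 ^ n * w := by
  classical
  have hz1 : z ≠ 1 := by
    rintro rfl
    rw [orderOf_one] at hz
    exact hp.out.one_lt.ne hz
  have hz2R : z2 ∈ R := (hR z2).2 rfl
  have hzz : ∀ w ∈ Subgroup.zpowers z, ∀ x, x * w = w * x := by
    rintro _ ⟨n, rfl⟩ x
    exact ((show Commute x z from hzc x).zpow_right n).eq
  have hcm : ∀ x y : G, x * y * x⁻¹ * y⁻¹ ∈ Subgroup.zpowers z := by
    intro x y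
    rw [← hcomm]
    exact Subgroup.commutator_mem_commutator (Subgroup.mem_top _) (Subgroup.mem_top _)
  -- the commutator of `t` and `z2`
  set c := t * z2 * t⁻¹ * z2⁻¹ with hc
  have hcz : c ∈ Subgroup.zpowers z := hcm t z2
  have hc1 : c ≠ 1 := by
    intro h
    apply ht
    rw [hR]
    rw [hc, mul_inv_eq_one, mul_inv_eq_iff_eq_mul] at h
    exact h
  have hzc' : z ∈ Subgroup.zpowers c := mem_zpowers_of_ne hz hcz hc1
  have hco : orderOf c = p := by
    have h1 : Subgroup.zpowers c = Subgroup.zpowers z :=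
      le_antisymm (Subgroup.zpowers_le.2 hcz) (Subgroup.zpowers_le.2 hzc')
    rw [← Nat.card_zpowers, h1, Nat.card_zpowers, hz]
  have hcc : ∀ x, x * c = c * x := hzz c hcz
  -- `t^m` and `z2`
  have htz : ∀ m : ℤ, t ^ m * z2 * (t ^ m)⁻¹ = z2 * c ^ m := by
    have h0 : t * z2 * t⁻¹ = z2 * c := by
      rw [hcc z2, hc]; group
    have h1 : z2⁻¹ * t * z2 = c * t := by
      rw [← hcc t]
      have h2 : z2⁻¹ * t * z2 = z2⁻¹ * (t * z2 * t⁻¹) * t := by group
      rw [h2, h0, inv_mul_cancel_left, hcc t]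
    intro m
    have h2 : z2⁻¹ * t ^ m * z2 = c ^ m * t ^ m := by
      have h3 : z2⁻¹ * t ^ m * z2 = (z2⁻¹ * t * z2) ^ m := by
        have := conj_zpow (a := z2⁻¹) (b := t) (i := m)
        rw [inv_inv] at this
        exact this.symm
      rw [h3, h1]
      exact (show Commute c t from (hcc t).symm).mul_zpow m
    have h3 : t ^ m * z2 * (t ^ m)⁻¹ = z2 * (z2⁻¹ * t ^ m * z2) * (t ^ m)⁻¹ := by group
    rw [h3, h2]; group
  have hpm : ∀ m : ℤ, c ^ m = 1 → (p : ℤ) ∣ m := by
    intro m hm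
    have := orderOf_dvd_iff_zpow_eq_one.2 hm
    rwa [hco] at this
  -- elements of `E0`
  have hE0 : ∀ x ∈ Subgroup.closure ({t, z2} : Set G), ∃ m n : ℤ, ∃ w ∈ Subgroup.zpowers z, x = t ^ m * z2 ^ n * w := by
    intro x hx
    have h1 : Abelianization.of x ∈ Subgroup.closure ({Abelianization.of t, Abelianization.of z2} : Set (Abelianization G)) := by
      have h2 : Abelianization.of x ∈ (Subgroup.closure ({t, z2} : Set G)).map Abelianization.of := ⟨x, hx, rfl⟩
      rw [MonoidHom.map_closure, Set.image_pair] at h2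
      exact h2
    rw [Subgroup.mem_closure_pair] at h1
    obtain ⟨m, n, h1⟩ := h1
    refine ⟨m, n, (t ^ m * z2 ^ n)⁻¹ * x, ?_, by rw [mul_inv_cancel_left]⟩
    rw [← hcomm, ← Abelianization.ker_of, MonoidHom.mem_ker, map_mul, map_inv, map_mul, map_zpow, map_zpow, h1,
      inv_mul_cancel]
  -- central elements of `E0`
  have hcent : ∀ x ∈ Subgroup.closure ({t, z2} : Set G), (∀ y, x * y = y * x) → x ∈ Subgroup.zpowers z := by
    intro x hx hxc
    obtain ⟨m, n, w, hw, rfl⟩ := hE0 x hx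
    have h1 : ∀ y, (t ^ m * z2 ^ n) * y = y * (t ^ m * z2 ^ n) := by
      intro y
      have h2 := hxc y
      have h3 := hzz w hw y
      rw [mul_assoc, ← h3, ← mul_assoc, ← mul_assoc] at h2
      exact mul_right_cancel h2
    have h2 : (p : ℤ) ∣ m := by
      apply hpm
      have h3 := htz m
      have h4 := h1 z2
      have h5 : t ^ m * z2 * (t ^ m)⁻¹ = z2 := by
        have h6 : t ^ m * z2 * (t ^ m)⁻¹ = (t ^ m * z2 ^ n * z2) * (z2 ^ n)⁻¹ * (t ^ m)⁻¹ := by
          group
        rw [h6, h4]; group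
      rw [h5] at h3
      exact (mul_eq_left.1 h3.symm)
    obtain ⟨m', rfl⟩ := h2
    have h3 : t ^ ((p : ℤ) * m') ∈ Subgroup.zpowers z := by
      rw [zpow_mul, zpow_natCast]
      exact Subgroup.zpow_mem _ (hpow t) m'
    have h4 : ∀ y, z2 ^ n * y = y * z2 ^ n := by
      intro y
      have h5 := h1 y
      have h6 := hzz _ h3 y
      rw [← mul_assoc, h6, mul_assoc, mul_assoc] at h5
      exact mul_left_cancel h5
    have h5 : (p : ℤ) ∣ n := by
      apply hpm
      have h6 : t * z2 ^ n * t⁻¹ = z2 ^ n * c ^ n := by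
        have h7 := htz 1
        rw [zpow_one, zpow_one] at h7
        rw [← conj_zpow, h7]
        exact (show Commute z2 c from hcc z2).mul_zpow n
      rw [← h4 t, mul_inv_cancel_right] at h6
      exact mul_eq_left.1 h6.symm
    obtain ⟨n', rfl⟩ := h5
    have h6 : z2 ^ ((p : ℤ) * n') = 1 := by
      rw [zpow_mul, zpow_natCast, hel _ hz2R, one_zpow]
    rw [h6, mul_one]
    exact Subgroup.mul_mem _ h3 hw
  -- choose `A0`
  obtain ⟨A0, hA0⟩ : ∃ A0 : Subgroup G, Maximal (fun A : Subgroup G => A ≤ Subgroup.center G ∧ z ∉ A) A0 := by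
    refine Set.Finite.exists_maximal (Set.toFinite {A : Subgroup G | A ≤ Subgroup.center G ∧ z ∉ A}) ⟨⊥, bot_le, ?_⟩
    rw [Subgroup.mem_bot]; exact hz1
  have hA0c : ∀ a ∈ A0, ∀ x, a * x = x * a := fun a ha x => (Subgroup.mem_center_iff.1 (hA0.prop.1 ha) x).symm
  have hcR : ∀ x ∈ Subgroup.center G, x ∈ R := fun x hx => (hR x).2 (Subgroup.mem_center_iff.1 hx z2).symm
  have hcA : ∀ x ∈ Subgroup.center G, x ∈ Subgroup.zpowers z ⊔ A0 := by
    intro x hx
    by_cases hxA : x ∈ A0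
    · exact Subgroup.mem_sup_right hxA
    have h1 : z ∈ A0 ⊔ Subgroup.zpowers x := by
      by_contra hno
      have h2 := hA0.2 (y := A0 ⊔ Subgroup.zpowers x) ⟨sup_le hA0.prop.1 (Subgroup.zpowers_le.2 hx), hno⟩ le_sup_left
      exact hxA (h2 (Subgroup.mem_sup_right (Subgroup.mem_zpowers x)))
    haveI : A0.Normal := ⟨fun a ha g => by rw [← hA0c a ha g, mul_inv_cancel_right]; exact ha⟩
    rw [Subgroup.mem_sup_of_normal_left] at h1
    obtain ⟨a, ha, y, hy, hay⟩ := h1
    have hy1 : y ≠ 1 := by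
      rintro rfl
      apply hA0.prop.2
      rw [← hay, mul_one]; exact ha
    have hxo : orderOf x = p := by
      have h2 : orderOf x ∣ p := orderOf_dvd_of_pow_eq_one (hel x (hcR x hx))
      rcases (Nat.dvd_prime hp.out).1 h2 with h | h
      · exact absurd (by rw [orderOf_eq_one_iff.1 h]; exact A0.one_mem) hxA
      · exact h
    have h2 : x ∈ Subgroup.zpowers y := mem_zpowers_of_ne hxo hy hy1
    have h3 : y ∈ Subgroup.zpowers z ⊔ A0 := by
      have h4 : y = a⁻¹ * z := by rw [← hay, inv_mul_cancel_left]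
      rw [h4]
      exact Subgroup.mul_mem _ (Subgroup.mem_sup_right (A0.inv_mem ha)) (Subgroup.mem_sup_left (Subgroup.mem_zpowers z))
    exact (Subgroup.zpowers_le.2 h3) h2
  have hzE : z ∈ Subgroup.closure ({t, z2} : Set G) := by
    have h1 : t ∈ Subgroup.closure ({t, z2} : Set G) := Subgroup.subset_closure (Set.mem_insert _ _)
    have h2 : z2 ∈ Subgroup.closure ({t, z2} : Set G) := Subgroup.subset_closure (Set.mem_insert_of_mem _ rfl)
    have h3 : c ∈ Subgroup.closure ({t, z2} : Set G) :=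
      Subgroup.mul_mem _ (Subgroup.mul_mem _ (Subgroup.mul_mem _ h1 h2) (Subgroup.inv_mem _ h1)) (Subgroup.inv_mem _ h2)
    exact (Subgroup.zpowers_le.2 h3) hzc'
  have hpwc : ∀ w ∈ Subgroup.zpowers z, ∃ k : ℤ, c ^ k = w := fun w hw => (Subgroup.zpowers_le.2 hzc') hw
  refine ⟨A0, hA0c, fun a ha => hel a (hcR a (hA0.prop.1 ha)), ?_, ?_, hcent, hzE, hE0⟩
  · rw [disjoint_iff_inf_le]
    rintro x ⟨hx1, hx2⟩
    have h1 := hcent x hx1 (hA0c x hx2)
    rw [Subgroup.mem_bot]
    by_contra hx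
    exact hA0.prop.2 ((Subgroup.zpowers_le.2 hx2) (mem_zpowers_of_ne hz h1 hx))
  · rw [eq_top_iff]
    intro x _
    have ht0 : t ∈ Subgroup.closure ({t, z2} : Set G) ⊔ A0 := Subgroup.mem_sup_left (Subgroup.subset_closure (Set.mem_insert _ _))
    have hz20 : z2 ∈ Subgroup.closure ({t, z2} : Set G) ⊔ A0 :=
      Subgroup.mem_sup_left (Subgroup.subset_closure (Set.mem_insert_of_mem _ rfl))
    -- first step
    obtain ⟨k, hk⟩ := hpwc _ (hcm x z2)
    have hy : t ^ (-k) * x ∈ R := by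
      rw [hR]
      have h1 : x * z2 = c ^ k * z2 * x := by rw [hk]; group
      have h2 := htz (-k)
      have h3 : t ^ (-k) * z2 = z2 * c ^ (-k) * t ^ (-k) := by rw [← h2]; group
      have h4 : ∀ y : G, y * c ^ k = c ^ k * y := fun y => hzz _ (Subgroup.zpow_mem _ hcz k) y
      calc t ^ (-k) * x * z2 = t ^ (-k) * (x * z2) := by group
        _ = t ^ (-k) * (c ^ k * z2 * x) := by rw [h1]
        _ = (t ^ (-k) * c ^ k) * z2 * x := by group
        _ = c ^ k * (t ^ (-k) * z2) * x := by rw [h4]; group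
        _ = c ^ k * (z2 * c ^ (-k) * t ^ (-k)) * x := by rw [h3]
        _ = (c ^ k * z2) * c ^ (-k) * t ^ (-k) * x := by group
        _ = z2 * (t ^ (-k) * x) := by rw [← h4]; group
    set y := t ^ (-k) * x with hyd
    obtain ⟨l, hl⟩ := hpwc _ (hcm t y)
    have hw : z2 ^ (-l) * y ∈ Subgroup.center G := by
      have hwR : z2 ^ (-l) * y ∈ R := R.mul_mem (R.zpow_mem hz2R _) hy
      have hwt : t * (z2 ^ (-l) * y) = (z2 ^ (-l) * y) * t := by
        have h1 : t * y = c ^ l * y * t := by rw [hl]; group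
        have h2 : t * z2 ^ (-l) * t⁻¹ = z2 ^ (-l) * c ^ (-l) := by
          have h7 := htz 1
          rw [zpow_one, zpow_one] at h7
          rw [← conj_zpow, h7]
          exact (show Commute z2 c from hcc z2).mul_zpow (-l)
        have h3 : t * z2 ^ (-l) = z2 ^ (-l) * c ^ (-l) * t := by rw [← h2]; group
        calc t * (z2 ^ (-l) * y) = (t * z2 ^ (-l)) * y := by group
          _ = z2 ^ (-l) * c ^ (-l) * (t * y) := by rw [h3]; group
          _ = (z2 ^ (-l) * y) * t := by rw [h1]; group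
      rw [Subgroup.mem_center_iff]
      intro g
      -- `g = t^j r`
      obtain ⟨j, hj⟩ := hpwc _ (hcm g z2)
      have hg : t ^ (-j) * g ∈ R := by
        rw [hR]
        have h1 : g * z2 = c ^ j * z2 * g := by rw [hj]; group
        have h2 := htz (-j)
        have h3 : t ^ (-j) * z2 = z2 * c ^ (-j) * t ^ (-j) := by rw [← h2]; group
        have h4 : ∀ y : G, y * c ^ j = c ^ j * y := fun y => hzz _ (Subgroup.zpow_mem _ hcz j) y
        calc t ^ (-j) * g * z2 = t ^ (-j) * (g * z2) := by group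
          _ = t ^ (-j) * (c ^ j * z2 * g) := by rw [h1]
          _ = (t ^ (-j) * c ^ j) * z2 * g := by group
          _ = c ^ j * (t ^ (-j) * z2) * g := by rw [h4]; group
          _ = c ^ j * (z2 * c ^ (-j) * t ^ (-j)) * g := by rw [h3]
          _ = (c ^ j * z2) * c ^ (-j) * t ^ (-j) * g := by group
          _ = z2 * (t ^ (-j) * g) := by rw [← h4]; group
      have h1 := hab _ hwR _ hg
      have h2 : Commute (t ^ j) (z2 ^ (-l) * y) := (show Commute t (z2 ^ (-l) * y) from hwt).zpow_left j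
      have h3 : g = t ^ j * (t ^ (-j) * g) := by group
      have h4 : Commute g (z2 ^ (-l) * y) := by
        rw [h3]
        exact h2.mul_left (show Commute (t ^ (-j) * g) (z2 ^ (-l) * y) from h1.symm)
      exact h4.eq
    have h1 := hcA _ hw
    have h2 : z2 ^ (-l) * y ∈ Subgroup.closure ({t, z2} : Set G) ⊔ A0 :=
      (sup_le_sup_right (Subgroup.zpowers_le.2 hzE) A0) h1
    have h3 : x = t ^ k * (z2 ^ l * (z2 ^ (-l) * y)) := by
      rw [hyd]; group
    rw [h3]
    exact Subgroup.mul_mem _ (Subgroup.zpow_mem _ ht0 _) (Subgroup.mul_mem _ (Subgroup.zpow_mem _ hz20 _) h2)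

/-- internal direct products -/
theorem equiv_prod {E0 A0 : Subgroup G} (hA0 : ∀ a ∈ A0, ∀ x, a * x = x * a) (hd : Disjoint E0 A0) (ht : E0 ⊔ A0 = ⊤) :
    Nonempty (G ≃* E0 × A0) := by
  have hcomm : ∀ (m : E0) (n : A0), Commute (E0.subtype m) (A0.subtype n) := fun m n => (hA0 n n.2 m).symm
  refine ⟨(MulEquiv.ofBijective (MonoidHom.noncommCoprod E0.subtype A0.subtype hcomm) ⟨?_, ?_⟩).symm⟩
  · rw [MonoidHom.noncommCoprod_injective]
    refine ⟨E0.subtype_injective, A0.subtype_injective, ?_⟩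
    rw [Subgroup.range_subtype, Subgroup.range_subtype]
    exact hd
  · rw [← MonoidHom.range_eq_top, MonoidHom.noncommCoprod_range, Subgroup.range_subtype, Subgroup.range_subtype, ht]

/-- a copy of a finite group in `Type` -/
theorem exists_type_copy (H : Type*) [Group H] [Finite H] : ∃ (K : Type) (_ : Group K), Nonempty (H ≃* K) := by
  obtain ⟨n, ⟨e⟩⟩ := Finite.exists_equiv_fin H
  let e' : {x : Fin n // True} ≃ H := (Equiv.subtypeUnivEquiv (fun _ => trivial)).trans e.symm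
  letI := e'.group
  refine ⟨{x : Fin n // True}, e'.group, ⟨MulEquiv.mk' e'.symm fun x y => ?_⟩⟩
  show e'.symm (x * y) = e'.symm (e' (e'.symm x) * e' (e'.symm y))
  rw [e'.apply_symm_apply, e'.apply_symm_apply]

end split

end CfsgLib.Fus21
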