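import Cfsg.Agent.LibFus21Tv6

set_option autoImplicit false

/-! Generalized extraspecial strongly closed subgroups. -/

namespace CfsgLib.Fus21

open Cfsg Cfsg.FusionSystem

section ge

variable {Ω : Type*} [Group Ω] {S : Subgroup Ω}

theorem ge_config [Finite S] {p : ℕ} [hp : Fact p.Prime] (hS : IsPGroup p S) {F : FusionSystem S}
    (hF : F.IsSaturated p) {E P : Subgroup Ω} (hE : F.IsEssential p E) (hP : F.StronglyClosed P)
    (hge : frattini ↥P = commutator ↥P ∧ Nat.card ↥(commutator ↥P) = p) (hn : ¬ P ≤ E) :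
    ∃ (z z2 t : P) (R : Subgroup P), orderOf z = p ∧ (∀ x, x * z = z * x) ∧ commutator P = Subgroup.zpowers z ∧
      (∀ x : P, x ^ p ∈ Subgroup.zpowers z) ∧ (∀ x ∈ R, ∀ y ∈ R, x * y = y * x) ∧ (∀ x ∈ R, x ^ p = 1) ∧
      (∀ x, x ∈ R ↔ x * z2 = z2 * x) ∧ t ∉ R ∧ (p ≠ 2 → t ^ p = 1) := by
  classical
  have hES := hE.1.1
  haveI : Finite E := finite_of_le hES
  haveI : Finite P := finite_of_le hP.1
  have hPn := stronglyClosed_normal_S hP
  have hPp : IsPGroup p P := hS.to_le hP.1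
  obtain ⟨t, ht, htN, htE⟩ := exists_sc_elt hS hES hP hn
  obtain ⟨z0, hz0⟩ : ∃ z0 : P, Subgroup.zpowers z0 = commutator P := by
    haveI : IsCyclic (commutator P) := isCyclic_of_prime_card hge.2
    exact (Subgroup.isCyclic_iff_exists_zpowers_eq_top _).1 inferInstance
  have hoz0 : orderOf z0 = p := by rw [← Nat.card_zpowers, hz0, hge.2]
  have hmemz : ∀ x (hx : x ∈ P), x ∈ Subgroup.zpowers (z0 : Ω) ↔ (⟨x, hx⟩ : P) ∈ commutator P := by
    intro x hx
    rw [← hz0]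
    constructor
    · rintro ⟨n, hn⟩
      exact ⟨n, Subtype.ext hn⟩
    · rintro ⟨n, hn⟩
      exact ⟨n, congrArg Subtype.val hn⟩
  have hcommP : ∀ x ∈ P, ∀ y ∈ P, x * y * x⁻¹ * y⁻¹ ∈ Subgroup.zpowers (z0 : Ω) := by
    intro x hx y hy
    rw [hmemz _ (P.mul_mem (P.mul_mem (P.mul_mem hx hy) (P.inv_mem hx)) (P.inv_mem hy))]
    exact Subgroup.commutator_mem_commutator (g₁ := (⟨x, hx⟩ : P)) (g₂ := ⟨y, hy⟩) (Subgroup.mem_top _) (Subgroup.mem_top _)
  have hpowP : ∀ x ∈ P, x ^ p ∈ Subgroup.zpowers (z0 : Ω) := by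
    intro x hx
    rw [hmemz _ (P.pow_mem hx p), ← hge.1]
    exact CfsgLib.LE.pow_mem_frattini hPp ⟨x, hx⟩
  -- `z` is central in `S`
  have hzS : ∀ s ∈ S, s * z0 = z0 * s := by
    have hK : (((commutator P).map P.subtype).subgroupOf S).Normal := by
      refine ⟨?_⟩
      rintro ⟨_, hx⟩ ⟨x, hxc, rfl⟩ s
      obtain ⟨α, hα⟩ := exists_conjAut (hPn s.2)
      refine ⟨α x, ?_, hα x⟩
      exact (Subgroup.characteristic_iff_le_comap.1 (inferInstance : (commutator P).Characteristic) α) hxc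
    have hKS : (commutator P).map P.subtype ≤ S := (Subgroup.map_subtype_le _).trans hP.1
    have h1 := CfsgLib.PCyc.le_center_of_card_eq hp.out hS (((commutator P).map P.subtype).subgroupOf S) (by
      rw [Nat.card_congr (Subgroup.subgroupOfEquivOfLe hKS).toEquiv, Subgroup.card_map_of_injective P.subtype_injective, hge.2])
    intro s hs
    have h2 : (⟨z0, hP.1 z0.2⟩ : S) ∈ ((commutator P).map P.subtype).subgroupOf S := by
      refine ⟨z0, ?_, rfl⟩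
      rw [← hz0]; exact Subgroup.mem_zpowers z0
    exact congrArg Subtype.val (Subgroup.mem_center_iff.1 (h1 h2) ⟨s, hs⟩)
  have hzE : (z0 : Ω) ∈ E := by
    apply centric_centralizer_le hE.1
    rw [mem_centralizerIn']
    refine ⟨hP.1 z0.2, fun x hx => ?_⟩
    rw [← hzS x (hES hx), mul_inv_cancel_right]
  obtain ⟨τ, hτ⟩ := exists_conjAut htN
  set R0 := (P ⊓ E).subgroupOf E with hR0
  have hTT0 : autInducedBy P E ≤ autInducedBy S E := by
    intro a ha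
    obtain ⟨g, hg, h⟩ := mem_autInducedBy.1 ha
    exact mem_autInducedBy.2 ⟨g, hP.1 hg, h⟩
  have hinvR : ∀ α ∈ F.autGroup E, ∀ x ∈ R0, α x ∈ R0 := by
    intro α hα x hx
    rw [hR0, mem_sub_PE] at hx ⊢
    exact (stronglyClosed_aut hP hES hα x).2 hx
  have hzc : ∀ x : E, x * ⟨z0, hzE⟩ = ⟨z0, hzE⟩ * x := fun x => Subtype.ext (hzS x (hES x.2))
  have hmemzE : ∀ x : E, x ∈ Subgroup.zpowers (⟨z0, hzE⟩ : E) ↔ (x : Ω) ∈ Subgroup.zpowers (z0 : Ω) := by
    intro x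
    constructor
    · rintro ⟨n, hn⟩
      exact ⟨n, congrArg Subtype.val hn⟩
    · rintro ⟨n, hn⟩
      exact ⟨n, Subtype.ext hn⟩
  have hTR : ∀ τ ∈ autInducedBy P E, ∀ x, x⁻¹ * τ x ∈ R0 := by
    intro τ hτ x
    obtain ⟨g, hg, h⟩ := mem_autInducedBy.1 hτ
    rw [hR0, mem_sub_PE]
    have h1 : (((x⁻¹ * τ x : E)) : Ω) = ((x : Ω)⁻¹ * g * (x : Ω)⁻¹⁻¹) * g⁻¹ := by
      rw [Subgroup.coe_mul, Subgroup.coe_inv, h]; group
    rw [h1]
    exact P.mul_mem ((Subgroup.mem_normalizer_iff.1 (hPn (S.inv_mem (hES x.2))) g).1 hg) (P.inv_mem hg)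
  have hTZ : ∀ τ ∈ autInducedBy P E, ∀ x ∈ R0, x⁻¹ * τ x ∈ Subgroup.zpowers (⟨z0, hzE⟩ : E) := by
    intro τ hτ x hx
    obtain ⟨g, hg, h⟩ := mem_autInducedBy.1 hτ
    rw [hmemzE]
    rw [hR0, mem_sub_PE] at hx
    have h1 : (((x⁻¹ * τ x : E)) : Ω) = (x : Ω)⁻¹ * g * (x : Ω)⁻¹⁻¹ * g⁻¹ := by
      rw [Subgroup.coe_mul, Subgroup.coe_inv, h]; group
    rw [h1]
    exact hcommP _ (P.inv_mem hx) _ hg
  have hTz : ∀ τ ∈ autInducedBy P E, τ ⟨z0, hzE⟩ = ⟨z0, hzE⟩ := by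
    intro τ hτ
    obtain ⟨g, hg, h⟩ := mem_autInducedBy.1 hτ
    apply Subtype.ext
    rw [h]
    show g * z0 * g⁻¹ = z0
    rw [hzS g (hP.1 hg), mul_inv_cancel_right]
  have hτT : τ ∈ autInducedBy P E := mem_autInducedBy.2 ⟨t, ht, hτ⟩
  have hτA : τ ∈ F.autGroup E := autInducedBy_le_autGroup F hES (hTT0 hτT)
  obtain ⟨hel1, hel2, α, hαA, hαz, hτz2, hTI, hVo, hchain, ν, hνA, hν1, hν2, hν3⟩ :=
    abs_ge (hS.to_le hES) (A := F.autGroup E) (T0 := autInducedBy S E) (T := autInducedBy P E) (I := Inn E) (R0 := R0)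
      (z := ⟨z0, hzE⟩) (τ0 := τ) hTT0 (autInducedBy_le_autGroup F hES) (isPGroup_autInducedBy hS E)
      ((fullyAutomized_iff hS).1 (sat_fn hS hF hE.2.1).2).2
      (fun ν hν α hα hνα => autP_closed hS hF hE.2.1 hP hν hα hνα) (essential_hrad hS hE) hinvR
      (by rw [← Subgroup.orderOf_coe]; show orderOf (z0 : Ω) = p; rw [Subgroup.orderOf_coe]; exact hoz0)
      (by rw [hR0, mem_sub_PE]; exact z0.2) hzc hTR hTZ hTz
      (by
        intro x hx
        rw [hmemzE]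
        exact hpowP x (mem_sub_PE.1 hx))
      (by
        intro x hx y hy
        rw [hmemzE]
        exact hcommP x (mem_sub_PE.1 hx) y (mem_sub_PE.1 hy))
      hτT (fun h => htE (mem_of_conjAut_inner hE.1 (hP.1 ht) hτ h))
  set z2 : E := α ⟨z0, hzE⟩ with hz2
  have hz2R : z2 ∈ R0 := hinvR α hαA _ (by rw [hR0, mem_sub_PE]; exact z0.2)
  have hz2P : (z2 : Ω) ∈ P := mem_sub_PE.1 hz2R
  have hz2c : ∀ x : E, x * z2 = z2 * x := by
    intro x
    obtain ⟨y, rfl⟩ := α.surjective x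
    rw [hz2, ← map_mul, hzc, map_mul]
  -- `C_P(z2) ≤ E`
  have hCE : P ⊓ Subgroup.centralizer {(z2 : Ω)} ≤ E := by
    apply le_of_normalizer_le hS hES (inf_le_left.trans hP.1)
    · intro e he
      rw [Subgroup.mem_normalizer_iff]
      intro x
      have hc : (z2 : Ω) * e = e * z2 := (congrArg Subtype.val (hz2c ⟨e, he⟩)).symm
      have h1 : x ∈ P ↔ e * x * e⁻¹ ∈ P := Subgroup.mem_normalizer_iff.1 (hPn (hES he)) x
      rw [Subgroup.mem_inf, Subgroup.mem_inf, ← h1, Subgroup.mem_centralizer_singleton_iff, Subgroup.mem_centralizer_singleton_iff]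
      refine and_congr_right fun _ => ?_
      constructor
      · intro h
        calc e * x * e⁻¹ * z2 = e * x * (e⁻¹ * (z2 * e)) * e⁻¹ := by group
          _ = e * (x * z2) * e⁻¹ := by rw [hc]; group
          _ = (e * z2) * x * e⁻¹ := by rw [h]; group
          _ = z2 * (e * x * e⁻¹) := by rw [← hc]; group
      · intro h
        calc x * z2 = e⁻¹ * (e * x * e⁻¹ * (e * z2)) := by group
          _ = e⁻¹ * (e * x * e⁻¹ * z2) * e := by rw [← hc]; group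
          _ = (e⁻¹ * (z2 * e)) * x := by rw [h]; group
          _ = z2 * x := by rw [hc]; group
    · rintro g ⟨hg, hgc⟩ hgN
      obtain ⟨β, hβ⟩ := exists_conjAut hgN
      refine mem_of_conjAut_inner hE.1 (hP.1 hg) hβ (hTI β (mem_autInducedBy.2 ⟨g, hg, hβ⟩) ?_)
      apply Subtype.ext
      rw [hβ]
      have hgc' : g ∈ Subgroup.centralizer {(z2 : Ω)} := hgc
      rw [Subgroup.mem_centralizer_singleton_iff] at hgc'
      rw [hgc', mul_inv_cancel_right]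
  refine ⟨z0, ⟨z2, hz2P⟩, ⟨t, ht⟩, (P ⊓ E).subgroupOf P, hoz0, fun x => Subtype.ext (hzS x (hP.1 x.2)), hz0.symm, ?_, ?_, ?_,
    ?_, ?_, ?_⟩
  · intro x
    rw [hz0, ← hge.1]
    exact CfsgLib.LE.pow_mem_frattini hPp x
  · intro x hx y hy
    have h1 := hel2 ⟨x, hx.2⟩ (mem_sub_PE.2 x.2) ⟨y, hy.2⟩ (mem_sub_PE.2 y.2)
    exact Subtype.ext (show (x : Ω) * y = y * x from congrArg (fun w : E => (w : Ω)) h1)
  · intro x hx
    have h1 := hel1 ⟨x, hx.2⟩ (mem_sub_PE.2 x.2)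
    exact Subtype.ext (show (x : Ω) ^ p = 1 from congrArg (fun w : E => (w : Ω)) h1)
  · intro x
    rw [Subgroup.mem_subgroupOf]
    constructor
    · rintro ⟨-, h⟩
      exact Subtype.ext (show (x : Ω) * z2 = z2 * x from congrArg (fun w : E => (w : Ω)) (hz2c ⟨x, h⟩))
    · intro h
      have h1 : (x : Ω) ∈ Subgroup.centralizer {(z2 : Ω)} := by
        rw [Subgroup.mem_centralizer_singleton_iff]
        exact congrArg Subtype.val h
      exact ⟨x.2, hCE ⟨x.2, h1⟩⟩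
  · intro h
    exact htE h.2
  · intro hp2
    -- `ν τ ν⁻¹ τ⁻¹` is inner
    have hVle : Subgroup.zpowers (⟨z0, hzE⟩ : E) ⊔ Subgroup.zpowers z2 ≤ R0 :=
      sup_le (Subgroup.zpowers_le.2 (mem_sub_PE.2 z0.2)) (Subgroup.zpowers_le.2 hz2R)
    set V := Subgroup.zpowers (⟨z0, hzE⟩ : E) ⊔ Subgroup.zpowers z2 with hV
    have hVz : Subgroup.zpowers (⟨z0, hzE⟩ : E) ≤ V := le_sup_left
    have hνinv : ∀ x, ν (ν⁻¹ x) = x := fun x => ν.apply_symm_apply x
    have hVν : ∀ x ∈ V, ν⁻¹ x = x⁻¹ := by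
      intro x hx
      have h1 := hν3 _ (V.inv_mem hx)
      rw [inv_inv] at h1
      conv_lhs => rw [← h1]
      exact ν.symm_apply_apply _
    have hVτ : ∀ x ∈ V, τ x ∈ V := by
      intro x hx
      have h1 := hVz (hTZ τ hτT x (hVle hx))
      have h2 := V.mul_mem hx h1
      rwa [mul_inv_cancel_left] at h2
    have hcomp1 : ∀ a b : MulAut E, (∀ x, x⁻¹ * a x ∈ R0) → (∀ x, x⁻¹ * b x ∈ R0) → ∀ x, x⁻¹ * (a * b) x ∈ R0 := by
      intro a b ha hb x
      have h3 := R0.mul_mem (hb x) (ha (b x))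
      have h4 : x⁻¹ * b x * ((b x)⁻¹ * a (b x)) = x⁻¹ * a (b x) := by group
      rw [h4] at h3
      exact h3
    have hinv1 : ∀ a : MulAut E, (∀ x, x⁻¹ * a x ∈ R0) → ∀ x, x⁻¹ * a⁻¹ x ∈ R0 := by
      intro a ha x
      have h1 := ha (a⁻¹ x)
      have h2 : a (a⁻¹ x) = x := a.apply_symm_apply x
      rw [h2] at h1
      have h3 := R0.inv_mem h1
      rwa [mul_inv_rev, inv_inv] at h3
    have hcomp2 : ∀ a b : MulAut E, b ∈ F.autGroup E → (∀ x ∈ R0, x⁻¹ * a x ∈ V) → (∀ x ∈ R0, x⁻¹ * b x ∈ V) →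
        ∀ x ∈ R0, x⁻¹ * (a * b) x ∈ V := by
      intro a b hbA ha hb x hx
      have h3 := V.mul_mem (hb x hx) (ha (b x) (hinvR b hbA x hx))
      have h4 : x⁻¹ * b x * ((b x)⁻¹ * a (b x)) = x⁻¹ * a (b x) := by group
      rw [h4] at h3
      exact h3
    have hinv2 : ∀ a : MulAut E, a ∈ F.autGroup E → (∀ x ∈ R0, x⁻¹ * a x ∈ V) → ∀ x ∈ R0, x⁻¹ * a⁻¹ x ∈ V := by
      intro a haA ha x hx
      have h1 := ha (a⁻¹ x) (hinvR _ (Subgroup.inv_mem _ haA) x hx)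
      have h2 : a (a⁻¹ x) = x := a.apply_symm_apply x
      rw [h2] at h1
      have h3 := V.inv_mem h1
      rwa [mul_inv_rev, inv_inv] at h3
    have hκI : τ⁻¹ * (ν * τ * ν⁻¹) ∈ Inn E := by
      have hνi := Subgroup.inv_mem _ hνA
      have hτi := Subgroup.inv_mem _ hτA
      refine hchain _ (Subgroup.mul_mem _ hτi (Subgroup.mul_mem _ (Subgroup.mul_mem _ hνA hτA) hνi)) ?_ ?_ ?_
      · exact hcomp1 _ _ (hinv1 _ (hTR τ hτT)) (hcomp1 _ _ (hcomp1 _ _ hν1 (hTR τ hτT)) (hinv1 _ hν1))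
      · have h1 : ∀ x ∈ R0, x⁻¹ * τ x ∈ V := fun x hx => hVz (hTZ τ hτT x hx)
        exact hcomp2 _ _ (Subgroup.mul_mem _ (Subgroup.mul_mem _ hνA hτA) hνi) (hinv2 _ hτA h1)
          (hcomp2 _ _ hνi (hcomp2 _ _ hτA hν2 h1) (hinv2 _ hνA hν2))
      · intro x hx
        show τ⁻¹ (ν (τ (ν⁻¹ x))) = x
        rw [hVν x hx, hν3 _ (hVτ _ (V.inv_mem hx)), map_inv, map_inv, map_inv, inv_inv]
        exact τ.symm_apply_apply x
    have hνT : ν * τ * ν⁻¹ ∈ autInducedBy S E := by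
      have h1 : ν * τ * ν⁻¹ = τ * (τ⁻¹ * (ν * τ * ν⁻¹)) := by group
      rw [h1]
      refine Subgroup.mul_mem _ (hTT0 hτT) ?_
      obtain ⟨h, hh, hx⟩ := mem_Inn.1 hκI
      exact mem_autInducedBy.2 ⟨h, hES hh, hx⟩
    obtain ⟨ψ, hψ, hψ1, hψ2⟩ := ext_elt hS hF hE.2.1 hνA (hP.1 ht) hτ hνT
    set t' := ψ ⟨t, Subgroup.mem_sup_right (Subgroup.mem_zpowers t)⟩ with ht'
    have ht'P : t' ∈ P := by
      have h3 := restrict_mem hψ (Subgroup.zpowers_le.2 (Subgroup.mem_sup_right (Subgroup.mem_zpowers t)) :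
        Subgroup.zpowers t ≤ E ⊔ Subgroup.zpowers t)
      exact hP.2 _ (Subgroup.zpowers_le.2 ht) _ h3 ⟨t, Subgroup.mem_zpowers t⟩
    have ht'E : t⁻¹ * t' ∈ E := by
      obtain ⟨h, hh, hx⟩ := mem_Inn.1 hκI
      have h1 : ∀ y : E, (t⁻¹ * t') * (y : Ω) * (t⁻¹ * t')⁻¹ = h * y * h⁻¹ := by
        intro y
        have h2 := hψ2 y
        have h3 : (t⁻¹ * t') * (y : Ω) * (t⁻¹ * t')⁻¹ = t⁻¹ * (t' * y * t'⁻¹) * t := by group
        rw [h3, h2, ← hx y]
        have h4 : t * ((τ⁻¹ * (ν * τ * ν⁻¹)) y : E) * t⁻¹ = (((ν * τ * ν⁻¹) y : E) : Ω) := by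
          rw [← hτ]
          congr 1
          exact τ.apply_symm_apply _
        rw [← h4]; group
      refine mem_of_inner hES (centric_centralizer_le hE.1) (S.mul_mem (S.inv_mem (hP.1 ht)) (hP.1 ht'P)) hh fun x hx => h1 ⟨x, hx⟩
    set r : Ω := t' * t⁻¹ with hr
    have hrP : r ∈ P := P.mul_mem ht'P (P.inv_mem ht)
    have hrE : r ∈ E := by
      have h1 : r = t * (t⁻¹ * t') * t⁻¹ := by rw [hr]; group
      rw [h1]
      exact (Subgroup.mem_normalizer_iff.1 htN _).1 ht'E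
    have hr1 : r ^ p = 1 := congrArg Subtype.val (hel1 ⟨r, hrE⟩ (mem_sub_PE.2 hrP))
    -- `t ^ p ∈ ⟨z⟩`
    have htpz := hpowP t ht
    have hzle : Subgroup.zpowers (z0 : Ω) ≤ E := Subgroup.zpowers_le.2 hzE
    have h1 : t' ^ p = ((ν ⟨t ^ p, hzle htpz⟩ : E) : Ω) := by
      rw [ht', ← map_pow]
      have h2 : (⟨t, Subgroup.mem_sup_right (Subgroup.mem_zpowers t)⟩ : ↥(E ⊔ Subgroup.zpowers t)) ^ p =
          ⟨t ^ p, Subgroup.mem_sup_left (hzle htpz)⟩ := Subtype.ext rfl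
      rw [h2]
      exact hψ1 _ (hzle htpz)
    have h2 : t' ^ p = (t ^ p)⁻¹ := by
      rw [h1, hν3 _ (hVz ((hmemzE _).2 htpz))]; rfl
    -- `(r t)^p = t^p`
    have h3 : t' ^ p = t ^ p := by
      have h4 : t' = r * t := by rw [hr]; group
      set c : Ω := r⁻¹ * (t * r * t⁻¹) with hc
      have hcz : c ∈ Subgroup.zpowers (z0 : Ω) := by
        have h5 := hcommP _ (P.inv_mem hrP) _ ht
        rw [inv_inv] at h5
        have h6 : r⁻¹ * t * r * t⁻¹ = c := by rw [hc]; group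
        rwa [h6] at h5
      have hcc : ∀ y ∈ P, y * c = c * y := by
        intro y hy
        obtain ⟨n, hn⟩ := hcz
        have h5 : Commute y (z0 : Ω) := hzS y (hP.1 hy)
        rw [← hn]
        exact (h5.zpow_right n).eq
      rw [h4, class2_pow (c := c) (by rw [hc]; group) (by rw [hcc t ht, mul_inv_cancel_right]) (hcc r hrP) p, hr1, one_mul]
      have h5 : c ^ p = 1 := by
        obtain ⟨n, hn⟩ := hcz
        rw [← hn]
        show ((z0 : Ω) ^ n) ^ p = 1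
        have h6 : (z0 : Ω) ^ p = 1 := by
          have := pow_orderOf_eq_one z0
          rw [hoz0] at this
          exact congrArg Subtype.val this
        rw [← zpow_natCast, zpow_comm, zpow_natCast, h6, one_zpow]
      have h6 : p ∣ p * (p - 1) / 2 := by
        obtain ⟨m, hm'⟩ := hp.out.odd_of_ne_two hp2
        refine ⟨m, ?_⟩
        rw [hm', Nat.add_sub_cancel]
        have : (2 * m + 1) * (2 * m) = 2 * ((2 * m + 1) * m) := by ring
        rw [this, Nat.mul_div_cancel_left _ (by norm_num : 0 < 2)]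
      obtain ⟨m, hm⟩ := h6
      rw [hm, pow_mul, h5, one_pow, one_mul]
    -- conclude
    have h4 : t ^ p * t ^ p = 1 := by
      have h5 := h2.symm.trans h3
      calc t ^ p * t ^ p = (t ^ p)⁻¹ * t ^ p := by rw [h5]
        _ = 1 := inv_mul_cancel _
    have h5 : (t ^ p) ^ p = 1 := by
      obtain ⟨n, hn⟩ := htpz
      have h6 : (z0 : Ω) ^ p = 1 := by
        have := pow_orderOf_eq_one z0
        rw [hoz0] at this
        exact congrArg Subtype.val this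
      have hn' : (z0 : Ω) ^ n = t ^ p := hn
      rw [← hn', ← zpow_natCast, zpow_comm, zpow_natCast, h6, one_zpow]
    obtain ⟨m, hm'⟩ := hp.out.odd_of_ne_two hp2
    apply Subtype.ext
    show t ^ p = 1
    have h9 : t ^ p = (t ^ p) ^ p * ((t ^ p * t ^ p) ^ m)⁻¹ := by
      have h10 : (t ^ p) ^ p = (t ^ p) * (t ^ p * t ^ p) ^ m := by
        conv_lhs => rw [hm']
        rw [pow_succ', pow_mul, pow_two]
        conv_rhs => rw [hm']
      rw [h10, mul_inv_cancel_right]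
    rw [h9, h4, h5, one_pow, inv_one, mul_one]

end ge

end CfsgLib.Fus21
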