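import Cfsg.Agent.LibH6ZasL
import Cfsg.Agent.LibCores
import Cfsg.Agent.LibFus21Q

/-! Automorphisms of the quaternion group of order 8; solvable fpf groups. -/

set_option autoImplicit false
set_option synthInstance.maxSize 2000

namespace CfsgLib.H6Zas

open Subgroup

section q8
open QuaternionGroup

def ciq : Equiv.Perm (Fin 4) := Equiv.swap 0 1 * Equiv.swap 1 2 * Equiv.swap 2 3
def cjq : Equiv.Perm (Fin 4) := Equiv.swap 0 1 * Equiv.swap 1 3 * Equiv.swap 3 2
def ckq : Equiv.Perm (Fin 4) := Equiv.swap 0 2 * Equiv.swap 2 1 * Equiv.swap 1 3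

def cq : QuaternionGroup 2 → Equiv.Perm (Fin 4)
  | a i => ciq ^ (ZMod.val (n := 4) i)
  | xa i => if (i : ZMod 4) = 0 then cjq else if (i : ZMod 4) = 2 then cjq⁻¹ else if (i : ZMod 4) = 3 then ckq else ckq⁻¹

def Eq8 (u v : QuaternionGroup 2) : QuaternionGroup 2 → QuaternionGroup 2
  | a i => u ^ (ZMod.val (n := 4) i)
  | xa i => v * u ^ (ZMod.val (n := 4) i)

theorem q8_sq : ∀ x : QuaternionGroup 2, x * x = 1 → x ≠ 1 → x = a 2 := by decide +kernel
theorem q8_a2 : (a 2 : QuaternionGroup 2) * a 2 = 1 ∧ (a 2 : QuaternionGroup 2) ≠ 1 := by decide +kernel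
theorem q8_ex : ∀ u v : QuaternionGroup 2, u * u = a 2 → v * v = a 2 → u * v ≠ v * u →
    ∃ τ : Equiv.Perm (Fin 4), ∀ x : QuaternionGroup 2, x * x = a 2 → τ * cq x * τ⁻¹ = cq (Eq8 u v x) := by
  decide +kernel
theorem q8_un : ∀ τ : Equiv.Perm (Fin 4), (∀ x : QuaternionGroup 2, x * x = a 2 → τ * cq x = cq x * τ) → τ = 1 := by
  decide +kernel
theorem q8_inj : ∀ x y : QuaternionGroup 2, x * x = a 2 → y * y = a 2 → cq x = cq y → x = y := by
  decide +kernel
theorem q8_ij : (a 1 : QuaternionGroup 2) * a 1 = a 2 ∧ (xa 0 : QuaternionGroup 2) * xa 0 = a 2 ∧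
    (a 1 : QuaternionGroup 2) * xa 0 ≠ xa 0 * a 1 := by decide +kernel
theorem q8_exp : ∀ x : QuaternionGroup 2, x = a 1 ^ (0 : ℕ) ∨ x = a 2 ∨ x * x = a 2 := by decide +kernel

theorem eq8_apply (α : MulAut (QuaternionGroup 2)) (x : QuaternionGroup 2) :
    α x = Eq8 (α (a 1)) (α (xa 0)) x := by
  have h1 : ∀ i : ZMod 4, (a i : QuaternionGroup 2) = a 1 ^ (ZMod.val (n := 4) i) := by decide +kernel
  have h2 : ∀ i : ZMod 4, (xa i : QuaternionGroup 2) = xa 0 * a 1 ^ (ZMod.val (n := 4) i) := by decide +kernel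
  cases x with
  | a i =>
    show α (a i) = α (a 1) ^ (ZMod.val (n := 4) i)
    rw [← map_pow, ← h1 i]
  | xa i =>
    show α (xa i) = α (xa 0) * α (a 1) ^ (ZMod.val (n := 4) i)
    rw [← map_pow, ← map_mul, ← h2 i]

theorem aut_q8_perm : ∃ F : MulAut (QuaternionGroup 2) →* Equiv.Perm (Fin 4), Function.Injective F := by
  have ha2 : ∀ α : MulAut (QuaternionGroup 2), α (a 2) = a 2 := by
    intro α
    apply q8_sq
    · rw [← map_mul, q8_a2.1, map_one]
    · intro h
      exact q8_a2.2 (α.injective (by rw [h, map_one]))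
  have hsq : ∀ (α : MulAut (QuaternionGroup 2)) (x : QuaternionGroup 2), x * x = a 2 → α x * α x = a 2 := by
    intro α x hx
    rw [← map_mul, hx, ha2]
  have hex : ∀ α : MulAut (QuaternionGroup 2), ∃ τ : Equiv.Perm (Fin 4), ∀ x : QuaternionGroup 2,
      x * x = a 2 → τ * cq x * τ⁻¹ = cq (α x) := by
    intro α
    obtain ⟨τ, hτ⟩ := q8_ex (α (a 1)) (α (xa 0)) (hsq α _ q8_ij.1) (hsq α _ q8_ij.2.1) (by
      intro h
      rw [← map_mul, ← map_mul] at h
      exact q8_ij.2.2 (α.injective h))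
    refine ⟨τ, fun x hx => ?_⟩
    rw [hτ x hx, ← eq8_apply]
  choose F hF using hex
  have hun : ∀ σ τ : Equiv.Perm (Fin 4), (∀ x : QuaternionGroup 2, x * x = a 2 → σ * cq x * σ⁻¹ = τ * cq x * τ⁻¹) →
      σ = τ := by
    intro σ τ h
    have h2 := q8_un (τ⁻¹ * σ) (by
      intro x hx
      have h3 := h x hx
      calc τ⁻¹ * σ * cq x = τ⁻¹ * (σ * cq x * σ⁻¹) * σ := by group
        _ = cq x * (τ⁻¹ * σ) := by rw [h3]; group)
    exact (inv_mul_eq_one.mp h2).symm
  let Φ : MulAut (QuaternionGroup 2) →* Equiv.Perm (Fin 4) :=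
    { toFun := F
      map_one' := by
        apply hun
        intro x hx
        rw [hF 1 x hx, MulAut.one_apply]; group
      map_mul' := by
        intro α β
        apply hun
        intro x hx
        rw [hF (α * β) x hx, MulAut.mul_apply, ← hF α (β x) (hsq β x hx), ← hF β x hx]; group }
  refine ⟨Φ, ?_⟩
  rw [injective_iff_map_eq_one]
  intro α hα
  have hα' : F α = 1 := hα
  have h1 : ∀ x : QuaternionGroup 2, x * x = a 2 → α x = x := by
    intro x hx
    have := hF α x hx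
    rw [hα', one_mul, inv_one, mul_one] at this
    exact (q8_inj x (α x) hx (hsq α x hx) this).symm
  ext x
  rw [MulAut.one_apply]
  rcases q8_exp x with h | h | h
  · rw [pow_zero] at h
    rw [h, map_one]
  · rw [h, ha2]
  · exact h1 x h

end q8

end CfsgLib.H6Zas
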