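import Cfsg.Agent.LibSL23b
import Cfsg.Agent.LibH6ZasM
import Mathlib

/-! Recognition of `GL(2,3)` -/

set_option autoImplicit false
set_option maxHeartbeats 800000

namespace CfsgLib.GL23

open Subgroup CfsgLib.SL23
open scoped MatrixGroups

/-- gluing two extensions of degree two -/
theorem ext_iso {S X Y : Type*} [Group S] [Group X] [Group Y] (f : S →* X) (g : S →* Y)
    (hf : Function.Injective f) (hg : Function.Injective g) {t : X} {u : Y} (ht : t ∉ f.range) (hu : u ∉ g.range)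
    (ht2 : t * t = 1) (hu2 : u * u = 1) (σ : S → S) (hX : ∀ s, t * f s = f (σ s) * t) (hY : ∀ s, u * g s = g (σ s) * u)
    (hXs : ∀ x : X, x ∈ f.range ∨ x * t ∈ f.range) (hYs : ∀ y : Y, y ∈ g.range ∨ y * u ∈ g.range) :
    Nonempty (X ≃* Y) := by
  classical
  let P : X → Y → Prop := fun a b => (∃ s, a = f s ∧ b = g s) ∨ (∃ s, a = f s * t ∧ b = g s * u)
  have h1 : ∀ a, ∃ b, P a b := by
    intro a
    rcases hXs a with ⟨s, hs⟩ | ⟨s, hs⟩
    · exact ⟨g s, Or.inl ⟨s, hs.symm, rfl⟩⟩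
    · exact ⟨g s * u, Or.inr ⟨s, by rw [hs, mul_assoc, ht2, mul_one], rfl⟩⟩
  have h2 : ∀ b, ∃ a, P a b := by
    intro a
    rcases hYs a with ⟨s, hs⟩ | ⟨s, hs⟩
    · exact ⟨f s, Or.inl ⟨s, rfl, hs.symm⟩⟩
    · exact ⟨f s * t, Or.inr ⟨s, rfl, by rw [hs, mul_assoc, hu2, mul_one]⟩⟩
  have hft : ∀ s s', f s ≠ f s' * t := by
    intro s s' h
    apply ht
    refine ⟨s'⁻¹ * s, ?_⟩
    rw [map_mul, map_inv, h, inv_mul_cancel_left]
  have hgt : ∀ s s', g s ≠ g s' * u := by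
    intro s s' h
    apply hu
    refine ⟨s'⁻¹ * s, ?_⟩
    rw [map_mul, map_inv, h, inv_mul_cancel_left]
  have h3 : ∀ a b b', P a b → P a b' → b = b' := by
    rintro a b b' (⟨s, rfl, rfl⟩ | ⟨s, rfl, rfl⟩) (⟨s', h, rfl⟩ | ⟨s', h, rfl⟩)
    · rw [hf h]
    · exact absurd h (hft _ _)
    · exact absurd h.symm (hft _ _)
    · rw [hf (mul_right_cancel h)]
  have h4 : ∀ a a' b, P a b → P a' b → a = a' := by
    rintro a a' b (⟨s, rfl, rfl⟩ | ⟨s, rfl, rfl⟩) (⟨s', rfl, h⟩ | ⟨s', rfl, h⟩)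
    · rw [hg h]
    · exact absurd h (hgt _ _)
    · exact absurd h.symm (hgt _ _)
    · rw [hg (mul_right_cancel h)]
  have h5 : ∀ a a' b b', P a b → P a' b' → P (a * a') (b * b') := by
    rintro a a' b b' (⟨s, rfl, rfl⟩ | ⟨s, rfl, rfl⟩) (⟨s', rfl, rfl⟩ | ⟨s', rfl, rfl⟩)
    · exact Or.inl ⟨s * s', by rw [map_mul], by rw [map_mul]⟩
    · exact Or.inr ⟨s * s', by rw [map_mul, mul_assoc], by rw [map_mul, mul_assoc]⟩
    · refine Or.inr ⟨s * σ s', ?_, ?_⟩
      · rw [mul_assoc, hX, map_mul, mul_assoc]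
      · rw [mul_assoc, hY, map_mul, mul_assoc]
    · refine Or.inl ⟨s * σ s', ?_, ?_⟩
      · rw [mul_assoc, ← mul_assoc t, hX, mul_assoc (f (σ s')), ht2, mul_one, map_mul]
      · rw [mul_assoc, ← mul_assoc u, hY, mul_assoc (g (σ s')), hu2, mul_one, map_mul]
  choose F hF using h1
  choose F' hF' using h2
  exact ⟨{ toFun := F
           invFun := F'
           left_inv := fun a => h4 _ _ _ (hF' (F a)) (hF a)
           right_inv := fun b => h3 _ _ _ (hF (F' b)) (hF' b)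
           map_mul' := fun a a' => h3 _ _ _ (hF (a * a')) (h5 _ _ _ _ (hF a) (hF a')) }⟩

def t0 : GL (Fin 2) (ZMod 3) := ⟨!![1, 0; 0, 2], !![1, 0; 0, 2], by decide, by decide⟩

/-- `SL → GL` -/
def emb : SL(2, ZMod 3) →* GL (Fin 2) (ZMod 3) := Matrix.SpecialLinearGroup.toGL

theorem t0_sq : t0 * t0 = 1 := by
  apply Units.ext; decide

theorem emb_inj : Function.Injective emb := Matrix.SpecialLinearGroup.toGL_injective

theorem det_emb (s : SL(2, ZMod 3)) : Matrix.det ((emb s : GL (Fin 2) (ZMod 3)) : Matrix (Fin 2) (Fin 2) (ZMod 3)) = 1 := s.2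

theorem mem_range {M : GL (Fin 2) (ZMod 3)} (h : Matrix.det (M : Matrix (Fin 2) (Fin 2) (ZMod 3)) = 1) : M ∈ emb.range :=
  ⟨⟨M, h⟩, Units.ext rfl⟩

theorem t0_det : Matrix.det (t0 : Matrix (Fin 2) (Fin 2) (ZMod 3)) = 2 := by decide

theorem t0_notin : t0 ∉ emb.range := by
  rintro ⟨s, hs⟩
  have h1 := det_emb s
  rw [hs, t0_det] at h1
  exact absurd h1 (by decide)

theorem gl_cases (M : GL (Fin 2) (ZMod 3)) : M ∈ emb.range ∨ M * t0 ∈ emb.range := by
  have h0 : Matrix.det (M : Matrix (Fin 2) (Fin 2) (ZMod 3)) ≠ 0 := by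
    have : IsUnit (Matrix.det (M : Matrix (Fin 2) (Fin 2) (ZMod 3))) := (Matrix.isUnit_iff_isUnit_det _).1 M.isUnit
    exact this.ne_zero
  have hd : ∀ d : ZMod 3, d ≠ 0 → d = 1 ∨ d * 2 = 1 := by decide
  rcases hd _ h0 with h | h
  · exact Or.inl (mem_range h)
  · right
    apply mem_range
    rw [Units.val_mul, Matrix.det_mul, t0_det, h]

/-- the relations for `GL(2,3)` -/
structure Rel2 {X : Type*} [Group X] (i j g t : X) : Prop where
  rel : Rel i j g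
  t2 : t * t = 1
  ti : t * i = i⁻¹ * t
  tj : t * j = (i * j)⁻¹ * t
  tg : t * g = g⁻¹ * t

theorem exists_equiv_gl {X : Type*} [Group X] [Finite X] (hcard : Nat.card X = 48) {i j g t : X} (h : Rel2 i j g t)
    (hi : i * i ≠ 1) (ht : t ∉ closure ({i, j, g} : Set X)) : Nonempty (X ≃* GL (Fin 2) (ZMod 3)) := by
  obtain ⟨Ψ, h1, h2, h3⟩ := exists_hom h.rel
  have hinj := injective_of Ψ (by rw [h1]; exact hi)
  have hrange : Ψ.range = closure ({i, j, g} : Set X) := by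
    rw [MonoidHom.range_eq_map, ← closure_eq_top, MonoidHom.map_closure]
    congr 1
    rw [Set.image_insert_eq, Set.image_insert_eq, Set.image_singleton, h1, h2, h3]
  have hcr : Nat.card Ψ.range = 24 := by
    rw [← Nat.card_congr (MonoidHom.ofInjective hinj).toEquiv, card_sl]
  have hidx : Ψ.range.index = 2 := by
    have := Ψ.range.card_mul_index
    rw [hcr, hcard] at this
    omega
  have ht' : t ∉ Ψ.range := by rw [hrange]; exact ht
  -- the automorphism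
  have hσ : ∀ s : SL(2, ZMod 3), ∃ s' : SL(2, ZMod 3), t0 * emb s = emb s' * t0 ∧ t * Ψ s = Ψ s' * t := by
    let D : Subgroup SL(2, ZMod 3) :=
      { carrier := {s | ∃ s' : SL(2, ZMod 3), t0 * emb s = emb s' * t0 ∧ t * Ψ s = Ψ s' * t}
        one_mem' := ⟨1, by simp, by simp⟩
        mul_mem' := by
          rintro a b ⟨a', ha, ha'⟩ ⟨b', hb, hb'⟩
          refine ⟨a' * b', ?_, ?_⟩
          · rw [map_mul, ← mul_assoc, ha, mul_assoc, hb, map_mul, mul_assoc]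
          · rw [map_mul, ← mul_assoc, ha', mul_assoc, hb', map_mul, mul_assoc]
        inv_mem' := by
          rintro a ⟨a', ha, ha'⟩
          refine ⟨a'⁻¹, ?_, ?_⟩
          · rw [map_inv, map_inv, eq_inv_mul_iff_mul_eq, ← mul_assoc, ← ha, mul_assoc, mul_inv_cancel, mul_one]
          · rw [map_inv, map_inv, eq_inv_mul_iff_mul_eq, ← mul_assoc, ← ha', mul_assoc, mul_inv_cancel, mul_one] }
    have hD : D = ⊤ := by
      rw [eq_top_iff, ← closure_eq_top, closure_le]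
      rintro x (rfl | rfl | rfl)
      · exact ⟨mI⁻¹, by apply Units.ext; decide, by rw [map_inv, h1]; exact h.ti⟩
      · exact ⟨(mI * mJ)⁻¹, by apply Units.ext; decide, by rw [map_inv, map_mul, h1, h2]; exact h.tj⟩
      · exact ⟨mT⁻¹, by apply Units.ext; decide, by rw [map_inv, h3]; exact h.tg⟩
    intro s
    have : s ∈ D := by rw [hD]; trivial
    exact this
  choose σ hσ1 hσ2 using hσ
  refine ext_iso Ψ emb hinj emb_inj ht' t0_notin h.t2 t0_sq σ hσ2 hσ1 ?_ gl_cases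
  intro x
  by_cases hx : x ∈ Ψ.range
  · exact Or.inl hx
  · right
    exact (Subgroup.mul_mem_iff_of_index_two hidx).2 ⟨fun h => absurd h hx, fun h => absurd h ht'⟩

/-! ### the quaternion group -/

section q8
open QuaternionGroup CfsgLib.H6Zas

/-- the standard automorphism of order three -/
def b0 : QuaternionGroup 2 → QuaternionGroup 2 := Eq8 (xa 0) (a 1 * xa 0)

theorem d_hom : ∀ i j : QuaternionGroup 2, i * i ≠ 1 → j * j ≠ 1 → j ≠ i → j ≠ i⁻¹ →
    (∀ x y, Eq8 i j (x * y) = Eq8 i j x * Eq8 i j y) ∧ (∀ x y, Eq8 i j x = Eq8 i j y → x = y) ∧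
    Eq8 i j (a 1) = i ∧ Eq8 i j (xa 0) = j := by decide +kernel

theorem d_b0 : (a 1 : QuaternionGroup 2) * xa 0 = xa 3 ∧ (∀ x, b0 x = x → x * x = 1) := by decide +kernel

/-- automorphisms commuting with `b0` -/
theorem d_comm : ∀ u v : QuaternionGroup 2, (∀ x y, Eq8 u v x = Eq8 u v y → x = y) →
    (∀ x y, Eq8 u v (x * y) = Eq8 u v x * Eq8 u v y) → (∀ x, Eq8 u v (b0 x) = b0 (Eq8 u v x)) →
    (∀ x, Eq8 u v x = x) ∨ (∀ x, Eq8 u v x = b0 x) ∨ (∀ x, Eq8 u v x = b0 (b0 x)) := by decide +kernel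

/-- involutory automorphisms inverting `b0` -/
theorem d_inv : ∀ u v : QuaternionGroup 2, (∀ x y, Eq8 u v x = Eq8 u v y → x = y) →
    (∀ x y, Eq8 u v (x * y) = Eq8 u v x * Eq8 u v y) →
    (∀ x, Eq8 u v (Eq8 u v x) = x) → (∀ x, Eq8 u v (b0 (Eq8 u v (b0 x))) = x) →
    (∃ i : QuaternionGroup 2, i * i ≠ 1 ∧ b0 i * b0 i ≠ 1 ∧ b0 i ≠ i ∧ b0 i ≠ i⁻¹ ∧ b0 (b0 i) = i * b0 i ∧ Eq8 u v i = i⁻¹ ∧
      Eq8 u v (b0 i) = (i * b0 i)⁻¹) ∧
    (∀ q : QuaternionGroup 2, q * Eq8 u v q * a 2 ≠ 1) := by decide +kernel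

end q8

end CfsgLib.GL23
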