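import Cfsg.Agent.LibGL23A

/-! `decide` facts for `Q₈` -/

set_option autoImplicit false
set_option maxHeartbeats 800000

namespace CfsgLib.GL23

open QuaternionGroup CfsgLib.H6Zas

theorem d_frat : ∀ u v : QuaternionGroup 2, (∀ x y, Eq8 u v x = Eq8 u v y → x = y) →
    (∀ x y, Eq8 u v (x * y) = Eq8 u v x * Eq8 u v y) →
    ∃ q : QuaternionGroup 2, (∀ x, q⁻¹ * Eq8 u v (b0 x) * q = b0 (q⁻¹ * Eq8 u v x * q)) ∨
      (∀ x, q⁻¹ * Eq8 u v (b0 x) * q = b0 (b0 (q⁻¹ * Eq8 u v x * q))) := by decide +kernel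


end CfsgLib.GL23
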