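import Cfsg.Agent.LibFus21Mc7

/-! metacyclic 2-groups with odd automorphisms (helper8, after helper21's LibFus21Mc7) -/
set_option autoImplicit false

namespace CfsgLib.Mc8

open Cfsg CfsgLib.Fus21

/-- automorphisms of odd order of metacyclic 2-groups -/
theorem metac_odd8 {R : Type*} [Group R] [Finite R] (hR : IsPGroup 2 R) (hm : Cfsg.IsMetacyclic R)
    {ρ : MulAut R} {m : ℕ} (hmo : Odd m) (hρ : ρ ^ m = 1) (hne : ρ ≠ 1) :
    Nonempty (R ≃* QuaternionGroup 2) ∨ ∃ n : ℕ, Nonempty (R ≃* Multiplicative (Fin 2 → ZMod (2 ^ n))) := by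
  haveI : Fact (Nat.Prime 2) := ⟨Nat.prime_two⟩
  obtain ⟨N, hN⟩ := hR.exists_card_eq
  have hncyc : ¬ IsCyclic R := by
    intro hc
    obtain ⟨g, hg⟩ := hc.exists_generator
    have htop : (⊤ : Subgroup R) = Subgroup.zpowers g := by
      rw [eq_comm, eq_top_iff]; exact fun x _ => hg x
    have h1 := odd_aut_cyclic hR hmo hρ (D := ⊤) (Subgroup.map_top_of_surjective _ ρ.surjective) htop
    apply hne
    apply MulEquiv.ext
    intro x
    obtain ⟨k, rfl⟩ := Subgroup.mem_zpowers_iff.1 (hg x)
    rw [map_zpow, h1]; rfl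
  have hidx : (frattini R).index = 4 := by
    have h1 : (frattini R).index ≤ 2 ^ 2 := metac_frattini hR hm
    have h2 : ¬ (frattini R).index < 2 ^ 2 := fun h => hncyc (CfsgLib.H7Sec.isCyclic_of_index_frattini hR h)
    omega
  have hsqΦ : ∀ x : R, x * x ∈ frattini R := fun x => by
    have := CfsgLib.LE.pow_mem_frattini hR x
    rwa [pow_two] at this
  have hρΦ : ∀ x ∈ frattini R, ρ x ∈ frattini R := by
    intro x hx
    have hch : (frattini R).map ρ.toMonoidHom = frattini R := Subgroup.characteristic_iff_map_eq.1 inferInstance ρ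
    rw [← hch]; exact ⟨x, hx, rfl⟩
  -- trivial action on the Frattini quotient
  have htrivial : ∀ β ∈ Subgroup.zpowers ρ, (∀ x, x⁻¹ * β x ∈ frattini R) → β = 1 := by
    intro β hβ h
    have hcardA := Cfsg.Agent.S4207.result (P := R) (p := 2) (n := N) (r := 2) hN (by rw [hidx]; norm_num) (Subgroup.zpowers β) (by
      rintro _ ⟨k, rfl⟩ x
      show (β ^ k) x * x⁻¹ ∈ frattini R
      -- the subgroup of automorphisms trivial on the quotient
      have hβΦ : ∀ γ ∈ Subgroup.zpowers ρ, ∀ x ∈ frattini R, γ x ∈ frattini R := by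
        intro γ _ x hx
        have hch : (frattini R).map γ.toMonoidHom = frattini R := Subgroup.characteristic_iff_map_eq.1 inferInstance γ
        rw [← hch]; exact ⟨x, hx, rfl⟩
      let K : Subgroup (MulAut R) :=
        { carrier := {γ | γ ∈ Subgroup.zpowers ρ ∧ ∀ x, γ x * x⁻¹ ∈ frattini R}
          mul_mem' := by
            rintro γ δ ⟨h1, h2⟩ ⟨h3, h4⟩
            refine ⟨Subgroup.mul_mem _ h1 h3, fun x => ?_⟩
            have : (γ * δ) x * x⁻¹ = (γ (δ x) * (δ x)⁻¹) * (δ x * x⁻¹) := by rw [MulAut.mul_apply]; group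
            rw [this]; exact (frattini R).mul_mem (h2 _) (h4 _)
          one_mem' := ⟨Subgroup.one_mem _, fun x => by rw [MulAut.one_apply, mul_inv_cancel]; exact (frattini R).one_mem⟩
          inv_mem' := by
            rintro γ ⟨h1, h2⟩
            refine ⟨Subgroup.inv_mem _ h1, fun x => ?_⟩
            have := h2 (γ⁻¹ x)
            rw [MulAut.apply_inv_self] at this
            have h3 := (frattini R).inv_mem this
            rwa [mul_inv_rev, inv_inv] at h3 }
      have hβK : β ∈ K := by
        refine ⟨hβ, fun x => ?_⟩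
        have h1 := (inferInstance : (frattini R).Normal).conj_mem _ (h x) x
        have h2 : x * (x⁻¹ * β x) * x⁻¹ = β x * x⁻¹ := by group
        rwa [h2] at h1
      exact (K.zpow_mem hβK k).2 x)
    rw [Nat.card_zpowers] at hcardA
    obtain ⟨j, -, hj⟩ := (Nat.dvd_prime_pow Nat.prime_two).1 hcardA
    obtain ⟨i, rfl⟩ := Subgroup.mem_zpowers_iff.1 hβ
    have h2 : (ρ ^ i) ^ m = 1 := by
      rw [← zpow_natCast, ← zpow_mul, mul_comm, zpow_mul, zpow_natCast, hρ, one_zpow]
    have h3 := orderOf_dvd_of_pow_eq_one h2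
    rw [hj] at h3
    have h4 : j = 0 := by
      by_contra h5
      have h6 : 2 ∣ m := (dvd_pow_self 2 h5).trans h3
      obtain ⟨l, hl⟩ := hmo
      omega
    rw [h4, pow_zero, orderOf_eq_one_iff] at hj
    exact hj
  have hfp : ∀ x, x⁻¹ * ρ x ∈ frattini R → x ∈ frattini R := by
    intro x hx
    by_contra hxΦ
    -- ρ² acts trivially
    apply hne
    have hρ2 : ρ ^ 2 = 1 := by
      apply htrivial _ ⟨2, rfl⟩
      -- representatives
      set π := QuotientGroup.mk' (frattini R) with hπ
      have hπ1 : ∀ x, π x = 1 ↔ x ∈ frattini R := by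
        intro x; rw [hπ, QuotientGroup.mk'_apply, QuotientGroup.eq_one_iff]
      have hπe : ∀ x y, π x = π y ↔ x⁻¹ * y ∈ frattini R := by
        intro x y; rw [← hπ1, map_mul, map_inv, inv_mul_eq_one]
      have hcong : ∀ x y, π x = π y ↔ π (ρ x) = π (ρ y) := by
        intro x y
        rw [hπe, hπe, ← map_inv, ← map_mul]
        constructor
        · exact hρΦ _
        · intro h
          have hch : (frattini R).map ρ⁻¹.toMonoidHom = frattini R := Subgroup.characteristic_iff_map_eq.1 inferInstance _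
          rw [← hch]; exact ⟨_, h, ρ.symm_apply_apply _⟩
      have hsq : ∀ v : R ⧸ frattini R, v * v = 1 := by
        intro v
        obtain ⟨x, rfl⟩ := QuotientGroup.mk'_surjective _ v
        rw [← map_mul]
        exact (hπ1 _).2 (hsqΦ x)
      have hinv : ∀ v : R ⧸ frattini R, v⁻¹ = v := fun v => inv_eq_of_mul_eq_one_right (hsq v)
      have hcm : ∀ v w : R ⧸ frattini R, v * w = w * v := by
        intro v w
        have := hinv (v * w)
        rw [mul_inv_rev, hinv, hinv] at this
        exact this.symm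
      set X := π x with hX
      have hρX : π (ρ x) = X := ((hπe _ _).2 hx).symm
      have hX1 : X ≠ 1 := fun h => hxΦ ((hπ1 _).1 h)
      intro y
      rw [← hπe]
      show π y = π (ρ (ρ y))
      -- V = {1, X, Y, XY}
      by_cases hy1 : π y = 1
      · have h1 : π (ρ y) = 1 := by
          have := (hcong y 1).1 (by rw [hy1, map_one]); rwa [map_one, map_one] at this
        have h2 : π (ρ (ρ y)) = 1 := by
          have := (hcong (ρ y) 1).1 (by rw [h1, map_one]); rwa [map_one, map_one] at this
        rw [hy1, h2]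
      by_cases hyX : π y = X
      · have h1 : π (ρ y) = X := by rw [← hρX]; exact (hcong y x).1 hyX
        have h2 : π (ρ (ρ y)) = X := by
          have := (hcong (ρ y) x).1 h1; rwa [hρX] at this
        rw [hyX, h2]
      set Y := π y with hY
      have hcardV : Nat.card (R ⧸ frattini R) = 4 := by rw [← Subgroup.index_eq_card, hidx]
      have hall : ∀ v : R ⧸ frattini R, v = 1 ∨ v = X ∨ v = Y ∨ v = X * Y := by
        classical
        haveI := Fintype.ofFinite (R ⧸ frattini R)
        have h1 : ({1, X, Y, X * Y} : Finset (R ⧸ frattini R)) = Finset.univ := by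
          apply Finset.eq_univ_of_card
          rw [← Nat.card_eq_fintype_card, hcardV]
          have n1 : X * Y ≠ 1 := by
            intro h
            apply hyX
            rw [← hinv X]
            exact (inv_eq_of_mul_eq_one_right h).symm
          have n2 : X * Y ≠ X := fun h => hy1 (mul_eq_left.1 h)
          have n3 : X * Y ≠ Y := fun h => hX1 (mul_eq_right.1 h)
          rw [Finset.card_insert_of_notMem, Finset.card_insert_of_notMem, Finset.card_insert_of_notMem, Finset.card_singleton]
          · rw [Finset.mem_singleton]; exact n3.symm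
          · rw [Finset.mem_insert, Finset.mem_singleton, not_or]; exact ⟨fun h => hyX h.symm, n2.symm⟩
          · rw [Finset.mem_insert, Finset.mem_insert, Finset.mem_singleton, not_or, not_or]
            exact ⟨hX1.symm, fun h => hy1 h.symm, n1.symm⟩
        intro v
        have h2 : v ∈ ({1, X, Y, X * Y} : Finset (R ⧸ frattini R)) := by rw [h1]; exact Finset.mem_univ _
        simpa using h2
      rcases hall (π (ρ y)) with h | h | h | h
      · exact absurd (by have := (hcong y 1).2 (by rw [h, map_one, map_one]); rwa [map_one] at this) hy1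
      · exact absurd ((hcong y x).2 (by rw [h, hρX])) hyX
      · rw [(hcong (ρ y) y).1 h, h]
      · have h1 : π (ρ y) = π (x * y) := by rw [h, map_mul]
        rw [(hcong (ρ y) (x * y)).1 h1, map_mul, map_mul, hρX, h, ← mul_assoc, hsq, one_mul]
    obtain ⟨l, hl⟩ := hmo
    rw [hl, pow_add, pow_mul, hρ2, one_pow, one_mul, pow_one] at hρ
    exact hρ
  rcases metac_odd_aut hR hm hmo hρ hidx hfp with ⟨a, b, ha, hb, hab, hba, htop⟩ | ⟨n, a, b, ha, hb, hab, hd, htop⟩
  · exact Or.inl (CfsgLib.Dihedral.nonempty_equiv_quaternion_top (n := 2) (a := a) (b := b) (by rw [ha]) hb hab hba htop)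
  · exact Or.inr ⟨n, homocyclic_equiv ha hb hab hd htop⟩


theorem pi_two (k : ℕ) : Nonempty (Multiplicative (Fin 2 → ZMod k) ≃* Multiplicative (ZMod k) × Multiplicative (ZMod k)) :=
  ⟨{ toFun := fun x => (Multiplicative.ofAdd (Multiplicative.toAdd x 0), Multiplicative.ofAdd (Multiplicative.toAdd x 1))
     invFun := fun y => Multiplicative.ofAdd ![Multiplicative.toAdd y.1, Multiplicative.toAdd y.2]
     left_inv := fun x => by
       apply Multiplicative.toAdd.injective
       funext i
       fin_cases i <;> rfl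
     right_inv := fun y => rfl
     map_mul' := fun x y => rfl }⟩

theorem main {X : Type*} [Group X] [Finite X] (hX : IsPGroup 2 X)
    (hm : Cfsg.IsMetacyclic X) (hA : ¬ IsPGroup 2 (MulAut X)) :
    Nonempty (X ≃* QuaternionGroup 2) ∨
      ∃ n : ℕ, Nonempty (X ≃* Multiplicative (ZMod (2 ^ n)) × Multiplicative (ZMod (2 ^ n))) := by
  haveI : Fact (Nat.Prime 2) := ⟨Nat.prime_two⟩
  obtain ⟨ρ, m, hmo, hρ, hne⟩ : ∃ (ρ : MulAut X) (m : ℕ), Odd m ∧ ρ ^ m = 1 ∧ ρ ≠ 1 := by
    by_contra hcon
    push Not at hcon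
    apply hA
    intro α
    obtain ⟨m, c, hc, hc2⟩ := Nat.exists_eq_pow_mul_and_not_dvd (orderOf_pos α).ne' 2 (by norm_num)
    refine ⟨m, hcon (α ^ 2 ^ m) c ?_ ?_⟩
    · rw [← Nat.not_even_iff_odd, even_iff_two_dvd]; exact hc
    · rw [← pow_mul, ← hc2, pow_orderOf_eq_one]
  rcases metac_odd8 hX hm hmo hρ hne with h | ⟨n, ⟨e⟩⟩
  · exact Or.inl h
  · obtain ⟨e'⟩ := pi_two (2 ^ n)
    exact Or.inr ⟨n, ⟨e.trans e'⟩⟩

end CfsgLib.Mc8
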