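import Cfsg.Agent.LibSL23
import Mathlib.GroupTheory.SpecificGroups.Quaternion
import Mathlib.GroupTheory.Sylow

/-! Structure of `SL(2,3)` -/

set_option autoImplicit false

namespace CfsgLib.SL23

open Subgroup
open scoped MatrixGroups commutatorElement

theorem q_mul : ∀ x y : SL(2, ZMod 3), x * x * x * x = 1 → y * y * y * y = 1 → (x * y) * (x * y) * (x * y) * (x * y) = 1 := by
  decide +kernel

theorem q_inv : ∀ x : SL(2, ZMod 3), x * x * x * x = 1 → x⁻¹ * x⁻¹ * x⁻¹ * x⁻¹ = 1 := by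
  decide +kernel

def Q8 : Subgroup SL(2, ZMod 3) where
  carrier := {x | x * x * x * x = 1}
  one_mem' := by simp
  mul_mem' := fun ha hb => q_mul _ _ ha hb
  inv_mem' := fun ha => q_inv _ ha

theorem mem_Q8 {x : SL(2, ZMod 3)} : x ∈ Q8 ↔ x * x * x * x = 1 := Iff.rfl

theorem comm_mem : ∀ x y : SL(2, ZMod 3), (x * y * x⁻¹ * y⁻¹) * (x * y * x⁻¹ * y⁻¹) * (x * y * x⁻¹ * y⁻¹) * (x * y * x⁻¹ * y⁻¹) = 1 := by
  decide +kernel

theorem q_comm : ∀ x : SL(2, ZMod 3), x * x * x * x = 1 → ∃ y : SL(2, ZMod 3), x = mT * y * mT⁻¹ * y⁻¹ ∨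
    x = mI * y * mI⁻¹ * y⁻¹ ∨ x⁻¹ = mT * y * mT⁻¹ * y⁻¹ ∨ ∃ z : SL(2, ZMod 3), x = (mT * y * mT⁻¹ * y⁻¹) * (mI * z * mI⁻¹ * z⁻¹) := by
  decide +kernel

theorem commutator_eq : commutator SL(2, ZMod 3) = Q8 := by
  apply le_antisymm
  · rw [_root_.commutator_def, commutator_le]
    intro a _ b _
    exact comm_mem a b
  · intro x hx
    have hc : ∀ a b : SL(2, ZMod 3), a * b * a⁻¹ * b⁻¹ ∈ commutator SL(2, ZMod 3) := by
      intro a b
      rw [_root_.commutator_def]
      exact commutator_mem_commutator (mem_top a) (mem_top b)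
    obtain ⟨y, h | h | h | ⟨z, h⟩⟩ := q_comm x hx
    · rw [h]; exact hc _ _
    · rw [h]; exact hc _ _
    · rw [← inv_inv x, h]; exact inv_mem (hc _ _)
    · rw [h]; exact mul_mem (hc _ _) (hc _ _)

/-- the embedding of the quaternion group -/
def qf : QuaternionGroup 2 → SL(2, ZMod 3)
  | QuaternionGroup.a i => mI ^ (ZMod.val (n := 4) i)
  | QuaternionGroup.xa i => mJ * mI ^ (ZMod.val (n := 4) i)

theorem qf_mul : ∀ x y : QuaternionGroup 2, qf (x * y) = qf x * qf y := by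
  decide +kernel

theorem qf_inj : ∀ x y : QuaternionGroup 2, qf x = qf y → x = y := by
  decide +kernel

theorem qf_mem : ∀ x : QuaternionGroup 2, qf x * qf x * qf x * qf x = 1 := by
  decide +kernel

theorem qf_surj : ∀ x : SL(2, ZMod 3), x * x * x * x = 1 → ∃ y : QuaternionGroup 2, qf y = x := by
  decide +kernel

noncomputable def qEquiv : QuaternionGroup 2 ≃* Q8 :=
  MulEquiv.ofBijective ((MonoidHom.mk' qf qf_mul).codRestrict Q8 qf_mem)
    ⟨fun x y h => qf_inj x y (congrArg Subtype.val h), fun x => by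
      obtain ⟨y, hy⟩ := qf_surj x x.2
      exact ⟨y, Subtype.ext hy⟩⟩

theorem card_sl : Nat.card SL(2, ZMod 3) = 24 := by
  let f : ZMod 4 × Bool × ZMod 3 → SL(2, ZMod 3) := fun x => nf mI mJ mT x.1 x.2.1 x.2.2
  have hf : Function.Bijective f := by
    constructor
    · rintro ⟨a, b, c⟩ ⟨a', b', c'⟩ h
      obtain ⟨h1, h2, h3⟩ := nf_inj _ _ _ _ _ _ h
      exact Prod.ext h1 (Prod.ext h2 h3)
    · intro x
      obtain ⟨a, b, c, h⟩ := nf_surj x
      exact ⟨(a, b, c), h.symm⟩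
  rw [← Nat.card_eq_of_bijective f hf, Nat.card_prod, Nat.card_prod, Nat.card_zmod, Nat.card_zmod]
  simp

theorem card_Q8 : Nat.card Q8 = 8 := by
  rw [← Nat.card_congr qEquiv.toEquiv, Nat.card_eq_fintype_card, QuaternionGroup.card]

theorem center_iff : ∀ x : SL(2, ZMod 3), (x * mI = mI * x ∧ x * mT = mT * x) → x = 1 ∨ x = mI * mI := by
  decide +kernel

theorem center_iff' : ∀ x : SL(2, ZMod 3), x * (mI * mI) = (mI * mI) * x := by
  decide +kernel

theorem mem_center {x : SL(2, ZMod 3)} : x ∈ center SL(2, ZMod 3) ↔ x = 1 ∨ x = mI * mI := by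
  rw [mem_center_iff]
  constructor
  · intro h
    exact center_iff x ⟨(h mI).symm, (h mT).symm⟩
  · rintro (rfl | rfl) g
    · simp
    · exact center_iff' g

theorem card_center : Nat.card (center SL(2, ZMod 3)) = 2 := by
  have h : ((center SL(2, ZMod 3) : Subgroup _) : Set SL(2, ZMod 3)) = {1, mI * mI} := by
    ext x
    rw [SetLike.mem_coe, mem_center]; rfl
  have h2 : Nat.card (center SL(2, ZMod 3)) = Set.ncard ((center SL(2, ZMod 3) : Subgroup _) : Set SL(2, ZMod 3)) := rfl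
  rw [h2, h, Set.ncard_pair]
  decide

theorem n1 : ∀ x y : SL(2, ZMod 3), x * x * x * x ≠ 1 → ∃ k : Fin 3, (y * x ^ k.val) * (y * x ^ k.val) * (y * x ^ k.val) * (y * x ^ k.val) = 1 := by
  decide +kernel

theorem n2 : ∀ x : SL(2, ZMod 3), x * x * x * x ≠ 1 → ∃ y : SL(2, ZMod 3), (x * y * x⁻¹ * y⁻¹) * (x * y * x⁻¹ * y⁻¹) = mI * mI := by
  decide +kernel

theorem n3 : ∀ x : SL(2, ZMod 3), x * x = mI * mI → ∀ y : SL(2, ZMod 3), y * y * y * y = 1 → y = 1 ∨ y = x * x ∨
    ∃ z : SL(2, ZMod 3), y = z * x * z⁻¹ ∨ y = z * x⁻¹ * z⁻¹ := by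
  decide +kernel

theorem n4 : ∀ x : SL(2, ZMod 3), x * x * x * x = 1 → x ≠ 1 → x ≠ mI * mI → x * x = mI * mI := by
  decide +kernel

theorem normal_cases (N : Subgroup SL(2, ZMod 3)) (hN : N.Normal) :
    N = ⊥ ∨ N = ⊤ ∨ N = center SL(2, ZMod 3) ∨ N = commutator SL(2, ZMod 3) := by
  -- an element with square `-1` gives `Q8`
  have h4 : ∀ x ∈ N, x * x = mI * mI → Q8 ≤ N := by
    intro x hx hxx y hy
    rcases n3 x hxx y hy with h | h | ⟨z, h | h⟩
    · rw [h]; exact one_mem _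
    · rw [h]; exact mul_mem hx hx
    · rw [h]; exact hN.conj_mem x hx z
    · rw [h]; exact hN.conj_mem _ (inv_mem hx) z
  by_cases hQ : N ≤ Q8
  · by_cases hz : ∃ x ∈ N, x * x = mI * mI
    · obtain ⟨x, hx, hxx⟩ := hz
      right; right; right
      rw [commutator_eq]
      exact le_antisymm hQ (h4 x hx hxx)
    · push Not at hz
      have hle : ∀ x ∈ N, x = 1 ∨ x = mI * mI := by
        intro x hx
        by_contra hcon
        push Not at hcon
        exact hz x hx (n4 x (hQ hx) hcon.1 hcon.2)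
      by_cases hc : mI * mI ∈ N
      · right; right; left
        ext x
        rw [mem_center]
        constructor
        · exact hle x
        · rintro (rfl | rfl)
          · exact one_mem _
          · exact hc
      · left
        rw [eq_bot_iff]
        intro x hx
        rcases hle x hx with h | h
        · exact h
        · exact absurd (h ▸ hx) hc
  · right; left
    obtain ⟨x, hx, hxQ⟩ := Set.not_subset.mp hQ
    have hxQ' : x * x * x * x ≠ 1 := hxQ
    obtain ⟨y, hy⟩ := n2 x hxQ'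
    have hc : x * y * x⁻¹ * y⁻¹ ∈ N := by
      have : x * y * x⁻¹ * y⁻¹ = x * (y * x⁻¹ * y⁻¹) := by group
      rw [this]
      exact mul_mem hx (hN.conj_mem _ (inv_mem hx) y)
    have hQN := h4 _ hc hy
    rw [eq_top_iff]
    intro z _
    obtain ⟨k, hk⟩ := n1 x z hxQ'
    have h1 : z * x ^ k.val ∈ N := hQN hk
    have h2 := mul_mem h1 (inv_mem (pow_mem hx k.val))
    rwa [mul_inv_cancel_right] at h2

end CfsgLib.SL23
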