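import Cfsg.Agent.LibCores
import Cfsg.Agent.LibPSolv19
import Cfsg.Agent.LibQ8a
import Cfsg.Agent.LibSL23b
import Cfsg.Agent.LibNF3
import Cfsg.Agent.LibFus21Tv4
import Cfsg.Agent.LibMc8
import Mathlib
-- Template for statement S2879 (row 2879; see /opt/grader/pristine/manifest.json for weights).
-- Copy to Cfsg/Agent/S2879.lean and replace the sorry. The statement below is byte-identical to the frozen
-- statement Cfsg.CfsgFrozen.S2879 (Cfsg/Statements/S2879.lean; the theorem Cfsg.lsp_solvable_dihedral_sylow_central_normal_sl_two_three);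
-- the grader kernel-checks Cfsg.Agent.S2879.result against that frozen type. Keep the theorem IN THIS FILE
-- (a `result` declared elsewhere and merely imported here is not credited); helpers may live anywhere
-- under Cfsg/Agent/.
import Cfsg.Statements.S2879
-- import your own Cfsg.Agent.* helpers here

set_option autoImplicit false
open Cfsg

namespace Cfsg.Agent.S2879

open Subgroup QuaternionGroup

theorem q8a : ∀ i : QuaternionGroup 2, i * i * i * i = 1 := by decide
theorem q8b : ∀ i j : QuaternionGroup 2, i * i ≠ 1 → j * j ≠ 1 → j ≠ i → j ≠ i⁻¹ → j * j = i * i ∧ j * i = i * i * i * j := by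
  decide
theorem q8c : ∀ i j k : QuaternionGroup 2, i * i ≠ 1 → j * j ≠ 1 → k * k ≠ 1 → j ≠ i → j ≠ i⁻¹ → k ≠ i → k ≠ i⁻¹ →
    k ≠ j → k ≠ j⁻¹ → k = i * j ∨ k = (i * j)⁻¹ := by
  decide +kernel
theorem q8d : ∀ i j : QuaternionGroup 2, i * i ≠ 1 → j * j ≠ 1 → j ≠ i → j ≠ i⁻¹ → i * j = i⁻¹ * j⁻¹ := by
  decide
theorem q8e : ∀ i j : QuaternionGroup 2, i * i = 1 → j * j = 1 → i ≠ 1 → j ≠ 1 → i = j := by
  decide

theorem abs (β : QuaternionGroup 2 ≃* QuaternionGroup 2) (h3 : ∀ x, β (β (β x)) = x) (hne : ∃ x, β x ≠ x) :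
    ∃ i, i * i ≠ 1 ∧ β i ≠ i ∧ β i ≠ i⁻¹ ∧ β i * β i ≠ 1 ∧ β (β i) = i * β i := by
  obtain ⟨i, hi⟩ := hne
  have hsq : ∀ x, x * x ≠ 1 → β x * β x ≠ 1 := by
    intro x hx h
    rw [← map_mul] at h
    exact hx (β.injective (h.trans (map_one β).symm))
  have hii : i * i ≠ 1 := by
    intro h
    apply hi
    apply q8e
    · rw [← map_mul, h, map_one]
    · exact h
    · intro h1
      apply hi
      have : i = 1 := β.injective (h1.trans (map_one β).symm)
      rw [this, map_one]
    · intro h1
      apply hi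
      rw [h1, map_one]
  have hj := hsq i hii
  have hk := hsq (β i) hj
  have hji : β i ≠ i⁻¹ := by
    intro h
    have h1 : β (β i) = i := by rw [h, map_inv, h, inv_inv]
    have h2 := h3 i
    rw [h1] at h2
    exact hi h2
  have hki : β (β i) ≠ i := by
    intro h
    have h2 := h3 i
    rw [h] at h2
    exact hi h2
  have hki' : β (β i) ≠ i⁻¹ := by
    intro h
    have h2 := h3 i
    rw [h, map_inv] at h2
    apply hji
    rw [← inv_inv (β i), h2]
  have hkj : β (β i) ≠ β i := fun h => hi (β.injective h)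
  have hkj' : β (β i) ≠ (β i)⁻¹ := by
    intro h
    rw [← map_inv] at h
    exact hji (β.injective h)
  rcases q8c i (β i) (β (β i)) hii hj hk hi hji hki hki' hkj hkj' with h | h
  · exact ⟨i, hii, hi, hji, hj, h⟩
  · refine ⟨i⁻¹, ?_, ?_, ?_, ?_, ?_⟩
    · intro h1
      apply hii
      rw [← mul_inv_rev, inv_eq_one] at h1
      exact h1
    · rw [map_inv]
      intro h1
      exact hi (inv_injective h1)
    · rw [map_inv]
      intro h1
      exact hji (inv_injective h1)
    · rw [map_inv]
      intro h1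
      apply hj
      rw [← mul_inv_rev, inv_eq_one] at h1
      exact h1
    · rw [map_inv, map_inv, h, inv_inv]
      exact q8d i (β i) hii hj hi hji

theorem key {G : Type*} [Group G] [Finite G] (Q : Subgroup G) [hQ : Q.Normal] (e : Q ≃* QuaternionGroup 2)
    (hC : centralizer (Q : Set G) ≤ Q) (g : G) (hg : orderOf g = 3) :
    ∃ U : Subgroup G, U.Normal ∧ Nonempty (↥U ≃* Matrix.SpecialLinearGroup (Fin 2) (ZMod 3)) := by
  have hQ8 : Nat.card Q = 8 := by
    rw [Nat.card_congr e.toEquiv, Nat.card_eq_fintype_card, QuaternionGroup.card]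
  have hg3 : g ^ 3 = 1 := by rw [← hg, pow_orderOf_eq_one]
  have hgC : g ∉ centralizer (Q : Set G) := by
    intro h
    have h1 : orderOf (⟨g, hC h⟩ : Q) ∣ Nat.card Q := orderOf_dvd_natCard _
    rw [Subgroup.orderOf_mk, hg, hQ8] at h1
    omega
  let α : MulAut Q := MulAut.conjNormal g
  let β : QuaternionGroup 2 ≃* QuaternionGroup 2 := (e.symm.trans α).trans e
  have hα3 : ∀ x, α (α (α x)) = x := by
    intro x
    apply Subtype.ext
    change ((MulAut.conjNormal g (MulAut.conjNormal g (MulAut.conjNormal g x)) : Q) : G) = x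
    rw [MulAut.conjNormal_apply, MulAut.conjNormal_apply, MulAut.conjNormal_apply]
    calc g * (g * (g * (x : G) * g⁻¹) * g⁻¹) * g⁻¹ = g ^ 3 * x * (g ^ 3)⁻¹ := by
          rw [pow_succ, pow_two]; group
      _ = x := by rw [hg3]; group
  have hβ3 : ∀ x, β (β (β x)) = x := by
    intro x
    change e (α (e.symm (e (α (e.symm (e (α (e.symm x)))))))) = x
    rw [e.symm_apply_apply, e.symm_apply_apply, hα3, e.apply_symm_apply]
  obtain ⟨i, hii, hi1, hi2, hjj, hk⟩ := abs β hβ3 (by
    by_contra hcon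
    push Not at hcon
    apply hgC
    rw [mem_centralizer_iff]
    intro q hq
    have h1 := hcon (e ⟨q, hq⟩)
    change e (α (e.symm (e ⟨q, hq⟩))) = e ⟨q, hq⟩ at h1
    rw [e.symm_apply_apply] at h1
    have h2 := congrArg Subtype.val (e.injective h1)
    change ((MulAut.conjNormal g ⟨q, hq⟩ : Q) : G) = q at h2
    rw [MulAut.conjNormal_apply] at h2
    exact (mul_inv_eq_iff_eq_mul.mp h2).symm)
  set I : G := ((e.symm i : Q) : G) with hI
  set J : G := ((e.symm (β i) : Q) : G) with hJ
  have hgI : g * I * g⁻¹ = J := by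
    have : e.symm (β i) = α (e.symm i) := by
      change e.symm (e (α (e.symm i))) = _
      rw [e.symm_apply_apply]
    rw [hJ, this]
    exact (MulAut.conjNormal_apply g (e.symm i)).symm
  have hgJ : g * J * g⁻¹ = I * J := by
    have : e.symm (β (β i)) = α (e.symm (β i)) := by
      change e.symm (e (α (e.symm (β i)))) = _
      rw [e.symm_apply_apply]
    have h2 : g * J * g⁻¹ = ((e.symm (β (β i)) : Q) : G) := by
      rw [this]
      exact (MulAut.conjNormal_apply g (e.symm (β i))).symm
    rw [h2, hk, map_mul]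
    rfl
  obtain ⟨hj2, hji⟩ := q8b i (β i) hii hjj hi1 hi2
  have hR : CfsgLib.SL23.Rel I J g := by
    refine ⟨?_, ?_, ?_, ?_, ?_, ?_⟩
    · have := congrArg (fun x => ((e.symm x : Q) : G)) (q8a i)
      simpa using this
    · have := congrArg (fun x => ((e.symm x : Q) : G)) hj2
      simpa using this
    · have := congrArg (fun x => ((e.symm x : Q) : G)) hji
      simpa using this
    · exact mul_inv_eq_iff_eq_mul.mp hgI
    · exact mul_inv_eq_iff_eq_mul.mp hgJ
    · rw [← hg3, pow_succ, pow_two]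
  set U : Subgroup G := closure {I, J, g} with hU
  have hIU : I ∈ U := subset_closure (by simp)
  have hJU : J ∈ U := subset_closure (by simp)
  have hgU : g ∈ U := subset_closure (by simp)
  have hII : I * I ≠ 1 := by
    intro h
    apply hii
    apply e.symm.injective
    apply Subtype.ext
    rw [map_mul, map_one]
    exact h
  obtain ⟨E⟩ := CfsgLib.SL23.exists_equiv (X := U) (i := ⟨I, hIU⟩) (j := ⟨J, hJU⟩) (g := ⟨g, hgU⟩)
    ⟨Subtype.ext hR.i4, Subtype.ext hR.j2, Subtype.ext hR.ji, Subtype.ext hR.gi, Subtype.ext hR.gj, Subtype.ext hR.g3⟩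
    (fun h => hII (congrArg Subtype.val h)) (by
      have h1 : closure ((Subtype.val : U → G) ⁻¹' {I, J, g}) = (⊤ : Subgroup U) := closure_closure_coe_preimage
      rw [← h1]
      congr 1
      ext x
      simp [Subtype.ext_iff])
  refine ⟨U, ?_, ⟨E⟩⟩
  have hcU : Nat.card U = 24 := by
    rw [Nat.card_congr E.toEquiv, CfsgLib.SL23.card_sl]
  have hind := Cfsg.Agent.LibNF3.index_centralizer_dvd Q e
  have hcc : Nat.card (centralizer (Q : Set G)) ≤ 2 := by
    have : ∀ x : centralizer (Q : Set G), (x : G) = 1 ∨ (x : G) = I * I := by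
      intro x
      by_cases hx : (x : G) = 1
      · exact Or.inl hx
      · right
        have hxQ : (x : G) ∈ Q := hC x.2
        have hcen : ∀ y : QuaternionGroup 2, (∀ z : QuaternionGroup 2, z * y = y * z) → y ≠ 1 → ∀ i : QuaternionGroup 2, i * i ≠ 1 → y = i * i := by
          decide
        have h1 := hcen (e ⟨x, hxQ⟩) (by
          intro z
          have := mem_centralizer_iff.mp x.2 (e.symm z : Q) (e.symm z).2
          have h3 : e.symm z * ⟨x, hxQ⟩ = ⟨x, hxQ⟩ * e.symm z := Subtype.ext this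
          have h4 := congrArg e h3
          rw [map_mul, map_mul, e.apply_symm_apply] at h4
          exact h4) (by
          intro h
          apply hx
          have := e.injective (h.trans (map_one e).symm)
          exact congrArg Subtype.val this) i hii
        have h2 := congrArg (fun x => ((e.symm x : Q) : G)) h1
        simpa using h2
    classical
    have hinj : Function.Injective (fun x : centralizer (Q : Set G) => decide ((x : G) = 1)) := by
      intro x y hxy
      apply Subtype.ext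
      simp only [decide_eq_decide] at hxy
      rcases this x with h | h <;> rcases this y with h' | h'
      · rw [h, h']
      · rw [h, hxy.mp h]
      · rw [h', hxy.mpr h']
      · rw [h, h']
    have := Nat.card_le_card_of_injective _ hinj
    simpa using this
  have hcG : Nat.card G ≤ 48 := by
    rw [← (centralizer (Q : Set G)).index_mul_card]
    calc _ ≤ 24 * 2 := Nat.mul_le_mul (Nat.le_of_dvd (by norm_num) hind) hcc
      _ = 48 := rfl
  have hUG := U.index_mul_card
  rw [hcU] at hUG
  have h5 : U.index ≤ 2 := by omega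
  have h6 : U.index ≠ 0 := U.index_ne_zero_of_finite
  rcases (show U.index = 1 ∨ U.index = 2 by omega) with h | h
  · rw [index_eq_one.mp h]; infer_instance
  · exact normal_of_index_eq_two h

theorem cyc_ind {T : Type*} [Group T] [Finite T] (Q : Subgroup T) (x : T) [(zpowers x).Normal] (hx : (zpowers x).index = 2)
    (n : ℕ) (e : Q ≃* Multiplicative (Fin 2 → ZMod (2 ^ n))) : n ≤ 1 := by
  have hcQ : Nat.card Q = 2 ^ n * 2 ^ n := by
    rw [Nat.card_congr e.toEquiv]
    have : Nat.card (Fin 2 → ZMod (2 ^ n)) = 2 ^ n * 2 ^ n := by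
      rw [Nat.card_fun, Nat.card_zmod, Nat.card_fin]; ring
    exact this
  have h1 : (zpowers x ⊓ Q).relIndex Q ≤ 2 := by
    rw [inf_relIndex_right]
    rw [← hx]
    exact Nat.le_of_dvd (by rw [hx]; norm_num) (relIndex_dvd_index_of_normal _ _)
  have h2 : Nat.card (zpowers x ⊓ Q : Subgroup T) ≤ 2 ^ n := by
    have hcyc : IsCyclic (zpowers x ⊓ Q : Subgroup T) := by
      refine isCyclic_of_injective (Subgroup.inclusion (inf_le_left : zpowers x ⊓ Q ≤ zpowers x)) (Subgroup.inclusion_injective _)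
    obtain ⟨y, hy⟩ := hcyc.exists_generator
    have h3 : orderOf y = Nat.card (zpowers x ⊓ Q : Subgroup T) := orderOf_eq_card_of_forall_mem_zpowers hy
    rw [← h3]
    apply orderOf_le_of_pow_eq_one (by positivity)
    apply Subtype.ext
    have hyQ : (y : T) ∈ Q := y.2.2
    have h4 : (⟨(y : T), hyQ⟩ : Q) ^ (2 ^ n) = 1 := by
      apply e.injective
      rw [map_pow, map_one]
      apply Multiplicative.toAdd.injective
      rw [toAdd_pow, toAdd_one]
      funext i
      simp
    have h5 := congrArg Subtype.val h4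
    rw [SubmonoidClass.coe_pow] at h5
    rw [SubmonoidClass.coe_pow]
    exact h5
  have h3 := Subgroup.relIndex_mul_relIndex (⊥ : Subgroup T) (zpowers x ⊓ Q) Q bot_le inf_le_right
  rw [relIndex_bot_left, relIndex_bot_left] at h3
  by_contra hn
  have h4 : 2 ^ n * 2 ^ n ≤ 2 ^ n * 2 := by
    rw [← hcQ, ← h3]
    exact Nat.mul_le_mul h2 h1
  have h5 : 2 ^ n ≤ 2 := Nat.le_of_mul_le_mul_left h4 (by positivity)
  have h6 : 2 ^ 2 ≤ 2 ^ n := Nat.pow_le_pow_right (by norm_num) (by omega)
  omega

theorem tst {T : Type*} [Group T] [Finite T] (hT : (∃ n : ℕ, 4 ≤ n ∧ Nonempty (T ≃* DihedralGroup n)) ∨ Cfsg.IsQuasiDihedral T) :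
    8 ≤ Nat.card T ∧ ∃ x : T, (zpowers x).index = 2 := by
  rcases hT with ⟨n, hn, ⟨e⟩⟩ | ⟨n, hn, hc, x, y, hx, -, -⟩
  · haveI : NeZero n := ⟨by omega⟩
    have h1 : Nat.card T = 2 * n := by rw [Nat.card_congr e.toEquiv, DihedralGroup.nat_card]
    refine ⟨by omega, e.symm (DihedralGroup.r 1), ?_⟩
    have h2 : Nat.card (zpowers (e.symm (DihedralGroup.r 1))) = n := by
      rw [Nat.card_zpowers, MulEquiv.orderOf_eq, DihedralGroup.orderOf_r_one]
    have h3 := (zpowers (e.symm (DihedralGroup.r 1 : DihedralGroup n))).index_mul_card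
    rw [h2, h1] at h3
    exact Nat.eq_of_mul_eq_mul_right (by omega) h3
  · have h0 : 2 ^ 3 ≤ 2 ^ n := Nat.pow_le_pow_right (by norm_num) hn
    refine ⟨by rw [hc, pow_succ]; omega, x, ?_⟩
    have h2 : Nat.card (zpowers x) = 2 ^ n := by rw [Nat.card_zpowers, hx]
    have h3 := (zpowers x).index_mul_card
    rw [h2, hc, pow_succ'] at h3
    exact Nat.eq_of_mul_eq_mul_right (by positivity) h3


/-- Let G be a finite solvable group with O(G) = 1 whose Sylow 2-subgroup T is dihedral of order at least 8 or semidihedral, with G ≠ T and Z(T) normal in G. Then G has a normal subgroup isomorphic to SL₂(3). -/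
theorem result {G : Type*} [Group G] [Finite G] (hsol : IsSolvable G) (hO : Cfsg.oddCore G = ⊥) (T : Sylow 2 G) (hT : (∃ n : ℕ, 4 ≤ n ∧ Nonempty (↥(T : Subgroup G) ≃* DihedralGroup n)) ∨ Cfsg.IsQuasiDihedral ↥(T : Subgroup G)) (hne : (T : Subgroup G) ≠ ⊤) (hZ : ((T : Subgroup G) ⊓ Subgroup.centralizer ((T : Subgroup G) : Set G)).Normal) : ∃ U : Subgroup G, U.Normal ∧ Nonempty (↥U ≃* Matrix.SpecialLinearGroup (Fin 2) (ZMod 3)) := by
  classical
  haveI : Fact (Nat.Prime 2) := ⟨Nat.prime_two⟩
  set Q : Subgroup G := Cfsg.pCore 2 G with hQdef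
  have hC : centralizer (Q : Set G) ≤ Q :=
    CfsgLib.PSolv19.hall_higman (CfsgLib.PSolv19.psolv_of_solvable _ rfl hsol) hO
  have hQT : Q ≤ T := CfsgLib.Cores.pCore_le_sylow T
  have hQ2 : IsPGroup 2 Q := T.2.to_le hQT
  obtain ⟨hT8, x, hx⟩ := tst hT
  haveI hxn : (zpowers x).Normal := normal_of_index_eq_two hx
  have hmet : Cfsg.IsMetacyclic (T : Subgroup G) := by
    refine ⟨zpowers x, hxn, inferInstance, ?_⟩
    apply isCyclic_of_prime_card (p := 2)
    rw [← index_eq_card, hx]
  have hmQ : Cfsg.IsMetacyclic Q :=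
    CfsgLib.Fus21.metac_equiv (subgroupOfEquivOfLe hQT) (CfsgLib.Fus21.metac_subgroup hmet (Q.subgroupOf T))
  -- odd element
  obtain ⟨p, hp, hp2, g, hg⟩ : ∃ p : ℕ, p.Prime ∧ p ≠ 2 ∧ ∃ g : G, orderOf g = p := by
    have h1 : (T : Subgroup G).index ≠ 1 := fun h => hne (index_eq_one.mp h)
    obtain ⟨p, hp, hpd⟩ := Nat.exists_prime_and_dvd h1
    refine ⟨p, hp, ?_, ?_⟩
    · rintro rfl
      exact T.not_dvd_index hpd
    · haveI := Fact.mk hp
      exact exists_prime_orderOf_dvd_card' p (hpd.trans (index_dvd_card _))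
  have hgodd : Odd (orderOf g) := by
    rw [hg]; exact hp.odd_of_ne_two hp2
  have hgQ : g ∉ Q := by
    intro h
    obtain ⟨k, hk⟩ := hQ2 ⟨g, h⟩
    have h1 : g ^ 2 ^ k = 1 := congrArg Subtype.val hk
    have h2 := orderOf_dvd_of_pow_eq_one h1
    rw [hg] at h2
    exact hp2 ((Nat.prime_dvd_prime_iff_eq hp Nat.prime_two).mp (hp.dvd_of_dvd_pow h2))
  have hgC : g ∉ centralizer (Q : Set G) := fun h => hgQ (hC h)
  rcases CfsgLib.Mc8.metac_odd8 (R := Q) hQ2 hmQ (ρ := MulAut.conjNormal g) (m := orderOf g) hgodd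
    (by rw [← map_pow, pow_orderOf_eq_one, map_one]) (by
      intro h
      apply hgC
      rw [mem_centralizer_iff]
      intro q hq
      have h1 := congrArg (fun f : MulAut Q => ((f ⟨q, hq⟩ : Q) : G)) h
      simp only [MulAut.conjNormal_apply, MulAut.one_apply] at h1
      exact (mul_inv_eq_iff_eq_mul.mp h1).symm) with ⟨⟨e⟩⟩ | ⟨n, ⟨e⟩⟩
  · apply key Q e hC g
    rw [hg]
    have hind := Cfsg.Agent.LibNF3.index_centralizer_dvd Q e
    have hpd : p ∣ Nat.card G := by rw [← hg]; exact orderOf_dvd_natCard g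
    rw [← (centralizer (Q : Set G)).index_mul_card] at hpd
    have h24 : p ∣ 24 := by
      rcases (Nat.Prime.dvd_mul hp).mp hpd with h | h
      · exact h.trans hind
      · exfalso
        obtain ⟨k, hk⟩ := (hQ2.to_le hC).exists_card_eq
        rw [hk] at h
        exact hp2 ((Nat.prime_dvd_prime_iff_eq hp Nat.prime_two).mp (hp.dvd_of_dvd_pow h))
    have h38 : p ∣ 2 ^ 3 * 3 := h24
    rcases (Nat.Prime.dvd_mul hp).mp h38 with h | h
    · exact absurd ((Nat.prime_dvd_prime_iff_eq hp Nat.prime_two).mp (hp.dvd_of_dvd_pow h)) hp2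
    · exact (Nat.prime_dvd_prime_iff_eq hp Nat.prime_three).mp h
  · exfalso
    have hn := cyc_ind (Q.subgroupOf T) x hx n ((subgroupOfEquivOfLe hQT).trans e)
    have hcQ : Nat.card Q = 2 ^ n * 2 ^ n := by
      rw [Nat.card_congr e.toEquiv]
      have : Nat.card (Fin 2 → ZMod (2 ^ n)) = 2 ^ n * 2 ^ n := by
        rw [Nat.card_fun, Nat.card_zmod, Nat.card_fin]; ring
      exact this
    have hTC : ¬ (T : Subgroup G) ≤ centralizer (Q : Set G) := by
      intro h
      have h1 := card_le_of_le (h.trans hC)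
      rw [hcQ] at h1
      have h2 : 2 ^ n ≤ 2 ^ 1 := Nat.pow_le_pow_right (by norm_num) hn
      have h3 : 2 ^ n * 2 ^ n ≤ 2 * 2 := Nat.mul_le_mul h2 h2
      omega
    set Z : Subgroup G := (T : Subgroup G) ⊓ centralizer ((T : Subgroup G) : Set G) with hZdef
    have hZQ : Z ≤ Q := by
      intro y hy
      apply hC
      exact centralizer_le (show (Q : Set G) ⊆ (T : Subgroup G) from hQT) hy.2
    have hZne : Z ≠ ⊥ := by
      intro h
      haveI : Nontrivial (T : Subgroup G) := Finite.one_lt_card_iff_nontrivial.mp (by omega)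
      have h1 := T.2.center_nontrivial
      obtain ⟨⟨y, hy⟩, hy1⟩ := exists_ne (1 : center (T : Subgroup G))
      apply hy1
      have h2 : (y : G) ∈ Z := ⟨y.2, mem_centralizer_iff.mpr fun t ht => by
        have := mem_center_iff.mp hy ⟨t, ht⟩
        exact congrArg Subtype.val this⟩
      rw [h, mem_bot] at h2
      exact Subtype.ext (Subtype.ext h2)
    have hZneQ : Z ≠ Q := by
      intro h
      apply hTC
      rw [le_centralizer_iff, ← h]
      exact inf_le_right
    have hn1 : n = 1 := by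
      rcases Nat.lt_or_ge n 1 with h | h
      · exfalso
        apply hZne
        have : Nat.card Q = 1 := by rw [hcQ, show n = 0 by omega]; norm_num
        rw [eq_bot_iff, ← (card_eq_one.mp this)]
        exact hZQ
      · omega
    rw [hn1] at hcQ
    have hQr : Z.relIndex Q * Nat.card Z = 4 := by
      have := relIndex_mul_relIndex (⊥ : Subgroup G) Z Q bot_le hZQ
      rw [relIndex_bot_left, relIndex_bot_left, hcQ] at this
      rw [mul_comm, this]; norm_num
    have hZ1 : Nat.card Z ≠ 1 := fun h => hZne (card_eq_one.mp h)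
    have hZ4 : Z.relIndex Q ≠ 1 := fun h => hZneQ (le_antisymm hZQ (relIndex_eq_one.mp h))
    have hZ0 : 0 < Nat.card Z := Nat.card_pos
    have hr0 : Z.relIndex Q ≠ 0 := by
      intro h
      rw [h] at hQr
      omega
    have hZc : Nat.card Z = 2 ∧ Z.relIndex Q = 2 := by
      have h1 : Nat.card Z ∣ 4 := ⟨Z.relIndex Q, by rw [← hQr]; ring⟩
      have h2 : Nat.card Z ≤ 4 := Nat.le_of_dvd (by norm_num) h1
      interval_cases h : Nat.card Z
      · omega
      · exact ⟨rfl, by omega⟩
      · omega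
      · omega
    obtain ⟨z, hz1⟩ := Subgroup.ne_bot_iff_exists_ne_one.mp hZne
    have hzmem : ∀ y ∈ Z, y = 1 ∨ y = z := by
      intro y hy
      by_contra hcon
      push Not at hcon
      have h1 : ({(1 : Z), z, ⟨y, hy⟩} : Finset Z).card = 3 := by
        rw [Finset.card_eq_three]
        exact ⟨_, _, _, hz1.symm, fun h => hcon.1 (congrArg Subtype.val h).symm, fun h => hcon.2 (congrArg Subtype.val h).symm, rfl⟩
      have h2 := Nat.card_mono (Set.toFinite (Set.univ : Set Z)) (Set.subset_univ (({(1 : Z), z, ⟨y, hy⟩} : Finset Z) : Set Z))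
      rw [Nat.card_univ, hZc.1] at h2
      have h3 : Nat.card (({(1 : Z), z, ⟨y, hy⟩} : Finset Z) : Set Z) = 3 := by
        rw [Nat.card_coe_set_eq, Set.ncard_coe_finset, h1]
      omega
    have hzz : (z : G) * z = 1 := by
      rcases hzmem _ (mul_mem z.2 z.2) with h | h
      · exact h
      · exact absurd (Subtype.ext (mul_eq_left.mp h)) hz1
    have hgz : g * z = z * g := by
      have h1 : g * z * g⁻¹ ∈ Z := hZ.conj_mem z z.2 g
      rcases hzmem _ h1 with h | h
      · exfalso
        apply hz1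
        apply Subtype.ext
        have := mul_inv_eq_iff_eq_mul.mp h
        rw [one_mul] at this
        exact mul_eq_left.mp this
      · exact mul_inv_eq_iff_eq_mul.mp h
    apply hgC
    rw [mem_centralizer_iff]
    intro q hq
    symm
    by_cases hqZ : q ∈ Z
    · rcases hzmem q hqZ with rfl | rfl
      · rw [mul_one, one_mul]
      · exact hgz
    · apply CfsgLib.Q8.odd_fix hgodd hgz hzz
      have hgq : g * q * g⁻¹ ∈ Q := Subgroup.Normal.conj_mem inferInstance q hq g
      have hgq' : g * q * g⁻¹ ∉ Z := by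
        intro h
        apply hqZ
        have := hZ.conj_mem _ h g⁻¹
        simpa [mul_assoc] using this
      have h2 : (Z.subgroupOf Q).index = 2 := hZc.2
      have h3 := (mul_mem_iff_of_index_two h2 (a := (⟨q, hq⟩ : Q)⁻¹) (b := ⟨g * q * g⁻¹, hgq⟩)).mpr (by
        rw [inv_mem_iff, mem_subgroupOf, mem_subgroupOf]
        exact iff_of_false hqZ hgq')
      have h4 : q⁻¹ * (g * q * g⁻¹) ∈ Z := mem_subgroupOf.mp h3
      rcases hzmem _ h4 with h | h
      · left
        exact (inv_mul_eq_one.mp h).symm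
      · right
        rw [← h]; group

end Cfsg.Agent.S2879
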