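import Cfsg.Agent.LibGL23A
import Cfsg.Agent.LibGL23C
import Cfsg.Agent.S2879
import Cfsg.Agent.LibPCyc2
import Mathlib

/-! Groups of order 48 with `O₂ ≅ Q₈` -/

set_option autoImplicit false
set_option maxHeartbeats 800000

namespace CfsgLib.GL23

open Subgroup CfsgLib.SL23 QuaternionGroup CfsgLib.H6Zas

theorem d_b3 : ∀ x : QuaternionGroup 2, b0 (b0 (b0 x)) = x := by decide +kernel
theorem d_cen : ∀ x : QuaternionGroup 2, (∀ y, y * x = x * y) → x = 1 ∨ x = a 2 := by decide +kernel
theorem d_a2c : ∀ y : QuaternionGroup 2, y * a 2 = a 2 * y := by decide +kernel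
theorem d_inv2 : ∀ x : QuaternionGroup 2, x * x = 1 → x = 1 ∨ x = a 2 := by decide +kernel
theorem d_nab : (a 1 : QuaternionGroup 2) * xa 0 ≠ xa 0 * a 1 := by decide +kernel

section
variable {X : Type*} [Group X] {Q : Subgroup X} [hQ : Q.Normal]

/-- action on the quaternion group -/
noncomputable def act (e : Q ≃* QuaternionGroup 2) : X →* MulAut (QuaternionGroup 2) :=
  (MulAut.congr e).toMonoidHom.comp MulAut.conjNormal

theorem act_symm (e : Q ≃* QuaternionGroup 2) (h : X) (x : QuaternionGroup 2) :
    ((e.symm (act e h x) : Q) : X) = h * (e.symm x : Q) * h⁻¹ := by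
  have : act e h x = e (MulAut.conjNormal h (e.symm x)) := rfl
  rw [this, e.symm_apply_apply, MulAut.conjNormal_apply]

theorem act_Q (e : Q ≃* QuaternionGroup 2) (q x : QuaternionGroup 2) :
    act e ((e.symm q : Q) : X) x = q * x * q⁻¹ := by
  apply e.symm.injective
  apply Subtype.ext
  rw [act_symm, map_mul, map_mul, map_inv]; rfl

theorem act_one_iff (e : Q ≃* QuaternionGroup 2) (h : X) : act e h = 1 ↔ h ∈ centralizer (Q : Set X) := by
  rw [mem_centralizer_iff]
  constructor
  · intro hh q hq
    have h1 := act_symm e h (e ⟨q, hq⟩)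
    rw [hh, MulAut.one_apply, e.symm_apply_apply] at h1
    exact (mul_inv_eq_iff_eq_mul.mp h1.symm).symm
  · intro hh
    apply MulEquiv.ext
    intro x
    apply e.symm.injective
    apply Subtype.ext
    rw [act_symm, MulAut.one_apply, ← hh _ (e.symm x).2, mul_inv_cancel_right]

theorem mem_cases (e : Q ≃* QuaternionGroup 2) (hC : centralizer (Q : Set X) ≤ Q) {c : X}
    (hc : c ∈ centralizer (Q : Set X)) : c = 1 ∨ c = ((e.symm (a 2) : Q) : X) := by
  have h1 := d_cen (e ⟨c, hC hc⟩) (by
    intro y
    have h2 := mem_centralizer_iff.1 hc (e.symm y : Q) (e.symm y).2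
    have h3 : e.symm y * ⟨c, hC hc⟩ = ⟨c, hC hc⟩ * e.symm y := Subtype.ext h2
    have h4 := congrArg e h3
    rw [map_mul, map_mul, e.apply_symm_apply] at h4
    exact h4)
  rcases h1 with h | h
  · left
    exact congrArg Subtype.val (e.injective (h.trans (map_one e).symm))
  · right
    rw [← h, e.symm_apply_apply]

theorem std (e : Q ≃* QuaternionGroup 2) {g : X} (hg3 : g ^ 3 = 1) (hgC : g ∉ centralizer (Q : Set X)) :
    ∃ e' : Q ≃* QuaternionGroup 2, ∀ x, act e' g x = b0 x := by
  set β : QuaternionGroup 2 ≃* QuaternionGroup 2 := act e g with hβ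
  have hβ3 : ∀ x, β (β (β x)) = x := by
    intro x
    have h1 : (act e g) ^ 3 = 1 := by rw [← map_pow, hg3, map_one]
    have h2 : ((act e g) ^ 3) x = x := by rw [h1]; rfl
    exact h2
  obtain ⟨i, hii, hi1, hi2, hjj, hk⟩ := Cfsg.Agent.S2879.abs β hβ3 (by
    by_contra hcon
    push Not at hcon
    apply hgC
    rw [← act_one_iff e]
    exact MulEquiv.ext hcon)
  obtain ⟨d1, d2, d3, d4⟩ := d_hom i (β i) hii hjj hi1 hi2
  let γ0 : QuaternionGroup 2 →* QuaternionGroup 2 := MonoidHom.mk' (Eq8 i (β i)) d1
  let γ : QuaternionGroup 2 ≃* QuaternionGroup 2 :=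
    MulEquiv.ofBijective γ0 (Finite.injective_iff_bijective.1 (fun x y h => d2 x y h))
  have hγ : ∀ x, γ x = Eq8 i (β i) x := fun x => rfl
  refine ⟨e.trans γ.symm, fun x => ?_⟩
  have h1 : ∀ x, act (e.trans γ.symm) g x = γ.symm (β (γ x)) := fun x => rfl
  have h2 : act (e.trans γ.symm) g (a 1) = xa 0 := by
    rw [h1, hγ, d3]
    apply γ.injective
    rw [γ.apply_symm_apply, hγ, d4]
  have h3 : act (e.trans γ.symm) g (xa 0) = a 1 * xa 0 := by
    rw [h1, hγ, d4]
    apply γ.injective
    rw [γ.apply_symm_apply, hk, hγ, d1, d3, d4]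
  rw [eq8_apply (act (e.trans γ.symm) g) x, h2, h3]
  rfl

theorem core [Finite X] (e0 : Q ≃* QuaternionGroup 2) (hC : centralizer (Q : Set X) ≤ Q) (hcard : Nat.card X = 48) :
    Nonempty (X ≃* GL (Fin 2) (ZMod 3)) ∨ (Nat.card (center X) = 2 ∧
      Nonempty (X ⧸ center X ≃* Equiv.Perm (Fin 4)) ∧
      ∀ P : Sylow 2 X, Nonempty (↥(P : Subgroup X) ≃* QuaternionGroup 4)) := by
  haveI : Fact (Nat.Prime 2) := ⟨Nat.prime_two⟩
  haveI : Fact (Nat.Prime 3) := ⟨Nat.prime_three⟩
  have hQ8 : Nat.card Q = 8 := by
    rw [Nat.card_congr e0.toEquiv, Nat.card_eq_fintype_card, QuaternionGroup.card]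
  obtain ⟨g, hg⟩ := exists_prime_orderOf_dvd_card' (G := X) 3 (by rw [hcard]; norm_num)
  have hg3 : g ^ 3 = 1 := by rw [← hg, pow_orderOf_eq_one]
  have hgQ : ∀ k : ℤ, g ^ k ∈ Q → g ^ k = 1 := by
    intro k hk
    have h1 : orderOf (⟨g ^ k, hk⟩ : Q) ∣ Nat.card Q := orderOf_dvd_natCard _
    rw [Subgroup.orderOf_mk, hQ8] at h1
    have h2 : orderOf (g ^ k) ∣ 3 := by
      apply orderOf_dvd_of_pow_eq_one
      rw [← zpow_natCast, ← zpow_mul, mul_comm, zpow_mul, zpow_natCast, hg3, one_zpow]
    have h3 := Nat.dvd_gcd h1 h2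
    norm_num at h3
    exact h3
  have hg2 : ∀ k : ℤ, g ^ k * g ^ k ∈ Q → g ^ k = 1 := by
    intro k hk
    rw [← zpow_add] at hk
    have h1 := hgQ _ hk
    have h2 : g ^ (k + k + k) = 1 := by
      have : k + k + k = 3 * k := by ring
      rw [this, zpow_mul]
      have h3 : g ^ (3 : ℤ) = 1 := by exact_mod_cast hg3
      rw [h3, one_zpow]
    rw [zpow_add, h1, one_mul] at h2
    exact h2
  have hg1 : g ≠ 1 := by rintro rfl; rw [orderOf_one] at hg; omega
  have hgC : g ∉ centralizer (Q : Set X) := by
    intro h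
    have := hgQ 1 (by rw [zpow_one]; exact hC h)
    rw [zpow_one] at this
    exact hg1 this
  obtain ⟨e, he⟩ := std e0 hg3 hgC
  set z : X := ((e.symm (a 2) : Q) : X) with hz
  have hz1 : z ≠ 1 := by
    intro h
    have h1 : e.symm (a 2) = 1 := Subtype.ext h
    have h2 : (a 2 : QuaternionGroup 2) = 1 := by
      apply e.symm.injective; rw [h1, map_one]
    exact q8_a2.2 h2
  have hz2 : z * z = 1 := by
    have : e.symm (a 2) * e.symm (a 2) = 1 := by rw [← map_mul, q8_a2.1, map_one]
    exact congrArg Subtype.val this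
  have hinQ : ∀ t : X, t ∈ Q → t * t = 1 → t = 1 ∨ t = z := by
    intro t ht htt
    have h1 : e ⟨t, ht⟩ * e ⟨t, ht⟩ = 1 := by
      rw [← map_mul]
      have : (⟨t, ht⟩ : Q) * ⟨t, ht⟩ = 1 := Subtype.ext htt
      rw [this, map_one]
    rcases d_inv2 _ h1 with h | h
    · left; exact congrArg Subtype.val (e.injective (h.trans (map_one e).symm))
    · right; rw [hz, ← h, e.symm_apply_apply]
  have hzcen : ∀ h : X, h * z * h⁻¹ = z := by
    intro h
    rw [hz, ← act_symm]
    congr 2
    apply q8_sq
    · rw [← map_mul, q8_a2.1, map_one]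
    · intro h1
      exact q8_a2.2 ((act e h).injective (h1.trans (map_one _).symm))
  have hact : ∀ h : X, (∀ x y, Eq8 (act e h (a 1)) (act e h (xa 0)) x = Eq8 (act e h (a 1)) (act e h (xa 0)) y → x = y) ∧
      (∀ x y, Eq8 (act e h (a 1)) (act e h (xa 0)) (x * y) = Eq8 (act e h (a 1)) (act e h (xa 0)) x *
        Eq8 (act e h (a 1)) (act e h (xa 0)) y) := by
    intro h
    constructor
    · intro x y hxy
      rw [← eq8_apply, ← eq8_apply] at hxy
      exact (act e h).injective hxy
    · intro x y
      rw [← eq8_apply, ← eq8_apply, ← eq8_apply, map_mul]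
  have hact1 : ∀ h : X, (∀ x, act e h x = x) → h ∈ centralizer (Q : Set X) := by
    intro h hh
    rw [← act_one_iff e]
    exact MulEquiv.ext hh
  have hgi : ∀ x, act e g⁻¹ x = b0 (b0 x) := by
    intro x
    apply (act e g).injective
    have h1 : act e g (act e g⁻¹ x) = x := by
      rw [← MulAut.mul_apply, ← map_mul, mul_inv_cancel, map_one]; rfl
    rw [h1, he, d_b3]
  -- an element acting like a power of `g` is in `Q⟨g⟩`
  have hpow : ∀ h : X, ((∀ x, act e h x = x) ∨ (∀ x, act e h x = b0 x) ∨ (∀ x, act e h x = b0 (b0 x))) →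
      ∃ k : ℤ, ∃ c ∈ Q, h = g ^ k * c := by
    intro h hh
    rcases hh with hh | hh | hh
    · exact ⟨0, h, hC (hact1 h hh), by rw [zpow_zero, one_mul]⟩
    · refine ⟨1, g⁻¹ * h, hC (hact1 _ ?_), by rw [zpow_one, mul_inv_cancel_left]⟩
      intro x
      rw [map_mul, MulAut.mul_apply, hh, hgi, d_b3]
    · refine ⟨-1, g * h, hC (hact1 _ ?_), by rw [zpow_neg_one, inv_mul_cancel_left]⟩
      intro x
      rw [map_mul, MulAut.mul_apply, hh, he, d_b3]
  have hmod : ∀ (k : ℤ) (c : X), c ∈ Q → (g ^ k * c) * (g ^ k * c) ∈ Q → g ^ k = 1 := by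
    intro k c hc h
    apply hg2
    have h1 : g ^ k * g ^ k = (g ^ k * c) * (g ^ k * c) * (c⁻¹ * ((g ^ k)⁻¹ * c⁻¹ * g ^ k)) := by group
    rw [h1]
    refine Q.mul_mem h (Q.mul_mem (Q.inv_mem hc) ?_)
    have := hQ.conj_mem c⁻¹ (Q.inv_mem hc) (g ^ k)⁻¹
    rwa [inv_inv] at this
  by_cases hinv : ∃ t : X, t * t = 1 ∧ t ∉ Q
  · left
    obtain ⟨t, htt, htQ⟩ := hinv
    obtain ⟨hi, hh⟩ := hact t
    obtain ⟨q, hq⟩ := d_frat _ _ hi hh
    set s : X := ((e.symm q : Q) : X)⁻¹ * t with hs
    have hts : t = ((e.symm q : Q) : X) * s := by rw [hs, mul_inv_cancel_left]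
    have hsact : ∀ x, act e s x = q⁻¹ * act e t x * q := by
      intro x
      rw [hs, map_mul, MulAut.mul_apply]
      have h1 : ((e.symm q : Q) : X)⁻¹ = ((e.symm q⁻¹ : Q) : X) := by rw [map_inv]; rfl
      rw [h1, act_Q, inv_inv]
    have hsQ : s ∉ Q := by
      intro h
      apply htQ
      rw [hts]
      exact Q.mul_mem (e.symm q).2 h
    have hssQ : s * s ∈ Q := by
      have h1 : s * s = ((e.symm q : Q) : X)⁻¹ * (t * ((e.symm q : Q) : X)⁻¹ * t⁻¹) * (t * t) := by
        rw [hs]; group
      rw [h1, htt, mul_one]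
      exact Q.mul_mem (Q.inv_mem (e.symm q).2) (hQ.conj_mem _ (Q.inv_mem (e.symm q).2) t)
    obtain ⟨hsi, hsh⟩ := hact s
    have hcase2 : ∀ x, act e s (b0 x) = b0 (b0 (act e s x)) := by
      rcases hq with hq | hq
      · exfalso
        have h1 : ∀ x, Eq8 (act e s (a 1)) (act e s (xa 0)) (b0 x) = b0 (Eq8 (act e s (a 1)) (act e s (xa 0)) x) := by
          intro x
          rw [← eq8_apply, ← eq8_apply, hsact, hsact]
          have := hq x
          rw [← eq8_apply, ← eq8_apply] at this
          exact this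
        have h2 := d_comm _ _ hsi hsh h1
        simp only [← eq8_apply] at h2
        obtain ⟨k, c, hc, hk⟩ := hpow s h2
        have h3 := hmod k c hc (by rw [← hk]; exact hssQ)
        apply hsQ
        rw [hk, h3, one_mul]; exact hc
      · intro x
        rw [hsact, hsact]
        have := hq x
        rw [← eq8_apply, ← eq8_apply] at this
        exact this
    -- `s²` acts trivially
    have hss1 : ∀ x, act e s (act e s x) = x := by
      have h0 : ∀ x, act e (s * s) x = act e s (act e s x) := fun x => by rw [map_mul, MulAut.mul_apply]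
      obtain ⟨hi2, hh2⟩ := hact (s * s)
      have h1 : ∀ x, Eq8 (act e (s * s) (a 1)) (act e (s * s) (xa 0)) (b0 x) =
          b0 (Eq8 (act e (s * s) (a 1)) (act e (s * s) (xa 0)) x) := by
        intro x
        rw [← eq8_apply, ← eq8_apply, h0, h0, hcase2, hcase2, hcase2, d_b3]
      have h2 := d_comm _ _ hi2 hh2 h1
      simp only [← eq8_apply] at h2
      obtain ⟨k, c, hc, hk⟩ := hpow (s * s) h2
      have h3 : g ^ k ∈ Q := by
        have : g ^ k = (s * s) * c⁻¹ := by rw [hk, mul_inv_cancel_right]
        rw [this]; exact Q.mul_mem hssQ (Q.inv_mem hc)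
      have h4 := hgQ k h3
      rcases h2 with h2 | h2 | h2
      · intro x; rw [← h0]; exact h2 x
      · exfalso
        have h5 : g⁻¹ * (s * s) ∈ Q := hC (hact1 _ (by
          intro x
          rw [map_mul, MulAut.mul_apply, h2, hgi, d_b3]))
        have h6 : g⁻¹ ∈ Q := by
          have : g⁻¹ = g⁻¹ * (s * s) * (s * s)⁻¹ := by rw [mul_inv_cancel_right]
          rw [this]; exact Q.mul_mem h5 (Q.inv_mem hssQ)
        have h7 := hgQ (-1) (by rw [zpow_neg_one]; exact h6)
        rw [zpow_neg_one, inv_eq_one] at h7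
        exact hg1 h7
      · exfalso
        have h5 : g * (s * s) ∈ Q := hC (hact1 _ (by
          intro x
          rw [map_mul, MulAut.mul_apply, h2, he, d_b3]))
        have h6 : g ∈ Q := by
          have : g = g * (s * s) * (s * s)⁻¹ := by rw [mul_inv_cancel_right]
          rw [this]; exact Q.mul_mem h5 (Q.inv_mem hssQ)
        have h7 := hgQ 1 (by rw [zpow_one]; exact h6)
        rw [zpow_one] at h7
        exact hg1 h7
    obtain ⟨⟨i, hii, hjj, hi1, hi2, hk, hsI, hsJ⟩, hqq⟩ := d_inv _ _ hsi hsh
      (by intro x; rw [← eq8_apply, ← eq8_apply]; exact hss1 x)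
      (by intro x; rw [← eq8_apply, ← eq8_apply, hcase2 x, d_b3]; exact hss1 x)
    rw [← eq8_apply] at hsI hsJ
    have hss : s * s = 1 := by
      have h1 : s * s ∈ centralizer (Q : Set X) := hact1 _ (fun x => by
        rw [map_mul, MulAut.mul_apply]; exact hss1 x)
      rcases mem_cases e hC h1 with h | h
      · exact h
      · exfalso
        apply hqq q
        rw [← eq8_apply]
        apply e.symm.injective
        apply Subtype.ext
        rw [map_mul, map_mul, map_one]
        change ((e.symm q : Q) : X) * ((e.symm (act e s q) : Q) : X) * ((e.symm (a 2) : Q) : X) = 1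
        rw [act_symm, ← h]
        calc ((e.symm q : Q) : X) * (s * ((e.symm q : Q) : X) * s⁻¹) * (s * s)
            = (((e.symm q : Q) : X) * s) * (((e.symm q : Q) : X) * s) := by group
          _ = t * t := by rw [← hts]
          _ = 1 := htt
    have hsg : s * g = g⁻¹ * s := by
      have h1 : s * g * s⁻¹ * g ∈ centralizer (Q : Set X) := hact1 _ (fun x => by
        rw [map_mul, map_mul, map_mul, MulAut.mul_apply, MulAut.mul_apply, MulAut.mul_apply]
        have hsi' : s⁻¹ = s := inv_eq_of_mul_eq_one_right hss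
        rw [hsi', he x, hcase2 x, he, d_b3]
        exact hss1 x)
      rcases mem_cases e hC h1 with h | h
      · have h2 : s * g * s⁻¹ = g⁻¹ := mul_eq_one_iff_eq_inv.1 h
        exact mul_inv_eq_iff_eq_mul.1 h2
      · exfalso
        have h2 : s * g * s⁻¹ = z * g⁻¹ := by rw [hz, ← h, mul_inv_cancel_right]
        have h3 : (s * g * s⁻¹) ^ 3 = 1 := by rw [conj_pow, hg3, mul_one, mul_inv_cancel]
        have h4 : Commute z g⁻¹ := by
          have := hzcen g⁻¹
          exact (mul_inv_eq_iff_eq_mul.1 this).symm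
        rw [h2, h4.mul_pow, inv_pow, hg3, inv_one, mul_one, pow_succ, pow_two, hz2, one_mul] at h3
        exact hz1 h3
    -- relations
    set I : X := ((e.symm i : Q) : X) with hI
    set J : X := ((e.symm (b0 i) : Q) : X) with hJ
    have hgI : g * I * g⁻¹ = J := by
      rw [hI, hJ, ← he, act_symm]
    have hgJ : g * J * g⁻¹ = I * J := by
      have : g * J * g⁻¹ = ((e.symm (b0 (b0 i)) : Q) : X) := by rw [← he (b0 i), act_symm]
      rw [this, hk, map_mul]; rfl
    obtain ⟨hj2, hji⟩ := Cfsg.Agent.S2879.q8b i (b0 i) hii hjj hi1 hi2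
    have hR : CfsgLib.SL23.Rel I J g := by
      refine ⟨?_, ?_, ?_, ?_, ?_, ?_⟩
      · have := congrArg (fun x => ((e.symm x : Q) : X)) (Cfsg.Agent.S2879.q8a i)
        simpa using this
      · have := congrArg (fun x => ((e.symm x : Q) : X)) hj2
        simpa using this
      · have := congrArg (fun x => ((e.symm x : Q) : X)) hji
        simpa using this
      · exact mul_inv_eq_iff_eq_mul.mp hgI
      · exact mul_inv_eq_iff_eq_mul.mp hgJ
      · rw [← hg3, pow_succ, pow_two]
    have hII : I * I ≠ 1 := by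
      intro h
      apply hii
      apply e.symm.injective
      apply Subtype.ext
      rw [map_mul, map_one]
      exact h
    refine exists_equiv_gl hcard (i := I) (j := J) (g := g) (t := s) ⟨hR, hss, ?_, ?_, hsg⟩ hII ?_
    · apply mul_inv_eq_iff_eq_mul.1
      rw [hI, ← act_symm, hsI, map_inv]; rfl
    · apply mul_inv_eq_iff_eq_mul.1
      rw [hJ, ← act_symm, hsJ, map_inv, map_mul]; rfl
    · intro hmem
      have hle : closure ({I, J, g} : Set X) ≤ zpowers g ⊔ Q := by
        rw [closure_le]
        rintro x (rfl | rfl | rfl)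
        · exact le_sup_right (a := zpowers g) (e.symm i).2
        · exact le_sup_right (a := zpowers g) (e.symm (b0 i)).2
        · exact le_sup_left (a := zpowers x) (mem_zpowers x)
      have h1 := hle hmem
      rw [Subgroup.mem_sup_of_normal_right] at h1
      obtain ⟨_, ⟨k, rfl⟩, c, hc, h2⟩ := h1
      have h2' : g ^ k * c = s := h2
      have h3 := hmod k c hc (by rw [h2']; exact hssQ)
      apply hsQ
      rw [← h2', h3, one_mul]; exact hc
  · right
    push Not at hinv
    have hcen : center X = centralizer (Q : Set X) := by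
      apply le_antisymm
      · intro c hc
        rw [mem_centralizer_iff]
        intro q _
        exact mem_center_iff.1 hc q
      · intro c hc
        rw [mem_center_iff]
        intro h
        rcases mem_cases e hC hc with h1 | h1
        · rw [h1, mul_one, one_mul]
        · rw [h1]
          exact mul_inv_eq_iff_eq_mul.1 (hzcen h)
    have hzC : z ∈ centralizer (Q : Set X) := by
      rw [← hcen, mem_center_iff]
      intro h
      exact mul_inv_eq_iff_eq_mul.1 (hzcen h)
    have hcc : Nat.card (center X) = 2 := by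
      rw [hcen]
      have h1 : ((centralizer (Q : Set X) : Subgroup X) : Set X) = {1, z} := by
        ext x
        constructor
        · intro hx; exact mem_cases e hC hx
        · rintro (rfl | rfl)
          · exact one_mem _
          · exact hzC
      have h2 : Nat.card (centralizer (Q : Set X)) = Set.ncard ((centralizer (Q : Set X) : Subgroup X) : Set X) := rfl
      rw [h2, h1, Set.ncard_pair hz1.symm]
    refine ⟨hcc, ?_, ?_⟩
    · obtain ⟨F, hF⟩ := aut_q8_perm
      set Θ : X →* Equiv.Perm (Fin 4) := F.comp (act e) with hΘ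
      have hker : Θ.ker = center X := by
        rw [hcen]
        ext x
        rw [MonoidHom.mem_ker, ← act_one_iff e]
        constructor
        · intro h; exact hF (h.trans (map_one F).symm)
        · intro h; change F (act e x) = 1; rw [h, map_one]
      have hsurj : Function.Surjective Θ := by
        rw [← MonoidHom.range_eq_top]
        apply Subgroup.eq_top_of_card_eq
        have h1 := Θ.ker.card_mul_index
        rw [Subgroup.index_ker, hker, hcc, hcard] at h1
        have h2 : Nat.card (Equiv.Perm (Fin 4)) = 24 := by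
          rw [Nat.card_eq_fintype_card, Fintype.card_perm]; rfl
        rw [h2]
        omega
      exact ⟨(QuotientGroup.quotientMulEquivOfEq hker.symm).trans (QuotientGroup.quotientKerEquivOfSurjective Θ hsurj)⟩
    · intro P
      have hPc : Nat.card P = 16 := by
        rw [P.card_eq_multiplicity, hcard]
        have : (48 : ℕ).factorization 2 = 4 := by
          have h1 : (48 : ℕ) = 2 ^ 4 * 3 := by norm_num
          rw [h1, Nat.factorization_mul (by norm_num) (by norm_num), Nat.Prime.factorization_pow Nat.prime_two]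
          simp [Nat.factorization_eq_zero_of_not_dvd]
        rw [this]; norm_num
      have hQP : Q ≤ P := by
        have hQ2 : IsPGroup 2 Q := IsPGroup.of_card (n := 3) (by rw [hQ8]; norm_num)
        exact hQ2.le_sylow_of_normal P
      have hzP : z ∈ (P : Subgroup X) := hQP (e.symm (a 2)).2
      have huniq : ∀ H : Subgroup P, Nat.card H = 2 → H = zpowers (⟨z, hzP⟩ : P) := by
        intro H hH
        have hcz : Nat.card (zpowers (⟨z, hzP⟩ : P)) = 2 := by
          rw [Nat.card_zpowers, Subgroup.orderOf_mk]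
          exact orderOf_eq_prime (by rw [pow_two]; exact hz2) hz1
        symm
        apply Subgroup.eq_of_le_of_card_ge
        · rw [zpowers_le]
          haveI : Nontrivial H := Finite.one_lt_card_iff_nontrivial.1 (by rw [hH]; norm_num)
          obtain ⟨x, hx⟩ := exists_ne (1 : H)
          have hx2 : x * x = 1 := by
            have h9 := pow_card_eq_one' (x := x)
            rw [hH, pow_two] at h9
            exact h9
          have hx2' : (((x : P) : X)) * ((x : P) : X) = 1 := congrArg (fun y : H => ((y : P) : X)) hx2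
          rcases hinQ _ (hinv _ hx2') hx2' with h | h
          · exact absurd (Subtype.ext (Subtype.ext h)) hx
          · have : (⟨z, hzP⟩ : P) = (x : P) := Subtype.ext h.symm
            rw [this]; exact x.2
        · exact (hH.trans hcz.symm).le
      rcases CfsgLib.PCyc.cyclic_or_quaternion P.isPGroup' (fun H K hH hK => by rw [huniq H hH, huniq K hK]) with hc | ⟨n, ⟨E⟩⟩
      · exfalso
        have hcm : ∀ x y : P, x * y = y * x := by
          intro x y
          obtain ⟨w, hw⟩ := hc
          obtain ⟨k, rfl⟩ := hw x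
          obtain ⟨l, rfl⟩ := hw y
          exact (Commute.refl w).zpow_zpow k l
        apply d_nab
        apply e.symm.injective
        apply Subtype.ext
        rw [map_mul, map_mul]
        have h8 := hcm ⟨_, hQP (e.symm (a 1)).2⟩ ⟨_, hQP (e.symm (xa 0)).2⟩
        have h9 : ((e.symm (a 1) : Q) : X) * ((e.symm (xa 0) : Q) : X) =
          ((e.symm (xa 0) : Q) : X) * ((e.symm (a 1) : Q) : X) := congrArg (fun y : P => (y : X)) h8
        exact h9
      · have hn : n = 2 := by
          have h1 := Nat.card_congr E.toEquiv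
          haveI : NeZero (2 ^ n) := ⟨by positivity⟩
          rw [hPc, Nat.card_eq_fintype_card, QuaternionGroup.card] at h1
          have h2 : 2 ^ n = 2 ^ 2 := by omega
          exact Nat.pow_right_injective le_rfl h2
        subst hn
        exact ⟨E⟩

end

end CfsgLib.GL23
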