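import Cfsg.Agent.LibGL23B
import Cfsg.Agent.LibZCor2
import Cfsg.Agent.LibFus21Tv4
import Cfsg.Agent.LibMc8
import Cfsg.Agent.LibPSolv19
import Cfsg.Agent.LibNF3
import Cfsg.Agent.LibCores
import Mathlib

/-! Solvable groups whose distinct Sylow 2-subgroups meet in 2-rank at most one -/

set_option autoImplicit false
set_option maxHeartbeats 800000

namespace CfsgLib.GL23

open Subgroup Cfsg
open scoped Pointwise

theorem lift_syl {G : Type*} [Group G] [Finite G] {p : ℕ} [hp : Fact p.Prime] (O : Subgroup G) [O.Normal]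
    (P : Sylow p (G ⧸ O)) (B : Subgroup G) (hB : IsPGroup p B) (hBP : B.map (QuotientGroup.mk' O) ≤ P) :
    ∃ S : Sylow p G, B ≤ S ∧ (S : Subgroup G).map (QuotientGroup.mk' O) = P := by
  obtain ⟨S₀, hS₀⟩ := Sylow.mapSurjective_surjective (QuotientGroup.mk'_surjective O) p P
  have hS₀' : (S₀ : Subgroup G).map (QuotientGroup.mk' O) = P := by
    rw [← hS₀]; rfl
  set H : Subgroup G := (P : Subgroup (G ⧸ O)).comap (QuotientGroup.mk' O) with hH
  have hS₀H : (S₀ : Subgroup G) ≤ H := by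
    rw [hH, ← Subgroup.map_le_iff_le_comap, hS₀']
  have hBH : B ≤ H := by
    rw [hH, ← Subgroup.map_le_iff_le_comap]; exact hBP
  have hBp : IsPGroup p (B.subgroupOf H) := hB.of_equiv (Subgroup.subgroupOfEquivOfLe hBH).symm
  obtain ⟨R, hR⟩ := hBp.exists_le_sylow
  obtain ⟨h, hh⟩ := MulAction.exists_smul_eq H (S₀.subtype hS₀H) R
  refine ⟨(h : G) • S₀, ?_, ?_⟩
  · intro b hb
    have h1 : (⟨b, hBH hb⟩ : H) ∈ (R : Subgroup H) := hR (Subgroup.mem_subgroupOf.2 hb)
    rw [← hh] at h1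
    have h2 : (⟨b, hBH hb⟩ : H) ∈ ((S₀.subtype hS₀H : Sylow p H) : Subgroup H).map (MulAut.conj h).toMonoidHom := h1
    obtain ⟨y, hy, hyb⟩ := h2
    have hy' : (y : G) ∈ (S₀ : Subgroup G) := hy
    refine ⟨(y : G), hy', ?_⟩
    have := congrArg Subtype.val hyb
    exact this
  · have h1 : (((h : G) • S₀ : Sylow p G) : Subgroup G) = (S₀ : Subgroup G).map (MulAut.conj (h : G)).toMonoidHom := rfl
    rw [h1, Subgroup.map_map]
    have hh : QuotientGroup.mk' O (h : G) ∈ (P : Subgroup (G ⧸ O)) := h.2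
    apply le_antisymm
    · rintro _ ⟨s, hs, rfl⟩
      change QuotientGroup.mk' O ((h : G) * s * (h : G)⁻¹) ∈ (P : Subgroup (G ⧸ O))
      rw [map_mul, map_mul, map_inv]
      have hs' : QuotientGroup.mk' O s ∈ (P : Subgroup (G ⧸ O)) := by
        rw [← hS₀']; exact mem_map_of_mem _ hs
      exact mul_mem (mul_mem hh hs') (inv_mem hh)
    · intro x hx
      have h2 : (QuotientGroup.mk' O (h : G))⁻¹ * x * QuotientGroup.mk' O (h : G) ∈ (P : Subgroup (G ⧸ O)) :=
        mul_mem (mul_mem (inv_mem hh) hx) hh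
      rw [← hS₀'] at h2
      obtain ⟨s, hs, hsx⟩ := h2
      refine ⟨s, hs, ?_⟩
      change QuotientGroup.mk' O ((h : G) * s * (h : G)⁻¹) = x
      rw [map_mul, map_mul, map_inv, hsx]; group

theorem rank_core {G : Type*} [Group G] [Finite G]
    (hI : ∀ S T : Sylow 2 G, S ≠ T → Cfsg.PRankLE 2 1 ↥((S : Subgroup G) ⊓ (T : Subgroup G)))
    (hn : ∀ P : Sylow 2 (G ⧸ Cfsg.oddCore G), ¬ (P : Subgroup (G ⧸ Cfsg.oddCore G)).Normal) :
    Cfsg.PRankLE 2 1 ↥(Cfsg.pCore 2 (G ⧸ Cfsg.oddCore G)) := by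
  haveI : Fact (Nat.Prime 2) := ⟨Nat.prime_two⟩
  set O := Cfsg.oddCore G with hO
  have hOodd : ¬ 2 ∣ Nat.card O := by
    have h0 : (Nat.card O).Coprime 2 := CfsgLib.Cores.pPrimeCore_coprime 2
    exact (Nat.Prime.coprime_iff_not_dvd Nat.prime_two).1 h0.symm
  set Q := Cfsg.pCore 2 (G ⧸ O) with hQ
  intro A hAc hA2
  set A' : Subgroup (G ⧸ O) := A.map Q.subtype with hA'
  have hcA : Nat.card A' = Nat.card A := Subgroup.card_map_of_injective Q.subtype_injective
  have hA'Q : A' ≤ Q := Subgroup.map_subtype_le A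
  obtain ⟨P⟩ : Nonempty (Sylow 2 (G ⧸ O)) := inferInstance
  obtain ⟨x, hx⟩ : ∃ x : G ⧸ O, x ∉ normalizer ((P : Subgroup (G ⧸ O)) : Set (G ⧸ O)) := by
    by_contra hcon
    push Not at hcon
    apply hn P
    rw [← normalizer_eq_top_iff, eq_top_iff]
    exact fun x _ => hcon x
  have hPP : x • P ≠ P := by
    intro h
    exact hx (Sylow.smul_eq_iff_mem_normalizer.1 h)
  -- lift `A'`
  set K : Subgroup G := A'.comap (QuotientGroup.mk' O) with hK
  obtain ⟨R⟩ : Nonempty (Sylow 2 K) := inferInstance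
  set B : Subgroup G := (R : Subgroup K).map K.subtype with hB
  have hBp : IsPGroup 2 B := R.isPGroup'.map _
  have hBK : B ≤ K := Subgroup.map_subtype_le _
  have hBA : B.map (QuotientGroup.mk' O) ≤ A' := by
    rw [Subgroup.map_le_iff_le_comap]; exact hBK
  have hBO : ∀ b ∈ B, b ∈ O → b = 1 := by
    intro b hb hbO
    obtain ⟨k, hk⟩ := hBp ⟨b, hb⟩
    have h1 : b ^ 2 ^ k = 1 := congrArg Subtype.val hk
    have h2 : orderOf b ∣ 2 ^ k := orderOf_dvd_of_pow_eq_one h1
    have h3 : orderOf b ∣ Nat.card O := by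
      have := orderOf_dvd_natCard (⟨b, hbO⟩ : O)
      rwa [Subgroup.orderOf_mk] at this
    have h4 : Nat.Coprime (2 ^ k) (Nat.card O) := Nat.Coprime.pow_left k ((Nat.Prime.coprime_iff_not_dvd Nat.prime_two).2 hOodd)
    have h5 := Nat.dvd_gcd h2 h3
    rw [h4, Nat.dvd_one, orderOf_eq_one_iff] at h5
    exact h5
  have hcB : Nat.card B = Nat.card A' := by
    have h1 : Nat.card B = Nat.card R := Subgroup.card_map_of_injective K.subtype_injective
    have h2 : Nat.card K = Nat.card A' * Nat.card O := by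
      have h3 := CfsgLib.Cores.card_comap_mk O A'
      rw [hK, h3, mul_comm]
    have hA'p : IsPGroup 2 A' := by
      have : IsPGroup 2 Q := CfsgLib.Cores.pCore_isPGroup 2
      exact this.to_le hA'Q
    obtain ⟨k, hk⟩ := IsPGroup.iff_card.1 hA'p
    rw [h1, R.card_eq_multiplicity, h2, hk, Nat.factorization_mul (by positivity) Nat.card_pos.ne',
      Nat.Prime.factorization_pow Nat.prime_two]
    simp [Nat.factorization_eq_zero_of_not_dvd hOodd]
  have hQP : ∀ P : Sylow 2 (G ⧸ O), Q ≤ P := fun P => CfsgLib.Cores.pCore_le_sylow P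
  obtain ⟨S, hBS, hSP⟩ := lift_syl O P B hBp (hBA.trans (hA'Q.trans (hQP P)))
  obtain ⟨T, hBT, hTP⟩ := lift_syl O (x • P) B hBp (hBA.trans (hA'Q.trans (hQP _)))
  have hST : S ≠ T := by
    intro h
    apply hPP
    apply Sylow.ext
    rw [← hTP, ← hSP, h]
  have h1 := hI S T hST (B.subgroupOf ((S : Subgroup G) ⊓ (T : Subgroup G))) ?_ ?_
  · rw [Nat.card_congr (Subgroup.subgroupOfEquivOfLe (le_inf hBS hBT)).toEquiv, hcB, hcA] at h1
    exact h1
  · constructor
    constructor
    rintro ⟨⟨u, hu⟩, hu'⟩ ⟨⟨v, hv⟩, hv'⟩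
    apply Subtype.ext
    apply Subtype.ext
    change u * v = v * u
    have huB : u ∈ B := hu'
    have hvB : v ∈ B := hv'
    have hua : QuotientGroup.mk' O u ∈ A' := hBA (mem_map_of_mem _ huB)
    have hva : QuotientGroup.mk' O v ∈ A' := hBA (mem_map_of_mem _ hvB)
    obtain ⟨a, ha, hau⟩ := hua
    obtain ⟨b, hb, hbv⟩ := hva
    have hab := congrArg Subtype.val (hAc.is_comm.comm ⟨a, ha⟩ ⟨b, hb⟩)
    have hab' : a * b = b * a := hab
    have hab2 : QuotientGroup.mk' O u * QuotientGroup.mk' O v = QuotientGroup.mk' O v * QuotientGroup.mk' O u := by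
      rw [← hau, ← hbv]
      exact congrArg (fun y : Q => (y : G ⧸ O)) hab'
    have h2 : (v * u)⁻¹ * (u * v) ∈ O := by
      rw [← map_mul, ← map_mul] at hab2
      exact QuotientGroup.eq.1 hab2.symm
    have h3 := hBO _ (B.mul_mem (B.inv_mem (B.mul_mem hvB huB)) (B.mul_mem huB hvB)) h2
    exact (inv_mul_eq_one.1 h3).symm
  · rintro ⟨u, hu⟩ hu'
    apply Subtype.ext
    change u ^ 2 = 1
    have huB : u ∈ B := hu'
    have hua : QuotientGroup.mk' O u ∈ A' := hBA (mem_map_of_mem _ huB)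
    obtain ⟨a, ha, hau⟩ := hua
    apply hBO _ (B.pow_mem huB 2)
    have h2 := congrArg (fun y : Q => (y : G ⧸ O)) (hA2 a ha)
    have h3 : (QuotientGroup.mk' O u) ^ 2 = 1 := by rw [← hau]; exact h2
    rw [← map_pow] at h3
    exact (QuotientGroup.eq_one_iff _).1 h3

theorem inv_unique {R : Type*} [Group R] [Finite R] (hR : IsPGroup 2 R) (hr : Cfsg.PRankLE 2 1 R) :
    ∀ x y : R, orderOf x = 2 → orderOf y = 2 → x = y := by
  haveI : Fact (Nat.Prime 2) := ⟨Nat.prime_two⟩
  intro x y hx hy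
  have heven : Even (Nat.card R) := by
    rw [even_iff_two_dvd, ← hx]; exact orderOf_dvd_natCard x
  obtain ⟨S⟩ : Nonempty (Sylow 2 R) := inferInstance
  have hS : (S : Subgroup R) = ⊤ := by
    have h1 : IsPGroup 2 (⊤ : Subgroup R) := hR.to_subgroup ⊤
    exact (S.3 h1 le_top).symm
  obtain ⟨w, -, -, hw⟩ := CfsgLib.ZCor.exists_unique_involution heven hr S
  have hall : ∀ y : R, y ∈ S := by
    intro y
    have : y ∈ (S : Subgroup R) := by rw [hS]; trivial
    exact this
  rw [hw x (hall x) hx, hw y (hall y) hy]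

theorem metac {R : Type*} [Group R] [Finite R] (hR : IsPGroup 2 R) (hr : Cfsg.PRankLE 2 1 R) : Cfsg.IsMetacyclic R := by
  haveI : Fact (Nat.Prime 2) := ⟨Nat.prime_two⟩
  have huniq : ∀ H K : Subgroup R, Nat.card H = 2 → Nat.card K = 2 → H = K := by
    have hz : ∀ H : Subgroup R, Nat.card H = 2 → ∃ x : R, orderOf x = 2 ∧ H = zpowers x := by
      intro H hH
      haveI : Nontrivial H := Finite.one_lt_card_iff_nontrivial.1 (by rw [hH]; norm_num)
      obtain ⟨x, hx⟩ := exists_ne (1 : H)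
      have hx2 : orderOf x = 2 := by
        apply orderOf_eq_prime _ hx
        have := pow_card_eq_one' (x := x)
        rwa [hH] at this
      have hx2' : orderOf (x : R) = 2 := by rw [orderOf_coe]; exact hx2
      refine ⟨(x : R), hx2', ?_⟩
      symm
      apply Subgroup.eq_of_le_of_card_ge
      · rw [zpowers_le]; exact x.2
      · rw [Nat.card_zpowers, hx2', hH]
    intro H K hH hK
    obtain ⟨x, hx, rfl⟩ := hz H hH
    obtain ⟨y, hy, rfl⟩ := hz K hK
    rw [inv_unique hR hr x y hx hy]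
  rcases CfsgLib.PCyc.cyclic_or_quaternion hR huniq with hc | ⟨n, ⟨E⟩⟩
  · refine ⟨⊤, inferInstance, ?_, ?_⟩
    · haveI := hc; infer_instance
    · haveI := hc; exact isCyclic_of_surjective (QuotientGroup.mk' _) (QuotientGroup.mk'_surjective _)
  · apply CfsgLib.Fus21.metac_equiv E.symm
    haveI : NeZero (2 ^ n) := ⟨by positivity⟩
    have h1 : Nat.card (zpowers (QuaternionGroup.a 1 : QuaternionGroup (2 ^ n))) = 2 * 2 ^ n := by
      rw [Nat.card_zpowers, QuaternionGroup.orderOf_a_one]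
    have h2 : (zpowers (QuaternionGroup.a 1 : QuaternionGroup (2 ^ n))).index = 2 := by
      have h3 := (zpowers (QuaternionGroup.a 1 : QuaternionGroup (2 ^ n))).card_mul_index
      rw [h1, Nat.card_eq_fintype_card (α := QuaternionGroup (2 ^ n)), QuaternionGroup.card] at h3
      have h4 : 0 < 2 * 2 ^ n := by positivity
      have h5 : 2 * 2 ^ n * (zpowers (QuaternionGroup.a 1 : QuaternionGroup (2 ^ n))).index = 2 * 2 ^ n * 2 := by
        rw [h3]; ring
      exact Nat.eq_of_mul_eq_mul_left h4 h5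
    have h6 := normal_of_index_eq_two h2
    refine ⟨_, h6, inferInstance, ?_⟩
    apply isCyclic_of_prime_card (p := 2)
    rw [← index_eq_card, h2]

theorem main_X {X : Type*} [Group X] [Finite X] (hs : Group.IsSolvable X) (hO : Cfsg.oddCore X = ⊥)
    (hr : Cfsg.PRankLE 2 1 ↥(Cfsg.pCore 2 X)) (hcl : ∀ P : Sylow 2 X, ¬ (P : Subgroup X).Normal) :
    Nonempty (X ≃* GL (Fin 2) (ZMod 3)) ∨
    (Nat.card X = 48 ∧ Nat.card ↥(Subgroup.center X) = 2 ∧
      Nonempty (X ⧸ Subgroup.center X ≃* Equiv.Perm (Fin 4)) ∧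
      ∀ P : Sylow 2 X, Nonempty (↥(P : Subgroup X) ≃* QuaternionGroup 4)) := by
  haveI : Fact (Nat.Prime 2) := ⟨Nat.prime_two⟩
  set Q : Subgroup X := Cfsg.pCore 2 X with hQdef
  have hC : centralizer (Q : Set X) ≤ Q :=
    CfsgLib.PSolv19.hall_higman (CfsgLib.PSolv19.psolv_of_solvable _ rfl hs) hO
  have hQ2 : IsPGroup 2 Q := CfsgLib.Cores.pCore_isPGroup 2
  obtain ⟨P⟩ : Nonempty (Sylow 2 X) := inferInstance
  -- odd element
  obtain ⟨p, hp, hp2, g, hg⟩ : ∃ p : ℕ, p.Prime ∧ p ≠ 2 ∧ ∃ g : X, orderOf g = p := by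
    have h1 : (P : Subgroup X).index ≠ 1 := by
      intro h
      apply hcl P
      rw [index_eq_one.mp h]; infer_instance
    obtain ⟨p, hp, hpd⟩ := Nat.exists_prime_and_dvd h1
    refine ⟨p, hp, ?_, ?_⟩
    · rintro rfl
      exact P.not_dvd_index hpd
    · haveI := Fact.mk hp
      exact exists_prime_orderOf_dvd_card' p (hpd.trans (index_dvd_card _))
  have hgodd : Odd (orderOf g) := by
    rw [hg]; exact hp.odd_of_ne_two hp2
  have hgQ : g ∉ Q := by
    intro h
    obtain ⟨k, hk⟩ := hQ2 ⟨g, h⟩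
    have h1 : g ^ 2 ^ k = 1 := congrArg Subtype.val hk
    have h2 := orderOf_dvd_of_pow_eq_one h1
    rw [hg] at h2
    exact hp2 ((Nat.prime_dvd_prime_iff_eq hp Nat.prime_two).mp (hp.dvd_of_dvd_pow h2))
  have hgC : g ∉ centralizer (Q : Set X) := fun h => hgQ (hC h)
  rcases CfsgLib.Mc8.metac_odd8 (R := Q) hQ2 (metac hQ2 hr) (ρ := MulAut.conjNormal g) (m := orderOf g) hgodd
    (by rw [← map_pow, pow_orderOf_eq_one, map_one]) (by
      intro h
      apply hgC
      rw [mem_centralizer_iff]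
      intro q hq
      have h1 := congrArg (fun f : MulAut Q => ((f ⟨q, hq⟩ : Q) : X)) h
      simp only [MulAut.conjNormal_apply, MulAut.one_apply] at h1
      exact (mul_inv_eq_iff_eq_mul.mp h1).symm) with ⟨⟨e⟩⟩ | ⟨n, ⟨e⟩⟩
  · have hQ8 : Nat.card Q = 8 := by
      rw [Nat.card_congr e.toEquiv, Nat.card_eq_fintype_card, QuaternionGroup.card]
    have hind := Cfsg.Agent.LibNF3.index_centralizer_dvd Q e
    have hcc : Nat.card (centralizer (Q : Set X)) ∣ 2 := by
      have h0 : ∀ x ∈ centralizer (Q : Set X), x = 1 ∨ x = ((e.symm (QuaternionGroup.a 2) : Q) : X) :=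
        fun x hx => mem_cases e hC hx
      have hz2 : ((e.symm (QuaternionGroup.a 2) : Q) : X) ^ 2 = 1 := by
        have : e.symm (QuaternionGroup.a 2) ^ 2 = 1 := by
          rw [pow_two, ← map_mul, CfsgLib.H6Zas.q8_a2.1, map_one]
        exact congrArg Subtype.val this
      have h1 : centralizer (Q : Set X) ≤ zpowers ((e.symm (QuaternionGroup.a 2) : Q) : X) := by
        intro x hx
        rcases h0 x hx with h | h
        · rw [h]; exact one_mem _
        · rw [h]; exact mem_zpowers _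
      have h2 := Subgroup.card_dvd_of_le h1
      rw [Nat.card_zpowers] at h2
      exact h2.trans (orderOf_dvd_of_pow_eq_one hz2)
    have hcard : Nat.card X ∣ 48 := by
      rw [← (centralizer (Q : Set X)).index_mul_card]
      exact Nat.mul_dvd_mul hind hcc
    have hQP : Q ≤ P := CfsgLib.Cores.pCore_le_sylow P
    have hQX : Nat.card Q ∣ Nat.card P := Subgroup.card_dvd_of_le hQP
    have hPX : Nat.card P ∣ Nat.card X := Subgroup.card_subgroup_dvd_card _
    obtain ⟨k, hk⟩ := IsPGroup.iff_card.1 P.isPGroup'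
    have hk3 : 3 ≤ k := by
      rw [hQ8, hk] at hQX
      have : 2 ^ 3 ≤ 2 ^ k := Nat.le_of_dvd (by positivity) hQX
      exact (Nat.pow_le_pow_iff_right (by norm_num)).1 this
    have hPQ : Nat.card P ≠ 8 := by
      intro h
      have : (P : Subgroup X) = Q := (Subgroup.eq_of_le_of_card_ge hQP (by rw [h, hQ8])).symm
      apply hcl P
      rw [this]; infer_instance
    have hk4 : 4 ≤ k := by
      by_contra hlt
      have : k = 3 := by omega
      rw [this] at hk
      exact hPQ (by rw [hk]; norm_num)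
    have hPt : (P : Subgroup X).index ≠ 1 := by
      intro h
      apply hcl P
      rw [index_eq_one.mp h]; infer_instance
    have hX : Nat.card X = 48 := by
      have h16 : 16 ∣ Nat.card X := by
        refine dvd_trans ?_ hPX
        rw [hk]
        have h16' : (16 : ℕ) = 2 ^ 4 := by norm_num
        rw [h16']
        exact pow_dvd_pow 2 hk4
      have hle : Nat.card X ≤ 48 := Nat.le_of_dvd (by norm_num) hcard
      have hpos : 0 < Nat.card X := Nat.card_pos
      obtain ⟨m, hm⟩ := h16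
      have h5 : m ≤ 3 := by omega
      have h6 : m ≠ 1 := by
        rintro rfl
        have h7 := (P : Subgroup X).card_mul_index
        rw [hm, hk] at h7
        have h8 : 2 ^ 4 ≤ 2 ^ k := Nat.pow_le_pow_right (by norm_num) hk4
        have h9 : (P : Subgroup X).index = 1 := by
          have h10 : 0 < (P : Subgroup X).index := Nat.pos_of_ne_zero (P : Subgroup X).index_ne_zero_of_finite
          nlinarith
        exact hPt h9
      have h7 : m ≠ 2 := by
        rintro rfl
        rw [hm] at hcard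
        omega
      interval_cases m
      · omega
      · exact absurd rfl h6
      · exact absurd rfl h7
      · omega
    rcases core e hC hX with h | ⟨h1, h2, h3⟩
    · exact Or.inl h
    · exact Or.inr ⟨hX, h1, h2, h3⟩
  · exfalso
    rcases Nat.eq_zero_or_pos n with hn | hn
    · have hcQ : Nat.card Q = 1 := by
        rw [Nat.card_congr e.toEquiv]
        have : Nat.card (Fin 2 → ZMod (2 ^ n)) = 1 := by
          rw [Nat.card_fun, Nat.card_zmod, Nat.card_fin, hn]; norm_num
        exact this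
      have hQb := Subgroup.card_eq_one.1 hcQ
      apply hgC
      rw [hQb, mem_centralizer_iff]
      intro x hx
      have : x = 1 := hx
      rw [this, one_mul, mul_one]
    · -- two involutions
      have hne : ((2 ^ (n - 1) : ℕ) : ZMod (2 ^ n)) ≠ 0 := by
        rw [Ne, ZMod.natCast_eq_zero_iff]
        intro h
        have h1 := Nat.le_of_dvd (by positivity) h
        have h2 : 2 ^ (n - 1) < 2 ^ n := Nat.pow_lt_pow_right (by norm_num) (by omega)
        omega
      have htw : ((2 ^ (n - 1) : ℕ) : ZMod (2 ^ n)) + ((2 ^ (n - 1) : ℕ) : ZMod (2 ^ n)) = 0 := by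
        rw [← Nat.cast_add, ZMod.natCast_eq_zero_iff]
        have : 2 ^ (n - 1) + 2 ^ (n - 1) = 2 ^ n := by
          rw [← mul_two, ← pow_succ]; congr 1; omega
        rw [this]
      let w : Fin 2 → (Fin 2 → ZMod (2 ^ n)) := fun i => Pi.single i ((2 ^ (n - 1) : ℕ) : ZMod (2 ^ n))
      have hw : ∀ i, orderOf (e.symm (Multiplicative.ofAdd (w i))) = 2 := by
        intro i
        rw [MulEquiv.orderOf_eq]
        apply orderOf_eq_prime
        · apply Multiplicative.toAdd.injective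
          rw [toAdd_pow, toAdd_one, toAdd_ofAdd, two_nsmul]
          change Pi.single i _ + Pi.single i _ = 0
          rw [← Pi.single_add, htw, Pi.single_zero]
        · intro h
          have h1 : w i = 0 := h
          have h2 := congrFun h1 i
          simp only [w, Pi.single_eq_same, Pi.zero_apply] at h2
          exact hne h2
      have h1 := inv_unique hQ2 hr _ _ (hw 0) (hw 1)
      have h2 : w 0 = w 1 := Multiplicative.ofAdd.injective (e.symm.injective h1)
      have h3 := congrFun h2 0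
      simp only [w, Pi.single_eq_same, Pi.single_eq_of_ne (show (0 : Fin 2) ≠ 1 by decide)] at h3
      exact hne h3

theorem main {G : Type*} [Group G] [Finite G] (hs : Group.IsSolvable G)
    (hI : ∀ S T : Sylow 2 G, S ≠ T → Cfsg.PRankLE 2 1 ↥((S : Subgroup G) ⊓ (T : Subgroup G))) :
    (∃ P : Sylow 2 (G ⧸ Cfsg.oddCore G), (P : Subgroup (G ⧸ Cfsg.oddCore G)).Normal) ∨
    Nonempty ((G ⧸ Cfsg.oddCore G) ≃* GL (Fin 2) (ZMod 3)) ∨
    (Nat.card (G ⧸ Cfsg.oddCore G) = 48 ∧ Nat.card ↥(Subgroup.center (G ⧸ Cfsg.oddCore G)) = 2 ∧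
      Nonempty ((G ⧸ Cfsg.oddCore G) ⧸ Subgroup.center (G ⧸ Cfsg.oddCore G) ≃* Equiv.Perm (Fin 4)) ∧
      ∀ P : Sylow 2 (G ⧸ Cfsg.oddCore G), Nonempty (↥(P : Subgroup (G ⧸ Cfsg.oddCore G)) ≃* QuaternionGroup 4)) := by
  by_cases hcl : ∃ P : Sylow 2 (G ⧸ Cfsg.oddCore G), (P : Subgroup (G ⧸ Cfsg.oddCore G)).Normal
  · exact Or.inl hcl
  right
  push Not at hcl
  have hO : Cfsg.oddCore (G ⧸ Cfsg.oddCore G) = ⊥ := CfsgLib.Cores.pPrimeCore_quotient_pPrimeCore 2
  exact main_X inferInstance hO (rank_core hI hcl) hcl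

end CfsgLib.GL23
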