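import Cfsg.Agent.EqBase
import Cfsg.Agent.LibWrG8

set_option autoImplicit false

/-! Wreathed groups: odd automorphisms of nonabelian subgroups (seat helper8). -/

namespace CfsgLib.Wr.Wr

open Subgroup CfsgLib.FusionH12 CfsgLib.F8
open scoped commutatorElement

universe u
variable {S : Type u} [Group S] {M : ℕ} {x y z : S}

theorem nonab (h : Wr S M x y z) {X : Subgroup S} (hZX : ∀ i : ℤ, u x y i i ∈ X)
    (hab : ¬ IsMulCommutative X) (α : MulAut X) (hα : Nat.Coprime (orderOf α) 2) (hne : α ≠ 1) :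
    (∃ i j : ℤ, ∃ hij : u x y i j ∈ X, ∃ k l : ℤ, ((α ⟨u x y i j, hij⟩ : X) : S) = u x y k l * z) ∧
      ∀ (c : X) (i : ℤ), (c : S) = u x y i i → α c = c := by
  haveI := h.finite
  have hM := h.pos
  have hpX : ∀ c : X, ∃ k : ℕ, c ^ 2 ^ k = 1 := by
    intro c
    obtain ⟨k, hk⟩ := h.isPGroup (c : S)
    exact ⟨k, Subtype.ext (by simpa using hk)⟩
  obtain ⟨i₀, j₀, hb₀⟩ : ∃ i j : ℤ, u x y i j * z ∈ X := by
    by_contra hcon
    push Not at hcon
    apply hab
    refine ⟨⟨fun g k => ?_⟩⟩
    rcases h.cases (g : S) with ⟨i, j, hg⟩ | ⟨i, j, hg⟩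
    · rcases h.cases (k : S) with ⟨i', j', hk⟩ | ⟨i', j', hk⟩
      · apply Subtype.ext
        change (g : S) * k = k * g
        rw [hg, hk, h.u_mul, h.u_mul, add_comm, add_comm j]
      · exact absurd k.2 (hk ▸ hcon i' j')
    · exact absurd g.2 (hg ▸ hcon i j)
  have hsqo : ∀ i j : ℤ, (u x y i j * z) * (u x y i j * z) = u x y (i + j) (i + j) := h.sq
  have hcenX : ∀ c : X, c ∈ center X → ∃ i : ℤ, (c : S) = u x y i i := by
    intro c hc
    have h1 : (c : S) ∈ center S := h.center_nonabelian X hab ⟨c, hc, rfl⟩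
    exact (h.center_iff _).1 h1
  set ζ : X := ⟨u x y 1 1, hZX 1⟩ with hζ
  have hζi : ∀ i : ℤ, ((ζ ^ i : X) : S) = u x y i i := by
    intro i
    rw [Subgroup.coe_zpow]
    change (u x y 1 1) ^ i = _
    rw [h.u_pow, mul_one]
  have hζc : ζ ∈ center X := by
    rw [mem_center_iff]
    intro g
    exact Subtype.ext (h.center_comm 1 g)
  have hαζ : α ζ = ζ := by
    obtain ⟨k, hk⟩ := hpX ζ
    apply CfsgLib.OA.cyc hα k ζ hk
    have h1 : α ζ ∈ center X := by
      rw [mem_center_iff] at hζc ⊢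
      intro g
      have h2 := congrArg α (hζc (α.symm g))
      rw [map_mul, map_mul, MulEquiv.apply_symm_apply] at h2
      exact h2
    obtain ⟨i, hi⟩ := hcenX _ h1
    refine mem_zpowers_iff.2 ⟨i, Subtype.ext ?_⟩
    rw [hζi, hi]
  have hαZ : ∀ (c : X) (i : ℤ), (c : S) = u x y i i → α c = c := by
    intro c i hc
    have h1 : c = ζ ^ i := Subtype.ext (by rw [hζi, hc])
    rw [h1, map_zpow, hαζ]
  have hαZ' : ∀ (c : X) (i j : ℤ), (c : S) = u x y i j → (4 * M : ℤ) ∣ i - j → α c = c := by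
    intro c i j hc hd
    apply hαZ c i
    rw [hc, h.u_eq]
    obtain ⟨e, he⟩ := hd
    exact ⟨⟨0, by ring⟩, ⟨-e, by linarith⟩⟩
  have hunot : ∀ i j k l : ℤ, u x y i j * z ≠ u x y k l := h.uz_ne
  -- the automorphism does not preserve the base part
  have key : ∃ i j : ℤ, ∃ hij : u x y i j ∈ X, ∃ k l : ℤ, ((α ⟨u x y i j, hij⟩ : X) : S) = u x y k l * z := by
    by_contra hcon
    push Not at hcon
    have hAA : ∀ (c : X) (i j : ℤ), (c : S) = u x y i j → ∃ k l : ℤ, ((α c : X) : S) = u x y k l := by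
      intro c i j hc
      rcases h.cases ((α c : X) : S) with hh | ⟨k, l, hkl⟩
      · exact hh
      · exfalso
        have hm : u x y i j ∈ X := hc ▸ c.2
        have h1 : c = ⟨u x y i j, hm⟩ := Subtype.ext hc
        exact hcon i j hm k l (by rw [← h1]; exact hkl)
    have hBB : ∀ (c : X) (i j : ℤ), (c : S) = u x y i j * z → ∃ k l : ℤ, ((α c : X) : S) = u x y k l * z := by
      -- counting
      have hmap : (h.base.subgroupOf X).map α.toMonoidHom = h.base.subgroupOf X := by
        apply Subgroup.eq_of_le_of_card_ge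
        · rintro _ ⟨c, ⟨i, j, hc⟩, rfl⟩
          exact hAA c i j hc
        · exact (Subgroup.card_map_of_injective (f := α.toMonoidHom) α.injective).ge
      intro c i j hc
      rcases h.cases ((α c : X) : S) with ⟨k, l, hkl⟩ | hh
      · exfalso
        have h1 : α c ∈ (h.base.subgroupOf X).map α.toMonoidHom := by
          rw [hmap]; exact ⟨k, l, hkl⟩
        obtain ⟨d, ⟨i', j', hd⟩, hdc⟩ := h1
        have h2 : d = c := α.injective hdc
        rw [h2] at hd
        exact hunot i j i' j' (hc.symm.trans hd)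
      · exact hh
    -- the commutator subgroup is fixed
    have hcomm : ∀ w ∈ commutator X, α w = w := by
      have hle : (commutator X).map X.subtype ≤ zpowers (u x y 1 (-1)) := by
        rw [← h.commutator_eq, _root_.commutator_def, Subgroup.map_commutator, _root_.commutator_def]
        exact Subgroup.commutator_mono le_top le_top
      haveI : IsCyclic ((commutator X).map X.subtype) :=
        isCyclic_of_injective (Subgroup.inclusion hle) (Subgroup.inclusion_injective hle)
      haveI : IsCyclic (commutator X) := isCyclic_of_injective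
        ((commutator X).equivMapOfInjective X.subtype X.subtype_injective).toMonoidHom
        ((commutator X).equivMapOfInjective X.subtype X.subtype_injective).injective
      obtain ⟨w₀, hw₀⟩ := (Subgroup.isCyclic_iff_exists_zpowers_eq_top (commutator X)).1 inferInstance
      have hw₀m : w₀ ∈ commutator X := by rw [← hw₀]; exact mem_zpowers _
      have h1 : α w₀ ∈ zpowers w₀ := by
        rw [hw₀]
        have h2 := Subgroup.characteristic_iff_map_le.1 (inferInstance : (commutator X).Characteristic) α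
        exact h2 ⟨w₀, hw₀m, rfl⟩
      obtain ⟨k, hk⟩ := hpX w₀
      have h2 := CfsgLib.OA.cyc hα k w₀ hk h1
      intro w hw
      rw [← hw₀] at hw
      obtain ⟨i, rfl⟩ := mem_zpowers_iff.1 hw
      rw [map_zpow, h2]
    set b : X := ⟨u x y i₀ j₀ * z, hb₀⟩ with hb
    obtain ⟨i₁, j₁, hαb⟩ := hBB b i₀ j₀ rfl
    have hfix : ∀ (c : X) (i j : ℤ), (c : S) = u x y i j → α c = c := by
      intro c i j hc
      obtain ⟨k, l, hαc⟩ := hAA c i j hc
      have hw : c⁻¹ * (b * c * b⁻¹) ∈ commutator X := by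
        have h1 := Subgroup.commutator_mem_commutator (mem_top b) (mem_top c⁻¹)
        rw [commutatorElement_def] at h1
        have h2 := (inferInstance : (commutator X).Normal).conj_mem _ (inv_mem h1) 1
        have h3 : 1 * (b * c⁻¹ * b⁻¹ * c⁻¹⁻¹)⁻¹ * 1⁻¹ = c⁻¹ * (b * c * b⁻¹) := by group
        rwa [h3] at h2
      have h4 := hcomm _ hw
      have h5 : ((c⁻¹ * (b * c * b⁻¹) : X) : S) = u x y (j - i) (i - j) := by
        change (c : S)⁻¹ * (u x y i₀ j₀ * z * (c : S) * (u x y i₀ j₀ * z)⁻¹) = _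
        rw [hc, h.conj_uz, h.u_inv, h.u_mul]; congr 1 <;> ring
      have h6 : ((α (c⁻¹ * (b * c * b⁻¹)) : X) : S) = u x y (l - k) (k - l) := by
        rw [map_mul, map_mul, map_mul, map_inv, map_inv]
        change ((α c : X) : S)⁻¹ * (((α b : X) : S) * ((α c : X) : S) * ((α b : X) : S)⁻¹) = _
        rw [hαc, hαb, h.conj_uz, h.u_inv, h.u_mul]; congr 1 <;> ring
      rw [h4, h5, h.u_eq] at h6
      obtain ⟨⟨e, he⟩, -⟩ := h6
      have h7 : ((α c * c⁻¹ : X) : S) = u x y (k - i) (l - j) := by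
        change ((α c : X) : S) * (c : S)⁻¹ = _
        rw [hαc, hc, h.u_inv, h.u_mul]; rfl
      apply CfsgLib.OA.stab hα _ (hpX _)
      exact hαZ' _ _ _ h7 ⟨e, by linarith⟩
    apply hne
    apply CfsgLib.OA.fix_all hα (A := h.base.subgroupOf X) _ hpX
    · intro c
      rcases h.cases (c : S) with ⟨i, j, hc⟩ | ⟨i, j, hc⟩
      · rw [hfix c i j hc, mul_inv_cancel]; exact one_mem _
      · obtain ⟨k, l, hkl⟩ := hBB c i j hc
        refine ⟨k - i, l - j, ?_⟩
        change ((α c : X) : S) * (c : S)⁻¹ = _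
        rw [hkl, hc]
        have : (u x y k l * z) * (u x y i j * z)⁻¹ = u x y k l * (u x y i j)⁻¹ := by group
        rw [this, h.u_inv, h.u_mul]; rfl
    · rintro c ⟨i, j, hc⟩
      exact hfix c i j hc

  exact ⟨key, hαZ⟩

end CfsgLib.Wr.Wr
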