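import Mathlib
import Cfsg.Agent.EqBase
import Cfsg.Agent.LibClifford2
import Cfsg.Agent.LibCharMore
import Cfsg.Agent.LibGalChar
import Cfsg.Agent.LibDefB19

set_option autoImplicit false
set_option maxHeartbeats 400000
set_option linter.unusedSectionVars false

/-! Irreducible products of Galois conjugate characters (helper19) -/

namespace CfsgLib.GalProd19

open Cfsg CfsgLib.CharBasic CfsgLib.Clifford CfsgLib.CharIndA CfsgLib.CharNorm
open scoped ComplexConjugate commutatorElement

universe u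
variable {G : Type u} [Group G] [Fintype G]

theorem irr_pow {k : ℕ} (hk : k.Coprime (Nat.card G)) {χ : G → ℂ} (hχ : IsIrrCharacter G χ) :
    IsIrrCharacter G (fun g => χ (g ^ k)) := by
  obtain ⟨σ, hσ⟩ := CfsgLib.GalChar.exists_gal_of_coprime hk
  have h1 := CfsgLib.GalChar.isIrrCharacter_gal σ hχ
  have h2 : (fun g => χ (g ^ k)) = σ ∘ χ := funext fun g => hσ _ (irr_isCharacter hχ) g
  rw [h2]
  exact h1

/-- a sum of two nonzero characters is not irreducible -/
theorem not_irr_add {α β : G → ℂ} (hα : IsCharacter G α) (hβ : IsCharacter G β) (hα1 : α 1 ≠ 0) (hβ1 : β 1 ≠ 0)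
    (h : IsIrrCharacter G (α + β)) : False := by
  classical
  have key : ∀ {α β : G → ℂ}, IsCharacter G α → IsCharacter G β → α 1 ≠ 0 → IsIrrCharacter G (α + β) → classInner α (α + β) ≠ 0 := by
    intro α β hα hβ hα1 h h0
    obtain ⟨m, hm, hexp, -⟩ := char_expand hα
    obtain ⟨η, hη⟩ : ∃ η : IrrCharacter G, m η ≠ 0 := by
      by_contra hcon
      push Not at hcon
      apply hα1
      rw [hexp]
      simp [hcon]
    obtain ⟨n, hn⟩ := char_mult hβ (irr_isCharacter η.2)
    have h1 : classInner (α + β) η = ((m η + n : ℕ) : ℂ) := by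
      rw [ci_add_l, hm, hn]; push_cast; rfl
    have h2 : (α + β) = (η : G → ℂ) := by
      by_contra hne
      rw [irr_inner_ne h η.2 hne] at h1
      have : m η + n = 0 := by exact_mod_cast h1.symm
      omega
    rw [h2, hm] at h0
    exact hη (by exact_mod_cast h0)
  have h1 := key hα hβ hα1 h
  have h2 : classInner β (α + β) ≠ 0 := by
    have := key hβ hα hβ1 (by rwa [add_comm])
    rwa [add_comm β α] at this
  obtain ⟨a, ha⟩ := char_mult hα (irr_isCharacter h)
  obtain ⟨b, hb⟩ := char_mult hβ (irr_isCharacter h)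
  have h3 := irr_inner_self h
  nth_rw 1 [ci_add_l] at h3
  rw [ha, hb] at h3
  have h4 : a + b = 1 := by exact_mod_cast h3
  have h5 : a ≠ 0 := by rintro rfl; exact h1 (by rw [ha]; simp)
  have h6 : b ≠ 0 := by rintro rfl; exact h2 (by rw [hb]; simp)
  omega

/-- common constituents -/
theorem no_common {χ ψ : G → ℂ} (hχ : IsIrrCharacter G χ) (hψ : IsIrrCharacter G ψ)
    (hirr : IsIrrCharacter G (fun g => χ g * ψ g)) {ζ : G → ℂ} (hζ : IsIrrCharacter G ζ) (hζ1 : ζ ≠ fun _ => 1)
    (h1 : classInner (fun g => χ g * conj (χ g)) ζ ≠ 0) (h2 : classInner (fun g => ψ g * conj (ψ g)) ζ ≠ 0) : False := by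
  classical
  have hA : ∀ {χ : G → ℂ}, IsIrrCharacter G χ → IsCharacter G (fun g => χ g * conj (χ g)) := fun {χ} hχ =>
    isCharacter_mul (irr_isCharacter hχ) (isCharacter_conj (irr_isCharacter hχ))
  have hone : IsIrrCharacter G (fun _ => (1 : ℂ)) := by
    have := isIrrCharacter_hom (1 : G →* ℂˣ)
    simpa using this
  obtain ⟨m, hm, hexp, -⟩ := char_expand (hA hχ)
  obtain ⟨n, hn, -, -⟩ := char_expand (hA hψ)
  have hAB : classInner (fun g => χ g * conj (χ g)) (fun g => ψ g * conj (ψ g)) = 1 := by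
    rw [← irr_inner_self hirr]
    unfold classInner
    congr 1
    apply Finset.sum_congr rfl
    intro g _
    simp only [map_mul, Complex.conj_conj]
    ring
  have hsum : ∑ η : IrrCharacter G, m η * n η = 1 := by
    have h3 : (∑ η : IrrCharacter G, (m η : ℂ) * n η) = 1 := by
      rw [← hAB]
      conv_rhs => rw [hexp]
      rw [CfsgLib.CharNorm.ci_sum_l]
      apply Finset.sum_congr rfl
      intro η _
      rw [ci_smul_l, ← CharBasic.inner_conj_symm, hn]
      simp
    exact_mod_cast h3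
  have hone' : ∀ {χ : G → ℂ}, IsIrrCharacter G χ → classInner (fun g => χ g * conj (χ g)) (fun _ => (1 : ℂ)) = 1 := by
    intro χ hχ
    calc classInner (fun g => χ g * conj (χ g)) (fun _ => (1 : ℂ)) = classInner χ χ := by
          unfold classInner
          simp
      _ = 1 := irr_inner_self hχ
  have e1 : m ⟨_, hone⟩ = 1 := by
    have := hm ⟨_, hone⟩
    rw [hone' hχ] at this
    exact_mod_cast this.symm
  have e2 : n ⟨_, hone⟩ = 1 := by
    have := hn ⟨_, hone⟩
    rw [hone' hψ] at this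
    exact_mod_cast this.symm
  have e3 : m ⟨ζ, hζ⟩ ≠ 0 := by
    intro h
    apply h1
    have := hm ⟨ζ, hζ⟩
    rw [h, Nat.cast_zero] at this
    exact this
  have e4 : n ⟨ζ, hζ⟩ ≠ 0 := by
    intro h
    apply h2
    have := hn ⟨ζ, hζ⟩
    rw [h, Nat.cast_zero] at this
    exact this
  have hne : (⟨fun _ => 1, hone⟩ : IrrCharacter G) ≠ ⟨ζ, hζ⟩ := fun h => hζ1 (congrArg Subtype.val h).symm
  have h5 : m ⟨_, hone⟩ * n ⟨_, hone⟩ + m ⟨ζ, hζ⟩ * n ⟨ζ, hζ⟩ ≤ ∑ η : IrrCharacter G, m η * n η := by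
    rw [← Finset.sum_pair (f := fun η => m η * n η) hne]
    exact Finset.sum_le_sum_of_subset (Finset.subset_univ _)
  rw [hsum, e1, e2] at h5
  have := Nat.pos_of_ne_zero (Nat.mul_ne_zero e3 e4)
  omega

/-- imprimitive characters -/
theorem imprimitive {k : ℕ} (hk : k.Coprime (Nat.card G)) {χ : G → ℂ} (hχ : IsIrrCharacter G χ)
    (hirr : IsIrrCharacter G (fun g => χ g * χ (g ^ k))) {T : Subgroup G} [Fintype T] (hT : T ≠ ⊤) {ψ : T → ℂ} (hψ : IsIrrCharacter T ψ)
    (hind : indFun T ψ = χ) : False := by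
  classical
  have hkT : k.Coprime (Nat.card T) := Nat.Coprime.coprime_dvd_right T.card_subgroup_dvd_card hk
  have hψk := irr_pow hkT hψ
  have hχk := irr_pow hk hχ
  have h1 : classInner (fun t : T => χ ((t : G) ^ k)) (fun t => ψ (t ^ k)) = 1 := by
    have h2 : classInner (fun t : T => χ (t : G)) ψ = 1 := by
      rw [← frobenius' T ψ (irr_classFun hχ), hind, irr_inner_self hχ]
    rw [← h2]
    unfold classInner
    congr 1
    refine Fintype.sum_equiv (powCoprime hkT.symm) _ _ fun t => ?_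
    rfl
  obtain ⟨δ, hδ, hδe⟩ := CfsgLib.CharMore.split_off (isCharacter_restrict (irr_isCharacter hχk) T) hψk (by
    change classInner (fun t : T => χ ((t : G) ^ k)) (fun t => ψ (t ^ k)) ≠ 0
    rw [h1]; exact one_ne_zero)
  have hψ1 := irr_one_ne_zero hψ
  have hχ1 : χ 1 = T.index * ψ 1 := by rw [← hind, ind_one]
  have hidx : (T.index : ℂ) ≠ 0 := by exact_mod_cast Subgroup.index_ne_zero_of_finite
  have hidx1 : (T.index : ℂ) ≠ 1 := by
    intro h
    apply hT
    rw [← Subgroup.index_eq_one]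
    exact_mod_cast h
  have hδ1 : δ 1 ≠ 0 := by
    have h2 := congrFun hδe 1
    change χ ((1 : G) ^ k) = ψ ((1 : T) ^ k) + δ 1 at h2
    rw [one_pow, one_pow, hχ1] at h2
    intro h3
    rw [h3, add_zero] at h2
    exact hidx1 (mul_right_cancel₀ hψ1 (h2.trans (one_mul _).symm))
  have h3 : (fun g => χ g * χ (g ^ k)) = indFun T (ψ * fun t => ψ (t ^ k)) + indFun T (ψ * δ) := by
    rw [← ind_add]
    have h4 := ind_mul_restrict T ψ (χ := fun g => χ (g ^ k)) (irr_classFun hχk)
    rw [hind] at h4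
    have h5 : (fun g => χ g * χ (g ^ k)) = χ * fun g => χ (g ^ k) := rfl
    rw [h5, ← h4]
    congr 1
    funext t
    have h6 := congrFun hδe t
    change ψ t * χ ((t : G) ^ k) = ψ t * ψ (t ^ k) + ψ t * δ t
    rw [← mul_add]
    congr 1
  rw [h3] at hirr
  refine not_irr_add (isCharacter_ind T (isCharacter_mul (irr_isCharacter hψ) (irr_isCharacter hψk)))
    (isCharacter_ind T (isCharacter_mul (irr_isCharacter hψ) hδ)) ?_ ?_ hirr
  · rw [ind_one, Pi.mul_apply, one_pow]
    exact mul_ne_zero hidx (mul_ne_zero hψ1 hψ1)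
  · rw [ind_one, Pi.mul_apply]
    exact mul_ne_zero hidx (mul_ne_zero hψ1 hδ1)

section Main
variable {k : ℕ} (hk : k.Coprime (Nat.card G)) (χ : IrrCharacter G)
  (hfaith : ∀ g : G, (χ : G → ℂ) g = (χ : G → ℂ) 1 → g = 1)
  (hirr : IsIrrCharacter G (fun g => (χ : G → ℂ) g * (χ : G → ℂ) (g ^ k)))

include hk hfaith hirr in
theorem abelian_case {U : Subgroup G} (hU : U.Normal) (hab : ∀ a b : U, a * b = b * a) : U ≤ Subgroup.center G := by
  classical
  letI := Fintype.ofFinite U
  obtain ⟨θ, hθ, hθχ⟩ := exists_below U χ.2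
  by_cases hT : inertia hU θ = ⊤
  · have h1 := restrict_of_invariant hU χ.2 hθ (fun g => by
      have : g ∈ inertia hU θ := by rw [hT]; exact Subgroup.mem_top g
      exact (mem_inertia hU).1 this) hθχ
    set c := classInner (fun h : U => (χ : G → ℂ) h) θ with hc
    obtain ⟨f, hf⟩ := exists_hom_of_linear (irr_isCharacter hθ) (irr_degree_one_of_comm hab hθ)
    intro x hx
    apply CfsgLib.DefB19.mem_center_of_norm hfaith
    have h2 := congrFun h1 ⟨x, hx⟩
    have h3 := congrFun h1 1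
    change (χ : G → ℂ) x = c * θ ⟨x, hx⟩ at h2
    change (χ : G → ℂ) 1 = c * θ 1 at h3
    have h4 : ‖θ ⟨x, hx⟩‖ = 1 := by
      rw [hf]
      have h5 : (f ⟨x, hx⟩ : ℂ) ^ Nat.card U = 1 := by
        rw [← Units.val_pow_eq_pow_val, ← map_pow, pow_card_eq_one', map_one, Units.val_one]
      exact Complex.norm_eq_one_of_pow_eq_one h5 Nat.card_pos.ne'
    have h5 : θ 1 = 1 := irr_degree_one_of_comm hab hθ
    rw [h5, mul_one] at h3
    have h6 := CfsgLib.CharInt.irr_one_eq_charDegree χ.2
    rw [h2, norm_mul, h4, mul_one, ← h3, h6, Complex.norm_natCast, Complex.natCast_re]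
  · exfalso
    letI := Fintype.ofFinite (inertia hU θ)
    obtain ⟨ψ, hψ, -, hind, -⟩ := clifford_corr_surj hU (le_inertia hU (irr_classFun hθ)) hθ (fun g => mem_inertia hU) χ.2 hθχ
    exact imprimitive hk χ.2 hirr hT hψ hind

/-- the linear character of the center -/
theorem central_lin : ∃ f : Subgroup.center G →* ℂˣ, ∀ (c : Subgroup.center G) (g : G), (χ : G → ℂ) (c * g) = (f c : ℂ) * (χ : G → ℂ) g := by
  classical
  letI := Fintype.ofFinite (Subgroup.center G)
  obtain ⟨θ, hθ, hθχ⟩ := exists_below (Subgroup.center G) χ.2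
  have hab : ∀ a b : Subgroup.center G, a * b = b * a := fun a b => Subtype.ext (Subgroup.mem_center_iff.1 b.2 a)
  have hCn : (Subgroup.center G).Normal := inferInstance
  have h1 := restrict_of_invariant hCn χ.2 hθ (fun g => by
    funext c
    rw [cj_apply]
    congr 1
    apply Subtype.ext
    change g * (c : G) * g⁻¹ = c
    rw [Subgroup.mem_center_iff.1 c.2 g, mul_inv_cancel_right]) hθχ
  set c0 := classInner (fun h : Subgroup.center G => (χ : G → ℂ) h) θ with hc0
  obtain ⟨f, hf⟩ := exists_hom_of_linear (irr_isCharacter hθ) (irr_degree_one_of_comm hab hθ)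
  refine ⟨f, fun c g => ?_⟩
  have h5 : θ 1 = 1 := irr_degree_one_of_comm hab hθ
  have h3 := congrFun h1 1
  change (χ : G → ℂ) 1 = c0 * θ 1 at h3
  rw [h5, mul_one] at h3
  have h2 : (χ : G → ℂ) c = c0 * θ c := congrFun h1 c
  have h4 : ‖θ c‖ = 1 := by
    rw [hf]
    have h5 : (f c : ℂ) ^ Nat.card (Subgroup.center G) = 1 := by
      rw [← Units.val_pow_eq_pow_val, ← map_pow, pow_card_eq_one', map_one, Units.val_one]
    exact Complex.norm_eq_one_of_pow_eq_one h5 Nat.card_pos.ne'
  have h6 := CfsgLib.CharInt.irr_one_eq_charDegree χ.2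
  have h7 := CfsgLib.CharInt.irr_one_ne_zero χ.2
  rw [char_mul_of_scalar (irr_isCharacter χ.2) h7 (g := (c : G)) (by
    rw [h2, norm_mul, h4, mul_one, ← h3, h6, Complex.norm_natCast, Complex.natCast_re]), h2, ← h3, hf, mul_div_cancel_left₀ _ h7]

include hk hfaith hirr in
theorem class_two_case {U : Subgroup G} (hU : U.Normal) (hcomm : ∀ x ∈ U, ∀ y ∈ U, x * y * x⁻¹ * y⁻¹ ∈ Subgroup.center G)
    (hcen : ∀ w ∈ U, (∀ x ∈ U, x * w = w * x) → w ∈ Subgroup.center G) : ∀ u ∈ U, ∀ v ∈ U, u * v = v * u := by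
  classical
  letI := Fintype.ofFinite U
  intro u hu v hv
  by_contra hne
  obtain ⟨f, hf⟩ := central_lin χ
  have hfinj : ∀ c : Subgroup.center G, f c = 1 → c = 1 := by
    intro c hc
    apply Subtype.ext
    apply hfaith
    have := hf c 1
    rw [mul_one, hc, Units.val_one, one_mul] at this
    exact this
  -- the subgroup T
  have hmulc : ∀ s t : G, s * u * s⁻¹ * u⁻¹ ∈ Subgroup.center G → (t * s) * u * (t * s)⁻¹ * u⁻¹ = (t * u * t⁻¹ * u⁻¹) * (s * u * s⁻¹ * u⁻¹) := by
    intro s t hs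
    have h1 : (t * s) * u * (t * s)⁻¹ * u⁻¹ = t * (s * u * s⁻¹ * u⁻¹) * (u * t⁻¹ * u⁻¹) := by group
    rw [h1, Subgroup.mem_center_iff.1 hs t]
    have h2 := Subgroup.mem_center_iff.1 hs (t * u * t⁻¹ * u⁻¹)
    rw [h2]
    group
  let T : Subgroup G :=
    { carrier := {t | t * u * t⁻¹ * u⁻¹ ∈ Subgroup.center G}
      one_mem' := by
        change 1 * u * 1⁻¹ * u⁻¹ ∈ Subgroup.center G
        have : (1 : G) * u * 1⁻¹ * u⁻¹ = 1 := by group
        rw [this]; exact Subgroup.one_mem _
      mul_mem' := fun {t s} ht hs => by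
        change (t * s) * u * (t * s)⁻¹ * u⁻¹ ∈ Subgroup.center G
        rw [hmulc s t hs]
        exact Subgroup.mul_mem _ ht hs
      inv_mem' := fun {t} ht => by
        change t⁻¹ * u * t⁻¹⁻¹ * u⁻¹ ∈ Subgroup.center G
        have ht' : t * u * t⁻¹ * u⁻¹ ∈ Subgroup.center G := ht
        have h1 : t⁻¹ * u * t⁻¹⁻¹ * u⁻¹ = t⁻¹ * (t * u * t⁻¹ * u⁻¹)⁻¹ * t := by group
        rw [h1]
        exact (inferInstance : (Subgroup.center G).Normal).conj_mem' _ (Subgroup.inv_mem _ ht') t }
  letI := Fintype.ofFinite T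
  have hUT : U ≤ T := fun x hx => hcomm x hx u hu
  let τ : T →* ℂˣ :=
    { toFun := fun t => f ⟨t * u * (t : G)⁻¹ * u⁻¹, t.2⟩
      map_one' := by
        rw [← map_one f]
        congr 1
        apply Subtype.ext
        change (1 : G) * u * 1⁻¹ * u⁻¹ = 1
        group
      map_mul' := fun t s => by
        rw [← map_mul f]
        congr 1
        apply Subtype.ext
        exact hmulc s t s.2 }
  have hτ : ∀ t : T, τ t = f ⟨t * u * (t : G)⁻¹ * u⁻¹, t.2⟩ := fun t => rfl
  -- vanishing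
  have hvan : ∀ t : T, (χ : G → ℂ) t ≠ 0 → τ t = 1 := by
    intro t ht
    have h1 : u * (t : G) * u⁻¹ = (⟨t * u * (t : G)⁻¹ * u⁻¹, t.2⟩ : Subgroup.center G)⁻¹ * t := by
      change u * (t : G) * u⁻¹ = (t * u * (t : G)⁻¹ * u⁻¹)⁻¹ * t
      group
    have h2 := irr_classFun χ.2 (t : G) u
    rw [h1, hf, map_inv] at h2
    have h3 : ((τ t)⁻¹ : ℂˣ) = 1 := by
      apply Units.ext
      rw [Units.val_one]
      exact mul_right_cancel₀ ht (h2.trans (one_mul _).symm)
    exact inv_eq_one.1 h3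
  have hτk : ∀ t : T, (χ : G → ℂ) ((t : G) ^ k) ≠ 0 → τ t = 1 := by
    intro t ht
    have h1 := hvan (t ^ k) ht
    rw [map_pow] at h1
    have h2 : (τ t) ^ Nat.card G = 1 := by
      rw [← map_pow]
      have : t ^ Nat.card G = 1 := by
        apply Subtype.ext
        change (t : G) ^ Nat.card G = 1
        exact pow_card_eq_one'
      rw [this, map_one]
    have h3 : orderOf (τ t) ∣ Nat.gcd k (Nat.card G) := Nat.dvd_gcd (orderOf_dvd_of_pow_eq_one h1) (orderOf_dvd_of_pow_eq_one h2)
    rw [hk, Nat.dvd_one, orderOf_eq_one_iff] at h3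
    exact h3
  -- the induced character
  let μ : U → ℂ := fun x => (τ ⟨x, hUT x.2⟩ : ℂ)
  have hμ : IsIrrCharacter U μ := isIrrCharacter_hom (τ.comp (Subgroup.inclusion hUT))
  have hTin : ∀ g, g ∈ T ↔ cj hU g μ = μ := by
    intro g
    constructor
    · intro hg
      funext x
      rw [cj_apply]
      change (τ ⟨g * x * g⁻¹, _⟩ : ℂ) = (τ ⟨x, hUT x.2⟩ : ℂ)
      have h1 : (⟨g * x * g⁻¹, hUT (hU.conj_mem x x.2 g)⟩ : T) = ⟨g, hg⟩ * ⟨x, hUT x.2⟩ * ⟨g, hg⟩⁻¹ := rfl
      rw [h1, map_mul, map_mul, map_inv, mul_comm (τ ⟨g, hg⟩), mul_inv_cancel_right]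
    · intro hg
      -- w = u⁻¹ g⁻¹ u g
      set w := u⁻¹ * (g⁻¹ * u * g) with hw
      have hgu : g⁻¹ * u * g ∈ U := by
        have := hU.conj_mem u hu g⁻¹
        rwa [inv_inv] at this
      have hwU : w ∈ U := U.mul_mem (U.inv_mem hu) hgu
      have hwc : ∀ x ∈ U, x * w = w * x := by
        intro x hx
        have h1 := congrFun hg ⟨x, hx⟩
        rw [cj_apply] at h1
        change (τ ⟨g * x * g⁻¹, hUT (hU.conj_mem x hx g)⟩ : ℂ) = (τ ⟨x, hUT hx⟩ : ℂ) at h1
        have h2 : τ ⟨g * x * g⁻¹, hUT (hU.conj_mem x hx g)⟩ = τ ⟨x, hUT hx⟩ := Units.ext h1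
        rw [hτ, hτ] at h2
        have h3 : f (⟨(g * x * g⁻¹) * u * (g * x * g⁻¹)⁻¹ * u⁻¹, hUT (hU.conj_mem x hx g)⟩ * (⟨x * u * x⁻¹ * u⁻¹, hUT hx⟩ : Subgroup.center G)⁻¹) = 1 := by
          rw [map_mul, map_inv]
          exact mul_inv_eq_one.2 h2
        have h4 := congrArg Subtype.val (mul_inv_eq_one.1 (hfinj _ h3))
        change (g * x * g⁻¹) * u * (g * x * g⁻¹)⁻¹ * u⁻¹ = x * u * x⁻¹ * u⁻¹ at h4
        -- conjugate by g⁻¹
        have h5 : x * (g⁻¹ * u * g) * x⁻¹ * (g⁻¹ * u * g)⁻¹ = x * u * x⁻¹ * u⁻¹ := by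
          have h6 : x * (g⁻¹ * u * g) * x⁻¹ * (g⁻¹ * u * g)⁻¹ = g⁻¹ * ((g * x * g⁻¹) * u * (g * x * g⁻¹)⁻¹ * u⁻¹) * g := by group
          rw [h6, h4]
          have h7 := Subgroup.mem_center_iff.1 (hcomm x hx u hu) g⁻¹
          rw [h7, inv_mul_cancel_right]
        have h8 : g⁻¹ * u * g = u * w := by rw [hw]; group
        rw [h8] at h5
        -- [x, u w] = [x,u] → x w = w x
        have h9 : x * (u * w) * x⁻¹ * (u * w)⁻¹ = (x * u * x⁻¹ * u⁻¹) * (u * (x * w * x⁻¹ * w⁻¹) * u⁻¹) := by group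
        rw [h9] at h5
        have h10 : u * (x * w * x⁻¹ * w⁻¹) * u⁻¹ = 1 := by
          apply mul_left_cancel (a := x * u * x⁻¹ * u⁻¹)
          rw [h5, mul_one]
        have h11 : x * w * x⁻¹ * w⁻¹ = 1 := by
          have : x * w * x⁻¹ * w⁻¹ = u⁻¹ * (u * (x * w * x⁻¹ * w⁻¹) * u⁻¹) * u := by group
          rw [this, h10]; group
        rw [mul_inv_eq_one, mul_inv_eq_iff_eq_mul] at h11
        exact h11
      have hwZ := hcen w hwU hwc
      change g * u * g⁻¹ * u⁻¹ ∈ Subgroup.center G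
      have h1 : g * u * g⁻¹ * u⁻¹ = w⁻¹ := by
        have h2 := Subgroup.mem_center_iff.1 hwZ g
        have h3 : u * g = g * u * w := by rw [hw]; group
        have h4 : g * u * g⁻¹ * u⁻¹ = g * u * (u * g)⁻¹ := by group
        have h5 := Subgroup.mem_center_iff.1 hwZ (g * u)
        rw [h4, h3, h5]
        group
      rw [h1]
      exact Subgroup.inv_mem _ hwZ
  have hinner : classInner (resT hUT (fun t => (τ t : ℂ))) μ ≠ 0 := by
    have h1 : resT hUT (fun t => (τ t : ℂ)) = μ := rfl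
    rw [h1, irr_inner_self hμ]
    exact one_ne_zero
  have hζ := (clifford_corr hU hUT hμ hTin (isIrrCharacter_hom τ) hinner).1
  have hT0 : (Nat.card T : ℂ) ≠ 0 := by exact_mod_cast Nat.card_pos.ne'
  -- ζ ≠ 1
  have hζ1 : indFun T (fun t => (τ t : ℂ)) ≠ fun _ => 1 := by
    intro h
    have h1 : classInner (indFun T (fun t => (τ t : ℂ))) (fun _ => (1 : ℂ)) = 1 := by
      have := irr_inner_self hζ
      nth_rw 2 [h] at this
      exact this
    rw [frobenius T _ (fun _ _ => rfl)] at h1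
    have h2 : (fun t : T => (τ t : ℂ)) ≠ fun t : T => (((1 : T →* ℂˣ) t : ℂˣ) : ℂ) := by
      intro h3
      have h4 : (τ ⟨v, hUT hv⟩ : ℂ) = 1 := congrFun h3 ⟨v, hUT hv⟩
      have h5 : τ ⟨v, hUT hv⟩ = 1 := Units.ext h4
      rw [hτ] at h5
      have h6 := congrArg Subtype.val (hfinj _ h5)
      change v * u * v⁻¹ * u⁻¹ = 1 at h6
      rw [mul_inv_eq_one, mul_inv_eq_iff_eq_mul] at h6
      exact hne h6.symm
    have h3 := irr_inner_ne (isIrrCharacter_hom τ) (isIrrCharacter_hom (1 : T →* ℂˣ)) h2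
    have h4 : (fun t : T => (((1 : T →* ℂˣ) t : ℂˣ) : ℂ)) = fun _ => (1 : ℂ) := by funext t; simp
    rw [h4, h1] at h3
    exact one_ne_zero h3
  have hkey : ∀ {ψ : G → ℂ}, IsIrrCharacter G ψ → (∀ t : T, ψ t ≠ 0 → τ t = 1) → classInner (fun g => ψ g * conj (ψ g)) (indFun T (fun t => (τ t : ℂ))) ≠ 0 := by
    intro ψ hψ hv
    have hcf : IsClassFunction G (fun g => ψ g * conj (ψ g)) := char_classFun (isCharacter_mul (irr_isCharacter hψ) (isCharacter_conj (irr_isCharacter hψ)))
    rw [frobenius' T _ hcf]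
    have h1 : classInner (fun t : T => ψ t * conj (ψ t)) (fun t => (τ t : ℂ)) = classInner (fun t : T => ψ t) (fun t : T => ψ t) := by
      unfold classInner
      congr 1
      apply Finset.sum_congr rfl
      intro t _
      by_cases h0 : ψ t = 0
      · rw [h0]; simp
      · rw [hv t h0]; simp
    rw [h1]
    intro h2
    have h3 := CharBasic.inner_self_eq_zero h2
    exact irr_one_ne_zero hψ (congrFun h3 1)
  refine no_common χ.2 (irr_pow hk χ.2) hirr hζ hζ1 (hkey χ.2 hvan) (hkey (irr_pow hk χ.2) hτk)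

include hk hfaith hirr in
theorem nilp_le_center : ∀ (n : ℕ) (U : Subgroup G), Nat.card U = n → U.Normal → Group.IsNilpotent U → U ≤ Subgroup.center G := by
  intro n
  induction n using Nat.strong_induction_on with
  | _ n ih =>
    intro U hn hU hnil
    haveI := hU
    haveI := hnil
    have hsub : ∀ V : Subgroup G, V.Normal → V < U → V ≤ Subgroup.center G := by
      intro V hV hVU
      refine ih (Nat.card V) ?_ V rfl hV ?_
      · rw [← hn]
        exact Set.Finite.card_lt_card (Set.toFinite _) hVU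
      · refine Subgroup.isNilpotent_of_ker_le_center (Subgroup.inclusion hVU.le) ?_
        rw [(MonoidHom.ker_eq_bot_iff _).2 (Subgroup.inclusion_injective hVU.le)]
        exact bot_le
    by_cases hab : ∀ a b : U, a * b = b * a
    · exact abelian_case hk χ hfaith hirr hU hab
    · exfalso
      push Not at hab
      obtain ⟨a, b, hab⟩ := hab
      have hnt : Nontrivial U := ⟨a, 1, by rintro rfl; exact hab (by rw [one_mul, mul_one])⟩
      apply hab
      apply Subtype.ext
      refine class_two_case hk χ hfaith hirr hU ?_ ?_ a a.2 b b.2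
      · have h1 : ((commutator U).map U.subtype).Normal := ConjAct.normal_of_characteristic_of_normal
        have hsol : Group.IsSolvable U := inferInstance
        have h2 : (commutator U) < ⊤ := Group.IsSolvable.commutator_lt_top_of_nontrivial U
        have h3 : (commutator U).map U.subtype < U := by
          refine lt_of_le_of_ne (Subgroup.map_subtype_le _) ?_
          intro h4
          apply h2.ne
          rw [eq_top_iff]
          intro x _
          have h5 : (x : G) ∈ (commutator U).map U.subtype := by rw [h4]; exact x.2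
          obtain ⟨y, hy, hyx⟩ := h5
          rwa [← Subtype.ext hyx]
        have h4 := hsub _ h1 h3
        intro x hx y hy
        apply h4
        refine ⟨⁅⟨x, hx⟩, ⟨y, hy⟩⁆, Subgroup.commutator_mem_commutator (Subgroup.mem_top _) (Subgroup.mem_top _), ?_⟩
        rw [commutatorElement_def]
        rfl
      · have h1 : ((Subgroup.center U).map U.subtype).Normal := ConjAct.normal_of_characteristic_of_normal
        have h3 : (Subgroup.center U).map U.subtype < U := by
          refine lt_of_le_of_ne (Subgroup.map_subtype_le _) ?_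
          intro h4
          apply hab
          have h5 : (b : G) ∈ (Subgroup.center U).map U.subtype := by rw [h4]; exact b.2
          obtain ⟨y, hy, hyx⟩ := h5
          rw [← Subtype.ext hyx]
          exact Subgroup.mem_center_iff.1 hy a
        have h4 := hsub _ h1 h3
        intro w hw hwc
        apply h4
        refine ⟨⟨w, hw⟩, ?_, rfl⟩
        rw [SetLike.mem_coe, Subgroup.mem_center_iff]
        intro x
        exact Subtype.ext (hwc x x.2)

include hk hfaith hirr in
theorem main : fittingSubgroup G = Subgroup.center G := by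
  apply le_antisymm
  · unfold fittingSubgroup
    apply sSup_le
    rintro U ⟨hU, hnil⟩
    exact nilp_le_center hk χ hfaith hirr _ U rfl hU hnil
  · unfold fittingSubgroup
    apply le_sSup
    refine ⟨inferInstance, ?_⟩
    have h1 : ∀ a b : Subgroup.center G, a * b = b * a := by
      intro a b
      exact Subtype.ext ((Subgroup.mem_center_iff.1 b.2 a))
    letI : CommGroup (Subgroup.center G) := { (inferInstance : Group (Subgroup.center G)) with mul_comm := h1 }
    exact CommGroup.isNilpotent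

end Main

end CfsgLib.GalProd19
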