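import Cfsg.Agent.EqBase
import Cfsg.Agent.LibFusionH12
import Cfsg.Agent.LibBGRank

set_option autoImplicit false

/-! Subgroups containing the normalizers of their large p-subgroups (seat helper8). -/

namespace CfsgLib.Gamma8

open Subgroup CfsgLib.FusionH12 Cfsg

universe u
variable {G : Type u} [Group G] [Finite G] {p : ℕ} [hp : Fact p.Prime]

theorem mem_of_cj_le {Pr : Subgroup G → Prop} (hup : ∀ X Y, X ≤ Y → Pr X → Pr Y)
    (hcj : ∀ g X, Pr X → Pr (cj g X)) {P H : Subgroup G} (hP : SylIn p P H)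
    (hN : ∀ X ≤ P, Pr X → normalizer (X : Set G) ≤ H) :
    ∀ (n : ℕ) (X : Subgroup G) (g : G), Nat.card P ≤ Nat.card X + n → X ≤ P → Pr X → cj g X ≤ P → g ∈ H := by
  have hfull : ∀ (X : Subgroup G) (g : G), X = P → Pr X → cj g X ≤ P → g ∈ H := by
    intro X g hX hPX hg
    subst hX
    apply hN X le_rfl hPX
    have h1 : cj g X = X := eq_of_le_of_card_ge hg (by rw [card_cj])
    rw [mem_nrm]
    exact h1
  intro n
  induction n with
  | zero =>
    intro X g hc hX hPX hg
    exact hfull X g (eq_of_le_of_card_ge hX (by omega)) hPX hg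
  | succ n ih =>
    intro X g hc hX hPX hg
    by_cases hXP : X = P
    · exact hfull X g hXP hPX hg
    have hlt : X < P := lt_of_le_of_ne hX hXP
    have h1 := lt_nrm_inf hP.pg hlt
    obtain ⟨Y, hY⟩ : ∃ Y : Subgroup G, Y = P ⊓ normalizer (X : Set G) := ⟨_, rfl⟩
    rw [← hY] at h1
    have hYP : Y ≤ P := by rw [hY]; exact inf_le_left
    have h2 : cj g Y ≤ H := by
      have h3 : cj g Y ≤ normalizer ((cj g X : Subgroup G) : Set G) := by
        rw [← cj_normalizer, hY]
        exact cj_mono inf_le_right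
      exact h3.trans (hN _ hg (hcj g X hPX))
    obtain ⟨a, ha, haP⟩ := hP.exists_conj_le (isPGroup_cj (a := g) (hP.pg.to_le hYP)) h2
    rw [← cj_mul] at haP
    have h4 : Nat.card X < Nat.card Y := by
      by_contra hcon
      exact h1.ne (eq_of_le_of_card_ge h1.le (by omega))
    have h5 := ih Y (a * g) (by omega) hYP (hup _ _ h1.le hPX) haP
    have e : g = a⁻¹ * (a * g) := by group
    rw [e]
    exact mul_mem (inv_mem ha) h5

theorem mem_of_le {Pr : Subgroup G → Prop} (hup : ∀ X Y, X ≤ Y → Pr X → Pr Y)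
    (hcj : ∀ g X, Pr X → Pr (cj g X)) {P H : Subgroup G} (hP : SylIn p P H)
    (hN : ∀ X ≤ P, Pr X → normalizer (X : Set G) ≤ H) {E : Subgroup G} {g : G} (hE : IsPGroup p E)
    (hPE : Pr E) (h1 : E ≤ H) (h2 : cj g E ≤ H) : g ∈ H := by
  obtain ⟨a, ha, haP⟩ := hP.exists_conj_le hE h1
  obtain ⟨b, hb, hbP⟩ := hP.exists_conj_le (isPGroup_cj (a := g) hE) h2
  have h3 : cj (b * g * a⁻¹) (cj a E) ≤ P := by
    rw [← cj_mul]
    have e : b * g * a⁻¹ * a = b * g := by group
    rw [e, cj_mul]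
    exact hbP
  have h4 := mem_of_cj_le hup hcj hP hN (Nat.card P) (cj a E) (b * g * a⁻¹) (by omega) haP
    (hcj a E hPE) h3
  have e : g = b⁻¹ * (b * g * a⁻¹) * a := by group
  rw [e]
  exact mul_mem (mul_mem (inv_mem hb) h4) ha

/-- **S1231** -/
theorem rank_iff_inter {k : ℕ} (hk : 1 ≤ k) {H : Subgroup G} {P : Subgroup G} (hP : SylIn p P H) :
    (∀ X : Subgroup G, X ≤ P → ¬ PRankLE p (k - 1) ↥X → normalizer (X : Set G) ≤ H) ↔
      (∀ g : G, g ∉ H → PRankLE p (k - 1) ↥(H ⊓ cj g H)) := by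
  constructor
  · intro h g hg
    by_contra hcon
    rw [CfsgLib.BGPi.not_rank_iff hp.out] at hcon
    obtain ⟨E, hE, hEe, hEc⟩ := hcon
    apply hg
    have h1 : cj g⁻¹ E ≤ H := by
      have := cj_mono (a := g⁻¹) (hE.trans inf_le_right)
      rwa [cj_inv_cj] at this
    have hEp : IsPGroup p E := IsPGroup.of_card hEc
    have h2 : ¬ PRankLE p (k - 1) E := by
      rw [CfsgLib.BGPi.not_rank_iff hp.out]
      exact ⟨E, le_rfl, hEe, hEc⟩
    have h3 := mem_of_le (Pr := fun X => ¬ PRankLE p (k - 1) ↥X)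
      (fun X Y hXY hX hY => hX (CfsgLib.BGPi.rank_mono hXY hY))
      (fun g X hX hY => hX ((CfsgLib.BGPi.rank_cj (g := g)).1 hY)) hP h hEp h2
      (hE.trans inf_le_left) h1
    exact inv_mem_iff.1 h3
  · intro h X hXP hX n hn
    by_contra hcon
    apply hX
    refine CfsgLib.BGPi.rank_mono ?_ (h n hcon)
    refine le_inf (hXP.trans hP.le) ?_
    rw [← cj_of_mem_nrm hn]
    exact cj_mono (hXP.trans hP.le)

/-- **S1335** -/
theorem sylow_top {H P : Subgroup G} (hP : SylIn p P H) (hN : normalizer (P : Set G) ≤ H) :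
    SylIn p P ⊤ := by
  obtain ⟨T, hPT, hT⟩ := SylIn.exists_ge hP.pg (le_top : P ≤ ⊤)
  by_cases h : P = T
  · rw [h]; exact hT
  · exfalso
    have h1 := lt_nrm_inf hT.pg (lt_of_le_of_ne hPT h)
    have h2 := hP.eq_of_le (hT.pg.to_le inf_le_left) (inf_le_right.trans hN) h1.le
    rw [h2] at h1
    exact lt_irrefl _ h1

/-- **S1243** -/
theorem weakly_closed_controls (T : Sylow p G) {W : Subgroup G} (hW : IsWeaklyClosed W (T : Subgroup G))
    {d g : G} (hd : d ∈ centralizer (W : Set G)) (hgd : g * d * g⁻¹ ∈ centralizer (W : Set G)) :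
    ∃ h ∈ normalizer (W : Set G), h * d * h⁻¹ = g * d * g⁻¹ := by
  have hWp : IsPGroup p W := T.2.to_le hW.1
  have h1 : W ≤ centralizer ({d} : Set G) := by
    intro w hw
    rw [mem_centralizer_singleton_iff]
    exact (mem_centralizer_iff.1 hd w hw)
  have h2 : cj g⁻¹ W ≤ centralizer ({d} : Set G) := by
    rw [cj_le']
    intro w hw
    rw [mem_centralizer_singleton_iff]
    have h3 : w * (g * d * g⁻¹) = (g * d * g⁻¹) * w := mem_centralizer_iff.1 hgd w hw
    calc g⁻¹ * w * g⁻¹⁻¹ * d = g⁻¹ * (w * (g * d * g⁻¹)) * g := by group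
      _ = g⁻¹ * ((g * d * g⁻¹) * w) * g := by rw [h3]
      _ = d * (g⁻¹ * w * g⁻¹⁻¹) := by group
  obtain ⟨R, hWR, hR⟩ := SylIn.exists_ge hWp h1
  obtain ⟨c, hc, hcR⟩ := hR.exists_conj_le (isPGroup_cj (a := g⁻¹) hWp) h2
  rw [← cj_mul] at hcR
  obtain ⟨T', hRT', hT'⟩ := SylIn.exists_ge hR.pg (le_top : R ≤ ⊤)
  obtain ⟨x, -, hx⟩ := (SylIn.ofSylow T).exists_conj hT'
  -- `cj x T' = T`
  have hwc : ∀ y : G, cj y W ≤ T' → cj y W = W := by
    have h3 : cj x W = W := by
      apply hW.2 x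
      change cj x W ≤ T
      rw [← hx]
      exact cj_mono (hWR.trans hRT')
    intro y hy
    have h4 : cj (x * y) W = W := by
      apply hW.2 (x * y)
      change cj (x * y) W ≤ T
      rw [← hx, cj_mul]
      exact cj_mono hy
    rw [cj_mul] at h4
    rw [← h3] at h4
    nth_rw 2 [h3] at h4
    have h5 : cj x (cj y W) = cj x W := by
      rw [h3]
      rw [h3] at h4
      exact h4
    exact cj_inj.1 h5
  have h6 := hwc _ (hcR.trans hRT')
  refine ⟨g * c⁻¹, ?_, ?_⟩
  · have h7 : c * g⁻¹ ∈ normalizer (W : Set G) := by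
      rw [mem_nrm]; exact h6
    have := inv_mem h7
    rwa [mul_inv_rev, inv_inv] at this
  · have h7 : c * d = d * c := mem_centralizer_singleton_iff.1 hc
    have h8 : c⁻¹ * d * c = d := by
      rw [mul_assoc, ← h7]; group
    calc g * c⁻¹ * d * (g * c⁻¹)⁻¹ = g * (c⁻¹ * d * c) * g⁻¹ := by group
      _ = g * d * g⁻¹ := by rw [h8]

/-- **S0214** -/
theorem stronglyEmbedded_iff {H : Subgroup G} (hH : H ≠ ⊤) {P : Subgroup G} (hP : SylIn 2 P H)
    (hne : P ≠ ⊥) : IsStronglyEmbedded H ↔ ∀ X ≤ P, X ≠ ⊥ → normalizer (X : Set G) ≤ H := by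
  haveI : Fact (Nat.Prime 2) := ⟨Nat.prime_two⟩
  have hev : ∀ X : Subgroup G, IsPGroup 2 X → X ≠ ⊥ → 2 ∣ Nat.card X := by
    intro X hX hX1
    obtain ⟨n, hn⟩ := hX.exists_card_eq
    cases n with
    | zero => exact absurd (eq_bot_of_card_le _ (by rw [hn]; simp)) hX1
    | succ n => rw [hn, pow_succ]; exact Dvd.intro_left _ rfl
  constructor
  · rintro ⟨-, -, h3⟩ X hXP hX n hn
    by_contra hcon
    have h4 : X ≤ H ⊓ cj n H := by
      refine le_inf (hXP.trans hP.le) ?_
      rw [← cj_of_mem_nrm hn]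
      exact cj_mono (hXP.trans hP.le)
    have h5 := (hev X (hP.pg.to_le hXP) hX).trans (card_dvd_of_le h4)
    exact (Nat.not_even_iff_odd.2 (h3 n hcon)) (even_iff_two_dvd.2 h5)
  · intro h
    refine ⟨hH, ?_, ?_⟩
    · exact even_iff_two_dvd.2 ((hev P hP.pg hne).trans (card_dvd_of_le hP.le))
    · intro g hg
      by_contra hcon
      rw [Nat.not_odd_iff_even, even_iff_two_dvd] at hcon
      obtain ⟨t, ht⟩ := exists_prime_orderOf_dvd_card' (G := (H ⊓ cj g H : Subgroup G)) 2 hcon
      have ht' : orderOf (t : G) = 2 := by rw [orderOf_coe]; exact ht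
      have hE : IsPGroup 2 (zpowers (t : G)) := IsPGroup.of_card (n := 1) (by rw [Nat.card_zpowers, ht', pow_one])
      have hE1 : zpowers (t : G) ≠ ⊥ := by
        intro h0
        rw [zpowers_eq_bot] at h0
        rw [h0, orderOf_one] at ht'
        omega
      have h1 : zpowers (t : G) ≤ H ⊓ cj g H := zpowers_le.2 t.2
      have h2 : cj g⁻¹ (zpowers (t : G)) ≤ H := by
        have := cj_mono (a := g⁻¹) (h1.trans inf_le_right)
        rwa [cj_inv_cj] at this
      apply hg
      rw [← inv_mem_iff]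
      exact mem_of_le (Pr := fun X => X ≠ ⊥) (fun X Y hXY hX hY => hX (le_bot_iff.1 (hY ▸ hXY)))
        (fun g X hX hY => hX (cj_eq_bot.1 hY)) hP h hE hE1 (h1.trans inf_le_left) h2

/-! ### the commuting graph of elementary abelian subgroups -/

/-- the edge relation -/
def Rl (p : ℕ) (A B : Subgroup G) : Prop := IsElementaryAbelian p A ∧ p ^ 1 ≤ Nat.card ↥A ∧
  IsElementaryAbelian p B ∧ p ^ 1 ≤ Nat.card ↥B ∧ ∀ a ∈ A, ∀ b ∈ B, a * b = b * a

omit [Finite G] hp in
theorem Rl.symm {A B : Subgroup G} (h : Rl p A B) : Rl p B A :=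
  ⟨h.2.2.1, h.2.2.2.1, h.1, h.2.1, fun a ha b hb => (h.2.2.2.2 b hb a ha).symm⟩

omit [Finite G] hp in
theorem Rl.cj {A B : Subgroup G} (h : Rl p A B) (g : G) : Rl p (cj g A) (cj g B) := by
  refine ⟨CfsgLib.BGPi.elab_cj h.1 g, by rw [card_cj]; exact h.2.1, CfsgLib.BGPi.elab_cj h.2.2.1 g,
    by rw [card_cj]; exact h.2.2.2.1, ?_⟩
  intro a ha b hb
  rw [mem_cj] at ha hb
  have h1 := h.2.2.2.2 _ ha _ hb
  calc a * b = g * ((g⁻¹ * a * g) * (g⁻¹ * b * g)) * g⁻¹ := by group
    _ = g * ((g⁻¹ * b * g) * (g⁻¹ * a * g)) * g⁻¹ := by rw [h1]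
    _ = b * a := by group

/-- connectedness -/
def Cn (p : ℕ) : Subgroup G → Subgroup G → Prop := Relation.ReflTransGen (Rl p)

omit [Finite G] hp in
theorem Cn.symm {A B : Subgroup G} (h : Cn p A B) : Cn p B A := by
  unfold Cn at h ⊢
  induction h with
  | refl => exact Relation.ReflTransGen.refl
  | tail _ h ih => exact Relation.ReflTransGen.head h.symm ih

omit [Finite G] hp in
theorem Cn.cj {A B : Subgroup G} (h : Cn p A B) (g : G) : Cn p (cj g A) (cj g B) := by
  unfold Cn at h ⊢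
  induction h with
  | refl => exact Relation.ReflTransGen.refl
  | tail _ h ih => exact Relation.ReflTransGen.tail ih (Rl.cj h g)

/-- all elementary abelian subgroups of a `p`-group are connected -/
theorem conn_of_pgroup {P A B : Subgroup G} (hP : IsPGroup p P) (hA : IsElementaryAbelian p A)
    (hA1 : p ^ 1 ≤ Nat.card A) (hAP : A ≤ P) (hB : IsElementaryAbelian p B)
    (hB1 : p ^ 1 ≤ Nat.card B) (hBP : B ≤ P) : Cn p A B := by
  haveI : Nontrivial P := by
    rw [← Finite.one_lt_card_iff_nontrivial]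
    have h1 := card_le_of_le hAP
    rw [pow_one] at hA1
    exact lt_of_lt_of_le hp.out.one_lt (hA1.trans h1)
  haveI := hP.center_nontrivial
  have h1 : p ∣ Nat.card (center P) := by
    obtain ⟨n, hn⟩ := (hP.to_subgroup (center P)).exists_card_eq
    cases n with
    | zero =>
      rw [pow_zero] at hn
      exact absurd (Finite.one_lt_card (α := center P)) (by omega)
    | succ n => rw [hn, pow_succ]; exact Dvd.intro_left _ rfl
  obtain ⟨z, hz⟩ := exists_prime_orderOf_dvd_card' p h1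
  have hz' : orderOf ((z : P) : G) = p := by rw [orderOf_coe, orderOf_coe]; exact hz
  have hZ : IsElementaryAbelian p (zpowers ((z : P) : G)) := by
    refine ⟨inferInstance, ?_⟩
    rintro a ⟨k, rfl⟩
    change ((((z : P) : G)) ^ k) ^ p = 1
    rw [← zpow_natCast, ← zpow_mul, mul_comm, zpow_mul, zpow_natCast, ← hz', pow_orderOf_eq_one, one_zpow]
  have hZ1 : p ^ 1 ≤ Nat.card (zpowers ((z : P) : G)) := by rw [Nat.card_zpowers, hz', pow_one]
  have hc : ∀ C ≤ P, ∀ c ∈ C, ∀ w ∈ zpowers ((z : P) : G), c * w = w * c := by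
    rintro C hC c hcC w ⟨k, rfl⟩
    have h2 : c * ((z : P) : G) = ((z : P) : G) * c :=
      congrArg Subtype.val (mem_center_iff.1 z.2 ⟨c, hC hcC⟩)
    exact (show Commute c ((z : P) : G) from h2).zpow_right k
  exact Relation.ReflTransGen.trans
    (Relation.ReflTransGen.single ⟨hA, hA1, hZ, hZ1, hc A hAP⟩)
    (Relation.ReflTransGen.single ⟨hZ, hZ1, hB, hB1, fun w hw b hb => (hc B hBP b hb w hw).symm⟩)

theorem exists_elab_of_ne_bot {P : Subgroup G} (hP : IsPGroup p P) (h : P ≠ ⊥) : ∃ A ≤ P,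
    IsElementaryAbelian p A ∧ p ^ 1 ≤ Nat.card A := by
  have h1 : p ∣ Nat.card P := by
    obtain ⟨n, hn⟩ := hP.exists_card_eq
    cases n with
    | zero => exact absurd (eq_bot_of_card_le _ (by rw [hn]; simp)) h
    | succ n => rw [hn, pow_succ]; exact Dvd.intro_left _ rfl
  obtain ⟨z, hz⟩ := exists_prime_orderOf_dvd_card' p h1
  have hz' : orderOf (z : G) = p := by rw [orderOf_coe]; exact hz
  refine ⟨zpowers (z : G), zpowers_le.2 z.2, ⟨inferInstance, ?_⟩, by rw [Nat.card_zpowers, hz', pow_one]⟩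
  rintro a ⟨k, rfl⟩
  change (((z : G)) ^ k) ^ p = 1
  rw [← zpow_natCast, ← zpow_mul, mul_comm, zpow_mul, zpow_natCast, ← hz', pow_orderOf_eq_one, one_zpow]

/-- **S1336** -/
theorem strongly_embedded_iff_disconnected : (∃ H : Subgroup G, H ≠ ⊤ ∧ p ∣ Nat.card ↥H ∧
    ∀ g : G, g ∉ H → ¬ p ∣ Nat.card ↥(H ⊓ cj g H)) ↔ ¬ IsKConnected p 1 G := by
  constructor
  · rintro ⟨H, hH, hpH, hI⟩ hcon
    obtain ⟨g, hg⟩ : ∃ g, g ∉ H := by
      by_contra h
      push Not at h
      exact hH (eq_top_iff.2 fun g _ => h g)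
    obtain ⟨t, ht⟩ := exists_prime_orderOf_dvd_card' (G := H) p hpH
    have hH0 : ∃ A ≤ H, IsElementaryAbelian p A ∧ p ^ 1 ≤ Nat.card A := by
      obtain ⟨A, hA, hA'⟩ := exists_elab_of_ne_bot (p := p) (P := zpowers (t : G))
        (IsPGroup.of_card (n := 1) (by rw [Nat.card_zpowers, orderOf_coe, ht, pow_one])) (by
          intro h0
          rw [zpowers_eq_bot] at h0
          have : orderOf (t : G) = p := by rw [orderOf_coe]; exact ht
          rw [h0, orderOf_one] at this
          exact hp.out.ne_one this.symm)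
      exact ⟨A, hA.trans (zpowers_le.2 t.2), hA'⟩
    obtain ⟨A, hAH, hA, hA1⟩ := hH0
    have hdv : ∀ B : Subgroup G, IsElementaryAbelian p B → p ^ 1 ≤ Nat.card B → p ∣ Nat.card B := by
      intro B hB hB1
      obtain ⟨n, hn⟩ := CfsgLib.BGPi.elab_card hp.out hB
      cases n with
      | zero => rw [hn, pow_zero, pow_one] at hB1; exact absurd hp.out.one_lt (by omega)
      | succ n => rw [hn, pow_succ]; exact Dvd.intro_left _ rfl
    have h1 := hcon A (cj g A) hA hA1 (CfsgLib.BGPi.elab_cj hA g) (by rw [card_cj]; exact hA1)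
    have h2 : ∀ B : Subgroup G, Relation.ReflTransGen (Rl p) A B → B ≤ H := by
      intro B hB
      induction hB with
      | refl => exact hAH
      | tail _ h ih =>
        rename_i C D _
        intro d hd
        by_contra hdH
        apply hI d hdH
        have h3 : cj d C = C := by
          apply cj_of_mem_centralizer
          rw [mem_centralizer_iff]
          exact fun c hc => h.2.2.2.2 c hc d hd
        have h4 : C ≤ H ⊓ cj d H := le_inf ih (by rw [← h3]; exact cj_mono ih)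
        exact (hdv C h.1 h.2.1).trans (card_dvd_of_le h4)
    have h3 := h2 _ h1
    apply hI g hg
    exact (hdv (cj g A) (CfsgLib.BGPi.elab_cj hA g) (by rw [card_cj]; exact hA1)).trans
      (card_dvd_of_le (le_inf h3 (cj_mono hAH)))
  · intro h
    unfold IsKConnected at h
    push Not at h
    obtain ⟨E, E', hE, hE1, hE', hE1', hnc⟩ := h
    obtain ⟨n, hn⟩ := CfsgLib.BGPi.elab_card hp.out hE
    obtain ⟨P, hEP, hP⟩ := SylIn.exists_ge (IsPGroup.of_card hn) (le_top : E ≤ ⊤)
    let H : Subgroup G :=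
      { carrier := {g | Cn p E (cj g E)}
        one_mem' := by
          change Cn p E (cj 1 E)
          rw [cj_one]; exact Relation.ReflTransGen.refl
        mul_mem' := by
          intro a b ha hb
          change Cn p E (cj (a * b) E)
          rw [cj_mul]
          exact Relation.ReflTransGen.trans ha (Cn.cj hb a)
        inv_mem' := by
          intro a ha
          change Cn p E (cj a⁻¹ E)
          have := Cn.cj ha a⁻¹
          rw [cj_inv_cj] at this
          exact this.symm }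
    have hmem : ∀ g, g ∈ H ↔ Cn p E (cj g E) := fun g => Iff.rfl
    have hPH : P ≤ H := by
      intro g hg
      rw [hmem]
      have hc1 : cj g E ≤ P := by
        rw [← cj_of_mem hg]
        exact cj_mono hEP
      have hc2 : p ^ 1 ≤ Nat.card (cj g E) := by rw [card_cj]; exact hE1
      exact conn_of_pgroup hP.pg hE hE1 hEP (CfsgLib.BGPi.elab_cj hE g) hc2 hc1
    have hPHs : SylIn p P H := hP.mono hPH le_top
    have hN : ∀ X ≤ P, X ≠ ⊥ → normalizer (X : Set G) ≤ H := by
      intro X hXP hX n hn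
      rw [hmem]
      obtain ⟨A, hAX, hA, hA1⟩ := exists_elab_of_ne_bot (hP.pg.to_le hXP) hX
      have h1 : Cn p E A := conn_of_pgroup hP.pg hE hE1 hEP hA hA1 (hAX.trans hXP)
      have h2 : cj n A ≤ X := by
        rw [← cj_of_mem_nrm hn]; exact cj_mono hAX
      have h3 : Cn p A (cj n A) := conn_of_pgroup (hP.pg.to_le hXP) hA hA1 hAX
        (CfsgLib.BGPi.elab_cj hA n) (by rw [card_cj]; exact hA1) h2
      exact (h1.trans h3).trans (Cn.cj h1.symm n)
    refine ⟨H, ?_, ?_, ?_⟩
    · intro htop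
      apply hnc
      obtain ⟨n', hn'⟩ := CfsgLib.BGPi.elab_card hp.out hE'
      obtain ⟨g, -, hg⟩ := hP.exists_conj_le (IsPGroup.of_card hn') (le_top : E' ≤ ⊤)
      -- `cj g E' ≤ P`
      have h1 : Cn p E (cj g E') := conn_of_pgroup hP.pg hE hE1 hEP (CfsgLib.BGPi.elab_cj hE' g)
        (by rw [card_cj]; exact hE1') hg
      have h2 : Cn p (cj g⁻¹ E) E' := by
        have := Cn.cj h1 g⁻¹
        rwa [cj_inv_cj] at this
      have h3 : Cn p E (cj g⁻¹ E) := by
        rw [← hmem, htop]; exact mem_top _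
      exact Relation.ReflTransGen.trans h3 h2
    · have h1 : p ∣ Nat.card E := by
        cases n with
        | zero => rw [hn, pow_zero, pow_one] at hE1; exact absurd hp.out.one_lt (by omega)
        | succ n => rw [hn, pow_succ]; exact Dvd.intro_left _ rfl
      exact h1.trans (card_dvd_of_le (hEP.trans hPH))
    · intro g hg hcon
      obtain ⟨t, ht⟩ := exists_prime_orderOf_dvd_card' (G := (H ⊓ cj g H : Subgroup G)) p hcon
      have ht' : orderOf (t : G) = p := by rw [orderOf_coe]; exact ht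
      have hE : IsPGroup p (zpowers (t : G)) := IsPGroup.of_card (n := 1) (by rw [Nat.card_zpowers, ht', pow_one])
      have hE1 : zpowers (t : G) ≠ ⊥ := by
        intro h0
        rw [zpowers_eq_bot] at h0
        rw [h0, orderOf_one] at ht'
        exact hp.out.ne_one ht'.symm
      have h1 : zpowers (t : G) ≤ H ⊓ cj g H := zpowers_le.2 t.2
      have h2 : cj g⁻¹ (zpowers (t : G)) ≤ H := by
        have := cj_mono (a := g⁻¹) (h1.trans inf_le_right)
        rwa [cj_inv_cj] at this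
      apply hg
      rw [← inv_mem_iff]
      exact mem_of_le (Pr := fun X => X ≠ ⊥) (fun X Y hXY hX hY => hX (le_bot_iff.1 (hY ▸ hXY)))
        (fun g X hX hY => hX (cj_eq_bot.1 hY)) hPHs hN hE hE1 (h1.trans inf_le_left) h2

end CfsgLib.Gamma8
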