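import Cfsg.Agent.LibF4c
import Cfsg.Prelude.Def_Steinberg
import Cfsg.Prelude.Def_ChevG2

/-!
The `6`-dimensional representation of the Steinberg group of type `G₂` over the field with four elements.
-/

set_option autoImplicit false
set_option linter.all false
set_option maxRecDepth 100000

namespace CfsgLib.Gfour

open CfsgLib.TC CfsgLib.MC CfsgLib.F4c Cfsg.Lie

abbrev M6 := Matrix (Fin 6) (Fin 6) F4

noncomputable def Xt : ℕ := nat_lit 0x40c10304001000400140810204001000400140410104001000400140010004001000400143010004301000400142010004201000400141010004101000400140010004001000400140213004c0100040014031200480100040014011100440100040014001000400100040014c010804001300400148010c0400120040014401040400110040014001000400100040017001000600100070016001000700100060015001000500100050014001000400100040014001c004001c004001400180040018004001400140040014004001400100040010004001400100340010034001400100240010024001400100140010014001400100040010004001400d0004009000400d4009000400d0004009400500040050004005400100040010004001400100c400102040314001008400103040214001004400101040114001000400100040014001000403100c4801400100040210084c01400100040110044401400100040010004001400100040c100040c1400100040810004081400100040410004041400100040010004001400100040010c04301400100040010804201400100040010404101400100040010004001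

/-- the matrix of the root element with root `r` and coded parameter `t` -/
noncomputable def mX (r t : ℕ) : ℕ := Nat.mod (Nat.div Xt (Nat.pow 2 (Nat.mul 72 (Nat.add (Nat.mul 4 r) t)))) (Nat.pow 2 72)

noncomputable def dc (x : F4) : ℕ := F4.rec (motive := fun _ => ℕ) 0 1 2 3 x

noncomputable def mC (a b : ℕ) : ℕ := mulC 4 add4 mul4 6 a b

noncomputable def oneC : ℕ := scC 4 6 1

noncomputable def wC (w : List (ℕ × F4)) : ℕ :=
  List.rec (motive := fun _ => ℕ) oneC (fun p _ ih => mC (mX p.1 (dc p.2)) ih) w

noncomputable def tM (a : ℕ) : M6 := toM 4 ι4 6 a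

theorem tM_mul (a b : ℕ) : tM (mC a b) = tM a * tM b := toM_mul cod4 6 a b

theorem tM_one : tM oneC = 1 := toM_one cod4

theorem mX_sq : ∀ (r : Fin 12) (t : F4), Nat.beq (mC (mX r.1 (dc t)) (mX r.1 (dc t))) oneC = true := by decide +kernel

noncomputable def gX (r : Fin 12) (t : F4) : M6ˣ where
  val := tM (mX r.1 (dc t))
  inv := tM (mX r.1 (dc t))
  val_inv := by rw [← tM_mul, Nat.eq_of_beq_eq_true (mX_sq r t), tM_one]
  inv_val := by rw [← tM_mul, Nat.eq_of_beq_eq_true (mX_sq r t), tM_one]

theorem r1 : ∀ (r : Fin 12) (t u : F4), Nat.beq (mC (mX r.1 (dc t)) (mX r.1 (dc u))) (mX r.1 (dc (t + u))) = true := by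
  decide +kernel

theorem r2w : ∀ (r s : Fin 12), ∀ c ∈ chevG2.commTerms r.1 s.1, c.1 < 12 := by decide +kernel

theorem r2 : ∀ (r s : Fin 12) (t u : F4), s.1 ≠ r.1 → s.1 ≠ chevG2.neg r.1 →
    Nat.beq (wC [(s.1, u), (r.1, t)]) (wC ((r.1, t) :: (s.1, u) :: chevG2.commWord F4 r.1 s.1 t u)) = true := by
  decide +kernel

theorem negw : ∀ (r : Fin 12), chevG2.neg r.1 < 12 := by decide +kernel

theorem r3 : ∀ (r : Fin 12) (t u : F4), t ≠ 0 → u ≠ 0 →
    Nat.beq (wC (chevG2.hWord r.1 t ++ chevG2.hWord r.1 u)) (wC (chevG2.hWord r.1 (t * u))) = true := by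
  decide +kernel

end CfsgLib.Gfour
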