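import Cfsg.Agent.LibClifford2
import Cfsg.Agent.LibClassAlg
/-!
# The Glauberman correspondence for a p-group of operators (helper20)
Abstract form: `φ : A →* MulAut G`, `C` the subgroup of fixed points.
-/
set_option autoImplicit false
set_option linter.all false
open scoped ComplexConjugate
open Cfsg
namespace CfsgLib.Glaub
open CfsgLib CfsgLib.CharBasic CfsgLib.CharIndA CfsgLib.Clifford

universe u v

section Ideal
/-- numbers integral outside `p'` : `n z` is an algebraic integer for some `n` prime to `p` -/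
def pR (p : ℕ) (z : ℂ) : Prop := ∃ n : ℕ, ¬ p ∣ n ∧ IsIntegral ℤ ((n : ℂ) * z)

/-- `z ≡ 0` modulo `p` in the ring of `p`-integral algebraic numbers -/
def pI (p : ℕ) (z : ℂ) : Prop := ∃ n : ℕ, ¬ p ∣ n ∧ ∃ w : ℂ, IsIntegral ℤ w ∧ (n : ℂ) * z = p * w

variable {p : ℕ} (hp : p.Prime)

theorem isIntegral_nat (n : ℕ) : IsIntegral ℤ (n : ℂ) := by
  have := isIntegral_algebraMap (R := ℤ) (A := ℂ) (x := (n : ℤ))
  simpa using this

theorem isIntegral_int (n : ℤ) : IsIntegral ℤ (n : ℂ) := by
  have := isIntegral_algebraMap (R := ℤ) (A := ℂ) (x := n)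
  simpa using this

include hp in
theorem pR_of_int {z : ℂ} (h : IsIntegral ℤ z) : pR p z :=
  ⟨1, fun h => hp.one_lt.ne' (Nat.dvd_one.mp h), by simpa using h⟩

include hp in
theorem pR_nat (n : ℕ) : pR p (n : ℂ) := pR_of_int hp (isIntegral_nat n)

include hp in
theorem pR_add {z w : ℂ} (hz : pR p z) (hw : pR p w) : pR p (z + w) := by
  obtain ⟨n, hn, hz⟩ := hz
  obtain ⟨m, hm, hw⟩ := hw
  refine ⟨n * m, fun h => ?_, ?_⟩
  · rcases hp.dvd_mul.mp h with h | h
    · exact hn h
    · exact hm h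
  · have : ((n * m : ℕ) : ℂ) * (z + w) = m * (n * z) + n * (m * w) := by push_cast; ring
    rw [this]
    exact ((isIntegral_nat m).mul hz).add ((isIntegral_nat n).mul hw)

include hp in
theorem pR_mul {z w : ℂ} (hz : pR p z) (hw : pR p w) : pR p (z * w) := by
  obtain ⟨n, hn, hz⟩ := hz
  obtain ⟨m, hm, hw⟩ := hw
  refine ⟨n * m, fun h => ?_, ?_⟩
  · rcases hp.dvd_mul.mp h with h | h
    · exact hn h
    · exact hm h
  · have : ((n * m : ℕ) : ℂ) * (z * w) = (n * z) * (m * w) := by push_cast; ring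
    rw [this]
    exact hz.mul hw

include hp in
theorem pR_neg {z : ℂ} (hz : pR p z) : pR p (-z) := by
  have := pR_mul hp (pR_of_int hp (isIntegral_int (-1))) hz
  simpa using this

include hp in
theorem pR_sub {z w : ℂ} (hz : pR p z) (hw : pR p w) : pR p (z - w) := by
  rw [sub_eq_add_neg]; exact pR_add hp hz (pR_neg hp hw)

include hp in
theorem pR_sum {ι : Type*} (s : Finset ι) (f : ι → ℂ) (h : ∀ i ∈ s, pR p (f i)) : pR p (∑ i ∈ s, f i) := by
  classical
  induction s using Finset.induction with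
  | empty => simpa using pR_nat hp 0
  | insert i s hi ih =>
    rw [Finset.sum_insert hi]
    exact pR_add hp (h i (Finset.mem_insert_self i s)) (ih fun j hj => h j (Finset.mem_insert_of_mem hj))

include hp in
theorem pR_inv {n : ℕ} (hn : ¬ p ∣ n) : pR p ((n : ℂ)⁻¹) := by
  refine ⟨n, hn, ?_⟩
  have h0 : (n : ℂ) ≠ 0 := by
    intro h
    apply hn
    have : n = 0 := by exact_mod_cast h
    rw [this]; exact dvd_zero p
  rw [mul_inv_cancel₀ h0]
  exact isIntegral_one

include hp in
theorem pI_zero : pI p 0 := ⟨1, fun h => hp.one_lt.ne' (Nat.dvd_one.mp h), 0, isIntegral_zero, by simp⟩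

include hp in
theorem pI_add {z w : ℂ} (hz : pI p z) (hw : pI p w) : pI p (z + w) := by
  obtain ⟨n, hn, a, ha, hz⟩ := hz
  obtain ⟨m, hm, b, hb, hw⟩ := hw
  refine ⟨n * m, fun h => ?_, m * a + n * b, ?_, ?_⟩
  · rcases hp.dvd_mul.mp h with h | h
    · exact hn h
    · exact hm h
  · exact ((isIntegral_nat m).mul ha).add ((isIntegral_nat n).mul hb)
  · push_cast
    linear_combination (m : ℂ) * hz + (n : ℂ) * hw

include hp in
theorem pI_mul {z w : ℂ} (hz : pI p z) (hw : pR p w) : pI p (z * w) := by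
  obtain ⟨n, hn, a, ha, hz⟩ := hz
  obtain ⟨m, hm, hw⟩ := hw
  refine ⟨n * m, fun h => ?_, a * (m * w), ha.mul hw, ?_⟩
  · rcases hp.dvd_mul.mp h with h | h
    · exact hn h
    · exact hm h
  · push_cast
    linear_combination (m : ℂ) * w * hz

include hp in
theorem pI_mul' {z w : ℂ} (hw : pR p w) (hz : pI p z) : pI p (w * z) := by
  rw [mul_comm]; exact pI_mul hp hz hw

include hp in
theorem pI_neg {z : ℂ} (hz : pI p z) : pI p (-z) := by
  have := pI_mul' hp (pR_of_int hp (isIntegral_int (-1))) hz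
  simpa using this

include hp in
theorem pI_sub {z w : ℂ} (hz : pI p z) (hw : pI p w) : pI p (z - w) := by
  rw [sub_eq_add_neg]; exact pI_add hp hz (pI_neg hp hw)

include hp in
theorem pI_sum {ι : Type*} (s : Finset ι) (f : ι → ℂ) (h : ∀ i ∈ s, pI p (f i)) : pI p (∑ i ∈ s, f i) := by
  classical
  induction s using Finset.induction with
  | empty => simpa using pI_zero hp
  | insert i s hi ih =>
    rw [Finset.sum_insert hi]
    exact pI_add hp (h i (Finset.mem_insert_self i s)) (ih fun j hj => h j (Finset.mem_insert_of_mem hj))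

include hp in
theorem pI_p : pI p (p : ℂ) := ⟨1, fun h => hp.one_lt.ne' (Nat.dvd_one.mp h), 1, isIntegral_one, by simp⟩

include hp in
theorem pI_of_dvd {n : ℕ} (h : p ∣ n) : pI p (n : ℂ) := by
  obtain ⟨m, rfl⟩ := h
  push_cast
  exact pI_mul hp (pI_p hp) (pR_nat hp m)

include hp in
theorem pI_of_dvd_int {n : ℤ} (h : (p : ℤ) ∣ n) : pI p (n : ℂ) := by
  obtain ⟨m, rfl⟩ := h
  push_cast
  exact pI_mul hp (pI_p hp) (pR_of_int hp (isIntegral_int m))

include hp in
/-- an integer which is `≡ 0` is divisible by `p` -/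
theorem dvd_int_of_pI {m : ℤ} (h : pI p (m : ℂ)) : (p : ℤ) ∣ m := by
  obtain ⟨n, hn, w, hw, h⟩ := h
  have hp0 : (p : ℂ) ≠ 0 := by exact_mod_cast hp.ne_zero
  have h1 : w = (((n * m : ℤ) : ℚ) / (p : ℚ) : ℚ) := by
    push_cast
    rw [eq_div_iff hp0, mul_comm w]
    exact h.symm
  have h2 : IsIntegral ℤ ((((n * m : ℤ) : ℚ) / (p : ℚ) : ℚ)) := by
    rw [h1] at hw
    exact (isIntegral_algebraMap_iff (algebraMap ℚ ℂ).injective).mp hw
  obtain ⟨k, hk⟩ := IsIntegrallyClosed.isIntegral_iff.mp h2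
  have hpq : (p : ℚ) ≠ 0 := by exact_mod_cast hp.ne_zero
  have h3 : ((n * m : ℤ) : ℚ) = (p * k : ℤ) := by
    rw [eq_div_iff hpq] at hk
    push_cast
    push_cast at hk
    rw [← hk]
    simp [mul_comm]
  have h4 : (n * m : ℤ) = p * k := by exact_mod_cast h3
  have h5 : (p : ℤ) ∣ n * m := ⟨k, h4⟩
  rcases (Nat.prime_iff_prime_int.mp hp).dvd_or_dvd h5 with h6 | h6
  · exact absurd (Int.natCast_dvd_natCast.mp h6) hn
  · exact h6

include hp in
theorem dvd_of_pI {m : ℕ} (h : pI p (m : ℂ)) : p ∣ m := by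
  have : pI p ((m : ℤ) : ℂ) := by simpa using h
  exact Int.natCast_dvd_natCast.mp (dvd_int_of_pI hp this)

include hp in
theorem pI_mul_nat_cancel {n : ℕ} {z : ℂ} (hn : ¬ p ∣ n) (h : pI p (n * z)) : pI p z := by
  have h0 : (n : ℂ) ≠ 0 := by
    intro h
    apply hn
    have : n = 0 := by exact_mod_cast h
    rw [this]; exact dvd_zero p
  have h1 := pI_mul' hp (pR_inv hp hn) h
  rwa [inv_mul_cancel_left₀ h0] at h1

end Ideal

section Fixed
variable {p : ℕ} (hp : p.Prime)
include hp

/-- sums of invariant functions over a set acted on by a `p`-group -/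
theorem sum_fixed {A X : Type*} [Group A] [Finite A] [Fintype X] [MulAction A X] (hA : IsPGroup p A) (F : X → ℂ)
    (hF : ∀ (a : A) x, F (a • x) = F x) (hint : ∀ x, pR p (F x)) [DecidablePred fun x : X => x ∈ MulAction.fixedPoints A X] :
    pI p (∑ x, F x - ∑ x ∈ Finset.univ.filter (fun x : X => x ∈ MulAction.fixedPoints A X), F x) := by
  classical
  haveI : Fact p.Prime := ⟨hp⟩
  have h1 : ∑ x, F x - ∑ x ∈ Finset.univ.filter (fun x : X => x ∈ MulAction.fixedPoints A X), F x
      = ∑ x ∈ Finset.univ.filter (fun x : X => ¬ x ∈ MulAction.fixedPoints A X), F x := by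
    rw [← Finset.sum_filter_add_sum_filter_not Finset.univ (fun x : X => x ∈ MulAction.fixedPoints A X)]
    ring
  rw [h1]
  rw [← Finset.sum_fiberwise (g := fun x : X => (Quotient.mk (MulAction.orbitRel A X) x))]
  apply pI_sum hp
  intro ω _
  set S := (Finset.univ.filter (fun x : X => ¬ x ∈ MulAction.fixedPoints A X)).filter
    (fun x => (Quotient.mk (MulAction.orbitRel A X) x) = ω) with hS
  by_cases hne : S.Nonempty
  · obtain ⟨x0, hx0⟩ := hne
    rw [hS, Finset.mem_filter, Finset.mem_filter] at hx0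
    obtain ⟨⟨-, hx0⟩, hω⟩ := hx0
    have hmem : ∀ x, x ∈ S ↔ x ∈ MulAction.orbit A x0 := by
      intro x
      rw [hS, Finset.mem_filter, Finset.mem_filter, ← hω]
      constructor
      · rintro ⟨-, h⟩
        exact Quotient.exact h
      · intro h
        refine ⟨⟨Finset.mem_univ _, ?_⟩, Quotient.sound h⟩
        intro hx
        apply hx0
        obtain ⟨a, rfl⟩ := h
        intro b
        have h2 := hx (a * b * a⁻¹)
        have h3 := congrArg (fun z => a⁻¹ • z) h2
        simp only [← mul_smul] at h3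
        have e1 : a⁻¹ * (a * b * a⁻¹ * a) = b := by group
        have e2 : a⁻¹ * a = 1 := by group
        rw [e1, e2, one_smul] at h3
        exact h3
    have hsum : ∑ x ∈ S, F x = (Nat.card (MulAction.orbit A x0) : ℂ) * F x0 := by
      have h2 : ∀ x ∈ S, F x = F x0 := by
        intro x hx
        obtain ⟨a, rfl⟩ := (hmem x).mp hx
        exact hF a x0
      rw [Finset.sum_congr rfl h2, Finset.sum_const, nsmul_eq_mul]
      congr 2
      rw [Nat.card_eq_card_toFinset (MulAction.orbit A x0)]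
      congr 1
      ext x
      rw [hmem, Set.mem_toFinset]
    rw [hsum]
    apply pI_mul hp _ (hint x0)
    apply pI_of_dvd hp
    obtain ⟨k, hk⟩ := hA.card_orbit x0
    rw [hk]
    rcases k with _ | k
    · exfalso
      apply hx0
      rw [pow_zero] at hk
      rw [MulAction.mem_fixedPoints_iff_card_orbit_eq_one]
      rw [← Nat.card_eq_fintype_card]; exact hk
    · exact dvd_pow_self p (Nat.succ_ne_zero k)
  · rw [Finset.not_nonempty_iff_eq_empty.mp hne, Finset.sum_empty]
    exact pI_zero hp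

end Fixed

section Action
variable {G : Type u} [Group G] {A : Type v} [Group A] (φ : A →* MulAut G)

/-- invariance of a function under operators -/
def Inv (f : G → ℂ) : Prop := ∀ (a : A) (g : G), f (φ a g) = f g

/-- fixed points of the operators -/
def fix : Subgroup G where
  carrier := {g | ∀ a, φ a g = g}
  one_mem' := fun a => map_one _
  mul_mem' := fun {x y} hx hy a => by rw [map_mul, hx a, hy a]
  inv_mem' := fun {x} hx a => by rw [map_inv, hx a]

theorem mem_fix {g : G} : g ∈ fix φ ↔ ∀ a, φ a g = g := Iff.rfl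

/-- the underlying action -/
@[reducible] def act : MulAction A G where
  smul a g := φ a g
  one_smul g := by change φ 1 g = g; rw [map_one]; rfl
  mul_smul a b g := by change φ (a * b) g = φ a (φ b g); rw [map_mul]; rfl

theorem act_smul (a : A) (g : G) : (letI := act φ; a • g) = φ a g := rfl

theorem mem_fixedPoints_iff {g : G} : (letI := act φ; g ∈ MulAction.fixedPoints A G) ↔ g ∈ fix φ := Iff.rfl

variable {p : ℕ} (hp : p.Prime)
include hp

theorem sum_fix [Fintype G] [Finite A] (hA : IsPGroup p A) (F : G → ℂ) (hF : ∀ (a : A) x, F (φ a x) = F x)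
    (hint : ∀ x, pR p (F x)) (C : Subgroup G) [Fintype C] (hC : C = fix φ) :
    pI p (∑ x, F x - ∑ x : C, F x) := by
  classical
  letI := act φ
  have h1 := sum_fixed (A := A) (X := G) hp hA F hF hint
  have h2 : ∑ x ∈ Finset.univ.filter (fun x : G => x ∈ MulAction.fixedPoints A G), F x = ∑ x : C, F x := by
    refine Finset.sum_subtype _ (fun x => ?_) F
    rw [Finset.mem_filter, hC]
    exact ⟨fun h => h.2, fun h => ⟨Finset.mem_univ _, h⟩⟩
  rw [h2] at h1
  exact h1

theorem sum_fix' [Fintype G] [Finite A] (hA : IsPGroup p A) (F : G → ℂ) (hF : ∀ (a : A) x, F (φ a x) = F x)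
    (hint : ∀ x, pR p (F x)) [Fintype (fix φ)] :
    pI p (∑ x, F x - ∑ x : fix φ, F x) := sum_fix φ hp hA F hF hint (fix φ) rfl

end Action

section Corr
variable {G : Type u} [Group G] [Fintype G]

theorem irr_dvd {χ : G → ℂ} (h : IsIrrCharacter G χ) : ∃ n k : ℕ, χ 1 = n ∧ Nat.card G = n * k := by
  obtain ⟨k, hk⟩ := CharInt2.charDegree_dvd_card h
  exact ⟨charDegree χ, k, CharInt.irr_one_eq_charDegree h, hk⟩

theorem inner_conv' {a b ψ : G → ℂ} (ha : IsClassFunction G a) (hb : IsClassFunction G b) (hψ : IsIrrCharacter G ψ) :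
    classInner (ClassAlg.conv a b) ψ = (Nat.card G : ℂ) / ψ 1 * classInner a ψ * classInner b ψ := by
  have h1 := ClassAlg.inner_conv (isIrrCharacter_conj hψ) ha hb
  have h2 : (fun g => conj ((fun g => conj (ψ g)) g)) = ψ := by ext g; simp
  rw [h2] at h1
  rw [h1]
  have hG : (Nat.card G : ℂ) ≠ 0 := by exact_mod_cast Nat.card_pos.ne'
  have hψ1 := irr_one_ne_zero hψ
  have h3 : conj (ψ 1) = ψ 1 := by
    obtain ⟨n, -, hn⟩ := irr_one_nat hψ
    rw [hn]; simp
  have h4 : ∀ a : G → ℂ, ClassAlg.omega (fun g => conj (ψ g)) a = (Nat.card G : ℂ) * classInner a ψ / ψ 1 := by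
    intro a
    rw [ClassAlg.omega, classInner, h3, mul_inv_cancel_left₀ hG]
  rw [h4, h4, h3]
  field_simp

theorem conv_irr {χ χ' : G → ℂ} (h : IsIrrCharacter G χ) (h' : IsIrrCharacter G χ') [Decidable (χ = χ')] :
    ClassAlg.conv χ χ' = if χ = χ' then ((Nat.card G : ℂ) / χ 1) • χ else 0 := by
  have hcf : IsClassFunction G (if χ = χ' then ((Nat.card G : ℂ) / χ 1) • χ else 0) := by
    split_ifs
    · exact classFun_smul _ (irr_classFun h)
    · intro g h; rfl
  apply classFun_ext (ClassAlg.conv_classFun (irr_classFun h) (irr_classFun h')) hcf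
  intro ψ hψ
  rw [inner_conv' (irr_classFun h) (irr_classFun h') hψ]
  by_cases e : χ = χ'
  · rw [if_pos e, CharBasic.inner_smul_left, ← e]
    by_cases e2 : χ = ψ
    · rw [← e2, irr_inner_self h]; ring
    · rw [irr_inner_ne h hψ e2]; ring
  · rw [if_neg e, CharBasic.inner_zero_left]
    by_cases e2 : χ = ψ
    · rw [irr_inner_ne h' hψ (fun e3 => e (e2.trans e3.symm))]; ring
    · rw [irr_inner_ne h hψ e2]; ring

theorem card_conj_eq {c d g0 : G} (h0 : g0 * c * g0⁻¹ = d) :
    Nat.card {g : G // g * c * g⁻¹ = d} = Nat.card (Subgroup.centralizer ({c} : Set G)) := by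
  apply Nat.card_congr
  refine ⟨fun g => ⟨g0⁻¹ * g.1, ?_⟩, fun z => ⟨g0 * z.1, ?_⟩, fun g => ?_, fun z => ?_⟩
  · rw [Subgroup.mem_centralizer_iff]
    intro y hy
    rw [Set.mem_singleton_iff.mp hy]
    have h1 := g.2
    have h2 : g.1 * c = g0 * c * g0⁻¹ * g.1 := by rw [h0]; nth_rw 2 [← h1]; group
    calc c * (g0⁻¹ * g.1) = g0⁻¹ * (g0 * c * g0⁻¹ * g.1) := by group
      _ = g0⁻¹ * (g.1 * c) := by rw [h2]
      _ = g0⁻¹ * g.1 * c := by group
  · have h1 := Subgroup.mem_centralizer_iff.mp z.2 c rfl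
    rw [← h0]
    calc g0 * z.1 * c * (g0 * z.1)⁻¹ = g0 * (z.1 * c) * z.1⁻¹ * g0⁻¹ := by group
      _ = g0 * (c * z.1) * z.1⁻¹ * g0⁻¹ := by rw [h1]
      _ = g0 * c * g0⁻¹ := by group
  · apply Subtype.ext; simp
  · apply Subtype.ext; simp

variable {A : Type v} [Group A] [Finite A] (φ : A →* MulAut G) (C : Subgroup G) [Fintype C] (hC : C = fix φ)
  {p : ℕ} (hp : p.Prime) (hA : IsPGroup p A) (hG : ¬ p ∣ Nat.card G)

include hC hp hA hG in
/-- elements of `C` conjugate in `G` are conjugate in `C` -/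
theorem conj_in_fix {c d : C} (h : IsConj (c : G) (d : G)) : IsConj c d := by
  classical
  obtain ⟨g0, hg0⟩ := isConj_iff.mp h
  have hcφ : ∀ a, φ a c = c := fun a => (SetLike.ext_iff.mp hC (c : G)).mp c.2 a
  have hdφ : ∀ a, φ a d = d := fun a => (SetLike.ext_iff.mp hC (d : G)).mp d.2 a
  have h1 := sum_fix φ hp hA (fun g : G => if g * c * g⁻¹ = d then (1 : ℂ) else 0) (fun a x => by
    have : φ a x * c * (φ a x)⁻¹ = d ↔ x * c * x⁻¹ = d := by
      have e1 : φ a x * c * (φ a x)⁻¹ = φ a (x * c * x⁻¹) := by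
        rw [map_mul, map_mul, map_inv, hcφ]
      rw [e1]
      constructor
      · intro h
        rw [← hdφ a] at h
        exact (φ a).injective h
      · intro h
        rw [h, hdφ]
    simp only [this]) (fun x => by
    split_ifs
    · simpa using pR_nat hp 1
    · simpa using pR_nat hp 0) C hC
  by_contra hcon
  have h2 : ∑ x : C, (if (x : G) * c * (x : G)⁻¹ = d then (1 : ℂ) else 0) = 0 := by
    apply Finset.sum_eq_zero
    intro x _
    rw [if_neg]
    intro hx
    exact hcon (isConj_iff.mpr ⟨x, Subtype.ext hx⟩)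
  rw [h2, sub_zero, Finset.sum_boole, ← Fintype.card_subtype, ← Nat.card_eq_fintype_card, card_conj_eq hg0] at h1
  exact hG ((dvd_of_pI hp h1).trans (Subgroup.card_subgroup_dvd_card _))

include hC hp hA hG in
/-- an invariant class meets `C` -/
theorem exists_in_fix {g : G} (h : ∀ a, IsConj g (φ a g)) : ∃ c : C, IsConj g (c : G) := by
  classical
  by_contra hcon
  push Not at hcon
  have h1 := sum_fix φ hp hA (fun x : G => if IsConj g x then (1 : ℂ) else 0) (fun a x => by
    have : IsConj g (φ a x) ↔ IsConj g x := by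
      constructor
      · intro hx
        have h2 := (φ a⁻¹).toMonoidHom.map_isConj (hx)
        have e1 : (φ a⁻¹).toMonoidHom (φ a x) = x := by
          change φ a⁻¹ (φ a x) = x
          rw [← MulAut.mul_apply, ← map_mul, inv_mul_cancel, map_one]; rfl
        rw [e1] at h2
        exact (h a⁻¹).trans h2
      · intro hx
        exact (h a).trans ((φ a).toMonoidHom.map_isConj hx)
    simp only [this]) (fun x => by
    split_ifs
    · simpa using pR_nat hp 1
    · simpa using pR_nat hp 0) C hC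
  rw [Finset.sum_eq_zero (f := fun x : C => if IsConj g (x : G) then (1 : ℂ) else 0) (fun x _ => if_neg (hcon x)), sub_zero,
    Finset.sum_boole, ← Fintype.card_subtype, ← Nat.card_eq_fintype_card] at h1
  have h2 := dvd_of_pI hp h1
  have h3 := CharBasic.card_class_mul_card_centralizer g
  apply hG
  rw [← h3]
  first
    | exact h2.mul_right _
    | exact Dvd.dvd.mul_right h2 _


include hC hp hA in
theorem conv_congr {f f' : G → ℂ} (hf : Inv φ f) (hf' : Inv φ f') (hi : ∀ g, pR p (f g)) (hi' : ∀ g, pR p (f' g)) (c : C) :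
    pI p (ClassAlg.conv f f' c - ClassAlg.conv (fun x : C => f x) (fun x : C => f' x) c) := by
  have hcφ : ∀ a, φ a c = c := fun a => (SetLike.ext_iff.mp hC (c : G)).mp c.2 a
  have h1 := sum_fix φ hp hA (fun x => f x * f' (x⁻¹ * c)) (fun a x => by
    change f (φ a x) * f' ((φ a x)⁻¹ * c) = f x * f' (x⁻¹ * c)
    rw [hf]
    have e1 : (φ a x)⁻¹ * c = φ a (x⁻¹ * c) := by rw [map_mul, map_inv, hcφ]
    rw [e1, hf']) (fun x => pR_mul hp (hi _) (hi' _)) C hC
  exact h1

include hp in
theorem inner_congr {H : Type u} [Group H] [Fintype H] (hH : ¬ p ∣ Nat.card H) {u v β : H → ℂ} (hβ : IsCharacter H β)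
    (h : ∀ x, pI p (u x - v x)) : pI p (classInner u β - classInner v β) := by
  rw [← CharBasic.inner_sub_left, classInner]
  apply pI_mul' hp (pR_inv hp hH)
  apply pI_sum hp
  intro x _
  apply pI_mul hp (h x)
  apply pR_of_int hp
  have := CharBasic.char_isIntegral (CharBasic.isCharacter_conj hβ) x
  exact this

include hp in
theorem char_pR {H : Type u} [Group H] [Finite H] {χ : H → ℂ} (hχ : IsCharacter H χ) (g : H) : pR p (χ g) :=
  pR_of_int hp (CharBasic.char_isIntegral hχ g)

include hC hp hA in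
theorem card_congr : pI p ((Nat.card G : ℂ) - Nat.card C) := by
  have h1 := sum_fix φ hp hA (fun _ => (1 : ℂ)) (fun _ _ => rfl) (fun _ => by simpa using pR_nat hp 1) C hC
  simpa using h1

include hC hp hA hG in
theorem card_fix_not_dvd : ¬ p ∣ Nat.card C := fun h => hG (h.trans (Subgroup.card_subgroup_dvd_card C))

include hC hp hA hG in
/-- basic congruence -/
theorem mult_congr {χ χ' : G → ℂ} (hχ : IsIrrCharacter G χ) (hχ' : IsIrrCharacter G χ') (hi : Inv φ χ) (hi' : Inv φ χ')
    {β : C → ℂ} (hβ : IsIrrCharacter C β) [Decidable (χ = χ')] :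
    pI p ((if χ = χ' then (Nat.card G : ℂ) / χ 1 * classInner (fun c : C => χ c) β else 0) -
      (Nat.card C : ℂ) / β 1 * classInner (fun c : C => χ c) β * classInner (fun c : C => χ' c) β) := by
  have h1 := inner_congr (u := fun c : C => ClassAlg.conv χ χ' c)
    (v := ClassAlg.conv (fun c : C => χ c) (fun c : C => χ' c)) hp (card_fix_not_dvd φ C hC hp hA hG)
    (irr_isCharacter hβ) (fun c => conv_congr φ C hC hp hA hi hi' (char_pR hp (irr_isCharacter hχ))
      (char_pR hp (irr_isCharacter hχ')) c)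
  rw [inner_conv' (classFun_restrict (irr_classFun hχ) C) (classFun_restrict (irr_classFun hχ') C) hβ,
    conv_irr hχ hχ'] at h1
  convert h1 using 2
  split_ifs with h
  · exact (CharBasic.inner_smul_left _ _ _).symm
  · exact (CharBasic.inner_zero_left _).symm

end Corr

section Main
variable {G : Type u} [Group G] [Fintype G]
variable {A : Type v} [Group A] [Finite A] (φ : A →* MulAut G) (C : Subgroup G) [Fintype C] (hC : C = fix φ)
  {p : ℕ} (hp : p.Prime) (hA : IsPGroup p A) (hG : ¬ p ∣ Nat.card G)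

/-- the Glauberman relation: the multiplicity of `β` in the restriction of `χ` is prime to `p` -/
def Star (p : ℕ) (χ : G → ℂ) (β : C → ℂ) : Prop := ∃ m : ℕ, classInner (fun c : C => χ c) β = m ∧ ¬ p ∣ m

include hp in
theorem not_star {χ : G → ℂ} {β : C → ℂ} (hχ : IsCharacter G χ) (hβ : IsCharacter C β) (h : ¬ Star C p χ β) :
    ∃ m : ℕ, classInner (fun c : C => χ c) β = m ∧ p ∣ m := by
  obtain ⟨m, hm⟩ := char_mult (isCharacter_restrict hχ C) hβ
  refine ⟨m, hm, ?_⟩
  by_contra hcon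
  exact h ⟨m, hm, hcon⟩

theorem cast_div_dvd {n k : ℕ} {N : ℕ} (h : N = n * k) (hN : N ≠ 0) : (N : ℂ) / n = k := by
  have : (n : ℂ) ≠ 0 := by
    intro h0
    apply hN
    have : n = 0 := by exact_mod_cast h0
    rw [h, this, zero_mul]
  rw [h]; push_cast
  field_simp

include hC hp hA hG in
/-- different invariant characters give different characters of `C` -/
theorem star_left {χ χ' : G → ℂ} (hχ : IsIrrCharacter G χ) (hχ' : IsIrrCharacter G χ') (hi : Inv φ χ) (hi' : Inv φ χ')
    {β : C → ℂ} (hβ : IsIrrCharacter C β) (h : Star C p χ β) (h' : Star C p χ' β) : χ = χ' := by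
  classical
  by_contra hne
  have h1 := mult_congr φ C hC hp hA hG hχ hχ' hi hi' hβ
  rw [if_neg hne, zero_sub] at h1
  obtain ⟨m, hm, hmp⟩ := h
  obtain ⟨m', hm', hmp'⟩ := h'
  obtain ⟨n, k, hn, hk⟩ := irr_dvd hβ
  rw [hm, hm', hn, cast_div_dvd hk Nat.card_pos.ne'] at h1
  have h2 := pI_neg hp h1
  rw [neg_neg] at h2
  have h3 : p ∣ k * m * m' := dvd_of_pI hp (by push_cast; exact h2)
  have hkp : ¬ p ∣ k := fun h => card_fix_not_dvd φ C hC hp hA hG (by rw [hk]; exact h.mul_left n)
  rcases hp.dvd_mul.mp h3 with h4 | h4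
  · rcases hp.dvd_mul.mp h4 with h5 | h5
    · exact hkp h5
    · exact hmp h5
  · exact hmp' h4

include hp hG in
theorem star_exists {χ : G → ℂ} (hχ : IsIrrCharacter G χ) : ∃ β : C → ℂ, IsIrrCharacter C β ∧ Star C p χ β := by
  by_contra hcon
  push Not at hcon
  obtain ⟨m, hm, hexp, -⟩ := char_expand (isCharacter_restrict (irr_isCharacter hχ) C)
  obtain ⟨n, k, hn, hk⟩ := irr_dvd hχ
  have h1 : pI p (χ 1) := by
    have h2 : χ 1 = ∑ β : IrrCharacter C, (m β : ℂ) * (β : C → ℂ) 1 := by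
      have := congrFun hexp 1
      rw [Finset.sum_apply] at this
      exact this
    rw [h2]
    apply pI_sum hp
    intro β _
    apply pI_mul hp _ (char_pR hp (irr_isCharacter β.2) 1)
    apply pI_of_dvd hp
    by_contra h3
    exact hcon β β.2 ⟨m β, hm β, h3⟩
  rw [hn] at h1
  exact hG (by rw [hk]; exact (dvd_of_pI hp h1).mul_right k)

open Classical in
/-- the class function of `G` extending a class function of `C` -/
noncomputable def extFun (β : C → ℂ) : G → ℂ := fun g => if h : ∃ c : C, IsConj (c : G) g then β h.choose else 0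

include hC hp hA hG in
theorem extFun_eq {β : C → ℂ} (hβ : IsClassFunction C β) {c : C} {g : G} (h : IsConj (c : G) g) : extFun C β g = β c := by
  have hex : ∃ c : C, IsConj (c : G) g := ⟨c, h⟩
  rw [extFun, dif_pos hex]
  have h1 : IsConj hex.choose c := conj_in_fix φ C hC hp hA hG (hex.choose_spec.trans h.symm)
  obtain ⟨x, hx⟩ := isConj_iff.mp h1
  rw [← hx, hβ]

theorem extFun_zero {β : C → ℂ} {g : G} (h : ∀ c : C, ¬ IsConj (c : G) g) : extFun C β g = 0 := by
  rw [extFun, dif_neg]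
  push Not
  exact h

include hC hp hA hG in
theorem extFun_congr {β : C → ℂ} (hβ : IsClassFunction C β) {g g' : G} (h : ∀ c : C, IsConj (c : G) g ↔ IsConj (c : G) g') :
    extFun C β g = extFun C β g' := by
  by_cases hex : ∃ c : C, IsConj (c : G) g
  · obtain ⟨c, hc⟩ := hex
    rw [extFun_eq φ C hC hp hA hG hβ hc, extFun_eq φ C hC hp hA hG hβ ((h c).mp hc)]
  · push Not at hex
    rw [extFun_zero C hex, extFun_zero C (fun c hc => hex c ((h c).mpr hc))]

include hC hp hA hG in
theorem extFun_classFun {β : C → ℂ} (hβ : IsClassFunction C β) : IsClassFunction G (extFun C β) := by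
  intro g h
  apply extFun_congr φ C hC hp hA hG hβ
  intro c
  have : IsConj g (h * g * h⁻¹) := isConj_iff.mpr ⟨h, rfl⟩
  exact ⟨fun h1 => h1.trans this.symm, fun h1 => h1.trans this⟩

include hC hp hA hG in
theorem extFun_inv {β : C → ℂ} (hβ : IsClassFunction C β) : Inv φ (extFun C β) := by
  intro a g
  apply extFun_congr φ C hC hp hA hG hβ
  intro c
  have hcφ : ∀ a, φ a c = c := fun a => (SetLike.ext_iff.mp hC (c : G)).mp c.2 a
  constructor
  · intro h
    have h2 := (φ a⁻¹).toMonoidHom.map_isConj h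
    have e1 : (φ a⁻¹).toMonoidHom (φ a g) = g := by
      change φ a⁻¹ (φ a g) = g
      rw [← MulAut.mul_apply, ← map_mul, inv_mul_cancel, map_one]; rfl
    rw [e1] at h2
    have e2 : (φ a⁻¹).toMonoidHom (c : G) = c := hcφ a⁻¹
    rwa [e2] at h2
  · intro h
    have h2 := (φ a).toMonoidHom.map_isConj h
    have e2 : (φ a).toMonoidHom (c : G) = c := hcφ a
    rwa [e2] at h2

include hp in
theorem extFun_pR {β : C → ℂ} (hβ : IsCharacter C β) (g : G) : pR p (extFun C β g) := by
  rw [extFun]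
  split_ifs with h
  · exact char_pR hp hβ _
  · simpa using pR_nat hp 0

include hp hG in
theorem inner_pR {f χ : G → ℂ} (hf : ∀ g, pR p (f g)) (hχ : IsCharacter G χ) : pR p (classInner f χ) := by
  rw [classInner]
  apply pR_mul hp (pR_inv hp hG)
  apply pR_sum hp
  intro g _
  exact pR_mul hp (hf g) (char_pR hp (isCharacter_conj hχ) g)

include hC hp hA hG in
theorem ext_congr {χ : G → ℂ} (hχ : IsIrrCharacter G χ) (hi : Inv φ χ) {β γ : C → ℂ} (hβ : IsIrrCharacter C β)
    (hγ : IsIrrCharacter C γ) :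
    pI p ((Nat.card G : ℂ) / χ 1 * classInner (extFun C β) χ * classInner (fun c : C => χ c) γ -
      (Nat.card C : ℂ) / γ 1 * classInner β γ * classInner (fun c : C => χ c) γ) := by
  have hcf := extFun_classFun φ C hC hp hA hG (irr_classFun hβ)
  have h1 := inner_congr (u := fun c : C => ClassAlg.conv (extFun C β) χ c)
    (v := ClassAlg.conv (fun c : C => extFun C β c) (fun c : C => χ c)) hp (card_fix_not_dvd φ C hC hp hA hG)
    (irr_isCharacter hγ) (fun c => conv_congr φ C hC hp hA (extFun_inv φ C hC hp hA hG (irr_classFun hβ)) hi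
      (extFun_pR C hp (irr_isCharacter hβ)) (char_pR hp (irr_isCharacter hχ)) c)
  have h2 : (fun c : C => extFun C β c) = β := by
    ext c
    exact extFun_eq φ C hC hp hA hG (irr_classFun hβ) (IsConj.refl _)
  have h3 : ClassAlg.conv (extFun C β) χ = ((Nat.card G : ℂ) / χ 1 * classInner (extFun C β) χ) • χ := by
    apply classFun_ext (ClassAlg.conv_classFun hcf (irr_classFun hχ)) (classFun_smul _ (irr_classFun hχ))
    intro ψ hψ
    rw [inner_conv' hcf (irr_classFun hχ) hψ, CharBasic.inner_smul_left]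
    by_cases e : χ = ψ
    · rw [← e]
    · rw [irr_inner_ne hχ hψ e]; ring
  rw [h2, inner_conv' (irr_classFun hβ) (classFun_restrict (irr_classFun hχ) C) hγ, h3] at h1
  convert h1 using 2
  exact (CharBasic.inner_smul_left _ _ _).symm

include hC hp hA hG in
/-- uniqueness of the Glauberman correspondent -/
theorem star_right {χ : G → ℂ} (hχ : IsIrrCharacter G χ) (hi : Inv φ χ) {β γ : C → ℂ} (hβ : IsIrrCharacter C β)
    (hγ : IsIrrCharacter C γ) (h1 : Star C p χ β) (h2 : Star C p χ γ) : β = γ := by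
  by_contra hne
  obtain ⟨m, hm, hmp⟩ := h1
  obtain ⟨m', hm', hmp'⟩ := h2
  obtain ⟨n, k, hn, hk⟩ := irr_dvd hχ
  obtain ⟨n', k', hn', hk'⟩ := irr_dvd hβ
  have hkp : ¬ p ∣ k := fun h => hG (by rw [hk]; exact h.mul_left n)
  have hkp' : ¬ p ∣ k' := fun h => card_fix_not_dvd φ C hC hp hA hG (by rw [hk']; exact h.mul_left n')
  have e1 := ext_congr φ C hC hp hA hG hχ hi hβ hγ
  have e2 := ext_congr φ C hC hp hA hG hχ hi hβ hβ
  have hcast : (Nat.card G : ℂ) / χ 1 = k := by rw [hn]; exact cast_div_dvd hk Nat.card_pos.ne'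
  have hcast' : (Nat.card C : ℂ) / β 1 = k' := by rw [hn']; exact cast_div_dvd hk' Nat.card_pos.ne'
  rw [irr_inner_ne hβ hγ hne, mul_zero, zero_mul, sub_zero, hcast, hm'] at e1
  rw [irr_inner_self hβ, mul_one, hcast, hcast', hm] at e2
  have e3 : pI p (classInner (extFun C β) χ) := by
    apply pI_mul_nat_cancel hp hkp
    apply pI_mul_nat_cancel hp hmp'
    convert e1 using 1
    ring
  have e4 : pI p ((k' * m : ℕ) : ℂ) := by
    have e5 : pI p ((k : ℂ) * classInner (extFun C β) χ * m) :=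
      pI_mul hp (pI_mul' hp (pR_nat hp k) e3) (pR_nat hp m)
    have := pI_sub hp e5 e2
    convert this using 1
    push_cast
    ring
  rcases hp.dvd_mul.mp (dvd_of_pI hp e4) with h | h
  · exact hkp' h
  · exact hmp h

/-- the action on irreducible characters -/
@[reducible] def irrAct : MulAction A (IrrCharacter G) where
  smul a χ := ⟨(χ : G → ℂ) ∘ (φ a⁻¹), isIrrCharacter_comp_equiv χ.2 (φ a⁻¹)⟩
  one_smul χ := by
    apply Subtype.ext
    change (χ : G → ℂ) ∘ (φ 1⁻¹) = χ
    rw [inv_one, map_one]; rfl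
  mul_smul a b χ := by
    apply Subtype.ext
    change (χ : G → ℂ) ∘ (φ (a * b)⁻¹) = ((χ : G → ℂ) ∘ (φ b⁻¹)) ∘ (φ a⁻¹)
    rw [mul_inv_rev, map_mul]; rfl

theorem irrAct_fixed (χ : IrrCharacter G) :
    (letI := irrAct φ; χ ∈ MulAction.fixedPoints A (IrrCharacter G)) ↔ Inv φ (χ : G → ℂ) := by
  constructor
  · intro h a g
    have h1 := congrArg (fun ψ : IrrCharacter G => (ψ : G → ℂ) g) (h a⁻¹)
    change (χ : G → ℂ) (φ (a⁻¹)⁻¹ g) = (χ : G → ℂ) g at h1
    rwa [inv_inv] at h1
  · intro h a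
    apply Subtype.ext
    ext g
    exact h a⁻¹ g

theorem inner_comp_aut (e : MulAut G) (f f' : G → ℂ) : classInner (f ∘ e) (f' ∘ e) = classInner f f' := ci_equiv e f f'

include hC hp hA hG in
/-- every irreducible character of `C` is a Glauberman correspondent -/
theorem star_surj {β : C → ℂ} (hβ : IsIrrCharacter C β) :
    ∃ χ : G → ℂ, IsIrrCharacter G χ ∧ Inv φ χ ∧ Star C p χ β := by
  classical
  by_contra hcon
  push Not at hcon
  set f := extFun C β with hf
  have hcf := extFun_classFun φ C hC hp hA hG (irr_classFun hβ)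
  have hinv := extFun_inv φ C hC hp hA hG (irr_classFun hβ)
  have h2 : (fun c : C => f c) = β := by
    ext c
    exact extFun_eq φ C hC hp hA hG (irr_classFun hβ) (IsConj.refl _)
  have h3 : ∑ χ : IrrCharacter G, classInner f χ * classInner (fun c : C => (χ : G → ℂ) c) β = 1 := by
    rw [← irr_inner_self hβ]
    conv_rhs => rw [← h2]
    have h4 : (fun c : C => f c) = ∑ χ : IrrCharacter G, classInner f χ • (fun c : C => (χ : G → ℂ) c) := by
      ext c
      rw [Finset.sum_apply]
      have := classFun_expand_apply hcf (c : G)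
      rw [hf, this]
      rfl
    rw [h2] at h4
    conv_rhs => rw [h2]
    conv_rhs => rw [h4]
    rw [CharBasic.inner_sum_left]
    refine Finset.sum_congr rfl fun χ _ => ?_
    rw [CharBasic.inner_smul_left, ← h4]
  letI := irrAct φ
  have h5 := sum_fixed (A := A) (X := IrrCharacter G) hp hA
    (fun χ => classInner f χ * classInner (fun c : C => (χ : G → ℂ) c) β) (fun a χ => by
      change classInner f ((χ : G → ℂ) ∘ (φ a⁻¹)) * classInner (fun c : C => (χ : G → ℂ) (φ a⁻¹ c)) β = _
      have e1 : classInner f ((χ : G → ℂ) ∘ (φ a⁻¹)) = classInner f χ := by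
        have : f = f ∘ (φ a⁻¹) := by ext g; exact (hinv a⁻¹ g).symm
        conv_lhs => rw [this]
        exact inner_comp_aut _ _ _
      have e2 : (fun c : C => (χ : G → ℂ) (φ a⁻¹ c)) = fun c : C => (χ : G → ℂ) c := by
        ext c
        have hcφ : ∀ a, φ a c = c := fun a => (SetLike.ext_iff.mp hC (c : G)).mp c.2 a
        rw [hcφ]
      rw [e1, e2]) (fun χ => by
      apply pR_mul hp (inner_pR hp hG (extFun_pR C hp (irr_isCharacter hβ)) (irr_isCharacter χ.2))
      obtain ⟨m, hm⟩ := char_mult (isCharacter_restrict (irr_isCharacter χ.2) C) (irr_isCharacter hβ)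
      rw [hm]; exact pR_nat hp m)
  rw [h3] at h5
  have h6 : pI p (∑ χ ∈ Finset.univ.filter (fun χ : IrrCharacter G => χ ∈ MulAction.fixedPoints A (IrrCharacter G)),
      classInner f χ * classInner (fun c : C => (χ : G → ℂ) c) β) := by
    apply pI_sum hp
    intro χ hχ
    rw [Finset.mem_filter] at hχ
    have hi := (irrAct_fixed φ χ).mp hχ.2
    obtain ⟨m, hm, hmp⟩ := not_star C hp (irr_isCharacter χ.2) (irr_isCharacter hβ) (hcon χ χ.2 hi)
    rw [hm]
    exact pI_mul' hp (inner_pR hp hG (extFun_pR C hp (irr_isCharacter hβ)) (irr_isCharacter χ.2)) (pI_of_dvd hp hmp)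
  have h7 := pI_add hp h5 h6
  rw [sub_add_cancel] at h7
  have h8 : p ∣ 1 := dvd_of_pI hp (by simpa using h7)
  exact hp.one_lt.ne' (Nat.dvd_one.mp h8)

include hC hp hA hG in
/-- degrees: `χ(1) ≡ m β(1)` -/
theorem degree_congr {χ : G → ℂ} (hχ : IsIrrCharacter G χ) (hi : Inv φ χ) {β : C → ℂ} (hβ : IsIrrCharacter C β)
    {m : ℕ} (hm : classInner (fun c : C => χ c) β = m) (hmp : ¬ p ∣ m) : pI p (χ 1 - m * β 1) := by
  classical
  obtain ⟨M, hM, hexp, -⟩ := char_expand (isCharacter_restrict (irr_isCharacter hχ) C)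
  have h2 : χ 1 = ∑ γ : IrrCharacter C, (M γ : ℂ) * (γ : C → ℂ) 1 := by
    have := congrFun hexp 1
    rw [Finset.sum_apply] at this
    exact this
  have h3 : (M ⟨β, hβ⟩ : ℂ) = m := by rw [← hm, ← hM]
  rw [h2, ← Finset.add_sum_erase _ _ (Finset.mem_univ (⟨β, hβ⟩ : IrrCharacter C)), h3]
  have h4 : pI p (∑ γ ∈ Finset.univ.erase (⟨β, hβ⟩ : IrrCharacter C), (M γ : ℂ) * (γ : C → ℂ) 1) := by
    apply pI_sum hp
    intro γ hγ
    apply pI_mul hp _ (char_pR hp (irr_isCharacter γ.2) 1)
    apply pI_of_dvd hp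
    by_contra hcon
    have := star_right φ C hC hp hA hG hχ hi γ.2 hβ ⟨M γ, hM γ, hcon⟩ ⟨m, hm, hmp⟩
    exact (Finset.mem_erase.mp hγ).1 (Subtype.ext this)
  convert h4 using 1
  change (m : ℂ) * β 1 + _ - _ = _
  ring

include hC hp hA hG in
/-- the multiplicity is `±1` modulo `p` -/
theorem mult_pm_one {χ : G → ℂ} (hχ : IsIrrCharacter G χ) (hi : Inv φ χ) {β : C → ℂ} (hβ : IsIrrCharacter C β)
    {m : ℕ} (hm : classInner (fun c : C => χ c) β = m) (hmp : ¬ p ∣ m) : (p : ℤ) ∣ (m - 1) * (m + 1) := by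
  classical
  have h1 := mult_congr φ C hC hp hA hG hχ hχ hi hi hβ
  rw [if_pos rfl, hm] at h1
  have h2 := degree_congr φ C hC hp hA hG hχ hi hβ hm hmp
  have h3 := card_congr φ C hC hp hA
  obtain ⟨a, k, hn, hk⟩ := irr_dvd hχ
  obtain ⟨b, k', hn', hk'⟩ := irr_dvd hβ
  have ha : ¬ p ∣ a := fun h => hG (by rw [hk]; exact h.mul_right k)
  have hb : ¬ p ∣ b := fun h => card_fix_not_dvd φ C hC hp hA hG (by rw [hk']; exact h.mul_right k')
  rw [hn, hn', cast_div_dvd hk Nat.card_pos.ne', cast_div_dvd hk' Nat.card_pos.ne'] at h1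
  rw [hn, hn'] at h2
  rw [hk, hk'] at h3
  have hkp : ¬ p ∣ k := fun h => hG (by rw [hk]; exact h.mul_left a)
  have e1 : (p : ℤ) ∣ (k * m - k' * m * m) := dvd_int_of_pI hp (by push_cast; exact h1)
  have e2 : (p : ℤ) ∣ (a - m * b) := dvd_int_of_pI hp (by push_cast; exact h2)
  have e3 : (p : ℤ) ∣ (a * k - b * k') := dvd_int_of_pI hp (by push_cast at h3 ⊢; exact h3)
  have hP := Nat.prime_iff_prime_int.mp hp
  have hm' : ¬ (p : ℤ) ∣ m := fun h => hmp (Int.natCast_dvd_natCast.mp h)
  have hk1 : ¬ (p : ℤ) ∣ k := fun h => hkp (Int.natCast_dvd_natCast.mp h)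
  have hb1 : ¬ (p : ℤ) ∣ b := fun h => hb (Int.natCast_dvd_natCast.mp h)
  -- k ≡ k' m
  have e4 : (p : ℤ) ∣ (k - k' * m) := by
    have : (k * m - k' * m * m : ℤ) = (k - k' * m) * m := by ring
    rw [this] at e1
    exact (hP.dvd_or_dvd e1).resolve_right hm'
  -- b k (1 - m^2) = ...
  have e5 : (p : ℤ) ∣ (k * b * ((m - 1) * (m + 1))) := by
    have : (k * b * ((m - 1) * (m + 1)) : ℤ) = -(m * k) * (a - m * b) + m * (a * k - b * k') - b * (k - k' * m) := by ring
    rw [this]
    exact dvd_sub (dvd_add (e2.mul_left _) (e3.mul_left _)) (e4.mul_left _)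
  rcases hP.dvd_or_dvd e5 with h | h
  · rcases hP.dvd_or_dvd h with h | h
    · exact absurd h hk1
    · exact absurd h hb1
  · exact h

end Main
end CfsgLib.Glaub
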