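import Cfsg.Agent.LibMC
import Cfsg.Prelude.Def_Steinberg
import Cfsg.Prelude.Def_ChevG2

/-!
The `7`-dimensional representation of the Steinberg group of type `G₂` over the field with three elements.
-/

set_option autoImplicit false
set_option linter.all false
set_option maxRecDepth 100000

namespace CfsgLib.Gthree

open CfsgLib.TC CfsgLib.MC Cfsg.Lie

abbrev F3 := ZMod 3

instance : Fact (Nat.Prime 3) := ⟨Nat.prime_three⟩

abbrev M7 := Matrix (Fin 7) (Fin 7) F3

noncomputable def Xt : ℕ := nat_lit 0x4e335dbd758eb265e6620c248aae7332c0718a4b3ae043701892cba17e10342d463d83d82618e5fe4b52c3330a1f57a98d652290e007e457800e79efc2e20b71e5e515dbf8307f698ba54b29b0d77b9524ed8da247e0d632f3bac527cb5f3d440bdfd78a507ad4e2b5f640c9396ce96d093a7083d833d84d089aeb3db9ced81197b754c7a3eb08944a2f5d0dc793d84a2bc8e68332096a74682a3d3ec07c17d23831f4494b4474bb0f37297b5cb7f99acef05d539aa4fc5a3f1f9e040860af7f84b434548a8ea77c21520066d7201a816a3a4fce89daa622c445a49df06acf6423093ac53562ecb3d0fa1a56c3fb9101d8f7f6eac293d311e9d8601fe1563a9dbc14d0a9f0de24eda3f9ce4ce1ae9ff4868cdfaf948193cba0c92bca833f5e8f863f21a8fb2e287b183b23ecc057543c3a6926d67d7b15fa69774bf6cef57184c0a0ba0b86c828189e44928004a50be13390ebdff506731f03853896864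

/-- the matrix of the root element with root `r` and coded parameter `t` -/
noncomputable def mX (r t : ℕ) : ℕ := Nat.mod (Nat.div Xt (Nat.pow 239299329230617529590083 (Nat.add (Nat.mul 3 r) t))) 239299329230617529590083

noncomputable def mC (a b : ℕ) : ℕ := mulC 3 (addp 3) (mulp 3) 7 a b

noncomputable def oneC : ℕ := scC 3 7 1

noncomputable def wC (w : List (ℕ × F3)) : ℕ :=
  List.rec (motive := fun _ => ℕ) oneC (fun p _ ih => mC (mX p.1 p.2.val) ih) w

noncomputable def tM (a : ℕ) : M7 := toM 3 (fun a => (a : ZMod 3)) 7 a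

theorem tM_mul (a b : ℕ) : tM (mC a b) = tM a * tM b := toM_mul (cod_zmod 3) 7 a b

theorem tM_one : tM oneC = 1 := toM_one (cod_zmod 3)

theorem mX_sq : ∀ (r : Fin 12) (t : F3), Nat.beq (mC (mX r.1 t.val) (mX r.1 (-t).val)) oneC = true := by decide +kernel

noncomputable def gX (r : Fin 12) (t : F3) : M7ˣ where
  val := tM (mX r.1 t.val)
  inv := tM (mX r.1 (-t).val)
  val_inv := by rw [← tM_mul, Nat.eq_of_beq_eq_true (mX_sq r t), tM_one]
  inv_val := by
    have h := mX_sq r (-t)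
    rw [neg_neg] at h
    rw [← tM_mul, Nat.eq_of_beq_eq_true h, tM_one]

theorem r1 : ∀ (r : Fin 12) (t u : F3), Nat.beq (mC (mX r.1 t.val) (mX r.1 u.val)) (mX r.1 (t + u).val) = true := by
  decide +kernel

theorem r2w : ∀ (r s : Fin 12), ∀ c ∈ chevG2.commTerms r.1 s.1, c.1 < 12 := by decide +kernel

theorem r2 : ∀ (r s : Fin 12) (t u : F3), s.1 ≠ r.1 → s.1 ≠ chevG2.neg r.1 →
    Nat.beq (wC [(s.1, u), (r.1, t)]) (wC ((r.1, t) :: (s.1, u) :: chevG2.commWord F3 r.1 s.1 t u)) = true := by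
  decide +kernel

theorem negw : ∀ (r : Fin 12), chevG2.neg r.1 < 12 := by decide +kernel

theorem r3 : ∀ (r : Fin 12) (t u : F3), t ≠ 0 → u ≠ 0 →
    Nat.beq (wC (chevG2.hWord r.1 t ++ chevG2.hWord r.1 u)) (wC (chevG2.hWord r.1 (t * u))) = true := by
  decide +kernel

end CfsgLib.Gthree
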