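import Cfsg.Agent.LibH6P2B
import Cfsg.Agent.LibDkM29

/-! Element orders of `PSL(2,q)`. -/

set_option autoImplicit false

namespace CfsgLib.H6P2

open Matrix CfsgLib.G2B

universe v

variable {F : Type v} [Field F]

local notation "SL2" => Matrix.SpecialLinearGroup (Fin 2) F
local notation "PSL2" => Matrix.ProjectiveSpecialLinearGroup (Fin 2) F
local notation "M2" => Matrix (Fin 2) (Fin 2) F

theorem sq_one {Y : SL2} (h2 : (2 : F) ≠ 0) (h : Y * Y = 1) : Y = 1 ∨ Y = -1 := by
  have h1 := ch2 Y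
  have h3 : (Y : M2) * (Y : M2) = 1 := by
    rw [← Matrix.SpecialLinearGroup.coe_mul, h, Matrix.SpecialLinearGroup.coe_one]
  rw [h3] at h1
  have hsc : IsSc (Y : M2) := by
    have e00 := congrFun (congrFun h1 0) 0
    have e01 := congrFun (congrFun h1 0) 1
    have e10 := congrFun (congrFun h1 1) 0
    have e11 := congrFun (congrFun h1 1) 1
    simp at e00 e01 e10 e11
    have ht : (Y : M2).trace ≠ 0 := by
      intro h0
      rw [h0] at e00
      apply h2
      linear_combination e00
    refine ⟨?_, ?_, ?_⟩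
    · rcases e01 with h | h
      · exact absurd h ht
      · exact h
    · rcases e10 with h | h
      · exact absurd h ht
      · exact h
    · have h5 : (Y : M2).trace * ((Y : M2) 0 0 - (Y : M2) 1 1) = 0 := by linear_combination e11 - e00
      rcases mul_eq_zero.mp h5 with h6 | h6
      · exact absurd h6 ht
      · exact sub_eq_zero.mp h6
  exact center_sc (mem_center_of_isSc hsc)

theorem mk_one_of_sq {Y : SL2} (h2 : (2 : F) ≠ 0) (h : Y * Y = 1) : (QuotientGroup.mk Y : PSL2) = 1 := by
  rcases sq_one h2 h with h | h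
  · rw [h]; rfl
  · rw [h, neg_mk]; rfl

theorem unip_pow (p : ℕ) [Fact p.Prime] [CharP F p] (Y : SL2) (hY : (Y : M2).trace = 2) : Y ^ p = 1 := by
  have hpp : p.Prime := Fact.out
  have h1 := ch2 Y
  rw [hY] at h1
  have h2 : ((Y : M2) - 1) ^ 2 = 0 := by
    have h3 : (2 : F) • (Y : M2) = (Y : M2) + Y := two_smul F _
    rw [h3] at h1
    rw [pow_two, sub_mul, mul_sub, h1, one_mul, mul_one]
    abel
  have h3 : ((Y : M2) - 1) ^ p = 0 := by
    have h5 : p = 2 + (p - 2) := by have := hpp.two_le; omega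
    rw [h5, pow_add, h2, zero_mul]
  rw [sub_pow_char_of_commute (Commute.one_right (Y : M2)) (p := p), one_pow, sub_eq_zero] at h3
  apply Subtype.ext
  rw [Matrix.SpecialLinearGroup.coe_pow, Matrix.SpecialLinearGroup.coe_one]
  exact h3

theorem unip_mk_pow (p : ℕ) [Fact p.Prime] [CharP F p] (X : SL2) (h4 : (X : M2).trace ^ 2 = 4) :
    (QuotientGroup.mk X : PSL2) ^ p = 1 := by
  have h5 : ((X : M2).trace - 2) * ((X : M2).trace + 2) = 0 := by linear_combination h4
  rcases mul_eq_zero.mp h5 with h6 | h6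
  · rw [← QuotientGroup.mk_pow, unip_pow p X (sub_eq_zero.mp h6)]; rfl
  · rw [← neg_mk, ← QuotientGroup.mk_pow, unip_pow p (-X) ?_]
    · rfl
    · rw [Matrix.SpecialLinearGroup.coe_neg, trace_neg]; linear_combination -h6

/-- a split semisimple element -/
theorem pow_card_pred [Fintype F] (X : SL2) (l : F) (hl : l ^ 2 - (X : M2).trace * l + 1 = 0)
    (h4 : (X : M2).trace ^ 2 ≠ 4) : X ^ (Fintype.card F - 1) = 1 := by
  classical
  set t := (X : M2).trace with ht
  have hl0 : l ≠ 0 := by rintro rfl; simp at hl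
  set m := t - l with hm
  have hlm : l * m = 1 := by rw [hm]; linear_combination -hl
  have hne : l ≠ m := by
    intro h
    apply h4
    rw [← h] at hlm
    have : t = 2 * l := by rw [hm] at h; linear_combination -h
    rw [this]; linear_combination 4 * hlm
  have hcop : IsCoprime (Polynomial.X - Polynomial.C l) (Polynomial.X - Polynomial.C m) :=
    Polynomial.isCoprime_X_sub_C_of_isUnit_sub (sub_ne_zero.mpr hne).isUnit
  have hd : ∀ c : F, (Polynomial.X - Polynomial.C c) ∣ (Polynomial.X ^ Fintype.card F - Polynomial.X : Polynomial F) := by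
    intro c
    rw [Polynomial.dvd_iff_isRoot, Polynomial.IsRoot]
    simp [FiniteField.pow_card]
  have hdvd := hcop.mul_dvd (hd l) (hd m)
  obtain ⟨g, hg⟩ := hdvd
  have h1 : Polynomial.aeval (X : M2) ((Polynomial.X - Polynomial.C l) * (Polynomial.X - Polynomial.C m)) = 0 := by
    simp only [map_mul, map_sub, Polynomial.aeval_X, Polynomial.aeval_C, Algebra.algebraMap_eq_smul_one]
    rw [sub_mul, mul_sub, ch2 X, ← ht, Matrix.smul_mul, one_mul, Matrix.mul_smul, mul_one, smul_sub, smul_smul, hlm]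
    have : t = l + m := by rw [hm]; ring
    rw [this, add_smul, one_smul]
    abel
  have h2 := congrArg (Polynomial.aeval (X : M2)) hg
  rw [map_mul, h1, zero_mul, map_sub, map_pow, Polynomial.aeval_X, sub_eq_zero] at h2
  have h3 : X ^ Fintype.card F = X := Subtype.ext h2
  have h5 : X ^ (Fintype.card F - 1) * X = X := by
    rw [← pow_succ, Nat.sub_add_cancel Fintype.card_pos, h3]
  exact mul_eq_right.mp h5

theorem even_or_odd [Fintype F] : (Nat.gcd 2 (Fintype.card F - 1) = 1 ∧ (2 : F) = 0) ∨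
    (Nat.gcd 2 (Fintype.card F - 1) = 2 ∧ (2 : F) ≠ 0 ∧ Odd (Fintype.card F)) := by
  rcases CfsgLib.Dk29.gcd_cases (Fintype.card F) Fintype.one_lt_card with ⟨h1, h2⟩ | ⟨h1, h2⟩
  · left
    refine ⟨h1, ?_⟩
    by_contra h
    have := FiniteField.odd_card_of_char_ne_two (F := F) (by
      intro h3
      apply h
      have := CharP.cast_eq_zero F (ringChar F)
      rw [h3] at this
      exact_mod_cast this)
    rw [Nat.even_iff] at h2
    omega
  · right
    refine ⟨h1, ?_, h2⟩
    intro h
    have : Even (Fintype.card F) := by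
      have hc : CharP F 2 := (CharP.charP_iff_prime_eq_zero Nat.prime_two).mpr (by exact_mod_cast h)
      rw [Nat.even_iff]
      exact FiniteField.even_card_of_char_two (ringChar.eq F 2)
    exact (Nat.not_even_iff_odd.mpr h2) this

theorem pow_div_of_pow [Fintype F] {X : SL2} {n : ℕ} (hn : n = Fintype.card F - 1 ∨ n = Fintype.card F + 1)
    (h : X ^ n = 1) : (QuotientGroup.mk X : PSL2) ^ (n / Nat.gcd 2 (Fintype.card F - 1)) = 1 := by
  rcases even_or_odd (F := F) with ⟨h1, _⟩ | ⟨h1, h2, h3⟩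
  · rw [h1, Nat.div_one, ← QuotientGroup.mk_pow, h]; rfl
  · rw [h1, ← QuotientGroup.mk_pow]
    apply mk_one_of_sq h2
    rw [← pow_add]
    have : n / 2 + n / 2 = n := by
      obtain ⟨k, hk⟩ := h3
      rcases hn with rfl | rfl <;> omega
    rw [this, h]

/-- the order of an element -/
theorem order_cases [Fintype F] (p : ℕ) [Fact p.Prime] [CharP F p] (g : PSL2) :
    orderOf g ∣ p ∨ orderOf g ∣ (Fintype.card F - 1) / Nat.gcd 2 (Fintype.card F - 1) ∨
      orderOf g ∣ (Fintype.card F + 1) / Nat.gcd 2 (Fintype.card F - 1) := by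
  obtain ⟨X, rfl⟩ := QuotientGroup.mk_surjective g
  by_cases h4 : (X : M2).trace ^ 2 = 4
  · exact Or.inl (orderOf_dvd_of_pow_eq_one (unip_mk_pow p X h4))
  · right
    by_cases hl : ∃ l : F, l ^ 2 - (X : M2).trace * l + 1 = 0
    · obtain ⟨l, hl⟩ := hl
      exact Or.inl (orderOf_dvd_of_pow_eq_one (pow_div_of_pow (Or.inl rfl) (pow_card_pred X l hl h4)))
    · push Not at hl
      exact Or.inr (orderOf_dvd_of_pow_eq_one (pow_div_of_pow (Or.inr rfl) (pow_card_succ X hl)))

theorem p_dvd_card [Fintype F] (p : ℕ) [Fact p.Prime] [CharP F p] : p ∣ Fintype.card F := by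
  obtain ⟨k, hk⟩ := FiniteField.card F p
  rw [hk.2]
  exact dvd_pow_self p k.pos.ne'

theorem not_order_two_p [Fintype F] (p : ℕ) [Fact p.Prime] [CharP F p] (g : PSL2) : orderOf g ≠ 2 * p := by
  intro h
  have hpp : p.Prime := Fact.out
  have hd := p_dvd_card (F := F) p
  have hd1 : Nat.gcd 2 (Fintype.card F - 1) ∣ Fintype.card F - 1 := Nat.gcd_dvd_right _ _
  have hd2 : Nat.gcd 2 (Fintype.card F - 1) ∣ Fintype.card F + 1 := by
    have h1 : Nat.gcd 2 (Fintype.card F - 1) ∣ 2 := Nat.gcd_dvd_left _ _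
    have h2 : Fintype.card F + 1 = (Fintype.card F - 1) + 2 := by
      have := Fintype.card_pos (α := F); omega
    rw [h2]
    exact dvd_add hd1 h1
  rcases order_cases p g with h1 | h1 | h1
  · rw [h] at h1
    have := Nat.le_of_dvd hpp.pos h1
    have := hpp.pos
    omega
  · rw [h] at h1
    have h2 : p ∣ Fintype.card F - 1 := ((Dvd.intro_left 2 rfl).trans h1).trans (Nat.div_dvd_of_dvd hd1)
    have h3 : p ∣ 1 := by
      have := Nat.dvd_sub hd h2
      rwa [Nat.sub_sub_self Fintype.card_pos] at this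
    exact hpp.one_lt.ne' (Nat.dvd_one.mp h3)
  · rw [h] at h1
    have h2 : p ∣ Fintype.card F + 1 := ((Dvd.intro_left 2 rfl).trans h1).trans (Nat.div_dvd_of_dvd hd2)
    have h3 : p ∣ 1 := (Nat.dvd_add_right hd).mp h2
    exact hpp.one_lt.ne' (Nat.dvd_one.mp h3)

theorem omega_psl2 [Fintype F] (p : ℕ) [Fact p.Prime] [CharP F p] (h4 : 4 ≤ Fintype.card F) :
    Set.range (orderOf : PSL2 → ℕ) =
      {m : ℕ | m ∣ p ∨ m ∣ (Fintype.card F - 1) / Nat.gcd 2 (Fintype.card F - 1) ∨ m ∣ (Fintype.card F + 1) / Nat.gcd 2 (Fintype.card F - 1)} := by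
  classical
  have hpp : p.Prime := Fact.out
  have hcard := CfsgLib.Dk29.card_PSL (F := F)
  have hL : CfsgLib.Dk29.LL F ≤ (Matrix.ProjectiveSpecialLinearGroup.toPGL : PSL2 →* _).range := by
    rw [CfsgLib.Dk29.toPGL_range]
  have hcyc : ∀ (T : Subgroup PSL2) (n m : ℕ), IsCyclic T → Nat.card T = n → m ∣ n → ∃ g : PSL2, orderOf g = m := by
    intro T n m hT hn hm
    obtain ⟨t, ht⟩ := hT.exists_generator
    have ho : orderOf t = n := by rw [orderOf_eq_card_of_forall_mem_zpowers ht, hn]
    obtain ⟨k, hk⟩ := hm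
    have hn0 : 0 < n := by rw [← hn]; exact Nat.card_pos
    have hk0 : k ≠ 0 := by rintro rfl; rw [mul_zero] at hk; omega
    refine ⟨((t ^ k : T) : PSL2), ?_⟩
    rw [Subgroup.orderOf_coe, orderOf_pow, ho, hk, Nat.gcd_eq_right (Dvd.intro_left m rfl),
      Nat.mul_div_cancel _ (Nat.pos_of_ne_zero hk0)]
  ext m
  constructor
  · rintro ⟨g, rfl⟩
    exact order_cases p g
  · rintro (h | h | h)
    · rcases (Nat.dvd_prime hpp).mp h with rfl | rfl
      · exact ⟨1, orderOf_one⟩
      · have hdvd : m ∣ Nat.card PSL2 := by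
          have h1 : m ∣ Nat.gcd 2 (Fintype.card F - 1) * Nat.card PSL2 := by
            rw [hcard]; exact (p_dvd_card m).mul_right _
          rcases (hpp.dvd_mul).mp h1 with h2 | h2
          · exfalso
            have h3 : m ∣ Fintype.card F - 1 := h2.trans (Nat.gcd_dvd_right _ _)
            have h5 : m ∣ 1 := by
              have := Nat.dvd_sub (p_dvd_card (F := F) m) h3
              rwa [Nat.sub_sub_self Fintype.card_pos] at this
            exact hpp.one_lt.ne' (Nat.dvd_one.mp h5)
          · exact h2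
        exact exists_prime_orderOf_dvd_card' m hdvd
    · obtain ⟨T, N, hT, hd⟩ := CfsgLib.Dk29.split_torus (F := F) (Matrix.ProjectiveSpecialLinearGroup.toPGL : PSL2 →* _)
        Matrix.ProjectiveSpecialLinearGroup.toPGL_injective hL _ hcard
      by_cases h2 : 2 ≤ (Fintype.card F - 1) / Nat.gcd 2 (Fintype.card F - 1)
      · have hT' := hT h2
        exact hcyc T _ m hT'.cyc hT'.card h
      · have h5 : 0 < (Fintype.card F - 1) / Nat.gcd 2 (Fintype.card F - 1) := by
          apply Nat.div_pos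
          · exact Nat.le_of_dvd (by omega) hd
          · exact Nat.gcd_pos_of_pos_left _ (by norm_num)
        have h6 : (Fintype.card F - 1) / Nat.gcd 2 (Fintype.card F - 1) = 1 := by omega
        rw [h6, Nat.dvd_one] at h
        exact ⟨1, by rw [orderOf_one, h]⟩
    · obtain ⟨T, N, hT, _⟩ := CfsgLib.Dk29.nonsplit_torus (F := F) (Matrix.ProjectiveSpecialLinearGroup.toPGL : PSL2 →* _)
        Matrix.ProjectiveSpecialLinearGroup.toPGL_injective hL _ hcard
      exact hcyc T _ m hT.cyc hT.card h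

end CfsgLib.H6P2
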