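import Cfsg.Agent.LibGthree2
import Cfsg.Agent.S2475

/-!
Centralizers of elements of order `7` and `13` in `G₂(3)`; the prime graph.
-/

set_option autoImplicit false
set_option linter.all false
set_option maxRecDepth 100000

namespace CfsgLib.Gthree

open CfsgLib.TC CfsgLib.MC Cfsg.Lie Matrix

/-! ### matrices commuting with a cyclic matrix -/

theorem cent_poly (Y C J : M7) (hJ : (Matrix.of fun i j : Fin 7 => (Y ^ j.1) i 6) * J = 1) (hC : C * Y = Y * C) :
    ∃ a : Fin 7 → F3, C = ∑ j : Fin 7, a j • Y ^ j.1 := by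
  set B : M7 := Matrix.of fun i j : Fin 7 => (Y ^ j.1) i 6 with hB
  have hJ' : J * B = 1 := _root_.mul_eq_one_comm.1 hJ
  obtain ⟨a, ha⟩ : ∃ a : Fin 7 → F3, B *ᵥ a = fun i => C i 6 :=
    ⟨J *ᵥ fun i => C i 6, by rw [Matrix.mulVec_mulVec, hJ, Matrix.one_mulVec]⟩
  refine ⟨a, ?_⟩
  set p : M7 := ∑ j : Fin 7, a j • Y ^ j.1 with hp
  have hCY : ∀ k : ℕ, C * Y ^ k = Y ^ k * C := by
    intro k
    exact (Commute.pow_right (show Commute C Y from hC) k)
  have hpY : ∀ k : ℕ, p * Y ^ k = Y ^ k * p := by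
    intro k
    rw [hp, Finset.sum_mul, Finset.mul_sum]
    apply Finset.sum_congr rfl
    intro j _
    rw [smul_mul_assoc, mul_smul_comm, ← pow_add, ← pow_add, add_comm]
  have h6 : ∀ i, C i 6 = p i 6 := by
    intro i
    have h1 := congrFun ha i
    rw [← h1, hp, Matrix.sum_apply]
    simp only [Matrix.mulVec, dotProduct, hB, Matrix.of_apply, Matrix.smul_apply, smul_eq_mul]
    exact Finset.sum_congr rfl fun j _ => mul_comm _ _
  have h7 : C * B = p * B := by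
    ext i j
    have e1 : (C * B) i j = (C * Y ^ j.1) i 6 := rfl
    have e2 : (p * B) i j = (p * Y ^ j.1) i 6 := rfl
    rw [e1, e2, hCY, hpY, Matrix.mul_apply, Matrix.mul_apply]
    exact Finset.sum_congr rfl fun l _ => by rw [h6]
  calc C = C * (B * J) := by rw [hJ, mul_one]
    _ = p * (B * J) := by rw [← mul_assoc, h7, mul_assoc]
    _ = p := by rw [hJ, mul_one]

/-! ### the two elements -/

noncomputable def PL7 : List ℕ := [79778602595634228233767, 141843489433810925171976, 13523406023928251826324, 772089481970829777024, 109769553821446099092, 984826927929546972555, 26589292644716366706124]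
noncomputable def PL13 : List ℕ := [79778602595634228233767, 133004423639381428287372, 39474886176259107228871, 131818485390919439268005, 203825200492730259950550, 13464629327560025154771, 547247786920492392072, 219988910353320721566, 1662661644359605464429, 64595562528846658110710, 228951904418519709562933, 152036282995505845637187, 35540949733633043593936]
noncomputable def P7 (k : ℕ) : ℕ := List.getD PL7 k 0
noncomputable def P13 (k : ℕ) : ℕ := List.getD PL13 k 0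
noncomputable def J7 : ℕ := 14775016762357584443937
noncomputable def J13 : ℕ := 18936492625091688323936

theorem P7_zero : Nat.beq (P7 0) oneC = true := by decide +kernel
theorem P13_zero : Nat.beq (P13 0) oneC = true := by decide +kernel
theorem P7_succ : ∀ k : Fin 6, Nat.beq (mC (P7 k.1) (P7 1)) (P7 (k.1 + 1)) = true := by decide +kernel
theorem P13_succ : ∀ k : Fin 12, Nat.beq (mC (P13 k.1) (P13 1)) (P13 (k.1 + 1)) = true := by decide +kernel
theorem P7_last : Nat.beq (mC (P7 6) (P7 1)) oneC = true := by decide +kernel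
theorem P13_last : Nat.beq (mC (P13 12) (P13 1)) oneC = true := by decide +kernel

noncomputable def Y7 : M7 := tM (P7 1)
noncomputable def Y13 : M7 := tM (P13 1)

theorem Y7_pow (k : ℕ) (hk : k < 7) : Y7 ^ k = tM (P7 k) := by
  induction k with
  | zero => rw [pow_zero, Nat.eq_of_beq_eq_true P7_zero, tM_one]
  | succ k ih =>
    rw [pow_succ, ih (by omega), Y7, ← tM_mul]
    exact congrArg tM (Nat.eq_of_beq_eq_true (P7_succ ⟨k, by omega⟩))

theorem Y13_pow (k : ℕ) (hk : k < 13) : Y13 ^ k = tM (P13 k) := by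
  induction k with
  | zero => rw [pow_zero, Nat.eq_of_beq_eq_true P13_zero, tM_one]
  | succ k ih =>
    rw [pow_succ, ih (by omega), Y13, ← tM_mul]
    exact congrArg tM (Nat.eq_of_beq_eq_true (P13_succ ⟨k, by omega⟩))

theorem Y7_seven : Y7 ^ 7 = 1 := by
  rw [pow_succ, Y7_pow 6 (by norm_num), Y7, ← tM_mul, Nat.eq_of_beq_eq_true P7_last, tM_one]

theorem Y13_thirteen : Y13 ^ 13 = 1 := by
  rw [pow_succ, Y13_pow 12 (by norm_num), Y13, ← tM_mul, Nat.eq_of_beq_eq_true P13_last, tM_one]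

/-! ### evaluation of linear combinations -/

/-- entries of a linear combination -/
noncomputable def cN (P : ℕ → ℕ) (a : Fin 7 → ℕ) (c : Fin 7) (i : Fin 7) : ℕ :=
  a 0 * dig 3 (P 0) (7 * i.1 + c.1) + a 1 * dig 3 (P 1) (7 * i.1 + c.1) + a 2 * dig 3 (P 2) (7 * i.1 + c.1) +
  a 3 * dig 3 (P 3) (7 * i.1 + c.1) + a 4 * dig 3 (P 4) (7 * i.1 + c.1) + a 5 * dig 3 (P 5) (7 * i.1 + c.1) +
  a 6 * dig 3 (P 6) (7 * i.1 + c.1)

noncomputable def cond (P : ℕ → ℕ) (a : Fin 7 → ℕ) (x y z : Fin 7) : Bool :=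
  Nat.beq ((tri (cN P a x) (cN P a y) (cN P a z)) % 3) ((tri (iN x) (iN y) (iN z)) % 3)

theorem cond_of_pres (P : ℕ → ℕ) (Y : M7) (hY : ∀ k < 7, Y ^ k = tM (P k)) (a : Fin 7 → F3)
    (h : PresM (∑ j : Fin 7, a j • Y ^ j.1)) (x y z : Fin 7) : cond P (fun i => (a i).val) x y z = true := by
  have hcol : ∀ c : Fin 7, (∑ j : Fin 7, a j • Y ^ j.1) *ᵥ eb c =
      fun i => ((cN P (fun i => (a i).val) c i : ℕ) : F3) := by
    intro c
    funext i
    rw [Matrix.mulVec_single_one]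
    change (∑ j : Fin 7, a j • Y ^ j.1) i c = _
    rw [Matrix.sum_apply, Fin.sum_univ_seven]
    have e : ∀ j : Fin 7, (a j • Y ^ j.1) i c = a j * ((dig 3 (P j.1) (7 * i.1 + c.1) : ℕ) : F3) := by
      intro j
      rw [Matrix.smul_apply, hY j.1 j.2, smul_eq_mul]
      rfl
    rw [e, e, e, e, e, e, e]
    unfold cN
    push_cast
    simp only [ZMod.natCast_zmod_val]
    rfl
  have h1 := h (eb x) (eb y) (eb z)
  rw [hcol, hcol, hcol, eb_eq, eb_eq, eb_eq, ← cast_tri, ← cast_tri] at h1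
  have h2 := (ZMod.natCast_eq_natCast_iff _ _ 3).1 h1
  unfold cond
  rw [Nat.beq_eq]
  exact h2

/-! ### the search -/

noncomputable def vec (a b c d e f g : ℕ) : Fin 7 → ℕ := ![a, b, c, d, e, f, g]

theorem srch7 : ∀ a b c d e f g : Fin 3,
    (!(cond P7 ![a.1, b.1, c.1, d.1, e.1, f.1, g.1] 0 1 2) || !(cond P7 ![a.1, b.1, c.1, d.1, e.1, f.1, g.1] 0 3 4) ||
      !(cond P7 ![a.1, b.1, c.1, d.1, e.1, f.1, g.1] 0 3 6) || !(cond P7 ![a.1, b.1, c.1, d.1, e.1, f.1, g.1] 0 1 3) ||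
      !(cond P7 ![a.1, b.1, c.1, d.1, e.1, f.1, g.1] 0 1 5) ||
      decide ((a, b, c, d, e, f, g) ∈ ([(1, 0, 0, 0, 0, 0, 0), (0, 1, 0, 0, 0, 0, 0), (0, 0, 1, 0, 0, 0, 0),
        (0, 0, 0, 1, 0, 0, 0), (0, 0, 0, 0, 1, 0, 0), (0, 0, 0, 0, 0, 1, 0), (0, 0, 0, 0, 0, 0, 1)] :
        List (Fin 3 × Fin 3 × Fin 3 × Fin 3 × Fin 3 × Fin 3 × Fin 3)))) = true := by
  decide +kernel

theorem srch13 : ∀ a b c d e f g : Fin 3,
    (!(cond P13 ![a.1, b.1, c.1, d.1, e.1, f.1, g.1] 1 3 5) || !(cond P13 ![a.1, b.1, c.1, d.1, e.1, f.1, g.1] 0 2 5) ||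
      !(cond P13 ![a.1, b.1, c.1, d.1, e.1, f.1, g.1] 0 1 2) || !(cond P13 ![a.1, b.1, c.1, d.1, e.1, f.1, g.1] 0 1 3) ||
      decide ((a, b, c, d, e, f, g) ∈ ([(1, 0, 0, 0, 0, 0, 0), (0, 1, 0, 0, 0, 0, 0), (0, 0, 1, 0, 0, 0, 0),
        (0, 0, 0, 1, 0, 0, 0), (0, 0, 0, 0, 1, 0, 0), (0, 0, 0, 0, 0, 1, 0), (0, 0, 0, 0, 0, 0, 1),
        (0, 2, 2, 1, 1, 2, 2), (1, 0, 1, 2, 0, 1, 2), (1, 1, 0, 0, 2, 2, 1), (1, 2, 2, 0, 0, 1, 1),
        (2, 1, 0, 2, 1, 0, 1), (2, 2, 1, 1, 2, 2, 0)] :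
        List (Fin 3 × Fin 3 × Fin 3 × Fin 3 × Fin 3 × Fin 3 × Fin 3)))) = true := by
  decide +kernel

end CfsgLib.Gthree
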