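import Cfsg.Agent.LibGthree3

/-!
`G₂(3)` and `L₂(13)` have the same prime graph.
-/

set_option autoImplicit false
set_option linter.all false
set_option maxRecDepth 100000

namespace CfsgLib.Gthree

open CfsgLib.TC CfsgLib.MC Cfsg.Lie

theorem J7_chk : (Matrix.of fun i j : Fin 7 => tM (P7 j.1) i 6) * tM J7 = 1 := by decide +kernel
theorem J13_chk : (Matrix.of fun i j : Fin 7 => tM (P13 j.1) i 6) * tM J13 = 1 := by decide +kernel

/-- linear combination of the first seven powers -/
noncomputable def lc (P : ℕ → ℕ) (a : Fin 7 → F3) : M7 := ∑ j : Fin 7, a j • tM (P j.1)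

noncomputable def lcN (P : ℕ → ℕ) (a : Fin 7 → ℕ) (c : ℕ) : Bool :=
  (List.finRange 7).all fun i => (List.finRange 7).all fun j =>
    Nat.beq (cN P a j i % 3) (dig 3 c (7 * i.1 + j.1))

theorem lc_of_chk (P : ℕ → ℕ) (a : Fin 7 → F3) (c : ℕ) (h : lcN P (fun i => (a i).val) c = true) :
    lc P a = tM c := by
  ext i j
  unfold lcN at h
  have h1 := List.all_eq_true.1 (List.all_eq_true.1 h i (List.mem_finRange i)) j (List.mem_finRange j)
  have h2 := Nat.eq_of_beq_eq_true h1
  have h3 : lc P a i j = ((cN P (fun i => (a i).val) j i : ℕ) : F3) := by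
    unfold lc
    rw [Matrix.sum_apply, Fin.sum_univ_seven]
    unfold cN
    push_cast
    simp only [ZMod.natCast_zmod_val, Matrix.smul_apply, smul_eq_mul]
    rfl
  rw [h3]
  have h4 : tM c i j = ((dig 3 c (7 * i.1 + j.1) : ℕ) : F3) := rfl
  rw [h4, ← h2, ZMod.natCast_mod]

theorem prod7 {α : Type*} {a b c d e f g a' b' c' d' e' f' g' : α}
    (h : (a, b, c, d, e, f, g) = (a', b', c', d', e', f', g')) :
    a = a' ∧ b = b' ∧ c = c' ∧ d = d' ∧ e = e' ∧ f = f' ∧ g = g' :=
  ⟨congrArg (fun x => x.1) h, congrArg (fun x => x.2.1) h, congrArg (fun x => x.2.2.1) h,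
    congrArg (fun x => x.2.2.2.1) h, congrArg (fun x => x.2.2.2.2.1) h, congrArg (fun x => x.2.2.2.2.2.1) h,
    congrArg (fun x => x.2.2.2.2.2.2) h⟩

theorem cent7 (C : M7) (hC : C * Y7 = Y7 * C) (hp : PresM C) : C ^ 7 = 1 := by
  obtain ⟨a, ha⟩ := cent_poly Y7 C (tM J7) (by
    have : (Matrix.of fun i j : Fin 7 => (Y7 ^ j.1) i 6) = Matrix.of fun i j : Fin 7 => tM (P7 j.1) i 6 := by
      ext i j
      rw [Matrix.of_apply, Matrix.of_apply, Y7_pow j.1 j.2]
    rw [this]; exact J7_chk) hC
  rw [ha] at hp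
  have hc := cond_of_pres P7 Y7 (fun k hk => Y7_pow k hk) a hp
  have hs := srch7 (a 0) (a 1) (a 2) (a 3) (a 4) (a 5) (a 6)
  have hv : (![(a 0 : Fin 3).1, (a 1 : Fin 3).1, (a 2 : Fin 3).1, (a 3 : Fin 3).1, (a 4 : Fin 3).1, (a 5 : Fin 3).1,
      (a 6 : Fin 3).1] : Fin 7 → ℕ) = fun i => (a i).val := by
    funext i; fin_cases i <;> rfl
  rw [hv, hc, hc, hc, hc, hc] at hs
  simp only [Bool.not_true, Bool.false_or, decide_eq_true_eq, List.mem_cons, List.not_mem_nil, or_false] at hs
  have hpow : ∀ k : ℕ, (Y7 ^ k) ^ 7 = 1 := by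
    intro k
    rw [← pow_mul, mul_comm, pow_mul, Y7_seven, one_pow]
  have hcase : ∀ k : Fin 7, (∀ j, a j = if j = k then 1 else 0) → C ^ 7 = 1 := by
    intro k hk
    rw [ha]
    have : ∑ j : Fin 7, a j • Y7 ^ j.1 = Y7 ^ k.1 := by
      rw [Finset.sum_eq_single k]
      · rw [hk, if_pos rfl, one_smul]
      · intro j _ hj
        rw [hk, if_neg hj, zero_smul]
      · intro h; exact absurd (Finset.mem_univ k) h
    rw [this, hpow]
  rcases hs with h | h | h | h | h | h | h <;>
    (obtain ⟨h0, h1, h2, h3, h4, h5, h6⟩ := prod7 h)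
  · exact hcase 0 (fun j => by fin_cases j; exacts [h0, h1, h2, h3, h4, h5, h6])
  · exact hcase 1 (fun j => by fin_cases j; exacts [h0, h1, h2, h3, h4, h5, h6])
  · exact hcase 2 (fun j => by fin_cases j; exacts [h0, h1, h2, h3, h4, h5, h6])
  · exact hcase 3 (fun j => by fin_cases j; exacts [h0, h1, h2, h3, h4, h5, h6])
  · exact hcase 4 (fun j => by fin_cases j; exacts [h0, h1, h2, h3, h4, h5, h6])
  · exact hcase 5 (fun j => by fin_cases j; exacts [h0, h1, h2, h3, h4, h5, h6])
  · exact hcase 6 (fun j => by fin_cases j; exacts [h0, h1, h2, h3, h4, h5, h6])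

theorem k13 : lcN P13 ![0, 2, 2, 1, 1, 2, 2] (P13 7) = true ∨ lcN P13 ![0, 2, 2, 1, 1, 2, 2] (P13 8) = true ∨
    lcN P13 ![0, 2, 2, 1, 1, 2, 2] (P13 9) = true ∨ lcN P13 ![0, 2, 2, 1, 1, 2, 2] (P13 10) = true ∨
    lcN P13 ![0, 2, 2, 1, 1, 2, 2] (P13 11) = true ∨ lcN P13 ![0, 2, 2, 1, 1, 2, 2] (P13 12) = true := by
  decide +kernel

theorem all13 : (∃ k : Fin 13, lcN P13 ![1, 0, 0, 0, 0, 0, 0] (P13 k.1) = true) ∧
    (∃ k : Fin 13, lcN P13 ![0, 1, 0, 0, 0, 0, 0] (P13 k.1) = true) ∧
    (∃ k : Fin 13, lcN P13 ![0, 0, 1, 0, 0, 0, 0] (P13 k.1) = true) ∧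
    (∃ k : Fin 13, lcN P13 ![0, 0, 0, 1, 0, 0, 0] (P13 k.1) = true) ∧
    (∃ k : Fin 13, lcN P13 ![0, 0, 0, 0, 1, 0, 0] (P13 k.1) = true) ∧
    (∃ k : Fin 13, lcN P13 ![0, 0, 0, 0, 0, 1, 0] (P13 k.1) = true) ∧
    (∃ k : Fin 13, lcN P13 ![0, 0, 0, 0, 0, 0, 1] (P13 k.1) = true) ∧
    (∃ k : Fin 13, lcN P13 ![0, 2, 2, 1, 1, 2, 2] (P13 k.1) = true) ∧
    (∃ k : Fin 13, lcN P13 ![1, 0, 1, 2, 0, 1, 2] (P13 k.1) = true) ∧
    (∃ k : Fin 13, lcN P13 ![1, 1, 0, 0, 2, 2, 1] (P13 k.1) = true) ∧
    (∃ k : Fin 13, lcN P13 ![1, 2, 2, 0, 0, 1, 1] (P13 k.1) = true) ∧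
    (∃ k : Fin 13, lcN P13 ![2, 1, 0, 2, 1, 0, 1] (P13 k.1) = true) ∧
    (∃ k : Fin 13, lcN P13 ![2, 2, 1, 1, 2, 2, 0] (P13 k.1) = true) := by
  decide +kernel

theorem cent13 (C : M7) (hC : C * Y13 = Y13 * C) (hp : PresM C) : C ^ 13 = 1 := by
  obtain ⟨a, ha⟩ := cent_poly Y13 C (tM J13) (by
    have : (Matrix.of fun i j : Fin 7 => (Y13 ^ j.1) i 6) = Matrix.of fun i j : Fin 7 => tM (P13 j.1) i 6 := by
      ext i j
      rw [Matrix.of_apply, Matrix.of_apply, Y13_pow j.1 (by omega)]
    rw [this]; exact J13_chk) hC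
  rw [ha] at hp
  have hc := cond_of_pres P13 Y13 (fun k hk => Y13_pow k (by omega)) a hp
  have hs := srch13 (a 0) (a 1) (a 2) (a 3) (a 4) (a 5) (a 6)
  have hv : (![(a 0 : Fin 3).1, (a 1 : Fin 3).1, (a 2 : Fin 3).1, (a 3 : Fin 3).1, (a 4 : Fin 3).1, (a 5 : Fin 3).1,
      (a 6 : Fin 3).1] : Fin 7 → ℕ) = fun i => (a i).val := by
    funext i; fin_cases i <;> rfl
  rw [hv, hc, hc, hc, hc] at hs
  simp only [Bool.not_true, Bool.false_or, decide_eq_true_eq, List.mem_cons, List.not_mem_nil, or_false] at hs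
  have hpow : ∀ k : ℕ, (Y13 ^ k) ^ 13 = 1 := by
    intro k
    rw [← pow_mul, mul_comm, pow_mul, Y13_thirteen, one_pow]
  have hcase : (∃ k : Fin 13, lcN P13 (fun i => (a i).val) (P13 k.1) = true) → C ^ 13 = 1 := by
    rintro ⟨k, hk⟩
    have h1 := lc_of_chk P13 a _ hk
    have h2 : C = Y13 ^ k.1 := by
      rw [ha, Y13_pow k.1 k.2, ← h1]
      unfold lc
      exact Finset.sum_congr rfl fun j _ => by rw [Y13_pow j.1 (by omega)]
    rw [h2, hpow]
  obtain ⟨q1, q2, q3, q4, q5, q6, q7, q8, q9, q10, q11, q12, q13⟩ := all13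
  have hfin : ∀ v : Fin 7 → ℕ, (∀ j, (a j).val = v j) → (∃ k : Fin 13, lcN P13 v (P13 k.1) = true) → C ^ 13 = 1 := by
    intro v hv2 hk
    apply hcase
    have : (fun i => (a i).val) = v := funext hv2
    rw [this]
    exact hk
  rcases hs with h | h | h | h | h | h | h | h | h | h | h | h | h <;>
    (obtain ⟨h0, h1, h2, h3, h4, h5, h6⟩ := prod7 h)
  all_goals
    first
    | exact hfin _ (fun j => by fin_cases j; exacts [congrArg Fin.val h0, congrArg Fin.val h1, congrArg Fin.val h2, congrArg Fin.val h3, congrArg Fin.val h4, congrArg Fin.val h5, congrArg Fin.val h6]) q1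
    | exact hfin _ (fun j => by fin_cases j; exacts [congrArg Fin.val h0, congrArg Fin.val h1, congrArg Fin.val h2, congrArg Fin.val h3, congrArg Fin.val h4, congrArg Fin.val h5, congrArg Fin.val h6]) q2
    | exact hfin _ (fun j => by fin_cases j; exacts [congrArg Fin.val h0, congrArg Fin.val h1, congrArg Fin.val h2, congrArg Fin.val h3, congrArg Fin.val h4, congrArg Fin.val h5, congrArg Fin.val h6]) q3
    | exact hfin _ (fun j => by fin_cases j; exacts [congrArg Fin.val h0, congrArg Fin.val h1, congrArg Fin.val h2, congrArg Fin.val h3, congrArg Fin.val h4, congrArg Fin.val h5, congrArg Fin.val h6]) q4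
    | exact hfin _ (fun j => by fin_cases j; exacts [congrArg Fin.val h0, congrArg Fin.val h1, congrArg Fin.val h2, congrArg Fin.val h3, congrArg Fin.val h4, congrArg Fin.val h5, congrArg Fin.val h6]) q5
    | exact hfin _ (fun j => by fin_cases j; exacts [congrArg Fin.val h0, congrArg Fin.val h1, congrArg Fin.val h2, congrArg Fin.val h3, congrArg Fin.val h4, congrArg Fin.val h5, congrArg Fin.val h6]) q6
    | exact hfin _ (fun j => by fin_cases j; exacts [congrArg Fin.val h0, congrArg Fin.val h1, congrArg Fin.val h2, congrArg Fin.val h3, congrArg Fin.val h4, congrArg Fin.val h5, congrArg Fin.val h6]) q7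
    | exact hfin _ (fun j => by fin_cases j; exacts [congrArg Fin.val h0, congrArg Fin.val h1, congrArg Fin.val h2, congrArg Fin.val h3, congrArg Fin.val h4, congrArg Fin.val h5, congrArg Fin.val h6]) q8
    | exact hfin _ (fun j => by fin_cases j; exacts [congrArg Fin.val h0, congrArg Fin.val h1, congrArg Fin.val h2, congrArg Fin.val h3, congrArg Fin.val h4, congrArg Fin.val h5, congrArg Fin.val h6]) q9
    | exact hfin _ (fun j => by fin_cases j; exacts [congrArg Fin.val h0, congrArg Fin.val h1, congrArg Fin.val h2, congrArg Fin.val h3, congrArg Fin.val h4, congrArg Fin.val h5, congrArg Fin.val h6]) q10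
    | exact hfin _ (fun j => by fin_cases j; exacts [congrArg Fin.val h0, congrArg Fin.val h1, congrArg Fin.val h2, congrArg Fin.val h3, congrArg Fin.val h4, congrArg Fin.val h5, congrArg Fin.val h6]) q11
    | exact hfin _ (fun j => by fin_cases j; exacts [congrArg Fin.val h0, congrArg Fin.val h1, congrArg Fin.val h2, congrArg Fin.val h3, congrArg Fin.val h4, congrArg Fin.val h5, congrArg Fin.val h6]) q12
    | exact hfin _ (fun j => by fin_cases j; exacts [congrArg Fin.val h0, congrArg Fin.val h1, congrArg Fin.val h2, congrArg Fin.val h3, congrArg Fin.val h4, congrArg Fin.val h5, congrArg Fin.val h6]) q13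

/-! ### special elements -/

noncomputable def w7 : List (Fin 12 × F3) := [(7, 1), (6, 1), (4, 2), (5, 2)]
noncomputable def w13 : List (Fin 12 × F3) := [(7, 1), (5, 2), (6, 2), (4, 2)]
noncomputable def w6 : List (Fin 12 × F3) := [(5, 1), (6, 2)]

theorem w7_chk : Nat.beq (wC (w7.map fun p => (p.1.1, p.2))) (P7 1) = true := by decide +kernel
theorem w13_chk : Nat.beq (wC (w13.map fun p => (p.1.1, p.2))) (P13 1) = true := by decide +kernel

noncomputable def m6 : ℕ := nat_lit 79770508603449294733831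
theorem w6_chk : Nat.beq (wC (w6.map fun p => (p.1.1, p.2))) m6 = true := by decide +kernel
noncomputable def m6_2 : ℕ := mC m6 m6
noncomputable def m6_3 : ℕ := mC m6_2 m6
theorem m6_6 : Nat.beq (mC m6_3 m6_3) oneC = true := by decide +kernel
theorem m6_2ne : tM m6_2 ≠ 1 := by decide +kernel
theorem m6_3ne : tM m6_3 ≠ 1 := by decide +kernel

theorem Y7_ne : Y7 ≠ 1 := by unfold Y7; decide +kernel
theorem Y13_ne : Y13 ≠ 1 := by unfold Y13; decide +kernel

/-! ### main -/

open Subgroup in
/-- elements of order `p` when `p² ∤ |G|` -/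
theorem conj_pow {G : Type*} [Group G] [Finite G] {p : ℕ} [hp : Fact p.Prime] (hG : ¬ p ^ 2 ∣ Nat.card G) {g h : G}
    (hg : orderOf g = p) (hh : orderOf h = p) : ∃ t : G, t * h * t⁻¹ ∈ zpowers g := by
  have hcard : ∀ k : G, orderOf k = p → Nat.card (zpowers k) = p ^ (Nat.card G).factorization p := by
    intro k hk
    have h1 : p ∣ Nat.card G := hk ▸ orderOf_dvd_natCard k
    have h2 : (Nat.card G).factorization p = 1 := by
      apply le_antisymm
      · by_contra hlt
        apply hG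
        exact (hp.out.pow_dvd_iff_le_factorization Nat.card_pos.ne').2 (by omega)
      · exact (hp.out.dvd_iff_one_le_factorization Nat.card_pos.ne').1 h1
    rw [Nat.card_zpowers, hk, h2, pow_one]
  let P : Sylow p G := Sylow.ofCard (zpowers g) (hcard g hg)
  let Q : Sylow p G := Sylow.ofCard (zpowers h) (hcard h hh)
  obtain ⟨t, ht⟩ := MulAction.exists_smul_eq G Q P
  refine ⟨t, ?_⟩
  have h1 : t * h * t⁻¹ ∈ (P : Subgroup G) := by
    rw [← ht]
    exact Subgroup.smul_mem_pointwise_smul h (MulAut.conj t) (Q : Subgroup G) (mem_zpowers h)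
  exact h1

/-- if the centralizer of an element `y` of order `p` has exponent `p` then no element has order `p r` -/
theorem no_order {G : Type*} [Group G] [Finite G] {p : ℕ} (hp : p.Prime) (hG : ¬ p ^ 2 ∣ Nat.card G) {y : G}
    (hy : orderOf y = p) (hc : ∀ c : G, c * y = y * c → c ^ p = 1) {r : ℕ} (hr : 1 < r) (x : G) : orderOf x ≠ p * r := by
  intro hx
  haveI : Fact p.Prime := ⟨hp⟩
  have hu : orderOf (x ^ r) = p := by
    rw [orderOf_pow, hx, Nat.gcd_eq_right (Dvd.intro_left p rfl), Nat.mul_div_cancel _ (by omega)]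
  obtain ⟨t, ht⟩ := conj_pow hG hu hy
  obtain ⟨m, hm⟩ := Subgroup.mem_zpowers_iff.1 ht
  have hcomm : x * (t * y * t⁻¹) = (t * y * t⁻¹) * x := by
    rw [← hm]
    exact ((Commute.refl x).pow_right r).zpow_right m
  have h1 : (t⁻¹ * x * t) * y = y * (t⁻¹ * x * t) := by
    calc (t⁻¹ * x * t) * y = t⁻¹ * (x * (t * y * t⁻¹)) * t := by group
      _ = t⁻¹ * ((t * y * t⁻¹) * x) * t := by rw [hcomm]
      _ = y * (t⁻¹ * x * t) := by group
  have h2 := hc _ h1
  have h3 : x ^ p = 1 := by
    have h4 : (t⁻¹ * x * t) ^ p = t⁻¹ * x ^ p * t := by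
      have := (_root_.conj_pow (i := p) (a := t⁻¹) (b := x))
      rwa [inv_inv] at this
    rw [h4] at h2
    calc x ^ p = t * (t⁻¹ * x ^ p * t) * t⁻¹ := by group
      _ = 1 := by rw [h2]; group
  have h5 : p * r ∣ p := hx ▸ orderOf_dvd_of_pow_eq_one h3
  have h6 := Nat.le_of_dvd hp.pos h5
  have := hp.pos
  nlinarith

theorem main {F : Type*} [Field F] [Fintype F] (hF : Fintype.card F = 3) {E : Type*} [Field E] [Fintype E]
    (hE : Fintype.card E = 13) :
    ((∀ r : ℕ, r.Prime → (r ∣ Nat.card ↥(chevG2.group F) ↔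
        r ∣ Nat.card (Matrix.ProjectiveSpecialLinearGroup (Fin 2) E))) ∧
      (∀ r s : ℕ, r.Prime → s.Prime → r ≠ s → ((∃ x : ↥(chevG2.group F), orderOf x = r * s) ↔
        (∃ y : (Matrix.ProjectiveSpecialLinearGroup (Fin 2) E), orderOf y = r * s)))) := by
  obtain ⟨σ⟩ : Nonempty (F ≃+* F3) := by
    classical
    exact ⟨FiniteField.ringEquivOfCardEq (by rw [hF, ZMod.card])⟩
  obtain ⟨ρ, hρ, hpres, hw⟩ := exists_rep σ
  have hL : Nat.card ↥(chevG2.group F) = 4245696 := by
    rw [Cfsg.Agent.S1059.result hF]; norm_num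
  haveI : Finite ↥(chevG2.group F) := Nat.finite_of_card_ne_zero (by rw [hL]; norm_num)
  obtain ⟨g7, hg7⟩ := hw w7
  obtain ⟨g13, hg13⟩ := hw w13
  obtain ⟨g6, hg6⟩ := hw w6
  rw [Nat.eq_of_beq_eq_true w7_chk] at hg7
  rw [Nat.eq_of_beq_eq_true w13_chk] at hg13
  rw [Nat.eq_of_beq_eq_true w6_chk] at hg6
  have o7 : orderOf g7 = 7 := by
    haveI : Fact (Nat.Prime 7) := ⟨by norm_num⟩
    apply orderOf_eq_prime
    · apply hρ
      apply Units.ext
      rw [map_pow, Units.val_pow_eq_pow_val, hg7, map_one, Units.val_one]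
      exact Y7_seven
    · intro h
      apply Y7_ne
      rw [h, map_one, Units.val_one] at hg7
      exact hg7.symm
  have o13 : orderOf g13 = 13 := by
    haveI : Fact (Nat.Prime 13) := ⟨by norm_num⟩
    apply orderOf_eq_prime
    · apply hρ
      apply Units.ext
      rw [map_pow, Units.val_pow_eq_pow_val, hg13, map_one, Units.val_one]
      exact Y13_thirteen
    · intro h
      apply Y13_ne
      rw [h, map_one, Units.val_one] at hg13
      exact hg13.symm
  have e2 : ((ρ (g6 ^ 2) : M7ˣ) : M7) = tM m6_2 := by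
    rw [map_pow, Units.val_pow_eq_pow_val, hg6, pow_two, ← tM_mul]; rfl
  have e3 : ((ρ (g6 ^ 3) : M7ˣ) : M7) = tM m6_3 := by
    rw [pow_succ, map_mul, Units.val_mul, e2, hg6, ← tM_mul]; rfl
  have o6 : orderOf g6 = 6 := by
    have h6 : g6 ^ 6 = 1 := by
      apply hρ
      apply Units.ext
      rw [show (6 : ℕ) = 3 + 3 from rfl, pow_add, map_mul, Units.val_mul, e3, ← tM_mul,
        Nat.eq_of_beq_eq_true m6_6, tM_one, map_one, Units.val_one]
    have hd : orderOf g6 ∣ 6 := orderOf_dvd_of_pow_eq_one h6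
    have hn2 : ¬ orderOf g6 ∣ 2 := by
      intro h
      apply m6_2ne
      rw [← e2, orderOf_dvd_iff_pow_eq_one.1 h, map_one, Units.val_one]
    have hn3 : ¬ orderOf g6 ∣ 3 := by
      intro h
      apply m6_3ne
      rw [← e3, orderOf_dvd_iff_pow_eq_one.1 h, map_one, Units.val_one]
    have hle := Nat.le_of_dvd (by norm_num) hd
    generalize orderOf g6 = n at *
    interval_cases n
    · revert hd; decide
    · exact absurd (by decide) hn2
    · exact absurd (by decide) hn2
    · exact absurd (by decide) hn3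
    · revert hd; decide
    · revert hd; decide
    · rfl
  have hn7 : ∀ r : ℕ, 1 < r → ∀ x : ↥(chevG2.group F), orderOf x ≠ 7 * r := by
    intro r hr x
    refine no_order (by norm_num) (by rw [hL]; norm_num) o7 ?_ hr x
    intro c hc
    apply hρ
    apply Units.ext
    rw [map_pow, Units.val_pow_eq_pow_val, map_one, Units.val_one]
    apply cent7 _ _ (hpres c)
    have h1 := congrArg (fun g => ((ρ g : M7ˣ) : M7)) hc
    simp only [map_mul, Units.val_mul, hg7] at h1
    exact h1
  have hn13 : ∀ r : ℕ, 1 < r → ∀ x : ↥(chevG2.group F), orderOf x ≠ 13 * r := by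
    intro r hr x
    refine no_order (by norm_num) (by rw [hL]; norm_num) o13 ?_ hr x
    intro c hc
    apply hρ
    apply Units.ext
    rw [map_pow, Units.val_pow_eq_pow_val, map_one, Units.val_one]
    apply cent13 _ _ (hpres c)
    have h1 := congrArg (fun g => ((ρ g : M7ˣ) : M7)) hc
    simp only [map_mul, Units.val_mul, hg13] at h1
    exact h1
  -- the linear group
  haveI : Fact (Nat.Prime 13) := ⟨by norm_num⟩
  haveI : CharP E 13 := by
    obtain ⟨p, hp⟩ := CharP.exists E
    haveI := hp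
    obtain ⟨n, hpp, hn⟩ := FiniteField.card E p
    rw [hE] at hn
    have h1 : p ∣ 13 := by rw [hn]; exact dvd_pow_self p n.ne_zero
    have h2 : p = 13 := (Nat.prime_dvd_prime_iff_eq hpp (by norm_num)).1 h1
    rw [← h2]; exact hp
  have hspec := Cfsg.Agent.S2475.result (F := E) 13 (by rw [hE]; norm_num)
  rw [hE] at hspec
  norm_num at hspec
  have hmem : ∀ m : ℕ, (∃ y : Matrix.ProjectiveSpecialLinearGroup (Fin 2) E, orderOf y = m) ↔
      (m ∣ 13 ∨ m ∣ 6 ∨ m ∣ 7) := by
    intro m
    have h1 : m ∈ Set.range (orderOf : Matrix.ProjectiveSpecialLinearGroup (Fin 2) E → ℕ) ↔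
        (m ∣ 13 ∨ m ∣ 6 ∨ m ∣ 7) := by
      rw [hspec]
      exact Iff.rfl
    exact h1
  have hfac : ∀ r : ℕ, r.Prime → (r ∣ 4245696 ↔ (r = 2 ∨ r = 3 ∨ r = 7 ∨ r = 13)) := by
    intro r hr
    constructor
    · intro h
      have h7 : (4245696 : ℕ) = 2 ^ 6 * (3 ^ 6 * (7 * 13)) := by norm_num
      rw [h7] at h
      rcases (Nat.Prime.dvd_mul hr).1 h with h | h
      · left; exact (Nat.prime_dvd_prime_iff_eq hr Nat.prime_two).1 (hr.dvd_of_dvd_pow h)
      rcases (Nat.Prime.dvd_mul hr).1 h with h | h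
      · right; left; exact (Nat.prime_dvd_prime_iff_eq hr Nat.prime_three).1 (hr.dvd_of_dvd_pow h)
      rcases (Nat.Prime.dvd_mul hr).1 h with h | h
      · right; right; left; exact (Nat.prime_dvd_prime_iff_eq hr (by norm_num)).1 h
      · right; right; right; exact (Nat.prime_dvd_prime_iff_eq hr (by norm_num)).1 h
    · rintro (rfl | rfl | rfl | rfl) <;> norm_num
  refine ⟨?_, ?_⟩
  · intro r hr
    rw [hL, hfac r hr]
    haveI : Fact r.Prime := ⟨hr⟩
    have h1 : r ∣ Nat.card (Matrix.ProjectiveSpecialLinearGroup (Fin 2) E) ↔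
        ∃ y : Matrix.ProjectiveSpecialLinearGroup (Fin 2) E, orderOf y = r := by
      constructor
      · intro h
        exact exists_prime_orderOf_dvd_card' r h
      · rintro ⟨y, hy⟩
        rw [← hy]; exact orderOf_dvd_natCard y
    rw [h1, hmem]
    constructor
    · rintro (rfl | rfl | rfl | rfl) <;> norm_num
    · rintro (h | h | h)
      · right; right; right; exact (Nat.prime_dvd_prime_iff_eq hr (by norm_num)).1 h
      · have h6 : (6 : ℕ) = 2 * 3 := rfl
        rw [h6] at h
        rcases (Nat.Prime.dvd_mul hr).1 h with h | h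
        · left; exact (Nat.prime_dvd_prime_iff_eq hr Nat.prime_two).1 h
        · right; left; exact (Nat.prime_dvd_prime_iff_eq hr Nat.prime_three).1 h
      · right; right; left; exact (Nat.prime_dvd_prime_iff_eq hr (by norm_num)).1 h
  · intro r s hr hs hrs
    have key : (∃ x : ↥(chevG2.group F), orderOf x = r * s) ↔ r * s = 6 := by
      constructor
      · rintro ⟨x, hx⟩
        have hd := orderOf_dvd_natCard x
        rw [hx, hL] at hd
        have hr1 := (hfac r hr).1 ((Dvd.intro s rfl).trans hd)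
        have hs1 := (hfac s hs).1 ((Dvd.intro_left r rfl).trans hd)
        rcases hr1 with rfl | rfl | rfl | rfl
        · rcases hs1 with rfl | rfl | rfl | rfl
          · exact absurd rfl hrs
          · rfl
          · exact absurd hx (by rw [mul_comm]; exact hn7 2 (by norm_num) x)
          · exact absurd hx (by rw [mul_comm]; exact hn13 2 (by norm_num) x)
        · rcases hs1 with rfl | rfl | rfl | rfl
          · rfl
          · exact absurd rfl hrs
          · exact absurd hx (by rw [mul_comm]; exact hn7 3 (by norm_num) x)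
          · exact absurd hx (by rw [mul_comm]; exact hn13 3 (by norm_num) x)
        · exact absurd hx (hn7 s hs.one_lt x)
        · exact absurd hx (hn13 s hs.one_lt x)
      · intro h
        exact ⟨g6, by rw [o6, h]⟩
    rw [key, hmem]
    constructor
    · intro h; right; left; rw [h]
    · have hr2 := hr.two_le
      have hs2 := hs.two_le
      have h4 : 4 ≤ r * s := by nlinarith
      rintro (h | h | h)
      · exfalso
        rcases (Nat.dvd_prime (by norm_num : Nat.Prime 13)).1 h with h | h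
        · omega
        · have : r ∣ 13 := ⟨s, h.symm⟩
          have h5 := (Nat.prime_dvd_prime_iff_eq hr (by norm_num)).1 this
          rw [h5] at h
          omega
      · have h5 := Nat.le_of_dvd (by norm_num) h
        generalize r * s = n at *
        interval_cases n
        · revert h; decide
        · revert h; decide
        · rfl
      · exfalso
        rcases (Nat.dvd_prime (by norm_num : Nat.Prime 7)).1 h with h | h
        · omega
        · have : r ∣ 7 := ⟨s, h.symm⟩
          have h5 := (Nat.prime_dvd_prime_iff_eq hr (by norm_num)).1 this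
          rw [h5] at h
          omega

end CfsgLib.Gthree
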