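import Mathlib
import Cfsg.Prelude

set_option autoImplicit false

namespace CfsgLib.H14Avg

open Subgroup

/-- averaging identity: `Q` acts with trivial norms, `h` normalises `Q` with `C_Q(h^i)=1` for `0<i<m`, and the norm of `h`
is trivial; then `v^{|Q|}=1`. -/
theorem avg {F V : Type*} [Group F] [CommGroup V] (ρ : F →* Monoid.End V) (Q : Subgroup F) [Finite Q] (h : F) (m : ℕ) (hm : 0 < m)
    (hQ : h ∈ Subgroup.normalizer (Q : Set F)) (hfix : ∀ i, 0 < i → i < m → ∀ y ∈ Q, h ^ i * y = y * h ^ i → y = 1)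
    (h1 : ∀ v : V, ∏ᶠ y : Q, ρ y v = 1) (h2 : ∀ v : V, ∏ i ∈ Finset.range m, ρ (h ^ i) v = 1) (v : V) :
    v ^ Nat.card Q = 1 := by
  classical
  haveI := Fintype.ofFinite Q
  have h1' : ∀ w : V, ∏ z : Q, ρ z w = 1 := fun w => by rw [← finprod_eq_prod_of_fintype]; exact h1 w
  have hS1 : ∏ y : Q, ∏ i ∈ Finset.range m, ρ ((y : F) * h ^ i * (y : F)⁻¹) v = 1 := by
    apply Finset.prod_eq_one
    intro y _
    have e : ∀ i, ρ ((y : F) * h ^ i * (y : F)⁻¹) v = ρ y (ρ (h ^ i) (ρ (y : F)⁻¹ v)) := by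
      intro i
      rw [map_mul, map_mul]; rfl
    rw [Finset.prod_congr rfl (fun i _ => e i), ← map_prod, h2, map_one]
  have hS2 : ∏ i ∈ Finset.range m, ∏ y : Q, ρ ((y : F) * h ^ i * (y : F)⁻¹) v = v ^ Nat.card Q := by
    rw [Finset.prod_eq_single 0]
    · have e : ∀ y : Q, ρ ((y : F) * h ^ 0 * (y : F)⁻¹) v = v := by
        intro y
        rw [pow_zero, mul_one, mul_inv_cancel, map_one]; rfl
      rw [Finset.prod_congr rfl (fun y _ => e y), Finset.prod_const, Finset.card_univ, Nat.card_eq_fintype_card]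
    · intro i hi hi0
      have him : i < m := Finset.mem_range.mp hi
      have hi0' : 0 < i := Nat.pos_of_ne_zero hi0
      have hn : ∀ i, h ^ i ∈ Subgroup.normalizer (Q : Set F) := fun i => Subgroup.pow_mem _ hQ i
      have hmem : ∀ y : Q, (y : F) * h ^ i * (y : F)⁻¹ * (h ^ i)⁻¹ ∈ Q := by
        intro y
        have := Q.mul_mem y.2 ((Subgroup.mem_normalizer_iff.mp (hn i) _).mp (Q.inv_mem y.2))
        simpa [mul_assoc] using this
      let φ : Q → Q := fun y => ⟨(y : F) * h ^ i * (y : F)⁻¹ * (h ^ i)⁻¹, hmem y⟩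
      have hφ : Function.Injective φ := by
        intro y y' hyy
        have e1 : (y : F) * h ^ i * (y : F)⁻¹ * (h ^ i)⁻¹ = (y' : F) * h ^ i * (y' : F)⁻¹ * (h ^ i)⁻¹ := congrArg Subtype.val hyy
        have e2 : (y : F) * h ^ i * (y : F)⁻¹ = (y' : F) * h ^ i * (y' : F)⁻¹ := mul_right_cancel e1
        set n : F := (y' : F)⁻¹ * y with hn'
        have hnQ : n ∈ Q := Q.mul_mem (Q.inv_mem y'.2) y.2
        have e3 : h ^ i * n = n * h ^ i := by
          have : n * h ^ i * n⁻¹ = h ^ i := by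
            calc n * h ^ i * n⁻¹ = (y' : F)⁻¹ * ((y : F) * h ^ i * (y : F)⁻¹) * y' := by rw [hn']; group
              _ = (y' : F)⁻¹ * ((y' : F) * h ^ i * (y' : F)⁻¹) * y' := by rw [e2]
              _ = h ^ i := by group
          exact (mul_inv_eq_iff_eq_mul.mp this).symm
        have h3 := hfix i hi0' him n hnQ e3
        rw [hn', inv_mul_eq_one] at h3
        exact Subtype.ext h3.symm
      have hφb : Function.Bijective φ := Finite.injective_iff_bijective.mp hφ
      have e : ∀ y : Q, ρ ((y : F) * h ^ i * (y : F)⁻¹) v = ρ (φ y) (ρ (h ^ i) v) := by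
        intro y
        have e1 : ρ (φ y) (ρ (h ^ i) v) = ρ ((φ y : F) * h ^ i) v := by rw [map_mul ρ (φ y : F) (h ^ i)]; rfl
        rw [e1]
        congr 2
        show (y : F) * h ^ i * (y : F)⁻¹ = (y : F) * h ^ i * (y : F)⁻¹ * (h ^ i)⁻¹ * h ^ i
        group
      rw [Finset.prod_congr rfl (fun y _ => e y), Function.Bijective.prod_comp hφb (fun z : Q => ρ z (ρ (h ^ i) v))]
      exact h1' _
    · intro h
      exact absurd (Finset.mem_range.mpr hm) h
  rw [Finset.prod_comm, hS2] at hS1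
  exact hS1

theorem norm_fixed {F V : Type*} [Group F] [CommGroup V] (ρ : F →* Monoid.End V) (Q : Subgroup F) [Finite Q] (w : V) :
    ∀ x ∈ Q, ρ x (∏ᶠ y : Q, ρ y w) = ∏ᶠ y : Q, ρ y w := by
  classical
  haveI := Fintype.ofFinite Q
  intro x hx
  rw [finprod_eq_prod_of_fintype, map_prod]
  rw [← Equiv.prod_comp (Equiv.mulLeft (⟨x, hx⟩ : Q)) (fun z : Q => ρ z w)]
  apply Finset.prod_congr rfl
  intro z _
  show ρ x (ρ z w) = ρ ((x : F) * z) w
  rw [map_mul]; rfl

/-- the norm kills commutators -/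
theorem norm_comm {F V : Type*} [Group F] [CommGroup V] (ρ : F →* Monoid.End V) (Q : Subgroup F) [Finite Q] (w : V) :
    ∀ x ∈ Q, ∏ᶠ y : Q, ρ y (ρ x w) = ∏ᶠ y : Q, ρ y w := by
  classical
  haveI := Fintype.ofFinite Q
  intro x hx
  rw [finprod_eq_prod_of_fintype, finprod_eq_prod_of_fintype]
  rw [← Equiv.prod_comp (Equiv.mulRight (⟨x, hx⟩ : Q)) (fun z : Q => ρ z w)]
  apply Finset.prod_congr rfl
  intro z _
  show ρ z (ρ x w) = ρ ((z : F) * x) w
  rw [map_mul]; rfl

/-- `norm h` is fixed by `h` when `h^m` acts trivially -/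
theorem pow_norm_fixed {F V : Type*} [Group F] [CommGroup V] (ρ : F →* Monoid.End V) (h : F) (m : ℕ) (hm : ρ (h ^ m) = 1) (w : V) :
    ρ h (∏ i ∈ Finset.range m, ρ (h ^ i) w) = ∏ i ∈ Finset.range m, ρ (h ^ i) w := by
  rw [map_prod]
  have e : ∀ i, ρ h (ρ (h ^ i) w) = ρ (h ^ (i + 1)) w := by
    intro i
    rw [pow_succ', map_mul]; rfl
  rw [Finset.prod_congr rfl (fun i _ => e i)]
  have h1 := Finset.prod_range_succ' (fun i => ρ (h ^ i) w) m
  have h2 := Finset.prod_range_succ (fun i => ρ (h ^ i) w) m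
  rw [h1] at h2
  have e0 : ρ (h ^ 0) w = w := by rw [pow_zero, map_one]; rfl
  have em : ρ (h ^ m) w = w := by rw [hm]; rfl
  simp only [e0, em] at h2
  exact mul_right_cancel h2

end CfsgLib.H14Avg
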