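import Cfsg.Agent.LibH14MT2
import Cfsg.Agent.LibH2Baer

/-! The transvection system of a linear group over `F_p` (seat helper14). -/

set_option autoImplicit false

namespace CfsgLib.H14MG

open Module CfsgLib.H14MT Cfsg

section chain
variable {p : ℕ} [hpf : Fact p.Prime] {V : Type*} [AddCommGroup V] [Module (ZMod p) V]

/-- stabiliser of a chain -/
def chn (A B : Submodule (ZMod p) V) : Subgroup (V ≃ₗ[ZMod p] V) where
  carrier := {g | (∀ v, g v - v ∈ B) ∧ (∀ b ∈ B, g b - b ∈ A) ∧ ∀ a ∈ A, g a = a}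
  mul_mem' := by
    rintro g h ⟨g1, g2, g3⟩ ⟨h1, h2, h3⟩
    refine ⟨fun v => ?_, fun b hb => ?_, fun a ha => ?_⟩
    · have := B.add_mem (g1 (h v)) (h1 v)
      rw [sub_add_sub_cancel] at this
      exact this
    · have hb' : h b ∈ B := by
        have := B.add_mem (h1 b) hb
        rwa [sub_add_cancel] at this
      have := A.add_mem (g2 (h b) hb') (h2 b hb)
      rw [sub_add_sub_cancel] at this
      exact this
    · rw [LinearEquiv.mul_apply, h3 a ha, g3 a ha]
  one_mem' := ⟨fun v => by rw [LinearEquiv.coe_one, id, sub_self]; exact B.zero_mem,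
    fun b _ => by rw [LinearEquiv.coe_one, id, sub_self]; exact A.zero_mem, fun a _ => rfl⟩
  inv_mem' := by
    rintro g ⟨g1, g2, g3⟩
    have e : ∀ v, g (g⁻¹ v) = v := fun v => g.apply_symm_apply v
    have k1 : ∀ v, g⁻¹ v - v ∈ B := by
      intro v
      have := B.neg_mem (g1 (g⁻¹ v))
      rwa [e, neg_sub] at this
    refine ⟨k1, fun b hb => ?_, fun a ha => ?_⟩
    · have hb' : g⁻¹ b ∈ B := by
        have := B.add_mem (k1 b) hb
        rwa [sub_add_cancel] at this
      have := A.neg_mem (g2 (g⁻¹ b) hb')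
      rwa [e, neg_sub] at this
    · have : g⁻¹ (g a) = a := g.symm_apply_apply a
      rwa [g3 a ha] at this

theorem mem_chn {A B : Submodule (ZMod p) V} {g : V ≃ₗ[ZMod p] V} :
    g ∈ chn A B ↔ (∀ v, g v - v ∈ B) ∧ (∀ b ∈ B, g b - b ∈ A) ∧ ∀ a ∈ A, g a = a := Iff.rfl

theorem isP_chn (hp : Odd p) (A B : Submodule (ZMod p) V) : IsPGroup p (chn A B) := by
  rintro ⟨g, hg⟩
  obtain ⟨g1, g2, g3⟩ := mem_chn.1 hg
  refine ⟨1, ?_⟩
  rw [pow_one]
  apply Subtype.ext
  rw [SubmonoidClass.coe_pow]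
  change g ^ p = 1
  ext v
  set x := g v - v with hx
  set y := g x - x with hy
  have e1 : g v = v + x := by rw [hx]; abel
  have e2 : g x = x + y := by rw [hy]; abel
  have e3 : g y = y := g3 y (g2 x (g1 v))
  have key : ∀ n : ℕ, (g ^ n) v = v + n • x + (n.choose 2) • y := by
    intro n
    induction n with
    | zero => simp
    | succ n ih =>
      rw [pow_succ', LinearEquiv.mul_apply, ih, map_add, map_add, map_nsmul, map_nsmul, e1, e2, e3,
        Nat.choose_succ_succ' n 1, Nat.choose_one_right, smul_add, add_smul, add_smul, one_smul]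
      abel
  rw [key p]
  have h2 : p ∣ p.choose 2 := by
    apply hpf.out.dvd_choose_self (by norm_num)
    have := hpf.out.two_le
    rcases this.lt_or_eq with h | h
    · exact h
    · rw [← h] at hp
      exact absurd hp (by decide)
  have z : ∀ w : V, p • w = 0 := by
    intro w
    rw [← Nat.cast_smul_eq_nsmul (ZMod p), ZMod.natCast_self, zero_smul]
  obtain ⟨m, hm⟩ := h2
  rw [hm, mul_comm, mul_smul, z, z, smul_zero, add_zero, add_zero]
  rfl

theorem chn_triv [Finite V] (hp : Odd p) {H : Subgroup (V ≃ₗ[ZMod p] V)} (hOp : pCore p ↥H = ⊥) {A B : Submodule (ZMod p) V}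
    (hA : ∀ h ∈ H, ∀ a ∈ A, h a ∈ A) (hB : ∀ h ∈ H, ∀ b ∈ B, h b ∈ B) {g : V ≃ₗ[ZMod p] V} (hgH : g ∈ H)
    (hg : g ∈ chn A B) : g = 1 := by
  have hn : ((chn A B).subgroupOf H).Normal := by
    constructor
    rintro ⟨n, hn⟩ hnc ⟨h, hh⟩
    rw [Subgroup.mem_subgroupOf] at hnc ⊢
    obtain ⟨g1, g2, g3⟩ := mem_chn.1 hnc
    change h * n * h⁻¹ ∈ chn A B
    have e : ∀ v, h (h⁻¹ v) = v := fun v => h.apply_symm_apply v
    have e' : ∀ v, (h * n * h⁻¹) v - v = h (n (h⁻¹ v) - h⁻¹ v) := by
      intro v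
      rw [map_sub, e]; rfl
    rw [mem_chn]
    refine ⟨fun v => ?_, fun b hb => ?_, fun a ha => ?_⟩
    · rw [e']; exact hB h hh _ (g1 _)
    · rw [e']; exact hA h hh _ (g2 _ (hB _ (H.inv_mem hh) _ hb))
    · have := g3 (h⁻¹ a) (hA _ (H.inv_mem hh) _ ha)
      change h (n (h⁻¹ a)) = a
      have this' : n (h⁻¹ a) = h⁻¹ a := this
      rw [this', e]
  have hpg : IsPGroup p ((chn A B).subgroupOf H) := (isP_chn hp A B).comap_of_injective H.subtype H.subtype_injective
  have := CfsgLib.Cores.le_pCore hn hpg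
  rw [hOp, le_bot_iff] at this
  have h1 : (⟨g, hgH⟩ : H) ∈ (chn A B).subgroupOf H := hg
  rw [this, Subgroup.mem_bot] at h1
  exact congrArg Subtype.val h1

/-- the transvections in `H` -/
def SgH (H : Subgroup (V ≃ₗ[ZMod p] V)) (x : V) (f : Dual (ZMod p) V) : Prop :=
  f x = 0 ∧ ∃ g ∈ H, ∀ v, g v = v + f v • x

variable {H : Subgroup (V ≃ₗ[ZMod p] V)}

theorem sgh_add_l {x y : V} {f : Dual (ZMod p) V} (h1 : SgH H x f) (h2 : SgH H y f) : SgH H (x + y) f := by
  obtain ⟨e1, g1, hg1, k1⟩ := h1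
  obtain ⟨e2, g2, hg2, k2⟩ := h2
  refine ⟨by rw [map_add, e1, e2, add_zero], g1 * g2, H.mul_mem hg1 hg2, fun v => ?_⟩
  rw [LinearEquiv.mul_apply, k2, k1, map_add, map_smul, e2, smul_zero, add_zero, smul_add]
  abel

theorem sgh_add_r {x : V} {f g : Dual (ZMod p) V} (h1 : SgH H x f) (h2 : SgH H x g) : SgH H x (f + g) := by
  obtain ⟨e1, g1, hg1, k1⟩ := h1
  obtain ⟨e2, g2, hg2, k2⟩ := h2
  refine ⟨by rw [LinearMap.add_apply, e1, e2, add_zero], g1 * g2, H.mul_mem hg1 hg2, fun v => ?_⟩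
  rw [LinearEquiv.mul_apply, k2, k1, map_add, map_smul, e1, smul_zero, add_zero, LinearMap.add_apply, add_smul]
  abel

theorem sgh_zl (f : Dual (ZMod p) V) : SgH H 0 f := ⟨map_zero f, 1, H.one_mem, fun v => by rw [smul_zero, add_zero]; rfl⟩

theorem sgh_zr (x : V) : SgH H x 0 := ⟨rfl, 1, H.one_mem, fun v => by rw [LinearMap.zero_apply, zero_smul, add_zero]; rfl⟩

theorem sgh_smul_l (c : ZMod p) {x : V} {f : Dual (ZMod p) V} (h : SgH H x f) : SgH H (c • x) f := by
  have key : ∀ n : ℕ, SgH H ((n : ZMod p) • x) f := by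
    intro n
    induction n with
    | zero => rw [Nat.cast_zero, zero_smul]; exact sgh_zl f
    | succ n ih => rw [Nat.cast_succ, add_smul, one_smul]; exact sgh_add_l ih h
  have := key c.val
  rwa [ZMod.natCast_zmod_val] at this

theorem sgh_smul_r (c : ZMod p) {x : V} {f : Dual (ZMod p) V} (h : SgH H x f) : SgH H x (c • f) := by
  have key : ∀ n : ℕ, SgH H x ((n : ZMod p) • f) := by
    intro n
    induction n with
    | zero =>
      have : ((0 : ℕ) : ZMod p) • f = 0 := by ext v; simp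
      rw [this]; exact sgh_zr x
    | succ n ih =>
      have : ((n + 1 : ℕ) : ZMod p) • f = (n : ZMod p) • f + f := by
        ext v; simp [add_mul]
      rw [this]; exact sgh_add_r ih h
  have := key c.val
  rwa [ZMod.natCast_zmod_val] at this

theorem sgh_comm {x y : V} {f h : Dual (ZMod p) V} (h1 : SgH H x f) (h2 : SgH H y h) (h3 : h x = 0) : SgH H x (f y • h) := by
  obtain ⟨e1, g1, hg1, k1⟩ := h1
  obtain ⟨e2, g2, hg2, k2⟩ := h2
  refine ⟨by rw [LinearMap.smul_apply, h3, smul_zero], g1 * g2 * g1⁻¹ * g2⁻¹,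
    H.mul_mem (H.mul_mem (H.mul_mem hg1 hg2) (H.inv_mem hg1)) (H.inv_mem hg2), fun w => ?_⟩
  obtain ⟨v, rfl⟩ : ∃ v, g2 (g1 v) = w := ⟨g1.symm (g2.symm w), by rw [g1.apply_symm_apply, g2.apply_symm_apply]⟩
  have e : (g1 * g2 * g1⁻¹ * g2⁻¹) (g2 (g1 v)) = g1 (g2 v) := by
    change g1 (g2 (g1.symm (g2.symm (g2 (g1 v))))) = _
    rw [g2.symm_apply_apply, g1.symm_apply_apply]
  rw [e]
  simp only [k1, k2, map_add, map_smul, LinearMap.smul_apply, smul_eq_mul, e1, e2, h3, mul_zero, add_zero]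
  module

theorem sgh_conj {x y : V} {f h : Dual (ZMod p) V} (c : ZMod p) (h1 : SgH H x f) (h2 : SgH H y h) :
    SgH H (x + (c * h x) • y) (f - (c * f y) • h) := by
  obtain ⟨e1, g1, hg1, k1⟩ := h1
  have e2 : h y = 0 := h2.1
  obtain ⟨-, g2, hg2, k2⟩ := sgh_smul_l c h2
  refine ⟨?_, g2 * g1 * g2⁻¹, H.mul_mem (H.mul_mem hg2 hg1) (H.inv_mem hg2), fun w => ?_⟩
  · simp only [LinearMap.sub_apply, LinearMap.smul_apply, map_add, map_smul, smul_eq_mul, e1, e2]
    ring
  obtain ⟨v, rfl⟩ : ∃ v, g2 v = w := ⟨g2.symm w, g2.apply_symm_apply w⟩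
  have e : (g2 * g1 * g2⁻¹) (g2 v) = g2 (g1 v) := by
    change g2 (g1 (g2.symm (g2 v))) = _
    rw [g2.symm_apply_apply]
  rw [e]
  simp only [k1, k2, map_add, map_smul, LinearMap.smul_apply, LinearMap.sub_apply, smul_eq_mul, e1, e2, mul_zero, add_zero]
  module

theorem sgh_partner [Finite V] (hp : Odd p) (hOp : pCore p ↥H = ⊥) {x : V} {f : Dual (ZMod p) V} (h : SgH H x f) (hx : x ≠ 0)
    (hf : f ≠ 0) : ∃ y l, SgH H y l ∧ f y ≠ 0 ∧ l x ≠ 0 := by
  haveI : Finite (V ≃ₗ[ZMod p] V) := Finite.of_injective (fun g v => g v) (fun a b hab => LinearEquiv.ext (congrFun hab))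
  obtain ⟨e1, t, ht, kt⟩ := h
  by_contra hc
  push Not at hc
  have h1 : (⟨t, ht⟩ : H) ∈ pCore p ↥H := by
    apply CfsgLib.H2Baer.baer_suzuki_elt
    rintro ⟨g, hg⟩
    set l : Dual (ZMod p) V := f.comp (g.symm : V →ₗ[ZMod p] V) with hl
    have k2 : ∀ v, (g * t * g⁻¹) v = v + l v • g x := by
      intro v
      change g (t (g.symm v)) = _
      rw [kt, map_add, map_smul, g.apply_symm_apply]; rfl
    have hlg : l (g x) = 0 := by
      change f (g.symm (g x)) = 0
      rw [g.symm_apply_apply, e1]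
    have hs : SgH H (g x) l := ⟨hlg, g * t * g⁻¹, H.mul_mem (H.mul_mem hg ht) (H.inv_mem hg), k2⟩
    have hor : f (g x) = 0 ∨ l x = 0 := by
      by_cases c : f (g x) = 0
      · exact Or.inl c
      · exact Or.inr (hc _ _ hs c)
    obtain ⟨A, hA⟩ : ∃ A : Submodule (ZMod p) V, t ∈ chn A (Submodule.span (ZMod p) {x, g x}) ∧ g * t * g⁻¹ ∈ chn A (Submodule.span (ZMod p) {x, g x}) := by
      have mx : x ∈ Submodule.span (ZMod p) {x, g x} := Submodule.subset_span (by simp)
      have my : g x ∈ Submodule.span (ZMod p) {x, g x} := Submodule.subset_span (by simp)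
      rcases hor with c | c
      · refine ⟨Submodule.span (ZMod p) {g x}, ?_, ?_⟩
        · rw [mem_chn]
          refine ⟨fun v => ?_, fun b hb => ?_, fun a ha => ?_⟩
          · rw [kt, add_sub_cancel_left]; exact Submodule.smul_mem _ _ mx
          · obtain ⟨α, β, rfl⟩ := Submodule.mem_span_pair.1 hb
            rw [kt, add_sub_cancel_left, map_add, map_smul, map_smul, e1, c, smul_zero, smul_zero, add_zero, zero_smul]
            exact Submodule.zero_mem _
          · obtain ⟨α, rfl⟩ := Submodule.mem_span_singleton.1 ha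
            rw [kt, map_smul, c, smul_zero, zero_smul, add_zero]
        · rw [mem_chn]
          refine ⟨fun v => ?_, fun b hb => ?_, fun a ha => ?_⟩
          · rw [k2, add_sub_cancel_left]; exact Submodule.smul_mem _ _ my
          · rw [k2, add_sub_cancel_left]; exact Submodule.smul_mem _ _ (Submodule.mem_span_singleton_self _)
          · obtain ⟨α, rfl⟩ := Submodule.mem_span_singleton.1 ha
            rw [k2, map_smul, hlg, smul_zero, zero_smul, add_zero]
      · refine ⟨Submodule.span (ZMod p) {x}, ?_, ?_⟩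
        · rw [mem_chn]
          refine ⟨fun v => ?_, fun b hb => ?_, fun a ha => ?_⟩
          · rw [kt, add_sub_cancel_left]; exact Submodule.smul_mem _ _ mx
          · rw [kt, add_sub_cancel_left]; exact Submodule.smul_mem _ _ (Submodule.mem_span_singleton_self _)
          · obtain ⟨α, rfl⟩ := Submodule.mem_span_singleton.1 ha
            rw [kt, map_smul, e1, smul_zero, zero_smul, add_zero]
        · rw [mem_chn]
          refine ⟨fun v => ?_, fun b hb => ?_, fun a ha => ?_⟩
          · rw [k2, add_sub_cancel_left]; exact Submodule.smul_mem _ _ my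
          · obtain ⟨α, β, rfl⟩ := Submodule.mem_span_pair.1 hb
            rw [k2, add_sub_cancel_left, map_add, map_smul, map_smul, c, hlg, smul_zero, smul_zero, add_zero, zero_smul]
            exact Submodule.zero_mem _
          · obtain ⟨α, rfl⟩ := Submodule.mem_span_singleton.1 ha
            rw [k2, map_smul, c, smul_zero, zero_smul, add_zero]
    have hle : Subgroup.closure {(⟨t, ht⟩ : H), (⟨g, hg⟩ : H) * ⟨t, ht⟩ * (⟨g, hg⟩ : H)⁻¹} ≤
        (chn A (Submodule.span (ZMod p) {x, g x})).subgroupOf H := by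
      rw [Subgroup.closure_le]
      rintro w (rfl | rfl)
      · exact hA.1
      · exact hA.2
    exact ((isP_chn hp A _).comap_of_injective H.subtype H.subtype_injective).to_le hle
  rw [hOp, Subgroup.mem_bot] at h1
  have h2 : t = 1 := congrArg Subtype.val h1
  apply hf
  ext v
  have := kt v
  rw [h2] at this
  have h3 : f v • x = 0 := by
    have h4 : (1 : V ≃ₗ[ZMod p] V) v = v := rfl
    rw [h4] at this
    exact (left_eq_add.1 this)
  exact (smul_eq_zero.1 h3).resolve_right hx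

theorem sgh_ts [Finite V] (hp : Odd p) (hOp : pCore p ↥H = ⊥) : TS (SgH H) where
  ker h := h.1
  zl := sgh_zl
  zr := sgh_zr
  add_l := sgh_add_l
  add_r := sgh_add_r
  smul_l := sgh_smul_l
  smul_r := sgh_smul_r
  comm := sgh_comm
  conj := sgh_conj
  partner := sgh_partner hp hOp

/-- shape of the generators -/
theorem tv_shape [Finite V] {t : V ≃ₗ[ZMod p] V} (h1 : orderOf t = p)
    (h2 : finrank (ZMod p) ↥(LinearMap.ker ((t : V →ₗ[ZMod p] V) - LinearMap.id)) + 1 = finrank (ZMod p) V) :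
    ∃ (x : V) (f : Dual (ZMod p) V), x ≠ 0 ∧ f ≠ 0 ∧ f x = 0 ∧ ∀ v, t v = v + f v • x := by
  set N : V →ₗ[ZMod p] V := (t : V →ₗ[ZMod p] V) - LinearMap.id with hN
  have h3 : finrank (ZMod p) (LinearMap.range N) = 1 := by
    have := LinearMap.finrank_range_add_finrank_ker N
    omega
  let e : LinearMap.range N ≃ₗ[ZMod p] ZMod p := LinearEquiv.ofFinrankEq _ _ (by rw [h3, finrank_self])
  let f : Dual (ZMod p) V := e.toLinearMap.comp N.rangeRestrict
  let x : V := (e.symm 1 : LinearMap.range N)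
  have h4 : ∀ v, N v = f v • x := by
    intro v
    have : f v • e.symm 1 = N.rangeRestrict v := by
      rw [← map_smul, smul_eq_mul, mul_one]
      exact e.symm_apply_apply _
    have h5 := congrArg Subtype.val this
    exact h5.symm
  have hx : x ≠ 0 := by
    intro h
    have : (e.symm 1 : LinearMap.range N) = 0 := Subtype.ext h
    have h5 : (1 : ZMod p) = 0 := by rw [← e.apply_symm_apply 1, this, map_zero]
    exact one_ne_zero h5
  have h5 : ∀ v, t v = v + f v • x := by
    intro v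
    rw [← h4, hN]
    simp
  refine ⟨x, f, hx, ?_, ?_, h5⟩
  · intro hf
    have : N = 0 := by
      ext v; rw [h4, hf]; simp
    rw [this, LinearMap.range_zero, finrank_bot] at h3
    exact zero_ne_one h3
  · have key : ∀ n : ℕ, (t ^ n) x = (1 + f x) ^ n • x := by
      intro n
      induction n with
      | zero => simp
      | succ n ih =>
        rw [pow_succ', LinearEquiv.mul_apply, ih, map_smul, h5, pow_succ, mul_smul, add_smul, one_smul]
    have h6 := key p
    have hpow : t ^ p = 1 := orderOf_dvd_iff_pow_eq_one.1 (dvd_of_eq h1)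
    rw [hpow, ZMod.pow_card] at h6
    have h7 : f x • x = 0 := by
      rw [add_smul, one_smul] at h6
      have h8 : (1 : V ≃ₗ[ZMod p] V) x = x := rfl
      rw [h8] at h6
      exact left_eq_add.1 h6
    exact (smul_eq_zero.1 h7).resolve_right hx

end chain

end CfsgLib.H14MG
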