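import Cfsg.Agent.LibH14MG1
import Cfsg.Agent.LibH14MG2

/-! Components of a linear group generated by transvections (seat helper14). -/

set_option autoImplicit false

namespace CfsgLib.H14MG

open Module CfsgLib.H14MT Cfsg

section res
variable {k V : Type*} [Field k] [AddCommGroup V] [Module k V]

/-- restrictions of the elements of `K` to `U` -/
def rs (K : Subgroup (V ≃ₗ[k] V)) (U : Submodule k V) : Subgroup (U ≃ₗ[k] U) where
  carrier := {f | ∃ g ∈ K, ∀ u : U, (f u : V) = g u}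
  mul_mem' := by
    rintro a b ⟨g, hg, h1⟩ ⟨h, hh, h2⟩
    exact ⟨g * h, K.mul_mem hg hh, fun u => by rw [LinearEquiv.mul_apply, h1, h2, LinearEquiv.mul_apply]⟩
  one_mem' := ⟨1, K.one_mem, fun u => rfl⟩
  inv_mem' := by
    rintro a ⟨g, hg, h1⟩
    refine ⟨g⁻¹, K.inv_mem hg, fun u => ?_⟩
    have h2 : g (a⁻¹ u) = u := by rw [← h1]; exact congrArg Subtype.val (a.apply_symm_apply u)
    rw [← h2]
    exact (g.symm_apply_apply _).symm

theorem mem_rs {K : Subgroup (V ≃ₗ[k] V)} {U : Submodule k V} {f : U ≃ₗ[k] U} : f ∈ rs K U ↔ ∃ g ∈ K, ∀ u : U, (f u : V) = g u := Iff.rfl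

theorem rs_le {S : Set (V ≃ₗ[k] V)} {U : Submodule k V} {M : Subgroup (U ≃ₗ[k] U)} (hS : ∀ g ∈ S, ∃ f ∈ M, ∀ u : U, (f u : V) = g u) :
    rs (Subgroup.closure S) U ≤ M := by
  have key : ∀ g ∈ Subgroup.closure S, ∃ f ∈ M, ∀ u : U, (f u : V) = g u := by
    intro g hg
    induction hg using Subgroup.closure_induction with
    | mem g hg => exact hS g hg
    | one => exact ⟨1, M.one_mem, fun u => rfl⟩
    | mul g h _ _ h1 h2 =>
      obtain ⟨a, ha, h1⟩ := h1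
      obtain ⟨b, hb, h2⟩ := h2
      exact ⟨a * b, M.mul_mem ha hb, fun u => by rw [LinearEquiv.mul_apply, h1, h2, LinearEquiv.mul_apply]⟩
    | inv g _ h1 =>
      obtain ⟨a, ha, h1⟩ := h1
      refine ⟨a⁻¹, M.inv_mem ha, fun u => ?_⟩
      have h2 : g (a⁻¹ u) = u := by rw [← h1]; exact congrArg Subtype.val (a.apply_symm_apply u)
      rw [← h2]
      exact (g.symm_apply_apply _).symm
  rintro f ⟨g, hg, h1⟩
  obtain ⟨f', hf', h2⟩ := key g hg
  have : f = f' := by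
    ext u
    rw [h1, h2]
  rw [this]; exact hf'

/-- determinant one -/
noncomputable def SLs (k U : Type*) [Field k] [AddCommGroup U] [Module k U] : Subgroup (U ≃ₗ[k] U) where
  carrier := {f | LinearMap.det (f : U →ₗ[k] U) = 1}
  mul_mem' := by
    intro a b ha hb
    have : LinearMap.det ((a * b : U ≃ₗ[k] U) : U →ₗ[k] U) = LinearMap.det (a : U →ₗ[k] U) * LinearMap.det (b : U →ₗ[k] U) :=
      LinearMap.det_comp _ _
    change LinearMap.det ((a * b : U ≃ₗ[k] U) : U →ₗ[k] U) = 1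
    rw [this]
    change LinearMap.det (a : U →ₗ[k] U) = 1 at ha
    change LinearMap.det (b : U →ₗ[k] U) = 1 at hb
    rw [ha, hb, one_mul]
  one_mem' := LinearMap.det_id
  inv_mem' := by
    intro a ha
    have : LinearMap.det ((a⁻¹ * a : U ≃ₗ[k] U) : U →ₗ[k] U) = LinearMap.det ((a⁻¹ : U ≃ₗ[k] U) : U →ₗ[k] U) * LinearMap.det (a : U →ₗ[k] U) :=
      LinearMap.det_comp _ _
    change LinearMap.det (a : U →ₗ[k] U) = 1 at ha
    rw [inv_mul_cancel, ha, mul_one] at this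
    change LinearMap.det ((a⁻¹ : U ≃ₗ[k] U) : U →ₗ[k] U) = 1
    rw [← this]
    exact LinearMap.det_id

/-- isometries -/
def Sps {k U : Type*} [Field k] [AddCommGroup U] [Module k U] (B : LinearMap.BilinForm k U) : Subgroup (U ≃ₗ[k] U) where
  carrier := {f | ∀ x y, B (f x) (f y) = B x y}
  mul_mem' := by
    intro a b ha hb x y
    rw [LinearEquiv.mul_apply, LinearEquiv.mul_apply, ha, hb]
  one_mem' := fun x y => rfl
  inv_mem' := by
    intro a ha x y
    have e : ∀ u, a (a⁻¹ u) = u := fun u => a.apply_symm_apply u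
    rw [← ha, e, e]

/-- data of a component -/
structure Cmp (H : Subgroup (V ≃ₗ[k] V)) (U C : Submodule k V) (K : Subgroup (V ≃ₗ[k] V)) : Prop where
  compl : IsCompl U C
  hU : ∀ h ∈ H, ∀ u ∈ U, h u ∈ U
  hC : ∀ h ∈ H, ∀ c ∈ C, h c ∈ C
  le : K ≤ H
  triv : ∀ g ∈ K, ∀ c ∈ C, g c = c
  img : rs K U = SLs k U ∨ ∃ B : LinearMap.BilinForm k U, B.IsAlt ∧ (∀ u, (∀ v, B u v = 0) → u = 0) ∧ rs K U = Sps B

/-- setwise stabiliser -/
def stS (S : Submodule k V) : Subgroup (V ≃ₗ[k] V) where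
  carrier := {g | ∀ u, g u ∈ S ↔ u ∈ S}
  mul_mem' := by
    intro a b ha hb u
    rw [LinearEquiv.mul_apply, ha, hb]
  one_mem' := fun u => Iff.rfl
  inv_mem' := by
    intro a ha u
    have e : a (a⁻¹ u) = u := a.apply_symm_apply u
    rw [← ha, e]

end res

section comp
variable {p : ℕ} [hpf : Fact p.Prime] {V : Type*} [AddCommGroup V] [Module (ZMod p) V] [Finite V]
  {H : Subgroup (V ≃ₗ[ZMod p] V)}

/-- `H` is generated by transvections -/
def GenT (H : Subgroup (V ≃ₗ[ZMod p] V)) (T : Set (V ≃ₗ[ZMod p] V)) : Prop :=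
  H = Subgroup.closure T ∧ ∀ t ∈ T, ∃ (x : V) (f : Dual (ZMod p) V), x ≠ 0 ∧ f ≠ 0 ∧ f x = 0 ∧ ∀ v, t v = v + f v • x

variable {T : Set (V ≃ₗ[ZMod p] V)} (hG : GenT H T)
include hG

omit [Finite V] in
theorem inv_of {S : Submodule (ZMod p) V} (hS : ∀ (x : V) (f : Dual (ZMod p) V), SgH H x f → ∀ u ∈ S, f u • x ∈ S) :
    ∀ h ∈ H, ∀ u ∈ S, h u ∈ S := by
  have h1 : H ≤ stS S := by
    have e := hG.1
    rw [e, Subgroup.closure_le]
    intro t ht u
    have htH : t ∈ H := by rw [e]; exact Subgroup.subset_closure ht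
    obtain ⟨x, f, -, -, h3, h4⟩ := hG.2 t ht
    have hs : SgH H x f := ⟨h3, t, htH, h4⟩
    constructor
    · intro h5
      have h6 := hS x f hs _ h5
      have h7 : f (t u) = f u := by rw [h4, map_add, map_smul, h3, smul_zero, add_zero]
      rw [h7] at h6
      have h8 := S.sub_mem h5 h6
      rwa [h4, add_sub_cancel_right] at h8
    · intro h5
      rw [h4]
      exact S.add_mem h5 (hS x f hs u h5)
  intro h hh u hu
  exact (h1 hh u).2 hu

omit hG
variable (t : TS (SgH H)) {a0 : V × Dual (ZMod p) V} (h0 : In (SgH H) a0)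
include t

omit [Finite V] in
theorem sep {a : V × Dual (ZMod p) V} (ha : In (SgH H) a) (hn : ¬ Cn (SgH H) a0 a) {b : V × Dual (ZMod p) V}
    (hb : In (Cp (SgH H) a0) b) : a.2 b.1 = 0 ∧ b.2 a.1 = 0 := by
  obtain ⟨h1, h2⟩ := cp_in.1 hb
  by_contra hc
  apply hn
  refine h2.trans (F1 t h1 ha ?_)
  by_cases c : b.2 a.1 = 0
  · right
    intro h; exact hc ⟨h, c⟩
  · exact Or.inl c

omit [Finite V] in
theorem sepU {a : V × Dual (ZMod p) V} (ha : In (SgH H) a) (hn : ¬ Cn (SgH H) a0 a) {u : V} (hu : u ∈ UU (Cp (SgH H) a0)) : a.2 u = 0 := by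
  have : UU (Cp (SgH H) a0) ≤ LinearMap.ker a.2 := by
    unfold UU
    rw [Submodule.span_le]
    rintro y ⟨l, hl⟩
    exact (sep t ha hn hl).1
  exact this hu

omit [Finite V] in
theorem sepC {a : V × Dual (ZMod p) V} (ha : In (SgH H) a) (hn : ¬ Cn (SgH H) a0 a) : a.1 ∈ CC (Cp (SgH H) a0) :=
  fun _ _ hl => (sep t ha hn hl).2

omit [Finite V] in
theorem stU (x : V) (f : Dual (ZMod p) V) (h : SgH H x f) (u : V) (hu : u ∈ UU (Cp (SgH H) a0)) : f u • x ∈ UU (Cp (SgH H) a0) := by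
  by_cases hx : x = 0
  · rw [hx, smul_zero]; exact Submodule.zero_mem _
  by_cases hf : f = 0
  · rw [hf, LinearMap.zero_apply, zero_smul]; exact Submodule.zero_mem _
  have hi : In (SgH H) (x, f) := ⟨h, hx, hf⟩
  by_cases hn : Cn (SgH H) a0 (x, f)
  · exact Submodule.smul_mem _ _ (mem_UU (cp_in.2 ⟨hi, hn⟩))
  · have := sepU t hi hn hu
    rw [show f u = 0 from this, zero_smul]; exact Submodule.zero_mem _

omit [Finite V] in
theorem stC (x : V) (f : Dual (ZMod p) V) (h : SgH H x f) (u : V) (hu : u ∈ CC (Cp (SgH H) a0)) : f u • x ∈ CC (Cp (SgH H) a0) := by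
  by_cases hx : x = 0
  · rw [hx, smul_zero]; exact Submodule.zero_mem _
  by_cases hf : f = 0
  · rw [hf, LinearMap.zero_apply, zero_smul]; exact Submodule.zero_mem _
  have hi : In (SgH H) (x, f) := ⟨h, hx, hf⟩
  by_cases hn : Cn (SgH H) a0 (x, f)
  · have : f u = 0 := hu x f (cp_in.2 ⟨hi, hn⟩)
    rw [this, zero_smul]; exact Submodule.zero_mem _
  · exact Submodule.smul_mem _ _ (sepC t hi hn)

omit [Finite V] t in
/-- the component group -/
def KJ (H : Subgroup (V ≃ₗ[ZMod p] V)) (a0 : V × Dual (ZMod p) V) : Subgroup (V ≃ₗ[ZMod p] V) :=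
  Subgroup.closure {g | ∃ (x : V) (f : Dual (ZMod p) V), Cp (SgH H) a0 x f ∧ ∀ v, g v = v + f v • x}

omit [Finite V] in
theorem KJ_le : KJ H a0 ≤ H := by
  unfold KJ
  rw [Subgroup.closure_le]
  rintro g ⟨x, f, h1, h2⟩
  obtain ⟨-, g', hg', h3⟩ := cp_sg t h1
  have : g = g' := by ext v; rw [h2, h3]
  rw [this]; exact hg'

omit [Finite V] t in
theorem KJ_triv : ∀ g ∈ KJ H a0, ∀ c ∈ CC (Cp (SgH H) a0), g c = c := by
  intro g hg
  unfold KJ at hg
  induction hg using Subgroup.closure_induction with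
  | mem g hg =>
    obtain ⟨x, f, h1, h2⟩ := hg
    intro c hc
    rw [h2]
    by_cases hx : x = 0
    · rw [hx, smul_zero, add_zero]
    by_cases hf : f = 0
    · rw [hf, LinearMap.zero_apply, zero_smul, add_zero]
    rw [hc x f ⟨h1, hx, hf⟩, zero_smul, add_zero]
  | one => intro c _; rfl
  | mul g h _ _ h1 h2 =>
    intro c hc
    rw [LinearEquiv.mul_apply, h2 c hc, h1 c hc]
  | inv g _ h1 =>
    intro c hc
    have : g⁻¹ (g c) = c := g.symm_apply_apply c
    rwa [h1 c hc] at this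

include hG h0
theorem Nfy (hp : Odd p) (hOp : pCore p ↥H = ⊥) (u : V) (f : Dual (ZMod p) V) (c0 : V) (f' : Dual (ZMod p) V)
    (h1 : In (Cp (SgH H) a0) (u, f)) (h2 : Cp (SgH H) a0 (u + c0) f') (h3 : c0 ∈ CC (Cp (SgH H) a0))
    (h4 : ∀ v ∈ UU (Cp (SgH H) a0), f' v = f v) : c0 = 0 := by
  have ct := ct_cp t h0
  obtain ⟨y, l, k1, k2, k3⟩ := ct.partner h1.s h1.x h1.f
  replace k2 : f y ≠ 0 := k2
  have hy : y ∈ UU (Cp (SgH H) a0) := mem_UU (f := l) ⟨k1, (ne_of k2).2, (ne_of k3).1⟩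
  have hf' : f' ≠ 0 := by
    intro h
    apply k2
    rw [← h4 y hy, h]; rfl
  have hu : u ∈ UU (Cp (SgH H) a0) := mem_UU h1
  have huc : u + c0 ∈ UU (Cp (SgH H) a0) := by
    by_cases c : u + c0 = 0
    · rw [c]; exact Submodule.zero_mem _
    · exact mem_UU (f := f') ⟨h2, c, hf'⟩
  have hc0 : c0 ∈ UU (Cp (SgH H) a0) := by
    have := Submodule.sub_mem _ huc hu
    rwa [add_sub_cancel_left] at this
  have hfc : f c0 = 0 := h3 u f h1
  have hfu : f u = 0 := ct.ker h1.s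
  obtain ⟨-, g1, hg1, e1⟩ := sgh_smul_l (-1) (cp_sg t h1.s)
  obtain ⟨-, g2, hg2, e2⟩ := cp_sg t h2
  have e3 : ∀ v, (g1 * g2) v - v = (f' v - f v) • u + f' v • c0 := by
    intro v
    rw [LinearEquiv.mul_apply, e1, e2]
    simp only [map_add, map_smul, smul_eq_mul, hfu, hfc, mul_zero, add_zero]
    module
  have e4 : g1 * g2 = 1 := by
    refine chn_triv hp hOp (A := UU (Cp (SgH H) a0) ⊓ CC (Cp (SgH H) a0)) (B := UU (Cp (SgH H) a0)) ?_ ?_ (H.mul_mem hg1 hg2) ?_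
    · exact inv_of hG fun x f h u hu => ⟨stU t x f h u hu.1, stC t x f h u hu.2⟩
    · exact inv_of hG (stU t)
    · rw [mem_chn]
      refine ⟨fun v => ?_, fun b hb => ?_, fun a ha => ?_⟩
      · rw [e3]
        exact Submodule.add_mem _ (Submodule.smul_mem _ _ hu) (Submodule.smul_mem _ _ hc0)
      · rw [e3, h4 b hb, sub_self, zero_smul, zero_add]
        exact Submodule.smul_mem _ _ ⟨hc0, h3⟩
      · have m1 : f a = 0 := ha.2 u f h1
        have m2 : f' a = 0 := by rw [h4 a ha.1, m1]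
        have := e3 a
        rwa [m1, m2, sub_self, zero_smul, zero_smul, add_zero, sub_eq_zero] at this
  have e5 := e3 y
  have e6 : (g1 * g2) y = y := by rw [e4]; rfl
  rw [e6, sub_self, h4 y hy, sub_self, zero_smul, zero_add] at e5
  exact (smul_eq_zero.1 e5.symm).resolve_left k2

theorem cmp (hp : Odd p) (hOp : pCore p ↥H = ⊥) : Cmp H (UU (Cp (SgH H) a0)) (CC (Cp (SgH H) a0)) (KJ H a0) := by
  have ct := ct_cp t h0
  have hIn : In (Cp (SgH H) a0) a0 := cp_in.2 ⟨h0, Relation.ReflTransGen.refl⟩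
  have hK : ∀ (x : V) (f : Dual (ZMod p) V), Cp (SgH H) a0 x f → ∃ g ∈ KJ H a0, ∀ v, g v = v + f v • x := by
    intro x f h
    obtain ⟨-, g, -, h3⟩ := cp_sg t h
    exact ⟨g, Subgroup.subset_closure ⟨x, f, h, h3⟩, h3⟩
  have base : ∀ {P : IsCompl (UU (Cp (SgH H) a0)) (CC (Cp (SgH H) a0))}, (rs (KJ H a0) (UU (Cp (SgH H) a0)) = SLs (ZMod p) (UU (Cp (SgH H) a0)) ∨
      ∃ B : LinearMap.BilinForm (ZMod p) (UU (Cp (SgH H) a0)), B.IsAlt ∧ (∀ u, (∀ v, B u v = 0) → u = 0) ∧ rs (KJ H a0) (UU (Cp (SgH H) a0)) = Sps B) →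
      Cmp H (UU (Cp (SgH H) a0)) (CC (Cp (SgH H) a0)) (KJ H a0) := fun {P} h =>
    ⟨P, inv_of hG (stU t), inv_of hG (stC t), KJ_le t, KJ_triv, h⟩
  by_cases h3 : Third (Cp (SgH H) a0)
  · obtain ⟨hc, h5⟩ := caseI ct h3 (x := a0.1) (h := a0.2) hIn
    refine base (P := hc) (Or.inl (le_antisymm ?_ ?_))
    · apply rs_le
      rintro g ⟨x, f, h1, h2⟩
      by_cases hx : x = 0
      · exact ⟨1, Subgroup.one_mem _, fun u => by rw [h2, hx, smul_zero, add_zero]; rfl⟩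
      by_cases hf : f = 0
      · exact ⟨1, Subgroup.one_mem _, fun u => by rw [h2, hf, LinearMap.zero_apply, zero_smul, add_zero]; rfl⟩
      have hxU : x ∈ UU (Cp (SgH H) a0) := mem_UU (f := f) ⟨h1, hx, hf⟩
      let ψ : Dual (ZMod p) (UU (Cp (SgH H) a0)) := f.comp (UU (Cp (SgH H) a0)).subtype
      have hψ : ψ ⟨x, hxU⟩ = 0 := ct.ker h1
      refine ⟨LinearEquiv.transvection hψ, ?_, fun u => ?_⟩
      · change LinearMap.det (LinearMap.transvection ψ ⟨x, hxU⟩) = 1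
        rw [LinearMap.transvection.det, hψ, add_zero]
      · rw [h2]; rfl
    · intro g hg
      refine gen_SL _ ?_ g hg
      intro ψ u hu
      obtain ⟨φ, h6, h7⟩ := h5 ψ u hu
      obtain ⟨g, hg, h8⟩ := hK _ _ h6
      refine ⟨LinearEquiv.transvection hu, ⟨g, hg, fun v => ?_⟩, fun v => rfl⟩
      rw [h8, h7]; rfl
  · have h2 : (2 : ZMod p) ≠ 0 := by
      intro h
      have h5 : ((2 : ℕ) : ZMod p) = 0 := by exact_mod_cast h
      rw [ZMod.natCast_eq_zero_iff] at h5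
      have h6 := (Nat.prime_dvd_prime_iff_eq hpf.out Nat.prime_two).1 h5
      rw [h6] at hp
      exact absurd hp (by decide)
    obtain ⟨hc, B, hB1, hB2, hB3, hB4⟩ := caseII0 ct h3 (x0 := a0.1) (f0 := a0.2) hIn h2 (Nfy hG t h0 hp hOp)
    refine base (P := hc) (Or.inr ⟨B, hB1, hB2, le_antisymm ?_ ?_⟩)
    · apply rs_le
      rintro g ⟨x, f, h1, h2⟩
      by_cases hx : x = 0
      · exact ⟨1, Subgroup.one_mem _, fun u => by rw [h2, hx, smul_zero, add_zero]; rfl⟩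
      by_cases hf : f = 0
      · exact ⟨1, Subgroup.one_mem _, fun u => by rw [h2, hf, LinearMap.zero_apply, zero_smul, add_zero]; rfl⟩
      have hxU : x ∈ UU (Cp (SgH H) a0) := mem_UU (f := f) ⟨h1, hx, hf⟩
      obtain ⟨μ, hμ⟩ := hB4 ⟨x, hxU⟩ f h1 (fun h => hx (congrArg Subtype.val h))
      refine ⟨st hB1 ⟨x, hxU⟩ μ, st_iso hB1 _ _, fun u => ?_⟩
      rw [h2, hμ, st_apply]; rfl
    · intro g hg
      refine gen_Sp hB1 hB2 _ ?_ g hg
      intro u c
      obtain ⟨φ, h6, h7⟩ := hB3 u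
      obtain ⟨g, hg, h8⟩ := hK _ _ (ct.smul_r c h6)
      refine ⟨st hB1 u c, ⟨g, hg, fun v => ?_⟩, fun v => st_apply hB1 u c v⟩
      rw [h8, LinearMap.smul_apply, h7, st_apply]; rfl

end comp

end CfsgLib.H14MG
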