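import Cfsg.Agent.LibH14MG3

/-! Assembly of the components (seat helper14). -/

set_option autoImplicit false

namespace CfsgLib.H14MG

open Module CfsgLib.H14MT Cfsg

section asm
variable {k V : Type*} [Field k] [AddCommGroup V] [Module k V]

/-- restriction of one element -/
def rE (U : Submodule k V) (g : V ≃ₗ[k] V) (h1 : ∀ u ∈ U, g u ∈ U) (h2 : ∀ u ∈ U, g⁻¹ u ∈ U) : U ≃ₗ[k] U where
  toFun u := ⟨g u, h1 u u.2⟩
  map_add' a b := Subtype.ext (map_add g (a : V) b)
  map_smul' c a := Subtype.ext (map_smul g c (a : V))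
  invFun u := ⟨g⁻¹ u, h2 u u.2⟩
  left_inv u := Subtype.ext (g.symm_apply_apply (u : V))
  right_inv u := Subtype.ext (g.apply_symm_apply (u : V))

/-- restriction of a group -/
def rho (U : Submodule k V) (K : Subgroup (V ≃ₗ[k] V)) (h : ∀ g ∈ K, ∀ u ∈ U, g u ∈ U) : K →* (U ≃ₗ[k] U) where
  toFun g := rE U g.1 (h g.1 g.2) (h _ (K.inv_mem g.2))
  map_one' := by ext u; rfl
  map_mul' a b := by ext u; rfl

theorem rho_apply (U : Submodule k V) (K : Subgroup (V ≃ₗ[k] V)) (h : ∀ g ∈ K, ∀ u ∈ U, g u ∈ U) (g : K) (u : U) :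
    ((rho U K h g u : U) : V) = (g : V ≃ₗ[k] V) u := rfl

theorem rho_range (U : Submodule k V) (K : Subgroup (V ≃ₗ[k] V)) (h : ∀ g ∈ K, ∀ u ∈ U, g u ∈ U) :
    (rho U K h).range = rs K U := by
  ext f
  rw [MonoidHom.mem_range, mem_rs]
  constructor
  · rintro ⟨g, rfl⟩
    exact ⟨g.1, g.2, fun u => rfl⟩
  · rintro ⟨g, hg, h1⟩
    refine ⟨⟨g, hg⟩, ?_⟩
    ext u
    exact (h1 u).symm

/-- the image condition -/
def PP (K : Subgroup (V ≃ₗ[k] V)) (S : Submodule k V) : Prop :=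
  ∃ ρ : ↥K →* (↥S ≃ₗ[k] ↥S),
        (∀ (h : ↥K) (v : ↥S), ((ρ h v : ↥S) : V) = (h : V ≃ₗ[k] V) (v : V)) ∧
        ((ρ.range : Set (↥S ≃ₗ[k] ↥S)) =
            {f : ↥S ≃ₗ[k] ↥S | LinearMap.det (f : ↥S →ₗ[k] ↥S) = 1} ∨
          ∃ B : LinearMap.BilinForm k ↥S, B.IsAlt ∧ B.Nondegenerate ∧
            (ρ.range : Set (↥S ≃ₗ[k] ↥S)) = {f : ↥S ≃ₗ[k] ↥S | ∀ x y, B (f x) (f y) = B x y})

theorem Cmp.pp {H : Subgroup (V ≃ₗ[k] V)} {U C : Submodule k V} {K : Subgroup (V ≃ₗ[k] V)} (c : Cmp H U C K) : PP K U := by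
  refine ⟨rho U K fun g hg => c.hU g (c.le hg), fun _ _ => rfl, ?_⟩
  rw [rho_range]
  rcases c.img with h | ⟨B, h1, h2, h3⟩
  · left; rw [h]; rfl
  · right
    refine ⟨B, h1, ⟨h2, fun u hu => h2 u fun v => ?_⟩, by rw [h3]; rfl⟩
    rw [bsk h1, hu, neg_zero]

variable {n : ℕ} {H : Subgroup (V ≃ₗ[k] V)} {U C : Fin n → Submodule k V} {K : Fin n → Subgroup (V ≃ₗ[k] V)}
  (hc : ∀ i, Cmp H (U i) (C i) (K i)) (hUC : ∀ i j, i ≠ j → U i ≤ C j)
include hc hUC

theorem asm_comm (j j' : Fin n) (h : j ≠ j') (a : V ≃ₗ[k] V) (ha : a ∈ K j) (b : V ≃ₗ[k] V) (hb : b ∈ K j') : a * b = b * a := by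
  ext v
  have hv : v ∈ U j ⊔ C j := by rw [(hc j).compl.sup_eq_top]; trivial
  obtain ⟨u, hu, c, hcc, rfl⟩ := Submodule.mem_sup.1 hv
  rw [map_add, map_add, LinearEquiv.mul_apply, LinearEquiv.mul_apply, LinearEquiv.mul_apply, LinearEquiv.mul_apply]
  have e1 : b u = u := (hc j').triv b hb u (hUC j j' h hu)
  have e2 : b (a u) = a u := (hc j').triv b hb _ (hUC j j' h ((hc j).hU a ((hc j).le ha) u hu))
  have e3 : a c = c := (hc j).triv a ha c hcc
  have e4 : a (b c) = b c := (hc j).triv a ha _ ((hc j).hC b ((hc j').le hb) c hcc)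
  rw [e1, e2, e3, e4]

theorem asm_inf (j : Fin n) : K j ⊓ (⨆ j' ∈ {j' : Fin n | j' ≠ j}, K j') = ⊥ := by
  rw [eq_bot_iff]
  rintro g ⟨h1, h2⟩
  rw [Subgroup.mem_bot]
  have h3 : (⨆ j' ∈ {j' : Fin n | j' ≠ j}, K j') ≤ ({ carrier := {g | ∀ u ∈ U j, g u = u}
                                                      mul_mem' := fun {a b} ha hb u hu => by rw [LinearEquiv.mul_apply, hb u hu, ha u hu]
                                                      one_mem' := fun u _ => rfl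
                                                      inv_mem' := fun {a} ha u hu => by
                                                        have : a⁻¹ (a u) = u := a.symm_apply_apply u
                                                        rwa [ha u hu] at this } : Subgroup (V ≃ₗ[k] V)) := by
    refine iSup₂_le fun j' hj' g hg u hu => ?_
    exact (hc j').triv g hg u (hUC j j' (fun e => hj' e.symm) hu)
  have h4 : ∀ u ∈ U j, g u = u := h3 h2
  ext v
  have hv : v ∈ U j ⊔ C j := by rw [(hc j).compl.sup_eq_top]; trivial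
  obtain ⟨u, hu, c, hcc, rfl⟩ := Submodule.mem_sup.1 hv
  rw [map_add, map_add, h4 u hu, (hc j).triv g h1 c hcc]
  rfl

theorem asm_norm (hK : ⨆ i, K i = H) (j : Fin n) : ((K j).subgroupOf H).Normal := by
  rw [Subgroup.normal_subgroupOf_iff_le_normalizer (hc j).le]
  conv_lhs => rw [← hK]
  refine iSup_le fun i => ?_
  by_cases hij : i = j
  · rw [hij]; exact Subgroup.le_normalizer
  · intro h hh
    rw [Subgroup.mem_normalizer_iff]
    intro g
    constructor
    · intro hg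
      rw [asm_comm hc hUC i j hij h hh g hg, mul_inv_cancel_right]; exact hg
    · intro hg
      have := asm_comm hc hUC i j hij h hh _ hg
      have e : h * g * h⁻¹ = g := by
        have h5 : h * (h * g * h⁻¹) = h * g := by rw [this, inv_mul_cancel_right]
        exact mul_left_cancel h5
      rwa [e] at hg

/-- the summands -/
def WW (U C : Fin n → Submodule k V) : Fin (n + 1) → Submodule k V := Fin.cons (⨅ i, C i) U

omit hc hUC in
theorem WW_succ (j : Fin n) : WW U C j.succ = U j := Fin.cons_succ _ _ _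

omit hc hUC in
theorem WW_zero : WW U C 0 = ⨅ i, C i := Fin.cons_zero _ _

omit hc in
theorem WW_le (j : Fin n) (i : Fin (n + 1)) (hi : i ≠ j.succ) : WW U C i ≤ C j := by
  rcases Fin.eq_zero_or_eq_succ i with rfl | ⟨l, rfl⟩
  · rw [WW_zero]; exact iInf_le _ _
  · rw [WW_succ]
    exact hUC l j fun h => hi (by rw [h])

theorem asm_zero (w : Fin (n + 1) → V) (hw : ∀ i, w i ∈ WW U C i) (hs : ∑ i, w i = 0) : ∀ i, w i = 0 := by
  have h1 : ∀ j : Fin n, w j.succ = 0 := by
    intro j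
    have h2 := Finset.add_sum_erase Finset.univ w (Finset.mem_univ j.succ)
    rw [hs] at h2
    have h3 : w j.succ = - ∑ i ∈ Finset.univ.erase j.succ, w i := eq_neg_of_add_eq_zero_left h2
    have h4 : w j.succ ∈ C j := by
      rw [h3]
      refine Submodule.neg_mem _ (Submodule.sum_mem _ fun i hi => ?_)
      exact WW_le hUC j i (Finset.ne_of_mem_erase hi) (hw i)
    have h5 : w j.succ ∈ U j := by have := hw j.succ; rwa [WW_succ] at this
    exact (Submodule.disjoint_def.1 (hc j).compl.disjoint) _ h5 h4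
  intro i
  rcases Fin.eq_zero_or_eq_succ i with rfl | ⟨l, rfl⟩
  · rw [Fin.sum_univ_succ] at hs
    simpa [h1] using hs
  · exact h1 l

theorem asm_top : iSup (WW U C) = ⊤ := by
  rw [eq_top_iff]
  intro v _
  have h1 : ∀ i, ∃ u ∈ U i, ∃ c ∈ C i, u + c = v := by
    intro i
    have hv : v ∈ U i ⊔ C i := by rw [(hc i).compl.sup_eq_top]; trivial
    obtain ⟨u, hu, c, hcc, h⟩ := Submodule.mem_sup.1 hv
    exact ⟨u, hu, c, hcc, h⟩
  choose u hu c hcc huc using h1
  have h2 : ∑ i, u i ∈ iSup (WW U C) := by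
    refine Submodule.sum_mem _ fun i _ => ?_
    have : U i ≤ iSup (WW U C) := by
      have := le_iSup (WW U C) i.succ
      rwa [WW_succ] at this
    exact this (hu i)
  have h3 : v - ∑ i, u i ∈ WW U C 0 := by
    rw [WW_zero, Submodule.mem_iInf]
    intro j
    rw [← Finset.add_sum_erase Finset.univ u (Finset.mem_univ j), ← sub_sub]
    refine Submodule.sub_mem _ ?_ (Submodule.sum_mem _ fun i hi => hUC i j (Finset.ne_of_mem_erase hi) (hu i))
    rw [← huc j, add_sub_cancel_left]; exact hcc j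
  have h4 := Submodule.add_mem _ (le_iSup (WW U C) 0 h3) h2
  rwa [sub_add_cancel] at h4

theorem asm_int : DirectSum.IsInternal (WW U C) := by
  classical
  rw [DirectSum.isInternal_submodule_iff_iSupIndep_and_iSup_eq_top]
  refine ⟨?_, asm_top hc hUC⟩
  apply iSupIndep_of_dfinsupp_lsum_injective
  rw [injective_iff_map_eq_zero]
  intro x hx
  have h1 : ∑ i, ((x i : WW U C i) : V) = 0 := by
    rw [← hx, DFinsupp.lsum_apply_apply, DFinsupp.sumAddHom_apply, DFinsupp.sum_eq_sum_fintype]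
    · rfl
    · intro i; exact map_zero _
  ext i
  exact asm_zero hc hUC (fun i => (x i : V)) (fun i => (x i).2) h1 i

theorem assemble [FiniteDimensional k V] (hn : 1 ≤ n) (hK : ⨆ i, K i = H) : 
    ∃ (n : ℕ) (W : Fin (n + 1) → Submodule k V) (K : Fin n → Subgroup (V ≃ₗ[k] V)),
      1 ≤ n ∧ DirectSum.IsInternal W ∧
      (∀ h ∈ H, ∀ i, (W i).map (h : V →ₗ[k] V) = W i) ∧
      (∀ j, K j ≤ H ∧ ((K j).subgroupOf H).Normal) ∧ ⨆ j, K j = H ∧
      (∀ j, K j ⊓ (⨆ j' ∈ {j' : Fin n | j' ≠ j}, K j') = ⊥) ∧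
      (∀ j j', j ≠ j' → ∀ a ∈ K j, ∀ b ∈ K j', a * b = b * a) ∧
      (∀ j, ∀ h ∈ K j, ∀ i : Fin (n + 1), i ≠ j.succ → ∀ v ∈ W i, h v = v) ∧
      (∀ j, PP (K j) (W j.succ)) := by
  refine ⟨n, WW U C, K, hn, asm_int hc hUC, ?_, fun j => ⟨(hc j).le, asm_norm hc hUC hK j⟩, hK, asm_inf hc hUC,
    asm_comm hc hUC, ?_, ?_⟩
  · intro h hh i
    have h1 : ∀ h ∈ H, ∀ v ∈ WW U C i, h v ∈ WW U C i := by
      intro h hh v hv
      rcases Fin.eq_zero_or_eq_succ i with rfl | ⟨l, rfl⟩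
      · rw [WW_zero, Submodule.mem_iInf] at hv ⊢
        exact fun j => (hc j).hC h hh v (hv j)
      · rw [WW_succ] at hv ⊢
        exact (hc l).hU h hh v hv
    apply le_antisymm
    · rintro _ ⟨v, hv, rfl⟩
      exact h1 h hh v hv
    · intro v hv
      exact ⟨h⁻¹ v, h1 _ (H.inv_mem hh) v hv, h.apply_symm_apply v⟩
  · intro j h hh i hi v hv
    exact (hc j).triv h hh v (WW_le hUC j i hi hv)
  · intro j
    rw [WW_succ]
    exact (hc j).pp

end asm

section final
variable {p : ℕ} [hpf : Fact p.Prime] {V : Type*} [AddCommGroup V] [Module (ZMod p) V] [Finite V]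

theorem cmp_bot (H : Subgroup (V ≃ₗ[ZMod p] V)) : Cmp H ⊥ ⊤ ⊥ where
  compl := isCompl_bot_top
  hU := by
    intro h _ u hu
    rw [Submodule.mem_bot] at hu ⊢
    rw [hu, map_zero]
  hC := fun _ _ _ _ => trivial
  le := bot_le
  triv := by
    intro g hg c _
    rw [Subgroup.mem_bot] at hg
    rw [hg]
    rfl
  img := by
    left
    have hs : ∀ f : (⊥ : Submodule (ZMod p) V) ≃ₗ[ZMod p] (⊥ : Submodule (ZMod p) V), f = 1 := by
      intro f; exact LinearEquiv.ext fun u => Subsingleton.elim _ _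
    ext f
    rw [hs f]
    exact ⟨fun _ => Subgroup.one_mem _, fun _ => Subgroup.one_mem _⟩

theorem mclaughlin (hp : Odd p) {H : Subgroup (V ≃ₗ[ZMod p] V)} {T : Set (V ≃ₗ[ZMod p] V)} (hG : GenT H T)
    (hOp : pCore p ↥H = ⊥) :
    ∃ (n : ℕ) (W : Fin (n + 1) → Submodule (ZMod p) V) (K : Fin n → Subgroup (V ≃ₗ[ZMod p] V)),
      1 ≤ n ∧ DirectSum.IsInternal W ∧
      (∀ h ∈ H, ∀ i, (W i).map (h : V →ₗ[ZMod p] V) = W i) ∧
      (∀ j, K j ≤ H ∧ ((K j).subgroupOf H).Normal) ∧ ⨆ j, K j = H ∧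
      (∀ j, K j ⊓ (⨆ j' ∈ {j' : Fin n | j' ≠ j}, K j') = ⊥) ∧
      (∀ j j', j ≠ j' → ∀ a ∈ K j, ∀ b ∈ K j', a * b = b * a) ∧
      (∀ j, ∀ h ∈ K j, ∀ i : Fin (n + 1), i ≠ j.succ → ∀ v ∈ W i, h v = v) ∧
      (∀ j, PP (K j) (W j.succ)) := by
  classical
  have t := sgh_ts hp hOp
  haveI : Finite (Dual (ZMod p) V) := Finite.of_injective (fun f : Dual (ZMod p) V => (f : V → ZMod p)) DFunLike.coe_injective
  let s : Setoid {a : V × Dual (ZMod p) V // In (SgH H) a} :=
    { r := fun a b => Cn (SgH H) a.1 b.1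
      iseqv := ⟨fun _ => Relation.ReflTransGen.refl, fun h => Cn.symm h, fun h1 h2 => h1.trans h2⟩ }
  let Q := Quotient s
  let U' : Option Q → Submodule (ZMod p) V := fun o => o.elim ⊥ fun q => UU (Cp (SgH H) q.out.1)
  let C' : Option Q → Submodule (ZMod p) V := fun o => o.elim ⊤ fun q => CC (Cp (SgH H) q.out.1)
  let K' : Option Q → Subgroup (V ≃ₗ[ZMod p] V) := fun o => o.elim ⊥ fun q => KJ H q.out.1
  have hc' : ∀ o, Cmp H (U' o) (C' o) (K' o) := by
    intro o
    rcases o with _ | q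
    · exact cmp_bot H
    · exact cmp hG t q.out.2 hp hOp
  have hUC' : ∀ i j, i ≠ j → U' i ≤ C' j := by
    intro i j hij
    rcases i with _ | q
    · exact bot_le
    · rcases j with _ | q'
      · exact le_top
      · change UU (Cp (SgH H) q.out.1) ≤ CC (Cp (SgH H) q'.out.1)
        unfold UU
        rw [Submodule.span_le]
        rintro x ⟨f, hf⟩
        obtain ⟨h1, h2⟩ := cp_in.1 hf
        refine sepC t h1 ?_
        intro h3
        apply hij
        have h4 : Cn (SgH H) q.out.1 q'.out.1 := h2.trans (Cn.symm h3)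
        have h5 : (⟦q.out⟧ : Q) = ⟦q'.out⟧ := Quotient.sound h4
        rw [Quotient.out_eq, Quotient.out_eq] at h5
        rw [h5]
  have hK' : ⨆ i, K' i = H := by
    apply le_antisymm
    · exact iSup_le fun i => (hc' i).le
    · conv_lhs => rw [hG.1]
      rw [Subgroup.closure_le]
      intro g hg
      obtain ⟨x, f, h1, h2, h3, h4⟩ := hG.2 g hg
      have hgH : g ∈ H := by rw [hG.1]; exact Subgroup.subset_closure hg
      have hi : In (SgH H) (x, f) := ⟨⟨h3, g, hgH, h4⟩, h1, h2⟩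
      let q : Q := ⟦⟨(x, f), hi⟩⟧
      have h5 : Cn (SgH H) q.out.1 (x, f) := Quotient.exact (Quotient.out_eq q)
      have h6 : g ∈ K' (some q) := by
        change g ∈ KJ H q.out.1
        exact Subgroup.subset_closure ⟨x, f, Or.inr (Or.inr ⟨hi.s, h5⟩), h4⟩
      exact le_iSup K' (some q) h6
  haveI : Finite (Option Q) := inferInstance
  obtain ⟨n, ⟨e⟩⟩ := Finite.exists_equiv_fin (Option Q)
  have hn : 1 ≤ n := by
    have := (e none).2
    omega
  refine assemble (n := n) (U := fun i => U' (e.symm i)) (C := fun i => C' (e.symm i)) (K := fun i => K' (e.symm i))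
    (fun i => hc' _) (fun i j hij => hUC' _ _ fun h => hij (e.symm.injective h)) hn ?_
  rw [← hK']
  exact e.symm.iSup_comp (g := K')

end final

end CfsgLib.H14MG
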