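import Cfsg.Prelude.Def_RootSubgroups
import Cfsg.Agent.LibH2Baer
import Cfsg.Agent.LibCores

/-! Root involutions: basic lemmas (seat helper14). -/

set_option autoImplicit false
open Cfsg Subgroup

namespace CfsgLib.RI14

variable {G : Type*} [Group G] {D : Set G}

/-- different with product of odd order -/
def Od (a b : G) : Prop := a ≠ b ∧ Odd (orderOf (a * b))

theorem sq (hD : IsRootInvolutionSet D) {d : G} (hd : d ∈ D) : d * d = 1 := by
  have h := pow_orderOf_eq_one d
  rwa [hD.orderOf_eq d hd, pow_two] at h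

theorem inv_eq (hD : IsRootInvolutionSet D) {d : G} (hd : d ∈ D) : d⁻¹ = d :=
  inv_eq_of_mul_eq_one_left (sq hD hd)

theorem ne_one (hD : IsRootInvolutionSet D) {d : G} (hd : d ∈ D) : d ≠ 1 := by
  rintro rfl
  have := hD.orderOf_eq 1 hd
  rw [orderOf_one] at this
  omega

theorem odd_pow {x : G} (h : Odd (orderOf x)) (k : ℕ) (hx : x ^ (2 ^ k) = 1) : x = 1 := by
  have h1 : orderOf x ∣ 2 ^ k := orderOf_dvd_of_pow_eq_one hx
  have h2 : Nat.Coprime (orderOf x) (2 ^ k) := by
    apply Nat.Coprime.pow_right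
    exact h.coprime_two_right
  have h3 : orderOf x = 1 := Nat.eq_one_of_dvd_coprimes h2 dvd_rfl h1
  exact orderOf_eq_one_iff.mp h3

theorem orderOf_cj (g x : G) : orderOf (g * x * g⁻¹) = orderOf x :=
  MulEquiv.orderOf_eq (MulAut.conj g) x

theorem Od.cj (g : G) {a b : G} (h : Od a b) : Od (g * a * g⁻¹) (g * b * g⁻¹) := by
  refine ⟨fun h' => h.1 (by simpa using h'), ?_⟩
  have : g * a * g⁻¹ * (g * b * g⁻¹) = g * (a * b) * g⁻¹ := by group
  rw [this, orderOf_cj]
  exact h.2

theorem Od.symm (hD : IsRootInvolutionSet D) {a b : G} (ha : a ∈ D) (hb : b ∈ D) (h : Od a b) : Od b a := by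
  refine ⟨h.1.symm, ?_⟩
  have : b * a = (a * b)⁻¹ := by rw [mul_inv_rev, inv_eq hD ha, inv_eq hD hb]
  rw [this, orderOf_inv]
  exact h.2

theorem Od.mul_ne (hD : IsRootInvolutionSet D) {a b : G} (hb : b ∈ D) (h : Od a b) : a * b ≠ 1 := by
  intro h'
  exact h.1 (by rw [eq_inv_of_mul_eq_one_left h', inv_eq hD hb])

theorem Od.pow4 (hD : IsRootInvolutionSet D) {a b : G} (hb : b ∈ D) (h : Od a b) : (a * b) ^ 4 ≠ 1 :=
  fun h' => h.mul_ne hD hb (odd_pow h.2 2 h')

theorem Od.not_comm (hD : IsRootInvolutionSet D) {a b : G} (ha : a ∈ D) (hb : b ∈ D) (h : Od a b) : a * b ≠ b * a := by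
  intro h'
  apply h.mul_ne hD hb
  apply odd_pow h.2 1
  rw [pow_one, Commute.mul_pow (show Commute a b from h'), pow_two, pow_two, sq hD ha, sq hD hb, one_mul]

theorem pow4_of_comm (hD : IsRootInvolutionSet D) {a b : G} (ha : a ∈ D) (hb : b ∈ D) (h : a * b = b * a) : (a * b) ^ 4 = 1 := by
  rw [Commute.mul_pow (show Commute a b from h)]
  have h1 : a ^ 4 = 1 := by rw [show 4 = 2 * 2 by norm_num, pow_mul, pow_two a, sq hD ha, one_pow]
  have h2 : b ^ 4 = 1 := by rw [show 4 = 2 * 2 by norm_num, pow_mul, pow_two b, sq hD hb, one_pow]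
  rw [h1, h2, one_mul]

theorem cases (hD : IsRootInvolutionSet D) {a b : G} (ha : a ∈ D) (hb : b ∈ D) :
    a * b = b * a ∨ Od a b ∨ (orderOf (a * b) = 4 ∧ (a * b) ^ 2 ∈ D) := by
  rcases hD.pair a ha b hb with h | h | h
  · exact Or.inl h
  · by_cases hab : a = b
    · subst hab; exact Or.inl rfl
    · exact Or.inr (Or.inl ⟨hab, h⟩)
  · exact Or.inr (Or.inr h)

theorem cases4 (hD : IsRootInvolutionSet D) {a b : G} (ha : a ∈ D) (hb : b ∈ D) (h : ¬ Od a b) :
    a * b = b * a ∨ (orderOf (a * b) = 4 ∧ (a * b) ^ 2 ∈ D) := by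
  rcases cases hD ha hb with h' | h' | h'
  · exact Or.inl h'
  · exact absurd h' h
  · exact Or.inr h'

theorem pow4 (hD : IsRootInvolutionSet D) {a b : G} (ha : a ∈ D) (hb : b ∈ D) (h : ¬ Od a b) : (a * b) ^ 4 = 1 := by
  rcases cases4 hD ha hb h with h' | h'
  · exact pow4_of_comm hD ha hb h'
  · rw [← h'.1]; exact pow_orderOf_eq_one _

theorem not_od (hD : IsRootInvolutionSet D) {a b : G} (hb : b ∈ D) (h : (a * b) ^ 4 = 1) : ¬ Od a b :=
  fun h' => h'.pow4 hD hb h

/-- two involutions whose product has square one commute -/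
theorem comm_of_sq {u v : G} (hu : u * u = 1) (hv : v * v = 1) (h : (u * v) * (u * v) = 1) : u * v = v * u := by
  have h1 : (u * v)⁻¹ = v * u := by
    rw [mul_inv_rev, inv_eq_of_mul_eq_one_left hu, inv_eq_of_mul_eq_one_left hv]
  rw [← h1]
  exact eq_inv_of_mul_eq_one_left h

theorem invol_mul {u v : G} (hu : u * u = 1) (hv : v * v = 1) (h : Commute u v) : (u * v) * (u * v) = 1 := by
  have : (u * v) * (u * v) = (u * u) * (v * v) := by
    rw [mul_assoc, ← mul_assoc v u v, ← h.eq]; group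
  rw [this, hu, hv, one_mul]

/-- Lemma A -/
theorem lemA (hD : IsRootInvolutionSet D) {x a b : G} (hx : x ∈ D) (ha : a ∈ D) (hb : b ∈ D) (hab : a * b ∈ D)
    (hc : a * b = b * a) (h : Od x a) : x * b ≠ b * x := by
  intro hxb
  have hub : Commute (x * a) b := by
    show x * a * b = b * (x * a)
    rw [mul_assoc, hc, ← mul_assoc, hxb, mul_assoc]
  have e : x * (a * b) = (x * a) * b := (mul_assoc _ _ _).symm
  have hb4 : b ^ 4 = 1 := by rw [show 4 = 2 * 2 by norm_num, pow_mul, pow_two b, sq hD hb, one_pow]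
  rcases cases hD hx hab with h' | h' | h'
  · apply h.not_comm hD hx ha
    have ea : a = a * b * b := by rw [mul_assoc, sq hD hb, mul_one]
    have : Commute x (a * b * b) := (show Commute x (a * b) from h').mul_right hxb
    rw [← ea] at this
    exact this
  · have hm := pow_orderOf_eq_one (x * (a * b))
    rw [e] at hm
    have h2 := h'.2
    rw [e] at h2
    rw [hub.mul_pow] at hm
    have hbm : b ^ orderOf (x * a * b) = b := by
      obtain ⟨k, hk⟩ := h2
      rw [hk, pow_succ, pow_mul, pow_two, sq hD hb, one_pow, one_mul]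
    rw [hbm] at hm
    have hb' : b = (x * a) ^ orderOf (x * a * b) := by
      rw [eq_inv_of_mul_eq_one_left hm, inv_eq hD hb]
    obtain ⟨k, hk⟩ := h.2
    have h3 : b ^ orderOf (x * a) = 1 := by
      rw [hb', ← pow_mul, mul_comm, pow_mul, pow_orderOf_eq_one, one_pow]
    rw [hk, pow_succ, pow_mul, pow_two, sq hD hb, one_pow, one_mul] at h3
    exact ne_one hD hb h3
  · have h4 : (x * (a * b)) ^ 4 = 1 := by rw [← h'.1]; exact pow_orderOf_eq_one _
    rw [e, hub.mul_pow, hb4, mul_one] at h4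
    exact h.pow4 hD ha h4

theorem lemA' (hD : IsRootInvolutionSet D) {x a b : G} (hx : x ∈ D) (ha : a ∈ D) (hb : b ∈ D) (hab : a * b ∈ D)
    (hc : a * b = b * a) (h : Od x a) : x * (a * b) ≠ (a * b) * x := by
  apply lemA hD hx ha hab _ _ h
  · rw [← mul_assoc, sq hD ha, one_mul]; exact hb
  · nth_rewrite 2 [hc]
    rw [← mul_assoc, sq hD ha, one_mul, mul_assoc, sq hD ha, mul_one]

/-- conjugation by a power -/
def sh (r : G) (j : ℤ) (b : G) : G := (r ^ j)⁻¹ * b * r ^ j

theorem sh_zero (r b : G) : sh r 0 b = b := by simp [sh]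

theorem sh_mul (r : G) (j : ℤ) (b c : G) : sh r j (b * c) = sh r j b * sh r j c := by simp only [sh]; group

theorem sh_sh (r : G) (i j : ℤ) (b : G) : sh r i (sh r j b) = sh r (j + i) b := by
  simp only [sh, zpow_add]; group

theorem sh_inv (r : G) (j : ℤ) (b : G) : sh r⁻¹ j b = sh r (-j) b := by
  simp only [sh, inv_zpow', neg_neg]

theorem sh_mem (hD : IsRootInvolutionSet D) (r : G) (j : ℤ) {b : G} (hb : b ∈ D) : sh r j b ∈ D := by
  have := hD.conj_mem b hb (r ^ j)⁻¹
  rwa [inv_inv] at this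

theorem sh_comm {r : G} {j : ℤ} {b c : G} (h : Commute b c) : Commute (sh r j b) (sh r j c) := by
  show _ = _
  rw [← sh_mul, ← sh_mul, h.eq]

theorem sh_comm_iff {r : G} {j : ℤ} {b c : G} : Commute (sh r j b) (sh r j c) ↔ Commute b c := by
  refine ⟨fun h => ?_, sh_comm⟩
  have := sh_comm (r := r) (j := -j) h
  rwa [sh_sh, sh_sh, add_neg_cancel, sh_zero, sh_zero] at this

theorem sh_fix {r b : G} (h : Commute r b) (j : ℤ) : sh r j b = b := by
  have : Commute (r ^ j) b := h.zpow_left j
  rw [sh, mul_assoc, ← this.eq, ← mul_assoc, inv_mul_cancel, one_mul]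

theorem lemC_aux (hD : IsRootInvolutionSet D) (k : ℕ) : ∀ a b c : G, a ∈ D → b ∈ D → c ∈ D → a * b = b * a → Od a c → ¬ Od b c →
    ∀ j : ℕ, j ≤ k → Commute b (sh (a * c) j b) := by
  induction k with
  | zero =>
    intro a b c _ _ _ _ _ _ j hj
    obtain rfl : j = 0 := by omega
    rw [Nat.cast_zero, sh_zero]
  | succ k ih =>
    intro a b c ha hb hc hab hac hbc j hj
    rcases Nat.lt_or_ge j (k + 1) with hj' | hj'
    · exact ih a b c ha hb hc hab hac hbc j (by omega)
    obtain rfl : j = k + 1 := by omega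
    have haa := sq hD ha
    have hbb := sq hD hb
    have hcc := sq hD hc
    have hai := inv_eq hD ha
    have hbi := inv_eq hD hb
    have hci := inv_eq hD hc
    by_cases hcomm : b * c = c * b
    · rw [sh_fix ((show Commute a b from hab).mul_left (show Commute c b from hcomm.symm))]
    have hb1 : sh (a * c) 1 b = c * b * c := by
      rw [sh, zpow_one, mul_inv_rev, hai, hci]
      calc c * a * b * (a * c) = c * (a * b) * a * c := by group
        _ = c * b * (a * a) * c := by rw [hab]; group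
        _ = c * b * c := by rw [haa, mul_one]
    rcases cases4 hD hb hc hbc with h | ⟨h4, hy⟩
    · exact absurd h hcomm
    have hb1D : c * b * c ∈ D := by
      have := hD.conj_mem b hb c
      rwa [hci] at this
    have hpow4 : (b * c) ^ 4 = 1 := by rw [← h4]; exact pow_orderOf_eq_one _
    -- base commutation
    have h01 : b * (c * b * c) = (c * b * c) * b := by
      apply comm_of_sq hbb (sq hD hb1D)
      rw [← hpow4]
      simp only [pow_succ, pow_zero, one_mul]
      group
    have hyeq : (b * c) ^ 2 = b * (c * b * c) := by rw [pow_two]; group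
    rw [hyeq] at hy
    rcases Nat.eq_zero_or_pos k with rfl | hk
    · simp only [zero_add, Nat.cast_one]
      rw [hb1]
      exact h01
    -- general step
    have hyc : c * (b * (c * b * c)) = (b * (c * b * c)) * c := by
      calc c * (b * (c * b * c)) = (c * b * c) * (b * c) := by group
        _ = (c * b * c) * b * c := by group
        _ = (b * (c * b * c)) * c := by rw [← h01]
    have hya : ¬ Od (b * (c * b * c)) a := by
      intro h
      have h' := h.symm hD hy ha
      have hyb : (b * (c * b * c)) * b = c * b * c := by rw [h01, mul_assoc, hbb, mul_one]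
      refine lemA hD ha hy hb ?_ ?_ h' hab
      · rw [hyb]; exact hb1D
      · rw [hyb, ← mul_assoc, hbb, one_mul]
    have hQ1 := ih a b c ha hb hc hab hac hbc
    have hQ2 := ih c (b * (c * b * c)) a hc hy ha hyc (hac.symm hD ha hc) hya k le_rfl
    have hr : c * a = (a * c)⁻¹ := by rw [mul_inv_rev, hai, hci]
    rw [hr, sh_inv, ← sh_comm_iff (r := a * c) (j := k), sh_sh, neg_add_cancel, sh_zero] at hQ2
    rw [← hb1, sh_mul, sh_sh] at hQ2
    set r := a * c with hrdef
    have e1 : Commute (sh r 1 b) (sh r k b) := by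
      have := hQ1 (k - 1) (by omega)
      rw [← sh_comm_iff (r := r) (j := 1), sh_sh] at this
      convert this using 2
      omega
    have e2 : Commute (sh r 1 b) (sh r (1 + k) b) := by
      have := hQ1 k (by omega)
      rw [← sh_comm_iff (r := r) (j := 1), sh_sh] at this
      rw [add_comm (1 : ℤ)]
      exact this
    have e0 : Commute b (sh r k b) := hQ1 k (by omega)
    have e3 : Commute (sh r 1 b) (sh r k b * sh r (1 + k) b) := e1.mul_right e2
    have e4 : Commute b (sh r k b * sh r (1 + k) b) := by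
      have h5 : Commute (b * sh r 1 b) (sh r k b * sh r (1 + k) b) := hQ2.symm
      have h6 : (b * sh r 1 b) * (sh r 1 b)⁻¹ = b := by group
      have h7 := h5.mul_left e3.inv_left
      rwa [h6] at h7
    have e5 : Commute b (sh r (1 + k) b) := by
      have h6 : (sh r k b)⁻¹ * (sh r k b * sh r (1 + k) b) = sh r (1 + k) b := by group
      have h7 := e0.inv_right.mul_right e4
      rwa [h6] at h7
    rw [Nat.cast_add, Nat.cast_one, add_comm (k : ℤ)]
    exact e5

/-- Lemma C: if `a` commutes with `b`, `ac` has odd order and `bc` has not, then the conjugates of `b` under `ac` commute. -/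
theorem lemC (hD : IsRootInvolutionSet D) {a b c : G} (ha : a ∈ D) (hb : b ∈ D) (hc : c ∈ D) (hab : a * b = b * a) (hac : Od a c)
    (hbc : ¬ Od b c) (i j : ℤ) : Commute (sh (a * c) i b) (sh (a * c) j b) := by
  have key : ∀ (i : ℤ) (k : ℕ), Commute (sh (a * c) i b) (sh (a * c) (i + k) b) := by
    intro i k
    have := lemC_aux hD k a b c ha hb hc hab hac hbc k le_rfl
    rw [← sh_comm_iff (r := a * c) (j := i), sh_sh] at this
    rw [add_comm i]
    exact this
  rcases le_total i j with h | h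
  · obtain ⟨k, rfl⟩ := Int.le.dest h
    exact key i k
  · obtain ⟨k, rfl⟩ := Int.le.dest h
    exact (key j k).symm

/-- Lemma B -/
theorem lemB (hD : IsRootInvolutionSet D) {x a b : G} (hx : x ∈ D) (ha : a ∈ D) (hb : b ∈ D) (hab : a * b ∈ D)
    (hc : a * b = b * a) (h : Od x a) : Od x b ∨ Od x (a * b) := by
  by_contra hcon
  push Not at hcon
  obtain ⟨h1, h2⟩ := hcon
  have haa := sq hD ha
  have hbb := sq hD hb
  have hxx := sq hD hx
  have hai := inv_eq hD ha
  have hxi := inv_eq hD hx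
  have hax := h.symm hD hx ha
  have h1' : ¬ Od b x := fun h' => h1 (h'.symm hD hb hx)
  have h2' : ¬ Od (a * b) x := fun h' => h2 (h'.symm hD hab hx)
  have hc' : a * (a * b) = (a * b) * a := by
    nth_rewrite 2 [hc]
    rw [← mul_assoc, haa, one_mul, mul_assoc, haa, mul_one]
  have hE := lemC hD ha hb hx hc hax h1'
  have hE' := lemC hD ha hab hx hc' hax h2' 0 1
  rw [sh_zero] at hE'
  set r := a * x with hr
  have hs1 : sh r 1 (a * b) = x * b * a * x := by
    rw [sh, zpow_one, hr, mul_inv_rev, hai, hxi]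
    calc x * a * (a * b) * (a * x) = x * (a * a) * b * (a * x) := by group
      _ = x * b * a * x := by rw [haa]; group
  have hbr : (b * r) ^ 2 = (a * b) * sh r 1 (a * b) := by
    rw [hs1, pow_two, hr]
    calc b * (a * x) * (b * (a * x)) = (b * a) * x * b * a * x := by group
      _ = (a * b) * (x * b * a * x) := by rw [← hc]; group
  have h4 : (b * r) ^ 4 = 1 := by
    rw [show 4 = 2 * 2 by norm_num, pow_mul, hbr, pow_two]
    exact invol_mul (sq hD hab) (sq hD (sh_mem hD r 1 hab)) hE'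
  have h4' : (b * r) ^ 4 = (b * sh r (-1) b) * (sh r (-2) b * sh r (-3) b) * r ^ 4 := by
    simp only [sh, pow_succ, pow_zero, one_mul]
    group
  have hE0 : ∀ j, Commute b (sh r j b) := fun j => by
    have := hE 0 j
    rwa [sh_zero] at this
  set p := (b * sh r (-1) b) * (sh r (-2) b * sh r (-3) b) with hp
  have hpp : p * p = 1 := by
    apply invol_mul
    · exact invol_mul hbb (sq hD (sh_mem hD r _ hb)) (hE0 _)
    · exact invol_mul (sq hD (sh_mem hD r _ hb)) (sq hD (sh_mem hD r _ hb)) (hE _ _)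
    · exact ((hE0 _).mul_right (hE0 _)).mul_left ((hE _ _).mul_right (hE _ _))
  rw [h4] at h4'
  have h5 : r ^ 4 = p := by
    have h6 : r ^ 4 = p⁻¹ := eq_inv_of_mul_eq_one_right h4'.symm
    rw [h6]
    exact inv_eq_of_mul_eq_one_left hpp
  have h8 : r ^ (2 ^ 3) = 1 := by
    rw [show 2 ^ 3 = 4 * 2 by norm_num, pow_mul, h5, pow_two, hpp]
  exact hax.mul_ne hD hx (odd_pow hax.2 3 h8)

/-! ### The graph of products of odd order -/

theorem oddAdj_iff {a b : G} : OddAdj D a b ↔ a ∈ D ∧ b ∈ D ∧ Od a b := by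
  simp only [OddAdj, Od]

theorem OddAdj_symm (hD : IsRootInvolutionSet D) {a b : G} (h : OddAdj D a b) : OddAdj D b a := by
  rw [oddAdj_iff] at h ⊢
  exact ⟨h.2.1, h.1, h.2.2.symm hD h.1 h.2.1⟩

theorem OddAdj_cj (hD : IsRootInvolutionSet D) (g : G) {a b : G} (h : OddAdj D a b) : OddAdj D (g * a * g⁻¹) (g * b * g⁻¹) := by
  rw [oddAdj_iff] at h ⊢
  exact ⟨hD.conj_mem _ h.1 g, hD.conj_mem _ h.2.1 g, h.2.2.cj g⟩

theorem reach_symm (hD : IsRootInvolutionSet D) {a b : G} (h : Relation.ReflTransGen (OddAdj D) a b) :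
    Relation.ReflTransGen (OddAdj D) b a := by
  induction h with
  | refl => exact .refl
  | tail _ h2 ih => exact Relation.ReflTransGen.head (OddAdj_symm hD h2) ih

theorem reach_cj (hD : IsRootInvolutionSet D) (g : G) {a b : G} (h : Relation.ReflTransGen (OddAdj D) a b) :
    Relation.ReflTransGen (OddAdj D) (g * a * g⁻¹) (g * b * g⁻¹) := by
  induction h with
  | refl => exact .refl
  | tail _ h2 ih => exact ih.tail (OddAdj_cj hD g h2)

/-- adjacent members are conjugate by a member of `D` in the group they generate -/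
theorem exists_swap (hD : IsRootInvolutionSet D) {a b : G} (ha : a ∈ D) (hb : b ∈ D) (h : Odd (orderOf (a * b))) :
    ∃ w ∈ D, w ∈ closure {a, b} ∧ w * a * w⁻¹ = b ∧ w * b * w⁻¹ = a := by
  obtain ⟨k, hk⟩ := h
  have hai := inv_eq hD ha
  have hbi := inv_eq hD hb
  have haa := sq hD ha
  have hord : (a * b) ^ (2 * k + 1) = 1 := by rw [← hk]; exact pow_orderOf_eq_one _
  have hara : a * (a * b) * a⁻¹ = (a * b)⁻¹ := by
    rw [← mul_assoc, haa, one_mul, hai, mul_inv_rev, hbi, hai]
  set r := a * b with hr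
  have hinv : ∀ n : ℕ, a * r ^ n * a = (r ^ n)⁻¹ := by
    intro n
    have := conj_pow (i := n) (a := a) (b := r)
    rw [hara, hai, inv_pow] at this
    exact this.symm
  have hw : a * r ^ (k + 1) = (r ^ ((k + 1) * (k + 1)))⁻¹ * a * r ^ ((k + 1) * (k + 1)) := by
    rw [← hinv, mul_assoc (a * r ^ ((k + 1) * (k + 1))), haa, mul_one, mul_assoc, ← pow_add]
    have e : (k + 1) * (k + 1) + (k + 1) * (k + 1) = (2 * k + 1) * (k + 1) + (k + 1) := by ring
    have e2 : r ^ ((k + 1) * (k + 1) + (k + 1) * (k + 1)) = r ^ (k + 1) := by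
      rw [e, pow_add r ((2 * k + 1) * (k + 1)), pow_mul, hord, one_pow, one_mul]
    rw [e2]
  have hwD : a * r ^ (k + 1) ∈ D := by
    rw [hw]
    have := hD.conj_mem a ha (r ^ ((k + 1) * (k + 1)))⁻¹
    rwa [inv_inv] at this
  have hwi := inv_eq hD hwD
  have hww := sq hD hwD
  have h1 : (a * r ^ (k + 1)) * a * (a * r ^ (k + 1))⁻¹ = b := by
    rw [hwi]
    calc a * r ^ (k + 1) * a * (a * r ^ (k + 1)) = a * r ^ (k + 1) * (a * a) * r ^ (k + 1) := by group
      _ = a * (r ^ (k + 1) * r ^ (k + 1)) := by rw [haa]; group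
      _ = a * r := by rw [← pow_add, show k + 1 + (k + 1) = 2 * k + 1 + 1 by ring, pow_succ, hord, one_mul]
      _ = b := by rw [hr, ← mul_assoc, haa, one_mul]
  refine ⟨a * r ^ (k + 1), hwD, ?_, h1, ?_⟩
  · have ha' : a ∈ closure ({a, b} : Set G) := subset_closure (by simp)
    have hb' : b ∈ closure ({a, b} : Set G) := subset_closure (by simp)
    exact mul_mem ha' (pow_mem (mul_mem ha' hb') _)
  · rw [← h1, hwi]
    calc a * r ^ (k + 1) * (a * r ^ (k + 1) * a * (a * r ^ (k + 1))) * (a * r ^ (k + 1))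
        = ((a * r ^ (k + 1)) * (a * r ^ (k + 1))) * a * ((a * r ^ (k + 1)) * (a * r ^ (k + 1))) := by group
      _ = a := by rw [hww]; group

theorem isPGroup_pair [Finite G] {u v : G} (hu : u * u = 1) (h : (u * v) ^ 4 = 1) (hv : v * v = 1) : IsPGroup 2 ↥(closure {u, v}) := by
  have hui : u⁻¹ = u := inv_eq_of_mul_eq_one_left hu
  have hvi : v⁻¹ = v := inv_eq_of_mul_eq_one_left hv
  have h1 : closure {u, v} ≤ zpowers (u * v) ⊔ zpowers u := by
    rw [closure_le]
    rintro x (rfl | hx)
    · exact mem_sup_right (mem_zpowers _)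
    · rw [Set.mem_singleton_iff] at hx
      have h2 : u⁻¹ * (u * v) = v := by group
      rw [SetLike.mem_coe, hx, ← h2]
      have h3 : u ∈ zpowers (u * v) ⊔ zpowers u := mem_sup_right (mem_zpowers _)
      have h4 : u * v ∈ zpowers (u * v) ⊔ zpowers u := mem_sup_left (mem_zpowers _)
      rw [h2]
      have h5 := mul_mem (inv_mem h3) h4
      rwa [h2] at h5
  have hu2 : IsPGroup 2 ↥(zpowers u) := by
    rintro ⟨x, n, rfl⟩
    refine ⟨1, Subtype.ext ?_⟩
    show (u ^ n) ^ 2 ^ 1 = 1
    rw [pow_one, ← zpow_natCast, ← zpow_mul, mul_comm, zpow_mul, zpow_natCast, pow_two, hu, one_zpow]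
  have hr2 : IsPGroup 2 ↥(zpowers (u * v)) := by
    rintro ⟨x, n, rfl⟩
    refine ⟨2, Subtype.ext ?_⟩
    show ((u * v) ^ n) ^ 2 ^ 2 = 1
    rw [← zpow_natCast, ← zpow_mul, mul_comm, zpow_mul, zpow_natCast, show 2 ^ 2 = 4 by norm_num, h, one_zpow]
  have hn : zpowers u ≤ Subgroup.normalizer (zpowers (u * v) : Set G) := by
    rw [zpowers_le, mem_normalizer_iff]
    have key : ∀ x, x ∈ zpowers (u * v) → u * x * u⁻¹ ∈ zpowers (u * v) := by
      rintro _ ⟨n, rfl⟩
      refine ⟨-n, ?_⟩
      show (u * v) ^ (-n) = u * (u * v) ^ n * u⁻¹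
      rw [← conj_zpow, ← mul_assoc, hu, one_mul, hui, zpow_neg, ← inv_zpow, mul_inv_rev, hui, hvi]
    intro x
    refine ⟨key x, fun hx => ?_⟩
    have := key _ hx
    rw [hui] at this
    have e : u * (u * x * u) * u = x := by
      calc u * (u * x * u) * u = (u * u) * x * (u * u) := by group
        _ = x := by rw [hu]; group
    rwa [e] at this
  exact (IsPGroup.to_sup_of_normal_left' hr2 hu2 hn).to_le h1

end CfsgLib.RI14
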