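import Cfsg.Agent.LibH14RI

/-! Root involutions: the connected case (seat helper14). -/

set_option autoImplicit false
open Cfsg Subgroup
open scoped commutatorElement

namespace CfsgLib.RI14

variable {G : Type*} [Group G] {D : Set G}

theorem reach_conj (hD : IsRootInvolutionSet D) {a b : G} (h : Relation.ReflTransGen (OddAdj D) a b) : ∃ g : G, g * a * g⁻¹ = b := by
  induction h with
  | refl => exact ⟨1, by simp⟩
  | tail _ h2 ih =>
    obtain ⟨g, rfl⟩ := ih
    have h3 := oddAdj_iff.mp h2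
    obtain ⟨w, -, -, hw, -⟩ := exists_swap hD h3.1 h3.2.1 h3.2.2.2
    exact ⟨w * g, by rw [← hw]; group⟩

theorem conj_of_connected (hD : IsRootInvolutionSet D) (hc : IsConnectedSet (OddAdj D) D) {a b : G} (ha : a ∈ D) (hb : b ∈ D) :
    ∃ g : G, g * a * g⁻¹ = b := reach_conj hD (hc a ha b hb)

/-- every member has a partner whose product with it is a member -/
theorem exists_partner (hD : IsRootInvolutionSet D) (hconj : ∀ a ∈ D, ∀ b ∈ D, ∃ g : G, g * a * g⁻¹ = b)
    (hDD : (D ∩ commutingProducts D).Nonempty) {a : G} (ha : a ∈ D) : ∃ e ∈ D, a * e = e * a ∧ a * e ∈ D := by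
  obtain ⟨x, hx, a0, ha0, b0, hb0, hab, -, rfl⟩ := hDD
  obtain ⟨g, rfl⟩ := hconj a0 ha0 a ha
  refine ⟨g * b0 * g⁻¹, hD.conj_mem b0 hb0 g, ?_, ?_⟩
  · have h1 : g * a0 * g⁻¹ * (g * b0 * g⁻¹) = g * (a0 * b0) * g⁻¹ := by group
    have h2 : g * b0 * g⁻¹ * (g * a0 * g⁻¹) = g * (b0 * a0) * g⁻¹ := by group
    rw [h1, h2, hab]
  · have h1 : g * a0 * g⁻¹ * (g * b0 * g⁻¹) = g * (a0 * b0) * g⁻¹ := by group
    rw [h1]
    exact hD.conj_mem _ hx g

/-- a normal subgroup meeting `D` trivially: members in the coset of a member commute with it -/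
theorem comm_coset (hD : IsRootInvolutionSet D) (M : Subgroup G) [hMn : M.Normal] (hM : ∀ d ∈ D, d ∉ M)
    {a e : G} (ha : a ∈ D) (he : e ∈ D) (hae : a * e = e * a) (haeD : a * e ∈ D) {n : G} (hn : n ∈ M) (hb : a * n ∈ D) :
    Commute a (a * n) := by
  have haa := sq hD ha
  have h1 : e * (a * n) = (a * n) * e := by
    have h2 : (e * (a * n)) ^ 2 ∈ M := by
      have h3 : (e * (a * n)) ^ 2 = ((e * a) * (e * a)) * (((e * a)⁻¹ * n * (e * a)⁻¹⁻¹) * n) := by
        rw [pow_two]; group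
      have h4 : (e * a) * (e * a) = 1 := by
        rw [← hae]; exact sq hD haeD
      rw [h3, h4, one_mul]
      exact mul_mem (hMn.conj_mem n hn _) hn
    rcases cases hD he hb with h | h | ⟨-, h⟩
    · exact h
    · exfalso
      obtain ⟨k, hk⟩ := h.2
      have h5 := pow_orderOf_eq_one (e * (a * n))
      rw [hk, pow_succ, pow_mul] at h5
      have h6 : e * (a * n) = (((e * (a * n)) ^ 2) ^ k)⁻¹ := eq_inv_of_mul_eq_one_right h5
      have h7 : e * (a * n) ∈ M := by rw [h6]; exact inv_mem (pow_mem h2 k)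
      have h8 : e * a ∈ M := by
        have : e * a = e * (a * n) * n⁻¹ := by group
        rw [this]; exact mul_mem h7 (inv_mem hn)
      exact hM _ haeD (by rw [hae]; exact h8)
    · exact absurd h2 (hM _ h)
  rcases cases hD ha hb with h | h | ⟨-, h⟩
  · exact h
  · exact absurd h1.symm (lemA hD hb ha he haeD hae (h.symm hD ha hb))
  · exfalso
    apply hM _ h
    have : a * (a * n) = n := by rw [← mul_assoc, haa, one_mul]
    rw [this]
    exact pow_mem hn 2

/-- a normal subgroup meeting `D` trivially centralises `D` modulo `O₂(G)` -/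
theorem comm_mem_pCore [Finite G] (hD : IsRootInvolutionSet D) (M : Subgroup G) [hMn : M.Normal] (hM : ∀ d ∈ D, d ∉ M)
    {a e : G} (ha : a ∈ D) (he : e ∈ D) (hae : a * e = e * a) (haeD : a * e ∈ D) {m : G} (hm : m ∈ M) :
    m * a * m⁻¹ * a⁻¹ ∈ pCore 2 G := by
  haveI : Fact (Nat.Prime 2) := ⟨Nat.prime_two⟩
  have haa := sq hD ha
  have hcomm : ∀ m ∈ M, ∀ m' ∈ M, Commute (m * a * m⁻¹) (m' * a * m'⁻¹) := by
    intro m hm m' hm'
    have h1 := comm_coset hD M hM (hD.conj_mem a ha m) (hD.conj_mem e he m)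
      (by
        have h1 : m * a * m⁻¹ * (m * e * m⁻¹) = m * (a * e) * m⁻¹ := by group
        have h2 : m * e * m⁻¹ * (m * a * m⁻¹) = m * (e * a) * m⁻¹ := by group
        rw [h1, h2, hae])
      (by
        have h1 : m * a * m⁻¹ * (m * e * m⁻¹) = m * (a * e) * m⁻¹ := by group
        rw [h1]; exact hD.conj_mem _ haeD m) (n := (m * a * m⁻¹)⁻¹ * (m' * a * m'⁻¹))
      (by
        have h1 : (m * a * m⁻¹)⁻¹ * (m' * a * m'⁻¹) = m * (a⁻¹ * (m⁻¹ * m') * a⁻¹⁻¹) * m'⁻¹ := by group
        rw [h1]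
        exact mul_mem (mul_mem hm (hMn.conj_mem _ (mul_mem (inv_mem hm) hm') _)) (inv_mem hm'))
      (by
        rw [mul_inv_cancel_left]; exact hD.conj_mem a ha m')
    rwa [mul_inv_cancel_left] at h1
  set S : Set G := {x | ∃ m ∈ M, x = m * a * m⁻¹} with hS
  have hScomm : ∀ x ∈ S, ∀ y ∈ S, x * y = y * x := by
    rintro _ ⟨m, hm, rfl⟩ _ ⟨m', hm', rfl⟩
    exact hcomm m hm m' hm'
  haveI hAc : IsMulCommutative (closure S) := Subgroup.isMulCommutative_closure hScomm
  have hsq : ∀ x ∈ closure S, x * x = 1 := by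
    intro x hx
    induction hx using closure_induction with
    | mem x hx =>
      obtain ⟨m, hm, rfl⟩ := hx
      exact sq hD (hD.conj_mem a ha m)
    | one => simp
    | mul x y hx' hy' hx hy =>
      have : Commute x y := congrArg Subtype.val (hAc.is_comm.comm (⟨x, hx'⟩ : closure S) ⟨y, hy'⟩)
      exact invol_mul hx hy this
    | inv x _ hx => rw [← mul_inv_rev, hx, inv_one]
  have hconj : ∀ n ∈ M, ∀ x ∈ closure S, n * x * n⁻¹ ∈ closure S := by
    intro n hn x hx
    induction hx using closure_induction with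
    | mem x hx =>
      obtain ⟨m, hm, rfl⟩ := hx
      exact subset_closure ⟨n * m, mul_mem hn hm, by group⟩
    | one => simpa using one_mem _
    | mul x y _ _ hx hy =>
      have : n * (x * y) * n⁻¹ = (n * x * n⁻¹) * (n * y * n⁻¹) := by group
      rw [this]; exact mul_mem hx hy
    | inv x _ hx =>
      have : n * x⁻¹ * n⁻¹ = (n * x * n⁻¹)⁻¹ := by group
      rw [this]; exact inv_mem hx
  haveI hN : ((closure S).subgroupOf M).Normal := by
    constructor
    intro x hx n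
    rw [mem_subgroupOf] at hx ⊢
    exact hconj n n.2 x hx
  have hp : IsPGroup 2 ↥((closure S).subgroupOf M) := by
    rintro ⟨⟨x, hxM⟩, hx⟩
    refine ⟨1, Subtype.ext (Subtype.ext ?_)⟩
    show x ^ 2 ^ 1 = 1
    rw [pow_one, pow_two]
    exact hsq x hx
  have h1 := CfsgLib.Cores.le_pCore hN hp
  have h2 : m * a * m⁻¹ * a⁻¹ ∈ M := by
    have : m * a * m⁻¹ * a⁻¹ = m * (a * m⁻¹ * a⁻¹) := by group
    rw [this]
    exact mul_mem hm (hMn.conj_mem _ (inv_mem hm) a)
  have h3 : m * a * m⁻¹ * a⁻¹ ∈ closure S :=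
    mul_mem (subset_closure ⟨m, hm, rfl⟩) (inv_mem (subset_closure ⟨1, one_mem _, by group⟩))
  have h4 : m * a * m⁻¹ * a⁻¹ ∈ (pCore 2 M).map M.subtype := ⟨⟨_, h2⟩, h1 h3, rfl⟩
  rw [CfsgLib.Cores.map_pCore_of_normal] at h4
  exact h4.1

end CfsgLib.RI14
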