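import Cfsg.Agent.LibH14RI2

/-! Root involutions: the members with the same commuting members (seat helper14). -/

set_option autoImplicit false
open Cfsg Subgroup
open scoped commutatorElement

namespace CfsgLib.RI14

variable {G : Type*} [Group G] {D : Set G}

theorem mem_oddPartners {d x : G} : x ∈ oddPartners D d ↔ x ∈ D ∧ Od d x := by
  constructor
  · rintro ⟨h1, h2, h3⟩
    exact ⟨h1, fun h => h2 h.symm, h3⟩
  · rintro ⟨h1, h2, h3⟩
    exact ⟨h1, fun h => h2 h.symm, h3⟩

theorem oddPartners_cj (hD : IsRootInvolutionSet D) (g d : G) :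
    oddPartners D (g * d * g⁻¹) = (fun x => g * x * g⁻¹) '' oddPartners D d := by
  ext x
  simp only [Set.mem_image, mem_oddPartners]
  constructor
  · rintro ⟨h1, h2⟩
    refine ⟨g⁻¹ * x * g, ⟨?_, ?_⟩, by group⟩
    · have := hD.conj_mem x h1 g⁻¹
      rwa [inv_inv] at this
    · have h3 := h2.cj g⁻¹
      have e1 : g⁻¹ * (g * d * g⁻¹) * g⁻¹⁻¹ = d := by group
      rwa [e1, inv_inv] at h3
  · rintro ⟨y, ⟨h1, h2⟩, rfl⟩
    exact ⟨hD.conj_mem y h1 g, h2.cj g⟩

theorem oddPartners_cj_eq (hD : IsRootInvolutionSet D) (g : G) {d e : G} (h : oddPartners D d = oddPartners D e) :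
    oddPartners D (g * d * g⁻¹) = oddPartners D (g * e * g⁻¹) := by
  rw [oddPartners_cj hD, oddPartners_cj hD, h]

theorem ncard_oddPartners (hD : IsRootInvolutionSet D) {a b g : G} (h : g * a * g⁻¹ = b) :
    (oddPartners D b).ncard = (oddPartners D a).ncard := by
  rw [← h, oddPartners_cj hD]
  exact Set.ncard_image_of_injective _ (fun x y hxy => by simpa using hxy)

theorem eq_of_subset [Finite G] (hD : IsRootInvolutionSet D) (hconj : ∀ a ∈ D, ∀ b ∈ D, ∃ g : G, g * a * g⁻¹ = b)
    {a b : G} (ha : a ∈ D) (hb : b ∈ D) (h : oddPartners D a ⊆ oddPartners D b) : oddPartners D a = oddPartners D b := by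
  obtain ⟨g, hg⟩ := hconj a ha b hb
  exact Set.eq_of_subset_of_ncard_le h (ncard_oddPartners hD hg).le (Set.toFinite _)

theorem sq_mem_or (hD : IsRootInvolutionSet D) {a b : G} (ha : a ∈ D) (hb : b ∈ D) (h : ¬ Od a b) :
    (a * b) ^ 2 ∈ D ∨ (a * b = b * a ∧ (a * b) ^ 2 = 1) := by
  rcases cases4 hD ha hb h with h' | h'
  · right
    refine ⟨h', ?_⟩
    rw [Commute.mul_pow (show Commute a b from h'), pow_two, pow_two, sq hD ha, sq hD hb, one_mul]
  · exact Or.inl h'.2

/-- if `a, b` do not commute and have no odd product, `z = (ab)²` satisfies the expected relations -/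
theorem four_rel (hD : IsRootInvolutionSet D) {a b : G} (ha : a ∈ D) (hb : b ∈ D) (h : (a * b) ^ 4 = 1) :
    a * (a * b) ^ 2 = b * a * b ∧ (a * b) ^ 2 * a = b * a * b ∧ b * (a * b) ^ 2 = a * b * a ∧ (a * b) ^ 2 * b = a * b * a ∧
      (a * b) ^ 2 = b * a * b * a := by
  have haa := sq hD ha
  have hbb := sq hD hb
  have hai := inv_eq hD ha
  have hbi := inv_eq hD hb
  have h1 : (a * b) ^ 2 = ((a * b) ^ 2)⁻¹ := by
    rw [eq_inv_iff_mul_eq_one, ← pow_add]; exact h
  have h2 : (a * b) ^ 2 = b * a * b * a := by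
    rw [h1, pow_two, mul_inv_rev, mul_inv_rev, hai, hbi]; group
  have h3 : (a * b) ^ 2 = a * b * a * b := by rw [pow_two]; group
  refine ⟨?_, ?_, ?_, ?_, h2⟩
  · rw [h3]
    calc a * (a * b * a * b) = (a * a) * b * a * b := by group
      _ = b * a * b := by rw [haa, one_mul]
  · rw [h2, mul_assoc, haa, mul_one]
  · rw [h2]
    calc b * (b * a * b * a) = (b * b) * a * b * a := by group
      _ = a * b * a := by rw [hbb, one_mul]
  · rw [h3, mul_assoc, hbb, mul_one]

theorem cj_mem (hD : IsRootInvolutionSet D) {a b : G} (ha : a ∈ D) (hb : b ∈ D) : a * b * a ∈ D := by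
  have := hD.conj_mem b hb a
  rwa [inv_eq hD ha] at this

/-- the block of a member: the members with the same odd partners commute -/
theorem block_comm [Finite G] (hD : IsRootInvolutionSet D) (hconj : ∀ a ∈ D, ∀ b ∈ D, ∃ g : G, g * a * g⁻¹ = b)
    {c e : G} (hc : c ∈ D) (he : e ∈ D) (hce : oddPartners D c = oddPartners D e) : c * e = e * c := by
  haveI : Fact (Nat.Prime 2) := ⟨Nat.prime_two⟩
  set T : Set G := {t | t ∈ D ∧ oddPartners D t = oddPartners D e} with hT
  have hnod : ∀ t ∈ T, ∀ t' ∈ T, ¬ Od t t' := by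
    rintro t ⟨ht, h1⟩ t' ⟨ht', h2⟩ h
    have h3 : t' ∈ oddPartners D t := mem_oddPartners.mpr ⟨ht', h⟩
    rw [h1, ← h2] at h3
    exact (mem_oddPartners.mp h3).2.1 rfl
  have hcj : ∀ t ∈ T, ∀ t' ∈ T, t' * t * t'⁻¹ ∈ T := by
    rintro t ⟨ht, h1⟩ t' ⟨ht', h2⟩
    refine ⟨hD.conj_mem t ht t', ?_⟩
    have := oddPartners_cj_eq hD t' (h1.trans h2.symm)
    have e1 : t' * t' * t'⁻¹ = t' := by group
    rw [e1] at this
    rw [this, h2]
  have hsqT : ∀ t ∈ T, ∀ t' ∈ T, t * t' ≠ t' * t → (t * t') ^ 2 ∈ T := by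
    intro t ht t' ht' hne
    have h4 : (t * t') ^ 4 = 1 := pow4 hD ht.1 ht'.1 (hnod t ht t' ht')
    rcases cases4 hD ht.1 ht'.1 (hnod t ht t' ht') with h | ⟨-, hz⟩
    · exact absurd h hne
    · refine ⟨hz, ?_⟩
      obtain ⟨r1, r2, r3, r4, r5⟩ := four_rel hD ht.1 ht'.1 h4
      have h5 := hcj t ht t' ht'
      rw [inv_eq hD ht'.1] at h5
      rw [← ht.2]
      apply eq_of_subset hD hconj hz ht.1
      intro x hx
      rw [mem_oddPartners] at hx ⊢
      refine ⟨hx.1, ?_⟩
      rcases lemB hD hx.1 hz ht.1 (by rw [r2]; exact h5.1) (r2.trans r1.symm) (hx.2.symm hD hz hx.1) with h | h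
      · exact h.symm hD hx.1 ht.1
      · rw [r2] at h
        have h6 : x ∈ oddPartners D (t' * t * t') := mem_oddPartners.mpr ⟨hx.1, h.symm hD hx.1 h5.1⟩
        rw [h5.2, ← ht.2] at h6
        exact (mem_oddPartners.mp h6).2
  -- the group generated by the block is a 2-group
  set P := closure T with hP
  have hPcj : ∀ p ∈ P, ∀ t ∈ T, p * t * p⁻¹ ∈ T := by
    have hT1 : ∀ t' ∈ T, ∀ t ∈ T, t'⁻¹ * t * t'⁻¹⁻¹ ∈ T := by
      intro t' ht' t ht
      have := hcj t ht t' ht'
      rw [inv_eq hD ht'.1] at this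
      rw [inv_inv, inv_eq hD ht'.1]; exact this
    intro p hp
    induction hp using closure_induction'' with
    | mem x hx => exact fun t ht => hcj t ht x hx
    | inv_mem x hx => exact fun t ht => hT1 x hx t ht
    | one => intro t ht; simpa using ht
    | mul x y _ _ hx hy =>
      intro t ht
      have : x * y * t * (x * y)⁻¹ = x * (y * t * y⁻¹) * x⁻¹ := by group
      rw [this]; exact hx _ (hy t ht)
  have hPp : IsPGroup 2 P := by
    have h1 : ∀ t (ht : t ∈ T), (⟨t, subset_closure ht⟩ : P) ∈ pCore 2 P := by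
      intro t ht
      apply CfsgLib.H2Baer.baer_suzuki_elt
      rintro ⟨g, hg⟩
      have h2 := hPcj g hg t ht
      apply isPGroup_pair
      · exact Subtype.ext (sq hD ht.1)
      · exact Subtype.ext (pow4 hD ht.1 h2.1 (hnod t ht _ h2))
      · exact Subtype.ext (sq hD h2.1)
    have h2 : (⊤ : Subgroup P) ≤ pCore 2 P := by
      rintro ⟨p, hp⟩ -
      induction hp using closure_induction with
      | mem x hx => exact h1 x hx
      | one => exact one_mem _
      | mul x y hx' hy' hx hy => exact mul_mem hx hy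
      | inv x _ hx => exact inv_mem hx
    have h3 := (CfsgLib.Cores.pCore_isPGroup 2 (G := P)).to_le h2
    intro x
    obtain ⟨k, hk⟩ := h3 ⟨x, mem_top x⟩
    exact ⟨k, congrArg Subtype.val hk⟩
  have hPnil : Group.IsNilpotent P := hPp.isNilpotent
  -- a central member
  have hcen : ∃ t ∈ T, ∀ s ∈ T, t * s = s * t := by
    by_contra hcon
    push Not at hcon
    have h1 : ∀ n : ℕ, ∃ t : P, t.1 ∈ T ∧ t ∈ (⊤ : Subgroup P).lowerCentralSeries n := by
      intro n
      induction n with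
      | zero => exact ⟨⟨e, subset_closure ⟨he, rfl⟩⟩, ⟨he, rfl⟩, mem_top _⟩
      | succ n ih =>
        obtain ⟨t, ht, htn⟩ := ih
        obtain ⟨s, hs, hne⟩ := hcon t ht
        refine ⟨⁅t, ⟨s, subset_closure hs⟩⁆, ?_, ?_⟩
        · have h2 := hsqT t ht s hs hne
          have h3 : (⁅t, (⟨s, subset_closure hs⟩ : P)⁆ : P).1 = ((t : G) * s) ^ 2 := by
            rw [commutatorElement_def]
            show (t : G) * s * (t : G)⁻¹ * s⁻¹ = _
            rw [inv_eq hD ht.1, inv_eq hD hs.1, pow_two]; group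
          rw [h3]; exact h2
        · exact commutator_mem_commutator htn (mem_top _)
    obtain ⟨n, hn⟩ := Subgroup.nilpotent_iff_lowerCentralSeries.mp hPnil
    obtain ⟨t, ht, htn⟩ := h1 n
    rw [hn, mem_bot] at htn
    apply ne_one hD ht.1
    rw [htn]; rfl
  obtain ⟨t0, ht0, hcomm⟩ := hcen
  -- transport
  obtain ⟨g, hg⟩ := hconj t0 ht0.1 c hc
  have h1 : g⁻¹ * e * g ∈ T := by
    refine ⟨by have := hD.conj_mem e he g⁻¹; rwa [inv_inv] at this, ?_⟩
    have h2 : oddPartners D e = oddPartners D c := hce.symm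
    have h3 := oddPartners_cj_eq hD g⁻¹ h2
    rw [inv_inv, ← hg] at h3
    have e1 : g⁻¹ * (g * t0 * g⁻¹) * g = t0 := by group
    rw [e1] at h3
    rw [h3, ht0.2]
  have h2 := hcomm _ h1
  have h3 : g * (t0 * (g⁻¹ * e * g)) * g⁻¹ = c * e := by rw [← hg]; group
  have h4 : g * ((g⁻¹ * e * g) * t0) * g⁻¹ = e * c := by rw [← hg]; group
  rw [← h3, ← h4, h2]

section seq

variable (hD : IsRootInvolutionSet D) {z c x : G} (hz : z ∈ D) (hc : c ∈ D) (hx : x ∈ D) (hzc : z * c = c * z) (hzx : Od z x)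
  (hcx : ¬ Od c x)

include hD hz hx in
theorem z_pow (i : ℤ) : z * (z * x) ^ i * z⁻¹ = (z * x) ^ (-i) := by
  rw [← conj_zpow]
  have : z * (z * x) * z⁻¹ = (z * x)⁻¹ := by
    rw [← mul_assoc, sq hD hz, one_mul, mul_inv_rev, inv_eq hD hx]
  rw [this, inv_zpow']

include hD hz hx in
theorem x_pow (i : ℤ) : x * (z * x) ^ i * x⁻¹ = (z * x) ^ (-i) := by
  rw [← conj_zpow]
  have : x * (z * x) * x⁻¹ = (z * x)⁻¹ := by
    rw [mul_inv_rev, inv_eq hD hx, inv_eq hD hz, mul_assoc, mul_assoc, sq hD hx, mul_one]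
  rw [this, inv_zpow']

include hD hz hx hzc in
theorem z_sh (i : ℤ) : z * sh (z * x) i c * z⁻¹ = sh (z * x) (-i) c := by
  have h1 : z * sh (z * x) i c * z⁻¹ = (z * (z * x) ^ i * z⁻¹)⁻¹ * (z * c * z⁻¹) * (z * (z * x) ^ i * z⁻¹) := by
    simp only [sh]; group
  have h2 : z * c * z⁻¹ = c := by rw [hzc]; group
  rw [h1, z_pow hD hz hx, h2, sh]

include hD hz hx hzc in
theorem sh_one_eq : sh (z * x) 1 c = x * c * x⁻¹ := by
  rw [sh, zpow_one]
  have h1 : (z * x)⁻¹ * c * (z * x) = x⁻¹ * (z⁻¹ * (c * z)) * x := by group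
  rw [h1, ← hzc, inv_mul_cancel_left, inv_eq hD hx]

include hD hz hx hzc in
theorem x_sh (i : ℤ) : x * sh (z * x) i c * x⁻¹ = sh (z * x) (1 - i) c := by
  have h1 : x * sh (z * x) i c * x⁻¹ = (x * (z * x) ^ i * x⁻¹)⁻¹ * (x * c * x⁻¹) * (x * (z * x) ^ i * x⁻¹) := by
    simp only [sh]; group
  rw [h1, x_pow hD hz hx, ← sh_one_eq hD hz hx hzc]
  rw [show (1 : ℤ) - i = 1 + -i by ring, ← sh_sh]
  rfl

include hD hc in
theorem sh_sq (r : G) (i : ℤ) : sh r i c * sh r i c = 1 := sq hD (sh_mem hD r i hc)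

include hD hz hc hx hzc hzx hcx in
/-- symmetric products of the conjugates: if `zc` is an odd partner of `x` then the product over a full period is trivial -/
theorem full_prod [Finite G] (hod : Odd (orderOf (z * c * x))) (P : G → Prop) (hP1 : P 1) (hPmul : ∀ u v, P u → P v → P (u * v))
    (hPu : ∀ j : ℕ, P (sh (z * x) j c * sh (z * x) (-j) c)) : P c := by
  have hE := lemC hD hz hc hx hzc hzx hcx
  obtain ⟨l, hl⟩ := hzx.2
  have hn : (z * x) ^ (2 * l + 1) = 1 := by rw [← hl]; exact pow_orderOf_eq_one _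
  set r := z * x with hr
  have hE0 : ∀ i, Commute c (sh r i c) := fun i => by
    have := hE 0 i
    rwa [sh_zero] at this
  have key : ∀ k : ℕ, ∃ u, P u ∧ (r ^ k)⁻¹ * (c * r) ^ (2 * k + 1) * (r ^ (k + 1))⁻¹ = c * u ∧ (∀ i, Commute u (sh r i c)) ∧ u * u = 1 := by
    intro k
    induction k with
    | zero =>
      refine ⟨1, hP1, ?_, fun i => Commute.one_left _, one_mul 1⟩
      simp
    | succ k ih =>
      obtain ⟨u, hu1, hu2, hu3, hu4⟩ := ih
      refine ⟨u * (sh r ((k + 1 : ℕ) : ℤ) c * sh r (-((k + 1 : ℕ) : ℤ)) c), hPmul _ _ hu1 (hPu _), ?_, ?_, ?_⟩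
      · have h1 : (r ^ (k + 1))⁻¹ * (c * r) ^ (2 * (k + 1) + 1) * (r ^ (k + 1 + 1))⁻¹ =
            sh r ((k + 1 : ℕ) : ℤ) c * ((r ^ k)⁻¹ * (c * r) ^ (2 * k + 1) * (r ^ (k + 1))⁻¹) * sh r (-((k + 1 : ℕ) : ℤ)) c := by
          have h2 : (c * r) ^ (2 * (k + 1) + 1) = (c * r) * (c * r) ^ (2 * k + 1) * (c * r) := by
            rw [show 2 * (k + 1) + 1 = 1 + (2 * k + 1) + 1 by ring, pow_succ, pow_add, pow_one]
          rw [h2]
          generalize (c * r) ^ (2 * k + 1) = X
          simp only [sh, zpow_neg, zpow_natCast, inv_inv, pow_succ]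
          group
        rw [h1, hu2]
        have e1 : Commute (sh r ((k + 1 : ℕ) : ℤ) c) (c * u) := ((hE0 _).symm).mul_right (hu3 _).symm
        rw [e1.eq]
        group
      · intro i
        exact (hu3 i).mul_left ((hE _ _).mul_left (hE _ _))
      · apply invol_mul hu4
        · exact invol_mul (sh_sq hD hc _ _) (sh_sq hD hc _ _) (hE _ _)
        · exact (hu3 _).mul_right (hu3 _)
  obtain ⟨u, hu1, hu2, hu3, hu4⟩ := key l
  have hcu : Commute c u := by
    have := hu3 0
    rw [sh_zero] at this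
    exact this.symm
  have hS2 : (c * u) * (c * u) = 1 := invol_mul (sq hD hc) hu4 hcu
  have h1 : (c * r) ^ (2 * l + 1) = r ^ l * (c * u) * (r ^ l)⁻¹ := by
    have h2 : (r ^ (l + 1))⁻¹ = r ^ l := by
      rw [inv_eq_iff_mul_eq_one, ← pow_add, show l + 1 + l = 2 * l + 1 by ring, hn]
    rw [← hu2, h2]
    generalize (c * r) ^ (2 * l + 1) = X
    group
  have h2 : ((c * r) ^ (2 * l + 1)) ^ (2 ^ 1) = 1 := by
    rw [pow_one, h1, pow_two]
    have : r ^ l * (c * u) * (r ^ l)⁻¹ * (r ^ l * (c * u) * (r ^ l)⁻¹) = r ^ l * ((c * u) * (c * u)) * (r ^ l)⁻¹ := by group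
    rw [this, hS2]; group
  have hcr : c * r = z * c * x := by rw [hr, ← mul_assoc, hzc]
  have h3 : (c * r) ^ (2 * l + 1) = 1 := by
    apply odd_pow (k := 1) _ h2
    rw [hcr]
    exact Odd.of_dvd_nat hod (orderOf_pow_dvd _)
  rw [h3] at h1
  have h4 : c * u = 1 := by
    have h5 : (r ^ l)⁻¹ * (r ^ l * (c * u) * (r ^ l)⁻¹) * r ^ l = c * u := by group
    rw [← h5, ← h1]; group
  have h5 : u = c := by rw [eq_inv_of_mul_eq_one_right h4, inv_eq hD hc]
  rw [← h5]; exact hu1

end seq

/-- **Main step**: if `d, e` have the same odd partners they have the same commuting members. -/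
theorem comm_of_same_odd [Finite G] (hD : IsRootInvolutionSet D) (hconj : ∀ a ∈ D, ∀ b ∈ D, ∃ g : G, g * a * g⁻¹ = b)
    {c d e : G} (hc : c ∈ D) (hd : d ∈ D) (he : e ∈ D) (hde : oddPartners D d = oddPartners D e) (hcd : c * d = d * c) :
    c * e = e * c := by
  by_contra hne
  have hee := sq hD he
  have hcc := sq hD hc
  have hei := inv_eq hD he
  have hci := inv_eq hD hc
  -- (i)
  have hce : ¬ Od c e := by
    intro h
    have h1 : c ∈ oddPartners D e := mem_oddPartners.mpr ⟨hc, h.symm hD hc he⟩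
    rw [← hde] at h1
    exact (mem_oddPartners.mp h1).2.not_comm hD hd hc hcd.symm
  obtain ⟨ho4, hz⟩ := (cases4 hD hc he hce).resolve_left hne
  have h4 : (c * e) ^ 4 = 1 := pow4 hD hc he hce
  obtain ⟨r1, r2, r3, r4, r5⟩ := four_rel hD hc he h4
  set z := (c * e) ^ 2 with hzdef
  -- r1 : c z = e c e, r2 : z c = e c e, r3 : e z = c e c, r4 : z e = c e c
  have hzc : z * c = c * z := r2.trans r1.symm
  have hze : z * e = e * z := r4.trans r3.symm
  have hce1 : c * e * c ∈ D := cj_mem hD hc he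
  have hec1 : e * c * e ∈ D := cj_mem hD he hc
  -- (ii)
  have hAcec : oddPartners D (c * e * c) = oddPartners D e := by
    have h1 := oddPartners_cj_eq hD c hde.symm
    have e1 : c * d * c⁻¹ = d := by rw [hcd]; group
    rw [e1, hci, hde] at h1
    exact h1
  -- (iii)
  have hAz : oddPartners D z = oddPartners D e := by
    apply eq_of_subset hD hconj hz he
    intro x hx
    rw [mem_oddPartners] at hx
    rcases lemB hD hx.1 hz he (by rw [r4]; exact hce1) hze (hx.2.symm hD hz hx.1) with h | h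
    · exact mem_oddPartners.mpr ⟨hx.1, h.symm hD hx.1 he⟩
    · rw [r4] at h
      rw [← hAcec]
      exact mem_oddPartners.mpr ⟨hx.1, h.symm hD hx.1 hce1⟩
  -- (iv)
  obtain ⟨x, hxz, hxc⟩ : ∃ x ∈ oddPartners D z, x ∉ oddPartners D c := by
    by_contra hcon
    push Not at hcon
    have h1 := eq_of_subset hD hconj hz hc hcon
    exact hne (block_comm hD hconj hc he (h1.symm.trans hAz))
  rw [mem_oddPartners] at hxz
  obtain ⟨hx, hzx⟩ := hxz
  have hcx : ¬ Od c x := fun h => hxc (mem_oddPartners.mpr ⟨hx, h⟩)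
  have hxx := sq hD hx
  have hxi := inv_eq hD hx
  have hzz := sq hD hz
  have hzi := inv_eq hD hz
  have hE := lemC hD hz hc hx hzc hzx hcx
  have hod : Odd (orderOf (z * c * x)) := by
    rcases lemB hD hx hz hc (by rw [r2]; exact hec1) hzc (hzx.symm hD hz hx) with h | h
    · exact absurd (h.symm hD hx hc) hcx
    · have : z * c ∈ D := by rw [r2]; exact hec1
      exact (h.symm hD hx this).2
  -- e and e z = c e c
  obtain ⟨e2, he2⟩ : ∃ e2, e2 = c * e * c := ⟨_, rfl⟩
  rw [← he2] at r3 r4 hce1 hAcec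
  have hAe2 : ∀ y ∈ D, ¬ Od z y → ¬ Od e2 y := by
    intro y hy h h'
    have h1 : y ∈ oddPartners D e2 := mem_oddPartners.mpr ⟨hy, h'⟩
    rw [hAcec, ← hAz] at h1
    exact h (mem_oddPartners.mp h1).2
  have hAe : ∀ y ∈ D, ¬ Od z y → ¬ Od e y := by
    intro y hy h h'
    have h1 : y ∈ oddPartners D e := mem_oddPartners.mpr ⟨hy, h'⟩
    rw [← hAz] at h1
    exact h (mem_oddPartners.mp h1).2
  set r := z * x with hr
  -- (vi)
  have hvi : ∀ j : ℤ, Commute e (sh r j c * sh r (1 - j) c * (sh r (-j) c * sh r (j - 1) c)) := by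
    intro j
    obtain ⟨y, hy⟩ : ∃ y, y = sh r j c * sh r (1 - j) c := ⟨_, rfl⟩
    rw [← hy]
    have hyy : y * y = 1 := by rw [hy]; exact invol_mul (sh_sq hD hc _ _) (sh_sq hD hc _ _) (hE _ _)
    have hyx : x * y * x⁻¹ = y := by
      have h1 : x * y * x⁻¹ = (x * sh r j c * x⁻¹) * (x * sh r (1 - j) c * x⁻¹) := by rw [hy]; group
      rw [h1, x_sh hD hz hx hzc, x_sh hD hz hx hzc, show (1 : ℤ) - (1 - j) = j by ring, (hE _ _).eq, hy]
    have hyz : z * y * z⁻¹ = sh r (-j) c * sh r (j - 1) c := by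
      have h1 : z * y * z⁻¹ = (z * sh r j c * z⁻¹) * (z * sh r (1 - j) c * z⁻¹) := by rw [hy]; group
      rw [h1, z_sh hD hz hx hzc, z_sh hD hz hx hzc, show -((1 : ℤ) - j) = j - 1 by ring]
    rw [← hyz]
    have hyEz : Commute y (z * y * z⁻¹) := by
      rw [hyz, hy]
      exact ((hE _ _).mul_right (hE _ _)).mul_left ((hE _ _).mul_right (hE _ _))
    -- y is a member or trivial
    have hyD : y ∈ D ∨ y = 1 := by
      have h1 : (x * sh r j c) ^ 2 = y := by
        have h2 : (x * sh r j c) ^ 2 = (x * sh r j c * x⁻¹) * sh r j c := by rw [pow_two, hxi]; group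
        rw [h2, x_sh hD hz hx hzc, (hE _ _).eq, hy]
      have h2 : ¬ Od x (sh r j c) := not_od hD (sh_mem hD _ _ hc) (by
        rw [show 4 = 2 * 2 by norm_num, pow_mul, h1, pow_two, hyy])
      rcases sq_mem_or hD hx (sh_mem hD r j hc) h2 with h3 | h3
      · rw [h1] at h3; exact Or.inl h3
      · rw [h1] at h3; exact Or.inr h3.2
    rcases hyD with hyD | hy1
    swap
    · rw [hy1]; simp
    have hyxc : x * y = y * x := by
      have := hyx
      rw [mul_inv_eq_iff_eq_mul] at this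
      exact this
    obtain ⟨v, hv⟩ : ∃ v, v = y * (z * y * z⁻¹) := ⟨_, rfl⟩
    rw [← hv]
    have hzv : v = (y * z) ^ 2 := by rw [hv, hzi, pow_two]; group
    have hzy4 : (z * y) ^ 4 = 1 := by
      have h1 : (z * y) ^ 2 = (z * y * z⁻¹) * y := by rw [hzi, pow_two]; group
      rw [show 4 = 2 * 2 by norm_num, pow_mul, h1, pow_two]
      exact invol_mul (sq hD (hD.conj_mem y hyD z)) hyy hyEz.symm
    have hzy : ¬ Od z y := not_od hD hyD hzy4
    have hyz' : ¬ Od y z := fun h => hzy (h.symm hD hyD hz)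
    have hvD : v ∈ D ∨ v = 1 := by
      rcases sq_mem_or hD hyD hz hyz' with h | h
      · rw [← hzv] at h; exact Or.inl h
      · rw [← hzv] at h; exact Or.inr h.2
    rcases hvD with hvD | hv1
    swap
    · rw [hv1]; exact Commute.one_right _
    have hvv := sq hD hvD
    have hey : ¬ Od y e := fun h => hAe y hyD hzy (h.symm hD hyD he)
    have hey2 : ¬ Od y e2 := fun h => hAe2 y hyD hzy (h.symm hD hyD hce1)
    have hye4 : (y * e) ^ 4 = 1 := pow4 hD hyD he hey
    have hye24 : (y * e2) ^ 4 = 1 := pow4 hD hyD hce1 hey2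
    obtain ⟨p1, p2, p3, p4, p5⟩ := four_rel hD hyD he hye4
    obtain ⟨q1, q2, q3, q4, q5⟩ := four_rel hD hyD hce1 hye24
    have hpD : (y * e) ^ 2 ∈ D ∨ (y * e) ^ 2 = 1 := (sq_mem_or hD hyD he hey).imp_right (fun h => h.2)
    have hqD : (y * e2) ^ 2 ∈ D ∨ (y * e2) ^ 2 = 1 := (sq_mem_or hD hyD hce1 hey2).imp_right (fun h => h.2)
    obtain ⟨p, hp⟩ : ∃ p, p = (y * e) ^ 2 := ⟨_, rfl⟩
    obtain ⟨q, hq⟩ : ∃ q, q = (y * e2) ^ 2 := ⟨_, rfl⟩
    rw [← hp] at p1 p2 p3 p4 p5 hpD
    rw [← hq] at q1 q2 q3 q4 q5 hqD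
    have hpp : p * p = 1 := by rw [hp, ← pow_add]; exact hye4
    have hqq : q * q = 1 := by rw [hq, ← pow_add]; exact hye24
    -- e v e = p q
    have hev : e * v * e = p * q := by
      have h1 : e2 = e * z := r3.symm
      have h2 : e2 = z * e := r4.symm
      have h3 : q = y * (e2 * y * e2) := by rw [hq, pow_two]; group
      have h5 : e2 * y * e2 = e * (z * y * z) * e := by
        have : e2 * y * e2 = (e * z) * y * (z * e) := by rw [← h1, ← h2]
        rw [this]; group
      have h6 : z * y * z = y * v := by rw [hv, ← mul_assoc, hyy, one_mul, hzi]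
      have h8 : p * y = e * y * e := by rw [p2]
      calc e * v * e = e * (y * y) * v * e := by rw [hyy]; group
        _ = (e * y) * (y * v) * e := by group
        _ = (e * y) * (e * e) * (y * v) * e := by rw [hee]; group
        _ = (e * y * e) * (e * (y * v) * e) := by group
        _ = (p * y) * (e * (z * y * z) * e) := by rw [h8, h6]
        _ = (p * y) * (e2 * y * e2) := by rw [h5]
        _ = p * (y * (e2 * y * e2)) := by group
        _ = p * q := by rw [← h3]
    have hxp : p ∈ D → ¬ Od x p := by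
      intro hpD h
      exact lemA hD hx hpD hyD (by rw [p2]; exact cj_mem hD he hyD) (p2.trans p1.symm) h hyxc
    have hxq : q ∈ D → ¬ Od x q := by
      intro hqD h
      exact lemA hD hx hqD hyD (by rw [q2]; exact cj_mem hD hce1 hyD) (q2.trans q1.symm) h hyxc
    have hv'D : e * v * e ∈ D := cj_mem hD he hvD
    have hxv' : ¬ Od x (e * v * e) := by
      intro h
      rcases hpD with hpD | hp1
      · rcases hqD with hqD | hq1
        · have hc1 : e * v * e * p = q := by
            have h1 : p * q = q * p := by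
              apply comm_of_sq hpp hqq
              rw [← hev]; exact sq hD hv'D
            rw [hev, h1, mul_assoc, hpp, mul_one]
          have hc2 : p * (e * v * e) = q := by rw [hev, ← mul_assoc, hpp, one_mul]
          rcases lemB hD hx hv'D hpD (by rw [hc1]; exact hqD) (hc1.trans hc2.symm) h with h' | h'
          · exact hxp hpD h'
          · rw [hc1] at h'
            exact hxq hqD h'
        · rw [hev, hq1, mul_one] at h
          exact hxp hpD h
      · rcases hqD with hqD | hq1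
        · rw [hev, hp1, one_mul] at h
          exact hxq hqD h
        · rw [hev, hp1, hq1, mul_one] at hv'D
          exact ne_one hD hv'D rfl
    -- v commutes with z
    have hvz : z * v * z⁻¹ = v := by
      have h1 : z * v * z⁻¹ = (z * y * z⁻¹) * (z * z * y * (z * z)⁻¹) := by rw [hv]; group
      rw [h1, hzz, inv_one, one_mul, mul_one, hv, hyEz.eq]
    have hzv' : ¬ Od z v := by
      intro h
      apply h.not_comm hD hz hvD
      rw [mul_inv_eq_iff_eq_mul] at hvz
      exact hvz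
    have hevn : ¬ Od v e := fun h => hAe v hvD hzv' (h.symm hD hvD he)
    rcases cases4 hD hvD he hevn with h | ⟨-, hg⟩
    · exact h.symm
    exfalso
    obtain ⟨g1, g2, g3, g4, g5⟩ := four_rel hD hvD he (pow4 hD hvD he hevn)
    obtain ⟨g, hgdef⟩ : ∃ g, g = (v * e) ^ 2 := ⟨_, rfl⟩
    rw [← hgdef] at hg g1 g2 g3 g4 g5
    -- g1 : v g = e v e ; g2 : g v = e v e ; g3 : e g = v e v; g4 : g e = v e v
    have hvev : v * e * v ∈ D := cj_mem hD hvD he
    have hAvev : oddPartners D (v * e * v) = oddPartners D e := by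
      have h1 := oddPartners_cj_eq hD v hAz.symm
      have e1 : v * z * v⁻¹ = z := by
        rw [mul_inv_eq_iff_eq_mul] at hvz ⊢
        exact hvz.symm
      rw [e1, inv_eq hD hvD, hAz] at h1
      exact h1
    have hAg : oddPartners D g = oddPartners D e := by
      apply eq_of_subset hD hconj hg he
      intro t ht
      rw [mem_oddPartners] at ht
      rcases lemB hD ht.1 hg he (by rw [g4]; exact hvev) (g4.trans g3.symm) (ht.2.symm hD hg ht.1) with h | h
      · exact mem_oddPartners.mpr ⟨ht.1, h.symm hD ht.1 he⟩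
      · rw [g4] at h
        rw [← hAvev]
        exact mem_oddPartners.mpr ⟨ht.1, h.symm hD ht.1 hvev⟩
    have hgx : Od g x := by
      have h1 : x ∈ oddPartners D g := by
        rw [hAg, ← hAz]; exact mem_oddPartners.mpr ⟨hx, hzx⟩
      exact (mem_oddPartners.mp h1).2
    rcases lemB hD hx hg hvD (by rw [g2]; exact hv'D) (g2.trans g1.symm) (hgx.symm hD hg hx) with h | h
    · -- x v has 2-power order
      apply not_od hD hvD _ h
      have h1 : (x * v) ^ 2 = (x * v * x⁻¹) * v := by rw [hxi, pow_two]; group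
      have h2 : x * v * x⁻¹ = y * (x * (z * y * z⁻¹) * x⁻¹) := by
        have : x * v * x⁻¹ = (x * y * x⁻¹) * (x * (z * y * z⁻¹) * x⁻¹) := by rw [hv]; group
        rw [this, hyx]
      have h3 : x * (z * y * z⁻¹) * x⁻¹ = sh r (1 - -j) c * sh r (1 - (j - 1)) c := by
        rw [hyz]
        have : x * (sh r (-j) c * sh r (j - 1) c) * x⁻¹ = (x * sh r (-j) c * x⁻¹) * (x * sh r (j - 1) c * x⁻¹) := by group
        rw [this, x_sh hD hz hx hzc, x_sh hD hz hx hzc]
      rw [show 4 = 2 * 2 by norm_num, pow_mul, h1, pow_two]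
      have hcomm : Commute (x * v * x⁻¹) v := by
        rw [h2, h3, hv, hyz, hy]
        have cc : ∀ i i' i'' i''' k k' k'' k''' : ℤ,
            Commute (sh r i c * sh r i' c * (sh r i'' c * sh r i''' c)) (sh r k c * sh r k' c * (sh r k'' c * sh r k''' c)) := by
          intro i i' i'' i''' k k' k'' k'''
          have c1 : ∀ i, Commute (sh r i c) (sh r k c * sh r k' c * (sh r k'' c * sh r k''' c)) := fun i =>
            ((hE _ _).mul_right (hE _ _)).mul_right ((hE _ _).mul_right (hE _ _))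
          exact ((c1 _).mul_left (c1 _)).mul_left ((c1 _).mul_left (c1 _))
        exact cc _ _ _ _ _ _ _ _
      exact invol_mul (sq hD (hD.conj_mem v hvD x)) hvv hcomm
    · rw [g2] at h
      exact hxv' h
  -- the symmetric products commute with e
  have hu : ∀ j : ℕ, Commute e (sh r j c * sh r (-j) c) := by
    intro j
    induction j with
    | zero => simp only [Nat.cast_zero, neg_zero, sh_zero, hcc]; exact Commute.one_right _
    | succ j ih =>
      have h1 := hvi ((j : ℤ) + 1)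
      rw [show (1 : ℤ) - (j + 1) = -j by ring, show (j : ℤ) + 1 - 1 = j by ring] at h1
      have h2 : sh r ((j + 1 : ℕ) : ℤ) c * sh r (-((j + 1 : ℕ) : ℤ)) c =
          (sh r ((j : ℤ) + 1) c * sh r (-j) c * (sh r (-((j : ℤ) + 1)) c * sh r j c)) * (sh r j c * sh r (-j) c)⁻¹ := by
        push_cast
        have c1 := (hE ((j : ℤ)) (-j)).eq
        have c2 := (hE (-((j : ℤ) + 1)) (-j)).eq
        rw [eq_mul_inv_iff_mul_eq]
        calc sh r ((j : ℤ) + 1) c * sh r (-((j : ℤ) + 1)) c * (sh r j c * sh r (-j) c)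
            = sh r ((j : ℤ) + 1) c * (sh r (-((j : ℤ) + 1)) c * sh r (-j) c) * sh r j c := by rw [c1]; group
          _ = sh r ((j : ℤ) + 1) c * sh r (-j) c * (sh r (-((j : ℤ) + 1)) c * sh r j c) := by rw [c2]; group
      rw [h2]
      exact h1.mul_right ih.inv_right
  exact hne ((full_prod hD hz hc hx hzc hzx hcx hod (fun w => Commute e w) (Commute.one_right _)
    (fun u v hu hv => hu.mul_right hv) hu).symm)

/-- the converse -/
theorem odd_of_same_comm (hD : IsRootInvolutionSet D) {d e x : G} (hd : d ∈ D) (he : e ∈ D) (hx : x ∈ D)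
    (h : commutingMembers D d = commutingMembers D e) (hex : Od e x) : Od d x := by
  by_contra hdx
  have hcom : ∀ c ∈ D, c * d = d * c → c * e = e * c := by
    intro c hc hcd
    have : c ∈ commutingMembers D d := ⟨hc, hcd⟩
    rw [h] at this
    exact this.2
  have hde := hcom d hd rfl
  rcases cases4 hD hd hx hdx with h1 | ⟨-, hz⟩
  · exact hex.not_comm hD he hx (hcom x hx h1.symm).symm
  · have h4 := pow4 hD hd hx hdx
    obtain ⟨r1, r2, r3, r4, r5⟩ := four_rel hD hd hx h4
    set z := (d * x) ^ 2 with hzdef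
    have hzd : z * d = d * z := r2.trans r1.symm
    have hzx : z * x = x * z := r4.trans r3.symm
    have hze := hcom z hz hzd
    have hzr : Commute z (x * e) := (show Commute z x from hzx).mul_right hze
    have hstep : (x * e)⁻¹ * d * (x * e) = d * z := by
      have h2 : (x * e)⁻¹ * d * (x * e) = e⁻¹ * (x⁻¹ * d * x) * e := by group
      have h3 : x⁻¹ * d * x = d * z := by rw [inv_eq hD hx, r1]
      rw [h2, h3, mul_assoc, mul_assoc, hze, ← mul_assoc d, hde, mul_assoc, inv_mul_cancel_left]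
    have hind : ∀ k : ℕ, ((x * e) ^ k)⁻¹ * d * (x * e) ^ k = d * z ^ k := by
      intro k
      induction k with
      | zero => simp
      | succ k ih =>
        have h2 : ((x * e) ^ (k + 1))⁻¹ * d * (x * e) ^ (k + 1) = (x * e)⁻¹ * (((x * e) ^ k)⁻¹ * d * (x * e) ^ k) * (x * e) := by
          rw [pow_succ]; group
        have h3 : (x * e)⁻¹ * (d * z ^ k) * (x * e) = ((x * e)⁻¹ * d * (x * e)) * z ^ k := by
          rw [mul_assoc, mul_assoc d, (hzr.pow_left k).eq]; group
        rw [h2, ih, h3, hstep, mul_assoc, ← pow_succ']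
    have hxe := hex.symm hD he hx
    obtain ⟨k, hk⟩ := hxe.2
    have h2 := hind (2 * k + 1)
    rw [← hk, pow_orderOf_eq_one, hk, pow_succ, pow_mul, pow_two, sq hD hz] at h2
    simp only [inv_one, one_mul, mul_one, one_pow] at h2
    exact ne_one hD hz (mul_eq_left.mp h2.symm)

theorem mem_union_iff (hD : IsRootInvolutionSet D) {d x : G} (hd : d ∈ D) :
    x ∈ commutingMembers D d ∪ fourPartners D d ↔ x ∈ D ∧ ¬ Od d x := by
  constructor
  · rintro (⟨h1, h2⟩ | ⟨h1, h2⟩)
    · exact ⟨h1, fun h => h.not_comm hD hd h1 h2.symm⟩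
    · refine ⟨h1, fun h => h.pow4 hD h1 ?_⟩
      rw [← h2]; exact pow_orderOf_eq_one _
  · rintro ⟨h1, h2⟩
    rcases cases4 hD hd h1 h2 with h | h
    · exact Or.inl ⟨h1, h.symm⟩
    · exact Or.inr ⟨h1, h.1⟩

theorem union_eq_iff (hD : IsRootInvolutionSet D) {d e : G} (hd : d ∈ D) (he : e ∈ D) :
    commutingMembers D d ∪ fourPartners D d = commutingMembers D e ∪ fourPartners D e ↔ oddPartners D d = oddPartners D e := by
  simp only [Set.ext_iff, mem_union_iff hD hd, mem_union_iff hD he, mem_oddPartners]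
  constructor
  · intro h x
    have := h x
    tauto
  · intro h x
    have := h x
    tauto

theorem same_comm_iff [Finite G] (hD : IsRootInvolutionSet D) (hconj : ∀ a ∈ D, ∀ b ∈ D, ∃ g : G, g * a * g⁻¹ = b)
    {d e : G} (hd : d ∈ D) (he : e ∈ D) : commutingMembers D d = commutingMembers D e ↔ oddPartners D d = oddPartners D e := by
  constructor
  · intro h
    ext x
    rw [mem_oddPartners, mem_oddPartners]
    exact ⟨fun h' => ⟨h'.1, odd_of_same_comm hD he hd h'.1 h.symm h'.2⟩, fun h' => ⟨h'.1, odd_of_same_comm hD hd he h'.1 h h'.2⟩⟩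
  · intro h
    ext c
    exact ⟨fun h' => ⟨h'.1, comm_of_same_odd hD hconj h'.1 hd he h h'.2⟩, fun h' => ⟨h'.1, comm_of_same_odd hD hconj h'.1 he hd h.symm h'.2⟩⟩

end CfsgLib.RI14
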