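import Cfsg.Agent.LibH14RI3

/-! Root involutions: products of order three (seat helper14). -/

set_option autoImplicit false
open Cfsg Subgroup

namespace CfsgLib.RI14

variable {G : Type*} [Group G] {D : Set G}

/-- norm of `e` over the powers of `r` -/
def nm (r : G) (k : ℕ) (e : G) : G := (e * r⁻¹) ^ k * r ^ k

theorem nm_succ (r : G) (k : ℕ) (e : G) : nm r (k + 1) e = nm r k e * sh r k e := by
  simp only [nm, sh, zpow_natCast]
  rw [pow_succ (e * r⁻¹), pow_succ' r]
  group

theorem sh_pow (r : G) (i : ℤ) (e : G) (k : ℕ) : sh r i (e ^ k) = (sh r i e) ^ k := by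
  induction k with
  | zero => simp [sh]
  | succ k ih => rw [pow_succ, pow_succ, sh_mul, ih]

theorem nm_sh (r : G) (i : ℤ) (k : ℕ) (e : G) : nm r k (sh r i e) = sh r i (nm r k e) := by
  have h1 : sh r i r = r := sh_fix (Commute.refl r) i
  have h2 : sh r i r⁻¹ = r⁻¹ := sh_fix (Commute.refl r).inv_right i
  rw [nm, nm, sh_mul, sh_pow, sh_pow, sh_mul, h1, h2]

/-- **Claim 1.** -/
theorem exists_exact [Finite G] (hD : IsRootInvolutionSet D) {a b x : G} (ha : a ∈ D) (hb : b ∈ D) (hx : x ∈ D) (hab : a * b = b * a)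
    (habD : a * b ∈ D) (hax : Od a x) (hbx : ¬ Od b x) : ∃ y ∈ D, y * a * y = a * b := by
  have hE := lemC hD ha hb hx hab hax hbx
  have haa := sq hD ha
  have hbb := sq hD hb
  have hxx := sq hD hx
  have hai := inv_eq hD ha
  have hxi := inv_eq hD hx
  have hod : Odd (orderOf (a * b * x)) := by
    rcases lemB hD hx ha hb habD hab (hax.symm hD ha hx) with h | h
    · exact absurd (h.symm hD hx hb) hbx
    · exact (h.symm hD hx habD).2
  have hzsh := z_sh hD ha hx hab
  have hxsh := x_sh hD ha hx hab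
  obtain ⟨r, hr⟩ : ∃ r, r = a * x := ⟨_, rfl⟩
  rw [← hr] at hE hzsh hxsh
  set S : Set G := {y | ∃ i : ℤ, y = sh r i b} with hS
  have hScomm : ∀ x ∈ S, ∀ y ∈ S, x * y = y * x := by
    rintro _ ⟨i, rfl⟩ _ ⟨j, rfl⟩
    exact hE i j
  haveI hEc : IsMulCommutative (closure S) := Subgroup.isMulCommutative_closure hScomm
  have hcomm : ∀ u ∈ closure S, ∀ v ∈ closure S, Commute u v := fun u hu v hv =>
    congrArg Subtype.val (hEc.is_comm.comm (⟨u, hu⟩ : closure S) ⟨v, hv⟩)
  have hsq : ∀ u ∈ closure S, u * u = 1 := by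
    intro x hx
    induction hx using closure_induction with
    | mem x hx =>
      obtain ⟨i, rfl⟩ := hx
      exact sq hD (sh_mem hD r i hb)
    | one => simp
    | mul x y hx' hy' hx hy => exact invol_mul hx hy (hcomm _ hx' _ hy')
    | inv x _ hx => rw [← mul_inv_rev, hx, inv_one]
  have hcj : ∀ g : G, (∀ i, g * sh r i b * g⁻¹ ∈ closure S) → ∀ u ∈ closure S, g * u * g⁻¹ ∈ closure S := by
    intro g hg u hu
    induction hu using closure_induction with
    | mem x hx =>
      obtain ⟨i, rfl⟩ := hx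
      exact hg i
    | one => simpa using one_mem _
    | mul x y _ _ hx hy =>
      have : g * (x * y) * g⁻¹ = (g * x * g⁻¹) * (g * y * g⁻¹) := by group
      rw [this]; exact mul_mem hx hy
    | inv x _ hx =>
      have : g * x⁻¹ * g⁻¹ = (g * x * g⁻¹)⁻¹ := by group
      rw [this]; exact inv_mem hx
  have hcja : ∀ u ∈ closure S, a * u * a⁻¹ ∈ closure S := hcj a (fun i => by rw [hzsh]; exact subset_closure ⟨_, rfl⟩)
  have hcjx : ∀ u ∈ closure S, x * u * x⁻¹ ∈ closure S := hcj x (fun i => by rw [hxsh]; exact subset_closure ⟨_, rfl⟩)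
  have hcjr : ∀ j : ℤ, ∀ u ∈ closure S, sh r j u ∈ closure S := by
    intro j u hu
    have := hcj (r ^ j)⁻¹ (fun i => by
      rw [inv_inv]
      have : (r ^ j)⁻¹ * sh r i b * r ^ j = sh r j (sh r i b) := rfl
      rw [this, sh_sh]; exact subset_closure ⟨_, rfl⟩) u hu
    rwa [inv_inv] at this
  have hbE : b ∈ closure S := subset_closure ⟨0, (sh_zero r b).symm⟩
  -- the norm
  have hnmE : ∀ k, ∀ u ∈ closure S, nm r k u ∈ closure S := by
    intro k u hu
    induction k with
    | zero => simpa [nm] using one_mem _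
    | succ k ih => rw [nm_succ]; exact mul_mem ih (hcjr _ _ hu)
  have hnmmul : ∀ k, ∀ u ∈ closure S, ∀ v ∈ closure S, nm r k (u * v) = nm r k u * nm r k v := by
    intro k u hu v hv
    induction k with
    | zero => simp [nm]
    | succ k ih =>
      rw [nm_succ, nm_succ, nm_succ, ih, sh_mul]
      have c1 := (hcomm _ (hnmE k v hv) _ (hcjr k u hu)).eq
      calc nm r k u * nm r k v * (sh r k u * sh r k v) = nm r k u * (nm r k v * sh r k u) * sh r k v := by group
        _ = nm r k u * sh r k u * (nm r k v * sh r k v) := by rw [c1]; group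
  have hnb : nm r (orderOf r) b = 1 := by
    have h1 : nm r (orderOf r) b = (b * r⁻¹) ^ orderOf r := by rw [nm, pow_orderOf_eq_one, mul_one]
    have h2 := hsq _ (hnmE (orderOf r) b hbE)
    rw [h1] at h2 ⊢
    apply odd_pow (k := 1) _ (by rw [pow_one, pow_two]; exact h2)
    have h3 : orderOf (b * r⁻¹) = orderOf (a * b * x) := by
      have : a * b * x = a * (b * r⁻¹) * a⁻¹ := by
        have e : a * (b * r⁻¹) * a⁻¹ = a * b * x⁻¹ * (a * a)⁻¹ := by rw [hr]; group
        rw [e, haa, hxi, inv_one, mul_one]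
      rw [this, orderOf_cj]
    exact Odd.of_dvd_nat (by rw [h3]; exact hod) (orderOf_pow_dvd _)
  have hnall : ∀ u ∈ closure S, nm r (orderOf r) u = 1 := by
    intro u hu
    induction hu using closure_induction with
    | mem x hx =>
      obtain ⟨i, rfl⟩ := hx
      rw [nm_sh, hnb]
      simp [sh]
    | one => simp [nm]
    | mul x y hx' hy' hx hy => rw [hnmmul _ _ hx' _ hy', hx, hy, one_mul]
    | inv x hx' hx =>
      rw [inv_eq_of_mul_eq_one_left (hsq x hx')]; exact hx
  have hroddd : Odd (orderOf r) := by rw [hr]; exact hax.2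
  have hfix : ∀ u ∈ closure S, Commute u a → Commute u x → u = 1 := by
    intro u hu h1 h2
    have h3 : Commute u r := by rw [hr]; exact h1.mul_right h2
    have h4 := hnall u hu
    rw [nm, pow_orderOf_eq_one, mul_one, h3.inv_right.mul_pow, inv_pow, pow_orderOf_eq_one, inv_one, mul_one] at h4
    obtain ⟨k, hk⟩ := hroddd
    rwa [hk, pow_succ, pow_mul, pow_two, hsq u hu, one_pow, one_mul] at h4
  -- the map
  obtain ⟨F, hF⟩ : ∃ F : G → G, F = fun u => x * u * x⁻¹ * (a * (x * u * x⁻¹) * a⁻¹) := ⟨_, rfl⟩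
  have hFv : ∀ u, F u = x * u * x⁻¹ * (a * (x * u * x⁻¹) * a⁻¹) := fun u => by rw [hF]
  have hFE : ∀ u ∈ closure S, F u ∈ closure S := fun u hu => by
    rw [hFv]; exact mul_mem (hcjx u hu) (hcja _ (hcjx u hu))
  have hFmul : ∀ u ∈ closure S, ∀ v ∈ closure S, F (u * v) = F u * F v := by
    intro u hu v hv
    rw [hFv, hFv, hFv]
    have c1 := (hcomm _ (hcjx v hv) _ (hcja _ (hcjx u hu))).eq
    calc x * (u * v) * x⁻¹ * (a * (x * (u * v) * x⁻¹) * a⁻¹)
        = (x * u * x⁻¹) * ((x * v * x⁻¹) * (a * (x * u * x⁻¹) * a⁻¹)) * (a * (x * v * x⁻¹) * a⁻¹) := by group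
      _ = _ := by rw [c1]; group
  have hker : ∀ u ∈ closure S, Commute u a → F u = 1 → u = 1 := by
    intro u hu hua hFu
    rw [hFv] at hFu
    have hsE := hcjx u hu
    set s := x * u * x⁻¹ with hs
    have h1 : a * s * a⁻¹ = s := by
      have := eq_inv_of_mul_eq_one_right hFu
      rw [this]; exact inv_eq_of_mul_eq_one_left (hsq s hsE)
    have h2 : Commute s a := by
      rw [mul_inv_eq_iff_eq_mul] at h1
      exact h1.symm
    have h3 : x * s * x⁻¹ = u := by
      rw [hs]
      calc x * (x * u * x⁻¹) * x⁻¹ = (x * x) * u * (x * x)⁻¹ := by group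
        _ = u := by rw [hxx]; group
    have h4 : Commute (u * s) x := by
      have : x * (u * s) * x⁻¹ = u * s := by
        have e : x * (u * s) * x⁻¹ = (x * u * x⁻¹) * (x * s * x⁻¹) := by group
        rw [e, h3, ← hs, (hcomm s hsE u hu).eq]
      rw [mul_inv_eq_iff_eq_mul] at this
      exact this.symm
    have h5 := hfix (u * s) (mul_mem hu hsE) (hua.mul_left h2) h4
    have h6 : u = s := by
      rw [eq_inv_of_mul_eq_one_left h5]; exact inv_eq_of_mul_eq_one_left (hsq s hsE)
    apply hfix u hu hua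
    have h7 : x * u * x⁻¹ = u := by rw [← hs, ← h6]
    rw [mul_inv_eq_iff_eq_mul] at h7
    exact h7.symm
  -- members
  have hmem : ∀ v, v ∈ D → v ∈ closure S → Commute v a → F v ∈ D ∧ F v ∈ closure S ∧ Commute (F v) a := by
    intro v hv hvE hva
    have hsD : x * v * x⁻¹ ∈ D := hD.conj_mem v hv x
    have hsE := hcjx v hvE
    have hF2 : F v = (x * v * x⁻¹ * a) ^ 2 := by rw [hFv, hai, pow_two]; group
    have h4 : (x * v * x⁻¹ * a) ^ 4 = 1 := by
      rw [show 4 = 2 * 2 by norm_num, pow_mul, ← hF2, pow_two]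
      exact hsq _ (hFE v hvE)
    refine ⟨?_, hFE v hvE, ?_⟩
    · rcases sq_mem_or hD hsD ha (not_od hD ha h4) with h | h
      · rw [hF2]; exact h
      · exfalso
        rw [← hF2] at h
        exact ne_one hD hv (hker v hvE hva h.2)
    · obtain ⟨r1, r2, r3, r4, r5⟩ := four_rel hD hsD ha h4
      rw [hF2]
      exact r4.trans r3.symm
  let X := {v : G // v ∈ D ∧ v ∈ closure S ∧ Commute v a}
  let f : X → X := fun v => ⟨F v.1, hmem v.1 v.2.1 v.2.2.1 v.2.2.2⟩
  have hinj : Function.Injective f := by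
    rintro ⟨v, hv⟩ ⟨v', hv'⟩ h
    have h1 : F v = F v' := congrArg Subtype.val h
    have h2 : F (v * v') = 1 := by
      rw [hFmul v hv.2.1 v' hv'.2.1, h1]
      exact hsq _ (hFE v' hv'.2.1)
    have h3 := hker (v * v') (mul_mem hv.2.1 hv'.2.1) (hv.2.2.mul_left hv'.2.2) h2
    apply Subtype.ext
    show v = v'
    rw [eq_inv_of_mul_eq_one_left h3]
    exact inv_eq_of_mul_eq_one_left (hsq v' hv'.2.1)
  obtain ⟨⟨v0, hv0⟩, hv0'⟩ := Finite.surjective_of_injective hinj ⟨b, hb, hbE, hab.symm⟩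
  have h1 : F v0 = b := congrArg Subtype.val hv0'
  rw [hFv] at h1
  have hsD : x * v0 * x⁻¹ ∈ D := hD.conj_mem v0 hv0.1 x
  refine ⟨x * v0 * x⁻¹, hsD, ?_⟩
  set s := x * v0 * x⁻¹ with hs
  have hss := sq hD hsD
  have h2 : s * a * s * a = b := by rw [← h1, hai]; group
  have h3 : s * a * s = b * a := by
    rw [← h2, mul_assoc _ a a, haa, mul_one]
  rw [h3, hab]

end CfsgLib.RI14
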