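import Mathlib

set_option autoImplicit false

/-! Basic facts on point stabilisers in finite primitive groups. -/

namespace CfsgLib.H14SC

open MulAction Subgroup

variable {G Ω : Type*} [Group G] [MulAction G Ω]

theorem stab_smul (g : G) (a : Ω) (x : G) : x ∈ stabilizer G (g • a) ↔ g⁻¹ * x * g ∈ stabilizer G a := by
  rw [mem_stabilizer_iff, mem_stabilizer_iff, mul_smul, mul_smul, inv_smul_eq_iff]

theorem card_stab_eq [Finite G] [IsPretransitive G Ω] (a b : Ω) : Nat.card (stabilizer G a) = Nat.card (stabilizer G b) := by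
  obtain ⟨g, rfl⟩ := exists_smul_eq G a b
  have : Nat.card (stabilizer G (g • a)) = Nat.card (stabilizer G a) := by
    rw [stabilizer_smul_eq_stabilizer_map_conj]
    exact (Nat.card_congr (Subgroup.equivMapOfInjective _ _ (MulAut.conj g).injective).toEquiv).symm
  exact this.symm

/-- a normal subgroup contained in a point stabiliser is trivial -/
theorem normal_le_stab [IsPretransitive G Ω] [FaithfulSMul G Ω] (a : Ω) (X : Subgroup G) [X.Normal] (hX : X ≤ stabilizer G a) : X = ⊥ := by
  rw [Subgroup.eq_bot_iff_forall]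
  intro x hx
  apply FaithfulSMul.eq_of_smul_eq_smul (M := G) (α := Ω)
  intro ω
  obtain ⟨g, rfl⟩ := exists_smul_eq G a ω
  have h1 : x ∈ stabilizer G (g • a) := by
    rw [stab_smul]
    apply hX
    have := ‹X.Normal›.conj_mem x hx g⁻¹
    rwa [inv_inv] at this
  rw [one_smul]; exact h1

theorem core_eq_bot [Finite G] [IsPreprimitive G Ω] [FaithfulSMul G Ω] {a b : Ω} (hne : stabilizer G a ≠ stabilizer G b) (X : Subgroup G)
    (hXa : X ≤ stabilizer G a) (h1 : stabilizer G a ≤ normalizer (X : Set G)) (h2 : stabilizer G b ≤ normalizer (X : Set G)) : X = ⊥ := by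
  haveI : Nontrivial Ω := ⟨a, b, fun h => hne (by rw [h])⟩
  have hco : IsCoatom (stabilizer G a) := IsPreprimitive.isCoatom_stabilizer_of_isPreprimitive G a
  have hlt : stabilizer G a < normalizer (X : Set G) := by
    refine lt_of_le_of_ne h1 ?_
    intro h
    have hle : stabilizer G b ≤ stabilizer G a := by rw [h]; exact h2
    exact hne (Subgroup.eq_of_le_of_card_ge hle (card_stab_eq a b).le).symm
  have htop := hco.2 _ hlt
  haveI : X.Normal := Subgroup.normalizer_eq_top_iff.mp htop
  exact normal_le_stab a X hXa

/-- In a primitive group two different points with the same stabiliser force regularity -/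
theorem stab_eq_bot_of_eq [Finite G] [IsPreprimitive G Ω] [FaithfulSMul G Ω] {a b : Ω} (hab : a ≠ b) (h : stabilizer G a = stabilizer G b) :
    stabilizer G a = ⊥ := by
  haveI : Nontrivial Ω := ⟨a, b, hab⟩
  obtain ⟨g, hg⟩ := exists_smul_eq G a b
  have hco : IsCoatom (stabilizer G a) := IsPreprimitive.isCoatom_stabilizer_of_isPreprimitive G a
  have hgn : g ∈ normalizer (stabilizer G a : Set G) := by
    rw [Subgroup.mem_normalizer_iff]
    intro x
    conv_rhs => rw [h, ← hg]
    rw [stab_smul]
    have : g⁻¹ * (g * x * g⁻¹) * g = x := by group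
    rw [this]
  have hlt : stabilizer G a < normalizer (stabilizer G a : Set G) := by
    refine lt_of_le_of_ne le_normalizer ?_
    intro h'
    rw [← h'] at hgn
    exact hab (by rw [← hg]; exact hgn.symm)
  have htop := hco.2 _ hlt
  haveI : (stabilizer G a).Normal := Subgroup.normalizer_eq_top_iff.mp htop
  exact normal_le_stab a _ le_rfl

end CfsgLib.H14SC
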