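import Cfsg.Agent.LibSB8
import Cfsg.Agent.LibAutO27a

set_option autoImplicit false

/-! The Lie algebra of type D or B inside the degree two part of the Clifford algebra: tables and checks. -/

namespace Cfsg.Agent.H22.Cv

open CfsgLib.Chev Cfsg.Lie Matrix

/-- model data -/
structure Md where
  d : ℕ
  ra : List ℕ
  rb : List ℕ
  sg : List ℤ
  hl : List (List (ℕ × ℤ))

namespace Md

def bb (M : Md) (a b : ℕ) : ℤ := if a + b = M.d - 1 then (if a = b then 2 else 1) else 0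
def qq (M : Md) (a : ℕ) : ℤ := if a + a = M.d - 1 then 1 else 0
def A (M : Md) (r : ℕ) : ℕ := M.ra.getD r 0
def B (M : Md) (r : ℕ) : ℕ := M.rb.getD r 0
def S (M : Md) (r : ℕ) : ℤ := M.sg.getD r 0
def BT (M : Md) (a b : ℕ) : List (ℕ × ℤ) :=
  if a < b then [(M.d * a + b, 1)] else if a = b then (if a + b = M.d - 1 then [(M.d * M.d, 1)] else [])
  else if a + b = M.d - 1 then [(M.d * M.d, 1), (M.d * b + a, -1)] else [(M.d * b + a, -1)]
def PL (M : Md) (n k : ℕ) : List (ℕ × ℤ) :=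
  if k < n then (if M.A k < M.B k then [(M.d * M.A k + M.B k, M.S k)] else [(M.d * M.B k + M.A k, - M.S k)])
  else M.hl.getD (k - n) []
def GV (M : Md) (r c : ℕ) : List (ℕ × Mon) :=
  [(c, (1, 0, 0)), (M.A r, (M.S r * M.bb (M.B r) c, 1, 0)), (M.B r, (-(M.S r * M.bb (M.A r) c), 1, 0)),
   (M.A r, (-(M.qq (M.B r) * M.bb (M.A r) c), 2, 0))]

def lhs (M : Md) (T : Acc) (r k : ℕ) : List (ℕ × Mon) :=
  (actT T r [(1, 1, 0)] (k, (1, 0, 0))).flatMap fun q => (M.PL T.n q.1).map fun s => (s.1, (s.2 * q.2.1, q.2.2.1, q.2.2.2))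

def mul3 (M : Md) (c : ℤ) (x x' : ℕ × Mon) : List (ℕ × Mon) :=
  (M.BT x.1 x'.1).map fun z => (z.1, (c * x.2.1 * x'.2.1 * z.2, x.2.2.1 + x'.2.2.1, x.2.2.2 + x'.2.2.2))

def rhs1 (M : Md) (r : ℕ) (s : ℕ × ℤ) : List (ℕ × Mon) :=
  if s.1 = M.d * M.d then [(s.1, (s.2, 0, 0))] else
    (M.GV r (s.1 / M.d)).flatMap fun x => (M.GV r (s.1 % M.d)).flatMap fun x' => M.mul3 s.2 x x'

def rhs (M : Md) (T : Acc) (r k : ℕ) : List (ℕ × Mon) := (M.PL T.n k).flatMap fun s => M.rhs1 r s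

noncomputable def chk (M : Md) (T : Acc) : Bool := allB T.n fun r => allB (T.n + T.l) fun k => eqB (M.lhs T r k) (M.rhs T r k)

/-- the root indices make sense -/
noncomputable def chkR (M : Md) (n l : ℕ) : Bool := allB n fun r =>
  decide (M.A r < M.d) && decide (M.B r < M.d) && !(M.A r == M.B r) && !(M.A r + M.B r == M.d - 1) && !(M.A r + M.A r == M.d - 1) &&
  decide (M.S r = 1 ∨ M.S r = -1)

noncomputable def chkL (M : Md) (n l : ℕ) : Bool := allB (n + l) fun k => (M.PL n k).all fun s => decide (s.1 ≤ M.d * M.d)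

end Md

/-- the model of D4 -/
def mD4 : Md where
  d := 8
  ra := [7, 7, 7, 7, 7, 7, 6, 6, 6, 6, 5, 5, 2, 2, 1, 1, 1, 1, 0, 0, 0, 0, 0, 0]
  rb := [6, 5, 3, 4, 2, 1, 5, 3, 4, 2, 3, 4, 3, 4, 5, 3, 4, 2, 6, 5, 3, 4, 2, 1]
  sg := [-1, -1, -1, -1, 1, -1, 1, 1, 1, -1, -1, -1, 1, 1, 1, -1, -1, -1, 1, -1, 1, 1, 1, 1]
  hl := [[(7, 1), (14, -1)], [(14, 1), (21, -1)], [(21, 1), (28, -1)], [(21, 1), (28, 1), (64, -1)]]

/-- the model of B2 -/
def mB2 : Md where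
  d := 5
  ra := [4, 4, 3, 4, 0, 1, 0, 0]
  rb := [3, 2, 2, 1, 3, 2, 2, 1]
  sg := [-1, -1, -1, -1, 1, 1, 1, 1]
  hl := [[(8, 2), (25, -1)], [(4, 1), (8, -1)]]

theorem chk_mD4 : mD4.chk tD4.acc = true := by decide +kernel
theorem chk_mB2 : mB2.chk tB2.acc = true := by decide +kernel
theorem chkR_mD4 : mD4.chkR 24 4 = true := by decide +kernel
theorem chkR_mB2 : mB2.chkR 8 2 = true := by decide +kernel
theorem chkL_mD4 : mD4.chkL 24 4 = true := by decide +kernel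
theorem chkL_mB2 : mB2.chkL 8 2 = true := by decide +kernel

end Cfsg.Agent.H22.Cv
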