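import Mathlib

set_option autoImplicit false

/-! Stabilisers of orthogonal decompositions (seat helper22). -/

namespace Cfsg.Agent.H22

section
variable {F V V₁ V₂ : Type*} [Field F] [AddCommGroup V] [Module F V] [AddCommGroup V₁] [Module F V₁] [AddCommGroup V₂] [Module F V₂]

/-- isometry group of an arbitrary two-variable function -/
def Iso (f : V → V → F) : Subgroup (V ≃ₗ[F] V) where
  carrier := {g | ∀ x y, f (g x) (g y) = f x y}
  mul_mem' {a b} ha hb x y := by rw [LinearEquiv.mul_apply, LinearEquiv.mul_apply, ha, hb]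
  one_mem' x y := rfl
  inv_mem' {a} ha x y := by
    have h := ha ((a⁻¹ : V ≃ₗ[F] V) x) ((a⁻¹ : V ≃ₗ[F] V) y)
    have e : ∀ z, a ((a⁻¹ : V ≃ₗ[F] V) z) = z := fun z => by
      rw [← LinearEquiv.mul_apply, mul_inv_cancel]; rfl
    rw [e, e] at h
    exact h.symm

lemma mem_Iso {f : V → V → F} {g : V ≃ₗ[F] V} : g ∈ Iso f ↔ ∀ x y, f (g x) (g y) = f x y := Iff.rfl

/-- stabiliser of a subspace in the isometry group -/
def IsoStab (f : V → V → F) (W : Submodule F V) : Subgroup (V ≃ₗ[F] V) where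
  carrier := {g | (∀ x y, f (g x) (g y) = f x y) ∧ ∀ v, v ∈ W ↔ g v ∈ W}
  mul_mem' {a b} ha hb := ⟨fun x y => by rw [LinearEquiv.mul_apply, LinearEquiv.mul_apply, ha.1, hb.1], fun v => by
    rw [LinearEquiv.mul_apply]; exact (hb.2 v).trans (ha.2 _)⟩
  one_mem' := ⟨fun x y => rfl, fun v => Iff.rfl⟩
  inv_mem' {a} ha := by
    have e : ∀ z, a ((a⁻¹ : V ≃ₗ[F] V) z) = z := fun z => by
      rw [← LinearEquiv.mul_apply, mul_inv_cancel]; rfl
    refine ⟨fun x y => ?_, fun v => ?_⟩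
    · have h := ha.1 ((a⁻¹ : V ≃ₗ[F] V) x) ((a⁻¹ : V ≃ₗ[F] V) y)
      rw [e, e] at h
      exact h.symm
    · have h := ha.2 ((a⁻¹ : V ≃ₗ[F] V) v)
      rw [e] at h
      exact h.symm

/-- transport of isometry groups -/
theorem isoCongr {f : V → V → F} {f₁ : V₁ → V₁ → F} (φ : V ≃ₗ[F] V₁) (h : ∀ x y, f₁ (φ x) (φ y) = f x y) : Nonempty (Iso f ≃* Iso f₁) := by
  refine ⟨{ toFun := fun g => ⟨(φ.symm.trans g.1).trans φ, fun x y => ?_⟩, invFun := fun g => ⟨(φ.trans g.1).trans φ.symm, fun x y => ?_⟩, left_inv := fun g => ?_, right_inv := fun g => ?_, map_mul' := fun g k => ?_ }⟩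
  · show f₁ (φ (g.1 (φ.symm x))) (φ (g.1 (φ.symm y))) = f₁ x y
    rw [h, g.2, ← h, LinearEquiv.apply_symm_apply, LinearEquiv.apply_symm_apply]
  · show f (φ.symm (g.1 (φ x))) (φ.symm (g.1 (φ y))) = f x y
    rw [← h, LinearEquiv.apply_symm_apply, LinearEquiv.apply_symm_apply, g.2, h]
  · apply Subtype.ext
    ext x
    show φ.symm (φ (g.1 (φ.symm (φ x)))) = g.1 x
    rw [LinearEquiv.symm_apply_apply, LinearEquiv.symm_apply_apply]
  · apply Subtype.ext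
    ext x
    show φ (φ.symm (g.1 (φ (φ.symm x)))) = g.1 x
    rw [LinearEquiv.apply_symm_apply, LinearEquiv.apply_symm_apply]
  · apply Subtype.ext
    ext x
    show φ (g.1 (k.1 (φ.symm x))) = φ (g.1 (φ.symm (φ (k.1 (φ.symm x)))))
    rw [LinearEquiv.symm_apply_apply]

/-- the stabiliser of a nondegenerate subspace -/
theorem stab_prod (f : V → V → F) (f₁ : V₁ → V₁ → F) (f₂ : V₂ → V₂ → F) (Φ : (V₁ × V₂) ≃ₗ[F] V)
    (hΦ : ∀ x y, f (Φ x) (Φ y) = f₁ x.1 y.1 + f₂ x.2 y.2) (h10 : ∀ x, f₁ x 0 = 0) (h20 : ∀ x, f₂ x 0 = 0) (h01 : ∀ x, f₁ 0 x = 0) (h02 : ∀ x, f₂ 0 x = 0)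
    (hnd : ∀ x, (∀ y, f₁ y x = 0) → x = 0) (W : Submodule F V) (hW : ∀ x, Φ x ∈ W ↔ x.2 = 0) :
    Nonempty (IsoStab f W ≃* Iso f₁ × Iso f₂) := by
  -- the map backwards
  have hback : ∀ p : Iso f₁ × Iso f₂, (Φ.symm.trans (LinearEquiv.prodCongr p.1.1 p.2.1)).trans Φ ∈ IsoStab f W := by
    intro p
    refine ⟨fun x y => ?_, fun v => ?_⟩
    · obtain ⟨x, rfl⟩ := Φ.surjective x
      obtain ⟨y, rfl⟩ := Φ.surjective y
      show f (Φ (p.1.1 (Φ.symm (Φ x)).1, p.2.1 (Φ.symm (Φ x)).2)) (Φ (p.1.1 (Φ.symm (Φ y)).1, p.2.1 (Φ.symm (Φ y)).2)) = _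
      rw [LinearEquiv.symm_apply_apply, LinearEquiv.symm_apply_apply, hΦ, hΦ]
      simp only
      rw [p.1.2, p.2.2]
    · obtain ⟨x, rfl⟩ := Φ.surjective v
      show Φ x ∈ W ↔ Φ (p.1.1 (Φ.symm (Φ x)).1, p.2.1 (Φ.symm (Φ x)).2) ∈ W
      rw [LinearEquiv.symm_apply_apply, hW, hW]
      simp
  obtain ⟨ψ, hψ⟩ : ∃ ψ : Iso f₁ × Iso f₂ →* IsoStab f W, ∀ p x, (ψ p).1 (Φ x) = Φ (p.1.1 x.1, p.2.1 x.2) := by
    refine ⟨{ toFun := fun p => ⟨_, hback p⟩, map_one' := ?_, map_mul' := ?_ }, fun p x => ?_⟩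
    · apply Subtype.ext
      ext v
      obtain ⟨x, rfl⟩ := Φ.surjective v
      show Φ (((1 : Iso f₁).1 : V₁ ≃ₗ[F] V₁) (Φ.symm (Φ x)).1, ((1 : Iso f₂).1 : V₂ ≃ₗ[F] V₂) (Φ.symm (Φ x)).2) = Φ x
      rw [LinearEquiv.symm_apply_apply]; rfl
    · intro p r
      apply Subtype.ext
      ext v
      obtain ⟨x, rfl⟩ := Φ.surjective v
      show Φ (p.1.1 (r.1.1 (Φ.symm (Φ x)).1), p.2.1 (r.2.1 (Φ.symm (Φ x)).2)) = Φ (p.1.1 (Φ.symm (Φ (r.1.1 (Φ.symm (Φ x)).1, r.2.1 (Φ.symm (Φ x)).2))).1, p.2.1 (Φ.symm (Φ (r.1.1 (Φ.symm (Φ x)).1, r.2.1 (Φ.symm (Φ x)).2))).2)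
      rw [LinearEquiv.symm_apply_apply, LinearEquiv.symm_apply_apply]
    · show Φ (p.1.1 (Φ.symm (Φ x)).1, p.2.1 (Φ.symm (Φ x)).2) = _
      rw [LinearEquiv.symm_apply_apply]
  have hinj : Function.Injective ψ := by
    intro p r hpr
    have h1 : ∀ x : V₁ × V₂, Φ (p.1.1 x.1, p.2.1 x.2) = Φ (r.1.1 x.1, r.2.1 x.2) := by
      intro x
      rw [← hψ, ← hψ, hpr]
    apply Prod.ext
    · apply Subtype.ext
      ext x
      have := Φ.injective (h1 (x, 0))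
      exact (Prod.mk.inj this).1
    · apply Subtype.ext
      ext x
      have := Φ.injective (h1 (0, x))
      exact (Prod.mk.inj this).2
  have hsurj : Function.Surjective ψ := by
    intro g
    -- components
    have hcomp : ∀ g : V ≃ₗ[F] V, g ∈ IsoStab f W → (∀ x₁ : V₁, (Φ.symm (g (Φ (x₁, 0)))).2 = 0) ∧ (∀ x₂ : V₂, (Φ.symm (g (Φ (0, x₂)))).1 = 0) := by
      intro g hg
      have hA : ∀ x₁ : V₁, (Φ.symm (g (Φ (x₁, 0)))).2 = 0 := by
        intro x₁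
        rw [← hW, LinearEquiv.apply_symm_apply]
        exact (hg.2 _).1 ((hW _).2 rfl)
      refine ⟨hA, fun x₂ => ?_⟩
      apply hnd
      intro y
      -- y is the image of something in W
      obtain ⟨w, hw⟩ : ∃ w, g w = Φ (y, 0) := g.surjective _
      have hwW : w ∈ W := (hg.2 w).2 (by rw [hw, hW])
      obtain ⟨z, rfl⟩ := Φ.surjective w
      rw [hW] at hwW
      have h1 : f (g (Φ z)) (g (Φ (0, x₂))) = 0 := by
        rw [hg.1, hΦ, h10, hwW, h02, add_zero]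
      rw [hw] at h1
      have h2 : g (Φ (0, x₂)) = Φ (Φ.symm (g (Φ (0, x₂)))) := (LinearEquiv.apply_symm_apply _ _).symm
      rw [h2, hΦ] at h1
      simp only at h1
      rw [h02, add_zero] at h1
      exact h1
    obtain ⟨hA, hB⟩ := hcomp g.1 g.2
    obtain ⟨hA', hB'⟩ := hcomp (g⁻¹).1 (g⁻¹).2
    have hgi : ∀ v, g.1 ((g⁻¹ : IsoStab f W).1 v) = v := fun v => by
      rw [← LinearEquiv.mul_apply, ← Subgroup.coe_mul, mul_inv_cancel]; rfl
    have hig : ∀ v, (g⁻¹ : IsoStab f W).1 (g.1 v) = v := fun v => by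
      rw [← LinearEquiv.mul_apply, ← Subgroup.coe_mul, inv_mul_cancel]; rfl
    have eA : ∀ (k : V ≃ₗ[F] V), (∀ x₁ : V₁, (Φ.symm (k (Φ (x₁, 0)))).2 = 0) → ∀ x₁ : V₁, Φ ((Φ.symm (k (Φ (x₁, 0)))).1, 0) = k (Φ (x₁, 0)) := by
      intro k hk x₁
      have : (((Φ.symm (k (Φ (x₁, 0)))).1, 0) : V₁ × V₂) = Φ.symm (k (Φ (x₁, 0))) := Prod.ext rfl (hk x₁).symm
      rw [this, LinearEquiv.apply_symm_apply]
    have eB : ∀ (k : V ≃ₗ[F] V), (∀ x₂ : V₂, (Φ.symm (k (Φ (0, x₂)))).1 = 0) → ∀ x₂ : V₂, Φ (0, (Φ.symm (k (Φ (0, x₂)))).2) = k (Φ (0, x₂)) := by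
      intro k hk x₂
      have : ((0, (Φ.symm (k (Φ (0, x₂)))).2) : V₁ × V₂) = Φ.symm (k (Φ (0, x₂))) := Prod.ext (hk x₂).symm rfl
      rw [this, LinearEquiv.apply_symm_apply]
    have lin1 : ∀ x y : V₁, Φ (x + y, 0) = Φ (x, 0) + Φ (y, 0) := fun x y => by rw [← map_add]; simp
    have lin2 : ∀ x y : V₂, Φ (0, x + y) = Φ (0, x) + Φ (0, y) := fun x y => by rw [← map_add]; simp
    have lin3 : ∀ (c : F) (x : V₁), Φ (c • x, 0) = c • Φ (x, 0) := fun c x => by rw [← map_smul]; simp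
    have lin4 : ∀ (c : F) (x : V₂), Φ (0, c • x) = c • Φ (0, x) := fun c x => by rw [← map_smul]; simp
    obtain ⟨a, ha⟩ : ∃ a : V₁ ≃ₗ[F] V₁, ∀ x, a x = (Φ.symm (g.1 (Φ (x, 0)))).1 :=
      ⟨{ toFun := fun x => (Φ.symm (g.1 (Φ (x, 0)))).1
         map_add' := fun x y => by rw [lin1, map_add, map_add]; rfl
         map_smul' := fun c x => by rw [lin3, map_smul, map_smul]; rfl
         invFun := fun x => (Φ.symm ((g⁻¹ : IsoStab f W).1 (Φ (x, 0)))).1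
         left_inv := fun x => by
           simp only
           rw [eA g.1 hA, hig, LinearEquiv.symm_apply_apply]
         right_inv := fun x => by
           simp only
           rw [eA _ hA', hgi, LinearEquiv.symm_apply_apply] }, fun x => rfl⟩
    obtain ⟨b, hb⟩ : ∃ b : V₂ ≃ₗ[F] V₂, ∀ x, b x = (Φ.symm (g.1 (Φ (0, x)))).2 :=
      ⟨{ toFun := fun x => (Φ.symm (g.1 (Φ (0, x)))).2
         map_add' := fun x y => by rw [lin2, map_add, map_add]; rfl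
         map_smul' := fun c x => by rw [lin4, map_smul, map_smul]; rfl
         invFun := fun x => (Φ.symm ((g⁻¹ : IsoStab f W).1 (Φ (0, x)))).2
         left_inv := fun x => by
           simp only
           rw [eB g.1 hB, hig, LinearEquiv.symm_apply_apply]
         right_inv := fun x => by
           simp only
           rw [eB _ hB', hgi, LinearEquiv.symm_apply_apply] }, fun x => rfl⟩
    have hab : ∀ x : V₁ × V₂, Φ (a x.1, b x.2) = g.1 (Φ x) := by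
      intro x
      have h1 : x = (x.1, 0) + (0, x.2) := by simp
      have h2 : (a x.1, b x.2) = ((a x.1, 0) : V₁ × V₂) + (0, b x.2) := by simp
      rw [h2, map_add, ha, hb, eA g.1 hA, eB g.1 hB, ← map_add, ← map_add, ← h1]
    have haI : a ∈ Iso f₁ := by
      intro x y
      have h1 := g.2.1 (Φ (x, 0)) (Φ (y, 0))
      rw [← hab, ← hab, hΦ, hΦ] at h1
      simp only [map_zero, h20, add_zero] at h1
      exact h1
    have hbI : b ∈ Iso f₂ := by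
      intro x y
      have h1 := g.2.1 (Φ (0, x)) (Φ (0, y))
      rw [← hab, ← hab, hΦ, hΦ] at h1
      simp only [map_zero, h10, zero_add] at h1
      exact h1
    refine ⟨(⟨a, haI⟩, ⟨b, hbI⟩), ?_⟩
    apply Subtype.ext
    ext v
    obtain ⟨x, rfl⟩ := Φ.surjective v
    rw [hψ]
    exact hab x
  exact ⟨(MulEquiv.ofBijective ψ ⟨hinj, hsurj⟩).symm⟩

end

end Cfsg.Agent.H22
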