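import Cfsg.Agent.LibH22Spin3

set_option autoImplicit false

/-! Existence of hyperbolic pairs over finite fields; generation of `Ω` by long root elements (seat helper22). -/

namespace Cfsg.Agent.H22

open Module MulAction
open scoped commutatorElement

section exist
variable {F V : Type*} [Field F] [Fintype F] [AddCommGroup V] [Module F V] [FiniteDimensional F V] {Q : QuadraticForm F V}

lemma exists_binary (h2 : (2 : F) ≠ 0) (α β γ : F) (hα : α ≠ 0) (hβ : β ≠ 0) : ∃ a b : F, a ^ 2 * α + b ^ 2 * β = γ := by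
  obtain ⟨a, b, hab⟩ := FiniteField.exists_root_sum_quadratic (R := F)
    (f := Polynomial.C α * Polynomial.X ^ 2 - Polynomial.C γ) (g := Polynomial.C β * Polynomial.X ^ 2)
    (by
      rw [Polynomial.degree_sub_C]
      · exact Polynomial.degree_C_mul_X_pow 2 hα
      · rw [Polynomial.degree_C_mul_X_pow 2 hα]; norm_num)
    (Polynomial.degree_C_mul_X_pow 2 hβ) (FiniteField.odd_card_of_char_ne_two (ringChar_ne_two h2))
  refine ⟨a, b, ?_⟩
  simp only [Polynomial.eval_sub, Polynomial.eval_mul, Polynomial.eval_C, Polynomial.eval_pow, Polynomial.eval_X] at hab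
  linear_combination hab

/-- every nonzero norm is attained, dimension at least 2, odd characteristic -/
lemma exists_norm_odd (h2 : (2 : F) ≠ 0) (hQ : (QuadraticMap.polarBilin Q).Nondegenerate) (h : 2 ≤ finrank F V) (c : F) :
    ∃ v : V, Q v = c := by
  obtain ⟨x, y, hx, hy, hxy⟩ := exists_orth_pair h2 hQ h
  obtain ⟨a, b, hab⟩ := exists_binary h2 _ _ c hx hy
  refine ⟨a • x + b • y, ?_⟩
  rw [qadd, qsmul, qsmul, QuadraticMap.polar_smul_left, QuadraticMap.polar_smul_right, hxy, ← hab]
  simp; ring

lemma finrank_perp2_ge (x y : V) : finrank F V ≤ finrank F (perp2 Q x y) + 2 := by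
  have h1 := LinearMap.finrank_range_add_finrank_ker ((QuadraticMap.polarBilin Q x).prod (QuadraticMap.polarBilin Q y))
  have h3 : finrank F (LinearMap.range ((QuadraticMap.polarBilin Q x).prod (QuadraticMap.polarBilin Q y))) ≤ 2 := by
    have := Submodule.finrank_le (LinearMap.range ((QuadraticMap.polarBilin Q x).prod (QuadraticMap.polarBilin Q y)))
    rw [Module.finrank_prod, finrank_self] at this
    exact this
  have h4 : LinearMap.ker ((QuadraticMap.polarBilin Q x).prod (QuadraticMap.polarBilin Q y)) = perp2 Q x y := by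
    ext z
    rw [LinearMap.mem_ker]
    constructor
    · intro h
      exact ⟨congrArg Prod.fst h, congrArg Prod.snd h⟩
    · rintro ⟨h5, h6⟩
      exact Prod.ext h5 h6
  rw [h4] at h1
  omega

/-- singular vectors exist in dimension at least 3 -/
lemma exists_singular (hQ : (QuadraticMap.polarBilin Q).Nondegenerate) (h : 3 ≤ finrank F V) : ∃ v : V, v ≠ 0 ∧ Q v = 0 := by
  by_cases h2 : (2 : F) = 0
  · haveI : CharP F 2 := CharTwo.of_one_ne_zero_of_two_eq_zero one_ne_zero h2
    obtain ⟨x, _, hx0⟩ := exists_perp_ne_zero (Q := Q) (by omega) 0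
    by_cases hx : Q x = 0
    · exact ⟨x, hx0, hx⟩
    -- a second vector orthogonal to x, not in its span
    obtain ⟨y, hy1, hy2⟩ : ∃ y, QuadraticMap.polar Q x y = 0 ∧ y ∉ Submodule.span F {x} := by
      by_contra hcon
      push Not at hcon
      have h5 : LinearMap.ker (QuadraticMap.polarBilin Q x) ≤ Submodule.span F {x} := fun z hz => hcon z hz
      have h6 := Submodule.finrank_mono h5
      rw [finrank_span_singleton hx0] at h6
      have h7 := LinearMap.finrank_range_add_finrank_ker (QuadraticMap.polarBilin Q x)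
      have h8 : finrank F (LinearMap.range (QuadraticMap.polarBilin Q x)) ≤ 1 := by
        have := Submodule.finrank_le (LinearMap.range (QuadraticMap.polarBilin Q x))
        rwa [finrank_self] at this
      omega
    obtain ⟨t, ht⟩ : IsSquare (Q y / Q x) := FiniteField.isSquare_of_char_two (ringChar.eq F 2) _
    refine ⟨y + t • x, ?_, ?_⟩
    · intro h0
      apply hy2
      rw [Submodule.mem_span_singleton]
      exact ⟨-t, by rw [neg_smul]; exact (eq_neg_of_add_eq_zero_left h0).symm⟩
    · rw [qadd, qsmul, QuadraticMap.polar_smul_right, QuadraticMap.polar_comm Q y x, hy1, smul_zero, add_zero, ← ht,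
        div_mul_cancel₀ _ hx]
      linear_combination Q y * h2
  · obtain ⟨x, y, hx, hy, hxy⟩ := exists_orth_pair h2 hQ (by omega)
    have hyx : QuadraticMap.polar Q y x = 0 := by rw [QuadraticMap.polar_comm]; exact hxy
    obtain ⟨z, hz, hqz⟩ : ∃ z ∈ perp2 Q x y, Q z ≠ 0 := by
      by_contra hcon
      push Not at hcon
      have h3 := finrank_perp2_ge (Q := Q) x y
      obtain ⟨z, hz, hz0⟩ : ∃ z ∈ perp2 Q x y, z ≠ 0 := by
        rw [← Submodule.ne_bot_iff]
        intro h4
        rw [h4, finrank_bot] at h3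
        omega
      apply hz0
      apply hQ.1
      intro w
      show QuadraticMap.polar Q z w = 0
      obtain ⟨w', hw'⟩ : ∃ w', w' = w - (QuadraticMap.polar Q x w / (2 * Q x)) • x - (QuadraticMap.polar Q y w / (2 * Q y)) • y := ⟨_, rfl⟩
      have e1 : w' ∈ perp2 Q x y := by
        constructor
        · rw [hw', QuadraticMap.polar_sub_right, QuadraticMap.polar_sub_right, QuadraticMap.polar_smul_right, QuadraticMap.polar_smul_right,
            pself, hxy, smul_eq_mul, div_mul_cancel₀ _ (mul_ne_zero h2 hx)]; simp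
        · rw [hw', QuadraticMap.polar_sub_right, QuadraticMap.polar_sub_right, QuadraticMap.polar_smul_right, QuadraticMap.polar_smul_right,
            pself, hyx, smul_eq_mul, smul_eq_mul, div_mul_cancel₀ _ (mul_ne_zero h2 hy)]; simp
      have e2 : QuadraticMap.polar Q z w' = 0 := by
        unfold QuadraticMap.polar
        rw [hcon z hz, hcon w' e1, hcon (z + w') (Submodule.add_mem _ hz e1)]; ring
      have e3 : w = w' + (QuadraticMap.polar Q x w / (2 * Q x)) • x + (QuadraticMap.polar Q y w / (2 * Q y)) • y := by rw [hw']; abel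
      rw [e3, QuadraticMap.polar_add_right, QuadraticMap.polar_add_right, QuadraticMap.polar_smul_right, QuadraticMap.polar_smul_right,
        e2, QuadraticMap.polar_comm Q z x, QuadraticMap.polar_comm Q z y, hz.1, hz.2]
      simp
    obtain ⟨a, b, hab⟩ := exists_binary h2 _ _ (- Q z) hx hy
    have hpz : QuadraticMap.polar Q (a • x + b • y) z = 0 := by
      rw [QuadraticMap.polar_add_left, QuadraticMap.polar_smul_left, QuadraticMap.polar_smul_left, hz.1, hz.2]; simp
    refine ⟨a • x + b • y + z, ?_, ?_⟩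
    · intro h0
      have : QuadraticMap.polar Q (a • x + b • y + z) z = 0 := by rw [h0, QuadraticMap.polar_zero_left]
      rw [QuadraticMap.polar_add_left, hpz, pself, zero_add] at this
      exact (mul_ne_zero h2 hqz) this
    · rw [qadd, hpz, qadd, qsmul, qsmul, QuadraticMap.polar_smul_left, QuadraticMap.polar_smul_right, hxy]
      have : a * a * Q x + b * b * Q y = - Q z := by linear_combination hab
      rw [this]; simp

lemma exists_HP_of_singular (hQ : (QuadraticMap.polarBilin Q).Nondegenerate) (v : V) (hv0 : v ≠ 0) (hv : Q v = 0) :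
    ∃ f, HP Q v f := by
  obtain ⟨w', _, h1, h3⟩ := exists_partner hQ ⊥ v (by rw [Submodule.mem_bot]; exact hv0) (by
    intro z hz
    rw [(Submodule.mem_bot F).1 hz, QuadraticMap.polar_zero_left]) hv
  exact ⟨w', hv, h3, h1⟩

/-- the full configuration exists in dimension at least 5 -/
theorem exists_HS (hQ : (QuadraticMap.polarBilin Q).Nondegenerate) (h : 5 ≤ finrank F V) : ∃ e f e' f' u : V, HS Q e f e' f' u := by
  obtain ⟨e, he0, he⟩ := exists_singular hQ (by omega)
  obtain ⟨f, hf⟩ := exists_HP_of_singular hQ e he0 he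
  have hfr := hf.finrank_eq
  have hnd := hf.nondeg hQ
  obtain ⟨e', he'0, he'⟩ := exists_singular hnd (by omega)
  obtain ⟨f', hf'⟩ := exists_HP_of_singular hnd e' he'0 he'
  have hfr' := hf'.finrank_eq
  have hnd' := hf'.nondeg hnd
  have h1 : 1 ≤ finrank F (perp2 (qres Q (perp2 Q e f)) e' f') := by omega
  obtain ⟨u, hu⟩ := exists_nonsing hnd' (by
    haveI : Nontrivial (perp2 (qres Q (perp2 Q e f)) e' f') := Module.nontrivial_of_finrank_pos (R := F) (by omega)
    exact exists_ne 0)
  refine ⟨e, f, (e' : V), (f' : V), ((u : perp2 Q e f) : V), ⟨hf, hf', e'.2.1, f'.2.1, e'.2.2, f'.2.2, ?_, ?_, ?_, ?_, hu⟩⟩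
  · rw [QuadraticMap.polar_comm]; exact (u : perp2 Q e f).2.1
  · rw [QuadraticMap.polar_comm]; exact (u : perp2 Q e f).2.2
  · rw [QuadraticMap.polar_comm]; exact u.2.1
  · rw [QuadraticMap.polar_comm]; exact u.2.2

end exist

section root
variable {F V : Type*} [Field F] [AddCommGroup V] [Module F V] {Q : QuadraticForm F V}

/-- group generated by the long root elements -/
def LG (Q : QuadraticForm F V) : Subgroup (OGrp Q) :=
  Subgroup.closure {g | ∃ v w, ∃ (hv : Q v = 0) (hw : QuadraticMap.polar Q v w = 0), Q w = 0 ∧ g = oEich Q v w hv hw}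

instance LG_normal : (LG Q).Normal := by
  refine ⟨fun n hn g => ?_⟩
  unfold LG at hn
  induction hn using Subgroup.closure_induction with
  | mem x hx =>
    obtain ⟨v, w, hv, hw, hqw, rfl⟩ := hx
    rw [conj_oEich g v w (g.1 v) (g.1 w) hv hw (by rw [og_Q]; exact hv) (by rw [og_polar]; exact hw) rfl rfl]
    exact Subgroup.subset_closure ⟨_, _, _, _, by rw [og_Q]; exact hqw, rfl⟩
  | one => rw [mul_one, mul_inv_cancel]; exact one_mem _
  | mul x y _ _ hx hy =>
    have : g * (x * y) * g⁻¹ = (g * x * g⁻¹) * (g * y * g⁻¹) := by group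
    rw [this]; exact mul_mem hx hy
  | inv x _ hx =>
    have : g * x⁻¹ * g⁻¹ = (g * x * g⁻¹)⁻¹ := by group
    rw [this]; exact inv_mem hx

lemma PE_of_singular {v w : V} (hqw : Q w = 0) : PE (LG Q) v w := fun hv hw =>
  Subgroup.subset_closure ⟨v, w, hv, hw, hqw, rfl⟩

lemma LG_le : LG Q ≤ EG Q := by
  unfold LG
  rw [Subgroup.closure_le]
  rintro _ ⟨v, w, hv, hw, _, rfl⟩
  exact oEich_mem _ _ _ _

variable {e f e' f' u : V}

theorem HS.EG_le_LG (hs : HS Q e f e' f' u) (hQ : (QuadraticMap.polarBilin Q).Nondegenerate) : EG Q ≤ LG Q := by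
  have s8 : ∀ w, QuadraticMap.polar Q e w = 0 → PE (LG Q) e w := by
    intro w hw
    obtain ⟨w₀, hw₀⟩ : ∃ w₀, w₀ = w - QuadraticMap.polar Q f w • e - QuadraticMap.polar Q f' w • e' - QuadraticMap.polar Q e' w • f' := ⟨_, rfl⟩
    have k1 : QuadraticMap.polar Q e w₀ = 0 := by
      rw [hw₀]
      simp only [QuadraticMap.polar_sub_right, QuadraticMap.polar_smul_right, hw, hs.h1.ee, hs.ee', hs.ef', smul_eq_mul]; ring
    have k3 : QuadraticMap.polar Q e' w₀ = 0 := by
      rw [hw₀]
      simp only [QuadraticMap.polar_sub_right, QuadraticMap.polar_smul_right, hs.e'e, hs.h2.ee, hs.h2.2.2, smul_eq_mul]; ring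
    have k4 : QuadraticMap.polar Q f' w₀ = 0 := by
      rw [hw₀]
      simp only [QuadraticMap.polar_sub_right, QuadraticMap.polar_smul_right, hs.f'e, hs.h2.fe, hs.h2.ff, smul_eq_mul]; ring
    have p2 : ∀ a : F, QuadraticMap.polar Q e (a • f') = 0 := fun a => by rw [QuadraticMap.polar_smul_right, hs.ef', smul_zero]
    have p3 : ∀ a : F, QuadraticMap.polar Q e (a • e') = 0 := fun a => by rw [QuadraticMap.polar_smul_right, hs.ee', smul_zero]
    have p4 : ∀ a : F, QuadraticMap.polar Q e (a • e) = 0 := fun a => by rw [QuadraticMap.polar_smul_right, hs.h1.ee, smul_zero]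
    -- singular vector
    have q1 : Q (w₀ + (e' - Q w₀ • f')) = 0 := by
      rw [qadd, qsub, qsmul, hs.h2.1, hs.h2.2.1, QuadraticMap.polar_smul_right, hs.h2.2.2, QuadraticMap.polar_sub_right,
        QuadraticMap.polar_smul_right, QuadraticMap.polar_comm Q w₀ e', QuadraticMap.polar_comm Q w₀ f', k3, k4]
      simp
    have t0 : PE (LG Q) e (w₀ + (e' - Q w₀ • f')) := PE_of_singular q1
    have p1 : QuadraticMap.polar Q e (w₀ + (e' - Q w₀ • f')) = 0 := by
      rw [QuadraticMap.polar_add_right, QuadraticMap.polar_sub_right, QuadraticMap.polar_smul_right, k1, hs.ee', hs.ef']; simp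
    have s6 : ∀ a : F, PE (LG Q) e (a • f') := fun a => PE_of_singular (by rw [qsmul, hs.h2.2.1, mul_zero])
    have s7 : ∀ a : F, PE (LG Q) e (a • e') := fun a => PE_of_singular (by rw [qsmul, hs.h2.1, mul_zero])
    have t1 := PE_add t0 (s6 (Q w₀ + QuadraticMap.polar Q e' w)) p1 (p2 _)
    have t2 := PE_add t1 (s7 (QuadraticMap.polar Q f' w - 1)) (by rw [QuadraticMap.polar_add_right, p1, p2, add_zero]) (p3 _)
    have t3 := PE_add t2 (PE_smul_self (N := LG Q) e (QuadraticMap.polar Q f w))
      (by rw [QuadraticMap.polar_add_right, QuadraticMap.polar_add_right, p1, p2, p3]; simp) (p4 _)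
    have hfin : w₀ + (e' - Q w₀ • f') + (Q w₀ + QuadraticMap.polar Q e' w) • f' + (QuadraticMap.polar Q f' w - 1) • e' + QuadraticMap.polar Q f w • e = w := by
      rw [add_smul, sub_smul, one_smul]
      have : w = w₀ + QuadraticMap.polar Q e' w • f' + QuadraticMap.polar Q f' w • e' + QuadraticMap.polar Q f w • e := by
        rw [hw₀]; abel
      conv_rhs => rw [this]
      abel
    rwa [hfin] at t3
  conv_lhs => unfold EG
  rw [Subgroup.closure_le]
  rintro _ ⟨v, w, hv, hw, rfl⟩
  rw [SetLike.mem_coe]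
  by_cases hv0 : v = 0
  · subst hv0
    have : oEich Q 0 w hv hw = 1 := by
      apply og_ext
      intro x
      rw [oEich_apply]; simp
    rw [this]; exact one_mem _
  · obtain ⟨g, _, hg1⟩ := hs.trans hQ e v hs.h1.ne hv0 (by rw [hs.h1.1, hv])
    have h5 := s8 ((g⁻¹ : OGrp Q).1 w) (by rw [og_polar_inv, hg1]; exact hw)
    exact PE_conj h5 g hg1 (og_inv_apply g w) hv hw

/-- long root elements are commutators -/
theorem oEich_commutator [FiniteDimensional F V] (h2 : (2 : F) ≠ 0) (hQ : (QuadraticMap.polarBilin Q).Nondegenerate) (v w : V)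
    (hv : Q v = 0) (hw : QuadraticMap.polar Q v w = 0) (hqw : Q w = 0) : ∃ a b : OGrp Q, ⁅a, b⁆ = oEich Q v w hv hw := by
  by_cases hli : LinearIndependent F ![v, w]
  · have hli2 : LinearIndependent F ![v, (2 : F) • w] := by
      rw [LinearIndependent.pair_iff] at hli ⊢
      intro s t hst
      rw [smul_smul] at hst
      have := hli s (t * 2) hst
      exact ⟨this.1, (mul_eq_zero.1 this.2).resolve_right h2⟩
    obtain ⟨g, hg1, hg2⟩ := witt_two hQ v w v ((2 : F) • w) hli hli2 rfl (by rw [qsmul, hqw, mul_zero])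
      (by rw [QuadraticMap.polar_smul_right, hw, smul_zero])
    refine ⟨g, oEich Q v w hv hw, ?_⟩
    have hw2 : QuadraticMap.polar Q v ((2 : F) • w) = 0 := by rw [QuadraticMap.polar_smul_right, hw, smul_zero]
    rw [commutatorElement_def, conj_oEich g v w v ((2 : F) • w) hv hw hv hw2 hg1 hg2,
      oEich_inv v w hv hw (by rw [QuadraticMap.polar_neg_right, hw, neg_zero]), oEich_mul]
    rw [two_smul]; abel
  · refine ⟨1, 1, ?_⟩
    rw [commutatorElement_self]
    symm
    apply og_ext
    intro x
    show _ = x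
    rw [LinearIndependent.pair_iff] at hli
    push Not at hli
    obtain ⟨s, t, hst, hne⟩ := hli
    rw [oEich_apply, hqw, zero_mul, zero_smul, sub_zero]
    by_cases hv0 : v = 0
    · subst hv0
      simp
    have ht : t ≠ 0 := by
      rintro rfl
      rw [zero_smul, add_zero] at hst
      have hs : s = 0 := (smul_eq_zero.1 hst).resolve_right hv0
      exact (hne hs) rfl
    have hwv : w = (-(t⁻¹ * s)) • v := by
      have h3 : t • w = -(s • v) := eq_neg_of_add_eq_zero_right hst
      calc w = t⁻¹ • (t • w) := by rw [smul_smul, inv_mul_cancel₀ ht, one_smul]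
        _ = _ := by rw [h3, smul_neg, smul_smul, neg_smul]
    rw [hwv, QuadraticMap.polar_smul_left]
    simp only [smul_eq_mul]
    module

end root

end Cfsg.Agent.H22
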