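import Cfsg.Agent.LibH22GL2

set_option autoImplicit false

namespace Cfsg.Agent.H22

open Matrix
open scoped MatrixGroups Pointwise

section
variable {F : Type*} [Field F] [Fintype F] (p : ℕ) [hp : Fact p.Prime] [CharP F p]

lemma card_borel : Nat.card {g : GL (Fin 2) F // (g : Matrix (Fin 2) (Fin 2) F) 1 0 = 0} =
    Fintype.card F * (Fintype.card F - 1) ^ 2 := by
  classical
  have e : {g : GL (Fin 2) F // (g : Matrix (Fin 2) (Fin 2) F) 1 0 = 0} ≃ Fˣ × F × Fˣ := by
    refine ⟨fun g => ⟨Units.mk0 (((g : GL (Fin 2) F) : Matrix (Fin 2) (Fin 2) F) 0 0) ?_,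
      ((g : GL (Fin 2) F) : Matrix (Fin 2) (Fin 2) F) 0 1,
      Units.mk0 (((g : GL (Fin 2) F) : Matrix (Fin 2) (Fin 2) F) 1 1) ?_⟩,
      fun x => ⟨Matrix.GeneralLinearGroup.mkOfDetNeZero !![(x.1 : F), x.2.1; 0, (x.2.2 : F)] ?_, ?_⟩, ?_, ?_⟩
    · have hdet : ((g : GL (Fin 2) F) : Matrix (Fin 2) (Fin 2) F).det ≠ 0 := Matrix.GeneralLinearGroup.det_ne_zero _
      rw [Matrix.det_fin_two, g.2, mul_zero, sub_zero] at hdet
      exact left_ne_zero_of_mul hdet
    · have hdet : ((g : GL (Fin 2) F) : Matrix (Fin 2) (Fin 2) F).det ≠ 0 := Matrix.GeneralLinearGroup.det_ne_zero _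
      rw [Matrix.det_fin_two, g.2, mul_zero, sub_zero] at hdet
      exact right_ne_zero_of_mul hdet
    · simp
    · show (!![(x.1 : F), x.2.1; 0, (x.2.2 : F)] : Matrix (Fin 2) (Fin 2) F) 1 0 = 0
      simp
    · intro g
      apply Subtype.ext
      apply gl_ext
      show (!![_, _; 0, _] : Matrix (Fin 2) (Fin 2) F) = _
      ext i j
      have := g.2
      fin_cases i <;> fin_cases j <;> simp [this]
    · intro x
      rcases x with ⟨a, b, c⟩
      simp only [Prod.mk.injEq]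
      refine ⟨?_, ?_, ?_⟩
      · ext; show (!![(a : F), b; 0, (c : F)] : Matrix (Fin 2) (Fin 2) F) 0 0 = a; simp
      · show (!![(a : F), b; 0, (c : F)] : Matrix (Fin 2) (Fin 2) F) 0 1 = b; simp
      · ext; show (!![(a : F), b; 0, (c : F)] : Matrix (Fin 2) (Fin 2) F) 1 1 = c; simp
  rw [Nat.card_congr e, Nat.card_prod, Nat.card_prod, Nat.card_eq_fintype_card, Nat.card_eq_fintype_card,
    Fintype.card_units]
  ring

lemma card_normalizer_U2 : Nat.card (Subgroup.normalizer ((U2 F : Subgroup (GL (Fin 2) F)) : Set (GL (Fin 2) F))) =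
    Fintype.card F * (Fintype.card F - 1) ^ 2 := by
  rw [← card_borel]
  exact Nat.card_congr (Equiv.subtypeEquivRight fun g => mem_normalizer_U2)

lemma card_normalizer_conj {G : Type*} [Group G] (H : Subgroup G) (g : G) :
    Nat.card (Subgroup.normalizer ((MulAut.conj g • H : Subgroup G) : Set G)) =
      Nat.card (Subgroup.normalizer (H : Set G)) := by
  refine (Nat.card_congr (Equiv.subtypeEquiv (MulAut.conj g).toEquiv ?_)).symm
  intro a
  rw [Subgroup.mem_normalizer_iff, Subgroup.mem_normalizer_iff]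
  simp only [Subgroup.mem_pointwise_smul_iff_inv_smul_mem, MulAut.smul_def]
  simp only [MulEquiv.toEquiv_eq_coe, EquivLike.coe_coe, MulAut.conj_apply, MulAut.conj_inv_apply]
  constructor
  · intro h y
    have := h (g⁻¹ * y * g)
    rw [this]
    have e : g⁻¹ * (g * a * g⁻¹ * y * (g * a * g⁻¹)⁻¹) * g = a * (g⁻¹ * y * g) * a⁻¹ := by group
    rw [e]
  · intro h y
    have := h (g * y * g⁻¹)
    have e1 : g⁻¹ * (g * y * g⁻¹) * g = y := by group
    have e2 : g⁻¹ * (g * a * g⁻¹ * (g * y * g⁻¹) * (g * a * g⁻¹)⁻¹) * g = a * y * a⁻¹ := by group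
    rw [e1, e2] at this
    exact this

theorem card_normalizer_sylow (P : Sylow p (GL (Fin 2) F)) :
    Nat.card (Subgroup.normalizer ((P : Subgroup (GL (Fin 2) F)) : Set (GL (Fin 2) F))) =
      Fintype.card F * (Fintype.card F - 1) ^ 2 := by
  obtain ⟨g, hg⟩ := exists_eq_conj_U2 p P
  rw [hg, card_normalizer_conj, card_normalizer_U2]

theorem card_sylow_GL2 : Nat.card (Sylow p (GL (Fin 2) F)) = Fintype.card F + 1 := by
  classical
  obtain ⟨P⟩ : Nonempty (Sylow p (GL (Fin 2) F)) := inferInstance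
  rw [Sylow.card_eq_index_normalizer P]
  have h := Subgroup.card_mul_index (Subgroup.normalizer ((P : Subgroup (GL (Fin 2) F)) : Set (GL (Fin 2) F)))
  rw [card_normalizer_sylow, card_GL2] at h
  have hq : 0 < Fintype.card F * (Fintype.card F - 1) ^ 2 := by
    have := Fintype.one_lt_card (α := F)
    have h1 : 0 < Fintype.card F - 1 := by omega
    positivity
  apply Nat.eq_of_mul_eq_mul_left hq
  exact h.trans (by ring)

theorem sylow_GL2_inf (P Q : Sylow p (GL (Fin 2) F)) (h : P ≠ Q) :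
    (P : Subgroup (GL (Fin 2) F)) ⊓ (Q : Subgroup (GL (Fin 2) F)) = ⊥ := by
  obtain ⟨g, hg⟩ := exists_eq_conj_U2 p P
  obtain ⟨k, hk⟩ := exists_eq_conj_U2 p Q
  rw [eq_bot_iff]
  intro x hx
  rw [Subgroup.mem_bot]
  by_contra hx1
  apply h
  obtain ⟨hxP, hxQ⟩ := Subgroup.mem_inf.1 hx
  rw [hg, Subgroup.mem_pointwise_smul_iff_inv_smul_mem] at hxP
  rw [hk, Subgroup.mem_pointwise_smul_iff_inv_smul_mem] at hxQ
  simp only [MulAut.smul_def, MulAut.conj_inv_apply] at hxP hxQ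
  -- y = g⁻¹ x g ∈ U; (g⁻¹ k)⁻¹ y (g⁻¹ k) = k⁻¹ x k ∈ U
  have h1 : g⁻¹ * x * g ≠ 1 := by
    intro h1; apply hx1
    have : x = g * (g⁻¹ * x * g) * g⁻¹ := by group
    rw [this, h1]; group
  have h2 : (g⁻¹ * k)⁻¹ * (g⁻¹ * x * g) * (g⁻¹ * k) ∈ U2 F := by
    have e : (g⁻¹ * k)⁻¹ * (g⁻¹ * x * g) * (g⁻¹ * k) = k⁻¹ * x * k := by group
    rw [e]; exact hxQ
  have h3 := mem_normalizer_U2.2 (lower_eq_zero hxP h1 h2)
  apply Sylow.ext
  rw [hg, hk]
  have h4 : MulAut.conj k • U2 F = MulAut.conj g • (MulAut.conj (g⁻¹ * k) • U2 F) := by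
    rw [smul_smul, ← map_mul]; congr 2; group
  rw [h4]
  congr 1
  ext y
  rw [Subgroup.mem_pointwise_smul_iff_inv_smul_mem]
  simp only [MulAut.smul_def, MulAut.conj_inv_apply]
  rw [Subgroup.mem_normalizer_iff''] at h3
  exact h3 y

theorem card_centralizer_unip (P : Sylow p (GL (Fin 2) F)) (a : GL (Fin 2) F) (ha : a ∈ P) (ha1 : a ≠ 1) :
    Nat.card (Subgroup.centralizer ({a} : Set (GL (Fin 2) F))) = Fintype.card F * (Fintype.card F - 1) := by
  classical
  obtain ⟨g, hg⟩ := exists_eq_conj_U2 p P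
  have haP : a ∈ (P : Subgroup (GL (Fin 2) F)) := ha
  rw [hg, Subgroup.mem_pointwise_smul_iff_inv_smul_mem] at haP
  simp only [MulAut.smul_def, MulAut.conj_inv_apply] at haP
  obtain ⟨u, hu⟩ : ∃ u, u = g⁻¹ * a * g := ⟨_, rfl⟩
  have hu1 : u ≠ 1 := by
    rw [hu]
    intro h1; apply ha1
    have : a = g * (g⁻¹ * a * g) * g⁻¹ := by group
    rw [this, h1]; group
  rw [← hu] at haP
  have hau : a = g * u * g⁻¹ := by rw [hu]; group
  have e1 : Subgroup.centralizer ({a} : Set (GL (Fin 2) F)) ≃ {y : GL (Fin 2) F // y * u = u * y} := by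
    refine Equiv.subtypeEquiv (MulAut.conj g⁻¹).toEquiv ?_
    intro y
    rw [Subgroup.mem_centralizer_singleton_iff]
    simp only [MulEquiv.toEquiv_eq_coe, EquivLike.coe_coe, MulAut.conj_apply, inv_inv]
    rw [hau]
    constructor
    · intro h
      have h' : g⁻¹ * (y * (g * u * g⁻¹)) * g = g⁻¹ * (g * u * g⁻¹ * y) * g := by rw [h]
      calc g⁻¹ * y * g * u = g⁻¹ * (y * (g * u * g⁻¹)) * g := by group
        _ = _ := h'
        _ = u * (g⁻¹ * y * g) := by group
    · intro h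
      calc y * (g * u * g⁻¹) = g * (g⁻¹ * y * g * u) * g⁻¹ := by group
        _ = g * (u * (g⁻¹ * y * g)) * g⁻¹ := by rw [h]
        _ = _ := by group
  rw [Nat.card_congr e1]
  rw [eq_ub haP] at hu1 ⊢
  generalize (u : Matrix (Fin 2) (Fin 2) F) 0 1 = b at hu1 ⊢
  have hb : b ≠ 0 := by
    rintro rfl
    apply hu1
    apply gl_ext
    rw [coe_ub]
    ext i j
    fin_cases i <;> fin_cases j <;> simp
  have key : ∀ y : GL (Fin 2) F, y * ub b = ub b * y ↔
      (y : Matrix (Fin 2) (Fin 2) F) 1 0 = 0 ∧ (y : Matrix (Fin 2) (Fin 2) F) 0 0 = (y : Matrix (Fin 2) (Fin 2) F) 1 1 := by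
    intro y
    constructor
    · intro h
      have h00 := congrArg (fun y : GL (Fin 2) F => (y : Matrix (Fin 2) (Fin 2) F) 0 0) h
      have h01 := congrArg (fun y : GL (Fin 2) F => (y : Matrix (Fin 2) (Fin 2) F) 0 1) h
      simp only [Units.val_mul, coe_ub, Matrix.mul_apply, Fin.sum_univ_two] at h00 h01
      simp at h00 h01
      refine ⟨h00.resolve_left hb, ?_⟩
      have : b * ((y : Matrix (Fin 2) (Fin 2) F) 0 0 - (y : Matrix (Fin 2) (Fin 2) F) 1 1) = 0 := by
        linear_combination h01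
      exact sub_eq_zero.1 ((mul_eq_zero.1 this).resolve_left hb)
    · rintro ⟨h1, h2⟩
      apply gl_ext
      simp only [Units.val_mul, coe_ub]
      ext i j
      simp only [Matrix.mul_apply, Fin.sum_univ_two]
      fin_cases i <;> fin_cases j <;> simp [h1, h2]
      ring
  have e2 : {y : GL (Fin 2) F // y * ub b = ub b * y} ≃ F × Fˣ := by
    refine ⟨fun g => ⟨((g : GL (Fin 2) F) : Matrix (Fin 2) (Fin 2) F) 0 1,
      Units.mk0 (((g : GL (Fin 2) F) : Matrix (Fin 2) (Fin 2) F) 1 1) ?_⟩,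
      fun x => ⟨Matrix.GeneralLinearGroup.mkOfDetNeZero !![(x.2 : F), x.1; 0, (x.2 : F)] ?_, ?_⟩, ?_, ?_⟩
    · have hdet : ((g : GL (Fin 2) F) : Matrix (Fin 2) (Fin 2) F).det ≠ 0 := Matrix.GeneralLinearGroup.det_ne_zero _
      rw [Matrix.det_fin_two, ((key g).1 g.2).1, mul_zero, sub_zero] at hdet
      exact right_ne_zero_of_mul hdet
    · simp
    · rw [key]
      show (!![(x.2 : F), x.1; 0, (x.2 : F)] : Matrix (Fin 2) (Fin 2) F) 1 0 = 0 ∧ (!![(x.2 : F), x.1; 0, (x.2 : F)] : Matrix (Fin 2) (Fin 2) F) 0 0 = (!![(x.2 : F), x.1; 0, (x.2 : F)] : Matrix (Fin 2) (Fin 2) F) 1 1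
      simp
    · intro g
      apply Subtype.ext
      apply gl_ext
      show (!![_, _; 0, _] : Matrix (Fin 2) (Fin 2) F) = _
      have := (key g).1 g.2
      ext i j
      fin_cases i <;> fin_cases j <;> simp [this]
    · intro x
      rcases x with ⟨a, b⟩
      simp only [Prod.mk.injEq]
      refine ⟨?_, ?_⟩
      · show (!![(b : F), a; 0, (b : F)] : Matrix (Fin 2) (Fin 2) F) 0 1 = a; simp
      · ext; show (!![(b : F), a; 0, (b : F)] : Matrix (Fin 2) (Fin 2) F) 1 1 = b; simp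
  rw [Nat.card_congr e2, Nat.card_prod, Nat.card_eq_fintype_card, Nat.card_eq_fintype_card,
    Fintype.card_units]

end

end Cfsg.Agent.H22
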