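import Cfsg.Agent.LibH22Spin4

set_option autoImplicit false

/-! Centre of `Ω`, order of `PΩ` (seat helper22). -/

namespace Cfsg.Agent.H22

open Module MulAction

section center
variable {F V : Type*} [Field F] [AddCommGroup V] [Module F V] [FiniteDimensional F V] {Q : QuadraticForm F V}
variable {e f e' f' u : V}

/-- vectors fixed by a whole root group -/
lemma fix_root (hQ : (QuadraticMap.polarBilin Q).Nondegenerate) (v : V) (hv : Q v = 0) (hv0 : v ≠ 0)
    (hw : ∃ w, QuadraticMap.polar Q v w = 0 ∧ w ∉ Submodule.span F {v}) (x : V)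
    (hx : ∀ w (h : QuadraticMap.polar Q v w = 0), (oEich Q v w hv h).1 x = x) : ∃ a : F, x = a • v := by
  have h0 : ∀ w (h : QuadraticMap.polar Q v w = 0), QuadraticMap.polar Q v x • w - QuadraticMap.polar Q w x • v - (Q w * QuadraticMap.polar Q v x) • v = 0 := by
    intro w h
    have h1 := hx w h
    rw [oEich_apply] at h1
    have h2 : x + (QuadraticMap.polar Q v x • w - QuadraticMap.polar Q w x • v - (Q w * QuadraticMap.polar Q v x) • v) =
        x + QuadraticMap.polar Q v x • w - QuadraticMap.polar Q w x • v - (Q w * QuadraticMap.polar Q v x) • v := by abel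
    exact add_eq_left.1 (h2.trans h1)
  have hvx : QuadraticMap.polar Q v x = 0 := by
    by_contra hne
    obtain ⟨w, hw1, hw2⟩ := hw
    apply hw2
    have h3 := h0 w hw1
    rw [Submodule.mem_span_singleton]
    refine ⟨(QuadraticMap.polar Q v x)⁻¹ * (QuadraticMap.polar Q w x + Q w * QuadraticMap.polar Q v x), ?_⟩
    have h4 : QuadraticMap.polar Q v x • w = (QuadraticMap.polar Q w x + Q w * QuadraticMap.polar Q v x) • v := by
      rw [add_smul]
      rw [sub_sub, sub_eq_zero] at h3
      exact h3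
    rw [mul_smul, ← h4, smul_smul, inv_mul_cancel₀ hne, one_smul]
  have hwx : ∀ w, QuadraticMap.polar Q v w = 0 → QuadraticMap.polar Q w x = 0 := by
    intro w hw
    have h3 := h0 w hw
    rw [hvx, zero_smul, mul_zero, zero_smul, sub_zero, zero_sub, neg_eq_zero] at h3
    exact (smul_eq_zero.1 h3).resolve_right hv0
  have hR : (QuadraticMap.polarBilin Q).IsRefl := polar_isSymm.isRefl
  have h5 : x ∈ Submodule.span F {v} := by
    rw [← LinearMap.BilinForm.orthogonal_orthogonal hQ hR (Submodule.span F {v}), LinearMap.BilinForm.mem_orthogonal_iff]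
    intro w hw
    rw [LinearMap.BilinForm.mem_orthogonal_iff] at hw
    exact hwx w (hw v (Submodule.mem_span_singleton_self v))
  obtain ⟨a, ha⟩ := Submodule.mem_span_singleton.1 h5
  exact ⟨a, ha.symm⟩

lemma HS.not_mem_span (hs : HS Q e f e' f' u) (hQ : (QuadraticMap.polarBilin Q).Nondegenerate) (v : V) (hv : Q v = 0) (hv0 : v ≠ 0) :
    ∃ w, QuadraticMap.polar Q v w = 0 ∧ w ∉ Submodule.span F {v} := by
  obtain ⟨g, _, hg⟩ := hs.trans hQ e v hs.h1.ne hv0 (by rw [hs.h1.1, hv])
  refine ⟨g.1 e', ?_, ?_⟩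
  · rw [← hg, og_polar]; exact hs.ee'
  · rw [Submodule.mem_span_singleton]
    rintro ⟨a, ha⟩
    rw [← hg, ← map_smul] at ha
    have h1 : a • e = e' := g.1.injective ha
    have h2 := hs.h2.2.2
    rw [← h1, QuadraticMap.polar_smul_left, hs.ef', smul_zero] at h2
    exact zero_ne_one h2

/-- central elements are scalar -/
theorem HS.center_scalar (hs : HS Q e f e' f' u) (hQ : (QuadraticMap.polarBilin Q).Nondegenerate) (g : EG Q)
    (hg : g ∈ Subgroup.center (EG Q)) : ∃ a : F, a * a = 1 ∧ ∀ x, g.1.1 x = a • x := by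
  obtain ⟨a, ha⟩ := hs.scalar_of_fix hQ g.1 (by
    intro v hv hqv
    apply fix_root hQ v hqv hv (hs.not_mem_span hQ v hqv hv)
    intro w h
    have h1 := Subgroup.mem_center_iff.1 hg ⟨oEich Q v w hqv h, oEich_mem _ _ _ _⟩
    have h2 : (oEich Q v w hqv h).1 (g.1.1 v) = g.1.1 ((oEich Q v w hqv h).1 v) := by
      have := congrArg (fun x : EG Q => x.1.1 v) h1
      exact this
    rw [h2]
    congr 1
    have hvv : QuadraticMap.polar Q v v = 0 := by rw [pself, hqv, mul_zero]
    rw [oEich_apply, hvv, QuadraticMap.polar_comm Q w v, h]; simp)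
  refine ⟨a, ?_, ha⟩
  have h3 := og_Q g.1 u
  rw [ha, qsmul] at h3
  exact mul_right_cancel₀ hs.qu (by rw [h3, one_mul])

theorem HS.card_center_even (hs : HS Q e f e' f' u) (hQ : (QuadraticMap.polarBilin Q).Nondegenerate) (h2 : (2 : F) = 0) :
    Nat.card (Subgroup.center (EG Q)) = 1 := by
  rw [Nat.card_eq_one_iff_unique]
  refine ⟨⟨fun a b => ?_⟩, ⟨1⟩⟩
  have key : ∀ a : Subgroup.center (EG Q), a = 1 := by
    intro a
    obtain ⟨c, hc, hx⟩ := hs.center_scalar hQ a.1 a.2
    have hc1 : c = 1 := by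
      have : (c - 1) * (c - 1) = 0 := by linear_combination hc + (1 - c) * h2
      exact sub_eq_zero.1 (mul_self_eq_zero.1 this)
    apply Subtype.ext
    apply Subtype.ext
    apply og_ext
    intro x
    rw [hx, hc1, one_smul]; rfl
  rw [key a, key b]

theorem HS.card_center_odd (hs : HS Q e f e' f' u) (hQ : (QuadraticMap.polarBilin Q).Nondegenerate) (h2 : (2 : F) ≠ 0)
    (g₀ : OGrp Q) (hg₀ : ∀ x, g₀.1 x = -x) :
    (g₀ ∈ EG Q → Nat.card (Subgroup.center (EG Q)) = 2) ∧ (g₀ ∉ EG Q → Nat.card (Subgroup.center (EG Q)) = 1) := by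
  have key : ∀ a : Subgroup.center (EG Q), a = 1 ∨ a.1.1 = g₀ := by
    intro a
    obtain ⟨c, hc, hx⟩ := hs.center_scalar hQ a.1 a.2
    have hc1 : (c - 1) * (c + 1) = 0 := by linear_combination hc
    rcases mul_eq_zero.1 hc1 with h | h
    · left
      have hc1 : c = 1 := sub_eq_zero.1 h
      apply Subtype.ext
      apply Subtype.ext
      apply og_ext
      intro x
      rw [hx, hc1, one_smul]; rfl
    · right
      have hc1 : c = -1 := by linear_combination h
      apply og_ext
      intro x
      rw [hx, hc1, hg₀, neg_one_smul]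
  constructor
  · intro hg
    have hcen : (⟨g₀, hg⟩ : EG Q) ∈ Subgroup.center (EG Q) := by
      rw [Subgroup.mem_center_iff]
      intro k
      apply Subtype.ext
      apply og_ext
      intro x
      show k.1.1 (g₀.1 x) = g₀.1 (k.1.1 x)
      rw [hg₀, hg₀, map_neg]
    have hne : (⟨⟨g₀, hg⟩, hcen⟩ : Subgroup.center (EG Q)) ≠ 1 := by
      intro h
      have h3 : g₀.1 u = u := by
        have := congrArg (fun x : Subgroup.center (EG Q) => x.1.1.1 u) h
        exact this
      rw [hg₀] at h3
      exact (ne_zero_of_Q hs.qu) (by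
        have h4 : (2 : F) • u = 0 := by
          rw [two_smul]; nth_rewrite 1 [← h3]; rw [neg_add_cancel]
        exact (smul_eq_zero.1 h4).resolve_left h2)
    classical
    have e : Subgroup.center (EG Q) ≃ Bool := by
      refine ⟨fun a => if a = 1 then true else false, fun b => if b then 1 else ⟨⟨g₀, hg⟩, hcen⟩, ?_, ?_⟩
      · intro a
        rcases key a with h | h
        · simp [h]
        · have h5 : a = ⟨⟨g₀, hg⟩, hcen⟩ := Subtype.ext (Subtype.ext h)
          rw [h5]
          simp [hne]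
      · intro b
        cases b
        · simp [hne]
        · simp
    rw [Nat.card_congr e]
    simp
  · intro hg
    rw [Nat.card_eq_one_iff_unique]
    refine ⟨⟨fun a b => ?_⟩, ⟨1⟩⟩
    have key2 : ∀ a : Subgroup.center (EG Q), a = 1 := by
      intro a
      rcases key a with h | h
      · exact h
      · exact absurd (h ▸ a.1.2) hg
    rw [key2 a, key2 b]

end center

section order
variable {F : Type*} [Field F] [Fintype F] {ι : Type} [Fintype ι] [DecidableEq ι] {Q : QuadraticForm F (ι → F)} {e f e' f' u : ι → F}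

lemma card_pomega (hQ : (QuadraticMap.polarBilin Q).Nondegenerate) (hs : HS Q e f e' f' u)
    (hF : (∃ a : F, a ≠ 0 ∧ a ≠ 1) ∨ finrank F (ι → F) ≠ 4) :
    Nat.card (Cfsg.POmega F ⇑Q) * Nat.card (Subgroup.center (EG Q)) * (commutator (OGrp Q)).index = Nat.card (OGrp Q) := by
  have e1 : Cfsg.Omega F ⇑Q ≃* EG Q := (omegaIso Q).trans (MulEquiv.subgroupCongr (hs.commutator_eq hQ hF))
  rw [Nat.card_congr (quotCenterCongr e1).toEquiv, ← Subgroup.card_eq_card_quotient_mul_card_subgroup, hs.commutator_eq hQ hF,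
    Subgroup.card_mul_index]

end order

end Cfsg.Agent.H22
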