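import Cfsg.Agent.LibH22Wr2
import Cfsg.Agent.LibH22SL2

/-! The Sylow 2-subgroup of `Sp_2n(q)`, `q` odd (seat helper22). -/

namespace CfsgLib.H22Wr

open Equiv Subgroup Cfsg.Agent.H22 Module

/-- the exponent -/
def vq (q : ℕ) : ℕ := padicValNat 2 (q + 1) + padicValNat 2 (q - 1)

section
variable {q : ℕ} (hq : Odd q) (h1 : 1 < q)
include hq h1

theorem val_sq (i : ℕ) : padicValNat 2 (q ^ (2 * (i + 1)) - 1) = vq q + padicValNat 2 (i + 1) := by
  have : Fact (Nat.Prime 2) := ⟨Nat.prime_two⟩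
  have h := padicValNat.pow_two_sub_pow (x := q) (y := 1) h1 (by obtain ⟨r, hr⟩ := hq; exact ⟨r, by omega⟩)
    (by obtain ⟨r, hr⟩ := hq; omega) (n := 2 * (i + 1)) (by omega) ⟨i + 1, by ring⟩
  rw [one_pow, padicValNat.mul (by norm_num) (by omega), padicValNat.self (by norm_num)] at h
  unfold vq
  omega

theorem val_prod (n : ℕ) : padicValNat 2 (∏ i ∈ Finset.range n, (q ^ (2 * (i + 1)) - 1)) = n * vq q + padicValNat 2 n.factorial := by
  have : Fact (Nat.Prime 2) := ⟨Nat.prime_two⟩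
  have hpos : ∀ i, q ^ (2 * (i + 1)) - 1 ≠ 0 := fun i => by
    have : 1 < q ^ (2 * (i + 1)) := Nat.one_lt_pow (by omega) h1
    omega
  induction n with
  | zero => simp
  | succ n ih =>
    rw [Finset.prod_range_succ, padicValNat.mul (Finset.prod_ne_zero_iff.2 fun i _ => hpos i) (hpos n), ih, val_sq hq h1,
      Nat.factorial_succ, padicValNat.mul (by omega) (Nat.factorial_ne_zero n)]
    ring

theorem val_pow (m : ℕ) : padicValNat 2 (q ^ m) = 0 := by
  apply padicValNat.eq_zero_of_not_dvd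
  rw [Nat.two_dvd_ne_zero, ← Nat.odd_iff]
  exact hq.pow

end

/-- a subgroup of the right order is a Sylow subgroup -/
theorem sylow_of_card {G : Type*} [Group G] [Finite G] (H : Subgroup G) (h : Nat.card H = 2 ^ padicValNat 2 (Nat.card G)) :
    IsPGroup 2 H ∧ ¬ 2 ∣ H.index := by
  have : Fact (Nat.Prime 2) := ⟨Nat.prime_two⟩
  refine ⟨IsPGroup.of_card h, ?_⟩
  intro hd
  have h1 := H.card_mul_index
  rw [h] at h1
  have h2 : 2 ^ (padicValNat 2 (Nat.card G) + 1) ∣ Nat.card G := by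
    rw [pow_succ]
    conv_rhs => rw [← h1]
    exact mul_dvd_mul_left _ hd
  have := (padicValNat_dvd_iff_le Nat.card_pos.ne').mp h2
  omega

variable {F : Type*} [Field F]

theorem card_sylow [Fintype F] (hF : Odd (Fintype.card F)) (P : Sylow 2 (Matrix.SpecialLinearGroup (Fin 2) F)) :
    Nat.card (P : Subgroup (Matrix.SpecialLinearGroup (Fin 2) F)) = 2 ^ vq (Fintype.card F) := by
  have : Fact (Nat.Prime 2) := ⟨Nat.prime_two⟩
  have h1 : 1 < Fintype.card F := Fintype.one_lt_card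
  rw [P.card_eq_multiplicity, card_SL2]
  congr 1
  rw [Nat.factorization_def _ Nat.prime_two]
  have hpos : 0 < Fintype.card F - 1 := by omega
  have hz : padicValNat 2 (Fintype.card F) = 0 := by
    have := val_pow hF h1 1
    rwa [pow_one] at this
  rw [padicValNat.mul (by omega) (mul_ne_zero hpos.ne' (by omega)), padicValNat.mul hpos.ne' (by omega), hz, zero_add, vq, add_comm]

theorem W_sylow [Fintype F] (hF : Odd (Fintype.card F)) (n : ℕ) (P : Sylow 2 (Matrix.SpecialLinearGroup (Fin 2) F))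
    (T : Subgroup (Perm (Fin n))) (hT : Nat.card T = 2 ^ padicValNat 2 n.factorial) :
    IsPGroup 2 (W (wr_sp F n) P T) ∧ ¬ 2 ∣ (W (wr_sp F n) P T).index := by
  have : Fact (Nat.Prime 2) := ⟨Nat.prime_two⟩
  have h1 : 1 < Fintype.card F := Fintype.one_lt_card
  obtain ⟨e⟩ := nonempty_sp F n
  haveI : Finite (Iso (fV F n)) := Finite.of_equiv _ e.toEquiv
  apply sylow_of_card
  rw [card_W, card_sylow hF, hT, ← Nat.card_congr e.toEquiv, card_sp, padicValNat.mul, val_pow hF h1, val_prod hF h1, ← pow_mul, ← pow_add]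
  · congr 1; ring
  · exact pow_ne_zero _ (by omega)
  · exact Finset.prod_ne_zero_iff.2 fun i _ => by
      have : 1 < Fintype.card F ^ (2 * (i + 1)) := Nat.one_lt_pow (by omega) h1
      omega

end CfsgLib.H22Wr
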