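import Cfsg.Statements.S0262
import Mathlib
import Mathlib
import Cfsg.Agent.LibDkU29

set_option autoImplicit false
open Cfsg

namespace Cfsg.Agent.S0262

open CfsgLib.Dk29 MulAction OnePoint

/-- For an odd prime r different from the characteristic, the Sylow r-subgroups of SL_2(q) are cyclic. -/
theorem result {F : Type*} [Field F] [Fintype F] (p : ℕ) [Fact p.Prime] [CharP F p] (r : ℕ) [Fact r.Prime] (hr : r ≠ 2) (hrp : r ≠ p) (R : Sylow r (Matrix.SpecialLinearGroup (Fin 2) F)) : IsCyclic (R : Subgroup (Matrix.SpecialLinearGroup (Fin 2) F)) := by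
  classical
  have hrp' : r.Prime := Fact.out
  obtain ⟨a, ha⟩ := R.2.exists_card_eq
  have hodd : Odd (Nat.card R) := by
    rw [ha]; exact (hrp'.odd_of_ne_two hr).pow
  have hord : ∀ x : R, x * x = 1 → x = 1 := by
    intro x hx
    have h1 : orderOf x ∣ 2 := orderOf_dvd_of_pow_eq_one (by rw [pow_two]; exact hx)
    have h2 : orderOf x ∣ Nat.card R := orderOf_dvd_natCard x
    rcases (Nat.dvd_prime Nat.prime_two).mp h1 with h | h
    · rwa [orderOf_eq_one_iff] at h
    · exfalso
      rw [h] at h2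
      exact (Nat.not_even_iff_odd.mpr hodd) (even_iff_two_dvd.mpr h2)
  let f : R →* Matrix.ProjGenLinGroup (Fin 2) F := (Matrix.ProjectiveSpecialLinearGroup.toPGL.comp (QuotientGroup.mk' (Subgroup.center (Matrix.SpecialLinearGroup (Fin 2) F)))).comp (R : Subgroup (Matrix.SpecialLinearGroup (Fin 2) F)).subtype
  have hf : Function.Injective f := by
    rw [injective_iff_map_eq_one]
    intro x hx
    have h1 : QuotientGroup.mk' (Subgroup.center (Matrix.SpecialLinearGroup (Fin 2) F)) (x : Matrix.SpecialLinearGroup (Fin 2) F) = 1 :=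
      Matrix.ProjectiveSpecialLinearGroup.toPGL_injective (hx.trans (map_one _).symm)
    have h2 : (x : Matrix.SpecialLinearGroup (Fin 2) F) ∈ Subgroup.center (Matrix.SpecialLinearGroup (Fin 2) F) := by
      rw [← QuotientGroup.eq_one_iff]; exact h1
    rw [CfsgLib.Fus21.PSL2.mem_center] at h2
    apply hord
    apply Subtype.ext
    apply Subtype.ext
    show ((x : Matrix.SpecialLinearGroup (Fin 2) F) : Matrix (Fin 2) (Fin 2) F) * ((x : Matrix.SpecialLinearGroup (Fin 2) F) : Matrix (Fin 2) (Fin 2) F) = 1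
    rcases h2 with h2 | h2
    · rw [h2, mul_one]
    · rw [h2, neg_mul_neg, mul_one]
  have hev : ∀ n : ℕ, Even n → Nat.card R ≠ n := by
    rintro n hn rfl
    exact (Nat.not_even_iff_odd.mpr hodd) hn
  rcases dickson_gen f hf 1 (Or.inl rfl) with ⟨h, -⟩ | ⟨n, hn2, -, ⟨e⟩⟩ | ⟨x, hx⟩ | ⟨⟨e⟩⟩ | ⟨⟨e⟩⟩ | ⟨⟨e⟩⟩ | ⟨k, hk, -, hck⟩
  · exact h
  · exact absurd ((Nat.card_congr e.toEquiv).trans DihedralGroup.nat_card) (hev _ ⟨n, by ring⟩)
  · let K := AlgebraicClosure F
    haveI : CharP K p := charP_of_injective_algebraMap (algebraMap F K).injective p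
    letI : MulAction R (OnePoint K) := MulAction.compHom _ ((Matrix.ProjGenLinGroup.map (algebraMap F K)).comp f)
    let M : Mob R (OnePoint K) K := (mob (K := K)).comp ((Matrix.ProjGenLinGroup.map (algebraMap F K)).comp f) ((map_injective' (algebraMap F K)).comp hf)
    let x' : OnePoint K := OnePoint.map (algebraMap F K) x
    have hst : stabilizer R x' = ⊤ := by
      rw [eq_top_iff]
      intro g _
      show Matrix.ProjGenLinGroup.map (algebraMap F K) (f g) • OnePoint.map (algebraMap F K) x = OnePoint.map (algebraMap F K) x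
      rw [← map_smul', hx g]
    have hU : M.U x' = ⊥ := by
      rw [Subgroup.eq_bot_iff_forall]
      intro u hu
      have h1 := (M.mem_U x' u).mp hu
      have h2 := pow_char p (Matrix.ProjGenLinGroup.map (algebraMap F K) (f u)) x' h1.1 h1.2
      have h3 : u ^ p = 1 := by
        apply hf
        apply map_injective' (algebraMap F K)
        rw [map_pow, map_pow, h2, map_one, map_one]
      have h4 : orderOf u ∣ p := orderOf_dvd_of_pow_eq_one h3
      have h5 : orderOf u ∣ r ^ a := ha ▸ orderOf_dvd_natCard u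
      have h6 : Nat.Coprime p (r ^ a) := Nat.Coprime.pow_right _ ((Nat.coprime_primes Fact.out hrp').mpr (Ne.symm hrp))
      have h7 := Nat.dvd_gcd h4 h5
      rw [h6, Nat.dvd_one, orderOf_eq_one_iff] at h7
      exact h7
    haveI := M.cyclic_stab x' hU
    rw [hst] at this
    exact isCyclic_of_surjective (Subgroup.topEquiv (G := R)) (Subgroup.topEquiv (G := R)).surjective
  · exact absurd ((Nat.card_congr e.toEquiv).trans card_a4) (hev _ ⟨6, rfl⟩)
  · exact absurd ((Nat.card_congr e.toEquiv).trans card_s4) (hev _ ⟨12, rfl⟩)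
  · exact absurd ((Nat.card_congr e.toEquiv).trans card_a5) (hev _ ⟨30, rfl⟩)
  · exfalso
    rcases hck with h | ⟨h', h⟩
    · refine hev _ ?_ h
      rcases Nat.even_or_odd (Nat.card k) with h | h
      · exact h.mul_right _
      · exact Even.mul_left ((h.add_odd odd_one).mul_left _) _
    · obtain ⟨c, hc⟩ := h'
      rw [hc] at h
      obtain ⟨d, hd⟩ := Nat.even_mul_succ_self c
      have h2 : (2 * c + 1) * ((2 * c + 1 - 1) * (2 * c + 1 + 1)) = 2 * (2 * ((2 * c + 1) * (c * (c + 1)))) := by
        rw [Nat.add_sub_cancel]; ring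
      rw [h2] at h
      have h3 : Nat.card R = 2 * ((2 * c + 1) * (c * (c + 1))) := Nat.eq_of_mul_eq_mul_left (by norm_num) h
      exact hev _ ⟨(2 * c + 1) * (c * (c + 1)), by ring⟩ h3

end Cfsg.Agent.S0262
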