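import Cfsg.Agent.LibTorA

set_option autoImplicit false

/-! split and nonsplit tori of SL_2(q), q odd (helper1) -/

namespace CfsgLib.Tor

open Finset Matrix CfsgLib.G2B CfsgLib.G2C

section

variable {F : Type*} [Field F]

/-- the split torus -/
def JS (F : Type*) [Field F] : Matrix (Fin 2) (Fin 2) F := !![1, 0; 0, -1]

/-- nonsplit -/
def JN {F : Type*} [Field F] (ν : F) : Matrix (Fin 2) (Fin 2) F := !![0, ν; 1, 0]

theorem JS_t : (JS F) 1 1 = - (JS F) 0 0 := by simp [JS]
theorem JS_d : (JS F).det ≠ 0 := by simp [JS, Matrix.det_fin_two]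
theorem JN_t (ν : F) : (JN ν) 1 1 = - (JN ν) 0 0 := by simp [JN]
theorem JN_d {ν : F} (h : ν ≠ 0) : (JN ν).det ≠ 0 := by simpa [JN, Matrix.det_fin_two] using h

theorem mem_TS (h2 : (2 : F) ≠ 0) (g : SpecialLinearGroup (Fin 2) F) :
    g ∈ TJ (JS F) ↔ ((g : Matrix (Fin 2) (Fin 2) F) 0 1 = 0 ∧ (g : Matrix (Fin 2) (Fin 2) F) 1 0 = 0) := by
  rw [mem_TJ]
  constructor
  · intro h
    have e01 := congrFun (congrFun h 0) 1
    have e10 := congrFun (congrFun h 1) 0
    simp [Matrix.mul_apply, Fin.sum_univ_two, JS] at e01 e10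
    constructor
    · have : 2 * (g : Matrix (Fin 2) (Fin 2) F) 0 1 = 0 := by linear_combination -e01
      exact (mul_eq_zero.mp this).resolve_left h2
    · have : 2 * (g : Matrix (Fin 2) (Fin 2) F) 1 0 = 0 := by linear_combination e10
      exact (mul_eq_zero.mp this).resolve_left h2
  · rintro ⟨h01, h10⟩
    apply ext2 <;> simp [Matrix.mul_apply, Fin.sum_univ_two, JS, h01, h10]

theorem mem_TN {ν : F} (g : SpecialLinearGroup (Fin 2) F) :
    g ∈ TJ (JN ν) ↔ ((g : Matrix (Fin 2) (Fin 2) F) 0 0 = (g : Matrix (Fin 2) (Fin 2) F) 1 1 ∧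
      (g : Matrix (Fin 2) (Fin 2) F) 0 1 = ν * (g : Matrix (Fin 2) (Fin 2) F) 1 0) := by
  rw [mem_TJ]
  constructor
  · intro h
    have e00 := congrFun (congrFun h 0) 0
    have e10 := congrFun (congrFun h 1) 0
    simp [Matrix.mul_apply, Fin.sum_univ_two, JN] at e00 e10
    exact ⟨e10.symm, e00⟩
  · rintro ⟨h00, h01⟩
    apply ext2 <;> simp [Matrix.mul_apply, Fin.sum_univ_two, JN, h00, h01, mul_comm]

/-- units and the split torus -/
def eqTS (h2 : (2 : F) ≠ 0) : Fˣ ≃* TJ (JS F) where
  toFun a := ⟨mkSL !![(a : F), 0; 0, ((a⁻¹ : Fˣ) : F)] (by rw [Matrix.det_fin_two_of]; simp), by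
    rw [mem_TS h2]; exact ⟨rfl, rfl⟩⟩
  invFun g := ⟨(g : SpecialLinearGroup (Fin 2) F).1 0 0, (g : SpecialLinearGroup (Fin 2) F).1 1 1, by
    have h := (mem_TS h2 _).mp g.2
    have hd := (g : SpecialLinearGroup (Fin 2) F).2
    rw [Matrix.det_fin_two, h.1, zero_mul, sub_zero] at hd
    exact hd, by
    have h := (mem_TS h2 _).mp g.2
    have hd := (g : SpecialLinearGroup (Fin 2) F).2
    rw [Matrix.det_fin_two, h.1, zero_mul, sub_zero, mul_comm] at hd
    exact hd⟩
  left_inv a := by
    apply Units.ext; rfl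
  right_inv g := by
    apply Subtype.ext
    apply Subtype.ext
    have h := (mem_TS h2 _).mp g.2
    apply ext2
    · rfl
    · exact h.1.symm
    · exact h.2.symm
    · rfl
  map_mul' a b := by
    apply Subtype.ext
    apply Subtype.ext
    show (!![((a * b : Fˣ) : F), 0; 0, (((a * b)⁻¹ : Fˣ) : F)] : Matrix (Fin 2) (Fin 2) F) =
      !![(a : F), 0; 0, ((a⁻¹ : Fˣ) : F)] * !![(b : F), 0; 0, ((b⁻¹ : Fˣ) : F)]
    apply ext2
    · simp
    · simp
    · simp
    · simp [mul_comm]

theorem card_TS [Fintype F] (h2 : (2 : F) ≠ 0) : Nat.card (TJ (JS F)) = Fintype.card F - 1 := by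
  rw [← Nat.card_congr (eqTS h2).toEquiv, Nat.card_units, Nat.card_eq_fintype_card]

theorem cyc_TS [Finite F] (h2 : (2 : F) ≠ 0) : IsCyclic (TJ (JS F)) :=
  isCyclic_of_surjective (eqTS h2) (eqTS h2).surjective

/-- the Weyl element -/
theorem w_TS : ((mkSL !![0, 1; -1, 0] (by rw [Matrix.det_fin_two_of]; ring) : SpecialLinearGroup (Fin 2) F) : Matrix (Fin 2) (Fin 2) F) * JS F =
    -(JS F * (mkSL !![0, 1; -1, 0] (by rw [Matrix.det_fin_two_of]; ring) : SpecialLinearGroup (Fin 2) F)) := by
  show (!![0, 1; -1, 0] : Matrix (Fin 2) (Fin 2) F) * JS F = -(JS F * !![0, 1; -1, 0])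
  apply ext2 <;> simp [JS]

/-! nonsplit torus -/

theorem nz {ν : F} (hν : ¬ IsSquare ν) (t : F) : 1 - ν * t ^ 2 ≠ 0 := by
  intro h
  have ht : t ≠ 0 := by
    rintro rfl
    simp at h
  apply hν
  refine ⟨t⁻¹, ?_⟩
  field_simp
  linear_combination -h

theorem card_norm_one [Fintype F] {ν : F} (h2 : (2 : F) ≠ 0) (hν : ¬ IsSquare ν) :
    Nat.card {x : F × F // x.1 ^ 2 - ν * x.2 ^ 2 = 1} = Fintype.card F + 1 := by
  classical
  let f : Option F → {x : F × F // x.1 ^ 2 - ν * x.2 ^ 2 = 1} := fun o => match o with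
    | none => ⟨(-1, 0), by norm_num⟩
    | some t => ⟨((1 + ν * t ^ 2) / (1 - ν * t ^ 2), 2 * t / (1 - ν * t ^ 2)), by
        have := nz hν t
        simp only
        field_simp
        ring⟩
  have hf : Function.Bijective f := by
    constructor
    · rintro (_ | t) (_ | t') h
      · rfl
      · exfalso
        have h1 := congrArg (fun z => z.1.1) h
        have := nz hν t'
        simp only [f] at h1
        field_simp at h1
        apply h2
        linear_combination -h1
      · exfalso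
        have h1 := congrArg (fun z => z.1.1) h
        have := nz hν t
        simp only [f] at h1
        field_simp at h1
        apply h2
        linear_combination h1
      · have h1 := congrArg (fun z => z.1.1) h
        have h3 := congrArg (fun z => z.1.2) h
        have e1 := nz hν t
        have e2 := nz hν t'
        simp only [f] at h1 h3
        have key0 : ∀ r : F, 1 - ν * r ^ 2 ≠ 0 → r = (2 * r / (1 - ν * r ^ 2)) / (1 + (1 + ν * r ^ 2) / (1 - ν * r ^ 2)) := by
          intro r hr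
          have : 1 + (1 + ν * r ^ 2) / (1 - ν * r ^ 2) = 2 / (1 - ν * r ^ 2) := by
            field_simp
            ring
          rw [this, div_div_div_cancel_right₀ hr, mul_div_cancel_left₀ _ h2]
        have key := key0 t e1
        have key' := key0 t' e2
        rw [key, h1, h3, ← key']
    · rintro ⟨⟨a, b⟩, hab⟩
      simp only at hab
      by_cases ha : a = -1
      · subst ha
        have hb : b = 0 := by
          have hν0 : ν ≠ 0 := fun h => hν (h ▸ IsSquare.zero)
          have : ν * b ^ 2 = 0 := by linear_combination -hab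
          exact pow_eq_zero_iff (two_ne_zero) |>.mp ((mul_eq_zero.mp this).resolve_left hν0)
        subst hb
        exact ⟨none, rfl⟩
      · have ha' : 1 + a ≠ 0 := fun h => ha (by linear_combination h)
        refine ⟨some (b / (1 + a)), ?_⟩
        apply Subtype.ext
        have e1 := nz hν (b / (1 + a))
        have e2 : 1 - ν * (b / (1 + a)) ^ 2 = 2 / (1 + a) := by
          field_simp
          linear_combination hab
        have e3 : 1 + ν * (b / (1 + a)) ^ 2 = 2 * a / (1 + a) := by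
          field_simp
          linear_combination -hab
        apply Prod.ext
        · show (1 + ν * (b / (1 + a)) ^ 2) / (1 - ν * (b / (1 + a)) ^ 2) = a
          rw [e2, e3]
          field_simp
        · show 2 * (b / (1 + a)) / (1 - ν * (b / (1 + a)) ^ 2) = b
          rw [e2]
          field_simp
  rw [← Nat.card_congr (Equiv.ofBijective f hf), Nat.card_eq_fintype_card, Fintype.card_option]

theorem card_TN [Fintype F] {ν : F} (h2 : (2 : F) ≠ 0) (hν : ¬ IsSquare ν) : Nat.card (TJ (JN ν)) = Fintype.card F + 1 := by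
  rw [← card_norm_one h2 hν]
  apply Nat.card_congr
  refine ⟨fun g => ⟨((g : SpecialLinearGroup (Fin 2) F).1 0 0, (g : SpecialLinearGroup (Fin 2) F).1 1 0), ?_⟩,
    fun x => ⟨mkSL !![x.1.1, ν * x.1.2; x.1.2, x.1.1] ?_, ?_⟩, ?_, ?_⟩
  · have h := mem_TN _ |>.mp g.2
    have hd := (g : SpecialLinearGroup (Fin 2) F).2
    rw [Matrix.det_fin_two] at hd
    have h1 : (g : SpecialLinearGroup (Fin 2) F).1 0 0 = (g : SpecialLinearGroup (Fin 2) F).1 1 1 := h.1
    have h3 : (g : SpecialLinearGroup (Fin 2) F).1 0 1 = ν * (g : SpecialLinearGroup (Fin 2) F).1 1 0 := h.2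
    rw [← h1, h3] at hd
    show (g : SpecialLinearGroup (Fin 2) F).1 0 0 ^ 2 - ν * (g : SpecialLinearGroup (Fin 2) F).1 1 0 ^ 2 = 1
    linear_combination hd
  · have := x.2
    rw [Matrix.det_fin_two_of]
    linear_combination this
  · rw [mem_TN]
    exact ⟨rfl, rfl⟩
  · intro g
    have h := mem_TN _ |>.mp g.2
    apply Subtype.ext
    apply Subtype.ext
    apply ext2
    · rfl
    · exact h.2.symm
    · rfl
    · exact h.1
  · intro x
    rfl

theorem cyc_TN [Finite F] {ν : F} (hν : ¬ IsSquare ν) : IsCyclic (TJ (JN ν)) := by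
  obtain ⟨s, hs⟩ := IsAlgClosed.exists_pow_nat_eq (k := AlgebraicClosure F) (algebraMap F _ ν) (n := 2) (by norm_num)
  let φ : TJ (JN ν) →* AlgebraicClosure F :=
    { toFun := fun g => algebraMap F _ ((g : SpecialLinearGroup (Fin 2) F).1 0 0) + algebraMap F _ ((g : SpecialLinearGroup (Fin 2) F).1 1 0) * s
      map_one' := by
        show algebraMap F (AlgebraicClosure F) ((1 : Matrix (Fin 2) (Fin 2) F) 0 0) + algebraMap F _ ((1 : Matrix (Fin 2) (Fin 2) F) 1 0) * s = 1
        simp
      map_mul' := by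
        intro g h
        have hg := mem_TN _ |>.mp g.2
        have hg1 : (g : SpecialLinearGroup (Fin 2) F).1 0 0 = (g : SpecialLinearGroup (Fin 2) F).1 1 1 := hg.1
        have hg3 : (g : SpecialLinearGroup (Fin 2) F).1 0 1 = ν * (g : SpecialLinearGroup (Fin 2) F).1 1 0 := hg.2
        show algebraMap F (AlgebraicClosure F) (((g : SpecialLinearGroup (Fin 2) F).1 * (h : SpecialLinearGroup (Fin 2) F).1) 0 0) +
          algebraMap F _ (((g : SpecialLinearGroup (Fin 2) F).1 * (h : SpecialLinearGroup (Fin 2) F).1) 1 0) * s = _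
        rw [Matrix.mul_apply, Matrix.mul_apply, Fin.sum_univ_two, Fin.sum_univ_two, hg3, ← hg1]
        simp only [map_add, map_mul]
        rw [← hs]
        ring }
  haveI : Finite (TJ (JN ν)) := inferInstance
  refine isCyclic_of_injective_ringHom φ ?_
  intro g h e
  have hg := mem_TN _ |>.mp g.2
  have hh := mem_TN _ |>.mp h.2
  have e' : algebraMap F (AlgebraicClosure F) ((g : SpecialLinearGroup (Fin 2) F).1 0 0) + algebraMap F _ ((g : SpecialLinearGroup (Fin 2) F).1 1 0) * s =
    algebraMap F (AlgebraicClosure F) ((h : SpecialLinearGroup (Fin 2) F).1 0 0) + algebraMap F _ ((h : SpecialLinearGroup (Fin 2) F).1 1 0) * s := e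
  have inj := (algebraMap F (AlgebraicClosure F)).injective
  have hb : (g : SpecialLinearGroup (Fin 2) F).1 1 0 = (h : SpecialLinearGroup (Fin 2) F).1 1 0 := by
    by_contra hne
    have hne' : (g : SpecialLinearGroup (Fin 2) F).1 1 0 - (h : SpecialLinearGroup (Fin 2) F).1 1 0 ≠ 0 := sub_ne_zero.mpr hne
    apply hν
    refine ⟨((h : SpecialLinearGroup (Fin 2) F).1 0 0 - (g : SpecialLinearGroup (Fin 2) F).1 0 0) / ((g : SpecialLinearGroup (Fin 2) F).1 1 0 - (h : SpecialLinearGroup (Fin 2) F).1 1 0), ?_⟩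
    apply inj
    have hne2 : algebraMap F (AlgebraicClosure F) ((g : SpecialLinearGroup (Fin 2) F).1 1 0 - (h : SpecialLinearGroup (Fin 2) F).1 1 0) ≠ 0 := by
      rw [Ne, map_eq_zero_iff _ inj]; exact hne'
    have h3 : s = algebraMap F (AlgebraicClosure F) (((h : SpecialLinearGroup (Fin 2) F).1 0 0 - (g : SpecialLinearGroup (Fin 2) F).1 0 0) / ((g : SpecialLinearGroup (Fin 2) F).1 1 0 - (h : SpecialLinearGroup (Fin 2) F).1 1 0)) := by
      rw [map_div₀, eq_div_iff hne2, map_sub, map_sub]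
      linear_combination e'
    rw [map_mul, ← h3, ← hs, sq]
  have ha : (g : SpecialLinearGroup (Fin 2) F).1 0 0 = (h : SpecialLinearGroup (Fin 2) F).1 0 0 := by
    rw [hb] at e'
    exact inj (add_right_cancel e')
  apply Subtype.ext
  apply Subtype.ext
  apply ext2
  · exact ha
  · exact hg.2.trans ((congrArg (ν * ·) hb).trans hh.2.symm)
  · exact hb
  · exact hg.1.symm.trans (ha.trans hh.1)

theorem w_TN [Fintype F] (hodd : Odd (Fintype.card F)) {ν : F} (hν : ν ≠ 0) : ∃ w : SpecialLinearGroup (Fin 2) F, (w : Matrix (Fin 2) (Fin 2) F) * JN ν = -(JN ν * w) := by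
  have h2 := two_ne_of_odd hodd
  obtain ⟨x, y, hxy⟩ := FiniteField.exists_root_sum_quadratic (R := F)
    (f := Polynomial.X ^ 2 + Polynomial.C 1) (g := Polynomial.C (-ν) * Polynomial.X ^ 2)
    (Polynomial.degree_X_pow_add_C (by norm_num) _) (by
      rw [Polynomial.degree_mul, Polynomial.degree_C (neg_ne_zero.mpr hν), Polynomial.degree_X_pow, zero_add]; rfl) (Nat.odd_iff.mp hodd)
  simp only [Polynomial.eval_add, Polynomial.eval_pow, Polynomial.eval_X, Polynomial.eval_C, Polynomial.eval_mul] at hxy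
  refine ⟨mkSL !![x, -(ν * y); y, -x] (by rw [Matrix.det_fin_two_of]; linear_combination -hxy), ?_⟩
  show (!![x, -(ν * y); y, -x] : Matrix (Fin 2) (Fin 2) F) * JN ν = -(JN ν * !![x, -(ν * y); y, -x])
  apply ext2 <;> simp [JN] <;> ring

/-- elements without eigenvectors: trace condition -/
theorem ell_disc {g : SpecialLinearGroup (Fin 2) F} (h2 : (2 : F) ≠ 0)
    (hg : ∀ (c : F) (v : Fin 2 → F), v ≠ 0 → (g : Matrix (Fin 2) (Fin 2) F).mulVec v ≠ c • v) :
    ¬ IsSquare ((g : Matrix (Fin 2) (Fin 2) F).trace ^ 2 - 4) := by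
  rintro ⟨r, hr⟩
  set A := (g : Matrix (Fin 2) (Fin 2) F) with hA
  have hd : A 0 0 * A 1 1 - A 0 1 * A 1 0 = 1 := by rw [← Matrix.det_fin_two]; exact g.2
  rw [Matrix.trace_fin_two] at hr
  -- eigenvalue
  set c := (A 0 0 + A 1 1 + r) / 2 with hc
  have hc2 : c ^ 2 - (A 0 0 + A 1 1) * c + 1 = 0 := by
    rw [hc]; field_simp; linear_combination -hr
  by_cases h10 : A 1 0 = 0
  · apply hg (A 0 0) ![1, 0] (by intro h; simpa using congrFun h 0)
    ext i
    fin_cases i <;> simp [Matrix.mulVec, dotProduct, h10]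
  · apply hg c ![c - A 1 1, A 1 0] (by intro h; exact h10 (by simpa using congrFun h 1))
    ext i
    fin_cases i
    · simp [Matrix.mulVec, dotProduct]
      linear_combination -hc2 - hd
    · simp [Matrix.mulVec, dotProduct]
      ring

end

end CfsgLib.Tor
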