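import Cfsg.Statements.S2428
import Cfsg.Agent.LibTorB

set_option autoImplicit false
open Cfsg

namespace Cfsg.Agent.S2428

open CfsgLib.Tor CfsgLib.G2B CfsgLib.G2C

/-- Let F be a finite field with q elements, q odd, and let d be a diagonal element of SL₂ over F whose diagonal entry a has a² ≠ 1 (such d exist exactly when q > 3). Then the centraliser of d is precisely the diagonal subgroup T; the normaliser of T has order 2(q − 1) and exactly (q + 5)/2 conjugacy classes; and every element of that normaliser outside T has square equal to −1. -/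
theorem result {F : Type*} [Field F] [Fintype F] (hodd : Odd (Fintype.card F))
    (d : Matrix.SpecialLinearGroup (Fin 2) F) (hd01 : (d : Matrix (Fin 2) (Fin 2) F) 0 1 = 0) (hd10 : (d : Matrix (Fin 2) (Fin 2) F) 1 0 = 0) (hda : (d : Matrix (Fin 2) (Fin 2) F) 0 0 ^ 2 ≠ 1) :
    (∀ g : Matrix.SpecialLinearGroup (Fin 2) F, g ∈ Subgroup.centralizer ({d} : Set (Matrix.SpecialLinearGroup (Fin 2) F)) ↔ ((g : Matrix (Fin 2) (Fin 2) F) 0 1 = 0 ∧ (g : Matrix (Fin 2) (Fin 2) F) 1 0 = 0)) ∧
    Nat.card (Subgroup.normalizer ((Subgroup.centralizer ({d} : Set (Matrix.SpecialLinearGroup (Fin 2) F))) : Set (Matrix.SpecialLinearGroup (Fin 2) F))) = 2 * (Fintype.card F - 1) ∧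
    Nat.card (ConjClasses (Subgroup.normalizer ((Subgroup.centralizer ({d} : Set (Matrix.SpecialLinearGroup (Fin 2) F))) : Set (Matrix.SpecialLinearGroup (Fin 2) F)))) = (Fintype.card F + 5) / 2 ∧
    ∀ g : Matrix.SpecialLinearGroup (Fin 2) F, g ∈ Subgroup.normalizer ((Subgroup.centralizer ({d} : Set (Matrix.SpecialLinearGroup (Fin 2) F))) : Set (Matrix.SpecialLinearGroup (Fin 2) F)) →
      g ∉ Subgroup.centralizer ({d} : Set (Matrix.SpecialLinearGroup (Fin 2) F)) → ((g * g) : Matrix (Fin 2) (Fin 2) F) = -1 := by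
  have h2 := two_ne_of_odd hodd
  have hd : (d : Matrix (Fin 2) (Fin 2) F) 0 0 * (d : Matrix (Fin 2) (Fin 2) F) 1 1 = 1 := by
    have := d.2
    rw [Matrix.det_fin_two, hd01, zero_mul, sub_zero] at this
    exact this
  have hdT : d ∈ TJ (JS F) := (mem_TS h2 d).mpr ⟨hd01, hd10⟩
  have hns : ¬ IsSc (d : Matrix (Fin 2) (Fin 2) F) := by
    intro h
    apply hda
    rw [sq]
    nth_rewrite 2 [h.2.2]
    exact hd
  have hcent := TJ_cent h2 JS_t JS_d hdT hns
  have hmain := tor_main h2 JS_t JS_d hdT hns w_TS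
  rw [hcent]
  have hq : 1 ≤ Fintype.card F := Fintype.card_pos
  refine ⟨fun g => mem_TS h2 g, ?_, ?_, ?_⟩
  · rw [hmain.1, card_TS h2]
  · have h3 := hmain.2.1
    rw [card_TS h2] at h3
    omega
  · intro g hg hgT
    exact hmain.2.2.1 g hg hgT

end Cfsg.Agent.S2428
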