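import Cfsg.Agent.LibTorB

set_option autoImplicit false

/-! nonsplit torus: conjugacy of elliptic elements (helper1) -/

namespace CfsgLib.Tor

open Finset Matrix CfsgLib.G2B CfsgLib.G2C

section

variable {F : Type*} [Field F]

theorem sc_cases {g : SpecialLinearGroup (Fin 2) F} (h : IsSc (g : Matrix (Fin 2) (Fin 2) F)) :
    (g : Matrix (Fin 2) (Fin 2) F) = 1 ∨ (g : Matrix (Fin 2) (Fin 2) F) = -1 := by
  have h1 := isSc_sq h g.2
  rcases sq_one_cases h1 with h5 | h5
  · left
    rw [h.eq, h5, one_smul]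
  · right
    rw [h.eq, h5, neg_smul, one_smul]

theorem exists_nonsc [Finite F] {H : Subgroup (SpecialLinearGroup (Fin 2) F)} (h : 2 < Nat.card H) :
    ∃ t ∈ H, ¬ IsSc (t : Matrix (Fin 2) (Fin 2) F) := by
  by_contra hc
  push Not at hc
  have : Nat.card H ≤ 2 := by
    let f : H → Bool := fun g => by
      classical exact if ((g : SpecialLinearGroup (Fin 2) F) : Matrix (Fin 2) (Fin 2) F) = 1 then true else false
    have hf : Function.Injective f := by
      intro a b hab
      apply Subtype.ext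
      apply Subtype.ext
      rcases sc_cases (hc a a.2) with h1 | h1 <;> rcases sc_cases (hc b b.2) with h3 | h3
      · rw [h1, h3]
      · by_cases h4 : (-1 : Matrix (Fin 2) (Fin 2) F) = 1
        · rw [h1, h3, h4]
        · exfalso
          simp only [f] at hab
          rw [if_pos h1, if_neg (by rw [h3]; exact h4)] at hab
          exact absurd hab (by decide)
      · by_cases h4 : (-1 : Matrix (Fin 2) (Fin 2) F) = 1
        · rw [h1, h3, h4]
        · exfalso
          simp only [f] at hab
          rw [if_pos h3, if_neg (by rw [h1]; exact h4)] at hab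
          exact absurd hab (by decide)
      · rw [h1, h3]
    have h5 := Nat.card_le_card_of_injective f hf
    have h6 : Nat.card Bool = 2 := by simp
    omega
  omega

theorem ell_conj [Fintype F] (hodd : Odd (Fintype.card F)) {ν : F} (hν : ¬ IsSquare ν) {g : SpecialLinearGroup (Fin 2) F}
    (hg : ∀ (c : F) (v : Fin 2 → F), v ≠ 0 → (g : Matrix (Fin 2) (Fin 2) F).mulVec v ≠ c • v) :
    ∃ h : SpecialLinearGroup (Fin 2) F, h * g * h⁻¹ ∈ TJ (JN ν) := by
  have h2 := two_ne_of_odd hodd
  have hν0 : ν ≠ 0 := fun h => hν (h ▸ IsSquare.zero)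
  have hd := ell_disc h2 hg
  set t := (g : Matrix (Fin 2) (Fin 2) F).trace with ht
  obtain ⟨r, hr⟩ := isSquare_mul_of_not hd hν
  have hr0 : r ≠ 0 := by
    rintro rfl
    rw [mul_zero] at hr
    rcases mul_eq_zero.mp hr with h | h
    · exact hd (h ▸ IsSquare.zero)
    · exact hν0 h
  have h4 : (4 : F) ≠ 0 := by
    have : (4 : F) = 2 * 2 := by norm_num
    rw [this]; exact mul_ne_zero h2 h2
  have hdet : (!![t / 2, ν * (r / (2 * ν)); r / (2 * ν), t / 2] : Matrix (Fin 2) (Fin 2) F).det = 1 := by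
    rw [Matrix.det_fin_two_of]
    field_simp
    linear_combination hr
  let k : SpecialLinearGroup (Fin 2) F := mkSL _ hdet
  have hk : k ∈ TJ (JN ν) := by
    rw [mem_TN]
    exact ⟨rfl, rfl⟩
  have hgns : ¬ IsSc (g : Matrix (Fin 2) (Fin 2) F) := by
    intro h
    apply hg ((g : Matrix (Fin 2) (Fin 2) F) 0 0) ![1, 0] (by intro h; simpa using congrFun h 0)
    rw [h.eq]
    simp
  have hkns : ¬ IsSc (k : Matrix (Fin 2) (Fin 2) F) := by
    intro h
    have : r / (2 * ν) = 0 := h.2.1
    rcases div_eq_zero_iff.mp this with h' | h'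
    · exact hr0 h'
    · exact (mul_ne_zero h2 hν0) h'
  have htr : (g : Matrix (Fin 2) (Fin 2) F).trace = (k : Matrix (Fin 2) (Fin 2) F).trace := by
    show t = (!![t / 2, ν * (r / (2 * ν)); r / (2 * ν), t / 2] : Matrix (Fin 2) (Fin 2) F).trace
    rw [Matrix.trace_fin_two_of]; field_simp; ring
  have ht4 : t ^ 2 ≠ 4 := by
    intro h
    apply hd
    rw [h, sub_self]
    exact IsSquare.zero
  have hc : IsConj g k := sl_conj hgns hkns htr (fun δ _ => form_odd hodd t δ ht4)
  obtain ⟨c, hc⟩ := isConj_iff.mp hc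
  exact ⟨c, by rw [hc]; exact hk⟩

end

end CfsgLib.Tor
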