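import Cfsg.Statements.S2429
import Cfsg.Agent.LibTorC

set_option autoImplicit false
open Cfsg

namespace Cfsg.Agent.S2429

open CfsgLib.Tor CfsgLib.G2B CfsgLib.G2C

/-- Let F be a finite field with q elements, q odd. Then SL₂ over F contains a cyclic subgroup T′ of order q + 1 (a non-split torus) with the following properties: T′ is its own centraliser, and indeed the centraliser of each element of T′ other than 1 and −1 is exactly T′; every element of SL₂ having no eigenvector in F² is conjugate to an element of T′; the normaliser of T′ has order 2(q + 1) and exactly (q + 7)/2 conjugacy classes; and every element of that normaliser outside T′ has square −1. -/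
theorem result {F : Type*} [Field F] [Fintype F] (hodd : Odd (Fintype.card F)) :
    ∃ T' : Subgroup (Matrix.SpecialLinearGroup (Fin 2) F), IsCyclic T' ∧ Nat.card T' = Fintype.card F + 1 ∧
      Subgroup.centralizer ((T' : Set (Matrix.SpecialLinearGroup (Fin 2) F))) = T' ∧
      (∀ g : Matrix.SpecialLinearGroup (Fin 2) F, g ∈ T' → (g : Matrix (Fin 2) (Fin 2) F) ≠ 1 → (g : Matrix (Fin 2) (Fin 2) F) ≠ -1 → Subgroup.centralizer ({g} : Set (Matrix.SpecialLinearGroup (Fin 2) F)) = T') ∧
      (∀ g : Matrix.SpecialLinearGroup (Fin 2) F, (∀ (c : F) (v : Fin 2 → F), v ≠ 0 → (g : Matrix (Fin 2) (Fin 2) F).mulVec v ≠ c • v) → ∃ h : Matrix.SpecialLinearGroup (Fin 2) F, h * g * h⁻¹ ∈ T') ∧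
      Nat.card (Subgroup.normalizer (T' : Set (Matrix.SpecialLinearGroup (Fin 2) F))) = 2 * (Fintype.card F + 1) ∧
      Nat.card (ConjClasses (Subgroup.normalizer (T' : Set (Matrix.SpecialLinearGroup (Fin 2) F)))) = (Fintype.card F + 7) / 2 ∧
      ∀ g : Matrix.SpecialLinearGroup (Fin 2) F, g ∈ Subgroup.normalizer (T' : Set (Matrix.SpecialLinearGroup (Fin 2) F)) → g ∉ T' → ((g * g) : Matrix (Fin 2) (Fin 2) F) = -1 := by
  have h2 := two_ne_of_odd hodd
  obtain ⟨ν, hν⟩ := FiniteField.exists_nonsquare (ringChar_ne_two h2)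
  have hν0 : ν ≠ 0 := fun h => hν (h ▸ IsSquare.zero)
  have hcard := card_TN h2 hν
  have hq : 2 ≤ Fintype.card F := Fintype.one_lt_card
  obtain ⟨k, hk⟩ := hodd
  obtain ⟨t₀, ht₀, hns⟩ := exists_nonsc (H := TJ (JN ν)) (by omega)
  obtain ⟨w, hw⟩ := w_TN (F := F) ⟨k, hk⟩ hν0
  have hmain := tor_main h2 (JN_t ν) (JN_d hν0) ht₀ hns hw
  refine ⟨TJ (JN ν), cyc_TN hν, hcard, ?_, ?_, ?_, ?_, ?_, ?_⟩
  · apply le_antisymm
    · exact (Subgroup.centralizer_le (Set.singleton_subset_iff.mpr ht₀)).trans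
        (TJ_cent h2 (JN_t ν) (JN_d hν0) ht₀ hns).le
    · intro g hg h hh
      exact TJ_comm h2 (JN_t ν) (JN_d hν0) hh hg
  · intro g hg h1 hm1
    apply TJ_cent h2 (JN_t ν) (JN_d hν0) hg
    intro hsc
    rcases sc_cases hsc with h | h
    · exact h1 h
    · exact hm1 h
  · intro g hg
    exact ell_conj ⟨k, hk⟩ hν hg
  · rw [hmain.1, hcard]
  · have h3 := hmain.2.1
    rw [hcard] at h3
    omega
  · intro g hg hgT
    exact hmain.2.2.1 g hg hgT

end Cfsg.Agent.S2429
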