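import Mathlib
import Cfsg.Agent.S0259
import Cfsg.Agent.S0262
import Cfsg.Agent.S2428
import Cfsg.Agent.S2429
import Cfsg.Agent.LibH22Wr3

/-! Redundant Sylow subgroups of `SL_2(q)` (seat helper22). -/

namespace CfsgLib.H22Rd

open Subgroup Matrix
open scoped commutatorElement Pointwise

/-- a redundant Sylow subgroup -/
def Red {G : Type*} [Group G] {p : ℕ} (Q : Sylow p G) : Prop :=
  ∀ x : G, (∃ k : ℕ, orderOf x = p ^ k) → ∃ P : Sylow p G, P ≠ Q ∧ x ∈ P

section
variable {G H : Type*} [Group G] [Group H] [Finite G] {p : ℕ} [hp : Fact p.Prime]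

theorem isPGroup_zpowers {x : G} (hx : ∃ k : ℕ, orderOf x = p ^ k) : IsPGroup p (zpowers x) := by
  obtain ⟨k, hk⟩ := hx
  exact IsPGroup.of_card (n := k) (by rw [Nat.card_zpowers, hk])

theorem mem_of_normalizer (P : Sylow p G) {x : G} (hx : ∃ k : ℕ, orderOf x = p ^ k) (hn : x ∈ normalizer ((P : Subgroup G) : Set G)) : x ∈ P := by
  have h1 := (isPGroup_zpowers hx).inf_normalizer_sylow P
  have h2 := h1.le (Subgroup.mem_inf.mpr ⟨mem_zpowers x, hn⟩)
  exact h2.2

theorem order_of_mem (P : Sylow p G) {x : G} (hx : x ∈ P) : ∃ k : ℕ, orderOf x = p ^ k := by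
  obtain ⟨k, hk⟩ := IsPGroup.iff_orderOf.mp P.isPGroup' ⟨x, hx⟩
  exact ⟨k, by rw [← hk]; exact (Subgroup.orderOf_mk x hx).symm⟩

theorem exists_sylow {x : G} (hx : ∃ k : ℕ, orderOf x = p ^ k) : ∃ P : Sylow p G, x ∈ P := by
  obtain ⟨P, hP⟩ := (isPGroup_zpowers hx).exists_le_sylow
  exact ⟨P, hP (mem_zpowers x)⟩

theorem sylow_eq {P Q : Sylow p G} (h : (P : Subgroup G) ≤ Q) : P = Q := by
  apply Sylow.ext
  exact (P.is_maximal' Q.isPGroup' h).symm

/-- transfer along a central extension -/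
theorem red_transfer (f : G →* H) (hf : Function.Surjective f) (hk : f.ker ≤ center G) :
    (∃ Q : Sylow p G, Red Q) ↔ ∃ Q : Sylow p H, Red Q := by
  haveI : Finite H := Finite.of_surjective f hf
  have key : ∀ (P : Sylow p G) (x : G), (∃ k : ℕ, orderOf x = p ^ k) → f x ∈ P.mapSurjective hf → x ∈ P := by
    intro P x hx hfx
    apply mem_of_normalizer P hx
    obtain ⟨y, hy, hyx⟩ : ∃ y ∈ P, f y = f x := by
      have : f x ∈ ((P.mapSurjective hf : Sylow p H) : Subgroup H) := hfx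
      rw [Sylow.coe_mapSurjective] at this
      exact this
    have hz : y⁻¹ * x ∈ center G := hk (by rw [MonoidHom.mem_ker, map_mul, map_inv, hyx, inv_mul_cancel])
    have : x = y * (y⁻¹ * x) := by group
    rw [this]
    apply mul_mem (le_normalizer hy)
    exact center_le_normalizer _ hz
  have key2 : ∀ (P : Sylow p G) (x : G), x ∈ P → f x ∈ P.mapSurjective hf := by
    intro P x hx
    show f x ∈ ((P.mapSurjective hf : Sylow p H) : Subgroup H)
    rw [Sylow.coe_mapSurjective]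
    exact mem_map_of_mem f hx
  have inj : ∀ P P' : Sylow p G, P.mapSurjective hf = P'.mapSurjective hf → P = P' := by
    intro P P' h
    apply sylow_eq
    intro x hx
    apply key P' x (order_of_mem P hx)
    rw [← h]
    exact key2 P x hx
  constructor
  · rintro ⟨Q, hQ⟩
    refine ⟨Q.mapSurjective hf, ?_⟩
    intro y hy
    obtain ⟨P', hP'⟩ := exists_sylow hy
    obtain ⟨P0, rfl⟩ := Sylow.mapSurjective_surjective hf p P'
    have h1 : y ∈ ((P0.mapSurjective hf : Sylow p H) : Subgroup H) := hP'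
    rw [Sylow.coe_mapSurjective] at h1
    obtain ⟨x, hx, rfl⟩ := h1
    obtain ⟨P, hPQ, hxP⟩ := hQ x (order_of_mem P0 hx)
    exact ⟨P.mapSurjective hf, fun h => hPQ (inj _ _ h), key2 P x hxP⟩
  · rintro ⟨Q', hQ'⟩
    obtain ⟨Q, rfl⟩ := Sylow.mapSurjective_surjective hf p Q'
    refine ⟨Q, ?_⟩
    intro x hx
    obtain ⟨P0, hP0⟩ := exists_sylow hx
    obtain ⟨P', hPQ, hxP⟩ := hQ' (f x) (order_of_mem _ (key2 P0 x hP0))
    obtain ⟨P, rfl⟩ := Sylow.mapSurjective_surjective hf p P'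
    exact ⟨P, fun h => hPQ (by rw [h]), key P x hx hxP⟩

theorem not_red_cyclic (Q : Sylow p G) (hc : IsCyclic (Q : Subgroup G)) : ¬ Red Q := by
  intro h
  obtain ⟨⟨x, hxQ⟩, hx⟩ := hc.exists_generator
  obtain ⟨P, hPQ, hxP⟩ := h x (order_of_mem Q hxQ)
  apply hPQ
  symm
  apply sylow_eq
  intro y hy
  obtain ⟨k, hk⟩ := Subgroup.mem_zpowers_iff.mp (hx ⟨y, hy⟩)
  have : x ^ k = y := congrArg Subtype.val hk
  rw [← this]
  exact zpow_mem (S := Subgroup G) (K := (P : Subgroup G)) hxP k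

theorem red_smul (Q : Sylow p G) (hQ : Red Q) (P : Sylow p G) : Red P := by
  obtain ⟨g, rfl⟩ := MulAction.exists_smul_eq G Q P
  intro x hx
  obtain ⟨P', hP', hxP'⟩ := hQ (g⁻¹ * x * g) (by
    obtain ⟨k, hk⟩ := hx
    refine ⟨k, ?_⟩
    rw [← hk]
    have := orderOf_injective (MulAut.conj g⁻¹).toMonoidHom (MulAut.conj g⁻¹).injective x
    rw [← this]
    congr 1
    simp)
  refine ⟨g • P', fun h => hP' (smul_left_cancel g h), ?_⟩
  show x ∈ ((g • P' : Sylow p G) : Subgroup G)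
  rw [Sylow.smul_def, Sylow.pointwise_smul_def]
  refine ⟨g⁻¹ * x * g, hxP', ?_⟩
  simp [MulAut.conj_apply]; group

end

end CfsgLib.H22Rd
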