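import Cfsg.Agent.LibH22Rd1

/-! Redundant Sylow subgroups of `SL_2(q)` (seat helper22). -/

namespace CfsgLib.H22Rd

open Subgroup Matrix
open scoped commutatorElement Pointwise

section
variable {F : Type*} [Field F]

/-- transvections -/
def uu (b : F) : Matrix.SpecialLinearGroup (Fin 2) F := ⟨!![1, b; 0, 1], by simp⟩

theorem uu_mul (a b : F) : uu a * uu b = uu (a + b) := by
  apply Subtype.ext
  show !![1, a; 0, 1] * !![1, b; 0, 1] = !![1, a + b; 0, 1]
  ext i j
  fin_cases i <;> fin_cases j <;> simp [Matrix.mul_apply, Fin.sum_univ_two, add_comm]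

theorem uu_zero : uu (0 : F) = 1 := by
  apply Subtype.ext
  show !![1, (0:F); 0, 1] = 1
  exact (Matrix.one_fin_two).symm

theorem uu_pow (b : F) (n : ℕ) : uu b ^ n = uu (n * b) := by
  induction n with
  | zero => rw [pow_zero, Nat.cast_zero, zero_mul, uu_zero]
  | succ n ih => rw [pow_succ, ih, uu_mul]; congr 1; push_cast; ring

theorem uu_inj {a b : F} (h : uu a = uu b) : a = b := by
  have := congrArg (fun g : Matrix.SpecialLinearGroup (Fin 2) F => (g : Matrix (Fin 2) (Fin 2) F) 0 1) h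
  simpa [uu] using this

/-- the defining characteristic: trivial intersections -/
theorem not_red_char [Fintype F] (p : ℕ) [hp : Fact p.Prime] [CharP F p] (Q : Sylow p (Matrix.SpecialLinearGroup (Fin 2) F)) : ¬ Red Q := by
  intro h
  have h1 : uu (1 : F) ^ p = 1 := by rw [uu_pow, CharP.cast_eq_zero, zero_mul, uu_zero]
  have h2 : uu (1 : F) ≠ 1 := by
    intro h
    rw [← uu_zero] at h
    exact one_ne_zero (uu_inj h)
  have h3 : ∃ k : ℕ, orderOf (uu (1 : F)) = p ^ k := ⟨1, by rw [pow_one]; exact orderOf_eq_prime h1 h2⟩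
  obtain ⟨P0, hP0⟩ := exists_sylow h3
  obtain ⟨P, hne, hxP⟩ := red_smul Q h P0 _ h3
  apply hne
  let f : Matrix.SpecialLinearGroup (Fin 2) F →* Matrix.GeneralLinearGroup (Fin 2) F := Matrix.SpecialLinearGroup.toGL
  have hf : Function.Injective f := Matrix.SpecialLinearGroup.toGL_injective
  obtain ⟨P1, hP1⟩ := (P0.isPGroup'.map f).exists_le_sylow
  obtain ⟨P2, hP2⟩ := (P.isPGroup'.map f).exists_le_sylow
  have h4 : P1 = P2 := by
    by_contra hcon
    have h5 := Cfsg.Agent.S0259.result p P1 P2 hcon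
    have h6 : f (uu 1) ∈ (P1 : Subgroup (Matrix.GeneralLinearGroup (Fin 2) F)) ⊓ P2 :=
      ⟨hP1 (mem_map_of_mem f hP0), hP2 (mem_map_of_mem f hxP)⟩
    rw [h5, Subgroup.mem_bot] at h6
    exact h2 (hf (by rw [h6, map_one]))
  have h7 : IsPGroup p ((P1 : Subgroup (Matrix.GeneralLinearGroup (Fin 2) F)).comap f) := P1.isPGroup'.comap_of_injective f hf
  have h8 : (P0 : Subgroup _) ≤ (P1 : Subgroup (Matrix.GeneralLinearGroup (Fin 2) F)).comap f := fun x hx => hP1 (mem_map_of_mem f hx)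
  have h9 : (P : Subgroup _) ≤ (P1 : Subgroup (Matrix.GeneralLinearGroup (Fin 2) F)).comap f := fun x hx => by
    rw [h4]; exact hP2 (mem_map_of_mem f hx)
  have h10 := P0.is_maximal' h7 h8
  have h11 := P.is_maximal' h7 h9
  apply Sylow.ext
  rw [← h10, ← h11]

/-- tori -/
structure IsTor (C : Subgroup (Matrix.SpecialLinearGroup (Fin 2) F)) (N : ℕ) : Prop where
  card : Nat.card C = N
  cent : ∀ g ∈ C, g ≠ 1 → g ≠ -1 → Subgroup.centralizer ({g} : Set (Matrix.SpecialLinearGroup (Fin 2) F)) = C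
  cn : Nat.card (Subgroup.normalizer (C : Set (Matrix.SpecialLinearGroup (Fin 2) F))) = 2 * N

theorem IsTor.comm {C : Subgroup (Matrix.SpecialLinearGroup (Fin 2) F)} {N : ℕ} (h : IsTor C N) {a b : Matrix.SpecialLinearGroup (Fin 2) F}
    (ha : a ∈ C) (hb : b ∈ C) : a * b = b * a := by
  by_cases h1 : a = 1
  · rw [h1]; simp
  by_cases h2 : a = -1
  · rw [h2]; simp
  have h3 := h.cent a ha h1 h2
  rw [← h3] at hb
  exact (mem_centralizer_singleton_iff.mp hb).symm

/-- elements of a torus whose order is not a power of 2 lie in two Sylow subgroups -/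
theorem tor_two [Fintype F] {C : Subgroup (Matrix.SpecialLinearGroup (Fin 2) F)} {N : ℕ} (h : IsTor C N) (hN0 : 0 < N) (hN : ¬ ∃ k : ℕ, N = 2 ^ k)
    {x : Matrix.SpecialLinearGroup (Fin 2) F} (hx : x ∈ C) (hx2 : ∃ k : ℕ, orderOf x = 2 ^ k) :
    ∃ P1 P2 : Sylow 2 (Matrix.SpecialLinearGroup (Fin 2) F), P1 ≠ P2 ∧ x ∈ P1 ∧ x ∈ P2 := by
  haveI : Fact (Nat.Prime 2) := ⟨Nat.prime_two⟩
  by_contra hcon
  push Not at hcon
  obtain ⟨P, hP⟩ := exists_sylow hx2
  have huniq : ∀ P', x ∈ P' → P' = P := by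
    intro P' hP'
    by_contra hne
    exact hcon P' P hne hP' hP
  have hsm : ∀ (g : Matrix.SpecialLinearGroup (Fin 2) F) (y : Matrix.SpecialLinearGroup (Fin 2) F) (P' : Sylow 2 (Matrix.SpecialLinearGroup (Fin 2) F)),
      y ∈ P' → g * y * g⁻¹ ∈ g • P' := by
    intro g y P' hy
    show g * y * g⁻¹ ∈ ((g • P' : Sylow 2 (Matrix.SpecialLinearGroup (Fin 2) F)) : Subgroup (Matrix.SpecialLinearGroup (Fin 2) F))
    rw [Sylow.smul_def, Sylow.pointwise_smul_def]
    exact ⟨y, hy, rfl⟩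
  -- `C` normalizes `P`
  have hC : ∀ c ∈ C, c ∈ normalizer ((P : Subgroup (Matrix.SpecialLinearGroup (Fin 2) F)) : Set (Matrix.SpecialLinearGroup (Fin 2) F)) := by
    intro c hc
    have h1 := hsm c x P hP
    have h2 : c * x * c⁻¹ = x := by rw [h.comm hc hx, mul_inv_cancel_right]
    rw [h2] at h1
    exact Sylow.smul_eq_iff_mem_normalizer.mp (huniq _ h1)
  -- 2-elements of `C` lie in `P`
  have hC2 : ∀ c ∈ C, (∃ k : ℕ, orderOf c = 2 ^ k) → c ∈ P := fun c hc h2 => mem_of_normalizer P h2 (hC c hc)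
  -- the normalizer of `C` normalizes `P`
  have hD : ∀ d ∈ normalizer (C : Set (Matrix.SpecialLinearGroup (Fin 2) F)),
      d ∈ normalizer ((P : Subgroup (Matrix.SpecialLinearGroup (Fin 2) F)) : Set (Matrix.SpecialLinearGroup (Fin 2) F)) := by
    intro d hd
    have hd' := Subgroup.inv_mem _ hd
    have h1 : d⁻¹ * x * d⁻¹⁻¹ ∈ C := (Subgroup.mem_normalizer_iff.mp hd' x).mp hx
    have h2 : ∃ k : ℕ, orderOf (d⁻¹ * x * d⁻¹⁻¹) = 2 ^ k := by
      obtain ⟨k, hk⟩ := hx2
      refine ⟨k, ?_⟩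
      rw [← hk]
      exact orderOf_injective (MulAut.conj d⁻¹).toMonoidHom (MulAut.conj d⁻¹).injective x
    have h3 := hsm d _ P (hC2 _ h1 h2)
    have h4 : d * (d⁻¹ * x * d⁻¹⁻¹) * d⁻¹ = x := by group
    rw [h4] at h3
    exact Sylow.smul_eq_iff_mem_normalizer.mp (huniq _ h3)
  -- an element of odd prime order
  obtain ⟨r, hr, hr2, hrN⟩ : ∃ r : ℕ, r.Prime ∧ r ≠ 2 ∧ r ∣ N := by
    by_contra hcon2
    push Not at hcon2
    apply hN
    refine ⟨N.primeFactorsList.length, ?_⟩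
    exact Nat.eq_prime_pow_of_unique_prime_dvd hN0.ne' (fun {d} hd hdN => by
      by_contra hd2
      exact hcon2 d hd hd2 hdN)
  haveI : Fact r.Prime := ⟨hr⟩
  obtain ⟨⟨u, huC⟩, hu⟩ := exists_prime_orderOf_dvd_card' (G := C) r (by rw [h.card]; exact hrN)
  have hu' : orderOf u = r := by rw [← hu]; exact (Subgroup.orderOf_mk u huC).symm
  have hu1 : u ≠ 1 := by
    intro h1
    rw [h1, orderOf_one] at hu'
    exact hr.one_lt.ne hu'
  have hum : u ≠ -1 := by
    intro h1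
    have h2 : u ^ 2 = 1 := by rw [h1]; simp
    have h3 := orderOf_dvd_of_pow_eq_one h2
    rw [hu'] at h3
    exact hr2 ((Nat.prime_dvd_prime_iff_eq hr Nat.prime_two).mp h3)
  -- a 2-element of the normalizer outside `C`
  have hCD : C ≤ normalizer (C : Set (Matrix.SpecialLinearGroup (Fin 2) F)) := le_normalizer
  have hidx : (C.subgroupOf (normalizer (C : Set (Matrix.SpecialLinearGroup (Fin 2) F)))).index = 2 := by
    have h1 := (C.subgroupOf (normalizer (C : Set (Matrix.SpecialLinearGroup (Fin 2) F)))).card_mul_index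
    rw [Nat.card_congr (Subgroup.subgroupOfEquivOfLe hCD).toEquiv, h.card, h.cn, mul_comm 2 N] at h1
    exact Nat.eq_of_mul_eq_mul_left hN0 h1
  obtain ⟨w, hwD, hwC, hw2⟩ : ∃ w ∈ normalizer (C : Set (Matrix.SpecialLinearGroup (Fin 2) F)), w ∉ C ∧ ∃ k : ℕ, orderOf w = 2 ^ k := by
    obtain ⟨⟨d, hd⟩, hd2⟩ : ∃ d, d ∉ C.subgroupOf (normalizer (C : Set (Matrix.SpecialLinearGroup (Fin 2) F))) := by
      by_contra hcon3
      push Not at hcon3
      have : C.subgroupOf (normalizer (C : Set (Matrix.SpecialLinearGroup (Fin 2) F))) = ⊤ := by rw [eq_top_iff]; exact fun g _ => hcon3 g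
      rw [this, Subgroup.index_top] at hidx
      omega
    have hdC : d ∉ C := fun h1 => hd2 (Subgroup.mem_subgroupOf.mpr h1)
    have hdd : d * d ∈ C := Subgroup.mem_subgroupOf.mp (Subgroup.mul_self_mem_of_index_two hidx ⟨d, hd⟩)
    have hpos : orderOf d ≠ 0 := (orderOf_pos d).ne'
    obtain ⟨k, m, hm, hkm⟩ := Nat.exists_eq_two_pow_mul_odd hpos
    refine ⟨d ^ m, pow_mem hd m, ?_, k, ?_⟩
    · intro h1
      obtain ⟨l, hl⟩ := hm
      rw [hl, pow_succ, pow_mul, pow_two] at h1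
      exact hdC ((mul_mem_cancel_left (pow_mem hdd l)).mp h1)
    · rw [orderOf_pow' d (by rintro rfl; simp at hm), hkm]
      have : Nat.gcd (2 ^ k * m) m = m := Nat.gcd_eq_right (Dvd.intro_left _ rfl)
      rw [this]
      exact Nat.mul_div_cancel _ hm.pos
  have hwP : w ∈ P := mem_of_normalizer P hw2 (hD w hwD)
  -- the commutator
  have h5 : w * u * w⁻¹ ∈ C := (Subgroup.mem_normalizer_iff.mp hwD u).mp huC
  have h6 : w * u * w⁻¹ * u⁻¹ ∈ P := by
    have h7 : u * w⁻¹ * u⁻¹ ∈ P := (Subgroup.mem_normalizer_iff.mp (hC u huC) w⁻¹).mp (inv_mem hwP)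
    have h8 : w * u * w⁻¹ * u⁻¹ = w * (u * w⁻¹ * u⁻¹) := by group
    rw [h8]
    exact mul_mem hwP h7
  have h9 : (w * u * w⁻¹ * u⁻¹) ^ r = 1 := by
    have hcomm : Commute (w * u * w⁻¹) u⁻¹ := h.comm h5 (inv_mem huC)
    rw [hcomm.mul_pow, conj_pow, inv_pow, ← hu', pow_orderOf_eq_one]
    group
  obtain ⟨k, hk⟩ := order_of_mem P h6
  have h10 : orderOf (w * u * w⁻¹ * u⁻¹) = 1 := by
    have h11 := orderOf_dvd_of_pow_eq_one h9
    rw [hk] at h11 ⊢
    rcases (Nat.dvd_prime hr).mp h11 with h12 | h12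
    · exact h12
    · exfalso
      have h13 : r ∣ 2 ^ k := by rw [h12]
      exact hr2 ((Nat.prime_dvd_prime_iff_eq hr Nat.prime_two).mp (hr.dvd_of_dvd_pow h13))
  rw [orderOf_eq_one_iff] at h10
  have h14 : w ∈ Subgroup.centralizer ({u} : Set (Matrix.SpecialLinearGroup (Fin 2) F)) := by
    rw [mem_centralizer_singleton_iff]
    rw [mul_inv_eq_one, mul_inv_eq_iff_eq_mul] at h10
    first | exact h10 | exact h10.symm
  rw [h.cent u huC hu1 hum] at h14
  exact hwC h14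

end

end CfsgLib.H22Rd
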