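import Cfsg.Statements.S0752
import Cfsg.Agent.LibForms27

set_option autoImplicit false
open Cfsg

namespace Cfsg.Agent.S0752

theorem result {F V : Type*} [Field F] [AddCommGroup V] [Module F V] [FiniteDimensional F V] (B : LinearMap.BilinForm F V) (hA : B.IsAlt) : ∃ (m k : ℕ) (b : Module.Basis ((Fin m ⊕ Fin m) ⊕ Fin k) F V), (∀ i j : Fin m, B (b (Sum.inl (Sum.inl i))) (b (Sum.inl (Sum.inr j))) = if i = j then 1 else 0) ∧ (∀ i j : Fin m, B (b (Sum.inl (Sum.inl i))) (b (Sum.inl (Sum.inl j))) = 0) ∧ (∀ i j : Fin m, B (b (Sum.inl (Sum.inr i))) (b (Sum.inl (Sum.inr j))) = 0) ∧ (∀ (j : Fin k) (v : V), B (b (Sum.inr j)) v = 0) := by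
  -- the radical and a complement
  let R : Submodule F V := LinearMap.ker B
  obtain ⟨W, hW⟩ := R.exists_isCompl
  have hR : ∀ r ∈ R, ∀ v, B r v = 0 := by
    intro r hr v
    have : B r = 0 := hr
    rw [this]; rfl
  have hR' : ∀ r ∈ R, ∀ v, B v r = 0 := by
    intro r hr v
    rw [← hA.neg_eq, hR r hr, neg_zero]
  have hBW : (B.restrict W).IsAlt := fun w => hA w
  have hnd : ∀ w : W, w ≠ 0 → ∃ w', B.restrict W w w' ≠ 0 := by
    intro w hw
    by_contra hcon
    push Not at hcon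
    apply hw
    have hwR : (w : V) ∈ R := by
      show B w = 0
      ext v
      have hv : v ∈ R ⊔ W := by rw [hW.sup_eq_top]; trivial
      obtain ⟨r, hr, w', hw', rfl⟩ := Submodule.mem_sup.mp hv
      rw [map_add, hR' r hr, zero_add]
      exact hcon ⟨w', hw'⟩
    have : (w : V) ∈ R ⊓ W := ⟨hwR, w.2⟩
    rw [hW.inf_eq_bot, Submodule.mem_bot] at this
    exact Subtype.ext this
  obtain ⟨m, b, -, h1, h2, h3, h4⟩ := CfsgLib.Forms27.exists_symplectic_basis (B.restrict W) hBW hnd
  let c := Module.finBasis F R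
  let e : (W × R) ≃ₗ[F] V := Submodule.prodEquivOfIsCompl W R hW.symm
  refine ⟨m, Module.finrank F R, (b.prod c).map e, ?_, ?_, ?_, ?_⟩
  · intro i j
    simpa [e] using h3 i j
  · intro i j
    simpa [e] using h1 i j
  · intro i j
    simpa [e] using h2 i j
  · intro j v
    have : ((b.prod c).map e) (Sum.inr j) = (c j : V) := by simp [e]
    rw [this]
    exact hR _ (c j).2 v

end Cfsg.Agent.S0752
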