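import Cfsg.Agent.LibH22Dec
import Cfsg.Agent.LibH22Sp
import Cfsg.Agent.S0752

set_option autoImplicit false

/-! Stabilisers of nondegenerate subspaces in `Sp` (seat helper22). -/

namespace Cfsg.Agent.H22

open Module

section
variable {F : Type*} [Field F]

lemma spB_eq_sum (m : ℕ) (x y : Fin m ⊕ Fin m → F) : spB m F x y = ∑ i : Fin m, (x (.inr i) * y (.inl i) - x (.inl i) * y (.inr i)) := by
  rw [spB_apply, sympForm_eq_sum]

/-- every nondegenerate alternating form is standard -/
theorem exists_sp_iso {U : Type*} [AddCommGroup U] [Module F U] [FiniteDimensional F U] (B : LinearMap.BilinForm F U) (hA : B.IsAlt)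
    (hB : ∀ x, (∀ y, B x y = 0) → x = 0) {k : ℕ} (hk : finrank F U = 2 * k) :
    ∃ φ : (Fin k ⊕ Fin k → F) ≃ₗ[F] U, ∀ x y, B (φ x) (φ y) = spB k F x y := by
  obtain ⟨m', k', b, h1, h2, h3, h4⟩ := Cfsg.Agent.S0752.result B hA
  have hk' : k' = 0 := by
    by_contra hne
    have := hB (b (Sum.inr ⟨0, by omega⟩)) (h4 _)
    exact b.ne_zero _ this
  subst hk'
  have hm' : m' = k := by
    have h5 := Module.finrank_eq_card_basis b
    rw [hk] at h5
    simp at h5
    omega
  subst hm'
  obtain ⟨e, he1, he2⟩ : ∃ e : Fin m' ⊕ Fin m' ≃ (Fin m' ⊕ Fin m') ⊕ Fin 0, (∀ i, e (Sum.inl i) = Sum.inl (Sum.inr i)) ∧ (∀ i, e (Sum.inr i) = Sum.inl (Sum.inl i)) :=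
    ⟨(Equiv.sumComm _ _).trans (Equiv.sumEmpty _ _).symm, fun i => rfl, fun i => rfl⟩
  obtain ⟨b', hb'⟩ : ∃ b' : Basis (Fin m' ⊕ Fin m') F U, ∀ i, b' i = b (e i) := ⟨b.reindex e.symm, fun i => by rw [Basis.reindex_apply, Equiv.symm_symm]⟩
  refine ⟨b'.equivFun.symm, ?_⟩
  have key : B.comp (b'.equivFun.symm : (Fin m' ⊕ Fin m' → F) →ₗ[F] U) (b'.equivFun.symm : (Fin m' ⊕ Fin m' → F) →ₗ[F] U) = spB m' F := by
    apply LinearMap.BilinForm.ext_basis (Pi.basisFun F (Fin m' ⊕ Fin m'))
    intro i j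
    rw [LinearMap.BilinForm.comp_apply, Pi.basisFun_apply, Pi.basisFun_apply]
    show B (b'.equivFun.symm (Pi.single i 1)) (b'.equivFun.symm (Pi.single j 1)) = _
    rw [Basis.equivFun_symm_single, Basis.equivFun_symm_single, hb', hb', spB_eq_sum]
    rcases i with i | i <;> rcases j with j | j
    · rw [he1, he1, h3]
      symm; apply Finset.sum_eq_zero; intro l _
      simp
    · rw [he1, he2, ← LinearMap.BilinForm.IsAlt.neg_eq hA, h1, Finset.sum_eq_single i]
      · by_cases hij : i = j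
        · subst hij; simp
        · rw [if_neg (Ne.symm hij)]
          have : (Pi.single (Sum.inr j) 1 : Fin m' ⊕ Fin m' → F) (Sum.inr i) = 0 := Pi.single_eq_of_ne (by rintro h; rw [Sum.inr.injEq] at h; exact hij h) _
          rw [this]; simp
      · intro l _ hl
        have : (Pi.single (Sum.inl i) 1 : Fin m' ⊕ Fin m' → F) (Sum.inl l) = 0 := Pi.single_eq_of_ne (by rintro h; rw [Sum.inl.injEq] at h; exact hl h) _
        rw [this]; simp
      · intro h; exact absurd (Finset.mem_univ _) h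
    · rw [he1, he2, h1, Finset.sum_eq_single i]
      · by_cases hij : i = j
        · subst hij; simp
        · rw [if_neg hij]
          have : (Pi.single (Sum.inl j) 1 : Fin m' ⊕ Fin m' → F) (Sum.inl i) = 0 := Pi.single_eq_of_ne (by rintro h; rw [Sum.inl.injEq] at h; exact hij h) _
          rw [this]; simp
      · intro l _ hl
        have : (Pi.single (Sum.inr i) 1 : Fin m' ⊕ Fin m' → F) (Sum.inr l) = 0 := Pi.single_eq_of_ne (by rintro h; rw [Sum.inr.injEq] at h; exact hl h) _
        rw [this]; simp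
      · intro h; exact absurd (Finset.mem_univ _) h
    · rw [he2, he2, h2]
      symm; apply Finset.sum_eq_zero; intro l _
      simp
  intro x y
  rw [← key]; rfl

/-- the symplectic group as an isometry group -/
theorem spIso (m : ℕ) (F : Type*) [Field F] : Nonempty (Matrix.symplecticGroup (Fin m) F ≃* Iso (fun x y => spB m F x y)) := by
  refine ⟨MulEquiv.ofBijective ((spToLin (m := m) (F := F)).codRestrict (Iso (fun x y => spB m F x y)) (fun A => fun x y => spToLin_isometry A x y)) ⟨?_, ?_⟩⟩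
  · intro a b h
    exact spToLin_injective (congrArg Subtype.val h)
  · rintro ⟨g, hg⟩
    obtain ⟨A, hA⟩ := exists_spToLin g hg
    exact ⟨A, Subtype.ext hA⟩

end

end Cfsg.Agent.H22
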