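import Mathlib

set_option autoImplicit false

/-! A Sylow `2`-subgroup of the symmetric group generated by involutions (lead). -/

namespace CfsgLib.SOm

open Subgroup Equiv

/-- existence of a subgroup of order `(n!)_2` generated by involutions -/
def TE (κ : Type) : Prop :=
  ∃ T : Subgroup (Perm κ), Nat.card T = 2 ^ (padicValNat 2 (Nat.card κ).factorial) ∧ T ≤ closure {t | t ∈ T ∧ t * t = 1}

lemma TE.map {κ μ : Type} [Finite κ] [Finite μ] (h : TE κ) (f : Perm κ →* Perm μ) (hf : Function.Injective f)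
    (hv : padicValNat 2 (Nat.card κ).factorial = padicValNat 2 (Nat.card μ).factorial) : TE μ := by
  obtain ⟨T, hT, hg⟩ := h
  refine ⟨T.map f, ?_, ?_⟩
  · rw [← hv, ← hT]
    exact Nat.card_congr (T.equivMapOfInjective f hf).symm.toEquiv
  · refine (Subgroup.map_mono hg).trans ?_
    rw [MonoidHom.map_closure, closure_le]
    rintro _ ⟨t, ⟨h1, h2⟩, rfl⟩
    refine subset_closure ⟨mem_map_of_mem _ h1, ?_⟩
    rw [← map_mul, h2, map_one]

/-- the wreath product with `Perm Bool` -/
def wr {κ : Type} (T : Subgroup (Perm κ)) : Subgroup (Perm (κ × Bool)) where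
  carrier := {g | ∃ π ∈ T, ∃ f : κ → Perm Bool, ∀ a b, g (a, b) = (π a, f a b)}
  mul_mem' := by
    rintro g g' ⟨π, hπ, f, hf⟩ ⟨π', hπ', f', hf'⟩
    refine ⟨π * π', T.mul_mem hπ hπ', fun a => f (π' a) * f' a, fun a b => ?_⟩
    rw [Perm.mul_apply, hf', hf]
    rfl
  one_mem' := ⟨1, T.one_mem, fun _ => 1, fun a b => rfl⟩
  inv_mem' := by
    rintro g ⟨π, hπ, f, hf⟩
    refine ⟨π⁻¹, T.inv_mem hπ, fun a => (f (π⁻¹ a))⁻¹, fun a b => ?_⟩
    rw [Perm.inv_eq_iff_eq, hf]
    simp

noncomputable def wrEquiv {κ : Type} (T : Subgroup (Perm κ)) : (κ → Perm Bool) × T ≃ wr T :=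
  Equiv.ofBijective (fun p => ⟨Equiv.prodShear p.2.1 p.1, p.2.1, p.2.2, p.1, fun a b => rfl⟩) (by
    constructor
    · rintro ⟨f, π, hπ⟩ ⟨f', π', hπ'⟩ h
      have h1 : ∀ a b, (π a, f a b) = (π' a, f' a b) := fun a b => by
        have := congrArg (fun g : wr T => (g : Perm (κ × Bool)) (a, b)) h
        exact this
      have h2 : π = π' := Equiv.ext fun a => congrArg Prod.fst (h1 a true)
      have h3 : f = f' := funext fun a => Equiv.ext fun b => congrArg Prod.snd (h1 a b)
      subst h2 h3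
      rfl
    · rintro ⟨g, π, hπ, f, hf⟩
      refine ⟨(f, ⟨π, hπ⟩), ?_⟩
      apply Subtype.ext
      apply Equiv.ext
      rintro ⟨a, b⟩
      exact (hf a b).symm)

lemma card_wr {κ : Type} [Finite κ] (T : Subgroup (Perm κ)) : Nat.card (wr T) = 2 ^ Nat.card κ * Nat.card T := by
  rw [← Nat.card_congr (wrEquiv T), Nat.card_prod]
  congr 1
  rw [Nat.card_fun]
  congr 1
  rw [Nat.card_perm]
  simp

lemma val_two_mul (n : ℕ) : padicValNat 2 (2 * n).factorial = n + padicValNat 2 n.factorial := by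
  have : Fact (Nat.Prime 2) := ⟨Nat.prime_two⟩
  rw [padicValNat_factorial_mul]
  ring

lemma val_two_mul_add_one (n : ℕ) : padicValNat 2 (2 * n + 1).factorial = n + padicValNat 2 n.factorial := by
  have : Fact (Nat.Prime 2) := ⟨Nat.prime_two⟩
  rw [padicValNat_factorial_mul_add n (by norm_num : 1 < 2), val_two_mul]

lemma TE.prod {κ : Type} [Finite κ] (h : TE κ) : TE (κ × Bool) := by
  classical
  obtain ⟨T, hT, hg⟩ := h
  have hT' : closure {t | t ∈ T ∧ t * t = 1} ≤ T := by
    rw [closure_le]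
    exact fun r hr => hr.1
  refine ⟨wr T, ?_, ?_⟩
  · rw [card_wr, hT, Nat.card_prod, ← pow_add, Nat.card_eq_fintype_card (α := Bool), Fintype.card_bool, mul_comm _ 2, val_two_mul]
  · intro g hgw
    obtain ⟨π, hπ, f, hf⟩ := hgw
    -- g = (shear 1 f') * (π, id)
    have key : ∀ π ∈ T, (Equiv.prodCongr π (1 : Perm Bool) : Perm (κ × Bool)) ∈ closure {t | t ∈ wr T ∧ t * t = 1} := by
      intro π hπ
      refine Subgroup.closure_induction (p := fun π _ => (Equiv.prodCongr π (1 : Perm Bool) : Perm (κ × Bool)) ∈ closure {t | t ∈ wr T ∧ t * t = 1})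
        ?_ ?_ ?_ ?_ (hg hπ)
      · rintro t ⟨ht, ht2⟩
        refine subset_closure ⟨⟨t, ht, fun _ => 1, fun a b => rfl⟩, ?_⟩
        apply Equiv.ext
        rintro ⟨a, b⟩
        have := congrArg (fun s : Perm κ => s a) ht2
        change (t (t a), b) = (a, b)
        rw [← Perm.mul_apply, ht2]
        rfl
      · exact one_mem _
      · intro x y hx hy h1 h2
        exact mul_mem h1 h2
      · intro x hx h1
        exact inv_mem h1
    have key2 : (Equiv.prodShear 1 (fun a => f (π⁻¹ a)) : Perm (κ × Bool)) ∈ closure {t | t ∈ wr T ∧ t * t = 1} := by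
      refine subset_closure ⟨⟨1, T.one_mem, fun a => f (π⁻¹ a), fun a b => rfl⟩, ?_⟩
      apply Equiv.ext
      rintro ⟨a, b⟩
      change (a, f (π⁻¹ a) (f (π⁻¹ a) b)) = (a, b)
      have : ∀ s : Perm Bool, ∀ b, s (s b) = b := by decide
      rw [this]
    have e : g = (Equiv.prodShear 1 (fun a => f (π⁻¹ a)) : Perm (κ × Bool)) * (Equiv.prodCongr π (1 : Perm Bool) : Perm (κ × Bool)) := by
      apply Equiv.ext
      rintro ⟨a, b⟩
      rw [hf]
      change (π a, f a b) = (π a, f (π.symm (π a)) b)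
      rw [Equiv.symm_apply_apply]
    rw [e]
    exact mul_mem key2 (key π hπ)

theorem exists_T : ∀ (n : ℕ), TE (Fin n) := by
  intro n
  induction n using Nat.strong_induction_on with
  | _ n ih =>
    rcases Nat.eq_zero_or_pos n with rfl | hn
    · refine ⟨⊥, ?_, bot_le⟩
      simp
    · have h1 : TE (Fin (n / 2) × Bool) := (ih (n / 2) (Nat.div_lt_self hn (by norm_num))).prod
      have hle : Nat.card (Fin (n / 2) × Bool) = 2 * (n / 2) := by
        rw [Nat.card_prod, Nat.card_eq_fintype_card, Nat.card_eq_fintype_card, Fintype.card_fin, Fintype.card_bool, mul_comm]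
      have e : Nonempty ((Fin (n / 2) × Bool) ↪ Fin n) := by
        apply Function.Embedding.nonempty_of_card_le
        rw [Fintype.card_prod, Fintype.card_fin, Fintype.card_fin, Fintype.card_bool]
        omega
      obtain ⟨e⟩ := e
      refine h1.map (Equiv.Perm.viaEmbeddingHom e) (Equiv.Perm.viaEmbeddingHom_injective e) ?_
      rw [hle, Nat.card_eq_fintype_card, Fintype.card_fin]
      rcases Nat.even_or_odd' n with ⟨m, rfl | rfl⟩
      · congr 2
        omega
      · rw [show 2 * ((2 * m + 1) / 2) = 2 * m by omega, val_two_mul, val_two_mul_add_one]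

end CfsgLib.SOm
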