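import Cfsg.Agent.LibSOm1
import Cfsg.Agent.LibSOm2

/-! Wreath products inside a group (seat helper22). -/

namespace CfsgLib.H22Wr

open Equiv Subgroup

variable {K G : Type*} [Group K] [Group G] {n : ℕ}

/-- an embedding of `K wr S_n` -/
structure WR (D : (Fin n → K) →* G) (Pm : Perm (Fin n) →* G) : Prop where
  conj : ∀ π A, Pm π * D A * (Pm π)⁻¹ = D (fun i => A (π.symm i))
  inj : ∀ A π, D A = Pm π → A = 1 ∧ π = 1

variable {D : (Fin n → K) →* G} {Pm : Perm (Fin n) →* G}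

theorem WR.comm (h : WR D Pm) (π : Perm (Fin n)) (A : Fin n → K) : Pm π * D A = D (fun i => A (π.symm i)) * Pm π := by
  rw [← h.conj, inv_mul_cancel_right]

/-- the subgroup `Q wr T` -/
def W (h : WR D Pm) (Q : Subgroup K) (T : Subgroup (Perm (Fin n))) : Subgroup G where
  carrier := {g | ∃ A : Fin n → K, (∀ i, A i ∈ Q) ∧ ∃ π ∈ T, g = D A * Pm π}
  mul_mem' := by
    rintro _ _ ⟨A, hA, π, hπ, rfl⟩ ⟨A', hA', π', hπ', rfl⟩
    refine ⟨A * fun i => A' (π.symm i), fun i => Q.mul_mem (hA i) (hA' _), π * π', T.mul_mem hπ hπ', ?_⟩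
    rw [map_mul, map_mul, mul_assoc, ← mul_assoc (Pm π), h.comm]
    simp only [mul_assoc]
  one_mem' := ⟨1, fun i => Q.one_mem, 1, T.one_mem, by simp⟩
  inv_mem' := by
    rintro _ ⟨A, hA, π, hπ, rfl⟩
    refine ⟨fun i => (A (π i))⁻¹, fun i => Q.inv_mem (hA _), π⁻¹, T.inv_mem hπ, ?_⟩
    rw [mul_inv_rev, ← map_inv, ← map_inv, h.comm]
    rfl

variable (h : WR D Pm) (Q : Subgroup K) (T : Subgroup (Perm (Fin n)))

theorem mem_W {g : G} : g ∈ W h Q T ↔ ∃ A : Fin n → K, (∀ i, A i ∈ Q) ∧ ∃ π ∈ T, g = D A * Pm π := Iff.rfl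

theorem WR.uniq (h : WR D Pm) {A A' : Fin n → K} {π π' : Perm (Fin n)} (he : D A * Pm π = D A' * Pm π') : A = A' ∧ π = π' := by
  have h1 : D (A'⁻¹ * A) = Pm (π' * π⁻¹) := by
    rw [map_mul, map_mul, map_inv, map_inv, inv_mul_eq_iff_eq_mul, ← mul_assoc, ← he, mul_inv_cancel_right]
  obtain ⟨h2, h3⟩ := h.inj _ _ h1
  exact ⟨(inv_mul_eq_one.mp h2).symm, (mul_inv_eq_one.mp h3).symm⟩

theorem D_mem {A : Fin n → K} (hA : ∀ i, A i ∈ Q) : D A ∈ W h Q T := ⟨A, hA, 1, T.one_mem, by simp⟩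

theorem P_mem {π : Perm (Fin n)} (hπ : π ∈ T) : Pm π ∈ W h Q T := ⟨1, fun _ => Q.one_mem, π, hπ, by simp⟩

theorem card_W [Finite K] : Nat.card (W h Q T) = Nat.card Q ^ n * Nat.card T := by
  have e : (Fin n → Q) × T ≃ W h Q T := Equiv.ofBijective
    (fun p => ⟨D (fun i => (p.1 i : K)) * Pm (p.2 : Perm (Fin n)), fun i => (p.1 i : K), fun i => (p.1 i).2, _, p.2.2, rfl⟩) (by
    constructor
    · rintro ⟨A, π⟩ ⟨A', π'⟩ he
      obtain ⟨h1, h2⟩ := h.uniq (congrArg Subtype.val he)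
      refine Prod.ext ?_ (Subtype.ext h2)
      funext i
      exact Subtype.ext (congrFun h1 i)
    · rintro ⟨g, A, hA, π, hπ, rfl⟩
      exact ⟨(fun i => ⟨A i, hA i⟩, ⟨π, hπ⟩), rfl⟩)
  rw [← Nat.card_congr e, Nat.card_prod, Nat.card_fun, Nat.card_eq_fintype_card (α := Fin n), Fintype.card_fin]

/-- squares lie in the derived group -/
theorem W_se (hQ : ∀ a ∈ Q, a ^ 2 ∈ ⁅Q, Q⁆) (hT : T ≤ closure {t | t ∈ T ∧ t * t = 1}) : ∀ x ∈ W h Q T, x ^ 2 ∈ ⁅W h Q T, W h Q T⁆ := by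
  classical
  -- elements of the base group
  have hD : ∀ A : Fin n → K, (∀ i, A i ∈ Q) → (D A) ^ 2 ∈ ⁅W h Q T, W h Q T⁆ := by
    intro A hA
    have h1 : A ^ 2 ∈ ⁅Subgroup.pi Set.univ (fun _ : Fin n => Q), Subgroup.pi Set.univ (fun _ : Fin n => Q)⁆ := by
      rw [Subgroup.commutator_pi_pi_of_finite]
      intro i _
      exact hQ _ (hA i)
    have h2 : (D A) ^ 2 ∈ ⁅Subgroup.pi Set.univ (fun _ : Fin n => Q), Subgroup.pi Set.univ (fun _ : Fin n => Q)⁆.map D := by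
      rw [← map_pow]
      exact Subgroup.mem_map_of_mem _ h1
    rw [Subgroup.map_commutator] at h2
    have h3 : (Subgroup.pi Set.univ (fun _ : Fin n => Q)).map D ≤ W h Q T := by
      rintro _ ⟨A', hA', rfl⟩
      exact D_mem h Q T fun i => hA' i (Set.mem_univ i)
    exact Subgroup.commutator_mono h3 h3 h2
  -- the kernel of the squaring map
  let S : Subgroup (W h Q T) := ((powMonoidHom 2).comp (Abelianization.of (G := W h Q T))).ker
  have hS : ∀ x : W h Q T, x ∈ S ↔ (x : G) ^ 2 ∈ ⁅W h Q T, W h Q T⁆ := by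
    intro x
    rw [MonoidHom.mem_ker, MonoidHom.comp_apply, powMonoidHom_apply, ← map_pow, ← SubgroupClass.coe_pow]
    rw [← CfsgLib.SOm.mem_comm_iff]
    constructor
    · intro h1
      rw [← Abelianization.ker_of]
      exact h1
    · intro h1
      rw [← Abelianization.ker_of] at h1
      exact h1
  have hP : ∀ π (hπ : π ∈ T), (⟨Pm π, P_mem h Q T hπ⟩ : W h Q T) ∈ S := by
    intro π hπ
    have h1 := hT hπ
    refine Subgroup.closure_induction (p := fun π _ => ∀ hπ : π ∈ T, (⟨Pm π, P_mem h Q T hπ⟩ : W h Q T) ∈ S) ?_ ?_ ?_ ?_ h1 hπ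
    · rintro t ⟨ht, ht2⟩ ht'
      rw [hS]
      show (Pm t) ^ 2 ∈ _
      rw [pow_two, ← map_mul, ht2, map_one]
      exact one_mem _
    · intro h1
      rw [hS]
      show (Pm 1) ^ 2 ∈ _
      rw [map_one, one_pow]
      exact one_mem _
    · intro x y hx hy ihx ihy hxy
      have hT' : ∀ z ∈ closure {t | t ∈ T ∧ t * t = 1}, z ∈ T := fun z hz => (closure_le T).mpr (fun t ht => ht.1) hz
      have e : (⟨Pm (x * y), P_mem h Q T hxy⟩ : W h Q T) = ⟨Pm x, P_mem h Q T (hT' x hx)⟩ * ⟨Pm y, P_mem h Q T (hT' y hy)⟩ :=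
        Subtype.ext (map_mul Pm x y)
      rw [e]
      exact S.mul_mem (ihx (hT' x hx)) (ihy (hT' y hy))
    · intro x hx ih hxi
      have hxT : x ∈ T := by simpa using T.inv_mem hxi
      have e : (⟨Pm x⁻¹, P_mem h Q T hxi⟩ : W h Q T) = (⟨Pm x, P_mem h Q T hxT⟩ : W h Q T)⁻¹ := Subtype.ext (map_inv Pm x)
      rw [e]
      exact S.inv_mem (ih hxT)
  rintro x hx
  obtain ⟨A, hA, π, hπ, rfl⟩ := hx
  have h1 : (⟨D A, D_mem h Q T hA⟩ * ⟨Pm π, P_mem h Q T hπ⟩ : W h Q T) ∈ S :=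
    S.mul_mem ((hS _).mpr (hD A hA)) (hP π hπ)
  exact (hS _).mp h1

/-- a normal subgroup of the wreath product -/
theorem D_normal (Z : Subgroup K) (hZ : ∀ z ∈ Z, ∀ a ∈ Q, a * z * a⁻¹ = z) {g : G} (hg : g ∈ W h Q T) {A : Fin n → K} (hA : ∀ i, A i ∈ Z) :
    ∃ A' : Fin n → K, (∀ i, A' i ∈ Z) ∧ g * D A * g⁻¹ = D A' := by
  obtain ⟨B, hB, π, hπ, rfl⟩ := hg
  refine ⟨fun i => A (π.symm i), fun i => hA _, ?_⟩
  rw [mul_inv_rev, mul_assoc (D B), h.comm]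
  have h1 : D B * (D (fun i => A (π.symm i)) * Pm π) * ((Pm π)⁻¹ * (D B)⁻¹) = D (B * (fun i => A (π.symm i)) * B⁻¹) := by
    rw [map_mul, map_mul, map_inv]; group
  rw [h1]
  congr 1
  funext i
  exact hZ _ (hA _) _ (hB i)

end CfsgLib.H22Wr
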