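import Cfsg.Agent.LibH22Wr9

/-! Sylow 2-subgroups of `SL_2m(q)` (seat helper22). -/

namespace CfsgLib.H22Wr

open Equiv Subgroup Cfsg.Agent.H22 Module
open scoped commutatorElement

theorem se_inter {G : Type*} [Group G] [Finite G] (H N : Subgroup G) [N.Normal] (hp : IsPGroup 2 H) (hi : ¬ 2 ∣ H.index)
    (h : ∀ a ∈ H ⊓ N, a ∈ Sq (H ⊓ N)) : CfsgLib.SOm.SE' N := by
  refine ⟨H.subgroupOf N, hp.comap_of_injective _ N.subtype_injective, fun h => hi (h.trans (CfsgLib.SOm.relIndex_dvd H N)), ?_⟩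
  rintro ⟨x, hxN⟩ hx
  have h1 := (h x ⟨hx, hxN⟩).2
  have h2 : ⁅H ⊓ N, H ⊓ N⁆ = ⁅H.subgroupOf N, H.subgroupOf N⁆.map N.subtype := by
    rw [Subgroup.map_commutator, Subgroup.subgroupOf_map_subtype]
  rw [h2] at h1
  obtain ⟨y, hy, hyx⟩ := h1
  have h3 : y = (⟨x, hxN⟩ : N) ^ 2 := Subtype.ext hyx
  rwa [h3] at hy

/-- permutations of `T` -/
theorem perm_Sq {G : Type*} [Group G] {n : ℕ} {Pm : Perm (Fin n) →* G} {T : Subgroup (Perm (Fin n))} {P : Subgroup G}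
    (hT : T ≤ closure {t | t ∈ T ∧ t * t = 1}) (hP : ∀ π ∈ T, Pm π ∈ P) : ∀ π ∈ T, Pm π ∈ Sq P := by
  have h1 : T ≤ (Sq P).comap Pm := by
    refine hT.trans ?_
    rw [closure_le]
    rintro t ⟨ht, ht2⟩
    exact ⟨hP t ht, by rw [pow_two, ← map_mul, ht2, map_one]; exact one_mem _⟩
  exact fun π hπ => h1 hπ

section
variable {F : Type*} [Field F] [Fintype F] (hF : Odd (Fintype.card F))
include hF

/-- the case `q ≡ 3 (mod 4)` -/
theorem se_sl_even (hq : Fintype.card F % 4 = 3) (m : ℕ) : CfsgLib.SOm.SE' (Matrix.SpecialLinearGroup (Fin (2 * m)) F) := by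
  haveI : Fact (Nat.Prime 2) := ⟨Nat.prime_two⟩
  obtain ⟨T, hT, hTg⟩ := CfsgLib.SOm.exists_T m
  rw [Nat.card_eq_fintype_card (α := Fin m), Fintype.card_fin] at hT
  obtain ⟨Q, t, htQ, htt, hdt, hdet, hQ0⟩ := exists_Q hF hq
  obtain ⟨hp, hi⟩ := WG2_sylow hF m Q T hT
  haveI : Finite ((Fin m → Fin 2 → F) ≃ₗ[F] (Fin m → Fin 2 → F)) := finite_glV
  obtain ⟨e⟩ := nonempty_sl (F := F) (V := (Fin m → Fin 2 → F)) (N := 2 * m) (by rw [Module.finrank_pi_fintype]; simp [mul_comm])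
  refine CfsgLib.SOm.SE'.congr e (se_inter _ _ hp hi ?_)
  have hN : ∀ A : Fin m → ((Fin 2 → F) ≃ₗ[F] (Fin 2 → F)), (∀ i, A i ∈ (Q : Subgroup ((Fin 2 → F) ≃ₗ[F] (Fin 2 → F)))) → ∏ i, LinearEquiv.det (A i) = 1 →
      dG F (Fin 2 → F) m A ∈ W (wrG F (Fin 2 → F) m) (Q : Subgroup ((Fin 2 → F) ≃ₗ[F] (Fin 2 → F))) T ⊓ (LinearEquiv.det : ((Fin m → Fin 2 → F) ≃ₗ[F] (Fin m → Fin 2 → F)) →* Fˣ).ker := by
    intro A hA hA1
    refine ⟨D_mem _ _ _ hA, MonoidHom.mem_ker.mpr ?_⟩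
    rw [det_dG, hA1]
  rintro x ⟨⟨A, hA, π, hπ, rfl⟩, hx⟩
  replace hx := MonoidHom.mem_ker.mp hx
  rw [map_mul, det_dG, det_pG2, mul_one] at hx
  classical
  -- decomposition
  let τ : Fin m → ((Fin 2 → F) ≃ₗ[F] (Fin 2 → F)) := fun i => if LinearEquiv.det (A i) = 1 then 1 else t
  have hτdet : ∀ i, LinearEquiv.det (τ i) = LinearEquiv.det (A i) := by
    intro i
    by_cases h : LinearEquiv.det (A i) = 1
    · show LinearEquiv.det (if LinearEquiv.det (A i) = 1 then 1 else t) = _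
      rw [if_pos h, map_one, h]
    · show LinearEquiv.det (if LinearEquiv.det (A i) = 1 then 1 else t) = _
      rw [if_neg h, hdt, (hdet _ (hA i)).resolve_left h]
  have hττ : ∀ i, τ i * τ i = 1 := by
    intro i
    by_cases h : LinearEquiv.det (A i) = 1
    · show (if LinearEquiv.det (A i) = 1 then (1 : (Fin 2 → F) ≃ₗ[F] (Fin 2 → F)) else t) * (if LinearEquiv.det (A i) = 1 then 1 else t) = 1
      rw [if_pos h, one_mul]
    · show (if LinearEquiv.det (A i) = 1 then (1 : (Fin 2 → F) ≃ₗ[F] (Fin 2 → F)) else t) * (if LinearEquiv.det (A i) = 1 then 1 else t) = 1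
      rw [if_neg h, htt]
  have hτQ : ∀ i, τ i ∈ (Q : Subgroup ((Fin 2 → F) ≃ₗ[F] (Fin 2 → F))) := by
    intro i
    by_cases h : LinearEquiv.det (A i) = 1
    · show (if LinearEquiv.det (A i) = 1 then (1 : (Fin 2 → F) ≃ₗ[F] (Fin 2 → F)) else t) ∈ _
      rw [if_pos h]; exact one_mem _
    · show (if LinearEquiv.det (A i) = 1 then (1 : (Fin 2 → F) ≃ₗ[F] (Fin 2 → F)) else t) ∈ _
      rw [if_neg h]; exact htQ
  have hdec : dG F (Fin 2 → F) m A * pG F (Fin 2 → F) m π = dG F (Fin 2 → F) m (A * τ) * dG F (Fin 2 → F) m τ * pG F (Fin 2 → F) m π := by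
    rw [← map_mul, mul_assoc A]
    have : τ * τ = 1 := funext hττ
    rw [this, mul_one]
  rw [hdec]
  refine (Sq _).mul_mem ((Sq _).mul_mem ?_ ?_) ?_
  · refine ⟨hN _ (fun i => mul_mem (hA i) (hτQ i)) ?_, ?_⟩
    · refine Finset.prod_eq_one fun i _ => ?_
      show LinearEquiv.det (A i * τ i) = 1
      rw [map_mul, ← hτdet, ← map_mul, hττ, map_one]
    · have h1 : (A * τ) ^ 2 ∈ ⁅Subgroup.pi Set.univ (fun _ : Fin m => (Q : Subgroup ((Fin 2 → F) ≃ₗ[F] (Fin 2 → F))) ⊓ (LinearEquiv.det : ((Fin 2 → F) ≃ₗ[F] (Fin 2 → F)) →* Fˣ).ker),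
          Subgroup.pi Set.univ (fun _ : Fin m => (Q : Subgroup ((Fin 2 → F) ≃ₗ[F] (Fin 2 → F))) ⊓ (LinearEquiv.det : ((Fin 2 → F) ≃ₗ[F] (Fin 2 → F)) →* Fˣ).ker)⁆ := by
        rw [Subgroup.commutator_pi_pi_of_finite]
        intro i _
        refine hQ0 _ ⟨mul_mem (hA i) (hτQ i), MonoidHom.mem_ker.mpr ?_⟩
        show LinearEquiv.det (A i * τ i) = 1
        rw [map_mul, ← hτdet, ← map_mul, hττ, map_one]
      have h2 := Subgroup.mem_map_of_mem (dG F (Fin 2 → F) m) h1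
      rw [Subgroup.map_commutator, map_pow] at h2
      have h3 : (Subgroup.pi Set.univ (fun _ : Fin m => (Q : Subgroup ((Fin 2 → F) ≃ₗ[F] (Fin 2 → F))) ⊓ (LinearEquiv.det : ((Fin 2 → F) ≃ₗ[F] (Fin 2 → F)) →* Fˣ).ker)).map (dG F (Fin 2 → F) m) ≤
          W (wrG F (Fin 2 → F) m) (Q : Subgroup ((Fin 2 → F) ≃ₗ[F] (Fin 2 → F))) T ⊓ (LinearEquiv.det : ((Fin m → Fin 2 → F) ≃ₗ[F] (Fin m → Fin 2 → F)) →* Fˣ).ker := by
        rintro _ ⟨B, hB, rfl⟩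
        exact hN B (fun i => (hB i (Set.mem_univ i)).1) (Finset.prod_eq_one fun i _ => (hB i (Set.mem_univ i)).2)
      exact Subgroup.commutator_mono h3 h3 h2
  · refine ⟨hN _ hτQ ?_, ?_⟩
    · rw [← hx]
      exact Finset.prod_congr rfl fun i _ => hτdet i
    · rw [pow_two, ← map_mul]
      have : τ * τ = 1 := funext hττ
      rw [this, map_one]
      exact one_mem _
  · exact perm_Sq (Pm := pG F (Fin 2 → F) m) hTg (fun σ hσ => Subgroup.mem_inf.mpr ⟨P_mem _ _ _ hσ, MonoidHom.mem_ker.mpr (det_pG2 σ)⟩) π hπ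

end

end CfsgLib.H22Wr
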