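import Cfsg.Agent.LibH22Wr10

/-! Sylow 2-subgroups of `SL_n(q)`, `n` a power of two, `q ≡ 1 (mod 4)` (seat helper22). -/

namespace CfsgLib.H22Wr

open Equiv Subgroup Cfsg.Agent.H22 Module
open scoped commutatorElement

/-- a Sylow 2-subgroup of `S_N`, `N = 2^r`, containing a regular elementary abelian group -/
theorem exists_T2 (r : ℕ) (hr : 2 ≤ r) : ∃ T : Subgroup (Perm (Fin (2 ^ r))), Nat.card T = 2 ^ padicValNat 2 (2 ^ r).factorial ∧
    T ≤ closure {t | t ∈ T ∧ t * t = 1} ∧ ∀ i j : Fin (2 ^ r), i ≠ j → ∃ π ∈ T, Perm.sign π = 1 ∧ π i = j ∧ π j = i := by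
  haveI : Fact (Nat.Prime 2) := ⟨Nat.prime_two⟩
  classical
  obtain ⟨T0, hT0, hT0g⟩ := CfsgLib.SOm.exists_T (2 ^ r)
  rw [Nat.card_eq_fintype_card (α := Fin (2 ^ r)), Fintype.card_fin] at hT0
  have hcard : Nat.card (Perm (Fin (2 ^ r))) = (2 ^ r).factorial := by
    rw [Nat.card_eq_fintype_card, Fintype.card_perm, Fintype.card_fin]
  obtain ⟨hp0, hi0⟩ := sylow_of_card T0 (by rw [hcard]; exact hT0)
  -- the regular group
  obtain ⟨e⟩ : Nonempty ((Fin r → ZMod 2) ≃ Fin (2 ^ r)) := by
    refine ⟨Fintype.equivOfCardEq ?_⟩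
    simp
  let tr : (Fin r → ZMod 2) → Perm (Fin (2 ^ r)) := fun v => (e.symm.trans (Equiv.addLeft v)).trans e
  have tr_apply : ∀ v x, tr v x = e (v + e.symm x) := fun v x => rfl
  have tr_mul : ∀ v w, tr v * tr w = tr (v + w) := by
    intro v w
    apply Equiv.ext
    intro x
    rw [Perm.mul_apply, tr_apply, tr_apply, tr_apply, e.symm_apply_apply, add_assoc]
  have tr_zero : tr 0 = 1 := by
    apply Equiv.ext
    intro x
    rw [tr_apply, zero_add, e.apply_symm_apply]; rfl
  have hvv : ∀ v : Fin r → ZMod 2, v + v = 0 := by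
    intro v
    funext i
    exact CharTwo.add_self_eq_zero (v i)
  let E : Subgroup (Perm (Fin (2 ^ r))) :=
    { carrier := Set.range tr
      mul_mem' := by rintro _ _ ⟨v, rfl⟩ ⟨w, rfl⟩; exact ⟨v + w, (tr_mul v w).symm⟩
      one_mem' := ⟨0, tr_zero⟩
      inv_mem' := by
        rintro _ ⟨v, rfl⟩
        refine ⟨v, ?_⟩
        rw [eq_comm, inv_eq_iff_mul_eq_one, tr_mul, hvv, tr_zero] }
  have hE : IsPGroup 2 E := by
    rintro ⟨_, v, rfl⟩
    refine ⟨1, Subtype.ext ?_⟩
    show (tr v) ^ (2 ^ 1) = 1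
    rw [pow_one, pow_two, tr_mul, hvv, tr_zero]
  obtain ⟨T, hT⟩ := hE.exists_le_sylow
  obtain ⟨g, hg⟩ := MulAction.exists_smul_eq (Perm (Fin (2 ^ r))) (hp0.toSylow hi0) T
  have hTg : (T : Subgroup (Perm (Fin (2 ^ r)))) = T0.map (MulAut.conj g).toMonoidHom := by
    rw [← hg]; rfl
  refine ⟨T, ?_, ?_, ?_⟩
  · rw [← hT0, hTg]
    exact Nat.card_congr (Subgroup.equivMapOfInjective _ _ (MulAut.conj g).injective).toEquiv.symm
  · rw [hTg]
    refine (Subgroup.map_mono hT0g).trans ?_
    rw [MonoidHom.map_closure, closure_le]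
    rintro _ ⟨t, ⟨h1, h2⟩, rfl⟩
    refine subset_closure ⟨mem_map_of_mem _ h1, ?_⟩
    rw [← map_mul, h2, map_one]
  · intro i j hij
    refine ⟨tr (e.symm j - e.symm i), hT ⟨_, rfl⟩, ?_, ?_, ?_⟩
    · set v := e.symm j - e.symm i with hv
      have hv0 : v ≠ 0 := by
        intro h
        apply hij
        apply e.symm.injective
        exact (sub_eq_zero.mp h).symm
      have hfix : ∀ x, tr v x ≠ x := by
        intro x hx
        rw [tr_apply] at hx
        have := congrArg e.symm hx
        rw [e.symm_apply_apply] at this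
        exact hv0 (by simpa using this)
      have hord : orderOf (tr v) = 2 := by
        apply orderOf_eq_prime
        · rw [pow_two, tr_mul, hvv, tr_zero]
        · intro h
          exact hfix (e 0) (by rw [h]; rfl)
      obtain ⟨n, hn⟩ := Perm.cycleType_prime_order (σ := tr v) (by rw [hord]; exact Nat.prime_two)
      have hsum := Perm.sum_cycleType (tr v)
      rw [hn, hord, Multiset.sum_replicate, smul_eq_mul] at hsum
      have hsupp : (tr v).support.card = 2 ^ r := by
        have : (tr v).support = Finset.univ := by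
          ext x
          simp [hfix x]
        rw [this, Finset.card_univ, Fintype.card_fin]
      rw [hsupp] at hsum
      rw [Perm.sign_of_cycleType, hn, hord, Multiset.sum_replicate, Multiset.card_replicate, smul_eq_mul, hsum]
      have h4 : n + 1 = 2 ^ (r - 1) := by
        have : 2 ^ r = 2 ^ (r - 1) * 2 := by rw [← pow_succ]; congr 1; omega
        omega
      rw [h4]
      apply Even.neg_one_pow
      apply Even.add
      · exact (Nat.even_pow.mpr ⟨even_two, by omega⟩)
      · exact (Nat.even_pow.mpr ⟨even_two, by omega⟩)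
    · rw [tr_apply, sub_add_cancel, e.apply_symm_apply]
    · rw [tr_apply]
      have : e.symm j - e.symm i + e.symm j = e.symm i := by
        have h1 := hvv (e.symm j)
        have h2 := hvv (e.symm i)
        have h3 : e.symm j - e.symm i + e.symm j = (e.symm j + e.symm j) - (e.symm i + e.symm i) + e.symm i := by abel
        rw [h3, h1, h2]; simp
      rw [this, e.apply_symm_apply]

section
variable {F : Type*} [Field F] {n : ℕ}

/-- diagonal matrices -/
noncomputable def dU (F : Type*) [Field F] (n : ℕ) : (Fin n → Fˣ) →* ((Fin n → F) ≃ₗ[F] (Fin n → F)) where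
  toFun A := LinearEquiv.piCongrRight fun i => LinearEquiv.smulOfUnit (A i)
  map_one' := by
    apply LinearEquiv.ext
    intro v
    funext i
    show ((1 : Fˣ) • v i : F) = v i
    rw [one_smul]
  map_mul' A B := by
    apply LinearEquiv.ext
    intro v
    funext i
    show ((A i * B i : Fˣ) • v i : F) = A i • B i • v i
    rw [mul_smul]

theorem dU_apply (A : Fin n → Fˣ) (v : Fin n → F) (i : Fin n) : dU F n A v i = (A i : F) * v i := rfl

theorem wrU (F : Type*) [Field F] (n : ℕ) : WR (dU F n) (pG F F n) where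
  conj π A := by
    apply LinearEquiv.ext
    intro v
    rw [← map_inv]
    funext i
    rw [LinearEquiv.mul_apply, LinearEquiv.mul_apply, pG_apply, dU_apply, dU_apply, pG_apply]
    have : (π⁻¹).symm (π.symm i) = i := π.apply_symm_apply i
    rw [this]
  inj A π h1 := by
    classical
    have hπ : π = 1 := by
      apply Equiv.ext
      intro i
      by_contra hne
      have h2 := congrFun (LinearEquiv.congr_fun h1 (Pi.single i 1)) (π i)
      have hne' : π i ≠ i := hne
      rw [dU_apply, pG_apply, Equiv.symm_apply_apply, Pi.single_eq_same, Pi.single_eq_of_ne hne', mul_zero] at h2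
      exact zero_ne_one h2
    refine ⟨?_, hπ⟩
    rw [hπ, map_one] at h1
    funext i
    apply Units.ext
    have h2 := congrFun (LinearEquiv.congr_fun h1 (Pi.single i 1)) i
    rw [dU_apply, Pi.single_eq_same, mul_one] at h2
    rw [h2]
    show (Pi.single i 1 : Fin n → F) i = 1
    rw [Pi.single_eq_same]

theorem det_dU (A : Fin n → Fˣ) : LinearEquiv.det (dU F n A) = ∏ i, A i := by
  apply Units.ext
  rw [LinearEquiv.coe_det, Units.coe_prod]
  refine Eq.trans (LinearMap.det_pi (fun i => ((LinearEquiv.smulOfUnit (A i) : F ≃ₗ[F] F) : F →ₗ[F] F))) ?_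
  refine Finset.prod_congr rfl fun i _ => ?_
  rw [LinearMap.det_ring]
  show (A i : F) * 1 = _
  rw [mul_one]

end

end CfsgLib.H22Wr
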