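import Cfsg.Agent.LibH22Wr11

/-! Sylow 2-subgroups of `SL_n(q)`, `n` a power of two, `q ≡ 1 (mod 4)`: the main argument (seat helper22). -/

namespace CfsgLib.H22Wr

open Equiv Subgroup Cfsg.Agent.H22 Module
open scoped commutatorElement

section
variable {F : Type*} [Field F] [Fintype F] (hF : Odd (Fintype.card F))

/-- exists a Sylow subgroup containing a square root of `-1` -/
theorem exists_C (hq : Fintype.card F % 4 = 1) : ∃ (C : Sylow 2 Fˣ) (c : Fˣ), c ∈ C ∧ c * c = -1 := by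
  haveI : Fact (Nat.Prime 2) := ⟨Nat.prime_two⟩
  obtain ⟨c, hc⟩ := FiniteField.isSquare_neg_one_iff.mpr (show Fintype.card F % 4 ≠ 3 by omega)
  have hc0 : c ≠ 0 := by
    intro h
    rw [h, mul_zero] at hc
    exact neg_ne_zero.mpr one_ne_zero hc
  let u : Fˣ := Units.mk0 c hc0
  have hu : u * u = -1 := by
    apply Units.ext
    push_cast
    exact hc.symm
  have hp : IsPGroup 2 (Subgroup.zpowers u) := by
    rintro ⟨z, hz⟩
    obtain ⟨k, rfl⟩ := Subgroup.mem_zpowers_iff.mp hz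
    refine ⟨2, Subtype.ext ?_⟩
    show (u ^ k) ^ (2 ^ 2) = 1
    rw [← zpow_natCast, ← zpow_mul, mul_comm, zpow_mul]
    have : u ^ (((2 ^ 2 : ℕ)) : ℤ) = 1 := by
      rw [zpow_natCast]
      have : u ^ (2 ^ 2) = (u * u) * (u * u) := by
        rw [← pow_two, ← pow_two u, ← pow_mul]
        norm_num
      rw [this, hu]; simp
    rw [this, one_zpow]
  obtain ⟨C, hC⟩ := hp.exists_le_sylow
  exact ⟨C, u, hC (Subgroup.mem_zpowers u), hu⟩

include hF in
theorem WU_sylow (n : ℕ) (hq : Fintype.card F % 4 = 1) (P : Sylow 2 Fˣ) (T : Subgroup (Perm (Fin n))) (hT : Nat.card T = 2 ^ padicValNat 2 n.factorial) :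
    IsPGroup 2 (W (wrU F n) P T) ∧ ¬ 2 ∣ (W (wrU F n) P T).index := by
  have : Fact (Nat.Prime 2) := ⟨Nat.prime_two⟩
  have h1 : 1 < Fintype.card F := Fintype.one_lt_card
  haveI : Finite ((Fin n → F) ≃ₗ[F] (Fin n → F)) := finite_glV
  apply sylow_of_card
  have hvq : vq (Fintype.card F) = padicValNat 2 (Fintype.card F - 1) + 1 := by
    unfold vq
    obtain ⟨y, hy⟩ : ∃ y, Fintype.card F + 1 = 2 * y := ⟨(Fintype.card F + 1) / 2, by omega⟩
    rw [hy, padicValNat.mul (by norm_num) (by omega), padicValNat.self (by norm_num), padicValNat.eq_zero_of_not_dvd (by omega)]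
    ring
  have hfac : padicValNat 2 n.factorial = n / 2 + padicValNat 2 (n / 2).factorial := by
    rcases Nat.even_or_odd' n with ⟨r, hr | hr⟩
    · rw [hr, CfsgLib.SOm.val_two_mul, show 2 * r / 2 = r by omega]
    · rw [hr, CfsgLib.SOm.val_two_mul_add_one, show (2 * r + 1) / 2 = r by omega]
  rw [card_W, hT, card_glV (N := n) (by simp), val_gl hF h1, P.card_eq_multiplicity,
    Nat.factorization_def _ Nat.prime_two, Nat.card_units, Nat.card_eq_fintype_card, ← pow_mul, ← pow_add, hfac, hvq]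
  congr 1
  have h5 : (n + 1) / 2 + n / 2 = n := by omega
  calc padicValNat 2 (Fintype.card F - 1) * n + (n / 2 + padicValNat 2 (n / 2).factorial)
      = padicValNat 2 (Fintype.card F - 1) * ((n + 1) / 2 + n / 2) + (n / 2 + padicValNat 2 (n / 2).factorial) := by rw [h5]
    _ = _ := by ring

/-- the element with entries `c`, `c⁻¹` -/
noncomputable def be {n : ℕ} (i j : Fin n) (c : Fˣ) : Fin n → Fˣ := Pi.mulSingle i c * Pi.mulSingle j c⁻¹

theorem be_apply {n : ℕ} {i j : Fin n} {c : Fˣ} (x : Fin n) : be i j c x = (if x = i then c else 1) * (if x = j then c⁻¹ else 1) := by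
  unfold be
  rw [Pi.mul_apply, Pi.mulSingle_apply, Pi.mulSingle_apply]

theorem be_prod {n : ℕ} {i j : Fin n} {c : Fˣ} : ∏ x, be i j c x = 1 := by
  unfold be
  simp only [Pi.mul_apply]
  rw [Finset.prod_mul_distrib, Finset.prod_pi_mulSingle', Finset.prod_pi_mulSingle']
  simp

theorem be_perm {n : ℕ} {i j : Fin n} {c : Fˣ} {π : Perm (Fin n)} (h1 : π i = j) (h2 : π j = i) (hij : i ≠ j) :
    (fun x => be i j c (π.symm x)) = (be i j c)⁻¹ := by
  funext x
  rw [Pi.inv_apply, be_apply, be_apply]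
  by_cases hx : x = i
  · have : π.symm x = j := by rw [hx, Equiv.symm_apply_eq]; exact h2.symm
    rw [this, if_neg hij.symm, if_pos rfl, if_pos hx, if_neg (by rw [hx]; exact hij)]
    simp
  · by_cases hx' : x = j
    · have : π.symm x = i := by rw [hx', Equiv.symm_apply_eq]; exact h1.symm
      rw [this, if_pos rfl, if_neg hij, if_neg hx, if_pos hx']
      simp
    · have e1 : π.symm x ≠ i := by
        intro h; rw [Equiv.symm_apply_eq] at h; exact hx' (h.trans h1)
      have e2 : π.symm x ≠ j := by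
        intro h; rw [Equiv.symm_apply_eq] at h; exact hx (h.trans h2)
      rw [if_neg e1, if_neg e2, if_neg hx, if_neg hx']
      simp

include hF in
theorem se_sl_one (hq : Fintype.card F % 4 = 1) (r : ℕ) (hr : 2 ≤ r) : CfsgLib.SOm.SE' (Matrix.SpecialLinearGroup (Fin (2 ^ r)) F) := by
  classical
  haveI : Fact (Nat.Prime 2) := ⟨Nat.prime_two⟩
  obtain ⟨T, hT, hTg, hTs⟩ := exists_T2 r hr
  obtain ⟨C, c0, hc0, hcc⟩ := exists_C (F := F) hq
  obtain ⟨hp, hi⟩ := WU_sylow hF (2 ^ r) hq C T hT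
  haveI : Finite ((Fin (2 ^ r) → F) ≃ₗ[F] (Fin (2 ^ r) → F)) := finite_glV
  obtain ⟨e⟩ := nonempty_sl (F := F) (V := (Fin (2 ^ r) → F)) (N := 2 ^ r) (by simp)
  refine CfsgLib.SOm.SE'.congr e (se_inter _ _ hp hi ?_)
  have hwr := wrU F (2 ^ r)
  obtain ⟨P1, hP1⟩ : ∃ P1 : Subgroup ((Fin (2 ^ r) → F) ≃ₗ[F] (Fin (2 ^ r) → F)), P1 = W (wrU F (2 ^ r)) (C : Subgroup Fˣ) T ⊓ (LinearEquiv.det : ((Fin (2 ^ r) → F) ≃ₗ[F] (Fin (2 ^ r) → F)) →* Fˣ).ker := ⟨_, rfl⟩
  have mP1 : ∀ (A : Fin (2 ^ r) → Fˣ) (π : Perm (Fin (2 ^ r))), (∀ i, A i ∈ (C : Subgroup Fˣ)) → π ∈ T →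
      LinearEquiv.det (dU F (2 ^ r) A * pG F F (2 ^ r) π) = 1 → dU F (2 ^ r) A * pG F F (2 ^ r) π ∈ P1 := by
    intro A π hA hπ hd
    rw [hP1]
    exact Subgroup.mem_inf.mpr ⟨⟨A, hA, π, hπ, rfl⟩, MonoidHom.mem_ker.mpr hd⟩
  have mD : ∀ (A : Fin (2 ^ r) → Fˣ), (∀ i, A i ∈ (C : Subgroup Fˣ)) → ∏ i, A i = 1 → dU F (2 ^ r) A ∈ P1 := by
    intro A hA hd
    have := mP1 A 1 hA T.one_mem (by rw [map_one, mul_one, det_dU, hd])
    rwa [map_one, mul_one] at this
  have detP : ∀ π : Perm (Fin (2 ^ r)), (LinearEquiv.det (pG F F (2 ^ r) π) : Fˣ) = Units.map (Int.castRingHom F).toMonoidHom (Perm.sign π) := by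
    intro π
    apply Units.ext
    rw [det_pG1]; rfl
  -- (a)
  have ha : ∀ i j, i ≠ j → ∀ c ∈ (C : Subgroup Fˣ), dU F (2 ^ r) (be i j c) ∈ Sq P1 := by
    intro i j hij c hc
    have hbC : ∀ x, be i j c x ∈ (C : Subgroup Fˣ) := by
      intro x
      rw [be_apply]
      refine mul_mem ?_ ?_
      · split_ifs
        · exact hc
        · exact one_mem _
      · split_ifs
        · exact inv_mem hc
        · exact one_mem _
    obtain ⟨π, hπ, hs, h1, h2⟩ := hTs i j hij
    have hmem := mD _ hbC be_prod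
    have hpm : pG F F (2 ^ r) π ∈ P1 := by
      have := mP1 1 π (fun _ => one_mem _) hπ (by rw [map_one, one_mul, detP, hs, map_one])
      rwa [map_one, one_mul] at this
    refine ⟨hmem, ?_⟩
    have h3 : (dU F (2 ^ r) (be i j c)) ^ 2 = ⁅dU F (2 ^ r) (be i j c), pG F F (2 ^ r) π⁆ := by
      have h4 := hwr.conj π (be i j c)
      rw [be_perm h1 h2 hij, map_inv] at h4
      have h5 : ⁅dU F (2 ^ r) (be i j c), pG F F (2 ^ r) π⁆ = dU F (2 ^ r) (be i j c) * (pG F F (2 ^ r) π * dU F (2 ^ r) (be i j c) * (pG F F (2 ^ r) π)⁻¹)⁻¹ := by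
        rw [commutatorElement_def]; group
      rw [h5, h4, inv_inv, pow_two]
    rw [h3]
    exact Subgroup.commutator_mem_commutator hmem hpm
  -- (b)
  have i0 : Fin (2 ^ r) := ⟨0, by positivity⟩
  have hb : ∀ A : Fin (2 ^ r) → Fˣ, (∀ i, A i ∈ (C : Subgroup Fˣ)) → ∏ i, A i = 1 → dU F (2 ^ r) A ∈ Sq P1 := by
    intro A hA hd
    have h1 : A = ∏ i, be i i0 (A i) := by
      unfold be
      rw [Finset.prod_mul_distrib, Finset.univ_prod_mulSingle]
      have h2 : ∏ i, (Pi.mulSingle i0 (A i)⁻¹ : Fin (2 ^ r) → Fˣ) = 1 := by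
        have h3 : ∀ s : Finset (Fin (2 ^ r)), ∏ i ∈ s, (Pi.mulSingle i0 (A i)⁻¹ : Fin (2 ^ r) → Fˣ) = Pi.mulSingle i0 (∏ i ∈ s, A i)⁻¹ := by
          intro s
          induction s using Finset.induction_on with
          | empty => simp
          | insert a s ha ih => rw [Finset.prod_insert ha, ih, Finset.prod_insert ha, mul_inv, Pi.mulSingle_mul]
        rw [h3, hd, inv_one, Pi.mulSingle_one]
      rw [h2, mul_one]
    have h2 : ∏ i, be i i0 (A i) ∈ (Sq P1).comap (dU F (2 ^ r)) := by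
      apply Subgroup.prod_mem
      intro i _
      by_cases hi0 : i = i0
      · have : be i i0 (A i) = 1 := by
          rw [hi0]; unfold be; rw [← Pi.mulSingle_mul, mul_inv_cancel, Pi.mulSingle_one]
        rw [this]; exact one_mem _
      · exact ha i i0 hi0 _ (hA i)
    rw [h1]; exact h2
  -- (c)
  have hcl : ∀ π ∈ T, ∃ A : Fin (2 ^ r) → Fˣ, (∀ i, A i ∈ (C : Subgroup Fˣ)) ∧ dU F (2 ^ r) A * pG F F (2 ^ r) π ∈ Sq P1 := by
    let L : Subgroup (Perm (Fin (2 ^ r))) :=
      { carrier := {π | ∃ A : Fin (2 ^ r) → Fˣ, (∀ i, A i ∈ (C : Subgroup Fˣ)) ∧ dU F (2 ^ r) A * pG F F (2 ^ r) π ∈ Sq P1}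
        mul_mem' := by
          rintro π π' ⟨A, hA, h⟩ ⟨A', hA', h'⟩
          refine ⟨A * fun i => A' (π.symm i), fun i => mul_mem (hA i) (hA' _), ?_⟩
          have h3 := (Sq P1).mul_mem h h'
          have h4 : dU F (2 ^ r) A * pG F F (2 ^ r) π * (dU F (2 ^ r) A' * pG F F (2 ^ r) π') = dU F (2 ^ r) (A * fun i => A' (π.symm i)) * pG F F (2 ^ r) (π * π') := by
            rw [map_mul, map_mul, mul_assoc, ← mul_assoc (pG F F (2 ^ r) π), hwr.comm]
            simp only [mul_assoc]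
          rwa [h4] at h3
        one_mem' := ⟨1, fun _ => one_mem _, by rw [map_one, map_one, one_mul]; exact one_mem _⟩
        inv_mem' := by
          rintro π ⟨A, hA, h⟩
          refine ⟨fun i => (A (π i))⁻¹, fun i => inv_mem (hA _), ?_⟩
          have h3 := (Sq P1).inv_mem h
          have h4 : (dU F (2 ^ r) A * pG F F (2 ^ r) π)⁻¹ = dU F (2 ^ r) (fun i => (A (π i))⁻¹) * pG F F (2 ^ r) π⁻¹ := by
            rw [mul_inv_rev, ← map_inv, ← map_inv, hwr.comm]
            rfl
          rwa [h4] at h3 }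
    have hTL : T ≤ L := by
      refine hTg.trans ?_
      rw [closure_le]
      rintro t ⟨ht, ht2⟩
      rcases Int.units_eq_one_or (Perm.sign t) with hs | hs
      · refine ⟨1, fun _ => one_mem _, ?_⟩
        rw [map_one, one_mul]
        refine ⟨?_, by rw [pow_two, ← map_mul, ht2, map_one]; exact one_mem _⟩
        have := mP1 1 t (fun _ => one_mem _) ht (by rw [map_one, one_mul, detP, hs, map_one])
        rwa [map_one, one_mul] at this
      · obtain ⟨i, hti⟩ : ∃ i, t i ≠ i := by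
          by_contra hcon
          push Not at hcon
          have : t = 1 := Equiv.ext hcon
          rw [this, map_one] at hs
          exact absurd hs (by decide)
        have hneg : (-1 : Fˣ) ∈ (C : Subgroup Fˣ) := by
          rw [← hcc]; exact mul_mem hc0 hc0
        refine ⟨Pi.mulSingle i (-1), fun x => ?_, ?_, ?_⟩
        · rw [Pi.mulSingle_apply]
          split_ifs
          · exact hneg
          · exact one_mem _
        · apply mP1 _ _ _ ht
          · rw [map_mul, det_dU, Finset.prod_pi_mulSingle', detP, hs, if_pos (Finset.mem_univ _)]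
            apply Units.ext
            simp
          · intro x
            rw [Pi.mulSingle_apply]
            split_ifs
            · exact hneg
            · exact one_mem _
        · -- the square
          have htt : ∀ x, t (t x) = x := fun x => Equiv.congr_fun ht2 x
          have hsq : (dU F (2 ^ r) (Pi.mulSingle i (-1)) * pG F F (2 ^ r) t) ^ 2 = (dU F (2 ^ r) (be i (t i) c0)) ^ 2 := by
            rw [pow_two, mul_assoc, ← mul_assoc (pG F F (2 ^ r) t), hwr.comm, mul_assoc (dU F (2 ^ r) _), ← map_mul (pG F F (2 ^ r)), ht2, map_one, mul_one,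
              ← map_mul, ← map_pow]
            congr 1
            funext x
            rw [Pi.mul_apply, Pi.pow_apply, be_apply, Pi.mulSingle_apply, Pi.mulSingle_apply]
            have hinv : (c0⁻¹) ^ 2 = -1 := by
              rw [inv_pow, pow_two, hcc]; simp
            by_cases hx : x = i
            · have hx1 : ¬ t.symm x = i := by
                rw [Equiv.symm_apply_eq, hx]; exact fun h => hti h.symm
              have hx2 : ¬ x = t i := by rw [hx]; exact fun h => hti h.symm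
              rw [if_pos hx, if_neg hx1, if_pos hx, if_neg hx2, mul_one, mul_one, pow_two, hcc]
            · by_cases hx' : x = t i
              · have hx1 : t.symm x = i := by rw [Equiv.symm_apply_eq]; exact hx'
                rw [if_neg hx, if_pos hx1, if_neg hx, if_pos hx', one_mul, one_mul, hinv]
              · have hx1 : ¬ t.symm x = i := by rw [Equiv.symm_apply_eq]; exact hx'
                rw [if_neg hx, if_neg hx1, if_neg hx, if_neg hx', one_mul, one_pow]
          rw [hsq]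
          exact (ha i (t i) (fun h => hti h.symm) c0 hc0).2
    exact fun π hπ => hTL hπ
  rw [← hP1]
  intro x hx
  have hx' := hx
  rw [hP1] at hx'
  obtain ⟨⟨A, hA, π, hπ, rfl⟩, -⟩ := Subgroup.mem_inf.mp hx'
  obtain ⟨A', hA', h'⟩ := hcl π hπ
  have h3 : dU F (2 ^ r) (A * A'⁻¹) ∈ P1 := by
    have h4 : dU F (2 ^ r) (A * A'⁻¹) = (dU F (2 ^ r) A * pG F F (2 ^ r) π) * (dU F (2 ^ r) A' * pG F F (2 ^ r) π)⁻¹ := by
      rw [map_mul, map_inv]; group
    rw [h4]
    exact P1.mul_mem hx (P1.inv_mem h'.1)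
  have h4 : ∏ i, (A * A'⁻¹) i = 1 := by
    rw [hP1] at h3
    have := MonoidHom.mem_ker.mp (Subgroup.mem_inf.mp h3).2
    rwa [det_dU] at this
  have h5 := hb (A * A'⁻¹) (fun i => mul_mem (hA i) (inv_mem (hA' i))) h4
  have h6 := (Sq P1).mul_mem h5 h'
  have h7 : dU F (2 ^ r) (A * A'⁻¹) * (dU F (2 ^ r) A' * pG F F (2 ^ r) π) = dU F (2 ^ r) A * pG F F (2 ^ r) π := by
    rw [map_mul, map_inv]; group
  rwa [h7] at h6

end

end CfsgLib.H22Wr
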