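import Cfsg.Agent.LibH22Wr1
import Cfsg.Agent.LibH22SpDec
import Cfsg.Agent.LibH22SpOrder

/-! The wreath product `SL_2 wr S_n` inside `Sp_2n` (seat helper22). -/

namespace CfsgLib.H22Wr

open Equiv Subgroup Cfsg.Agent.H22 Module

section
variable {F : Type*} [Field F] {n : ℕ}

/-- the form on `n` planes -/
def fV (F : Type*) [Field F] (n : ℕ) (v w : Fin n → Fin 2 → F) : F := ∑ i, (v i 0 * w i 1 - v i 1 * w i 0)

/-- the bilinear form -/
def bV (F : Type*) [Field F] (n : ℕ) : LinearMap.BilinForm F (Fin n → Fin 2 → F) :=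
  LinearMap.mk₂ F (fV F n)
    (fun x y z => by simp only [fV, Pi.add_apply, ← Finset.sum_add_distrib]; exact Finset.sum_congr rfl fun i _ => by ring)
    (fun c x y => by simp only [fV, Pi.smul_apply, smul_eq_mul, Finset.mul_sum]; exact Finset.sum_congr rfl fun i _ => by ring)
    (fun x y z => by simp only [fV, Pi.add_apply, ← Finset.sum_add_distrib]; exact Finset.sum_congr rfl fun i _ => by ring)
    (fun c x y => by simp only [fV, Pi.smul_apply, smul_eq_mul, Finset.mul_sum]; exact Finset.sum_congr rfl fun i _ => by ring)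

theorem bV_apply (v w : Fin n → Fin 2 → F) : bV F n v w = fV F n v w := rfl

theorem bV_alt : (bV F n).IsAlt := by
  intro v
  rw [bV_apply, fV]
  exact Finset.sum_eq_zero fun i _ => by ring

theorem bV_nondeg (x : Fin n → Fin 2 → F) (h : ∀ y, bV F n x y = 0) : x = 0 := by
  classical
  funext i j
  have h0 := h (Pi.single i (Pi.single 0 1))
  have h1 := h (Pi.single i (Pi.single 1 1))
  rw [bV_apply, fV, Finset.sum_eq_single i] at h0 h1
  · simp at h0 h1
    fin_cases j
    · exact h1
    · exact h0
  · intro l _ hl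
    rw [Pi.single_eq_of_ne hl]; simp
  · intro hi; exact absurd (Finset.mem_univ _) hi
  · intro l _ hl
    rw [Pi.single_eq_of_ne hl]; simp
  · intro hi; exact absurd (Finset.mem_univ _) hi

/-- the isometry group is the symplectic group -/
theorem nonempty_sp (F : Type*) [Field F] (n : ℕ) : Nonempty (Matrix.symplecticGroup (Fin n) F ≃* Iso (fV F n)) := by
  obtain ⟨φ, hφ⟩ := exists_sp_iso (bV F n) bV_alt bV_nondeg (k := n) (by
    rw [Module.finrank_pi_fintype]; simp [mul_comm])
  obtain ⟨e1⟩ := spIso n F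
  obtain ⟨e2⟩ := isoCongr (f := fun x y => spB n F x y) (f₁ := fV F n) φ (fun x y => hφ x y)
  exact ⟨e1.trans e2⟩

/-- base group action -/
def dL (F : Type*) [Field F] (n : ℕ) : (Fin n → Matrix.SpecialLinearGroup (Fin 2) F) →* ((Fin n → Fin 2 → F) ≃ₗ[F] (Fin n → Fin 2 → F)) where
  toFun A := LinearEquiv.piCongrRight fun i => Matrix.SpecialLinearGroup.toLin' (A i)
  map_one' := by
    apply LinearEquiv.ext
    intro v
    funext i
    simp
  map_mul' A B := by
    apply LinearEquiv.ext
    intro v
    funext i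
    simp

theorem dL_apply (A : Fin n → Matrix.SpecialLinearGroup (Fin 2) F) (v : Fin n → Fin 2 → F) (i : Fin n) :
    dL F n A v i = (A i : Matrix (Fin 2) (Fin 2) F).mulVec (v i) := rfl

/-- permutation action -/
def pL (F : Type*) [Field F] (n : ℕ) : Perm (Fin n) →* ((Fin n → Fin 2 → F) ≃ₗ[F] (Fin n → Fin 2 → F)) where
  toFun π := LinearEquiv.funCongrLeft F (Fin 2 → F) π.symm
  map_one' := by
    apply LinearEquiv.ext
    intro v
    rfl
  map_mul' π σ := by
    apply LinearEquiv.ext
    intro v
    rfl

theorem pL_apply (π : Perm (Fin n)) (v : Fin n → Fin 2 → F) (i : Fin n) : pL F n π v i = v (π.symm i) := rfl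

theorem dL_iso (A : Fin n → Matrix.SpecialLinearGroup (Fin 2) F) : dL F n A ∈ Iso (fV F n) := by
  intro x y
  unfold fV
  refine Finset.sum_congr rfl fun i _ => ?_
  rw [dL_apply, dL_apply]
  have hd := (A i).det_coe
  rw [Matrix.det_fin_two] at hd
  simp only [Matrix.mulVec, dotProduct, Fin.sum_univ_two]
  linear_combination (x i 0 * y i 1 - x i 1 * y i 0) * hd

theorem pL_iso (π : Perm (Fin n)) : pL F n π ∈ Iso (fV F n) := by
  intro x y
  unfold fV
  simp only [pL_apply]
  exact Equiv.sum_comp π.symm (fun i => x i 0 * y i 1 - x i 1 * y i 0)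

def dI (F : Type*) [Field F] (n : ℕ) : (Fin n → Matrix.SpecialLinearGroup (Fin 2) F) →* Iso (fV F n) := (dL F n).codRestrict _ dL_iso

def pI (F : Type*) [Field F] (n : ℕ) : Perm (Fin n) →* Iso (fV F n) := (pL F n).codRestrict _ pL_iso

theorem wr_sp (F : Type*) [Field F] (n : ℕ) : WR (dI F n) (pI F n) where
  conj π A := by
    apply Subtype.ext
    apply LinearEquiv.ext
    intro v
    show (pL F n π * dL F n A * (pL F n π)⁻¹) v = dL F n _ v
    rw [← map_inv]
    funext i
    rw [LinearEquiv.mul_apply, LinearEquiv.mul_apply, pL_apply, dL_apply, dL_apply, pL_apply]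
    have : (π⁻¹).symm (π.symm i) = i := π.apply_symm_apply i
    rw [this]
  inj A π he := by
    classical
    have h1 : dL F n A = pL F n π := congrArg Subtype.val he
    have hπ : π = 1 := by
      apply Equiv.ext
      intro i
      by_contra hne
      have h2 := congrFun (LinearEquiv.congr_fun h1 (Pi.single i ![1, 0])) (π i)
      have hne' : π i ≠ i := hne
      rw [dL_apply, pL_apply, Equiv.symm_apply_apply, Pi.single_eq_same, Pi.single_eq_of_ne hne', Matrix.mulVec_zero] at h2
      have := congrFun h2 0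
      simp at this
    refine ⟨?_, hπ⟩
    rw [hπ, map_one] at h1
    funext i
    apply Subtype.ext
    apply Matrix.ext_of_mulVec_single
    intro j
    have h2 := congrFun (LinearEquiv.congr_fun h1 (Pi.single i (Pi.single j 1))) i
    rw [dL_apply, Pi.single_eq_same] at h2
    rw [h2]
    show (Pi.single i (Pi.single j 1) : Fin n → Fin 2 → F) i = _
    rw [Pi.single_eq_same]
    exact (Matrix.one_mulVec _).symm

end

end CfsgLib.H22Wr
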