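import Cfsg.Agent.LibH22Wr3
import Cfsg.Agent.LibH22OMat

/-! The wreath product `GL(U) wr S_n` inside `GL(U^n)` (seat helper22). -/

namespace CfsgLib.H22Wr

open Equiv Subgroup Cfsg.Agent.H22 Module

section
variable {F : Type*} [Field F] {U : Type*} [AddCommGroup U] [Module F U] {n : ℕ}

/-- base group action -/
def dG (F : Type*) [Field F] (U : Type*) [AddCommGroup U] [Module F U] (n : ℕ) : (Fin n → (U ≃ₗ[F] U)) →* ((Fin n → U) ≃ₗ[F] (Fin n → U)) where
  toFun A := LinearEquiv.piCongrRight A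
  map_one' := rfl
  map_mul' _ _ := rfl

theorem dG_apply (A : Fin n → (U ≃ₗ[F] U)) (v : Fin n → U) (i : Fin n) : dG F U n A v i = A i (v i) := rfl

/-- permutation action -/
def pG (F : Type*) [Field F] (U : Type*) [AddCommGroup U] [Module F U] (n : ℕ) : Perm (Fin n) →* ((Fin n → U) ≃ₗ[F] (Fin n → U)) where
  toFun π := LinearEquiv.funCongrLeft F U π.symm
  map_one' := rfl
  map_mul' _ _ := rfl

theorem pG_apply (π : Perm (Fin n)) (v : Fin n → U) (i : Fin n) : pG F U n π v i = v (π.symm i) := rfl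

theorem wrG (F : Type*) [Field F] (U : Type*) [AddCommGroup U] [Module F U] [Nontrivial U] (n : ℕ) : WR (dG F U n) (pG F U n) where
  conj π A := by
    apply LinearEquiv.ext
    intro v
    rw [← map_inv]
    funext i
    rw [LinearEquiv.mul_apply, LinearEquiv.mul_apply, pG_apply, dG_apply, dG_apply, pG_apply]
    have : (π⁻¹).symm (π.symm i) = i := π.apply_symm_apply i
    rw [this]
  inj A π h1 := by
    classical
    obtain ⟨u, hu⟩ := exists_ne (0 : U)
    have hπ : π = 1 := by
      apply Equiv.ext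
      intro i
      by_contra hne
      have h2 := congrFun (LinearEquiv.congr_fun h1 (Pi.single i u)) (π i)
      have hne' : π i ≠ i := hne
      rw [dG_apply, pG_apply, Equiv.symm_apply_apply, Pi.single_eq_same, Pi.single_eq_of_ne hne', map_zero] at h2
      exact hu h2.symm
    refine ⟨?_, hπ⟩
    rw [hπ, map_one] at h1
    funext i
    apply LinearEquiv.ext
    intro x
    have h2 := congrFun (LinearEquiv.congr_fun h1 (Pi.single i x)) i
    rw [dG_apply, Pi.single_eq_same] at h2
    rw [h2]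
    show (Pi.single i x : Fin n → U) i = x
    rw [Pi.single_eq_same]

theorem det_dG [FiniteDimensional F U] (A : Fin n → (U ≃ₗ[F] U)) : LinearEquiv.det (dG F U n A) = ∏ i, LinearEquiv.det (A i) := by
  apply Units.ext
  rw [LinearEquiv.coe_det, Units.coe_prod]
  simp only [LinearEquiv.coe_det]
  exact LinearMap.det_pi (fun i => ((A i : U ≃ₗ[F] U) : U →ₗ[F] U))

/-- determinant of a permutation of coordinates -/
theorem det_perm {κ : Type*} [Fintype κ] [DecidableEq κ] (π : Perm κ) :
    LinearMap.det (LinearMap.funLeft F F π) = (((Perm.sign π : ℤˣ) : ℤ) : F) := by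
  rw [← LinearMap.det_toMatrix', ← Matrix.det_permutation π]
  congr 1
  ext i j
  rw [LinearMap.toMatrix'_apply, LinearMap.funLeft_apply, Equiv.Perm.permMatrix, PEquiv.toMatrix_toPEquiv_apply]
  by_cases h : π i = j
  · rw [h]
  · rw [Pi.single_eq_of_ne h]; simp [Pi.single_apply, Ne.symm h]

/-- permutation of coordinates, dimension one -/
theorem det_pG1 (π : Perm (Fin n)) : (LinearEquiv.det (pG F F n π) : F) = (((Perm.sign π : ℤˣ) : ℤ) : F) := by
  rw [LinearEquiv.coe_det]
  have := det_perm (F := F) π.symm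
  rw [Perm.sign_symm] at this
  rw [← this]
  rfl

/-- permutations of planes have determinant one -/
theorem det_pG2 (π : Perm (Fin n)) : LinearEquiv.det (pG F (Fin 2 → F) n π) = 1 := by
  apply Units.ext
  rw [LinearEquiv.coe_det, Units.val_one]
  let e : (Fin n × Fin 2 → F) ≃ₗ[F] (Fin n → Fin 2 → F) := LinearEquiv.curry F F (Fin n) (Fin 2)
  have h1 : ((pG F (Fin 2 → F) n π : (Fin n → Fin 2 → F) ≃ₗ[F] (Fin n → Fin 2 → F)) : (Fin n → Fin 2 → F) →ₗ[F] (Fin n → Fin 2 → F)) =
      (e : (Fin n × Fin 2 → F) →ₗ[F] (Fin n → Fin 2 → F)) ∘ₗ (LinearMap.funLeft F F (Equiv.prodCongrLeft (fun _ : Fin 2 => π.symm))) ∘ₗ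
        (e.symm : (Fin n → Fin 2 → F) →ₗ[F] (Fin n × Fin 2 → F)) := by
    apply LinearMap.ext
    intro v
    funext i j
    rfl
  rw [h1, LinearMap.det_conj, det_perm, Perm.sign_prodCongrLeft]
  simp

end

end CfsgLib.H22Wr
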