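import Cfsg.Agent.LibH22Wr7

/-! Sylow 2-subgroups of `GL_n(q)`, `q` odd: orders (seat helper22). -/

namespace CfsgLib.H22Wr

open Equiv Subgroup Cfsg.Agent.H22 Module

section
variable {q : ℕ} (hq : Odd q) (h1 : 1 < q)
include hq h1

theorem val_odd (r : ℕ) : padicValNat 2 (q ^ (2 * r + 1) - 1) = padicValNat 2 (q - 1) := by
  have : Fact (Nat.Prime 2) := ⟨Nat.prime_two⟩
  have h2 : ∀ k, (∑ i ∈ Finset.range k, q ^ i) % 2 = k % 2 := by
    intro k
    induction k with
    | zero => simp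
    | succ k ih =>
      rw [Finset.sum_range_succ, Nat.add_mod, ih, Nat.odd_iff.mp hq.pow]
      omega
  have h3 := geom_sum_mul_add (q - 1) (2 * r + 1)
  rw [Nat.sub_add_cancel h1.le] at h3
  have h4 : q ^ (2 * r + 1) - 1 = (∑ i ∈ Finset.range (2 * r + 1), q ^ i) * (q - 1) := by omega
  have h5 := h2 (2 * r + 1)
  rw [h4, padicValNat.mul (by intro h; rw [h] at h5; omega) (by omega), padicValNat.eq_zero_of_not_dvd (by omega), zero_add]

theorem val_sum (N : ℕ) : ∑ k ∈ Finset.range N, padicValNat 2 (q ^ (k + 1) - 1) =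
    (N + 1) / 2 * padicValNat 2 (q - 1) + N / 2 * vq q + padicValNat 2 (N / 2).factorial := by
  have : Fact (Nat.Prime 2) := ⟨Nat.prime_two⟩
  induction N with
  | zero => simp
  | succ N ih =>
    rw [Finset.sum_range_succ, ih]
    rcases Nat.even_or_odd' N with ⟨r, hr | hr⟩
    · rw [hr, val_odd hq h1]
      rw [show (2 * r + 1) / 2 = r by omega, show 2 * r / 2 = r by omega, show (2 * r + 1 + 1) / 2 = r + 1 by omega]
      ring
    · rw [hr, show 2 * r + 1 + 1 = 2 * (r + 1) by ring, val_sq hq h1]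
      rw [show 2 * (r + 1) / 2 = r + 1 by omega, show (2 * r + 1) / 2 = r by omega, show (2 * (r + 1) + 1) / 2 = r + 1 by omega,
        Nat.factorial_succ, padicValNat.mul (by omega) (Nat.factorial_ne_zero r)]
      ring

theorem val_gl (N : ℕ) : padicValNat 2 (∏ i : Fin N, (q ^ N - q ^ (i : ℕ))) =
    (N + 1) / 2 * padicValNat 2 (q - 1) + N / 2 * vq q + padicValNat 2 (N / 2).factorial := by
  have : Fact (Nat.Prime 2) := ⟨Nat.prime_two⟩
  rw [← val_sum hq h1, Finset.prod_fin_eq_prod_range]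
  have h2 : ∀ i ∈ Finset.range N, (if h : i < N then q ^ N - q ^ i else 1) = q ^ i * (q ^ (N - i) - 1) := by
    intro i hi
    rw [Finset.mem_range] at hi
    rw [dif_pos hi, Nat.mul_sub, ← pow_add, mul_one]
    congr 2
    omega
  have h2' : (∏ i ∈ Finset.range N, if h : i < N then q ^ N - q ^ ((⟨i, h⟩ : Fin N) : ℕ) else 1) = ∏ i ∈ Finset.range N, (q ^ i * (q ^ (N - i) - 1)) :=
    Finset.prod_congr rfl h2
  rw [h2']
  have hpos : ∀ i ∈ Finset.range N, q ^ (N - i) - 1 ≠ 0 := by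
    intro i hi
    rw [Finset.mem_range] at hi
    have : 1 < q ^ (N - i) := Nat.one_lt_pow (by omega) h1
    omega
  have h3 : ∀ s : Finset ℕ, s ⊆ Finset.range N → padicValNat 2 (∏ i ∈ s, (q ^ i * (q ^ (N - i) - 1))) = ∑ i ∈ s, padicValNat 2 (q ^ (N - i) - 1) := by
    intro s
    induction s using Finset.induction_on with
    | empty => intro _; simp
    | insert a s ha ih =>
      intro hs
      have ha' := hs (Finset.mem_insert_self a s)
      have hs' : s ⊆ Finset.range N := fun x hx => hs (Finset.mem_insert_of_mem hx)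
      rw [Finset.prod_insert ha, Finset.sum_insert ha, padicValNat.mul, ih hs', padicValNat.mul (pow_ne_zero _ (by omega)) (hpos a ha'), val_pow hq h1, zero_add]
      · exact mul_ne_zero (pow_ne_zero _ (by omega)) (hpos a ha')
      · exact Finset.prod_ne_zero_iff.2 fun i hi => mul_ne_zero (pow_ne_zero _ (by omega)) (hpos i (hs' hi))
  rw [h3 _ (Finset.Subset.refl _), ← Finset.sum_range_reflect]
  refine Finset.sum_congr rfl fun i hi => ?_
  rw [Finset.mem_range] at hi
  congr 3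
  omega

end

section
variable {F : Type*} [Field F] {V : Type*} [AddCommGroup V] [Module F V] [FiniteDimensional F V]

/-- the general linear group in coordinates -/
theorem nonempty_gl {N : ℕ} (h : finrank F V = N) :
    ∃ e : (V ≃ₗ[F] V) ≃* Matrix.GeneralLinearGroup (Fin N) F, ∀ g, ((Matrix.GeneralLinearGroup.det (e g) : Fˣ) : F) = LinearEquiv.det g := by
  obtain ⟨φ⟩ : Nonempty (V ≃ₗ[F] (Fin N → F)) := ⟨LinearEquiv.ofFinrankEq V (Fin N → F) (by rw [h]; simp)⟩
  let e1 : (V ≃ₗ[F] V) ≃* ((Fin N → F) ≃ₗ[F] (Fin N → F)) :=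
    { toFun := fun g => (φ.symm.trans g).trans φ
      invFun := fun g => (φ.trans g).trans φ.symm
      left_inv := fun g => by ext x; simp
      right_inv := fun g => by apply LinearEquiv.ext; intro x; simp
      map_mul' := fun g k => by apply LinearEquiv.ext; intro x; simp }
  refine ⟨e1.trans glLin.symm, fun g => ?_⟩
  have h1 : ∀ k : (Fin N → F) ≃ₗ[F] (Fin N → F), ((Matrix.GeneralLinearGroup.det (glLin.symm k) : Fˣ) : F) = LinearEquiv.det k := by
    intro k
    obtain ⟨A, rfl⟩ := glLin.surjective k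
    rw [MulEquiv.symm_apply_apply, LinearEquiv.coe_det]
    have : ((glLin A : (Fin N → F) ≃ₗ[F] (Fin N → F)) : (Fin N → F) →ₗ[F] (Fin N → F)) = Matrix.toLin' (A : Matrix (Fin N) (Fin N) F) := by
      apply LinearMap.ext
      intro x
      rw [Matrix.toLin'_apply]
      rfl
    rw [this, LinearMap.det_toLin']
    rfl
  rw [MulEquiv.trans_apply, h1, LinearEquiv.coe_det, LinearEquiv.coe_det]
  have h2 : ((e1 g : (Fin N → F) ≃ₗ[F] (Fin N → F)) : (Fin N → F) →ₗ[F] (Fin N → F)) = (φ : V →ₗ[F] (Fin N → F)) ∘ₗ (g : V →ₗ[F] V) ∘ₗ (φ.symm : (Fin N → F) →ₗ[F] V) := rfl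
  rw [h2, LinearMap.det_conj]

theorem card_glV [Fintype F] {N : ℕ} (h : finrank F V = N) : Nat.card (V ≃ₗ[F] V) = ∏ i : Fin N, (Fintype.card F ^ N - Fintype.card F ^ (i : ℕ)) := by
  obtain ⟨e, _⟩ := nonempty_gl h
  rw [Nat.card_congr e.toEquiv, Matrix.card_GL_field]

theorem finite_glV [Fintype F] : Finite (V ≃ₗ[F] V) := by
  obtain ⟨e, _⟩ := nonempty_gl (F := F) (V := V) rfl
  exact Finite.of_equiv _ e.symm.toEquiv

end

section
variable {F : Type*} [Field F] [Fintype F] (hF : Odd (Fintype.card F)) (n : ℕ)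
include hF

/-- planes -/
theorem WG2_sylow (P : Sylow 2 ((Fin 2 → F) ≃ₗ[F] (Fin 2 → F))) (T : Subgroup (Perm (Fin n))) (hT : Nat.card T = 2 ^ padicValNat 2 n.factorial) :
    IsPGroup 2 (W (wrG F (Fin 2 → F) n) P T) ∧ ¬ 2 ∣ (W (wrG F (Fin 2 → F) n) P T).index := by
  have : Fact (Nat.Prime 2) := ⟨Nat.prime_two⟩
  have h1 : 1 < Fintype.card F := Fintype.one_lt_card
  haveI : Finite ((Fin 2 → F) ≃ₗ[F] (Fin 2 → F)) := finite_glV
  haveI : Finite ((Fin n → Fin 2 → F) ≃ₗ[F] (Fin n → Fin 2 → F)) := finite_glV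
  apply sylow_of_card
  rw [card_W, hT, card_glV (N := 2 * n) (by rw [Module.finrank_pi_fintype]; simp [mul_comm]), val_gl hF h1, P.card_eq_multiplicity,
    Nat.factorization_def _ Nat.prime_two, card_glV (N := 2) (by simp), val_gl hF h1, ← pow_mul, ← pow_add]
  congr 1
  rw [show (2 * n + 1) / 2 = n by omega, show 2 * n / 2 = n by omega]
  norm_num
  ring

/-- lines, `q ≡ 1 (mod 4)` -/
theorem WG1_sylow (hq : Fintype.card F % 4 = 1) (P : Sylow 2 (F ≃ₗ[F] F)) (T : Subgroup (Perm (Fin n))) (hT : Nat.card T = 2 ^ padicValNat 2 n.factorial) :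
    IsPGroup 2 (W (wrG F F n) P T) ∧ ¬ 2 ∣ (W (wrG F F n) P T).index := by
  have : Fact (Nat.Prime 2) := ⟨Nat.prime_two⟩
  have h1 : 1 < Fintype.card F := Fintype.one_lt_card
  haveI : Finite (F ≃ₗ[F] F) := finite_glV
  haveI : Finite ((Fin n → F) ≃ₗ[F] (Fin n → F)) := finite_glV
  apply sylow_of_card
  have hvq : vq (Fintype.card F) = padicValNat 2 (Fintype.card F - 1) + 1 := by
    unfold vq
    obtain ⟨y, hy⟩ : ∃ y, Fintype.card F + 1 = 2 * y := ⟨(Fintype.card F + 1) / 2, by omega⟩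
    rw [hy, padicValNat.mul (by norm_num) (by omega), padicValNat.self (by norm_num), padicValNat.eq_zero_of_not_dvd (by omega)]
    ring
  have hfac : padicValNat 2 n.factorial = n / 2 + padicValNat 2 (n / 2).factorial := by
    rcases Nat.even_or_odd' n with ⟨r, hr | hr⟩
    · rw [hr, CfsgLib.SOm.val_two_mul, show 2 * r / 2 = r by omega]
    · rw [hr, CfsgLib.SOm.val_two_mul_add_one, show (2 * r + 1) / 2 = r by omega]
  rw [card_W, hT, card_glV (N := n) (by simp), val_gl hF h1, P.card_eq_multiplicity,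
    Nat.factorization_def _ Nat.prime_two, card_glV (N := 1) (by simp), val_gl hF h1, ← pow_mul, ← pow_add, hfac, hvq]
  congr 1
  have h5 : (n + 1) / 2 + n / 2 = n := by omega
  norm_num
  calc padicValNat 2 (Fintype.card F - 1) * n + (n / 2 + padicValNat 2 (n / 2).factorial)
      = padicValNat 2 (Fintype.card F - 1) * ((n + 1) / 2 + n / 2) + (n / 2 + padicValNat 2 (n / 2).factorial) := by rw [h5]
    _ = _ := by ring

end

end CfsgLib.H22Wr
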