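import Cfsg.Statements.S4624
import Cfsg.Agent.LibH22Wr3
import Cfsg.Agent.S0261

set_option autoImplicit false
open Cfsg

namespace Cfsg.Agent.S4624
/-- squares in the quaternion group -/
theorem quat_sq (k : ℕ) (hk : 1 ≤ k) (x : QuaternionGroup (2 ^ k)) : x ^ 2 ∈ commutator (QuaternionGroup (2 ^ k)) := by
  have h2n : ((2 ^ k : ℕ) : ZMod (2 * 2 ^ k)) + ((2 ^ k : ℕ) : ZMod (2 * 2 ^ k)) = 0 := by
    rw [← two_mul]
    have := ZMod.natCast_self (2 * 2 ^ k)
    push_cast at this ⊢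
    exact this
  have key : ∀ i : ZMod (2 * 2 ^ k), QuaternionGroup.a (2 * i) ∈ commutator (QuaternionGroup (2 ^ k)) := by
    intro i
    have h1 : QuaternionGroup.a (2 * i) = (QuaternionGroup.a i : QuaternionGroup (2 ^ k)) * QuaternionGroup.xa 0 *
        QuaternionGroup.a (-i) * QuaternionGroup.xa ((2 ^ k : ℕ) : ZMod (2 * 2 ^ k)) := by
      rw [QuaternionGroup.a_mul_xa, QuaternionGroup.xa_mul_a, QuaternionGroup.xa_mul_xa]
      congr 1
      have := h2n
      linear_combination -this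
    have h3 : (QuaternionGroup.a i : QuaternionGroup (2 ^ k))⁻¹ = QuaternionGroup.a (-i) := rfl
    have h4 : (QuaternionGroup.xa 0 : QuaternionGroup (2 ^ k))⁻¹ = QuaternionGroup.xa ((2 ^ k : ℕ) : ZMod (2 * 2 ^ k)) := by
      rw [inv_eq_iff_mul_eq_one, QuaternionGroup.xa_mul_xa, QuaternionGroup.one_def]
      congr 1
      linear_combination h2n
    rw [h1, ← h3, ← h4, ← commutatorElement_def]
    exact Subgroup.commutator_mem_commutator (Subgroup.mem_top _) (Subgroup.mem_top _)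
  rcases x with i | i
  · have : (QuaternionGroup.a i : QuaternionGroup (2 ^ k)) ^ 2 = QuaternionGroup.a (2 * i) := by
      rw [pow_two, QuaternionGroup.a_mul_a]; congr 1; ring
    rw [this]; exact key i
  · have : (QuaternionGroup.xa i : QuaternionGroup (2 ^ k)) ^ 2 = QuaternionGroup.a (2 * ((2 ^ (k - 1) : ℕ) : ZMod (2 * 2 ^ k))) := by
      rw [QuaternionGroup.xa_sq]
      congr 1
      have h5 : 2 ^ k = 2 * 2 ^ (k - 1) := by rw [← pow_succ']; congr 1; omega
      have h6 : ((2 ^ k : ℕ) : ZMod (2 * 2 ^ k)) = ((2 * 2 ^ (k - 1) : ℕ) : ZMod (2 * 2 ^ k)) := congrArg _ h5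
      rw [h6]; push_cast; ring
    rw [this]; exact key _

/-- Let F be a finite field of odd order and n ≥ 1. A Sylow 2-subgroup P of the symplectic group Sp_{2n}(F) has P/P' elementary abelian: the square of every element of P lies in the derived subgroup of P. -/
theorem result {F : Type*} [Field F] [Fintype F] (hF : Odd (Fintype.card F)) (n : ℕ) (hn : 1 ≤ n) (P : Sylow 2 (Matrix.symplecticGroup (Fin n) F)) :
    ∀ x : (P : Subgroup (Matrix.symplecticGroup (Fin n) F)), x ^ 2 ∈ commutator (P : Subgroup (Matrix.symplecticGroup (Fin n) F)) := by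
  obtain ⟨T, hT, hTg⟩ := CfsgLib.SOm.exists_T n
  rw [Nat.card_eq_fintype_card (α := Fin n), Fintype.card_fin] at hT
  obtain ⟨S⟩ : Nonempty (Sylow 2 (Matrix.SpecialLinearGroup (Fin 2) F)) := inferInstance
  obtain ⟨k, hk, ⟨e⟩⟩ := Cfsg.Agent.S0261.result hF S
  have hQ : ∀ a ∈ (S : Subgroup (Matrix.SpecialLinearGroup (Fin 2) F)), a ^ 2 ∈ ⁅(S : Subgroup (Matrix.SpecialLinearGroup (Fin 2) F)), (S : Subgroup (Matrix.SpecialLinearGroup (Fin 2) F))⁆ := by
    intro a ha
    have h1 := quat_sq k hk (e ⟨a, ha⟩)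
    have h2 : (⟨a, ha⟩ : (S : Subgroup (Matrix.SpecialLinearGroup (Fin 2) F))) ^ 2 ∈ commutator (S : Subgroup (Matrix.SpecialLinearGroup (Fin 2) F)) := by
      have h3 : (commutator (QuaternionGroup (2 ^ k))).map e.symm.toMonoidHom = commutator (S : Subgroup (Matrix.SpecialLinearGroup (Fin 2) F)) := by
        rw [commutator_def, commutator_def, Subgroup.map_commutator]
        congr 1 <;> exact Subgroup.map_top_of_surjective _ e.symm.surjective
      rw [← h3]
      refine ⟨_, h1, ?_⟩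
      show e.symm ((e ⟨a, ha⟩) ^ 2) = _
      rw [map_pow, e.symm_apply_apply]
    rw [CfsgLib.SOm.mem_comm_iff] at h2
    exact h2
  obtain ⟨hp, hi⟩ := CfsgLib.H22Wr.W_sylow hF n S T hT
  obtain ⟨f⟩ := CfsgLib.H22Wr.nonempty_sp F n
  have h1 : CfsgLib.SOm.SE' (Cfsg.Agent.H22.Iso (CfsgLib.H22Wr.fV F n)) := ⟨_, hp, hi, CfsgLib.H22Wr.W_se _ _ _ hQ hTg⟩
  exact (h1.congr f.symm).se P

end Cfsg.Agent.S4624
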