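import Cfsg.Agent.LibH22Wr8
import Cfsg.Agent.S4624

/-! Sylow 2-subgroups of `GL_2(q)`, `q ≡ 3 (mod 4)`; squares (seat helper22). -/

namespace CfsgLib.H22Wr

open Equiv Subgroup Cfsg.Agent.H22 Module
open scoped commutatorElement

/-- elements of `P` whose square is in the derived group -/
def Sq {G : Type*} [Group G] (P : Subgroup G) : Subgroup G where
  carrier := {x | x ∈ P ∧ x ^ 2 ∈ ⁅P, P⁆}
  mul_mem' := by
    rintro x y ⟨hx, hx2⟩ ⟨hy, hy2⟩
    refine ⟨P.mul_mem hx hy, ?_⟩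
    have h1 : ((⟨x, hx⟩ : P) * ⟨y, hy⟩) ^ 2 ∈ commutator P := by
      have h3 : (⟨x, hx⟩ : P) ^ 2 ∈ commutator P := (CfsgLib.SOm.mem_comm_iff P _).mpr hx2
      have h4 : (⟨y, hy⟩ : P) ^ 2 ∈ commutator P := (CfsgLib.SOm.mem_comm_iff P _).mpr hy2
      rw [← Abelianization.ker_of, MonoidHom.mem_ker, map_pow] at h3 h4 ⊢
      rw [map_mul, mul_pow, h3, h4, one_mul]
    exact (CfsgLib.SOm.mem_comm_iff P _).mp h1
  one_mem' := ⟨P.one_mem, by rw [one_pow]; exact one_mem _⟩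
  inv_mem' := by
    rintro x ⟨hx, hx2⟩
    refine ⟨P.inv_mem hx, ?_⟩
    rw [inv_pow]
    exact inv_mem hx2

/-- intersection of a Sylow subgroup with a normal subgroup -/
theorem inter_se {G : Type*} [Group G] [Finite G] (Q : Sylow 2 G) (N : Subgroup G) [N.Normal] (h : CfsgLib.SOm.SE N) :
    ∀ a ∈ (Q : Subgroup G) ⊓ N, a ^ 2 ∈ ⁅(Q : Subgroup G) ⊓ N, (Q : Subgroup G) ⊓ N⁆ := by
  haveI : Fact (Nat.Prime 2) := ⟨Nat.prime_two⟩
  have h2 : IsPGroup 2 ((Q : Subgroup G).subgroupOf N) := Q.isPGroup'.comap_of_injective _ N.subtype_injective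
  have h3 : ¬ 2 ∣ ((Q : Subgroup G).subgroupOf N).index := fun h =>
    Q.not_dvd_index (h.trans (CfsgLib.SOm.relIndex_dvd (Q : Subgroup G) N))
  have h4 := h (h2.toSylow h3)
  rintro a ⟨ha, ha'⟩
  have h5 := h4 ⟨⟨a, ha'⟩, ha⟩
  rw [CfsgLib.SOm.mem_comm_iff] at h5
  have h6 : a ^ 2 ∈ ⁅(Q : Subgroup G).subgroupOf N, (Q : Subgroup G).subgroupOf N⁆.map N.subtype := ⟨_, h5, rfl⟩
  rw [Subgroup.map_commutator, Subgroup.subgroupOf_map_subtype] at h6
  exact h6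

theorem mem_Sq {G : Type*} [Group G] {P : Subgroup G} {x : G} : x ∈ Sq P ↔ x ∈ P ∧ x ^ 2 ∈ ⁅P, P⁆ := Iff.rfl

section
variable {F : Type*} [Field F] {V : Type*} [AddCommGroup V] [Module F V] [FiniteDimensional F V]

/-- the kernel of the determinant -/
theorem nonempty_sl {N : ℕ} (h : finrank F V = N) :
    Nonempty ((LinearEquiv.det : (V ≃ₗ[F] V) →* Fˣ).ker ≃* Matrix.SpecialLinearGroup (Fin N) F) := by
  obtain ⟨e, he⟩ := nonempty_gl (F := F) (V := V) h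
  have h1 : ∀ A : Matrix.SpecialLinearGroup (Fin N) F, e.symm (Matrix.SpecialLinearGroup.toGL A) ∈ (LinearEquiv.det : (V ≃ₗ[F] V) →* Fˣ).ker := by
    intro A
    rw [MonoidHom.mem_ker]
    apply Units.ext
    rw [← he, MulEquiv.apply_symm_apply]
    exact A.det_coe
  refine ⟨(MulEquiv.ofBijective ((e.symm.toMonoidHom.comp Matrix.SpecialLinearGroup.toGL).codRestrict _ h1) ⟨?_, ?_⟩).symm⟩
  · intro a b hab
    have h2 := congrArg Subtype.val hab
    exact Matrix.SpecialLinearGroup.toGL_injective (e.symm.injective h2)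
  · rintro ⟨g, hg⟩
    rw [MonoidHom.mem_ker] at hg
    have h2 : ((e g : Matrix.GeneralLinearGroup (Fin N) F) : Matrix (Fin N) (Fin N) F).det = 1 := by
      have := he g
      rw [hg] at this
      exact this
    refine ⟨⟨((e g : Matrix.GeneralLinearGroup (Fin N) F) : Matrix (Fin N) (Fin N) F), h2⟩, ?_⟩
    apply Subtype.ext
    show e.symm (Matrix.SpecialLinearGroup.toGL _) = g
    rw [MulEquiv.symm_apply_eq]
    exact Units.ext rfl

end

section
variable {F : Type*} [Field F] [Fintype F] (hF : Odd (Fintype.card F))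
include hF

theorem se_sl2 : CfsgLib.SOm.SE' (Matrix.SpecialLinearGroup (Fin 2) F) := by
  obtain ⟨S⟩ : Nonempty (Sylow 2 (Matrix.SpecialLinearGroup (Fin 2) F)) := inferInstance
  haveI : Fact (Nat.Prime 2) := ⟨Nat.prime_two⟩
  obtain ⟨k, hk, ⟨e⟩⟩ := Cfsg.Agent.S0261.result hF S
  refine ⟨S, S.isPGroup', S.not_dvd_index, ?_⟩
  intro a ha
  have h1 := Cfsg.Agent.S4624.quat_sq k hk (e ⟨a, ha⟩)
  have h2 : (⟨a, ha⟩ : (S : Subgroup (Matrix.SpecialLinearGroup (Fin 2) F))) ^ 2 ∈ commutator (S : Subgroup (Matrix.SpecialLinearGroup (Fin 2) F)) := by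
    have h3 : (commutator (QuaternionGroup (2 ^ k))).map e.symm.toMonoidHom = commutator (S : Subgroup (Matrix.SpecialLinearGroup (Fin 2) F)) := by
      rw [_root_.commutator_def, _root_.commutator_def, Subgroup.map_commutator]
      congr 1 <;> exact Subgroup.map_top_of_surjective _ e.symm.surjective
    rw [← h3]
    refine ⟨_, h1, ?_⟩
    show e.symm ((e ⟨a, ha⟩) ^ 2) = _
    rw [map_pow, e.symm_apply_apply]
  rw [CfsgLib.SOm.mem_comm_iff] at h2
  exact h2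

/-- units of 2-power order -/
theorem unit_two (hq : Fintype.card F % 4 = 3) (u : Fˣ) (k : ℕ) (hu : u ^ (2 ^ k) = 1) : u = 1 ∨ u = -1 := by
  have h1 : u ^ (Fintype.card F - 1) = 1 := by
    have := FiniteField.pow_card_sub_one_eq_one (u : F) u.ne_zero
    exact Units.ext (by push_cast; exact this)
  have h2 : orderOf u ∣ Nat.gcd (2 ^ k) (Fintype.card F - 1) := Nat.dvd_gcd (orderOf_dvd_of_pow_eq_one hu) (orderOf_dvd_of_pow_eq_one h1)
  have h3 : Nat.gcd (2 ^ k) (Fintype.card F - 1) ∣ 2 := by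
    obtain ⟨y, hy⟩ : ∃ y, Fintype.card F - 1 = 2 * y := ⟨(Fintype.card F - 1) / 2, by omega⟩
    have hyo : Nat.Coprime (2 ^ k) y := by
      apply Nat.Coprime.pow_left
      rw [Nat.coprime_two_left, Nat.odd_iff]
      omega
    have hg1 : Nat.gcd (2 ^ k) (Fintype.card F - 1) ∣ 2 * y := by rw [← hy]; exact Nat.gcd_dvd_right _ _
    exact Nat.Coprime.dvd_of_dvd_mul_right (Nat.Coprime.coprime_dvd_left (Nat.gcd_dvd_left _ _) hyo) hg1
  have h4 : u ^ 2 = 1 := by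
    rw [← orderOf_dvd_iff_pow_eq_one]
    exact h2.trans h3
  have h5 : ((u : F) - 1) * ((u : F) + 1) = 0 := by
    have := congrArg (fun x : Fˣ => (x : F)) h4
    push_cast at this
    linear_combination this
  rcases mul_eq_zero.mp h5 with h | h
  · left; apply Units.ext; push_cast; linear_combination h
  · right; apply Units.ext; push_cast; linear_combination h

/-- the Sylow subgroup of `GL_2` -/
theorem exists_Q (hq : Fintype.card F % 4 = 3) : ∃ (Q : Sylow 2 ((Fin 2 → F) ≃ₗ[F] (Fin 2 → F))) (t : (Fin 2 → F) ≃ₗ[F] (Fin 2 → F)),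
    t ∈ Q ∧ t * t = 1 ∧ LinearEquiv.det t = -1 ∧ (∀ x ∈ Q, LinearEquiv.det x = 1 ∨ LinearEquiv.det x = -1) ∧
    ∀ a ∈ (Q : Subgroup _) ⊓ (LinearEquiv.det : ((Fin 2 → F) ≃ₗ[F] (Fin 2 → F)) →* Fˣ).ker,
      a ^ 2 ∈ ⁅(Q : Subgroup _) ⊓ (LinearEquiv.det : ((Fin 2 → F) ≃ₗ[F] (Fin 2 → F)) →* Fˣ).ker, (Q : Subgroup _) ⊓ (LinearEquiv.det : ((Fin 2 → F) ≃ₗ[F] (Fin 2 → F)) →* Fˣ).ker⁆ := by
  haveI : Fact (Nat.Prime 2) := ⟨Nat.prime_two⟩
  haveI : Finite ((Fin 2 → F) ≃ₗ[F] (Fin 2 → F)) := finite_glV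
  let t : (Fin 2 → F) ≃ₗ[F] (Fin 2 → F) := LinearEquiv.piCongrRight ![LinearEquiv.refl F F, LinearEquiv.neg F]
  have htt : t * t = 1 := by
    apply LinearEquiv.ext
    intro v
    funext i
    fin_cases i
    · rfl
    · exact neg_neg (v 1)
  have hdet : LinearEquiv.det t = -1 := by
    apply Units.ext
    rw [LinearEquiv.coe_det]
    have := LinearMap.det_pi (R := F) (M := F) (fun i : Fin 2 => ((![LinearEquiv.refl F F, LinearEquiv.neg F] i : F ≃ₗ[F] F) : F →ₗ[F] F))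
    refine Eq.trans this ?_
    rw [Fin.prod_univ_two, LinearMap.det_ring, LinearMap.det_ring]
    show (1 : F) * (-1 : F) = ((-1 : Fˣ) : F)
    simp
  have htp : IsPGroup 2 (Subgroup.zpowers t) := by
    rintro ⟨z, hz⟩
    obtain ⟨k, rfl⟩ := Subgroup.mem_zpowers_iff.mp hz
    refine ⟨1, Subtype.ext ?_⟩
    show (t ^ k) ^ (2 ^ 1) = 1
    rw [pow_one, ← zpow_natCast, ← zpow_mul, mul_comm, zpow_mul]
    have : t ^ ((2 : ℕ) : ℤ) = 1 := by rw [zpow_natCast, pow_two, htt]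
    rw [this, one_zpow]
  obtain ⟨Q, hQ⟩ := htp.exists_le_sylow
  refine ⟨Q, t, hQ (Subgroup.mem_zpowers t), htt, hdet, ?_, ?_⟩
  · intro x hx
    obtain ⟨k, hk⟩ := Q.isPGroup' ⟨x, hx⟩
    have hk' : x ^ (2 ^ k) = 1 := congrArg Subtype.val hk
    apply unit_two hF hq _ k
    rw [← map_pow, hk', map_one]
  · obtain ⟨e⟩ := nonempty_sl (F := F) (V := Fin 2 → F) (N := 2) (by simp)
    have h1 := ((se_sl2 hF).congr e.symm).se
    exact inter_se Q _ h1

end

end CfsgLib.H22Wr
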