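import Cfsg.Agent.EqBase
import Cfsg.Agent.LibH2Wst
set_option autoImplicit false
namespace CfsgLib.H2Act
open Subgroup Cfsg MulAction CfsgLib.Cores CfsgLib.Coprime CfsgLib.H2Misc CfsgLib.H2Solv CfsgLib.H2Subn CfsgLib.H2Quad CfsgLib.H2Gen CfsgLib.H2Gen2 CfsgLib.H2Thomp CfsgLib.H2Lift CfsgLib.H2PG CfsgLib.H2Repl CfsgLib.H2Glaub CfsgLib.H2ZJ CfsgLib.H2Stab CfsgLib.H2Loc CfsgLib.H2PSt CfsgLib.H2PSt2 CfsgLib.H2ZJe CfsgLib.H2Npc CfsgLib.H2Wst
open CfsgLib.NpcRed9 (npc_min ablen_of_coatom hnpc_of_normal_W)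
open scoped Pointwise commutatorElement

universe u v

theorem isPStableOnSection_of_noQuad {G : Type u} [Group G] [Finite G] {p : ℕ} [hp : Fact p.Prime]
    (O Φ : Subgroup G) [O.Normal] [Φ.Normal] (hO : IsPGroup p O)
    (h : ∀ H : Subgroup (G ⧸ Φ), NoQuad p H) : IsPStableOnSection p O Φ := by
  intro a hq
  set f := QuotientGroup.mk' Φ with hf
  have hfs : Function.Surjective f := QuotientGroup.mk'_surjective Φ
  set O' := O.map f with hO'
  haveI : O'.Normal := (inferInstance : O.Normal).map f hfs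
  have hO'p : IsPGroup p O' := hO.map f
  have hq' : ⁅⁅O', zpowers (f a)⁆, zpowers (f a)⁆ = ⊥ := by
    rw [← MonoidHom.map_zpowers, hO', ← map_commutator, ← map_commutator, eq_bot_iff,
      map_le_iff_le_comap, MonoidHom.comap_bot, QuotientGroup.ker_mk']
    exact hq
  have hst := isPStableOn_of_noQuad h O' hO'p (f a) hq'
  set C := centralizer (O' : Set (G ⧸ Φ)) with hC
  haveI : C.Normal := inferInstance
  set D' := (pCore p ((G ⧸ Φ) ⧸ C)).comap (QuotientGroup.mk' C) with hD'
  haveI : D'.Normal := (inferInstance : (pCore p ((G ⧸ Φ) ⧸ C)).Normal).comap _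
  have hCD : C ≤ D' := by
    intro x hx
    rw [hD', mem_comap, QuotientGroup.mk'_apply, (QuotientGroup.eq_one_iff x).mpr hx]
    exact one_mem _
  obtain ⟨k, hk⟩ := relIndex_comap_pCore (p := p) C
  refine ⟨D'.comap f, inferInstance, Subgroup.comap_mono hCD, ⟨k, ?_⟩, hst⟩
  rw [sectionKernel, relIndex_comap, map_comap_eq_self_of_surjective hfs]
  exact hk

theorem isActionPStable_of_noQuad {G : Type u} [Group G] [Finite G] {p : ℕ} [hp : Fact p.Prime]
    (h : ∀ H : Subgroup G, NoQuad p H)
    (h' : ∀ H : Subgroup (G ⧸ ((frattini ↥(pCore p G)).map (pCore p G).subtype)), NoQuad p H) :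
    IsActionPStable p G := by
  refine ⟨?_, ?_, ?_⟩
  · intro V _ hV
    apply isPStableOn_of_noQuad h V
    intro x
    refine ⟨1, Subtype.ext ?_⟩
    rw [pow_one]
    exact hV.2 x x.2
  · exact isPStableOnSection_of_noQuad _ _ (pCore_isPGroup p) h'
  · intro S V _ hV
    apply isPStableOn_of_noQuad (noQuad_subgroup h _) V
    have h1 : IsPGroup p (V.map (normalizer (thompsonSubgroupOf p (S : Subgroup G) : Set G)).subtype) :=
      S.isPGroup'.to_le (hV.trans (map_subtype_le _))
    exact h1.of_injective ((V.equivMapOfInjective _ (subtype_injective _)).toMonoidHom)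
      (MulEquiv.injective _)

theorem isActionPStable_of_sylAb {G : Type u} [Group G] [Finite G] {p : ℕ} [hp : Fact p.Prime] (hp2 : p ≠ 2)
    (h : SylAb 2 G) : IsActionPStable p G := by
  haveI : Fact (Nat.Prime 2) := ⟨Nat.prime_two⟩
  exact isActionPStable_of_noQuad (noQuad_all_of_sylAb hp2 h)
    (noQuad_all_of_sylAb hp2 (h.of_surjective (QuotientGroup.mk' _) (QuotientGroup.mk'_surjective _)))

theorem map_W_equiv {G : Type u} [Group G] {H : Type u} [Group H] {p : ℕ} (f : G →* H) (hf : Function.Injective f)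
    (P : Subgroup G) : (stableNormalClosure p ↥(P.map f)).map (P.map f).subtype =
      ((stableNormalClosure p ↥P).map P.subtype).map f := by
  have h1 := W_map (p := p) (P.equivMapOfInjective f hf)
  rw [← h1, map_map, map_map]
  rfl

theorem induced_W {G : Type u} [Group G] (p : ℕ) (P : Subgroup G) :
    inducedFunctor (fun (Q : Type u) [Group Q] => stableNormalClosure p Q) P =
      (stableNormalClosure p ↥P).map P.subtype := rfl

theorem charp_W (p : ℕ) [hp : Fact p.Prime] :
    IsCharPFunctor.{u} p (fun (Q : Type u) [Group Q] => stableNormalClosure p Q) := by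
  constructor
  · intro Q _ _ hQ hn
    exact W_ne_bot hQ
  · intro Q R _ _ _ hQ φ
    exact W_map φ

theorem npc_of_W {G : Type u} [Group G] [Finite G] {p : ℕ} [hp : Fact p.Prime] (hp2 : p ≠ 2) (P : Sylow p G)
    (h : HasNormalPComplement p ↥(normalizer (((stableNormalClosure p ↥(P : Subgroup G)).map
      (P : Subgroup G).subtype) : Set G))) :
    HasNormalPComplement p G := by
  refine npc_min (charp_W p) _ G le_rfl ?_ P ?_
  · intro H _ _ _ T hc hq hT hN
    rw [induced_W] at hN
    refine hnpc_of_normal_W ?_ hN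
    have hS := sylAb_of_ablen hp2 (ablen_of_coatom T hT hq)
    exact W_normal (isActionPStable_of_sylAb hp2 hS) hc T
  · rw [induced_W]; exact h

end CfsgLib.H2Act
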