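import Cfsg.Agent.EqBase
import Cfsg.Agent.LibH2JD1
set_option autoImplicit false
set_option maxHeartbeats 400000
/-! J(T)-components, part 21: the group `⟨K,T⟩`.  Seat helper2. -/
namespace CfsgLib.H2JC
open Subgroup Cfsg CfsgLib.Coprime CfsgLib.Coprime2 CfsgLib.H2Misc CfsgLib.H2Thomp CfsgLib.Cores CfsgLib.H2FF
open CfsgLib.SolvCoprime (IsSylowIn)
open CfsgLib.LE (pCoreOf_isPGroup pCoreOf_le le_pCoreOf normalizer_le_normalizer_pCoreOf le_normalizer_pCoreOf
  pCoreOf_le_pCoreOf_of_normal)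
open scoped Pointwise commutatorElement

universe u

variable {G : Type u} [Group G]

/-- one side of the amalgam -/
structure PF (T P Q Z : Subgroup G) (w : G) : Prop where
  TP : T ≤ P
  QT : Q ≤ T
  PQ : P ≤ normalizer (Q : Set G)
  PZ : P ≤ normalizer (Z : Set G)
  ZQ : Z ≤ Q
  QC : Q ≤ centralizer (Z : Set G)
  CQ : P ⊓ centralizer (Z : Set G) ≤ Q
  el : IsElementaryAbelian 2 Z
  com : ∀ z ∈ Z, ∀ t ∈ T, ⁅z, t⁆ = 1 ∨ ⁅z, t⁆ = w
  w2 : w * w = 1
  w1 : w ≠ 1
  wZ : w ∈ Z
  wT : w ∈ centralizer (T : Set G)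
  wP : ¬ P ≤ centralizer ({w} : Set G)
  i3 : T.relIndex P = 3
  i2 : Q.relIndex T = 2
  nT : ¬ P ≤ normalizer (T : Set G)
  T2 : IsPGroup 2 T

/-- more data about `⟨K,T⟩` -/
structure PK (T K P Q Z : Subgroup G) (w : G) : Prop where
  pf : PF T P Q Z w
  KP : K ≤ P
  PKn : P ≤ normalizer (K : Set G)
  gen : P = K ⊔ T
  O : pCoreOf 2 K = K ⊓ T
  Oq : pCoreOf 2 K ≤ Q
  wW : w ∈ wOf K
  ZZ : Z = wOf K ⊔ omegaCenterOf T
  cZ : Nat.card Z = 2 * Nat.card (omegaCenterOf T)
  cX : Nat.card (omegaCenterOf T) = 2 * Nat.card ↥(omegaCenterOf T ⊓ centralizer (K : Set G))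
  six : Q.relIndex P = 6
  cG : centralizer (Q : Set G) ≤ Q
  core : pCoreOf 2 P = Q
  syl : IsSylowIn 2 T P
  comK : ⁅K, Q⁆ ≤ pCoreOf 2 K
  wZ0 : w ∈ omegaCenterOf T

theorem relIndex_two_of [Finite G] {C T : Subgroup G} (hCT : C ≤ T) {a : G} (ha : a ∈ T) (haC : a ∉ C)
    (h : ∀ b ∈ T, b ∈ C ∨ a⁻¹ * b ∈ C) : C.relIndex T = 2 := by
  rw [relIndex, index_eq_two_iff_exists_notMem_and']
  refine ⟨⟨a, ha⟩⁻¹, ?_, ?_⟩
  · intro h1
    rw [inv_mem_iff, mem_subgroupOf] at h1
    exact haC h1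
  · rintro ⟨b, hb⟩
    rcases h b hb with h1 | h1
    · right; exact h1
    · left; exact h1

theorem pk [Finite G] {T K L : Subgroup G} (w : Pw T K L) (B : Bs T L) (hZ : omegaCenterOf T = omegaCenterOf (Je 2 T)) :
    ∃ x, PK T K (K ⊔ T) (pCoreOf 2 (K ⊔ T)) (wOf K ⊔ omegaCenterOf T) x := by
  haveI : Fact (Nat.Prime 2) := ⟨Nat.prime_two⟩
  have hT2 := B.syl.isPGroup
  have hTL := B.syl.le
  have c := cp_of hT2 w.comp
  obtain ⟨k1, k2, k3, k4⟩ := comp_card hT2 w.comp
  rw [← hZ] at k1 k2 k4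
  obtain ⟨w0, hw0, hw01⟩ := exists_ne_of_card (X := wOf K ⊓ centralizer (Je 2 T : Set G)) (by rw [k3]; decide)
  have hw0Z : w0 ∈ omegaCenterOf T := k4 hw0
  obtain ⟨-, hw0T, hw02⟩ := mem_omegaCenterOf.mp hw0Z
  have hTK : T ≤ normalizer (K : Set G) := comp_norm B w.comp w.KL hw0.1 hw0T hw01
  set P := K ⊔ T with hP
  set Q := pCoreOf 2 P with hQ
  set O := pCoreOf 2 K with hO
  have hKP : K ≤ P := le_sup_left
  have hTP : T ≤ P := le_sup_right
  have hPK : P ≤ normalizer (K : Set G) := sup_le le_normalizer hTK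
  have hPL : P ≤ L := sup_le w.KL hTL
  have hsyl : IsSylowIn 2 T P := B.syl.mono hTP hPL
  have hQ2 : IsPGroup 2 Q := pCoreOf_isPGroup 2 P
  have hPQ : P ≤ normalizer (Q : Set G) := le_normalizer_pCoreOf 2 P
  have hQT : Q ≤ T := hsyl.le_of_normalizes hQ2 (pCoreOf_le 2 P) hPQ
  have hOQ : O ≤ Q := pCoreOf_le_pCoreOf_of_normal hKP hPK
  have hOK : O ≤ K := pCoreOf_le 2 K
  have h3 : O.relIndex K = 3 := c.ix
  have hKO : K ≤ normalizer (O : Set G) := le_normalizer_pCoreOf 2 K
  have hTO : T ≤ normalizer (O : Set G) := hTK.trans (normalizer_le_normalizer_pCoreOf 2 K)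
  have hPO : P ≤ normalizer (O : Set G) := sup_le hKO hTO
  have hJT : Je 2 T ≤ T := JQ_le _ _
  -- K ⊓ T = O
  have e1 := relIndex_mul_relIndex _ _ _ (le_inf hOK (hOQ.trans hQT) : O ≤ K ⊓ T) inf_le_left
  rw [h3] at e1
  have e2 : (K ⊓ T).relIndex K = 3 := by
    rcases (Nat.dvd_prime Nat.prime_three).mp (Dvd.intro_left _ e1) with h | h
    · exfalso
      rw [relIndex_eq_one] at h
      exact c.not_two (hT2.to_le (h.trans inf_le_right))
    · exact h
  have e3 : O = K ⊓ T := by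
    rw [e2] at e1
    have h4 : O.relIndex (K ⊓ T) = 1 := by omega
    rw [relIndex_eq_one] at h4
    exact le_antisymm (le_inf hOK (hOQ.trans hQT)) h4
  have i3 : T.relIndex P = 3 := by
    have h5 := card_sup_mul_card_inf hTK
    rw [sup_comm, ← hP, inf_comm, ← e3] at h5
    have h6 := card_mul_relIndex hOK
    rw [h3] at h6
    have h7 := card_mul_relIndex hTP
    have h8 : 0 < Nat.card O := Nat.card_pos
    have h9 : 0 < Nat.card T := Nat.card_pos
    have h10 : Nat.card P = 3 * Nat.card T := by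
      have : Nat.card P * Nat.card O = 3 * Nat.card T * Nat.card O := by rw [h5, ← h6]; ring
      exact Nat.eq_of_mul_eq_mul_right h8 this
    rw [h10, mul_comm 3] at h7
    exact Nat.eq_of_mul_eq_mul_left h9 h7
  -- Q = T ⊓ cenMod K O
  have hKC : ¬ ⁅K, Je 2 T⁆ ≤ O := by
    intro h
    rw [c.KJ] at h
    rw [relIndex_eq_one.mpr h] at h3
    omega
  have hCQ : T ⊓ cenMod K O = Q := by
    apply le_antisymm
    · apply le_pCoreOf (inf_le_left.trans hTP) _ (hT2.to_le inf_le_left)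
      rw [hP]
      refine sup_le ?_ ?_
      · apply le_normalizer_of_conj
        rintro k hk x ⟨hx1, hx2⟩
        have h5 : ⁅k, x⁆ ∈ O := hx2.2 k hk
        have h6 : k * x * k⁻¹ = ⁅k, x⁆ * x := by simp only [commutatorElement_def]; group
        rw [h6]
        have h7 : O ≤ T ⊓ cenMod K O := by
          refine le_inf (hOQ.trans hQT) ?_
          rw [le_cenMod_iff le_normalizer, commutator_comm]
          exact commutator_le_of_le_normalizer hKO
        exact Subgroup.mul_mem _ (h7 h5) ⟨hx1, hx2⟩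
      · apply le_normalizer_of_conj
        rintro t ht x ⟨hx1, hx2⟩
        refine ⟨T.mul_mem (T.mul_mem ht hx1) (T.inv_mem ht), mul_mem (mul_mem (hTO ht) hx2.1) (inv_mem (hTO ht)), fun k hk => ?_⟩
        have e : ⁅k, t * x * t⁻¹⁆ = t * ⁅t⁻¹ * k * t, x⁆ * t⁻¹ := by simp only [commutatorElement_def]; group
        rw [e]
        have h5 : t⁻¹ * k * t ∈ K := by
          have := (mem_normalizer_iff.mp (inv_mem (hTK ht)) k).mp hk
          rwa [inv_inv] at this
        exact (mem_normalizer_iff.mp (hTO ht) _).mp (hx2.2 _ h5)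
    · refine le_inf hQT ?_
      rw [le_cenMod_iff ((pCoreOf_le 2 P).trans hPO), e3]
      refine le_inf ?_ ?_
      · exact commutator_le_of_le_normalizer ((pCoreOf_le 2 P).trans hPK)
      · refine le_trans ?_ hQT
        rw [commutator_comm]
        exact commutator_le_of_le_normalizer (hKP.trans hPQ)
  obtain ⟨a, haJ, haC⟩ : ∃ a ∈ Je 2 T, a ∉ cenMod K O := by
    by_contra hcon
    push Not at hcon
    exact hKC ((le_cenMod_iff (hJT.trans hTO)).mp hcon)
  have i2 : Q.relIndex T = 2 := by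
    rw [← hCQ]
    apply relIndex_two_of inf_le_left (hJT haJ) (fun h => haC h.2)
    intro b hb
    by_cases hb' : b ∈ cenMod K O
    · left; exact ⟨hb, hb'⟩
    · right
      refine ⟨T.mul_mem (T.inv_mem (hJT haJ)) hb, ?_⟩
      exact inv_pair hOK h3 hKO (hTO (hJT haJ)) (hTO hb) (hTK (hJT haJ)) (hTK hb) haC hb'
  have hnT : ¬ P ≤ normalizer (T : Set G) := by
    intro h
    have h5 : T ≤ Q := le_pCoreOf hTP h hT2
    rw [relIndex_eq_one.mpr h5] at i2
    omega
  -- the module Z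
  set Z0 := omegaCenterOf T with hZ0
  set X := Z0 ⊓ centralizer (K : Set G) with hX
  set W := wOf K with hW
  obtain ⟨S, E, -, -⟩ := ks hT2 w.comp
  have hWO : W ≤ O := E.D.WO
  have hWT : W ≤ T := hWO.trans (hOQ.trans hQT)
  have hZW : W ⊔ Z0 = W ⊔ X := by
    apply le_antisymm
    · refine sup_le le_sup_left ?_
      rw [k2]
      exact sup_le le_sup_right (inf_le_left.trans le_sup_left)
    · exact sup_le le_sup_left (inf_le_left.trans le_sup_right)
  have hTZ0 : T ≤ centralizer (Z0 : Set G) := by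
    rw [le_centralizer_iff]
    intro x hx
    exact (mem_omegaCenterOf.mp hx).2.1
  have hZel : IsElementaryAbelian 2 (W ⊔ Z0 : Subgroup G) :=
    ea_sup E.D.el (omegaCenterOf_el T) (hWT.trans hTZ0)
  have hKW : K ≤ normalizer (W : Set G) := le_normalizer.trans (wOf_normalizer K)
  have hPW : P ≤ normalizer (W : Set G) := hPK.trans (wOf_normalizer K)
  have hPZ : P ≤ normalizer ((W ⊔ Z0 : Subgroup G) : Set G) := by
    rw [hP]
    refine sup_le ?_ ?_
    · rw [hZW]
      have h5 : K ≤ normalizer (X : Set G) := by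
        refine le_trans ?_ (centralizer_le_normalizer _)
        rw [le_centralizer_iff]; exact inf_le_right
      exact (le_inf hKW h5).trans (normalizer_inf_normalizer_le_normalizer_sup _ _)
    · exact (le_inf (hTP.trans hPW) (hTZ0.trans (centralizer_le_normalizer _))).trans (normalizer_inf_normalizer_le_normalizer_sup _ _)
  have hZT : W ⊔ Z0 ≤ T := sup_le hWT (omega_le T)
  have hZQ : W ⊔ Z0 ≤ Q := le_pCoreOf (hZT.trans hTP) hPZ (hT2.to_le hZT)
  have hKw : ¬ K ≤ centralizer ({w0} : Set G) := by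
    intro h
    have h5 : w0 ∈ W ⊓ centralizer (K : Set G) := by
      refine ⟨hw0.1, mem_centralizer_iff.mpr fun k hk => ?_⟩
      exact mem_centralizer_singleton_iff.mp (h hk)
    rw [E.D.C0, mem_bot] at h5
    exact hw01 h5
  have hQW : Q ≤ centralizer (W : Set G) := by
    have h4 : ¬ Nat.card ↥(W ⊓ centralizer (Q : Set G)) ≤ 2 := by
      intro h
      have hn : K ≤ normalizer ((W ⊓ centralizer (Q : Set G) : Subgroup G) : Set G) :=
        le_nor_inf hKW (le_normalizer_cen (hKP.trans hPQ))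
      have h5 := cen_of_card_two h hn
      have h6 : w0 ∈ W ⊓ centralizer (Q : Set G) := ⟨hw0.1, centralizer_le (SetLike.coe_subset_coe.mpr hQT) hw0T⟩
      apply hKw
      intro k hk
      rw [mem_centralizer_singleton_iff]
      exact (mem_centralizer_iff.mp (h5 hk) w0 h6).symm
    have h3 : Nat.card ↥(W ⊓ centralizer (Q : Set G)) ∣ 4 := by rw [← E.D.cW]; exact card_dvd_of_le inf_le_left
    have h5 : Nat.card ↥(W ⊓ centralizer (Q : Set G)) ∈ Nat.divisors 4 := Nat.mem_divisors.mpr ⟨h3, by norm_num⟩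
    have h6 : Nat.divisors 4 = {1, 2, 4} := by decide
    rw [h6] at h5
    simp only [Finset.mem_insert, Finset.mem_singleton] at h5
    have h7 : W ⊓ centralizer (Q : Set G) = W := eq_of_le_of_card_ge inf_le_left (by rw [E.D.cW]; omega)
    rw [le_centralizer_iff, ← h7]
    exact inf_le_right
  have hQC : Q ≤ centralizer ((W ⊔ Z0 : Subgroup G) : Set G) := by
    rw [le_centralizer_iff]
    exact sup_le (le_centralizer_iff.mp hQW) (le_centralizer_iff.mp (hQT.trans hTZ0))
  have hCQ' : P ⊓ centralizer ((W ⊔ Z0 : Subgroup G) : Set G) ≤ Q := by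
    set D := P ⊓ centralizer ((W ⊔ Z0 : Subgroup G) : Set G) with hD
    have hDT : D ≤ T := by
      by_contra hcon
      have h5 := relIndex_mul_relIndex T (T ⊔ D) P le_sup_left (sup_le hTP inf_le_left)
      rw [i3] at h5
      have h6 : (T ⊔ D).relIndex P = 1 := by
        rcases (Nat.dvd_prime Nat.prime_three).mp (Dvd.intro _ h5) with h | h
        · exfalso
          rw [relIndex_eq_one] at h
          exact hcon (le_sup_right.trans h)
        · rw [h] at h5; omega
      rw [relIndex_eq_one] at h6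
      apply hKw
      refine (hKP.trans h6).trans (sup_le ?_ ?_)
      · intro t ht
        rw [mem_centralizer_singleton_iff]
        exact mem_centralizer_iff.mp hw0T t ht
      · intro d hd
        rw [mem_centralizer_singleton_iff]
        exact (mem_centralizer_iff.mp hd.2 w0 (mem_sup_left hw0.1)).symm
    exact le_pCoreOf inf_le_left (le_nor_inf le_normalizer (le_normalizer_cen hPZ)) (hT2.to_le hDT)
  have hw02' : w0 * w0 = 1 := by rwa [pow_two] at hw02
  have hcomW : ∀ u ∈ W, ∀ t ∈ T, ⁅u, t⁆ = 1 ∨ ⁅u, t⁆ = w0 := by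
    intro u hu t ht
    have htw : t * w0 = w0 * t := mem_centralizer_iff.mp hw0T t ht
    by_cases hu1 : u = 1
    · left; rw [hu1, commutatorElement_one_left]
    by_cases huw : u = w0
    · left; rw [huw, commutatorElement_eq_one_iff_mul_comm]; exact htw.symm
    have h5 : t * u * t⁻¹ ∈ W := (mem_normalizer_iff.mp ((hTP.trans hPW) ht) u).mp hu
    rcases four_cases E.D.cW E.D.el hw0.1 hu hw01 hu1 (Ne.symm huw) h5 with h | h | h | h
    · exfalso; apply hu1
      have := congrArg (fun y => t⁻¹ * y * t) h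
      simpa [mul_assoc] using this
    · exfalso; apply huw
      have := congrArg (fun y => t⁻¹ * y * t) h
      rw [mul_assoc t⁻¹ w0 t, ← htw] at this
      simpa [mul_assoc] using this
    · left
      rw [commutatorElement_eq_one_iff_mul_comm]
      have := congrArg (fun y => y * t) h
      simpa using this.symm
    · right
      have e : ⁅u, t⁆ = u * (t * u * t⁻¹)⁻¹ := by simp only [commutatorElement_def]; group
      rw [e, h, mul_inv_rev, mul_inv_cancel_left]
      exact inv_eq_of_mul_eq_one_left hw02'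
  have hcom : ∀ z ∈ W ⊔ Z0, ∀ t ∈ T, ⁅z, t⁆ = 1 ∨ ⁅z, t⁆ = w0 := by
    intro z hz t ht
    have h5 : Z0 ≤ normalizer (W : Set G) := (omega_le T).trans (hTP.trans hPW)
    obtain ⟨u, hu, b, hb, rfl⟩ := (mem_sup_left_norm h5).mp hz
    have h6 : b * t = t * b := mem_centralizer_iff.mp (hTZ0 ht) b hb
    have e : ⁅u * b, t⁆ = u * ⁅b, t⁆ * u⁻¹ * ⁅u, t⁆ := by simp only [commutatorElement_def]; group
    rw [e, commutatorElement_eq_one_iff_mul_comm.mpr h6, mul_one, mul_inv_cancel, one_mul]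
    exact hcomW u hu t ht
  have hcZ : Nat.card ↥(W ⊔ Z0 : Subgroup G) = 2 * Nat.card Z0 := by
    have h5 : W ≤ normalizer (X : Set G) := by
      refine le_trans ?_ (centralizer_le_normalizer _)
      exact (hWO.trans hOK).trans (by rw [le_centralizer_iff]; exact inf_le_right)
    have h6 := card_sup_mul_card_inf h5
    have h7 : W ⊓ X = ⊥ := by
      rw [eq_bot_iff, ← E.D.C0]
      exact le_inf inf_le_left (inf_le_right.trans inf_le_right)
    rw [h7, card_bot, mul_one, ← hZW, E.D.cW] at h6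
    rw [h6, k1]; ring
  have six : Q.relIndex P = 6 := by
    rw [← relIndex_mul_relIndex Q T P hQT hTP, i2, i3]
  have cG : centralizer (Q : Set G) ≤ Q := by
    have h5 : pCoreOf 2 L ≤ Q := le_pCoreOf (B.RT.trans hTP) (hPL.trans B.LR) (pCoreOf_isPGroup 2 L)
    exact (centralizer_le (SetLike.coe_subset_coe.mpr h5)).trans (B.cR.trans h5)
  have hwP : ¬ P ≤ centralizer ({w0} : Set G) := fun h => hKw (hKP.trans h)
  exact ⟨w0, ⟨⟨hTP, hQT, hPQ, hPZ, hZQ, hQC, hCQ', hZel, hcom, hw02', hw01, mem_sup_left hw0.1, hw0T, hwP, i3, i2, hnT, hT2⟩,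
    hKP, hPK, rfl, e3, hOQ, hw0.1, rfl, hcZ, k1, six, cG, rfl, hsyl,
    (le_cenMod_iff ((pCoreOf_le 2 P).trans hPO)).mp (hCQ.ge.trans inf_le_right), hw0Z⟩⟩

end CfsgLib.H2JC
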