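import Cfsg.Agent.EqBase
import Cfsg.Agent.LibH2JD2
set_option autoImplicit false
set_option maxHeartbeats 400000
/-! J(T)-components, part 22: the amalgam method.  Seat helper2. -/
namespace CfsgLib.H2JC
open Subgroup Cfsg CfsgLib.Coprime CfsgLib.Coprime2 CfsgLib.H2Misc CfsgLib.H2Thomp CfsgLib.Cores CfsgLib.H2FF
open CfsgLib.SolvCoprime (IsSylowIn)
open CfsgLib.SolvBasic (mem_conj_smul)
open CfsgLib.LE (pCoreOf_isPGroup pCoreOf_le le_pCoreOf normalizer_le_normalizer_pCoreOf le_normalizer_pCoreOf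
  pCoreOf_le_pCoreOf_of_normal)
open scoped Pointwise commutatorElement

universe u

variable {G : Type u} [Group G]

theorem PF.gen [Finite G] {T P Q Z X : Subgroup G} {w x : G} (h : PF T P Q Z w) (hTX : T ≤ X) (hx : x ∈ P) (hxT : x ∉ T)
    (hxX : x ∈ X) : P ≤ X := by
  have h1 := relIndex_mul_relIndex T (P ⊓ X) P (le_inf h.TP hTX) inf_le_left
  rw [h.i3] at h1
  have h2 : (P ⊓ X).relIndex P = 1 := by
    rcases (Nat.dvd_prime Nat.prime_three).mp (Dvd.intro _ h1) with h3 | h3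
    · exfalso
      rw [relIndex_eq_one] at h3
      exact hxT (h3 ⟨hx, hxX⟩)
    · rw [h3] at h1; omega
  rw [relIndex_eq_one] at h2
  exact h2.trans inf_le_right

theorem conj_self [Finite G] {P : Subgroup G} {g : G} (hg : g ∈ P) : MulAut.conj g • P = P :=
  conj_smul_eq_of_mem_normalizer (le_normalizer hg)

theorem PF.gen' [Finite G] {T P Q Z X : Subgroup G} {w x g : G} (h : PF T P Q Z w) (hg : g ∈ P) (hTX : MulAut.conj g • T ≤ X)
    (hx : x ∈ P) (hxT : x ∉ MulAut.conj g • T) (hxX : x ∈ X) : P ≤ X := by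
  have h1 : P ≤ MulAut.conj g⁻¹ • X := by
    apply h.gen (x := g⁻¹ * x * g)
    · intro t ht
      rw [mem_conj_smul, inv_inv]
      apply hTX
      rw [mem_conj_smul]
      have e : g⁻¹ * (g * t * g⁻¹) * g = t := by group
      rwa [e]
    · exact P.mul_mem (P.mul_mem (P.inv_mem hg) hx) hg
    · rw [mem_conj_smul] at hxT; exact hxT
    · rw [mem_conj_smul, inv_inv]
      have e : g * (g⁻¹ * x * g) * g⁻¹ = x := by group
      rwa [e]
  intro y hy
  have h2 := h1 (P.mul_mem (P.mul_mem (P.inv_mem hg) hy) hg)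
  rw [mem_conj_smul, inv_inv] at h2
  have e : g * (g⁻¹ * y * g) * g⁻¹ = y := by group
  rwa [e] at h2

theorem PF.int [Finite G] {T P Q Z : Subgroup G} {w x g : G} (h : PF T P Q Z w) (hg : g ∈ P) (hgT : g ∉ T)
    (hx : x ∈ T) (hx' : x ∈ MulAut.conj g • T) : x ∈ Q := by
  by_contra hxQ
  have hQg : Q ≤ MulAut.conj g • T := by
    rw [← conj_smul_eq_of_mem_normalizer (h.PQ hg)]
    exact (Subgroup.pointwise_smul_le_pointwise_smul_iff).mpr h.QT
  have h1 := relIndex_mul_relIndex Q (T ⊓ MulAut.conj g • T) T (le_inf h.QT hQg) inf_le_left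
  rw [h.i2] at h1
  have h2 : (T ⊓ MulAut.conj g • T).relIndex T = 1 := by
    rcases (Nat.dvd_prime Nat.prime_two).mp (Dvd.intro _ h1) with h3 | h3
    · exfalso
      rw [relIndex_eq_one] at h3
      exact hxQ (h3 ⟨hx, hx'⟩)
    · rw [h3] at h1; omega
  rw [relIndex_eq_one] at h2
  have h3 : T = MulAut.conj g • T := eq_of_le_of_card_ge (h2.trans inf_le_right) (by rw [card_conj_smul])
  exact h.nT (h.gen le_normalizer hg hgT (mem_normalizer_of_conj_smul_eq h3.symm))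

theorem PF.exists_com [Finite G] {T P Q Z : Subgroup G} {w t : G} (h : PF T P Q Z w) (ht : t ∈ T) (htQ : t ∉ Q) :
    ∃ z ∈ Z, ⁅z, t⁆ = w := by
  by_contra hcon
  push Not at hcon
  apply htQ
  refine h.CQ ⟨h.TP ht, mem_centralizer_iff.mpr fun z hz => ?_⟩
  rcases h.com z hz t ht with h1 | h1
  · exact commutatorElement_eq_one_iff_mul_comm.mp h1
  · exact absurd h1 (hcon z hz)

theorem PF.inv_w {T P Q Z : Subgroup G} {w : G} (h : PF T P Q Z w) : w⁻¹ = w := inv_eq_of_mul_eq_one_left h.w2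

theorem PF.exists_out [Finite G] {T P Q Z : Subgroup G} {w : G} (h : PF T P Q Z w) : ∃ g ∈ P, g ∉ T := by
  by_contra hcon
  push Not at hcon
  have := h.i3
  rw [relIndex_eq_one.mpr hcon] at this
  omega

theorem PF.exists_tQ [Finite G] {T P Q Z : Subgroup G} {w : G} (h : PF T P Q Z w) : ∃ t ∈ T, t ∉ Q := by
  by_contra hcon
  push Not at hcon
  have := h.i2
  rw [relIndex_eq_one.mpr hcon] at this
  omega

/-- the amalgam -/
structure Am (T : Subgroup G) (P Q Z : Bool → Subgroup G) (w : Bool → G) : Prop where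
  pf : ∀ i, PF T (P i) (Q i) (Z i) (w i)
  O1 : ∀ R : Subgroup G, R ≤ T → (∀ i, P i ≤ normalizer (R : Set G)) → R = ⊥

/-- walks -/
def Wk (P : Bool → Subgroup G) : ℕ → Bool → Set G
  | 0, _ => {1}
  | n + 1, i => {x | ∃ p ∈ P (!i), ∃ q ∈ Wk P n (!i), x = p * q}

def tp : ℕ → Bool → Bool
  | 0, i => i
  | n + 1, i => tp n (!i)

theorem tp_not (n : ℕ) : ∀ i, tp n (!i) = !(tp n i) := by
  induction n with
  | zero => intro i; rfl
  | succ n ih => intro i; exact ih (!i)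

theorem tp_succ (n : ℕ) (i : Bool) : tp (n + 1) i = !(tp n i) := tp_not n i

theorem tp_tp (n : ℕ) : ∀ i, tp n (tp n i) = i := by
  induction n with
  | zero => intro i; rfl
  | succ n ih =>
    intro i
    rw [tp_succ, tp_succ, tp_not, Bool.not_not]
    exact ih i

theorem Wk_snoc (P : Bool → Subgroup G) (n : ℕ) : ∀ (i : Bool) (x : G), x ∈ Wk P (n + 1) i ↔
    ∃ q ∈ Wk P n i, ∃ r ∈ P (tp (n + 1) i), x = q * r := by
  induction n with
  | zero =>
    intro i x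
    constructor
    · rintro ⟨p, hp, q, hq, rfl⟩
      have : q = 1 := hq
      subst this
      exact ⟨1, rfl, p, hp, by simp⟩
    · rintro ⟨q, hq, r, hr, rfl⟩
      have : q = 1 := hq
      subst this
      exact ⟨r, hr, 1, rfl, by simp⟩
  | succ n ih =>
    intro i x
    constructor
    · rintro ⟨p, hp, q, hq, rfl⟩
      obtain ⟨q', hq', r, hr, rfl⟩ := (ih (!i) q).mp hq
      exact ⟨p * q', ⟨p, hp, q', hq', rfl⟩, r, hr, by rw [mul_assoc]⟩
    · rintro ⟨q, ⟨p, hp, q', hq', rfl⟩, r, hr, rfl⟩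
      exact ⟨p, hp, q' * r, (ih (!i) _).mpr ⟨q', hq', r, hr, rfl⟩, by rw [mul_assoc]⟩

theorem Wk_inv (P : Bool → Subgroup G) (n : ℕ) : ∀ (i : Bool) (x : G), x ∈ Wk P n i → x⁻¹ ∈ Wk P n (tp (n + 1) i) := by
  induction n with
  | zero =>
    intro i x hx
    have : x = 1 := hx
    subst this
    rw [inv_one]; rfl
  | succ n ih =>
    rintro i x ⟨p, hp, q, hq, rfl⟩
    rw [Wk_snoc]
    refine ⟨q⁻¹, ih _ _ hq, p⁻¹, ?_, by rw [mul_inv_rev]⟩
    have e : tp (n + 1) (tp (n + 1 + 1) i) = !i := by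
      rw [tp_succ (n + 1), tp_not, tp_tp]
    rw [e]
    exact inv_mem hp

theorem Wk_one (P : Bool → Subgroup G) (n : ℕ) : ∀ i, (1 : G) ∈ Wk P n i := by
  induction n with
  | zero => intro i; rfl
  | succ n ih => intro i; exact ⟨1, one_mem _, 1, ih _, by simp⟩

/-- criticality -/
def Cr (P Q Z : Bool → Subgroup G) (n : ℕ) (i : Bool) (p : G) : Prop :=
  p ∈ Wk P n i ∧ ¬ Z i ≤ MulAut.conj p • Q (tp (n + 1) i)

section
variable [Finite G] {T : Subgroup G} {P Q Z : Bool → Subgroup G} {w : Bool → G}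

/-- `m` is minimal -/
def Mn' (P Q Z : Bool → Subgroup G) (m : ℕ) : Prop :=
  ∀ n < m, ∀ i, ∀ p ∈ Wk P n i, Z i ≤ MulAut.conj p • Q (tp (n + 1) i)

theorem conj_mul_norm {A : Subgroup G} {q r : G} (hr : r ∈ normalizer (A : Set G)) :
    MulAut.conj (q * r) • A = MulAut.conj q • A := by
  rw [map_mul, mul_smul, conj_smul_eq_of_mem_normalizer hr]

theorem Am.a (am : Am T P Q Z w) {k : ℕ} (hm : Mn' P Q Z (k + 1)) {i : Bool} {p : G} (hp : p ∈ Wk P (k + 1) i) :
    Z i ≤ MulAut.conj p • Q (tp (k + 1) i) := by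
  obtain ⟨q, hq, r, hr, rfl⟩ := (Wk_snoc P k i p).mp hp
  rw [conj_mul_norm ((am.pf _).PQ hr)]
  exact hm k (Nat.lt_succ_self k) i q hq

theorem Am.b (am : Am T P Q Z w) {k : ℕ} (hm : Mn' P Q Z (k + 1)) {i : Bool} {p : G} (hp : p ∈ Wk P (k + 1) i) :
    MulAut.conj p • Z (tp (k + 2) i) ≤ Q (!i) := by
  have h1 := am.a hm (Wk_inv P (k + 1) i p hp)
  have e : tp (k + 1) (tp (k + 1 + 1) i) = !i := by
    rw [tp_succ (k + 1), tp_not, tp_tp]
  rw [e] at h1
  intro x hx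
  rw [mem_conj_smul] at hx
  have h2 := h1 hx
  rw [mem_conj_smul, inv_inv] at h2
  have e : p * (p⁻¹ * x * p) * p⁻¹ = x := by group
  rwa [e] at h2

theorem Am.c (am : Am T P Q Z w) {k : ℕ} (hm : Mn' P Q Z (k + 1)) {i : Bool} {p : G} (hc : Cr P Q Z (k + 1) i p) :
    w i = p * w (tp (k + 2) i) * p⁻¹ ∧ ∃ z' ∈ Z (tp (k + 2) i), p * z' * p⁻¹ ∈ Q (!i) ∧ p * z' * p⁻¹ ∉ Q i := by
  have ha := am.a hm hc.1
  have hb := am.b hm hc.1
  obtain ⟨z, hz, hz'⟩ := Set.not_subset.mp hc.2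
  have hz'' : z ∉ MulAut.conj p • Q (tp (k + 2) i) := hz'
  rw [mem_conj_smul] at hz''
  set j := tp (k + 2) i with hj
  have hyT : p⁻¹ * z * p ∈ T := by
    have := ha hz
    rw [mem_conj_smul] at this
    exact (am.pf _).QT this
  obtain ⟨z', hz1, hz2⟩ := (am.pf j).exists_com hyT hz''
  have h1 : p * z' * p⁻¹ ∈ Q (!i) := by
    apply hb
    rw [mem_conj_smul]
    have e : p⁻¹ * (p * z' * p⁻¹) * p = z' := by group
    rwa [e]
  have h2 : ⁅z, p * z' * p⁻¹⁆ = p * w j * p⁻¹ := by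
    have e : ⁅z, p * z' * p⁻¹⁆ = p * ⁅z', p⁻¹ * z * p⁆⁻¹ * p⁻¹ := by simp only [commutatorElement_def]; group
    rw [e, hz2, (am.pf j).inv_w]
  have h3 : p * w j * p⁻¹ ≠ 1 := by
    intro h
    apply (am.pf j).w1
    have := congrArg (fun y => p⁻¹ * y * p) h
    simpa [mul_assoc] using this
  refine ⟨?_, z', hz1, h1, ?_⟩
  · rcases (am.pf i).com z hz _ ((am.pf _).QT h1) with h | h
    · rw [h2] at h; exact absurd h h3
    · rw [← h, h2]
  · intro h
    apply h3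
    rw [← h2, commutatorElement_eq_one_iff_mul_comm]
    exact mem_centralizer_iff.mp ((am.pf i).QC h) z hz

theorem conj_le_of_conj {A X : Subgroup G} {g : G} (h : ∀ a ∈ A, g * a * g⁻¹ ∈ X) : MulAut.conj g • A ≤ X := by
  intro x hx
  rw [mem_conj_smul] at hx
  have := h _ hx
  have e : g * (g⁻¹ * x * g) * g⁻¹ = x := by group
  rwa [e] at this

/-- the shift -/
theorem Am.d (am : Am T P Q Z w) {k : ℕ} (hm : Mn' P Q Z (k + 1)) {i : Bool} {q r g : G} (hq : q ∈ Wk P k i)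
    (hr : r ∈ P (tp (k + 1) i)) (hc : Cr P Q Z (k + 1) i (q * r)) (hg : g ∈ P i) (hgT : g ∉ T) :
    P i ≤ normalizer ((Z i ⊔ Z (!i) : Subgroup G) : Set G) ∨ Cr P Q Z (k + 1) (!i) (g⁻¹ * q) := by
  by_cases hcr : Cr P Q Z (k + 1) (!i) (g⁻¹ * q)
  · exact Or.inr hcr
  left
  have hW : g⁻¹ * q ∈ Wk P (k + 1) (!i) := by
    refine ⟨g⁻¹, ?_, q, ?_, rfl⟩
    · rw [Bool.not_not]; exact inv_mem hg
    · rw [Bool.not_not]; exact hq
  have hle : Z (!i) ≤ MulAut.conj (g⁻¹ * q) • Q (tp (k + 1 + 1) (!i)) := by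
    by_contra h
    exact hcr ⟨hW, h⟩
  have ej : tp (k + 1 + 1) (!i) = tp (k + 1) i := by rw [tp_succ (k+1), tp_not, Bool.not_not]
  rw [ej] at hle
  obtain ⟨hw, z', hz1, hz2, hz3⟩ := am.c hm hc
  set p := q * r with hp
  set j := tp (k + 2) i with hj
  set j' := tp (k + 1) i with hj'
  have hb := am.b hm hc.1
  rw [← hj] at hb
  set V := Z i ⊔ MulAut.conj g • Z (!i) with hV
  have hgP := (am.pf i).TP
  have hY : MulAut.conj p • Z j ≤ normalizer (Z i : Set G) := hb.trans (((am.pf _).QT.trans (am.pf i).TP).trans (am.pf i).PZ)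
  have hgZ : MulAut.conj g • Z (!i) ≤ P i := by
    rw [← conj_self hg]
    exact (Subgroup.pointwise_smul_le_pointwise_smul_iff).mpr (((am.pf _).ZQ.trans (am.pf _).QT).trans (am.pf i).TP)
  have hcm : ⁅MulAut.conj g • Z (!i), MulAut.conj p • Z j⁆ ≤ Z i := by
    rw [commutator_le]
    intro x hx y hy
    rw [mem_conj_smul] at hx hy
    have h1 := hle hx
    rw [mem_conj_smul] at h1
    -- t := p⁻¹ x p ∈ T
    have h2 : p⁻¹ * x * p ∈ T := by
      have e : p⁻¹ * x * p = r⁻¹ * ((g⁻¹ * q)⁻¹ * (g⁻¹ * x * g) * (g⁻¹ * q)) * r := by rw [hp]; group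
      rw [e]
      apply (am.pf j').QT
      have := (mem_normalizer_iff.mp (inv_mem ((am.pf j').PQ hr)) _).mp h1
      rwa [inv_inv] at this
    have e : ⁅x, y⁆ = p * ⁅p⁻¹ * y * p, p⁻¹ * x * p⁆⁻¹ * p⁻¹ := by simp only [commutatorElement_def]; group
    rw [e]
    rcases (am.pf j).com _ hy _ h2 with h | h
    · rw [h]
      simp
    · rw [h, (am.pf j).inv_w, ← hw]
      exact (am.pf i).wZ
  have hYV : MulAut.conj p • Z j ≤ normalizer (V : Set G) := by
    rw [hV, sup_comm]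
    exact norm_sup_of_comm_le hY (hgZ.trans (am.pf i).PZ) hcm
  have hTV : MulAut.conj g • T ≤ normalizer (V : Set G) := by
    refine le_trans (le_inf ?_ ?_) (normalizer_inf_normalizer_le_normalizer_sup _ _)
    · refine le_trans ?_ (am.pf i).PZ
      rw [← conj_self hg]
      exact (Subgroup.pointwise_smul_le_pointwise_smul_iff).mpr (am.pf i).TP
    · apply le_normalizer_of_conj
      intro t ht x hx
      rw [mem_conj_smul] at ht hx ⊢
      have e : g⁻¹ * (t * x * t⁻¹) * g = (g⁻¹ * t * g) * (g⁻¹ * x * g) * (g⁻¹ * t * g)⁻¹ := by group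
      rw [e]
      exact (mem_normalizer_iff.mp (((am.pf (!i)).TP.trans (am.pf (!i)).PZ) ht) _).mp hx
  have hyT : p * z' * p⁻¹ ∈ T := (am.pf _).QT hz2
  have hPV : P i ≤ normalizer (V : Set G) := by
    apply (am.pf i).gen' hg hTV (x := p * z' * p⁻¹) (hgP hyT)
    · intro h
      exact hz3 ((am.pf i).int hg hgT hyT h)
    · apply hYV
      rw [mem_conj_smul]
      have e : p⁻¹ * (p * z' * p⁻¹) * p = z' := by group
      rwa [e]
  have e1 : MulAut.conj g • (Z i ⊔ Z (!i) : Subgroup G) = V := by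
    rw [smul_sup', conj_smul_eq_of_mem_normalizer ((am.pf i).PZ hg)]
  have e2 : MulAut.conj g • V = V := conj_smul_eq_of_mem_normalizer (hPV hg)
  have e3 : (Z i ⊔ Z (!i) : Subgroup G) = V := by
    rw [← e1] at e2
    exact (smul_left_cancel _ e2).symm.trans e1
  rw [e3]; exact hPV

end

end CfsgLib.H2JC
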