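import Cfsg.Agent.EqBase
import Cfsg.Agent.LibH2JD3
set_option autoImplicit false
set_option maxHeartbeats 400000
/-! J(T)-components, part 23: the amalgam method, continued.  Seat helper2. -/
namespace CfsgLib.H2JC
open Subgroup Cfsg CfsgLib.Coprime CfsgLib.Coprime2 CfsgLib.H2Misc CfsgLib.H2Thomp CfsgLib.Cores CfsgLib.H2FF
open CfsgLib.SolvCoprime (IsSylowIn)
open CfsgLib.SolvBasic (mem_conj_smul)
open CfsgLib.LE (pCoreOf_isPGroup pCoreOf_le le_pCoreOf normalizer_le_normalizer_pCoreOf le_normalizer_pCoreOf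
  pCoreOf_le_pCoreOf_of_normal)
open scoped Pointwise commutatorElement

universe u

variable {G : Type u} [Group G]

section
variable [Finite G] {T : Subgroup G} {P Q Z : Bool → Subgroup G} {w : Bool → G}

theorem Am.Q_ne (am : Am T P Q Z w) (i : Bool) : ¬ Q i ≤ Q (!i) := by
  intro h
  have h1 : Q i = Q (!i) := by
    apply eq_of_le_of_card_ge h
    have h2 := card_mul_relIndex (am.pf i).QT
    have h3 := card_mul_relIndex (am.pf (!i)).QT
    rw [(am.pf i).i2] at h2
    rw [(am.pf (!i)).i2] at h3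
    omega
  have h2 : Q i = ⊥ := by
    apply am.O1 _ (am.pf i).QT
    intro j
    cases i <;> cases j
    · exact (am.pf false).PQ
    · rw [h1]; exact (am.pf true).PQ
    · rw [h1]; exact (am.pf false).PQ
    · exact (am.pf true).PQ
  apply (am.pf i).w1
  have := (am.pf i).ZQ (am.pf i).wZ
  rwa [h2, mem_bot] at this

theorem Am.Zle (_am : Am T P Q Z w) {k : ℕ} (hm : Mn' P Q Z (k + 1)) (i : Bool) : Z i ≤ Q (!i) := by
  have h := hm 0 (Nat.succ_pos k) i 1 rfl
  rw [map_one, one_smul] at h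
  exact h

theorem T_cen {t : G} {T : Subgroup G} (h : t ∈ centralizer (T : Set G)) : T ≤ centralizer ((zpowers t : Subgroup G) : Set G) := by
  rw [zpowers_eq_closure, centralizer_closure]
  intro x hx
  rw [mem_centralizer_singleton_iff]
  exact mem_centralizer_iff.mp h x hx

theorem Am.N_cen (am : Am T P Q Z w) {i : Bool} (hN : P i ≤ normalizer ((Z i ⊔ Z (!i) : Subgroup G) : Set G)) :
    P i ≤ centralizer ({w (!i)} : Set G) := by
  obtain ⟨y, hy, hy'⟩ := Set.not_subset.mp (am.Q_ne i)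
  have hyT : y ∈ T := (am.pf i).QT hy
  obtain ⟨u, hu, huy⟩ := (am.pf (!i)).exists_com hyT hy'
  set C := zpowers (w (!i)) with hC
  have hTC : T ≤ centralizer (C : Set G) := T_cen (am.pf (!i)).wT
  have hTN : T ≤ normalizer (C : Set G) := hTC.trans (centralizer_le_normalizer _)
  have h1 : ⁅Q i, Z i ⊔ Z (!i)⁆ ≤ C := by
    apply comm_sup_le
    · exact ((am.pf i).ZQ.trans (am.pf i).QT).trans hTN
    · exact ((am.pf _).ZQ.trans (am.pf _).QT).trans hTN
    · rw [commutator_eq_bot_iff_le_centralizer.mpr (am.pf i).QC]; exact bot_le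
    · rw [commutator_comm, commutator_le]
      intro x hx z hz
      rcases (am.pf (!i)).com x hx z ((am.pf i).QT hz) with h | h
      · rw [h]; exact one_mem _
      · rw [h]; exact mem_zpowers _
  have h2 : ⁅Q i, Z i ⊔ Z (!i)⁆ = C := by
    apply le_antisymm h1
    rw [hC, zpowers_le, ← huy, commutator_comm]
    exact commutator_mem_commutator (mem_sup_right hu) hy
  have h3 : P i ≤ normalizer (C : Set G) := by
    rw [← h2]
    exact (le_inf (am.pf i).PQ hN).trans (fun x hx => norm_comm le_rfl hx)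
  have h4 : Nat.card C ≤ 2 := by
    rw [hC, Nat.card_zpowers]
    apply orderOf_le_of_pow_eq_one (by decide)
    rw [pow_two]; exact (am.pf _).w2
  have h5 := cen_of_card_two h4 h3
  intro x hx
  rw [mem_centralizer_singleton_iff]
  exact (mem_centralizer_iff.mp (h5 hx) _ (mem_zpowers _)).symm

theorem Am.conj_T_cen (_am : Am T P Q Z w) {x g : G} (hx : x ∈ centralizer (T : Set G)) :
    MulAut.conj g • T ≤ centralizer ({g * x * g⁻¹} : Set G) := by
  intro t ht
  rw [mem_conj_smul] at ht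
  rw [mem_centralizer_singleton_iff]
  have h1 := mem_centralizer_iff.mp hx _ ht
  have := congrArg (fun y => g * y * g⁻¹) h1
  simpa [mul_assoc] using this

theorem cen_conj {X : Subgroup G} {x g : G} (hg : g ∈ X) (h : X ≤ centralizer ({g * x * g⁻¹} : Set G)) :
    X ≤ centralizer ({x} : Set G) := by
  intro y hy
  have h1 := h (X.mul_mem (X.mul_mem hg hy) (X.inv_mem hg))
  rw [mem_centralizer_singleton_iff] at h1 ⊢
  have := congrArg (fun z => g⁻¹ * z * g) h1
  simpa [mul_assoc] using this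

theorem Am.cen (am : Am T P Q Z w) {k : ℕ} (hm : Mn' P Q Z (k + 1)) {i : Bool} {p : G} (hc : Cr P Q Z (k + 1) i p) :
    P i ≤ centralizer ({w (!i)} : Set G) := by
  obtain ⟨q, hq, r, hr, rfl⟩ := (Wk_snoc P k i p).mp hc.1
  obtain ⟨g, hg, hgT⟩ := (am.pf i).exists_out
  rcases am.d hm hq hr hc hg hgT with hN | hs
  · exact am.N_cen hN
  · obtain ⟨h1, -⟩ := am.c hm hs
    obtain ⟨-, z', hz1, hz2, hz3⟩ := am.c hm hc
    have ej : tp (k + 2) (!i) = tp (k + 1) i := by rw [tp_succ (k+1), tp_not, Bool.not_not]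
    have ej2 : tp (k + 1) i = !(tp (k + 2) i) := by rw [tp_succ (k+1), Bool.not_not]
    rw [ej] at h1
    set j := tp (k + 2) i with hj
    set j' := tp (k + 1) i with hj'
    have h2 : g * w (!i) * g⁻¹ = q * w j' * q⁻¹ := by
      rw [h1]; group
    have hzQ : z' ∈ Q j' := by rw [ej2]; exact am.Zle hm j hz1
    have h3 : (q * r) * z' * (q * r)⁻¹ ∈ centralizer ({g * w (!i) * g⁻¹} : Set G) := by
      rw [mem_centralizer_singleton_iff, h2]
      have h4 : r⁻¹ * w j' * r ∈ Z j' := by
        have := (mem_normalizer_iff.mp (inv_mem ((am.pf j').PZ hr)) _).mp (am.pf j').wZ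
        rwa [inv_inv] at this
      have h5 := mem_centralizer_iff.mp ((am.pf j').QC hzQ) _ h4
      have := congrArg (fun y => q * r * y * r⁻¹ * q⁻¹) h5
      simp only [mul_assoc, mul_inv_rev, inv_mul_cancel_left, mul_inv_cancel_left] at this ⊢
      exact this.symm
    have hyT : (q * r) * z' * (q * r)⁻¹ ∈ T := (am.pf _).QT hz2
    apply cen_conj hg
    apply (am.pf i).gen' hg (am.conj_T_cen (am.pf (!i)).wT) ((am.pf i).TP hyT) _ h3
    intro h
    exact hz3 ((am.pf i).int hg hgT hyT h)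

theorem Am.noN (am : Am T P Q Z w) {k : ℕ} (hm : Mn' P Q Z (k + 1)) {i : Bool} {p : G} (hc : Cr P Q Z (k + 1) i p)
    (hN : ∀ i, ¬ P i ≤ normalizer ((Z i ⊔ Z (!i) : Subgroup G) : Set G)) : k = 0 := by
  rcases k with - | k
  · rfl
  exfalso
  obtain ⟨q, hq, r, hr, rfl⟩ := (Wk_snoc P (k + 1) i p).mp hc.1
  obtain ⟨q', hq', r', hr', rfl⟩ := (Wk_snoc P k i q).mp hq
  have key : ∀ g ∈ P i, g ∉ T → g * w i * g⁻¹ = q' * w (tp (k + 3) i) * q'⁻¹ := by
    intro g hg hgT
    have h1 := (am.d hm hq hr hc hg hgT).resolve_left (hN i)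
    have h2 : Cr P Q Z (k + 1 + 1) (!i) (g⁻¹ * q' * r') := by rw [mul_assoc]; exact h1
    have hq2 : g⁻¹ * q' ∈ Wk P (k + 1) (!i) := by
      refine ⟨g⁻¹, ?_, q', ?_, rfl⟩
      · rw [Bool.not_not]; exact inv_mem hg
      · rw [Bool.not_not]; exact hq'
    have hr2 : r' ∈ P (tp (k + 1 + 1) (!i)) := by
      rw [tp_succ (k+1), tp_not, Bool.not_not]; exact hr'
    obtain ⟨h, hh, hhT⟩ := (am.pf (!i)).exists_out
    have h3 := (am.d hm hq2 hr2 h2 hh hhT).resolve_left (hN (!i))
    rw [Bool.not_not] at h3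
    obtain ⟨h4, -⟩ := am.c hm h3
    have h5 := am.cen hm h2
    rw [Bool.not_not] at h5
    have h6 := h5 hh
    rw [mem_centralizer_singleton_iff] at h6
    have h7 : h * w i * h⁻¹ = w i := by rw [h6, mul_inv_cancel_right]
    rw [← h7, h4]
    group
  obtain ⟨g, hg, hgT⟩ := (am.pf i).exists_out
  obtain ⟨t, ht, htQ⟩ := (am.pf i).exists_tQ
  have htP := (am.pf i).TP ht
  have h1 := key g hg hgT
  have h2 := key (t * g) (mul_mem htP hg) (fun h => hgT (by
    have := T.mul_mem (T.inv_mem ht) h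
    rwa [inv_mul_cancel_left] at this))
  have h3 : t ∈ centralizer ({g * w i * g⁻¹} : Set G) := by
    rw [mem_centralizer_singleton_iff]
    have h4 : t * (g * w i * g⁻¹) * t⁻¹ = g * w i * g⁻¹ := by
      have e : t * (g * w i * g⁻¹) * t⁻¹ = t * g * w i * (t * g)⁻¹ := by group
      rw [e, h2, h1]
    calc t * (g * w i * g⁻¹) = (t * (g * w i * g⁻¹) * t⁻¹) * t := by group
      _ = g * w i * g⁻¹ * t := by rw [h4]
  apply (am.pf i).wP
  apply cen_conj hg
  apply (am.pf i).gen' hg (am.conj_T_cen (am.pf i).wT) htP _ h3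
  intro h
  exact htQ ((am.pf i).int hg hgT ht h)

theorem Am.exists_cr (am : Am T P Q Z w) : ∃ m i p, Cr P Q Z m i p := by
  by_contra hcon
  push Not at hcon
  have h0 : ∀ m i p, p ∈ Wk P m i → Z i ≤ MulAut.conj p • Q (tp (m + 1) i) := by
    intro m i p hp
    by_contra h
    exact hcon m i p ⟨hp, h⟩
  have hmem : ∀ h ∈ P true ⊔ P false, ∀ i, ∃ n, h ∈ Wk P n i := by
    intro h hh
    rw [Subgroup.sup_eq_closure] at hh
    have step : ∀ (k : Bool) (x : G), x ∈ P k → ∀ y, (∀ i, ∃ n, y ∈ Wk P n i) → ∀ i, ∃ n, x * y ∈ Wk P n i := by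
      intro k x hx y hy i
      by_cases hk : k = !i
      · subst hk
        obtain ⟨n, hn⟩ := hy (!i)
        exact ⟨n + 1, x, hx, y, hn, rfl⟩
      · have hk' : k = i := by cases k <;> cases i <;> simp_all
        subst hk'
        obtain ⟨n, hn⟩ := hy k
        refine ⟨n + 2, 1, one_mem _, x * y, ⟨x, ?_, y, ?_, rfl⟩, by simp⟩
        · rw [Bool.not_not]; exact hx
        · rw [Bool.not_not]; exact hn
    induction hh using Subgroup.closure_induction_left with
    | one => intro i; exact ⟨0, rfl⟩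
    | mul_left x hx y hy ih =>
      rcases hx with hx | hx
      · exact step true x hx y ih
      · exact step false x hx y ih
    | inv_mul_cancel x hx y hy ih =>
      rcases hx with hx | hx
      · exact step true _ (inv_mem hx) y ih
      · exact step false _ (inv_mem hx) y ih
  set H := P true ⊔ P false with hH
  have h1 : ∀ h ∈ H, Z true ≤ MulAut.conj h • Q true := by
    intro h hh
    obtain ⟨n, hn⟩ := hmem h hh true
    by_cases he : tp (n + 1) true = true
    · have := h0 n true h hn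
      rwa [he] at this
    · have he' : tp (n + 1 + 1) true = true := by rw [tp_succ (n+1)]; simpa using he
      have hn' : h ∈ Wk P (n + 1) true := (Wk_snoc P n true h).mpr ⟨h, hn, 1, one_mem _, by simp⟩
      have := h0 (n + 1) true h hn'
      rwa [he'] at this
  let R : Subgroup G :=
    { carrier := {x | ∀ h ∈ H, h⁻¹ * x * h ∈ Q true}
      one_mem' := fun h _ => by simp
      mul_mem' := by
        intro a b ha hb h hh
        have e : h⁻¹ * (a * b) * h = (h⁻¹ * a * h) * (h⁻¹ * b * h) := by group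
        rw [e]
        exact mul_mem (ha h hh) (hb h hh)
      inv_mem' := by
        intro a ha h hh
        have e : h⁻¹ * a⁻¹ * h = (h⁻¹ * a * h)⁻¹ := by group
        rw [e]
        exact inv_mem (ha h hh) }
  have hR : ∀ x, x ∈ R ↔ ∀ h ∈ H, h⁻¹ * x * h ∈ Q true := fun x => Iff.rfl
  have hRT : R ≤ T := by
    intro x hx
    have := (hR x).mp hx 1 (one_mem _)
    rw [inv_one, one_mul, mul_one] at this
    exact (am.pf true).QT this
  have hHR : H ≤ normalizer (R : Set G) := by
    apply le_normalizer_of_conj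
    intro g hg x hx
    rw [hR]
    intro h hh
    have e : h⁻¹ * (g * x * g⁻¹) * h = (g⁻¹ * h)⁻¹ * x * (g⁻¹ * h) := by group
    rw [e]
    exact (hR x).mp hx _ (mul_mem (inv_mem hg) hh)
  have hRb : R = ⊥ := by
    apply am.O1 R hRT
    intro i
    cases i
    · exact le_sup_right.trans hHR
    · exact le_sup_left.trans hHR
  apply (am.pf true).w1
  have h2 : w true ∈ R := by
    rw [hR]
    intro h hh
    have := h1 h hh (am.pf true).wZ
    rwa [mem_conj_smul] at this
  rwa [hRb, mem_bot] at h2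

theorem Am.tri (am : Am T P Q Z w) : (∃ i, ¬ Z i ≤ Q (!i)) ∨ ∃ k i p, Mn' P Q Z (k + 1) ∧ Cr P Q Z (k + 1) i p := by
  classical
  have h := am.exists_cr
  have h1 := Nat.find_spec h
  have h2 : Mn' P Q Z (Nat.find h) := by
    intro n hn i p hp
    by_contra hcon
    exact Nat.find_min h hn ⟨i, p, hp, hcon⟩
  obtain ⟨i, p, hc⟩ := h1
  rcases hm : Nat.find h with - | k
  · left
    rw [hm] at hc
    have hp : p = 1 := hc.1
    subst hp
    refine ⟨i, fun hle => hc.2 ?_⟩
    rw [map_one, one_smul]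
    exact hle
  · right
    rw [hm] at hc h2
    exact ⟨k, i, p, h2, hc⟩

/-- the case `b = 2` without normal products -/
theorem Am.two (am : Am T P Q Z w) {i : Bool} {p : G} (hm : Mn' P Q Z (0 + 1)) (hc : Cr P Q Z (0 + 1) i p)
    (hN : ∀ i, ¬ P i ≤ normalizer ((Z i ⊔ Z (!i) : Subgroup G) : Set G)) :
    (∀ j, ∃ g ∈ P j, ¬ Z (!j) ≤ MulAut.conj g • Q (!j)) ∧ ∀ j, P j ≤ centralizer ({w (!j)} : Set G) := by
  obtain ⟨q, hq, r, hr, rfl⟩ := (Wk_snoc P 0 i p).mp hc.1
  have hq1 : q = 1 := hq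
  subst hq1
  obtain ⟨g, hg, hgT⟩ := (am.pf i).exists_out
  have h1 := (am.d hm hq hr hc hg hgT).resolve_left (hN i)
  have h3 : ∃ g ∈ P i, ¬ Z (!i) ≤ MulAut.conj g • Q (!i) := by
    refine ⟨g⁻¹, inv_mem hg, ?_⟩
    have h4 := h1.2
    rw [mul_one] at h4
    have e : tp (0 + 1 + 1) (!i) = !i := by cases i <;> rfl
    rwa [e] at h4
  have h5 : ∃ g ∈ P (!i), ¬ Z (!(!i)) ≤ MulAut.conj g • Q (!(!i)) := by
    refine ⟨r, hr, ?_⟩
    have h4 := hc.2
    rw [one_mul] at h4
    have e : tp (0 + 1 + 1) i = !(!i) := by cases i <;> rfl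
    rwa [e, show Z i = Z (!(!i)) by rw [Bool.not_not]] at h4
  have h6 := am.cen hm hc
  have h7 := am.cen hm h1
  refine ⟨fun j => ?_, fun j => ?_⟩
  · by_cases hj : j = i
    · subst hj; exact h3
    · have hj' : j = !i := by cases i <;> cases j <;> simp_all
      subst hj'; exact h5
  · by_cases hj : j = i
    · subst hj; exact h6
    · have hj' : j = !i := by cases i <;> cases j <;> simp_all
      subst hj'; exact h7

end

end CfsgLib.H2JC
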