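import Cfsg.Agent.EqBase
import Cfsg.Agent.LibH2JD4
set_option autoImplicit false
set_option maxHeartbeats 400000
/-! J(T)-components, part 24: the case `b = 2`.  Seat helper2. -/
namespace CfsgLib.H2JC
open Subgroup Cfsg CfsgLib.Coprime CfsgLib.Coprime2 CfsgLib.H2Misc CfsgLib.H2Thomp CfsgLib.Cores CfsgLib.H2FF
open CfsgLib.SolvCoprime (IsSylowIn)
open CfsgLib.SolvBasic (mem_conj_smul)
open CfsgLib.LE (pCoreOf_isPGroup pCoreOf_le le_pCoreOf normalizer_le_normalizer_pCoreOf le_normalizer_pCoreOf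
  pCoreOf_le_pCoreOf_of_normal)
open scoped Pointwise commutatorElement

universe u

variable {G : Type u} [Group G]

theorem PF.mulQ {T P Q Z : Subgroup G} {w : G} (h : PF T P Q Z w) {x y : G} (hx : x ∈ T) (hy : y ∈ T) (hxQ : x ∉ Q) (hyQ : y ∉ Q) :
    x * y ∈ Q := by
  have h1 : (Q.subgroupOf T).index = 2 := h.i2
  have h2 := Subgroup.mul_mem_iff_of_index_two h1 (a := ⟨x, hx⟩) (b := ⟨y, hy⟩)
  simp only [mem_subgroupOf, Subgroup.coe_mul] at h2
  exact h2.mpr ⟨fun h => absurd h hxQ, fun h => absurd h hyQ⟩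

theorem PF.mulQ' {T P Q Z : Subgroup G} {w g : G} (h : PF T P Q Z w) {x y : G} (hx : x ∈ MulAut.conj g • T) (hy : y ∈ MulAut.conj g • T)
    (hxQ : x ∉ MulAut.conj g • Q) (hyQ : y ∉ MulAut.conj g • Q) :
    x * y ∈ MulAut.conj g • Q := by
  rw [mem_conj_smul] at *
  have e : g⁻¹ * (x * y) * g = (g⁻¹ * x * g) * (g⁻¹ * y * g) := by group
  rw [e]
  exact h.mulQ hx hy hxQ hyQ

/-- squares -/
def Sq (A : Subgroup G) : Subgroup G := closure {x | ∃ a ∈ A, x = a * a}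

theorem mem_Sq {A : Subgroup G} {a : G} (ha : a ∈ A) : a * a ∈ Sq A := subset_closure ⟨a, ha, rfl⟩

theorem Sq_le (A : Subgroup G) : Sq A ≤ A := by
  rw [Sq, closure_le]
  rintro x ⟨a, ha, rfl⟩
  exact A.mul_mem ha ha

theorem Sq_mono {A B : Subgroup G} (h : A ≤ B) : Sq A ≤ Sq B := by
  rw [Sq, closure_le]
  rintro x ⟨a, ha, rfl⟩
  exact mem_Sq (h ha)

theorem Sq_norm [Finite G] {A X : Subgroup G} (h : X ≤ normalizer (A : Set G)) : X ≤ normalizer (Sq A : Set G) := by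
  intro g hg
  apply mem_normalizer_of_conj_smul_eq
  have h1 := conj_smul_eq_of_mem_normalizer (h hg)
  apply eq_of_le_of_card_ge
  · have e : MulAut.conj g • Sq A = (Sq A).map (MulAut.conj g).toMonoidHom := rfl
    rw [e, Sq, MonoidHom.map_closure, closure_le]
    rintro _ ⟨x, ⟨a, ha, rfl⟩, rfl⟩
    have h2 : g * a * g⁻¹ ∈ A := (mem_normalizer_iff.mp (h hg) a).mp ha
    have h3 := mem_Sq h2
    have e2 : (MulAut.conj g).toMonoidHom (a * a) = g * a * g⁻¹ * (g * a * g⁻¹) := by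
      simp [MulAut.conj_apply]
    rw [e2]; exact h3
  · rw [card_conj_smul]

theorem sq_one_comm {A : Subgroup G} (h : Sq A = ⊥) {a b : G} (ha : a ∈ A) (hb : b ∈ A) : a * a = 1 ∧ a * b = b * a := by
  have key : ∀ x ∈ A, x * x = 1 := by
    intro x hx
    have := mem_Sq hx
    rwa [h, mem_bot] at this
  refine ⟨key a ha, ?_⟩
  have h1 := key (a * b) (A.mul_mem ha hb)
  have h2 : a⁻¹ = a := inv_eq_of_mul_eq_one_left (key a ha)
  have h3 : b⁻¹ = b := inv_eq_of_mul_eq_one_left (key b hb)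
  calc a * b = (a * b)⁻¹ := (inv_eq_of_mul_eq_one_left h1).symm
    _ = b * a := by rw [mul_inv_rev, h2, h3]

/-- the decomposition of `Q1` -/
structure Dc (E A T : Subgroup G) (w : G) : Prop where
  EA : E ≤ A
  AT : A ≤ T
  dec : ∀ a ∈ A, ∃ e ∈ E, ∃ f : G, a = e * f ∧ (f * f = 1 ∨ f * f = w) ∧ ∀ x ∈ E, x * f = f * x
  wS : w ∈ Sq A
  wT : w ∈ centralizer (T : Set G)
  w2 : w * w = 1

theorem Dc.Sq {E A T : Subgroup G} {w : G} (d : Dc E A T w) : Sq A = Sq E ⊔ zpowers w := by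
  apply le_antisymm
  · conv_lhs => unfold H2JC.Sq
    rw [closure_le]
    rintro x ⟨a, ha, rfl⟩
    obtain ⟨e, he, f, rfl, hf, hc⟩ := d.dec a ha
    have h1 : e * f * (e * f) = (e * e) * (f * f) := by
      calc e * f * (e * f) = e * (f * e) * f := by group
        _ = e * (e * f) * f := by rw [hc e he]
        _ = (e * e) * (f * f) := by group
    rw [h1]
    rcases hf with hf | hf
    · rw [hf, mul_one]; exact mem_sup_left (mem_Sq he)
    · rw [hf]; exact mul_mem (mem_sup_left (mem_Sq he)) (mem_sup_right (mem_zpowers w))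
  · refine sup_le (Sq_mono d.EA) ?_
    rw [zpowers_le]; exact d.wS

theorem Dc.mem [Finite G] {E A T : Subgroup G} {w : G} (d : Dc E A T w) {s : G} (hs : s ∈ H2JC.Sq A) : ∃ s' ∈ H2JC.Sq E, ∃ c ∈ zpowers w, s = s' * c := by
  rw [d.Sq] at hs
  have h1 : H2JC.Sq E ≤ normalizer ((zpowers w : Subgroup G) : Set G) :=
    ((Sq_le E).trans (d.EA.trans d.AT)).trans ((T_cen d.wT).trans (centralizer_le_normalizer _))
  obtain ⟨a, ha, b, hb, rfl⟩ := (mem_sup_right_norm h1).mp hs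
  exact ⟨a, ha, b, hb, rfl⟩

theorem zp_sq {w c : G} (h : w * w = 1) (hc : c ∈ zpowers w) : c * c = 1 := by
  obtain ⟨n, rfl⟩ := hc
  beta_reduce
  rw [← (Commute.refl w).mul_zpow n, h, one_zpow]

theorem Dc.SqSq [Finite G] {E A T : Subgroup G} {w : G} (d : Dc E A T w) : H2JC.Sq (H2JC.Sq A) = H2JC.Sq (H2JC.Sq E) := by
  apply le_antisymm
  · conv_lhs => unfold H2JC.Sq
    rw [closure_le]
    rintro x ⟨s, hs, rfl⟩
    obtain ⟨s', hs', c, hc, rfl⟩ := d.mem hs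
    have h1 : s' * c = c * s' := by
      have h2 := (T_cen d.wT) (d.AT (d.EA (Sq_le E hs')))
      exact (mem_centralizer_iff.mp h2 c hc).symm
    have h3 : s' * c * (s' * c) = s' * s' := by
      calc s' * c * (s' * c) = s' * (c * s') * c := by group
        _ = s' * s' * (c * c) := by rw [← h1]; group
        _ = s' * s' := by rw [zp_sq d.w2 hc, mul_one]
    rw [h3]
    exact mem_Sq hs'
  · exact Sq_mono (Sq_mono d.EA)

theorem Dc.com [Finite G] {E A T : Subgroup G} {w : G} (d : Dc E A T w) : ⁅H2JC.Sq A, A⁆ = ⁅H2JC.Sq E, E⁆ := by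
  apply le_antisymm
  · rw [commutator_le]
    intro s hs a ha
    obtain ⟨s', hs', c, hc, rfl⟩ := d.mem hs
    obtain ⟨e, he, f, hf, -, hcf⟩ := d.dec a ha
    have h1 : c * a = a * c := by
      have h2 := (T_cen d.wT) (d.AT ha)
      exact (mem_centralizer_iff.mp h2 c hc)
    have h2 : ⁅s' * c, a⁆ = ⁅s', e⁆ := by
      have e1 : ⁅s' * c, a⁆ = s' * ⁅c, a⁆ * s'⁻¹ * ⁅s', a⁆ := by simp only [commutatorElement_def]; group
      rw [e1, commutatorElement_eq_one_iff_mul_comm.mpr h1, mul_one, mul_inv_cancel, one_mul, hf]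
      have e2 : ⁅s', e * f⁆ = ⁅s', e⁆ * (e * ⁅s', f⁆ * e⁻¹) := by simp only [commutatorElement_def]; group
      rw [e2, commutatorElement_eq_one_iff_mul_comm.mpr (hcf s' (Sq_le E hs')), mul_one, mul_inv_cancel, mul_one]
    rw [h2]
    exact commutator_mem_commutator hs' he
  · exact commutator_mono (Sq_mono d.EA) d.EA

section
variable [Finite G] {T P1 Q1 Z1 P2 Q2 Z2 : Subgroup G} {w1 w2 k1 k2 : G}

theorem b2_sym (f1 : PF T P1 Q1 Z1 w1) (f2 : PF T P2 Q2 Z2 w2) (h21 : Z2 ≤ Q1) (hk1 : k1 ∈ P1) (hk1' : ¬ Z2 ≤ MulAut.conj k1 • Q2) :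
    ∃ z ∈ Z2, k1 * z * k1⁻¹ ∉ Q2 := by
  by_contra hcon
  push Not at hcon
  apply hk1'
  intro x hx
  rw [mem_conj_smul]
  have h1 : k1⁻¹ * x * k1 ∈ Q1 := by
    have := (mem_normalizer_iff.mp (inv_mem (f1.PQ hk1)) _).mp (h21 hx)
    rwa [inv_inv] at this
  refine f2.CQ ⟨f2.TP (f1.QT h1), mem_centralizer_iff.mpr fun z hz => ?_⟩
  have h2 := mem_centralizer_iff.mp (f2.QC (hcon z hz)) x hx
  have := congrArg (fun y => k1⁻¹ * y * k1) h2
  simp only [mul_assoc, inv_mul_cancel_left, inv_mul_cancel, mul_one] at this ⊢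
  exact this.symm

/-- the decomposition -/
theorem b2_dec (f1 : PF T P1 Q1 Z1 w1) (f2 : PF T P2 Q2 Z2 w2) (h12 : Z1 ≤ Q2) (h21 : Z2 ≤ Q1)
    (hk1 : k1 ∈ P1) (hk1' : ¬ Z2 ≤ MulAut.conj k1 • Q2) (hk2 : k2 ∈ P2) (hk2' : ¬ Z1 ≤ MulAut.conj k2 • Q1)
    {E : Subgroup G} (hE : ∀ x, x ∈ E ↔ x ∈ Q1 ∧ x ∈ Q2 ∧ x ∈ MulAut.conj k2 • Q1 ∧ x ∈ MulAut.conj k1 • Q2) :
    (∀ d ∈ Q1 ⊓ Q2, ∃ e ∈ E, ∃ x ∈ Z2, ∃ y ∈ Z1, d = e * x * y) ∧ Dc E Q1 T w2 := by
  obtain ⟨v, hv, hv'⟩ := Set.not_subset.mp hk2'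
  obtain ⟨u2, hu2, hu2'⟩ := Set.not_subset.mp hk1'
  have hv'' : v ∉ MulAut.conj k2 • Q1 := hv'
  have hu2'' : u2 ∉ MulAut.conj k1 • Q2 := hu2'
  have hQ2T : Q2 ≤ MulAut.conj k2 • T := by
    rw [← conj_smul_eq_of_mem_normalizer (f2.PQ hk2)]
    exact (Subgroup.pointwise_smul_le_pointwise_smul_iff).mpr f2.QT
  have hQ1T : Q1 ≤ MulAut.conj k1 • T := by
    rw [← conj_smul_eq_of_mem_normalizer (f1.PQ hk1)]
    exact (Subgroup.pointwise_smul_le_pointwise_smul_iff).mpr f1.QT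
  have hZ2A' : Z2 ≤ MulAut.conj k2 • Q1 := by
    rw [← conj_smul_eq_of_mem_normalizer (f2.PZ hk2)]
    exact (Subgroup.pointwise_smul_le_pointwise_smul_iff).mpr h21
  have sq2 : ∀ x ∈ Z2, x * x = 1 := fun x hx => by have := f2.el.2 x hx; rwa [pow_two] at this
  have sq1 : ∀ x ∈ Z1, x * x = 1 := fun x hx => by have := f1.el.2 x hx; rwa [pow_two] at this
  have inv2 : ∀ x ∈ Z2, x⁻¹ = x := fun x hx => inv_eq_of_mul_eq_one_left (sq2 x hx)
  have inv1 : ∀ x ∈ Z1, x⁻¹ = x := fun x hx => inv_eq_of_mul_eq_one_left (sq1 x hx)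
  have cE1 : ∀ x ∈ E, ∀ y ∈ Z1, x * y = y * x := fun x hx y hy => (mem_centralizer_iff.mp (f1.QC ((hE x).mp hx).1) y hy).symm
  have cE2 : ∀ x ∈ E, ∀ y ∈ Z2, x * y = y * x := fun x hx y hy => (mem_centralizer_iff.mp (f2.QC ((hE x).mp hx).2.1) y hy).symm
  -- decomposition of D
  have hD : ∀ d ∈ Q1 ⊓ Q2, ∃ e ∈ E, ∃ x ∈ Z2, ∃ y ∈ Z1, d = e * x * y := by
    rintro d ⟨hd1, hd2⟩
    obtain ⟨y, hy, hdy⟩ : ∃ y ∈ Z1, d * y ∈ MulAut.conj k2 • Q1 := by
      by_cases h : d ∈ MulAut.conj k2 • Q1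
      · exact ⟨1, one_mem _, by rwa [mul_one]⟩
      · exact ⟨v, hv, f1.mulQ' (hQ2T hd2) (hQ2T (h12 hv)) h hv''⟩
    have hdy1 : d * y ∈ Q1 := Q1.mul_mem hd1 (f1.ZQ hy)
    have hdy2 : d * y ∈ Q2 := Q2.mul_mem hd2 (h12 hy)
    obtain ⟨x, hx, hdx⟩ : ∃ x ∈ Z2, d * y * x ∈ MulAut.conj k1 • Q2 := by
      by_cases h : d * y ∈ MulAut.conj k1 • Q2
      · exact ⟨1, one_mem _, by rwa [mul_one]⟩
      · exact ⟨u2, hu2, f2.mulQ' (hQ1T hdy1) (hQ1T (h21 hu2)) h hu2''⟩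
    refine ⟨d * y * x, ?_, x, hx, y, hy, ?_⟩
    · rw [hE]
      exact ⟨Q1.mul_mem hdy1 (h21 hx), Q2.mul_mem hdy2 (f2.ZQ hx), mul_mem hdy (hZ2A' hx), hdx⟩
    · rw [mul_assoc (d * y) x x, sq2 x hx, mul_one, mul_assoc, sq1 y hy, mul_one]
  refine ⟨hD, ?_⟩
  obtain ⟨z, hz, hu⟩ := b2_sym f1 f2 h21 hk1 hk1'
  set u := k1 * z * k1⁻¹ with hudef
  have huQ1 : u ∈ Q1 := (mem_normalizer_iff.mp (f1.PQ hk1) _).mp (h21 hz)
  have huu : u * u = 1 := by
    rw [hudef]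
    calc k1 * z * k1⁻¹ * (k1 * z * k1⁻¹) = k1 * (z * z) * k1⁻¹ := by group
      _ = 1 := by rw [sq2 z hz]; group
  have huT : u ∈ T := f1.QT huQ1
  have hEu : ∀ x ∈ E, x * u = u * x := by
    intro x hx
    have h1 := ((hE x).mp hx).2.2.2
    rw [mem_conj_smul] at h1
    have h2 := mem_centralizer_iff.mp (f2.QC h1) z hz
    have := congrArg (fun y => k1 * y * k1⁻¹) h2
    rw [hudef]
    simp only [mul_assoc, mul_inv_cancel_left, mul_inv_cancel, mul_one] at this ⊢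
    exact this.symm
  have hZ1c : ∀ y ∈ Z1, ∀ q ∈ Q1, y * q = q * y := fun y hy q hq => mem_centralizer_iff.mp (f1.QC hq) y hy
  -- squares
  have hsq : ∀ x ∈ Z2, ∀ y ∈ Z1, ∀ u' : G, u' ∈ Q1 → u' * u' = 1 → (x * y * u') * (x * y * u') = 1 ∨ (x * y * u') * (x * y * u') = w2 := by
    intro x hx y hy u' hu' hu2'
    have e : (x * y * u') * (x * y * u') = ⁅x, u'⁆ := by
      have hyx : y * x = x * y := hZ1c y hy x (h21 hx)
      have hyu : y * u' = u' * y := hZ1c y hy u' hu'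
      calc (x * y * u') * (x * y * u') = x * (y * u') * x * (y * u') := by group
        _ = x * u' * (y * x) * u' * y := by rw [hyu]; group
        _ = x * u' * x * (y * u') * y := by rw [hyx]; group
        _ = x * u' * x * u' * (y * y) := by rw [hyu]; group
        _ = x * u' * x⁻¹ * u'⁻¹ := by rw [sq1 y hy, mul_one, inv2 x hx, inv_eq_of_mul_eq_one_left hu2']
        _ = ⁅x, u'⁆ := (commutatorElement_def _ _).symm
    rw [e]
    exact f2.com x hx u' (f1.QT hu')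
  refine ⟨fun x hx => ((hE x).mp hx).1, f1.QT, ?_, ?_, f2.wT, f2.w2⟩
  · intro a ha
    by_cases haQ : a ∈ Q2
    · obtain ⟨e, he, x, hx, y, hy, h1⟩ := hD a ⟨ha, haQ⟩
      refine ⟨e, he, x * y * 1, ?_, hsq x hx y hy 1 (one_mem _) (one_mul 1), ?_⟩
      · rw [h1]; group
      · intro c hc
        rw [mul_one]
        calc c * (x * y) = (c * x) * y := by group
          _ = x * (c * y) := by rw [cE2 c hc x hx]; group
          _ = x * y * c := by rw [cE1 c hc y hy]; group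
    · have h1 : a * u ∈ Q1 ⊓ Q2 := ⟨Q1.mul_mem ha huQ1, f2.mulQ (f1.QT ha) huT haQ hu⟩
      obtain ⟨e, he, x, hx, y, hy, h2⟩ := hD _ h1
      refine ⟨e, he, x * y * u, ?_, hsq x hx y hy u huQ1 huu, ?_⟩
      · have : a = (a * u) * u := by rw [mul_assoc, huu, mul_one]
        rw [this, h2]; group
      · intro c hc
        calc c * (x * y * u) = (c * x) * y * u := by group
          _ = x * (c * y) * u := by rw [cE2 c hc x hx]; group
          _ = x * y * (c * u) := by rw [cE1 c hc y hy]; group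
          _ = x * y * u * c := by rw [hEu c hc]; group
  · obtain ⟨x, hx, hxu⟩ := f2.exists_com huT hu
    have h1 : (x * u) * (x * u) = w2 := by
      rw [← hxu, commutatorElement_def, inv2 x hx, inv_eq_of_mul_eq_one_left huu]; group
    rw [← h1]
    exact mem_Sq (Q1.mul_mem (h21 hx) huQ1)

theorem b2_final (f1 : PF T P1 Q1 Z1 w1) (f2 : PF T P2 Q2 Z2 w2) (h12 : Z1 ≤ Q2) (h21 : Z2 ≤ Q1)
    (hk1 : k1 ∈ P1) (hk1' : ¬ Z2 ≤ MulAut.conj k1 • Q2) (hN : ¬ P1 ≤ normalizer ((Q1 ⊓ Q2 : Subgroup G) : Set G))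
    (hel : ∀ x ∈ Q1 ⊓ Q2, ∀ y ∈ Q1 ⊓ Q2, x * x = 1 ∧ x * y = y * x) : False := by
  set D := Q1 ⊓ Q2 with hD
  have hTD : T ≤ normalizer (D : Set G) := le_nor_inf (f1.TP.trans f1.PQ) (f2.TP.trans f2.PQ)
  obtain ⟨z, hz, hu⟩ := b2_sym f1 f2 h21 hk1 hk1'
  set u := k1 * z * k1⁻¹ with hudef
  have huQ1 : u ∈ Q1 := (mem_normalizer_iff.mp (f1.PQ hk1) _).mp (h21 hz)
  have hnT : ∀ g ∈ P1, g ∉ T → g ∉ normalizer (D : Set G) := fun g hg hgT h => hN (f1.gen hTD hg hgT h)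
  have hk1T : k1 ∉ T := by
    intro h
    apply hu
    exact (mem_normalizer_iff.mp (f2.PQ (f2.TP h)) _).mp (f2.ZQ hz)
  obtain ⟨t, ht, htQ⟩ := f1.exists_tQ
  have htP := f1.TP ht
  have htkT : t * k1 ∉ T := by
    intro h
    apply hk1T
    have := T.mul_mem (T.inv_mem ht) h
    rwa [inv_mul_cancel_left] at this
  have hktk : k1⁻¹ * t * k1 ∉ T := by
    intro h
    exact htQ (f1.int hk1 hk1T ht (by rw [mem_conj_smul]; exact h))
  have hktkP : k1⁻¹ * t * k1 ∈ P1 := P1.mul_mem (P1.mul_mem (P1.inv_mem hk1) htP) hk1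
  -- the conjugates
  have ne1 : MulAut.conj k1 • D ≠ D := fun h => hnT k1 hk1 hk1T (mem_normalizer_of_conj_smul_eq h)
  have ne2 : MulAut.conj (t * k1) • D ≠ D := fun h => hnT _ (P1.mul_mem htP hk1) htkT (mem_normalizer_of_conj_smul_eq h)
  have ne3 : MulAut.conj (t * k1) • D ≠ MulAut.conj k1 • D := by
    intro h
    apply hnT _ hktkP hktk
    apply mem_normalizer_of_conj_smul_eq
    rw [map_mul, map_mul, mul_smul, mul_smul, ← mul_smul (MulAut.conj t), ← map_mul, h, ← mul_smul, ← map_mul, inv_mul_cancel, map_one, one_smul]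
  have sub : ∀ g ∈ P1, MulAut.conj g • D ≤ Q1 := by
    intro g hg
    conv_rhs => rw [← conj_smul_eq_of_mem_normalizer (f1.PQ hg)]
    exact (Subgroup.pointwise_smul_le_pointwise_smul_iff).mpr inf_le_left
  have mulD : ∀ x ∈ Q1, ∀ y ∈ Q1, x ∉ D → y ∉ D → x * y ∈ D := by
    intro x hx y hy hx' hy'
    exact ⟨Q1.mul_mem hx hy, f2.mulQ (f1.QT hx) (f1.QT hy) (fun h => hx' ⟨hx, h⟩) (fun h => hy' ⟨hy, h⟩)⟩
  have mulD' : ∀ g ∈ P1, ∀ x ∈ Q1, ∀ y ∈ Q1, x ∉ MulAut.conj g • D → y ∉ MulAut.conj g • D → x * y ∈ MulAut.conj g • D := by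
    intro g hg x hx y hy hx' hy'
    rw [mem_conj_smul] at hx' hy' ⊢
    have n1 : ∀ q ∈ Q1, g⁻¹ * q * g ∈ Q1 := by
      intro q hq
      have := (mem_normalizer_iff.mp (inv_mem (f1.PQ hg)) _).mp hq
      rwa [inv_inv] at this
    have := mulD _ (n1 x hx) _ (n1 y hy) hx' hy'
    have e : g⁻¹ * (x * y) * g = (g⁻¹ * x * g) * (g⁻¹ * y * g) := by group
    rwa [e]
  have sqD' : ∀ g : G, ∀ x ∈ MulAut.conj g • D, ∀ y ∈ MulAut.conj g • D, x * x = 1 ∧ x * y = y * x := by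
    intro g x hx y hy
    rw [mem_conj_smul] at hx hy
    obtain ⟨h1, h2⟩ := hel _ hx _ hy
    refine ⟨?_, ?_⟩
    · have := congrArg (fun y => g * y * g⁻¹) h1
      simpa [mul_assoc] using this
    · have := congrArg (fun y => g * y * g⁻¹) h2
      simpa [mul_assoc] using this
  have out : ∀ A B : Subgroup G, A ≠ B → Nat.card A = Nat.card B → ∃ x ∈ A, x ∉ B := by
    intro A B hne hc
    by_contra hcon
    push Not at hcon
    exact hne (eq_of_le_of_card_ge hcon hc.ge)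
  obtain ⟨b, hb, hbD⟩ := out _ _ ne1 (by rw [card_conj_smul])
  obtain ⟨y1, hy1, hy1'⟩ := out _ _ ne2 (by rw [card_conj_smul])
  obtain ⟨y2, hy2, hy2'⟩ := out _ _ ne3 (by rw [card_conj_smul, card_conj_smul])
  obtain ⟨y, hy, hyD, hyD'⟩ : ∃ y ∈ MulAut.conj (t * k1) • D, y ∉ D ∧ y ∉ MulAut.conj k1 • D := by
    by_cases h1 : y1 ∈ MulAut.conj k1 • D
    · by_cases h2 : y2 ∈ D
      · refine ⟨y1 * y2, mul_mem hy1 hy2, ?_, ?_⟩
        · intro h; exact hy1' ((mul_mem_cancel_right h2).mp h)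
        · intro h; exact hy2' ((mul_mem_cancel_left h1).mp h)
      · exact ⟨y2, hy2, h2, hy2'⟩
    · exact ⟨y1, hy1, hy1', h1⟩
  have hbQ := sub k1 hk1 hb
  have hyQ := sub _ (P1.mul_mem htP hk1) hy
  set d := y * b with hd
  have hdD : d ∈ D := mulD y hyQ b hbQ hyD hbD
  have hdD' : d ∉ MulAut.conj k1 • D := by
    intro h; exact hyD' ((mul_mem_cancel_right hb).mp h)
  have hb2 := (sqD' k1 b hb b hb).1
  have hy2'' := (sqD' (t * k1) y hy y hy).1
  have hd2 := (hel d hdD d hdD).1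
  have hdb : d * b = b * d := by
    have e1 : d * b = y := by rw [hd, mul_assoc, hb2, mul_one]
    have h1 : d⁻¹ = d := inv_eq_of_mul_eq_one_left hd2
    have h2 : b⁻¹ = b := inv_eq_of_mul_eq_one_left hb2
    have h3 : y⁻¹ = y := inv_eq_of_mul_eq_one_left hy2''
    calc d * b = y := e1
      _ = y⁻¹ := h3.symm
      _ = (d * b)⁻¹ := by rw [e1]
      _ = b * d := by rw [mul_inv_rev, h1, h2]
  have c1 : ∀ x ∈ D, x * b = b * x := by
    intro x hx
    by_cases hx' : x ∈ MulAut.conj k1 • D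
    · exact (sqD' k1 x hx' b hb).2
    · have h1 := mulD' k1 hk1 x hx.1 d hdD.1 hx' hdD'
      have h2 := (sqD' k1 _ h1 b hb).2
      have h3 : x = (x * d) * d := by rw [mul_assoc, hd2, mul_one]
      calc x * b = (x * d) * (d * b) := by rw [mul_assoc, ← mul_assoc d d b, hd2, one_mul]
        _ = (x * d * b) * d := by rw [hdb]; group
        _ = b * (x * d) * d := by rw [h2]
        _ = b * x := by rw [mul_assoc, ← h3]
  have c2 : ∀ x' ∈ MulAut.conj k1 • D, ∀ x ∈ D, x * x' = x' * x := by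
    intro x' hx' x hx
    by_cases h : x' ∈ D
    · exact (hel x hx x' h).2
    · have h1 := mulD x' (sub k1 hk1 hx') b hbQ h hbD
      have h2 := (hel x hx _ h1).2
      have h3 := c1 x hx
      have h4 : x' = (x' * b) * b := by rw [mul_assoc, hb2, mul_one]
      calc x * x' = (x * (x' * b)) * b := by conv_lhs => rw [h4]
                                             group
        _ = (x' * b) * (x * b) := by rw [h2]; group
        _ = (x' * b) * b * x := by rw [h3]; group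
        _ = x' * x := by rw [← h4]
  obtain ⟨x, hx, hxu⟩ := f2.exists_com (f1.QT huQ1) hu
  have huD : u ∈ MulAut.conj k1 • D := by
    rw [mem_conj_smul, hudef]
    have e : k1⁻¹ * (k1 * z * k1⁻¹) * k1 = z := by group
    rw [e]
    exact ⟨h21 hz, f2.ZQ hz⟩
  have h1 := c2 u huD x ⟨h21 hx, f2.ZQ hx⟩
  rw [commutatorElement_eq_one_iff_mul_comm.mpr h1] at hxu
  exact f2.w1 hxu.symm

/-- the final contradiction for `b = 2` -/
theorem b2_false (f1 : PF T P1 Q1 Z1 w1) (f2 : PF T P2 Q2 Z2 w2)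
    (O1 : ∀ R : Subgroup G, R ≤ T → P1 ≤ normalizer (R : Set G) → P2 ≤ normalizer (R : Set G) → R = ⊥)
    (h12 : Z1 ≤ Q2) (h21 : Z2 ≤ Q1) (cc1 : P1 ≤ centralizer ({w2} : Set G)) (cc2 : P2 ≤ centralizer ({w1} : Set G))
    (hk1 : k1 ∈ P1) (hk1' : ¬ Z2 ≤ MulAut.conj k1 • Q2) (hk2 : k2 ∈ P2) (hk2' : ¬ Z1 ≤ MulAut.conj k2 • Q1)
    (hN : ¬ P1 ≤ normalizer ((Z1 ⊔ Z2 : Subgroup G) : Set G)) (hc : Nat.card (omegaCenterOf T) ≤ 4)
    (hZ1 : omegaCenterOf T ≤ Z1) : False := by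
  let E : Subgroup G := Q1 ⊓ Q2 ⊓ (MulAut.conj k2 • Q1 ⊓ MulAut.conj k1 • Q2)
  have hE : ∀ x, x ∈ E ↔ x ∈ Q1 ∧ x ∈ Q2 ∧ x ∈ MulAut.conj k2 • Q1 ∧ x ∈ MulAut.conj k1 • Q2 := by
    intro x
    constructor
    · rintro ⟨⟨h1, h2⟩, h3, h4⟩
      exact ⟨h1, h2, h3, h4⟩
    · rintro ⟨h1, h2, h3, h4⟩
      exact ⟨⟨h1, h2⟩, h3, h4⟩
  have hE' : ∀ x, x ∈ E ↔ x ∈ Q2 ∧ x ∈ Q1 ∧ x ∈ MulAut.conj k1 • Q2 ∧ x ∈ MulAut.conj k2 • Q1 := by
    intro x
    rw [hE]
    tauto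
  obtain ⟨hD, d1⟩ := b2_dec f1 f2 h12 h21 hk1 hk1' hk2 hk2' hE
  obtain ⟨-, d2⟩ := b2_dec f2 f1 h21 h12 hk2 hk2' hk1 hk1' hE'
  have hET : E ≤ T := d1.EA.trans d1.AT
  -- step 1
  have s1 : Sq (Sq E) = ⊥ := by
    apply O1
    · exact ((Sq_le _).trans (Sq_le _)).trans hET
    · rw [← d1.SqSq]; exact Sq_norm (Sq_norm f1.PQ)
    · rw [← d2.SqSq]; exact Sq_norm (Sq_norm f2.PQ)
  have s2 : ⁅Sq E, E⁆ = ⊥ := by
    apply O1
    · rw [commutator_comm]
      exact (commutator_le_of_le_normalizer ((Sq_le E).trans le_normalizer)).trans hET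
    · rw [← d1.com]
      intro x hx
      exact norm_comm le_rfl ⟨Sq_norm f1.PQ hx, f1.PQ hx⟩
    · rw [← d2.com]
      intro x hx
      exact norm_comm le_rfl ⟨Sq_norm f2.PQ hx, f2.PQ hx⟩
  obtain ⟨u, hu, huQ⟩ : ∃ u ∈ Q1, u ∉ Q2 := by
    obtain ⟨z, hz, hu⟩ := b2_sym f1 f2 h21 hk1 hk1'
    exact ⟨_, (mem_normalizer_iff.mp (f1.PQ hk1) _).mp (h21 hz), hu⟩
  have genT : ∀ t ∈ T, ∃ a ∈ Q2, ∃ b ∈ Q1, t = a * b := by
    intro t ht
    by_cases h : t ∈ Q2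
    · exact ⟨t, h, 1, one_mem _, by rw [mul_one]⟩
    · exact ⟨t * u, f2.mulQ ht (f1.QT hu) h huQ, u⁻¹, inv_mem hu, by group⟩
  have cenT : ∀ s ∈ E, (∀ e ∈ E, s * e = e * s) → s ∈ centralizer (T : Set G) := by
    intro s hs h
    refine mem_centralizer_iff.mpr fun t ht => ?_
    have h1 : ∀ a ∈ Q1, s * a = a * s := by
      intro a ha
      obtain ⟨e, he, f, rfl, -, hcf⟩ := d1.dec a ha
      rw [← mul_assoc, h e he, mul_assoc, hcf s hs, mul_assoc]
    have h2 : ∀ a ∈ Q2, s * a = a * s := by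
      intro a ha
      obtain ⟨e, he, f, rfl, -, hcf⟩ := d2.dec a ha
      rw [← mul_assoc, h e he, mul_assoc, hcf s hs, mul_assoc]
    obtain ⟨a, ha, b, hb, rfl⟩ := genT t ht
    rw [← mul_assoc, h2 a ha, mul_assoc, mul_assoc, h1 b hb]
  have hSE : Sq E ≤ omegaCenterOf T := by
    intro s hs
    refine mem_omegaCenterOf.mpr ⟨hET (Sq_le E hs), ?_, ?_⟩
    · apply cenT s (Sq_le E hs)
      intro e he
      have := commutator_mem_commutator hs he
      rw [s2, mem_bot, commutatorElement_eq_one_iff_mul_comm] at this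
      exact this
    · rw [pow_two]; exact (sq_one_comm s1 hs hs).1
  have w1Z : w1 ∈ omegaCenterOf T := mem_omegaCenterOf.mpr ⟨(f1.ZQ.trans f1.QT) f1.wZ, f1.wT, by rw [pow_two]; exact f1.w2⟩
  have w2Z : w2 ∈ omegaCenterOf T := mem_omegaCenterOf.mpr ⟨(f2.ZQ.trans f2.QT) f2.wZ, f2.wT, by rw [pow_two]; exact f2.w2⟩
  have nor : ∀ {P Q Z P' Q' Z' : Subgroup G} {w w' : G} (f : PF T P Q Z w) (f' : PF T P' Q' Z' w') (d : Dc E Q T w'),
      Sq E ≤ zpowers w' := by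
    intro P Q Z P' Q' Z' w w' f f' d
    have hw'Z : w' ∈ omegaCenterOf T := mem_omegaCenterOf.mpr ⟨(f'.ZQ.trans f'.QT) f'.wZ, f'.wT, by rw [pow_two]; exact f'.w2⟩
    have hwZ : w ∈ omegaCenterOf T := mem_omegaCenterOf.mpr ⟨(f.ZQ.trans f.QT) f.wZ, f.wT, by rw [pow_two]; exact f.w2⟩
    have h1 : Sq Q ≤ omegaCenterOf T := by
      rw [d.Sq]
      exact sup_le hSE (by rw [zpowers_le]; exact hw'Z)
    have h2 : zpowers w' ≤ Sq Q := by rw [d.Sq]; exact le_sup_right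
    have h3 : Nat.card (zpowers w') = 2 := by
      rw [Nat.card_zpowers]
      exact orderOf_eq_prime (by rw [pow_two]; exact f'.w2) f'.w1
    by_cases h4 : Nat.card (Sq Q) ≤ 2
    · have h5 : zpowers w' = Sq Q := eq_of_le_of_card_ge h2 (by rw [h3]; exact h4)
      rw [h5]; exact Sq_mono d.EA
    · exfalso
      have h5 : Nat.card (zpowers w') ∣ Nat.card (Sq Q) := card_dvd_of_le h2
      rw [h3] at h5
      have h6 : Sq Q = omegaCenterOf T := eq_of_le_of_card_ge h1 (by omega)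
      have h7 : P ≤ normalizer (omegaCenterOf T : Set G) := by rw [← h6]; exact Sq_norm f.PQ
      have h8 : T ≤ centralizer (omegaCenterOf T : Set G) := by
        rw [le_centralizer_iff]
        intro x hx
        exact (mem_omegaCenterOf.mp hx).2.1
      have h9 : ¬ P ⊓ centralizer (omegaCenterOf T : Set G) ≤ T := by
        intro h
        have h10 : P ⊓ centralizer (omegaCenterOf T : Set G) = T := le_antisymm h (le_inf f.TP h8)
        apply f.nT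
        rw [← h10]
        exact le_nor_inf le_normalizer (le_normalizer_cen h7)
      obtain ⟨g, hg, hgT⟩ := Set.not_subset.mp h9
      have h10 := f.gen h8 hg.1 hgT hg.2
      apply f.wP
      intro x hx
      rw [mem_centralizer_singleton_iff]
      exact (mem_centralizer_iff.mp (h10 hx) w hwZ).symm
  have hS2 := nor f1 f2 d1
  have hS1 := nor f2 f1 d2
  have hne : w1 ≠ w2 := by
    rintro rfl
    exact f1.wP cc1
  have hSb : Sq E = ⊥ := by
    rw [eq_bot_iff]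
    intro s hs
    rw [mem_bot]
    by_contra hs1
    have h3 : ∀ {P Q Z : Subgroup G} {w : G}, PF T P Q Z w → Nat.card (zpowers w) = 2 := by
      intro P Q Z w f
      rw [Nat.card_zpowers]
      exact orderOf_eq_prime (by rw [pow_two]; exact f.w2) f.w1
    have h4 := two_eq (h3 f1) (hS1 hs) (mem_zpowers w1) hs1 f1.w1
    have h5 := two_eq (h3 f2) (hS2 hs) (mem_zpowers w2) hs1 f2.w1
    exact hne (h4.symm.trans h5)
  have hEZ : E ≤ omegaCenterOf T := by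
    intro e he
    refine mem_omegaCenterOf.mpr ⟨hET he, cenT e he (fun e' he' => (sq_one_comm hSb he he').2), ?_⟩
    rw [pow_two]; exact (sq_one_comm hSb he he).1
  have hDeq : Q1 ⊓ Q2 = Z1 ⊔ Z2 := by
    apply le_antisymm
    · intro d hd
      obtain ⟨e, he, x, hx, y, hy, rfl⟩ := hD d hd
      exact mul_mem (mul_mem (mem_sup_left (hZ1 (hEZ he))) (mem_sup_right hx)) (mem_sup_left hy)
    · exact sup_le (le_inf f1.ZQ h12) (le_inf h21 f2.ZQ)
  have hel : IsElementaryAbelian 2 (Z1 ⊔ Z2 : Subgroup G) := ea_sup f1.el f2.el (h12.trans f2.QC)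
  refine b2_final f1 f2 h12 h21 hk1 hk1' (by rw [hDeq]; exact hN) ?_
  rw [hDeq]
  intro x hx y hy
  refine ⟨?_, ea_comm hel hx hy⟩
  have := hel.2 x hx
  rwa [pow_two] at this

end

end CfsgLib.H2JC
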