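import Cfsg.Agent.EqBase
import Cfsg.Agent.LibH2JD5
set_option autoImplicit false
set_option maxHeartbeats 400000
/-! J(T)-components, part 25: the case `b = 1`.  Seat helper2. -/
namespace CfsgLib.H2JC
open Subgroup Cfsg CfsgLib.Coprime CfsgLib.Coprime2 CfsgLib.H2Misc CfsgLib.H2Thomp CfsgLib.Cores CfsgLib.H2FF
open CfsgLib.SolvCoprime (IsSylowIn)
open CfsgLib.SolvBasic (mem_conj_smul)
open CfsgLib.LE (pCoreOf_isPGroup pCoreOf_le le_pCoreOf normalizer_le_normalizer_pCoreOf le_normalizer_pCoreOf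
  pCoreOf_le_pCoreOf_of_normal)
open scoped Pointwise commutatorElement

universe u

variable {G : Type u} [Group G]

theorem Am.final [Finite G] {T : Subgroup G} {P Q Z : Bool → Subgroup G} {w : Bool → G} (am : Am T P Q Z w)
    (hc : Nat.card (omegaCenterOf T) ≤ 4) (hZ : ∀ i, omegaCenterOf T ≤ Z i) :
    (∃ i, ¬ Z i ≤ Q (!i)) ∨ ((∀ i, Z i ≤ Q (!i)) ∧
      ∃ i, P i ≤ normalizer ((Z i ⊔ Z (!i) : Subgroup G) : Set G) ∧ P i ≤ centralizer ({w (!i)} : Set G)) := by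
  rcases am.tri with h | ⟨k, i, p, hm, hcr⟩
  · exact Or.inl h
  right
  refine ⟨am.Zle hm, ?_⟩
  by_contra hcon
  have hN : ∀ i, ¬ P i ≤ normalizer ((Z i ⊔ Z (!i) : Subgroup G) : Set G) := by
    intro i h
    exact hcon ⟨i, h, am.N_cen h⟩
  have hk := am.noN hm hcr hN
  subst hk
  obtain ⟨h1, h2⟩ := am.two hm hcr hN
  obtain ⟨k1, hk1, hk1'⟩ := h1 true
  obtain ⟨k2, hk2, hk2'⟩ := h1 false
  refine b2_false (am.pf true) (am.pf false) ?_ (am.Zle hm true) (am.Zle hm false) (h2 true) (h2 false) hk1 hk1' hk2 hk2'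
    (hN true) hc (hZ true)
  intro R hR h3 h4
  apply am.O1 R hR
  intro i
  cases i
  · exact h4
  · exact h3

/-- the case `b = 1` -/
structure B1 (T Q1 Z1 Q2 Z2 : Subgroup G) (w1 w2 : G) : Prop where
  QZ1 : Q1 = Z1
  QZ2 : Q2 = Z2
  D : Q1 ⊓ Q2 = omegaCenterOf T
  ww : w1 = w2
  inv : ∀ t ∈ T, t * t = 1 → t ∈ Q1 ∨ t ∈ Q2
  gen : ∀ t ∈ T, ∃ a ∈ Q1, ∃ b ∈ Q2, t = a * b
  n12 : ¬ Q1 ≤ Q2
  n21 : ¬ Q2 ≤ Q1

theorem b1 [Finite G] {T P1 Q1 Z1 P2 Q2 Z2 : Subgroup G} {w1 w2 : G} (f1 : PF T P1 Q1 Z1 w1) (f2 : PF T P2 Q2 Z2 w2)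
    (O1 : ∀ R : Subgroup G, R ≤ T → P1 ≤ normalizer (R : Set G) → P2 ≤ normalizer (R : Set G) → R = ⊥)
    (hZ1 : omegaCenterOf T ≤ Z1) (hZ2 : omegaCenterOf T ≤ Z2) (h12 : ¬ Z1 ≤ Q2) : B1 T Q1 Z1 Q2 Z2 w1 w2 := by
  have h21 : ¬ Z2 ≤ Q1 := by
    intro h
    apply h12
    refine (le_inf ((f1.ZQ.trans f1.QT).trans f2.TP) ?_).trans f2.CQ
    rw [le_centralizer_iff]
    exact h.trans f1.QC
  obtain ⟨v, hv, hv'⟩ := Set.not_subset.mp h12
  obtain ⟨u, hu, hu'⟩ := Set.not_subset.mp h21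
  have hv'' : v ∉ Q2 := hv'
  have hu'' : u ∉ Q1 := hu'
  have hvT : v ∈ T := f1.QT (f1.ZQ hv)
  have huT : u ∈ T := f2.QT (f2.ZQ hu)
  have vv : v * v = 1 := by have := f1.el.2 v hv; rwa [pow_two] at this
  have uu : u * u = 1 := by have := f2.el.2 u hu; rwa [pow_two] at this
  have dec : ∀ {P Q Z P' Q' Z' : Subgroup G} {w w' : G}, PF T P Q Z w → PF T P' Q' Z' w' → ∀ {x : G}, x ∈ Z → x ∉ Q' →
      x * x = 1 → ∀ a ∈ Q, ∃ d ∈ Q ⊓ Q', ∃ y ∈ Z, a = d * y := by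
    intro P Q Z P' Q' Z' w w' f f' x hx hx' hxx a ha
    by_cases h : a ∈ Q'
    · exact ⟨a, ⟨ha, h⟩, 1, one_mem _, by rw [mul_one]⟩
    · exact ⟨a * x, ⟨Q.mul_mem ha (f.ZQ hx), f'.mulQ (f.QT ha) (f.QT (f.ZQ hx)) h hx'⟩, x, hx, by rw [mul_assoc, hxx, mul_one]⟩
  have dec1 := dec f1 f2 hv hv'' vv
  have dec2 := dec f2 f1 hu hu'' uu
  rw [inf_comm] at dec2
  set D := Q1 ⊓ Q2 with hD
  have sqQ : ∀ {P Q Z : Subgroup G} {w : G}, PF T P Q Z w → D ≤ Q → (∀ a ∈ Q, ∃ d ∈ D, ∃ y ∈ Z, a = d * y) → Sq Q = Sq D := by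
    intro P Q Z w f hDQ hdec
    apply le_antisymm
    · conv_lhs => unfold Sq
      rw [closure_le]
      rintro x ⟨a, ha, rfl⟩
      obtain ⟨d, hd, y, hy, rfl⟩ := hdec a ha
      have h1 : y * d = d * y := mem_centralizer_iff.mp (f.QC (hDQ hd)) y hy
      have h2 : y * y = 1 := by have := f.el.2 y hy; rwa [pow_two] at this
      have h3 : d * y * (d * y) = d * d := by
        calc d * y * (d * y) = d * (y * d) * y := by group
          _ = d * d * (y * y) := by rw [h1]; group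
          _ = d * d := by rw [h2, mul_one]
      rw [h3]; exact mem_Sq hd
    · exact Sq_mono hDQ
  have s1 := sqQ f1 inf_le_left dec1
  have s2 := sqQ f2 inf_le_right dec2
  have hSD : Sq D = ⊥ := by
    apply O1
    · exact (Sq_le D).trans (inf_le_left.trans f1.QT)
    · rw [← s1]; exact Sq_norm f1.PQ
    · rw [← s2]; exact Sq_norm f2.PQ
  rw [hSD] at s1 s2
  have genT : ∀ t ∈ T, ∃ a ∈ Q1, ∃ b ∈ Q2, t = a * b := by
    intro t ht
    by_cases h : t ∈ Q1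
    · exact ⟨t, h, 1, one_mem _, by rw [mul_one]⟩
    · exact ⟨t * u, f1.mulQ ht huT h hu'', u, f2.ZQ hu, by rw [mul_assoc, uu, mul_one]⟩
  have hDZ : D ≤ omegaCenterOf T := by
    intro d hd
    refine mem_omegaCenterOf.mpr ⟨f1.QT hd.1, mem_centralizer_iff.mpr fun t ht => ?_, ?_⟩
    · obtain ⟨a, ha, b, hb, rfl⟩ := genT t ht
      rw [mul_assoc, ← (sq_one_comm s2 hd.2 hb).2, ← mul_assoc, ← (sq_one_comm s1 hd.1 ha).2, mul_assoc]
    · rw [pow_two]; exact (sq_one_comm s1 hd.1 hd.1).1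
  have hDeq : D = omegaCenterOf T := le_antisymm hDZ (le_inf (hZ1.trans f1.ZQ) (hZ2.trans f2.ZQ))
  have q1 : Q1 = Z1 := by
    apply le_antisymm _ f1.ZQ
    intro a ha
    obtain ⟨d, hd, y, hy, rfl⟩ := dec1 a ha
    exact Z1.mul_mem (hZ1 (hDZ hd)) hy
  have q2 : Q2 = Z2 := by
    apply le_antisymm _ f2.ZQ
    intro a ha
    obtain ⟨d, hd, y, hy, rfl⟩ := dec2 a ha
    exact Z2.mul_mem (hZ2 (hDZ hd)) hy
  refine ⟨q1, q2, hDeq, ?_, ?_, genT, fun h => hv'' (h (f1.ZQ hv)), fun h => hu'' (h (f2.ZQ hu))⟩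
  · obtain ⟨z, hz, hzu⟩ := f1.exists_com huT hu''
    have h1 : ⁅u, z⁆ = w1 := by
      rw [← commutatorElement_inv, hzu, f1.inv_w]
    rcases f2.com u hu z (f1.QT (f1.ZQ hz)) with h2 | h2
    · rw [h1] at h2; exact absurd h2 f1.w1
    · rw [← h1, h2]
  · intro t ht htt
    by_contra hcon
    push Not at hcon
    obtain ⟨hn1, hn2⟩ := hcon
    have ha : t * u ∈ Q1 := f1.mulQ ht huT hn1 hu''
    have ha2 : t * u ∉ Q2 := fun h => hn2 ((mul_mem_cancel_right (f2.ZQ hu)).mp h)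
    set a := t * u with hadef
    have haa : a * a = 1 := (sq_one_comm s1 ha ha).1
    have hta : t = a * u := by rw [hadef, mul_assoc, uu, mul_one]
    have hau : a * u = u * a := by
      have h1 : a⁻¹ = a := inv_eq_of_mul_eq_one_left haa
      have h2 : u⁻¹ = u := inv_eq_of_mul_eq_one_left uu
      have h3 : t⁻¹ = t := inv_eq_of_mul_eq_one_left htt
      calc a * u = t := hta.symm
        _ = t⁻¹ := h3.symm
        _ = u * a := by rw [hta, mul_inv_rev, h1, h2]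
    apply hu''
    refine f1.CQ ⟨f1.TP huT, mem_centralizer_iff.mpr fun x hx => ?_⟩
    have hxQ := f1.ZQ hx
    by_cases hx2 : x ∈ Q2
    · exact (sq_one_comm s2 hx2 (f2.ZQ hu)).2
    · have h1 : x * a ∈ Q2 := f2.mulQ (f1.QT hxQ) (f1.QT ha) hx2 ha2
      have h2 := (sq_one_comm s2 h1 (f2.ZQ hu)).2
      calc x * u = (x * a) * (a * u) := by
            have : x * a * (a * u) = x * (a * a) * u := by group
            rw [this, haa, mul_one]
        _ = (x * a * u) * a := by rw [hau]; group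
        _ = u * (x * a) * a := by rw [h2]
        _ = u * x * (a * a) := by group
        _ = u * x := by rw [haa, mul_one]

/-- an elementary abelian subgroup of `T` lies in `Q1` or `Q2` -/
theorem B1.sub {T Q1 Z1 Q2 Z2 : Subgroup G} {w1 w2 : G} (b : B1 T Q1 Z1 Q2 Z2 w1 w2) {V : Subgroup G} (hVT : V ≤ T)
    (hV : ∀ x ∈ V, x * x = 1) : V ≤ Q1 ∨ V ≤ Q2 := by
  by_contra hcon
  push Not at hcon
  obtain ⟨x, hx, hx'⟩ := Set.not_subset.mp hcon.1
  obtain ⟨y, hy, hy'⟩ := Set.not_subset.mp hcon.2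
  have hxQ : x ∈ Q2 := (b.inv x (hVT hx) (hV x hx)).resolve_left hx'
  have hyQ : y ∈ Q1 := (b.inv y (hVT hy) (hV y hy)).resolve_right hy'
  rcases b.inv (x * y) (hVT (V.mul_mem hx hy)) (hV _ (V.mul_mem hx hy)) with h | h
  · exact hx' ((mul_mem_cancel_right hyQ).mp h)
  · exact hy' ((mul_mem_cancel_left hxQ).mp h)

end CfsgLib.H2JC
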