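import Cfsg.Agent.EqBase
import Cfsg.Agent.LibH2JD6
set_option autoImplicit false
set_option maxHeartbeats 400000
/-! J(T)-components, part 26: existence of pairs.  Seat helper2. -/
namespace CfsgLib.H2JC
open Subgroup Cfsg CfsgLib.Coprime CfsgLib.Coprime2 CfsgLib.H2Misc CfsgLib.H2Thomp CfsgLib.Cores CfsgLib.H2FF
open CfsgLib.SolvCoprime (IsSylowIn)
open CfsgLib.SolvBasic (mem_conj_smul normalizer_conj_smul)
open CfsgLib.LE (pCoreOf_isPGroup pCoreOf_le le_pCoreOf normalizer_le_normalizer_pCoreOf le_normalizer_pCoreOf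
  pCoreOf_le_pCoreOf_of_normal)
open scoped Pointwise commutatorElement

universe u

variable {G : Type u} [Group G]

theorem isTwoLocal_smul {L : Subgroup G} (g : G) (h : IsTwoLocal L) : IsTwoLocal (MulAut.conj g • L) := by
  obtain ⟨U, hU2, hU1, rfl⟩ := h
  refine ⟨MulAut.conj g • U, hU2.of_equiv (Subgroup.equivSMul (MulAut.conj g) U), ?_, ?_⟩
  · intro h
    apply hU1
    have := congrArg (fun X => MulAut.conj g⁻¹ • X) h
    simp only [← mul_smul, ← map_mul, inv_mul_cancel, map_one, one_smul, smul_bot] at this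
    exact this
  · exact (normalizer_conj_smul g U).symm

theorem smul_le_iff' {A B : Subgroup G} (g : G) : MulAut.conj g • A ≤ B ↔ A ≤ MulAut.conj g⁻¹ • B := by
  rw [map_inv]
  exact Subgroup.pointwise_smul_subset_iff

theorem smul_inv_smul' (g : G) (A : Subgroup G) : MulAut.conj g • MulAut.conj g⁻¹ • A = A := by
  rw [← mul_smul, ← map_mul, mul_inv_cancel, map_one, one_smul]

theorem isMaximalTwoLocal_smul {L : Subgroup G} (g : G) (h : IsMaximalTwoLocal L) : IsMaximalTwoLocal (MulAut.conj g • L) := by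
  refine ⟨isTwoLocal_smul g h.1, fun X hX hLX => ?_⟩
  rw [smul_le_iff'] at hLX
  have h1 := h.2 _ (isTwoLocal_smul g⁻¹ hX) hLX
  rw [← h1, smul_inv_smul']

theorem Pw.smul [Finite G] {T K L : Subgroup G} (w : Pw T K L) {s : G} (hs : s ∈ normalizer (Je 2 T : Set G)) :
    Pw T (MulAut.conj s • K) (MulAut.conj s • L) := by
  have hJ := conj_smul_eq_of_mem_normalizer hs
  refine ⟨?_, isMaximalTwoLocal_smul s w.max, (Subgroup.pointwise_smul_le_pointwise_smul_iff).mpr w.KL, ?_, ?_⟩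
  · apply comp_congr _ (comp_smul s w.comp)
    rw [thompsonSubgroupOf_eq, thompsonSubgroupOf_eq, Je_smul, hJ]
  · rw [← hJ]; exact (Subgroup.pointwise_smul_le_pointwise_smul_iff).mpr w.JL
  · intro L' hL' hK hJL
    rw [smul_le_iff'] at hK
    rw [← hJ, smul_le_iff'] at hJL
    rw [← w.uniq _ (isMaximalTwoLocal_smul s⁻¹ hL') hK hJL, smul_inv_smul']

theorem bs_of [Finite G] (hyp : Hyp G) {T L : Subgroup G} (hL : IsTwoLocal L) (hT : T ≠ ⊥) (hs : IsSylowIn 2 T L) : Bs T L := by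
  obtain ⟨U, hU2, hU1, rfl⟩ := hL
  exact bs hyp hT hs (twoLocal_cR hyp hU2 hU1)

/-- 2-groups meeting `L` -/
theorem syl_inf [Finite G] {S T L : Subgroup G} (hS : IsPGroup 2 S) (hTS : T ≤ S) (hs : IsSylowIn 2 T L) {s : G} (h1 : s ∈ S) (h2 : s ∈ L) : s ∈ T := by
  haveI : Fact (Nat.Prime 2) := ⟨Nat.prime_two⟩
  have h := hs.eq_of_le (U := S ⊓ L) (hS.to_le inf_le_left) inf_le_right (le_inf hTS hs.le)
  rw [h]
  exact ⟨h1, h2⟩

theorem exists_sq [Finite G] {S T : Subgroup G} (hS : IsPGroup 2 S) (hTS : T ≤ S) (hne : T ≠ S) :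
    ∃ s ∈ S, s ∉ T ∧ s ∈ normalizer (T : Set G) ∧ s * s ∈ T := by
  classical
  haveI : Fact (Nat.Prime 2) := ⟨Nat.prime_two⟩
  have h1 := CfsgLib.SolvCoprime.lt_inf_normalizer_of_pgroup hS (lt_of_le_of_ne hTS hne)
  obtain ⟨x, hx, hxT⟩ := Set.exists_of_ssubset h1
  have hx' : x ∈ S ⊓ normalizer (T : Set G) := hx
  have h2 : ∃ n, x ^ (2 ^ n) ∈ T := by
    obtain ⟨n, hn⟩ := hS ⟨x, hx'.1⟩
    refine ⟨n, ?_⟩
    have : x ^ (2 ^ n) = 1 := congrArg Subtype.val hn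
    rw [this]; exact one_mem _
  have h3 := Nat.find_spec h2
  rcases hk : Nat.find h2 with - | k
  · rw [hk, pow_zero, pow_one] at h3
    exact absurd h3 hxT
  · have h4 := Nat.find_min h2 (m := k) (by omega)
    refine ⟨x ^ (2 ^ k), pow_mem hx'.1 _, h4, pow_mem hx'.2 _, ?_⟩
    rw [hk, pow_succ, mul_comm, two_mul, pow_add] at h3
    exact h3

theorem smul_ne [Finite G] {L : Subgroup G} (hL : IsMaximalTwoLocal L) {s : G} (hs : s ∉ L) : L ≠ MulAut.conj s • L := by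
  intro h
  exact hs (max_self hL (mem_normalizer_of_conj_smul_eq h.symm))

/-- the case `T < S` -/
theorem ex_lt [Finite G] (hyp : Hyp G) {S T K L : Subgroup G} (hS : ∃ P : Sylow 2 G, (P : Subgroup G) = S) (hTS : T ≤ S) (hT1 : T ≠ ⊥)
    (w : Pw T K L) (B : Bs T L) {s : G} (hs : s ∈ S) (hsT : s ∉ T) (hsn : s ∈ normalizer (T : Set G)) :
    Pr S T K L (MulAut.conj s • K) (MulAut.conj s • L) ∧ Bs T (MulAut.conj s • L) := by
  haveI : Fact (Nat.Prime 2) := ⟨Nat.prime_two⟩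
  obtain ⟨P, rfl⟩ := hS
  have hsL : s ∉ L := fun h => hsT (syl_inf P.isPGroup' hTS B.syl hs h)
  refine ⟨⟨hyp, ⟨P, rfl⟩, hTS, w, B, w.smul (normalizer_le_Je 2 T hsn), smul_ne w.max hsL⟩, ?_⟩
  apply bs_of hyp (isTwoLocal_smul s w.max.1) hT1
  have := B.syl.conj s
  rwa [conj_smul_eq_of_mem_normalizer hsn] at this

/-- `N(Ω₁Z(S)) ≤ N(S)` -/
theorem norm_Z [Finite G] (hyp : Hyp G) (P : Sylow 2 G) : normalizer (omegaCenterOf (P : Subgroup G) : Set G) ≤ normalizer ((P : Subgroup G) : Set G) := by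
  haveI : Fact (Nat.Prime 2) := ⟨Nat.prime_two⟩
  set C := centralizer (omegaCenterOf (P : Subgroup G) : Set G) with hC
  have h1 : (P : Subgroup G) ≤ C := by
    rw [hC, le_centralizer_iff]
    intro x hx
    exact (mem_omegaCenterOf.mp hx).2.1
  have h2 : (P : Subgroup G) ≤ pCoreOf 2 C := le_pCoreOf h1 (hyp.Z P) P.isPGroup'
  have h3 : pCoreOf 2 C = (P : Subgroup G) := P.is_maximal' (pCoreOf_isPGroup 2 C) h2
  calc normalizer (omegaCenterOf (P : Subgroup G) : Set G) ≤ normalizer (C : Set G) := normalizer_le_normalizer_centralizer _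
    _ ≤ normalizer (pCoreOf 2 C : Set G) := normalizer_le_normalizer_pCoreOf 2 C
    _ = normalizer ((P : Subgroup G) : Set G) := by rw [h3]

theorem Pr.O1' [Finite G] {S T K1 L1 K2 L2 : Subgroup G} (p : Pr S T K1 L1 K2 L2) (R : Subgroup G) (hR : R ≤ T)
    (h1 : K1 ⊔ T ≤ normalizer (R : Set G)) (h2 : K2 ⊔ T ≤ normalizer (R : Set G)) : R = ⊥ := by
  by_contra hne
  have hR2 := p.T2.to_le hR
  have hJ : Je 2 T ≤ normalizer (R : Set G) := (JQ_le _ _).trans (le_sup_right.trans h1)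
  have h3 := p.w1.le_of hR2 hne (le_sup_left.trans h1) hJ
  exact p.ne (p.w2.uniq L1 p.w1.max ((le_sup_left.trans h2).trans h3) (hJ.trans h3))

theorem Pr.symm' [Finite G] {S T K1 L1 K2 L2 : Subgroup G} (p : Pr S T K1 L1 K2 L2) (B2 : Bs T L2) : Pr S T K2 L2 K1 L1 :=
  ⟨p.hyp, p.syl, p.TS, p.w2, B2, p.w1, p.ne.symm⟩

theorem Pr.c4 [Finite G] {S T K1 L1 K2 L2 : Subgroup G} (p : Pr S T K1 L1 K2 L2) : Nat.card (omegaCenterOf T) ≤ 4 := by
  rw [p.TZ.1]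
  rcases p.cards with ⟨h, -⟩ | ⟨h, -⟩ <;> omega

/-- the amalgam of a pair -/
theorem Pr.am [Finite G] {S T K1 L1 K2 L2 : Subgroup G} (p : Pr S T K1 L1 K2 L2) {w1 w2 : G}
    (k1 : PK T K1 (K1 ⊔ T) (pCoreOf 2 (K1 ⊔ T)) (wOf K1 ⊔ omegaCenterOf T) w1)
    (k2 : PK T K2 (K2 ⊔ T) (pCoreOf 2 (K2 ⊔ T)) (wOf K2 ⊔ omegaCenterOf T) w2) :
    Am T (fun i => cond i (K1 ⊔ T) (K2 ⊔ T)) (fun i => cond i (pCoreOf 2 (K1 ⊔ T)) (pCoreOf 2 (K2 ⊔ T)))
      (fun i => cond i (wOf K1 ⊔ omegaCenterOf T) (wOf K2 ⊔ omegaCenterOf T)) (fun i => cond i w1 w2) := by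
  constructor
  · intro i
    cases i
    · exact k2.pf
    · exact k1.pf
  · intro R hR h
    exact p.O1' R hR (h true) (h false)

/-- the case `T < S` gives `b = 1` -/
theorem lt_b1 [Finite G] {S T K1 L1 K2 L2 : Subgroup G} (p : Pr S T K1 L1 K2 L2) {w1 w2 s : G}
    (k1 : PK T K1 (K1 ⊔ T) (pCoreOf 2 (K1 ⊔ T)) (wOf K1 ⊔ omegaCenterOf T) w1)
    (k2 : PK T K2 (K2 ⊔ T) (pCoreOf 2 (K2 ⊔ T)) (wOf K2 ⊔ omegaCenterOf T) w2)
    (hs : s ∈ normalizer (T : Set G)) (h12 : MulAut.conj s • K1 = K2) (h21 : MulAut.conj s • K2 = K1) :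
    B1 T (pCoreOf 2 (K1 ⊔ T)) (wOf K1 ⊔ omegaCenterOf T) (pCoreOf 2 (K2 ⊔ T)) (wOf K2 ⊔ omegaCenterOf T) w1 w2 := by
  have hT := conj_smul_eq_of_mem_normalizer hs
  have hP : MulAut.conj s • (K1 ⊔ T) = K2 ⊔ T := by rw [smul_sup', h12, hT]
  have hP' : MulAut.conj s • (K2 ⊔ T) = K1 ⊔ T := by rw [smul_sup', h21, hT]
  have hQ : MulAut.conj s • pCoreOf 2 (K1 ⊔ T) = pCoreOf 2 (K2 ⊔ T) := by rw [← pCoreOf_smul, hP]
  have hQ' : MulAut.conj s • pCoreOf 2 (K2 ⊔ T) = pCoreOf 2 (K1 ⊔ T) := by rw [← pCoreOf_smul, hP']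
  have hZ : MulAut.conj s • (wOf K1 ⊔ omegaCenterOf T) = wOf K2 ⊔ omegaCenterOf T := by
    rw [smul_sup', ← wOf_smul, h12, ← omegaCenterOf_smul, hT]
  have hZ' : MulAut.conj s • (wOf K2 ⊔ omegaCenterOf T) = wOf K1 ⊔ omegaCenterOf T := by
    rw [smul_sup', ← wOf_smul, h21, ← omegaCenterOf_smul, hT]
  have hsup : MulAut.conj s • ((wOf K1 ⊔ omegaCenterOf T) ⊔ (wOf K2 ⊔ omegaCenterOf T)) =
      (wOf K1 ⊔ omegaCenterOf T) ⊔ (wOf K2 ⊔ omegaCenterOf T) := by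
    rw [smul_sup', hZ, hZ', sup_comm]
  have am := p.am k1 k2
  apply b1 k1.pf k2.pf p.O1' le_sup_right le_sup_right
  intro hle
  have hle' : wOf K2 ⊔ omegaCenterOf T ≤ pCoreOf 2 (K1 ⊔ T) := by
    rw [← hZ, ← hQ']
    exact (Subgroup.pointwise_smul_le_pointwise_smul_iff).mpr hle
  rcases am.final p.c4 (by intro i; cases i <;> exact le_sup_right) with ⟨i, hi⟩ | ⟨-, i, hN, -⟩
  · cases i
    · exact hi hle'
    · exact hi hle
  · have hboth : ∀ {A : Subgroup G}, A = (wOf K1 ⊔ omegaCenterOf T) ⊔ (wOf K2 ⊔ omegaCenterOf T) →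
        (K1 ⊔ T ≤ normalizer (A : Set G) ∧ K2 ⊔ T ≤ normalizer (A : Set G)) → False := by
      rintro A rfl ⟨h1, h2⟩
      have h3 := p.O1' _ (sup_le (k1.pf.ZQ.trans k1.pf.QT) (k2.pf.ZQ.trans k2.pf.QT)) h1 h2
      apply k1.pf.w1
      have h4 : w1 ∈ (wOf K1 ⊔ omegaCenterOf T) ⊔ (wOf K2 ⊔ omegaCenterOf T) := mem_sup_left k1.pf.wZ
      rwa [h3, mem_bot] at h4
    cases i
    · have h1 : K2 ⊔ T ≤ normalizer (((wOf K1 ⊔ omegaCenterOf T) ⊔ (wOf K2 ⊔ omegaCenterOf T) : Subgroup G) : Set G) := by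
        rw [sup_comm (wOf K1 ⊔ omegaCenterOf T) (wOf K2 ⊔ omegaCenterOf T)]; exact hN
      refine hboth rfl ⟨?_, h1⟩
      rw [← hsup, normalizer_conj_smul, ← hP']
      exact (Subgroup.pointwise_smul_le_pointwise_smul_iff).mpr h1
    · have h1 : K1 ⊔ T ≤ normalizer (((wOf K1 ⊔ omegaCenterOf T) ⊔ (wOf K2 ⊔ omegaCenterOf T) : Subgroup G) : Set G) := hN
      refine hboth rfl ⟨h1, ?_⟩
      rw [← hsup, normalizer_conj_smul, ← hP]
      exact (Subgroup.pointwise_smul_le_pointwise_smul_iff).mpr h1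

/-- normal elementary abelian subgroups of `S` when `T < S` and `b = 1` -/
theorem V_le [Finite G] {S T K1 L1 K2 L2 : Subgroup G} (p : Pr S T K1 L1 K2 L2) (B2 : Bs T L2) {w1 w2 s : G}
    (k1 : PK T K1 (K1 ⊔ T) (pCoreOf 2 (K1 ⊔ T)) (wOf K1 ⊔ omegaCenterOf T) w1)
    (k2 : PK T K2 (K2 ⊔ T) (pCoreOf 2 (K2 ⊔ T)) (wOf K2 ⊔ omegaCenterOf T) w2)
    (b : B1 T (pCoreOf 2 (K1 ⊔ T)) (wOf K1 ⊔ omegaCenterOf T) (pCoreOf 2 (K2 ⊔ T)) (wOf K2 ⊔ omegaCenterOf T) w1 w2)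
    (hsS : s ∈ S) (hsT : s ∉ T) (hs : s ∈ normalizer (T : Set G))
    {V : Subgroup G} (hVS : V ≤ S) (hSV : S ≤ normalizer (V : Set G)) (hV : ∀ x ∈ V, x * x = 1) : V ≤ omegaCenterOf T := by
  haveI : Fact (Nat.Prime 2) := ⟨Nat.prime_two⟩
  have hS2 : IsPGroup 2 S := by obtain ⟨P, rfl⟩ := p.syl; exact P.isPGroup'
  set Q1 := pCoreOf 2 (K1 ⊔ T) with hQ1
  set Q2 := pCoreOf 2 (K2 ⊔ T) with hQ2
  set Z1 := wOf K1 ⊔ omegaCenterOf T
  set Z2 := wOf K2 ⊔ omegaCenterOf T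
  have hcard : Nat.card Q1 = Nat.card Q2 := by
    rw [b.QZ1, b.QZ2, k1.cZ, k2.cZ]
  have Qne : ∀ {K L Q Z : Subgroup G} {w : G}, Pw T K L → Bs T L → PK T K (K ⊔ T) Q Z w → ∀ v ∈ S, v ∉ T → v ∉ normalizer (Q : Set G) := by
    intro K L Q Z w pw B k v hv hvT h
    apply hvT
    have h1 : Q ≠ ⊥ := by
      intro h
      apply k.pf.w1
      have := k.pf.ZQ k.pf.wZ
      rwa [h, mem_bot] at this
    have h2 := pw.le_of (k.pf.T2.to_le k.pf.QT) h1 (k.KP.trans k.pf.PQ) ((JQ_le _ _).trans (k.pf.TP.trans k.pf.PQ))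
    exact syl_inf hS2 p.TS B.syl hv (h2 h)
  have e1 : ∀ x ∈ Q1, x * x = 1 := by
    intro x hx
    rw [b.QZ1] at hx
    have := k1.pf.el.2 x hx
    rwa [pow_two] at this
  have e2 : ∀ x ∈ Q2, x * x = 1 := by
    intro x hx
    rw [b.QZ2] at hx
    have := k2.pf.el.2 x hx
    rwa [pow_two] at this
  have swap : ∀ v ∈ S, v ∉ T → v ∈ normalizer (T : Set G) → MulAut.conj v • Q1 = Q2 ∧ MulAut.conj v • Q2 = Q1 := by
    intro v hv hvT hvn
    have h0 : ∀ Q : Subgroup G, Q ≤ T → (∀ x ∈ Q, x * x = 1) → MulAut.conj v • Q ≤ Q1 ∨ MulAut.conj v • Q ≤ Q2 := by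
      intro Q hQT hQe
      apply b.sub
      · rw [← conj_smul_eq_of_mem_normalizer hvn]
        exact (Subgroup.pointwise_smul_le_pointwise_smul_iff).mpr hQT
      · intro x hx
        rw [mem_conj_smul] at hx
        have := congrArg (fun y => v * y * v⁻¹) (hQe _ hx)
        simpa [mul_assoc] using this
    constructor
    · rcases h0 Q1 k1.pf.QT e1 with h | h
      · exact absurd (mem_normalizer_of_conj_smul_eq (eq_of_le_of_card_ge h (by rw [card_conj_smul]))) (Qne p.w1 p.B1 k1 v hv hvT)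
      · exact eq_of_le_of_card_ge h (by rw [card_conj_smul]; omega)
    · rcases h0 Q2 k2.pf.QT e2 with h | h
      · exact eq_of_le_of_card_ge h (by rw [card_conj_smul]; omega)
      · exact absurd (mem_normalizer_of_conj_smul_eq (eq_of_le_of_card_ge h (by rw [card_conj_smul]))) (Qne p.w2 B2 k2 v hv hvT)
  -- V ⊓ T
  have hVT : V ⊓ T ≤ omegaCenterOf T := by
    have h1 : MulAut.conj s • (V ⊓ T : Subgroup G) = V ⊓ T :=
      conj_smul_eq_of_mem_normalizer (inf_normalizer_le_normalizer_inf ⟨hSV hsS, hs⟩)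
    obtain ⟨s1, s2⟩ := swap s hsS hsT hs
    rw [← b.D]
    rcases b.sub (inf_le_right : V ⊓ T ≤ T) (fun x hx => hV x hx.1) with h | h
    · refine le_inf h ?_
      rw [← h1, ← s1]
      exact (Subgroup.pointwise_smul_le_pointwise_smul_iff).mpr h
    · refine le_inf ?_ h
      rw [← h1, ← s2]
      exact (Subgroup.pointwise_smul_le_pointwise_smul_iff).mpr h
  have hVle : T ⊔ V ≤ T := by
    apply le_of_norm_inf (hS2.to_le (sup_le p.TS hVS))
    have e : (T ⊔ V) ⊓ T = T := inf_eq_right.mpr le_sup_left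
    rw [e]
    rintro x ⟨hx1, hx2⟩
    have hTV : T ≤ normalizer (V : Set G) := p.TS.trans hSV
    obtain ⟨t, ht, v, hv, rfl⟩ := (mem_sup_right_norm hTV).mp hx1
    have hvn : v ∈ normalizer (T : Set G) := by
      have := mul_mem (inv_mem (le_normalizer ht)) hx2
      rwa [inv_mul_cancel_left] at this
    by_cases hvT : v ∈ T
    · exact T.mul_mem ht hvT
    · exfalso
      obtain ⟨s1, -⟩ := swap v (hVS hv) hvT hvn
      -- conj v Q1 ≤ Q1
      apply b.n21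
      rw [← s1]
      intro y hy
      rw [mem_conj_smul] at hy
      have hyT : v⁻¹ * y * v ∈ T := k1.pf.QT hy
      have h2 : v * (v⁻¹ * y * v) * v⁻¹ ∈ T := (mem_normalizer_iff.mp hvn _).mp hyT
      have h3 : ⁅v, v⁻¹ * y * v⁆ ∈ V ⊓ T := by
        constructor
        · have e : ⁅v, v⁻¹ * y * v⁆ = v * ((v⁻¹ * y * v) * v⁻¹ * (v⁻¹ * y * v)⁻¹) := by simp only [commutatorElement_def]; group
          rw [e]
          exact V.mul_mem hv ((mem_normalizer_iff.mp (hTV hyT) _).mp (V.inv_mem hv))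
        · have e : ⁅v, v⁻¹ * y * v⁆ = v * (v⁻¹ * y * v) * v⁻¹ * (v⁻¹ * y * v)⁻¹ := by simp only [commutatorElement_def]
          rw [e]
          exact T.mul_mem h2 (T.inv_mem hyT)
      have h4 : ⁅v, v⁻¹ * y * v⁆ ∈ Q1 := by
        have := hVT h3
        rw [← b.D] at this
        exact this.1
      have e : y = ⁅v, v⁻¹ * y * v⁆ * (v⁻¹ * y * v) := by simp only [commutatorElement_def]; group
      rw [e]
      exact Q1.mul_mem h4 hy
  exact (le_inf le_rfl (le_sup_right.trans hVle)).trans hVT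

end CfsgLib.H2JC
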