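import Cfsg.Agent.EqBase
import Cfsg.Agent.LibH2JD7
import Cfsg.Agent.LibStrongH12
set_option autoImplicit false
set_option maxHeartbeats 400000
/-! J(T)-components, part 27: the corner case.  Seat helper2. -/
namespace CfsgLib.H2JC
open Subgroup Cfsg CfsgLib.Coprime CfsgLib.Coprime2 CfsgLib.H2Misc CfsgLib.H2Thomp CfsgLib.Cores CfsgLib.H2FF
open CfsgLib.SolvCoprime (IsSylowIn)
open CfsgLib.SolvBasic (mem_conj_smul normalizer_conj_smul)
open CfsgLib.LE (pCoreOf_isPGroup pCoreOf_le le_pCoreOf normalizer_le_normalizer_pCoreOf le_normalizer_pCoreOf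
  pCoreOf_le_pCoreOf_of_normal)
open scoped Pointwise commutatorElement

universe u

variable {G : Type u} [Group G]

theorem x_not [Finite G] (hyp : Hyp G) (P : Sylow 2 G) {J K : Subgroup G} {x : G} (c : Cp J K)
    (hZ : omegaCenterOf (P : Subgroup G) ≤ zpowers x) (hK : K ≤ centralizer ({x} : Set G)) (hJ : J ≤ centralizer ({x} : Set G)) : False := by
  haveI : Fact (Nat.Prime 2) := ⟨Nat.prime_two⟩
  have h1 : centralizer ({x} : Set G) ≤ normalizer ((P : Subgroup G) : Set G) := by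
    refine le_trans ?_ (hyp.Z P)
    intro k hk
    have h2 : k ∈ centralizer ((zpowers x : Subgroup G) : Set G) := by
      rw [zpowers_eq_closure, centralizer_closure]; exact hk
    exact centralizer_le (SetLike.coe_subset_coe.mpr hZ) h2
  have h2 : IsPGroup 2 ↥(J ⊔ (P : Subgroup G)) := c.J2.to_sup_of_normal_right' P.isPGroup' (hJ.trans h1)
  have h3 := P.is_maximal' h2 le_sup_right
  have h4 : J ≤ (P : Subgroup G) := by rw [← h3]; exact le_sup_left
  exact c.false_of P.isPGroup' (hK.trans h1) h4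

theorem omega_ne [Finite G] {P : Subgroup G} (hP : IsPGroup 2 P) (h1 : P ≠ ⊥) : omegaCenterOf P ≠ ⊥ := by
  haveI : Fact (Nat.Prime 2) := ⟨Nat.prime_two⟩
  intro h
  have h3 := CfsgLib.H2Gen.card_modEq_fixed (q := 2) (V := P) (Q := P) le_normalizer hP
  have h4 : 2 ∣ Nat.card P := two_dvd_of_two_group hP h1
  have h5 : 2 ∣ Nat.card ↥(P ⊓ centralizer (P : Set G)) := by
    rw [← Nat.modEq_zero_iff_dvd] at h4 ⊢
    exact h3.symm.trans h4
  obtain ⟨x, hx⟩ := exists_prime_orderOf_dvd_card' (G := ↥(P ⊓ centralizer (P : Set G))) 2 h5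
  have h6 : (x : G) ∈ omegaCenterOf P := by
    refine mem_omegaCenterOf.mpr ⟨x.2.1, x.2.2, ?_⟩
    have h8 : x ^ 2 = 1 := by
      have := pow_orderOf_eq_one x
      rwa [hx] at this
    rw [← Subgroup.coe_pow, h8]; rfl
  rw [h, mem_bot] at h6
  have h7 : x = 1 := Subtype.ext h6
  rw [h7, orderOf_one] at hx
  omega

/-- `K` is transitive on `W_K - 1` -/
theorem W_trans [Finite G] {J K W R : Subgroup G} (D : KD J K W R) {c x : G} (hc : c ∈ W) (hx : x ∈ W) (hc1 : c ≠ 1) (hx1 : x ≠ 1) :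
    ∃ g ∈ K, g * c * g⁻¹ = x := by
  by_contra hcon
  push Not at hcon
  have hcx : c ≠ x := by
    rintro rfl
    exact hcon 1 (one_mem _) (by simp)
  have hKW : K ≤ normalizer (W : Set G) := le_sup_left.trans D.HW
  have cj1 : ∀ g : G, ∀ y : G, y ≠ 1 → g * y * g⁻¹ ≠ 1 := by
    intro g y hy h
    apply hy
    have := congrArg (fun z => g⁻¹ * z * g) h
    simpa [mul_assoc] using this
  have orb : ∀ g ∈ K, g * c * g⁻¹ = c ∨ g * c * g⁻¹ = c * x := by
    intro g hg
    have h1 : g * c * g⁻¹ ∈ W := (mem_normalizer_iff.mp (hKW hg) c).mp hc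
    rcases four_cases D.cW D.el hc hx hc1 hx1 hcx h1 with h | h | h | h
    · exact absurd h (cj1 g c hc1)
    · exact Or.inl h
    · exact absurd h (hcon g hg)
    · exact Or.inr h
  have cc : c * c = 1 := by have := D.el.2 c hc; rwa [pow_two] at this
  have hcxc : c * x = x * c := ea_comm D.el hc hx
  have notcen : ∀ y ∈ W, y ≠ 1 → ¬ ∀ g ∈ K, g * y * g⁻¹ = y := by
    intro y hy hy1 h
    apply hy1
    have : y ∈ W ⊓ centralizer (K : Set G) := by
      refine ⟨hy, mem_centralizer_iff.mpr fun k hk => ?_⟩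
      have := h k hk
      calc k * y = (k * y * k⁻¹) * k := by group
        _ = y * k := by rw [this]
    rwa [D.C0, mem_bot] at this
  apply notcen x hx hx1
  obtain ⟨g0, hg0, hg0'⟩ : ∃ g ∈ K, g * c * g⁻¹ ≠ c := by
    by_contra h
    push Not at h
    exact notcen c hc hc1 h
  have hg1 : g0 * c * g0⁻¹ = c * x := (orb g0 hg0).resolve_left hg0'
  intro g hg
  have h2 : g * (c * x) * g⁻¹ = c ∨ g * (c * x) * g⁻¹ = c * x := by
    have := orb (g * g0) (K.mul_mem hg hg0)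
    have e : g * g0 * c * (g * g0)⁻¹ = g * (g0 * c * g0⁻¹) * g⁻¹ := by group
    rwa [e, hg1] at this
  have e : g * x * g⁻¹ = (g * c * g⁻¹)⁻¹ * (g * (c * x) * g⁻¹) := by group
  have hci : c⁻¹ = c := inv_eq_of_mul_eq_one_left cc
  rcases orb g hg with h3 | h3 <;> rcases h2 with h4 | h4
  · exfalso
    have h5 : g * c * g⁻¹ = g * (c * x) * g⁻¹ := by rw [h3, h4]
    have h6 : c = c * x := by
      have := congrArg (fun z => g⁻¹ * z * g) h5
      simpa [mul_assoc] using this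
    exact hx1 (by simpa using h6)
  · rw [e, h3, h4, hci, ← mul_assoc, cc, one_mul]
  · rw [e, h3, h4, mul_inv_rev, hci]
    have hxi : x⁻¹ = x := by
      apply inv_eq_of_mul_eq_one_left
      have := D.el.2 x hx; rwa [pow_two] at this
    rw [hxi, mul_assoc, cc, mul_one]
  · exfalso
    have h5 : g * c * g⁻¹ = g * (c * x) * g⁻¹ := by rw [h3, h4]
    have h6 : c = c * x := by
      have := congrArg (fun z => g⁻¹ * z * g) h5
      simpa [mul_assoc] using this
    exact hx1 (by simpa using h6)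

theorem exists_maxStr [Finite G] {M : Subgroup G} (h : straddlingTwoSubgroups M ≠ ∅) : ∃ T, T ∈ maxStraddlingTwoSubgroups M := by
  obtain ⟨T, hT, hmax⟩ := Set.exists_max_image (straddlingTwoSubgroups M)
    (fun T => (toLex (maxElemAbelianOrder T, toLex (Nat.card ↥(thompsonSubgroupOf 2 T), Nat.card T)) : ℕ ×ₗ (ℕ ×ₗ ℕ)))
    (Set.toFinite _) (Set.nonempty_iff_ne_empty.mpr h)
  refine ⟨T, hT, fun T' hT' => ?_⟩
  have h1 := hmax T' hT'
  rw [Prod.Lex.toLex_le_toLex] at h1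
  rcases h1 with h1 | ⟨h1, h2⟩
  · exact ⟨h1.le, fun h => absurd h h1.ne⟩
  · refine ⟨h1.le, fun _ => ?_⟩
    rw [Prod.Lex.toLex_le_toLex] at h2
    rcases h2 with h2 | ⟨h2, h3⟩
    · exact ⟨h2.le, fun h => absurd h h2.ne⟩
    · exact ⟨h2.le, fun _ => h3⟩

/-- `Z(S)` in the case `T < S`, `|Z_0| = 4` -/
theorem Pr.Zc [Finite G] {S T K1 L1 K2 L2 : Subgroup G} (p : Pr S T K1 L1 K2 L2) {s : G} (hsS : s ∈ S) (hsT : s ∉ T)
    {x : G} (hx : x ∈ omegaCenterOf T) (hxK : x ∈ centralizer (K1 : Set G)) (hx1 : x ≠ 1) :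
    ∃ c, c ≠ 1 ∧ c ∈ omegaCenterOf T ∧ omegaCenterOf S = zpowers c := by
  have hS2 : IsPGroup 2 S := by obtain ⟨P, rfl⟩ := p.syl; exact P.isPGroup'
  have h1 : omegaCenterOf S ≤ omegaCenterOf T := by rw [p.TZ.1]; exact p.TZ.2
  have h2 : x ∉ omegaCenterOf S := by
    intro h
    obtain ⟨-, h3, h4⟩ := mem_omegaCenterOf.mp h
    apply hsT
    apply syl_inf hS2 p.TS p.B1.syl hsS
    rw [pow_two] at h4
    apply p.w1.cen_le h4 hx1 (mem_cen_sing hxK)
    · exact ((JQ_le _ _).trans p.TS).trans (mem_cen_sing h3)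
    · exact mem_cen_sing h3 hsS
  obtain ⟨c, hc, hc1⟩ := exists_ne_of_card (X := omegaCenterOf S) (fun h => p.Z_ne (card_eq_one.mp h))
  refine ⟨c, hc1, h1 hc, ?_⟩
  have hle : zpowers c ≤ omegaCenterOf S := by rw [zpowers_le]; exact hc
  have hc2 : Nat.card (zpowers c) = 2 := by
    rw [Nat.card_zpowers]
    exact orderOf_eq_prime (mem_omegaCenterOf.mp hc).2.2 hc1
  symm
  apply eq_of_le_of_card_ge hle
  rw [hc2]
  by_contra h3
  have h4 : Nat.card (zpowers c) ∣ Nat.card (omegaCenterOf S) := card_dvd_of_le hle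
  rw [hc2] at h4
  have h5 : omegaCenterOf S = omegaCenterOf T := eq_of_le_of_card_ge h1 (by have := p.c4; omega)
  exact h2 (h5 ▸ hx)

theorem Gl.smul [Finite G] {S M : Subgroup G} (g : Gl S M) {m : G} (hm : m ∈ M) : Gl (MulAut.conj m • S) M := by
  obtain ⟨P, hP⟩ := g.syl
  refine ⟨g.hyp, g.O1, ⟨MulAut.conj m • P, ?_⟩, g.loc, ?_⟩
  · rw [← hP]; rfl
  · rw [Je_smul, normalizer_conj_smul, smul_le_iff', conj_self (inv_mem hm)]
    exact g.MJ

/-- the corner case -/
theorem corner_false [Finite G] (hyp : Hyp G) (O1 : Cfsg.pCore 2 G = ⊥) {S K L : Subgroup G} (hS : ∃ P : Sylow 2 G, (P : Subgroup G) = S)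
    (w : Pw S K L) (B : Bs S L) (hJ : normalizer (Je 2 S : Set G) ≤ L)
    (hu : ∀ L', IsMaximalTwoLocal L' → S ≤ L' → L' = L) : False := by
  haveI : Fact (Nat.Prime 2) := ⟨Nat.prime_two⟩
  have gl : Gl S L := ⟨hyp, O1, hS, w.max.1, hJ⟩
  have hS2 : IsPGroup 2 S := B.syl.isPGroup
  have cK := cp_of hS2 w.comp
  have hJS := JQ_le (IsElementaryAbelian 2) S
  by_cases hse : IsStronglyEmbedded L
  · have hS1 : S ≠ ⊥ := by
      rintro rfl
      exact cK.false_of (pCoreOf_isPGroup 2 L) (w.KL.trans B.LR) (hJS.trans bot_le)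
    obtain ⟨c, hc, hc1⟩ := exists_ne_of_card (X := omegaCenterOf S) (fun h => omega_ne hS2 hS1 (card_eq_one.mp h))
    obtain ⟨hcS, -, hc2⟩ := mem_omegaCenterOf.mp hc
    have hoc : orderOf c = 2 := orderOf_eq_prime hc2 hc1
    have hJV : Je 2 S ≤ Vo L := by
      refine sSup_le fun A hA a ha => ?_
      by_cases ha1 : a = 1
      · rw [ha1]; exact one_mem _
      · have hoa : orderOf a = 2 := orderOf_eq_prime (hA.2.1.2 a ha) ha1
        obtain ⟨g, hg⟩ := isConj_iff.mp (CfsgLib.StrongH12.isConj_all hse hoc hoa)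
        have hgL : g ∈ L := by
          apply CfsgLib.StrongH12.key' hse (B.syl.le hcS) hoc
          rw [hg]; exact B.syl.le (hA.1 ha)
        rw [← hg]
        exact (mem_normalizer_iff.mp (B.LV hgL) c).mp (B.ZV hc)
    exact cK.false_of (pCoreOf_isPGroup 2 L) (w.KL.trans B.LR) (hJV.trans B.VR)
  · obtain ⟨P, rfl⟩ := hS
    have hst : straddlingTwoSubgroups L ≠ ∅ := by
      intro h
      apply hse
      rw [strong_iff O1 P L w.max.1 (by rw [thompsonSubgroupOf_eq]; exact hJ)]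
      exact h
    obtain ⟨T, hT⟩ := exists_maxStr hst
    obtain ⟨S', hS', hTS'⟩ := IsSylowIn.exists_ge hT.1.1 hT.1.2.2.1
    obtain ⟨m, hm, rfl⟩ := gl.sylM.exists_conj hS'
    have gl' := gl.smul hm
    set S' := MulAut.conj m • (P : Subgroup G) with hS'def
    have hne : T ≠ S' := by
      intro h
      obtain ⟨L'', hL'', hTL'', hL''L⟩ := hT.1.2.2.2
      obtain ⟨Ls, hLs, hle⟩ := exists_maxTwoLocal hL''
      apply hL''L
      have h1 : MulAut.conj m⁻¹ • Ls = L := by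
        apply hu _ (isMaximalTwoLocal_smul m⁻¹ hLs)
        rw [← inv_inv m, ← smul_le_iff', inv_inv, ← hS'def, ← h]
        exact hTL''.trans hle
      have h2 : Ls = L := by
        have := congrArg (fun X => MulAut.conj m • X) h1
        simp only [smul_inv_smul'] at this
        rw [this, conj_self hm]
      rw [← h2]; exact hle
    obtain ⟨K1, hK1⟩ := outside_nonempty gl' hT
    obtain ⟨L1, hL1, hK1L1, hu1, -, hT1, hTL1, B1'⟩ := main_2950 gl' hT hK1
    have pw : Pw T K1 L1 := ⟨hK1.1.1, hL1, le_sup_left.trans hK1L1, le_sup_right.trans hK1L1,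
      fun L' hL' h1 h2 => hu1 L' hL' (sup_le h1 h2)⟩
    have hS'2 : IsPGroup 2 S' := hS'.isPGroup
    obtain ⟨s, hsS, hsT, hsn, hss⟩ := exists_sq hS'2 hTS' hne
    obtain ⟨p, B2⟩ := ex_lt hyp gl'.syl hTS' hT.1.2.1 pw B1' hsS hsT hsn
    obtain ⟨w1, k1⟩ := pk p.w1 p.B1 p.TZ.1
    obtain ⟨w2, k2⟩ := pk p.w2 B2 p.TZ.1
    have h21 : MulAut.conj s • MulAut.conj s • K1 = K1 := by
      rw [← mul_smul, ← map_mul]
      exact conj_smul_eq_of_mem_normalizer (k1.PKn (k1.pf.TP hss))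
    have b := lt_b1 p k1 k2 hsn rfl h21
    have hVS : Vo L ≤ S' := by
      refine B.VR.trans ?_
      rw [← conj_smul_eq_of_mem_normalizer (B.LR hm)]
      exact (Subgroup.pointwise_smul_le_pointwise_smul_iff).mpr B.RT
    have hVle := V_le p B2 k1 k2 b hsS hsT hsn hVS (hS'.le.trans B.LV) (fun x hx => by
      have := B.Vel.2 x hx
      rwa [pow_two] at this)
    obtain ⟨I, t, A, D⟩ := B.ls
    obtain ⟨i, hi, -⟩ := comp_in B D cK w.KL
    have hWV : wOf K ≤ Vo L := by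
      rw [wOf_eq w.comp hi (D.cV i)]
      apply commutator_le_of_le_normalizer
      rw [← hi.AK]
      exact sup_le (w.KL.trans B.LV) ((Co_le L).trans B.LV)
    have hcW := w.comp.2.2.2.2.1
    have hWZ : wOf K = omegaCenterOf T := eq_of_le_of_card_ge (hWV.trans hVle) (by rw [hcW]; exact p.c4)
    have h4 : Nat.card (omegaCenterOf T) = 4 := by rw [← hWZ]; exact hcW
    have hX : Nat.card ↥(omegaCenterOf T ⊓ centralizer (K1 : Set G)) = 2 := by
      have := k1.cX; omega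
    obtain ⟨x, hx, hx1⟩ := exists_ne_of_card (X := omegaCenterOf T ⊓ centralizer (K1 : Set G)) (by rw [hX]; decide)
    obtain ⟨c, hc1, hcZ, hZc⟩ := p.Zc hsS hsT hx.1 hx.2 hx1
    obtain ⟨g, hg, hgc⟩ := W_trans (kd hS2 w.comp) (c := c) (x := x) (by rw [hWZ]; exact hcZ) (by rw [hWZ]; exact hx.1) hc1 hx1
    refine x_not hyp (MulAut.conj g • MulAut.conj m • P) (cp_of p.T2 p.w1.comp) (x := x) ?_ (mem_cen_sing hx.2) ?_
    · have e : ((MulAut.conj g • MulAut.conj m • P : Sylow 2 G) : Subgroup G) = MulAut.conj g • S' := rfl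
      rw [e, omegaCenterOf_smul, hZc, smul_le_iff', zpowers_le, mem_conj_smul, inv_inv, hgc]
      exact mem_zpowers x
    · exact (JQ_le _ _).trans (mem_cen_sing (mem_omegaCenterOf.mp hx.1).2.1)

end CfsgLib.H2JC
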