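import Cfsg.Agent.EqBase
import Cfsg.Agent.LibH2JD8
set_option autoImplicit false
set_option maxHeartbeats 400000
/-! J(T)-components, part 28: existence of pairs, final.  Seat helper2. -/
namespace CfsgLib.H2JC
open Subgroup Cfsg CfsgLib.Coprime CfsgLib.Coprime2 CfsgLib.H2Misc CfsgLib.H2Thomp CfsgLib.Cores CfsgLib.H2FF
open CfsgLib.SolvCoprime (IsSylowIn)
open CfsgLib.SolvBasic (mem_conj_smul normalizer_conj_smul)
open CfsgLib.LE (pCoreOf_isPGroup pCoreOf_le le_pCoreOf normalizer_le_normalizer_pCoreOf le_normalizer_pCoreOf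
  pCoreOf_le_pCoreOf_of_normal)
open scoped Pointwise commutatorElement

universe u

variable {G : Type u} [Group G]

theorem ea_smul {A : Subgroup G} (g : G) (h : IsElementaryAbelian 2 A) : IsElementaryAbelian 2 (MulAut.conj g • A : Subgroup G) :=
  (elab_map_iff 2 (MulAut.conj g).toMonoidHom (P := ⊤) (MulAut.conj g).injective.injOn A le_top).mp h

theorem cmp_top [Finite G] {S T' : Subgroup G} {n : G} (h : MulAut.conj n • T' ≤ S) :
    maxElemAbelianOrder T' ≤ maxElemAbelianOrder S ∧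
    (maxElemAbelianOrder T' = maxElemAbelianOrder S →
      Nat.card ↥(thompsonSubgroupOf 2 T') ≤ Nat.card ↥(thompsonSubgroupOf 2 S) ∧
      (Nat.card ↥(thompsonSubgroupOf 2 T') = Nat.card ↥(thompsonSubgroupOf 2 S) → Nat.card ↥T' ≤ Nat.card ↥S)) := by
  obtain ⟨A', hA'⟩ := exists_max T'
  obtain ⟨A, hA⟩ := exists_max S
  have hle : ∀ B ∈ maxIn (IsElementaryAbelian 2) T', MulAut.conj n • B ≤ S := fun B hB =>
    ((Subgroup.pointwise_smul_le_pointwise_smul_iff).mpr hB.1).trans h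
  rw [maxElem_eq hA, maxElem_eq hA']
  have h1 : Nat.card A' ≤ Nat.card A := by
    have := hA.2.2 _ (hle A' hA') (ea_smul n hA'.2.1)
    rwa [card_conj_smul] at this
  refine ⟨h1, fun h2 => ⟨?_, fun _ => ?_⟩⟩
  · rw [thompsonSubgroupOf_eq, thompsonSubgroupOf_eq]
    have h3 : Je 2 T' ≤ MulAut.conj n⁻¹ • Je 2 S := by
      refine sSup_le fun B hB => ?_
      rw [← smul_le_iff']
      refine le_sSup ⟨hle B hB, ea_smul n hB.2.1, fun X hX1 hX2 => ?_⟩
      rw [card_conj_smul]
      have h4 := hA.2.2 X hX1 hX2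
      have h5 := hB.2.2 A' hA'.1 hA'.2.1
      omega
    have h6 := Subgroup.card_le_of_le h3
    rwa [card_conj_smul] at h6
  · have h6 := Subgroup.card_le_of_le h
    rwa [card_conj_smul] at h6

theorem top_max [Finite G] {S M : Subgroup G} (g : Gl S M) (hT : S ∈ maxStraddlingTwoSubgroups M) :
    Gl S (normalizer (Je 2 S : Set G)) ∧ S ∈ maxStraddlingTwoSubgroups (normalizer (Je 2 S : Set G)) := by
  haveI : Fact (Nat.Prime 2) := ⟨Nat.prime_two⟩
  have hS2 : IsPGroup 2 S := hT.1.1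
  have g' : Gl S (normalizer (Je 2 S : Set G)) :=
    ⟨g.hyp, g.O1, g.syl, ⟨Je 2 S, hS2.to_le (JQ_le _ _), J_ne hT.1, rfl⟩, le_rfl⟩
  refine ⟨g', ⟨hS2, hT.1.2.1, g'.SM, ?_⟩, ?_⟩
  · obtain ⟨L, hL, hSL, hLM⟩ := hT.1.2.2.2
    exact ⟨L, hL, hSL, fun h => hLM (h.trans g.MJ)⟩
  · intro T' hT'
    obtain ⟨S', hS', hle⟩ := IsSylowIn.exists_ge hT'.1 hT'.2.2.1
    obtain ⟨m, -, rfl⟩ := g'.sylM.exists_conj hS'
    apply cmp_top (n := m⁻¹)
    rw [smul_le_iff', inv_inv]
    exact hle

/-- the existence of a second component -/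
theorem ex_pair [Finite G] {S M T K L : Subgroup G} (g : Gl S M) (hT : T ∈ maxStraddlingTwoSubgroups M) (hTS : T ≤ S)
    (w : Pw T K L) (B : Bs T L) :
    ∃ K2 L2, Pr S T K L K2 L2 ∧ Bs T L2 ∧
      (T = S ∨ ∃ s ∈ S, s ∉ T ∧ s ∈ normalizer (T : Set G) ∧ s * s ∈ T ∧ K2 = MulAut.conj s • K) := by
  haveI : Fact (Nat.Prime 2) := ⟨Nat.prime_two⟩
  have hS2 : IsPGroup 2 S := by obtain ⟨P, rfl⟩ := g.syl; exact P.isPGroup'
  by_cases hne : T = S
  · subst hne
    obtain ⟨g', hT'⟩ := top_max g hT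
    have hnotM : ∀ X : Subgroup G, IsJComponent T X → ¬ X ≤ normalizer (Je 2 T : Set G) := fun X hX h =>
      (cp_of hT.1.1 hX).false_of (hT.1.1.to_le (JQ_le _ _)) h le_rfl
    by_cases hJL : normalizer (Je 2 T : Set G) ≤ L
    · by_cases hu : ∀ L', IsMaximalTwoLocal L' → T ≤ L' → L' = L
      · exact (corner_false g.hyp g.O1 g.syl w B hJL hu).elim
      · push Not at hu
        obtain ⟨L2, hL2, hTL2, hne2⟩ := hu
        have h1 : ¬ L2 ≤ L := fun h => hne2 (hL2.2 L w.max.1 h).symm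
        have h2 : ¬ L2 ≤ normalizer (Je 2 T : Set G) := fun h => h1 (h.trans hJL)
        obtain ⟨h3, h4⟩ := part4 g' hT' hL2.1 h2 hTL2
        have B2 := bs g.hyp hT.1.2.1 h3 h4.2.2
        obtain ⟨I, t, A, D⟩ := B2.ls
        obtain ⟨K2, hK2, hK2L, hK2n⟩ : ∃ K2, IsJComponent T K2 ∧ K2 ≤ L2 ∧ ¬ K2 ≤ L := by
          by_contra hcon
          push Not at hcon
          exact h1 (L_le_of B2 D hJL hcon)
        have hJL2 : Je 2 T ≤ L2 := (JQ_le _ _).trans hTL2
        have pw2 : Pw T K2 L2 := ⟨hK2, hL2, hK2L, hJL2, fun L' hL' ha hb =>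
          unique_max g' hT' hK2 (hnotM K2 hK2) hL2 hK2L hJL2 hL' ha hb⟩
        exact ⟨K2, L2, ⟨g.hyp, g.syl, le_rfl, w, B, pw2, hne2.symm⟩, B2, Or.inl rfl⟩
    · obtain ⟨x, hx, hxL⟩ := Set.not_subset.mp hJL
      have p : Pr T T K L (MulAut.conj x • K) (MulAut.conj x • L) :=
        ⟨g.hyp, g.syl, le_rfl, w, B, w.smul hx, smul_ne w.max hxL⟩
      refine ⟨_, _, p, ?_, Or.inl rfl⟩
      apply bs_of g.hyp (isTwoLocal_smul x w.max.1) hT.1.2.1
      have hxT : x ∈ normalizer (T : Set G) := by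
        obtain ⟨P, rfl⟩ := g.syl
        apply norm_Z g.hyp P
        rw [p.TZ.1]
        exact ((normalizer_le_center _).trans (omegaOne_normalizer 2 _)) hx
      have := B.syl.conj x
      rwa [conj_smul_eq_of_mem_normalizer hxT] at this
  · obtain ⟨s, hsS, hsT, hsn, hss⟩ := exists_sq hS2 hTS hne
    obtain ⟨p, B2⟩ := ex_lt g.hyp g.syl hTS hT.1.2.1 w B hsS hsT hsn
    exact ⟨_, _, p, B2, Or.inr ⟨s, hsS, hsT, hsn, hss, rfl⟩⟩

/-- `T` may be assumed to lie in `S` -/
theorem Gl.wlog [Finite G] {S M T : Subgroup G} (g : Gl S M) (hT : T ∈ maxStraddlingTwoSubgroups M) :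
    ∃ S', Gl S' M ∧ T ≤ S' := by
  haveI : Fact (Nat.Prime 2) := ⟨Nat.prime_two⟩
  obtain ⟨S', hS', hTS'⟩ := IsSylowIn.exists_ge hT.1.1 hT.1.2.2.1
  obtain ⟨m, hm, rfl⟩ := g.sylM.exists_conj hS'
  exact ⟨_, g.smul hm, hTS'⟩

theorem pw_of [Finite G] {S M T K L : Subgroup G} (g : Gl S M) (hT : T ∈ maxStraddlingTwoSubgroups M) (hK : K ∈ jComponentsOutside M T)
    (hL : IsMaximalTwoLocal L) (hKL : K ⊔ Je 2 T ≤ L) : Pw T K L ∧ Bs T L := by
  obtain ⟨L', hL', hKL', hu, -, -, -, B⟩ := main_2950 g hT hK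
  have h1 := hu L hL hKL
  subst h1
  exact ⟨⟨hK.1.1, hL, le_sup_left.trans hKL, le_sup_right.trans hKL, fun L' h1 h2 h3 => hu L' h1 (sup_le h2 h3)⟩, B⟩

theorem main_2952 [Finite G] {S M T K : Subgroup G} (g : Gl S M) (hT : T ∈ maxStraddlingTwoSubgroups M) (hK : K ∈ jComponentsOutside M T) :
    T ≤ normalizer (K : Set G) := by
  obtain ⟨S', g', hTS⟩ := g.wlog hT
  obtain ⟨L, hL, hKL, -⟩ := main_2950 g' hT hK
  obtain ⟨w, B⟩ := pw_of g' hT hK hL hKL
  obtain ⟨K2, L2, p, B2, -⟩ := ex_pair g' hT hTS w B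
  obtain ⟨w1, k1⟩ := pk p.w1 p.B1 p.TZ.1
  exact k1.pf.TP.trans k1.PKn

theorem main_2951 [Finite G] {S M T K L : Subgroup G} (g : Gl S M) (hT : T ∈ maxStraddlingTwoSubgroups M) (hTS : T ≤ S)
    (hK : K ∈ jComponentsOutside M T) (hL : IsMaximalTwoLocal L) (hKL : K ⊔ Je 2 T ≤ L) :
    omegaCenterOf (Je 2 T) ⊓ wOf K ≠ ⊥ ∧
      ((omegaCenterOf S = omegaCenterOf (Je 2 T) ∧ Nat.card (omegaCenterOf (Je 2 T)) = 2) ∨
        (omegaCenterOf S = omegaCenterOf (Je 2 T) ∧ Nat.card (omegaCenterOf (Je 2 T)) = 4 ∧ T = S) ∨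
        (omegaCenterOf T = omegaCenterOf (Je 2 T) ∧ Nat.card (omegaCenterOf (Je 2 T)) = 4 ∧
          (L ⊓ centralizer (omegaCenterOf (Je 2 T) : Set G)).relIndex (normalizer (omegaCenterOf (Je 2 T) : Set G)) = 2)) := by
  obtain ⟨w, B⟩ := pw_of g hT hK hL hKL
  obtain ⟨K2, L2, p, B2, hcase⟩ := ex_pair g hT hTS w B
  have hS2 : IsPGroup 2 S := by obtain ⟨P, rfl⟩ := g.syl; exact P.isPGroup'
  obtain ⟨w1, k1⟩ := pk p.w1 p.B1 p.TZ.1
  have hTZ := p.TZ.1
  have hSZ := p.TZ.2
  constructor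
  · intro h
    have h1 : w1 ∈ omegaCenterOf (Je 2 T) ⊓ wOf K := ⟨by rw [← hTZ]; exact k1.wZ0, k1.wW⟩
    rw [h, mem_bot] at h1
    exact k1.pf.w1 h1
  rcases p.cards with ⟨c1, -, -⟩ | ⟨c1, c2, c3⟩
  · left
    refine ⟨?_, c1⟩
    apply eq_of_le_of_card_ge hSZ
    rw [c1]
    by_contra h8
    have h9 : Nat.card (omegaCenterOf S) = 1 := by
      have : 0 < Nat.card (omegaCenterOf S) := Nat.card_pos
      omega
    exact p.Z_ne (card_eq_one.mp h9)
  · right
    rcases hcase with rfl | ⟨s, hsS, hsT, hsn, hss, rfl⟩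
    · left
      exact ⟨hTZ, c1, rfl⟩
    · right
      refine ⟨hTZ, c1, ?_⟩
      rw [← hTZ] at c1 c2 ⊢
      obtain ⟨x, hx, hx1⟩ := exists_ne_of_card (X := omegaCenterOf T ⊓ centralizer (K : Set G)) (by rw [c2]; decide)
      obtain ⟨c, hc1, hcZ, hZc⟩ := p.Zc hsS hsT hx.1 hx.2 hx1
      obtain ⟨x0, x2, x3⟩ := mem_omegaCenterOf.mp hx.1
      rw [pow_two] at x3
      have hcx : centralizer ({x} : Set G) ≤ L :=
        p.w1.cen_le x3 hx1 (mem_cen_sing hx.2) ((JQ_le _ _).trans (mem_cen_sing x2))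
      have hCx : centralizer (omegaCenterOf T : Set G) ≤ centralizer ({x} : Set G) := by
        intro y hy
        rw [mem_centralizer_singleton_iff]
        exact (mem_centralizer_iff.mp hy x hx.1).symm
      have hCL : L ⊓ centralizer (omegaCenterOf T : Set G) = centralizer (omegaCenterOf T : Set G) :=
        inf_eq_right.mpr (hCx.trans hcx)
      rw [hCL]
      set Z0 := omegaCenterOf T with hZ0
      have hel : IsElementaryAbelian 2 Z0 := omegaCenterOf_el T
      have hsZ : s ∈ normalizer (Z0 : Set G) := ((normalizer_le_center _).trans (omegaOne_normalizer 2 _)) hsn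
      -- elements of N(Z0) never map c to x
      have notc : ∀ y ∈ normalizer (Z0 : Set G), y * c * y⁻¹ ≠ x := by
        intro y hy h
        obtain ⟨P, rfl⟩ := g.syl
        refine x_not g.hyp (MulAut.conj y • P) (cp_of p.T2 p.w1.comp) (x := x) ?_ (mem_cen_sing hx.2) ?_
        · have e : ((MulAut.conj y • P : Sylow 2 G) : Subgroup G) = MulAut.conj y • (P : Subgroup G) := rfl
          rw [e, omegaCenterOf_smul, hZc, smul_le_iff', zpowers_le, mem_conj_smul, inv_inv, h]
          exact mem_zpowers x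
        · exact (JQ_le _ _).trans (mem_cen_sing x2)
      have hcxne : c ≠ x := by
        intro h
        exact notc 1 (one_mem _) (by rw [h]; group)
      have hsC : s ∉ centralizer (Z0 : Set G) := by
        intro h
        exact hsT (syl_inf hS2 p.TS p.B1.syl hsS (hcx (hCx h)))
      have conj1 : ∀ y v : G, v ≠ 1 → y * v * y⁻¹ ≠ 1 := by
        intro y v hv h
        apply hv
        have := congrArg (fun z => y⁻¹ * z * y) h
        simpa [mul_assoc] using this
      -- c is fixed by N(Z0)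
      have sx : s * x * s⁻¹ = c * x := by
        have h1 : s * x * s⁻¹ ∈ Z0 := (mem_normalizer_iff.mp hsZ x).mp hx.1
        have hsc : s * c * s⁻¹ = c := by
          have h2 : c ∈ omegaCenterOf S := by rw [hZc]; exact mem_zpowers c
          rw [mem_centralizer_iff.mp (mem_omegaCenterOf.mp h2).2.1 s hsS, mul_inv_cancel_right]
        rcases four_cases c1 hel hcZ hx.1 hc1 hx1 hcxne h1 with h | h | h | h
        · exact absurd h (conj1 s x hx1)
        · exfalso
          apply hcxne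
          have := congrArg (fun z => s⁻¹ * z * s) (h.trans hsc.symm)
          simpa [mul_assoc] using this.symm
        · exfalso
          apply hsT
          apply syl_inf hS2 p.TS p.B1.syl hsS
          apply hcx
          rw [mem_centralizer_singleton_iff]
          calc s * x = (s * x * s⁻¹) * s := by group
            _ = x * s := by rw [h]
        · exact h
      have fixc : ∀ y ∈ normalizer (Z0 : Set G), y * c * y⁻¹ = c := by
        intro y hy
        have h1 : y * c * y⁻¹ ∈ Z0 := (mem_normalizer_iff.mp hy c).mp hcZ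
        rcases four_cases c1 hel hcZ hx.1 hc1 hx1 hcxne h1 with h | h | h | h
        · exact absurd h (conj1 y c hc1)
        · exact h
        · exact absurd h (notc y hy)
        · exfalso
          apply notc (s⁻¹ * y) (mul_mem (inv_mem hsZ) hy)
          have e : s⁻¹ * y * c * (s⁻¹ * y)⁻¹ = s⁻¹ * (y * c * y⁻¹) * s := by group
          rw [e, h, ← sx]; group
      have fixx : ∀ y ∈ normalizer (Z0 : Set G), y * x * y⁻¹ = x ∨ y * x * y⁻¹ = c * x := by
        intro y hy
        have h1 : y * x * y⁻¹ ∈ Z0 := (mem_normalizer_iff.mp hy x).mp hx.1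
        rcases four_cases c1 hel hcZ hx.1 hc1 hx1 hcxne h1 with h | h | h | h
        · exact absurd h (conj1 y x hx1)
        · exfalso
          apply hcxne
          have := congrArg (fun z => y⁻¹ * z * y) (h.trans (fixc y hy).symm)
          simpa [mul_assoc] using this.symm
        · exact Or.inl h
        · exact Or.inr h
      have cenZ : ∀ y ∈ normalizer (Z0 : Set G), y * x * y⁻¹ = x → y ∈ centralizer (Z0 : Set G) := by
        intro y hy hyx
        have hyc := fixc y hy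
        refine mem_centralizer_iff.mpr fun v hv => ?_
        have k1 : y * c = c * y := by
          calc y * c = (y * c * y⁻¹) * y := by group
            _ = c * y := by rw [hyc]
        have k2 : y * x = x * y := by
          calc y * x = (y * x * y⁻¹) * y := by group
            _ = x * y := by rw [hyx]
        rcases four_cases c1 hel hcZ hx.1 hc1 hx1 hcxne hv with h | h | h | h
        · rw [h, one_mul, mul_one]
        · rw [h, k1]
        · rw [h, k2]
        · rw [h, ← mul_assoc, k1, mul_assoc, mul_assoc, k2]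
      apply relIndex_two_of (centralizer_le_normalizer _) hsZ hsC
      intro y hy
      rcases fixx y hy with h | h
      · exact Or.inl (cenZ y hy h)
      · right
        apply cenZ _ (mul_mem (inv_mem hsZ) hy)
        have e : s⁻¹ * y * x * (s⁻¹ * y)⁻¹ = s⁻¹ * (y * x * y⁻¹) * s := by group
        rw [e, h, ← sx]; group

end CfsgLib.H2JC
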