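import Cfsg.Agent.EqBase
import Cfsg.Agent.LibH2JD9
set_option autoImplicit false
set_option maxHeartbeats 400000
/-! J(T)-components, part 29: two components generating an amalgam.  Seat helper2. -/
namespace CfsgLib.H2JC
open Subgroup Cfsg CfsgLib.Coprime CfsgLib.Coprime2 CfsgLib.H2Misc CfsgLib.H2Thomp CfsgLib.Cores CfsgLib.H2FF
open CfsgLib.SolvCoprime (IsSylowIn)
open CfsgLib.SolvBasic (mem_conj_smul normalizer_conj_smul)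
open CfsgLib.LE (pCoreOf_isPGroup pCoreOf_le le_pCoreOf normalizer_le_normalizer_pCoreOf le_normalizer_pCoreOf
  pCoreOf_le_pCoreOf_of_normal)
open scoped Pointwise commutatorElement

universe u

variable {G : Type u} [Group G]

theorem side_2953 [Finite G] {T K L : Subgroup G} (w : Pw T K L) (B : Bs T L) {Z : Subgroup G} {x : G}
    (k : PK T K (K ⊔ T) (pCoreOf 2 (K ⊔ T)) Z x) :
    Subgroup.centralizer (Cfsg.pCoreOf 2 (K ⊔ T) : Set G) ≤ Cfsg.pCoreOf 2 (K ⊔ T) ∧ Cfsg.IsSylowTwoIn T (K ⊔ T) ∧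
        (Cfsg.pCoreOf 2 (K ⊔ T)).relIndex (K ⊔ T) = 6 ∧ ¬ ⁅K ⊔ T, K ⊔ T⁆ ≤ Cfsg.pCoreOf 2 (K ⊔ T) ∧ ⁅Cfsg.omegaCenterOf T, K ⊔ T⁆ ≠ ⊥ ∧
        ∃ L : Subgroup G, Cfsg.IsMaximalTwoLocal L ∧ K ⊔ T ≤ L ∧ Cfsg.IsSylowTwoIn T L ∧
          ∀ L' : Subgroup G, Cfsg.IsMaximalTwoLocal L' → K ⊔ T ≤ L' → L' = L := by
  have c := cp_of k.pf.T2 w.comp
  refine ⟨k.cG, sylowTwo_iff.mpr k.syl, k.six, ?_, ?_, L, w.max, sup_le w.KL B.syl.le, sylowTwo_iff.mpr B.syl, ?_⟩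
  · intro h
    apply c.not_two
    have h1 : K ≤ ⁅K ⊔ T, K ⊔ T⁆ := by
      conv_lhs => rw [← c.KJ]
      exact commutator_mono le_sup_left ((JQ_le _ _).trans le_sup_right)
    exact (pCoreOf_isPGroup 2 _).to_le (h1.trans h)
  · intro h
    rw [commutator_eq_bot_iff_le_centralizer] at h
    apply k.pf.wP
    exact mem_cen_sing (h k.wZ0)
  · intro L' h1 h2
    exact w.uniq L' h1 (le_sup_left.trans h2) ((JQ_le _ _).trans (le_sup_right.trans h2))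

theorem main_2953 [Finite G] {S M T : Subgroup G} (g : Gl S M) (hT : T ∈ maxStraddlingTwoSubgroups M) :
    ∃ K₁ K₂ : Subgroup G, K₁ ≠ K₂ ∧ Cfsg.IsJComponent T K₁ ∧ Cfsg.IsJComponent T K₂ ∧
      Cfsg.pCoreOf 2 ((K₁ ⊔ T) ⊔ (K₂ ⊔ T)) = ⊥ ∧
      ∀ P ∈ [K₁ ⊔ T, K₂ ⊔ T],
        Subgroup.centralizer (Cfsg.pCoreOf 2 P : Set G) ≤ Cfsg.pCoreOf 2 P ∧ Cfsg.IsSylowTwoIn T P ∧
        (Cfsg.pCoreOf 2 P).relIndex P = 6 ∧ ¬ ⁅P, P⁆ ≤ Cfsg.pCoreOf 2 P ∧ ⁅Cfsg.omegaCenterOf T, P⁆ ≠ ⊥ ∧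
        ∃ L : Subgroup G, Cfsg.IsMaximalTwoLocal L ∧ P ≤ L ∧ Cfsg.IsSylowTwoIn T L ∧
          ∀ L' : Subgroup G, Cfsg.IsMaximalTwoLocal L' → P ≤ L' → L' = L := by
  obtain ⟨S', g', hTS⟩ := g.wlog hT
  obtain ⟨K, hK⟩ := outside_nonempty g' hT
  obtain ⟨L, hL, hKL, -⟩ := main_2950 g' hT hK
  obtain ⟨w, B⟩ := pw_of g' hT hK hL hKL
  obtain ⟨K2, L2, p, B2, -⟩ := ex_pair g' hT hTS w B
  obtain ⟨w1, k1⟩ := pk p.w1 p.B1 p.TZ.1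
  obtain ⟨w2, k2⟩ := pk p.w2 B2 p.TZ.1
  refine ⟨K, K2, ?_, p.w1.comp, p.w2.comp, ?_, ?_⟩
  · rintro rfl
    exact p.ne (p.w2.uniq L p.w1.max p.w1.KL p.w1.JL)
  · by_contra hne
    set R := pCoreOf 2 ((K ⊔ T) ⊔ (K2 ⊔ T)) with hR
    have hn : (K ⊔ T) ⊔ (K2 ⊔ T) ≤ normalizer (R : Set G) := le_normalizer_pCoreOf 2 _
    have hJ : Je 2 T ≤ normalizer (R : Set G) := (JQ_le _ _).trans ((le_sup_right.trans le_sup_left).trans hn)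
    have h3 := p.w1.le_of (pCoreOf_isPGroup 2 _) hne ((le_sup_left.trans le_sup_left).trans hn) hJ
    exact p.ne (p.w2.uniq L p.w1.max (((le_sup_left.trans le_sup_right).trans hn).trans h3) (hJ.trans h3))
  · intro P hP
    simp only [List.mem_cons, List.not_mem_nil, or_false] at hP
    rcases hP with rfl | rfl
    · exact side_2953 p.w1 p.B1 k1
    · exact side_2953 p.w2 B2 k2

end CfsgLib.H2JC
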