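import Cfsg.Agent.EqBase
import Cfsg.Agent.LibH2JD10
set_option autoImplicit false
set_option maxHeartbeats 400000
/-! J(T)-components, part 30: the asymmetric case.  Seat helper2. -/
namespace CfsgLib.H2JC
open Subgroup Cfsg CfsgLib.Coprime CfsgLib.Coprime2 CfsgLib.H2Misc CfsgLib.H2Thomp CfsgLib.Cores CfsgLib.H2FF
open CfsgLib.SolvCoprime (IsSylowIn)
open CfsgLib.SolvBasic (mem_conj_smul normalizer_conj_smul)
open CfsgLib.LE (pCoreOf_isPGroup pCoreOf_le le_pCoreOf normalizer_le_normalizer_pCoreOf le_normalizer_pCoreOf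
  pCoreOf_le_pCoreOf_of_normal)
open scoped Pointwise commutatorElement

universe u

variable {G : Type u} [Group G]

theorem comps_inj [Finite G] {T L K K' : Subgroup G} (B : Bs T L) {I : Type u} {A : I → Subgroup G} {i : I}
    (c' : Cp (Je 2 T) K') (c : Cp (Je 2 T) K) (h : CIn T L K (A i)) (h' : CIn T L K' (A i)) (hKL : K ≤ L) : K' ≤ K := by
  set R := pCoreOf 2 L with hR
  have hRK : R ≤ normalizer (K : Set G) := B.RC.trans h.CK
  have hKR : K ≤ normalizer ((K ⊔ R : Subgroup G) : Set G) := le_sup_left.trans le_normalizer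
  have hCR : Co L ≤ normalizer ((K ⊔ R : Subgroup G) : Set G) :=
    (le_inf h.CK ((Co_le L).trans B.LR)).trans (normalizer_inf_normalizer_le_normalizer_sup _ _)
  have h1 : ⁅Je 2 T, K ⊔ Co L⁆ ≤ K ⊔ R := by
    apply comm_sup_le hKR hCR
    · rw [commutator_comm, c.KJ]; exact le_sup_left
    · rw [commutator_comm]; exact B.CcJ.trans le_sup_right
  have h2 : K' ≤ K ⊔ R := by
    conv_lhs => rw [← c'.KJ]
    rw [commutator_comm]
    refine (commutator_mono le_rfl ?_).trans h1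
    rw [h.AK, ← h'.AK]
    exact le_sup_left
  have h3 := odd2_mono h2
  rwa [c'.odd, odd2_sup c.odd (pCoreOf_isPGroup 2 L) hRK] at h3

theorem comps_cen [Finite G] {T L K K' : Subgroup G} (B : Bs T L) (hK : K ∈ comps T L) (hK' : K' ∈ comps T L) (hne : K ≠ K') :
    K ≤ centralizer (wOf K' : Set G) := by
  obtain ⟨I, t, A, D⟩ := B.ls
  have c := cp_of B.syl.isPGroup hK.1
  have c' := cp_of B.syl.isPGroup hK'.1
  obtain ⟨i, hi, -⟩ := comp_in B D c hK.2
  obtain ⟨j, hj, -⟩ := comp_in B D c' hK'.2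
  by_cases hij : i = j
  · subst hij
    exact (hne (le_antisymm (comps_inj B c c' hj hi hK'.2) (comps_inj B c' c hi hj hK.2))).elim
  · rw [wOf_eq hK'.1 hj (D.cV j)]
    refine le_trans ?_ (D.cen i j hij)
    rw [← hi.AK]
    exact le_sup_left.trans le_sup_left

theorem unique_norm [Finite G] {T L K : Subgroup G} (B : Bs T L) (hK : K ∈ comps T L) (hu : ∀ K' ∈ comps T L, K' = K)
    (hJT : L ⊓ normalizer (Je 2 T : Set G) ≤ normalizer (T : Set G)) :
    L ≤ normalizer (K : Set G) ∧ (T ≤ normalizer (K : Set G) → L ≤ normalizer (pCoreOf 2 (K ⊔ T) : Set G)) := by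
  obtain ⟨I, t, A, D⟩ := B.ls
  obtain ⟨h1, h2, h3, h4⟩ := comp_F B hK
  have hN : L ⊓ normalizer (Je 2 T : Set G) ≤ normalizer (K : Set G) := by
    intro x hx
    exact mem_normalizer_of_conj_smul_eq (hu _ (comps_smul hx.1 hx.2 hK))
  have hLK : L ≤ normalizer (K : Set G) := D.frat.trans (sup_le h2 hN)
  refine ⟨hLK, fun hTK => ?_⟩
  have key : ∀ X : Subgroup G, X ≤ normalizer (K : Set G) → X ≤ normalizer (T : Set G) → X ≤ normalizer (pCoreOf 2 (K ⊔ T) : Set G) := by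
    intro X hX1 hX2
    exact ((le_inf hX1 hX2).trans (normalizer_inf_normalizer_le_normalizer_sup _ _)).trans (normalizer_le_normalizer_pCoreOf 2 _)
  have hP : K ⊔ T ≤ normalizer (pCoreOf 2 (K ⊔ T) : Set G) := le_normalizer_pCoreOf 2 _
  have hCo := key (Co L) h3 B.CT
  refine D.frat.trans (sup_le (D.genF.trans (sup_le hCo (iSup_le fun i => sup_le ?_ ?_))) (key _ hN hJT))
  · obtain ⟨Ki, hKi, hKiL, e⟩ := exists_comp B D i
    have : Ki = K := hu Ki ⟨hKi, hKiL⟩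
    subst this
    rw [← e]
    exact sup_le (le_sup_left.trans hP) hCo
  · rw [zpowers_le]
    exact hP (mem_sup_right (JQ_le _ _ (D.tJ i)))

theorem PK.mem_Q [Finite G] {T K P Q Z : Subgroup G} {w q : G} (k : PK T K P Q Z w) (c : Cp (Je 2 T) K) (hq : q ∈ T)
    (h : ∀ x ∈ K, ⁅x, q⁆ ∈ pCoreOf 2 K) : q ∈ Q := by
  by_contra hqQ
  have hTK : T ≤ normalizer (K : Set G) := k.pf.TP.trans k.PKn
  have hTO : T ≤ normalizer (pCoreOf 2 K : Set G) := hTK.trans (normalizer_le_normalizer_pCoreOf 2 K)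
  have h1 : Q ≤ cenMod K (pCoreOf 2 K) := (le_cenMod_iff (k.pf.QT.trans hTO)).mpr k.comK
  have h2 : q ∈ cenMod K (pCoreOf 2 K) := ⟨hTO hq, h⟩
  have h3 : T ≤ cenMod K (pCoreOf 2 K) := by
    intro t ht
    by_cases htQ : t ∈ Q
    · exact h1 htQ
    · have h4 := h1 (k.pf.mulQ ht hq htQ hqQ)
      have e : t = (t * q) * q⁻¹ := by group
      rw [e]
      exact mul_mem h4 (inv_mem h2)
  have h4 : ⁅K, Je 2 T⁆ ≤ pCoreOf 2 K := (le_cenMod_iff ((JQ_le _ _).trans hTO)).mp ((JQ_le _ _).trans h3)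
  rw [c.KJ] at h4
  exact c.not_two ((pCoreOf_isPGroup 2 K).to_le h4)

theorem half_mul {A B : Subgroup G} (h : A.relIndex B = 2) {x y : G} (hx : x ∈ B) (hy : y ∈ B) (hxA : x ∉ A) (hyA : y ∉ A) :
    x * y ∈ A := by
  have h1 : (A.subgroupOf B).index = 2 := h
  have h2 := Subgroup.mul_mem_iff_of_index_two h1 (a := ⟨x, hx⟩) (b := ⟨y, hy⟩)
  simp only [mem_subgroupOf, Subgroup.coe_mul] at h2
  exact h2.mpr ⟨fun h => absurd h hxA, fun h => absurd h hyA⟩

theorem relIndex_of_card [Finite G] {A B : Subgroup G} (hAB : A ≤ B) {n : ℕ} (h : Nat.card B = n * Nat.card A) : A.relIndex B = n := by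
  have h1 := card_mul_relIndex hAB
  have h2 : 0 < Nat.card A := Nat.card_pos
  rw [h, mul_comm n] at h1
  exact Nat.eq_of_mul_eq_mul_left h2 h1

theorem inf_card_le [Finite G] {Q Q' T : Subgroup G} (hQ : Q ≤ T) (h : Q'.relIndex T = 2) :
    Nat.card Q ≤ 2 * Nat.card ↥(Q ⊓ Q') ∧ (¬ Q ≤ Q' → Nat.card Q = 2 * Nat.card ↥(Q ⊓ Q')) := by
  have h2 : ¬ Q ≤ Q' → Nat.card Q = 2 * Nat.card ↥(Q ⊓ Q') := by
    intro hn
    obtain ⟨a, ha, ha'⟩ := Set.not_subset.mp hn
    have h1 : (Q ⊓ Q').relIndex Q = 2 := by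
      apply relIndex_two_of inf_le_left ha (fun h => ha' h.2)
      intro b hb
      by_cases hb' : b ∈ Q'
      · exact Or.inl ⟨hb, hb'⟩
      · refine Or.inr ⟨Q.mul_mem (Q.inv_mem ha) hb, half_mul h (T.inv_mem (hQ ha)) (hQ hb) (fun h => ha' ((inv_mem_iff).mp h)) hb'⟩
    have h3 := card_mul_relIndex (inf_le_left : Q ⊓ Q' ≤ Q)
    rw [h1] at h3
    omega
  refine ⟨?_, h2⟩
  by_cases hn : Q ≤ Q'
  · rw [inf_eq_left.mpr hn]; omega
  · exact (h2 hn).le

theorem PK.decX [Finite G] {T K P Q Z : Subgroup G} {w : G} (k : PK T K P Q Z w) (hK : IsJComponent T K)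
    (hZ : omegaCenterOf T = omegaCenterOf (Je 2 T)) {y : G} (hy : y ∈ Z) :
    ∃ a ∈ wOf K, ∃ x ∈ omegaCenterOf T ⊓ centralizer (K : Set G), y = a * x := by
  obtain ⟨-, c2, -, -⟩ := comp_card k.pf.T2 hK
  rw [← hZ] at c2
  rw [k.ZZ] at hy
  have hWT : wOf K ≤ T := ((wOf_le_omega K).trans (omega_le _)).trans (k.Oq.trans k.pf.QT)
  have hc : wOf K ≤ normalizer ((omegaCenterOf T ⊓ centralizer (K : Set G) : Subgroup G) : Set G) := by
    refine le_trans ?_ (centralizer_le_normalizer _)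
    rw [le_centralizer_iff]
    refine inf_le_left.trans ?_
    intro x hx
    exact centralizer_le (SetLike.coe_subset_coe.mpr hWT) (mem_omegaCenterOf.mp hx).2.1
  have h1 : wOf K ⊔ omegaCenterOf T ≤ wOf K ⊔ (omegaCenterOf T ⊓ centralizer (K : Set G)) := by
    apply sup_le le_sup_left
    refine c2.le.trans ?_
    exact sup_le le_sup_right (inf_le_left.trans le_sup_left)
  obtain ⟨a, ha, x, hx, rfl⟩ := (mem_sup_right_norm hc).mp (h1 hy)
  exact ⟨a, ha, x, hx, rfl⟩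

/-- two involutions of `Z_0` centralized by `K` agree -/
theorem PK.X_eq [Finite G] {T K P Q Z : Subgroup G} {w : G} (k : PK T K P Q Z w) (h4 : Nat.card (omegaCenterOf T) ≤ 4) {a b : G}
    (ha : a ∈ omegaCenterOf T) (haK : K ≤ centralizer ({a} : Set G)) (ha1 : a ≠ 1)
    (hb : b ∈ omegaCenterOf T) (hbK : K ≤ centralizer ({b} : Set G)) (hb1 : b ≠ 1) : a = b := by
  have cen : ∀ x : G, K ≤ centralizer ({x} : Set G) → x ∈ centralizer (K : Set G) := by
    intro x hx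
    exact mem_centralizer_iff.mpr fun y hy => mem_centralizer_singleton_iff.mp (hx hy)
  have h1 : a ∈ omegaCenterOf T ⊓ centralizer (K : Set G) := ⟨ha, cen a haK⟩
  have h2 : b ∈ omegaCenterOf T ⊓ centralizer (K : Set G) := ⟨hb, cen b hbK⟩
  have h3 := k.cX
  have h5 : Nat.card ↥(omegaCenterOf T ⊓ centralizer (K : Set G)) ≠ 1 := by
    intro h
    rw [card_eq_one.mp h, mem_bot] at h1
    exact ha1 h1
  have h6 : 0 < Nat.card ↥(omegaCenterOf T ⊓ centralizer (K : Set G)) := Nat.card_pos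
  exact two_eq (by omega) h1 h2 ha1 hb1

theorem PK.w_not [Finite G] {T K P Q Z : Subgroup G} {w : G} (k : PK T K P Q Z w) : ¬ K ≤ centralizer ({w} : Set G) := by
  intro h
  apply k.pf.wP
  rw [k.gen]
  exact sup_le h (mem_cen_sing k.pf.wT)

end CfsgLib.H2JC
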