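import Cfsg.Agent.EqBase
import Cfsg.Agent.LibH2JD11
set_option autoImplicit false
set_option maxHeartbeats 400000
/-! J(T)-components, part 31: the asymmetric case, continued.  Seat helper2. -/
namespace CfsgLib.H2JC
open Subgroup Cfsg CfsgLib.Coprime CfsgLib.Coprime2 CfsgLib.H2Misc CfsgLib.H2Thomp CfsgLib.Cores CfsgLib.H2FF
open CfsgLib.SolvCoprime (IsSylowIn)
open CfsgLib.SolvBasic (mem_conj_smul normalizer_conj_smul)
open CfsgLib.LE (pCoreOf_isPGroup pCoreOf_le le_pCoreOf normalizer_le_normalizer_pCoreOf le_normalizer_pCoreOf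
  pCoreOf_le_pCoreOf_of_normal)
open scoped Pointwise commutatorElement

universe u

variable {G : Type u} [Group G]

/-- first step: an element of `Z2` centralized by `K1` and conjugate to an element of `Z_0` -/
theorem asym1 [Finite G] {S K1 L1 K2 L2 : Subgroup G} (p : Pr S S K1 L1 K2 L2) {w1 w2 : G} {Q1 Z1 Q2 Z2 : Subgroup G}
    (k1 : PK S K1 (K1 ⊔ S) Q1 Z1 w1) (k2 : PK S K2 (K2 ⊔ S) Q2 Z2 w2)
    (h12 : Z1 ≤ Q2) (h21 : Z2 ≤ Q1) (hN : K1 ⊔ S ≤ normalizer ((Z1 ⊔ Z2 : Subgroup G) : Set G))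
    (hc : K1 ⊔ S ≤ centralizer ({w2} : Set G)) (hQ : ¬ Q2 ≤ Q1) (hZ21 : ¬ Z2 ≤ Z1) :
    ∃ x ∈ omegaCenterOf S, x ≠ 1 ∧ K2 ≤ centralizer ({x} : Set G) ∧ ∃ k ∈ K2, K1 ≤ centralizer ({k * (w2 * x) * k⁻¹} : Set G) := by
  have hT2 := k1.pf.T2
  have c1 := cp_of hT2 p.w1.comp
  have c2 := cp_of hT2 p.w2.comp
  have D1 := kd hT2 p.w1.comp
  have D2 := kd hT2 p.w2.comp
  have hTZ := p.TZ.1
  have ZS1 : omegaCenterOf S ≤ Z1 := by rw [k1.ZZ]; exact le_sup_right
  have ZS2 : omegaCenterOf S ≤ Z2 := by rw [k2.ZZ]; exact le_sup_right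
  have W1Z : wOf K1 ≤ Z1 := by rw [k1.ZZ]; exact le_sup_left
  have hKP : K1 ≤ K1 ⊔ S := le_sup_left
  have hSP : S ≤ K1 ⊔ S := le_sup_right
  have hK1n : K1 ≤ normalizer (wOf K1 : Set G) := le_normalizer.trans (wOf_normalizer K1)
  have sq1 : ∀ x ∈ Z1, x * x = 1 := fun x hx => by have := k1.pf.el.2 x hx; rwa [pow_two] at this
  have sq2 : ∀ x ∈ Z2, x * x = 1 := fun x hx => by have := k2.pf.el.2 x hx; rwa [pow_two] at this
  obtain ⟨z, hz, hz1⟩ := Set.not_subset.mp hZ21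
  have hz1' : z ∉ Z1 := hz1
  have hzz := sq2 z hz
  have hVel : IsElementaryAbelian 2 (Z1 ⊔ Z2 : Subgroup G) := ea_sup k1.pf.el k2.pf.el (h12.trans k2.pf.QC)
  have hZS2 : (omegaCenterOf S).relIndex Z2 = 2 := relIndex_of_card ZS2 k2.cZ
  have hzS : z ∉ omegaCenterOf S := fun h => hz1' (ZS1 h)
  -- decomposition of V
  have decV : ∀ v ∈ Z1 ⊔ Z2, v ∈ Z1 ∨ ∃ y ∈ Z1, v = y * z := by
    intro v hv
    have h1 : Z1 ≤ normalizer (Z2 : Set G) := (h12.trans k2.pf.QT).trans (k2.pf.TP.trans k2.pf.PZ)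
    obtain ⟨y, hy, y', hy', rfl⟩ := (mem_sup_right_norm h1).mp hv
    by_cases h2 : y' ∈ omegaCenterOf S
    · exact Or.inl (Z1.mul_mem hy (ZS1 h2))
    · right
      have h3 := half_mul hZS2 hy' hz h2 hzS
      exact ⟨y * (y' * z), Z1.mul_mem hy (ZS1 h3), by rw [mul_assoc, mul_assoc, hzz, mul_one]⟩
  have idxV : Z1.relIndex (Z1 ⊔ Z2) = 2 := by
    apply relIndex_two_of le_sup_left (mem_sup_right hz) hz1'
    intro b hb
    rcases decV b hb with h | ⟨y, hy, rfl⟩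
    · exact Or.inl h
    · right
      have e : z⁻¹ * (y * z) = y := by
        rw [ea_comm hVel (mem_sup_left hy) (mem_sup_right hz)]; group
      rw [e]; exact hy
  -- ⁅Z1, K1⁆ ≤ W1
  have hZ1K : ∀ y ∈ Z1, ∀ g ∈ K1, ⁅y, g⁆ ∈ wOf K1 := by
    intro y hy g hg
    obtain ⟨a, ha, x, hx, rfl⟩ := k1.decX p.w1.comp hTZ hy
    have h1 : x * g = g * x := (mem_centralizer_iff.mp hx.2 g hg).symm
    have e : ⁅a * x, g⁆ = a * ⁅x, g⁆ * a⁻¹ * ⁅a, g⁆ := by simp only [commutatorElement_def]; group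
    rw [e, commutatorElement_eq_one_iff_mul_comm.mpr h1, mul_one, mul_inv_cancel, one_mul]
    exact commutator_le_of_le_normalizer hK1n (commutator_mem_commutator ha hg)
  -- ⁅z, K1⁆ ≤ Z1
  have hzK : ∀ g ∈ K1, ⁅z, g⁆ ∈ Z1 := by
    intro g hg
    have h1 : g * z⁻¹ * g⁻¹ ∈ Z1 ⊔ Z2 := (mem_normalizer_iff.mp (hN (hKP hg)) _).mp (inv_mem (mem_sup_right hz))
    have h2 : g * z⁻¹ * g⁻¹ ∉ Z1 := by
      intro h
      apply hz1'
      have := (mem_normalizer_iff.mp (k1.pf.PZ (hKP hg)) (z⁻¹)).mpr h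
      exact (inv_mem_iff).mp this
    have e : ⁅z, g⁆ = z * (g * z⁻¹ * g⁻¹) := by simp only [commutatorElement_def]; group
    rw [e]
    exact half_mul idxV (mem_sup_right hz) h1 hz1' h2
  have hK1cm : K1 ≤ cm {z} (wOf K1) := by
    conv_lhs => rw [← c1.odd]
    rw [odd2, closure_le]
    rintro g ⟨hg, hgo⟩
    apply mem_of_pow_two_pow (n := 1) hgo
    have hgN := hK1n hg
    refine ⟨pow_mem hgN _, ?_⟩
    intro v hv
    have hv' : v = z := hv
    rw [hv', pow_one, pow_two]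
    set a := ⁅z, g⁆ with ha
    have haZ : a ∈ Z1 := hzK g hg
    have e : ⁅z, g * g⁆ = (a * a) * ⁅a⁻¹, g⁆ := by rw [ha]; simp only [commutatorElement_def]; group
    rw [e, sq1 a haZ, one_mul]
    exact hZ1K _ (Z1.inv_mem haZ) g hg
  have hzW : ∀ g ∈ K1, ⁅z, g⁆ ∈ wOf K1 := fun g hg => (hK1cm hg).2 z rfl
  have hw2K : w2 ∈ centralizer (K1 : Set G) := by
    refine mem_centralizer_iff.mpr fun y hy => ?_
    exact mem_centralizer_singleton_iff.mp (hc (hKP hy))
  have hw2W1 : w2 ∉ wOf K1 := by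
    intro h
    have : w2 ∈ wOf K1 ⊓ centralizer (K1 : Set G) := ⟨h, hw2K⟩
    rw [D1.C0, mem_bot] at this
    exact k2.pf.w1 this
  have hOV : pCoreOf 2 K1 ≤ centralizer ((Z1 ⊔ Z2 : Subgroup G) : Set G) := by
    intro o ho
    have hoQ : o ∈ Q1 := k1.Oq ho
    have h1 : z * o = o * z := by
      rcases k2.pf.com z hz o (k1.pf.QT hoQ) with h | h
      · exact commutatorElement_eq_one_iff_mul_comm.mp h
      · exact absurd (h ▸ hzW o (pCoreOf_le 2 K1 ho)) hw2W1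
    refine mem_centralizer_iff.mpr fun v hv => ?_
    have h2 : ∀ y ∈ Z1, y * o = o * y := fun y hy => mem_centralizer_iff.mp (k1.pf.QC hoQ) y hy
    rcases decV v hv with h | ⟨y, hy, rfl⟩
    · exact h2 v h
    · rw [mul_assoc, h1, ← mul_assoc, h2 y hy, mul_assoc]
  have hK1V : K1 ≤ normalizer ((Z1 ⊔ Z2 : Subgroup G) : Set G) := hKP.trans hN
  obtain ⟨-, d2⟩ := c1.decomp hVel hK1V hOV
  have hVK : ⁅(Z1 ⊔ Z2 : Subgroup G), K1⁆ ≤ wOf K1 := by
    rw [commutator_le]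
    intro v hv g hg
    rcases decV v hv with h | ⟨y, hy, rfl⟩
    · exact hZ1K v h g hg
    · have e : ⁅y * z, g⁆ = y * ⁅z, g⁆ * y⁻¹ * ⁅y, g⁆ := by simp only [commutatorElement_def]; group
      rw [e]
      have h3 := ea_comm k1.pf.el hy (W1Z (hzW g hg))
      rw [h3, mul_inv_cancel_right]
      exact mul_mem (hzW g hg) (hZ1K y hy g hg)
  -- the element u
  obtain ⟨u, hu, huK, huZ1⟩ : ∃ u ∈ Z1 ⊔ Z2, u ∈ centralizer (K1 : Set G) ∧ u ∉ Z1 := by
    have h1 : z ∈ ⁅(Z1 ⊔ Z2 : Subgroup G), K1⁆ ⊔ ((Z1 ⊔ Z2) ⊓ centralizer (K1 : Set G)) := by rw [sup_comm, d2]; exact mem_sup_right hz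
    have h2 : ⁅(Z1 ⊔ Z2 : Subgroup G), K1⁆ ≤ normalizer (((Z1 ⊔ Z2) ⊓ centralizer (K1 : Set G) : Subgroup G) : Set G) := by
      refine le_trans ?_ (centralizer_le_normalizer _)
      intro x hx
      refine mem_centralizer_iff.mpr fun y hy => ?_
      exact ea_comm hVel hy.1 (mem_sup_left (W1Z (hVK hx)))
    obtain ⟨a, ha, b, hb, hab⟩ := (mem_sup_right_norm h2).mp h1
    refine ⟨b, hb.1, hb.2, fun h => hz1' ?_⟩
    rw [← hab]
    exact Z1.mul_mem (W1Z (hVK ha)) h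
  -- u ∈ Z2
  have hw1K : w1 ∉ centralizer (K1 : Set G) := fun h => k1.w_not (mem_cen_sing h)
  have huZ2 : u ∈ Z2 := by
    have h1 : Z1 ≤ normalizer (Z2 : Set G) := (h12.trans k2.pf.QT).trans (k2.pf.TP.trans k2.pf.PZ)
    obtain ⟨y, hy, y', hy', rfl⟩ := (mem_sup_right_norm h1).mp hu
    have hyQ2 : ∀ q ∈ Q2, y * q = q * y := by
      intro q hq
      have hqS := k2.pf.QT hq
      have h2 : y' * q = q * y' := mem_centralizer_iff.mp (k2.pf.QC hq) y' hy'
      have e : ⁅y * y', q⁆ = y * ⁅y', q⁆ * y⁻¹ * ⁅y, q⁆ := by simp only [commutatorElement_def]; group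
      rw [commutatorElement_eq_one_iff_mul_comm.mpr h2, mul_one, mul_inv_cancel, one_mul] at e
      have h3 : ⁅y * y', q⁆ ∈ centralizer (K1 : Set G) := by
        have e2 : ⁅y * y', q⁆ = (y * y') * (q * (y * y')⁻¹ * q⁻¹) := by simp only [commutatorElement_def]; group
        rw [e2]
        exact mul_mem huK ((mem_normalizer_iff.mp (le_normalizer_cen (hSP.trans k1.PKn) hqS) _).mp (inv_mem huK))
      rcases k1.pf.com y hy q hqS with h | h
      · exact commutatorElement_eq_one_iff_mul_comm.mp h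
      · rw [e, h] at h3
        exact absurd h3 hw1K
    obtain ⟨q0, hq0, hq0'⟩ := Set.not_subset.mp hQ
    have hyS : y ∈ omegaCenterOf S := by
      refine mem_omegaCenterOf.mpr ⟨k1.pf.QT (k1.pf.ZQ hy), mem_centralizer_iff.mpr fun s hs => ?_, by rw [pow_two]; exact sq1 y hy⟩
      have hyQ1 : ∀ q ∈ Q1, y * q = q * y := fun q hq => mem_centralizer_iff.mp (k1.pf.QC hq) y hy
      by_cases hs1 : s ∈ Q1
      · exact (hyQ1 s hs1).symm
      · have h4 := k1.pf.mulQ hs (k2.pf.QT hq0) hs1 hq0'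
        have h5 := hyQ1 _ h4
        have h6 := hyQ2 _ (Q2.inv_mem hq0)
        have e : s = (s * q0) * q0⁻¹ := by group
        calc s * y = (s * q0) * (q0⁻¹ * y) := by group
          _ = (s * q0) * y * q0⁻¹ := by rw [← h6]; group
          _ = y * s := by rw [← h5]; group
    exact Z2.mul_mem (ZS2 hyS) hy'
  -- decompose u
  obtain ⟨a, ha, x, hx, hax⟩ := k2.decX p.w2.comp hTZ huZ2
  have hu1 : u ≠ 1 := fun h => huZ1 (h ▸ one_mem _)
  have huw2 : u ≠ w2 := fun h => huZ1 (h ▸ ZS1 k2.wZ0)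
  have ha1 : a ≠ 1 := by
    rintro rfl
    rw [one_mul] at hax
    exact huZ1 (hax ▸ ZS1 hx.1)
  have hx1 : x ≠ 1 := by
    rintro rfl
    rw [mul_one] at hax
    have huW : u ∈ wOf K2 := hax ▸ ha
    have hKW : K1 ≤ centralizer (wOf K2 : Set G) := by
      intro g hg
      refine mem_centralizer_iff.mpr fun v hv => ?_
      have e1 : u * g = g * u := (mem_centralizer_iff.mp huK g hg).symm
      have e2 : w2 * g = g * w2 := (mem_centralizer_iff.mp hw2K g hg).symm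
      rcases four_cases D2.cW D2.el huW k2.wW hu1 k2.pf.w1 huw2 hv with h | h | h | h
      · rw [h, one_mul, mul_one]
      · rw [h, e1]
      · rw [h, e2]
      · rw [h, mul_assoc, e2, ← mul_assoc, e1, mul_assoc]
    have h2 := p.w2.le_of (wOf_two p.w2.comp) (wOf_ne p.w2.comp) (le_normalizer.trans (wOf_normalizer K2)) (c2.Jn.trans (wOf_normalizer K2))
    exact p.ne (p.w1.uniq L2 p.w2.max ((hKW.trans (centralizer_le_normalizer _)).trans h2) p.w2.JL).symm
  obtain ⟨k, hk, hkw⟩ := W_trans D2 k2.wW ha k2.pf.w1 ha1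
  refine ⟨x, hx.1, hx1, mem_cen_sing hx.2, k, hk, ?_⟩
  have hkx : k * x = x * k := mem_centralizer_iff.mp hx.2 k hk
  have e : k * (w2 * x) * k⁻¹ = u := by
    calc k * (w2 * x) * k⁻¹ = (k * w2 * k⁻¹) * (k * x) * k⁻¹ := by group
      _ = a * x := by rw [hkw, hkx]; group
      _ = u := hax.symm
  rw [e]
  exact mem_cen_sing huK

/-- the asymmetric case is impossible -/
theorem asym_false [Finite G] {S K1 L1 K2 L2 : Subgroup G} (g : Gl S (normalizer (Je 2 S : Set G)))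
    (hS : S ∈ maxStraddlingTwoSubgroups (normalizer (Je 2 S : Set G)))
    (p : Pr S S K1 L1 K2 L2) (B2 : Bs S L2) {w1 w2 : G}
    (k1 : PK S K1 (K1 ⊔ S) (pCoreOf 2 (K1 ⊔ S)) (wOf K1 ⊔ omegaCenterOf S) w1)
    (k2 : PK S K2 (K2 ⊔ S) (pCoreOf 2 (K2 ⊔ S)) (wOf K2 ⊔ omegaCenterOf S) w2)
    (h12 : wOf K1 ⊔ omegaCenterOf S ≤ pCoreOf 2 (K2 ⊔ S)) (h21 : wOf K2 ⊔ omegaCenterOf S ≤ pCoreOf 2 (K1 ⊔ S))
    (hN : K1 ⊔ S ≤ normalizer (((wOf K1 ⊔ omegaCenterOf S) ⊔ (wOf K2 ⊔ omegaCenterOf S) : Subgroup G) : Set G))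
    (hc : K1 ⊔ S ≤ centralizer ({w2} : Set G)) : False := by
  haveI : Fact (Nat.Prime 2) := ⟨Nat.prime_two⟩
  have hT2 := k1.pf.T2
  have hTZ := p.TZ.1
  have c4 := p.c4
  have c1 := cp_of hT2 p.w1.comp
  have c2 := cp_of hT2 p.w2.comp
  set Q1 := pCoreOf 2 (K1 ⊔ S) with hQ1
  set Q2 := pCoreOf 2 (K2 ⊔ S) with hQ2
  set Z1 := wOf K1 ⊔ omegaCenterOf S with hZ1
  set Z2 := wOf K2 ⊔ omegaCenterOf S with hZ2
  have am := p.am k1 k2
  have hQ21 : ¬ Q2 ≤ Q1 := am.Q_ne false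
  have hQ12 : ¬ Q1 ≤ Q2 := am.Q_ne true
  have hcZ : Nat.card Z1 = Nat.card Z2 := by rw [k1.cZ, k2.cZ]
  have hZ21 : ¬ Z2 ≤ Z1 := by
    intro h
    have h1 : Z2 = Z1 := eq_of_le_of_card_ge h (by rw [hcZ])
    have h2 : Z1 = ⊥ := p.O1' Z1 (k1.pf.ZQ.trans k1.pf.QT) k1.pf.PZ (by rw [← h1]; exact k2.pf.PZ)
    apply k1.pf.w1
    have := k1.pf.wZ
    rwa [h2, mem_bot] at this
  obtain ⟨x, hx, hx1, hxK, k, hk, huK⟩ := asym1 p k1 k2 h12 h21 hN hc hQ21 hZ21
  set x3 := w2 * x with hx3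
  have hw2Z : w2 ∈ omegaCenterOf S := k2.wZ0
  have hw2K : K1 ≤ centralizer ({w2} : Set G) := le_sup_left.trans hc
  have hx3Z : x3 ∈ omegaCenterOf S := mul_mem hw2Z hx
  have hel := omegaCenterOf_el S
  have hxw : w2 ≠ x := by
    rintro rfl
    exact k2.w_not hxK
  have hx31 : x3 ≠ 1 := by
    intro h
    apply hxw
    have h1 : w2⁻¹ = x := (eq_inv_of_mul_eq_one_right h).symm
    rw [← h1, k2.pf.inv_w]
  have hx33 : x3 * x3 = 1 := by have := hel.2 x3 hx3Z; rwa [pow_two] at this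
  have hxx : x * x = 1 := by have := hel.2 x hx; rwa [pow_two] at this
  have hSx3 : S ≤ centralizer ({x3} : Set G) := mem_cen_sing (mem_omegaCenterOf.mp hx3Z).2.1
  have hx3K2 : ¬ K2 ≤ centralizer ({x3} : Set G) := by
    intro h
    apply k2.w_not
    intro y hy
    have h1 := mem_centralizer_singleton_iff.mp (h hy)
    have h2 := mem_centralizer_singleton_iff.mp (hxK hy)
    rw [mem_centralizer_singleton_iff]
    have e : w2 = x3 * x := by rw [hx3, mul_assoc, hxx, mul_one]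
    calc y * w2 = (y * x3) * x := by rw [e]; group
      _ = x3 * (y * x) := by rw [h1]; group
      _ = w2 * y := by rw [h2, e]; group
  have hx3K1 : ¬ K1 ≤ centralizer ({x3} : Set G) := by
    intro h
    have h1 := k1.X_eq c4 hw2Z hw2K k2.pf.w1 hx3Z h hx31
    apply hx1
    rw [hx3] at h1
    simpa using h1
  -- the subgroup C
  set C := centralizer ({x3} : Set G) with hC
  have hCe : C = centralizer ((zpowers x3 : Subgroup G) : Set G) := by
    rw [hC, zpowers_eq_closure, centralizer_closure]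
  have hz2 : IsPGroup 2 (zpowers x3) := by
    apply IsPGroup.of_card (n := 1)
    rw [Nat.card_zpowers, pow_one]
    exact orderOf_eq_prime (by rw [pow_two]; exact hx33) hx31
  have hCl : IsTwoLocal C := by
    refine ⟨zpowers x3, hz2, by rwa [Ne, zpowers_eq_bot], ?_⟩
    apply le_antisymm
    · rw [hCe]; exact centralizer_le_normalizer _
    · have h1 : Nat.card (zpowers x3) ≤ 2 := by
        rw [Nat.card_zpowers]
        exact (orderOf_eq_prime (by rw [pow_two]; exact hx33) hx31).le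
      rw [hCe]
      exact cen_of_card_two h1 le_rfl
  -- K1 normalizes conjugates
  have hkC : ∀ y ∈ K1, k⁻¹ * y * k ∈ C := by
    intro y hy
    have h1 := mem_centralizer_singleton_iff.mp (huK hy)
    rw [hC, mem_centralizer_singleton_iff]
    have := congrArg (fun v => k⁻¹ * v * k) h1
    simpa [mul_assoc] using this
  have hkP : k ∈ K2 ⊔ S := mem_sup_left hk
  have trans : ∀ Y : Subgroup G, IsPGroup 2 Y → C ≤ normalizer (Y : Set G) → ∀ q ∈ Q2, q ∈ MulAut.conj k • Y → q ∈ Q1 := by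
    intro Y hY2 hCY q hq hqY
    have hqS := k2.pf.QT hq
    have hYn : K1 ≤ normalizer ((MulAut.conj k • Y : Subgroup G) : Set G) := by
      intro y hy
      rw [normalizer_conj_smul, mem_conj_smul]
      exact hCY (hkC y hy)
    have hY2' : IsPGroup 2 (MulAut.conj k • Y : Subgroup G) := hY2.of_equiv (Subgroup.equivSMul (MulAut.conj k) Y)
    have h1 : K1 ⊓ MulAut.conj k • Y ≤ pCoreOf 2 K1 :=
      le_pCoreOf inf_le_left (le_nor_inf le_normalizer hYn) (hY2'.to_le inf_le_right)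
    apply k1.mem_Q c1 hqS
    intro y hy
    apply h1
    constructor
    · have e : ⁅y, q⁆ = y * (q * y⁻¹ * q⁻¹) := by simp only [commutatorElement_def]; group
      rw [e]
      exact K1.mul_mem hy ((mem_normalizer_iff.mp (k1.PKn (k1.pf.TP hqS)) _).mp (K1.inv_mem hy))
    · have e : ⁅y, q⁆ = (y * q * y⁻¹) * q⁻¹ := by simp only [commutatorElement_def]
      rw [e]
      exact Subgroup.mul_mem _ ((mem_normalizer_iff.mp (hYn hy) q).mp hqY) (Subgroup.inv_mem _ hqY)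
  have hNJS : normalizer (Je 2 S : Set G) ≤ normalizer (S : Set G) := by
    obtain ⟨P, hP⟩ := p.syl
    have h1 := norm_Z p.hyp P
    rw [hP, hTZ] at h1
    exact ((normalizer_le_center _).trans (omegaOne_normalizer 2 _)).trans h1
  have hCN : ¬ C ≤ normalizer (Je 2 S : Set G) := by
    intro h
    obtain ⟨q, hq, hq'⟩ := Set.not_subset.mp hQ21
    apply hq'
    apply trans S hT2 (h.trans hNJS) q hq
    rw [mem_conj_smul]
    apply k2.pf.QT
    have := (mem_normalizer_iff.mp (inv_mem (k2.pf.PQ hkP)) _).mp hq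
    rwa [inv_inv] at this
  obtain ⟨h3, h4⟩ := part4 g hS hCl hCN hSx3
  have BC := bs p.hyp hS.1.2.1 h3 h4.2.2
  obtain ⟨I, t, A, D⟩ := BC.ls
  obtain ⟨K3, hK3, hK3C, hK3N⟩ : ∃ K3, IsJComponent S K3 ∧ K3 ≤ C ∧ ¬ K3 ≤ normalizer (Je 2 S : Set G) := by
    by_contra hcon
    push Not at hcon
    exact hCN (L_le_of BC D le_rfl hcon)
  obtain ⟨L3, hL3, hCL3⟩ := exists_maxTwoLocal hCl
  have hL3N : ¬ L3 ≤ normalizer (Je 2 S : Set G) := fun h => hCN (hCL3.trans h)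
  have hSL3 : S ≤ L3 := hSx3.trans hCL3
  obtain ⟨h5, h6⟩ := part4 g hS hL3.1 hL3N hSL3
  have B3 := bs p.hyp hS.1.2.1 h5 h6.2.2
  have hJL3 : Je 2 S ≤ L3 := (JQ_le _ _).trans hSL3
  have hnotM : ∀ X : Subgroup G, IsJComponent S X → ¬ X ≤ normalizer (Je 2 S : Set G) := fun X hX h =>
    (cp_of hT2 hX).false_of (hT2.to_le (JQ_le _ _)) h le_rfl
  have pw3 : Pw S K3 L3 := ⟨hK3, hL3, hK3C.trans hCL3, hJL3, fun L' ha hb hc =>
    unique_max g hS hK3 hK3N hL3 (hK3C.trans hCL3) hJL3 ha hb hc⟩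
  obtain ⟨w3, k3⟩ := pk pw3 B3 hTZ
  have hK3L3 : K3 ∈ comps S L3 := ⟨hK3, pw3.KL⟩
  -- L3 ≠ L2
  have ne2 : L3 ≠ L2 := by
    rintro rfl
    have hne : K3 ≠ K2 := by
      rintro rfl
      exact hx3K2 hK3C
    have h7 := comps_cen B3 hK3L3 (K' := K2) ⟨p.w2.comp, p.w2.KL⟩ hne
    have h8 : K3 ≤ centralizer ({w2} : Set G) := by
      intro y hy
      rw [mem_centralizer_singleton_iff]
      exact (mem_centralizer_iff.mp (h7 hy) w2 k2.wW).symm
    have h9 := k3.X_eq c4 hw2Z h8 k2.pf.w1 hx3Z hK3C hx31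
    apply hx1
    rw [hx3] at h9
    simpa using h9
  -- L3 ≠ L1
  have ne1 : L3 ≠ L1 := by
    rintro rfl
    have hne : K1 ≠ K3 := by
      rintro rfl
      exact hx3K1 hK3C
    have h7 := comps_cen B3 (K := K1) (K' := K3) ⟨p.w1.comp, p.w1.KL⟩ hK3L3 hne
    have h8 : K1 ≤ centralizer ({w3} : Set G) := by
      intro y hy
      rw [mem_centralizer_singleton_iff]
      exact (mem_centralizer_iff.mp (h7 hy) w3 k3.wW).symm
    have h9 : w3 = w2 := k1.X_eq c4 k3.wZ0 h8 k3.pf.w1 hw2Z hw2K k2.pf.w1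
    have p' : Pr S S K3 L3 K2 L2 := ⟨p.hyp, p.syl, p.TS, pw3, B3, p.w2, p.ne⟩
    have am' := p'.am k3 k2
    have hQ2ne : Q2 ≠ Z2 := by
      intro h
      apply hZ21
      have h10 : Z1 ≤ Z2 := by rw [← h]; exact h12
      exact (eq_of_le_of_card_ge h10 (by rw [hcZ])).ge
    rcases am'.final c4 (by intro i; cases i <;> exact le_sup_right) with ⟨i, hi⟩ | ⟨-, i, -, hi⟩
    · cases i
      · exact hQ2ne (b1 k2.pf k3.pf (fun R hR ha hb => p'.O1' R hR hb ha) le_sup_right le_sup_right hi).QZ1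
      · exact hQ2ne (b1 k3.pf k2.pf p'.O1' le_sup_right le_sup_right hi).QZ2
    · cases i
      · have h10 : K2 ⊔ S ≤ centralizer ({w3} : Set G) := hi
        rw [h9] at h10
        exact k2.pf.wP h10
      · have h10 : K3 ⊔ S ≤ centralizer ({w2} : Set G) := hi
        have h11 := k3.X_eq c4 hw2Z (le_sup_left.trans h10) k2.pf.w1 hx3Z hK3C hx31
        apply hx1
        rw [hx3] at h11
        simpa using h11
  -- K3 is the unique component
  have huniq : ∀ K' ∈ comps S L3, K' = K3 := by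
    intro K' hK'
    by_contra hne
    have h7 := comps_cen B3 hK' hK3L3 hne
    have h8 : K' ≤ centralizer ({w3} : Set G) := by
      intro y hy
      rw [mem_centralizer_singleton_iff]
      exact (mem_centralizer_iff.mp (h7 hy) w3 k3.wW).symm
    have hw3x : w3 ≠ x3 := by
      rintro h
      exact k3.w_not (h ▸ hK3C)
    have hu3 : ∀ L' : Subgroup G, IsMaximalTwoLocal L' → K' ≤ L' → Je 2 S ≤ L' → L' = L3 := fun L' ha hb hc =>
      unique_max g hS hK'.1 (hnotM K' hK'.1) hL3 hK'.2 hJL3 ha hb hc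
    have hcard : Nat.card (omegaCenterOf S) = 4 := by
      have h9 := k1.cX
      have h10 : Nat.card ↥(omegaCenterOf S ⊓ centralizer (K1 : Set G)) ≠ 1 := by
        intro h
        have h11 : w2 ∈ omegaCenterOf S ⊓ centralizer (K1 : Set G) :=
          ⟨hw2Z, mem_centralizer_iff.mpr fun y hy => mem_centralizer_singleton_iff.mp (hw2K hy)⟩
        rw [card_eq_one.mp h, mem_bot] at h11
        exact k2.pf.w1 h11
      have h11 : 0 < Nat.card ↥(omegaCenterOf S ⊓ centralizer (K1 : Set G)) := Nat.card_pos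
      omega
    have hJc : ∀ y ∈ omegaCenterOf S, Je 2 S ≤ centralizer ({y} : Set G) := fun y hy =>
      (JQ_le _ _).trans (mem_cen_sing (mem_omegaCenterOf.mp hy).2.1)
    rcases four_cases hcard hel hw2Z hx k2.pf.w1 hx1 hxw k3.wZ0 with h | h | h | h
    · exact k3.pf.w1 h
    · rw [h] at h8
      have h9 := p.w1.cen_le k2.pf.w2 k2.pf.w1 hw2K (hJc w2 hw2Z)
      exact ne1 (hu3 L1 p.w1.max (h8.trans h9) p.w1.JL).symm
    · rw [h] at h8
      have h9 := p.w2.cen_le hxx hx1 hxK (hJc x hx)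
      exact ne2 (hu3 L2 p.w2.max (h8.trans h9) p.w2.JL).symm
    · exact hw3x h
  obtain ⟨-, hQ3n⟩ := unique_norm B3 hK3L3 huniq (inf_le_right.trans hNJS)
  have hL3Q := hQ3n (k3.pf.TP.trans k3.PKn)
  set Q3 := pCoreOf 2 (K3 ⊔ S) with hQ3
  -- final
  set E := Q2 ⊓ Q3 with hE
  set DD := Q1 ⊓ Q2 with hDD
  have hEle : MulAut.conj k • E ≤ DD := by
    intro y hy
    have hyE : k⁻¹ * y * k ∈ E := by rw [mem_conj_smul] at hy; exact hy
    have hyQ2 : y ∈ Q2 := by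
      have := (mem_normalizer_iff.mp (k2.pf.PQ hkP) _).mp hyE.1
      have e : k * (k⁻¹ * y * k) * k⁻¹ = y := by group
      rwa [e] at this
    refine ⟨?_, hyQ2⟩
    apply trans Q3 (pCoreOf_isPGroup 2 _) (hCL3.trans hL3Q) y hyQ2
    rw [mem_conj_smul]; exact hyE.2
  have hcE := (inf_card_le k2.pf.QT k3.pf.i2).1
  have hcD := (inf_card_le k2.pf.QT k1.pf.i2).2 hQ21
  rw [inf_comm] at hcD
  have hEeq : MulAut.conj k • E = DD := by
    apply eq_of_le_of_card_ge hEle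
    rw [card_conj_smul]
    have h7 : Nat.card Q2 ≤ 2 * Nat.card E := hcE
    have h8 : Nat.card Q2 = 2 * Nat.card DD := hcD
    omega
  have hSE : S ≤ normalizer (E : Set G) := le_nor_inf (k2.pf.TP.trans k2.pf.PQ) (k3.pf.TP.trans k3.pf.PQ)
  have hSD : S ≤ normalizer (DD : Set G) := le_nor_inf (k1.pf.TP.trans k1.pf.PQ) (k2.pf.TP.trans k2.pf.PQ)
  have hkS : ¬ MulAut.conj k • S ≤ S := by
    intro h
    have h7 : MulAut.conj k • S = S := eq_of_le_of_card_ge h (by rw [card_conj_smul])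
    have h8 := mem_normalizer_of_conj_smul_eq h7
    by_cases hkT : k ∈ S
    · apply hx3K1
      have h9 : k * x3 = x3 * k := mem_centralizer_singleton_iff.mp (hSx3 hkT)
      rw [h9, mul_inv_cancel_right] at huK
      exact huK
    · exact k2.pf.nT (k2.pf.gen le_normalizer hkP hkT h8)
  obtain ⟨y, hy, hyS⟩ := Set.not_subset.mp hkS
  have hP2D : K2 ⊔ S ≤ normalizer (DD : Set G) := by
    apply k2.pf.gen hSD (x := y) _ hyS
    · rw [← hEeq, normalizer_conj_smul]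
      exact (Subgroup.pointwise_smul_le_pointwise_smul_iff).mpr hSE hy
    · have : MulAut.conj k • S ≤ K2 ⊔ S := by
        rw [← conj_self hkP]
        exact (Subgroup.pointwise_smul_le_pointwise_smul_iff).mpr le_sup_right
      exact this hy
  have hP1D : K1 ⊔ S ≤ normalizer (DD : Set G) := by
    have e : DD = Q1 ⊓ centralizer ((Z1 ⊔ Z2 : Subgroup G) : Set G) := by
      apply le_antisymm
      · refine le_inf inf_le_left ?_
        rw [le_centralizer_iff]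
        refine sup_le ?_ ?_
        · rw [le_centralizer_iff]; exact inf_le_left.trans k1.pf.QC
        · rw [le_centralizer_iff]; exact inf_le_right.trans k2.pf.QC
      · refine le_inf inf_le_left ?_
        refine (le_inf ((inf_le_left.trans k1.pf.QT).trans k2.pf.TP) (inf_le_right.trans ?_)).trans k2.pf.CQ
        exact centralizer_le (SetLike.coe_subset_coe.mpr le_sup_right)
    rw [e]
    exact le_nor_inf k1.pf.PQ (le_normalizer_cen hN)
  have h7 := p.O1' DD (inf_le_left.trans k1.pf.QT) hP1D hP2D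
  have h8 : w2 ∈ DD := ⟨k1.pf.ZQ (mem_sup_right hw2Z), k2.pf.ZQ k2.pf.wZ⟩
  rw [h7, mem_bot] at h8
  exact k2.pf.w1 h8

end CfsgLib.H2JC
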