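import Cfsg.Agent.EqBase
import Cfsg.Agent.LibH2JD12
set_option autoImplicit false
set_option maxHeartbeats 400000
/-! J(T)-components, part 32: recognition of the symmetric group of degree 4.  Seat helper2. -/
namespace CfsgLib.H2JC
open Subgroup Cfsg CfsgLib.Coprime CfsgLib.Coprime2 CfsgLib.H2Misc CfsgLib.H2Thomp CfsgLib.Cores CfsgLib.H2FF
open CfsgLib.SolvCoprime (IsSylowIn)
open CfsgLib.SolvBasic (mem_conj_smul normalizer_conj_smul)
open CfsgLib.LE (pCoreOf_isPGroup pCoreOf_le le_pCoreOf normalizer_le_normalizer_pCoreOf le_normalizer_pCoreOf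
  pCoreOf_le_pCoreOf_of_normal)
open scoped Pointwise commutatorElement

universe u

section s4
variable {H : Type*} [Group H] [Finite H]

theorem s4_recog (hc : Nat.card H = 24) (W : Subgroup H) [hWn : W.Normal] (hW : Nat.card W = 4)
    (hWe : ∀ x ∈ W, x * x = 1) (hC : centralizer (W : Set H) ≤ W) : Nonempty (H ≃* Equiv.Perm (Fin 4)) := by
  haveI : Fact (Nat.Prime 3) := ⟨Nat.prime_three⟩
  -- elements of order 3 fixing a nontrivial element of `W` centralize `W`
  have hcomm : ∀ x ∈ W, ∀ y ∈ W, x * y = y * x := by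
    intro x hx y hy
    have h1 := hWe _ (W.mul_mem hx hy)
    have h2 : x⁻¹ = x := inv_eq_of_mul_eq_one_left (hWe x hx)
    have h3 : y⁻¹ = y := inv_eq_of_mul_eq_one_left (hWe y hy)
    calc x * y = (x * y)⁻¹ := (inv_eq_of_mul_eq_one_left h1).symm
      _ = y * x := by rw [mul_inv_rev, h2, h3]
  have hel : IsElementaryAbelian 2 W := ⟨⟨⟨fun a b => Subtype.ext (hcomm a a.2 b b.2)⟩⟩, fun x hx => by rw [pow_two]; exact hWe x hx⟩
  have fix : ∀ r : H, r * r * r = 1 → ∀ w ∈ W, w ≠ 1 → r * w = w * r → ∀ u ∈ W, r * u = u * r := by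
    intro r hr w hw hw1 hrw u hu
    by_cases hu1 : u = 1
    · rw [hu1, mul_one, one_mul]
    by_cases huw : u = w
    · rw [huw, hrw]
    have h1 : r * u * r⁻¹ ∈ W := hWn.conj_mem u hu r
    have hwc : r * w * r⁻¹ = w := by rw [hrw, mul_inv_cancel_right]
    rcases four_cases hW hel hw hu hw1 hu1 (Ne.symm huw) h1 with h | h | h | h
    · exfalso; apply hu1
      have := congrArg (fun y => r⁻¹ * y * r) h
      simpa [mul_assoc] using this
    · exfalso; apply huw
      have := congrArg (fun y => r⁻¹ * y * r) (h.trans hwc.symm)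
      simpa [mul_assoc] using this
    · calc r * u = (r * u * r⁻¹) * r := by group
        _ = u * r := by rw [h]
    · exfalso
      -- r u r⁻¹ = w u, so r³ u r⁻³ = w³ u
      have h2 : r * (r * (r * u * r⁻¹) * r⁻¹) * r⁻¹ = w * u := by
        have e1 : r * (w * u) * r⁻¹ = u := by
          calc r * (w * u) * r⁻¹ = (r * w * r⁻¹) * (r * u * r⁻¹) := by group
            _ = (w * w) * u := by rw [hwc, h]; group
            _ = u := by rw [hWe w hw, one_mul]
        rw [h, e1, h]
      have h3 : r * (r * (r * u * r⁻¹) * r⁻¹) * r⁻¹ = (r * r * r) * u * (r * r * r)⁻¹ := by group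
      rw [h3, hr, one_mul, inv_one, mul_one] at h2
      apply hw1
      have := h2.symm
      simpa using this
  -- Sylow 3-subgroups
  obtain ⟨R⟩ : Nonempty (Sylow 3 H) := inferInstance
  have hcR : Nat.card R = 3 := by
    rw [Sylow.card_eq_multiplicity, hc]
    have : Nat.factorization 24 3 = 1 := by
      have h24 : (24 : ℕ) = 2 ^ 3 * 3 := by norm_num
      rw [h24, Nat.factorization_mul (by norm_num) (by norm_num), Nat.Prime.factorization_pow Nat.prime_two,
        Nat.Prime.factorization Nat.prime_three]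
      simp
    rw [this, pow_one]
  have cub : ∀ (R : Sylow 3 H) (r : H), r ∈ R → r * r * r = 1 := by
    intro R' r hr
    have hcR' : Nat.card R' = 3 := by
      exact (Nat.card_congr (Sylow.equiv R' R).toEquiv).trans hcR
    have h1 : (⟨r, hr⟩ : (R' : Subgroup H)) ^ 3 = 1 := by
      have := pow_card_eq_one' (x := (⟨r, hr⟩ : (R' : Subgroup H)))
      rwa [hcR'] at this
    have h2 : r ^ 3 = 1 := congrArg Subtype.val h1
    rwa [pow_succ, pow_two] at h2
  have hRW : ∀ (R : Sylow 3 H) (r : H), r ∈ R → r ∈ W → r = 1 := by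
    intro R' r hr hrW
    have h1 := cub R' r hr
    have h2 := hWe r hrW
    rw [h2, one_mul] at h1
    exact h1
  -- R is not central on W
  have hRne : ∀ R : Sylow 3 H, ¬ (∀ r ∈ R, ∀ u ∈ W, r * u = u * r) := by
    intro R' h
    have hcR' : Nat.card R' = 3 := by
      exact (Nat.card_congr (Sylow.equiv R' R).toEquiv).trans hcR
    have h1 : (R' : Subgroup H) = ⊥ := by
      rw [eq_bot_iff]
      intro r hr
      rw [mem_bot]
      apply hRW R' r hr
      apply hC
      exact mem_centralizer_iff.mpr fun u hu => (h r hr u hu).symm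
    have h2 : Nat.card (R' : Subgroup H) = 3 := hcR'
    rw [h1, card_bot] at h2
    omega
  have hn4 : Nat.card (Sylow 3 H) = 4 := by
    have h1 : Nat.card (Sylow 3 H) ∣ (R : Subgroup H).index := R.card_dvd_index
    have h2 : (R : Subgroup H).index = 8 := by
      have := (R : Subgroup H).card_mul_index
      rw [hc, show Nat.card (R : Subgroup H) = 3 from hcR] at this
      omega
    rw [h2] at h1
    have h3 := card_sylow_modEq_one 3 H
    have h4 : Nat.card (Sylow 3 H) ∈ Nat.divisors 8 := Nat.mem_divisors.mpr ⟨h1, by norm_num⟩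
    have h5 : Nat.divisors 8 = {1, 2, 4, 8} := by decide
    rw [h5] at h4
    simp only [Finset.mem_insert, Finset.mem_singleton] at h4
    rcases h4 with h | h | h | h
    · exfalso
      haveI : Subsingleton (Sylow 3 H) := by
        rw [← Finite.card_le_one_iff_subsingleton]; omega
      have hRn : (R : Subgroup H).Normal := R.normal_of_subsingleton
      apply hRne R
      intro r hr u hu
      have h6 : ⁅r, u⁆ ∈ W := by
        have e : ⁅r, u⁆ = (r * u * r⁻¹) * u⁻¹ := by simp only [commutatorElement_def]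
        rw [e]; exact W.mul_mem (hWn.conj_mem u hu r) (W.inv_mem hu)
      have h7 : ⁅r, u⁆ ∈ (R : Subgroup H) := by
        have e : ⁅r, u⁆ = r * (u * r⁻¹ * u⁻¹) := by simp only [commutatorElement_def]; group
        rw [e]; exact (R : Subgroup H).mul_mem hr (hRn.conj_mem _ ((R : Subgroup H).inv_mem hr) u)
      exact commutatorElement_eq_one_iff_mul_comm.mp (hRW R _ h7 h6)
    · rw [h] at h3; exact absurd h3 (by decide)
    · exact h
    · rw [h] at h3; exact absurd h3 (by decide)
  -- the action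
  let φ : H →* Equiv.Perm (Sylow 3 H) := MulAction.toPermHom H (Sylow 3 H)
  have hker : φ.ker = ⊥ := by
    have hkW : φ.ker ⊓ W = ⊥ := by
      rw [eq_bot_iff]
      rintro w ⟨hw1, hw2⟩
      rw [mem_bot]
      by_contra hne
      apply hRne R
      intro r hr u hu
      have h1 : w • R = R := by
        have h2 : φ w = 1 := hw1
        have := DFunLike.congr_fun h2 R
        simpa [φ] using this
      have h2 : w ∈ normalizer ((R : Subgroup H) : Set H) := Sylow.smul_eq_iff_mem_normalizer.mp h1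
      have h3 : ⁅w, r⁆ ∈ (R : Subgroup H) := by
        have e : ⁅w, r⁆ = (w * r * w⁻¹) * r⁻¹ := by simp only [commutatorElement_def]
        rw [e]; exact (R : Subgroup H).mul_mem ((mem_normalizer_iff.mp h2 r).mp hr) ((R : Subgroup H).inv_mem hr)
      have h4 : ⁅w, r⁆ ∈ W := by
        have e : ⁅w, r⁆ = w * (r * w⁻¹ * r⁻¹) := by simp only [commutatorElement_def]; group
        rw [e]; exact W.mul_mem hw2 (hWn.conj_mem _ (W.inv_mem hw2) r)
      have h5 := commutatorElement_eq_one_iff_mul_comm.mp (hRW R _ h3 h4)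
      exact fix r (cub R r hr) w hw2 hne h5.symm u hu
    have h1 : φ.ker ≤ W := by
      refine le_trans ?_ hC
      intro k hk
      refine mem_centralizer_iff.mpr fun w hw => ?_
      have h2 : ⁅w, k⁆ ∈ φ.ker ⊓ W := by
        constructor
        · have e : ⁅w, k⁆ = (w * k * w⁻¹) * k⁻¹ := by simp only [commutatorElement_def]
          rw [e]; exact Subgroup.mul_mem φ.ker ((inferInstance : φ.ker.Normal).conj_mem k hk w) (Subgroup.inv_mem φ.ker hk)
        · have e : ⁅w, k⁆ = w * (k * w⁻¹ * k⁻¹) := by simp only [commutatorElement_def]; group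
          rw [e]; exact W.mul_mem hw (hWn.conj_mem _ (W.inv_mem hw) k)
      rw [hkW, mem_bot] at h2
      exact commutatorElement_eq_one_iff_mul_comm.mp h2
    rw [← hkW]; exact (inf_eq_left.mpr h1).symm
  have hinj : Function.Injective φ := (MonoidHom.ker_eq_bot_iff φ).mp hker
  haveI : Fintype (Sylow 3 H) := Fintype.ofFinite _
  have hF : Fintype.card (Sylow 3 H) = 4 := by rw [← Nat.card_eq_fintype_card]; exact hn4
  let ψ : Equiv.Perm (Sylow 3 H) ≃* Equiv.Perm (Fin 4) := Equiv.permCongrHom (Fintype.equivFinOfCardEq hF)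
  have hcard : Nat.card (Equiv.Perm (Fin 4)) = 24 := by
    rw [Nat.card_eq_fintype_card, Fintype.card_perm, Fintype.card_fin]; rfl
  let θ : H →* Equiv.Perm (Fin 4) := ψ.toMonoidHom.comp φ
  have hθ : Function.Injective θ := ψ.injective.comp hinj
  have hbij : Function.Bijective θ := by
    rw [Nat.bijective_iff_injective_and_card]
    exact ⟨hθ, by rw [hc, hcard]⟩
  exact ⟨MulEquiv.ofBijective θ hbij⟩

end s4

variable {G : Type u} [Group G]

theorem s4_recog' [Finite G] {H W : Subgroup G} (hWH : W ≤ H) (hn : H ≤ normalizer (W : Set G)) (hc : Nat.card H = 24)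
    (hW : Nat.card W = 4) (hWe : ∀ x ∈ W, x * x = 1) (hC : H ⊓ centralizer (W : Set G) ≤ W) :
    Nonempty (H ≃* Equiv.Perm (Fin 4)) := by
  haveI : (W.subgroupOf H).Normal := normal_subgroupOf_of_le_normalizer hn
  apply s4_recog hc (W.subgroupOf H)
  · rw [Nat.card_congr (subgroupOfEquivOfLe hWH).toEquiv]; exact hW
  · intro x hx
    exact Subtype.ext (hWe x hx)
  · intro x hx
    rw [mem_subgroupOf]
    refine hC ⟨x.2, mem_centralizer_iff.mpr fun w hw => ?_⟩
    have := mem_centralizer_iff.mp hx ⟨w, hWH hw⟩ hw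
    exact congrArg Subtype.val this

theorem prod_iso {H X P : Subgroup G} (hHX : H ⊓ X = ⊥) (hs : H ⊔ X = P) (hc : X ≤ centralizer (H : Set G)) :
    Nonempty (P ≃* H × X) := by
  have comm : ∀ (m : H) (n : X), Commute (H.subtype m) (X.subtype n) := fun m n =>
    mem_centralizer_iff.mp (hc n.2) m m.2
  let φ : H × X →* G := MonoidHom.noncommCoprod H.subtype X.subtype comm
  have hinj : Function.Injective φ := by
    rw [MonoidHom.noncommCoprod_injective]
    refine ⟨H.subtype_injective, X.subtype_injective, ?_⟩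
    rw [range_subtype, range_subtype, disjoint_iff]
    exact hHX
  have hr : φ.range = P := by
    have := MonoidHom.noncommCoprod_range H.subtype X.subtype comm
    rw [range_subtype, range_subtype] at this
    rw [← hs]; exact this
  exact ⟨((MonoidHom.ofInjective hinj).trans (MulEquiv.subgroupCongr hr)).symm⟩

/-- the structure of `P` in the case `b = 1` -/
theorem PK.struct [Finite G] {T K Z : Subgroup G} {w : G} (k : PK T K (K ⊔ T) (pCoreOf 2 (K ⊔ T)) Z w)
    (hK : IsJComponent T K) (hZ : omegaCenterOf T = omegaCenterOf (Je 2 T)) (hQZ : pCoreOf 2 (K ⊔ T) = Z) {t : G} (ht : t ∈ T)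
    (htQ : t ∉ pCoreOf 2 (K ⊔ T)) (htt : t * t = 1) :
    pCoreOf 2 K = wOf K ∧ Nat.card K = 12 ∧ K ⊔ zpowers t ≤ K ⊔ T ∧ Nonempty (↥(K ⊔ zpowers t) ≃* Equiv.Perm (Fin 4)) ∧
      (K ⊔ zpowers t) ⊓ (omegaCenterOf T ⊓ centralizer (K : Set G)) = ⊥ ∧
      (K ⊔ zpowers t) ⊔ (omegaCenterOf T ⊓ centralizer (K : Set G)) = K ⊔ T ∧
      (omegaCenterOf T ⊓ centralizer (K : Set G)) ≤ centralizer ((K ⊔ T : Subgroup G) : Set G) := by
  haveI : Fact (Nat.Prime 2) := ⟨Nat.prime_two⟩
  have hT2 := k.pf.T2
  have c := cp_of hT2 hK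
  have D := kd hT2 hK
  set X := omegaCenterOf T ⊓ centralizer (K : Set G) with hX
  set W := wOf K with hW
  set Q := pCoreOf 2 (K ⊔ T) with hQ
  set O := pCoreOf 2 K with hO
  have hOK : O ≤ K := pCoreOf_le 2 K
  have hKO : K ≤ normalizer (O : Set G) := le_normalizer_pCoreOf 2 K
  have hWO : W ≤ O := D.WO
  have hWZ : W ≤ Z := by rw [k.ZZ]; exact le_sup_left
  have hXZ : X ≤ Z := by rw [k.ZZ]; exact inf_le_left.trans le_sup_right
  have hXP : X ≤ centralizer ((K ⊔ T : Subgroup G) : Set G) := by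
    rw [le_centralizer_iff]
    refine sup_le ?_ ?_
    · rw [le_centralizer_iff]; exact inf_le_right
    · rw [le_centralizer_iff]
      intro x hx
      exact (mem_omegaCenterOf.mp hx.1).2.1
  have hTK : T ≤ normalizer (K : Set G) := k.pf.TP.trans k.PKn
  have hPW : K ⊔ T ≤ normalizer (W : Set G) := k.PKn.trans (wOf_normalizer K)
  -- complement
  obtain ⟨R, hRK, hRc, hOR, hORK⟩ := sz_exists hOK hKO (by
    rw [c.ix]
    obtain ⟨n, hn⟩ := IsPGroup.iff_card.mp (pCoreOf_isPGroup 2 K)
    rw [hn]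
    exact Nat.Coprime.pow_left n (by norm_num))
  rw [c.ix] at hRc
  have hWK : W ≤ K := hWO.trans hOK
  have hYK : W ⊔ R ≤ K := sup_le hWK hRK
  have hKY : K ≤ normalizer ((W ⊔ R : Subgroup G) : Set G) := by
    conv_lhs => rw [← hORK]
    refine sup_le ?_ (le_sup_right.trans le_normalizer)
    intro o ho
    obtain ⟨a, ha, x, hx, rfl⟩ := k.decX hK hZ (by rw [← hQZ]; exact k.Oq ho : o ∈ Z)
    refine mul_mem (le_normalizer (mem_sup_left ha)) ?_
    apply centralizer_le_normalizer
    exact centralizer_le (SetLike.coe_subset_coe.mpr hYK) hx.2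
  have hKeq : K = W ⊔ R := by
    apply le_antisymm _ hYK
    obtain ⟨m, hm⟩ := relIndex_two_pow (K := W ⊔ R) (pCoreOf_isPGroup 2 K) (hYK.trans hKO)
    have h1 : (W ⊔ R) ⊔ O = K := by
      apply le_antisymm (sup_le hYK hOK)
      conv_lhs => rw [← hORK]
      exact sup_le le_sup_right (le_sup_right.trans le_sup_left)
    rw [h1] at hm
    conv_lhs => rw [← c.odd]
    exact odd2_le_of hYK hKY hm
  have hcK : Nat.card K = 12 := by
    have h1 : R ≤ normalizer (W : Set G) := (hRK.trans le_sup_left).trans hPW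
    have h2 := card_sup_mul_card_inf h1
    have h3 : R ⊓ W = ⊥ := by
      rw [eq_bot_iff, ← hOR, inf_comm]
      exact le_inf (inf_le_left.trans hWO) inf_le_right
    rw [h3, card_bot, mul_one, hRc, D.cW, sup_comm, ← hKeq] at h2
    exact h2
  have hcO : Nat.card O = 4 := by
    have := card_mul_relIndex hOK
    rw [c.ix, hcK] at this
    omega
  have hOW : O = W := (eq_of_le_of_card_ge hWO (by rw [hcO, D.cW])).symm
  have htK : t ∉ K := by
    intro h
    apply htQ
    apply k.Oq
    rw [k.O]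
    exact ⟨h, ht⟩
  have ht1 : t ≠ 1 := fun h => htK (h ▸ one_mem _)
  have hct : Nat.card (zpowers t) = 2 := by
    rw [Nat.card_zpowers]
    exact orderOf_eq_prime (by rw [pow_two]; exact htt) ht1
  have htN : zpowers t ≤ normalizer (K : Set G) := by rw [zpowers_le]; exact hTK ht
  have hmem : ∀ y ∈ zpowers t, y = 1 ∨ y = t := by
    intro y hy
    by_cases hy1 : y = 1
    · exact Or.inl hy1
    · exact Or.inr (two_eq hct hy (mem_zpowers t) hy1 ht1)
  have hcH : Nat.card ↥(K ⊔ zpowers t) = 24 := by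
    have h1 := card_sup_mul_card_inf htN
    have h2 : zpowers t ⊓ K = ⊥ := by
      rw [eq_bot_iff]
      rintro y ⟨hy1, hy2⟩
      rcases hmem y hy1 with h | h
      · exact mem_bot.mpr h
      · exact absurd (h ▸ hy2) htK
    rw [h2, card_bot, mul_one, hct, hcK, sup_comm] at h1
    exact h1
  have hHP : K ⊔ zpowers t ≤ K ⊔ T := sup_le le_sup_left (by rw [zpowers_le]; exact mem_sup_right ht)
  have hHQ : (K ⊔ zpowers t) ⊓ Q ≤ W := by
    rintro h ⟨hh, hhQ⟩
    obtain ⟨κ, hκ, τ, hτ, rfl⟩ := (mem_sup_left_norm htN).mp hh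
    have hhT := k.pf.QT hhQ
    have hKTO : ∀ y ∈ K, y ∈ T → y ∈ O := by
      intro y h1 h2
      rw [hO, k.O]
      exact ⟨h1, h2⟩
    rcases hmem τ hτ with h1 | h1
    · rw [h1, mul_one] at hhT ⊢
      rw [← hOW]; exact hKTO _ hκ hhT
    · exfalso
      apply htQ
      rw [h1] at hhT hhQ
      have h2 : κ ∈ T := by
        have := T.mul_mem hhT (T.inv_mem ht)
        rwa [mul_inv_cancel_right] at this
      have h3 : κ ∈ Q := k.Oq (hKTO κ hκ h2)
      have := Q.mul_mem (Q.inv_mem h3) hhQ
      rwa [inv_mul_cancel_left] at this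
  have hCH : (K ⊔ zpowers t) ⊓ centralizer (W : Set G) ≤ W := by
    refine le_trans (le_inf inf_le_left ?_) hHQ
    refine (le_inf (inf_le_left.trans hHP) ?_).trans k.pf.CQ
    rw [le_centralizer_iff]
    intro y hy
    obtain ⟨a, ha, x, hx, rfl⟩ := k.decX hK hZ hy
    refine mul_mem ?_ ?_
    · have : W ≤ centralizer (((K ⊔ zpowers t) ⊓ centralizer (W : Set G) : Subgroup G) : Set G) := by
        rw [le_centralizer_iff]; exact inf_le_right
      exact this ha
    · exact centralizer_le (SetLike.coe_subset_coe.mpr (inf_le_left.trans hHP)) (hXP hx)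
  have hiso := s4_recog' (H := K ⊔ zpowers t) (hWK.trans le_sup_left) (hHP.trans hPW) hcH D.cW
    (fun x hx => by have := D.el.2 x hx; rwa [pow_two] at this) hCH
  have hHX : (K ⊔ zpowers t) ⊓ X = ⊥ := by
    rw [eq_bot_iff, ← D.C0]
    refine le_inf ((inf_le_inf_left _ ?_).trans hHQ) (inf_le_right.trans inf_le_right)
    rw [hQZ]; exact hXZ
  refine ⟨hOW, hcK, hHP, hiso, hHX, ?_, hXP⟩
  apply eq_of_le_of_card_ge (sup_le hHP (hXZ.trans ((k.pf.ZQ.trans k.pf.QT).trans le_sup_right)))
  have h1 : X ≤ normalizer ((K ⊔ zpowers t : Subgroup G) : Set G) :=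
    (hXP.trans (centralizer_le (SetLike.coe_subset_coe.mpr hHP))).trans (centralizer_le_normalizer _)
  have h2 := card_sup_mul_card_inf h1
  rw [inf_comm, hHX, card_bot, mul_one, hcH, sup_comm] at h2
  rw [h2]
  have h3 := card_mul_relIndex (k.pf.QT.trans k.pf.TP)
  rw [k.six, hQZ, k.cZ, k.cX] at h3
  rw [← h3]
  apply le_of_eq; ring

end CfsgLib.H2JC
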