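import Cfsg.Agent.EqBase
import Cfsg.Agent.LibH2JD13
set_option autoImplicit false
set_option maxHeartbeats 400000
/-! J(T)-components, part 33: the two maximal 2-local subgroups.  Seat helper2. -/
namespace CfsgLib.H2JC
open Subgroup Cfsg CfsgLib.Coprime CfsgLib.Coprime2 CfsgLib.H2Misc CfsgLib.H2Thomp CfsgLib.Cores CfsgLib.H2FF
open CfsgLib.SolvCoprime (IsSylowIn)
open CfsgLib.SolvBasic (mem_conj_smul normalizer_conj_smul)
open CfsgLib.LE (pCoreOf_isPGroup pCoreOf_le le_pCoreOf normalizer_le_normalizer_pCoreOf le_normalizer_pCoreOf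
  pCoreOf_le_pCoreOf_of_normal)
open scoped Pointwise commutatorElement

universe u

variable {G : Type u} [Group G]

theorem B1.JT [Finite G] {T P1 Q1 Z1 P2 Q2 Z2 : Subgroup G} {w1 w2 : G} (b : B1 T Q1 Z1 Q2 Z2 w1 w2) (f1 : PF T P1 Q1 Z1 w1)
    (f2 : PF T P2 Q2 Z2 w2) (hc : Nat.card Q1 = Nat.card Q2) : Je 2 T = T := by
  apply le_antisymm (JQ_le _ _)
  have e1 : IsElementaryAbelian 2 Q1 := by rw [b.QZ1]; exact f1.el
  have e2 : IsElementaryAbelian 2 Q2 := by rw [b.QZ2]; exact f2.el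
  have key : ∀ B : Subgroup G, B ≤ T → IsElementaryAbelian 2 B → Nat.card B ≤ Nat.card Q1 := by
    intro B hB hBe
    rcases b.sub hB (fun x hx => by have := hBe.2 x hx; rwa [pow_two] at this) with h | h
    · exact Subgroup.card_le_of_le h
    · rw [hc]; exact Subgroup.card_le_of_le h
  have m1 : Q1 ≤ Je 2 T := le_sSup ⟨f1.QT, e1, fun B hB hBe => key B hB hBe⟩
  have m2 : Q2 ≤ Je 2 T := le_sSup ⟨f2.QT, e2, fun B hB hBe => by rw [← hc]; exact key B hB hBe⟩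
  intro t ht
  obtain ⟨a, ha, b', hb', rfl⟩ := b.gen t ht
  exact mul_mem (m1 ha) (m2 hb')

theorem P_max [Finite G] {T K L Z : Subgroup G} {w0 : G} (w : Pw T K L) (B : Bs T L)
    (k : PK T K (K ⊔ T) (pCoreOf 2 (K ⊔ T)) Z w0) (hZ : omegaCenterOf T = omegaCenterOf (Je 2 T))
    (hQZ : pCoreOf 2 (K ⊔ T) = Z) (hJT : Je 2 T = T) (h4 : Nat.card (omegaCenterOf T) ≤ 4) : L = K ⊔ T := by
  haveI : Fact (Nat.Prime 2) := ⟨Nat.prime_two⟩
  have hT2 := k.pf.T2
  have D := kd hT2 w.comp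
  have hPL : K ⊔ T ≤ L := sup_le w.KL B.syl.le
  apply le_antisymm _ hPL
  set Q := pCoreOf 2 (K ⊔ T) with hQ
  set R := pCoreOf 2 L with hR
  have hel : IsElementaryAbelian 2 Q := by rw [hQZ]; exact k.pf.el
  have hRQ : R ≤ Q := le_pCoreOf (B.RT.trans k.pf.TP) (hPL.trans B.LR) (pCoreOf_isPGroup 2 L)
  have hQR : Q = R := by
    apply le_antisymm _ hRQ
    refine le_trans ?_ B.cR
    intro x hx
    exact mem_centralizer_iff.mpr fun y hy => ea_comm hel (hRQ hy) hx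
  have hLQ : L ≤ normalizer (Q : Set G) := by rw [hQR]; exact B.LR
  have hKc : K ∈ comps T L := ⟨w.comp, w.KL⟩
  have huniq : ∀ K' ∈ comps T L, K' = K := by
    intro K' hK'
    by_contra hne
    have h1 := comps_cen B hKc hK' (Ne.symm hne)
    have h2 : wOf K ⊓ wOf K' = ⊥ := by
      rw [eq_bot_iff, ← D.C0]
      exact inf_le_inf_left _ (by rw [le_centralizer_iff]; exact h1)
    have h3 : wOf K' ≤ Q := by
      rw [hQR]
      exact ((wOf_le_omega K').trans (omega_le _)).trans (comp_F B hK').2.2.2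
    have h5 : wOf K ≤ Q := ((wOf_le_omega K).trans (omega_le _)).trans k.Oq
    have h6 : wOf K ≤ normalizer (wOf K' : Set G) := by
      refine le_trans ?_ (centralizer_le_normalizer _)
      intro x hx
      exact mem_centralizer_iff.mpr fun y hy => ea_comm hel (h3 hy) (h5 hx)
    have h7 := card_sup_mul_card_inf h6
    rw [h2, card_bot, mul_one, w.comp.2.2.2.2.1, hK'.1.2.2.2.2.1] at h7
    have h8 := Subgroup.card_le_of_le (sup_le h5 h3)
    rw [h7, hQZ, k.cZ] at h8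
    omega
  obtain ⟨hLK, -⟩ := unique_norm B hKc huniq (by rw [hJT]; exact inf_le_right)
  have hTK : T ≤ normalizer (K : Set G) := k.pf.TP.trans k.PKn
  -- X = Q ⊓ C(K)
  set X := omegaCenterOf T ⊓ centralizer (K : Set G) with hX
  have hXQ : X = Q ⊓ centralizer (K : Set G) := by
    apply le_antisymm
    · refine le_inf (inf_le_left.trans ?_) inf_le_right
      rw [hQZ, k.ZZ]; exact le_sup_right
    · rintro y ⟨hy1, hy2⟩
      have hy1' : y ∈ Z := by rw [← hQZ]; exact hy1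
      obtain ⟨a, ha, x, hx, rfl⟩ := k.decX w.comp hZ hy1'
      have h1 : a ∈ wOf K ⊓ centralizer (K : Set G) := by
        refine ⟨ha, ?_⟩
        have e : a = (a * x) * x⁻¹ := by group
        rw [e]; exact Subgroup.mul_mem _ hy2 (Subgroup.inv_mem _ hx.2)
      rw [D.C0, mem_bot] at h1
      rw [h1, one_mul]; exact hx
  have hLX : L ≤ centralizer (X : Set G) := by
    apply cen_of_card_two
    · have h5 : Nat.card (omegaCenterOf T) = 2 * Nat.card X := k.cX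
      omega
    · rw [hXQ]; exact le_nor_inf hLQ (le_normalizer_cen hLK)
  have hLW : L ≤ normalizer (wOf K : Set G) := hLK.trans (wOf_normalizer K)
  have hQP : Q ≤ K ⊔ T := k.pf.QT.trans k.pf.TP
  -- elements of L centralizing wOf K
  have cenW : ∀ h ∈ L, h ∈ centralizer (wOf K : Set G) → h ∈ K ⊔ T := by
    intro h hh hc
    apply hQP
    apply k.cG
    refine mem_centralizer_iff.mpr fun y hy => ?_
    have hy1' : y ∈ Z := by rw [← hQZ]; exact hy
    obtain ⟨a, ha, x, hx, rfl⟩ := k.decX w.comp hZ hy1'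
    have e1 : a * h = h * a := mem_centralizer_iff.mp hc a ha
    have e2 : x * h = h * x := mem_centralizer_iff.mp (hLX hh) x hx
    rw [mul_assoc, e2, ← mul_assoc, e1, mul_assoc]
  have hw0 := k.wW
  have hw01 := k.pf.w1
  obtain ⟨u, hu, huZ⟩ : ∃ u ∈ wOf K, u ∉ zpowers w0 := by
    by_contra hcon
    push Not at hcon
    have h1 := Subgroup.card_le_of_le (show wOf K ≤ zpowers w0 from hcon)
    rw [w.comp.2.2.2.2.1, Nat.card_zpowers, orderOf_eq_prime (by rw [pow_two]; exact k.pf.w2) hw01] at h1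
    omega
  have hu1 : u ≠ 1 := fun h => huZ (h ▸ one_mem _)
  have huw : u ≠ w0 := fun h => huZ (h ▸ mem_zpowers w0)
  have genW : ∀ h : G, h * w0 = w0 * h → h * u = u * h → h ∈ centralizer (wOf K : Set G) := by
    intro h e1 e2
    refine mem_centralizer_iff.mpr fun v hv => ?_
    rcases four_cases D.cW D.el hw0 hu hw01 hu1 (Ne.symm huw) hv with h1 | h1 | h1 | h1
    · rw [h1, one_mul, mul_one]
    · rw [h1, e1]
    · rw [h1, e2]
    · rw [h1, mul_assoc, ← e2, ← mul_assoc, ← e1, mul_assoc]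
  obtain ⟨t, ht, htu⟩ : ∃ t ∈ T, ⁅u, t⁆ = w0 := by
    by_contra hcon
    push Not at hcon
    have h1 : T ≤ centralizer (wOf K : Set G) := by
      intro t ht
      apply genW t (mem_centralizer_iff.mp k.pf.wT t ht)
      rcases k.pf.com u (by rw [k.ZZ]; exact mem_sup_left hu) t ht with h | h
      · exact (commutatorElement_eq_one_iff_mul_comm.mp h).symm
      · exact absurd h (hcon t ht)
    have h2 : T ≤ Q := by
      refine (le_inf k.pf.TP ?_).trans k.pf.CQ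
      rw [k.ZZ, le_centralizer_iff]
      refine sup_le (le_centralizer_iff.mp h1) ?_
      intro x hx
      exact (mem_omegaCenterOf.mp hx).2.1
    have h3 := k.pf.i2
    rw [relIndex_eq_one.mpr h2] at h3
    omega
  have htu' : t * u * t⁻¹ = w0 * u := by
    have e : t * u * t⁻¹ = ⁅u, t⁆⁻¹ * u := by simp only [commutatorElement_def]; group
    rw [e, htu, k.pf.inv_w]
  intro g hg
  have hgw : g * w0 * g⁻¹ ∈ wOf K := (mem_normalizer_iff.mp (hLW hg) w0).mp hw0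
  have hgw1 : g * w0 * g⁻¹ ≠ 1 := by
    intro h
    apply hw01
    have := congrArg (fun y => g⁻¹ * y * g) h
    simpa [mul_assoc] using this
  obtain ⟨κ, hκ, hκw⟩ := W_trans D hw0 hgw hw01 hgw1
  have hg'L : κ⁻¹ * g ∈ L := L.mul_mem (L.inv_mem (w.KL hκ)) hg
  have hg'w : (κ⁻¹ * g) * w0 = w0 * (κ⁻¹ * g) := by
    have h1 : κ⁻¹ * (g * w0 * g⁻¹) * κ = w0 := by rw [← hκw]; group
    calc (κ⁻¹ * g) * w0 = (κ⁻¹ * (g * w0 * g⁻¹) * κ) * (κ⁻¹ * g) := by group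
      _ = w0 * (κ⁻¹ * g) := by rw [h1]
  have key : κ⁻¹ * g ∈ K ⊔ T := by
    set g' := κ⁻¹ * g with hg'
    have h1 : g' * u * g'⁻¹ ∈ wOf K := (mem_normalizer_iff.mp (hLW hg'L) u).mp hu
    have hwc : g' * w0 * g'⁻¹ = w0 := by rw [hg'w, mul_inv_cancel_right]
    rcases four_cases D.cW D.el hw0 hu hw01 hu1 (Ne.symm huw) h1 with h | h | h | h
    · exfalso; apply hu1
      have := congrArg (fun y => g'⁻¹ * y * g') h
      simpa [mul_assoc] using this
    · exfalso; apply huw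
      have := congrArg (fun y => g'⁻¹ * y * g') (h.trans hwc.symm)
      simpa [mul_assoc] using this
    · apply cenW g' hg'L
      apply genW g' hg'w
      calc g' * u = (g' * u * g'⁻¹) * g' := by group
        _ = u * g' := by rw [h]
    · have htL : t ∈ L := B.syl.le ht
      have h2 : t⁻¹ * g' ∈ K ⊔ T := by
        apply cenW _ (L.mul_mem (L.inv_mem htL) hg'L)
        have htw : t * w0 = w0 * t := mem_centralizer_iff.mp k.pf.wT t ht
        apply genW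
        · calc t⁻¹ * g' * w0 = t⁻¹ * (w0 * t) * t⁻¹ * g' := by rw [mul_assoc, hg'w]; group
            _ = w0 * (t⁻¹ * g') := by rw [← htw]; group
        · calc t⁻¹ * g' * u = t⁻¹ * (g' * u * g'⁻¹) * g' := by group
            _ = t⁻¹ * (t * u * t⁻¹) * g' := by rw [h, htu']
            _ = u * (t⁻¹ * g') := by group
      have e : g' = t * (t⁻¹ * g') := by group
      rw [e]
      exact mul_mem (mem_sup_right ht) h2
  have e : g = κ * (κ⁻¹ * g) := by group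
  rw [e]
  exact mul_mem (mem_sup_left hκ) key

/-- `b = 1` always -/
theorem main_b1 [Finite G] {S M T K L : Subgroup G} (g : Gl S M) (hT : T ∈ maxStraddlingTwoSubgroups M) (hTS : T ≤ S)
    (w : Pw T K L) (B : Bs T L) :
    ∃ K2 L2 w1 w2, Pr S T K L K2 L2 ∧ Bs T L2 ∧
      PK T K (K ⊔ T) (pCoreOf 2 (K ⊔ T)) (wOf K ⊔ omegaCenterOf T) w1 ∧
      PK T K2 (K2 ⊔ T) (pCoreOf 2 (K2 ⊔ T)) (wOf K2 ⊔ omegaCenterOf T) w2 ∧
      B1 T (pCoreOf 2 (K ⊔ T)) (wOf K ⊔ omegaCenterOf T) (pCoreOf 2 (K2 ⊔ T)) (wOf K2 ⊔ omegaCenterOf T) w1 w2 ∧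
      (T = S ∨ ∃ s ∈ S, s ∉ T ∧ s ∈ normalizer (T : Set G) ∧ s * s ∈ T ∧ K2 = MulAut.conj s • K) := by
  obtain ⟨K2, L2, p, B2, hcase⟩ := ex_pair g hT hTS w B
  obtain ⟨w1, k1⟩ := pk p.w1 p.B1 p.TZ.1
  obtain ⟨w2, k2⟩ := pk p.w2 B2 p.TZ.1
  refine ⟨K2, L2, w1, w2, p, B2, k1, k2, ?_, hcase⟩
  rcases hcase with rfl | ⟨s, hsS, hsT, hsn, hss, rfl⟩
  · obtain ⟨g', hT'⟩ := top_max g hT
    have am := p.am k1 k2
    rcases am.final p.c4 (by intro i; cases i <;> exact le_sup_right) with ⟨i, hi⟩ | ⟨hZ, i, hN, hc⟩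
    · cases i
      · have hi' : ¬ (wOf K2 ⊔ omegaCenterOf T) ≤ pCoreOf 2 (K ⊔ T) := hi
        apply b1 k1.pf k2.pf p.O1' le_sup_right le_sup_right
        intro h
        apply hi'
        refine (le_inf ((k2.pf.ZQ.trans k2.pf.QT).trans k1.pf.TP) ?_).trans k1.pf.CQ
        rw [le_centralizer_iff]
        exact h.trans k2.pf.QC
      · exact b1 k1.pf k2.pf p.O1' le_sup_right le_sup_right hi
    · exfalso
      cases i
      · exact asym_false g' hT' (p.symm' B2) p.B1 k2 k1 (hZ false) (hZ true) hN hc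
      · exact asym_false g' hT' p B2 k1 k2 (hZ true) (hZ false) hN hc
  · have h21 : MulAut.conj s • MulAut.conj s • K = K := by
      rw [← mul_smul, ← map_mul]
      exact conj_smul_eq_of_mem_normalizer (k1.PKn (k1.pf.TP hss))
    exact lt_b1 p k1 k2 hsn rfl h21

theorem side_2954 [Finite G] {T K Z : Subgroup G} {w : G} (k : PK T K (K ⊔ T) (pCoreOf 2 (K ⊔ T)) Z w)
    (hK : IsJComponent T K) (hZ : omegaCenterOf T = omegaCenterOf (Je 2 T)) (hQZ : pCoreOf 2 (K ⊔ T) = Z) {t : G} (ht : t ∈ T)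
    (htQ : t ∉ pCoreOf 2 (K ⊔ T)) (htt : t * t = 1) :
    (Nat.card (omegaCenterOf T) = 2 → Nonempty (↥(K ⊔ T) ≃* Equiv.Perm (Fin 4))) ∧
    (Nat.card (omegaCenterOf T) = 4 → Nonempty (↥(K ⊔ T) ≃* Equiv.Perm (Fin 4) × Multiplicative (ZMod 2))) := by
  haveI : Fact (Nat.Prime 2) := ⟨Nat.prime_two⟩
  obtain ⟨-, -, hHP, ⟨e⟩, hHX, hs, hXP⟩ := k.struct hK hZ hQZ ht htQ htt
  have hcX := k.cX
  constructor
  · intro h
    have h1 : Nat.card ↥(omegaCenterOf T ⊓ centralizer (K : Set G)) = 1 := by omega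
    rw [card_eq_one.mp h1, sup_bot_eq] at hs
    rw [← hs]
    exact ⟨e⟩
  · intro h
    have h1 : Nat.card ↥(omegaCenterOf T ⊓ centralizer (K : Set G)) = 2 := by omega
    obtain ⟨f⟩ := prod_iso hHX hs (hXP.trans (centralizer_le (SetLike.coe_subset_coe.mpr hHP)))
    have h2 : Nat.card (Multiplicative (ZMod 2)) = 2 := by simp
    exact ⟨f.trans (MulEquiv.prodCongr e (mulEquivOfPrimeCardEq h1 h2))⟩

/-- full data for the final theorems -/
theorem main_2954 [Finite G] {S M T : Subgroup G} (g : Gl S M) (hT : T ∈ maxStraddlingTwoSubgroups M) :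
    ∃ P₁ P₂ : Subgroup G, P₁ ≠ P₂ ∧ Cfsg.IsMaximalTwoLocal P₁ ∧ Cfsg.IsMaximalTwoLocal P₂ ∧
      Cfsg.IsSylowTwoIn T P₁ ∧ Cfsg.IsSylowTwoIn T P₂ ∧
      ((Nonempty (↥P₁ ≃* Equiv.Perm (Fin 4)) ∧ Nonempty (↥P₂ ≃* Equiv.Perm (Fin 4))) ∨
        (Nonempty (↥P₁ ≃* Equiv.Perm (Fin 4) × Multiplicative (ZMod 2)) ∧
          Nonempty (↥P₂ ≃* Equiv.Perm (Fin 4) × Multiplicative (ZMod 2)))) := by
  obtain ⟨S', g', hTS⟩ := g.wlog hT
  obtain ⟨K, hK⟩ := outside_nonempty g' hT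
  obtain ⟨L, hL, hKL, -⟩ := main_2950 g' hT hK
  obtain ⟨w, B⟩ := pw_of g' hT hK hL hKL
  obtain ⟨K2, L2, w1, w2, p, B2, k1, k2, b, -⟩ := main_b1 g' hT hTS w B
  have hcard : Nat.card ↥(pCoreOf 2 (K ⊔ T)) = Nat.card ↥(pCoreOf 2 (K2 ⊔ T)) := by
    rw [b.QZ1, b.QZ2, k1.cZ, k2.cZ]
  have hJT := b.JT k1.pf k2.pf hcard
  have hTZ := p.TZ.1
  have e1 := P_max p.w1 p.B1 k1 hTZ b.QZ1 hJT p.c4
  have e2 := P_max p.w2 B2 k2 hTZ b.QZ2 hJT p.c4
  obtain ⟨t1, ht1, ht1'⟩ := Set.not_subset.mp b.n21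
  obtain ⟨t2, ht2, ht2'⟩ := Set.not_subset.mp b.n12
  have sq1 : t1 * t1 = 1 := by
    have h1 : t1 ∈ wOf K2 ⊔ omegaCenterOf T := by rw [← b.QZ2]; exact ht1
    have := k2.pf.el.2 t1 h1; rwa [pow_two] at this
  have sq2 : t2 * t2 = 1 := by
    have h1 : t2 ∈ wOf K ⊔ omegaCenterOf T := by rw [← b.QZ1]; exact ht2
    have := k1.pf.el.2 t2 h1; rwa [pow_two] at this
  obtain ⟨a1, a2⟩ := side_2954 k1 p.w1.comp hTZ b.QZ1 (k2.pf.QT ht1) ht1' sq1
  obtain ⟨b1', b2'⟩ := side_2954 k2 p.w2.comp hTZ b.QZ2 (k1.pf.QT ht2) ht2' sq2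
  refine ⟨K ⊔ T, K2 ⊔ T, ?_, ?_, ?_, sylowTwo_iff.mpr k1.syl, sylowTwo_iff.mpr k2.syl, ?_⟩
  · rw [← e1, ← e2]; exact p.ne
  · rw [← e1]; exact p.w1.max
  · rw [← e2]; exact p.w2.max
  · rcases p.cards with ⟨h, -⟩ | ⟨h, -⟩
    · rw [← hTZ] at h
      exact Or.inl ⟨a1 h, b1' h⟩
    · rw [← hTZ] at h
      exact Or.inr ⟨a2 h, b2' h⟩

end CfsgLib.H2JC
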