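import Cfsg.Agent.EqBase
import Cfsg.Agent.LibH2JD14
import Cfsg.Agent.LibH2JE1
set_option autoImplicit false
set_option maxHeartbeats 400000
/-! J(T)-components, part 34: full data; the Sylow subgroup.  Seat helper2. -/
namespace CfsgLib.H2JC
open Subgroup Cfsg CfsgLib.Coprime CfsgLib.Coprime2 CfsgLib.H2Misc CfsgLib.H2Thomp CfsgLib.Cores CfsgLib.H2FF
open CfsgLib.SolvCoprime (IsSylowIn)
open CfsgLib.SolvBasic (mem_conj_smul normalizer_conj_smul)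
open CfsgLib.LE (pCoreOf_isPGroup pCoreOf_le le_pCoreOf normalizer_le_normalizer_pCoreOf le_normalizer_pCoreOf
  pCoreOf_le_pCoreOf_of_normal)
open scoped Pointwise commutatorElement

universe u

variable {G : Type u} [Group G]

theorem B1.symm' {T Q1 Z1 Q2 Z2 : Subgroup G} {w1 w2 : G} (b : B1 T Q1 Z1 Q2 Z2 w1 w2) : B1 T Q2 Z2 Q1 Z1 w2 w1 := by
  refine ⟨b.QZ2, b.QZ1, by rw [inf_comm]; exact b.D, b.ww.symm, fun t ht h => (b.inv t ht h).symm, ?_, b.n21, b.n12⟩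
  intro t ht
  obtain ⟨a, ha, c, hc, h⟩ := b.gen t⁻¹ (inv_mem ht)
  refine ⟨c⁻¹, inv_mem hc, a⁻¹, inv_mem ha, ?_⟩
  rw [← inv_inv t, h, mul_inv_rev]

theorem isPGroup_zpowers_of_pow {g : G} {n : ℕ} (h : g ^ 2 ^ n = 1) : IsPGroup 2 ↥(zpowers g) := by
  rintro ⟨x, k, rfl⟩
  refine ⟨n, Subtype.ext ?_⟩
  show (g ^ k) ^ 2 ^ n = 1
  rw [← zpow_natCast, ← zpow_mul, mul_comm, zpow_mul, zpow_natCast, h, one_zpow]

/-- full data for the final theorems -/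
structure FD (S T K1 K2 : Subgroup G) (w : G) : Prop where
  p : Pr S T K1 (K1 ⊔ T) K2 (K2 ⊔ T)
  B2 : Bs T (K2 ⊔ T)
  k1 : PK T K1 (K1 ⊔ T) (pCoreOf 2 (K1 ⊔ T)) (wOf K1 ⊔ omegaCenterOf T) w
  k2 : PK T K2 (K2 ⊔ T) (pCoreOf 2 (K2 ⊔ T)) (wOf K2 ⊔ omegaCenterOf T) w
  b : B1 T (pCoreOf 2 (K1 ⊔ T)) (wOf K1 ⊔ omegaCenterOf T) (pCoreOf 2 (K2 ⊔ T)) (wOf K2 ⊔ omegaCenterOf T) w w
  cs : T = S ∨ ∃ s ∈ S, s ∉ T ∧ s ∈ normalizer (T : Set G) ∧ s * s ∈ T ∧ K2 = MulAut.conj s • K1 ∧ K1 = MulAut.conj s • K2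

theorem FD.symm [Finite G] {S T K1 K2 : Subgroup G} {w : G} (f : FD S T K1 K2 w) : FD S T K2 K1 w := by
  refine ⟨f.p.symm' f.B2, f.p.B1, f.k2, f.k1, f.b.symm', ?_⟩
  rcases f.cs with h | ⟨s, h1, h2, h3, h4, h5, h6⟩
  · exact Or.inl h
  · exact Or.inr ⟨s, h1, h2, h3, h4, h6, h5⟩

theorem fd_of [Finite G] {S M T : Subgroup G} (g : Gl S M) (hT : T ∈ maxStraddlingTwoSubgroups M) :
    ∃ S' K1 K2 w, FD S' T K1 K2 w := by
  obtain ⟨S', g', hTS⟩ := g.wlog hT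
  obtain ⟨K, hK⟩ := outside_nonempty g' hT
  obtain ⟨L, hL, hKL, -⟩ := main_2950 g' hT hK
  obtain ⟨w, B⟩ := pw_of g' hT hK hL hKL
  obtain ⟨K2, L2, w1, w2, p, B2, k1, k2, b, hcs⟩ := main_b1 g' hT hTS w B
  have hcard : Nat.card ↥(pCoreOf 2 (K ⊔ T)) = Nat.card ↥(pCoreOf 2 (K2 ⊔ T)) := by
    rw [b.QZ1, b.QZ2, k1.cZ, k2.cZ]
  have hJT := b.JT k1.pf k2.pf hcard
  have hTZ := p.TZ.1
  have e1 := P_max p.w1 p.B1 k1 hTZ b.QZ1 hJT p.c4
  have e2 := P_max p.w2 B2 k2 hTZ b.QZ2 hJT p.c4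
  subst e1 e2
  have e3 := b.ww
  subst e3
  refine ⟨S', K, K2, w1, p, B2, k1, k2, b, ?_⟩
  rcases hcs with h | ⟨s, h1, h2, h3, h4, rfl⟩
  · exact Or.inl h
  · refine Or.inr ⟨s, h1, h2, h3, h4, rfl, ?_⟩
    rw [← mul_smul, ← map_mul]
    exact (conj_smul_eq_of_mem_normalizer (k1.PKn (k1.pf.TP h4))).symm

section
variable {S T K1 K2 : Subgroup G} {w : G}

theorem FD.S2 [Finite G] (f : FD S T K1 K2 w) : IsPGroup 2 S := by obtain ⟨P, rfl⟩ := f.p.syl; exact P.isPGroup'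

theorem FD.cQ [Finite G] (f : FD S T K1 K2 w) : Nat.card ↥(pCoreOf 2 (K1 ⊔ T)) = Nat.card ↥(pCoreOf 2 (K2 ⊔ T)) := by
  rw [f.b.QZ1, f.b.QZ2, f.k1.cZ, f.k2.cZ]

theorem FD.e1 [Finite G] (f : FD S T K1 K2 w) : ∀ x ∈ pCoreOf 2 (K1 ⊔ T), x * x = 1 := by
  intro x hx
  rw [f.b.QZ1] at hx
  have := f.k1.pf.el.2 x hx
  rwa [pow_two] at this

theorem FD.NQ [Finite G] (f : FD S T K1 K2 w) : normalizer (pCoreOf 2 (K1 ⊔ T) : Set G) = K1 ⊔ T := by
  apply le_antisymm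
  · have h1 : pCoreOf 2 (K1 ⊔ T) ≠ ⊥ := by
      intro h
      apply f.k1.pf.w1
      have := f.k1.pf.ZQ f.k1.pf.wZ
      rwa [h, mem_bot] at this
    exact f.p.w1.le_of (pCoreOf_isPGroup 2 _) h1 (f.k1.KP.trans f.k1.pf.PQ) ((JQ_le _ _).trans (f.k1.pf.TP.trans f.k1.pf.PQ))
  · exact f.k1.pf.PQ

theorem FD.conjQ [Finite G] (f : FD S T K1 K2 w) {v : G} (hv : v ∈ normalizer (T : Set G)) :
    MulAut.conj v • pCoreOf 2 (K1 ⊔ T) = pCoreOf 2 (K1 ⊔ T) ∨ MulAut.conj v • pCoreOf 2 (K1 ⊔ T) = pCoreOf 2 (K2 ⊔ T) := by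
  have hle : MulAut.conj v • pCoreOf 2 (K1 ⊔ T) ≤ pCoreOf 2 (K1 ⊔ T) ∨ MulAut.conj v • pCoreOf 2 (K1 ⊔ T) ≤ pCoreOf 2 (K2 ⊔ T) := by
    apply f.b.sub
    · exact ((Subgroup.pointwise_smul_le_pointwise_smul_iff).mpr f.k1.pf.QT).trans (conj_smul_eq_of_mem_normalizer hv).le
    · intro x hx
      rw [mem_conj_smul] at hx
      have := congrArg (fun y => v * y * v⁻¹) (f.e1 _ hx)
      simpa [mul_assoc] using this
  rcases hle with h | h
  · left; exact eq_of_le_of_card_ge h (by rw [card_conj_smul])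
  · right; exact eq_of_le_of_card_ge h (by rw [card_conj_smul, f.cQ])

theorem FD.nT [Finite G] (f : FD S T K1 K2 w) {v : G} (hv : v ∈ normalizer (T : Set G))
    (h : MulAut.conj v • pCoreOf 2 (K1 ⊔ T) = pCoreOf 2 (K1 ⊔ T)) : v ∈ T := by
  have h1 : v ∈ K1 ⊔ T := by
    rw [← f.NQ]; exact mem_normalizer_of_conj_smul_eq h
  set N := (K1 ⊔ T) ⊓ normalizer (T : Set G) with hN
  have hTN : T ≤ N := le_inf le_sup_right le_normalizer
  have hNP : N ≤ K1 ⊔ T := inf_le_left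
  have h2 : T.relIndex N * N.relIndex (K1 ⊔ T) = T.relIndex (K1 ⊔ T) := relIndex_mul_relIndex _ _ _ hTN hNP
  rw [f.k1.pf.i3] at h2
  rcases (Nat.dvd_prime Nat.prime_three).mp (Dvd.intro _ h2) with h3 | h3
  · exact (relIndex_eq_one.mp h3) ⟨h1, hv⟩
  · exfalso
    rw [h3] at h2
    have h4 : N.relIndex (K1 ⊔ T) = 1 := by omega
    exact f.k1.pf.nT ((relIndex_eq_one.mp h4).trans inf_le_right)

/-- elements of `N(T)` outside `T` swap -/
theorem FD.swap [Finite G] (f : FD S T K1 K2 w) {v : G} (hv : v ∈ normalizer (T : Set G)) (hvT : v ∉ T) :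
    MulAut.conj v • pCoreOf 2 (K1 ⊔ T) = pCoreOf 2 (K2 ⊔ T) ∧ MulAut.conj v • pCoreOf 2 (K2 ⊔ T) = pCoreOf 2 (K1 ⊔ T) := by
  constructor
  · exact (f.conjQ hv).resolve_left fun h => hvT (f.nT hv h)
  · exact (f.symm.conjQ hv).resolve_left fun h => hvT (f.symm.nT hv h)

theorem FD.par [Finite G] (f : FD S T K1 K2 w) {v v' : G} (hv : v ∈ normalizer (T : Set G)) (hvT : v ∉ T)
    (hv' : v' ∈ normalizer (T : Set G)) (hvT' : v' ∉ T) : v⁻¹ * v' ∈ T := by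
  apply f.nT (mul_mem (inv_mem hv) hv')
  rw [map_mul, mul_smul, (f.swap hv' hvT').1, ← (f.swap hv hvT).1, ← mul_smul, ← map_mul, inv_mul_cancel, map_one, one_smul]

theorem FD.Tgen [Finite G] (f : FD S T K1 K2 w) : T = pCoreOf 2 (K1 ⊔ T) ⊔ pCoreOf 2 (K2 ⊔ T) := by
  apply le_antisymm
  · intro t ht
    obtain ⟨a, ha, c, hc, rfl⟩ := f.b.gen t ht
    exact mul_mem (mem_sup_left ha) (mem_sup_right hc)
  · exact sup_le f.k1.pf.QT f.k2.pf.QT

/-- elementary abelian subgroups of order 8 in `N_S(T)` -/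
theorem FD.elA [Finite G] (f : FD S T K1 K2 w) (h4 : Nat.card (omegaCenterOf T) = 4) {A : Subgroup G} (hAS : A ≤ S)
    (hAN : A ≤ normalizer (T : Set G)) (hA : ∀ x ∈ A, x * x = 1) (hcA : Nat.card A = 8) : A ≤ T := by
  by_contra hcon
  obtain ⟨a, ha, haT⟩ := Set.not_subset.mp hcon
  obtain ⟨s1, s2⟩ := f.swap (hAN ha) haT
  have hcomm : ∀ x ∈ A, ∀ y ∈ A, x * y = y * x := by
    intro x hx y hy
    have h1 := hA _ (A.mul_mem hx hy)
    have h2 : x⁻¹ = x := inv_eq_of_mul_eq_one_left (hA x hx)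
    have h3 : y⁻¹ = y := inv_eq_of_mul_eq_one_left (hA y hy)
    calc x * y = (x * y)⁻¹ := (inv_eq_of_mul_eq_one_left h1).symm
      _ = y * x := by rw [mul_inv_rev, h2, h3]
  have h1 : MulAut.conj a • (A ⊓ T : Subgroup G) = A ⊓ T :=
    conj_smul_eq_of_mem_normalizer (inf_normalizer_le_normalizer_inf ⟨le_normalizer ha, hAN ha⟩)
  have h2 : A ⊓ T ≤ omegaCenterOf T := by
    rw [← f.b.D]
    rcases f.b.sub (inf_le_right : A ⊓ T ≤ T) (fun x hx => hA x hx.1) with h | h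
    · refine le_inf h ?_
      rw [← h1, ← s1]
      exact (Subgroup.pointwise_smul_le_pointwise_smul_iff).mpr h
    · refine le_inf ?_ h
      rw [← h1, ← s2]
      exact (Subgroup.pointwise_smul_le_pointwise_smul_iff).mpr h
  have h3 : (A ⊓ T).relIndex A = 2 := by
    apply relIndex_two_of inf_le_left ha (fun h => haT h.2)
    intro b hb
    by_cases hbT : b ∈ T
    · exact Or.inl ⟨hb, hbT⟩
    · exact Or.inr ⟨A.mul_mem (A.inv_mem ha) hb, f.par (hAN ha) haT (hAN hb) hbT⟩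
  have h5 := card_mul_relIndex (inf_le_left : A ⊓ T ≤ A)
  rw [h3, hcA] at h5
  have h6 : A ⊓ T = omegaCenterOf T := eq_of_le_of_card_ge h2 (by omega)
  have h7 : Nat.card ↥(omegaCenterOf T ⊓ centralizer (K1 : Set G)) = 2 := by
    have := f.k1.cX; omega
  obtain ⟨x, hx, hx1⟩ := exists_ne_of_card (X := omegaCenterOf T ⊓ centralizer (K1 : Set G)) (by rw [h7]; decide)
  obtain ⟨x0, x2, x3⟩ := mem_omegaCenterOf.mp hx.1
  rw [pow_two] at x3
  have hcx : centralizer ({x} : Set G) ≤ K1 ⊔ T :=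
    f.p.w1.cen_le x3 hx1 (mem_cen_sing hx.2) ((JQ_le _ _).trans (mem_cen_sing x2))
  have hxA : x ∈ A := by
    have : x ∈ A ⊓ T := by rw [h6]; exact hx.1
    exact this.1
  apply haT
  apply syl_inf f.S2 f.p.TS f.p.B1.syl (hAS ha)
  apply hcx
  rw [mem_centralizer_singleton_iff]
  exact hcomm a ha x hxA

theorem FD.cQ8 [Finite G] (f : FD S T K1 K2 w) (h4 : Nat.card (omegaCenterOf T) = 4) : Nat.card ↥(pCoreOf 2 (K1 ⊔ T)) = 8 := by
  rw [f.b.QZ1, f.k1.cZ, h4]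

theorem FD.conjT' [Finite G] (f : FD S T K1 K2 w) (h4 : Nat.card (omegaCenterOf T) = 4) {g : G}
    (h1 : MulAut.conj g • T ≤ S) (h2 : MulAut.conj g • T ≤ normalizer (T : Set G)) : MulAut.conj g • T = T := by
  apply eq_of_le_of_card_ge _ (by rw [card_conj_smul])
  have key : ∀ Q : Subgroup G, Q ≤ T → (∀ x ∈ Q, x * x = 1) → Nat.card Q = 8 → MulAut.conj g • Q ≤ T := by
    intro Q hQ hQe hQc
    have hle : MulAut.conj g • Q ≤ MulAut.conj g • T := (Subgroup.pointwise_smul_le_pointwise_smul_iff).mpr hQ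
    apply f.elA h4 (hle.trans h1) (hle.trans h2)
    · intro x hx
      rw [mem_conj_smul] at hx
      have := congrArg (fun y => g * y * g⁻¹) (hQe _ hx)
      simpa [mul_assoc] using this
    · rw [card_conj_smul]; exact hQc
  have e : MulAut.conj g • T = MulAut.conj g • pCoreOf 2 (K1 ⊔ T) ⊔ MulAut.conj g • pCoreOf 2 (K2 ⊔ T) := by
    rw [← smul_sup', ← f.Tgen]
  rw [e]
  exact sup_le (key _ f.k1.pf.QT f.e1 (f.cQ8 h4)) (key _ f.k2.pf.QT f.symm.e1 (f.symm.cQ8 h4))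

theorem FD.SN [Finite G] (f : FD S T K1 K2 w) (h4 : Nat.card (omegaCenterOf T) = 4) : S ≤ normalizer (T : Set G) := by
  have h1 : S ≤ S ⊓ normalizer (T : Set G) := by
    apply le_of_norm_inf f.S2
    have e : S ⊓ (S ⊓ normalizer (T : Set G)) = S ⊓ normalizer (T : Set G) := inf_eq_right.mpr inf_le_left
    rw [e]
    rintro g ⟨hg1, hg2⟩
    refine ⟨hg1, ?_⟩
    have h2 : MulAut.conj g • T ≤ S ⊓ normalizer (T : Set G) := by
      rw [← conj_smul_eq_of_mem_normalizer hg2]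
      exact (Subgroup.pointwise_smul_le_pointwise_smul_iff).mpr (le_inf f.p.TS le_normalizer)
    exact mem_normalizer_of_conj_smul_eq (f.conjT' h4 (h2.trans inf_le_left) (h2.trans inf_le_right))
  exact h1.trans inf_le_right

theorem FD.NT [Finite G] (f : FD S T K1 K2 w) (h4 : Nat.card (omegaCenterOf T) = 4) : normalizer (T : Set G) ≤ S := by
  intro g hg
  by_cases hgT : g ∈ T
  · exact f.p.TS hgT
  rcases f.cs with h | ⟨s, hs1, hs2, hs3, hs4, -⟩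
  · obtain ⟨P, hP⟩ := f.p.syl
    have h1 : g * g ∈ T := by
      have := f.par (inv_mem hg) (fun h => hgT (by simpa using T.inv_mem h)) hg hgT
      rwa [inv_inv] at this
    have hgP : g ∈ normalizer ((P : Subgroup G) : Set G) := by rw [hP, ← h]; exact hg
    have h2 : IsPGroup 2 ↥(zpowers g) := by
      rw [← h] at hP
      have h3 : g * g ∈ (P : Subgroup G) := by rw [hP]; exact h1
      obtain ⟨n, hn⟩ := P.isPGroup' ⟨g * g, h3⟩
      have h4 : (g * g) ^ 2 ^ n = 1 := congrArg Subtype.val hn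
      rw [← pow_two, ← pow_mul, ← pow_succ'] at h4
      exact isPGroup_zpowers_of_pow h4
    have h3 : IsPGroup 2 ↥(zpowers g ⊔ (P : Subgroup G)) :=
      h2.to_sup_of_normal_right' P.isPGroup' (by rw [zpowers_le]; exact hgP)
    have h4 := P.is_maximal' h3 le_sup_right
    rw [← hP, ← h4]
    exact mem_sup_left (mem_zpowers g)
  · have h1 := f.par hs3 hs2 hg hgT
    have e : g = s * (s⁻¹ * g) := by group
    rw [e]
    exact S.mul_mem hs1 (f.p.TS h1)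

theorem FD.key [Finite G] (f : FD S T K1 K2 w) (h4 : Nat.card (omegaCenterOf T) = 4) {g : G}
    (h : MulAut.conj g • T ≤ S) : g ∈ S :=
  f.NT h4 (mem_normalizer_of_conj_smul_eq (f.conjT' h4 h (h.trans (f.SN h4))))

end

end CfsgLib.H2JC
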