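import Cfsg.Agent.EqBase
import Cfsg.Agent.LibH2JE2
set_option autoImplicit false
set_option maxHeartbeats 400000
/-! J(T)-components, part 35: the subgroup generated by elements of odd order.  Seat helper2. -/
namespace CfsgLib.H2JC
open Subgroup Cfsg CfsgLib.Coprime CfsgLib.Coprime2 CfsgLib.H2Misc CfsgLib.H2Thomp CfsgLib.Cores CfsgLib.H2FF
open CfsgLib.SolvCoprime (IsSylowIn)
open CfsgLib.SolvBasic (mem_conj_smul normalizer_conj_smul)
open CfsgLib.LE (pCoreOf_isPGroup pCoreOf_le le_pCoreOf normalizer_le_normalizer_pCoreOf le_normalizer_pCoreOf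
  pCoreOf_le_pCoreOf_of_normal)
open scoped Pointwise commutatorElement

universe u

variable {G : Type u} [Group G]

section
variable {S T K1 K2 : Subgroup G} {w : G}

theorem FD.Wle [Finite G] (f : FD S T K1 K2 w) : wOf K1 ≤ pCoreOf 2 (K1 ⊔ T) :=
  ((wOf_le_omega K1).trans (omega_le _)).trans f.k1.Oq

theorem FD.exT [Finite G] (f : FD S T K1 K2 w) : ∃ t ∈ wOf K2, t ∉ pCoreOf 2 (K1 ⊔ T) ∧ t * t = 1 := by
  by_contra hcon
  push Not at hcon
  have h1 : ∀ t ∈ wOf K2, t * t = 1 := fun t ht => f.symm.e1 t (f.symm.Wle ht)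
  apply f.b.n21
  have h2 : pCoreOf 2 (K2 ⊔ T) = wOf K2 ⊔ omegaCenterOf T := f.b.QZ2
  rw [h2]
  refine sup_le ?_ ?_
  · intro t ht
    by_contra h
    exact hcon t ht h (h1 t ht)
  · rw [← f.b.D]; exact inf_le_left

theorem FD.Wnle [Finite G] (f : FD S T K1 K2 w) : ¬ wOf K2 ≤ pCoreOf 2 (K1 ⊔ T) := by
  obtain ⟨t, h1, h2, -⟩ := f.exT
  exact fun h => h2 (h h1)

theorem FD.cW [Finite G] (f : FD S T K1 K2 w) : Nat.card (wOf K1) = 4 := f.p.w1.comp.2.2.2.2.1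

theorem FD.Weq [Finite G] (f : FD S T K1 K2 w) {t : G} (ht : t ∈ wOf K2) (htQ : t ∉ pCoreOf 2 (K1 ⊔ T)) :
    K1 ⊔ zpowers t = K1 ⊔ wOf K2 := by
  apply le_antisymm
  · exact sup_le le_sup_left ((zpowers_le.mpr ht).trans le_sup_right)
  · refine sup_le le_sup_left ?_
    intro x hx
    have hwK : w ∈ K1 := (pCoreOf_le 2 K1) (((wOf_le_omega K1).trans (omega_le _)) f.k1.wW)
    have ht1 : t ≠ 1 := fun h => htQ (h ▸ one_mem _)
    have htw : w ≠ t := fun h => htQ (h ▸ f.Wle f.k1.wW)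
    have hel : IsElementaryAbelian 2 (wOf K2) := (kd f.p.T2 f.p.w2.comp).el
    rcases four_cases f.symm.cW hel f.k2.wW ht f.k1.pf.w1 ht1 htw hx with h | h | h | h
    · rw [h]; exact one_mem _
    · rw [h]; exact mem_sup_left hwK
    · rw [h]; exact mem_sup_right (mem_zpowers t)
    · rw [h]; exact mul_mem (mem_sup_left hwK) (mem_sup_right (mem_zpowers t))

/-- the structure of `K1 ⊔ W2` -/
theorem FD.M [Finite G] (f : FD S T K1 K2 w) :
    pCoreOf 2 K1 = wOf K1 ∧ K1 ⊔ wOf K2 ≤ K1 ⊔ T ∧ Nonempty (↥(K1 ⊔ wOf K2) ≃* Equiv.Perm (Fin 4)) ∧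
      (K1 ⊔ wOf K2) ⊓ (omegaCenterOf T ⊓ centralizer (K1 : Set G)) = ⊥ ∧
      (K1 ⊔ wOf K2) ⊔ (omegaCenterOf T ⊓ centralizer (K1 : Set G)) = K1 ⊔ T ∧
      (omegaCenterOf T ⊓ centralizer (K1 : Set G)) ≤ centralizer ((K1 ⊔ T : Subgroup G) : Set G) := by
  obtain ⟨t, h1, h2, h3⟩ := f.exT
  have ht : t ∈ T := f.k2.pf.QT (f.symm.Wle h1)
  obtain ⟨a1, -, a3, a4, a5, a6, a7⟩ := f.k1.struct f.p.w1.comp f.p.TZ.1 f.b.QZ1 ht h2 h3
  rw [f.Weq h1 h2] at a3 a4 a5 a6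
  exact ⟨a1, a3, a4, a5, a6, a7⟩

theorem FD.cM [Finite G] (f : FD S T K1 K2 w) : Nat.card ↥(K1 ⊔ wOf K2) = 24 := by
  obtain ⟨-, -, ⟨e⟩, -⟩ := f.M
  rw [Nat.card_congr e.toEquiv, Nat.card_eq_fintype_card, Fintype.card_perm, Fintype.card_fin]; rfl

theorem FD.TW [Finite G] (f : FD S T K1 K2 w) : T ≤ normalizer (wOf K1 : Set G) :=
  (f.k1.pf.TP.trans f.k1.PKn).trans (wOf_normalizer K1)

theorem FD.Winf [Finite G] (f : FD S T K1 K2 w) : wOf K1 ⊓ wOf K2 = zpowers w := by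
  have hw2 : Nat.card (zpowers w) = 2 := by
    rw [Nat.card_zpowers]; exact orderOf_eq_prime (by rw [pow_two]; exact f.k1.pf.w2) f.k1.pf.w1
  symm
  apply eq_of_le_of_card_ge
  · rw [zpowers_le]; exact ⟨f.k1.wW, f.k2.wW⟩
  · rw [hw2]
    by_contra h
    have h1 := card_dvd_of_le (inf_le_left : wOf K1 ⊓ wOf K2 ≤ wOf K1)
    rw [f.cW] at h1
    have h2 : Nat.card ↥(wOf K1 ⊓ wOf K2) = 4 := by
      have h3 := Nat.le_of_dvd (by norm_num) h1
      have h4 : Nat.card ↥(wOf K1 ⊓ wOf K2) = 3 ∨ Nat.card ↥(wOf K1 ⊓ wOf K2) = 4 := by omega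
      rcases h4 with h4 | h4
      · rw [h4] at h1; omega
      · exact h4
    have h3 : wOf K1 ⊓ wOf K2 = wOf K2 := eq_of_le_of_card_ge inf_le_right (by rw [h2, f.symm.cW])
    apply f.Wnle
    rw [← h3]
    exact inf_le_left.trans f.Wle

theorem FD.cT0 [Finite G] (f : FD S T K1 K2 w) : Nat.card ↥(wOf K1 ⊔ wOf K2) = 8 := by
  have hw2 : Nat.card (zpowers w) = 2 := by
    rw [Nat.card_zpowers]; exact orderOf_eq_prime (by rw [pow_two]; exact f.k1.pf.w2) f.k1.pf.w1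
  have h1 : wOf K2 ≤ normalizer (wOf K1 : Set G) := (f.symm.Wle.trans f.k2.pf.QT).trans f.TW
  have h2 := card_sup_mul_card_inf h1
  rw [inf_comm, f.Winf, hw2, f.cW, f.symm.cW, sup_comm] at h2
  omega

theorem FD.T0T [Finite G] (f : FD S T K1 K2 w) : wOf K1 ⊔ wOf K2 ≤ T :=
  sup_le (f.Wle.trans f.k1.pf.QT) (f.symm.Wle.trans f.k2.pf.QT)

theorem FD.WK [Finite G] (f : FD S T K1 K2 w) : wOf K1 ≤ K1 := ((wOf_le_omega K1).trans (omega_le _)).trans (pCoreOf_le 2 K1)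

theorem FD.T0M [Finite G] (f : FD S T K1 K2 w) : wOf K1 ⊔ wOf K2 ≤ K1 ⊔ wOf K2 :=
  sup_le_sup_right f.WK _

theorem FD.cT [Finite G] (f : FD S T K1 K2 w) : Nat.card T = 4 * Nat.card (omegaCenterOf T) := by
  have h1 := card_mul_relIndex f.k1.pf.QT
  rw [f.k1.pf.i2, f.b.QZ1, f.k1.cZ] at h1
  omega

theorem FD.XP [Finite G] (f : FD S T K1 K2 w) :
    (omegaCenterOf T ⊓ centralizer (K1 : Set G)) ≤ centralizer ((K1 ⊔ T : Subgroup G) : Set G) := f.M.2.2.2.2.2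

theorem FD.T0X [Finite G] (f : FD S T K1 K2 w) : (wOf K1 ⊔ wOf K2) ⊓ (omegaCenterOf T ⊓ centralizer (K1 : Set G)) = ⊥ := by
  rw [eq_bot_iff, ← f.M.2.2.2.1]
  exact inf_le_inf_right _ f.T0M

theorem FD.Teq [Finite G] (f : FD S T K1 K2 w) : (wOf K1 ⊔ wOf K2) ⊔ (omegaCenterOf T ⊓ centralizer (K1 : Set G)) = T := by
  have hXT : omegaCenterOf T ⊓ centralizer (K1 : Set G) ≤ T := fun x hx => (mem_omegaCenterOf.mp hx.1).1
  apply eq_of_le_of_card_ge (sup_le f.T0T hXT)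
  have h1 : omegaCenterOf T ⊓ centralizer (K1 : Set G) ≤ normalizer ((wOf K1 ⊔ wOf K2 : Subgroup G) : Set G) := by
    refine (f.XP.trans (centralizer_le ?_)).trans (centralizer_le_normalizer _)
    exact SetLike.coe_subset_coe.mpr (f.T0T.trans le_sup_right)
  have h2 := card_sup_mul_card_inf h1
  rw [inf_comm (omegaCenterOf T ⊓ centralizer (K1 : Set G)) (wOf K1 ⊔ wOf K2), f.T0X, card_bot, mul_one, f.cT0,
    sup_comm (omegaCenterOf T ⊓ centralizer (K1 : Set G)) (wOf K1 ⊔ wOf K2)] at h2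
  rw [h2, f.cT, f.k1.cX]
  apply le_of_eq; ring

theorem FD.MM [Finite G] (f : FD S T K1 K2 w) : (K1 ⊔ wOf K2) ⊓ (K2 ⊔ wOf K1) = wOf K1 ⊔ wOf K2 := by
  have h0 : wOf K1 ⊔ wOf K2 ≤ (K1 ⊔ wOf K2) ⊓ (K2 ⊔ wOf K1) := by
    refine le_inf f.T0M ?_
    rw [sup_comm]; exact f.symm.T0M
  symm
  apply eq_of_le_of_card_ge h0
  rw [f.cT0]
  have h1 := card_dvd_of_le h0
  have h2 := card_dvd_of_le (inf_le_left : (K1 ⊔ wOf K2) ⊓ (K2 ⊔ wOf K1) ≤ K1 ⊔ wOf K2)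
  rw [f.cT0] at h1
  rw [f.cM] at h2
  by_contra h3
  have h4 : Nat.card ↥((K1 ⊔ wOf K2) ⊓ (K2 ⊔ wOf K1)) = 24 := by
    obtain ⟨a, ha⟩ := h1
    obtain ⟨b, hb⟩ := h2
    have h5 : Nat.card ↥((K1 ⊔ wOf K2) ⊓ (K2 ⊔ wOf K1)) ≤ 24 := Nat.le_of_dvd (by norm_num) ⟨b, hb⟩
    have h6 : a = 2 ∨ a = 3 := by omega
    rcases h6 with rfl | rfl
    · rw [ha] at hb; omega
    · exact ha
  have h5 : (K1 ⊔ wOf K2) ⊓ (K2 ⊔ wOf K1) = K1 ⊔ wOf K2 := eq_of_le_of_card_ge inf_le_left (by rw [h4, f.cM])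
  have h6 : K1 ≤ K2 ⊔ T := by
    refine le_trans ?_ f.symm.M.2.1
    refine le_trans ?_ (inf_le_right : (K1 ⊔ wOf K2) ⊓ (K2 ⊔ wOf K1) ≤ _)
    rw [h5]; exact le_sup_left
  exact f.p.ne (f.p.w1.uniq _ f.p.w2.max h6 ((JQ_le _ _).trans le_sup_right)).symm

theorem FD.T0n [Finite G] (f : FD S T K1 K2 w) : T ≤ normalizer ((wOf K1 ⊔ wOf K2 : Subgroup G) : Set G) :=
  (le_inf f.TW f.symm.TW).trans (normalizer_inf_normalizer_le_normalizer_sup _ _)

/-- the swap case -/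
theorem FD.cs' [Finite G] (f : FD S T K1 K2 w) (h4 : Nat.card (omegaCenterOf T) = 4) {y : G} (hy : y ∈ S) (hyT : y ∉ T) :
    MulAut.conj y • K1 = K2 ∧ MulAut.conj y • K2 = K1 := by
  rcases f.cs with h | ⟨s, hs1, hs2, hs3, hs4, hs5, hs6⟩
  · exact absurd (h ▸ hy) hyT
  · have h1 := f.par hs3 hs2 (f.SN h4 hy) hyT
    have e : y = s * (s⁻¹ * y) := by group
    constructor
    · rw [e, map_mul, mul_smul, conj_smul_eq_of_mem_normalizer (f.k1.PKn (f.k1.pf.TP h1)), ← hs5]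
    · rw [e, map_mul, mul_smul, conj_smul_eq_of_mem_normalizer (f.k2.PKn (f.k2.pf.TP h1)), ← hs6]

theorem FD.csW [Finite G] (f : FD S T K1 K2 w) (h4 : Nat.card (omegaCenterOf T) = 4) {y : G} (hy : y ∈ S) (hyT : y ∉ T) :
    MulAut.conj y • wOf K1 = wOf K2 ∧ MulAut.conj y • wOf K2 = wOf K1 := by
  obtain ⟨h1, h2⟩ := f.cs' h4 hy hyT
  rw [← wOf_smul, ← wOf_smul, h1, h2]
  exact ⟨rfl, rfl⟩

theorem FD.T0S [Finite G] (f : FD S T K1 K2 w) (h4 : Nat.card (omegaCenterOf T) = 4) :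
    S ≤ normalizer ((wOf K1 ⊔ wOf K2 : Subgroup G) : Set G) := by
  intro y hy
  by_cases hyT : y ∈ T
  · exact f.T0n hyT
  · obtain ⟨h1, h2⟩ := f.csW h4 hy hyT
    apply mem_normalizer_of_conj_smul_eq
    rw [smul_sup', h1, h2, sup_comm]

theorem FD.wS [Finite G] (f : FD S T K1 K2 w) (h4 : Nat.card (omegaCenterOf T) = 4) {y : G} (hy : y ∈ S) : y * w = w * y := by
  by_cases hyT : y ∈ T
  · exact mem_centralizer_iff.mp f.k1.pf.wT y hyT
  · obtain ⟨h1, h2⟩ := f.csW h4 hy hyT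
    have h3 : MulAut.conj y • zpowers w = zpowers w := by
      rw [← f.Winf]
      apply eq_of_le_of_card_ge _ (by rw [card_conj_smul])
      refine le_inf ?_ ?_
      · rw [← h2]; exact (Subgroup.pointwise_smul_le_pointwise_smul_iff).mpr inf_le_right
      · rw [← h1]; exact (Subgroup.pointwise_smul_le_pointwise_smul_iff).mpr inf_le_left
    have h5 : y * w * y⁻¹ ∈ zpowers w := (mem_normalizer_iff.mp (mem_normalizer_of_conj_smul_eq h3) w).mp (mem_zpowers w)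
    have hw2 : Nat.card (zpowers w) = 2 := by
      rw [Nat.card_zpowers]; exact orderOf_eq_prime (by rw [pow_two]; exact f.k1.pf.w2) f.k1.pf.w1
    have h6 : y * w * y⁻¹ ≠ 1 := by
      intro h
      apply f.k1.pf.w1
      have := congrArg (fun z => y⁻¹ * z * y) h
      simpa [mul_assoc] using this
    have h7 := two_eq hw2 h5 (mem_zpowers w) h6 f.k1.pf.w1
    calc y * w = (y * w * y⁻¹) * y := by group
      _ = w * y := by rw [h7]

theorem FD.wZS [Finite G] (f : FD S T K1 K2 w) (h4 : Nat.card (omegaCenterOf T) = 4) : w ∈ omegaCenterOf S := by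
  refine mem_omegaCenterOf.mpr ⟨f.p.TS ((mem_omegaCenterOf.mp f.k1.wZ0).1), mem_centralizer_iff.mpr fun y hy => f.wS h4 hy, ?_⟩
  rw [pow_two]; exact f.k1.pf.w2

theorem FD.comS [Finite G] (f : FD S T K1 K2 w) (h4 : Nat.card (omegaCenterOf T) = 4) :
    commutator S ≤ (wOf K1 ⊔ wOf K2).subgroupOf S := by
  haveI : Fact (Nat.Prime 2) := ⟨Nat.prime_two⟩
  haveI hn : ((wOf K1 ⊔ wOf K2).subgroupOf S).Normal := normal_subgroupOf_of_le_normalizer (f.T0S h4)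
  apply Subgroup.Normal.quotient_commutative_iff_commutator_le.mp
  have h1 : Nat.card (S ⧸ (wOf K1 ⊔ wOf K2).subgroupOf S) = (wOf K1 ⊔ wOf K2).relIndex S := rfl
  have h2 := relIndex_mul_relIndex _ _ _ f.T0T f.p.TS
  have h3 : (wOf K1 ⊔ wOf K2).relIndex T = 2 := by
    have h5 := card_mul_relIndex f.T0T
    rw [f.cT0, f.cT, h4] at h5
    omega
  rw [h3, ← h1] at h2
  rcases f.cs with h | ⟨s, hs1, hs2, hs3, -⟩
  · have h5 : T.relIndex S = 1 := by rw [h]; exact relIndex_self _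
    rw [h5, mul_one] at h2
    haveI := isCyclic_of_prime_card (p := 2) h2.symm
    exact ⟨⟨fun a b => (IsCyclic.commGroup (α := (S ⧸ (wOf K1 ⊔ wOf K2).subgroupOf S))).mul_comm a b⟩⟩
  · have h5 : T.relIndex S = 2 := by
      apply relIndex_two_of f.p.TS hs1 hs2
      intro b hb
      by_cases hbT : b ∈ T
      · exact Or.inl hbT
      · exact Or.inr (f.par hs3 hs2 (f.SN h4 hb) hbT)
    rw [h5] at h2
    exact IsPGroup.isMulCommutative_of_card_eq_prime_sq (p := 2) (by rw [← h2]; norm_num)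

end

end CfsgLib.H2JC
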