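import Cfsg.Agent.EqBase
import Cfsg.Agent.LibH2JE3
set_option autoImplicit false
set_option maxHeartbeats 400000
/-! J(T)-components, part 36: maximal 2-local subgroups of the subgroup generated by elements of odd order.  Seat helper2. -/
namespace CfsgLib.H2JC
open Subgroup Cfsg CfsgLib.Coprime CfsgLib.Coprime2 CfsgLib.H2Misc CfsgLib.H2Thomp CfsgLib.Cores CfsgLib.H2FF
open CfsgLib.SolvCoprime (IsSylowIn)
open CfsgLib.SolvBasic (mem_conj_smul normalizer_conj_smul)
open CfsgLib.LE (pCoreOf_isPGroup pCoreOf_le le_pCoreOf normalizer_le_normalizer_pCoreOf le_normalizer_pCoreOf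
  pCoreOf_le_pCoreOf_of_normal)
open scoped Pointwise commutatorElement

universe u

variable {G : Type u} [Group G]

theorem two_le_of_norm [Finite G] (P : Sylow 2 G) {Y : Subgroup G} (hY : IsPGroup 2 Y)
    (h : Y ≤ normalizer ((P : Subgroup G) : Set G)) : Y ≤ (P : Subgroup G) := by
  have h3 : IsPGroup 2 ↥(Y ⊔ (P : Subgroup G)) := hY.to_sup_of_normal_right' P.isPGroup' h
  have h4 := P.is_maximal' h3 le_sup_right
  rw [← h4]; exact le_sup_left

/-- the subgroup generated by the elements of odd order -/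
def Od (G : Type u) [Group G] : Subgroup G := closure {g : G | Odd (orderOf g)}

instance : (Od G).Normal := by
  constructor
  intro n hn g
  have h1 : Od G ≤ (Od G).comap (MulAut.conj g).toMonoidHom := by
    refine (closure_le _).mpr ?_
    intro x hx
    refine subset_closure ?_
    have e : orderOf ((MulAut.conj g).toMonoidHom x) = orderOf x :=
      orderOf_injective (MulAut.conj g).toMonoidHom (MulAut.conj g).injective x
    rw [Set.mem_setOf_eq, e]; exact hx
  exact h1 hn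

section
variable {S T K1 K2 : Subgroup G} {w : G}

theorem FD.c24 [Finite G] (f : FD S T K1 K2 w) : Nat.card (omegaCenterOf T) = 2 ∨ Nat.card (omegaCenterOf T) = 4 := by
  rw [f.p.TZ.1]
  rcases f.p.cards with ⟨h, -⟩ | ⟨h, -⟩
  · exact Or.inl h
  · exact Or.inr h

theorem FD.KO [Finite G] (f : FD S T K1 K2 w) : K1 ≤ Od G := by
  rw [← (cp_of f.p.T2 f.p.w1.comp).odd]
  exact closure_mono fun x hx => hx.2

theorem FD.MO [Finite G] (f : FD S T K1 K2 w) : K1 ⊔ wOf K2 ≤ Od G := sup_le f.KO (f.symm.WK.trans f.symm.KO)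

theorem FD.XO [Finite G] (f : FD S T K1 K2 w) : Od G ⊓ (omegaCenterOf T ⊓ centralizer (K1 : Set G)) = ⊥ := by
  rw [eq_bot_iff]
  rintro x ⟨hxO, hx⟩
  rw [mem_bot]
  by_contra hx1
  rcases f.c24 with h2 | h4
  · apply hx1
    have h3 := f.k1.cX
    have h4 : Nat.card ↥(omegaCenterOf T ⊓ centralizer (K1 : Set G)) = 1 := by omega
    rw [card_eq_one.mp h4] at hx
    exact mem_bot.mp hx
  · obtain ⟨hxT, hxc, hx2⟩ := mem_omegaCenterOf.mp hx.1
    rw [pow_two] at hx2
    refine CfsgLib.H2JE.not_mem_closure_odd f.S2 f.p.TS hxT hx2 (fun t ht => mem_centralizer_iff.mp hxc t ht) ?_ ?_ hxO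
    · intro g hg
      have h5 : MulAut.conj g⁻¹ • T ≤ S := by
        intro y hy
        rw [mem_conj_smul, inv_inv] at hy
        have := hg _ hy
        have e : g⁻¹ * (g * y * g⁻¹) * g = y := by group
        rwa [e] at this
      have := S.inv_mem (f.key h4 h5)
      rwa [inv_inv] at this
    · intro h
      have h5 := f.comS h4 h
      rw [mem_subgroupOf] at h5
      apply hx1
      have h6 : x ∈ (wOf K1 ⊔ wOf K2) ⊓ (omegaCenterOf T ⊓ centralizer (K1 : Set G)) := ⟨h5, hx⟩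
      rwa [f.T0X, mem_bot] at h6

theorem FD.PO [Finite G] (f : FD S T K1 K2 w) : Od G ⊓ (K1 ⊔ T) = K1 ⊔ wOf K2 := by
  obtain ⟨-, h1, -, h2, h3, h4⟩ := f.M
  apply le_antisymm _ (le_inf f.MO h1)
  rintro y ⟨hy1, hy2⟩
  rw [← h3] at hy2
  have h5 : omegaCenterOf T ⊓ centralizer (K1 : Set G) ≤ normalizer ((K1 ⊔ wOf K2 : Subgroup G) : Set G) :=
    (h4.trans (centralizer_le (SetLike.coe_subset_coe.mpr h1))).trans (centralizer_le_normalizer _)
  obtain ⟨m, hm, x, hx, rfl⟩ := (mem_sup_left_norm h5).mp hy2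
  have h6 : x ∈ Od G ⊓ (omegaCenterOf T ⊓ centralizer (K1 : Set G)) := by
    refine ⟨?_, hx⟩
    have := (Od G).mul_mem ((Od G).inv_mem (f.MO hm)) hy1
    rwa [inv_mul_cancel_left] at this
  rw [f.XO, mem_bot] at h6
  rw [h6, mul_one]; exact hm

theorem FD.TO [Finite G] (f : FD S T K1 K2 w) : Od G ⊓ T = wOf K1 ⊔ wOf K2 := by
  apply le_antisymm _ (le_inf (f.T0M.trans f.MO) f.T0T)
  rintro y ⟨hy1, hy2⟩
  rw [← f.Teq] at hy2
  have h1 : omegaCenterOf T ⊓ centralizer (K1 : Set G) ≤ normalizer ((wOf K1 ⊔ wOf K2 : Subgroup G) : Set G) := by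
    refine (f.XP.trans (centralizer_le ?_)).trans (centralizer_le_normalizer _)
    exact SetLike.coe_subset_coe.mpr (f.T0T.trans le_sup_right)
  obtain ⟨m, hm, x, hx, rfl⟩ := (mem_sup_left_norm h1).mp hy2
  have h6 : x ∈ Od G ⊓ (omegaCenterOf T ⊓ centralizer (K1 : Set G)) := by
    refine ⟨?_, hx⟩
    have := (Od G).mul_mem ((Od G).inv_mem (f.MO (f.T0M hm))) hy1
    rwa [inv_mul_cancel_left] at this
  rw [f.XO, mem_bot] at h6
  rw [h6, mul_one]; exact hm

theorem FD.NW [Finite G] (f : FD S T K1 K2 w) : Od G ⊓ normalizer (wOf K1 : Set G) = K1 ⊔ wOf K2 := by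
  have h1 : normalizer (wOf K1 : Set G) = K1 ⊔ T := by
    apply le_antisymm
    · have hne : wOf K1 ≠ ⊥ := by
        intro h
        have := f.cW
        rw [h, card_bot] at this
        omega
      exact f.p.w1.le_of (f.p.T2.to_le (f.Wle.trans f.k1.pf.QT)) hne ((f.k1.KP.trans f.k1.PKn).trans (wOf_normalizer K1))
        ((JQ_le _ _).trans f.TW)
    · exact f.k1.PKn.trans (wOf_normalizer K1)
  rw [h1, f.PO]

/-- `C(w)` in the case `T < S` or not -/
theorem FD.CwS [Finite G] (f : FD S T K1 K2 w) (h4 : Nat.card (omegaCenterOf T) = 4) {y s : G} (hs : s ∈ S) (hsT : s ∉ T)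
    {Y : Subgroup G} (hY : IsPGroup 2 Y) (hy : y ∈ Y) (hyw : y * w = w * y) : y ∈ S := by
  have h2 : Nat.card ↥(omegaCenterOf T ⊓ centralizer (K1 : Set G)) = 2 := by
    have := f.k1.cX; omega
  obtain ⟨x, hx, hx1⟩ := exists_ne_of_card (X := omegaCenterOf T ⊓ centralizer (K1 : Set G)) (by rw [h2]; decide)
  obtain ⟨c, hc1, hcZ, hZc⟩ := f.p.Zc hs hsT hx.1 hx.2 hx1
  have hc2 : Nat.card (omegaCenterOf S) = 2 := by
    rw [hZc, Nat.card_zpowers]
    have h3 : c ∈ omegaCenterOf S := by rw [hZc]; exact mem_zpowers c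
    exact orderOf_eq_prime (mem_omegaCenterOf.mp h3).2.2 hc1
  have hZw : omegaCenterOf S = zpowers w := (zp_two hc2 (f.wZS h4) f.k1.pf.w1).symm
  obtain ⟨P, rfl⟩ := f.p.syl
  have h5 : y ∈ normalizer ((P : Subgroup G) : Set G) := by
    apply f.p.hyp.Z P
    rw [hZw, zpowers_eq_closure, centralizer_closure, mem_centralizer_singleton_iff]
    exact hyw
  have h6 : zpowers y ≤ (P : Subgroup G) :=
    two_le_of_norm P (hY.to_le (by rw [zpowers_le]; exact hy)) (by rw [zpowers_le]; exact h5)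
  exact h6 (mem_zpowers y)

theorem FD.ZT0 [Finite G] (f : FD S T K1 K2 w) (h4 : Nat.card (omegaCenterOf T) = 4) : omegaCenterOf T ⊓ (wOf K1 ⊔ wOf K2) = zpowers w := by
  have hw2 : Nat.card (zpowers w) = 2 := by
    rw [Nat.card_zpowers]; exact orderOf_eq_prime (by rw [pow_two]; exact f.k1.pf.w2) f.k1.pf.w1
  symm
  apply eq_of_le_of_card_ge
  · rw [zpowers_le]; exact ⟨f.k1.wZ0, mem_sup_left f.k1.wW⟩
  · rw [hw2]
    by_contra h
    have h1 := card_dvd_of_le (inf_le_left : omegaCenterOf T ⊓ (wOf K1 ⊔ wOf K2) ≤ omegaCenterOf T)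
    rw [h4] at h1
    have h2 : Nat.card ↥(omegaCenterOf T ⊓ (wOf K1 ⊔ wOf K2)) = 4 := by
      have h3 := Nat.le_of_dvd (by norm_num) h1
      have h4 : Nat.card ↥(omegaCenterOf T ⊓ (wOf K1 ⊔ wOf K2)) = 3 ∨ Nat.card ↥(omegaCenterOf T ⊓ (wOf K1 ⊔ wOf K2)) = 4 := by omega
      rcases h4 with h4 | h4
      · rw [h4] at h1; omega
      · exact h4
    have h3 : omegaCenterOf T ⊓ (wOf K1 ⊔ wOf K2) = omegaCenterOf T := eq_of_le_of_card_ge inf_le_left (by rw [h2, h4])
    have h5 : omegaCenterOf T ⊓ centralizer (K1 : Set G) ≤ ⊥ := by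
      rw [← f.T0X]
      refine le_inf (inf_le_left.trans ?_) le_rfl
      rw [← h3]; exact inf_le_right
    have h6 := f.k1.cX
    rw [le_bot_iff.mp h5, card_bot] at h6
    omega

/-- `U ⊓ T0 ≤ Q1` -/
theorem FD.UT0 [Finite G] (f : FD S T K1 K2 w) {U : Subgroup G} (hU2 : IsPGroup 2 U)
    (hMU : K1 ⊔ wOf K2 ≤ normalizer (U : Set G)) : U ⊓ (K1 ⊔ wOf K2) ≤ pCoreOf 2 (K1 ⊔ T) := by
  obtain ⟨-, h1, -, h2, h3, h4⟩ := f.M
  apply le_pCoreOf (inf_le_right.trans h1) _ (hU2.to_le inf_le_left)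
  rw [← h3]
  refine sup_le (le_nor_inf hMU le_normalizer) ?_
  refine (h4.trans (centralizer_le ?_)).trans (centralizer_le_normalizer _)
  exact SetLike.coe_subset_coe.mpr (inf_le_right.trans h1)

theorem FD.maxO [Finite G] (f : FD S T K1 K2 w) {U : Subgroup G} (hU2 : IsPGroup 2 U) (hU1 : U ≠ ⊥) (hUO : U ≤ Od G)
    (hMU : K1 ⊔ wOf K2 ≤ normalizer (U : Set G)) : Od G ⊓ normalizer (U : Set G) ≤ K1 ⊔ wOf K2 := by
  haveI : Fact (Nat.Prime 2) := ⟨Nat.prime_two⟩
  have st1 : T ≤ normalizer (U : Set G) → Od G ⊓ normalizer (U : Set G) ≤ K1 ⊔ wOf K2 := by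
    intro h
    have h1 := f.p.w1.le_of hU2 hU1 (le_sup_left.trans hMU) ((JQ_le _ _).trans h)
    exact (inf_le_inf_left _ h1).trans f.PO.le
  have hT0U : wOf K1 ⊔ wOf K2 ≤ normalizer (U : Set G) := f.T0M.trans hMU
  by_cases hX : omegaCenterOf T ⊓ centralizer (K1 : Set G) ≤ normalizer (U : Set G)
  · apply st1
    conv_lhs => rw [← f.Teq]
    exact sup_le hT0U hX
  exfalso
  have h4 : Nat.card (omegaCenterOf T) = 4 := by
    rcases f.c24 with h | h
    · exfalso
      apply hX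
      have h2 := f.k1.cX
      have h3 : Nat.card ↥(omegaCenterOf T ⊓ centralizer (K1 : Set G)) = 1 := by omega
      rw [card_eq_one.mp h3]; exact bot_le
    · exact h
  have hUT0 : ¬ U ≤ wOf K1 ⊔ wOf K2 := by
    intro h
    apply hX
    refine (f.XP.trans (centralizer_le ?_)).trans (centralizer_le_normalizer _)
    exact SetLike.coe_subset_coe.mpr ((h.trans f.T0T).trans le_sup_right)
  set T0 := wOf K1 ⊔ wOf K2 with hT0
  have hT02 : IsPGroup 2 T0 := f.p.T2.to_le f.T0T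
  have hTU2 : IsPGroup 2 ↥(T0 ⊔ U) := hT02.to_sup_of_normal_right' hU2 hT0U
  have hTUO : T0 ⊔ U ≤ Od G := sup_le (f.T0M.trans f.MO) hUO
  rcases f.cs with hTS | ⟨s, hs1, hs2, -⟩
  · -- T = S
    obtain ⟨P, hP⟩ := f.p.syl
    obtain ⟨Q, hQ⟩ := hTU2.exists_le_sylow
    obtain ⟨g, hg⟩ := MulAction.exists_smul_eq G P Q
    have h1 : T0 ⊔ U ≤ MulAut.conj g • T0 := by
      intro x hx
      have hxQ : x ∈ (Q : Subgroup G) := hQ hx
      rw [← hg] at hxQ
      have hxQ' : x ∈ MulAut.conj g • (P : Subgroup G) := hxQ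
      rw [hP, ← hTS, mem_conj_smul] at hxQ'
      rw [mem_conj_smul, hT0, ← f.TO]
      refine ⟨?_, hxQ'⟩
      have := (inferInstance : (Od G).Normal).conj_mem x (hTUO hx) g⁻¹
      rwa [inv_inv] at this
    have h2 := Subgroup.card_le_of_le h1
    rw [card_conj_smul] at h2
    apply hUT0
    rw [eq_of_le_of_card_ge (le_sup_left : T0 ≤ T0 ⊔ U) h2]
    exact le_sup_right
  · -- T < S
    have hlt : T0 < T0 ⊔ U := lt_of_le_of_ne le_sup_left (fun h => hUT0 (by rw [h]; exact le_sup_right))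
    have h1 := CfsgLib.SolvCoprime.lt_inf_normalizer_of_pgroup hTU2 hlt
    obtain ⟨y, hy, hyT0⟩ := Set.exists_of_ssubset h1
    have hy' : y ∈ (T0 ⊔ U) ⊓ normalizer (T0 : Set G) := hy
    obtain ⟨hy1, hy2⟩ := hy'
    have hyT0' : y ∉ T0 := hyT0
    have hwT0 : w ∈ T0 := mem_sup_left f.k1.wW
    -- y commutes with w
    have hyw : y * w = w * y := by
      have e1 : y * w * y⁻¹ ∈ T0 := (mem_normalizer_iff.mp hy2 w).mp hwT0
      have e2 : y * w * y⁻¹ ∈ omegaCenterOf T := by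
        refine mem_omegaCenterOf.mpr ⟨f.T0T e1, ?_, ?_⟩
        · have h5 : y * w * y⁻¹ ∈ centralizer (T0 : Set G) := by
            refine mem_centralizer_iff.mpr fun t ht => ?_
            have h6 : y⁻¹ * t * y ∈ T0 := by
              have := (mem_normalizer_iff.mp (inv_mem hy2) t).mp ht
              rwa [inv_inv] at this
            have h7 : (y⁻¹ * t * y) * w = w * (y⁻¹ * t * y) := mem_centralizer_iff.mp f.k1.pf.wT _ (f.T0T h6)
            calc t * (y * w * y⁻¹) = y * ((y⁻¹ * t * y) * w) * y⁻¹ := by group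
              _ = y * w * y⁻¹ * t := by rw [h7]; group
          have h8 : y * w * y⁻¹ ∈ centralizer ((omegaCenterOf T ⊓ centralizer (K1 : Set G) : Subgroup G) : Set G) := by
            refine mem_centralizer_iff.mpr fun x hx => ?_
            exact (mem_centralizer_iff.mp (f.XP hx) _ (mem_sup_right (f.T0T e1))).symm
          have h9 : T ≤ centralizer ({y * w * y⁻¹} : Set G) := by
            conv_lhs => rw [← f.Teq]
            exact sup_le (mem_cen_sing h5) (mem_cen_sing h8)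
          refine mem_centralizer_iff.mpr fun t ht => ?_
          have := h9 ht
          rw [mem_centralizer_singleton_iff] at this
          exact this
        · rw [pow_two]
          calc y * w * y⁻¹ * (y * w * y⁻¹) = y * (w * w) * y⁻¹ := by group
            _ = 1 := by rw [f.k1.pf.w2]; group
      have e3 : y * w * y⁻¹ ∈ zpowers w := by rw [← f.ZT0 h4]; exact ⟨e2, e1⟩
      have hw2 : Nat.card (zpowers w) = 2 := by
        rw [Nat.card_zpowers]; exact orderOf_eq_prime (by rw [pow_two]; exact f.k1.pf.w2) f.k1.pf.w1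
      have h6 : y * w * y⁻¹ ≠ 1 := by
        intro h
        apply f.k1.pf.w1
        have := congrArg (fun z => y⁻¹ * z * y) h
        simpa [mul_assoc] using this
      have h7 := two_eq hw2 e3 (mem_zpowers w) h6 f.k1.pf.w1
      calc y * w = (y * w * y⁻¹) * y := by group
        _ = w * y := by rw [h7]
    have hyS : y ∈ S := f.CwS h4 hs1 hs2 hTU2 hy1 hyw
    have hyT : y ∉ T := by
      intro h
      apply hyT0'
      rw [hT0, ← f.TO]
      exact ⟨hTUO hy1, h⟩
    obtain ⟨c1, -⟩ := f.cs' h4 hyS hyT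
    have hyU : y ∈ normalizer (U : Set G) := (sup_le hT0U le_normalizer) hy1
    have hK2U : K2 ≤ normalizer (U : Set G) := by
      rw [← c1, ← conj_smul_eq_of_mem_normalizer hyU, normalizer_conj_smul]
      exact (Subgroup.pointwise_smul_le_pointwise_smul_iff).mpr (le_sup_left.trans hMU)
    have hM2U : K2 ⊔ wOf K1 ≤ normalizer (U : Set G) := sup_le hK2U (le_sup_left.trans hT0U)
    have hUw : w ∉ U := by
      intro h
      apply f.symm.Wnle
      have h5 : wOf K1 ≤ U := by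
        intro v hv
        by_cases hv1 : v = 1
        · rw [hv1]; exact one_mem _
        · obtain ⟨κ, hκ, hκw⟩ := W_trans (kd f.p.T2 f.p.w1.comp) f.k1.wW hv f.k1.pf.w1 hv1
          rw [← hκw]
          exact (mem_normalizer_iff.mp (hMU (mem_sup_left hκ)) w).mp h
      exact (le_inf h5 le_sup_right).trans (f.symm.UT0 hU2 hM2U)
    have hUT : U ⊓ T0 = ⊥ := by
      by_contra hne
      obtain ⟨v, hv, hv1⟩ := exists_ne_of_card (X := U ⊓ T0) (fun h => hne (card_eq_one.mp h))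
      have h5 : v ∈ omegaCenterOf T := by
        rw [← f.b.D]
        refine ⟨f.UT0 hU2 hMU ⟨hv.1, f.T0M hv.2⟩, f.symm.UT0 hU2 hM2U ⟨hv.1, f.symm.T0M ?_⟩⟩
        rw [sup_comm]; exact hv.2
      have h6 : v ∈ zpowers w := by rw [← f.ZT0 h4]; exact ⟨h5, hv.2⟩
      have hw2 : Nat.card (zpowers w) = 2 := by
        rw [Nat.card_zpowers]; exact orderOf_eq_prime (by rw [pow_two]; exact f.k1.pf.w2) f.k1.pf.w1
      have h7 := two_eq hw2 h6 (mem_zpowers w) hv1 f.k1.pf.w1
      exact hUw (h7 ▸ hv.1)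
    have h5 := CfsgLib.H2Gen.card_modEq_fixed (q := 2) (V := U) (Q := T0) hT0U hT02
    have h6 : 2 ∣ Nat.card U := two_dvd_of_two_group hU2 hU1
    have h7 : 2 ∣ Nat.card ↥(U ⊓ centralizer (T0 : Set G)) := by
      rw [← Nat.modEq_zero_iff_dvd] at h6 ⊢
      exact h5.symm.trans h6
    obtain ⟨u, hu, hu1⟩ := exists_ne_of_card (X := U ⊓ centralizer (T0 : Set G)) (by
      intro h; rw [h] at h7; omega)
    have huS : u ∈ S := f.CwS h4 hs1 hs2 hU2 hu.1 (mem_centralizer_iff.mp hu.2 w hwT0).symm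
    by_cases huT : u ∈ T
    · have h8 : u ∈ U ⊓ T0 := ⟨hu.1, by rw [hT0, ← f.TO]; exact ⟨hUO hu.1, huT⟩⟩
      rw [hUT, mem_bot] at h8
      exact hu1 h8
    · obtain ⟨s1, -⟩ := f.swap (f.SN h4 huS) huT
      apply f.symm.Wnle
      intro v hv
      rw [← s1, mem_conj_smul]
      have h8 : v * u = u * v := mem_centralizer_iff.mp hu.2 v (mem_sup_left hv)
      have e : u⁻¹ * v * u = v := by rw [mul_assoc, h8, inv_mul_cancel_left]
      rw [e]; exact f.Wle hv

end

/-- maximal 2-local subgroups of a subgroup -/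
theorem max_sub {H M W : Subgroup G} (hWH : W ≤ H) (hW2 : IsPGroup 2 W) (hW1 : W ≠ ⊥) (hM : M = H ⊓ normalizer (W : Set G))
    (hmax : ∀ U : Subgroup G, IsPGroup 2 U → U ≠ ⊥ → U ≤ H → M ≤ normalizer (U : Set G) → H ⊓ normalizer (U : Set G) ≤ M) :
    IsMaximalTwoLocal (M.subgroupOf H) := by
  have key : ∀ U' : Subgroup H, normalizer (U' : Set H) = (normalizer ((U'.map H.subtype : Subgroup G) : Set G)).subgroupOf H := by
    intro U'
    ext x
    rw [mem_subgroupOf, mem_normalizer_iff, mem_normalizer_iff]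
    constructor
    · intro h g
      constructor
      · rintro ⟨u, hu, rfl⟩
        exact ⟨x * u * x⁻¹, (h u).mp hu, rfl⟩
      · rintro ⟨u, hu, hu'⟩
        refine ⟨x⁻¹ * u * x, ?_, ?_⟩
        · apply (h _).mpr
          have e : x * (x⁻¹ * u * x) * x⁻¹ = u := by group
          rw [e]; exact hu
        · rw [Subgroup.coe_subtype] at hu' ⊢
          rw [Subgroup.coe_mul, Subgroup.coe_mul, hu']
          push_cast
          group
    · intro h u
      constructor
      · intro hu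
        obtain ⟨v, hv, hv'⟩ := (h u).mp ⟨u, hu, rfl⟩
        have e : v = x * u * x⁻¹ := Subtype.ext hv'
        rw [← e]; exact hv
      · intro hu
        obtain ⟨v, hv, hv'⟩ := (h u).mpr ⟨x * u * x⁻¹, hu, rfl⟩
        have e : v = u := Subtype.ext hv'
        rw [← e]; exact hv
  constructor
  · refine ⟨W.subgroupOf H, hW2.of_injective (subgroupOfEquivOfLe hWH).toMonoidHom (subgroupOfEquivOfLe hWH).injective, ?_, ?_⟩
    · intro h
      apply hW1
      rw [subgroupOf_eq_bot, disjoint_iff] at h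
      rw [← h]
      exact (inf_eq_left.mpr hWH).symm
    · rw [key, subgroupOf_map_subtype, inf_eq_left.mpr hWH, hM]
      exact inf_subgroupOf_left _ _
  · rintro N ⟨U', hU2, hU1, rfl⟩ hle
    apply le_antisymm _ hle
    rw [key] at hle ⊢
    set U := U'.map H.subtype with hU
    have hUH : U ≤ H := by rw [hU]; exact map_subtype_le U'
    have h1 : M ≤ normalizer (U : Set G) := by
      intro m hm
      have hmH : m ∈ H := by rw [hM] at hm; exact hm.1
      have := hle (show (⟨m, hmH⟩ : H) ∈ M.subgroupOf H from hm)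
      exact this
    have h2 := hmax U (hU2.map H.subtype) (by
      intro h
      apply hU1
      rwa [hU, map_eq_bot_iff_of_injective _ H.subtype_injective] at h) hUH h1
    intro x hx
    rw [mem_subgroupOf] at hx ⊢
    exact h2 ⟨x.2, hx⟩

theorem main_518 [Finite G] {S T K1 K2 : Subgroup G} {w : G} (f : FD S T K1 K2 w) :
    ∃ M₁ M₂ : Subgroup (Od G), M₁ ≠ M₂ ∧ Cfsg.IsMaximalTwoLocal M₁ ∧ Cfsg.IsMaximalTwoLocal M₂ ∧
        Nonempty (M₁ ≃* Equiv.Perm (Fin 4)) ∧ Nonempty (M₂ ≃* Equiv.Perm (Fin 4)) ∧ Nat.card ↥(M₁ ⊓ M₂) = 8 := by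
  have aux : ∀ {K1 K2 : Subgroup G}, FD S T K1 K2 w → IsMaximalTwoLocal ((K1 ⊔ wOf K2).subgroupOf (Od G)) ∧
      Nonempty (↥((K1 ⊔ wOf K2).subgroupOf (Od G)) ≃* Equiv.Perm (Fin 4)) := by
    intro K1 K2 f
    constructor
    · apply max_sub (W := wOf K1) (f.WK.trans f.KO) (f.p.T2.to_le (f.Wle.trans f.k1.pf.QT)) _ f.NW.symm
      · intro U h1 h2 h3 h4
        exact f.maxO h1 h2 h3 h4
      · intro h
        have := f.cW
        rw [h, card_bot] at this
        omega
    · obtain ⟨-, -, ⟨e⟩, -⟩ := f.M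
      exact ⟨(subgroupOfEquivOfLe f.MO).trans e⟩
  have hc : Nat.card ↥((K1 ⊔ wOf K2).subgroupOf (Od G) ⊓ (K2 ⊔ wOf K1).subgroupOf (Od G)) = 8 := by
    have e : (K1 ⊔ wOf K2).subgroupOf (Od G) ⊓ (K2 ⊔ wOf K1).subgroupOf (Od G) =
        ((K1 ⊔ wOf K2) ⊓ (K2 ⊔ wOf K1)).subgroupOf (Od G) := (Subgroup.comap_inf _ _ _).symm
    rw [e, f.MM, Nat.card_congr (subgroupOfEquivOfLe (f.T0M.trans f.MO)).toEquiv, f.cT0]
  obtain ⟨a1, a2⟩ := aux f
  obtain ⟨b1, b2⟩ := aux f.symm
  refine ⟨_, _, ?_, a1, b1, a2, b2, hc⟩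
  intro h
  rw [← h, inf_idem, Nat.card_congr (subgroupOfEquivOfLe f.MO).toEquiv, f.cM] at hc
  omega

end CfsgLib.H2JC
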