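import Cfsg.Agent.EqBase
import Cfsg.Agent.LibH2JF1
import Cfsg.Agent.LibCoprime
set_option autoImplicit false
set_option maxHeartbeats 400000
namespace CfsgLib.H2JF
open Subgroup Cfsg
open scoped Pointwise commutatorElement

universe u

section
variable {G : Type u} [Group G] [Finite G]

theorem norm_of {Y : Subgroup G} {g : G} (h : ∀ y ∈ Y, g * y * g⁻¹ ∈ Y) : g ∈ normalizer (Y : Set G) := by
  apply CfsgLib.Coprime.mem_normalizer_of_conj_smul_eq
  apply eq_of_le_of_card_ge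
  · intro x hx
    obtain ⟨y, hy, rfl⟩ := Subgroup.mem_smul_pointwise_iff_exists x _ _ |>.mp hx
    exact h y hy
  · rw [CfsgLib.Coprime.card_conj_smul]

theorem conj_mem {Y : Subgroup G} {g y : G} (h : g ∈ normalizer (Y : Set G)) (hy : y ∈ Y) : g * y * g⁻¹ ∈ Y :=
  (mem_normalizer_iff.mp h y).mp hy

theorem conj_mem' {Y : Subgroup G} {g y : G} (h : g ∈ normalizer (Y : Set G)) (hy : y ∈ Y) : g⁻¹ * y * g ∈ Y := by
  have := conj_mem (inv_mem h) hy
  rwa [inv_inv] at this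

theorem norm_inf_cent {Y D : Subgroup G} {g : G} (h : g ∈ normalizer (Y : Set G)) (hD : g ∈ normalizer (D : Set G)) :
    g ∈ normalizer ((Y ⊓ centralizer (D : Set G) : Subgroup G) : Set G) := by
  apply norm_of
  rintro y ⟨hy, hyc⟩
  refine ⟨conj_mem h hy, mem_centralizer_iff.mpr ?_⟩
  intro t ht
  have h1 := mem_centralizer_iff.mp hyc _ (conj_mem' hD ht)
  calc t * (g * y * g⁻¹) = g * ((g⁻¹ * t * g) * y) * g⁻¹ := by group
    _ = g * (y * (g⁻¹ * t * g)) * g⁻¹ := by rw [h1]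
    _ = g * y * g⁻¹ * t := by group

theorem norm_inf_cent1 {Y : Subgroup G} {g z : G} (h : g ∈ normalizer (Y : Set G)) (hz : g * z = z * g) :
    g ∈ normalizer ((Y ⊓ centralizer ({z} : Set G) : Subgroup G) : Set G) := by
  apply norm_of
  rintro y ⟨hy, hyc⟩
  refine ⟨conj_mem h hy, mem_centralizer_singleton_iff.mpr ?_⟩
  have h1 : y * z = z * y := mem_centralizer_singleton_iff.mp hyc
  have h2 : g⁻¹ * z = z * g⁻¹ := by
    rw [inv_mul_eq_iff_eq_mul, ← mul_assoc, hz, mul_assoc, mul_inv_cancel, mul_one]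
  calc g * y * g⁻¹ * z = g * y * (g⁻¹ * z) := by group
    _ = g * (y * z) * g⁻¹ := by rw [h2]; group
    _ = g * z * y * g⁻¹ := by rw [h1]; group
    _ = z * (g * y * g⁻¹) := by rw [hz]; group

/-- the squares of a nontrivial `2`-group generate a proper subgroup -/
theorem sq_closure_ne {Q : Subgroup G} (hQ : IsPGroup 2 Q) (hQ1 : Q ≠ ⊥) :
    closure {g : G | ∃ x ∈ Q, g = x * x} ≠ Q := by
  haveI : Fact (Nat.Prime 2) := ⟨Nat.prime_two⟩
  obtain ⟨m, hm⟩ := hQ.exists_card_eq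
  obtain ⟨j, rfl⟩ : ∃ j, m = j + 1 := by
    rcases m with _ | j
    · exfalso
      rw [pow_zero, card_eq_one] at hm
      exact hQ1 hm
    · exact ⟨j, rfl⟩
  obtain ⟨K, hK⟩ := Sylow.exists_subgroup_card_pow_prime (G := Q) 2 (n := j) (by
    rw [hm]; exact pow_dvd_pow _ (Nat.le_succ _))
  have hidx : K.index = 2 := by
    have := K.card_mul_index
    rw [hK, hm, pow_succ] at this
    exact Nat.eq_of_mul_eq_mul_left (pow_pos (by norm_num) _) this
  intro h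
  have h1 : closure {g : G | ∃ x ∈ Q, g = x * x} ≤ K.map Q.subtype := by
    rw [closure_le]
    rintro g ⟨x, hx, rfl⟩
    exact ⟨⟨x, hx⟩ * ⟨x, hx⟩, mul_self_mem_of_index_two hidx _, rfl⟩
  rw [h] at h1
  have h2 := card_le_of_le h1
  rw [card_map_of_injective Q.subtype_injective, hK, hm, pow_succ] at h2
  have : 0 < 2 ^ j := pow_pos (by norm_num) _
  omega

theorem sq_closure_norm {Q : Subgroup G} {g : G} (hg : g ∈ normalizer (Q : Set G)) :
    g ∈ normalizer ((closure {g : G | ∃ x ∈ Q, g = x * x} : Subgroup G) : Set G) := by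
  apply norm_of
  intro y hy
  induction hy using closure_induction with
  | mem y hy =>
    obtain ⟨x, hx, rfl⟩ := hy
    exact subset_closure ⟨g * x * g⁻¹, conj_mem hg hx, by group⟩
  | one => simp
  | mul a b _ _ ha hb =>
    have : g * (a * b) * g⁻¹ = (g * a * g⁻¹) * (g * b * g⁻¹) := by group
    rw [this]; exact mul_mem ha hb
  | inv a _ ha =>
    have : g * a⁻¹ * g⁻¹ = (g * a * g⁻¹)⁻¹ := by group
    rw [this]; exact inv_mem ha

theorem cube_one {Q : Subgroup G} (hQ : IsPGroup 2 Q) {c : G} (hc : c ∈ Q) (h3 : c * c * c = 1) : c = 1 := by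
  obtain ⟨k, hk⟩ := hQ ⟨c, hc⟩
  have hk' : c ^ (2 ^ k) = 1 := congrArg Subtype.val hk
  have h1 := orderOf_dvd_of_pow_eq_one hk'
  have h2 : orderOf c ∣ 3 := orderOf_dvd_of_pow_eq_one (by rw [pow_succ, pow_two]; exact h3)
  have h3 : Nat.Coprime (2 ^ k) 3 := Nat.Coprime.pow_left _ (by norm_num)
  have h4 : orderOf c ∣ 1 := by
    rw [← h3]; exact Nat.dvd_gcd h1 h2
  exact orderOf_eq_one_iff.mp (Nat.dvd_one.mp h4)

/-- coprime action in disguise -/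
theorem cube_comm {Q : Subgroup G} (hQ : IsPGroup 2 Q) {s x : G} (hs3 : s ^ 3 = 1) (hc : x⁻¹ * (s * x * s⁻¹) ∈ Q)
    (h : s * (x⁻¹ * (s * x * s⁻¹)) = (x⁻¹ * (s * x * s⁻¹)) * s) : s * x = x * s := by
  set c := x⁻¹ * (s * x * s⁻¹) with hcdef
  have e1 : s * x = x * c * s := by rw [hcdef]; group
  have e2 : s * (s * x) = x * c * c * s * s := by
    calc s * (s * x) = s * (x * c * s) := by rw [e1]
      _ = (s * x) * c * s := by group
      _ = x * c * s * c * s := by rw [e1]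
      _ = x * c * (s * c) * s := by group
      _ = x * c * c * s * s := by rw [h]; group
  have e3 : s * (s * (s * x)) = x * (c * c * c) * (s * s * s) := by
    calc s * (s * (s * x)) = s * (x * c * c * s * s) := by rw [e2]
      _ = (s * x) * c * c * s * s := by group
      _ = x * c * s * c * c * s * s := by rw [e1]
      _ = x * c * (s * c) * c * s * s := by group
      _ = x * c * c * (s * c) * s * s := by nth_rewrite 1 [h]; group
      _ = x * (c * c * c) * (s * s * s) := by rw [h]; group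
  have hs3' : s * s * s = 1 := by rw [← hs3, pow_succ, pow_two]
  have e4 : s * (s * (s * x)) = (s * s * s) * x := by group
  rw [e4, hs3', one_mul, mul_one] at e3
  have e5 : c * c * c = 1 := by
    have := e3.symm
    rwa [mul_eq_left] at this
  have e6 := cube_one hQ hc e5
  rw [e1, e6, mul_one]

end

section
variable {G : Type u} [Group G] [Finite G] {Q W : Subgroup G} {s d : G}

/-- the minimal situation -/
structure MinS (Q W Q0 : Subgroup G) (s d : G) (n : ℕ) : Prop where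
  hQ : IsPGroup 2 Q
  hWn : W.Normal
  hWQ : W ≤ Q
  hW4 : Nat.card W = 4
  hcen : ∀ w ∈ W, ∀ x ∈ Q, w * x = x * w
  hW2 : ∀ w ∈ W, w * w = 1
  hinv : ∀ x ∈ Q, x * x = 1 → x ∈ W
  hs3 : s ^ 3 = 1
  hsd : s * d = d * s
  hd : d ^ (3 ^ n) = 1
  hsW : ∀ w ∈ W, s * w = w * s
  hdW : ∀ w ∈ W, d * w = w * d → w = 1
  hQ0 : Q0 ≤ Q
  hs0 : s ∈ normalizer (Q0 : Set G)
  hd0 : d ∈ normalizer (Q0 : Set G)
  hns : ¬ ∀ x ∈ Q0, s * x = x * s
  hmin : ∀ Y : Subgroup G, Y ≤ Q0 → s ∈ normalizer (Y : Set G) → d ∈ normalizer (Y : Set G) → Y ≠ Q0 →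
    ∀ x ∈ Y, s * x = x * s

variable {Q0 : Subgroup G} {n : ℕ}

theorem MinS.pr (M : MinS Q W Q0 s d n) {Y : Subgroup G} (hY : Y ≤ Q0) (h1 : s ∈ normalizer (Y : Set G))
    (h2 : d ∈ normalizer (Y : Set G)) (h3 : ∀ x ∈ Q0, x⁻¹ * (s * x * s⁻¹) ∈ Y) : Y = Q0 := by
  by_contra hne
  have hcz := M.hmin Y hY h1 h2 hne
  apply M.hns
  intro x hx
  exact cube_comm M.hQ M.hs3 (M.hQ0 (hY (h3 x hx))) (hcz _ (h3 x hx))

theorem MinS.ne_bot (M : MinS Q W Q0 s d n) : Q0 ≠ ⊥ := by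
  intro h
  apply M.hns
  intro x hx
  rw [h, mem_bot] at hx
  rw [hx]; simp

theorem MinS.inv_comm (M : MinS Q W Q0 s d n) {x y : G} (hx : x ∈ Q0) (hy : y ∈ Q0) :
    (x * x) * y = y * (x * x) ∧ s * (x * x) = (x * x) * s := by
  set D := closure {g : G | ∃ x ∈ Q0, g = x * x} with hD
  have hDQ : D ≤ Q0 := by
    rw [hD, closure_le]
    rintro g ⟨x, hx, rfl⟩
    exact mul_mem hx hx
  have hQ0p : IsPGroup 2 Q0 := M.hQ.to_le M.hQ0
  have hcz := M.hmin D hDQ (sq_closure_norm M.hs0) (sq_closure_norm M.hd0) (sq_closure_ne hQ0p M.ne_bot)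
  have hxD : x * x ∈ D := subset_closure ⟨x, hx, rfl⟩
  refine ⟨?_, hcz _ hxD⟩
  have hC : Q0 ⊓ centralizer (D : Set G) = Q0 := by
    apply M.pr inf_le_left (norm_inf_cent M.hs0 (sq_closure_norm M.hs0)) (norm_inf_cent M.hd0 (sq_closure_norm M.hd0))
    intro x hx
    refine mem_inf.mpr ⟨mul_mem (inv_mem hx) (conj_mem M.hs0 hx), mem_centralizer_iff.mpr ?_⟩
    intro t ht
    have hxN : x ∈ normalizer (D : Set G) := sq_closure_norm (le_normalizer hx)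
    have h1 : x * t * x⁻¹ ∈ D := conj_mem hxN ht
    have c1 : s * (x * t * x⁻¹) = (x * t * x⁻¹) * s := hcz _ h1
    have c2 : s * t = t * s := hcz _ ht
    have c3 : s⁻¹ * t = t * s⁻¹ := by
      rw [inv_mul_eq_iff_eq_mul, ← mul_assoc, c2, mul_assoc, mul_inv_cancel, mul_one]
    -- s x s⁻¹ t s x⁻¹ s⁻¹ = x t x⁻¹
    have e1 : (s * x * s⁻¹) * t = (x * t * x⁻¹) * (s * x * s⁻¹) := by
      calc (s * x * s⁻¹) * t = s * x * (s⁻¹ * t) := by group
        _ = (s * (x * t * x⁻¹)) * (x * s⁻¹) := by rw [c3]; group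
        _ = (x * t * x⁻¹) * (s * x * s⁻¹) := by rw [c1]; group
    calc t * (x⁻¹ * (s * x * s⁻¹)) = x⁻¹ * ((x * t * x⁻¹) * (s * x * s⁻¹)) := by group
      _ = x⁻¹ * ((s * x * s⁻¹) * t) := by rw [e1]
      _ = x⁻¹ * (s * x * s⁻¹) * t := by group
  have hyC : y ∈ Q0 ⊓ centralizer (D : Set G) := by rw [hC]; exact hy
  exact mem_centralizer_iff.mp hyC.2 _ hxD

theorem MinS.comm (M : MinS Q W Q0 s d n) {x y : G} (hx : x ∈ Q0) (hy : y ∈ Q0) : ⁅x, y⁆ ∈ W := by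
  apply M.hinv _ (M.hQ0 (by rw [commutatorElement_def]; exact mul_mem (mul_mem (mul_mem hx hy) (inv_mem hx)) (inv_mem hy)))
  have hc : ∀ z ∈ Q0, ⁅x, y⁆ * z = z * ⁅x, y⁆ := by
    intro z hz
    have e : ⁅x, y⁆ = ((x * y) * (x * y)) * ((y⁻¹ * x⁻¹ * y) * (y⁻¹ * x⁻¹ * y)) * (y⁻¹ * y⁻¹) := by
      rw [commutatorElement_def]; group
    have h1 := (M.inv_comm (mul_mem hx hy) hz).1
    have h2 := (M.inv_comm (mul_mem (mul_mem (inv_mem hy) (inv_mem hx)) hy) hz).1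
    have h3 := (M.inv_comm (inv_mem hy) hz).1
    rw [e]
    exact ((show Commute _ z from h1).mul_left (show Commute _ z from h2)).mul_left (show Commute _ z from h3)
  have h1 : x * y = ⁅x, y⁆ * y * x := by rw [commutatorElement_def]; group
  have h2 := (M.inv_comm hx hy).1
  have h3 : x * x * y = ⁅x, y⁆ * ⁅x, y⁆ * y * (x * x) := by
    calc x * x * y = x * (x * y) := by group
      _ = x * (⁅x, y⁆ * y * x) := by rw [← h1]
      _ = (x * ⁅x, y⁆) * y * x := by group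
      _ = ⁅x, y⁆ * (x * y) * x := by rw [← hc x hx]; group
      _ = ⁅x, y⁆ * (⁅x, y⁆ * y * x) * x := by rw [← h1]
      _ = ⁅x, y⁆ * ⁅x, y⁆ * y * (x * x) := by group
  rw [h2] at h3
  have h4 : ⁅x, y⁆ * ⁅x, y⁆ * (y * (x * x)) = y * (x * x) := by rw [← mul_assoc]; exact h3.symm
  rwa [mul_eq_right] at h4

theorem MinS.WN (M : MinS Q W Q0 s d n) (g : G) : g ∈ normalizer (W : Set G) := by
  haveI := M.hWn
  rw [normalizer_eq_top]; trivial

theorem MinS.sq (M : MinS Q W Q0 s d n) {x : G} (hx : x ∈ Q0) : x * x ∈ W := by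
  let Y : Subgroup G :=
    { carrier := {x | x ∈ Q0 ∧ x * x ∈ W}
      one_mem' := ⟨one_mem _, by simp⟩
      mul_mem' := by
        rintro x y ⟨hx, hx2⟩ ⟨hy, hy2⟩
        refine ⟨mul_mem hx hy, ?_⟩
        have h1 : ⁅y⁻¹, x⁻¹⁆ ∈ W := M.comm (inv_mem hy) (inv_mem hx)
        have h2 := M.hcen _ h1 y (M.hQ0 hy)
        have e : x * y * (x * y) = (x * x) * (y * y) * ⁅y⁻¹, x⁻¹⁆ := by
          calc x * y * (x * y) = x * x * y * (⁅y⁻¹, x⁻¹⁆ * y) := by rw [commutatorElement_def]; group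
            _ = (x * x) * (y * y) * ⁅y⁻¹, x⁻¹⁆ := by rw [h2]; group
        rw [e]
        exact mul_mem (mul_mem hx2 hy2) h1
      inv_mem' := by
        rintro x ⟨hx, hx2⟩
        refine ⟨inv_mem hx, ?_⟩
        rw [← mul_inv_rev]
        exact inv_mem hx2 }
  have hY : Y = Q0 := by
    apply M.pr (Y := Y) (fun x hx => hx.1)
    · apply norm_of
      rintro x ⟨hx, hx2⟩
      refine ⟨conj_mem M.hs0 hx, ?_⟩
      have e : s * x * s⁻¹ * (s * x * s⁻¹) = s * (x * x) * s⁻¹ := by group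
      rw [e]
      exact conj_mem (M.WN s) hx2
    · apply norm_of
      rintro x ⟨hx, hx2⟩
      refine ⟨conj_mem M.hd0 hx, ?_⟩
      have e : d * x * d⁻¹ * (d * x * d⁻¹) = d * (x * x) * d⁻¹ := by group
      rw [e]
      exact conj_mem (M.WN d) hx2
    · intro x hx
      have hx' : s * x * s⁻¹ ∈ Q0 := conj_mem M.hs0 hx
      refine ⟨mul_mem (inv_mem hx) hx', ?_⟩
      set x' := s * x * s⁻¹ with hx'd
      have e1 : x' * x' = x * x := by
        have : x' * x' = s * (x * x) * s⁻¹ := by rw [hx'd]; group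
        rw [this, (M.inv_comm hx hx).2]; group
      have h1 : ⁅x', x⁻¹⁆ ∈ W := M.comm hx' (inv_mem hx)
      have h2 := M.hcen _ h1 x' (M.hQ0 hx')
      have h3 := M.hcen _ h1 x⁻¹ (M.hQ0 (inv_mem hx))
      -- x⁻¹ x' x⁻¹ x' = x⁻¹ [x',x⁻¹] x⁻¹ x' x'
      have e2 : x⁻¹ * x' * (x⁻¹ * x') = ⁅x', x⁻¹⁆ * ((x * x)⁻¹ * (x' * x')) := by
        calc x⁻¹ * x' * (x⁻¹ * x') = (x⁻¹ * ⁅x', x⁻¹⁆) * (x⁻¹ * x' * x') := by rw [commutatorElement_def]; group
          _ = ⁅x', x⁻¹⁆ * ((x * x)⁻¹ * (x' * x')) := by rw [← h3]; group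
      show x⁻¹ * x' * (x⁻¹ * x') ∈ W
      rw [e2, e1, inv_mul_cancel, mul_one]
      exact h1
  have : x ∈ Y := by rw [hY]; exact hx
  exact this.2

theorem MinS.not_le (M : MinS Q W Q0 s d n) : ¬ Q0 ≤ W := fun h => M.hns (fun x hx => M.hsW x (h hx))

theorem MinS.nonab (M : MinS Q W Q0 s d n) : ¬ ∀ x ∈ Q0, ∀ y ∈ Q0, x * y = y * x := by
  intro hab
  have h1 : Q0 ⊓ W = Q0 := by
    apply M.pr inf_le_left
    · exact norm_of (fun y hy => ⟨conj_mem M.hs0 hy.1, conj_mem (M.WN s) hy.2⟩)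
    · exact norm_of (fun y hy => ⟨conj_mem M.hd0 hy.1, conj_mem (M.WN d) hy.2⟩)
    · intro x hx
      have hx' : s * x * s⁻¹ ∈ Q0 := conj_mem M.hs0 hx
      refine mem_inf.mpr ⟨mul_mem (inv_mem hx) hx', ?_⟩
      apply M.hinv _ (M.hQ0 (mul_mem (inv_mem hx) hx'))
      set x' := s * x * s⁻¹ with hx'd
      have e1 : x' * x' = x * x := by
        have : x' * x' = s * (x * x) * s⁻¹ := by rw [hx'd]; group
        rw [this, (M.inv_comm hx hx).2]; group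
      calc x⁻¹ * x' * (x⁻¹ * x') = x⁻¹ * (x' * x⁻¹) * x' := by group
        _ = x⁻¹ * (x⁻¹ * x') * x' := by rw [hab _ hx' _ (inv_mem hx)]
        _ = (x * x)⁻¹ * (x' * x') := by group
        _ = 1 := by rw [e1]; group
  exact M.not_le (inf_eq_left.mp h1)

theorem MinS.no_act (M : MinS Q W Q0 s d n) {g : G} (hg : ∀ w ∈ W, g * w = w * g → w = 1)
    (h : ∀ x ∈ Q0, g * x * g⁻¹ * x⁻¹ ∈ W) : False := by
  apply M.nonab
  intro x hx y hy
  have h1 : ⁅x, y⁆ ∈ W := M.comm hx hy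
  rw [← commutatorElement_eq_one_iff_mul_comm]
  apply hg _ h1
  set w1 := g * x * g⁻¹ * x⁻¹ with hw1
  set w2 := g * y * g⁻¹ * y⁻¹ with hw2
  have m1 : w1 ∈ W := h x hx
  have m2 : w2 ∈ W := h y hy
  have e1 : g * x * g⁻¹ = w1 * x := by rw [hw1]; group
  have e2 : g * y * g⁻¹ = w2 * y := by rw [hw2]; group
  have c1 : ∀ z ∈ Q, w1 * z = z * w1 := M.hcen _ m1
  have c2 : ∀ z ∈ Q, w2 * z = z * w2 := M.hcen _ m2
  have hxQ := M.hQ0 hx
  have hyQ := M.hQ0 hy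
  have e3 : g * ⁅x, y⁆ * g⁻¹ = ⁅x, y⁆ := by
    calc g * ⁅x, y⁆ * g⁻¹ = (g * x * g⁻¹) * (g * y * g⁻¹) * (g * x * g⁻¹)⁻¹ * (g * y * g⁻¹)⁻¹ := by
          rw [commutatorElement_def]; group
      _ = (w1 * x) * (w2 * y) * (w1 * x)⁻¹ * (w2 * y)⁻¹ := by rw [e1, e2]
      _ = w1 * (x * w2) * y * x⁻¹ * w1⁻¹ * y⁻¹ * w2⁻¹ := by group
      _ = w1 * w2 * (x * y * x⁻¹) * (w1⁻¹ * y⁻¹) * w2⁻¹ := by rw [← c2 x hxQ]; group
      _ = w1 * w2 * (x * y * x⁻¹) * (y⁻¹ * w1⁻¹) * w2⁻¹ := by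
          rw [M.hcen _ (inv_mem m1) _ (inv_mem hyQ)]
      _ = w1 * w2 * (⁅x, y⁆ * (w1⁻¹ * w2⁻¹)) := by rw [commutatorElement_def]; group
      _ = w1 * w2 * ((w1⁻¹ * w2⁻¹) * ⁅x, y⁆) := by
          rw [M.hcen _ (mul_mem (inv_mem m1) (inv_mem m2)) _ (M.hWQ h1)]
      _ = (w1 * (w2 * w1⁻¹) * w2⁻¹) * ⁅x, y⁆ := by group
      _ = ⁅x, y⁆ := by rw [c2 _ (M.hWQ (inv_mem m1))]; group
  calc g * ⁅x, y⁆ = (g * ⁅x, y⁆ * g⁻¹) * g := by group
    _ = ⁅x, y⁆ * g := by rw [e3]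

end

end CfsgLib.H2JF
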