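import Cfsg.Agent.EqBase
import Cfsg.Agent.LibH2JF2
set_option autoImplicit false
set_option maxHeartbeats 400000
namespace CfsgLib.H2JF
open Subgroup Cfsg
open scoped Pointwise commutatorElement

universe u

section
variable {G : Type u} [Group G] [Finite G] {Q W : Subgroup G} {s d : G} {Q0 : Subgroup G} {n : ℕ}

theorem MinS.comap_norm {H : Type u} [Group H] [Finite H] (π : G →* H) {V1 : Subgroup H} {g : G}
    (h0 : g ∈ normalizer (Q0 : Set G)) (hg : π g ∈ normalizer (V1 : Set H)) :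
    g ∈ normalizer ((Q0 ⊓ V1.comap π : Subgroup G) : Set G) := by
  apply norm_of
  rintro y ⟨hy, hy1⟩
  refine mem_inf.mpr ⟨conj_mem h0 hy, ?_⟩
  rw [mem_comap, map_mul, map_mul, map_inv]
  exact conj_mem hg hy1

theorem MinS.false' (M : MinS Q W Q0 s d n) {H : Type u} [Group H] [Finite H] (π : G →* H)
    (hπ : Function.Surjective π) (hπ1 : ∀ x : G, π x = 1 ↔ x ∈ W) : False := by
  haveI : Fact (Nat.Prime 2) := ⟨Nat.prime_two⟩
  set V := Q0.map π with hV
  set a := π s with ha
  set b := π d with hb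
  have haV : a ∈ normalizer (V : Set H) := by
    apply norm_of
    rintro _ ⟨x, hx, rfl⟩
    exact ⟨s * x * s⁻¹, conj_mem M.hs0 hx, by rw [map_mul, map_mul, map_inv]⟩
  have hbV : b ∈ normalizer (V : Set H) := by
    apply norm_of
    rintro _ ⟨x, hx, rfl⟩
    exact ⟨d * x * d⁻¹, conj_mem M.hd0 hx, by rw [map_mul, map_mul, map_inv]⟩
  have hVc : ∀ u ∈ V, ∀ v ∈ V, u * v = v * u := by
    rintro _ ⟨x, hx, rfl⟩ _ ⟨y, hy, rfl⟩
    rw [← commutatorElement_eq_one_iff_mul_comm, ← map_commutatorElement]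
    exact (hπ1 _).mpr (M.comm hx hy)
  have hV2 : ∀ v ∈ V, v * v = 1 := by
    rintro _ ⟨x, hx, rfl⟩
    rw [← map_mul]
    exact (hπ1 _).mpr (M.sq hx)
  have ha3 : a * a * a = 1 := by
    rw [ha, ← map_mul, ← map_mul]
    have : s * s * s = 1 := by rw [← M.hs3, pow_succ, pow_two]
    rw [this, map_one]
  have hab : a * b = b * a := by rw [ha, hb, ← map_mul, ← map_mul, M.hsd]
  -- generation principle in V
  have prV : ∀ V1 : Subgroup H, a ∈ normalizer (V1 : Set H) → b ∈ normalizer (V1 : Set H) →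
      (∀ v ∈ V, v⁻¹ * (a * v * a⁻¹) ∈ V1) → V ≤ V1 := by
    intro V1 h1 h2 h3
    have h4 : Q0 ⊓ V1.comap π = Q0 := by
      apply M.pr inf_le_left (MinS.comap_norm π M.hs0 h1) (MinS.comap_norm π M.hd0 h2)
      intro x hx
      refine mem_inf.mpr ⟨mul_mem (inv_mem hx) (conj_mem M.hs0 hx), ?_⟩
      rw [mem_comap, map_mul, map_mul, map_mul, map_inv, map_inv]
      exact h3 _ ⟨x, hx, rfl⟩
    rintro _ ⟨x, hx, rfl⟩
    have : x ∈ Q0 ⊓ V1.comap π := by rw [h4]; exact hx
    exact this.2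
  let α : V →* V := MonoidHom.mk' (fun v => ⟨a * v * a⁻¹, conj_mem haV v.2⟩) (fun u v => Subtype.ext (by
    show a * ((u * v : V) : H) * a⁻¹ = a * u * a⁻¹ * (a * v * a⁻¹)
    rw [coe_mul]; group))
  let β : V →* V := MonoidHom.mk' (fun v => ⟨b * v * b⁻¹, conj_mem hbV v.2⟩) (fun u v => Subtype.ext (by
    show b * ((u * v : V) : H) * b⁻¹ = b * u * b⁻¹ * (b * v * b⁻¹)
    rw [coe_mul]; group))
  have hα : ∀ v : V, ((α v : V) : H) = a * v * a⁻¹ := fun v => rfl
  have hβ : ∀ v : V, ((β v : V) : H) = b * v * b⁻¹ := fun v => rfl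
  have hc : ∀ u v : V, u * v = v * u := fun u v => Subtype.ext (hVc u u.2 v v.2)
  have h2 : ∀ v : V, v * v = 1 := fun v => Subtype.ext (hV2 v v.2)
  have hαβ : ∀ v, α (β v) = β (α v) := by
    intro v
    apply Subtype.ext
    rw [hα, hβ, hβ, hα]
    calc a * (b * (v : H) * b⁻¹) * a⁻¹ = (a * b) * v * (a * b)⁻¹ := by group
      _ = (b * a) * v * (b * a)⁻¹ := by rw [hab]
      _ = b * (a * (v : H) * a⁻¹) * b⁻¹ := by group
  have hα3 : ∀ v, α (α (α v)) = v := by
    intro v
    apply Subtype.ext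
    rw [hα, hα, hα]
    calc a * (a * (a * (v : H) * a⁻¹) * a⁻¹) * a⁻¹ = (a * a * a) * v * (a * a * a)⁻¹ := by group
      _ = v := by rw [ha3]; group
  let N : V →* V := MonoidHom.mk' (fun v => v * α v * α (α v)) (by
    intro u v
    rw [map_mul, map_mul]
    calc u * v * (α u * α v) * (α (α u) * α (α v)) = u * (v * α u) * (α v * α (α u)) * α (α v) := by
          simp only [mul_assoc]
      _ = u * (α u * v) * (α (α u) * α v) * α (α v) := by rw [hc v (α u), hc (α v) (α (α u))]
      _ = u * α u * (v * α (α u)) * α v * α (α v) := by simp only [mul_assoc]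
      _ = u * α u * (α (α u) * v) * α v * α (α v) := by rw [hc v (α (α u))]
      _ = u * α u * α (α u) * (v * α v * α (α v)) := by simp only [mul_assoc])
  have hNd : ∀ v, N v = v * α v * α (α v) := fun v => rfl
  have hNα : ∀ v, N (α v) = N v := by
    intro v
    rw [hNd, hNd, hα3, mul_assoc v, hc v]
  have hN : ∀ v : V, v * α v * α (α v) = 1 := by
    have hle : V ≤ (N.ker).map V.subtype := by
      apply prV
      · apply norm_of
        rintro _ ⟨v, hv, rfl⟩
        refine ⟨α v, ?_, rfl⟩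
        have hv' : N v = 1 := hv
        show N (α v) = 1
        rw [hNα, hv']
      · apply norm_of
        rintro _ ⟨v, hv, rfl⟩
        refine ⟨β v, ?_, rfl⟩
        have hv' : N v = 1 := hv
        show N (β v) = 1
        rw [hNd, hαβ, hαβ, ← map_mul, ← map_mul, ← hNd, hv', map_one]
      · intro v hv
        refine ⟨⟨v, hv⟩⁻¹ * α ⟨v, hv⟩, ?_, rfl⟩
        show N (⟨v, hv⟩⁻¹ * α ⟨v, hv⟩) = 1
        rw [map_mul, map_inv, hNα, inv_mul_cancel]
    intro v
    obtain ⟨w, hw, hwv⟩ := hle v.2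
    have : w = v := Subtype.ext hwv
    rw [this] at hw
    exact hw
  -- fixed points of s
  have hC : ∀ x ∈ Q0, s * x = x * s → x ∈ W := by
    intro x hx hsx
    have h3 : α ⟨π x, ⟨x, hx, rfl⟩⟩ = ⟨π x, ⟨x, hx, rfl⟩⟩ := by
      apply Subtype.ext
      rw [hα]
      show a * π x * a⁻¹ = π x
      rw [ha, ← map_mul, hsx, map_mul, mul_assoc, mul_inv_cancel, mul_one]
    have h4 := hN ⟨π x, ⟨x, hx, rfl⟩⟩
    rw [h3, h3, h2, one_mul] at h4
    exact (hπ1 x).mp (congrArg Subtype.val h4)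
  have irr : ∀ V1 : Subgroup H, V1 ≤ V → a ∈ normalizer (V1 : Set H) → b ∈ normalizer (V1 : Set H) →
      V1 ≠ V → V1 = ⊥ := by
    intro V1 hV1 h1 h2 hne
    have h4 := M.hmin (Q0 ⊓ V1.comap π) inf_le_left (MinS.comap_norm π M.hs0 h1) (MinS.comap_norm π M.hd0 h2) (by
      intro h
      apply hne
      apply le_antisymm hV1
      rintro _ ⟨x, hx, rfl⟩
      have : x ∈ Q0 ⊓ V1.comap π := by rw [h]; exact hx
      exact this.2)
    rw [eq_bot_iff]
    intro v hv
    obtain ⟨x, hx, rfl⟩ := hV1 hv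
    rw [mem_bot]
    exact (hπ1 x).mpr (hC x hx (h4 x (mem_inf.mpr ⟨hx, hv⟩)))
  have hVbot : V ≠ ⊥ := by
    intro h
    apply M.not_le
    intro x hx
    have : π x ∈ V := ⟨x, hx, rfl⟩
    rw [h, mem_bot] at this
    exact (hπ1 x).mp this
  -- an element g commuting with a and b and having a fixed point centralizes V
  have hfix : ∀ g : G, (∀ w ∈ W, g * w = w * g → w = 1) → a * π g = π g * a → b * π g = π g * b →
      ∀ u : V, u ≠ 1 → π g * (u : H) * (π g)⁻¹ = u → False := by
    intro g hg hga hgb u hu1 hu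
    have h1 : V ⊓ centralizer ({π g} : Set H) = V := by
      by_contra hne
      have := irr _ inf_le_left (norm_inf_cent1 haV hga) (norm_inf_cent1 hbV hgb) hne
      apply hu1
      apply Subtype.ext
      rw [coe_one, ← mem_bot, ← this]
      refine mem_inf.mpr ⟨u.2, mem_centralizer_singleton_iff.mpr ?_⟩
      rw [mul_inv_eq_iff_eq_mul] at hu
      exact hu.symm
    apply M.no_act hg
    intro x hx
    have h2 : π x ∈ V ⊓ centralizer ({π g} : Set H) := by rw [h1]; exact ⟨x, hx, rfl⟩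
    have h3 : π x * π g = π g * π x := mem_centralizer_singleton_iff.mp h2.2
    rw [← hπ1, map_mul, map_mul, map_mul, map_inv, map_inv, ← h3]
    group
  have hds : ∀ w ∈ W, (d * s) * w = w * (d * s) → w = 1 := by
    intro w hw h
    apply M.hdW w hw
    have h3 := M.hsW w hw
    have h4 : d * w * s = w * d * s := by
      rw [mul_assoc, ← h3, ← mul_assoc, h, mul_assoc]
    exact mul_right_cancel h4
  have hdss : ∀ w ∈ W, (d * s * s) * w = w * (d * s * s) → w = 1 := by
    intro w hw h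
    apply hds w hw
    have h3 := M.hsW w hw
    have h4 : (d * s) * w * s = w * (d * s) * s := by
      rw [mul_assoc, ← h3, ← mul_assoc, h]
      simp only [mul_assoc]
    exact mul_right_cancel h4
  have hbn : b ^ (3 ^ n) = 1 := by rw [hb, ← map_pow, M.hd, map_one]
  by_cases hcase : V ⊓ centralizer ({b ^ 3} : Set H) = V
  · have hβ3 : ∀ v, β (β (β v)) = v := by
      intro v
      apply Subtype.ext
      rw [hβ, hβ, hβ]
      have h3 : (v : H) ∈ V ⊓ centralizer ({b ^ 3} : Set H) := by rw [hcase]; exact v.2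
      have h4 : (v : H) * b ^ 3 = b ^ 3 * v := mem_centralizer_singleton_iff.mp h3.2
      calc b * (b * (b * (v : H) * b⁻¹) * b⁻¹) * b⁻¹ = (b ^ 3 * v) * (b ^ 3)⁻¹ := by
            simp only [pow_succ, pow_zero, one_mul, mul_inv_rev, mul_assoc]
        _ = v := mul_inv_eq_iff_eq_mul.mpr h4.symm
    obtain ⟨v, hv⟩ := Subgroup.ne_bot_iff_exists_ne_one.mp hVbot
    rcases cube_root hc h2 α β hαβ hN hβ3 hv with ⟨u, hu1, hu⟩ | ⟨u, hu1, hu⟩ | ⟨u, hu1, hu⟩
    · exact hfix d M.hdW hab rfl u hu1 (congrArg Subtype.val hu)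
    · refine hfix (d * s) hds ?_ ?_ u hu1 ?_
      · rw [map_mul, ← ha, ← hb, ← mul_assoc, hab]
      · rw [map_mul, ← ha, ← hb, mul_assoc b a b, hab]
      · have := congrArg Subtype.val hu
        rw [hβ, hα] at this
        rw [map_mul, ← ha, ← hb]
        rw [← this]
        nth_rewrite 1 [this]
        group
    · refine hfix (d * s * s) hdss ?_ ?_ u hu1 ?_
      · rw [map_mul, map_mul, ← ha, ← hb, ← mul_assoc, ← mul_assoc, hab]
      · rw [map_mul, map_mul, ← ha, ← hb]
        calc b * (b * a * a) = b * b * a * a := by group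
          _ = b * (b * a) * a := by group
          _ = b * (a * b) * a := by rw [hab]
          _ = b * a * (b * a) := by group
          _ = b * a * (a * b) := by rw [hab]
          _ = b * a * a * b := by group
      · have := congrArg Subtype.val hu
        rw [hβ, hα, hα] at this
        rw [map_mul, map_mul, ← ha, ← hb]
        calc b * a * a * (u : H) * (b * a * a)⁻¹ = b * (a * (a * (u : H) * a⁻¹) * a⁻¹) * b⁻¹ := by group
          _ = u := this
  · have hb3a : a * b ^ 3 = b ^ 3 * a := by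
      have : Commute a b := hab
      exact this.pow_right 3
    have hbot := irr _ inf_le_left (norm_inf_cent1 haV hb3a) (norm_inf_cent1 hbV (Commute.self_pow b 3)) hcase
    have h9 := card_mod_nine hbV hbn (by
      intro v hv h
      have : v ∈ V ⊓ centralizer ({b ^ 3} : Set H) :=
        mem_inf.mpr ⟨hv, mem_centralizer_singleton_iff.mpr h.symm⟩
      rw [hbot, mem_bot] at this
      exact this)
    have hVp : IsPGroup 2 V := (M.hQ.to_le M.hQ0).map π
    obtain ⟨m, hm⟩ := hVp.exists_card_eq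
    have hV64 : 64 ≤ Nat.card V := by
      rw [hm] at h9 ⊢
      by_contra hlt
      have hm6 : m < 6 := by
        by_contra h
        push Not at h
        exact hlt (by calc 64 = 2 ^ 6 := by norm_num
          _ ≤ 2 ^ m := Nat.pow_le_pow_right (by norm_num) h)
      interval_cases m
      · rw [pow_zero, card_eq_one] at hm
        exact hVbot hm
      all_goals norm_num at h9
    -- pull back
    set R := V.comap π with hR
    have hWR : W ≤ R := by
      intro w hw
      rw [hR, mem_comap, (hπ1 w).mpr hw]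
      exact one_mem _
    have hRx : ∀ r ∈ R, ∃ x ∈ Q0, ∃ w ∈ W, r = x * w := by
      intro r hr
      obtain ⟨x, hx, hxr⟩ := hr
      refine ⟨x, hx, x⁻¹ * r, ?_, by group⟩
      rw [← hπ1, map_mul, map_inv, hxr, inv_mul_cancel]
    have hRQ : R ≤ Q := by
      intro r hr
      obtain ⟨x, hx, w, hw, rfl⟩ := hRx r hr
      exact mul_mem (M.hQ0 hx) (M.hWQ hw)
    have hcardR : Nat.card R = 4 * Nat.card V := by
      have h1 := CfsgLib.Coprime.card_mul_relIndex hWR
      have h3 : W.relIndex R = Nat.card V := by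
        have h4 := Subgroup.relIndex_ker π (K := R)
        have h5 : π.ker = W := by
          ext x
          rw [MonoidHom.mem_ker, hπ1]
        rw [h5] at h4
        rw [h4, hR, map_comap_eq_self_of_surjective hπ]
      rw [h3, M.hW4] at h1
      exact h1.symm
    have hsqR : ∀ x ∈ R, x * x ∈ W := by
      intro r hr
      rw [← hπ1, map_mul]
      exact hV2 _ hr
    refine final_contra (R := R) hWR M.hW4 (fun w hw r hr => M.hcen w hw r (hRQ hr)) ?_ M.hW2 hsqR
      (fun x hx h => M.hinv x (hRQ hx) h) (by omega)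
    intro x hx y hy
    rw [← hπ1, map_commutatorElement, commutatorElement_eq_one_iff_mul_comm]
    exact hVc _ hx _ hy

theorem MinS.false (M : MinS Q W Q0 s d n) : False := by
  haveI := M.hWn
  exact M.false' (QuotientGroup.mk' W) (QuotientGroup.mk'_surjective W) (fun x => QuotientGroup.eq_one_iff x)

theorem step4 (hQ : IsPGroup 2 Q) (hWn : W.Normal) (hWQ : W ≤ Q) (hW4 : Nat.card W = 4)
    (hcen : ∀ w ∈ W, ∀ x ∈ Q, w * x = x * w) (hW2 : ∀ w ∈ W, w * w = 1) (hinv : ∀ x ∈ Q, x * x = 1 → x ∈ W)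
    (hs3 : s ^ 3 = 1) (hsd : s * d = d * s) (hd : d ^ (3 ^ n) = 1) (hsW : ∀ w ∈ W, s * w = w * s)
    (hdW : ∀ w ∈ W, d * w = w * d → w = 1) (hsQ : s ∈ normalizer (Q : Set G)) (hdQ : d ∈ normalizer (Q : Set G))
    (hns : ¬ ∀ x ∈ Q, s * x = x * s) : False := by
  let P : Subgroup G → Prop := fun Y => Y ≤ Q ∧ s ∈ normalizer (Y : Set G) ∧ d ∈ normalizer (Y : Set G) ∧
    ¬ ∀ x ∈ Y, s * x = x * s
  haveI : Nonempty {Y // P Y} := ⟨⟨Q, le_rfl, hsQ, hdQ, hns⟩⟩
  obtain ⟨⟨Y, hY⟩, hm⟩ := Finite.exists_min (fun Y : {Y // P Y} => Nat.card Y.1)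
  have M : MinS Q W Y s d n := by
    refine ⟨hQ, hWn, hWQ, hW4, hcen, hW2, hinv, hs3, hsd, hd, hsW, hdW, hY.1, hY.2.1, hY.2.2.1, hY.2.2.2, ?_⟩
    intro Z hZY h1 h2 hne
    by_contra hcon
    apply hne
    exact eq_of_le_of_card_ge hZY (hm ⟨Z, hZY.trans hY.1, h1, h2, hcon⟩)
  exact M.false

end

end CfsgLib.H2JF
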