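import Cfsg.Agent.EqBase
import Cfsg.Agent.LibH2JF2
import Cfsg.Agent.LibNpc9
set_option autoImplicit false
set_option maxHeartbeats 400000
namespace CfsgLib.H2JG
open Subgroup Cfsg CfsgLib.H2JF
open scoped Pointwise commutatorElement

universe u

section
variable {G : Type u} [Group G] [Finite G] {p : ℕ} [hp : Fact p.Prime]

/-- the Frattini subgroup of a `p`-subgroup, by generators -/
def fr (p : ℕ) (Q : Subgroup G) : Subgroup G :=
  closure {z : G | (∃ x ∈ Q, z = x ^ p) ∨ (∃ x ∈ Q, ∃ y ∈ Q, z = ⁅x, y⁆)}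

theorem fr_le (Q : Subgroup G) : fr p Q ≤ Q := by
  unfold fr
  rw [closure_le]
  rintro z (⟨x, hx, rfl⟩ | ⟨x, hx, y, hy, rfl⟩)
  · exact pow_mem hx _
  · rw [commutatorElement_def]
    exact mul_mem (mul_mem (mul_mem hx hy) (inv_mem hx)) (inv_mem hy)

theorem fr_norm {Q : Subgroup G} {g : G} (hg : g ∈ normalizer (Q : Set G)) : g ∈ normalizer (fr p Q : Set G) := by
  apply norm_of
  intro y hy
  unfold fr at hy
  induction hy using closure_induction with
  | mem y hy =>
    rcases hy with ⟨x, hx, rfl⟩ | ⟨x, hx, y, hy, rfl⟩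
    · apply Subgroup.subset_closure
      left
      exact ⟨g * x * g⁻¹, conj_mem hg hx, by rw [conj_pow]⟩
    · apply Subgroup.subset_closure
      right
      exact ⟨g * x * g⁻¹, conj_mem hg hx, g * y * g⁻¹, conj_mem hg hy, by
        simp only [commutatorElement_def]; group⟩
  | one => simp
  | mul a b _ _ ha hb =>
    have : g * (a * b) * g⁻¹ = (g * a * g⁻¹) * (g * b * g⁻¹) := by group
    rw [this]; exact mul_mem ha hb
  | inv a _ ha =>
    have : g * a⁻¹ * g⁻¹ = (g * a * g⁻¹)⁻¹ := by group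
    rw [this]; exact inv_mem ha

theorem fr_ne {Q : Subgroup G} (hQ : IsPGroup p Q) (hQ1 : Q ≠ ⊥) : fr p Q ≠ Q := by
  obtain ⟨m, hm⟩ := hQ.exists_card_eq
  obtain ⟨j, rfl⟩ : ∃ j, m = j + 1 := by
    rcases m with _ | j
    · exfalso
      rw [pow_zero, card_eq_one] at hm
      exact hQ1 hm
    · exact ⟨j, rfl⟩
  obtain ⟨K, hK⟩ := Sylow.exists_subgroup_card_pow_prime (G := Q) p (n := j) (by
    rw [hm]; exact pow_dvd_pow _ (Nat.le_succ _))
  have hidx : K.index = p := by
    have := K.card_mul_index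
    rw [hK, hm, pow_succ] at this
    exact Nat.eq_of_mul_eq_mul_left (pow_pos hp.out.pos _) this
  haveI hKn : K.Normal := by
    apply normal_of_index_eq_minFac_card
    rw [hidx, hm, Nat.Prime.pow_minFac hp.out (Nat.succ_ne_zero _)]
  have hcard : Nat.card (Q ⧸ K) = p := by rw [← hidx]; rfl
  haveI : IsCyclic (Q ⧸ K) := isCyclic_of_prime_card hcard
  intro h
  have h1 : fr p Q ≤ K.map Q.subtype := by
    unfold fr
    rw [closure_le]
    rintro z (⟨x, hx, rfl⟩ | ⟨x, hx, y, hy, rfl⟩)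
    · refine ⟨⟨x, hx⟩ ^ p, ?_, rfl⟩
      show (⟨x, hx⟩ : Q) ^ p ∈ K
      rw [← QuotientGroup.eq_one_iff, QuotientGroup.mk_pow, ← hcard]
      exact pow_card_eq_one'
    · refine ⟨⁅(⟨x, hx⟩ : Q), (⟨y, hy⟩ : Q)⁆, ?_, rfl⟩
      show ⁅(⟨x, hx⟩ : Q), ⟨y, hy⟩⁆ ∈ K
      rw [← QuotientGroup.eq_one_iff]
      have h2 : ((⟨x, hx⟩ : Q) : Q ⧸ K) * ((⟨y, hy⟩ : Q) : Q ⧸ K) =
          ((⟨y, hy⟩ : Q) : Q ⧸ K) * ((⟨x, hx⟩ : Q) : Q ⧸ K) := by
        letI := IsCyclic.commGroup (α := Q ⧸ K)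
        exact mul_comm _ _
      have h3 := commutatorElement_eq_one_iff_mul_comm.mpr h2
      exact h3
  rw [h] at h1
  have h2 := card_le_of_le h1
  rw [card_map_of_injective Q.subtype_injective, hK, hm, pow_succ] at h2
  have h3 : 0 < p ^ j := pow_pos hp.out.pos _
  have h4 := hp.out.two_le
  nlinarith

/-- a fixed point modulo a centralized subgroup is fixed -/
theorem coprime_comm {Q : Subgroup G} (hQ : IsPGroup p Q) {g x : G} (hcop : (orderOf g).Coprime p)
    (hc : x⁻¹ * (g * x * g⁻¹) ∈ Q)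
    (h : g * (x⁻¹ * (g * x * g⁻¹)) = (x⁻¹ * (g * x * g⁻¹)) * g) : g * x = x * g := by
  set c := x⁻¹ * (g * x * g⁻¹) with hcdef
  have e1 : g * x * g⁻¹ = x * c := by rw [hcdef]; group
  have hgc : g * c * g⁻¹ = c := by rw [h]; group
  have e2 : ∀ n : ℕ, g ^ n * x * (g ^ n)⁻¹ = x * c ^ n := by
    intro n
    induction n with
    | zero => simp
    | succ n ih =>
      have : g ^ (n + 1) * x * (g ^ (n + 1))⁻¹ = g * (g ^ n * x * (g ^ n)⁻¹) * g⁻¹ := by
        rw [pow_succ']; group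
      rw [this, ih]
      have h2 : g * c ^ n * g⁻¹ = c ^ n := by rw [← conj_pow, hgc]
      calc g * (x * c ^ n) * g⁻¹ = (g * x * g⁻¹) * (g * c ^ n * g⁻¹) := by group
        _ = x * c * c ^ n := by rw [e1, h2]
        _ = x * c ^ (n + 1) := by rw [pow_succ', mul_assoc]
  have h3 := e2 (orderOf g)
  rw [pow_orderOf_eq_one] at h3
  have h4 : c ^ orderOf g = 1 := by
    have : x * c ^ orderOf g = x := by rw [← h3]; simp
    exact mul_eq_left.mp this
  obtain ⟨k, hk⟩ := hQ ⟨c, hc⟩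
  have hk' : c ^ (p ^ k) = 1 := congrArg Subtype.val hk
  have h5 : orderOf c ∣ 1 := by
    have : Nat.Coprime (p ^ k) (orderOf g) := (Nat.Coprime.pow_right k hcop).symm
    rw [← this]
    exact Nat.dvd_gcd (orderOf_dvd_of_pow_eq_one hk') (orderOf_dvd_of_pow_eq_one h4)
  have h6 : c = 1 := orderOf_eq_one_iff.mp (Nat.dvd_one.mp h5)
  rw [h6, mul_one] at e1
  exact mul_inv_eq_iff_eq_mul.mp e1

/-- minimal non-centralizing pair -/
structure MinP (p : ℕ) (Q : Subgroup G) (g : G) (q : ℕ) : Prop where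
  hQ : IsPGroup p Q
  hg : g ∈ normalizer (Q : Set G)
  hcop : (orderOf g).Coprime p
  hgQ : ¬ ∀ x ∈ Q, g * x = x * g
  hmin : ∀ Y : Subgroup G, Y ≤ Q → g ∈ normalizer (Y : Set G) → Y ≠ Q → ∀ x ∈ Y, g * x = x * g
  hq : q.Prime
  hqg : q ∣ orderOf g
  hgq : ∀ x ∈ Q, g ^ q * x = x * g ^ q

variable {Q : Subgroup G} {g : G} {q : ℕ}

theorem MinP.pr (M : MinP p Q g q) {Y : Subgroup G} (hY : Y ≤ Q) (h1 : g ∈ normalizer (Y : Set G))
    (h3 : ∀ x ∈ Q, x⁻¹ * (g * x * g⁻¹) ∈ Y) : Y = Q := by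
  by_contra hne
  have hcz := M.hmin Y hY h1 hne
  apply M.hgQ
  intro x hx
  exact coprime_comm M.hQ M.hcop (hY (h3 x hx)) (hcz _ (h3 x hx))

theorem MinP.ne_bot (M : MinP p Q g q) : Q ≠ ⊥ := by
  intro h
  apply M.hgQ
  intro x hx
  rw [h, mem_bot] at hx
  rw [hx]; simp

theorem MinP.frc (M : MinP p Q g q) : ∀ x ∈ fr p Q, g * x = x * g :=
  M.hmin _ (fr_le Q) (fr_norm M.hg) (fr_ne M.hQ M.ne_bot)

/-- the norm of an element modulo Frattini vanishes -/
theorem MinP.fixed (M : MinP p Q g q) {x : G} (hx : x ∈ Q) (h : g * x = x * g) : x ∈ fr p Q := by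
  haveI hD : (fr p Q).subgroupOf Q |>.Normal :=
    (normal_subgroupOf_iff_le_normalizer (fr_le Q)).mpr (fun x hx => fr_norm (le_normalizer hx))
  let R := Q ⧸ (fr p Q).subgroupOf Q
  let π : Q →* R := QuotientGroup.mk' _
  have hπ : ∀ x : Q, π x = 1 ↔ (x : G) ∈ fr p Q := fun x => (QuotientGroup.eq_one_iff x).trans mem_subgroupOf
  have hRc : ∀ u v : R, u * v = v * u := by
    intro u v
    obtain ⟨x, rfl⟩ := QuotientGroup.mk'_surjective _ u
    obtain ⟨y, rfl⟩ := QuotientGroup.mk'_surjective _ v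
    rw [← commutatorElement_eq_one_iff_mul_comm, ← map_commutatorElement]
    apply (hπ _).mpr
    exact Subgroup.subset_closure (Or.inr ⟨x, x.2, y, y.2, rfl⟩)
  have hRp : ∀ u : R, u ^ p = 1 := by
    intro u
    obtain ⟨x, rfl⟩ := QuotientGroup.mk'_surjective _ u
    rw [← map_pow]
    apply (hπ _).mpr
    exact Subgroup.subset_closure (Or.inl ⟨x, x.2, rfl⟩)
  letI : CommGroup R := { (inferInstance : Group R) with mul_comm := hRc }
  let γ : Q →* Q := MonoidHom.mk' (fun v => ⟨g * v * g⁻¹, conj_mem M.hg v.2⟩) (fun u v => Subtype.ext (by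
    show g * ((u * v : Q) : G) * g⁻¹ = g * u * g⁻¹ * (g * v * g⁻¹)
    rw [coe_mul]; group))
  have hγn : ∀ (n : ℕ) (v : Q), (((γ^[n]) v : Q) : G) = g ^ n * v * (g ^ n)⁻¹ := by
    intro n
    induction n with
    | zero => intro v; simp
    | succ n ih =>
      intro v
      rw [Function.iterate_succ_apply', pow_succ']
      show g * ((γ^[n] v : Q) : G) * g⁻¹ = _
      rw [ih]; group
  set m := orderOf g with hm
  let N : Q →* R :=
    { toFun := fun v => ∏ i ∈ Finset.range m, π (γ^[i] v)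
      map_one' := by
        apply Finset.prod_eq_one
        intro i _
        have : γ^[i] (1 : Q) = 1 := by
          apply Subtype.ext; rw [hγn]; simp
        rw [this, map_one]
      map_mul' := by
        intro u v
        rw [← Finset.prod_mul_distrib]
        apply Finset.prod_congr rfl
        intro i _
        have : γ^[i] (u * v) = γ^[i] u * γ^[i] v := by
          apply Subtype.ext
          rw [coe_mul, hγn, hγn, hγn, coe_mul]; group
        rw [this, map_mul] }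
  have hNd : ∀ v, N v = ∏ i ∈ Finset.range m, π (γ^[i] v) := fun v => rfl
  have hNγ : ∀ v, N (γ v) = N v := by
    intro v
    rw [hNd, hNd]
    have h1 : ∏ i ∈ Finset.range (m + 1), π (γ^[i] v) = (∏ i ∈ Finset.range m, π (γ^[i] (γ v))) * π v := by
      rw [Finset.prod_range_succ']
      simp only [Function.iterate_succ_apply, Function.iterate_zero, id_eq]
    have h2 : ∏ i ∈ Finset.range (m + 1), π (γ^[i] v) = (∏ i ∈ Finset.range m, π (γ^[i] v)) * π v := by
      rw [Finset.prod_range_succ]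
      congr 2
      apply Subtype.ext
      rw [hγn, hm, pow_orderOf_eq_one]; simp
    exact mul_right_cancel (h1.symm.trans h2)
  have hker : (N.ker).map Q.subtype = Q := by
    apply M.pr
    · rintro _ ⟨v, hv, rfl⟩; exact v.2
    · apply norm_of
      rintro _ ⟨v, hv, rfl⟩
      refine ⟨γ v, ?_, rfl⟩
      show N (γ v) = 1
      rw [hNγ]; exact hv
    · intro x hx
      refine ⟨⟨x, hx⟩⁻¹ * γ ⟨x, hx⟩, ?_, rfl⟩
      show N (⟨x, hx⟩⁻¹ * γ ⟨x, hx⟩) = 1
      rw [map_mul, map_inv, hNγ, inv_mul_cancel]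
  have hx' : x ∈ (N.ker).map Q.subtype := by rw [hker]; exact hx
  obtain ⟨v, hv, hvx⟩ := hx'
  have hNv : N v = 1 := hv
  have hγv : ∀ i, γ^[i] v = v := by
    intro i
    apply Subtype.ext
    rw [hγn]
    have h5 : (v : G) = x := hvx
    rw [h5]
    have : Commute (g ^ i) x := (show Commute g x from h).pow_left i
    rw [this.eq]; group
  rw [hNd] at hNv
  simp only [hγv, Finset.prod_const, Finset.card_range] at hNv
  have h6 : π v = 1 := by
    have h7 : orderOf (π v) ∣ 1 := by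
      have : Nat.Coprime m p := M.hcop
      rw [← this]
      exact Nat.dvd_gcd (orderOf_dvd_of_pow_eq_one hNv) (orderOf_dvd_of_pow_eq_one (hRp _))
    exact orderOf_eq_one_iff.mp (Nat.dvd_one.mp h7)
  have h8 := (hπ v).mp h6
  have h5 : (v : G) = x := hvx
  rwa [h5] at h8

end

end CfsgLib.H2JG
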