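import Cfsg.Agent.EqBase
import Cfsg.Agent.LibH2JG1
set_option autoImplicit false
set_option maxHeartbeats 400000
namespace CfsgLib.H2JG
open Subgroup Cfsg CfsgLib.H2JF
open scoped Pointwise commutatorElement

universe u

theorem frob_like {K : Type u} [Group K] [Finite K] {p q : ℕ} [hp : Fact p.Prime] (hq : q.Prime) (hpq : p ≠ q)
    (V : Subgroup K) [hVn : V.Normal] (hVc : ∀ u ∈ V, ∀ v ∈ V, u * v = v * u) (hVp : ∀ v ∈ V, v ^ p = 1) (γ : K)
    (hγq : γ ^ q = 1) (hγ1 : γ ≠ 1) (hgen : ∀ k : K, ∃ v ∈ V, ∃ i : ℕ, k = v * γ ^ i)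
    (hfix : ∀ v ∈ V, γ * v = v * γ → v = 1) (hV1 : V ≠ ⊥) :
    pPrimeCore p K = ⊥ ∧ ¬ ∃ k : K, orderOf k = Monoid.exponent K := by
  have A : ∀ i : ℕ, ¬ q ∣ i → ∀ v ∈ V, γ ^ i * v = v * γ ^ i → v = 1 := by
    intro i hi v hv h
    apply hfix v hv
    have hcop : i.Coprime q := ((Nat.Prime.coprime_iff_not_dvd hq).mpr hi).symm
    obtain ⟨j, hj⟩ := Nat.exists_mul_mod_eq_one_of_coprime hcop hq.one_lt
    have h1 : (γ ^ i) ^ j = γ := by
      rw [← pow_mul, ← Nat.div_add_mod (i * j) q, pow_add, pow_mul, hγq, one_pow, one_mul, hj.2, pow_one]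
    have h2 : Commute ((γ ^ i) ^ j) v := (show Commute (γ ^ i) v from h).pow_left j
    rw [h1] at h2
    exact h2
  have B0 : ∀ v ∈ V, ∀ i n : ℕ, ∃ w ∈ V, (v * γ ^ i) ^ n = w * γ ^ (i * n) := by
    intro v hv i n
    induction n with
    | zero => exact ⟨1, one_mem _, by simp⟩
    | succ n ih =>
      obtain ⟨w, hw, h⟩ := ih
      refine ⟨w * (γ ^ (i * n) * v * (γ ^ (i * n))⁻¹), mul_mem hw (hVn.conj_mem v hv _), ?_⟩
      rw [pow_succ, h, Nat.mul_succ, pow_add]
      group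
  have B : ∀ v ∈ V, ∀ i : ℕ, ¬ q ∣ i → (v * γ ^ i) ^ q = 1 := by
    intro v hv i hi
    obtain ⟨w, hw, h⟩ := B0 v hv i q
    rw [mul_comm i q, pow_mul, hγq, one_pow, mul_one] at h
    rw [h]
    apply A i hi w hw
    have h1 : Commute w (v * γ ^ i) := by
      rw [← h]; exact (Commute.refl _).pow_left q
    have h2 : Commute w v⁻¹ := (show Commute w v from hVc w hw v hv).inv_right
    have h3 := h2.mul_right h1
    rw [inv_mul_cancel_left] at h3
    exact h3.symm
  have Cc : ∀ k : K, k ^ p = 1 ∨ k ^ q = 1 := by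
    intro k
    obtain ⟨v, hv, i, rfl⟩ := hgen k
    by_cases hi : q ∣ i
    · left
      obtain ⟨j, rfl⟩ := hi
      rw [pow_mul, hγq, one_pow, mul_one]
      exact hVp v hv
    · right
      exact B v hv i hi
  constructor
  · rw [eq_bot_iff]
    intro m hm
    have hMn : (pPrimeCore p K).Normal := inferInstance
    have hMc := CfsgLib.Cores.pPrimeCore_coprime (G := K) p
    have hinf : ∀ x ∈ pPrimeCore p K, x ∈ V → x = 1 := by
      intro x hx hxV
      have h1 : orderOf x ∣ Nat.card (pPrimeCore p K) := by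
        rw [← orderOf_mk x hx]; exact orderOf_dvd_natCard _
      have h2 : orderOf x ∣ 1 := by
        rw [← hMc]
        exact Nat.dvd_gcd h1 (orderOf_dvd_of_pow_eq_one (hVp x hxV))
      exact orderOf_eq_one_iff.mp (Nat.dvd_one.mp h2)
    have hcomm : ∀ v ∈ V, m * v = v * m := by
      intro v hv
      rw [← commutatorElement_eq_one_iff_mul_comm]
      apply hinf
      · have : ⁅m, v⁆ = m * (v * m⁻¹ * v⁻¹) := by rw [commutatorElement_def]; group
        rw [this]
        exact mul_mem hm (hMn.conj_mem _ (inv_mem hm) v)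
      · rw [commutatorElement_def]
        exact mul_mem (hVn.conj_mem v hv m) (inv_mem hv)
    obtain ⟨u, hu, i, hmi⟩ := hgen m
    by_cases hi : q ∣ i
    · obtain ⟨j, rfl⟩ := hi
      rw [pow_mul, hγq, one_pow, mul_one] at hmi
      rw [mem_bot]
      exact hinf m hm (hmi ▸ hu)
    · exfalso
      apply hV1
      rw [eq_bot_iff]
      intro v hv
      rw [mem_bot]
      apply A i hi v hv
      have h1 : Commute m v := hcomm v hv
      have h2 : Commute u⁻¹ v := (show Commute u v from hVc u hu v hv).inv_left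
      have h3 := h2.mul_left h1
      rw [hmi, inv_mul_cancel_left] at h3
      exact h3
  · rintro ⟨k, hk⟩
    have hpe : p ∣ orderOf k := by
      rw [hk]
      obtain ⟨⟨v, hv⟩, hv1⟩ := Subgroup.ne_bot_iff_exists_ne_one.mp hV1
      have : orderOf v = p := orderOf_eq_prime (hVp v hv) (fun h => hv1 (Subtype.ext h))
      rw [← this]
      exact Monoid.order_dvd_exponent v
    have hqe : q ∣ orderOf k := by
      rw [hk]
      haveI : Fact q.Prime := ⟨hq⟩
      have : orderOf γ = q := orderOf_eq_prime hγq hγ1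
      rw [← this]
      exact Monoid.order_dvd_exponent γ
    rcases Cc k with h | h
    · have h1 := hqe.trans (orderOf_dvd_of_pow_eq_one h)
      exact hpq ((Nat.prime_dvd_prime_iff_eq hq hp.out).mp h1).symm
    · have h1 := hpe.trans (orderOf_dvd_of_pow_eq_one h)
      exact hpq ((Nat.prime_dvd_prime_iff_eq hp.out hq).mp h1)

section
variable {G : Type u} [Group G] [Finite G] {p : ℕ} [hp : Fact p.Prime] {Q : Subgroup G} {g : G} {q : ℕ}

theorem MinP.sec (M : MinP p Q g q) : ∃ (H : Subgroup G) (N : Subgroup H) (_ : N.Normal),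
    pPrimeCore p (H ⧸ N) = ⊥ ∧ ¬ ∃ k : H ⧸ N, orderOf k = Monoid.exponent (H ⧸ N) := by
  have hpq : p ≠ q := by
    rintro rfl
    have := M.hcop
    rw [Nat.coprime_comm, Nat.Prime.coprime_iff_not_dvd hp.out] at this
    exact this M.hqg
  have hfc : ∀ u ∈ fr p Q, ∀ w ∈ zpowers g, Commute w u := by
    rintro u hu _ ⟨i, rfl⟩
    exact (show Commute g u from M.frc u hu).zpow_left i
  have hqc : ∀ x ∈ Q, ∀ w ∈ zpowers (g ^ q), Commute w x := by
    rintro x hx _ ⟨i, rfl⟩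
    exact (show Commute (g ^ q) x from M.hgq x hx).zpow_left i
  have hqle : zpowers (g ^ q) ≤ zpowers g := by
    rw [zpowers_le]; exact pow_mem (mem_zpowers g) q
  have hwN : ∀ w ∈ zpowers g, w ∈ normalizer (Q : Set G) := by
    intro w hw
    exact (zpowers_le.mpr M.hg) hw
  let H : Subgroup G :=
    { carrier := {z | ∃ x ∈ Q, ∃ w ∈ zpowers g, z = x * w}
      one_mem' := ⟨1, one_mem _, 1, one_mem _, by simp⟩
      mul_mem' := by
        rintro _ _ ⟨x, hx, w, hw, rfl⟩ ⟨x', hx', w', hw', rfl⟩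
        refine ⟨x * (w * x' * w⁻¹), mul_mem hx (conj_mem (hwN w hw) hx'), w * w', mul_mem hw hw', by group⟩
      inv_mem' := by
        rintro _ ⟨x, hx, w, hw, rfl⟩
        refine ⟨w⁻¹ * x⁻¹ * w, ?_, w⁻¹, inv_mem hw, by group⟩
        exact conj_mem' (hwN w hw) (inv_mem hx) }
  have hQH : Q ≤ H := fun x hx => ⟨x, hx, 1, one_mem _, by simp⟩
  have hgH : g ∈ H := ⟨1, one_mem _, g, mem_zpowers g, by simp⟩
  let N : Subgroup G :=
    { carrier := {z | ∃ x ∈ fr p Q, ∃ w ∈ zpowers (g ^ q), z = x * w}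
      one_mem' := ⟨1, one_mem _, 1, one_mem _, by simp⟩
      mul_mem' := by
        rintro _ _ ⟨x, hx, w, hw, rfl⟩ ⟨x', hx', w', hw', rfl⟩
        refine ⟨x * x', mul_mem hx hx', w * w', mul_mem hw hw', ?_⟩
        have := (hfc x' hx' w (hqle hw)).eq
        calc x * w * (x' * w') = x * (w * x') * w' := by group
          _ = x * (x' * w) * w' := by rw [this]
          _ = x * x' * (w * w') := by group
      inv_mem' := by
        rintro _ ⟨x, hx, w, hw, rfl⟩
        refine ⟨x⁻¹, inv_mem hx, w⁻¹, inv_mem hw, ?_⟩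
        rw [mul_inv_rev]
        exact (hfc _ (inv_mem hx) _ (hqle (inv_mem hw))).eq }
  have hNH : N ≤ H := by
    rintro _ ⟨x, hx, w, hw, rfl⟩
    exact ⟨x, fr_le Q hx, w, hqle hw, rfl⟩
  have hnorm : H ≤ normalizer (N : Set G) := by
    rintro _ ⟨x, hx, w, hw, rfl⟩
    apply norm_of
    rintro _ ⟨u, hu, v, hv, rfl⟩
    refine ⟨x * w * u * (x * w)⁻¹, ?_, v, hv, ?_⟩
    · apply conj_mem _ hu
      exact mul_mem (fr_norm (le_normalizer hx)) (fr_norm (hwN w hw))
    · have c1 := (hqc x hx v hv).eq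
      have c2 : v * w = w * v := by
        obtain ⟨i, rfl⟩ := hw
        obtain ⟨j, rfl⟩ := hqle hv
        exact (Commute.zpow_zpow_self g j i).eq
      have c3 : v * (x * w)⁻¹ = (x * w)⁻¹ * v := by
        rw [eq_inv_mul_iff_mul_eq, ← mul_assoc]
        rw [mul_inv_eq_iff_eq_mul]
        rw [← mul_assoc, c1, mul_assoc x v w, c2, mul_assoc]
      calc x * w * (u * v) * (x * w)⁻¹ = x * w * u * (v * (x * w)⁻¹) := by group
        _ = x * w * u * ((x * w)⁻¹ * v) := by rw [c3]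
        _ = x * w * u * (x * w)⁻¹ * v := by group
  haveI hNn : (N.subgroupOf H).Normal := (normal_subgroupOf_iff_le_normalizer hNH).mpr hnorm
  refine ⟨H, N.subgroupOf H, hNn, ?_⟩
  -- abstract quotient
  have main : ∀ (K : Type u) [Group K] [Finite K] (π : H →* K), Function.Surjective π →
      (∀ h : H, π h = 1 ↔ (h : G) ∈ N) → pPrimeCore p K = ⊥ ∧ ¬ ∃ k : K, orderOf k = Monoid.exponent K := by
    intro K _ _ π hπ hπ1
    have hQp := M.hQ
    have hinfQ : ∀ x ∈ Q, x ∈ N → x ∈ fr p Q := by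
      rintro x hx ⟨u, hu, v, hv, rfl⟩
      have hvQ : v ∈ Q := by
        have := mul_mem (inv_mem (fr_le Q hu)) hx
        rwa [inv_mul_cancel_left] at this
      have hv1 : v = 1 := by
        obtain ⟨k, hk⟩ := hQp ⟨v, hvQ⟩
        have hk' : v ^ (p ^ k) = 1 := congrArg Subtype.val hk
        have h1 : orderOf v ∣ orderOf g := orderOf_dvd_of_mem_zpowers (hqle hv)
        have h2 : orderOf v ∣ 1 := by
          have : Nat.Coprime (p ^ k) (orderOf g) := (Nat.Coprime.pow_right k M.hcop).symm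
          rw [← this]
          exact Nat.dvd_gcd (orderOf_dvd_of_pow_eq_one hk') h1
        exact orderOf_eq_one_iff.mp (Nat.dvd_one.mp h2)
      rw [hv1, mul_one]; exact hu
    haveI hVn : ((Q.subgroupOf H).map π).Normal := by
      have hQn : (Q.subgroupOf H).Normal := (normal_subgroupOf_iff_le_normalizer hQH).mpr (by
        rintro _ ⟨x, hx, w, hw, rfl⟩
        exact mul_mem (le_normalizer hx) (hwN w hw))
      exact hQn.map π hπ
    have hfrN : fr p Q ≤ N := fun x hx => ⟨x, hx, 1, one_mem _, by simp⟩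
    have key : ∀ v ∈ (Q.subgroupOf H).map π, ∃ (x : G) (hx : x ∈ Q), v = π ⟨x, hQH hx⟩ := by
      rintro _ ⟨⟨x, hxH⟩, hx, rfl⟩
      exact ⟨x, hx, rfl⟩
    have hfixed : ∀ v ∈ (Q.subgroupOf H).map π, π ⟨g, hgH⟩ * v = v * π ⟨g, hgH⟩ → v = 1 := by
      intro v hv h
      obtain ⟨x, hx, rfl⟩ := key v hv
      rw [hπ1]
      apply hfrN
      show x ∈ fr p Q
      apply M.fixed hx
      -- g x g⁻¹ x⁻¹ ∈ N ∩ Q
      have h1 : x⁻¹ * (g * x * g⁻¹) ∈ fr p Q := by
        apply hinfQ _ (mul_mem (inv_mem hx) (conj_mem M.hg hx))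
        have h2 : π (⟨x, hQH hx⟩⁻¹ * (⟨g, hgH⟩ * ⟨x, hQH hx⟩ * ⟨g, hgH⟩⁻¹)) = 1 := by
          rw [map_mul, map_mul, map_mul, map_inv, map_inv, h]; group
        exact (hπ1 _).mp h2
      exact coprime_comm M.hQ M.hcop (fr_le Q h1) (M.frc _ h1)
    refine frob_like M.hq hpq ((Q.subgroupOf H).map π) ?_ ?_ (π ⟨g, hgH⟩) ?_ ?_ ?_ hfixed ?_
    · intro u hu v hv
      obtain ⟨x, hx, rfl⟩ := key u hu
      obtain ⟨y, hy, rfl⟩ := key v hv
      rw [← commutatorElement_eq_one_iff_mul_comm, ← map_commutatorElement, hπ1]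
      exact hfrN (Subgroup.subset_closure (Or.inr ⟨x, hx, y, hy, rfl⟩))
    · intro v hv
      obtain ⟨x, hx, rfl⟩ := key v hv
      rw [← map_pow, hπ1]
      exact hfrN (Subgroup.subset_closure (Or.inl ⟨x, hx, rfl⟩))
    · rw [← map_pow, hπ1]
      exact ⟨1, one_mem _, g ^ q, mem_zpowers _, by simp⟩
    · intro h1
      -- then g centralizes Q modulo Frattini
      have h2 : Q ≤ fr p Q := by
        intro x hx
        have h3 := hfixed (π ⟨x, hQH hx⟩) ⟨⟨x, hQH hx⟩, hx, rfl⟩ (by rw [h1, one_mul, mul_one])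
        rw [hπ1] at h3
        exact hinfQ x hx h3
      exact fr_ne M.hQ M.ne_bot (le_antisymm (fr_le Q) h2)
    · intro k
      obtain ⟨⟨_, x, hx, w, hw, rfl⟩, rfl⟩ := hπ k
      obtain ⟨i, hi⟩ : ∃ i : ℕ, g ^ i = w := by
        classical
        obtain ⟨a, -, ha⟩ := Finset.mem_image.mp (mem_zpowers_iff_mem_range_orderOf.mp hw)
        exact ⟨a, ha⟩
      subst hi
      refine ⟨π ⟨x, hQH hx⟩, ⟨⟨x, hQH hx⟩, hx, rfl⟩, i, ?_⟩
      rw [← map_pow, ← map_mul]
      rfl
    · intro h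
      have h2 : Q ≤ fr p Q := by
        intro x hx
        have h3 : π ⟨x, hQH hx⟩ ∈ (Q.subgroupOf H).map π := ⟨⟨x, hQH hx⟩, hx, rfl⟩
        rw [h, mem_bot, hπ1] at h3
        exact hinfQ x hx h3
      exact fr_ne M.hQ M.ne_bot (le_antisymm (fr_le Q) h2)
  exact main (H ⧸ N.subgroupOf H) (QuotientGroup.mk' _) (QuotientGroup.mk'_surjective _)
    (fun h => (QuotientGroup.eq_one_iff h).trans mem_subgroupOf)

end

end CfsgLib.H2JG
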