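import Cfsg.Agent.EqBase

set_option autoImplicit false
open Matrix
namespace CfsgLib.H2JN

section basic
variable {p : ℕ} [NeZero p] {F : Type*} [Field F]

def Mx (b : Fin p → F) (l : Fin p) : Matrix (Fin p) (Fin p) F := Matrix.of fun r s => if r = s + l then b r else 0

theorem Mx_apply (b : Fin p → F) (l r s : Fin p) : Mx b l r s = if r = s + l then b r else 0 := rfl

theorem Mx_mul_apply (b : Fin p → F) (l : Fin p) (N : Matrix (Fin p) (Fin p) F) (r s : Fin p) :
    (Mx b l * N) r s = b r * N (r - l) s := by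
  rw [Matrix.mul_apply, Finset.sum_eq_single (r - l)]
  · rw [Mx_apply, if_pos (sub_add_cancel r l).symm]
  · intro t _ ht
    rw [Mx_apply, if_neg, zero_mul]
    rintro rfl
    exact ht (add_sub_cancel_right t l).symm
  · intro h
    exact absurd (Finset.mem_univ _) h

theorem mul_Mx_apply (b : Fin p → F) (l : Fin p) (N : Matrix (Fin p) (Fin p) F) (r s : Fin p) :
    (N * Mx b l) r s = N r (s + l) * b (s + l) := by
  rw [Matrix.mul_apply, Finset.sum_eq_single (s + l)]
  · rw [Mx_apply, if_pos rfl]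
  · intro t _ ht
    rw [Mx_apply, if_neg ht, mul_zero]
  · intro h
    exact absurd (Finset.mem_univ _) h

theorem Mx_one : (Mx (fun _ => 1) 0 : Matrix (Fin p) (Fin p) F) = 1 := by
  ext r s
  rw [Mx_apply, Matrix.one_apply, add_zero]

theorem Mx_mul (b c : Fin p → F) (l k : Fin p) : Mx b l * Mx c k = Mx (fun r => b r * c (r - l)) (l + k) := by
  ext r s
  rw [Mx_mul_apply, Mx_apply, Mx_apply]
  by_cases h : r - l = s + k
  · rw [if_pos h, if_pos]
    rw [sub_eq_iff_eq_add] at h
    rw [h, add_assoc, add_comm k l]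
  · rw [if_neg h, if_neg, mul_zero]
    intro h'
    apply h
    rw [sub_eq_iff_eq_add, h', add_assoc, add_comm k l]

theorem Mx_pow (b : Fin p → F) (l : Fin p) (hb : ∀ r, b r ^ p = 1) (n : ℕ) :
    ∃ c : Fin p → F, (∀ r, c r ^ p = 1) ∧ (Mx b l) ^ n = Mx c (n • l) := by
  induction n with
  | zero => exact ⟨fun _ => 1, fun _ => one_pow _, by rw [pow_zero, zero_smul, Mx_one]⟩
  | succ n ih =>
    obtain ⟨c, hc, h⟩ := ih
    refine ⟨fun r => c r * b (r - n • l), fun r => by rw [mul_pow, hc, hb, one_mul], ?_⟩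
    rw [pow_succ, h, Mx_mul, succ_nsmul]

theorem Mx_zero_pow (b : Fin p → F) (n : ℕ) : (Mx b 0) ^ n = Mx (fun r => b r ^ n) 0 := by
  induction n with
  | zero => rw [pow_zero, ← Mx_one]; congr 1; ext r; rw [pow_zero]
  | succ n ih =>
    rw [pow_succ, ih, Mx_mul, add_zero]
    congr 1
    ext r
    rw [sub_zero, pow_succ]

/-- the monomial p-subgroup -/
def Qs (p : ℕ) [NeZero p] (F : Type*) [Field F] : Subgroup (GL (Fin p) F) where
  carrier := {g | ∃ (b : Fin p → F) (l : Fin p), (∀ r, b r ^ p = 1) ∧ (g : Matrix (Fin p) (Fin p) F) = Mx b l}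
  mul_mem' := by
    rintro g h ⟨b, l, hb, hg⟩ ⟨c, k, hc, hh⟩
    refine ⟨fun r => b r * c (r - l), l + k, fun r => by rw [mul_pow, hb, hc, one_mul], ?_⟩
    rw [Units.val_mul, hg, hh, Mx_mul]
  one_mem' := ⟨fun _ => 1, 0, fun _ => one_pow _, by rw [Units.val_one, Mx_one]⟩
  inv_mem' := by
    rintro g ⟨b, l, hb, hg⟩
    have hb0 : ∀ r, b r ≠ 0 := by
      intro r h
      have h1 := hb r
      rw [h, zero_pow (NeZero.ne p)] at h1
      exact zero_ne_one h1
    refine ⟨fun r => (b (r + l))⁻¹, -l, fun r => by rw [inv_pow, hb, inv_one], ?_⟩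
    apply Units.inv_eq_of_mul_eq_one_right
    rw [hg, Mx_mul, add_neg_cancel, ← Mx_one]
    congr 1
    ext r
    rw [sub_add_cancel, mul_inv_cancel₀ (hb0 r)]

theorem mem_Qs {g : GL (Fin p) F} : g ∈ Qs p F ↔ ∃ (b : Fin p → F) (l : Fin p), (∀ r, b r ^ p = 1) ∧
    (g : Matrix (Fin p) (Fin p) F) = Mx b l := Iff.rfl

theorem Qs_pgroup : IsPGroup p (Qs p F) := by
  rintro ⟨g, b, l, hb, hg⟩
  refine ⟨2, Subtype.ext (Units.ext ?_)⟩
  show ((g ^ p ^ 2 : GL (Fin p) F) : Matrix (Fin p) (Fin p) F) = 1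
  rw [Units.val_pow_eq_pow_val, hg, pow_two, pow_mul]
  obtain ⟨c, hc, h⟩ := Mx_pow b l hb p
  rw [h]
  have h1 : p • l = 0 := by
    have h2 := card_nsmul_eq_zero (x := l)
    rwa [Fintype.card_fin] at h2
  rw [h1, Mx_zero_pow, ← Mx_one]
  congr 1
  ext r
  exact hc r

/-- make a unit from a monomial matrix -/
theorem exists_unit (b : Fin p → F) (l : Fin p) (hb : ∀ r, b r ^ p = 1) : ∃ g : GL (Fin p) F,
    (g : Matrix (Fin p) (Fin p) F) = Mx b l ∧ g ∈ Qs p F := by
  have hb0 : ∀ r, b r ≠ 0 := by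
    intro r h
    have h1 := hb r
    rw [h, zero_pow (NeZero.ne p)] at h1
    exact zero_ne_one h1
  have h1 : Mx b l * Mx (fun r => (b (r + l))⁻¹) (-l) = 1 := by
    rw [Mx_mul, add_neg_cancel, ← Mx_one]
    congr 1
    ext r
    rw [sub_add_cancel, mul_inv_cancel₀ (hb0 r)]
  exact ⟨⟨Mx b l, Mx (fun r => (b (r + l))⁻¹) (-l), h1, _root_.mul_eq_one_comm.mp h1⟩, rfl, b, l, hb, rfl⟩

end basic

section nrm
variable {p : ℕ} [Fact p.Prime] {F : Type*} [Field F]

/-- elements normalising the monomial p-subgroup are monomial. -/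
theorem row_monomial (hp2 : p ≠ 2) {ζ : F} (hζ : ζ ^ p = 1) (hζ1 : ζ ≠ 1) (g : GL (Fin p) F)
    (hg : ∀ y ∈ Qs p F, g * y * g⁻¹ ∈ Qs p F) (r i s : Fin p) (hri : (g : Matrix (Fin p) (Fin p) F) r i ≠ 0) (hsi : s ≠ i) :
    (g : Matrix (Fin p) (Fin p) F) r s = 0 := by
  have hp := (Fact.out : p.Prime)
  have hp3 : 3 ≤ p := by
    have := hp.two_le
    omega
  obtain ⟨y, hy, hyQ⟩ := exists_unit (fun t => if t = i then ζ else 1) (0 : Fin p) (fun t => by
    by_cases h : t = i
    · rw [if_pos h, hζ]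
    · rw [if_neg h, one_pow])
  obtain ⟨a, l, ha, hw⟩ := hg y hyQ
  have h1 : (g : Matrix (Fin p) (Fin p) F) * y = Mx a l * g := by
    rw [← hw, ← Units.val_mul, ← Units.val_mul]
    congr 1
    group
  rw [hy] at h1
  have hent : ∀ u v, (g : Matrix (Fin p) (Fin p) F) u v * (if v = i then ζ else 1) = a u * (g : Matrix (Fin p) (Fin p) F) (u - l) v := by
    intro u v
    have h2 := congrFun (congrFun h1 u) v
    rw [mul_Mx_apply, Mx_mul_apply, add_zero] at h2
    exact h2
  by_cases hl : l = 0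
  · subst hl
    have e1 := hent r i
    rw [if_pos rfl, sub_zero, mul_comm] at e1
    have e2 : ζ = a r := mul_right_cancel₀ hri e1
    have e3 := hent r s
    rw [if_neg hsi, mul_one, sub_zero, ← e2] at e3
    have e4 : (1 - ζ) * (g : Matrix (Fin p) (Fin p) F) r s = 0 := by linear_combination e3
    rcases mul_eq_zero.mp e4 with h | h
    · exact absurd (sub_eq_zero.mp h).symm hζ1
    · exact h
  · exfalso
    -- w - 1 has rank one
    set G := (g : Matrix (Fin p) (Fin p) F) with hG
    set G' := ((g⁻¹ : GL (Fin p) F) : Matrix (Fin p) (Fin p) F) with hG'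
    have hGG : G * G' = 1 := by rw [hG, hG', ← Units.val_mul, mul_inv_cancel, Units.val_one]
    have hw2 : ∀ u v, (Mx a l - 1) u v = G u i * (ζ - 1) * G' i v := by
      intro u v
      have h3 : Mx a l - 1 = (G * Mx (fun t => if t = i then ζ else 1) 0 - G) * G' := by
        rw [h1, sub_mul, mul_assoc, hGG, mul_one]
      rw [h3, Matrix.mul_apply, Finset.sum_eq_single i]
      · rw [Matrix.sub_apply, mul_Mx_apply, add_zero, if_pos rfl]
        ring
      · intro t _ ht
        rw [Matrix.sub_apply, mul_Mx_apply, add_zero, if_neg ht]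
        ring
      · intro h
        exact absurd (Finset.mem_univ _) h
    let i0 : Fin p := ⟨0, by omega⟩
    let i1 : Fin p := ⟨1, by omega⟩
    have hne : i0 ≠ i1 := by
      intro h
      have := congrArg Fin.val h
      simp [i0, i1] at this
    have hd : ∀ u : Fin p, (Mx a l - 1) u u = -1 := by
      intro u
      rw [Matrix.sub_apply, Mx_apply, if_neg, Matrix.one_apply_eq, zero_sub]
      intro h
      exact hl (left_eq_add.mp h)
    have hmin : (Mx a l - 1) i0 i0 * (Mx a l - 1) i1 i1 = (Mx a l - 1) i0 i1 * (Mx a l - 1) i1 i0 := by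
      rw [hw2, hw2, hw2, hw2]
      ring
    rw [hd, hd, Matrix.sub_apply, Matrix.sub_apply, Matrix.one_apply_ne hne, Matrix.one_apply_ne hne.symm, sub_zero, sub_zero,
      Mx_apply, Mx_apply] at hmin
    by_cases c1 : i0 = i1 + l
    · by_cases c2 : i1 = i0 + l
      · -- i0 = i1 + l = i0 + l + l
        have h5 : i0 = i0 + (l + l) := by
          rw [← add_assoc, ← c2]
          exact c1
        have h6 : l + l = 0 := left_eq_add.mp h5
        have h7 : (2 : ℕ) • l = 0 := by rw [two_nsmul, h6]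
        have h8 : addOrderOf l ∣ 2 := addOrderOf_dvd_of_nsmul_eq_zero h7
        have h9 : addOrderOf l ∣ p := by
          have := addOrderOf_dvd_natCard l
          rwa [Nat.card_eq_fintype_card, Fintype.card_fin] at this
        have h10 : addOrderOf l = 1 := by
          have h11 : addOrderOf l ∣ Nat.gcd 2 p := Nat.dvd_gcd h8 h9
          have h12 : Nat.gcd 2 p = 1 := (Nat.coprime_primes Nat.prime_two hp).mpr (Ne.symm hp2)
          rw [h12] at h11
          exact Nat.dvd_one.mp h11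
        exact hl (AddMonoid.addOrderOf_eq_one_iff.mp h10)
      · rw [if_neg c2, mul_zero] at hmin
        norm_num at hmin
    · rw [if_neg c1, zero_mul] at hmin
      norm_num at hmin

end nrm

section syl
variable {p : ℕ} [Fact p.Prime] {F : Type*} [Field F] [Fintype F]

theorem fact_pow_sub (hp2 : p ≠ 2) (h1 : p ∣ Fintype.card F - 1) (h2 : ¬ p ^ 2 ∣ Fintype.card F - 1) {j : ℕ} (hj : j ≠ 0) :
    (Fintype.card F ^ j - 1).factorization p = 1 + j.factorization p := by
  have hp := (Fact.out : p.Prime)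
  have hq : 1 < Fintype.card F := Fintype.one_lt_card
  have hpq : ¬ p ∣ Fintype.card F := by
    intro h
    have h3 : p ∣ Fintype.card F - (Fintype.card F - 1) := Nat.dvd_sub h h1
    rw [Nat.sub_sub_self hq.le] at h3
    exact hp.one_lt.ne' (Nat.dvd_one.mp h3)
  have hodd : Odd p := hp.odd_of_ne_two hp2
  have h3 := padicValNat.pow_sub_pow (p := p) (x := Fintype.card F) (y := 1) hodd hq h1 hpq hj
  rw [one_pow] at h3
  have h4 : padicValNat p (Fintype.card F - 1) = 1 := by
    have h5 : Fintype.card F - 1 ≠ 0 := by omega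
    apply le_antisymm
    · by_contra hcon
      push Not at hcon
      apply h2
      exact (padicValNat_dvd_iff_le h5).mpr hcon
    · exact (padicValNat_dvd_iff_le h5).mp (by rwa [pow_one])
  rw [Nat.factorization_def _ hp, Nat.factorization_def _ hp, h3, h4]

theorem fact_card (hp2 : p ≠ 2) (h1 : p ∣ Fintype.card F - 1) (h2 : ¬ p ^ 2 ∣ Fintype.card F - 1) :
    (Nat.card (GL (Fin p) F)).factorization p ≤ p + 1 := by
  have hp := (Fact.out : p.Prime)
  have hq : 1 < Fintype.card F := Fintype.one_lt_card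
  have hpq : ¬ p ∣ Fintype.card F := by
    intro h
    have h3 : p ∣ Fintype.card F - (Fintype.card F - 1) := Nat.dvd_sub h h1
    rw [Nat.sub_sub_self hq.le] at h3
    exact hp.one_lt.ne' (Nat.dvd_one.mp h3)
  rw [Matrix.card_GL_field]
  have hterm : ∀ i : Fin p, Fintype.card F ^ p - Fintype.card F ^ (i : ℕ) = Fintype.card F ^ (i : ℕ) * (Fintype.card F ^ (p - i) - 1) := by
    intro i
    rw [Nat.mul_sub, mul_one, ← pow_add]
    congr 2
    omega
  have hne : ∀ i : Fin p, Fintype.card F ^ (p - (i : ℕ)) - 1 ≠ 0 := by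
    intro i
    have : 1 < Fintype.card F ^ (p - (i : ℕ)) := Nat.one_lt_pow (by omega) hq
    omega
  have hne' : ∀ i ∈ (Finset.univ : Finset (Fin p)), Fintype.card F ^ p - Fintype.card F ^ (i : ℕ) ≠ 0 := by
    intro i _
    rw [hterm]
    exact mul_ne_zero (pow_ne_zero _ (by omega)) (hne i)
  rw [Nat.factorization_prod hne', Finsupp.finset_sum_apply]
  have hval : ∀ i ∈ (Finset.univ : Finset (Fin p)), (Fintype.card F ^ p - Fintype.card F ^ (i : ℕ)).factorization p =
      1 + if i = (⟨0, hp.pos⟩ : Fin p) then 1 else 0 := by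
    intro i _
    rw [hterm, Nat.factorization_mul (pow_ne_zero _ (by omega)) (hne i), Finsupp.add_apply, Nat.factorization_pow, Finsupp.smul_apply,
      Nat.factorization_eq_zero_of_not_dvd hpq, smul_zero, zero_add, fact_pow_sub hp2 h1 h2 (by omega)]
    congr 1
    by_cases hi : i = (⟨0, hp.pos⟩ : Fin p)
    · rw [if_pos hi, hi]
      show (p - 0).factorization p = 1
      rw [Nat.sub_zero, hp.factorization_self]
    · rw [if_neg hi]
      apply Nat.factorization_eq_zero_of_not_dvd
      intro hd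
      have h3 : p ≤ p - (i : ℕ) := Nat.le_of_dvd (by omega) hd
      apply hi
      apply Fin.ext
      show (i : ℕ) = 0
      omega
  rw [Finset.sum_congr rfl hval, Finset.sum_add_distrib, Finset.sum_ite_eq']
  simp

theorem exists_zeta (h1 : p ∣ Fintype.card F - 1) : ∃ ζ : F, orderOf ζ = p := by
  classical
  have h3 : p ∣ Fintype.card Fˣ := by rwa [Fintype.card_units]
  obtain ⟨z, hz⟩ := exists_prime_orderOf_dvd_card p h3
  exact ⟨z, by rw [orderOf_units, hz]⟩

theorem card_Qs (h1 : p ∣ Fintype.card F - 1) : p ^ (p + 1) ≤ Nat.card (Qs p F) := by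
  have hp := (Fact.out : p.Prime)
  obtain ⟨ζ, hζ⟩ := exists_zeta (F := F) h1
  have hζp : ∀ n : ℕ, (ζ ^ n) ^ p = 1 := by
    intro n
    rw [← pow_mul, mul_comm, pow_mul, ← hζ, pow_orderOf_eq_one, one_pow]
  choose f hf hfQ using fun (x : (Fin p → Fin p) × Fin p) => exists_unit (F := F) (fun r => ζ ^ ((x.1 r : Fin p) : ℕ)) x.2 (fun r => hζp _)
  have hζ0 : ζ ≠ 0 := by
    intro h
    have h2 : ζ ^ p = 1 := by rw [← hζ, pow_orderOf_eq_one]
    rw [h, zero_pow hp.ne_zero] at h2
    exact zero_ne_one h2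
  have hinj : Function.Injective (fun x => (⟨f x, hfQ x⟩ : Qs p F)) := by
    rintro ⟨e, l⟩ ⟨e', l'⟩ h
    have h2 : f (e, l) = f (e', l') := congrArg Subtype.val h
    have h3 : Mx (fun r => ζ ^ ((e r : Fin p) : ℕ)) l = Mx (fun r => ζ ^ ((e' r : Fin p) : ℕ)) l' := by
      rw [← hf (e, l), ← hf (e', l'), h2]
    have hl : l = l' := by
      have h4 := congrFun (congrFun h3 (0 + l)) 0
      rw [Mx_apply, Mx_apply, if_pos rfl] at h4
      by_contra hne
      rw [if_neg (fun h5 => hne (add_left_cancel h5))] at h4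
      exact pow_ne_zero _ hζ0 h4
    subst hl
    have he : e = e' := by
      ext r
      have h4 := congrFun (congrFun h3 r) (r - l)
      rw [Mx_apply, Mx_apply, if_pos (sub_add_cancel r l).symm, if_pos (sub_add_cancel r l).symm] at h4
      apply pow_injOn_Iio_orderOf _ _ h4
      · rw [hζ]; exact (e r).2
      · rw [hζ]; exact (e' r).2
    rw [he]
  have h5 := Nat.card_le_card_of_injective _ hinj
  have h6 : Nat.card ((Fin p → Fin p) × Fin p) = p ^ (p + 1) := by
    rw [Nat.card_eq_fintype_card, Fintype.card_prod, Fintype.card_fun, Fintype.card_fin, pow_succ]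
  rwa [h6] at h5

theorem exists_sylow (hp2 : p ≠ 2) (h1 : p ∣ Fintype.card F - 1) (h2 : ¬ p ^ 2 ∣ Fintype.card F - 1) :
    ∃ Q : Sylow p (GL (Fin p) F), (Q : Subgroup (GL (Fin p) F)) = Qs p F := by
  have hp := (Fact.out : p.Prime)
  obtain ⟨P, hP⟩ := (Qs_pgroup (p := p) (F := F)).exists_le_sylow
  refine ⟨P, ?_⟩
  symm
  apply Subgroup.eq_of_le_of_card_ge hP
  refine le_trans ?_ (card_Qs h1)
  rw [Sylow.card_eq_multiplicity]
  exact Nat.pow_le_pow_right hp.pos (fact_card hp2 h1 h2)

end syl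

end CfsgLib.H2JN
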