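import Cfsg.Agent.EqBase
import Cfsg.Agent.LibH2JN1

set_option autoImplicit false
open Matrix
namespace CfsgLib.H2JN

section main
variable {p : ℕ} [Fact p.Prime] {F : Type*} [Field F] [Fintype F]

def NonMon (u : GL (Fin p) F) : Prop := ∃ r s i : Fin p, s ≠ i ∧ (u : Matrix (Fin p) (Fin p) F) r i ≠ 0 ∧
  (u : Matrix (Fin p) (Fin p) F) r s ≠ 0

theorem caseA1 {a : Fin p → F} {x : GL (Fin p) F} (hx : (x : Matrix (Fin p) (Fin p) F) = Mx a 0) (hxQ : x ∈ Qs p F)
    {i j : Fin p} (hij : i ≠ j) (haij : a i = a j) : ∃ u : GL (Fin p) F, NonMon u ∧ u⁻¹ * x * u ∈ Qs p F := by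
  let u : GL (Fin p) F := ⟨transvection i j 1, transvection i j (-1),
    by rw [transvection_mul_transvection_same _ _ hij, add_neg_cancel, transvection_zero],
    by rw [transvection_mul_transvection_same _ _ hij, neg_add_cancel, transvection_zero]⟩
  have hu : (u : Matrix (Fin p) (Fin p) F) = transvection i j 1 := rfl
  have hcomm : x * u = u * x := by
    apply Units.ext
    rw [Units.val_mul, Units.val_mul, hx, hu]
    ext r s
    rw [Mx_mul_apply, mul_Mx_apply, sub_zero, add_zero]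
    by_cases hrs : r = s
    · subst hrs
      ring
    · rw [transvection, Matrix.add_apply, Matrix.one_apply_ne hrs, Matrix.single_apply]
      by_cases h : i = r ∧ j = s
      · rw [if_pos h, ← h.1, ← h.2, haij]
        ring
      · rw [if_neg h]
        ring
  refine ⟨u, ⟨i, j, i, hij.symm, ?_, ?_⟩, ?_⟩
  · rw [hu, transvection, Matrix.add_apply, Matrix.one_apply_eq, Matrix.single_apply, if_neg (fun h => hij h.2.symm), add_zero]
    exact one_ne_zero
  · rw [hu, transvection, Matrix.add_apply, Matrix.one_apply_ne hij, Matrix.single_apply, if_pos ⟨rfl, rfl⟩, zero_add]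
    exact one_ne_zero
  · have h1 : u⁻¹ * x * u = x := by rw [mul_assoc, hcomm, ← mul_assoc, inv_mul_cancel, one_mul]
    rw [h1]
    exact hxQ

theorem caseA2 (hp2 : p ≠ 2) {a : Fin p → F} {x : GL (Fin p) F} (hx : (x : Matrix (Fin p) (Fin p) F) = Mx a 0)
    (ha : ∀ r, a r ^ p = 1) (hinj : Function.Injective a) :
    ∃ u : GL (Fin p) F, NonMon u ∧ u⁻¹ * x * u ∈ Qs p F := by
  have hp := (Fact.out : p.Prime)
  have hp3 : 3 ≤ p := by
    have := hp.two_le
    omega
  let i0 : Fin p := ⟨0, by omega⟩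
  let i1 : Fin p := ⟨1, by omega⟩
  obtain ⟨σ, hσ, hσQ⟩ := exists_unit (p := p) (F := F) (fun _ => 1) i1 (fun _ => one_pow _)
  let u : GL (Fin p) F := Matrix.GeneralLinearGroup.mkOfDetNeZero (Matrix.vandermonde a) (Matrix.det_vandermonde_ne_zero_iff.mpr hinj)
  have hu : (u : Matrix (Fin p) (Fin p) F) = Matrix.vandermonde a := rfl
  have hue : ∀ r s, (u : Matrix (Fin p) (Fin p) F) r s = a r ^ (s : ℕ) := fun r s => by rw [hu, Matrix.vandermonde_apply]
  have hcomm : x * u = u * σ := by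
    apply Units.ext
    rw [Units.val_mul, Units.val_mul, hx, hσ]
    ext r s
    rw [Mx_mul_apply, mul_Mx_apply, sub_zero, mul_one, hue, hue, ← pow_succ', Fin.val_add]
    exact pow_eq_pow_mod _ (ha r)
  refine ⟨u, ⟨i0, i1, i0, ?_, ?_, ?_⟩, ?_⟩
  · intro h
    have := congrArg Fin.val h
    simp [i0, i1] at this
  · rw [hue]
    show a i0 ^ 0 ≠ 0
    rw [pow_zero]
    exact one_ne_zero
  · rw [hue]
    show a i0 ^ 1 ≠ 0
    rw [pow_one]
    intro h
    have h1 := ha i0
    rw [h, zero_pow hp.ne_zero] at h1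
    exact zero_ne_one h1
  · have h1 : u⁻¹ * x * u = σ := by rw [mul_assoc, hcomm, ← mul_assoc, inv_mul_cancel, one_mul]
    rw [h1]
    exact hσQ

theorem caseB (hp2 : p ≠ 2) {ζ : F} (hζ : ζ ^ p = 1) (hζ1 : ζ ≠ 1) {a : Fin p → F} {l : Fin p} (hl : l ≠ 0) {x : GL (Fin p) F}
    (hx : (x : Matrix (Fin p) (Fin p) F) = Mx a l) (ha : ∀ r, a r ^ p = 1) (hxQ : x ∈ Qs p F) :
    ∃ u : GL (Fin p) F, NonMon u ∧ u⁻¹ * x * u ∈ Qs p F := by
  have hp := (Fact.out : p.Prime)
  have hodd : Odd p := hp.odd_of_ne_two hp2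
  have ha0 : ∀ r, a r ≠ 0 := by
    intro r h
    have h1 := ha r
    rw [h, zero_pow hp.ne_zero] at h1
    exact zero_ne_one h1
  obtain ⟨c, hc, hxp⟩ := Mx_pow a l ha p
  have hpl : p • l = 0 := by
    have h2 := card_nsmul_eq_zero (x := l)
    rwa [Fintype.card_fin] at h2
  rw [hpl] at hxp
  have hcc : ∀ r, c (r - l) = c r := by
    intro r
    have h1 : Mx a l * Mx c 0 = Mx c 0 * Mx a l := by rw [← hxp, ← pow_succ, ← pow_succ']
    rw [Mx_mul, Mx_mul, add_zero, zero_add] at h1
    have h2 := congrFun (congrFun h1 r) (r - l)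
    rw [Mx_apply, Mx_apply, if_pos (sub_add_cancel r l).symm, if_pos (sub_add_cancel r l).symm, sub_zero] at h2
    apply mul_left_cancel₀ (ha0 r)
    rw [h2, mul_comm]
  have hconst : ∀ r, c r = c 0 := by
    have h1 : ∀ n : ℕ, c (n • l) = c 0 := by
      intro n
      induction n with
      | zero => rw [zero_smul]
      | succ n ih =>
        rw [← ih, succ_nsmul, ← hcc (n • l + l), add_sub_cancel_right]
    intro r
    have h2 : r ∈ AddSubmonoid.multiples l :=
      mem_multiples_of_prime_card (p := p) (by rw [Nat.card_eq_fintype_card, Fintype.card_fin]) hl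
    obtain ⟨n, hn⟩ := h2
    have hn' : n • l = r := hn
    rw [← hn']
    exact h1 n
  have hxp' : (Mx a l) ^ p = (c 0) • (1 : Matrix (Fin p) (Fin p) F) := by
    rw [hxp]
    ext r s
    rw [Mx_apply, Matrix.smul_apply, Matrix.one_apply, add_zero, hconst]
    by_cases h : r = s
    · rw [if_pos h, if_pos h, smul_eq_mul, mul_one]
    · rw [if_neg h, if_neg h, smul_zero]
  have hl0 : (0 : Fin p) ≠ -l := fun h => hl (neg_eq_zero.mp h.symm)
  have hx00 : Mx a l 0 0 = 0 := by
    rw [Mx_apply, if_neg]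
    intro h
    rw [zero_add] at h
    exact hl h.symm
  have hfin : ∀ u : GL (Fin p) F, x * u = u * x → NonMon u → ∃ u : GL (Fin p) F, NonMon u ∧ u⁻¹ * x * u ∈ Qs p F := by
    intro u hcomm hu
    refine ⟨u, hu, ?_⟩
    have h1 : u⁻¹ * x * u = x := by rw [mul_assoc, hcomm, ← mul_assoc, inv_mul_cancel, one_mul]
    rw [h1]
    exact hxQ
  by_cases hc1 : c 0 = -1
  · have hone : (-1 : F) = 1 := by
      have h1 := hc 0
      rw [hc1, hodd.neg_one_pow] at h1
      exact h1
    have h20 : (2 : F) = 0 := by linear_combination -hone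
    have hpF : (p : F) = 1 := by
      obtain ⟨k, hk⟩ := hodd
      rw [hk]
      push_cast
      rw [h20]
      ring
    rw [hc1, hone, one_smul] at hxp'
    let S : Matrix (Fin p) (Fin p) F := ∑ i ∈ Finset.range p, (Mx a l) ^ i
    have hS1 : (Mx a l) * S = S := by
      have h1 : (Mx a l - 1) * S = 0 := by
        rw [mul_geom_sum, hxp', sub_self]
      rw [sub_mul, one_mul, sub_eq_zero] at h1
      exact h1
    have hS2 : S * (Mx a l) = S := by
      have h1 : S * (Mx a l - 1) = 0 := by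
        rw [geom_sum_mul, hxp', sub_self]
      rw [mul_sub, mul_one, sub_eq_zero] at h1
      exact h1
    have hSi : ∀ i : ℕ, (Mx a l) ^ i * S = S := by
      intro i
      induction i with
      | zero => rw [pow_zero, one_mul]
      | succ i ih => rw [pow_succ, mul_assoc, hS1, ih]
    have hSS : S * S = S := by
      have h1 : S * S = ∑ i ∈ Finset.range p, (Mx a l) ^ i * S := by
        show (∑ i ∈ Finset.range p, (Mx a l) ^ i) * S = _
        rw [Finset.sum_mul]
      rw [h1, Finset.sum_congr rfl (fun i _ => hSi i), Finset.sum_const, Finset.card_range, ← Nat.cast_smul_eq_nsmul F, hpF, one_smul]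
    have hζ0 : ζ ≠ 0 := by
      intro h
      rw [h, zero_pow hp.ne_zero] at hζ
      exact zero_ne_one hζ
    have hinv : (1 + (ζ - 1) • S) * (1 + (ζ⁻¹ - 1) • S) = 1 := by
      rw [add_mul, one_mul, mul_add, mul_one, smul_mul_smul_comm, hSS, add_assoc, ← add_smul, ← add_smul]
      have h1 : (ζ⁻¹ - 1 + (ζ - 1 + (ζ - 1) * (ζ⁻¹ - 1))) = 0 := by
        field_simp
        ring
      rw [h1, zero_smul, add_zero]
    let u : GL (Fin p) F := ⟨1 + (ζ - 1) • S, 1 + (ζ⁻¹ - 1) • S, hinv, _root_.mul_eq_one_comm.mp hinv⟩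
    have hu : (u : Matrix (Fin p) (Fin p) F) = 1 + (ζ - 1) • S := rfl
    have hS00 : S 0 0 = 1 := by
      show (∑ i ∈ Finset.range p, (Mx a l) ^ i) 0 0 = 1
      rw [Matrix.sum_apply, Finset.sum_eq_single 0]
      · rw [pow_zero, Matrix.one_apply_eq]
      · intro i hi hi0
        obtain ⟨d, _, hd⟩ := Mx_pow a l ha i
        rw [hd, Mx_apply, if_neg]
        intro h
        rw [zero_add] at h
        have h1 : addOrderOf l ∣ i := addOrderOf_dvd_of_nsmul_eq_zero h.symm
        have h2 : addOrderOf l = p := addOrderOf_eq_prime hpl hl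
        rw [h2] at h1
        have h3 := Nat.le_of_dvd (Nat.pos_of_ne_zero hi0) h1
        have h4 := Finset.mem_range.mp hi
        omega
      · intro h
        exact absurd (Finset.mem_range.mpr hp.pos) h
    have hSe : ∀ r s, S r s = S r (s + l) * a (s + l) := by
      intro r s
      have h1 := congrFun (congrFun hS2 r) s
      rw [mul_Mx_apply] at h1
      exact h1.symm
    have hS0l : S 0 (-l) ≠ 0 := by
      rw [hSe, neg_add_cancel, hS00, one_mul]
      exact ha0 0
    have hS0ll : S 0 (-l - l) ≠ 0 := by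
      rw [hSe, sub_add_cancel]
      exact mul_ne_zero hS0l (ha0 _)
    have hS0ll' : S 0 (-l - l - l) ≠ 0 := by
      rw [hSe, sub_add_cancel]
      exact mul_ne_zero hS0ll (ha0 _)
    have hζs : ζ - 1 ≠ 0 := sub_ne_zero.mpr hζ1
    have hll : (0 : Fin p) ≠ -l - l := by
      intro h
      have h1 : (2 : ℕ) • l = 0 := by
        rw [two_nsmul]
        have h3 : l + l = -(-l - l) := by abel
        rw [h3, ← h, neg_zero]
      have h2 : addOrderOf l ∣ 2 := addOrderOf_dvd_of_nsmul_eq_zero h1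
      rw [addOrderOf_eq_prime hpl hl] at h2
      have h3 := Nat.le_of_dvd (by norm_num) h2
      have := hp.two_le
      omega
    apply hfin u
    · apply Units.ext
      rw [Units.val_mul, Units.val_mul, hx, hu, mul_add, add_mul, mul_one, one_mul, mul_smul_comm, smul_mul_assoc, hS1, hS2]
    · refine ⟨0, -l - l, -l, ?_, ?_, ?_⟩
      · intro h
        exact hl (sub_eq_self.mp h)
      · rw [hu, Matrix.add_apply, Matrix.one_apply_ne hl0, zero_add, Matrix.smul_apply, smul_eq_mul]
        exact mul_ne_zero hζs hS0l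
      · rw [hu, Matrix.add_apply, Matrix.one_apply_ne hll, zero_add, Matrix.smul_apply, smul_eq_mul]
        exact mul_ne_zero hζs hS0ll
  · have hc1' : 1 + c 0 ≠ 0 := by
      intro h
      apply hc1
      linear_combination h
    have hinv0 : (1 + Mx a l) * (∑ i ∈ Finset.range p, (-(Mx a l)) ^ i) = (1 + c 0) • (1 : Matrix (Fin p) (Fin p) F) := by
      have h1 := mul_neg_geom_sum (-(Mx a l)) p
      rw [sub_neg_eq_add, hodd.neg_pow, sub_neg_eq_add, hxp'] at h1
      rw [h1, add_smul, one_smul]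
    have hinv : (1 + Mx a l) * ((1 + c 0)⁻¹ • ∑ i ∈ Finset.range p, (-(Mx a l)) ^ i) = 1 := by
      rw [mul_smul_comm, hinv0, smul_smul, inv_mul_cancel₀ hc1', one_smul]
    let u : GL (Fin p) F := ⟨1 + Mx a l, _, hinv, _root_.mul_eq_one_comm.mp hinv⟩
    have hu : (u : Matrix (Fin p) (Fin p) F) = 1 + Mx a l := rfl
    apply hfin u
    · apply Units.ext
      rw [Units.val_mul, Units.val_mul, hx, hu, mul_add, add_mul, mul_one, one_mul]
    · refine ⟨0, -l, 0, hl0.symm, ?_, ?_⟩
      · rw [hu, Matrix.add_apply, Matrix.one_apply_eq, hx00, add_zero]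
        exact one_ne_zero
      · rw [hu, Matrix.add_apply, Matrix.one_apply_ne hl0, Mx_apply, neg_add_cancel, if_pos rfl, zero_add]
        exact ha0 0

theorem main_thm (hp2 : p ≠ 2) (h1 : p ∣ Fintype.card F - 1) (h2 : ¬ p ^ 2 ∣ Fintype.card F - 1) :
    ∃ Q : Sylow p (GL (Fin p) F), ∀ x : GL (Fin p) F, (∃ k : ℕ, orderOf x = p ^ k) → ∃ P : Sylow p (GL (Fin p) F), P ≠ Q ∧ x ∈ P := by
  have hp := (Fact.out : p.Prime)
  obtain ⟨Q, hQ⟩ := exists_sylow (F := F) hp2 h1 h2
  obtain ⟨ζ, hζo⟩ := exists_zeta (F := F) h1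
  have hζ : ζ ^ p = 1 := by rw [← hζo, pow_orderOf_eq_one]
  have hζ1 : ζ ≠ 1 := by
    intro h
    rw [h, orderOf_one] at hζo
    exact hp.one_lt.ne hζo
  refine ⟨Q, ?_⟩
  rintro x ⟨k, hk⟩
  by_cases hxQ : x ∈ Qs p F
  · have hmain : ∃ u : GL (Fin p) F, NonMon u ∧ u⁻¹ * x * u ∈ Qs p F := by
      obtain ⟨a, l, ha, hx⟩ := mem_Qs.mp hxQ
      by_cases hl : l = 0
      · subst hl
        by_cases hinj : Function.Injective a
        · exact caseA2 hp2 hx ha hinj
        · rw [Function.not_injective_iff] at hinj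
          obtain ⟨i, j, h, hij⟩ := hinj
          exact caseA1 hx hxQ hij h
      · exact caseB hp2 hζ hζ1 hl hx ha hxQ
    obtain ⟨u, ⟨r, s, i, hsi, hri, hrs⟩, hux⟩ := hmain
    refine ⟨u • Q, ?_, ?_⟩
    · intro h
      apply hrs
      refine row_monomial hp2 hζ hζ1 u ?_ r i s hri hsi
      intro y hy
      have h3 : ((u • Q : Sylow p (GL (Fin p) F)) : Subgroup (GL (Fin p) F)) = Qs p F := by rw [h, hQ]
      rw [← h3, Sylow.coe_subgroup_smul, Subgroup.mem_pointwise_smul_iff_inv_smul_mem]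
      have h4 : (MulAut.conj u)⁻¹ • (u * y * u⁻¹) = y := by
        rw [← map_inv, MulAut.smul_def, MulAut.conj_apply]
        group
      rw [h4, hQ]
      exact hy
    · show x ∈ ((u • Q : Sylow p (GL (Fin p) F)) : Subgroup (GL (Fin p) F))
      rw [Sylow.coe_subgroup_smul, Subgroup.mem_pointwise_smul_iff_inv_smul_mem]
      have h4 : (MulAut.conj u)⁻¹ • x = u⁻¹ * x * u := by
        rw [← map_inv, MulAut.smul_def, MulAut.conj_apply, inv_inv]
      rw [h4, hQ]
      exact hux
  · have h3 : IsPGroup p (Subgroup.zpowers x) := by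
      rw [IsPGroup.iff_card]
      exact ⟨k, by rw [Nat.card_zpowers, hk]⟩
    obtain ⟨P, hP⟩ := h3.exists_le_sylow
    have hxP : x ∈ (P : Subgroup (GL (Fin p) F)) := hP (Subgroup.mem_zpowers x)
    refine ⟨P, ?_, hxP⟩
    rintro rfl
    rw [hQ] at hxP
    exact hxQ hxP

end main

end CfsgLib.H2JN
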