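import Cfsg.Agent.EqBase
import Cfsg.Agent.LibPCyc
set_option autoImplicit false
set_option maxHeartbeats 400000
namespace CfsgLib.H2Rk
open CfsgLib.SolvBasic CfsgLib.SolvMin CfsgLib.SolvCoprime
  CfsgLib.SolvNilp CfsgLib.SolvHall CfsgLib.SolvProd CfsgLib.SolvCrit CfsgLib.PCyc
open scoped commutatorElement

variable {G : Type*} [Group G]

/-- a maximal `G`-normal abelian subgroup of a normal subgroup `S` of a `p`-group is self-centralizing in `S` -/
theorem exists_selfcent [Finite G] {p : ℕ} (hp : p.Prime) (hG : IsPGroup p G) (S : Subgroup G) [S.Normal] :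
    ∃ A : Subgroup G, A.Normal ∧ IsMulCommutative A ∧ A ≤ S ∧ S ⊓ Subgroup.centralizer (A : Set G) ≤ A := by
  have : Fact p.Prime := ⟨hp⟩
  have hnil := hG.isNilpotent
  have hfin : ({M : Subgroup G | M.Normal ∧ IsMulCommutative M ∧ M ≤ S}).Finite := Set.toFinite _
  obtain ⟨A, hA⟩ := hfin.exists_maximal ⟨⊥, inferInstance, inferInstance, bot_le⟩
  haveI hAn := hA.1.1
  haveI hAc := hA.1.2.1
  refine ⟨A, hA.1.1, hA.1.2.1, hA.1.2.2, ?_⟩
  by_contra hne
  obtain ⟨x, hx, hxN, hxg⟩ := exists_central_mod A (S ⊓ Subgroup.centralizer (A : Set G)) hne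
  have h1 := hA.2 (y := A ⊔ Subgroup.zpowers x) ⟨normal_sup_zpowers A x hxg,
    isMulCommutative_sup_zpowers A x hx.2, sup_le hA.1.2.2 (Subgroup.zpowers_le.mpr hx.1)⟩ le_sup_left
  exact hxN (h1 (le_sup_right (a := A) (Subgroup.mem_zpowers x)))

theorem exists_normal_elem_in [Finite G] {p : ℕ} (hp : p.Prime) (hp2 : p ≠ 2)
    (hG : IsPGroup p G) (S : Subgroup G) [hS : S.Normal] (hnc : ¬ IsCyclic S) :
    ∃ A : Subgroup G, A ≤ S ∧ A.Normal ∧ IsMulCommutative A ∧ (∀ a ∈ A, a ^ p = 1) ∧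
      Nat.card A = p ^ 2 := by
  have : Fact p.Prime := ⟨hp⟩
  have hnil := hG.isNilpotent
  obtain ⟨A, hAn, hAc, hAS, hCA⟩ := exists_selfcent hp hG S
  by_cases hAcyc : IsCyclic A
  · have hAtop : ¬ S ≤ A := by
      intro h
      have : A = S := le_antisymm hAS h
      exact hnc (this ▸ hAcyc)
    obtain ⟨x, hxS, hxA, hxc, hxp⟩ := exists_central_mod_pow hp hG A S hAtop
    have hBn := normal_sup_zpowers A x hxc
    obtain ⟨B, hB⟩ : ∃ B, B = A ⊔ Subgroup.zpowers x := ⟨_, rfl⟩
    rw [← hB] at hBn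
    have hAB : A ≤ B := hB ▸ le_sup_left
    have hBS : B ≤ S := hB ▸ sup_le hAS (Subgroup.zpowers_le.mpr hxS)
    have hxB : x ∈ B := hB ▸ (le_sup_right : Subgroup.zpowers x ≤ _) (Subgroup.mem_zpowers x)
    have hidx : (A.subgroupOf B).index = p := by
      have hzN : Subgroup.zpowers x ≤ Subgroup.normalizer (A : Set G) := by
        rw [Subgroup.normalizer_eq_top]; exact le_top
      have h1 := card_sup_of_le_normalizer hzN
      have h2 : A.relIndex B * Nat.card A = Nat.card B := by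
        rw [mul_comm]; exact card_eq_card_mul_relIndex hAB
      change A.relIndex B = p
      have hne : A.relIndex B ≠ 1 := by
        intro h
        rw [Subgroup.relIndex_eq_one] at h
        exact hxA (h hxB)
      have hle : A.relIndex B ≤ p := by
        have hAnB : (A.subgroupOf B).Normal := inferInstance
        change (A.subgroupOf B).index ≤ p
        rw [Subgroup.index_eq_card]
        have hgen : ∀ y : B ⧸ (A.subgroupOf B), ∃ i : ℤ, ((⟨x, hxB⟩ : B) : B ⧸ (A.subgroupOf B)) ^ i = y := by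
          intro y
          obtain ⟨y, rfl⟩ := QuotientGroup.mk_surjective y
          have hy : (y : G) ∈ A ⊔ Subgroup.zpowers x := hB ▸ y.2
          obtain ⟨a, ha, w, ⟨i, rfl⟩, haw⟩ := (mem_sup_iff_of_le_normalizer hzN).mp hy
          refine ⟨i, ?_⟩
          rw [← QuotientGroup.mk_zpow]
          symm
          rw [← div_eq_one, ← QuotientGroup.mk_div, QuotientGroup.eq_one_iff,
            Subgroup.mem_subgroupOf, div_eq_mul_inv]
          have e : ((y * ((⟨x, hxB⟩ : B) ^ i)⁻¹ : B) : G) = y * (x ^ i)⁻¹ := rfl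
          rw [e, ← haw]
          change a * x ^ i * (x ^ i)⁻¹ ∈ A
          rw [mul_inv_cancel_right]
          exact ha
        have ho : orderOf ((⟨x, hxB⟩ : B) : B ⧸ (A.subgroupOf B)) ∣ p := by
          apply orderOf_dvd_of_pow_eq_one
          rw [← QuotientGroup.mk_pow, QuotientGroup.eq_one_iff, Subgroup.mem_subgroupOf]
          exact hxp
        have htop : Subgroup.zpowers ((⟨x, hxB⟩ : B) : B ⧸ (A.subgroupOf B)) = ⊤ := by
          rw [eq_top_iff]; intro y _; exact hgen y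
        rw [← Subgroup.card_top (G := B ⧸ (A.subgroupOf B)), ← htop, Nat.card_zpowers]
        exact Nat.le_of_dvd hp.pos ho
      obtain ⟨j, hj⟩ : ∃ j, A.relIndex B = p ^ j := by
        have h4 : A.relIndex B ∣ Nat.card B := Dvd.intro _ h2
        obtain ⟨k, hk⟩ := IsPGroup.iff_card.mp (hG.to_subgroup B)
        rw [hk] at h4
        obtain ⟨j, -, hj⟩ := (Nat.dvd_prime_pow hp).mp h4
        exact ⟨j, hj⟩
      rw [hj] at hle hne ⊢
      have hj1 : j ≤ 1 := (Nat.pow_le_pow_iff_right hp.one_lt).mp (by rwa [pow_one])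
      have hj0 : j ≠ 0 := by rintro rfl; exact hne (pow_zero p)
      have : j = 1 := by omega
      rw [this, pow_one]
    have hBnc : ¬ IsCyclic B := by
      intro hBc
      apply hxA
      apply hCA
      refine ⟨hxS, (Subgroup.mem_centralizer_iff).mpr ?_⟩
      intro a ha
      exact congrArg Subtype.val ((IsCyclic.commGroup (α := B)).mul_comm ⟨a, hAB ha⟩ ⟨x, hxB⟩)
    have hAB' : IsCyclic (A.subgroupOf B) :=
      (MulEquiv.isCyclic (Subgroup.subgroupOfEquivOfLe hAB)).mpr hAcyc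
    obtain ⟨K, hK, hKc⟩ := omega_of_cyclic_maximal hp hp2 (hG.to_subgroup B) hBnc _ hAB' hidx
    refine ⟨K.map B.subtype, (Subgroup.map_subtype_le _).trans hBS, ?_, ?_, ?_, ?_⟩
    · constructor
      rintro _ ⟨y, hy, rfl⟩ g
      refine ⟨⟨g * y * g⁻¹, hBn.conj_mem y y.2 g⟩, ?_, rfl⟩
      have h1 := (hK y).mp hy
      have h2 : (y : G) ^ p = 1 := by
        have := congrArg Subtype.val h1
        simpa using this
      refine (hK _).mpr (Subtype.ext ?_)
      change (g * (y : G) * g⁻¹) ^ p = 1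
      rw [conj_pow, h2]; group
    · have h1 : Nat.card (K.map B.subtype) = p ^ 2 := by
        rw [Subgroup.card_map_of_injective B.subtype_injective, hKc]
      exact ⟨⟨fun a b => (IsPGroup.commGroupOfCardEqPrimeSq h1).mul_comm a b⟩⟩
    · rintro _ ⟨y, hy, rfl⟩
      rw [← map_pow, (hK y).mp hy, map_one]
    · rw [Subgroup.card_map_of_injective B.subtype_injective, hKc]
  · obtain ⟨B, hBA, hB, hBe⟩ := exists_elem_of_not_isCyclic hp A (hG.to_subgroup A) hAc hAcyc
    have hTn := powTorsion_normal A p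
    have hBT : B ≤ powTorsion A p := fun b hb => mem_powTorsion.mpr ⟨hBA hb, hBe b hb⟩
    obtain ⟨M, hMn, hMT, hM⟩ := exists_normal_card_eq hp _ G rfl hG (powTorsion A p) 2 (by
      rw [← hB]; exact Subgroup.card_dvd_of_le hBT)
    refine ⟨M, fun m hm => hAS (mem_powTorsion.mp (hMT hm)).1, hMn, ?_, ?_, hM⟩
    · exact ⟨⟨fun a b => (IsPGroup.commGroupOfCardEqPrimeSq hM).mul_comm a b⟩⟩
    · intro a ha
      exact (mem_powTorsion.mp (hMT ha)).2

end CfsgLib.H2Rk
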