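import Cfsg.Agent.EqBase
import Cfsg.Agent.LibH2Rk
set_option autoImplicit false
set_option maxHeartbeats 400000
namespace CfsgLib.H2Rk2
open CfsgLib.SolvBasic CfsgLib.SolvMin CfsgLib.SolvCoprime
  CfsgLib.SolvNilp CfsgLib.SolvHall CfsgLib.SolvProd CfsgLib.SolvCrit CfsgLib.PCyc CfsgLib.H2Rk
open scoped commutatorElement

section formula

variable {G : Type*} [Group G]

/-- `(y c)^n` when `c y = y c v`, `v` central -/
theorem yc_pow {y c v : G} (h3 : c * y = y * c * v) (hvy : Commute v y) (hvc : Commute v c) (n : ℕ) :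
    (y * c) ^ n = y ^ n * c ^ n * v ^ (n.choose 2) ∧ c ^ n * y = y * c ^ n * v ^ n := by
  have h : ∀ n : ℕ, c ^ n * y = y * c ^ n * v ^ n := by
    intro n
    induction n with
    | zero => simp
    | succ n ih =>
      calc c ^ (n + 1) * y = c * (c ^ n * y) := by rw [pow_succ', mul_assoc]
        _ = c * (y * c ^ n * v ^ n) := by rw [ih]
        _ = (c * y) * c ^ n * v ^ n := by simp only [mul_assoc]
        _ = y * c * (v * c ^ n) * v ^ n := by rw [h3]; simp only [mul_assoc]
        _ = y * c * (c ^ n * v) * v ^ n := by rw [(hvc.pow_right n).eq]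
        _ = y * c ^ (n + 1) * v ^ (n + 1) := by rw [pow_succ' c, pow_succ' v]; simp only [mul_assoc]
  refine ⟨?_, h n⟩
  induction n with
  | zero => simp
  | succ n ih =>
    have e1 : Commute (v ^ (n.choose 2)) (y * c) := (hvy.mul_right hvc).pow_left _
    calc (y * c) ^ (n + 1) = (y * c) ^ n * (y * c) := pow_succ _ _
      _ = y ^ n * c ^ n * (v ^ (n.choose 2) * (y * c)) := by rw [ih]; simp only [mul_assoc]
      _ = y ^ n * (c ^ n * y) * c * v ^ (n.choose 2) := by rw [e1.eq]; simp only [mul_assoc]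
      _ = y ^ n * y * c ^ n * (v ^ n * c) * v ^ (n.choose 2) := by rw [h n]; simp only [mul_assoc]
      _ = y ^ n * y * c ^ n * (c * v ^ n) * v ^ (n.choose 2) := by rw [(hvc.pow_left n).eq]
      _ = (y ^ n * y) * (c ^ n * c) * (v ^ n * v ^ (n.choose 2)) := by simp only [mul_assoc]
      _ = y ^ (n + 1) * c ^ (n + 1) * v ^ ((n + 1).choose 2) := by
        rw [← pow_succ, ← pow_succ, ← pow_add, Nat.choose_succ_succ' n 1, Nat.choose_one_right]

/-- Hall's formula in class three -/
theorem hall3 {x y c u v : G} (h1 : y * x = x * y * c) (h2 : c * x = x * c * u) (h3 : c * y = y * c * v)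
    (hux : Commute u x) (huy : Commute u y) (huc : Commute u c) (huv : Commute u v)
    (hvx : Commute v x) (hvy : Commute v y) (hvc : Commute v c) (n : ℕ) :
    (x * y) ^ n = x ^ n * y ^ n * c ^ (n.choose 2) * u ^ (n.choose 3) * v ^ (∑ k ∈ Finset.range n, k ^ 2) := by
  have hyx : ∀ n : ℕ, y ^ n * x = x * (y ^ n * c ^ n * v ^ (n.choose 2)) := by
    intro n
    rw [← (yc_pow h3 hvy hvc n).1]
    induction n with
    | zero => simp
    | succ n ih =>
      calc y ^ (n + 1) * x = y ^ n * (y * x) := by rw [pow_succ, mul_assoc]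
        _ = (y ^ n * x) * (y * c) := by rw [h1]; simp only [mul_assoc]
        _ = x * (y * c) ^ (n + 1) := by rw [ih, pow_succ]; simp only [mul_assoc]
  have hcy := fun n => (yc_pow h3 hvy hvc n).2
  have hcx := fun n => (yc_pow h2 hux huc n).2
  induction n with
  | zero => simp
  | succ n ih =>
    set t := n.choose 2 with ht
    set a := n.choose 3 with ha
    set b := ∑ k ∈ Finset.range n, k ^ 2 with hb
    have e1 : Commute (u ^ a * v ^ b) (x * y) :=
      ((hux.mul_right huy).pow_left a).mul_left ((hvx.mul_right hvy).pow_left b)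
    have e2 : Commute (v ^ t * u ^ t) y := (hvy.pow_left t).mul_left (huy.pow_left t)
    have e3 : Commute (u ^ t) y := huy.pow_left t
    have e4 : Commute (v ^ t) (c ^ t) := (hvc.pow_left t).pow_right t
    have e5 : Commute (v ^ (t + n)) (c ^ t) := (hvc.pow_left _).pow_right t
    have e6 : Commute (v ^ t) (y * c ^ t) := (hvy.mul_right (hvc.pow_right t)).pow_left t
    calc (x * y) ^ (n + 1) = (x * y) ^ n * (x * y) := pow_succ _ _
      _ = x ^ n * y ^ n * c ^ t * ((u ^ a * v ^ b) * (x * y)) := by rw [ih]; simp only [mul_assoc]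
      _ = x ^ n * y ^ n * (c ^ t * x) * y * (u ^ a * v ^ b) := by rw [e1.eq]; simp only [mul_assoc]
      _ = x ^ n * (y ^ n * x) * c ^ t * (u ^ t * y) * (u ^ a * v ^ b) := by rw [hcx]; simp only [mul_assoc]
      _ = x ^ n * (x * (y ^ n * c ^ n * v ^ t)) * c ^ t * (y * u ^ t) * (u ^ a * v ^ b) := by
        rw [hyx, e3.eq]
      _ = x ^ n * x * y ^ n * c ^ n * v ^ t * (c ^ t * y) * u ^ t * (u ^ a * v ^ b) := by
        simp only [mul_assoc]
      _ = x ^ n * x * y ^ n * c ^ n * (v ^ t * (y * c ^ t)) * v ^ t * u ^ t * (u ^ a * v ^ b) := by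
        rw [hcy]; simp only [mul_assoc]
      _ = x ^ n * x * y ^ n * (c ^ n * y) * c ^ t * v ^ t * v ^ t * u ^ t * (u ^ a * v ^ b) := by
        rw [e6.eq]; simp only [mul_assoc]
      _ = x ^ n * x * y ^ n * y * c ^ n * (v ^ n * c ^ t) * v ^ t * v ^ t * u ^ t * (u ^ a * v ^ b) := by
        rw [hcy]; simp only [mul_assoc]
      _ = x ^ n * x * (y ^ n * y) * (c ^ n * c ^ t) * (v ^ n * v ^ t * v ^ t * (u ^ t * u ^ a)) * v ^ b := by
        rw [((hvc.pow_left n).pow_right t).eq]; simp only [mul_assoc]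
      _ = x ^ (n + 1) * y ^ (n + 1) * c ^ ((n + 1).choose 2) * u ^ ((n + 1).choose 3) *
          v ^ (∑ k ∈ Finset.range (n + 1), k ^ 2) := by
        have e7 : Commute (v ^ n * v ^ t * v ^ t) (u ^ t * u ^ a) := by
          rw [← pow_add, ← pow_add, ← pow_add]
          exact (huv.symm.pow_left _).pow_right _
        rw [e7.eq, ← pow_succ, ← pow_succ, ← pow_add, ← pow_add, ← pow_add, ← pow_add,
          Nat.choose_succ_succ' n 1, Nat.choose_one_right, Nat.choose_succ_succ' n 2, Finset.sum_range_succ]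
        have e8 : n + t + t + b = b + n ^ 2 := by
          have := Nat.choose_two_right n
          have h9 : 2 * t = n * (n - 1) := by
            rw [ht, this, Nat.mul_div_cancel' (Nat.even_mul_pred_self n).two_dvd]
          have h10 : n * (n - 1) + n = n ^ 2 := by
            cases n with
            | zero => rfl
            | succ n => simp; ring
          omega
        have e9 : v ^ (∑ x ∈ Finset.range n, x ^ 2 + n ^ 2) = v ^ (n + t + t) * v ^ b := by
          rw [← pow_add, e8]
        rw [e9]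
        simp only [mul_assoc]
        rfl

theorem mul_pow_class3 {p : ℕ} (hp : p.Prime) (hp3 : 3 < p) {x y c u v : G}
    (h1 : y * x = x * y * c) (h2 : c * x = x * c * u) (h3 : c * y = y * c * v)
    (hux : Commute u x) (huy : Commute u y) (huc : Commute u c) (huv : Commute u v)
    (hvx : Commute v x) (hvy : Commute v y) (hvc : Commute v c)
    (hc : c ^ p = 1) (hu : u ^ p = 1) (hv : v ^ p = 1) : (x * y) ^ p = x ^ p * y ^ p := by
  rw [hall3 h1 h2 h3 hux huy huc huv hvx hvy hvc p]
  have d1 : p ∣ p.choose 2 := hp.dvd_choose_self (by norm_num) (by omega)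
  have d2 : p ∣ p.choose 3 := hp.dvd_choose_self (by norm_num) (by omega)
  have d3 : p ∣ ∑ k ∈ Finset.range p, k ^ 2 := by
    have h4 : ∀ n : ℕ, 6 * ∑ k ∈ Finset.range (n + 1), k ^ 2 = n * (n + 1) * (2 * n + 1) := by
      intro n
      induction n with
      | zero => simp
      | succ n ih => rw [Finset.sum_range_succ, mul_add, ih]; ring
    obtain ⟨m, rfl⟩ : ∃ m, p = m + 1 := ⟨p - 1, by omega⟩
    have h5 := h4 m
    have h6 : (m + 1) ∣ 6 * ∑ k ∈ Finset.range (m + 1), k ^ 2 := by
      rw [h5]; exact ⟨m * (2 * m + 1), by ring⟩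
    rcases hp.dvd_mul.mp h6 with h7 | h7
    · exfalso
      have h8 : (m + 1) ∣ 2 * 3 := h7
      rcases hp.dvd_mul.mp h8 with h9 | h9
      · have := Nat.le_of_dvd (by norm_num) h9; omega
      · have := Nat.le_of_dvd (by norm_num) h9; omega
    · exact h7
  obtain ⟨a, ha⟩ := d1
  obtain ⟨b, hb⟩ := d2
  obtain ⟨d, hd⟩ := d3
  rw [ha, hb, hd, pow_mul, pow_mul, pow_mul, hc, hu, hv]
  simp

end formula

section basic

variable {G : Type*} [Group G]

/-- groups of order dividing `p ^ 3` have class at most two -/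
theorem class_two_of_card [Finite G] {p : ℕ} [hp : Fact p.Prime] {n : ℕ} (hn : n ≤ 3) (h : Nat.card G = p ^ n)
    (x y : G) : x * y * x⁻¹ * y⁻¹ ∈ Subgroup.center G := by
  have hG : IsPGroup p G := IsPGroup.of_card h
  rcases subsingleton_or_nontrivial G with hs | hnt
  · rw [Subsingleton.elim (x * y * x⁻¹ * y⁻¹) 1]; exact one_mem _
  haveI := hG.center_nontrivial
  have h1 : Nat.card (G ⧸ Subgroup.center G) ∣ p ^ 2 := by
    have h2 := Subgroup.card_eq_card_quotient_mul_card_subgroup (Subgroup.center G)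
    obtain ⟨k, hk⟩ := IsPGroup.iff_card.mp (hG.to_subgroup (Subgroup.center G))
    obtain ⟨m, hm⟩ := IsPGroup.iff_card.mp (hG.to_quotient (Subgroup.center G))
    have hk0 : k ≠ 0 := by
      rintro rfl
      rw [pow_zero] at hk
      have := Finite.one_lt_card (α := Subgroup.center G)
      omega
    rw [hm, hk, h, ← pow_add] at h2
    have := Nat.pow_right_injective hp.out.two_le h2
    rw [hm]
    exact pow_dvd_pow p (by omega)
  have hcomm : ∀ a b : G ⧸ Subgroup.center G, a * b = b * a := by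
    obtain ⟨m, hm, hm'⟩ := (Nat.dvd_prime_pow hp.out).mp h1
    interval_cases m
    · have : Subsingleton (G ⧸ Subgroup.center G) := (Nat.card_eq_one_iff_unique.mp (by simpa using hm')).1
      intro a b; exact Subsingleton.elim _ _
    · haveI : IsCyclic (G ⧸ Subgroup.center G) := isCyclic_of_prime_card (p := p) (by simpa using hm')
      intro a b; exact (IsCyclic.commGroup).mul_comm a b
    · intro a b; exact (IsPGroup.commGroupOfCardEqPrimeSq hm').mul_comm a b
  rw [← QuotientGroup.eq_one_iff]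
  simp only [QuotientGroup.mk_mul, QuotientGroup.mk_inv]
  rw [hcomm (x : G ⧸ _) y]; group

/-- in class two and `p` odd, elements of order `p` are closed under products -/
theorem mul_pow_one_of_class_two {p : ℕ} (hp : p.Prime) (hp2 : p ≠ 2)
    (hZ : ∀ x y : G, x * y * x⁻¹ * y⁻¹ ∈ Subgroup.center G) {x y : G} (hx : x ^ p = 1) (hy : y ^ p = 1) :
    (x * y) ^ p = 1 := by
  have h1 := hZ y⁻¹ x⁻¹
  set c := y⁻¹ * x⁻¹ * y⁻¹⁻¹ * x⁻¹⁻¹ with hc
  have hcx : c * x = x * c := (Subgroup.mem_center_iff.mp h1 x).symm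
  have hcy : c * y = y * c := (Subgroup.mem_center_iff.mp h1 y).symm
  have hxy : y * x = x * y * c := by rw [hc]; group
  have hcp : c ^ p = 1 := by
    have h2 : x⁻¹ * y * x = y * c := by rw [mul_assoc, hxy]; group
    have h3 : (x⁻¹ * y * x) ^ p = 1 := by
      have := conj_pow (i := p) (a := x⁻¹) (b := y)
      rw [inv_inv] at this
      rw [this, hy]; group
    rw [h2, (show Commute y c from hcy.symm).mul_pow, hy, one_mul] at h3
    exact h3
  rw [mul_pow_prime hp hp2 x y c hxy hcx hcy hcp, hx, hy, one_mul]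

/-- a subgroup of order `p ^ 3` and exponent `p` -/
theorem E_of_elt [Finite G] {p : ℕ} [hp : Fact p.Prime] (hp2 : p ≠ 2) (A : Subgroup G)
    [hA : A.Normal] (hAe : ∀ a ∈ A, a ^ p = 1) (hcard : Nat.card A = p ^ 2) {x : G} (hx : x ^ p = 1)
    (hxA : x ∉ A) : ∃ E : Subgroup G, Nat.card E = p ^ 3 ∧ ∀ y ∈ E, y ^ p = 1 := by
  have hzN : Subgroup.zpowers x ≤ Subgroup.normalizer (A : Set G) := by
    rw [Subgroup.normalizer_eq_top]; exact le_top
  have h1 := card_sup_of_le_normalizer hzN
  have ho : orderOf x = p := orderOf_eq_prime hx (by rintro rfl; exact hxA A.one_mem)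
  have hinf : A ⊓ Subgroup.zpowers x = ⊥ := by
    haveI : Fact (Nat.card (Subgroup.zpowers x)).Prime := ⟨by rw [Nat.card_zpowers, ho]; exact hp.out⟩
    rcases Subgroup.eq_bot_or_eq_top_of_prime_card ((A ⊓ Subgroup.zpowers x).subgroupOf (Subgroup.zpowers x))
      with h | h
    · rw [Subgroup.subgroupOf_eq_bot, disjoint_iff, inf_assoc, inf_idem] at h
      exact h
    · exfalso
      rw [Subgroup.subgroupOf_eq_top] at h
      exact hxA (h (Subgroup.mem_zpowers x)).1
  have hE : Nat.card (A ⊔ Subgroup.zpowers x : Subgroup G) = p ^ 3 := by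
    rw [hinf, Subgroup.card_bot, mul_one, hcard, Nat.card_zpowers, ho] at h1
    rw [h1]; ring
  refine ⟨A ⊔ Subgroup.zpowers x, hE, ?_⟩
  set E := A ⊔ Subgroup.zpowers x with hEdef
  have hZ := class_two_of_card (G := E) (p := p) (n := 3) le_rfl hE
  have key : ∀ y (hy : y ∈ Subgroup.closure ((A : Set G) ∪ {x})), (y ∈ E) ∧ y ^ p = 1 := by
    intro y hy
    induction hy using Subgroup.closure_induction with
    | mem y hy =>
      rcases hy with hy | hy
      · exact ⟨(le_sup_left : A ≤ E) hy, hAe y hy⟩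
      · rw [Set.mem_singleton_iff] at hy
        subst hy
        exact ⟨(le_sup_right (a := A)) (Subgroup.mem_zpowers y), hx⟩
    | one => exact ⟨E.one_mem, one_pow p⟩
    | mul a b _ _ ha hb =>
      refine ⟨E.mul_mem ha.1 hb.1, ?_⟩
      have := mul_pow_one_of_class_two hp.out hp2 hZ (x := ⟨a, ha.1⟩) (y := ⟨b, hb.1⟩)
        (Subtype.ext ha.2) (Subtype.ext hb.2)
      exact congrArg Subtype.val this
    | inv a _ ha => exact ⟨E.inv_mem ha.1, by rw [inv_pow, ha.2, inv_one]⟩
  intro y hy
  refine (key y ?_).2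
  rw [Subgroup.closure_union, Subgroup.closure_eq, ← Subgroup.zpowers_eq_closure]
  exact hy

/-- cyclic groups have at most `p` elements of exponent `p` -/
theorem card_le_of_cyclic [Finite G] {p : ℕ} (hp : p.Prime) (h : IsCyclic G) (he : ∀ x : G, x ^ p = 1) :
    Nat.card G ≤ p := by
  obtain ⟨g, hg⟩ := h
  have h1 : Nat.card G = orderOf g := (orderOf_eq_card_of_forall_mem_zpowers hg).symm
  rw [h1]
  exact Nat.le_of_dvd hp.pos (orderOf_dvd_of_pow_eq_one (he g))

theorem omegaOne_cyclic [Finite G] {p : ℕ} (hp : p.Prime) (h : IsCyclic G) :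
    Nat.card (Cfsg.omegaOne p (⊤ : Subgroup G)) ≤ p := by
  have hcomm : ∀ a b : G, a * b = b * a := fun a b => (IsCyclic.commGroup).mul_comm a b
  refine card_le_of_cyclic hp inferInstance ?_
  rintro ⟨x, hx⟩
  apply Subtype.ext
  show x ^ p = 1
  refine Subgroup.closure_induction (p := fun x _ => x ^ p = 1) ?_ ?_ ?_ ?_ hx
  · intro y hy; exact hy.2
  · exact one_pow p
  · intro a b _ _ ha hb
    rw [(show Commute a b from hcomm a b).mul_pow, ha, hb, one_mul]
  · intro a _ ha; rw [inv_pow, ha, inv_one]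

/-- if `|Ω₁| > p²` there is a subgroup of order `p³` and exponent `p` -/
theorem exists_E [Finite G] {p : ℕ} [hp : Fact p.Prime] (hp2 : p ≠ 2) (hG : IsPGroup p G)
    (h : p ^ 2 < Nat.card (Cfsg.omegaOne p (⊤ : Subgroup G))) :
    ∃ E : Subgroup G, Nat.card E = p ^ 3 ∧ ∀ y ∈ E, y ^ p = 1 := by
  have hnc : ¬ IsCyclic G := by
    intro hc
    have h1 := omegaOne_cyclic hp.out hc
    have h2 : p ≤ p ^ 2 := Nat.le_self_pow (by norm_num) p
    omega
  obtain ⟨A, hA, hAc, hAe, hAcard⟩ := exists_normal_elem hp.out hp2 hG hnc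
  by_cases hx : ∃ x : G, x ^ p = 1 ∧ x ∉ A
  · obtain ⟨x, hx, hxA⟩ := hx
    exact E_of_elt hp2 A hAe hAcard hx hxA
  · exfalso
    push Not at hx
    have : Cfsg.omegaOne p (⊤ : Subgroup G) ≤ A := by
      refine (Subgroup.closure_le A).mpr ?_
      rintro x ⟨-, hxp⟩
      exact hx x hxp
    have := Subgroup.card_le_of_le this
    omega

theorem metacyclic_omega [Finite G] {p : ℕ} [hp : Fact p.Prime] (hp2 : p ≠ 2) (hG : IsPGroup p G)
    (hm : Cfsg.IsMetacyclic G) (hnc : ¬ IsCyclic G) :
    Cfsg.IsElementaryAbelian p (Cfsg.omegaOne p (⊤ : Subgroup G)) ∧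
      Nat.card ↥(Cfsg.omegaOne p (⊤ : Subgroup G)) = p ^ 2 := by
  obtain ⟨A, hA, hAc, hAe, hAcard⟩ := exists_normal_elem hp.out hp2 hG hnc
  have key : Cfsg.omegaOne p (⊤ : Subgroup G) = A := by
    symm
    apply Subgroup.eq_of_le_of_card_ge
    · intro a ha
      exact Subgroup.subset_closure ⟨Subgroup.mem_top a, hAe a ha⟩
    · by_contra hlt
      rw [hAcard, not_le] at hlt
      obtain ⟨E, hE, hEe⟩ := exists_E hp2 hG hlt
      obtain ⟨N, hN, hNc, hQc⟩ := hm
      have h1 : Nat.card (E ⊓ N : Subgroup G) ≤ p := by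
        haveI : IsCyclic (E ⊓ N : Subgroup G) :=
          isCyclic_of_injective (Subgroup.inclusion (inf_le_right : E ⊓ N ≤ N)) (Subgroup.inclusion_injective _)
        exact card_le_of_cyclic hp.out inferInstance (fun x => Subtype.ext (hEe x x.2.1))
      have h2 : Nat.card (E.map (QuotientGroup.mk' N)) ≤ p := by
        refine card_le_of_cyclic hp.out inferInstance ?_
        rintro ⟨_, x, hx, rfl⟩
        apply Subtype.ext
        show (QuotientGroup.mk' N x) ^ p = 1
        rw [← map_pow, hEe x hx, map_one]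
      have h3 : Nat.card E = Nat.card (E.map (QuotientGroup.mk' N)) * Nat.card (E ⊓ N : Subgroup G) := by
        have e1 := Subgroup.card_eq_card_quotient_mul_card_subgroup
          ((QuotientGroup.mk' N).comp E.subtype).ker
        have e2 := Nat.card_congr (QuotientGroup.quotientKerEquivRange
          ((QuotientGroup.mk' N).comp E.subtype)).toEquiv
        have e3 : ((QuotientGroup.mk' N).comp E.subtype).range = E.map (QuotientGroup.mk' N) := by
          rw [MonoidHom.range_comp, Subgroup.range_subtype]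
        have e4 : ((QuotientGroup.mk' N).comp E.subtype).ker = (E ⊓ N).subgroupOf E := by
          ext x
          rw [MonoidHom.mem_ker, Subgroup.mem_subgroupOf, MonoidHom.comp_apply, Subgroup.coe_subtype,
            QuotientGroup.mk'_apply, QuotientGroup.eq_one_iff]
          exact ⟨fun h => ⟨x.2, h⟩, fun h => h.2⟩
        rw [e2, e3, e4, Nat.card_congr (Subgroup.subgroupOfEquivOfLe inf_le_left).toEquiv] at e1
        exact e1
      have h4 : Nat.card E ≤ p * p := by rw [h3]; exact Nat.mul_le_mul h2 h1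
      rw [hE] at h4
      have h5 : p ^ 3 = p * p * p := by ring
      have h6 := hp.out.two_le
      have h7 : 0 < p * p := by positivity
      nlinarith
  rw [key]
  exact ⟨⟨hAc, hAe⟩, hAcard⟩

end basic

end CfsgLib.H2Rk2
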