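import Cfsg.Agent.EqBase
import Cfsg.Agent.LibH2Uni
import Cfsg.Agent.LibH2Rk2
import Cfsg.Agent.LibSolvFrat
set_option autoImplicit false
set_option maxHeartbeats 400000
namespace CfsgLib.H2Max
open Subgroup Cfsg CfsgLib.H2Misc CfsgLib.H2Uni
open scoped commutatorElement

variable {G : Type*} [Group G]

theorem cyclic_of_comm_quot [Finite G] {p : ℕ} [hp : Fact p.Prime] (hG : IsPGroup p G)
    (h : IsCyclic (G ⧸ commutator G)) : IsCyclic G := by
  obtain ⟨⟨g⟩, hg⟩ := h
  have h1 : zpowers g ⊔ frattini G = ⊤ := by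
    rw [eq_top_iff]
    intro y _
    obtain ⟨k, hk⟩ := hg (y : G ⧸ commutator G)
    have hk' : ((g ^ k : G) : G ⧸ commutator G) = y := hk
    have h3 : (g ^ k)⁻¹ * y ∈ commutator G := QuotientGroup.eq.mp hk'
    have h4 := CfsgLib.SolvFrat.commutator_le_frattini hp.out hG h3
    have := mul_mem (mem_sup_left (T := frattini G) (⟨k, rfl⟩ : g ^ k ∈ zpowers g))
      (mem_sup_right (S := zpowers g) h4)
    rwa [mul_inv_cancel_left] at this
  have h2 := frattini_nongenerating h1
  refine ⟨g, fun x => ?_⟩
  have h5 : x ∈ zpowers g := by rw [h2]; exact mem_top x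
  exact h5

/-- sizes of the lower central series -/
theorem card_lcs_le [Finite G] {p : ℕ} [hp : Fact p.Prime] {r : ℕ} (hr : 2 ≤ r) (hc : Nat.card G = p ^ r) :
    ∀ i, 1 ≤ i → i ≤ r - 1 → Nat.card ((⊤ : Subgroup G).lowerCentralSeries i) ≤ p ^ (r - 1 - i) := by
  have hG : IsPGroup p G := IsPGroup.of_card hc
  intro i
  induction i with
  | zero => intro h; omega
  | succ i ih =>
    intro _ hi
    rcases Nat.eq_zero_or_pos i with h0 | h0
    · subst h0
      rw [zero_add, Subgroup.top_lowerCentralSeries_one]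
      obtain ⟨a, ha⟩ := IsPGroup.iff_card.mp (hG.to_subgroup (commutator G))
      obtain ⟨b, hb⟩ := IsPGroup.iff_card.mp (hG.to_quotient (commutator G))
      have h1 := Subgroup.card_eq_card_quotient_mul_card_subgroup (commutator G)
      rw [ha, hb, hc, ← pow_add] at h1
      have h2 := Nat.pow_right_injective hp.out.two_le h1
      rw [ha]
      apply Nat.pow_le_pow_right hp.out.pos
      by_cases hcy : IsCyclic (G ⧸ commutator G)
      · have h3 := cyclic_of_comm_quot hG hcy
        have h4 : commutator G = ⊥ := by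
          rw [commutator_eq_bot_iff_center_eq_top]
          letI : CommGroup G := IsCyclic.commGroup
          exact CommGroup.center_eq_top
        rw [h4, card_bot] at ha
        have h5 : a = 0 := by
          by_contra hne
          have : 1 < p ^ a := Nat.one_lt_pow hne hp.out.one_lt
          omega
        omega
      · have h5 : 2 ≤ b := by
          by_contra hlt
          apply hcy
          have hb1 : b = 0 ∨ b = 1 := by omega
          rcases hb1 with rfl | rfl
          · have : Subsingleton (G ⧸ commutator G) := (Nat.card_eq_one_iff_unique.mp (by simpa using hb)).1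
            infer_instance
          · exact isCyclic_of_prime_card (p := p) (by simpa using hb)
        have h2' : r = b + a := h2
        omega
    · have h1 := ih h0 (by omega)
      by_cases hne : (⊤ : Subgroup G).lowerCentralSeries i = ⊥
      · have h2 : (⊤ : Subgroup G).lowerCentralSeries (i + 1) = ⊥ := by
          rw [eq_bot_iff, ← hne]
          exact Subgroup.lowerCentralSeries_antitone _ (Nat.le_succ i)
        rw [h2, card_bot]
        exact Nat.one_le_pow _ _ hp.out.pos
      · have h2 : (⊤ : Subgroup G).lowerCentralSeries (i + 1) < (⊤ : Subgroup G).lowerCentralSeries i := by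
          rw [Subgroup.lowerCentralSeries_succ]
          refine comm_lt (p := p) (N := ⊤) (hG.to_subgroup ⊤) (hG.to_subgroup ⊤) ⟨le_top, ?_⟩ hne
          rw [normalizer_eq_top]
        have h3 := lt_of_card h2
        obtain ⟨a, ha⟩ := IsPGroup.iff_card.mp (hG.to_subgroup ((⊤ : Subgroup G).lowerCentralSeries i))
        obtain ⟨b, hb⟩ := IsPGroup.iff_card.mp (hG.to_subgroup ((⊤ : Subgroup G).lowerCentralSeries (i + 1)))
        rw [ha] at h1 h3
        rw [hb] at h3 ⊢
        have h4 := (Nat.pow_le_pow_iff_right hp.out.one_lt).mp h1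
        have h5 := (Nat.pow_lt_pow_iff_right hp.out.one_lt).mp h3
        exact Nat.pow_le_pow_right hp.out.pos (by omega)

theorem card_lcs_max [Finite G] {p : ℕ} [hp : Fact p.Prime] {n : ℕ} (hn : 3 ≤ n) (hc : Nat.card G = p ^ n)
    (hcl : Group.nilpotencyClass G = n - 1) :
    ∀ i, 1 ≤ i → i ≤ n - 1 → Nat.card ((⊤ : Subgroup G).lowerCentralSeries i) = p ^ (n - 1 - i) := by
  have hG : IsPGroup p G := IsPGroup.of_card hc
  have hnil := hG.isNilpotent
  have hne : ∀ i, i < n - 1 → (⊤ : Subgroup G).lowerCentralSeries i ≠ ⊥ := by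
    intro i hi h
    rw [Subgroup.lowerCentralSeries_eq_bot_iff_nilpotencyClass_le, hcl] at h
    omega
  have hpow : ∀ i, ∃ k, Nat.card ((⊤ : Subgroup G).lowerCentralSeries i) = p ^ k := fun i =>
    IsPGroup.iff_card.mp (hG.to_subgroup _)
  choose k hk using hpow
  have hlt : ∀ i < n - 1, k (i + 1) < k i := by
    intro i hi
    have h2 : (⊤ : Subgroup G).lowerCentralSeries (i + 1) < (⊤ : Subgroup G).lowerCentralSeries i := by
      rw [Subgroup.lowerCentralSeries_succ]
      refine comm_lt (p := p) (N := ⊤) (hG.to_subgroup ⊤) (hG.to_subgroup ⊤) ⟨le_top, ?_⟩ (hne i hi)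
      rw [normalizer_eq_top]
    have h3 := lt_of_card h2
    rw [hk, hk] at h3
    exact (Nat.pow_lt_pow_iff_right hp.out.one_lt).mp h3
  have hlow : ∀ j ≤ n - 1, j ≤ k (n - 1 - j) := by
    intro j
    induction j with
    | zero => intro _; omega
    | succ j ih =>
      intro hj
      have h1 := ih (by omega)
      have h2 := hlt (n - 1 - (j + 1)) (by omega)
      have h3 : n - 1 - (j + 1) + 1 = n - 1 - j := by omega
      rw [h3] at h2
      omega
  intro i hi1 hi
  have h1 := card_lcs_le (by omega) hc i hi1 hi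
  rw [hk] at h1 ⊢
  have h2 := (Nat.pow_le_pow_iff_right hp.out.one_lt).mp h1
  have h3 := hlow (n - 1 - i) (by omega)
  have h4 : n - 1 - (n - 1 - i) = i := by omega
  rw [h4] at h3
  congr 1
  omega

theorem normal_eq_lcs [Finite G] {p : ℕ} [hp : Fact p.Prime] {n : ℕ} (hn : 3 ≤ n) (hc : Nat.card G = p ^ n)
    (hcl : Group.nilpotencyClass G = n - 1) (N : Subgroup G) [N.Normal] (r : ℕ) (hr : 2 ≤ r) (hN : N.index = p ^ r) :
    N = (⊤ : Subgroup G).lowerCentralSeries (r - 1) := by
  have h1 : Nat.card N * p ^ r = p ^ n := by rw [← hN, Subgroup.card_mul_index, hc]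
  have hrn : r ≤ n := by
    have h2 : p ^ r ∣ p ^ n := ⟨Nat.card N, by rw [← h1, mul_comm]⟩
    exact (Nat.pow_dvd_pow_iff_le_right hp.out.one_lt).mp h2
  have hq : Nat.card (G ⧸ N) = p ^ r := by rw [← Subgroup.index_eq_card, hN]
  have h2 := card_lcs_le hr hq (r - 1) (by omega) le_rfl
  rw [Nat.sub_self, pow_zero] at h2
  have h3 : (⊤ : Subgroup (G ⧸ N)).lowerCentralSeries (r - 1) = ⊥ := by
    apply card_eq_one.mp
    have : 0 < Nat.card ((⊤ : Subgroup (G ⧸ N)).lowerCentralSeries (r - 1)) := Nat.card_pos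
    omega
  have h4 : (⊤ : Subgroup G).lowerCentralSeries (r - 1) ≤ N := by
    have h5 : ((⊤ : Subgroup G).lowerCentralSeries (r - 1)).map (QuotientGroup.mk' N) ≤
        (⊤ : Subgroup (G ⧸ N)).lowerCentralSeries (r - 1) := by
      rw [Subgroup.map_lowerCentralSeries]
      exact Subgroup.lowerCentralSeries_mono _ le_top
    rw [h3, le_bot_iff, Subgroup.map_eq_bot_iff, QuotientGroup.ker_mk'] at h5
    exact h5
  symm
  apply Subgroup.eq_of_le_of_card_ge h4
  rw [card_lcs_max hn hc hcl (r - 1) (by omega) (by omega)]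
  have h5 : p ^ n = p ^ (n - 1 - (r - 1)) * p ^ r := by rw [← pow_add]; congr 1; omega
  rw [h5] at h1
  exact (Nat.eq_of_mul_eq_mul_right (pow_pos hp.out.pos r) h1).le

/-- subgroups of order `p` in a noncyclic group of order `p²` -/
theorem card_subgroups [Finite G] {p : ℕ} [hp : Fact p.Prime] (hc : Nat.card G = p ^ 2) (hnc : ¬ IsCyclic G) :
    Nat.card {S : Subgroup G // Nat.card S = p} = p + 1 := by
  have hord : ∀ x : G, x ≠ 1 → orderOf x = p := by
    intro x hx
    have h1 : orderOf x ∣ p ^ 2 := hc ▸ orderOf_dvd_natCard x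
    obtain ⟨k, hk, hk'⟩ := (Nat.dvd_prime_pow hp.out).mp h1
    interval_cases k
    · rw [pow_zero, orderOf_eq_one_iff] at hk'; exact absurd hk' hx
    · rw [hk', pow_one]
    · exfalso
      apply hnc
      exact isCyclic_of_orderOf_eq_card x (by rw [hk', hc])
  have key : ∀ (S : Subgroup G) (x : G), Nat.card S = p → x ∈ S → x ≠ 1 → S = zpowers x := by
    intro S x hS hx hx1
    symm
    apply Subgroup.eq_of_le_of_card_ge (zpowers_le.mpr hx)
    rw [hS, Nat.card_zpowers, hord x hx1]
  let e : {x : G // x ≠ 1} ≃ Σ S : {S : Subgroup G // Nat.card S = p}, {x : (S : Subgroup G) // x ≠ 1} :=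
    { toFun := fun x => ⟨⟨zpowers (x : G), by rw [Nat.card_zpowers, hord x x.2]⟩,
        ⟨⟨x, mem_zpowers _⟩, fun h => x.2 (congrArg Subtype.val h)⟩⟩
      invFun := fun y => ⟨(y.2.1 : G), fun h => y.2.2 (Subtype.ext h)⟩
      left_inv := fun x => rfl
      right_inv := by
        rintro ⟨⟨S, hS⟩, ⟨⟨x, hx⟩, hx1⟩⟩
        have hx1' : x ≠ 1 := fun h => hx1 (Subtype.ext h)
        have h1 := key S x hS hx hx1'
        subst h1
        rfl }
  have h1 := Nat.card_congr e
  haveI : Finite {S : Subgroup G // Nat.card S = p} := inferInstance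
  have hpunct : ∀ (H : Type _) [Group H] [Finite H], Nat.card {x : H // x ≠ 1} = Nat.card H - 1 := by
    intro H _ _
    classical
    haveI := Fintype.ofFinite H
    rw [Nat.card_eq_fintype_card, Nat.card_eq_fintype_card, Fintype.card_subtype_compl,
      Fintype.card_subtype_eq]
  classical
  haveI := Fintype.ofFinite {S : Subgroup G // Nat.card S = p}
  rw [hpunct G, hc, Nat.card_sigma] at h1
  have h2 : ∀ S : {S : Subgroup G // Nat.card S = p}, Nat.card {x : (S : Subgroup G) // x ≠ 1} = p - 1 := by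
    intro S
    rw [hpunct, S.2]
  simp only [h2] at h1
  rw [Finset.sum_const, smul_eq_mul, Finset.card_univ, ← Nat.card_eq_fintype_card] at h1
  have h3 : p ^ 2 - 1 = (p + 1) * (p - 1) := by
    obtain ⟨m, rfl⟩ : ∃ m, p = m + 1 := ⟨p - 1, by have := hp.out.pos; omega⟩
    have : (m + 1) ^ 2 = (m + 1 + 1) * m + 1 := by ring
    rw [this, Nat.add_sub_cancel, Nat.add_sub_cancel]
  rw [h3] at h1
  have h4 : 0 < p - 1 := by have := hp.out.one_lt; omega
  exact (Nat.eq_of_mul_eq_mul_right h4 h1).symm

theorem card_normal_index [Finite G] {p : ℕ} [hp : Fact p.Prime] {n : ℕ} (hn : 3 ≤ n) (hc : Nat.card G = p ^ n)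
    (hcl : Group.nilpotencyClass G = n - 1) : Nat.card {N : Subgroup G // N.Normal ∧ N.index = p} = p + 1 := by
  have hG : IsPGroup p G := IsPGroup.of_card hc
  have hnil := hG.isNilpotent
  have h1 := card_lcs_max hn hc hcl 1 le_rfl (by omega)
  rw [Subgroup.top_lowerCentralSeries_one] at h1
  have h2 : Nat.card (G ⧸ commutator G) = p ^ 2 := by
    have h3 := Subgroup.card_eq_card_quotient_mul_card_subgroup (commutator G)
    rw [h1, hc] at h3
    have h4 : p ^ n = p ^ 2 * p ^ (n - 1 - 1) := by rw [← pow_add]; congr 1; omega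
    rw [h4] at h3
    exact (Nat.eq_of_mul_eq_mul_right (pow_pos hp.out.pos _) h3).symm
  have hnc : ¬ IsCyclic (G ⧸ commutator G) := by
    intro h
    have h3 := cyclic_of_comm_quot hG h
    letI : CommGroup G := IsCyclic.commGroup
    have h4 := CommGroup.nilpotencyClass_le_one (G := G)
    omega
  rw [← card_subgroups h2 hnc]
  have hcomm : ∀ a b : G ⧸ commutator G, a * b = b * a := by
    intro a b
    exact (IsPGroup.commGroupOfCardEqPrimeSq h2).mul_comm a b
  apply Nat.card_congr
  refine
    { toFun := fun N => ⟨N.1.map (QuotientGroup.mk' (commutator G)), ?_⟩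
      invFun := fun S => ⟨S.1.comap (QuotientGroup.mk' (commutator G)), ?_, ?_⟩
      left_inv := ?_
      right_inv := ?_ }
  · obtain ⟨N, hN, hi⟩ := N
    have hle : commutator G ≤ N := CfsgLib.SolvFrat.commutator_le_of_index_prime hp.out hi
    have h3 : (N.map (QuotientGroup.mk' (commutator G))).index = p := by
      rw [Subgroup.index_map_eq N (QuotientGroup.mk'_surjective _) (by rw [QuotientGroup.ker_mk']; exact hle), hi]
    have h4 := Subgroup.card_mul_index (N.map (QuotientGroup.mk' (commutator G)))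
    rw [h3, h2, pow_two] at h4
    exact Nat.eq_of_mul_eq_mul_right hp.out.pos h4
  · haveI : S.1.Normal := ⟨fun x hx g => by rw [hcomm g x]; simpa using hx⟩
    infer_instance
  · rw [Subgroup.index_comap_of_surjective _ (QuotientGroup.mk'_surjective _)]
    have h3 := Subgroup.card_mul_index S.1
    rw [S.2, h2, pow_two] at h3
    exact Nat.eq_of_mul_eq_mul_left hp.out.pos h3
  · rintro ⟨N, hN, hi⟩
    have hle : commutator G ≤ N := CfsgLib.SolvFrat.commutator_le_of_index_prime hp.out hi
    apply Subtype.ext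
    show (N.map (QuotientGroup.mk' (commutator G))).comap (QuotientGroup.mk' (commutator G)) = N
    rw [Subgroup.comap_map_eq, QuotientGroup.ker_mk']
    exact sup_eq_left.mpr hle
  · rintro ⟨S, hS⟩
    apply Subtype.ext
    exact Subgroup.map_comap_eq_self_of_surjective (QuotientGroup.mk'_surjective _) S

end CfsgLib.H2Max
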