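import Cfsg.Agent.EqBase
import Cfsg.Agent.LibH2Npc
set_option autoImplicit false
set_option maxHeartbeats 400000

namespace CfsgLib.H2Npc2

open Subgroup Cfsg CfsgLib.BGPi CfsgLib.Fus9 CfsgLib.Kinf9 CfsgLib.Chief9 CfsgLib.HomAct9 CfsgLib.Weak9
open CfsgLib.Stab9 CfsgLib.HH9 CfsgLib.Npc9 CfsgLib.NpcRed9
open scoped CfsgLib.BGPi CfsgLib.Kinf9 Pointwise commutatorElement

universe u

variable {p : ℕ} [hp : Fact p.Prime]

/-- minimal counterexamples for normal `p`-complement criteria with a functor `W` (normalizers) and a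
second functor `W₂` (centralizers) -/
theorem npc_min2 {W W₂ : ∀ (Q : Type u) [Group Q], Subgroup Q} (hW : IsCharPFunctor.{u} p W)
    (hW₂ : IsCharPFunctor.{u} p W₂) :
    ∀ (n : ℕ) (G : Type u) [Group G] [Finite G], Nat.card G ≤ n →
      (∀ (H : Type u) [Group H] [Finite H], CfsgLib.SecH12.IsSec H G → ∀ T : Sylow p H,
        𝓒(pCore p H) ≤ pCore p H → HasNormalPComplement p (H ⧸ pCore p H) →
        IsCoatom (T : Subgroup H) →
        HasNormalPComplement p ↥(𝓝(inducedFunctor (G := H) W (T : Subgroup H))) →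
        HasNormalPComplement p ↥(𝓒(inducedFunctor (G := H) W₂ (T : Subgroup H))) →
        HasNormalPComplement p H) →
      ∀ S : Sylow p G, HasNormalPComplement p ↥(𝓝(inducedFunctor (G := G) W (S : Subgroup G))) →
      HasNormalPComplement p ↥(𝓒(inducedFunctor (G := G) W₂ (S : Subgroup G))) →
      HasNormalPComplement p G := by
  intro n
  induction n with
  | zero =>
    intro G _ _ hn
    have : 0 < Nat.card G := Nat.card_pos
    omega
  | succ n ih =>
  intro G _ _ hn hyp S hS hS₂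
  by_contra hG
  have hWc : IsConjugacyFunctor p (inducedFunctor (G := G) W) := CfsgLib.SecH12.induced_isConj hW G
  have hWc₂ : IsConjugacyFunctor p (inducedFunctor (G := G) W₂) := CfsgLib.SecH12.induced_isConj hW₂ G
  set Wi := inducedFunctor (G := G) W with hWi
  set Wi₂ := inducedFunctor (G := G) W₂ with hWi₂
  have hST := CfsgLib.FusionH12.SylIn.ofSylow S
  -- (A)
  have hA : ∀ M : Subgroup G, M ≠ ⊤ → ∀ R : Subgroup G, SylIn p R M →
      HasNormalPComplement p ↥(M ⊓ 𝓝(Wi R)) → HasNormalPComplement p ↥(M ⊓ 𝓒(Wi₂ R)) →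
      HasNormalPComplement p ↥M := by
    intro M hM R hR h h₂
    obtain ⟨R', hR'⟩ := hR.toSylow
    have hRm : (R' : Subgroup ↥M).map M.subtype = R := by
      rw [hR']; exact Subgroup.map_subgroupOf_eq_of_le hR.le
    have hmap : (inducedFunctor (G := ↥M) W (R' : Subgroup ↥M)).map M.subtype = Wi R := by
      rw [← CfsgLib.SecH12.induced_map (p := p) hW M.subtype (R' : Subgroup ↥M) R'.2
        M.subtype_injective.injOn, hRm]
    have hmap₂ : (inducedFunctor (G := ↥M) W₂ (R' : Subgroup ↥M)).map M.subtype = Wi₂ R := by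
      rw [← CfsgLib.SecH12.induced_map (p := p) hW₂ M.subtype (R' : Subgroup ↥M) R'.2
        M.subtype_injective.injOn, hRm]
    refine ih ↥M ?_ (fun H _ _ hH => hyp H (hH.trans (CfsgLib.SecH12.IsSec.subgroup M))) R' ?_ ?_
    · have := CfsgLib.SecH12.card_lt_of_ne_top hM
      omega
    · have h1 := map_nz (inducedFunctor (G := ↥M) W (R' : Subgroup ↥M))
      rw [hmap] at h1
      refine (hnpc_equiv (Subgroup.equivMapOfInjective _ M.subtype M.subtype_injective)).2 ?_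
      rw [h1]
      exact h
    · refine (hnpc_equiv (Subgroup.equivMapOfInjective _ M.subtype M.subtype_injective)).2 ?_
      refine hnpc_subgroup_le ?_ h₂
      rintro _ ⟨x, hx, rfl⟩
      refine ⟨x.2, ?_⟩
      rw [← hmap₂]
      apply Subgroup.mem_centralizer_iff.mpr
      rintro _ ⟨y, hy, rfl⟩
      exact congrArg Subtype.val (Subgroup.mem_centralizer_iff.mp hx y hy)
  -- (B)
  have hB : ∀ P : Subgroup G, SylIn p P ⊤ → HasNormalPComplement p ↥(𝓝(Wi P)) := by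
    intro P hP
    obtain ⟨a, -, ha⟩ := CfsgLib.FusionH12.SylIn.exists_conj hP hST
    rw [← ha]
    have h1 : Wi ((S : Subgroup G) ^ᵍ a) = (Wi (S : Subgroup G)) ^ᵍ a := (hWc _ S.2).2.2 a
    have h2 : 𝓝(Wi ((S : Subgroup G) ^ᵍ a)) = (𝓝(Wi (S : Subgroup G))) ^ᵍ a := by
      rw [h1]; exact (CfsgLib.FusionH12.cj_normalizer a _).symm
    show HasNormalPComplement p ↥(𝓝(Wi ((S : Subgroup G) ^ᵍ a)))
    rw [h2]
    exact hnpc_cj a hS
  have hB₂ : ∀ P : Subgroup G, SylIn p P ⊤ → HasNormalPComplement p ↥(𝓒(Wi₂ P)) := by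
    intro P hP
    obtain ⟨a, -, ha⟩ := CfsgLib.FusionH12.SylIn.exists_conj hP hST
    rw [← ha]
    have h1 : Wi₂ ((S : Subgroup G) ^ᵍ a) = (Wi₂ (S : Subgroup G)) ^ᵍ a := (hWc₂ _ S.2).2.2 a
    show HasNormalPComplement p ↥(𝓒(Wi₂ ((S : Subgroup G) ^ᵍ a)))
    refine hnpc_subgroup_le ?_ (hnpc_cj a hS₂)
    rw [h1]
    intro x hx
    refine ⟨a⁻¹ * x * a, ?_, by simp [mul_assoc]⟩
    apply Subgroup.mem_centralizer_iff.mpr
    intro y hy
    have h3 := Subgroup.mem_centralizer_iff.mp hx (a * y * a⁻¹) ⟨y, hy, rfl⟩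
    calc y * (a⁻¹ * x * a) = a⁻¹ * ((a * y * a⁻¹) * x) * a := by group
      _ = a⁻¹ * (x * (a * y * a⁻¹)) * a := by rw [h3]
      _ = a⁻¹ * x * a * y := by group
  -- (C)
  have hC : ∀ P : Subgroup G, SylIn p P ⊤ → ∀ M : Subgroup G, M ≠ ⊤ → P ≤ M →
      HasNormalPComplement p ↥M := by
    intro P hP M hM hPM
    exact hA M hM P (hP.mono hPM le_top) (hnpc_subgroup_le inf_le_right (hB P hP))
      (hnpc_subgroup_le inf_le_right (hB₂ P hP))
  -- (D)
  have hex : ∃ Q₀ : Subgroup G, IsPGroup p Q₀ ∧ Q₀ ≠ ⊥ ∧ ¬ HasNormalPComplement p ↥(𝓝(Q₀)) := by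
    by_contra hcon
    push Not at hcon
    exact hG ((CfsgLib.TransPC.frobenius_local p).2 fun Q hQ hQ' => hcon Q hQ hQ')
  obtain ⟨Q₀, hQ₀, hQmax⟩ := Set.Finite.exists_maximalFor
    (fun Q : Subgroup G => (Nat.card ↥(𝓝(Q))).factorization p)
    {Q₀ : Subgroup G | IsPGroup p Q₀ ∧ Q₀ ≠ ⊥ ∧ ¬ HasNormalPComplement p ↥(𝓝(Q₀))}
    (Set.toFinite _) hex
  obtain ⟨hQ₀p, hQ₀b, hQ₀n⟩ := hQ₀
  obtain ⟨R, hQ₀R, hR⟩ := CfsgLib.FusionH12.SylIn.exists_ge (p := p) (P := Q₀) (H := 𝓝(Q₀)) hQ₀p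
    Subgroup.le_normalizer
  obtain ⟨P, hRP, hP⟩ := CfsgLib.FusionH12.SylIn.exists_ge (p := p) (P := R) (H := ⊤) hR.pg le_top
  have hRne : R ≠ ⊥ := fun h => hQ₀b (le_bot_iff.1 (h ▸ hQ₀R))
  have hRP' : R = P := by
    by_contra hne
    have hlt : R < P := lt_of_le_of_ne hRP hne
    have h1 : R < P ⊓ 𝓝(R) := CfsgLib.FusionH12.lt_nrm_inf hP.pg hlt
    have h2 := CfsgLib.FusionH12c.card_lt_of_lt h1
    have key : ∀ X : Subgroup G, IsPGroup p X → X ≠ ⊥ → 𝓝(R) ≤ 𝓝(X) → HasNormalPComplement p ↥(𝓝(X)) := by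
      intro X hX hXb hRX
      by_contra hcon
      have h3 : (Nat.card ↥(𝓝(Q₀))).factorization p < (Nat.card ↥(𝓝(X))).factorization p := by
        have hPN : P ⊓ 𝓝(R) ≤ 𝓝(X) := inf_le_right.trans hRX
        obtain ⟨R₂, hR₂, hR₂'⟩ := CfsgLib.FusionH12.SylIn.exists_ge (p := p) (P := P ⊓ 𝓝(R))
          (H := 𝓝(X)) (hP.pg.to_le inf_le_left) hPN
        have h4 : Nat.card R < Nat.card R₂ := h2.trans_le (Subgroup.card_le_of_le hR₂)
        rw [card_sylIn hR, card_sylIn hR₂'] at h4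
        exact (Nat.pow_lt_pow_iff_right hp.out.one_lt).1 h4
      have h4 := hQmax (j := X) ⟨hX, hXb, hcon⟩ h3.le
      exact absurd h4 (not_le.2 h3)
    have hWR := key (Wi R) (hR.pg.to_le (hWc R hR.pg).1) ((hWc R hR.pg).2.1 hRne)
      (CfsgLib.FusionH12b.nrm_le_nrm_W hWc hR.pg)
    have hWR₂ := key (Wi₂ R) (hR.pg.to_le (hWc₂ R hR.pg).1) ((hWc₂ R hR.pg).2.1 hRne)
      (CfsgLib.FusionH12b.nrm_le_nrm_W hWc₂ hR.pg)
    apply hQ₀n
    refine hA _ ?_ R hR (hnpc_subgroup_le inf_le_right hWR)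
      (hnpc_subgroup_le (inf_le_right.trans (Subgroup.centralizer_le_normalizer _)) hWR₂)
    intro htop
    have h3 := card_sylIn hR
    rw [htop, ← card_sylIn hP] at h3
    exact hne (Subgroup.eq_of_le_of_card_ge hRP h3.ge)
  rw [hRP'] at hR
  have hN : 𝓝(Q₀) = ⊤ := by
    by_contra hne
    exact hQ₀n (hC P hP _ hne hR.le)
  have hQ₀Q : Q₀ ≤ pCore p G :=
    CfsgLib.Cores.le_pCore (Subgroup.normalizer_eq_top_iff.1 hN) hQ₀p
  set Q := pCore p G with hQ
  have hQb : Q ≠ ⊥ := fun h => hQ₀b (le_bot_iff.1 (h ▸ hQ₀Q))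
  obtain ⟨P', hP'⟩ := hP.exists_sylow_coe
  have hQP : Q ≤ (P' : Subgroup G) := CfsgLib.Cores.pCore_le_sylow P'
  -- (E)
  have hPQ : ¬ (P' : Subgroup G) ≤ Q := by
    intro h
    apply hG
    have h1 : (P' : Subgroup G) = Q := le_antisymm h hQP
    have h2 : 𝓝((P' : Subgroup G)) = ⊤ := by
      rw [h1]; exact Subgroup.normalizer_eq_top _
    have h3 : 𝓝(Wi (P' : Subgroup G)) = ⊤ := by
      rw [eq_top_iff, ← h2]
      exact CfsgLib.FusionH12b.nrm_le_nrm_W hWc P'.2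
    have h4 := hB P hP
    rw [← hP', h3] at h4
    exact (hnpc_equiv Subgroup.topEquiv).1 h4
  -- (F)
  have hF : HasNormalPComplement p (G ⧸ Q) := by
    have hPm := CfsgLib.FusionH12f.sylIn_map_mk P' Q
    obtain ⟨P₁, hP₁⟩ := hPm.exists_sylow_coe
    have key : ∀ {W' : ∀ (Q : Type u) [Group Q], Subgroup Q} (hW' : IsCharPFunctor.{u} p W'),
        HasNormalPComplement p ↥(𝓝(inducedFunctor (G := G ⧸ Q) W'
          ((P' : Subgroup G).map (QuotientGroup.mk' Q)))) := by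
      intro W' hW'
      have hWq : IsConjugacyFunctor p (inducedFunctor (G := G ⧸ Q) W') :=
        CfsgLib.SecH12.induced_isConj hW' (G ⧸ Q)
      set M := (𝓝(inducedFunctor (G := G ⧸ Q) W'
        ((P' : Subgroup G).map (QuotientGroup.mk' Q)))).comap (QuotientGroup.mk' Q) with hM
      have hPM : (P' : Subgroup G) ≤ M := by
        rw [hM, ← Subgroup.map_le_iff_le_comap]
        exact Subgroup.le_normalizer.trans (CfsgLib.FusionH12b.nrm_le_nrm_W hWq (P'.2.map _))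
      have hMt : M ≠ ⊤ := by
        intro h
        rw [hM, ← Subgroup.comap_top (QuotientGroup.mk' Q)] at h
        have h1 := Subgroup.comap_injective (QuotientGroup.mk'_surjective Q) h
        refine CfsgLib.FusionH12f.nrm_ne_top_of_pgroup (p := p)
          ((P'.2.map _).to_le (hWq _ (P'.2.map _)).1) ?_ h1
        intro h2
        have h3 : pCore p (G ⧸ Q) = ⊥ := CfsgLib.Cores.pCore_quotient_pCore p
        rw [h3, le_bot_iff] at h2
        exact (hWq _ (P'.2.map _)).2.1 (CfsgLib.FusionH12f.sylow_map_ne_bot P' hPQ) h2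
      have h1 := hC P hP M hMt (by rw [← hP']; exact hPM)
      let f : ↥M →* ↥(𝓝(inducedFunctor (G := G ⧸ Q) W'
        ((P' : Subgroup G).map (QuotientGroup.mk' Q)))) := (QuotientGroup.mk' Q).subgroupComap _
      refine hnpc_of_surjective f ?_ h1
      rintro ⟨y, hy⟩
      obtain ⟨x, rfl⟩ := QuotientGroup.mk'_surjective Q y
      exact ⟨⟨x, hy⟩, rfl⟩
    refine ih (G ⧸ Q) ?_ (fun H _ _ hH => hyp H (hH.trans (CfsgLib.SecH12.IsSec.quotient Q))) P₁ ?_ ?_
    · have := CfsgLib.SecH12.card_quot_lt hQb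
      omega
    · rw [hP₁]
      exact key hW
    · rw [hP₁]
      exact hnpc_subgroup_le (Subgroup.centralizer_le_normalizer _) (key hW₂)
  -- (G)
  have hK : pPrimeCore p G = ⊥ := by
    by_contra hK
    set K₀ := pPrimeCore p G with hK₀
    have hK₀c : (Nat.card K₀).Coprime p := CfsgLib.Cores.pPrimeCore_coprime p
    apply hG
    refine hnpc_of_quotient_coprime K₀ hK₀c ?_
    have hPm := CfsgLib.FusionH12f.sylIn_map_mk S K₀
    obtain ⟨P₁, hP₁⟩ := hPm.exists_sylow_coe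
    have hinj : Set.InjOn (QuotientGroup.mk' K₀) (S : Subgroup G) := by
      intro x hx y hy hxy
      have h1 : x⁻¹ * y ∈ K₀ := QuotientGroup.eq.1 hxy
      exact inv_mul_eq_one.1
        (inf_bot_of_coprime S.2 hK₀c (mul_mem (inv_mem hx) hy) h1)
    refine ih (G ⧸ K₀) ?_ (fun H _ _ hH => hyp H (hH.trans (CfsgLib.SecH12.IsSec.quotient K₀))) P₁ ?_ ?_
    · have := CfsgLib.SecH12.card_quot_lt hK
      omega
    · rw [hP₁]
      rw [CfsgLib.SecH12.induced_map (p := p) hW (QuotientGroup.mk' K₀) (S : Subgroup G) S.2 hinj]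
      have hWp : IsPGroup p ↥(Wi (S : Subgroup G)) := S.2.to_le (hWc _ S.2).1
      have hsub : ∀ x : G, x ∈ 𝓝(Wi (S : Subgroup G)) →
          QuotientGroup.mk' K₀ x ∈ 𝓝((Wi (S : Subgroup G)).map (QuotientGroup.mk' K₀)) := by
        intro x hx
        exact Subgroup.le_normalizer_map _ ⟨x, hx, rfl⟩
      let f : ↥(𝓝(Wi (S : Subgroup G))) →*
          ↥(𝓝((Wi (S : Subgroup G)).map (QuotientGroup.mk' K₀))) :=
        ((QuotientGroup.mk' K₀).comp (𝓝(Wi (S : Subgroup G))).subtype).codRestrict _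
          fun x => hsub x x.2
      refine hnpc_of_surjective f ?_ hS
      rintro ⟨y, hy⟩
      obtain ⟨x, rfl⟩ := QuotientGroup.mk'_surjective K₀ y
      obtain ⟨z, hz, hzx⟩ := CfsgLib.FusionH12e.exists_lift_normalizer hWp hK₀c x hy
      exact ⟨⟨z, hz⟩, Subtype.ext hzx⟩
    · rw [hP₁]
      rw [CfsgLib.SecH12.induced_map (p := p) hW₂ (QuotientGroup.mk' K₀) (S : Subgroup G) S.2 hinj]
      have hWp : IsPGroup p ↥(Wi₂ (S : Subgroup G)) := S.2.to_le (hWc₂ _ S.2).1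
      have h1 := CfsgLib.H2Lift.centralizer_map_eq hWp hK₀c
      change HasNormalPComplement p ↥(𝓒((Wi₂ (S : Subgroup G)).map (QuotientGroup.mk' K₀)))
      rw [h1]
      exact hnpc_of_surjective ((QuotientGroup.mk' K₀).subgroupMap _)
        (MonoidHom.subgroupMap_surjective _ _) hS₂
  -- (H)
  have hCQ : 𝓒(Q) ≤ Q := constrained_of_hnpc hK hF
  have hQp : IsPGroup p Q := CfsgLib.Cores.pCore_isPGroup p
  -- (I)
  have hco : IsCoatom (P' : Subgroup G) := by
    refine ⟨fun h => hPQ ?_, fun M hM => ?_⟩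
    · have h1 : IsPGroup p (⊤ : Subgroup G) := h ▸ P'.2
      rw [h]
      exact CfsgLib.Cores.le_pCore inferInstance h1
    · by_contra hMt
      have hM' := hC P hP M hMt (by rw [← hP']; exact hM.le)
      have hMp : IsPGroup p M := by
        refine isPGroup_of_no_coprime fun x hx hxc => ?_
        have hQM : Q ≤ M := hQP.trans hM.le
        haveI : (Q.subgroupOf M).Normal := inferInstance
        have h1 : (⟨x, hx⟩ : ↥M) ∈ pPrimeCore p ↥M :=
          mem_pPrimeCore_of_coprime hM' (by rwa [Subgroup.orderOf_mk])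
        have h2 := pPrimeCore_centralizes (p := p) (Q := Q.subgroupOf M) hQp.comap_subtype h1
        have h3 : x ∈ 𝓒(Q) := by
          rw [Subgroup.mem_centralizer_iff] at h2 ⊢
          intro q hq
          exact congrArg Subtype.val (h2 ⟨q, hQM hq⟩ hq)
        exact eq_one_of_mem_pGroup hQp (hCQ h3) hxc
      exact hM.ne (P'.3 hMp hM.le).symm
  exact hG (hyp G (CfsgLib.SecH12.IsSec.refl G) P' hCQ hF hco (by
    have := hB P hP
    rwa [← hP'] at this) (by
    have := hB₂ P hP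
    rwa [← hP'] at this))

end CfsgLib.H2Npc2
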