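import Cfsg.Agent.EqBase
import Cfsg.Agent.LibH2Npc2
import Cfsg.Agent.LibH2Wst
import Cfsg.Agent.LibBGCore
import Cfsg.Agent.LibSolvCoprime3
set_option autoImplicit false
namespace CfsgLib.H2Npc3
open Subgroup Cfsg MulAction CfsgLib.Cores CfsgLib.Coprime CfsgLib.H2Misc CfsgLib.H2Solv CfsgLib.H2Subn CfsgLib.H2Quad CfsgLib.H2Gen CfsgLib.H2Gen2 CfsgLib.H2Thomp CfsgLib.H2Lift CfsgLib.H2PG CfsgLib.H2Repl CfsgLib.H2Glaub CfsgLib.H2ZJ CfsgLib.H2Stab CfsgLib.H2Loc CfsgLib.H2PSt CfsgLib.H2PSt2 CfsgLib.H2ZJe CfsgLib.H2Npc CfsgLib.H2Npc2 CfsgLib.H2Wst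
open CfsgLib.NpcRed9 (npc_min ablen_of_coatom hnpc_of_normal_W)
open CfsgLib.Npc9 (hnpc_iff_pPrimeCore)
open scoped Pointwise commutatorElement

universe u v

/-- the elementary abelian Thompson subgroup as a functor -/
def WJ (p : ℕ) (Q : Type u) [Group Q] : Subgroup Q := thompsonSubgroup p Q

theorem induced_WJ {G : Type u} [Group G] (p : ℕ) (P : Subgroup G) :
    inducedFunctor (WJ p) P = thompsonSubgroupOf p P := rfl

theorem charp_WJ (p : ℕ) [hp : Fact p.Prime] : IsCharPFunctor.{u} p (WJ p) := by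
  constructor
  · intro Q _ _ hQ hn h
    have h1 := centerThompsonOf_ne_bot (p := p) (hQ.to_subgroup ⊤) (top_ne_bot (α := Subgroup Q))
    apply h1
    rw [eq_bot_iff, centerThompsonOf_eq, Je_top]
    exact inf_le_left.trans h.le
  · intro Q R _ _ _ hQ φ
    rw [WJ, WJ, ← Je_top, ← Je_map p φ.toMonoidHom φ.injective.injOn, map_top_of_surjective _ φ.surjective,
      Je_top]

/-- the center as a functor -/
def WZ (Q : Type u) [Group Q] : Subgroup Q := center Q

theorem center_eq (Q : Type u) [Group Q] : center Q = (⊤ : Subgroup Q) ⊓ centralizer ((⊤ : Subgroup Q) : Set Q) := by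
  rw [top_inf_eq, coe_top, centralizer_univ]

theorem induced_WZ {G : Type u} [Group G] (P : Subgroup G) :
    inducedFunctor WZ P = P ⊓ centralizer (P : Set G) := by
  rw [inducedFunctor, WZ, center_eq, H2Npc.center_map P.subtype (P := (⊤ : Subgroup P)) P.subtype_injective.injOn,
    top_map_subtype]

theorem charp_WZ (p : ℕ) [hp : Fact p.Prime] : IsCharPFunctor.{u} p WZ := by
  constructor
  · intro Q _ _ hQ hn h
    haveI := hQ.center_nontrivial
    exact (nontrivial_iff_ne_bot _).mp this h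
  · intro Q R _ _ _ hQ φ
    rw [WZ, WZ, center_eq, H2Npc.center_map φ.toMonoidHom (P := (⊤ : Subgroup Q)) φ.injective.injOn,
      map_top_of_surjective _ φ.surjective, ← center_eq]

/-- elements of order `p` centralizing `J_e(P)`, inside `P`, lie in `Z(J_e(P))`. -/
theorem mem_centerThompsonOf {G : Type u} [Group G] [Finite G] {p : ℕ} [hp : Fact p.Prime] {P : Subgroup G} {x : G}
    (hx : x ∈ P) (hxc : x ∈ centralizer (P : Set G)) (hxp : x ^ p = 1) : x ∈ centerThompsonOf p P := by
  rw [centerThompsonOf_eq]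
  have hJP : Je p P ≤ P := JQ_le _ _
  refine ⟨?_, centralizer_le (SetLike.coe_subset_coe.mpr hJP) hxc⟩
  obtain ⟨A, hA⟩ := exists_maxIn (Q := IsElementaryAbelian p) (P := P) bot_le (elab_bot p)
  have h1 : zpowers x ≤ A := by
    apply le_of_elab_maxIn hA
    · exact elab_zpowers hxp
    · exact zpowers_le.mpr hx
    · intro a ha b hb
      obtain ⟨k, rfl⟩ := mem_zpowers_iff.mp ha
      exact (mem_centralizer_iff.mp (zpow_mem hxc k) b (hA.1 hb))
  exact le_sSup hA (h1 (mem_zpowers x))

theorem final {H : Type u} [Group H] [Finite H] {p : ℕ} [hp : Fact p.Prime] (hp2 : p ≠ 2) (T : Sylow p H)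
    (hc : centralizer (pCore p H : Set H) ≤ pCore p H) (hq : HasNormalPComplement p (H ⧸ pCore p H))
    (hT : IsCoatom (T : Subgroup H))
    (hJ : HasNormalPComplement p ↥(normalizer (thompsonSubgroupOf p (T : Subgroup H) : Set H)))
    (hZ : HasNormalPComplement p ↥(centralizer (((T : Subgroup H) ⊓ centralizer (T : Set H) : Subgroup H) : Set H))) :
    HasNormalPComplement p H := by
  set O := pCore p H with hO
  have hOp : IsPGroup p O := pCore_isPGroup p
  have hOT : O ≤ T := pCore_le_sylow T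
  set J := thompsonSubgroupOf p (T : Subgroup H) with hJd
  have hJe : J = Je p (T : Subgroup H) := thompsonSubgroupOf_eq p _
  have hNQ := noQuad_all_of_sylAb hp2 (sylAb_of_ablen hp2 (ablen_of_coatom T hT hq))
  set V := centerThompsonOf p (T : Subgroup H) with hV
  haveI hVn : V.Normal := by
    rw [hV, centerThompsonOf_eq]
    exact center_Je_normal hp2 hNQ hc T
  set A := centralizer (V : Set H) with hA
  haveI hAn : A.Normal := inferInstance
  have hJA : J ≤ A := by
    apply le_centralizer_of_comm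
    intro x hx y hy
    rw [hV, centerThompsonOf_eq, ← hJe] at hy
    exact mem_centralizer_iff.mp hy.2 x hx
  have hJT : J ≤ T := by rw [hJe]; exact JQ_le _ _
  by_cases hAT : A ≤ T
  · have h1 : Je p A = J := by
      rw [hJe]
      exact JQ_eq_of_le (elab_bot p) hAT (by
        have : Je p (T : Subgroup H) ≤ A := by rw [← hJe]; exact hJA
        exact this)
    have h2 : normalizer (J : Set H) = ⊤ := by
      rw [eq_top_iff, ← normalizer_eq_top (H := A), ← h1]
      exact normalizer_le_Je p A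
    rw [h2] at hJ
    exact CfsgLib.TransPC.hasNPC_of_mulEquiv Subgroup.topEquiv hJ
  have hTA : (T : Subgroup H) ⊔ A = ⊤ := by
    apply hT.2
    rw [left_lt_sup]
    exact hAT
  -- `Ω₁(Z(T))` is central
  have hcent : ∀ x ∈ (T : Subgroup H), x ∈ centralizer (T : Set H) → x ^ p = 1 → x ∈ center H := by
    intro x hx hxc hxp
    have hxV : x ∈ V := mem_centerThompsonOf hx hxc hxp
    have h1 : (T : Subgroup H) ⊔ A ≤ centralizer {x} := by
      apply sup_le
      · intro t ht
        exact mem_centralizer_singleton_iff.mpr (mem_centralizer_iff.mp hxc t ht)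
      · intro a ha
        exact mem_centralizer_singleton_iff.mpr (mem_centralizer_iff.mp ha x hxV).symm
    rw [hTA] at h1
    rw [Subgroup.mem_center_iff]
    intro g
    exact mem_centralizer_singleton_iff.mp (h1 (mem_top g))
  -- the normal subgroup `K`
  obtain ⟨k, hk⟩ := hnpc_iff_pPrimeCore.1 hq
  set K' := pPrimeCore p (H ⧸ O) with hK'
  have hK'c : (Nat.card K').Coprime p := pPrimeCore_coprime p
  set K := K'.comap (QuotientGroup.mk' O) with hK
  haveI hKn : K.Normal := (inferInstance : K'.Normal).comap _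
  have hOK : O ≤ K := by
    intro x hx
    rw [hK, mem_comap, QuotientGroup.mk'_apply, (QuotientGroup.eq_one_iff x).mpr hx]
    exact one_mem _
  have hKi : K.index = p ^ k := by
    rw [hK, index_comap_of_surjective _ (QuotientGroup.mk'_surjective O), hk]
  have hTK : (T : Subgroup H) ⊔ K = ⊤ := by
    rw [← index_eq_one]
    have h1 : ((T : Subgroup H) ⊔ K).index ∣ p ^ k := by
      rw [← hKi]; exact index_dvd_of_le le_sup_right
    have h2 : ((T : Subgroup H) ⊔ K).index ∣ (T : Subgroup H).index := index_dvd_of_le le_sup_left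
    obtain ⟨j, -, hj⟩ := (Nat.dvd_prime_pow hp.out).mp h1
    rcases Nat.eq_zero_or_pos j with h0 | h0
    · rw [hj, h0, pow_zero]
    · exfalso
      apply T.not_dvd_index
      refine Dvd.dvd.trans ?_ h2
      rw [hj]; exact dvd_pow_self p h0.ne'
  have hOi : O.relIndex K = Nat.card K' := by
    have h1 : O.relIndex K = Nat.card (K.map (QuotientGroup.mk' O)) := by
      rw [← relIndex_ker, QuotientGroup.ker_mk']
    rw [h1, hK, map_comap_eq_self_of_surjective (QuotientGroup.mk'_surjective O)]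
  obtain ⟨B, hBK, hBc, hB1, hB2⟩ := sz_exists hOK (by rw [normalizer_eq_top]; exact le_top) (by
    obtain ⟨n, hn⟩ := IsPGroup.iff_card.mp hOp
    rw [hn, hOi]
    exact (Nat.Coprime.pow_right n hK'c).symm)
  -- `Z = Z(O)`
  set Z := O ⊓ centralizer (O : Set H) with hZd
  haveI hZn : Z.Normal := inferInstance
  have hZO : Z ≤ O := inf_le_left
  have hZcomm : ∀ x ∈ Z, ∀ y ∈ Z, x * y = y * x := center_comm O
  haveI hZm : IsMulCommutative Z := mulComm_of_comm hZcomm
  have hZp : IsPGroup p Z := hOp.to_le hZO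
  have hZB : ⁅Z, B⁆ = ⁅Z, K⁆ := by
    apply le_antisymm (commutator_mono le_rfl hBK)
    rw [commutator_le]
    intro z hz y hy
    rw [← hB2, mem_sup_of_normal_left] at hy
    obtain ⟨o, ho, b, hb, rfl⟩ := hy
    have h1 : z * o = o * z := (mem_centralizer_iff.mp hz.2 o ho).symm
    have h3 : z⁻¹ * o = o * z⁻¹ := (mem_centralizer_iff.mp (inv_mem hz).2 o ho).symm
    have h4 : b * z * b⁻¹ ∈ Z := hZn.conj_mem z hz b
    have h5 : (b * z⁻¹ * b⁻¹) * o = o * (b * z⁻¹ * b⁻¹) := by
      have := hZn.conj_mem z⁻¹ (inv_mem hz) b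
      exact (mem_centralizer_iff.mp this.2 o ho).symm
    have h2 : ⁅z, o * b⁆ = ⁅z, b⁆ := by
      rw [commutatorElement_def, commutatorElement_def]
      calc z * (o * b) * z⁻¹ * (o * b)⁻¹ = (z * o) * (b * z⁻¹ * b⁻¹) * o⁻¹ := by group
        _ = (o * z) * (b * z⁻¹ * b⁻¹) * o⁻¹ := by rw [h1]
        _ = o * z * ((b * z⁻¹ * b⁻¹) * o⁻¹) := by group
        _ = o * z * (o⁻¹ * (b * z⁻¹ * b⁻¹)) := by
            congr 1
            rw [eq_inv_mul_iff_mul_eq, ← mul_assoc, ← h5, mul_inv_cancel_right]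
        _ = (o * z * o⁻¹) * (b * z⁻¹ * b⁻¹) := by group
        _ = z * b * z⁻¹ * b⁻¹ := by rw [← h1]; group
    rw [h2]
    exact commutator_mem_commutator hz hb
  have hZBn : B ≤ normalizer (Z : Set H) := by rw [normalizer_eq_top]; exact le_top
  have hBcop : (Nat.card B).Coprime (Nat.card Z) := by
    obtain ⟨n, hn⟩ := IsPGroup.iff_card.mp hZp
    rw [hn, hBc, hOi]
    exact Nat.Coprime.pow_right n hK'c
  have hW : ⁅Z, K⁆ = ⊥ := by
    by_contra hne
    haveI : (⁅Z, K⁆ : Subgroup H).Normal := inferInstance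
    have hWZ : ⁅Z, K⁆ ≤ Z := commutator_le_left Z K
    have hWT : ⁅Z, K⁆ ≤ (T : Subgroup H) := hWZ.trans (hZO.trans hOT)
    have h1 := CfsgLib.BGPi.nilpotent_inf_center (H := ⁅Z, K⁆) (N := (T : Subgroup H)) T.isPGroup'.isNilpotent hWT
      (by rw [normalizer_eq_top]; exact le_top) hne
    set X := ⁅Z, K⁆ ⊓ centralizer ((T : Subgroup H) : Set H) with hX
    have hXp : IsPGroup p X := T.isPGroup'.to_le (inf_le_left.trans hWT)
    haveI : Nontrivial X := (nontrivial_iff_ne_bot X).mpr h1
    obtain ⟨x, hx⟩ := exists_prime_orderOf_dvd_card' (G := X) p (by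
      obtain ⟨n, hn⟩ := IsPGroup.iff_card.mp hXp
      rw [hn]
      apply dvd_pow_self
      rintro rfl
      rw [pow_zero] at hn
      exact h1 (card_eq_one.mp hn))
    have hxp : (x : H) ^ p = 1 := by
      have : x ^ p = 1 := by rw [← hx]; exact pow_orderOf_eq_one x
      exact congrArg Subtype.val this
    have h2 : (x : H) ∈ center H := hcent x (hWT x.2.1) x.2.2 hxp
    have h3 : (x : H) ∈ (Z ⊓ centralizer (B : Set H)) ⊓ ⁅Z, B⁆ := by
      refine ⟨⟨hWZ x.2.1, Subgroup.center_le_centralizer _ h2⟩, ?_⟩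
      rw [hZB]; exact x.2.1
    rw [CfsgLib.SolvCoprime.centralizer_inf_commutator B Z hZBn hBcop, mem_bot] at h3
    have h4 : x = 1 := Subtype.ext h3
    rw [h4, orderOf_one] at hx
    exact hp.out.one_lt.ne hx
  -- everything centralizes `Z(T)`
  have hZT : (T : Subgroup H) ⊓ centralizer (T : Set H) ≤ Z := by
    have h1 : (T : Subgroup H) ⊓ centralizer (T : Set H) ≤ centralizer (O : Set H) :=
      inf_le_right.trans (centralizer_le (SetLike.coe_subset_coe.mpr hOT))
    exact le_inf (h1.trans hc) h1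
  have hfin : centralizer (((T : Subgroup H) ⊓ centralizer (T : Set H) : Subgroup H) : Set H) = ⊤ := by
    rw [eq_top_iff, ← hTK]
    apply sup_le
    · rw [le_centralizer_iff]
      exact inf_le_right
    · rw [commutator_comm, commutator_eq_bot_iff_le_centralizer] at hW
      exact hW.trans (centralizer_le (SetLike.coe_subset_coe.mpr hZT))
  rw [hfin] at hZ
  exact CfsgLib.TransPC.hasNPC_of_mulEquiv Subgroup.topEquiv hZ

theorem thompson_npc {G : Type u} [Group G] [Finite G] {p : ℕ} [hp : Fact p.Prime] (hp2 : p ≠ 2) (P : Sylow p G)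
    (h1 : HasNormalPComplement p ↥(normalizer (thompsonSubgroupOf p (P : Subgroup G) : Set G)))
    (h2 : HasNormalPComplement p ↥(centralizer (((P : Subgroup G) ⊓ centralizer (P : Set G) : Subgroup G) : Set G))) :
    HasNormalPComplement p G := by
  refine npc_min2 (charp_WJ p) (charp_WZ p) _ G le_rfl ?_ P ?_ ?_
  · intro H _ _ _ T hc hq hT hJ hZ
    rw [induced_WJ] at hJ
    rw [induced_WZ] at hZ
    exact final hp2 T hc hq hT hJ hZ
  · exact h1
  · rw [induced_WZ]; exact h2

end CfsgLib.H2Npc3
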