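import Cfsg.Agent.EqBase
import Cfsg.Agent.LibH2SL3
import Cfsg.Agent.LibPSolv19
import Cfsg.Agent.LibSolvCoprime3
import Cfsg.Agent.LibH2PSt2
import Cfsg.Agent.LibH2Loc
set_option autoImplicit false
namespace CfsgLib.H2SL3b
open Subgroup Cfsg MulAction CfsgLib.H2Rep CfsgLib.H2SL2 CfsgLib.H2SL3
open CfsgLib.SecH12 (IsSec)
open CfsgLib.Cores CfsgLib.H2Loc CfsgLib.H2PSt CfsgLib.H2PSt2 CfsgLib.PSolv19
open scoped Pointwise commutatorElement MatrixGroups

universe u v

variable {K : Type v} [Field K] {G : Type u} [Group G]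

theorem sec_of_hom {f : G →* SL(2, K)} {ψ : SL(2, ZMod 3) →* SL(2, K)} (hψ : Function.Injective ψ)
    (hr : ψ.range ≤ f.range) : IsSec SL(2, ZMod 3) G := by
  refine ⟨(ψ.range).comap f, (MonoidHom.ofInjective hψ).symm.toMonoidHom.comp (f.subgroupComap ψ.range), ?_⟩
  intro y
  obtain ⟨x, hx⟩ := hr ⟨y, rfl⟩
  refine ⟨⟨x, by rw [mem_comap, hx]; exact ⟨y, rfl⟩⟩, ?_⟩
  apply (MonoidHom.ofInjective hψ).injective
  change (MonoidHom.ofInjective hψ) ((MonoidHom.ofInjective hψ).symm _) = _
  rw [MulEquiv.apply_symm_apply]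
  exact Subtype.ext hx

theorem trace_cases {z : SL(2, K)} (h2 : (2 : K) ≠ 0) (h : z * z = 1 ∨ z * z = -1) :
    (Matrix.trace (z : M2 K) = 2 ∧ z = 1) ∨ (Matrix.trace (z : M2 K) = -2 ∧ z = -1) ∨
      Matrix.trace (z : M2 K) = 0 := by
  rcases h with h | h
  · rcases eq_one_or_neg_one h h2 with rfl | rfl
    · left
      refine ⟨?_, rfl⟩
      rw [Matrix.SpecialLinearGroup.coe_one, Matrix.trace_one, Fintype.card_fin]
      norm_num
    · right; left
      refine ⟨?_, rfl⟩
      rw [Matrix.SpecialLinearGroup.coe_neg, Matrix.SpecialLinearGroup.coe_one, Matrix.trace_neg,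
        Matrix.trace_one, Fintype.card_fin]
      norm_num
  · right; right
    have h1 : z⁻¹ = -z := by
      rw [inv_eq_iff_mul_eq_one, mul_neg, h, neg_neg]
    have h3 := adj_add z
    rw [h1, Matrix.SpecialLinearGroup.coe_neg, add_neg_cancel] at h3
    have h4 := congrFun (congrFun h3 0) 0
    simpa using h4.symm

theorem two_group_min [Finite G] {p : ℕ} [hp : Fact p.Prime] [CharP K p] (hp2 : p ≠ 2) {f : G →* SL(2, K)}
    (hf : Function.Injective f) {α : G} (hα : α ^ p = 1) {R : Subgroup G} (hR : IsPGroup 2 R)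
    (hαR : α ∈ normalizer (R : Set G)) (hne : α ∉ centralizer (R : Set G))
    (hmin : ∀ S : Subgroup G, S < R → α ∈ normalizer (S : Set G) → α ∈ centralizer (S : Set G)) :
    p = 3 ∧ IsSec SL(2, ZMod 3) G := by
  haveI : Fact (Nat.Prime 2) := ⟨Nat.prime_two⟩
  have h2p : (2 : ℕ).Coprime p := (Nat.coprime_primes Nat.prime_two hp.out).mpr (Ne.symm hp2)
  have h2K : (2 : K) ≠ 0 := by exact_mod_cast cast_ne_zero (K := K) h2p
  have h4K : (4 : K) ≠ 0 := by
    have : (4 : K) = 2 * 2 := by norm_num
    rw [this]; exact mul_ne_zero h2K h2K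
  have hα1 : f α ≠ 1 := by
    intro h
    have : α = 1 := hf (by rw [h, map_one])
    rw [this] at hne
    exact hne (one_mem _)
  have hfα : f α ^ p = 1 := by rw [← map_pow, hα, map_one]
  set Φ := (frattini R).map R.subtype with hΦ
  have hΦR : Φ < R := by
    refine lt_of_le_of_ne (map_subtype_le _) ?_
    intro h
    have h1 : frattini R = ⊤ := by
      apply Subgroup.map_injective R.subtype_injective
      rw [← hΦ, h, ← MonoidHom.range_eq_map, range_subtype]
    have h2 : (⊥ : Subgroup R) = ⊤ := frattini_nongenerating (by rw [h1, bot_sup_eq])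
    have h3 : R = ⊥ := by
      have := congrArg (Subgroup.map R.subtype) h2
      rw [Subgroup.map_bot, ← MonoidHom.range_eq_map, range_subtype] at this
      exact this.symm
    apply hne
    rw [h3, mem_centralizer_iff]
    intro y hy
    rw [SetLike.mem_coe, mem_bot] at hy
    rw [hy, one_mul, mul_one]
  have hΦα : α ∈ normalizer (Φ : Set G) :=
    (CfsgLib.SolvCoprime.normalizer_le_normalizer_of_char (frattini R)) hαR
  have hΦc := hmin Φ hΦR hΦα
  have hsq : ∀ x ∈ R, x ^ 2 ∈ Φ := fun x hx =>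
    ⟨(⟨x, hx⟩ : R) ^ 2, CfsgLib.SolvFrat.pow_mem_frattini Nat.prime_two hR ⟨x, hx⟩, rfl⟩
  have hT : ∀ x ∈ R, (Matrix.trace (f x : M2 K) = 2 ∧ f x = 1) ∨ (Matrix.trace (f x : M2 K) = -2 ∧ f x = -1) ∨
      Matrix.trace (f x : M2 K) = 0 := by
    intro x hx
    apply trace_cases h2K
    have h1 : Commute (f (x ^ 2)) (f α) := by
      have := mem_centralizer_iff.mp hΦc (x ^ 2) (hsq x hx)
      change f (x ^ 2) * f α = f α * f (x ^ 2)
      rw [← map_mul, ← map_mul, this]
    obtain ⟨k, hk⟩ := hR ⟨x, hx⟩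
    have hk' : x ^ 2 ^ k = 1 := congrArg Subtype.val hk
    have h2 := eq_one_or_neg_one_of_commute hp2 hα1 hfα h1 (m := 2 ^ k) (Nat.Coprime.pow_left k h2p) (by
      rw [← map_pow, ← pow_mul, mul_comm, pow_mul, hk', one_pow, map_one])
    rwa [map_pow, pow_two] at h2
  obtain ⟨x, hxR, hxα⟩ : ∃ x ∈ R, x * α ≠ α * x := by
    by_contra hcon
    push Not at hcon
    exact hne (mem_centralizer_iff.mpr hcon)
  set b := x * α * x⁻¹ with hb
  have hbp : b ^ p = 1 := by rw [hb, conj_pow, hα, mul_one, mul_inv_cancel]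
  have hfb : f b ^ p = 1 := by rw [← map_pow, hbp, map_one]
  have hr1 : α⁻¹ * b ∈ R := by
    have h1 : α⁻¹ * x * α ∈ R := (mem_normalizer_iff''.mp hαR x).mp hxR
    have h2 : α⁻¹ * b = (α⁻¹ * x * α) * x⁻¹ := by rw [hb]; group
    rw [h2]
    exact mul_mem h1 (inv_mem hxR)
  have hr2 : α⁻¹ * α⁻¹ * (b * b) ∈ R := by
    have h1 : α⁻¹ * x * α ∈ R := (mem_normalizer_iff''.mp hαR x).mp hxR
    have h3 : α⁻¹ * (α⁻¹ * x * α) * α ∈ R := (mem_normalizer_iff''.mp hαR _).mp h1
    have h2 : α⁻¹ * α⁻¹ * (b * b) = (α⁻¹ * (α⁻¹ * x * α) * α) * x⁻¹ := by rw [hb]; group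
    rw [h2]
    exact mul_mem h3 (inv_mem hxR)
  obtain ⟨n2, nt, nd⟩ := unip hfα
  obtain ⟨m2, mt, md⟩ := unip hfb
  set n := (f α : M2 K) - 1 with hn
  set m := (f b : M2 K) - 1 with hm
  have eα : (f α : M2 K) = 1 + n := by rw [hn]; abel
  have eb : (f b : M2 K) = 1 + m := by rw [hm]; abel
  have einv : ((f α⁻¹ : SL(2, K)) : M2 K) = 1 - n := by
    have h1 : ((f α⁻¹ : SL(2, K)) : M2 K) * (f α : M2 K) = 1 := by
      rw [← Matrix.SpecialLinearGroup.coe_mul, ← map_mul, inv_mul_cancel, map_one,
        Matrix.SpecialLinearGroup.coe_one]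
    have h2 : (f α : M2 K) * (1 - n) = 1 := by
      rw [eα, mul_sub, mul_one, add_mul, one_mul, n2]; abel
    calc ((f α⁻¹ : SL(2, K)) : M2 K) = ((f α⁻¹ : SL(2, K)) : M2 K) * ((f α : M2 K) * (1 - n)) := by rw [h2, mul_one]
      _ = 1 - n := by rw [← mul_assoc, h1, one_mul]
  set c := (n * m).trace with hc
  have ht1 : Matrix.trace (1 : M2 K) = 2 := by
    rw [Matrix.trace_one, Fintype.card_fin]; norm_num
  have htr1 : Matrix.trace ((f (α⁻¹ * b) : SL(2, K)) : M2 K) = 2 - c := by
    rw [map_mul, Matrix.SpecialLinearGroup.coe_mul, einv, eb]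
    have : (1 - n) * (1 + m) = 1 + m - n - n * m := by noncomm_ring
    rw [this, Matrix.trace_sub, Matrix.trace_sub, Matrix.trace_add, ht1, nt, mt, ← hc]
    ring
  have htr2 : Matrix.trace ((f (α⁻¹ * α⁻¹ * (b * b)) : SL(2, K)) : M2 K) = 2 - 4 * c := by
    rw [map_mul, map_mul, map_mul, Matrix.SpecialLinearGroup.coe_mul, Matrix.SpecialLinearGroup.coe_mul,
      Matrix.SpecialLinearGroup.coe_mul, einv, eb]
    have h1 : (1 - n) * (1 - n) = 1 - n - n := by
      have : (1 - n) * (1 - n) = 1 - n - n + n * n := by noncomm_ring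
      rw [this, n2, add_zero]
    have h2 : (1 + m) * (1 + m) = 1 + m + m := by
      have : (1 + m) * (1 + m) = 1 + m + m + m * m := by noncomm_ring
      rw [this, m2, add_zero]
    rw [h1, h2]
    have : (1 - n - n) * (1 + m + m) = 1 + m + m - n - n - n * m - n * m - n * m - n * m := by noncomm_ring
    rw [this]
    simp only [Matrix.trace_sub, Matrix.trace_add, ht1, nt, mt, ← hc]
    ring
  have hc2 : c = 2 := by
    rcases hT _ hr1 with ⟨h1, h2⟩ | ⟨h1, h2⟩ | h1
    · exfalso
      have h3 : α⁻¹ * b = 1 := hf (by rw [h2, map_one])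
      have h4 : b = α := by rwa [inv_mul_eq_one, eq_comm] at h3
      apply hxα
      rw [hb, mul_inv_eq_iff_eq_mul] at h4
      exact h4
    · exfalso
      have h3 : f b = - f α := by
        rw [map_mul, map_inv, inv_mul_eq_iff_eq_mul] at h2
        rw [h2, mul_neg, mul_one]
      have h4 : (f b : M2 K).trace = 2 := by rw [eb, Matrix.trace_add, ht1, mt, add_zero]
      have h5 : (f α : M2 K).trace = 2 := by rw [eα, Matrix.trace_add, ht1, nt, add_zero]
      rw [h3, Matrix.SpecialLinearGroup.coe_neg, Matrix.trace_neg, h5] at h4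
      apply h4K
      linear_combination (-1 : K) * h4
    · rw [htr1] at h1
      linear_combination (-1 : K) * h1
  have h3K : (3 : K) = 0 := by
    rcases hT _ hr2 with ⟨h1, -⟩ | ⟨h1, -⟩ | h1
    · exfalso
      rw [htr2, hc2] at h1
      have : (2 : K) * 4 = 0 := by linear_combination (-1 : K) * h1
      exact mul_ne_zero h2K h4K this
    · exfalso
      rw [htr2, hc2] at h1
      apply h4K
      linear_combination (-1 : K) * h1
    · rw [htr2, hc2] at h1
      have : (2 : K) * 3 = 0 := by linear_combination (-1 : K) * h1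
      exact (mul_eq_zero.mp this).resolve_left h2K
  have hp3 : p = 3 := by
    have h1 : ((3 : ℕ) : K) = 0 := by exact_mod_cast h3K
    rw [CharP.cast_eq_zero_iff K p] at h1
    exact (Nat.prime_dvd_prime_iff_eq hp.out Nat.prime_three).mp h1
  refine ⟨hp3, ?_⟩
  subst hp3
  obtain ⟨ψ, hψ, hr⟩ := exists_hom n2 m2 mt md (by rw [← hc, hc2]; linear_combination h3K)
  apply sec_of_hom hψ (f := f)
  rw [hr, Subgroup.closure_le]
  rintro y (rfl | rfl)
  · exact ⟨α, rfl⟩
  · exact ⟨b, rfl⟩

theorem two_group [Finite G] {p : ℕ} [hp : Fact p.Prime] [CharP K p] (hp2 : p ≠ 2) {f : G →* SL(2, K)}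
    (hf : Function.Injective f) {α : G} (hα : α ^ p = 1) :
    ∀ (n : ℕ) (R : Subgroup G), Nat.card R ≤ n → IsPGroup 2 R →
    α ∈ normalizer (R : Set G) → α ∉ centralizer (R : Set G) → p = 3 ∧ IsSec SL(2, ZMod 3) G := by
  intro n
  induction n with
  | zero =>
    intro R hn
    have : 0 < Nat.card R := Nat.card_pos
    omega
  | succ n ih =>
    intro R hn hR hαR hne
    by_cases hmin : ∀ S : Subgroup G, S < R → α ∈ normalizer (S : Set G) → α ∈ centralizer (S : Set G)
    · exact two_group_min hp2 hf hα hR hαR hne hmin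
    · push Not at hmin
      obtain ⟨S, hSR, hS1, hS2⟩ := hmin
      refine ih S ?_ (hR.to_le hSR.le) hS1 hS2
      have : Nat.card S < Nat.card R := by
        apply lt_of_le_of_ne (card_le_of_le hSR.le)
        intro h
        exact hSR.ne (eq_of_le_of_card_ge hSR.le h.ge)
      omega

/-- an element of order `p` of a finite subgroup of `SL(2, K)` acting nontrivially on a `p'`-subgroup. -/
theorem sl23_of_pPrime [Finite G] {p : ℕ} [hp : Fact p.Prime] [CharP K p] (hp2 : p ≠ 2) {f : G →* SL(2, K)}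
    (hf : Function.Injective f) {α : G} (hα : α ^ p = 1) {Q : Subgroup G} (hQ : (Nat.card Q).Coprime p)
    (hαQ : α ∈ normalizer (Q : Set G)) (hne : α ∉ centralizer (Q : Set G)) : p = 3 ∧ IsSec SL(2, ZMod 3) G := by
  by_contra hcon
  apply hne
  set A := zpowers α with hA
  have hAcard : Nat.card A ∣ p := by
    rw [hA, Nat.card_zpowers]
    exact orderOf_dvd_of_pow_eq_one hα
  have hcop : (Nat.card A).Coprime (Nat.card Q) := Nat.Coprime.coprime_dvd_left hAcard hQ.symm
  have hAs : Group.IsSolvable A := by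
    infer_instance
  have hAQ : A ≤ normalizer (Q : Set G) := zpowers_le.mpr hαQ
  set D := Q ⊓ centralizer (A : Set G) with hD
  have key : ∀ r : ℕ, (hr : Fact r.Prime) → ∃ P : Sylow r Q, (P : Subgroup Q).map Q.subtype ≤ D := by
    intro r hr
    obtain ⟨P, hP⟩ := CfsgLib.Coprime.exists_invariant_sylow hAQ hcop (Or.inl hAs) r
    refine ⟨P, le_inf (map_subtype_le _) ?_⟩
    set P' := (P : Subgroup Q).map Q.subtype with hP'
    have hP'r : IsPGroup r P' := P.isPGroup'.map _
    have hαP : α ∈ normalizer (P' : Set G) := hP (mem_zpowers α)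
    have hP'c : (Nat.card P').Coprime p :=
      Nat.Coprime.coprime_dvd_left (card_dvd_of_le (map_subtype_le _)) hQ
    have h1 : α ∈ centralizer (P' : Set G) := by
      by_cases hr2 : r = 2
      · subst hr2
        by_contra h
        exact hcon (two_group hp2 hf hα _ P' le_rfl hP'r hαP h)
      · have h2p : (2 : ℕ).Coprime p := (Nat.coprime_primes Nat.prime_two hp.out).mpr (Ne.symm hp2)
        have h2K : (2 : K) ≠ 0 := by exact_mod_cast cast_ne_zero (K := K) h2p
        have hcomm := mulComm_of_odd h2K hf hr2 hP'r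
        refine mem_centralizer_of_odd hf hcomm hP'c hαP (s := p) (hp.out.odd_of_ne_two hp2) ?_
        rw [hα]; exact one_mem _
    rw [le_centralizer_iff]
    exact zpowers_le.mpr h1
  have hle : Nat.card Q ≤ Nat.card D := by
    apply Nat.le_of_dvd Nat.card_pos
    rw [← Nat.factorization_prime_le_iff_dvd Nat.card_pos.ne' Nat.card_pos.ne']
    intro r hr
    haveI : Fact r.Prime := ⟨hr⟩
    obtain ⟨P, hP⟩ := key r ⟨hr⟩
    have h1 := card_dvd_of_le hP
    rw [Nat.card_congr ((P : Subgroup Q).equivMapOfInjective _ Q.subtype_injective).symm.toEquiv,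
      P.card_eq_multiplicity] at h1
    exact (hr.pow_dvd_iff_le_factorization Nat.card_pos.ne').mp h1
  have h1 : D = Q := eq_of_le_of_card_ge inf_le_left hle
  have h2 : Q ≤ centralizer (A : Set G) := by rw [← h1]; exact inf_le_right
  rw [le_centralizer_iff] at h2
  exact h2 (mem_zpowers α)


/-- in a `p`-solvable group with `O_p(G) = 1` the `p'`-core contains its centralizer. -/
theorem dual_hall_higman [Finite G] {p : ℕ} [hp : Fact p.Prime] (h : IsPSolvable p G) (hO : pCore p G = ⊥) :
    centralizer (pPrimeCore p G : Set G) ≤ pPrimeCore p G := by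
  set Q := pPrimeCore p G with hQ
  set C := centralizer (Q : Set G) with hC
  by_contra hcon
  set π := QuotientGroup.mk' Q with hπ
  have hπs : Function.Surjective π := QuotientGroup.mk'_surjective Q
  haveI : C.Normal := inferInstance
  haveI hC'n : (C.map π).Normal := (inferInstance : C.Normal).map π hπs
  have hC'b : C.map π ≠ ⊥ := by
    intro h1
    apply hcon
    rw [Subgroup.map_eq_bot_iff, QuotientGroup.ker_mk'] at h1
    exact h1
  obtain ⟨K', hK'n, hK'b, hK'C, hmin⟩ := exists_min (C.map π) hC'b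
  haveI := hK'n
  rcases psolv_minNormal (psolv_quotient hp.out h Q) hK'n hK'b hmin with hK'p | hK'p
  · set K := K'.comap π ⊓ C with hK
    haveI : K.Normal := inferInstance
    have hKm : K.map π = K' := by
      apply le_antisymm
      · rintro _ ⟨x, hx, rfl⟩
        exact hx.1
      · intro y hy
        obtain ⟨c, hc, rfl⟩ := hK'C hy
        exact ⟨c, ⟨hy, hc⟩, rfl⟩
    obtain ⟨P⟩ : Nonempty (Sylow p K) := inferInstance
    have hZc : Q.subgroupOf K ≤ center K := by
      intro z hz
      rw [Subgroup.mem_center_iff]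
      intro k
      apply Subtype.ext
      exact (mem_centralizer_iff.mp k.2.2 z hz).symm
    have hZi : ∃ j, (Q.subgroupOf K).index = p ^ j := by
      obtain ⟨j, hj⟩ := IsPGroup.iff_card.mp hK'p
      refine ⟨j, ?_⟩
      have h1 : Q.relIndex K = Nat.card (K.map π) := by
        rw [← relIndex_ker, QuotientGroup.ker_mk']
      rw [← hj, ← hKm, ← h1]
      rfl
    obtain ⟨j, hj⟩ := hZi
    have hPn : (P : Subgroup K).Normal := by
      rw [← normalizer_eq_top_iff, ← index_eq_one]
      have h1 : (normalizer ((P : Subgroup K) : Set K)).index ∣ p ^ j := by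
        rw [← hj]
        apply index_dvd_of_le
        exact hZc.trans (Subgroup.center_le_normalizer _)
      have h2 : (normalizer ((P : Subgroup K) : Set K)).index ∣ (P : Subgroup K).index :=
        index_dvd_of_le le_normalizer
      obtain ⟨i, -, hi⟩ := (Nat.dvd_prime_pow hp.out).mp h1
      rcases Nat.eq_zero_or_pos i with h0 | h0
      · rw [hi, h0, pow_zero]
      · exfalso
        apply P.not_dvd_index
        refine Dvd.dvd.trans ?_ h2
        rw [hi]; exact dvd_pow_self p h0.ne'
    haveI : (P : Subgroup K).Characteristic := P.characteristic_of_normal hPn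
    have hP'n : ((P : Subgroup K).map K.subtype).Normal := inferInstance
    have h1 : (P : Subgroup K).map K.subtype ≤ pCore p G := le_pCore hP'n (P.isPGroup'.map _)
    rw [hO, le_bot_iff, Subgroup.map_eq_bot_iff_of_injective _ K.subtype_injective] at h1
    have h2 : ¬ p ∣ Nat.card K := by
      intro hd
      have h3 := P.dvd_card_of_dvd_card hd
      rw [h1, card_bot] at h3
      exact hp.out.one_lt.ne' (Nat.dvd_one.mp h3)
    obtain ⟨i, hi⟩ := IsPGroup.iff_card.mp hK'p
    have h3 : Nat.card K' ∣ Nat.card K := by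
      rw [← hKm]
      exact card_map_dvd K π
    rw [hi] at h3
    rcases Nat.eq_zero_or_pos i with h0 | h0
    · rw [h0, pow_zero] at hi
      exact hK'b (card_eq_one.mp hi)
    · exact h2 ((dvd_pow_self p h0.ne').trans h3)
  · have h1 : K' ≤ pPrimeCore p (G ⧸ Q) :=
      le_pPrimeCore hK'n ((Nat.Prime.coprime_iff_not_dvd hp.out).mpr hK'p).symm
    rw [pPrimeCore_quotient_pPrimeCore, le_bot_iff] at h1
    exact hK'b h1

/-- groups generated by two commuting elements of order `p`. -/
theorem isPGroup_of_commute [Finite G] {p : ℕ} [hp : Fact p.Prime] {a b : G}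
    (hab : Subgroup.closure {a, b} = ⊤) (ha : a ^ p = 1) (hb : b ^ p = 1) (hc : a * b = b * a) : IsPGroup p G := by
  have hcen : center G = ⊤ := by
    rw [eq_top_iff, ← hab, Subgroup.closure_le]
    have h1 : ∀ c : G, c * a = a * c → c * b = b * c → c ∈ center G := by
      intro c h1 h2
      have h3 : Subgroup.closure {a, b} ≤ centralizer {c} := by
        rw [Subgroup.closure_le]
        rintro x (rfl | rfl)
        · exact mem_centralizer_singleton_iff.mpr h1.symm
        · exact mem_centralizer_singleton_iff.mpr h2.symm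
      rw [Subgroup.mem_center_iff]
      intro g
      exact mem_centralizer_singleton_iff.mp (h3 (by rw [hab]; trivial))
    rintro x (rfl | rfl)
    · exact h1 _ rfl hc
    · exact h1 _ hc.symm rfl
  intro g
  refine ⟨1, ?_⟩
  rw [pow_one]
  have hg : g ∈ Subgroup.closure {a, b} := by rw [hab]; trivial
  induction hg using Subgroup.closure_induction with
  | mem x hx =>
    rcases hx with rfl | rfl
    · exact ha
    · exact hb
  | one => exact one_pow p
  | mul x y _ _ hx hy =>
    have : Commute x y := by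
      have h1 : y ∈ center G := by rw [hcen]; trivial
      exact (Subgroup.mem_center_iff.mp h1 x)
    rw [this.mul_pow, hx, hy, one_mul]
  | inv x _ hx => rw [inv_pow, hx, inv_one]

theorem sl23_of_psolv [Finite G] {p : ℕ} [hp : Fact p.Prime] [CharP K p] (hp2 : p ≠ 2) {f : G →* SL(2, K)}
    (hf : Function.Injective f) (hs : IsPSolvable p G) {a b : G} (hab : Subgroup.closure {a, b} = ⊤)
    (ha : a ^ p = 1) (hb : b ^ p = 1) (hnp : ¬ IsPGroup p G) : p = 3 ∧ IsSec SL(2, ZMod 3) G := by
  have h2p : (2 : ℕ).Coprime p := (Nat.coprime_primes Nat.prime_two hp.out).mpr (Ne.symm hp2)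
  have h2K : (2 : K) ≠ 0 := by exact_mod_cast cast_ne_zero (K := K) h2p
  have h4K : (4 : K) ≠ 0 := by
    have : (4 : K) = 2 * 2 := by norm_num
    rw [this]; exact mul_ne_zero h2K h2K
  have hO : pCore p G = ⊥ := by
    by_contra hO
    set O := pCore p G with hOdef
    have hOp : IsPGroup p O := pCore_isPGroup p
    have h1 := center_ne_bot hOp hO
    set Z := O ⊓ centralizer (O : Set G) with hZ
    haveI hZn : Z.Normal := inferInstance
    have hZp : IsPGroup p Z := hOp.to_le inf_le_left
    obtain ⟨z, hz⟩ := exists_prime_orderOf_dvd_card' (G := Z) p (by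
      obtain ⟨n, hn⟩ := IsPGroup.iff_card.mp hZp
      rw [hn]
      apply dvd_pow_self
      rintro rfl
      rw [pow_zero] at hn
      exact h1 (card_eq_one.mp hn))
    have hzp : (z : G) ^ p = 1 := by
      have : z ^ p = 1 := by rw [← hz]; exact pow_orderOf_eq_one z
      exact congrArg Subtype.val this
    have hz1 : f z ≠ 1 := by
      intro h
      have h2 : (z : G) = 1 := hf (by rw [h, map_one])
      have h3 : z = 1 := Subtype.ext h2
      rw [h3, orderOf_one] at hz
      exact hp.out.one_lt.ne hz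
    have hfz : f z ^ p = 1 := by rw [← map_pow, hzp, map_one]
    have hz2 : f z ≠ -1 := by
      intro h
      have h3 := (unip hfz).2.1
      rw [h, Matrix.SpecialLinearGroup.coe_neg, Matrix.SpecialLinearGroup.coe_one, Matrix.trace_sub, Matrix.trace_neg,
        Matrix.trace_one, Fintype.card_fin] at h3
      apply h4K
      push_cast at h3
      linear_combination (-1 : K) * h3
    have key : ∀ c : G, c ^ p = 1 → Commute (f z) (f c) := by
      intro c hc
      have h3 : c * z * c⁻¹ ∈ Z := hZn.conj_mem z z.2 c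
      have h4 : (z : G) * (c * z * c⁻¹) = (c * z * c⁻¹) * z := (mem_centralizer_iff.mp h3.2 z z.2.1)
      have h5 : Commute (f z) (f c * f z * (f c)⁻¹) := by
        rw [← map_inv, ← map_mul, ← map_mul]
        change f z * f (c * z * c⁻¹) = f (c * z * c⁻¹) * f z
        rw [← map_mul, ← map_mul, h4]
      exact (commute_of_commute_conj hz1 hfz (by rw [← map_pow, hc, map_one]) h5).symm
    have h3 := comm_of_comm hz1 hz2 (key a ha) (key b hb)
    apply hnp
    apply isPGroup_of_commute hab ha hb
    apply hf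
    rw [map_mul, map_mul]
    exact h3
  have hne : a ∉ centralizer (pPrimeCore p G : Set G) := by
    intro h
    have h1 := dual_hall_higman hs hO h
    have h2 : (orderOf a).Coprime p := by
      have h3 : orderOf (⟨a, h1⟩ : pPrimeCore p G) ∣ Nat.card (pPrimeCore p G) := orderOf_dvd_natCard _
      rw [orderOf_mk] at h3
      exact Nat.Coprime.coprime_dvd_left h3 (pPrimeCore_coprime p)
    have h3 : a = 1 := by
      rw [← orderOf_eq_one_iff]
      exact Nat.eq_one_of_dvd_coprimes h2 dvd_rfl (orderOf_dvd_of_pow_eq_one ha)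
    apply hnp
    apply isPGroup_of_commute hab ha hb
    rw [h3, one_mul, mul_one]
  exact sl23_of_pPrime hp2 hf ha (pPrimeCore_coprime p) (by rw [normalizer_eq_top]; trivial) hne

/-- `p`-solvable groups with two quadratic generators. -/
theorem sl23_of_rep {H : Type u} [Group H] [Finite H] {p : ℕ} [hp : Fact p.Prime] (hp2 : p ≠ 2)
    (hs : IsPSolvable p H) {A : Type v} [AddCommGroup A]
    [Module (ZMod p) A] [Finite A] (ρ : Representation (ZMod p) H A) {a b y : H}
    (hab : Subgroup.closure {a, b} = ⊤)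
    (ha : ∀ w, ρ a (ρ a w - w) = ρ a w - w) (hb : ∀ w, ρ b (ρ b w - w) = ρ b w - w)
    (hy : (orderOf y).Coprime p) (hρy : ρ y ≠ 1) : p = 3 ∧ IsSec SL(2, ZMod 3) H := by
  set N := MonoidHom.ker ρ with hN
  let σ : Representation (ZMod p) (H ⧸ N) A := QuotientGroup.lift N ρ le_rfl
  have hσ : ∀ x : H, σ (QuotientGroup.mk' N x) = ρ x := fun x => rfl
  have hpow : ∀ x : H, (∀ w, ρ x (ρ x w - w) = ρ x w - w) → (QuotientGroup.mk' N x) ^ p = 1 := by
    intro x hx
    rw [← map_pow]
    apply (QuotientGroup.eq_one_iff _).mpr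
    rw [hN, MonoidHom.mem_ker, map_pow]
    exact quad_pow_eq_one (ρ x) hx
  have hy' : (orderOf (QuotientGroup.mk' N y)).Coprime p :=
    Nat.Coprime.coprime_dvd_left (orderOf_map_dvd _ y) hy
  obtain ⟨K, i1, i2, i3, φ, hφ⟩ := exists_sl2 σ (a := QuotientGroup.mk' N a) (b := QuotientGroup.mk' N b)
    (y := QuotientGroup.mk' N y)
    (closure_pair_map (QuotientGroup.mk' N) (QuotientGroup.mk'_surjective N) hab) ha hb hy' (pow_orderOf_eq_one _) hρy
  haveI : Finite φ.range := Finite.of_surjective _ φ.rangeRestrict_surjective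
  have hs' : IsPSolvable p φ.range :=
    psolv_of_surj hp.out φ.rangeRestrict φ.rangeRestrict_surjective (psolv_quotient hp.out hs N)
  have h1 := sl23_of_psolv (K := K) hp2 (f := φ.range.subtype) φ.range.subtype_injective hs'
    (a := φ.rangeRestrict (QuotientGroup.mk' N a)) (b := φ.rangeRestrict (QuotientGroup.mk' N b))
    (closure_pair_map φ.rangeRestrict φ.rangeRestrict_surjective
      (closure_pair_map (QuotientGroup.mk' N) (QuotientGroup.mk'_surjective N) hab))
    (by rw [← map_pow, hpow a ha, map_one]) (by rw [← map_pow, hpow b hb, map_one]) (by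
      intro hnp
      obtain ⟨j, hj⟩ := hnp (φ.rangeRestrict (QuotientGroup.mk' N y))
      have h4 : (φ (QuotientGroup.mk' N y)) ^ p ^ j = 1 := congrArg Subtype.val hj
      apply hφ
      rw [← orderOf_eq_one_iff]
      exact Nat.eq_one_of_dvd_coprimes (Nat.Coprime.pow_right j hy')
        ((orderOf_map_dvd φ _)) (orderOf_dvd_of_pow_eq_one h4))
  refine ⟨h1.1, h1.2.trans ?_⟩
  exact (IsSec.of_surjective φ.rangeRestrict φ.rangeRestrict_surjective).trans (IsSec.quotient N)

/-- `p`-solvable groups, `p ≥ 5`. -/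
theorem noQuad_of_psolv {H : Type u} [Group H] [Finite H] {p : ℕ} [hp : Fact p.Prime] (hp5 : 5 ≤ p)
    (hs : IsPSolvable p H) : NoQuad p H := by
  intro A _ _ _ ρ a b hab ha hb y hy
  by_contra hρ
  have h1 := sl23_of_rep (by omega) hs ρ hab ha hb hy hρ
  omega

theorem noQuad_all_of_psolv {G : Type u} [Group G] [Finite G] {p : ℕ} [hp : Fact p.Prime] (hp5 : 5 ≤ p)
    (hs : IsPSolvable p G) : ∀ H : Subgroup G, NoQuad p H := fun H =>
  noQuad_of_psolv hp5 (psolv_subgroup hp.out hs H)

theorem exists_quot_le {X : Type v} [Group X] {H : Subgroup G} (h : IsSec X H) :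
    ∃ (K L : Subgroup G) (_ : (L.subgroupOf K).Normal), K ≤ H ∧ Nonempty ((K ⧸ L.subgroupOf K) ≃* X) := by
  obtain ⟨L, f, hf⟩ := h
  set K := L.map H.subtype with hK
  let e : L ≃* K := L.equivMapOfInjective H.subtype H.subtype_injective
  let f' : K →* X := f.comp e.symm.toMonoidHom
  have hf' : Function.Surjective f' := hf.comp e.symm.surjective
  have e1 : (f'.ker.map K.subtype).subgroupOf K = f'.ker := by
    rw [Subgroup.subgroupOf, Subgroup.comap_map_eq_self_of_injective K.subtype_injective]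
  have hn : ((f'.ker.map K.subtype).subgroupOf K).Normal := by rw [e1]; infer_instance
  refine ⟨K, f'.ker.map K.subtype, hn, map_subtype_le _, ⟨?_⟩⟩
  exact (QuotientGroup.quotientMulEquivOfEq e1).trans (QuotientGroup.quotientKerEquivOfSurjective f' hf')

end CfsgLib.H2SL3b
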