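import Cfsg.Agent.EqBase
import Cfsg.Agent.LibH2SL3b
import Cfsg.Agent.LibH2Act
import Cfsg.Agent.S0601
import Cfsg.Agent.S0608
set_option autoImplicit false
namespace CfsgLib.H2SL3c
open Subgroup Cfsg MulAction CfsgLib.Cores CfsgLib.Coprime CfsgLib.H2Misc CfsgLib.H2Solv CfsgLib.H2Subn CfsgLib.H2Quad CfsgLib.H2Gen CfsgLib.H2Gen2 CfsgLib.H2Thomp CfsgLib.H2Lift CfsgLib.H2PG CfsgLib.H2Repl CfsgLib.H2Glaub CfsgLib.H2ZJ CfsgLib.H2Stab CfsgLib.H2Loc CfsgLib.H2PSt CfsgLib.H2PSt2 CfsgLib.H2ZJe CfsgLib.H2Npc CfsgLib.H2Wst CfsgLib.H2Act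
open CfsgLib.H2Rep CfsgLib.H2SL2 CfsgLib.H2SL3 CfsgLib.H2SL3b CfsgLib.PSolv19 CfsgLib.H2Baer
open CfsgLib.SecH12 (IsSec)
open scoped Pointwise commutatorElement MatrixGroups

universe u v
variable {G : Type u} [Group G]

/-- two quadratic generators, one acting nontrivially on a normal `p'`-subgroup. -/
theorem two_quad_pPrime [Finite G] {p : ℕ} [hp : Fact p.Prime] (hp2 : p ≠ 2) {V H : Subgroup G}
    (hV : IsElementaryAbelian p V) (hHV : H ≤ normalizer (V : Set G)) (hf : H ⊓ centralizer (V : Set G) = ⊥)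
    {a b : G} (hab : H = Subgroup.closure {a, b}) (ha : ⁅⁅V, zpowers a⁆, zpowers a⁆ = ⊥)
    (hb : ⁅⁅V, zpowers b⁆, zpowers b⁆ = ⊥) {Q : Subgroup G} (hQH : Q ≤ H)
    (hQn : H ≤ normalizer (Q : Set G)) (hQ : (Nat.card Q).Coprime p) (hQa : ⁅Q, zpowers a⁆ ≠ ⊥) :
    p = 3 ∧ IsSec SL(2, ZMod 3) H := by
  obtain ⟨A, i1, i2, i3, ρ, hρq, hρ1⟩ := exists_rep hV hHV
  have haH : a ∈ H := by rw [hab]; exact Subgroup.subset_closure (by simp)
  have hbH : b ∈ H := by rw [hab]; exact Subgroup.subset_closure (by simp)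
  have hpow : a ^ p = 1 := by
    have h1 : a ^ p ∈ H ⊓ centralizer (V : Set G) :=
      ⟨pow_mem haH p, quad_pow_mem hV (zpowers_le.mpr (hHV haH)) ha (mem_zpowers a)⟩
    rw [hf] at h1
    exact mem_bot.mp h1
  set a' : H := ⟨a, haH⟩ with ha'
  set Q' : Subgroup H := Q.subgroupOf H with hQ'
  have hQ'm : Q'.map H.subtype = Q := map_subgroupOf_eq_of_le hQH
  have hcm : (⁅Q', zpowers a'⁆).map H.subtype = ⁅Q, zpowers a⁆ := by
    rw [map_commutator, hQ'm, MonoidHom.map_zpowers]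
    rfl
  have hne : ⁅Q', zpowers a'⁆ ≠ ⊥ := by
    intro h
    apply hQa
    rw [← hcm, h, Subgroup.map_bot]
  have haQ : a' ∈ normalizer (Q' : Set H) := by
    haveI : Q'.Normal := (normal_subgroupOf_iff_le_normalizer hQH).mpr hQn
    rw [normalizer_eq_top]; trivial
  have hcQ : ⁅Q', zpowers a'⁆ ≤ Q' := commutator_le_of_le_normalizer (zpowers_le.mpr haQ)
  have hQ'c : (Nat.card Q').Coprime p := by
    rw [Nat.card_congr (subgroupOfEquivOfLe hQH).toEquiv]; exact hQ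
  obtain ⟨⟨y, hy⟩, hy1⟩ := (Subgroup.ne_bot_iff_exists_ne_one).mp hne
  have hy1' : y ≠ 1 := fun h => hy1 (Subtype.ext h)
  have hyo : (orderOf y).Coprime p := by
    have h3 : orderOf (⟨y, hcQ hy⟩ : Q') ∣ Nat.card Q' := orderOf_dvd_natCard _
    rw [orderOf_mk] at h3
    exact Nat.Coprime.coprime_dvd_left h3 hQ'c
  have hρy : ρ y ≠ 1 := by
    intro h
    have h2 := (hρ1 y).mp h
    apply hy1'
    apply Subtype.ext
    have h3 : (y : G) ∈ H ⊓ centralizer (V : Set G) := ⟨y.2, h2⟩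
    rw [hf] at h3
    exact mem_bot.mp h3
  obtain ⟨K, j1, j2, j3, φ, hφ⟩ := exists_sl2 ρ (closure_pair_subtype hab haH hbH) (hρq ⟨a, haH⟩ ha)
    (hρq ⟨b, hbH⟩ hb) hyo (pow_orderOf_eq_one y) hρy
  haveI : Finite φ.range := Finite.of_surjective _ φ.rangeRestrict_surjective
  set Q'' := Q'.map φ.rangeRestrict with hQ''
  have hmain := sl23_of_pPrime (K := K) hp2 (f := φ.range.subtype) φ.range.subtype_injective
    (α := φ.rangeRestrict a') (Q := Q'') (by rw [← map_pow]; rw [show a' ^ p = 1 from Subtype.ext hpow, map_one])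
    (Nat.Coprime.coprime_dvd_left (card_map_dvd Q' φ.rangeRestrict) hQ'c)
    (le_normalizer_map φ.rangeRestrict (mem_map_of_mem _ haQ)) (by
      intro hc
      apply hφ
      have h1 : ⁅Q', zpowers a'⁆.map φ.rangeRestrict = ⊥ := by
        rw [map_commutator, MonoidHom.map_zpowers, commutator_comm, commutator_eq_bot_iff_le_centralizer]
        exact zpowers_le.mpr hc
      have h2 : φ.rangeRestrict y ∈ ⁅Q', zpowers a'⁆.map φ.rangeRestrict := mem_map_of_mem _ hy
      rw [h1, mem_bot] at h2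
      exact congrArg Subtype.val h2)
  exact ⟨hmain.1, hmain.2.trans (IsSec.of_surjective φ.rangeRestrict φ.rangeRestrict_surjective)⟩

/-- `p`-solvable groups with a quadratic element outside `O_p`. -/
theorem psolv_quad [Finite G] {p : ℕ} [hp : Fact p.Prime] (hp2 : p ≠ 2) {V H : Subgroup G}
    (hV : IsElementaryAbelian p V) (hHV : H ≤ normalizer (V : Set G)) (hf : H ⊓ centralizer (V : Set G) = ⊥)
    (hsep : IsPSolvable p H) {a : G} (haH : a ∈ H) (hq : ⁅⁅V, zpowers a⁆, zpowers a⁆ = ⊥)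
    (hna : a ∉ (pCore p H).map H.subtype) : p = 3 ∧ ∃ H₀ ≤ H, IsSec SL(2, ZMod 3) H₀ := by
  have h1 : ¬ ∀ g : H, IsPGroup p ↥(Subgroup.closure {(⟨a, haH⟩ : H), g * ⟨a, haH⟩ * g⁻¹}) := by
    intro h
    exact hna ⟨⟨a, haH⟩, baer_suzuki_elt h, rfl⟩
  push Not at h1
  obtain ⟨g, hg⟩ := h1
  have hgN := hHV g.2
  set b : G := (g : G) * a * (g : G)⁻¹ with hb
  have hbH : b ∈ H := mul_mem (mul_mem g.2 haH) (inv_mem g.2)
  set H₀ := Subgroup.closure {a, b} with hH₀
  have hH₀H : H₀ ≤ H := by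
    rw [hH₀, Subgroup.closure_le]
    rintro x (rfl | rfl)
    · exact haH
    · exact hbH
  have hbq : ⁅⁅V, zpowers b⁆, zpowers b⁆ = ⊥ := H2Wst.quad_conj hgN hq
  have hnp : ¬ IsPGroup p H₀ := by
    intro h
    apply hg
    have h2 : (Subgroup.closure {(⟨a, haH⟩ : H), g * ⟨a, haH⟩ * g⁻¹}).map H.subtype = H₀ := by
      rw [MonoidHom.map_closure, Set.image_pair]
      rfl
    rw [← h2] at h
    exact h.of_injective ((Subgroup.closure {(⟨a, haH⟩ : H), g * ⟨a, haH⟩ * g⁻¹}).equivMapOfInjective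
      _ (subtype_injective _)).toMonoidHom (MulEquiv.injective _)
  have haH₀ : a ∈ H₀ := Subgroup.subset_closure (by simp)
  have hbH₀ : b ∈ H₀ := Subgroup.subset_closure (by simp)
  obtain ⟨y, hy1, hyp⟩ := exists_pPrime_elt hnp
  obtain ⟨A, i1, i2, i3, ρ, hρq, hρ1⟩ := exists_rep hV (hH₀H.trans hHV)
  have hs : IsPSolvable p H₀ :=
    psolv_injective hp.out (inclusion hH₀H) (inclusion_injective hH₀H) hsep
  have hρy : ρ y ≠ 1 := by
    intro h
    have h2 := (hρ1 y).mp h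
    apply hy1
    apply Subtype.ext
    have h3 : (y : G) ∈ H ⊓ centralizer (V : Set G) := ⟨hH₀H y.2, h2⟩
    rw [hf] at h3
    exact mem_bot.mp h3
  have h3 := sl23_of_rep hp2 hs ρ (closure_pair_subtype hH₀ haH₀ hbH₀) (hρq ⟨a, haH₀⟩ hq) (hρq ⟨b, hbH₀⟩ hbq)
    hyp hρy
  exact ⟨h3.1, H₀, hH₀H, h3.2⟩

theorem isActionPStable_of_psolv [Finite G] {p : ℕ} [hp : Fact p.Prime] (hp5 : 5 ≤ p) (hs : IsPSolvable p G) :
    IsActionPStable p G :=
  isActionPStable_of_noQuad (noQuad_all_of_psolv hp5 hs) (noQuad_all_of_psolv hp5 (psolv_quotient hp.out hs _))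

theorem psolv_W [Finite G] {p : ℕ} [hp : Fact p.Prime] (hp5 : 5 ≤ p) (hs : IsPSolvable p G) (S : Sylow p G) :
    pPrimeCore p G ⊔ normalizer (((stableNormalClosure p ↥(S : Subgroup G)).map (S : Subgroup G).subtype) : Set G)
      = ⊤ := by
  have hNc : (Nat.card (pPrimeCore p G)).Coprime p := pPrimeCore_coprime p
  obtain ⟨Q, hQ⟩ := exists_sylow_map S (pPrimeCore p G)
  have hs' := psolv_quotient hp.out hs (pPrimeCore p G)
  have hc' := hall_higman hs' (pPrimeCore_quotient_pPrimeCore p)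
  have h2 := W_normal (isActionPStable_of_psolv hp5 hs') hc' Q
  have hinj : Set.InjOn (QuotientGroup.mk' (pPrimeCore p G)) (S : Subgroup G) :=
    injOn_of_inf_eq_bot (inf_eq_bot_of_isPGroup S.isPGroup' hNc)
  have h3 := CfsgLib.SecH12.induced_map (charp_W p) (QuotientGroup.mk' (pPrimeCore p G)) (S : Subgroup G)
    S.isPGroup' hinj
  rw [induced_W, induced_W] at h3
  rw [hQ, h3] at h2
  set W₀ := (stableNormalClosure p ↥(S : Subgroup G)).map (S : Subgroup G).subtype with hW₀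
  have hWp : IsPGroup p W₀ := S.isPGroup'.to_le (map_subtype_le _)
  have h4 := normalizer_map_eq hWp hNc
  haveI := h2
  rw [normalizer_eq_top] at h4
  have h5 := congrArg (Subgroup.comap (QuotientGroup.mk' (pPrimeCore p G))) h4.symm
  rw [comap_map_eq, QuotientGroup.ker_mk', comap_top, sup_comm] at h5
  exact h5

/-- Thompson factorization when every subgroup is quadratically stable. -/
theorem thompson_fact [Finite G] {p : ℕ} [hp : Fact p.Prime] (hO : pPrimeCore p G = ⊥)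
    (hc : centralizer (pCore p G : Set G) ≤ pCore p G) (hNQ : ∀ H : Subgroup G, NoQuad p H) :
    IsThompsonFactorizable p G := by
  rw [Cfsg.Agent.S0608.result hO]
  obtain ⟨h1, h2, h3⟩ := Cfsg.Agent.S0601.result hc
  set V := (⨆ S : Sylow p G, omegaOne p (((S : Subgroup G)) ⊓ centralizer ((S : Subgroup G) : Set G))) with hV
  haveI := h1
  set C := centralizer (V : Set G) with hC
  haveI : C.Normal := inferInstance
  have hD := h3 ((pCore p (G ⧸ C)).comap (QuotientGroup.mk' C)) inferInstance (by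
    intro x hx
    rw [mem_comap, QuotientGroup.mk'_apply, (QuotientGroup.eq_one_iff x).mpr hx]
    exact one_mem _) (relIndex_comap_pCore C)
  have hVp : IsPGroup p V := by
    intro x
    refine ⟨1, Subtype.ext ?_⟩
    rw [pow_one]
    exact h2.2 x x.2
  have hst := isPStableOn_of_noQuad hNQ V hVp
  rw [thompsonSubgroup]
  apply sSup_le
  intro A hA
  by_contra hAC
  obtain ⟨g1, g2, g3⟩ := Cfsg.Agent.S0607.result V h2 A hA
  set A₀ := ⁅V, A⁆ ⊔ (A ⊓ centralizer ((⁅V, A⁆ : Subgroup G) : Set G)) with hA₀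
  have hne : ⁅V, A⁆ ≠ ⊥ := by
    intro h
    apply hAC
    rw [commutator_comm, commutator_eq_bot_iff_le_centralizer] at h
    exact h
  apply g3 hne
  rw [commutator_comm, commutator_eq_bot_iff_le_centralizer]
  intro a ha
  have h4 : a ∈ (pCore p (G ⧸ C)).comap (QuotientGroup.mk' C) := by
    apply hst a
    rw [eq_bot_iff, ← g2]
    exact commutator_mono (commutator_mono le_rfl (zpowers_le.mpr ha)) (zpowers_le.mpr ha)
  rw [hD] at h4
  exact h4

end CfsgLib.H2SL3c
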