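import Mathlib

/-! Element orders of alternating groups. -/

set_option autoImplicit false

namespace CfsgLib.H6Alt

open Equiv.Perm

theorem mem_range_iff (n k : ℕ) : k ∈ Set.range (orderOf : alternatingGroup (Fin n) → ℕ) ↔
    ∃ m : Multiset ℕ, m.sum ≤ n ∧ (∀ a ∈ m, 2 ≤ a) ∧ m.lcm = k ∧ Even (m.sum + m.card) := by
  constructor
  · rintro ⟨σ, rfl⟩
    refine ⟨σ.1.cycleType, ?_, fun a ha => two_le_of_mem_cycleType ha, ?_, ?_⟩
    · have := sum_cycleType_le σ.1
      rwa [Fintype.card_fin] at this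
    · rw [lcm_cycleType, Subgroup.orderOf_coe]
    · have h := mem_alternatingGroup.mp σ.2
      rw [sign_of_cycleType] at h
      by_contra hne
      rw [Nat.not_even_iff_odd] at hne
      rw [hne.neg_one_pow] at h
      exact absurd h (by decide)
  · rintro ⟨m, h1, h2, h3, h4⟩
    obtain ⟨σ, hσ⟩ := (exists_with_cycleType_iff (α := Fin n)).mpr ⟨by rw [Fintype.card_fin]; exact h1, h2⟩
    refine ⟨⟨σ, ?_⟩, ?_⟩
    · rw [mem_alternatingGroup, sign_of_cycleType, hσ, h4.neg_one_pow]
    · rw [← Subgroup.orderOf_coe]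
      show orderOf σ = k
      rw [← lcm_cycleType, hσ, h3]

theorem exists_of_prime_dvd_lcm {m : Multiset ℕ} {r : ℕ} (hr : r.Prime) (h : r ∣ m.lcm) : ∃ a ∈ m, r ∣ a := by
  induction m using Multiset.induction_on with
  | empty => rw [Multiset.lcm_zero] at h; exact absurd (Nat.dvd_one.mp h) hr.one_lt.ne'
  | cons a m ih =>
    rw [Multiset.lcm_cons] at h
    rcases (hr.dvd_lcm).mp h with h1 | h1
    · exact ⟨a, Multiset.mem_cons_self _ _, h1⟩
    · obtain ⟨b, hb, hb'⟩ := ih h1
      exact ⟨b, Multiset.mem_cons_of_mem hb, hb'⟩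

theorem add_le_sum {m : Multiset ℕ} {a b : ℕ} (ha : a ∈ m) (hb : b ∈ m) (hab : a ≠ b) : a + b ≤ m.sum := by
  obtain ⟨t, rfl⟩ := Multiset.exists_cons_of_mem ha
  rcases Multiset.mem_cons.mp hb with h | h
  · exact absurd h.symm hab
  · rw [Multiset.sum_cons]
    have := Multiset.single_le_sum (fun x _ => Nat.zero_le x) b h
    omega

theorem le_sum {m : Multiset ℕ} {a : ℕ} (ha : a ∈ m) : a ≤ m.sum :=
  Multiset.single_le_sum (fun x _ => Nat.zero_le x) a ha

theorem odd_odd (n r s : ℕ) (hr : r.Prime) (hs : s.Prime) (hr2 : r ≠ 2) (hs2 : s ≠ 2) (hrs : r ≠ s) :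
    (r * s ∈ Set.range (orderOf : alternatingGroup (Fin n) → ℕ)) ↔ r + s ≤ n := by
  rw [mem_range_iff]
  constructor
  · rintro ⟨m, h1, h2, h3, h4⟩
    obtain ⟨a, ha, hra⟩ := exists_of_prime_dvd_lcm hr (h3 ▸ Dvd.intro s rfl : r ∣ m.lcm)
    obtain ⟨b, hb, hsb⟩ := exists_of_prime_dvd_lcm hs (h3 ▸ Dvd.intro_left r rfl : s ∣ m.lcm)
    by_cases hab : a = b
    · subst hab
      have h5 : r * s ∣ a := Nat.Coprime.mul_dvd_of_dvd_of_dvd ((Nat.coprime_primes hr hs).mpr hrs) hra hsb
      have h6 := Nat.le_of_dvd (by have := h2 a ha; omega) h5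
      have h7 := le_sum ha
      have h8 : r + s ≤ r * s := by
        have := hr.two_le
        have := hs.two_le
        nlinarith
      omega
    · have h5 := add_le_sum ha hb hab
      have h6 := Nat.le_of_dvd (by have := h2 a ha; omega) hra
      have h7 := Nat.le_of_dvd (by have := h2 b hb; omega) hsb
      omega
  · intro h
    refine ⟨{r, s}, ?_, ?_, ?_, ?_⟩
    · simpa using h
    · intro a ha
      simp only [Multiset.insert_eq_cons, Multiset.mem_cons, Multiset.mem_singleton] at ha
      rcases ha with rfl | rfl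
      · exact hr.two_le
      · exact hs.two_le
    · simp only [Multiset.insert_eq_cons, Multiset.lcm_cons, Multiset.lcm_singleton, normalize_eq]
      exact Nat.Coprime.lcm_eq_mul ((Nat.coprime_primes hr hs).mpr hrs)
    · simp only [Multiset.insert_eq_cons, Multiset.sum_cons, Multiset.sum_singleton, Multiset.card_cons, Multiset.card_singleton]
      obtain ⟨x, hx⟩ := hr.odd_of_ne_two hr2
      obtain ⟨y, hy⟩ := hs.odd_of_ne_two hs2
      exact ⟨x + y + 2, by omega⟩

theorem two_odd (n r : ℕ) (hr : r.Prime) (hr2 : r ≠ 2) :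
    (2 * r ∈ Set.range (orderOf : alternatingGroup (Fin n) → ℕ)) ↔ r + 4 ≤ n := by
  rw [mem_range_iff]
  have hr3 : 3 ≤ r := by have := hr.two_le; omega
  obtain ⟨x, hx⟩ := hr.odd_of_ne_two hr2
  have hcop : Nat.Coprime 2 r := (Nat.coprime_primes Nat.prime_two hr).mpr (Ne.symm hr2)
  constructor
  · rintro ⟨m, h1, h2, h3, h4⟩
    have hdiv : ∀ a ∈ m, a = 2 ∨ a = r ∨ a = 2 * r := by
      intro a ha
      have h5 : a ∣ 2 * r := by rw [← h3]; exact Multiset.dvd_lcm ha
      have h6 := h2 a ha
      obtain ⟨d, e, hd, he, rfl⟩ := (Nat.dvd_mul).mp h5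
      rcases (Nat.dvd_prime Nat.prime_two).mp hd with rfl | rfl <;>
        rcases (Nat.dvd_prime hr).mp he with rfl | rfl
      · omega
      · right; left; omega
      · left; omega
      · right; right; rfl
    have hsub : m.toFinset ⊆ {2, r, 2 * r} := by
      intro a ha
      rw [Multiset.mem_toFinset] at ha
      rcases hdiv a ha with rfl | rfl | rfl <;> simp
    have hsum : m.sum = m.count 2 * 2 + m.count r * r + m.count (2 * r) * (2 * r) := by
      rw [Finset.sum_multiset_count, Finset.sum_subset hsub (by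
        intro a _ ha
        rw [Multiset.mem_toFinset] at ha
        rw [Multiset.count_eq_zero_of_notMem ha, zero_smul])]
      rw [Finset.sum_insert, Finset.sum_insert, Finset.sum_singleton]
      · simp only [smul_eq_mul]; ring
      · simp; omega
      · simp; omega
    have hcard : m.card = m.count 2 + m.count r + m.count (2 * r) := by
      rw [← Multiset.toFinset_sum_count_eq, Finset.sum_subset hsub (by
        intro a _ ha
        rw [Multiset.mem_toFinset] at ha
        rw [Multiset.count_eq_zero_of_notMem ha])]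
      rw [Finset.sum_insert, Finset.sum_insert, Finset.sum_singleton]
      · ring
      · simp; omega
      · simp; omega
    obtain ⟨a, ha, hra⟩ := exists_of_prime_dvd_lcm hr (h3 ▸ Dvd.intro_left 2 rfl : r ∣ m.lcm)
    obtain ⟨b, hb, hsb⟩ := exists_of_prime_dvd_lcm Nat.prime_two (h3 ▸ Dvd.intro r rfl : 2 ∣ m.lcm)
    have hcr : 1 ≤ m.count r ∨ 1 ≤ m.count (2 * r) := by
      rcases hdiv a ha with rfl | rfl | rfl
      · exact absurd (Nat.le_of_dvd (by norm_num) hra) (by omega)
      · left; exact Multiset.one_le_count_iff_mem.mpr ha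
      · right; exact Multiset.one_le_count_iff_mem.mpr ha
    have hc2 : 1 ≤ m.count 2 ∨ 1 ≤ m.count (2 * r) := by
      rcases hdiv b hb with rfl | rfl | rfl
      · left; exact Multiset.one_le_count_iff_mem.mpr hb
      · exfalso; omega
      · right; exact Multiset.one_le_count_iff_mem.mpr hb
    rw [hsum, hcard] at h4
    rw [hsum] at h1
    set u := m.count 2
    set v := m.count r
    set w := m.count (2 * r)
    have h5 : Even (u + w) := by
      have h6 : u * 2 + v * r + w * (2 * r) + (u + v + w) = (u + w) + 2 * (u + v * (x + 1) + w * r) := by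
        rw [hx]; ring
      rw [h6] at h4
      exact (Nat.even_add.mp h4).mpr (even_two_mul _)
    rcases Nat.eq_zero_or_pos w with hw | hw
    · rw [hw] at h5 hcr hc2 h1
      obtain ⟨y, hy⟩ := h5
      have hv : 1 ≤ v := by omega
      have hu : 2 ≤ u := by omega
      nlinarith
    · rcases Nat.lt_or_ge w 2 with hw2 | hw2
      · have hw1 : w = 1 := by omega
        rw [hw1] at h5 h1
        obtain ⟨y, hy⟩ := h5
        have hu : 1 ≤ u := by omega
        nlinarith [Nat.zero_le (v * r)]
      · nlinarith [Nat.zero_le (v * r), Nat.zero_le (u * 2)]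
  · intro h
    refine ⟨{r, 2, 2}, ?_, ?_, ?_, ?_⟩
    · simpa using h
    · intro a ha
      simp only [Multiset.insert_eq_cons, Multiset.mem_cons, Multiset.mem_singleton] at ha
      rcases ha with rfl | rfl | rfl
      · exact hr.two_le
      · exact le_refl _
      · exact le_refl _
    · simp only [Multiset.insert_eq_cons, Multiset.lcm_cons, Multiset.lcm_singleton, normalize_eq]
      show Nat.lcm r (Nat.lcm 2 2) = 2 * r
      rw [Nat.lcm_self, Nat.Coprime.lcm_eq_mul hcop.symm, mul_comm]
    · simp only [Multiset.insert_eq_cons, Multiset.sum_cons, Multiset.sum_singleton, Multiset.card_cons, Multiset.card_singleton]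
      exact ⟨x + 4, by omega⟩

/-- lcm contribution -/
def ic (c i : ℕ) : ℕ := if 0 < c then i else 1

set_option maxRecDepth 100000 in
theorem part10 : ∀ c2 : Fin 6, ∀ c3 : Fin 4, ∀ c4 c5 : Fin 3, ∀ c6 c7 c8 c9 c10 : Fin 2,
    2 * c2.val + 3 * c3.val + 4 * c4.val + 5 * c5.val + 6 * c6.val + 7 * c7.val + 8 * c8.val + 9 * c9.val + 10 * c10.val ≤ 10 →
    (3 * c2.val + 4 * c3.val + 5 * c4.val + 6 * c5.val + 7 * c6.val + 8 * c7.val + 9 * c8.val + 10 * c9.val + 11 * c10.val) % 2 = 0 →
    Nat.lcm (ic c2 2) (Nat.lcm (ic c3 3) (Nat.lcm (ic c4 4) (Nat.lcm (ic c5 5) (Nat.lcm (ic c6 6) (Nat.lcm (ic c7 7)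
      (Nat.lcm (ic c8 8) (Nat.lcm (ic c9 9) (ic c10 10)))))))) ∈ [1, 2, 3, 4, 5, 6, 7, 8, 9, 10, 12, 15, 21] := by
  decide +kernel

theorem a10 : Set.range (orderOf : alternatingGroup (Fin 10) → ℕ) = {1, 2, 3, 4, 5, 6, 7, 8, 9, 10, 12, 15, 21} := by
  ext k
  rw [mem_range_iff]
  constructor
  · rintro ⟨m, h1, h2, h3, h4⟩
    have hsub : m.toFinset ⊆ Finset.Icc 2 10 := by
      intro a ha
      rw [Multiset.mem_toFinset] at ha
      rw [Finset.mem_Icc]
      exact ⟨h2 a ha, (le_sum ha).trans h1⟩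
    have hI : Finset.Icc 2 10 = ({2, 3, 4, 5, 6, 7, 8, 9, 10} : Finset ℕ) := by decide
    rw [hI] at hsub
    have hsum : m.sum = 2 * m.count 2 + 3 * m.count 3 + 4 * m.count 4 + 5 * m.count 5 + 6 * m.count 6 + 7 * m.count 7 +
        8 * m.count 8 + 9 * m.count 9 + 10 * m.count 10 := by
      rw [Finset.sum_multiset_count, Finset.sum_subset hsub (by
        intro a _ ha
        rw [Multiset.mem_toFinset] at ha
        rw [Multiset.count_eq_zero_of_notMem ha, zero_smul])]
      simp
      ring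
    have hcard : m.card = m.count 2 + m.count 3 + m.count 4 + m.count 5 + m.count 6 + m.count 7 +
        m.count 8 + m.count 9 + m.count 10 := by
      rw [← Multiset.toFinset_sum_count_eq, Finset.sum_subset hsub (by
        intro a _ ha
        rw [Multiset.mem_toFinset] at ha
        rw [Multiset.count_eq_zero_of_notMem ha])]
      simp
      ring
    have hlcm : m.lcm = Nat.lcm (ic (m.count 2) 2) (Nat.lcm (ic (m.count 3) 3) (Nat.lcm (ic (m.count 4) 4)
        (Nat.lcm (ic (m.count 5) 5) (Nat.lcm (ic (m.count 6) 6) (Nat.lcm (ic (m.count 7) 7)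
        (Nat.lcm (ic (m.count 8) 8) (Nat.lcm (ic (m.count 9) 9) (ic (m.count 10) 10)))))))) := by
      apply Nat.dvd_antisymm
      · rw [Multiset.lcm_dvd]
        intro a ha
        have h5 : a ∈ m.toFinset := Multiset.mem_toFinset.mpr ha
        have h6 := hsub h5
        have h7 : 0 < m.count a := Multiset.count_pos.mpr ha
        have hic : a ∣ ic (m.count a) a := by unfold ic; rw [if_pos h7]
        simp only [Finset.mem_insert, Finset.mem_singleton] at h6
        rcases h6 with rfl | rfl | rfl | rfl | rfl | rfl | rfl | rfl | rfl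
        · exact hic.trans (Nat.dvd_lcm_left _ _)
        · exact (hic.trans (Nat.dvd_lcm_left _ _)).trans (Nat.dvd_lcm_right _ _)
        · exact ((hic.trans (Nat.dvd_lcm_left _ _)).trans (Nat.dvd_lcm_right _ _)).trans (Nat.dvd_lcm_right _ _)
        · exact (((hic.trans (Nat.dvd_lcm_left _ _)).trans (Nat.dvd_lcm_right _ _)).trans (Nat.dvd_lcm_right _ _)).trans (Nat.dvd_lcm_right _ _)
        · exact ((((hic.trans (Nat.dvd_lcm_left _ _)).trans (Nat.dvd_lcm_right _ _)).trans (Nat.dvd_lcm_right _ _)).trans (Nat.dvd_lcm_right _ _)).trans (Nat.dvd_lcm_right _ _)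
        · exact (((((hic.trans (Nat.dvd_lcm_left _ _)).trans (Nat.dvd_lcm_right _ _)).trans (Nat.dvd_lcm_right _ _)).trans (Nat.dvd_lcm_right _ _)).trans (Nat.dvd_lcm_right _ _)).trans (Nat.dvd_lcm_right _ _)
        · exact ((((((hic.trans (Nat.dvd_lcm_left _ _)).trans (Nat.dvd_lcm_right _ _)).trans (Nat.dvd_lcm_right _ _)).trans (Nat.dvd_lcm_right _ _)).trans (Nat.dvd_lcm_right _ _)).trans (Nat.dvd_lcm_right _ _)).trans (Nat.dvd_lcm_right _ _)
        · exact (((((((hic.trans (Nat.dvd_lcm_left _ _)).trans (Nat.dvd_lcm_right _ _)).trans (Nat.dvd_lcm_right _ _)).trans (Nat.dvd_lcm_right _ _)).trans (Nat.dvd_lcm_right _ _)).trans (Nat.dvd_lcm_right _ _)).trans (Nat.dvd_lcm_right _ _)).trans (Nat.dvd_lcm_right _ _)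
        · exact (((((((hic.trans (Nat.dvd_lcm_right _ _)).trans (Nat.dvd_lcm_right _ _)).trans (Nat.dvd_lcm_right _ _)).trans (Nat.dvd_lcm_right _ _)).trans (Nat.dvd_lcm_right _ _)).trans (Nat.dvd_lcm_right _ _)).trans (Nat.dvd_lcm_right _ _)).trans (Nat.dvd_lcm_right _ _)
      · have hic : ∀ a, ic (m.count a) a ∣ m.lcm := by
          intro a
          unfold ic
          by_cases h : 0 < m.count a
          · rw [if_pos h]; exact Multiset.dvd_lcm (Multiset.count_pos.mp h)
          · rw [if_neg h]; exact one_dvd _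
        exact Nat.lcm_dvd (hic 2) (Nat.lcm_dvd (hic 3) (Nat.lcm_dvd (hic 4) (Nat.lcm_dvd (hic 5) (Nat.lcm_dvd (hic 6)
          (Nat.lcm_dvd (hic 7) (Nat.lcm_dvd (hic 8) (Nat.lcm_dvd (hic 9) (hic 10))))))))
    rw [hsum] at h1
    rw [hsum, hcard] at h4
    have h5 := part10 ⟨m.count 2, by omega⟩ ⟨m.count 3, by omega⟩ ⟨m.count 4, by omega⟩ ⟨m.count 5, by omega⟩
      ⟨m.count 6, by omega⟩ ⟨m.count 7, by omega⟩ ⟨m.count 8, by omega⟩ ⟨m.count 9, by omega⟩ ⟨m.count 10, by omega⟩
      h1 (by
        obtain ⟨y, hy⟩ := h4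
        show (3 * m.count 2 + 4 * m.count 3 + 5 * m.count 4 + 6 * m.count 5 + 7 * m.count 6 + 8 * m.count 7 +
          9 * m.count 8 + 10 * m.count 9 + 11 * m.count 10) % 2 = 0
        omega)
    rw [← hlcm, h3] at h5
    simpa using h5
  · intro hk
    simp only [Set.mem_insert_iff, Set.mem_singleton_iff] at hk
    rcases hk with rfl | rfl | rfl | rfl | rfl | rfl | rfl | rfl | rfl | rfl | rfl | rfl | rfl
    · exact ⟨0, by decide, by decide, by decide, by decide⟩
    · exact ⟨{2, 2}, by decide, by decide, by decide, by decide⟩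
    · exact ⟨{3}, by decide, by decide, by decide, by decide⟩
    · exact ⟨{4, 2}, by decide, by decide, by decide, by decide⟩
    · exact ⟨{5}, by decide, by decide, by decide, by decide⟩
    · exact ⟨{3, 2, 2}, by decide, by decide, by decide, by decide⟩
    · exact ⟨{7}, by decide, by decide, by decide, by decide⟩
    · exact ⟨{8, 2}, by decide, by decide, by decide, by decide⟩
    · exact ⟨{9}, by decide, by decide, by decide, by decide⟩
    · exact ⟨{5, 2, 2}, by decide, by decide, by decide, by decide⟩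
    · exact ⟨{4, 3, 2}, by decide, by decide, by decide, by decide⟩
    · exact ⟨{5, 3}, by decide, by decide, by decide, by decide⟩
    · exact ⟨{7, 3}, by decide, by decide, by decide, by decide⟩

end CfsgLib.H6Alt
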