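import Mathlib
import Cfsg.Agent.EqBase
import Cfsg.Agent.LibBW11n
import Cfsg.Agent.LibDkB29

/-! Groups with an involution whose centraliser is a self-centralising four-group (seat helper11). -/

set_option autoImplicit false
set_option linter.all false

namespace CfsgLib.KF11

open Subgroup Cfsg CfsgLib.BW11

universe u

section
variable {G : Type u} [Group G] [Finite G]

theorem card_inv (x : G) : Nat.card {y : G // IsConj x y} * Nat.card (centralizer ({x} : Set G)) = Nat.card G := card_conj_class x

/-- the configuration `C(x)` a four-group and one class of involutions -/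
theorem mk_bw {x : G} (hx2 : x * x = 1) (hx1 : x ≠ 1)
    (hC : Nat.card (centralizer ({x} : Set G)) = 4) (hCe : ∀ c, c * x = x * c → c * c = 1)
    (hcj : ∀ y, y * y = 1 → y ≠ 1 → IsConj x y) : ∃ s : G, s * x = x * s ∧ BW (zpowers x) x s ∧ Nat.card (zpowers x) = 2 := by
  have hxo : orderOf x = 2 := orderOf_eq_prime (by rw [pow_two]; exact hx2) hx1
  have hKc : Nat.card (zpowers x) = 2 := by rw [Nat.card_zpowers, hxo]
  have hmem : ∀ y ∈ zpowers x, y = 1 ∨ y = x := by
    intro y hy
    obtain ⟨j, rfl⟩ := mem_zpowers_iff.1 hy
    rcases Int.even_or_odd' j with ⟨i, hi | hi⟩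
    · left
      rw [hi, zpow_mul, zpow_ofNat, pow_two, hx2, one_zpow]
    · right
      rw [hi, zpow_add, zpow_mul, zpow_ofNat, pow_two, hx2, one_zpow, zpow_one, one_mul]
  have hKC : zpowers x ≤ centralizer ({x} : Set G) := by
    rw [zpowers_le, mem_centralizer_singleton_iff]
  obtain ⟨s, hsC, hsK⟩ : ∃ s ∈ centralizer ({x} : Set G), s ∉ zpowers x := by
    by_contra hcon
    push Not at hcon
    have h1 : zpowers x = centralizer ({x} : Set G) := le_antisymm hKC hcon
    rw [← h1, hKc] at hC
    norm_num at hC
  have hsx : s * x = x * s := mem_centralizer_singleton_iff.1 hsC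
  have hidx : ((zpowers x).subgroupOf (centralizer ({x} : Set G))).index = 2 := by
    have h1 := ((zpowers x).subgroupOf (centralizer ({x} : Set G))).card_mul_index
    rw [Nat.card_congr (Subgroup.subgroupOfEquivOfLe hKC).toEquiv, hKc, hC] at h1
    omega
  refine ⟨s, hsx, ⟨hx2, hx1, mem_zpowers x, ?_, hCe s hsx, hsK, ?_, ?_, ?_, ?_, hcj⟩, hKc⟩
  · intro a ha b hb
    rcases hmem a ha with rfl | rfl
    · rw [one_mul, mul_one]
    · rcases hmem b hb with rfl | rfl
      · rw [one_mul, mul_one]
      · rfl
  · intro a ha
    rcases hmem a ha with rfl | rfl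
    · group
    · rw [hsx, mul_inv_cancel_right]; exact (inv_eq_of_mul_eq_one_left hx2).symm
  · intro g
    constructor
    · intro hg
      by_cases hgK : g ∈ zpowers x
      · exact Or.inl hgK
      · right
        have h1 := Subgroup.mul_mem_iff_of_index_two hidx (a := ⟨s, hsC⟩) (b := ⟨g, mem_centralizer_singleton_iff.2 hg⟩)
        have h2 : ¬ ((⟨s, hsC⟩ : centralizer ({x} : Set G)) ∈ (zpowers x).subgroupOf (centralizer ({x} : Set G))) := hsK
        have h3 : ¬ ((⟨g, mem_centralizer_singleton_iff.2 hg⟩ : centralizer ({x} : Set G)) ∈ (zpowers x).subgroupOf (centralizer ({x} : Set G))) := hgK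
        exact h1.2 (by tauto)
    · rintro (h1 | h1)
      · exact mem_centralizer_singleton_iff.1 (hKC h1)
      · have h2 : s * g ∈ centralizer ({x} : Set G) := hKC h1
        have h3 : g = s⁻¹ * (s * g) := by group
        rw [← mem_centralizer_singleton_iff, h3]
        exact mul_mem (inv_mem hsC) h2
  · intro a ha _
    exact hmem a ha
  · intro g a ha ha1 hga
    have hax := (hmem a ha).resolve_left ha1
    subst hax
    have h1 := (hmem _ hga).resolve_left (conj_ne_one ha1)
    rw [mul_inv_eq_iff_eq_mul] at h1
    by_cases hgK : g ∈ zpowers a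
    · exact Or.inl hgK
    · right
      have h2 := Subgroup.mul_mem_iff_of_index_two hidx (a := ⟨s, hsC⟩) (b := ⟨g, mem_centralizer_singleton_iff.2 h1⟩)
      have h3 : ¬ ((⟨s, hsC⟩ : centralizer ({a} : Set G)) ∈ (zpowers a).subgroupOf (centralizer ({a} : Set G))) := hsK
      have h4 : ¬ ((⟨g, mem_centralizer_singleton_iff.2 h1⟩ : centralizer ({a} : Set G)) ∈ (zpowers a).subgroupOf (centralizer ({a} : Set G))) := hgK
      exact h2.2 (by tauto)

theorem card_G {x : G} (hx2 : x * x = 1) (hx1 : x ≠ 1)
    (hC : Nat.card (centralizer ({x} : Set G)) = 4) (hCe : ∀ c, c * x = x * c → c * c = 1)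
    (hcj : ∀ y, y * y = 1 → y ≠ 1 → IsConj x y) : Nat.card G = 60 ∨ Nat.card G = 12 := by
  classical
  letI : Fintype G := Fintype.ofFinite G
  letI : Fintype (zpowers x) := Fintype.ofFinite _
  obtain ⟨s, -, h, hK⟩ := mk_bw hx2 hx1 hC hCe hcj
  obtain ⟨c, u, hc, hcard, -⟩ := values h
  rw [hK] at hcard
  rcases hc with rfl | rfl
  · left
    have : (Nat.card G : ℤ) = 60 := by rw [hcard]; norm_num
    exact_mod_cast this
  · right
    have : (Nat.card G : ℤ) = 12 := by rw [hcard]; norm_num
    exact_mod_cast this

theorem main {x : G} (hx2 : x * x = 1) (hx1 : x ≠ 1)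
    (hC : Nat.card (centralizer ({x} : Set G)) = 4) (hCe : ∀ c, c * x = x * c → c * c = 1)
    (hcj : ∀ y, y * y = 1 → y ≠ 1 → IsConj x y)
    (hne : ¬ (centralizer ({x} : Set G)).Normal) : Nonempty (G ≃* alternatingGroup (Fin 5)) := by
  classical
  letI : Fintype G := Fintype.ofFinite G
  have hcl := card_inv x
  rw [hC] at hcl
  have hconjinv : ∀ g y : G, y * y = 1 → (g * y * g⁻¹) * (g * y * g⁻¹) = 1 := by
    intro g y hy
    calc (g * y * g⁻¹) * (g * y * g⁻¹) = g * (y * y) * g⁻¹ := by group
      _ = 1 := by rw [hy]; group
  rcases card_G hx2 hx1 hC hCe hcj with h60 | h12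
  · -- simplicity
    have hS : IsSimpleGroup G := by
      obtain ⟨s, hsx, h, hK⟩ := mk_bw hx2 hx1 hC hCe hcj
      have hs1 : s ≠ 1 := by rintro rfl; exact h.sK (Subgroup.one_mem _)
      have hodd : ∀ M : Subgroup G, M.Normal → ¬ 2 ∣ Nat.card M → M = ⊥ := by
        intro M hM hM2
        rw [Subgroup.eq_bot_iff_forall]
        intro z hz
        have hoff : ∀ y ∈ M, y ≠ 1 → Off (zpowers x) y := by
          intro y hy hy1 k hk hk1 hc
          have hkk : k * k = 1 := by
            rcases h.uniq k hk (by
              obtain ⟨j, rfl⟩ := mem_zpowers_iff.1 hk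
              rw [← zpow_add, ← two_mul, zpow_mul, zpow_ofNat, pow_two, hx2, one_zpow]) with h1 | h1
            · exact absurd h1 hk1
            · rw [h1]; exact hx2
          obtain ⟨g, hg⟩ := isConj_iff.1 hc
          apply hy1
          apply order_prime_of_invol hM2 hy
          rw [← hg]; exact hconjinv g k hkk
        have hinv : ∀ d : G, d * d = 1 → d ≠ 1 → ∀ w ∈ M, d * w * d⁻¹ = w⁻¹ := by
          intro d hd hd1 w hw
          exact h.inv_of_norm hoff hd hd1 (fun y hy => hM.conj_mem y hy d) hw
        have h1 := hinv x hx2 hx1 z hz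
        have h2 := hinv s h.s2 hs1 z⁻¹ (M.inv_mem hz)
        have hxs : (s * x) * (s * x) = 1 := by
          calc (s * x) * (s * x) = s * (x * s) * x := by group
            _ = s * (s * x) * x := by rw [hsx]
            _ = (s * s) * (x * x) := by group
            _ = 1 := by rw [h.s2, hx2, one_mul]
        have hxs1 : s * x ≠ 1 := by
          intro h0
          have : s = x⁻¹ := eq_inv_of_mul_eq_one_left h0
          apply h.sK
          rw [this]; exact inv_mem (mem_zpowers x)
        have h3 := hinv (s * x) hxs hxs1 z hz
        have h4 : (s * x) * z * (s * x)⁻¹ = s * (x * z * x⁻¹) * s⁻¹ := by group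
        rw [h4, h1, h2, inv_inv] at h3
        apply order_prime_of_invol hM2 hz
        nth_rewrite 1 [h3]
        exact inv_mul_cancel z
      haveI hnt : Nontrivial G := ⟨x, 1, hx1⟩
      refine { exists_pair_ne := hnt.exists_pair_ne, eq_bot_or_eq_top_of_normal := fun M hM => ?_ }
      by_cases hM2 : 2 ∣ Nat.card M
      · right
        haveI : Fact (Nat.Prime 2) := ⟨Nat.prime_two⟩
        obtain ⟨w, hw⟩ := exists_prime_orderOf_dvd_card' (G := M) 2 hM2
        have hwo : orderOf (w : G) = 2 := by rw [Subgroup.orderOf_coe, hw]
        have hw1 : (w : G) ≠ 1 := by intro h0; rw [h0, orderOf_one] at hwo; norm_num at hwo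
        have hw2 : (w : G) * w = 1 := by rw [← pow_two, ← hwo]; exact pow_orderOf_eq_one _
        have hall : ∀ y : G, IsConj x y → y ∈ M := by
          intro y hy
          obtain ⟨g, hg⟩ := isConj_iff.1 ((hcj w hw2 hw1).symm.trans hy)
          rw [← hg]; exact hM.conj_mem w w.2 g
        have h16 : 16 ≤ Nat.card M := by
          have h1 : Nat.card (Option {y : G // IsConj x y}) ≤ Nat.card M := by
            apply Nat.card_le_card_of_injective (fun o : Option {y : G // IsConj x y} => (match o with
              | none => (1 : M)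
              | some y => ⟨y.1, hall y.1 y.2⟩ : M))
            rintro (_ | a) (_ | b) hab
            · rfl
            · exfalso
              have h2 : (1 : G) = b.1 := congrArg Subtype.val hab
              have h3 := b.2
              rw [← h2, isConj_one_left] at h3
              exact hx1 h3
            · exfalso
              have h2 : a.1 = (1 : G) := congrArg Subtype.val hab
              have h3 := a.2
              rw [h2, isConj_one_left] at h3
              exact hx1 h3
            · have h2 : a.1 = b.1 := congrArg (fun m : M => (m : G)) hab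
              rw [Subtype.ext h2]
          rw [Finite.card_option] at h1
          omega
        have hCM : centralizer ({x} : Set G) ≤ M := by
          intro c hc
          by_cases hc1 : c = 1
          · rw [hc1]; exact M.one_mem
          · exact hall c (hcj c (hCe c (mem_centralizer_singleton_iff.1 hc)) hc1)
        have h4 : 4 ∣ Nat.card M := by rw [← hC]; exact Subgroup.card_dvd_of_le hCM
        have h5 : Nat.card M ∣ 60 := by rw [← h60]; exact Subgroup.card_subgroup_dvd_card M
        obtain ⟨a, ha⟩ := h4
        obtain ⟨b, hb⟩ := h5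
        have hab : a * b = 15 := by
          rw [ha] at hb
          have : 4 * (a * b) = 4 * 15 := by rw [← mul_assoc, ← hb]
          omega
        have ha15 : a ∣ 15 := ⟨b, hab.symm⟩
        have ha' : a = 5 ∨ a = 15 := by
          have h6 : a ∈ Nat.divisors 15 := Nat.mem_divisors.2 ⟨ha15, by norm_num⟩
          have h7 : Nat.divisors 15 = {1, 3, 5, 15} := by decide
          rw [h7] at h6
          simp only [Finset.mem_insert, Finset.mem_singleton] at h6
          omega
        rcases ha' with rfl | rfl
        · exfalso
          haveI : Fact (Nat.Prime 5) := ⟨Nat.prime_five⟩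
          have hM20 : Nat.card M = 20 := by rw [ha]
          obtain ⟨P⟩ : Nonempty (Sylow 5 M) := inferInstance
          have hPc : Nat.card P = 5 := by
            rw [P.card_eq_multiplicity, hM20]
            have : Nat.factorization 20 5 = 1 := by
              rw [show (20 : ℕ) = 5 * 4 by norm_num, Nat.factorization_mul (by norm_num) (by norm_num)]
              rw [Finsupp.add_apply, Nat.Prime.factorization_self Nat.prime_five, Nat.factorization_eq_zero_of_not_dvd (by norm_num)]
            rw [this, pow_one]
          have hPi : (P : Subgroup M).index = 4 := by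
            have h6 := (P : Subgroup M).card_mul_index
            have h7 : Nat.card (P : Subgroup M) = 5 := hPc
            rw [h7, hM20] at h6
            omega
          have h6 : Nat.card (Sylow 5 M) ∣ 4 := by rw [← hPi]; exact P.card_dvd_index
          have h7 : Nat.card (Sylow 5 M) ≡ 1 [MOD 5] := card_sylow_modEq_one 5 M
          have h8 : Nat.card (Sylow 5 M) = 1 := by
            have h9 := Nat.le_of_dvd (by norm_num) h6
            have h10 : 0 < Nat.card (Sylow 5 M) := Nat.card_pos
            unfold Nat.ModEq at h7
            interval_cases hh : Nat.card (Sylow 5 M)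
            · rfl
            all_goals omega
          haveI : Subsingleton (Sylow 5 M) := (Nat.card_eq_one_iff_unique.1 h8).1
          haveI hPn : (P : Subgroup M).Normal := Sylow.normal_of_subsingleton P
          haveI hPch : (P : Subgroup M).Characteristic := Sylow.characteristic_of_normal P hPn
          have h9 : ((P : Subgroup M).map M.subtype).Normal := ConjAct.normal_of_characteristic_of_normal
          have h10 : Nat.card ((P : Subgroup M).map M.subtype) = 5 := by
            rw [Nat.card_congr ((P : Subgroup M).equivMapOfInjective _ (Subgroup.subtype_injective _)).symm.toEquiv]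
            exact hPc
          have h11 := hodd _ h9 (by rw [h10]; norm_num)
          rw [h11, Subgroup.card_bot] at h10
          norm_num at h10
        · rw [← Subgroup.card_eq_iff_eq_top, ha, h60]
      · exact Or.inl (hodd M hM hM2)
    exact CfsgLib.Dk29.simple60 h60
  · exfalso
    apply hne
    have h3 : Nat.card {y : G // IsConj x y} = 3 := by omega
    -- all involutions are in the centraliser
    obtain ⟨f, hf⟩ : ∃ f : {c : centralizer ({x} : Set G) // c ≠ 1} → {y : G // IsConj x y}, ∀ c, (f c : G) = c.1 :=
      ⟨fun c => ⟨c.1, hcj _ (hCe _ (mem_centralizer_singleton_iff.1 c.1.2)) (fun h0 => c.2 (Subtype.ext h0))⟩, fun _ => rfl⟩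
    have hinj : Function.Injective f := by
      intro a b hab
      have h4 : (a.1 : G) = b.1 := by rw [← hf, ← hf, hab]
      exact Subtype.ext (Subtype.ext h4)
    letI : Fintype (centralizer ({x} : Set G)) := Fintype.ofFinite _
    have hc1 : Fintype.card {c : centralizer ({x} : Set G) // c ≠ 1} = 3 := by
      rw [Fintype.card_subtype_compl, Fintype.card_subtype_eq, ← Nat.card_eq_fintype_card, hC]
    have hsurj : Function.Surjective f := by
      letI : Fintype {y : G // IsConj x y} := Fintype.ofFinite _
      refine ((Fintype.bijective_iff_injective_and_card f).2 ⟨hinj, ?_⟩).2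
      rw [hc1, ← Nat.card_eq_fintype_card, h3]
    have hall : ∀ y : G, IsConj x y → y ∈ centralizer ({x} : Set G) := by
      intro y hy
      obtain ⟨c, hc⟩ := hsurj ⟨y, hy⟩
      have h4 : (c.1 : G) = y := by rw [← hf, hc]
      rw [← h4]; exact c.1.2
    refine ⟨fun c hc g => ?_⟩
    by_cases hc1 : c = 1
    · rw [hc1, mul_one, mul_inv_cancel]; exact Subgroup.one_mem _
    · apply hall
      exact hcj _ (hconjinv g c (hCe c (mem_centralizer_singleton_iff.1 hc))) (conj_ne_one hc1)

end
end CfsgLib.KF11
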