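import Mathlib
import Cfsg.Agent.EqBase
import Cfsg.Agent.LibKF11a

/-! Groups with an involution with centraliser of order four and a subgroup of index two: characters (seat helper11). -/

set_option autoImplicit false
set_option linter.all false

namespace CfsgLib.KF11

open Subgroup Cfsg CfsgLib.BW11 CfsgLib.CharBasic
open scoped ComplexConjugate

universe u

section
variable {G : Type u} [Group G] [Fintype G]

/-- character values at involutions are integers -/
theorem char_invol_int {χ : G → ℂ} (h : IsCharacter G χ) {x : G} (hx : x * x = 1) : ∃ n : ℤ, χ x = n := by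
  have hint : IsIntegral ℤ (χ x) := by
    obtain ⟨n, ρ, rfl⟩ := h
    exact isIntegral_character ρ x
  apply CfsgLib.GalChar.exists_int_of_fixed hint
  intro σ
  have h1 := CfsgLib.GalChar.char_pow_eq_of_roots h x 1 σ (fun ζ hζ => by
    have h2 : ζ ^ 2 = 1 := by
      have h3 : orderOf x ∣ 2 := orderOf_dvd_of_pow_eq_one (by rw [pow_two]; exact hx)
      obtain ⟨c, hc⟩ := h3
      rw [hc, pow_mul, hζ, one_pow]
    rw [pow_one]
    have h4 : (ζ - 1) * (ζ + 1) = 0 := by linear_combination h2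
    rcases mul_eq_zero.1 h4 with h3 | h3
    · rw [sub_eq_zero.1 h3, map_one]
    · rw [eq_neg_of_add_eq_zero_left h3, map_neg, map_one])
  rw [pow_one] at h1
  exact h1.symm

/-- the sign character of a subgroup of index two -/
theorem exists_sgn (N : Subgroup G) (hN : N.index = 2) :
    ∃ l : IrrCharacter G, (∀ g ∈ N, (l : G → ℂ) g = 1) ∧ (∀ g, g ∉ N → (l : G → ℂ) g = -1) := by
  classical
  let f : G →* ℂˣ :=
    { toFun := fun g => if g ∈ N then 1 else -1
      map_one' := by rw [if_pos N.one_mem]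
      map_mul' := by
        intro a b
        have h := Subgroup.mul_mem_iff_of_index_two hN (a := a) (b := b)
        by_cases ha : a ∈ N
        · by_cases hb : b ∈ N
          · rw [if_pos (N.mul_mem ha hb), if_pos ha, if_pos hb, one_mul]
          · rw [if_neg (by rw [h]; tauto), if_pos ha, if_neg hb, one_mul]
        · by_cases hb : b ∈ N
          · rw [if_neg (by rw [h]; tauto), if_neg ha, if_pos hb, mul_one]
          · rw [if_pos (by rw [h]; tauto), if_neg ha, if_neg hb, neg_mul_neg, mul_one] }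
  refine ⟨⟨_, isIrrCharacter_hom f⟩, fun g hg => ?_, fun g hg => ?_⟩
  · show ((f g : ℂˣ) : ℂ) = 1
    have : f g = 1 := if_pos hg
    rw [this]; rfl
  · show ((f g : ℂˣ) : ℂ) = -1
    have : f g = -1 := if_neg hg
    rw [this]; rfl

/-- the number of ways of writing `g` as a product of two conjugates of `x` -/
noncomputable def NN (x g : G) : ℕ := Nat.card {s : G // IsConj x s ∧ IsConj x (s * g)}

/-- the basic inequality -/
theorem ineq {x : G} (hx2 : x * x = 1) (hC : Nat.card (centralizer ({x} : Set G)) = 4)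
    {N : Subgroup G} (hN : N.Normal) (hNi : N.index = 2) (hxN : x ∉ N) (A : Subgroup G) [Fintype A] (hA : A ≤ N) :
    Nat.card A * Nat.card G ≤ 8 * ∑ g : A, NN x (g : G) := by
  classical
  obtain ⟨l, hl1, hl2⟩ := exists_sgn N hNi
  have hnt : ∀ χ : IrrCharacter G, ∃ n : ℤ, (χ : G → ℂ) x = n := fun χ => char_invol_int (irr_isCharacter χ.2) hx2
  choose n hn using hnt
  have hsq : ∑ χ : IrrCharacter G, n χ ^ 2 = 4 := by
    have h1 := column_orthogonality x x
    rw [if_pos (IsConj.refl x), hC] at h1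
    have h2 : ((∑ χ : IrrCharacter G, n χ ^ 2 : ℤ) : ℂ) = 4 := by
      push_cast
      refine Eq.trans ?_ (h1.trans (by norm_num))
      apply Finset.sum_congr rfl
      intro χ _
      rw [hn, map_intCast, pow_two]
    exact_mod_cast h2
  have hn1 : n (BW11.one G) = 1 := by
    have h1 := hn (BW11.one G)
    rw [one_apply] at h1
    exact_mod_cast h1.symm
  have hnl : n l = -1 := by
    have h1 := hn l
    rw [hl2 x hxN] at h1
    have h2 : ((n l : ℤ) : ℂ) = ((-1 : ℤ) : ℂ) := by rw [← h1]; norm_num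
    exact_mod_cast h2
  have hne : l ≠ BW11.one G := by
    intro h0; rw [h0, hn1] at hnl; norm_num at hnl
  obtain ⟨R, hR⟩ : ∃ R : Finset (IrrCharacter G), R = (Finset.univ.erase (BW11.one G)).erase l := ⟨_, rfl⟩
  have hsplit : ∀ F : IrrCharacter G → ℂ, ∑ χ : IrrCharacter G, F χ = F (BW11.one G) + F l + ∑ χ ∈ R, F χ := by
    intro F
    rw [hR, ← Finset.add_sum_erase Finset.univ F (Finset.mem_univ (BW11.one G)),
      ← Finset.add_sum_erase (Finset.univ.erase (BW11.one G)) F (Finset.mem_erase.2 ⟨hne, Finset.mem_univ l⟩)]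
    ring
  have hsplitZ : ∑ χ : IrrCharacter G, n χ ^ 2 = n (BW11.one G) ^ 2 + n l ^ 2 + ∑ χ ∈ R, n χ ^ 2 := by
    rw [hR, ← Finset.add_sum_erase Finset.univ _ (Finset.mem_univ (BW11.one G)),
      ← Finset.add_sum_erase (Finset.univ.erase (BW11.one G)) _ (Finset.mem_erase.2 ⟨hne, Finset.mem_univ l⟩)]
    ring
  have hR2 : ∑ χ ∈ R, n χ ^ 2 = 2 := by
    rw [hsq, hn1, hnl] at hsplitZ
    linarith
  obtain ⟨T, hT⟩ : ∃ T : Finset (IrrCharacter G), T = R.filter (fun χ => n χ ≠ 0) := ⟨_, rfl⟩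
  have hTsum : ∀ F : IrrCharacter G → ℂ, (∀ χ, n χ = 0 → F χ = 0) → ∑ χ ∈ R, F χ = ∑ χ ∈ T, F χ := by
    intro F hF
    rw [hT]
    symm
    apply Finset.sum_filter_of_ne
    intro χ _ h0 h1
    exact h0 (hF χ h1)
  have hle : ∀ χ ∈ R, n χ ^ 2 ≤ 2 := by
    intro χ hχ
    rw [← hR2]
    exact Finset.single_le_sum (f := fun χ => n χ ^ 2) (fun i _ => sq_nonneg _) hχ
  have hT1 : ∀ χ ∈ T, n χ = 1 ∨ n χ = -1 := by
    intro χ hχ
    rw [hT, Finset.mem_filter] at hχ
    have h1 := hle χ hχ.1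
    have h2 : -1 ≤ n χ := by nlinarith
    have h3 : n χ ≤ 1 := by nlinarith
    have := hχ.2
    omega
  have hTcard : T.card = 2 := by
    have h1 : ∑ χ ∈ R, n χ ^ 2 = ∑ χ ∈ T, n χ ^ 2 := by
      rw [hT]; symm
      apply Finset.sum_filter_of_ne
      intro χ _ h0 h1
      apply h0; rw [h1]; norm_num
    have h2 : ∑ χ ∈ T, n χ ^ 2 = ∑ χ ∈ T, 1 := by
      apply Finset.sum_congr rfl
      intro χ hχ
      rcases hT1 χ hχ with h3 | h3 <;> rw [h3] <;> norm_num
    rw [← h1, hR2, Finset.sum_const, nsmul_eq_mul, mul_one] at h2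
    exact_mod_cast h2.symm
  obtain ⟨i, j, hij, hTij⟩ := Finset.card_eq_two.1 hTcard
  have hi : n i = 1 ∨ n i = -1 := hT1 i (by rw [hTij]; exact Finset.mem_insert_self _ _)
  have hj : n j = 1 ∨ n j = -1 := hT1 j (by rw [hTij]; exact Finset.mem_insert_of_mem (Finset.mem_singleton_self _))
  have hsum : ∀ F : IrrCharacter G → ℂ, (∀ χ, n χ = 0 → F χ = 0) → ∑ χ : IrrCharacter G, F χ = F (BW11.one G) + F l + (F i + F j) := by
    intro F hF
    rw [hsplit, hTsum F hF, hTij, Finset.sum_pair hij]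
  -- orthogonality
  have horth : ∀ g ∈ N, (n i : ℂ) * (i : G → ℂ) g + n j * (j : G → ℂ) g = 0 := by
    intro g hg
    have h1 := column_orthogonality g x
    rw [if_neg (by
      intro hc
      obtain ⟨c, hc⟩ := isConj_iff.1 hc
      exact hxN (by rw [← hc]; exact hN.conj_mem g hg c)), hsum _ (by
      intro χ hχ; rw [hn, hχ]; simp), one_apply, one_apply, hl1 g hg, hl2 x hxN, hn i, hn j] at h1
    simp only [map_one, map_neg, map_intCast] at h1
    linear_combination h1
  obtain ⟨fi, hfi0, hfi⟩ := irr_one_nat i.2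
  obtain ⟨fj, hfj0, hfj⟩ := irr_one_nat j.2
  have h1 := horth 1 N.one_mem
  rw [hfi, hfj] at h1
  have hnij : n j = - n i ∧ fi = fj := by
    have h2 : ((n i * fi + n j * fj : ℤ) : ℂ) = ((0 : ℤ) : ℂ) := by push_cast; rw [← h1]
    have h3 : n i * fi + n j * fj = 0 := by exact_mod_cast h2
    rcases hi with h4 | h4 <;> rcases hj with h5 | h5 <;> rw [h4, h5] at h3 <;> rw [h4, h5] <;> constructor <;> push_cast at * <;> omega
  obtain ⟨hnj, hfij⟩ := hnij
  have hni0 : (n i : ℂ) ≠ 0 := by rcases hi with h4 | h4 <;> rw [h4] <;> norm_num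
  have hval : ∀ g ∈ N, (j : G → ℂ) g = (i : G → ℂ) g := by
    intro g hg
    have h2 := horth g hg
    rw [hnj] at h2
    push_cast at h2
    have h3 : (n i : ℂ) * ((i : G → ℂ) g - (j : G → ℂ) g) = 0 := by linear_combination h2
    rcases mul_eq_zero.1 h3 with h4 | h4
    · exact absurd h4 hni0
    · exact (sub_eq_zero.1 h4).symm
  -- class multiplication
  have hsqi : (n i : ℂ) ^ 2 = 1 := by rcases hi with h4 | h4 <;> rw [h4] <;> norm_num
  have hsqj : (n j : ℂ) ^ 2 = 1 := by rcases hj with h4 | h4 <;> rw [h4] <;> norm_num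
  have hG0 : (Nat.card G : ℂ) ≠ 0 := by exact_mod_cast Nat.card_pos.ne'
  have hfC : (fi : ℂ) ≠ 0 := by exact_mod_cast hfi0.ne'
  have hmul : ∀ g ∈ N, (Nat.card G : ℂ) * (i : G → ℂ) g = fi * (8 * NN x g - Nat.card G) := by
    intro g hg
    have h2 := CfsgLib.Di11.class_mul x g
    rw [hC, hsum _ (by intro χ hχ; rw [hn, hχ]; simp), one_apply, one_apply, one_apply, hl1 g hg, hl2 x hxN, hl1 1 N.one_mem, hn i, hn j,
      hval g hg, hfi, hfj, ← hfij] at h2
    simp only [map_div₀, map_mul, map_one, map_neg, map_intCast, Complex.conj_natCast] at h2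
    have h3 : 2 + 2 * (conj ((i : G → ℂ) g) / fi) = 16 * (NN x g : ℂ) / Nat.card G := by
      have e : (16 : ℂ) = ((4 : ℕ) : ℂ) ^ 2 := by norm_num
      rw [e]
      rw [show (Nat.card {s // IsConj x s ∧ IsConj x (s * g)} : ℂ) = (NN x g : ℂ) from rfl] at h2
      rw [← h2]
      have e1 : (n i : ℂ) * (n i * conj ((i : G → ℂ) g) / fi) = (n i : ℂ) ^ 2 * (conj ((i : G → ℂ) g) / fi) := by ring
      have e2 : (n j : ℂ) * (n j * conj ((i : G → ℂ) g) / fi) = (n j : ℂ) ^ 2 * (conj ((i : G → ℂ) g) / fi) := by ring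
      rw [e1, e2, hsqi, hsqj]; ring
    have h4 : conj ((i : G → ℂ) g) * Nat.card G = fi * (8 * NN x g - Nat.card G) := by
      field_simp at h3
      linear_combination (1 / 2) * h3
    have h5 := congrArg conj h4
    rw [map_mul, Complex.conj_conj, map_natCast] at h5
    rw [mul_comm, h5]
    simp only [map_mul, map_sub, map_natCast, map_ofNat]
  -- the multiplicity of the trivial character
  obtain ⟨m, hm⟩ := char_mult (isCharacter_restrict (irr_isCharacter i.2) A) (irr_isCharacter (BW11.one A).2)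
  have h2 : (∑ g : A, (i : G → ℂ) g) = Nat.card A * m := by
    rw [← hm]
    unfold classInner
    rw [← mul_assoc, mul_inv_cancel₀ (by exact_mod_cast Nat.card_pos.ne'), one_mul]
    apply Finset.sum_congr rfl
    intro g _
    rw [one_apply, map_one, mul_one]
  have h3 : (Nat.card G : ℂ) * ∑ g : A, (i : G → ℂ) g = fi * (8 * ∑ g : A, (NN x (g : G) : ℂ) - Nat.card A * Nat.card G) := by
    rw [Finset.mul_sum, Finset.sum_congr rfl fun (g : A) _ => hmul (g : G) (hA g.2), ← Finset.mul_sum, Finset.sum_sub_distrib, ← Finset.mul_sum,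
      Finset.sum_const, Finset.card_univ, nsmul_eq_mul, ← Nat.card_eq_fintype_card]
  rw [h2] at h3
  have h4 : ((Nat.card G * (Nat.card A * m) : ℤ) : ℂ) = ((fi * (8 * (∑ g : A, NN x (g : G) : ℕ) - Nat.card A * Nat.card G) : ℤ) : ℂ) := by
    push_cast
    rw [h3]
  have h5 : (Nat.card G * (Nat.card A * m) : ℤ) = fi * (8 * (∑ g : A, NN x (g : G) : ℕ) - Nat.card A * Nat.card G) := by exact_mod_cast h4
  have h6 : (0 : ℤ) ≤ fi * (8 * (∑ g : A, NN x (g : G) : ℕ) - Nat.card A * Nat.card G) := by rw [← h5]; positivity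
  have h7 : (0 : ℤ) ≤ 8 * (∑ g : A, NN x (g : G) : ℕ) - Nat.card A * Nat.card G :=
    nonneg_of_mul_nonneg_right h6 (by exact_mod_cast hfi0)
  have h8 : ((Nat.card A * Nat.card G : ℕ) : ℤ) ≤ ((8 * ∑ g : A, NN x (g : G) : ℕ) : ℤ) := by push_cast at h7 ⊢; linarith
  exact_mod_cast h8

end
end CfsgLib.KF11
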