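import Cfsg.Agent.EqBase
import Cfsg.Agent.LibInvol
import Cfsg.Agent.LibZG1
/-!
# Isolated subgroups with central involutions (helper16): the permutation representation is of Zassenhaus type
-/
set_option autoImplicit false
set_option linter.all false
open Cfsg MulAction
open scoped Pointwise
namespace CfsgLib.TZ

universe u v

/-- `M` is normal in the point stabilizer, contains the centralizers of its elements; its involutions are central, and there are at least two of them -/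
structure TZ (G : Type u) (Ω : Type v) [Group G] [MulAction G Ω] (a : Ω) (M : Subgroup G) : Prop where
  htr : ∀ c : Ω, ∃ g : G, g • a = c
  hMa : ∀ x ∈ M, x • a = a
  hnorm : ∀ g : G, g • a = a → ∀ x ∈ M, g * x * g⁻¹ ∈ M
  hC : ∀ x ∈ M, x ≠ 1 → ∀ y : G, y * x = x * y → y ∈ M
  hfix : ∀ x ∈ M, x ≠ 1 → ∀ c : Ω, x • c = c → c = a
  hcen : ∀ t ∈ M, t * t = 1 → ∀ x ∈ M, t * x = x * t
  hinv : ∃ t ∈ M, ∃ t' ∈ M, t * t = 1 ∧ t' * t' = 1 ∧ t ≠ 1 ∧ t' ≠ 1 ∧ t ≠ t'
  hb : ∃ b : Ω, b ≠ a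

theorem ord2 {G : Type u} [Group G] {s : G} (hs : s * s = 1) (hs1 : s ≠ 1) : orderOf s = 2 := by
  haveI := Fact.mk Nat.prime_two
  exact orderOf_eq_prime (by rw [pow_two]; exact hs) hs1

namespace TZ
variable {G : Type u} {Ω : Type v} [Group G] [MulAction G Ω] {a : Ω} {M : Subgroup G} (T : TZ G Ω a M)
include T

theorem conj (g : G) : TZ G Ω (g • a) (M.map (MulAut.conj g).toMonoidHom) := by
  have hm : ∀ x : G, x ∈ M.map (MulAut.conj g).toMonoidHom ↔ g⁻¹ * x * g ∈ M := by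
    intro x
    rw [Subgroup.mem_map]
    constructor
    · rintro ⟨y, hy, rfl⟩
      have : g⁻¹ * ((MulAut.conj g).toMonoidHom y) * g = y := by
        show g⁻¹ * (g * y * g⁻¹) * g = y
        group
      rw [this]; exact hy
    · intro h
      refine ⟨g⁻¹ * x * g, h, ?_⟩
      show g * (g⁻¹ * x * g) * g⁻¹ = x
      group
  have hne : ∀ x : G, x ≠ 1 → g⁻¹ * x * g ≠ 1 := by
    intro x hx h
    apply hx
    have : x = g * (g⁻¹ * x * g) * g⁻¹ := by group
    rw [this, h]; group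
  refine ⟨?_, ?_, ?_, ?_, ?_, ?_, ?_, ?_⟩
  · intro c
    obtain ⟨k, hk⟩ := T.htr c
    exact ⟨k * g⁻¹, by rw [mul_smul, inv_smul_smul, hk]⟩
  · intro x hx
    rw [hm] at hx
    have h1 := T.hMa _ hx
    rw [mul_smul, mul_smul, inv_smul_eq_iff] at h1
    exact h1
  · intro k hk x hx
    rw [hm] at hx ⊢
    have h1 := T.hnorm (g⁻¹ * k * g) (by rw [mul_smul, mul_smul, hk, inv_smul_smul]) _ hx
    have h2 : g⁻¹ * (k * x * k⁻¹) * g = (g⁻¹ * k * g) * (g⁻¹ * x * g) * (g⁻¹ * k * g)⁻¹ := by group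
    rw [h2]; exact h1
  · intro x hx hx1 y hy
    rw [hm] at hx ⊢
    apply T.hC _ hx (hne x hx1)
    calc g⁻¹ * y * g * (g⁻¹ * x * g) = g⁻¹ * (y * x) * g := by group
      _ = g⁻¹ * (x * y) * g := by rw [hy]
      _ = g⁻¹ * x * g * (g⁻¹ * y * g) := by group
  · intro x hx hx1 c hc
    rw [hm] at hx
    have h1 := T.hfix _ hx (hne x hx1) (g⁻¹ • c) (by rw [mul_smul, mul_smul, smul_inv_smul, hc])
    rw [← h1, smul_inv_smul]
  · intro t ht htt x hx
    rw [hm] at ht hx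
    have h1 := T.hcen _ ht (by
      calc g⁻¹ * t * g * (g⁻¹ * t * g) = g⁻¹ * (t * t) * g := by group
        _ = 1 := by rw [htt]; group) _ hx
    calc t * x = g * ((g⁻¹ * t * g) * (g⁻¹ * x * g)) * g⁻¹ := by group
      _ = g * ((g⁻¹ * x * g) * (g⁻¹ * t * g)) * g⁻¹ := by rw [h1]
      _ = x * t := by group
  · obtain ⟨t, ht, t', ht', htt, htt', ht1, ht1', hne'⟩ := T.hinv
    have key : ∀ t ∈ M, g * t * g⁻¹ ∈ M.map (MulAut.conj g).toMonoidHom := by
      intro t ht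
      rw [hm]
      have : g⁻¹ * (g * t * g⁻¹) * g = t := by group
      rw [this]; exact ht
    have inj : ∀ x y : G, g * x * g⁻¹ = g * y * g⁻¹ → x = y := by
      intro x y h
      exact mul_left_cancel (mul_right_cancel h)
    refine ⟨_, key t ht, _, key t' ht', ?_, ?_, ?_, ?_, ?_⟩
    · calc g * t * g⁻¹ * (g * t * g⁻¹) = g * (t * t) * g⁻¹ := by group
        _ = 1 := by rw [htt]; group
    · calc g * t' * g⁻¹ * (g * t' * g⁻¹) = g * (t' * t') * g⁻¹ := by group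
        _ = 1 := by rw [htt']; group
    · intro h; exact ht1 (inj t 1 (by rw [h]; group))
    · intro h; exact ht1' (inj t' 1 (by rw [h]; group))
    · intro h; exact hne' (inj t t' h)
  · obtain ⟨b, hb⟩ := T.hb
    exact ⟨g • b, fun h => hb (MulAction.injective g h)⟩

theorem at_pt (c : Ω) : ∃ M' : Subgroup G, TZ G Ω c M' := by
  obtain ⟨g, rfl⟩ := T.htr c
  exact ⟨_, T.conj g⟩

variable [Finite G]

/-- involutions fixing `a` are in `M` -/
theorem inv_mem {s : G} (hs : s * s = 1) (hs1 : s ≠ 1) (hsa : s • a = a) : s ∈ M := by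
  classical
  by_contra hsM
  obtain ⟨t, ht, -, -, htt, -, ht1, -⟩ := T.hinv
  have hsi : s⁻¹ = s := inv_eq_of_mul_eq_one_left hs
  have hsx : ∀ x ∈ M, s * x * s ∈ M := fun x hx => by
    have := T.hnorm s hsa x hx
    rwa [hsi] at this
  let φ : M → M := fun x => ⟨(x : G)⁻¹ * (s * x * s), M.mul_mem (M.inv_mem x.2) (hsx x x.2)⟩
  have hφ : Function.Injective φ := by
    rintro ⟨x, hx⟩ ⟨y, hy⟩ h
    have h1 : x⁻¹ * (s * x * s) = y⁻¹ * (s * y * s) := congrArg Subtype.val h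
    have h2 : s * (y * x⁻¹) = (y * x⁻¹) * s := by
      calc s * (y * x⁻¹) = (s * y * s) * (s⁻¹ * x⁻¹) := by rw [hsi]; calc
              s * (y * x⁻¹) = s * y * (1 : G) * x⁻¹ := by group
              _ = s * y * (s * s) * x⁻¹ := by rw [hs]
              _ = s * y * s * (s * x⁻¹) := by group
        _ = y * (y⁻¹ * (s * y * s)) * (s⁻¹ * x⁻¹) := by group
        _ = y * (x⁻¹ * (s * x * s)) * (s⁻¹ * x⁻¹) := by rw [h1]
        _ = y * x⁻¹ * s := by group
    by_contra hne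
    apply hsM
    refine T.hC (y * x⁻¹) (M.mul_mem hy (M.inv_mem hx)) ?_ s h2
    intro h3
    exact hne (Subtype.ext (mul_inv_eq_one.mp h3).symm)
  obtain ⟨⟨x, hx⟩, h⟩ := Finite.injective_iff_surjective.mp hφ ⟨t, ht⟩
  have h1 : x⁻¹ * (s * x * s) = t := congrArg Subtype.val h
  have h2 : s * t * s = t⁻¹ := by
    rw [← h1, mul_inv_rev, mul_inv_rev, mul_inv_rev, inv_inv, hsi]
    calc s * (x⁻¹ * (s * x * s)) * s = s * x⁻¹ * s * x * (s * s) := by group
      _ = s * (x⁻¹ * s) * x := by rw [hs]; group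
  have hti : t⁻¹ = t := inv_eq_of_mul_eq_one_left htt
  rw [hti] at h2
  apply hsM
  apply T.hC t ht ht1
  calc s * t = s * t * (s * s) := by rw [hs, mul_one]
    _ = (s * t * s) * s := by group
    _ = t * s := by rw [h2]

/-- any two involutions are conjugate -/
theorem inv_conj {s t : G} (hs : s * s = 1) (hs1 : s ≠ 1) (hsa : s • a ≠ a) (ht : t * t = 1) (ht1 : t ≠ 1) (hta : t • a = a) : ∃ d : G, d * s * d⁻¹ = t := by
  have htM := T.inv_mem ht ht1 hta
  have hso := ord2 hs hs1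
  have hto := ord2 ht ht1
  by_cases hodd : Odd (orderOf (s * t))
  · obtain ⟨d, -, hd⟩ := CfsgLib.Invol.conj_of_odd hso hto hodd
    exact ⟨d, hd⟩
  exfalso
  rw [Nat.not_odd_iff_even] at hodd
  obtain ⟨m, hm⟩ := hodd
  have hpos : 0 < orderOf (s * t) := orderOf_pos _
  have hm0 : 0 < m := by omega
  obtain ⟨z, hz⟩ : ∃ z, z = (s * t) ^ m := ⟨_, rfl⟩
  have hzz : z * z = 1 := by rw [hz, ← pow_add, ← hm, pow_orderOf_eq_one]
  have hz1 : z ≠ 1 := by
    intro h
    rw [hz] at h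
    have := orderOf_le_of_pow_eq_one hm0 h
    omega
  have hzi : z⁻¹ = z := inv_eq_of_mul_eq_one_left hzz
  have hsi : s⁻¹ = s := inv_eq_of_mul_eq_one_left hs
  have hti : t⁻¹ = t := inv_eq_of_mul_eq_one_left ht
  have h1 : s * z * s⁻¹ = z⁻¹ := by
    rw [hz, ← conj_pow, ← inv_pow]
    congr 1
    rw [mul_inv_rev, hsi, hti]
    calc s * (s * t) * s = (s * s) * t * s := by group
      _ = t * s := by rw [hs, one_mul]
  have hsz : s * z = z * s := by
    rw [hzi] at h1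
    calc s * z = s * z * s⁻¹ * s := by group
      _ = z * s := by rw [h1]
  have h2 : t * z * t⁻¹ = z⁻¹ := by
    rw [hz, ← conj_pow, ← inv_pow]
    congr 1
    rw [mul_inv_rev, hsi, hti]
    calc t * (s * t) * t = t * s * (t * t) := by group
      _ = t * s := by rw [ht, mul_one]
  have htz : t * z = z * t := by
    rw [hzi] at h2
    calc t * z = t * z * t⁻¹ * t := by group
      _ = z * t := by rw [h2]
  have hzM : z ∈ M := T.hC t htM ht1 z htz.symm
  have hsM : s ∈ M := T.hC z hzM hz1 s hsz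
  exact hsa (T.hMa s hsM)

/-- an involution fixes a point -/
theorem exists_fix {s : G} (hs : s * s = 1) (hs1 : s ≠ 1) : ∃ c : Ω, s • c = c := by
  by_cases hsa : s • a = a
  · exact ⟨a, hsa⟩
  obtain ⟨t, ht, -, -, htt, -, ht1, -⟩ := T.hinv
  obtain ⟨d, hd⟩ := T.inv_conj hs hs1 hsa htt ht1 (T.hMa t ht)
  refine ⟨d⁻¹ • a, ?_⟩
  have h1 : s = d⁻¹ * t * d := by rw [← hd]; group
  rw [h1, mul_smul, smul_inv_smul, mul_smul, T.hMa t ht]

/-- an involution fixes a single point -/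
theorem fix_unique {s : G} (hs : s * s = 1) (hs1 : s ≠ 1) {c d : Ω} (hc : s • c = c) (hd : s • d = d) : d = c := by
  obtain ⟨M', T'⟩ := T.at_pt c
  exact T'.hfix s (T'.inv_mem hs hs1 hc) hs1 d hd

theorem ti {g x : G} (hx : x ∈ M) (hx1 : x ≠ 1) (h : g * x * g⁻¹ ∈ M) : g • a = a := by
  have h1 : g * x * g⁻¹ ≠ 1 := by
    intro h2
    apply hx1
    have : x = g⁻¹ * (g * x * g⁻¹) * g := by group
    rw [this, h2]; group
  apply T.hfix _ h h1
  rw [mul_smul, inv_smul_smul, mul_smul, T.hMa x hx]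

theorem inv_conj' {s t : G} (hs : s * s = 1) (hs1 : s ≠ 1) (hsa : s • a = a) (ht : t * t = 1) (ht1 : t ≠ 1) (hta : t • a = a) :
    ∃ d : G, d • a = a ∧ d * s * d⁻¹ = t := by
  obtain ⟨b, hb⟩ := T.hb
  obtain ⟨g, rfl⟩ := T.htr b
  have hconj : ∀ s : G, s * s = 1 → s ≠ 1 → s • a = a → (g * s * g⁻¹) * (g * s * g⁻¹) = 1 ∧ g * s * g⁻¹ ≠ 1 ∧ (g * s * g⁻¹) • a ≠ a := by
    intro s hs hs1 hsa
    have e1 : (g * s * g⁻¹) * (g * s * g⁻¹) = 1 := by
      calc (g * s * g⁻¹) * (g * s * g⁻¹) = g * (s * s) * g⁻¹ := by group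
        _ = 1 := by rw [hs]; group
    have e2 : g * s * g⁻¹ ≠ 1 := by
      intro h2
      apply hs1
      have : s = g⁻¹ * (g * s * g⁻¹) * g := by group
      rw [this, h2]; group
    refine ⟨e1, e2, fun h => hb ?_⟩
    exact T.fix_unique e1 e2 h (by rw [mul_smul, inv_smul_smul, mul_smul, hsa])
  obtain ⟨e1, e2, e3⟩ := hconj s hs hs1 hsa
  obtain ⟨d, hd⟩ := T.inv_conj e1 e2 e3 ht ht1 hta
  have h5 : (d * g) * s * (d * g)⁻¹ = t := by rw [← hd]; group
  refine ⟨d * g, T.ti (T.inv_mem hs hs1 hsa) hs1 (by rw [h5]; exact T.inv_mem ht ht1 hta), h5⟩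

end TZ
end CfsgLib.TZ
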