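import Cfsg.Agent.EqBase
import Cfsg.Agent.LibSzk9
/-!
# Suzuki 2-groups X: coordinates for groups of order q^2 (helper16)
-/
set_option autoImplicit false
set_option linter.all false
namespace CfsgLib.Szk

universe u v

variable {P : Type u} {K : Type v} [Group P] [Finite P] [CommGroup K] [MulDistribMulAction K P]

section
variable (S : Suz P K) (hna : ∃ x y : P, x * y ≠ y * x)
include S hna

/-- `K` is transitive on the non-trivial elements of `P / Z` when `|P| = q^2` -/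
theorem Suz.trans_quot (hq : Nat.card P = Nat.card S.Z ^ 2) {F : Type} [Field F] [Finite F] [Algebra (ZMod 2) F] (C : Crd P K F) {x y : P} (hx : x ∉ S.Z) (hy : y ∉ S.Z) :
    ∃ k : K, (k • x)⁻¹ * y ∈ S.Z := by
  classical
  haveI := S.Z_normal hna
  obtain ⟨-, hfin⟩ := card_K_odd S C
  haveI := Fintype.ofFinite K
  haveI := Fintype.ofFinite P
  have hZpos : 0 < Nat.card S.Z := Nat.card_pos
  let f : K → {v : P ⧸ S.Z // v ≠ 1} := fun k => ⟨QuotientGroup.mk' S.Z (k • x), fun h => hx ((smul_mem_iff S.Z_inv k x).mp ((QuotientGroup.eq_one_iff _).mp h))⟩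
  have hf : Function.Injective f := by
    intro k l h
    have h1 : QuotientGroup.mk' S.Z (k • x) = QuotientGroup.mk' S.Z (l • x) := congrArg Subtype.val h
    have h2 : (k • x)⁻¹ * (l • x) ∈ S.Z := QuotientGroup.eq.mp h1
    have h3 := S.Z_inv k⁻¹ _ h2
    rw [smul_mul', smul_inv', inv_smul_smul, ← mul_smul] at h3
    by_contra hkl
    apply hx
    exact S.fq S.Z_inv (k := k⁻¹ * l) (fun h => hkl (inv_mul_eq_one.mp h)) h3
  have hcard : Nat.card {v : P ⧸ S.Z // v ≠ 1} ≤ Nat.card K := by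
    have h1 : Nat.card (P ⧸ S.Z) = Nat.card S.Z := by
      have h2 := Subgroup.card_eq_card_quotient_mul_card_subgroup S.Z
      rw [hq, pow_two] at h2
      exact (Nat.eq_of_mul_eq_mul_right hZpos h2).symm
    have h3 : Nat.card {v : P ⧸ S.Z // v ≠ 1} + 1 = Nat.card (P ⧸ S.Z) := by
      rw [Nat.card_eq_fintype_card, Nat.card_eq_fintype_card, Fintype.card_subtype_compl, Fintype.card_subtype_eq]
      have : 0 < Fintype.card (P ⧸ S.Z) := Fintype.card_pos
      omega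
    have h4 : Nat.card K + 1 = Nat.card S.Z := by
      haveI : Fintype F := Fintype.ofFinite F
      let eK : K ≃ {z : F // z ≠ 0} := Equiv.ofBijective (fun k => ⟨C.κ k, C.κ_ne k⟩) ⟨fun k l h => C.κi (congrArg Subtype.val h),
        fun z => by obtain ⟨k, hk⟩ := C.κs z z.2; exact ⟨k, Subtype.ext hk⟩⟩
      have hcardF : Nat.card F = Nat.card S.Z :=
        Nat.card_congr (Equiv.ofBijective (fun z => (⟨C.φ z, C.sq z⟩ : S.Z)) ⟨fun x y h => C.inj (congrArg Subtype.val h),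
          fun u => by obtain ⟨z, hz⟩ := C.surj u u.2; exact ⟨z, Subtype.ext hz⟩⟩)
      rw [Nat.card_congr eK, ← hcardF, Nat.card_eq_fintype_card, Nat.card_eq_fintype_card, Fintype.card_subtype_compl, Fintype.card_subtype_eq]
      have : 0 < Fintype.card F := Fintype.card_pos
      omega
    omega
  have hsurj : Function.Surjective f := (Function.Injective.bijective_of_nat_card_le hf hcard).2
  obtain ⟨k, hk⟩ := hsurj ⟨QuotientGroup.mk' S.Z y, fun h => hy ((QuotientGroup.eq_one_iff _).mp h)⟩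
  exact ⟨k, QuotientGroup.eq.mp (congrArg Subtype.val hk)⟩

/-- field coordinates for `P / Z` -/
theorem Suz.exists_psi (hq : Nat.card P = Nat.card S.Z ^ 2) {F : Type} [Field F] [Fintype F] [Algebra (ZMod 2) F] (C : Crd P K F) :
    ∃ (ψ : P → F) (κ' : K →* F), (∀ x y, ψ (x * y) = ψ x + ψ y) ∧ (∀ x, ψ x = 0 ↔ x ∈ S.Z) ∧ Function.Surjective ψ ∧
      (∀ (k : K) (x : P), ψ (k • x) = κ' k * ψ x) := by
  classical
  haveI := S.Z_normal hna
  have hv : ∀ v : P ⧸ S.Z, v * v = 1 := by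
    intro v
    obtain ⟨x, rfl⟩ := QuotientGroup.mk'_surjective S.Z v
    rw [← map_mul]
    exact (QuotientGroup.eq_one_iff _).mpr (S.sq_mem hna x)
  letI cg : CommGroup (P ⧸ S.Z) := { (inferInstance : Group (P ⧸ S.Z)) with
    mul_comm := fun v w => by
      have h1 := hv (v * w)
      have h2 : (v * w) * (v * w) * (w * v) = v * w * (v * (w * w) * v) := by group
      rw [h1, hv w, mul_one, hv v, one_mul, mul_one] at h2
      exact h2.symm }
  letI act : MulDistribMulAction K (P ⧸ S.Z) := CfsgLib.H7Masch.quotAct S.Z S.Z_inv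
  have hact : ∀ (k : K) (x : P), k • (QuotientGroup.mk' S.Z x) = QuotientGroup.mk' S.Z (k • x) := fun k x => rfl
  let ρ : K →* AddMonoid.End (Additive (P ⧸ S.Z)) :=
    { toFun := fun k =>
        { toFun := fun u => Additive.ofMul (k • u.toMul)
          map_zero' := by
            show Additive.ofMul (k • (1 : P ⧸ S.Z)) = 0
            rw [smul_one]; rfl
          map_add' := fun u w => by
            show Additive.ofMul (k • (u.toMul * w.toMul)) = _
            rw [smul_mul']; rfl }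
      map_one' := by
        apply AddMonoidHom.ext
        intro u
        show Additive.ofMul ((1 : K) • u.toMul) = u
        rw [one_smul]; rfl
      map_mul' := fun x y => by
        apply AddMonoidHom.ext
        intro u
        show Additive.ofMul ((x * y) • u.toMul) = Additive.ofMul (x • y • u.toMul)
        rw [mul_smul] }
  obtain ⟨x₀, hx₀⟩ : ∃ x₀ : P, x₀ ∉ S.Z := by
    by_contra hcon
    push Not at hcon
    obtain ⟨x, y, hxy⟩ := hna
    exact hxy (S.Z_comm (hcon x) y)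
  have hirr : ∀ B : AddSubgroup (Additive (P ⧸ S.Z)), (∀ x : K, ∀ u ∈ B, ρ x u ∈ B) → B = ⊥ ∨ B = ⊤ := by
    intro B hB
    by_cases hB0 : B = ⊥
    · exact Or.inl hB0
    right
    obtain ⟨u, hu, hu0⟩ := (AddSubgroup.bot_or_exists_ne_zero B).resolve_left hB0
    rw [eq_top_iff]
    intro w _
    by_cases hw : w = 0
    · rw [hw]; exact B.zero_mem
    obtain ⟨x, hx⟩ := QuotientGroup.mk'_surjective S.Z u.toMul
    obtain ⟨y, hy⟩ := QuotientGroup.mk'_surjective S.Z w.toMul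
    have h1 : x ∉ S.Z := fun h => hu0 (Additive.toMul.injective (by rw [← hx]; exact (QuotientGroup.eq_one_iff x).mpr h))
    have h2 : y ∉ S.Z := fun h => hw (Additive.toMul.injective (by rw [← hy]; exact (QuotientGroup.eq_one_iff y).mpr h))
    obtain ⟨k, hk⟩ := S.trans_quot hna hq C h1 h2
    have h3 : ρ k u = w := by
      apply Additive.toMul.injective
      show k • u.toMul = w.toMul
      rw [← hx, ← hy, hact]
      exact QuotientGroup.eq.mpr hk
    rw [← h3]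
    exact hB k u hu
  have ha₀ : (Additive.ofMul (QuotientGroup.mk' S.Z x₀)) ≠ 0 := fun h => hx₀ ((QuotientGroup.eq_one_iff x₀).mp (congrArg Additive.toMul h))
  obtain ⟨F', iF, iFF, φ', κ', -, h⟩ := CfsgLib.Zas.exists_field ρ mul_comm hirr _ ha₀
  have hZpos : 0 < Nat.card S.Z := Nat.card_pos
  have hcF' : Fintype.card F' = Fintype.card F := by
    rw [← Nat.card_eq_fintype_card, ← Nat.card_eq_fintype_card, Nat.card_congr φ'.toEquiv]
    have h1 : Nat.card (P ⧸ S.Z) = Nat.card S.Z := by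
      have h2 := Subgroup.card_eq_card_quotient_mul_card_subgroup S.Z
      rw [hq, pow_two] at h2
      exact (Nat.eq_of_mul_eq_mul_right hZpos h2).symm
    have hcardF : Nat.card F = Nat.card S.Z :=
      Nat.card_congr (Equiv.ofBijective (fun z => (⟨C.φ z, C.sq z⟩ : S.Z)) ⟨fun x y h => C.inj (congrArg Subtype.val h),
        fun u => by obtain ⟨z, hz⟩ := C.surj u u.2; exact ⟨z, Subtype.ext hz⟩⟩)
    rw [hcardF, ← h1]; rfl
  obtain ⟨θ⟩ : Nonempty (F' ≃+* F) := ⟨FiniteField.ringEquivOfCardEq hcF'⟩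
  refine ⟨fun x => θ (φ'.symm (Additive.ofMul (QuotientGroup.mk' S.Z x))), (θ : F' →* F).comp κ', ?_, ?_, ?_, ?_⟩
  · intro x y
    rw [← map_add, ← map_add]; rfl
  · intro x
    rw [map_eq_zero_iff _ θ.injective, map_eq_zero_iff _ φ'.symm.injective]
    constructor
    · intro h
      exact (QuotientGroup.eq_one_iff x).mp (congrArg Additive.toMul h)
    · intro h
      exact congrArg Additive.ofMul ((QuotientGroup.eq_one_iff x).mpr h)
  · intro w
    obtain ⟨x, hx⟩ := QuotientGroup.mk'_surjective S.Z (φ' (θ.symm w)).toMul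
    refine ⟨x, ?_⟩
    show θ (φ'.symm (Additive.ofMul (QuotientGroup.mk' S.Z x))) = w
    rw [hx]
    show θ (φ'.symm (φ' (θ.symm w))) = w
    rw [AddEquiv.symm_apply_apply, RingEquiv.apply_symm_apply]
  · intro k x
    have h1 := h k (φ'.symm (Additive.ofMul (QuotientGroup.mk' S.Z x)))
    rw [AddEquiv.apply_symm_apply] at h1
    have h2 : φ'.symm (ρ k (Additive.ofMul (QuotientGroup.mk' S.Z x))) = κ' k * φ'.symm (Additive.ofMul (QuotientGroup.mk' S.Z x)) := by
      rw [h1, AddEquiv.symm_apply_apply]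
    show θ (φ'.symm (ρ k (Additive.ofMul (QuotientGroup.mk' S.Z x)))) = θ (κ' k) * _
    rw [h2, map_mul]

/-- the squaring map is `a w φ(w)` -/
theorem Suz.typeA_data (hq : Nat.card P = Nat.card S.Z ^ 2) {F : Type} [Field F] [Fintype F] [Algebra (ZMod 2) F] (C : Crd P K F) :
    ∃ (ψ : P → F) (φ : F ≃ₐ[ZMod 2] F) (a : F), a ≠ 0 ∧ (∀ x y, ψ (x * y) = ψ x + ψ y) ∧ (∀ x, ψ x = 0 ↔ x ∈ S.Z) ∧ Function.Surjective ψ ∧
      (∀ x, C.log (x * x) = a * (ψ x * φ (ψ x))) ∧ φ ≠ AlgEquiv.refl ∧ (∀ w : F, w * φ w = 1 → w = 1) := by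
  classical
  obtain ⟨ψ, κ', hψ, hψ0, hψs, hψk⟩ := S.exists_psi hna hq C
  have hκ'0 : ∀ k, κ' k ≠ 0 := by
    intro k h0
    have h1 : κ' k * κ' k⁻¹ = 1 := by rw [← map_mul, mul_inv_cancel, map_one]
    rw [h0, zero_mul] at h1
    exact zero_ne_one h1
  have hsq := S.sq_mem hna
  have hcm := S.cm_mem hna
  have hZc : ∀ z ∈ S.Z, ∀ g, g⁻¹ * z * g = z := fun z hz g => by rw [mul_assoc, S.Z_comm hz g]; group
  have hcmz : ∀ x y z : P, cm (x * y) z = cm x z * cm y z := fun x y z => by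
    rw [cm_mul_left, hZc _ (hcm x z) y]
  have hcmr : ∀ x y z : P, cm x (y * z) = cm x y * cm x z := fun x y z => by
    rw [cm_mul_right, hZc _ (hcm x y) z, S.Z_comm (hcm x z)]
  have hψ1 : ψ 1 = 0 := (hψ0 1).mpr S.Z.one_mem
  have hψinv : ∀ x, ψ x⁻¹ = ψ x := by
    intro x
    have h1 := hψ x x⁻¹
    rw [mul_inv_cancel, hψ1] at h1
    exact (eq_of_add h1.symm).symm
  have hψeq : ∀ x y, ψ x = ψ y → ∃ z ∈ S.Z, y = x * z := by
    intro x y h
    refine ⟨x⁻¹ * y, ?_, by group⟩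
    rw [← hψ0, hψ, hψinv, h]; exact add_self _
  have hsqc : ∀ x : P, ∀ z ∈ S.Z, (x * z) * (x * z) = x * x := by
    intro x z hz
    have h1 : (x * z) * (x * z) = x * (z * x) * z := by group
    rw [h1, S.Z_comm hz x]
    have h2 : x * (x * z) * z = (x * x) * (z * z) := by group
    rw [h2, show z * z = 1 from hz, mul_one]
  have hcml : ∀ x y : P, ∀ z ∈ S.Z, cm (x * z) y = cm x y := fun x y z hz => by
    rw [hcmz, cm_eq_one.mpr (S.Z_comm hz y), mul_one]
  have hcmr' : ∀ x y : P, ∀ z ∈ S.Z, cm x (y * z) = cm x y := fun x y z hz => by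
    rw [hcmr, cm_eq_one.mpr (S.Z_comm hz x).symm, mul_one]
  let sec : F → P := Function.surjInv hψs
  have hsec : ∀ w, ψ (sec w) = w := Function.surjInv_eq hψs
  let Q : F → F := fun w => C.log (sec w * sec w)
  have hQ : ∀ x, Q (ψ x) = C.log (x * x) := by
    intro x
    obtain ⟨z, hz, hzz⟩ := hψeq x (sec (ψ x)) (hsec _).symm
    show C.log (sec (ψ x) * sec (ψ x)) = _
    rw [hzz, hsqc x z hz]
  let B : F → F → F := fun v w => C.log (cm (sec v) (sec w))
  have hB : ∀ x y, B (ψ x) (ψ y) = C.log (cm x y) := by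
    intro x y
    obtain ⟨z, hz, hzz⟩ := hψeq x (sec (ψ x)) (hsec _).symm
    obtain ⟨z', hz', hzz'⟩ := hψeq y (sec (ψ y)) (hsec _).symm
    show C.log (cm (sec (ψ x)) (sec (ψ y))) = _
    rw [hzz, hzz', hcml x _ z hz, hcmr' x y z' hz']
  have hBr : ∀ v w w', B v (w + w') = B v w + B v w' := by
    intro v w w'
    obtain ⟨x, rfl⟩ := hψs v
    obtain ⟨y, rfl⟩ := hψs w
    obtain ⟨y', rfl⟩ := hψs w'
    rw [← hψ, hB, hB, hB, hcmr, C.log_mul (hcm _ _) (hcm _ _)]
  have hBl : ∀ v v' w, B (v + v') w = B v w + B v' w := by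
    intro v v' w
    obtain ⟨x, rfl⟩ := hψs v
    obtain ⟨x', rfl⟩ := hψs v'
    obtain ⟨y, rfl⟩ := hψs w
    rw [← hψ, hB, hB, hB, hcmz, C.log_mul (hcm _ _) (hcm _ _)]
  have hBk : ∀ (k : K) v w, B (κ' k * v) (κ' k * w) = C.κ k * B v w := by
    intro k v w
    obtain ⟨x, rfl⟩ := hψs v
    obtain ⟨y, rfl⟩ := hψs w
    rw [← hψk, ← hψk, hB, hB, ← smul_cm, C.log_smul k (hcm _ _)]
  have hQk : ∀ (k : K) w, Q (κ' k * w) = C.κ k * Q w := by
    intro k w
    obtain ⟨x, rfl⟩ := hψs w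
    rw [← hψk, hQ, hQ, ← smul_mul', C.log_smul k (hsq x)]
  have hκs : ∀ w : F, w ≠ 0 → ∃ k, κ' k = w := by
    intro w hw
    obtain ⟨k, hk⟩ := S.trans_quot hna hq C (x := sec 1) (y := sec w) (fun h => by
      have := (hψ0 _).mpr h; rw [hsec] at this; exact one_ne_zero this) (fun h => by
      have := (hψ0 _).mpr h; rw [hsec] at this; exact hw this)
    refine ⟨k, ?_⟩
    have h1 := (hψ0 _).mpr hk
    rw [hψ, hψinv, hψk, hsec, hsec, mul_one] at h1
    exact eq_of_add h1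
  -- coefficients
  choose γ hγ using fun v => exists_coeff (B v) (hBr v)
  have hγadd : ∀ v v', γ (v + v') = fun σ => γ v σ + γ v' σ := fun v v' => coeff_unique (fun w => by
    rw [← hγ, hBl, hγ, hγ, ← Finset.sum_add_distrib]
    exact Finset.sum_congr rfl fun σ _ => by ring)
  have hγk : ∀ (k : K) v, γ (κ' k * v) = fun σ => C.κ k * (σ (κ' k))⁻¹ * γ v σ := fun k v => coeff_unique (fun w => by
    rw [← hγ]
    have h2 : w = κ' k * ((κ' k)⁻¹ * w) := by rw [mul_inv_cancel_left₀ (hκ'0 k)]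
    conv_lhs => rw [h2]
    rw [hBk, hγ, Finset.mul_sum]
    refine Finset.sum_congr rfl fun σ _ => ?_
    rw [map_mul, map_inv₀]; ring)
  obtain ⟨x₁, y₁, hxy₁⟩ := hna
  have hna : ∃ x y : P, x * y ≠ y * x := ⟨x₁, y₁, hxy₁⟩
  have hB1 : B (ψ x₁) (ψ y₁) ≠ 0 := by
    rw [hB]
    intro h
    exact hxy₁ (cm_eq_one.mp ((C.log_eq_zero (hcm _ _)).mp h))
  obtain ⟨σ, hσ⟩ : ∃ σ, γ (ψ x₁) σ ≠ 0 := by
    by_contra hcon
    push Not at hcon
    apply hB1
    rw [hγ]
    exact Finset.sum_eq_zero fun σ _ => by rw [hcon, zero_mul]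
  have hg : γ 1 σ ≠ 0 := by
    intro h0
    have hv0 : ψ x₁ ≠ 0 := by
      intro h
      have h1 := hγadd 0 0
      rw [add_zero] at h1
      have h2 := congrFun h1 σ
      rw [h] at hσ
      exact hσ (left_eq_add.mp h2)
    obtain ⟨k, hk⟩ := hκs _ hv0
    have h1 := congrFun (hγk k 1) σ
    rw [mul_one, hk, h0, mul_zero] at h1
    exact hσ h1
  have hγ0 : γ 0 σ = 0 := by
    have h1 := hγadd 0 0
    rw [add_zero] at h1
    exact left_eq_add.mp (congrFun h1 σ)
  have hτk : ∀ k : K, γ (κ' k) σ * (γ 1 σ)⁻¹ = C.κ k * (σ (κ' k))⁻¹ := by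
    intro k
    have h1 := congrFun (hγk k 1) σ
    rw [mul_one] at h1
    rw [h1, mul_inv_cancel_right₀ hg]
  obtain ⟨τ, hτ⟩ := exists_aut (fun w => γ w σ * (γ 1 σ)⁻¹) (mul_inv_cancel₀ hg) (by
    intro v w
    by_cases hv : v = 0
    · rw [hv, zero_mul, hγ0, zero_mul, zero_mul]
    by_cases hw : w = 0
    · rw [hw, mul_zero, hγ0, zero_mul, mul_zero]
    obtain ⟨k, rfl⟩ := hκs v hv
    obtain ⟨l, rfl⟩ := hκs w hw
    show γ (κ' k * κ' l) σ * (γ 1 σ)⁻¹ = γ (κ' k) σ * (γ 1 σ)⁻¹ * (γ (κ' l) σ * (γ 1 σ)⁻¹)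
    rw [← map_mul, hτk, hτk, hτk, map_mul, map_mul, map_mul, mul_inv]; ring) (by
    intro v w
    show γ (v + w) σ * (γ 1 σ)⁻¹ = _
    rw [hγadd]; ring)
  have hκτ : ∀ k : K, C.κ k = σ (κ' k) * τ (κ' k) := by
    intro k
    have h1 : γ (κ' k) σ * (γ 1 σ)⁻¹ = τ (κ' k) := hτ _
    rw [hτk] at h1
    have h2 : σ (κ' k) ≠ 0 := (map_ne_zero σ).mpr (hκ'0 k)
    rw [← h1]; field_simp
  have hQ1 : Q 1 ≠ 0 := by
    intro h
    have h1 : sec 1 * sec 1 = 1 := (C.log_eq_zero (hsq _)).mp h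
    have h2 := (hψ0 (sec 1)).mpr h1
    rw [hsec] at h2
    exact one_ne_zero h2
  have hQ0 : Q 0 = 0 := by
    have h1 := hQ 1
    rw [hψ1, one_mul, C.log_one] at h1
    exact h1
  have hQw : ∀ w, Q w = Q 1 * (σ w * τ w) := by
    intro w
    by_cases hw : w = 0
    · rw [hw, hQ0, map_zero, zero_mul, mul_zero]
    obtain ⟨k, rfl⟩ := hκs w hw
    have h1 := hQk k 1
    rw [mul_one] at h1
    rw [h1, hκτ]; ring
  have hQB : ∀ v w, B v w = Q (v + w) + Q v + Q w := by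
    intro v w
    obtain ⟨x, rfl⟩ := hψs v
    obtain ⟨y, rfl⟩ := hψs w
    have h1 : Q (ψ x + ψ y) = Q (ψ x) + B (ψ x) (ψ y) + Q (ψ y) := by
      rw [← hψ, hQ, hQ, hQ, mul_sq', C.log_mul (S.Z.mul_mem (hsq x) (hcm x _)) (hsq y), C.log_mul (hsq x) (hcm x _), ← hB, hψinv]
    have h2 : (2 : F) = 0 := two_zero
    rw [h1]
    linear_combination (- Q (ψ x) - Q (ψ y)) * h2
  have hστ : σ ≠ τ := by
    rintro rfl
    apply hB1
    rw [hQB, hQw (ψ x₁ + ψ y₁), hQw (ψ x₁), hQw (ψ y₁), map_add]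
    have h2 : (2 : F) = 0 := two_zero
    linear_combination (Q 1 * (σ (ψ x₁) * σ (ψ x₁) + σ (ψ y₁) * σ (ψ y₁) + σ (ψ x₁) * σ (ψ y₁))) * h2
  refine ⟨fun x => σ (ψ x), σ.symm.trans τ, Q 1, hQ1, fun x y => by show σ (ψ (x * y)) = σ (ψ x) + σ (ψ y); rw [hψ, map_add], fun x => by show σ (ψ x) = 0 ↔ _; rw [map_eq_zero, hψ0],
    σ.surjective.comp hψs, fun x => ?_, ?_, ?_⟩
  · rw [← hQ, hQw]
    show Q 1 * (σ (ψ x) * τ (ψ x)) = Q 1 * (σ (ψ x) * τ (σ.symm (σ (ψ x))))
    rw [AlgEquiv.symm_apply_apply]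
  · intro h
    apply hστ
    ext w
    have h1 := congrArg (fun f : F ≃ₐ[ZMod 2] F => f (σ w)) h
    have h2 : τ (σ.symm (σ w)) = σ w := h1
    rw [AlgEquiv.symm_apply_apply] at h2
    exact h2.symm
  · intro w hw
    have hw0 : w ≠ 0 := by
      rintro rfl
      rw [zero_mul] at hw
      exact zero_ne_one hw
    obtain ⟨k, hk⟩ := hκs (σ.symm w) ((map_ne_zero σ.symm).mpr hw0)
    have h1 : C.κ k = 1 := by
      rw [hκτ, hk, AlgEquiv.apply_symm_apply]
      exact hw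
    have h2 : k = 1 := C.κi (by rw [h1, map_one])
    rw [h2, map_one] at hk
    have h3 := congrArg σ hk
    rw [map_one, AlgEquiv.apply_symm_apply] at h3
    exact h3.symm

end
end CfsgLib.Szk
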