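import Cfsg.Agent.EqBase
import Cfsg.Agent.LibSzk10
/-!
# Suzuki 2-groups XI: the groups of type A (helper16)
-/
set_option autoImplicit false
set_option linter.all false
namespace CfsgLib.Szk

universe u v

/-- carrier of a twisted product -/
structure Tw (P : Type u) (F : Type) where
  p : P
  u : F

theorem exists_cocycle {P : Type u} [Group P] {F : Type} [Field F] [Finite F] [Algebra (ZMod 2) F] (Z : Subgroup P) (hZc : ∀ z ∈ Z, ∀ g : P, z * g = g * z)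
    (ψ : P → F) (hψ : ∀ x y, ψ (x * y) = ψ x + ψ y) (hψ0 : ∀ x, ψ x = 0 ↔ x ∈ Z) (φ : F →+* F)
    (lg : P → F) (hlg : ∀ x ∈ Z, ∀ y ∈ Z, lg (x * y) = lg x + lg y) (hsqZ : ∀ x, x * x ∈ Z) (hsq : ∀ x, lg (x * x) = φ (ψ x) * ψ x) :
    ∃ f : P → F, (∀ x y, f (x * y) = f x + f y + φ (ψ x) * ψ y) ∧ ∀ z ∈ Z, f z = lg z := by
  classical
  haveI := Fact.mk Nat.prime_two
  have hψ1 : ψ 1 = 0 := (hψ0 1).mpr Z.one_mem
  have hψinv : ∀ x, ψ x⁻¹ = ψ x := by
    intro x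
    have h1 := hψ x x⁻¹
    rw [mul_inv_cancel, hψ1] at h1
    exact (eq_of_add h1.symm).symm
  have hlg1 : lg 1 = 0 := by
    have h1 := hlg 1 Z.one_mem 1 Z.one_mem
    rw [mul_one] at h1
    exact left_eq_add.mp h1
  letI : Mul (Tw P F) := ⟨fun a b => ⟨a.p * b.p, a.u + b.u + φ (ψ a.p) * ψ b.p⟩⟩
  letI : One (Tw P F) := ⟨⟨1, 0⟩⟩
  letI : Inv (Tw P F) := ⟨fun a => ⟨a.p⁻¹, a.u + φ (ψ a.p) * ψ a.p⟩⟩
  have hmul : ∀ a b : Tw P F, a * b = ⟨a.p * b.p, a.u + b.u + φ (ψ a.p) * ψ b.p⟩ := fun a b => rfl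
  letI grp : Group (Tw P F) := Group.ofLeftAxioms (by
      intro a b c
      show (⟨a.p * b.p * c.p, a.u + b.u + φ (ψ a.p) * ψ b.p + c.u + φ (ψ (a.p * b.p)) * ψ c.p⟩ : Tw P F) =
        ⟨a.p * (b.p * c.p), a.u + (b.u + c.u + φ (ψ b.p) * ψ c.p) + φ (ψ a.p) * ψ (b.p * c.p)⟩
      congr 1
      · exact mul_assoc _ _ _
      · rw [hψ, hψ, map_add]; ring) (by
      intro a
      show (⟨1 * a.p, 0 + a.u + φ (ψ 1) * ψ a.p⟩ : Tw P F) = a
      rw [one_mul, hψ1, map_zero, zero_mul, zero_add, add_zero]) (by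
      intro a
      show (⟨a.p⁻¹ * a.p, a.u + φ (ψ a.p) * ψ a.p + a.u + φ (ψ a.p⁻¹) * ψ a.p⟩ : Tw P F) = ⟨1, 0⟩
      rw [inv_mul_cancel, hψinv]
      congr 1
      have h2 : (2 : F) = 0 := two_zero
      linear_combination (a.u + φ (ψ a.p) * ψ a.p) * h2)
  have hmulp : ∀ a b : Tw P F, (a * b).p = a.p * b.p := fun a b => rfl
  have hmulu : ∀ a b : Tw P F, (a * b).u = a.u + b.u + φ (ψ a.p) * ψ b.p := fun a b => rfl
  have hinvp : ∀ a : Tw P F, (a⁻¹).p = a.p⁻¹ := fun a => rfl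
  have hinvu : ∀ a : Tw P F, (a⁻¹).u = a.u + φ (ψ a.p) * ψ a.p := fun a => rfl
  have hext : ∀ a b : Tw P F, a.p = b.p → a.u = b.u → a = b := by
    rintro ⟨p, u⟩ ⟨q, v⟩ h1 h2
    simp only at h1 h2
    rw [h1, h2]
  have hcent : ∀ a b : Tw P F, a.p ∈ Z → a * b = b * a := by
    intro a b ha
    apply hext
    · rw [hmulp, hmulp, hZc _ ha]
    · rw [hmulu, hmulu, (hψ0 _).mpr ha, map_zero]; ring
  let Δ : Subgroup (Tw P F) :=
    { carrier := {d | d.p ∈ Z ∧ d.u = lg d.p}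
      one_mem' := ⟨Z.one_mem, hlg1.symm⟩
      mul_mem' := by
        rintro a b ⟨ha1, ha2⟩ ⟨hb1, hb2⟩
        refine ⟨Z.mul_mem ha1 hb1, ?_⟩
        rw [hmulu, hmulp, hlg _ ha1 _ hb1, ha2, hb2, (hψ0 _).mpr hb1, mul_zero, add_zero]
      inv_mem' := by
        rintro a ⟨ha1, ha2⟩
        refine ⟨Z.inv_mem ha1, ?_⟩
        rw [hinvu, hinvp, (hψ0 _).mpr ha1, mul_zero, add_zero, ha2]
        have h1 := hlg _ ha1 _ (Z.inv_mem ha1)
        rw [mul_inv_cancel, hlg1] at h1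
        exact eq_of_add h1.symm }
  haveI hΔn : Δ.Normal := by
    refine ⟨fun a ha g => ?_⟩
    rw [← hcent a g ha.1, mul_inv_cancel_right]
    exact ha
  have hv : ∀ v : Tw P F ⧸ Δ, v * v = 1 := by
    intro v
    obtain ⟨x, rfl⟩ := QuotientGroup.mk'_surjective Δ v
    rw [← map_mul]
    refine (QuotientGroup.eq_one_iff _).mpr ⟨hsqZ x.p, ?_⟩
    rw [hmulu, hmulp, hsq]
    have h2 : (2 : F) = 0 := two_zero
    linear_combination x.u * h2
  letI cg : CommGroup (Tw P F ⧸ Δ) := { (inferInstance : Group (Tw P F ⧸ Δ)) with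
    mul_comm := fun v w => by
      have h1 := hv (v * w)
      have h2 : (v * w) * (v * w) * (w * v) = v * w * (v * (w * w) * v) := by group
      rw [h1, hv w, mul_one, hv v, one_mul, mul_one] at h2
      exact h2.symm }
  let W₀ : Subgroup (Tw P F) :=
    { carrier := {d | d.p ∈ Z}
      one_mem' := Z.one_mem
      mul_mem' := fun {a b} ha hb => Z.mul_mem ha hb
      inv_mem' := fun {a} ha => Z.inv_mem ha }
  obtain ⟨π, hπ1, hπ2⟩ := CfsgLib.H7Masch.exists_retract (V := Tw P F ⧸ Δ) (p := 2) (fun v => by rw [pow_two, hv]) (W₀.map (QuotientGroup.mk' Δ))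
  -- the value of a class in `W`
  have hval : ∀ a b : Tw P F, a.p ∈ Z → b.p ∈ Z → QuotientGroup.mk' Δ a = QuotientGroup.mk' Δ b → a.u + lg a.p = b.u + lg b.p := by
    intro a b ha hb h
    have h1 : a⁻¹ * b ∈ Δ := QuotientGroup.eq.mp h
    obtain ⟨h2, h3⟩ := h1
    rw [hmulu, hmulp, hinvu, hinvp, (hψ0 _).mpr ha, (hψ0 _).mpr hb, mul_zero, mul_zero, add_zero, add_zero, hlg _ (Z.inv_mem ha) _ hb] at h3
    have h4 := hlg _ ha _ (Z.inv_mem ha)
    rw [mul_inv_cancel, hlg1] at h4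
    have h2 : (2 : F) = 0 := two_zero
    linear_combination h3 - h4 - b.u * h2
  let val : (Tw P F ⧸ Δ) → F := fun w => if h : ∃ a : Tw P F, a.p ∈ Z ∧ QuotientGroup.mk' Δ a = w then h.choose.u + lg h.choose.p else 0
  have hvalmk : ∀ a : Tw P F, a.p ∈ Z → val (QuotientGroup.mk' Δ a) = a.u + lg a.p := by
    intro a ha
    have hex : ∃ b : Tw P F, b.p ∈ Z ∧ QuotientGroup.mk' Δ b = QuotientGroup.mk' Δ a := ⟨a, ha, rfl⟩
    have h1 : val (QuotientGroup.mk' Δ a) = hex.choose.u + lg hex.choose.p := dif_pos hex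
    rw [h1]
    exact hval _ _ hex.choose_spec.1 ha hex.choose_spec.2
  have hvalmul : ∀ v ∈ W₀.map (QuotientGroup.mk' Δ), ∀ w ∈ W₀.map (QuotientGroup.mk' Δ), val (v * w) = val v + val w := by
    rintro _ ⟨a, ha, rfl⟩ _ ⟨b, hb, rfl⟩
    rw [← map_mul, hvalmk _ (Z.mul_mem ha hb), hvalmk a ha, hvalmk b hb, hmulu, hmulp, hlg _ ha _ hb, (hψ0 _).mpr hb]; ring
  let f : P → F := fun p => val (π (QuotientGroup.mk' Δ ⟨p, 0⟩))
  refine ⟨f, ?_, ?_⟩
  · intro x y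
    have h1 : (⟨x, 0⟩ : Tw P F) * ⟨y, 0⟩ = ⟨x * y, 0⟩ * ⟨1, φ (ψ x) * ψ y⟩ := by
      apply hext
      · rw [hmulp, hmulp]; simp
      · rw [hmulu, hmulu]; simp [hψ1]
    have h2 : val (π (QuotientGroup.mk' Δ (⟨x, 0⟩ * ⟨y, 0⟩))) = f x + f y := by
      rw [map_mul, map_mul, hvalmul _ (hπ1 _) _ (hπ1 _)]
    have h3 : val (π (QuotientGroup.mk' Δ ((⟨x * y, 0⟩ : Tw P F) * ⟨1, φ (ψ x) * ψ y⟩))) = f (x * y) + φ (ψ x) * ψ y := by
      rw [map_mul, map_mul, hvalmul _ (hπ1 _) _ (hπ1 _)]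
      congr 1
      have h4 : QuotientGroup.mk' Δ (⟨1, φ (ψ x) * ψ y⟩ : Tw P F) ∈ W₀.map (QuotientGroup.mk' Δ) := ⟨_, Z.one_mem, rfl⟩
      rw [hπ2 _ h4, hvalmk _ Z.one_mem]
      show φ (ψ x) * ψ y + lg 1 = _
      rw [hlg1, add_zero]
    rw [h1, h3] at h2
    have h4 : (2 : F) = 0 := two_zero
    linear_combination h2 - (φ (ψ x) * ψ y) * h4
  · intro z hz
    have h4 : QuotientGroup.mk' Δ (⟨z, 0⟩ : Tw P F) ∈ W₀.map (QuotientGroup.mk' Δ) := ⟨_, hz, rfl⟩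
    show val (π (QuotientGroup.mk' Δ ⟨z, 0⟩)) = lg z
    rw [hπ2 _ h4, hvalmk _ hz]
    exact zero_add _

/-- the matrices of type A -/
theorem typeA_mul {F : Type} [Field F] (φ : F →+* F) (x y x' y' : F) :
    (!![1, 0, 0; x, 1, 0; y, φ x, 1] : Matrix (Fin 3) (Fin 3) F) * !![1, 0, 0; x', 1, 0; y', φ x', 1] = !![1, 0, 0; x + x', 1, 0; y + y' + φ x * x', φ (x + x'), 1] := by
  ext i j
  fin_cases i <;> fin_cases j <;> simp [Matrix.mul_apply, Fin.sum_univ_three] <;> ring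

theorem exists_typeA {P : Type u} [Group P] {F : Type} [Field F] [Finite F] [Algebra (ZMod 2) F] (Z : Subgroup P) (hZc : ∀ z ∈ Z, ∀ g : P, z * g = g * z)
    (ψ : P → F) (hψ : ∀ x y, ψ (x * y) = ψ x + ψ y) (hψ0 : ∀ x, ψ x = 0 ↔ x ∈ Z) (hψs : Function.Surjective ψ) (φ : F →+* F)
    (lg : P → F) (hlg : ∀ x ∈ Z, ∀ y ∈ Z, lg (x * y) = lg x + lg y) (hlgi : ∀ x ∈ Z, lg x = 0 → x = 1) (hlgs : ∀ w, ∃ z ∈ Z, lg z = w)
    (hsqZ : ∀ x, x * x ∈ Z) (hsq : ∀ x, lg (x * x) = φ (ψ x) * ψ x) :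
    Nonempty (P ≃* Cfsg.suzukiTypeA F φ) := by
  classical
  obtain ⟨f, hf, hfz⟩ := exists_cocycle Z hZc ψ hψ hψ0 φ lg hlg hsqZ hsq
  have hψ1 : ψ 1 = 0 := (hψ0 1).mpr Z.one_mem
  have hf1 : f 1 = 0 := by
    have h1 := hf 1 1
    rw [mul_one, hψ1, mul_zero, add_zero] at h1
    exact left_eq_add.mp h1
  let Θ₀ : P →* Matrix (Fin 3) (Fin 3) F :=
    { toFun := fun p => !![1, 0, 0; ψ p, 1, 0; f p, φ (ψ p), 1]
      map_one' := by
        rw [hψ1, hf1, map_zero]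
        ext i j
        fin_cases i <;> fin_cases j <;> simp
      map_mul' := fun x y => by
        rw [typeA_mul, hψ, hf] }
  let Θ : P →* Matrix.GeneralLinearGroup (Fin 3) F := Θ₀.toHomUnits
  have hΘ : ∀ p, ((Θ p : Matrix.GeneralLinearGroup (Fin 3) F) : Matrix (Fin 3) (Fin 3) F) = !![1, 0, 0; ψ p, 1, 0; f p, φ (ψ p), 1] := fun p => rfl
  have hinj : Function.Injective Θ := by
    rw [injective_iff_map_eq_one]
    intro p hp
    have h1 : (!![1, 0, 0; ψ p, 1, 0; f p, φ (ψ p), 1] : Matrix (Fin 3) (Fin 3) F) = 1 := by rw [← hΘ, hp]; rfl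
    have h2 : ψ p = 0 := by
      have := congrFun (congrFun h1 1) 0
      simpa using this
    have h3 : f p = 0 := by
      have := congrFun (congrFun h1 2) 0
      simpa using this
    have h4 := (hψ0 p).mp h2
    rw [hfz p h4] at h3
    exact hlgi p h4 h3
  have hrange : Θ.range = Cfsg.suzukiTypeA F φ := by
    apply le_antisymm
    · rintro _ ⟨p, rfl⟩
      exact Subgroup.subset_closure ⟨ψ p, f p, hΘ p⟩
    · refine (Subgroup.closure_le _).mpr ?_
      rintro g ⟨x, y, hg⟩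
      obtain ⟨p, hp⟩ := hψs x
      obtain ⟨z, hz, hzz⟩ := hlgs (y - f p)
      refine ⟨p * z, ?_⟩
      apply Units.ext
      show (!![1, 0, 0; ψ (p * z), 1, 0; f (p * z), φ (ψ (p * z)), 1] : Matrix (Fin 3) (Fin 3) F) = g
      rw [hg, hψ, hf, (hψ0 z).mpr hz, hfz z hz, hzz, hp]
      congr 1
      ext i j
      fin_cases i <;> fin_cases j <;> simp
  exact ⟨(MonoidHom.ofInjective hinj).trans (MulEquiv.subgroupCongr hrange)⟩

theorem sum_split {F : Type} [Field F] [Algebra (ZMod 2) F] (φ : F ≃ₐ[ZMod 2] F) (x : F) (m : ℕ) :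
    ∑ i ∈ Finset.range m, ((φ ^ (2 * i)) x + (φ ^ (2 * i + 1)) x) = ∑ i ∈ Finset.range (2 * m), (φ ^ i) x := by
  induction m with
  | zero => simp
  | succ m ih =>
    rw [Finset.sum_range_succ, ih, show 2 * (m + 1) = 2 * m + 1 + 1 by ring, Finset.sum_range_succ, Finset.sum_range_succ]
    ring

/-- an automorphism `φ` with `w φ(w) = 1 → w = 1` has odd order -/
theorem odd_order {F : Type} [Field F] [Fintype F] [Algebra (ZMod 2) F] (φ : F ≃ₐ[ZMod 2] F) (h : ∀ w : F, w * φ w = 1 → w = 1) : Odd (orderOf φ) := by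
  classical
  by_contra hodd
  rw [Nat.not_odd_iff_even] at hodd
  obtain ⟨m, hm⟩ := hodd
  have hm2 : orderOf φ = 2 * m := by omega
  have hmpos : 0 < m := by
    have := orderOf_pos φ
    omega
  have hpow : ∀ i (x : F), (φ ^ (i + 1)) x = φ ((φ ^ i) x) := fun i x => by rw [pow_succ']; rfl
  -- an element of `Fix(φ²)` not in `Fix(φ)`
  obtain ⟨u, hu1, hu2⟩ : ∃ u : F, φ (φ u) = u ∧ φ u ≠ u := by
    by_contra hcon
    push Not at hcon
    have h1 : ∀ x : F, ∑ i ∈ Finset.range (2 * m), (φ ^ i) x = 0 := by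
      intro x
      set u := ∑ i ∈ Finset.range m, (φ ^ (2 * i)) x with hu
      have h2 : φ u = ∑ i ∈ Finset.range m, (φ ^ (2 * i + 1)) x := by
        rw [hu, map_sum]
        exact Finset.sum_congr rfl fun i _ => (hpow _ _).symm
      have h3 : φ (φ u) = u := by
        rw [h2, map_sum, hu]
        have h4 : ∀ i, φ ((φ ^ (2 * i + 1)) x) = (φ ^ (2 * (i + 1))) x := fun i => by
          rw [← hpow]; ring_nf
        rw [Finset.sum_congr rfl fun i _ => h4 i]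
        have h5 := Finset.sum_range_succ' (fun i => (φ ^ (2 * i)) x) m
        have h6 := Finset.sum_range_succ (fun i => (φ ^ (2 * i)) x) m
        rw [h5] at h6
        have h7 : (φ ^ (2 * m)) x = (φ ^ (2 * 0)) x := by rw [← hm2, pow_orderOf_eq_one, mul_zero, pow_zero]
        rw [h7] at h6
        exact add_right_cancel h6
      have h4 := hcon u h3
      have h5 : u + φ u = ∑ i ∈ Finset.range (2 * m), (φ ^ i) x := by
        rw [h2, hu, ← Finset.sum_add_distrib, sum_split φ x m]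
      rw [← h5, h4]
      exact add_self u
    have h2 := sum_unique (c := fun σ : F ≃ₐ[ZMod 2] F => ∑ i ∈ Finset.range (2 * m), if φ ^ i = σ then 1 else 0) (by
      intro x
      refine Eq.trans ?_ (h1 x)
      simp only [Finset.sum_mul, ite_mul, one_mul, zero_mul]
      rw [Finset.sum_comm]
      exact Finset.sum_congr rfl fun i _ => by rw [Finset.sum_ite_eq]; simp)
    have h3 := congrFun h2 1
    have h4 : ∑ i ∈ Finset.range (2 * m), (if φ ^ i = 1 then (1 : F) else 0) = 1 := by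
      rw [Finset.sum_eq_single 0]
      · rw [pow_zero, if_pos rfl]
      · intro i hi hi0
        rw [if_neg]
        intro h5
        have h6 := orderOf_dvd_of_pow_eq_one h5
        rw [hm2] at h6
        have h7 := Nat.le_of_dvd (Nat.pos_of_ne_zero hi0) h6
        rw [Finset.mem_range] at hi
        omega
      · intro h5
        exact absurd (Finset.mem_range.mpr (by omega)) h5
    have h5 : ∑ i ∈ Finset.range (2 * m), (if φ ^ i = 1 then (1 : F) else 0) = 0 := h3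
    rw [h4] at h5
    exact one_ne_zero h5
  have hu0 : u ≠ 0 := by
    rintro rfl
    exact hu2 (map_zero φ)
  have hφu0 : φ u ≠ 0 := (map_ne_zero φ).mpr hu0
  have h1 := h (u * (φ u)⁻¹) (by
    rw [map_mul, map_inv₀, hu1]
    field_simp)
  exact hu2 ((mul_inv_eq_one₀ hφu0).mp h1).symm

end CfsgLib.Szk
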