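import Cfsg.Agent.EqBase
import Cfsg.Agent.LibSzk11
/-!
# Suzuki 2-groups XII: groups of order q^2 are of type A (helper16)
-/
set_option autoImplicit false
set_option linter.all false
namespace CfsgLib.Szk

universe u v

theorem orderOf_ringEquiv {F : Type} [Field F] [Algebra (ZMod 2) F] (φ : F ≃ₐ[ZMod 2] F) : orderOf (φ : F ≃+* F) = orderOf φ := by
  let f : (F ≃ₐ[ZMod 2] F) →* (F ≃+* F) :=
    { toFun := fun σ => (σ : F ≃+* F)
      map_one' := rfl
      map_mul' := fun _ _ => rfl }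
  have hf : Function.Injective f := by
    intro σ τ h
    ext x
    exact congrArg (fun g : F ≃+* F => g x) h
  exact orderOf_injective f hf φ

theorem Suz.typeA {P : Type u} {K : Type v} [Group P] [Finite P] [CommGroup K] [MulDistribMulAction K P] (S : Suz P K) (hna : ∃ x y : P, x * y ≠ y * x)
    (hq : Nat.card P = Nat.card S.Z ^ 2) : ∃ (F : Type) (_ : Field F) (_ : Fintype F) (φ : F ≃+* F), Fintype.card F = Nat.card S.Z ∧
      φ ≠ RingEquiv.refl F ∧ Odd (orderOf φ) ∧ Nonempty (P ≃* Cfsg.suzukiTypeA F (φ : F →+* F)) := by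
  classical
  obtain ⟨F, iF, iFF, iA, ⟨C⟩⟩ := S.exists_crd
  obtain ⟨ψ, φ, a, ha, hψ, hψ0, hψs, hlog, hφ, hφ1⟩ := S.typeA_data hna hq C
  refine ⟨F, iF, iFF, (φ : F ≃+* F), ?_, ?_, ?_, ?_⟩
  · rw [← Nat.card_eq_fintype_card]
    exact Nat.card_congr (Equiv.ofBijective (fun z => (⟨C.φ z, C.sq z⟩ : S.Z)) ⟨fun x y h => C.inj (congrArg Subtype.val h),
      fun u => by obtain ⟨z, hz⟩ := C.surj u u.2; exact ⟨z, Subtype.ext hz⟩⟩)
  · intro h
    apply hφ
    ext x
    exact congrArg (fun g : F ≃+* F => g x) h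
  · rw [orderOf_ringEquiv]
    exact odd_order φ hφ1
  · refine exists_typeA S.Z (fun z hz g => S.Z_comm hz g) ψ hψ hψ0 hψs _ (fun u => a⁻¹ * C.log u) ?_ ?_ ?_ (S.sq_mem hna) ?_
    · intro x hx y hy
      show a⁻¹ * C.log (x * y) = _
      rw [C.log_mul hx hy, mul_add]
    · intro x hx h
      exact (C.log_eq_zero hx).mp ((mul_eq_zero.mp h).resolve_left (inv_ne_zero ha))
    · intro w
      refine ⟨C.φ (a * w), C.sq _, ?_⟩
      show a⁻¹ * C.log (C.φ (a * w)) = w
      rw [C.log_φ, inv_mul_cancel_left₀ ha]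
    · intro x
      show a⁻¹ * C.log (x * x) = _
      rw [hlog, inv_mul_cancel_left₀ ha, mul_comm]; rfl

end CfsgLib.Szk
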