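import Cfsg.Agent.EqBase
import Cfsg.Agent.LibZas15
import Cfsg.Agent.LibZas16
import Cfsg.Agent.LibS3T8
/-!
# Zassenhaus groups XVII: coordinates (helper16)
-/
set_option autoImplicit false
set_option linter.all false
open Cfsg MulAction OnePoint
open scoped Pointwise MatrixGroups
namespace CfsgLib.Zas

universe u v

/-- coordinates for the kernel and the two-point stabilizer -/
structure Coord (G : Type u) (Ω : Type v) [Group G] [MulAction G Ω] (a b : Ω) (H : Subgroup G) (F : Type) [Field F] where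
  φ : F → G
  κ : EE G a b →* F
  mem : ∀ z, φ z ∈ H
  surj : ∀ u ∈ H, ∃ z, φ z = u
  inj : Function.Injective φ
  add : ∀ x y, φ (x + y) = φ x * φ y
  conj : ∀ (x : EE G a b) (z : F), (x : G) * φ z * (x : G)⁻¹ = φ (κ x * z)

namespace Dat
variable {G : Type u} {Ω : Type v} [Group G] [MulAction G Ω] [Finite G] [Fintype Ω] {a b : Ω} {H : Subgroup G} (D : Dat G Ω a b H)
include D

theorem sub_irr (hc : ∀ x ∈ H, ∀ y ∈ H, x * y = y * x) (hbig : Nat.card H - 1 ≤ 2 * Nat.card (EE G a b)) {Z : Subgroup G} (hZH : Z ≤ H)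
    (hn : ∀ x ∈ EE G a b, ∀ z ∈ Z, x * z * x⁻¹ ∈ Z) : Z = ⊥ ∨ Z = H := by
  have F := D.tif.fro
  have hZL : Z ≤ stabilizer G a := hZH.trans D.hHa
  have h1 : (Z.subgroupOf (stabilizer G a)).Normal := by
    refine ⟨fun z hz g => ?_⟩
    obtain ⟨u, hu, x, hx, hux⟩ := D.decomp (b := b) (show (g : G) • a = a from g.2)
    show (g : G) * z * (g : G)⁻¹ ∈ Z
    rw [hux]
    have h2 := hn x hx z hz
    have h3 : u * x * z * (u * x)⁻¹ = u * (x * z * x⁻¹) * u⁻¹ := by group
    rw [h3, hc u hu _ (hZH h2), mul_inv_cancel_right]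
    exact h2
  have h2 := CfsgLib.Coh.index_dvd_central F.cent h1 (fun z hz => hZH hz) (by
    intro z hz k hk
    exact Subtype.ext (hc z (hZH hz) k hk))
  rw [D.index_eq, Nat.card_congr (Subgroup.subgroupOfEquivOfLe hZL).toEquiv] at h2
  have h3 := Subgroup.card_dvd_of_le hZH
  have h4 := D.two_le_EE
  have h5 : 0 < Nat.card Z := Nat.card_pos
  have h6 := D.two_le_H
  obtain ⟨k, hk⟩ := h2
  obtain ⟨m, hm⟩ := h3
  obtain ⟨j, hj⟩ := D.card_EE_dvd
  set e := Nat.card (EE G a b) with he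
  have hk' : Nat.card Z = e * k + 1 := by omega
  have hj' : Nat.card H = e * j + 1 := by omega
  have hj2 : j ≤ 2 := by
    by_contra h
    push Not at h
    have : e * 3 ≤ e * j := Nat.mul_le_mul_left _ h
    omega
  have hkj : k ≤ j := by
    have h7 : Nat.card Z ≤ Nat.card H := Nat.le_of_dvd (by omega) ⟨m, hm⟩
    rw [hk', hj'] at h7
    exact Nat.le_of_mul_le_mul_left (by omega) (show 0 < e by omega)
  rcases Nat.eq_zero_or_pos k with rfl | hk0
  · left
    rw [mul_zero, zero_add] at hk'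
    exact Subgroup.card_eq_one.mp hk'
  · right
    have hkj' : k = j := by
      by_contra hne
      have hk1 : k = 1 := by omega
      have hj1 : j = 2 := by omega
      rw [hj', hk', hk1, hj1] at hm
      have hm1 : m = 0 ∨ m = 1 ∨ 2 ≤ m := by omega
      rcases hm1 with rfl | rfl | h
      · omega
      · omega
      · have : (e * 1 + 1) * 2 ≤ (e * 1 + 1) * m := Nat.mul_le_mul_left _ h
        omega
    apply Subgroup.eq_of_le_of_card_ge hZH
    rw [hk', hj', hkj']

theorem exists_coord (hc : ∀ x ∈ H, ∀ y ∈ H, x * y = y * x) (hbig : Nat.card H - 1 ≤ 2 * Nat.card (EE G a b))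
    (hE : ∀ x ∈ EE G a b, ∀ y ∈ EE G a b, x * y = y * x) : ∃ (F : Type) (_ : Field F) (_ : Fintype F), Nonempty (Coord G Ω a b H F) := by
  classical
  letI cg : CommGroup H := { (inferInstance : Group H) with mul_comm := fun x y => Subtype.ext (hc x x.2 y y.2) }
  let ρ : EE G a b →* AddMonoid.End (Additive H) :=
    { toFun := fun x =>
        { toFun := fun u => Additive.ofMul ⟨(x : G) * (u.toMul : G) * (x : G)⁻¹, D.conj_H x.2.1 u.toMul.2⟩
          map_zero' := by
            apply Additive.toMul.injective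
            apply Subtype.ext
            show (x : G) * 1 * (x : G)⁻¹ = 1
            group
          map_add' := fun u w => by
            apply Additive.toMul.injective
            apply Subtype.ext
            show (x : G) * ((u.toMul : G) * (w.toMul : G)) * (x : G)⁻¹ = ((x : G) * u.toMul * (x : G)⁻¹) * ((x : G) * w.toMul * (x : G)⁻¹)
            group }
      map_one' := by
        apply AddMonoidHom.ext
        intro u
        apply Additive.toMul.injective
        apply Subtype.ext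
        show (1 : G) * (u.toMul : G) * (1 : G)⁻¹ = u.toMul
        group
      map_mul' := fun x y => by
        apply AddMonoidHom.ext
        intro u
        apply Additive.toMul.injective
        apply Subtype.ext
        show ((x : G) * y) * (u.toMul : G) * ((x : G) * y)⁻¹ = (x : G) * ((y : G) * u.toMul * (y : G)⁻¹) * (x : G)⁻¹
        group }
  have hρ : ∀ (x : EE G a b) (u : H), (((ρ x (Additive.ofMul u)).toMul : H) : G) = (x : G) * u * (x : G)⁻¹ := fun x u => rfl
  obtain ⟨v, hv, hv1⟩ := (Subgroup.bot_or_exists_ne_one H).resolve_left D.H_ne_bot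
  have hirr : ∀ B : AddSubgroup (Additive H), (∀ x : EE G a b, ∀ u ∈ B, ρ x u ∈ B) → B = ⊥ ∨ B = ⊤ := by
    intro B hB
    let Z : Subgroup G :=
      { carrier := {g | ∃ h : g ∈ H, Additive.ofMul (⟨g, h⟩ : H) ∈ B}
        one_mem' := ⟨H.one_mem, B.zero_mem⟩
        mul_mem' := by
          rintro x y ⟨h1, h2⟩ ⟨h3, h4⟩
          exact ⟨H.mul_mem h1 h3, B.add_mem h2 h4⟩
        inv_mem' := by
          rintro x ⟨h1, h2⟩
          exact ⟨H.inv_mem h1, B.neg_mem h2⟩ }
    have hmemZ : ∀ u : H, (u : G) ∈ Z ↔ Additive.ofMul u ∈ B := fun u => ⟨fun ⟨_, h⟩ => h, fun h => ⟨u.2, h⟩⟩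
    rcases D.sub_irr hc hbig (Z := Z) (fun x ⟨h, _⟩ => h) (by
      rintro x hx z ⟨hz, hzB⟩
      exact ⟨D.conj_H hx.1 hz, hB ⟨x, hx⟩ _ hzB⟩) with h | h
    · left
      rw [eq_bot_iff]
      intro u hu
      have h1 : ((u.toMul : H) : G) ∈ Z := (hmemZ u.toMul).mpr hu
      rw [h, Subgroup.mem_bot] at h1
      rw [AddSubgroup.mem_bot]
      apply Additive.toMul.injective
      exact Subtype.ext h1
    · right
      rw [eq_top_iff]
      intro u _
      exact (hmemZ u.toMul).mp (by rw [h]; exact u.toMul.2)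
  obtain ⟨F, iF, iFt, φ, κ, -, hφκ⟩ := exists_field (A := Additive H) ρ (fun x y => Subtype.ext (hE x x.2 y y.2)) hirr (Additive.ofMul ⟨v, hv⟩) (by
    intro h
    apply hv1
    have h1 : (⟨v, hv⟩ : H) = 1 := h
    exact congrArg (fun z : H => (z : G)) h1)
  refine ⟨F, iF, iFt, ⟨{
    φ := fun z => ((φ z).toMul : H)
    κ := κ
    mem := fun z => ((φ z).toMul : H).2
    surj := fun u hu => ⟨φ.symm (Additive.ofMul ⟨u, hu⟩), by rw [AddEquiv.apply_symm_apply]; rfl⟩
    inj := fun x y h => φ.injective (Additive.toMul.injective (Subtype.ext h))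
    add := fun x y => by rw [map_add]; rfl
    conj := fun x z => by rw [← hφκ]; rfl }⟩⟩

end Dat

namespace Coord
variable {G : Type u} {Ω : Type v} [Group G] [MulAction G Ω] [Finite G] [Fintype Ω] {a b : Ω} {H : Subgroup G} {F : Type} [Field F] [Fintype F]
  (C : Coord G Ω a b H F) (D : Dat G Ω a b H)
include C D

theorem φ_zero : C.φ 0 = 1 := by
  have h1 := C.add 0 0
  rw [add_zero] at h1
  exact (mul_eq_left.mp h1.symm)

theorem κ_ne (x : EE G a b) : C.κ x ≠ 0 := by
  intro h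
  have h1 : C.κ x * C.κ x⁻¹ = 1 := by rw [← map_mul, mul_inv_cancel, map_one]
  rw [h, zero_mul] at h1
  exact zero_ne_one h1

theorem card_F : Fintype.card F = Nat.card H := by
  rw [← Nat.card_eq_fintype_card]
  exact Nat.card_congr (Equiv.ofBijective (fun z => (⟨C.φ z, C.mem z⟩ : H)) ⟨fun x y h => C.inj (congrArg (fun z : H => (z : G)) h),
    fun u => by
      obtain ⟨z, hz⟩ := C.surj u u.2
      exact ⟨z, Subtype.ext hz⟩⟩)

theorem κ_inj : Function.Injective C.κ := by
  rw [injective_iff_map_eq_one]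
  intro x hx
  by_contra hx1
  have h1 := C.conj x 1
  rw [hx, mul_one] at h1
  have h2 : C.φ 1 = 1 := by
    apply D.fpf x.2.1 (D.not_mem_H x.2 (fun h => hx1 (Subtype.ext h))) (C.mem 1)
    calc (x : G) * C.φ 1 = ((x : G) * C.φ 1 * (x : G)⁻¹) * x := by group
      _ = C.φ 1 * x := by rw [h1]
  rw [← C.φ_zero D] at h2
  exact one_ne_zero (C.inj h2)

/-- the point with coordinate `x` -/
noncomputable def pt (x : F) : Ω := C.φ x • b

omit D [Fintype F] in
theorem pt_def (x : F) : C.pt x = C.φ x • b := rfl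

theorem pt_zero : C.pt 0 = b := by rw [pt_def, C.φ_zero D, one_smul]

theorem φ_a (x : F) : C.φ x • a = a := D.hHa (C.mem x)

theorem pt_ne (x : F) : C.pt x ≠ a := by
  intro h
  exact D.hab (MulAction.injective (C.φ x) ((C.φ_a D x).trans (Eq.symm h)))

theorem pt_inj : Function.Injective C.pt := by
  intro x y h
  rw [pt_def, pt_def] at h
  apply C.inj
  have h1 : ((C.φ y)⁻¹ * C.φ x) • b = b := by rw [mul_smul, h, inv_smul_smul]
  have h2 := D.inj (H.mul_mem (H.inv_mem (C.mem y)) (C.mem x)) D.hab.symm h1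
  exact (inv_mul_eq_one.mp h2).symm

theorem pt_surj {c : Ω} (hc : c ≠ a) : ∃ x, C.pt x = c := by
  obtain ⟨u, hu, hub⟩ := D.regular (Ne.symm D.hab) hc
  obtain ⟨z, hz⟩ := C.surj u hu
  exact ⟨z, by rw [pt_def, hz, hub]⟩

omit D [Fintype F] in
theorem φ_pt (x y : F) : C.φ x • C.pt y = C.pt (x + y) := by
  rw [pt_def, pt_def, C.add, mul_smul]

omit D [Fintype F] in
theorem E_pt (x : EE G a b) (y : F) : (x : G) • C.pt y = C.pt (C.κ x * y) := by
  rw [pt_def, pt_def, ← C.conj, mul_smul, mul_smul]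
  congr 2
  have : (x : G) • b = b := x.2.2
  rw [eq_inv_smul_iff, this]

/-- the coordinate map -/
noncomputable def chart : Ω ≃ OnePoint F :=
  letI : DecidableEq Ω := Classical.decEq Ω
  (Equiv.optionSubtypeNe a).symm.trans (Equiv.optionCongr
    (Equiv.ofBijective (fun x : F => (⟨C.pt x, C.pt_ne D x⟩ : {c : Ω // c ≠ a}))
      ⟨fun x y h => C.pt_inj D (congrArg Subtype.val h), fun c => by
        obtain ⟨x, hx⟩ := C.pt_surj D c.2
        exact ⟨x, Subtype.ext hx⟩⟩).symm)

theorem chart_a : C.chart D a = ∞ := by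
  letI : DecidableEq Ω := Classical.decEq Ω
  show (Equiv.optionCongr _) ((Equiv.optionSubtypeNe a).symm a) = _
  rw [Equiv.optionSubtypeNe_symm_self]
  rfl

theorem chart_pt (x : F) : C.chart D (C.pt x) = (x : OnePoint F) := by
  letI : DecidableEq Ω := Classical.decEq Ω
  show (Equiv.optionCongr _) ((Equiv.optionSubtypeNe a).symm (C.pt x)) = _
  rw [Equiv.optionSubtypeNe_symm_of_ne (C.pt_ne D x)]
  show (Option.some _ : Option F) = Option.some x
  congr 1
  rw [Equiv.symm_apply_eq]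
  rfl

theorem chart_b : C.chart D b = ((0 : F) : OnePoint F) := by
  have := C.chart_pt D 0
  rwa [C.pt_zero D] at this

theorem cases (c : Ω) : c = a ∨ ∃ x, c = C.pt x := by
  by_cases h : c = a
  · exact Or.inl h
  · obtain ⟨x, hx⟩ := C.pt_surj D h
    exact Or.inr ⟨x, hx.symm⟩

variable [DecidableEq F]

theorem good_φ (x : F) : CfsgLib.S3T8.Good (C.chart D) (C.φ x) := by
  obtain ⟨h, h1, h2⟩ := CfsgLib.S3T8.exists_affine (1 : F) x one_ne_zero
  refine ⟨h, fun c => ?_⟩
  rcases C.cases D c with rfl | ⟨y, rfl⟩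
  · rw [C.φ_a D, C.chart_a D, h1]
  · rw [C.φ_pt, C.chart_pt D, C.chart_pt D, h2, mul_one, add_comm]

theorem good_E (x : EE G a b) : CfsgLib.S3T8.Good (C.chart D) (x : G) := by
  obtain ⟨h, h1, h2⟩ := CfsgLib.S3T8.exists_affine (C.κ x) 0 (C.κ_ne D x)
  refine ⟨h, fun c => ?_⟩
  rcases C.cases D c with rfl | ⟨y, rfl⟩
  · have : (x : G) • c = c := x.2.1
    rw [this, C.chart_a D, h1]
  · rw [C.E_pt, C.chart_pt D, C.chart_pt D, h2, add_zero, mul_comm]

theorem good_stab {g : G} (hg : g • a = a) : CfsgLib.S3T8.Good (C.chart D) g := by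
  obtain ⟨u, hu, x, hx, rfl⟩ := D.decomp (b := b) hg
  obtain ⟨z, rfl⟩ := C.surj u hu
  exact (C.good_φ D z).mul (C.good_E D ⟨x, hx⟩)

theorem good_all {s : G} (hs : s • a = b) (hgs : CfsgLib.S3T8.Good (C.chart D) s) (g : G) : CfsgLib.S3T8.Good (C.chart D) g := by
  by_cases hg : g • a = a
  · exact C.good_stab D hg
  · obtain ⟨u, hu, hub⟩ := D.regular hg (Ne.symm D.hab)
    obtain ⟨z, rfl⟩ := C.surj u hu
    have h1 : (s⁻¹ * (C.φ z * g)) • a = a := by rw [mul_smul, mul_smul, hub, ← hs, inv_smul_smul]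
    have h2 : g = (C.φ z)⁻¹ * (s * (s⁻¹ * (C.φ z * g))) := by group
    rw [h2]
    exact (C.good_φ D z).inv.mul (hgs.mul (C.good_stab D h1))

theorem good_s {s : G} (hs : s • a = b ∧ s • b = a) {c : F} (hc : c ≠ 0) (hsc : ∀ x : F, x ≠ 0 → s • C.pt x = C.pt (c / x)) : CfsgLib.S3T8.Good (C.chart D) s := by
  obtain ⟨h, h1, h2⟩ := CfsgLib.S3T8.exists_affine c 0 hc
  obtain ⟨k, k1, k2, k3⟩ := CfsgLib.S3T8.exists_inversion F
  refine ⟨h * k, fun y => ?_⟩
  rw [mul_smul]
  rcases C.cases D y with rfl | ⟨x, rfl⟩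
  · rw [hs.1, C.chart_a D, k1, h2, C.chart_b D, zero_mul, zero_add]
  · by_cases hx : x = 0
    · rw [hx, C.pt_zero D, hs.2, C.chart_a D, C.chart_b D, k2, h1]
    · rw [hsc x hx, C.chart_pt D, C.chart_pt D, k3 x hx, h2, add_zero, div_eq_mul_inv, mul_comm]

end Coord
end CfsgLib.Zas
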