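import Cfsg.Agent.EqBase
import Cfsg.Agent.LibZas17
/-!
# Zassenhaus groups XVIII: the swapping element in coordinates (helper16)
-/
set_option autoImplicit false
set_option linter.all false
open Cfsg MulAction OnePoint
open scoped Pointwise MatrixGroups
namespace CfsgLib.Zas

universe u v

/-- in a finite field of odd order every element is a sum of two squares -/
theorem sum_two_sq {F : Type} [Field F] [Fintype F] (hodd : Fintype.card F % 2 = 1) (η : F) : ∃ x y : F, x ^ 2 + y ^ 2 = η := by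
  obtain ⟨x, y, h⟩ := FiniteField.exists_root_sum_quadratic (R := F) (f := Polynomial.X ^ 2) (g := Polynomial.X ^ 2 - Polynomial.C η)
    (Polynomial.degree_X_pow 2) (Polynomial.degree_X_pow_sub_C (by norm_num) η) hodd
  refine ⟨x, y, ?_⟩
  simp only [Polynomial.eval_pow, Polynomial.eval_X, Polynomial.eval_sub, Polynomial.eval_C] at h
  linear_combination h

namespace Coord
variable {G : Type u} {Ω : Type v} [Group G] [MulAction G Ω] [Finite G] [Fintype Ω] {a b : Ω} {H : Subgroup G} {F : Type} [Field F] [Fintype F]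
  (C : Coord G Ω a b H F) (D : Dat G Ω a b H)

/-- the image of the two-point stabilizer in the multiplicative group -/
def K : Subgroup Fˣ := C.κ.toHomUnits.range

omit [Finite G] [Fintype Ω] [Fintype F] in
theorem mem_K {z : Fˣ} : z ∈ C.K ↔ ∃ x : EE G a b, C.κ x = z := by
  constructor
  · rintro ⟨x, rfl⟩; exact ⟨x, rfl⟩
  · rintro ⟨x, hx⟩; exact ⟨x, Units.ext hx⟩

include D

theorem card_K : Nat.card C.K = Nat.card (EE G a b) := by
  have hinj : Function.Injective C.κ.toHomUnits := fun x y h => C.κ_inj D (congrArg (fun z : Fˣ => (z : F)) h)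
  exact (Nat.card_congr (MonoidHom.ofInjective hinj).toEquiv).symm

theorem index_K (h2 : 2 * Nat.card (EE G a b) + 1 = Nat.card H) : C.K.index = 2 := by
  classical
  have h3 := Subgroup.card_mul_index C.K
  rw [C.card_K D, Nat.card_eq_fintype_card (α := Fˣ), Fintype.card_units, C.card_F D, ← h2, Nat.add_sub_cancel, mul_comm 2] at h3
  exact Nat.eq_of_mul_eq_mul_left Nat.card_pos h3

section swap
variable {s : G} (hs : s • a = b ∧ s • b = a) (hss : s * s = 1) (hinv : ∀ x ∈ EE G a b, s * x * s⁻¹ = x⁻¹)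
include hs

theorem exists_t (z : Fˣ) : ∃ w : Fˣ, s • C.pt z = C.pt w := by
  have h1 : s • C.pt z ≠ a := by
    intro h
    have h2 : C.pt (z : F) = b := MulAction.injective s (h.trans hs.2.symm)
    have h3 : C.pt (z : F) = C.pt 0 := h2.trans (C.pt_zero D).symm
    exact z.ne_zero (C.pt_inj D h3)
  obtain ⟨w, hw⟩ := C.pt_surj D h1
  have hw0 : w ≠ 0 := by
    rintro rfl
    rw [C.pt_zero D] at hw
    have h3 : s • C.pt (z : F) = s • a := hw.symm.trans hs.1.symm
    exact C.pt_ne D _ (MulAction.injective s h3)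
  exact ⟨Units.mk0 w hw0, hw.symm⟩

/-- the swapping element in coordinates -/
noncomputable def t (z : Fˣ) : Fˣ := (C.exists_t D hs z).choose

theorem t_spec (z : Fˣ) : s • C.pt z = C.pt (C.t D hs z) := (C.exists_t D hs z).choose_spec

theorem t_eq {z w : Fˣ} (h : s • C.pt z = C.pt w) : C.t D hs z = w :=
  Units.ext (C.pt_inj D ((C.t_spec D hs z).symm.trans h))

include hss
theorem t_t (z : Fˣ) : C.t D hs (C.t D hs z) = z := by
  apply C.t_eq D hs
  rw [← C.t_spec D hs, ← mul_smul, hss, one_smul]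

include hinv
theorem t_κ (x : EE G a b) (z : Fˣ) : C.t D hs (C.κ.toHomUnits x * z) = (C.κ.toHomUnits x)⁻¹ * C.t D hs z := by
  apply C.t_eq D hs
  have h1 : C.pt ((C.κ.toHomUnits x * z : Fˣ) : F) = (x : G) • C.pt z := by rw [C.E_pt]; rfl
  have h2 : C.pt (((C.κ.toHomUnits x)⁻¹ * C.t D hs z : Fˣ) : F) = ((x⁻¹ : EE G a b) : G) • C.pt (C.t D hs z) := by
    rw [C.E_pt, ← map_inv]; rfl
  rw [h1, h2, ← C.t_spec D hs, ← mul_smul, ← mul_smul]
  congr 1
  have h3 := hinv x x.2
  show s * (x : G) = (x : G)⁻¹ * s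
  rw [← h3]; group

theorem t_of_not_mem (h2 : 2 * Nat.card (EE G a b) + 1 = Nat.card H) (h1 : C.t D hs 1 ∉ C.K) (z : Fˣ) : C.t D hs z = C.t D hs 1 / z := by
  have hidx := C.index_K D h2
  by_cases hz : z ∈ C.K
  · obtain ⟨x, rfl⟩ := hz
    have h3 := C.t_κ D hs hss hinv x 1
    rw [mul_one] at h3
    rw [h3, mul_comm, div_eq_mul_inv]
  · have h3 : z * (C.t D hs 1)⁻¹ ∈ C.K := by
      rw [Subgroup.mul_mem_iff_of_index_two hidx]
      exact ⟨fun h => absurd h hz, fun h => absurd (C.K.inv_mem_iff.mp h) h1⟩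
    obtain ⟨x, hx⟩ := h3
    have h4 : z = C.κ.toHomUnits x * C.t D hs 1 := by rw [hx, inv_mul_cancel_right]
    conv_lhs => rw [h4]
    rw [C.t_κ D hs hss hinv, C.t_t D hs hss, mul_one, hx, mul_inv_rev, inv_inv]; rfl

/-- the case of a swapping element without fixed points -/
theorem t_odd (h2 : 2 * Nat.card (EE G a b) + 1 = Nat.card H) (hodd : Odd (Nat.card (EE G a b))) (hfix : ∀ c : Ω, s • c ≠ c) (z : Fˣ) :
    C.t D hs z = C.t D hs 1 / z := by
  apply C.t_of_not_mem D hs hss hinv h2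
  rintro ⟨x, hx⟩
  obtain ⟨y, hy⟩ : ∃ y : EE G a b, y * y = x := by
    have h3 : Nat.Coprime (Nat.card (EE G a b)) 2 := (Nat.coprime_two_right).mpr hodd
    refine ⟨(powCoprime h3).symm x, ?_⟩
    have := (powCoprime h3).apply_symm_apply x
    rw [← pow_two]
    exact this
  have h3 : C.t D hs (C.κ.toHomUnits y) = C.κ.toHomUnits y := by
    have h4 := C.t_κ D hs hss hinv y 1
    rw [mul_one, ← hx, ← hy, map_mul, inv_mul_cancel_left] at h4
    exact h4
  have h4 := C.t_spec D hs (C.κ.toHomUnits y)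
  rw [h3] at h4
  exact hfix _ h4

/-- the case of a swapping element with fixed points, even two-point stabilizer -/
theorem t_even (h2 : 2 * Nat.card (EE G a b) + 1 = Nat.card H) (hev : Even (Nat.card (EE G a b))) {c : Ω} (hc : s • c = c) (z : Fˣ) :
    C.t D hs z = C.t D hs 1 / z := by
  classical
  have hidx := C.index_K D h2
  have hsqK : ∀ w : Fˣ, w * w ∈ C.K := fun w => by rw [Subgroup.mul_mem_iff_of_index_two hidx]
  -- `-1 ∈ K`
  have hneg : (-1 : Fˣ) ∈ C.K := by
    haveI := Fact.mk Nat.prime_two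
    obtain ⟨x, hx⟩ := exists_prime_orderOf_dvd_card' (G := C.K) 2 (by rw [C.card_K D]; exact hev.two_dvd)
    have h3 : (x : Fˣ) * x = 1 := by
      have : x ^ 2 = 1 := by rw [← hx, pow_orderOf_eq_one]
      rw [pow_two] at this
      exact congrArg (fun z : C.K => (z : Fˣ)) this
    have h4 : (x : Fˣ) ≠ 1 := by
      intro h
      have : x = 1 := Subtype.ext h
      rw [this, orderOf_one] at hx
      omega
    have h5 : ((x : Fˣ) : F) * ((x : Fˣ) : F) = 1 := by rw [← Units.val_mul, h3, Units.val_one]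
    rcases mul_self_eq_one_iff.mp h5 with h6 | h6
    · exact absurd (Units.ext h6) h4
    · have : (x : Fˣ) = -1 := Units.ext h6
      rw [← this]; exact x.2
  by_cases h1 : C.t D hs 1 ∈ C.K
  swap
  · exact C.t_of_not_mem D hs hss hinv h2 h1 z
  -- values on `K`
  have hK : ∀ w ∈ C.K, C.t D hs w = C.t D hs 1 / w := by
    rintro _ ⟨x, rfl⟩
    have h3 := C.t_κ D hs hss hinv x 1
    rw [mul_one] at h3
    rw [h3, mul_comm, div_eq_mul_inv]
  by_cases hz : z ∈ C.K
  · exact hK z hz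
  -- values off `K`
  set c₁ := C.t D hs 1 with hc₁
  set c₂ := z * C.t D hs z with hc₂
  have hoff : ∀ w, w ∉ C.K → C.t D hs w = c₂ / w := by
    intro w hw
    have h3 : w * z⁻¹ ∈ C.K := by
      rw [Subgroup.mul_mem_iff_of_index_two hidx]
      exact ⟨fun h => absurd h hw, fun h => absurd (C.K.inv_mem_iff.mp h) hz⟩
    obtain ⟨x, hx⟩ := h3
    have h4 : w = C.κ.toHomUnits x * z := by rw [hx, inv_mul_cancel_right]
    conv_lhs => rw [h4]
    rw [C.t_κ D hs hss hinv, hx, hc₂, div_eq_mul_inv, mul_inv_rev, inv_inv, mul_right_comm]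
  have htz : C.t D hs z ∉ C.K := by
    intro h
    apply hz
    have h3 := hK _ h
    rw [C.t_t D hs hss] at h3
    rw [h3, div_eq_mul_inv]
    exact C.K.mul_mem h1 (C.K.inv_mem h)
  have hc₂K : c₂ ∈ C.K := by
    rw [hc₂, Subgroup.mul_mem_iff_of_index_two hidx]
    exact ⟨fun h => absurd h hz, fun h => absurd h htz⟩
  suffices hcc : c₂ = c₁ by rw [hoff z hz, hcc]
  -- the key element
  set g : G := C.φ (-(c₁ : F)) * (s * (C.φ 1 * (s * C.φ ((C.t D hs (-1) : Fˣ) : F)))) with hg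
  have hga : g • a = b := by
    rw [hg, mul_smul, mul_smul, mul_smul, mul_smul, C.φ_a D, hs.1]
    have h3 : C.φ 1 • b = C.pt ((1 : Fˣ) : F) := rfl
    rw [h3, C.t_spec D hs, C.φ_pt, ← hc₁, neg_add_cancel, C.pt_zero D]
  have hsa : s • a = b := hs.1
  have hsb : s • b = a := hs.2
  have hgb : g • b = a := by
    rw [hg, mul_smul, mul_smul, mul_smul, mul_smul]
    have h3 : C.φ ((C.t D hs (-1) : Fˣ) : F) • b = C.pt ((C.t D hs (-1) : Fˣ) : F) := rfl
    rw [h3, C.t_spec D hs, C.t_t D hs hss, C.φ_pt]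
    have h4 : (1 : F) + ((-1 : Fˣ) : F) = 0 := by simp
    rw [h4, C.pt_zero D, hsb, C.φ_a D]
  have hy : g * s⁻¹ ∈ EE G a b := Dat.swap_mul ⟨hga, hgb⟩ (Dat.swap_inv hs)
  set y : EE G a b := ⟨g * s⁻¹, hy⟩ with hyd
  have hgy : ∀ w : Fˣ, g • C.pt w = C.pt (C.κ y * (C.t D hs w : F)) := by
    intro w
    rw [← C.E_pt, ← C.t_spec D hs, ← mul_smul]
    show g • _ = (g * s⁻¹ * s) • _
    rw [inv_mul_cancel_right]
  have ht1 : C.t D hs (-1) = -c₁ := by
    rw [hK _ hneg]
    apply Units.ext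
    rw [div_eq_mul_inv]; simp
  -- evaluation at `-t(-1) = c₁`
  have hκy : C.κ y = -(c₁ : F) := by
    have h3 := hgy c₁
    rw [hK c₁ h1, div_self'] at h3
    have h4 : g • C.pt (c₁ : F) = C.pt (-(c₁ : F)) := by
      rw [hg, mul_smul, mul_smul, mul_smul, mul_smul, C.φ_pt, ht1]
      have h5 : ((-c₁ : Fˣ) : F) + (c₁ : F) = 0 := by push_cast; ring
      rw [h5, C.pt_zero D, hsb, C.φ_a D, hsa]
      rfl
    rw [h4] at h3
    have h5 := C.pt_inj D h3
    rw [Units.val_one, mul_one] at h5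
    exact h5.symm
  -- a suitable point
  have hq : Fintype.card F % 2 = 1 := by
    rw [C.card_F D, ← h2]; omega
  obtain ⟨α, β, hαβ⟩ := sum_two_sq hq (z : F)
  have hα : α ≠ 0 := by
    rintro rfl
    have hβ : β ≠ 0 := by
      rintro rfl
      apply z.ne_zero
      rw [← hαβ]; ring
    apply hz
    have : z = Units.mk0 β hβ * Units.mk0 β hβ := Units.ext (by rw [← hαβ]; push_cast; simp; ring)
    rw [this]; exact hsqK _
  have hβ : β ≠ 0 := by
    rintro rfl
    apply hz
    have : z = Units.mk0 α hα * Units.mk0 α hα := Units.ext (by rw [← hαβ]; push_cast; simp; ring)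
    rw [this]; exact hsqK _
  set A := Units.mk0 α hα with hA
  set B := Units.mk0 β hβ with hB
  set r : Fˣ := -1 * ((A * B⁻¹) * (A * B⁻¹)) with hr
  have hrK : r ∈ C.K := C.K.mul_mem hneg (hsqK _)
  set r' : Fˣ := (-1 * (B⁻¹ * B⁻¹)) * z with hr'
  have hr'K : r' ∉ C.K := by
    rw [hr', Subgroup.mul_mem_iff_of_index_two hidx]
    intro h
    exact hz (h.mp (C.K.mul_mem hneg (hsqK _)))
  have hrr : (r : F) - 1 = r' := by
    rw [hr, hr']
    push_cast
    rw [hA, hB, Units.val_mk0, Units.val_mk0, ← hαβ]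
    field_simp
    ring
  -- `w₁ = c₁ (r - 1)`
  set w₁ : Fˣ := c₁ * r' with hw₁
  have hw₁K : w₁ ∉ C.K := by
    rw [hw₁, Subgroup.mul_mem_iff_of_index_two hidx]
    intro h
    exact hr'K (h.mp h1)
  have hw₂ : (1 : F) + (c₂ : F) / (w₁ : F) ≠ 0 := by
    intro h
    apply hw₁K
    have h3 : w₁ = -1 * c₂ := by
      apply Units.ext
      push_cast
      have hw0 : (w₁ : F) ≠ 0 := w₁.ne_zero
      field_simp at h
      linear_combination h
    rw [h3]
    exact C.K.mul_mem hneg hc₂K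
  set w₂ : Fˣ := Units.mk0 _ hw₂ with hw₂d
  have hev1 : g • C.pt ((c₁ * r : Fˣ) : F) = C.pt (-(c₁ : F) + (C.t D hs w₂ : F)) := by
    rw [hg, mul_smul, mul_smul, mul_smul, mul_smul, C.φ_pt, ht1]
    have h5 : ((-c₁ : Fˣ) : F) + ((c₁ * r : Fˣ) : F) = (w₁ : F) := by
      rw [hw₁]; push_cast; rw [← hrr]; ring
    rw [h5, C.t_spec D hs, hoff w₁ hw₁K, C.φ_pt]
    have h6 : (1 : F) + ((c₂ / w₁ : Fˣ) : F) = (w₂ : F) := by rw [hw₂d, Units.val_mk0]; push_cast; rfl
    rw [h6, C.t_spec D hs, C.φ_pt]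
  have hev2 := hgy (c₁ * r)
  rw [hev1, hK _ (C.K.mul_mem h1 hrK), hκy] at hev2
  have hkey := C.pt_inj D hev2
  have hr0 : (r : F) ≠ 0 := r.ne_zero
  have hr'0 : (r' : F) ≠ 0 := r'.ne_zero
  have hc10 : (c₁ : F) ≠ 0 := c₁.ne_zero
  have hw20 : (w₂ : F) ≠ 0 := w₂.ne_zero
  have hw2v : (w₂ : F) * ((c₁ : F) * r') = (c₁ : F) * r' + c₂ := by
    rw [hw₂d, Units.val_mk0, hw₁]; push_cast; field_simp
  -- the common consequence
  have hfin : ∀ c' : Fˣ, C.t D hs w₂ = c' / w₂ → (c' : F) * r = c₂ + c₁ * r' := by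
    intro c' hc'
    rw [hc'] at hkey
    push_cast at hkey
    have h3 : (c' : F) * r = (c₁ : F) * r' * w₂ := by
      field_simp at hkey
      linear_combination (r : F) * 0 + hkey + (c₁ : F) * w₂ * hrr
    rw [h3]
    linear_combination hw2v
  have hgoal : (c₂ : F) = c₁ := by
    by_cases hw2K : w₂ ∈ C.K
    · have h3 := hfin c₁ (hK _ hw2K)
      linear_combination -h3 + (c₁ : F) * hrr
    · have h3 := hfin c₂ (hoff _ hw2K)
      have h4 : ((c₂ : F) - c₁) * r' = 0 := by linear_combination h3 - (c₂ : F) * hrr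
      rcases mul_eq_zero.mp h4 with h5 | h5
      · linear_combination h5
      · exact absurd h5 hr'0
  exact Units.ext hgoal

end swap
end Coord
end CfsgLib.Zas
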