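import Cfsg.Agent.EqBase
import Cfsg.Agent.LibZas18
import Cfsg.Agent.LibDkH29
/-!
# Zassenhaus groups XIX: identification with PSL(2,q) (helper16)
-/
set_option autoImplicit false
set_option linter.all false
open Cfsg MulAction OnePoint
open scoped Pointwise MatrixGroups
namespace CfsgLib.Zas

universe u v

namespace Coord
variable {G : Type u} {Ω : Type v} [Group G] [MulAction G Ω] [Finite G] [Fintype Ω] {a b : Ω} {H : Subgroup G} {F : Type} [Field F] [Fintype F] [DecidableEq F]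
  (C : Coord G Ω a b H F) (D : Dat G Ω a b H)
include D

theorem exists_hom (hgood : ∀ g : G, CfsgLib.S3T8.Good (C.chart D) g) : ∃ Φ : G →* PGL(2, F), Function.Injective Φ := by
  haveI := D.hZ.1
  choose φ hφ using hgood
  have hext : ∀ h k : PGL(2, F), (∀ x : OnePoint F, h • x = k • x) → h = k := fun h k hk =>
    CfsgLib.Dk29.pgl_ext h k (hk _) (hk _) (hk _)
  let Φ : G →* PGL(2, F) := MonoidHom.mk' φ (by
    intro g k
    apply hext
    intro x
    obtain ⟨y, rfl⟩ := (C.chart D).surjective x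
    rw [← hφ, mul_smul, hφ, hφ, mul_smul])
  have hΦ : ∀ g x, (C.chart D) (g • x) = Φ g • (C.chart D) x := hφ
  refine ⟨Φ, ?_⟩
  rw [injective_iff_map_eq_one]
  intro g hg
  apply FaithfulSMul.eq_of_smul_eq_smul (α := Ω)
  intro x
  apply (C.chart D).injective
  rw [hΦ, hg, one_smul, one_smul]

theorem psl (h2 : 2 * Nat.card (EE G a b) + 1 = Nat.card H) (hgood : ∀ g : G, CfsgLib.S3T8.Good (C.chart D) g) :
    Nonempty (G ≃* Matrix.ProjectiveSpecialLinearGroup (Fin 2) F) := by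
  obtain ⟨Φ, hΦ⟩ := C.exists_hom D hgood
  have hq := C.card_F D
  have h3 : Nat.card Φ.range = Nat.card G := Nat.card_congr (MonoidHom.ofInjective hΦ).toEquiv.symm
  have h4 := Subgroup.card_mul_index Φ.range
  have he := D.two_le_EE
  have hh := D.two_le_H
  rw [h3, D.card_G, CfsgLib.Dk29.card_PGL, hq, ← D.hcard] at h4
  have h5 : Φ.range.index = 2 := by
    have h6 : Nat.card H - 1 = 2 * Nat.card (EE G a b) := by omega
    rw [h6] at h4
    have h7 : (Nat.card H + 1) * (Nat.card H * Nat.card (EE G a b)) * Φ.range.index =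
        (Nat.card H + 1) * (Nat.card H * Nat.card (EE G a b)) * 2 := by rw [h4]; ring
    exact Nat.eq_of_mul_eq_mul_left (by positivity) h7
  have h6 := CfsgLib.Dk29.eq_LL_of_index_two (by rw [hq, ← h2]; exact ⟨_, rfl⟩) Φ.range h5
  exact ⟨((MonoidHom.ofInjective hΦ).trans (MulEquiv.subgroupCongr h6)).trans CfsgLib.Dk29.pslEquivLL.symm⟩

end Coord

namespace Dat
variable {G : Type u} {Ω : Type v} [Group G] [MulAction G Ω] [Finite G] [Fintype Ω] {a b : Ω} {H : Subgroup G} (D : Dat G Ω a b H)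
include D

theorem psl_of_swap (h2 : 2 * Nat.card (EE G a b) + 1 = Nat.card H) {s : G} (hs : s • a = b ∧ s • b = a) (hss : s * s = 1)
    (hinv : ∀ x ∈ EE G a b, s * x * s⁻¹ = x⁻¹)
    (hc : (Even (Nat.card (EE G a b)) ∧ ∃ c : Ω, s • c = c) ∨ (Odd (Nat.card (EE G a b)) ∧ ∀ c : Ω, s • c ≠ c)) :
    ∃ (F : Type) (_ : Field F) (_ : Fintype F), Fintype.card F = Nat.card H ∧ Nonempty (G ≃* Matrix.ProjectiveSpecialLinearGroup (Fin 2) F) := by
  classical
  have hbig : Nat.card H - 1 ≤ 2 * Nat.card (EE G a b) := by omega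
  obtain ⟨F, hF, hFF, ⟨C⟩⟩ := D.exists_coord (D.big_elem hbig).1 hbig (comm_of_inv hinv)
  refine ⟨F, hF, hFF, C.card_F D, C.psl D h2 (C.good_all D hs.1 ?_)⟩
  have ht : ∀ z : Fˣ, C.t D hs z = C.t D hs 1 / z := by
    rcases hc with ⟨he, c, hc⟩ | ⟨he, hc⟩
    · exact C.t_even D hs hss hinv h2 he hc
    · exact C.t_odd D hs hss hinv h2 he hc
  refine C.good_s D hs (c := ((C.t D hs 1 : Fˣ) : F)) (Units.ne_zero _) ?_
  intro x hx
  have h3 := C.t_spec D hs (Units.mk0 x hx)
  rw [ht] at h3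
  rw [Units.val_mk0] at h3
  rw [h3]
  congr 1
  rw [Units.val_div_eq_div_val, Units.val_mk0]

/-- two-point stabilizers of even order, half the maximal size -/
theorem psl_even (hev : Even (Nat.card (EE G a b))) (h2 : 2 * Nat.card (EE G a b) + 1 = Nat.card H) :
    ∃ (F : Type) (_ : Field F) (_ : Fintype F), Fintype.card F = Nat.card H ∧ Nonempty (G ≃* Matrix.ProjectiveSpecialLinearGroup (Fin 2) F) := by
  classical
  have h5 := D.half hev h2
  have h6 : ∀ s : G, (s • a = b ∧ s • b = a) → s * s = 1 := fun s hs => by rw [← pow_two, ← (h5 s hs).1, pow_orderOf_eq_one]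
  obtain ⟨s, hs⟩ := two_trans D.hZ D.hab D.hab.symm
  refine D.psl_of_swap h2 hs (h6 s hs) (inv_of_all h6 hs) (Or.inl ⟨hev, ?_⟩)
  have h7 := (h5 s hs).2
  have h8 : 0 < Nat.card (fixedBy Ω s) := by omega
  obtain ⟨⟨c, hc⟩⟩ := (Nat.card_pos_iff.mp h8).1
  exact ⟨c, hc⟩

/-- two-point stabilizers of odd order, half the maximal size, simple -/
theorem psl_odd (hS : IsSimpleGroup G) (hodd : Odd (Nat.card (EE G a b))) (h2 : 2 * Nat.card (EE G a b) + 1 = Nat.card H) :
    ∃ (F : Type) (_ : Field F) (_ : Fintype F), Fintype.card F = Nat.card H ∧ Nonempty (G ≃* Matrix.ProjectiveSpecialLinearGroup (Fin 2) F) := by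
  classical
  have D' := D.toO hS hodd
  obtain ⟨s, hs⟩ := two_trans D.hZ D.hab D.hab.symm
  refine D.psl_of_swap h2 hs (D'.swap_sq hs) (D'.hinv s hs) (Or.inr ⟨hodd, ?_⟩)
  have h7 := D'.inv_fix_card (D'.swap_order hs)
  rw [if_neg (by rw [← h2, Nat.not_even_iff_odd]; exact ⟨_, rfl⟩)] at h7
  exact (D.fix_zero_iff).mp h7

/-- the sharply 3-transitive case -/
theorem sharp (he : Nat.card (EE G a b) + 1 = Nat.card H) (x y z x' y' z' : Ω) (hxy : x ≠ y) (hxz : x ≠ z) (hyz : y ≠ z)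
    (hxy' : x' ≠ y') (hxz' : x' ≠ z') (hyz' : y' ≠ z') : ∃ g : G, g • x = x' ∧ g • y = y' ∧ g • z = z' := by
  classical
  have htr : ∀ c d : Ω, c ≠ a → c ≠ b → d ≠ a → d ≠ b → ∃ g : G, g • a = a ∧ g • b = b ∧ g • c = d := by
    intro c d hca hcb hda hdb
    let f : EE G a b → {x : Ω // x ≠ a ∧ x ≠ b} := fun k => ⟨(k : G) • c, fun h => hca (MulAction.injective (k : G) (h.trans (Eq.symm k.2.1))),
      fun h => hcb (MulAction.injective (k : G) (h.trans (Eq.symm k.2.2)))⟩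
    have hf : Function.Injective f := by
      intro k k' h
      have h1 : (k : G) • c = (k' : G) • c := congrArg Subtype.val h
      have h2 : ((k : G)⁻¹ * k') • c = c := by rw [mul_smul, ← h1, inv_smul_smul]
      have h3 := ((EE G a b).mul_mem ((EE G a b).inv_mem k.2) k'.2)
      have h4 := D.hZ.2.2.1 ((k : G)⁻¹ * k') a b c D.hab (Ne.symm hcb) (Ne.symm hca) h3.1 h3.2 h2
      exact Subtype.ext (inv_mul_eq_one.mp h4)
    have hcard : Nat.card {x : Ω // x ≠ a ∧ x ≠ b} = Nat.card (EE G a b) := by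
      have h1 : Fintype.card {x : Ω // x ≠ a ∧ x ≠ b} = Fintype.card Ω - 2 := by
        have h2 : (Finset.univ.filter fun x : Ω => x ≠ a ∧ x ≠ b) = Finset.univ \ {a, b} := by
          ext x; simp [not_or]
        rw [Fintype.card_subtype, h2, Finset.card_sdiff_of_subset (Finset.subset_univ _), Finset.card_pair D.hab]; rfl
      rw [Nat.card_eq_fintype_card, h1, ← D.hcard, ← he]; omega
    have hsur : Function.Surjective f := (Function.Injective.bijective_of_nat_card_le hf (by rw [hcard])).2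
    obtain ⟨k, hk⟩ := hsur ⟨d, hda, hdb⟩
    exact ⟨k, k.2.1, k.2.2, congrArg Subtype.val hk⟩
  obtain ⟨g, hg⟩ := two_trans D.hZ hxy D.hab
  obtain ⟨g', hg'⟩ := two_trans D.hZ hxy' D.hab
  obtain ⟨k, hk⟩ := htr (g • z) (g' • z')
    (fun h => hxz (MulAction.injective g (hg.1.trans h.symm))) (fun h => hyz (MulAction.injective g (hg.2.trans h.symm)))
    (fun h => hxz' (MulAction.injective g' (hg'.1.trans h.symm))) (fun h => hyz' (MulAction.injective g' (hg'.2.trans h.symm)))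
  refine ⟨g'⁻¹ * (k * g), ?_, ?_, ?_⟩
  · rw [mul_smul, mul_smul, inv_smul_eq_iff, hg.1, hk.1, hg'.1]
  · rw [mul_smul, mul_smul, inv_smul_eq_iff, hg.2, hk.2.1, hg'.2]
  · rw [mul_smul, mul_smul, inv_smul_eq_iff, hk.2.2]

theorem sharp_free (g : G) (x y z : Ω) (hxy : x ≠ y) (hxz : x ≠ z) (hyz : y ≠ z) (h1 : g • x = x) (h2 : g • y = y) (h3 : g • z = z) : g = 1 :=
  D.hZ.2.2.1 g x y z hxy hyz hxz h1 h2 h3

end Dat
end CfsgLib.Zas
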