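import Cfsg.Agent.EqBase
import Cfsg.Agent.LibZas19
/-!
# Zassenhaus groups XX: abelian kernels (helper16)
-/
set_option autoImplicit false
set_option linter.all false
open Cfsg MulAction OnePoint
open scoped Pointwise MatrixGroups
namespace CfsgLib.Zas

universe u v

namespace Dat
variable {G : Type u} {Ω : Type v} [Group G] [MulAction G Ω] [Finite G] [Fintype Ω] {a b : Ω} {H : Subgroup G} (D : Dat G Ω a b H)
include D

theorem one_or_two (hbig : Nat.card H - 1 ≤ 2 * Nat.card (EE G a b)) : Nat.card (EE G a b) + 1 = Nat.card H ∨ 2 * Nat.card (EE G a b) + 1 = Nat.card H := by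
  obtain ⟨k, hk⟩ := D.card_EE_dvd
  have h3 := D.EE_lt
  have h4 := D.two_le_EE
  have h5 : Nat.card (EE G a b) * k ≤ 2 * Nat.card (EE G a b) := by omega
  have h6 : k ≤ 2 := by
    by_contra h
    push Not at h
    have : Nat.card (EE G a b) * 3 ≤ Nat.card (EE G a b) * k := Nat.mul_le_mul_left _ h
    omega
  have h7 : k ≠ 0 := by
    rintro rfl
    omega
  have h8 : k = 1 ∨ k = 2 := by omega
  rcases h8 with rfl | rfl
  · left; omega
  · right; omega

theorem simple_of_half (hc : ∀ x ∈ H, ∀ y ∈ H, x * y = y * x) (hodd : Odd (Nat.card (EE G a b))) (h2 : 2 * Nat.card (EE G a b) + 1 = Nat.card H) :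
    IsSimpleGroup G := by
  haveI hnt : Nontrivial G := by
    obtain ⟨x, -, hx⟩ := exists_EE D.hZ D.hab
    exact ⟨x, 1, hx⟩
  refine { eq_bot_or_eq_top_of_normal := fun N hN => ?_ }
  by_cases hN1 : N = ⊥
  · exact Or.inl hN1
  right
  have DN := D.restrict hN hN1
  obtain ⟨k, hk⟩ := card_EE_restrict (G := G) N a b
  have e := Subgroup.subgroupOfEquivOfLe (D.H_le_normal hN1)
  have hcH : Nat.card (H.subgroupOf N) = Nat.card H := Nat.card_congr e.toEquiv
  have h3 := DN.big_of_comm (fun x hx y hy => Subtype.ext (hc x hx y hy))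
  rw [hcH] at h3
  have h4 : Nat.card (EE G a b) ≤ Nat.card (EE N a b) := by omega
  have h5 : Nat.card (EE N a b) ≤ Nat.card (EE G a b) := Nat.le_of_dvd Nat.card_pos ⟨k, hk⟩
  have h6 : Nat.card (EE G a b) = Nat.card (EE N a b) := by omega
  apply Subgroup.eq_top_of_card_eq
  rw [D.card_G, DN.card_G, hcH, h6]

/-- abelian kernel: sharply 3-transitive or PSL(2,q), q odd -/
theorem abelian_case (hc : ∀ x ∈ H, ∀ y ∈ H, x * y = y * x) : Nat.card (EE G a b) + 1 = Nat.card H ∨
    (2 * Nat.card (EE G a b) + 1 = Nat.card H ∧ ∃ (F : Type) (_ : Field F) (_ : Fintype F), Fintype.card F = Nat.card H ∧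
      Nonempty (G ≃* Matrix.ProjectiveSpecialLinearGroup (Fin 2) F)) := by
  rcases D.one_or_two (D.big_of_comm hc) with h | h
  · exact Or.inl h
  · right
    refine ⟨h, ?_⟩
    rcases Nat.even_or_odd (Nat.card (EE G a b)) with he | he
    · exact D.psl_even he h
    · exact D.psl_odd (D.simple_of_half hc he h) he h

/-- simple, abelian kernel: PSL(2,q) -/
theorem simple_abelian (hS : IsSimpleGroup G) (hc : ∀ x ∈ H, ∀ y ∈ H, x * y = y * x) :
    ∃ (F : Type) (_ : Field F) (_ : Fintype F), Fintype.card F = Nat.card H ∧ Nonempty (G ≃* Matrix.ProjectiveSpecialLinearGroup (Fin 2) F) := by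
  classical
  rcases D.abelian_case hc with h | ⟨-, h⟩
  swap
  · exact h
  have hodd : Odd (Nat.card (EE G a b)) := by
    rw [← Nat.not_even_iff_odd]
    haveI := Fintype.ofFinite G
    exact fun hev => D.not_simple_of_sharp h hev hS
  obtain ⟨-, p, f, hp, -, hf⟩ := D.big_elem (D.big_of_comm hc)
  have hf0 : f ≠ 0 := by
    rintro rfl
    have := D.two_le_H
    rw [hf, pow_zero] at this; omega
  have hp2 : p = 2 := by
    have h1 : Even (p ^ f) := by rw [← hf, ← h]; exact hodd.add_one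
    have h2 : Even p := by
      by_contra h3
      rw [Nat.not_even_iff_odd] at h3
      exact (Nat.not_even_iff_odd.mpr (h3.pow (n := f))) h1
    exact (Nat.Prime.even_iff hp).mp h2
  subst hp2
  obtain ⟨F, iF, iFF, hcF, ⟨θ⟩⟩ := CfsgLib.S3T8.main (G := G) (Ω := Ω) (f := f) (by omega) (by rw [← D.hcard, hf]) (D.sharp h) D.sharp_free
  refine ⟨F, iF, iFF, by rw [hcF, hf], ?_⟩
  haveI : Finite PGL(2, F) := by
    unfold Matrix.ProjGenLinGroup; infer_instance
  have h3 : (CfsgLib.Dk29.LL F) = ⊤ := by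
    rw [← Subgroup.index_eq_one, CfsgLib.Dk29.index_LL, hcF]
    have h4 : Odd (2 ^ f - 1) := by
      have h5 : Even (2 ^ f) := Nat.even_pow.mpr ⟨even_two, hf0⟩
      have h6 : 0 < 2 ^ f := by positivity
      obtain ⟨k, hk⟩ := h5
      exact ⟨k - 1, by omega⟩
    exact (Nat.coprime_two_left).mpr h4
  exact ⟨((θ.trans Subgroup.topEquiv.symm).trans (MulEquiv.subgroupCongr h3.symm)).trans CfsgLib.Dk29.pslEquivLL.symm⟩

end Dat
end CfsgLib.Zas
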