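import Cfsg.Agent.EqBase
import Cfsg.Agent.LibZas20
import Cfsg.Agent.LibSzk12
/-!
# Zassenhaus groups XXI: kernels that are non-abelian 2-groups are Suzuki 2-groups (helper16)
-/
set_option autoImplicit false
set_option linter.all false
open Cfsg MulAction
open scoped Pointwise
namespace CfsgLib.Zas

universe u v

namespace DatO
variable {G : Type u} {Ω : Type v} [Group G] [MulAction G Ω]
variable [Finite G] [Fintype Ω] {a b : Ω} {H : Subgroup G} (D : DatO G Ω a b H)
include D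

theorem trans_inv {z z' : G} (hz : orderOf z = 2) (hza : z • a = a) (hz' : orderOf z' = 2) (hza' : z' • a = a) : ∃ x ∈ EE G a b, x * z * x⁻¹ = z' := by
  classical
  have hzH := D.inv_mem_H hz hza
  have hz1 : z ≠ 1 := by rintro rfl; rw [orderOf_one] at hz; omega
  have hev : Even (Nat.card H) := by
    have h1 : orderOf z ∣ Nat.card H := by
      have := orderOf_dvd_natCard (⟨z, hzH⟩ : H)
      rwa [Subgroup.orderOf_mk] at this
    rw [hz] at h1
    exact even_iff_two_dvd.mpr h1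
  let f : EE G a b → {x : G // orderOf x = 2 ∧ x • a = a} := fun x =>
    ⟨x * z * (x : G)⁻¹, (Cfsg.Agent.LibZG1.orderOf_conj _ _).trans hz, conj_fix x.2.1 hza⟩
  have hf : Function.Injective f := by
    intro x y hxy
    have h1 : (x : G) * z * (x : G)⁻¹ = y * z * (y : G)⁻¹ := congrArg Subtype.val hxy
    have h2 : ((y : G)⁻¹ * x) * z = z * ((y : G)⁻¹ * x) := by
      have h3 : ((y : G)⁻¹ * x) * z = (y : G)⁻¹ * ((x : G) * z * (x : G)⁻¹) * x := by group
      rw [h3, h1]; group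
    by_contra hne
    have h3 : ((y : G)⁻¹ * x) ∈ EE G a b := mul_mem (inv_mem y.2) x.2
    have h4 : ((y : G)⁻¹ * x) ≠ 1 := by
      intro h
      apply hne
      exact Subtype.ext (inv_mul_eq_one.mp h).symm
    exact hz1 (D.fpf h3.1 (D.not_mem_H h3 h4) hzH h2)
  have hsurj : Function.Surjective f := ((Nat.bijective_iff_injective_and_card f).mpr ⟨hf, (D.card_inv_H hev).symm⟩).2
  obtain ⟨x, hx⟩ := hsurj ⟨z', hz', hza'⟩
  exact ⟨x, x.2, congrArg Subtype.val hx⟩

end DatO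

/-- the two-point stabilizer as a type of operators -/
def KE (G : Type u) {Ω : Type v} [Group G] [MulAction G Ω] (a b : Ω) : Type u := ↥(EE G a b)

namespace DatO
variable {G : Type u} {Ω : Type v} [Group G] [MulAction G Ω]
variable [Finite G] [Fintype Ω] {a b : Ω} {H : Subgroup G} (D : DatO G Ω a b H)
include D

/-- the kernel as a Suzuki 2-group -/
theorem exists_suz (h2 : IsPGroup 2 H) : ∃ (iK : CommGroup (KE G a b)) (iA : MulDistribMulAction (KE G a b) H), 
    Szk.Suz H (KE G a b) ∧ (∀ (k : KE G a b) (x : H), ((k • x : H) : G) = k.1 * x * (k.1)⁻¹) ∧ (1 : KE G a b).1 = 1 := by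
  classical
  letI iK : CommGroup (KE G a b) := by
    haveI := D.hcyc
    exact (IsCyclic.commGroup : CommGroup (EE G a b))
  have hmul : ∀ k l : KE G a b, (k * l).1 = k.1 * l.1 := fun k l => rfl
  have hone : (1 : KE G a b).1 = 1 := rfl
  letI iA : MulDistribMulAction (KE G a b) H :=
    { smul := fun k x => ⟨k.1 * x * (k.1)⁻¹, D.conj_H k.2.1 x.2⟩
      one_smul := fun x => Subtype.ext (by show (1 : G) * x * (1 : G)⁻¹ = x; group)
      mul_smul := fun k l x => Subtype.ext (by show (k.1 * l.1) * x * (k.1 * l.1)⁻¹ = k.1 * (l.1 * x * (l.1)⁻¹) * (k.1)⁻¹; group)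
      smul_one := fun k => Subtype.ext (by show k.1 * 1 * (k.1)⁻¹ = 1; group)
      smul_mul := fun k x y => Subtype.ext (by show k.1 * (x * y) * (k.1)⁻¹ = (k.1 * x * (k.1)⁻¹) * (k.1 * y * (k.1)⁻¹); group) }
  have hsm : ∀ (k : KE G a b) (x : H), ((k • x : H) : G) = k.1 * x * (k.1)⁻¹ := fun k x => rfl
  refine ⟨iK, iA, ⟨h2, ?_, ?_, ?_, ?_⟩, hsm, hone⟩
  · intro k x hkx
    by_cases hk : k = 1
    · exact Or.inl hk
    right
    have hk' : k.1 ≠ 1 := fun h => hk (Subtype.ext h)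
    have h1 : k.1 * x * (k.1)⁻¹ = x := by rw [← hsm, hkx]
    have h3 : k.1 * x = x * k.1 := by
      conv_rhs => rw [← h1]
      group
    exact Subtype.ext (D.fpf k.2.1 (D.not_mem_H k.2 hk') x.2 h3)
  · intro x y hx1 hxx hy1 hyy
    have ho : ∀ x : H, x ≠ 1 → x * x = 1 → orderOf (x : G) = 2 := by
      intro x hx1 hxx
      haveI := Fact.mk Nat.prime_two
      apply orderOf_eq_prime
      · rw [pow_two]; exact congrArg Subtype.val hxx
      · exact fun h => hx1 (Subtype.ext h)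
    obtain ⟨k, hk, hkx⟩ := D.trans_inv (ho x hx1 hxx) (D.hHa x.2) (ho y hy1 hyy) (D.hHa y.2)
    exact ⟨⟨k, hk⟩, Subtype.ext hkx⟩
  · obtain ⟨x, hx, hx1⟩ := exists_EE D.hZ D.hab
    exact ⟨⟨x, hx⟩, fun h => hx1 (congrArg Subtype.val h)⟩
  · obtain ⟨x, hx, hx1⟩ := (Subgroup.bot_or_exists_ne_one H).resolve_left D.H_ne_bot
    exact ⟨⟨x, hx⟩, fun h => hx1 (congrArg Subtype.val h)⟩

end DatO

/-- Zassenhaus data with a non-abelian 2-group as kernel -/
structure DatS (G : Type u) (Ω : Type v) [Group G] [MulAction G Ω] [Fintype Ω] (a b : Ω) (H : Subgroup G) : Prop extends DatO G Ω a b H where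
  h2 : IsPGroup 2 H
  hna : ∃ x y : H, x * y ≠ y * x

namespace DatS
variable {G : Type u} {Ω : Type v} [Group G] [MulAction G Ω]
variable [Finite G] [Fintype Ω] {a b : Ω} {H : Subgroup G} (D : DatS G Ω a b H)
include D

theorem inv_cen {z : G} (hz : z * z = 1) (hza : z • a = a) {x : G} (hx : x ∈ H) : z * x = x * z := by
  by_cases hz1 : z = 1
  · rw [hz1, one_mul, mul_one]
  haveI := Fact.mk Nat.prime_two
  exact D.inv_central (orderOf_eq_prime (by rw [pow_two]; exact hz) hz1) hza hx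

theorem sq_sq {x : G} (hx : x ∈ H) : (x * x) * (x * x) = 1 := by
  obtain ⟨iK, iA, S, -, -⟩ := D.exists_suz D.h2
  have := S.sq_mem D.hna ⟨x, hx⟩
  exact congrArg Subtype.val this

theorem sq_cen {x y : G} (hx : x ∈ H) (hy : y ∈ H) : (x * x) * y = y * (x * x) :=
  D.inv_cen (D.sq_sq hx) (D.hHa (H.mul_mem hx hx)) hy

theorem card_even : Even (Nat.card H) := by
  haveI := Fact.mk Nat.prime_two
  obtain ⟨n, hn⟩ := IsPGroup.iff_card.mp D.h2
  have h1 := D.two_le_H
  rw [hn] at h1 ⊢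
  have : n ≠ 0 := by rintro rfl; rw [pow_zero] at h1; omega
  exact Nat.even_pow.mpr ⟨even_two, this⟩

/-- the subgroup of involutions of the kernel -/
def Z0 : Subgroup G where
  carrier := {x | x * x = 1 ∧ x • a = a}
  one_mem' := ⟨mul_one 1, one_smul G a⟩
  mul_mem' := by
    rintro x y ⟨hx, hxa⟩ ⟨hy, hya⟩
    have hyH : y ∈ H := by
      by_cases hy1 : y = 1
      · rw [hy1]; exact H.one_mem
      haveI := Fact.mk Nat.prime_two
      exact D.inv_mem_H (orderOf_eq_prime (by rw [pow_two]; exact hy) hy1) hya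
    refine ⟨?_, by rw [mul_smul, hya, hxa]⟩
    have h1 := D.inv_cen hx hxa hyH
    calc x * y * (x * y) = x * (y * x) * y := by group
      _ = x * (x * y) * y := by rw [h1]
      _ = (x * x) * (y * y) := by group
      _ = 1 := by rw [hx, hy, one_mul]
  inv_mem' := by
    rintro x ⟨hx, hxa⟩
    exact ⟨by rw [← mul_inv_rev, hx, inv_one], by rw [inv_smul_eq_iff, hxa]⟩

theorem mem_Z0 {x : G} : x ∈ D.Z0 ↔ x * x = 1 ∧ x • a = a := Iff.rfl

theorem Z0_le : D.Z0 ≤ H := by
  rintro x ⟨hx, hxa⟩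
  by_cases hx1 : x = 1
  · rw [hx1]; exact H.one_mem
  haveI := Fact.mk Nat.prime_two
  exact D.inv_mem_H (orderOf_eq_prime (by rw [pow_two]; exact hx) hx1) hxa

theorem card_Z0 : Nat.card D.Z0 = Nat.card (EE G a b) + 1 := by
  classical
  haveI := Fintype.ofFinite G
  haveI := Fact.mk Nat.prime_two
  have h1 := D.card_inv_H D.card_even
  have e : {x : D.Z0 // x ≠ 1} ≃ {x : G // orderOf x = 2 ∧ x • a = a} :=
    { toFun := fun x => ⟨x.1.1, orderOf_eq_prime (by rw [pow_two]; exact x.1.2.1) (fun h => x.2 (Subtype.ext h)), x.1.2.2⟩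
      invFun := fun x => ⟨⟨x.1, inv_mul_self_of_order_two x.2.1, x.2.2⟩, fun h => by
        have h3 : (x : G) = 1 := congrArg Subtype.val h
        have h4 := x.2.1
        rw [h3, orderOf_one] at h4
        omega⟩
      left_inv := fun x => rfl
      right_inv := fun x => rfl }
  rw [← h1, ← Nat.card_congr e, Nat.card_eq_fintype_card, Nat.card_eq_fintype_card, Fintype.card_subtype_compl, Fintype.card_subtype_eq]
  have : 0 < Fintype.card D.Z0 := Fintype.card_pos
  omega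

/-- the order of the kernel -/
theorem card_H : Nat.card H = (Nat.card (EE G a b) + 1) ^ 2 ∨ Nat.card H = (Nat.card (EE G a b) + 1) ^ 3 := by
  obtain ⟨iK, iA, S, -, -⟩ := D.exists_suz D.h2
  have h1 : Nat.card S.Z = Nat.card (EE G a b) + 1 := by
    rw [← D.card_Z0]
    apply Nat.card_congr
    exact
      { toFun := fun x => ⟨(x : H), congrArg Subtype.val x.2, D.hHa (x : H).2⟩
        invFun := fun x => ⟨⟨x.1, D.Z0_le x.2⟩, Subtype.ext x.2.1⟩
        left_inv := fun x => rfl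
        right_inv := fun x => rfl }
  rw [← h1]
  exact S.card_eq D.hna

theorem exists_n : ∃ n, Nat.card (EE G a b) + 1 = 2 ^ n := by
  haveI := Fact.mk Nat.prime_two
  obtain ⟨n, hn⟩ := IsPGroup.iff_card.mp (D.h2.to_le D.Z0_le)
  exact ⟨n, by rw [← D.card_Z0, hn]⟩

theorem four_le : 4 ≤ Nat.card (EE G a b) + 1 := by
  obtain ⟨n, hn⟩ := D.exists_n
  have h1 := D.two_le_EE
  have h2 : n ≠ 0 := by rintro rfl; rw [pow_zero] at hn; omega
  have h3 : n ≠ 1 := by rintro rfl; rw [pow_one] at hn; omega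
  rw [hn]
  calc 4 = 2 ^ 2 := by norm_num
    _ ≤ 2 ^ n := Nat.pow_le_pow_right (by norm_num) (by omega)

/-- elements commuting with an involution fixing `a` fix `a` -/
theorem cent_fix {z x : G} (hz : z ∈ D.Z0) (hz1 : z ≠ 1) (h : z * x = x * z) : x • a = a := by
  apply D.eq_a (D.Z0_le hz) hz1
  rw [← h, mul_inv_cancel_right]
  exact D.Z0_le hz

/-- elements of the kernel commuting with an element modulo the center -/
theorem fq {x u : G} (hx : x ∈ EE G a b) (hx1 : x ≠ 1) (hu : u ∈ H) (h : u⁻¹ * (x * u * x⁻¹) ∈ D.Z0) : u ∈ D.Z0 := by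
  obtain ⟨iK, iA, S, hsm, hone⟩ := D.exists_suz D.h2
  let k : KE G a b := ⟨x, hx⟩
  have h1 : (⟨u, hu⟩ : H)⁻¹ * (k • (⟨u, hu⟩ : H)) ∈ S.Z := by
    apply Subtype.ext
    have h3 : (((⟨u, hu⟩ : H)⁻¹ * (k • (⟨u, hu⟩ : H)) : H) : G) = u⁻¹ * (x * u * x⁻¹) := by
      rw [Subgroup.coe_mul, hsm]; rfl
    show (((⟨u, hu⟩ : H)⁻¹ * (k • (⟨u, hu⟩ : H)) : H) : G) * (((⟨u, hu⟩ : H)⁻¹ * (k • (⟨u, hu⟩ : H)) : H) : G) = 1
    rw [h3]
    exact h.1
  have h2 := S.fq S.Z_inv (k := k) (fun h => hx1 (by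
    have h4 : k.1 = (1 : KE G a b).1 := by rw [h]
    exact h4.trans hone)) h1
  exact ⟨congrArg Subtype.val h2, D.hHa hu⟩

end DatS
end CfsgLib.Zas
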